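import Mathlib
import Cfsg.Prelude.Def_GeometricClasses
import Cfsg.Agent.Lib.Helper40_OEven
import Cfsg.Agent.Lib.Helper40_OEvenModel
import Cfsg.Agent.Lib.Helper40_OClasses
import Cfsg.Agent.Lib.Helper40_OConj
import Cfsg.Agent.Lib.Helper40_QuadIso
import Cfsg.Agent.Lib.Helper40_QuadStd
import Cfsg.Agent.Lib.Helper40_SpPrimeOrder
import Cfsg.Agent.Lib.Helper40_PrimeOrderClasses
import Cfsg.Agent.Lib.Helper40_Palindromic
import Cfsg.Agent.Lib.Helper40_Semisimple
import Cfsg.Agent.Lib.Helper44_StdForms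
import Cfsg.Agent.Lib.Helper99_PrimeOrderSL
import Cfsg.Agent.Lib.Helper84_OTSDefs
import Cfsg.Agent.Lib.Helper43_OTS_OT
import Cfsg.Agent.Lib.Helper43_OTS_OB
import Cfsg.Agent.Lib.Helper75_SpTIBound
import Cfsg.Agent.Lib.Helper31_OrthTS_OE_odd

set_option autoImplicit false

/-!
Package OE_even of helper99's orthogonal core (S5973 / S5987): elements of odd prime order `r ≠ p`
of an even-dimensional orthogonal group with `A` elliptic atoms spread over as many types as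
possible, `i = ord_r(q)` even, with the bound for invariant totally singular subspaces of `[V, g]`
(all characteristics) (helper31).
-/

namespace Cfsg.Agent.Lib.Helper31_OrthTS_OE_even

open Polynomial Module Matrix
open Cfsg.Agent.Lib.Helper40_SpBasic Cfsg.Agent.Lib.Helper40_OConj
  Cfsg.Agent.Lib.Helper40_OConj.OData
  Cfsg.Agent.Lib.Helper40_OClasses
  Cfsg.Agent.Lib.Helper40_QuadIso Cfsg.Agent.Lib.Helper40_QuadStd
  Cfsg.Agent.Lib.Helper40_OEvenModel Cfsg.Agent.Lib.Helper40_OEven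
  Cfsg.Agent.Lib.Helper44_StdForms Cfsg.Agent.Lib.Helper40_SpPrimeOrder
  Cfsg.Agent.Lib.Helper40_Palindromic
  Cfsg.Agent.Lib.Helper99_PrimeOrderSL Cfsg.Agent.Lib.Helper84_OTSDefs

universe u

/-- the charpoly bound for invariant totally singular subspaces, in all characteristics
(helper43's `OB` without `2 ≠ 0`) -/
theorem bound {F : Type u} [Field F] [Fintype F] {p : ℕ} [Fact p.Prime] [CharP F p]
    {V : Type u} [AddCommGroup V] [Module F V] [FiniteDimensional F V]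
    {Q : QuadraticForm F V} {a : Module.End F V} {r : ℕ}
    (h : OData Q a r) (hQ : (pol Q).Nondegenerate) (hr : r.Prime) (hr2 : r ≠ 2) (hrp : r ≠ p)
    (hie : Even (orderOf ((Fintype.card F : ℕ) : ZMod r)))
    (w₀ : F[X]) (S : Finset F[X])
    (hw₀ : w₀.Monic ∧ Irreducible w₀ ∧ w₀ ≠ X - 1 ∧ w₀ ∣ X ^ r - 1)
    (hS : ∀ w ∈ S, w.Monic ∧ Irreducible w ∧ w ≠ X - 1 ∧ w ∣ X ^ r - 1) (hw₀S : w₀ ∉ S)
    (e₀ a₀ : ℕ) (hχ : a.charpoly = (X - 1) ^ e₀ * w₀ ^ a₀ * ∏ w ∈ S, w)
    {W : Submodule F V} (hW : Inv a W) (hWts : TSOn Q W) :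
    finrank F (W ⊓ comm a : Submodule F V) ≤
      orderOf ((Fintype.card F : ℕ) : ZMod r) * (a₀ / 2) := by
  classical
  have hK : ∀ x ∈ LinearMap.ker (a - 1), a x ∈ LinearMap.ker (a - 1) := by
    intro x hx
    rw [LinearMap.mem_ker, LinearMap.sub_apply, Module.End.one_apply, sub_eq_zero] at hx ⊢
    rw [hx, hx]
  set B' : LinearMap.BilinForm F (comm a) := (tw Q a r).restrict (comm a) with hB'def
  set T' : Module.End F (comm a) := a.restrict (inv_comm a) with hT'def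
  have hiso : IsoData B' T' r := h.isoData.restrict (inv_comm a)
  have hB' : B'.Nondegenerate := nondegenerate_restrict h.isoData (h.ndOn_tw hQ)
  have hT' : ∀ w : comm a, ((T' w : comm a) : V) = a (w : V) := fun w => rfl
  have hfix : ∀ w : comm a, T' w = w → w = 0 := by
    intro w hw
    apply Subtype.ext
    have h1 : a (w : V) = (w : V) := by
      have := congrArg (Subtype.val) hw
      exact this
    exact h.eq_zero_of_fixed _ w.2 h1
  have hcp : T'.charpoly * (X - 1) ^ finrank F (LinearMap.ker (a - 1)) = a.charpoly := by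
    rw [Cfsg.Agent.Lib.Helper40_Semisimple.charpoly_eq_mul_of_isCompl a (comm a)
      (LinearMap.ker (a - 1)) (inv_comm a) hK (Cfsg.Agent.Lib.Helper43_OTS_OT.isCompl_comm_ker h),
      Cfsg.Agent.Lib.Helper43_OTS_OT.charpoly_restrict_ker a hK]
  -- the characteristic polynomial of `T'`
  have hP : T'.charpoly.eval 1 ≠ 0 := by
    intro h0
    have h1 : T'.HasEigenvalue 1 := (Module.End.hasEigenvalue_iff_isRoot_charpoly T' 1).2 h0
    obtain ⟨w, hw⟩ := h1.exists_hasEigenvector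
    have h3 := hw.apply_eq_smul
    rw [one_smul] at h3
    exact hw.2 (hfix w h3)
  have hR : (w₀ ^ a₀ * ∏ w ∈ S, w).eval 1 ≠ 0 := by
    rw [eval_mul, eval_pow, eval_prod]
    refine mul_ne_zero (pow_ne_zero _
      (Cfsg.Agent.Lib.Helper43_OTS_OB.eval_one_ne_zero hw₀.1 hw₀.2.1 hw₀.2.2.1)) ?_
    rw [Finset.prod_ne_zero_iff]
    intro w hw
    exact Cfsg.Agent.Lib.Helper43_OTS_OB.eval_one_ne_zero (hS w hw).1 (hS w hw).2.1 (hS w hw).2.2.1
  have hcp' : T'.charpoly = (X - 1) ^ 0 * w₀ ^ a₀ * ∏ w ∈ S, w := by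
    rw [pow_zero, one_mul]
    apply Cfsg.Agent.Lib.Helper43_OTS_OB.cancel_X_sub_one hP hR
      (e := finrank F (LinearMap.ker (a - 1))) (e₀ := e₀)
    rw [hcp, hχ, mul_assoc]
  -- the subspace of `[V, a]`
  set W' : Submodule F (comm a) := (W ⊓ comm a).comap (comm a).subtype with hW'
  have hmap : W'.map (comm a).subtype = W ⊓ comm a := by
    rw [hW', Submodule.map_comap_eq, Submodule.range_subtype]
    exact inf_eq_right.2 inf_le_right
  have hinv : Inv T' W' := by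
    intro w hw
    rw [hW', Submodule.mem_comap] at hw ⊢
    show ((T' w : comm a) : V) ∈ W ⊓ comm a
    rw [hT']
    exact Submodule.mem_inf.2
      ⟨hW _ (Submodule.mem_inf.1 hw).1, inv_comm a _ (Submodule.mem_inf.1 hw).2⟩
  have hti : IsoOn B' W' := by
    intro w₁ hw₁ w₂ hw₂
    rw [hW', Submodule.mem_comap] at hw₁ hw₂
    have h1 : (w₁ : V) ∈ W := (Submodule.mem_inf.1 hw₁).1
    have h2 : (w₂ : V) ∈ W := (Submodule.mem_inf.1 hw₂).1
    have hdel : del a r (w₁ : V) ∈ W := by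
      show (a - a ^ (r - 1)) (w₁ : V) ∈ W
      rw [LinearMap.sub_apply]
      exact W.sub_mem (hW _ h1) (hW.pow_mem (r - 1) h1)
    show pol Q (del a r (w₁ : V)) (w₂ : V) = 0
    exact hWts.isoOn _ hdel _ h2
  have hdim : finrank F W' = finrank F (W ⊓ comm a : Submodule F V) := by
    rw [← hmap]
    exact (LinearEquiv.finrank_eq (Submodule.equivMapOfInjective (comm a).subtype
      (Submodule.injective_subtype _) W'))
  have hb := Cfsg.Agent.Lib.Helper75_SpTIBound.finrank_ti_le_of_charpoly hr hr2 hrp hie hiso hB'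
    w₀ S hw₀ hS hw₀S 0 a₀ hcp' hinv hti
  rw [hdim] at hb
  simpa using hb


variable {ι : Type} [Fintype ι] [DecidableEq ι]
variable {F : Type u} [Field F] [Fintype F] {p : ℕ} [Fact p.Prime] [CharP F p]

/-- OE_even: elements of order `r` with `A` elliptic atoms spread over as many types as possible,
`i = ord_r(q)` even, with the bound for invariant totally singular subspaces of `[V, g]`. -/
theorem OE_even (Q₀ : QuadraticForm F (ι → F)) (hQ₀ : (pol Q₀).Nondegenerate) (d : ℕ)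
    (hd : Fintype.card ι = 2 * d) {r : ℕ} (hr : r.Prime) (hr2 : r ≠ 2) (hrp : r ≠ p)
    (hi : Even (orderOf ((Fintype.card F : ℕ) : ZMod r))) (A : ℕ) (hA : 1 ≤ A)
    (hAd : orderOf ((Fintype.card F : ℕ) : ZMod r) * A ≤ 2 * d)
    (htype : orderOf ((Fintype.card F : ℕ) : ZMod r) * A = 2 * d → (IsHyp Q₀ ↔ Even A)) :
    ∃ g : ↥(Cfsg.isometryGroup F ⇑Q₀), g ^ r = 1 ∧
      finrank F (comm (Matrix.toLin' (mat Q₀ g))) = orderOf ((Fintype.card F : ℕ) : ZMod r) * A ∧
      ∀ W : Submodule F (ι → F), Inv (Matrix.toLin' (mat Q₀ g)) W → (∀ w ∈ W, Q₀ w = 0) →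
        finrank F ↥(W ⊓ comm (Matrix.toLin' (mat Q₀ g))) ≤
          orderOf ((Fintype.card F : ℕ) : ZMod r) *
            ((A + 1 - (r - 1) / orderOf ((Fintype.card F : ℕ) : ZMod r)) / 2) := by
  classical
  have hrodd : Odd r := hr.odd_of_ne_two hr2
  have hrF : ((r : ℕ) : F) ≠ 0 := natCast_ne_zero hr hrp
  obtain ⟨hipos, Wc, hWcard, hW1, -⟩ :=
    Cfsg.Agent.Lib.Helper40_PrimeOrderClasses.exists_cyclotomic_factors (F := F) p r hr hrp
  set i := orderOf ((Fintype.card F : ℕ) : ZMod r) with hidef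
  set t := (r - 1) / i with ht
  -- `t ≥ 1`
  have hq0 : ((Fintype.card F : ℕ) : ZMod r) ≠ 0 := by
    rw [Ne, ZMod.natCast_eq_zero_iff]
    intro h
    have hp : p.Prime := Fact.out
    obtain ⟨k, -, hk⟩ := FiniteField.card F p
    rw [hk] at h
    exact hrp ((Nat.prime_dvd_prime_iff_eq hr hp).1 (hr.dvd_of_dvd_pow h))
  have : Fact r.Prime := ⟨hr⟩
  have hedvd : i ∣ r - 1 := ZMod.orderOf_dvd_card_sub_one hq0
  have hpos : 0 < r - 1 := by have := hr.two_le; omega
  have ht1 : 1 ≤ t := Nat.div_pos (Nat.le_of_dvd hpos hedvd) hipos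
  -- the factors are self-reciprocal
  have hrev : ∀ w ∈ Wc, w.reverse = w := by
    intro w hw
    obtain ⟨hwm, hwi, hw1, hwd, -⟩ := hW1 w hw
    have hw0 : w.coeff 0 ≠ 0 := coeff_zero_ne_zero_of_dvd r hr.pos w hwd
    have hw11 : w.eval 1 ≠ 0 := eval_one_ne_zero w hwm hwi hw1
    have hrec : recip w = w := recip_eq_of_even p r i hr hidef hipos hi w hwm hwi hw1 hwd
    have hc0 : w.coeff 0 = 1 := coeff_zero_eq_one_of_recip_eq w hw0 hrec hw11
    exact reverse_eq_of_recip_eq w hc0 hrec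
  -- the choice of the types
  obtain ⟨w₀, hw₀W⟩ : ∃ w₀, w₀ ∈ Wc := Finset.card_pos.1 (by rw [hWcard]; exact ht1)
  set k := min (A - 1) (t - 1) with hk
  have hkcard : k ≤ (Wc.erase w₀).card := by
    rw [Finset.card_erase_of_mem hw₀W, hWcard]
    exact min_le_right _ _
  obtain ⟨S, hSsub, hScard⟩ := Finset.exists_subset_card_eq hkcard
  have hSW : ∀ w ∈ S, w ∈ Wc := fun w hw => Finset.mem_of_mem_erase (hSsub hw)
  have hw₀S : w₀ ∉ S := fun h => (Finset.mem_erase.1 (hSsub h)).1 rfl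
  set a₀ := A - k with ha₀
  have hkA : k + a₀ = A := by
    have : k ≤ A - 1 := min_le_left _ _
    omega
  have ha₀2 : a₀ / 2 = (A + 1 - t) / 2 := by
    rcases le_total (A - 1) (t - 1) with h | h
    · have : k = A - 1 := min_eq_left h
      have h1 : a₀ = 1 := by omega
      have h2 : A + 1 - t ≤ 1 := by omega
      rw [h1]
      omega
    · have : k = t - 1 := min_eq_right h
      have h1 : a₀ = A + 1 - t := by omega
      rw [h1]
  have hw₀' : w₀.Monic ∧ Irreducible w₀ ∧ w₀ ≠ X - 1 ∧ w₀ ∣ X ^ r - 1 := by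
    obtain ⟨h1, h2, h3, h4, -⟩ := hW1 w₀ hw₀W
    exact ⟨h1, h2, h3, h4⟩
  have hS' : ∀ w ∈ S, w.Monic ∧ Irreducible w ∧ w ≠ X - 1 ∧ w ∣ X ^ r - 1 := by
    intro w hw
    obtain ⟨h1, h2, h3, h4, -⟩ := hW1 w (hSW w hw)
    exact ⟨h1, h2, h3, h4⟩
  -- the polynomial
  have hiA : 1 ≤ i * A := Nat.mul_pos hipos hA
  have hd1 : 1 ≤ d := by omega
  set m := 2 * d - i * A with hm
  have hme : Even m := by
    rw [hm, Nat.even_sub hAd]
    exact ⟨fun _ => hi.mul_right A, fun _ => even_two_mul d⟩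
  have hX1 : ((X : F[X]) - 1) = X - C 1 := by rw [map_one]
  have hX1m : ((X : F[X]) - 1).Monic := by rw [hX1]; exact monic_X_sub_C 1
  set β : F[X] := w₀ ^ a₀ * ∏ w ∈ S, w with hβdef
  have hSm : (∏ w ∈ S, w).Monic := monic_prod_of_monic _ _ (fun w hw => (hS' w hw).1)
  have hβm : β.Monic := (hw₀'.1.pow a₀).mul hSm
  have hSdeg : (∏ w ∈ S, w).natDegree = k * i := by
    rw [natDegree_prod_of_monic _ _ (fun w hw => (hS' w hw).1),
      Finset.sum_congr rfl (fun w hw => (hW1 w (hSW w hw)).2.2.2.2), Finset.sum_const, hScard,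
      smul_eq_mul]
  have hβdeg : β.natDegree = i * A := by
    rw [hβdef, (hw₀'.1.pow a₀).natDegree_mul hSm, hw₀'.1.natDegree_pow, (hW1 w₀ hw₀W).2.2.2.2,
      hSdeg, ← hkA]
    ring
  have hβ1 : β.eval 1 ≠ 0 := by
    rw [hβdef, eval_mul, eval_pow, eval_prod]
    refine mul_ne_zero (pow_ne_zero _ (eval_one_ne_zero w₀ hw₀'.1 hw₀'.2.1 hw₀'.2.2.1)) ?_
    rw [Finset.prod_ne_zero_iff]
    intro w hw
    exact eval_one_ne_zero w (hS' w hw).1 (hS' w hw).2.1 (hS' w hw).2.2.1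
  set c : F[X] := (X - 1) ^ m * β with hc
  have hcm : c.Monic := (hX1m.pow m).mul hβm
  have hcdeg : c.natDegree = 2 * d := by
    rw [hc, (hX1m.pow m).natDegree_mul hβm, hX1m.natDegree_pow, hX1, natDegree_X_sub_C, hβdeg,
      mul_one]
    omega
  have hcrev : c.reverse = c := by
    rw [hc, reverse_mul_of_domain, reverse_X_sub_one_pow m hme, hβdef, reverse_mul_of_domain,
      reverse_pow', hrev w₀ hw₀W, reverse_prod']
    congr 2
    exact Finset.prod_congr rfl (fun w hw => hrev w (hSW w hw))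
  have hX1d : ((X : F[X]) - 1) ∣ X ^ r - 1 := by
    have := sub_dvd_pow_sub_pow (X : F[X]) 1 r
    rwa [one_pow] at this
  have hcf : ∀ g, Irreducible g → g ∣ c → g ∣ X ^ r - 1 := by
    intro g hg hgf
    rw [hc] at hgf
    rcases hg.prime.dvd_or_dvd hgf with h | h
    · exact (hg.prime.dvd_of_dvd_pow h).trans hX1d
    · rw [hβdef] at h
      rcases hg.prime.dvd_or_dvd h with h | h
      · exact (hg.prime.dvd_of_dvd_pow h).trans hw₀'.2.2.2
      · obtain ⟨w, hw, hgw⟩ := (Prime.dvd_finsetProd_iff hg.prime _).1 h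
        exact hgw.trans (hS' w hw).2.2.2
  have hpal : Pal r d c := ⟨hcm, hcdeg, hcrev, hcf⟩
  obtain ⟨ζ, hζ⟩ := exists_aniso (F := F)
  have hdim : finrank F (ι → F) = 2 * d := by
    rw [Module.finrank_fintype_fun_eq_card, hd]
  -- it suffices to realise `c` in `O(Q₀)`
  suffices hsuff : ∃ g : ↥(Cfsg.isometryGroup F ⇑Q₀), g ^ r = 1 ∧ (mat Q₀ g).charpoly = c by
    obtain ⟨g, hgr, hgc⟩ := hsuff
    have hdat := oData_of_mem Q₀ g r hgr hrodd hrF
    have hchar : (Matrix.toLin' (mat Q₀ g)).charpoly = (X - 1) ^ m * w₀ ^ a₀ * ∏ w ∈ S, w := by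
      rw [Matrix.charpoly_toLin', hgc, hc, hβdef, mul_assoc]
    refine ⟨g, hgr, ?_, ?_⟩
    · have := Cfsg.Agent.Lib.Helper31_OrthTS_OE_odd.finrank_comm_of_charpoly
        (Matrix.toLin' (mat Q₀ g)) r hrF hdat.pow m β hβ1 (by rw [Matrix.charpoly_toLin', hgc])
      rw [hdim] at this
      omega
    · intro W hW hWts
      have := bound hdat hQ₀ hr hr2 hrp hi w₀ S hw₀' hS' hw₀S m a₀ hchar hW hWts
      rw [ha₀2] at this
      exact this
  -- transport from a standard form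
  have htrans : ∀ {κ : Type} [Fintype κ] [DecidableEq κ]
      (Q' : QuadraticForm F (κ → F)), Iso Q₀ Q' →
      (∃ g : ↥(Cfsg.isometryGroup F ⇑Q'), g ^ r = 1 ∧ (mat Q' g).charpoly = c) →
      ∃ g : ↥(Cfsg.isometryGroup F ⇑Q₀), g ^ r = 1 ∧ (mat Q₀ g).charpoly = c := by
    intro κ _ _ Q' h' ⟨g₀, hg₀, hg₀c⟩
    have hdat := oData_of_mem Q' g₀ r hg₀ hrodd hrF
    obtain ⟨g, hg1, hg2⟩ := exists_of_iso Q₀ Q' h'.symm (Matrix.toLin' (mat Q' g₀))
      hdat.iso r hr.pos hdat.pow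
    exact ⟨g, hg1, by rw [hg2, Matrix.charpoly_toLin', hg₀c]⟩
  by_cases hm0 : 0 < m
  · have hdvd : ((X : F[X]) - 1) ∣ c := by
      rw [hc]
      exact Dvd.dvd.mul_right (dvd_pow_self _ hm0.ne') _
    obtain ⟨hP, hM⟩ := real_of_dvd d hd1 r hrodd hrF c hpal hdvd 1 ζ hζ
    rcases iso_plus_or_minus d hd1 hdim Q₀ hQ₀ 1 ζ hζ with h | h
    · exact htrans (qfPlus d F) h hP
    · exact htrans (qfMinus (d - 1) F 1 ζ) h hM
  · have hm0' : m = 0 := by omega
    have hiAd : i * A = 2 * d := by omega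
    have hnd : ¬ ((X : F[X]) - 1) ∣ c := by
      intro hdvd
      rw [hc, hm0', pow_zero, one_mul] at hdvd
      obtain ⟨l, hl⟩ := hdvd
      apply hβ1
      rw [hl, eval_mul, eval_sub, eval_X, eval_one, sub_self, zero_mul]
    have hi1 : i ≠ 1 := by
      intro h1
      rw [h1] at hi
      exact absurd hi (by decide)
    rcases real_of_not_dvd d hd1 r hrodd hrF c hpal 1 ζ hζ with ⟨g, hg, hgc⟩ | ⟨g, hg, hgc⟩
    · -- plus type: `i ∣ d`, so `A` is even
      have hid := (plus_excl p d hd1 r hr hr2 hrp g hg (by rw [hgc]; exact hnd)).2 hi1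
      obtain ⟨l, hl⟩ := hid
      have hAe : Even A := by
        refine ⟨l, ?_⟩
        have h1 : i * A = i * (l + l) := by rw [hiAd, hl]; ring
        exact Nat.eq_of_mul_eq_mul_left hipos h1
      have hhyp : IsHyp Q₀ := (htype hiAd).2 hAe
      have hplus : Iso Q₀ (qfPlus d F) := by
        rcases iso_plus_or_minus d hd1 hdim Q₀ hQ₀ 1 ζ hζ with h | h
        · exact h
        · exact absurd (hhyp.of_iso h) (not_isHyp_qfMinus (d - 1) 1 ζ hζ)
      exact htrans (qfPlus d F) hplus ⟨g, hg, hgc⟩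
    · -- minus type: `i ∤ d`, so `A` is odd
      have hid := (minus_excl p d hd1 r hr hr2 hrp 1 ζ hζ g hg (by rw [hgc]; exact hnd)).2.2
      have hAo : ¬ Even A := by
        rintro ⟨l, hl⟩
        apply hid
        refine ⟨l, ?_⟩
        show d = i * l
        have h1 : 2 * d = 2 * (i * l) := by rw [← hiAd, hl]; ring
        omega
      have hnhyp : ¬ IsHyp Q₀ := fun hh => hAo ((htype hiAd).1 hh)
      have hminus : Iso Q₀ (qfMinus (d - 1) F 1 ζ) := by
        rcases iso_plus_or_minus d hd1 hdim Q₀ hQ₀ 1 ζ hζ with h | h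
        · exact absurd ((isHyp_qfPlus (F := F) d).of_iso h.symm) hnhyp
        · exact h
      exact htrans (qfMinus (d - 1) F 1 ζ) hminus ⟨g, hg, hgc⟩

end Cfsg.Agent.Lib.Helper31_OrthTS_OE_even
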