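import Mathlib
import Cfsg.Prelude.Def_GeometricClasses
import Cfsg.Agent.Lib.Helper40_OClasses
import Cfsg.Agent.Lib.Helper40_OConj
import Cfsg.Agent.Lib.Helper44_Orth
import Cfsg.Agent.Lib.Helper44_OmegaAll

set_option autoImplicit false

/-!
Package RED of helper99's orthogonal core (S5973 / S5987): from `Ω` modulo scalars to the elements of
order `r` of the isometry group, `r` an odd prime (helper31).
-/

namespace Cfsg.Agent.Lib.Helper31_OrthTS_RED

open Polynomial Module Matrix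
open Cfsg.Agent.Lib.Helper40_OConj Cfsg.Agent.Lib.Helper40_OClasses

universe u

variable {ι : Type} [Fintype ι] [DecidableEq ι]
variable {F : Type u} [Field F]

/-- a quadratic form with nondegenerate polar form on a nonzero space takes a nonzero value -/
theorem exists_ne_zero (Q₀ : QuadraticForm F (ι → F)) (hQ₀ : (pol Q₀).Nondegenerate)
    (hι : 0 < Fintype.card ι) : ∃ v : ι → F, Q₀ v ≠ 0 := by
  by_contra hcon
  push Not at hcon
  obtain ⟨k⟩ := Fintype.card_pos_iff.1 hι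
  have h0 : ∀ y, pol Q₀ (Pi.single k 1) y = 0 := by
    intro y
    rw [pol_apply, hcon, hcon, hcon]
    ring
  have := hQ₀.1 (Pi.single k 1) h0
  have h1 := congrFun this k
  simp at h1

/-- a scalar isometry is `±1` -/
theorem sq_eq_one_of_scalar (Q₀ : QuadraticForm F (ι → F)) (hQ₀ : (pol Q₀).Nondegenerate)
    (hι : 0 < Fintype.card ι) (g : ↥(Cfsg.isometryGroup F ⇑Q₀)) (z : F)
    (hz : mat Q₀ g = z • (1 : Matrix ι ι F)) : z ^ 2 = 1 := by
  obtain ⟨v, hv⟩ := exists_ne_zero Q₀ hQ₀ hι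
  have h1 := (Cfsg.Agent.Lib.Helper44_Orth.mem_isometryGroup_iff (⇑Q₀)
    (g : Matrix.GeneralLinearGroup ι F)).1 g.2 v
  have h2 : ((g : Matrix.GeneralLinearGroup ι F) : Matrix ι ι F) *ᵥ v = z • v := by
    have : ((g : Matrix.GeneralLinearGroup ι F) : Matrix ι ι F) = z • (1 : Matrix ι ι F) := hz
    rw [this, Matrix.smul_mulVec, Matrix.one_mulVec]
  rw [h2, QuadraticMap.map_smul, smul_eq_mul] at h1
  have h3 : (z * z - 1) * Q₀ v = 0 := by linear_combination h1
  rcases mul_eq_zero.1 h3 with h | h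
  · linear_combination h
  · exact absurd h hv

theorem scalar_pow (z : F) (k : ℕ) :
    (z • (1 : Matrix ι ι F)) ^ k = z ^ k • (1 : Matrix ι ι F) := by
  rw [_root_.smul_pow, one_pow]

theorem scalar_inj (hι : 0 < Fintype.card ι) (z w : F)
    (h : z • (1 : Matrix ι ι F) = w • (1 : Matrix ι ι F)) : z = w := by
  obtain ⟨k⟩ := Fintype.card_pos_iff.1 hι
  have := congrFun (congrFun h k) k
  simpa using this

variable [Fintype F]

/-- RED: from `Ω` modulo scalars to the elements of order `r` of the isometry group (`r` odd). -/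
theorem RED (Q₀ : QuadraticForm F (ι → F)) (hQ₀ : (pol Q₀).Nondegenerate)
    (hex : Fintype.card F ≠ 2 ∨ Fintype.card ι ≠ 4) (hι : 0 < Fintype.card ι)
    {r : ℕ} (hr : r.Prime) (hr2 : r ≠ 2) (m : ℕ) :
    (∀ x : GL ι F, x ∈ Cfsg.Geo.omegaGL ⇑Q₀ →
      (∃ z : F, ((x ^ r : GL ι F) : Matrix ι ι F) = z • (1 : Matrix ι ι F)) →
      (∀ z : F, (x : Matrix ι ι F) ≠ z • (1 : Matrix ι ι F)) →
      ∃ W : Submodule F (ι → F), finrank F ↥W = m ∧ (∀ w ∈ W, Q₀ w = 0) ∧
        W.map (Matrix.toLin' (x : Matrix ι ι F)) ≤ W) ↔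
    (∀ g : ↥(Cfsg.isometryGroup F ⇑Q₀), g ^ r = 1 → g ≠ 1 →
      ∃ W : Submodule F (ι → F), finrank F ↥W = m ∧ (∀ w ∈ W, Q₀ w = 0) ∧
        W.map (Matrix.toLin' (mat Q₀ g)) ≤ W) := by
  have hrodd : Odd r := hr.odd_of_ne_two hr2
  constructor
  · intro H g hgr hg1
    have hmem : g ∈ Cfsg.Omega F ⇑Q₀ := by
      obtain ⟨j, hj⟩ := hrodd
      have h1 : g = (g ^ (j + 1)) * (g ^ (j + 1)) := by
        rw [← pow_add]
        have : j + 1 + (j + 1) = r + 1 := by omega
        rw [this, pow_succ, hgr, one_mul]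
      rw [h1]
      exact Cfsg.Agent.Lib.Helper44_OmegaAll.mul_self_mem_omega Q₀ hQ₀ hex _
    refine H (g : GL ι F) ⟨g, hmem, rfl⟩ ⟨1, ?_⟩ ?_
    · have : ((g : GL ι F) ^ r : GL ι F) = 1 := by
        have := congrArg (fun y : ↥(Cfsg.isometryGroup F ⇑Q₀) => (y : GL ι F)) hgr
        simpa using this
      rw [this, one_smul]
      rfl
    · intro z hz
      have hz2 : z ^ 2 = 1 := sq_eq_one_of_scalar Q₀ hQ₀ hι g z hz
      have hzr : z ^ r = 1 := by
        have h1 : mat Q₀ g ^ r = 1 := (mat_pow_eq_one_iff Q₀ g r).2 hgr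
        have hz' : mat Q₀ g = z • (1 : Matrix ι ι F) := hz
        rw [hz', scalar_pow] at h1
        have h2 : z ^ r • (1 : Matrix ι ι F) = (1 : F) • (1 : Matrix ι ι F) := by
          rw [h1, one_smul]
        exact scalar_inj hι _ _ h2
      have hz1 : z = 1 := by
        obtain ⟨j, hj⟩ := hrodd
        have : z ^ r = z := by
          rw [hj, pow_succ, pow_mul, hz2, one_pow, one_mul]
        rw [← this, hzr]
      apply hg1
      apply mat_injective Q₀
      have hz' : mat Q₀ g = z • (1 : Matrix ι ι F) := hz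
      rw [hz', hz1, one_smul, mat_one]
  · intro H x hx hxr hxs
    obtain ⟨s, -, rfl⟩ := hx
    obtain ⟨z, hz⟩ := hxr
    have hsr : mat Q₀ (s ^ r) = z • (1 : Matrix ι ι F) := by
      rw [mat_pow]
      have : (((s : GL ι F) ^ r : GL ι F) : Matrix ι ι F) = mat Q₀ s ^ r := by
        rw [Units.val_pow_eq_pow_val]
      rw [← this]
      exact hz
    have hz2 : z ^ 2 = 1 := sq_eq_one_of_scalar Q₀ hQ₀ hι (s ^ r) z hsr
    have hz0 : z ≠ 0 := by
      intro h0
      rw [h0] at hz2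
      simp at hz2
    have hmat : mat Q₀ (s ^ (r + 1)) = z • mat Q₀ s := by
      rw [pow_succ]
      have : mat Q₀ (s ^ r * s) = mat Q₀ (s ^ r) * mat Q₀ s := rfl
      rw [this, hsr, Matrix.smul_mul, Matrix.one_mul]
    have hpow : (s ^ (r + 1)) ^ r = 1 := by
      rw [← pow_mul, mul_comm, pow_mul, ← (mat_pow_eq_one_iff Q₀ (s ^ r) (r + 1)), hsr,
        scalar_pow]
      obtain ⟨j, hj⟩ := hrodd
      have : r + 1 = 2 * (j + 1) := by omega
      rw [this, pow_mul, hz2, one_pow, one_smul]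
    have hne : s ^ (r + 1) ≠ 1 := by
      intro h1
      have h2 : mat Q₀ (s ^ (r + 1)) = 1 := by rw [h1, mat_one]
      rw [hmat] at h2
      apply hxs z⁻¹
      have h3 : mat Q₀ s = z⁻¹ • (z • mat Q₀ s) := by
        rw [smul_smul, inv_mul_cancel₀ hz0, one_smul]
      show mat Q₀ s = z⁻¹ • (1 : Matrix ι ι F)
      rw [h3, h2]
    obtain ⟨W, hWm, hWQ, hWinv⟩ := H (s ^ (r + 1)) hpow hne
    refine ⟨W, hWm, hWQ, ?_⟩
    rintro _ ⟨w, hw, rfl⟩
    have h1 : Matrix.toLin' (mat Q₀ (s ^ (r + 1))) w ∈ W := hWinv ⟨w, hw, rfl⟩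
    rw [hmat, map_smul, LinearMap.smul_apply] at h1
    have h2 := W.smul_mem z⁻¹ h1
    rw [smul_smul, inv_mul_cancel₀ hz0, one_smul] at h2
    exact h2

end Cfsg.Agent.Lib.Helper31_OrthTS_RED
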