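import Mathlib
import Cfsg.Prelude.Def_Characters
import Cfsg.Prelude.Def_Blocks
import Cfsg.Prelude.Def_Solvable
import Cfsg.Prelude.Def_Local
import Cfsg.Agent.Lib.Helper3_P2Defs
import Cfsg.Agent.Lib.Helper16_GenSetup
import Cfsg.Agent.Lib.Helper16_GenMain
import Cfsg.Agent.Lib.Helper16_GenFinal
import Cfsg.Agent.Lib.Helper76_GalConj
import Cfsg.Agent.Lib.Helper53_P2_PCOMPL
import Cfsg.Agent.Lib.Helper31_P2_INV

/-!
# S4705 package P2-PREG (helper31, architect helper3)

`∑ |ζ g|²` over the `p`-regular elements is `|Z(G)| ((p-2)² + i)`, `i` the number of involutions.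
-/

set_option autoImplicit false
set_option linter.unusedSectionVars false
set_option linter.unusedVariables false

namespace Cfsg.Agent.Lib.Helper31_P2_PREG

open Cfsg Cfsg.Agent.Lib.Helper3_P2Defs Cfsg.Agent.Lib.Helper16_GenSetup
  Cfsg.Agent.Lib.Helper16_GenMain Cfsg.Agent.Lib.Helper16_GenFinal
open scoped ComplexConjugate

universe u

section partB3

variable {G : Type u} [Group G] [Fintype G] {p : ℕ} [hp : Fact p.Prime] {P : Sylow p G}
  {ζ : G → ℂ} {k₂ : ℕ}

/-- `|ζ w|² = (p-2)²` for central `w` -/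
theorem normSq_central (h : Hyp G p P ζ) {w : G} (hw : w ∈ Subgroup.center G) :
    ζ w * conj (ζ w) = ((p : ℂ) - 2) ^ 2 := by
  have h1 : ζ 1 = (p : ℂ) - 2 := Helper31_P2_INV.apply_one h
  have := Helper76_GalConj.irr_center_normSq (⟨ζ, h.irr⟩ : IrrCharacter G) hw
  rw [← h1]; exact this

/-- central elements are `p`-regular -/
theorem central_reg (h : Hyp G p P ζ) {w : G} (hw : w ∈ Subgroup.center G) :
    ¬ p ∣ orderOf w := by
  intro hdvd
  have hcop := Helper53_P2_PCOMPL.coprime_center h
  have h2 : orderOf w ∣ Nat.card (Subgroup.center G) := by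
    have := orderOf_dvd_natCard (⟨w, hw⟩ : Subgroup.center G)
    rwa [Subgroup.orderOf_mk] at this
  have h3 := Nat.Coprime.eq_one_of_dvd hcop.symm (hdvd.trans h2)
  exact hp.out.one_lt.ne' h3

/-- an involution is not central -/
theorem inv_not_central (h : Hyp G p P ζ) (hinv : ∀ u : G, orderOf u = 2 → ζ u = -1)
    {u : G} (hu : orderOf u = 2) : u ∉ Subgroup.center G := by
  intro huc
  have hp5 := h.p5
  have h2 := normSq_central h huc
  rw [hinv u hu] at h2
  simp only [map_neg, map_one, mul_neg, mul_one, neg_neg] at h2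
  have h3 : ((1 : ℕ) : ℂ) = (((p - 2) ^ 2 : ℕ) : ℂ) := by
    push_cast [Nat.cast_sub (by omega : 2 ≤ p)]
    exact h2
  have h4 : 1 = (p - 2) ^ 2 := by exact_mod_cast h3
  have h5 : 4 ≤ p - 2 := by omega
  nlinarith

/-- `w ^ |Z(G)| = 1` for central `w` -/
theorem central_pow (w : G) (hw : w ∈ Subgroup.center G) :
    w ^ Nat.card (Subgroup.center G) = 1 := by
  have := pow_card_eq_one' (G := Subgroup.center G) (x := ⟨w, hw⟩)
  exact congrArg Subtype.val this

/-- `|ζ (u w)|² = 1` for an involution `u` and central `w` -/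
theorem normSq_inv_central (h : Hyp G p P ζ) (hinv : ∀ u : G, orderOf u = 2 → ζ u = -1)
    {u w : G} (hu : orderOf u = 2) (hw : w ∈ Subgroup.center G) :
    ζ (u * w) * conj (ζ (u * w)) = 1 := by
  have hp5 := h.p5
  have h1 : ζ 1 = (p : ℂ) - 2 := Helper31_P2_INV.apply_one h
  have h2 := Helper76_GalConj.irr_mul_central (⟨ζ, h.irr⟩ : IrrCharacter G) hw u
  change ζ (u * w) * ζ 1 = ζ w * ζ u at h2
  rw [h1, hinv u hu] at h2
  have h3 := normSq_central h hw
  have hne : ((p : ℂ) - 2) ≠ 0 := by
    have : ((p : ℂ) - 2) = ((p - 2 : ℕ) : ℂ) := by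
      push_cast [Nat.cast_sub (by omega : 2 ≤ p)]; rfl
    rw [this]
    exact_mod_cast (by omega : p - 2 ≠ 0)
  have h4 : conj (ζ (u * w)) * ((p : ℂ) - 2) = conj (ζ w) * (-1) := by
    have := congrArg conj h2
    simpa [Complex.conj_ofNat] using this
  have h5 : (ζ (u * w) * conj (ζ (u * w))) * ((p : ℂ) - 2) ^ 2 = ((p : ℂ) - 2) ^ 2 := by
    calc (ζ (u * w) * conj (ζ (u * w))) * ((p : ℂ) - 2) ^ 2
        = (ζ (u * w) * ((p : ℂ) - 2)) * (conj (ζ (u * w)) * ((p : ℂ) - 2)) := by ring
      _ = (ζ w * -1) * (conj (ζ w) * (-1)) := by rw [h2, h4]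
      _ = ζ w * conj (ζ w) := by ring
      _ = _ := h3
  have hne2 : ((p : ℂ) - 2) ^ 2 ≠ 0 := pow_ne_zero _ hne
  exact mul_right_cancel₀ hne2 (by rw [h5, one_mul])

/-- `u w` is `p`-regular -/
theorem inv_central_reg (h : Hyp G p P ζ) {u w : G} (hu : orderOf u = 2)
    (hw : w ∈ Subgroup.center G) : ¬ p ∣ orderOf (u * w) := by
  intro hdvd
  have hp5 := h.p5
  have hcop := Helper53_P2_PCOMPL.coprime_center h
  have hcomm : Commute u w := Subgroup.mem_center_iff.mp hw u
  have h1 : (u * w) ^ (2 * Nat.card (Subgroup.center G)) = 1 := by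
    rw [hcomm.mul_pow, pow_mul u, ← hu, pow_orderOf_eq_one, one_pow, one_mul, mul_comm, pow_mul,
      central_pow w hw, one_pow]
  have h2 : p ∣ 2 * Nat.card (Subgroup.center G) := hdvd.trans (orderOf_dvd_of_pow_eq_one h1)
  rcases (Nat.Prime.dvd_mul hp.out).mp h2 with h3 | h3
  · have := Nat.le_of_dvd (by norm_num) h3
    omega
  · exact hp.out.one_lt.ne' (Nat.Coprime.eq_one_of_dvd hcop.symm h3)

/-- **P2-PREG** -/
theorem preg_sum (hc : Core G p P ζ k₂) (hinv : ∀ u : G, orderOf u = 2 → ζ u = -1)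
    (hreg : RegVals G p ζ) :
    ∑ g : G, (if p ∣ orderOf g then 0 else ζ g * conj (ζ g)) =
      ((Nat.card (Subgroup.center G) * ((p - 2) ^ 2 + Nat.card {u : G // orderOf u = 2}) : ℕ) : ℂ) := by
  classical
  have hp5 := hc.p5
  have h := hc.toHyp
  set A : Finset G := Finset.univ.filter (fun g : G => g ∈ Subgroup.center G) with hA
  set I : Finset G := Finset.univ.filter (fun g : G => orderOf g = 2) with hI
  set B : Finset G := (I ×ˢ A).image (fun x : G × G => x.1 * x.2) with hB
  have hcardA : Nat.card (Subgroup.center G) = A.card :=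
    Nat.subtype_card A (fun x => by simp [hA])
  have hcardI : Nat.card {u : G // orderOf u = 2} = I.card :=
    Nat.subtype_card I (fun x => by simp [hI])
  have hzodd := hc.zodd
  -- step 1: restrict the sum
  have hsub : ∑ g : G, (if p ∣ orderOf g then 0 else ζ g * conj (ζ g)) =
      ∑ g ∈ A ∪ B, (if p ∣ orderOf g then 0 else ζ g * conj (ζ g)) := by
    refine (Finset.sum_subset (Finset.subset_univ _) ?_).symm
    intro g _ hg
    by_cases hpg : p ∣ orderOf g
    · rw [if_pos hpg]
    · rw [if_neg hpg]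
      rcases hreg g hpg with h1 | ⟨u, hu, w, hw, rfl⟩ | h1
      · exact absurd (Finset.mem_union_left _ (by simp [hA, h1])) hg
      · refine absurd (Finset.mem_union_right _ ?_) hg
        rw [hB, Finset.mem_image]
        exact ⟨(u, w), by simp [hI, hA, hu, hw], rfl⟩
      · rw [h1, zero_mul]
  -- step 2: disjointness
  have hdisj : Disjoint A B := by
    rw [Finset.disjoint_left]
    intro g hgA hgB
    rw [hB, Finset.mem_image] at hgB
    obtain ⟨⟨u, w⟩, hx, rfl⟩ := hgB
    simp only [hI, hA, Finset.mem_product, Finset.mem_filter, Finset.mem_univ, true_and] at hx hgA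
    have : u ∈ Subgroup.center G := by
      have := (Subgroup.center G).mul_mem hgA ((Subgroup.center G).inv_mem hx.2)
      simpa using this
    exact inv_not_central h hinv hx.1 this
  -- step 3: the central part
  have hsumA : ∑ g ∈ A, (if p ∣ orderOf g then 0 else ζ g * conj (ζ g)) =
      (A.card : ℂ) * ((p : ℂ) - 2) ^ 2 := by
    rw [Finset.sum_congr rfl (g := fun _ => ((p : ℂ) - 2) ^ 2)]
    · rw [Finset.sum_const, nsmul_eq_mul]
    · intro g hg
      simp only [hA, Finset.mem_filter, Finset.mem_univ, true_and] at hg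
      rw [if_neg (central_reg h hg), normSq_central h hg]
  -- step 4: the involution part
  have hinj : Set.InjOn (fun x : G × G => x.1 * x.2) (I ×ˢ A : Finset (G × G)) := by
    rintro ⟨u, w⟩ hx ⟨u', w'⟩ hx' heq
    simp only [hI, hA, Finset.coe_product, Set.mem_prod, Finset.mem_coe, Finset.mem_filter,
      Finset.mem_univ, true_and] at hx hx'
    simp only at heq
    obtain ⟨k, hk⟩ := hzodd
    have key : ∀ u w : G, orderOf u = 2 → w ∈ Subgroup.center G →
        (u * w) ^ Nat.card (Subgroup.center G) = u := by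
      intro u w hu hw
      have hcomm : Commute u w := Subgroup.mem_center_iff.mp hw u
      rw [hcomm.mul_pow, central_pow w hw, mul_one, hk, pow_succ, pow_mul, ← hu,
        pow_orderOf_eq_one, one_pow, one_mul]
    have hu : u = u' := by
      rw [← key u w hx.1 hx.2, ← key u' w' hx'.1 hx'.2, heq]
    subst hu
    have hw : w = w' := mul_left_cancel heq
    rw [hw]
  have hsumB : ∑ g ∈ B, (if p ∣ orderOf g then 0 else ζ g * conj (ζ g)) =
      (I.card : ℂ) * (A.card : ℂ) := by
    rw [hB, Finset.sum_image hinj, Finset.sum_congr rfl (g := fun _ => (1 : ℂ))]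
    · rw [Finset.sum_const, nsmul_eq_mul, mul_one, Finset.card_product]
      push_cast; ring
    · rintro ⟨u, w⟩ hx
      simp only [hI, hA, Finset.mem_product, Finset.mem_filter, Finset.mem_univ, true_and] at hx
      rw [if_neg (inv_central_reg h hx.1 hx.2), normSq_inv_central h hinv hx.1 hx.2]
  rw [hsub, Finset.sum_union hdisj, hsumA, hsumB, hcardA, hcardI]
  push_cast [Nat.cast_sub (by omega : 2 ≤ p)]
  ring

end partB3

end Cfsg.Agent.Lib.Helper31_P2_PREG
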