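import Mathlib
import Cfsg.Prelude.Def_Characters
import Cfsg.Prelude.Def_Blocks
import Cfsg.Agent.Lib.Helper3_P2Defs

/-!
# S4705 package P2-CARDN (architect helper3): `|N_G(P)| = 2 p |Z(G)|` and `|G| = n_p · 2 p |Z(G)|`
-/

set_option autoImplicit false
set_option linter.unusedSectionVars false
set_option linter.unusedVariables false

namespace Cfsg.Agent.Lib.Helper60_P2_CARDN

open Cfsg Cfsg.Agent.Lib.Helper3_P2Defs
open scoped ComplexConjugate

universe u

variable {G : Type u} [Group G] [Finite G] {p : ℕ} [hp : Fact p.Prime] {P : Sylow p G}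
  {ζ : G → ℂ} {k₂ : ℕ}

/-- `P ∩ Z(G) = 1` since `P` (of prime order) is not normal -/
theorem eq_one_of_mem_center (h : Hyp G p P ζ) {y : G} (hy : y ∈ (P : Subgroup G))
    (hyz : y ∈ Subgroup.center G) : y = 1 := by
  by_contra hy1
  apply h.nn
  have hy1' : (⟨y, hy⟩ : ↥(P : Subgroup G)) ≠ 1 := by
    intro h1
    exact hy1 (congrArg Subtype.val h1)
  refine ⟨fun t ht g => ?_⟩
  have hmem := mem_zpowers_of_prime_card (G := ↥(P : Subgroup G)) h.cardP hy1' (g' := ⟨t, ht⟩)
  obtain ⟨n, hn⟩ := Subgroup.mem_zpowers_iff.mp hmem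
  have ht' : t = y ^ n := by
    have := congrArg Subtype.val hn
    simpa using this.symm
  have hc : y ^ n ∈ Subgroup.center G := Subgroup.zpow_mem _ hyz n
  have hcomm : g * y ^ n = y ^ n * g := Subgroup.mem_center_iff.mp hc g
  have : g * t * g⁻¹ = t := by
    rw [ht', hcomm]
    group
  rw [this]
  exact ht

theorem le_centralizer (h : Hyp G p P ζ) :
    (P : Subgroup G) ≤ Subgroup.centralizer ((P : Subgroup G) : Set G) := by
  have hcyc : IsCyclic ↥(P : Subgroup G) := isCyclic_of_prime_card h.cardP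
  have hm : IsMulCommutative ↥(P : Subgroup G) := IsCyclic.isMulCommutative
  intro a ha
  rw [Subgroup.mem_centralizer_iff]
  intro b hb
  have := hm.is_comm.comm (⟨b, hb⟩ : ↥(P : Subgroup G)) ⟨a, ha⟩
  exact congrArg Subtype.val this

/-- `|C_G(P)| = p |Z(G)|` -/
theorem card_centralizer (h : Hyp G p P ζ) (hl : Loc G p P ζ) :
    Nat.card (Subgroup.centralizer ((P : Subgroup G) : Set G)) =
      p * Nat.card (Subgroup.center G) := by
  have hcard : Nat.card (↥(P : Subgroup G) × ↥(Subgroup.center G)) =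
      p * Nat.card (Subgroup.center G) := by
    rw [Nat.card_prod, h.cardP]
  rw [← hcard]
  symm
  apply Nat.card_congr
  have hPC := le_centralizer h
  have hZC : Subgroup.center G ≤ Subgroup.centralizer ((P : Subgroup G) : Set G) :=
    Subgroup.center_le_centralizer _
  refine Equiv.ofBijective
    (fun x => (⟨(x.1 : G) * (x.2 : G), Subgroup.mul_mem _ (hPC x.1.2) (hZC x.2.2)⟩ :
      ↥(Subgroup.centralizer ((P : Subgroup G) : Set G)))) ⟨?_, ?_⟩
  · intro x y hxy
    have h1 : (x.1 : G) * (x.2 : G) = (y.1 : G) * (y.2 : G) := congrArg Subtype.val hxy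
    have h2 : (y.1 : G)⁻¹ * (x.1 : G) = (y.2 : G) * (x.2 : G)⁻¹ := by
      calc (y.1 : G)⁻¹ * (x.1 : G) = (y.1 : G)⁻¹ * ((x.1 : G) * (x.2 : G)) * (x.2 : G)⁻¹ := by
            group
        _ = (y.1 : G)⁻¹ * ((y.1 : G) * (y.2 : G)) * (x.2 : G)⁻¹ := by rw [h1]
        _ = (y.2 : G) * (x.2 : G)⁻¹ := by group
    have h3 : (y.1 : G)⁻¹ * (x.1 : G) ∈ (P : Subgroup G) :=
      Subgroup.mul_mem _ (Subgroup.inv_mem _ y.1.2) x.1.2
    have h4 : (y.1 : G)⁻¹ * (x.1 : G) ∈ Subgroup.center G := by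
      rw [h2]; exact Subgroup.mul_mem _ y.2.2 (Subgroup.inv_mem _ x.2.2)
    have h5 : (y.1 : G)⁻¹ * (x.1 : G) = 1 := eq_one_of_mem_center h h3 h4
    have h6 : (x.1 : G) = (y.1 : G) := by
      calc (x.1 : G) = (y.1 : G) * ((y.1 : G)⁻¹ * (x.1 : G)) := by group
        _ = (y.1 : G) := by rw [h5, mul_one]
    have h7 : (x.2 : G) = (y.2 : G) := by
      rw [h6] at h1
      exact mul_left_cancel h1
    exact Prod.ext (Subtype.ext h6) (Subtype.ext h7)
  · rintro ⟨c, hc⟩
    obtain ⟨y, hy, w, hw, hyw⟩ := hl.cent c hc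
    exact ⟨(⟨y, hy⟩, ⟨w, hw⟩), Subtype.ext hyw.symm⟩

/-- `|N_G(P)| = 2 p |Z(G)|` -/
theorem card_normalizer (h : Hyp G p P ζ) (hl : Loc G p P ζ) :
    Nat.card ↥(Subgroup.normalizer ((P : Subgroup G) : Set G)) =
      2 * p * Nat.card (Subgroup.center G) := by
  have hle : Subgroup.centralizer ((P : Subgroup G) : Set G) ≤
      Subgroup.normalizer ((P : Subgroup G) : Set G) := Subgroup.centralizer_le_normalizer _
  have e1 := Subgroup.index_mul_card ((Subgroup.centralizer ((P : Subgroup G) : Set G)).subgroupOf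
    (Subgroup.normalizer ((P : Subgroup G) : Set G)))
  have e2 : Nat.card ((Subgroup.centralizer ((P : Subgroup G) : Set G)).subgroupOf
      (Subgroup.normalizer ((P : Subgroup G) : Set G))) =
      Nat.card (Subgroup.centralizer ((P : Subgroup G) : Set G)) :=
    Nat.card_congr (Subgroup.subgroupOfEquivOfLe hle).toEquiv
  have e3 : ((Subgroup.centralizer ((P : Subgroup G) : Set G)).subgroupOf
      (Subgroup.normalizer ((P : Subgroup G) : Set G))).index = 2 := hl.idx
  rw [e2, e3, card_centralizer h hl] at e1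
  rw [← e1, mul_assoc]

/-- `|G| = n_p |N_G(P)|` -/
theorem card_eq_sylow_mul (h : Hyp G p P ζ) (hl : Loc G p P ζ) :
    Nat.card G = Nat.card (Sylow p G) * (2 * p * Nat.card (Subgroup.center G)) := by
  have h1 : Nat.card (Sylow p G) = (Subgroup.normalizer ((P : Subgroup G) : Set G)).index :=
    Sylow.card_eq_index_normalizer P
  have h2 := Subgroup.index_mul_card (Subgroup.normalizer ((P : Subgroup G) : Set G))
  rw [h1, ← card_normalizer h hl, h2]

end Cfsg.Agent.Lib.Helper60_P2_CARDN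

namespace Cfsg.Agent.Lib.Helper60_P2_CARDN

open Cfsg Cfsg.Agent.Lib.Helper3_P2Defs
open scoped ComplexConjugate

universe u

section partB3

variable {G : Type u} [Group G] [Fintype G] {p : ℕ} [hp : Fact p.Prime] {P : Sylow p G}
  {ζ : G → ℂ} {k₂ : ℕ}

/-- **P2-CARDN** -/
theorem card_G (h : Hyp G p P ζ) (hl : Loc G p P ζ) :
    Nat.card ↥(Subgroup.normalizer ((P : Subgroup G) : Set G)) =
      2 * p * Nat.card (Subgroup.center G) ∧
    Nat.card G = Nat.card (Sylow p G) * (2 * p * Nat.card (Subgroup.center G)) :=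
  ⟨card_normalizer h hl, card_eq_sylow_mul h hl⟩

end partB3

end Cfsg.Agent.Lib.Helper60_P2_CARDN
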