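import Mathlib
import Cfsg.Prelude.Def_Characters
import Cfsg.Prelude.Def_Blocks
import Cfsg.Agent.Lib.Helper3_P2Defs
import Cfsg.Agent.Lib.Helper76_GalConj
import Cfsg.Agent.Lib.Helper80_CharBasic
import Cfsg.Agent.S1504

/-!
# S4705, package P2-PSING (architect helper3)

`psing_sum` : the contribution of the `p`-singular elements to `∑ ζ conj ζ` is `n_p · |Z(G)| · (2p - 4)`.
-/

set_option autoImplicit false
set_option linter.unusedSectionVars false
set_option linter.unusedVariables false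

namespace Cfsg.Agent.Lib.Helper93_P2_PSING

open Cfsg Cfsg.Agent.Lib.Helper3_P2Defs
open scoped ComplexConjugate

universe u

section basic

variable {G : Type u} [Group G] [Finite G] {p : ℕ} [hp : Fact p.Prime]

theorem card_sylow_eq (P Q : Sylow p G) : Nat.card Q = Nat.card P := by
  rw [Sylow.card_eq_multiplicity Q, Sylow.card_eq_multiplicity P]

/-- an element `≠ 1` of a subgroup of prime order `p` has order `p` -/
theorem orderOf_eq_of_mem {H : Subgroup G} (hH : Nat.card H = p) {x : G} (hx : x ∈ H)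
    (hx1 : x ≠ 1) : orderOf x = p := by
  have h1 : orderOf (⟨x, hx⟩ : H) ∣ p := hH ▸ orderOf_dvd_natCard _
  have h2 : orderOf (⟨x, hx⟩ : H) = orderOf x := Subgroup.orderOf_mk x hx
  rw [h2] at h1
  rcases (Nat.dvd_prime hp.out).mp h1 with h | h
  · exact absurd (orderOf_eq_one_iff.mp h) hx1
  · exact h

/-- a subgroup of prime order is generated by any of its non-identity elements -/
theorem zpowers_eq_of_mem {H : Subgroup G} (hH : Nat.card H = p) {x : G} (hx : x ∈ H)
    (hx1 : x ≠ 1) : Subgroup.zpowers x = H := by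
  apply Subgroup.eq_of_le_of_card_ge
  · rw [Subgroup.zpowers_le]; exact hx
  · rw [Nat.card_zpowers, orderOf_eq_of_mem hH hx hx1, hH]

theorem mem_smul_sylow_iff (P : Sylow p G) (c x : G) :
    x ∈ (c • P : Sylow p G) ↔ c⁻¹ * x * c ∈ P := by
  show x ∈ ((c • P : Sylow p G) : Subgroup G) ↔ c⁻¹ * x * c ∈ (P : Subgroup G)
  rw [Sylow.coe_subgroup_smul, Subgroup.mem_pointwise_smul_iff_inv_smul_mem]
  simp [MulAut.smul_def, MulAut.conj_apply]

end basic

section facts

variable {G : Type u} [Group G] [Finite G] {p : ℕ} [hp : Fact p.Prime] {P : Sylow p G}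
  {ζ : G → ℂ}

theorem card_sylow (h : Hyp G p P ζ) (P' : Sylow p G) : Nat.card P' = p := by
  rw [card_sylow_eq P P', h.cardP]

/-- `P' ∩ Z(G) = 1` -/
theorem eq_one_of_mem_center (h : Hyp G p P ζ) (P' : Sylow p G) {x : G} (hx : x ∈ P')
    (hxZ : x ∈ Subgroup.center G) : x = 1 := by
  by_contra hx1
  obtain ⟨c, hc⟩ := MulAction.exists_smul_eq G P P'
  rw [← hc, mem_smul_sylow_iff] at hx
  have hcx : c⁻¹ * x * c = x := by
    have := Subgroup.mem_center_iff.mp hxZ c
    rw [mul_assoc, ← this, ← mul_assoc, inv_mul_cancel, one_mul]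
  rw [hcx] at hx
  have hz : Subgroup.zpowers x = (P : Subgroup G) := zpowers_eq_of_mem h.cardP hx hx1
  apply h.nn
  refine ⟨fun n hn g => ?_⟩
  have hnZ : n ∈ Subgroup.center G := by
    rw [← hz] at hn
    exact (Subgroup.zpowers_le.mpr hxZ) hn
  have := Subgroup.mem_center_iff.mp hnZ g
  rw [this, mul_inv_cancel_right]
  exact hn

theorem not_dvd_card_center (h : Hyp G p P ζ) : ¬ p ∣ Nat.card (Subgroup.center G) := by
  intro hdvd
  obtain ⟨w, hw⟩ := exists_prime_orderOf_dvd_card' p hdvd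
  have hw' : orderOf (w : G) = p := by rw [Subgroup.orderOf_coe]; exact hw
  have hpg : IsPGroup p (Subgroup.zpowers (w : G)) :=
    IsPGroup.of_card (n := 1) (by rw [Nat.card_zpowers, hw', pow_one])
  obtain ⟨P', hP'⟩ := hpg.exists_le_sylow
  have h1 : (w : G) = 1 :=
    eq_one_of_mem_center h P' (hP' (Subgroup.mem_zpowers _)) w.2
  rw [h1, orderOf_one] at hw'
  exact hp.out.one_lt.ne hw'

theorem pow_card_center {w : G} (hw : w ∈ Subgroup.center G) :
    w ^ Nat.card (Subgroup.center G) = 1 := by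
  have := pow_card_eq_one' (G := Subgroup.center G) (x := ⟨w, hw⟩)
  exact congrArg Subtype.val this

theorem coprime_card_center (h : Hyp G p P ζ) : (Nat.card (Subgroup.center G)).Coprime p :=
  Nat.Coprime.symm ((Nat.Prime.coprime_iff_not_dvd hp.out).mpr (not_dvd_card_center h))

/-- `p ∣ orderOf (x w)` -/
theorem dvd_orderOf_mul (h : Hyp G p P ζ) (P' : Sylow p G) {x w : G} (hx : x ∈ P') (hx1 : x ≠ 1)
    (hw : w ∈ Subgroup.center G) : p ∣ orderOf (x * w) := by
  have hcomm : Commute x w := Subgroup.mem_center_iff.mp hw x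
  have h1 : (x * w) ^ orderOf (x * w) = 1 := pow_orderOf_eq_one _
  rw [hcomm.mul_pow] at h1
  have h2 : x ^ orderOf (x * w) = (w ^ orderOf (x * w))⁻¹ := eq_inv_of_mul_eq_one_left h1
  have h3 : x ^ orderOf (x * w) = 1 := by
    apply eq_one_of_mem_center h P' (Subgroup.pow_mem _ hx _)
    rw [h2]
    exact Subgroup.inv_mem _ (Subgroup.pow_mem _ hw _)
  rw [← orderOf_eq_of_mem (card_sylow h P') hx hx1]
  exact orderOf_dvd_of_pow_eq_one h3

/-- the `|Z(G)|`-th power of `x w` -/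
theorem mul_pow_card_center {x w : G} (hw : w ∈ Subgroup.center G) :
    (x * w) ^ Nat.card (Subgroup.center G) = x ^ Nat.card (Subgroup.center G) := by
  have hcomm : Commute x w := Subgroup.mem_center_iff.mp hw x
  rw [hcomm.mul_pow, pow_card_center hw, mul_one]

theorem pow_card_center_ne_one (h : Hyp G p P ζ) (P' : Sylow p G) {x : G} (hx : x ∈ P')
    (hx1 : x ≠ 1) : x ^ Nat.card (Subgroup.center G) ≠ 1 := by
  intro h1
  have := orderOf_dvd_of_pow_eq_one h1
  rw [orderOf_eq_of_mem (card_sylow h P') hx hx1] at this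
  exact not_dvd_card_center h this

/-- injectivity of `(P', x, w) ↦ x w` -/
theorem inj_aux (h : Hyp G p P ζ) (P' P'' : Sylow p G) {x w x' w' : G} (hx : x ∈ P')
    (hx1 : x ≠ 1) (hw : w ∈ Subgroup.center G) (hx' : x' ∈ P'') (hx'1 : x' ≠ 1)
    (hw' : w' ∈ Subgroup.center G) (heq : x * w = x' * w') : P' = P'' ∧ x = x' ∧ w = w' := by
  have hpow : x ^ Nat.card (Subgroup.center G) = x' ^ Nat.card (Subgroup.center G) := by
    rw [← mul_pow_card_center (x := x) hw, ← mul_pow_card_center (x := x') hw', heq]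
  have hy1 := pow_card_center_ne_one h P' hx hx1
  have hPP : P' = P'' := by
    apply Sylow.ext
    rw [← zpowers_eq_of_mem (card_sylow h P') (Subgroup.pow_mem _ hx _) hy1,
      ← zpowers_eq_of_mem (card_sylow h P'') (Subgroup.pow_mem _ hx' _) (hpow ▸ hy1), hpow]
  subst hPP
  have hxx : x = x' := by
    have hcop : (Nat.card (P' : Subgroup G)).Coprime (Nat.card (Subgroup.center G)) := by
      have := card_sylow h P'
      rw [this]
      exact (coprime_card_center h).symm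
    have hinj := (powCoprime hcop).injective
    have : (⟨x, hx⟩ : (P' : Subgroup G)) = ⟨x', hx'⟩ := by
      apply hinj
      rw [powCoprime_apply, powCoprime_apply]
      exact Subtype.ext hpow
    exact congrArg Subtype.val this
  subst hxx
  exact ⟨rfl, rfl, mul_left_cancel heq⟩

/-- surjectivity of `(P', x, w) ↦ x w` onto the `p`-singular elements -/
theorem surj_aux (h : Hyp G p P ζ) (hl : Loc G p P ζ) {g : G} (hg : p ∣ orderOf g) :
    ∃ (P' : Sylow p G) (x w : G), x ∈ P' ∧ x ≠ 1 ∧ w ∈ Subgroup.center G ∧ x * w = g := by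
  have hn0 : orderOf g ≠ 0 := (orderOf_pos g).ne'
  set y := g ^ (orderOf g / p) with hy
  have hyo : orderOf y = p := orderOf_pow_orderOf_div hn0 hg
  have hy1 : y ≠ 1 := by
    intro h1
    rw [h1, orderOf_one] at hyo
    exact hp.out.one_lt.ne hyo
  have hpg : IsPGroup p (Subgroup.zpowers y) :=
    IsPGroup.of_card (n := 1) (by rw [Nat.card_zpowers, hyo, pow_one])
  obtain ⟨P', hP'⟩ := hpg.exists_le_sylow
  have hyP' : y ∈ P' := hP' (Subgroup.mem_zpowers _)
  obtain ⟨c, hc⟩ := MulAction.exists_smul_eq G P P'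
  have hy₀ : c⁻¹ * y * c ∈ P := by
    rw [← hc, mem_smul_sylow_iff] at hyP'
    exact hyP'
  have hy₀1 : c⁻¹ * y * c ≠ 1 := by
    intro h1
    apply hy1
    have : y = c * (c⁻¹ * y * c) * c⁻¹ := by group
    rw [this, h1]; group
  have hgy : Commute g y := (Commute.refl g).pow_right _
  have hcomm : Commute (c⁻¹ * g * c) (c⁻¹ * y * c) := by
    show c⁻¹ * g * c * (c⁻¹ * y * c) = c⁻¹ * y * c * (c⁻¹ * g * c)
    have e1 : c⁻¹ * g * c * (c⁻¹ * y * c) = c⁻¹ * (g * y) * c := by group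
    have e2 : c⁻¹ * y * c * (c⁻¹ * g * c) = c⁻¹ * (y * g) * c := by group
    rw [e1, e2, hgy.eq]
  have hz : Subgroup.zpowers (c⁻¹ * y * c) = (P : Subgroup G) :=
    zpowers_eq_of_mem h.cardP hy₀ hy₀1
  have hg₀ : c⁻¹ * g * c ∈ Subgroup.centralizer ((P : Subgroup G) : Set G) := by
    rw [Subgroup.mem_centralizer_iff]
    intro t ht
    have ht' : t ∈ Subgroup.zpowers (c⁻¹ * y * c) := by rw [hz]; exact ht
    obtain ⟨k, rfl⟩ := Subgroup.mem_zpowers_iff.mp ht'
    exact ((hcomm.zpow_right k).eq).symm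
  obtain ⟨x₀, hx₀, w, hw, hgw⟩ := hl.cent _ hg₀
  have hwc : ∀ t : G, t * w = w * t := fun t => (Subgroup.mem_center_iff.mp hw t)
  have hxw : c * x₀ * c⁻¹ * w = g := by
    have e1 : c * x₀ * c⁻¹ * w = c * (x₀ * w) * c⁻¹ := by
      rw [mul_assoc (c * x₀), hwc c⁻¹]; group
    rw [e1, ← hgw]; group
  refine ⟨P', c * x₀ * c⁻¹, w, ?_, ?_, hw, hxw⟩
  · rw [← hc, mem_smul_sylow_iff]
    have : c⁻¹ * (c * x₀ * c⁻¹) * c = x₀ := by group
    rw [this]
    exact hx₀
  · intro h1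
    rw [h1, one_mul] at hxw
    rw [← hxw] at hg
    have := orderOf_dvd_of_pow_eq_one (pow_card_center hw)
    exact not_dvd_card_center h (hg.trans this)

end facts

section chars

variable {G : Type u} [Group G] [Finite G] {p : ℕ} [hp : Fact p.Prime] {P : Sylow p G}
  {ζ : G → ℂ}

/-- `‖ζ (x w)‖² = ‖ζ x‖²` for central `w` -/
theorem normSq_mul_central (hirr : IsIrrCharacter G ζ) {w : G} (hw : w ∈ Subgroup.center G)
    (x : G) : ζ (x * w) * conj (ζ (x * w)) = ζ x * conj (ζ x) := by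
  let χ : IrrCharacter G := ⟨ζ, hirr⟩
  have h1 : ζ (x * w) * ζ 1 = ζ w * ζ x := Cfsg.Agent.Lib.Helper76_GalConj.irr_mul_central χ hw x
  have h2 : ζ w * conj (ζ w) = ζ 1 ^ 2 := Cfsg.Agent.Lib.Helper76_GalConj.irr_center_normSq χ hw
  obtain ⟨n, hn, hn1⟩ := Cfsg.Agent.Lib.Helper80_CharBasic.irr_apply_one χ
  have hn1' : ζ 1 = (n : ℂ) := hn1
  have hne : ζ 1 ≠ 0 := by rw [hn1']; exact_mod_cast hn.ne'
  have hc1 : conj (ζ 1) = ζ 1 := by rw [hn1', map_natCast]
  have h3 : conj (ζ (x * w)) * ζ 1 = conj (ζ w) * conj (ζ x) := by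
    have := congrArg conj h1
    rw [map_mul, map_mul, hc1] at this
    exact this
  have hne2 : ζ 1 ^ 2 ≠ 0 := pow_ne_zero 2 hne
  apply mul_right_cancel₀ hne2
  calc ζ (x * w) * conj (ζ (x * w)) * ζ 1 ^ 2
      = (ζ (x * w) * ζ 1) * (conj (ζ (x * w)) * ζ 1) := by ring
    _ = (ζ w * ζ x) * (conj (ζ w) * conj (ζ x)) := by rw [h1, h3]
    _ = (ζ w * conj (ζ w)) * (ζ x * conj (ζ x)) := by ring
    _ = ζ x * conj (ζ x) * ζ 1 ^ 2 := by rw [h2]; ring

theorem conj_invariant (hirr : IsIrrCharacter G ζ) (c x : G) : ζ (c * x * c⁻¹) = ζ x :=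
  Cfsg.Agent.Lib.Helper80_CharBasic.irr_conj (⟨ζ, hirr⟩ : IrrCharacter G) x c

open scoped Classical in
/-- the sum over `P ∖ 1` -/
theorem sum_P [Fintype ↥(P : Subgroup G)] (h : Hyp G p P ζ) (hl : Loc G p P ζ) :
    ∑ x : ↥(P : Subgroup G), (if x ≠ 1 then ζ (x : G) * conj (ζ (x : G)) else 0) =
      2 * (p : ℂ) - 4 := by
  classical
  obtain ⟨lam, hlam1, hval⟩ := hl.vals
  have hp2 : Nat.Coprime 2 p := by
    apply (Nat.coprime_primes Nat.prime_two hp.out).mpr
    have := h.p5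
    omega
  have hpow : ∀ x : ↥(P : Subgroup G), (lam x) ^ p = 1 := by
    intro x
    rw [← map_pow]
    have : x ^ p = 1 := by
      have := pow_card_eq_one' (G := ↥(P : Subgroup G)) (x := x)
      rwa [h.cardP] at this
    rw [this, map_one]
  have hnorm : ∀ x : ↥(P : Subgroup G), ‖((lam x : ℂˣ) : ℂ)‖ = 1 := by
    intro x
    apply Complex.norm_eq_one_of_pow_eq_one (n := p) _ hp.out.ne_zero
    have := congrArg (fun u : ℂˣ => (u : ℂ)) (hpow x)
    simpa using this
  have hne2 : lam ^ 2 ≠ 1 := by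
    intro h2
    apply hlam1
    ext x
    have h2x : (lam x) ^ 2 = 1 := by
      have := DFunLike.congr_fun h2 x
      simpa [MonoidHom.pow_apply] using this
    have := pow_gcd_eq_one.mpr ⟨h2x, hpow x⟩
    rw [Nat.Coprime.gcd_eq_one hp2, pow_one] at this
    rw [this]; rfl
  have hne2' : (lam ^ 2)⁻¹ ≠ 1 := by
    intro h2
    apply hne2
    ext x
    have := DFunLike.congr_fun h2 x
    simp only [MonoidHom.inv_apply, MonoidHom.one_apply, inv_eq_one] at this
    rw [this]; rfl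
  have hs1 := Cfsg.Agent.S1504.sum_units_hom_eq_zero (lam ^ 2) hne2
  have hs2 := Cfsg.Agent.S1504.sum_units_hom_eq_zero ((lam ^ 2)⁻¹) hne2'
  set F : ↥(P : Subgroup G) → ℂ := fun x =>
    (((lam ^ 2) x : ℂˣ) : ℂ) + 2 + ((((lam ^ 2)⁻¹) x : ℂˣ) : ℂ) with hF
  have hterm : ∀ x : ↥(P : Subgroup G),
      (if x ≠ 1 then ζ (x : G) * conj (ζ (x : G)) else 0) = F x - (if x = 1 then (4 : ℂ) else 0) := by
    intro x
    by_cases hx : x = 1
    · subst hx
      simp only [ne_eq, not_true_eq_false, if_false, if_true, hF, map_one, Units.val_one]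
      norm_num
    · rw [if_pos hx, if_neg hx, sub_zero, hval x hx]
      have hu := hnorm x
      have hinv : (((lam x)⁻¹ : ℂˣ) : ℂ) = ((lam x : ℂˣ) : ℂ)⁻¹ := Units.val_inv_eq_inv_val _
      have hc : conj ((lam x : ℂˣ) : ℂ) = ((lam x : ℂˣ) : ℂ)⁻¹ := (Complex.inv_eq_conj hu).symm
      have hune : ((lam x : ℂˣ) : ℂ) ≠ 0 := Units.ne_zero _
      simp only [hF, MonoidHom.pow_apply, MonoidHom.inv_apply, Units.val_pow_eq_pow_val,
        Units.val_inv_eq_inv_val]
      rw [map_neg, map_add, map_inv₀, hc, inv_inv]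
      field_simp
      ring
  simp only [hterm]
  rw [Finset.sum_sub_distrib, Finset.sum_ite_eq' Finset.univ (1 : ↥(P : Subgroup G)),
    if_pos (Finset.mem_univ _)]
  simp only [hF]
  rw [Finset.sum_add_distrib, Finset.sum_add_distrib, hs1, hs2, Finset.sum_const, Finset.card_univ,
    ← Nat.card_eq_fintype_card, h.cardP]
  simp only [nsmul_eq_mul]
  ring

open scoped Classical in
/-- the sum over `P' ∖ 1` for an arbitrary Sylow `p`-subgroup `P'` -/
theorem sum_sylow [Fintype G] (h : Hyp G p P ζ) (hl : Loc G p P ζ) (P' : Sylow p G) :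
    ∑ x : G, (if x ∈ P' ∧ x ≠ 1 then ζ x * conj (ζ x) else 0) = 2 * (p : ℂ) - 4 := by
  haveI : Fintype ↥(P : Subgroup G) := Fintype.ofFinite _
  obtain ⟨c, hc⟩ := MulAction.exists_smul_eq G P P'
  rw [← sum_P h hl]
  rw [← Equiv.sum_comp (MulAut.conj c).toEquiv]
  have hterm : ∀ x₀ : G,
      (if (MulAut.conj c).toEquiv x₀ ∈ P' ∧ (MulAut.conj c).toEquiv x₀ ≠ 1 then
        ζ ((MulAut.conj c).toEquiv x₀) * conj (ζ ((MulAut.conj c).toEquiv x₀)) else 0) =
      (if x₀ ∈ (P : Subgroup G) then (if x₀ ≠ 1 then ζ x₀ * conj (ζ x₀) else 0) else 0) := by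
    intro x₀
    have e0 : (MulAut.conj c).toEquiv x₀ = c * x₀ * c⁻¹ := rfl
    rw [e0, conj_invariant h.irr]
    have e1 : c * x₀ * c⁻¹ ∈ P' ↔ x₀ ∈ (P : Subgroup G) := by
      rw [← hc, mem_smul_sylow_iff]
      have : c⁻¹ * (c * x₀ * c⁻¹) * c = x₀ := by group
      rw [this]; rfl
    have e2 : c * x₀ * c⁻¹ ≠ 1 ↔ x₀ ≠ 1 := by
      rw [ne_eq, ne_eq, not_iff_not]
      constructor
      · intro h1
        have : x₀ = c⁻¹ * (c * x₀ * c⁻¹) * c := by group
        rw [this, h1]; group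
      · intro h1
        rw [h1]; group
    by_cases hm : x₀ ∈ (P : Subgroup G)
    · rw [if_pos hm]
      by_cases h1 : x₀ ≠ 1
      · rw [if_pos h1, if_pos ⟨e1.mpr hm, e2.mpr h1⟩]
      · rw [if_neg h1, if_neg (fun hh => h1 (e2.mp hh.2))]
    · rw [if_neg hm, if_neg (fun hh => hm (e1.mp hh.1))]
  simp only [hterm]
  rw [← Finset.sum_filter]
  rw [Finset.sum_subtype (Finset.univ.filter (fun x₀ : G => x₀ ∈ (P : Subgroup G)))
    (p := fun x₀ : G => x₀ ∈ (P : Subgroup G)) (by intro x; simp)]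
  apply Finset.sum_congr rfl
  intro x _
  have : ((x : G) ≠ 1) ↔ x ≠ 1 := by
    rw [ne_eq, ne_eq, not_iff_not]
    exact ⟨fun hh => Subtype.ext hh, fun hh => congrArg Subtype.val hh⟩
  by_cases h1 : x ≠ 1
  · rw [if_pos h1, if_pos (this.mpr h1)]
  · rw [if_neg h1, if_neg (fun hh => h1 (this.mp hh))]

end chars

section main

variable {G : Type u} [Group G] [Fintype G] {p : ℕ} [hp : Fact p.Prime] {P : Sylow p G}
  {ζ : G → ℂ} {k₂ : ℕ}

/-- **P2-PSING** -/
theorem psing_sum (h : Hyp G p P ζ) (hl : Loc G p P ζ) :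
    ∑ g : G, (if p ∣ orderOf g then ζ g * conj (ζ g) else 0) =
      ((Nat.card (Sylow p G) * Nat.card (Subgroup.center G) * (2 * p - 4) : ℕ) : ℂ) := by
  classical
  haveI : Fintype (Sylow p G) := Fintype.ofFinite _
  set f : G → ℂ := fun g => ζ g * conj (ζ g) with hf
  set T : Finset (Sylow p G × G × G) := Finset.univ.filter
    (fun t => t.2.1 ∈ t.1 ∧ t.2.1 ≠ 1 ∧ t.2.2 ∈ Subgroup.center G) with hT
  have hmemT : ∀ t, t ∈ T ↔ (t.2.1 ∈ t.1 ∧ t.2.1 ≠ 1 ∧ t.2.2 ∈ Subgroup.center G) := by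
    intro t
    rw [hT, Finset.mem_filter]
    simp
  have e1 : ∑ g : G, (if p ∣ orderOf g then f g else 0) = ∑ t ∈ T, f (t.2.1 * t.2.2) := by
    rw [← Finset.sum_filter]
    symm
    apply Finset.sum_nbij (fun t => t.2.1 * t.2.2)
    · intro t ht
      obtain ⟨h1, h2, h3⟩ := (hmemT t).mp ht
      rw [Finset.mem_filter]
      exact ⟨Finset.mem_univ _, dvd_orderOf_mul h t.1 h1 h2 h3⟩
    · intro t ht t' ht' heq
      obtain ⟨h1, h2, h3⟩ := (hmemT t).mp ht
      obtain ⟨h1', h2', h3'⟩ := (hmemT t').mp ht'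
      obtain ⟨a, b, c⟩ := inj_aux h t.1 t'.1 h1 h2 h3 h1' h2' h3' heq
      exact Prod.ext a (Prod.ext b c)
    · intro g hg
      have hg' : p ∣ orderOf g := by
        have := Finset.mem_coe.mp hg
        rw [Finset.mem_filter] at this
        exact this.2
      obtain ⟨P', x, w, hx, hx1, hw, hxw⟩ := surj_aux h hl hg'
      exact ⟨(P', x, w), Finset.mem_coe.mpr ((hmemT _).mpr ⟨hx, hx1, hw⟩), hxw⟩
    · intro t _
      rfl
  have e2 : ∑ t ∈ T, f (t.2.1 * t.2.2) = ∑ t ∈ T, f t.2.1 := by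
    apply Finset.sum_congr rfl
    intro t ht
    obtain ⟨h1, h2, h3⟩ := (hmemT t).mp ht
    exact normSq_mul_central h.irr h3 _
  have e3 : ∑ t ∈ T, f t.2.1 = ∑ P' : Sylow p G, ∑ x : G, ∑ w : G,
      (if x ∈ P' ∧ x ≠ 1 ∧ w ∈ Subgroup.center G then f x else 0) := by
    rw [hT, Finset.sum_filter, Fintype.sum_prod_type]
    apply Finset.sum_congr rfl
    intro P' _
    rw [Fintype.sum_prod_type]
  have hcardZ : (Finset.univ.filter (fun w : G => w ∈ Subgroup.center G)).card =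
      Nat.card (Subgroup.center G) := by
    rw [Nat.card_eq_fintype_card, Fintype.card_subtype]
  have e4 : ∀ (P' : Sylow p G) (x : G), ∑ w : G,
      (if x ∈ P' ∧ x ≠ 1 ∧ w ∈ Subgroup.center G then f x else 0) =
      (Nat.card (Subgroup.center G) : ℂ) * (if x ∈ P' ∧ x ≠ 1 then f x else 0) := by
    intro P' x
    by_cases hx : x ∈ P' ∧ x ≠ 1
    · rw [if_pos hx]
      have : ∀ w : G, (if x ∈ P' ∧ x ≠ 1 ∧ w ∈ Subgroup.center G then f x else 0) =
          (if w ∈ Subgroup.center G then f x else 0) := by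
        intro w
        by_cases hw : w ∈ Subgroup.center G
        · rw [if_pos hw, if_pos ⟨hx.1, hx.2, hw⟩]
        · rw [if_neg hw, if_neg (fun hh => hw hh.2.2)]
      simp only [this]
      rw [← Finset.sum_filter, Finset.sum_const, hcardZ, nsmul_eq_mul]
    · rw [if_neg hx, mul_zero]
      apply Finset.sum_eq_zero
      intro w _
      rw [if_neg (fun hh => hx ⟨hh.1, hh.2.1⟩)]
  have hcast : ((Nat.card (Sylow p G) * Nat.card (Subgroup.center G) * (2 * p - 4) : ℕ) : ℂ) =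
      (Nat.card (Sylow p G) : ℂ) * ((Nat.card (Subgroup.center G) : ℂ) * (2 * (p : ℂ) - 4)) := by
    have h4 : 4 ≤ 2 * p := by have := h.p5; omega
    rw [Nat.cast_mul, Nat.cast_mul, Nat.cast_sub h4]
    push_cast
    ring
  rw [hcast]
  show ∑ g : G, (if p ∣ orderOf g then f g else 0) = _
  rw [e1, e2, e3]
  simp only [e4]
  simp only [← Finset.mul_sum]
  have e5 : ∀ P' : Sylow p G, ∑ x : G, (if x ∈ P' ∧ x ≠ 1 then f x else 0) = 2 * (p : ℂ) - 4 :=
    fun P' => sum_sylow h hl P'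
  simp only [e5]
  rw [Finset.sum_const, Finset.card_univ, ← Nat.card_eq_fintype_card, nsmul_eq_mul]
  ring

end main

end Cfsg.Agent.Lib.Helper93_P2_PSING
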