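import Mathlib
import Cfsg.Prelude.Def_Characters
import Cfsg.Prelude.Def_Blocks
import Cfsg.Prelude.Def_Solvable
import Cfsg.Prelude.Def_Local
import Cfsg.Agent.Lib.Helper3_P2Defs
import Cfsg.Agent.Lib.Helper16_GenSetup
import Cfsg.Agent.Lib.Helper16_GenMain
import Cfsg.Agent.Lib.Helper16_GenFinal
import Cfsg.Agent.Lib.Helper76_GalConj
import Cfsg.Agent.Lib.Helper60_P2_CARDN
import Cfsg.Agent.Lib.Helper31_P2_PREG
import Cfsg.Agent.Lib.Helper93_P2_PSING

/-!
# S4705 package P2-E1 (helper31, architect helper3)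

Equation (E1): `4 n_p = (p-2)² + i`.  `eqE1_of` takes the conclusion of P2-PSING as a hypothesis.
-/

set_option autoImplicit false
set_option linter.unusedSectionVars false
set_option linter.unusedVariables false

namespace Cfsg.Agent.Lib.Helper31_P2_E1

open Cfsg Cfsg.Agent.Lib.Helper3_P2Defs Cfsg.Agent.Lib.Helper16_GenSetup
  Cfsg.Agent.Lib.Helper16_GenMain Cfsg.Agent.Lib.Helper16_GenFinal
open scoped ComplexConjugate

universe u

section partB3

variable {G : Type u} [Group G] [Fintype G] {p : ℕ} [hp : Fact p.Prime] {P : Sylow p G}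
  {ζ : G → ℂ} {k₂ : ℕ}

/-- `∑ ζ g conj (ζ g) = |G|` -/
theorem sum_mul_conj (hirr : IsIrrCharacter G ζ) :
    ∑ g : G, ζ g * conj (ζ g) = (Nat.card G : ℂ) := by
  have h := Helper76_GalConj.sum_normSq (⟨ζ, hirr⟩ : IrrCharacter G)
  have h2 : ∀ g : G, ζ g * conj (ζ g) = ((Complex.normSq (ζ g) : ℝ) : ℂ) := fun g =>
    Complex.mul_conj (ζ g)
  rw [Finset.sum_congr rfl (fun g _ => h2 g), ← Complex.ofReal_sum]
  change ∑ g : G, Complex.normSq (ζ g) = (Nat.card G : ℝ) at h
  rw [h]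
  norm_cast

/-- **P2-E1**, with the conclusion of P2-PSING as a hypothesis. -/
theorem eqE1_of (hc : Core G p P ζ k₂) (hinv : ∀ u : G, orderOf u = 2 → ζ u = -1)
    (hreg : RegVals G p ζ)
    (hps : ∑ g : G, (if p ∣ orderOf g then ζ g * conj (ζ g) else 0) =
      ((Nat.card (Sylow p G) * Nat.card (Subgroup.center G) * (2 * p - 4) : ℕ) : ℂ)) :
    4 * Nat.card (Sylow p G) = (p - 2) ^ 2 + Nat.card {u : G // orderOf u = 2} := by
  have hp5 := hc.p5
  have hpr := Helper31_P2_PREG.preg_sum hc hinv hreg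
  have hG := (Helper60_P2_CARDN.card_G hc.toHyp hc.toLoc).2
  have htot := sum_mul_conj hc.irr
  have hsplit : ∑ g : G, ζ g * conj (ζ g) =
      ∑ g : G, (if p ∣ orderOf g then ζ g * conj (ζ g) else 0) +
      ∑ g : G, (if p ∣ orderOf g then 0 else ζ g * conj (ζ g)) := by
    rw [← Finset.sum_add_distrib]
    refine Finset.sum_congr rfl (fun g _ => ?_)
    by_cases hg : p ∣ orderOf g
    · rw [if_pos hg, if_pos hg, add_zero]
    · rw [if_neg hg, if_neg hg, zero_add]
  rw [hsplit, hps, hpr, hG] at htot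
  have hN : Nat.card (Sylow p G) * Nat.card (Subgroup.center G) * (2 * p - 4) +
      Nat.card (Subgroup.center G) * ((p - 2) ^ 2 + Nat.card {u : G // orderOf u = 2}) =
      Nat.card (Sylow p G) * (2 * p * Nat.card (Subgroup.center G)) := by
    exact_mod_cast htot
  have hz : 0 < Nat.card (Subgroup.center G) := Nat.card_pos
  set z := Nat.card (Subgroup.center G) with hzdef
  set n := Nat.card (Sylow p G) with hndef
  set i := Nat.card {u : G // orderOf u = 2} with hidef
  have h2 : z * (n * (2 * p - 4) + ((p - 2) ^ 2 + i)) = z * (n * (2 * p)) := by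
    rw [mul_add]
    calc z * (n * (2 * p - 4)) + z * ((p - 2) ^ 2 + i)
        = n * z * (2 * p - 4) + z * ((p - 2) ^ 2 + i) := by ring
      _ = n * (2 * p * z) := hN
      _ = z * (n * (2 * p)) := by ring
  have h3 := Nat.eq_of_mul_eq_mul_left hz h2
  obtain ⟨q, rfl⟩ : ∃ q, p = q + 2 := ⟨p - 2, by omega⟩
  have h4 : 2 * (q + 2) - 4 = 2 * q := by omega
  rw [h4] at h3
  simp only [Nat.add_sub_cancel] at h3 ⊢
  nlinarith

/-- **P2-E1** -/
theorem eqE1 (hc : Core G p P ζ k₂) (hinv : ∀ u : G, orderOf u = 2 → ζ u = -1)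
    (hreg : RegVals G p ζ) :
    4 * Nat.card (Sylow p G) = (p - 2) ^ 2 + Nat.card {u : G // orderOf u = 2} :=
  eqE1_of hc hinv hreg (Cfsg.Agent.Lib.Helper93_P2_PSING.psing_sum hc.toHyp hc.toLoc)

end partB3

end Cfsg.Agent.Lib.Helper31_P2_E1
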