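import Mathlib
import Cfsg.Prelude.Def_Characters
import Cfsg.Prelude.Def_Blocks
import Cfsg.Prelude.Def_Solvable
import Cfsg.Prelude.Def_Local
import Cfsg.Agent.Lib.Helper3_P2Defs
import Cfsg.Agent.Lib.Helper16_GenSetup
import Cfsg.Agent.Lib.Helper16_GenMain
import Cfsg.Agent.Lib.Helper16_GenFinal

/-!
# S4705 package P2-NO4 (helper31, architect helper3)

There are no elements of order `4`.
-/

set_option autoImplicit false
set_option linter.unusedSectionVars false
set_option linter.unusedVariables false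

namespace Cfsg.Agent.Lib.Helper31_P2_NO4

open Cfsg Cfsg.Agent.Lib.Helper3_P2Defs Cfsg.Agent.Lib.Helper16_GenSetup
  Cfsg.Agent.Lib.Helper16_GenMain Cfsg.Agent.Lib.Helper16_GenFinal
open scoped ComplexConjugate

universe u

section partB2

variable {G : Type u} [Group G] [Finite G] {p : ℕ} [hp : Fact p.Prime] {P : Sylow p G}
  {ζ : G → ℂ} {k₂ : ℕ}

/-- **P2-NO4** -/
theorem no4 (hc : Core G p P ζ k₂) (hinv : ∀ u : G, orderOf u = 2 → ζ u = -1) :
    ∀ u : G, orderOf u ≠ 4 := by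
  intro u hu
  have hp5 := hc.p5
  obtain ⟨m, hm⟩ := hc.rat2 u ⟨2, by rw [hu]; norm_num⟩
  have hk : u ^ k₂ = u := hc.k2two u ⟨2, by rw [hu]; norm_num⟩
  have hpn : ¬ p ∣ orderOf u := by
    rw [hu]
    intro hdvd
    have := Nat.le_of_dvd (by norm_num) hdvd
    omega
  have huu : orderOf (u * u) = 2 := by
    rw [← pow_two, orderOf_pow, hu]
    norm_num
  have hkey := hc.key u hpn
  rw [hinv _ huu, hk, hm] at hkey
  have hp1 : ((p : ℤ) : ℂ) = (p : ℂ) := by norm_cast
  have hZ : (-1 : ℤ) = m ^ 2 - ((p : ℤ) - 3) * m := by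
    have : ((-1 : ℤ) : ℂ) = ((m ^ 2 - ((p : ℤ) - 3) * m : ℤ) : ℂ) := by
      push_cast
      linear_combination hkey
    exact_mod_cast this
  have hdvd : m ∣ 1 := ⟨(p : ℤ) - 3 - m, by linarith⟩
  have hm1 : m = 1 ∨ m = -1 := by
    rcases Int.isUnit_iff.mp (isUnit_of_dvd_one hdvd) with h | h
    · exact Or.inl h
    · exact Or.inr h
  rcases hm1 with rfl | rfl
  · have : (p : ℤ) = 5 := by linarith
    omega
  · have : (p : ℤ) = 1 := by linarith
    omega

end partB2

end Cfsg.Agent.Lib.Helper31_P2_NO4
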