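import Mathlib
import Cfsg.Agent.Lib.Helper37_Good
import Cfsg.Agent.S0261

/-!
# S2787 package QUATBAD (helper31, architect helper37): generalised quaternion groups are not good
-/

set_option autoImplicit false

namespace Cfsg.Agent.Lib.Helper31_Quad_QUATBAD

open Cfsg.Agent.Lib.Helper37_Good

/-- `QuaternionGroup n`, `n ≥ 2`, is not good -/
theorem quaternion_not_good' (n : ℕ) (hn2 : 2 ≤ n) : ¬ Good (QuaternionGroup n) := by
  rintro ⟨C, hC, h2⟩
  -- `a n ≠ 1`
  have han : (QuaternionGroup.a (n : ZMod (2 * n)) : QuaternionGroup n) ≠ 1 := by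
    intro h
    rw [QuaternionGroup.one_def, QuaternionGroup.a.injEq, ZMod.natCast_eq_zero_iff] at h
    have := Nat.le_of_dvd (by omega) h
    omega
  have hx0 : (QuaternionGroup.xa 0 : QuaternionGroup n) ∈ C := by
    by_contra hx
    have := h2 _ hx
    rw [QuaternionGroup.xa_mul_xa, add_zero, sub_zero] at this
    exact han this
  have hx1 : (QuaternionGroup.xa 1 : QuaternionGroup n) ∈ C := by
    by_contra hx
    have := h2 _ hx
    rw [QuaternionGroup.xa_mul_xa, add_sub_cancel_right] at this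
    exact han this
  -- the two elements commute
  have hcomm : (QuaternionGroup.xa 0 : QuaternionGroup n) * QuaternionGroup.xa 1 =
      QuaternionGroup.xa 1 * QuaternionGroup.xa 0 := by
    have hc : ∀ x y : ↥C, x * y = y * x := isMulCommutative_iff.mp inferInstance
    exact congrArg Subtype.val (hc ⟨_, hx0⟩ ⟨_, hx1⟩)
  rw [QuaternionGroup.xa_mul_xa, QuaternionGroup.xa_mul_xa, QuaternionGroup.a.injEq] at hcomm
  have h20 : ((2 : ℕ) : ZMod (2 * n)) = 0 := by
    push_cast
    linear_combination hcomm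
  rw [ZMod.natCast_eq_zero_iff] at h20
  have := Nat.le_of_dvd (by norm_num) h20
  omega

theorem quaternion_not_good (k : ℕ) (hk : 1 ≤ k) : ¬ Good (QuaternionGroup (2 ^ k)) := by
  apply quaternion_not_good'
  calc 2 = 2 ^ 1 := by norm_num
    _ ≤ 2 ^ k := Nat.pow_le_pow_right (by norm_num) hk

theorem sylow_sl2_not_good {F : Type*} [Field F] [Fintype F] (hF : Odd (Fintype.card F))
    (P : Sylow 2 (Matrix.SpecialLinearGroup (Fin 2) F)) :
    ¬ Good ↥(P : Subgroup (Matrix.SpecialLinearGroup (Fin 2) F)) := by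
  intro hG
  obtain ⟨k, hk, ⟨e⟩⟩ := Cfsg.Agent.S0261.result hF P
  exact quaternion_not_good k hk (hG.of_mulEquiv e)

end Cfsg.Agent.Lib.Helper31_Quad_QUATBAD
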