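import Mathlib
import Cfsg.Agent.Lib.Helper71_S2149Defs

/-!
# S2149-M2T: `SU(3,5)` is 2-transitive on the 126 isotropic points

helper31, package of helper71's S2149 market.  Transitivity on the nonzero isotropic vectors comes
from helper91's closure certificate `all_of_base` (the three base vectors are reached from `u0` by
two transvections each); the stabiliser of the point `0` is transitive on the other 125 points by an
explicit table of words in transvections (each word fixes the point `0` and maps the point `1` to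
the `i`-th point).
-/

set_option autoImplicit false

namespace Cfsg.Agent.Lib.Helper31_S2149_M2T

open Cfsg.Agent.Lib.Helper91_K25 Cfsg.Agent.Lib.Helper91_U3Pts Cfsg.Agent.Lib.Helper91_U3Theta
  Cfsg.Agent.Lib.Helper91_U3Closure Cfsg.Agent.Lib.Helper71_S2149Defs Matrix

/-- the action of a word of transvections on a vector -/
def wact (ws : List V) (x : V) : V := ws.foldr tv x

/-- a word in transvections with isotropic centres is realised by an element of `SU3` -/
theorem exists_word (ws : List V) (h : ∀ w ∈ ws, hf w w = 0) :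
    ∃ g : SU3, ∀ x : V, toM g *ᵥ x = wact ws x := by
  induction ws with
  | nil =>
    refine ⟨1, fun x => ?_⟩
    rw [map_one, Matrix.one_mulVec]
    rfl
  | cons w ws ih =>
    obtain ⟨g, hg⟩ := ih (fun w' hw' => h w' (List.mem_cons_of_mem _ hw'))
    refine ⟨T w (h w List.mem_cons_self) * g, fun x => ?_⟩
    rw [map_mul, ← Matrix.mulVec_mulVec, hg, T_mulVec]
    rfl

set_option maxRecDepth 100000 in
theorem base_check :
    (∀ w ∈ [dec 1502, dec 54], hf w w = 0) ∧ wact [dec 1502, dec 54] u0 = dec 3366 ∧
    (∀ w ∈ [dec 1323, dec 63], hf w w = 0) ∧ wact [dec 1323, dec 63] u0 = dec 1126 ∧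
    (∀ w ∈ [dec 1790, dec 31], hf w w = 0) ∧ wact [dec 1790, dec 31] u0 = dec 1545 ∧
    hf (dec 3366) (dec 3366) = 0 ∧ hf (dec 1126) (dec 1126) = 0 ∧
    hf (dec 1545) (dec 1545) = 0 := by
  decide +kernel

/-- `SU3` is transitive on the nonzero isotropic vectors -/
theorem vec_trans (v : V) (hv : hf v v = 0) (hv0 : v ≠ 0) :
    hf v v = 0 ∧ ∃ g : SU3, toM g *ᵥ u0 = v := by
  obtain ⟨a1, a2, b1, b2, c1, c2, d1, d2, d3⟩ := base_check
  refine all_of_base (fun v => hf v v = 0 ∧ ∃ g : SU3, toM g *ᵥ u0 = v) ?_ ?_ v hv hv0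
  · intro n hn
    simp only [baseCodes, List.mem_cons, List.not_mem_nil, or_false] at hn
    rcases hn with rfl | rfl | rfl
    · obtain ⟨g, hg⟩ := exists_word _ a1
      exact ⟨d1, g, by rw [hg, a2]⟩
    · obtain ⟨g, hg⟩ := exists_word _ b1
      exact ⟨d2, g, by rw [hg, b2]⟩
    · obtain ⟨g, hg⟩ := exists_word _ c1
      exact ⟨d3, g, by rw [hg, c2]⟩
  · rintro u x ⟨hu, -⟩ ⟨hx, g, hg⟩
    refine ⟨hf_tv u x hu hx, T u hu * g, ?_⟩
    rw [map_mul, ← Matrix.mulVec_mulVec, hg, T_mulVec]

/-- `SU3` is transitive on the 126 isotropic points -/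
theorem pt_trans (i : Fin 126) : ∃ g : SU3, thetaX g 0 = i := by
  obtain ⟨h1, h2⟩ := pt_iso (iota i) i.2
  obtain ⟨-, g, hg⟩ := vec_trans (pt (iota i)) h1 h2
  refine ⟨g, iota_injective ?_⟩
  rw [thetaX_spec, theta_apply]
  show nrm (toM g *ᵥ u0) = iota i
  rw [hg, nrm_pt]

/-- for each point `i ≠ 0` a word in transvections fixing the point `0` and mapping `1` to `i` -/
def wordTab : List (List ℕ) := [
  [],
  [],
  [3531,670,3484,885,3531,670,3484,885],
  [3531,670,4937,664,3531,670],
  [3531,670,3531,670,3531,670,4937,664],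
  [3531,670,4937,664,4937,664],
  [3484,885,3531,670,3484,885,4937,664,4937,664],
  [4937,664,3484,885,4937,664,3484,885,4937,664],
  [3484,885,3484,885,4937,664,3531,670],
  [3531,670,3531,670,4937,664],
  [3531,670,3484,885,3484,885,4937,664,3531,670],
  [4937,664,3484,885,4937,664,3531,670],
  [3484,885,3531,670,3531,670,4937,664],
  [3531,670,3484,885,3531,670,3531,670],
  [3484,885,3484,885,3531,670,4937,664],
  [3484,885,3531,670,3484,885,3484,885],
  [4937,664,3531,670,4937,664,3531,670],
  [3484,885,3531,670,3531,670],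
  [4937,664,4937,664,3484,885,3484,885],
  [4937,664,4937,664,4937,664],
  [3531,670,3484,885,4937,664,4937,664],
  [3531,670,3484,885],
  [3531,670,3484,885,4937,664],
  [3484,885,3531,670,4937,664,4937,664],
  [4937,664,4937,664,3484,885,3484,885,3484,885],
  [3484,885,4937,664,3531,670,4937,664,3484,885],
  [3484,885,3531,670,4937,664,3484,885,3484,885],
  [3484,885,4937,664,3531,670,4937,664,4937,664],
  [4937,664,3484,885,4937,664],
  [4937,664,3531,670,3484,885,4937,664],
  [3484,885,4937,664,4937,664,4937,664],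
  [4937,664,3531,670,4937,664,3484,885,3531,670],
  [4937,664,3531,670,3484,885,4937,664,4937,664],
  [3531,670,3531,670,3531,670,4937,664,3484,885],
  [3484,885,3484,885,3531,670],
  [4937,664,4937,664,4937,664,3484,885,4937,664],
  [4937,664,3484,885],
  [3484,885,3531,670,3484,885,4937,664,3531,670],
  [4937,664,4937,664,3484,885,4937,664],
  [3484,885,3531,670,3484,885],
  [4937,664,3531,670,4937,664,3484,885,3484,885],
  [4937,664,3484,885,3531,670,4937,664],
  [3484,885,3531,670,3531,670,4937,664,4937,664],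
  [4937,664,3484,885,3484,885,3531,670],
  [3484,885,3484,885,3484,885,4937,664],
  [4937,664,3484,885,3531,670,3531,670,4937,664],
  [4937,664,4937,664,3531,670],
  [3484,885,3484,885,4937,664,4937,664,4937,664],
  [3484,885,4937,664,3484,885],
  [4937,664],
  [4937,664,3531,670,4937,664,3484,885],
  [4937,664,4937,664,3484,885],
  [4937,664,3531,670,3484,885,4937,664,3484,885],
  [3484,885,3484,885,3531,670,3531,670],
  [3531,670,4937,664,3531,670,3484,885,4937,664],
  [3531,670,3484,885,3484,885,3531,670,3484,885],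
  [4937,664,3484,885,3484,885],
  [3484,885,3531,670,4937,664,3531,670],
  [3531,670,3531,670,3484,885,3531,670],
  [3531,670,4937,664,3484,885,4937,664],
  [3484,885,3484,885,4937,664,4937,664],
  [3484,885,3484,885,3484,885],
  [4937,664,3484,885,3531,670,4937,664,3484,885],
  [4937,664,3531,670],
  [3531,670,3484,885,4937,664,3531,670],
  [3484,885,3531,670,3531,670,3531,670,4937,664],
  [3484,885,3484,885,3531,670,3484,885],
  [3531,670,3531,670,3531,670,4937,664,4937,664],
  [3531,670,3531,670,4937,664,4937,664],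
  [4937,664,3531,670,3531,670,4937,664],
  [3484,885,4937,664,4937,664,3531,670],
  [4937,664,3484,885,4937,664,3484,885],
  [4937,664,4937,664,3484,885,4937,664,4937,664],
  [3484,885,4937,664,4937,664],
  [3531,670,3484,885,3484,885,3531,670],
  [3531,670,3484,885,3531,670,4937,664,4937,664],
  [3531,670,3531,670,3531,670],
  [3484,885,3531,670,4937,664],
  [4937,664,4937,664,4937,664,3484,885],
  [3531,670,4937,664],
  [3531,670,3531,670],
  [4937,664,4937,664],
  [3531,670,3531,670,3484,885],
  [3484,885,4937,664],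
  [4937,664,3531,670,3484,885,3531,670],
  [3531,670,3484,885,3484,885,3484,885],
  [4937,664,3531,670,4937,664,3484,885,4937,664],
  [4937,664,3531,670,3531,670,3531,670],
  [3531,670,3484,885,3484,885,4937,664,4937,664],
  [4937,664,4937,664,3484,885,3531,670],
  [3531,670,3531,670,3484,885,4937,664],
  [3531,670],
  [4937,664,3484,885,4937,664,4937,664],
  [3484,885,3531,670,3484,885,4937,664,3484,885],
  [3484,885,4937,664,3531,670],
  [3531,670,4937,664,3531,670,3531,670,3484,885],
  [3484,885,3531,670],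
  [3484,885,3531,670,4937,664,4937,664,3484,885],
  [3484,885,3484,885,3484,885,4937,664,4937,664],
  [3531,670,4937,664,3484,885,3531,670],
  [4937,664,3484,885,3484,885,4937,664],
  [3531,670,4937,664,3484,885],
  [4937,664,3484,885,3531,670,4937,664,4937,664],
  [4937,664,3484,885,3531,670],
  [3531,670,4937,664,4937,664,3484,885],
  [3484,885,3484,885],
  [3531,670,3484,885,3531,670,4937,664],
  [3531,670,3484,885,3531,670,3531,670,4937,664],
  [3531,670,3531,670,3531,670,3484,885],
  [3531,670,3484,885,3484,885,3484,885,4937,664],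
  [3484,885,3531,670,4937,664,3484,885],
  [3531,670,3484,885,3484,885],
  [4937,664,3531,670,3531,670,3484,885],
  [4937,664,3531,670,4937,664,4937,664],
  [3484,885],
  [4937,664,3484,885,3531,670,3484,885],
  [3484,885,4937,664,3484,885,4937,664],
  [3531,670,3484,885,3531,670],
  [3484,885,3484,885,4937,664],
  [4937,664,4937,664,3484,885,4937,664,3484,885],
  [4937,664,3531,670,3484,885,3484,885],
  [3531,670,3484,885,4937,664,3484,885],
  [4937,664,3484,885,3484,885,3484,885],
  [3484,885,3484,885,3531,670,3484,885,3484,885],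
  [3531,670,3531,670,4937,664,3484,885],
  [3531,670,4937,664,3484,885,3484,885]]

/-- one transvection step on codes -/
def stepc (w x : ℕ) : ℕ := code (tv (dec w) (dec x))

/-- the action of a word (of codes) on a code, evaluated strictly -/
def wactc : List ℕ → ℕ → ℕ
  | [], x => x
  | w :: ws, x => strict (wactc ws x) fun y => stepc w y

theorem wactc_spec (ws : List ℕ) (x : V) :
    dec (wactc ws (code x)) = wact (ws.map dec) x := by
  induction ws with
  | nil => exact dec_code x
  | cons w ws ih =>
    show dec (strict (wactc ws (code x)) fun y => stepc w y) = tv (dec w) (wact (ws.map dec) x)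
    rw [strict_eq, ← ih]
    exact dec_code _

/-- the check of the `i`-th word -/
def chk (i : ℕ) : Bool :=
  strict i fun i =>
  (wordTab.getD i []).all (fun w => decide (hf (dec w) (dec w) = 0)) &&
  Nat.beq (nrm (dec (wactc (wordTab.getD i []) 51))).val 0 &&
  Nat.beq (nrm (dec (wactc (wordTab.getD i []) 76))).val i

set_option maxRecDepth 100000 in
theorem code_pts : code (pt (iota 0)) = 51 ∧ code (pt (iota 1)) = 76 := by decide +kernel

set_option maxRecDepth 100000 in
theorem word_check : ∀ i : Fin 126, i ≠ 0 → chk i.val = true := by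
  decide +kernel

/-- the stabiliser of the point `0` is transitive on the other 125 points -/
theorem stab_trans (i : Fin 126) (hi : i ≠ 0) : ∃ g : SU3, thetaX g 0 = 0 ∧ thetaX g 1 = i := by
  have h := word_check i hi
  rw [chk, strict_eq, Bool.and_eq_true, Bool.and_eq_true, List.all_eq_true] at h
  obtain ⟨⟨h1, h2⟩, h3⟩ := h
  have h2' := Nat.eq_of_beq_eq_true h2
  have h3' := Nat.eq_of_beq_eq_true h3
  obtain ⟨c0', c1'⟩ := code_pts
  rw [← c0', wactc_spec] at h2'
  rw [← c1', wactc_spec] at h3'
  obtain ⟨g, hg⟩ := exists_word ((wordTab.getD i.val []).map dec) (by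
    intro w hw
    obtain ⟨n, hn, rfl⟩ := List.mem_map.mp hw
    exact of_decide_eq_true (h1 n hn))
  refine ⟨g, iota_injective (Fin.ext ?_), iota_injective (Fin.ext ?_)⟩
  · rw [thetaX_spec, theta_apply, hg, h2']
    rfl
  · rw [thetaX_spec, theta_apply, hg, h3']
    rfl

/-- **S2149-M2T**: `SU(3,5)` is 2-transitive on the 126 isotropic points. -/
theorem two_trans : TwoTrans thetaX := by
  intro a b c d hab hcd
  obtain ⟨ga, hga⟩ := pt_trans a
  obtain ⟨gc, hgc⟩ := pt_trans c
  have hb : thetaX ga⁻¹ b ≠ 0 := by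
    intro h
    apply hab
    rw [map_inv, Equiv.Perm.inv_eq_iff_eq] at h
    rw [h, hga]
  have hd : thetaX gc⁻¹ d ≠ 0 := by
    intro h
    apply hcd
    rw [map_inv, Equiv.Perm.inv_eq_iff_eq] at h
    rw [h, hgc]
  obtain ⟨k1, hk10, hk11⟩ := stab_trans _ hb
  obtain ⟨k2, hk20, hk21⟩ := stab_trans _ hd
  refine ⟨gc * k2 * k1⁻¹ * ga⁻¹, ?_, ?_⟩
  · have e1 : thetaX ga⁻¹ a = 0 := by
      rw [map_inv, Equiv.Perm.inv_eq_iff_eq, hga]
    have e2 : thetaX k1⁻¹ 0 = 0 := by
      rw [map_inv, Equiv.Perm.inv_eq_iff_eq, hk10]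
    rw [map_mul, map_mul, map_mul, Equiv.Perm.mul_apply, Equiv.Perm.mul_apply,
      Equiv.Perm.mul_apply, e1, e2, hk20, hgc]
  · have e2 : thetaX k1⁻¹ (thetaX ga⁻¹ b) = 1 := by
      rw [map_inv (f := thetaX) k1, Equiv.Perm.inv_eq_iff_eq, hk11]
    have e3 : thetaX gc (thetaX gc⁻¹ d) = d := by
      rw [← Equiv.Perm.mul_apply, ← map_mul, mul_inv_cancel, map_one]
      rfl
    rw [map_mul, map_mul, map_mul, Equiv.Perm.mul_apply, Equiv.Perm.mul_apply,
      Equiv.Perm.mul_apply, e2, hk21, e3]

end Cfsg.Agent.Lib.Helper31_S2149_M2T
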