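import Mathlib

/-!
# S2221: definitions shared by the packages (architect helper54)

The Sylow 2-subgroups of `A_n` are directly decomposable iff `n = 4, 5` or
(`n ≡ 2, 3 mod 4` and `4 * (n / 4)` is not a power of 2).

* `C2`      : the group of order 2
* `W k`     : Mathlib's `IteratedWreathProduct C2 k` (the Sylow 2-subgroup of `S_{2^k}`)
* `emb k`   : its permutation representation on `Fin k → C2`
* `eps k`   : the sign character of `W k`
* `wrSign`  : for `ε : D →* ℤˣ` the character `w ↦ ∏ q, ε (w.left q)` of `D ≀ᵣ C2`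
* `Dec H`   : `H` is the internal direct product of two nontrivial subgroups
* `bits n`  : the set of positions of the binary digits 1 of `n`
* `QJ J`    : `∏ j ∈ J, W j`, with `epsJ J` the product of the signs, `embJ J` its action on `Blk J`
* `WFacts`  : the facts about `W k`, `eps k` used by the second layer
-/

set_option autoImplicit false

namespace Cfsg.Agent.Lib.Helper54_S2221Defs

/-- the group of order 2 -/
abbrev C2 : Type := Multiplicative (ZMod 2)

/-- the Sylow 2-subgroup of `S_{2^k}`, abstractly -/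
abbrev W (k : ℕ) : Type := IteratedWreathProduct C2 k

/-- the permutation representation of `W k` on `2^k` points -/
noncomputable def emb (k : ℕ) : W k →* Equiv.Perm (Fin k → C2) := iteratedWreathToPermHom C2 k

/-- the sign character of `W k` -/
noncomputable def eps (k : ℕ) : W k →* ℤˣ := Equiv.Perm.sign.comp (emb k)

/-- for `ε : D →* ℤˣ` the character `w ↦ ∏ q, ε (w.left q)` of `D ≀ᵣ C2` -/
def wrSign {D : Type*} [Group D] (ε : D →* ℤˣ) : D ≀ᵣ C2 →* ℤˣ where
  toFun w := ∏ q : C2, ε (w.left q)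
  map_one' := by simp
  map_mul' a b := by
    simp only [RegularWreathProduct.mul_left, Pi.mul_apply, map_mul, Finset.prod_mul_distrib]
    congr 1
    exact Fintype.prod_equiv (Equiv.mulLeft a.right⁻¹) _ _ (fun q => rfl)

@[simp] theorem wrSign_apply {D : Type*} [Group D] (ε : D →* ℤˣ) (w : D ≀ᵣ C2) :
    wrSign ε w = ∏ q : C2, ε (w.left q) := rfl

/-- `H` is the internal direct product of two nontrivial subgroups -/
def Dec (H : Type*) [Group H] : Prop :=
  ∃ S₁ S₂ : Subgroup H, S₁ ≠ ⊥ ∧ S₂ ≠ ⊥ ∧ (∀ a ∈ S₁, ∀ b ∈ S₂, a * b = b * a) ∧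
    S₁ ⊓ S₂ = ⊥ ∧ S₁ ⊔ S₂ = ⊤

/-- the positions of the binary digits 1 of `n` -/
def bits (n : ℕ) : Finset ℕ := (Finset.range n).filter (fun j => n.testBit j)

/-- `∏ j ∈ J, W j` -/
abbrev QJ (J : Finset ℕ) : Type := ∀ j : J, W j.1

/-- the product of the sign characters -/
noncomputable def epsJ (J : Finset ℕ) : QJ J →* ℤˣ where
  toFun f := ∏ j : J, eps j.1 (f j)
  map_one' := by simp
  map_mul' f g := by simp [Finset.prod_mul_distrib]

@[simp] theorem epsJ_apply (J : Finset ℕ) (f : QJ J) : epsJ J f = ∏ j : J, eps j.1 (f j) := rfl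

/-- the point set on which `QJ J` acts -/
abbrev Blk (J : Finset ℕ) : Type := Σ j : J, (Fin j.1 → C2)

/-- the action of `QJ J` on `Blk J` -/
noncomputable def embJ (J : Finset ℕ) : QJ J →* Equiv.Perm (Blk J) :=
  (Equiv.Perm.sigmaCongrRightHom (fun j : J => (Fin j.1 → C2))).comp
    (Pi.monoidHom (fun j : J => (emb j.1).comp (Pi.evalMonoidHom (fun j : J => W j.1) j)))

theorem embJ_apply (J : Finset ℕ) (f : QJ J) (j : J) (x : Fin j.1 → C2) :
    embJ J f ⟨j, x⟩ = ⟨j, emb j.1 (f j) x⟩ := rfl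

/-- the projection of `ker (epsJ J)` to the factor `W j` -/
noncomputable def prj (J : Finset ℕ) (j : J) : ↥(epsJ J).ker →* W j.1 :=
  (Pi.evalMonoidHom (fun j : J => W j.1) j).comp (epsJ J).ker.subtype

@[simp] theorem prj_apply (J : Finset ℕ) (j : J) (f : ↥(epsJ J).ker) : prj J j f = f.1 j := rfl

/-- the facts about `W k` and `eps k` used by the second layer -/
structure WFacts : Prop where
  card : ∀ k, Nat.card (W k) = 2 ^ (2 ^ k - 1)
  center_card : ∀ k, 1 ≤ k → Nat.card (Subgroup.center (W k)) = 2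
  center_le_ker : ∀ k, 2 ≤ k → Subgroup.center (W k) ≤ (eps k).ker
  exists_odd : ∀ k, 1 ≤ k → ∃ t : W k, eps k t = -1
  factF : ∀ k, 2 ≤ k → ∀ N₁ N₂ : Subgroup (W k), (∀ a ∈ N₁, ∀ b ∈ N₂, a * b = b * a) →
    N₁ ⊔ N₂ = ⊤ → N₁ = ⊤ ∨ N₂ = ⊤
  center_le_comm : ∀ k, 2 ≤ k → Subgroup.center (W k) ≤ ⁅(⊤ : Subgroup (W k)), (eps k).ker⁆
  center_ker : ∀ k, 3 ≤ k → Nat.card (Subgroup.center ↥(eps k).ker) = 2
  ker_two : Dec ↥(eps 2).ker

end Cfsg.Agent.Lib.Helper54_S2221Defs
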