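import Mathlib
import Cfsg.Prelude.Def_TwoFusion
import Cfsg.Agent.Lib.Helper54_S2221Defs

/-!
# S2221 package KER2 (helper31, architect helper54): `ker (eps 2)` is a four-group, explicitly
decomposable
-/

set_option autoImplicit false

open Cfsg.Agent.Lib.Helper54_S2221Defs

namespace Cfsg.Agent.Lib.Helper31_S2221_KER2

/-- the two elements of `C2` -/
theorem C2_cases (x : C2) : x = 1 ∨ x = Multiplicative.ofAdd 1 := by
  revert x; decide

/-- a product over `C2` has two factors -/
theorem prod_C2 {M : Type*} [CommMonoid M] (f : C2 → M) :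
    ∏ q : C2, f q = f 1 * f (Multiplicative.ofAdd 1) := by
  have : (Finset.univ : Finset C2) = {1, Multiplicative.ofAdd 1} := by decide
  rw [this, Finset.prod_pair (by decide)]

/-- in `ℤˣ`, `a * b = 1` forces `a = b` -/
theorem units_eq_of_mul_eq_one {a b : ℤˣ} (h : a * b = 1) : a = b := by
  calc a = a * (b * b) := by rw [Int.units_mul_self, mul_one]
    _ = (a * b) * b := by rw [mul_assoc]
    _ = b := by rw [h, one_mul]

section generic

variable {D : Type*} [Group D]

/-- for an injective character `ε`, the elements of `ker (wrSign ε)` have constant `left` -/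
theorem left_const (ε : D →* ℤˣ) (hinj : ∀ d d' : D, ε d = ε d' → d = d') {w : D ≀ᵣ C2}
    (hw : w ∈ (wrSign ε).ker) (q : C2) : w.left q = w.left 1 := by
  rw [MonoidHom.mem_ker, wrSign_apply, prod_C2] at hw
  have h := hinj _ _ (units_eq_of_mul_eq_one hw)
  rcases C2_cases q with rfl | rfl
  · rfl
  · exact h.symm

/-- an element with constant `left` lies in `ker (wrSign ε)` -/
theorem mem_ker_of_const (ε : D →* ℤˣ) {w : D ≀ᵣ C2} (hw : ∀ q, w.left q = w.left 1) :
    w ∈ (wrSign ε).ker := by
  rw [MonoidHom.mem_ker, wrSign_apply, prod_C2, hw (Multiplicative.ofAdd 1), Int.units_mul_self]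

/-- `ker (wrSign ε)` is decomposable for an injective character `ε` with value `-1` -/
theorem dec_ker_of (ε : D →* ℤˣ) (hinj : ∀ d d' : D, ε d = ε d' → d = d')
    (hodd : ∃ t : D, ε t = -1) : Dec ↥(wrSign ε).ker := by
  obtain ⟨t, ht⟩ := hodd
  have ht1 : t ≠ 1 := by
    rintro rfl
    rw [map_one] at ht
    exact absurd ht (by decide)
  -- the base part and the top part
  let S₁ : Subgroup ↥(wrSign ε).ker :=
    { carrier := {x | x.1.right = 1}
      mul_mem' := by
        intro a b ha hb
        simp only [Set.mem_ofPred_eq] at ha hb ⊢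
        rw [Subgroup.coe_mul, RegularWreathProduct.mul_right, ha, hb, one_mul]
      one_mem' := rfl
      inv_mem' := by
        intro a ha
        simp only [Set.mem_ofPred_eq] at ha ⊢
        rw [Subgroup.coe_inv, RegularWreathProduct.inv_right, ha, inv_one] }
  let S₂ : Subgroup ↥(wrSign ε).ker :=
    { carrier := {x | x.1.left = 1}
      mul_mem' := by
        intro a b ha hb
        simp only [Set.mem_ofPred_eq] at ha hb ⊢
        rw [Subgroup.coe_mul, RegularWreathProduct.mul_left, ha, hb]
        funext q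
        simp
      one_mem' := rfl
      inv_mem' := by
        intro a ha
        simp only [Set.mem_ofPred_eq] at ha ⊢
        rw [Subgroup.coe_inv, RegularWreathProduct.inv_left, ha]
        funext q
        simp }
  have hS₁ : ∀ x : ↥(wrSign ε).ker, x ∈ S₁ ↔ x.1.right = 1 := fun x => Iff.rfl
  have hS₂ : ∀ x : ↥(wrSign ε).ker, x ∈ S₂ ↔ x.1.left = 1 := fun x => Iff.rfl
  refine ⟨S₁, S₂, ?_, ?_, ?_, ?_, ?_⟩
  · -- `S₁ ≠ ⊥`
    intro hbot
    have ha : (⟨fun _ => t, 1⟩ : D ≀ᵣ C2) ∈ (wrSign ε).ker := mem_ker_of_const ε (fun q => rfl)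
    have hmem : (⟨⟨fun _ => t, 1⟩, ha⟩ : ↥(wrSign ε).ker) ∈ S₁ := rfl
    rw [hbot, Subgroup.mem_bot] at hmem
    have h1 := congrArg (fun x : ↥(wrSign ε).ker => x.1.left 1) hmem
    exact ht1 h1
  · -- `S₂ ≠ ⊥`
    intro hbot
    have hb : (⟨1, Multiplicative.ofAdd 1⟩ : D ≀ᵣ C2) ∈ (wrSign ε).ker :=
      mem_ker_of_const ε (fun q => rfl)
    have hmem : (⟨⟨1, Multiplicative.ofAdd 1⟩, hb⟩ : ↥(wrSign ε).ker) ∈ S₂ := rfl
    rw [hbot, Subgroup.mem_bot] at hmem
    have h1 : (Multiplicative.ofAdd 1 : C2) = 1 :=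
      congrArg (fun x : ↥(wrSign ε).ker => x.1.right) hmem
    exact absurd h1 (by decide)
  · -- commuting
    intro a ha b hb
    rw [hS₁] at ha
    rw [hS₂] at hb
    apply Subtype.ext
    rw [Subgroup.coe_mul, Subgroup.coe_mul]
    have hc := left_const ε hinj a.2
    apply RegularWreathProduct.ext
    · rw [RegularWreathProduct.mul_left, RegularWreathProduct.mul_left, hb, ha]
      funext q
      simp only [Pi.mul_apply, Pi.one_apply, mul_one, one_mul]
      rw [hc q, hc (b.1.right⁻¹ * q)]
    · rw [RegularWreathProduct.mul_right, RegularWreathProduct.mul_right, ha, one_mul, mul_one]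
  · -- trivial intersection
    rw [eq_bot_iff]
    intro x hx
    rw [Subgroup.mem_inf, hS₁, hS₂] at hx
    rw [Subgroup.mem_bot]
    apply Subtype.ext
    apply RegularWreathProduct.ext
    · exact hx.2
    · exact hx.1
  · -- generation
    rw [eq_top_iff]
    intro x _
    have hc := left_const ε hinj x.2
    have ha : (⟨x.1.left, 1⟩ : D ≀ᵣ C2) ∈ (wrSign ε).ker := mem_ker_of_const ε hc
    have hb : (⟨1, x.1.right⟩ : D ≀ᵣ C2) ∈ (wrSign ε).ker := mem_ker_of_const ε (fun q => rfl)
    have hx : x = (⟨⟨x.1.left, 1⟩, ha⟩ : ↥(wrSign ε).ker) * ⟨⟨1, x.1.right⟩, hb⟩ := by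
      apply Subtype.ext
      rw [Subgroup.coe_mul]
      apply RegularWreathProduct.ext
      · rw [RegularWreathProduct.mul_left]
        funext q
        simp
      · rw [RegularWreathProduct.mul_right]
        simp
    rw [hx]
    exact Subgroup.mul_mem _ (Subgroup.mem_sup_left (show _ ∈ S₁ from rfl))
      (Subgroup.mem_sup_right (show _ ∈ S₂ from rfl))

/-- the same for a character equal to `wrSign ε` -/
theorem dec_ker_of' (ε : D →* ℤˣ) (hinj : ∀ d d' : D, ε d = ε d' → d = d')
    (hodd : ∃ t : D, ε t = -1) (φ : D ≀ᵣ C2 →* ℤˣ) (hφ : ∀ w, φ w = wrSign ε w) :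
    Dec ↥φ.ker := by
  have h : φ = wrSign ε := MonoidHom.ext hφ
  rw [h]
  exact dec_ker_of ε hinj hodd

end generic

/-- two elements of `W 1` with the same `right` are equal -/
theorem W1_ext (v v' : W 1)
    (h : RegularWreathProduct.right v = RegularWreathProduct.right v') : v = v' := by
  apply RegularWreathProduct.ext
  · funext q; rfl
  · exact h

theorem dec_ker_two (hsucc : ∀ w : W 2, eps 2 w = wrSign (eps 1) w)
    (hone : ∀ w : W 1, eps 1 w = if RegularWreathProduct.right w = 1 then 1 else -1) :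
    Dec ↥(eps 2).ker := by
  have hinj : ∀ d d' : W 1, eps 1 d = eps 1 d' → d = d' := by
    intro d d' h
    rw [hone, hone] at h
    apply W1_ext
    rcases C2_cases (RegularWreathProduct.right d) with h1 | h1 <;>
      rcases C2_cases (RegularWreathProduct.right d') with h2 | h2
    · rw [h1, h2]
    · rw [h1, h2] at h
      exact absurd h (by decide)
    · rw [h1, h2] at h
      exact absurd h (by decide)
    · rw [h1, h2]
  have key : ∀ v : W 1, RegularWreathProduct.right v ≠ 1 → eps 1 v = -1 := fun v hv => by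
    rw [hone, if_neg hv]
  have hodd : ∃ t : W 1, eps 1 t = -1 :=
    ⟨_, key (⟨1, Multiplicative.ofAdd 1⟩ : PUnit ≀ᵣ C2) (by decide)⟩
  exact dec_ker_of' (eps 1) hinj hodd (eps 2) hsucc

end Cfsg.Agent.Lib.Helper31_S2221_KER2
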