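import Mathlib
import Cfsg.Agent.Lib.Helper30_S2316Defs

/-!
# S2316 market (architect helper30), package BLKPRES: a monomial element of `P_J` permutes the indices
inside the blocks.
-/

set_option autoImplicit false
set_option linter.unusedSectionVars false
set_option linter.unusedVariables false

namespace Cfsg.Agent.Lib.Helper30_S2316

open Matrix Cfsg Cfsg.Agent.Lib.Helper68_MatGrp Cfsg.Agent.Lib.Helper5_SpPerfect
  Cfsg.Agent.Lib.Helper68_StSpDefs Cfsg.Agent.Lib.Helper68_StSp Cfsg.Agent.Lib.Helper44_SpUT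
  Cfsg.Agent.Lib.Helper68_StAbs Cfsg.Agent.Lib.Helper6_Word Cfsg.Agent.Lib.Helper6_BNPair
  Cfsg.Agent.Lib.Helper81_BNSteinberg Cfsg.Agent.Lib.Helper81_BNIndex Cfsg.Agent.Lib.Helper81_BNBorel

section sp

variable {m : ℕ} {F : Type*} [Field F]

/-! ## BLKPRES (S/M): a monomial element of `P_J` permutes the indices inside the blocks -/

theorem perm_eq_of_le {ι : Type*} [Fintype ι] (bl : ι → ℕ) (σ : Equiv.Perm ι)
    (h : ∀ b, bl (σ b) ≤ bl b) (b : ι) : bl (σ b) = bl b := by
  have hsum : ∑ c, bl (σ c) = ∑ c, bl c := Equiv.sum_comp σ bl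
  exact (Finset.sum_eq_sum_iff_of_le (fun c _ => h c)).mp hsum b (Finset.mem_univ b)

theorem mono_blk {J : Finset (Fin m)} {n : ↥(symplecticGroup (Fin m) F)}
    {σ : Equiv.Perm (Fin m ⊕ Fin m)} (hn : IsMono (φ m F) n σ) (hP : n ∈ PJ m F J)
    (b : Fin m ⊕ Fin m) : blk m J (σ b) = blk m J b := by
  refine perm_eq_of_le (blk m J) σ (fun c => ?_) b
  by_contra hcon
  push Not at hcon
  exact hn.ne_zero c (mem_PJ.mp hP (σ c) c hcon)

end sp

end Cfsg.Agent.Lib.Helper30_S2316
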