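import Mathlib
import Cfsg.Agent.Lib.Helper30_S2316Defs
import Cfsg.Agent.Lib.Helper68_StSp_R2
import Cfsg.Agent.Lib.Helper68_StSp_SWAP

/-!
S2316 market (architect helper30), package **INV**: if a root element is not conjugated into `B` by
the monomial `n`, then `σ⁻¹` inverts the two indices (contrapositive of the step `key` in
`Helper68_StSp_R2.r2S` / `r2X`).  (helper89)
-/

set_option autoImplicit false
set_option linter.unusedSectionVars false
set_option linter.unusedVariables false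

namespace Cfsg.Agent.Lib.Helper30_S2316

open Matrix Cfsg Cfsg.Agent.Lib.Helper68_MatGrp Cfsg.Agent.Lib.Helper5_SpPerfect
  Cfsg.Agent.Lib.Helper68_StSpDefs Cfsg.Agent.Lib.Helper68_StSp Cfsg.Agent.Lib.Helper44_SpUT
  Cfsg.Agent.Lib.Helper68_StAbs Cfsg.Agent.Lib.Helper6_Word Cfsg.Agent.Lib.Helper6_BNPair
  Cfsg.Agent.Lib.Helper81_BNSteinberg Cfsg.Agent.Lib.Helper81_BNIndex Cfsg.Agent.Lib.Helper81_BNBorel

section sp

variable {m : ℕ} {F : Type*} [Field F]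

/-- the step `key` of `Helper68_StSp_R2.r2S` -/
theorem h89_key_short {n : ↥(symplecticGroup (Fin m) F)} {σ : Equiv.Perm (Fin m ⊕ Fin m)}
    (hn : IsMono (φ m F) n σ) (i k : Fin m) (hik : i ≠ k)
    (hlt : ht m (σ⁻¹ (Sum.inl i)) < ht m (σ⁻¹ (Sum.inl k))) (t : F) :
    n⁻¹ * xL i k hik t * n ∈ Bsp m F := by
  have hsw := fun a => Cfsg.Agent.Lib.Helper68_StSp_SWAP.mono_swap hn a
  have h1 : σ (σ⁻¹ (Sum.inl i)) = Sum.inl i := by simp
  have h2 : σ (σ⁻¹ (Sum.inl k)) = Sum.inl k := by simp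
  have h3 : σ (Sum.swap (σ⁻¹ (Sum.inl i))) = Sum.inr i := by rw [hsw, h1]; rfl
  have h4 : σ (Sum.swap (σ⁻¹ (Sum.inl k))) = Sum.inr k := by rw [hsw, h2]; rfl
  apply Cfsg.Agent.Lib.Helper68_StSp_R2.conj_mem_Bsp hn
  intro a b hab
  have hab' : σ a ≠ σ b := by
    intro h
    have := σ.injective h
    rw [this] at hab
    exact lt_irrefl _ hab
  apply Cfsg.Agent.Lib.Helper68_StSp_R2.xL_off _ _ _ _ _ _ hab'
  · rintro ⟨e1, e2⟩
    have ea : a = σ⁻¹ (Sum.inl i) := σ.injective (e1.trans h1.symm)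
    have eb : b = σ⁻¹ (Sum.inl k) := σ.injective (e2.trans h2.symm)
    rw [ea, eb] at hab
    omega
  · rintro ⟨e1, e2⟩
    have ea : a = Sum.swap (σ⁻¹ (Sum.inl k)) := σ.injective (e1.trans h4.symm)
    have eb : b = Sum.swap (σ⁻¹ (Sum.inl i)) := σ.injective (e2.trans h3.symm)
    rw [ea, eb] at hab
    have := Cfsg.Agent.Lib.Helper68_StSp_R2.ht_swap_lt hlt
    omega

/-- the first branch of `Helper68_StSp_R2.r2X` -/
theorem h89_key_long {n : ↥(symplecticGroup (Fin m) F)} {σ : Equiv.Perm (Fin m ⊕ Fin m)}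
    (hn : IsMono (φ m F) n σ) (i : Fin m)
    (hlt : ht m (σ⁻¹ (Sum.inl i)) < ht m (σ⁻¹ (Sum.inr i))) (t : F) :
    n⁻¹ * xX i t * n ∈ Bsp m F := by
  have h1 : σ (σ⁻¹ (Sum.inl i)) = Sum.inl i := by simp
  have h2 : σ (σ⁻¹ (Sum.inr i)) = Sum.inr i := by simp
  apply Cfsg.Agent.Lib.Helper68_StSp_R2.conj_mem_Bsp hn
  intro a b hab
  have hab' : σ a ≠ σ b := by
    intro h
    have := σ.injective h
    rw [this] at hab
    exact lt_irrefl _ hab
  apply Cfsg.Agent.Lib.Helper68_StSp_R2.xX_off _ _ _ _ hab'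
  rintro ⟨e1, e2⟩
  have ea : a = σ⁻¹ (Sum.inl i) := σ.injective (e1.trans h1.symm)
  have eb : b = σ⁻¹ (Sum.inr i) := σ.injective (e2.trans h2.symm)
  rw [ea, eb] at hab
  omega

/-! ## INV (M) -/

theorem inv_of_not_mem_short {n : ↥(symplecticGroup (Fin m) F)} {σ : Equiv.Perm (Fin m ⊕ Fin m)}
    (hn : IsMono (φ m F) n σ) (i k : Fin m) (hik : i ≠ k) (t : F)
    (h : n⁻¹ * xL i k hik t * n ∉ Bsp m F) :
    ht m (σ⁻¹ (Sum.inl k)) < ht m (σ⁻¹ (Sum.inl i)) := by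
  by_contra hcon
  have hne : ht m (σ⁻¹ (Sum.inl i)) ≠ ht m (σ⁻¹ (Sum.inl k)) := by
    intro he
    have := σ⁻¹.injective (ht_injective m he)
    exact hik (Sum.inl_injective this)
  exact h (h89_key_short hn i k hik (by omega) t)

theorem inv_of_not_mem_long {n : ↥(symplecticGroup (Fin m) F)} {σ : Equiv.Perm (Fin m ⊕ Fin m)}
    (hn : IsMono (φ m F) n σ) (i : Fin m) (t : F)
    (h : n⁻¹ * xX i t * n ∉ Bsp m F) :
    ht m (σ⁻¹ (Sum.inr i)) < ht m (σ⁻¹ (Sum.inl i)) := by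
  by_contra hcon
  have hne : ht m (σ⁻¹ (Sum.inl i)) ≠ ht m (σ⁻¹ (Sum.inr i)) := by
    intro he
    have := σ⁻¹.injective (ht_injective m he)
    exact Sum.inl_ne_inr this
  exact h (h89_key_long hn i (by omega) t)

end sp

end Cfsg.Agent.Lib.Helper30_S2316
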