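import Mathlib
import Cfsg.Agent.Lib.Helper30_S2316Defs
import Cfsg.Agent.Lib.Helper89_S2316_INV

/-!
# S2316 market (architect helper30), package DSP, hypothesis form: DESC (as a hypothesis) + INV for `Sp`:
a left descent at `j` inverts the `j`-th adjacent pair.  The verbatim `inv_of_descent` is in
`Helper31_S2316_DSP`.
-/

set_option autoImplicit false
set_option linter.unusedSectionVars false
set_option linter.unusedVariables false

namespace Cfsg.Agent.Lib.Helper30_S2316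

open Matrix Cfsg Cfsg.Agent.Lib.Helper68_MatGrp Cfsg.Agent.Lib.Helper5_SpPerfect
  Cfsg.Agent.Lib.Helper68_StSpDefs Cfsg.Agent.Lib.Helper68_StSp Cfsg.Agent.Lib.Helper44_SpUT
  Cfsg.Agent.Lib.Helper68_StAbs Cfsg.Agent.Lib.Helper6_Word Cfsg.Agent.Lib.Helper6_BNPair
  Cfsg.Agent.Lib.Helper81_BNSteinberg Cfsg.Agent.Lib.Helper81_BNIndex Cfsg.Agent.Lib.Helper81_BNBorel

section sp

variable {m : ℕ} {F : Type*} [Field F]

/-- DSP with the conclusion of DESC (`exists_not_mem_of_descent` for `spRDat hm`, `j`, `n`) as a hypothesis -/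
theorem inv_of_descent_of (hm : 0 < m) (n : (bnPair (spRDat (F := F) hm)).N)
    {σ : Equiv.Perm (Fin m ⊕ Fin m)}
    (hσ : IsMono (φ m F) (n : ↥(symplecticGroup (Fin m) F)) σ) (j : Fin m)
    (hdesc : ∃ u ∈ (spRDat (F := F) hm).U j,
      ((n : ↥(symplecticGroup (Fin m) F)))⁻¹ * u * (n : ↥(symplecticGroup (Fin m) F)) ∉
        (spRDat (F := F) hm).B) :
    (∀ h : j.val + 1 < m, ht m (σ⁻¹ (Sum.inl ⟨j.val + 1, h⟩)) < ht m (σ⁻¹ (Sum.inl j))) ∧
    (¬ j.val + 1 < m → ht m (σ⁻¹ (Sum.inr j)) < ht m (σ⁻¹ (Sum.inl j))) := by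
  obtain ⟨u, hu, hnot⟩ := hdesc
  obtain ⟨t, rfl⟩ := hu
  have hnot' : (n : ↥(symplecticGroup (Fin m) F))⁻¹ * xs j t * (n : ↥(symplecticGroup (Fin m) F)) ∉
      Bsp m F := hnot
  constructor
  · intro h
    rw [xs_of_lt j h] at hnot'
    exact inv_of_not_mem_short hσ j ⟨j.val + 1, h⟩ (succ_ne j h) t hnot'
  · intro h
    rw [xs_of_not_lt j h] at hnot'
    exact inv_of_not_mem_long hσ j t hnot'

end sp

end Cfsg.Agent.Lib.Helper30_S2316
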