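import Mathlib
import Cfsg.Agent.Lib.Helper30_S2316Defs
import Cfsg.Agent.Lib.Helper6_BNPairB
import Cfsg.Agent.Lib.Helper31_S2316_DSPaux

/-!
# S2316 market (architect helper30), package DSP: DESC + INV for `Sp`: a left descent at `j` inverts the
`j`-th adjacent pair.  (`h31_exists_not_mem_of_descent` is a second-seat proof of package DESC under a
prefixed name, so that this file does not depend on the landing of DESC.)
-/

set_option autoImplicit false
set_option linter.unusedSectionVars false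
set_option linter.unusedVariables false

namespace Cfsg.Agent.Lib.Helper30_S2316

open Matrix Cfsg Cfsg.Agent.Lib.Helper68_MatGrp Cfsg.Agent.Lib.Helper5_SpPerfect
  Cfsg.Agent.Lib.Helper68_StSpDefs Cfsg.Agent.Lib.Helper68_StSp Cfsg.Agent.Lib.Helper44_SpUT
  Cfsg.Agent.Lib.Helper68_StAbs Cfsg.Agent.Lib.Helper6_Word Cfsg.Agent.Lib.Helper6_BNPair
  Cfsg.Agent.Lib.Helper81_BNSteinberg Cfsg.Agent.Lib.Helper81_BNIndex Cfsg.Agent.Lib.Helper81_BNBorel

/-- DESC (statement of `exists_not_mem_of_descent`, prefixed name): a left descent `ℓ(s_i n) < ℓ(n)` means that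
`n⁻¹` does not conjugate the `i`-th root subgroup into `B` -/
theorem h31_exists_not_mem_of_descent {G : Type*} [Group G] {r : ℕ} (D : RDat G r) (i : Fin r)
    (n : (bnPair D).N)
    (hlt : ℓ (bnPair D) ((⟨D.s i, D.s_mem i⟩ : (bnPair D).N) * n) < ℓ (bnPair D) n) :
    ∃ u ∈ D.U i, ((n : G))⁻¹ * u * (n : G) ∉ D.B := by
  by_contra hcon
  push Not at hcon
  have hσ : IsSimple (bnPair D) (⟨D.s i, D.s_mem i⟩ : (bnPair D).N) :=
    isSimple_of_mem (bnPair D) ⟨i, rfl⟩
  obtain ⟨b, hb, hmem⟩ :=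
    exists_simple_mul_mem_of_le (bnPair D) hσ hlt.le
  obtain ⟨u, hu, hc⟩ := D.r1 i b hb
  have e0 : D.s i * b * (n : G) =
      (D.s i * (b * u⁻¹) * (D.s i)⁻¹) * (D.s i * (n : G)) * ((n : G)⁻¹ * u * (n : G)) := by group
  have hmem2 : D.s i * b * (n : G) ∈ C (bnPair D)
      (((⟨D.s i, D.s_mem i⟩ : (bnPair D).N) * n : (bnPair D).N) : G) := by
    rw [mem_C]
    exact ⟨_, hc, _, hcon u hu, e0⟩
  have hCeq := C_eq_of_mem_of_mem (bnPair D) hmem2 hmem
  have hπ := (C_eq_iff (bnPair D)).mp hCeq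
  have := ℓ_congr (bnPair D) hπ
  omega

section sp

variable {m : ℕ} {F : Type*} [Field F]

/-! ## DSP (S/M): DESC + INV for `Sp`: a left descent at `j` inverts the `j`-th adjacent pair -/

theorem inv_of_descent (hm : 0 < m) (n : (bnPair (spRDat (F := F) hm)).N)
    {σ : Equiv.Perm (Fin m ⊕ Fin m)}
    (hσ : IsMono (φ m F) (n : ↥(symplecticGroup (Fin m) F)) σ) (j : Fin m)
    (hlt : ℓ (bnPair (spRDat (F := F) hm))
      ((⟨ss j, (spRDat (F := F) hm).s_mem j⟩ : (bnPair (spRDat (F := F) hm)).N) * n) <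
        ℓ (bnPair (spRDat (F := F) hm)) n) :
    (∀ h : j.val + 1 < m, ht m (σ⁻¹ (Sum.inl ⟨j.val + 1, h⟩)) < ht m (σ⁻¹ (Sum.inl j))) ∧
    (¬ j.val + 1 < m → ht m (σ⁻¹ (Sum.inr j)) < ht m (σ⁻¹ (Sum.inl j))) :=
  inv_of_descent_of hm n hσ j (h31_exists_not_mem_of_descent (spRDat (F := F) hm) j n hlt)

end sp

end Cfsg.Agent.Lib.Helper30_S2316
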