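import Mathlib
import Cfsg.Agent.Lib.Helper40_GLClassDefs
import Cfsg.Agent.Lib.Helper40_SLClassDefs

/-!
# S2479 package CYC (helper31, architect helper40)

Coset representatives of the `γ`-th powers in `Fˣ`: at most `gcd (q - 1) γ` of them.
-/

set_option autoImplicit false

namespace Cfsg.Agent.Lib.Helper31_S2479_CYC

open Polynomial DirectSum Cfsg.Agent.Lib.Helper40_GLClassDefs Cfsg.Agent.Lib.Helper40_SLClassDefs

universe u v

theorem cyc {F : Type u} [Field F] [Fintype F] (γ : ℕ) :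
    ∃ R : Finset F, R.card ≤ Nat.gcd (Fintype.card F - 1) γ ∧ (∀ r ∈ R, r ≠ 0) ∧
      ∀ a : F, a ≠ 0 → ∃ r ∈ R, ∃ b : F, b ≠ 0 ∧ a = r * b ^ γ := by
  classical
  let P : Subgroup Fˣ := (powMonoidHom γ : Fˣ →* Fˣ).range
  have hidx : P.index = Nat.gcd (Fintype.card F - 1) γ := by
    rw [IsCyclic.index_powMonoidHom_range, Nat.card_eq_fintype_card, Fintype.card_units]
  have : Fintype (Fˣ ⧸ P) := Fintype.ofFinite _
  refine ⟨Finset.univ.image (fun c : Fˣ ⧸ P => ((Quotient.out c : Fˣ) : F)), ?_, ?_, ?_⟩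
  · calc (Finset.univ.image (fun c : Fˣ ⧸ P => ((Quotient.out c : Fˣ) : F))).card
        ≤ (Finset.univ : Finset (Fˣ ⧸ P)).card := Finset.card_image_le
      _ = Fintype.card (Fˣ ⧸ P) := Finset.card_univ
      _ = P.index := by rw [Subgroup.index, Nat.card_eq_fintype_card]
      _ = _ := hidx
  · intro r hr
    obtain ⟨c, -, rfl⟩ := Finset.mem_image.mp hr
    exact Units.ne_zero _
  · intro a ha
    let w : Fˣ := Units.mk0 a ha
    let c : Fˣ ⧸ P := QuotientGroup.mk w
    refine ⟨((Quotient.out c : Fˣ) : F), Finset.mem_image.mpr ⟨c, Finset.mem_univ _, rfl⟩, ?_⟩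
    have h1 : (Quotient.out c)⁻¹ * w ∈ P := by
      rw [← QuotientGroup.eq]
      exact Quotient.out_eq c
    obtain ⟨b, hb⟩ := h1
    refine ⟨(b : F), Units.ne_zero b, ?_⟩
    have h2 : w = Quotient.out c * b ^ γ := by
      rw [← powMonoidHom_apply, hb, mul_inv_cancel_left]
    have h3 := congrArg Units.val h2
    simpa [w] using h3

end Cfsg.Agent.Lib.Helper31_S2479_CYC
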