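import Mathlib
import Cfsg.Agent.Lib.Helper40_GLClassDefs
import Cfsg.Agent.Lib.Helper40_SLClassDefs

/-!
# S2479 package DETSUM (helper31, architect helper40)

The determinant of a direct sum of endomorphisms is the product of the determinants
(`det_mapRange`, via `Matrix.blockDiagonal'`), specialised to the modules `F[X] ⧸ (p i ^ e i)`.
-/

set_option autoImplicit false

namespace Cfsg.Agent.Lib.Helper31_S2479_DETSUM

open Polynomial DirectSum Cfsg.Agent.Lib.Helper40_GLClassDefs Cfsg.Agent.Lib.Helper40_SLClassDefs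

universe u v

/-- the fibre of `Sigma.fst` over `k` -/
def fiberEquiv {ι : Type*} (κ : ι → Type*) (k : ι) : κ k ≃ {a : Σ i, κ i // a.1 = k} where
  toFun x := ⟨⟨k, x⟩, rfl⟩
  invFun a := a.2 ▸ a.1.2
  left_inv _ := rfl
  right_inv := by
    rintro ⟨⟨i, x⟩, h⟩
    obtain rfl : i = k := h
    rfl

/-- the determinant of a block diagonal matrix with blocks of varying sizes -/
theorem det_blockDiagonal_sigma {R : Type*} [CommRing R] {ι : Type*} [Fintype ι] [DecidableEq ι]
    {κ : ι → Type*} [∀ i, Fintype (κ i)] [∀ i, DecidableEq (κ i)]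
    (d : ∀ i, Matrix (κ i) (κ i) R) : (Matrix.blockDiagonal' d).det = ∏ i, (d i).det := by
  classical
  let _ : LinearOrder ι := LinearOrder.lift' (Fintype.equivFin ι) (Fintype.equivFin ι).injective
  rw [(Matrix.blockTriangular_blockDiagonal' d).det_fintype]
  refine Finset.prod_congr rfl fun k _ => ?_
  rw [← Matrix.det_submatrix_equiv_self (fiberEquiv κ k)]
  congr 1
  ext x y
  simp [Matrix.toSquareBlock, Matrix.toSquareBlockProp, fiberEquiv, Matrix.blockDiagonal'_apply_eq]

/-- the vectors of `DFinsupp.basis` -/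
theorem dfinsupp_basis_apply {R : Type*} [CommRing R] {ι : Type*} [DecidableEq ι]
    {M : ι → Type*} [∀ i, AddCommGroup (M i)] [∀ i, Module R (M i)]
    {κ : ι → Type*} (b : ∀ i, Module.Basis (κ i) R (M i)) (j : ι) (l : κ j) :
    DFinsupp.basis b ⟨j, l⟩ = DFinsupp.single j (b j l) := by
  classical
  apply Module.Basis.apply_eq_iff.mpr
  ext ⟨i, k⟩
  show (b i).repr ((DFinsupp.single j (b j l)) i) k = _
  by_cases h : j = i
  · subst h
    simp [Finsupp.single_apply_left sigma_mk_injective]
  · rw [DFinsupp.single_eq_of_ne (Ne.symm h)]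
    have hne : (⟨j, l⟩ : Σ i, κ i) ≠ ⟨i, k⟩ := fun hh => h (congrArg Sigma.fst hh)
    simp [hne]

/-- the determinant of a direct sum of endomorphisms of modules with finite bases -/
theorem det_mapRange {R : Type*} [CommRing R] {ι : Type*} [Fintype ι] [DecidableEq ι]
    {M : ι → Type*} [∀ i, AddCommGroup (M i)] [∀ i, Module R (M i)]
    {κ : ι → Type*} [∀ i, Fintype (κ i)] [∀ i, DecidableEq (κ i)]
    (b : ∀ i, Module.Basis (κ i) R (M i)) (f : ∀ i, M i →ₗ[R] M i) :
    LinearMap.det (DFinsupp.mapRange.linearMap f) = ∏ i, LinearMap.det (f i) := by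
  rw [← LinearMap.det_toMatrix (DFinsupp.basis b)]
  have key : LinearMap.toMatrix (DFinsupp.basis b) (DFinsupp.basis b)
      (DFinsupp.mapRange.linearMap f) =
        Matrix.blockDiagonal' (fun i => LinearMap.toMatrix (b i) (b i) (f i)) := by
    ext ⟨i, k⟩ ⟨j, l⟩
    rw [LinearMap.toMatrix_apply, Matrix.blockDiagonal'_apply, dfinsupp_basis_apply]
    show (b i).repr ((DFinsupp.mapRange.linearMap f (DFinsupp.single j (b j l))) i) k = _
    rw [DFinsupp.mapRange.linearMap_apply, DFinsupp.mapRange_single]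
    by_cases h : i = j
    · subst h
      simp [LinearMap.toMatrix_apply]
    · rw [dif_neg h, DFinsupp.single_eq_of_ne h]
      simp
  rw [key, det_blockDiagonal_sigma]
  simp [LinearMap.det_toMatrix]

/-- the quotient of `F[X]` by a monic polynomial is finite over `F` -/
theorem finite_quot {F : Type u} [Field F] (g : F[X]) (hg : g.Monic) :
    Module.Finite F (F[X] ⧸ Submodule.span F[X] {g}) :=
  (AdjoinRoot.powerBasis' hg).finite

/-- **S2479-DETSUM** -/
theorem det_mapRange_quot {F : Type u} [Field F] (ι : Type u) [Fintype ι] [DecidableEq ι]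
    (p : ι → F[X]) (e : ι → ℕ) (hp : ∀ i, (p i).Monic)
    (f : ∀ i, (F[X] ⧸ Submodule.span F[X] {p i ^ e i}) →ₗ[F]
      (F[X] ⧸ Submodule.span F[X] {p i ^ e i})) :
    LinearMap.det (M := ⨁ i, F[X] ⧸ Submodule.span F[X] {p i ^ e i})
      (DFinsupp.mapRange.linearMap f) = ∏ i, LinearMap.det (f i) := by
  classical
  have hfin : ∀ i, Module.Finite F (F[X] ⧸ Submodule.span F[X] {p i ^ e i}) :=
    fun i => finite_quot _ ((hp i).pow (e i))
  exact det_mapRange (fun i => Module.finBasis F (F[X] ⧸ Submodule.span F[X] {p i ^ e i})) f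

end Cfsg.Agent.Lib.Helper31_S2479_DETSUM
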