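import Mathlib
import Cfsg.Agent.Lib.Helper40_GLClassDefs
import Cfsg.Agent.Lib.Helper40_SLClassDefs
import Cfsg.Agent.Lib.Helper40_PSLClassDefs
import Cfsg.Agent.Lib.Helper58_S2478_ENCODE

/-!
# S2480 package ENCSCALE (helper31, architect helper40)

The encoding of the scaled elementary divisors is the scaled encoding.
-/

set_option autoImplicit false

namespace Cfsg.Agent.Lib.Helper31_S2480_ENCSCALE

open Polynomial DirectSum Cfsg.Agent.Lib.Helper40_GLClassDefs Cfsg.Agent.Lib.Helper40_SLClassDefs
  Cfsg.Agent.Lib.Helper40_PSLClassDefs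
open Cfsg.Agent.Lib.Helper58_S2478_ENCODE (enc part)

universe u v

/-- `scaleRoots` commutes with products of multisets (over a field) -/
theorem prod_map_scaleRoots {F : Type u} [Field F] (a : F) (s : Multiset F[X]) :
    (s.map (fun p => p.scaleRoots a)).prod = s.prod.scaleRoots a := by
  induction s using Multiset.induction_on with
  | empty => simp
  | cons p s ih =>
    rw [Multiset.map_cons, Multiset.prod_cons, Multiset.prod_cons, ih,
      Polynomial.mul_scaleRoots_of_noZeroDivisors]

/-- the parts of the scaled multiset -/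
theorem part_scale {F : Type u} [Field F] (n : ℕ) (a : F) (μ : Multiset (F[X] × ℕ)) (j : Fin n) :
    part n (scaleMu a μ) j = (part n μ j).map (fun x => (x.1.scaleRoots a, x.2)) := by
  unfold part scaleMu
  rw [Multiset.filter_map]
  rfl

/-- **S2480-ENCSCALE** -/
theorem enc_scale {F : Type u} [Field F] (n : ℕ) (a : F) (μ : Multiset (F[X] × ℕ))
    (h : Good n μ) (j : Fin n) : enc n (scaleMu a μ) j = (enc n μ j).scaleRoots a := by
  unfold enc
  rw [part_scale, Multiset.map_map, ← prod_map_scaleRoots, Multiset.map_map]
  rfl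

end Cfsg.Agent.Lib.Helper31_S2480_ENCSCALE
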