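import Mathlib
import Cfsg.Agent.Lib.Helper40_GLClassDefs
import Cfsg.Agent.Lib.Helper40_SLClassDefs
import Cfsg.Agent.Lib.Helper40_PSLClassDefs

/-!
# S2480 package INVEXPAND (helper31, architect helper40)

A monic polynomial with nonzero constant term that is fixed by `scaleRoots a` is a polynomial in
`X ^ orderOf a`.
-/

set_option autoImplicit false

namespace Cfsg.Agent.Lib.Helper31_S2480_INVEXPAND

open Polynomial DirectSum Cfsg.Agent.Lib.Helper40_GLClassDefs Cfsg.Agent.Lib.Helper40_SLClassDefs
  Cfsg.Agent.Lib.Helper40_PSLClassDefs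

universe u v

/-- the exponents of the nonzero coefficients are multiples of the order of `a` -/
theorem orderOf_dvd_of_coeff_ne_zero {F : Type u} [Field F] (a : F) (f : F[X])
    (h0 : f.coeff 0 ≠ 0) (hinv : f.scaleRoots a = f) (n : ℕ) (hn : f.coeff n ≠ 0) :
    orderOf a ∣ n := by
  have hc : ∀ i, f.coeff i ≠ 0 → orderOf a ∣ f.natDegree - i := by
    intro i hi
    have h1 : (f.scaleRoots a).coeff i = f.coeff i := by rw [hinv]
    rw [Polynomial.coeff_scaleRoots] at h1
    have h2 : a ^ (f.natDegree - i) = 1 := by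
      have h3 : f.coeff i * a ^ (f.natDegree - i) = f.coeff i * 1 := by rw [h1, mul_one]
      exact mul_left_cancel₀ hi h3
    exact orderOf_dvd_of_pow_eq_one h2
  have hm : orderOf a ∣ f.natDegree := by
    have := hc 0 h0
    rwa [Nat.sub_zero] at this
  have hle : n ≤ f.natDegree := Polynomial.le_natDegree_of_ne_zero hn
  have h4 := hc n hn
  have h5 : orderOf a ∣ f.natDegree - (f.natDegree - n) := Nat.dvd_sub hm h4
  rwa [Nat.sub_sub_self hle] at h5

/-- **S2480-INVEXPAND** -/
theorem inv_expand {F : Type u} [Field F] (a : F) (ha : a ≠ 0) (f : F[X]) (hf : f.Monic)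
    (h0 : f.coeff 0 ≠ 0) (hinv : f.scaleRoots a = f) :
    ∃ g : F[X], f = Polynomial.expand F (orderOf a) g := by
  have hdvd := orderOf_dvd_of_coeff_ne_zero a f h0 hinv
  by_cases he : orderOf a = 0
  · refine ⟨f, ?_⟩
    have hconst : f = Polynomial.C (f.coeff 0) := by
      ext n
      rw [Polynomial.coeff_C]
      split_ifs with h
      · rw [h]
      · by_contra hne
        have := hdvd n hne
        rw [he, zero_dvd_iff] at this
        exact h this
    rw [he]
    conv_rhs => rw [hconst, Polynomial.expand_C]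
    exact hconst
  · refine ⟨Polynomial.contract (orderOf a) f, ?_⟩
    ext n
    rw [Polynomial.coeff_expand (Nat.pos_of_ne_zero he)]
    split_ifs with h
    · rw [Polynomial.coeff_contract he, Nat.div_mul_cancel h]
    · by_contra hne
      exact h (hdvd n hne)

end Cfsg.Agent.Lib.Helper31_S2480_INVEXPAND
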