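import Mathlib
import Cfsg.Agent.Lib.Helper56_S3390Defs

/-!
# S3390 package CHAR (helper31, architect helper56): `T = S_α` is the set of elements of `S` with
a fixed point (together with `1`), hence closed under fusion in `S`
-/

set_option autoImplicit false

open Cfsg.Agent.Lib.Helper56_S3390Defs

namespace Cfsg.Agent.Lib.Helper31_S3390_CHAR

variable {G : Type*} [Group G] {Ω : Type*} [MulAction G Ω]

theorem mem_stab_iff (S : Subgroup G) (α β : Ω) (hP : Pic S α β)
    (hreg : ∀ γ : Ω, γ ≠ α → γ ≠ β → stabIn S γ = ⊥) :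
    ∀ y ∈ S, (y ∈ stabIn S α ↔ (y = 1 ∨ ∃ ω : Ω, y • ω = ω)) := by
  intro y hy
  constructor
  · intro h
    exact Or.inr ⟨α, MulAction.mem_stabilizer_iff.mp h.2⟩
  · rintro (rfl | ⟨ω, hω⟩)
    · exact Subgroup.one_mem _
    · by_cases hα : ω = α
      · subst hα
        exact ⟨hy, MulAction.mem_stabilizer_iff.mpr hω⟩
      · by_cases hβ : ω = β
        · subst hβ
          rw [← hP.stab_eq]
          exact ⟨hy, MulAction.mem_stabilizer_iff.mpr hω⟩
        · have h1 : y ∈ stabIn S ω := ⟨hy, MulAction.mem_stabilizer_iff.mpr hω⟩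
          rw [hreg ω hα hβ, Subgroup.mem_bot] at h1
          rw [h1]
          exact Subgroup.one_mem _

theorem closed_of_char (S : Subgroup G) (α : Ω)
    (hchar : ∀ y ∈ S, (y ∈ stabIn S α ↔ (y = 1 ∨ ∃ ω : Ω, y • ω = ω))) :
    ∀ y ∈ S, ∀ g : G, g * y * g⁻¹ ∈ S → (y ∈ stabIn S α ↔ g * y * g⁻¹ ∈ stabIn S α) := by
  intro y hy g hg
  rw [hchar y hy, hchar _ hg]
  constructor
  · rintro (rfl | ⟨ω, hω⟩)
    · left
      rw [mul_one, mul_inv_cancel]
    · right
      refine ⟨g • ω, ?_⟩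
      rw [mul_smul, mul_smul, inv_smul_smul, hω]
  · rintro (h | ⟨ω, hω⟩)
    · left
      exact conj_eq_one_iff.mp h
    · right
      refine ⟨g⁻¹ • ω, ?_⟩
      rw [mul_smul, mul_smul] at hω
      have h2 := congrArg (fun x => g⁻¹ • x) hω
      simp only [inv_smul_smul] at h2
      exact h2

end Cfsg.Agent.Lib.Helper31_S3390_CHAR
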