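import Mathlib
import Cfsg.Agent.Lib.Helper56_S3390Defs

/-!
# S3390 package ORBCARD (helper31, architect helper56): the orbit sizes of `S`
-/

set_option autoImplicit false

open Cfsg.Agent.Lib.Helper56_S3390Defs

namespace Cfsg.Agent.Lib.Helper31_S3390_ORBCARD

variable {G : Type*} [Group G] {Ω : Type*} [MulAction G Ω]

/-- the stabilizer in the subgroup action and `stabIn` have the same order -/
theorem card_stab (S : Subgroup G) (ω : Ω) :
    Nat.card ↥(MulAction.stabilizer ↥S ω) = Nat.card ↥(stabIn S ω) := by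
  apply Nat.card_congr
  exact
    { toFun := fun x => ⟨(x.1 : G), ⟨x.1.2, MulAction.mem_stabilizer_iff.mpr
        (MulAction.mem_stabilizer_iff.mp x.2)⟩⟩
      invFun := fun y => ⟨⟨y.1, y.2.1⟩, MulAction.mem_stabilizer_iff.mpr
        (MulAction.mem_stabilizer_iff.mp y.2.2)⟩
      left_inv := fun x => rfl
      right_inv := fun y => rfl }

/-- orbit-stabilizer for the subgroup action, in terms of `stabIn` -/
theorem card_orbit_mul (S : Subgroup G) (ω : Ω) :
    Nat.card (MulAction.orbit ↥S ω) * Nat.card ↥(stabIn S ω) = Nat.card ↥S := by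
  rw [← card_stab, Nat.card_coe_set_eq, ← MulAction.index_stabilizer]
  exact Subgroup.index_mul_card _

theorem orbit_cards (S : Subgroup G) [Finite ↥S] (α β : Ω) (hP : Pic S α β)
    (hidx : Nat.card ↥S = 2 * Nat.card ↥(stabIn S α))
    (hreg : ∀ γ : Ω, γ ≠ α → γ ≠ β → stabIn S γ = ⊥) :
    Nat.card (MulAction.orbit ↥S α) = 2 ∧
      ∀ ω' : Ω, ω' ∉ MulAction.orbit ↥S α → Nat.card (MulAction.orbit ↥S ω') = Nat.card ↥S := by
  have hSpos : 0 < Nat.card ↥S := Nat.card_pos
  constructor
  · have h1 := card_orbit_mul S α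
    rw [hidx] at h1
    have hpos : 0 < Nat.card ↥(stabIn S α) := by
      rcases Nat.eq_zero_or_pos (Nat.card ↥(stabIn S α)) with h0 | h0
      · rw [h0] at hidx; omega
      · exact h0
    exact Nat.eq_of_mul_eq_mul_right hpos h1
  · intro ω' hω'
    have hα : ω' ≠ α := by
      rintro rfl
      exact hω' (MulAction.mem_orbit_self _)
    have hβ : ω' ≠ β := by
      rintro rfl
      obtain ⟨w, hw, hwα, -⟩ := hP.swap
      apply hω'
      exact ⟨⟨w, hw⟩, hwα⟩
    have h1 := card_orbit_mul S ω'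
    rw [hreg ω' hα hβ, Subgroup.card_bot, mul_one] at h1
    exact h1

end Cfsg.Agent.Lib.Helper31_S3390_ORBCARD
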