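import Mathlib
import Cfsg.Agent.Lib.Helper40_P4Defs

/-!
# S3452: definitions for the cuspidal `𝔽₂`-module of `SL₂(p)`

`cuspSub p` is the additive group of functions `f : M₂(𝔽_p) → 𝔽₂` all of whose sums over the
orbits `{(1 + sN) M (1 - sN) : s ∈ 𝔽_p}` of the unipotent subgroups (`N² = 0`, `N ≠ 0`) vanish,
and `rho p` is the action of `SL₂(p)` on it by conjugation of the argument.  `fE` is the
indicator of a "circle" `{M : tr M = 0, M² = δ, tr (M Y') = tr (Y Y')}`.
-/

set_option autoImplicit false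

open scoped Matrix

namespace Cfsg.Agent.Lib.Helper40_PGLDefs

/-- two by two matrices over `𝔽_p` -/
abbrev M2 (p : ℕ) := Matrix (Fin 2) (Fin 2) (ZMod p)

/-- `SL₂(p)` -/
abbrev SL2 (p : ℕ) := Matrix.SpecialLinearGroup (Fin 2) (ZMod p)

variable (p : ℕ) [Fact p.Prime]

/-- all sums over orbits of unipotent subgroups vanish -/
def IsCusp (f : M2 p → ZMod 2) : Prop :=
  ∀ N : M2 p, N * N = 0 → N ≠ 0 → ∀ M : M2 p,
    ∑ s : ZMod p, f ((1 + s • N) * M * (1 - s • N)) = 0

/-- the cuspidal functions -/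
def cuspSub : AddSubgroup (M2 p → ZMod 2) where
  carrier := {f | IsCusp p f}
  zero_mem' := fun N _ _ M => by simp
  add_mem' := by
    intro f g hf hg N hN hN0 M
    simp only [Pi.add_apply, Finset.sum_add_distrib]
    rw [hf N hN hN0 M, hg N hN hN0 M, add_zero]
  neg_mem' := by
    intro f hf N hN hN0 M
    simp only [Pi.neg_apply, Finset.sum_neg_distrib]
    rw [hf N hN hN0 M, neg_zero]

theorem mem_cuspSub (f : M2 p → ZMod 2) : f ∈ cuspSub p ↔ IsCusp p f := Iff.rfl

/-- conjugate the argument -/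
def conjFun (g : SL2 p) (f : M2 p → ZMod 2) : M2 p → ZMod 2 :=
  fun M => f (((g⁻¹ : SL2 p) : M2 p) * M * (g : M2 p))

theorem inv_mul_coe (g : SL2 p) : ((g⁻¹ : SL2 p) : M2 p) * (g : M2 p) = 1 := by
  rw [← Matrix.SpecialLinearGroup.coe_mul, inv_mul_cancel, Matrix.SpecialLinearGroup.coe_one]

theorem mul_inv_coe (g : SL2 p) : (g : M2 p) * ((g⁻¹ : SL2 p) : M2 p) = 1 := by
  rw [← Matrix.SpecialLinearGroup.coe_mul, mul_inv_cancel, Matrix.SpecialLinearGroup.coe_one]

theorem conjFun_cusp (g : SL2 p) (f : M2 p → ZMod 2) (hf : IsCusp p f) :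
    IsCusp p (conjFun p g f) := by
  intro N hN hN0 M
  set gi : M2 p := ((g⁻¹ : SL2 p) : M2 p) with hgi
  set gm : M2 p := (g : M2 p) with hgm
  have h1 : gi * gm = 1 := inv_mul_coe p g
  have h2 : gm * gi = 1 := mul_inv_coe p g
  have hN' : (gi * N * gm) * (gi * N * gm) = 0 := by
    have : (gi * N * gm) * (gi * N * gm) = gi * (N * (gm * gi) * N) * gm := by
      simp only [mul_assoc]
    rw [this, h2, mul_one, hN, mul_zero, zero_mul]
  have hN0' : gi * N * gm ≠ 0 := by
    intro h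
    apply hN0
    have : N = gm * (gi * N * gm) * gi := by
      have : gm * (gi * N * gm) * gi = (gm * gi) * N * (gm * gi) := by simp only [mul_assoc]
      rw [this, h2, one_mul, mul_one]
    rw [this, h, mul_zero, zero_mul]
  have key := hf (gi * N * gm) hN' hN0' (gi * M * gm)
  rw [← key]
  refine Finset.sum_congr rfl fun s _ => ?_
  unfold conjFun
  congr 1
  have e1 : (1 + s • (gi * N * gm)) = gi * (1 + s • N) * gm := by
    rw [mul_add, add_mul, mul_one, h1, Matrix.mul_smul, Matrix.smul_mul]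
  have e2 : (1 - s • (gi * N * gm)) = gi * (1 - s • N) * gm := by
    rw [mul_sub, sub_mul, mul_one, h1, Matrix.mul_smul, Matrix.smul_mul]
  rw [e1, e2]
  have : gi * (1 + s • N) * gm * (gi * M * gm) * (gi * (1 - s • N) * gm) =
      gi * ((1 + s • N) * ((gm * gi) * M * (gm * gi)) * (1 - s • N)) * gm := by
    simp only [mul_assoc]
  rw [this, h2, one_mul, mul_one]

/-- the action of one element -/
def rhoFun (g : SL2 p) : AddMonoid.End (cuspSub p) where
  toFun v := ⟨conjFun p g v.1, conjFun_cusp p g v.1 v.2⟩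
  map_zero' := by
    apply Subtype.ext
    funext M
    rfl
  map_add' v w := by
    apply Subtype.ext
    funext M
    rfl

/-- the action of `SL₂(p)` on the cuspidal functions -/
def rho : SL2 p →* AddMonoid.End (cuspSub p) where
  toFun := rhoFun p
  map_one' := by
    refine DFunLike.ext _ _ fun v => Subtype.ext ?_
    funext M
    change v.1 (((1⁻¹ : SL2 p) : M2 p) * M * ((1 : SL2 p) : M2 p)) = v.1 M
    simp
  map_mul' g h := by
    refine DFunLike.ext _ _ fun v => Subtype.ext ?_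
    funext M
    change v.1 ((((g * h)⁻¹ : SL2 p) : M2 p) * M * ((g * h : SL2 p) : M2 p)) =
      v.1 (((h⁻¹ : SL2 p) : M2 p) * (((g⁻¹ : SL2 p) : M2 p) * M * (g : M2 p)) * (h : M2 p))
    rw [mul_inv_rev, Matrix.SpecialLinearGroup.coe_mul, Matrix.SpecialLinearGroup.coe_mul]
    simp only [mul_assoc]

theorem rho_apply (g : SL2 p) (v : cuspSub p) (M : M2 p) :
    ((rho p g v : cuspSub p) : M2 p → ZMod 2) M =
      (v : M2 p → ZMod 2) (((g⁻¹ : SL2 p) : M2 p) * M * (g : M2 p)) := rfl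

theorem rho_pow_apply (g : SL2 p) (i : ℕ) (v : cuspSub p) (M : M2 p) :
    (((rho p g) ^ i) v : M2 p → ZMod 2) M =
      (v : M2 p → ZMod 2) ((((g ^ i)⁻¹ : SL2 p) : M2 p) * M * ((g ^ i : SL2 p) : M2 p)) := by
  rw [← map_pow]
  rfl

/-- the point `Y = [a, b; -δ b, -a]` of the plane orthogonal to `[0, 1; δ, 0]` -/
def YY (δ a b : ZMod p) : M2 p := !![a, b; -δ * b, -a]

/-- membership in the circle `{M : tr M = 0, M² = δ, tr (M Y') = tr (Y Y')}` -/
def InE (δ a b a' b' : ZMod p) (M : M2 p) : Prop :=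
  M 0 0 + M 1 1 = 0 ∧ M 0 0 * M 0 0 + M 0 1 * M 1 0 = δ ∧
    2 * a' * M 0 0 + b' * (M 1 0 - δ * M 0 1) = 2 * a * a' - 2 * δ * b * b'

instance (δ a b a' b' : ZMod p) (M : M2 p) : Decidable (InE p δ a b a' b' M) := by
  unfold InE
  infer_instance

/-- the indicator of the circle -/
def fE (δ a b a' b' : ZMod p) : M2 p → ZMod 2 :=
  fun M => if InE p δ a b a' b' M then 1 else 0

end Cfsg.Agent.Lib.Helper40_PGLDefs
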