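import Mathlib
import Cfsg.Agent.Lib.Helper40_PGLDefs

/-!
# S3452-TORNS: a non-split torus generator of `SL₂(p)` commuting with `Y = [a b; -δ b, -a]`
-/

set_option autoImplicit false
open scoped Matrix
open Polynomial
open Cfsg.Agent.Lib.Helper40_PGLDefs

namespace Cfsg.Agent.Lib.Helper31_S3452_TORNS

theorem torns_YY_sq (p : ℕ) [Fact p.Prime] (δ a b : ZMod p) (h : a ^ 2 - δ * b ^ 2 = δ) :
    YY p δ a b * YY p δ a b = algebraMap (ZMod p) (M2 p) δ := by
  ext i k
  fin_cases i <;> fin_cases k <;>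
    simp [YY, Matrix.mul_apply, Fin.sum_univ_two, Matrix.algebraMap_matrix_apply] <;>
    first | linear_combination h | linear_combination -h | ring

theorem torns_irreducible (p : ℕ) [Fact p.Prime] (δ : ZMod p) (hδ : ¬ IsSquare δ) :
    Irreducible (X ^ 2 - C δ : (ZMod p)[X]) := by
  apply Polynomial.irreducible_of_degree_le_three_of_not_isRoot
  · rw [natDegree_X_pow_sub_C]
    simp
  · intro x hx
    apply hδ
    refine ⟨x, ?_⟩
    have : x ^ 2 - δ = 0 := by simpa [IsRoot] using hx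
    linear_combination -this

theorem torns_half_dvd (n j : ℕ) (hn : Even n) : n ∣ 2 * j ↔ n / 2 ∣ j := by
  obtain ⟨m, rfl⟩ := hn
  have : (m + m) / 2 = m := by omega
  rw [this, ← two_mul]
  exact Nat.mul_dvd_mul_iff_left (by norm_num)

/-- S3452-TORNS. -/
theorem exists_nonsplit (p : ℕ) [Fact p.Prime] (hp2 : p ≠ 2) (δ a b : ZMod p) (hδ : ¬ IsSquare δ)
    (h : a ^ 2 - δ * b ^ 2 = δ) :
    ∃ D : SL2 p, (D : M2 p) * YY p δ a b = YY p δ a b * (D : M2 p) ∧
      ∀ j : ℕ, (((D ^ j : SL2 p) : M2 p) = 1 ∨ ((D ^ j : SL2 p) : M2 p) = -1) ↔ (p + 1) / 2 ∣ j := by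
  classical
  have hp : p.Prime := Fact.out
  have hp1 : 1 < p := hp.one_lt
  set f : (ZMod p)[X] := X ^ 2 - C δ with hf
  have hirr : Irreducible f := torns_irreducible p δ hδ
  have : Fact (Irreducible f) := ⟨hirr⟩
  have hf0 : f ≠ 0 := hirr.ne_zero
  have hdeg : f.natDegree = 2 := natDegree_X_pow_sub_C
  -- the field K = F_p[√δ]
  let pb := AdjoinRoot.powerBasis hf0
  have : Module.Finite (ZMod p) (AdjoinRoot f) := pb.finite
  have : Finite (AdjoinRoot f) := Module.finite_of_finite (ZMod p)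
  let _ : Fintype (AdjoinRoot f) := Fintype.ofFinite _
  have hcardK : Nat.card (AdjoinRoot f) = p ^ 2 := by
    rw [Nat.card_eq_fintype_card, Module.card_eq_pow_finrank (K := ZMod p), ZMod.card, pb.finrank,
      AdjoinRoot.powerBasis_dim, hdeg]
  have hcardU : Nat.card (AdjoinRoot f)ˣ = p ^ 2 - 1 := by
    rw [Nat.card_units, hcardK]
  -- the embedding of K in the matrix ring
  have hY : Polynomial.aeval (YY p δ a b) f = 0 := by
    rw [hf, map_sub, map_pow, aeval_X, aeval_C, pow_two, torns_YY_sq p δ a b h, sub_self]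
  have hker : ∀ g : (ZMod p)[X], g ∈ Ideal.span {f} →
      ((Polynomial.aeval (YY p δ a b) : (ZMod p)[X] →ₐ[ZMod p] M2 p) : (ZMod p)[X] →+* M2 p) g = 0 := by
    intro g hg
    obtain ⟨c, rfl⟩ := Ideal.mem_span_singleton.mp hg
    change Polynomial.aeval (YY p δ a b) (f * c) = 0
    rw [map_mul, hY, zero_mul]
  let φ : AdjoinRoot f →+* M2 p := Ideal.Quotient.lift (Ideal.span {f})
    ((Polynomial.aeval (YY p δ a b) : (ZMod p)[X] →ₐ[ZMod p] M2 p) : (ZMod p)[X] →+* M2 p) hker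
  have hφinj : Function.Injective φ := φ.injective
  have hφroot : φ (AdjoinRoot.root f) = YY p δ a b := by
    change Polynomial.aeval (YY p δ a b) (X : (ZMod p)[X]) = YY p δ a b
    exact aeval_X _
  -- the generator
  obtain ⟨ζ, hζ⟩ := IsCyclic.exists_generator (α := (AdjoinRoot f)ˣ)
  have hordζ : orderOf ζ = p ^ 2 - 1 := by
    rw [orderOf_eq_card_of_forall_mem_zpowers hζ, hcardU]
  have hfac : p ^ 2 - 1 = (p - 1) * (p + 1) := by
    obtain ⟨k, rfl⟩ : ∃ k, p = k + 1 := ⟨p - 1, by omega⟩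
    simp only [Nat.add_sub_cancel]
    ring_nf
    omega
  set η : (AdjoinRoot f)ˣ := ζ ^ (p - 1) with hη
  have hordη : orderOf η = p + 1 := by
    rw [hη, orderOf_pow' _ (by omega : p - 1 ≠ 0), hordζ, hfac,
      Nat.gcd_eq_right (Dvd.intro _ rfl), Nat.mul_div_cancel_left _ (by omega : 0 < p - 1)]
  -- determinant one
  have hdetζ : (φ (ζ : AdjoinRoot f)).det ≠ 0 := by
    have hu : IsUnit (φ (ζ : AdjoinRoot f)) := ζ.isUnit.map φ
    exact ((Matrix.isUnit_iff_isUnit_det _).mp hu).ne_zero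
  have hdet : (φ (η : AdjoinRoot f)).det = 1 := by
    rw [hη, Units.val_pow_eq_pow_val, map_pow, Matrix.det_pow]
    exact ZMod.pow_card_sub_one_eq_one hdetζ
  let D : SL2 p := ⟨φ (η : AdjoinRoot f), hdet⟩
  refine ⟨D, ?_, ?_⟩
  · change φ (η : AdjoinRoot f) * YY p δ a b = YY p δ a b * φ (η : AdjoinRoot f)
    rw [← hφroot, ← map_mul, ← map_mul, mul_comm]
  · intro j
    have hpow : ((D ^ j : SL2 p) : M2 p) = φ (((η ^ j : (AdjoinRoot f)ˣ)) : AdjoinRoot f) := by
      rw [Matrix.SpecialLinearGroup.coe_pow, Units.val_pow_eq_pow_val, map_pow]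
    rw [hpow]
    have h1 : φ ((η ^ j : (AdjoinRoot f)ˣ) : AdjoinRoot f) = 1 ↔
        ((η ^ j : (AdjoinRoot f)ˣ) : AdjoinRoot f) = 1 := by
      rw [← map_one φ]
      exact hφinj.eq_iff
    have h2 : φ ((η ^ j : (AdjoinRoot f)ˣ) : AdjoinRoot f) = -1 ↔
        ((η ^ j : (AdjoinRoot f)ˣ) : AdjoinRoot f) = -1 := by
      rw [← map_one φ, ← map_neg]
      exact hφinj.eq_iff
    rw [h1, h2, ← sq_eq_one_iff]
    have hpe : Even (p + 1) := by
      have : Odd p := hp.odd_of_ne_two hp2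
      obtain ⟨k, hk⟩ := this
      exact ⟨k + 1, by omega⟩
    rw [← torns_half_dvd (p + 1) j hpe, ← hordη, orderOf_dvd_iff_pow_eq_one, pow_mul', ← Units.val_pow_eq_pow_val,
      Units.val_eq_one]

end Cfsg.Agent.Lib.Helper31_S3452_TORNS
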