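import Mathlib
import Cfsg.Agent.Lib.Helper40_PGLDefs

/-!
# S3452-TORS: a split torus generator of `SL₂(p)`
-/

set_option autoImplicit false
open scoped Matrix
open Cfsg.Agent.Lib.Helper40_PGLDefs

namespace Cfsg.Agent.Lib.Helper31_S3452_TORS

theorem tors_diag_pow {R : Type*} [CommRing R] (c d : R) (j : ℕ) :
    (!![c, 0; 0, d] : Matrix (Fin 2) (Fin 2) R) ^ j = !![c ^ j, 0; 0, d ^ j] := by
  induction j with
  | zero =>
    ext i k
    fin_cases i <;> fin_cases k <;> simp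
  | succ n ih =>
    rw [pow_succ, ih]
    ext i k
    fin_cases i <;> fin_cases k <;> simp [Matrix.mul_apply, Fin.sum_univ_two, pow_succ]

theorem tors_half_dvd (n j : ℕ) (hn : Even n) : n ∣ 2 * j ↔ n / 2 ∣ j := by
  obtain ⟨m, rfl⟩ := hn
  have : (m + m) / 2 = m := by omega
  rw [this, ← two_mul]
  exact Nat.mul_dvd_mul_iff_left (by norm_num)

theorem tors_diag_eq_one {R : Type*} [CommRing R] (c d : R) :
    (!![c, 0; 0, d] : Matrix (Fin 2) (Fin 2) R) = 1 ↔ c = 1 ∧ d = 1 := by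
  constructor
  · intro h
    have h00 := congrFun (congrFun h 0) 0
    have h11 := congrFun (congrFun h 1) 1
    simp at h00 h11
    exact ⟨h00, h11⟩
  · rintro ⟨rfl, rfl⟩
    ext i k
    fin_cases i <;> fin_cases k <;> simp

theorem tors_diag_eq_neg_one {R : Type*} [CommRing R] (c d : R) :
    (!![c, 0; 0, d] : Matrix (Fin 2) (Fin 2) R) = -1 ↔ c = -1 ∧ d = -1 := by
  constructor
  · intro h
    have h00 := congrFun (congrFun h 0) 0
    have h11 := congrFun (congrFun h 1) 1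
    simp at h00 h11
    exact ⟨h00, h11⟩
  · rintro ⟨rfl, rfl⟩
    ext i k
    fin_cases i <;> fin_cases k <;> simp

/-- S3452-TORS. -/
theorem exists_split (p : ℕ) [Fact p.Prime] (hp2 : p ≠ 2) :
    ∃ g : SL2 p, (g : M2 p) 0 1 = 0 ∧ (g : M2 p) 1 0 = 0 ∧
      ∀ j : ℕ, (((g ^ j : SL2 p) : M2 p) = 1 ∨ ((g ^ j : SL2 p) : M2 p) = -1) ↔ (p - 1) / 2 ∣ j := by
  have hp : p.Prime := Fact.out
  obtain ⟨c, hc⟩ := IsCyclic.exists_generator (α := (ZMod p)ˣ)
  have hord : orderOf c = p - 1 := by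
    rw [orderOf_eq_card_of_forall_mem_zpowers hc, Nat.card_eq_fintype_card, ZMod.card_units_eq_totient,
      Nat.totient_prime hp]
  set x : ZMod p := (c : ZMod p) with hx
  set y : ZMod p := ((c⁻¹ : (ZMod p)ˣ) : ZMod p) with hy
  have hxy : x * y = 1 := by rw [hx, hy, Units.mul_inv]
  have hdet : (!![x, 0; 0, y] : M2 p).det = 1 := by
    rw [Matrix.det_fin_two_of, mul_zero, sub_zero, hxy]
  let g : SL2 p := ⟨!![x, 0; 0, y], hdet⟩
  refine ⟨g, rfl, rfl, ?_⟩
  intro j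
  have hpow : ((g ^ j : SL2 p) : M2 p) = !![x ^ j, 0; 0, y ^ j] := by
    rw [Matrix.SpecialLinearGroup.coe_pow]
    exact tors_diag_pow _ _ j
  rw [hpow, tors_diag_eq_one, tors_diag_eq_neg_one]
  have hpe : Even (p - 1) := by
    have : Odd p := hp.odd_of_ne_two hp2
    obtain ⟨k, hk⟩ := this
    exact ⟨k, by omega⟩
  rw [← tors_half_dvd (p - 1) j hpe, ← hord, orderOf_dvd_iff_pow_eq_one]
  have hxyj : x ^ j * y ^ j = 1 := by rw [← mul_pow, hxy, one_pow]
  have hcx : c ^ (2 * j) = 1 ↔ (x ^ j) ^ 2 = 1 := by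
    rw [← pow_mul', hx, ← Units.val_pow_eq_pow_val, Units.val_eq_one]
  rw [hcx]
  constructor
  · rintro (⟨h, -⟩ | ⟨h, -⟩)
    · rw [h, one_pow]
    · rw [h]; norm_num
  · intro h2
    have h3 : x ^ j = 1 ∨ x ^ j = -1 := sq_eq_one_iff.mp h2
    rcases h3 with h3 | h3
    · left
      refine ⟨h3, ?_⟩
      rw [h3, one_mul] at hxyj
      exact hxyj
    · right
      refine ⟨h3, ?_⟩
      rw [h3] at hxyj
      linear_combination -hxyj

end Cfsg.Agent.Lib.Helper31_S3452_TORS
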