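import Mathlib

set_option autoImplicit false

/-! S4839 package CAM: the Camina-type criterion. If `|C_G(g)| = |C_{G/N}(gN)|` then the whole coset
`g N` lies in the conjugacy class of `g`. -/

namespace Cfsg.Agent.Lib.Helper31_S4839_CAM

/-- Orbit–stabilizer for conjugacy classes with `Nat.card`. -/
theorem card_class_mul_card_centralizer {G : Type*} [Group G] [Finite G] (g : G) :
    Nat.card {x : G | IsConj g x} * Nat.card (Subgroup.centralizer ({g} : Set G)) = Nat.card G := by
  classical
  haveI := Fintype.ofFinite G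
  have h1 := MulAction.card_orbit_mul_card_stabilizer_eq_card_group (ConjAct G) g
  have h2 : Nat.card (MulAction.orbit (ConjAct G) g) = Nat.card {x : G | IsConj g x} := by
    apply Nat.card_congr
    refine Equiv.subtypeEquivRight ?_
    intro x
    rw [ConjAct.mem_orbit_conjAct]
    exact ⟨IsConj.symm, IsConj.symm⟩
  have h3 : Nat.card (ConjAct G) = Nat.card G := rfl
  rw [Subgroup.nat_card_centralizer_nat_card_stabilizer, ← h2, ← h3,
    Nat.card_eq_fintype_card, Nat.card_eq_fintype_card, Nat.card_eq_fintype_card]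
  convert h1

theorem camina {G : Type*} [Group G] [Finite G] (N : Subgroup G) [N.Normal] (g : G)
    (h : Nat.card (Subgroup.centralizer ({g} : Set G)) =
      Nat.card (Subgroup.centralizer ({(g : G ⧸ N)} : Set (G ⧸ N)))) :
    ∀ n ∈ N, IsConj g (g * n) := by
  intro n hn
  have e1 := card_class_mul_card_centralizer g
  have e2 := card_class_mul_card_centralizer (g : G ⧸ N)
  have e3 : Nat.card G = Nat.card (G ⧸ N) * Nat.card N :=
    Subgroup.card_eq_card_quotient_mul_card_subgroup N
  have e4 := QuotientGroup.card_preimage_mk N {x : G ⧸ N | IsConj (g : G ⧸ N) x}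
  have hCpos : 0 < Nat.card (Subgroup.centralizer ({g} : Set G)) := Nat.card_pos
  -- the class of `g` and the preimage of the class of `gN` have the same cardinality
  have e5 : Nat.card {x : G | IsConj g x} =
      Nat.card ((QuotientGroup.mk : G → G ⧸ N) ⁻¹' {x : G ⧸ N | IsConj (g : G ⧸ N) x}) := by
    rw [e4]
    apply Nat.eq_of_mul_eq_mul_right hCpos
    rw [e1, e3, ← e2, h]
    ring
  have hsub : {x : G | IsConj g x} ⊆
      ((QuotientGroup.mk : G → G ⧸ N) ⁻¹' {x : G ⧸ N | IsConj (g : G ⧸ N) x}) := by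
    intro x hx
    obtain ⟨c, hc⟩ := isConj_iff.mp hx
    refine isConj_iff.mpr ⟨(c : G ⧸ N), ?_⟩
    rw [← hc]
    simp
  have heq : {x : G | IsConj g x} =
      ((QuotientGroup.mk : G → G ⧸ N) ⁻¹' {x : G ⧸ N | IsConj (g : G ⧸ N) x}) := by
    apply Set.eq_of_subset_of_ncard_le hsub _ (Set.toFinite _)
    rw [← Nat.card_coe_set_eq, ← Nat.card_coe_set_eq, e5]
  have hmem : g * n ∈
      ((QuotientGroup.mk : G → G ⧸ N) ⁻¹' {x : G ⧸ N | IsConj (g : G ⧸ N) x}) := by
    show IsConj (g : G ⧸ N) ((g * n : G) : G ⧸ N)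
    have : ((g * n : G) : G ⧸ N) = (g : G ⧸ N) := by
      rw [QuotientGroup.mk_mul, (QuotientGroup.eq_one_iff n).mpr hn, mul_one]
    rw [this]
  rw [← heq] at hmem
  exact hmem

end Cfsg.Agent.Lib.Helper31_S4839_CAM
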