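import Mathlib
import Cfsg.Prelude.Def_Solvable
import Cfsg.Agent.Lib.Helper63_PGroup

/-!
# Elementary counting in Frobenius groups (helper63)

`R` is a Frobenius complement in the finite group `G` (`Cfsg.IsFrobeniusComplement R`),
`K = Cfsg.frobeniusKernel R` (a set).  No character theory: only counting.
-/

set_option autoImplicit false

namespace Cfsg.Agent.Lib.Helper63_Frobenius

open Cfsg Cfsg.Agent.Lib.Helper63_PGroup
open scoped Pointwise

variable {G : Type*} [Group G]

theorem mem_conj_smul {H : Subgroup G} {g x : G} :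
    x ∈ MulAut.conj g • H ↔ g⁻¹ * x * g ∈ H := by
  rw [Subgroup.mem_pointwise_smul_iff_inv_smul_mem]
  simp [MulAut.smul_def]

theorem mem_frobeniusKernel {R : Subgroup G} {x : G} :
    x ∈ frobeniusKernel R ↔ x = 1 ∨ ∀ g : G, g⁻¹ * x * g ∉ R := by
  unfold frobeniusKernel
  simp only [Set.mem_ofPred_eq, mem_conj_smul]

theorem one_mem_frobeniusKernel (R : Subgroup G) : (1 : G) ∈ frobeniusKernel R :=
  mem_frobeniusKernel.2 (Or.inl rfl)

/-- the defining property: a nontrivial element of `R` conjugated into `R` by `g` forces `g ∈ R` -/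
theorem mem_of_conj_mem {R : Subgroup G} (hR : IsFrobeniusComplement R) {x g : G} (hx : x ∈ R)
    (hx1 : x ≠ 1) (hxg : g⁻¹ * x * g ∈ R) : g ∈ R := by
  by_contra hg
  have h := hR.2.2 g hg
  have : x ∈ R ⊓ MulAut.conj g • R := ⟨hx, mem_conj_smul.2 hxg⟩
  rw [h, Subgroup.mem_bot] at this
  exact hx1 this

/-- two conjugates of `R` sharing a nontrivial element coincide -/
theorem inv_mul_mem_of_conj_mem {R : Subgroup G} (hR : IsFrobeniusComplement R) {x g h : G}
    (hx1 : x ≠ 1) (hg : g⁻¹ * x * g ∈ R) (hh : h⁻¹ * x * h ∈ R) : g⁻¹ * h ∈ R := by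
  apply mem_of_conj_mem hR hg
  · intro h1
    apply hx1
    have : x = g * (g⁻¹ * x * g) * g⁻¹ := by group
    rw [this, h1]; group
  · have : (g⁻¹ * h)⁻¹ * (g⁻¹ * x * g) * (g⁻¹ * h) = h⁻¹ * x * h := by group
    rw [this]; exact hh

/-- the centralizer of a nontrivial element of `R` lies in `R` -/
theorem mem_of_commute {R : Subgroup G} (hR : IsFrobeniusComplement R) {x c : G} (hx : x ∈ R)
    (hx1 : x ≠ 1) (hc : c * x = x * c) : c ∈ R := by
  apply mem_of_conj_mem hR hx hx1
  have : c⁻¹ * x * c = x := by
    rw [mul_assoc, ← hc]; group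
  rw [this]; exact hx

section Count

variable [Finite G]

/-- **The basic count.** For a normal subgroup `N` of a finite group with Frobenius complement `R`:
`|G| (|N ∩ R| - 1) + |R| · #(N ∩ K) = |R| |N|`. -/
theorem count_normal {R : Subgroup G} (hR : IsFrobeniusComplement R) (N : Subgroup G) [hN : N.Normal] :
    Nat.card G * (Nat.card (N ⊓ R : Subgroup G) - 1) +
        Nat.card R * Nat.card {x : G // x ∈ N ∧ x ∈ frobeniusKernel R} =
      Nat.card R * Nat.card N := by
  classical
  have : Fintype G := Fintype.ofFinite G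
  set K := frobeniusKernel R with hK
  let Ns : Finset G := Finset.univ.filter (fun x => x ∈ N ∧ x ≠ 1)
  -- count by `x`
  have hI : ∀ x ∈ Ns, (Finset.univ.filter (fun g : G => g⁻¹ * x * g ∈ R)).card =
      if x ∈ K then 0 else Nat.card R := by
    intro x hx
    simp only [Ns, Finset.mem_filter, Finset.mem_univ, true_and] at hx
    split_ifs with hxK
    · rw [Finset.card_eq_zero, Finset.filter_eq_empty_iff]
      intro g _
      rcases mem_frobeniusKernel.1 hxK with h | h
      · exact absurd h hx.2
      · exact h g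
    · have hex : ∃ g₀ : G, g₀⁻¹ * x * g₀ ∈ R := by
        by_contra hno
        push Not at hno
        exact hxK (mem_frobeniusKernel.2 (Or.inr hno))
      obtain ⟨g₀, hg₀⟩ := hex
      have heq : Finset.univ.filter (fun g : G => g⁻¹ * x * g ∈ R) =
          (Finset.univ.filter (fun r : G => r ∈ R)).image (fun r => g₀ * r) := by
        ext g
        simp only [Finset.mem_filter, Finset.mem_univ, true_and, Finset.mem_image]
        constructor
        · intro hg
          exact ⟨g₀⁻¹ * g, inv_mul_mem_of_conj_mem hR hx.2 hg₀ hg, by group⟩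
        · rintro ⟨r, hr, rfl⟩
          have : (g₀ * r)⁻¹ * x * (g₀ * r) = r⁻¹ * (g₀⁻¹ * x * g₀) * r := by group
          rw [this]
          exact R.mul_mem (R.mul_mem (R.inv_mem hr) hg₀) hr
      rw [heq, Finset.card_image_of_injective _ (mul_right_injective g₀),
        Nat.card_eq_fintype_card, Fintype.card_subtype]
  -- count by `g`
  have hII : ∀ g : G, (Ns.filter (fun x => g⁻¹ * x * g ∈ R)).card =
      Nat.card (N ⊓ R : Subgroup G) - 1 := by
    intro g
    have heq : Ns.filter (fun x => g⁻¹ * x * g ∈ R) =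
        ((Finset.univ.filter (fun y : G => y ∈ N ⊓ R)).erase 1).image (fun y => g * y * g⁻¹) := by
      ext x
      simp only [Ns, Finset.mem_filter, Finset.mem_univ, true_and, Finset.mem_image,
        Finset.mem_erase]
      constructor
      · rintro ⟨⟨hxN, hx1⟩, hxR⟩
        refine ⟨g⁻¹ * x * g, ⟨?_, ?_, hxR⟩, by group⟩
        · intro h
          apply hx1
          have : x = g * (g⁻¹ * x * g) * g⁻¹ := by group
          rw [this, h]; group
        · have := hN.conj_mem x hxN g⁻¹
          rwa [inv_inv] at this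
      · rintro ⟨y, ⟨hy1, hyN, hyR⟩, rfl⟩
        refine ⟨⟨hN.conj_mem y hyN g, ?_⟩, ?_⟩
        · intro h
          apply hy1
          have : y = g⁻¹ * (g * y * g⁻¹) * g := by group
          rw [this, h]; group
        · have : g⁻¹ * (g * y * g⁻¹) * g = y := by group
          rw [this]; exact hyR
    have hinj : Function.Injective (fun y : G => g * y * g⁻¹) := by
      intro a b hab
      simpa using hab
    rw [heq, Finset.card_image_of_injective _ hinj, Finset.card_erase_of_mem (by simp),
      Nat.card_eq_fintype_card, Fintype.card_subtype]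
  -- the double sum
  have hsum : ∑ x ∈ Ns, (Finset.univ.filter (fun g : G => g⁻¹ * x * g ∈ R)).card =
      ∑ g : G, (Ns.filter (fun x => g⁻¹ * x * g ∈ R)).card := by
    simp only [Finset.card_filter]
    exact Finset.sum_comm
  rw [Finset.sum_congr rfl hI, Finset.sum_congr rfl (fun g _ => hII g), Finset.sum_const,
    Finset.card_univ, smul_eq_mul, ← Nat.card_eq_fintype_card, Finset.sum_ite, Finset.sum_const_zero,
    zero_add, Finset.sum_const, smul_eq_mul] at hsum
  rw [← hsum]
  -- `N = (N ∖ K) ⊔ (N ∩ K)`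
  have hsplit : (Ns.filter (fun x => ¬ x ∈ K)).card +
      Nat.card {x : G // x ∈ N ∧ x ∈ frobeniusKernel R} = Nat.card N := by
    rw [Nat.card_eq_fintype_card, Nat.card_eq_fintype_card, Fintype.card_subtype,
      Fintype.card_subtype]
    have h1 : Ns.filter (fun x => ¬ x ∈ K) = Finset.univ.filter (fun x => x ∈ N ∧ ¬ x ∈ K) := by
      ext x
      simp only [Ns, Finset.mem_filter, Finset.mem_univ, true_and]
      constructor
      · rintro ⟨⟨h1, _⟩, h3⟩; exact ⟨h1, h3⟩
      · rintro ⟨h1, h3⟩
        refine ⟨⟨h1, ?_⟩, h3⟩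
        rintro rfl
        exact h3 (one_mem_frobeniusKernel R)
    rw [h1, ← Finset.card_union_of_disjoint]
    · congr 1
      ext x
      simp only [Finset.mem_union, Finset.mem_filter, Finset.mem_univ, true_and, ← hK]
      by_cases hxK : x ∈ K
      · simp [hxK]
      · simp [hxK]
    · rw [Finset.disjoint_filter]
      intro x _ h1 h2
      exact h1.2 h2.2
  rw [← hsplit]; ring

/-- the Frobenius kernel has exactly `|G : R|` elements -/
theorem card_frobeniusKernel {R : Subgroup G} (hR : IsFrobeniusComplement R) :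
    Nat.card {x : G // x ∈ frobeniusKernel R} = R.index := by
  have h := count_normal hR (⊤ : Subgroup G)
  have h1 : Nat.card {x : G // x ∈ (⊤ : Subgroup G) ∧ x ∈ frobeniusKernel R} =
      Nat.card {x : G // x ∈ frobeniusKernel R} := by
    apply Nat.card_congr
    exact Equiv.subtypeEquivRight (fun x => by simp)
  rw [h1, top_inf_eq, Subgroup.card_top] at h
  have hG : Nat.card R * R.index = Nat.card G := Subgroup.card_mul_index R
  have hRpos : 0 < Nat.card R := Nat.card_pos
  set k := Nat.card {x : G // x ∈ frobeniusKernel R} with hk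
  set r := Nat.card R with hr
  set n := R.index with hn
  rw [← hG] at h
  -- r * n * (r - 1) + r * k = r * (r * n)
  have h2 : n * (r - 1) + k = r * n := by
    have : r * (n * (r - 1) + k) = r * (r * n) := by rw [← h]; ring
    exact Nat.eq_of_mul_eq_mul_left hRpos this
  have h3 : n * (r - 1) + n = r * n := by
    obtain ⟨r', hr'⟩ : ∃ r', r = r' + 1 := ⟨r - 1, by omega⟩
    rw [hr']; simp; ring
  omega

/-- second isomorphism theorem on the level of indices, for `N` normal -/
theorem relIndex_sup_eq_of_normal (R N : Subgroup G) [N.Normal] :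
    R.relIndex (R ⊔ N) = R.relIndex N := by
  have h1 : N.relIndex (R ⊔ N) = N.relIndex R := Subgroup.relIndex_sup_right R N
  have h2 := card_mul_relIndex (le_sup_right : N ≤ R ⊔ N)
  have h3 := card_mul_relIndex (le_sup_left : R ≤ R ⊔ N)
  have h4 : Nat.card (N ⊓ R : Subgroup G) * N.relIndex R = Nat.card R := by
    rw [← Subgroup.inf_relIndex_right]
    exact card_mul_relIndex inf_le_right
  have h5 : Nat.card (N ⊓ R : Subgroup G) * R.relIndex N = Nat.card N := by
    rw [← Subgroup.inf_relIndex_left, inf_comm]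
    exact card_mul_relIndex inf_le_right
  rw [h1] at h2
  have hpos : 0 < Nat.card (N ⊓ R : Subgroup G) := Nat.card_pos
  have hRpos : 0 < Nat.card R := Nat.card_pos
  have : Nat.card R * R.relIndex (R ⊔ N) = Nat.card R * R.relIndex N := by
    rw [h3, ← h2, ← h5, ← h4]; ring
  exact Nat.eq_of_mul_eq_mul_left hRpos this

/-- for `N` normal, `|N : N ∩ R|` divides `|G : R|` -/
theorem relIndex_dvd_index_of_normal' (R N : Subgroup G) [N.Normal] : R.relIndex N ∣ R.index := by
  rw [← relIndex_sup_eq_of_normal]
  exact Subgroup.relIndex_dvd_index_of_le le_sup_left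

/-- **A normal subgroup meeting `R` nontrivially contains the Frobenius kernel.** -/
theorem frobeniusKernel_subset_of_inf_ne_bot {R : Subgroup G} (hR : IsFrobeniusComplement R)
    (N : Subgroup G) [N.Normal] (hNR : N ⊓ R ≠ ⊥) : frobeniusKernel R ⊆ N := by
  classical
  have h := count_normal hR N
  have hk := card_frobeniusKernel hR
  have hG : Nat.card R * R.index = Nat.card G := Subgroup.card_mul_index R
  have hRpos : 0 < Nat.card R := Nat.card_pos
  have hnpos : 0 < R.index := Nat.pos_of_ne_zero (Subgroup.index_ne_zero_of_finite)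
  have h5 : Nat.card (N ⊓ R : Subgroup G) * R.relIndex N = Nat.card N := by
    rw [← Subgroup.inf_relIndex_left, inf_comm]
    exact card_mul_relIndex inf_le_right
  obtain ⟨c, hc⟩ := relIndex_dvd_index_of_normal' R N
  set r := Nat.card R with hr
  set n := R.index with hn
  set r0 := Nat.card (N ⊓ R : Subgroup G) with hr0
  set q := R.relIndex N with hq
  set kN := Nat.card {x : G // x ∈ N ∧ x ∈ frobeniusKernel R} with hkN
  have hr0 : 2 ≤ r0 := by
    have h1 : 1 ≤ r0 := Nat.card_pos
    have h2 : r0 ≠ 1 := fun h => hNR (Subgroup.card_eq_one.1 h)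
    omega
  have hkNpos : 1 ≤ kN := by
    rw [hkN]
    have : Nonempty {x : G // x ∈ N ∧ x ∈ frobeniusKernel R} :=
      ⟨⟨1, N.one_mem, one_mem_frobeniusKernel R⟩⟩
    exact Nat.card_pos
  -- n * (r0 - 1) + kN = r0 * q
  rw [← hG, ← h5] at h
  have h6 : n * (r0 - 1) + kN = r0 * q := by
    have : r * (n * (r0 - 1) + kN) = r * (r0 * q) := by rw [← h]; ring
    exact Nat.eq_of_mul_eq_mul_left hRpos this
  -- `c = 1`
  have hcpos : 0 < c := by
    rcases Nat.eq_zero_or_pos c with h0 | h0
    · rw [h0, mul_zero] at hc; omega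
    · exact h0
  have hqpos : 0 < q := by
    rcases Nat.eq_zero_or_pos q with h0 | h0
    · rw [h0, zero_mul] at hc; omega
    · exact h0
  have hc1 : c = 1 := by
    by_contra hne
    have hc2 : 2 ≤ c := by omega
    obtain ⟨r1, hr1⟩ : ∃ r1, r0 = r1 + 2 := ⟨r0 - 2, by omega⟩
    have e1 : n * (r0 - 1) = q * c * (r1 + 1) := by rw [hc, hr1]; simp
    have e2 : q * c * (r1 + 1) ≥ q * 2 * (r1 + 1) := by gcongr
    have e3 : q * 2 * (r1 + 1) ≥ (r1 + 2) * q := by nlinarith
    rw [e1, hr1] at h6
    omega
  rw [hc1, mul_one] at hc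
  -- so `kN = n`
  have hkNn : kN = n := by
    rw [hc] at h6 ⊢
    obtain ⟨r1, hr1⟩ : ∃ r1, r0 = r1 + 1 := ⟨r0 - 1, by omega⟩
    rw [hr1] at h6
    simp at h6
    nlinarith
  -- compare the two finite sets
  intro x hx
  by_contra hxN
  have hlt : kN < Nat.card {x : G // x ∈ frobeniusKernel R} := by
    have : Fintype G := Fintype.ofFinite G
    rw [hkN, Nat.card_eq_fintype_card, Nat.card_eq_fintype_card, Fintype.card_subtype,
      Fintype.card_subtype]
    apply Finset.card_lt_card
    rw [Finset.ssubset_iff_of_subset]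
    · refine ⟨x, by simp [hx], ?_⟩
      simp only [Finset.mem_filter, Finset.mem_univ, true_and, not_and]
      intro hxN'
      exact absurd hxN' hxN
    · intro y hy
      simp only [Finset.mem_filter, Finset.mem_univ, true_and] at hy ⊢
      exact hy.2
  rw [hk, hkNn] at hlt
  exact lt_irrefl _ hlt

end Count

end Cfsg.Agent.Lib.Helper63_Frobenius
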