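import Mathlib
import Cfsg.Prelude.Def_Solvable
import Cfsg.Agent.Lib.Helper63_Frobenius
import Cfsg.Agent.Lib.Helper71_FrobCount
import Cfsg.Agent.Lib.Helper25_CNFrob
import Cfsg.Agent.Lib.Helper1_FPF
import Cfsg.Agent.S0033
import Cfsg.Agent.S1476

set_option autoImplicit false
open Cfsg
open scoped Pointwise

/-! A Frobenius group `L` with complement `C` whose Frobenius kernel is a given normal subgroup `N`:
basic structure, nilpotency of the kernel (Thompson), property (C) of the complement. -/

namespace Cfsg.Agent.Lib.Helper66_FrobK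

open Cfsg.Agent.Lib.Helper63_Frobenius

section

variable {L : Type*} [Group L] (N C : Subgroup L)

theorem inf_eq_bot (hker : frobeniusKernel C = (N : Set L)) : N ⊓ C = ⊥ := by
  rw [eq_bot_iff]
  rintro x ⟨hxN, hxC⟩
  have h1 : x ∈ frobeniusKernel C := by rw [hker]; exact hxN
  rcases mem_frobeniusKernel.mp h1 with h | h
  · exact h
  · exfalso
    apply h 1
    simpa using hxC

theorem exists_conj_mem (hker : frobeniusKernel C = (N : Set L)) {x : L} (hx : x ∉ N) :
    ∃ g : L, g⁻¹ * x * g ∈ C := by
  by_contra hcon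
  push Not at hcon
  apply hx
  have : x ∈ frobeniusKernel C := mem_frobeniusKernel.mpr (Or.inr hcon)
  rw [hker] at this
  exact this

/-- fixed-point-freeness -/
theorem fpf (hC : IsFrobeniusComplement C) (hker : frobeniusKernel C = (N : Set L)) {c n : L}
    (hc : c ∈ C) (hc1 : c ≠ 1) (hn : n ∈ N) (hcomm : c * n = n * c) : n = 1 := by
  have h1 : n ∈ C := mem_of_commute hC hc hc1 hcomm.symm
  have h2 : n ∈ N ⊓ C := ⟨hn, h1⟩
  rw [inf_eq_bot N C hker] at h2
  exact h2

/-- an element outside the kernel commutes with no nontrivial element of the kernel -/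
theorem not_commute [N.Normal] (hC : IsFrobeniusComplement C)
    (hker : frobeniusKernel C = (N : Set L)) {x y : L} (hx : x ∉ N) (hy : y ∈ N) (hy1 : y ≠ 1) :
    x * y ≠ y * x := by
  intro hxy
  obtain ⟨g, hg⟩ := exists_conj_mem N C hker hx
  have hx1 : g⁻¹ * x * g ≠ 1 := by
    intro h
    apply hx
    have : x = 1 := by
      have h2 : x = g * (g⁻¹ * x * g) * g⁻¹ := by group
      rw [h2, h]; group
    rw [this]
    exact N.one_mem
  have hyN : g⁻¹ * y * g ∈ N := by
    have := (inferInstance : N.Normal).conj_mem y hy g⁻¹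
    rwa [inv_inv] at this
  have hcomm : (g⁻¹ * x * g) * (g⁻¹ * y * g) = (g⁻¹ * y * g) * (g⁻¹ * x * g) := by
    calc (g⁻¹ * x * g) * (g⁻¹ * y * g) = g⁻¹ * (x * y) * g := by group
      _ = g⁻¹ * (y * x) * g := by rw [hxy]
      _ = (g⁻¹ * y * g) * (g⁻¹ * x * g) := by group
  have h1 := fpf N C hC hker hg hx1 hyN hcomm
  apply hy1
  have h2 : y = g * (g⁻¹ * y * g) * g⁻¹ := by group
  rw [h2, h1]; group

variable [Finite L]

theorem card_eq_index (hC : IsFrobeniusComplement C) (hker : frobeniusKernel C = (N : Set L)) :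
    Nat.card N = C.index := by
  have h1 := Cfsg.Agent.Lib.Helper71_FrobCount.card_frobeniusKernel C hC
  rw [hker] at h1
  exact h1

theorem card_mul_card (hC : IsFrobeniusComplement C) (hker : frobeniusKernel C = (N : Set L)) :
    Nat.card N * Nat.card C = Nat.card L := by
  rw [card_eq_index N C hC hker, mul_comm]
  exact C.card_mul_index

theorem coprime_card (hC : IsFrobeniusComplement C) (hker : frobeniusKernel C = (N : Set L)) :
    (Nat.card N).Coprime (Nat.card C) := by
  rw [card_eq_index N C hC hker]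
  have h1 := Cfsg.Agent.Lib.Helper71_FrobCount.index_mod_card C hC
  have h2 : C.index ≡ 1 [MOD Nat.card C] := h1
  have h3 := h2.gcd_eq
  rw [Nat.gcd_one_left] at h3
  exact h3

theorem isComplement' (hC : IsFrobeniusComplement C) (hker : frobeniusKernel C = (N : Set L)) :
    Subgroup.IsComplement' N C :=
  Subgroup.isComplement'_of_card_mul_and_disjoint (card_mul_card N C hC hker)
    (disjoint_iff.mpr (inf_eq_bot N C hker))

theorem ne_bot (hC : IsFrobeniusComplement C) (hker : frobeniusKernel C = (N : Set L)) :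
    N ≠ ⊥ := by
  intro h
  have h1 := card_eq_index N C hC hker
  rw [h, Subgroup.card_bot] at h1
  exact hC.2.1 (Subgroup.index_eq_one.mp h1.symm)

/-- the quotient by the kernel is the complement -/
theorem nonempty_quotient_equiv [N.Normal] (hC : IsFrobeniusComplement C)
    (hker : frobeniusKernel C = (N : Set L)) : Nonempty (C ≃* L ⧸ N) := by
  let f : C →* L ⧸ N := (QuotientGroup.mk' N).comp C.subtype
  have hinj : Function.Injective f := by
    rw [injective_iff_map_eq_one]
    intro c hc
    have h1 : (c : L) ∈ N := (QuotientGroup.eq_one_iff _).mp hc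
    have h2 : (c : L) ∈ N ⊓ C := ⟨h1, c.2⟩
    rw [inf_eq_bot N C hker] at h2
    exact Subtype.ext h2
  have hcard : Nat.card (L ⧸ N) = Nat.card C := by
    have h1 := N.card_mul_index
    rw [← card_mul_card N C hC hker] at h1
    have h2 : 0 < Nat.card N := Nat.card_pos
    rw [← Subgroup.index_eq_card]
    exact Nat.eq_of_mul_eq_mul_left h2 h1
  have hbij : Function.Bijective f := hinj.bijective_of_nat_card_le (le_of_eq hcard)
  exact ⟨MulEquiv.ofBijective f hbij⟩

/-- **Thompson**: the Frobenius kernel is nilpotent -/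
theorem isNilpotent_kernel [N.Normal] (hC : IsFrobeniusComplement C)
    (hker : frobeniusKernel C = (N : Set L)) : Group.IsNilpotent N := by
  -- an element of prime order in the complement
  have hC1 : Nat.card C ≠ 1 := by
    intro h
    exact hC.1 (Subgroup.card_eq_one.mp h)
  obtain ⟨p, hp, hpC⟩ := Nat.exists_prime_and_dvd hC1
  have : Fact p.Prime := ⟨hp⟩
  obtain ⟨c, hc⟩ := exists_prime_orderOf_dvd_card' p hpC
  have hc1 : (c : L) ≠ 1 := by
    intro h
    have : c = 1 := Subtype.ext h
    rw [this, orderOf_one] at hc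
    exact hp.one_lt.ne hc
  let φ : N ≃* N := MulAut.conjNormal (c : L)
  have hφ : ∀ n : N, ((φ n : N) : L) = (c : L) * n * (c : L)⁻¹ := fun n => rfl
  have hfix : MonoidHom.FixedPointFree (φ : N →* N) := by
    intro n hn
    have h1 : (c : L) * n * (c : L)⁻¹ = n := by
      have := congrArg Subtype.val hn
      exact this
    have h2 : (c : L) * n = n * c := by
      calc (c : L) * n = ((c : L) * n * (c : L)⁻¹) * c := by group
        _ = n * c := by rw [h1]
    exact Subtype.ext (fpf N C hC hker c.2 hc1 n.2 h2)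
  have hpow : φ ^ p = 1 := by
    have h1 : φ ^ p = MulAut.conjNormal ((c : L) ^ p) := by
      rw [map_pow]
    rw [h1]
    have h2 : (c : L) ^ p = 1 := by
      have := pow_orderOf_eq_one c
      rw [hc] at this
      have h3 := congrArg Subtype.val this
      rwa [Subgroup.coe_pow] at h3
    rw [h2, map_one]
  have hord : orderOf φ = p := by
    have h1 : orderOf φ ∣ p := orderOf_dvd_of_pow_eq_one hpow
    rcases (Nat.dvd_prime hp).mp h1 with h | h
    · exfalso
      rw [orderOf_eq_one_iff] at h
      apply ne_bot N C hC hker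
      rw [eq_bot_iff]
      intro n hn
      have h2 : φ ⟨n, hn⟩ = ⟨n, hn⟩ := by rw [h]; rfl
      have := hfix ⟨n, hn⟩ h2
      exact congrArg Subtype.val this
    · exact h
  exact Cfsg.Agent.S0033.result φ hfix p hp hord

/-- the complement has property (C) -/
theorem propC_complement [N.Normal] (hC : IsFrobeniusComplement C)
    (hker : frobeniusKernel C = (N : Set L)) : Cfsg.Agent.Lib.Helper25_CNFrob.PropC C := by
  apply Cfsg.Agent.S1476.propC_of_fpf_nilpotent N C (isNilpotent_kernel N C hC hker)
    (ne_bot N C hC hker)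
  intro e he he1
  rw [eq_bot_iff]
  rintro n ⟨hn, hne⟩
  have hne' : n ∈ Subgroup.centralizer ({e} : Set L) := hne
  rw [Subgroup.mem_centralizer_singleton_iff] at hne'
  exact fpf N C hC hker he he1 hn hne'.symm

end

/-- in a finite nilpotent group with property (C), the subgroup of prime order `q` is unique -/
theorem zpowers_eq_of_propC {X : Type*} [Group X] [Finite X]
    (hP : Cfsg.Agent.Lib.Helper25_CNFrob.PropC X)
    (hnil : Group.IsNilpotent X) (q : ℕ) [Fact q.Prime] (z z' : X) (hz : orderOf z = q)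
    (hz' : orderOf z' = q) : Subgroup.zpowers z = Subgroup.zpowers z' := by
  let S : Sylow q X := default
  have hn : (S : Subgroup X).Normal := inferInstance
  have huniq := Sylow.unique_of_normal S hn
  have hle : ∀ w : X, orderOf w = q → Subgroup.zpowers w ≤ S := by
    intro w hw
    have hpg : IsPGroup q (Subgroup.zpowers w) :=
      IsPGroup.of_card (n := 1) (by rw [Nat.card_zpowers, hw, pow_one])
    obtain ⟨Q, hQ⟩ := hpg.exists_le_sylow
    have : Q = S := Subsingleton.elim _ _
    rw [← this]; exact hQ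
  exact hP.uniq q S _ _ S.2 (hle z hz) (hle z' hz') (by rw [Nat.card_zpowers, hz])
    (by rw [Nat.card_zpowers, hz'])

section

variable {L : Type*} [Group L] [Finite L] (N C : Subgroup L)

/-- a Frobenius kernel with property (C) has odd order -/
theorem odd_card_kernel [N.Normal] (hC : IsFrobeniusComplement C)
    (hker : frobeniusKernel C = (N : Set L)) (hP : Cfsg.Agent.Lib.Helper25_CNFrob.PropC N) :
    Odd (Nat.card N) := by
  by_contra hodd
  rw [Nat.not_odd_iff_even, even_iff_two_dvd] at hodd
  have : Fact (Nat.Prime 2) := ⟨Nat.prime_two⟩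
  obtain ⟨z, hz⟩ := exists_prime_orderOf_dvd_card' 2 hodd
  have hnil := isNilpotent_kernel N C hC hker
  obtain ⟨c, hcC, hc1⟩ : ∃ c ∈ C, c ≠ 1 := by
    by_contra h
    push Not at h
    exact hC.1 (by rw [eq_bot_iff]; intro x hx; exact h x hx)
  let z' : N := MulAut.conjNormal c z
  have hz' : orderOf z' = 2 := by
    rw [← hz]
    exact MulEquiv.orderOf_eq (MulAut.conjNormal c : N ≃* N) z
  have h1 := zpowers_eq_of_propC hP hnil 2 z z' hz hz'
  have h2 : z' ∈ Subgroup.zpowers z := by rw [h1]; exact Subgroup.mem_zpowers z'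
  obtain ⟨k, hk⟩ := Subgroup.mem_zpowers_iff.mp h2
  have hk2 : z ^ (k % 2) = z' := by
    have := zpow_mod_orderOf z k
    rw [hz] at this
    rw [← hk]
    exact_mod_cast this
  have hzz : z' = z := by
    rcases Int.emod_two_eq_zero_or_one k with h | h
    · exfalso
      rw [h, zpow_zero] at hk2
      rw [← hk2, orderOf_one] at hz'
      omega
    · rw [h, zpow_one] at hk2
      exact hk2.symm
  have h3 : c * (z : L) * c⁻¹ = z := congrArg Subtype.val hzz
  have h4 : c * (z : L) = z * c := by
    calc c * (z : L) = (c * (z : L) * c⁻¹) * c := by group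
      _ = z * c := by rw [h3]
  have h5 := fpf N C hC hker hcC hc1 z.2 h4
  have h6 : z = 1 := Subtype.ext h5
  rw [h6, orderOf_one] at hz
  omega

/-- if the Frobenius kernel is cyclic, so is the complement -/
theorem isCyclic_complement [N.Normal] (hC : IsFrobeniusComplement C)
    (hker : frobeniusKernel C = (N : Set L)) (hcyc : IsCyclic N) : IsCyclic C := by
  have hfpf : ∀ a ∈ C, a ≠ 1 → N ⊓ Subgroup.centralizer {a} = ⊥ := by
    intro e he he1
    rw [eq_bot_iff]
    rintro n ⟨hn, hne⟩
    have hne' : n ∈ Subgroup.centralizer ({e} : Set L) := hne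
    rw [Subgroup.mem_centralizer_singleton_iff] at hne'
    exact fpf N C hC hker he he1 hn hne'.symm
  have hNb := ne_bot N C hC hker
  obtain ⟨n₀, hn₀, hn₀1⟩ : ∃ n ∈ N, n ≠ 1 := by
    by_contra h
    push Not at h
    exact hNb (by rw [eq_bot_iff]; intro x hx; exact h x hx)
  let φ : C →* MulAut N := (MulAut.conjNormal (H := N)).comp C.subtype
  have hφ : ∀ (c : C) (n : N), ((φ c n : N) : L) = (c : L) * n * (c : L)⁻¹ := fun c n => rfl
  have hinj : Function.Injective φ := by
    rw [injective_iff_map_eq_one]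
    intro c hc
    by_contra hc1
    have h1 : (c : L) * n₀ * (c : L)⁻¹ = n₀ := by
      have := hφ c ⟨n₀, hn₀⟩
      rw [hc] at this
      exact this.symm
    have h2 : (c : L) * n₀ = n₀ * c := by
      calc (c : L) * n₀ = ((c : L) * n₀ * (c : L)⁻¹) * c := by group
        _ = n₀ * c := by rw [h1]
    exact hn₀1 (fpf N C hC hker c.2 (fun h => hc1 (Subtype.ext h)) hn₀ h2)
  have hcomm : ∀ a b : C, a * b = b * a := by
    intro a b
    apply hinj
    rw [map_mul, map_mul]
    ext1 n
    rw [MulAut.mul_apply, MulAut.mul_apply]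
    obtain ⟨m, hm⟩ := MonoidHom.map_cyclic ((φ a : N ≃* N) : N →* N)
    obtain ⟨m', hm'⟩ := MonoidHom.map_cyclic ((φ b : N ≃* N) : N →* N)
    have ha : ∀ g : N, φ a g = g ^ m := hm
    have hb : ∀ g : N, φ b g = g ^ m' := hm'
    rw [ha, hb, ha, hb, ← zpow_mul, ← zpow_mul, mul_comm]
  have : IsMulCommutative C := ⟨⟨hcomm⟩⟩
  have hnorm : C ≤ Subgroup.normalizer (N : Set L) := by
    rw [Subgroup.normalizer_eq_top]
    exact le_top
  exact Cfsg.Agent.Lib.Helper1_FPF.isCyclic_of_fpf_of_comm C N hNb hnorm hfpf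

end

end Cfsg.Agent.Lib.Helper66_FrobK
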