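import Mathlib
import Cfsg.Prelude.Def_Solvable
import Cfsg.Agent.Lib.Helper66_FrobK

set_option autoImplicit false

/-! S4839 package CONV: a Frobenius kernel which is a `p`-group with `|H| + 1 = |N|` is `O_p(G)`. -/

namespace Cfsg.Agent.Lib.Helper31_S4839_CONV

theorem pcore_of_frob {G : Type*} [Group G] [Finite G] (p : ℕ) [Fact p.Prime]
    (N : Subgroup G) [N.Normal] (hNp : IsPGroup p N)
    (H : Subgroup G) (hH : Cfsg.IsFrobeniusComplement H)
    (hker : Cfsg.frobeniusKernel H = (N : Set G)) (hcard : Nat.card H + 1 = Nat.card N) :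
    N = Cfsg.pCore p G := by
  have hp : p.Prime := Fact.out
  have hmul := Cfsg.Agent.Lib.Helper66_FrobK.card_mul_card N H hH hker
  have hcop := Cfsg.Agent.Lib.Helper66_FrobK.coprime_card N H hH hker
  have hNbot := Cfsg.Agent.Lib.Helper66_FrobK.ne_bot N H hH hker
  -- `p` divides `|N|`
  obtain ⟨a, ha⟩ := IsPGroup.iff_card.mp hNp
  have ha0 : a ≠ 0 := by
    intro h0
    rw [h0, pow_zero] at ha
    exact hNbot (Subgroup.card_eq_one.mp ha)
  have hpN : p ∣ Nat.card N := by
    rw [ha]; exact dvd_pow_self p ha0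
  have hpH : (Nat.card H).Coprime p := by
    have := Nat.Coprime.coprime_dvd_left hpN hcop
    exact this.symm
  apply le_antisymm
  · exact le_sSup ⟨inferInstance, hNp⟩
  · apply sSup_le
    rintro M ⟨hMn, hMp⟩
    have hsup : IsPGroup p (M ⊔ N : Subgroup G) := IsPGroup.to_sup_of_normal_right hMp hNp
    obtain ⟨k, hk⟩ := IsPGroup.iff_card.mp hsup
    have hdvd : Nat.card (M ⊔ N : Subgroup G) ∣ Nat.card G := Subgroup.card_subgroup_dvd_card _
    rw [← hmul] at hdvd
    have hcop2 : (Nat.card (M ⊔ N : Subgroup G)).Coprime (Nat.card H) := by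
      rw [hk]
      exact (Nat.Coprime.pow_right k hpH).symm
    have hdvd2 : Nat.card (M ⊔ N : Subgroup G) ∣ Nat.card N := hcop2.dvd_of_dvd_mul_right hdvd
    have hle : N ≤ M ⊔ N := le_sup_right
    have heq : N = M ⊔ N := by
      apply Subgroup.eq_of_le_of_card_ge hle
      exact Nat.le_of_dvd Nat.card_pos hdvd2
    rw [heq]
    exact le_sup_left

end Cfsg.Agent.Lib.Helper31_S4839_CONV
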