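import Cfsg.Agent.Lib.Helper43_Transvection3

set_option autoImplicit false

/-!
Counting: the action of `GL_n(F)` on pairs (vector, functional), the number of pairs `(b, ψ)` with
`b ≠ 0`, `ψ ≠ 0`, `ψ b = 0`, and an arithmetic identity for `|GL_n(q)|`.
-/

namespace Cfsg.Agent.Lib.Helper43_TransvectionCount

open Module Matrix
open Cfsg.Agent.Lib.Helper43_Transvection

variable {F : Type*} [Field F] {n : ℕ}

/-- pairs (vector, functional) -/
def Pair (n : ℕ) (F : Type*) [Field F] : Type _ := (Fin n → F) × Module.Dual F (Fin n → F)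

/-- the action of `GL_n(F)` on pairs (vector, functional) -/
noncomputable instance pairMulAction (n : ℕ) (F : Type*) [Field F] :
    MulAction (GL (Fin n) F) (Pair n F) where
  smul g y := ((g : Matrix (Fin n) (Fin n) F) *ᵥ y.1,
    y.2 ∘ₗ Matrix.toLin' ((g⁻¹ : GL (Fin n) F) : Matrix (Fin n) (Fin n) F))
  one_smul y := by
    show (((1 : GL (Fin n) F) : Matrix (Fin n) (Fin n) F) *ᵥ y.1,
      y.2 ∘ₗ Matrix.toLin' (((1 : GL (Fin n) F)⁻¹ : GL (Fin n) F) : Matrix (Fin n) (Fin n) F)) = y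
    rw [inv_one, Units.val_one, Matrix.one_mulVec, Matrix.toLin'_one]
    rfl
  mul_smul g h y := by
    show (((g * h : GL (Fin n) F) : Matrix (Fin n) (Fin n) F) *ᵥ y.1,
      y.2 ∘ₗ Matrix.toLin' (((g * h)⁻¹ : GL (Fin n) F) : Matrix (Fin n) (Fin n) F)) =
      ((g : Matrix (Fin n) (Fin n) F) *ᵥ ((h : Matrix (Fin n) (Fin n) F) *ᵥ y.1),
      (y.2 ∘ₗ Matrix.toLin' ((h⁻¹ : GL (Fin n) F) : Matrix (Fin n) (Fin n) F)) ∘ₗ
        Matrix.toLin' ((g⁻¹ : GL (Fin n) F) : Matrix (Fin n) (Fin n) F))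
    rw [_root_.mul_inv_rev, Units.val_mul, Units.val_mul, Matrix.toLin'_mul, Matrix.mulVec_mulVec,
      LinearMap.comp_assoc]

theorem pair_smul_def (g : GL (Fin n) F) (y : Pair n F) :
    g • y = (((g : Matrix (Fin n) (Fin n) F) *ᵥ y.1,
      y.2 ∘ₗ Matrix.toLin' ((g⁻¹ : GL (Fin n) F) : Matrix (Fin n) (Fin n) F)) : Pair n F) := rfl

theorem inv_mulVec_mulVec (g : GL (Fin n) F) (x : Fin n → F) :
    ((g⁻¹ : GL (Fin n) F) : Matrix (Fin n) (Fin n) F) *ᵥ ((g : Matrix (Fin n) (Fin n) F) *ᵥ x) = x := by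
  rw [Matrix.mulVec_mulVec, ← Units.val_mul, inv_mul_cancel, Units.val_one, Matrix.one_mulVec]

theorem mulVec_inv_mulVec (g : GL (Fin n) F) (x : Fin n → F) :
    (g : Matrix (Fin n) (Fin n) F) *ᵥ (((g⁻¹ : GL (Fin n) F) : Matrix (Fin n) (Fin n) F) *ᵥ x) = x := by
  rw [Matrix.mulVec_mulVec, ← Units.val_mul, mul_inv_cancel, Units.val_one, Matrix.one_mulVec]

/-- turn a linear automorphism of `F^n` into an element of `GL_n(F)` -/
theorem exists_GL_of_equiv (e : (Fin n → F) ≃ₗ[F] (Fin n → F)) :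
    ∃ g : GL (Fin n) F, (∀ x, (g : Matrix (Fin n) (Fin n) F) *ᵥ x = e x) ∧
      ∀ x, ((g⁻¹ : GL (Fin n) F) : Matrix (Fin n) (Fin n) F) *ᵥ x = e.symm x := by
  have hdet : (LinearMap.toMatrix' (e : (Fin n → F) →ₗ[F] (Fin n → F))).det ≠ 0 := by
    rw [LinearMap.det_toMatrix']
    exact (LinearEquiv.isUnit_det' e).ne_zero
  let g : GL (Fin n) F := Matrix.GeneralLinearGroup.mkOfDetNeZero _ hdet
  have hg : ∀ x, (g : Matrix (Fin n) (Fin n) F) *ᵥ x = e x := by
    intro x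
    show LinearMap.toMatrix' (e : (Fin n → F) →ₗ[F] (Fin n → F)) *ᵥ x = e x
    rw [← Matrix.toLin'_apply, Matrix.toLin'_toMatrix']
    rfl
  refine ⟨g, hg, ?_⟩
  intro x
  have h1 := inv_mulVec_mulVec g (e.symm x)
  rw [hg, LinearEquiv.apply_symm_apply] at h1
  exact h1

/-- constructor for pairs -/
def Pair.mk (a : Fin n → F) (φ : Module.Dual F (Fin n → F)) : Pair n F := (a, φ)

theorem pair_smul_mk (g : GL (Fin n) F) (a : Fin n → F) (φ : Module.Dual F (Fin n → F)) :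
    g • Pair.mk a φ = Pair.mk ((g : Matrix (Fin n) (Fin n) F) *ᵥ a)
      (φ ∘ₗ Matrix.toLin' ((g⁻¹ : GL (Fin n) F) : Matrix (Fin n) (Fin n) F)) := rfl

theorem pair_mk_inj {a b : Fin n → F} {φ ψ : Module.Dual F (Fin n → F)}
    (h : Pair.mk a φ = Pair.mk b ψ) : a = b ∧ φ = ψ := Prod.mk.inj h

/-- the set of pairs forming one orbit -/
def pairSet (n : ℕ) (F : Type*) [Field F] : Set (Pair n F) :=
  {y | y.1 ≠ 0 ∧ y.2 ≠ 0 ∧ y.2 y.1 = 0}

theorem mem_pairSet_mk {a : Fin n → F} {φ : Module.Dual F (Fin n → F)} :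
    Pair.mk a φ ∈ pairSet n F ↔ a ≠ 0 ∧ φ ≠ 0 ∧ φ a = 0 := Iff.rfl

theorem orbit_eq_pairSet (a : Fin n → F) (φ : Module.Dual F (Fin n → F)) (ha : a ≠ 0) (hφ : φ ≠ 0)
    (hφa : φ a = 0) :
    MulAction.orbit (GL (Fin n) F) (Pair.mk a φ) = pairSet n F := by
  ext y
  obtain ⟨b, ψ, rfl⟩ : ∃ b ψ, y = Pair.mk b ψ := ⟨y.1, y.2, rfl⟩
  rw [mem_pairSet_mk]
  constructor
  · rintro ⟨g, hg⟩
    have hg' : g • Pair.mk a φ = Pair.mk b ψ := hg
    rw [pair_smul_mk] at hg'
    obtain ⟨h1, h2⟩ := pair_mk_inj hg'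
    refine ⟨?_, ?_, ?_⟩
    · intro hb
      rw [hb] at h1
      apply ha
      have := inv_mulVec_mulVec g a
      rw [h1, Matrix.mulVec_zero] at this
      exact this.symm
    · intro hψ
      rw [hψ] at h2
      apply hφ
      ext x
      have := congrArg (fun f : Module.Dual F (Fin n → F) => f ((g : Matrix (Fin n) (Fin n) F) *ᵥ (Pi.single x 1))) h2
      simp only [LinearMap.comp_apply, Matrix.toLin'_apply, inv_mulVec_mulVec, LinearMap.zero_apply] at this
      simpa using this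
    · rw [← h1, ← h2, LinearMap.comp_apply, Matrix.toLin'_apply, inv_mulVec_mulVec, hφa]
  · rintro ⟨hb, hψ, hψb⟩
    obtain ⟨e, hea, heφ⟩ := exists_equiv_pair (F := F) a b φ ψ ha hb hφ hψ hφa hψb
    obtain ⟨g, hg, hginv⟩ := exists_GL_of_equiv e
    refine ⟨g, ?_⟩
    show g • Pair.mk a φ = Pair.mk b ψ
    rw [pair_smul_mk, hg, hea]
    congr 1
    refine LinearMap.ext fun x => ?_
    rw [LinearMap.comp_apply, Matrix.toLin'_apply, hginv, ← heφ, LinearEquiv.apply_symm_apply]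

theorem card_ne {α : Type*} [Finite α] (a : α) : Nat.card {x : α // x ≠ a} = Nat.card α - 1 := by
  classical
  have := Fintype.ofFinite α
  rw [Nat.card_eq_fintype_card, Nat.card_eq_fintype_card]
  have := Fintype.card_subtype_compl (fun x : α => x = a)
  rw [Fintype.card_subtype_eq] at this
  exact this

theorem card_dual (F : Type*) [Field F] [Finite F] (n : ℕ) :
    Nat.card (Module.Dual F (Fin n → F)) = Nat.card F ^ n := by
  rw [Module.natCard_eq_pow_finrank (K := F), Subspace.dual_finrank_eq, Module.finrank_fin_fun]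

theorem card_ker (F : Type*) [Field F] [Finite F] (n : ℕ) (ψ : Module.Dual F (Fin n → F))
    (hψ : ψ ≠ 0) : Nat.card (LinearMap.ker ψ) = Nat.card F ^ (n - 1) := by
  have h := Module.Dual.finrank_ker_add_one_of_ne_zero hψ
  rw [Module.finrank_fin_fun] at h
  rw [Module.natCard_eq_pow_finrank (K := F)]
  congr 1
  omega

/-- equivalence of `pairSet` with a sigma type -/
noncomputable def pairSetEquiv (n : ℕ) (F : Type*) [Field F] :
    pairSet n F ≃ Σ ψ : {ψ : Module.Dual F (Fin n → F) // ψ ≠ 0},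
      {b : LinearMap.ker ψ.1 // b ≠ 0} where
  toFun y := ⟨⟨y.1.2, y.2.2.1⟩, ⟨⟨y.1.1, y.2.2.2⟩, fun h => y.2.1 (congrArg Subtype.val h)⟩⟩
  invFun z := ⟨Pair.mk z.2.1.1 z.1.1, ⟨fun h => z.2.2 (Subtype.ext h), z.1.2, z.2.1.2⟩⟩
  left_inv y := rfl
  right_inv z := rfl

theorem card_pairSet (n : ℕ) (F : Type*) [Field F] [Finite F] :
    Nat.card (pairSet n F) = (Nat.card F ^ n - 1) * (Nat.card F ^ (n - 1) - 1) := by
  classical
  have : Finite (Module.Dual F (Fin n → F)) := Module.finite_of_finite F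
  have := Fintype.ofFinite {ψ : Module.Dual F (Fin n → F) // ψ ≠ 0}
  rw [Nat.card_congr (pairSetEquiv n F), Nat.card_sigma]
  have h : ∀ ψ : {ψ : Module.Dual F (Fin n → F) // ψ ≠ 0},
      Nat.card {b : LinearMap.ker ψ.1 // b ≠ 0} = Nat.card F ^ (n - 1) - 1 := fun ψ => by
    rw [card_ne, card_ker F n ψ.1 ψ.2]
  simp only [h, Finset.sum_const, Finset.card_univ, smul_eq_mul]
  rw [← Nat.card_eq_fintype_card, card_ne, card_dual]

theorem scalar_mulVec (c : Fˣ) (x : Fin n → F) :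
    ((Matrix.GeneralLinearGroup.scalar (Fin n) c : GL (Fin n) F) : Matrix (Fin n) (Fin n) F) *ᵥ x =
      (c : F) • x := by
  ext i
  rw [Matrix.GeneralLinearGroup.coe_scalar, Matrix.scalar_apply, Matrix.mulVec_diagonal]
  rfl

theorem mem_centralizer_iff (t : GL (Fin n) F) (a : Fin n → F) (φ : Module.Dual F (Fin n → F))
    (ha : a ≠ 0) (hφ : φ ≠ 0)
    (ht : ∀ x, (t : Matrix (Fin n) (Fin n) F) *ᵥ x = x + φ x • a) (g : GL (Fin n) F) :
    g ∈ Subgroup.centralizer ({t} : Set (GL (Fin n) F)) ↔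
      ∃ c : F, c ≠ 0 ∧ (g : Matrix (Fin n) (Fin n) F) *ᵥ a = c • a ∧
        ∀ x, φ ((g : Matrix (Fin n) (Fin n) F) *ᵥ x) = c * φ x := by
  rw [Subgroup.mem_centralizer_singleton_iff]
  have hinj : Function.Injective (Matrix.toLin' (g : Matrix (Fin n) (Fin n) F)) := by
    intro x y hxy
    have := congrArg (fun z => ((g⁻¹ : GL (Fin n) F) : Matrix (Fin n) (Fin n) F) *ᵥ z) hxy
    simpa only [Matrix.toLin'_apply, inv_mulVec_mulVec] using this
  have key := commute_transvection_iff a φ ha hφ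
    (Matrix.toLin' (g : Matrix (Fin n) (Fin n) F)) hinj
  simp only [Matrix.toLin'_apply] at key
  rw [← key]
  constructor
  · intro h x
    have := congrArg (fun M : GL (Fin n) F => (M : Matrix (Fin n) (Fin n) F) *ᵥ x) h
    simp only [Units.val_mul, ← Matrix.mulVec_mulVec, ht] at this
    exact this
  · intro h
    apply Units.ext
    apply Matrix.mulVec_injective
    funext x
    rw [Units.val_mul, Units.val_mul, ← Matrix.mulVec_mulVec, ← Matrix.mulVec_mulVec, ht, ht, h]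

theorem mem_stabilizer_iff' (a : Fin n → F) (φ : Module.Dual F (Fin n → F)) (g : GL (Fin n) F) :
    g ∈ MulAction.stabilizer (GL (Fin n) F) (Pair.mk a φ) ↔
      (g : Matrix (Fin n) (Fin n) F) *ᵥ a = a ∧
        ∀ x, φ ((g : Matrix (Fin n) (Fin n) F) *ᵥ x) = φ x := by
  rw [MulAction.mem_stabilizer_iff, pair_smul_mk]
  constructor
  · intro h
    obtain ⟨h1, h2⟩ := pair_mk_inj h
    refine ⟨h1, fun x => ?_⟩
    have := congrArg (fun f : Module.Dual F (Fin n → F) =>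
      f ((g : Matrix (Fin n) (Fin n) F) *ᵥ x)) h2
    simp only [LinearMap.comp_apply, Matrix.toLin'_apply, inv_mulVec_mulVec] at this
    exact this.symm
  · rintro ⟨h1, h2⟩
    rw [h1]
    congr 1
    refine LinearMap.ext fun x => ?_
    rw [LinearMap.comp_apply, Matrix.toLin'_apply, ← h2, mulVec_inv_mulVec]

/-- the centralizer of a transvection is (as a set) the product of the scalars and the stabilizer
of the pair -/
theorem card_centralizer [Finite F] (t : GL (Fin n) F) (a : Fin n → F)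
    (φ : Module.Dual F (Fin n → F)) (ha : a ≠ 0) (hφ : φ ≠ 0)
    (ht : ∀ x, (t : Matrix (Fin n) (Fin n) F) *ᵥ x = x + φ x • a) :
    Nat.card (Subgroup.centralizer ({t} : Set (GL (Fin n) F))) =
      (Nat.card F - 1) * Nat.card (MulAction.stabilizer (GL (Fin n) F) (Pair.mk a φ)) := by
  rw [← Nat.card_units, ← Nat.card_prod]
  symm
  have hmem : ∀ z : Fˣ × MulAction.stabilizer (GL (Fin n) F) (Pair.mk a φ),
      Matrix.GeneralLinearGroup.scalar (Fin n) z.1 * z.2.1 ∈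
        Subgroup.centralizer ({t} : Set (GL (Fin n) F)) := by
    intro z
    rw [mem_centralizer_iff t a φ ha hφ ht]
    obtain ⟨h1, h2⟩ := (mem_stabilizer_iff' a φ z.2.1).1 z.2.2
    refine ⟨z.1, z.1.ne_zero, ?_, fun x => ?_⟩
    · rw [Units.val_mul, ← Matrix.mulVec_mulVec, h1, scalar_mulVec]
    · rw [Units.val_mul, ← Matrix.mulVec_mulVec, scalar_mulVec, map_smul, h2, smul_eq_mul]
  refine Nat.card_eq_of_bijective (fun z => ⟨_, hmem z⟩) ⟨?_, ?_⟩
  · intro z w hzw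
    have h := congrArg Subtype.val hzw
    change Matrix.GeneralLinearGroup.scalar (Fin n) z.1 * z.2.1 =
      Matrix.GeneralLinearGroup.scalar (Fin n) w.1 * w.2.1 at h
    obtain ⟨hz1, -⟩ := (mem_stabilizer_iff' a φ z.2.1).1 z.2.2
    obtain ⟨hw1, -⟩ := (mem_stabilizer_iff' a φ w.2.1).1 w.2.2
    have h1 := congrArg (fun M : GL (Fin n) F => (M : Matrix (Fin n) (Fin n) F) *ᵥ a) h
    simp only [Units.val_mul, ← Matrix.mulVec_mulVec, hz1, hw1, scalar_mulVec] at h1
    have h2 : ((z.1 : F) - (w.1 : F)) • a = 0 := by rw [sub_smul, h1, sub_self]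
    have h3 : z.1 = w.1 := by
      rcases smul_eq_zero.mp h2 with h3 | h3
      · exact Units.ext (sub_eq_zero.mp h3)
      · exact absurd h3 ha
    rw [h3] at h
    have h4 : z.2 = w.2 := Subtype.ext (mul_left_cancel h)
    exact Prod.ext h3 h4
  · rintro ⟨g, hg⟩
    obtain ⟨c, hc, h1, h2⟩ := (mem_centralizer_iff t a φ ha hφ ht g).1 hg
    have hs : Matrix.GeneralLinearGroup.scalar (Fin n) (Units.mk0 c hc)⁻¹ * g ∈
        MulAction.stabilizer (GL (Fin n) F) (Pair.mk a φ) := by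
      rw [mem_stabilizer_iff']
      refine ⟨?_, fun x => ?_⟩
      · rw [Units.val_mul, ← Matrix.mulVec_mulVec, h1, scalar_mulVec, smul_smul]
        simp [hc]
      · rw [Units.val_mul, ← Matrix.mulVec_mulVec, scalar_mulVec, map_smul, h2, smul_eq_mul,
          ← mul_assoc]
        simp [hc]
    refine ⟨(Units.mk0 c hc, ⟨_, hs⟩), ?_⟩
    apply Subtype.ext
    show Matrix.GeneralLinearGroup.scalar (Fin n) (Units.mk0 c hc) *
      (Matrix.GeneralLinearGroup.scalar (Fin n) (Units.mk0 c hc)⁻¹ * g) = g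
    rw [← mul_assoc, ← map_mul, mul_inv_cancel, map_one, one_mul]

theorem prod_succ_eq (q k : ℕ) :
    ∏ i : Fin (k + 1), (q ^ (k + 1) - q ^ (i : ℕ)) =
      (q ^ (k + 1) - 1) * (q ^ k * ∏ i : Fin k, (q ^ k - q ^ (i : ℕ))) := by
  rw [Fin.prod_univ_succ]
  congr 1
  have : ∀ i : Fin k, q ^ (k + 1) - q ^ ((i.succ : Fin (k + 1)) : ℕ) =
      q * (q ^ k - q ^ (i : ℕ)) := by
    intro i
    rw [Fin.val_succ, Nat.mul_sub, pow_succ', pow_succ']
  simp only [this]
  rw [Finset.prod_mul_distrib, Finset.prod_const, Finset.card_univ, Fintype.card_fin]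

theorem card_stabilizer [Fintype F] (m : ℕ) (a : Fin (m + 2) → F)
    (φ : Module.Dual F (Fin (m + 2) → F)) (ha : a ≠ 0) (hφ : φ ≠ 0) (hφa : φ a = 0) :
    Nat.card (MulAction.stabilizer (GL (Fin (m + 2)) F) (Pair.mk a φ)) =
      Fintype.card F ^ (2 * m + 1) *
        ∏ i : Fin m, (Fintype.card F ^ m - Fintype.card F ^ (i : ℕ)) := by
  classical
  have hGL := Matrix.card_GL_field (𝔽 := F) (m + 2)
  have : Finite (Pair (m + 2) F) := by
    have : Finite (Module.Dual F (Fin (m + 2) → F)) := Module.finite_of_finite F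
    exact Finite.of_equiv ((Fin (m + 2) → F) × Module.Dual F (Fin (m + 2) → F)) (Equiv.refl _)
  have := Fintype.ofFinite (MulAction.orbit (GL (Fin (m + 2)) F) (Pair.mk a φ))
  have h1 := MulAction.card_orbit_mul_card_stabilizer_eq_card_group (GL (Fin (m + 2)) F)
    (Pair.mk a φ)
  rw [← Nat.card_eq_fintype_card, ← Nat.card_eq_fintype_card, ← Nat.card_eq_fintype_card, hGL,
    orbit_eq_pairSet a φ ha hφ hφa, card_pairSet, Nat.card_eq_fintype_card (α := F),
    prod_succ_eq, prod_succ_eq, show m + 2 - 1 = m + 1 from rfl] at h1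
  have hq : 1 < Fintype.card F := Fintype.one_lt_card
  have hpos1 : 0 < Fintype.card F ^ (m + 1 + 1) - 1 :=
    Nat.sub_pos_of_lt (Nat.one_lt_pow (by omega) hq)
  have hpos2 : 0 < Fintype.card F ^ (m + 1) - 1 :=
    Nat.sub_pos_of_lt (Nat.one_lt_pow (by omega) hq)
  apply Nat.eq_of_mul_eq_mul_left (Nat.mul_pos hpos1 hpos2)
  rw [h1]
  have : 2 * m + 1 = (m + 1) + m := by ring
  rw [this, pow_add]
  ring

theorem card_centralizer_transvection [Fintype F] (hn : 2 ≤ n) (t : GL (Fin n) F)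
    (a : Fin n → F) (φ : Module.Dual F (Fin n → F)) (ha : a ≠ 0) (hφ : φ ≠ 0) (hφa : φ a = 0)
    (ht : ∀ x, (t : Matrix (Fin n) (Fin n) F) *ᵥ x = x + φ x • a) :
    Nat.card (Subgroup.centralizer ({t} : Set (GL (Fin n) F))) =
      Fintype.card F ^ (2 * n - 3) * (Fintype.card F - 1) *
        ∏ i : Fin (n - 2), (Fintype.card F ^ (n - 2) - Fintype.card F ^ (i : ℕ)) := by
  obtain ⟨m, rfl⟩ : ∃ m, n = m + 2 := ⟨n - 2, by omega⟩
  rw [card_centralizer t a φ ha hφ ht, card_stabilizer m a φ ha hφ hφa,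
    Nat.card_eq_fintype_card]
  have h1 : 2 * (m + 2) - 3 = 2 * m + 1 := by omega
  rw [h1]
  show _ = Fintype.card F ^ (2 * m + 1) * (Fintype.card F - 1) *
    ∏ i : Fin m, (Fintype.card F ^ m - Fintype.card F ^ (i : ℕ))
  ring

end Cfsg.Agent.Lib.Helper43_TransvectionCount
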