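import Cfsg.Agent.Lib.Helper43_Jordan3
import Cfsg.Agent.Lib.Helper43_TransvectionCount

set_option autoImplicit false

/-!
Unipotent conjugacy classes of `GL_n(F)` and partitions of `n`.
-/

namespace Cfsg.Agent.Lib.Helper43_Jordan

open Module Matrix

universe u

variable {F : Type u} [Field F] {n : ℕ}

/-- the endomorphism `g - 1` of `F^n` -/
noncomputable def Nof (g : GL (Fin n) F) : End F (Fin n → F) :=
  Matrix.toLinAlgEquiv' ((g : Matrix (Fin n) (Fin n) F) - 1)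

theorem Nof_apply (g : GL (Fin n) F) (x : Fin n → F) :
    Nof g x = ((g : Matrix (Fin n) (Fin n) F) - 1) *ᵥ x := rfl

theorem Nof_pow (g : GL (Fin n) F) (k : ℕ) :
    Nof g ^ k = Matrix.toLinAlgEquiv' (((g : Matrix (Fin n) (Fin n) F) - 1) ^ k) := by
  unfold Nof
  rw [map_pow]

theorem Nof_pow_eq_zero_iff (g : GL (Fin n) F) (k : ℕ) :
    Nof g ^ k = 0 ↔ ((g : Matrix (Fin n) (Fin n) F) - 1) ^ k = 0 := by
  rw [Nof_pow, map_eq_zero_iff _ (Matrix.toLinAlgEquiv' (R := F) (n := Fin n)).injective]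

theorem isConj_iff_Nof (g g' : GL (Fin n) F) :
    IsConj g g' ↔ ∃ e : (Fin n → F) ≃ₗ[F] (Fin n → F), ∀ x, e (Nof g x) = Nof g' (e x) := by
  rw [isConj_iff]
  constructor
  · rintro ⟨c, rfl⟩
    obtain ⟨e, he⟩ : ∃ e : (Fin n → F) ≃ₗ[F] (Fin n → F),
        ∀ x, e x = (c : Matrix (Fin n) (Fin n) F) *ᵥ x := by
      refine ⟨LinearEquiv.ofLinearMap (Matrix.toLin' (c : Matrix (Fin n) (Fin n) F))
        (Matrix.toLin' ((c⁻¹ : GL (Fin n) F) : Matrix (Fin n) (Fin n) F)) ?_ ?_, fun x => rfl⟩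
      · rw [← Matrix.toLin'_mul, ← Units.val_mul, mul_inv_cancel, Units.val_one,
          Matrix.toLin'_one]
      · rw [← Matrix.toLin'_mul, ← Units.val_mul, inv_mul_cancel, Units.val_one,
          Matrix.toLin'_one]
    refine ⟨e, fun x => ?_⟩
    rw [he, he, Nof_apply, Nof_apply, Matrix.mulVec_mulVec, Matrix.mulVec_mulVec]
    congr 1
    have h : ((c * g * c⁻¹ : GL (Fin n) F) : Matrix (Fin n) (Fin n) F) *
        (c : Matrix (Fin n) (Fin n) F) =
        (c : Matrix (Fin n) (Fin n) F) * (g : Matrix (Fin n) (Fin n) F) := by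
      rw [← Units.val_mul, ← Units.val_mul, inv_mul_cancel_right]
    rw [mul_sub, sub_mul, mul_one, one_mul, h]
  · rintro ⟨e, he⟩
    obtain ⟨c, hc, -⟩ := Cfsg.Agent.Lib.Helper43_TransvectionCount.exists_GL_of_equiv e
    refine ⟨c, ?_⟩
    have h1 : (c : Matrix (Fin n) (Fin n) F) * ((g : Matrix (Fin n) (Fin n) F) - 1) =
        ((g' : Matrix (Fin n) (Fin n) F) - 1) * (c : Matrix (Fin n) (Fin n) F) := by
      apply Matrix.toLin'.injective
      refine LinearMap.ext fun x => ?_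
      rw [Matrix.toLin'_apply, Matrix.toLin'_apply, ← Matrix.mulVec_mulVec,
        ← Matrix.mulVec_mulVec, hc, hc]
      exact he x
    have h2 : (c : Matrix (Fin n) (Fin n) F) * (g : Matrix (Fin n) (Fin n) F) =
        (g' : Matrix (Fin n) (Fin n) F) * (c : Matrix (Fin n) (Fin n) F) := by
      rw [mul_sub, sub_mul, mul_one, one_mul] at h1
      exact sub_left_injective h1
    have h3 : c * g = g' * c := Units.ext (by rw [Units.val_mul, Units.val_mul, h2])
    rw [h3, mul_assoc, mul_inv_cancel, mul_one]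

theorem exists_Nof_eq (N : End F (Fin n → F)) (hN : IsNilpotent N) :
    ∃ g : GL (Fin n) F, Nof g = N := by
  have hM : IsNilpotent (Matrix.toLinAlgEquiv'.symm N : Matrix (Fin n) (Fin n) F) :=
    hN.map (Matrix.toLinAlgEquiv' (R := F) (n := Fin n)).symm
  refine ⟨hM.isUnit_one_add.unit, ?_⟩
  unfold Nof
  rw [IsUnit.unit_spec, add_sub_cancel_left, AlgEquiv.apply_symm_apply]

theorem sub_one_pow_char_pow (p : ℕ) [Fact p.Prime] [CharP F p]
    (g : Matrix (Fin n) (Fin n) F) (k : ℕ) : (g - 1) ^ (p ^ k) = g ^ (p ^ k) - 1 := by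
  cases n with
  | zero => exact Subsingleton.elim _ _
  | succ n =>
    have := Matrix.charP (n := Fin (n + 1)) (R := F) p
    rw [sub_pow_char_pow_of_commute p k (Commute.one_right g), one_pow]

theorem pow_eq_one_iff_Nof (p : ℕ) [Fact p.Prime] [CharP F p] (g : GL (Fin n) F) (k : ℕ) :
    g ^ (p ^ k) = 1 ↔ Nof g ^ (p ^ k) = 0 := by
  rw [Nof_pow_eq_zero_iff, sub_one_pow_char_pow p, sub_eq_zero, ← Units.val_pow_eq_pow_val,
    Units.val_eq_one]

theorem isNilpotent_Nof_iff (p : ℕ) [Fact p.Prime] [CharP F p] (g : GL (Fin n) F) :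
    IsNilpotent (Nof g) ↔ ∃ k : ℕ, orderOf g = p ^ k := by
  have hp : p.Prime := Fact.out
  constructor
  · rintro ⟨m, hm⟩
    have hle : m ≤ p ^ m := (Nat.lt_pow_self hp.one_lt).le
    have h0 : Nof g ^ (p ^ m) = 0 := pow_eq_zero_of_le hle hm
    rw [← pow_eq_one_iff_Nof] at h0
    have hdvd := orderOf_dvd_of_pow_eq_one h0
    obtain ⟨j, -, hj⟩ := (Nat.dvd_prime_pow hp).1 hdvd
    exact ⟨j, hj⟩
  · rintro ⟨k, hk⟩
    refine ⟨p ^ k, ?_⟩
    rw [← pow_eq_one_iff_Nof, ← hk]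
    exact pow_orderOf_eq_one g

theorem orderOf_eq_prime_iff_Nof (p : ℕ) [Fact p.Prime] [CharP F p] (g : GL (Fin n) F) :
    orderOf g = p ↔ Nof g ^ p = 0 ∧ ¬ Nof g ^ 1 = 0 := by
  have h1 := pow_eq_one_iff_Nof p g 1
  rw [pow_one] at h1
  rw [orderOf_eq_prime_iff, h1, Nof_pow_eq_zero_iff g 1, pow_one, sub_eq_zero,
    Units.val_eq_one]

/-- the generic counting statement: classes of unipotent elements whose Jordan type satisfies `Q`
correspond to the partitions satisfying `Q` -/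
theorem card_classes (P : GL (Fin n) F → Prop) (Q : Multiset ℕ → Prop)
    (hPQ : ∀ g, P g ↔ IsNilpotent (Nof g) ∧ Q (jtype (Nof g))) :
    Nat.card {C : ConjClasses (GL (Fin n) F) // ∃ g, P g ∧ ConjClasses.mk g = C} =
      Nat.card {μ : Nat.Partition n // Q μ.parts} := by
  classical
  have hfr : finrank F (Fin n → F) = n := Module.finrank_fin_fun F
  let Φ : {C : ConjClasses (GL (Fin n) F) // ∃ g, P g ∧ ConjClasses.mk g = C} →
      {μ : Nat.Partition n // Q μ.parts} := fun C =>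
    ⟨⟨jtype (Nof C.2.choose), fun {a} ha => jtype_pos _ ha, by
      rw [jtype_sum _ ((hPQ _).1 C.2.choose_spec.1).1, hfr]⟩,
      ((hPQ _).1 C.2.choose_spec.1).2⟩
  have hΦ : ∀ C, (Φ C).1.parts = jtype (Nof C.2.choose) := fun C => rfl
  apply Nat.card_eq_of_bijective Φ
  constructor
  · intro C C' h
    have h1 : jtype (Nof C.2.choose) = jtype (Nof C'.2.choose) := by
      rw [← hΦ, ← hΦ, h]
    have hN := ((hPQ _).1 C.2.choose_spec.1).1
    have hN' := ((hPQ _).1 C'.2.choose_spec.1).1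
    rw [jtype_eq_iff _ hN _ hN', ← isConj_iff_Nof, ← ConjClasses.mk_eq_mk_iff_isConj,
      C.2.choose_spec.2, C'.2.choose_spec.2] at h1
    exact Subtype.ext h1
  · rintro ⟨μ, hμ⟩
    obtain ⟨N, hN, hNμ⟩ := exists_jtype_eq (F := F) (V := Fin n → F) μ.parts
      (fun a ha => μ.parts_pos ha) (by rw [μ.parts_sum, hfr])
    obtain ⟨g₀, rfl⟩ := exists_Nof_eq N hN
    have hP : P g₀ := (hPQ g₀).2 ⟨hN, by rw [hNμ]; exact hμ⟩
    refine ⟨⟨ConjClasses.mk g₀, g₀, hP, rfl⟩, ?_⟩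
    apply Subtype.ext
    apply Nat.Partition.ext
    rw [hΦ, ← hNμ]
    set C : {C : ConjClasses (GL (Fin n) F) // ∃ g, P g ∧ ConjClasses.mk g = C} :=
      ⟨ConjClasses.mk g₀, g₀, hP, rfl⟩ with hC
    have h2 : ConjClasses.mk C.2.choose = ConjClasses.mk g₀ := C.2.choose_spec.2
    rw [ConjClasses.mk_eq_mk_iff_isConj, isConj_iff_Nof] at h2
    exact (jtype_eq_iff _ ((hPQ _).1 C.2.choose_spec.1).1 _ hN).2 h2

end Cfsg.Agent.Lib.Helper43_Jordan
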