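import Cfsg.Agent.Lib.Helper43_GUSimilar
import Cfsg.Agent.Lib.Helper43_Jordan4

set_option autoImplicit false

/-!
Every unipotent element of `GL_n(q²)` is conjugate to an element of `GU_n(q)`.
-/

namespace Cfsg.Agent.Lib.Helper43_GUUnip

open Matrix Module
open Cfsg.Agent.Lib.Helper43_HermRoot Cfsg.Agent.Lib.Helper43_Jordan

section rank

variable {K : Type*} [Field K] {m : Type*} [Fintype m] [DecidableEq m]

/-- applying a field endomorphism entrywise does not change the rank of a square matrix -/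
theorem rank_map_ringHom (σ : K →+* K) (M : Matrix m m K) : (M.map σ).rank = M.rank := by
  obtain ⟨V, U, e, hV, hU, h⟩ := Matrix.exists_rank_normal_form M
  have hVdet : IsUnit (V.map σ).det := by
    have h1 : (V.map σ).det = σ V.det := (RingHom.map_det σ V).symm
    rw [h1]
    exact ((Matrix.isUnit_iff_isUnit_det _).1 hV).map σ
  have hUdet : IsUnit (U.map σ).det := by
    have h1 : (U.map σ).det = σ U.det := (RingHom.map_det σ U).symm
    rw [h1]
    exact ((Matrix.isUnit_iff_isUnit_det _).1 hU).map σ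
  have h2 : V.map σ * M.map σ * U.map σ = (V * M * U).map σ := by
    rw [Matrix.map_mul, Matrix.map_mul]
  have h3 : ((fromBlocks (1 : Matrix (Fin M.rank) (Fin M.rank) K) 0 0
      (0 : Matrix (Fin (Fintype.card m - M.rank)) (Fin (Fintype.card m - M.rank)) K)).submatrix
        e e).map σ =
      (fromBlocks (1 : Matrix (Fin M.rank) (Fin M.rank) K) 0 0
      (0 : Matrix (Fin (Fintype.card m - M.rank)) (Fin (Fintype.card m - M.rank)) K)).submatrix
        e e := by
    ext i j
    rw [Matrix.map_apply, Matrix.submatrix_apply]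
    rcases e i with a | a <;> rcases e j with b | b
    · simp only [Matrix.fromBlocks_apply₁₁, Matrix.one_apply]
      split_ifs <;> simp
    · simp
    · simp
    · simp
  calc (M.map σ).rank = (V.map σ * M.map σ * U.map σ).rank := by
        rw [Matrix.rank_mul_eq_left_of_isUnit_det _ _ hUdet,
          Matrix.rank_mul_eq_right_of_isUnit_det _ _ hVdet]
    _ = (V * M * U).rank := by rw [h2, h, h3]
    _ = M.rank := by
        rw [Matrix.rank_mul_eq_left_of_isUnit_det _ _ ((Matrix.isUnit_iff_isUnit_det _).1 hU),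
          Matrix.rank_mul_eq_right_of_isUnit_det _ _ ((Matrix.isUnit_iff_isUnit_det _).1 hV)]

theorem rank_starM (σ : K →+* K) (M : Matrix m m K) : (starM σ M).rank = M.rank := by
  unfold starM
  rw [Matrix.rank_transpose, rank_map_ringHom]

end rank

section jordan

universe u

variable {F V V' : Type u} [Field F] [AddCommGroup V] [Module F V] [FiniteDimensional F V]
  [AddCommGroup V'] [Module F V'] [FiniteDimensional F V']

/-- the Jordan type of a nilpotent endomorphism is determined by the ranks of its powers -/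
theorem jtype_eq_of_finrank_eq (N : End F V) (hN : IsNilpotent N) (N' : End F V')
    (hN' : IsNilpotent N')
    (h : ∀ k, finrank F (LinearMap.range (N ^ k)) = finrank F (LinearMap.range (N' ^ k))) :
    jtype N = jtype N' := by
  classical
  obtain ⟨ι, hι, d, b, hd, hb, hj⟩ := jtype_spec N hN
  obtain ⟨ι', hι', d', b', hd', hb', hj'⟩ := jtype_spec N' hN'
  rw [hj, hj']
  apply Multiset.ext.2
  intro k
  rw [count_map_eq_blockCount, count_map_eq_blockCount]
  cases k with
  | zero => rw [blockCount_zero d hd, blockCount_zero d' hd']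
  | succ k =>
    apply blockCount_eq_of_sum_eq
    intro j
    rw [← hb.finrank_range_pow, ← hb'.finrank_range_pow, h j]

end jordan

section genlin

variable {F : Type*} [Field F] {n : ℕ}

theorem finrank_range_Nof_pow (g : GL (Fin n) F) (k : ℕ) :
    finrank F (LinearMap.range (Nof g ^ k)) =
      (((g : Matrix (Fin n) (Fin n) F) - 1) ^ k).rank := by
  rw [Nof_pow]
  rfl

/-- unipotent elements of `GL_n` with equal ranks of all powers of `g - 1` are conjugate -/
theorem isConj_of_rank_eq (g h : GL (Fin n) F) (hg : IsNilpotent (Nof g))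
    (hh : IsNilpotent (Nof h))
    (hr : ∀ k, (((g : Matrix (Fin n) (Fin n) F) - 1) ^ k).rank =
      (((h : Matrix (Fin n) (Fin n) F) - 1) ^ k).rank) : IsConj g h := by
  rw [isConj_iff_Nof, ← jtype_eq_iff _ hg _ hh]
  apply jtype_eq_of_finrank_eq _ hg _ hh
  intro k
  rw [finrank_range_Nof_pow, finrank_range_Nof_pow, hr k]

theorem inv_sub_one_pow (g : GL (Fin n) F) (k : ℕ) :
    (((g⁻¹ : GL (Fin n) F) : Matrix (Fin n) (Fin n) F) - 1) ^ k =
      (-((g⁻¹ : GL (Fin n) F) : Matrix (Fin n) (Fin n) F)) ^ k *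
        ((g : Matrix (Fin n) (Fin n) F) - 1) ^ k := by
  have h1 : ((g⁻¹ : GL (Fin n) F) : Matrix (Fin n) (Fin n) F) - 1 =
      (-((g⁻¹ : GL (Fin n) F) : Matrix (Fin n) (Fin n) F)) *
        ((g : Matrix (Fin n) (Fin n) F) - 1) := by
    rw [neg_mul, mul_sub, mul_one, ← Units.val_mul, inv_mul_cancel, Units.val_one]
    abel
  have hc : Commute (-((g⁻¹ : GL (Fin n) F) : Matrix (Fin n) (Fin n) F))
      ((g : Matrix (Fin n) (Fin n) F) - 1) := by
    apply Commute.neg_left
    apply Commute.sub_right _ (Commute.one_right _)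
    show ((g⁻¹ : GL (Fin n) F) : Matrix (Fin n) (Fin n) F) * (g : Matrix (Fin n) (Fin n) F) =
      (g : Matrix (Fin n) (Fin n) F) * ((g⁻¹ : GL (Fin n) F) : Matrix (Fin n) (Fin n) F)
    rw [← Units.val_mul, ← Units.val_mul, inv_mul_cancel, mul_inv_cancel]
  rw [h1, hc.mul_pow]

/-- `(g⁻¹ - 1) ^ k` and `(g - 1) ^ k` have the same rank -/
theorem rank_inv_sub_one_pow (g : GL (Fin n) F) (k : ℕ) :
    ((((g⁻¹ : GL (Fin n) F) : Matrix (Fin n) (Fin n) F) - 1) ^ k).rank =
      (((g : Matrix (Fin n) (Fin n) F) - 1) ^ k).rank := by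
  rw [inv_sub_one_pow]
  apply Matrix.rank_mul_eq_right_of_isUnit_det
  rw [← Matrix.isUnit_iff_isUnit_det]
  apply IsUnit.pow
  exact (g⁻¹).isUnit.neg

theorem isNilpotent_Nof_inv (g : GL (Fin n) F) (hg : IsNilpotent (Nof g)) :
    IsNilpotent (Nof g⁻¹) := by
  obtain ⟨k, hk⟩ := hg
  refine ⟨k, ?_⟩
  rw [Nof_pow_eq_zero_iff] at hk ⊢
  rw [inv_sub_one_pow, hk, mul_zero]

end genlin

section unitary

open Cfsg.Agent.Lib.Helper13_HermBridge Cfsg.Agent.Lib.Helper43_GUConj
  Cfsg.Agent.Lib.Helper43_GUSimilar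

variable {K : Type*} [Field K] [Fintype K] {q n : ℕ}

theorem frobQ_exists_ne (hK : Fintype.card K = q ^ 2) : ∃ l, frobQ hK l ≠ l := by
  by_contra hcon
  push Not at hcon
  apply frobQ_ne_id hK
  ext x
  exact hcon x

/-- an element of `GL_n(q²)` preserving an invertible sesquilinear form is conjugate to an element
of `GU_n(q)` -/
theorem exists_GU_of_invariant (hK : Fintype.card K = q ^ 2) (A : GL (Fin n) K)
    (S : Matrix (Fin n) (Fin n) K) (hS : S.det ≠ 0)
    (hinv : starM (frobQ hK) (A : Matrix (Fin n) (Fin n) K) * S *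
      (A : Matrix (Fin n) (Fin n) K) = S) :
    ∃ B : ↥(Cfsg.GU n K q), IsConj A (B : GL (Fin n) K) := by
  obtain ⟨R, hRdet, hR⟩ := exists_conj_unitary (frobQ hK) (frobQ_frobQ hK) (frobQ_exists_ne hK)
    (A : Matrix (Fin n) (Fin n) K) S hS hinv
  let Rg : GL (Fin n) K := Matrix.GeneralLinearGroup.mk'' R (isUnit_iff_ne_zero.2 hRdet)
  have hRg : (Rg : Matrix (Fin n) (Fin n) K) = R := rfl
  have hcoe : ((Rg * A * Rg⁻¹ : GL (Fin n) K) : Matrix (Fin n) (Fin n) K) =
      R * (A : Matrix (Fin n) (Fin n) K) * R⁻¹ := by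
    rw [Units.val_mul, Units.val_mul, Matrix.coe_units_inv, hRg]
  have hmem : Rg * A * Rg⁻¹ ∈ Cfsg.GU n K q := by
    rw [mem_GU_iff_star hK, hcoe]
    exact hR
  refine ⟨⟨Rg * A * Rg⁻¹, hmem⟩, ?_⟩
  rw [isConj_iff]
  exact ⟨Rg, rfl⟩

/-- every unipotent element of `GL_n(q²)` is conjugate to an element of `GU_n(q)` -/
theorem exists_GU_conj (hK : Fintype.card K = q ^ 2) (g : GL (Fin n) K)
    (hg : IsNilpotent (Nof g)) : ∃ B : ↥(Cfsg.GU n K q), IsConj g (B : GL (Fin n) K) := by
  have hgdet : (g : Matrix (Fin n) (Fin n) K).det ≠ 0 :=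
    ((Matrix.isUnit_iff_isUnit_det _).1 g.isUnit).ne_zero
  have hgsdet : IsUnit (starM (frobQ hK) (g : Matrix (Fin n) (Fin n) K)).det := by
    rw [det_starM]
    exact isUnit_iff_ne_zero.2 ((map_ne_zero (frobQ hK)).2 hgdet)
  let gs : GL (Fin n) K := Matrix.GeneralLinearGroup.mk''
    (starM (frobQ hK) (g : Matrix (Fin n) (Fin n) K)) hgsdet
  have hgs : (gs : Matrix (Fin n) (Fin n) K) = starM (frobQ hK) (g : Matrix (Fin n) (Fin n) K) :=
    rfl
  have hpow : ∀ k, ((gs : Matrix (Fin n) (Fin n) K) - 1) ^ k =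
      starM (frobQ hK) (((g : Matrix (Fin n) (Fin n) K) - 1) ^ k) := by
    intro k
    rw [hgs, starM_pow, starM_sub, starM_one]
  have hgsN : IsNilpotent (Nof gs) := by
    obtain ⟨k, hk⟩ := hg
    refine ⟨k, ?_⟩
    rw [Nof_pow_eq_zero_iff] at hk ⊢
    rw [hpow, hk]
    unfold starM
    ext i j
    simp
  have hconj : IsConj g gs⁻¹ := by
    apply isConj_of_rank_eq g gs⁻¹ hg (isNilpotent_Nof_inv gs hgsN)
    intro k
    rw [rank_inv_sub_one_pow, hpow, rank_starM]
  obtain ⟨c, hc⟩ := isConj_iff.1 hconj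
  have h1 : gs * c * g = c := by
    have h2 : c * g = gs⁻¹ * c := by
      rw [← hc]
      group
    rw [mul_assoc, h2, ← mul_assoc, mul_inv_cancel, one_mul]
  have h3 : starM (frobQ hK) (g : Matrix (Fin n) (Fin n) K) * (c : Matrix (Fin n) (Fin n) K) *
      (g : Matrix (Fin n) (Fin n) K) = (c : Matrix (Fin n) (Fin n) K) := by
    have := congrArg (fun x : GL (Fin n) K => (x : Matrix (Fin n) (Fin n) K)) h1
    simpa only [Units.val_mul, hgs] using this
  exact exists_GU_of_invariant hK g (c : Matrix (Fin n) (Fin n) K)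
    ((Matrix.isUnit_iff_isUnit_det _).1 c.isUnit).ne_zero h3

end unitary

end Cfsg.Agent.Lib.Helper43_GUUnip
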