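import Mathlib

/-!
Square-zero endomorphisms of a finite-dimensional vector space (helper54):
* two square-zero endomorphisms of the same rank are conjugate under `GL(V)`;
* the centralizer of a nonzero square-zero endomorphism contains elements of determinant `c * c`;
* over a finite field of characteristic two the conjugating map can be taken of determinant `1`.
-/

set_option autoImplicit false

namespace Cfsg.Agent.Lib.Helper54_SqZero

open Module LinearMap

variable {F : Type*} [Field F] {V : Type*} [AddCommGroup V] [Module F V] [FiniteDimensional F V]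

/-- Model of a square-zero endomorphism: `V ≃ R × (R × U)` with `R = range N`, `U` a complement of
`R` in `ker N`, and `N` acting as `(x, (y, u)) ↦ (0, (x, 0))`. -/
theorem exists_model (N : V →ₗ[F] V) (hN : ∀ x, N (N x) = 0) :
    ∃ (U : Submodule F (ker N)) (Θ : (range N × (range N × U)) ≃ₗ[F] V),
      (∀ (x y : range N) (u : U), N (Θ (x, (y, u))) = Θ (0, (x, 0))) ∧
      finrank F V = finrank F (range N) + (finrank F (range N) + finrank F U) := by
  have hRK : range N ≤ ker N := by
    rintro _ ⟨y, rfl⟩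
    exact LinearMap.mem_ker.2 (hN y)
  obtain ⟨s, hs⟩ := N.rangeRestrict.exists_rightInverse_of_surjective N.range_rangeRestrict
  have hs' : ∀ x : range N, N (s x) = x := by
    intro x
    have := LinearMap.congr_fun hs x
    exact congrArg Subtype.val this
  obtain ⟨U, hU⟩ := Submodule.exists_isCompl ((range N).comap (ker N).subtype)
  let Θ₀ : (range N × (range N × U)) →ₗ[F] V :=
    s.coprod ((range N).subtype.coprod ((ker N).subtype ∘ₗ U.subtype))
  have hΘ₀ : ∀ (x y : range N) (u : U), Θ₀ (x, (y, u)) = s x + ((y : V) + ((u : ker N) : V)) := by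
    intro x y u
    simp [Θ₀]
  have hNΘ₀ : ∀ (x y : range N) (u : U), N (Θ₀ (x, (y, u))) = x := by
    intro x y u
    rw [hΘ₀, map_add, map_add, hs', LinearMap.mem_ker.1 (hRK y.2), LinearMap.mem_ker.1 (u : ker N).2,
      add_zero, add_zero]
  have hinj : Function.Injective Θ₀ := by
    rw [← LinearMap.ker_eq_bot, LinearMap.ker_eq_bot']
    rintro ⟨x, y, u⟩ h0
    have hx : x = 0 := by
      have := hNΘ₀ x y u
      rw [h0, map_zero] at this
      exact Subtype.ext this.symm
    subst hx
    rw [hΘ₀, map_zero, zero_add] at h0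
    -- `y + u = 0` inside `ker N`
    have hyK : (⟨(y : V), hRK y.2⟩ : ker N) ∈ (range N).comap (ker N).subtype := y.2
    have hyu : (⟨(y : V), hRK y.2⟩ : ker N) = -(u : ker N) := by
      apply Subtype.ext
      rw [Submodule.coe_neg]
      exact eq_neg_of_add_eq_zero_left h0
    have hyU : (⟨(y : V), hRK y.2⟩ : ker N) ∈ U := by
      rw [hyu]; exact U.neg_mem u.2
    have hy0 : (⟨(y : V), hRK y.2⟩ : ker N) = 0 := by
      have : (⟨(y : V), hRK y.2⟩ : ker N) ∈ (range N).comap (ker N).subtype ⊓ U := ⟨hyK, hyU⟩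
      rw [hU.inf_eq_bot] at this
      exact (Submodule.mem_bot F).1 this
    have hy : y = 0 := by
      apply Subtype.ext
      have h5 := congrArg Subtype.val hy0
      exact h5
    have hu : u = 0 := by
      apply Subtype.ext
      have : (u : ker N) = -(⟨(y : V), hRK y.2⟩ : ker N) := by rw [hyu, neg_neg]
      rw [this, hy0, neg_zero]; rfl
    rw [hy, hu]; rfl
  have hdim : finrank F V = finrank F (range N) + (finrank F (range N) + finrank F U) := by
    have h1 := Submodule.finrank_add_eq_of_isCompl hU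
    have h2 : finrank F ((range N).comap (ker N).subtype) = finrank F (range N) :=
      (Submodule.comapSubtypeEquivOfLe hRK).finrank_eq
    have h3 := LinearMap.finrank_range_add_finrank_ker N
    omega
  have hdim' : finrank F (range N × (range N × U)) = finrank F V := by
    rw [Module.finrank_prod, Module.finrank_prod, hdim]
  refine ⟨U, LinearEquiv.ofInjectiveOfFinrankEq Θ₀ hinj hdim', ?_, hdim⟩
  intro x y u
  have hΘeq : ∀ q, (LinearEquiv.ofInjectiveOfFinrankEq Θ₀ hinj hdim') q = Θ₀ q := fun q => rfl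
  rw [hΘeq, hΘeq, hNΘ₀, hΘ₀]
  simp

/-- Two square-zero endomorphisms of the same rank are conjugate. -/
theorem exists_equiv_conj (N N' : V →ₗ[F] V) (hN : ∀ x, N (N x) = 0) (hN' : ∀ x, N' (N' x) = 0)
    (hrank : finrank F (range N) = finrank F (range N')) :
    ∃ φ : V ≃ₗ[F] V, ∀ x, φ (N x) = N' (φ x) := by
  obtain ⟨U, Θ, hΘ, hdim⟩ := exists_model N hN
  obtain ⟨U', Θ', hΘ', hdim'⟩ := exists_model N' hN'
  have hU : finrank F U = finrank F U' := by omega
  let ρ : range N ≃ₗ[F] range N' := LinearEquiv.ofFinrankEq _ _ hrank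
  let υ : U ≃ₗ[F] U' := LinearEquiv.ofFinrankEq _ _ hU
  refine ⟨Θ.symm ≪≫ₗ (ρ.prodCongr (ρ.prodCongr υ)) ≪≫ₗ Θ', ?_⟩
  intro v
  obtain ⟨⟨x, y, u⟩, rfl⟩ := Θ.surjective v
  rw [hΘ]
  simp only [LinearEquiv.trans_apply, LinearEquiv.symm_apply_apply, LinearEquiv.prodCongr_apply,
    map_zero]
  rw [hΘ']

/-- The centralizer of a nonzero square-zero endomorphism contains maps of determinant `c * c`. -/
theorem exists_commute_det (N : V →ₗ[F] V) (hN : ∀ x, N (N x) = 0) (hN0 : N ≠ 0) (c : F) :
    ∃ h : V →ₗ[F] V, (∀ x, h (N x) = N (h x)) ∧ LinearMap.det h = c * c := by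
  obtain ⟨e₁, he₁⟩ : ∃ e₁, N e₁ ≠ 0 := by
    by_contra hcon
    push Not at hcon
    exact hN0 (LinearMap.ext hcon)
  have hnot : N e₁ ∉ Submodule.span F {e₁} := by
    intro hmem
    obtain ⟨t, ht⟩ := Submodule.mem_span_singleton.1 hmem
    have h1 : N (N e₁) = t • N e₁ := by rw [← ht, map_smul, ht]
    rw [hN] at h1
    rcases smul_eq_zero.1 h1.symm with h2 | h2
    · rw [h2, zero_smul] at ht
      exact he₁ ht.symm
    · exact he₁ h2
  obtain ⟨μ₀, hμ₀, hμ₀'⟩ := Submodule.exists_dual_map_eq_bot_of_notMem hnot inferInstance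
  have hμ₀e : μ₀ e₁ = 0 := by
    have : μ₀ e₁ ∈ (Submodule.span F {e₁}).map μ₀ :=
      Submodule.mem_map_of_mem (Submodule.mem_span_singleton_self e₁)
    rw [hμ₀'] at this
    exact (Submodule.mem_bot F).1 this
  let μ : Module.Dual F V := (μ₀ (N e₁))⁻¹ • μ₀
  have hμf : μ (N e₁) = 1 := by
    change (μ₀ (N e₁))⁻¹ • μ₀ (N e₁) = 1
    rw [smul_eq_mul, inv_mul_cancel₀ hμ₀]
  have hμe : μ e₁ = 0 := by
    change (μ₀ (N e₁))⁻¹ • μ₀ e₁ = 0
    rw [hμ₀e, smul_zero]
  let lam : Module.Dual F V := μ ∘ₗ N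
  have hlam : ∀ x, lam x = μ (N x) := fun x => rfl
  refine ⟨LinearMap.transvection lam ((c - 1) • e₁) ∘ₗ LinearMap.transvection μ ((c - 1) • N e₁),
    ?_, ?_⟩
  · intro x
    simp only [LinearMap.comp_apply, LinearMap.transvection.apply, hlam, map_add, map_smul, hN,
      map_zero, smul_zero, add_zero, zero_smul]
  · rw [LinearMap.det_comp, LinearMap.transvection.det, LinearMap.transvection.det]
    simp only [hlam, map_smul, hμf, smul_eq_mul, mul_one]
    ring

/-- Over a finite field of characteristic two, square-zero endomorphisms of the same rank are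
conjugate by a map of determinant one. -/
theorem exists_conj_det_one [Finite F] [CharP F 2] (N N' : V →ₗ[F] V)
    (hN : ∀ x, N (N x) = 0) (hN' : ∀ x, N' (N' x) = 0)
    (hrank : finrank F (range N) = finrank F (range N')) :
    ∃ P : V →ₗ[F] V, LinearMap.det P = 1 ∧ ∀ x, P (N x) = N' (P x) := by
  obtain ⟨φ, hφ⟩ := exists_equiv_conj N N' hN hN' hrank
  by_cases hN'0 : N' = 0
  · -- then `N = 0` as well
    have h1 : finrank F (range N) = 0 := by
      rw [hrank, hN'0, LinearMap.range_zero, finrank_bot]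
    have h2 : range N = ⊥ := Submodule.finrank_eq_zero.1 h1
    have h3 : N = 0 := LinearMap.range_eq_bot.1 h2
    refine ⟨LinearMap.id, LinearMap.det_id, fun x => ?_⟩
    rw [h3, hN'0]; simp
  · have hδ : LinearMap.det (φ : V →ₗ[F] V) ≠ 0 := (LinearEquiv.isUnit_det' φ).ne_zero
    have : Fintype F := Fintype.ofFinite F
    obtain ⟨c, hc⟩ := FiniteField.isSquare_of_char_two (ringChar.eq F 2)
      (LinearMap.det (φ : V →ₗ[F] V))⁻¹
    obtain ⟨h, hcomm, hdet⟩ := exists_commute_det N' hN' hN'0 c
    refine ⟨h ∘ₗ (φ : V →ₗ[F] V), ?_, fun x => ?_⟩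
    · rw [LinearMap.det_comp, hdet, ← hc, inv_mul_cancel₀ hδ]
    · simp only [LinearMap.comp_apply, LinearEquiv.coe_coe]
      rw [hφ, hcomm]

end Cfsg.Agent.Lib.Helper54_SqZero
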