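import Mathlib
import Cfsg.Prelude.Def_Classical
import Cfsg.Prelude.Def_LieClassical
import Cfsg.Prelude.Def_GeometricClasses
import Cfsg.Agent.Lib.Helper58_S5982Defs
import Cfsg.Agent.Lib.Helper43_Jordan4
import Cfsg.Agent.Lib.Helper43_GUUnip
import Cfsg.Agent.Lib.Helper54_SqZero
import Cfsg.Agent.Lib.Helper40_UMatrix

/-!
# S5982 package A (helper31): characteristic 2, `x ^ 2` scalar ⇒ `x` is `SL`-conjugate into the
similarity group of the standard hermitian form
-/

set_option autoImplicit false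
set_option linter.unusedVariables false
open scoped MatrixGroups

namespace Cfsg.Agent.Lib.Helper31_S5982_A

open Polynomial Matrix Module Cfsg.Agent.Lib.Helper58_S5982Defs Cfsg.Agent.Lib.Helper43_Jordan

section general

variable {F : Type*} [Field F] {n : ℕ}

/-- square-zero of `Nof g` from the matrix identity -/
theorem Nof_sq_zero (g : GL (Fin n) F)
    (h : ((g : Matrix (Fin n) (Fin n) F) - 1) * ((g : Matrix (Fin n) (Fin n) F) - 1) = 0)
    (v : Fin n → F) : Nof g (Nof g v) = 0 := by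
  rw [Nof_apply, Nof_apply, Matrix.mulVec_mulVec, h, Matrix.zero_mulVec]

end general

theorem A {F : Type*} [Field F] [Fintype F] [CharP F 2] {q₀ : ℕ} (hK : Fintype.card F = q₀ ^ 2) (n : ℕ)
    (x : GL (Fin n) F) (hx : x ∈ Cfsg.Geo.specialLinear (Fin n) F) (z : F)
    (hxz : ((x ^ 2 : GL (Fin n) F) : Matrix (Fin n) (Fin n) F) = z • (1 : Matrix (Fin n) (Fin n) F)) :
    ConjInto n q₀ x := by
  classical
  set X : Matrix (Fin n) (Fin n) F := (x : Matrix (Fin n) (Fin n) F) with hX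
  have hXX : X * X = z • (1 : Matrix (Fin n) (Fin n) F) := by
    rw [← hxz, pow_two, Units.val_mul]
  -- a square root of z
  obtain ⟨s, hs⟩ : ∃ s : F, s ^ 2 = z := by
    have := (bijective_frobenius F 2).surjective z
    obtain ⟨s, hs⟩ := this
    exact ⟨s, by rw [← hs, frobenius_def]⟩
  have h2 : (2 : F) = 0 := CharP.cast_eq_zero F 2
  -- the case n = 0 is trivial but harmless; we need s ≠ 0 when n ≥ 1; treat s = 0 separately
  by_cases hs0 : s = 0
  · -- then z = 0, so X * X = 0, X invertible forces the space to be trivial: n = 0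
    have hz : z = 0 := by rw [← hs, hs0]; ring
    have hXX0 : X * X = 0 := by rw [hXX, hz, zero_smul]
    have hX0 : X = 0 := by
      have h1 : X = X * X * ((x⁻¹ : GL (Fin n) F) : Matrix (Fin n) (Fin n) F) := by
        rw [Matrix.mul_assoc, hX, ← Units.val_mul, mul_inv_cancel, Units.val_one, Matrix.mul_one]
      rw [h1, hXX0, Matrix.zero_mul]
    have h10 : (1 : Matrix (Fin n) (Fin n) F) = 0 := by
      have h1 : (1 : Matrix (Fin n) (Fin n) F) =
          X * ((x⁻¹ : GL (Fin n) F) : Matrix (Fin n) (Fin n) F) := by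
        rw [hX, ← Units.val_mul, mul_inv_cancel, Units.val_one]
      rw [h1, hX0, Matrix.zero_mul]
    refine ⟨1, Subgroup.one_mem _, ?_⟩
    refine ⟨1, fun u v => ?_⟩
    have hu : ∀ w : Fin n → F, w = 0 := by
      intro w
      have : w = (1 : Matrix (Fin n) (Fin n) F) *ᵥ w := (Matrix.one_mulVec w).symm
      rw [this, h10, Matrix.zero_mulVec]
    rw [hu u, hu (_ *ᵥ (0 : Fin n → F))]
    simp [Cfsg.hermForm]
  -- the scalar s as an element of GL
  have hsdet : IsUnit ((s • (1 : Matrix (Fin n) (Fin n) F)).det) := by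
    rw [Matrix.det_smul, Matrix.det_one, mul_one]
    exact isUnit_iff_ne_zero.2 (pow_ne_zero _ hs0)
  let sc : GL (Fin n) F := Matrix.GeneralLinearGroup.mk'' (s • (1 : Matrix (Fin n) (Fin n) F)) hsdet
  have hsc : (sc : Matrix (Fin n) (Fin n) F) = s • (1 : Matrix (Fin n) (Fin n) F) := rfl
  have hscinv : ((sc⁻¹ : GL (Fin n) F) : Matrix (Fin n) (Fin n) F) =
      s⁻¹ • (1 : Matrix (Fin n) (Fin n) F) := by
    have h1 : (sc : Matrix (Fin n) (Fin n) F) * (s⁻¹ • (1 : Matrix (Fin n) (Fin n) F)) = 1 := by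
      rw [hsc, Matrix.smul_mul, Matrix.one_mul, smul_smul, mul_inv_cancel₀ hs0, one_smul]
    have h2' : ((sc⁻¹ : GL (Fin n) F) : Matrix (Fin n) (Fin n) F) * (sc : Matrix (Fin n) (Fin n) F) = 1 := by
      rw [← Units.val_mul, inv_mul_cancel, Units.val_one]
    calc ((sc⁻¹ : GL (Fin n) F) : Matrix (Fin n) (Fin n) F)
        = ((sc⁻¹ : GL (Fin n) F) : Matrix (Fin n) (Fin n) F) *
          ((sc : Matrix (Fin n) (Fin n) F) * (s⁻¹ • (1 : Matrix (Fin n) (Fin n) F))) := by
            rw [h1, Matrix.mul_one]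
      _ = s⁻¹ • (1 : Matrix (Fin n) (Fin n) F) := by
            rw [← Matrix.mul_assoc, h2', Matrix.one_mul]
  -- the unipotent part
  set g : GL (Fin n) F := sc⁻¹ * x with hg
  have hgM : (g : Matrix (Fin n) (Fin n) F) = s⁻¹ • X := by
    rw [hg, Units.val_mul, hscinv, Matrix.smul_mul, Matrix.one_mul]
  have hsq : ((g : Matrix (Fin n) (Fin n) F) - 1) * ((g : Matrix (Fin n) (Fin n) F) - 1) = 0 := by
    rw [hgM]
    have e1 : (s⁻¹ • X - 1) * (s⁻¹ • X - 1) =
        (s⁻¹ * s⁻¹) • (X * X) - (2 : F) • (s⁻¹ • X) + 1 := by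
      rw [sub_mul, mul_sub, mul_sub, Matrix.smul_mul, Matrix.mul_smul, smul_smul, Matrix.mul_one,
        Matrix.one_mul, Matrix.mul_one, two_smul]
      abel
    rw [e1, hXX, h2, zero_smul, sub_zero, smul_smul, ← hs]
    have e2 : s⁻¹ * s⁻¹ * s ^ 2 = 1 := by field_simp
    rw [e2, one_smul]
    have e3 : (1 : Matrix (Fin n) (Fin n) F) + 1 = (2 : F) • (1 : Matrix (Fin n) (Fin n) F) := by
      rw [two_smul]
    rw [e3, h2, zero_smul]
  have hN : ∀ v, Nof g (Nof g v) = 0 := Nof_sq_zero g hsq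
  have hnil : IsNilpotent (Nof g) := by
    refine ⟨2, ?_⟩
    apply LinearMap.ext
    intro v
    rw [pow_two]
    exact hN v
  obtain ⟨B, hB⟩ := Cfsg.Agent.Lib.Helper43_GUUnip.exists_GU_conj hK g hnil
  obtain ⟨e, he⟩ := (isConj_iff_Nof g (B : GL (Fin n) F)).1 hB
  have hN' : ∀ v, Nof (B : GL (Fin n) F) (Nof (B : GL (Fin n) F) v) = 0 := by
    intro v
    have h1 : Nof (B : GL (Fin n) F) v = e (Nof g (e.symm v)) := by
      rw [he, LinearEquiv.apply_symm_apply]
    rw [h1, ← he, hN, map_zero]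
  have hrank : finrank F (LinearMap.range (Nof g)) =
      finrank F (LinearMap.range (Nof (B : GL (Fin n) F))) := by
    have h1 : LinearMap.range (Nof (B : GL (Fin n) F)) =
        (LinearMap.range (Nof g)).map (e : (Fin n → F) →ₗ[F] (Fin n → F)) := by
      ext w
      constructor
      · rintro ⟨v, rfl⟩
        refine ⟨Nof g (e.symm v), ⟨_, rfl⟩, ?_⟩
        show e (Nof g (e.symm v)) = _
        rw [he, LinearEquiv.apply_symm_apply]
      · rintro ⟨_, ⟨v, rfl⟩, rfl⟩
        refine ⟨e v, ?_⟩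
        show _ = e (Nof g v)
        rw [he]
    rw [h1, LinearEquiv.finrank_map_eq]
  obtain ⟨P, hPdet, hP⟩ := Cfsg.Agent.Lib.Helper54_SqZero.exists_conj_det_one (Nof g)
    (Nof (B : GL (Fin n) F)) hN hN' hrank
  -- matrices
  set MP : Matrix (Fin n) (Fin n) F := LinearMap.toMatrix' P with hMP
  have hMPdet : MP.det = 1 := by rw [hMP, LinearMap.det_toMatrix', hPdet]
  have hMPunit : IsUnit MP.det := by rw [hMPdet]; exact isUnit_one
  let Pg : GL (Fin n) F := Matrix.GeneralLinearGroup.mk'' MP hMPunit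
  have hPg : (Pg : Matrix (Fin n) (Fin n) F) = MP := rfl
  have hPgSL : Pg ∈ Cfsg.Geo.specialLinear (Fin n) F := by
    unfold Cfsg.Geo.specialLinear
    rw [MonoidHom.mem_ker]
    apply Units.ext
    rw [Matrix.GeneralLinearGroup.val_det_apply, hPg, hMPdet, Units.val_one]
  set MB : Matrix (Fin n) (Fin n) F := ((B : GL (Fin n) F) : Matrix (Fin n) (Fin n) F) with hMB
  -- intertwining
  have hint : MP * ((g : Matrix (Fin n) (Fin n) F) - 1) = (MB - 1) * MP := by
    apply Matrix.toLin'.injective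
    apply LinearMap.ext
    intro v
    rw [Matrix.toLin'_mul, Matrix.toLin'_mul, LinearMap.comp_apply, LinearMap.comp_apply, hMP,
      Matrix.toLin'_toMatrix']
    have := hP v
    rw [Nof_apply, Nof_apply] at this
    rw [Matrix.toLin'_apply, Matrix.toLin'_apply]
    exact this
  have hint2 : MP * X = s • (MB * MP) := by
    have h1 : MP * (g : Matrix (Fin n) (Fin n) F) = MB * MP := by
      have := hint
      rw [mul_sub, sub_mul, Matrix.mul_one, Matrix.one_mul] at this
      exact sub_left_inj.mp this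
    rw [hgM, Matrix.mul_smul] at h1
    rw [← h1, smul_smul, mul_inv_cancel₀ hs0, one_smul]
  refine ⟨Pg⁻¹, Subgroup.inv_mem _ hPgSL, ?_⟩
  rw [inv_inv]
  have hy : ((Pg * x * Pg⁻¹ : GL (Fin n) F) : Matrix (Fin n) (Fin n) F) = s • MB := by
    rw [Units.val_mul, Units.val_mul, hPg, ← hX, hint2, Matrix.smul_mul, Matrix.mul_assoc, ← hPg,
      ← Units.val_mul, mul_inv_cancel, Units.val_one, Matrix.mul_one]
  have hc0 : s * s ^ q₀ ≠ 0 := mul_ne_zero hs0 (pow_ne_zero _ hs0)
  refine ⟨Units.mk0 (s * s ^ q₀) hc0, fun u v => ?_⟩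
  rw [hy, Units.val_mk0, Matrix.smul_mulVec, Matrix.smul_mulVec]
  have hBmem := (Cfsg.Agent.Lib.Helper40_UMatrix.mem_GU_iff (B : GL (Fin n) F)).1 B.2 u v
  rw [← hBmem]
  simp only [Cfsg.hermForm, Pi.smul_apply, smul_eq_mul, mul_pow, Finset.mul_sum]
  apply Finset.sum_congr rfl
  intro i _
  ring

end Cfsg.Agent.Lib.Helper31_S5982_A
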