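import Mathlib
import Cfsg.Agent.Lib.Helper40_UExist
import Cfsg.Agent.Lib.Helper40_UMatrix
import Cfsg.Agent.Lib.Helper40_SpExistMatrix

set_option autoImplicit false

/-!
Every monic self-dual polynomial of degree `n` over the field with `q²` elements is the
characteristic polynomial of a semisimple element of `GU_n(q)`.
-/

namespace Cfsg.Agent.Lib.Helper40_UExistMatrix

open Polynomial Module Matrix Cfsg.Agent.Lib.Helper40_UBasic Cfsg.Agent.Lib.Helper94_Herm
  Cfsg.Agent.Lib.Helper94_HermBridge Cfsg.Agent.Lib.Helper40_UMatrix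
  Cfsg.Agent.Lib.Helper40_UExist Cfsg.Agent.Lib.Helper40_SpExistMatrix

universe v

variable {K : Type v} [Field K] [Fintype K] {q : ℕ} (σ : K →+* K) (hσq : ∀ x, σ x = x ^ q)

omit [Fintype K] in
theorem uData_one {V : Type*} [AddCommGroup V] [Module K V] (B : V →ₗ[K] V →ₛₗ[σ] K)
    (hinv : ∀ c, σ (σ c) = c) (hherm : ∀ x y, B y x = σ (B x y)) :
    UData B (1 : Module.End K V) 1 where
  invol := hinv
  herm := hherm
  iso := fun _ _ => rfl
  pow := pow_one 1
  pos := one_pos

include hσq in
/-- existence of a unitary matrix with prescribed self-dual characteristic polynomial,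
killed by every polynomial divisible by all irreducible factors -/
theorem exists_GU_matrix (hσ : Invol σ) (n : ℕ) (c : K[X]) (hc : c.Monic)
    (hdeg : c.natDegree = n) (hdual : udual σ c = c) :
    ∃ A : Matrix (Fin n) (Fin n) K,
      (∀ u v, Cfsg.hermForm n K q (A *ᵥ u) (A *ᵥ v) = Cfsg.hermForm n K q u v) ∧
      A.charpoly = c ∧ ∀ r : K[X], (∀ g, Irreducible g → g ∣ c → g ∣ r) → aeval A r = 0 := by
  obtain ⟨V, _, _, _, B, a, hB, hherm, hiso, hch, hk⟩ :=
    exists_u_model hσ.invol hσ.ne_id n c hc hdeg hdual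
  have hfin : finrank K V = n := by
    rw [← LinearMap.charpoly_natDegree a, hch, hdeg]
  have hfinW : finrank K (Fin n → K) = n := by
    rw [Module.finrank_pi, Fintype.card_fin]
  have hss : ∀ (W : Type v) [AddCommGroup W] [Module K W],
      (1 : Module.End K W).IsSemisimple := fun W _ _ => Module.End.isSemisimple_id
  obtain ⟨e, _, he⟩ := Helper40_UConj.exists_isometry_conj (σ := σ) hσ.ne_id n B
    (hermB n σ hσq) (1 : Module.End K V) (1 : Module.End K (Fin n → K)) 1 hfin
    (uData_one σ B hσ.invol hherm) (uData_one σ _ hσ.invol (hermB_isHerm σ hσq hσ)) hB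
    (und_hermB σ hσq) (hss V) (hss _)
    (by rw [LinearMap.charpoly_one, LinearMap.charpoly_one, hfin, hfinW])
  set b : Module.End K (Fin n → K) := e.conjAlgEquiv K a with hb
  have hbapp : ∀ x, b x = e (a (e.symm x)) := fun x => rfl
  set A : Matrix (Fin n) (Fin n) K := LinearMap.toMatrix' b with hA
  have hAb : Matrix.toLin' A = b := Matrix.toLin'_toMatrix' b
  refine ⟨A, ?_, ?_, ?_⟩
  · intro u v
    rw [← Matrix.toLin'_apply, ← Matrix.toLin'_apply, hAb, ← hermB_apply σ hσq, hbapp, hbapp, he,
      hiso, ← he, LinearEquiv.apply_symm_apply, LinearEquiv.apply_symm_apply, hermB_apply]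
  · rw [← Matrix.charpoly_toLin', hAb, hb]
    have : (e.conjAlgEquiv K a) = e.conj a := rfl
    rw [this, LinearEquiv.charpoly_conj, hch]
  · intro r hr
    apply Matrix.toLin'.injective
    rw [← aeval_toLin'', hAb, hb, map_zero]
    have h1 := aeval_algHom_apply (e.conjAlgEquiv K).toAlgHom a r
    have h2 : (e.conjAlgEquiv K).toAlgHom a = e.conjAlgEquiv K a := rfl
    rw [h2] at h1
    rw [h1, hk r hr, map_zero]

end Cfsg.Agent.Lib.Helper40_UExistMatrix
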