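import Mathlib
import Cfsg.Prelude.Def_Classical
import Cfsg.Prelude.Def_GeometricClasses
import Cfsg.Agent.Lib.Helper94_Bridge
import Cfsg.Agent.Lib.Helper94_Herm
import Cfsg.Agent.Lib.Helper94_HermBridge
import Cfsg.Agent.Lib.Helper40_UBasic
import Cfsg.Agent.Lib.Helper40_UMatrix
import Cfsg.Agent.Lib.Helper40_UConj
import Cfsg.Agent.Lib.Helper40_UExistMatrix

/-!
# S5982 package V0 (helper31): every unitary form on `F^n`, `|F| = q₀²`, is equivalent to the standard one
-/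

set_option autoImplicit false
open scoped MatrixGroups

namespace Cfsg.Agent.Lib.Helper31_S5982_V0

open Polynomial Matrix Module Cfsg.Agent.Lib.Helper94_Herm Cfsg.Agent.Lib.Helper94_HermBridge
  Cfsg.Agent.Lib.Helper94_Bridge Cfsg.Agent.Lib.Helper40_UBasic Cfsg.Agent.Lib.Helper40_UMatrix

theorem V0 {F : Type*} [Field F] [Fintype F] {q₀ : ℕ} (hK : Fintype.card F = q₀ ^ 2) (n : ℕ)
    (f : (Fin n → F) → (Fin n → F) → F) (hf : Cfsg.Geo.IsUnitaryFormPow q₀ f) :
    ∃ P : GL (Fin n) F, ∀ u v, f ((P : Matrix (Fin n) (Fin n) F) *ᵥ u) ((P : Matrix (Fin n) (Fin n) F) *ᵥ v) =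
      Cfsg.hermForm n F q₀ u v := by
  classical
  obtain ⟨σ, hσq, hσ⟩ := exists_frob hK
  have hherm : ∀ v w, f v w = σ (f w v) := fun v w => by rw [hσq]; exact hf.herm v w
  -- f as a sesquilinear map
  let Bf : (Fin n → F) →ₗ[F] (Fin n → F) →ₛₗ[σ] F :=
    LinearMap.mk₂'ₛₗ (RingHom.id F) σ f
      (fun x y v => hf.add_left x y v)
      (fun c x v => by rw [RingHom.id_apply]; exact hf.smul_left c x v)
      (fun v x y => by
        rw [hherm v (x + y), hf.add_left, map_add, ← hherm, ← hherm])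
      (fun c v x => by
        rw [hherm v (c • x), hf.smul_left, map_mul, ← hherm]; rfl)
  have hBf : ∀ u v, Bf u v = f u v := fun u v => rfl
  have hBfherm : ∀ x y, Bf y x = σ (Bf x y) := fun x y => by
    rw [hBf, hBf]; exact hherm y x
  have hBfnd : UND Bf := by
    intro x hx
    by_contra hx0
    obtain ⟨-, ⟨y, hy⟩⟩ := hf.nondegenerate x hx0
    exact hy (hx y)
  have hfinW : finrank F (Fin n → F) = n := by
    rw [Module.finrank_pi, Fintype.card_fin]
  obtain ⟨e, -, he⟩ := Cfsg.Agent.Lib.Helper40_UConj.exists_isometry_conj (σ := σ) hσ.ne_id n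
    (hermB n σ hσq) Bf (1 : Module.End F (Fin n → F)) (1 : Module.End F (Fin n → F)) 1 hfinW
    (Cfsg.Agent.Lib.Helper40_UExistMatrix.uData_one σ _ hσ.invol (hermB_isHerm σ hσq hσ))
    (Cfsg.Agent.Lib.Helper40_UExistMatrix.uData_one σ Bf hσ.invol hBfherm)
    (und_hermB σ hσq) hBfnd Module.End.isSemisimple_id Module.End.isSemisimple_id rfl
  refine ⟨(glEquiv (Fin n) F).symm e, fun u v => ?_⟩
  have h1 : ∀ w, (((glEquiv (Fin n) F).symm e : GL (Fin n) F) : Matrix (Fin n) (Fin n) F) *ᵥ w = e w := by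
    intro w
    rw [← glEquiv_apply, MulEquiv.apply_symm_apply]
  rw [h1, h1, ← hBf, he, hermB_apply]

end Cfsg.Agent.Lib.Helper31_S5982_V0
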