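import Mathlib
import Cfsg.Agent.Lib.Helper6_S6Defs

/-!
# S3333 market (helper6), package CARDN (helper31): `|N_G(S)| = 72`
-/

set_option autoImplicit false
set_option linter.unusedSectionVars false

namespace Cfsg.Agent.Lib.Helper31_S6_CARDN

open Cfsg.Agent.Lib.Helper6_S6Defs Equiv Equiv.Perm

variable {G : Type*} [Group G] [Finite G] {S : Subgroup G}

/-- PKG CARDN -/
theorem card_normalizer (D : Setup G S) :
    Nat.card ↥(Subgroup.normalizer (S : Set G)) = 72 := by
  have h1 := Subgroup.card_eq_card_quotient_mul_card_subgroup D.π.ker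
  have h2 : Nat.card (↥(Subgroup.normalizer (S : Set G)) ⧸ D.π.ker) = 8 := by
    rw [Nat.card_congr (QuotientGroup.quotientKerEquivOfSurjective D.π D.surj).toEquiv,
      DihedralGroup.nat_card]
  have h3 : D.π.ker = S.subgroupOf (Subgroup.normalizer (S : Set G)) := by
    ext n
    rw [MonoidHom.mem_ker, D.ker, Subgroup.mem_subgroupOf]
  have h4 : Nat.card (D.π.ker) = 9 := by
    rw [h3, Nat.card_congr (Subgroup.subgroupOfEquivOfLe Subgroup.le_normalizer).toEquiv, D.card]
  rw [h1, h2, h4]

end Cfsg.Agent.Lib.Helper31_S6_CARDN
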