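import Mathlib
import Cfsg.Agent.Lib.Helper17_Sylow

/-!
# SO-420-MAIN (for S0496, architect helper76): no non-abelian simple group of order 420
(given that involutions are conjugate, have centralizers of order divisible by 4 and that the
Sylow 2-subgroups are Klein four-groups)
-/

set_option autoImplicit false
open Subgroup

namespace Cfsg.Agent.Lib.Helper31_SO_420MAIN

open Cfsg.Agent.Lib.Helper17_Sylow

/-- conjugate elements have centralizers of the same order -/
theorem card_centralizer_conj {G : Type*} [Group G] (g t : G) :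
    Nat.card (centralizer ({g * t * g⁻¹} : Set G)) = Nat.card (centralizer ({t} : Set G)) := by
  apply Nat.card_congr
  refine
    { toFun := fun x => ⟨g⁻¹ * x.1 * g, ?_⟩
      invFun := fun y => ⟨g * y.1 * g⁻¹, ?_⟩
      left_inv := fun x => by apply Subtype.ext; simp only []; group
      right_inv := fun y => by apply Subtype.ext; simp only []; group }
  · have hx := mem_centralizer_singleton_iff.mp x.2
    rw [mem_centralizer_singleton_iff]
    calc g⁻¹ * x.1 * g * t = g⁻¹ * (x.1 * (g * t * g⁻¹)) * g := by group
      _ = g⁻¹ * ((g * t * g⁻¹) * x.1) * g := by rw [hx]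
      _ = t * (g⁻¹ * x.1 * g) := by group
  · have hy := mem_centralizer_singleton_iff.mp y.2
    rw [mem_centralizer_singleton_iff]
    calc g * y.1 * g⁻¹ * (g * t * g⁻¹) = g * (y.1 * t) * g⁻¹ := by group
      _ = g * (t * y.1) * g⁻¹ := by rw [hy]
      _ = g * t * g⁻¹ * (g * y.1 * g⁻¹) := by group

/-- if the centralizer of a subgroup `P` has even order, some involution centralizes `P` -/
theorem exists_invol_of_even_centralizer {G : Type*} [Group G] [Finite G] (P : Subgroup G)
    (heven : 2 ∣ Nat.card (centralizer (P : Set G))) :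
    ∃ t : G, orderOf t = 2 ∧ Nat.card P ∣ Nat.card (centralizer ({t} : Set G)) := by
  have : Fact (Nat.Prime 2) := ⟨Nat.prime_two⟩
  have : Fintype (centralizer (P : Set G)) := Fintype.ofFinite _
  obtain ⟨t, ht⟩ := exists_prime_orderOf_dvd_card (G := centralizer (P : Set G)) 2
    (by rwa [← Nat.card_eq_fintype_card])
  refine ⟨(t : G), by rw [Subgroup.orderOf_coe, ht], ?_⟩
  apply Subgroup.card_dvd_of_le
  intro x hx
  rw [mem_centralizer_singleton_iff]
  exact (mem_centralizer_iff.mp t.2 x hx)

/-- a `2`-element of a group whose Sylow `2`-subgroups are Klein four-groups has square `1` -/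
theorem sq_eq_one_of_klein {G : Type*} [Group G] [Finite G]
    (hklein : ∀ T : Sylow 2 G, IsKleinFour (T : Subgroup G)) (z : G) (hz : z ^ 4 = 1) :
    z ^ 2 = 1 := by
  have : Fact (Nat.Prime 2) := ⟨Nat.prime_two⟩
  have hpg : IsPGroup 2 (zpowers z) := by
    have hd : orderOf z ∣ 2 ^ 2 := orderOf_dvd_of_pow_eq_one hz
    obtain ⟨k, -, hk⟩ := (Nat.dvd_prime_pow Nat.prime_two).mp hd
    apply IsPGroup.of_card (n := k)
    rw [Nat.card_zpowers, hk]
  obtain ⟨T, hT⟩ := hpg.exists_le_sylow
  have hzT : z ∈ (T : Subgroup G) := hT (mem_zpowers z)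
  have hK := hklein T
  have h2 : (⟨z, hzT⟩ : (T : Subgroup G)) ^ 2 = 1 := by
    have h3 := Monoid.pow_exponent_eq_one (⟨z, hzT⟩ : (T : Subgroup G))
    rwa [hK.exponent_two] at h3
  exact congrArg Subtype.val h2

/-- If `|P| = 5`, `|N(P)| = 20` and the Sylow `2`-subgroups are Klein four-groups, then `C(P)` has
even order (otherwise `N(P)/P` would be cyclic of order 4). -/
theorem even_centralizer_of_card_normalizer_twenty {G : Type*} [Group G] [Finite G]
    (hklein : ∀ T : Sylow 2 G, IsKleinFour (T : Subgroup G))
    (P : Subgroup G) (hP : Nat.card P = 5) (hN : Nat.card (normalizer (P : Set G)) = 20) :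
    2 ∣ Nat.card (centralizer (P : Set G)) := by
  have : Fact (Nat.Prime 5) := ⟨by norm_num⟩
  have hcyc : IsCyclic P := isCyclic_of_prime_card hP
  have hPC : P ≤ centralizer (P : Set G) := le_centralizer_of_isCyclic P
  have hCN : centralizer (P : Set G) ≤ normalizer (P : Set G) := centralizer_le_normalizer _
  have h1 := card_mul_relIndex_of_le hCN
  have h2 := card_mul_relIndex_of_le hPC
  have hdvd := relIndex_centralizer_normalizer_dvd_pred P hP
  rw [hN] at h1
  rw [hP] at h2
  by_contra hodd
  have hrel : (centralizer (P : Set G)).relIndex (normalizer (P : Set G)) = 4 := by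
    obtain ⟨c, hc⟩ := hdvd
    have hc' : (centralizer (P : Set G)).relIndex (normalizer (P : Set G)) * c = 4 := by
      rw [← hc]
    have hle : (centralizer (P : Set G)).relIndex (normalizer (P : Set G)) ≤ 4 :=
      Nat.le_of_dvd (by norm_num) ⟨c, hc'.symm⟩
    have hcle : P.relIndex (centralizer (P : Set G)) ≤ 4 := by
      have : 5 * P.relIndex (centralizer (P : Set G)) ≤ 20 := by
        rw [h2, ← h1]
        exact Nat.le_mul_of_pos_right _ (by
          rcases Nat.eq_zero_or_pos ((centralizer (P : Set G)).relIndex (normalizer (P : Set G)))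
            with h0 | h0
          · rw [h0] at hc'; omega
          · exact h0)
      omega
    rw [← h2] at h1 hodd
    interval_cases hr : (centralizer (P : Set G)).relIndex (normalizer (P : Set G)) <;>
      interval_cases hq : P.relIndex (centralizer (P : Set G)) <;> omega
  let φ := P.normalizerMonoidHom
  have hker : φ.ker = (centralizer (P : Set G)).subgroupOf (normalizer (P : Set G)) :=
    normalizerMonoidHom_ker P
  have hrange : Nat.card φ.range = 4 := by
    rw [← Subgroup.index_ker, hker]
    exact hrel
  have hAut : Nat.card (MulAut P) = 4 := card_mulAut_of_card_eq_prime hP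
  have hsurj : φ.range = ⊤ := Subgroup.eq_top_of_card_eq _ (by rw [hrange, hAut])
  have hcycA : IsCyclic (MulAut P) := by
    let e : MulAut ↥P ≃* (ZMod (Nat.card ↥P))ˣ := IsCyclic.mulAutMulEquiv ↥P
    have : Fact (Nat.card ↥P).Prime := ⟨by rw [hP]; norm_num⟩
    have : IsCyclic (ZMod (Nat.card ↥P))ˣ := inferInstance
    exact isCyclic_of_surjective e.symm e.symm.surjective
  obtain ⟨σ, hσ⟩ := hcycA.exists_generator
  have hordσ : orderOf σ = 4 := by rw [orderOf_eq_card_of_forall_mem_zpowers hσ, hAut]
  obtain ⟨y, hy⟩ : ∃ y, φ y = σ := by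
    have : σ ∈ φ.range := by rw [hsurj]; trivial
    exact this
  have hy20 : (y : G) ^ 20 = 1 := by
    have h3 : y ^ 20 = 1 := by rw [← hN]; exact pow_card_eq_one'
    have h4 := congrArg Subtype.val h3
    rwa [Subgroup.coe_pow] at h4
  have hz4 : ((y : G) ^ 5) ^ 4 = 1 := by rw [← pow_mul]; exact hy20
  have hz2 := sq_eq_one_of_klein hklein _ hz4
  have hy10 : y ^ 10 = 1 := by
    apply Subtype.ext
    rw [Subgroup.coe_pow, Subgroup.coe_one, ← hz2, ← pow_mul]
  have hσ10 : σ ^ 10 = 1 := by rw [← hy, ← map_pow, hy10, map_one]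
  have h410 : 4 ∣ 10 := by rw [← hordσ]; exact orderOf_dvd_of_pow_eq_one hσ10
  omega

/-- If `|P| = 7` and `|N(P)| = 28` then `C(P)` has even order. -/
theorem even_centralizer_of_card_normalizer_twentyeight {G : Type*} [Group G] [Finite G]
    (P : Subgroup G) (hP : Nat.card P = 7) (hN : Nat.card (normalizer (P : Set G)) = 28) :
    2 ∣ Nat.card (centralizer (P : Set G)) := by
  have : Fact (Nat.Prime 7) := ⟨by norm_num⟩
  have hcyc : IsCyclic P := isCyclic_of_prime_card hP
  have hPC : P ≤ centralizer (P : Set G) := le_centralizer_of_isCyclic P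
  have hCN : centralizer (P : Set G) ≤ normalizer (P : Set G) := centralizer_le_normalizer _
  have h1 := card_mul_relIndex_of_le hCN
  have h2 := card_mul_relIndex_of_le hPC
  have hdvd := relIndex_centralizer_normalizer_dvd_pred P hP
  rw [hN] at h1
  rw [hP] at h2
  obtain ⟨c, hc⟩ := hdvd
  have hc' : (centralizer (P : Set G)).relIndex (normalizer (P : Set G)) * c = 6 := by
    rw [← hc]
  have hle : (centralizer (P : Set G)).relIndex (normalizer (P : Set G)) ≤ 6 :=
    Nat.le_of_dvd (by norm_num) ⟨c, hc'.symm⟩
  have hpos : 0 < (centralizer (P : Set G)).relIndex (normalizer (P : Set G)) := by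
    rcases Nat.eq_zero_or_pos ((centralizer (P : Set G)).relIndex (normalizer (P : Set G)))
      with h0 | h0
    · rw [h0] at hc'; omega
    · exact h0
  have hcle : P.relIndex (centralizer (P : Set G)) ≤ 4 := by
    have : 7 * P.relIndex (centralizer (P : Set G)) ≤ 28 := by
      rw [h2, ← h1]
      exact Nat.le_mul_of_pos_right _ hpos
    omega
  have hcc : c ≤ 6 := by
    rcases Nat.eq_zero_or_pos c with h0 | h0
    · omega
    · calc c = 1 * c := (one_mul c).symm
        _ ≤ (centralizer (P : Set G)).relIndex (normalizer (P : Set G)) * c :=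
            Nat.mul_le_mul_right _ hpos
        _ = 6 := hc'
  rw [← h2] at h1 ⊢
  interval_cases hr : (centralizer (P : Set G)).relIndex (normalizer (P : Set G)) <;>
    interval_cases hq : P.relIndex (centralizer (P : Set G)) <;>
    interval_cases c <;> omega

theorem no_simple_420_of {G : Type*} [Group G] [Finite G] [IsSimpleGroup G]
    (hG : ¬ IsMulCommutative G) (h : Nat.card G = 420)
    (hconj : ∀ t u : G, orderOf t = 2 → orderOf u = 2 → IsConj t u)
    (h4 : ∀ t : G, orderOf t = 2 → 4 ∣ Nat.card (centralizer ({t} : Set G)))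
    (hklein : ∀ T : Sylow 2 G, IsKleinFour (T : Subgroup G)) : False := by
  have h7p : Fact (Nat.Prime 7) := ⟨by norm_num⟩
  have h5p : Fact (Nat.Prime 5) := ⟨by norm_num⟩
  -- the prime 7
  have h7' : Nat.card G = 7 ^ 1 * 60 := by rw [h]; norm_num
  have hm7 : ¬ 7 ∣ 60 := by norm_num
  have hmem7 := card_sylow_mem_candidates h7' hm7
  have hlt7 := one_lt_card_sylow_of_card h7' hm7 (by norm_num) (by norm_num)
  have hcand7 : sylowCandidates 7 60 = [1, 15] := by decide
  rw [hcand7] at hmem7
  simp only [List.mem_cons, List.not_mem_nil, or_false] at hmem7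
  have hn7 : Nat.card (Sylow 7 G) = 15 := by
    rcases hmem7 with h1 | h15
    · omega
    · exact h15
  obtain ⟨P7⟩ : Nonempty (Sylow 7 G) := inferInstance
  have hP7 : Nat.card (P7 : Subgroup G) = 7 := by
    have := card_sylow_eq_pow h7' hm7 P7
    rwa [pow_one] at this
  have hN7 : Nat.card (normalizer ((P7 : Subgroup G) : Set G)) = 28 := by
    have := card_normalizer_mul_card_sylow P7
    rw [hn7, h] at this
    omega
  obtain ⟨t, ht, ht7⟩ := exists_invol_of_even_centralizer (P7 : Subgroup G)
    (even_centralizer_of_card_normalizer_twentyeight (P7 : Subgroup G) hP7 hN7)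
  rw [hP7] at ht7
  -- the prime 5
  have h5' : Nat.card G = 5 ^ 1 * 84 := by rw [h]; norm_num
  have hm5 : ¬ 5 ∣ 84 := by norm_num
  have hmem5 := card_sylow_mem_candidates h5' hm5
  have hlt5 := one_lt_card_sylow_of_card h5' hm5 (by norm_num) (by norm_num)
  have hcand5 : sylowCandidates 5 84 = [1, 6, 21] := by decide
  rw [hcand5] at hmem5
  simp only [List.mem_cons, List.not_mem_nil, or_false] at hmem5
  have hn5 : Nat.card (Sylow 5 G) = 21 := by
    rcases hmem5 with h1 | h6 | h21
    · omega
    · have h2 := two_mul_card_dvd_factorial_card_sylow hG hlt5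
      rw [h, h6] at h2
      exact absurd h2 (by decide)
    · exact h21
  obtain ⟨P5⟩ : Nonempty (Sylow 5 G) := inferInstance
  have hP5 : Nat.card (P5 : Subgroup G) = 5 := by
    have := card_sylow_eq_pow h5' hm5 P5
    rwa [pow_one] at this
  have hN5 : Nat.card (normalizer ((P5 : Subgroup G) : Set G)) = 20 := by
    have := card_normalizer_mul_card_sylow P5
    rw [hn5, h] at this
    omega
  obtain ⟨u, hu, hu5⟩ := exists_invol_of_even_centralizer (P5 : Subgroup G)
    (even_centralizer_of_card_normalizer_twenty hklein (P5 : Subgroup G) hP5 hN5)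
  rw [hP5] at hu5
  -- conjugacy
  obtain ⟨g, hg⟩ := isConj_iff.mp (hconj t u ht hu)
  have hcard : Nat.card (centralizer ({u} : Set G)) = Nat.card (centralizer ({t} : Set G)) := by
    rw [← hg]; exact card_centralizer_conj g t
  rw [hcard] at hu5
  have h4t := h4 t ht
  have hdvdG : Nat.card (centralizer ({t} : Set G)) ∣ 420 := by
    rw [← h]; exact Subgroup.card_subgroup_dvd_card _
  have h140 : 140 ∣ Nat.card (centralizer ({t} : Set G)) := by
    have h35 : 35 ∣ Nat.card (centralizer ({t} : Set G)) :=
      Nat.Coprime.mul_dvd_of_dvd_of_dvd (by norm_num : Nat.Coprime 5 7) hu5 ht7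
    exact Nat.Coprime.mul_dvd_of_dvd_of_dvd (by norm_num : Nat.Coprime 4 35) h4t h35
  have hidx := Subgroup.card_mul_index (centralizer ({t} : Set G))
  rw [h] at hidx
  have hle3 : (centralizer ({t} : Set G)).index ≤ 3 := by
    obtain ⟨c, hc⟩ := h140
    rw [hc] at hidx
    have hcpos : 0 < c := by
      rcases Nat.eq_zero_or_pos c with h0 | h0
      · rw [h0] at hidx; omega
      · exact h0
    have : 140 * (centralizer ({t} : Set G)).index ≤ 420 := by
      calc 140 * (centralizer ({t} : Set G)).index
          ≤ 140 * c * (centralizer ({t} : Set G)).index := by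
            apply Nat.mul_le_mul_right
            exact Nat.le_mul_of_pos_right _ hcpos
        _ = 420 := hidx
    omega
  by_cases htop : centralizer ({t} : Set G) = ⊤
  · -- `t` is central
    have htc : t ∈ center G := by
      rw [Subgroup.mem_center_iff]
      intro x
      have hx : x ∈ centralizer ({t} : Set G) := by rw [htop]; trivial
      exact mem_centralizer_singleton_iff.mp hx
    rcases (inferInstance : (center G).Normal).eq_bot_or_eq_top with hb | hT
    · rw [hb, Subgroup.mem_bot] at htc
      rw [htc, orderOf_one] at ht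
      omega
    · apply hG
      refine ⟨⟨fun a b => ?_⟩⟩
      have ha : a ∈ center G := by rw [hT]; trivial
      exact ((Subgroup.mem_center_iff.mp ha) b).symm
  · have hfi := card_dvd_factorial_index _ htop
    rw [h] at hfi
    have hfi3 : 420 ∣ Nat.factorial 3 := hfi.trans (Nat.factorial_dvd_factorial hle3)
    exact absurd hfi3 (by decide)

end Cfsg.Agent.Lib.Helper31_SO_420MAIN
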