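import Mathlib
import Cfsg.Agent.Lib.Helper17_Sylow

/-!
# SO-900 (for S0496, architect helper76): no non-abelian simple group of order 900
-/

set_option autoImplicit false
open Subgroup

namespace Cfsg.Agent.Lib.Helper31_SO_900

open Cfsg.Agent.Lib.Helper17_Sylow

theorem no_simple_900 {G : Type*} [Group G] [Finite G] [IsSimpleGroup G]
    (hG : ¬ IsMulCommutative G) (h : Nat.card G = 900) : False := by
  have : Fact (Nat.Prime 5) := ⟨by norm_num⟩
  have h' : Nat.card G = 5 ^ 2 * 36 := by rw [h]; norm_num
  have hm : ¬ 5 ∣ 36 := by norm_num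
  have hmem := card_sylow_mem_candidates h' hm
  have hlt := one_lt_card_sylow_of_card h' hm (by norm_num) (by norm_num)
  have hcand : sylowCandidates 5 36 = [1, 6, 36] := by decide
  rw [hcand] at hmem
  simp only [List.mem_cons, List.not_mem_nil, or_false] at hmem
  rcases hmem with h1 | h6 | h36
  · omega
  · have h2 := two_mul_card_dvd_factorial_card_sylow hG hlt
    rw [h, h6] at h2
    revert h2
    decide
  · obtain ⟨P⟩ : Nonempty (Sylow 5 G) := inferInstance
    have hP : Nat.card (P : Subgroup G) = 5 ^ 2 := card_sylow_eq_pow h' hm P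
    have hN := card_normalizer_mul_card_sylow P
    rw [h36, h] at hN
    have hN25 : Nat.card (normalizer ((P : Subgroup G) : Set G)) = 25 := by omega
    have hNP : normalizer ((P : Subgroup G) : Set G) = (P : Subgroup G) := by
      symm
      apply Subgroup.eq_of_le_of_card_ge le_normalizer
      rw [hP, hN25]; norm_num
    have hcomm : ∀ a ∈ (P : Subgroup G), ∀ b ∈ (P : Subgroup G), a * b = b * a := by
      intro a ha b hb
      have hc := IsPGroup.isMulCommutative_of_card_eq_prime_sq (p := 5) (G := (P : Subgroup G)) hP
      exact congrArg Subtype.val (hc.is_comm.comm ⟨a, ha⟩ ⟨b, hb⟩)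
    have hNC : normalizer ((P : Subgroup G) : Set G) ≤ centralizer ((P : Subgroup G) : Set G) := by
      rw [hNP]
      intro x hx
      rw [Subgroup.mem_centralizer_iff]
      intro y hy
      exact hcomm y hy x hx
    rcases sylow_eq_bot_or_top_of_normalizer_le_centralizer P hNC with h2 | h2
    · rw [h2, Subgroup.card_bot] at hP
      omega
    · rw [h2, Subgroup.card_top, h] at hP
      omega

end Cfsg.Agent.Lib.Helper31_SO_900
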