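import Mathlib
import Cfsg.Agent.Lib.Helper17_Sylow

/-!
# SO-960 (for S0496, architect helper76): no non-abelian simple group of order 960
-/

set_option autoImplicit false
open Subgroup

namespace Cfsg.Agent.Lib.Helper31_SO_960

open Cfsg.Agent.Lib.Helper17_Sylow

theorem no_simple_960 {G : Type*} [Group G] [Finite G] [IsSimpleGroup G]
    (hG : ¬ IsMulCommutative G) (h : Nat.card G = 960) : False := by
  have : Fact (Nat.Prime 2) := ⟨Nat.prime_two⟩
  have h' : Nat.card G = 2 ^ 6 * 15 := by rw [h]; norm_num
  have hm : ¬ 2 ∣ 15 := by norm_num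
  have hmem := card_sylow_mem_candidates h' hm
  have hlt := one_lt_card_sylow_of_card h' hm (by norm_num) (by norm_num)
  have hcand : sylowCandidates 2 15 = [1, 3, 5, 15] := by decide
  rw [hcand] at hmem
  simp only [List.mem_cons, List.not_mem_nil, or_false] at hmem
  have hfac := two_mul_card_dvd_factorial_card_sylow hG hlt
  rw [h] at hfac
  have h15 : Nat.card (Sylow 2 G) = 15 := by
    rcases hmem with h1 | h3 | h5 | h15
    · omega
    · rw [h3] at hfac; exact absurd hfac (by decide)
    · rw [h5] at hfac; exact absurd hfac (by decide)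
    · exact h15
  obtain ⟨P⟩ : Nonempty (Sylow 2 G) := inferInstance
  have hmod : ¬ Nat.card (Sylow 2 G) ≡ 1 [MOD 2 ^ 2] := by
    rw [h15]; decide
  obtain ⟨R, hRP, hrel⟩ := exists_sylow_relIndex_le 2 2 hmod P
  have hP : Nat.card (P : Subgroup G) = 2 ^ 6 := card_sylow_eq_pow h' hm P
  have hR : Nat.card (R : Subgroup G) = 2 ^ 6 := card_sylow_eq_pow h' hm R
  set D : Subgroup G := (R : Subgroup G) ⊓ (P : Subgroup G) with hD
  have hDP : D ≤ (P : Subgroup G) := inf_le_right
  have hDR : D ≤ (R : Subgroup G) := inf_le_left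
  have hrelD : D.relIndex (P : Subgroup G) = (R : Subgroup G).relIndex (P : Subgroup G) :=
    Subgroup.inf_relIndex_right _ _
  have hc1 := card_mul_relIndex_of_le hDP
  have hc2 := card_mul_relIndex_of_le hDR
  rw [hP] at hc1
  rw [hR] at hc2
  have hpos : 0 < (R : Subgroup G).relIndex (P : Subgroup G) := by
    rcases Nat.eq_zero_or_pos ((R : Subgroup G).relIndex (P : Subgroup G)) with h0 | h0
    · rw [hrelD, h0, mul_zero] at hc1
      norm_num at hc1
    · exact h0
  have hne1 : (R : Subgroup G).relIndex (P : Subgroup G) ≠ 1 := by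
    intro h1
    apply hRP
    have hle : (P : Subgroup G) ≤ (R : Subgroup G) := Subgroup.relIndex_eq_one.mp h1
    have heq : (P : Subgroup G) = (R : Subgroup G) := by
      apply Subgroup.eq_of_le_of_card_ge hle
      rw [hP, hR]
    exact (Sylow.ext heq).symm
  have hrel2 : D.relIndex (P : Subgroup G) = 2 := by
    rw [hrelD]
    norm_num at hrel
    omega
  rw [hrel2] at hc1
  have hDcard : Nat.card D = 32 := by omega
  have hrelR2 : D.relIndex (R : Subgroup G) = 2 := by
    rw [hDcard] at hc2
    omega
  have hPN : (P : Subgroup G) ≤ normalizer (D : Set G) :=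
    le_normalizer_of_relIndex_eq_prime (P : Subgroup G) D P.2 hDP hrel2
  have hRN : (R : Subgroup G) ≤ normalizer (D : Set G) :=
    le_normalizer_of_relIndex_eq_prime (R : Subgroup G) D R.2 hDR hrelR2
  obtain ⟨n, hn3, hnmod, hndvd⟩ := succ_mul_card_sylow_le_card P R (Ne.symm hRP) _ hPN hRN
  rw [hP] at hndvd
  have hNdvd : Nat.card (normalizer (D : Set G)) ∣ 960 := by
    rw [← h]
    exact Subgroup.card_subgroup_dvd_card _
  have hidx := Subgroup.card_mul_index (normalizer (D : Set G))
  rw [h] at hidx
  by_cases htop : normalizer (D : Set G) = ⊤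
  · have hDn : D.Normal := Subgroup.normalizer_eq_top_iff.mp htop
    rcases hDn.eq_bot_or_eq_top with hb | ht
    · rw [hb, Subgroup.card_bot] at hDcard
      omega
    · rw [ht, Subgroup.card_top, h] at hDcard
      omega
  · have hfi := card_dvd_factorial_index _ htop
    rw [h] at hfi
    -- the index of N(D) is at most 5
    obtain ⟨c, hc⟩ := hndvd
    have hle5 : (normalizer (D : Set G)).index ≤ 5 := by
      have hn3' : 3 ≤ n := by omega
      have hcpos : 0 < c := by
        rcases Nat.eq_zero_or_pos c with h0 | h0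
        · rw [h0, mul_zero] at hc
          rw [hc, zero_mul] at hidx
          omega
        · exact h0
      rw [hc] at hidx
      have h64 : 3 * 2 ^ 6 * (normalizer (D : Set G)).index ≤ 960 := by
        calc 3 * 2 ^ 6 * (normalizer (D : Set G)).index
            ≤ n * 2 ^ 6 * c * (normalizer (D : Set G)).index := by
              apply Nat.mul_le_mul_right
              calc 3 * 2 ^ 6 ≤ n * 2 ^ 6 := Nat.mul_le_mul_right _ hn3'
                _ = n * 2 ^ 6 * 1 := (mul_one _).symm
                _ ≤ n * 2 ^ 6 * c := Nat.mul_le_mul_left _ hcpos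
          _ = 960 := hidx
      omega
    have hfi5 : 960 ∣ Nat.factorial 5 :=
      hfi.trans (Nat.factorial_dvd_factorial hle5)
    exact absurd hfi5 (by decide)

end Cfsg.Agent.Lib.Helper31_SO_960
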