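import Mathlib
import Cfsg.Agent.Lib.Helper17_Sylow
import Cfsg.Agent.S0989
import Cfsg.Agent.S0990

/-!
# SO-NPLUS1 (for S0496, architect helper76): `n_p = p + 1` forces `2 |N(P)| ∣ p (p - 1)`
-/

set_option autoImplicit false
open Subgroup

namespace Cfsg.Agent.Lib.Helper31_SO_NPLUS1

open Cfsg.Agent.Lib.Helper17_Sylow

theorem card_normalizer_dvd_of_card_sylow_eq_succ {G : Type*} [Group G] [Finite G]
    [IsSimpleGroup G] (hG : ¬ IsMulCommutative G) (p : ℕ) [Fact p.Prime] (hp2 : p ≠ 2)
    (P : Sylow p G) (hP : Nat.card (P : Subgroup G) = p)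
    (hn : Nat.card (Sylow p G) = p + 1) :
    2 * Nat.card (normalizer ((P : Subgroup G) : Set G)) ∣ p * (p - 1) := by
  classical
  have hp : p.Prime := Fact.out
  have hppos : 0 < p := hp.pos
  set N : Subgroup G := normalizer ((P : Subgroup G) : Set G) with hN
  have hidx : N.index = p + 1 := by rw [← hn, card_sylow_eq_index P]
  have hNtop : N ≠ ⊤ := by
    apply normalizer_sylow_ne_top P
    rw [hn]; omega
  obtain ⟨f, hf⟩ := exists_embedding_alternating hG N hNtop
  have hα : Fintype.card (Fin N.index) = p ∨ Fintype.card (Fin N.index) = p + 1 := by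
    right; rw [Fintype.card_fin, hidx]
  have hα2 : 2 ≤ Fintype.card (Fin N.index) := by
    rw [Fintype.card_fin, hidx]; omega
  -- the image of `P` in the symmetric group
  have hsi : Function.Injective (alternatingGroup (Fin N.index)).subtype :=
    (alternatingGroup (Fin N.index)).subtype_injective
  set Q0 : Subgroup (Equiv.Perm (Fin N.index)) :=
    ((P : Subgroup G).map f).map (alternatingGroup (Fin N.index)).subtype with hQ0
  have hQ0card : Nat.card Q0 = p := by
    rw [hQ0, Subgroup.card_map_of_injective hsi, Subgroup.card_map_of_injective hf, hP]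
  have hQ0p : IsPGroup p Q0 := IsPGroup.of_card (n := 1) (by rw [hQ0card, pow_one])
  obtain ⟨Q, hQ0Q⟩ := hQ0p.exists_le_sylow
  have hQcard : Nat.card (Q : Subgroup (Equiv.Perm (Fin N.index))) = p :=
    Cfsg.Agent.S0989.card_sylow_perm p hα Q
  have hQeq : Q0 = (Q : Subgroup (Equiv.Perm (Fin N.index))) := by
    apply Subgroup.eq_of_le_of_card_ge hQ0Q
    rw [hQcard, hQ0card]
  have h989 := Cfsg.Agent.S0989.result p hα Q
  obtain ⟨-, h990⟩ := Cfsg.Agent.S0990.result hα2 p hp2 Q
  rw [h989] at h990
  have hsub : (Q : Subgroup (Equiv.Perm (Fin N.index))).subgroupOf (alternatingGroup (Fin N.index))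
      = (P : Subgroup G).map f := by
    rw [← hQeq, hQ0]
    exact Subgroup.comap_map_eq_self_of_injective hsi _
  rw [hsub] at h990
  have hle : N.map f ≤ normalizer
      (((P : Subgroup G).map f : Subgroup (alternatingGroup (Fin N.index))) :
        Set (alternatingGroup (Fin N.index))) :=
    Subgroup.le_normalizer_map f
  have hdvd : Nat.card N ∣ Nat.card (normalizer
      (((P : Subgroup G).map f : Subgroup (alternatingGroup (Fin N.index))) :
        Set (alternatingGroup (Fin N.index)))) := by
    rw [← Subgroup.card_map_of_injective (K := N) hf]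
    exact Subgroup.card_dvd_of_le hle
  rw [← h990]
  exact Nat.mul_dvd_mul_left 2 hdvd

end Cfsg.Agent.Lib.Helper31_SO_NPLUS1
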