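import Mathlib

set_option autoImplicit false

/-!
Definitions for S5953/S5954 (prime-order elements of `PSU_n(q)`): the dimension of the minimal
nondegenerate invariant subspaces of an element of odd prime order `r ≠ p`.
-/

namespace Cfsg.Agent.Lib.Helper99_SUNDDefs

/-- the order of `-q` modulo `r`, in terms of `i = ord_r(q)`: `i`, `i / 2`, `2 i` according as
`i ≡ 0`, `i ≡ 2 (mod 4)`, `i` odd. -/
noncomputable def uAtomDim (q r : ℕ) : ℕ :=
  if orderOf ((q : ℕ) : ZMod r) % 4 = 0 then orderOf ((q : ℕ) : ZMod r)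
  else if orderOf ((q : ℕ) : ZMod r) % 4 = 2 then orderOf ((q : ℕ) : ZMod r) / 2
  else 2 * orderOf ((q : ℕ) : ZMod r)

theorem uAtomDim_def (q r : ℕ) : uAtomDim q r =
    if orderOf ((q : ℕ) : ZMod r) % 4 = 0 then orderOf ((q : ℕ) : ZMod r)
    else if orderOf ((q : ℕ) : ZMod r) % 4 = 2 then orderOf ((q : ℕ) : ZMod r) / 2
    else 2 * orderOf ((q : ℕ) : ZMod r) := rfl

theorem uAtomDim_pos {q r : ℕ} (h : 0 < orderOf ((q : ℕ) : ZMod r)) : 0 < uAtomDim q r := by
  unfold uAtomDim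
  split_ifs <;> omega

end Cfsg.Agent.Lib.Helper99_SUNDDefs
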