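import Mathlib
import Cfsg.Prelude.Def_Classical
import Cfsg.Agent.Lib.Helper99_SUNDDefs
import Cfsg.Agent.Lib.Helper40_UCases
import Cfsg.Agent.Lib.Helper40_UMatrix
import Cfsg.Agent.Lib.Helper40_UExistMatrix
import Cfsg.Agent.Lib.Helper40_UPrimeOrder
import Cfsg.Agent.Lib.Helper94_HermBridge
import Cfsg.Agent.Lib.Helper13_GU
import Cfsg.Agent.Lib.Helper99_PrimeOrderSL

/-!
# Elements of `SU_n(q)` of odd prime order `r` with a prescribed number of atoms
(package S5954-UD2-PU3 of helper99; port of `Helper99_SpElt.exists_elt` to the unitary series) — helper31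
-/

set_option autoImplicit false
set_option linter.unusedSectionVars false
set_option linter.unusedVariables false

namespace Cfsg.Agent.Lib.Helper31_SUND_PU3

open Polynomial Module Matrix
open Cfsg.Agent.Lib.Helper40_SpBasic Cfsg.Agent.Lib.Helper40_UBasic Cfsg.Agent.Lib.Helper99_SUNDDefs
  Cfsg.Agent.Lib.Helper40_Palindromic Cfsg.Agent.Lib.Helper40_SpExist
  Cfsg.Agent.Lib.Helper40_SpPrimeOrder Cfsg.Agent.Lib.Helper40_PolyFactors
  Cfsg.Agent.Lib.Helper40_PrimeOrderClasses Cfsg.Agent.Lib.Helper40_UExist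
  Cfsg.Agent.Lib.Helper40_UPrimeOrder Cfsg.Agent.Lib.Helper40_UExistMatrix
  Cfsg.Agent.Lib.Helper94_Herm Cfsg.Agent.Lib.Helper94_HermBridge
  Cfsg.Agent.Lib.Helper99_PrimeOrderSL

universe u

variable {K : Type u} [Field K] [Fintype K] {p : ℕ} [Fact p.Prime] [CharP K p] {q r : ℕ}

theorem gcd_two_of_even {i : ℕ} (h : i % 2 = 0) : Nat.gcd i 2 = 2 :=
  Nat.gcd_eq_right (Nat.dvd_of_mod_eq_zero h)

theorem gcd_two_of_odd {i : ℕ} (h : i % 2 = 1) : Nat.gcd i 2 = 1 := by
  have h1 : Nat.gcd i 2 ∣ 2 := Nat.gcd_dvd_right i 2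
  have h2 : Nat.gcd i 2 ∣ i := Nat.gcd_dvd_left i 2
  rcases (Nat.dvd_prime Nat.prime_two).1 h1 with h3 | h3
  · exact h3
  · rw [h3] at h2
    omega

/-- a self-dual factor of `X ^ r - 1` of degree `uAtomDim q r` -/
theorem exists_uatom_poly (hK : Fintype.card K = q ^ 2) {σ : K →+* K} (hσq : ∀ x, σ x = x ^ q)
    (hσ : Invol σ) (hr : r.Prime) (hr2 : r ≠ 2) (hrp : r ≠ p) :
    ∃ g : K[X], g.Monic ∧ g.natDegree = uAtomDim q r ∧ udual σ g = g ∧ g ∣ X ^ r - 1 ∧
      g.eval 1 ≠ 0 := by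
  classical
  obtain ⟨hipos, W, hWcard, hW1, -⟩ := exists_cyclotomic_factors (F := K) p r hr hrp
  set i' := orderOf ((Fintype.card K : ℕ) : ZMod r) with hi'
  set i := orderOf ((q : ℕ) : ZMod r) with hi
  have hii : i' = i / Nat.gcd i 2 := by
    rw [hi', hK, Nat.cast_pow, orderOf_pow' _ two_ne_zero]
  have hq0 : ((Fintype.card K : ℕ) : ZMod r) ≠ 0 := by
    rw [Ne, ZMod.natCast_eq_zero_iff]
    intro h
    have hp : p.Prime := Fact.out
    obtain ⟨k, -, hk⟩ := FiniteField.card K p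
    rw [hk] at h
    exact hrp ((Nat.prime_dvd_prime_iff_eq hr hp).1 (hr.dvd_of_dvd_pow h))
  have : Fact r.Prime := ⟨hr⟩
  have hedvd : i' ∣ r - 1 := ZMod.orderOf_dvd_card_sub_one hq0
  have hpos : 0 < r - 1 := by have := hr.two_le; omega
  have hWpos : 0 < W.card := by
    rw [hWcard]
    exact Nat.div_pos (Nat.le_of_dvd hpos hedvd) hipos
  obtain ⟨w, hwW⟩ := Finset.card_pos.1 hWpos
  obtain ⟨hwm, hwi, hw1, hwd, hwdeg⟩ := hW1 w hwW
  have hw0 : w.coeff 0 ≠ 0 := coeff_zero_ne_zero_of_dvd r hr.pos w hwd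
  have hw11 : w.eval 1 ≠ 0 := eval_one_ne_zero w hwm hwi hw1
  by_cases h42 : i % 4 = 2
  · have hd : udual σ w = w := udual_eq_of_mod4 σ p hK hσq r i hr hi h42 w hwm hwi hw1 hwd
    refine ⟨w, hwm, ?_, hd, hwd, hw11⟩
    rw [hwdeg, hii, gcd_two_of_even (by omega), uAtomDim_def, ← hi, if_neg (by omega), if_pos h42]
  · have hne : udual σ w ≠ w := fun hd =>
      h42 (mod4_of_udual_eq σ p hK hσq hσ.ne_id r i hr hr2 hi w hwm hwi hw1 hwd hd)
    have hum : (udual σ w).Monic := udual_monic σ w hw0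
    have hui : Irreducible (udual σ w) := udual_irreducible σ hσ.invol w hwi hw0
    have hud : udual σ w ∣ X ^ r - 1 := by
      have := udual_dvd σ hwd
      rwa [udual_X_pow_sub_one σ r hr.pos] at this
    have hcop : IsCoprime w (udual σ w) :=
      isCoprime_of_monic_irreducible_ne hwi hwm hui hum (Ne.symm hne)
    have hu1 : udual σ w ≠ X - 1 := by
      intro h
      apply hw1
      have h2 := congrArg (udual σ) h
      rwa [udual_udual σ hσ.invol w hwm hw0, udual_X_sub_one] at h2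
    refine ⟨w * udual σ w, hwm.mul hum, ?_, ?_, hcop.mul_dvd hwd hud, ?_⟩
    · rw [hwm.natDegree_mul hum, udual_natDegree σ w hw0, hwdeg, hii, uAtomDim_def, ← hi]
      by_cases h40 : i % 4 = 0
      · rw [if_pos h40, gcd_two_of_even (by omega)]
        omega
      · rw [if_neg h40, if_neg h42, gcd_two_of_odd (by omega), Nat.div_one]
        omega
    · rw [udual_mul, udual_udual σ hσ.invol w hwm hw0, mul_comm]
    · rw [eval_mul]
      exact mul_ne_zero hw11 (eval_one_ne_zero (udual σ w) hum hui hu1)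

/-- `r` odd with `ord_r(q) ≠ 2` does not divide `q + 1` -/
theorem not_dvd_succ (hr : r.Prime) (hr2 : r ≠ 2) (hi2 : orderOf ((q : ℕ) : ZMod r) ≠ 2) :
    ¬ r ∣ q + 1 := by
  intro hdvd
  have : Fact r.Prime := ⟨hr⟩
  have h1 : ((q : ℕ) : ZMod r) = -1 := by
    have h2 : (((q + 1 : ℕ)) : ZMod r) = 0 := (ZMod.natCast_eq_zero_iff _ _).2 hdvd
    rw [Nat.cast_add, Nat.cast_one] at h2
    exact eq_neg_of_add_eq_zero_left h2
  apply hi2
  rw [h1]
  have hne : (-1 : ZMod r) ≠ 1 := by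
    intro h
    have h3 : ((2 : ℕ) : ZMod r) = 0 := by
      have : (1 : ZMod r) + 1 = 0 := by
        nth_rewrite 1 [← h]
        exact neg_add_cancel 1
      rw [Nat.cast_ofNat, ← one_add_one_eq_two]
      exact this
    rw [ZMod.natCast_eq_zero_iff] at h3
    exact hr2 ((Nat.prime_dvd_prime_iff_eq hr Nat.prime_two).1 h3)
  exact orderOf_eq_prime (by rw [neg_one_sq]) hne

/-- PU3: elements of `SU_n(q)` of order `r` with a prescribed number of atoms (port of `Helper99_SpElt.exists_elt`). -/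
theorem PU3 {K : Type u} [Field K] [Fintype K] {p : ℕ} [Fact p.Prime] [CharP K p] {q : ℕ}
    (hK : Fintype.card K = q ^ 2) (n : ℕ) {r : ℕ} (hr : r.Prime) (hr2 : r ≠ 2) (hrp : r ≠ p)
    (hi2 : orderOf ((q : ℕ) : ZMod r) ≠ 2) (t : ℕ) (ht : uAtomDim q r * t ≤ n) :
    ∃ A : Matrix (Fin n) (Fin n) K,
      (∀ u v, Cfsg.hermForm n K q (A *ᵥ u) (A *ᵥ v) = Cfsg.hermForm n K q u v) ∧ A.det = 1 ∧ A ^ r = 1 ∧
      finrank K (Module.End.eigenspace (Matrix.toLin' A : Module.End K (Fin n → K)) 1) = n - uAtomDim q r * t := by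
  classical
  obtain ⟨σ, hσq, hσ⟩ := exists_frob hK
  obtain ⟨g, hgm, hgdeg, hgd, hgdvd, hg1⟩ := exists_uatom_poly (p := p) hK hσq hσ hr hr2 hrp
  set c := uAtomDim q r with hc
  set m := n - c * t with hm
  have hX1 : ((X : K[X]) - 1) = X - C 1 := by rw [map_one]
  have hX1m : ((X : K[X]) - 1).Monic := by rw [hX1]; exact monic_X_sub_C 1
  set f : K[X] := (X - 1) ^ m * g ^ t with hf
  have hfm : f.Monic := (hX1m.pow m).mul (hgm.pow t)
  have hfdeg : f.natDegree = n := by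
    rw [hf, (hX1m.pow m).natDegree_mul (hgm.pow t), hX1m.natDegree_pow, hgm.natDegree_pow, hX1,
      natDegree_X_sub_C, hgdeg, mul_one]
    have h1 : t * c = c * t := mul_comm t c
    omega
  have hfd : udual σ f = f := by
    rw [hf, udual_mul, udual_pow, udual_pow, udual_X_sub_one, hgd]
  obtain ⟨A, hA, hch, hk⟩ := exists_GU_matrix σ hσq hσ n f hfm hfdeg hfd
  have hX1d : ((X : K[X]) - 1) ∣ X ^ r - 1 := by
    have := sub_dvd_pow_sub_pow (X : K[X]) 1 r
    rwa [one_pow] at this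
  have hAr : A ^ r = 1 := by
    have h1 := hk (X ^ r - 1) (by
      intro g' hg' hgf
      rw [hf] at hgf
      rcases hg'.prime.dvd_or_dvd hgf with h | h
      · exact (hg'.prime.dvd_of_dvd_pow h).trans hX1d
      · exact (hg'.prime.dvd_of_dvd_pow h).trans hgdvd)
    rw [map_sub, map_pow, aeval_X, map_one, sub_eq_zero] at h1
    exact h1
  refine ⟨A, hA, ?_, hAr, ?_⟩
  · -- the determinant
    have hr1 : r - 1 + 1 = r := by have := hr.two_le; omega
    let gA : GL (Fin n) K := ⟨A, A ^ (r - 1), by rw [← pow_succ', hr1, hAr],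
      by rw [← pow_succ, hr1, hAr]⟩
    have hgA : gA ∈ Cfsg.GU n K q := (Cfsg.Agent.Lib.Helper13_GU.mem_GU_iff gA).2 hA
    have h1 : A.det ^ (q + 1) = 1 := Cfsg.Agent.Lib.Helper13_GU.det_pow_eq_one hK gA hgA
    have h2 : A.det ^ r = 1 := by rw [← Matrix.det_pow, hAr, Matrix.det_one]
    have h3 : orderOf A.det ∣ Nat.gcd r (q + 1) :=
      Nat.dvd_gcd (orderOf_dvd_of_pow_eq_one h2) (orderOf_dvd_of_pow_eq_one h1)
    have h4 : Nat.gcd r (q + 1) = 1 :=
      (Nat.Prime.coprime_iff_not_dvd hr).2 (not_dvd_succ hr hr2 hi2)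
    rw [h4, Nat.dvd_one, orderOf_eq_one_iff] at h3
    exact h3
  · set T : Module.End K (Fin n → K) := Matrix.toLin' A with hT
    have hTr : T ^ r = 1 := by
      rw [hT, ← Matrix.toLin'_pow, hAr, Matrix.toLin'_one]
      rfl
    have hrF : ((r : ℕ) : K) ≠ 0 := natCast_ne_zero hr hrp
    have hss : T.IsSemisimple := isSemisimple_of_pow_eq_one T r hrF hTr
    rw [← hss.isFinitelySemisimple.maxGenEigenspace_eq_eigenspace,
      LinearMap.finrank_maxGenEigenspace_eq, hT, Matrix.charpoly_toLin', hch, hf,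
      rootMultiplicity_mul (by rw [← hf]; exact hfm.ne_zero), hX1, rootMultiplicity_X_sub_C_pow,
      rootMultiplicity_eq_zero, add_zero]
    rw [IsRoot.def, eval_pow]
    exact pow_ne_zero _ hg1

end Cfsg.Agent.Lib.Helper31_SUND_PU3
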