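import Mathlib
import Cfsg.Prelude.Def_Transfer
import Cfsg.Prelude.Def_Solvable
import Cfsg.Agent.Lib.Helper49_SlimDefs
import Cfsg.Agent.Lib.Helper1_Hall

/-!
# S4409 package Slim-NORMH (helper31, architect helper49)

A Hall `2'`-subgroup of a finite solvable group (complement of a Sylow `2`-subgroup), from
`Helper1_Hall.hall_exists`.
-/

set_option autoImplicit false

namespace Cfsg.Agent.Lib.Helper31_Slim_NORMH

open Subgroup Cfsg.Agent.Lib.Helper49_SlimDefs
open scoped commutatorElement

variable {S : Type*} [Group S] [Finite S]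

theorem exists_hall [Group.IsSolvable S] (X : Sylow 2 S) :
    ∃ H : Subgroup S, (Nat.card ↥H).Coprime 2 ∧ Nat.card ↥H * Nat.card ↥(X : Subgroup S) = Nat.card S := by
  have : Fact (Nat.Prime 2) := ⟨Nat.prime_two⟩
  have hidx : (X : Subgroup S).index * Nat.card ↥(X : Subgroup S) = Nat.card S :=
    Subgroup.index_mul_card _
  have hcop : ((X : Subgroup S).index).Coprime (Nat.card ↥(X : Subgroup S)) :=
    (X.card_coprime_index).symm
  obtain ⟨H, hH⟩ := Cfsg.Agent.Lib.Helper1_Hall.hall_exists _ _ hidx.symm hcop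
  refine ⟨H, ?_, by rw [hH, hidx]⟩
  rw [hH]
  exact ((Nat.Prime.coprime_iff_not_dvd Nat.prime_two).mpr X.not_dvd_index).symm

end Cfsg.Agent.Lib.Helper31_Slim_NORMH
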