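import Mathlib
import Cfsg.Prelude.Def_GeometricClasses
import Cfsg.Agent.Lib.Helper13_SpExtDefs

/-!
# Self-adjoint `4 × 4` matrices with the same non-square square are `Sp_4`-conjugate
(package QF1 of helper13 for S5975) — helper31
-/

set_option autoImplicit false
set_option linter.unusedSimpArgs false
set_option linter.unusedVariables false

namespace Cfsg.Agent.Lib.Helper31_SpExt_QF1

open Matrix Cfsg.Agent.Lib.Helper13_Symp Cfsg.Agent.Lib.Helper13_GUSpDefs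
  Cfsg.Agent.Lib.Helper13_SpExtDefs

variable {F : Type*} [Field F]

/-- the standard self-adjoint matrix with square `Δ` -/
def theta0 (Δ : F) : Matrix (Fin 2 ⊕ Fin 2) (Fin 2 ⊕ Fin 2) F :=
  fromBlocks !![0, 1; Δ, 0] 0 0 !![0, Δ; 1, 0]

/-- the entries of `Aᵀ J A` are the values of the form on the columns of `A` -/
theorem gram_apply (d : ℕ) (A : Matrix (Fin d ⊕ Fin d) (Fin d ⊕ Fin d) F) (i j : Fin d ⊕ Fin d) :
    (Aᵀ * J (Fin d) F * A) i j = Cfsg.sympForm d F (fun k => A k i) (fun k => A k j) := by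
  rw [Matrix.mul_assoc]
  rfl

theorem std_form (h2 : (2 : F) ≠ 0) (Δ : F) (hΔ : ¬ IsSquare Δ)
    (θ : Matrix (Fin 2 ⊕ Fin 2) (Fin 2 ⊕ Fin 2) F)
    (hθ : θ * θ = Δ • (1 : Matrix (Fin 2 ⊕ Fin 2) (Fin 2 ⊕ Fin 2) F)) (hs : IsSelfAdj 2 θ) :
    ∃ P : Matrix (Fin 2 ⊕ Fin 2) (Fin 2 ⊕ Fin 2) F, P ∈ symplecticGroup (Fin 2) F ∧
      P * theta0 Δ = θ * P := by
  have hθθ : ∀ v : Fin 2 ⊕ Fin 2 → F, θ *ᵥ (θ *ᵥ v) = Δ • v := by
    intro v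
    rw [Matrix.mulVec_mulVec, hθ, Matrix.smul_mulVec, Matrix.one_mulVec]
  have halt : ∀ v, Cfsg.sympForm 2 F (θ *ᵥ v) v = 0 := hs.alt h2
  have hsw := sympForm_swap (F := F) 2
  -- the first two vectors
  obtain ⟨u₁, w, hu₁w⟩ : ∃ u₁ w : Fin 2 ⊕ Fin 2 → F, Cfsg.sympForm 2 F u₁ w = 1 := by
    refine ⟨Pi.single (Sum.inl 0) 1, Pi.single (Sum.inr 0) (-1), ?_⟩
    rw [sympForm_eq]
    simp [Fin.sum_univ_two]
  set c := Cfsg.sympForm 2 F u₁ (θ *ᵥ w) with hc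
  have hne : Δ - c * c ≠ 0 := by
    intro h
    exact hΔ ⟨c, (sub_eq_zero.1 h)⟩
  set u₂ : Fin 2 ⊕ Fin 2 → F := (Δ - c * c)⁻¹ • (θ *ᵥ w - c • w) with hu₂
  have hθu₂ : θ *ᵥ u₂ = (Δ - c * c)⁻¹ • (Δ • w - c • (θ *ᵥ w)) := by
    rw [hu₂, Matrix.mulVec_smul, Matrix.mulVec_sub, hθθ, Matrix.mulVec_smul]
  have F1 : Cfsg.sympForm 2 F u₁ u₂ = 0 := by
    rw [hu₂, sympForm_smul_right, sympForm_sub_right, sympForm_smul_right, hu₁w, ← hc]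
    ring
  have F2 : Cfsg.sympForm 2 F u₁ (θ *ᵥ u₂) = 1 := by
    rw [hθu₂, sympForm_smul_right, sympForm_sub_right, sympForm_smul_right, sympForm_smul_right,
      hu₁w, ← hc, mul_one]
    exact inv_mul_cancel₀ hne
  -- the Gram values
  have g01 : Cfsg.sympForm 2 F (θ *ᵥ u₂) u₂ = 0 := halt u₂
  have g0a : Cfsg.sympForm 2 F (θ *ᵥ u₂) u₁ = -1 := by rw [hsw, F2]
  have g0b : Cfsg.sympForm 2 F (θ *ᵥ u₂) (θ *ᵥ u₁) = 0 := by
    rw [hs, hθθ, sympForm_smul_right, hsw, F1]; ring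
  have g1a : Cfsg.sympForm 2 F u₂ u₁ = 0 := by rw [hsw, F1, neg_zero]
  have g1b : Cfsg.sympForm 2 F u₂ (θ *ᵥ u₁) = -1 := by rw [← hs, hsw, F2]
  have gab : Cfsg.sympForm 2 F u₁ (θ *ᵥ u₁) = 0 := by rw [hsw, halt, neg_zero]
  have g10 : Cfsg.sympForm 2 F u₂ (θ *ᵥ u₂) = 0 := by rw [hsw, g01, neg_zero]
  have ga0 : Cfsg.sympForm 2 F u₁ (θ *ᵥ u₂) = 1 := F2
  have gb0 : Cfsg.sympForm 2 F (θ *ᵥ u₁) (θ *ᵥ u₂) = 0 := by rw [hsw, g0b, neg_zero]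
  have ga1 : Cfsg.sympForm 2 F u₁ u₂ = 0 := F1
  have gb1 : Cfsg.sympForm 2 F (θ *ᵥ u₁) u₂ = 1 := by rw [hsw, g1b, neg_neg]
  have gba : Cfsg.sympForm 2 F (θ *ᵥ u₁) u₁ = 0 := halt u₁
  have gself := sympForm_self (F := F) 2
  -- the matrix
  let b : Fin 2 ⊕ Fin 2 → (Fin 2 ⊕ Fin 2 → F) := Sum.elim ![θ *ᵥ u₂, u₂] ![u₁, θ *ᵥ u₁]
  let P : Matrix (Fin 2 ⊕ Fin 2) (Fin 2 ⊕ Fin 2) F := Matrix.of fun k j => b j k
  have hcol : ∀ j, (fun k => P k j) = b j := fun j => rfl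
  refine ⟨P, ?_, ?_⟩
  · rw [SymplecticGroup.mem_iff']
    ext i j
    rw [gram_apply, hcol, hcol]
    rcases i with i | i <;> rcases j with j | j <;> fin_cases i <;> fin_cases j <;>
      simp [b, Matrix.J, g01, g0a, g0b, g1a, g1b, gab, g10, ga0, gb0, ga1, gb1, gba, gself]
  · ext k j
    have h1 : (θ * P) k j = (θ *ᵥ b j) k := rfl
    rw [h1, Matrix.mul_apply, Fintype.sum_sum_type, Fin.sum_univ_two, Fin.sum_univ_two]
    rcases j with j | j <;> fin_cases j <;>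
      simp [P, b, theta0, hθθ]
    all_goals ring

/-- QF1: two self-adjoint `4 × 4` matrices with the same non-square scalar square are conjugate
under `Sp_4` -/
theorem QF1 {F : Type*} [Field F] [Fintype F] (h2 : (2 : F) ≠ 0) (Δ : F) (hΔ : ¬ IsSquare Δ)
    (θ θ' : Matrix (Fin 2 ⊕ Fin 2) (Fin 2 ⊕ Fin 2) F)
    (hθ : θ * θ = Δ • (1 : Matrix (Fin 2 ⊕ Fin 2) (Fin 2 ⊕ Fin 2) F))
    (hθ' : θ' * θ' = Δ • (1 : Matrix (Fin 2 ⊕ Fin 2) (Fin 2 ⊕ Fin 2) F))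
    (hs : IsSelfAdj 2 θ) (hs' : IsSelfAdj 2 θ') :
    ∃ P : Matrix (Fin 2 ⊕ Fin 2) (Fin 2 ⊕ Fin 2) F, P ∈ symplecticGroup (Fin 2) F ∧ P * θ = θ' * P := by
  obtain ⟨P₁, hP₁, h1⟩ := std_form h2 Δ hΔ θ hθ hs
  obtain ⟨P₂, hP₂, h2'⟩ := std_form h2 Δ hΔ θ' hθ' hs'
  -- the inverse of `P₁` inside the symplectic group
  let a : symplecticGroup (Fin 2) F := ⟨P₁, hP₁⟩
  have hQP : (a⁻¹ : symplecticGroup (Fin 2) F).1 * P₁ = 1 := by
    have h := inv_mul_cancel a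
    exact congrArg Subtype.val h
  have hPQ : P₁ * (a⁻¹ : symplecticGroup (Fin 2) F).1 = 1 := by
    have h := mul_inv_cancel a
    exact congrArg Subtype.val h
  refine ⟨P₂ * (a⁻¹ : symplecticGroup (Fin 2) F).1,
    (symplecticGroup (Fin 2) F).mul_mem hP₂ (a⁻¹ : symplecticGroup (Fin 2) F).2, ?_⟩
  -- `θ₀ Q = Q θ`
  have h3 : theta0 Δ * (a⁻¹ : symplecticGroup (Fin 2) F).1 =
      (a⁻¹ : symplecticGroup (Fin 2) F).1 * θ := by
    calc theta0 Δ * (a⁻¹ : symplecticGroup (Fin 2) F).1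
        = ((a⁻¹ : symplecticGroup (Fin 2) F).1 * P₁) * theta0 Δ *
            (a⁻¹ : symplecticGroup (Fin 2) F).1 := by rw [hQP, Matrix.one_mul]
      _ = (a⁻¹ : symplecticGroup (Fin 2) F).1 * (P₁ * theta0 Δ) *
            (a⁻¹ : symplecticGroup (Fin 2) F).1 := by simp only [Matrix.mul_assoc]
      _ = (a⁻¹ : symplecticGroup (Fin 2) F).1 * (θ * P₁) *
            (a⁻¹ : symplecticGroup (Fin 2) F).1 := by rw [h1]
      _ = (a⁻¹ : symplecticGroup (Fin 2) F).1 * θ *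
            (P₁ * (a⁻¹ : symplecticGroup (Fin 2) F).1) := by simp only [Matrix.mul_assoc]
      _ = (a⁻¹ : symplecticGroup (Fin 2) F).1 * θ := by rw [hPQ, Matrix.mul_one]
  calc P₂ * (a⁻¹ : symplecticGroup (Fin 2) F).1 * θ
      = P₂ * ((a⁻¹ : symplecticGroup (Fin 2) F).1 * θ) := by rw [Matrix.mul_assoc]
    _ = P₂ * (theta0 Δ * (a⁻¹ : symplecticGroup (Fin 2) F).1) := by rw [h3]
    _ = (P₂ * theta0 Δ) * (a⁻¹ : symplecticGroup (Fin 2) F).1 := by rw [Matrix.mul_assoc]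
    _ = θ' * (P₂ * (a⁻¹ : symplecticGroup (Fin 2) F).1) := by rw [h2', Matrix.mul_assoc]

end Cfsg.Agent.Lib.Helper31_SpExt_QF1
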