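import Mathlib
import Cfsg.Agent.Lib.Helper68_StOoDefs
import Cfsg.Agent.Lib.Helper68_StAbs

/-!
# S2547 package SWAP (architect helper68): the permutation of a monomial element of `Ω_{2m+1}(q)`
commutes with `op`.
-/

set_option autoImplicit false
set_option linter.unusedSectionVars false

namespace Cfsg.Agent.Lib.Helper31_StOo_SWAP

open Matrix Cfsg.Agent.Lib.Helper68_MatGrp Cfsg.Agent.Lib.Helper68_StOoDefs

variable {m : ℕ} {F : Type*} [Field F] [Fintype F] [NeZero (2 : F)]

/-- SWAP.  The permutation of a monomial element commutes with `op`. -/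
theorem mono_op {n : GO m F} {σ : Equiv.Perm (I m)} (hn : IsMono (φ m F) n σ) (a : I m) :
    σ (op a) = op (σ a) := by
  have hn' : ∀ x y, x ≠ σ y → φO m F n.1 x y = 0 := hn
  have h := φO_gram n.1
  have h1 := congrFun (congrFun h a) (op a)
  rw [Matrix.mul_apply, Finset.sum_eq_single (σ (op a))] at h1
  · rw [Matrix.mul_apply, Finset.sum_eq_single (σ a)] at h1
    · by_contra hne
      rw [J_apply (σ a), if_neg hne, mul_zero, zero_mul, J_apply, if_pos rfl] at h1
      exact wt_ne_zero a h1.symm
    · intro c _ hc
      rw [Matrix.transpose_apply, hn' c a hc, zero_mul]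
    · intro h'; exact absurd (Finset.mem_univ _) h'
  · intro c _ hc
    rw [hn' c (op a) hc, mul_zero]
  · intro h'; exact absurd (Finset.mem_univ _) h'

end Cfsg.Agent.Lib.Helper31_StOo_SWAP
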