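import Mathlib
import Cfsg.Agent.Lib.Helper68_StOoDefs
import Cfsg.Agent.Lib.Helper68_StAbs

/-!
# S2547 package XB (architect helper68): positive root elements of `Ω_{2m+1}(q)` lie in `B`,
negative ones do not.
-/

set_option autoImplicit false
set_option linter.unusedSectionVars false

namespace Cfsg.Agent.Lib.Helper31_StOo_XB

open Matrix Cfsg.Agent.Lib.Helper68_MatGrp Cfsg.Agent.Lib.Helper68_StOoDefs

variable {m : ℕ} {F : Type*} [Field F] [Fintype F] [NeZero (2 : F)]

theorem lx_mem_Boo (i k : Fin m) (hlt : i < k) (t : F) : lx (ie i) (ie k) t ∈ Boo m F := by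
  rw [mem_Boo]
  intro a b hab
  rw [lx_val (lxOK_ie (ne_of_lt hlt))]
  unfold lxM
  have hlt' : i.val < k.val := hlt
  have hk := k.2
  have hab' : a ≠ b := fun h => by rw [h] at hab; exact lt_irrefl _ hab
  rw [Matrix.sub_apply, Matrix.add_apply, Matrix.one_apply_ne hab', Matrix.single_apply,
    Matrix.single_apply, if_neg, if_neg]
  · simp
  · rintro ⟨h1, h2⟩
    rw [← h1, ← h2, op_ie, op_ie, ht_jf, ht_jf] at hab
    omega
  · rintro ⟨h1, h2⟩
    rw [← h1, ← h2, ht_ie, ht_ie] at hab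
    omega

theorem sx_mem_Boo (i : Fin m) (t : F) : sx (ie i) t ∈ Boo m F := by
  rw [mem_Boo]
  intro a b hab
  rw [sx_val (ie_ne_z0 i)]
  unfold sxM
  have hi := i.2
  have hab' : a ≠ b := fun h => by rw [h] at hab; exact lt_irrefl _ hab
  rw [Matrix.sub_apply, Matrix.sub_apply, Matrix.add_apply, Matrix.one_apply_ne hab',
    Matrix.single_apply, Matrix.single_apply, Matrix.single_apply, if_neg, if_neg, if_neg]
  · simp
  · rintro ⟨h1, h2⟩
    rw [← h1, ← h2, op_ie, ht_jf, ht_ie] at hab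
    omega
  · rintro ⟨h1, h2⟩
    rw [← h1, ← h2, ht_z0, ht_ie] at hab
    omega
  · rintro ⟨h1, h2⟩
    rw [← h1, ← h2, op_ie, ht_jf, ht_z0] at hab
    omega

theorem lx_not_mem_Boo (i k : Fin m) (hlt : i < k) (t : F) (ht : t ≠ 0) :
    lx (ie k) (ie i) t ∉ Boo m F := by
  intro h
  rw [mem_Boo] at h
  have hik : i ≠ k := ne_of_lt hlt
  have h1 := h (ie k) (ie i) (by rw [ht_ie, ht_ie]; exact hlt)
  rw [lx_val (lxOK_ie hik.symm)] at h1
  unfold lxM at h1
  have hne : (ie k : I m) ≠ ie i := fun e => hik (ie_injective e).symm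
  rw [Matrix.sub_apply, Matrix.add_apply, Matrix.one_apply_ne hne, Matrix.single_apply_same,
    Matrix.single_apply, if_neg, zero_add, sub_zero] at h1
  · exact ht h1
  · rintro ⟨h2, _⟩
    rw [op_ie] at h2
    exact ie_ne_jf k i h2.symm

theorem sx_not_mem_Boo (i : Fin m) (t : F) (ht : t ≠ 0) : sx (jf i) t ∉ Boo m F := by
  intro h
  rw [mem_Boo] at h
  have h1 := h z0 (ie i) (by rw [ht_ie, ht_z0]; exact i.2)
  rw [sx_val (jf_ne_z0 i)] at h1
  unfold sxM at h1
  have hne : (z0 : I m) ≠ ie i := fun e => ie_ne_z0 i e.symm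
  rw [Matrix.sub_apply, Matrix.sub_apply, Matrix.add_apply, Matrix.one_apply_ne hne, op_jf,
    Matrix.single_apply_same, Matrix.single_apply, Matrix.single_apply, if_neg, if_neg, zero_add,
    sub_zero, sub_zero] at h1
  · exact ht h1
  · rintro ⟨h2, _⟩
    exact jf_ne_z0 i h2
  · rintro ⟨h2, _⟩
    exact jf_ne_z0 i h2

end Cfsg.Agent.Lib.Helper31_StOo_XB
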