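import Cfsg.Agent.Lib.Helper49_CharP
import Mathlib.GroupTheory.GroupAction.ConjAct

/-!
helper49: groups of characteristic `p`, part 2: self-centralizing normal subgroups of a Sylow
`p`-subgroup and their overgroups.
-/

set_option autoImplicit false

namespace Cfsg.Agent.Lib.Helper49_CharP

open Cfsg

/-- `O_p` of a normal subgroup lies in `O_p` of the group. -/
theorem pCore_map_subtype_le_of_normal {p : ℕ} {A : Type*} [Group A] (C : Subgroup A) [C.Normal] :
    (pCore p ↥C).map C.subtype ≤ pCore p A := by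
  have : (pCore p ↥C).Characteristic := pCore_characteristic p ↥C
  apply le_pCore
  · exact ConjAct.normal_of_characteristic_of_normal
  · exact (pCore_isPGroup p ↥C).map _

/-- A `p`-subgroup `D` of a normal subgroup `C` which is normalized by `C` lies in `O_p`. -/
theorem le_pCore_of_normalizedBy_normal {p : ℕ} {A : Type*} [Group A] (C D : Subgroup A)
    [C.Normal] (hDC : D ≤ C) (hn : C ≤ Subgroup.normalizer (D : Set A)) (hD : IsPGroup p D) :
    D ≤ pCore p A := by
  have h1 : (D.subgroupOf C).Normal := (Subgroup.normal_subgroupOf_iff_le_normalizer hDC).mpr hn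
  have h2 : D.subgroupOf C ≤ pCore p ↥C := le_pCore h1 hD.comap_subtype
  intro d hd
  apply pCore_map_subtype_le_of_normal C
  exact ⟨⟨d, hDC hd⟩, h2 (by simpa [Subgroup.mem_subgroupOf] using hd), rfl⟩

/-- Let `R` be a `p`-subgroup, `Q ≤ R` with `C_R(Q) ≤ Q`, and `x` a `p'`-element centralizing `Q`
and normalizing `R`. Then `x` centralizes `R`. -/
theorem commute_of_selfCentralizing {G : Type*} [Group G] [Finite G] {p : ℕ} [Fact p.Prime]
    (R Q : Subgroup G) (hR : IsPGroup p R) (hQR : Q ≤ R)
    (hC : R ⊓ Subgroup.centralizer (Q : Set G) ≤ Q) (x : G) (hx : (orderOf x).Coprime p)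
    (hxQ : ∀ q ∈ Q, Commute x q) (hxR : ∀ r ∈ R, x * r * x⁻¹ ∈ R) :
    ∀ r ∈ R, Commute x r := by
  classical
  -- the subgroup of elements of `R` commuting with `x`
  set D : Subgroup G := R ⊓ Subgroup.centralizer ({x} : Set G) with hD
  have hmemD : ∀ g, g ∈ D ↔ g ∈ R ∧ Commute x g := by
    intro g
    rw [hD, Subgroup.mem_inf, Subgroup.mem_centralizer_iff]
    constructor
    · rintro ⟨h1, h2⟩
      exact ⟨h1, h2 x rfl⟩
    · rintro ⟨h1, h2⟩
      refine ⟨h1, ?_⟩
      intro y hy
      rw [Set.mem_singleton_iff] at hy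
      rw [hy]; exact h2
  have hQD : Q ≤ D := fun q hq => (hmemD q).mpr ⟨hQR hq, hxQ q hq⟩
  have hDR : D ≤ R := inf_le_left
  suffices hDtop : D.subgroupOf R = ⊤ by
    intro r hr
    have : (⟨r, hr⟩ : R) ∈ D.subgroupOf R := by rw [hDtop]; trivial
    rw [Subgroup.mem_subgroupOf] at this
    exact ((hmemD r).mp this).2
  by_contra hne
  have : Group.IsNilpotent ↥R := hR.isNilpotent
  have hnc : NormalizerCondition ↥R := Group.normalizerCondition_of_isNilpotent
  have hlt := hnc (D.subgroupOf R) (lt_top_iff_ne_top.mpr hne)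
  obtain ⟨n, hnN, hnD⟩ := SetLike.exists_of_lt hlt
  apply hnD
  rw [Subgroup.mem_subgroupOf, hmemD]
  refine ⟨n.2, ?_⟩
  -- conjugation by `n` preserves `D`
  have hconj : ∀ d ∈ D, (n : G) * d * (n : G)⁻¹ ∈ D := by
    intro d hd
    have h1 : (⟨d, hDR hd⟩ : R) ∈ D.subgroupOf R := by rwa [Subgroup.mem_subgroupOf]
    have h2 := (Subgroup.mem_normalizer_iff.mp hnN ⟨d, hDR hd⟩).mp h1
    rw [Subgroup.mem_subgroupOf] at h2
    simpa using h2
  -- the commutator
  set c : G := (n : G)⁻¹ * x * (n : G) * x⁻¹ with hc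
  have hcR : c ∈ R := by
    have h1 : x * (n : G) * x⁻¹ ∈ R := hxR _ n.2
    have : c = (n : G)⁻¹ * (x * (n : G) * x⁻¹) := by rw [hc]; group
    rw [this]
    exact mul_mem (inv_mem n.2) h1
  have hcQ : c ∈ Subgroup.centralizer (Q : Set G) := by
    rw [Subgroup.mem_centralizer_iff]
    intro q hq
    have h1 : Commute x ((n : G) * q * (n : G)⁻¹) := ((hmemD _).mp (hconj q (hQD hq))).2
    have h2 : Commute x q := hxQ q hq
    have h3 : Commute ((n : G)⁻¹ * x * (n : G)) q := by
      show (n : G)⁻¹ * x * (n : G) * q = q * ((n : G)⁻¹ * x * (n : G))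
      have e1 : (n : G)⁻¹ * x * (n : G) * q = (n : G)⁻¹ * (x * ((n : G) * q * (n : G)⁻¹)) * (n : G) := by
        group
      rw [e1, h1.eq]; group
    have h4 : Commute c q := by
      rw [hc]
      exact h3.mul_left (h2.inv_left)
    exact h4.eq.symm
  have hcQ' : c ∈ Q := hC ⟨hcR, hcQ⟩
  have hxc : Commute x c := hxQ c hcQ'
  exact commute_of_coprime_of_conj_eq_mul (p := p) x (n : G) c hx (by rw [hc]; group) hxc
    (orderOf_eq_pow_of_mem hR hcR)

/-- Let `G` be a finite group of characteristic `p`, `T` a Sylow `p`-subgroup and `Q` a normal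
subgroup of `T` with `C_T(Q) ≤ Q`. Then `C_G(Q) ≤ Q`. -/
theorem centralizer_le_of_selfCentralizing {G : Type*} [Group G] [Finite G] {p : ℕ} [Fact p.Prime]
    (hG : IsCharP p G) (T : Sylow p G) (Q : Subgroup G) (hQT : Q ≤ (T : Subgroup G))
    (hQn : (T : Subgroup G) ≤ Subgroup.normalizer (Q : Set G))
    (hC : (T : Subgroup G) ⊓ Subgroup.centralizer (Q : Set G) ≤ Q) :
    Subgroup.centralizer (Q : Set G) ≤ Q := by
  classical
  have hPn : (pCore p G).Normal := pCoreNormal p G
  have hPT : pCore p G ≤ (T : Subgroup G) := pCore_le_sylow T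
  set R : Subgroup G := pCore p G ⊔ Q with hR
  have hRT : R ≤ (T : Subgroup G) := sup_le hPT hQT
  have hRp : IsPGroup p R := T.isPGroup'.to_le hRT
  -- the centralizer of `Q` is a `p`-group
  have hCp : IsPGroup p (Subgroup.centralizer (Q : Set G)) := by
    apply isPGroup_of_forall_coprime_eq_one
    intro x hx hxo
    have hxQ : ∀ q ∈ Q, Commute x q := fun q hq =>
      ((Subgroup.mem_centralizer_iff.mp hx) q hq).symm
    have hxR : ∀ r ∈ R, x * r * x⁻¹ ∈ R := by
      intro r hr
      have hle' : R ≤ R.comap (MulAut.conj x).toMonoidHom := by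
        rw [hR]
        apply sup_le
        · intro a ha
          rw [Subgroup.mem_comap, MulEquiv.coe_toMonoidHom, MulAut.conj_apply]
          exact (le_sup_left : pCore p G ≤ pCore p G ⊔ Q) (hPn.conj_mem a ha x)
        · intro q hq
          rw [Subgroup.mem_comap, MulEquiv.coe_toMonoidHom, MulAut.conj_apply]
          have : x * q * x⁻¹ = q := by
            have := (hxQ q hq).eq
            calc x * q * x⁻¹ = q * x * x⁻¹ := by rw [this]
              _ = q := by group
          rw [this]
          exact (le_sup_right : Q ≤ pCore p G ⊔ Q) hq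
      have := hle' hr
      simpa [MulAut.conj_apply] using this
    have hcomm := commute_of_selfCentralizing R Q hRp le_sup_right
      (le_trans (inf_le_inf_right _ hRT) hC) x hxo hxQ hxR
    exact hG.eq_one_of_coprime hxo (fun q hq => hcomm q ((le_sup_left : pCore p G ≤ R) hq))
  -- `T` normalizes the centralizer
  have hTn : (T : Subgroup G) ≤ Subgroup.normalizer (Subgroup.centralizer (Q : Set G) : Set G) := by
    intro t ht
    have key : ∀ t ∈ (T : Subgroup G), ∀ c ∈ Subgroup.centralizer (Q : Set G),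
        t * c * t⁻¹ ∈ Subgroup.centralizer (Q : Set G) := by
      intro t ht c hc
      rw [Subgroup.mem_centralizer_iff] at hc ⊢
      intro q hq
      have hq' : t⁻¹ * q * t ∈ Q := (Subgroup.mem_normalizer_iff''.mp (hQn ht) q).mp hq
      have := hc _ hq'
      calc q * (t * c * t⁻¹) = t * ((t⁻¹ * q * t) * c) * t⁻¹ := by group
        _ = t * (c * (t⁻¹ * q * t)) * t⁻¹ := by rw [this]
        _ = t * c * t⁻¹ * q := by group
    rw [Subgroup.mem_normalizer_iff]
    intro c
    constructor
    · exact key t ht c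
    · intro h
      have := key t⁻¹ (inv_mem ht) _ h
      have e : t⁻¹ * (t * c * t⁻¹) * t⁻¹⁻¹ = c := by group
      rwa [e] at this
  have hsup : IsPGroup p (Subgroup.centralizer (Q : Set G) ⊔ (T : Subgroup G) : Subgroup G) :=
    IsPGroup.to_sup_of_normal_left' hCp T.isPGroup' hTn
  have heq := T.is_maximal' hsup le_sup_right
  have hCT : Subgroup.centralizer (Q : Set G) ≤ (T : Subgroup G) := by
    rw [← heq]; exact le_sup_left
  exact le_trans (le_inf hCT le_rfl) hC

end Cfsg.Agent.Lib.Helper49_CharP
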