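import Mathlib
import Cfsg.Agent.Lib.Helper38_MIODefs
import Cfsg.Agent.Lib.Helper38_MIODefs2
import Cfsg.Agent.Lib.Helper96_T5Fam
import Cfsg.Agent.Lib.Helper17_MIO_TR
import Cfsg.Agent.Lib.Helper78_MIO_MASS
import Cfsg.Agent.Lib.Helper24_T5_SPAN
import Cfsg.Agent.Lib.Helper14_Siegel

/-!
# MIO-TIGHT6P package T6-NUM (helper31, sub-architect helper79)

Pure arithmetic: `s = q⁵+q³-q²-1`, `ℓ = q⁵-q²`, `t = (q+1)(q²+1)`,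
`N = (q+1)(q²+1)(q³+1) = (q+1) s + 2 t`.
-/

set_option autoImplicit false
set_option linter.unusedSectionVars false
set_option linter.unusedVariables false

namespace Cfsg.Agent.Lib.Helper31_T6_NUM

open Module Cfsg.Agent.Lib.Helper44_QuadClass Cfsg.Agent.Lib.Helper14_OmegaSimple
  Cfsg.Agent.Lib.Helper38_MIODefs Cfsg.Agent.Lib.Helper38_MIODefs2 Cfsg.Agent.Lib.Helper96_T5Defs
  Cfsg.Agent.Lib.Helper96_T5Fam

namespace T6Num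

/-- `N = (q + 1) s + 2 t` -/
theorem N_eq {q s : ℕ} (hs : s + 1 + q ^ 2 = q ^ 5 + q ^ 3) :
    (q + 1) * (q ^ 2 + 1) * (q ^ 3 + 1) = (q + 1) * s + 2 * ((q + 1) * (q ^ 2 + 1)) := by
  have h : (q + 1) * (q ^ 2 + 1) * (q ^ 3 + 1) = (q + 1) * (q ^ 5 + q ^ 3) + (q + 1) * (q ^ 2 + 1) := by
    ring
  rw [h, ← hs]
  ring

theorem div_eq {q : ℕ} (hq : 4 ≤ q) :
    (q ^ 4 - 1) * (q ^ 3 + 1) / (q - 1) = (q + 1) * (q ^ 2 + 1) * (q ^ 3 + 1) := by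
  obtain ⟨r, rfl⟩ : ∃ r, q = r + 1 := ⟨q - 1, by omega⟩
  apply Nat.div_eq_of_eq_mul_left (by omega)
  simp only [Nat.add_sub_cancel]
  have h : (r + 1) ^ 4 = (r + 1 + 1) * ((r + 1) ^ 2 + 1) * r + 1 := by ring
  have h' : (r + 1) ^ 4 - 1 = (r + 1 + 1) * ((r + 1) ^ 2 + 1) * r := by omega
  rw [h']
  ring

theorem n0_le {q s n0 m N : ℕ} (hq : 4 ≤ q) (hs : s + 1 + q ^ 2 = q ^ 5 + q ^ 3)
    (hN : N = (q + 1) * (q ^ 2 + 1) * (q ^ 3 + 1)) (h : m + n0 * s < N) : n0 ≤ q + 1 := by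
  by_contra hcon
  have h1 : (q + 2) * s ≤ n0 * s := Nat.mul_le_mul_right s (by omega)
  rw [hN, N_eq hs] at h
  -- (q + 2) s < (q + 1) s + 2 t, i.e. s < 2 t
  have h2 : s < 2 * ((q + 1) * (q ^ 2 + 1)) := by nlinarith
  -- but s ≥ 2 t for q ≥ 4
  obtain ⟨r, rfl⟩ : ∃ r, q = r + 4 := ⟨q - 4, by omega⟩
  have h3 : s + 1 + (r + 4) ^ 2 < 2 * ((r + 4 + 1) * ((r + 4) ^ 2 + 1)) + 1 + (r + 4) ^ 2 := by omega
  rw [hs] at h3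
  ring_nf at h3
  nlinarith [pow_pos (show 0 < r + 1 by omega) 2, pow_nonneg (Nat.zero_le r) 3,
    pow_nonneg (Nat.zero_le r) 4, pow_nonneg (Nat.zero_le r) 5]

theorem no_ns {q s ℓ κ m N k : ℕ} (hq : 4 ≤ q) (hs : s + 1 + q ^ 2 = q ^ 5 + q ^ 3)
    (hℓ : ℓ + q ^ 2 = q ^ 5) (hκ : 2 * κ + 2 ≥ q)
    (hN : N = (q + 1) * (q ^ 2 + 1) * (q ^ 3 + 1)) (hk : 1 ≤ k)
    (h : m + (q + 1) * s + k * (κ * ℓ) < N) : False := by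
  rw [hN, N_eq hs] at h
  have hκ1 : 1 ≤ κ := by omega
  have h1 : ℓ ≤ k * (κ * ℓ) := by
    calc ℓ = 1 * (1 * ℓ) := by ring
      _ ≤ k * (κ * ℓ) := Nat.mul_le_mul hk (Nat.mul_le_mul_right _ hκ1)
  have h2 : ℓ < 2 * ((q + 1) * (q ^ 2 + 1)) := by omega
  obtain ⟨r, rfl⟩ : ∃ r, q = r + 4 := ⟨q - 4, by omega⟩
  have h3 : ℓ + (r + 4) ^ 2 < 2 * ((r + 4 + 1) * ((r + 4) ^ 2 + 1)) + (r + 4) ^ 2 := by omega
  rw [hℓ] at h3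
  ring_nf at h3
  nlinarith [pow_nonneg (Nat.zero_le r) 2, pow_nonneg (Nat.zero_le r) 3,
    pow_nonneg (Nat.zero_le r) 4, pow_nonneg (Nat.zero_le r) 5]

theorem t_eq {q s t : ℕ} (hq : 4 ≤ q) (hs : s + 1 + q ^ 2 = q ^ 5 + q ^ 3)
    (hT : t * q ^ 3 = t + (q + 1) * s) : t = (q + 1) * (q ^ 2 + 1) := by
  have hq3 : 1 ≤ q ^ 3 := Nat.one_le_pow _ _ (by omega)
  obtain ⟨c, hc⟩ : ∃ c, q ^ 3 = c + 1 := ⟨q ^ 3 - 1, by omega⟩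
  -- s = c * (q^2 + 1)
  have hs' : s = c * (q ^ 2 + 1) := by
    have h1 : q ^ 5 + q ^ 3 = q ^ 3 * (q ^ 2 + 1) := by ring
    rw [h1, hc] at hs
    have h2 : (c + 1) * (q ^ 2 + 1) = c * (q ^ 2 + 1) + 1 + q ^ 2 := by ring
    omega
  rw [hc, hs'] at hT
  have h3 : t * c = (q + 1) * (q ^ 2 + 1) * c := by
    have : t * (c + 1) = t * c + t := by ring
    rw [this] at hT
    have h4 : (q + 1) * (c * (q ^ 2 + 1)) = (q + 1) * (q ^ 2 + 1) * c := by ring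
    omega
  have hcpos : 0 < c := by
    have : 4 ^ 3 ≤ q ^ 3 := Nat.pow_le_pow_left hq 3
    omega
  exact Nat.eq_of_mul_eq_mul_right hcpos h3

theorem final_eq {q s nO f t M N : ℕ} (hq : 4 ≤ q) (hs : s + 1 + q ^ 2 = q ^ 5 + q ^ 3)
    (hN : N = (q + 1) * (q ^ 2 + 1) * (q ^ 3 + 1)) (hM : M = nO + (q + 1) * s)
    (hO : nO = f + t) (ht : t = (q + 1) * (q ^ 2 + 1)) :
    M + (q + 1) * (q ^ 2 + 1) = N + f := by
  rw [hN, N_eq hs, hM, hO, ht]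
  ring

end T6Num

end Cfsg.Agent.Lib.Helper31_T6_NUM
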