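import Mathlib
import Cfsg.Agent.Lib.Helper38_MIODefs
import Cfsg.Agent.Lib.Helper38_MIODefs2
import Cfsg.Agent.Lib.Helper96_T5Fam
import Cfsg.Agent.Lib.Helper17_MIO_TR
import Cfsg.Agent.Lib.Helper78_MIO_MASS
import Cfsg.Agent.Lib.Helper24_T5_SPAN
import Cfsg.Agent.Lib.Helper14_Siegel

/-!
# MIO-TIGHT6P package T6-SPAN (helper31, sub-architect helper79)

The span of a TSNL additive subgroup of a nondegenerate 6-dimensional quadratic space is a totally
singular 2- or 3-space (copy of `Helper24_T5_SPAN.span_ts`).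
-/

set_option autoImplicit false
set_option linter.unusedSectionVars false
set_option linter.unusedVariables false

namespace Cfsg.Agent.Lib.Helper31_T6_SPAN

open Module Cfsg.Agent.Lib.Helper44_QuadClass Cfsg.Agent.Lib.Helper14_OmegaSimple
  Cfsg.Agent.Lib.Helper38_MIODefs Cfsg.Agent.Lib.Helper38_MIODefs2 Cfsg.Agent.Lib.Helper96_T5Defs
  Cfsg.Agent.Lib.Helper96_T5Fam

variable {F W : Type*} [Field F] [Fintype F] [AddCommGroup W] [Module F W] [FiniteDimensional F W]

theorem span_ts6 (Q : QuadraticForm F W) (hQ : (QuadraticMap.polarBilin Q).Nondegenerate)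
    (hdim : finrank F W = 6) (S : AddSubgroup W) (hS : TSNL Q S) :
    IsTS Q 2 (Submodule.span F (S : Set W)) ∨ IsTS Q 3 (Submodule.span F (S : Set W)) := by
  obtain ⟨hts, hnl⟩ := hS
  have hsp := Cfsg.Agent.Lib.Helper24_T5_SPAN.span_singular Q S hts
  have hle := Cfsg.Agent.Lib.Helper24_T5_SPAN.two_mul_finrank_le_of_ts Q hQ _ hsp
  obtain ⟨y₁, hy₁, hy₁0⟩ : ∃ y₁ ∈ S, y₁ ≠ 0 := by
    by_contra hcon
    push Not at hcon
    apply hnl
    refine ⟨0, fun y hy => ⟨0, ?_⟩⟩
    rw [hcon y hy, smul_zero]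
  obtain ⟨y₂, hy₂, hy₂n⟩ : ∃ y₂ ∈ S, ∀ a : F, y₂ ≠ a • y₁ := by
    by_contra hcon
    push Not at hcon
    exact hnl ⟨y₁, hcon⟩
  have hlt : Submodule.span F {y₁} < Submodule.span F (S : Set W) := by
    refine lt_of_le_of_ne ?_ ?_
    · rw [Submodule.span_le]
      intro x hx
      rw [Set.mem_singleton_iff] at hx
      rw [hx]
      exact Submodule.subset_span hy₁
    · intro heq
      have h1 : y₂ ∈ Submodule.span F {y₁} := by
        rw [heq]
        exact Submodule.subset_span hy₂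
      obtain ⟨a, ha⟩ := Submodule.mem_span_singleton.1 h1
      exact hy₂n a ha.symm
  have h1 := Submodule.finrank_lt_finrank_of_lt hlt
  rw [finrank_span_singleton hy₁0] at h1
  have h23 : finrank F (Submodule.span F (S : Set W)) = 2 ∨
      finrank F (Submodule.span F (S : Set W)) = 3 := by omega
  rcases h23 with h | h
  · exact Or.inl ⟨h, hsp⟩
  · exact Or.inr ⟨h, hsp⟩

end Cfsg.Agent.Lib.Helper31_T6_SPAN
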