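import Mathlib
import Cfsg.Agent.Lib.Helper21_TICDefs
import Cfsg.Agent.Lib.Helper22_FitLocal2

/-! S4064 package LOC3 (architect helper21): in the `PreLocal` situation `A` is a normal Hall
subgroup of `N`, hence `A` meets no other conjugate of `N`. -/

set_option autoImplicit false

namespace Cfsg.Agent.Lib.Helper31_TIC_LOC3

open Cfsg Cfsg.Agent.Lib.Helper21_TICDefs

/-- A normal subgroup containing the centralizers of its nonidentity elements is a Hall subgroup. -/
theorem coprime_card_index_of_cent_le {H : Type*} [Group H] [Finite H] (A : Subgroup H) [A.Normal]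
    (hc : ∀ y ∈ A, y ≠ 1 → Subgroup.centralizer ({y} : Set H) ≤ A) :
    (Nat.card A).Coprime A.index := by
  apply Nat.coprime_of_dvd
  intro p hp hpA hpI
  have : Fact p.Prime := ⟨hp⟩
  obtain ⟨a, ha⟩ := exists_prime_orderOf_dvd_card' p hpA
  have ha0 : orderOf (a : H) = p := by rw [Subgroup.orderOf_coe]; exact ha
  have hzp : IsPGroup p (Subgroup.zpowers (a : H)) := by
    apply IsPGroup.of_card (n := 1)
    rw [Nat.card_zpowers, ha0, pow_one]
  obtain ⟨P, hP⟩ := hzp.exists_le_sylow
  have haP : (a : H) ∈ (P : Subgroup H) := hP (Subgroup.mem_zpowers _)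
  have hnil : Group.IsNilpotent (P : Subgroup H) := P.isPGroup'.isNilpotent
  have hne : A.subgroupOf (P : Subgroup H) ≠ ⊥ := by
    intro hbot
    have hmem : (⟨(a : H), haP⟩ : (P : Subgroup H)) ∈ A.subgroupOf (P : Subgroup H) := by
      rw [Subgroup.mem_subgroupOf]; exact a.2
    rw [hbot, Subgroup.mem_bot] at hmem
    have h1 : (a : H) = 1 := congrArg Subtype.val hmem
    rw [h1, orderOf_one] at ha0
    exact hp.one_lt.ne ha0
  obtain ⟨z, hzA, hzZ, hz1⟩ :=
    Cfsg.Agent.Lib.Helper22_FitLocal.exists_mem_center_of_normal_nilpotent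
      (A.subgroupOf (P : Subgroup H)) hne
  have hzA' : (z : H) ∈ A := Subgroup.mem_subgroupOf.mp hzA
  have hz1' : (z : H) ≠ 1 := fun h => hz1 (Subtype.ext h)
  have hPle : (P : Subgroup H) ≤ A := by
    intro x hx
    apply hc (z : H) hzA' hz1'
    rw [Subgroup.mem_centralizer_singleton_iff]
    have := (Subgroup.mem_center_iff.mp hzZ) ⟨x, hx⟩
    have h2 := congrArg Subtype.val this
    simpa using h2
  have hdvd : A.index ∣ (P : Subgroup H).index := Subgroup.index_dvd_of_le hPle
  exact P.not_dvd_index (hpI.trans hdvd)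

theorem semireg_of_preLocal {G : Type*} [Group G] [Finite G] {S : Sylow 2 G} {A N : Subgroup G}
    (hP : PreLocal S A N) :
    ∀ g : G, g ∉ N → ∀ a ∈ A, g * a * g⁻¹ ∈ N → a = 1 := by
  intro g hg a ha hb
  have hNeq := hP.N_eq
  have hle : A ≤ N := by rw [hNeq]; exact Subgroup.le_normalizer
  have hnorm : (A.subgroupOf N).Normal := by
    rw [hNeq]; infer_instance
  have hc : ∀ y ∈ A.subgroupOf N, y ≠ 1 →
      Subgroup.centralizer ({y} : Set N) ≤ A.subgroupOf N := by
    intro y hy hy1 c hcy
    rw [Subgroup.mem_subgroupOf] at hy ⊢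
    have hy1' : (y : G) ≠ 1 := fun h => hy1 (Subtype.ext h)
    apply hP.cent_le (y : G) hy hy1'
    rw [Subgroup.mem_centralizer_singleton_iff] at hcy ⊢
    have h2 := congrArg Subtype.val hcy
    simpa using h2
  have hcop := coprime_card_index_of_cent_le (A.subgroupOf N) hc
  -- the element `b = g a g⁻¹` of `N`
  set b' : N := ⟨g * a * g⁻¹, hb⟩ with hb'
  have ho1 : orderOf b' = orderOf a := by
    rw [← Subgroup.orderOf_coe]
    show orderOf (g * a * g⁻¹) = orderOf a
    exact orderOf_injective (MulAut.conj g).toMonoidHom (MulAut.conj g).injective a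
  have ho2 : orderOf a ∣ Nat.card (A.subgroupOf N) := by
    have hmem : (⟨a, hle ha⟩ : N) ∈ A.subgroupOf N := by
      rw [Subgroup.mem_subgroupOf]; exact ha
    have := Subgroup.orderOf_dvd_natCard (A.subgroupOf N) hmem
    rwa [← Subgroup.orderOf_coe] at this
  have hcop2 : ((A.subgroupOf N).index).Coprime (orderOf b') := by
    rw [ho1]
    exact (Nat.Coprime.coprime_dvd_left ho2 hcop).symm
  obtain ⟨m, hm⟩ := exists_pow_eq_self_of_coprime hcop2
  have hbA : b' ∈ A.subgroupOf N := by
    rw [← hm]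
    exact Subgroup.pow_mem _ ((A.subgroupOf N).pow_index_mem b') m
  rw [Subgroup.mem_subgroupOf] at hbA
  exact hP.ti g hg a ha hbA

end Cfsg.Agent.Lib.Helper31_TIC_LOC3
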