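import Mathlib
import Cfsg.Agent.Lib.Helper21_TICDefs
import Cfsg.Agent.Lib.Helper31_TIC_A
import Cfsg.Agent.S0215

/-! S4064 package LOC4 (architect helper21): `N` contains at least two involutions
(`2 ≤ |N : A|`), by Glauberman's `Z*`-theorem. -/

set_option autoImplicit false

namespace Cfsg.Agent.Lib.Helper31_TIC_LOC4

open Cfsg Cfsg.Agent.Lib.Helper21_TICDefs

variable {G : Type*} [Group G]

theorem two_le_of_preLocal [Finite G] (h : TIC G) (hF : FitTriv G) {S : Sylow 2 G}
    {A N : Subgroup G} (hP : PreLocal S A N)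
    (hcard : Nat.card {t : G // orderOf t = 2 ∧ t ∈ N} = A.relIndex N) :
    2 ≤ A.relIndex N := by
  by_contra hlt
  push Not at hlt
  obtain ⟨z, hz2, hzS, hzA⟩ := hP.exists_z
  have hAN : A ≤ N := by rw [hP.N_eq]; exact Subgroup.le_normalizer
  have hSN : (S : Subgroup G) ≤ N := hP.S_le.trans hAN
  have hzN : z ∈ N := hSN hzS
  -- `z` is the only involution of `N`
  have hsub : Subsingleton {t : G // orderOf t = 2 ∧ t ∈ N} := by
    have hfin : Finite {t : G // orderOf t = 2 ∧ t ∈ N} := inferInstance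
    have hle : Nat.card {t : G // orderOf t = 2 ∧ t ∈ N} ≤ 1 := by rw [hcard]; omega
    exact (Finite.card_le_one_iff_subsingleton).mp hle
  have huniq : ∀ t : G, orderOf t = 2 → t ∈ N → t = z := by
    intro t ht htN
    have := hsub.elim ⟨t, ht, htN⟩ ⟨z, hz2, hzN⟩
    exact congrArg Subtype.val this
  have hiso : ∀ g : G, g * z * g⁻¹ ∈ S → g * z * g⁻¹ = z := by
    intro g hg
    apply huniq _ _ (hSN hg)
    rw [← hz2]
    exact orderOf_injective (MulAut.conj g).toMonoidHom (MulAut.conj g).injective z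
  obtain ⟨N₀, hN₀n, hN₀odd, hN₀⟩ := Cfsg.Agent.S0215.result S z hz2 hzS hiso
  have hN₀bot : N₀ = ⊥ := Cfsg.Agent.Lib.Helper31_TIC_A.odd_normal_eq_bot h hF N₀ hN₀n hN₀odd
  have hzc : z ∈ Subgroup.center G := by
    rw [Subgroup.mem_center_iff]
    intro g
    have h1 := hN₀ g
    rw [hN₀bot, Subgroup.mem_bot] at h1
    have h2 : z * g = (z * g * z⁻¹ * g⁻¹) * (g * z) := by group
    rw [h1, one_mul] at h2
    exact h2.symm
  have hzn : (Subgroup.zpowers z).Normal := by
    constructor
    intro x hx g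
    have hxc : x ∈ Subgroup.center G :=
      (Subgroup.zpowers_le.mpr hzc) hx
    have : g * x * g⁻¹ = x := by
      rw [Subgroup.mem_center_iff] at hxc
      rw [hxc g, mul_inv_cancel_right]
    rw [this]
    exact hx
  have hnil : Group.IsNilpotent (Subgroup.zpowers z) := by
    have hcm : ∀ a b : Subgroup.zpowers z, a * b = b * a := by
      rintro ⟨a, ha⟩ ⟨b, hb⟩
      apply Subtype.ext
      have hac : a ∈ Subgroup.center G := (Subgroup.zpowers_le.mpr hzc) ha
      rw [Subgroup.mem_center_iff] at hac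
      exact (hac b).symm
    let _ : CommGroup (Subgroup.zpowers z) :=
      { (inferInstance : Group (Subgroup.zpowers z)) with mul_comm := hcm }
    exact CommGroup.isNilpotent
  have hbot := hF _ hzn hnil
  have hz1 : z = 1 := by
    have : z ∈ Subgroup.zpowers z := Subgroup.mem_zpowers z
    rw [hbot, Subgroup.mem_bot] at this
    exact this
  rw [hz1, orderOf_one] at hz2
  omega

end Cfsg.Agent.Lib.Helper31_TIC_LOC4
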