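import Mathlib
import Cfsg.Agent.Lib.Helper92_TTDefs
import Cfsg.Agent.Lib.Helper31_TT_M1a
import Cfsg.Agent.Lib.Helper31_TT_M1b
import Cfsg.Agent.Lib.Helper2_TT_M4

/-!
# S5559 package TT-M5 (helper31, architect helper92): the abelian case, `|K| = 6`

`card_of_comm_of` takes the statement of `comm_cases` (package TT-M4) as a hypothesis.
-/

set_option autoImplicit false
set_option linter.unusedSectionVars false

namespace Cfsg.Agent.Lib.Helper31_TT_M5

open Cfsg.Agent.Lib.Helper92_TTDefs Cfsg.Agent.Lib.Helper31_TT_M1a Cfsg.Agent.Lib.Helper31_TT_M1b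

section abstract

variable {K W : Type*} [Group K] [Group W] [Finite K] [Finite W]
  {rho : K →* MulAut W} {P : Subgroup K} {t : K}

/-- if `P` is abelian then every element of `P` is inverted by `t` -/
theorem mem_Inv_of_comm (h : Hyp rho P t) (hc : ∀ x ∈ P, ∀ y ∈ P, x * y = y * x) {x : K}
    (hx : x ∈ P) : x ∈ Inv P t := by
  have ht := t_inv h
  have hsq := h.sq
  have hx' : x ∈ Subgroup.closure (Inv P t) := by rw [closure_Inv h]; exact hx
  induction hx' using Subgroup.closure_induction with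
  | mem a ha => exact ha
  | one => exact one_mem_Inv h
  | mul a b ha' hb' ha hb =>
    have haP : a ∈ P := closure_Inv_le ha'
    have hbP : b ∈ P := closure_Inv_le hb'
    have ha := ha haP
    have hb := hb hbP
    refine ⟨hx, ?_⟩
    calc t * (a * b) * t = t * a * 1 * b * t := by group
      _ = t * a * (t * t) * b * t := by rw [hsq]
      _ = (t * a * t) * (t * b * t) := by group
      _ = a⁻¹ * b⁻¹ := by rw [ha.2, hb.2]
      _ = (b * a)⁻¹ := by group
      _ = (a * b)⁻¹ := by rw [hc a haP b hbP]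
  | inv a ha' ha =>
    exact inv_mem_Inv h (ha (closure_Inv_le ha'))

/-- **TT-M5**, with the statement of `comm_cases` as a hypothesis -/
theorem card_of_comm_of (h : Hyp rho P t) (hc : ∀ x ∈ P, ∀ y ∈ P, x * y = y * x)
    (hcc : ∀ {a b : K}, a ∈ Inv P t → b ∈ Inv P t → a ≠ 1 → a * b = b * a →
      b = 1 ∨ b = a ∨ b = a⁻¹) :
    Nat.card K = 6 ∧ ∃ a ∈ Inv P t, a ≠ 1 ∧ Subgroup.closure {t, t * a} = ⊤ := by
  classical
  have ht := t_inv h
  have hsq := h.sq
  -- a non-trivial element of `P`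
  obtain ⟨a, haP, ha1⟩ : ∃ a ∈ P, a ≠ 1 := by
    by_contra hcon
    push Not at hcon
    exact h.ne_bot ((Subgroup.eq_bot_iff_forall P).mpr hcon)
  have ha : a ∈ Inv P t := mem_Inv_of_comm h hc haP
  have hsub : ∀ b ∈ P, b = 1 ∨ b = a ∨ b = a⁻¹ := fun b hb =>
    hcc ha (mem_Inv_of_comm h hc hb) ha1 (hc a haP b hb)
  -- `|P| = 3`
  have hle : Nat.card P ≤ 3 := by
    have h1 : (P : Set K) ⊆ (({1, a, a⁻¹} : Finset K) : Set K) := by
      intro b hb
      rcases hsub b hb with rfl | rfl | rfl <;> simp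
    have h2 : Nat.card P = (P : Set K).ncard := Nat.card_coe_set_eq (P : Set K)
    rw [h2]
    calc (P : Set K).ncard ≤ ((({1, a, a⁻¹} : Finset K) : Set K)).ncard :=
          Set.ncard_le_ncard h1 (Finset.finite_toSet _)
      _ = ({1, a, a⁻¹} : Finset K).card := Set.ncard_coe_finset _
      _ ≤ 3 := Finset.card_le_three
  obtain ⟨n, hn⟩ := IsPGroup.iff_card.mp h.three
  have hn0 : n ≠ 0 := by
    rintro rfl
    rw [pow_zero] at hn
    exact h.ne_bot (Subgroup.card_eq_one.mp hn)
  have hge : 3 ≤ Nat.card P := by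
    rw [hn]
    calc 3 = 3 ^ 1 := by norm_num
      _ ≤ 3 ^ n := Nat.pow_le_pow_right (by norm_num) (by omega)
  have hP3 : Nat.card P = 3 := le_antisymm hle hge
  have hK : Nat.card K = 6 := by
    rw [← Subgroup.card_mul_index P, hP3, h.index]
  refine ⟨hK, a, ha, ha1, ?_⟩
  -- generation
  rw [eq_top_iff]
  intro g _
  have htR : t ∈ Subgroup.closure ({t, t * a} : Set K) :=
    Subgroup.subset_closure (by simp)
  have haR : a ∈ Subgroup.closure ({t, t * a} : Set K) := by
    have h1 : t * a ∈ Subgroup.closure ({t, t * a} : Set K) :=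
      Subgroup.subset_closure (by simp)
    have h2 := Subgroup.mul_mem _ htR h1
    rwa [← mul_assoc, hsq, one_mul] at h2
  have hPR : ∀ b ∈ P, b ∈ Subgroup.closure ({t, t * a} : Set K) := by
    intro b hb
    rcases hsub b hb with rfl | rfl | rfl
    · exact Subgroup.one_mem _
    · exact haR
    · exact Subgroup.inv_mem _ haR
  by_cases hg : g ∈ P
  · exact hPR g hg
  · have h1 : t * g ∈ P := by
      rw [Subgroup.mul_mem_iff_of_index_two h.index]
      exact ⟨fun h2 => absurd h2 h.notMem, fun h2 => absurd h2 hg⟩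
    have h2 := Subgroup.mul_mem _ htR (hPR _ h1)
    rwa [← mul_assoc, hsq, one_mul] at h2

/-- **TT-M5** -/
theorem card_of_comm (h : Hyp rho P t) (hc : ∀ x ∈ P, ∀ y ∈ P, x * y = y * x) :
    Nat.card K = 6 ∧ ∃ a ∈ Inv P t, a ≠ 1 ∧ Subgroup.closure {t, t * a} = ⊤ :=
  card_of_comm_of h hc
    (fun ha hb ha1 hab => Cfsg.Agent.Lib.Helper2_TT_M4.comm_cases h ha hb ha1 hab)

end abstract

end Cfsg.Agent.Lib.Helper31_TT_M5
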