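import Mathlib

/-!
# A group generated by three involutions with `(ab)³ = (ac)³ = (bc)³ = (a·cbc)³ = 1` has order ≤ 54
(helper8)

Coset enumeration over the trivial subgroup (54 cosets) in the presented group, each table entry
proved from the relators (generated with `tools/coset_enum_gen_lean.py` of helper56).
The presented group is the quotient `3² : S₃` of the affine Weyl group of type `Ã₂`.
-/

set_option autoImplicit false
set_option linter.unusedSectionVars false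
set_option linter.style.longLine false

namespace Cfsg.Agent.Lib.Helper8_TC54

abbrev rels : Set (FreeGroup (Fin 3)) :=
  {FreeGroup.of (0 : Fin 3) ^ 2, FreeGroup.of (1 : Fin 3) ^ 2, FreeGroup.of (2 : Fin 3) ^ 2,
    (FreeGroup.of (0 : Fin 3) * FreeGroup.of 1) ^ 3, (FreeGroup.of (0 : Fin 3) * FreeGroup.of 2) ^ 3,
    (FreeGroup.of (1 : Fin 3) * FreeGroup.of 2) ^ 3,
    (FreeGroup.of (0 : Fin 3) * FreeGroup.of 2 * FreeGroup.of 1 * FreeGroup.of 2) ^ 3}
abbrev G := PresentedGroup rels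
def a : G := PresentedGroup.of 0
def b : G := PresentedGroup.of 1
def c : G := PresentedGroup.of 2

theorem ha : a ^ 2 = 1 := by
  have : (FreeGroup.of (0 : Fin 3) ^ 2) ∈ rels := by simp [rels]
  have h := PresentedGroup.one_of_mem this
  simpa [a, PresentedGroup.of] using h

theorem hb : b ^ 2 = 1 := by
  have : (FreeGroup.of (1 : Fin 3) ^ 2) ∈ rels := by simp [rels]
  have h := PresentedGroup.one_of_mem this
  simpa [b, PresentedGroup.of] using h

theorem hc : c ^ 2 = 1 := by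
  have : (FreeGroup.of (2 : Fin 3) ^ 2) ∈ rels := by simp [rels]
  have h := PresentedGroup.one_of_mem this
  simpa [c, PresentedGroup.of] using h

theorem hab : (a * b) ^ 3 = 1 := by
  have : ((FreeGroup.of (0 : Fin 3) * FreeGroup.of 1) ^ 3) ∈ rels := by simp [rels]
  have h := PresentedGroup.one_of_mem this
  simpa [a, b, PresentedGroup.of] using h

theorem hac : (a * c) ^ 3 = 1 := by
  have : ((FreeGroup.of (0 : Fin 3) * FreeGroup.of 2) ^ 3) ∈ rels := by simp [rels]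
  have h := PresentedGroup.one_of_mem this
  simpa [a, c, PresentedGroup.of] using h

theorem hbc : (b * c) ^ 3 = 1 := by
  have : ((FreeGroup.of (1 : Fin 3) * FreeGroup.of 2) ^ 3) ∈ rels := by simp [rels]
  have h := PresentedGroup.one_of_mem this
  simpa [b, c, PresentedGroup.of] using h

theorem hacbc : (a * c * b * c) ^ 3 = 1 := by
  have : ((FreeGroup.of (0 : Fin 3) * FreeGroup.of 2 * FreeGroup.of 1 * FreeGroup.of 2) ^ 3) ∈ rels := by
    simp [rels]
  have h := PresentedGroup.one_of_mem this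
  simpa [a, b, c, PresentedGroup.of] using h

theorem hrel0 : a * a = 1 := by rw [← ha]; simp only [pow_succ, pow_zero, one_mul]
theorem hrel1 : b * b = 1 := by rw [← hb]; simp only [pow_succ, pow_zero, one_mul]
theorem hrel2 : c * c = 1 := by rw [← hc]; simp only [pow_succ, pow_zero, one_mul]
theorem hrel3 : a * b * a * b * a * b = 1 := by
  rw [← hab]; simp only [pow_succ, pow_zero, one_mul, mul_assoc]
theorem hrel4 : a * c * a * c * a * c = 1 := by
  rw [← hac]; simp only [pow_succ, pow_zero, one_mul, mul_assoc]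
theorem hrel5 : b * c * b * c * b * c = 1 := by
  rw [← hbc]; simp only [pow_succ, pow_zero, one_mul, mul_assoc]
theorem hrel6 : a * c * b * c * a * c * b * c * a * c * b * c = 1 := by
  rw [← hacbc]; simp only [pow_succ, pow_zero, one_mul, mul_assoc]

def H : Subgroup G := ⊥
abbrev Q := G ⧸ H
def cq (x : G) : Q := QuotientGroup.mk x
theorem smul_cq (g x : G) : g • cq x = cq (g * x) := rfl

def u0 : G := 1
def u1 : G := a * u0
def u2 : G := b * u0
def u3 : G := c * u0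
def u6 : G := b * u1
def u9 : G := c * u1
def u4 : G := a * u2
def u12 : G := c * u2
def u7 : G := a * u3
def u10 : G := b * u3
def u5 : G := a * u6
def u19 : G := c * u6
def u8 : G := a * u9
def u18 : G := b * u9
def u22 : G := c * u4
def u20 : G := a * u12
def u11 : G := b * u12
def u30 : G := b * u7
def u23 : G := a * u10
def u35 : G := c * u5
def u37 : G := a * u19
def u17 : G := b * u19
def u34 : G := b * u8
def u41 : G := a * u18
def u21 : G := a * u22
def u28 : G := b * u22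
def u46 : G := b * u20
def u13 : G := a * u11
def u29 : G := a * u30
def u42 : G := c * u30
def u24 : G := c * u23
def u36 : G := a * u35
def u27 : G := b * u35
def u49 : G := b * u37
def u16 : G := a * u17
def u43 : G := a * u34
def u33 : G := c * u34
def u40 : G := c * u41
def u31 : G := b * u21
def u38 : G := a * u28
def u47 : G := a * u46
def u52 : G := c * u46
def u14 : G := c * u13
def u51 : G := c * u29
def u44 : G := a * u42
def u25 : G := b * u24
def u45 : G := b * u36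
def u26 : G := a * u27
def u48 : G := a * u49
def u50 : G := c * u49
def u15 : G := c * u16
def u53 : G := c * u43
def u32 : G := a * u33
def u39 : G := b * u40

theorem rel0 (q : Q) : a • a • q = q := by
  have h : a * a = 1 := hrel0
  calc a • a • q = (a * a) • q := by simp only [mul_smul]
    _ = q := by rw [h, one_smul]
theorem rel1 (q : Q) : b • b • q = q := by
  have h : b * b = 1 := hrel1
  calc b • b • q = (b * b) • q := by simp only [mul_smul]
    _ = q := by rw [h, one_smul]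
theorem rel2 (q : Q) : c • c • q = q := by
  have h : c * c = 1 := hrel2
  calc c • c • q = (c * c) • q := by simp only [mul_smul]
    _ = q := by rw [h, one_smul]
theorem rel3 (q : Q) : a • b • a • b • a • b • q = q := by
  have h : a * b * a * b * a * b = 1 := hrel3
  calc a • b • a • b • a • b • q = (a * b * a * b * a * b) • q := by simp only [mul_smul]
    _ = q := by rw [h, one_smul]
theorem rel4 (q : Q) : a • c • a • c • a • c • q = q := by
  have h : a * c * a * c * a * c = 1 := hrel4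
  calc a • c • a • c • a • c • q = (a * c * a * c * a * c) • q := by simp only [mul_smul]
    _ = q := by rw [h, one_smul]
theorem rel5 (q : Q) : b • c • b • c • b • c • q = q := by
  have h : b * c * b * c * b * c = 1 := hrel5
  calc b • c • b • c • b • c • q = (b * c * b * c * b * c) • q := by simp only [mul_smul]
    _ = q := by rw [h, one_smul]
theorem rel6 (q : Q) : a • c • b • c • a • c • b • c • a • c • b • c • q = q := by
  have h : a * c * b * c * a * c * b * c * a * c * b * c = 1 := hrel6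
  calc a • c • b • c • a • c • b • c • a • c • b • c • q = (a * c * b * c * a * c * b * c * a * c * b * c) • q := by simp only [mul_smul]
    _ = q := by rw [h, one_smul]

theorem f_0_1 : a • cq u0 = cq u1 := rfl
theorem fi_0_1 : a⁻¹ • cq u1 = cq u0 := inv_smul_eq_iff.mpr f_0_1.symm
theorem f_0_2 : b • cq u0 = cq u2 := rfl
theorem fi_0_2 : b⁻¹ • cq u2 = cq u0 := inv_smul_eq_iff.mpr f_0_2.symm
theorem f_0_3 : c • cq u0 = cq u3 := rfl
theorem fi_0_3 : c⁻¹ • cq u3 = cq u0 := inv_smul_eq_iff.mpr f_0_3.symm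
theorem f_1_2 : b • cq u1 = cq u6 := rfl
theorem fi_1_2 : b⁻¹ • cq u6 = cq u1 := inv_smul_eq_iff.mpr f_1_2.symm
theorem f_1_3 : c • cq u1 = cq u9 := rfl
theorem fi_1_3 : c⁻¹ • cq u9 = cq u1 := inv_smul_eq_iff.mpr f_1_3.symm
theorem f_2_1 : a • cq u2 = cq u4 := rfl
theorem fi_2_1 : a⁻¹ • cq u4 = cq u2 := inv_smul_eq_iff.mpr f_2_1.symm
theorem f_2_3 : c • cq u2 = cq u12 := rfl
theorem fi_2_3 : c⁻¹ • cq u12 = cq u2 := inv_smul_eq_iff.mpr f_2_3.symm
theorem f_3_1 : a • cq u3 = cq u7 := rfl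
theorem fi_3_1 : a⁻¹ • cq u7 = cq u3 := inv_smul_eq_iff.mpr f_3_1.symm
theorem f_3_2 : b • cq u3 = cq u10 := rfl
theorem fi_3_2 : b⁻¹ • cq u10 = cq u3 := inv_smul_eq_iff.mpr f_3_2.symm
theorem f_6_1 : a • cq u6 = cq u5 := rfl
theorem fi_6_1 : a⁻¹ • cq u5 = cq u6 := inv_smul_eq_iff.mpr f_6_1.symm
theorem f_6_3 : c • cq u6 = cq u19 := rfl
theorem fi_6_3 : c⁻¹ • cq u19 = cq u6 := inv_smul_eq_iff.mpr f_6_3.symm
theorem f_9_1 : a • cq u9 = cq u8 := rfl
theorem fi_9_1 : a⁻¹ • cq u8 = cq u9 := inv_smul_eq_iff.mpr f_9_1.symm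
theorem f_9_2 : b • cq u9 = cq u18 := rfl
theorem fi_9_2 : b⁻¹ • cq u18 = cq u9 := inv_smul_eq_iff.mpr f_9_2.symm
theorem f_4_3 : c • cq u4 = cq u22 := rfl
theorem fi_4_3 : c⁻¹ • cq u22 = cq u4 := inv_smul_eq_iff.mpr f_4_3.symm
theorem f_12_1 : a • cq u12 = cq u20 := rfl
theorem fi_12_1 : a⁻¹ • cq u20 = cq u12 := inv_smul_eq_iff.mpr f_12_1.symm
theorem f_12_2 : b • cq u12 = cq u11 := rfl
theorem fi_12_2 : b⁻¹ • cq u11 = cq u12 := inv_smul_eq_iff.mpr f_12_2.symm
theorem f_7_2 : b • cq u7 = cq u30 := rfl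
theorem fi_7_2 : b⁻¹ • cq u30 = cq u7 := inv_smul_eq_iff.mpr f_7_2.symm
theorem f_10_1 : a • cq u10 = cq u23 := rfl
theorem fi_10_1 : a⁻¹ • cq u23 = cq u10 := inv_smul_eq_iff.mpr f_10_1.symm
theorem f_5_3 : c • cq u5 = cq u35 := rfl
theorem fi_5_3 : c⁻¹ • cq u35 = cq u5 := inv_smul_eq_iff.mpr f_5_3.symm
theorem f_19_1 : a • cq u19 = cq u37 := rfl
theorem fi_19_1 : a⁻¹ • cq u37 = cq u19 := inv_smul_eq_iff.mpr f_19_1.symm
theorem f_19_2 : b • cq u19 = cq u17 := rfl
theorem fi_19_2 : b⁻¹ • cq u17 = cq u19 := inv_smul_eq_iff.mpr f_19_2.symm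
theorem f_8_2 : b • cq u8 = cq u34 := rfl
theorem fi_8_2 : b⁻¹ • cq u34 = cq u8 := inv_smul_eq_iff.mpr f_8_2.symm
theorem f_18_1 : a • cq u18 = cq u41 := rfl
theorem fi_18_1 : a⁻¹ • cq u41 = cq u18 := inv_smul_eq_iff.mpr f_18_1.symm
theorem f_22_1 : a • cq u22 = cq u21 := rfl
theorem fi_22_1 : a⁻¹ • cq u21 = cq u22 := inv_smul_eq_iff.mpr f_22_1.symm
theorem f_22_2 : b • cq u22 = cq u28 := rfl
theorem fi_22_2 : b⁻¹ • cq u28 = cq u22 := inv_smul_eq_iff.mpr f_22_2.symm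
theorem f_20_2 : b • cq u20 = cq u46 := rfl
theorem fi_20_2 : b⁻¹ • cq u46 = cq u20 := inv_smul_eq_iff.mpr f_20_2.symm
theorem f_11_1 : a • cq u11 = cq u13 := rfl
theorem fi_11_1 : a⁻¹ • cq u13 = cq u11 := inv_smul_eq_iff.mpr f_11_1.symm
theorem f_30_1 : a • cq u30 = cq u29 := rfl
theorem fi_30_1 : a⁻¹ • cq u29 = cq u30 := inv_smul_eq_iff.mpr f_30_1.symm
theorem f_30_3 : c • cq u30 = cq u42 := rfl
theorem fi_30_3 : c⁻¹ • cq u42 = cq u30 := inv_smul_eq_iff.mpr f_30_3.symm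
theorem f_23_3 : c • cq u23 = cq u24 := rfl
theorem fi_23_3 : c⁻¹ • cq u24 = cq u23 := inv_smul_eq_iff.mpr f_23_3.symm
theorem f_35_1 : a • cq u35 = cq u36 := rfl
theorem fi_35_1 : a⁻¹ • cq u36 = cq u35 := inv_smul_eq_iff.mpr f_35_1.symm
theorem f_35_2 : b • cq u35 = cq u27 := rfl
theorem fi_35_2 : b⁻¹ • cq u27 = cq u35 := inv_smul_eq_iff.mpr f_35_2.symm
theorem f_37_2 : b • cq u37 = cq u49 := rfl
theorem fi_37_2 : b⁻¹ • cq u49 = cq u37 := inv_smul_eq_iff.mpr f_37_2.symm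
theorem f_17_1 : a • cq u17 = cq u16 := rfl
theorem fi_17_1 : a⁻¹ • cq u16 = cq u17 := inv_smul_eq_iff.mpr f_17_1.symm
theorem f_34_1 : a • cq u34 = cq u43 := rfl
theorem fi_34_1 : a⁻¹ • cq u43 = cq u34 := inv_smul_eq_iff.mpr f_34_1.symm
theorem f_34_3 : c • cq u34 = cq u33 := rfl
theorem fi_34_3 : c⁻¹ • cq u33 = cq u34 := inv_smul_eq_iff.mpr f_34_3.symm
theorem f_41_3 : c • cq u41 = cq u40 := rfl
theorem fi_41_3 : c⁻¹ • cq u40 = cq u41 := inv_smul_eq_iff.mpr f_41_3.symm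
theorem f_21_2 : b • cq u21 = cq u31 := rfl
theorem fi_21_2 : b⁻¹ • cq u31 = cq u21 := inv_smul_eq_iff.mpr f_21_2.symm
theorem f_28_1 : a • cq u28 = cq u38 := rfl
theorem fi_28_1 : a⁻¹ • cq u38 = cq u28 := inv_smul_eq_iff.mpr f_28_1.symm
theorem f_46_1 : a • cq u46 = cq u47 := rfl
theorem fi_46_1 : a⁻¹ • cq u47 = cq u46 := inv_smul_eq_iff.mpr f_46_1.symm
theorem f_46_3 : c • cq u46 = cq u52 := rfl
theorem fi_46_3 : c⁻¹ • cq u52 = cq u46 := inv_smul_eq_iff.mpr f_46_3.symm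
theorem f_13_3 : c • cq u13 = cq u14 := rfl
theorem fi_13_3 : c⁻¹ • cq u14 = cq u13 := inv_smul_eq_iff.mpr f_13_3.symm
theorem f_29_3 : c • cq u29 = cq u51 := rfl
theorem fi_29_3 : c⁻¹ • cq u51 = cq u29 := inv_smul_eq_iff.mpr f_29_3.symm
theorem f_42_1 : a • cq u42 = cq u44 := rfl
theorem fi_42_1 : a⁻¹ • cq u44 = cq u42 := inv_smul_eq_iff.mpr f_42_1.symm
theorem f_24_2 : b • cq u24 = cq u25 := rfl
theorem fi_24_2 : b⁻¹ • cq u25 = cq u24 := inv_smul_eq_iff.mpr f_24_2.symm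
theorem f_36_2 : b • cq u36 = cq u45 := rfl
theorem fi_36_2 : b⁻¹ • cq u45 = cq u36 := inv_smul_eq_iff.mpr f_36_2.symm
theorem f_27_1 : a • cq u27 = cq u26 := rfl
theorem fi_27_1 : a⁻¹ • cq u26 = cq u27 := inv_smul_eq_iff.mpr f_27_1.symm
theorem f_49_1 : a • cq u49 = cq u48 := rfl
theorem fi_49_1 : a⁻¹ • cq u48 = cq u49 := inv_smul_eq_iff.mpr f_49_1.symm
theorem f_49_3 : c • cq u49 = cq u50 := rfl
theorem fi_49_3 : c⁻¹ • cq u50 = cq u49 := inv_smul_eq_iff.mpr f_49_3.symm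
theorem f_16_3 : c • cq u16 = cq u15 := rfl
theorem fi_16_3 : c⁻¹ • cq u15 = cq u16 := inv_smul_eq_iff.mpr f_16_3.symm
theorem f_43_3 : c • cq u43 = cq u53 := rfl
theorem fi_43_3 : c⁻¹ • cq u53 = cq u43 := inv_smul_eq_iff.mpr f_43_3.symm
theorem f_33_1 : a • cq u33 = cq u32 := rfl
theorem fi_33_1 : a⁻¹ • cq u32 = cq u33 := inv_smul_eq_iff.mpr f_33_1.symm
theorem f_40_2 : b • cq u40 = cq u39 := rfl
theorem fi_40_2 : b⁻¹ • cq u39 = cq u40 := inv_smul_eq_iff.mpr f_40_2.symm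
theorem f_1_1 : a • cq u1 = cq u0 := by
  have h := rel0 (cq u0)
  rw [f_0_1] at h
  exact h
theorem fi_1_1 : a⁻¹ • cq u0 = cq u1 := inv_smul_eq_iff.mpr f_1_1.symm
theorem f_2_2 : b • cq u2 = cq u0 := by
  have h := rel1 (cq u0)
  rw [f_0_2] at h
  exact h
theorem fi_2_2 : b⁻¹ • cq u0 = cq u2 := inv_smul_eq_iff.mpr f_2_2.symm
theorem f_3_3 : c • cq u3 = cq u0 := by
  have h := rel2 (cq u0)
  rw [f_0_3] at h
  exact h
theorem fi_3_3 : c⁻¹ • cq u0 = cq u3 := inv_smul_eq_iff.mpr f_3_3.symm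
theorem f_6_2 : b • cq u6 = cq u1 := by
  have h := rel1 (cq u1)
  rw [f_1_2] at h
  exact h
theorem fi_6_2 : b⁻¹ • cq u1 = cq u6 := inv_smul_eq_iff.mpr f_6_2.symm
theorem f_9_3 : c • cq u9 = cq u1 := by
  have h := rel2 (cq u1)
  rw [f_1_3] at h
  exact h
theorem fi_9_3 : c⁻¹ • cq u1 = cq u9 := inv_smul_eq_iff.mpr f_9_3.symm
theorem f_4_1 : a • cq u4 = cq u2 := by
  have h := rel0 (cq u2)
  rw [f_2_1] at h
  exact h
theorem fi_4_1 : a⁻¹ • cq u2 = cq u4 := inv_smul_eq_iff.mpr f_4_1.symm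
theorem f_12_3 : c • cq u12 = cq u2 := by
  have h := rel2 (cq u2)
  rw [f_2_3] at h
  exact h
theorem fi_12_3 : c⁻¹ • cq u2 = cq u12 := inv_smul_eq_iff.mpr f_12_3.symm
theorem f_5_2 : b • cq u5 = cq u4 := by
  have h := rel3 (cq u2)
  rw [f_2_2] at h
  rw [f_0_1] at h
  rw [f_1_2] at h
  rw [f_6_1] at h
  have h0 := smul_left_cancel _ (h.trans f_4_1.symm)
  exact h0
theorem fi_5_2 : b⁻¹ • cq u4 = cq u5 := inv_smul_eq_iff.mpr f_5_2.symm
theorem f_7_1 : a • cq u7 = cq u3 := by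
  have h := rel0 (cq u3)
  rw [f_3_1] at h
  exact h
theorem fi_7_1 : a⁻¹ • cq u3 = cq u7 := inv_smul_eq_iff.mpr f_7_1.symm
theorem f_10_2 : b • cq u10 = cq u3 := by
  have h := rel1 (cq u3)
  rw [f_3_2] at h
  exact h
theorem fi_10_2 : b⁻¹ • cq u3 = cq u10 := inv_smul_eq_iff.mpr f_10_2.symm
theorem f_8_3 : c • cq u8 = cq u7 := by
  have h := rel4 (cq u3)
  rw [f_3_3] at h
  rw [f_0_1] at h
  rw [f_1_3] at h
  rw [f_9_1] at h
  have h0 := smul_left_cancel _ (h.trans f_7_1.symm)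
  exact h0
theorem fi_8_3 : c⁻¹ • cq u7 = cq u8 := inv_smul_eq_iff.mpr f_8_3.symm
theorem f_11_3 : c • cq u11 = cq u10 := by
  have h := rel5 (cq u3)
  rw [f_3_3] at h
  rw [f_0_2] at h
  rw [f_2_3] at h
  rw [f_12_2] at h
  have h0 := smul_left_cancel _ (h.trans f_10_2.symm)
  exact h0
theorem fi_11_3 : c⁻¹ • cq u10 = cq u11 := inv_smul_eq_iff.mpr f_11_3.symm
theorem f_4_2 : b • cq u4 = cq u5 := by
  have h := rel1 (cq u4)
  have h0 := smul_left_cancel _ (h.trans f_5_2.symm)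
  exact h0
theorem fi_4_2 : b⁻¹ • cq u5 = cq u4 := inv_smul_eq_iff.mpr f_4_2.symm
theorem f_22_3 : c • cq u22 = cq u4 := by
  have h := rel2 (cq u4)
  rw [f_4_3] at h
  exact h
theorem fi_22_3 : c⁻¹ • cq u4 = cq u22 := inv_smul_eq_iff.mpr f_22_3.symm
theorem f_5_1 : a • cq u5 = cq u6 := by
  have h := rel3 (cq u4)
  rw [f_4_2] at h
  have h0 := smul_left_cancel _ (h.trans f_2_1.symm)
  have h1 := smul_left_cancel _ (h0.trans f_0_2.symm)
  have h2 := smul_left_cancel _ (h1.trans f_1_1.symm)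
  have h3 := smul_left_cancel _ (h2.trans f_6_2.symm)
  exact h3
theorem fi_5_1 : a⁻¹ • cq u6 = cq u5 := inv_smul_eq_iff.mpr f_5_1.symm
theorem f_35_3 : c • cq u35 = cq u5 := by
  have h := rel2 (cq u5)
  rw [f_5_3] at h
  exact h
theorem fi_35_3 : c⁻¹ • cq u5 = cq u35 := inv_smul_eq_iff.mpr f_35_3.symm
theorem f_19_3 : c • cq u19 = cq u6 := by
  have h := rel2 (cq u6)
  rw [f_6_3] at h
  exact h
theorem fi_19_3 : c⁻¹ • cq u6 = cq u19 := inv_smul_eq_iff.mpr f_19_3.symm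
theorem f_30_2 : b • cq u30 = cq u7 := by
  have h := rel1 (cq u7)
  rw [f_7_2] at h
  exact h
theorem fi_30_2 : b⁻¹ • cq u7 = cq u30 := inv_smul_eq_iff.mpr f_30_2.symm
theorem f_7_3 : c • cq u7 = cq u8 := by
  have h := rel2 (cq u7)
  have h0 := smul_left_cancel _ (h.trans f_8_3.symm)
  exact h0
theorem fi_7_3 : c⁻¹ • cq u8 = cq u7 := inv_smul_eq_iff.mpr f_7_3.symm
theorem f_8_1 : a • cq u8 = cq u9 := by
  have h := rel4 (cq u7)
  rw [f_7_3] at h
  have h0 := smul_left_cancel _ (h.trans f_3_1.symm)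
  have h1 := smul_left_cancel _ (h0.trans f_0_3.symm)
  have h2 := smul_left_cancel _ (h1.trans f_1_1.symm)
  have h3 := smul_left_cancel _ (h2.trans f_9_3.symm)
  exact h3
theorem fi_8_1 : a⁻¹ • cq u9 = cq u8 := inv_smul_eq_iff.mpr f_8_1.symm
theorem f_34_2 : b • cq u34 = cq u8 := by
  have h := rel1 (cq u8)
  rw [f_8_2] at h
  exact h
theorem fi_34_2 : b⁻¹ • cq u8 = cq u34 := inv_smul_eq_iff.mpr f_34_2.symm
theorem f_18_2 : b • cq u18 = cq u9 := by
  have h := rel1 (cq u9)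
  rw [f_9_2] at h
  exact h
theorem fi_18_2 : b⁻¹ • cq u9 = cq u18 := inv_smul_eq_iff.mpr f_18_2.symm
theorem f_17_3 : c • cq u17 = cq u18 := by
  have h := rel5 (cq u9)
  rw [f_9_3] at h
  rw [f_1_2] at h
  rw [f_6_3] at h
  rw [f_19_2] at h
  have h0 := smul_left_cancel _ (h.trans f_18_2.symm)
  exact h0
theorem fi_17_3 : c⁻¹ • cq u18 = cq u17 := inv_smul_eq_iff.mpr f_17_3.symm
theorem f_23_1 : a • cq u23 = cq u10 := by
  have h := rel0 (cq u10)
  rw [f_10_1] at h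
  exact h
theorem fi_23_1 : a⁻¹ • cq u10 = cq u23 := inv_smul_eq_iff.mpr f_23_1.symm
theorem f_10_3 : c • cq u10 = cq u11 := by
  have h := rel2 (cq u10)
  have h0 := smul_left_cancel _ (h.trans f_11_3.symm)
  exact h0
theorem fi_10_3 : c⁻¹ • cq u11 = cq u10 := inv_smul_eq_iff.mpr f_10_3.symm
theorem f_29_2 : b • cq u29 = cq u23 := by
  have h := rel3 (cq u10)
  rw [f_10_2] at h
  rw [f_3_1] at h
  rw [f_7_2] at h
  rw [f_30_1] at h
  have h0 := smul_left_cancel _ (h.trans f_23_1.symm)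
  exact h0
theorem fi_29_2 : b⁻¹ • cq u23 = cq u29 := inv_smul_eq_iff.mpr f_29_2.symm
theorem f_11_2 : b • cq u11 = cq u12 := by
  have h := rel5 (cq u10)
  rw [f_10_3] at h
  have h0 := smul_left_cancel _ (h.trans f_3_2.symm)
  have h1 := smul_left_cancel _ (h0.trans f_0_3.symm)
  have h2 := smul_left_cancel _ (h1.trans f_2_2.symm)
  have h3 := smul_left_cancel _ (h2.trans f_12_3.symm)
  exact h3
theorem fi_11_2 : b⁻¹ • cq u12 = cq u11 := inv_smul_eq_iff.mpr f_11_2.symm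
theorem f_13_1 : a • cq u13 = cq u11 := by
  have h := rel0 (cq u11)
  rw [f_11_1] at h
  exact h
theorem fi_13_1 : a⁻¹ • cq u11 = cq u13 := inv_smul_eq_iff.mpr f_13_1.symm
theorem f_47_2 : b • cq u47 = cq u13 := by
  have h := rel3 (cq u11)
  rw [f_11_2] at h
  rw [f_12_1] at h
  rw [f_20_2] at h
  rw [f_46_1] at h
  have h0 := smul_left_cancel _ (h.trans f_13_1.symm)
  exact h0
theorem fi_47_2 : b⁻¹ • cq u13 = cq u47 := inv_smul_eq_iff.mpr f_47_2.symm
theorem f_20_1 : a • cq u20 = cq u12 := by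
  have h := rel0 (cq u12)
  rw [f_12_1] at h
  exact h
theorem fi_20_1 : a⁻¹ • cq u12 = cq u20 := inv_smul_eq_iff.mpr f_20_1.symm
theorem f_21_3 : c • cq u21 = cq u20 := by
  have h := rel4 (cq u12)
  rw [f_12_3] at h
  rw [f_2_1] at h
  rw [f_4_3] at h
  rw [f_22_1] at h
  have h0 := smul_left_cancel _ (h.trans f_20_1.symm)
  exact h0
theorem fi_21_3 : c⁻¹ • cq u20 = cq u21 := inv_smul_eq_iff.mpr f_21_3.symm
theorem f_13_2 : b • cq u13 = cq u47 := by
  have h := rel1 (cq u13)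
  have h0 := smul_left_cancel _ (h.trans f_47_2.symm)
  exact h0
theorem fi_13_2 : b⁻¹ • cq u47 = cq u13 := inv_smul_eq_iff.mpr f_13_2.symm
theorem f_14_3 : c • cq u14 = cq u13 := by
  have h := rel2 (cq u13)
  rw [f_13_3] at h
  exact h
theorem fi_14_3 : c⁻¹ • cq u13 = cq u14 := inv_smul_eq_iff.mpr f_14_3.symm
theorem f_24_1 : a • cq u24 = cq u14 := by
  have h := rel4 (cq u14)
  rw [f_14_3] at h
  rw [f_13_1] at h
  rw [f_11_3] at h
  rw [f_10_1] at h
  rw [f_23_3] at h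
  exact h
theorem fi_24_1 : a⁻¹ • cq u14 = cq u24 := inv_smul_eq_iff.mpr f_24_1.symm
theorem f_15_3 : c • cq u15 = cq u16 := by
  have h := rel2 (cq u15)
  have h0 := smul_left_cancel _ (h.trans f_16_3.symm)
  exact h0
theorem fi_15_3 : c⁻¹ • cq u16 = cq u15 := inv_smul_eq_iff.mpr f_15_3.symm
theorem f_16_1 : a • cq u16 = cq u17 := by
  have h := rel0 (cq u16)
  have h0 := smul_left_cancel _ (h.trans f_17_1.symm)
  exact h0
theorem fi_16_1 : a⁻¹ • cq u17 = cq u16 := inv_smul_eq_iff.mpr f_16_1.symm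
theorem f_17_2 : b • cq u17 = cq u19 := by
  have h := rel1 (cq u17)
  have h0 := smul_left_cancel _ (h.trans f_19_2.symm)
  exact h0
theorem fi_17_2 : b⁻¹ • cq u19 = cq u17 := inv_smul_eq_iff.mpr f_17_2.symm
theorem f_18_3 : c • cq u18 = cq u17 := by
  have h := rel2 (cq u17)
  rw [f_17_3] at h
  exact h
theorem fi_18_3 : c⁻¹ • cq u17 = cq u18 := inv_smul_eq_iff.mpr f_18_3.symm
theorem f_48_2 : b • cq u48 = cq u16 := by
  have h := rel3 (cq u17)
  rw [f_17_2] at h
  rw [f_19_1] at h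
  rw [f_37_2] at h
  rw [f_49_1] at h
  have h0 := smul_left_cancel _ (h.trans f_16_1.symm)
  exact h0
theorem fi_48_2 : b⁻¹ • cq u16 = cq u48 := inv_smul_eq_iff.mpr f_48_2.symm
theorem f_40_1 : a • cq u40 = cq u15 := by
  have h := rel4 (cq u17)
  rw [f_17_3] at h
  rw [f_18_1] at h
  rw [f_41_3] at h
  have h0 := smul_left_cancel _ (h.trans f_16_1.symm)
  have h1 := smul_left_cancel _ (h0.trans f_15_3.symm)
  exact h1
theorem fi_40_1 : a⁻¹ • cq u15 = cq u40 := inv_smul_eq_iff.mpr f_40_1.symm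
theorem f_14_2 : b • cq u14 = cq u15 := by
  have h := rel6 (cq u17)
  rw [f_17_3] at h
  rw [f_18_2] at h
  rw [f_9_3] at h
  rw [f_1_1] at h
  rw [f_0_3] at h
  rw [f_3_2] at h
  rw [f_10_3] at h
  rw [f_11_1] at h
  rw [f_13_3] at h
  have h0 := smul_left_cancel _ (h.trans f_16_1.symm)
  have h1 := smul_left_cancel _ (h0.trans f_15_3.symm)
  exact h1
theorem fi_14_2 : b⁻¹ • cq u15 = cq u14 := inv_smul_eq_iff.mpr f_14_2.symm
theorem f_41_1 : a • cq u41 = cq u18 := by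
  have h := rel0 (cq u18)
  rw [f_18_1] at h
  exact h
theorem fi_41_1 : a⁻¹ • cq u18 = cq u41 := inv_smul_eq_iff.mpr f_41_1.symm
theorem f_43_2 : b • cq u43 = cq u41 := by
  have h := rel3 (cq u18)
  rw [f_18_2] at h
  rw [f_9_1] at h
  rw [f_8_2] at h
  rw [f_34_1] at h
  have h0 := smul_left_cancel _ (h.trans f_41_1.symm)
  exact h0
theorem fi_43_2 : b⁻¹ • cq u41 = cq u43 := inv_smul_eq_iff.mpr f_43_2.symm
theorem f_37_1 : a • cq u37 = cq u19 := by
  have h := rel0 (cq u19)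
  rw [f_19_1] at h
  exact h
theorem fi_37_1 : a⁻¹ • cq u19 = cq u37 := inv_smul_eq_iff.mpr f_37_1.symm
theorem f_36_3 : c • cq u36 = cq u37 := by
  have h := rel4 (cq u19)
  rw [f_19_3] at h
  rw [f_6_1] at h
  rw [f_5_3] at h
  rw [f_35_1] at h
  have h0 := smul_left_cancel _ (h.trans f_37_1.symm)
  exact h0
theorem fi_36_3 : c⁻¹ • cq u37 = cq u36 := inv_smul_eq_iff.mpr f_36_3.symm
theorem f_46_2 : b • cq u46 = cq u20 := by
  have h := rel1 (cq u20)
  rw [f_20_2] at h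
  exact h
theorem fi_46_2 : b⁻¹ • cq u20 = cq u46 := inv_smul_eq_iff.mpr f_46_2.symm
theorem f_20_3 : c • cq u20 = cq u21 := by
  have h := rel2 (cq u20)
  have h0 := smul_left_cancel _ (h.trans f_21_3.symm)
  exact h0
theorem fi_20_3 : c⁻¹ • cq u21 = cq u20 := inv_smul_eq_iff.mpr f_20_3.symm
theorem f_21_1 : a • cq u21 = cq u22 := by
  have h := rel4 (cq u20)
  rw [f_20_3] at h
  have h0 := smul_left_cancel _ (h.trans f_12_1.symm)
  have h1 := smul_left_cancel _ (h0.trans f_2_3.symm)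
  have h2 := smul_left_cancel _ (h1.trans f_4_1.symm)
  have h3 := smul_left_cancel _ (h2.trans f_22_3.symm)
  exact h3
theorem fi_21_1 : a⁻¹ • cq u22 = cq u21 := inv_smul_eq_iff.mpr f_21_1.symm
theorem f_31_2 : b • cq u31 = cq u21 := by
  have h := rel1 (cq u21)
  rw [f_21_2] at h
  exact h
theorem fi_31_2 : b⁻¹ • cq u21 = cq u31 := inv_smul_eq_iff.mpr f_31_2.symm
theorem f_28_2 : b • cq u28 = cq u22 := by
  have h := rel1 (cq u22)
  rw [f_22_2] at h
  exact h
theorem fi_28_2 : b⁻¹ • cq u22 = cq u28 := inv_smul_eq_iff.mpr f_28_2.symm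
theorem f_27_3 : c • cq u27 = cq u28 := by
  have h := rel5 (cq u22)
  rw [f_22_3] at h
  rw [f_4_2] at h
  rw [f_5_3] at h
  rw [f_35_2] at h
  have h0 := smul_left_cancel _ (h.trans f_28_2.symm)
  exact h0
theorem fi_27_3 : c⁻¹ • cq u28 = cq u27 := inv_smul_eq_iff.mpr f_27_3.symm
theorem f_23_2 : b • cq u23 = cq u29 := by
  have h := rel1 (cq u23)
  have h0 := smul_left_cancel _ (h.trans f_29_2.symm)
  exact h0
theorem fi_23_2 : b⁻¹ • cq u29 = cq u23 := inv_smul_eq_iff.mpr f_23_2.symm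
theorem f_24_3 : c • cq u24 = cq u23 := by
  have h := rel2 (cq u23)
  rw [f_23_3] at h
  exact h
theorem fi_24_3 : c⁻¹ • cq u23 = cq u24 := inv_smul_eq_iff.mpr f_24_3.symm
theorem f_29_1 : a • cq u29 = cq u30 := by
  have h := rel3 (cq u23)
  rw [f_23_2] at h
  have h0 := smul_left_cancel _ (h.trans f_10_1.symm)
  have h1 := smul_left_cancel _ (h0.trans f_3_2.symm)
  have h2 := smul_left_cancel _ (h1.trans f_7_1.symm)
  have h3 := smul_left_cancel _ (h2.trans f_30_2.symm)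
  exact h3
theorem fi_29_1 : a⁻¹ • cq u30 = cq u29 := inv_smul_eq_iff.mpr f_29_1.symm
theorem f_14_1 : a • cq u14 = cq u24 := by
  have h := rel0 (cq u24)
  rw [f_24_1] at h
  exact h
theorem fi_14_1 : a⁻¹ • cq u24 = cq u14 := inv_smul_eq_iff.mpr f_14_1.symm
theorem f_25_2 : b • cq u25 = cq u24 := by
  have h := rel1 (cq u24)
  rw [f_24_2] at h
  exact h
theorem fi_25_2 : b⁻¹ • cq u24 = cq u25 := inv_smul_eq_iff.mpr f_25_2.symm
theorem f_26_1 : a • cq u26 = cq u27 := by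
  have h := rel0 (cq u26)
  have h0 := smul_left_cancel _ (h.trans f_27_1.symm)
  exact h0
theorem fi_26_1 : a⁻¹ • cq u27 = cq u26 := inv_smul_eq_iff.mpr f_26_1.symm
theorem f_27_2 : b • cq u27 = cq u35 := by
  have h := rel1 (cq u27)
  have h0 := smul_left_cancel _ (h.trans f_35_2.symm)
  exact h0
theorem fi_27_2 : b⁻¹ • cq u35 = cq u27 := inv_smul_eq_iff.mpr f_27_2.symm
theorem f_28_3 : c • cq u28 = cq u27 := by
  have h := rel2 (cq u27)
  rw [f_27_3] at h
  exact h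
theorem fi_28_3 : c⁻¹ • cq u27 = cq u28 := inv_smul_eq_iff.mpr f_28_3.symm
theorem f_25_3 : c • cq u25 = cq u26 := by
  have h := rel6 (cq u27)
  rw [f_27_3] at h
  rw [f_28_2] at h
  rw [f_22_3] at h
  rw [f_4_1] at h
  rw [f_2_3] at h
  rw [f_12_2] at h
  rw [f_11_3] at h
  rw [f_10_1] at h
  rw [f_23_3] at h
  rw [f_24_2] at h
  have h0 := smul_left_cancel _ (h.trans f_26_1.symm)
  exact h0
theorem fi_25_3 : c⁻¹ • cq u26 = cq u25 := inv_smul_eq_iff.mpr f_25_3.symm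
theorem f_38_1 : a • cq u38 = cq u28 := by
  have h := rel0 (cq u28)
  rw [f_28_1] at h
  exact h
theorem fi_38_1 : a⁻¹ • cq u28 = cq u38 := inv_smul_eq_iff.mpr f_38_1.symm
theorem f_39_3 : c • cq u39 = cq u38 := by
  have h := rel6 (cq u28)
  rw [f_28_3] at h
  rw [f_27_2] at h
  rw [f_35_3] at h
  rw [f_5_1] at h
  rw [f_6_3] at h
  rw [f_19_2] at h
  rw [f_17_3] at h
  rw [f_18_1] at h
  rw [f_41_3] at h
  rw [f_40_2] at h
  have h0 := smul_left_cancel _ (h.trans f_38_1.symm)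
  exact h0
theorem fi_39_3 : c⁻¹ • cq u38 = cq u39 := inv_smul_eq_iff.mpr f_39_3.symm
theorem f_51_3 : c • cq u51 = cq u29 := by
  have h := rel2 (cq u29)
  rw [f_29_3] at h
  exact h
theorem fi_51_3 : c⁻¹ • cq u29 = cq u51 := inv_smul_eq_iff.mpr f_51_3.symm
theorem f_42_3 : c • cq u42 = cq u30 := by
  have h := rel2 (cq u30)
  rw [f_30_3] at h
  exact h
theorem fi_42_3 : c⁻¹ • cq u30 = cq u42 := inv_smul_eq_iff.mpr f_42_3.symm
theorem f_32_1 : a • cq u32 = cq u33 := by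
  have h := rel0 (cq u32)
  have h0 := smul_left_cancel _ (h.trans f_33_1.symm)
  exact h0
theorem fi_32_1 : a⁻¹ • cq u33 = cq u32 := inv_smul_eq_iff.mpr f_32_1.symm
theorem f_32_3 : c • cq u32 = cq u31 := by
  have h := rel6 (cq u32)
  have h0 := smul_left_cancel _ (h.trans f_33_1.symm)
  have h1 := smul_left_cancel _ (h0.trans f_34_3.symm)
  have h2 := smul_left_cancel _ (h1.trans f_8_2.symm)
  have h3 := smul_left_cancel _ (h2.trans f_7_3.symm)
  have h4 := smul_left_cancel _ (h3.trans f_3_1.symm)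
  have h5 := smul_left_cancel _ (h4.trans f_0_3.symm)
  have h6 := smul_left_cancel _ (h5.trans f_2_2.symm)
  have h7 := smul_left_cancel _ (h6.trans f_12_3.symm)
  have h8 := smul_left_cancel _ (h7.trans f_20_1.symm)
  have h9 := smul_left_cancel _ (h8.trans f_21_3.symm)
  have h10 := smul_left_cancel _ (h9.trans f_31_2.symm)
  exact h10
theorem fi_32_3 : c⁻¹ • cq u31 = cq u32 := inv_smul_eq_iff.mpr f_32_3.symm
theorem f_33_3 : c • cq u33 = cq u34 := by
  have h := rel2 (cq u33)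
  have h0 := smul_left_cancel _ (h.trans f_34_3.symm)
  exact h0
theorem fi_33_3 : c⁻¹ • cq u34 = cq u33 := inv_smul_eq_iff.mpr f_33_3.symm
theorem f_42_2 : b • cq u42 = cq u33 := by
  have h := rel5 (cq u33)
  rw [f_33_3] at h
  rw [f_34_2] at h
  rw [f_8_3] at h
  rw [f_7_2] at h
  rw [f_30_3] at h
  exact h
theorem fi_42_2 : b⁻¹ • cq u33 = cq u42 := inv_smul_eq_iff.mpr f_42_2.symm
theorem f_31_3 : c • cq u31 = cq u32 := by
  have h := rel6 (cq u33)
  rw [f_33_3] at h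
  rw [f_34_2] at h
  rw [f_8_3] at h
  rw [f_7_1] at h
  rw [f_3_3] at h
  rw [f_0_2] at h
  rw [f_2_3] at h
  rw [f_12_1] at h
  rw [f_20_3] at h
  rw [f_21_2] at h
  have h0 := smul_left_cancel _ (h.trans f_32_1.symm)
  exact h0
theorem fi_31_3 : c⁻¹ • cq u32 = cq u31 := inv_smul_eq_iff.mpr f_31_3.symm
theorem f_43_1 : a • cq u43 = cq u34 := by
  have h := rel0 (cq u34)
  rw [f_34_1] at h
  exact h
theorem fi_43_1 : a⁻¹ • cq u34 = cq u43 := inv_smul_eq_iff.mpr f_43_1.symm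
theorem f_41_2 : b • cq u41 = cq u43 := by
  have h := rel3 (cq u34)
  rw [f_34_2] at h
  rw [f_8_1] at h
  rw [f_9_2] at h
  rw [f_18_1] at h
  have h0 := smul_left_cancel _ (h.trans f_43_1.symm)
  exact h0
theorem fi_41_2 : b⁻¹ • cq u43 = cq u41 := inv_smul_eq_iff.mpr f_41_2.symm
theorem f_33_2 : b • cq u33 = cq u42 := by
  have h := rel5 (cq u34)
  rw [f_34_3] at h
  have h0 := smul_left_cancel _ (h.trans f_8_2.symm)
  have h1 := smul_left_cancel _ (h0.trans f_7_3.symm)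
  have h2 := smul_left_cancel _ (h1.trans f_30_2.symm)
  have h3 := smul_left_cancel _ (h2.trans f_42_3.symm)
  exact h3
theorem fi_33_2 : b⁻¹ • cq u42 = cq u33 := inv_smul_eq_iff.mpr f_33_2.symm
theorem f_36_1 : a • cq u36 = cq u35 := by
  have h := rel0 (cq u35)
  rw [f_35_1] at h
  exact h
theorem fi_36_1 : a⁻¹ • cq u35 = cq u36 := inv_smul_eq_iff.mpr f_36_1.symm
theorem f_37_3 : c • cq u37 = cq u36 := by
  have h := rel4 (cq u35)
  rw [f_35_3] at h
  rw [f_5_1] at h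
  rw [f_6_3] at h
  rw [f_19_1] at h
  have h0 := smul_left_cancel _ (h.trans f_36_1.symm)
  exact h0
theorem fi_37_3 : c⁻¹ • cq u36 = cq u37 := inv_smul_eq_iff.mpr f_37_3.symm
theorem f_45_2 : b • cq u45 = cq u36 := by
  have h := rel1 (cq u36)
  rw [f_36_2] at h
  exact h
theorem fi_45_2 : b⁻¹ • cq u36 = cq u45 := inv_smul_eq_iff.mpr f_45_2.symm
theorem f_49_2 : b • cq u49 = cq u37 := by
  have h := rel1 (cq u37)
  rw [f_37_2] at h
  exact h
theorem fi_49_2 : b⁻¹ • cq u37 = cq u49 := inv_smul_eq_iff.mpr f_49_2.symm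
theorem f_38_3 : c • cq u38 = cq u39 := by
  have h := rel2 (cq u38)
  have h0 := smul_left_cancel _ (h.trans f_39_3.symm)
  exact h0
theorem fi_38_3 : c⁻¹ • cq u39 = cq u38 := inv_smul_eq_iff.mpr f_38_3.symm
theorem f_39_1 : a • cq u39 = cq u25 := by
  have h := rel4 (cq u38)
  rw [f_38_3] at h
  have h0 := smul_left_cancel _ (h.trans f_28_1.symm)
  have h1 := smul_left_cancel _ (h0.trans f_27_3.symm)
  have h2 := smul_left_cancel _ (h1.trans f_26_1.symm)
  have h3 := smul_left_cancel _ (h2.trans f_25_3.symm)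
  exact h3
theorem fi_39_1 : a⁻¹ • cq u25 = cq u39 := inv_smul_eq_iff.mpr f_39_1.symm
theorem f_25_1 : a • cq u25 = cq u39 := by
  have h := rel0 (cq u39)
  rw [f_39_1] at h
  exact h
theorem fi_25_1 : a⁻¹ • cq u39 = cq u25 := inv_smul_eq_iff.mpr f_25_1.symm
theorem f_39_2 : b • cq u39 = cq u40 := by
  have h := rel1 (cq u39)
  have h0 := smul_left_cancel _ (h.trans f_40_2.symm)
  exact h0
theorem fi_39_2 : b⁻¹ • cq u40 = cq u39 := inv_smul_eq_iff.mpr f_39_2.symm
theorem f_15_2 : b • cq u15 = cq u14 := by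
  have h := rel3 (cq u39)
  rw [f_39_2] at h
  rw [f_40_1] at h
  have h0 := smul_left_cancel _ (h.trans f_25_1.symm)
  have h1 := smul_left_cancel _ (h0.trans f_24_2.symm)
  have h2 := smul_left_cancel _ (h1.trans f_14_1.symm)
  exact h2
theorem fi_15_2 : b⁻¹ • cq u14 = cq u15 := inv_smul_eq_iff.mpr f_15_2.symm
theorem f_26_3 : c • cq u26 = cq u25 := by
  have h := rel4 (cq u39)
  rw [f_39_3] at h
  rw [f_38_1] at h
  rw [f_28_3] at h
  rw [f_27_1] at h
  have h0 := smul_left_cancel _ (h.trans f_25_1.symm)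
  exact h0
theorem fi_26_3 : c⁻¹ • cq u25 = cq u26 := inv_smul_eq_iff.mpr f_26_3.symm
theorem f_15_1 : a • cq u15 = cq u40 := by
  have h := rel0 (cq u40)
  rw [f_40_1] at h
  exact h
theorem fi_15_1 : a⁻¹ • cq u40 = cq u15 := inv_smul_eq_iff.mpr f_15_1.symm
theorem f_40_3 : c • cq u40 = cq u41 := by
  have h := rel2 (cq u40)
  have h0 := smul_left_cancel _ (h.trans f_41_3.symm)
  exact h0
theorem fi_40_3 : c⁻¹ • cq u41 = cq u40 := inv_smul_eq_iff.mpr f_40_3.symm
theorem f_53_2 : b • cq u53 = cq u38 := by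
  have h := rel5 (cq u40)
  rw [f_40_3] at h
  rw [f_41_2] at h
  rw [f_43_3] at h
  have h0 := smul_left_cancel _ (h.trans f_39_2.symm)
  have h1 := smul_left_cancel _ (h0.trans f_38_3.symm)
  exact h1
theorem fi_53_2 : b⁻¹ • cq u38 = cq u53 := inv_smul_eq_iff.mpr f_53_2.symm
theorem f_44_1 : a • cq u44 = cq u42 := by
  have h := rel0 (cq u42)
  rw [f_42_1] at h
  exact h
theorem fi_44_1 : a⁻¹ • cq u42 = cq u44 := inv_smul_eq_iff.mpr f_44_1.symm
theorem f_45_3 : c • cq u45 = cq u44 := by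
  have h := rel6 (cq u42)
  rw [f_42_3] at h
  rw [f_30_2] at h
  rw [f_7_3] at h
  rw [f_8_1] at h
  rw [f_9_3] at h
  rw [f_1_2] at h
  rw [f_6_3] at h
  rw [f_19_1] at h
  rw [f_37_3] at h
  rw [f_36_2] at h
  have h0 := smul_left_cancel _ (h.trans f_44_1.symm)
  exact h0
theorem fi_45_3 : c⁻¹ • cq u44 = cq u45 := inv_smul_eq_iff.mpr f_45_3.symm
theorem f_53_3 : c • cq u53 = cq u43 := by
  have h := rel2 (cq u43)
  rw [f_43_3] at h
  exact h
theorem fi_53_3 : c⁻¹ • cq u43 = cq u53 := inv_smul_eq_iff.mpr f_53_3.symm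
theorem f_53_1 : a • cq u53 = cq u31 := by
  have h := rel4 (cq u43)
  rw [f_43_3] at h
  have h0 := smul_left_cancel _ (h.trans f_34_1.symm)
  have h1 := smul_left_cancel _ (h0.trans f_33_3.symm)
  have h2 := smul_left_cancel _ (h1.trans f_32_1.symm)
  have h3 := smul_left_cancel _ (h2.trans f_31_3.symm)
  exact h3
theorem fi_53_1 : a⁻¹ • cq u31 = cq u53 := inv_smul_eq_iff.mpr f_53_1.symm
theorem f_26_2 : b • cq u26 = cq u51 := by
  have h := rel6 (cq u43)
  rw [f_43_3] at h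
  rw [f_53_2] at h
  rw [f_38_3] at h
  rw [f_39_1] at h
  rw [f_25_3] at h
  have h0 := smul_left_cancel _ (h.trans f_34_1.symm)
  have h1 := smul_left_cancel _ (h0.trans f_33_3.symm)
  have h2 := smul_left_cancel _ (h1.trans f_42_2.symm)
  have h3 := smul_left_cancel _ (h2.trans f_30_3.symm)
  have h4 := smul_left_cancel _ (h3.trans f_29_1.symm)
  have h5 := smul_left_cancel _ (h4.trans f_51_3.symm)
  exact h5
theorem fi_26_2 : b⁻¹ • cq u51 = cq u26 := inv_smul_eq_iff.mpr f_26_2.symm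
theorem f_44_3 : c • cq u44 = cq u45 := by
  have h := rel2 (cq u44)
  have h0 := smul_left_cancel _ (h.trans f_45_3.symm)
  exact h0
theorem fi_44_3 : c⁻¹ • cq u45 = cq u44 := inv_smul_eq_iff.mpr f_44_3.symm
theorem f_45_1 : a • cq u45 = cq u51 := by
  have h := rel4 (cq u44)
  rw [f_44_3] at h
  have h0 := smul_left_cancel _ (h.trans f_42_1.symm)
  have h1 := smul_left_cancel _ (h0.trans f_30_3.symm)
  have h2 := smul_left_cancel _ (h1.trans f_29_1.symm)
  have h3 := smul_left_cancel _ (h2.trans f_51_3.symm)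
  exact h3
theorem fi_45_1 : a⁻¹ • cq u51 = cq u45 := inv_smul_eq_iff.mpr f_45_1.symm
theorem f_50_2 : b • cq u50 = cq u44 := by
  have h := rel5 (cq u44)
  rw [f_44_3] at h
  rw [f_45_2] at h
  rw [f_36_3] at h
  rw [f_37_2] at h
  rw [f_49_3] at h
  exact h
theorem fi_50_2 : b⁻¹ • cq u44 = cq u50 := inv_smul_eq_iff.mpr f_50_2.symm
theorem f_51_1 : a • cq u51 = cq u45 := by
  have h := rel0 (cq u45)
  rw [f_45_1] at h
  exact h
theorem fi_51_1 : a⁻¹ • cq u45 = cq u51 := inv_smul_eq_iff.mpr f_51_1.symm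
theorem f_47_1 : a • cq u47 = cq u46 := by
  have h := rel0 (cq u46)
  rw [f_46_1] at h
  exact h
theorem fi_47_1 : a⁻¹ • cq u46 = cq u47 := inv_smul_eq_iff.mpr f_47_1.symm
theorem f_52_3 : c • cq u52 = cq u46 := by
  have h := rel2 (cq u46)
  rw [f_46_3] at h
  exact h
theorem fi_52_3 : c⁻¹ • cq u46 = cq u52 := inv_smul_eq_iff.mpr f_52_3.symm
theorem f_52_2 : b • cq u52 = cq u32 := by
  have h := rel5 (cq u46)
  rw [f_46_3] at h
  have h0 := smul_left_cancel _ (h.trans f_20_2.symm)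
  have h1 := smul_left_cancel _ (h0.trans f_21_3.symm)
  have h2 := smul_left_cancel _ (h1.trans f_31_2.symm)
  have h3 := smul_left_cancel _ (h2.trans f_32_3.symm)
  exact h3
theorem fi_52_2 : b⁻¹ • cq u32 = cq u52 := inv_smul_eq_iff.mpr f_52_2.symm
theorem f_47_3 : c • cq u47 = cq u48 := by
  have h := rel5 (cq u47)
  have h0 := smul_left_cancel _ (h.trans f_13_2.symm)
  have h1 := smul_left_cancel _ (h0.trans f_14_3.symm)
  have h2 := smul_left_cancel _ (h1.trans f_15_2.symm)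
  have h3 := smul_left_cancel _ (h2.trans f_16_3.symm)
  have h4 := smul_left_cancel _ (h3.trans f_48_2.symm)
  exact h4
theorem fi_47_3 : c⁻¹ • cq u48 = cq u47 := inv_smul_eq_iff.mpr f_47_3.symm
theorem f_32_2 : b • cq u32 = cq u52 := by
  have h := rel6 (cq u47)
  rw [f_47_3] at h
  rw [f_48_2] at h
  rw [f_16_3] at h
  rw [f_15_1] at h
  rw [f_40_3] at h
  rw [f_41_2] at h
  rw [f_43_3] at h
  rw [f_53_1] at h
  rw [f_31_3] at h
  have h0 := smul_left_cancel _ (h.trans f_46_1.symm)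
  have h1 := smul_left_cancel _ (h0.trans f_52_3.symm)
  exact h1
theorem fi_32_2 : b⁻¹ • cq u52 = cq u32 := inv_smul_eq_iff.mpr f_32_2.symm
theorem f_48_1 : a • cq u48 = cq u49 := by
  have h := rel0 (cq u48)
  have h0 := smul_left_cancel _ (h.trans f_49_1.symm)
  exact h0
theorem fi_48_1 : a⁻¹ • cq u49 = cq u48 := inv_smul_eq_iff.mpr f_48_1.symm
theorem f_16_2 : b • cq u16 = cq u48 := by
  have h := rel1 (cq u48)
  rw [f_48_2] at h
  exact h
theorem fi_16_2 : b⁻¹ • cq u48 = cq u16 := inv_smul_eq_iff.mpr f_16_2.symm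
theorem f_48_3 : c • cq u48 = cq u47 := by
  have h := rel2 (cq u48)
  have h0 := smul_left_cancel _ (h.trans f_47_3.symm)
  exact h0
theorem fi_48_3 : c⁻¹ • cq u47 = cq u48 := inv_smul_eq_iff.mpr f_48_3.symm
theorem f_50_3 : c • cq u50 = cq u49 := by
  have h := rel2 (cq u49)
  rw [f_49_3] at h
  exact h
theorem fi_50_3 : c⁻¹ • cq u49 = cq u50 := inv_smul_eq_iff.mpr f_50_3.symm
theorem f_50_1 : a • cq u50 = cq u52 := by
  have h := rel4 (cq u49)
  rw [f_49_3] at h
  have h0 := smul_left_cancel _ (h.trans f_48_1.symm)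
  have h1 := smul_left_cancel _ (h0.trans f_47_3.symm)
  have h2 := smul_left_cancel _ (h1.trans f_46_1.symm)
  have h3 := smul_left_cancel _ (h2.trans f_52_3.symm)
  exact h3
theorem fi_50_1 : a⁻¹ • cq u52 = cq u50 := inv_smul_eq_iff.mpr f_50_1.symm
theorem f_52_1 : a • cq u52 = cq u50 := by
  have h := rel0 (cq u50)
  rw [f_50_1] at h
  exact h
theorem fi_52_1 : a⁻¹ • cq u50 = cq u52 := inv_smul_eq_iff.mpr f_52_1.symm
theorem f_44_2 : b • cq u44 = cq u50 := by
  have h := rel1 (cq u50)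
  rw [f_50_2] at h
  exact h
theorem fi_44_2 : b⁻¹ • cq u50 = cq u44 := inv_smul_eq_iff.mpr f_44_2.symm
theorem f_51_2 : b • cq u51 = cq u26 := by
  have h := rel1 (cq u51)
  have h0 := smul_left_cancel _ (h.trans f_26_2.symm)
  exact h0
theorem fi_51_2 : b⁻¹ • cq u26 = cq u51 := inv_smul_eq_iff.mpr f_51_2.symm
theorem f_31_1 : a • cq u31 = cq u53 := by
  have h := rel0 (cq u53)
  rw [f_53_1] at h
  exact h
theorem fi_31_1 : a⁻¹ • cq u53 = cq u31 := inv_smul_eq_iff.mpr f_31_1.symm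
theorem f_38_2 : b • cq u38 = cq u53 := by
  have h := rel1 (cq u53)
  rw [f_53_2] at h
  exact h
theorem fi_38_2 : b⁻¹ • cq u53 = cq u38 := inv_smul_eq_iff.mpr f_38_2.symm

def u : Fin 54 → G := ![u0, u1, u2, u3, u4, u5, u6, u7, u8, u9, u10, u11, u12, u13, u14, u15, u16, u17, u18, u19, u20, u21, u22, u23, u24, u25, u26, u27, u28, u29, u30, u31, u32, u33, u34, u35, u36, u37, u38, u39, u40, u41, u42, u43, u44, u45, u46, u47, u48, u49, u50, u51, u52, u53]
def nxt1 : Fin 54 → Fin 54 := ![1, 0, 4, 7, 2, 6, 5, 3, 9, 8, 23, 13, 20, 11, 24, 40, 17, 16, 41, 37, 12, 22, 21, 10, 14, 39, 27, 26, 38, 30, 29, 53, 33, 32, 43, 36, 35, 19, 28, 25, 15, 18, 44, 34, 42, 51, 47, 46, 49, 48, 52, 45, 50, 31]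
theorem act1 : ∀ k : Fin 54, a • cq (u k) = cq (u (nxt1 k)) := by
  intro k; fin_cases k
  · exact f_0_1
  · exact f_1_1
  · exact f_2_1
  · exact f_3_1
  · exact f_4_1
  · exact f_5_1
  · exact f_6_1
  · exact f_7_1
  · exact f_8_1
  · exact f_9_1
  · exact f_10_1
  · exact f_11_1
  · exact f_12_1
  · exact f_13_1
  · exact f_14_1
  · exact f_15_1
  · exact f_16_1
  · exact f_17_1
  · exact f_18_1
  · exact f_19_1
  · exact f_20_1
  · exact f_21_1
  · exact f_22_1
  · exact f_23_1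
  · exact f_24_1
  · exact f_25_1
  · exact f_26_1
  · exact f_27_1
  · exact f_28_1
  · exact f_29_1
  · exact f_30_1
  · exact f_31_1
  · exact f_32_1
  · exact f_33_1
  · exact f_34_1
  · exact f_35_1
  · exact f_36_1
  · exact f_37_1
  · exact f_38_1
  · exact f_39_1
  · exact f_40_1
  · exact f_41_1
  · exact f_42_1
  · exact f_43_1
  · exact f_44_1
  · exact f_45_1
  · exact f_46_1
  · exact f_47_1
  · exact f_48_1
  · exact f_49_1
  · exact f_50_1
  · exact f_51_1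
  · exact f_52_1
  · exact f_53_1
def nxt2 : Fin 54 → Fin 54 := ![2, 6, 0, 10, 5, 4, 1, 30, 34, 18, 3, 12, 11, 47, 15, 14, 48, 19, 9, 17, 46, 31, 28, 29, 25, 24, 51, 35, 22, 23, 7, 21, 52, 42, 8, 27, 45, 49, 53, 40, 39, 43, 33, 41, 50, 36, 20, 13, 16, 37, 44, 26, 32, 38]
theorem act2 : ∀ k : Fin 54, b • cq (u k) = cq (u (nxt2 k)) := by
  intro k; fin_cases k
  · exact f_0_2
  · exact f_1_2
  · exact f_2_2
  · exact f_3_2
  · exact f_4_2
  · exact f_5_2
  · exact f_6_2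
  · exact f_7_2
  · exact f_8_2
  · exact f_9_2
  · exact f_10_2
  · exact f_11_2
  · exact f_12_2
  · exact f_13_2
  · exact f_14_2
  · exact f_15_2
  · exact f_16_2
  · exact f_17_2
  · exact f_18_2
  · exact f_19_2
  · exact f_20_2
  · exact f_21_2
  · exact f_22_2
  · exact f_23_2
  · exact f_24_2
  · exact f_25_2
  · exact f_26_2
  · exact f_27_2
  · exact f_28_2
  · exact f_29_2
  · exact f_30_2
  · exact f_31_2
  · exact f_32_2
  · exact f_33_2
  · exact f_34_2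
  · exact f_35_2
  · exact f_36_2
  · exact f_37_2
  · exact f_38_2
  · exact f_39_2
  · exact f_40_2
  · exact f_41_2
  · exact f_42_2
  · exact f_43_2
  · exact f_44_2
  · exact f_45_2
  · exact f_46_2
  · exact f_47_2
  · exact f_48_2
  · exact f_49_2
  · exact f_50_2
  · exact f_51_2
  · exact f_52_2
  · exact f_53_2
def nxt3 : Fin 54 → Fin 54 := ![3, 9, 12, 0, 22, 35, 19, 8, 7, 1, 11, 10, 2, 14, 13, 16, 15, 18, 17, 6, 21, 20, 4, 24, 23, 26, 25, 28, 27, 51, 42, 32, 31, 34, 33, 5, 37, 36, 39, 38, 41, 40, 30, 53, 45, 44, 52, 48, 47, 50, 49, 29, 46, 43]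
theorem act3 : ∀ k : Fin 54, c • cq (u k) = cq (u (nxt3 k)) := by
  intro k; fin_cases k
  · exact f_0_3
  · exact f_1_3
  · exact f_2_3
  · exact f_3_3
  · exact f_4_3
  · exact f_5_3
  · exact f_6_3
  · exact f_7_3
  · exact f_8_3
  · exact f_9_3
  · exact f_10_3
  · exact f_11_3
  · exact f_12_3
  · exact f_13_3
  · exact f_14_3
  · exact f_15_3
  · exact f_16_3
  · exact f_17_3
  · exact f_18_3
  · exact f_19_3
  · exact f_20_3
  · exact f_21_3
  · exact f_22_3
  · exact f_23_3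
  · exact f_24_3
  · exact f_25_3
  · exact f_26_3
  · exact f_27_3
  · exact f_28_3
  · exact f_29_3
  · exact f_30_3
  · exact f_31_3
  · exact f_32_3
  · exact f_33_3
  · exact f_34_3
  · exact f_35_3
  · exact f_36_3
  · exact f_37_3
  · exact f_38_3
  · exact f_39_3
  · exact f_40_3
  · exact f_41_3
  · exact f_42_3
  · exact f_43_3
  · exact f_44_3
  · exact f_45_3
  · exact f_46_3
  · exact f_47_3
  · exact f_48_3
  · exact f_49_3
  · exact f_50_3
  · exact f_51_3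
  · exact f_52_3
  · exact f_53_3


theorem ainv : a⁻¹ = a := inv_eq_of_mul_eq_one_right hrel0
theorem binv : b⁻¹ = b := inv_eq_of_mul_eq_one_right hrel1
theorem cinv : c⁻¹ = c := inv_eq_of_mul_eq_one_right hrel2

/-- Every group element maps coset representatives to coset representatives. -/
theorem reach (x : G) : ∀ k : Fin 54, ∃ d : Fin 54, x • cq (u k) = cq (u d) := by
  induction x using PresentedGroup.induction_on with
  | _ z =>
  induction z using FreeGroup.induction_on with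
  | C1 => intro k; exact ⟨k, by rw [map_one, one_smul]⟩
  | of i =>
    intro k
    fin_cases i
    · exact ⟨nxt1 k, act1 k⟩
    · exact ⟨nxt2 k, act2 k⟩
    · exact ⟨nxt3 k, act3 k⟩
  | inv_of i _ =>
    intro k
    fin_cases i
    · refine ⟨nxt1 k, ?_⟩
      show (PresentedGroup.mk rels (FreeGroup.of 0)⁻¹) • cq (u k) = _
      rw [map_inv]
      show a⁻¹ • cq (u k) = _
      rw [ainv, act1]
    · refine ⟨nxt2 k, ?_⟩
      show (PresentedGroup.mk rels (FreeGroup.of 1)⁻¹) • cq (u k) = _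
      rw [map_inv]
      show b⁻¹ • cq (u k) = _
      rw [binv, act2]
    · refine ⟨nxt3 k, ?_⟩
      show (PresentedGroup.mk rels (FreeGroup.of 2)⁻¹) • cq (u k) = _
      rw [map_inv]
      show c⁻¹ • cq (u k) = _
      rw [cinv, act3]
  | mul x y ihx ihy =>
    intro k
    obtain ⟨d, hd⟩ := ihy k
    obtain ⟨e, he⟩ := ihx d
    exact ⟨e, by rw [map_mul, mul_smul, hd, he]⟩

theorem surj_reps : Function.Surjective (fun k : Fin 54 => cq (u k)) := by
  intro q
  induction q using QuotientGroup.induction_on with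
  | H x =>
  obtain ⟨d, hd⟩ := reach x 0
  refine ⟨d, ?_⟩
  show cq (u d) = cq x
  rw [← hd, smul_cq]
  show cq (x * u0) = cq x
  rw [u0, mul_one]

instance finiteQ : Finite Q := Finite.of_surjective _ surj_reps

theorem cardQ : Nat.card Q ≤ 54 := by
  have := Nat.card_le_card_of_surjective _ surj_reps
  simpa using this

instance finiteG : Finite G := Finite.of_equiv Q (QuotientGroup.quotientBot (G := G)).toEquiv

theorem cardG_le : Nat.card G ≤ 54 := by
  rw [← Nat.card_congr (QuotientGroup.quotientBot (G := G)).toEquiv]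
  exact cardQ

/-- the bound in an arbitrary group -/
theorem card_closure_le {G₀ : Type*} [Group G₀] (x y z : G₀) (hx : x ^ 2 = 1) (hy : y ^ 2 = 1)
    (hz : z ^ 2 = 1) (hxy : (x * y) ^ 3 = 1) (hxz : (x * z) ^ 3 = 1) (hyz : (y * z) ^ 3 = 1)
    (hxzyz : (x * z * y * z) ^ 3 = 1) :
    Finite (Subgroup.closure ({x, y, z} : Set G₀)) ∧
      Nat.card (Subgroup.closure ({x, y, z} : Set G₀)) ≤ 54 := by
  have hr : ∀ r ∈ rels, FreeGroup.lift ![x, y, z] r = 1 := by
    intro r hr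
    simp only [rels, Set.mem_insert_iff, Set.mem_singleton_iff] at hr
    rcases hr with rfl | rfl | rfl | rfl | rfl | rfl | rfl
    · simpa using hx
    · simpa using hy
    · simpa using hz
    · simpa using hxy
    · simpa using hxz
    · simpa using hyz
    · simpa using hxzyz
  let φ : G →* G₀ := PresentedGroup.toGroup hr
  have hφa : φ a = x := by simp [φ, a]
  have hφb : φ b = y := by simp [φ, b]
  have hφc : φ c = z := by simp [φ, c]
  have hrange : Subgroup.closure ({x, y, z} : Set G₀) ≤ φ.range := by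
    rw [Subgroup.closure_le]
    intro g hg
    simp only [Set.mem_insert_iff, Set.mem_singleton_iff] at hg
    rcases hg with rfl | rfl | rfl
    · exact ⟨a, hφa⟩
    · exact ⟨b, hφb⟩
    · exact ⟨c, hφc⟩
  have hfin : Finite φ.range := Finite.of_surjective φ.rangeRestrict φ.rangeRestrict_surjective
  have hcard : Nat.card φ.range ≤ 54 :=
    (Nat.card_le_card_of_surjective φ.rangeRestrict φ.rangeRestrict_surjective).trans cardG_le
  refine ⟨Finite.of_injective (Subgroup.inclusion hrange) (Subgroup.inclusion_injective hrange), ?_⟩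
  exact (Nat.card_le_card_of_injective (Subgroup.inclusion hrange)
    (Subgroup.inclusion_injective hrange)).trans hcard

end Cfsg.Agent.Lib.Helper8_TC54
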