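import Mathlib
import Cfsg.Agent.Lib.Helper92_TTDefs
import Cfsg.Agent.Lib.Helper8_TC54
import Cfsg.Agent.Lib.Helper31_TT_M1a

/-!
# S5559 package TT-M9 (helper31, architect helper92): the non-abelian case, `|K| = 54`

`card_of_not_comm_of` takes the conclusion of `gen_two` (package TT-M8) as a hypothesis.
-/

set_option autoImplicit false
set_option linter.unusedSectionVars false

namespace Cfsg.Agent.Lib.Helper31_TT_M9

open Cfsg.Agent.Lib.Helper92_TTDefs Cfsg.Agent.Lib.Helper31_TT_M1a

section abstract

variable {K W : Type*} [Group K] [Group W] [Finite K] [Finite W]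
  {rho : K →* MulAut W} {P : Subgroup K} {t : K}

/-- a non-abelian `3`-group has order at least `27` -/
theorem card_ge_of_not_comm {P : Type*} [Group P] (h3 : IsPGroup 3 P) [Finite P]
    (hnc : ¬ ∀ x y : P, x * y = y * x) : 27 ≤ Nat.card P := by
  have : Fact (Nat.Prime 3) := ⟨by norm_num⟩
  obtain ⟨n, hn⟩ := IsPGroup.iff_card.mp h3
  have hn3 : 3 ≤ n := by
    by_contra hlt
    apply hnc
    have hn' : n = 0 ∨ n = 1 ∨ n = 2 := by omega
    rcases hn' with rfl | rfl | rfl
    · rw [pow_zero] at hn
      have hs : Subsingleton P := (Nat.card_eq_one_iff_unique.mp hn).1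
      intro x y
      exact Subsingleton.elim _ _
    · rw [pow_one] at hn
      have hcyc : IsCyclic P := isCyclic_of_prime_card hn
      exact isMulCommutative_iff.mp inferInstance
    · exact isMulCommutative_iff.mp (IsPGroup.isMulCommutative_of_card_eq_prime_sq hn)
  rw [hn]
  calc 27 = 3 ^ 3 := by norm_num
    _ ≤ 3 ^ n := Nat.pow_le_pow_right (by norm_num) hn3

/-- **TT-M9**, with the conclusion of `gen_two` as a hypothesis -/
theorem card_of_not_comm_of (h : Hyp rho P t) (hnc : ¬ ∀ x ∈ P, ∀ y ∈ P, x * y = y * x)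
    (hgen : ∃ i ∈ Inv P t, ∃ j ∈ Inv P t, Subgroup.closure {i, j} = P) :
    Nat.card K = 54 ∧ ∃ i ∈ Inv P t, ∃ j ∈ Inv P t,
      Subgroup.closure {t, t * i, t * j} = ⊤ := by
  have ht := t_inv h
  have hsq := h.sq
  obtain ⟨i, hi, j, hj, hij⟩ := hgen
  -- generation
  have htop : Subgroup.closure ({t, t * i, t * j} : Set K) = ⊤ := by
    rw [eq_top_iff]
    intro g _
    have htR : t ∈ Subgroup.closure ({t, t * i, t * j} : Set K) :=
      Subgroup.subset_closure (by simp)
    have hiR : i ∈ Subgroup.closure ({t, t * i, t * j} : Set K) := by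
      have h1 : t * i ∈ Subgroup.closure ({t, t * i, t * j} : Set K) :=
        Subgroup.subset_closure (by simp)
      have h2 := Subgroup.mul_mem _ htR h1
      rwa [← mul_assoc, hsq, one_mul] at h2
    have hjR : j ∈ Subgroup.closure ({t, t * i, t * j} : Set K) := by
      have h1 : t * j ∈ Subgroup.closure ({t, t * i, t * j} : Set K) :=
        Subgroup.subset_closure (by simp)
      have h2 := Subgroup.mul_mem _ htR h1
      rwa [← mul_assoc, hsq, one_mul] at h2
    have hPR : P ≤ Subgroup.closure ({t, t * i, t * j} : Set K) := by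
      rw [← hij, Subgroup.closure_le]
      intro x hx
      simp only [Set.mem_insert_iff, Set.mem_singleton_iff] at hx
      rcases hx with rfl | rfl
      · exact hiR
      · exact hjR
    by_cases hg : g ∈ P
    · exact hPR hg
    · have h1 : t * g ∈ P := by
        rw [Subgroup.mul_mem_iff_of_index_two h.index]
        exact ⟨fun h2 => absurd h2 h.notMem, fun h2 => absurd h2 hg⟩
      have h2 := Subgroup.mul_mem _ htR (hPR h1)
      rwa [← mul_assoc, hsq, one_mul] at h2
  refine ⟨?_, i, hi, j, hj, htop⟩
  -- the upper bound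
  have hx : t ^ 2 = 1 := by rw [pow_two, hsq]
  have hy : (t * i) ^ 2 = 1 := by
    rw [pow_two]
    calc t * i * (t * i) = (t * i * t) * i := by group
      _ = 1 := by rw [hi.2, inv_mul_cancel]
  have hz : (t * j) ^ 2 = 1 := by
    rw [pow_two]
    calc t * j * (t * j) = (t * j * t) * j := by group
      _ = 1 := by rw [hj.2, inv_mul_cancel]
  have hxy : (t * (t * i)) ^ 3 = 1 := by
    rw [← mul_assoc, hsq, one_mul]; exact cube_of_mem h hi
  have hxz : (t * (t * j)) ^ 3 = 1 := by
    rw [← mul_assoc, hsq, one_mul]; exact cube_of_mem h hj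
  have hyz : ((t * i) * (t * j)) ^ 3 = 1 := by
    have e : (t * i) * (t * j) = i⁻¹ * j := by
      calc (t * i) * (t * j) = (t * i * t) * j := by group
        _ = i⁻¹ * j := by rw [hi.2]
    rw [e]; exact cube_mul h hi hj
  have hxzyz : (t * (t * j) * (t * i) * (t * j)) ^ 3 = 1 := by
    have e : t * (t * j) * (t * i) * (t * j) = j * i⁻¹ * j := by
      calc t * (t * j) * (t * i) * (t * j) = (t * t) * j * (t * i * t) * j := by group
        _ = j * i⁻¹ * j := by rw [hsq, hi.2, one_mul]
    rw [e]; exact cube_of_mem h (tri_mem_Inv h hj hi)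
  have hle := (Cfsg.Agent.Lib.Helper8_TC54.card_closure_le t (t * i) (t * j) hx hy hz hxy hxz hyz
    hxzyz).2
  rw [htop, Subgroup.card_top] at hle
  -- the lower bound
  have hP27 : 27 ≤ Nat.card P := by
    apply card_ge_of_not_comm h.three
    intro hc
    apply hnc
    intro x hx y hy
    have := hc ⟨x, hx⟩ ⟨y, hy⟩
    exact congrArg Subtype.val this
  have hK : Nat.card P * 2 = Nat.card K := by
    rw [← h.index]; exact Subgroup.card_mul_index P
  omega

end abstract

end Cfsg.Agent.Lib.Helper31_TT_M9
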