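import Mathlib
import Cfsg.Agent.Lib.Helper30_TZADefs

set_option autoImplicit false
set_option linter.unusedSectionVars false
set_option linter.unusedVariables false

/-!
# TZA package FIBCARD (architect helper30, for S2524 Part A): the fibre of `T ↦ T 0 0` over `a ≠ 0`
has at least `q^m |fib O a|` elements.
-/

open Matrix
open Cfsg.Agent.Lib.Helper81_SymOrbit Cfsg.Agent.Lib.Helper30_TZADefs

namespace Cfsg.Agent.Lib.Helper31_TZA_FIBCARD

variable {F : Type*} [Field F] [Fintype F] [DecidableEq F] {m n : ℕ}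

/-- undoing the congruence by `uni c` -/
theorem uni_congr_cancel (c : Fin m → F) (T : Matrix (Fin (m + 1)) (Fin (m + 1)) F) :
    (uni (-c))ᵀ * ((uni c)ᵀ * T * uni c) * uni (-c) = T := by
  have h1 : (uni (-c))ᵀ * (uni c)ᵀ = 1 := by
    rw [← Matrix.transpose_mul, uni_mul_neg, Matrix.transpose_one]
  calc (uni (-c))ᵀ * ((uni c)ᵀ * T * uni c) * uni (-c)
      = ((uni (-c))ᵀ * (uni c)ᵀ) * T * (uni c * uni (-c)) := by
        simp only [Matrix.mul_assoc]
    _ = T := by rw [h1, uni_mul_neg, Matrix.one_mul, Matrix.mul_one]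

/-- FIBCARD (M) : the fibre of `T ↦ T 0 0` over `a ≠ 0` has at least `q^m |fib O a|` elements. -/
theorem fib_card (O : Finset (Matrix (Fin (m + 1)) (Fin (m + 1)) F)) (hstab : CongClosed O)
    (a : F) (ha : a ≠ 0) :
    Fintype.card F ^ m * (fib O a).card ≤
      (O.filter fun T : Matrix (Fin (m + 1)) (Fin (m + 1)) F => T 0 0 = a).card := by
  classical
  have hcard : ((Finset.univ : Finset (Fin m → F)) ×ˢ fib O a).card
      = Fintype.card F ^ m * (fib O a).card := by
    rw [Finset.card_product, Finset.card_univ, Fintype.card_fun, Fintype.card_fin]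
  rw [← hcard]
  apply Finset.card_le_card_of_injOn
    (fun p : (Fin m → F) × Matrix (Fin m) (Fin m) F => (uni p.1)ᵀ * dsum a p.2 * uni p.1)
  · intro p hp
    have hp2 : p.2 ∈ fib O a := (Finset.mem_product.mp (Finset.mem_coe.mp hp)).2
    rw [Finset.mem_coe, Finset.mem_filter]
    refine ⟨hstab _ (mem_fib.mp hp2) (uni p.1) (uni (-p.1)) (uni_mul_neg p.1), ?_⟩
    show ((uni p.1)ᵀ * dsum a p.2 * uni p.1) 0 0 = a
    rw [uni_congr_zero_zero, dsum_zero_zero]
  · intro p hp p' hp' heq
    have heq' : (uni p.1)ᵀ * dsum a p.2 * uni p.1 = (uni p'.1)ᵀ * dsum a p'.2 * uni p'.1 := heq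
    have hc : p.1 = p'.1 := by
      funext j
      have h1 := congrFun (congrFun heq' 0) j.succ
      rw [uni_congr_zero_succ, uni_congr_zero_succ, dsum_zero_succ, dsum_zero_succ, dsum_zero_zero,
        dsum_zero_zero, zero_add, zero_add] at h1
      exact mul_right_cancel₀ ha h1
    have hS : dsum a p.2 = dsum a p'.2 := by
      rw [← uni_congr_cancel p.1 (dsum a p.2), heq', hc, uni_congr_cancel]
    exact Prod.ext hc (dsum_injective a hS)

end Cfsg.Agent.Lib.Helper31_TZA_FIBCARD
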