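import Mathlib
import Cfsg.Agent.Lib.Helper30_TZADefs

set_option autoImplicit false
set_option linter.unusedSectionVars false
set_option linter.unusedVariables false

/-!
# TZA package RAD (architect helper30, for S2524 Part A): a degenerate member of a congruence-closed
set of symmetric matrices gives a member `0 ⊕ S`; the fibre over `0`.
-/

open Matrix
open Cfsg.Agent.Lib.Helper81_SymOrbit Cfsg.Agent.Lib.Helper30_TZADefs

namespace Cfsg.Agent.Lib.Helper31_TZA_RAD

variable {F : Type*} [Field F] [Fintype F] [DecidableEq F] {m n : ℕ}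

/-- RAD (M) : a degenerate member gives a member `0 ⊕ S`. -/
theorem rad_nonempty (h1 : 1 ≤ m) (O : Finset (Matrix (Fin (m + 1)) (Fin (m + 1)) F))
    (hsym : AllSym O) (hstab : CongClosed O) (T : Matrix (Fin (m + 1)) (Fin (m + 1)) F)
    (hT : T ∈ O) (x : Fin (m + 1) → F) (hx : x ≠ 0) (hTx : T *ᵥ x = 0) :
    (fib O 0).Nonempty := by
  have he0 : (Pi.single (0 : Fin (m + 1)) (1 : F) : Fin (m + 1) → F) ≠ 0 := by
    intro h
    have := congrFun h 0
    simp at this
  obtain ⟨A, B, hAB, -, hAx⟩ := exists_map (F := F) (n := m + 1) (by omega) he0 hx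
  have hT'O : Aᵀ * T * A ∈ O := hstab T hT A B hAB
  have hcol : (Aᵀ * T * A) *ᵥ (Pi.single (0 : Fin (m + 1)) (1 : F)) = 0 := by
    rw [← Matrix.mulVec_mulVec, ← Matrix.mulVec_mulVec, hAx, hTx, Matrix.mulVec_zero]
  have hc0 : ∀ i : Fin (m + 1), (Aᵀ * T * A) i 0 = 0 := by
    intro i
    have := congrFun hcol i
    rw [Matrix.mulVec_single_one] at this
    exact this
  have hr0 : ∀ j : Fin (m + 1), (Aᵀ * T * A) 0 j = 0 := by
    intro j
    have hs := hsym _ hT'O
    have := congrFun (congrFun hs 0) j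
    rw [Matrix.transpose_apply] at this
    rw [← this]
    exact hc0 j
  have hds := eq_dsum (Aᵀ * T * A) (fun j => hr0 j.succ) (fun i => hc0 i.succ)
  rw [hc0 0] at hds
  refine ⟨(Aᵀ * T * A).submatrix Fin.succ Fin.succ, ?_⟩
  rw [mem_fib, ← hds]
  exact hT'O

/-- RAD (S) : `S ↦ dsum 0 S` is injective into the fibre over `0`. -/
theorem rad_card (O : Finset (Matrix (Fin (m + 1)) (Fin (m + 1)) F)) :
    (fib O 0).card ≤ (O.filter fun T : Matrix (Fin (m + 1)) (Fin (m + 1)) F => T 0 0 = 0).card := by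
  classical
  apply Finset.card_le_card_of_injOn (fun S : Matrix (Fin m) (Fin m) F => dsum (0 : F) S)
  · intro S hS
    rw [Finset.mem_coe, Finset.mem_filter]
    exact ⟨mem_fib.mp (Finset.mem_coe.mp hS), dsum_zero_zero 0 S⟩
  · intro S _ S' _ h
    exact dsum_injective 0 h

end Cfsg.Agent.Lib.Helper31_TZA_RAD
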