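import Mathlib
import Cfsg.Prelude.Def_Solvable
import Cfsg.Prelude.Def_CaseTheorems
import Cfsg.Agent.Lib.Helper84_TutteDefs
import Cfsg.Agent.Lib.Helper84_TutteAPI
import Cfsg.Agent.Lib.Helper31_Tutte_C_RS

/-!
# S4385 package C-IDX (architect helper84), paper (1.2): the successive indices of the chain
`R_k = RI H g 0 k` are at most two.
-/

set_option autoImplicit false

open scoped commutatorElement
open Cfsg.Agent.Lib.Helper84_TutteDefs

namespace Cfsg.Agent.Lib.Helper31_Tutte_C_IDX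

open Cfsg.Agent.Lib.Helper31_Tutte_C_RS

variable {G : Type*} [Group G] {H : Subgroup G} {g x0 : G} {s lam : ℕ}

/-- `|R_1 : R_2| = 2` -/
theorem relIndex_one_two (hc : ChainHyp H g) : (RI H g 0 2).relIndex (RI H g 0 1) = 2 := by
  rw [RI_zero_two, RI_zero_one, Subgroup.inf_relIndex_left]
  exact hc.idx

/-- `|R[m, m+1] : R[m, m+2]| = 2` -/
theorem relIndex_shift (hc : ChainHyp H g) (m : ℤ) :
    (RI H g m (m + 2)).relIndex (RI H g m (m + 1)) = 2 := by
  have h1 : cj (g ^ m) (RI H g 0 2) = RI H g m (m + 2) := by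
    rw [cj_zpow_RI, zero_add, add_comm]
  have h2 : cj (g ^ m) (RI H g 0 1) = RI H g m (m + 1) := by
    rw [cj_zpow_RI, zero_add, add_comm]
  rw [← h1, ← h2]
  unfold cj
  rw [Subgroup.relIndex_map_map_of_injective _ _ (MulAut.conj (g ^ m)).injective]
  exact relIndex_one_two hc

/-- the members of the chain are finite -/
theorem finite_RI (hc : ChainHyp H g) (k : ℤ) (hk : 0 ≤ k) : Finite ↥(RI H g 0 k) := by
  have hle : RI H g 0 k ≤ H := by
    have h := RI_anti (H := H) (g := g) (i := 0) (j := 0) (i' := 0) (j' := k) le_rfl hk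
    rwa [RI_zero] at h
  have := hc.fin
  exact Finite.of_injective (Subgroup.inclusion hle) (Subgroup.inclusion_injective hle)

/-- C-IDX (M), paper (1.2).  `R_{k+1} = R_k ⊓ RI (k-1) (k+1)`, `R_k ≤ RI (k-1) k`, `cj (g^(k-1))` maps `(R_1, R_2)` to
`(RI (k-1) k, RI (k-1) (k+1))`; `|A : A ⊓ C| ≤ |B : C|` for `A ≤ B`. -/
theorem chain_index (hc : ChainHyp H g) (k : ℕ) (hk : 1 ≤ k) :
    (RI H g 0 ((k : ℤ) + 1)).relIndex (RI H g 0 k) = 1 ∨ (RI H g 0 ((k : ℤ) + 1)).relIndex (RI H g 0 k) = 2 := by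
  have hk' : (1 : ℤ) ≤ (k : ℤ) := by exact_mod_cast hk
  have h1 : RI H g 0 ((k : ℤ) + 1) = RI H g 0 k ⊓ RI H g ((k : ℤ) - 1) ((k : ℤ) + 1) := by
    rw [RI_inf (by omega) (by omega) (by omega)]
  have h2 : RI H g 0 k ≤ RI H g ((k : ℤ) - 1) k := RI_anti (by omega) le_rfl
  have h3 : (RI H g ((k : ℤ) - 1) ((k : ℤ) + 1)).relIndex (RI H g ((k : ℤ) - 1) k) = 2 := by
    have h := relIndex_shift hc ((k : ℤ) - 1)
    have e1 : (k : ℤ) - 1 + 2 = (k : ℤ) + 1 := by ring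
    have e2 : (k : ℤ) - 1 + 1 = (k : ℤ) := by ring
    rwa [e1, e2] at h
  have h4 : (RI H g 0 ((k : ℤ) + 1)).relIndex (RI H g 0 k) ≤ 2 := by
    rw [h1, Subgroup.inf_relIndex_left, ← h3]
    exact Subgroup.relIndex_le_of_le_right h2 (by rw [h3]; norm_num)
  have h5 : (RI H g 0 ((k : ℤ) + 1)).relIndex (RI H g 0 k) ≠ 0 := by
    have := finite_RI hc (k : ℤ) (by omega)
    unfold Subgroup.relIndex
    exact Subgroup.index_ne_zero_of_finite
  omega

end Cfsg.Agent.Lib.Helper31_Tutte_C_IDX
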