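import Mathlib
import Cfsg.Agent.S1248
import Cfsg.Agent.Lib.Helper56_U320Defs
import Cfsg.Agent.Lib.Helper56_U320Model
set_option autoImplicit false
open Matrix Cfsg.Agent.S1248 Cfsg.Agent.Lib.Helper56_U320Defs Cfsg.Agent.Lib.Helper56_U320Model

/-!
# S1903 package ZETA (architect helper56): a primitive fifth root of unity in a field of order 16
-/

namespace Cfsg.Agent.Lib.Helper31_U320_ZETA

theorem exists_zeta {F : Type*} [Field F] [Fintype F] (hF : Fintype.card F = 16) :
    ∃ ζ : F, ζ ^ 5 = 1 ∧ ζ ≠ 1 := by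
  classical
  have : Fact (Nat.Prime 5) := ⟨by norm_num⟩
  have hU : Nat.card Fˣ = 15 := by
    rw [Nat.card_eq_fintype_card, Fintype.card_units, hF]
  obtain ⟨u, hu⟩ := exists_prime_orderOf_dvd_card' (G := Fˣ) 5 (by rw [hU]; norm_num)
  refine ⟨(u : F), ?_, ?_⟩
  · have h1 : u ^ 5 = 1 := by rw [← hu]; exact pow_orderOf_eq_one u
    rw [← Units.val_pow_eq_pow_val, h1, Units.val_one]
  · intro h1
    have h2 : u = 1 := Units.ext h1
    rw [h2, orderOf_one] at hu
    norm_num at hu

end Cfsg.Agent.Lib.Helper31_U320_ZETA
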