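import Mathlib
import Cfsg.Agent.Lib.Helper39_U4Defs
import Cfsg.Agent.Lib.Helper13_SUGen
import Cfsg.Agent.Lib.Helper94_HermTrans
import Cfsg.Agent.Lib.Helper94_HermWitt

/-!
# S2150 package U4 G-LINE0 (helper31, architect helper39)

Every isotropic point of the 4-dimensional hermitian space lies on a totally isotropic line.
-/

set_option autoImplicit false

namespace Cfsg.Agent.Lib.Helper31_U4_GLINE0

open Module Cfsg.Agent.Lib.Helper94_Symp Cfsg.Agent.Lib.Helper94_Herm
  Cfsg.Agent.Lib.Helper94_HermEich Cfsg.Agent.Lib.Helper94_HermOrth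
  Cfsg.Agent.Lib.Helper13_SUGen Cfsg.Agent.Lib.Helper39_U4Defs

variable {F V : Type*} [Field F] [AddCommGroup V] [Module F V] {σ : F →+* F}
  {B : V →ₗ[F] V →ₛₗ[σ] F} [Finite F] [FiniteDimensional F V]

/-- G-LINE0: every isotropic point lies on a t.i. line. -/
theorem exists_line {q : ℕ} (Hy : U4Hyp B q) {u : V} (hu0 : u ≠ 0) (hu : B u u = 0) :
    ∃ l : Submodule F V, IsTILine B l ∧ u ∈ l := by
  have hσ := Hy.hσ
  have hB := Hy.hB
  have hN := Hy.hN
  obtain ⟨f, -, hf, huf⟩ := exists_partner hσ hB hN (Submodule.mem_top) hu0 hu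
  have hp : HypPair B u f := hypPair_mk hB hu hf huf
  set P : Submodule F V := Submodule.span F (Set.range ![u, f]) with hP
  have hPdim : finrank F P = 2 := by
    rw [hP, finrank_span_eq_card (hypPair_linearIndependent hp)]
    rfl
  have hWdim : finrank F (orthS B P) = 2 := by
    have := finrank_orthS hB hN P
    rw [hPdim, Hy.h4] at this
    omega
  obtain ⟨x, hxW, hx⟩ := Cfsg.Agent.Lib.Helper94_HermWitt.exists_notMem_span1
    (U := orthS B P) (by omega) (0 : V)
  have hx0 : x ≠ 0 := fun h => hx (by rw [h]; exact Submodule.zero_mem _)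
  obtain ⟨y, hyW, hy⟩ := Cfsg.Agent.Lib.Helper94_HermWitt.exists_notMem_span1
    (U := orthS B P) (by omega) x
  obtain ⟨a, b, hne, hiso⟩ := exists_iso hσ hB hx0 hy
  have hvW : a • x + b • y ∈ orthS B P :=
    (orthS B P).add_mem ((orthS B P).smul_mem _ hxW) ((orthS B P).smul_mem _ hyW)
  generalize a • x + b • y = v at hne hiso hvW
  have huv : B u v = 0 := hvW u (Submodule.subset_span ⟨0, rfl⟩)
  have hfv : B f v = 0 := hvW f (Submodule.subset_span ⟨1, rfl⟩)
  have hvu : B v u = 0 := herm_eq_zero hB huv
  refine ⟨Submodule.span F {u, v}, ⟨?_, ?_⟩, Submodule.subset_span (by simp)⟩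
  · have hli : LinearIndependent F ![u, v] := by
      rw [LinearIndependent.pair_iff]
      intro s t hst
      have h1 : B f (s • u + t • v) = 0 := by rw [hst]; simp
      rw [map_add, map_smulₛₗ, map_smulₛₗ, hfv, hp.fe, smul_zero, add_zero, smul_eq_mul,
        mul_one] at h1
      have hs : s = 0 := by
        have := congrArg σ h1
        rwa [hσ.invol, map_zero] at this
      rw [hs, zero_smul, zero_add] at hst
      refine ⟨hs, ?_⟩
      rcases smul_eq_zero.mp hst with h | h
      · exact h
      · exact absurd h hne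
    have hspan : Submodule.span F {u, v} = Submodule.span F (Set.range ![u, v]) := by
      congr 1
      ext z
      simp only [Set.mem_insert_iff, Set.mem_singleton_iff, Set.mem_range, Fin.exists_fin_two,
        Matrix.cons_val_zero, Matrix.cons_val_one]
      constructor
      · rintro (h | h)
        · exact Or.inl h.symm
        · exact Or.inr h.symm
      · rintro (h | h)
        · exact Or.inl h.symm
        · exact Or.inr h.symm
    rw [hspan, finrank_span_eq_card hli]
    rfl
  · intro z hz w hw
    obtain ⟨a1, b1, rfl⟩ := Submodule.mem_span_pair.mp hz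
    obtain ⟨a2, b2, rfl⟩ := Submodule.mem_span_pair.mp hw
    simp only [map_add, map_smulₛₗ, LinearMap.add_apply, LinearMap.smul_apply, hu, hiso, huv, hvu,
      smul_zero, add_zero]

end Cfsg.Agent.Lib.Helper31_U4_GLINE0
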