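import Mathlib
import Cfsg.Agent.Lib.Helper39_U4Defs
import Cfsg.Agent.Lib.Helper13_SUGen
import Cfsg.Agent.Lib.Helper94_HermTrans
import Cfsg.Agent.Lib.Helper83_SUEich

/-!
# S2150 package U4 G-QP (helper31, architect helper39)

The group `Qg B u` generated by the Eichler elements at an isotropic vector `u` lies in the point
stabiliser `Pg B u`.
-/

set_option autoImplicit false

namespace Cfsg.Agent.Lib.Helper31_U4_GQP

open Module Cfsg.Agent.Lib.Helper94_Symp Cfsg.Agent.Lib.Helper94_Herm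
  Cfsg.Agent.Lib.Helper94_HermEich Cfsg.Agent.Lib.Helper94_HermOrth
  Cfsg.Agent.Lib.Helper13_SUGen Cfsg.Agent.Lib.Helper39_U4Defs

variable {F V : Type*} [Field F] [AddCommGroup V] [Module F V] {σ : F →+* F}
  {B : V →ₗ[F] V →ₛₗ[σ] F}

/-- an Eichler element at `u` fixes `u` -/
theorem eich_self (u w : V) (c : F) : eich B u w c u = u := by
  by_cases h : B u u = 0 ∧ B w u = 0 ∧ B u w = 0
  · obtain ⟨h1, h2, h3⟩ := h
    rw [eich_apply B h1 h2 h3, h1, h3]
    simp
  · unfold eich
    rw [dif_neg h]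
    rfl

/-- a linear automorphism fixing `u` stabilises the point `F u` -/
theorem mem_stab_of_fix {g : V ≃ₗ[F] V} {u : V} (hg : g u = u) :
    g ∈ stab (Submodule.span F {u}) := by
  intro v
  constructor
  · intro hv
    obtain ⟨a, rfl⟩ := Submodule.mem_span_singleton.mp hv
    rw [map_smul, hg]
    exact Submodule.mem_span_singleton.mpr ⟨a, rfl⟩
  · intro hv
    obtain ⟨a, ha⟩ := Submodule.mem_span_singleton.mp hv
    have : g (a • u) = g v := by rw [map_smul, hg, ha]
    rw [← g.injective this]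
    exact Submodule.mem_span_singleton.mpr ⟨a, rfl⟩

/-- core form: only hermitian symmetry is needed -/
theorem Qg_le_Pg_of_herm (hB : IsHerm B) (u : V) : Qg B u ≤ Pg B u := by
  rw [Qg, Subgroup.closure_le]
  rintro g ⟨w, c, -, hc, rfl⟩
  refine Subgroup.mem_inf.mpr ⟨Subgroup.mem_inf.mpr ⟨eich_mem_uG hB hc, ?_⟩, ?_⟩
  · rw [MonoidHom.mem_ker]
    exact Cfsg.Agent.Lib.Helper83_SUEich.det_eich _ _ _
  · exact mem_stab_of_fix (eich_self u w c)

end Cfsg.Agent.Lib.Helper31_U4_GQP
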