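import Mathlib
import Cfsg.Agent.Lib.Helper67_UT2Defs
import Cfsg.Agent.Lib.Helper82_T2_KR
import Cfsg.Agent.Lib.Helper31_UT2_SSU

set_option autoImplicit false
set_option linter.unusedSectionVars false
set_option linter.unusedVariables false

/-!
# UTENS2 package RSA1, main part (architect helper67): a non-scalar `S` with `ux S ∈ M` yields a
rank one element or a `twh` element.  Here the eigenvector lemma EIGU (for `D = ⊤`) is a hypothesis
`heig`; the verbatim theorem `rsa1` is in `Helper31_UT2_RSA1`.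
-/

open Module
open Cfsg.Agent.Lib.Helper94_Symp Cfsg.Agent.Lib.Helper94_Herm Cfsg.Agent.Lib.Helper13_PSUSimple
  Cfsg.Agent.Lib.Helper94_FrmDefs Cfsg.Agent.Lib.Helper94_HermEich
  Cfsg.Agent.Lib.Helper67_Tens2Defs Cfsg.Agent.Lib.Helper67_UT2Defs

namespace Cfsg.Agent.Lib.Helper31_UT2_RSA1a

variable {F W : Type*} [Field F] [Finite F] [AddCommGroup W] [Module F W] [FiniteDimensional F W]
variable {σ : F →+* F} {β : W →ₗ[F] W →ₛₗ[σ] F}

/-- the inverse of a unitary transvection -/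
theorem utv_symm_apply {y : W} (hy : β y y = 0) (s : F) (v : W) :
    (utv β y s).symm v = v - (s * β v y) • y := by
  rw [LinearEquiv.symm_apply_eq, utv_apply β hy]
  simp only [map_sub, map_smul, LinearMap.sub_apply, LinearMap.smul_apply, smul_eq_mul, hy,
    mul_zero, sub_zero]
  abel

/-- conjugating a skew `S` by the unitary transvection `utv β y s` -/
theorem conj_utv_sub (S : W →ₗ[F] W) (hsk : ∀ u v, β (S u) v + β u (S v) = 0)
    {y : W} (hy : β y y = 0) (s : F) :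
    ((utv β y s : W ≃ₗ[F] W) : W →ₗ[F] W) ∘ₗ S ∘ₗ ((utv β y s).symm : W →ₗ[F] W) + -S
      = -(s • twh β y (S y)) - (s * s * β (S y) y) • rk1h β y := by
  apply LinearMap.ext
  intro v
  have h1 : β (S v) y = -β v (S y) := eq_neg_of_add_eq_zero_left (hsk v y)
  simp only [LinearMap.add_apply, LinearMap.neg_apply, LinearMap.sub_apply, LinearMap.smul_apply,
    LinearMap.comp_apply, LinearEquiv.coe_coe, twh_apply, rk1h_apply]
  rw [utv_symm_apply hy, utv_apply β hy]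
  simp only [map_sub, map_smul, LinearMap.sub_apply, LinearMap.smul_apply, smul_eq_mul, h1]
  module

/-- the family `Δ(s) ∈ {S | ux S ∈ M}` for skew `s` -/
theorem delta_mem (hβ : IsHerm β) (M : Subgroup ((W × W) ≃ₗ[F] (W × W))) (hM : HypU β M)
    (S : W →ₗ[F] W) (hSM : ux S ∈ M) {y : W} (hy : β y y = 0) (s : F) (hs : σ s = -s) :
    ux (-(s • twh β y (S y)) - (s * s * β (S y) y) • rk1h β y) ∈ M := by
  have hsk : ∀ u v, β (S u) v + β u (S v) = 0 :=
    skew_of_ux_mem S (mem_SUg.mp (hM.le hSM)).1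
  have ht : utv β y s ∈ SUg β := Cfsg.Agent.Lib.Helper14_PSULocal1.utv_mem_SUg hβ y hs
  have h1 := Cfsg.Agent.Lib.Helper31_UT2_SSU.ss_conj M hM S hSM (utv β y s) ht
  have h2 := M.mul_mem h1 (M.inv_mem hSM)
  rw [ux_inv, ux_mul, conj_utv_sub S hsk hy s] at h2
  exact h2

/-- RSA1 with the eigenvector lemma (EIGU for `D = ⊤`) as a hypothesis -/
theorem rsa1_of
    (heig : ∀ T : W →ₗ[F] W, (∀ y : W, β y y = 0 → ∃ l : F, T y = l • y) →
      ∃ c : F, ∀ u : W, T u = c • u)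
    (hσ : Invol σ) (hβ : IsHerm β)
    (hq : ∃ a : F, σ a = a ∧ a ≠ 0 ∧ a ≠ 1)
    (M : Subgroup ((W × W) ≃ₗ[F] (W × W))) (hM : HypU β M)
    (S : W →ₗ[F] W) (hSM : ux S ∈ M)
    (hns : ¬ ∃ c : F, S = c • (LinearMap.id : W →ₗ[F] W)) :
    ∃ y : W, y ≠ 0 ∧ β y y = 0 ∧
      ((∃ c : F, c ≠ 0 ∧ ux (c • rk1h β y) ∈ M) ∨
       (∃ w : W, β w y = 0 ∧ w ∉ Submodule.span F {y} ∧
          ∃ s : F, s ≠ 0 ∧ σ s = -s ∧ ux (s • twh β y w) ∈ M)) := by
  have hy : ∃ y : W, β y y = 0 ∧ ¬ ∃ l : F, S y = l • y := by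
    by_contra hcon
    have hall : ∀ y : W, β y y = 0 → ∃ l : F, S y = l • y := by
      intro y hyy
      by_contra hne
      exact hcon ⟨y, hyy, hne⟩
    obtain ⟨c, hc⟩ := heig S hall
    exact hns ⟨c, LinearMap.ext fun u => by rw [hc u]; rfl⟩
  obtain ⟨y, hyy, hSy⟩ := hy
  have hy0 : y ≠ 0 := by
    rintro rfl
    exact hSy ⟨0, by rw [map_zero, smul_zero]⟩
  obtain ⟨a, ha, ha0, ha1⟩ := hq
  obtain ⟨s0, hs0, hs0σ⟩ := exists_skew hσ
  have hΔ := fun s hs => delta_mem hβ M hM S hSM hyy s hs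
  refine ⟨y, hy0, hyy, ?_⟩
  by_cases hk : β (S y) y = 0
  · right
    refine ⟨S y, hk, ?_, -s0, neg_ne_zero.mpr hs0, ?_, ?_⟩
    · intro hmem
      obtain ⟨l, hl⟩ := Submodule.mem_span_singleton.mp hmem
      exact hSy ⟨l, hl.symm⟩
    · rw [map_neg, hs0σ]
    · have h1 := hΔ s0 hs0σ
      rw [hk, mul_zero, zero_smul, sub_zero, ← neg_smul] at h1
      exact h1
  · left
    have has : σ (a * s0) = -(a * s0) := by rw [map_mul, ha, hs0σ, mul_neg]
    have h1 := hΔ (a * s0) has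
    have h2 := Cfsg.Agent.Lib.Helper31_UT2_SSU.ss_smul hσ M hM _ (hΔ s0 hs0σ) a ha
    have h3 := M.mul_mem h1 (M.inv_mem h2)
    rw [ux_inv, ux_mul] at h3
    have hcalc : -((a * s0) • twh β y (S y)) - (a * s0 * (a * s0) * β (S y) y) • rk1h β y
        + -(a • (-(s0 • twh β y (S y)) - (s0 * s0 * β (S y) y) • rk1h β y))
        = (a * (1 - a) * s0 * s0 * β (S y) y) • rk1h β y := by
      module
    rw [hcalc] at h3
    refine ⟨a * (1 - a) * s0 * s0 * β (S y) y, ?_, h3⟩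
    have h1a : (1 : F) - a ≠ 0 := fun h => ha1 (sub_eq_zero.mp h).symm
    exact mul_ne_zero (mul_ne_zero (mul_ne_zero (mul_ne_zero ha0 h1a) hs0) hs0) hk

end Cfsg.Agent.Lib.Helper31_UT2_RSA1a
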