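import Mathlib
import Cfsg.Agent.Lib.Helper67_UT2Defs
import Cfsg.Agent.Lib.Helper82_T2_KR
import Cfsg.Agent.Lib.Helper30_UT2_EIGU
import Cfsg.Agent.Lib.Helper31_UT2_RSA1a

set_option autoImplicit false
set_option linter.unusedSectionVars false
set_option linter.unusedVariables false

/-!
# UTENS2 package RSA1 (architect helper67): a non-scalar `S` with `ux S ∈ M` yields a rank one
element or a `twh` element (`Helper31_UT2_RSA1a.rsa1_of` + the eigenvector lemma EIGU of helper30).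
-/

open Module
open Cfsg.Agent.Lib.Helper94_Symp Cfsg.Agent.Lib.Helper94_Herm Cfsg.Agent.Lib.Helper13_PSUSimple
  Cfsg.Agent.Lib.Helper94_FrmDefs Cfsg.Agent.Lib.Helper94_HermEich
  Cfsg.Agent.Lib.Helper67_Tens2Defs Cfsg.Agent.Lib.Helper67_UT2Defs

namespace Cfsg.Agent.Lib.Helper31_UT2_RSA1

variable {F W : Type*} [Field F] [Finite F] [AddCommGroup W] [Module F W] [FiniteDimensional F W]
variable {σ : F →+* F} {β : W →ₗ[F] W →ₛₗ[σ] F}

/-- RSA1 : a non-scalar `S` with `ux S ∈ M` yields a rank one element or a `twh` element -/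
theorem rsa1 (hσ : Invol σ) (hβ : IsHerm β) (hN : NondegOn β ⊤) (h2 : 2 ≤ finrank F W)
    (hq : ∃ a : F, σ a = a ∧ a ≠ 0 ∧ a ≠ 1)
    (M : Subgroup ((W × W) ≃ₗ[F] (W × W))) (hM : HypU β M)
    (S : W →ₗ[F] W) (hSM : ux S ∈ M)
    (hns : ¬ ∃ c : F, S = c • (LinearMap.id : W →ₗ[F] W)) :
    ∃ y : W, y ≠ 0 ∧ β y y = 0 ∧
      ((∃ c : F, c ≠ 0 ∧ ux (c • rk1h β y) ∈ M) ∨
       (∃ w : W, β w y = 0 ∧ w ∉ Submodule.span F {y} ∧
          ∃ s : F, s ≠ 0 ∧ σ s = -s ∧ ux (s • twh β y w) ∈ M)) := by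
  have h2' : 2 ≤ finrank F (⊤ : Submodule F W) := by rw [finrank_top]; exact h2
  refine Cfsg.Agent.Lib.Helper31_UT2_RSA1a.rsa1_of ?_ hσ hβ hq M hM S hSM hns
  intro T hT
  obtain ⟨c, hc⟩ := Cfsg.Agent.Lib.Helper30_UT2_EIGU.eig_iso hσ hβ ⊤ hN h2' T
    (fun y _ hy => hT y hy)
  exact ⟨c, fun u => hc u Submodule.mem_top⟩

end Cfsg.Agent.Lib.Helper31_UT2_RSA1
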