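import Mathlib
import Cfsg.Agent.Lib.Helper37_UTDefs
import Cfsg.Agent.Lib.Helper94_UDDefs
import Cfsg.Agent.Lib.Helper73_Tens_TP1

set_option autoImplicit false
set_option linter.unusedSectionVars false
set_option linter.unusedVariables false

/-!
# UTENS package O2 (architect helper37): an involution of `SL_2(R)`, `2` invertible, is scalar.
-/

namespace Cfsg.Agent.Lib.Helper31_UT_O2

open Matrix Module
open Cfsg.Agent.Lib.Helper98_ExtDefs Cfsg.Agent.Lib.Helper97_TensDefs
open Cfsg.Agent.Lib.Helper94_Herm Cfsg.Agent.Lib.Helper13_PSUSimple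
open Cfsg.Agent.Lib.Helper67_UT2Defs Cfsg.Agent.Lib.Helper37_UTDefs
open Cfsg.Agent.Lib.Helper94_FrmDefs

/-- O2 (S): an involution of `SL_2(R)`, `2` invertible, is a scalar matrix (Cayley–Hamilton). -/
theorem inv_scalar {R : Type*} [CommRing R] (h2 : IsUnit (2 : R))
    (j : Matrix (Fin 2) (Fin 2) R) (hdet : j.det = 1) (hj : j * j = 1) :
    ∃ c : R, j = c • (1 : Matrix (Fin 2) (Fin 2) R) := by
  rw [Matrix.det_fin_two] at hdet
  have h00 := congr_fun (congr_fun hj 0) 0
  have h01 := congr_fun (congr_fun hj 0) 1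
  have h10 := congr_fun (congr_fun hj 1) 0
  have h11 := congr_fun (congr_fun hj 1) 1
  simp only [Matrix.mul_apply, Fin.sum_univ_two, Matrix.one_apply_eq, Matrix.one_apply_ne,
    ne_eq, zero_ne_one, one_ne_zero, not_false_eq_true, Fin.isValue] at h00 h01 h10 h11
  have hat : j 0 0 * (j 0 0 + j 1 1) = 2 := by linear_combination h00 + hdet
  have ht : IsUnit (j 0 0 + j 1 1) := isUnit_of_mul_isUnit_right (hat ▸ h2)
  have hb : j 0 1 = 0 := by
    apply (ht.mul_right_eq_zero).mp
    linear_combination h01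
  have hc : j 1 0 = 0 := by
    apply (ht.mul_right_eq_zero).mp
    linear_combination h10
  have hd : j 1 1 = j 0 0 := by
    have : (j 0 0 + j 1 1) * (j 1 1 - j 0 0) = 0 := by linear_combination h11 - h00
    have := (ht.mul_right_eq_zero).mp this
    exact sub_eq_zero.mp this
  refine ⟨j 0 0, ?_⟩
  ext i k
  fin_cases i <;> fin_cases k <;> simp [hb, hc, hd]

end Cfsg.Agent.Lib.Helper31_UT_O2
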