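import Mathlib
import Cfsg.Agent.Lib.Helper54_UXmDefs
import Cfsg.Agent.Lib.Helper54_UXm_Basic
import Cfsg.Agent.Lib.Helper59_Ext_S5b
import Cfsg.Agent.Lib.Helper45_UX_COMM
import Cfsg.Agent.Lib.Helper90_UX_TRM
import Cfsg.Agent.Lib.Helper94_HermSim

set_option autoImplicit false
set_option linter.unusedSectionVars false
set_option linter.unusedVariables false

/-!
# UEXTm package ENDA (architect helper54): the commutator family `m(e)`, `e ∈ t ∩ Kδ`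
(paper proof: `pending/helper54/UEXTm_proof.md` §8; model: UEXT2 FAM1).
-/

open Module
open Cfsg.Agent.Lib.Helper94_Symp Cfsg.Agent.Lib.Helper94_Herm Cfsg.Agent.Lib.Helper13_PSUSimple
  Cfsg.Agent.Lib.Helper94_HermEich Cfsg.Agent.Lib.Helper98_ExtDefs Cfsg.Agent.Lib.Helper97_UExtDefs
  Cfsg.Agent.Lib.Helper29_SpExtDefs Cfsg.Agent.Lib.Helper94_FrmDefs Cfsg.Agent.Lib.Helper94_UDDefs
  Cfsg.Agent.Lib.Helper54_UXmDefs

namespace Cfsg.Agent.Lib.Helper31_UXm_ENDA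

open Cfsg.Agent.Lib.Helper54_UXm_Basic

variable {F K V : Type*} [Field F] [Field K] [Algebra F K] [AddCommGroup V] [Module F V]
  [Module K V] [IsScalarTower F K V] [Finite F] [Finite K] [Module.Finite K V]
  {σ : F →+* F} {τ : K →+* K}

/-- the nilpotent part `x ↦ y ((κ' * B (y⁻¹ x) v₁) • v₁)` of `y * utv B v₁ κ' * y⁻¹` -/
noncomputable def nU (B : V →ₗ[K] V →ₛₗ[τ] K) (y : V ≃ₗ[F] V) (v₁ : V) (κ' : K) : V →ₗ[F] V :=
  cmap F K V y (κ' • B.flip v₁) v₁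

omit [Finite F] [Finite K] [Module.Finite K V] in
theorem nU_apply (B : V →ₗ[K] V →ₛₗ[τ] K) (y : V ≃ₗ[F] V) (v₁ : V) (κ' : K) (x : V) :
    nU B y v₁ κ' x = y ((κ' * B (y⁻¹ x) v₁) • v₁) := rfl

omit [Finite F] [Finite K] [Module.Finite K V] in
theorem conj_utv_apply {B : V →ₗ[K] V →ₛₗ[τ] K} (y : V ≃ₗ[F] V) {v₁ : V} (hv₁ : B v₁ v₁ = 0)
    (κ' : K) (x : V) :
    (y * (utv B v₁ κ').restrictScalars F * y⁻¹) x = x + nU B y v₁ κ' x := by
  rw [LinearEquiv.mul_apply, LinearEquiv.mul_apply, LinearEquiv.restrictScalars_apply,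
    utv_apply B hv₁, nU_apply, map_add, apply_inv_apply']

/-- **ENDA**: the commutator family -/
theorem endA (h : TauExt σ τ) (hσ : Invol σ) {B : V →ₗ[K] V →ₛₗ[τ] K} (hB : IsHerm B)
    (hN : NondegOn B ⊤) {M : Subgroup (V ≃ₗ[F] V)} (hM : HypU h B M) {y : V ≃ₗ[F] V}
    {v₁ δ u₀ : V} (hc : CfgU B M y v₁ δ u₀) (h0 : B u₀ δ = 0) :
    ∃ (ζ : V) (s : F), ζ ∈ tsp F K V y v₁ ∧ s ≠ 0 ∧ σ s = -s ∧
      ∀ e ∈ tsp F K V y v₁, e ∈ kline F K V δ →
        HasMap M (fun x => x + trF h B x e • ζ - trF h B x ζ • e + (s * trF h B x e) • e) := by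
  have hτ : Invol τ := h.toInvol hσ
  have hf : IsHerm (trF h B) := trF_isHerm h hB
  have hyM : y ∈ M := hc.hy
  have hyu : y ∈ uG (trF h B) := hM.le hyM
  have hti : ∀ a ∈ tsp F K V y v₁, ∀ b ∈ tsp F K V y v₁, trF h B a b = 0 :=
    tsp_iso h hyu hc.hv₁i
  -- the vector `w`
  have hu₀' : u₀ ∉ Submodule.span K {δ} := fun hh => hc.hu₀ hh
  obtain ⟨χ, hχ0, hχ1⟩ := Cfsg.Agent.Lib.Helper59_Ext_S5b.exists_functional
    (Submodule.span K {δ}) u₀ hu₀' (1 : K)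
  obtain ⟨w, hw⟩ := Cfsg.Agent.Lib.Helper94_HermSim.exists_rep hB hN χ
  have hδw : B δ w = 0 := by rw [hw]; exact hχ0 δ (Submodule.mem_span_singleton_self δ)
  have hu₀w : B u₀ w = 1 := by rw [hw]; exact hχ1
  obtain ⟨c0', hc0'⟩ := tr_surj hτ (-(B w w)) (by rw [map_neg, herm_self hB])
  -- `x₀`
  obtain ⟨j', hj'⟩ := Algebra.trace_surjective F K (1 : F)
  set x₀ : V := τ j' • w with hx₀
  have hx₀u : trF h B u₀ x₀ = 1 := by
    rw [hx₀, trF_smul_right, h.invol, hu₀w, mul_one, hj']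
  have hx₀k : ∀ d ∈ kline F K V δ, trF h B d x₀ = 0 := by
    intro d hd
    obtain ⟨k, rfl⟩ := mem_kline.mp hd
    rw [hx₀, trF_smul_right, map_smul, LinearMap.smul_apply, hδw, smul_zero, mul_zero, map_zero]
  -- `c0 ≠ 0`
  have hinvf : ∀ a b : V, trF h B (y a) b = trF h B a (y⁻¹ b) := by
    intro a b
    have := hyu a (y⁻¹ b)
    rw [apply_inv_apply'] at this
    exact this
  have hc0 : B (y⁻¹ x₀) v₁ ≠ 0 := by
    intro hz
    have h1 : ∀ k : K, trF h B (y⁻¹ x₀) (k • v₁) = 0 := (trF_perp' h B _ _).mpr hz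
    obtain ⟨k, hk⟩ := mem_tsp.mp hc.hu₀t
    have h2 : trF h B x₀ u₀ = 0 := by
      rw [← hk, ← uG_inv_apply (trF h B) hyu]
      exact h1 k
    have h3 : trF h B u₀ x₀ = 0 := herm_eq_zero hf h2
    rw [hx₀u] at h3
    exact one_ne_zero h3
  have hc0τ : τ (B (y⁻¹ x₀) v₁) ≠ 0 := (map_ne_zero τ).mpr hc0
  -- the choice of `κ'`
  obtain ⟨ζ₀, hζ₀, hζ₀s⟩ := exists_skew hσ
  obtain ⟨κ₀, hκ₀, hκ₀t⟩ := Cfsg.Agent.Lib.Helper90_UX_TRM.trace_skew_onto h hσ ζ₀ hζ₀s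
  set c0 : K := B (y⁻¹ x₀) v₁ with hc0def
  set κ' : K := κ₀ / (c0 * τ c0) with hκ'def
  have hκ' : τ κ' = -κ' := by
    rw [hκ'def, map_div₀, map_mul, h.invol, hκ₀, mul_comm (τ c0) c0, neg_div]
  have hs : trF h B (nU B y v₁ κ' x₀) x₀ = ζ₀ := by
    rw [nU_apply, hinvf, trF_smul_left, hB (y⁻¹ x₀) v₁, ← hc0def, ← hκ₀t]
    congr 1
    rw [hκ'def]
    field_simp
  refine ⟨nU B y v₁ κ' x₀, trF h B (nU B y v₁ κ' x₀) x₀, ?_, ?_, ?_, ?_⟩
  · rw [nU_apply]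
    exact mem_tsp.mpr ⟨_, rfl⟩
  · rw [hs]
    exact hζ₀
  · rw [hs]
    exact hζ₀s
  intro e het hek
  obtain ⟨ke, hke⟩ := mem_kline.mp hek
  -- the Eichler element
  have hee : B (-e) (-e) = 0 := by
    rw [← hke]
    simp only [map_neg, LinearMap.neg_apply, map_smul, map_smulₛₗ, LinearMap.smul_apply, hc.hδi,
      smul_zero, neg_zero]
  have hew : B (-e) w = 0 := by
    rw [← hke]
    simp only [map_neg, LinearMap.neg_apply, map_smul, LinearMap.smul_apply, hδw, smul_zero,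
      neg_zero]
  have hwe : B w (-e) = 0 := herm_eq_zero hB hew
  have hgM : (eich B (-e) w c0').restrictScalars F ∈ M := eich_mem h hB hM (-e) w hc0'
  have hkM : y * (utv B v₁ κ').restrictScalars F * y⁻¹ ∈ M :=
    M.mul_mem (M.mul_mem hyM (ktv_mem h hB hM v₁ hκ')) (M.inv_mem hyM)
  have key := Cfsg.Agent.Lib.Helper45_UX_COMM.comm_formula hσ (trF h B) hf (tsp F K V y v₁)
    (tsp F K V y v₁ ⊓ kline F K V δ) u₀ x₀ e ((eich B (-e) w c0').restrictScalars F)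
    (y * (utv B v₁ κ').restrictScalars F * y⁻¹) (nU B y v₁ κ') hti inf_le_left hc.hu₀t ?_
    (hM.le hgM) ?_ ⟨het, hek⟩ ?_ ?_ hx₀u (hM.le hkM) (conj_utv_apply y hc.hv₁i κ') ?_ ?_
  · exact ⟨_, M.mul_mem (M.mul_mem (M.mul_mem hgM hkM) (M.inv_mem hgM)) (M.inv_mem hkM), key⟩
  · -- hspan
    intro v hv
    obtain ⟨d, hd, z, hz, rfl⟩ := Submodule.mem_sup.mp (hc.hle hv)
    obtain ⟨a, rfl⟩ := Submodule.mem_span_singleton.mp hz
    refine ⟨d, ⟨?_, hd⟩, a, rfl⟩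
    have : d = (d + a • u₀) - a • u₀ := by abel
    rw [this]
    exact (tsp F K V y v₁).sub_mem hv ((tsp F K V y v₁).smul_mem a hc.hu₀t)
  · -- hgD
    rintro d ⟨-, hd⟩
    obtain ⟨kd, rfl⟩ := mem_kline.mp hd
    rw [LinearEquiv.restrictScalars_apply, eich_apply B hee hwe hew]
    have e1 : B (kd • δ) (-e) = 0 := by
      rw [← hke]
      simp only [map_neg, map_smul, map_smulₛₗ, LinearMap.smul_apply, hc.hδi, smul_zero, neg_zero]
    have e2 : B (kd • δ) w = 0 := by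
      rw [map_smul, LinearMap.smul_apply, hδw, smul_zero]
    rw [e1, e2]
    simp
  · -- hgu
    rw [LinearEquiv.restrictScalars_apply, eich_apply B hee hwe hew]
    have e1 : B u₀ (-e) = 0 := by
      rw [← hke]
      simp only [map_neg, map_smulₛₗ, h0, smul_zero, neg_zero]
    rw [e1, hu₀w]
    simp
  · -- hx₀D
    rintro d ⟨-, hd⟩
    exact hx₀k d hd
  · -- hNt
    intro x
    rw [nU_apply]
    exact mem_tsp.mpr ⟨_, rfl⟩
  · -- hNp
    intro x hx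
    have h1 : B (y⁻¹ x) v₁ = 0 := by
      apply (trF_perp' h B _ _).mp
      intro k
      rw [uG_inv_apply (trF h B) hyu]
      exact hx _ (mem_tsp.mpr ⟨k, rfl⟩)
    rw [nU_apply, h1, mul_zero, zero_smul, map_zero]

end Cfsg.Agent.Lib.Helper31_UXm_ENDA
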