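import Mathlib
import Cfsg.Agent.Lib.Helper21_AltFusDefs
import Cfsg.Agent.Lib.Helper32_AF_SYLaux
import Cfsg.Agent.Lib.Helper63_AF_PCYC

set_option autoImplicit false
set_option linter.unusedSectionVars false
set_option linter.unusedVariables false

/-
helper32: S5165 package AF-SYL (helper21's market): `exists_sylow_odd`, `exists_sylow_two` VERBATIM.
-/

open Equiv Equiv.Perm Cfsg.Agent.Lib.Helper67_SymSylow Cfsg.Agent.Lib.Helper21_AltFusDefs

namespace Cfsg.Agent.Lib.Helper32_AF_SYL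

variable {p : ℕ} [Fact p.Prime] {ℬ : Type} [Fintype ℬ] [DecidableEq ℬ] {r : ℕ}

theorem exists_sylow_odd (hp : p ≠ 2) (ι : ZMod p ↪ ℬ) :
    ∃ P : Sylow p ↥(alternatingGroup (Pt p ℬ r)),
      BB p ℬ r ≤ (P : Subgroup ↥(alternatingGroup (Pt p ℬ r))).map (alternatingGroup _).subtype ∧
      tau r ι ∈ (P : Subgroup ↥(alternatingGroup (Pt p ℬ r))).map (alternatingGroup _).subtype :=
  Cfsg.Agent.Lib.Helper32_AF_SYLaux.exists_sylow_odd hp ι

theorem exists_sylow_two (hr : r ≤ 1) :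
    ∃ P : Sylow 2 ↥(alternatingGroup (Pt 2 ℬ r)),
      BB 2 ℬ r ⊓ alternatingGroup (Pt 2 ℬ r) ≤
        (P : Subgroup ↥(alternatingGroup (Pt 2 ℬ r))).map (alternatingGroup _).subtype ∧
      ∀ s ∈ (P : Subgroup ↥(alternatingGroup (Pt 2 ℬ r))).map (alternatingGroup _).subtype,
        Nz (BB 2 ℬ r) s := by
  have : Fact (Nat.Prime 2) := ⟨Nat.prime_two⟩
  exact Cfsg.Agent.Lib.Helper32_AF_SYLaux.exists_sylow_two_aux hr
    (fun D hD hBD g hg =>
      Cfsg.Agent.Lib.Helper63_AF_PCYC.nz_of_conj_le (p := 2) (by omega) D hD hBD g hg)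

end Cfsg.Agent.Lib.Helper32_AF_SYL
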