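import Mathlib

/-!
# BR2-OP (package of helper77's S4701 market)

A normal `p'`-subgroup `K` of maximal order: `G ⧸ K` has no nontrivial normal `p'`-subgroup.
-/

set_option autoImplicit false

namespace Cfsg.Agent.Lib.Helper32_BR2_OP

universe u

/-- **OP**. A normal `p'`-subgroup `K` of maximal order: `G ⧸ K` has no nontrivial normal
`p'`-subgroup (the preimage of one would be a larger normal `p'`-subgroup). -/
theorem OP {G : Type u} [Group G] [Finite G] (p : ℕ) [Fact p.Prime] :
    ∃ (K : Subgroup G) (_ : K.Normal), (Nat.card K).Coprime p ∧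
      ∀ L : Subgroup (G ⧸ K), L.Normal → (Nat.card L).Coprime p → L = ⊥ := by
  classical
  -- the set of cardinalities of normal `p'`-subgroups is bounded by `|G|`
  have hex : ∃ n, ∃ K : Subgroup G, K.Normal ∧ (Nat.card K).Coprime p ∧ Nat.card K = n :=
    ⟨1, ⊥, inferInstance, by simp, by simp⟩
  have hbdd : ∀ n, (∃ K : Subgroup G, K.Normal ∧ (Nat.card K).Coprime p ∧ Nat.card K = n) →
      n ≤ Nat.card G := by
    rintro n ⟨K, -, -, rfl⟩
    exact Subgroup.card_le_card_group K
  obtain ⟨K, hKn, hKp, hKmax⟩ : ∃ K : Subgroup G, K.Normal ∧ (Nat.card K).Coprime p ∧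
      ∀ K' : Subgroup G, K'.Normal → (Nat.card K').Coprime p → Nat.card K' ≤ Nat.card K := by
    obtain ⟨K, hKn, hKp, hKc⟩ := Nat.findGreatest_spec (P := fun n =>
      ∃ K : Subgroup G, K.Normal ∧ (Nat.card K).Coprime p ∧ Nat.card K = n)
      (hbdd _ hex.choose_spec) hex.choose_spec
    refine ⟨K, hKn, hKp, fun K' hK'n hK'p => ?_⟩
    rw [hKc]
    exact Nat.le_findGreatest (hbdd _ ⟨K', hK'n, hK'p, rfl⟩) ⟨K', hK'n, hK'p, rfl⟩
  refine ⟨K, hKn, hKp, fun L hLn hLp => ?_⟩
  -- the preimage of `L`
  have hsurj : Function.Surjective (QuotientGroup.mk' K) := QuotientGroup.mk'_surjective K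
  have hKle : K ≤ L.comap (QuotientGroup.mk' K) := by
    intro x hx
    rw [Subgroup.mem_comap]
    have : (QuotientGroup.mk' K) x = 1 := (QuotientGroup.eq_one_iff x).2 hx
    rw [this]; exact L.one_mem
  have hcardM : Nat.card (L.comap (QuotientGroup.mk' K)) = Nat.card L * Nat.card K := by
    have h1 : Nat.card (L.comap (QuotientGroup.mk' K)) * (L.comap (QuotientGroup.mk' K)).index
        = Nat.card G := Subgroup.card_mul_index _
    have h2 : (L.comap (QuotientGroup.mk' K)).index = L.index :=
      Subgroup.index_comap_of_surjective L hsurj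
    have h3 : Nat.card L * L.index = Nat.card (G ⧸ K) := Subgroup.card_mul_index _
    have h4 : Nat.card (G ⧸ K) * Nat.card K = Nat.card G := by
      rw [mul_comm]; exact (Subgroup.card_eq_card_quotient_mul_card_subgroup K).symm ▸ (by ring)
    have hpos : 0 < L.index := Nat.pos_of_ne_zero (Subgroup.index_ne_zero_of_finite)
    rw [h2] at h1
    have : Nat.card (L.comap (QuotientGroup.mk' K)) * L.index
        = (Nat.card L * Nat.card K) * L.index := by
      rw [h1, ← h4, ← h3]; ring
    exact Nat.eq_of_mul_eq_mul_right hpos this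
  have hMp : (Nat.card (L.comap (QuotientGroup.mk' K))).Coprime p := by
    rw [hcardM]; exact Nat.Coprime.mul_left hLp hKp
  have hMn : (L.comap (QuotientGroup.mk' K)).Normal := hLn.comap _
  have hle := hKmax _ hMn hMp
  rw [hcardM] at hle
  have hKpos : 0 < Nat.card K := Nat.card_pos
  have hL1 : Nat.card L = 1 := by
    have hLpos : 0 < Nat.card L := Nat.card_pos
    by_contra hne
    have : 2 ≤ Nat.card L := by omega
    nlinarith
  exact Subgroup.card_eq_one.1 hL1

end Cfsg.Agent.Lib.Helper32_BR2_OP
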