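import Mathlib

/-!
# BR2-P1 (package of helper77's S4701 market)

A non-normal Sylow `p`-subgroup of a group of order `< p^3` has order `p`, and `p^2` does not
divide the order of the group.
-/

set_option autoImplicit false

namespace Cfsg.Agent.Lib.Helper32_BR2_P1

universe u

/-- **P1**. A non-normal Sylow `p`-subgroup of a group of order `< p^3` has order `p`
(`|P| = p²` gives `|Syl_p| = |G : N_G(P)| < p` and `≡ 1 mod p`, so `P ⊴ G`). -/
theorem P1 {G : Type u} [Group G] [Finite G] (p : ℕ) [Fact p.Prime] (hdvd : p ∣ Nat.card G)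
    (hbig : Nat.card G < p ^ 3) (P : Sylow p G) (hP : ¬ (P : Subgroup G).Normal) :
    Nat.card P = p ∧ ¬ p ^ 2 ∣ Nat.card G := by
  have hp : p.Prime := Fact.out
  have hGpos : 0 < Nat.card G := Nat.card_pos
  have hcard : Nat.card P = p ^ (Nat.card G).factorization p := P.card_eq_multiplicity
  -- the exponent `k`
  obtain ⟨k, hk⟩ : ∃ k, k = (Nat.card G).factorization p := ⟨_, rfl⟩
  rw [← hk] at hcard
  have hk1 : 1 ≤ k := by
    rw [hk]
    exact (hp.dvd_iff_one_le_factorization hGpos.ne').1 hdvd
  have hpk_dvd : p ^ k ∣ Nat.card G := by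
    rw [hk]; exact Nat.ordProj_dvd _ _
  have hk3 : k < 3 := by
    by_contra hcon
    push Not at hcon
    have h1 : p ^ 3 ∣ Nat.card G := (pow_dvd_pow p hcon).trans hpk_dvd
    exact absurd (Nat.le_of_dvd hGpos h1) (by omega)
  have hk_ne2 : k ≠ 2 := by
    intro hk2
    apply hP
    -- index of `P` is `< p`
    have hidx : (P : Subgroup G).index * Nat.card P = Nat.card G := by
      rw [mul_comm]; exact (P : Subgroup G).card_mul_index
    rw [hcard, hk2] at hidx
    have hidx_lt : (P : Subgroup G).index < p := by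
      by_contra hcon
      push Not at hcon
      have : p * p ^ 2 ≤ (P : Subgroup G).index * p ^ 2 := Nat.mul_le_mul_right _ hcon
      have h3 : p ^ 3 = p * p ^ 2 := by ring
      omega
    have hidx_pos : 0 < (P : Subgroup G).index := by
      rcases Nat.eq_zero_or_pos (P : Subgroup G).index with h0 | h0
      · rw [h0] at hidx; omega
      · exact h0
    have hn_dvd : Nat.card (Sylow p G) ∣ (P : Subgroup G).index := P.card_dvd_index
    have hn_le : Nat.card (Sylow p G) ≤ (P : Subgroup G).index := Nat.le_of_dvd hidx_pos hn_dvd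
    have hn_mod : Nat.card (Sylow p G) ≡ 1 [MOD p] := card_sylow_modEq_one p G
    have hn_lt : Nat.card (Sylow p G) < p := lt_of_le_of_lt hn_le hidx_lt
    have hn1 : Nat.card (Sylow p G) = 1 := by
      have h1 := hn_mod
      unfold Nat.ModEq at h1
      rw [Nat.mod_eq_of_lt hn_lt, Nat.mod_eq_of_lt hp.one_lt] at h1
      exact h1
    have : Subsingleton (Sylow p G) := (Nat.card_eq_one_iff_unique.1 hn1).1
    exact Sylow.normal_of_subsingleton P
  have hk_eq : k = 1 := by omega
  refine ⟨by rw [hcard, hk_eq, pow_one], ?_⟩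
  intro h2
  have : 2 ≤ (Nat.card G).factorization p :=
    (hp.pow_dvd_iff_le_factorization hGpos.ne').1 h2
  omega

end Cfsg.Agent.Lib.Helper32_BR2_P1
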