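import Cfsg.Agent.Lib.Helper72_ThompsonTerminal

/-!
Helper library (helper72): the structure of the terminal configuration of Thompson's normal
`p`-complement theorem, for every prime `p` (steps A–F of `terminal_quadratic`, with the normal
subgroup `K` (the preimage of the normal `p`-complement of `X/R`) exposed).
-/

set_option autoImplicit false
universe u
open Cfsg

namespace Cfsg.Agent.Lib.Helper72_ThompsonStructure

open Cfsg.Agent.Lib.Helper34_NPC Cfsg.Agent.Lib.Helper35_FrobeniusNPC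
  Cfsg.Agent.Lib.Helper33_Conj Cfsg.Agent.Lib.Helper33_Alperin
  Cfsg.Agent.Lib.Helper72_Quadratic Cfsg.Agent.Lib.Helper72_ThompsonTerminal

variable {X : Type u} [Group X] [Finite X] {p : ℕ} [Fact p.Prime]

theorem terminal_structure
    (T : Sylow p X) (hco : IsCoatom (T : Subgroup X))
    (hcen : Subgroup.centralizer ((Cfsg.pCore p X : Subgroup X) : Set X) ≤ Cfsg.pCore p X)
    (hq : HasNPC p (X ⧸ Cfsg.pCore p X))
    (hZ : HasNPC p ↥(Subgroup.centralizer (((T : Subgroup X) ⊓
      Subgroup.centralizer ((T : Subgroup X) : Set X) : Subgroup X) : Set X)))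
    (hnot : ¬ HasNPC p X) :
    ∃ (V K : Subgroup X) (m : ℕ), V.Normal ∧ (∀ a ∈ V, ∀ b ∈ V, a * b = b * a) ∧
      (∀ a ∈ V, a ^ p = 1) ∧
      Subgroup.centralizer (V : Set X) = Cfsg.pCore p X ∧
      K.Normal ∧ Cfsg.pCore p X ≤ K ∧ m.Coprime p ∧
      (∀ k ∈ K, k ^ m ∈ Cfsg.pCore p X) ∧
      (∀ k₁ ∈ K, ∀ k₂ ∈ K, k₁ * k₂ * k₁⁻¹ * k₂⁻¹ ∈ Cfsg.pCore p X) ∧
      (∀ x ∈ (T : Subgroup X), (∀ k ∈ K, k * x * k⁻¹ * x⁻¹ ∈ Cfsg.pCore p X) →
        x ∈ Cfsg.pCore p X) := by
  have hRn : (Cfsg.pCore p X).Normal := Cfsg.pCore_normal p X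
  set R := Cfsg.pCore p X with hR
  have hRp : IsPGroup p R := Cfsg.Agent.Lib.Helper76_PSolvable.pCore_isPGroup p
  have hRT : R ≤ (T : Subgroup X) := hRp.le_sylow_of_normal T
  have hπ : Function.Surjective (QuotientGroup.mk' R) := QuotientGroup.mk'_surjective R
  have hker : ∀ x : X, QuotientGroup.mk' R x = 1 ↔ x ∈ R := by
    intro x
    rw [← MonoidHom.mem_ker, QuotientGroup.ker_mk']
  -- Step A: `C_X(Z(T)) = T`
  set Z := (T : Subgroup X) ⊓ Subgroup.centralizer ((T : Subgroup X) : Set X) with hZdef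
  have hTCZ : (T : Subgroup X) ≤ Subgroup.centralizer (Z : Set X) := by
    intro t ht
    rw [Subgroup.mem_centralizer_iff]
    intro z hz
    exact ((Subgroup.mem_centralizer_iff.mp hz.2) t ht).symm
  have hCZ : Subgroup.centralizer (Z : Set X) = (T : Subgroup X) := by
    rcases eq_or_lt_of_le hTCZ with h | h
    · exact h.symm
    · exfalso
      have := hco.2 _ h
      exact hnot (hasNPC_top_iff.mp (hasNPC_of_eq this hZ))
  -- Step B: `V = Ω₁(Z(R))`
  let V : Subgroup X :=
    { carrier := {z | z ∈ R ∧ z ∈ Subgroup.centralizer (R : Set X) ∧ z ^ p = 1}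
      mul_mem' := by
        rintro a b ⟨ha1, ha2, ha3⟩ ⟨hb1, hb2, hb3⟩
        refine ⟨R.mul_mem ha1 hb1, (Subgroup.centralizer _).mul_mem ha2 hb2, ?_⟩
        have hc : Commute a b := Subgroup.mem_centralizer_iff.mp hb2 a ha1
        rw [hc.mul_pow, ha3, hb3, one_mul]
      one_mem' := ⟨R.one_mem, Subgroup.one_mem _, one_pow p⟩
      inv_mem' := by
        rintro a ⟨h1, h2, h3⟩
        exact ⟨R.inv_mem h1, Subgroup.inv_mem _ h2, by rw [inv_pow, h3, inv_one]⟩ }
  have hVmem : ∀ z, z ∈ V ↔ z ∈ R ∧ z ∈ Subgroup.centralizer (R : Set X) ∧ z ^ p = 1 :=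
    fun z => Iff.rfl
  have hCRn : (Subgroup.centralizer (R : Set X)).Normal := Subgroup.normal_centralizer
  have hVn : V.Normal := by
    constructor
    intro z hz g
    obtain ⟨h1, h2, h3⟩ := hz
    refine ⟨hRn.conj_mem z h1 g, hCRn.conj_mem z h2 g, ?_⟩
    rw [conj_pow, h3]; group
  have hVc : ∀ a ∈ V, ∀ b ∈ V, a * b = b * a := by
    intro a ha b hb
    exact Subgroup.mem_centralizer_iff.mp hb.2.1 a ha.1
  have hVp : ∀ a ∈ V, a ^ p = 1 := fun a ha => ha.2.2
  have hVea : Cfsg.IsElementaryAbelian p V :=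
    Cfsg.Agent.Lib.Helper10_Thompson.isElementaryAbelian_of_forall hVc hVp
  have hVR : V ≤ R := fun z hz => hz.1
  have hRCV : R ≤ Subgroup.centralizer (V : Set X) := by
    intro r hr
    rw [Subgroup.mem_centralizer_iff]
    intro v hv
    exact (Subgroup.mem_centralizer_iff.mp hv.2.1 r hr).symm
  -- Step C: `C_X(V) ≤ R`
  have hCVn : (Subgroup.centralizer (V : Set X)).Normal := Subgroup.normal_centralizer
  set ZR := R ⊓ Subgroup.centralizer (R : Set X) with hZR
  have hZRn : ZR.Normal := Subgroup.normal_inf_normal _ _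
  have hZZR : Z ≤ ZR := by
    intro z hz
    have h1 : z ∈ Subgroup.centralizer (R : Set X) :=
      Subgroup.centralizer_le (SetLike.coe_subset_coe.mpr hRT) hz.2
    exact ⟨hcen h1, h1⟩
  have hCVp : IsPGroup p (Subgroup.centralizer (V : Set X)) := by
    set C := Subgroup.centralizer (V : Set X) with hC
    have hprime : ∀ q : ℕ, q.Prime → q ∣ Nat.card C → q = p := by
      intro q hq hqd
      by_contra hne
      have : Fact q.Prime := ⟨hq⟩
      obtain ⟨c, hc⟩ := exists_prime_orderOf_dvd_card' (G := C) q hqd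
      set g : X := (c : X) with hg
      have hgo : orderOf g = q := by rw [hg, Subgroup.orderOf_coe, hc]
      have hgcop : (orderOf g).Coprime p := by
        rw [hgo]
        exact (Nat.coprime_primes hq (Fact.out : p.Prime)).mpr hne
      have hgcen : ∀ a ∈ ZR, g * a * g⁻¹ = a := by
        apply conj_eq_of_conj_eq_on_omega ZR (hRp.to_le inf_le_left)
          (fun a ha b hb => Subgroup.mem_centralizer_iff.mp hb.2 a ha.1) g
          (fun a ha => hZRn.conj_mem a ha g) hgcop
        intro a ha hap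
        have haV : a ∈ V := ⟨ha.1, ha.2, hap⟩
        have h1 : a * g = g * a := Subgroup.mem_centralizer_iff.mp c.2 a haV
        calc g * a * g⁻¹ = a * g * g⁻¹ := by rw [h1]
          _ = a := by group
      have hgZ : g ∈ Subgroup.centralizer (Z : Set X) := by
        rw [Subgroup.mem_centralizer_iff]
        intro z hz
        have := hgcen z (hZZR hz)
        calc z * g = (g * z * g⁻¹) * g := by rw [this]
          _ = g * z := by group
      rw [hCZ] at hgZ
      obtain ⟨k, hk⟩ := (IsPGroup.iff_orderOf.mp T.2) ⟨g, hgZ⟩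
      rw [Subgroup.orderOf_mk, hgo] at hk
      have : q ∣ p ^ k := hk ▸ dvd_rfl
      exact hne ((Nat.prime_dvd_prime_iff_eq hq (Fact.out : p.Prime)).mp
        (hq.dvd_of_dvd_pow this))
    have hcardC : ∃ n, Nat.card C = p ^ n := by
      by_cases h1 : Nat.card C = 1
      · exact ⟨0, by rw [h1, pow_zero]⟩
      · have hpd : p ∣ Nat.card C := by
          obtain ⟨q, hq, hqd⟩ := Nat.exists_prime_and_dvd h1
          rwa [← hprime q hq hqd]
        exact ⟨_, Nat.eq_prime_pow_of_unique_prime_dvd Nat.card_pos.ne'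
          (fun {q} hq hqd => hprime q hq hqd)⟩
    obtain ⟨n, hn⟩ := hcardC
    exact IsPGroup.of_card hn
  have hCVR : Subgroup.centralizer (V : Set X) ≤ R :=
    Cfsg.Agent.Lib.Helper76_PSolvable.le_pCore p _ hCVp
  have hCVeq : Subgroup.centralizer (V : Set X) = R := le_antisymm hCVR hRCV
  -- Step D: the normal `p`-complement of `X/R`
  obtain ⟨Kbar, hKbn, hKbc, n, hKbi⟩ := hq
  set K := Kbar.comap (QuotientGroup.mk' R) with hK
  have hKn : K.Normal := hKbn.comap _
  have hRK : R ≤ K := by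
    conv_lhs => rw [← QuotientGroup.ker_mk' R]
    exact Subgroup.ker_le_comap _ _
  have hKT : K ⊔ (T : Subgroup X) = ⊤ := by
    have h1 : (T : Subgroup X) ≤ K ⊔ T := le_sup_right
    rcases eq_or_lt_of_le h1 with h | h
    · exfalso
      apply hnot
      have hKleT : K ≤ T := by rw [h]; exact le_sup_left
      have hKp : IsPGroup p K := T.2.to_le hKleT
      have hKidx : K.index = p ^ n := by
        rw [hK, Subgroup.index_comap_of_surjective _ hπ]; exact hKbi
      obtain ⟨k, hk⟩ := hKp.exists_card_eq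
      have hcardX : Nat.card X = p ^ (k + n) := by
        rw [← Subgroup.card_mul_index K, hk, hKidx, pow_add]
      exact hasNPC_of_isPGroup (IsPGroup.of_card hcardX)
    · exact hco.2 _ h
  -- `T̄` is a Sylow subgroup and a coatom of `X/R`
  let Tbar : Sylow p (X ⧸ R) := T.mapSurjective hπ
  have hTbar : (Tbar : Subgroup (X ⧸ R)) = (T : Subgroup X).map (QuotientGroup.mk' R) := rfl
  have hTbarco : IsCoatom (Tbar : Subgroup (X ⧸ R)) := by
    have hcomap : (Tbar : Subgroup (X ⧸ R)).comap (QuotientGroup.mk' R) = (T : Subgroup X) := by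
      rw [hTbar, Subgroup.comap_map_eq, QuotientGroup.ker_mk', sup_eq_left.mpr hRT]
    constructor
    · intro h
      apply hco.1
      rw [← hcomap, h, Subgroup.comap_top]
    · intro B hB
      have h1 : (T : Subgroup X) < B.comap (QuotientGroup.mk' R) := by
        rw [← hcomap]
        refine lt_of_le_of_ne (Subgroup.comap_mono hB.le) ?_
        intro h
        apply hB.ne
        rw [← Subgroup.map_comap_eq_self_of_surjective hπ (Tbar : Subgroup (X ⧸ R)),
          ← Subgroup.map_comap_eq_self_of_surjective hπ B, h]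
      have h2 := hco.2 _ h1
      rw [← Subgroup.map_comap_eq_self_of_surjective hπ B, h2, Subgroup.map_top_of_surjective _ hπ]
  have hKbcomm := comm_of_coatom Kbar hKbc Tbar hTbarco
  have hKcomm : ∀ k₁ ∈ K, ∀ k₂ ∈ K, k₁ * k₂ * k₁⁻¹ * k₂⁻¹ ∈ R := by
    intro k₁ h₁ k₂ h₂
    rw [← hker]
    simp only [map_mul, map_inv]
    have := hKbcomm _ h₁ _ h₂
    rw [this]; group
  -- Step F
  have stepF : ∀ x ∈ (T : Subgroup X), (∀ k ∈ K, k * x * k⁻¹ * x⁻¹ ∈ R) → x ∈ R := by
    intro x hxT hx
    let P₁ : Subgroup X :=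
      { carrier := {t | t ∈ (T : Subgroup X) ∧ ∀ k ∈ K, k * t * k⁻¹ * t⁻¹ ∈ R}
        mul_mem' := by
          rintro a b ⟨ha, ha'⟩ ⟨hb, hb'⟩
          refine ⟨(T : Subgroup X).mul_mem ha hb, ?_⟩
          intro k hk
          have h1 : k * (a * b) * k⁻¹ * (a * b)⁻¹ =
              (k * a * k⁻¹ * a⁻¹) * (a * (k * b * k⁻¹ * b⁻¹) * a⁻¹) := by group
          rw [h1]
          exact R.mul_mem (ha' k hk) (hRn.conj_mem _ (hb' k hk) a)
        one_mem' := by
          refine ⟨(T : Subgroup X).one_mem, ?_⟩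
          intro k _
          have : k * 1 * k⁻¹ * (1 : X)⁻¹ = 1 := by group
          rw [this]; exact R.one_mem
        inv_mem' := by
          rintro a ⟨ha, ha'⟩
          refine ⟨(T : Subgroup X).inv_mem ha, ?_⟩
          intro k hk
          have h1 : k * a⁻¹ * k⁻¹ * a⁻¹⁻¹ = a⁻¹ * (k * a * k⁻¹ * a⁻¹)⁻¹ * a := by group
          rw [h1]
          have := hRn.conj_mem _ (R.inv_mem (ha' k hk)) a⁻¹
          simpa using this }
    have hP₁T : P₁ ≤ (T : Subgroup X) := fun t ht => ht.1
    have hRP₁ : R ≤ P₁ := by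
      intro r hr
      refine ⟨hRT hr, ?_⟩
      intro k _
      have := R.mul_mem (hRn.conj_mem r hr k) (R.inv_mem hr)
      exact this
    have hP₁n : P₁.Normal := by
      rw [← Subgroup.normalizer_eq_top_iff, eq_top_iff, ← hKT]
      apply sup_le
      · -- `K` normalizes
        intro k hk
        rw [Subgroup.mem_normalizer_iff]
        have hconj : ∀ k ∈ K, ∀ t ∈ P₁, k * t * k⁻¹ ∈ P₁ := by
          intro k hk t ht
          have h1 : k * t * k⁻¹ = (k * t * k⁻¹ * t⁻¹) * t := by group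
          rw [h1]
          exact P₁.mul_mem (hRP₁ (ht.2 k hk)) ht
        intro t
        constructor
        · intro ht
          exact hconj k hk t ht
        · intro ht
          have := hconj k⁻¹ (K.inv_mem hk) _ ht
          have e : k⁻¹ * (k * t * k⁻¹) * k⁻¹⁻¹ = t := by group
          rwa [e] at this
      · -- `T` normalizes
        intro s hs
        rw [Subgroup.mem_normalizer_iff]
        have hconj : ∀ s ∈ (T : Subgroup X), ∀ t ∈ P₁, s * t * s⁻¹ ∈ P₁ := by
          intro s hs t ht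
          refine ⟨(T : Subgroup X).mul_mem ((T : Subgroup X).mul_mem hs ht.1)
            ((T : Subgroup X).inv_mem hs), ?_⟩
          intro k hk
          have hk' : s⁻¹ * k * s ∈ K := by
            have := hKn.conj_mem k hk s⁻¹
            simpa using this
          have h1 : k * (s * t * s⁻¹) * k⁻¹ * (s * t * s⁻¹)⁻¹ =
              s * ((s⁻¹ * k * s) * t * (s⁻¹ * k * s)⁻¹ * t⁻¹) * s⁻¹ := by group
          rw [h1]
          exact hRn.conj_mem _ (ht.2 _ hk') s
        intro t
        constructor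
        · intro ht
          exact hconj s hs t ht
        · intro ht
          have := hconj s⁻¹ ((T : Subgroup X).inv_mem hs) _ ht
          have e : s⁻¹ * (s * t * s⁻¹) * s⁻¹⁻¹ = t := by group
          rwa [e] at this
    have hP₁p : IsPGroup p P₁ := T.2.to_le hP₁T
    have hP₁R : P₁ ≤ R := Cfsg.Agent.Lib.Helper76_PSolvable.le_pCore p _ hP₁p
    exact hP₁R ⟨hxT, hx⟩
  have hpow : ∀ k ∈ K, k ^ Nat.card Kbar ∈ R := by
    intro k hk
    rw [← hker, map_pow]
    have h1 : (⟨QuotientGroup.mk' R k, hk⟩ : Kbar) ^ Nat.card Kbar = 1 := pow_card_eq_one'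
    have h2 := congrArg Subtype.val h1
    rw [Subgroup.coe_pow] at h2
    exact h2
  exact ⟨V, K, Nat.card Kbar, hVn, hVc, hVp, hCVeq, hKn, hRK, hKbc, hpow, hKcomm, stepF⟩

end Cfsg.Agent.Lib.Helper72_ThompsonStructure
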