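import Mathlib

/-!
Helper library (helper72): an elementary abelian `2`-group `B` acting nontrivially (by conjugation)
on an abelian group `K` of odd order has a "hyperplane" which is the full centralizer in `B` of
some element of `K`:  there is `a ∈ K` such that `C_B(a)` has index two in `B`.
-/

set_option autoImplicit false

namespace Cfsg.Agent.Lib.Helper72_Hyperplane

theorem hyperplane {Y : Type*} [Group Y] [Finite Y] (Kb Bb : Subgroup Y)
    (hK : ∀ a ∈ Kb, ∀ b ∈ Kb, a * b = b * a)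
    (m : ℕ) (hm : Odd m) (hKm : ∀ a ∈ Kb, a ^ m = 1)
    (hBn : ∀ x ∈ Bb, ∀ a ∈ Kb, x * a * x⁻¹ ∈ Kb)
    (hBc : ∀ x ∈ Bb, ∀ y ∈ Bb, x * y = y * x) (hB2 : ∀ x ∈ Bb, x * x = 1)
    (hnt : ∃ x ∈ Bb, ∃ a ∈ Kb, x * a ≠ a * x) :
    ∃ a ∈ Kb, (∃ x ∈ Bb, x * a ≠ a * x) ∧
      ∀ x ∈ Bb, ∀ y ∈ Bb, x * a ≠ a * x → y * a ≠ a * y → (x * y) * a = a * (x * y) := by
  classical
  have hne : Nonempty {a : Y // a ∈ Kb ∧ ∃ x ∈ Bb, x * a ≠ a * x} := by
    obtain ⟨x, hx, a, ha, hxa⟩ := hnt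
    exact ⟨⟨a, ha, x, hx, hxa⟩⟩
  obtain ⟨⟨a, haK, hax⟩, hmax⟩ := Finite.exists_max
    (fun a : {a : Y // a ∈ Kb ∧ ∃ x ∈ Bb, x * a ≠ a * x} =>
      Nat.card ↥(Bb ⊓ Subgroup.centralizer ({a.1} : Set Y)))
  refine ⟨a, haK, hax, ?_⟩
  -- Claim U
  have claimU : ∀ z ∈ Bb, z * a ≠ a * z → ∀ t ∈ Bb, t * (a * (z * a * z⁻¹)) = (a * (z * a * z⁻¹)) * t := by
    intro z hz hza
    by_contra hcon
    push Not at hcon
    obtain ⟨t, ht, htu⟩ := hcon
    set u := a * (z * a * z⁻¹) with hu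
    have huK : u ∈ Kb := Kb.mul_mem haK (hBn z hz a haK)
    have h1 := hmax ⟨u, huK, t, ht, htu⟩
    simp only at h1
    have hle : Bb ⊓ Subgroup.centralizer ({a} : Set Y) ≤ Bb ⊓ Subgroup.centralizer ({u} : Set Y) := by
      intro t' ht'
      refine ⟨ht'.1, ?_⟩
      have h2 : t' * a = a * t' := Subgroup.mem_centralizer_singleton_iff.mp ht'.2
      show t' ∈ Subgroup.centralizer ({u} : Set Y)
      rw [Subgroup.mem_centralizer_singleton_iff]
      have h3 : t' * z = z * t' := hBc t' ht'.1 z hz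
      have h4 : t' * a * t'⁻¹ = a := by rw [h2]; group
      have h5 : t' * u * t'⁻¹ = u := by
        have e : t' * u * t'⁻¹ = (t' * a * t'⁻¹) * ((t' * z) * a * (t' * z)⁻¹) := by
          rw [hu]; group
        rw [e, h4, h3]
        have e2 : (z * t') * a * (z * t')⁻¹ = z * (t' * a * t'⁻¹) * z⁻¹ := by group
        rw [e2, h4]
      calc t' * u = (t' * u * t'⁻¹) * t' := by group
        _ = u * t' := by rw [h5]
    have hzu : z ∈ Bb ⊓ Subgroup.centralizer ({u} : Set Y) := by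
      refine ⟨hz, ?_⟩
      show z ∈ Subgroup.centralizer ({u} : Set Y)
      rw [Subgroup.mem_centralizer_singleton_iff]
      have h5 : z * u * z⁻¹ = u := by
        have e : z * u * z⁻¹ = (z * a * z⁻¹) * ((z * z) * a * (z * z)⁻¹) := by
          rw [hu]; group
        rw [e, hB2 z hz]
        have e2 : (1 : Y) * a * 1⁻¹ = a := by group
        rw [e2]
        exact hK _ (hBn z hz a haK) _ haK
      calc z * u = (z * u * z⁻¹) * z := by group
        _ = u * z := by rw [h5]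
    have hza' : z ∉ Bb ⊓ Subgroup.centralizer ({a} : Set Y) := by
      intro h
      exact hza (Subgroup.mem_centralizer_singleton_iff.mp h.2)
    have hlt : Bb ⊓ Subgroup.centralizer ({a} : Set Y) < Bb ⊓ Subgroup.centralizer ({u} : Set Y) :=
      lt_of_le_of_ne hle (fun h => hza' (h ▸ hzu))
    have hcardlt : Nat.card ↥(Bb ⊓ Subgroup.centralizer ({a} : Set Y)) <
        Nat.card ↥(Bb ⊓ Subgroup.centralizer ({u} : Set Y)) := by
      apply lt_of_le_of_ne (Subgroup.card_le_of_le hlt.le)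
      intro hc
      exact hlt.ne (Subgroup.eq_of_le_of_card_ge hlt.le hc.ge)
    omega
  intro x hx y hy hxa hya
  by_contra hxy
  have hxyB : x * y ∈ Bb := Bb.mul_mem hx hy
  obtain ⟨ax, hax'⟩ : ∃ ax, ax = x * a * x⁻¹ := ⟨_, rfl⟩
  obtain ⟨ay, hay'⟩ : ∃ ay, ay = y * a * y⁻¹ := ⟨_, rfl⟩
  obtain ⟨axy, haxy'⟩ : ∃ axy, axy = (x * y) * a * (x * y)⁻¹ := ⟨_, rfl⟩
  have haxK : ax ∈ Kb := hax' ▸ hBn x hx a haK
  have hayK : ay ∈ Kb := hay' ▸ hBn y hy a haK
  have haxyK : axy ∈ Kb := haxy' ▸ hBn _ hxyB a haK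
  -- E1
  have E1 : ax * axy = a * ay := by
    have h1 := claimU y hy hya x hx
    have h2 : x * (a * ay) * x⁻¹ = a * ay := by rw [hay', h1]; group
    have e : x * (a * ay) * x⁻¹ = ax * axy := by rw [hax', haxy', hay']; group
    rw [← e, h2]
  -- E2
  have E2 : ax * ay = a * axy := by
    have h1 := claimU (x * y) hxyB hxy x hx
    have h2 : x * (a * axy) * x⁻¹ = a * axy := by rw [haxy', h1]; group
    have e : x * (a * axy) * x⁻¹ = ax * ((x * x) * ay * (x * x)⁻¹) := by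
      rw [hax', haxy', hay']; group
    rw [hB2 x hx] at e
    have e2 : (1 : Y) * ay * 1⁻¹ = ay := by group
    rw [e2] at e
    rw [← e, h2]
  have c1 : Commute a ax := hK a haK ax haxK
  have hsq : ax * ax = a * a := by
    have h3 : axy = ax⁻¹ * (a * ay) := by rw [← E1]; group
    have h4 : ax * ay = (a * ax⁻¹ * a) * ay := by
      rw [E2, h3]; group
    have h5 : ax = a * ax⁻¹ * a := mul_right_cancel h4
    have c2 : Commute a ax⁻¹ := c1.inv_right
    calc ax * ax = (a * ax⁻¹ * a) * ax := by rw [← h5]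
      _ = a * (ax⁻¹ * a) * ax := by group
      _ = a * (a * ax⁻¹) * ax := by rw [c2.eq]
      _ = a * a := by group
  set d := ax * a⁻¹ with hd
  have hdK : d ∈ Kb := Kb.mul_mem haxK (Kb.inv_mem haK)
  have hdd : d ^ 2 = 1 := by
    have c3 : Commute a⁻¹ ax := c1.inv_left
    rw [pow_two, hd]
    calc ax * a⁻¹ * (ax * a⁻¹) = ax * (a⁻¹ * ax) * a⁻¹ := by group
      _ = ax * (ax * a⁻¹) * a⁻¹ := by rw [c3.eq]
      _ = (ax * ax) * a⁻¹ * a⁻¹ := by group
      _ = 1 := by rw [hsq]; group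
  have hdm : d ^ m = 1 := hKm d hdK
  have hd1 : d = 1 := by
    have h1 : orderOf d ∣ Nat.gcd 2 m := Nat.dvd_gcd (orderOf_dvd_of_pow_eq_one hdd)
      (orderOf_dvd_of_pow_eq_one hdm)
    have h2 : Nat.gcd 2 m = 1 := Nat.coprime_two_left.mpr hm
    rw [h2, Nat.dvd_one, orderOf_eq_one_iff] at h1
    exact h1
  apply hxa
  have h6 : ax = a := by
    have : ax = d * a := by rw [hd]; group
    rw [this, hd1, one_mul]
  calc x * a = (x * a * x⁻¹) * x := by group
    _ = a * x := by rw [← hax', h6]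

end Cfsg.Agent.Lib.Helper72_Hyperplane
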