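import Cfsg.Agent.Lib.Helper72_S4Section
import Cfsg.Agent.Lib.Helper72_Hyperplane
import Cfsg.Agent.Lib.Helper51_Offender
import Cfsg.Agent.Lib.Helper32_PGroup

/-!
Helper library (helper72): the case `p = 2` of Thompson's normal `p`-complement theorem.
In the terminal configuration a quadratic offender on `V = Ω₁(Z(O₂(X)))` forces the symmetric
group of degree four to be involved in `X`.
-/

set_option autoImplicit false

namespace Cfsg.Agent.Lib.Helper72_TwoCase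

open scoped commutatorElement
open Cfsg.Agent.Lib.Helper51_Offender

section Basic

variable {X : Type*} [Group X]

/-- `[v, q r] = [v, q]` when `r` centralizes the normal subgroup `V ∋ v` -/
theorem comm_mul_right_of_centralizes (V : Subgroup X) {v q r : X} (hv : v ∈ V)
    (hr : r ∈ Subgroup.centralizer (V : Set X)) : ⁅v, q * r⁆ = ⁅v, q⁆ := by
  have h1 : v⁻¹ * r = r * v⁻¹ := Subgroup.mem_centralizer_iff.mp hr _ (V.inv_mem hv)
  have h2 : r * v⁻¹ * r⁻¹ = v⁻¹ := by rw [← h1]; group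
  rw [commutatorElement_def, commutatorElement_def]
  calc v * (q * r) * v⁻¹ * (q * r)⁻¹ = v * q * (r * v⁻¹ * r⁻¹) * q⁻¹ := by group
    _ = v * q * v⁻¹ * q⁻¹ := by rw [h2]

/-- Fitting: if `c u c⁻¹ = u w` and `c` fixes `w` then `cⁱ u c⁻ⁱ = u wⁱ` -/
theorem conj_pow_eq {c u w : X} (h1 : c * u * c⁻¹ = u * w) (h2 : c * w * c⁻¹ = w) (i : ℕ) :
    c ^ i * u * (c ^ i)⁻¹ = u * w ^ i := by
  induction i with
  | zero => simp
  | succ i ih =>
    have e : c ^ (i + 1) * u * (c ^ (i + 1))⁻¹ = c * (c ^ i * u * (c ^ i)⁻¹) * c⁻¹ := by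
      rw [pow_succ']; group
    rw [e, ih]
    have e2 : c * (u * w ^ i) * c⁻¹ = (c * u * c⁻¹) * (c * w * c⁻¹) ^ i := by
      rw [conj_pow]; group
    rw [e2, h1, h2, pow_succ', mul_assoc]

/-- an element with two coprime powers in a subgroup lies in it -/
theorem mem_of_pow_mem_of_coprime (H : Subgroup X) (x : X) {a b : ℕ} (hab : a.Coprime b)
    (ha : x ^ a ∈ H) (hb : x ^ b ∈ H) : x ∈ H := by
  have h1 : (1 : ℤ) = (a : ℤ) * Nat.gcdA a b + (b : ℤ) * Nat.gcdB a b := by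
    have := Nat.gcd_eq_gcd_ab a b
    rw [hab] at this
    exact_mod_cast this
  have h2 : x = (x ^ a) ^ (Nat.gcdA a b) * (x ^ b) ^ (Nat.gcdB a b) := by
    rw [← zpow_natCast, ← zpow_natCast, ← zpow_mul, ← zpow_mul, ← zpow_add, ← h1, zpow_one]
  rw [h2]
  exact H.mul_mem (H.zpow_mem ha _) (H.zpow_mem hb _)

/-- a quadratically acting element of a group acting on a group `V` of exponent two acts as an
involution -/
theorem sq_mem_centralizer_of_quadratic (V : Subgroup X) [hVn : V.Normal]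
    (hV2 : ∀ a ∈ V, a ^ 2 = 1) {x : X} (hx : ∀ v ∈ V, ⁅⁅v, x⁆, x⁆ = 1) :
    x * x ∈ Subgroup.centralizer (V : Set X) := by
  rw [Subgroup.mem_centralizer_iff]
  intro v hv
  -- work with `u = v⁻¹`
  have hu : v⁻¹ ∈ V := V.inv_mem hv
  set w := ⁅v, x⁆ with hw
  have hwV : w ∈ V := by
    have e : w = v * (x * v⁻¹ * x⁻¹) := by rw [hw, commutatorElement_def]; group
    rw [e]
    exact V.mul_mem hv (hVn.conj_mem _ hu x)
  have hwx : w * x = x * w := commutatorElement_eq_one_iff_mul_comm.mp (hx v hv)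
  have h1 : x * v⁻¹ * x⁻¹ = v⁻¹ * w := by rw [hw, commutatorElement_def]; group
  have h2 : x * w * x⁻¹ = w := by rw [← hwx]; group
  have h3 := conj_pow_eq h1 h2 2
  rw [hV2 w hwV, mul_one] at h3
  -- `x² v⁻¹ x⁻² = v⁻¹`
  have h4 : (x * x) * v⁻¹ = v⁻¹ * (x * x) := by
    rw [pow_two] at h3
    calc (x * x) * v⁻¹ = ((x * x) * v⁻¹ * (x * x)⁻¹) * (x * x) := by group
      _ = v⁻¹ * (x * x) := by rw [h3]
  calc v * (x * x) = v * ((x * x) * v⁻¹) * v := by group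
    _ = v * (v⁻¹ * (x * x)) * v := by rw [h4]
    _ = (x * x) * v := by group

end Basic

section PQ

variable {X : Type*} [Group X]

/-- the cyclic group generated by `c` acts on the normal abelian subgroup `V` -/
theorem act_zpowers (V : Subgroup X) [hVn : V.Normal] (hVc : ∀ a ∈ V, ∀ b ∈ V, a * b = b * a)
    (c : X) : Act V (Subgroup.zpowers c) := by
  refine ⟨hVc, ?_, ?_⟩
  · rw [Subgroup.normalizer_eq_top_iff.mpr hVn]; exact le_top
  · have : ⁅Subgroup.zpowers c, Subgroup.zpowers c⁆ = ⊥ := by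
      rw [Subgroup.commutator_eq_bot_iff_le_centralizer]
      intro x hx
      rw [Subgroup.mem_centralizer_iff]
      intro y hy
      obtain ⟨i, rfl⟩ := Subgroup.mem_zpowers_iff.mp hx
      obtain ⟨j, rfl⟩ := Subgroup.mem_zpowers_iff.mp hy
      exact zpow_mul_comm c j i
    rw [this]; exact bot_le

variable [Finite X]

/-- the `P × Q` argument: a `2`-group `B₁ ≥ R` and an element `b`, both commuting modulo
`R = C_X(V)` with the odd-order-mod-`R` element `k`... if `b` centralizes `C_V(B₁)` and commutes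
with `B₁` modulo `R` then `[k, b] ∈ R`. -/
theorem pq_argument (R V K : Subgroup X) [hRn : R.Normal] [hVn : V.Normal] [hKn : K.Normal]
    (hVc : ∀ a ∈ V, ∀ b ∈ V, a * b = b * a) (hV2 : ∀ a ∈ V, a ^ 2 = 1)
    (hCV : Subgroup.centralizer (V : Set X) = R)
    (m : ℕ) (hm : Odd m) (hKm : ∀ k ∈ K, k ^ m ∈ R)
    (B₁ : Subgroup X) (hRB₁ : R ≤ B₁) (hB₁2 : IsPGroup 2 B₁)
    (k b : X) (hk : k ∈ K)
    (hB₁k : ∀ x ∈ B₁, k * x * k⁻¹ * x⁻¹ ∈ R)
    (hB₁b : ∀ x ∈ B₁, b * x * b⁻¹ * x⁻¹ ∈ R)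
    (hU : ∀ u ∈ CV V B₁, b * u = u * b) :
    k * b * k⁻¹ * b⁻¹ ∈ R := by
  by_contra hc
  set c := k * b * k⁻¹ * b⁻¹ with hcdef
  have hVR : V ≤ R := by
    intro v hv
    rw [← hCV, Subgroup.mem_centralizer_iff]
    intro w hw
    exact hVc w hw v hv
  have hRv : ∀ r ∈ R, ∀ v ∈ V, r * v = v * r := by
    intro r hr v hv
    rw [← hCV] at hr
    exact (Subgroup.mem_centralizer_iff.mp hr v hv).symm
  have hcK : c ∈ K := by
    have e : c = k * (b * k⁻¹ * b⁻¹) := by rw [hcdef]; group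
    rw [e]
    exact K.mul_mem hk (hKn.conj_mem _ (K.inv_mem hk) b)
  have hcm : c ^ m ∈ R := hKm c hcK
  -- `k⁻¹` normalizes `C_V(B₁)`
  have hkU : ∀ u ∈ CV V B₁, k⁻¹ * u * k ∈ CV V B₁ := by
    intro u hu
    rw [mem_CV] at hu ⊢
    refine ⟨by simpa using hVn.conj_mem u hu.1 k⁻¹, ?_⟩
    intro x hx
    set r := k * x * k⁻¹ * x⁻¹ with hr
    have hrR : r ∈ R := hB₁k x hx
    have h1 : k * x * k⁻¹ = r * x := by rw [hr]; group
    have h2 : (k * x * k⁻¹) * u = u * (k * x * k⁻¹) := by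
      rw [h1, mul_assoc, hu.2 x hx, ← mul_assoc, hRv r hrR u hu.1, mul_assoc]
    calc x * (k⁻¹ * u * k) = k⁻¹ * ((k * x * k⁻¹) * u) * k := by group
      _ = k⁻¹ * (u * (k * x * k⁻¹)) * k := by rw [h2]
      _ = k⁻¹ * u * k * x := by group
  -- `c` centralizes `C_V(B₁)`
  have hcU : ∀ u ∈ CV V B₁, c * u * c⁻¹ = u := by
    intro u hu
    have h1 : b * u = u * b := hU u hu
    have h2 : b * (k⁻¹ * u * k) = (k⁻¹ * u * k) * b := hU _ (hkU u hu)
    have h3 : b⁻¹ * u * b = u := by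
      calc b⁻¹ * u * b = b⁻¹ * (u * b) := by group
        _ = b⁻¹ * (b * u) := by rw [h1]
        _ = u := by group
    calc c * u * c⁻¹ = k * (b * (k⁻¹ * (b⁻¹ * u * b) * k)) * b⁻¹ * k⁻¹ := by rw [hcdef]; group
      _ = k * (b * (k⁻¹ * u * k)) * b⁻¹ * k⁻¹ := by rw [h3]
      _ = k * ((k⁻¹ * u * k) * b) * b⁻¹ * k⁻¹ := by rw [h2]
      _ = u := by group
  -- `c` commutes with `B₁` modulo `R`
  have hker : ∀ x : X, QuotientGroup.mk' R x = 1 ↔ x ∈ R := by
    intro x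
    rw [← MonoidHom.mem_ker, QuotientGroup.ker_mk']
  have hcB₁ : ∀ x ∈ B₁, x * c * x⁻¹ * c⁻¹ ∈ R := by
    intro x hx
    have h1 : Commute (QuotientGroup.mk' R k) (QuotientGroup.mk' R x) := by
      have := (hker _).mpr (hB₁k x hx)
      simp only [map_mul, map_inv] at this
      show QuotientGroup.mk' R k * QuotientGroup.mk' R x = QuotientGroup.mk' R x * QuotientGroup.mk' R k
      calc QuotientGroup.mk' R k * QuotientGroup.mk' R x
          = (QuotientGroup.mk' R k * QuotientGroup.mk' R x * (QuotientGroup.mk' R k)⁻¹ *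
              (QuotientGroup.mk' R x)⁻¹) * (QuotientGroup.mk' R x * QuotientGroup.mk' R k) := by
            group
        _ = QuotientGroup.mk' R x * QuotientGroup.mk' R k := by rw [this, one_mul]
    have h2 : Commute (QuotientGroup.mk' R b) (QuotientGroup.mk' R x) := by
      have := (hker _).mpr (hB₁b x hx)
      simp only [map_mul, map_inv] at this
      show QuotientGroup.mk' R b * QuotientGroup.mk' R x = QuotientGroup.mk' R x * QuotientGroup.mk' R b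
      calc QuotientGroup.mk' R b * QuotientGroup.mk' R x
          = (QuotientGroup.mk' R b * QuotientGroup.mk' R x * (QuotientGroup.mk' R b)⁻¹ *
              (QuotientGroup.mk' R x)⁻¹) * (QuotientGroup.mk' R x * QuotientGroup.mk' R b) := by
            group
        _ = QuotientGroup.mk' R x * QuotientGroup.mk' R b := by rw [this, one_mul]
    have h3 : Commute (QuotientGroup.mk' R x) (QuotientGroup.mk' R c) := by
      rw [hcdef]
      simp only [map_mul, map_inv]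
      exact ((h1.symm.mul_right h2.symm).mul_right h1.symm.inv_right).mul_right h2.symm.inv_right
    rw [← hker]
    simp only [map_mul, map_inv]
    rw [h3.eq]; group
  -- the subgroup `W = [V, c]`
  have h := act_zpowers V hVc c
  have hcz : c ∈ Subgroup.zpowers c := Subgroup.mem_zpowers c
  set θ := theta h c hcz with hθ
  have hθv : ∀ v : ↥V, θ v = ⁅(v : X), c⁆ := fun _ => rfl
  set W : Subgroup X := θ.range with hW
  have hWV : W ≤ V := by
    rintro _ ⟨v, rfl⟩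
    exact h.comm_mem v.2 hcz
  have hWne : W ≠ ⊥ := by
    intro h0
    apply hc
    rw [← hCV, Subgroup.mem_centralizer_iff]
    intro v hv
    have h1 : θ ⟨v, hv⟩ ∈ W := ⟨⟨v, hv⟩, rfl⟩
    rw [h0, Subgroup.mem_bot, hθv] at h1
    exact commutatorElement_eq_one_iff_mul_comm.mp h1
  have hB₁W : B₁ ≤ Subgroup.normalizer (W : Set X) := by
    intro x hx
    apply Subgroup.mem_normalizer_fintype
    rintro _ ⟨v, rfl⟩
    rw [hθv]
    set r' := c⁻¹ * (x * c * x⁻¹ * c⁻¹) * c with hr'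
    have hr'R : r' ∈ R := by
      have := hRn.conj_mem _ (hcB₁ x hx) c⁻¹
      simpa [hr'] using this
    have hr'c : r' ∈ Subgroup.centralizer (V : Set X) := by rw [hCV]; exact hr'R
    have hv' : x * (v : X) * x⁻¹ ∈ V := hVn.conj_mem _ v.2 x
    have e : x * ⁅(v : X), c⁆ * x⁻¹ = ⁅x * (v : X) * x⁻¹, c * r'⁆ := by
      rw [hr', commutatorElement_def, commutatorElement_def]; group
    rw [e, comm_mul_right_of_centralizes V hv' hr'c]
    exact ⟨⟨x * (v : X) * x⁻¹, hv'⟩, rfl⟩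
  have hWB₁ : W ≤ B₁ := hWV.trans (hVR.trans hRB₁)
  have hNn : (W.subgroupOf B₁).Normal := Subgroup.normal_subgroupOf_of_le_normalizer hB₁W
  have hNne : W.subgroupOf B₁ ≠ ⊥ := by
    intro h0
    rw [Subgroup.subgroupOf_eq_bot, disjoint_iff, inf_of_le_left hWB₁] at h0
    exact hWne h0
  have : Fact (Nat.Prime 2) := ⟨Nat.prime_two⟩
  obtain ⟨z, hzN, hzc, hz1⟩ :=
    Cfsg.Agent.Lib.Helper32_PGroup.exists_mem_center_of_normal hB₁2 (W.subgroupOf B₁) hNne
  have hwW : (z : X) ∈ W := Subgroup.mem_subgroupOf.mp hzN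
  have hw1 : (z : X) ≠ 1 := by
    intro h0
    apply hz1
    exact Subtype.ext h0
  have hwU : (z : X) ∈ CV V B₁ := by
    rw [mem_CV]
    refine ⟨hWV hwW, ?_⟩
    intro x hx
    have := Subgroup.mem_center_iff.mp hzc ⟨x, hx⟩
    exact congrArg Subtype.val this
  have hcw : c * (z : X) * c⁻¹ = (z : X) := hcU _ hwU
  obtain ⟨v, hv⟩ := hwW
  rw [hθv] at hv
  -- Fitting
  have h1 : c * (v : X)⁻¹ * c⁻¹ = (v : X)⁻¹ * (z : X) := by
    rw [← hv, commutatorElement_def]; group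
  have h2 := conj_pow_eq h1 hcw m
  have h3 : c ^ m * (v : X)⁻¹ * (c ^ m)⁻¹ = (v : X)⁻¹ := by
    have := hRv _ hcm _ (V.inv_mem v.2)
    rw [this]; group
  rw [h3] at h2
  have h4 : (z : X) ^ m = 1 := by
    have : (v : X)⁻¹ * 1 = (v : X)⁻¹ * (z : X) ^ m := by rw [mul_one]; exact h2
    exact (mul_left_cancel this).symm
  have h5 : (z : X) ^ 2 = 1 := hV2 _ (hWV (Subgroup.mem_subgroupOf.mp hzN))
  have h6 : orderOf (z : X) ∣ Nat.gcd 2 m :=
    Nat.dvd_gcd (orderOf_dvd_of_pow_eq_one h5) (orderOf_dvd_of_pow_eq_one h4)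
  rw [Nat.coprime_two_left.mpr hm, Nat.dvd_one, orderOf_eq_one_iff] at h6
  exact hw1 h6

end PQ

section Transvection

variable {X : Type*} [Group X] [Finite X]

/-- an involution `b` (modulo `R = C_X(V)`) centralizing a subgroup of index at most two of `V` and
not commuting modulo `R` with some `k ∈ K` (where `K/R` is abelian of odd order) produces a section
isomorphic to the symmetric group of degree four. -/
theorem involves_S4_of_transvection (R V K : Subgroup X) [hRn : R.Normal] [hVn : V.Normal]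
    [hKn : K.Normal] (hR2 : IsPGroup 2 R)
    (hVc : ∀ a ∈ V, ∀ b ∈ V, a * b = b * a) (hV2 : ∀ a ∈ V, a ^ 2 = 1)
    (hCV : Subgroup.centralizer (V : Set X) = R)
    (m : ℕ) (hm : Odd m) (hKm : ∀ k ∈ K, k ^ m ∈ R)
    (hKc : ∀ k₁ ∈ K, ∀ k₂ ∈ K, k₁ * k₂ * k₁⁻¹ * k₂⁻¹ ∈ R)
    (b k : X) (hk : k ∈ K) (hbb : b * b ∈ R)
    (U₁ : Subgroup X) (hU₁V : U₁ ≤ V) (hU₁b : ∀ u ∈ U₁, b * u = u * b)
    (hU₁card : Nat.card V ≤ 2 * Nat.card U₁)
    (hc : k * b * k⁻¹ * b⁻¹ ∉ R) :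
    Cfsg.Involves (Equiv.Perm (Fin 4)) X := by
  classical
  set c := k * b * k⁻¹ * b⁻¹ with hcdef
  have hVR : V ≤ R := by
    intro v hv
    rw [← hCV, Subgroup.mem_centralizer_iff]
    intro w hw
    exact hVc w hw v hv
  have hRv : ∀ r ∈ R, ∀ v ∈ V, r * v = v * r := by
    intro r hr v hv
    rw [← hCV] at hr
    exact (Subgroup.mem_centralizer_iff.mp hr v hv).symm
  have hcK : c ∈ K := by
    have e : c = k * (b * k⁻¹ * b⁻¹) := by rw [hcdef]; group
    rw [e]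
    exact K.mul_mem hk (hKn.conj_mem _ (K.inv_mem hk) b)
  set π := QuotientGroup.mk' R with hπ
  have hker : ∀ x : X, π x = 1 ↔ x ∈ R := by
    intro x
    rw [← MonoidHom.mem_ker, QuotientGroup.ker_mk']
  -- `b` inverts `c` modulo `R`
  have hbc : π b * π c * (π b)⁻¹ = (π c)⁻¹ := by
    have hβ : π b * π b = 1 := by rw [← map_mul]; exact (hker _).mpr hbb
    have hβinv : (π b)⁻¹ = π b := inv_eq_of_mul_eq_one_right hβ
    rw [hcdef]
    simp only [map_mul, map_inv]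
    rw [hβinv]
    have e1 : π b * (π k * π b * (π k)⁻¹ * π b) * π b =
        π b * π k * π b * (π k)⁻¹ * (π b * π b) := by group
    have e2 : (π k * π b * (π k)⁻¹ * π b)⁻¹ = (π b)⁻¹ * π k * (π b)⁻¹ * (π k)⁻¹ := by group
    rw [e1, e2, hβ, hβinv, mul_one]
  -- an element of odd prime order
  obtain ⟨a, ha⟩ := hR2.exists_card_eq
  set c₁ := c ^ (Nat.card R) with hc₁
  have hc₁m : c₁ ^ m = 1 := by
    rw [hc₁, ← pow_mul, mul_comm, pow_mul]
    have h1 : (⟨c ^ m, hKm c hcK⟩ : R) ^ Nat.card R = 1 := pow_card_eq_one'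
    have h2 := congrArg Subtype.val h1
    rw [Subgroup.coe_pow] at h2
    exact h2
  have hc₁ne : c₁ ≠ 1 := by
    intro h0
    apply hc
    apply mem_of_pow_mem_of_coprime R c (a := m) (b := 2 ^ a) ?_ (hKm c hcK) ?_
    · exact Nat.Coprime.pow_right a (Nat.coprime_two_right.mpr hm)
    · rw [← ha, ← hc₁, h0]; exact R.one_mem
  have hord₁ : orderOf c₁ ∣ m := orderOf_dvd_of_pow_eq_one hc₁m
  have hord₁ne : orderOf c₁ ≠ 1 := fun h => hc₁ne (orderOf_eq_one_iff.mp h)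
  set q := (orderOf c₁).minFac with hq
  have hqp : q.Prime := Nat.minFac_prime hord₁ne
  have hqd : q ∣ orderOf c₁ := Nat.minFac_dvd _
  have hqodd : Odd q := Odd.of_dvd_nat hm (hqd.trans hord₁)
  have hq2 : q ≠ 2 := by
    intro h
    rw [h] at hqodd
    exact absurd hqodd (by decide)
  set e := orderOf c₁ / q with he
  set c₀ := c₁ ^ e with hc₀
  have hordc₀ : orderOf c₀ = q := orderOf_pow_orderOf_div (orderOf_pos c₁).ne' hqd
  have hc₀pow : c₀ = c ^ (Nat.card R * e) := by rw [hc₀, hc₁, pow_mul]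
  have hc₀K : c₀ ∈ K := by rw [hc₀pow]; exact K.pow_mem hcK _
  have hc₀q : c₀ ^ q = 1 := by rw [← hordc₀]; exact pow_orderOf_eq_one c₀
  have hc₀R : c₀ ∉ R := by
    intro h0
    obtain ⟨j, hj⟩ := hR2 ⟨c₀, h0⟩
    have h1 : c₀ ^ 2 ^ j = 1 := by
      have := congrArg Subtype.val hj
      simpa using this
    have h2 : q ∣ 2 ^ j := by rw [← hordc₀]; exact orderOf_dvd_of_pow_eq_one h1
    have h3 : q ∣ 2 := hqp.dvd_of_dvd_pow h2
    exact hq2 ((Nat.prime_dvd_prime_iff_eq hqp Nat.prime_two).mp h3)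
  have hbc₀ : π b * π c₀ * (π b)⁻¹ = (π c₀)⁻¹ := by
    rw [hc₀pow, map_pow, ← conj_pow, hbc, inv_pow]
  -- `c₀` centralizes `U₀`
  set U₂ : Subgroup X := U₁.map (MulAut.conj k).toMonoidHom with hU₂
  set U₀ : Subgroup X := U₁ ⊓ U₂ with hU₀
  have hU₂V : U₂ ≤ V := by
    rintro _ ⟨u, hu, rfl⟩
    exact hVn.conj_mem u (hU₁V hu) k
  have hU₀V : U₀ ≤ V := inf_le_left.trans hU₁V
  have hcU₀ : ∀ u ∈ U₀, Commute c u := by
    rintro u ⟨hu1, u', hu', hu2⟩
    have hu2' : k * u' * k⁻¹ = u := hu2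
    have h1 : b * u = u * b := hU₁b u hu1
    have h2 : b * u' = u' * b := hU₁b u' hu'
    have h3 : b⁻¹ * u * b = u := by
      calc b⁻¹ * u * b = b⁻¹ * (u * b) := by group
        _ = b⁻¹ * (b * u) := by rw [h1]
        _ = u := by group
    have h4 : k⁻¹ * u * k = u' := by rw [← hu2']; group
    have h5 : c * u * c⁻¹ = u := by
      calc c * u * c⁻¹ = k * (b * (k⁻¹ * (b⁻¹ * u * b) * k)) * b⁻¹ * k⁻¹ := by rw [hcdef]; group
        _ = k * (b * u') * b⁻¹ * k⁻¹ := by rw [h3, h4]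
        _ = k * (u' * b) * b⁻¹ * k⁻¹ := by rw [h2]
        _ = k * u' * k⁻¹ := by group
        _ = u := hu2'
    show c * u = u * c
    calc c * u = (c * u * c⁻¹) * c := by group
      _ = u * c := by rw [h5]
  have hc₀U₀ : ∀ u ∈ U₀, c₀ * u = u * c₀ := by
    intro u hu
    rw [hc₀pow]
    exact ((hcU₀ u hu).pow_left _).eq
  -- cardinalities
  have hU₂card : Nat.card U₂ = Nat.card U₁ :=
    Subgroup.card_map_of_injective (MulAut.conj k).injective
  have hVpos : 0 < Nat.card V := Nat.card_pos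
  have hU₀pos : 0 < Nat.card U₀ := Nat.card_pos
  have hVU₀ : Nat.card V ≤ 4 * Nat.card U₀ := by
    have h1 := card_mul_card_le U₁ U₂
    have h2 : Nat.card ↥(U₁ ⊔ U₂) ≤ Nat.card V := Subgroup.card_le_of_le (sup_le hU₁V hU₂V)
    rw [hU₂card] at h1
    have h3 : Nat.card V * Nat.card V ≤ Nat.card V * (4 * Nat.card U₀) := by
      calc Nat.card V * Nat.card V ≤ (2 * Nat.card U₁) * (2 * Nat.card U₁) :=
            Nat.mul_le_mul hU₁card hU₁card
        _ = 4 * (Nat.card U₁ * Nat.card U₁) := by ring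
        _ ≤ 4 * (Nat.card ↥(U₁ ⊔ U₂) * Nat.card ↥(U₁ ⊓ U₂)) := Nat.mul_le_mul_left _ h1
        _ ≤ 4 * (Nat.card V * Nat.card ↥(U₁ ⊓ U₂)) :=
            Nat.mul_le_mul_left _ (Nat.mul_le_mul_right _ h2)
        _ = Nat.card V * (4 * Nat.card U₀) := by rw [hU₀]; ring
    exact Nat.le_of_mul_le_mul_left h3 hVpos
  -- the subgroup `W = [V, c₀]`
  have h₀ := act_zpowers V hVc c₀
  have hcz : c₀ ∈ Subgroup.zpowers c₀ := Subgroup.mem_zpowers c₀
  set θ := theta h₀ c₀ hcz with hθ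
  have hθv : ∀ v : ↥V, θ v = ⁅(v : X), c₀⁆ := fun _ => rfl
  set W : Subgroup X := θ.range with hW
  have hWV : W ≤ V := by
    rintro _ ⟨v, rfl⟩
    exact h₀.comm_mem v.2 hcz
  have hcardV : Nat.card V = Nat.card θ.ker * Nat.card W := by
    rw [hW, ← Subgroup.index_ker, Subgroup.card_mul_index]
  have hU₀ker : Nat.card U₀ ≤ Nat.card θ.ker := by
    have h1 : U₀.subgroupOf V ≤ θ.ker := by
      intro v hv
      rw [Subgroup.mem_subgroupOf] at hv
      rw [MonoidHom.mem_ker, hθv, commutatorElement_eq_one_iff_mul_comm]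
      exact (hc₀U₀ _ hv).symm
    have h2 : Nat.card (U₀.subgroupOf V) = Nat.card U₀ :=
      Nat.card_congr (Subgroup.subgroupOfEquivOfLe hU₀V).toEquiv
    rw [← h2]
    exact Subgroup.card_le_of_le h1
  have hW4le : Nat.card W ≤ 4 := by
    have h1 : Nat.card U₀ * Nat.card W ≤ Nat.card U₀ * 4 := by
      calc Nat.card U₀ * Nat.card W ≤ Nat.card θ.ker * Nat.card W :=
            Nat.mul_le_mul_right _ hU₀ker
        _ = Nat.card V := hcardV.symm
        _ ≤ 4 * Nat.card U₀ := hVU₀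
        _ = Nat.card U₀ * 4 := by ring
    exact Nat.le_of_mul_le_mul_left h1 hU₀pos
  have hWne : W ≠ ⊥ := by
    intro h0
    apply hc₀R
    rw [← hCV, Subgroup.mem_centralizer_iff]
    intro v hv
    have h1 : θ ⟨v, hv⟩ ∈ W := ⟨⟨v, hv⟩, rfl⟩
    rw [h0, Subgroup.mem_bot, hθv] at h1
    exact commutatorElement_eq_one_iff_mul_comm.mp h1
  have hfix : ∀ w ∈ W, c₀ * w * c₀⁻¹ = w → w = 1 := by
    rintro _ ⟨v, rfl⟩ hw
    rw [hθv] at hw ⊢
    set w := ⁅(v : X), c₀⁆ with hwdef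
    have hwV : w ∈ V := h₀.comm_mem v.2 hcz
    have h1 : c₀ * (v : X)⁻¹ * c₀⁻¹ = (v : X)⁻¹ * w := by
      rw [hwdef, commutatorElement_def]; group
    have h2 := conj_pow_eq h1 hw q
    rw [hc₀q] at h2
    have h4 : w ^ q = 1 := by
      have : (v : X)⁻¹ * 1 = (v : X)⁻¹ * w ^ q := by
        rw [← h2]; group
      exact (mul_left_cancel this).symm
    have h5 : w ^ 2 = 1 := hV2 _ hwV
    have h6 : orderOf w ∣ Nat.gcd 2 q :=
      Nat.dvd_gcd (orderOf_dvd_of_pow_eq_one h5) (orderOf_dvd_of_pow_eq_one h4)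
    rw [Nat.coprime_two_left.mpr hqodd, Nat.dvd_one, orderOf_eq_one_iff] at h6
    exact h6
  have hc₀W : ∀ w ∈ W, c₀ * w * c₀⁻¹ ∈ W := by
    rintro _ ⟨v, rfl⟩
    rw [hθv, ← h₀.comm_conj hcz hcz v.2]
    exact ⟨⟨c₀ * (v : X) * c₀⁻¹, hVn.conj_mem _ v.2 c₀⟩, rfl⟩
  have hc₀NW : c₀ ∈ Subgroup.normalizer (W : Set X) := Subgroup.mem_normalizer_fintype hc₀W
  obtain ⟨w₀, hw₀W, hw₀1⟩ : ∃ w₀ ∈ W, w₀ ≠ 1 := by
    by_contra hcon
    push Not at hcon
    apply hWne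
    rw [eq_bot_iff]
    intro w hw
    rw [Subgroup.mem_bot]
    exact hcon w hw
  have hW4 : Nat.card W = 4 := by
    have hW2 : IsPGroup 2 W := hR2.to_le (hWV.trans hVR)
    have : Fact (Nat.Prime 2) := ⟨Nat.prime_two⟩
    obtain ⟨j, hj⟩ := hW2.exists_card_eq
    have hj0 : j ≠ 0 := by
      rintro rfl
      rw [pow_zero] at hj
      exact hWne (Subgroup.eq_bot_of_card_eq W hj)
    have hj3 : j < 3 := by
      by_contra hcon
      push Not at hcon
      have : 2 ^ 3 ≤ 2 ^ j := Nat.pow_le_pow_right (by norm_num) hcon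
      omega
    have hj1 : j ≠ 1 := by
      rintro rfl
      rw [pow_one] at hj
      have h1 := (Nat.card_eq_two_iff' (1 : W)).mp hj
      obtain ⟨y, -, hy⟩ := h1
      have h2 : (⟨w₀, hw₀W⟩ : W) = y := hy _ (fun h => hw₀1 (congrArg Subtype.val h))
      have h3 : (⟨c₀ * w₀ * c₀⁻¹, hc₀W w₀ hw₀W⟩ : W) = y := by
        apply hy
        intro h
        apply hw₀1
        have h4 : c₀ * w₀ * c₀⁻¹ = 1 := congrArg Subtype.val h
        calc w₀ = c₀⁻¹ * (c₀ * w₀ * c₀⁻¹) * c₀ := by group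
          _ = 1 := by rw [h4]; group
      have h5 : c₀ * w₀ * c₀⁻¹ = w₀ := congrArg Subtype.val (h3.trans h2.symm)
      exact hw₀1 (hfix w₀ hw₀W h5)
    have : j = 2 := by omega
    rw [hj, this]; norm_num
  -- a Sylow `q`-subgroup of `K` containing `c₀`
  have : Fact q.Prime := ⟨hqp⟩
  set c₀K : ↥K := ⟨c₀, hc₀K⟩ with hc₀Kdef
  have hz : IsPGroup q (Subgroup.zpowers c₀K) := by
    apply IsPGroup.of_card (n := 1)
    rw [Nat.card_zpowers, Subgroup.orderOf_mk, hordc₀, pow_one]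
  obtain ⟨P', hP'⟩ := hz.exists_le_sylow
  set P : Subgroup X := (P' : Subgroup K).map K.subtype with hP
  have hc₀P : c₀ ∈ P := ⟨c₀K, hP' (Subgroup.mem_zpowers _), rfl⟩
  have hPq : IsPGroup q P := P'.2.map _
  have hfr : Subgroup.normalizer (P : Set X) ⊔ K = ⊤ := Sylow.normalizer_sup_eq_top P'
  have hb : b ∈ (Subgroup.normalizer (P : Set X) ⊔ K : Subgroup X) := by rw [hfr]; trivial
  rw [← SetLike.mem_coe, Subgroup.mul_normal] at hb
  obtain ⟨n, hn, k₁, hk₁, hnk⟩ := hb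
  have hn' : n ∈ Subgroup.normalizer (P : Set X) := hn
  have hk₁' : k₁ ∈ K := hk₁
  have hnk' : n * k₁ = b := hnk
  -- `n` inverts `c₀`
  have hk₁c₀ : Commute (π k₁) (π c₀) := by
    have := (hker _).mpr (hKc k₁ hk₁' c₀ hc₀K)
    simp only [map_mul, map_inv] at this
    show π k₁ * π c₀ = π c₀ * π k₁
    calc π k₁ * π c₀ = (π k₁ * π c₀ * (π k₁)⁻¹ * (π c₀)⁻¹) * (π c₀ * π k₁) := by group
      _ = π c₀ * π k₁ := by rw [this, one_mul]
  have hnc₀' : π n * π c₀ * (π n)⁻¹ = (π c₀)⁻¹ := by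
    have h1 : π n = π b * (π k₁)⁻¹ := by rw [← hnk', map_mul]; group
    have h2 : (π k₁)⁻¹ * π c₀ * π k₁ = π c₀ := by
      rw [mul_assoc, ← hk₁c₀.eq]; group
    calc π n * π c₀ * (π n)⁻¹ = π b * ((π k₁)⁻¹ * π c₀ * π k₁) * (π b)⁻¹ := by rw [h1]; group
      _ = (π c₀)⁻¹ := by rw [h2, hbc₀]
  have hPR : Disjoint P R := IsPGroup.disjoint_of_ne q 2 hq2 P R hPq hR2
  have hinv : n * c₀ * n⁻¹ = c₀⁻¹ := by
    have h1 : n * c₀ * n⁻¹ ∈ P := (Subgroup.mem_normalizer_iff.mp hn' c₀).mp hc₀P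
    have h2 : n * c₀ * n⁻¹ * c₀ ∈ P := P.mul_mem h1 hc₀P
    have h3 : n * c₀ * n⁻¹ * c₀ ∈ R := by
      rw [← hker]
      simp only [map_mul, map_inv]
      rw [hnc₀']; group
    have h4 : n * c₀ * n⁻¹ * c₀ ∈ P ⊓ R := ⟨h2, h3⟩
    rw [hPR.eq_bot, Subgroup.mem_bot] at h4
    exact eq_inv_of_mul_eq_one_left h4
  -- `n` normalizes `W`
  have hc₀invW : ∀ w ∈ W, c₀⁻¹ * w * c₀ ∈ W := by
    intro w hw
    have := (Subgroup.mem_normalizer_iff.mp (Subgroup.inv_mem _ hc₀NW) w).mp hw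
    simpa using this
  have hinvW : ∀ g : X, g * c₀ * g⁻¹ = c₀⁻¹ → ∀ w ∈ W, g * w * g⁻¹ ∈ W := by
    rintro g hg _ ⟨v, rfl⟩
    rw [hθv]
    have hv' : g * (v : X) * g⁻¹ ∈ V := hVn.conj_mem _ v.2 g
    have e1 : g * ⁅(v : X), c₀⁆ * g⁻¹ = ⁅g * (v : X) * g⁻¹, g * c₀ * g⁻¹⁆ := by
      rw [commutatorElement_def, commutatorElement_def]; group
    have e2 : ⁅g * (v : X) * g⁻¹, c₀⁻¹⁆ = c₀⁻¹ * (⁅g * (v : X) * g⁻¹, c₀⁆)⁻¹ * c₀ := by
      rw [commutatorElement_def, commutatorElement_def]; group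
    rw [e1, hg, e2]
    apply hc₀invW
    apply W.inv_mem
    exact ⟨⟨g * (v : X) * g⁻¹, hv'⟩, rfl⟩
  have hnNW : n ∈ Subgroup.normalizer (W : Set X) :=
    Subgroup.mem_normalizer_fintype (hinvW n hinv)
  -- the complement
  set D : Subgroup X := Subgroup.normalizer (W : Set X) ⊓ Subgroup.normalizer (P : Set X) with hD
  have hPV : Disjoint P V := IsPGroup.disjoint_of_ne q 2 hq2 P V hPq (hR2.to_le hVR)
  have hdisj : W ⊓ D = ⊥ := by
    rw [eq_bot_iff]
    rintro w ⟨hwW, -, hwP⟩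
    rw [Subgroup.mem_bot]
    have h1 : w * c₀ * w⁻¹ ∈ P := (Subgroup.mem_normalizer_iff.mp hwP c₀).mp hc₀P
    have h2 : w * c₀ * w⁻¹ * c₀⁻¹ ∈ P := P.mul_mem h1 (P.inv_mem hc₀P)
    have h3 : w * c₀ * w⁻¹ * c₀⁻¹ ∈ V := by
      have e : w * c₀ * w⁻¹ * c₀⁻¹ = w * (c₀ * w⁻¹ * c₀⁻¹) := by group
      rw [e]
      exact V.mul_mem (hWV hwW) (hVn.conj_mem _ (V.inv_mem (hWV hwW)) c₀)
    have h4 : w * c₀ * w⁻¹ * c₀⁻¹ ∈ P ⊓ V := ⟨h2, h3⟩
    rw [hPV.eq_bot, Subgroup.mem_bot] at h4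
    apply hfix w hwW
    calc c₀ * w * c₀⁻¹ = (w * c₀ * w⁻¹ * c₀⁻¹)⁻¹ * w := by group
      _ = w := by rw [h4]; group
  have hcW : ∃ w ∈ W, c₀ * w ≠ w * c₀ := by
    refine ⟨w₀, hw₀W, ?_⟩
    intro h
    apply hw₀1
    apply hfix w₀ hw₀W
    rw [h]; group
  have hoddc₀ : Odd (orderOf c₀) := by rw [hordc₀]; exact hqodd
  exact Cfsg.Agent.Lib.Helper72_S4Section.involves_S4 W D inf_le_left hdisj hW4 c₀ n
    ⟨hc₀NW, Subgroup.le_normalizer hc₀P⟩ ⟨hnNW, hn'⟩ hoddc₀ hcW hinv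

end Transvection

section Offender

variable {X : Type*} [Group X] [Finite X]

/-- **The case `p = 2`.**  `R = C_X(V)` a normal `2`-subgroup, `V` a normal elementary abelian
`2`-subgroup, `K/R` a normal abelian subgroup of odd order of `X/R` on which `Tg/R` acts
faithfully (`stepF`), and a quadratic offender `Q ≤ Tg` on `V`: then the symmetric group of degree
four is involved in `X`. -/
theorem involves_S4_of_offender (R V K Tg : Subgroup X) [hRn : R.Normal] [hVn : V.Normal]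
    [hKn : K.Normal] (hR2 : IsPGroup 2 R) (hT2 : IsPGroup 2 Tg) (hRT : R ≤ Tg)
    (hVc : ∀ a ∈ V, ∀ b ∈ V, a * b = b * a) (hV2 : ∀ a ∈ V, a ^ 2 = 1)
    (hCV : Subgroup.centralizer (V : Set X) = R)
    (m : ℕ) (hm : Odd m) (hKm : ∀ k ∈ K, k ^ m ∈ R)
    (hKc : ∀ k₁ ∈ K, ∀ k₂ ∈ K, k₁ * k₂ * k₁⁻¹ * k₂⁻¹ ∈ R)
    (stepF : ∀ x ∈ Tg, (∀ k ∈ K, k * x * k⁻¹ * x⁻¹ ∈ R) → x ∈ R)
    (Q : Subgroup X) (hQT : Q ≤ Tg) (hQq : ∀ v ∈ V, ∀ x ∈ Q, ∀ y ∈ Q, ⁅⁅v, x⁆, y⁆ = 1)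
    (hQR : ¬ Q ≤ R)
    (hQoff : Nat.card V * Nat.card ↥(Q ⊓ R) ≤ Nat.card Q * Nat.card (CV V Q)) :
    Cfsg.Involves (Equiv.Perm (Fin 4)) X := by
  classical
  have hVR : V ≤ R := by
    intro v hv
    rw [← hCV, Subgroup.mem_centralizer_iff]
    intro w hw
    exact hVc w hw v hv
  have hRv : ∀ r ∈ R, ∀ v ∈ V, r * v = v * r := by
    intro r hr v hv
    rw [← hCV] at hr
    exact (Subgroup.mem_centralizer_iff.mp hr v hv).symm
  have hRcV : ∀ r ∈ R, r ∈ Subgroup.centralizer (V : Set X) := by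
    intro r hr; rw [hCV]; exact hr
  have hcommV : ∀ v ∈ V, ∀ g : X, ⁅v, g⁆ ∈ V := by
    intro v hv g
    have e : ⁅v, g⁆ = v * (g * v⁻¹ * g⁻¹) := by rw [commutatorElement_def]; group
    rw [e]
    exact V.mul_mem hv (hVn.conj_mem _ (V.inv_mem hv) g)
  -- offenders
  let Off : Subgroup X → Prop := fun B => R ≤ B ∧ B ≤ Tg ∧ ¬ B ≤ R ∧
    (∀ v ∈ V, ∀ x ∈ B, ∀ y ∈ B, ⁅⁅v, x⁆, y⁆ = 1) ∧
    Nat.card V * Nat.card R ≤ Nat.card B * Nat.card (CV V B)
  have hOff₀ : Off (Q ⊔ R) := by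
    refine ⟨le_sup_right, sup_le hQT hRT, fun h => hQR (le_sup_left.trans h), ?_, ?_⟩
    · intro v hv x hx y hy
      rw [← SetLike.mem_coe, Subgroup.mul_normal] at hx hy
      obtain ⟨q₁, hq₁, r₁, hr₁, rfl⟩ := hx
      obtain ⟨q₂, hq₂, r₂, hr₂, rfl⟩ := hy
      rw [comm_mul_right_of_centralizes V hv (hRcV r₁ hr₁),
        comm_mul_right_of_centralizes V (hcommV v hv q₁) (hRcV r₂ hr₂)]
      exact hQq v hv q₁ hq₁ q₂ hq₂
    · have hQn : Q ≤ Subgroup.normalizer (R : Set X) := by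
        rw [Subgroup.normalizer_eq_top_iff.mpr hRn]; exact le_top
      have h1 := card_sup_mul_card_inf R Q hQn
      rw [sup_comm, inf_comm] at h1
      have h2 : CV V Q ≤ CV V (Q ⊔ R) := by
        intro x hx
        rw [mem_CV] at hx ⊢
        refine ⟨hx.1, ?_⟩
        intro g hg
        rw [← SetLike.mem_coe, Subgroup.mul_normal] at hg
        obtain ⟨q, hq, r, hr, rfl⟩ := hg
        rw [mul_assoc, hRv r hr x hx.1, ← mul_assoc, hx.2 q hq, mul_assoc]
      have h3 : Nat.card (CV V Q) ≤ Nat.card (CV V (Q ⊔ R)) := Subgroup.card_le_of_le h2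
      have hipos : 0 < Nat.card ↥(Q ⊓ R) := Nat.card_pos
      have h4 : (Nat.card V * Nat.card R) * Nat.card ↥(Q ⊓ R) ≤
          (Nat.card ↥(Q ⊔ R) * Nat.card (CV V Q)) * Nat.card ↥(Q ⊓ R) := by
        calc (Nat.card V * Nat.card R) * Nat.card ↥(Q ⊓ R)
            = (Nat.card V * Nat.card ↥(Q ⊓ R)) * Nat.card R := by ring
          _ ≤ (Nat.card Q * Nat.card (CV V Q)) * Nat.card R := Nat.mul_le_mul_right _ hQoff
          _ = (Nat.card R * Nat.card Q) * Nat.card (CV V Q) := by ring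
          _ = (Nat.card ↥(Q ⊔ R) * Nat.card ↥(Q ⊓ R)) * Nat.card (CV V Q) := by rw [h1]
          _ = (Nat.card ↥(Q ⊔ R) * Nat.card (CV V Q)) * Nat.card ↥(Q ⊓ R) := by ring
      exact (Nat.le_of_mul_le_mul_right h4 hipos).trans (Nat.mul_le_mul_left _ h3)
  -- a minimal offender
  have hne : Nonempty {B : Subgroup X // Off B} := ⟨⟨Q ⊔ R, hOff₀⟩⟩
  obtain ⟨⟨B, hB⟩, hBmin⟩ := Finite.exists_min
    (fun B : {B : Subgroup X // Off B} => Nat.card B.1)
  obtain ⟨hRB, hBT, hBR, hBq, hBoff⟩ := hB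
  -- the quotient
  set π := QuotientGroup.mk' R with hπ
  have hker : ∀ x : X, π x = 1 ↔ x ∈ R := by
    intro x
    rw [← MonoidHom.mem_ker, QuotientGroup.ker_mk']
  have hcomm : ∀ g h : X, (π g * π h = π h * π g) ↔ h * g * h⁻¹ * g⁻¹ ∈ R := by
    intro g h
    rw [← hker]
    simp only [map_mul, map_inv]
    constructor
    · intro hgh
      rw [← hgh]; group
    · intro h1
      calc π g * π h = (π h * π g * (π h)⁻¹ * (π g)⁻¹)⁻¹ * (π h * π g) := by group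
        _ = π h * π g := by rw [h1, inv_one, one_mul]
  have hBsq : ∀ x ∈ B, x * x ∈ R := by
    intro x hx
    rw [← hCV]
    exact sq_mem_centralizer_of_quadratic V hV2 (fun v hv => hBq v hv x hx x hx)
  have hBb2 : ∀ y ∈ B.map π, y * y = 1 := by
    rintro _ ⟨x, hx, rfl⟩
    rw [← map_mul]
    exact (hker _).mpr (hBsq x hx)
  have hBbc : ∀ x ∈ B.map π, ∀ y ∈ B.map π, x * y = y * x := by
    intro x hx y hy
    have h1 := hBb2 x hx
    have h2 := hBb2 y hy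
    have h3 := hBb2 (x * y) (Subgroup.mul_mem _ hx hy)
    calc x * y = (y * y) * (x * y) * (x * x) := by rw [h1, h2, one_mul, mul_one]
      _ = y * (y * x * (y * x)) * x⁻¹ * x * x := by group
      _ = y * x := by
          have h4 : y * x * (y * x) = 1 := by
            have : y * x * (y * x) = y * (x * y * (x * y)) * y⁻¹ := by group
            rw [this, h3]; group
          rw [h4]; group
  have hKbc : ∀ a ∈ K.map π, ∀ b ∈ K.map π, a * b = b * a := by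
    rintro _ ⟨k₁, hk₁, rfl⟩ _ ⟨k₂, hk₂, rfl⟩
    rw [hcomm]
    exact hKc k₂ hk₂ k₁ hk₁
  have hKbm : ∀ a ∈ K.map π, a ^ m = 1 := by
    rintro _ ⟨k, hk, rfl⟩
    rw [← map_pow]
    exact (hker _).mpr (hKm k hk)
  have hBn : ∀ x ∈ B.map π, ∀ a ∈ K.map π, x * a * x⁻¹ ∈ K.map π := by
    rintro _ ⟨x, -, rfl⟩ _ ⟨k, hk, rfl⟩
    refine ⟨x * k * x⁻¹, hKn.conj_mem k hk x, ?_⟩
    simp only [map_mul, map_inv]
  have hnt : ∃ x ∈ B.map π, ∃ a ∈ K.map π, x * a ≠ a * x := by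
    obtain ⟨x, hxB, hxR⟩ := SetLike.not_le_iff_exists.mp hBR
    have h1 : ¬ ∀ k ∈ K, k * x * k⁻¹ * x⁻¹ ∈ R := fun h => hxR (stepF x (hBT hxB) h)
    push Not at h1
    obtain ⟨k, hk, hkx⟩ := h1
    refine ⟨π x, ⟨x, hxB, rfl⟩, π k, ⟨k, hk, rfl⟩, ?_⟩
    intro h
    exact hkx ((hcomm x k).mp h)
  obtain ⟨a, haK, ⟨x₀, hx₀, hx₀a⟩, hhyp⟩ :=
    Cfsg.Agent.Lib.Helper72_Hyperplane.hyperplane (K.map π) (B.map π) hKbc m hm hKbm hBn hBbc
      hBb2 hnt
  obtain ⟨k, hk, rfl⟩ := haK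
  obtain ⟨b, hb, rfl⟩ := hx₀
  -- the hyperplane `B₁`
  set B₁ : Subgroup X := B ⊓ (Subgroup.centralizer ({π k} : Set (X ⧸ R))).comap π with hB₁
  have hB₁mem : ∀ x, x ∈ B₁ ↔ x ∈ B ∧ π x * π k = π k * π x := by
    intro x
    rw [hB₁, Subgroup.mem_inf, Subgroup.mem_comap, Subgroup.mem_centralizer_singleton_iff]
  have hRB₁ : R ≤ B₁ := by
    intro r hr
    rw [hB₁mem]
    refine ⟨hRB hr, ?_⟩
    rw [(hker r).mpr hr, one_mul, mul_one]
  have hB₁B : B₁ ≤ B := inf_le_left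
  have hbB₁ : b ∉ B₁ := fun h => hx₀a ((hB₁mem b).mp h).2
  have hprod : ∀ x ∈ B, ∀ y ∈ B, x ∉ B₁ → y ∉ B₁ → x * y ∈ B₁ := by
    intro x hx y hy hx1 hy1
    rw [hB₁mem]
    refine ⟨B.mul_mem hx hy, ?_⟩
    rw [map_mul]
    apply hhyp (π x) ⟨x, hx, rfl⟩ (π y) ⟨y, hy, rfl⟩
    · intro h; exact hx1 ((hB₁mem x).mpr ⟨hx, h⟩)
    · intro h; exact hy1 ((hB₁mem y).mpr ⟨hy, h⟩)
  have hidx : (B₁.subgroupOf B).index = 2 := by
    rw [Subgroup.index_eq_two_iff]
    refine ⟨⟨b, hb⟩, ?_⟩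
    rintro ⟨x, hx⟩
    simp only [Subgroup.mem_subgroupOf, Subgroup.coe_mul]
    by_cases hxB₁ : x ∈ B₁
    · right
      refine ⟨hxB₁, fun h => hbB₁ ?_⟩
      have := B₁.mul_mem (B₁.inv_mem hxB₁) h
      simpa using this
    · left
      exact ⟨hprod x hx b hb hxB₁ hbB₁, hxB₁⟩
  have hcardB : Nat.card B = 2 * Nat.card B₁ := by
    have h1 := Subgroup.card_mul_index (B₁.subgroupOf B)
    have h2 : Nat.card (B₁.subgroupOf B) = Nat.card B₁ :=
      Nat.card_congr (Subgroup.subgroupOfEquivOfLe hB₁B).toEquiv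
    rw [hidx, h2] at h1
    omega
  by_cases hB₁R : B₁ = R
  · -- the transvection case
    have hbb : b * b ∈ R := by
      have := hprod b hb b hb hbB₁ hbB₁
      rwa [hB₁R] at this
    have hcard : Nat.card V ≤ 2 * Nat.card (CV V B) := by
      rw [hcardB, hB₁R] at hBoff
      have hRpos : 0 < Nat.card R := Nat.card_pos
      have h1 : Nat.card R * Nat.card V ≤ Nat.card R * (2 * Nat.card (CV V B)) := by
        calc Nat.card R * Nat.card V = Nat.card V * Nat.card R := by ring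
          _ ≤ 2 * Nat.card R * Nat.card (CV V B) := hBoff
          _ = Nat.card R * (2 * Nat.card (CV V B)) := by ring
      exact Nat.le_of_mul_le_mul_left h1 hRpos
    have hc : k * b * k⁻¹ * b⁻¹ ∉ R := by
      intro h
      exact hbB₁ ((hB₁mem b).mpr ⟨hb, (hcomm b k).mpr h⟩)
    exact involves_S4_of_transvection R V K hR2 hVc hV2 hCV m hm hKm hKc b k hk hbb (CV V B)
      (CV_le V B) (fun u hu => (mem_CV.mp hu).2 b hb) hcard hc
  · -- the `P × Q` case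
    exfalso
    have hB₁notR : ¬ B₁ ≤ R := fun h => hB₁R (le_antisymm h hRB₁)
    have hB₁T : B₁ ≤ Tg := hB₁B.trans hBT
    have hB₁pos : 0 < Nat.card B₁ := Nat.card_pos
    have hnotoff : ¬ (Nat.card V * Nat.card R ≤ Nat.card B₁ * Nat.card (CV V B₁)) := by
      intro h
      have h1 := hBmin ⟨B₁, hRB₁, hB₁T, hB₁notR,
        fun v hv x hx y hy => hBq v hv x (hB₁B hx) y (hB₁B hy), h⟩
      simp only at h1
      omega
    push Not at hnotoff
    have hCVle : CV V B ≤ CV V B₁ := CV_anti V hB₁B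
    have hCVeq : CV V B₁ = CV V B := by
      obtain ⟨j, hj⟩ := Subgroup.card_dvd_of_le hCVle
      have hCpos : 0 < Nat.card (CV V B) := Nat.card_pos
      have hC₁pos : 0 < Nat.card (CV V B₁) := Nat.card_pos
      have hj0 : j ≠ 0 := by
        rintro rfl
        rw [mul_zero] at hj
        omega
      have hj2 : j < 2 := by
        have h1 : (Nat.card B₁ * Nat.card (CV V B)) * j < (Nat.card B₁ * Nat.card (CV V B)) * 2 := by
          calc (Nat.card B₁ * Nat.card (CV V B)) * j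
              = Nat.card B₁ * Nat.card (CV V B₁) := by rw [hj]; ring
            _ < Nat.card V * Nat.card R := hnotoff
            _ ≤ Nat.card B * Nat.card (CV V B) := hBoff
            _ = (Nat.card B₁ * Nat.card (CV V B)) * 2 := by rw [hcardB]; ring
        exact Nat.lt_of_mul_lt_mul_left h1
      have hj1 : j = 1 := by omega
      symm
      apply Subgroup.eq_of_le_of_card_ge hCVle
      rw [hj, hj1, mul_one]
    have hmem := pq_argument R V K hVc hV2 hCV m hm hKm B₁ hRB₁ (hT2.to_le hB₁T) k b hk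
      (fun x hx => (hcomm x k).mp ((hB₁mem x).mp hx).2)
      (fun x hx => (hcomm x b).mp (hBbc (π x) ⟨x, hB₁B hx, rfl⟩ (π b) ⟨b, hb, rfl⟩))
      (fun u hu => by
        rw [hCVeq] at hu
        exact (mem_CV.mp hu).2 b hb)
    exact hbB₁ ((hB₁mem b).mpr ⟨hb, (hcomm b k).mpr hmem⟩)

end Offender

end Cfsg.Agent.Lib.Helper72_TwoCase
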