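import Mathlib
import Cfsg.Agent.Lib.Helper34_NPC
import Cfsg.Agent.Lib.Helper1_ZJFunctor
import Cfsg.Agent.Lib.Helper1_Transport
import Cfsg.Agent.S0072
import Cfsg.Agent.S2800

/-!
A normal `p`-complement criterion through characteristic subgroups of a Sylow subgroup (helper32).

`hasNPC_of_charHyp`: let `R` be (isomorphic to) a Sylow `p`-subgroup of the finite group `B`,
`p` odd or `B` `S₄`-free.  If for every characteristic subgroup `K` of `R` all `p'`-elements of
`N_B(K)` centralize `K`, then `B` has a normal `p`-complement.  Induction on `|B|` through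
helper72's Thompson-type theorem S2800 (`C_B(Z(R))` and `N_B(J(R))`), passing to `B/K` when
`K ∈ {Z(R), J(R)}` is normal in `B`.
-/

set_option autoImplicit false

universe u

namespace Cfsg.Agent.Lib.Helper32_CharNPC

open Subgroup
open Cfsg.Agent.Lib.Helper35_FrobeniusNPC Cfsg.Agent.Lib.Helper34_NPC

/-- every `p'`-element of `B` normalizing the image of a characteristic subgroup of `R`
centralizes it -/
def CharHyp (p : ℕ) {B R : Type*} [Group B] [Group R] (ι : R →* B) : Prop :=
  ∀ K : Subgroup R, K.Characteristic → ∀ b : B,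
    b ∈ Subgroup.normalizer ((K.map ι : Subgroup B) : Set B) → (orderOf b).Coprime p →
      b ∈ Subgroup.centralizer ((K.map ι : Subgroup B) : Set B)

/-- the class of groups: `p` odd or `S₄`-free -/
def CS (p : ℕ) (B : Type*) [Group B] : Prop :=
  p ≠ 2 ∨ ¬ Cfsg.Involves (Equiv.Perm (Fin 4)) B

section general

variable {R : Type*} [Group R]

/-- the preimage of a characteristic subgroup of `R/K₀` (`K₀` characteristic) is characteristic -/
theorem comap_mk'_characteristic (K₀ : Subgroup R) [hK₀ : K₀.Characteristic]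
    (L : Subgroup (R ⧸ K₀)) (hL : L.Characteristic) :
    (L.comap (QuotientGroup.mk' K₀)).Characteristic := by
  rw [Subgroup.characteristic_iff_comap_eq]
  intro φ
  have hφ : K₀.map (φ : R →* R) = K₀ := Subgroup.characteristic_iff_map_eq.mp hK₀ φ
  have hLφ := Subgroup.characteristic_iff_comap_eq.mp hL (QuotientGroup.congr K₀ K₀ φ hφ)
  ext x
  rw [Subgroup.mem_comap, Subgroup.mem_comap, Subgroup.mem_comap]
  have h1 : (QuotientGroup.mk' K₀) (φ.toMonoidHom x) =
      (QuotientGroup.congr K₀ K₀ φ hφ).toMonoidHom ((QuotientGroup.mk' K₀) x) := by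
    simp [QuotientGroup.congr_mk]
  rw [h1, ← Subgroup.mem_comap, hLφ]

theorem thompsonSubgroupA_characteristic : (Cfsg.thompsonSubgroupA R).Characteristic := by
  rw [Subgroup.characteristic_iff_map_eq]
  intro φ
  exact Cfsg.Agent.Lib.Helper1_ZJFunctor.thompsonSubgroupA_map φ

end general

section lift

variable {B : Type*} [Group B] [Finite B] {p : ℕ} [hp : Fact p.Prime]

/-- a `p'`-element of `B/N`, `N` a normal `p`-subgroup, lifts to a `p'`-element of `B` -/
theorem exists_lift_coprime (N : Subgroup B) [N.Normal] (hN : IsPGroup p N) (x : B ⧸ N)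
    (hx : (orderOf x).Coprime p) :
    ∃ b : B, (QuotientGroup.mk' N) b = x ∧ (orderOf b).Coprime p := by
  obtain ⟨b₀, rfl⟩ := QuotientGroup.mk'_surjective N x
  set m := orderOf ((QuotientGroup.mk' N) b₀) with hm
  obtain ⟨a, ha⟩ := hN.exists_card_eq
  have hm0 : m ≠ 0 := (orderOf_pos _).ne'
  have hcop : Nat.Coprime (p ^ a) m := Nat.Coprime.pow_left a hx.symm
  obtain ⟨u, -, hu⟩ := Nat.exists_mul_mod_eq_of_coprime 1 hcop hm0
  refine ⟨b₀ ^ (p ^ a * u), ?_, ?_⟩
  · rw [map_pow, ← pow_mod_orderOf, ← hm, hu, hm, pow_mod_orderOf, pow_one]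
  · have h1 : b₀ ^ m ∈ N := by
      rw [← QuotientGroup.eq_one_iff, QuotientGroup.mk_pow]
      exact pow_orderOf_eq_one ((QuotientGroup.mk' N) b₀)
    have h2 : (b₀ ^ m) ^ (p ^ a) = 1 := by
      have h3 : (⟨b₀ ^ m, h1⟩ : N) ^ (p ^ a) = 1 := by
        rw [← ha]; exact pow_card_eq_one'
      have := congrArg Subtype.val h3
      simpa using this
    have h4 : (b₀ ^ (p ^ a * u)) ^ m = 1 := by
      calc (b₀ ^ (p ^ a * u)) ^ m = ((b₀ ^ m) ^ (p ^ a)) ^ u := by
            rw [← pow_mul, ← pow_mul, ← pow_mul]; congr 1; ring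
        _ = 1 := by rw [h2, one_pow]
    exact Nat.Coprime.coprime_dvd_left (orderOf_dvd_of_pow_eq_one h4) hx

end lift

section steps

variable {p : ℕ} [hp : Fact p.Prime] {B R : Type u} [Group B] [Finite B] [Group R]

omit [Finite B] hp in
/-- the image of `R` normalizes the image of a normal subgroup of `R` -/
theorem range_le_normalizer_map (ι : R →* B) (K : Subgroup R) [K.Normal] :
    ι.range ≤ Subgroup.normalizer ((K.map ι : Subgroup B) : Set B) := by
  have h1 := Subgroup.le_normalizer_map (H := K) ι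
  rw [Subgroup.normalizer_eq_top_iff.mpr inferInstance, ← MonoidHom.range_eq_map] at h1
  exact h1

/-- the hypotheses pass to a subgroup `M` containing the image of `R` -/
theorem sub_step (ι : R →* B) (hinj : Function.Injective ι) (S : Sylow p B)
    (hS : (S : Subgroup B) = ι.range) (hCS : CS p B) (hyp : CharHyp p ι)
    (IH : ∀ (B' R' : Type u) [Group B'] [Finite B'] [Group R'] (ι' : R' →* B'),
      Nat.card B' < Nat.card B → Function.Injective ι' →
      (∃ S' : Sylow p B', (S' : Subgroup B') = ι'.range) → CS p B' → CharHyp p ι' → HasNPC p B')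
    (M : Subgroup B) (hSM : ι.range ≤ M) (hM : M ≠ ⊤) : HasNPC p ↥M := by
  set ι' : R →* M := ι.codRestrict M (fun r => hSM ⟨r, rfl⟩) with hι'
  have hcomp : M.subtype.comp ι' = ι := by
    ext r; rfl
  have hlt : Nat.card M < Nat.card B := by
    have h1 := M.card_mul_index
    have h2 : 1 < M.index := by
      have h3 : M.index ≠ 1 := fun h => hM (Subgroup.index_eq_one.mp h)
      have h4 : M.index ≠ 0 := Subgroup.index_ne_zero_of_finite
      omega
    have hpos : 0 < Nat.card M := Nat.card_pos
    nlinarith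
  have hinj' : Function.Injective ι' := by
    intro a b hab
    apply hinj
    have := congrArg Subtype.val hab
    simpa [hι'] using this
  have hSM' : (S : Subgroup B) ≤ M := by rw [hS]; exact hSM
  have hsyl : ∃ S' : Sylow p M, (S' : Subgroup M) = ι'.range := by
    refine ⟨S.subtype hSM', ?_⟩
    rw [Sylow.coe_subtype]
    ext x
    rw [Subgroup.mem_subgroupOf, hS, MonoidHom.mem_range, MonoidHom.mem_range]
    constructor
    · rintro ⟨r, hr⟩
      exact ⟨r, Subtype.ext hr⟩
    · rintro ⟨r, hr⟩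
      exact ⟨r, by rw [← hr]; rfl⟩
  have hCS' : CS p M := by
    rcases hCS with h | h
    · exact Or.inl h
    · exact Or.inr (fun hM' => h (involves_of_subgroup M hM'))
  have hyp' : CharHyp p ι' := by
    intro K hK b hb hbo
    have hmap : (K.map ι' : Subgroup M).map M.subtype = K.map ι := by
      rw [Subgroup.map_map, hcomp]
    have hb' : (b : B) ∈ Subgroup.normalizer ((K.map ι : Subgroup B) : Set B) := by
      rw [← hmap]
      exact Subgroup.le_normalizer_map M.subtype ⟨b, hb, rfl⟩
    have hbo' : (orderOf (b : B)).Coprime p := by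
      rw [Subgroup.orderOf_coe]; exact hbo
    have hc := hyp K hK (b : B) hb' hbo'
    rw [Subgroup.mem_centralizer_iff] at hc ⊢
    intro y hy
    apply Subtype.ext
    have hy' : (y : B) ∈ K.map ι := by
      rw [← hmap]; exact ⟨y, hy, rfl⟩
    have := hc (y : B) hy'
    simpa using this
  exact IH M R ι' hlt hinj' hsyl hCS' hyp'

/-- the quotient step: a nontrivial characteristic subgroup of `R` with normal image -/
theorem quot_step (ι : R →* B) (hinj : Function.Injective ι) (S : Sylow p B)
    (hS : (S : Subgroup B) = ι.range) (hCS : CS p B) (hyp : CharHyp p ι)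
    (IH : ∀ (B' R' : Type u) [Group B'] [Finite B'] [Group R'] (ι' : R' →* B'),
      Nat.card B' < Nat.card B → Function.Injective ι' →
      (∃ S' : Sylow p B', (S' : Subgroup B') = ι'.range) → CS p B' → CharHyp p ι' → HasNPC p B')
    (K₀ : Subgroup R) (hK₀ : K₀.Characteristic) (hne : K₀ ≠ ⊥) (hn : (K₀.map ι).Normal) :
    HasNPC p B := by
  have hK₀n : K₀.Normal := inferInstance
  set Kh : Subgroup B := K₀.map ι with hKh
  have hKhS : Kh ≤ (S : Subgroup B) := by
    rw [hS, hKh, MonoidHom.range_eq_map]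
    exact Subgroup.map_mono le_top
  have hKhp : IsPGroup p Kh := S.2.to_le hKhS
  have hKhne : Kh ≠ ⊥ := by
    intro h
    apply hne
    rw [hKh, Subgroup.map_eq_bot_iff_of_injective _ hinj] at h
    exact h
  have hle : K₀ ≤ Kh.comap ι := Subgroup.le_comap_map ι K₀
  set ιb : R ⧸ K₀ →* B ⧸ Kh := QuotientGroup.map K₀ Kh ι hle with hιb
  have hιb_mk : ∀ r : R, ιb (QuotientGroup.mk' K₀ r) = QuotientGroup.mk' Kh (ι r) := by
    intro r; rfl
  have hinjb : Function.Injective ιb := by
    rw [injective_iff_map_eq_one]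
    intro x hx
    obtain ⟨r, rfl⟩ := QuotientGroup.mk'_surjective K₀ x
    rw [hιb_mk, QuotientGroup.mk'_apply, QuotientGroup.eq_one_iff] at hx
    obtain ⟨k, hk, hkr⟩ := hx
    have : k = r := hinj hkr
    rw [QuotientGroup.mk'_apply, QuotientGroup.eq_one_iff, ← this]
    exact hk
  have hltb : Nat.card (B ⧸ Kh) < Nat.card B := by
    rw [← Cfsg.Agent.Lib.Helper1_Transport.card_quotient_mul_card Kh]
    have hpos : 0 < Nat.card (B ⧸ Kh) := Nat.card_pos
    have h1 : 1 < Nat.card Kh := Kh.one_lt_card_iff_ne_bot.mpr hKhne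
    nlinarith
  have hsylb : ∃ S' : Sylow p (B ⧸ Kh), (S' : Subgroup (B ⧸ Kh)) = ιb.range := by
    refine ⟨S.mapSurjective (QuotientGroup.mk'_surjective Kh), ?_⟩
    rw [Sylow.coe_mapSurjective, hS]
    ext x
    constructor
    · rintro ⟨y, ⟨r, rfl⟩, rfl⟩
      exact ⟨QuotientGroup.mk' K₀ r, hιb_mk r⟩
    · rintro ⟨y, rfl⟩
      obtain ⟨r, rfl⟩ := QuotientGroup.mk'_surjective K₀ y
      exact ⟨ι r, ⟨r, rfl⟩, (hιb_mk r).symm⟩
  have hCSb : CS p (B ⧸ Kh) := by
    rcases hCS with h | h
    · exact Or.inl h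
    · exact Or.inr (fun hM' => h (involves_of_surjective (QuotientGroup.mk' Kh)
        (QuotientGroup.mk'_surjective Kh) hM'))
  have hypb : CharHyp p ιb := by
    intro L hL x hx hxo
    set L₀ : Subgroup R := L.comap (QuotientGroup.mk' K₀) with hL₀
    have hL₀c : L₀.Characteristic := comap_mk'_characteristic K₀ L hL
    obtain ⟨b, rfl, hbo⟩ := exists_lift_coprime Kh hKhp x hxo
    have hmc : L₀.map ι = (L.map ιb).comap (QuotientGroup.mk' Kh) := by
      ext y
      rw [Subgroup.mem_comap]
      constructor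
      · rintro ⟨l, hl, rfl⟩
        exact ⟨QuotientGroup.mk' K₀ l, hl, hιb_mk l⟩
      · rintro ⟨z, hz, hzy⟩
        obtain ⟨r, rfl⟩ := QuotientGroup.mk'_surjective K₀ z
        rw [hιb_mk, QuotientGroup.mk'_apply, QuotientGroup.mk'_apply, QuotientGroup.eq] at hzy
        obtain ⟨k, hk, hkr⟩ := hzy
        refine ⟨r * k, ?_, ?_⟩
        · show (QuotientGroup.mk' K₀) (r * k) ∈ L
          rw [map_mul]
          have hk1 : (QuotientGroup.mk' K₀) k = 1 := by
            rw [QuotientGroup.mk'_apply, QuotientGroup.eq_one_iff]; exact hk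
          rw [hk1, mul_one]
          exact hz
        · rw [map_mul, hkr]
          group
    have hbn : b ∈ Subgroup.normalizer ((L₀.map ι : Subgroup B) : Set B) := by
      rw [hmc]
      exact Subgroup.le_normalizer_comap (QuotientGroup.mk' Kh) hx
    have hbc := hyp L₀ hL₀c b hbn hbo
    rw [Subgroup.mem_centralizer_iff] at hbc ⊢
    rintro _ ⟨z, hz, rfl⟩
    obtain ⟨r, rfl⟩ := QuotientGroup.mk'_surjective K₀ z
    have hr : r ∈ L₀ := hz
    have h1 := hbc (ι r) ⟨r, hr, rfl⟩
    rw [hιb_mk, ← map_mul, ← map_mul, h1]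
  obtain ⟨E, hEn, hEc, m, hEi⟩ := IH (B ⧸ Kh) (R ⧸ K₀) ιb hltb hinjb hsylb hCSb hypb
  -- the preimage of the normal complement
  set E₀ : Subgroup B := E.comap (QuotientGroup.mk' Kh) with hE₀
  have hE₀n : E₀.Normal := hEn.comap _
  have hKE : Kh ≤ E₀ := by
    conv_lhs => rw [← QuotientGroup.ker_mk' Kh]
    exact MonoidHom.ker_le_comap _ _
  have hcardE₀ : Nat.card E₀ = Nat.card E * Nat.card Kh :=
    Cfsg.Agent.Lib.Helper1_Transport.card_comap_mk' Kh E
  obtain ⟨a, ha⟩ := hKhp.exists_card_eq
  have hN' : (Kh.subgroupOf E₀).Normal := Subgroup.normal_subgroupOf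
  have hcN' : Nat.card (Kh.subgroupOf E₀) = Nat.card Kh :=
    Nat.card_congr (Subgroup.subgroupOfEquivOfLe hKE).toEquiv
  have hidx : (Kh.subgroupOf E₀).index = Nat.card E := by
    have h4 := (Kh.subgroupOf E₀).card_mul_index
    rw [hcN', hcardE₀, mul_comm] at h4
    have hpos : 0 < Nat.card Kh := Nat.card_pos
    exact Nat.eq_of_mul_eq_mul_right hpos h4
  have hcop : Nat.Coprime (Nat.card (Kh.subgroupOf E₀)) (Kh.subgroupOf E₀).index := by
    rw [hcN', hidx, ha]
    exact Nat.Coprime.pow_left a hEc.symm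
  obtain ⟨D', hD'⟩ := Subgroup.exists_right_complement'_of_coprime hcop
  have hcD' : Nat.card D' = Nat.card E := by
    have h5 := hD'.card_mul_card
    rw [hcN', hcardE₀, mul_comm] at h5
    have hpos : 0 < Nat.card Kh := Nat.card_pos
    exact Nat.eq_of_mul_eq_mul_right hpos h5
  set D : Subgroup B := D'.map E₀.subtype with hD
  have hcD : Nat.card D = Nat.card E := by
    rw [← hcD']
    exact Nat.card_congr (Subgroup.equivMapOfInjective D' E₀.subtype
      E₀.subtype_injective).toEquiv.symm
  have hDc : (Nat.card D).Coprime p := by rw [hcD]; exact hEc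
  have hDE : D ≤ E₀ := by
    rw [hD]; exact Subgroup.map_subtype_le _
  -- elements of `D` centralize `Kh`
  have hKhn : Subgroup.normalizer ((Kh : Subgroup B) : Set B) = ⊤ :=
    Subgroup.normalizer_eq_top_iff.mpr hn
  have hDcent : ∀ d ∈ D, ∀ k ∈ Kh, d * k = k * d := by
    intro d hd k hk
    have hdo : (orderOf d).Coprime p := by
      have h1 : orderOf d ∣ Nat.card D := by
        have := orderOf_dvd_natCard (⟨d, hd⟩ : D)
        rwa [Subgroup.orderOf_mk] at this
      exact Nat.Coprime.coprime_dvd_left h1 hDc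
    have hdn : d ∈ Subgroup.normalizer ((K₀.map ι : Subgroup B) : Set B) := by
      rw [← hKh, hKhn]; exact Subgroup.mem_top d
    have := hyp K₀ hK₀ d hdn hdo
    rw [Subgroup.mem_centralizer_iff] at this
    exact (this k hk).symm
  -- every element of `E₀` is a product `k * d`
  have hprod : ∀ e ∈ E₀, ∃ k ∈ Kh, ∃ d ∈ D, e = k * d := by
    intro e he
    obtain ⟨⟨k, d⟩, hkd, -⟩ := hD'.existsUnique (⟨e, he⟩ : E₀)
    refine ⟨((k : E₀) : B), Subgroup.mem_subgroupOf.mp k.2, ((d : E₀) : B), ⟨(d : E₀), d.2, rfl⟩, ?_⟩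
    have := congrArg Subtype.val hkd
    simpa using this.symm
  have hDn : D.Normal := by
    constructor
    intro d hd b
    have he : b * d * b⁻¹ ∈ E₀ := hE₀n.conj_mem d (hDE hd) b
    obtain ⟨k, hk, d₁, hd₁, hkd⟩ := hprod _ he
    set c := Nat.card D with hc
    have hdc : d ^ c = 1 := by
      have h1 : (⟨d, hd⟩ : D) ^ c = 1 := pow_card_eq_one'
      have := congrArg Subtype.val h1
      simpa using this
    have hd₁c : d₁ ^ c = 1 := by
      have h1 : (⟨d₁, hd₁⟩ : D) ^ c = 1 := pow_card_eq_one'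
      have := congrArg Subtype.val h1
      simpa using this
    have hcomm : Commute k d₁ := (hDcent d₁ hd₁ k hk).symm
    have hpow : (b * d * b⁻¹) ^ c = 1 := by
      rw [conj_pow, hdc]; group
    rw [hkd, hcomm.mul_pow, hd₁c, mul_one] at hpow
    have hk1 : k = 1 := by
      have h1 : orderOf k ∣ c := orderOf_dvd_of_pow_eq_one hpow
      have h2 : orderOf k ∣ p ^ a := by
        rw [← ha]
        have := orderOf_dvd_natCard (⟨k, hk⟩ : Kh)
        rwa [Subgroup.orderOf_mk] at this
      have h3 : orderOf k ∣ Nat.gcd c (p ^ a) := Nat.dvd_gcd h1 h2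
      rw [Nat.Coprime.pow_right a hDc, Nat.dvd_one, orderOf_eq_one_iff] at h3
      exact h3
    rw [hkd, hk1, one_mul]
    exact hd₁
  refine ⟨D, hDn, hDc, m + a, ?_⟩
  have h6 := D.card_mul_index
  have h7 := Cfsg.Agent.Lib.Helper1_Transport.card_quotient_mul_card Kh
  have h8 := E.card_mul_index
  have hpos : 0 < Nat.card D := Nat.card_pos
  apply Nat.eq_of_mul_eq_mul_left hpos
  rw [h6, ← h7, ← h8, hcD, hEi, ha, pow_add]
  ring

end steps

/-- the criterion, inductive form -/
theorem hasNPC_of_charHyp_aux (p : ℕ) [hp : Fact p.Prime] :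
    ∀ n : ℕ, ∀ (B R : Type u) [Group B] [Finite B] [Group R] (ι : R →* B),
      Nat.card B = n → Function.Injective ι →
      (∃ S : Sylow p B, (S : Subgroup B) = ι.range) → CS p B → CharHyp p ι → HasNPC p B := by
  intro n
  induction n using Nat.strong_induction_on with
  | _ n ih =>
  intro B R _ _ _ ι hcard hinj hsyl hCS hyp
  obtain ⟨S, hS⟩ := hsyl
  have IH : ∀ (B' R' : Type u) [Group B'] [Finite B'] [Group R'] (ι' : R' →* B'),
      Nat.card B' < Nat.card B → Function.Injective ι' →
      (∃ S' : Sylow p B', (S' : Subgroup B') = ι'.range) → CS p B' → CharHyp p ι' →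
      HasNPC p B' := by
    intro B' R' _ _ _ ι' hlt hinj' hsyl' hCS' hyp'
    exact ih _ (hcard ▸ hlt) B' R' ι' rfl hinj' hsyl' hCS' hyp'
  have hRfin : Finite R := Finite.of_injective ι hinj
  rcases subsingleton_or_nontrivial R with hss | hnt
  · -- `p` does not divide `|B|`
    apply hasNPC_of_coprime
    have hSbot : (S : Subgroup B) = ⊥ := by
      rw [hS, eq_bot_iff]
      rintro _ ⟨r, rfl⟩
      rw [Subsingleton.elim r 1, map_one]
      exact Subgroup.mem_bot.mpr rfl
    have hnd : ¬ p ∣ Nat.card B := fun h => S.ne_bot_of_dvd_card h hSbot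
    exact ((Nat.Prime.coprime_iff_not_dvd hp.out).mpr hnd).symm
  · obtain ⟨e, he⟩ : ∃ e : R ≃* (S : Subgroup B), ∀ r : R, ((e r : (S : Subgroup B)) : B) = ι r :=
      ⟨(MonoidHom.ofInjective hinj).trans (MulEquiv.subgroupCongr hS.symm), fun r => rfl⟩
    have hRp : IsPGroup p R := by
      intro r
      obtain ⟨k, hk⟩ := S.2 (e r)
      refine ⟨k, ?_⟩
      apply e.injective
      rw [map_pow, hk, map_one]
    have hZchar : (Subgroup.center R).Characteristic := inferInstance
    have hJchar : (Cfsg.thompsonSubgroupA R).Characteristic := thompsonSubgroupA_characteristic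
    have hZne : Subgroup.center R ≠ ⊥ := (hRp.bot_lt_center).ne'
    have hJne : Cfsg.thompsonSubgroupA R ≠ ⊥ :=
      Cfsg.Agent.Lib.Helper1_ZJFunctor.thompsonSubgroupA_ne_bot R
    have hZc : (Subgroup.center R).map ι =
        (S : Subgroup B) ⊓ Subgroup.centralizer ((S : Subgroup B) : Set B) := by
      ext x
      rw [Subgroup.mem_inf]
      constructor
      · rintro ⟨z, hz, rfl⟩
        have hz' : z ∈ Subgroup.center R := hz
        refine ⟨by rw [hS]; exact ⟨z, rfl⟩, ?_⟩
        rw [Subgroup.mem_centralizer_iff]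
        intro y hy
        rw [SetLike.mem_coe, hS] at hy
        obtain ⟨r, rfl⟩ := hy
        rw [← map_mul, ← map_mul, Subgroup.mem_center_iff.mp hz' r]
      · rintro ⟨hx1, hx2⟩
        rw [hS] at hx1
        obtain ⟨z, rfl⟩ := hx1
        refine ⟨z, ?_, rfl⟩
        show z ∈ Subgroup.center R
        rw [Subgroup.mem_center_iff]
        intro r
        apply hinj
        rw [map_mul, map_mul]
        rw [Subgroup.mem_centralizer_iff] at hx2
        exact hx2 (ι r) (by rw [SetLike.mem_coe, hS]; exact ⟨r, rfl⟩)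
    have hJc : (Cfsg.thompsonSubgroupA R).map ι =
        Cfsg.thompsonSubgroupAOf (S : Subgroup B) := by
      unfold Cfsg.thompsonSubgroupAOf
      rw [← Cfsg.Agent.Lib.Helper1_ZJFunctor.thompsonSubgroupA_map e, Subgroup.map_map]
      congr 1
      ext r
      exact (he r).symm
    by_cases hcase : Subgroup.normalizer (((Subgroup.center R).map ι : Subgroup B) : Set B) ≠ ⊤ ∧
        Subgroup.normalizer (((Cfsg.thompsonSubgroupA R).map ι : Subgroup B) : Set B) ≠ ⊤
    · have h1 := sub_step ι hinj S hS hCS hyp IH _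
        (range_le_normalizer_map ι (Subgroup.center R)) hcase.1
      have h2 := sub_step ι hinj S hS hCS hyp IH _
        (range_le_normalizer_map ι (Cfsg.thompsonSubgroupA R)) hcase.2
      have h1' : HasNPC p ↥(Subgroup.centralizer
          ((((S : Subgroup B) ⊓ Subgroup.centralizer ((S : Subgroup B) : Set B) : Subgroup B)) :
            Set B)) := by
        rw [← hZc]
        exact hasNPC_of_le (Subgroup.centralizer_le_normalizer _) h1
      rw [hJc] at h2
      rw [← Cfsg.Agent.S0072.hasNPC_iff] at h1' h2 ⊢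
      exact Cfsg.Agent.S2800.result S hCS h1' h2
    · rw [not_and_or, not_not, not_not] at hcase
      rcases hcase with h | h
      · exact quot_step ι hinj S hS hCS hyp IH _ hZchar hZne
          (Subgroup.normalizer_eq_top_iff.mp h)
      · exact quot_step ι hinj S hS hCS hyp IH _ hJchar hJne
          (Subgroup.normalizer_eq_top_iff.mp h)

/-- **Normal `p`-complements from characteristic subgroups of a Sylow `p`-subgroup.** -/
theorem hasNPC_of_charHyp {p : ℕ} [Fact p.Prime] {B R : Type u} [Group B] [Finite B] [Group R]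
    (ι : R →* B) (hinj : Function.Injective ι)
    (hsyl : ∃ S : Sylow p B, (S : Subgroup B) = ι.range) (hCS : CS p B) (hyp : CharHyp p ι) :
    HasNPC p B :=
  hasNPC_of_charHyp_aux p _ B R ι rfl hinj hsyl hCS hyp

end Cfsg.Agent.Lib.Helper32_CharNPC
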