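import Mathlib
import Cfsg.Agent.Lib.Helper20_PGroupOdd

/-!
# `p`-central `p`-groups, `p` odd (helper32)

A finite `p`-group is `p`-central when every element of order dividing `p` is central.

* `inv_mul_pow_eq_one` : in a `p`-central `p`-group with `p` odd, `x ^ p = y ^ p` implies
  `(x⁻¹ * y) ^ p = 1`.
* `relIndex_le_card_of_pCentral` : if `T` is a `p`-central `p`-subgroup all of whose `p`-th powers lie
  in `K` and all of whose elements of order dividing `p` lie in `S`, then `|T : T ∩ K| ≤ |S|`.
-/

set_option autoImplicit false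

namespace Cfsg.Agent.Lib.Helper32_PCentral

universe u

/-- every element of order dividing `p` is central -/
def IsPCentral (p : ℕ) (T : Type*) [Group T] : Prop :=
  ∀ x : T, x ^ p = 1 → ∀ y : T, x * y = y * x

theorem IsPCentral.subgroup {p : ℕ} {T : Type*} [Group T] (h : IsPCentral p T) (M : Subgroup T) :
    IsPCentral p ↥M := by
  intro x hx y
  apply Subtype.ext
  have h1 : (x : T) ^ p = 1 := by
    have := congrArg Subtype.val hx
    simpa using this
  simpa using h (x : T) h1 (y : T)

theorem inv_mul_pow_eq_one_aux (p : ℕ) [hpf : Fact p.Prime] (hp2 : p ≠ 2) :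
    ∀ (n : ℕ) (T : Type u) [Group T] [Finite T], Nat.card T = n → IsPGroup p T → IsPCentral p T →
      ∀ x y : T, x ^ p = y ^ p → (x⁻¹ * y) ^ p = 1 := by
  intro n
  induction n using Nat.strong_induction_on with
  | _ n ih =>
    intro T _ _ hcard hT hcen x y hxy
    by_cases hcomm : x * y = y * x
    · have h1 : Commute x⁻¹ y := (Commute.inv_left (show Commute x y from hcomm))
      rw [h1.mul_pow, inv_pow, hxy, inv_mul_cancel]
    · -- the non-commuting case
      have hzne : Subgroup.zpowers x ≠ ⊤ := by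
        intro htop
        apply hcomm
        have hy : y ∈ Subgroup.zpowers x := by rw [htop]; exact Subgroup.mem_top y
        obtain ⟨k, rfl⟩ := Subgroup.mem_zpowers_iff.mp hy
        exact ((Commute.refl x).zpow_right k).eq
      obtain ⟨M, hM, hxM⟩ := (eq_top_or_exists_le_coatom (Subgroup.zpowers x)).resolve_left hzne
      have hnil : Group.IsNilpotent T := hT.isNilpotent
      have hMn : M.Normal :=
        Subgroup.NormalizerCondition.normal_of_coatom M Group.normalizerCondition_of_isNilpotent hM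
      have hx : x ∈ M := hxM (Subgroup.mem_zpowers x)
      have hx' : y⁻¹ * x * y ∈ M := by
        have := hMn.conj_mem x hx y⁻¹
        simpa using this
      have hMcard : Nat.card M < n := by
        rw [← hcard]
        apply lt_of_le_of_ne (Subgroup.card_le_card_group M)
        intro h
        exact hM.1 ((Subgroup.card_eq_iff_eq_top M).mp h)
      have hpow : (⟨x, hx⟩ : M) ^ p = (⟨y⁻¹ * x * y, hx'⟩ : M) ^ p := by
        apply Subtype.ext
        simp only [Subgroup.coe_pow]
        have h2 : (y⁻¹ * x * y) ^ p = y⁻¹ * x ^ p * y := by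
          have := conj_pow (a := y⁻¹) (b := x) (i := p)
          simpa using this
        rw [h2, hxy]
        group
      have h3 := ih (Nat.card M) hMcard ↥M rfl (hT.to_subgroup M) (hcen.subgroup M)
        ⟨x, hx⟩ ⟨y⁻¹ * x * y, hx'⟩ hpow
      set c : T := x⁻¹ * (y⁻¹ * x * y) with hc
      have hcp : c ^ p = 1 := by
        have := congrArg Subtype.val h3
        simpa using this
      have hccen : ∀ z : T, c * z = z * c := hcen c hcp
      have hrel : y * x⁻¹ = c * x⁻¹ * y := by
        have h4 : c = y * c * y⁻¹ := by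
          rw [← hccen y, mul_inv_cancel_right]
        calc y * x⁻¹ = (y * c * y⁻¹) * x⁻¹ * y := by rw [hc]; group
          _ = c * x⁻¹ * y := by rw [← h4]
      have h5 := Cfsg.Agent.Lib.Helper20_PGroupOdd.mul_pow_prime_of_comm hpf.out hp2 hrel
        (hccen x⁻¹) (hccen y) hcp
      rw [h5, inv_pow, hxy, inv_mul_cancel]

/-- In a `p`-central `p`-group with `p` odd, `x ^ p = y ^ p` implies `(x⁻¹ * y) ^ p = 1`. -/
theorem inv_mul_pow_eq_one {p : ℕ} [Fact p.Prime] (hp2 : p ≠ 2) {T : Type u} [Group T] [Finite T]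
    (hT : IsPGroup p T) (hcen : IsPCentral p T) {x y : T} (hxy : x ^ p = y ^ p) :
    (x⁻¹ * y) ^ p = 1 :=
  inv_mul_pow_eq_one_aux p hp2 (Nat.card T) T rfl hT hcen x y hxy


/-- Key counting lemma: if `T` is a `p`-subgroup (`p` odd) in which elements of order dividing `p`
are central (in `T`), all `p`-th powers of `T` lie in `K`, and all elements of `T` of order dividing
`p` lie in `S`, then `|T : T ∩ K| ≤ |S|`. -/
theorem relIndex_le_card_of_pCentral {Γ : Type u} [Group Γ] [Finite Γ] {p : ℕ} [Fact p.Prime]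
    (hp2 : p ≠ 2) (T K S : Subgroup Γ) (hT : IsPGroup p T)
    (hcen : ∀ x ∈ T, x ^ p = 1 → ∀ y ∈ T, x * y = y * x)
    (hK : ∀ x ∈ T, x ^ p ∈ K) (hS : ∀ x ∈ T, x ^ p = 1 → x ∈ S) :
    K.relIndex T ≤ Nat.card S := by
  classical
  have hcen' : IsPCentral p ↥T := by
    intro x hx y
    apply Subtype.ext
    have h1 : (x : Γ) ^ p = 1 := by
      have := congrArg Subtype.val hx
      simpa using this
    simpa using hcen (x : Γ) x.2 h1 (y : Γ) y.2
  have hfib : ∀ x ∈ T, ∀ y ∈ T, x ^ p = y ^ p → x⁻¹ * y ∈ S := by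
    intro x hx y hy hxy
    have h1 : (⟨x, hx⟩ : T) ^ p = (⟨y, hy⟩ : T) ^ p := Subtype.ext (by simpa using hxy)
    have h2 := inv_mul_pow_eq_one hp2 hT hcen' h1
    have h3 : (x⁻¹ * y) ^ p = 1 := by
      have := congrArg Subtype.val h2
      simpa using this
    exact hS _ (T.mul_mem (T.inv_mem hx) hy) h3
  letI : Fintype Γ := Fintype.ofFinite Γ
  set s : Finset Γ := (T : Set Γ).toFinset with hs
  set f : Γ → Γ := fun x => x ^ p with hf
  have hmem : ∀ x, x ∈ s ↔ x ∈ T := by intro x; simp [hs]
  have h1 : s.card ≤ Nat.card S * (s.image f).card := by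
    apply Finset.card_le_mul_card_image
    intro a ha
    obtain ⟨x0, hx0, rfl⟩ := Finset.mem_image.mp ha
    have hx0T : x0 ∈ T := (hmem x0).mp hx0
    have h2 : (s.filter (fun x => f x = f x0)).card ≤ ((S : Set Γ).toFinset).card := by
      apply Finset.card_le_card_of_injOn (fun x => x0⁻¹ * x)
      · intro x hx
        have hx' := Finset.mem_filter.mp hx
        have hxT : x ∈ T := (hmem x).mp hx'.1
        have : x0⁻¹ * x ∈ S := hfib x0 hx0T x hxT hx'.2.symm
        simpa using this
      · intro x _ y _ hxy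
        exact mul_left_cancel hxy
    have h3 : ((S : Set Γ).toFinset).card = Nat.card S := by
      rw [Set.toFinset_card, Nat.card_eq_fintype_card]
      rfl
    rw [h3] at h2
    exact h2
  have h4 : (s.image f).card ≤ Nat.card ↥(K ⊓ T) := by
    have h5 : s.image f ⊆ ((K ⊓ T : Subgroup Γ) : Set Γ).toFinset := by
      intro a ha
      obtain ⟨x, hx, rfl⟩ := Finset.mem_image.mp ha
      have hxT : x ∈ T := (hmem x).mp hx
      have : x ^ p ∈ K ⊓ T := ⟨hK x hxT, T.pow_mem hxT p⟩
      simpa using this
    have h6 := Finset.card_le_card h5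
    have h7 : (((K ⊓ T : Subgroup Γ) : Set Γ).toFinset).card = Nat.card ↥(K ⊓ T) := by
      rw [Set.toFinset_card, Nat.card_eq_fintype_card]
      rfl
    rw [h7] at h6
    exact h6
  have h8 : s.card = Nat.card T := by
    rw [hs, Set.toFinset_card, Nat.card_eq_fintype_card]
    rfl
  have h9 : Nat.card T = Nat.card ↥(K ⊓ T) * K.relIndex T := by
    have h10 := Subgroup.relIndex_mul_relIndex (⊥ : Subgroup Γ) (K ⊓ T) T bot_le inf_le_right
    rw [Subgroup.relIndex_bot_left, Subgroup.relIndex_bot_left, Subgroup.inf_relIndex_right] at h10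
    exact h10.symm
  have h11 : Nat.card ↥(K ⊓ T) * K.relIndex T ≤ Nat.card ↥(K ⊓ T) * Nat.card S := by
    rw [← h9, ← h8]
    calc s.card ≤ Nat.card S * (s.image f).card := h1
      _ ≤ Nat.card S * Nat.card ↥(K ⊓ T) := Nat.mul_le_mul_left _ h4
      _ = Nat.card ↥(K ⊓ T) * Nat.card S := Nat.mul_comm _ _
  exact Nat.le_of_mul_le_mul_left h11 Nat.card_pos

end Cfsg.Agent.Lib.Helper32_PCentral
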