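import Mathlib
import Cfsg.Agent.S3762
import Cfsg.Agent.Lib.Helper32_PCentral
import Cfsg.Agent.Lib.Helper20_RankTwoOmega
import Cfsg.Agent.Lib.Helper1_Frattini
import Cfsg.Agent.Lib.Helper67_Basic

/-!
# Chief factors inside a normal `p`-subgroup of rank at most two, `p` odd (helper32)

`Setting p P K`: `K < P` are normal subgroups of the finite group `Γ`, `P` is a `p`-group all of whose
elementary abelian subgroups have order at most `p²`, and no normal subgroup of `Γ` lies strictly
between `K` and `P`.  Main result `Setting.relIndex_le`: `|P : K| ≤ p²` for `p` odd.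
-/

set_option autoImplicit false
set_option linter.unusedSectionVars false

namespace Cfsg.Agent.Lib.Helper32_ChiefRankTwo

open scoped commutatorElement

universe u

variable {Γ : Type u} [Group Γ] [Finite Γ] {p : ℕ} [hpf : Fact p.Prime]

/-- the chief factor setting -/
structure Setting (p : ℕ) (P K : Subgroup Γ) : Prop where
  normP : P.Normal
  normK : K.Normal
  pgroup : IsPGroup p P
  lt : K < P
  rank : ∀ A : Subgroup Γ, A ≤ P → (∀ a ∈ A, ∀ b ∈ A, a * b = b * a) → (∀ a ∈ A, a ^ p = 1) →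
    Nat.card A ≤ p ^ 2
  chief : ∀ L : Subgroup Γ, L.Normal → K ≤ L → L ≤ P → L = K ∨ L = P

namespace Setting

variable {P K : Subgroup Γ}

theorem le_or_sup (h : Setting p P K) (T : Subgroup Γ) (hT : T.Normal) (hTP : T ≤ P) :
    T ≤ K ∨ T ⊔ K = P := by
  have := h.normK
  rcases h.chief (T ⊔ K) (Subgroup.sup_normal T K) le_sup_right (sup_le hTP h.lt.le) with h1 | h1
  · left
    rw [← h1]
    exact le_sup_left
  · right
    exact h1

theorem relIndex_eq (h : Setting p P K) (T : Subgroup Γ) (hT : T.Normal) (hTP : T ≤ P)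
    (hTK : ¬ T ≤ K) : K.relIndex P = K.relIndex T := by
  have := h.normK
  rcases h.le_or_sup T hT hTP with h1 | h1
  · exact absurd h1 hTK
  · rw [← h1, Subgroup.relIndex_sup_right]

theorem relIndex_le_of_le (h : Setting p P K) (T : Subgroup Γ) (hTK : T ≤ K) :
    K.relIndex P ≤ T.relIndex P := by
  have h1 := Subgroup.relIndex_mul_relIndex T K P hTK h.lt.le
  have h2 : K.relIndex P ≠ 0 := by
    have : (K.subgroupOf P).FiniteIndex := inferInstance
    exact Subgroup.FiniteIndex.index_ne_zero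
  rw [← h1]
  exact Nat.le_mul_of_pos_left _ (Nat.pos_of_ne_zero (by
    intro h3
    have : (T.subgroupOf K).FiniteIndex := inferInstance
    exact Subgroup.FiniteIndex.index_ne_zero h3))

/-- the image of the Frattini subgroup of `P` lies in `K`. -/
theorem frattini_le (h : Setting p P K) : (frattini ↥P).map P.subtype ≤ K := by
  have := h.normP
  have := h.normK
  have hn : ((frattini ↥P).map P.subtype).Normal := ConjAct.normal_of_characteristic_of_normal
  have hle : (frattini ↥P).map P.subtype ≤ P := by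
    rintro _ ⟨x, -, rfl⟩
    exact x.2
  rcases h.le_or_sup _ hn hle with h1 | h1
  · exact h1
  · exfalso
    have h2 : K.subgroupOf P ⊔ frattini ↥P = ⊤ := by
      rw [eq_top_iff]
      intro x _
      have hx : (x : Γ) ∈ (frattini ↥P).map P.subtype ⊔ K := by rw [h1]; exact x.2
      rw [Subgroup.mem_sup_of_normal_right] at hx
      obtain ⟨a, ha, b, hb, hab⟩ := hx
      obtain ⟨a', ha', rfl⟩ := ha
      have hbP : b ∈ P := by
        have : b = (a' : Γ)⁻¹ * x := by rw [← hab]; simp
        rw [this]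
        exact P.mul_mem (P.inv_mem a'.2) x.2
      have : x = a' * ⟨b, hbP⟩ := Subtype.ext (by simpa using hab.symm)
      rw [this]
      exact Subgroup.mul_mem _ (Subgroup.mem_sup_right ha')
        (Subgroup.mem_sup_left (Subgroup.mem_subgroupOf.mpr hb))
    have h3 := frattini_nongenerating h2
    have h4 : P ≤ K := by
      intro x hx
      have : (⟨x, hx⟩ : P) ∈ K.subgroupOf P := by rw [h3]; exact Subgroup.mem_top _
      exact Subgroup.mem_subgroupOf.mp this
    exact h.lt.not_ge h4

theorem pow_mem (h : Setting p P K) {x : Γ} (hx : x ∈ P) : x ^ p ∈ K := by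
  apply h.frattini_le
  refine ⟨⟨x, hx⟩ ^ p, ?_, by simp⟩
  exact Cfsg.Agent.Lib.Helper1_Frattini.pow_mem_frattini_of_isPGroup h.pgroup _

theorem comm_mem (h : Setting p P K) {x y : Γ} (hx : x ∈ P) (hy : y ∈ P) : ⁅x, y⁆ ∈ K := by
  apply h.frattini_le
  refine ⟨⁅(⟨x, hx⟩ : P), (⟨y, hy⟩ : P)⁆, ?_, by simp [commutatorElement_def]⟩
  apply Cfsg.Agent.Lib.Helper1_Frattini.commutator_le_frattini_of_isPGroup h.pgroup
  exact Subgroup.commutator_mem_commutator (Subgroup.mem_top _) (Subgroup.mem_top _)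


/-- normal form of the elements of `A ⊔ ⟨x⟩` when `x` commutes with `A` -/
theorem exists_mul_zpow_of_mem_sup (A : Subgroup Γ) {x : Γ} (hxA : ∀ a ∈ A, a * x = x * a)
    {b : Γ} (hb : b ∈ A ⊔ Subgroup.zpowers x) : ∃ a ∈ A, ∃ k : ℤ, b = a * x ^ k := by
  have hcomm : ∀ a ∈ A, ∀ k : ℤ, Commute a (x ^ k) := fun a ha k =>
    (show Commute a x from hxA a ha).zpow_right k
  rw [Subgroup.sup_eq_closure] at hb
  induction hb using Subgroup.closure_induction with
  | mem y hy =>
    rcases hy with hy | hy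
    · exact ⟨y, hy, 0, by simp⟩
    · obtain ⟨k, rfl⟩ := Subgroup.mem_zpowers_iff.mp hy
      exact ⟨1, A.one_mem, k, by simp⟩
  | one => exact ⟨1, A.one_mem, 0, by simp⟩
  | mul y z _ _ hy hz =>
    obtain ⟨a, ha, k, rfl⟩ := hy
    obtain ⟨a', ha', k', rfl⟩ := hz
    refine ⟨a * a', A.mul_mem ha ha', k + k', ?_⟩
    rw [zpow_add]
    calc a * x ^ k * (a' * x ^ k') = a * (x ^ k * a') * x ^ k' := by group
      _ = a * (a' * x ^ k) * x ^ k' := by rw [(hcomm a' ha' k).eq]
      _ = a * a' * (x ^ k * x ^ k') := by group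
  | inv y _ hy =>
    obtain ⟨a, ha, k, rfl⟩ := hy
    refine ⟨a⁻¹, A.inv_mem ha, -k, ?_⟩
    rw [mul_inv_rev, zpow_neg]
    exact ((hcomm a⁻¹ (A.inv_mem ha) k).inv_right).eq.symm

/-- An elementary abelian subgroup of `P` of order at least `p²` contains every element of `P` of
order dividing `p` commuting with it. -/
theorem mem_of_commute (h : Setting p P K) (A : Subgroup Γ) (hAP : A ≤ P)
    (hAc : ∀ a ∈ A, ∀ b ∈ A, a * b = b * a) (hAe : ∀ a ∈ A, a ^ p = 1)
    (hcard : p ^ 2 ≤ Nat.card A) {x : Γ} (hxP : x ∈ P) (hx : x ^ p = 1)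
    (hxA : ∀ a ∈ A, a * x = x * a) : x ∈ A := by
  set B : Subgroup Γ := A ⊔ Subgroup.zpowers x with hB
  have hBP : B ≤ P := sup_le hAP (Subgroup.zpowers_le.mpr hxP)
  have hcomm : ∀ a ∈ A, ∀ k : ℤ, Commute a (x ^ k) := fun a ha k =>
    (show Commute a x from hxA a ha).zpow_right k
  have hBc : ∀ a ∈ B, ∀ b ∈ B, a * b = b * a := by
    intro a ha b hb
    obtain ⟨a1, ha1, k, rfl⟩ := exists_mul_zpow_of_mem_sup A hxA ha
    obtain ⟨a2, ha2, k', rfl⟩ := exists_mul_zpow_of_mem_sup A hxA hb
    have e1 : Commute a1 a2 := hAc a1 ha1 a2 ha2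
    have e2 : Commute (x ^ k) (x ^ k') := ((Commute.refl x).zpow_left k).zpow_right k'
    exact ((e1.mul_right (hcomm a1 ha1 k')).mul_left
      (((hcomm a2 ha2 k).symm).mul_right e2)).eq
  have hBe : ∀ a ∈ B, a ^ p = 1 := by
    intro a ha
    obtain ⟨a1, ha1, k, rfl⟩ := exists_mul_zpow_of_mem_sup A hxA ha
    rw [(hcomm a1 ha1 k).mul_pow, hAe a1 ha1, one_mul, ← zpow_natCast, ← zpow_mul, mul_comm,
      zpow_mul, zpow_natCast, hx, one_zpow]
  have h1 := h.rank B hBP hBc hBe
  have h2 : A = B := Subgroup.eq_of_le_of_card_ge le_sup_left (h1.trans hcard)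
  rw [h2]
  exact Subgroup.mem_sup_right (Subgroup.mem_zpowers x)

/-- conjugacy class bound: the centralizer in `P` of an element of a small normal subgroup has
index at most `p`. -/
theorem relIndex_centralizer_le (h : Setting p P K) (N : Subgroup Γ) (hN : N.Normal) (hNP : N ≤ P)
    (hcard : Nat.card N ≤ p ^ 2) {e : Γ} (he : e ∈ N) :
    (Subgroup.centralizer ({e} : Set Γ)).relIndex P ≤ p := by
  classical
  have hpP : p.Prime := hpf.out
  set x : P := ⟨e, hNP he⟩ with hx
  have h1 : (Subgroup.centralizer ({e} : Set Γ)).subgroupOf P = Subgroup.centralizer ({x} : Set P) := by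
    ext y
    rw [Subgroup.mem_subgroupOf, Subgroup.mem_centralizer_singleton_iff,
      Subgroup.mem_centralizer_singleton_iff]
    constructor
    · intro hy
      exact Subtype.ext (by simpa using hy)
    · intro hy
      have := congrArg Subtype.val hy
      simpa using this
  have h2 : (Subgroup.centralizer ({e} : Set Γ)).relIndex P
      = {y : P | IsConj x y}.ncard := by
    rw [Subgroup.relIndex, h1, Cfsg.Agent.Lib.Helper67_Basic.ncard_isConj_eq_index]
  obtain ⟨k, hk⟩ := h.pgroup.index (Subgroup.centralizer ({x} : Set P))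
  have h3 : (Subgroup.centralizer ({e} : Set Γ)).relIndex P = p ^ k := by
    rw [Subgroup.relIndex, h1, hk]
  by_cases he1 : e = 1
  · have : (Subgroup.centralizer ({e} : Set Γ)).relIndex P = 1 := by
      rw [Subgroup.relIndex_eq_one]
      intro y _
      rw [Subgroup.mem_centralizer_singleton_iff, he1]
      simp
    rw [this]
    exact hpP.one_lt.le
  · have h4 : {y : P | IsConj x y}.ncard ≤ ((N : Set Γ) \ {1}).ncard := by
      apply Set.ncard_le_ncard_of_injOn (fun y : P => (y : Γ))
      · intro y hy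
        obtain ⟨c, hc⟩ := isConj_iff.mp hy
        have hyv : (y : Γ) = (c : Γ) * e * (c : Γ)⁻¹ := by
          have := congrArg Subtype.val hc
          simpa [hx] using this.symm
        refine ⟨?_, ?_⟩
        · rw [hyv]
          exact hN.conj_mem e he c
        · intro hy1
          apply he1
          have hy1' : (y : Γ) = 1 := hy1
          rw [hyv] at hy1'
          have : e = (c : Γ)⁻¹ * ((c : Γ) * e * (c : Γ)⁻¹) * (c : Γ) := by group
          rw [this, hy1']
          group
      · intro y _ z _ hyz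
        exact Subtype.ext hyz
    have h5 : ((N : Set Γ) \ {1}).ncard = Nat.card N - 1 := by
      rw [Set.ncard_sdiff_singleton_of_mem (show (1 : Γ) ∈ (N : Set Γ) from N.one_mem)]
      rfl
    have h6 : p ^ k < p ^ 2 := by
      rw [← h3, h2]
      have : 0 < Nat.card N := Nat.card_pos
      omega
    have h7 : k < 2 := (Nat.pow_lt_pow_iff_right hpP.one_lt).mp h6
    rw [h3]
    calc p ^ k ≤ p ^ 1 := Nat.pow_le_pow_right hpP.pos (by omega)
      _ = p := pow_one p


theorem relIndex_ne_zero' (X Y : Subgroup Γ) : X.relIndex Y ≠ 0 := by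
  have : (X.subgroupOf Y).FiniteIndex := inferInstance
  exact Subgroup.FiniteIndex.index_ne_zero

/-- the centralizer in `P` of a normal elementary abelian subgroup of order `p²` has index at most
`p²`. -/
theorem relIndex_centralizer_sq_le (h : Setting p P K) (E : Subgroup Γ) (hEn : E.Normal)
    (hEP : E ≤ P) (hEe : ∀ a ∈ E, a ^ p = 1) (hcard : Nat.card E = p ^ 2) :
    (P ⊓ Subgroup.centralizer (E : Set Γ)).relIndex P ≤ p ^ 2 := by
  have hpP : p.Prime := hpf.out
  have hp1 : p < p ^ 2 := by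
    have := Nat.pow_lt_pow_right hpP.one_lt (show 1 < 2 by norm_num)
    rwa [pow_one] at this
  -- a nontrivial element
  have hne : ∃ e0 ∈ E, e0 ≠ 1 := by
    by_contra hcon
    push Not at hcon
    have : E = ⊥ := (Subgroup.eq_bot_iff_forall E).mpr hcon
    rw [this, Subgroup.card_bot] at hcard
    have := hpP.one_lt
    omega
  obtain ⟨e0, he0, he01⟩ := hne
  have hord : orderOf e0 = p := by
    have h1 : orderOf e0 ∣ p := orderOf_dvd_of_pow_eq_one (hEe e0 he0)
    rcases (Nat.dvd_prime hpP).mp h1 with h2 | h2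
    · exact absurd (orderOf_eq_one_iff.mp h2) he01
    · exact h2
  have hz : Nat.card (Subgroup.zpowers e0) = p := by rw [Nat.card_zpowers, hord]
  have hne1 : ∃ e1 ∈ E, e1 ∉ Subgroup.zpowers e0 := by
    by_contra hcon
    push Not at hcon
    have h1 : E ≤ Subgroup.zpowers e0 := hcon
    have := Subgroup.card_le_of_le h1
    omega
  obtain ⟨e1, he1, he1z⟩ := hne1
  have hc0 := h.relIndex_centralizer_le E hEn hEP hcard.le he0
  have hc1 := h.relIndex_centralizer_le E hEn hEP hcard.le he1
  have h3 : (Subgroup.centralizer ({e0} : Set Γ) ⊓ Subgroup.centralizer ({e1} : Set Γ)).relIndex P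
      ≤ p ^ 2 := by
    calc _ ≤ (Subgroup.centralizer ({e0} : Set Γ)).relIndex P
          * (Subgroup.centralizer ({e1} : Set Γ)).relIndex P := Subgroup.relIndex_inf_le
      _ ≤ p * p := Nat.mul_le_mul hc0 hc1
      _ = p ^ 2 := (sq p).symm
  have h4 : (Subgroup.centralizer ({e0} : Set Γ) ⊓ Subgroup.centralizer ({e1} : Set Γ)) ⊓ P
      ≤ P ⊓ Subgroup.centralizer (E : Set Γ) := by
    intro g hg
    obtain ⟨hg01, hgP⟩ := Subgroup.mem_inf.mp hg
    obtain ⟨hg0, hg1⟩ := Subgroup.mem_inf.mp hg01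
    refine Subgroup.mem_inf.mpr ⟨hgP, ?_⟩
    set D : Subgroup Γ := E ⊓ Subgroup.centralizer ({g} : Set Γ) with hD
    have he0D : e0 ∈ D := by
      refine Subgroup.mem_inf.mpr ⟨he0, ?_⟩
      rw [Subgroup.mem_centralizer_singleton_iff]
      exact (Subgroup.mem_centralizer_singleton_iff.mp hg0).symm
    have he1D : e1 ∈ D := by
      refine Subgroup.mem_inf.mpr ⟨he1, ?_⟩
      rw [Subgroup.mem_centralizer_singleton_iff]
      exact (Subgroup.mem_centralizer_singleton_iff.mp hg1).symm
    have hlt : p < Nat.card D := by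
      by_contra hcon
      have hcon' : Nat.card D ≤ Nat.card (Subgroup.zpowers e0) := by rw [hz]; omega
      have heq : Subgroup.zpowers e0 = D :=
        Subgroup.eq_of_le_of_card_ge (Subgroup.zpowers_le.mpr he0D) hcon'
      apply he1z
      rw [heq]
      exact he1D
    have hdvd : Nat.card D ∣ p ^ 2 := by
      rw [← hcard]
      exact Subgroup.card_dvd_of_le inf_le_left
    obtain ⟨i, hi, hiD⟩ := (Nat.dvd_prime_pow hpP).mp hdvd
    have hi2 : i = 2 := by
      by_contra hne
      have hi1 : i ≤ 1 := by omega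
      have : Nat.card D ≤ p := by
        rw [hiD]
        calc p ^ i ≤ p ^ 1 := Nat.pow_le_pow_right hpP.pos hi1
          _ = p := pow_one p
      omega
    have hDE : D = E := by
      apply Subgroup.eq_of_le_of_card_ge inf_le_left
      rw [hcard, hiD, hi2]
    rw [Subgroup.mem_centralizer_iff]
    intro e he
    have : e ∈ D := by rw [hDE]; exact he
    exact (Subgroup.mem_centralizer_singleton_iff.mp (Subgroup.mem_inf.mp this).2)
  calc (P ⊓ Subgroup.centralizer (E : Set Γ)).relIndex P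
      ≤ ((Subgroup.centralizer ({e0} : Set Γ) ⊓ Subgroup.centralizer ({e1} : Set Γ)) ⊓ P).relIndex P :=
        Subgroup.relIndex_le_of_le_left h4 (relIndex_ne_zero' _ _)
    _ = (Subgroup.centralizer ({e0} : Set Γ) ⊓ Subgroup.centralizer ({e1} : Set Γ)).relIndex P :=
        Subgroup.inf_relIndex_right _ _
    _ ≤ p ^ 2 := h3

/-- **Case I**: there is a normal elementary abelian subgroup of order at least `p²` in `P`. -/
theorem relIndex_le_of_normal_rank_two (h : Setting p P K) (hp2 : p ≠ 2) (E : Subgroup Γ)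
    (hEn : E.Normal) (hEP : E ≤ P) (hEc : ∀ a ∈ E, ∀ b ∈ E, a * b = b * a)
    (hEe : ∀ a ∈ E, a ^ p = 1) (hcard : p ^ 2 ≤ Nat.card E) : K.relIndex P ≤ p ^ 2 := by
  have := h.normP
  have hE2 : Nat.card E = p ^ 2 := le_antisymm (h.rank E hEP hEc hEe) hcard
  by_cases h1 : E ≤ K
  · set T0 : Subgroup Γ := P ⊓ Subgroup.centralizer (E : Set Γ) with hT0
    have hT0n : T0.Normal := by
      have : (Subgroup.centralizer (E : Set Γ)).Normal := Subgroup.normal_centralizer
      exact Subgroup.normal_inf_normal _ _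
    have hS : ∀ x ∈ T0, x ^ p = 1 → x ∈ E := by
      intro x hx hxp
      apply h.mem_of_commute E hEP hEc hEe hcard hx.1 hxp
      intro a ha
      exact Subgroup.mem_centralizer_iff.mp hx.2 a ha
    have hcen : ∀ x ∈ T0, x ^ p = 1 → ∀ y ∈ T0, x * y = y * x := by
      intro x hx hxp y hy
      exact Subgroup.mem_centralizer_iff.mp hy.2 x (hS x hx hxp)
    have key : K.relIndex T0 ≤ Nat.card E :=
      Cfsg.Agent.Lib.Helper32_PCentral.relIndex_le_card_of_pCentral hp2 T0 K E
        (h.pgroup.to_le inf_le_left) hcen (fun x hx => h.pow_mem hx.1) hS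
    by_cases h2 : T0 ≤ K
    · calc K.relIndex P ≤ T0.relIndex P := h.relIndex_le_of_le T0 h2
        _ ≤ p ^ 2 := h.relIndex_centralizer_sq_le E hEn hEP hEe hE2
    · rw [h.relIndex_eq T0 hT0n inf_le_left h2]
      exact key.trans hE2.le
  · rw [h.relIndex_eq E hEn hEP h1]
    calc K.relIndex E ≤ Nat.card E := Nat.le_of_dvd Nat.card_pos (Subgroup.relIndex_dvd_card K E)
      _ = p ^ 2 := hE2


end Setting

/-! ### The class two case -/

section classTwo

variable {Q : Type u} [Group Q]

/-- class two with commutators of order dividing `p` -/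
def IsClassTwoExp (p : ℕ) (Q : Type*) [Group Q] : Prop :=
  ∀ x y : Q, ⁅x, y⁆ ∈ Subgroup.center Q ∧ ⁅x, y⁆ ^ p = 1

theorem IsClassTwoExp.mul_pow (hc : IsClassTwoExp p Q) (hp2 : p ≠ 2) (x y : Q) :
    (x * y) ^ p = x ^ p * y ^ p := by
  have h1 : y * x = ⁅y, x⁆ * x * y := by rw [commutatorElement_def]; group
  have h2 := (hc y x).1
  exact Cfsg.Agent.Lib.Helper20_PGroupOdd.mul_pow_prime_of_comm hpf.out hp2 h1
    ((Subgroup.mem_center_iff.mp h2 x).symm) ((Subgroup.mem_center_iff.mp h2 y).symm) (hc y x).2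

/-- the `p`-power endomorphism -/
def IsClassTwoExp.powHom (hc : IsClassTwoExp p Q) (hp2 : p ≠ 2) : Q →* Q where
  toFun x := x ^ p
  map_one' := one_pow p
  map_mul' x y := hc.mul_pow hp2 x y

theorem IsClassTwoExp.powHom_apply (hc : IsClassTwoExp p Q) (hp2 : p ≠ 2) (x : Q) :
    hc.powHom hp2 x = x ^ p := rfl

theorem IsClassTwoExp.pow_mem_center (hc : IsClassTwoExp p Q) (x : Q) :
    x ^ p ∈ Subgroup.center Q := by
  rw [Subgroup.mem_center_iff]
  intro y
  have h2 := (hc y x).1
  have h3 : y * x * y⁻¹ = ⁅y, x⁆ * x := by rw [commutatorElement_def]; group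
  have h4 : (y * x * y⁻¹) ^ p = x ^ p := by
    rw [h3, (show Commute ⁅y, x⁆ x from (Subgroup.mem_center_iff.mp h2 x).symm).mul_pow,
      (hc y x).2, one_mul]
  rw [conj_pow] at h4
  calc y * x ^ p = (y * x ^ p * y⁻¹) * y := by group
    _ = x ^ p * y := by rw [h4]

end classTwo

namespace Setting

variable {P K : Subgroup Γ}

/-- **Case II**: `P` has class at most two with commutators of order dividing `p`. -/
theorem relIndex_le_of_classTwo (h : Setting p P K) (hp2 : p ≠ 2) (hc : IsClassTwoExp p ↥P) :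
    K.relIndex P ≤ p ^ 2 := by
  have hpP : p.Prime := hpf.out
  have hnP := h.normP
  have hnK := h.normK
  set φ : ↥P →* ↥P := hc.powHom hp2 with hφ
  set W : Subgroup Γ := φ.ker.map P.subtype with hW
  set I : Subgroup Γ := φ.range.map P.subtype with hI
  have memW : ∀ y : Γ, y ∈ W ↔ y ∈ P ∧ y ^ p = 1 := by
    intro y
    constructor
    · rintro ⟨x, hx, rfl⟩
      refine ⟨x.2, ?_⟩
      have h1 : x ^ p = 1 := MonoidHom.mem_ker.mp hx
      have := congrArg Subtype.val h1
      simpa using this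
    · rintro ⟨hy, hyp⟩
      refine ⟨⟨y, hy⟩, ?_, rfl⟩
      apply MonoidHom.mem_ker.mpr
      exact Subtype.ext (by simpa [hφ, IsClassTwoExp.powHom_apply] using hyp)
  have memI : ∀ y : Γ, y ∈ I ↔ ∃ x ∈ P, x ^ p = y := by
    intro y
    constructor
    · rintro ⟨z, ⟨x, rfl⟩, rfl⟩
      exact ⟨x, x.2, by simp [hφ, IsClassTwoExp.powHom_apply]⟩
    · rintro ⟨x, hx, rfl⟩
      exact ⟨⟨x, hx⟩ ^ p, ⟨⟨x, hx⟩, rfl⟩, by simp⟩
  have hWP : W ≤ P := fun y hy => ((memW y).mp hy).1
  have hIP : I ≤ P := by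
    intro y hy
    obtain ⟨x, hx, rfl⟩ := (memI y).mp hy
    exact P.pow_mem hx p
  have hIK : I ≤ K := by
    intro y hy
    obtain ⟨x, hx, rfl⟩ := (memI y).mp hy
    exact h.pow_mem hx
  have hWn : W.Normal := by
    constructor
    intro y hy g
    obtain ⟨hyP, hyp⟩ := (memW y).mp hy
    apply (memW _).mpr
    refine ⟨hnP.conj_mem y hyP g, ?_⟩
    rw [conj_pow, hyp]
    group
  have hWe : ∀ w ∈ W, w ^ p = 1 := fun w hw => ((memW w).mp hw).2
  -- orders
  have hcardW : Nat.card W = Nat.card φ.ker :=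
    Subgroup.card_map_of_injective P.subtype_injective
  have hcardI : Nat.card I = Nat.card φ.range :=
    Subgroup.card_map_of_injective P.subtype_injective
  have hmul : Nat.card W * Nat.card I = Nat.card P := by
    rw [hcardW, hcardI, ← Subgroup.index_ker]
    exact Subgroup.card_mul_index φ.ker
  -- rank statement transported to `↥P`
  have hrk : ∀ E : Subgroup ↥P, (∀ a ∈ E, ∀ b ∈ E, a * b = b * a) → (∀ a ∈ E, a ^ p = 1) →
      Nat.card E ≤ p ^ 2 := by
    intro E hEc hEe
    have h1 := h.rank (E.map P.subtype) (by rintro _ ⟨x, -, rfl⟩; exact x.2)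
      (by
        rintro _ ⟨a, ha, rfl⟩ _ ⟨b, hb, rfl⟩
        have := congrArg Subtype.val (hEc a ha b hb)
        simpa using this)
      (by
        rintro _ ⟨a, ha, rfl⟩
        have := congrArg Subtype.val (hEe a ha)
        simpa using this)
    rwa [Subgroup.card_map_of_injective P.subtype_injective] at h1
  have hW3 : Nat.card W ≤ p ^ 3 := by
    rw [hcardW]
    apply Cfsg.Agent.Lib.Helper20_RankTwoOmega.card_le_of_exp hp2 h.pgroup hrk φ.ker
    intro g hg
    exact MonoidHom.mem_ker.mp hg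
  by_cases hWK : W ≤ K
  · -- `K ≥ W ⊔ I`
    have h1 : K.relIndex P ≤ (W ⊔ I).relIndex P :=
      h.relIndex_le_of_le (W ⊔ I) (sup_le hWK hIK)
    have h2 : Nat.card ↥(W ⊔ I) * (W ⊔ I).relIndex P = Nat.card P := by
      have := Subgroup.relIndex_mul_relIndex (⊥ : Subgroup Γ) (W ⊔ I) P bot_le (sup_le hWP hIP)
      rwa [Subgroup.relIndex_bot_left, Subgroup.relIndex_bot_left] at this
    have h3 : Nat.card ↥(W ⊔ I) = Nat.card W * W.relIndex I := by
      have := Subgroup.relIndex_mul_relIndex (⊥ : Subgroup Γ) W (W ⊔ I) bot_le le_sup_left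
      rw [Subgroup.relIndex_bot_left, Subgroup.relIndex_bot_left, Subgroup.relIndex_sup_left] at this
      exact this.symm
    have h4 : Nat.card ↥(W ⊓ I) * W.relIndex I = Nat.card I := by
      have := Subgroup.relIndex_mul_relIndex (⊥ : Subgroup Γ) (W ⊓ I) I bot_le inf_le_right
      rwa [Subgroup.relIndex_bot_left, Subgroup.relIndex_bot_left, Subgroup.inf_relIndex_right] at this
    have h5 : (W ⊔ I).relIndex P = Nat.card ↥(W ⊓ I) := by
      have hpos : 0 < Nat.card W * W.relIndex I := by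
        rw [← h3]; exact Nat.card_pos
      have : Nat.card W * W.relIndex I * (W ⊔ I).relIndex P
          = Nat.card W * W.relIndex I * Nat.card ↥(W ⊓ I) := by
        rw [← h3, h2, ← hmul, ← h4, h3]
        ring
      exact Nat.eq_of_mul_eq_mul_left hpos this
    have h6 : Nat.card ↥(W ⊓ I) ≤ p ^ 2 := by
      apply h.rank (W ⊓ I) (inf_le_left.trans hWP)
      · intro a ha b hb
        obtain ⟨x, hx, rfl⟩ := (memI a).mp ha.2
        have hbP : b ∈ P := hIP hb.2
        have h7 := hc.pow_mem_center (⟨x, hx⟩ : P)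
        have h8 := Subgroup.mem_center_iff.mp h7 ⟨b, hbP⟩
        have := congrArg Subtype.val h8
        simpa using this.symm
      · intro a ha
        exact hWe a ha.1
    rw [h5] at h1
    exact h1.trans h6
  · rw [h.relIndex_eq W hWn hWP hWK]
    have h1 : Nat.card ↥(K ⊓ W) * K.relIndex W = Nat.card W := by
      have := Subgroup.relIndex_mul_relIndex (⊥ : Subgroup Γ) (K ⊓ W) W bot_le inf_le_right
      rwa [Subgroup.relIndex_bot_left, Subgroup.relIndex_bot_left, Subgroup.inf_relIndex_right] at this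
    by_cases hW2 : Nat.card W ≤ p ^ 2
    · calc K.relIndex W ≤ Nat.card W := Nat.le_of_dvd Nat.card_pos (Subgroup.relIndex_dvd_card K W)
        _ ≤ p ^ 2 := hW2
    · -- `W` is not abelian, so `K ⊓ W` is nontrivial
      have hnc : ¬ ∀ a ∈ W, ∀ b ∈ W, a * b = b * a := by
        intro hcomm
        exact hW2 (h.rank W hWP hcomm hWe)
      push Not at hnc
      obtain ⟨a, ha, b, hb, hab⟩ := hnc
      have hcK : ⁅a, b⁆ ∈ K ⊓ W := by
        refine Subgroup.mem_inf.mpr ⟨h.comm_mem (hWP ha) (hWP hb), ?_⟩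
        rw [commutatorElement_def]
        exact W.mul_mem (W.mul_mem (W.mul_mem ha hb) (W.inv_mem ha)) (W.inv_mem hb)
      have hc1 : ⁅a, b⁆ ≠ 1 := by
        intro h2
        exact hab (commutatorElement_eq_one_iff_mul_comm.mp h2)
      have hKWp : IsPGroup p ↥(K ⊓ W) := h.pgroup.to_le (inf_le_right.trans hWP)
      obtain ⟨n, hn⟩ := hKWp.exists_card_eq
      have hn0 : n ≠ 0 := by
        intro hn0
        rw [hn0, pow_zero] at hn
        have hbot : K ⊓ W = ⊥ := Subgroup.card_eq_one.mp hn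
        apply hc1
        have : ⁅a, b⁆ ∈ (⊥ : Subgroup Γ) := by rw [← hbot]; exact hcK
        exact Subgroup.mem_bot.mp this
      have hple : p ≤ Nat.card ↥(K ⊓ W) := by
        rw [hn]
        calc p = p ^ 1 := (pow_one p).symm
          _ ≤ p ^ n := Nat.pow_le_pow_right hpP.pos (by omega)
      have h3 : p * K.relIndex W ≤ p * p ^ 2 := by
        calc p * K.relIndex W ≤ Nat.card ↥(K ⊓ W) * K.relIndex W := Nat.mul_le_mul_right _ hple
          _ = Nat.card W := h1
          _ ≤ p ^ 3 := hW3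
          _ = p * p ^ 2 := by ring
      exact Nat.le_of_mul_le_mul_left h3 hpP.pos


omit [Finite Γ] hpf in
theorem comm_mul_central_left {Q : Type*} [Group Q] {z : Q} (hz : z ∈ Subgroup.center Q) (a b : Q) :
    ⁅a * z, b⁆ = ⁅a, b⁆ := by
  have h1 : z * b * z⁻¹ = b := by
    rw [← Subgroup.mem_center_iff.mp hz b]; group
  calc ⁅a * z, b⁆ = a * (z * b * z⁻¹) * a⁻¹ * b⁻¹ := by rw [commutatorElement_def]; group
    _ = ⁅a, b⁆ := by rw [h1, commutatorElement_def]

omit [Finite Γ] hpf in
theorem comm_mul_central_right {Q : Type*} [Group Q] {z : Q} (hz : z ∈ Subgroup.center Q) (a b : Q) :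
    ⁅a, b * z⁆ = ⁅a, b⁆ := by
  have h1 : z * a⁻¹ * z⁻¹ = a⁻¹ := by
    rw [← Subgroup.mem_center_iff.mp hz a⁻¹]; group
  calc ⁅a, b * z⁆ = a * b * (z * a⁻¹ * z⁻¹) * b⁻¹ := by rw [commutatorElement_def]; group
    _ = ⁅a, b⁆ := by rw [h1, commutatorElement_def]

/-- If `P` has no normal (in `Γ`) elementary abelian subgroup of order at least `p²`, then `P` has
class at most two with commutators of order dividing `p`. -/
theorem isClassTwoExp_of_no_rank_two (h : Setting p P K) (hp2 : p ≠ 2)
    (hno : ¬ ∃ E : Subgroup Γ, E.Normal ∧ E ≤ P ∧ (∀ a ∈ E, ∀ b ∈ E, a * b = b * a) ∧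
      (∀ a ∈ E, a ^ p = 1) ∧ p ^ 2 ≤ Nat.card E) : IsClassTwoExp p ↥P := by
  have hpP : p.Prime := hpf.out
  have hnP := h.normP
  have hsymp : ∀ B : Subgroup ↥P, B.Characteristic → IsMulCommutative B → IsCyclic B := by
    intro B hBchar hBcomm
    by_contra hnc
    have hBc : ∀ a ∈ B, ∀ b ∈ B, a * b = b * a := by
      intro a ha b hb
      have := isMulCommutative_iff.mp hBcomm ⟨a, ha⟩ ⟨b, hb⟩
      exact congrArg Subtype.val this
    let Ω : Subgroup ↥P :=
      { carrier := {b | b ∈ B ∧ b ^ p = 1}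
        mul_mem' := by
          rintro a b ⟨ha, hap⟩ ⟨hb, hbp⟩
          refine ⟨B.mul_mem ha hb, ?_⟩
          rw [(show Commute a b from hBc a ha b hb).mul_pow, hap, hbp, one_mul]
        one_mem' := ⟨B.one_mem, one_pow p⟩
        inv_mem' := by
          rintro a ⟨ha, hap⟩
          exact ⟨B.inv_mem ha, by rw [inv_pow, hap, inv_one]⟩ }
    have hΩmem : ∀ b : ↥P, b ∈ Ω ↔ b ∈ B ∧ b ^ p = 1 := fun b => Iff.rfl
    have hΩchar : Ω.Characteristic := by
      rw [Subgroup.characteristic_iff_map_le]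
      intro ψ
      rintro _ ⟨b, hb, rfl⟩
      obtain ⟨hbB, hbp⟩ := (hΩmem b).mp hb
      refine (hΩmem _).mpr ⟨?_, ?_⟩
      · have := Subgroup.characteristic_iff_map_le.mp hBchar ψ
        exact this ⟨b, hbB, rfl⟩
      · show (ψ b) ^ p = 1
        rw [← map_pow, hbp, map_one]
    have hn : (Ω.map P.subtype).Normal := ConjAct.normal_of_characteristic_of_normal
    -- a subgroup of order `p²` inside `Ω`
    have hBp : IsPGroup p ↥B := h.pgroup.to_subgroup B
    have hnc' : ¬ IsCyclic (⊤ : Subgroup ↥B) := by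
      intro hcyc
      apply hnc
      exact isCyclic_of_surjective (Subgroup.topEquiv (G := ↥B)).toMonoidHom
        (Subgroup.topEquiv (G := ↥B)).surjective
    obtain ⟨A, -, -, -, hAexp, hAcard⟩ :=
      Cfsg.Agent.Lib.Helper20_PGroupOdd.exists_normal_rank_two hp2 hBp ⊤ hnc'
    have hAΩ : A.map B.subtype ≤ Ω := by
      rintro _ ⟨a, ha, rfl⟩
      refine (hΩmem _).mpr ⟨a.2, ?_⟩
      have := congrArg Subtype.val (hAexp a ha)
      simpa using this
    have hcardΩ : p ^ 2 ≤ Nat.card Ω := by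
      have h1 := Subgroup.card_le_of_le hAΩ
      rwa [Subgroup.card_map_of_injective B.subtype_injective, hAcard] at h1
    apply hno
    refine ⟨Ω.map P.subtype, hn, ?_, ?_, ?_, ?_⟩
    · rintro _ ⟨x, -, rfl⟩
      exact x.2
    · rintro _ ⟨a, ha, rfl⟩ _ ⟨b, hb, rfl⟩
      have := congrArg Subtype.val
        (hBc a ((hΩmem a).mp ha).1 b ((hΩmem b).mp hb).1)
      simpa using this
    · rintro _ ⟨a, ha, rfl⟩
      have := congrArg Subtype.val ((hΩmem a).mp ha).2
      simpa using this
    · rwa [Subgroup.card_map_of_injective P.subtype_injective]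
  obtain ⟨E', R, hER, hsup, hE', hR⟩ := Cfsg.Agent.S3762.result h.pgroup hsymp
  have hRc : IsCyclic R := hR.resolve_right (fun h2 => hp2 h2.1)
  have hRcomm : ∀ r ∈ R, ∀ r' ∈ R, r * r' = r' * r := by
    intro r hr r' hr'
    have := (IsCyclic.commGroup (α := ↥R)).mul_comm ⟨r, hr⟩ ⟨r', hr'⟩
    exact congrArg Subtype.val this
  -- elements commuting with `E'` and `R` are central
  have hcen : ∀ z : ↥P, (∀ e ∈ E', e * z = z * e) → (∀ r ∈ R, r * z = z * r) →
      z ∈ Subgroup.center ↥P := by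
    intro z hzE hzR
    have h1 : E' ⊔ R ≤ Subgroup.centralizer ({z} : Set ↥P) := by
      apply sup_le
      · intro e he
        exact Subgroup.mem_centralizer_singleton_iff.mpr (hzE e he)
      · intro r hr
        exact Subgroup.mem_centralizer_singleton_iff.mpr (hzR r hr)
    rw [hsup] at h1
    rw [Subgroup.mem_center_iff]
    intro g
    exact Subgroup.mem_centralizer_singleton_iff.mp (h1 (Subgroup.mem_top g))
  have hRcen : ∀ r ∈ R, r ∈ Subgroup.center ↥P := by
    intro r hr
    apply hcen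
    · intro e he
      exact hER e he r hr
    · intro r' hr'
      exact hRcomm r' hr' r hr
  have hRn : R.Normal :=
    Cfsg.Agent.Lib.Helper32_PGroup.normal_of_le_center R hRcen
  -- commutators of elements of `E'`
  have hEcomm : ∀ e1 ∈ E', ∀ e2 ∈ E', ⁅e1, e2⁆ ∈ Subgroup.center ↥P ∧ ⁅e1, e2⁆ ^ p = 1 := by
    intro e1 he1 e2 he2
    rcases hE' with hbot | hext
    · rw [hbot, Subgroup.mem_bot] at he1 he2
      rw [he1, he2, commutatorElement_one_right]
      exact ⟨Subgroup.one_mem _, one_pow p⟩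
    · obtain ⟨⟨-, -, hcz⟩, hzcard⟩ := hext
      set d : ↥E' := ⁅(⟨e1, he1⟩ : E'), (⟨e2, he2⟩ : E')⁆ with hd
      have hdc : d ∈ Subgroup.center ↥E' := by
        rw [← hcz]
        exact Subgroup.commutator_mem_commutator (Subgroup.mem_top _) (Subgroup.mem_top _)
      have hdval : (d : ↥P) = ⁅e1, e2⁆ := by
        simp [hd, commutatorElement_def]
      have hdp : d ^ p = 1 := by
        have h2 : (⟨d, hdc⟩ : Subgroup.center ↥E') ^ p = 1 := by
          rw [← hzcard]
          exact pow_card_eq_one'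
        have := congrArg Subtype.val h2
        simpa using this
      rw [← hdval]
      refine ⟨?_, ?_⟩
      · apply hcen
        · intro e he
          have := Subgroup.mem_center_iff.mp hdc ⟨e, he⟩
          exact congrArg Subtype.val this
        · intro r hr
          exact (hER (d : ↥P) d.2 r hr).symm
      · have := congrArg Subtype.val hdp
        simpa using this
  intro x y
  have hx : x ∈ E' ⊔ R := by rw [hsup]; exact Subgroup.mem_top x
  have hy : y ∈ E' ⊔ R := by rw [hsup]; exact Subgroup.mem_top y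
  rw [Subgroup.mem_sup_of_normal_right] at hx hy
  obtain ⟨e1, he1, r1, hr1, rfl⟩ := hx
  obtain ⟨e2, he2, r2, hr2, rfl⟩ := hy
  rw [comm_mul_central_left (hRcen r1 hr1), comm_mul_central_right (hRcen r2 hr2)]
  exact hEcomm e1 he1 e2 he2

/-- **Main theorem**: a chief factor `P / K` inside a normal `p`-subgroup of rank at most two has
order at most `p²` (`p` odd). -/
theorem relIndex_le (h : Setting p P K) (hp2 : p ≠ 2) : K.relIndex P ≤ p ^ 2 := by
  by_cases hE : ∃ E : Subgroup Γ, E.Normal ∧ E ≤ P ∧ (∀ a ∈ E, ∀ b ∈ E, a * b = b * a) ∧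
      (∀ a ∈ E, a ^ p = 1) ∧ p ^ 2 ≤ Nat.card E
  · obtain ⟨E, hEn, hEP, hEc, hEe, hcard⟩ := hE
    exact h.relIndex_le_of_normal_rank_two hp2 E hEn hEP hEc hEe hcard
  · exact h.relIndex_le_of_classTwo hp2 (h.isClassTwoExp_of_no_rank_two hp2 hE)

end Setting

end Cfsg.Agent.Lib.Helper32_ChiefRankTwo
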