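import Mathlib
import Cfsg.Prelude.Def_HallClasses

/-!
Basic facts about Hall `π`-subgroups (`Cfsg.IsPiHall`): passage to intermediate subgroups, to normal
subgroups, to quotients, and comparison with `π`-subgroups containing them.
-/

set_option autoImplicit false

namespace Cfsg.Agent.Lib.Helper39_HallBasic

open Cfsg

variable {G : Type*} [Group G] {π : Set ℕ}

/-- A Hall subgroup is a Hall subgroup of every intermediate subgroup. -/
theorem isPiHall_subgroupOf {H Y : Subgroup G} (hH : IsPiHall π H) (hHY : H ≤ Y) :
    IsPiHall π (H.subgroupOf Y) := by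
  constructor
  · intro p hp hd
    rw [Nat.card_congr (Subgroup.subgroupOfEquivOfLe hHY).toEquiv] at hd
    exact hH.1 p hp hd
  · intro p hp hpπ hd
    apply hH.2 p hp hpπ
    exact hd.trans (Subgroup.relIndex_dvd_index_of_le hHY)

/-- second isomorphism theorem, numerically: `[N : H ⊓ N] = [H ⊔ N : H]` for `N` normal -/
theorem relIndex_eq_relIndex_sup [Finite G] (H N : Subgroup G) [N.Normal] :
    H.relIndex N = H.relIndex (H ⊔ N) := by
  have a := Subgroup.relIndex_sup_right H N
  have b := Subgroup.relIndex_mul_relIndex (⊥ : Subgroup G) N (H ⊔ N) bot_le le_sup_right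
  have c := Subgroup.relIndex_mul_relIndex (⊥ : Subgroup G) H (H ⊔ N) bot_le le_sup_left
  have d := Subgroup.relIndex_mul_relIndex (⊥ : Subgroup G) (H ⊓ N) H bot_le inf_le_left
  have e := Subgroup.relIndex_mul_relIndex (⊥ : Subgroup G) (H ⊓ N) N bot_le inf_le_right
  rw [Subgroup.relIndex_bot_left, Subgroup.relIndex_bot_left] at b c d e
  rw [Subgroup.inf_relIndex_left] at d
  rw [Subgroup.inf_relIndex_right] at e
  rw [a] at b
  have hpos1 : 0 < Nat.card (H ⊓ N : Subgroup G) := Nat.card_pos
  have hpos2 : 0 < N.relIndex H := by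
    rcases Nat.eq_zero_or_pos (N.relIndex H) with h | h
    · rw [h, mul_zero] at d
      have : 0 < Nat.card H := Nat.card_pos
      omega
    · exact h
  have key : (Nat.card (H ⊓ N : Subgroup G) * N.relIndex H) * H.relIndex N =
      (Nat.card (H ⊓ N : Subgroup G) * N.relIndex H) * H.relIndex (H ⊔ N) := by
    calc (Nat.card (H ⊓ N : Subgroup G) * N.relIndex H) * H.relIndex N
        = (Nat.card (H ⊓ N : Subgroup G) * H.relIndex N) * N.relIndex H := by ring
      _ = Nat.card N * N.relIndex H := by rw [e]
      _ = Nat.card (H ⊔ N : Subgroup G) := b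
      _ = Nat.card H * H.relIndex (H ⊔ N) := c.symm
      _ = _ := by rw [← d]
  exact Nat.eq_of_mul_eq_mul_left (Nat.mul_pos hpos1 hpos2) key

/-- The intersection of a Hall subgroup with a normal subgroup is a Hall subgroup of it. -/
theorem isPiHall_subgroupOf_normal [Finite G] {H N : Subgroup G} [N.Normal] (hH : IsPiHall π H) :
    IsPiHall π (H.subgroupOf N) := by
  constructor
  · intro p hp hd
    apply hH.1 p hp
    have h1 : Nat.card (H.subgroupOf N) ∣ Nat.card H := by
      have : Nat.card (H.subgroupOf N) = Nat.card (H ⊓ N : Subgroup G) := by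
        have e : H.subgroupOf N = (H ⊓ N).subgroupOf N := by
          ext x
          simp [Subgroup.mem_subgroupOf]
        rw [e]
        exact Nat.card_congr (Subgroup.subgroupOfEquivOfLe inf_le_right).toEquiv
      rw [this]
      exact Subgroup.card_dvd_of_le inf_le_left
    exact hd.trans h1
  · intro p hp hpπ hd
    apply hH.2 p hp hpπ
    have h1 : H.relIndex N ∣ H.index := by
      rw [relIndex_eq_relIndex_sup]
      exact Subgroup.relIndex_dvd_index_of_le le_sup_left
    exact hd.trans h1

/-- The image of a Hall subgroup under a surjective homomorphism is a Hall subgroup. -/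
theorem isPiHall_map {G' : Type*} [Group G'] {H : Subgroup G} (hH : IsPiHall π H)
    (f : G →* G') (hf : Function.Surjective f) : IsPiHall π (H.map f) := by
  constructor
  · intro p hp hd
    exact hH.1 p hp (hd.trans (Subgroup.card_map_dvd H f))
  · intro p hp hpπ hd
    exact hH.2 p hp hpπ (hd.trans (Subgroup.index_map_dvd H hf))

/-- A `π`-subgroup containing a Hall `π`-subgroup equals it. -/
theorem eq_of_le_of_isPiSubgroup [Finite G] {H K : Subgroup G} (hH : IsPiHall π H) (hHK : H ≤ K)
    (hK : ∀ p : ℕ, p.Prime → p ∣ Nat.card K → p ∈ π) : H = K := by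
  have h1 := Subgroup.relIndex_mul_index hHK
  have h2 : H.relIndex K = 1 := by
    by_contra hne
    obtain ⟨p, hp, hpd⟩ := Nat.exists_prime_and_dvd hne
    have h3 : p ∣ Nat.card K := hpd.trans (Subgroup.relIndex_dvd_card H K)
    have h4 : p ∣ H.index := by
      rw [← h1]
      exact Dvd.dvd.mul_right hpd _
    exact hH.2 p hp (hK p hp h3) h4
  exact le_antisymm hHK (Subgroup.relIndex_eq_one.1 h2)

/-- A `π`-subgroup containing a Hall `π`-subgroup is a Hall `π`-subgroup. -/
theorem isPiHall_of_le [Finite G] {H K : Subgroup G} (hH : IsPiHall π H) (hHK : H ≤ K)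
    (hK : ∀ p : ℕ, p.Prime → p ∣ Nat.card K → p ∈ π) : IsPiHall π K := by
  rw [← eq_of_le_of_isPiSubgroup hH hHK hK]
  exact hH

/-- Transport of Hall subgroups along an isomorphism. -/
theorem isPiHall_map_equiv {G' : Type*} [Group G'] {H : Subgroup G} (hH : IsPiHall π H)
    (e : G ≃* G') : IsPiHall π (H.map e.toMonoidHom) :=
  isPiHall_map hH e.toMonoidHom e.surjective

/-- A prime of `π` dividing the order of the group divides the order of a Hall subgroup. -/
theorem dvd_card_of_dvd_card [Finite G] {H : Subgroup G} (hH : IsPiHall π H) {p : ℕ}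
    (hp : p.Prime) (hpπ : p ∈ π) (hd : p ∣ Nat.card G) : p ∣ Nat.card H := by
  have h := Subgroup.card_mul_index H
  rw [← h] at hd
  rcases (Nat.Prime.dvd_mul hp).1 hd with h1 | h1
  · exact h1
  · exact absurd h1 (hH.2 p hp hpπ)

/-- In a group whose order involves only primes of `π`, the Hall subgroup is everything. -/
theorem eq_top_of_isPiGroup [Finite G] {H : Subgroup G} (hH : IsPiHall π H)
    (hG : ∀ p : ℕ, p.Prime → p ∣ Nat.card G → p ∈ π) : H = ⊤ := by
  apply eq_of_le_of_isPiSubgroup hH le_top
  intro p hp hd
  rw [Subgroup.card_top] at hd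
  exact hG p hp hd

/-- `[N : H ⊓ N]` divides `[G : H]` when `H` normalizes `N`. -/
theorem relIndex_dvd_index_of_le_normalizer [Finite G] {H N : Subgroup G}
    (hN : H ≤ Subgroup.normalizer (N : Set G)) : H.relIndex N ∣ H.index := by
  have h1 : (H.subgroupOf (Subgroup.normalizer (N : Set G))).relIndex
      (N.subgroupOf (Subgroup.normalizer (N : Set G))) = H.relIndex N :=
    Subgroup.relIndex_subgroupOf Subgroup.le_normalizer
  rw [← h1, relIndex_eq_relIndex_sup]
  refine (Subgroup.relIndex_dvd_index_of_le le_sup_left).trans ?_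
  exact Subgroup.relIndex_dvd_index_of_le hN

/-- The intersection of a Hall subgroup with a subgroup it normalizes is a Hall subgroup of the
latter. -/
theorem isPiHall_subgroupOf_of_le_normalizer [Finite G] {H N : Subgroup G} (hH : IsPiHall π H)
    (hN : H ≤ Subgroup.normalizer (N : Set G)) : IsPiHall π (H.subgroupOf N) := by
  constructor
  · intro p hp hd
    apply hH.1 p hp
    have h1 : Nat.card (H.subgroupOf N) ∣ Nat.card H := by
      have : Nat.card (H.subgroupOf N) = Nat.card (H ⊓ N : Subgroup G) := by
        have e : H.subgroupOf N = (H ⊓ N).subgroupOf N := by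
          ext x
          simp [Subgroup.mem_subgroupOf]
        rw [e]
        exact Nat.card_congr (Subgroup.subgroupOfEquivOfLe inf_le_right).toEquiv
      rw [this]
      exact Subgroup.card_dvd_of_le inf_le_left
    exact hd.trans h1
  · intro p hp hpπ hd
    apply hH.2 p hp hpπ
    exact hd.trans (relIndex_dvd_index_of_le_normalizer hN)

end Cfsg.Agent.Lib.Helper39_HallBasic
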