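import Mathlib

/-!
Permutation groups preserving a fibration `f : β → ι`: the base group, its order, the restriction
to a fibre, the action on the set of fibres.
-/

set_option autoImplicit false

namespace Cfsg.Agent.Lib.Helper39_HallSymFib

open Equiv Equiv.Perm

variable {β ι : Type*} (f : β → ι)

theorem perm_apply_inv (σ : Perm β) (x : β) : σ (σ⁻¹ x) = x := by simp

theorem perm_inv_apply (σ : Perm β) (x : β) : σ⁻¹ (σ x) = x := by simp

/-- The base group: the permutations preserving every fibre of `f`. -/
def baseGroup : Subgroup (Perm β) where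
  carrier := {σ | ∀ x, f (σ x) = f x}
  one_mem' := fun _ => rfl
  mul_mem' := fun {a b} ha hb x => by rw [Perm.mul_apply, ha, hb]
  inv_mem' := fun {a} ha x => by
    have := ha (a⁻¹ x)
    rw [perm_apply_inv] at this
    exact this.symm

theorem mem_baseGroup {σ : Perm β} : σ ∈ baseGroup f ↔ ∀ x, f (σ x) = f x := Iff.rfl

theorem card_baseGroup [Fintype β] [DecidableEq β] [Fintype ι] [DecidableEq ι] :
    Nat.card (baseGroup f) = ∏ i, (Fintype.card {a // f a = i}).factorial := by
  rw [← DomMulAct.stabilizer_card f, ← Nat.card_eq_fintype_card]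
  apply Nat.card_congr
  apply Equiv.subtypeEquivRight
  intro σ
  rw [mem_baseGroup, funext_iff]
  rfl

/-- Restriction of the base group to a fibre. -/
def fiberHom (i : ι) : baseGroup f →* Perm {a // f a = i} where
  toFun σ := σ.1.subtypePerm (fun a => by rw [σ.2 a])
  map_one' := rfl
  map_mul' _ _ := rfl

theorem fiberHom_surjective [DecidableEq ι] (i : ι) : Function.Surjective (fiberHom f i) := by
  intro τ
  have hmem : ofSubtype τ ∈ baseGroup f := by
    intro x
    by_cases hx : f x = i
    · rw [ofSubtype_apply_of_mem τ hx, hx]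
      exact (τ ⟨x, hx⟩).2
    · rw [ofSubtype_apply_of_not_mem τ hx]
  refine ⟨⟨ofSubtype τ, hmem⟩, ?_⟩
  ext x
  show ((ofSubtype τ) x : β) = τ x
  rw [ofSubtype_apply_coe]

/-- The group of all permutations preserving the fibration. -/
def fibGroup : Subgroup (Perm β) where
  carrier := {τ | ∀ x y, f x = f y ↔ f (τ x) = f (τ y)}
  one_mem' := fun _ _ => Iff.rfl
  mul_mem' := fun {a b} ha hb x y => by
    rw [Perm.mul_apply, Perm.mul_apply]
    exact (hb x y).trans (ha _ _)
  inv_mem' := fun {a} ha x y => by
    have := ha (a⁻¹ x) (a⁻¹ y)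
    rw [perm_apply_inv, perm_apply_inv] at this
    exact this.symm

theorem mem_fibGroup {τ : Perm β} : τ ∈ fibGroup f ↔ ∀ x y, f x = f y ↔ f (τ x) = f (τ y) :=
  Iff.rfl

theorem fibGroup_hinv : ∀ k ∈ fibGroup f, ∀ x y, f x = f y → f (k x) = f (k y) :=
  fun _ hk x y h => (hk x y).1 h

theorem baseGroup_le_fibGroup : baseGroup f ≤ fibGroup f := fun τ hτ x y => by
  rw [hτ x, hτ y]

variable {f}

/-- A group preserving the fibration normalizes the base group. -/
theorem le_normalizer {K : Subgroup (Perm β)}
    (hinv : ∀ k ∈ K, ∀ x y, f x = f y → f (k x) = f (k y)) :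
    K ≤ Subgroup.normalizer (baseGroup f : Set (Perm β)) := by
  have key : ∀ k ∈ K, ∀ σ ∈ baseGroup f, k * σ * k⁻¹ ∈ baseGroup f := by
    intro k hk σ hσ x
    rw [Perm.mul_apply, Perm.mul_apply]
    have h1 := hinv k hk _ _ (hσ (k⁻¹ x))
    rw [h1, perm_apply_inv]
  intro k hk
  rw [Subgroup.mem_normalizer_iff]
  intro σ
  constructor
  · exact key k hk σ
  · intro h
    have := key k⁻¹ (K.inv_mem hk) _ h
    have e : k⁻¹ * (k * σ * k⁻¹) * k⁻¹⁻¹ = σ := by group
    rwa [e] at this

section blockHom

variable (hf : Function.Surjective f) {K : Subgroup (Perm β)}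
  (hinv : ∀ k ∈ K, ∀ x y, f x = f y → f (k x) = f (k y))

include hf hinv in
theorem aux_surjInv (k : Perm β) (hk : k ∈ K) (x : β) :
    f (k (Function.surjInv hf (f x))) = f (k x) :=
  hinv k hk _ _ (Function.surjInv_eq hf (f x))

/-- The permutation of the set of fibres induced by an element preserving the fibration. -/
noncomputable def blockPerm (k : K) : Perm ι where
  toFun i := f (k.1 (Function.surjInv hf i))
  invFun i := f (k.1⁻¹ (Function.surjInv hf i))
  left_inv i := by
    show f (k.1⁻¹ (Function.surjInv hf (f (k.1 (Function.surjInv hf i))))) = i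
    rw [aux_surjInv hf hinv k.1⁻¹ (K.inv_mem k.2), perm_inv_apply, Function.surjInv_eq hf]
  right_inv i := by
    show f (k.1 (Function.surjInv hf (f (k.1⁻¹ (Function.surjInv hf i))))) = i
    rw [aux_surjInv hf hinv k.1 k.2, perm_apply_inv, Function.surjInv_eq hf]

theorem blockPerm_apply (k : K) (x : β) : blockPerm hf hinv k (f x) = f (k.1 x) :=
  aux_surjInv hf hinv k.1 k.2 x

/-- The action on the set of fibres. -/
noncomputable def blockHom : K →* Perm ι where
  toFun := blockPerm hf hinv
  map_one' := by
    ext i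
    obtain ⟨x, rfl⟩ := hf i
    rw [blockPerm_apply]
    rfl
  map_mul' k k' := by
    ext i
    obtain ⟨x, rfl⟩ := hf i
    rw [Perm.mul_apply, blockPerm_apply, blockPerm_apply, blockPerm_apply]
    rfl

theorem blockHom_apply (k : K) (x : β) : blockHom hf hinv k (f x) = f (k.1 x) :=
  blockPerm_apply hf hinv k x

theorem blockHom_ker : (blockHom hf hinv).ker = (baseGroup f).subgroupOf K := by
  ext k
  rw [MonoidHom.mem_ker, Subgroup.mem_subgroupOf, mem_baseGroup]
  constructor
  · intro h x
    rw [← blockHom_apply hf hinv, h]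
    rfl
  · intro h
    ext i
    obtain ⟨x, rfl⟩ := hf i
    rw [blockHom_apply, h]
    rfl

include hf hinv in
/-- The order of a group preserving the fibration divides the order of the wreath product. -/
theorem card_dvd [Fintype β] [DecidableEq β] [Fintype ι] [DecidableEq ι] :
    Nat.card K ∣ (∏ i, (Fintype.card {a // f a = i}).factorial) * (Fintype.card ι).factorial := by
  have h1 := Subgroup.card_mul_index (blockHom hf hinv).ker
  rw [Subgroup.index_ker] at h1
  rw [← h1]
  apply Nat.mul_dvd_mul
  · rw [blockHom_ker, ← card_baseGroup]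
    have e : (baseGroup f).subgroupOf K = (baseGroup f ⊓ K).subgroupOf K := by
      ext x
      simp [Subgroup.mem_subgroupOf]
    rw [e, Nat.card_congr (Subgroup.subgroupOfEquivOfLe inf_le_right).toEquiv]
    exact Subgroup.card_dvd_of_le inf_le_left
  · have := Subgroup.card_subgroup_dvd_card (blockHom hf hinv).range
    rwa [Nat.card_eq_fintype_card (α := Perm ι), Fintype.card_perm] at this

end blockHom

/-- The product formula `(ab)! = (a!)^b b! ∏ C(ia - 1, a - 1)`. -/
theorem factorial_mul (a b : ℕ) (ha : 1 ≤ a) :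
    (a * b).factorial = a.factorial ^ b * b.factorial *
      ∏ i ∈ Finset.range b, Nat.choose ((i + 1) * a - 1) (a - 1) := by
  induction b with
  | zero => simp
  | succ b ih =>
    rw [Finset.prod_range_succ, pow_succ, Nat.factorial_succ]
    have h1 : a * (b + 1) = a * b + a := by ring
    have h2 : (a * b + a).choose a * (a.factorial * (a * b).factorial) = (a * b + a).factorial := by
      have := Nat.add_choose_mul_factorial_mul_factorial (a * b) a
      rw [← this, add_comm (a * b) a]
      rw [Nat.add_comm a (a * b)]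
      ring
    have h3 : (b + 1) * a * Nat.choose ((b + 1) * a - 1) (a - 1) = (a * b + a).choose a * a := by
      have := Nat.add_one_mul_choose_eq ((b + 1) * a - 1) (a - 1)
      have e1 : ((b + 1) * a - 1) + 1 = (b + 1) * a := by
        have : 1 ≤ (b + 1) * a := Nat.mul_pos (by omega) ha
        omega
      have e2 : (a - 1) + 1 = a := by omega
      rw [e1, e2] at this
      rw [this]
      congr 2
      ring
    have h4 : (b + 1) * Nat.choose ((b + 1) * a - 1) (a - 1) = (a * b + a).choose a := by
      have hpos : 0 < a := ha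
      apply Nat.eq_of_mul_eq_mul_right hpos
      rw [← h3]; ring
    rw [h1, ← h2, ih, ← h4]
    ring

/-- Each factor of the product divides `(ab)! / ((a!)^b b!)`. -/
theorem choose_dvd_of_card_dvd {a b N I : ℕ} (ha : 1 ≤ a) (hN : 0 < N)
    (h1 : N ∣ a.factorial ^ b * b.factorial) (h2 : N * I = (a * b).factorial) {i : ℕ}
    (hi : i < b) : Nat.choose ((i + 1) * a - 1) (a - 1) ∣ I := by
  obtain ⟨t, ht⟩ := h1
  rw [factorial_mul a b ha, ht, mul_assoc] at h2
  have h3 : I = t * ∏ i ∈ Finset.range b, Nat.choose ((i + 1) * a - 1) (a - 1) :=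
    Nat.eq_of_mul_eq_mul_left hN h2
  rw [h3]
  exact Dvd.dvd.mul_left (Finset.dvd_prod_of_mem _ (Finset.mem_range.2 hi)) t

end Cfsg.Agent.Lib.Helper39_HallSymFib
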