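import Mathlib
import Cfsg.Prelude.Def_HallClasses
import Cfsg.Agent.Lib.Helper39_HallBasic
import Cfsg.Agent.Lib.Helper39_HallSymFib

/-!
Hall subgroups of alternating groups: the closure lemma.  A `π`-subgroup `M` (with `2 ∈ π`) of a
symmetric group preserving a fibration with two fibres of size at least two, and whose index is not
divisible by `4`, lies in a `π`-subgroup containing an odd permutation.
-/

set_option autoImplicit false

namespace Cfsg.Agent.Lib.Helper32_HallAltCL

open Cfsg Equiv Equiv.Perm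
open Cfsg.Agent.Lib.Helper39_HallSymFib

section generic

variable {G : Type*} [Group G] {π : Set ℕ}

/-- order of a subgroup contained in another one -/
theorem card_eq_card_mul_relIndex [Finite G] {K L : Subgroup G} (h : K ≤ L) :
    Nat.card L = Nat.card K * K.relIndex L := by
  have h1 := Subgroup.card_mul_index (K.subgroupOf L)
  rw [Nat.card_congr (Subgroup.subgroupOfEquivOfLe h).toEquiv] at h1
  exact h1.symm

/-- The product of two `π`-subgroups one of which normalizes the other is a `π`-subgroup. -/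
theorem isPiSubgroup_sup [Finite G] {M D : Subgroup G}
    (hM : IsPiSubgroup π M) (hD : IsPiSubgroup π D)
    (hn : M ≤ Subgroup.normalizer (D : Set G)) : IsPiSubgroup π (M ⊔ D) := by
  have hdvd : Nat.card (M ⊔ D : Subgroup G) ∣ Nat.card D * Nat.card M := by
    set 𝒩 := Subgroup.normalizer (D : Set G) with h𝒩
    have hD𝒩 : D ≤ 𝒩 := Subgroup.le_normalizer
    have hsup : M ⊔ D ≤ 𝒩 := sup_le hn hD𝒩
    have hnorm : (D.subgroupOf 𝒩).Normal := Subgroup.normal_in_normalizer
    have h1 := Subgroup.relIndex_sup_right (M.subgroupOf 𝒩) (D.subgroupOf 𝒩)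
    rw [← Subgroup.subgroupOf_sup hn hD𝒩] at h1
    rw [Subgroup.relIndex_subgroupOf hsup, Subgroup.relIndex_subgroupOf hn] at h1
    rw [card_eq_card_mul_relIndex (le_sup_right : D ≤ M ⊔ D), h1]
    exact Nat.mul_dvd_mul_left _ (Subgroup.relIndex_dvd_card D M)
  intro p hp hd
  rcases (Nat.Prime.dvd_mul hp).1 (hd.trans hdvd) with h | h
  · exact hD p hp h
  · exact hM p hp h

/-- A subgroup is a `π`-subgroup iff it has no element of prime order outside `π`. -/
theorem isPiSubgroup_iff_forall_pow [Finite G] {K : Subgroup G} :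
    IsPiSubgroup π K ↔ ∀ q : ℕ, q.Prime → q ∉ π → ∀ g ∈ K, g ^ q = 1 → g = 1 := by
  constructor
  · intro hK q hq hqπ g hg hgq
    by_contra hne
    have hord : orderOf g = q := by
      have := orderOf_dvd_of_pow_eq_one hgq
      rcases (Nat.dvd_prime hq).1 this with h | h
      · exact absurd (orderOf_eq_one_iff.1 h) hne
      · exact h
    apply hqπ
    apply hK q hq
    have h1 : orderOf (⟨g, hg⟩ : K) = q := by
      rw [← hord]
      exact Subgroup.orderOf_mk g hg
    rw [← h1]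
    exact orderOf_dvd_natCard _
  · intro h p hp hd
    by_contra hpπ
    have : Fact p.Prime := ⟨hp⟩
    obtain ⟨g, hg⟩ := exists_prime_orderOf_dvd_card' p hd
    have h1 : (g : G) ^ p = 1 := by
      have : g ^ p = 1 := by rw [← hg]; exact pow_orderOf_eq_one g
      have := congrArg Subtype.val this
      simpa using this
    have h2 := h p hp hpπ g.1 g.2 h1
    have h3 : g = 1 := Subtype.ext h2
    rw [h3, orderOf_one] at hg
    exact hp.one_lt.ne hg

end generic

section closure

variable {β ι : Type*} (f : β → ι) (M : Subgroup (Perm β))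

/-- the projection of `M ⊓ baseGroup f` to the fibre over `i` -/
def proj (i : ι) : Subgroup (Perm {a // f a = i}) :=
  ((M ⊓ baseGroup f).subgroupOf (baseGroup f)).map (fiberHom f i)

theorem mem_proj {i : ι} {τ : Perm {a // f a = i}} :
    τ ∈ proj f M i ↔ ∃ ν ∈ M, ∃ hν : ν ∈ baseGroup f, fiberHom f i ⟨ν, hν⟩ = τ := by
  unfold proj
  rw [Subgroup.mem_map]
  constructor
  · rintro ⟨y, hy, rfl⟩
    rw [Subgroup.mem_subgroupOf] at hy
    exact ⟨y.1, hy.1, y.2, rfl⟩
  · rintro ⟨ν, hνM, hνB, rfl⟩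
    exact ⟨⟨ν, hνB⟩, by rw [Subgroup.mem_subgroupOf]; exact ⟨hνM, hνB⟩, rfl⟩

/-- the closure of `M`: all permutations preserving every fibre and inducing on each fibre an
element of the corresponding projection -/
def cl : Subgroup (Perm β) :=
  (⨅ i, (proj f M i).comap (fiberHom f i)).map (baseGroup f).subtype

theorem mem_cl {σ : Perm β} :
    σ ∈ cl f M ↔ ∃ hσ : σ ∈ baseGroup f, ∀ i, fiberHom f i ⟨σ, hσ⟩ ∈ proj f M i := by
  unfold cl
  rw [Subgroup.mem_map]
  constructor
  · rintro ⟨y, hy, rfl⟩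
    rw [Subgroup.mem_iInf] at hy
    exact ⟨y.2, fun i => by simpa using hy i⟩
  · rintro ⟨hσ, h⟩
    refine ⟨⟨σ, hσ⟩, ?_, rfl⟩
    rw [Subgroup.mem_iInf]
    intro i
    simpa using h i

theorem cl_le_baseGroup : cl f M ≤ baseGroup f := by
  intro σ hσ
  rw [mem_cl] at hσ
  exact hσ.1

theorem fiberHom_apply_coe {i : ι} (σ : baseGroup f) (a : {a // f a = i}) :
    ((fiberHom f i σ) a : β) = σ.1 a.1 := rfl

theorem inf_le_cl : M ⊓ baseGroup f ≤ cl f M := by
  intro σ hσ
  rw [mem_cl]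
  refine ⟨hσ.2, fun i => ?_⟩
  rw [mem_proj]
  exact ⟨σ, hσ.1, hσ.2, rfl⟩

theorem isPiSubgroup_proj [Finite β] {π : Set ℕ} (hM : IsPiSubgroup π M) (i : ι) :
    IsPiSubgroup π (proj f M i) := by
  intro p hp hd
  apply hM p hp
  refine hd.trans ((Subgroup.card_map_dvd _ _).trans ?_)
  rw [Nat.card_congr (Subgroup.subgroupOfEquivOfLe (inf_le_right : M ⊓ baseGroup f ≤ baseGroup f)).toEquiv]
  exact Subgroup.card_dvd_of_le inf_le_left

theorem isPiSubgroup_cl [Finite β] {π : Set ℕ} (hM : IsPiSubgroup π M) :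
    IsPiSubgroup π (cl f M) := by
  rw [isPiSubgroup_iff_forall_pow]
  intro q hq hqπ σ hσ hσq
  rw [mem_cl] at hσ
  obtain ⟨hσB, h⟩ := hσ
  have key : ∀ i, fiberHom f i ⟨σ, hσB⟩ = 1 := by
    intro i
    have hpi := isPiSubgroup_proj f M hM i
    rw [isPiSubgroup_iff_forall_pow] at hpi
    apply hpi q hq hqπ _ (h i)
    rw [← map_pow]
    have : (⟨σ, hσB⟩ : baseGroup f) ^ q = 1 := Subtype.ext (by simpa using hσq)
    rw [this, map_one]
  ext x
  have h2 := congrArg (fun τ : Perm {a // f a = f x} => (τ ⟨x, rfl⟩ : β)) (key (f x))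
  simpa [fiberHom_apply_coe] using h2

variable {f M}

theorem conj_mem_cl (hf : Function.Surjective f)
    (hinv : ∀ k ∈ M, ∀ x y, f x = f y → f (k x) = f (k y)) {m σ : Perm β} (hm : m ∈ M)
    (hσ : σ ∈ cl f M) : m * σ * m⁻¹ ∈ cl f M := by
  have hnB := le_normalizer hinv hm
  rw [Subgroup.mem_normalizer_iff] at hnB
  rw [mem_cl] at hσ ⊢
  obtain ⟨hσB, h⟩ := hσ
  refine ⟨(hnB σ).1 hσB, ?_⟩
  intro j
  obtain ⟨x₀, rfl⟩ := hf j
  obtain ⟨ν, hνM, hνB, hν⟩ := (mem_proj f M).1 (h (f (m⁻¹ x₀)))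
  rw [mem_proj]
  refine ⟨m * ν * m⁻¹, M.mul_mem (M.mul_mem hm hνM) (M.inv_mem hm), (hnB ν).1 hνB, ?_⟩
  ext a
  rw [fiberHom_apply_coe, fiberHom_apply_coe]
  show m (ν (m⁻¹ a.1)) = m (σ (m⁻¹ a.1))
  have hfa : f (m⁻¹ a.1) = f (m⁻¹ x₀) := hinv m⁻¹ (M.inv_mem hm) _ _ a.2
  have h3 := congrArg (fun τ : Perm {a // f a = f (m⁻¹ x₀)} => (τ ⟨m⁻¹ a.1, hfa⟩ : β)) hν
  simp only [fiberHom_apply_coe] at h3
  rw [h3]

theorem le_normalizer_cl (hf : Function.Surjective f)
    (hinv : ∀ k ∈ M, ∀ x y, f x = f y → f (k x) = f (k y)) :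
    M ≤ Subgroup.normalizer (cl f M : Set (Perm β)) := by
  intro m hm
  rw [Subgroup.mem_normalizer_iff]
  intro σ
  constructor
  · exact conj_mem_cl hf hinv hm
  · intro h
    have := conj_mem_cl hf hinv (M.inv_mem hm) h
    have e : m⁻¹ * (m * σ * m⁻¹) * m⁻¹⁻¹ = σ := by group
    rwa [e] at this

theorem ofSubtype_mem_baseGroup [DecidableEq ι] {i : ι} (τ : Perm {a // f a = i}) :
    ofSubtype τ ∈ baseGroup f := by
  intro x
  by_cases hx : f x = i
  · rw [ofSubtype_apply_of_mem τ hx, hx]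
    exact (τ ⟨x, hx⟩).2
  · rw [ofSubtype_apply_of_not_mem τ hx]

theorem fiberHom_ofSubtype_self [DecidableEq ι] {i : ι} (τ : Perm {a // f a = i}) :
    fiberHom f i ⟨ofSubtype τ, ofSubtype_mem_baseGroup τ⟩ = τ := by
  ext x
  rw [fiberHom_apply_coe]
  show ((ofSubtype τ) x : β) = τ x
  rw [ofSubtype_apply_coe]

theorem fiberHom_ofSubtype_of_ne [DecidableEq ι] {i j : ι} (hij : j ≠ i) (τ : Perm {a // f a = i}) :
    fiberHom f j ⟨ofSubtype τ, ofSubtype_mem_baseGroup τ⟩ = 1 := by
  ext x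
  rw [fiberHom_apply_coe]
  show (ofSubtype τ) (x : β) = x
  apply ofSubtype_apply_of_not_mem
  rw [x.2]
  exact hij

theorem ofSubtype_mem_cl [DecidableEq ι] {i : ι} {τ : Perm {a // f a = i}}
    (hτ : τ ∈ proj f M i) : ofSubtype τ ∈ cl f M := by
  rw [mem_cl]
  refine ⟨ofSubtype_mem_baseGroup τ, fun j => ?_⟩
  by_cases hj : j = i
  · subst hj
    rw [fiberHom_ofSubtype_self]
    exact hτ
  · rw [fiberHom_ofSubtype_of_ne hj]
    exact Subgroup.one_mem _

section counting

variable [Fintype β] [DecidableEq β] [DecidableEq ι]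

/-- the pair of signs on two fibres -/
noncomputable def signPair (f : β → ι) (i j : ι) : baseGroup f →* ℤˣ × ℤˣ :=
  (sign.comp (fiberHom f i)).prod (sign.comp (fiberHom f j))

theorem signPair_apply (i j : ι) (σ : baseGroup f) :
    signPair f i j σ = (sign (fiberHom f i σ), sign (fiberHom f j σ)) := rfl

theorem signPair_surjective {i j : ι} (hij : i ≠ j) (hi : 2 ≤ Fintype.card {a // f a = i})
    (hj : 2 ≤ Fintype.card {a // f a = j}) : Function.Surjective (signPair f i j) := by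
  obtain ⟨a, a', haa⟩ := Fintype.exists_pair_of_one_lt_card (show 1 < Fintype.card {a // f a = i} by omega)
  obtain ⟨b, b', hbb⟩ := Fintype.exists_pair_of_one_lt_card (show 1 < Fintype.card {a // f a = j} by omega)
  set ti : baseGroup f := ⟨ofSubtype (swap a a'), ofSubtype_mem_baseGroup _⟩ with hti
  set tj : baseGroup f := ⟨ofSubtype (swap b b'), ofSubtype_mem_baseGroup _⟩ with htj
  have h1 : signPair f i j ti = (-1, 1) := by
    rw [signPair_apply, hti, fiberHom_ofSubtype_self, fiberHom_ofSubtype_of_ne hij.symm,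
      sign_swap haa, Perm.sign_one]
  have h2 : signPair f i j tj = (1, -1) := by
    rw [signPair_apply, htj, fiberHom_ofSubtype_self, fiberHom_ofSubtype_of_ne hij,
      sign_swap hbb, Perm.sign_one]
  rintro ⟨u, v⟩
  rcases Int.units_eq_one_or u with rfl | rfl <;> rcases Int.units_eq_one_or v with rfl | rfl
  · exact ⟨1, map_one _⟩
  · exact ⟨tj, h2⟩
  · exact ⟨ti, h1⟩
  · refine ⟨ti * tj, ?_⟩
    rw [map_mul, h1, h2]
    rfl

theorem index_ker_signPair {i j : ι} (hij : i ≠ j) (hi : 2 ≤ Fintype.card {a // f a = i})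
    (hj : 2 ≤ Fintype.card {a // f a = j}) : (signPair f i j).ker.index = 4 := by
  rw [Subgroup.index_ker, MonoidHom.range_eq_top.2 (signPair_surjective hij hi hj),
    Subgroup.card_top, Nat.card_prod, Nat.card_eq_fintype_card, Fintype.card_units_int]

/-- If the projections to two different fibres of size at least two consist of even permutations,
then `4` divides the index of `M`. -/
theorem four_dvd_index (hinv : ∀ k ∈ M, ∀ x y, f x = f y → f (k x) = f (k y)) {i j : ι}
    (hij : i ≠ j) (hi : 2 ≤ Fintype.card {a // f a = i}) (hj : 2 ≤ Fintype.card {a // f a = j})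
    (hpi : proj f M i ≤ alternatingGroup {a // f a = i})
    (hpj : proj f M j ≤ alternatingGroup {a // f a = j}) : 4 ∣ M.index := by
  have hle : (M ⊓ baseGroup f).subgroupOf (baseGroup f) ≤ (signPair f i j).ker := by
    intro ν hν
    rw [MonoidHom.mem_ker, signPair_apply]
    have h1 : fiberHom f i ν ∈ proj f M i := Subgroup.mem_map_of_mem _ hν
    have h2 : fiberHom f j ν ∈ proj f M j := Subgroup.mem_map_of_mem _ hν
    have h1' := hpi h1
    have h2' := hpj h2
    rw [mem_alternatingGroup] at h1' h2'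
    rw [h1', h2']
    rfl
  have h1 := Subgroup.index_dvd_of_le hle
  rw [index_ker_signPair hij hi hj] at h1
  have h2 : ((M ⊓ baseGroup f).subgroupOf (baseGroup f)).index = M.relIndex (baseGroup f) := by
    show (M ⊓ baseGroup f).relIndex (baseGroup f) = _
    exact Subgroup.inf_relIndex_right M (baseGroup f)
  rw [h2] at h1
  exact h1.trans (Helper39_HallBasic.relIndex_dvd_index_of_le_normalizer (le_normalizer hinv))

/-- **Closure lemma.** -/
theorem exists_odd_ext {π : Set ℕ} (hM : IsPiSubgroup π M) (hf : Function.Surjective f)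
    (hinv : ∀ k ∈ M, ∀ x y, f x = f y → f (k x) = f (k y)) {i j : ι}
    (hij : i ≠ j) (hi : 2 ≤ Fintype.card {a // f a = i}) (hj : 2 ≤ Fintype.card {a // f a = j})
    (h4 : ¬ 4 ∣ M.index) :
    ∃ M₀ : Subgroup (Perm β), M ≤ M₀ ∧ IsPiSubgroup π M₀ ∧ ¬ M₀ ≤ alternatingGroup β := by
  have key : ∀ k : ι, ¬ proj f M k ≤ alternatingGroup {a // f a = k} →
      ∃ M₀ : Subgroup (Perm β), M ≤ M₀ ∧ IsPiSubgroup π M₀ ∧ ¬ M₀ ≤ alternatingGroup β := by
    intro k hk
    obtain ⟨τ, hτ, hτA⟩ := SetLike.not_le_iff_exists.1 hk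
    refine ⟨M ⊔ cl f M, le_sup_left,
      isPiSubgroup_sup hM (isPiSubgroup_cl f M hM) (le_normalizer_cl hf hinv), ?_⟩
    intro hle
    have h1 : ofSubtype τ ∈ alternatingGroup β := hle (le_sup_right (a := M) (ofSubtype_mem_cl hτ))
    rw [mem_alternatingGroup, sign_ofSubtype] at h1
    exact hτA (mem_alternatingGroup.2 h1)
  by_cases hpi : proj f M i ≤ alternatingGroup {a // f a = i}
  · by_cases hpj : proj f M j ≤ alternatingGroup {a // f a = j}
    · exact absurd (four_dvd_index hinv hij hi hj hpi hpj) h4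
    · exact key j hpj
  · exact key i hpi

end counting

end closure

end Cfsg.Agent.Lib.Helper32_HallAltCL
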