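import Mathlib

/-!
Transitive groups of prime degree `p` whose order involves only the primes `2` and `p`:
nontrivial `2`-subgroups fix at most one point, hence the order divides `p * (p - 1)`.
-/

set_option autoImplicit false

namespace Cfsg.Agent.Lib.Helper32_PrimeDegTI

open MulAction

variable {X β : Type*} [Group X] [Finite X] [MulAction X β] [Fintype β] [FaithfulSMul X β]
  [IsPretransitive X β] {p : ℕ}

omit [Finite X] [FaithfulSMul X β] in
theorem card_eq_mul_card_stabilizer (hβ : Fintype.card β = p) (x : β) :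
    Nat.card X = p * Nat.card (stabilizer X x) := by
  have h := Subgroup.card_mul_index (stabilizer X x)
  rw [index_stabilizer_of_transitive X x, Nat.card_eq_fintype_card (α := β), hβ] at h
  rw [← h, mul_comm]

omit [Finite X] [IsPretransitive X β] in
theorem card_dvd_factorial (hβ : Fintype.card β = p) : Nat.card X ∣ p.factorial := by
  classical
  have h := Subgroup.card_dvd_of_injective (MulAction.toPermHom X β) MulAction.toPerm_injective
  rwa [Nat.card_eq_fintype_card (α := Equiv.Perm β), Fintype.card_perm, hβ] at h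

omit [Finite X] in
theorem not_dvd_card_stabilizer (hp : p.Prime) (hβ : Fintype.card β = p) (x : β) :
    ¬ p ∣ Nat.card (stabilizer X x) := by
  intro hd
  have h1 := card_dvd_factorial (X := X) hβ
  rw [card_eq_mul_card_stabilizer hβ x] at h1
  obtain ⟨k, rfl⟩ : ∃ k, p = k + 1 := ⟨p - 1, by have := hp.pos; omega⟩
  rw [Nat.factorial_succ] at h1
  have h2 : Nat.card (stabilizer X x) ∣ k.factorial := Nat.dvd_of_mul_dvd_mul_left (by omega) h1
  have h3 := (Nat.Prime.dvd_factorial hp).1 (hd.trans h2)
  omega

theorem isPGroup_of_card_dvd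
    (hX : ∀ q : ℕ, q.Prime → q ∣ Nat.card X → q = 2 ∨ q = p) (K : Subgroup X)
    (hK : ¬ p ∣ Nat.card K) : IsPGroup 2 K := by
  have h0 : Nat.card K ≠ 0 := Nat.card_pos.ne'
  have h1 := Nat.eq_prime_pow_of_unique_prime_dvd (p := 2) h0 (by
    intro d hd hdK
    rcases hX d hd (hdK.trans (Subgroup.card_subgroup_dvd_card K)) with h | h
    · exact h
    · rw [h] at hdK
      exact absurd hdK hK)
  exact IsPGroup.of_card h1

theorem isPGroup_stabilizer (hp : p.Prime) (hβ : Fintype.card β = p)
    (hX : ∀ q : ℕ, q.Prime → q ∣ Nat.card X → q = 2 ∨ q = p) (x : β) :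
    IsPGroup 2 (stabilizer X x) :=
  isPGroup_of_card_dvd hX _ (not_dvd_card_stabilizer hp hβ x)

omit [Finite X] [Fintype β] [FaithfulSMul X β] [IsPretransitive X β] in
/-- conjugating by an element of the normalizer preserves the set of fixed points -/
theorem fixes_smul_of_mem_normalizer {D : Subgroup X} {h : X}
    (hh : h ∈ Subgroup.normalizer (D : Set X)) {x : β} (hx : ∀ d ∈ D, d • x = x) :
    ∀ d ∈ D, d • (h • x) = h • x := by
  intro d hd
  have h1 : h⁻¹ ∈ Subgroup.normalizer (D : Set X) := Subgroup.inv_mem _ hh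
  rw [Subgroup.mem_normalizer_iff] at h1
  have h2 := (h1 d).1 hd
  rw [inv_inv] at h2
  have h3 := hx _ h2
  calc d • (h • x) = h • ((h⁻¹ * d * h) • x) := by
        rw [← mul_smul, ← mul_smul]
        congr 1
        group
    _ = h • x := by rw [h3]

/-- the class of counterexamples -/
def Bad (X β : Type*) [Group X] [MulAction X β] : Type _ :=
  {D : Subgroup X // IsPGroup 2 D ∧ D ≠ ⊥ ∧
    ∃ x y : β, x ≠ y ∧ (∀ d ∈ D, d • x = x) ∧ (∀ d ∈ D, d • y = y)}

omit [Fintype β] [FaithfulSMul X β] [IsPretransitive X β] in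
theorem finite_bad : Finite (Bad X β) := by
  unfold Bad
  infer_instance

theorem false_of_max (hp : p.Prime) (hp2 : p ≠ 2) (hβ : Fintype.card β = p)
    (hX : ∀ q : ℕ, q.Prime → q ∣ Nat.card X → q = 2 ∨ q = p)
    (D : Bad X β) (hmax : ∀ E : Bad X β, Nat.card E.1 ≤ Nat.card D.1) : False := by
  obtain ⟨D₀, hD2, hD1, x, y, hxy, hx, hy⟩ := D
  simp only at hmax
  have : Fact p.Prime := ⟨hp⟩
  have : Fact (Nat.Prime 2) := ⟨Nat.prime_two⟩
  set N := Subgroup.normalizer (D₀ : Set X) with hN
  have hDN : D₀ ≤ N := Subgroup.le_normalizer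
  have hcardstab : ∀ w w' : β, Nat.card (stabilizer X w) = Nat.card (stabilizer X w') := by
    intro w w'
    have h1 := card_eq_mul_card_stabilizer (X := X) hβ w
    have h2 := card_eq_mul_card_stabilizer (X := X) hβ w'
    rw [h1] at h2
    exact Nat.eq_of_mul_eq_mul_left hp.pos h2
  have hpN : p ∣ Nat.card N := by
    by_contra hpN
    have hN2 : IsPGroup 2 N := isPGroup_of_card_dvd hX N hpN
    have h2β : ¬ 2 ∣ Nat.card β := by
      rw [Nat.card_eq_fintype_card, hβ]
      intro h
      exact hp2 ((Nat.prime_dvd_prime_iff_eq Nat.prime_two hp).1 h).symm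
    obtain ⟨z, hz⟩ := hN2.nonempty_fixed_point_of_prime_not_dvd_card β h2β
    rw [mem_fixedPoints] at hz
    have hNz : N ≤ stabilizer X z := fun n hn => hz ⟨n, hn⟩
    -- first: a proper inclusion in a stabilizer forces `z` to be that point
    have key : ∀ w : β, (∀ d ∈ D₀, d • w = w) → D₀ ≠ stabilizer X w → z = w := by
      intro w hw hne
      by_contra hzw
      have hle : D₀ ≤ stabilizer X w := fun d hd => hw d hd
      have hlt : D₀ < stabilizer X w := lt_of_le_of_ne hle hne
      -- normalizer condition inside the 2-group `stabilizer X w`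
      have hSw : IsPGroup 2 (stabilizer X w) := isPGroup_stabilizer hp hβ hX w
      have hnil : Group.IsNilpotent (stabilizer X w) := hSw.isNilpotent
      have hnc := Group.normalizerCondition_of_isNilpotent (G := stabilizer X w)
      have hlt' : D₀.subgroupOf (stabilizer X w) < ⊤ := by
        rw [lt_top_iff_ne_top, Ne, Subgroup.subgroupOf_eq_top]
        exact not_le_of_gt hlt
      have h3 := hnc _ hlt'
      rw [← Subgroup.subgroupOf_normalizer_eq hle] at h3
      obtain ⟨g, hgN, hgD⟩ := SetLike.exists_of_lt h3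
      rw [Subgroup.mem_subgroupOf] at hgN hgD
      -- the bigger bad subgroup
      let E : Subgroup X := N ⊓ stabilizer X w
      have hE2 : IsPGroup 2 E := hSw.to_le inf_le_right
      have hDE : D₀ ≤ E := le_inf hDN hle
      have hE1 : E ≠ ⊥ := by
        intro h
        apply hD1
        rw [eq_bot_iff, ← h]
        exact hDE
      have hEbad : IsPGroup 2 E ∧ E ≠ ⊥ ∧
          ∃ x y : β, x ≠ y ∧ (∀ d ∈ E, d • x = x) ∧ (∀ d ∈ E, d • y = y) :=
        ⟨hE2, hE1, z, w, hzw, fun d hd => hNz hd.1, fun d hd => hd.2⟩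
      have hcard := hmax ⟨E, hEbad⟩
      simp only at hcard
      have heq : D₀ = E := Subgroup.eq_of_le_of_card_ge hDE hcard
      apply hgD
      rw [heq]
      exact ⟨hgN, g.2⟩
    -- second: `D₀` is not a full stabilizer
    have key2 : ∀ w w' : β, w ≠ w' → (∀ d ∈ D₀, d • w' = w') → D₀ ≠ stabilizer X w := by
      intro w w' hww hw' heq
      obtain ⟨g, hg⟩ := exists_smul_eq X w w'
      have h2 : D₀ = stabilizer X w' := by
        apply Subgroup.eq_of_le_of_card_ge (fun d hd => hw' d hd)
        rw [heq, hcardstab w' w]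
      have hgN : g ∈ N := by
        have h3 := stabilizer_smul_eq_stabilizer_map_conj g w
        rw [hg, ← h2, ← heq] at h3
        rw [hN, Subgroup.mem_normalizer_iff]
        intro h
        constructor
        · intro hh
          rw [h3]
          exact ⟨h, hh, rfl⟩
        · intro hh
          rw [h3] at hh
          obtain ⟨h', hh', e⟩ := hh
          have : h' = h := by
            have e' : g * h' * g⁻¹ = g * h * g⁻¹ := e
            exact mul_left_cancel (mul_right_cancel e')
          rw [← this]
          exact hh'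
      have hND : N = D₀ := by
        symm
        apply Subgroup.eq_of_le_of_card_ge hDN
        calc Nat.card N ≤ Nat.card (stabilizer X z) := Subgroup.card_le_of_le hNz
          _ = Nat.card (stabilizer X w) := hcardstab z w
          _ = Nat.card D₀ := by rw [heq]
      rw [hND, heq] at hgN
      rw [mem_stabilizer_iff] at hgN
      exact hww (hgN.symm.trans hg)
    have h1 := key x hx (key2 x y hxy hy)
    have h2 := key y hy (key2 y x hxy.symm hx)
    exact hxy (h1.symm.trans h2)
  -- an element of order `p` normalizing `D₀`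
  obtain ⟨g, hg⟩ := exists_prime_orderOf_dvd_card' p hpN
  have hgo : orderOf (g : X) = p := by
    rw [← hg]
    exact (Subgroup.orderOf_coe g)
  have hgx : (g : X) • x ≠ x := by
    intro h
    have h1 : (g : X) ∈ stabilizer X x := h
    have h2 : orderOf (⟨(g : X), h1⟩ : stabilizer X x) = p := by
      rw [← hgo]
      exact Subgroup.orderOf_mk _ h1
    apply not_dvd_card_stabilizer (X := X) hp hβ x
    rw [← h2]
    exact orderOf_dvd_natCard _
  -- the orbit of `x` under the powers of `g` is everything
  set H := Subgroup.zpowers (g : X) with hH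
  have hHN : H ≤ N := by
    rw [hH, Subgroup.zpowers_le]
    exact g.2
  have hHcard : Nat.card H = p := by rw [hH, Nat.card_zpowers, hgo]
  have hstab : Nat.card (stabilizer H x) = 1 := by
    have h1 : Nat.card (stabilizer H x) ∣ p := by
      rw [← hHcard]
      exact Subgroup.card_subgroup_dvd_card _
    rcases (Nat.dvd_prime hp).1 h1 with h | h
    · exact h
    · exfalso
      have h2 : stabilizer H x = ⊤ := by
        apply Subgroup.eq_top_of_card_eq
        rw [h, hHcard]
      have h3 : (⟨(g : X), Subgroup.mem_zpowers _⟩ : H) ∈ stabilizer H x := by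
        rw [h2]; trivial
      exact hgx h3
  have horb : orbit H x = Set.univ := by
    classical
    rw [Set.eq_univ_iff_ncard]
    have h1 := Subgroup.card_mul_index (stabilizer H x)
    rw [hstab, one_mul, hHcard, index_stabilizer] at h1
    rw [Nat.card_eq_fintype_card, hβ, ← h1]
  -- `D₀` fixes everything
  have hall : ∀ b : β, ∀ d ∈ D₀, d • b = b := by
    intro b
    have hb : b ∈ orbit H x := by rw [horb]; trivial
    obtain ⟨h, rfl⟩ := hb
    exact fixes_smul_of_mem_normalizer (hHN h.2) hx
  apply hD1
  rw [eq_bot_iff]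
  intro d hd
  rw [Subgroup.mem_bot]
  apply eq_of_smul_eq_smul (α := β)
  intro b
  rw [one_smul]
  exact hall b d hd

/-- **Nontrivial `2`-subgroups fix at most one point.** -/
theorem fixed_unique (hp : p.Prime) (hp2 : p ≠ 2) (hβ : Fintype.card β = p)
    (hX : ∀ q : ℕ, q.Prime → q ∣ Nat.card X → q = 2 ∨ q = p)
    (D : Subgroup X) (hD : IsPGroup 2 D) (hD1 : D ≠ ⊥) (x y : β)
    (hx : ∀ d ∈ D, d • x = x) (hy : ∀ d ∈ D, d • y = y) : x = y := by
  by_contra hxy
  have hfin : Finite (Bad X β) := finite_bad
  have hne : Nonempty (Bad X β) := ⟨⟨D, hD, hD1, x, y, hxy, hx, hy⟩⟩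
  obtain ⟨D₀, hmax⟩ := Finite.exists_max (fun E : Bad X β => Nat.card E.1)
  exact false_of_max hp hp2 hβ hX D₀ hmax

/-- The order of a point stabilizer divides `p - 1`. -/
theorem card_stabilizer_dvd (hp : p.Prime) (hp2 : p ≠ 2) (hβ : Fintype.card β = p)
    (hX : ∀ q : ℕ, q.Prime → q ∣ Nat.card X → q = 2 ∨ q = p) (x : β) :
    Nat.card (stabilizer X x) ∣ p - 1 := by
  classical
  set S := stabilizer X x with hS
  have hS2 : IsPGroup 2 S := isPGroup_stabilizer hp hβ hX x
  have : Fintype S := Fintype.ofFinite S
  have hB := sum_card_fixedBy_eq_card_orbits_mul_card_group S β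
  have hfix : ∀ s : S, Fintype.card (fixedBy β s) = 1 + if s = 1 then (p - 1) else 0 := by
    intro s
    by_cases hs : s = 1
    · subst hs
      rw [if_pos rfl]
      have : Fintype.card (fixedBy β (1 : S)) = Fintype.card β := by
        apply Fintype.card_of_subtype Finset.univ
        intro b
        simp
      rw [this, hβ]
      have := hp.pos
      omega
    · rw [if_neg hs, add_zero]
      rw [Fintype.card_eq_one_iff]
      refine ⟨⟨x, ?_⟩, ?_⟩
      · rw [mem_fixedBy]
        exact s.2
      · rintro ⟨b, hb⟩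
        apply Subtype.ext
        show b = x
        rw [mem_fixedBy] at hb
        have hb' : (s : X) • b = b := hb
        have hx' : (s : X) • x = x := s.2
        have hle : Subgroup.zpowers (s : X) ≤ S := by
          rw [Subgroup.zpowers_le]; exact s.2
        apply fixed_unique hp hp2 hβ hX (Subgroup.zpowers (s : X)) (hS2.to_le hle)
        · intro h
          rw [Subgroup.zpowers_eq_bot] at h
          exact hs (Subtype.ext h)
        · intro d hd
          obtain ⟨k, rfl⟩ := Subgroup.mem_zpowers_iff.1 hd
          exact (stabilizer X b).zpow_mem hb' k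
        · intro d hd
          obtain ⟨k, rfl⟩ := Subgroup.mem_zpowers_iff.1 hd
          exact (stabilizer X x).zpow_mem hx' k
  simp only [hfix] at hB
  rw [Finset.sum_add_distrib, Finset.sum_ite_eq' Finset.univ (1 : S)] at hB
  simp only [Finset.sum_const, Finset.card_univ, smul_eq_mul, mul_one, Finset.mem_univ,
    if_true] at hB
  rw [← Nat.card_eq_fintype_card (α := S)] at hB
  have h1 : Nat.card S ∣ Nat.card S + (p - 1) := by
    rw [hB]
    exact Dvd.intro_left _ rfl
  exact (Nat.dvd_add_right (dvd_refl _)).1 h1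

/-- **The order divides `p (p - 1)`.** -/
theorem card_dvd (hp : p.Prime) (hp2 : p ≠ 2) (hβ : Fintype.card β = p)
    (hX : ∀ q : ℕ, q.Prime → q ∣ Nat.card X → q = 2 ∨ q = p) :
    Nat.card X ∣ p * (p - 1) := by
  have hne : Nonempty β := by
    rw [← Fintype.card_pos_iff, hβ]
    exact hp.pos
  obtain ⟨x⟩ := hne
  rw [card_eq_mul_card_stabilizer hβ x]
  exact Nat.mul_dvd_mul_left p (card_stabilizer_dvd hp hp2 hβ hX x)

end Cfsg.Agent.Lib.Helper32_PrimeDegTI
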