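import Mathlib
import Cfsg.Prelude.Def_HallClasses
import Cfsg.Agent.S3878
import Cfsg.Agent.S0713
import Cfsg.Agent.Lib.Helper39_HallBasic

/-!
Hall subgroups of symmetric groups: cycles of prime length, and the primitive case.
-/

set_option autoImplicit false

namespace Cfsg.Agent.Lib.Helper39_HallSymPrim

open Cfsg Equiv Equiv.Perm MulAction

variable {α : Type*} [Fintype α] [DecidableEq α] {π : Set ℕ}

/-- the order of the symmetric group -/
theorem card_perm' : Nat.card (Perm α) = (Fintype.card α).factorial := by
  rw [Nat.card_eq_fintype_card, Fintype.card_perm]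

/-- A prime of `π` dividing the order of the symmetric group divides the order of a Hall subgroup. -/
theorem dvd_card_of_le {H : Subgroup (Perm α)} (hH : IsPiHall π H) {p : ℕ} (hp : p.Prime)
    (hpπ : p ∈ π) (hpn : p ≤ Fintype.card α) : p ∣ Nat.card H := by
  apply Helper39_HallBasic.dvd_card_of_dvd_card hH hp hpπ
  rw [card_perm']
  exact (Nat.Prime.dvd_factorial hp).2 hpn

/-- A prime dividing the order of a subgroup of the symmetric group is at most the degree. -/
theorem le_of_dvd_card {H : Subgroup (Perm α)} {p : ℕ} (hp : p.Prime)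
    (hd : p ∣ Nat.card H) : p ≤ Fintype.card α := by
  have h1 : p ∣ Nat.card (Perm α) := hd.trans (Subgroup.card_subgroup_dvd_card H)
  rw [card_perm'] at h1
  exact (Nat.Prime.dvd_factorial hp).1 h1

/-- A Hall `π`-subgroup of a symmetric group contains a `p`-cycle for each prime `p ∈ π` up to the
degree. -/
theorem exists_cycle_mem {H : Subgroup (Perm α)} (hH : IsPiHall π H) {p : ℕ} (hp : p.Prime)
    (hpπ : p ∈ π) (hpn : p ≤ Fintype.card α) :
    ∃ g ∈ H, g.IsCycle ∧ g.support.card = p := by
  obtain ⟨g, hg⟩ : ∃ g : Perm α, g.cycleType = {p} := by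
    rw [Equiv.Perm.exists_with_cycleType_iff]
    refine ⟨by simpa using hpn, ?_⟩
    intro a ha
    rw [Multiset.mem_singleton] at ha
    rw [ha]
    exact hp.two_le
  have hgc : g.IsCycle := by
    rw [← card_cycleType_eq_one, hg, Multiset.card_singleton]
  have hgs : g.support.card = p := by
    rw [← sum_cycleType, hg, Multiset.sum_singleton]
  have hgo : orderOf g = p := by rw [hgc.orderOf, hgs]
  obtain ⟨x, hx⟩ := Cfsg.Agent.S3878.hall_exists_conj_mem hH hp hpπ g hgo
  refine ⟨_, hx, ?_, ?_⟩
  · have := hgc.conj (g := x⁻¹)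
    simpa using this
  · have := card_support_conj (σ := x⁻¹) (τ := g)
    rw [inv_inv] at this
    rw [this, hgs]

/-- A subgroup containing the alternating group (degree at least 4) has order divisible by all
primes up to the degree. -/
theorem dvd_card_of_alternatingGroup_le {K : Subgroup (Perm α)} (hK : alternatingGroup α ≤ K)
    (hn : 4 ≤ Fintype.card α) {p : ℕ} (hp : p.Prime) (hpn : p ≤ Fintype.card α) :
    p ∣ Nat.card K := by
  have : Nontrivial α := by
    rw [← Fintype.one_lt_card_iff_nontrivial]; omega
  have h1 : Nat.card (alternatingGroup α) ∣ Nat.card K := Subgroup.card_dvd_of_le hK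
  refine Dvd.dvd.trans ?_ h1
  have h2 : 2 * Nat.card (alternatingGroup α) = (Fintype.card α).factorial := by
    rw [Nat.card_eq_fintype_card (α := alternatingGroup α), two_mul_card_alternatingGroup,
      Fintype.card_perm]
  rcases Nat.lt_or_ge 2 p with h | h
  · have h3 : p ∣ 2 * Nat.card (alternatingGroup α) := by
      rw [h2]; exact (Nat.Prime.dvd_factorial hp).2 hpn
    rcases (Nat.Prime.dvd_mul hp).1 h3 with h4 | h4
    · have := Nat.le_of_dvd (by norm_num) h4
      omega
    · exact h4
  · have hp2 : p = 2 := le_antisymm h hp.two_le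
    subst hp2
    have h3 : 4 ∣ (Fintype.card α).factorial := by
      have : Nat.factorial 4 ∣ (Fintype.card α).factorial := Nat.factorial_dvd_factorial hn
      exact Dvd.dvd.trans (by decide) this
    rw [← h2] at h3
    omega

/-- A primitive subgroup of the symmetric group of degree at least `p + 2` containing a `p`-cycle
(`p` prime) has even order. -/
theorem even_of_cycle {K : Subgroup (Perm α)} (hprim : IsPreprimitive K α) {p : ℕ}
    (hp : p.Prime) (hpn : p + 2 ≤ Fintype.card α) {ρ : Perm α} (hρc : ρ.IsCycle)
    (hρs : ρ.support.card = p) (hρ : ρ ∈ K) : 2 ∣ Nat.card K := by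
  have hp2 : 2 ≤ p := hp.two_le
  have hjt := isPretransitive_of_isCycle_mem (G := K) hρc hρ
  have hncard : ((ρ.support : Set α)ᶜ).ncard = (Fintype.card α - p - 1) + 1 := by
    have h1 := Set.ncard_add_ncard_compl (ρ.support : Set α)
    rw [Set.ncard_coe_finset, hρs, Nat.card_eq_fintype_card] at h1
    omega
  have h2t : IsMultiplyPretransitive K α 2 := by
    apply hprim.is_two_pretransitive hncard _ hjt
    rw [Nat.card_eq_fintype_card]
    omega
  rw [is_two_pretransitive_iff] at h2t
  have : Nontrivial α := by
    rw [← Fintype.one_lt_card_iff_nontrivial]; omega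
  obtain ⟨a, b, hab⟩ := exists_pair_ne α
  obtain ⟨g, hg0, hg1⟩ := h2t hab hab.symm
  have hgo : 2 ∣ orderOf g := by
    by_contra hodd
    have hodd' : orderOf g % 2 = 1 := by omega
    have hg2 : g ^ 2 ∈ stabilizer K a := by
      rw [mem_stabilizer_iff, pow_two, mul_smul, hg0, hg1]
    have hgk : g ^ (orderOf g + 1) ∈ stabilizer K a := by
      have : orderOf g + 1 = 2 * ((orderOf g + 1) / 2) := by omega
      rw [this, pow_mul]
      exact Subgroup.pow_mem _ hg2 _
    rw [pow_succ, pow_orderOf_eq_one, one_mul, mem_stabilizer_iff, hg0] at hgk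
    exact hab hgk.symm
  exact hgo.trans (orderOf_dvd_natCard g)

/-- **Primitive case.** A primitive Hall `π`-subgroup of a symmetric group of degree `m`,
with two different primes of `π` up to `m`, has order divisible by all primes up to `m`. -/
theorem prim_case {K : Subgroup (Perm α)} (hK : IsPiHall π K) (hprim : IsPreprimitive K α)
    {r s : ℕ} (hr : r.Prime) (hs : s.Prime) (hrs : r < s) (hrπ : r ∈ π) (hsπ : s ∈ π)
    (hsn : s ≤ Fintype.card α) :
    ∀ p : ℕ, p.Prime → p ≤ Fintype.card α → p ∈ π := by
  have hr2 := hr.two_le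
  -- first the case of small degree
  rcases Nat.lt_or_ge (Fintype.card α) 5 with hm | hm
  · intro p hp hpm
    have hp2 := hp.two_le
    have hs4 : s ≠ 4 := by
      intro h; rw [h] at hs; exact absurd hs (by decide)
    have hs3 : s = 3 := by omega
    have hr2' : r = 2 := by omega
    have hp4 : p ≠ 4 := by
      intro h; rw [h] at hp; exact absurd hp (by decide)
    rcases (by omega : p = 2 ∨ p = 3) with h | h
    · rw [h, ← hr2']; exact hrπ
    · rw [h, ← hs3]; exact hsπ
  -- a useful consequence of containing the alternating group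
  have key : alternatingGroup α ≤ K → ∀ p : ℕ, p.Prime → p ≤ Fintype.card α → p ∈ π := by
    intro hA p hp hpm
    exact hK.1 p hp (dvd_card_of_alternatingGroup_le hA (by omega) hp hpm)
  have key2 : ∀ q : ℕ, q.Prime → q ∈ π → q + 3 ≤ Fintype.card α → alternatingGroup α ≤ K := by
    intro q hq hqπ hq3
    obtain ⟨g, hgK, hgc, hgs⟩ := exists_cycle_mem hK hq hqπ (by omega)
    exact Cfsg.Agent.S0713.result K hprim hq hm hq3 hgc hgs hgK
  rcases Nat.lt_or_ge (Fintype.card α) (r + 3) with h3 | h3
  · -- `r + 2 ≤ m`
    obtain ⟨g, hgK, hgc, hgs⟩ := exists_cycle_mem hK hr hrπ (by omega)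
    have hr_odd : r ≠ 2 := by
      intro h
      omega
    have hs_odd : s % 2 = 1 := by
      rcases hs.eq_two_or_odd with h | h
      · omega
      · exact h
    have hr_odd' : r % 2 = 1 := by
      rcases hr.eq_two_or_odd with h | h
      · omega
      · exact h
    have hev : 2 ∣ Nat.card K := even_of_cycle hprim hr (by omega) hgc hgs hgK
    have h2π : 2 ∈ π := hK.1 2 Nat.prime_two hev
    exact key (key2 2 Nat.prime_two h2π (by omega))
  · exact key (key2 r hr hrπ h3)

end Cfsg.Agent.Lib.Helper39_HallSymPrim
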