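import Mathlib
import Cfsg.Prelude.Def_HallClasses
import Cfsg.Agent.Lib.Helper39_HallBasic
import Cfsg.Agent.Lib.Helper39_HallSymPrim
import Cfsg.Agent.Lib.Helper39_HallSymFib

/-!
Hall subgroups of symmetric groups: the transitive imprimitive case.
-/

set_option autoImplicit false

namespace Cfsg.Agent.Lib.Helper39_HallSymImprim

open Cfsg Equiv Equiv.Perm MulAction
open scoped Pointwise
open Cfsg.Agent.Lib.Helper39_HallSymFib

universe u

variable {β : Type u} [Fintype β] [DecidableEq β] {π : Set ℕ}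

/-- A transitive imprimitive group preserves a nontrivial fibration. -/
theorem exists_fibration {K : Subgroup (Perm β)} (htr : IsPretransitive K β)
    (hnp : ¬ IsPreprimitive K β) :
    ∃ (ι : Type u) (_ : Fintype ι) (_ : DecidableEq ι) (f : β → ι), Function.Surjective f ∧
      (∀ k ∈ K, ∀ x y, f x = f y → f (k x) = f (k y)) ∧
      (∃ x y, x ≠ y ∧ f x = f y) ∧ (∃ x y, f x ≠ f y) := by
  classical
  obtain ⟨B, hB, hBnt⟩ : ∃ B : Set β, IsBlock K B ∧ ¬ IsTrivialBlock B := by
    by_contra hcon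
    push Not at hcon
    exact hnp { toIsPretransitive := htr, isTrivialBlock_of_isBlock := fun {B} hB => hcon B hB }
  unfold IsTrivialBlock at hBnt
  rw [not_or, Set.not_subsingleton_iff] at hBnt
  obtain ⟨⟨x₀, hx₀, y₀, hy₀, hxy⟩, hBu⟩ := hBnt
  obtain ⟨z, hz⟩ := (Set.ne_univ_iff_exists_notMem B).1 hBu
  let F : β → Set (Perm β) := fun x => {k | k ∈ K ∧ k x ∈ B}
  have hFmem : ∀ x k, k ∈ F x ↔ k ∈ K ∧ k x ∈ B := fun x k => Iff.rfl
  have hblock : ∀ x ∈ B, ∀ y ∈ B, F x = F y := by
    have key : ∀ x ∈ B, ∀ y ∈ B, ∀ k, k ∈ F x → k ∈ F y := by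
      intro x hx y hy k hk
      rw [hFmem] at hk ⊢
      refine ⟨hk.1, ?_⟩
      have h1 : (⟨k, hk.1⟩ : K) • B = B := hB.smul_eq_of_mem (g := ⟨k, hk.1⟩) hx hk.2
      have h2 : (⟨k, hk.1⟩ : K) • y ∈ (⟨k, hk.1⟩ : K) • B := Set.smul_mem_smul_set hy
      rw [h1] at h2
      exact h2
    intro x hx y hy
    ext k
    exact ⟨key x hx y hy k, key y hy x hx k⟩
  have hFinv : ∀ k ∈ K, ∀ x y, F x = F y → F (k x) = F (k y) := by
    intro k hk x y hxy
    ext h
    rw [hFmem, hFmem]
    constructor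
    · rintro ⟨h1, h2⟩
      refine ⟨h1, ?_⟩
      have : h * k ∈ F x := ⟨K.mul_mem h1 hk, h2⟩
      rw [hxy] at this
      exact this.2
    · rintro ⟨h1, h2⟩
      refine ⟨h1, ?_⟩
      have : h * k ∈ F y := ⟨K.mul_mem h1 hk, h2⟩
      rw [← hxy] at this
      exact this.2
  have hfeq : ∀ x y, Set.rangeFactorization F x = Set.rangeFactorization F y ↔ F x = F y := by
    intro x y
    rw [Subtype.ext_iff]
    rfl
  refine ⟨Set.range F, Fintype.ofFinite _, inferInstance, Set.rangeFactorization F,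
    Set.rangeFactorization_surjective, ?_, ⟨x₀, y₀, hxy, ?_⟩, ⟨x₀, z, ?_⟩⟩
  · intro k hk x y h
    rw [hfeq] at h ⊢
    exact hFinv k hk x y h
  · rw [hfeq]
    exact hblock x₀ hx₀ y₀ hy₀
  · rw [Ne, hfeq]
    intro h
    have h1 : (1 : Perm β) ∈ F x₀ := ⟨K.one_mem, hx₀⟩
    rw [h] at h1
    exact hz h1.2

section fib

variable {ι : Type u} [Fintype ι] [DecidableEq ι] {f : β → ι} {K : Subgroup (Perm β)}

/-- All fibres of a fibration preserved by a transitive group have the same size. -/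
theorem card_fiber_eq (htr : IsPretransitive K β)
    (hinv : ∀ k ∈ K, ∀ x y, f x = f y → f (k x) = f (k y)) (x x' : β) :
    Fintype.card {a // f a = f x} = Fintype.card {a // f a = f x'} := by
  have key : ∀ x x' : β, Fintype.card {a // f a = f x} ≤ Fintype.card {a // f a = f x'} := by
    intro x x'
    obtain ⟨k, hk⟩ := htr.exists_smul_eq x x'
    have hk' : k.1 x = x' := hk
    apply Fintype.card_le_of_injective
      (fun y : {a // f a = f x} => (⟨k.1 y.1, by
        rw [← hk']; exact hinv k.1 k.2 _ _ y.2⟩ : {a // f a = f x'}))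
    intro y y' h
    have := congrArg Subtype.val h
    simp only at this
    exact Subtype.ext (k.1.injective this)
  exact le_antisymm (key x x') (key x' x)

/-- The degree is the product of the fibre size and the number of fibres. -/
theorem card_eq_mul (a : ℕ) (ha : ∀ i : ι, Fintype.card {x // f x = i} = a) :
    Fintype.card β = a * Fintype.card ι := by
  rw [← Fintype.card_congr (Equiv.sigmaFiberEquiv f), Fintype.card_sigma]
  simp only [ha]
  rw [Finset.sum_const, Finset.card_univ, smul_eq_mul, mul_comm]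

/-- A cycle of prime length in a group preserving a fibration with nontrivial fibres has its
support in a single fibre. -/
theorem cycle_in_fiber (hinv : ∀ k ∈ K, ∀ x y, f x = f y → f (k x) = f (k y))
    (hfib : ∀ x, ∃ y, y ≠ x ∧ f y = f x) {g : Perm β} (hg : g ∈ K) (hgc : g.IsCycle)
    {s : ℕ} (hs : s.Prime) (hgs : g.support.card = s) :
    ∀ x ∈ g.support, ∀ y ∈ g.support, f y = f x := by
  have hord : orderOf g = s := by rw [hgc.orderOf, hgs]
  -- powers preserve fibres
  have hpow : ∀ (σ : Perm β), σ ∈ K → ∀ x, f (σ x) = f x → ∀ t : ℕ, f ((σ ^ t) x) = f x := by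
    intro σ hσ x hx t
    induction t with
    | zero => simp
    | succ t ih =>
      rw [pow_succ, Perm.mul_apply]
      have := hinv (σ ^ t) (K.pow_mem hσ t) _ _ hx
      rw [this, ih]
  have step1 : ∀ x ∈ g.support, f (g x) = f x := by
    intro x hx
    rw [mem_support] at hx
    by_contra hne
    obtain ⟨y, hyx, hfy⟩ := hfib x
    have hy : g y ≠ y := by
      intro hgy
      apply hne
      have := hinv g hg _ _ hfy
      rw [hgy] at this
      rw [← this, hfy]
    obtain ⟨i, hi⟩ := hgc.exists_pow_eq hx hy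
    have hcop : Nat.Coprime i (orderOf g) := by
      rw [hord, Nat.coprime_comm, Nat.Prime.coprime_iff_not_dvd hs]
      intro hd
      apply hyx
      rw [← hi]
      obtain ⟨c, rfl⟩ := hd
      rw [← hord, pow_mul, pow_orderOf_eq_one, one_pow]
      rfl
    obtain ⟨j, hj⟩ := exists_pow_eq_self_of_coprime hcop
    have h1 : f ((g ^ i) x) = f x := by rw [hi, hfy]
    have h2 := hpow (g ^ i) (K.pow_mem hg i) x h1 j
    rw [hj] at h2
    exact hne h2
  have step2 : ∀ z, f (g z) = f z := by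
    intro z
    by_cases hz : z ∈ g.support
    · exact step1 z hz
    · rw [notMem_support] at hz
      rw [hz]
  intro x hx y hy
  rw [mem_support] at hx hy
  obtain ⟨i, hi⟩ := hgc.exists_pow_eq hx hy
  rw [← hi]
  exact hpow g hg x (step2 x) i

end fib

/-- **Imprimitive case.** -/
theorem imprim_case {K : Subgroup (Perm β)} (hK : IsPiHall π K) (htr : IsPretransitive K β)
    (hnp : ¬ IsPreprimitive K β) :
    ∃ a b : ℕ, 2 ≤ a ∧ 2 ≤ b ∧ Fintype.card β = a * b ∧
      (∀ s : ℕ, s.Prime → s ∈ π → s ≤ Fintype.card β → s ≤ a) ∧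
      (∃ (γ : Type u) (_ : Finite γ) (K₁ : Subgroup (Perm γ)), Nat.card γ = a ∧ IsPiHall π K₁) ∧
      (∀ p : ℕ, p.Prime → p ∈ π → ∀ i : ℕ, i < b →
        ¬ p ∣ Nat.choose ((i + 1) * a - 1) (a - 1)) := by
  classical
  obtain ⟨ι, _, _, f, hf, hinv, ⟨x₀, y₀, hxy, hfxy⟩, ⟨x₁, z₁, hxz⟩⟩ := exists_fibration htr hnp
  set a := Fintype.card {x // f x = f x₀} with ha_def
  have ha : ∀ i : ι, Fintype.card {x // f x = i} = a := by
    intro i
    obtain ⟨x, rfl⟩ := hf i
    exact card_fiber_eq htr hinv x x₀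
  have hm := card_eq_mul a ha
  have ha2 : 2 ≤ a := by
    rw [ha_def]
    have : 1 < Fintype.card {x // f x = f x₀} := by
      rw [Fintype.one_lt_card_iff]
      exact ⟨⟨x₀, rfl⟩, ⟨y₀, hfxy.symm⟩, fun h => hxy (congrArg Subtype.val h)⟩
    omega
  have hb2 : 2 ≤ Fintype.card ι := by
    have : 1 < Fintype.card ι := by
      rw [Fintype.one_lt_card_iff]
      exact ⟨f x₁, f z₁, hxz⟩
    omega
  have hfib : ∀ x, ∃ y, y ≠ x ∧ f y = f x := by
    intro x
    have h1 : 1 < Fintype.card {y // f y = f x} := by rw [ha]; omega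
    obtain ⟨y, hy⟩ := Fintype.exists_ne_of_one_lt_card h1 ⟨x, rfl⟩
    exact ⟨y.1, fun h => hy (Subtype.ext h), y.2⟩
  refine ⟨a, Fintype.card ι, ha2, hb2, hm, ?_, ?_, ?_⟩
  · intro s hs hsπ hsm
    obtain ⟨g, hgK, hgc, hgs⟩ := Helper39_HallSymPrim.exists_cycle_mem hK hs hsπ hsm
    have hne : g.support.Nonempty := by
      rw [← Finset.card_pos, hgs]; exact hs.pos
    obtain ⟨x, hx⟩ := hne
    have hin := cycle_in_fiber hinv hfib hgK hgc hs hgs x hx
    rw [← hgs, ← ha (f x), Fintype.card_subtype]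
    apply Finset.card_le_card
    intro y hy
    rw [Finset.mem_filter]
    exact ⟨Finset.mem_univ _, hin y hy⟩
  · refine ⟨{x // f x = f x₀}, inferInstance,
      (K.subgroupOf (baseGroup f)).map (fiberHom f (f x₀)), ?_, ?_⟩
    · rw [Nat.card_eq_fintype_card]
    · apply Helper39_HallBasic.isPiHall_map _ _ (fiberHom_surjective f (f x₀))
      exact Helper39_HallBasic.isPiHall_subgroupOf_of_le_normalizer hK (le_normalizer hinv)
  · intro p hp hpπ i hi hd
    apply hK.2 p hp hpπ
    refine hd.trans ?_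
    have h1 := card_dvd hf hinv
    simp only [ha] at h1
    rw [Finset.prod_const, Finset.card_univ] at h1
    have h2 := Subgroup.card_mul_index K
    rw [Helper39_HallSymPrim.card_perm', hm] at h2
    exact choose_dvd_of_card_dvd (by omega) Nat.card_pos h1 h2 hi

end Cfsg.Agent.Lib.Helper39_HallSymImprim
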