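import Mathlib
import Cfsg.Prelude.Def_HallClasses
import Cfsg.Agent.S3878
import Cfsg.Agent.S0713
import Cfsg.Agent.Lib.Helper39_HallBasic
import Cfsg.Agent.Lib.Helper39_HallSymPrim
import Cfsg.Agent.Lib.Helper39_HallSymImprim
import Cfsg.Agent.Lib.Helper32_HallAltCL
import Cfsg.Agent.Lib.Helper32_PrimeDegTI

/-!
Hall subgroups of alternating groups: a Hall `π`-subgroup of `A_n` with `2 ∈ π` is the
intersection of `A_n` with a Hall `π`-subgroup of `S_n`.
-/

set_option autoImplicit false

namespace Cfsg.Agent.Lib.Helper32_HallAlt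

open Cfsg Equiv Equiv.Perm MulAction
open Cfsg.Agent.Lib.Helper39_HallSymPrim (card_perm' le_of_dvd_card)
open Cfsg.Agent.Lib.Helper32_HallAltCL (card_eq_card_mul_relIndex)

universe u

variable {α : Type u} [Fintype α] [DecidableEq α] {π : Set ℕ}

/-- Numerical form of "`M` is a Hall `π`-subgroup of the alternating group". -/
def AHall (π : Set ℕ) (M : Subgroup (Perm α)) : Prop :=
  M ≤ alternatingGroup α ∧ IsPiSubgroup π M ∧
    ∀ p : ℕ, p.Prime → p ∈ π → ¬ 2 * p * Nat.card M ∣ (Fintype.card α).factorial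

theorem card_mul_index' (M : Subgroup (Perm α)) :
    Nat.card M * M.index = (Fintype.card α).factorial := by
  rw [Subgroup.card_mul_index, card_perm']

omit [DecidableEq α] in
theorem nontrivial_of_two_le (hα : 2 ≤ Fintype.card α) : Nontrivial α := by
  rw [← Fintype.one_lt_card_iff_nontrivial]; omega

theorem two_mul_card_alt (hα : 2 ≤ Fintype.card α) :
    2 * Nat.card (alternatingGroup α) = (Fintype.card α).factorial := by
  have := nontrivial_of_two_le hα
  rw [Nat.card_eq_fintype_card (α := alternatingGroup α), two_mul_card_alternatingGroup,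
    Fintype.card_perm]

theorem two_dvd_index (hα : 2 ≤ Fintype.card α) {M : Subgroup (Perm α)}
    (hM : M ≤ alternatingGroup α) : 2 ∣ M.index := by
  have := nontrivial_of_two_le hα
  have h := Subgroup.index_dvd_of_le hM
  rwa [alternatingGroup.index_eq_two] at h

theorem not_four_dvd_index (h2 : 2 ∈ π) {M : Subgroup (Perm α)} (hM : AHall π M) :
    ¬ 4 ∣ M.index := by
  intro h
  apply hM.2.2 2 Nat.prime_two h2
  rw [← card_mul_index' M]
  obtain ⟨t, ht⟩ := h
  rw [ht]
  exact ⟨t, by ring⟩

theorem not_dvd_relIndex (hα : 2 ≤ Fintype.card α) {M : Subgroup (Perm α)} (hM : AHall π M)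
    {p : ℕ} (hp : p.Prime) (hpπ : p ∈ π) : ¬ p ∣ M.relIndex (alternatingGroup α) := by
  intro h
  apply hM.2.2 p hp hpπ
  rw [← two_mul_card_alt hα, card_eq_card_mul_relIndex hM.1]
  obtain ⟨t, ht⟩ := h
  rw [ht]
  exact ⟨t, by ring⟩

theorem dvd_card_of_odd (hα : 2 ≤ Fintype.card α) {M : Subgroup (Perm α)} (hM : AHall π M)
    {p : ℕ} (hp : p.Prime) (hp2 : p ≠ 2) (hpπ : p ∈ π) (hpn : p ≤ Fintype.card α) :
    p ∣ Nat.card M := by
  by_contra hnd
  have h1 : p ∣ Nat.card M * M.index := by
    rw [card_mul_index']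
    exact (Nat.Prime.dvd_factorial hp).2 hpn
  have h2 : p ∣ M.index := by
    rcases (Nat.Prime.dvd_mul hp).1 h1 with h | h
    · exact absurd h hnd
    · exact h
  have h3 : 2 * p ∣ M.index := by
    apply Nat.Coprime.mul_dvd_of_dvd_of_dvd _ (two_dvd_index hα hM.1) h2
    rw [Nat.coprime_primes Nat.prime_two hp]
    exact fun h => hp2 h.symm
  apply hM.2.2 p hp hpπ
  rw [← card_mul_index' M]
  obtain ⟨t, ht⟩ := h3
  rw [ht]
  exact ⟨t, by ring⟩

/-- A Hall subgroup of the alternating group contains a `p`-cycle for each odd prime `p ∈ π` up to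
the degree. -/
theorem exists_cycle_mem_of_AHall (hα : 2 ≤ Fintype.card α) {M : Subgroup (Perm α)}
    (hM : AHall π M) {p : ℕ} (hp : p.Prime) (hp2 : p ≠ 2) (hpπ : p ∈ π)
    (hpn : p ≤ Fintype.card α) : ∃ g ∈ M, g.IsCycle ∧ g.support.card = p := by
  have : Fact p.Prime := ⟨hp⟩
  obtain ⟨g, hg⟩ : ∃ g : Perm α, g.cycleType = {p} := by
    rw [Equiv.Perm.exists_with_cycleType_iff]
    refine ⟨by simpa using hpn, ?_⟩
    intro a ha
    rw [Multiset.mem_singleton] at ha
    rw [ha]
    exact hp.two_le
  have hgc : g.IsCycle := by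
    rw [← card_cycleType_eq_one, hg, Multiset.card_singleton]
  have hgs : g.support.card = p := by
    rw [← sum_cycleType, hg, Multiset.sum_singleton]
  have hgo : orderOf g = p := by rw [hgc.orderOf, hgs]
  have hodd : Odd p := hp.odd_of_ne_two hp2
  have hgA : g ∈ alternatingGroup α := by
    rw [mem_alternatingGroup, hgc.sign, hgs, hodd.neg_one_pow]
    simp
  have hidx : ¬ p ∣ (M.subgroupOf (alternatingGroup α)).index := not_dvd_relIndex hα hM hp hpπ
  have hpg : IsPGroup p (Subgroup.zpowers (⟨g, hgA⟩ : alternatingGroup α)) := by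
    apply IsPGroup.of_card (n := 1)
    rw [Nat.card_zpowers, Subgroup.orderOf_mk, hgo, pow_one]
  obtain ⟨x, hx⟩ := Cfsg.Agent.S3878.exists_conj_mem_of_not_dvd_index _ hidx ⟨g, hgA⟩ hpg
  rw [Subgroup.mem_subgroupOf] at hx
  refine ⟨_, hx, ?_, ?_⟩
  · have := hgc.conj (g := (x : Perm α)⁻¹)
    simpa using this
  · have := card_support_conj (σ := (x : Perm α)⁻¹) (τ := g)
    rw [inv_inv] at this
    simpa [this] using hgs

/-- The alternating group of degree 5 has no subgroup of order 20. -/
theorem no_card_twenty (hα : Fintype.card α = 5) {M : Subgroup (Perm α)}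
    (hM : M ≤ alternatingGroup α) (hc : Nat.card M = 20) : False := by
  have hs : IsSimpleGroup (alternatingGroup α) :=
    alternatingGroup.isSimpleGroup (by rw [Nat.card_eq_fintype_card, hα])
  set M' := M.subgroupOf (alternatingGroup α) with hM'
  have hcA : Nat.card (alternatingGroup α) = 60 := by
    have h2 := two_mul_card_alt (α := α) (by omega)
    rw [hα] at h2
    have : Nat.factorial 5 = 120 := by decide
    omega
  have hidx : M'.index = 3 := by
    have h1 := card_eq_card_mul_relIndex hM
    rw [hcA, hc] at h1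
    show M.relIndex (alternatingGroup α) = 3
    omega
  let φ := MulAction.toPermHom (alternatingGroup α) (alternatingGroup α ⧸ M')
  have hker : φ.ker = M'.normalCore := (Subgroup.normalCore_eq_ker M').symm
  rcases hs.eq_bot_or_eq_top_of_normal φ.ker inferInstance with h | h
  · have hinj : Function.Injective φ := (MonoidHom.ker_eq_bot_iff φ).1 h
    have h3 := Subgroup.card_dvd_of_injective φ hinj
    rw [Nat.card_perm, ← Subgroup.index_eq_card, hidx, hcA] at h3
    revert h3
    decide
  · rw [hker] at h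
    have h4 : M' = ⊤ := by
      rw [eq_top_iff, ← h]
      exact Subgroup.normalCore_le M'
    rw [h4, Subgroup.index_top] at hidx
    omega

theorem four_dvd_factorial {k : ℕ} (hk : 4 ≤ k) : 4 ∣ k.factorial := by
  have : Nat.factorial 4 ∣ k.factorial := Nat.factorial_dvd_factorial hk
  exact Dvd.dvd.trans (by decide) this

theorem four_mul_dvd_factorial {p m : ℕ} (hp7 : 7 ≤ p) (h : m ∣ p * (p - 1)) :
    2 * 2 * m ∣ p.factorial := by
  obtain ⟨k, rfl⟩ : ∃ k, p = k + 2 := ⟨p - 2, by omega⟩
  rw [Nat.factorial_succ, Nat.factorial_succ]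
  have e : k + 1 + 1 - 1 = k + 1 := by omega
  rw [e] at h
  have h4 : 4 ∣ k.factorial := four_dvd_factorial (by omega)
  have : 2 * 2 * m = m * 4 := by ring
  rw [this, ← mul_assoc]
  exact Nat.mul_dvd_mul h h4

theorem four_mul_dvd_factorial_succ {p m : ℕ} (hp7 : 7 ≤ p) (h : m ∣ (p + 1) * (p * (p - 1))) :
    2 * 2 * m ∣ (p + 1).factorial := by
  obtain ⟨k, rfl⟩ : ∃ k, p = k + 2 := ⟨p - 2, by omega⟩
  rw [Nat.factorial_succ, Nat.factorial_succ, Nat.factorial_succ]
  have e : k + 1 + 1 - 1 = k + 1 := by omega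
  rw [e] at h
  have h4 : 4 ∣ k.factorial := four_dvd_factorial (by omega)
  have : 2 * 2 * m = m * 4 := by ring
  rw [this]
  have e2 : (k + 2 + 1) * ((k + 1 + 1) * ((k + 1) * k.factorial)) =
      ((k + 2 + 1) * ((k + 2) * (k + 1))) * k.factorial := by ring
  rw [e2]
  exact Nat.mul_dvd_mul h h4

/-- **Primitive case, contradiction part.** -/
theorem prim_false (h2 : 2 ∈ π) {M : Subgroup (Perm α)} (hM : AHall π M)
    (hprim : IsPreprimitive M α) {p : ℕ} (hp : p.Prime) (hp5 : 5 ≤ p) (hpπ : p ∈ π)
    (hpn : p ≤ Fintype.card α) (hn : Fintype.card α ≤ p + 2)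
    (hmin : ∀ q : ℕ, q.Prime → q ≠ 2 → q ∈ π → q ≤ Fintype.card α → p ≤ q) : False := by
  have hα : 2 ≤ Fintype.card α := by omega
  have hp2 : p ≠ 2 := by omega
  obtain ⟨c, hcM, hcc, hcs⟩ := exists_cycle_mem_of_AHall hα hM hp hp2 hpπ hpn
  have hodd : p % 2 = 1 := by
    rcases hp.eq_two_or_odd with h | h
    · omega
    · exact h
  have hprimes : ∀ q : ℕ, q.Prime → q ∣ Nat.card M →
      q = 2 ∨ q = p ∨ (q = p + 2 ∧ Fintype.card α = p + 2) := by
    intro q hq hqd
    have hqπ := hM.2.1 q hq hqd
    have hqn := le_of_dvd_card hq hqd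
    by_cases hq2 : q = 2
    · exact Or.inl hq2
    · have hpq := hmin q hq hq2 hqπ hqn
      have hqodd : q % 2 = 1 := by
        rcases hq.eq_two_or_odd with h | h
        · exact absurd h hq2
        · exact h
      right
      omega
  have htr : IsPretransitive M α := hprim.toIsPretransitive
  have h3 : ¬ 3 ∣ Nat.card M := by
    intro h
    have := hmin 3 Nat.prime_three (by norm_num) (hM.2.1 3 Nat.prime_three h) (by omega)
    omega
  have hne : Nonempty α := by
    rw [← Fintype.card_pos_iff]; omega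
  have hndvd : Fintype.card α ∣ Nat.card M := by
    obtain ⟨x⟩ := hne
    have h1 := MulAction.index_stabilizer_of_transitive M x
    rw [Nat.card_eq_fintype_card] at h1
    rw [← h1]
    exact Subgroup.index_dvd_card _
  have hp3 : p % 3 = 1 ∨ p % 3 = 2 := by
    have : ¬ 3 ∣ p := fun h => by
      have := (Nat.prime_dvd_prime_iff_eq Nat.prime_three hp).1 h
      omega
    omega
  rcases (by omega : Fintype.card α = p ∨ Fintype.card α = p + 1 ∨ Fintype.card α = p + 2)
    with hk | hk | hk
  · -- degree `p`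
    have hX : ∀ q : ℕ, q.Prime → q ∣ Nat.card M → q = 2 ∨ q = p := by
      intro q hq hqd
      rcases hprimes q hq hqd with h | h | ⟨_, h⟩
      · exact Or.inl h
      · exact Or.inr h
      · omega
    have hdvd := Helper32_PrimeDegTI.card_dvd (X := M) (β := α) hp hp2 hk hX
    rcases Nat.lt_or_ge p 7 with h7 | h7
    · have hp5' : p = 5 := by
        have : p ≠ 6 := by
          rintro rfl
          exact absurd hp (by decide)
        omega
      subst hp5'
      have h5 := dvd_card_of_odd hα hM hp hp2 hpπ hpn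
      have hnot := hM.2.2 2 Nat.prime_two h2
      rw [hk] at hnot
      have hfac : Nat.factorial 5 = 120 := by decide
      rw [hfac] at hnot
      have hc : Nat.card M = 20 := by
        obtain ⟨t, ht⟩ := h5
        rw [ht] at hdvd hnot ⊢
        have ht4 : t ∣ 4 := Nat.dvd_of_mul_dvd_mul_left (by norm_num) hdvd
        have hle : t ≤ 4 := Nat.le_of_dvd (by norm_num) ht4
        interval_cases t
        · simp at ht4
        · exact absurd (by decide) hnot
        · exact absurd (by decide) hnot
        · exact absurd ht4 (by decide)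
        · rfl
      exact no_card_twenty hk hM.1 hc
    · exact hM.2.2 2 Nat.prime_two h2 (by rw [hk]; exact four_mul_dvd_factorial h7 hdvd)
  · -- degree `p + 1`
    have h3n : ¬ 3 ∣ p + 1 := fun h => h3 ((hk ▸ h : 3 ∣ Fintype.card α).trans hndvd)
    have hp7 : 7 ≤ p := by
      have h5 : p ≠ 5 := by
        rintro rfl
        exact h3n (by decide)
      have h6 : p ≠ 6 := by
        rintro rfl
        exact absurd hp (by decide)
      omega
    have hcompl : (c.supportᶜ).card = 1 := by
      rw [Finset.card_compl, hcs, hk]; omega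
    obtain ⟨x, hx⟩ := Finset.card_eq_one.1 hcompl
    have hcx : c x = x := by
      have : x ∈ c.supportᶜ := by rw [hx]; exact Finset.mem_singleton_self x
      rwa [Finset.mem_compl, notMem_support] at this
    have hsupp : ∀ y, y ≠ x → y ∈ c.support := by
      intro y hy
      by_contra h
      have : y ∈ c.supportᶜ := Finset.mem_compl.2 h
      rw [hx, Finset.mem_singleton] at this
      exact hy this
    have : Fintype (SubMulAction.ofStabilizer M x) := Fintype.ofFinite _
    have hYcard : Fintype.card (SubMulAction.ofStabilizer M x) = p := by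
      rw [← Nat.card_eq_fintype_card, SubMulAction.nat_card_ofStabilizer_eq,
        Nat.card_eq_fintype_card, hk]
      omega
    have hcX : (⟨c, hcM⟩ : M) ∈ stabilizer M x := hcx
    have hpowval : ∀ (i : ℕ) (y : SubMulAction.ofStabilizer M x),
        (((⟨⟨c, hcM⟩, hcX⟩ : stabilizer M x) ^ i • y : SubMulAction.ofStabilizer M x) : α) =
          (c ^ i) (y : α) := by
      intro i y
      rfl
    have htrY : IsPretransitive (stabilizer M x) (SubMulAction.ofStabilizer M x) := by
      constructor
      intro y z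
      have hy : (y : α) ∈ c.support := hsupp y (SubMulAction.neq_of_mem_ofStabilizer M x)
      have hz : (z : α) ∈ c.support := hsupp z (SubMulAction.neq_of_mem_ofStabilizer M x)
      obtain ⟨i, hi⟩ := hcc.exists_pow_eq (mem_support.1 hy) (mem_support.1 hz)
      refine ⟨(⟨⟨c, hcM⟩, hcX⟩ : stabilizer M x) ^ i, ?_⟩
      apply Subtype.ext
      rw [hpowval, hi]
    have hfaith : FaithfulSMul (stabilizer M x) (SubMulAction.ofStabilizer M x) := by
      constructor
      intro g h hgh
      apply Subtype.ext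
      apply Subtype.ext
      ext a
      by_cases ha : a = x
      · subst ha
        have h1 : (g : M) • a = a := g.2
        have h2 : (h : M) • a = a := h.2
        show (g : M) • a = (h : M) • a
        rw [h1, h2]
      · have := hgh ⟨a, (SubMulAction.mem_ofStabilizer_iff M x).2 ha⟩
        exact congrArg Subtype.val this
    have hXp : ∀ q : ℕ, q.Prime → q ∣ Nat.card (stabilizer M x) → q = 2 ∨ q = p := by
      intro q hq hqd
      rcases hprimes q hq (hqd.trans (Subgroup.card_subgroup_dvd_card _)) with h | h | ⟨_, h⟩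
      · exact Or.inl h
      · exact Or.inr h
      · omega
    have hdvd := Helper32_PrimeDegTI.card_dvd (X := stabilizer M x)
      (β := SubMulAction.ofStabilizer M x) hp hp2 hYcard hXp
    have hcardM : Nat.card M = (p + 1) * Nat.card (stabilizer M x) := by
      have h1 := Subgroup.card_mul_index (stabilizer M x)
      rw [index_stabilizer_of_transitive M x, Nat.card_eq_fintype_card (α := α), hk] at h1
      rw [← h1, mul_comm]
    apply hM.2.2 2 Nat.prime_two h2
    rw [hk]
    apply four_mul_dvd_factorial_succ hp7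
    rw [hcardM]
    exact Nat.mul_dvd_mul_left _ hdvd
  · -- degree `p + 2`
    by_cases h3n : 3 ∣ p + 2
    · exact h3 ((hk ▸ h3n : 3 ∣ Fintype.card α).trans hndvd)
    · have h3' : 3 ∣ p + 1 := by omega
      have hjt := isPretransitive_of_isCycle_mem (G := M) hcc hcM
      have hncard : ((c.support : Set α)ᶜ).ncard = (Fintype.card α - p - 1) + 1 := by
        have h1 := Set.ncard_add_ncard_compl (c.support : Set α)
        rw [Set.ncard_coe_finset, hcs, Nat.card_eq_fintype_card] at h1
        omega
      have h2t : IsMultiplyPretransitive M α 2 := by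
        apply hprim.is_two_pretransitive hncard _ hjt
        rw [Nat.card_eq_fintype_card]
        omega
      have hnt : Nontrivial α := nontrivial_of_two_le hα
      obtain ⟨a, b, hab⟩ := exists_pair_ne α
      have hs : ({a, b} : Set α).ncard = 2 := Set.ncard_pair hab
      have hidx := h2t.index_of_fixingSubgroup_mul hs
      rw [Nat.card_eq_fintype_card, hk] at hidx
      have e : p + 2 - 2 = p := by omega
      rw [e, Nat.factorial_succ, Nat.factorial_succ] at hidx
      have hidx' : (fixingSubgroup M ({a, b} : Set α)).index = (p + 1 + 1) * (p + 1) := by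
        apply Nat.eq_of_mul_eq_mul_right (Nat.factorial_pos p)
        rw [hidx]; ring
      apply h3
      refine Dvd.dvd.trans ?_ (Subgroup.index_dvd_card (fixingSubgroup M ({a, b} : Set α)))
      rw [hidx']
      exact Dvd.dvd.mul_left h3' _

/-- **Primitive case.** -/
theorem prim_case (h2 : 2 ∈ π) {M : Subgroup (Perm α)} (hM : AHall π M)
    (hprim : IsPreprimitive M α) {p : ℕ} (hp : p.Prime) (hp2 : p ≠ 2) (hpπ : p ∈ π)
    (hpn : p ≤ Fintype.card α)
    (hmin : ∀ q : ℕ, q.Prime → q ≠ 2 → q ∈ π → q ≤ Fintype.card α → p ≤ q) :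
    alternatingGroup α ≤ M := by
  have hp2' := hp.two_le
  have hα : 2 ≤ Fintype.card α := by omega
  rcases Nat.lt_or_ge p 5 with h5 | h5
  · have hp3 : p = 3 := by
      have : p ≠ 4 := by
        rintro rfl
        exact absurd hp (by decide)
      omega
    subst hp3
    obtain ⟨c, hcM, hcc, hcs⟩ := exists_cycle_mem_of_AHall hα hM hp hp2 hpπ hpn
    exact alternatingGroup_le_of_isPreprimitive_of_isThreeCycle_mem hprim
      (card_support_eq_three_iff.1 hcs) hcM
  · rcases Nat.lt_or_ge (Fintype.card α) (p + 3) with h | h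
    · exact (prim_false h2 hM hprim hp h5 hpπ hpn (by omega) hmin).elim
    · obtain ⟨c, hcM, hcc, hcs⟩ := exists_cycle_mem_of_AHall hα hM hp hp2 hpπ hpn
      exact Cfsg.Agent.S0713.result M hprim hp (by omega) h hcc hcs hcM

/-- **Fixed point case**: reduction to the degree one less. -/
theorem exists_odd_ext_of_fixed {M : Subgroup (Perm α)} (hM : AHall π M) (x : α)
    (hx : ∀ m ∈ M, m x = x)
    (IH : ∀ M' : Subgroup (Perm {y // y ≠ x}), AHall π M' →
      ∃ M₀' : Subgroup (Perm {y // y ≠ x}), M' ≤ M₀' ∧ IsPiSubgroup π M₀' ∧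
        ¬ M₀' ≤ alternatingGroup {y // y ≠ x}) :
    ∃ M₀ : Subgroup (Perm α), M ≤ M₀ ∧ IsPiSubgroup π M₀ ∧ ¬ M₀ ≤ alternatingGroup α := by
  set φ : Perm {y // y ≠ x} →* Perm α := ofSubtype with hφdef
  have hφ : Function.Injective φ := ofSubtype_injective
  have hrange : M ≤ φ.range := by
    intro m hm
    have hmx := hx m hm
    have h₁ : ∀ y, m y ≠ x ↔ y ≠ x := by
      intro y
      rw [not_iff_not]
      constructor
      · intro h
        apply m.injective
        rw [h, hmx]
      · intro h
        rw [h, hmx]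
    have h₂ : ∀ y, m y ≠ y → y ≠ x := by
      intro y hy h
      rw [h] at hy
      exact hy hmx
    exact ⟨m.subtypePerm h₁, ofSubtype_subtypePerm h₁ h₂⟩
  set M' := M.comap φ with hM'def
  have hmap : M'.map φ = M := Subgroup.map_comap_eq_self hrange
  have hcard : Nat.card M' = Nat.card M := by
    rw [← hmap, Subgroup.card_map_of_injective hφ]
  have hcardβ : Fintype.card {y // y ≠ x} + 1 = Fintype.card α := by
    rw [Fintype.card_subtype_compl, Fintype.card_subtype_eq]
    have : 0 < Fintype.card α := Fintype.card_pos_iff.2 ⟨x⟩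
    omega
  have hM'A : AHall π M' := by
    refine ⟨?_, ?_, ?_⟩
    · intro τ hτ
      have h1 : φ τ ∈ alternatingGroup α := hM.1 hτ
      rw [mem_alternatingGroup] at h1 ⊢
      rw [← h1]
      exact (sign_ofSubtype τ).symm
    · intro p hp hd
      rw [hcard] at hd
      exact hM.2.1 p hp hd
    · intro p hp hpπ hd
      apply hM.2.2 p hp hpπ
      rw [hcard] at hd
      refine hd.trans ?_
      rw [← hcardβ]
      exact Nat.factorial_dvd_factorial (by omega)
  obtain ⟨M₀', hle, hπ', hodd⟩ := IH M' hM'A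
  refine ⟨M₀'.map φ, ?_, ?_, ?_⟩
  · rw [← hmap]
    exact Subgroup.map_mono hle
  · intro p hp hd
    rw [Subgroup.card_map_of_injective hφ] at hd
    exact hπ' p hp hd
  · intro h
    apply hodd
    intro τ hτ
    have h1 : φ τ ∈ alternatingGroup α := h (Subgroup.mem_map_of_mem φ hτ)
    rw [mem_alternatingGroup] at h1 ⊢
    rw [← h1]
    exact (sign_ofSubtype τ).symm

/-- the whole symmetric group is not contained in the alternating group -/
theorem top_not_le_alt (hα : 2 ≤ Fintype.card α) : ¬ (⊤ : Subgroup (Perm α)) ≤ alternatingGroup α := by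
  intro h
  have := nontrivial_of_two_le hα
  obtain ⟨a, b, hab⟩ := exists_pair_ne α
  have h1 : swap a b ∈ alternatingGroup α := h (Subgroup.mem_top _)
  rw [mem_alternatingGroup, sign_swap hab] at h1
  revert h1
  decide

/-- **2-group case.** -/
theorem exists_odd_ext_of_two_group (h2 : 2 ∈ π) (hα : 2 ≤ Fintype.card α)
    {M : Subgroup (Perm α)}
    (hM2 : ∀ q : ℕ, q.Prime → q ∣ Nat.card M → q = 2) :
    ∃ M₀ : Subgroup (Perm α), M ≤ M₀ ∧ IsPiSubgroup π M₀ ∧ ¬ M₀ ≤ alternatingGroup α := by
  have : Fact (Nat.Prime 2) := ⟨Nat.prime_two⟩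
  have hMp : IsPGroup 2 M := by
    have h0 : Nat.card M ≠ 0 := Nat.card_pos.ne'
    exact IsPGroup.of_card (Nat.eq_prime_pow_of_unique_prime_dvd h0 (fun {d} hd hdM => hM2 d hd hdM))
  obtain ⟨P, hP⟩ := hMp.exists_le_sylow
  refine ⟨P, hP, ?_, ?_⟩
  · intro q hq hd
    rw [P.card_eq_multiplicity] at hd
    have := (Nat.prime_dvd_prime_iff_eq hq Nat.prime_two).1 (hq.dvd_of_dvd_pow hd)
    rw [this]
    exact h2
  · intro hle
    have h1 : Nat.card P ∣ Nat.card (alternatingGroup α) := Subgroup.card_dvd_of_le hle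
    rw [P.card_eq_multiplicity, card_perm'] at h1
    have h3 := two_mul_card_alt hα
    have h4 : 2 ^ ((Fintype.card α).factorial.factorization 2 + 1) ∣ (Fintype.card α).factorial := by
      have h5 := Nat.mul_dvd_mul_left 2 h1
      rw [h3] at h5
      rw [pow_succ, mul_comm]
      exact h5
    exact Nat.pow_succ_factorization_not_dvd (Nat.factorial_pos _).ne' Nat.prime_two h4

/-- **Hall subgroups of alternating groups extend.**  A Hall `π`-subgroup of the alternating group
(`2 ∈ π`, degree at least 2) lies in a `π`-subgroup of the symmetric group containing an odd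
permutation. -/
theorem exists_odd_ext (h2 : 2 ∈ π) : ∀ n : ℕ, ∀ (α : Type u) [Fintype α] [DecidableEq α],
    Fintype.card α = n → 2 ≤ n → ∀ M : Subgroup (Perm α), AHall π M →
    ∃ M₀ : Subgroup (Perm α), M ≤ M₀ ∧ IsPiSubgroup π M₀ ∧ ¬ M₀ ≤ alternatingGroup α := by
  intro n
  induction n using Nat.strong_induction_on with
  | _ n IH =>
  intro α _ _ hn hn2 M hM
  have hα : 2 ≤ Fintype.card α := by omega
  by_cases hodd : ∃ q : ℕ, q.Prime ∧ q ≠ 2 ∧ q ∈ π ∧ q ≤ n
  swap
  · apply exists_odd_ext_of_two_group h2 hα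
    intro q hq hqd
    by_contra hq2
    exact hodd ⟨q, hq, hq2, hM.2.1 q hq hqd, hn ▸ le_of_dvd_card hq hqd⟩
  classical
  obtain ⟨hp, hp2, hpπ, hpn⟩ := Nat.find_spec hodd
  set p := Nat.find hodd with hpdef
  have hmin : ∀ q : ℕ, q.Prime → q ≠ 2 → q ∈ π → q ≤ Fintype.card α → p ≤ q :=
    fun q h1 h2 h3 h4 => Nat.find_min' hodd ⟨h1, h2, h3, by omega⟩
  have hp3 : 3 ≤ p := by
    have := hp.two_le
    omega
  by_cases hfix : ∃ x : α, ∀ m ∈ M, m x = x
  · obtain ⟨x, hx⟩ := hfix
    apply exists_odd_ext_of_fixed hM x hx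
    intro M' hM'
    have hcardβ : Fintype.card {y // y ≠ x} = n - 1 := by
      rw [Fintype.card_subtype_compl, Fintype.card_subtype_eq, hn]
    exact IH (n - 1) (by omega) {y // y ≠ x} hcardβ (by omega) M' hM'
  push Not at hfix
  by_cases htr : IsPretransitive M α
  · by_cases hprim : IsPreprimitive M α
    · have hA := prim_case h2 hM hprim hp hp2 hpπ (by omega) hmin
      refine ⟨⊤, le_top, ?_, top_not_le_alt hα⟩
      intro q hq hqd
      by_cases hq2 : q = 2
      · rw [hq2]; exact h2
      · apply hM.2.1 q hq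
        rw [Subgroup.card_top, card_perm', ← two_mul_card_alt hα] at hqd
        rcases (Nat.Prime.dvd_mul hq).1 hqd with h | h
        · exact absurd ((Nat.prime_dvd_prime_iff_eq hq Nat.prime_two).1 h) hq2
        · exact h.trans (Subgroup.card_dvd_of_le hA)
    · obtain ⟨ι, _, _, f, hf, hinv, ⟨x₀, y₀, hxy, hfxy⟩, ⟨x₁, z₁, hxz⟩⟩ :=
        Helper39_HallSymImprim.exists_fibration htr hprim
      have hcard := Helper39_HallSymImprim.card_fiber_eq htr hinv
      have h2le : 2 ≤ Fintype.card {a // f a = f x₀} := by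
        have : 1 < Fintype.card {a // f a = f x₀} := by
          rw [Fintype.one_lt_card_iff]
          exact ⟨⟨x₀, rfl⟩, ⟨y₀, hfxy.symm⟩, fun h => hxy (congrArg Subtype.val h)⟩
        omega
      exact Helper32_HallAltCL.exists_odd_ext hM.2.1 hf hinv hxz
        (by rw [hcard x₁ x₀]; exact h2le) (by rw [hcard z₁ x₀]; exact h2le)
        (not_four_dvd_index h2 hM)
  · -- intransitive without fixed points
    have hne : Nonempty α := by
      rw [← Fintype.card_pos_iff]; omega
    obtain ⟨x₀⟩ := hne
    set Δ : Set α := MulAction.orbit M x₀ with hΔ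
    have hΔinv : ∀ k ∈ M, ∀ y, k y ∈ Δ ↔ y ∈ Δ := by
      intro k hk y
      constructor
      · intro h
        have := MulAction.mem_orbit_of_mem_orbit (⟨k, hk⟩⁻¹ : M) h
        have e : (⟨k, hk⟩⁻¹ : M) • (k y) = y := by
          show k⁻¹ (k y) = y
          simp
        rwa [e] at this
      · intro h
        exact MulAction.mem_orbit_of_mem_orbit (⟨k, hk⟩ : M) h
    let f : α → Bool := fun y => decide (y ∈ Δ)
    have hfM : ∀ k ∈ M, ∀ y, f (k y) = f y := by
      intro k hk y
      show decide (k y ∈ Δ) = decide (y ∈ Δ)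
      rw [decide_eq_decide]
      exact hΔinv k hk y
    have hinv : ∀ k ∈ M, ∀ x y, f x = f y → f (k x) = f (k y) := by
      intro k hk x y h
      rw [hfM k hk, hfM k hk, h]
    obtain ⟨z, hz⟩ : ∃ z, z ∉ Δ := by
      by_contra hcon
      push Not at hcon
      apply htr
      rw [MulAction.isPretransitive_iff_orbit_eq_univ (G := M) x₀]
      exact Set.eq_univ_of_forall hcon
    have hx₀ : x₀ ∈ Δ := MulAction.mem_orbit_self x₀
    have hfx₀ : f x₀ = true := decide_eq_true hx₀
    have hfz : f z = false := decide_eq_false hz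
    have hf : Function.Surjective f := by
      intro b
      cases b
      · exact ⟨z, hfz⟩
      · exact ⟨x₀, hfx₀⟩
    have hfib : ∀ w : α, 2 ≤ Fintype.card {a // f a = f w} := by
      intro w
      obtain ⟨m, hm, hmw⟩ := hfix w
      have : 1 < Fintype.card {a // f a = f w} := by
        rw [Fintype.one_lt_card_iff]
        exact ⟨⟨w, rfl⟩, ⟨m w, hfM m hm w⟩, fun h => hmw (congrArg Subtype.val h).symm⟩
      omega
    have hne' : f x₀ ≠ f z := by rw [hfx₀, hfz]; decide
    exact Helper32_HallAltCL.exists_odd_ext hM.2.1 hf hinv hne' (hfib x₀) (hfib z)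
      (not_four_dvd_index h2 hM)

/-- **Theorem A.** A Hall `π`-subgroup of the alternating group (`2 ∈ π`) is the intersection of
the alternating group with a Hall `π`-subgroup of the symmetric group. -/
theorem exists_hall_inf_eq (h2 : 2 ∈ π) (hα : 2 ≤ Fintype.card α) {M : Subgroup (Perm α)}
    (hM : AHall π M) :
    ∃ M₀ : Subgroup (Perm α), IsPiHall π M₀ ∧ M₀ ⊓ alternatingGroup α = M ∧
      ¬ M₀ ≤ alternatingGroup α := by
  obtain ⟨M₀, hle, hπ, hodd⟩ := exists_odd_ext h2 (Fintype.card α) α rfl hα M hM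
  have hnt := nontrivial_of_two_le hα
  have hMK : M ≤ M₀ ⊓ alternatingGroup α := le_inf hle hM.1
  -- the intersection is `M`
  have hK : M₀ ⊓ alternatingGroup α = M := by
    apply le_antisymm _ hMK
    rw [← Subgroup.relIndex_eq_one]
    by_contra hne
    obtain ⟨q, hq, hqd⟩ := Nat.exists_prime_and_dvd hne
    have hqK : q ∣ Nat.card (M₀ ⊓ alternatingGroup α : Subgroup (Perm α)) := by
      rw [card_eq_card_mul_relIndex hMK]
      exact Dvd.dvd.mul_left hqd _
    have hqπ : q ∈ π := hπ q hq (hqK.trans (Subgroup.card_dvd_of_le inf_le_left))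
    apply not_dvd_relIndex hα hM hq hqπ
    rw [← Subgroup.relIndex_mul_relIndex M (M₀ ⊓ alternatingGroup α) (alternatingGroup α) hMK inf_le_right]
    exact Dvd.dvd.mul_right hqd _
  refine ⟨M₀, ⟨hπ, ?_⟩, hK, hodd⟩
  -- the index
  have h1 : (alternatingGroup α).relIndex M₀ = 2 := by
    have h3 : (alternatingGroup α).relIndex M₀ ∣ 2 := by
      have := Subgroup.relIndex_dvd_index_of_normal (alternatingGroup α) M₀
      rwa [alternatingGroup.index_eq_two] at this
    have h4 : (alternatingGroup α).relIndex M₀ ≠ 1 := by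
      rw [Ne, Subgroup.relIndex_eq_one]
      exact hodd
    rcases (Nat.dvd_prime Nat.prime_two).1 h3 with h | h
    · exact absurd h h4
    · exact h
  have h5 : M.relIndex M₀ = 2 := by
    rw [← hK, Subgroup.inf_relIndex_left]
    exact h1
  have h6 := Subgroup.relIndex_mul_index hle
  have h7 := Subgroup.relIndex_mul_index hM.1
  rw [alternatingGroup.index_eq_two] at h7
  rw [h5, ← h7] at h6
  have h8 : M₀.index = M.relIndex (alternatingGroup α) := by omega
  intro p hp hpπ
  rw [h8]
  exact not_dvd_relIndex hα hM hp hpπ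

/-- from a Hall subgroup of the alternating group (as a group) to the numerical form -/
theorem aHall_map_subtype (hα : 2 ≤ Fintype.card α) {M : Subgroup (alternatingGroup α)}
    (hM : IsPiHall π M) : AHall π (M.map (alternatingGroup α).subtype) := by
  have hcard : Nat.card (M.map (alternatingGroup α).subtype) = Nat.card M :=
    Subgroup.card_map_of_injective (Subgroup.subtype_injective _)
  refine ⟨Subgroup.map_subtype_le M, ?_, ?_⟩
  · intro p hp hd
    rw [hcard] at hd
    exact hM.1 p hp hd
  · intro p hp hpπ hd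
    apply hM.2 p hp hpπ
    rw [hcard, ← two_mul_card_alt hα, ← Subgroup.card_mul_index M] at hd
    have e1 : 2 * p * Nat.card M = (2 * Nat.card M) * p := by ring
    have e2 : 2 * (Nat.card M * M.index) = (2 * Nat.card M) * M.index := by ring
    rw [e1, e2] at hd
    exact Nat.dvd_of_mul_dvd_mul_left (by have : 0 < Nat.card M := Nat.card_pos; omega) hd

/-- from the numerical form to a Hall subgroup of the alternating group (as a group) -/
theorem isPiHall_subgroupOf_of_aHall (hα : 2 ≤ Fintype.card α) {M : Subgroup (Perm α)}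
    (hM : AHall π M) : IsPiHall π (M.subgroupOf (alternatingGroup α)) := by
  constructor
  · intro p hp hd
    rw [Nat.card_congr (Subgroup.subgroupOfEquivOfLe hM.1).toEquiv] at hd
    exact hM.2.1 p hp hd
  · intro p hp hpπ
    exact not_dvd_relIndex hα hM hp hpπ

end Cfsg.Agent.Lib.Helper32_HallAlt
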