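import Mathlib
import Cfsg.Prelude.Def_Local
import Cfsg.Agent.Lib.Helper32_PSolvable
import Cfsg.Agent.Lib.Helper69_PComplement
import Cfsg.Agent.Lib.Helper1_Cores
import Cfsg.Agent.Lib.Helper1_Transport
import Cfsg.Agent.Lib.Lead_PSolvable

/-!
Hall `{p, q}`-subgroups of `p`-solvable groups (helper32).

A finite `p`-solvable group has a subgroup whose order involves only the primes `p` and `q`
and whose index is divisible by neither of them (`exists_isHallPQ`).  The proof is the usual
one: lift through normal `p`-subgroups, normal `q`-subgroups (preimage) and normal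
`{p,q}'`-subgroups (Schur–Zassenhaus), and otherwise pass to the normalizer of a Sylow
`q`-subgroup of `O_{p'}` (Frattini).
-/

set_option autoImplicit false

universe u

namespace Cfsg.Agent.Lib.Helper32_HallPQ

open Subgroup

/-- `B` is a Hall `{p,q}`-subgroup, in numerical form. -/
def IsHallPQ {X : Type*} [Group X] (p q : ℕ) (B : Subgroup X) : Prop :=
  (∀ r : ℕ, r.Prime → r ∣ Nat.card B → r = p ∨ r = q) ∧ ¬ p ∣ B.index ∧ ¬ q ∣ B.index

section lifts

variable {X : Type*} [Group X] [Finite X] {p q : ℕ}

theorem card_quotient_lt' (K : Subgroup X) [K.Normal] (hK : K ≠ ⊥) :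
    Nat.card (X ⧸ K) < Nat.card X := by
  rw [← Cfsg.Agent.Lib.Helper1_Transport.card_quotient_mul_card K]
  have hpos : 0 < Nat.card (X ⧸ K) := Nat.card_pos
  have h1 : 1 < Nat.card K := K.one_lt_card_iff_ne_bot.mpr hK
  nlinarith

/-- if `M ⊔ T = ⊤` with `T` normal then `|X : M| = |T : M ∩ T|` -/
theorem index_eq_relIndex_of_sup_eq_top (M T : Subgroup X) [T.Normal] (h : M ⊔ T = ⊤) :
    M.index = M.relIndex T := by
  have hXM : Nat.card X = Nat.card T * T.relIndex M := by
    have h1 := Cfsg.Agent.Lib.Helper1_Cores.card_sup_eq M T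
    rw [h, Subgroup.card_top] at h1
    exact h1
  have hM1 : Nat.card M = Nat.card (M ⊓ T : Subgroup X) * T.relIndex M := by
    have h1 := Subgroup.relIndex_mul_relIndex ⊥ (M ⊓ T) M bot_le inf_le_left
    rw [Subgroup.relIndex_bot_left, Subgroup.relIndex_bot_left, Subgroup.inf_relIndex_left] at h1
    exact h1.symm
  have hT1 : Nat.card T = Nat.card (M ⊓ T : Subgroup X) * M.relIndex T := by
    have h1 := Subgroup.relIndex_mul_relIndex ⊥ (M ⊓ T) T bot_le inf_le_right
    rw [Subgroup.relIndex_bot_left, Subgroup.relIndex_bot_left, Subgroup.inf_relIndex_right] at h1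
    exact h1.symm
  have h2 := M.card_mul_index
  have hpos1 : 0 < Nat.card (M ⊓ T : Subgroup X) := Nat.card_pos
  have hpos2 : 0 < T.relIndex M := by
    rcases Nat.eq_zero_or_pos (T.relIndex M) with h0 | h0
    · rw [h0, mul_zero] at hM1
      exact absurd hM1 (Nat.card_pos).ne'
    · exact h0
  have h3 : Nat.card (M ⊓ T : Subgroup X) * T.relIndex M * M.index =
      Nat.card (M ⊓ T : Subgroup X) * T.relIndex M * M.relIndex T := by
    calc Nat.card (M ⊓ T : Subgroup X) * T.relIndex M * M.index
        = Nat.card M * M.index := by rw [← hM1]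
      _ = Nat.card T * T.relIndex M := by rw [h2, hXM]
      _ = Nat.card (M ⊓ T : Subgroup X) * T.relIndex M * M.relIndex T := by rw [hT1]; ring
  exact Nat.eq_of_mul_eq_mul_left (Nat.mul_pos hpos1 hpos2) h3

/-- lifting through a normal `{p,q}`-subgroup: take the full preimage -/
theorem isHallPQ_comap (hp : p.Prime) (hq : q.Prime) (N : Subgroup X) [N.Normal]
    (hN : ∀ r : ℕ, r.Prime → r ∣ Nat.card N → r = p ∨ r = q)
    (B : Subgroup (X ⧸ N)) (hB : IsHallPQ p q B) :
    IsHallPQ p q (B.comap (QuotientGroup.mk' N)) := by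
  obtain ⟨h1, h2, h3⟩ := hB
  refine ⟨?_, ?_, ?_⟩
  · intro r hr hdvd
    rw [Cfsg.Agent.Lib.Helper1_Transport.card_comap_mk'] at hdvd
    rcases (Nat.Prime.dvd_mul hr).mp hdvd with h | h
    · exact h1 r hr h
    · exact hN r hr h
  · rw [Subgroup.index_comap_of_surjective _ (QuotientGroup.mk'_surjective N)]
    exact h2
  · rw [Subgroup.index_comap_of_surjective _ (QuotientGroup.mk'_surjective N)]
    exact h3

/-- lifting through a normal `{p,q}'`-subgroup: Schur–Zassenhaus -/
theorem exists_isHallPQ_of_quotient_coprime (hp : p.Prime) (hq : q.Prime) (N : Subgroup X)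
    [N.Normal] (hNp : ¬ p ∣ Nat.card N) (hNq : ¬ q ∣ Nat.card N)
    (B : Subgroup (X ⧸ N)) (hB : IsHallPQ p q B) : ∃ B' : Subgroup X, IsHallPQ p q B' := by
  obtain ⟨h1, h2, h3⟩ := hB
  set B₀ : Subgroup X := B.comap (QuotientGroup.mk' N) with hB₀
  have hNB : N ≤ B₀ := by
    conv_lhs => rw [← QuotientGroup.ker_mk' N]
    exact MonoidHom.ker_le_comap _ _
  have hcardB₀ : Nat.card B₀ = Nat.card B * Nat.card N :=
    Cfsg.Agent.Lib.Helper1_Transport.card_comap_mk' N B
  have hN' : (N.subgroupOf B₀).Normal := Subgroup.normal_subgroupOf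
  have hcN' : Nat.card (N.subgroupOf B₀) = Nat.card N :=
    Nat.card_congr (Subgroup.subgroupOfEquivOfLe hNB).toEquiv
  have hidx : (N.subgroupOf B₀).index = Nat.card B := by
    have h4 := (N.subgroupOf B₀).card_mul_index
    rw [hcN', hcardB₀, mul_comm] at h4
    have hpos : 0 < Nat.card N := Nat.card_pos
    exact Nat.eq_of_mul_eq_mul_right hpos h4
  have hcop : Nat.Coprime (Nat.card (N.subgroupOf B₀)) (N.subgroupOf B₀).index := by
    rw [hcN', hidx]
    apply Nat.Coprime.symm
    apply Nat.coprime_of_dvd
    intro r hr hrB hrN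
    rcases h1 r hr hrB with rfl | rfl
    · exact hNp hrN
    · exact hNq hrN
  obtain ⟨H', hH'⟩ := Subgroup.exists_right_complement'_of_coprime hcop
  have hcH' : Nat.card H' = Nat.card B := by
    have h5 := hH'.card_mul_card
    rw [hcN', hcardB₀, mul_comm] at h5
    have hpos : 0 < Nat.card N := Nat.card_pos
    exact Nat.eq_of_mul_eq_mul_right hpos h5
  have hcmap : Nat.card (H'.map B₀.subtype) = Nat.card B := by
    rw [← hcH']
    exact Nat.card_congr (Subgroup.equivMapOfInjective H' B₀.subtype
      B₀.subtype_injective).toEquiv.symm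
  have hindex : (H'.map B₀.subtype).index = B.index * Nat.card N := by
    have h6 := (H'.map B₀.subtype).card_mul_index
    have h7 := Cfsg.Agent.Lib.Helper1_Transport.card_quotient_mul_card N
    have h8 := B.card_mul_index
    rw [hcmap] at h6
    have hpos : 0 < Nat.card B := Nat.card_pos
    apply Nat.eq_of_mul_eq_mul_left hpos
    rw [h6, ← h7, ← h8]
    ring
  refine ⟨H'.map B₀.subtype, ?_, ?_, ?_⟩
  · intro r hr hdvd
    rw [hcmap] at hdvd
    exact h1 r hr hdvd
  · rw [hindex]
    intro hd
    rcases (Nat.Prime.dvd_mul hp).mp hd with h | h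
    · exact h2 h
    · exact hNp h
  · rw [hindex]
    intro hd
    rcases (Nat.Prime.dvd_mul hq).mp hd with h | h
    · exact h3 h
    · exact hNq h

/-- lifting from a subgroup whose index is prime to `p` and `q` -/
theorem isHallPQ_map_subtype (hp : p.Prime) (hq : q.Prime) (M : Subgroup X)
    (hMp : ¬ p ∣ M.index) (hMq : ¬ q ∣ M.index) (B : Subgroup M) (hB : IsHallPQ p q B) :
    IsHallPQ p q (B.map M.subtype) := by
  obtain ⟨h1, h2, h3⟩ := hB
  have hcmap : Nat.card (B.map M.subtype) = Nat.card B :=
    Nat.card_congr (Subgroup.equivMapOfInjective B M.subtype M.subtype_injective).toEquiv.symm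
  refine ⟨?_, ?_, ?_⟩
  · intro r hr hdvd
    rw [hcmap] at hdvd
    exact h1 r hr hdvd
  · rw [Subgroup.index_map_subtype]
    intro hd
    rcases (Nat.Prime.dvd_mul hp).mp hd with h | h
    · exact h2 h
    · exact hMp h
  · rw [Subgroup.index_map_subtype]
    intro hd
    rcases (Nat.Prime.dvd_mul hq).mp hd with h | h
    · exact h3 h
    · exact hMq h

end lifts

/-- existence of Hall `{p,q}`-subgroups in `p`-solvable groups, inductive form -/
theorem exists_isHallPQ_aux (p q : ℕ) [hp : Fact p.Prime] [hq : Fact q.Prime] :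
    ∀ n : ℕ, ∀ (X : Type u) [Group X] [Finite X], Nat.card X = n → Cfsg.IsPSolvable p X →
      ∃ B : Subgroup X, IsHallPQ p q B := by
  intro n
  induction n using Nat.strong_induction_on with
  | _ n ih =>
  intro X _ _ hcard hsol
  rcases subsingleton_or_nontrivial X with hss | hnt
  · refine ⟨⊤, ?_, ?_, ?_⟩
    · intro r hr hdvd
      rw [Subgroup.card_top, Nat.card_of_subsingleton (1 : X)] at hdvd
      exact absurd (Nat.dvd_one.mp hdvd) hr.one_lt.ne'
    · rw [Subgroup.index_top]
      exact fun h => hp.out.one_lt.ne' (Nat.dvd_one.mp h)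
    · rw [Subgroup.index_top]
      exact fun h => hq.out.one_lt.ne' (Nat.dvd_one.mp h)
  · rcases Cfsg.Agent.Lib.Helper32_PSolvable.exists_core_ne_bot hsol with hT | hP
    · -- `O_{p'}(X) ≠ 1`
      set T := Cfsg.pPrimeCore p X with hTdef
      have hTn : T.Normal := Cfsg.Agent.Lib.Helper1_Cores.pPrimeCore_normal p
      have hTc : (Nat.card T).Coprime p :=
        Cfsg.Agent.Lib.Helper1_Cores.pPrimeCore_card_coprime p
      have hTp : ¬ p ∣ Nat.card T := by
        intro h
        have := Nat.Coprime.eq_one_of_dvd hTc.symm h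
        exact hp.out.one_lt.ne' this
      by_cases hqT : q ∣ Nat.card T
      · -- a Sylow `q`-subgroup of `T` and the Frattini argument
        let Q0 : Sylow q T := default
        have hQne : (Q0 : Subgroup T) ≠ ⊥ := Q0.ne_bot_of_dvd_card hqT
        set Qh : Subgroup X := (Q0 : Subgroup T).map T.subtype with hQh
        have hQhT : Qh ≤ T := by
          rw [hQh]; exact Subgroup.map_subtype_le _
        have hfr : Subgroup.normalizer (Qh : Set X) ⊔ T = ⊤ := Sylow.normalizer_sup_eq_top Q0
        have hQcard : Nat.card Qh = Nat.card (Q0 : Subgroup T) :=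
          Nat.card_congr (Subgroup.equivMapOfInjective (Q0 : Subgroup T) T.subtype
            T.subtype_injective).toEquiv.symm
        have hQhne : Qh ≠ ⊥ := by
          intro h
          apply hQne
          rw [hQh, Subgroup.map_eq_bot_iff_of_injective _ T.subtype_injective] at h
          exact h
        by_cases hM : Subgroup.normalizer (Qh : Set X) = ⊤
        · -- `Qh` is a normal `q`-subgroup
          have hQn : Qh.Normal := Subgroup.normalizer_eq_top_iff.mp hM
          have hlt : Nat.card (X ⧸ Qh) < n := by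
            rw [← hcard]
            exact card_quotient_lt' Qh hQhne
          obtain ⟨B, hB⟩ := ih _ hlt (X ⧸ Qh) rfl
            (Cfsg.Agent.Lib.Helper32_PSolvable.isPSolvable_quotient Qh hsol)
          refine ⟨_, isHallPQ_comap hp.out hq.out Qh ?_ B hB⟩
          intro r hr hdvd
          right
          rw [hQcard] at hdvd
          obtain ⟨k, hk⟩ := (Q0.2).exists_card_eq
          rw [hk] at hdvd
          exact (Nat.prime_dvd_prime_iff_eq hr hq.out).mp (hr.dvd_of_dvd_pow hdvd)
        · -- the normalizer is proper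
          set M := Subgroup.normalizer (Qh : Set X) with hMdef
          have hlt : Nat.card M < n := by
            rw [← hcard]
            have h1 := M.card_mul_index
            have h2 : 1 < M.index := by
              have h3 : M.index ≠ 1 := fun h => hM (Subgroup.index_eq_one.mp h)
              have h4 : M.index ≠ 0 := Subgroup.index_ne_zero_of_finite
              omega
            have hpos : 0 < Nat.card M := Nat.card_pos
            nlinarith
          obtain ⟨B, hB⟩ := ih _ hlt M rfl
            (Cfsg.Agent.Lib.Helper69_PComplement.isPSolvable_subgroup p hsol M)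
          have hidx : M.index = M.relIndex T := index_eq_relIndex_of_sup_eq_top M T hfr
          have hMp : ¬ p ∣ M.index := by
            rw [hidx]
            intro h
            exact hTp (h.trans (Subgroup.relIndex_dvd_card M T))
          have hMq : ¬ q ∣ M.index := by
            rw [hidx]
            intro h
            have h1 : M.relIndex T ∣ Qh.relIndex T :=
              Subgroup.relIndex_dvd_of_le_left T (Subgroup.le_normalizer)
            have h2 : Qh.relIndex T = (Q0 : Subgroup T).index := by
              rw [Subgroup.relIndex, hQh]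
              congr 1
              exact Subgroup.comap_map_eq_self_of_injective T.subtype_injective _
            rw [h2] at h1
            exact Q0.not_dvd_index (h.trans h1)
          exact ⟨_, isHallPQ_map_subtype hp.out hq.out M hMp hMq B hB⟩
      · -- `T` is a `{p,q}'`-group
        have hlt : Nat.card (X ⧸ T) < n := by
          rw [← hcard]
          exact card_quotient_lt' T hT
        obtain ⟨B, hB⟩ := ih _ hlt (X ⧸ T) rfl
          (Cfsg.Agent.Lib.Helper32_PSolvable.isPSolvable_quotient T hsol)
        exact exists_isHallPQ_of_quotient_coprime hp.out hq.out T hTp hqT B hB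
    · -- `O_p(X) ≠ 1`
      set N := Cfsg.pCore p X with hNdef
      have hNn : N.Normal := Cfsg.Agent.Lib.Helper1_Cores.pCore_normal p
      have hNp : IsPGroup p N := Cfsg.Agent.Lib.Helper1_Cores.pCore_isPGroup p
      have hlt : Nat.card (X ⧸ N) < n := by
        rw [← hcard]
        exact card_quotient_lt' N hP
      obtain ⟨B, hB⟩ := ih _ hlt (X ⧸ N) rfl
        (Cfsg.Agent.Lib.Helper32_PSolvable.isPSolvable_quotient N hsol)
      refine ⟨_, isHallPQ_comap hp.out hq.out N ?_ B hB⟩
      intro r hr hdvd
      left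
      obtain ⟨k, hk⟩ := hNp.exists_card_eq
      rw [hk] at hdvd
      exact (Nat.prime_dvd_prime_iff_eq hr hp.out).mp (hr.dvd_of_dvd_pow hdvd)

/-- **Hall `{p,q}`-subgroups exist in finite `p`-solvable groups.** -/
theorem exists_isHallPQ {X : Type u} [Group X] [Finite X] (p q : ℕ) [Fact p.Prime]
    [Fact q.Prime] (hsol : Cfsg.IsPSolvable p X) : ∃ B : Subgroup X, IsHallPQ p q B :=
  exists_isHallPQ_aux p q _ X rfl hsol

/-- a normal subgroup of index divisible by `q` misses some element of `q`-power order -/
theorem exists_qElement_not_mem {Y : Type*} [Group Y] [Finite Y] {q : ℕ} [hq : Fact q.Prime]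
    (C : Subgroup Y) [C.Normal] (h : q ∣ C.index) :
    ∃ b : Y, b ∉ C ∧ ∃ k : ℕ, orderOf b = q ^ k := by
  have hcard : Nat.card (Y ⧸ C) = C.index := (Subgroup.index_eq_card C).symm
  obtain ⟨x, hx⟩ := exists_prime_orderOf_dvd_card' q (hcard ▸ h)
  obtain ⟨b₀, rfl⟩ := QuotientGroup.mk'_surjective C x
  obtain ⟨e, m, hm, hbm⟩ :=
    Nat.exists_eq_pow_mul_and_not_dvd (orderOf_pos b₀).ne' q hq.out.ne_one
  have hm0 : m ≠ 0 := by
    rintro rfl
    exact hm (dvd_zero q)
  refine ⟨b₀ ^ m, ?_, e, ?_⟩
  · intro hmem
    have h1 : ((QuotientGroup.mk' C) b₀) ^ m = 1 := by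
      rw [← map_pow]
      exact (QuotientGroup.eq_one_iff _).mpr hmem
    have h2 := orderOf_dvd_of_pow_eq_one h1
    rw [hx] at h2
    exact hm h2
  · rw [orderOf_pow_of_dvd hm0 (by rw [hbm]; exact dvd_mul_left m _), hbm,
      Nat.mul_div_cancel _ (Nat.pos_of_ne_zero hm0)]

/-- **A `{p,q}`-subgroup carrying the `q`-part of a `p`-solvable automizer.**  If `C` is a normal
subgroup of the finite group `N` with `N/C` `p`-solvable and `q ∣ |N : C|`, then `N` has a
`{p,q}`-subgroup `B` of index prime to `p` containing an element of `q`-power order outside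
`C`. -/
theorem exists_pq_subgroup {N : Type u} [Group N] [Finite N] (p q : ℕ) [hp : Fact p.Prime]
    [hq : Fact q.Prime] (C : Subgroup N) [hCn : C.Normal]
    (hsol : Cfsg.IsPSolvable p (N ⧸ C)) (hqC : q ∣ C.index) :
    ∃ B : Subgroup N, (∀ r : ℕ, r.Prime → r ∣ Nat.card B → r = p ∨ r = q) ∧ ¬ p ∣ B.index ∧
      ∃ b ∈ B, b ∉ C ∧ ∃ k : ℕ, orderOf b = q ^ k := by
  classical
  let P_C : Sylow p C := default
  set Ph : Subgroup N := (P_C : Subgroup C).map C.subtype with hPh
  have hfr : Subgroup.normalizer (Ph : Set N) ⊔ C = ⊤ := Sylow.normalizer_sup_eq_top P_C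
  set X : Subgroup N := Subgroup.normalizer (Ph : Set N) with hX
  have hPhX : Ph ≤ X := Subgroup.le_normalizer
  have hPhC : Ph ≤ C := by
    rw [hPh]; exact Subgroup.map_subtype_le _
  have hcPh : Nat.card Ph = p ^ (Nat.card C).factorization p := by
    rw [← Sylow.card_eq_multiplicity P_C]
    exact Nat.card_congr (Subgroup.equivMapOfInjective (P_C : Subgroup C) C.subtype
      C.subtype_injective).toEquiv.symm
  -- `X` is `p`-solvable
  set f : X →* N ⧸ C := (QuotientGroup.mk' C).comp X.subtype with hf
  have hfs : Function.Surjective f := by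
    intro y
    obtain ⟨n, rfl⟩ := QuotientGroup.mk'_surjective C y
    have hn : n ∈ X ⊔ C := by rw [hfr]; exact Subgroup.mem_top n
    obtain ⟨x, hx, c, hc, rfl⟩ := Subgroup.mem_sup_of_normal_right.mp hn
    refine ⟨⟨x, hx⟩, ?_⟩
    show (QuotientGroup.mk' C) x = (QuotientGroup.mk' C) (x * c)
    rw [map_mul]
    have : (QuotientGroup.mk' C) c = 1 := by
      rw [QuotientGroup.mk'_apply, QuotientGroup.eq_one_iff]; exact hc
    rw [this, mul_one]
  have hker : f.ker = C.subgroupOf X := by
    ext x
    rw [MonoidHom.mem_ker, Subgroup.mem_subgroupOf]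
    show (QuotientGroup.mk' C) (x : N) = 1 ↔ _
    rw [QuotientGroup.mk'_apply, QuotientGroup.eq_one_iff]
  set P : Subgroup X := Ph.subgroupOf X with hP
  have hPn : P.Normal := Subgroup.normal_in_normalizer
  have hcP : Nat.card P = p ^ (Nat.card C).factorization p := by
    rw [← hcPh]
    exact Cfsg.Agent.Lib.Helper1_Transport.card_subgroupOf hPhX
  have hPker : P ≤ f.ker := by
    rw [hker]
    intro x hx
    rw [Subgroup.mem_subgroupOf] at hx ⊢
    exact hPhC hx
  set fb : X ⧸ P →* N ⧸ C := QuotientGroup.lift P f hPker with hfb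
  have hfbs : Function.Surjective fb := by
    intro y
    obtain ⟨x, rfl⟩ := hfs y
    exact ⟨QuotientGroup.mk' P x, rfl⟩
  have hkerb : fb.ker = f.ker.map (QuotientGroup.mk' P) := QuotientGroup.ker_lift P f hPker
  have hcardker : Nat.card fb.ker * Nat.card P = Nat.card f.ker := by
    rw [hkerb]
    exact Cfsg.Agent.Lib.Helper1_Transport.card_map_mk'_of_le P f.ker hPker
  have hkerdvd : Nat.card f.ker ∣ Nat.card C := by
    rw [hker]
    let g : C.subgroupOf X →* C :=
      { toFun := fun x => ⟨((x : X) : N), x.2⟩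
        map_one' := rfl
        map_mul' := fun _ _ => rfl }
    have hg : Function.Injective g := by
      intro a b hab
      have := congrArg (fun z : C => (z : N)) hab
      exact Subtype.ext (Subtype.ext this)
    exact Subgroup.card_dvd_of_injective g hg
  have hkercop : (Nat.card fb.ker).Coprime p := by
    rw [Nat.coprime_comm, Nat.Prime.coprime_iff_not_dvd hp.out]
    intro hd
    have h1 : p ^ ((Nat.card C).factorization p + 1) ∣ Nat.card C := by
      refine dvd_trans ?_ hkerdvd
      rw [← hcardker, hcP, pow_succ, mul_comm]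
      exact Nat.mul_dvd_mul_right hd _
    exact Nat.pow_succ_factorization_not_dvd (Nat.card_pos).ne' hp.out h1
  have hsolq : Cfsg.IsPSolvable p ((X ⧸ P) ⧸ fb.ker) :=
    Cfsg.Agent.Lib.Helper32_PSolvable.isPSolvable_of_surjective
      (QuotientGroup.quotientKerEquivOfSurjective fb hfbs).symm.toMonoidHom
      (QuotientGroup.quotientKerEquivOfSurjective fb hfbs).symm.surjective hsol
  have hsolXP : Cfsg.IsPSolvable p (X ⧸ P) :=
    Cfsg.Agent.Lib.Lead_PSolvable.isPSolvable_of_quotient fb.ker (Or.inr hkercop) hsolq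
  have hsolX : Cfsg.IsPSolvable p X :=
    Cfsg.Agent.Lib.Lead_PSolvable.isPSolvable_of_quotient P (Or.inl ⟨_, hcP⟩) hsolXP
  -- the index of `X` is prime to `p`
  have hXidx : ¬ p ∣ X.index := by
    rw [index_eq_relIndex_of_sup_eq_top X C hfr]
    intro h
    have h1 : X.relIndex C ∣ Ph.relIndex C := Subgroup.relIndex_dvd_of_le_left C hPhX
    have h2 : Ph.relIndex C = (P_C : Subgroup C).index := by
      rw [Subgroup.relIndex, hPh]
      congr 1
      exact Subgroup.comap_map_eq_self_of_injective C.subtype_injective _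
    rw [h2] at h1
    exact P_C.not_dvd_index (h.trans h1)
  -- a Hall subgroup of `X`
  obtain ⟨B', hB1, hB2, hB3⟩ := exists_isHallPQ p q hsolX
  have hcB : Nat.card (B'.map X.subtype) = Nat.card B' :=
    Nat.card_congr (Subgroup.equivMapOfInjective B' X.subtype X.subtype_injective).toEquiv.symm
  refine ⟨B'.map X.subtype, ?_, ?_, ?_⟩
  · intro r hr hdvd
    rw [hcB] at hdvd
    exact hB1 r hr hdvd
  · rw [Subgroup.index_map_subtype]
    intro hd
    rcases (Nat.Prime.dvd_mul hp.out).mp hd with h | h
    · exact hB2 h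
    · exact hXidx h
  · -- the `q`-element
    set C_X : Subgroup X := C.subgroupOf X with hC_X
    have hC_Xn : C_X.Normal := hCn.subgroupOf X
    have hqCX : q ∣ C_X.index := by
      have h1 : C.relIndex (X ⊔ C) = C.relIndex X := Subgroup.relIndex_sup_right X C
      rw [hfr, Subgroup.relIndex_top_right] at h1
      rw [h1] at hqC
      exact hqC
    have hqrel : q ∣ C_X.relIndex B' := by
      have h1 := Subgroup.relIndex_mul_relIndex (B' ⊓ C_X) B' ⊤ inf_le_left le_top
      have h2 := Subgroup.relIndex_mul_relIndex (B' ⊓ C_X) C_X ⊤ inf_le_right le_top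
      rw [Subgroup.inf_relIndex_left, Subgroup.relIndex_top_right,
        Subgroup.relIndex_top_right] at h1
      rw [Subgroup.relIndex_top_right, Subgroup.relIndex_top_right] at h2
      have h3 : q ∣ C_X.relIndex B' * B'.index := by
        rw [h1, ← h2]
        exact dvd_mul_of_dvd_right hqCX _
      rcases (Nat.Prime.dvd_mul hq.out).mp h3 with h | h
      · exact h
      · exact absurd h hB3
    have hCBn : (C_X.subgroupOf B').Normal := hC_Xn.subgroupOf B'
    obtain ⟨b, hb, k, hk⟩ := exists_qElement_not_mem (C_X.subgroupOf B') hqrel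
    refine ⟨((b : X) : N), ⟨(b : X), b.2, rfl⟩, ?_, k, ?_⟩
    · intro hmem
      apply hb
      rw [Subgroup.mem_subgroupOf, hC_X, Subgroup.mem_subgroupOf]
      exact hmem
    · rw [Subgroup.orderOf_coe, Subgroup.orderOf_coe]
      exact hk

end Cfsg.Agent.Lib.Helper32_HallPQ
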