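import Mathlib

/-!
Arithmetic for the Hall subgroups of the symmetric groups: a binomial coefficient `C(x+y, y)`,
`x > y ≥ 2`, with no prime factor `≤ x` is `C(7,3)`.
-/

set_option autoImplicit false

namespace Cfsg.Agent.Lib.Helper39_HallSymNT

/-- `d` is coprime to `c` when every prime factor of `d` is at most `x` and no prime `≤ x`
divides `c`. -/
theorem coprime_of_small {x c d : ℕ} (hc : ∀ p : ℕ, p.Prime → p ≤ x → ¬ p ∣ c)
    (hd : ∀ p : ℕ, p.Prime → p ∣ d → p ≤ x) : Nat.Coprime d c :=
  Nat.coprime_of_dvd fun p hp hpd hpc => hc p hp (hd p hp hpd) hpc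

/-- The main arithmetic lemma. -/
theorem two_orbit (x y : ℕ) (hy : 2 ≤ y) (hyx : y < x)
    (hc : ∀ p : ℕ, p.Prime → p ≤ x → ¬ p ∣ Nat.choose (x + y) y) : x = 4 ∧ y = 3 := by
  obtain ⟨c, hcdef⟩ : ∃ c, c = Nat.choose (x + y) y := ⟨_, rfl⟩
  rw [← hcdef] at hc
  -- identities
  have I1 : c * y = Nat.choose (x + y) (y - 1) * (x + 1) := by
    have h := Nat.choose_succ_right_eq (x + y) (y - 1)
    have e1 : y - 1 + 1 = y := by omega
    have e2 : x + y - (y - 1) = x + 1 := by omega
    rw [e1, e2] at h
    rw [hcdef]; exact h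
  have I2 : Nat.choose (x + y) (y + 1) * (y + 1) = c * x := by
    have h := Nat.choose_succ_right_eq (x + y) y
    have e2 : x + y - y = x := by omega
    rw [e2] at h
    rw [hcdef]; exact h
  have I3 : c * (y * (y - 1)) = Nat.choose (x + y) (y - 2) * ((x + 2) * (x + 1)) := by
    have h := Nat.choose_succ_right_eq (x + y) (y - 2)
    have e1 : y - 2 + 1 = y - 1 := by omega
    have e2 : x + y - (y - 2) = x + 2 := by omega
    rw [e1, e2] at h
    calc c * (y * (y - 1)) = (c * y) * (y - 1) := by ring
      _ = Nat.choose (x + y) (y - 1) * (x + 1) * (y - 1) := by rw [I1]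
      _ = (Nat.choose (x + y) (y - 1) * (y - 1)) * (x + 1) := by ring
      _ = Nat.choose (x + y) (y - 2) * (x + 2) * (x + 1) := by rw [h]
      _ = _ := by ring
  have I4 : Nat.choose (x + y) (y + 2) * ((y + 1) * (y + 2)) = c * (x * (x - 1)) := by
    have h := Nat.choose_succ_right_eq (x + y) (y + 1)
    have e2 : x + y - (y + 1) = x - 1 := by omega
    rw [e2] at h
    calc Nat.choose (x + y) (y + 2) * ((y + 1) * (y + 2))
        = (Nat.choose (x + y) (y + 1 + 1) * (y + 1 + 1)) * (y + 1) := by ring
      _ = Nat.choose (x + y) (y + 1) * (x - 1) * (y + 1) := by rw [h]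
      _ = (Nat.choose (x + y) (y + 1) * (y + 1)) * (x - 1) := by ring
      _ = c * x * (x - 1) := by rw [I2]
      _ = _ := by ring
  -- step 1: `x + 1` is prime
  have hx1 : (x + 1).Prime := by
    by_contra hnp
    have hcop : Nat.Coprime (x + 1) c := by
      apply coprime_of_small hc
      intro p hp hpd
      have hle : p ≤ x + 1 := Nat.le_of_dvd (by omega) hpd
      rcases Nat.lt_or_ge p (x + 1) with h | h
      · omega
      · have : p = x + 1 := le_antisymm hle h
        rw [this] at hp
        exact absurd hp hnp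
    have hdvd : (x + 1) ∣ c * y := by rw [I1]; exact Dvd.intro_left _ rfl
    have := Nat.le_of_dvd (by omega) (hcop.dvd_of_dvd_mul_left hdvd)
    omega
  -- step 2: `y + 1 ∣ x`
  have hy1 : (y + 1) ∣ x := by
    have hcop : Nat.Coprime (y + 1) c := by
      apply coprime_of_small hc
      intro p _ hpd
      have hle : p ≤ y + 1 := Nat.le_of_dvd (by omega) hpd
      omega
    have hdvd : (y + 1) ∣ c * x := by rw [← I2]; exact Dvd.intro_left _ rfl
    exact hcop.dvd_of_dvd_mul_left hdvd
  -- step 3: `x + 2 ∣ y (y - 1)`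
  have hx3 : 3 ≤ x := by omega
  have hodd : (x + 1) % 2 = 1 := by
    rcases hx1.eq_two_or_odd with h | h
    · omega
    · exact h
  have hx2 : (x + 2) ∣ y * (y - 1) := by
    have hcop : Nat.Coprime (x + 2) c := by
      apply coprime_of_small hc
      intro p hp hpd
      obtain ⟨k, hk⟩ : ∃ k, x + 2 = 2 * k := ⟨(x + 2) / 2, by omega⟩
      rw [hk] at hpd
      rcases (Nat.Prime.dvd_mul hp).1 hpd with h | h
      · have := Nat.le_of_dvd (by norm_num) h
        omega
      · have := Nat.le_of_dvd (by omega) h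
        omega
    have hdvd : (x + 2) ∣ c * (y * (y - 1)) := by
      rw [I3]
      exact Dvd.dvd.mul_left (Dvd.intro _ rfl) _
    exact hcop.dvd_of_dvd_mul_left hdvd
  have hypos : 0 < y * (y - 1) := Nat.mul_pos (by omega) (by omega)
  have hle3 : x + 2 ≤ y * (y - 1) := Nat.le_of_dvd hypos hx2
  obtain ⟨k, hk⟩ := hy1
  have hk1 : 1 ≤ k := by
    rcases Nat.eq_zero_or_pos k with h | h
    · rw [h] at hk; omega
    · exact h
  rcases Nat.lt_or_ge k 2 with hk2 | hk2
  · -- `k = 1`
    have hk' : k = 1 := by omega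
    rw [hk', mul_one] at hk
    subst hk
    have h12 : (y + 3) ∣ 12 := by
      have e : y * (y - 1) + 4 * (y + 3) = (y + 3) * y + 12 := by
        obtain ⟨z, rfl⟩ : ∃ z, y = z + 1 := ⟨y - 1, by omega⟩
        simp only [Nat.add_sub_cancel]
        ring
      have h1 : (y + 3) ∣ y * (y - 1) + 4 * (y + 3) :=
        Dvd.dvd.add hx2 (Dvd.intro_left _ rfl)
      rw [e] at h1
      exact (Nat.dvd_add_right (Dvd.intro _ rfl)).1 h1
    have hcases : y = 3 ∨ y = 9 := by
      obtain ⟨d, hd⟩ := h12
      have hd1 : 1 ≤ d := by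
        rcases Nat.eq_zero_or_pos d with h | h
        · rw [h] at hd; omega
        · exact h
      have hd2 : d ≤ 2 := by
        by_contra h
        have h3 : 3 ≤ d := by omega
        have : (y + 3) * 3 ≤ (y + 3) * d := Nat.mul_le_mul_left _ h3
        omega
      interval_cases d <;> omega
    rcases hcases with rfl | rfl
    · exact ⟨rfl, rfl⟩
    · exfalso
      apply hc 2 Nat.prime_two (by norm_num)
      rw [hcdef]
      decide
  · -- `k ≥ 2`
    exfalso
    have hxk : x = (y + 1) * k := hk
    have hy2x : y + 2 ≤ x := by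
      have : (y + 1) * 2 ≤ (y + 1) * k := Nat.mul_le_mul_left _ hk2
      omega
    -- step 4
    have h4 : (y + 1) * (y + 2) ∣ x * (x - 1) := by
      have hcop : Nat.Coprime ((y + 1) * (y + 2)) c := by
        apply coprime_of_small hc
        intro p hp hpd
        rcases (Nat.Prime.dvd_mul hp).1 hpd with h | h
        · have := Nat.le_of_dvd (by omega) h
          omega
        · have := Nat.le_of_dvd (by omega) h
          omega
      have hdvd : (y + 1) * (y + 2) ∣ c * (x * (x - 1)) := by
        rw [← I4]; exact Dvd.intro_left _ rfl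
      exact hcop.dvd_of_dvd_mul_left hdvd
    have h4' : (y + 2) ∣ k * (x - 1) := by
      have : (y + 1) * (y + 2) ∣ (y + 1) * (k * (x - 1)) := by
        have e : x * (x - 1) = (y + 1) * (k * (x - 1)) := by
          rw [← mul_assoc, ← hxk]
        rw [← e]; exact h4
      exact Nat.dvd_of_mul_dvd_mul_left (by omega) this
    have hkk : (y + 2) ∣ k * (k + 1) := by
      have e : k * (x - 1) + k * (k + 1) = (y + 2) * (k * k) := by
        have hx1' : x - 1 + 1 = x := by omega
        have : k * (x - 1) + k * (k + 1) = k * (x - 1 + 1) + k * k := by ring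
        rw [this, hx1', hxk]
        ring
      have h1 : (y + 2) ∣ k * (x - 1) + k * (k + 1) := by rw [e]; exact Dvd.intro _ rfl
      exact (Nat.dvd_add_right h4').1 h1
    -- `y ≥ k + 2`
    have hyk : k + 2 ≤ y := by
      by_contra hlt
      have hlt' : y ≤ k + 1 := by omega
      have h1 : (y + 1) * (y - 1) ≤ (y + 1) * k := Nat.mul_le_mul_left _ (by omega)
      have h2 : (y + 1) * (y - 1) + (y + 1) = (y + 1) * y := by
        obtain ⟨z, rfl⟩ : ∃ z, y = z + 1 := ⟨y - 1, by omega⟩
        simp only [Nat.add_sub_cancel]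
        ring
      have h3 : y * (y - 1) + y = y * y := by
        obtain ⟨z, rfl⟩ : ∃ z, y = z + 1 := ⟨y - 1, by omega⟩
        simp only [Nat.add_sub_cancel]
        ring
      nlinarith
    -- `x + 2 ∣ 2 (k+1)(k+2)`
    have hdiv : ((x : ℤ) + 2) ∣ 2 * ((k : ℤ) + 1) * ((k : ℤ) + 2) := by
      have h1 : ((x : ℤ) + 2) ∣ (y : ℤ) * ((y : ℤ) - 1) := by
        have := Int.natCast_dvd_natCast.2 hx2
        have e : ((y * (y - 1) : ℕ) : ℤ) = (y : ℤ) * ((y : ℤ) - 1) := by
          have : 1 ≤ y := by omega
          push_cast [Nat.cast_sub this]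
          ring
        rw [e] at this
        exact_mod_cast this
      have hxk' : (x : ℤ) = ((y : ℤ) + 1) * (k : ℤ) := by exact_mod_cast hxk
      have e : 2 * ((k : ℤ) + 1) * ((k : ℤ) + 2) =
          (k : ℤ) ^ 2 * ((y : ℤ) * ((y : ℤ) - 1)) -
            ((x : ℤ) + 2) * ((k : ℤ) * (y : ℤ) - 2 * (k : ℤ) - 2) := by
        rw [hxk']; ring
      rw [e]
      exact Dvd.dvd.sub (Dvd.dvd.mul_left h1 _) (Dvd.intro _ rfl)
    have hdivN : (x + 2) ∣ 2 * (k + 1) * (k + 2) := by
      have : ((x + 2 : ℕ) : ℤ) ∣ ((2 * (k + 1) * (k + 2) : ℕ) : ℤ) := by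
        push_cast
        exact hdiv
      exact Int.natCast_dvd_natCast.1 this
    have hDle : (k + 1) * (k + 2) ≤ x + 2 := by
      have : (k + 3) * k ≤ (y + 1) * k := Nat.mul_le_mul_right _ (by omega)
      nlinarith
    obtain ⟨e, he⟩ := hdivN
    have he1 : 1 ≤ e := by
      rcases Nat.eq_zero_or_pos e with h | h
      · rw [h] at he; nlinarith
      · exact h
    have he2 : e ≤ 2 := by
      by_contra h
      have h3 : 3 ≤ e := by omega
      have : (x + 2) * 3 ≤ (x + 2) * e := Nat.mul_le_mul_left _ h3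
      nlinarith
    have hyk2 : y = k + 2 := by
      rcases Nat.lt_or_ge e 2 with h | h
      · -- `e = 1`
        exfalso
        have he' : e = 1 := by omega
        rw [he', mul_one] at he
        -- `(y + 1) k + 2 = 2 k^2 + 6 k + 4`
        have h1 : (y + 1) * k = 2 * k * k + 6 * k + 2 := by
          have : 2 * (k + 1) * (k + 2) = 2 * k * k + 6 * k + 4 := by ring
          omega
        have hk2' : k ∣ 2 := by
          have h2 : k ∣ (y + 1) * k := Dvd.intro_left _ rfl
          rw [h1] at h2
          have h3 : k ∣ 2 * k * k + 6 * k := Dvd.dvd.add (Dvd.intro_left _ rfl) (Dvd.intro_left _ rfl)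
          exact (Nat.dvd_add_right h3).1 h2
        have hk2'' : k ≤ 2 := Nat.le_of_dvd (by norm_num) hk2'
        have hk2e : k = 2 := by omega
        rw [hk2e] at h1
        have hy10 : y = 10 := by omega
        have hx22 : x = 22 := by rw [hxk, hy10, hk2e]
        rw [hx22, hy10] at hx2
        norm_num at hx2
      · have he' : e = 2 := by omega
        rw [he'] at he
        have h1 : (y + 1) * k + 2 = (k + 1) * (k + 2) := by
          have : 2 * (k + 1) * (k + 2) = ((k + 1) * (k + 2)) * 2 := by ring
          omega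
        have h2 : (y + 1) * k = (k + 3) * k := by
          have : (k + 1) * (k + 2) = (k + 3) * k + 2 := by ring
          omega
        have := Nat.eq_of_mul_eq_mul_right (by omega : 0 < k) h2
        omega
    have hk_eq : k = y - 2 := by omega
    have h12 : (y + 2) ∣ 12 := by
      have e : k * (k + 1) + 5 * (y + 2) = (y + 2) * y + 12 := by
        rw [hk_eq]
        obtain ⟨z, rfl⟩ : ∃ z, y = z + 2 := ⟨y - 2, by omega⟩
        simp only [Nat.add_sub_cancel]
        ring
      have h1 : (y + 2) ∣ k * (k + 1) + 5 * (y + 2) := Dvd.dvd.add hkk (Dvd.intro_left _ rfl)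
      rw [e] at h1
      exact (Nat.dvd_add_right (Dvd.intro _ rfl)).1 h1
    have hcases : y = 4 ∨ y = 10 := by
      obtain ⟨d, hd⟩ := h12
      have hd1 : 1 ≤ d := by
        rcases Nat.eq_zero_or_pos d with h | h
        · rw [h] at hd; omega
        · exact h
      have hd2 : d ≤ 2 := by
        by_contra h
        have h3 : 3 ≤ d := by omega
        have : (y + 2) * 3 ≤ (y + 2) * d := Nat.mul_le_mul_left _ h3
        omega
      interval_cases d <;> omega
    rcases hcases with rfl | rfl
    · have hk2e : k = 2 := by omega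
      have hx10 : x = 10 := by rw [hxk, hk2e]
      apply hc 7 (by norm_num) (by omega)
      rw [hcdef, hx10]
      decide
    · have hk8 : k = 8 := by omega
      have hx88 : x = 88 := by rw [hxk, hk8]
      apply hc 2 Nat.prime_two (by omega)
      rw [hcdef, hx88, Nat.choose_eq_descFactorial_div_factorial]
      norm_num [Nat.descFactorial, Nat.factorial]

end Cfsg.Agent.Lib.Helper39_HallSymNT
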