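import Mathlib
import Cfsg.Agent.Lib.Helper39_HallSymNT

/-!
Arithmetic for the Hall subgroups of the symmetric groups: combining an orbit of size `x` with the
rest (of size `y`).
-/

set_option autoImplicit false

namespace Cfsg.Agent.Lib.Helper39_HallSymArith

open Cfsg.Agent.Lib.Helper39_HallSymNT (two_orbit)

/-- The possible sets of primes (up to `n`) of a Hall subgroup of the symmetric group of degree
`n`. -/
def Good (π : Set ℕ) (n : ℕ) : Prop :=
  (∀ r s : ℕ, r.Prime → s.Prime → r ∈ π → s ∈ π → r ≤ n → s ≤ n → r = s) ∨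
  (∀ r : ℕ, r.Prime → r ≤ n → r ∈ π) ∨
  (n.Prime ∧ ∀ r : ℕ, r.Prime → r ≤ n → (r ∈ π ↔ r < n)) ∨
  ((n = 7 ∨ n = 8) ∧ ∀ r : ℕ, r.Prime → r ≤ n → (r ∈ π ↔ (r = 2 ∨ r = 3)))

/-- A prime `y` does not divide `C(y + x, x)` when `x < y`. -/
theorem prime_not_dvd_choose {x y : ℕ} (hy : y.Prime) (hxy : x < y) :
    ¬ y ∣ Nat.choose (y + x) x := by
  intro hd
  have h1 : y ∣ (y + 1).ascFactorial x := by
    rw [Nat.ascFactorial_eq_factorial_mul_choose]
    exact Dvd.dvd.mul_left hd _
  rw [Nat.ascFactorial_eq_prod_range, Prime.dvd_finsetProd_iff (Nat.Prime.prime hy)] at h1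
  obtain ⟨i, hi, hdi⟩ := h1
  rw [Finset.mem_range] at hi
  have h2 : y ∣ 1 + i := by
    have : y + 1 + i = y + (1 + i) := by ring
    rw [this] at hdi
    exact (Nat.dvd_add_right (dvd_refl y)).1 hdi
  have := Nat.le_of_dvd (by omega) h2
  omega

theorem prime_le_four {p : ℕ} (hp : p.Prime) (h : p ≤ 4) : p = 2 ∨ p = 3 := by
  have h2 := hp.two_le
  have h4 : p ≠ 4 := by
    intro h; rw [h] at hp; exact absurd hp (by decide)
  omega

/-- Case where the orbit of size `x` carries the full symmetric group. -/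
theorem arith_all {π : Set ℕ} {x y n : ℕ} (hn : n = x + y) (hx3 : 3 ≤ x) (hy1 : 1 ≤ y)
    (hP : ∀ p : ℕ, p.Prime → p ≤ n → (p ∈ π ↔ p ≤ x))
    (hc : ∀ p : ℕ, p.Prime → p ∈ π → ¬ p ∣ Nat.choose (x + y) x)
    (hy : Good π y) (hq : ∃ q : ℕ, q.Prime ∧ q ≤ n ∧ q ∉ π) : Good π n := by
  have h2π : 2 ∈ π := (hP 2 Nat.prime_two (by omega)).2 (by omega)
  have h3π : 3 ∈ π := (hP 3 Nat.prime_three (by omega)).2 hx3
  have hc' : ∀ p : ℕ, p.Prime → p ∈ π → ¬ p ∣ Nat.choose (x + y) y := by
    intro p hp hpπ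
    rw [← Nat.choose_symm_add]
    exact hc p hp hpπ
  rcases lt_trichotomy y x with hlt | heq | hgt
  · rcases Nat.lt_or_ge y 2 with hy2 | hy2
    · -- `y = 1`
      have hy1' : y = 1 := by omega
      obtain ⟨q, hq, hqn, hqπ⟩ := hq
      have hqx : ¬ q ≤ x := fun h => hqπ ((hP q hq hqn).2 h)
      have hqn' : q = n := by omega
      right; right; left
      refine ⟨hqn' ▸ hq, ?_⟩
      intro r hr hrn
      rw [hP r hr hrn]
      omega
    · have hc2 : ∀ p : ℕ, p.Prime → p ≤ x → ¬ p ∣ Nat.choose (x + y) y := by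
        intro p hp hpx
        exact hc' p hp ((hP p hp (by omega)).2 hpx)
      obtain ⟨hx4, hy3⟩ := two_orbit x y hy2 hlt hc2
      right; right; right
      refine ⟨Or.inl (by omega), ?_⟩
      intro r hr hrn
      rw [hP r hr hrn, hx4]
      constructor
      · exact prime_le_four hr
      · rintro (rfl | rfl) <;> omega
  · -- `y = x`
    exfalso
    apply hc 2 Nat.prime_two h2π
    rw [heq]
    have := Nat.two_dvd_centralBinom_of_one_le (n := x) (by omega)
    rw [Nat.centralBinom_eq_two_mul_choose, two_mul] at this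
    exact this
  · -- `x < y`
    have hcxy : ∀ p : ℕ, p.Prime → p ∈ π → ¬ p ∣ Nat.choose (y + x) x := by
      intro p hp hpπ
      rw [add_comm y x]
      exact hc p hp hpπ
    rcases hy with h1 | h2 | h3 | h4
    · exfalso
      have := h1 2 3 Nat.prime_two Nat.prime_three h2π h3π (by omega) (by omega)
      omega
    · have hc2 : ∀ p : ℕ, p.Prime → p ≤ y → ¬ p ∣ Nat.choose (y + x) x := by
        intro p hp hpy
        exact hcxy p hp (h2 p hp hpy)
      obtain ⟨hy4, hx3'⟩ := two_orbit y x (by omega) hgt hc2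
      right; right; right
      refine ⟨Or.inl (by omega), ?_⟩
      intro r hr hrn
      rw [hP r hr hrn, hx3']
      constructor
      · intro h; exact prime_le_four hr (by omega)
      · rintro (rfl | rfl) <;> omega
    · exfalso
      have hc2 : ∀ p : ℕ, p.Prime → p ≤ y → ¬ p ∣ Nat.choose (y + x) x := by
        intro p hp hpy
        rcases Nat.lt_or_ge p y with h | h
        · exact hcxy p hp ((h3.2 p hp hpy).2 h)
        · have : p = y := le_antisymm hpy h
          rw [this]
          exact prime_not_dvd_choose h3.1 hgt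
      obtain ⟨hy4, _⟩ := two_orbit y x (by omega) hgt hc2
      rw [hy4] at h3
      exact absurd h3.1 (by decide)
    · exfalso
      obtain ⟨hy78, h4'⟩ := h4
      have h5 : ¬ (5 : ℕ) ≤ x := by
        intro h
        have h5π : 5 ∈ π := (hP 5 (by norm_num) (by omega)).2 h
        have := (h4' 5 (by norm_num) (by omega)).1 h5π
        omega
      have hx34 : x = 3 ∨ x = 4 := by omega
      rcases hy78 with rfl | rfl <;> rcases hx34 with rfl | rfl
      · exact hcxy 2 Nat.prime_two h2π (by decide)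
      · exact hcxy 2 Nat.prime_two h2π (by decide)
      · exact hcxy 3 Nat.prime_three h3π (by decide)
      · exact hcxy 3 Nat.prime_three h3π (by decide)

/-- Case where the orbit has size 8 and carries a `{2,3}`-group. -/
theorem arith_eight {π : Set ℕ} {y n : ℕ} (hn : n = 8 + y) (hy1 : 1 ≤ y)
    (hP : ∀ p : ℕ, p.Prime → p ≤ n → (p ∈ π ↔ (p = 2 ∨ p = 3)))
    (hc : ∀ p : ℕ, p.Prime → p ∈ π → ¬ p ∣ Nat.choose (8 + y) 8)
    (hy : Good π y) : False := by
  have h2π : 2 ∈ π := (hP 2 Nat.prime_two (by omega)).2 (Or.inl rfl)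
  have h3π : 3 ∈ π := (hP 3 Nat.prime_three (by omega)).2 (Or.inr rfl)
  have h5π : 5 ∉ π := by
    intro h
    have := (hP 5 (by norm_num) (by omega)).1 h
    omega
  have hc3 := hc 3 Nat.prime_three h3π
  rcases Nat.lt_or_ge y 5 with hy5 | hy5
  · have : y = 1 ∨ y = 2 ∨ y = 3 ∨ y = 4 := by omega
    rcases this with rfl | rfl | rfl | rfl <;> exact hc3 (by decide)
  · rcases hy with h1 | h2 | h3 | h4
    · have := h1 2 3 Nat.prime_two Nat.prime_three h2π h3π (by omega) (by omega)
      omega
    · exact h5π (h2 5 (by norm_num) hy5)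
    · rcases Nat.lt_or_ge 5 y with h | h
      · exact h5π ((h3.2 5 (by norm_num) hy5).2 h)
      · have : y = 5 := by omega
        subst this
        exact hc3 (by decide)
    · rcases h4.1 with rfl | rfl
      · apply hc3
        rw [Nat.choose_eq_descFactorial_div_factorial]
        norm_num [Nat.descFactorial, Nat.factorial]
      · apply hc3
        rw [Nat.choose_eq_descFactorial_div_factorial]
        norm_num [Nat.descFactorial, Nat.factorial]

end Cfsg.Agent.Lib.Helper39_HallSymArith
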