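import Mathlib
import Cfsg.Prelude.Def_HallClasses
import Cfsg.Agent.Lib.Helper39_HallBasic
import Cfsg.Agent.Lib.Helper39_HallSymPrim

/-!
Hall subgroups of symmetric groups: the constituents on invariant subsets.
-/

set_option autoImplicit false

namespace Cfsg.Agent.Lib.Helper39_HallSymOrbit

open Cfsg Equiv Equiv.Perm MulAction
open scoped Pointwise

variable {α : Type*} [Fintype α] [DecidableEq α] {π : Set ℕ}

/-- The index of the stabilizer of a set in the symmetric group is a binomial coefficient. -/
theorem index_stabilizer (s : Finset α) :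
    (stabilizer (Perm α) (s : Set α)).index = (Fintype.card α).choose s.card := by
  have h1 := Set.powersetCard.stabilizer_coe (G := Perm α) (α := α) (n := s.card)
    ⟨s, rfl⟩
  have : IsPretransitive (Perm α) (Set.powersetCard α s.card) := Set.powersetCard.isPretransitive
  have h2 := MulAction.index_stabilizer_of_transitive (Perm α)
    (⟨s, rfl⟩ : Set.powersetCard α s.card)
  rw [Set.powersetCard.card, Nat.card_eq_fintype_card] at h2
  rw [← h2, h1]
  rfl

/-- The constituent of a permutation group on an invariant subset. -/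
noncomputable def constituent (H : Subgroup (Perm α)) (Δ : Set α) : Subgroup (Perm Δ) :=
  (H.subgroupOf (stabilizer (Perm α) Δ)).map (MulAction.toPermHom (stabilizer (Perm α) Δ) Δ)

theorem mem_constituent {H : Subgroup (Perm α)} {Δ : Set α} {τ : Perm Δ} :
    τ ∈ constituent H Δ ↔
      ∃ h ∈ H, h ∈ stabilizer (Perm α) Δ ∧ ∀ x : Δ, h (x : α) = (τ x : α) := by
  unfold constituent
  rw [Subgroup.mem_map]
  constructor
  · rintro ⟨y, hy, rfl⟩
    refine ⟨y.1, hy, y.2, ?_⟩
    intro x
    rfl
  · rintro ⟨h, hH, hs, hx⟩
    refine ⟨⟨h, hs⟩, hH, ?_⟩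
    ext x
    exact hx x

theorem isPiHall_constituent {H : Subgroup (Perm α)} (hH : IsPiHall π H) (Δ : Set α)
    (hΔ : H ≤ stabilizer (Perm α) Δ) : IsPiHall π (constituent H Δ) := by
  unfold constituent
  apply Helper39_HallBasic.isPiHall_map (Helper39_HallBasic.isPiHall_subgroupOf hH hΔ)
  exact Equiv.Perm.stabilizer.surjective_toPerm Δ

/-- The order of a constituent divides the order of the group. -/
theorem card_constituent_dvd (H : Subgroup (Perm α)) (Δ : Set α) :
    Nat.card (constituent H Δ) ∣ Nat.card H := by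
  unfold constituent
  refine (Subgroup.card_map_dvd _ _).trans ?_
  have : Nat.card (H.subgroupOf (stabilizer (Perm α) Δ)) =
      Nat.card (H ⊓ stabilizer (Perm α) Δ : Subgroup (Perm α)) := by
    have e : H.subgroupOf (stabilizer (Perm α) Δ) =
        (H ⊓ stabilizer (Perm α) Δ).subgroupOf (stabilizer (Perm α) Δ) := by
      ext x
      simp [Subgroup.mem_subgroupOf]
    rw [e]
    exact Nat.card_congr (Subgroup.subgroupOfEquivOfLe inf_le_right).toEquiv
  rw [this]
  exact Subgroup.card_dvd_of_le inf_le_left

/-- A prime of `π` does not divide the binomial coefficient attached to an invariant subset. -/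
theorem not_dvd_choose {H : Subgroup (Perm α)} (hH : IsPiHall π H) (s : Finset α)
    (hs : H ≤ stabilizer (Perm α) (s : Set α)) {p : ℕ} (hp : p.Prime) (hpπ : p ∈ π) :
    ¬ p ∣ (Fintype.card α).choose s.card := by
  intro hd
  apply hH.2 p hp hpπ
  rw [← index_stabilizer] at hd
  exact hd.trans (Subgroup.index_dvd_of_le hs)

/-- membership in the stabilizer of a set, for finite types -/
theorem mem_stabilizer_of_forall {Δ : Set α} {h : Perm α} (hh : ∀ x ∈ Δ, h x ∈ Δ) :
    h ∈ stabilizer (Perm α) Δ := by
  rw [mem_stabilizer_set' (Set.toFinite Δ)]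
  intro b hb
  exact hh b hb

end Cfsg.Agent.Lib.Helper39_HallSymOrbit
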