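import Mathlib
import Cfsg.Prelude.Def_HallClasses
import Cfsg.Agent.Lib.Helper39_HallBasic
import Cfsg.Agent.Lib.Helper39_HallSymNT
import Cfsg.Agent.Lib.Helper39_HallSymArith
import Cfsg.Agent.Lib.Helper39_HallSymPrim
import Cfsg.Agent.Lib.Helper39_HallSymOrbit
import Cfsg.Agent.Lib.Helper39_HallSymImprim

/-!
Hall subgroups of symmetric groups (Hall, Thompson): the set of primes of a Hall subgroup.
-/

set_option autoImplicit false

namespace Cfsg.Agent.Lib.Helper39_HallSymMain

open Cfsg Equiv Equiv.Perm MulAction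
open scoped Pointwise
open Cfsg.Agent.Lib.Helper39_HallSymNT (two_orbit)
open Cfsg.Agent.Lib.Helper39_HallSymArith (Good arith_all arith_eight prime_le_four)
open Cfsg.Agent.Lib.Helper39_HallSymPrim (exists_cycle_mem prim_case card_perm')
open Cfsg.Agent.Lib.Helper39_HallSymOrbit (constituent mem_constituent isPiHall_constituent
  not_dvd_choose mem_stabilizer_of_forall)
open Cfsg.Agent.Lib.Helper39_HallSymImprim (imprim_case)

universe u

/-- The induction hypothesis. -/
def IHyp (π : Set ℕ) (m : ℕ) : Prop :=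
  ∀ k < m, ∀ (γ : Type u) [Finite γ], Nat.card γ = k → ∀ K₁ : Subgroup (Perm γ),
    IsPiHall π K₁ → Good π k

/-- **Transitive case.** -/
theorem trans_case {π : Set ℕ} {β : Type u} [Fintype β] [DecidableEq β]
    (IH : IHyp.{u} π (Fintype.card β)) {K : Subgroup (Perm β)} (hK : IsPiHall π K)
    (htr : IsPretransitive K β) {r s : ℕ} (hr : r.Prime) (hs : s.Prime) (hrs : r < s)
    (hrπ : r ∈ π) (hsπ : s ∈ π) (hsm : s ≤ Fintype.card β) :
    (∀ p : ℕ, p.Prime → p ≤ Fintype.card β → p ∈ π) ∨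
      (Fintype.card β = 8 ∧ ∀ p : ℕ, p.Prime → p ≤ 8 → (p ∈ π ↔ (p = 2 ∨ p = 3))) := by
  by_cases hprim : IsPreprimitive K β
  · left
    exact prim_case hK hprim hr hs hrs hrπ hsπ hsm
  · obtain ⟨a, b, ha2, hb2, hm, hsa, ⟨γ, _, K₁, hγ, hK₁⟩, hch⟩ := imprim_case hK htr hprim
    have ham : a < Fintype.card β := by rw [hm]; nlinarith
    have hG := IH a ham γ hγ K₁ hK₁
    have hsa' : s ≤ a := hsa s hs hsπ hsm
    have hr2 := hr.two_le
    have ha3 : 3 ≤ a := by omega
    have hdiv : Fintype.card β ∣ Nat.card K := by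
      have hne : Nonempty β := by
        rw [← Fintype.card_pos_iff]; omega
      obtain ⟨x⟩ := hne
      have h1 := MulAction.index_stabilizer_of_transitive K x
      rw [Nat.card_eq_fintype_card] at h1
      rw [← h1]
      exact Subgroup.index_dvd_card _
    have hadiv : a ∣ Nat.card K := (Dvd.intro b hm.symm).trans hdiv
    rcases hG with h1 | h2 | h3 | h4
    · exfalso
      have := h1 r s hr hs hrπ hsπ (by omega) hsa'
      omega
    · right
      have hc : ∀ p : ℕ, p.Prime → p ≤ a → ¬ p ∣ Nat.choose (a + (a - 1)) (a - 1) := by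
        intro p hp hpa
        have := hch p hp (h2 p hp hpa) 1 (by omega)
        have e : (1 + 1) * a - 1 = a + (a - 1) := by omega
        rwa [e] at this
      obtain ⟨ha4, _⟩ := two_orbit a (a - 1) (by omega) (by omega) hc
      subst ha4
      have h3π : 3 ∈ π := h2 3 Nat.prime_three (by norm_num)
      have hb : b = 2 := by
        by_contra hb
        exact hch 3 Nat.prime_three h3π 2 (by omega) (by decide)
      subst hb
      refine ⟨by rw [hm], ?_⟩
      intro p hp hp8
      constructor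
      · intro hpπ
        exact prime_le_four hp (hsa p hp hpπ (by rw [hm]; exact hp8))
      · rintro (rfl | rfl)
        · exact h2 2 Nat.prime_two (by norm_num)
        · exact h3π
    · exfalso
      have : a ∈ π := hK.1 a h3.1 hadiv
      have := (h3.2 a h3.1 le_rfl).1 this
      omega
    · exfalso
      obtain ⟨h78, h4'⟩ := h4
      rcases h78 with h7 | h8
      · subst h7
        have : 7 ∈ π := hK.1 7 (by norm_num) hadiv
        have := (h4' 7 (by norm_num) le_rfl).1 this
        omega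
      · subst h8
        have h3π : 3 ∈ π := (h4' 3 Nat.prime_three (by norm_num)).2 (Or.inr rfl)
        apply hch 3 Nat.prime_three h3π 1 (by omega)
        rw [Nat.choose_eq_descFactorial_div_factorial]
        norm_num [Nat.descFactorial, Nat.factorial]

/-- **Hall subgroups of symmetric groups**: the primes (up to the degree) of a Hall subgroup. -/
theorem good_of_hall (π : Set ℕ) : ∀ n : ℕ, ∀ (α : Type u) [Finite α], Nat.card α = n →
    ∀ H : Subgroup (Perm α), IsPiHall π H → Good π n := by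
  intro n
  induction n using Nat.strong_induction_on with
  | _ n IH =>
  intro α _ hn H hH
  classical
  have := Fintype.ofFinite α
  rw [Nat.card_eq_fintype_card] at hn
  by_cases h1 : ∀ r s : ℕ, r.Prime → s.Prime → r ∈ π → s ∈ π → r ≤ n → s ≤ n → r = s
  · exact Or.inl h1
  push Not at h1
  obtain ⟨r₀, s₀, hr₀, hs₀, hr₀π, hs₀π, hr₀n, hs₀n, hne⟩ := h1
  -- the largest prime of `π` up to `n`
  set P := (Finset.range (n + 1)).filter (fun p => p.Prime ∧ p ∈ π) with hPdef
  have hPmem : ∀ p, p ∈ P ↔ p.Prime ∧ p ∈ π ∧ p ≤ n := by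
    intro p
    rw [hPdef, Finset.mem_filter, Finset.mem_range]
    constructor
    · rintro ⟨h1, h2, h3⟩; exact ⟨h2, h3, by omega⟩
    · rintro ⟨h1, h2, h3⟩; exact ⟨by omega, h1, h2⟩
  have hPne : P.Nonempty := ⟨r₀, (hPmem r₀).2 ⟨hr₀, hr₀π, hr₀n⟩⟩
  set s := P.max' hPne with hsdef
  have hsP : s ∈ P := Finset.max'_mem _ _
  have hsmax : ∀ p ∈ P, p ≤ s := fun p hp => Finset.le_max' _ _ hp
  obtain ⟨hs, hsπ, hsn⟩ := (hPmem s).1 hsP
  obtain ⟨r, hr, hrπ, hrs⟩ : ∃ r : ℕ, r.Prime ∧ r ∈ π ∧ r < s := by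
    rcases eq_or_ne r₀ s with h | h
    · refine ⟨s₀, hs₀, hs₀π, lt_of_le_of_ne (hsmax s₀ ((hPmem s₀).2 ⟨hs₀, hs₀π, hs₀n⟩)) ?_⟩
      rw [← h]; exact hne.symm
    · exact ⟨r₀, hr₀, hr₀π, lt_of_le_of_ne (hsmax r₀ ((hPmem r₀).2 ⟨hr₀, hr₀π, hr₀n⟩)) h⟩
  have hr2 := hr.two_le
  -- an `s`-cycle and its orbit
  obtain ⟨g, hgH, hgc, hgs⟩ := exists_cycle_mem hH hs hsπ (by rw [hn]; exact hsn)
  have hne' : g.support.Nonempty := by
    rw [← Finset.card_pos, hgs]; exact hs.pos
  obtain ⟨a, ha⟩ := hne'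
  set Δ : Set α := MulAction.orbit H a with hΔdef
  have hΔ : H ≤ stabilizer (Perm α) Δ := by
    intro h hh
    apply mem_stabilizer_of_forall
    rintro x ⟨k, rfl⟩
    exact ⟨⟨h, hh⟩ * k, by show (⟨h, hh⟩ * k : H) • a = h (k • a); rw [mul_smul]; rfl⟩
  have hsupp : g.support ⊆ Δ.toFinset := by
    intro y hy
    rw [Set.mem_toFinset]
    obtain ⟨i, hi⟩ := hgc.exists_pow_eq (mem_support.1 ha) (mem_support.1 hy)
    exact ⟨⟨g ^ i, H.pow_mem hgH i⟩, hi⟩
  have hsm : s ≤ Fintype.card Δ := by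
    rw [← hgs, ← Set.toFinset_card]
    exact Finset.card_le_card hsupp
  have hmn : Fintype.card Δ ≤ n := by
    rw [← hn]; exact Fintype.card_subtype_le _
  -- the transitive constituent
  have hK := isPiHall_constituent hH Δ hΔ
  have htr : IsPretransitive (constituent H Δ) Δ := by
    constructor
    rintro ⟨x, k, rfl⟩ ⟨y, k', rfl⟩
    have hmem : (k' * k⁻¹).1 ∈ stabilizer (Perm α) Δ := hΔ (k' * k⁻¹).2
    refine ⟨⟨MulAction.toPerm (⟨(k' * k⁻¹).1, hmem⟩ : stabilizer (Perm α) Δ), ?_⟩, ?_⟩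
    · rw [mem_constituent]
      exact ⟨(k' * k⁻¹).1, (k' * k⁻¹).2, hmem, fun _ => rfl⟩
    · apply Subtype.ext
      show (k' * k⁻¹).1 (k • a) = k' • a
      show (k' * k⁻¹) • (k • a) = k' • a
      rw [← mul_smul, inv_mul_cancel_right]
  have IH' : IHyp.{u} π (Fintype.card Δ) :=
    fun k hk γ _ hγ K₁ hK₁ => IH k (by omega) γ hγ K₁ hK₁
  have T := trans_case IH' hK htr hr hs hrs hrπ hsπ hsm
  -- the binomial coefficient
  have hbin : ∀ p : ℕ, p.Prime → p ∈ π → ¬ p ∣ n.choose (Fintype.card Δ) := by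
    intro p hp hpπ
    have := not_dvd_choose hH Δ.toFinset (by rw [Set.coe_toFinset]; exact hΔ) hp hpπ
    rwa [hn, Set.toFinset_card] at this
  rcases Nat.lt_or_ge (Fintype.card Δ) n with hlt | hge
  swap
  · have hmn' : Fintype.card Δ = n := le_antisymm hmn hge
    rcases T with T | ⟨T8, T⟩
    · right; left
      rw [← hmn']; exact T
    · right; right; right
      have hn8 : n = 8 := by omega
      refine ⟨Or.inr hn8, ?_⟩
      rw [hn8]; exact T
  · -- the complement
    have hΔc : H ≤ stabilizer (Perm α) Δᶜ := by rw [stabilizer_compl]; exact hΔ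
    have hKc := isPiHall_constituent hH Δᶜ hΔc
    obtain ⟨y, hy⟩ : ∃ y, n = Fintype.card Δ + y := ⟨n - Fintype.card Δ, by omega⟩
    have hy1 : 1 ≤ y := by omega
    have hcardc : Nat.card (Δᶜ : Set α) = y := by
      rw [Nat.card_eq_fintype_card, Fintype.card_compl_set]
      omega
    have hGy : Good π y := IH y (by omega) (Δᶜ : Set α) hcardc _ hKc
    by_cases hall : ∀ p : ℕ, p.Prime → p ≤ n → p ∈ π
    · exact Or.inr (Or.inl hall)
    push Not at hall
    obtain ⟨q, hq, hqn, hqπ⟩ := hall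
    rcases T with T | ⟨T8, T⟩
    · apply arith_all hy (by omega) hy1 _ _ hGy ⟨q, hq, hqn, hqπ⟩
      · intro p hp hpn
        constructor
        · intro hpπ
          exact (hsmax p ((hPmem p).2 ⟨hp, hpπ, hpn⟩)).trans hsm
        · exact T p hp
      · intro p hp hpπ
        rw [← hy]
        exact hbin p hp hpπ
    · exfalso
      rw [T8] at hy hsm hbin
      apply arith_eight hy hy1 _ _ hGy
      · intro p hp hpn
        constructor
        · intro hpπ
          have hp8 : p ≤ 8 := (hsmax p ((hPmem p).2 ⟨hp, hpπ, hpn⟩)).trans hsm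
          exact (T p hp hp8).1 hpπ
        · intro h
          have hp8 : p ≤ 8 := by rcases h with rfl | rfl <;> omega
          exact (T p hp hp8).2 h
      · intro p hp hpπ
        rw [← hy]
        exact hbin p hp hpπ

end Cfsg.Agent.Lib.Helper39_HallSymMain
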