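import Mathlib
import Cfsg.Prelude.Def_HallClasses
import Cfsg.Agent.Lib.Helper39_HallBasic
import Cfsg.Agent.Lib.Helper39_HallSymPrim
import Cfsg.Agent.Lib.Helper39_HallSymOrbit
import Cfsg.Agent.Lib.Helper39_HallSymImprim
import Cfsg.Agent.Lib.Helper39_HallSymMain

/-!
Hall subgroups of symmetric groups: the structure in the nonstandard cases (point stabilizer in
prime degree, stabilizer of a 3-set in degree 7, stabilizer of a partition `4 | 4` in degree 8),
and the conjugacy of Hall subgroups.
-/

set_option autoImplicit false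

namespace Cfsg.Agent.Lib.Helper32_HallSymStruct

open Cfsg Equiv Equiv.Perm MulAction
open scoped Pointwise
open Cfsg.Agent.Lib.Helper39_HallSymPrim (card_perm' le_of_dvd_card dvd_card_of_le)
open Cfsg.Agent.Lib.Helper39_HallSymOrbit (index_stabilizer constituent isPiHall_constituent
  mem_stabilizer_of_forall)
open Cfsg.Agent.Lib.Helper39_HallSymArith (Good)

section generic

variable {G : Type*} [Group G] {π : Set ℕ}

/-- Hall subgroups for a set of primes with at most one prime dividing the group order are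
conjugate (Sylow). -/
theorem single_conj [Finite G]
    (h : ∀ r s : ℕ, r.Prime → s.Prime → r ∈ π → s ∈ π → r ∣ Nat.card G → s ∣ Nat.card G → r = s)
    {H K : Subgroup G} (hH : IsPiHall π H) (hK : IsPiHall π K) :
    ∃ g : G, K = H.map (MulAut.conj g).toMonoidHom := by
  by_cases hex : ∃ p : ℕ, p.Prime ∧ p ∈ π ∧ p ∣ Nat.card G
  · obtain ⟨p, hp, hpπ, hpG⟩ := hex
    have : Fact p.Prime := ⟨hp⟩
    have key : ∀ L : Subgroup G, IsPiHall π L → IsPGroup p L := by
      intro L hL
      have h0 : Nat.card L ≠ 0 := Nat.card_pos.ne'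
      apply IsPGroup.of_card (Nat.eq_prime_pow_of_unique_prime_dvd h0 _)
      intro q hq hqd
      exact h q p hq hp (hL.1 q hq hqd) hpπ (hqd.trans (Subgroup.card_subgroup_dvd_card L)) hpG
    obtain ⟨g, hg⟩ := MulAction.exists_smul_eq G ((key H hH).toSylow (hH.2 p hp hpπ))
      ((key K hK).toSylow (hK.2 p hp hpπ))
    refine ⟨g, ?_⟩
    have h1 := congrArg (fun P : Sylow p G => (P : Subgroup G)) hg
    simp only [Sylow.coe_subgroup_smul, IsPGroup.toSylow_coe] at h1
    rw [← h1]
    ext x
    rw [Subgroup.mem_pointwise_smul_iff_inv_smul_mem, Subgroup.mem_map]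
    constructor
    · intro hx
      refine ⟨_, hx, ?_⟩
      simp only [MulAut.smul_def, MulEquiv.coe_toMonoidHom, MulAut.conj_inv_apply,
        MulAut.conj_apply]
      group
    · rintro ⟨y, hy, rfl⟩
      simp only [MulAut.smul_def, MulEquiv.coe_toMonoidHom, MulAut.conj_inv_apply,
        MulAut.conj_apply]
      have e : g⁻¹ * (g * y * g⁻¹) * g = y := by group
      rw [e]
      exact hy
  · push Not at hex
    have key : ∀ L : Subgroup G, IsPiHall π L → L = ⊥ := by
      intro L hL
      rw [← Subgroup.card_eq_one]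
      by_contra hne
      obtain ⟨q, hq, hqd⟩ := Nat.exists_prime_and_dvd hne
      exact hex q hq (hL.1 q hq hqd) (hqd.trans (Subgroup.card_subgroup_dvd_card L))
    refine ⟨1, ?_⟩
    rw [key H hH, key K hK, Subgroup.map_bot]

end generic

section arith

theorem le_choose : ∀ n d : ℕ, 1 ≤ d → d + 1 ≤ n → n ≤ n.choose d := by
  intro n
  induction n with
  | zero => intro d h1 h2; omega
  | succ n ih =>
    intro d h1 h2
    rcases (by omega : d = 1 ∨ d = n ∨ (2 ≤ d ∧ d + 1 ≤ n)) with h | h | h
    · subst h; simp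
    · subst h; simp
    · obtain ⟨e, rfl⟩ : ∃ e, d = e + 1 := ⟨d - 1, by omega⟩
      rw [Nat.choose_succ_succ']
      have h3 := ih e (by omega) (by omega)
      have h4 : 0 < n.choose (e + 1) := Nat.choose_pos (by omega)
      omega

theorem lt_choose {n d : ℕ} (h1 : 2 ≤ d) (h2 : d + 2 ≤ n) : n < n.choose d := by
  obtain ⟨m, rfl⟩ : ∃ m, n = m + 1 := ⟨n - 1, by omega⟩
  obtain ⟨e, rfl⟩ : ∃ e, d = e + 1 := ⟨d - 1, by omega⟩
  rw [Nat.choose_succ_succ']
  have h3 := le_choose m e (by omega) (by omega)
  have h4 := le_choose m (e + 1) (by omega) (by omega)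
  omega

end arith

section orbits

variable {α : Type*} [Fintype α] [DecidableEq α] {π : Set ℕ}

theorem le_stabilizer_orbit (H : Subgroup (Perm α)) (x : α) :
    H ≤ stabilizer (Perm α) (orbit H x) := by
  intro h hh
  apply mem_stabilizer_of_forall
  rintro y ⟨k, rfl⟩
  exact ⟨⟨h, hh⟩ * k, by show (⟨h, hh⟩ * k : H) • x = h (k • x); rw [mul_smul]; rfl⟩

theorem choose_dvd_index (H : Subgroup (Perm α)) (x : α) :
    (Fintype.card α).choose (Nat.card (orbit H x)) ∣ H.index := by
  classical
  have h1 := index_stabilizer (α := α) (orbit H x).toFinset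
  rw [Set.coe_toFinset, Set.toFinset_card] at h1
  rw [Nat.card_eq_fintype_card, ← h1]
  exact Subgroup.index_dvd_of_le (le_stabilizer_orbit H x)

theorem card_orbit_dvd (H : Subgroup (Perm α)) (x : α) :
    Nat.card (orbit H x) ∣ Nat.card H := by
  classical
  have : Fintype H := Fintype.ofFinite H
  have h := MulAction.card_orbit_mul_card_stabilizer_eq_card_group H x
  rw [Nat.card_eq_fintype_card, Nat.card_eq_fintype_card, ← h]
  exact Dvd.intro _ rfl

omit [DecidableEq α] in
theorem card_orbit_pos (H : Subgroup (Perm α)) (x : α) : 0 < Nat.card (orbit H x) := by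
  have : Nonempty (orbit H x) := ⟨⟨x, mem_orbit_self x⟩⟩
  exact Nat.card_pos

omit [DecidableEq α] in
theorem card_orbit_le (H : Subgroup (Perm α)) (x : α) :
    Nat.card (orbit H x) ≤ Fintype.card α := by
  classical
  rw [Nat.card_eq_fintype_card]
  exact Fintype.card_subtype_le _

omit [Fintype α] [DecidableEq α] in
/-- an orbit of size one is a fixed point -/
theorem fixed_of_card_orbit_eq_one {H : Subgroup (Perm α)} {x : α}
    (h : Nat.card (orbit H x) = 1) : ∀ k ∈ H, k x = x := by
  intro k hk
  rw [Nat.card_eq_one_iff_unique] at h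
  obtain ⟨hs, _⟩ := h
  have h1 : (⟨k x, ⟨⟨k, hk⟩, rfl⟩⟩ : orbit H x) = ⟨x, mem_orbit_self x⟩ := Subsingleton.elim _ _
  exact congrArg Subtype.val h1

/-- an orbit missing exactly one point gives a fixed point -/
theorem fixed_of_card_orbit_eq_pred {H : Subgroup (Perm α)} {x : α}
    (h : Nat.card (orbit H x) + 1 = Fintype.card α) : ∃ y, ∀ k ∈ H, k y = y := by
  classical
  have h1 : ((orbit H x).toFinsetᶜ).card = 1 := by
    rw [Finset.card_compl, Set.toFinset_card]
    rw [Nat.card_eq_fintype_card] at h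
    omega
  obtain ⟨y, hy⟩ := Finset.card_eq_one.1 h1
  refine ⟨y, fun k hk => ?_⟩
  have hmem : ∀ z, z ∈ (orbit H x).toFinsetᶜ ↔ z ∉ orbit H x := by
    intro z
    rw [Finset.mem_compl, Set.mem_toFinset]
  have hy' : y ∉ orbit H x := (hmem y).1 (by rw [hy]; exact Finset.mem_singleton_self y)
  have hky : k y ∉ orbit H x := by
    intro hc
    apply hy'
    have := MulAction.mem_orbit_of_mem_orbit (⟨k, hk⟩⁻¹ : H) hc
    have e : (⟨k, hk⟩⁻¹ : H) • (k y) = y := by
      show k⁻¹ (k y) = y
      simp
    rwa [e] at this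
  have := (hmem (k y)).2 hky
  rw [hy, Finset.mem_singleton] at this
  exact this

end orbits

section primeCase

variable {α : Type*} [Fintype α] [DecidableEq α] {π : Set ℕ}

/-- In prime degree `n` with `π ∩ [1, n]` the set of primes below `n`, a Hall subgroup has index
`n`. -/
theorem index_of_prime {H : Subgroup (Perm α)} (hH : IsPiHall π H)
    (hn : (Fintype.card α).Prime)
    (hP : ∀ r : ℕ, r.Prime → r ≤ Fintype.card α → (r ∈ π ↔ r < Fintype.card α)) :
    H.index = Fintype.card α := by
  set n := Fintype.card α with hndef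
  have hcard := Subgroup.card_mul_index H
  rw [card_perm'] at hcard
  have hnπ : n ∉ π := fun h => by
    have := (hP n hn le_rfl).1 h
    omega
  have hnH : ¬ n ∣ Nat.card H := fun h => hnπ (hH.1 n hn h)
  have hnI : n ∣ H.index := by
    have h1 : n ∣ Nat.card H * H.index := by
      rw [hcard]
      exact (Nat.Prime.dvd_factorial hn).2 le_rfl
    rcases (Nat.Prime.dvd_mul hn).1 h1 with h | h
    · exact absurd h hnH
    · exact h
  have hprimes : ∀ q : ℕ, q.Prime → q ∣ H.index → q = n := by
    intro q hq hqd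
    have hqn : q ≤ n := by
      have : q ∣ n.factorial := by
        rw [← hcard]
        exact Dvd.dvd.mul_left hqd _
      exact (Nat.Prime.dvd_factorial hq).1 this
    have hqπ : q ∉ π := fun h => hH.2 q hq h hqd
    have := (hP q hq hqn).not.1 hqπ
    omega
  obtain ⟨t, ht⟩ := hnI
  have ht1 : t = 1 := by
    by_contra hne
    obtain ⟨q, hq, hqt⟩ := Nat.exists_prime_and_dvd hne
    have hqn := hprimes q hq (by rw [ht]; exact Dvd.dvd.mul_left hqt _)
    rw [hqn] at hqt
    obtain ⟨u, rfl⟩ := hqt
    have h2 : n * n ∣ n.factorial := by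
      rw [← hcard, ht]
      exact ⟨Nat.card H * u, by ring⟩
    obtain ⟨k, hk⟩ : ∃ k, n = k + 1 := ⟨n - 1, by have := hn.pos; omega⟩
    rw [hk, Nat.factorial_succ] at h2
    have h3 : k + 1 ∣ k.factorial := Nat.dvd_of_mul_dvd_mul_left (by omega) h2
    rw [← hk] at h3
    have := (Nat.Prime.dvd_factorial hn).1 h3
    omega
  rw [ht, ht1, mul_one]

/-- In prime degree `n` with `π ∩ [1, n]` the set of primes below `n`, a Hall subgroup is a point
stabilizer. -/
theorem eq_stabilizer_of_prime {H : Subgroup (Perm α)} (hH : IsPiHall π H)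
    (hn : (Fintype.card α).Prime)
    (hP : ∀ r : ℕ, r.Prime → r ≤ Fintype.card α → (r ∈ π ↔ r < Fintype.card α)) :
    ∃ x : α, H = stabilizer (Perm α) x := by
  have hidx := index_of_prime hH hn hP
  have hne : Nonempty α := by
    rw [← Fintype.card_pos_iff]
    exact hn.pos
  have hnπ : Fintype.card α ∉ π := fun h => by
    have := (hP _ hn le_rfl).1 h
    omega
  -- a fixed point
  obtain ⟨z, hz⟩ : ∃ z, ∀ k ∈ H, k z = z := by
    obtain ⟨x⟩ := hne
    have h1 := choose_dvd_index H x
    rw [hidx] at h1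
    have h2 := card_orbit_dvd H x
    have h3 := card_orbit_pos H x
    have h4 := card_orbit_le H x
    set d := Nat.card (orbit H x) with hd
    have hdn : d ≠ Fintype.card α := by
      intro h
      rw [h] at h2
      exact hnπ (hH.1 _ hn h2)
    have h5 : Nat.choose (Fintype.card α) d ≤ Fintype.card α := Nat.le_of_dvd hn.pos h1
    rcases (by omega : d = 1 ∨ d + 1 = Fintype.card α ∨ (2 ≤ d ∧ d + 2 ≤ Fintype.card α))
      with h | h | h
    · exact ⟨x, fixed_of_card_orbit_eq_one h⟩
    · exact fixed_of_card_orbit_eq_pred h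
    · have := lt_choose h.1 h.2
      omega
  refine ⟨z, ?_⟩
  have hle : H ≤ stabilizer (Perm α) z := fun k hk => hz k hk
  apply le_antisymm hle
  rw [← Subgroup.relIndex_eq_one]
  have h1 := Subgroup.relIndex_mul_index hle
  rw [index_stabilizer_of_transitive (Perm α) z, hidx, Nat.card_eq_fintype_card] at h1
  have hpos : 0 < Fintype.card α := hn.pos
  exact Nat.eq_of_mul_eq_mul_right hpos (by rw [h1, one_mul])

end primeCase

section twoThree

variable {α : Type*} [Fintype α] [DecidableEq α] {π : Set ℕ}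

theorem not_good_six (h2 : 2 ∈ π) (h3 : 3 ∈ π) (h5 : 5 ∉ π) : ¬ Good π 6 := by
  rintro (h | h | h | h)
  · have := h 2 3 Nat.prime_two Nat.prime_three h2 h3 (by norm_num) (by norm_num)
    omega
  · exact h5 (h 5 (by norm_num) (by norm_num))
  · exact absurd h.1 (by decide)
  · rcases h.1 with h | h <;> omega

/-- In degree 7 or 8 with `π ∩ [1, n] = {2, 3}`, a Hall subgroup has index 35. -/
theorem index_of_two_three {H : Subgroup (Perm α)} (hH : IsPiHall π H)
    (hn : Fintype.card α = 7 ∨ Fintype.card α = 8)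
    (hP : ∀ r : ℕ, r.Prime → r ≤ Fintype.card α → (r ∈ π ↔ (r = 2 ∨ r = 3))) :
    H.index = 35 := by
  have h7 : 7 ≤ Fintype.card α := by omega
  have h2 : 2 ∈ π := (hP 2 Nat.prime_two (by omega)).2 (Or.inl rfl)
  have h3 : 3 ∈ π := (hP 3 Nat.prime_three (by omega)).2 (Or.inr rfl)
  have h5 : 5 ∉ π := fun h => by
    have := (hP 5 (by norm_num) (by omega)).1 h
    omega
  have h7' : 7 ∉ π := fun h => by
    have := (hP 7 (by norm_num) (by omega)).1 h
    omega
  have hcard := Subgroup.card_mul_index H
  rw [card_perm'] at hcard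
  have hc2 : Nat.Coprime H.index 2 :=
    ((Nat.Prime.coprime_iff_not_dvd Nat.prime_two).2 (hH.2 2 Nat.prime_two h2)).symm
  have hc3 : Nat.Coprime H.index 3 :=
    ((Nat.Prime.coprime_iff_not_dvd Nat.prime_three).2 (hH.2 3 Nat.prime_three h3)).symm
  have hdvd35 : H.index ∣ 35 := by
    have h1 : H.index ∣ (Fintype.card α).factorial := Dvd.intro_left _ hcard
    rcases hn with hn | hn
    · rw [hn] at h1
      have e : Nat.factorial 7 = (2 ^ 4 * 3 ^ 2) * 35 := by decide
      rw [e] at h1
      exact Nat.Coprime.dvd_of_dvd_mul_left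
        (Nat.Coprime.mul_right (hc2.pow_right 4) (hc3.pow_right 2)) h1
    · rw [hn] at h1
      have e : Nat.factorial 8 = (2 ^ 7 * 3 ^ 2) * 35 := by decide
      rw [e] at h1
      exact Nat.Coprime.dvd_of_dvd_mul_left
        (Nat.Coprime.mul_right (hc2.pow_right 7) (hc3.pow_right 2)) h1
  have hq : ∀ q : ℕ, q.Prime → q ≤ 7 → q ∉ π → q ∣ H.index := by
    intro q hq hq7 hqπ
    have h1 : q ∣ Nat.card H * H.index := by
      rw [hcard]
      exact (Nat.Prime.dvd_factorial hq).2 (by omega)
    rcases (Nat.Prime.dvd_mul hq).1 h1 with h | h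
    · exact absurd (hH.1 q hq h) hqπ
    · exact h
  have h35 : 35 ∣ H.index := by
    have e : 35 = 5 * 7 := by norm_num
    rw [e]
    exact Nat.Coprime.mul_dvd_of_dvd_of_dvd (by norm_num) (hq 5 (by norm_num) (by norm_num) h5)
      (hq 7 (by norm_num) (by norm_num) h7')
  exact Nat.dvd_antisymm hdvd35 h35

/-- a subgroup of the same index containing another is equal to it -/
theorem eq_of_le_of_index_eq {G : Type*} [Group G] [Finite G] {H K : Subgroup G} (hle : H ≤ K)
    (h : H.index = K.index) : H = K := by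
  apply le_antisymm hle
  rw [← Subgroup.relIndex_eq_one]
  have h1 := Subgroup.relIndex_mul_index hle
  rw [h] at h1
  have hpos : 0 < K.index := Nat.pos_of_ne_zero (Subgroup.index_ne_zero_of_finite)
  exact Nat.eq_of_mul_eq_mul_right hpos (by rw [h1, one_mul])

/-- **Degree 7**: the Hall `{2,3}`-subgroups are the stabilizers of the 3-subsets. -/
theorem eq_stabilizer_seven {H : Subgroup (Perm α)} (hH : IsPiHall π H)
    (hn : Fintype.card α = 7)
    (hP : ∀ r : ℕ, r.Prime → r ≤ Fintype.card α → (r ∈ π ↔ (r = 2 ∨ r = 3))) :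
    ∃ s : Finset α, s.card = 3 ∧ H = stabilizer (Perm α) (s : Set α) := by
  classical
  have hidx := index_of_two_three hH (Or.inl hn) hP
  have h2 : 2 ∈ π := (hP 2 Nat.prime_two (by omega)).2 (Or.inl rfl)
  have h3 : 3 ∈ π := (hP 3 Nat.prime_three (by omega)).2 (Or.inr rfl)
  have h5 : 5 ∉ π := fun h => by
    have := (hP 5 (by norm_num) (by omega)).1 h
    omega
  have h7' : 7 ∉ π := fun h => by
    have := (hP 7 (by norm_num) (by omega)).1 h
    omega
  have hnofix : ¬ ∃ z, ∀ k ∈ H, k z = z := by
    rintro ⟨z, hz⟩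
    have hΔ : H ≤ stabilizer (Perm α) ({z}ᶜ : Set α) := by
      intro k hk
      apply mem_stabilizer_of_forall
      intro y hy hky
      apply hy
      rw [Set.mem_singleton_iff] at hky ⊢
      apply k.injective
      rw [hky, hz k hk]
    have hK := isPiHall_constituent hH _ hΔ
    have hcard : Nat.card ({z}ᶜ : Set α) = 6 := by
      rw [Nat.card_eq_fintype_card, Fintype.card_compl_set]
      simp [hn]
    exact not_good_six h2 h3 h5
      (Helper39_HallSymMain.good_of_hall π 6 _ hcard _ hK)
  have hne : Nonempty α := by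
    rw [← Fintype.card_pos_iff]; omega
  obtain ⟨x⟩ := hne
  have h1 := choose_dvd_index H x
  rw [hidx, hn] at h1
  have h2' := card_orbit_dvd H x
  have h3' := card_orbit_pos H x
  have h4 := card_orbit_le H x
  rw [hn] at h4
  have hfin : ∀ s : Finset α, s.card = 3 → H ≤ stabilizer (Perm α) (s : Set α) →
      ∃ s : Finset α, s.card = 3 ∧ H = stabilizer (Perm α) (s : Set α) := by
    intro s hs hle
    refine ⟨s, hs, eq_of_le_of_index_eq hle ?_⟩
    rw [hidx, Cfsg.Agent.Lib.Helper39_HallSymOrbit.index_stabilizer s, hs, hn]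
    rfl
  have horb : Nat.card (orbit H x) = ((orbit H x).toFinset).card := by
    rw [Set.toFinset_card, Nat.card_eq_fintype_card]
  have hle := le_stabilizer_orbit H x
  generalize hd : Nat.card (orbit H x) = d at h1 h2' h3' h4 horb
  interval_cases d
  · exact absurd ⟨x, fixed_of_card_orbit_eq_one hd⟩ hnofix
  · exact absurd h1 (by decide)
  · apply hfin (orbit H x).toFinset horb.symm
    rw [Set.coe_toFinset]
    exact hle
  · apply hfin ((orbit H x).toFinsetᶜ)
    · rw [Finset.card_compl, ← horb, hn]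
    · rw [Finset.coe_compl, Set.coe_toFinset, stabilizer_compl]
      exact hle
  · exact absurd h1 (by decide)
  · exact absurd (fixed_of_card_orbit_eq_pred (H := H) (x := x) (by rw [hd, hn])) hnofix
  · exact absurd (hH.1 7 (by norm_num) h2') h7'

open Cfsg.Agent.Lib.Helper39_HallSymFib in
/-- **Degree 8**: the Hall `{2,3}`-subgroups are the stabilizers of the partitions `4 | 4`. -/
theorem eq_fibGroup_eight {H : Subgroup (Perm α)} (hH : IsPiHall π H)
    (hn : Fintype.card α = 8)
    (hP : ∀ r : ℕ, r.Prime → r ≤ Fintype.card α → (r ∈ π ↔ (r = 2 ∨ r = 3))) :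
    ∃ s : Finset α, s.card = 4 ∧ H = fibGroup (fun a => decide (a ∈ s)) := by
  classical
  have hidx := index_of_two_three hH (Or.inr hn) hP
  have h2 : 2 ∈ π := (hP 2 Nat.prime_two (by omega)).2 (Or.inl rfl)
  have h3 : 3 ∈ π := (hP 3 Nat.prime_three (by omega)).2 (Or.inr rfl)
  have h5 : 5 ∉ π := fun h => by
    have := (hP 5 (by norm_num) (by omega)).1 h
    omega
  have hcardH : Nat.card H = 1152 := by
    have h1 := Subgroup.card_mul_index H
    rw [card_perm', hn, hidx] at h1
    have : Nat.factorial 8 = 40320 := by decide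
    omega
  have hne : Nonempty α := by
    rw [← Fintype.card_pos_iff]; omega
  -- transitivity
  have htr : IsPretransitive H α := by
    obtain ⟨x⟩ := hne
    rw [isPretransitive_iff_orbit_eq_univ (G := H) x, Set.eq_univ_iff_ncard,
      Nat.card_eq_fintype_card, hn]
    show Nat.card (orbit H x) = 8
    have h1 := choose_dvd_index H x
    rw [hidx, hn] at h1
    have h3' := card_orbit_pos H x
    have h4 := card_orbit_le H x
    rw [hn] at h4
    generalize Nat.card (orbit H x) = d at h1 h3' h4
    interval_cases d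
    all_goals first
      | rfl
      | exact absurd h1 (by decide)
  -- imprimitivity
  have hnp : ¬ IsPreprimitive H α := fun hprim =>
    h5 (Helper39_HallSymPrim.prim_case hH hprim Nat.prime_two Nat.prime_three (by norm_num) h2 h3
      (by omega) 5 (by norm_num) (by omega))
  obtain ⟨ι, _, _, f, hf, hinv, ⟨x₀, y₀, hxy, hfxy⟩, ⟨x₁, z₁, hxz⟩⟩ :=
    Helper39_HallSymImprim.exists_fibration htr hnp
  set a := Fintype.card {x // f x = f x₀} with ha_def
  have ha : ∀ i : ι, Fintype.card {x // f x = i} = a := by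
    intro i
    obtain ⟨x, rfl⟩ := hf i
    exact Helper39_HallSymImprim.card_fiber_eq htr hinv x x₀
  have hm := Helper39_HallSymImprim.card_eq_mul a ha
  rw [hn] at hm
  have ha2 : 2 ≤ a := by
    rw [ha_def]
    have : 1 < Fintype.card {x // f x = f x₀} := by
      rw [Fintype.one_lt_card_iff]
      exact ⟨⟨x₀, rfl⟩, ⟨y₀, hfxy.symm⟩, fun h => hxy (congrArg Subtype.val h)⟩
    omega
  have hb2 : 2 ≤ Fintype.card ι := by
    have : 1 < Fintype.card ι := by
      rw [Fintype.one_lt_card_iff]
      exact ⟨f x₁, f z₁, hxz⟩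
    omega
  have hdvd := card_dvd hf hinv
  simp only [ha] at hdvd
  rw [Finset.prod_const, Finset.card_univ, hcardH] at hdvd
  have hab : a = 4 ∧ Fintype.card ι = 2 := by
    generalize Fintype.card ι = b at hm hb2 hdvd
    have hb4 : b ≤ 4 := by nlinarith
    interval_cases b
    · exact ⟨by omega, rfl⟩
    · omega
    · have ha' : a = 2 := by omega
      rw [ha'] at hdvd
      exact absurd hdvd (by decide)
  obtain ⟨ha4, hb⟩ := hab
  -- the subset
  set s : Finset α := Finset.univ.filter (fun x => f x = f x₀) with hs_def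
  have hscard : s.card = 4 := by
    rw [← ha4, ha_def, Fintype.card_subtype]
  have hmem : ∀ u, u ∈ s ↔ f u = f x₀ := by
    intro u
    rw [hs_def, Finset.mem_filter]
    simp
  have hι : ∀ i j : ι, i ≠ f x₀ → j ≠ f x₀ → i = j := by
    intro i j hi hj
    by_contra hij
    have h3c : ({f x₀, i, j} : Finset ι).card = 3 := by
      rw [Finset.card_insert_of_notMem, Finset.card_insert_of_notMem, Finset.card_singleton]
      · simpa using hij
      · simp only [Finset.mem_insert, Finset.mem_singleton, not_or]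
        exact ⟨fun h => hi h.symm, fun h => hj h.symm⟩
    have := Finset.card_le_univ ({f x₀, i, j} : Finset ι)
    omega
  have hfg : ∀ u v, f u = f v ↔ decide (u ∈ s) = decide (v ∈ s) := by
    intro u v
    rw [decide_eq_decide, hmem, hmem]
    constructor
    · intro h
      rw [h]
    · intro h
      by_cases hu : f u = f x₀
      · rw [hu, h.1 hu]
      · exact hι _ _ hu (fun hv => hu (h.2 hv))
  have hHle : H ≤ fibGroup (fun a => decide (a ∈ s)) := by
    intro k hk
    rw [mem_fibGroup]
    intro u v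
    show decide (u ∈ s) = decide (v ∈ s) ↔ decide (k u ∈ s) = decide (k v ∈ s)
    rw [← hfg, ← hfg]
    constructor
    · exact hinv k hk u v
    · intro h
      have := hinv k⁻¹ (H.inv_mem hk) _ _ h
      simpa using this
  refine ⟨s, hscard, Subgroup.eq_of_le_of_card_ge hHle ?_⟩
  rw [hcardH]
  have hgsurj : Function.Surjective (fun a => decide (a ∈ s)) := by
    have hx₀ : x₀ ∈ s := (hmem x₀).2 rfl
    obtain ⟨z, hz⟩ : ∃ z, z ∉ s := by
      by_cases h1 : f x₁ = f x₀
      · refine ⟨z₁, fun h => hxz ?_⟩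
        rw [h1, (hmem z₁).1 h]
      · exact ⟨x₁, fun h => h1 ((hmem x₁).1 h)⟩
    intro b
    cases b
    · exact ⟨z, decide_eq_false hz⟩
    · exact ⟨x₀, decide_eq_true hx₀⟩
  have h1 := card_dvd hgsurj (fibGroup_hinv (fun a => decide (a ∈ s)))
  have e1 : Fintype.card {a // decide (a ∈ s) = true} = 4 := by
    rw [← hscard]
    apply Fintype.card_of_subtype
    intro x
    simp
  have e2 : Fintype.card {a // decide (a ∈ s) = false} = 4 := by
    have : sᶜ.card = 4 := by rw [Finset.card_compl, hscard, hn]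
    rw [← this]
    apply Fintype.card_of_subtype
    intro x
    simp
  rw [Fintype.prod_bool, e1, e2, Fintype.card_bool] at h1
  exact Nat.le_of_dvd (by norm_num) h1

omit [Fintype α] [DecidableEq α] in
open Cfsg.Agent.Lib.Helper39_HallSymFib in
/-- conjugates of the group of a fibration -/
theorem fibGroup_conj {ι : Type*} (f : α → ι) (σ : Perm α) :
    fibGroup (fun a => f (σ⁻¹ a)) = (fibGroup f).map (MulAut.conj σ).toMonoidHom := by
  ext τ
  rw [Subgroup.mem_map, mem_fibGroup]
  constructor
  · intro h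
    refine ⟨σ⁻¹ * τ * σ, ?_, ?_⟩
    · rw [mem_fibGroup]
      intro x y
      have := h (σ x) (σ y)
      simpa using this
    · simp only [MulEquiv.coe_toMonoidHom, MulAut.conj_apply]
      group
  · rintro ⟨ρ, hρ, rfl⟩
    rw [mem_fibGroup] at hρ
    intro x y
    have := hρ (σ⁻¹ x) (σ⁻¹ y)
    simpa using this

end twoThree

section conj

universe u

variable {α : Type u} [Fintype α] [DecidableEq α] {π : Set ℕ}

open Cfsg.Agent.Lib.Helper39_HallSymFib in
/-- **Hall subgroups of a symmetric group are conjugate.** -/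
theorem hall_conj_sym {H K : Subgroup (Perm α)} (hH : IsPiHall π H) (hK : IsPiHall π K) :
    ∃ g : Perm α, K = H.map (MulAut.conj g).toMonoidHom := by
  have hG := Helper39_HallSymMain.good_of_hall π (Fintype.card α) α Nat.card_eq_fintype_card H hH
  rcases hG with h | h | h | h
  · apply single_conj _ hH hK
    intro r s hr hs hrπ hsπ hrd hsd
    rw [card_perm'] at hrd hsd
    exact h r s hr hs hrπ hsπ ((Nat.Prime.dvd_factorial hr).1 hrd)
      ((Nat.Prime.dvd_factorial hs).1 hsd)
  · have hG : ∀ p : ℕ, p.Prime → p ∣ Nat.card (Perm α) → p ∈ π := by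
      intro p hp hd
      rw [card_perm'] at hd
      exact h p hp ((Nat.Prime.dvd_factorial hp).1 hd)
    refine ⟨1, ?_⟩
    rw [Helper39_HallBasic.eq_top_of_isPiGroup hH hG, Helper39_HallBasic.eq_top_of_isPiGroup hK hG]
    simp
  · obtain ⟨x, rfl⟩ := eq_stabilizer_of_prime hH h.1 h.2
    obtain ⟨y, rfl⟩ := eq_stabilizer_of_prime hK h.1 h.2
    refine ⟨swap x y, ?_⟩
    have h1 := stabilizer_smul_eq_stabilizer_map_conj (swap x y) x
    rw [← h1]
    congr 1
    exact (swap_apply_left x y).symm
  · obtain ⟨h78, hP⟩ := h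
    rcases h78 with h7 | h8
    · obtain ⟨s, hs, rfl⟩ := eq_stabilizer_seven hH h7 hP
      obtain ⟨s', hs', rfl⟩ := eq_stabilizer_seven hK h7 hP
      have := Set.powersetCard.isPretransitive (α := α) (n := 3)
      obtain ⟨g, hg⟩ := exists_smul_eq (Perm α) (⟨s, hs⟩ : Set.powersetCard α 3) ⟨s', hs'⟩
      refine ⟨g, ?_⟩
      have h1 := stabilizer_smul_eq_stabilizer_map_conj g (⟨s, hs⟩ : Set.powersetCard α 3)
      rw [hg, Set.powersetCard.stabilizer_coe, Set.powersetCard.stabilizer_coe] at h1
      exact h1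
    · obtain ⟨s, hs, rfl⟩ := eq_fibGroup_eight hH h8 hP
      obtain ⟨s', hs', rfl⟩ := eq_fibGroup_eight hK h8 hP
      have := Set.powersetCard.isPretransitive (α := α) (n := 4)
      obtain ⟨g, hg⟩ := exists_smul_eq (Perm α) (⟨s, hs⟩ : Set.powersetCard α 4) ⟨s', hs'⟩
      refine ⟨g, ?_⟩
      rw [← fibGroup_conj]
      have h1 : s' = g • s := by
        have := congrArg (fun t : Set.powersetCard α 4 => (t : Finset α)) hg
        simpa using this.symm
      congr 1
      funext a
      rw [h1, decide_eq_decide, ← Finset.inv_smul_mem_iff]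
      rfl

end conj

end Cfsg.Agent.Lib.Helper32_HallSymStruct
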