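import Mathlib

/-!
# Pairs of involutions (dihedral arguments)

For `a * a = 1`, `b * b = 1` and `ρ = a * b`:
* `a` and `b` invert `ρ`;
* if `ρ ^ (2k+1) = 1`, then `r = a * ρ^(k+1)` is an involution with `r * a * r = b`;
* if `ρ` has even order `2k`, then `w = ρ^k` is an involution commuting with `a` and `b`,
  and `a * w` is conjugate to `a` or to `b`.
-/

set_option autoImplicit false

namespace Cfsg.Agent.Lib.Helper32_Involutions

variable {G : Type*} [Group G]

theorem inv_eq_self_of_mul_self {a : G} (ha : a * a = 1) : a⁻¹ = a :=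
  inv_eq_of_mul_eq_one_left ha

theorem mul_self_of_orderOf_two {a : G} (ha : orderOf a = 2) : a * a = 1 := by
  have := pow_orderOf_eq_one a
  rw [ha, pow_two] at this
  exact this

theorem ne_one_of_orderOf_two {a : G} (ha : orderOf a = 2) : a ≠ 1 := by
  intro h
  rw [h, orderOf_one] at ha
  omega

theorem orderOf_two_of_mul_self {a : G} (ha : a * a = 1) (h1 : a ≠ 1) : orderOf a = 2 := by
  have : a ^ 2 = 1 := by rw [pow_two]; exact ha
  exact orderOf_eq_prime this h1

/-- `a` inverts `a * b`. -/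
theorem conj_mul (a b : G) (ha : a * a = 1) (hb : b * b = 1) :
    a * (a * b) * a = (a * b)⁻¹ := by
  have h1 : (a * b) * (a * (a * b) * a) = 1 := by
    calc (a * b) * (a * (a * b) * a) = a * b * (a * a) * b * a := by group
      _ = a * (b * b) * a := by rw [ha]; group
      _ = 1 := by rw [hb, mul_one, ha]
  exact (inv_eq_of_mul_eq_one_right h1).symm

/-- `b` inverts `a * b`. -/
theorem conj_mul' (a b : G) (ha : a * a = 1) (hb : b * b = 1) :
    b * (a * b) * b = (a * b)⁻¹ := by
  have h1 : (a * b) * (b * (a * b) * b) = 1 := by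
    calc (a * b) * (b * (a * b) * b) = a * (b * b) * a * (b * b) := by group
      _ = 1 := by rw [hb, mul_one, mul_one, ha]
  exact (inv_eq_of_mul_eq_one_right h1).symm

/-- an involution inverting `ρ` inverts its powers -/
theorem conj_pow_of_conj {a ρ : G} (ha : a * a = 1) (h : a * ρ * a = ρ⁻¹) (n : ℕ) :
    a * ρ ^ n * a = (ρ ^ n)⁻¹ := by
  induction n with
  | zero => simp [ha]
  | succ n ih =>
    have : a * ρ ^ (n + 1) * a = (a * ρ ^ n * a) * (a * ρ * a) := by
      calc a * ρ ^ (n + 1) * a = a * ρ ^ n * 1 * ρ * a := by rw [pow_succ]; group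
        _ = a * ρ ^ n * (a * a) * ρ * a := by rw [ha]
        _ = (a * ρ ^ n * a) * (a * ρ * a) := by group
    rw [this, ih, h, pow_succ', mul_inv_rev]

/-- the reflection `a * ρ^n` is an involution -/
theorem refl_mul_self {a ρ : G} (ha : a * a = 1) (h : a * ρ * a = ρ⁻¹) (n : ℕ) :
    (a * ρ ^ n) * (a * ρ ^ n) = 1 := by
  have h1 := conj_pow_of_conj ha h n
  calc (a * ρ ^ n) * (a * ρ ^ n) = (a * ρ ^ n * a) * ρ ^ n := by group
    _ = 1 := by rw [h1, inv_mul_cancel]

/-- **Odd case**: if `(a*b)^(2k+1) = 1` then `r = a * (a*b)^(k+1)` is an involution (or trivial)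
conjugating `a` to `b`. -/
theorem exists_swap_of_odd (a b : G) (ha : a * a = 1) (hb : b * b = 1) (k : ℕ)
    (hk : (a * b) ^ (2 * k + 1) = 1) :
    (a * (a * b) ^ (k + 1)) * (a * (a * b) ^ (k + 1)) = 1 ∧
      (a * (a * b) ^ (k + 1)) * a * (a * (a * b) ^ (k + 1)) = b := by
  have hinv := conj_mul a b ha hb
  refine ⟨refl_mul_self ha hinv (k + 1), ?_⟩
  calc (a * (a * b) ^ (k + 1)) * a * (a * (a * b) ^ (k + 1))
      = a * (a * b) ^ (k + 1) * (a * a) * (a * b) ^ (k + 1) := by group
    _ = a * ((a * b) ^ (k + 1) * (a * b) ^ (k + 1)) := by rw [ha]; group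
    _ = a * ((a * b) ^ (2 * k + 1) * (a * b)) := by
        rw [← pow_add, ← pow_succ]; congr 2; ring
    _ = b := by rw [hk, one_mul, ← mul_assoc, ha, one_mul]

/-- two involutions whose product has odd order are conjugate -/
theorem isConj_of_odd_order {a b : G} (ha : a * a = 1) (hb : b * b = 1)
    (hodd : Odd (orderOf (a * b))) : IsConj a b := by
  obtain ⟨k, hk⟩ := hodd
  have hpow : (a * b) ^ (2 * k + 1) = 1 := by rw [← hk]; exact pow_orderOf_eq_one _
  obtain ⟨h1, h2⟩ := exists_swap_of_odd a b ha hb k hpow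
  rw [isConj_iff]
  refine ⟨a * (a * b) ^ (k + 1), ?_⟩
  rw [inv_eq_self_of_mul_self h1]
  exact h2

/-- **Even case**: if `a*b` has even order `2k` (`k ≥ 1`), then `w = (a*b)^k` is an involution
commuting with `a` and `b`, and `a * w` is a conjugate of `a` or of `b`. -/
theorem exists_central_of_even (a b : G) (ha : a * a = 1) (hb : b * b = 1) (k : ℕ) (hk0 : 0 < k)
    (hk : orderOf (a * b) = 2 * k) :
    orderOf ((a * b) ^ k) = 2 ∧ a * (a * b) ^ k = (a * b) ^ k * a ∧
      b * (a * b) ^ k = (a * b) ^ k * b ∧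
      ∃ c : G, a * (a * b) ^ k = c⁻¹ * a * c ∨ a * (a * b) ^ k = c⁻¹ * b * c := by
  have hinv := conj_mul a b ha hb
  have hinv' := conj_mul' a b ha hb
  have hww : (a * b) ^ k * (a * b) ^ k = 1 := by
    rw [← pow_add, ← two_mul, ← hk]; exact pow_orderOf_eq_one _
  have hw1 : (a * b) ^ k ≠ 1 := by
    intro h
    have := orderOf_dvd_of_pow_eq_one h
    rw [hk] at this
    have := Nat.le_of_dvd hk0 this
    omega
  have hwinv : ((a * b) ^ k)⁻¹ = (a * b) ^ k := inv_eq_self_of_mul_self hww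
  have hcomm : ∀ c : G, c * c = 1 → c * (a * b) * c = (a * b)⁻¹ →
      c * (a * b) ^ k = (a * b) ^ k * c := by
    intro c hc hci
    have h1 := conj_pow_of_conj hc hci k
    rw [hwinv] at h1
    calc c * (a * b) ^ k = (c * (a * b) ^ k * c) * c := by
          rw [mul_assoc (c * (a * b) ^ k), hc, mul_one]
      _ = (a * b) ^ k * c := by rw [h1]
  refine ⟨orderOf_two_of_mul_self hww hw1, hcomm a ha hinv, hcomm b hb hinv', ?_⟩
  -- conjugacy of `a * w`
  have hrot : ∀ c : G, c * c = 1 → c * (a * b) * c = (a * b)⁻¹ → ∀ j : ℕ,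
      c * (a * b) ^ (2 * j) = ((a * b) ^ j)⁻¹ * c * (a * b) ^ j := by
    intro c hc hci j
    have h1 := conj_pow_of_conj hc hci j
    have h2 : ((a * b) ^ j)⁻¹ * c = c * (a * b) ^ j := by
      rw [← h1]
      rw [mul_assoc (c * (a * b) ^ j), hc, mul_one]
    rw [h2, two_mul, pow_add, mul_assoc]
  rcases Nat.even_or_odd' k with ⟨j, hj | hj⟩
  · refine ⟨(a * b) ^ j, Or.inl ?_⟩
    rw [hj]; exact hrot a ha hinv j
  · refine ⟨(a * b) ^ j, Or.inr ?_⟩
    have : a * (a * b) ^ (2 * j + 1) = b * (a * b) ^ (2 * j) := by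
      rw [pow_succ', ← mul_assoc, ← mul_assoc, ha, one_mul]
    rw [hj, this]; exact hrot b hb hinv' j

/-- the reflection `a * (a*b)^n` is conjugate to `a` or to `b` -/
theorem refl_conj (a b : G) (ha : a * a = 1) (hb : b * b = 1) (n : ℕ) :
    ∃ c : G, a * (a * b) ^ n = c⁻¹ * a * c ∨ a * (a * b) ^ n = c⁻¹ * b * c := by
  have hinv := conj_mul a b ha hb
  have hinv' := conj_mul' a b ha hb
  have hrot : ∀ c : G, c * c = 1 → c * (a * b) * c = (a * b)⁻¹ → ∀ j : ℕ,
      c * (a * b) ^ (2 * j) = ((a * b) ^ j)⁻¹ * c * (a * b) ^ j := by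
    intro c hc hci j
    have h1 := conj_pow_of_conj hc hci j
    have h2 : ((a * b) ^ j)⁻¹ * c = c * (a * b) ^ j := by
      rw [← h1]
      rw [mul_assoc (c * (a * b) ^ j), hc, mul_one]
    rw [h2, two_mul, pow_add, mul_assoc]
  rcases Nat.even_or_odd' n with ⟨j, hj | hj⟩
  · refine ⟨(a * b) ^ j, Or.inl ?_⟩
    rw [hj]; exact hrot a ha hinv j
  · refine ⟨(a * b) ^ j, Or.inr ?_⟩
    have : a * (a * b) ^ (2 * j + 1) = b * (a * b) ^ (2 * j) := by
      rw [pow_succ', ← mul_assoc, ← mul_assoc, ha, one_mul]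
    rw [hj, this]; exact hrot b hb hinv' j

/-- An involutive map on a finite type with exactly one fixed point: the type has odd size. -/
theorem odd_card_of_involutive {α : Type*} [Finite α] (f : α → α) (hf : ∀ x, f (f x) = x)
    (a : α) (ha : f a = a) (huniq : ∀ x, f x = x → x = a) : Odd (Nat.card α) := by
  classical
  have := Fintype.ofFinite α
  let g : Function.End α := f
  have hf2 : g ^ 2 ^ 1 = 1 := by
    rw [pow_one, pow_two]
    funext x
    exact hf x
  have h := Equiv.Perm.card_fixedPoints_modEq (p := 2) (n := 1) (f := g) hf2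
  have hfix : Fintype.card (Function.fixedPoints f) = 1 := by
    rw [Fintype.card_eq_one_iff]
    refine ⟨⟨a, ha⟩, ?_⟩
    rintro ⟨x, hx⟩
    exact Subtype.ext (huniq x hx)
  rw [hfix] at h
  rw [Nat.card_eq_fintype_card, Nat.odd_iff]
  exact h

end Cfsg.Agent.Lib.Helper32_Involutions
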