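import Mathlib

/-!
# Classes of π-elements: commuting-pair counts and the π/π'-decomposition of elements

Tools for `k_π(G) ≤ k_π(N) k_π(G/N)` (S4152).
-/

set_option autoImplicit false

namespace Cfsg.Agent.Lib.Helper32_PiClasses

variable {K : Type*} [Group K]

/-- `g` is a π-element: every prime dividing its order lies in `π`. -/
def IsPi (π : Set ℕ) (g : K) : Prop := ∀ q : ℕ, q.Prime → q ∣ orderOf g → q ∈ π

/-- `g` is a π'-element: no prime dividing its order lies in `π`. -/
def IsPi' (π : Set ℕ) (g : K) : Prop := ∀ q : ℕ, q.Prime → q ∣ orderOf g → q ∉ π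

theorem IsPi.coprime {π : Set ℕ} {x y : K} (hx : IsPi π x) (hy : IsPi' π y) :
    Nat.Coprime (orderOf x) (orderOf y) :=
  Nat.coprime_of_dvd fun q hq h1 h2 => hy q hq h2 (hx q hq h1)

theorem IsPi.of_orderOf_dvd {π : Set ℕ} {L : Type*} [Group L] {x : K} {y : L} (hx : IsPi π x)
    (h : orderOf y ∣ orderOf x) : IsPi π y :=
  fun q hq hd => hx q hq (hd.trans h)

theorem IsPi'.of_orderOf_dvd {π : Set ℕ} {L : Type*} [Group L] {x : K} {y : L} (hx : IsPi' π x)
    (h : orderOf y ∣ orderOf x) : IsPi' π y :=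
  fun q hq hd => hx q hq (hd.trans h)

theorem IsPi.conj {π : Set ℕ} {x : K} (hx : IsPi π x) (c : K) : IsPi π (c * x * c⁻¹) :=
  hx.of_orderOf_dvd (by rw [← MulAut.conj_apply, MulEquiv.orderOf_eq])

/-- Every positive natural number is a product of a π-number and a coprime π'-number. -/
theorem exists_pi_factorization (π : Set ℕ) (m : ℕ) (hm : m ≠ 0) :
    ∃ a b : ℕ, a * b = m ∧ Nat.Coprime a b ∧ (∀ q : ℕ, q.Prime → q ∣ a → q ∈ π) ∧
      (∀ q : ℕ, q.Prime → q ∣ b → q ∉ π) := by
  induction m using induction_on_primes with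
  | zero => exact absurd rfl hm
  | one =>
    exact ⟨1, 1, rfl, Nat.coprime_one_left 1,
      fun q hq hd => absurd (Nat.dvd_one.1 hd) hq.ne_one,
      fun q hq hd => absurd (Nat.dvd_one.1 hd) hq.ne_one⟩
  | prime_mul p m hp ih =>
    have hm' : m ≠ 0 := fun h => hm (by rw [h, mul_zero])
    obtain ⟨a, b, hab, hco, ha, hb⟩ := ih hm'
    by_cases hpi : p ∈ π
    · refine ⟨p * a, b, by rw [mul_assoc, hab], ?_, ?_, hb⟩
      · refine Nat.Coprime.mul_left ?_ hco
        exact (Nat.Prime.coprime_iff_not_dvd hp).2 fun hd => hb p hp hd hpi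
      · intro q hq hd
        rcases (Nat.Prime.dvd_mul hq).1 hd with h | h
        · rw [(Nat.prime_dvd_prime_iff_eq hq hp).1 h]; exact hpi
        · exact ha q hq h
    · refine ⟨a, p * b, by rw [mul_left_comm, hab], ?_, ha, ?_⟩
      · refine Nat.Coprime.mul_right ?_ hco
        exact ((Nat.Prime.coprime_iff_not_dvd hp).2 fun hd => hpi (ha p hp hd)).symm
      · intro q hq hd
        rcases (Nat.Prime.dvd_mul hq).1 hd with h | h
        · rw [(Nat.prime_dvd_prime_iff_eq hq hp).1 h]; exact hpi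
        · exact hb q hq h

/-- The π/π'-decomposition of an element of finite order, by powers of the element. -/
theorem exists_pi_decomposition (π : Set ℕ) (n : K) (hn : orderOf n ≠ 0) :
    ∃ e f : ℕ, IsPi π (n ^ e) ∧ IsPi' π (n ^ f) ∧ n ^ e * n ^ f = n := by
  obtain ⟨a, b, hab, hco, ha, hb⟩ := exists_pi_factorization π (orderOf n) hn
  -- e ≡ 1 mod a, e ≡ 0 mod b ; f ≡ 0 mod a, f ≡ 1 mod b
  obtain ⟨e, he1, he0⟩ := Nat.chineseRemainder hco 1 0
  obtain ⟨f, hf0, hf1⟩ := Nat.chineseRemainder hco 0 1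
  have hbe : b ∣ e := (Nat.modEq_zero_iff_dvd).1 he0
  have haf : a ∣ f := (Nat.modEq_zero_iff_dvd).1 hf0
  have h1 : orderOf (n ^ e) ∣ a := by
    apply orderOf_dvd_of_pow_eq_one
    rw [← pow_mul]
    apply orderOf_dvd_iff_pow_eq_one.1
    rw [← hab, mul_comm a b]
    exact Nat.mul_dvd_mul hbe dvd_rfl
  have h2 : orderOf (n ^ f) ∣ b := by
    apply orderOf_dvd_of_pow_eq_one
    rw [← pow_mul]
    apply orderOf_dvd_iff_pow_eq_one.1
    rw [← hab]
    exact Nat.mul_dvd_mul haf dvd_rfl
  refine ⟨e, f, fun q hq hd => ha q hq (hd.trans h1), fun q hq hd => hb q hq (hd.trans h2), ?_⟩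
  rw [← pow_add]
  have : e + f ≡ 1 [MOD orderOf n] := by
    rw [← hab]
    apply (Nat.modEq_and_modEq_iff_modEq_mul hco).1
    constructor
    · simpa using he1.add hf0
    · simpa using he0.add hf1
  conv_rhs => rw [← pow_one n]
  exact pow_eq_pow_iff_modEq.2 this

/-- In a commuting product of a π-element and a π'-element (finite orders), the π-element is a
power of the product. -/
theorem pi_mem_powers {π : Set ℕ} {g b : K} (hg : IsPi π g) (hb : IsPi' π b) (hc : Commute g b) :
    ∃ k : ℕ, (g * b) ^ k = g := by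
  have hco : Nat.Coprime (orderOf b) (orderOf g) := (hg.coprime hb).symm
  obtain ⟨t, ht⟩ := exists_pow_eq_self_of_coprime hco
  refine ⟨orderOf b * t, ?_⟩
  rw [pow_mul, hc.mul_pow, pow_orderOf_eq_one, mul_one, ht]

theorem pi'_mem_powers {π : Set ℕ} {g b : K} (hg : IsPi π g) (hb : IsPi' π b) (hc : Commute g b) :
    ∃ k : ℕ, (g * b) ^ k = b := by
  have hco : Nat.Coprime (orderOf g) (orderOf b) := hg.coprime hb
  obtain ⟨t, ht⟩ := exists_pow_eq_self_of_coprime hco
  refine ⟨orderOf g * t, ?_⟩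
  rw [pow_mul, hc.mul_pow, pow_orderOf_eq_one, one_mul, ht]

/-- Uniqueness of the π/π'-decomposition. -/
theorem pi_decomposition_unique {π : Set ℕ} {g₁ b₁ g₂ b₂ : K}
    (hg₁ : IsPi π g₁) (hb₁ : IsPi' π b₁) (hc₁ : Commute g₁ b₁)
    (hg₂ : IsPi π g₂) (hb₂ : IsPi' π b₂) (hc₂ : Commute g₂ b₂)
    (h : g₁ * b₁ = g₂ * b₂) : g₁ = g₂ ∧ b₁ = b₂ := by
  obtain ⟨k₁, hk₁⟩ := pi_mem_powers hg₁ hb₁ hc₁
  obtain ⟨l₁, hl₁⟩ := pi'_mem_powers hg₁ hb₁ hc₁
  obtain ⟨k₂, hk₂⟩ := pi_mem_powers hg₂ hb₂ hc₂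
  obtain ⟨l₂, hl₂⟩ := pi'_mem_powers hg₂ hb₂ hc₂
  rw [← h] at hk₂ hl₂
  set w := g₁ * b₁ with hw
  have cgg : Commute g₂ g₁ := by rw [← hk₁, ← hk₂]; exact Commute.pow_pow_self w k₂ k₁
  have cbb : Commute b₂ b₁ := by rw [← hl₁, ← hl₂]; exact Commute.pow_pow_self w l₂ l₁
  have cgb : Commute g₂ b₁ := by rw [← hl₁, ← hk₂]; exact Commute.pow_pow_self w k₂ l₁
  -- u = g₂⁻¹ g₁ = b₂ b₁⁻¹
  have hu : g₂⁻¹ * g₁ = b₂ * b₁⁻¹ := by
    have : g₁ = g₂ * b₂ * b₁⁻¹ := by rw [← h, hw]; group
    rw [this]; group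
  have ho1 : orderOf (g₂⁻¹ * g₁) ∣ orderOf g₂ * orderOf g₁ := by
    apply orderOf_dvd_of_pow_eq_one
    rw [(cgg.inv_left).mul_pow, inv_pow]
    rw [pow_mul, pow_orderOf_eq_one, one_pow, inv_one, one_mul, mul_comm, pow_mul,
      pow_orderOf_eq_one, one_pow]
  have ho2 : orderOf (b₂ * b₁⁻¹) ∣ orderOf b₂ * orderOf b₁ := by
    apply orderOf_dvd_of_pow_eq_one
    rw [(cbb.inv_right).mul_pow, inv_pow]
    rw [pow_mul, pow_orderOf_eq_one, one_pow, one_mul, mul_comm, pow_mul,
      pow_orderOf_eq_one, one_pow, inv_one]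
  rw [← hu] at ho2
  have hco : Nat.Coprime (orderOf g₂ * orderOf g₁) (orderOf b₂ * orderOf b₁) :=
    Nat.Coprime.mul_left
      (Nat.Coprime.mul_right (hg₂.coprime hb₂) (hg₂.coprime hb₁))
      (Nat.Coprime.mul_right (hg₁.coprime hb₂) (hg₁.coprime hb₁))
  have h1 : orderOf (g₂⁻¹ * g₁) = 1 :=
    Nat.eq_one_of_dvd_coprimes hco ho1 ho2
  have h2 : g₂⁻¹ * g₁ = 1 := orderOf_eq_one_iff.1 h1
  have h3 : g₁ = g₂ := by
    have := congrArg (fun z => g₂ * z) h2
    simpa using this
  refine ⟨h3, ?_⟩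
  rw [hw, h3] at h
  exact mul_left_cancel h

/-- The conjugation-invariant subset `{g | p g}` as a `SubMulAction` of `ConjAct K` on `K`. -/
def conjSub (p : K → Prop) (hp : ∀ c g : K, p g → p (c * g * c⁻¹)) : SubMulAction (ConjAct K) K where
  carrier := {g | p g}
  smul_mem' := fun c g hg => by
    rw [ConjAct.smul_def]; exact hp _ _ hg

/-- Orbits of the conjugation action on an invariant subset are the conjugacy classes contained
in it. -/
noncomputable def orbitsEquivClasses (p : K → Prop) (hp : ∀ c g : K, p g → p (c * g * c⁻¹)) :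
    Quotient (MulAction.orbitRel (ConjAct K) (conjSub p hp)) ≃
      {C : ConjClasses K // ∀ g : K, ConjClasses.mk g = C → p g} := by
  refine Equiv.ofBijective
    (Quotient.lift (fun x : conjSub p hp =>
      (⟨ConjClasses.mk (x : K), fun g hg => ?_⟩ :
        {C : ConjClasses K // ∀ g : K, ConjClasses.mk g = C → p g})) ?_) ⟨?_, ?_⟩
  · -- membership
    obtain ⟨c, hc⟩ := isConj_iff.1 (ConjClasses.mk_eq_mk_iff_isConj.1 hg)
    have hx : p (x : K) := x.2
    have : p (c⁻¹ * (c * g * c⁻¹) * c⁻¹⁻¹) := hp _ _ (hc ▸ hx)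
    simpa [mul_assoc] using this
  · -- well-defined
    rintro x y ⟨c, hc⟩
    apply Subtype.ext
    show ConjClasses.mk (x : K) = ConjClasses.mk (y : K)
    rw [ConjClasses.mk_eq_mk_iff_isConj, isConj_comm, isConj_iff]
    refine ⟨ConjAct.ofConjAct c, ?_⟩
    have := congrArg (fun z : conjSub p hp => (z : K)) hc
    simpa [ConjAct.smul_def] using this
  · -- injective
    intro a b
    induction a using Quotient.inductionOn with | _ x => ?_
    induction b using Quotient.inductionOn with | _ y => ?_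
    intro hxy
    have h1 : ConjClasses.mk (x : K) = ConjClasses.mk (y : K) := congrArg Subtype.val hxy
    obtain ⟨c, hc⟩ := isConj_iff.1 (ConjClasses.mk_eq_mk_iff_isConj.1 h1)
    apply Quotient.sound
    refine ⟨(ConjAct.toConjAct c)⁻¹, ?_⟩
    apply Subtype.ext
    show ((ConjAct.toConjAct c)⁻¹ • (y : K)) = (x : K)
    rw [ConjAct.smul_def, ← hc]
    simp [mul_assoc]
  · -- surjective
    rintro ⟨C, hC⟩
    obtain ⟨g, rfl⟩ := ConjClasses.exists_rep C
    exact ⟨Quotient.mk _ ⟨g, hC g rfl⟩, rfl⟩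

/-- Commuting pairs whose first entry satisfies `p`, as a sigma type of fixed points. -/
noncomputable def commPairsEquiv (p : K → Prop) (hp : ∀ c g : K, p g → p (c * g * c⁻¹)) :
    {x : K × K // p x.1 ∧ Commute x.1 x.2} ≃
      Σ c : ConjAct K, MulAction.fixedBy (conjSub p hp) c where
  toFun x := ⟨ConjAct.toConjAct x.1.2, ⟨⟨x.1.1, x.2.1⟩, by
    apply Subtype.ext
    show ConjAct.toConjAct x.1.2 • x.1.1 = x.1.1
    rw [ConjAct.smul_def, ConjAct.ofConjAct_toConjAct]
    have := x.2.2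
    rw [← this.eq, mul_inv_cancel_right]⟩⟩
  invFun y := ⟨(y.2.1.1, ConjAct.ofConjAct y.1), y.2.1.2, by
    have h := congrArg Subtype.val y.2.2
    have h' : y.1 • (y.2.1 : K) = (y.2.1 : K) := h
    rw [ConjAct.smul_def] at h'
    show (y.2.1 : K) * ConjAct.ofConjAct y.1 = ConjAct.ofConjAct y.1 * (y.2.1 : K)
    have := congrArg (fun z => z * ConjAct.ofConjAct y.1) h'
    simpa using this.symm⟩
  left_inv x := by
    apply Subtype.ext
    rfl
  right_inv y := by
    rcases y with ⟨c, ⟨⟨g, hg⟩, hfix⟩⟩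
    rfl

/-- **Burnside count**: the number of commuting pairs `(g, c)` with `p g` is the number of
conjugacy classes inside `p` times the group order. -/
theorem card_commPairs_eq [Finite K] (p : K → Prop) (hp : ∀ c g : K, p g → p (c * g * c⁻¹)) :
    Nat.card {x : K × K // p x.1 ∧ Commute x.1 x.2} =
      Nat.card {C : ConjClasses K // ∀ g : K, ConjClasses.mk g = C → p g} * Nat.card K := by
  classical
  haveI : Fintype K := Fintype.ofFinite K
  haveI : Fintype (ConjAct K) := inferInstanceAs (Fintype K)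
  have hB := MulAction.sum_card_fixedBy_eq_card_orbits_mul_card_group (ConjAct K) (conjSub p hp)
  rw [Nat.card_congr (commPairsEquiv p hp), Nat.card_eq_fintype_card, Fintype.card_sigma, hB,
    ← Nat.card_eq_fintype_card, ← Nat.card_eq_fintype_card,
    Nat.card_congr (orbitsEquivClasses p hp)]
  rfl

section Coset

variable {G : Type*} [Group G] (N : Subgroup G) [N.Normal]

open Classical in
/-- A chosen element of the coset `w` commuting with `s` (or `1` if there is none). -/
noncomputable def base (s : G) (w : G ⧸ N) : G :=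
  if h : ∃ c : G, (c : G ⧸ N) = w ∧ Commute s c then Classical.choose h else 1

theorem base_spec (s c : G) (hc : Commute s c) :
    ((base N s (c : G ⧸ N) : G) : G ⧸ N) = (c : G ⧸ N) ∧ Commute s (base N s (c : G ⧸ N)) := by
  have h : ∃ c' : G, (c' : G ⧸ N) = (c : G ⧸ N) ∧ Commute s c' := ⟨c, rfl, hc⟩
  unfold base
  rw [dif_pos h]
  exact Classical.choose_spec h

/-- Translate `c` back into `N` by the chosen base point of its coset. -/
noncomputable def shift (s c : G) : G := (base N s (c : G ⧸ N))⁻¹ * c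

theorem shift_mem {s c : G} (hc : Commute s c) : shift N s c ∈ N := by
  have h := (base_spec N s c hc).1
  rw [shift, ← QuotientGroup.eq]
  exact h

theorem shift_comm {s c : G} (hc : Commute s c) : Commute s (shift N s c) :=
  ((base_spec N s c hc).2.inv_right).mul_right hc

theorem shift_inj {s c c' : G} (h : (c : G ⧸ N) = (c' : G ⧸ N))
    (hs : shift N s c = shift N s c') : c = c' := by
  unfold shift at hs
  rw [h] at hs
  exact mul_left_cancel hs

variable [Finite G] (π : Set ℕ)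

/-- exponent giving the π-part -/
noncomputable def piExp (n : G) : ℕ :=
  Classical.choose (exists_pi_decomposition π n (orderOf_pos n).ne')

/-- exponent giving the π'-part -/
noncomputable def pi'Exp (n : G) : ℕ :=
  Classical.choose (Classical.choose_spec (exists_pi_decomposition π n (orderOf_pos n).ne'))

theorem piExp_spec (n : G) :
    IsPi π (n ^ piExp π n) ∧ IsPi' π (n ^ pi'Exp π n) ∧ n ^ piExp π n * n ^ pi'Exp π n = n :=
  Classical.choose_spec (Classical.choose_spec (exists_pi_decomposition π n (orderOf_pos n).ne'))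

/-- the element `n ∈ N` attached to a commuting pair `(g, c)` -/
noncomputable def nOf (g c : G) : G := shift N g c
/-- its π-part -/
noncomputable def aOf (g c : G) : G := (nOf N g c) ^ piExp π (nOf N g c)
/-- its π'-part -/
noncomputable def bOf (g c : G) : G := (nOf N g c) ^ pi'Exp π (nOf N g c)
/-- the element `g * b` of the coset of `g` -/
noncomputable def hOf (g c : G) : G := g * bOf N π g c
/-- the final element of `N` commuting with `a` -/
noncomputable def mOf (g c : G) : G := shift N (aOf N π g c) (hOf N π g c)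

variable {N π}

theorem nOf_mem {g c : G} (hgc : Commute g c) : nOf N g c ∈ N := shift_mem N hgc

theorem aOf_mem {g c : G} (hgc : Commute g c) : aOf N π g c ∈ N := N.pow_mem (nOf_mem hgc) _

theorem bOf_mem {g c : G} (hgc : Commute g c) : bOf N π g c ∈ N := N.pow_mem (nOf_mem hgc) _

theorem aOf_pi (g c : G) : IsPi π (aOf N π g c) := (piExp_spec π _).1

theorem bOf_pi' (g c : G) : IsPi' π (bOf N π g c) := (piExp_spec π _).2.1

theorem aOf_mul_bOf (g c : G) : aOf N π g c * bOf N π g c = nOf N g c := (piExp_spec π _).2.2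

theorem comm_g_b {g c : G} (hgc : Commute g c) : Commute g (bOf N π g c) :=
  (shift_comm N hgc).pow_right _

theorem comm_a_h {g c : G} (hgc : Commute g c) : Commute (aOf N π g c) (hOf N π g c) := by
  unfold hOf
  refine Commute.mul_right ?_ ?_
  · exact ((shift_comm N hgc).pow_right _).symm
  · exact Commute.pow_pow_self _ _ _

theorem hOf_coset {g c : G} (hgc : Commute g c) : ((hOf N π g c : G) : G ⧸ N) = (g : G ⧸ N) := by
  unfold hOf
  rw [QuotientGroup.mk_mul, (QuotientGroup.eq_one_iff _).2 (bOf_mem hgc), mul_one]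

theorem mOf_mem {g c : G} (hgc : Commute g c) : mOf N π g c ∈ N := shift_mem N (comm_a_h hgc)

theorem comm_a_m {g c : G} (hgc : Commute g c) : Commute (aOf N π g c) (mOf N π g c) :=
  shift_comm N (comm_a_h hgc)

/-- The raw injectivity statement. -/
theorem raw_inj {g c g' c' : G} (hg : IsPi π g) (hgc : Commute g c) (hg' : IsPi π g')
    (hgc' : Commute g' c') (h1 : (g : G ⧸ N) = (g' : G ⧸ N)) (h2 : (c : G ⧸ N) = (c' : G ⧸ N))
    (h3 : aOf N π g c = aOf N π g' c') (h4 : mOf N π g c = mOf N π g' c') : g = g' ∧ c = c' := by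
  have hh : hOf N π g c = hOf N π g' c' := by
    apply shift_inj N (s := aOf N π g c)
    · rw [hOf_coset hgc, hOf_coset hgc', h1]
    · have := h4
      unfold mOf at this
      rw [← h3] at this
      exact this
  obtain ⟨e1, e2⟩ := pi_decomposition_unique hg (bOf_pi' g c) (comm_g_b hgc) hg' (bOf_pi' g' c')
    (comm_g_b hgc') hh
  refine ⟨e1, ?_⟩
  have hn : nOf N g c = nOf N g' c' := by
    rw [← aOf_mul_bOf (π := π), ← aOf_mul_bOf (π := π), h3, e2]
  apply shift_inj N (s := g) h2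
  have := hn
  unfold nOf at this
  rw [← e1] at this
  exact this

variable (N π)

/-- The type of commuting pairs `(g, c)` with `g` a π-element. -/
abbrev PiPairs (K : Type*) [Group K] : Type _ := {x : K × K // IsPi π x.1 ∧ Commute x.1 x.2}

/-- The injection `PiPairs G → PiPairs (G ⧸ N) × PiPairs N`. -/
noncomputable def psi (x : PiPairs π G) : PiPairs π (G ⧸ N) × PiPairs π N :=
  (⟨((x.1.1 : G ⧸ N), (x.1.2 : G ⧸ N)),
      x.2.1.of_orderOf_dvd (orderOf_map_dvd (QuotientGroup.mk' N) x.1.1),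
      x.2.2.map (QuotientGroup.mk' N)⟩,
   ⟨(⟨aOf N π x.1.1 x.1.2, aOf_mem x.2.2⟩, ⟨mOf N π x.1.1 x.1.2, mOf_mem x.2.2⟩),
      (aOf_pi x.1.1 x.1.2).of_orderOf_dvd (by rw [Subgroup.orderOf_mk]),
      by
        have h := comm_a_m (N := N) (π := π) x.2.2
        exact Subtype.ext h⟩)

theorem psi_injective : Function.Injective (psi N π) := by
  intro x y hxy
  have e1 := congrArg (fun z => z.1.1.1) hxy
  have e2 := congrArg (fun z => z.1.1.2) hxy
  have e3 := congrArg (fun z => (z.2.1.1 : G)) hxy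
  have e4 := congrArg (fun z => (z.2.1.2 : G)) hxy
  obtain ⟨h1, h2⟩ := raw_inj x.2.1 x.2.2 y.2.1 y.2.2 e1 e2 e3 e4
  apply Subtype.ext
  exact Prod.ext h1 h2

theorem card_piPairs_le :
    Nat.card (PiPairs π G) ≤ Nat.card (PiPairs π (G ⧸ N)) * Nat.card (PiPairs π N) := by
  rw [← Nat.card_prod]
  exact Nat.card_le_card_of_injective _ (psi_injective N π)

end Coset

/-- number of classes of π-elements, in the form used by S4152 -/
theorem card_piClasses_mul_card (π : Set ℕ) (K : Type*) [Group K] [Finite K] :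
    Nat.card {C : ConjClasses K // ∀ q : ℕ, q.Prime →
      (∃ g : K, ConjClasses.mk g = C ∧ q ∣ orderOf g) → q ∈ π} * Nat.card K =
      Nat.card (PiPairs π K) := by
  rw [PiPairs, card_commPairs_eq (IsPi π) (fun c g hg => hg.conj c)]
  congr 1
  apply Nat.card_congr
  apply Equiv.subtypeEquivRight
  intro C
  constructor
  · intro h g hg q hq hd
    exact h q hq ⟨g, hg, hd⟩
  · rintro h q hq ⟨g, hg, hd⟩
    exact h g hg q hq hd

/-- `k_π(G) ≤ k_π(N) k_π(G/N)`. -/
theorem card_piClasses_le {G : Type*} [Group G] [Finite G] (N : Subgroup G) [N.Normal]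
    (π : Set ℕ) :
    Nat.card {C : ConjClasses G // ∀ q : ℕ, q.Prime →
        (∃ g : G, ConjClasses.mk g = C ∧ q ∣ orderOf g) → q ∈ π} ≤
      Nat.card {C : ConjClasses N // ∀ q : ℕ, q.Prime →
        (∃ g : N, ConjClasses.mk g = C ∧ q ∣ orderOf g) → q ∈ π} *
      Nat.card {C : ConjClasses (G ⧸ N) // ∀ q : ℕ, q.Prime →
        (∃ g : G ⧸ N, ConjClasses.mk g = C ∧ q ∣ orderOf g) → q ∈ π} := by
  have h1 := card_piClasses_mul_card π G
  have h2 := card_piClasses_mul_card π N
  have h3 := card_piClasses_mul_card π (G ⧸ N)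
  have h4 := card_piPairs_le N π
  have h5 : Nat.card G = Nat.card (G ⧸ N) * Nat.card N := Subgroup.card_eq_card_quotient_mul_card_subgroup N
  have hpos : 0 < Nat.card G := Nat.card_pos
  rw [← h1, ← h2, ← h3, h5] at h4
  rw [h5] at hpos
  refine Nat.le_of_mul_le_mul_right ?_ hpos
  calc _ ≤ _ := h4
    _ = _ := by ring

end Cfsg.Agent.Lib.Helper32_PiClasses
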