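import Mathlib

/-!
# Involutions acting on a normal subgroup of odd order of index two

General group theory used for Fischer's width-one theorem on 3-transposition groups:
* `relIndex_eq_index_of_coprime`, `exists_mul_of_coprime_index`: subgroups of coprime indices
  factorize the group;
* `index_eq_two_of_sup`: a normal subgroup supplemented by an involution outside it has index two;
* `conj_of_involutions`: two involutions with product of odd order are conjugate;
* `exists_sylow_normalized`: an involution normalizes some Sylow `p`-subgroup for every odd `p`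
  when the group is the product of the involution and a normal subgroup of odd order.
-/

set_option autoImplicit false

namespace Cfsg.Agent.Lib.Helper89_InvolSylow

variable {G : Type*} [Group G]

theorem relIndex_eq_index_of_coprime [Finite G] (H K : Subgroup G)
    (h : H.index.Coprime K.index) : K.relIndex H = K.index := by
  have h1 : K.relIndex H * H.index = (H ⊓ K).index := by
    rw [← Subgroup.inf_relIndex_left]
    exact Subgroup.relIndex_mul_index inf_le_left
  have h2 : K.index ∣ (H ⊓ K).index := Subgroup.index_dvd_of_le inf_le_right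
  rw [← h1] at h2
  have h3 : K.index ∣ K.relIndex H := (Nat.Coprime.dvd_mul_right h.symm).mp h2
  have h4 : (H ⊓ K).index ≤ H.index * K.index := Subgroup.index_inf_le
  rw [← h1] at h4
  have hH : 0 < H.index := Nat.pos_of_ne_zero Subgroup.index_ne_zero_of_finite
  have h5 : K.relIndex H ≤ K.index := by
    have : K.relIndex H * H.index ≤ K.index * H.index := by rw [mul_comm K.index]; exact h4
    exact Nat.le_of_mul_le_mul_right this hH
  have hK : 0 < K.relIndex H := by
    apply Nat.pos_of_ne_zero
    unfold Subgroup.relIndex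
    exact Subgroup.index_ne_zero_of_finite
  exact le_antisymm h5 (Nat.le_of_dvd hK h3)

theorem exists_mul_of_coprime_index [Finite G] (H K : Subgroup G)
    (h : H.index.Coprime K.index) (g : G) : ∃ a ∈ H, ∃ b ∈ K, g = a * b := by
  classical
  have hrel := relIndex_eq_index_of_coprime H K h
  -- the orbit of the trivial coset under `H` in `G ⧸ K`
  let b : G ⧸ K := QuotientGroup.mk 1
  have hstab : MulAction.stabilizer H b = K.subgroupOf H := by
    ext x
    rw [MulAction.mem_stabilizer_iff, Subgroup.mem_subgroupOf]
    change ((x : G) • (QuotientGroup.mk 1 : G ⧸ K)) = QuotientGroup.mk 1 ↔ _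
    rw [MulAction.Quotient.smul_mk, QuotientGroup.eq]
    simp
  have hidx : (MulAction.stabilizer H b).index = (MulAction.orbit H b).ncard :=
    MulAction.index_stabilizer H b
  rw [hstab] at hidx
  have hcard : (MulAction.orbit H b).ncard = Nat.card (G ⧸ K) := by
    rw [← hidx]
    exact hrel
  have huniv : MulAction.orbit H b = Set.univ := by
    have := Set.eq_univ_iff_ncard (MulAction.orbit H b) |>.mpr hcard
    exact this
  have hg : (QuotientGroup.mk g : G ⧸ K) ∈ MulAction.orbit H b := by rw [huniv]; trivial
  obtain ⟨x, hx⟩ := hg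
  change ((x : G) • (QuotientGroup.mk 1 : G ⧸ K)) = QuotientGroup.mk g at hx
  rw [MulAction.Quotient.smul_mk, QuotientGroup.eq] at hx
  refine ⟨x, x.2, _, hx, ?_⟩
  simp


theorem sq_of_orderOf_two {d : G} (h : orderOf d = 2) : d * d = 1 := by
  have := pow_orderOf_eq_one d
  rw [h, pow_two] at this; exact this

theorem inv_of_orderOf_two {d : G} (h : orderOf d = 2) : d⁻¹ = d :=
  inv_eq_of_mul_eq_one_right (sq_of_orderOf_two h)

/-- An element of order two does not lie in a subgroup of odd order. -/
theorem not_mem_of_odd [Finite G] {d : G} (h : orderOf d = 2) (N : Subgroup G)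
    (hN : Odd (Nat.card N)) : d ∉ N := by
  intro hd
  have h1 : orderOf (⟨d, hd⟩ : N) ∣ Nat.card N := orderOf_dvd_natCard _
  have h2 : orderOf (⟨d, hd⟩ : N) = orderOf d := Subgroup.orderOf_mk d hd
  rw [h2, h] at h1
  exact (Nat.not_even_iff_odd.mpr hN) (even_iff_two_dvd.mpr h1)

/-- A normal subgroup which together with an element of order two outside it generates the group
has index two. -/
theorem index_eq_two_of_sup {d : G} (h : orderOf d = 2) (N : Subgroup G) [N.Normal]
    (hsup : Subgroup.zpowers d ⊔ N = ⊤) (hd : d ∉ N) : N.index = 2 := by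
  have h1 : N.relIndex (Subgroup.zpowers d ⊔ N) = N.relIndex (Subgroup.zpowers d) :=
    Subgroup.relIndex_sup_right _ _
  rw [hsup, Subgroup.relIndex_top_right] at h1
  have h2 : N.relIndex (Subgroup.zpowers d) ∣ Nat.card (Subgroup.zpowers d) :=
    Subgroup.relIndex_dvd_card N (Subgroup.zpowers d)
  rw [Nat.card_zpowers, h, ← h1] at h2
  rcases (Nat.dvd_prime Nat.prime_two).mp h2 with h3 | h3
  · exfalso
    rw [Subgroup.index_eq_one] at h3
    exact hd (h3 ▸ Subgroup.mem_top d)
  · exact h3

/-- Two involutions whose product has odd order are conjugate. -/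
theorem conj_of_involutions {d e : G} (hd : orderOf d = 2) (he : orderOf e = 2)
    (hodd : Odd (orderOf (d * e))) : ∃ g : G, g * d * g⁻¹ = e := by
  obtain ⟨k, hk⟩ := hodd
  have hdd := sq_of_orderOf_two hd
  have hee := sq_of_orderOf_two he
  have hdinv := inv_of_orderOf_two hd
  have heinv := inv_of_orderOf_two he
  have hcdc : (d * e) * d * (d * e) = d := by
    calc (d * e) * d * (d * e) = d * e * (d * d) * e := by group
      _ = d * (e * e) := by rw [hdd]; group
      _ = d := by rw [hee, mul_one]
  have hj : ∀ j : ℕ, (d * e) ^ j * d * (d * e) ^ j = d := by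
    intro j
    induction j with
    | zero => simp
    | succ j ih =>
      calc (d * e) ^ (j + 1) * d * (d * e) ^ (j + 1)
          = (d * e) ^ j * ((d * e) * d * (d * e)) * (d * e) ^ j := by
            have e2 : (d * e) ^ (j + 1) * d * (d * e) ^ (j + 1)
                = ((d * e) ^ j * (d * e)) * d * ((d * e) * (d * e) ^ j) := by
              rw [← pow_succ, ← pow_succ']
            rw [e2]
            simp only [mul_assoc]
        _ = d := by rw [hcdc, ih]
  have h1 : (d * e) ^ (2 * k) * (d * e) = 1 := by
    rw [← pow_succ, ← hk]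
    exact pow_orderOf_eq_one _
  have h2 : (d * e) ^ (2 * k) = e * d := by
    have : (d * e) ^ (2 * k) = (d * e)⁻¹ := eq_inv_of_mul_eq_one_left h1
    rw [this, mul_inv_rev, hdinv, heinv]
  refine ⟨(d * e) ^ k, ?_⟩
  calc (d * e) ^ k * d * ((d * e) ^ k)⁻¹
      = (d * e) ^ k * ((d * e) ^ k * d * (d * e) ^ k) * ((d * e) ^ k)⁻¹ := by rw [hj k]
    _ = ((d * e) ^ k * (d * e) ^ k) * d := by group
    _ = (d * e) ^ (2 * k) * d := by rw [← pow_add, two_mul]
    _ = e * (d * d) := by rw [h2]; group
    _ = e := by rw [hdd, mul_one]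

/-- An element of odd order lies in every subgroup of index two. -/
theorem mem_of_index_two_of_odd {N : Subgroup G} (hN : N.index = 2) {x : G}
    (hx : Odd (orderOf x)) : x ∈ N := by
  have hcop : Nat.Coprime 2 (orderOf x) := (Nat.coprime_two_left).mpr hx
  obtain ⟨m, hm⟩ := exists_pow_eq_self_of_coprime hcop
  rw [← hm]
  exact N.pow_mem (Subgroup.sq_mem_of_index_two hN x) m

/-- If `G` is generated by an involution `d` and a normal subgroup `N` of odd order, then for every
odd prime `p` the involution `d` normalizes some Sylow `p`-subgroup of `G`. -/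
theorem exists_sylow_normalized [Finite G] {d : G} (hd : orderOf d = 2) (N : Subgroup G) [N.Normal]
    (hN : Odd (Nat.card N)) (hsup : Subgroup.zpowers d ⊔ N = ⊤) (p : ℕ) [hp : Fact p.Prime]
    (hp2 : p ≠ 2) : ∃ P : Sylow p G, d ∈ Subgroup.normalizer (P : Set G) := by
  have hdN : d ∉ N := not_mem_of_odd hd N hN
  have hidx : N.index = 2 := index_eq_two_of_sup hd N hsup hdN
  obtain ⟨P⟩ : Nonempty (Sylow p G) := inferInstance
  have hpodd : Odd p := hp.out.odd_of_ne_two hp2
  have hPN : (P : Subgroup G) ≤ N := by
    intro x hx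
    apply mem_of_index_two_of_odd hidx
    obtain ⟨j, hj⟩ := (IsPGroup.iff_orderOf.mp P.2) ⟨x, hx⟩
    rw [Subgroup.orderOf_mk] at hj
    rw [hj]
    exact hpodd.pow
  have hfr : Subgroup.normalizer (P : Set G) ⊔ N = ⊤ := Sylow.normalizer_sup_eq_top' P hPN
  have h1 : N.relIndex (Subgroup.normalizer (P : Set G) ⊔ N) = N.relIndex (Subgroup.normalizer (P : Set G)) :=
    Subgroup.relIndex_sup_right _ _
  rw [hfr, Subgroup.relIndex_top_right, hidx] at h1
  have h2 : 2 ∣ Nat.card (Subgroup.normalizer (P : Set G)) := by
    rw [h1]; exact Subgroup.relIndex_dvd_card N _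
  have : Fact (Nat.Prime 2) := ⟨Nat.prime_two⟩
  obtain ⟨e', he'⟩ := exists_prime_orderOf_dvd_card' 2 h2
  have he : orderOf (e' : G) = 2 := by rw [Subgroup.orderOf_coe]; exact he'
  have heN : (e' : G) ∉ N := not_mem_of_odd he N hN
  have hde : d * (e' : G) ∈ N := (Subgroup.mul_mem_iff_of_index_two hidx).mpr
    ⟨fun h => absurd h hdN, fun h => absurd h heN⟩
  have hodd : Odd (orderOf (d * (e' : G))) := by
    have h3 : orderOf (⟨d * (e' : G), hde⟩ : N) ∣ Nat.card N := orderOf_dvd_natCard _
    rw [Subgroup.orderOf_mk] at h3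
    exact Odd.of_dvd_nat hN h3
  obtain ⟨g, hg⟩ := conj_of_involutions hd he hodd
  have heP : (e' : G) • P = P := Sylow.smul_eq_iff_mem_normalizer.mpr e'.2
  refine ⟨g⁻¹ • P, ?_⟩
  rw [← Sylow.smul_eq_iff_mem_normalizer, ← mul_smul]
  have : d * g⁻¹ = g⁻¹ * (e' : G) := by rw [← hg]; group
  rw [this, mul_smul, heP]

end Cfsg.Agent.Lib.Helper89_InvolSylow
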