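import Mathlib
import Cfsg.Prelude.Def_Blocks
import Cfsg.Prelude.Def_Solvable
import Cfsg.Agent.Lib.Helper3_CharBurnside
import Cfsg.Agent.Lib.Helper77_WeakOrth
import Cfsg.Agent.Lib.Helper78_CharFacts
import Cfsg.Agent.Lib.Helper78_LocalRing
import Cfsg.Agent.Lib.Helper79_Linear
import Cfsg.Agent.Lib.Helper23_ZStarB
import Cfsg.Agent.Lib.Helper89_InvolSylow
import Cfsg.Agent.Lib.Helper1_Cores
import Cfsg.Agent.Lib.Helper32_PiClasses
import Cfsg.Agent.Lib.Helper32_Sylow

/-!
# Kazarin's theorem on elements of prime power index (helper32)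

* `commutator_isPGroup_of_generated`: if a finite group `G` is generated by elements of `p`-power
  index and `p ∤ |G : G'|`, then `G'` is a `p`-group.  The proof applies weak block orthogonality
  (helper77) for a prime `q ≠ p` dividing `|G'|` to the union of the `q`-blocks of the linear
  characters, together with Burnside's coprimality lemma (helper3).
* `commutator_conj_mem_pCore`: if `|x^G|` is a power of `p` then `[x^g, x^h] ∈ O_p(G)`.
* `isSolvable_normalClosure`: Kazarin's theorem, the normal closure of `x` is solvable.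
-/

set_option autoImplicit false
set_option linter.unusedSectionVars false

namespace Cfsg.Agent.Lib.Helper32_Kazarin

open Cfsg
open scoped ComplexConjugate

universe u

section scalar

variable {G : Type u} [Group G]
variable {V : Type*} [AddCommGroup V] [Module ℂ V]

/-- The subgroup of elements acting as scalars in a representation. -/
def scalarSubgroup (ρ : Representation ℂ G V) : Subgroup G where
  carrier := {g | ∃ ω : ℂ, ρ g = ω • (LinearMap.id : V →ₗ[ℂ] V)}
  one_mem' := ⟨1, by rw [map_one, one_smul]; rfl⟩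
  mul_mem' := by
    rintro a b ⟨ω, ha⟩ ⟨ω', hb⟩
    refine ⟨ω * ω', ?_⟩
    rw [map_mul, ha, hb]
    ext v
    simp [mul_smul, smul_comm ω' ω]
  inv_mem' := by
    rintro a ⟨ω, ha⟩
    have h1 : ρ a⁻¹ * ρ a = 1 := by rw [← map_mul, inv_mul_cancel, map_one]
    by_cases h0 : ω = 0
    · refine ⟨0, ?_⟩
      rw [ha, h0, zero_smul, mul_zero] at h1
      rw [zero_smul]
      calc ρ a⁻¹ = ρ a⁻¹ * 1 := (mul_one _).symm
        _ = ρ a⁻¹ * 0 := by rw [h1]
        _ = 0 := mul_zero _
    · refine ⟨ω⁻¹, ?_⟩
      rw [ha] at h1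
      have h2 : ω • ρ a⁻¹ = 1 := by
        rw [← h1]
        ext v
        simp
      calc ρ a⁻¹ = ω⁻¹ • (ω • ρ a⁻¹) := by rw [smul_smul, inv_mul_cancel₀ h0, one_smul]
        _ = ω⁻¹ • (1 : Module.End ℂ V) := by rw [h2]
        _ = ω⁻¹ • LinearMap.id := rfl

theorem mem_scalarSubgroup (ρ : Representation ℂ G V) (g : G) :
    g ∈ scalarSubgroup ρ ↔ ∃ ω : ℂ, ρ g = ω • (LinearMap.id : V →ₗ[ℂ] V) := Iff.rfl

instance scalarSubgroup_normal (ρ : Representation ℂ G V) : (scalarSubgroup ρ).Normal := ⟨by
  rintro g ⟨ω, hg⟩ h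
  refine ⟨ω, ?_⟩
  have h1 : ρ h * ρ h⁻¹ = 1 := by rw [← map_mul, mul_inv_cancel, map_one]
  rw [map_mul, map_mul, hg]
  calc ρ h * ω • LinearMap.id * ρ h⁻¹ = ω • (ρ h * ρ h⁻¹) := by
        ext v
        simp
    _ = ω • LinearMap.id := by rw [h1]; rfl⟩

end scalar

section main

open Cfsg.Agent.Lib.Helper78_LocalRing Cfsg.Agent.Lib.Helper78_CharFacts
  Cfsg.Agent.Lib.Helper77_WeakOrth Cfsg.Agent.Lib.Helper79_Linear
  Cfsg.Agent.Lib.Helper3_CharBurnside Cfsg.Agent.Lib.Helper3_CharEigen
  Cfsg.Agent.Lib.Helper3_CharOrtho Cfsg.Agent.Lib.Helper3_CharBridge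
  Cfsg.Agent.Lib.Helper3_CharDegree

/-- If every group element acts as a scalar in an irreducible representation, its degree is one. -/
theorem finrank_eq_one_of_scalarSubgroup_eq_top {G : Type u} [Group G] [Fintype G]
    {V : Type*} [AddCommGroup V] [Module ℂ V] [FiniteDimensional ℂ V]
    (ρ : Representation ℂ G V) [ρ.IsIrreducible] (h : scalarSubgroup ρ = ⊤) :
    Module.finrank ℂ V = 1 := by
  have hnorm : ∀ g, ‖ρ.character g‖ = (Module.finrank ℂ V : ℝ) := fun g =>
    (norm_char_eq_iff ρ g).mpr ((mem_scalarSubgroup ρ g).mp (by rw [h]; trivial))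
  have h1 := classInner_self_of_isIrrCharacter (isIrrCharacter_of_rep ρ)
  unfold classInner at h1
  have h2 : ∀ g, ρ.character g * conj (ρ.character g) = ((Module.finrank ℂ V : ℂ)) ^ 2 := by
    intro g
    rw [Complex.mul_conj, Complex.normSq_eq_norm_sq, hnorm g]
    push_cast
    ring
  simp_rw [h2] at h1
  rw [Finset.sum_const, Finset.card_univ, nsmul_eq_mul, ← Nat.card_eq_fintype_card, ← mul_assoc,
    inv_mul_cancel₀ card_ne_zero_complex, one_mul] at h1
  have h3 : (Module.finrank ℂ V) ^ 2 = 1 := by exact_mod_cast h1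
  exact (Nat.pow_eq_one.mp h3).resolve_right (by norm_num)

/-- **Key theorem.**  If a finite group `G` is generated by elements of `p`-power index and
`p ∤ |G : G'|`, then `G'` is a `p`-group. -/
theorem commutator_isPGroup_of_generated {G : Type u} [Group G] [Finite G] (p : ℕ) (hp : p.Prime)
    (X : Set G) (hgen : Subgroup.closure X = ⊤)
    (hidx : ∀ x ∈ X, ∃ a : ℕ, (Subgroup.centralizer ({x} : Set G)).index = p ^ a)
    (hcop : ¬ p ∣ (commutator G).index) : IsPGroup p (commutator G) := by
  classical
  have := Fintype.ofFinite G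
  have hfin : Finite (IrrCharacter G) := charFacts.finite
  have := Fintype.ofFinite (IrrCharacter G)
  have hcard : ∀ q : ℕ, q.Prime → q ∣ Nat.card (commutator G) → q = p := by
    intro q hq hqd
    by_contra hqp
    obtain ⟨M, hM⟩ := Cfsg.Agent.Lib.Helper23_ZStarB.exists_pModular q hq
    have hMp : M.IsPrime := isPrime_of_isPModular hM
    haveI : Fact q.Prime := ⟨hq⟩
    obtain ⟨z, hz⟩ := exists_prime_orderOf_dvd_card' q hqd
    have hzG : orderOf (z : G) = q := by rw [Subgroup.orderOf_coe]; exact hz
    -- the union of the blocks of the linear characters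
    set U : Set (IrrCharacter G) := {χ | ∃ lam : IrrCharacter G, (lam : G → ℂ) 1 = 1 ∧
      SameBlock M (lam : G → ℂ) (χ : G → ℂ)} with hU
    have hUclosed : ∀ χ ∈ U, ∀ ψ : IrrCharacter G,
        SameBlock M (χ : G → ℂ) (ψ : G → ℂ) → ψ ∈ U := by
      rintro χ ⟨lam, h1, h2⟩ ψ h3
      exact ⟨lam, h1, sameBlock_trans hMp h2 h3⟩
    have hUint : ∀ g : G, MemLocalRing M (blockCoeff U g) := fun g => osima' hMp U hUclosed g
    have h1reg : ¬ q ∣ orderOf (1 : G) := by
      rw [orderOf_one]
      exact fun h => hq.one_lt.ne' (Nat.dvd_one.mp h)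
    have hzsing : q ∣ orderOf (z : G) := by rw [hzG]
    have hwo := weak_orthogonality hM U hUint 1 (z : G) h1reg hzsing
    rw [finsum_mem_def, finsum_eq_sum_of_fintype] at hwo
    -- term analysis
    have hterm : ∀ χ : IrrCharacter G, ∃ t : ℂ, IsIntegral ℤ t ∧
        U.indicator (fun χ : IrrCharacter G => (χ : G → ℂ) 1 * conj ((χ : G → ℂ) (z : G))) χ =
          (if (χ : G → ℂ) 1 = 1 then 1 else 0) + (p : ℂ) * t := by
      intro χ
      by_cases hχ1 : (χ : G → ℂ) 1 = 1
      · -- linear characters
        refine ⟨0, isIntegral_zero, ?_⟩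
        have hχU : χ ∈ U := ⟨χ, hχ1, sameBlock_refl hMp _⟩
        rw [Set.indicator_of_mem hχU, if_pos hχ1, hχ1,
          linear_commutator ⟨χ, hχ1⟩ z.2]
        simp
      · simp only [if_neg hχ1, zero_add]
        by_cases hχU : χ ∈ U
        · rw [Set.indicator_of_mem hχU]
          obtain ⟨n, ρ, hirr, hρ⟩ := χ.2
          have := hirr
          have hd1 : (χ : G → ℂ) 1 = (Module.finrank ℂ (Fin n → ℂ) : ℂ) := by
            rw [← hρ, Representation.char_one]
          have hpd : p ∣ Module.finrank ℂ (Fin n → ℂ) := by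
            by_contra hpd
            apply hχ1
            rw [hd1]
            have hX : X ⊆ (scalarSubgroup ρ : Set G) := by
              intro x hx
              obtain ⟨a, ha⟩ := hidx x hx
              have hcop' : Nat.Coprime (Module.finrank ℂ (Fin n → ℂ))
                  (Subgroup.centralizer ({x} : Set G)).index := by
                rw [ha]
                exact Nat.Coprime.pow_right a ((Nat.Prime.coprime_iff_not_dvd hp).mpr hpd).symm
              rcases char_eq_zero_or_norm_eq_of_coprime ρ x hcop' with h0 | h1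
              · exfalso
                obtain ⟨lam, hl1, hsb⟩ := hχU
                have hsx := hsb x
                unfold centralChar at hsx
                rw [← hρ, h0, mul_zero, zero_div, sub_zero, hl1, div_one, ha] at hsx
                -- multiply by lam x⁻¹
                have hlint : MemLocalRing M ((lam : G → ℂ) x⁻¹) := by
                  obtain ⟨m, σ, hσirr, hσ⟩ := lam.2
                  have := hσirr
                  have hi : IsIntegral ℤ ((lam : G → ℂ) x⁻¹) := by
                    rw [← hσ]; exact isIntegral_char σ x⁻¹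
                  exact memLocalRing_algInt hMp ⟨_, hi⟩
                have h2 := memLocalIdeal_mul_right hMp hsx hlint
                have hlam : (lam : G → ℂ) x * (lam : G → ℂ) x⁻¹ = 1 := by
                  rw [← linear_mul' ⟨lam, hl1⟩, mul_inv_cancel]
                  exact hl1
                rw [mul_assoc, hlam, mul_one] at h2
                have h3 : MemLocalIdeal M (((p ^ a : ℕ) : ℂ)) := by
                  push_cast
                  exact_mod_cast h2
                rw [memLocalIdeal_natCast_iff hM] at h3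
                exact hqp ((Nat.prime_dvd_prime_iff_eq hq hp).mp (hq.dvd_of_dvd_pow h3))
              · exact (mem_scalarSubgroup ρ x).mpr ((norm_char_eq_iff ρ x).mp h1)
            have htop : scalarSubgroup ρ = ⊤ := by
              rw [eq_top_iff, ← hgen, Subgroup.closure_le]
              exact hX
            have := finrank_eq_one_of_scalarSubgroup_eq_top ρ htop
            rw [this]
            simp
          obtain ⟨m, hm⟩ := hpd
          refine ⟨(m : ℂ) * conj ((χ : G → ℂ) (z : G)), ?_, ?_⟩
          · refine IsIntegral.mul (isIntegral_algebraMap (R := ℤ) (x := (m : ℤ)) |>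
              (by simpa using ·)) ?_
            rw [← Cfsg.Agent.Lib.Helper80_CharBasic.irr_inv χ (z : G), ← hρ]
            exact isIntegral_char ρ _
          · rw [hd1, hm]
            push_cast
            ring
        · refine ⟨0, isIntegral_zero, ?_⟩
          rw [Set.indicator_of_notMem hχU, mul_zero]
    choose t ht1 ht2 using hterm
    simp_rw [ht2] at hwo
    rw [Finset.sum_add_distrib, ← Finset.mul_sum] at hwo
    -- the number of linear characters
    have hlin : (∑ χ : IrrCharacter G, (if (χ : G → ℂ) 1 = 1 then (1 : ℂ) else 0)) =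
        ((commutator G).index : ℂ) := by
      rw [← card_linear, Nat.card_eq_fintype_card, Fintype.card_subtype, Finset.sum_boole]
    rw [hlin] at hwo
    have hβ : IsIntegral ℤ (∑ χ : IrrCharacter G, t χ) := IsIntegral.sum _ (fun χ _ => ht1 χ)
    have hpC : (p : ℂ) ≠ 0 := by exact_mod_cast hp.ne_zero
    have h1 : (((commutator G).index : ℕ) : ℂ) / (p : ℂ) = -(∑ χ : IrrCharacter G, t χ) := by
      field_simp
      linear_combination hwo
    have h2 : IsIntegral ℤ ((((commutator G).index : ℕ) : ℂ) / (p : ℂ)) := by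
      rw [h1]; exact hβ.neg
    exact hcop (dvd_of_isIntegral_div hp.ne_zero h2)
  haveI : Fact p.Prime := ⟨hp⟩
  rw [IsPGroup.iff_card]
  exact ⟨_, Nat.eq_prime_pow_of_unique_prime_dvd Nat.card_pos.ne' (fun hd hdvd => hcard _ hd hdvd)⟩

end main

section group

open Cfsg.Agent.Lib.Helper1_Cores Cfsg.Agent.Lib.Helper32_PiClasses
open scoped commutatorElement

variable {G : Type u} [Group G] [Finite G]

/-- Powers of an element of `p`-power index have `p`-power index. -/
theorem index_centralizer_pow {p : ℕ} (hp : p.Prime) {x : G}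
    (hx : ∃ a : ℕ, (Subgroup.centralizer ({x} : Set G)).index = p ^ a) (n : ℕ) :
    ∃ b : ℕ, (Subgroup.centralizer ({x ^ n} : Set G)).index = p ^ b := by
  obtain ⟨a, ha⟩ := hx
  have hle : Subgroup.centralizer ({x} : Set G) ≤ Subgroup.centralizer ({x ^ n} : Set G) := by
    intro c hc
    rw [Subgroup.mem_centralizer_iff] at hc ⊢
    intro y hy
    rw [Set.mem_singleton_iff] at hy
    subst hy
    have h1 : Commute x c := hc x rfl
    exact (h1.pow_left n).eq
  have hdvd := Subgroup.index_dvd_of_le hle
  rw [ha] at hdvd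
  obtain ⟨b, _, hb⟩ := (Nat.dvd_prime_pow hp).mp hdvd
  exact ⟨b, hb⟩

/-- Conjugates of an element of `p`-power index have `p`-power index. -/
theorem index_centralizer_conj {p : ℕ} {x : G}
    (hx : ∃ a : ℕ, (Subgroup.centralizer ({x} : Set G)).index = p ^ a) (c : G) :
    ∃ b : ℕ, (Subgroup.centralizer ({c * x * c⁻¹} : Set G)).index = p ^ b := by
  obtain ⟨a, ha⟩ := hx
  refine ⟨a, ?_⟩
  have h : Subgroup.centralizer ({c * x * c⁻¹} : Set G) =
      (Subgroup.centralizer ({x} : Set G)).map ((MulAut.conj c : G ≃* G) : G →* G) := by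
    ext g
    rw [Subgroup.mem_map, Subgroup.mem_centralizer_iff]
    constructor
    · intro hg
      refine ⟨c⁻¹ * g * c, ?_, ?_⟩
      · rw [Subgroup.mem_centralizer_iff]
        intro y hy
        rw [Set.mem_singleton_iff] at hy
        subst hy
        have h1 := hg (c * y * c⁻¹) rfl
        have h2 : c⁻¹ * ((c * y * c⁻¹) * g) * c = c⁻¹ * (g * (c * y * c⁻¹)) * c := by rw [h1]
        calc y * (c⁻¹ * g * c) = c⁻¹ * ((c * y * c⁻¹) * g) * c := by group
          _ = c⁻¹ * (g * (c * y * c⁻¹)) * c := h2
          _ = c⁻¹ * g * c * y := by group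
      · simp only [MonoidHom.coe_coe, MulAut.conj_apply]
        group
    · rintro ⟨d, hd, rfl⟩ y hy
      rw [Set.mem_singleton_iff] at hy
      subst hy
      rw [Subgroup.mem_centralizer_iff] at hd
      have h1 := hd x rfl
      simp only [MonoidHom.coe_coe, MulAut.conj_apply]
      calc c * x * c⁻¹ * (c * d * c⁻¹) = c * (x * d) * c⁻¹ := by group
        _ = c * (d * x) * c⁻¹ := by rw [h1]
        _ = c * d * c⁻¹ * (c * x * c⁻¹) := by group
  rw [h, Subgroup.index_map_equiv, ha]

/-- **Wielandt.** A `p`-element of `p`-power index lies in `O_p(G)`. -/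
theorem mem_pCore_of_pElement {p : ℕ} [hp : Fact p.Prime] {y : G}
    (hy : ∃ k : ℕ, orderOf y = p ^ k)
    (hidx : ∃ a : ℕ, (Subgroup.centralizer ({y} : Set G)).index = p ^ a) : y ∈ pCore p G := by
  obtain ⟨k, hk⟩ := hy
  obtain ⟨a, ha⟩ := hidx
  have hz : IsPGroup p (Subgroup.zpowers y) := by
    apply IsPGroup.of_card (n := k)
    rw [Nat.card_zpowers, hk]
  obtain ⟨P, hP⟩ := hz.exists_le_sylow
  have hyP : y ∈ (P : Subgroup G) := hP (Subgroup.mem_zpowers y)
  have hcop : (P : Subgroup G).index.Coprime (Subgroup.centralizer ({y} : Set G)).index := by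
    rw [ha]
    exact Nat.Coprime.pow_right a ((Nat.Prime.coprime_iff_not_dvd hp.out).mpr P.not_dvd_index).symm
  have hconj : ∀ g : G, g * y * g⁻¹ ∈ (P : Subgroup G) := by
    intro g
    obtain ⟨u, hu, c, hc, rfl⟩ :=
      Cfsg.Agent.Lib.Helper89_InvolSylow.exists_mul_of_coprime_index (P : Subgroup G)
        (Subgroup.centralizer ({y} : Set G)) hcop g
    rw [Subgroup.mem_centralizer_iff] at hc
    have h1 : c * y * c⁻¹ = y := by
      rw [← hc y rfl]; group
    have h2 : u * c * y * (u * c)⁻¹ = u * (c * y * c⁻¹) * u⁻¹ := by group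
    rw [h2, h1]
    exact (P : Subgroup G).mul_mem ((P : Subgroup G).mul_mem hu hyP) ((P : Subgroup G).inv_mem hu)
  have hle : Subgroup.normalClosure ({y} : Set G) ≤ (P : Subgroup G) := by
    rw [Subgroup.normalClosure, Subgroup.closure_le]
    intro w hw
    rw [Group.mem_conjugatesOfSet_iff] at hw
    obtain ⟨v, hv, hvw⟩ := hw
    rw [Set.mem_singleton_iff] at hv
    subst hv
    obtain ⟨c, hc⟩ := isConj_iff.mp hvw
    rw [← hc]
    exact hconj c
  have hN : IsPGroup p (Subgroup.normalClosure ({y} : Set G)) := P.isPGroup'.to_le hle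
  exact le_pCore Subgroup.normalClosure_normal hN
    (Subgroup.subset_normalClosure (Set.mem_singleton y))

/-- In a commutative group generated by elements killed by `m`, the order of the group has no
prime divisor outside `m`. -/
theorem not_dvd_card_of_generated_pow {A : Type*} [CommGroup A] [Finite A] {p : ℕ} (hp : p.Prime)
    (Y : Set A) (hgen : Subgroup.closure Y = ⊤) (m : ℕ) (hm : ¬ p ∣ m)
    (hY : ∀ y ∈ Y, y ^ m = 1) : ¬ p ∣ Nat.card A := by
  intro hdvd
  haveI : Fact p.Prime := ⟨hp⟩
  obtain ⟨a, ha⟩ := exists_prime_orderOf_dvd_card' p hdvd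
  have hker : (powMonoidHom m : A →* A).ker = ⊤ := by
    rw [eq_top_iff, ← hgen, Subgroup.closure_le]
    intro y hy
    exact (MonoidHom.mem_ker).mpr (hY y hy)
  have h1 : a ^ m = 1 := by
    have : a ∈ (powMonoidHom m : A →* A).ker := by rw [hker]; trivial
    exact (MonoidHom.mem_ker).mp this
  have h2 := orderOf_dvd_of_pow_eq_one h1
  rw [ha] at h2
  exact hm h2

/-- A `p'`-element `y` of `p`-power index: the commutator subgroup of its normal closure is a
normal `p`-subgroup. -/
theorem commutator_normalClosure_le_pCore {p : ℕ} [hp : Fact p.Prime] {y : G}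
    (hy : ¬ p ∣ orderOf y)
    (hidx : ∃ a : ℕ, (Subgroup.centralizer ({y} : Set G)).index = p ^ a) :
    ⁅Subgroup.normalClosure ({y} : Set G), Subgroup.normalClosure ({y} : Set G)⁆ ≤ pCore p G := by
  set N : Subgroup G := Subgroup.normalClosure ({y} : Set G) with hN
  have hNn : N.Normal := Subgroup.normalClosure_normal
  -- the generating set of `N`
  set X : Set N := ((↑) : N → G) ⁻¹' (Group.conjugatesOfSet ({y} : Set G)) with hX
  have hgen : Subgroup.closure X = ⊤ := Subgroup.closure_closure_coe_preimage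
  have hXconj : ∀ n ∈ X, ∃ c : G, (n : G) = c * y * c⁻¹ := by
    intro n hn
    rw [hX, Set.mem_preimage, Group.mem_conjugatesOfSet_iff] at hn
    obtain ⟨v, hv, hvw⟩ := hn
    rw [Set.mem_singleton_iff] at hv
    subst hv
    obtain ⟨c, hc⟩ := isConj_iff.mp hvw
    exact ⟨c, hc.symm⟩
  have hidxN : ∀ n ∈ X, ∃ a : ℕ, (Subgroup.centralizer ({n} : Set N)).index = p ^ a := by
    intro n hn
    obtain ⟨c, hc⟩ := hXconj n hn
    obtain ⟨b, hb⟩ := index_centralizer_conj hidx c
    rw [← hc] at hb
    have h1 : Subgroup.centralizer ({n} : Set N) =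
        (Subgroup.centralizer ({(n : G)} : Set G)).subgroupOf N := by
      ext g
      rw [Subgroup.mem_subgroupOf, Subgroup.mem_centralizer_iff, Subgroup.mem_centralizer_iff]
      constructor
      · intro h w hw
        rw [Set.mem_singleton_iff] at hw
        subst hw
        have := h n rfl
        exact congrArg Subtype.val this
      · intro h w hw
        rw [Set.mem_singleton_iff] at hw
        subst hw
        exact Subtype.ext (h (w : G) rfl)
    rw [h1]
    have h2 : (Subgroup.centralizer ({(n : G)} : Set G)).relIndex N ∣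
        (Subgroup.centralizer ({(n : G)} : Set G)).index := by
      rw [← Subgroup.inf_relIndex_right,
        Cfsg.Agent.Lib.Helper32_Sylow.relIndex_inf_of_normal]
      exact Subgroup.relIndex_dvd_index_of_le le_sup_left
    rw [hb] at h2
    obtain ⟨a, _, ha⟩ := (Nat.dvd_prime_pow hp.out).mp h2
    exact ⟨a, ha⟩
  -- `p ∤ |N : N'|`
  have hcopN : ¬ p ∣ (commutator N).index := by
    rw [Subgroup.index_eq_card]
    have hA : Nat.card (N ⧸ commutator N) = Nat.card (Abelianization N) := rfl
    rw [hA]
    refine not_dvd_card_of_generated_pow hp.out (Abelianization.of '' X) ?_ (orderOf y) hy ?_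
    · rw [← MonoidHom.map_closure, hgen, ← MonoidHom.range_eq_map]
      refine MonoidHom.range_eq_top.mpr ?_
      intro a
      obtain ⟨g, rfl⟩ := QuotientGroup.mk_surjective a
      exact ⟨g, rfl⟩
    · rintro _ ⟨n, hn, rfl⟩
      obtain ⟨c, hc⟩ := hXconj n hn
      rw [← map_pow]
      have : n ^ orderOf y = 1 := by
        apply Subtype.ext
        rw [Subgroup.coe_pow, hc, conj_pow, pow_orderOf_eq_one]
        simp
      rw [this, map_one]
  have hPG : IsPGroup p (commutator N) :=
    commutator_isPGroup_of_generated p hp.out X hgen hidxN hcopN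
  rw [← Subgroup.map_subtype_commutator]
  refine le_pCore ?_ (hPG.map _)
  rw [Subgroup.map_subtype_commutator]
  infer_instance

/-- If `|x^G|` is a power of `p`, then any two conjugates of `x` commute modulo `O_p(G)`
(statement S4364). -/
theorem commutator_conj_mem_pCore {p : ℕ} [hp : Fact p.Prime] (x : G)
    (hx : ∃ a : ℕ, (Subgroup.centralizer ({x} : Set G)).index = p ^ a) (g h : G) :
    (g * x * g⁻¹) * (h * x * h⁻¹) * (g * x * g⁻¹)⁻¹ * (h * x * h⁻¹)⁻¹ ∈ pCore p G := by
  obtain ⟨e, f, he, hf, hmul⟩ := exists_pi_decomposition ({p} : Set ℕ) x (orderOf_pos x).ne'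
  have hu : x ^ e ∈ pCore p G := by
    refine mem_pCore_of_pElement ⟨(orderOf (x ^ e)).primeFactorsList.length, ?_⟩
      (index_centralizer_pow hp.out hx e)
    exact Nat.eq_prime_pow_of_unique_prime_dvd (orderOf_pos (x ^ e)).ne'
      (fun hq hd => he _ hq hd)
  have hyp : ¬ p ∣ orderOf (x ^ f) := fun hd => hf p hp.out hd rfl
  have hcomm := commutator_normalClosure_le_pCore hyp (index_centralizer_pow hp.out hx f)
  have hTn : (pCore p G).Normal := inferInstance
  have hπ : ∀ c : G, (QuotientGroup.mk' (pCore p G)) (c * x * c⁻¹) =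
      (QuotientGroup.mk' (pCore p G)) (c * x ^ f * c⁻¹) := by
    intro c
    have h1 : c * x * c⁻¹ = (c * x ^ e * c⁻¹) * (c * x ^ f * c⁻¹) := by
      conv_lhs => rw [← hmul]
      group
    rw [h1, map_mul]
    have h2 : (QuotientGroup.mk' (pCore p G)) (c * x ^ e * c⁻¹) = 1 :=
      (QuotientGroup.eq_one_iff _).mpr (hTn.conj_mem _ hu c)
    rw [h2, one_mul]
  have hmem : ∀ c : G, c * x ^ f * c⁻¹ ∈ Subgroup.normalClosure ({x ^ f} : Set G) := fun c =>
    Subgroup.normalClosure_normal.conj_mem _
      (Subgroup.subset_normalClosure (Set.mem_singleton _)) c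
  have hyy : ⁅g * x ^ f * g⁻¹, h * x ^ f * h⁻¹⁆ ∈ pCore p G :=
    hcomm (Subgroup.commutator_mem_commutator (hmem g) (hmem h))
  rw [← commutatorElement_def, ← QuotientGroup.eq_one_iff, ← QuotientGroup.mk'_apply,
    map_commutatorElement, hπ g, hπ h, ← map_commutatorElement, QuotientGroup.mk'_apply,
    QuotientGroup.eq_one_iff]
  exact hyy

/-- If `|x^G|` is a power of `p`, the derived subgroup of the normal closure of `x` lies in
`O_p(G)`. -/
theorem commutator_normalClosure_le_pCore' {p : ℕ} [hp : Fact p.Prime] (x : G)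
    (hx : ∃ a : ℕ, (Subgroup.centralizer ({x} : Set G)).index = p ^ a) :
    ⁅Subgroup.normalClosure ({x} : Set G), Subgroup.normalClosure ({x} : Set G)⁆ ≤ pCore p G := by
  have hTn : (pCore p G).Normal := inferInstance
  set S' : Set (G ⧸ pCore p G) :=
    (QuotientGroup.mk' (pCore p G)) '' (Group.conjugatesOfSet ({x} : Set G)) with hS'
  have hS'comm : ∀ a ∈ S', ∀ b ∈ S', a * b = b * a := by
    rintro _ ⟨a, ha, rfl⟩ _ ⟨b, hb, rfl⟩
    rw [Group.mem_conjugatesOfSet_iff] at ha hb
    obtain ⟨v, hv, hva⟩ := ha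
    obtain ⟨w, hw, hwb⟩ := hb
    rw [Set.mem_singleton_iff] at hv hw
    subst hv
    subst hw
    obtain ⟨c, hc⟩ := isConj_iff.mp hva
    obtain ⟨d, hd⟩ := isConj_iff.mp hwb
    rw [← hc, ← hd]
    have h1 := commutator_conj_mem_pCore w hx c d
    rw [← commutatorElement_def, ← QuotientGroup.eq_one_iff, ← QuotientGroup.mk'_apply,
      map_commutatorElement, commutatorElement_eq_one_iff_commute] at h1
    exact h1.eq
  have hcl : ∀ a ∈ Subgroup.closure S', ∀ b ∈ Subgroup.closure S', a * b = b * a := by
    intro a ha b hb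
    have hc := Subgroup.isMulCommutative_closure hS'comm
    exact congrArg Subtype.val
      (hc.is_comm.comm (⟨a, ha⟩ : Subgroup.closure S') ⟨b, hb⟩)
  have hmap : (Subgroup.normalClosure ({x} : Set G)).map (QuotientGroup.mk' (pCore p G)) =
      Subgroup.closure S' := by
    rw [Subgroup.normalClosure, MonoidHom.map_closure]
  rw [Subgroup.commutator_le]
  intro a ha b hb
  have ha' : (QuotientGroup.mk' (pCore p G)) a ∈ Subgroup.closure S' := by
    rw [← hmap]; exact Subgroup.mem_map_of_mem _ ha
  have hb' : (QuotientGroup.mk' (pCore p G)) b ∈ Subgroup.closure S' := by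
    rw [← hmap]; exact Subgroup.mem_map_of_mem _ hb
  rw [← QuotientGroup.eq_one_iff, ← QuotientGroup.mk'_apply, map_commutatorElement,
    commutatorElement_eq_one_iff_commute]
  exact hcl _ ha' _ hb'

/-- **Kazarin's theorem.** If `|x^G|` is a power of a prime, the normal closure of `x` is
solvable. -/
theorem isSolvable_normalClosure {p : ℕ} [hp : Fact p.Prime] (x : G)
    (hx : ∃ a : ℕ, (Subgroup.centralizer ({x} : Set G)).index = p ^ a) :
    Group.IsSolvable (Subgroup.normalClosure ({x} : Set G)) := by
  set N : Subgroup G := Subgroup.normalClosure ({x} : Set G) with hN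
  have hle := commutator_normalClosure_le_pCore' x hx
  have hP : IsPGroup p (commutator N) := by
    have h1 : IsPGroup p ((commutator N).map N.subtype) := by
      rw [Subgroup.map_subtype_commutator]
      exact (pCore_isPGroup p).to_le hle
    exact h1.of_injective
      ((commutator N).equivMapOfInjective N.subtype N.subtype_injective).toMonoidHom
      ((commutator N).equivMapOfInjective N.subtype N.subtype_injective).injective
  haveI : Group.IsNilpotent (commutator N) := hP.isNilpotent
  exact Group.isSolvable_of_ker_le_range (commutator N).subtype (Abelianization.of (G := N))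
    (by rw [Abelianization.ker_of, Subgroup.range_subtype])

end group

end Cfsg.Agent.Lib.Helper32_Kazarin
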