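import Mathlib
import Cfsg.Prelude.Def_Classical
import Cfsg.Agent.Lib.Helper40_SpAdj
import Cfsg.Agent.Lib.Helper40_SpPrimeOrder
import Cfsg.Agent.Lib.Helper5_PSpSimple
import Cfsg.Agent.S0246

set_option autoImplicit false

/-!
Elements of order `r p` in `PSp_{2n}(q)`, `p` the characteristic and `r ≠ p` an odd prime:
they exist iff `η(ord_r q) ≤ n - 1`.
-/

namespace Cfsg.Agent.Lib.Helper40_PSpAdjP

open Polynomial Module Matrix Cfsg.Agent.Lib.Helper40_SpBasic Cfsg.Agent.Lib.Helper40_SpMatrix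
  Cfsg.Agent.Lib.Helper40_SpExistMatrix Cfsg.Agent.Lib.Helper40_SpAdj
  Cfsg.Agent.Lib.Helper40_Palindromic Cfsg.Agent.Lib.Helper40_SpPrimeOrder
  Cfsg.Agent.Lib.Helper40_PrimeOrderClasses Cfsg.Agent.Lib.Helper40_SpExist
  Cfsg.Agent.Lib.Helper40_Semisimple

universe v

variable {F : Type v} [Field F] {n : ℕ}

theorem finrank_vec : finrank F (Fin n ⊕ Fin n → F) = 2 * n := by
  rw [Module.finrank_pi, Fintype.card_sum, Fintype.card_fin, two_mul]

theorem cast_ne_zero_of_ne (p : ℕ) [Fact p.Prime] [CharP F p] {r : ℕ} (hr : r.Prime)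
    (hrp : r ≠ p) : (r : F) ≠ 0 := by
  have hp : p.Prime := Fact.out
  rw [Ne, CharP.cast_eq_zero_iff F p]
  intro h
  exact hrp ((Nat.prime_dvd_prime_iff_eq hp hr).1 h).symm

/-- in characteristic `p` a matrix with `U ^ p = 1` is unipotent -/
theorem isNilpotent_sub_one (p : ℕ) [Fact p.Prime] [CharP F p] {m : Type*} [Fintype m]
    [DecidableEq m] (U : Matrix m m F) (h : U ^ p = 1) :
    IsNilpotent ((Matrix.toLin' U : Module.End F (m → F)) - 1) := by
  set u : Module.End F (m → F) := Matrix.toLin' U with hu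
  have hpoly : ((X : F[X]) - 1) ^ p = X ^ p - 1 := by
    rw [sub_pow_char, one_pow]
  have h2 : aeval u (((X : F[X]) - 1) ^ p) = (u - 1) ^ p := by
    rw [map_pow, map_sub, aeval_X, map_one]
  have h3 : aeval u ((X : F[X]) ^ p - 1) = 0 := by
    rw [aeval_toLin'', map_sub, map_pow, aeval_X, map_one, h, sub_self, map_zero]
  exact ⟨p, by rw [← h2, hpoly, h3]⟩

open Cfsg.Agent.Lib.Helper13_Symp Cfsg.Agent.Lib.Helper13_SympTrans
  Cfsg.Agent.Lib.Helper5_PSpSimple in
theorem transv_pow (e : Fin n ⊕ Fin n → F) (c : F) (j : ℕ) :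
    (transv n e c) ^ j = transv n e (j * c) := by
  induction j with
  | zero => rw [pow_zero, Nat.cast_zero, zero_mul, transv_zero]
  | succ j ih =>
    rw [pow_succ, ih, transv_mul]
    congr 1
    push_cast
    ring

variable [Fintype F]

theorem finite_sp : Finite (symplecticGroup (Fin n) F) := by
  have : Finite (Matrix (Fin n ⊕ Fin n) (Fin n ⊕ Fin n) F) := by
    unfold Matrix
    infer_instance
  exact Finite.of_injective _ Subtype.val_injective

/-- no element of order `r p` when `η > n - 1` -/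
theorem no_order (p : ℕ) [Fact p.Prime] [CharP F p] {r : ℕ} (hr : r.Prime) (hr2 : r ≠ 2)
    (hrp : r ≠ p) (k η : ℕ) (hk : k = orderOf ((Fintype.card F : ℕ) : ZMod r))
    (hη : (Odd k ∧ η = k) ∨ (Even k ∧ 2 * η = k)) (hlt : n - 1 < η)
    (g : Cfsg.PSp n F) (hg : orderOf g = r * p) : False := by
  have hp : p.Prime := Fact.out
  have hfin : Finite (symplecticGroup (Fin n) F) := finite_sp
  obtain ⟨g0, rfl⟩ := QuotientGroup.mk_surjective g
  set o := orderOf g0 with ho
  have ho0 : o ≠ 0 := (orderOf_pos g0).ne'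
  have hdiv : r * p ∣ o := by
    rw [← hg]
    apply orderOf_dvd_of_pow_eq_one
    rw [← QuotientGroup.mk_pow, pow_orderOf_eq_one]
    rfl
  have hro : r ∣ o := (dvd_mul_right r p).trans hdiv
  have hpo : p ∣ o := (dvd_mul_left p r).trans hdiv
  set a0 := g0 ^ (o / r) with ha0
  set u0 := g0 ^ (o / p) with hu0
  have hoa : orderOf a0 = r := orderOf_pow_orderOf_div ho0 hro
  have hou : orderOf u0 = p := orderOf_pow_orderOf_div ho0 hpo
  have hcomm : a0 * u0 = u0 * a0 := by
    rw [ha0, hu0, ← pow_add, ← pow_add, add_comm]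
  set Am : Matrix (Fin n ⊕ Fin n) (Fin n ⊕ Fin n) F := a0.1 with hAm
  set Um : Matrix (Fin n ⊕ Fin n) (Fin n ⊕ Fin n) F := u0.1 with hUm
  have hAr : Am ^ r = 1 := by
    have h1 : a0 ^ r = 1 := by
      rw [← hoa]
      exact pow_orderOf_eq_one a0
    have := congrArg Subtype.val h1
    rwa [SubmonoidClass.coe_pow] at this
  have hUp : Um ^ p = 1 := by
    have h1 : u0 ^ p = 1 := by
      rw [← hou]
      exact pow_orderOf_eq_one u0
    have := congrArg Subtype.val h1
    rwa [SubmonoidClass.coe_pow] at this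
  have hA1 : Am ≠ 1 := by
    intro h1
    have : a0 = 1 := Subtype.ext h1
    rw [this, orderOf_one] at hoa
    exact hr.one_lt.ne hoa
  have hU1 : Um ≠ 1 := by
    intro h1
    have : u0 = 1 := Subtype.ext h1
    rw [this, orderOf_one] at hou
    exact hp.one_lt.ne hou
  have hAU : Am * Um = Um * Am := by
    have := congrArg Subtype.val hcomm
    rwa [Submonoid.coe_mul, Submonoid.coe_mul] at this
  set α : Module.End F (Fin n ⊕ Fin n → F) := Matrix.toLin' Am with hα
  set υ : Module.End F (Fin n ⊕ Fin n → F) := Matrix.toLin' Um with hυ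
  have hiso : IsoData (Jform n F) α r := isoData_of_mem Am a0.2 r hr.pos hAr
  have hα1 : α ≠ 1 := by
    intro h1
    apply hA1
    apply Matrix.toLin'.injective
    rw [Matrix.toLin'_one]
    exact h1
  have hυ1 : υ ≠ 1 := by
    intro h1
    apply hU1
    apply Matrix.toLin'.injective
    rw [Matrix.toLin'_one]
    exact h1
  have hc : Commute α υ := by
    show α * υ = υ * α
    rw [hα, hυ, Module.End.mul_eq_comp, Module.End.mul_eq_comp, ← Matrix.toLin'_mul,
      ← Matrix.toLin'_mul, hAU]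
  have hnil : IsNilpotent (υ - 1) := isNilpotent_sub_one p Um hUp
  have := two_eta_add_two_le (Jform_nondeg (n := n) (F := F)) hr hr2
    (Cfsg.Agent.Lib.Helper99_PrimeGraphP.not_dvd_card_of_ne p hr hrp)
    (cast_ne_zero_of_ne p hr hrp) hiso hα1 υ hc hnil hυ1 k η hk hη
  rw [finrank_vec] at this
  omega

/-- a semisimple symplectic matrix of order `r` with a fixed vector -/
theorem exists_semisimple (p : ℕ) [Fact p.Prime] [CharP F p] {r : ℕ} (hr : r.Prime)
    (hrp : r ≠ p) (k η : ℕ) (hk : k = orderOf ((Fintype.card F : ℕ) : ZMod r))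
    (hη : (Odd k ∧ η = k) ∨ (Even k ∧ 2 * η = k)) (hle : η + 1 ≤ n) :
    ∃ A : Matrix (Fin n ⊕ Fin n) (Fin n ⊕ Fin n) F, A ∈ symplecticGroup (Fin n) F ∧
      A ^ r = 1 ∧ A ≠ 1 ∧ ∃ e : Fin n ⊕ Fin n → F, e ≠ 0 ∧ A *ᵥ e = e := by
  classical
  have hp : p.Prime := Fact.out
  have : Fact r.Prime := ⟨hr⟩
  obtain ⟨hkpos, W, hcard, hW, -⟩ := exists_cyclotomic_factors (F := F) p r hr hrp
  rw [← hk] at hkpos hcard hW
  have hq0 : ((Fintype.card F : ℕ) : ZMod r) ≠ 0 := by
    rw [Ne, ZMod.natCast_eq_zero_iff]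
    exact Cfsg.Agent.Lib.Helper99_PrimeGraphP.not_dvd_card_of_ne p hr hrp
  have hkdvd : k ∣ r - 1 := by
    rw [hk]
    exact orderOf_dvd_of_pow_eq_one (ZMod.pow_card_sub_one_eq_one hq0)
  have hWpos : 0 < W.card := by
    rw [hcard]
    exact Nat.div_pos (Nat.le_of_dvd (by have := hr.two_le; omega) hkdvd) hkpos
  obtain ⟨w, hwW⟩ := Finset.card_pos.1 hWpos
  obtain ⟨hwm, hwi, hw1, hwd, hwdeg⟩ := hW w hwW
  have hw0 : w.coeff 0 ≠ 0 := coeff_zero_ne_zero_of_dvd r hr.pos w hwd
  obtain ⟨c0, hc0m, hc0deg, hc0rev, hc0dvd, hwc0⟩ : ∃ c0 : F[X], c0.Monic ∧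
      c0.natDegree = 2 * η ∧ c0.reverse = c0 ∧
      (∀ g, Irreducible g → g ∣ c0 → g ∣ X ^ r - 1) ∧ w ∣ c0 := by
    rcases hη with ⟨hodd, rfl⟩ | ⟨hev, h2⟩
    · refine ⟨w * recip w, hwm.mul (recip_monic w hw0), ?_, reverse_mul_recip w hwm hw0, ?_,
        dvd_mul_right _ _⟩
      · rw [natDegree_mul hwm.ne_zero (recip_monic w hw0).ne_zero, recip_natDegree w hw0, hwdeg]
        ring
      · intro g hg hgd
        rcases hg.prime.dvd_or_dvd hgd with h | h
        · exact h.trans hwd
        · have := recip_dvd hwd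
          rw [recip_X_pow_sub_one r hr.pos] at this
          exact h.trans this
    · have hrec : recip w = w := recip_eq_of_even p r k hr hk hkpos hev w hwm hwi hw1 hwd
      have hc1 : w.coeff 0 = 1 :=
        coeff_zero_eq_one_of_recip_eq w hw0 hrec (eval_one_ne_zero w hwm hwi hw1)
      exact ⟨w, hwm, by rw [hwdeg, h2], reverse_eq_of_recip_eq w hc1 hrec,
        fun g _ hgd => hgd.trans hwd, dvd_rfl⟩
  obtain ⟨m, hm⟩ : ∃ m, n = η + (m + 1) := ⟨n - η - 1, by omega⟩
  set c : F[X] := (X - 1) ^ (2 * (m + 1)) * c0 with hc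
  have hX1m : ((X : F[X]) - 1).Monic := X_sub_one_props.1
  have hcm : c.Monic := (hX1m.pow _).mul hc0m
  have hcdeg : c.natDegree = 2 * n := by
    rw [hc, natDegree_mul (hX1m.pow _).ne_zero hc0m.ne_zero, natDegree_pow, natDegree_X_sub_one,
      hc0deg, hm]
    ring
  have hcrev : c.reverse = c := by
    rw [hc, reverse_mul_of_domain, reverse_X_sub_one_pow _ (even_two_mul _), hc0rev]
  obtain ⟨A, hAmem, hAch, hAk⟩ := exists_sp_matrix n c hcm hcdeg hcrev
  have hAr : A ^ r = 1 := by
    have := hAk (X ^ r - 1) (by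
      intro g hg hgd
      rcases hg.prime.dvd_or_dvd hgd with h | h
      · exact (hg.prime.dvd_of_dvd_pow h).trans (X_sub_one_dvd r hr)
      · exact hc0dvd g hg h)
    rw [map_sub, map_pow, aeval_X, map_one, sub_eq_zero] at this
    exact this
  have hA1 : A ≠ 1 := by
    intro h1
    rw [h1, Matrix.charpoly_one] at hAch
    have h2 : w ∣ (X - 1) ^ Fintype.card (Fin n ⊕ Fin n) := by
      rw [hAch, hc]
      exact hwc0.trans (dvd_mul_left _ _)
    have h3 : w ∣ X - C 1 := by
      have := hwi.prime.dvd_of_dvd_pow h2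
      rwa [← C_1] at this
    apply hw1
    rw [eq_X_sub_C_of_dvd w hwm hwi 1 h3, C_1]
  have hdvd : ((X : F[X]) - 1) ∣ (Matrix.toLin' A).charpoly := by
    rw [Matrix.charpoly_toLin', hAch, hc]
    exact (dvd_pow_self _ (by omega)).trans (dvd_mul_right _ _)
  obtain ⟨e, he0, he⟩ := exists_ne_zero_aeval_eq_zero (Matrix.toLin' A) (X - 1)
    X_sub_one_props.2 hdvd
  rw [map_sub, aeval_X, map_one, LinearMap.sub_apply, Module.End.one_apply, sub_eq_zero,
    Matrix.toLin'_apply] at he
  exact ⟨A, hAmem, hAr, hA1, e, he0, he⟩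

open Cfsg.Agent.Lib.Helper13_Symp Cfsg.Agent.Lib.Helper13_SympTrans
  Cfsg.Agent.Lib.Helper5_PSpSimple

/-- existence of an element of order `r p` when `η ≤ n - 1` -/
theorem exists_order (p : ℕ) [Fact p.Prime] [CharP F p] {r : ℕ} (hr : r.Prime) (hr2 : r ≠ 2)
    (hrp : r ≠ p) (k η : ℕ) (hk : k = orderOf ((Fintype.card F : ℕ) : ZMod r))
    (hη : (Odd k ∧ η = k) ∨ (Even k ∧ 2 * η = k)) (hle : η + 1 ≤ n) :
    ∃ g : Cfsg.PSp n F, orderOf g = r * p := by
  have hp : p.Prime := Fact.out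
  have : Fact r.Prime := ⟨hr⟩
  obtain ⟨A, hAmem, hAr, hA1, e, he0, hAe⟩ := exists_semisimple p hr hrp k η hk hη hle
  set a0 : symplecticGroup (Fin n) F := ⟨A, hAmem⟩ with ha0
  have hoa : orderOf a0 = r := by
    apply orderOf_eq_prime
    · apply Subtype.ext
      rw [SubmonoidClass.coe_pow]
      exact hAr
    · intro h1
      exact hA1 (congrArg Subtype.val h1)
  set t : symplecticGroup (Fin n) F := transv n e 1 with ht
  have hot : orderOf t = p := by
    apply orderOf_eq_prime
    · rw [ht, transv_pow, mul_one, CharP.cast_eq_zero, transv_zero]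
    · intro h1
      obtain ⟨x, hx⟩ := exists_sympForm_ne_zero n he0
      have hx' : Cfsg.sympForm n F x e ≠ 0 := by
        rw [sympForm_swap]
        exact neg_ne_zero.2 hx
      have h2 := transv_mulVec n e 1 x
      rw [← ht, h1, Submonoid.coe_one, Matrix.one_mulVec, one_mul] at h2
      have h3 : Cfsg.sympForm n F x e • e = 0 := by
        have := h2
        nth_rewrite 1 [← add_zero x] at this
        exact (add_left_cancel this).symm
      rcases smul_eq_zero.1 h3 with h | h
      · exact hx' h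
      · exact he0 h
  have hcomm : Commute a0 t := by
    show a0 * t = t * a0
    apply Subtype.ext
    rw [Submonoid.coe_mul, Submonoid.coe_mul]
    apply Matrix.toLin'.injective
    apply LinearMap.ext
    intro x
    rw [Matrix.toLin'_apply, Matrix.toLin'_apply, ← Matrix.mulVec_mulVec, ← Matrix.mulVec_mulVec,
      ht, transv_mulVec, transv_mulVec, Matrix.mulVec_add, Matrix.mulVec_smul]
    show A *ᵥ x + _ • A *ᵥ e = _
    rw [hAe]
    congr 2
    nth_rewrite 2 [← hAe]
    rw [sympForm_mulVec_mulVec_of_mem n hAmem]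
  set g0 := a0 * t with hg0
  have hog : orderOf g0 = r * p := by
    rw [hg0, hcomm.orderOf_mul_eq_mul_orderOf_of_coprime, hoa, hot]
    rw [hoa, hot]
    exact (Nat.coprime_primes hr hp).2 hrp
  refine ⟨QuotientGroup.mk g0, ?_⟩
  have hn1 : 1 ≤ n := by omega
  apply Nat.dvd_antisymm
  · rw [← hog]
    apply orderOf_dvd_of_pow_eq_one
    rw [← QuotientGroup.mk_pow, pow_orderOf_eq_one]
    rfl
  · set d := orderOf (QuotientGroup.mk g0 : Cfsg.PSp n F) with hd
    have hcen : g0 ^ d ∈ Subgroup.center (symplecticGroup (Fin n) F) := by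
      rw [← QuotientGroup.eq_one_iff, QuotientGroup.mk_pow, hd]
      exact pow_orderOf_eq_one _
    have hsq : g0 ^ (2 * d) = 1 := by
      rcases Cfsg.Agent.S0246.center_eq_one_or_neg_one n hn1 _ hcen with h | h
      · have h1 : g0 ^ d = 1 := Subtype.ext h
        rw [mul_comm, pow_mul, h1, one_pow]
      · apply Subtype.ext
        rw [mul_comm, pow_mul, SubmonoidClass.coe_pow, h]
        simp
    have h2 : r * p ∣ 2 * d := by
      rw [← hog]
      exact orderOf_dvd_of_pow_eq_one hsq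
    have hrd : r ∣ d := by
      have h3 : r ∣ 2 * d := (dvd_mul_right r p).trans h2
      exact (Nat.Coprime.dvd_mul_left ((Nat.coprime_primes hr Nat.prime_two).2 hr2)).1 h3
    by_cases hp2 : p = 2
    · -- characteristic two: `-1 = 1`
      have hone : g0 ^ d = 1 := by
        rcases Cfsg.Agent.S0246.center_eq_one_or_neg_one n hn1 _ hcen with h | h
        · exact Subtype.ext h
        · apply Subtype.ext
          rw [h]
          have : CharP F 2 := hp2 ▸ (inferInstance : CharP F p)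
          have h11 : (-1 : F) = 1 := CharTwo.neg_eq 1
          ext i j
          simp [Matrix.neg_apply, Matrix.one_apply, CharTwo.neg_eq]
      rw [← hog]
      exact orderOf_dvd_of_pow_eq_one hone
    · have hpd : p ∣ d := by
        have h3 : p ∣ 2 * d := (dvd_mul_left p r).trans h2
        exact (Nat.Coprime.dvd_mul_left ((Nat.coprime_primes hp Nat.prime_two).2 hp2)).1 h3
      exact Nat.Coprime.mul_dvd_of_dvd_of_dvd ((Nat.coprime_primes hr hp).2 hrp) hrd hpd

end Cfsg.Agent.Lib.Helper40_PSpAdjP
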