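import Mathlib
import Cfsg.Agent.Lib.Helper66_MI_SpDefs
import Cfsg.Agent.Lib.Helper94_MI_SpKiso
import Cfsg.Agent.Lib.Helper99_SpBridge
import Cfsg.Agent.Lib.Helper5_SpOrder
import Cfsg.Agent.Lib.Helper5_SpPerfect
import Cfsg.Agent.Lib.Helper52_MI2_PERM
import Cfsg.Agent.Lib.Helper40_PSpAdjP
import Cfsg.Agent.S0244
import Cfsg.Agent.S0806

/-
helper32: MISp package SL2 for helper66's S2141 market.
`KMin_two` (proper subgroups of `Kv ≅ Sp_2(q)`, `q ≥ 4`, have index at least `sl2min q`)
and `card_Kv_two` (`|Kv| = q (q^2 - 1)` when `m = 2`).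
Route: `Kv ≃* Sp(Wsub)` (Helper94 Kiso) `≃* Sp_2(F)` (Helper99 bridge) `→ SL_2(F) → PSL_2(F)`,
then S0806 (minimal degree of `PSL_2(q)`) for `q ∉ {5,7,9,11}` and perfectness (index ≥ 5) otherwise.
-/
set_option autoImplicit false
set_option linter.unusedVariables false
set_option linter.unusedSectionVars false

namespace Cfsg.Agent.Lib.Helper32_MISp_SL2

open Cfsg.Agent.Lib.Helper94_Symp Cfsg.Agent.Lib.Helper94_SympTI
  Cfsg.Agent.Lib.Helper94_SympPerfect Cfsg.Agent.Lib.Helper66_MI_SpDefs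

universe u

open scoped commutatorElement

/-- a proper subgroup of a finite perfect group has index at least `5` -/
theorem perfect_index_ge_five {G : Type*} [Group G] [Finite G] (hG : commutator G = ⊤)
    (S : Subgroup G) (hS : S ≠ ⊤) : 5 ≤ S.index := by
  by_contra hlt
  push Not at hlt
  apply hS
  have hft : Fintype (G ⧸ S) := Fintype.ofFinite _
  have hY : Fintype.card (G ⧸ S) ≤ 4 := by
    rw [← Nat.card_eq_fintype_card, ← Subgroup.index_eq_card]
    omega
  rw [eq_top_iff]
  intro g _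
  have h1 := Cfsg.Agent.Lib.Helper52_MI2_PERM.perfect_acts_trivially hG hY g
    ((1 : G) : G ⧸ S)
  rw [MulAction.Quotient.smul_mk, QuotientGroup.eq] at h1
  simpa using S.inv_mem h1

variable {F : Type*} [Field F]

/-- the index bijection `Fin 1 ⊕ Fin 1 ≃ Fin 2` -/
def e2 : Fin 1 ⊕ Fin 1 ≃ Fin 2 := finSumFinEquiv

/-- `Sp_2(F) → SL_2(F)` (reindexing) -/
def toSL : Matrix.symplecticGroup (Fin 1) F →* Matrix.SpecialLinearGroup (Fin 2) F where
  toFun A := ⟨A.1.submatrix e2.symm e2.symm, by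
    rw [Matrix.det_submatrix_equiv_self]
    exact (Cfsg.Agent.S0244.result A.1).mp A.2⟩
  map_one' := by
    apply Subtype.ext
    show (1 : Matrix (Fin 1 ⊕ Fin 1) (Fin 1 ⊕ Fin 1) F).submatrix e2.symm e2.symm = 1
    exact Matrix.submatrix_one_equiv _
  map_mul' A B := by
    apply Subtype.ext
    show (A.1 * B.1).submatrix e2.symm e2.symm =
      A.1.submatrix e2.symm e2.symm * B.1.submatrix e2.symm e2.symm
    exact (Matrix.submatrix_mul_equiv _ _ _ _ _).symm

theorem toSL_val (A : Matrix.symplecticGroup (Fin 1) F) :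
    (toSL A).1 = A.1.submatrix e2.symm e2.symm := rfl

theorem toSL_injective : Function.Injective (toSL (F := F)) := by
  intro A B h
  apply Subtype.ext
  have h1 : A.1.submatrix e2.symm e2.symm = B.1.submatrix e2.symm e2.symm := by
    rw [← toSL_val, ← toSL_val, h]
  ext i j
  have := congrFun (congrFun h1 (e2 i)) (e2 j)
  simpa using this

theorem toSL_surjective : Function.Surjective (toSL (F := F)) := by
  intro M
  refine ⟨⟨M.1.submatrix e2 e2, ?_⟩, ?_⟩
  · rw [Cfsg.Agent.S0244.result, Matrix.det_submatrix_equiv_self]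
    exact M.2
  · apply Subtype.ext
    rw [toSL_val]
    ext i j
    simp

/-- the kernel of `Sp_2 → SL_2 → PSL_2` is central -/
theorem ker_central (z : Matrix.symplecticGroup (Fin 1) F)
    (hz : toSL z ∈ Subgroup.center (Matrix.SpecialLinearGroup (Fin 2) F))
    (h : Matrix.symplecticGroup (Fin 1) F) : z * h = h * z := by
  apply toSL_injective
  rw [map_mul, map_mul]
  exact ((Subgroup.mem_center_iff.mp hz) (toSL h)).symm

/-- proper subgroups of `Sp_2(q)`, `q ≥ 4`, have index at least `sl2min q` -/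
theorem sp2_index [Fintype F] {q : ℕ} (hF : Fintype.card F = q) (hq : 4 ≤ q)
    (S : Subgroup (Matrix.symplecticGroup (Fin 1) F)) (hS : S ≠ ⊤) : sl2min q ≤ S.index := by
  have hfin : Finite (Matrix.symplecticGroup (Fin 1) F) :=
    Cfsg.Agent.Lib.Helper40_PSpAdjP.finite_sp
  have hperf : commutator (Matrix.symplecticGroup (Fin 1) F) = ⊤ :=
    Cfsg.Agent.Lib.Helper5_SpPerfect.sp_perfect 1 (Or.inr (Or.inr (hF ▸ hq)))
  unfold sl2min
  split_ifs with hcase
  · exact perfect_index_ge_five hperf S hS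
  · have hq' : q ∉ ({2, 3, 5, 7, 9, 11} : Finset ℕ) := by
      simp only [Finset.mem_insert, Finset.mem_singleton, not_or]
      push Not at hcase
      refine ⟨by omega, by omega, hcase.1, hcase.2.1, hcase.2.2.1, hcase.2.2.2⟩
    set φ : Matrix.symplecticGroup (Fin 1) F →* Matrix.ProjectiveSpecialLinearGroup (Fin 2) F :=
      (QuotientGroup.mk' (Subgroup.center (Matrix.SpecialLinearGroup (Fin 2) F))).comp toSL with hφ
    have hsurj : Function.Surjective φ :=
      (QuotientGroup.mk'_surjective _).comp toSL_surjective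
    by_cases htop : S.map φ = ⊤
    · exfalso
      apply hS
      have hdec : ∀ g : Matrix.symplecticGroup (Fin 1) F, ∃ s ∈ S, ∃ z,
          (∀ h, z * h = h * z) ∧ g = s * z := by
        intro g
        have hg : φ g ∈ S.map φ := by rw [htop]; exact Subgroup.mem_top _
        obtain ⟨s, hs, hsg⟩ := hg
        refine ⟨s, hs, s⁻¹ * g, ?_, by group⟩
        apply ker_central
        have h1 : φ (s⁻¹ * g) = 1 := by rw [map_mul, map_inv, hsg, inv_mul_cancel]
        have h2 : (QuotientGroup.mk' (Subgroup.center (Matrix.SpecialLinearGroup (Fin 2) F)))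
            (toSL (s⁻¹ * g)) = 1 := h1
        rwa [QuotientGroup.mk'_apply, QuotientGroup.eq_one_iff] at h2
      have hcomm : commutator (Matrix.symplecticGroup (Fin 1) F) ≤ S := by
        rw [commutator_def, Subgroup.commutator_le]
        intro g _ h _
        obtain ⟨s, hs, z, hz, rfl⟩ := hdec g
        obtain ⟨s', hs', z', hz', rfl⟩ := hdec h
        have : ⁅s * z, s' * z'⁆ = ⁅s, s'⁆ := by
          rw [commutatorElement_def, commutatorElement_def]
          have e1 : (s * z)⁻¹ = s⁻¹ * z⁻¹ := by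
            rw [mul_inv_rev]
            have := hz s⁻¹
            have h3 : z⁻¹ * s⁻¹ = s⁻¹ * z⁻¹ := by
              have h4 := hz s
              calc z⁻¹ * s⁻¹ = (s * z)⁻¹ := by rw [mul_inv_rev]
                _ = (z * s)⁻¹ := by rw [h4]
                _ = s⁻¹ * z⁻¹ := by rw [mul_inv_rev]
            exact h3
          have e2 : (s' * z')⁻¹ = s'⁻¹ * z'⁻¹ := by
            have h4 := hz' s'
            calc (s' * z')⁻¹ = (z' * s')⁻¹ := by rw [h4]
              _ = s'⁻¹ * z'⁻¹ := by rw [mul_inv_rev]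
          rw [e1, e2]
          calc s * z * (s' * z') * (s⁻¹ * z⁻¹) * (s'⁻¹ * z'⁻¹)
              = s * (z * s') * (z' * s⁻¹) * (z⁻¹ * s'⁻¹) * z'⁻¹ := by group
            _ = s * (s' * z) * (s⁻¹ * z') * (s'⁻¹ * z⁻¹) * z'⁻¹ := by
                rw [hz s', hz' s⁻¹]
                congr 2
                have h5 := hz s'
                calc z⁻¹ * s'⁻¹ = (s' * z)⁻¹ := by rw [mul_inv_rev]
                  _ = (z * s')⁻¹ := by rw [h5]
                  _ = s'⁻¹ * z⁻¹ := by rw [mul_inv_rev]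
            _ = s * s' * (z * s⁻¹) * (z' * s'⁻¹) * z⁻¹ * z'⁻¹ := by group
            _ = s * s' * (s⁻¹ * z) * (s'⁻¹ * z') * z⁻¹ * z'⁻¹ := by rw [hz s⁻¹, hz' s'⁻¹]
            _ = s * s' * s⁻¹ * (z * s'⁻¹) * (z' * z⁻¹) * z'⁻¹ := by group
            _ = s * s' * s⁻¹ * (s'⁻¹ * z) * (z⁻¹ * z') * z'⁻¹ := by rw [hz s'⁻¹, hz' z⁻¹]
            _ = s * s' * s⁻¹ * s'⁻¹ := by group
        rw [this]
        exact S.mul_mem (S.mul_mem (S.mul_mem hs hs') (S.inv_mem hs)) (S.inv_mem hs')
      rw [hperf] at hcomm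
      exact top_le_iff.mp hcomm
    · have h1 := (Cfsg.Agent.S0806.result hF hq').1 (S.map φ) htop
      have h2 : (S.map φ).index ∣ S.index := Subgroup.index_map_dvd S hsurj
      have h3 : S.index ≠ 0 := Subgroup.index_ne_zero_of_finite
      exact h1.trans (Nat.le_of_dvd (Nat.pos_of_ne_zero h3) h2)

open Cfsg.Agent.Lib.Helper94_MI_SpKiso in
/-- `K ≅ Sp_2(F)` for `m = 2` -/
theorem exists_Kv_equiv {V : Type u} [AddCommGroup V] [Module F V]
    [FiniteDimensional F V] (B : LinearMap.BilinForm F V) {q : ℕ} (S : Setting B 2 q)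
    {v v' : V} (hvv : B v v' = 1) :
    Nonempty (↥(Kv B v v') ≃* Matrix.symplecticGroup (Fin 1) F) := by
  obtain ⟨e1, -⟩ := Kiso B S.alt hvv
  have hA := restrict_isAlt B S.alt v v'
  have hN := Wsub_restrict_nondeg B S.alt hvv S.nondeg
  have hdim : Module.finrank F ↥(Wsub B v v') = 2 * 1 := by
    have := finrank_Wsub_add_two B S.alt hvv
    rw [S.dim] at this
    omega
  obtain ⟨e2'⟩ := Cfsg.Agent.Lib.Helper99_SpBridge.nonempty_mulEquiv_symplecticGroup
    (B.restrict (Wsub B v v')) hA hN 1 hdim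
  exact ⟨e1.trans e2'⟩

theorem KMin_two {F : Type*} [Field F] [Finite F] {V : Type u} [AddCommGroup V] [Module F V]
    [FiniteDimensional F V] (B : LinearMap.BilinForm F V) {q : ℕ} (S : Setting B 2 q)
    (hq : 4 ≤ q) {v v' : V} (hvv : B v v' = 1) : KMin B v v' (sl2min q) := by
  have hfintype : Fintype F := Fintype.ofFinite F
  have hF : Fintype.card F = q := by rw [← Nat.card_eq_fintype_card]; exact S.card
  obtain ⟨E⟩ := exists_Kv_equiv B S hvv
  intro K' hle hne
  have h1 : (K'.subgroupOf (Kv B v v')) ≠ ⊤ := by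
    intro h
    rw [Subgroup.subgroupOf_eq_top] at h
    exact hne (le_antisymm hle h)
  have h2 : ((K'.subgroupOf (Kv B v v')).map E.toMonoidHom) ≠ ⊤ := by
    intro h
    apply h1
    rw [eq_top_iff]
    intro x _
    have hx : E x ∈ (K'.subgroupOf (Kv B v v')).map E.toMonoidHom := by
      rw [h]; exact Subgroup.mem_top _
    obtain ⟨y, hy, hyx⟩ := hx
    have : y = x := E.injective hyx
    rwa [this] at hy
  have h3 := sp2_index hF hq _ h2
  have h4 : ((K'.subgroupOf (Kv B v v')).map E.toMonoidHom).index =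
      (K'.subgroupOf (Kv B v v')).index :=
    Subgroup.index_map_of_bijective (f := E.toMonoidHom) E.bijective _
  rw [h4] at h3
  exact h3

/-- for `m = 2`: `|K| = |SL_2(q)| = q (q² - 1)` -/
theorem card_Kv_two {F : Type*} [Field F] [Finite F] {V : Type u} [AddCommGroup V] [Module F V]
    [FiniteDimensional F V] (B : LinearMap.BilinForm F V) {q : ℕ} (S : Setting B 2 q)
    {v v' : V} (hvv : B v v' = 1) : Nat.card (Kv B v v') = q * (q ^ 2 - 1) := by
  have hfintype : Fintype F := Fintype.ofFinite F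
  have hF : Fintype.card F = q := by rw [← Nat.card_eq_fintype_card]; exact S.card
  obtain ⟨E⟩ := exists_Kv_equiv B S hvv
  rw [Nat.card_congr E.toEquiv, Cfsg.Agent.Lib.Helper5_SpOrder.card_sp hF 1]
  simp

end Cfsg.Agent.Lib.Helper32_MISp_SL2
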