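import Mathlib
import Cfsg.Agent.Lib.Helper32_ND4Defs

set_option autoImplicit false
set_option linter.unusedSimpArgs false
set_option linter.unusedVariables false
set_option linter.unusedSectionVars false

/-!
MARKET ND4 (helper32), package SINGSPAN (helper65): a nondegenerate subspace of dimension at least
three over a finite field is spanned by its singular vectors.  Also `partner` (= PARTNER, proved
inline so that this file has no market dependency).
-/

namespace Cfsg.Agent.Lib.Helper65_ND4_SINGSPAN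

open Module Cfsg.Agent.Lib.Helper94_Symp Cfsg.Agent.Lib.Helper94_OrthSmall
  Cfsg.Agent.Lib.Helper94_OrthSiegel Cfsg.Agent.Lib.Helper94_OrthSiegel2
  Cfsg.Agent.Lib.Helper94_OrthPara Cfsg.Agent.Lib.Helper94_OrthVec
  Cfsg.Agent.Lib.Helper94_OrthNondeg Cfsg.Agent.Lib.Helper94_OrthRefl
  Cfsg.Agent.Lib.Helper32_ND4Defs

variable {F V : Type*} [Field F] [AddCommGroup V] [Module F V]
variable [Finite F] [FiniteDimensional F V] {Q : V → F} {B : LinearMap.BilinForm F V}
  {G M : Subgroup (V ≃ₗ[F] V)} {A A' : Submodule F V}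

/-- a singular vector of a nondegenerate subspace has a hyperbolic partner -/
theorem partner (hQs : ∀ (c : F) (v : V), Q (c • v) = c * c * Q v)
    (hQp : ∀ u v : V, Q (u + v) = Q u + Q v + B u v)
    (S : Submodule F V) (hS : ∀ a ∈ S, a ≠ 0 → ∃ x ∈ S, B x a ≠ 0)
    {w : V} (hw : w ∈ S) (hw0 : w ≠ 0) (hQw : Q w = 0) :
    ∃ w' ∈ S, Q w' = 0 ∧ B w w' = 1 := by
  have hsymm := B_symm Q B hQp
  have hww : B w w = 0 := by rw [B_self Q B hQs hQp, hQw, mul_zero]
  obtain ⟨x, hxS, hxw⟩ := hS w hw hw0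
  set β := B x w with hβ
  refine ⟨β⁻¹ • (x + (-(Q x / β)) • w), S.smul_mem _ (S.add_mem hxS (S.smul_mem _ hw)), ?_, ?_⟩
  · rw [hQs, Q_add_smul Q B hQs hQp, hQw, ← hβ]
    field_simp
    ring
  · rw [map_smul, map_add, map_smul, hww, smul_zero, add_zero, hsymm w x, ← hβ, smul_eq_mul,
      inv_mul_cancel₀ hxw]

/-- [M] SINGSPAN: a nondegenerate subspace of dimension at least three is spanned by its singular
vectors.
Proof: `u ∈ S` nonzero singular (`exists_singular_in`), partner `u'`; every `s ∈ S` is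
`B s u' • u + B s u • u' + s₁` with `s₁ ⟂ u, u'`, and `u + s₁ - Q s₁ • u'` is singular. -/
theorem SINGSPAN (hQs : ∀ (c : F) (v : V), Q (c • v) = c * c * Q v)
    (hQp : ∀ u v : V, Q (u + v) = Q u + Q v + B u v)
    (S : Submodule F V) (hS : ∀ a ∈ S, a ≠ 0 → ∃ x ∈ S, B x a ≠ 0) (h3 : 3 ≤ finrank F S)
    (T : Submodule F V) (hT : ∀ u ∈ S, Q u = 0 → u ∈ T) : S ≤ T := by
  have hsymm := B_symm Q B hQp
  obtain ⟨u, huS, hu0, hQu⟩ := exists_singular_in Q B hQs hQp S h3
  obtain ⟨u', hu'S, hQu', huu'⟩ := partner hQs hQp S hS huS hu0 hQu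
  have hu'u : B u' u = 1 := by rw [hsymm, huu']
  have huu : B u u = 0 := by rw [B_self Q B hQs hQp, hQu, mul_zero]
  have hu'u' : B u' u' = 0 := by rw [B_self Q B hQs hQp, hQu', mul_zero]
  have huT : u ∈ T := hT u huS hQu
  have hu'T : u' ∈ T := hT u' hu'S hQu'
  intro s hs
  set s₁ : V := s - B s u' • u - B s u • u' with hs₁
  have hs₁S : s₁ ∈ S := S.sub_mem (S.sub_mem hs (S.smul_mem _ huS)) (S.smul_mem _ hu'S)
  have h1 : B s₁ u = 0 := by
    simp only [hs₁, map_sub, map_smul, LinearMap.sub_apply, LinearMap.smul_apply, smul_eq_mul,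
      huu, hu'u]
    ring
  have h2 : B s₁ u' = 0 := by
    simp only [hs₁, map_sub, map_smul, LinearMap.sub_apply, LinearMap.smul_apply, smul_eq_mul,
      huu', hu'u']
    ring
  have hus₁ : B u s₁ = 0 := by rw [hsymm, h1]
  -- the singular vector `u + s₁ - Q s₁ • u'`
  have hvS : u + s₁ + (-(Q s₁)) • u' ∈ S := S.add_mem (S.add_mem huS hs₁S) (S.smul_mem _ hu'S)
  have hQv : Q (u + s₁ + (-(Q s₁)) • u') = 0 := by
    rw [Q_add_smul Q B hQs hQp, hQu', hQp u s₁, hQu, hus₁, map_add, LinearMap.add_apply, huu', h2]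
    ring
  have hvT := hT _ hvS hQv
  have hs₁T : s₁ ∈ T := by
    have : s₁ = (u + s₁ + (-(Q s₁)) • u') - u + (Q s₁) • u' := by module
    rw [this]
    exact T.add_mem (T.sub_mem hvT huT) (T.smul_mem _ hu'T)
  have : s = s₁ + B s u' • u + B s u • u' := by rw [hs₁]; abel
  rw [this]
  exact T.add_mem (T.add_mem hs₁T (T.smul_mem _ huT)) (T.smul_mem _ hu'T)

end Cfsg.Agent.Lib.Helper65_ND4_SINGSPAN
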