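import Mathlib
import Cfsg.Agent.Lib.Helper32_ND4Defs

set_option autoImplicit false
set_option linter.unusedSimpArgs false
set_option linter.unusedVariables false
set_option linter.unusedSectionVars false

/-!
MARKET ND4 (helper32, S5813 clause (2)), package NSORTH: in a nondegenerate subspace of dimension at least three a nonzero
singular vector is orthogonal to some nonsingular vector.  (Self-contained: the hyperbolic partner is constructed here.)
-/

namespace Cfsg.Agent.Lib.Helper69_ND4_NSORTH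

open Module Cfsg.Agent.Lib.Helper94_Symp Cfsg.Agent.Lib.Helper94_OrthSmall
  Cfsg.Agent.Lib.Helper94_OrthSiegel Cfsg.Agent.Lib.Helper94_OrthSiegel2
  Cfsg.Agent.Lib.Helper94_OrthPara Cfsg.Agent.Lib.Helper94_OrthVec
  Cfsg.Agent.Lib.Helper94_OrthNondeg Cfsg.Agent.Lib.Helper94_OrthRefl
  Cfsg.Agent.Lib.Helper32_ND4Defs

variable {F V : Type*} [Field F] [AddCommGroup V] [Module F V]
variable [Finite F] [FiniteDimensional F V] {Q : V → F} {B : LinearMap.BilinForm F V}
  {G M : Subgroup (V ≃ₗ[F] V)} {A A' : Submodule F V}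

omit [Finite F] in
/-- a singular vector of a nondegenerate subspace has a hyperbolic partner -/
theorem partner (hQs : ∀ (c : F) (v : V), Q (c • v) = c * c * Q v)
    (hQp : ∀ u v : V, Q (u + v) = Q u + Q v + B u v)
    (S : Submodule F V) (hS : ∀ a ∈ S, a ≠ 0 → ∃ x ∈ S, B x a ≠ 0)
    {w : V} (hw : w ∈ S) (hw0 : w ≠ 0) (hQw : Q w = 0) :
    ∃ w' ∈ S, Q w' = 0 ∧ B w w' = 1 := by
  obtain ⟨x, hxS, hxw⟩ := hS w hw hw0
  have hself : B w w = 0 := by rw [B_self Q B hQs hQp, hQw, mul_zero]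
  refine ⟨(B x w)⁻¹ • (x + (-(Q x / B x w)) • w),
    S.smul_mem _ (S.add_mem hxS (S.smul_mem _ hw)), ?_, ?_⟩
  · rw [hQs, sing_adjust Q B hQs hQp hQw hxw, mul_zero]
  · rw [map_smul, map_add, map_smul, smul_eq_mul, smul_eq_mul, hself, mul_zero, add_zero,
      B_symm Q B hQp w x, inv_mul_cancel₀ hxw]

omit [Finite F] in
/-- NSORTH from a given hyperbolic partner -/
theorem NSORTH_aux (hQs : ∀ (c : F) (v : V), Q (c • v) = c * c * Q v)
    (hQp : ∀ u v : V, Q (u + v) = Q u + Q v + B u v)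
    (S : Submodule F V) (hS : ∀ a ∈ S, a ≠ 0 → ∃ x ∈ S, B x a ≠ 0) (h3 : 3 ≤ finrank F S)
    {u : V} (hu : u ∈ S) (hu0 : u ≠ 0) (hQu : Q u = 0)
    {u' : V} (hu' : u' ∈ S) (hQu' : Q u' = 0) (huu' : B u u' = 1) :
    ∃ v ∈ S, B u v = 0 ∧ Q v ≠ 0 := by
  classical
  have hsymm : ∀ x y : V, B x y = B y x := B_symm Q B hQp
  have huu : B u u = 0 := by rw [B_self Q B hQs hQp, hQu, mul_zero]
  have hu'u' : B u' u' = 0 := by rw [B_self Q B hQs hQp, hQu', mul_zero]
  have hu'u : B u' u = 1 := by rw [hsymm, huu']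
  -- the projection to the orthogonal of the hyperbolic pair
  have hproj : ∀ x ∈ S, (x - B x u' • u - B x u • u') ∈ S ∧ B u (x - B x u' • u - B x u • u') = 0 ∧
      B u' (x - B x u' • u - B x u • u') = 0 := by
    intro x hx
    refine ⟨S.sub_mem (S.sub_mem hx (S.smul_mem _ hu)) (S.smul_mem _ hu'), ?_, ?_⟩
    · rw [map_sub, map_sub, map_smul, map_smul, smul_eq_mul, smul_eq_mul, huu, huu', hsymm u x]
      ring
    · rw [map_sub, map_sub, map_smul, map_smul, smul_eq_mul, smul_eq_mul, hu'u', hu'u, hsymm u' x]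
      ring
  -- a vector of `S` outside the span of the pair
  have hex : ∃ s ∈ S, s ∉ Submodule.span F ({u, u'} : Set V) := by
    by_contra hcon
    push Not at hcon
    have hle : S ≤ Submodule.span F ({u, u'} : Set V) := fun s hs => hcon s hs
    have h1 := Submodule.finrank_mono hle
    have h2 : finrank F (Submodule.span F ({u, u'} : Set V)) ≤ 2 := by
      have h := finrank_span_finset_le_card (R := F) ({u, u'} : Finset V)
      have h' : ((({u, u'} : Finset V) : Set V)) = ({u, u'} : Set V) := by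
        ext y; simp
      rw [h'] at h
      exact h.trans Finset.card_le_two
    omega
  obtain ⟨s, hsS, hsn⟩ := hex
  obtain ⟨hvS, hvu, hvu'⟩ := hproj s hsS
  have hv0 : s - B s u' • u - B s u • u' ≠ 0 := by
    intro h0
    apply hsn
    have hs : s = B s u' • u + B s u • u' := by
      have h := h0
      rw [sub_sub, sub_eq_zero] at h
      exact h
    rw [hs]
    exact Submodule.add_mem _ (Submodule.smul_mem _ _ (Submodule.subset_span (by simp)))
      (Submodule.smul_mem _ _ (Submodule.subset_span (by simp)))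
  obtain ⟨v, hv⟩ : ∃ v, v = s - B s u' • u - B s u • u' := ⟨_, rfl⟩
  rw [← hv] at hvS hvu hvu' hv0
  by_cases hQv : Q v = 0
  · obtain ⟨x, hxS, hxv⟩ := hS v hvS hv0
    obtain ⟨hx1S, hx1u, hx1u'⟩ := hproj x hxS
    obtain ⟨x₁, hx₁⟩ : ∃ x₁, x₁ = x - B x u' • u - B x u • u' := ⟨_, rfl⟩
    have hx1v : B x₁ v ≠ 0 := by
      have : B x₁ v = B x v := by
        rw [hx₁, map_sub, map_sub, map_smul, map_smul, LinearMap.sub_apply, LinearMap.sub_apply,
          LinearMap.smul_apply, LinearMap.smul_apply, smul_eq_mul, smul_eq_mul, hvu, hvu']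
        ring
      rw [this]
      exact hxv
    rw [← hx₁] at hx1S hx1u hx1u'
    by_cases hQx : Q x₁ = 0
    · refine ⟨v + x₁, S.add_mem hvS hx1S, ?_, ?_⟩
      · rw [map_add, hvu, hx1u, add_zero]
      · rw [hQp, hQv, hQx, zero_add, zero_add, hsymm]
        exact hx1v
    · exact ⟨x₁, hx1S, hx1u, hQx⟩
  · exact ⟨v, hvS, hvu, hQv⟩

omit [Finite F] in
/-- [M] NSORTH: in a nondegenerate subspace of dimension at least three, a nonzero singular vector
is orthogonal to some nonsingular vector. -/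
theorem NSORTH (hQs : ∀ (c : F) (v : V), Q (c • v) = c * c * Q v)
    (hQp : ∀ u v : V, Q (u + v) = Q u + Q v + B u v)
    (S : Submodule F V) (hS : ∀ a ∈ S, a ≠ 0 → ∃ x ∈ S, B x a ≠ 0) (h3 : 3 ≤ finrank F S)
    {u : V} (hu : u ∈ S) (hu0 : u ≠ 0) (hQu : Q u = 0) :
    ∃ v ∈ S, B u v = 0 ∧ Q v ≠ 0 := by
  obtain ⟨u', hu', hQu', huu'⟩ := partner hQs hQp S hS hu hu0 hQu
  exact NSORTH_aux hQs hQp S hS h3 hu hu0 hQu hu' hQu' huu'

end Cfsg.Agent.Lib.Helper69_ND4_NSORTH
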