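import Mathlib
import Cfsg.Agent.Lib.Helper32_ND4Defs

set_option autoImplicit false
set_option linter.unusedSimpArgs false
set_option linter.unusedVariables false
set_option linter.unusedSectionVars false

/-!
# ND4 market (architect helper32), package DPERP
-/

namespace Cfsg.Agent.Lib.Helper82_ND4_DPERP

open Module Cfsg.Agent.Lib.Helper94_Symp Cfsg.Agent.Lib.Helper94_OrthSmall
  Cfsg.Agent.Lib.Helper94_OrthSiegel Cfsg.Agent.Lib.Helper94_OrthSiegel2
  Cfsg.Agent.Lib.Helper94_OrthPara Cfsg.Agent.Lib.Helper94_OrthVec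
  Cfsg.Agent.Lib.Helper94_OrthNondeg Cfsg.Agent.Lib.Helper94_OrthRefl
  Cfsg.Agent.Lib.Helper32_ND4Defs

variable {F V : Type*} [Field F] [AddCommGroup V] [Module F V]
variable [Finite F] [FiniteDimensional F V] {Q : V → F} {B : LinearMap.BilinForm F V}
  {G M : Subgroup (V ≃ₗ[F] V)} {A A' : Submodule F V}

/-- the polar form is symmetric -/
theorem B_symm (hQp : ∀ u v : V, Q (u + v) = Q u + Q v + B u v) (u v : V) : B u v = B v u := by
  have h1 := hQp u v
  have h2 := hQp v u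
  rw [add_comm v u] at h2
  rw [h1] at h2
  linear_combination h2

/-- [S] DPERP: in a nondegenerate subspace, `(b^⊥)^⊥ = ⟨b⟩`. -/
theorem DPERP (hQs : ∀ (c : F) (v : V), Q (c • v) = c * c * Q v)
    (hQp : ∀ u v : V, Q (u + v) = Q u + Q v + B u v)
    (S : Submodule F V) (hS : ∀ a ∈ S, a ≠ 0 → ∃ x ∈ S, B x a ≠ 0)
    {b y : V} (hb : b ∈ S) (hb0 : b ≠ 0) (hy : y ∈ S)
    (h : ∀ v ∈ S, B b v = 0 → B y v = 0) : ∃ c : F, y = c • b := by
  obtain ⟨b', hb'S, hb'b⟩ := hS b hb hb0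
  have hbb' : B b b' ≠ 0 := by rw [B_symm hQp]; exact hb'b
  refine ⟨B y b' / B b b', ?_⟩
  obtain ⟨c, hc⟩ : ∃ c : F, c = B y b' / B b b' := ⟨_, rfl⟩
  rw [← hc]
  by_contra hne
  have hd0 : y - c • b ≠ 0 := fun h0 => hne (sub_eq_zero.mp h0)
  have hdS : y - c • b ∈ S := S.sub_mem hy (S.smul_mem _ hb)
  obtain ⟨x, hxS, hxd⟩ := hS _ hdS hd0
  apply hxd
  rw [B_symm hQp]
  -- decompose x
  obtain ⟨e, he⟩ : ∃ e : F, e = B b x / B b b' := ⟨_, rfl⟩
  have hx0S : x - e • b' ∈ S := S.sub_mem hxS (S.smul_mem _ hb'S)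
  have hbx0 : B b (x - e • b') = 0 := by
    rw [map_sub, map_smul, smul_eq_mul, he]
    field_simp
    ring
  have hyx0 : B y (x - e • b') = 0 := h _ hx0S hbx0
  have hd : ∀ v, B (y - c • b) v = B y v - c * B b v := by
    intro v
    rw [map_sub, LinearMap.sub_apply, map_smul, LinearMap.smul_apply, smul_eq_mul]
  have hdb' : B (y - c • b) b' = 0 := by
    rw [hd, hc]
    field_simp
    ring
  have hdx0 : B (y - c • b) (x - e • b') = 0 := by
    rw [hd, hyx0, hbx0, mul_zero, sub_zero]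
  have hx : x = (x - e • b') + e • b' := by abel
  rw [hx, map_add, hdx0, map_smul, hdb', smul_zero, add_zero]

end Cfsg.Agent.Lib.Helper82_ND4_DPERP
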