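import Mathlib
import Cfsg.Agent.Lib.Helper32_ND4Defs
import Cfsg.Agent.Lib.Helper82_ND4_DPERP
import Cfsg.Agent.Lib.Helper69_ND4_NSORTH
import Cfsg.Agent.Lib.Helper65_ND4_SINGSPAN

set_option autoImplicit false
set_option linter.unusedSimpArgs false
set_option linter.unusedVariables false
set_option linter.unusedSectionVars false

/-!
Market ND4, package HZ: if all the Siegel parts at singular vectors of `A'` stay inside `A'`, then
`M` stabilises `A'` (`4 ≤ dim A'`, `dim A < dim A'`).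
-/

namespace Cfsg.Agent.Lib.Helper32_ND4_HZ

open Module Cfsg.Agent.Lib.Helper94_Symp Cfsg.Agent.Lib.Helper94_OrthSmall
  Cfsg.Agent.Lib.Helper94_OrthSiegel Cfsg.Agent.Lib.Helper94_OrthSiegel2
  Cfsg.Agent.Lib.Helper94_OrthPara Cfsg.Agent.Lib.Helper94_OrthVec
  Cfsg.Agent.Lib.Helper94_OrthNondeg Cfsg.Agent.Lib.Helper94_OrthRefl
  Cfsg.Agent.Lib.Helper32_ND4Defs

variable {F V : Type*} [Field F] [AddCommGroup V] [Module F V]
variable [Finite F] [FiniteDimensional F V] {Q : V → F} {B : LinearMap.BilinForm F V}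
  {G M : Subgroup (V ≃ₗ[F] V)} {A A' : Submodule F V}

/-- HZ with the statements of STABFIX, SINGSPAN, NSORTH, DPERP as hypotheses -/
theorem HZ_aux (hC : NCtx Q B G M A A') (h4 : 4 ≤ finrank F A') (hlt : finrank F A < finrank F A')
    (hZ : ∀ w ∈ A', w ≠ 0 → Q w = 0 → ∀ z, InZ Q B M w z → z ∈ A')
    (hSTABFIX : ∀ {g : V ≃ₗ[F] V}, g ∈ M → ∀ {w : V}, w ∈ A' → w ≠ 0 → Q w = 0 → g w ∈ A' →
      ∀ y ∈ A', g y ∈ A')
    (hSINGSPAN : ∀ (S : Submodule F V), (∀ a ∈ S, a ≠ 0 → ∃ x ∈ S, B x a ≠ 0) → 3 ≤ finrank F S →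
      ∀ (T : Submodule F V), (∀ u ∈ S, Q u = 0 → u ∈ T) → S ≤ T)
    (hNSORTH : ∀ (S : Submodule F V), (∀ a ∈ S, a ≠ 0 → ∃ x ∈ S, B x a ≠ 0) → 3 ≤ finrank F S →
      ∀ {u : V}, u ∈ S → u ≠ 0 → Q u = 0 → ∃ v ∈ S, B u v = 0 ∧ Q v ≠ 0)
    (hDPERP : ∀ (S : Submodule F V), (∀ a ∈ S, a ≠ 0 → ∃ x ∈ S, B x a ≠ 0) →
      ∀ {b y : V}, b ∈ S → b ≠ 0 → y ∈ S → (∀ v ∈ S, B b v = 0 → B y v = 0) →
      ∃ c : F, y = c • b) :
    ∀ m ∈ M, ∀ y ∈ A', m y ∈ A' := by
  intro m hmM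
  by_contra hcon
  have hQs := hC.hQs
  have hQp := hC.hQp
  have h2 := hC.h2
  have hsymm := hC.hsymm
  have hsapp := @sieg_apply F V _ _ _ Q B hQs hQp
  have hmO : m ∈ oG Q := hC.hMO hmM
  have hA'nd := hC.hA'nd
  have hAA' := hC.hAA'
  have hQneg : ∀ v : V, Q (-v) = Q v := by
    intro v
    have := hQs (-1) v
    rw [neg_one_smul] at this
    rw [this]; ring
  -- the image `X` of `A'`
  obtain ⟨X, hXdef⟩ : ∃ X : Submodule F V, X = A'.map (m : V →ₗ[F] V) := ⟨_, rfl⟩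
  have hXmem : ∀ x, x ∈ X ↔ ∃ y ∈ A', m y = x := by
    intro x
    rw [hXdef, Submodule.mem_map]
    rfl
  have hXfr : finrank F X = finrank F A' := by
    rw [hXdef]; exact LinearEquiv.finrank_map_eq m A'
  have hXnd : ∀ a ∈ X, a ≠ 0 → ∃ x ∈ X, B x a ≠ 0 := by
    intro a ha ha0
    obtain ⟨y, hy, rfl⟩ := (hXmem a).mp ha
    have hy0 : y ≠ 0 := by
      rintro rfl
      exact ha0 (map_zero m)
    obtain ⟨x, hx, hxy⟩ := hA'nd y hy hy0
    exact ⟨m x, (hXmem _).mpr ⟨x, hx, rfl⟩, by rw [oG_B Q B hQp hmO]; exact hxy⟩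
  -- (D): no nonzero singular vector in `X ∩ A'`
  have hD : ∀ x ∈ X, x ∈ A' → Q x = 0 → x = 0 := by
    intro x hxX hxA' hQx
    by_contra hx0
    obtain ⟨w, hw, rfl⟩ := (hXmem x).mp hxX
    apply hcon
    exact hSTABFIX hmM hw (fun h => hx0 (by rw [h, map_zero])) (by rw [← hmO w]; exact hQx) hxA'
  -- (E): an element of `M` fixing a nonzero singular vector of `X` stabilises `X`
  have hE : ∀ h ∈ M, ∀ w' ∈ X, w' ≠ 0 → Q w' = 0 → h w' = w' → ∀ x ∈ X, h x ∈ X := by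
    intro h hhM w' hw'X hw'0 hQw' hfix x hxX
    obtain ⟨w, hw, hmw⟩ := (hXmem w').mp hw'X
    obtain ⟨y, hy, hmy⟩ := (hXmem x).mp hxX
    have hgM : m⁻¹ * h * m ∈ M := M.mul_mem (M.mul_mem (M.inv_mem hmM) hhM) hmM
    have hw0 : w ≠ 0 := by
      rintro rfl
      apply hw'0
      rw [← hmw, map_zero]
    have hQw : Q w = 0 := by rw [← hmO w, hmw, hQw']
    have hgw : (m⁻¹ * h * m) w = w := by
      rw [LinearEquiv.mul_apply, LinearEquiv.mul_apply, hmw, hfix, ← hmw]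
      exact m.symm_apply_apply w
    have hst := hSTABFIX hgM hw hw0 hQw (by rw [hgw]; exact hw)
    refine (hXmem _).mpr ⟨(m⁻¹ * h * m) y, hst y hy, ?_⟩
    show m ((m⁻¹ * h * m) y) = h x
    rw [LinearEquiv.mul_apply, LinearEquiv.mul_apply, hmy]
    exact m.apply_symm_apply _
  -- the tool: two opposite Siegel elements of `A'` fixing a singular vector of `X`
  have hT : ∀ w' ∈ X, w' ≠ 0 → Q w' = 0 → ∀ u ∈ A', ∀ v ∈ A', u ≠ 0 → Q u = 0 → B u v = 0 →
      B w' u = 0 → B w' v = 0 → ∀ x ∈ X, Q v * B x u = 0 := by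
    intro w' hw'X hw'0 hQw' u hu v hv hu0 hQu huv hw'u hw'v x hx
    have huv' : B u (-v) = 0 := by rw [map_neg, huv, neg_zero]
    have h1M : sieg Q B u v ∈ M := hC.sieg_mem hu hv hQu huv
    have h2M : sieg Q B u (-v) ∈ M := hC.sieg_mem hu (A'.neg_mem hv) hQu huv'
    have hf1 : sieg Q B u v w' = w' := by
      rw [hsapp hQu huv, hw'u, hw'v]; simp
    have hf2 : sieg Q B u (-v) w' = w' := by
      rw [hsapp hQu huv', hw'u, map_neg, hw'v]; simp
    have hx1 := hE _ h1M w' hw'X hw'0 hQw' hf1 x hx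
    have hx2 := hE _ h2M w' hw'X hw'0 hQw' hf2 x hx
    rw [hsapp hQu huv] at hx1
    rw [hsapp hQu huv', hQneg] at hx2
    have hd : (-(2 * (Q v * B x u))) • u ∈ X := by
      have h3 := X.sub_mem (X.sub_mem (X.add_mem hx1 hx2) hx) hx
      have e : x + B x u • v - B x v • u - (Q v * B x u) • u +
          (x + B x u • (-v) - B x (-v) • u - (Q v * B x u) • u) - x - x =
          (-(2 * (Q v * B x u))) • u := by
        rw [map_neg]
        module
      rwa [e] at h3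
    have hd0 := hD _ hd (A'.smul_mem _ hu) (by rw [hQs, hQu, mul_zero])
    rcases smul_eq_zero.mp hd0 with h | h
    · have h5 : 2 * (Q v * B x u) = 0 := neg_eq_zero.mp h
      rcases mul_eq_zero.mp h5 with h6 | h6
      · exact absurd h6 h2
      · exact h6
    · exact absurd h hu0
  -- Step 1: a singular vector of `X` outside `A`
  obtain ⟨w', hw'X, hQw', hw'A⟩ : ∃ w' ∈ X, Q w' = 0 ∧ w' ∉ A := by
    by_contra hno
    push Not at hno
    have hle : X ≤ A := hSINGSPAN X hXnd (by omega) A hno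
    have := Submodule.finrank_mono hle
    omega
  have hw'0 : w' ≠ 0 := by
    rintro rfl
    exact hw'A A.zero_mem
  obtain ⟨a, haA, b, hbA', hab⟩ := hC.hdec w'
  have hb0 : b ≠ 0 := by
    rintro rfl
    apply hw'A
    rw [← hab, add_zero]
    exact haA
  have hw'B : ∀ v ∈ A', B w' v = B b v := by
    intro v hv
    rw [← hab, map_add, LinearMap.add_apply, hAA' a haA v hv, zero_add]
  -- Step 2: `X` is orthogonal to `A' ∩ b^⊥`
  have hperp : ∀ x ∈ X, ∀ v ∈ A', B b v = 0 → B x v = 0 := by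
    by_cases hQb : Q b = 0
    · -- `b` singular
      obtain ⟨v0, hv0A', hbv0, hQv0⟩ := hNSORTH A' hA'nd (by omega) hbA' hb0 hQb
      have hbb : B b b = 0 := by rw [B_self Q B hQs hQp, hQb, mul_zero]
      have hxb : ∀ x ∈ X, B x b = 0 := by
        intro x hx
        have := hT w' hw'X hw'0 hQw' b hbA' v0 hv0A' hb0 hQb hbv0
          (by rw [hw'B b hbA', hbb]) (by rw [hw'B v0 hv0A', hbv0]) x hx
        rcases mul_eq_zero.mp this with h | h
        · exact absurd h hQv0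
        · exact h
      intro x hx v hv hbv
      have hhM : sieg Q B b v ∈ M := hC.sieg_mem hbA' hv hQb hbv
      have hf : sieg Q B b v w' = w' := by
        rw [hsapp hQb hbv, hw'B b hbA', hbb, hw'B v hv, hbv]; simp
      have hx1 := hE _ hhM w' hw'X hw'0 hQw' hf x hx
      rw [hsapp hQb hbv, hxb x hx] at hx1
      have hd : (-(B x v)) • b ∈ X := by
        have h3 := X.sub_mem hx1 hx
        have e : x + (0 : F) • v - B x v • b - (Q v * 0) • b - x = (-(B x v)) • b := by module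
        rwa [e] at h3
      have hd0 := hD _ hd (A'.smul_mem _ hbA') (by rw [hQs, hQb, mul_zero])
      rcases smul_eq_zero.mp hd0 with h | h
      · exact neg_eq_zero.mp h
      · exact absurd h hb0
    · -- `b` nonsingular
      have hbb : B b b ≠ 0 := by
        rw [B_self Q B hQs hQp]
        exact mul_ne_zero h2 hQb
      obtain ⟨Sb, hSbdef⟩ : ∃ Sb : Submodule F V, Sb = A' ⊓ LinearMap.ker (B.flip b) := ⟨_, rfl⟩
      have hSbmem : ∀ v, v ∈ Sb ↔ v ∈ A' ∧ B v b = 0 := by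
        intro v
        rw [hSbdef, Submodule.mem_inf, mem_ker_flip]
      have hSbnd : ∀ s ∈ Sb, s ≠ 0 → ∃ x ∈ Sb, B x s ≠ 0 := by
        intro s hs hs0
        obtain ⟨hsA', hsb⟩ := (hSbmem s).mp hs
        obtain ⟨x, hx, hxs⟩ := hA'nd s hsA' hs0
        refine ⟨x - (B x b / B b b) • b, (hSbmem _).mpr ⟨A'.sub_mem hx (A'.smul_mem _ hbA'), ?_⟩, ?_⟩
        · rw [map_sub, LinearMap.sub_apply, map_smul, LinearMap.smul_apply, smul_eq_mul,
            div_mul_cancel₀ _ hbb, sub_self]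
        · rw [map_sub, LinearMap.sub_apply, map_smul, LinearMap.smul_apply, hsymm b s, hsb,
            smul_zero, sub_zero]
          exact hxs
      have hSbfr : 3 ≤ finrank F Sb := by
        have := finrank_le_inf_ker_add_one A' (B.flip b)
        rw [hSbdef]
        omega
      intro x hx v hv hbv
      have hle : Sb ≤ LinearMap.ker (B x) := by
        apply hSINGSPAN Sb hSbnd hSbfr
        intro u hu hQu
        rw [LinearMap.mem_ker]
        by_cases hu0 : u = 0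
        · rw [hu0, map_zero]
        obtain ⟨huA', hub⟩ := (hSbmem u).mp hu
        obtain ⟨v1, hv1, huv1, hQv1⟩ := hNSORTH Sb hSbnd hSbfr hu hu0 hQu
        obtain ⟨hv1A', hv1b⟩ := (hSbmem v1).mp hv1
        have := hT w' hw'X hw'0 hQw' u huA' v1 hv1A' hu0 hQu huv1
          (by rw [hw'B u huA', hsymm, hub]) (by rw [hw'B v1 hv1A', hsymm, hv1b]) x hx
        rcases mul_eq_zero.mp this with h | h
        · exact absurd h hQv1
        · exact h
      have hvSb : v ∈ Sb := (hSbmem v).mpr ⟨hv, by rw [hsymm]; exact hbv⟩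
      exact LinearMap.mem_ker.mp (hle hvSb)
  -- Step 3: `X ≤ A ⊔ ⟨b⟩`
  have hXle : X ≤ A ⊔ Submodule.span F {b} := by
    intro x hx
    obtain ⟨ax, hax, bx, hbx, hxab⟩ := hC.hdec x
    have hbxp : ∀ v ∈ A', B b v = 0 → B bx v = 0 := by
      intro v hv hbv
      have h1 := hperp x hx v hv hbv
      rw [← hxab, map_add, LinearMap.add_apply, hAA' ax hax v hv, zero_add] at h1
      exact h1
    obtain ⟨c, hc⟩ := hDPERP A' hA'nd hbA' hb0 hbx hbxp
    rw [← hxab, hc]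
    exact Submodule.add_mem_sup hax
      (Submodule.smul_mem _ c (Submodule.mem_span_singleton_self b))
  -- Step 4: dimensions
  have hfr1 : finrank F (A ⊔ Submodule.span F {b} : Submodule F V) ≤ finrank F A + 1 := by
    have h1 := Submodule.finrank_add_le_finrank_add_finrank A (Submodule.span F {b})
    rw [finrank_span_singleton hb0] at h1
    exact h1
  have hfr2 := Submodule.finrank_mono hXle
  have hXeq : X = A ⊔ Submodule.span F {b} :=
    Submodule.eq_of_le_of_finrank_le hXle (by omega)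
  have hAX : A ≤ X := by rw [hXeq]; exact le_sup_left
  have hbX : b ∈ X := by
    rw [hXeq]
    exact Submodule.mem_sup_right (Submodule.mem_span_singleton_self b)
  have hA3 : 3 ≤ finrank F A := by omega
  -- Step 5: a singular vector of `A` is fixed by the Siegel elements of `A'`
  obtain ⟨a1, ha1A, ha10, hQa1⟩ := exists_singular_in Q B hQs hQp A hA3
  obtain ⟨u1, hu1A', hQu1, hu1b⟩ := exists_sing_not_orth Q B hQs hQp A' hA'nd (by omega)
    (hA'nd b hbA' hb0)
  have hu10 : u1 ≠ 0 := by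
    rintro rfl
    apply hu1b
    rw [map_zero, LinearMap.zero_apply]
  obtain ⟨v1, hv1A', hu1v1, hQv1⟩ := hNSORTH A' hA'nd (by omega) hu1A' hu10 hQu1
  have := hT a1 (hAX ha1A) ha10 hQa1 u1 hu1A' v1 hv1A' hu10 hQu1 hu1v1
    (hAA' a1 ha1A u1 hu1A') (hAA' a1 ha1A v1 hv1A') b hbX
  rcases mul_eq_zero.mp this with h | h
  · exact hQv1 h
  · exact hu1b (by rw [hsymm]; exact h)

/-- HZ with only the statement of STABFIX as a hypothesis (SINGSPAN, NSORTH, DPERP are taken from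
the landed packages). -/
theorem HZ_of_STABFIX (hC : NCtx Q B G M A A') (h4 : 4 ≤ finrank F A')
    (hlt : finrank F A < finrank F A')
    (hZ : ∀ w ∈ A', w ≠ 0 → Q w = 0 → ∀ z, InZ Q B M w z → z ∈ A')
    (hSTABFIX : ∀ {g : V ≃ₗ[F] V}, g ∈ M → ∀ {w : V}, w ∈ A' → w ≠ 0 → Q w = 0 → g w ∈ A' →
      ∀ y ∈ A', g y ∈ A') :
    ∀ m ∈ M, ∀ y ∈ A', m y ∈ A' :=
  HZ_aux hC h4 hlt hZ hSTABFIX
    (fun S hS h3 T hT =>
      Cfsg.Agent.Lib.Helper65_ND4_SINGSPAN.SINGSPAN hC.hQs hC.hQp S hS h3 T hT)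
    (fun S hS h3 {u} hu hu0 hQu =>
      Cfsg.Agent.Lib.Helper69_ND4_NSORTH.NSORTH hC.hQs hC.hQp S hS h3 hu hu0 hQu)
    (fun S hS {b y} hb hb0 hy h =>
      Cfsg.Agent.Lib.Helper82_ND4_DPERP.DPERP hC.hQs hC.hQp S hS hb hb0 hy h)

end Cfsg.Agent.Lib.Helper32_ND4_HZ
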