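import Mathlib
import Cfsg.Agent.Lib.Helper32_ND4Defs
import Cfsg.Agent.Lib.Helper10_ND4_EV4
import Cfsg.Agent.Lib.Helper10_ND4_FULL

set_option autoImplicit false
set_option linter.unusedSimpArgs false
set_option linter.unusedVariables false
set_option linter.unusedSectionVars false

/-!
MARKET ND4 (helper32), package NHZ: a Siegel part at a singular vector of `A'` leaving `A'` gives all
Siegel elements (copy of the second branch of `Helper80_OrthNdFive.maximal_stab_five`).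
`NHZ_aux` takes the conclusions of EV4 (at `w`) and of FULL (at `w`) as hypotheses.  (helper43)
-/

namespace Cfsg.Agent.Lib.Helper43_ND4_NHZ

open Module Cfsg.Agent.Lib.Helper94_Symp Cfsg.Agent.Lib.Helper94_OrthSmall
  Cfsg.Agent.Lib.Helper94_OrthSiegel Cfsg.Agent.Lib.Helper94_OrthSiegel2
  Cfsg.Agent.Lib.Helper94_OrthPara Cfsg.Agent.Lib.Helper94_OrthVec
  Cfsg.Agent.Lib.Helper94_OrthNondeg Cfsg.Agent.Lib.Helper94_OrthRefl
  Cfsg.Agent.Lib.Helper32_ND4Defs

variable {F V : Type*} [Field F] [AddCommGroup V] [Module F V]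
variable [Finite F] [FiniteDimensional F V] {Q : V → F} {B : LinearMap.BilinForm F V}
  {G M : Subgroup (V ≃ₗ[F] V)} {A A' : Submodule F V}

/-- NHZ with the conclusions of EV4 and FULL at `w` as hypotheses -/
theorem NHZ_aux (hC : NCtx Q B G M A A') (hexc : ¬ Exc Q A)
    {w z : V} (hwA' : w ∈ A') (hw0 : w ≠ 0) (hQw : Q w = 0) (hz : InZ Q B M w z)
    (hzA' : z ∉ A')
    (hEV : ∀ c : F, ∃ y ∈ A', B w y = 0 ∧ Q y = c)
    (hFULL : (∀ z, B w z = 0 → sieg Q B w z ∈ M) →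
      ∀ u z, Q u = 0 → B u z = 0 → sieg Q B u z ∈ M) :
    ∀ u z, Q u = 0 → B u z = 0 → sieg Q B u z ∈ M := by
  have hQs := hC.hQs
  have hQp := hC.hQp
  have hsymm := B_symm Q B hQp
  have hAA' := hC.hAA'
  have hHM := hC.hHM
  have hG2 := hC.hG2
  have hG4 := hC.hG4
  have hMO := hC.hMO
  have hAnd := hC.hAnd
  have hdec := hC.hdec
  have hw := hQw
  obtain ⟨x, hxA, y, hyA', hxy⟩ := hdec z
  have hx0 : x ≠ 0 := by
    rintro rfl
    apply hzA'
    rw [← hxy, zero_add]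
    exact hyA'
  have hwA : ∀ x ∈ A, B w x = 0 := fun x hx => by rw [hsymm]; exact hAA' x hx w hwA'
  have hwy : B w y = 0 := by
    have := hz.1
    rw [← hxy, map_add, hwA x hxA, zero_add] at this
    exact this
  have hHA' : ∀ y ∈ A', B w y = 0 → InZ Q B M w y := fun y hy hwy =>
    ⟨hwy, fun t => hHM ⟨sieg_mem_stab_of_mem hQs hQp A' hwA' (A'.smul_mem t hy) hw
      (by rw [map_smul, hwy, smul_zero]), hG2 _ _ hw (by rw [map_smul, hwy, smul_zero])⟩⟩
  have hxZ : InZ Q B M w x := by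
    have := InZ_sub hQs hQp hw hz (hHA' y hyA' hwy)
    rwa [← hxy, add_sub_cancel_right] at this
  let X0 : Submodule F V :=
    { carrier := {z | InZ Q B M w z}
      add_mem' := fun h1 h2 => InZ_add hQs hQp hw h1 h2
      zero_mem' := InZ_zero hQs hQp hw
      smul_mem' := fun c _ h1 => InZ_smul c h1 }
  have hX0mem : ∀ z, z ∈ X0 ↔ InZ Q B M w z := fun z => Iff.rfl
  have hXne : (X0 ⊓ A : Submodule F V) ≠ ⊥ := by
    intro h
    have : x ∈ (X0 ⊓ A : Submodule F V) := ⟨(hX0mem x).mpr hxZ, hxA⟩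
    rw [h, Submodule.mem_bot] at this
    exact hx0 this
  have hXS : ∀ u ∈ A, ∀ v ∈ A, Q u = 0 → B u v = 0 →
      ∀ x ∈ (X0 ⊓ A : Submodule F V), sieg Q B u v x ∈ (X0 ⊓ A : Submodule F V) := by
    intro u hu v hv hQu huv x hx
    have hgM : sieg Q B u v ∈ M :=
      hHM ⟨sieg_mem_stab_of_orth hQs hQp A A' hAA' hu hv hQu huv, hG2 u v hQu huv⟩
    have hgO := sieg_mem_oG Q B hQs hQp hQu huv
    have hfix : sieg Q B u v w = w := by
      rw [sieg_apply Q B hQs hQp hQu huv, hwA u hu, hwA v hv]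
      simp
    have h1 : InZ Q B M (sieg Q B u v w) (sieg Q B u v x) :=
      InZ_map hQs hQp hgM hgO hw ((hX0mem x).mp hx.1)
    rw [hfix] at h1
    refine ⟨(hX0mem _).mpr h1, ?_⟩
    rw [sieg_apply Q B hQs hQp hQu huv]
    exact A.sub_mem (A.sub_mem (A.add_mem hx.2 (A.smul_mem _ hv)) (A.smul_mem _ hu))
      (A.smul_mem _ hu)
  have hXR : ∀ a ∈ A, Q a ≠ 0 → ∀ x ∈ (X0 ⊓ A : Submodule F V),
      B x a • a ∈ (X0 ⊓ A : Submodule F V) := by
    intro a ha hQa x hx
    obtain ⟨c, hcA', hwc, hQc⟩ := hEV (Q a)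
    obtain ⟨g, hgG, hg⟩ := hG4 a c hQa hQc (hAA' a ha c hcA')
    have hgS : g ∈ stab A' := by
      apply mem_stab_of_forall_mem
      intro y hy
      rw [hg y, hsymm y a, hAA' a ha y hy, mul_zero, zero_smul, sub_zero]
      exact A'.sub_mem hy (A'.smul_mem _ hcA')
    have hgM : g ∈ M := hHM ⟨hgS, hgG⟩
    have hgO := hMO hgM
    have hgw : g w = w := by
      rw [hg w, hwA a ha, hwc, mul_zero, zero_smul, zero_smul, sub_zero, sub_zero]
    have h1 : InZ Q B M (g w) (g x) := InZ_map hQs hQp hgM hgO hw ((hX0mem x).mp hx.1)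
    rw [hgw, hg x, hAA' x hx.2 c hcA', mul_zero, zero_smul, sub_zero] at h1
    have h2 := InZ_sub hQs hQp hw ((hX0mem x).mp hx.1) h1
    rw [sub_sub_cancel] at h2
    have h3 := InZ_smul (Q a) h2
    rw [smul_smul, ← mul_assoc, mul_inv_cancel₀ hQa, one_mul] at h3
    exact ⟨(hX0mem _).mpr h3, A.smul_mem _ ha⟩
  have hAX : A ≤ (X0 ⊓ A : Submodule F V) :=
    orth_irr hQs hQp A hAnd hexc _ inf_le_right hXne hXR hXS
  have hfull : ∀ z, B w z = 0 → sieg Q B w z ∈ M := by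
    intro z' hwz'
    obtain ⟨x', hx'A, y', hy'A', hx'y'⟩ := hdec z'
    have hwy' : B w y' = 0 := by
      have := hwz'
      rw [← hx'y', map_add, hwA x' hx'A, zero_add] at this
      exact this
    have h1 : InZ Q B M w x' := (hX0mem x').mp (hAX hx'A).1
    have h2 := hHA' y' hy'A' hwy'
    have h3 := InZ_add hQs hQp hw h1 h2
    rw [hx'y'] at h3
    have h4 := h3.2 1
    rwa [one_smul] at h4
  exact hFULL hfull

/-- [M] NHZ: a Siegel part leaving `A'` gives everything (copy of the second branch of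
`Helper80_OrthNdFive.maximal_stab_five` with EV4 for `exists_value` and FULL for `all_of_full`). -/
theorem NHZ (hC : NCtx Q B G M A A') (h4 : finrank F A' = 4) (hexc : ¬ Exc Q A)
    {w z : V} (hwA' : w ∈ A') (hw0 : w ≠ 0) (hQw : Q w = 0) (hz : InZ Q B M w z)
    (hzA' : z ∉ A') : ∀ u z, Q u = 0 → B u z = 0 → sieg Q B u z ∈ M :=
  NHZ_aux hC hexc hwA' hw0 hQw hz hzA'
    (fun c => Cfsg.Agent.Lib.Helper10_ND4_EV4.EV4 hC.hQs hC.hQp hC.h2 A' hC.hA'nd h4 hwA' hw0 hQw c)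
    (fun hfull => Cfsg.Agent.Lib.Helper10_ND4_FULL.FULL hC hwA' hw0 hQw hfull)

end Cfsg.Agent.Lib.Helper43_ND4_NHZ
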