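import Mathlib
import Cfsg.Agent.Lib.Helper32_ND4Defs
import Cfsg.Agent.Lib.Helper32_ND4_HZ
import Cfsg.Agent.Lib.Helper24_ND4_STABFIXaux
import Cfsg.Agent.Lib.Helper52_ND4_SC
import Cfsg.Agent.Lib.Helper43_ND4_NHZ
import Cfsg.Agent.Lib.Helper10_ND4_EV4
import Cfsg.Agent.Lib.Helper10_ND4_FULL

set_option autoImplicit false
set_option linter.unusedSimpArgs false
set_option linter.unusedVariables false
set_option linter.unusedSectionVars false

/-!
Orthogonal groups, odd characteristic: the stabiliser of a nondegenerate subspace `A'` of dimension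
four whose orthogonal complement `A` is nonzero of smaller dimension is maximal (market ND4).
-/

namespace Cfsg.Agent.Lib.Helper32_ND4Main

open Module Cfsg.Agent.Lib.Helper94_Symp Cfsg.Agent.Lib.Helper94_OrthSmall
  Cfsg.Agent.Lib.Helper94_OrthSiegel Cfsg.Agent.Lib.Helper94_OrthSiegel2
  Cfsg.Agent.Lib.Helper94_OrthPara Cfsg.Agent.Lib.Helper94_OrthVec
  Cfsg.Agent.Lib.Helper94_OrthNondeg Cfsg.Agent.Lib.Helper94_OrthRefl
  Cfsg.Agent.Lib.Helper32_ND4Defs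

variable {F V : Type*} [Field F] [AddCommGroup V] [Module F V]
variable [Finite F] [FiniteDimensional F V] {Q : V → F} {B : LinearMap.BilinForm F V}

section packages

variable {G M : Subgroup (V ≃ₗ[F] V)} {A A' : Submodule F V}

/-- STABFIX, assembled from helper24's `STABFIX_aux` and helper52's `SC`. -/
theorem STABFIX (hC : NCtx Q B G M A A')
    (hZ : ∀ w ∈ A', w ≠ 0 → Q w = 0 → ∀ z, InZ Q B M w z → z ∈ A')
    {g : V ≃ₗ[F] V} (hgM : g ∈ M) {w : V} (hwA' : w ∈ A') (hw0 : w ≠ 0) (hQw : Q w = 0)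
    (hgw : g w ∈ A') : ∀ y ∈ A', g y ∈ A' :=
  Cfsg.Agent.Lib.Helper24_ND4_STABFIXaux.STABFIX_aux hC
    (fun h1 h2 h3 h4 h5 => Cfsg.Agent.Lib.Helper52_ND4_SC.SC hC h1 h2 h3 h4 h5)
    hZ hgM hwA' hw0 hQw hgw

/-- HZ, assembled from `HZ_of_STABFIX` and `STABFIX`. -/
theorem HZ (hC : NCtx Q B G M A A') (h4 : 4 ≤ finrank F A') (hlt : finrank F A < finrank F A')
    (hZ : ∀ w ∈ A', w ≠ 0 → Q w = 0 → ∀ z, InZ Q B M w z → z ∈ A') :
    ∀ m ∈ M, ∀ y ∈ A', m y ∈ A' :=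
  Cfsg.Agent.Lib.Helper32_ND4_HZ.HZ_of_STABFIX hC h4 hlt hZ
    (fun {g} hgM {w} hwA' hw0 hQw hgw => STABFIX hC hZ hgM hwA' hw0 hQw hgw)

/-- NHZ, assembled from helper43's `NHZ_aux` and helper10's `EV4`, `FULL`. -/
theorem NHZ (hC : NCtx Q B G M A A') (h4 : finrank F A' = 4) (hexc : ¬ Exc Q A)
    {w z : V} (hwA' : w ∈ A') (hw0 : w ≠ 0) (hQw : Q w = 0) (hz : InZ Q B M w z)
    (hzA' : z ∉ A') : ∀ u z, Q u = 0 → B u z = 0 → sieg Q B u z ∈ M :=
  Cfsg.Agent.Lib.Helper43_ND4_NHZ.NHZ_aux hC hexc hwA' hw0 hQw hz hzA'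
    (fun c => Cfsg.Agent.Lib.Helper10_ND4_EV4.EV4 hC.hQs hC.hQp hC.h2 A' hC.hA'nd h4 hwA' hw0 hQw c)
    (fun hfull => Cfsg.Agent.Lib.Helper10_ND4_FULL.FULL hC hwA' hw0 hQw hfull)

end packages

/-- **Maximality of the stabiliser of a nondegenerate subspace** `A'` of dimension four whose
orthogonal complement `A` is nonzero of smaller dimension (and not an exceptional hyperbolic
plane), odd characteristic. -/
theorem maximal_stab_four (hQs : ∀ (c : F) (v : V), Q (c • v) = c * c * Q v)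
    (hQp : ∀ u v : V, Q (u + v) = Q u + Q v + B u v) (h2 : (2 : F) ≠ 0)
    (hN : B.Nondegenerate) (G : Subgroup (V ≃ₗ[F] V)) (hG1 : G ≤ oG Q)
    (hG2 : ∀ u z, Q u = 0 → B u z = 0 → sieg Q B u z ∈ G)
    (hG3 : ∀ M : Subgroup (V ≃ₗ[F] V),
      (∀ u z, Q u = 0 → B u z = 0 → sieg Q B u z ∈ M) → G ≤ M)
    (hG4 : ∀ a c, Q a ≠ 0 → Q c = Q a → B a c = 0 →
      ∃ g ∈ G, ∀ x, g x = x - ((Q a)⁻¹ * B x a) • a - ((Q a)⁻¹ * B x c) • c)
    (A A' : Submodule F V)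
    (hAA' : ∀ a ∈ A, ∀ a' ∈ A', B a a' = 0) (hsup : A ⊔ A' = ⊤) (hA0 : A ≠ ⊥)
    (h4' : finrank F A' = 4) (hlt : finrank F A < finrank F A')
    (hexc : ¬ Exc Q A) :
    (stab A' ⊓ G < G) ∧
      ∀ M : Subgroup (V ≃ₗ[F] V), stab A' ⊓ G ≤ M → M ≤ G → M = stab A' ⊓ G ∨ M = G := by
  have hsymm := B_symm Q B hQp
  have hAnd := nondegOn_left hQp hN A A' hAA' hsup
  have hA'nd := nondegOn_right hQp hN A A' hAA' hsup
  have hinf : A ⊓ A' = ⊥ := by
    rw [eq_bot_iff]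
    rintro x ⟨hx, hx'⟩
    by_contra hx0
    obtain ⟨y, hy, hyx⟩ := hAnd x hx hx0
    exact hyx (hAA' y hy x hx')
  constructor
  · refine lt_of_le_of_ne inf_le_right ?_
    intro heq
    obtain ⟨u, huA', hu0, hQu⟩ := exists_singular_in Q B hQs hQp A' (by omega)
    obtain ⟨z, hzA, hz0⟩ := Submodule.exists_mem_ne_zero_of_ne_bot hA0
    obtain ⟨x, hxA', hxu⟩ := hA'nd u huA' hu0
    have huz : B u z = 0 := by rw [hsymm]; exact hAA' z hzA u huA'
    have hg : sieg Q B u z ∈ stab A' ⊓ G := by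
      rw [heq]
      exact hG2 u z hQu huz
    have h1 := (mem_stab.mp hg.1 x).mp hxA'
    rw [sieg_apply Q B hQs hQp hQu huz, hsymm x z, hAA' z hzA x hxA'] at h1
    have h2' : B x u • z ∈ A' := by
      have h3 := A'.add_mem (A'.sub_mem h1 hxA') (A'.smul_mem (Q z * B x u) huA')
      have e : x + B x u • z - (0 : F) • u - (Q z * B x u) • u - x + (Q z * B x u) • u =
          B x u • z := by module
      rwa [e] at h3
    have h4 : z ∈ A' := by
      have := A'.smul_mem (B x u)⁻¹ h2'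
      rwa [smul_smul, inv_mul_cancel₀ hxu, one_smul] at this
    have : z ∈ (A ⊓ A' : Submodule F V) := ⟨hzA, h4⟩
    rw [hinf, Submodule.mem_bot] at this
    exact hz0 this
  · intro M hHM hMG
    have hC : NCtx Q B G M A A' :=
      ⟨hQs, hQp, h2, hN, hG1, hG2, hG4, hAA', hsup, hA0, hHM, hMG⟩
    by_cases hZ : ∀ w ∈ A', w ≠ 0 → Q w = 0 → ∀ z, InZ Q B M w z → z ∈ A'
    · left
      apply le_antisymm _ hHM
      intro m hmM
      exact ⟨mem_stab_of_forall_mem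
        (HZ hC (by omega) hlt hZ m hmM), hMG hmM⟩
    · right
      push Not at hZ
      obtain ⟨w, hwA', hw0, hw, z, hz, hzA'⟩ := hZ
      apply le_antisymm hMG
      apply hG3
      exact NHZ hC h4' hexc hwA' hw0 hw hz hzA'

end Cfsg.Agent.Lib.Helper32_ND4Main
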