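import Mathlib
import Cfsg.Agent.Lib.Helper32_OFDefs

/-!
# OF-HELEMS (architect helper32): double sign changes and 3-cycles are commutators of reflections.
-/

set_option autoImplicit false
set_option linter.unusedSectionVars false

open scoped commutatorElement

namespace Cfsg.Agent.Lib.Helper44_OF_HELEMS

open Module Cfsg.Agent.Lib.Helper94_Symp Cfsg.Agent.Lib.Helper94_OrthSmall
  Cfsg.Agent.Lib.Helper94_OrthSiegel Cfsg.Agent.Lib.Helper94_OrthSiegel2
  Cfsg.Agent.Lib.Helper94_OrthNondeg Cfsg.Agent.Lib.Helper29_ODDefs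
  Cfsg.Agent.Lib.Helper32_OFDefs

variable {F V : Type*} [Field F] [AddCommGroup V] [Module F V]
variable {Q : V → F} {B : LinearMap.BilinForm F V}
variable {ι : Type*} [Fintype ι] [DecidableEq ι] {c : F} {e : ι → V}

/-- `Q (e x - e y) = 2 c` -/
theorem Q_sub (hfr : OFr Q B c e) {x y : ι} (hxy : x ≠ y) : Q (e x - e y) = 2 * c := by
  have h := Q_add_smul Q B hfr.hQs hfr.hQp (e x) (e y) (-1)
  rw [neg_one_smul, ← sub_eq_add_neg] at h
  rw [h, hfr.Qe, hfr.Qe, hfr.orth x y hxy]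
  ring

theorem Q_sub_ne (hfr : OFr Q B c e) {x y : ι} (hxy : x ≠ y) : Q (e x - e y) ≠ 0 := by
  rw [Q_sub hfr hxy]; exact hfr.two_c

theorem Qe_ne (hfr : OFr Q B c e) (k : ι) : Q (e k) ≠ 0 := by
  rw [hfr.Qe]; exact hfr.c0

/-- the reflection in `e k` -/
theorem refl_e_self (hfr : OFr Q B c e) (k : ι) :
    refl Q B hfr.hQs hfr.hQp (Qe_ne hfr k) (e k) = -e k := by
  rw [refl_apply, hfr.Bee, hfr.Qe]
  have h1 : c⁻¹ * (2 * c) = 2 := by
    rw [mul_comm, mul_assoc, mul_inv_cancel₀ hfr.c0, mul_one]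
  rw [h1, two_smul]
  abel

theorem refl_e_other (hfr : OFr Q B c e) {k i : ι} (hik : i ≠ k) :
    refl Q B hfr.hQs hfr.hQp (Qe_ne hfr k) (e i) = e i := by
  rw [refl_apply, hfr.orth i k hik, mul_zero, zero_smul, sub_zero]

/-- the reflection in `e x - e y` swaps `e x` and `e y` -/
theorem swap_left (hfr : OFr Q B c e) {x y : ι} (hxy : x ≠ y) :
    refl Q B hfr.hQs hfr.hQp (Q_sub_ne hfr hxy) (e x) = e y := by
  rw [refl_apply, Q_sub hfr hxy, map_sub, hfr.Bee, hfr.orth x y hxy, sub_zero,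
    inv_mul_cancel₀ hfr.two_c, one_smul]
  abel

theorem swap_right (hfr : OFr Q B c e) {x y : ι} (hxy : x ≠ y) :
    refl Q B hfr.hQs hfr.hQp (Q_sub_ne hfr hxy) (e y) = e x := by
  rw [refl_apply, Q_sub hfr hxy, map_sub, hfr.Bee, hfr.orth y x hxy.symm, zero_sub]
  have : (2 * c)⁻¹ * -(2 * c) = -1 := by
    rw [mul_neg, inv_mul_cancel₀ hfr.two_c]
  rw [this, neg_one_smul]
  abel

theorem swap_other (hfr : OFr Q B c e) {x y i : ι} (hxy : x ≠ y) (hix : i ≠ x) (hiy : i ≠ y) :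
    refl Q B hfr.hQs hfr.hQp (Q_sub_ne hfr hxy) (e i) = e i := by
  rw [refl_apply, map_sub, hfr.orth i x hix, hfr.orth i y hiy, sub_zero, mul_zero, zero_smul,
    sub_zero]

/-- evaluation of a commutator of two reflections -/
theorem comm_apply (hfr : OFr Q B c e) {a b : V} (ha : Q a ≠ 0) (hb : Q b ≠ 0) (v : V) :
    ⁅refl Q B hfr.hQs hfr.hQp ha, refl Q B hfr.hQs hfr.hQp hb⁆ v =
      refl Q B hfr.hQs hfr.hQp ha (refl Q B hfr.hQs hfr.hQp hb
        (refl Q B hfr.hQs hfr.hQp ha (refl Q B hfr.hQs hfr.hQp hb v))) := by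
  rw [commutatorElement_def, refl_inv, refl_inv]
  rfl

theorem HELEMS (hfr : OFr Q B c e) :
    (∀ k l : ι, k ≠ l → zJ B c e {k, l} ∈ ⁅oG Q, oG Q⁆) ∧
    (∀ a b d : ι, a ≠ b → a ≠ d → b ≠ d → ∃ τ ∈ ⁅oG Q, oG Q⁆, τ (e a) = e b ∧ τ (e b) = e d ∧
      τ (e d) = e a ∧ ∀ i, i ≠ a → i ≠ b → i ≠ d → τ (e i) = e i) := by
  constructor
  · intro k l hkl
    have hmem : ⁅refl Q B hfr.hQs hfr.hQp (Q_sub_ne hfr hkl),
        refl Q B hfr.hQs hfr.hQp (Qe_ne hfr k)⁆ ∈ ⁅oG Q, oG Q⁆ :=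
      Subgroup.commutator_mem_commutator (refl_mem Q B hfr.hQs hfr.hQp _)
        (refl_mem Q B hfr.hQs hfr.hQp _)
    have heq : zJ B c e {k, l} = ⁅refl Q B hfr.hQs hfr.hQp (Q_sub_ne hfr hkl),
        refl Q B hfr.hQs hfr.hQp (Qe_ne hfr k)⁆ := by
      apply hfr.equiv_ext
      intro i
      rw [comm_apply hfr, hfr.zJ_e]
      by_cases hik : i = k
      · subst hik
        rw [if_pos (by simp), refl_e_self hfr, map_neg, swap_left hfr hkl, map_neg,
          refl_e_other hfr hkl.symm, map_neg, swap_right hfr hkl]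
      · by_cases hil : i = l
        · subst hil
          rw [if_pos (by simp), refl_e_other hfr hik, swap_right hfr hkl, refl_e_self hfr,
            map_neg, swap_left hfr hkl]
        · rw [if_neg (by simp [hik, hil]), refl_e_other hfr hik, swap_other hfr hkl hik hil,
            refl_e_other hfr hik, swap_other hfr hkl hik hil]
    rw [heq]; exact hmem
  · intro a b d hab had hbd
    refine ⟨⁅refl Q B hfr.hQs hfr.hQp (Q_sub_ne hfr had),
        refl Q B hfr.hQs hfr.hQp (Q_sub_ne hfr hbd)⁆,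
      Subgroup.commutator_mem_commutator (refl_mem Q B hfr.hQs hfr.hQp _)
        (refl_mem Q B hfr.hQs hfr.hQp _), ?_, ?_, ?_, ?_⟩
    · rw [comm_apply hfr, swap_other hfr hbd hab had, swap_left hfr had, swap_right hfr hbd,
        swap_other hfr had hab.symm hbd]
    · rw [comm_apply hfr, swap_left hfr hbd, swap_right hfr had, swap_other hfr hbd hab had,
        swap_left hfr had]
    · rw [comm_apply hfr, swap_right hfr hbd, swap_other hfr had hab.symm hbd, swap_left hfr hbd,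
        swap_right hfr had]
    · intro i hia hib hid
      rw [comm_apply hfr, swap_other hfr hbd hib hid, swap_other hfr had hia hid,
        swap_other hfr hbd hib hid, swap_other hfr had hia hid]

end Cfsg.Agent.Lib.Helper44_OF_HELEMS
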