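import Mathlib
import Cfsg.Agent.Lib.Helper32_OFDefs

/-!
# OF-MOVED (architect helper32): moved points of a monomial involution.
-/

set_option autoImplicit false
set_option linter.unusedSectionVars false

namespace Cfsg.Agent.Lib.Helper44_OF_MOVED

open Module Cfsg.Agent.Lib.Helper94_Symp Cfsg.Agent.Lib.Helper94_OrthSmall
  Cfsg.Agent.Lib.Helper94_OrthSiegel Cfsg.Agent.Lib.Helper94_OrthSiegel2
  Cfsg.Agent.Lib.Helper94_OrthNondeg Cfsg.Agent.Lib.Helper29_ODDefs
  Cfsg.Agent.Lib.Helper32_OFDefs

variable {F V : Type*} [Field F] [AddCommGroup V] [Module F V]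
variable {Q : V → F} {B : LinearMap.BilinForm F V}
variable {ι : Type*} [Fintype ι] [DecidableEq ι] {c : F} {e : ι → V}

/-- `± e a = ± e b` forces `a = b` -/
theorem idx_eq (hfr : OFr Q B c e) {a b : ι} (h : e a = e b ∨ e a = -e b) : a = b := by
  rcases h with h | h
  · exact hfr.e_inj h
  · exact absurd h (hfr.e_ne_neg a b)

theorem MOVED [FiniteDimensional F V] (hfr : OFr Q B c e) : PropMoved F e := by
  classical
  intro t hmon htt W hW
  choose π hπ using hmon
  have htt' : ∀ v, t (t v) = v := fun v => by
    have := congrArg (fun g : V ≃ₗ[F] V => g v) htt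
    simpa using this
  -- `π` is an involution
  have hππ : ∀ i, π (π i) = i := by
    intro i
    have h1 := htt' (e i)
    apply idx_eq hfr
    rcases hπ i with h | h <;> rcases hπ (π i) with h' | h'
    · left; rw [h, h'] at h1; exact h1
    · right; rw [h, h'] at h1; rw [← h1, neg_neg]
    · right; rw [h, map_neg, h'] at h1; rw [← h1, neg_neg]
    · left; rw [h, map_neg, h', neg_neg] at h1; exact h1
  -- coordinates of `t (e i)`
  have hBt : ∀ i j, π i ≠ j → B (t (e i)) (e j) = 0 := by
    intro i j hij
    rcases hπ i with h | h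
    · rw [h, hfr.orth _ _ hij]
    · rw [h, map_neg, LinearMap.neg_apply, hfr.orth _ _ hij, neg_zero]
  -- moved set
  set S : Finset ι := Finset.univ.filter (fun i => t (e i) ≠ e i) with hS
  have hmemS : ∀ i, i ∈ S ↔ t (e i) ≠ e i := fun i => by rw [hS]; simp
  -- `π i ≠ i` implies `i` moved, and `π i` moved
  have hmoved_of_ne : ∀ i, π i ≠ i → i ∈ S := by
    intro i hne
    rw [hmemS]
    intro h
    apply hne
    apply idx_eq hfr
    rcases hπ i with h' | h'
    · left; rw [← h', h]
    · right
      have : e i = -e (π i) := by rw [← h', h]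
      rw [this, neg_neg]
  -- an order
  let o : ι ≃ Fin (Fintype.card ι) := Fintype.equivFin ι
  set S' : Finset ι := S.filter (fun i => o i ≤ o (π i)) with hS'
  have hsub : S ⊆ S' ∪ S'.image π := by
    intro i hi
    by_cases hle : o i ≤ o (π i)
    · apply Finset.mem_union_left
      rw [hS', Finset.mem_filter]; exact ⟨hi, hle⟩
    · apply Finset.mem_union_right
      rw [Finset.mem_image]
      refine ⟨π i, ?_, hππ i⟩
      have hlt : o (π i) < o i := not_le.1 hle
      have hne : π i ≠ i := fun h => by rw [h] at hlt; exact lt_irrefl _ hlt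
      have hne' : π (π i) ≠ π i := by rw [hππ]; exact hne.symm
      rw [hS', Finset.mem_filter]
      refine ⟨hmoved_of_ne _ hne', ?_⟩
      rw [hππ]; exact hlt.le
  have hcard : S.card ≤ 2 * S'.card := by
    calc S.card ≤ (S' ∪ S'.image π).card := Finset.card_le_card hsub
      _ ≤ S'.card + (S'.image π).card := Finset.card_union_le _ _
      _ ≤ S'.card + S'.card := Nat.add_le_add_left Finset.card_image_le _
      _ = 2 * S'.card := by ring
  -- the independent family
  have hcoord_ne : ∀ i j, i ∈ S' → j ∈ S' → i ≠ j → B (e i - t (e i)) (e j) = 0 := by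
    intro i j hi hj hij
    rw [map_sub, LinearMap.sub_apply, hfr.orth i j hij, zero_sub, neg_eq_zero]
    apply hBt
    intro hπij
    apply hij
    rw [hS', Finset.mem_filter] at hi hj
    have h1 : o i ≤ o j := by rw [← hπij]; exact hi.2
    have h2 : o j ≤ o i := by
      have := hj.2
      rw [← hπij, hππ] at this
      rw [← hπij]; exact this
    exact o.injective (le_antisymm h1 h2)
  have hcoord_self : ∀ j, j ∈ S' → B (e j - t (e j)) (e j) ≠ 0 := by
    intro j hj
    rw [hS', Finset.mem_filter] at hj
    rw [map_sub, LinearMap.sub_apply, hfr.Bee]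
    by_cases hπj : π j = j
    · have hneg : t (e j) = -e j := by
        rcases hπ j with h | h
        · exfalso
          rw [hπj] at h
          exact (hmemS j).1 hj.1 h
        · rw [hπj] at h; exact h
      rw [hneg, map_neg, LinearMap.neg_apply, hfr.Bee, sub_neg_eq_add]
      have : (2 * c + 2 * c : F) = 2 * (2 * c) := by ring
      rw [this]
      exact mul_ne_zero hfr.h2 hfr.two_c
    · rw [hBt j j hπj, sub_zero]
      exact hfr.two_c
  let w : ↥S' → ↥W := fun i => ⟨e i.1 - t (e i.1), hW (e i.1)⟩
  have hli : LinearIndependent F w := by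
    rw [linearIndependent_iff']
    intro s g hg j hj
    have h1 : B ((W.subtype) (∑ i ∈ s, g i • w i)) (e j.1) = 0 := by
      rw [hg, map_zero, map_zero, LinearMap.zero_apply]
    rw [map_sum, map_sum, LinearMap.sum_apply, Finset.sum_eq_single j] at h1
    · rw [map_smul, map_smul, LinearMap.smul_apply, smul_eq_mul] at h1
      rcases mul_eq_zero.1 h1 with h | h
      · exact h
      · exact absurd h (hcoord_self j.1 j.2)
    · intro i _ hij
      rw [map_smul, map_smul, LinearMap.smul_apply, smul_eq_mul]
      have : B (W.subtype (w i)) (e j.1) = 0 :=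
        hcoord_ne i.1 j.1 i.2 j.2 (fun h => hij (Subtype.ext h))
      rw [this, mul_zero]
    · intro h; exact absurd hj h
  have hle := hli.fintype_card_le_finrank
  rw [Fintype.card_coe] at hle
  calc S.card ≤ 2 * S'.card := hcard
    _ ≤ 2 * finrank F W := Nat.mul_le_mul_left 2 hle

end Cfsg.Agent.Lib.Helper44_OF_MOVED
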