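import Mathlib
import Cfsg.Agent.Lib.Helper32_OFDefs

/-!
# OF-STRICT (architect helper32): a non-monomial element of `Ω`.
-/

set_option autoImplicit false
set_option linter.unusedSectionVars false

namespace Cfsg.Agent.Lib.Helper44_OF_STRICT

open Module Cfsg.Agent.Lib.Helper94_Symp Cfsg.Agent.Lib.Helper94_OrthSmall
  Cfsg.Agent.Lib.Helper94_OrthSiegel Cfsg.Agent.Lib.Helper94_OrthSiegel2
  Cfsg.Agent.Lib.Helper94_OrthNondeg Cfsg.Agent.Lib.Helper29_ODDefs
  Cfsg.Agent.Lib.Helper32_OFDefs

variable {F V : Type*} [Field F] [AddCommGroup V] [Module F V]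
variable {Q : V → F} {B : LinearMap.BilinForm F V}
variable {ι : Type*} [Fintype ι] [DecidableEq ι] {c : F} {e : ι → V}

/-- a frame is linearly independent -/
theorem linearIndependent_frame (hfr : OFr Q B c e) : LinearIndependent F e := by
  rw [linearIndependent_iff']
  intro s g hg i hi
  have h1 : ∑ j, (if j ∈ s then g j else 0) • e j = 0 := by
    rw [← hg, ← Finset.sum_filter_add_sum_filter_not Finset.univ (fun j => j ∈ s)]
    have h2 : ∑ j ∈ Finset.univ.filter (fun j => ¬ j ∈ s), (if j ∈ s then g j else 0) • e j = 0 := by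
      apply Finset.sum_eq_zero
      intro j hj
      rw [Finset.mem_filter] at hj
      rw [if_neg hj.2, zero_smul]
    rw [h2, add_zero]
    have h3 : Finset.univ.filter (fun j => j ∈ s) = s := by
      ext j; simp
    rw [h3]
    apply Finset.sum_congr rfl
    intro j hj
    rw [if_pos hj]
  have h4 := hfr.co_sum (fun j => if j ∈ s then g j else 0) i
  rw [h1] at h4
  simp only [co, LinearMap.zero_apply, map_zero, mul_zero, if_pos hi] at h4
  exact h4.symm

theorem STRICT [Finite F] [FiniteDimensional F V] (hfr : OFr Q B c e)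
    (hn : 4 ≤ Fintype.card ι)
    (hG2 : ∀ u z, Q u = 0 → B u z = 0 → sieg Q B u z ∈ ⁅oG Q, oG Q⁆) :
    ∃ g ∈ ⁅oG Q, oG Q⁆, ¬ IsMon e g := by
  classical
  -- four distinct indices
  have hcard : Fintype.card (Fin 4) ≤ Fintype.card ι := by rw [Fintype.card_fin]; exact hn
  obtain ⟨f⟩ := Function.Embedding.nonempty_of_card_le hcard
  set i4 : ι := f 3 with hi4
  -- the span of three frame vectors
  let b : Fin 3 → V := fun k => e (f (Fin.castSucc k))
  have hinj : Function.Injective (fun k : Fin 3 => f (Fin.castSucc k)) := by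
    intro k k' hkk
    exact Fin.castSucc_injective _ (f.injective hkk)
  have hb : LinearIndependent F b := (linearIndependent_frame hfr).comp _ hinj
  have hfin : finrank F (Submodule.span F (Set.range b)) = 3 := by
    rw [finrank_span_eq_card hb, Fintype.card_fin]
  obtain ⟨p, hpU, hp0, hQp0⟩ := exists_singular_in Q B hfr.hQs hfr.hQp
    (Submodule.span F (Set.range b)) (by rw [hfin])
  -- `p` is orthogonal to `e i4`
  have hp4 : B p (e i4) = 0 := by
    refine Submodule.span_induction (p := fun x _ => B x (e i4) = 0) ?_ ?_ ?_ ?_ hpU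
    · rintro _ ⟨k, rfl⟩
      apply hfr.orth
      intro h
      have h2 := f.injective h
      have h3 : (Fin.castSucc k : Fin 4) ≠ 3 := by
        intro h4
        have := congrArg Fin.val h4
        simp at this
        omega
      exact h3 h2
    · simp
    · intro x y _ _ hx hy
      rw [map_add, LinearMap.add_apply, hx, hy, add_zero]
    · intro a x _ hx
      rw [map_smul, LinearMap.smul_apply, hx, smul_zero]
  -- a nonzero coordinate
  have hex : ∃ i, B p (e i) ≠ 0 := by
    by_contra hcon
    push Not at hcon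
    apply hp0
    apply hfr.ext
    intro i
    rw [hcon i, map_zero, LinearMap.zero_apply]
  obtain ⟨i, hi⟩ := hex
  -- a second nonzero coordinate
  have hex2 : ∃ j, j ≠ i ∧ B p (e j) ≠ 0 := by
    by_contra hcon
    push Not at hcon
    have hQ := hfr.Q_eq p
    rw [hQp0, Finset.sum_eq_single i] at hQ
    · have hco : co B c e p i ≠ 0 := by
        unfold co
        exact mul_ne_zero (inv_ne_zero hfr.two_c) hi
      have := mul_ne_zero hfr.c0 (mul_ne_zero hco hco)
      exact this hQ.symm
    · intro j _ hji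
      unfold co
      rw [hcon j hji, mul_zero, mul_zero]
    · intro h
      exact absurd (Finset.mem_univ i) h
  obtain ⟨j, hji, hj⟩ := hex2
  have hi4i : i4 ≠ i := fun h => hi (h ▸ hp4)
  have hi4j : i4 ≠ j := fun h => hj (h ▸ hp4)
  refine ⟨sieg Q B p (e i4), hG2 p (e i4) hQp0 hp4, ?_⟩
  intro hmon
  obtain ⟨k, hk⟩ := hmon i
  have himg : sieg Q B p (e i4) (e i) =
      e i + B (e i) p • e i4 - B (e i) (e i4) • p - (Q (e i4) * B (e i) p) • p :=
    sieg_apply Q B hfr.hQs hfr.hQp hQp0 hp4 (e i)
  have hβ : B (e i) p ≠ 0 := by rw [hfr.symm]; exact hi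
  -- coordinate at `i4`
  have hc4 : B (sieg Q B p (e i4) (e i)) (e i4) ≠ 0 := by
    rw [himg]
    simp only [map_sub, map_add, map_smul, LinearMap.sub_apply, LinearMap.add_apply,
      LinearMap.smul_apply, smul_eq_mul, hp4, mul_zero, sub_zero, hfr.orth i i4 hi4i.symm,
      zero_add, hfr.Bee]
    exact mul_ne_zero hβ hfr.two_c
  -- coordinate at `j`
  have hcj : B (sieg Q B p (e i4) (e i)) (e j) ≠ 0 := by
    rw [himg]
    simp only [map_sub, map_add, map_smul, LinearMap.sub_apply, LinearMap.add_apply,
      LinearMap.smul_apply, smul_eq_mul, hfr.orth i i4 hi4i.symm, hfr.orth i j hji.symm,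
      hfr.orth i4 j hi4j, mul_zero, zero_mul, zero_add, sub_zero, zero_sub, hfr.Qe]
    rw [neg_ne_zero]
    exact mul_ne_zero (mul_ne_zero hfr.c0 hβ) hj
  -- but `± e k` has only one nonzero coordinate
  have hk4 : k = i4 := by
    by_contra hne
    apply hc4
    rcases hk with hk | hk
    · rw [hk, hfr.orth k i4 hne]
    · rw [hk, map_neg, LinearMap.neg_apply, hfr.orth k i4 hne, neg_zero]
  have hkj : k = j := by
    by_contra hne
    apply hcj
    rcases hk with hk | hk
    · rw [hk, hfr.orth k j hne]
    · rw [hk, map_neg, LinearMap.neg_apply, hfr.orth k j hne, neg_zero]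
  exact hi4j (hk4.symm.trans hkj)

end Cfsg.Agent.Lib.Helper44_OF_STRICT
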