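import Mathlib
import Cfsg.Agent.Lib.Helper32_OFDefs
import Cfsg.Agent.Lib.Helper7_OF_DIH
import Cfsg.Agent.Lib.Helper12_OF_MONSTAB
import Cfsg.Agent.Lib.Helper30_OF_VJ
import Cfsg.Agent.Lib.Helper31_OF_API
import Cfsg.Agent.Lib.Helper31_OF_B
import Cfsg.Agent.Lib.Helper44_OF_HELEMS
import Cfsg.Agent.Lib.Helper44_OF_MOVED
import Cfsg.Agent.Lib.Helper44_OF_STRICT
import Cfsg.Agent.Lib.Helper18_OF_V
import Cfsg.Agent.Lib.Helper21_OF_FUS
import Cfsg.Agent.Lib.Helper79_OF_FRAME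

set_option autoImplicit false
set_option linter.unusedSimpArgs false
set_option linter.unusedVariables false
set_option linter.unusedSectionVars false

/-!
Maximality of the stabiliser of an orthogonal frame in `Ω = [O, O]` (abstract form; rows S5679,
S5696): assembly of case (C) (market OF), case (A) (helper98's theorem on overgroups of the monomial
group of a hyperplane), and the glue.
-/

namespace Cfsg.Agent.Lib.Helper32_OFMain

open Module Cfsg.Agent.Lib.Helper94_Symp Cfsg.Agent.Lib.Helper94_OrthSmall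
  Cfsg.Agent.Lib.Helper94_OrthSiegel Cfsg.Agent.Lib.Helper94_OrthSiegel2
  Cfsg.Agent.Lib.Helper94_OrthNondeg Cfsg.Agent.Lib.Helper94_OrthVec
  Cfsg.Agent.Lib.Helper29_ODDefs Cfsg.Agent.Lib.Helper32_OFDefs

variable {F V : Type*} [Field F] [AddCommGroup V] [Module F V]
variable {Q : V → F} {B : LinearMap.BilinForm F V}
variable {ι : Type*} [Fintype ι] [DecidableEq ι] {c : F} {e : ι → V}
variable {M : Subgroup (V ≃ₗ[F] V)}

/-! ### the frame is a basis -/

lemma linInd (hfr : OFr Q B c e) : LinearIndependent F e := by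
  rw [Fintype.linearIndependent_iff]
  intro a ha i
  have := hfr.B_sum a i
  rw [ha] at this
  simp only [map_zero, LinearMap.zero_apply] at this
  rcases mul_eq_zero.mp this.symm with h | h
  · exact absurd h hfr.two_c
  · exact h

lemma span_top (hfr : OFr Q B c e) : Submodule.span F (Set.range e) = ⊤ := by
  rw [eq_top_iff]
  intro v _
  rw [hfr.exp v]
  exact Submodule.sum_mem _ fun i _ =>
    Submodule.smul_mem _ _ (Submodule.subset_span ⟨i, rfl⟩)

lemma finrank_eq (hfr : OFr Q B c e) : finrank F V = Fintype.card ι := by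
  have b : Basis ι F V := Basis.mk (linInd hfr) (by rw [span_top hfr])
  rw [finrank_eq_card_basis b]

/-! ### case (C) -/

/-- a 3-cycle of the frame is monomial -/
lemma isMon_of_cycle {τ : V ≃ₗ[F] V} {a b d : ι} (h1 : τ (e a) = e b) (h2 : τ (e b) = e d)
    (h3 : τ (e d) = e a) (h4 : ∀ i, i ≠ a → i ≠ b → i ≠ d → τ (e i) = e i) : IsMon e τ := by
  intro i
  by_cases hia : i = a
  · exact ⟨b, Or.inl (by rw [hia, h1])⟩
  by_cases hib : i = b
  · exact ⟨d, Or.inl (by rw [hib, h2])⟩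
  by_cases hid : i = d
  · exact ⟨a, Or.inl (by rw [hid, h3])⟩
  · exact ⟨i, Or.inl (h4 i hia hib hid)⟩

theorem propC0 (hC : CCtx Q B c e M) (hn : 3 ≤ Fintype.card ι) : PropC0 e M := by
  classical
  intro g hg i j hij
  by_cases hji : j = i
  · rw [hji] at hij
    exact hC.hC g hg i hij
  obtain ⟨m, hmi, hmj⟩ : ∃ m, m ≠ i ∧ m ≠ j := by
    by_contra hcon
    push Not at hcon
    have hsub : (Finset.univ : Finset ι) ⊆ {i, j} := by
      intro a _
      by_cases hai : a = i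
      · simp [hai]
      · simp [hcon a hai]
    have := Finset.card_le_card hsub
    have h2 : ({i, j} : Finset ι).card ≤ 2 := Finset.card_le_two
    rw [Finset.card_univ] at this
    omega
  obtain ⟨τ, hτM, h1, h2, h3, h4⟩ := hC.mon.h3 j i m hji (Ne.symm hmj) (Ne.symm hmi)
  have hτmon : IsMon e τ := isMon_of_cycle h1 h2 h3 h4
  have h5 : IsMon e (τ * g) := by
    apply hC.hC (τ * g) (M.mul_mem hτM hg) i
    rw [LinearEquiv.mul_apply]
    rcases hij with h | h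
    · left; rw [h, h1]
    · right; rw [h, map_neg, h1]
  have h6 := (hC.fr.isMon_inv hτmon).mul h5
  rwa [← mul_assoc, inv_mul_cancel, one_mul] at h6

theorem caseC [Finite F] [FiniteDimensional F V] (hC : CCtx Q B c e M)
    (hn : 13 ≤ Fintype.card ι) : ∀ g ∈ M, IsMon e g := by
  have h0 := propC0 hC (by omega)
  have hV := Cfsg.Agent.Lib.Helper18_OF_V.LEMV hC.fr hC.mon
  have hMv := Cfsg.Agent.Lib.Helper44_OF_MOVED.MOVED (F := F) hC.fr
  have hVJ := Cfsg.Agent.Lib.Helper30_OF_VJ.VJ hC hn h0 hV hMv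
  have hB := Cfsg.Agent.Lib.Helper31_OF_B.PB hC hVJ
  exact Cfsg.Agent.Lib.Helper21_OF_FUS.FUS hC hn hVJ hB

/-! ### the end of case (A): from the Siegel elements of a hyperplane `(e k)^⊥` to everything -/

theorem afin [Finite F] [FiniteDimensional F V] (hfr : OFr Q B c e)
    (hn : 7 ≤ Fintype.card ι) (hMO : M ≤ oG Q) (hmon : HasMon B c e M) (k : ι)
    (hS : ∀ u z, B u (e k) = 0 → B z (e k) = 0 → Q u = 0 → B u z = 0 → sieg Q B u z ∈ M) :
    ∀ u z, Q u = 0 → B u z = 0 → sieg Q B u z ∈ M := by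
  classical
  have hQs := hfr.hQs
  have hQp := hfr.hQp
  have hN := hfr.nondeg
  have hsymm := hfr.symm
  -- two more indices
  obtain ⟨j, hjk⟩ : ∃ j, j ≠ k := by
    by_contra hcon
    push Not at hcon
    have : Fintype.card ι ≤ 1 := Fintype.card_le_one_iff.mpr fun a b => by rw [hcon a, hcon b]
    omega
  obtain ⟨m, hmk, hmj⟩ : ∃ m, m ≠ k ∧ m ≠ j := by
    by_contra hcon
    push Not at hcon
    have hsub : (Finset.univ : Finset ι) ⊆ {k, j} := by
      intro a _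
      by_cases hak : a = k
      · simp [hak]
      · simp [hcon a hak]
    have := Finset.card_le_card hsub
    have h2 : ({k, j} : Finset ι).card ≤ 2 := Finset.card_le_two
    rw [Finset.card_univ] at this
    omega
  -- the Siegel elements of `(e j)^⊥`
  obtain ⟨τ, hτM, hτk, -, -, -⟩ := hmon.h3 k j m (Ne.symm hjk) (Ne.symm hmk) (Ne.symm hmj)
  have hτO := hMO hτM
  have hS' : ∀ u z, B u (e j) = 0 → B z (e j) = 0 → Q u = 0 → B u z = 0 →
      sieg Q B u z ∈ M := by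
    intro u z huj hzj hu huz
    have h1 : ∀ x, B (τ⁻¹ x) (e k) = B x (e j) := by
      intro x
      rw [← oG_B Q B hQp hτO, apply_inv_apply', hτk]
    have hu' : Q (τ⁻¹ u) = 0 := by rw [(oG Q).inv_mem hτO, hu]
    have huz' : B (τ⁻¹ u) (τ⁻¹ z) = 0 := by rw [oG_B Q B hQp ((oG Q).inv_mem hτO), huz]
    have h2 := hS (τ⁻¹ u) (τ⁻¹ z) (by rw [h1, huj]) (by rw [h1, hzj]) hu' huz'
    have h3 := conj_sieg Q B hQs hQp hτO hu' huz'
    rw [apply_inv_apply', apply_inv_apply'] at h3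
    rw [← h3]
    exact M.mul_mem (M.mul_mem hτM h2) (M.inv_mem hτM)
  -- the subspace `A = (e k)^⊥ ∩ (e j)^⊥`
  let A : Submodule F V := LinearMap.ker (B.flip (e k)) ⊓ LinearMap.ker (B.flip (e j))
  have hAmem : ∀ x, x ∈ A ↔ B x (e k) = 0 ∧ B x (e j) = 0 := by
    intro x
    simp only [A, Submodule.mem_inf, LinearMap.mem_ker, LinearMap.flip_apply,
      LinearMap.BilinForm.flip_apply]
  have hAfr : 5 ≤ finrank F A := by
    have h1 := finrank_le_inf_ker_add_one (⊤ : Submodule F V) (B.flip (e k))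
    have h2 := finrank_le_inf_ker_add_one ((⊤ : Submodule F V) ⊓ LinearMap.ker (B.flip (e k)))
      (B.flip (e j))
    rw [finrank_top, finrank_eq hfr] at h1
    have h3 : ((⊤ : Submodule F V) ⊓ LinearMap.ker (B.flip (e k))) ⊓
        LinearMap.ker (B.flip (e j)) = A := by
      simp only [A, top_inf_eq]
    rw [h3] at h2
    omega
  have hAnd : ∀ a ∈ A, a ≠ 0 → ∃ x ∈ A, B x a ≠ 0 := by
    intro a ha ha0
    by_contra hcon
    push Not at hcon
    apply ha0
    apply hfr.ext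
    intro i
    rw [map_zero, LinearMap.zero_apply]
    by_cases hik : i = k
    · rw [hik]; exact ((hAmem a).mp ha).1
    by_cases hij : i = j
    · rw [hij]; exact ((hAmem a).mp ha).2
    have hei : e i ∈ A := (hAmem _).mpr ⟨hfr.orth i k hik, hfr.orth i j hij⟩
    rw [hsymm]
    exact hcon (e i) hei
  -- full Siegel groups
  have hfull : ∀ w ∈ A, Q w = 0 → ∀ z, B w z = 0 → sieg Q B w z ∈ M := by
    intro w hw hQw z hwz
    obtain ⟨hwk, hwj⟩ := (hAmem w).mp hw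
    set z2 : V := co B c e z k • e k with hz2
    have hwz2 : B w z2 = 0 := by rw [hz2, map_smul, hwk, smul_zero]
    have hwz1 : B w (z - z2) = 0 := by rw [map_sub, hwz, hwz2, sub_zero]
    have hz2j : B z2 (e j) = 0 := by
      rw [hz2, map_smul, LinearMap.smul_apply, hfr.orth k j (Ne.symm hjk), smul_zero]
    have hz1k : B (z - z2) (e k) = 0 := by
      rw [map_sub, LinearMap.sub_apply, hz2, map_smul, LinearMap.smul_apply, hfr.Bee, smul_eq_mul]
      unfold co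
      rw [mul_comm (2 * c)⁻¹, mul_assoc, inv_mul_cancel₀ hfr.two_c, mul_one, sub_self]
    have h1 := hS w (z - z2) hwk hz1k hQw hwz1
    have h2 := hS' w z2 hwj hz2j hQw hwz2
    have h3 := sieg_mul Q B hQs hQp hQw hwz1 hwz2
    rw [sub_add_cancel] at h3
    rw [← h3]
    exact M.mul_mem h1 h2
  obtain ⟨w1, hw1A, hw10, hQw1⟩ := exists_singular_in Q B hQs hQp A (by omega)
  obtain ⟨w2, hw2A, hQw2, hw21⟩ := exists_sing_not_orth Q B hQs hQp A hAnd (by omega)
    (hAnd w1 hw1A hw10)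
  exact all_of_pair Q B hQs hQp hN M hMO ⟨hQw1, hfull w1 hw1A hQw1⟩ ⟨hQw2, hfull w2 hw2A hQw2⟩
    (by rw [hsymm]; exact hw21)

/-! ### case (A) -/

/-- helper98's theorem on the overgroups of the monomial group of the hyperplane `(e k)^⊥`, in
relative form. -/
def PropT (Q : V → F) (B : LinearMap.BilinForm F V) (c : F) (e : ι → V) : Prop :=
  ∀ (k : ι) (L : Subgroup (V ≃ₗ[F] V)), L ≤ oG Q → (∀ g ∈ L, g (e k) = e k) →
    (∀ i, i ≠ k → zJ B c e {i} ∈ L) →
    (∀ a b d : ι, a ≠ k → b ≠ k → d ≠ k → a ≠ b → a ≠ d → b ≠ d →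
      ∃ τ ∈ L, τ (e a) = e b ∧ τ (e b) = e d ∧ τ (e d) = e a ∧
        ∀ i, i ≠ a → i ≠ b → i ≠ d → τ (e i) = e i) →
    (∃ g ∈ L, ¬ IsMon e g) →
    ∀ u z, B u (e k) = 0 → B z (e k) = 0 → Q u = 0 → B u z = 0 → sieg Q B u z ∈ L

lemma sq_comm {G : Type*} [Group G] {a r : G} (hc : a * r = r * a) (hr : r * r = 1) :
    a * r * (a * r) = a * a := by
  calc a * r * (a * r) = a * (r * a) * r := by group
    _ = a * (a * r) * r := by rw [hc]
    _ = a * a * (r * r) := by group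
    _ = a * a := by rw [hr, mul_one]

/-- an isometry fixing `e k` commutes with the reflection in `e k` -/
lemma comm_zk (hfr : OFr Q B c e) (k : ι) {g : V ≃ₗ[F] V} (hg : g ∈ oG Q)
    (hgk : g (e k) = e k) : g * zJ B c e {k} = zJ B c e {k} * g := by
  ext v
  rw [LinearEquiv.mul_apply, LinearEquiv.mul_apply, hfr.zJ_apply, hfr.zJ_apply]
  simp only [Finset.sum_singleton, map_sub, map_smul, hgk]
  have : B (g v) (e k) = B v (e k) := by
    conv_lhs => rw [← hgk]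
    exact oG_B Q B hfr.hQp hg v (e k)
  rw [this]

/-- the group induced on `(e k)^⊥` by the stabiliser of the line of `e k`, extended by the identity
on `e k` -/
def Lk (hfr : OFr Q B c e) (M : Subgroup (V ≃ₗ[F] V)) (k : ι) : Subgroup (V ≃ₗ[F] V) where
  carrier := {g | g ∈ oG Q ∧ g (e k) = e k ∧ (g ∈ M ∨ g * zJ B c e {k} ∈ M)}
  one_mem' := ⟨(oG Q).one_mem, rfl, Or.inl M.one_mem⟩
  mul_mem' := by
    rintro g₁ g₂ ⟨h1O, h1k, h1⟩ ⟨h2O, h2k, h2⟩
    refine ⟨(oG Q).mul_mem h1O h2O, by rw [LinearEquiv.mul_apply, h2k, h1k], ?_⟩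
    have hrr := hfr.zJ_mul_self ({k} : Finset ι)
    rcases h1 with h1 | h1 <;> rcases h2 with h2 | h2
    · exact Or.inl (M.mul_mem h1 h2)
    · right
      rw [mul_assoc]
      exact M.mul_mem h1 h2
    · right
      rw [mul_assoc, comm_zk hfr k h2O h2k, ← mul_assoc]
      exact M.mul_mem h1 h2
    · left
      have h3 := M.mul_mem h1 h2
      have : g₁ * zJ B c e {k} * (g₂ * zJ B c e {k}) = g₁ * g₂ := by
        calc g₁ * zJ B c e {k} * (g₂ * zJ B c e {k})
            = g₁ * zJ B c e {k} * (zJ B c e {k} * g₂) := by rw [comm_zk hfr k h2O h2k]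
          _ = g₁ * (zJ B c e {k} * zJ B c e {k}) * g₂ := by group
          _ = g₁ * g₂ := by rw [hrr, mul_one]
      rwa [this] at h3
  inv_mem' := by
    rintro g ⟨hO, hk, h⟩
    have hk' : g⁻¹ (e k) = e k := by
      conv_lhs => rw [← hk]
      exact inv_apply_apply' g (e k)
    refine ⟨(oG Q).inv_mem hO, hk', ?_⟩
    rcases h with h | h
    · exact Or.inl (M.inv_mem h)
    · right
      have h3 := M.inv_mem h
      rw [mul_inv_rev, hfr.zJ_inv, ← comm_zk hfr k ((oG Q).inv_mem hO) hk'] at h3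
      exact h3

theorem caseA [Finite F] [FiniteDimensional F V] (hfr : OFr Q B c e)
    (hn : 7 ≤ Fintype.card ι) (hT : PropT Q B c e) (hMO : M ≤ oG Q) (hmon : HasMon B c e M)
    (k : ι) {g0 : V ≃ₗ[F] V} (hg0M : g0 ∈ M) (hg0k : g0 (e k) = e k ∨ g0 (e k) = -e k)
    (hg0 : ¬ IsMon e g0) :
    ∀ u z, Q u = 0 → B u z = 0 → sieg Q B u z ∈ M := by
  classical
  have hQs := hfr.hQs
  have hQp := hfr.hQp
  obtain ⟨hmul, -, -, -, -, -, -⟩ := Cfsg.Agent.Lib.Helper31_OF_API.API hfr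
  have hrO : zJ B c e {k} ∈ oG Q := hfr.zJ_mem_oG _
  have hrr := hfr.zJ_mul_self ({k} : Finset ι)
  apply afin hfr hn hMO hmon k
  have key := hT k (Lk hfr M k) (fun g hg => hg.1) (fun g hg => hg.2.1) ?_ ?_ ?_
  · intro u z huk hzk hu huz
    -- the square root
    have h2 := hfr.h2
    have huz' : B u ((2 : F)⁻¹ • z) = 0 := by rw [map_smul, huz, smul_zero]
    have hzk' : B ((2 : F)⁻¹ • z) (e k) = 0 := by
      rw [map_smul, LinearMap.smul_apply, hzk, smul_zero]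
    obtain ⟨hsO, hsk, hs⟩ := key u ((2 : F)⁻¹ • z) huk hzk' hu huz'
    have hsq : sieg Q B u ((2 : F)⁻¹ • z) * sieg Q B u ((2 : F)⁻¹ • z) = sieg Q B u z := by
      rw [sieg_mul Q B hQs hQp hu huz' huz', ← add_smul]
      have : (2 : F)⁻¹ + 2⁻¹ = 1 := by field_simp; norm_num
      rw [this, one_smul]
    rw [← hsq]
    rcases hs with hs | hs
    · exact M.mul_mem hs hs
    · have h3 := M.mul_mem hs hs
      rwa [sq_comm (comm_zk hfr k hsO hsk) hrr] at h3
  · -- single sign changes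
    intro i hik
    refine ⟨hfr.zJ_mem_oG _, hfr.zJ_e_not_mem (by simpa using Ne.symm hik), Or.inr ?_⟩
    rw [hmul]
    have : symmDiff ({i} : Finset ι) {k} = {i, k} := by
      ext x
      simp only [Finset.mem_symmDiff, Finset.mem_singleton, Finset.mem_insert]
      constructor
      · rintro (⟨h, -⟩ | ⟨h, -⟩)
        · exact Or.inl h
        · exact Or.inr h
      · rintro (h | h)
        · exact Or.inl ⟨h, fun h' => hik (h ▸ h')⟩
        · exact Or.inr ⟨h, fun h' => hik (h'.symm.trans h)⟩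
    rw [this]
    exact hmon.hz i k hik
  · -- 3-cycles
    intro a b d hak hbk hdk hab had hbd
    obtain ⟨τ, hτM, h1, h2, h3, h4⟩ := hmon.h3 a b d hab had hbd
    exact ⟨τ, ⟨hMO hτM, h4 k (Ne.symm hak) (Ne.symm hbk) (Ne.symm hdk), Or.inl hτM⟩,
      h1, h2, h3, h4⟩
  · -- a non-monomial element
    rcases hg0k with hk | hk
    · exact ⟨g0, ⟨hMO hg0M, hk, Or.inl hg0M⟩, hg0⟩
    · refine ⟨g0 * zJ B c e {k}, ⟨(oG Q).mul_mem (hMO hg0M) hrO, ?_, Or.inr ?_⟩, ?_⟩
      · rw [LinearEquiv.mul_apply, hfr.zJ_e_mem (Finset.mem_singleton_self k), map_neg, hk,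
          neg_neg]
      · rw [mul_assoc, hrr, mul_one]
        exact hg0M
      · intro hmon'
        apply hg0
        have := hmon'.mul (hfr.isMon_zJ {k})
        rwa [mul_assoc, hrr, mul_one] at this

/-! ### the main theorem -/

/-- the main theorem, parametric in the two inputs: case (C) (`hCthm`) and helper98's theorem
(`hT`); only `7 ≤ t` is used otherwise. -/
theorem maximal_frame_orth' [Finite F] [FiniteDimensional F V]
    (hQs : ∀ (a : F) (v : V), Q (a • v) = a * a * Q v)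
    (hQp : ∀ u v : V, Q (u + v) = Q u + Q v + B u v) (h2 : (2 : F) ≠ 0)
    (hG2 : ∀ u z, Q u = 0 → B u z = 0 → sieg Q B u z ∈ ⁅oG Q, oG Q⁆)
    (hG3 : ∀ M : Subgroup (V ≃ₗ[F] V),
      (∀ u z, Q u = 0 → B u z = 0 → sieg Q B u z ∈ M) → ⁅oG Q, oG Q⁆ ≤ M)
    {t : ℕ} (D : Fin t → Submodule F V) (hD : ODec Q B 1 D) (ht : 7 ≤ t)
    (hCthm : ∀ (c : F) (e : Fin t → V) (M : Subgroup (V ≃ₗ[F] V)), CCtx Q B c e M →
      ∀ g ∈ M, IsMon e g)
    (hT : ∀ (c : F) (e : Fin t → V), OFr Q B c e → PropT Q B c e)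
    (S : Subgroup (V ≃ₗ[F] V)) (hS : IsDStab D S) :
    (S ⊓ ⁅oG Q, oG Q⁆ < ⁅oG Q, oG Q⁆) ∧
      ∀ M : Subgroup (V ≃ₗ[F] V), S ⊓ ⁅oG Q, oG Q⁆ ≤ M → M ≤ ⁅oG Q, oG Q⁆ →
        M = S ⊓ ⁅oG Q, oG Q⁆ ∨ M = ⁅oG Q, oG Q⁆ := by
  classical
  have hGO : ⁅oG Q, oG Q⁆ ≤ oG Q := Subgroup.commutator_le_self _
  obtain ⟨c, e, hfr, hDe⟩ := Cfsg.Agent.Lib.Helper79_OF_FRAME.FRAME hQs hQp h2 D hD (by omega)
  have hcard : Fintype.card (Fin t) = t := Fintype.card_fin t
  have hmS : ∀ g ∈ oG Q, (g ∈ S ↔ IsMon e g) := fun g hg => Cfsg.Agent.Lib.Helper12_OF_MONSTAB.MONSTAB hfr hDe hS hg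
  obtain ⟨hz, h3⟩ := Cfsg.Agent.Lib.Helper44_OF_HELEMS.HELEMS hfr
  -- the monomial group contains the double sign changes and the 3-cycles
  have hmonH : HasMon B c e (S ⊓ ⁅oG Q, oG Q⁆) := by
    constructor
    · intro k l hkl
      exact ⟨(hmS _ (hGO (hz k l hkl))).mpr (hfr.isMon_zJ _), hz k l hkl⟩
    · intro a b d hab had hbd
      obtain ⟨τ, hτ, h1, h2', h3', h4⟩ := h3 a b d hab had hbd
      refine ⟨τ, ⟨(hmS τ (hGO hτ)).mpr ?_, hτ⟩, h1, h2', h3', h4⟩
      intro i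
      by_cases hia : i = a
      · exact ⟨b, Or.inl (by rw [hia, h1])⟩
      by_cases hib : i = b
      · exact ⟨d, Or.inl (by rw [hib, h2'])⟩
      by_cases hid : i = d
      · exact ⟨a, Or.inl (by rw [hid, h3'])⟩
      · exact ⟨i, Or.inl (h4 i hia hib hid)⟩
  constructor
  · refine lt_of_le_of_ne inf_le_right ?_
    intro heq
    obtain ⟨g, hgG, hg⟩ := Cfsg.Agent.Lib.Helper44_OF_STRICT.STRICT hfr (by rw [hcard]; omega) hG2
    have : g ∈ S ⊓ ⁅oG Q, oG Q⁆ := by rw [heq]; exact hgG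
    exact hg ((hmS g (hGO hgG)).mp this.1)
  · intro M hHM hMG
    have hMO : M ≤ oG Q := hMG.trans hGO
    have hmonM : HasMon B c e M :=
      ⟨fun k l hkl => hHM (hmonH.hz k l hkl), fun a b d hab had hbd => by
        obtain ⟨τ, hτ, h⟩ := hmonH.h3 a b d hab had hbd
        exact ⟨τ, hHM hτ, h⟩⟩
    by_cases hCk : ∀ g ∈ M, ∀ k, (g (e k) = e k ∨ g (e k) = -e k) → IsMon e g
    · left
      apply le_antisymm _ hHM
      intro g hg
      have := hCthm c e M ⟨hfr, hMO, hmonM, hCk⟩ g hg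
      exact ⟨(hmS g (hMO hg)).mpr this, hMG hg⟩
    · right
      push Not at hCk
      obtain ⟨g0, hg0M, k, hg0k, hg0⟩ := hCk
      apply le_antisymm hMG
      apply hG3
      exact caseA hfr (by rw [hcard]; omega) (hT c e hfr) hMO hmonM k hg0M hg0k hg0

/-- the main theorem for `t ≥ 13` (case (C) from the OF market) -/
theorem maximal_frame_orth [Finite F] [FiniteDimensional F V]
    (hQs : ∀ (a : F) (v : V), Q (a • v) = a * a * Q v)
    (hQp : ∀ u v : V, Q (u + v) = Q u + Q v + B u v) (h2 : (2 : F) ≠ 0)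
    (hG2 : ∀ u z, Q u = 0 → B u z = 0 → sieg Q B u z ∈ ⁅oG Q, oG Q⁆)
    (hG3 : ∀ M : Subgroup (V ≃ₗ[F] V),
      (∀ u z, Q u = 0 → B u z = 0 → sieg Q B u z ∈ M) → ⁅oG Q, oG Q⁆ ≤ M)
    {t : ℕ} (D : Fin t → Submodule F V) (hD : ODec Q B 1 D) (ht : 13 ≤ t)
    (hT : ∀ (c : F) (e : Fin t → V), OFr Q B c e → PropT Q B c e)
    (S : Subgroup (V ≃ₗ[F] V)) (hS : IsDStab D S) :
    (S ⊓ ⁅oG Q, oG Q⁆ < ⁅oG Q, oG Q⁆) ∧
      ∀ M : Subgroup (V ≃ₗ[F] V), S ⊓ ⁅oG Q, oG Q⁆ ≤ M → M ≤ ⁅oG Q, oG Q⁆ →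
        M = S ⊓ ⁅oG Q, oG Q⁆ ∨ M = ⁅oG Q, oG Q⁆ :=
  maximal_frame_orth' hQs hQp h2 hG2 hG3 D hD (by omega)
    (fun c e M hC => caseC hC (by rw [Fintype.card_fin]; exact ht)) hT S hS

end Cfsg.Agent.Lib.Helper32_OFMain
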