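import Mathlib
import Cfsg.Prelude.Def_GeometricClasses
import Cfsg.Agent.Lib.Helper94_Bridge
import Cfsg.Agent.Lib.Helper94_SLBridge
import Cfsg.Agent.Lib.Helper94_OrthFinal
import Cfsg.Agent.Lib.Helper29_OmegaMaxMain
import Cfsg.Agent.Lib.Helper32_OFMain

set_option autoImplicit false
set_option linter.unusedSimpArgs false
set_option linter.unusedVariables false
set_option linter.unusedSectionVars false

/-!
Bridge from the abstract maximality of the stabiliser of an orthogonal frame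
(`Helper32_OFMain.maximal_frame_orth`) to the vocabulary of the prelude (rows S5679, S5696).
-/

namespace Cfsg.Agent.Lib.Helper32_OFBridge

open Cfsg Cfsg.Agent.Lib.Helper94_Symp Cfsg.Agent.Lib.Helper94_Bridge
  Cfsg.Agent.Lib.Helper94_SLBridge
  Cfsg.Agent.Lib.Helper94_OrthSmall Cfsg.Agent.Lib.Helper94_OrthBridge
  Cfsg.Agent.Lib.Helper94_OrthSiegel Cfsg.Agent.Lib.Helper94_OrthSiegel2
  Cfsg.Agent.Lib.Helper94_OrthGenBridge Cfsg.Agent.Lib.Helper94_OrthFinal
  Cfsg.Agent.Lib.Helper29_ODDefs Cfsg.Agent.Lib.Helper32_OFDefs Cfsg.Agent.Lib.Helper32_OFMain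

/-- parametric form: case (C) (`hCthm`) and helper98's theorem (`hT`) as hypotheses, `7 ≤ card ι` -/
theorem frame_maximal' {ι : Type} [Fintype ι] [DecidableEq ι] {F : Type*} [Field F] [Fintype F]
    (Q : (ι → F) → F) (hQ : Cfsg.Geo.IsNondegenerateQuadraticForm Q) (h2 : (2 : F) ≠ 0)
    (hcard : 7 ≤ Fintype.card ι)
    (hCthm : ∀ (c : F) (e : Fin (Fintype.card ι) → (ι → F))
      (M : Subgroup ((ι → F) ≃ₗ[F] (ι → F))), CCtx Q (polarForm Q hQ) c e M → ∀ g ∈ M, IsMon e g)
    (hT : ∀ (c : F) (e : Fin (Fintype.card ι) → (ι → F)), OFr Q (polarForm Q hQ) c e →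
      PropT Q (polarForm Q hQ) c e)
    {t : ℕ} (D : Fin t → Submodule F (ι → F))
    (hD : Cfsg.Geo.IsOrthogonalMDecomposition Q 1 D) :
    Cfsg.Geo.IsMaximalIn (Cfsg.Geo.omegaGL Q)
      (Cfsg.Geo.decompositionStabilizer D ⊓ Cfsg.Geo.omegaGL Q) := by
  classical
  have hfrV : Module.finrank F (ι → F) = Fintype.card ι := Module.finrank_pi F
  have htk : t * 1 = Fintype.card ι :=
    Cfsg.Agent.Lib.Helper29_OmegaMaxMain.decomp_card hD.decomp.decomp
  obtain rfl : t = Fintype.card ι := by omega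
  let S : Subgroup ((ι → F) ≃ₗ[F] (ι → F)) :=
    (Cfsg.Geo.decompositionStabilizer D).comap (glEquiv ι F).symm.toMonoidHom
  have hSeq : Cfsg.Geo.decompositionStabilizer D = S.comap (glEquiv ι F).toMonoidHom :=
    (comap_symm_comap (glEquiv ι F) _).symm
  rw [hSeq, omegaGL_eq, ← Subgroup.comap_inf]
  apply isMaximalIn_comap
  have hQs := gen_hQs Q hQ
  have hQp := gen_hQp Q hQ
  have hN := gen_hN Q hQ
  apply maximal_frame_orth' hQs hQp h2
    (fun u z hu huz => sieg_mem_commutator' Q _ hQs hQp hN (by rw [hfrV]; omega) hu huz)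
    (gen_hG3 Q hQ (fun h => absurd h h2) (by omega))
    D ?_ hcard hCthm hT S ?_
  · -- ODec
    refine ⟨hD.decomp.decomp.finrank_eq, hD.decomp.decomp.iSup_eq_top, ?_, ?_, hD.isometric⟩
    · intro i a ha ha0
      obtain ⟨x, hx, hxa⟩ := (hD.decomp.nondegenerate i a ha ha0).1
      exact ⟨x, hx, by rw [polarForm_apply]; exact hxa⟩
    · intro i j hij u hu v hv
      rw [polarForm_apply]
      exact hD.decomp.orthogonal i j hij u hu v hv
  · -- IsDStab
    intro g
    have key : Matrix.toLin' (((glEquiv ι F).symm g : Matrix.GeneralLinearGroup ι F) :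
        Matrix ι ι F) = (g : (ι → F) →ₗ[F] (ι → F)) := by
      refine LinearMap.ext fun x => ?_
      rw [Matrix.toLin'_apply, ← glEquiv_apply, MulEquiv.apply_symm_apply]
      rfl
    constructor
    · rintro ⟨σ, hσ⟩
      refine ⟨σ, fun i => ?_⟩
      have := hσ i
      simp only [MulEquiv.toMonoidHom_eq_coe, MonoidHom.coe_coe] at this
      rw [key] at this
      exact this
    · rintro ⟨σ, hσ⟩
      refine ⟨σ, fun i => ?_⟩
      simp only [MulEquiv.toMonoidHom_eq_coe, MonoidHom.coe_coe]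
      rw [key]
      exact hσ i

/-- the case `13 ≤ card ι` -/
theorem frame_maximal {ι : Type} [Fintype ι] [DecidableEq ι] {F : Type*} [Field F] [Fintype F]
    (Q : (ι → F) → F) (hQ : Cfsg.Geo.IsNondegenerateQuadraticForm Q) (h2 : (2 : F) ≠ 0)
    (hcard : 13 ≤ Fintype.card ι)
    (hT : ∀ {t : ℕ} (c : F) (e : Fin t → (ι → F)), 13 ≤ t → OFr Q (polarForm Q hQ) c e →
      PropT Q (polarForm Q hQ) c e)
    {t : ℕ} (D : Fin t → Submodule F (ι → F))
    (hD : Cfsg.Geo.IsOrthogonalMDecomposition Q 1 D) :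
    Cfsg.Geo.IsMaximalIn (Cfsg.Geo.omegaGL Q)
      (Cfsg.Geo.decompositionStabilizer D ⊓ Cfsg.Geo.omegaGL Q) :=
  frame_maximal' Q hQ h2 (by omega)
    (fun c e M hC => caseC hC (by rw [Fintype.card_fin]; exact hcard))
    (fun c e hfr => hT c e hcard hfr) D hD

end Cfsg.Agent.Lib.Helper32_OFBridge
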