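import Mathlib
import Cfsg.Agent.Lib.Helper32_OFMain

set_option autoImplicit false
set_option linter.unusedSimpArgs false
set_option linter.unusedVariables false
set_option linter.unusedSectionVars false

/-!
Transfer for the orthogonal frames rows: a theorem on the overgroups of the monomial group of a
full frame (absolute form `PropTabs`) gives the relative form `PropT` (hyperplane `(e k)^⊥` of a
space with a frame) used by `Helper32_OFMain`.
-/

namespace Cfsg.Agent.Lib.Helper32_OFTransfer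

open Module Cfsg.Agent.Lib.Helper94_Symp Cfsg.Agent.Lib.Helper94_OrthSmall
  Cfsg.Agent.Lib.Helper94_OrthSiegel Cfsg.Agent.Lib.Helper32_OFDefs Cfsg.Agent.Lib.Helper32_OFMain

universe u

/-- the theorem on overgroups of the monomial group, absolute form, for frames of `n` vectors -/
def PropTabs (F : Type*) [Field F] (n : ℕ) : Prop :=
  ∀ (W : Type u) [AddCommGroup W] [Module F W] (κ : Type) [Fintype κ] [DecidableEq κ]
    (Q' : W → F) (B' : LinearMap.BilinForm F W) (c : F) (e' : κ → W), OFr Q' B' c e' →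
    Fintype.card κ = n →
    ∀ L' : Subgroup (W ≃ₗ[F] W), L' ≤ oG Q' → (∀ i, zJ B' c e' {i} ∈ L') →
      (∀ a b d : κ, a ≠ b → a ≠ d → b ≠ d → ∃ τ ∈ L', τ (e' a) = e' b ∧ τ (e' b) = e' d ∧
        τ (e' d) = e' a ∧ ∀ i, i ≠ a → i ≠ b → i ≠ d → τ (e' i) = e' i) →
      (∃ g ∈ L', ¬ IsMon e' g) →
      ∀ u z, Q' u = 0 → B' u z = 0 → sieg Q' B' u z ∈ L'

variable {F : Type*} {V : Type u} [Field F] [AddCommGroup V] [Module F V]
variable {Q : V → F} {B : LinearMap.BilinForm F V}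
variable {ι : Type} [Fintype ι] [DecidableEq ι] {c : F} {e : ι → V}

/-- the hyperplane `(e k)^⊥` -/
def Wk (B : LinearMap.BilinForm F V) (e : ι → V) (k : ι) : Submodule F V :=
  LinearMap.ker (B.flip (e k))

lemma mem_Wk {k : ι} {x : V} : x ∈ Wk B e k ↔ B x (e k) = 0 := by
  simp [Wk, LinearMap.mem_ker]

/-- the restricted quadratic map -/
def Qk (Q : V → F) (B : LinearMap.BilinForm F V) (e : ι → V) (k : ι) : Wk B e k → F :=
  fun w => Q (w : V)

/-- the restricted bilinear form -/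
def Bk (B : LinearMap.BilinForm F V) (e : ι → V) (k : ι) : LinearMap.BilinForm F (Wk B e k) :=
  B.restrict (Wk B e k)

lemma Bk_apply (k : ι) (x y : Wk B e k) : Bk B e k x y = B (x : V) (y : V) := rfl

/-- the frame of the hyperplane -/
def ek (hfr : OFr Q B c e) (k : ι) : {i : ι // i ≠ k} → Wk B e k :=
  fun i => ⟨e i.1, mem_Wk.mpr (hfr.orth i.1 k i.2)⟩

lemma ek_coe (hfr : OFr Q B c e) (k : ι) (i : {i : ι // i ≠ k}) : ((ek hfr k i : Wk B e k) : V) = e i.1 :=
  rfl

lemma ofr_k (hfr : OFr Q B c e) (k : ι) : OFr (Qk Q B e k) (Bk B e k) c (ek hfr k) where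
  hQs := fun a v => hfr.hQs a v
  hQp := fun u v => hfr.hQp u v
  h2 := hfr.h2
  c0 := hfr.c0
  Qe := fun i => hfr.Qe i.1
  orth := fun i j hij => hfr.orth i.1 j.1 (fun h => hij (Subtype.ext h))
  exp := by
    intro v
    apply Subtype.ext
    have h1 := hfr.exp (v : V)
    have hk : B (v : V) (e k) = 0 := mem_Wk.mp v.2
    rw [Submodule.coe_sum]
    simp only [Submodule.coe_smul, ek_coe, Bk_apply]
    have h2 : ∑ i, ((2 * c)⁻¹ * B (v : V) (e i)) • e i =
        ∑ i : {i : ι // i ≠ k}, ((2 * c)⁻¹ * B (v : V) (e i.1)) • e i.1 := by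
      rw [Fintype.sum_eq_add_sum_subtype_ne (fun i => ((2 * c)⁻¹ * B (v : V) (e i)) • e i) k,
        hk, mul_zero, zero_smul, zero_add]
    rw [← h2]
    exact h1

/-- an isometry fixing `e k` stabilises the hyperplane -/
lemma map_Wk (hfr : OFr Q B c e) (k : ι) {g : V ≃ₗ[F] V} (hg : g ∈ oG Q)
    (hgk : g (e k) = e k) : (Wk B e k).map (g : V →ₗ[F] V) = Wk B e k := by
  ext x
  rw [Submodule.mem_map, mem_Wk]
  constructor
  · rintro ⟨y, hy, rfl⟩
    have : B (g y) (e k) = B y (e k) := by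
      conv_lhs => rw [← hgk]
      exact oG_B Q B hfr.hQp hg y (e k)
    rw [LinearEquiv.coe_coe, this]
    exact mem_Wk.mp hy
  · intro hx
    refine ⟨g⁻¹ x, mem_Wk.mpr ?_, apply_inv_apply' g x⟩
    have : B (g⁻¹ x) (e k) = B x (e k) := by
      have h1 := oG_B Q B hfr.hQp hg (g⁻¹ x) (e k)
      rw [apply_inv_apply', hgk] at h1
      exact h1.symm
    rw [this, hx]

/-- the restriction to the hyperplane of an isometry fixing `e k` -/
noncomputable def resK (hfr : OFr Q B c e) (k : ι) (g : V ≃ₗ[F] V) (hg : g ∈ oG Q)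
    (hgk : g (e k) = e k) : Wk B e k ≃ₗ[F] Wk B e k :=
  LinearEquiv.ofSubmodules g (Wk B e k) (Wk B e k) (map_Wk hfr k hg hgk)

lemma resK_coe (hfr : OFr Q B c e) (k : ι) (g : V ≃ₗ[F] V) (hg : g ∈ oG Q)
    (hgk : g (e k) = e k) (w : Wk B e k) : ((resK hfr k g hg hgk w : Wk B e k) : V) = g w :=
  rfl

/-- the group induced on the hyperplane -/
def resL (B : LinearMap.BilinForm F V) (e : ι → V) (k : ι) (L : Subgroup (V ≃ₗ[F] V)) :
    Subgroup (Wk B e k ≃ₗ[F] Wk B e k) where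
  carrier := {φ | ∃ g ∈ L, ∀ w : Wk B e k, ((φ w : Wk B e k) : V) = g w}
  one_mem' := ⟨1, L.one_mem, fun w => rfl⟩
  mul_mem' := by
    rintro a b ⟨g, hg, hga⟩ ⟨h, hh, hhb⟩
    refine ⟨g * h, L.mul_mem hg hh, fun w => ?_⟩
    rw [LinearEquiv.mul_apply, LinearEquiv.mul_apply, hga, hhb]
  inv_mem' := by
    rintro a ⟨g, hg, hga⟩
    refine ⟨g⁻¹, L.inv_mem hg, fun w => ?_⟩
    have h1 := hga (a⁻¹ w)
    rw [apply_inv_apply'] at h1
    rw [h1, inv_apply_apply']

theorem propT_of_abs (hfr : OFr Q B c e) {n : ℕ} (hT : PropTabs.{u} F n)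
    (hcard : Fintype.card ι = n + 1) : PropT Q B c e := by
  classical
  intro k L hLO hLk hsign h3 hnm u z huk hzk hu huz
  have hfr' := ofr_k hfr k
  have hc' : Fintype.card {i : ι // i ≠ k} = n := by
    rw [Fintype.card_subtype_compl, Fintype.card_subtype_eq, hcard]
    omega
  have key := hT (Wk B e k) {i : ι // i ≠ k} (Qk Q B e k) (Bk B e k) c (ek hfr k) hfr' hc'
    (resL B e k L) ?_ ?_ ?_ ?_ ⟨u, mem_Wk.mpr huk⟩ ⟨z, mem_Wk.mpr hzk⟩ hu huz
  · -- back to `V`
    obtain ⟨g, hgL, hg⟩ := key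
    have : g = sieg Q B u z := by
      apply hfr.equiv_ext
      intro i
      by_cases hik : i = k
      · rw [hik, hLk g hgL, sieg_apply Q B hfr.hQs hfr.hQp hu huz, hfr.symm (e k) u, huk,
          hfr.symm (e k) z, hzk]
        simp
      · have h1 := hg (ek hfr k ⟨i, hik⟩)
        rw [ek_coe] at h1
        have hu' : Qk Q B e k (⟨u, mem_Wk.mpr huk⟩ : Wk B e k) = 0 := hu
        have huz' : Bk B e k (⟨u, mem_Wk.mpr huk⟩ : Wk B e k) ⟨z, mem_Wk.mpr hzk⟩ = 0 := huz
        rw [← h1, sieg_apply (Qk Q B e k) (Bk B e k) hfr'.hQs hfr'.hQp hu' huz',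
          sieg_apply Q B hfr.hQs hfr.hQp hu huz]
        simp only [Submodule.coe_add, Submodule.coe_sub, Submodule.coe_smul, Bk_apply, ek_coe]
        rfl
    rw [← this]
    exact hgL
  · -- isometries
    rintro φ ⟨g, hgL, hg⟩ w
    show Q ((φ w : Wk B e k) : V) = Q (w : V)
    rw [hg, hLO hgL]
  · -- sign changes
    intro i
    refine ⟨zJ B c e {i.1}, hsign i.1 i.2, fun w => ?_⟩
    rw [hfr'.zJ_apply, hfr.zJ_apply]
    simp only [Finset.sum_singleton, Submodule.coe_sub, Submodule.coe_smul, Bk_apply, ek_coe]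
  · -- 3-cycles
    intro a b d hab had hbd
    obtain ⟨τ, hτL, h1, h2, h3', h4⟩ := h3 a.1 b.1 d.1 a.2 b.2 d.2
      (fun h => hab (Subtype.ext h)) (fun h => had (Subtype.ext h)) (fun h => hbd (Subtype.ext h))
    refine ⟨resK hfr k τ (hLO hτL) (hLk τ hτL), ⟨τ, hτL, fun w => rfl⟩, ?_, ?_, ?_, ?_⟩
    · apply Subtype.ext; rw [resK_coe, ek_coe, ek_coe, h1]
    · apply Subtype.ext; rw [resK_coe, ek_coe, ek_coe, h2]
    · apply Subtype.ext; rw [resK_coe, ek_coe, ek_coe, h3']
    · intro i hia hib hid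
      apply Subtype.ext
      rw [resK_coe, ek_coe]
      exact h4 i.1 (fun h => hia (Subtype.ext h)) (fun h => hib (Subtype.ext h))
        (fun h => hid (Subtype.ext h))
  · -- a non-monomial element
    obtain ⟨g, hgL, hg⟩ := hnm
    refine ⟨resK hfr k g (hLO hgL) (hLk g hgL), ⟨g, hgL, fun w => rfl⟩, ?_⟩
    intro hmon
    apply hg
    intro i
    by_cases hik : i = k
    · exact ⟨k, Or.inl (by rw [hik, hLk g hgL])⟩
    · obtain ⟨j, hj⟩ := hmon ⟨i, hik⟩
      refine ⟨j.1, ?_⟩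
      rcases hj with hj | hj
      · left
        have := congrArg (fun w : Wk B e k => (w : V)) hj
        simpa [resK_coe, ek_coe] using this
      · right
        have := congrArg (fun w : Wk B e k => (w : V)) hj
        simpa [resK_coe, ek_coe] using this

end Cfsg.Agent.Lib.Helper32_OFTransfer
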