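import Mathlib
import Cfsg.Agent.Lib.Helper32_OFBridge
import Cfsg.Agent.Lib.Helper32_OFTransfer

set_option autoImplicit false
set_option linter.unusedSimpArgs false
set_option linter.unusedVariables false
set_option linter.unusedSectionVars false

/-!
Orthogonal frames in ODD dimension `t` (rows S5813, S5834, ... : conjunct "decomposition into `t`
pairwise orthogonal isometric nondegenerate lines", `q = p` prime).

If `t` is odd then `-1 = z_[t]` is an odd sign change, so for every group `M` containing the even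
sign changes the group `M × ⟨-1⟩` contains ALL sign changes.  helper98's theorem `T(t)` (absolute
form `PropTabs F t`, on the whole space) applied to `M × ⟨-1⟩` shows: if `M` contains the double
sign changes, the 3-cycles and a non-monomial element, then every Siegel element lies in
`M × ⟨-1⟩`, and its square (again an arbitrary Siegel element) lies in `M`.  No case (C) is needed.
-/

namespace Cfsg.Agent.Lib.Helper32_OFOdd

open Module Cfsg.Agent.Lib.Helper94_Symp Cfsg.Agent.Lib.Helper94_OrthSmall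
  Cfsg.Agent.Lib.Helper94_OrthSiegel Cfsg.Agent.Lib.Helper94_OrthSiegel2
  Cfsg.Agent.Lib.Helper94_OrthNondeg Cfsg.Agent.Lib.Helper94_OrthVec
  Cfsg.Agent.Lib.Helper29_ODDefs Cfsg.Agent.Lib.Helper32_OFDefs Cfsg.Agent.Lib.Helper32_OFMain
  Cfsg.Agent.Lib.Helper32_OFTransfer

universe u uF

variable {F : Type uF} {V : Type u} [Field F] [AddCommGroup V] [Module F V]
variable {Q : V → F} {B : LinearMap.BilinForm F V}
variable {ι : Type} [Fintype ι] [DecidableEq ι] {c : F} {e : ι → V}
variable {M : Subgroup (V ≃ₗ[F] V)}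

/-- `-1` as a linear equivalence -/
def negE : V ≃ₗ[F] V := LinearEquiv.neg F

lemma negE_apply (v : V) : (negE : V ≃ₗ[F] V) v = -v := rfl

lemma negE_comm (g : V ≃ₗ[F] V) : g * negE = negE * g := by
  ext v
  rw [LinearEquiv.mul_apply, LinearEquiv.mul_apply, negE_apply, negE_apply, map_neg]

lemma negE_sq : (negE : V ≃ₗ[F] V) * negE = 1 := by
  ext v
  rw [LinearEquiv.mul_apply, negE_apply, negE_apply, neg_neg]
  rfl

lemma negE_mem_oG (hQs : ∀ (a : F) (v : V), Q (a • v) = a * a * Q v) :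
    (negE : V ≃ₗ[F] V) ∈ oG Q := by
  intro v
  rw [negE_apply]
  have := hQs (-1) v
  rw [neg_one_smul] at this
  rw [this]
  ring

/-- `M × ⟨-1⟩` -/
def Lneg (M : Subgroup (V ≃ₗ[F] V)) : Subgroup (V ≃ₗ[F] V) where
  carrier := {g | g ∈ M ∨ g * negE ∈ M}
  one_mem' := Or.inl M.one_mem
  mul_mem' := by
    rintro g₁ g₂ h1 h2
    rcases h1 with h1 | h1 <;> rcases h2 with h2 | h2
    · exact Or.inl (M.mul_mem h1 h2)
    · right
      rw [mul_assoc]
      exact M.mul_mem h1 h2
    · right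
      rw [mul_assoc, negE_comm g₂, ← mul_assoc]
      exact M.mul_mem h1 h2
    · left
      have h3 := M.mul_mem h1 h2
      have : g₁ * negE * (g₂ * negE) = g₁ * g₂ := by
        calc g₁ * negE * (g₂ * negE) = g₁ * negE * (negE * g₂) := by rw [negE_comm g₂]
          _ = g₁ * (negE * negE) * g₂ := by group
          _ = g₁ * g₂ := by rw [negE_sq, mul_one]
      rwa [this] at h3
  inv_mem' := by
    rintro g h
    rcases h with h | h
    · exact Or.inl (M.inv_mem h)
    · right
      have h3 := M.inv_mem h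
      have hinv : (negE : V ≃ₗ[F] V)⁻¹ = negE := inv_eq_of_mul_eq_one_right negE_sq
      rw [mul_inv_rev, hinv, ← negE_comm] at h3
      exact h3

/-- the full sign change is `-1` -/
lemma zJ_univ (hfr : OFr Q B c e) : zJ B c e (Finset.univ : Finset ι) = negE := by
  apply hfr.equiv_ext
  intro i
  rw [hfr.zJ_e_mem (Finset.mem_univ i), negE_apply]

/-- the even sign changes are products of double sign changes -/
lemma zJ_mem_even (hfr : OFr Q B c e) (hz : ∀ k l : ι, k ≠ l → zJ B c e {k, l} ∈ M) :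
    ∀ (m : ℕ) (J : Finset ι), J.card = 2 * m → zJ B c e J ∈ M := by
  obtain ⟨hmul, -, -, -, -, -, -⟩ := Cfsg.Agent.Lib.Helper31_OF_API.API hfr
  intro m
  induction m with
  | zero =>
    intro J hJ
    have : J = ∅ := Finset.card_eq_zero.mp (by omega)
    subst this
    rw [hfr.zJ_empty]
    exact M.one_mem
  | succ m ih =>
    intro J hJ
    obtain ⟨k, hk⟩ : J.Nonempty := Finset.card_pos.mp (by omega)
    obtain ⟨l, hl⟩ : (J.erase k).Nonempty :=
      Finset.card_pos.mp (by rw [Finset.card_erase_of_mem hk]; omega)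
    have hlk : l ≠ k := Finset.ne_of_mem_erase hl
    have hlJ : l ∈ J := Finset.mem_of_mem_erase hl
    have hJ' : ((J.erase k).erase l).card = 2 * m := by
      rw [Finset.card_erase_of_mem hl, Finset.card_erase_of_mem hk]; omega
    have hsd : symmDiff ({k, l} : Finset ι) ((J.erase k).erase l) = J := by
      ext x
      simp only [Finset.mem_symmDiff, Finset.mem_insert, Finset.mem_singleton, Finset.mem_erase]
      constructor
      · rintro (⟨h | h, -⟩ | ⟨⟨-, -, h⟩, -⟩)
        · rw [h]; exact hk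
        · rw [h]; exact hlJ
        · exact h
      · intro hx
        by_cases hxk : x = k
        · exact Or.inl ⟨Or.inl hxk, fun h => h.2.1 hxk⟩
        by_cases hxl : x = l
        · exact Or.inl ⟨Or.inr hxl, fun h => h.1 hxl⟩
        · exact Or.inr ⟨⟨hxl, hxk, hx⟩, fun h => h.elim hxk hxl⟩
    rw [← hsd, ← hmul]
    exact M.mul_mem (hz k l hlk.symm) (ih _ hJ')

/-- in odd dimension, a group of isometries containing the double sign changes, the 3-cycles and a
non-monomial element contains all Siegel elements -/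
theorem all_sieg_of_odd (hfr : OFr Q B c e) (hodd : Odd (Fintype.card ι))
    (hT : PropTabs.{u} F (Fintype.card ι)) (hMO : M ≤ oG Q) (hmon : HasMon B c e M)
    {g0 : V ≃ₗ[F] V} (hg0M : g0 ∈ M) (hg0 : ¬ IsMon e g0) :
    ∀ u z, Q u = 0 → B u z = 0 → sieg Q B u z ∈ M := by
  classical
  have hQs := hfr.hQs
  have hQp := hfr.hQp
  obtain ⟨hmul, -, -, -, -, -, -⟩ := Cfsg.Agent.Lib.Helper31_OF_API.API hfr
  have key := hT V ι Q B c e hfr rfl (Lneg M) ?_ ?_ ?_ ⟨g0, Or.inl hg0M, hg0⟩
  · intro u z hu huz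
    have h2 := hfr.h2
    have huz' : B u ((2 : F)⁻¹ • z) = 0 := by rw [map_smul, huz, smul_zero]
    have hs := key u ((2 : F)⁻¹ • z) hu huz'
    have hsq : sieg Q B u ((2 : F)⁻¹ • z) * sieg Q B u ((2 : F)⁻¹ • z) = sieg Q B u z := by
      rw [sieg_mul Q B hQs hQp hu huz' huz', ← add_smul]
      have : (2 : F)⁻¹ + 2⁻¹ = 1 := by field_simp; norm_num
      rw [this, one_smul]
    rw [← hsq]
    rcases hs with hs | hs
    · exact M.mul_mem hs hs
    · have h3 := M.mul_mem hs hs
      rwa [sq_comm (negE_comm _) negE_sq] at h3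
  · -- isometries
    intro g hg
    rcases hg with hg | hg
    · exact hMO hg
    · have h1 := (oG Q).mul_mem (hMO hg) (negE_mem_oG hQs)
      rwa [mul_assoc, negE_sq, mul_one] at h1
  · -- single sign changes
    intro i
    right
    rw [← zJ_univ hfr, hmul]
    obtain ⟨m, hm⟩ := hodd
    apply zJ_mem_even hfr hmon.hz m
    have h1 : symmDiff ({i} : Finset ι) Finset.univ = Finset.univ.erase i := by
      ext x
      simp only [Finset.mem_symmDiff, Finset.mem_singleton, Finset.mem_univ, not_true_eq_false,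
        and_false, true_and, false_or, Finset.mem_erase, and_true]
    rw [h1, Finset.card_erase_of_mem (Finset.mem_univ i), Finset.card_univ, hm]
    omega
  · -- 3-cycles
    intro a b d hab had hbd
    obtain ⟨τ, hτM, h⟩ := hmon.h3 a b d hab had hbd
    exact ⟨τ, Or.inl hτM, h⟩

/-- the main theorem in odd dimension: only helper98's theorem `T(t)` on the whole space is used -/
theorem maximal_frame_orth_odd [Finite F] [FiniteDimensional F V]
    (hQs : ∀ (a : F) (v : V), Q (a • v) = a * a * Q v)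
    (hQp : ∀ u v : V, Q (u + v) = Q u + Q v + B u v) (h2 : (2 : F) ≠ 0)
    (hG2 : ∀ u z, Q u = 0 → B u z = 0 → sieg Q B u z ∈ ⁅oG Q, oG Q⁆)
    (hG3 : ∀ M : Subgroup (V ≃ₗ[F] V),
      (∀ u z, Q u = 0 → B u z = 0 → sieg Q B u z ∈ M) → ⁅oG Q, oG Q⁆ ≤ M)
    {t : ℕ} (D : Fin t → Submodule F V) (hD : ODec Q B 1 D) (ht : 4 ≤ t) (hodd : Odd t)
    (hT : PropTabs.{u} F t)
    (S : Subgroup (V ≃ₗ[F] V)) (hS : IsDStab D S) :
    (S ⊓ ⁅oG Q, oG Q⁆ < ⁅oG Q, oG Q⁆) ∧
      ∀ M : Subgroup (V ≃ₗ[F] V), S ⊓ ⁅oG Q, oG Q⁆ ≤ M → M ≤ ⁅oG Q, oG Q⁆ →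
        M = S ⊓ ⁅oG Q, oG Q⁆ ∨ M = ⁅oG Q, oG Q⁆ := by
  classical
  have hGO : ⁅oG Q, oG Q⁆ ≤ oG Q := Subgroup.commutator_le_self _
  obtain ⟨c, e, hfr, hDe⟩ := Cfsg.Agent.Lib.Helper79_OF_FRAME.FRAME hQs hQp h2 D hD (by omega)
  have hcard : Fintype.card (Fin t) = t := Fintype.card_fin t
  have hmS : ∀ g ∈ oG Q, (g ∈ S ↔ IsMon e g) := fun g hg =>
    Cfsg.Agent.Lib.Helper12_OF_MONSTAB.MONSTAB hfr hDe hS hg
  obtain ⟨hz, h3⟩ := Cfsg.Agent.Lib.Helper44_OF_HELEMS.HELEMS hfr
  have hmonH : HasMon B c e (S ⊓ ⁅oG Q, oG Q⁆) := by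
    constructor
    · intro k l hkl
      exact ⟨(hmS _ (hGO (hz k l hkl))).mpr (hfr.isMon_zJ _), hz k l hkl⟩
    · intro a b d hab had hbd
      obtain ⟨τ, hτ, h1, h2', h3', h4⟩ := h3 a b d hab had hbd
      refine ⟨τ, ⟨(hmS τ (hGO hτ)).mpr ?_, hτ⟩, h1, h2', h3', h4⟩
      intro i
      by_cases hia : i = a
      · exact ⟨b, Or.inl (by rw [hia, h1])⟩
      by_cases hib : i = b
      · exact ⟨d, Or.inl (by rw [hib, h2'])⟩
      by_cases hid : i = d
      · exact ⟨a, Or.inl (by rw [hid, h3'])⟩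
      · exact ⟨i, Or.inl (h4 i hia hib hid)⟩
  constructor
  · refine lt_of_le_of_ne inf_le_right ?_
    intro heq
    obtain ⟨g, hgG, hg⟩ := Cfsg.Agent.Lib.Helper44_OF_STRICT.STRICT hfr (by rw [hcard]; omega) hG2
    have : g ∈ S ⊓ ⁅oG Q, oG Q⁆ := by rw [heq]; exact hgG
    exact hg ((hmS g (hGO hgG)).mp this.1)
  · intro M hHM hMG
    have hMO : M ≤ oG Q := hMG.trans hGO
    have hmonM : HasMon B c e M :=
      ⟨fun k l hkl => hHM (hmonH.hz k l hkl), fun a b d hab had hbd => by
        obtain ⟨τ, hτ, h⟩ := hmonH.h3 a b d hab had hbd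
        exact ⟨τ, hHM hτ, h⟩⟩
    by_cases hall : ∀ g ∈ M, IsMon e g
    · left
      apply le_antisymm _ hHM
      intro g hg
      exact ⟨(hmS g (hMO hg)).mpr (hall g hg), hMG hg⟩
    · right
      push Not at hall
      obtain ⟨g0, hg0M, hg0⟩ := hall
      apply le_antisymm hMG
      apply hG3
      exact all_sieg_of_odd hfr (by rw [hcard]; exact hodd) (by rw [hcard]; exact hT) hMO hmonM
        hg0M hg0

end Cfsg.Agent.Lib.Helper32_OFOdd
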