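import Mathlib
import Cfsg.Agent.Lib.Helper98_OFADefs

set_option autoImplicit false

/-!
OFA market (architect helper98), package ZAPI: the API of the sets `Z_u`.
-/

namespace Cfsg.Agent.Lib.Helper50_OFA_ZAPI

open Module Cfsg.Agent.Lib.Helper94_Symp Cfsg.Agent.Lib.Helper94_OrthSmall
  Cfsg.Agent.Lib.Helper94_OrthSiegel Cfsg.Agent.Lib.Helper32_OFDefs
  Cfsg.Agent.Lib.Helper98_OFADefs

section Gen

variable {F V : Type*} [Field F] [AddCommGroup V] [Module F V]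
variable {Q : V → F} {B : LinearMap.BilinForm F V} {L : Subgroup (V ≃ₗ[F] V)}

/-- over a prime field every element is a natural number -/
theorem exists_natCast [Finite F] (hp : (Nat.card F).Prime) (t : F) : ∃ n : ℕ, (n : F) = t := by
  have : Fact (Nat.card F).Prime := ⟨hp⟩
  have h1 : t ∈ AddSubmonoid.multiples (1 : F) := mem_multiples_of_prime_card rfl one_ne_zero
  obtain ⟨n, hn⟩ := h1
  refine ⟨n, ?_⟩
  rw [← hn]
  simp

variable (hQs : ∀ (a : F) (v : V), Q (a • v) = a * a * Q v)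
  (hQp : ∀ u v : V, Q (u + v) = Q u + Q v + B u v)

include hQs hQp in
theorem zl_add {u z z' : V} (hu : Q u = 0) (hz : z ∈ ZL Q B L u) (hz' : z' ∈ ZL Q B L u) :
    z + z' ∈ ZL Q B L u := by
  refine ⟨by rw [map_add, hz.1, hz'.1, add_zero], ?_⟩
  rw [← sieg_mul Q B hQs hQp hu hz.1 hz'.1]
  exact L.mul_mem hz.2 hz'.2

include hQs hQp in
theorem zl_zero {u : V} (hu : Q u = 0) : (0 : V) ∈ ZL Q B L u := by
  refine ⟨by rw [map_zero], ?_⟩
  rw [sieg_zero_right Q B hQs hQp hu]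
  exact L.one_mem

include hQs hQp in
theorem zl_nsmul {u z : V} (hu : Q u = 0) (hz : z ∈ ZL Q B L u) (n : ℕ) :
    n • z ∈ ZL Q B L u := by
  induction n with
  | zero => rw [zero_smul]; exact zl_zero hQs hQp hu
  | succ n ih => rw [succ_nsmul]; exact zl_add hQs hQp hu ih hz

include hQs hQp in
theorem zl_smul [Finite F] (hp : (Nat.card F).Prime) {u z : V} (hu : Q u = 0)
    (hz : z ∈ ZL Q B L u) (t : F) : t • z ∈ ZL Q B L u := by
  obtain ⟨n, rfl⟩ := exists_natCast hp t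
  rw [Nat.cast_smul_eq_nsmul]
  exact zl_nsmul hQs hQp hu hz n

include hQs hQp in
theorem zl_self {u : V} (hu : Q u = 0) : u ∈ ZL Q B L u := by
  have huu : B u u = 0 := by rw [B_self Q B hQs hQp, hu, mul_zero]
  refine ⟨huu, ?_⟩
  have h1 := sieg_add_smul Q B hQs hQp hu (z := 0) (by rw [map_zero]) (1 : F)
  rw [zero_add, one_smul, sieg_zero_right Q B hQs hQp hu] at h1
  rw [h1]
  exact L.one_mem

include hQs hQp in
theorem zl_map (hLO : L ≤ oG Q) {g : V ≃ₗ[F] V} (hg : g ∈ L) {u z : V} (hu : Q u = 0)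
    (hz : z ∈ ZL Q B L u) : g z ∈ ZL Q B L (g u) := by
  have hgO : g ∈ oG Q := hLO hg
  refine ⟨by rw [oG_B Q B hQp hgO, hz.1], ?_⟩
  rw [← conj_sieg Q B hQs hQp hgO hu hz.1]
  exact L.mul_mem (L.mul_mem hg hz.2) (L.inv_mem hg)

include hQs hQp in
theorem zl_smul_left [Finite F] (hp : (Nat.card F).Prime) {u : V} (hu : Q u = 0) {t : F}
    (ht : t ≠ 0) : ZL Q B L (t • u) = ZL Q B L u := by
  ext z
  constructor
  · rintro ⟨h1, h2⟩
    have h3 : B u z = 0 := by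
      rw [map_smul, LinearMap.smul_apply, smul_eq_mul] at h1
      rcases mul_eq_zero.mp h1 with h | h
      · exact absurd h ht
      · exact h
    rw [sieg_smul_left Q B hQs hQp hu h3] at h2
    have h4 : t • z ∈ ZL Q B L u :=
      ⟨by rw [map_smul, h3, smul_zero], h2⟩
    have h5 := zl_smul hQs hQp hp hu h4 t⁻¹
    rwa [smul_smul, inv_mul_cancel₀ ht, one_smul] at h5
  · intro hz
    have h4 := zl_smul hQs hQp hp hu hz t
    refine ⟨by rw [map_smul, LinearMap.smul_apply, hz.1, smul_zero], ?_⟩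
    rw [sieg_smul_left Q B hQs hQp hu hz.1]
    exact h4.2

include hQs hQp in
/-- `L X = X` -/
theorem xl_map (hLO : L ≤ oG Q) {c : F} (hc : c ≠ 0) {g : V ≃ₗ[F] V} (hg : g ∈ L) {x : V}
    (hx : x ∈ XL Q B c L) : g x ∈ XL Q B c L := by
  have hgO : g ∈ oG Q := hLO hg
  have hx0 : Q x ≠ 0 := by rw [hx.1]; exact hc
  refine ⟨by rw [hgO x, hx.1], ?_⟩
  rw [← conj_Rf Q B hQs hQp hgO hx0]
  exact L.mul_mem (L.mul_mem hg hx.2) (L.inv_mem hg)

include hQs hQp in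
/-- (G0), the computation -/
theorem rf_mul_rf {c : F} (hc : c ≠ 0) {x u : V} (hx : Q x = c) (hu : Q u = 0)
    (hxu : B x u = 0) : Rf Q B x * Rf Q B (x + u) = sieg Q B u (c⁻¹ • x) := by
  have hux : B u x = 0 := by rw [B_symm Q B hQp, hxu]
  have huu : B u u = 0 := by rw [B_self Q B hQs hQp, hu, mul_zero]
  have hxx : B x x = 2 * c := by rw [B_self Q B hQs hQp, hx]
  have hxu' : Q (x + u) = c := by rw [hQp, hx, hu, hxu, add_zero, add_zero]
  have hx0 : Q x ≠ 0 := by rw [hx]; exact hc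
  have hxu0 : Q (x + u) ≠ 0 := by rw [hxu']; exact hc
  have h1 : B u (c⁻¹ • x) = 0 := by rw [map_smul, hux, smul_zero]
  ext v
  rw [LinearEquiv.mul_apply, Rf_apply Q B hQs hQp hxu0, Rf_apply Q B hQs hQp hx0,
    sieg_apply Q B hQs hQp hu h1, hxu', hx, hQs, hx]
  simp only [map_add, map_sub, map_smul, LinearMap.add_apply, LinearMap.sub_apply,
    LinearMap.smul_apply, smul_eq_mul, hxx, hux]
  match_scalars <;> field_simp <;> ring

include hQs hQp in
theorem zl_G0 [Finite F] (hp : (Nat.card F).Prime) {c : F} (hc : c ≠ 0) {x u : V}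
    (hx : x ∈ XL Q B c L) (hu : Q u = 0) (hxu : B x u = 0) (hxu' : x + u ∈ XL Q B c L) :
    x ∈ ZL Q B L u := by
  have hux : B u x = 0 := by rw [B_symm Q B hQp, hxu]
  have h1 : c⁻¹ • x ∈ ZL Q B L u := by
    refine ⟨by rw [map_smul, hux, smul_zero], ?_⟩
    rw [← rf_mul_rf hQs hQp hc hx.1 hu hxu]
    exact L.mul_mem hx.2 hxu'.2
  have h2 := zl_smul hQs hQp hp hu h1 c
  rwa [smul_smul, mul_inv_cancel₀ hc, one_smul] at h2

include hQs hQp in
theorem zl_G2 [Finite F] (hp : (Nat.card F).Prime) (hLO : L ≤ oG Q) (h2 : (2 : F) ≠ 0) {c : F}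
    (hc : c ≠ 0) {x u : V} (hu : Q u = 0) (hx : x ∈ XL Q B c L) (hxz : x ∈ ZL Q B L u) (t : F) :
    x + t • u ∈ XL Q B c L := by
  have hux : B u x = 0 := hxz.1
  have hxu : B x u = 0 := by rw [B_symm Q B hQp, hux]
  have hxx : B x x = 2 * c := by rw [B_self Q B hQs hQp, hx.1]
  have h1 : (-(t * (2 * c)⁻¹)) • x ∈ ZL Q B L u := zl_smul hQs hQp hp hu hxz _
  have h3 := xl_map hQs hQp hLO hc h1.2 hx
  have h4 : sieg Q B u ((-(t * (2 * c)⁻¹)) • x) x = x + t • u := by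
    rw [sieg_apply Q B hQs hQp hu h1.1]
    simp only [map_smul, smul_eq_mul, hxu, hxx, mul_zero, zero_smul, add_zero]
    have h2c : (2 * c : F) ≠ 0 := mul_ne_zero h2 hc
    match_scalars <;> field_simp
  rwa [h4] at h3

include hQs hQp in
theorem zl_G1 [Finite F] (hp : (Nat.card F).Prime) (hLO : L ≤ oG Q) {c : F} (hc : c ≠ 0)
    {u y z : V} (hu : Q u = 0) (hy : y ∈ XL Q B c L) (hyu : B y u = 0) (hz : z ∈ ZL Q B L u)
    (hyz : B y z ≠ 0) : y ∈ ZL Q B L u := by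
  have h1 := xl_map hQs hQp hLO hc hz.2 hy
  have h2 : sieg Q B u z y = y + (-(B y z)) • u := by
    rw [sieg_apply Q B hQs hQp hu hz.1, hyu]
    simp only [mul_zero, zero_smul, add_zero, sub_zero]
    module
  rw [h2] at h1
  have hu' : Q ((-(B y z)) • u) = 0 := by rw [hQs, hu, mul_zero]
  have hyu' : B y ((-(B y z)) • u) = 0 := by rw [map_smul, hyu, smul_zero]
  have h3 := zl_G0 hQs hQp hp hc hy hu' hyu' h1
  rwa [zl_smul_left hQs hQp hp hu (neg_ne_zero.mpr hyz)] at h3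

end Gen

section Frame

variable {F V : Type*} [Field F] [Finite F] [AddCommGroup V] [Module F V] [FiniteDimensional F V]
variable {Q : V → F} {B : LinearMap.BilinForm F V}
variable {ι : Type*} [Fintype ι] [DecidableEq ι] {c : F} {e : ι → V}
variable {L : Subgroup (V ≃ₗ[F] V)}

/-- OFA-ZAPI (L).  The sets `Z_u`. -/
theorem ZAPI (hC : TCtx Q B c e L) :
    (∀ u, Q u = 0 → ∀ z ∈ ZL Q B L u, ∀ z' ∈ ZL Q B L u, z + z' ∈ ZL Q B L u) ∧
    (∀ u, Q u = 0 → ∀ z ∈ ZL Q B L u, ∀ t : F, t • z ∈ ZL Q B L u) ∧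
    (∀ u, Q u = 0 → u ∈ ZL Q B L u) ∧
    (∀ g ∈ L, ∀ u, Q u = 0 → ∀ z ∈ ZL Q B L u, g z ∈ ZL Q B L (g u)) ∧
    (∀ u, Q u = 0 → ∀ t : F, t ≠ 0 → ZL Q B L (t • u) = ZL Q B L u) ∧
    (∀ x ∈ XL Q B c L, ∀ u, Q u = 0 → B x u = 0 → x + u ∈ XL Q B c L → x ∈ ZL Q B L u) ∧
    (∀ u, Q u = 0 → ∀ x ∈ XL Q B c L, x ∈ ZL Q B L u → ∀ t : F, x + t • u ∈ XL Q B c L) ∧
    (∀ u, Q u = 0 → ∀ y ∈ XL Q B c L, B y u = 0 → ∀ z ∈ ZL Q B L u, B y z ≠ 0 →
      y ∈ ZL Q B L u) := by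
  have hQs := hC.fr.hQs
  have hQp := hC.fr.hQp
  have h2 := hC.fr.h2
  have hc := hC.fr.c0
  have hp := hC.hp
  have hLO := hC.hLO
  refine ⟨?_, ?_, ?_, ?_, ?_, ?_, ?_, ?_⟩
  · intro u hu z hz z' hz'
    exact zl_add hQs hQp hu hz hz'
  · intro u hu z hz t
    exact zl_smul hQs hQp hp hu hz t
  · intro u hu
    exact zl_self hQs hQp hu
  · intro g hg u hu z hz
    exact zl_map hQs hQp hLO hg hu hz
  · intro u hu t ht
    exact zl_smul_left hQs hQp hp hu ht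
  · intro x hx u hu hxu hxu'
    exact zl_G0 hQs hQp hp hc hx hu hxu hxu'
  · intro u hu x hx hxz t
    exact zl_G2 hQs hQp hp hLO h2 hc hu hx hxz t
  · intro u hu y hy hyu z hz hyz
    exact zl_G1 hQs hQp hp hLO hc hu hy hyu hz hyz

end Frame

end Cfsg.Agent.Lib.Helper50_OFA_ZAPI
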