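import Mathlib
import Cfsg.Agent.Lib.Helper98_OFADefs
import Cfsg.Agent.Lib.Helper50_OFA_ZAPI

set_option autoImplicit false

/-!
OFA market (architect helper98), package Z1.
-/

namespace Cfsg.Agent.Lib.Helper50_OFA_Z1

open Module Cfsg.Agent.Lib.Helper94_Symp Cfsg.Agent.Lib.Helper94_OrthSmall
  Cfsg.Agent.Lib.Helper94_OrthSiegel Cfsg.Agent.Lib.Helper32_OFDefs
  Cfsg.Agent.Lib.Helper98_OFADefs Cfsg.Agent.Lib.Helper50_OFA_ZAPI

section Frame

variable {F V : Type*} [Field F] [Finite F] [AddCommGroup V] [Module F V] [FiniteDimensional F V]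
variable {Q : V → F} {B : LinearMap.BilinForm F V}
variable {ι : Type*} [Fintype ι] [DecidableEq ι] {c : F} {e : ι → V}
variable {L : Subgroup (V ≃ₗ[F] V)}

omit [Finite F] [FiniteDimensional F V] in
theorem B_eq_zero_of_co (hfr : OFr Q B c e) {v : V} {j : ι} (h : co B c e v j = 0) :
    B v (e j) = 0 := by
  unfold co at h
  rcases mul_eq_zero.mp h with h1 | h1
  · exact absurd h1 (inv_ne_zero hfr.two_c)
  · exact h1

omit [Finite F] [FiniteDimensional F V] in
/-- a linear automorphism permuting the frame vectors outside the zero coordinates of `u` fixes `u` -/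
theorem map_eq_self_of_frame (hfr : OFr Q B c e) (τ : V ≃ₗ[F] V) (u : V)
    (h : ∀ i, co B c e u i ≠ 0 → τ (e i) = e i) : τ u = u := by
  conv_lhs => rw [hfr.exp' u]
  conv_rhs => rw [hfr.exp' u]
  rw [map_sum]
  refine Finset.sum_congr rfl fun i _ => ?_
  rw [map_smul]
  by_cases hi : co B c e u i = 0
  · rw [hi, zero_smul, zero_smul]
  · rw [h i hi]

/-- OFA-Z1 (M). -/
theorem Z1 (hC : TCtx Q B c e L) {u : V} (hu : Q u = 0) :
    (∀ z ∈ ZL Q B L u, ∀ j, co B c e u j = 0 → co B c e z j ≠ 0 → e j ∈ ZL Q B L u) ∧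
    (∀ j j', co B c e u j = 0 → co B c e u j' = 0 → 3 ≤ (osupp B c e u)ᶜ.card →
      e j ∈ ZL Q B L u → e j' ∈ ZL Q B L u) := by
  have hfr := hC.fr
  have hQs := hC.fr.hQs
  have hQp := hC.fr.hQp
  have hc := hC.fr.c0
  have hp := hC.hp
  have hLO := hC.hLO
  constructor
  · intro z hz j huj hzj
    have h1 : zJ B c e {j} u = u := by
      rw [hfr.zJ_apply, Finset.sum_singleton, B_eq_zero_of_co hfr huj, mul_zero, zero_smul,
        sub_zero]
    have h2 : zJ B c e {j} z ∈ ZL Q B L u := by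
      have := zl_map hQs hQp hLO (hC.hz j) hu hz
      rwa [h1] at this
    have h3 : zJ B c e {j} z = z - (c⁻¹ * B z (e j)) • e j := by
      rw [hfr.zJ_apply, Finset.sum_singleton]
    have hs : c⁻¹ * B z (e j) ≠ 0 := by
      refine mul_ne_zero (inv_ne_zero hc) ?_
      intro h0
      apply hzj
      unfold co
      rw [h0, mul_zero]
    have h4 : z + (-1 : F) • zJ B c e {j} z ∈ ZL Q B L u :=
      zl_add hQs hQp hu hz (zl_smul hQs hQp hp hu h2 _)
    have h5 := zl_smul hQs hQp hp hu h4 (c⁻¹ * B z (e j))⁻¹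
    have h6 : (c⁻¹ * B z (e j))⁻¹ • (z + (-1 : F) • zJ B c e {j} z) = e j := by
      rw [h3]
      have h7 : z + (-1 : F) • (z - (c⁻¹ * B z (e j)) • e j) = (c⁻¹ * B z (e j)) • e j := by
        module
      rw [h7, smul_smul, inv_mul_cancel₀ hs, one_smul]
    rwa [h6] at h5
  · intro j j' huj huj' hcard hej
    by_cases hjj : j = j'
    · rw [← hjj]; exact hej
    have hex : ∃ k ∈ (osupp B c e u)ᶜ, k ≠ j ∧ k ≠ j' := by
      by_contra hne
      push Not at hne
      have hsub : (osupp B c e u)ᶜ ⊆ {j, j'} := by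
        intro k hk
        by_cases h1 : k = j
        · simp [h1]
        · have := hne k hk h1
          simp [this]
      have h1 := Finset.card_le_card hsub
      have h2 : ({j, j'} : Finset ι).card ≤ 2 := Finset.card_le_two
      omega
    obtain ⟨k, hk, hkj, hkj'⟩ := hex
    have huk : co B c e u k = 0 := by
      rw [Finset.mem_compl, mem_osupp] at hk
      push Not at hk
      exact hk
    obtain ⟨τ, hτL, h1, h2, h3, h4⟩ := hC.h3 j j' k hjj (Ne.symm hkj) (Ne.symm hkj')
    have hτu : τ u = u := by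
      apply map_eq_self_of_frame hfr
      intro i hi
      apply h4
      · rintro rfl; exact hi huj
      · rintro rfl; exact hi huj'
      · rintro rfl; exact hi huk
    have h5 := zl_map hQs hQp hLO hτL hu hej
    rwa [h1, hτu] at h5

end Frame

end Cfsg.Agent.Lib.Helper50_OFA_Z1
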