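import Mathlib
import Cfsg.Agent.Lib.Helper98_OFADefs

/-!
helper73 — package OFA-CONSEC of helper98's OFA market: in a prime field with `p ≥ 7` there are two
consecutive nonzero squares `t - 1`, `t` (one of `2`, `5`, `10 = 2 * 5` is a square: `(1, 2)`,
`(4, 5)` or `(9, 10)`).
-/

set_option autoImplicit false

namespace Cfsg.Agent.Lib.Helper73_OFA_CONSEC

open Module Cfsg.Agent.Lib.Helper94_Symp Cfsg.Agent.Lib.Helper94_OrthSmall
  Cfsg.Agent.Lib.Helper94_OrthSiegel Cfsg.Agent.Lib.Helper32_OFDefs
  Cfsg.Agent.Lib.Helper98_OFADefs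

section S3

variable {F : Type*} [Field F] [Finite F]
variable {W : Type*} [AddCommGroup W] [Module F W] [FiniteDimensional F W]
variable {Qw : W → F} {Bw : LinearMap.BilinForm F W}

/-- OFA-CONSEC (S).  Two consecutive nonzero squares. -/
theorem CONSEC (hp : (Nat.card F).Prime) (hcard : 7 ≤ Nat.card F) :
    ∃ t s r : F, t = s * s ∧ t - 1 = r * r ∧ t ≠ 0 ∧ t ≠ 1 := by
  classical
  have : Fintype F := Fintype.ofFinite F
  have hq : ((Nat.card F : ℕ) : F) = 0 := by
    rw [Nat.card_eq_fintype_card]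
    exact FiniteField.cast_card_eq_zero F
  have hdvd : ringChar F ∣ Nat.card F := ringChar.dvd hq
  have hrc : ringChar F = Nat.card F := by
    rcases (Nat.dvd_prime hp).mp hdvd with h | h
    · exact absurd h CharP.ringChar_ne_one
    · exact h
  have hne : ∀ n : ℕ, 0 < n → n < 7 → ((n : ℕ) : F) ≠ 0 := by
    intro n h0 h7 h
    have h1 := ringChar.dvd h
    rw [hrc] at h1
    have h2 := Nat.le_of_dvd h0 h1
    omega
  have n2 : (2 : F) ≠ 0 := by exact_mod_cast hne 2 (by norm_num) (by norm_num)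
  have n3 : (3 : F) ≠ 0 := by exact_mod_cast hne 3 (by norm_num) (by norm_num)
  have n5 : (5 : F) ≠ 0 := by exact_mod_cast hne 5 (by norm_num) (by norm_num)
  by_cases s2 : IsSquare (2 : F)
  · obtain ⟨s, hs⟩ := s2
    refine ⟨2, s, 1, hs, by norm_num, n2, ?_⟩
    intro h
    have : (1 : F) = 0 := by linear_combination h
    exact one_ne_zero this
  by_cases s5 : IsSquare (5 : F)
  · obtain ⟨s, hs⟩ := s5
    refine ⟨5, s, 2, hs, by norm_num, n5, ?_⟩
    intro h
    have : (2 : F) * 2 = 0 := by linear_combination h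
    exact mul_ne_zero n2 n2 this
  · have c2 : quadraticChar F 2 = -1 := quadraticChar_neg_one_iff_not_isSquare.mpr s2
    have c5 : quadraticChar F 5 = -1 := quadraticChar_neg_one_iff_not_isSquare.mpr s5
    have n10 : (10 : F) ≠ 0 := by
      have : (10 : F) = 2 * 5 := by norm_num
      rw [this]
      exact mul_ne_zero n2 n5
    have c10 : quadraticChar F 10 = 1 := by
      have : (10 : F) = 2 * 5 := by norm_num
      rw [this, map_mul, c2, c5]
      norm_num
    obtain ⟨s, hs⟩ := (quadraticChar_one_iff_isSquare n10).mp c10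
    refine ⟨10, s, 3, hs, by norm_num, n10, ?_⟩
    intro h
    have : (3 : F) * 3 = 0 := by linear_combination h
    exact mul_ne_zero n3 n3 this

end S3

end Cfsg.Agent.Lib.Helper73_OFA_CONSEC
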