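import Mathlib
import Cfsg.Agent.Lib.Helper98_OFADefs
import Cfsg.Agent.Lib.Helper73_OFA_CONSEC
import Cfsg.Agent.Lib.Helper50_OFA_ZAPI
import Cfsg.Agent.Lib.Helper50_OFA_Z1

/-!
# OFA-STAR (helper98's OFA market): `Full3` gives a good singular vector
-/

set_option autoImplicit false
set_option linter.unusedSectionVars false
set_option linter.unusedSimpArgs false

namespace Cfsg.Agent.Lib.Helper34_OFA_STAR

open Module Cfsg.Agent.Lib.Helper94_Symp Cfsg.Agent.Lib.Helper94_OrthSmall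
  Cfsg.Agent.Lib.Helper94_OrthSiegel Cfsg.Agent.Lib.Helper32_OFDefs
  Cfsg.Agent.Lib.Helper98_OFADefs

variable {F V : Type*} [Field F] [Finite F] [AddCommGroup V] [Module F V] [FiniteDimensional F V]
variable {Q : V → F} {B : LinearMap.BilinForm F V}
variable {ι : Type*} [Fintype ι] [DecidableEq ι] {c : F} {e : ι → V}
variable {L : Subgroup (V ≃ₗ[F] V)}

lemma h34_co_add (u v : V) (i : ι) :
    co B c e (u + v) i = co B c e u i + co B c e v i := by
  unfold co; rw [map_add, LinearMap.add_apply]; ring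

lemma h34_co_smul (a : F) (v : V) (i : ι) : co B c e (a • v) i = a * co B c e v i := by
  unfold co; rw [map_smul, LinearMap.smul_apply, smul_eq_mul]; ring

/-- every element of a finite field of odd characteristic is a sum of two squares -/
lemma h34_sum_two_sq (h2 : (2 : F) ≠ 0) (x : F) : ∃ a b : F, a * a + b * b = x := by
  classical
  have : Fintype F := Fintype.ofFinite F
  have hchar : ringChar F ≠ 2 := by
    intro h
    apply h2
    have := ringChar.Nat.cast_ringChar (R := F)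
    rw [h] at this
    exact_mod_cast this
  have hodd : Fintype.card F % 2 = 1 := FiniteField.odd_card_of_char_ne_two hchar
  obtain ⟨a, b, hab⟩ := FiniteField.exists_root_sum_quadratic
    (f := (Polynomial.X : Polynomial F) ^ 2) (g := Polynomial.X ^ 2 - Polynomial.C x)
    (Polynomial.degree_X_pow 2) (Polynomial.degree_X_pow_sub_C (by norm_num) x) hodd
  refine ⟨a, b, ?_⟩
  simp only [Polynomial.eval_pow, Polynomial.eval_X, Polynomial.eval_sub, Polynomial.eval_C] at hab
  linear_combination hab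

theorem STAR_aux (hC : TCtx Q B c e L) (hm : 6 ≤ Fintype.card ι)
    (hCONSEC : ∃ t s r : F, t = s * s ∧ t - 1 = r * r ∧ t ≠ 0 ∧ t ≠ 1)
    (hG1 : ∀ u, Q u = 0 → ∀ y ∈ XL Q B c L, B y u = 0 → ∀ z ∈ ZL Q B L u, B y z ≠ 0 →
      y ∈ ZL Q B L u)
    (hZ1 : ∀ {u : V}, Q u = 0 →
      (∀ z ∈ ZL Q B L u, ∀ j, co B c e u j = 0 → co B c e z j ≠ 0 → e j ∈ ZL Q B L u) ∧
      (∀ j j', co B c e u j = 0 → co B c e u j' = 0 → 3 ≤ (osupp B c e u)ᶜ.card →
        e j ∈ ZL Q B L u → e j' ∈ ZL Q B L u))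
    (hF : Full3 Q B c e L) : ∃ u, GoodU Q B c e L u := by
  classical
  have hfr := hC.fr
  have h2 : (2 : F) ≠ 0 := hfr.h2
  have hc0 : c ≠ 0 := hfr.c0
  have h2c : (2 * c : F) ≠ 0 := hfr.two_c
  obtain ⟨t, s, r, hts, htr, ht0, ht1⟩ := hCONSEC
  obtain ⟨y1, y2, hy12⟩ := h34_sum_two_sq h2 (1 - t)
  -- four distinct indices
  obtain ⟨f⟩ : Nonempty (Fin 4 ↪ ι) :=
    Function.Embedding.nonempty_of_card_le (by rw [Fintype.card_fin]; omega)
  obtain ⟨i1, hi1⟩ : ∃ i, i = f 0 := ⟨_, rfl⟩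
  obtain ⟨i2, hi2⟩ : ∃ i, i = f 1 := ⟨_, rfl⟩
  obtain ⟨i3, hi3⟩ : ∃ i, i = f 2 := ⟨_, rfl⟩
  obtain ⟨i4, hi4⟩ : ∃ i, i = f 3 := ⟨_, rfl⟩
  have n12 : i1 ≠ i2 := by rw [hi1, hi2]; exact fun h => absurd (f.injective h) (by decide)
  have n13 : i1 ≠ i3 := by rw [hi1, hi3]; exact fun h => absurd (f.injective h) (by decide)
  have n14 : i1 ≠ i4 := by rw [hi1, hi4]; exact fun h => absurd (f.injective h) (by decide)
  have n23 : i2 ≠ i3 := by rw [hi2, hi3]; exact fun h => absurd (f.injective h) (by decide)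
  have n24 : i2 ≠ i4 := by rw [hi2, hi4]; exact fun h => absurd (f.injective h) (by decide)
  have n34 : i3 ≠ i4 := by rw [hi3, hi4]; exact fun h => absurd (f.injective h) (by decide)
  have n21 := n12.symm
  have n31 := n13.symm
  have n41 := n14.symm
  have n32 := n23.symm
  have n42 := n24.symm
  have n43 := n34.symm
  -- the vectors
  obtain ⟨y, hy⟩ : ∃ y : V, y = y1 • e i1 + y2 • e i2 + s • e i4 := ⟨_, rfl⟩
  obtain ⟨w, hw⟩ : ∃ w : V, w = (-y2) • e i1 + y1 • e i2 + r • e i3 := ⟨_, rfl⟩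
  obtain ⟨z0, hz0⟩ : ∃ z0 : V, z0 = y1 • e i1 + y2 • e i2 := ⟨_, rfl⟩
  have hs0 : s ≠ 0 := by
    intro h; apply ht0; rw [hts, h, mul_zero]
  have hr0 : r ≠ 0 := by
    intro h; apply ht1
    have : t - 1 = 0 := by rw [htr, h, mul_zero]
    linear_combination this
  -- coordinates
  have coy : ∀ j, co B c e y j = y1 * (if i1 = j then 1 else 0) + y2 * (if i2 = j then 1 else 0)
      + s * (if i4 = j then 1 else 0) := by
    intro j
    rw [hy, h34_co_add, h34_co_add, h34_co_smul, h34_co_smul, h34_co_smul, hfr.co_e, hfr.co_e,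
      hfr.co_e]
  have cow : ∀ j, co B c e w j = (-y2) * (if i1 = j then 1 else 0)
      + y1 * (if i2 = j then 1 else 0) + r * (if i3 = j then 1 else 0) := by
    intro j
    rw [hw, h34_co_add, h34_co_add, h34_co_smul, h34_co_smul, h34_co_smul, hfr.co_e, hfr.co_e,
      hfr.co_e]
  -- norms and products
  have Bee : ∀ i j, B (e i) (e j) = if i = j then 2 * c else 0 := hfr.Bee'
  have Qy : Q y = c := by
    rw [hy, hfr.hQp, hfr.hQp, hfr.hQs, hfr.hQs, hfr.hQs, hfr.Qe, hfr.Qe, hfr.Qe]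
    simp only [map_add, map_smul, LinearMap.add_apply, LinearMap.smul_apply, smul_eq_mul, Bee,
      n12, n14, n24, if_false, mul_zero, add_zero]
    linear_combination c * hy12 + c * hts.symm
  have Qw : Q w = 0 := by
    rw [hw, hfr.hQp, hfr.hQp, hfr.hQs, hfr.hQs, hfr.hQs, hfr.Qe, hfr.Qe, hfr.Qe]
    simp only [map_add, map_smul, map_neg, LinearMap.add_apply, LinearMap.smul_apply,
      LinearMap.neg_apply, smul_eq_mul, Bee, n12, n13, n23, if_false, mul_zero, add_zero]
    linear_combination c * hy12 - c * htr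
  have Bwz : B w z0 = 0 := by
    rw [hw, hz0]
    simp only [map_add, map_smul, map_neg, LinearMap.add_apply, LinearMap.smul_apply,
      LinearMap.neg_apply, smul_eq_mul, Bee, n12, n21, n31, n32, if_false, if_true, mul_zero,
      add_zero, zero_add]
    ring
  have Byw : B y w = 0 := by
    rw [hy, hw]
    simp only [map_add, map_smul, map_neg, LinearMap.add_apply, LinearMap.smul_apply,
      LinearMap.neg_apply, smul_eq_mul, Bee, n12, n21, n13, n23, n41, n42, n43, if_false, if_true,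
      mul_zero, add_zero, zero_add]
    ring
  have Byz : B y z0 ≠ 0 := by
    have : B y z0 = 2 * c * (1 - t) := by
      rw [hy, hz0]
      simp only [map_add, map_smul, map_neg, LinearMap.add_apply, LinearMap.smul_apply,
        LinearMap.neg_apply, smul_eq_mul, Bee, n12, n21, n41, n42, if_false, if_true,
        mul_zero, add_zero, zero_add]
      linear_combination 2 * c * hy12
    rw [this]
    refine mul_ne_zero h2c ?_
    intro h; apply ht1; linear_combination -h
  -- the two coordinate 3-spaces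
  have hT : ({i1, i2, i4} : Finset ι).card = 3 := Finset.card_eq_three.mpr ⟨i1, i2, i4, n12, n14, n24, rfl⟩
  have hT' : ({i1, i2, i3} : Finset ι).card = 3 := Finset.card_eq_three.mpr ⟨i1, i2, i3, n12, n13, n23, rfl⟩
  have memT : ∀ i ∈ ({i1, i2, i4} : Finset ι),
      e i ∈ Submodule.span F (e '' (({i1, i2, i4} : Finset ι) : Set ι)) :=
    fun i hi => Submodule.subset_span ⟨i, hi, rfl⟩
  have memT' : ∀ i ∈ ({i1, i2, i3} : Finset ι),
      e i ∈ Submodule.span F (e '' (({i1, i2, i3} : Finset ι) : Set ι)) :=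
    fun i hi => Submodule.subset_span ⟨i, hi, rfl⟩
  have hyX : y ∈ XL Q B c L := by
    refine (hF _ hT).2 y ?_ Qy
    rw [hy]
    refine Submodule.add_mem _ (Submodule.add_mem _ ?_ ?_) ?_ <;>
      refine Submodule.smul_mem _ _ (memT _ ?_) <;> simp
  have hwS : w ∈ Submodule.span F (e '' (({i1, i2, i3} : Finset ι) : Set ι)) := by
    rw [hw]
    refine Submodule.add_mem _ (Submodule.add_mem _ ?_ ?_) ?_ <;>
      refine Submodule.smul_mem _ _ (memT' _ ?_) <;> simp
  have hzS : z0 ∈ Submodule.span F (e '' (({i1, i2, i3} : Finset ι) : Set ι)) := by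
    rw [hz0]
    refine Submodule.add_mem _ ?_ ?_ <;>
      refine Submodule.smul_mem _ _ (memT' _ ?_) <;> simp
  have hzZ : z0 ∈ ZL Q B L w := ⟨Bwz, (hF _ hT').1 w hwS Qw z0 hzS Bwz⟩
  have hyZ : y ∈ ZL Q B L w := hG1 w Qw y hyX Byw z0 hzZ Byz
  obtain ⟨hZa, hZb⟩ := hZ1 Qw
  have cw4 : co B c e w i4 = 0 := by
    rw [cow]; simp [n14, n24, n34]
  have cy4 : co B c e y i4 ≠ 0 := by
    rw [coy]; simpa [n14, n24] using hs0
  have he4 : e i4 ∈ ZL Q B L w := hZa y hyZ i4 cw4 cy4
  -- the support of `w`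
  have hsub : osupp B c e w ⊆ ({i1, i2, i3} : Finset ι) := by
    intro j hj
    rw [mem_osupp, cow] at hj
    by_contra hjn
    simp only [Finset.mem_insert, Finset.mem_singleton, not_or] at hjn
    apply hj
    rw [if_neg (Ne.symm hjn.1), if_neg (Ne.symm hjn.2.1), if_neg (Ne.symm hjn.2.2)]
    ring
  have hcard : 3 ≤ (osupp B c e w)ᶜ.card := by
    have h1 : (osupp B c e w).card ≤ 3 := hT' ▸ Finset.card_le_card hsub
    rw [Finset.card_compl]
    omega
  refine ⟨w, Qw, ?_, by omega, ?_⟩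
  · intro h0
    have : co B c e w i3 = r := by
      rw [cow]; simp [n13, n23]
    rw [h0] at this
    apply hr0
    rw [← this]
    unfold co
    simp
  · intro j hj
    exact hZb i4 j cw4 hj hcard he4

/-- OFA-STAR (L). -/
theorem STAR (hC : TCtx Q B c e L) (hm : 6 ≤ Fintype.card ι) (hp7 : 7 ≤ Nat.card F)
    (hF : Full3 Q B c e L) : ∃ u, GoodU Q B c e L u :=
  STAR_aux hC hm (Cfsg.Agent.Lib.Helper73_OFA_CONSEC.CONSEC hC.hp hp7)
    (Cfsg.Agent.Lib.Helper50_OFA_ZAPI.ZAPI hC).2.2.2.2.2.2.2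
    (fun hu => Cfsg.Agent.Lib.Helper50_OFA_Z1.Z1 hC hu) hF

end Cfsg.Agent.Lib.Helper34_OFA_STAR
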