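import Mathlib
import Cfsg.Agent.Lib.Helper98_OFADefs

/-!
# OFA-ARITH (helper98's OFA market): field arithmetic on `InA` (char not 2)
-/

set_option autoImplicit false
set_option linter.unusedSectionVars false

namespace Cfsg.Agent.Lib.Helper34_OFA_ARITH

open Module Cfsg.Agent.Lib.Helper94_Symp Cfsg.Agent.Lib.Helper94_OrthSmall
  Cfsg.Agent.Lib.Helper94_OrthSiegel Cfsg.Agent.Lib.Helper32_OFDefs
  Cfsg.Agent.Lib.Helper98_OFADefs

variable {F : Type*} [Field F] [Finite F]

theorem ARITH (h2 : (2 : F) ≠ 0) (_h3 : (3 : F) ≠ 0) :
    (∀ t : F, InA t → InA (1 - t) → t = 0 ∨ t = 1 ∨ 2 * t = 1) ∧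
    (∀ a b : F, InA a → InA b → a ≠ 0 → a ≠ 1 → b ≠ 0 → b ≠ 1 → 2 * (a + b) = 1 →
      4 * a = 1 ∧ 4 * b = 1) := by
  have h4 : (4 : F) ≠ 0 := by
    have : (4 : F) = 2 * 2 := by norm_num
    rw [this]; exact mul_ne_zero h2 h2
  constructor
  · intro t ht ht'
    rcases ht with h | h | h | h | h
    · exact Or.inl h
    · exact Or.inr (Or.inl h)
    · rcases ht' with h' | h' | h' | h' | h'
      · exact Or.inr (Or.inl (by linear_combination -h'))
      · exact Or.inl (by linear_combination -h')
      · exact absurd (by linear_combination h + h' : (2 : F) = 0) h2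
      · exact Or.inr (Or.inr (by linear_combination -h'))
      · exfalso
        have : (1 : F) = 0 := by linear_combination h' - (4 * t - 4) * h
        exact one_ne_zero this
    · exact Or.inr (Or.inr h)
    · rcases ht' with h' | h' | h' | h' | h'
      · exact Or.inr (Or.inl (by linear_combination -h'))
      · exact Or.inl (by linear_combination -h')
      · exfalso
        -- 4 t = 3, 16 t^2 - 12 t + 1 = (4t-3)(4t) + 1
        have : (1 : F) = 0 := by linear_combination h + (4 * t) * h'
        exact one_ne_zero this
      · exact Or.inr (Or.inr (by linear_combination -h'))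
      · refine Or.inr (Or.inr ?_)
        have : 4 * (2 * t - 1) = 0 := by linear_combination h - h'
        rcases mul_eq_zero.mp this with h'' | h''
        · exact absurd h'' h4
        · linear_combination h''
  · intro a b ha hb ha0 ha1 hb0 hb1 hab
    rcases ha with h | h | h | h | h
    · exact absurd h ha0
    · exact absurd h ha1
    · exact ⟨h, by linear_combination 2 * hab - h⟩
    · exfalso; apply hb0
      have : 2 * b = 0 := by linear_combination hab - h
      rcases mul_eq_zero.mp this with h'' | h''
      · exact absurd h'' h2
      · exact h''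
    · rcases hb with h' | h' | h' | h' | h'
      · exact absurd h' hb0
      · exact absurd h' hb1
      · -- 4b = 1, so 4a = 1, then 16a^2-12a+1 = -1
        exfalso
        have h4a : 4 * a = 1 := by linear_combination 2 * hab - h'
        have : (1 : F) = 0 := by linear_combination -h + (4 * a - 2) * h4a
        exact one_ne_zero this
      · exfalso; apply ha0
        have : 2 * a = 0 := by linear_combination hab - h'
        rcases mul_eq_zero.mp this with h'' | h''
        · exact absurd h'' h2
        · exact h''
      · exfalso
        -- b = 1/2 - a: 16 b^2 - 12 b + 1 with 2b = 1 - 2a: 4(1-2a)^2 - 6(1-2a) + 1 = 16a^2 -4a -1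
        have h8 : 2 * (4 * a - 1) = 0 := by
          have e : 4 * (16 * b * b - 12 * b + 1) = 4 * (16 * a * a - 4 * a - 1) := by
            have hb2 : 2 * b = 1 - 2 * a := by linear_combination hab
            linear_combination (32 * b - 32 * a - 8) * hb2
          have : 4 * (2 * (4 * a - 1)) = 0 := by linear_combination 4 * h' - e - 4 * h
          rcases mul_eq_zero.mp this with h'' | h''
          · exact absurd h'' h4
          · exact h''
        have h4a : 4 * a = 1 := by
          rcases mul_eq_zero.mp h8 with h'' | h''
          · exact absurd h'' h2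
          · linear_combination h''
        have : (1 : F) = 0 := by linear_combination -h + (4 * a - 2) * h4a
        exact one_ne_zero this

end Cfsg.Agent.Lib.Helper34_OFA_ARITH
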