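import Mathlib
import Cfsg.Agent.Lib.Helper98_OFADefs

set_option autoImplicit false
set_option linter.unusedVariables false
set_option linter.unusedSectionVars false
set_option linter.unusedSimpArgs false

/-!
helper59, OFA market (helper98): toolkit for the packages PART and COORD3A.
An orthogonal family `f : κ → V` of nonsingular vectors: `U = span (range f)` is nondegenerate of
dimension `|κ|`, `Uperp B f = U^⊥` is a complement, reflections in vectors of `U` preserve `U` and
fix `U^⊥` pointwise, and an isometry which is an involution on `U` preserves `U^⊥`.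
-/

namespace Cfsg.Agent.Lib.Helper59_OFA_Tool

open Module Cfsg.Agent.Lib.Helper94_Symp Cfsg.Agent.Lib.Helper94_OrthSmall
  Cfsg.Agent.Lib.Helper94_OrthSiegel Cfsg.Agent.Lib.Helper32_OFDefs
  Cfsg.Agent.Lib.Helper98_OFADefs

variable {F V : Type*} [Field F] [AddCommGroup V] [Module F V]
variable {Q : V → F} {B : LinearMap.BilinForm F V}
variable {κ : Type*} [Fintype κ] [DecidableEq κ]

/-- the orthogonal complement of the span of the family `f` -/
def Uperp (B : LinearMap.BilinForm F V) (f : κ → V) : Submodule F V :=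
  ⨅ k, LinearMap.ker (B.flip (f k))

omit [Fintype κ] [DecidableEq κ] in
lemma mem_Uperp {f : κ → V} {v : V} : v ∈ Uperp B f ↔ ∀ k, B v (f k) = 0 := by
  simp [Uperp, Submodule.mem_iInf]

section Fam

variable (hQs : ∀ (a : F) (v : V), Q (a • v) = a * a * Q v)
  (hQp : ∀ u v : V, Q (u + v) = Q u + Q v + B u v) (h2 : (2 : F) ≠ 0)
  {f : κ → V} (horth : ∀ k l, k ≠ l → B (f k) (f l) = 0) (hns : ∀ k, Q (f k) ≠ 0)

include hQs hQp h2 hns in
lemma Bff (k : κ) : B (f k) (f k) ≠ 0 := by
  rw [B_self Q B hQs hQp]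
  exact mul_ne_zero h2 (hns k)

include horth in
lemma B_sum_left (α : κ → F) (k : κ) : B (∑ l, α l • f l) (f k) = α k * B (f k) (f k) := by
  simp only [map_sum, map_smul, LinearMap.sum_apply, LinearMap.smul_apply, smul_eq_mul]
  rw [Finset.sum_eq_single k]
  · intro l _ hlk
    rw [horth l k hlk, mul_zero]
  · intro hk
    exact absurd (Finset.mem_univ k) hk

include hQs hQp h2 horth hns in
lemma linIndep : LinearIndependent F f := by
  rw [Fintype.linearIndependent_iff]
  intro α hα k
  have h1 := B_sum_left horth α k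
  rw [hα, map_zero, LinearMap.zero_apply] at h1
  rcases mul_eq_zero.mp h1.symm with h | h
  · exact h
  · exact absurd h (Bff hQs hQp h2 hns k)

include hQs hQp h2 horth hns in
lemma finrank_span : finrank F (Submodule.span F (Set.range f)) = Fintype.card κ :=
  finrank_span_eq_card (linIndep hQs hQp h2 horth hns)

omit [DecidableEq κ] in
lemma mem_span_iff {u : V} :
    u ∈ Submodule.span F (Set.range f) ↔ ∃ α : κ → F, u = ∑ l, α l • f l := by
  rw [Submodule.mem_span_range_iff_exists_fun]
  constructor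
  · rintro ⟨α, h⟩
    exact ⟨α, h.symm⟩
  · rintro ⟨α, h⟩
    exact ⟨α, h.symm⟩

include hQs hQp h2 horth hns in
lemma exists_ne {u : V} (hu : u ∈ Submodule.span F (Set.range f)) (hu0 : u ≠ 0) :
    ∃ k, B u (f k) ≠ 0 := by
  obtain ⟨α, rfl⟩ := mem_span_iff.mp hu
  by_contra hall
  push Not at hall
  apply hu0
  apply Finset.sum_eq_zero
  intro k _
  have h1 := B_sum_left horth α k
  rw [hall k] at h1
  rcases mul_eq_zero.mp h1.symm with h | h
  · rw [h, zero_smul]
  · exact absurd h (Bff hQs hQp h2 hns k)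

omit [DecidableEq κ] in
include hQp in
lemma orth_perp {u : V} (hu : u ∈ Submodule.span F (Set.range f)) {v : V}
    (hv : v ∈ Uperp B f) : B u v = 0 := by
  obtain ⟨α, rfl⟩ := mem_span_iff.mp hu
  simp only [map_sum, map_smul, LinearMap.sum_apply, LinearMap.smul_apply, smul_eq_mul]
  apply Finset.sum_eq_zero
  intro k _
  rw [B_symm Q B hQp, mem_Uperp.mp hv k, mul_zero]

include hQs hQp h2 horth hns in
lemma span_nondeg : ∀ u ∈ Submodule.span F (Set.range f),
    (∀ v ∈ Submodule.span F (Set.range f), B u v = 0) → u = 0 := by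
  intro u hu hall
  by_contra hu0
  obtain ⟨k, hk⟩ := exists_ne hQs hQp h2 horth hns hu hu0
  exact hk (hall _ (Submodule.subset_span ⟨k, rfl⟩))

include hQs hQp h2 horth hns in
lemma isCompl : IsCompl (Submodule.span F (Set.range f)) (Uperp B f) := by
  constructor
  · rw [Submodule.disjoint_def]
    intro u hu hu'
    apply span_nondeg hQs hQp h2 horth hns u hu
    intro v hv
    rw [B_symm Q B hQp]
    exact orth_perp hQp hv hu'
  · rw [codisjoint_iff, eq_top_iff]
    intro z _
    rw [Submodule.mem_sup]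
    refine ⟨∑ k, (B z (f k) * (B (f k) (f k))⁻¹) • f k, ?_, z - ∑ k, (B z (f k) * (B (f k) (f k))⁻¹) • f k, ?_, by abel⟩
    · exact Submodule.sum_mem _ (fun k _ => Submodule.smul_mem _ _ (Submodule.subset_span ⟨k, rfl⟩))
    · rw [mem_Uperp]
      intro k
      rw [map_sub, LinearMap.sub_apply, B_sum_left horth, mul_assoc,
        inv_mul_cancel₀ (Bff hQs hQp h2 hns k), mul_one, sub_self]

end Fam

section Refl

variable (hQs : ∀ (a : F) (v : V), Q (a • v) = a * a * Q v)
  (hQp : ∀ u v : V, Q (u + v) = Q u + Q v + B u v)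

include hQs hQp in
/-- a reflection in a vector of `U` preserves `U` -/
lemma Rf_mem (U : Submodule F V) {a : V} (ha : a ∈ U) (hQa : Q a ≠ 0) {u : V} (hu : u ∈ U) :
    Rf Q B a u ∈ U := by
  rw [Rf_apply Q B hQs hQp hQa]
  exact U.sub_mem hu (U.smul_mem _ ha)

include hQs hQp in
/-- a reflection fixes the vectors orthogonal to its centre -/
lemma Rf_fix {a : V} (hQa : Q a ≠ 0) {v : V} (hv : B v a = 0) : Rf Q B a v = v := by
  rw [Rf_apply Q B hQs hQp hQa, hv, mul_zero, zero_smul, sub_zero]

include hQs hQp in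
lemma Rf_self {a : V} (hQa : Q a ≠ 0) : Rf Q B a a = -a := by
  rw [Rf_apply Q B hQs hQp hQa, B_self Q B hQs hQp]
  have : (Q a)⁻¹ * (2 * Q a) = 2 := by field_simp
  rw [this, two_smul]
  abel

include hQs hQp in
/-- an isometry which is an involution on `span (range f)` preserves the orthogonal complement -/
lemma perp_of_invol {f : κ → V} {γ : V ≃ₗ[F] V} (hγ : γ ∈ oG Q)
    (hinv : ∀ k, γ (γ (f k)) = f k) (hU : ∀ k, γ (f k) ∈ Submodule.span F (Set.range f))
    {v : V} (hv : v ∈ Uperp B f) : γ v ∈ Uperp B f := by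
  rw [mem_Uperp]
  intro k
  have h1 : B (γ v) (γ (γ (f k))) = B v (γ (f k)) := oG_B Q B hQp hγ v (γ (f k))
  rw [hinv k] at h1
  rw [h1, B_symm Q B hQp]
  exact orth_perp hQp (hU k) hv

end Refl

end Cfsg.Agent.Lib.Helper59_OFA_Tool
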