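import Mathlib
import Cfsg.Agent.Lib.Helper98_OFADefs
import Cfsg.Agent.Lib.Helper21_OFA_U3aux
import Cfsg.Agent.Lib.Helper93_OFA_UNIP
import Cfsg.Agent.Lib.Helper64_OFA_ROOTTRANS

set_option autoImplicit false
set_option linter.unusedVariables false
set_option linter.unusedSectionVars false

/-!
helper59, OFA market (helper98): the statement of the package U3 assembled from helper21's
`U3_of`, helper93's `UNIP` and helper64's `ROOTTRANS` (all landed), so that the verbatim forms of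
PART and COORD3A do not have to wait for the verbatim wrapper of U3.
-/

namespace Cfsg.Agent.Lib.Helper59_OFA_U3loc

open Module Cfsg.Agent.Lib.Helper94_Symp Cfsg.Agent.Lib.Helper94_OrthSmall
  Cfsg.Agent.Lib.Helper94_OrthSiegel Cfsg.Agent.Lib.Helper32_OFDefs
  Cfsg.Agent.Lib.Helper98_OFADefs

variable {F V : Type*} [Field F] [Finite F] [AddCommGroup V] [Module F V] [FiniteDimensional F V]
variable {Q : V → F} {B : LinearMap.BilinForm F V}

/-- the statement of OFA-U3 -/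
theorem U3loc (hp : (Nat.card F).Prime) (hQs : ∀ (a : F) (v : V), Q (a • v) = a * a * Q v)
    (hQp : ∀ u v : V, Q (u + v) = Q u + Q v + B u v) (h2 : (2 : F) ≠ 0)
    (U : Submodule F V) (hUd : finrank F U = 3)
    (hUn : ∀ u ∈ U, (∀ v ∈ U, B u v = 0) → u = 0)
    (A : Set V) (hA : ∀ a ∈ A, a ∈ U ∧ Q a ≠ 0) (hspan : Submodule.span F A = U)
    (hdiv : Nat.card F ∣ Nat.card (Subgroup.closure (Rf Q B '' A))) :
    ∀ w ∈ U, Q w = 0 → ∀ z ∈ U, B w z = 0 →
      sieg Q B w z ∈ Subgroup.closure (Rf Q B '' A) := by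
  have hM : Subgroup.closure (Rf Q B '' A) ≤ oG Q := by
    rw [Subgroup.closure_le]
    rintro _ ⟨a, ha, rfl⟩
    exact Rf_mem_oG Q B hQs hQp (hA a ha).2
  exact Cfsg.Agent.Lib.Helper21_OFA_U3aux.U3_of hp hQs hQp h2 U hUd hUn A hA hspan hdiv
    (fun hN g hg hgp hg1 =>
      Cfsg.Agent.Lib.Helper93_OFA_UNIP.UNIP (Qw := fun u : U => Q u) (Bw := B.restrict U)
        (fun a v => hQs a v) (fun u v => hQp u v) h2 hN hUd g hg hgp hg1)
    (fun {u0 u1} h0 h1 hQ0 hQ1 hne hZ0 hZ1 =>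
      Cfsg.Agent.Lib.Helper64_OFA_ROOTTRANS.ROOTTRANS hQs hQp h2 U hUd hUn _ hM h0 h1 hQ0 hQ1 hne
        hZ0 hZ1)

end Cfsg.Agent.Lib.Helper59_OFA_U3loc
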