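import Mathlib
import Cfsg.Agent.Lib.Helper98_OFADefs

/-!
# OFA market (architect helper98), package DETRF (formalised by helper43)

A reflection has determinant `-1`: `Rf Q B a x = x + f x • a` with `f = -(Q a)⁻¹ • B(·, a)`, a rank one
perturbation of the identity, of determinant `1 + f a = 1 - (Q a)⁻¹ * (2 * Q a) = -1`
(`LinearMap.transvection.det`).
-/

set_option autoImplicit false
set_option linter.unusedVariables false
set_option linter.unusedSectionVars false

namespace Cfsg.Agent.Lib.Helper43_OFA_DETRF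

open Module Cfsg.Agent.Lib.Helper94_Symp Cfsg.Agent.Lib.Helper94_OrthSmall
  Cfsg.Agent.Lib.Helper94_OrthSiegel Cfsg.Agent.Lib.Helper32_OFDefs
  Cfsg.Agent.Lib.Helper98_OFADefs

section Rel

variable {F V : Type*} [Field F] [Finite F] [AddCommGroup V] [Module F V] [FiniteDimensional F V]
variable {Q : V → F} {B : LinearMap.BilinForm F V}

/-- OFA-DETRF (M).  A reflection has determinant `-1`. -/
theorem DETRF (hQs : ∀ (a : F) (v : V), Q (a • v) = a * a * Q v)
    (hQp : ∀ u v : V, Q (u + v) = Q u + Q v + B u v) {a : V} (ha : Q a ≠ 0) :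
    LinearMap.det ((Rf Q B a : V ≃ₗ[F] V) : V →ₗ[F] V) = -1 := by
  set f : Module.Dual F V := -((Q a)⁻¹ • (B.flip a)) with hf
  have e : ∀ x : V, (B.flip a) x = B x a := fun x => rfl
  have h1 : ((Rf Q B a : V ≃ₗ[F] V) : V →ₗ[F] V) = LinearMap.transvection f a := by
    ext x
    rw [LinearEquiv.coe_coe, Rf_apply Q B hQs hQp ha, LinearMap.transvection.apply, hf,
      LinearMap.neg_apply, LinearMap.smul_apply, e, smul_eq_mul, neg_smul, sub_eq_add_neg]
  rw [h1, LinearMap.transvection.det, hf, LinearMap.neg_apply, LinearMap.smul_apply, e,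
    smul_eq_mul, B_self Q B hQs hQp a]
  field_simp
  ring

end Rel

end Cfsg.Agent.Lib.Helper43_OFA_DETRF
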