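import Mathlib
import Cfsg.Agent.Lib.Helper98_OFADefs

set_option autoImplicit false
set_option linter.unusedSectionVars false
set_option linter.unusedVariables false
set_option linter.unusedSimpArgs false

namespace Cfsg.Agent.Lib.Helper70_OFA_P3C

open Module Cfsg.Agent.Lib.Helper94_Symp Cfsg.Agent.Lib.Helper94_OrthSmall
  Cfsg.Agent.Lib.Helper94_OrthSiegel Cfsg.Agent.Lib.Helper32_OFDefs
  Cfsg.Agent.Lib.Helper98_OFADefs

/-- A divisor `e ≥ 2` of `N = e * n` is `2, 3, 4, 5` or at least `6`, in linear form. -/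
lemma p3c_key (N e n : ℕ) (h : N = e * n) (he : 2 ≤ e) :
    (e = 2 ∧ N = 2 * n) ∨ (e = 3 ∧ N = 3 * n) ∨ (e = 4 ∧ N = 4 * n) ∨ (e = 5 ∧ N = 5 * n) ∨
      (6 ≤ e ∧ 6 * n ≤ N) := by
  rcases Nat.lt_or_ge e 6 with h6 | h6
  · interval_cases e
    · exact Or.inl ⟨rfl, h⟩
    · exact Or.inr (Or.inl ⟨rfl, h⟩)
    · exact Or.inr (Or.inr (Or.inl ⟨rfl, h⟩))
    · exact Or.inr (Or.inr (Or.inr (Or.inl ⟨rfl, h⟩)))
  · refine Or.inr (Or.inr (Or.inr (Or.inr ⟨h6, ?_⟩)))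
    rw [h]
    exact Nat.mul_le_mul_right n h6

/-- The three-orbit case. -/
lemma p3c_core (N e0 e1 e2 n0 n1 n2 : ℕ) (h0 : N = e0 * n0) (h1 : N = e1 * n1)
    (h2 : N = e2 * n2) (he0 : 2 ≤ e0) (he1 : 2 ≤ e1) (he2 : 2 ≤ e2) (hn0 : 3 ≤ n0) (hn1 : 3 ≤ n1)
    (hn2 : 3 ≤ n2) (hsum : n0 + n1 + n2 = N + 2) :
    (N = 12 ∨ N = 24 ∨ N = 60) ∧ (e0 ≤ 5 ∧ e1 ≤ 5 ∧ e2 ≤ 5) ∧
      ((e0 = 4 ∨ e1 = 4 ∨ e2 = 4) → N = 24) := by
  rcases p3c_key N e0 n0 h0 he0 with ⟨a0, b0⟩ | ⟨a0, b0⟩ | ⟨a0, b0⟩ | ⟨a0, b0⟩ | ⟨a0, b0⟩ <;>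
  rcases p3c_key N e1 n1 h1 he1 with ⟨a1, b1⟩ | ⟨a1, b1⟩ | ⟨a1, b1⟩ | ⟨a1, b1⟩ | ⟨a1, b1⟩ <;>
  rcases p3c_key N e2 n2 h2 he2 with ⟨a2, b2⟩ | ⟨a2, b2⟩ | ⟨a2, b2⟩ | ⟨a2, b2⟩ | ⟨a2, b2⟩ <;>
  omega

section S3

variable {F : Type*} [Field F] [Finite F]
variable {W : Type*} [AddCommGroup W] [Module F W] [FiniteDimensional F W]
variable {Qw : W → F} {Bw : LinearMap.BilinForm F W}

/-- OFA-P3C (M).  The arithmetic of the pole count. -/
theorem P3C (N k : ℕ) (e : Fin k → ℕ) (hN : 2 ≤ N) (he2 : ∀ i, 2 ≤ e i) (hdvd : ∀ i, e i ∣ N)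
    (horb : ∀ i, 3 * e i ≤ N) (heq : ∑ i, (N - N / e i) = 2 * (N - 1)) :
    (N = 12 ∨ N = 24 ∨ N = 60) ∧ (∀ i, e i ≤ 5) ∧ ((∃ i, e i = 4) → N = 24) := by
  have hmul : ∀ i, N = e i * (N / e i) := fun i => (Nat.mul_div_cancel' (hdvd i)).symm
  have hn3 : ∀ i, 3 ≤ N / e i := by
    intro i
    have h1 : e i * 3 ≤ e i * (N / e i) := by
      rw [← hmul i, mul_comm]; exact horb i
    exact Nat.le_of_mul_le_mul_left h1 (by have := he2 i; omega)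
  have hn2 : ∀ i, 2 * (N / e i) ≤ N := by
    intro i
    calc 2 * (N / e i) ≤ e i * (N / e i) := Nat.mul_le_mul_right _ (he2 i)
      _ = N := (hmul i).symm
  -- bounds on the terms
  have hT1 : ∀ i, N ≤ 2 * (N - N / e i) := by
    intro i
    have := hn2 i
    omega
  have hT2 : ∀ i, (N - N / e i) + 3 ≤ N := by
    intro i
    have := hn2 i
    have := hn3 i
    omega
  have hS1 : k * N ≤ 2 * ∑ i, (N - N / e i) := by
    rw [Finset.mul_sum]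
    calc k * N = ∑ _i : Fin k, N := by
          rw [Finset.sum_const, Finset.card_univ, Fintype.card_fin, smul_eq_mul]
      _ ≤ ∑ i, 2 * (N - N / e i) := Finset.sum_le_sum fun i _ => hT1 i
  have hS2 : (∑ i, (N - N / e i)) + 3 * k ≤ k * N := by
    calc (∑ i, (N - N / e i)) + 3 * k = ∑ i : Fin k, ((N - N / e i) + 3) := by
          rw [Finset.sum_add_distrib, Finset.sum_const, Finset.card_univ, Fintype.card_fin,
            smul_eq_mul, mul_comm]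
      _ ≤ ∑ _i : Fin k, N := Finset.sum_le_sum fun i _ => hT2 i
      _ = k * N := by
          rw [Finset.sum_const, Finset.card_univ, Fintype.card_fin, smul_eq_mul]
  rw [heq] at hS1 hS2
  have hk : k = 3 := by
    rcases Nat.lt_or_ge k 3 with h | h
    · exfalso
      clear heq hT1 hT2 hn2 hn3 hmul horb hdvd he2
      interval_cases k <;> omega
    · rcases Nat.eq_or_lt_of_le h with h | h
      · exact h.symm
      · have : 4 * N ≤ k * N := Nat.mul_le_mul_right N h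
        omega
  subst hk
  rw [Fin.sum_univ_three] at heq
  have hsum : N / e 0 + N / e 1 + N / e 2 = N + 2 := by
    have := hn2 0
    have := hn2 1
    have := hn2 2
    omega
  obtain ⟨c1, ⟨c2, c3, c4⟩, c5⟩ := p3c_core N (e 0) (e 1) (e 2) (N / e 0) (N / e 1) (N / e 2)
    (hmul 0) (hmul 1) (hmul 2) (he2 0) (he2 1) (he2 2) (hn3 0) (hn3 1) (hn3 2) hsum
  refine ⟨c1, ?_, ?_⟩
  · intro i
    fin_cases i
    · exact c2
    · exact c3
    · exact c4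
  · rintro ⟨i, hi⟩
    fin_cases i
    · exact c5 (Or.inl hi)
    · exact c5 (Or.inr (Or.inl hi))
    · exact c5 (Or.inr (Or.inr hi))

end S3

end Cfsg.Agent.Lib.Helper70_OFA_P3C
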