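import Mathlib
import Cfsg.Agent.Lib.Helper98_OFADefs

/-!
Package OFA-P3A (architect helper98): a nontrivial rotation of a 3-dimensional nondegenerate quadratic space whose
order is prime to the characteristic has a nonsingular axis.
-/

set_option autoImplicit false
set_option linter.unusedSectionVars false

namespace Cfsg.Agent.Lib.Helper93_OFA_P3A

open Module Cfsg.Agent.Lib.Helper94_Symp Cfsg.Agent.Lib.Helper94_OrthSmall
  Cfsg.Agent.Lib.Helper94_OrthSiegel Cfsg.Agent.Lib.Helper32_OFDefs
  Cfsg.Agent.Lib.Helper98_OFADefs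

open scoped Matrix

section S3

variable {F : Type*} [Field F] [Finite F]
variable {W : Type*} [AddCommGroup W] [Module F W] [FiniteDimensional F W]
variable {Qw : W → F} {Bw : LinearMap.BilinForm F W}

/-- The adjoint trick: in odd dimension an isometry of determinant one has the eigenvalue one. -/
theorem det_sub_one_eq_zero (hQp : ∀ u v : W, Qw (u + v) = Qw u + Qw v + Bw u v) (h2 : (2 : F) ≠ 0)
    (hN : Bw.Nondegenerate) (hd : finrank F W = 3) (g : W ≃ₗ[F] W) (hg : g ∈ oG Qw)
    (hdet : LinearMap.det (g : W →ₗ[F] W) = 1) :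
    LinearMap.det ((g : W →ₗ[F] W) - 1) = 0 := by
  classical
  let b := Module.finBasis F W
  set M := LinearMap.BilinForm.toMatrix b Bw with hM
  set G := LinearMap.toMatrix b b (g : W →ₗ[F] W) with hG
  have hGM : Gᵀ * M * G = M := by
    have hcomp : Bw.comp (g : W →ₗ[F] W) (g : W →ₗ[F] W) = Bw := by
      ext x y
      simp only [LinearMap.BilinForm.comp_apply, LinearEquiv.coe_coe]
      exact oG_B Qw Bw hQp hg x y
    have h := LinearMap.BilinForm.toMatrix_comp b b Bw (g : W →ₗ[F] W) (g : W →ₗ[F] W)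
    rw [hcomp] at h
    exact h.symm
  have hdetG : G.det = 1 := by rw [hG, LinearMap.det_toMatrix]; exact hdet
  have hdetM : M.det ≠ 0 := (LinearMap.BilinForm.nondegenerate_iff_det_ne_zero b).mp hN
  have key : (G - 1)ᵀ * M * G = M * (1 - G) := by
    rw [Matrix.transpose_sub, Matrix.transpose_one, sub_mul, sub_mul, hGM, one_mul, mul_sub, mul_one]
  have hdet2 := congrArg Matrix.det key
  have h1G : (1 - G) = -(G - 1) := by rw [neg_sub]
  have hpow : (-1 : F) ^ finrank F W = -1 := by rw [hd]; norm_num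
  rw [Matrix.det_mul, Matrix.det_mul, Matrix.det_transpose, hdetG, mul_one, Matrix.det_mul, h1G,
    Matrix.det_neg, Fintype.card_fin, hpow] at hdet2
  have h3 : (G - 1).det = 0 := by
    have h4 : 2 * M.det * (G - 1).det = 0 := by linear_combination hdet2
    rcases mul_eq_zero.mp h4 with h5 | h5
    · exact absurd h5 (mul_ne_zero h2 hdetM)
    · exact h5
  have h6 : LinearMap.toMatrix b b ((g : W →ₗ[F] W) - 1) = G - 1 := by
    rw [map_sub, LinearMap.toMatrix_one]
  rw [← LinearMap.det_toMatrix b, h6]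
  exact h3

/-- Iterates of `g` on `w` when `g w - w` is fixed. -/
theorem pow_apply_of_fixed (g : W ≃ₗ[F] W) (w v : W) (hv : g w - w = v) (hgv : g v = v) (j : ℕ) :
    (g ^ j) w = w + (j : F) • v := by
  induction j with
  | zero => simp
  | succ j ih =>
    rw [pow_succ', LinearEquiv.mul_apply, ih, map_add, map_smul, hgv]
    have : g w = w + v := by rw [← hv]; abel
    rw [this]
    push_cast
    module

/-- OFA-P3A (L).  A nontrivial rotation of order prime to the characteristic has a nonsingular axis. -/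
theorem P3A (hQs : ∀ (a : F) (v : W), Qw (a • v) = a * a * Qw v)
    (hQp : ∀ u v : W, Qw (u + v) = Qw u + Qw v + Bw u v) (h2 : (2 : F) ≠ 0)
    (hN : Bw.Nondegenerate) (hd : finrank F W = 3) (g : W ≃ₗ[F] W) (hg : g ∈ oG Qw)
    (hdet : LinearMap.det (g : W →ₗ[F] W) = 1) (hg1 : g ≠ 1) (hord : ((orderOf g : ℕ) : F) ≠ 0) :
    ∃ a : W, Qw a ≠ 0 ∧ ∀ v, g v = v ↔ v ∈ Submodule.span F {a} := by
  set f : W →ₗ[F] W := (g : W →ₗ[F] W) - 1 with hf
  have hfa : ∀ x, f x = g x - x := fun x => by simp [hf]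
  set K := LinearMap.ker f with hK
  set I := LinearMap.range f with hI
  have hmemK : ∀ x, x ∈ K ↔ g x = x := by
    intro x
    rw [hK, LinearMap.mem_ker, hfa, sub_eq_zero]
  -- (ii) `K ⊓ I = ⊥`
  have hdisj : Disjoint K I := by
    rw [Submodule.disjoint_def]
    intro v hvK hvI
    obtain ⟨w, hw⟩ := hvI
    rw [hfa] at hw
    have hgv := (hmemK v).mp hvK
    have h1 := pow_apply_of_fixed g w v hw hgv (orderOf g)
    rw [pow_orderOf_eq_one, LinearEquiv.coe_one, id_eq] at h1
    have h3 : ((orderOf g : ℕ) : F) • v = 0 := by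
      have := sub_eq_zero.mpr h1.symm
      simpa using this
    rcases smul_eq_zero.mp h3 with h4 | h4
    · exact absurd h4 hord
    · exact h4
  -- rank-nullity
  have hrn : finrank F I + finrank F K = 3 := by
    rw [← hd]
    exact LinearMap.finrank_range_add_finrank_ker f
  -- (i) `K ≠ ⊥`
  have hKne : K ≠ ⊥ := by
    have h0 := det_sub_one_eq_zero hQp h2 hN hd g hg hdet
    have := LinearMap.bot_lt_ker_of_det_eq_zero h0
    exact (ne_of_lt this).symm
  -- (iii) `I ≤ K^⊥`
  have horth : I ≤ Bw.orthogonal K := by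
    rintro x ⟨w, rfl⟩
    rw [LinearMap.BilinForm.mem_orthogonal_iff]
    intro n hn
    have hgn := (hmemK n).mp hn
    show Bw n (f w) = 0
    rw [hfa, map_sub]
    have := oG_B Qw Bw hQp hg n w
    rw [hgn] at this
    rw [this, sub_self]
  have hsup : K ⊔ I = ⊤ := by
    apply Submodule.eq_top_of_disjoint
    · rw [hd]; omega
    · exact hdisj
  have hcompl : IsCompl K I := ⟨hdisj, codisjoint_iff.mpr hsup⟩
  have hK0 : finrank F K ≠ 0 := by
    intro h
    exact hKne (Submodule.finrank_eq_zero.mp h)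
  have hK3 : finrank F K ≠ 3 := by
    intro h
    have : K = ⊤ := Submodule.eq_top_of_finrank_eq (by rw [h, hd])
    apply hg1
    ext x
    have hx : x ∈ K := by rw [this]; exact Submodule.mem_top
    exact (hmemK x).mp hx
  have hK2 : finrank F K ≠ 2 := by
    intro h
    have hI1 : finrank F I = 1 := by omega
    obtain ⟨⟨b, hbI⟩, hb0, hbspan⟩ := finrank_eq_one_iff'.mp hI1
    have hb0' : b ≠ 0 := fun h => hb0 (Subtype.ext h)
    -- `g` preserves `I`
    have hgI : ∀ x ∈ I, g x ∈ I := by
      rintro x ⟨w, rfl⟩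
      refine ⟨g w, ?_⟩
      rw [hfa, hfa, map_sub]
    obtain ⟨μ, hμ⟩ := hbspan ⟨g b, hgI b hbI⟩
    have hμ' : g b = μ • b := by
      have := congrArg Subtype.val hμ
      simpa using this.symm
    have hgI' : ∀ i : I, g (i : W) = μ • (i : W) := by
      intro i
      obtain ⟨c, hc⟩ := hbspan i
      have hc' : (i : W) = c • b := by
        have := congrArg Subtype.val hc
        simpa using this.symm
      rw [hc', map_smul, hμ', smul_comm]
    -- the determinant of `g`
    let e := K.prodEquivOfIsCompl I hcompl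
    have hconj : (g : W →ₗ[F] W) = (e : (K × I) →ₗ[F] W) ∘ₗ
        (LinearMap.prodMap (LinearMap.id : K →ₗ[F] K) (μ • (LinearMap.id : I →ₗ[F] I))) ∘ₗ
          (e.symm : W →ₗ[F] (K × I)) := by
      apply LinearMap.ext
      intro x
      obtain ⟨⟨k, i⟩, rfl⟩ := e.surjective x
      rw [LinearMap.comp_apply, LinearMap.comp_apply, LinearEquiv.coe_coe, LinearEquiv.coe_coe,
        LinearEquiv.coe_coe, LinearEquiv.symm_apply_apply, LinearMap.prodMap_apply]
      simp only [e, Submodule.coe_prodEquivOfIsCompl', LinearMap.id_apply, LinearMap.smul_apply,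
        map_add, Submodule.coe_smul]
      rw [(hmemK k).mp k.2, hgI' i]
    have hdetg : LinearMap.det (g : W →ₗ[F] W) = μ := by
      rw [hconj, LinearMap.det_conj, LinearMap.det_prodMap, LinearMap.det_id, LinearMap.det_smul,
        LinearMap.det_id, hI1]
      ring
    rw [hdet] at hdetg
    rw [← hdetg, one_smul] at hμ'
    have : b ∈ K ⊓ I := ⟨(hmemK b).mpr hμ', hbI⟩
    rw [hdisj.eq_bot] at this
    exact hb0' ((Submodule.mem_bot F).mp this)
  have hK1 : finrank F K = 1 := by
    have : finrank F K ≤ 3 := by omega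
    omega
  obtain ⟨⟨a, haK⟩, ha0, haspan⟩ := finrank_eq_one_iff'.mp hK1
  have ha0' : a ≠ 0 := fun h => ha0 (Subtype.ext h)
  have hKspan : ∀ x, x ∈ K ↔ x ∈ Submodule.span F {a} := by
    intro x
    rw [Submodule.mem_span_singleton]
    constructor
    · intro hx
      obtain ⟨c, hc⟩ := haspan ⟨x, hx⟩
      exact ⟨c, by simpa using congrArg Subtype.val hc⟩
    · rintro ⟨c, rfl⟩
      exact K.smul_mem c haK
  refine ⟨a, ?_, fun v => by rw [← hmemK, hKspan]⟩
  -- `Q a ≠ 0`
  intro hQa
  have hBaa : Bw a a = 0 := by rw [B_self Qw Bw hQs hQp, hQa, mul_zero]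
  have hI2 : finrank F I = 2 := by omega
  have hIeq : I = Bw.orthogonal K := by
    apply Submodule.eq_of_le_of_finrank_eq horth
    rw [LinearMap.BilinForm.finrank_orthogonal hN, hd, hK1, hI2]
  have haI : a ∈ I := by
    rw [hIeq, LinearMap.BilinForm.mem_orthogonal_iff]
    intro n hn
    obtain ⟨c, rfl⟩ := Submodule.mem_span_singleton.mp ((hKspan n).mp hn)
    show Bw (c • a) a = 0
    rw [map_smul, LinearMap.smul_apply, hBaa, smul_zero]
  have : a ∈ K ⊓ I := ⟨haK, haI⟩
  rw [hdisj.eq_bot] at this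
  exact ha0' ((Submodule.mem_bot F).mp this)

end S3

end Cfsg.Agent.Lib.Helper93_OFA_P3A
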