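import Mathlib
import Cfsg.Agent.Lib.Helper98_OFADefs

set_option autoImplicit false
set_option linter.unusedSimpArgs false
set_option linter.unusedVariables false
set_option linter.unusedSectionVars false

/-!
OFA-P3 (pole counting): a finite group of isometries in which the fixed space of every nonidentity
element is a nonsingular line, without invariant line, has order 12, 24 or 60, element orders at
most 5 and vector stabilisers of order at most 5.
-/

namespace Cfsg.Agent.Lib.Helper98_OFA_P3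

open Module Cfsg.Agent.Lib.Helper94_Symp Cfsg.Agent.Lib.Helper94_OrthSmall
  Cfsg.Agent.Lib.Helper94_OrthSiegel Cfsg.Agent.Lib.Helper32_OFDefs
  Cfsg.Agent.Lib.Helper98_OFADefs

section Abstract

open MulAction

/-- the abstract pole count -/
theorem pole_abstract {G P : Type*} [Group G] [MulAction G P] [Finite G] [Finite P]
    (hfix : ∀ g : G, g ≠ 1 → Nat.card (fixedBy P g) = 2)
    (hstab : ∀ a : P, ∃ g : G, g ≠ 1 ∧ g • a = a)
    (horb : ∀ a : P, 3 ≤ Nat.card (orbit G a))
    (hN : 2 ≤ Nat.card G)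
    (hC : ∀ (N k : ℕ) (e : Fin k → ℕ), 2 ≤ N → (∀ i, 2 ≤ e i) → (∀ i, e i ∣ N) →
      (∀ i, 3 * e i ≤ N) → ∑ i, (N - N / e i) = 2 * (N - 1) →
      (N = 12 ∨ N = 24 ∨ N = 60) ∧ (∀ i, e i ≤ 5) ∧ ((∃ i, e i = 4) → N = 24)) :
    (Nat.card G = 12 ∨ Nat.card G = 24 ∨ Nat.card G = 60) ∧
    (∀ a : P, Nat.card (stabilizer G a) ≤ 5) ∧
    ((∃ a : P, Nat.card (stabilizer G a) = 4) → Nat.card G = 24) := by
  classical
  have : Fintype G := Fintype.ofFinite G
  have : Fintype P := Fintype.ofFinite P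
  let Ω := Quotient (orbitRel G P)
  have : Fintype Ω := Fintype.ofFinite Ω
  set N := Nat.card G with hNdef
  have hNF : Fintype.card G = N := by rw [hNdef, Nat.card_eq_fintype_card]
  set k := Fintype.card Ω with hk
  let eqv : Fin k ≃ Ω := (Fintype.equivFin Ω).symm
  let e : Fin k → ℕ := fun i => Nat.card (stabilizer G (eqv i).out)
  have hos : ∀ a : P, Nat.card (orbit G a) * Nat.card (stabilizer G a) = N := by
    intro a
    have := card_orbit_mul_card_stabilizer_eq_card_group G a
    rw [Nat.card_eq_fintype_card, Nat.card_eq_fintype_card, ← hNF]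
    convert this
  have he2 : ∀ a : P, 2 ≤ Nat.card (stabilizer G a) := by
    intro a
    obtain ⟨g, hg1, hga⟩ := hstab a
    have : stabilizer G a ≠ ⊥ := by
      intro hbot
      have : g ∈ stabilizer G a := hga
      rw [hbot, Subgroup.mem_bot] at this
      exact hg1 this
    exact (Subgroup.one_lt_card_iff_ne_bot _).mpr this
  have hdvd : ∀ a : P, Nat.card (stabilizer G a) ∣ N := fun a => Subgroup.card_subgroup_dvd_card _
  have h3 : ∀ a : P, 3 * Nat.card (stabilizer G a) ≤ N := by
    intro a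
    rw [← hos a]
    exact Nat.mul_le_mul_right _ (horb a)
  -- Burnside
  have hB := sum_card_fixedBy_eq_card_orbits_mul_card_group G P
  have hcls := card_eq_sum_card_group_div_card_stabilizer G P
  have hsum1 : ∑ g : G, Fintype.card (fixedBy P g) = Fintype.card P + 2 * (N - 1) := by
    rw [← Finset.add_sum_erase Finset.univ _ (Finset.mem_univ (1 : G))]
    congr 1
    · apply Fintype.card_congr
      refine ⟨fun x => x.1, fun x => ⟨x, by simp [fixedBy]⟩, fun x => rfl, fun x => rfl⟩
    · rw [Finset.sum_congr rfl (g := fun _ => 2)]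
      · rw [Finset.sum_const, Finset.card_erase_of_mem (Finset.mem_univ _), Finset.card_univ, hNF,
          smul_eq_mul, mul_comm]
      · intro g hg
        rw [← Nat.card_eq_fintype_card]
        exact hfix g (Finset.ne_of_mem_erase hg)
  have hsumP : Fintype.card P = ∑ i : Fin k, N / e i := by
    rw [hcls, ← eqv.sum_comp]
    refine Finset.sum_congr rfl fun i _ => ?_
    rw [hNF]
    simp only [e, Nat.card_eq_fintype_card]
  have heq : ∑ i : Fin k, (N - N / e i) = 2 * (N - 1) := by
    have h1 : ∑ i : Fin k, (N - N / e i) + ∑ i : Fin k, N / e i = k * N := by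
      rw [← Finset.sum_add_distrib]
      rw [Finset.sum_congr rfl (g := fun _ => N)]
      · rw [Finset.sum_const, Finset.card_univ, Fintype.card_fin, smul_eq_mul]
      · intro i _
        exact Nat.sub_add_cancel (Nat.div_le_self _ _)
    have h2 : Fintype.card P + 2 * (N - 1) = k * N := by
      rw [← hsum1, hB, hNF]
    omega
  obtain ⟨r1, r2, r3⟩ := hC N k e hN (fun i => he2 _) (fun i => hdvd _) (fun i => h3 _) heq
  have hcard : ∀ a : P, ∃ i, Nat.card (stabilizer G a) = e i := by
    intro a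
    refine ⟨eqv.symm (Quotient.mk'' a), ?_⟩
    simp only [e, Equiv.apply_symm_apply]
    have hrel : orbitRel G P a (Quotient.mk'' a : Ω).out := by
      have h1 : orbitRel G P (Quotient.mk'' a : Ω).out a :=
        Quotient.exact (Quotient.out_eq' (Quotient.mk'' a : Ω))
      exact Setoid.symm' _ h1
    exact Nat.card_congr (stabilizerEquivStabilizerOfOrbitRel hrel).toEquiv
  refine ⟨r1, ?_, ?_⟩
  · intro a
    obtain ⟨i, hi⟩ := hcard a
    rw [hi]; exact r2 i
  · rintro ⟨a, ha⟩
    obtain ⟨i, hi⟩ := hcard a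
    exact r3 ⟨i, by rw [← hi, ha]⟩

end Abstract

section Squares

variable {F : Type*} [Field F] [Finite F]

lemma nonsq_mul {a b : F} (ha : ¬ IsSquare a) (hb : ¬ IsSquare b) : IsSquare (a * b) := by
  classical
  have : Fintype F := Fintype.ofFinite F
  have ha0 : a ≠ 0 := fun h => ha (h ▸ IsSquare.zero)
  have hb0 : b ≠ 0 := fun h => hb (h ▸ IsSquare.zero)
  rw [← quadraticChar_one_iff_isSquare (mul_ne_zero ha0 hb0), map_mul,
    quadraticChar_neg_one_iff_not_isSquare.mpr ha, quadraticChar_neg_one_iff_not_isSquare.mpr hb]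
  norm_num

lemma norm_exists {δ : F} (hδ : ¬ IsSquare δ) {t : F} (ht : t ≠ 0) :
    ∃ s : F, s ≠ 0 ∧ (s * s * t = 1 ∨ s * s * t = δ) := by
  by_cases hsq : IsSquare t
  · obtain ⟨r, hr⟩ := hsq
    have hr0 : r ≠ 0 := by
      rintro rfl
      rw [mul_zero] at hr
      exact ht hr
    refine ⟨r⁻¹, inv_ne_zero hr0, Or.inl ?_⟩
    rw [hr]
    field_simp
  · have hti : ¬ IsSquare t⁻¹ := by
      rintro ⟨r, hr⟩
      apply hsq
      refine ⟨r⁻¹, ?_⟩
      rw [← mul_inv, ← hr, inv_inv]
    obtain ⟨r, hr⟩ := nonsq_mul hδ hti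
    have hδ0 : δ ≠ 0 := fun h => hδ (h ▸ IsSquare.zero)
    have hr0 : r ≠ 0 := by
      rintro rfl
      rw [mul_zero] at hr
      exact mul_ne_zero hδ0 (inv_ne_zero ht) hr
    refine ⟨r, hr0, Or.inr ?_⟩
    rw [← hr]
    field_simp

lemma norm_unique {δ : F} (hδ : ¬ IsSquare δ) {t : F} (ht : t ≠ 0) {s s' : F}
    (hs : s * s * t = 1 ∨ s * s * t = δ) (hs' : s' * s' * t = 1 ∨ s' * s' * t = δ) :
    s' = s ∨ s' = -s := by
  have key : s' * s' = s * s → s' = s ∨ s' = -s := mul_self_eq_mul_self_iff.mp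
  have bad : ∀ a b : F, a * a * t = 1 → b * b * t = δ → False := by
    intro a b h1 h2
    have ha0 : a ≠ 0 := by
      rintro rfl
      simp at h1
    apply hδ
    refine ⟨b / a, ?_⟩
    have : t = (a * a)⁻¹ := eq_inv_of_mul_eq_one_right h1
    rw [← h2, this]
    field_simp
  rcases hs with hs | hs <;> rcases hs' with hs' | hs'
  · exact key (mul_right_cancel₀ ht (hs'.trans hs.symm))
  · exact (bad s s' hs hs').elim
  · exact (bad s' s hs' hs).elim
  · exact key (mul_right_cancel₀ ht (hs'.trans hs.symm))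

end Squares

section Main

variable {F : Type*} [Field F] [Finite F]
variable {W : Type*} [AddCommGroup W] [Module F W] [FiniteDimensional F W]
variable {Qw : W → F} {Bw : LinearMap.BilinForm F W}

open MulAction

/-- OFA-P3 (XL).  Pole counting: a finite group of isometries in which the fixed space of every
nonidentity element is a nonsingular line, without invariant line.  (`hC` is the statement of P3C.) -/
theorem P3 (hQs : ∀ (a : F) (v : W), Qw (a • v) = a * a * Qw v)
    (hQp : ∀ u v : W, Qw (u + v) = Qw u + Qw v + Bw u v) (h2 : (2 : F) ≠ 0)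
    (hW : ∃ v : W, v ≠ 0) (G : Subgroup (W ≃ₗ[F] W)) (hGO : G ≤ oG Qw)
    (hA : ∀ g ∈ G, g ≠ 1 → ∃ a : W, Qw a ≠ 0 ∧ ∀ v, g v = v ↔ v ∈ Submodule.span F {a})
    (hirr : ∀ a : W, a ≠ 0 → ∃ g ∈ G, g a ∉ Submodule.span F {a})
    (hC : ∀ (N k : ℕ) (e : Fin k → ℕ), 2 ≤ N → (∀ i, 2 ≤ e i) → (∀ i, e i ∣ N) →
      (∀ i, 3 * e i ≤ N) → ∑ i, (N - N / e i) = 2 * (N - 1) →
      (N = 12 ∨ N = 24 ∨ N = 60) ∧ (∀ i, e i ≤ 5) ∧ ((∃ i, e i = 4) → N = 24)) :
    (Nat.card G = 12 ∨ Nat.card G = 24 ∨ Nat.card G = 60) ∧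
    (∀ g ∈ G, orderOf g ≤ 5) ∧
    ((∃ g ∈ G, orderOf g = 4) → Nat.card G = 24) ∧
    (∀ v : W, v ≠ 0 → Nat.card {g : G // (g : W ≃ₗ[F] W) v = v} ≤ 5) := by
  classical
  have hFW : Finite W := Module.finite_of_finite F
  have hFL : Finite (W ≃ₗ[F] W) :=
    Finite.of_injective (fun f => (f : W → W)) DFunLike.coe_injective
  have hchar : ringChar F ≠ 2 := by
    intro h
    have h0 : ((ringChar F : ℕ) : F) = 0 := ringChar.Nat.cast_ringChar
    rw [h] at h0
    exact h2 (by exact_mod_cast h0)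
  have : Fintype F := Fintype.ofFinite F
  obtain ⟨δ, hδ⟩ := FiniteField.exists_nonsquare hchar
  have hδ0 : δ ≠ 0 := fun h => hδ (h ▸ IsSquare.zero)
  have hQ0 : Qw 0 = 0 := by
    have := hQs 0 0
    rw [zero_smul, zero_mul, zero_mul] at this
    exact this
  have hQneg : ∀ v : W, Qw (-v) = Qw v := by
    intro v
    have := hQs (-1) v
    rw [neg_one_smul] at this
    rw [this]; ring
  -- the pole set
  let PS : SubMulAction G W :=
    { carrier := {a | (Qw a = 1 ∨ Qw a = δ) ∧ ∃ g ∈ G, g ≠ 1 ∧ g a = a}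
      smul_mem' := by
        rintro h a ⟨ha, g, hg, hg1, hga⟩
        refine ⟨?_, (h : W ≃ₗ[F] W) * g * (h : W ≃ₗ[F] W)⁻¹,
          G.mul_mem (G.mul_mem h.2 hg) (G.inv_mem h.2), ?_, ?_⟩
        · show (Qw ((h : W ≃ₗ[F] W) a) = 1 ∨ Qw ((h : W ≃ₗ[F] W) a) = δ)
          rw [hGO h.2 a]
          exact ha
        · intro hc
          apply hg1
          have : g = (h : W ≃ₗ[F] W)⁻¹ * ((h : W ≃ₗ[F] W) * g * (h : W ≃ₗ[F] W)⁻¹) *
              (h : W ≃ₗ[F] W) := by group
          rw [this, hc]; group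
        · show ((h : W ≃ₗ[F] W) * g * (h : W ≃ₗ[F] W)⁻¹) ((h : W ≃ₗ[F] W) a) = (h : W ≃ₗ[F] W) a
          rw [LinearEquiv.mul_apply, LinearEquiv.mul_apply]
          have : (h : W ≃ₗ[F] W)⁻¹ ((h : W ≃ₗ[F] W) a) = a := by
            rw [← LinearEquiv.mul_apply, inv_mul_cancel]; rfl
          rw [this, hga] }
  have hPSmem : ∀ a : W, a ∈ PS ↔ (Qw a = 1 ∨ Qw a = δ) ∧ ∃ g ∈ G, g ≠ 1 ∧ g a = a :=
    fun a => Iff.rfl
  have hsmul : ∀ (g : G) (x : PS), ((g • x : PS) : W) = (g : W ≃ₗ[F] W) (x : W) := fun g x => rfl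
  have hne0 : ∀ x : PS, (x : W) ≠ 0 := by
    intro x hx
    have := x.2.1
    rw [hx, hQ0] at this
    rcases this with h | h
    · exact zero_ne_one h
    · exact hδ0 h.symm
  -- the poles of a nonidentity element
  have hpole : ∀ g : G, g ≠ 1 → ∃ x x' : PS, x ≠ x' ∧ g • x = x ∧ g • x' = x' ∧
      ∀ y : PS, g • y = y → y = x ∨ y = x' := by
    intro g hg1
    have hg1' : (g : W ≃ₗ[F] W) ≠ 1 := fun h => hg1 (Subtype.ext h)
    obtain ⟨a, hQa, hfa⟩ := hA g g.2 hg1'
    obtain ⟨s, hs0, hs⟩ := norm_exists hδ hQa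
    have hga : (g : W ≃ₗ[F] W) a = a := (hfa a).mpr (Submodule.mem_span_singleton_self a)
    have hQsa : Qw (s • a) = s * s * Qw a := hQs s a
    have hp : s • a ∈ PS := by
      rw [hPSmem]
      refine ⟨by rw [hQsa]; exact hs, g, g.2, hg1', ?_⟩
      rw [map_smul, hga]
    have hnp : -(s • a) ∈ PS := by
      rw [hPSmem]
      refine ⟨by rw [hQneg, hQsa]; exact hs, g, g.2, hg1', ?_⟩
      rw [map_neg, map_smul, hga]
    refine ⟨⟨s • a, hp⟩, ⟨-(s • a), hnp⟩, ?_, ?_, ?_, ?_⟩
    · intro h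
      have h1 : s • a = -(s • a) := congrArg Subtype.val h
      have h3 : (2 : F) • (s • a) = 0 := by
        rw [two_smul]
        nth_rewrite 1 [h1]
        exact neg_add_cancel _
      have := hne0 ⟨s • a, hp⟩
      rcases smul_eq_zero.mp h3 with h4 | h4
      · exact h2 h4
      · exact this h4
    · apply Subtype.ext
      rw [hsmul]
      show (g : W ≃ₗ[F] W) (s • a) = s • a
      rw [map_smul, hga]
    · apply Subtype.ext
      rw [hsmul]
      show (g : W ≃ₗ[F] W) (-(s • a)) = -(s • a)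
      rw [map_neg, map_smul, hga]
    · intro y hy
      have hy' : (g : W ≃ₗ[F] W) (y : W) = (y : W) := by rw [← hsmul, hy]
      obtain ⟨t, ht⟩ := Submodule.mem_span_singleton.mp ((hfa _).mp hy')
      have hQy : t * t * Qw a = 1 ∨ t * t * Qw a = δ := by
        rw [← hQs, ht]
        exact y.2.1
      rcases norm_unique hδ hQa hs hQy with h | h
      · left
        apply Subtype.ext
        show (y : W) = s • a
        rw [← ht, h]
      · right
        apply Subtype.ext
        show (y : W) = -(s • a)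
        rw [← ht, h, neg_smul]
  have hfix : ∀ g : G, g ≠ 1 → Nat.card (fixedBy PS g) = 2 := by
    intro g hg1
    obtain ⟨x, x', hne, hx, hx', hall⟩ := hpole g hg1
    have : fixedBy PS g = {x, x'} := by
      ext y
      simp only [mem_fixedBy, Set.mem_insert_iff, Set.mem_singleton_iff]
      constructor
      · exact hall y
      · rintro (rfl | rfl)
        · exact hx
        · exact hx'
    rw [this, Nat.card_coe_set_eq, Set.ncard_pair hne]
  have hstab : ∀ x : PS, ∃ g : G, g ≠ 1 ∧ g • x = x := by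
    intro x
    obtain ⟨g, hg, hg1, hgx⟩ := x.2.2
    refine ⟨⟨g, hg⟩, fun h => hg1 (congrArg Subtype.val h), Subtype.ext ?_⟩
    rw [hsmul]
    exact hgx
  have horb : ∀ x : PS, 3 ≤ Nat.card (orbit G x) := by
    intro x
    by_contra hlt
    push Not at hlt
    obtain ⟨g, hg, hgx⟩ := hirr (x : W) (hne0 x)
    set x' : PS := (⟨g, hg⟩ : G) • x with hx'
    have hx'W : (x' : W) = g (x : W) := rfl
    have hne : x ≠ x' := by
      intro h
      apply hgx
      rw [← hx'W, ← h]
      exact Submodule.mem_span_singleton_self _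
    have horbeq : ({x, x'} : Set PS) = orbit G x := by
      refine Set.eq_of_subset_of_ncard_le ?_ ?_ (Set.toFinite _)
      · intro y hy
        rcases hy with rfl | rfl
        · exact mem_orbit_self _
        · exact mem_orbit _ _
      · rw [Set.ncard_pair hne, ← Nat.card_coe_set_eq]
        omega
    obtain ⟨c, hc1, hcx⟩ := hstab x
    have hcx'mem : c • x' ∈ orbit G x := by
      rw [hx', ← mul_smul]
      exact mem_orbit _ _
    rw [← horbeq] at hcx'mem
    have hcx' : c • x' = x' := by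
      rcases hcx'mem with h | h
      · exfalso
        apply hne
        have : c • x' = c • x := by rw [h, hcx]
        exact (smul_left_cancel c this).symm
      · exact h
    have hc1' : (c : W ≃ₗ[F] W) ≠ 1 := fun h => hc1 (Subtype.ext h)
    obtain ⟨a, hQa, hfa⟩ := hA c c.2 hc1'
    have h1 : (x : W) ∈ Submodule.span F {a} := (hfa _).mp (by rw [← hsmul, hcx])
    have h2' : (x' : W) ∈ Submodule.span F {a} := (hfa _).mp (by rw [← hsmul, hcx'])
    obtain ⟨t, ht⟩ := Submodule.mem_span_singleton.mp h1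
    obtain ⟨t', ht'⟩ := Submodule.mem_span_singleton.mp h2'
    have ht0 : t ≠ 0 := by
      rintro rfl
      rw [zero_smul] at ht
      exact hne0 x ht.symm
    apply hgx
    rw [← hx'W, Submodule.mem_span_singleton]
    refine ⟨t' * t⁻¹, ?_⟩
    rw [← ht, ← ht', smul_smul, mul_assoc, inv_mul_cancel₀ ht0, mul_one]
  have hN : 2 ≤ Nat.card G := by
    obtain ⟨v, hv⟩ := hW
    obtain ⟨g, hg, hgv⟩ := hirr v hv
    have : G ≠ ⊥ := by
      intro hbot
      rw [hbot, Subgroup.mem_bot] at hg
      apply hgv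
      rw [hg]
      exact Submodule.mem_span_singleton_self v
    exact (Subgroup.one_lt_card_iff_ne_bot _).mpr this
  obtain ⟨r1, r2, r3⟩ := pole_abstract (G := G) (P := PS) hfix hstab horb hN hC
  have hord : ∀ g : G, g ≠ 1 →
      ∃ x : PS, orderOf (g : W ≃ₗ[F] W) ∣ Nat.card (stabilizer G x) := by
    intro g hg1
    obtain ⟨x, _, _, hx, _, _⟩ := hpole g hg1
    refine ⟨x, ?_⟩
    have hmem : g ∈ stabilizer G x := hx
    rw [Subgroup.orderOf_coe]
    exact Subgroup.orderOf_dvd_natCard _ hmem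
  refine ⟨r1, ?_, ?_, ?_⟩
  · intro g hg
    by_cases hg1 : (⟨g, hg⟩ : G) = 1
    · have : g = 1 := congrArg Subtype.val hg1
      rw [this, orderOf_one]
      norm_num
    · obtain ⟨x, hx⟩ := hord ⟨g, hg⟩ hg1
      have h5 := r2 x
      have hpos : 0 < Nat.card (stabilizer G x) := Nat.card_pos
      exact (Nat.le_of_dvd hpos hx).trans h5
  · rintro ⟨g, hg, ho⟩
    have hg1 : (⟨g, hg⟩ : G) ≠ 1 := by
      intro h
      have : g = 1 := congrArg Subtype.val h
      rw [this, orderOf_one] at ho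
      omega
    obtain ⟨x, hx⟩ := hord ⟨g, hg⟩ hg1
    have h5 := r2 x
    have hpos : 0 < Nat.card (stabilizer G x) := Nat.card_pos
    apply r3
    refine ⟨x, ?_⟩
    change orderOf g ∣ _ at hx
    rw [ho] at hx
    obtain ⟨k, hk⟩ := hx
    omega
  · intro v hv
    by_cases htriv : ∀ g : G, (g : W ≃ₗ[F] W) v = v → g = 1
    · have hsub : Subsingleton {g : G // (g : W ≃ₗ[F] W) v = v} := by
        constructor
        rintro ⟨a, ha⟩ ⟨b, hb⟩
        apply Subtype.ext
        show a = b
        rw [htriv a ha, htriv b hb]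
      have := Finite.card_le_one_iff_subsingleton.mpr hsub
      omega
    · push Not at htriv
      obtain ⟨g0, hg0v, hg01⟩ := htriv
      have hg01' : (g0 : W ≃ₗ[F] W) ≠ 1 := fun h => hg01 (Subtype.ext h)
      obtain ⟨a, hQa, hfa⟩ := hA g0 g0.2 hg01'
      obtain ⟨t, ht⟩ := Submodule.mem_span_singleton.mp ((hfa v).mp hg0v)
      have ht0 : t ≠ 0 := by
        rintro rfl
        rw [zero_smul] at ht
        exact hv ht.symm
      obtain ⟨s, hs0, hs⟩ := norm_exists hδ hQa
      have hga : (g0 : W ≃ₗ[F] W) a = a := (hfa a).mpr (Submodule.mem_span_singleton_self a)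
      have hp : s • a ∈ PS := by
        rw [hPSmem]
        refine ⟨by rw [hQs]; exact hs, g0, g0.2, hg01', ?_⟩
        rw [map_smul, hga]
      have hequiv : ∀ g : G, (g : W ≃ₗ[F] W) v = v ↔ g ∈ stabilizer G (⟨s • a, hp⟩ : PS) := by
        intro g
        rw [mem_stabilizer_iff, Subtype.ext_iff, hsmul]
        show _ ↔ (g : W ≃ₗ[F] W) (s • a) = s • a
        rw [← ht, map_smul, map_smul]
        constructor
        · intro h
          rw [smul_right_injective W ht0 h]
        · intro h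
          rw [smul_right_injective W hs0 h]
      have := Nat.card_congr (Equiv.subtypeEquivRight hequiv)
      rw [this]
      exact r2 _

end Main

end Cfsg.Agent.Lib.Helper98_OFA_P3
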