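import Mathlib
import Cfsg.Agent.Lib.Helper98_OFADefs
import Cfsg.Agent.Lib.Helper52_OFA_REL
import Cfsg.Agent.Lib.Helper43_OFA_DETRF
import Cfsg.Agent.Lib.Helper93_OFA_P3A
import Cfsg.Agent.Lib.Helper70_OFA_P3C
import Cfsg.Agent.Lib.Helper98_OFA_P3

/-!
helper61: OFA package P3REL (architect helper98): the relative form of P3 for `RotGp Q B A`.

`G⁺ = RotGp Q B A ≤ G' = closure (Rf '' A)`, so `p ∤ |G⁺|`; `det = 1` on `G⁺` (DETRF); pull back along `extU`
(REL) to `G_U ≤ O(U)`; hypothesis `hord` of P3A from `orderOf g ∣ |G'|`; no invariant line from `hirr`; apply P3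
(with P3A, P3C) and transport back.
-/

set_option autoImplicit false
set_option linter.unusedSectionVars false
set_option linter.unusedVariables false
set_option linter.style.haveILetI false

namespace Cfsg.Agent.Lib.Helper61_OFA_P3REL

open Module Cfsg.Agent.Lib.Helper94_Symp Cfsg.Agent.Lib.Helper94_OrthSmall
  Cfsg.Agent.Lib.Helper94_OrthSiegel Cfsg.Agent.Lib.Helper32_OFDefs
  Cfsg.Agent.Lib.Helper98_OFADefs Cfsg.Agent.Lib.Helper52_OFA_REL

variable {F V : Type*} [Field F] [Finite F] [AddCommGroup V] [Module F V] [FiniteDimensional F V]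
variable {Q : V → F} {B : LinearMap.BilinForm F V}

/-- `extU` as a monoid homomorphism -/
noncomputable def extHom (U U' : Submodule F V) (hc : IsCompl U U') :
    (U ≃ₗ[F] U) →* (V ≃ₗ[F] V) where
  toFun := extU U U' hc
  map_one' := extU_one U U' hc
  map_mul' := extU_mul U U' hc

theorem extHom_apply (U U' : Submodule F V) (hc : IsCompl U U') (h : U ≃ₗ[F] U) :
    extHom U U' hc h = extU U U' hc h := rfl

/-- the characteristic of a field of prime order -/
theorem cast_eq_zero_iff_of_prime (hp : (Nat.card F).Prime) (n : ℕ) :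
    (n : F) = 0 ↔ Nat.card F ∣ n := by
  haveI := Fintype.ofFinite F
  have h0 : ((Nat.card F : ℕ) : F) = 0 := by
    rw [Nat.card_eq_fintype_card]; exact Nat.cast_card_eq_zero F
  have hdvd : ringChar F ∣ Nat.card F := ringChar.dvd h0
  have hrc : ringChar F = Nat.card F := by
    rcases (Nat.dvd_prime hp).mp hdvd with h | h
    · exact absurd h (CharP.ringChar_ne_one)
    · exact h
  rw [← hrc]
  exact ringChar.spec F n

/-- no line of `U` is invariant under the rotation group -/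
theorem no_inv_line (hQs : ∀ (a : F) (v : V), Q (a • v) = a * a * Q v)
    (hQp : ∀ u v : V, Q (u + v) = Q u + Q v + B u v)
    (U : Submodule F V) (hUd : finrank F U = 3)
    (A : Set V) (hA : ∀ a ∈ A, a ∈ U ∧ Q a ≠ 0) (hspan : Submodule.span F A = U)
    (hirr : ∀ v ∈ U, v ≠ 0 → ∃ a ∈ A, B v a ≠ 0 ∧ v ∉ Submodule.span F {a})
    {v : V} (hvU : v ∈ U) (hv0 : v ≠ 0)
    (hinv : ∀ g ∈ RotGp Q B A, ∃ t : F, g v = t • v) : False := by
  classical
  obtain ⟨a, haA, hva, hvna⟩ := hirr v hvU hv0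
  obtain ⟨haU, hQa⟩ := hA a haA
  have hQ0 : Q (0 : V) = 0 := by
    have := hQs 0 (0 : V)
    rw [zero_smul, zero_mul, zero_mul] at this
    exact this
  have ha0 : a ≠ 0 := fun h => hQa (by rw [h, hQ0])
  set c : F := (Q a)⁻¹ * B v a with hc
  have hc0 : c ≠ 0 := mul_ne_zero (inv_ne_zero hQa) hva
  set v' : V := Rf Q B a v with hv'
  have hv'e : v' = v - c • a := by rw [hv', Rf_apply Q B hQs hQp hQa]
  -- every `b ∈ A` is in the span of `v, v'`
  have hb : ∀ b ∈ A, b ∈ Submodule.span F ({v, v'} : Set V) := by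
    intro b hbA
    obtain ⟨hbU, hQb⟩ := hA b hbA
    have hg : Rf Q B b * Rf Q B a ∈ RotGp Q B A :=
      Subgroup.subset_closure ⟨b, hbA, a, haA, rfl⟩
    obtain ⟨t, ht⟩ := hinv _ hg
    rw [LinearEquiv.mul_apply, ← hv', Rf_apply Q B hQs hQp hQb] at ht
    set d : F := (Q b)⁻¹ * B v' b with hd
    by_cases hd0 : d = 0
    · exfalso
      rw [hd0, zero_smul, sub_zero, hv'e] at ht
      -- `c • a = (1 - t) • v`
      have h1 : c • a = (1 - t) • v := by
        rw [sub_smul, one_smul, ← ht]; abel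
      by_cases ht1 : 1 - t = 0
      · rw [ht1, zero_smul] at h1
        rcases smul_eq_zero.1 h1 with h | h
        · exact hc0 h
        · exact ha0 h
      · apply hvna
        rw [Submodule.mem_span_singleton]
        refine ⟨(1 - t)⁻¹ * c, ?_⟩
        rw [mul_smul, h1, smul_smul, inv_mul_cancel₀ ht1, one_smul]
    · have h1 : b = d⁻¹ • (v' - t • v) := by
        rw [← ht]
        rw [sub_sub_cancel, smul_smul, inv_mul_cancel₀ hd0, one_smul]
      rw [h1]
      apply Submodule.smul_mem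
      apply Submodule.sub_mem
      · exact Submodule.subset_span (by simp)
      · exact Submodule.smul_mem _ _ (Submodule.subset_span (by simp))
  have hle : U ≤ Submodule.span F ({v, v'} : Set V) := by
    rw [← hspan]
    exact Submodule.span_le.2 hb
  have h1 : finrank F U ≤ finrank F (Submodule.span F ({v, v'} : Set V)) :=
    Submodule.finrank_mono hle
  have h2 : finrank F (Submodule.span F ((({v, v'} : Finset V)) : Set V)) ≤
      ({v, v'} : Finset V).card := finrank_span_finset_le_card _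
  have h3 : ({v, v'} : Finset V).card ≤ 2 := Finset.card_le_two
  rw [Finset.coe_insert, Finset.coe_singleton] at h2
  omega

/-- **OFA-P3REL** -/
theorem P3REL (hp : (Nat.card F).Prime) (hQs : ∀ (a : F) (v : V), Q (a • v) = a * a * Q v)
    (hQp : ∀ u v : V, Q (u + v) = Q u + Q v + B u v) (h2 : (2 : F) ≠ 0)
    (U : Submodule F V) (hUd : finrank F U = 3)
    (hUn : ∀ u ∈ U, (∀ v ∈ U, B u v = 0) → u = 0)
    (A : Set V) (hA : ∀ a ∈ A, a ∈ U ∧ Q a ≠ 0) (hspan : Submodule.span F A = U)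
    (hirr : ∀ v ∈ U, v ≠ 0 → ∃ a ∈ A, B v a ≠ 0 ∧ v ∉ Submodule.span F {a})
    (hnd : ¬ Nat.card F ∣ Nat.card (Subgroup.closure (Rf Q B '' A))) :
    (∀ g ∈ RotGp Q B A, orderOf g ≤ 5) ∧
    ((∃ g ∈ RotGp Q B A, orderOf g = 4) → Nat.card (RotGp Q B A) = 24) ∧
    (∀ v ∈ U, v ≠ 0 → Nat.card {g : RotGp Q B A // (g : V ≃ₗ[F] V) v = v} ≤ 5) := by
  classical
  set G' := Subgroup.closure (Rf Q B '' A) with hG'
  have hsymm : ∀ x y, B x y = B y x := B_symm Q B hQp
  have hndg : (B.restrict U).Nondegenerate := by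
    constructor
    · intro x hx
      apply Subtype.ext
      apply hUn x x.2
      intro v hv
      exact hx ⟨v, hv⟩
    · intro y hy
      apply Subtype.ext
      apply hUn y y.2
      intro v hv
      rw [hsymm]
      exact hy ⟨v, hv⟩
  have hrefl : B.IsRefl := fun x y hxy => by rw [hsymm, hxy]
  set U' := B.orthogonal U with hU'
  have hc : IsCompl U U' :=
    LinearMap.BilinForm.isCompl_orthogonal_of_restrict_nondegenerate hrefl hndg
  have horth : ∀ u ∈ U, ∀ v ∈ U', B u v = 0 := fun u hu v hv =>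
    LinearMap.BilinForm.mem_orthogonal_iff.mp hv u hu
  -- properties of the elements of `G'`
  have hprop : ∀ g ∈ G', g ∈ oG Q ∧ (∀ x, x ∈ U ↔ g x ∈ U) ∧ (∀ v ∈ U', g v = v) := by
    intro g hg
    induction hg using Subgroup.closure_induction with
    | mem g hg =>
      obtain ⟨a, haA, rfl⟩ := hg
      obtain ⟨haU, hQa⟩ := hA a haA
      have hRf : ∀ x, Rf Q B a x = x - ((Q a)⁻¹ * B x a) • a := Rf_apply Q B hQs hQp hQa
      refine ⟨Rf_mem_oG Q B hQs hQp hQa, ?_, ?_⟩
      · intro x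
        constructor
        · intro hx
          rw [hRf]
          exact U.sub_mem hx (U.smul_mem _ haU)
        · intro hx
          have : x = Rf Q B a x + ((Q a)⁻¹ * B x a) • a := by rw [hRf]; abel
          rw [this]
          exact U.add_mem hx (U.smul_mem _ haU)
      · intro v hv
        rw [hRf, hsymm v a, horth a haU v hv, mul_zero, zero_smul, sub_zero]
    | one => exact ⟨Subgroup.one_mem _, fun x => Iff.rfl, fun v _ => rfl⟩
    | mul g g' _ _ ih ih' =>
      refine ⟨Subgroup.mul_mem _ ih.1 ih'.1, fun x => ?_, fun v hv => ?_⟩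
      · rw [LinearEquiv.mul_apply, ← ih.2.1, ← ih'.2.1]
      · rw [LinearEquiv.mul_apply, ih'.2.2 v hv, ih.2.2 v hv]
    | inv g _ ih =>
      refine ⟨Subgroup.inv_mem _ ih.1, fun x => ?_, fun v hv => ?_⟩
      · rw [ih.2.1 (g⁻¹ x), apply_inv_apply']
      · conv_lhs => rw [← ih.2.2 v hv]
        exact inv_apply_apply' g v
  haveI : Finite V := Module.finite_of_finite F
  haveI : Finite (V ≃ₗ[F] V) :=
    Finite.of_injective (fun g : V ≃ₗ[F] V => (g : V → V))
      (fun g h hgh => LinearEquiv.ext (fun x => congrFun hgh x))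
  haveI : Finite U := Module.finite_of_finite F
  haveI : Finite (U ≃ₗ[F] U) :=
    Finite.of_injective (fun g : U ≃ₗ[F] U => (g : U → U))
      (fun g h hgh => LinearEquiv.ext (fun x => congrFun hgh x))
  -- the rotation group
  set Gp := RotGp Q B A with hGp
  have hle : Gp ≤ G' := by
    rw [hGp]
    unfold RotGp
    apply (Subgroup.closure_le _).2
    rintro g ⟨a, ha, b, hb, rfl⟩
    exact Subgroup.mul_mem _ (Subgroup.subset_closure ⟨a, ha, rfl⟩)
      (Subgroup.subset_closure ⟨b, hb, rfl⟩)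
  -- `det = 1` on `Gp`
  have hdetU : ∀ a ∈ A, LinearEquiv.det (Rf Q B a) = -1 := by
    intro a ha
    apply Units.ext
    rw [LinearEquiv.coe_det, Units.val_neg, Units.val_one]
    exact Cfsg.Agent.Lib.Helper43_OFA_DETRF.DETRF hQs hQp (hA a ha).2
  have hdet : Gp ≤ (LinearEquiv.det : (V ≃ₗ[F] V) →* Fˣ).ker := by
    rw [hGp]
    unfold RotGp
    apply (Subgroup.closure_le _).2
    rintro g ⟨a, ha, b, hb, rfl⟩
    rw [SetLike.mem_coe, MonoidHom.mem_ker, map_mul, hdetU a ha, hdetU b hb, neg_mul_neg, one_mul]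
  -- the pulled back group
  set φ := extHom U U' hc with hφ
  have hφinj : Function.Injective φ := extU_injective U U' hc
  set GU : Subgroup (U ≃ₗ[F] U) := Gp.comap φ with hGU
  have hsurj : ∀ g ∈ Gp, ∃ h ∈ GU, φ h = g := by
    intro g hg
    obtain ⟨hgO, hgU, hgU'⟩ := hprop g (hle hg)
    obtain ⟨h, hh⟩ := extU_surj U U' hc g (fun u hu => (hgU u).mp hu) hgU'
    refine ⟨h, ?_, hh⟩
    rw [hGU, Subgroup.mem_comap]
    rw [hφ, extHom_apply, hh]
    exact hg
  have hmemGU : ∀ h, h ∈ GU ↔ φ h ∈ Gp := fun h => Subgroup.mem_comap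
  have hφv : ∀ (h : U ≃ₗ[F] U) (u : U), φ h (u : V) = (h u : V) := fun h u =>
    extU_apply_left U U' hc h u
  -- cardinality
  have hcard : Nat.card GU = Nat.card Gp := by
    apply Nat.card_eq_of_bijective (fun h : GU => (⟨φ h.1, (hmemGU h.1).1 h.2⟩ : Gp))
    constructor
    · intro h h' hh
      apply Subtype.ext
      apply hφinj
      exact congrArg Subtype.val hh
    · rintro ⟨g, hg⟩
      obtain ⟨h, hh, rfl⟩ := hsurj g hg
      exact ⟨⟨h, hh⟩, rfl⟩
  -- the hypotheses of P3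
  have hQsU : ∀ (a : F) (v : U), (fun u : U => Q u) (a • v) = a * a * (fun u : U => Q u) v :=
    fun a v => hQs a v
  have hQpU : ∀ u v : U, (fun u : U => Q u) (u + v) =
      (fun u : U => Q u) u + (fun u : U => Q u) v + (B.restrict U) u v := fun u v => hQp u v
  have hW : ∃ v : U, v ≠ 0 := by
    by_contra hcon
    push Not at hcon
    have : finrank F U = 0 := by
      rw [finrank_zero_iff]
      exact ⟨fun a b => by rw [hcon a, hcon b]⟩
    omega
  have hGO : GU ≤ oG (fun u : U => Q u) := by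
    intro h hh
    rw [← extU_mem_oG hQp U U' hc horth]
    exact (hprop _ (hle ((hmemGU h).1 hh))).1
  have hAx : ∀ g ∈ GU, g ≠ 1 → ∃ a : U, (fun u : U => Q u) a ≠ 0 ∧
      ∀ v, g v = v ↔ v ∈ Submodule.span F {a} := by
    intro g hg hg1
    have hgp : φ g ∈ Gp := (hmemGU g).1 hg
    apply Cfsg.Agent.Lib.Helper93_OFA_P3A.P3A hQsU hQpU h2 hndg hUd g (hGO hg) _ hg1
    · -- the order
      intro h0
      rw [cast_eq_zero_iff_of_prime hp] at h0
      apply hnd
      apply h0.trans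
      rw [← orderOf_injective φ hφinj g]
      exact Subgroup.orderOf_dvd_natCard G' (hle hgp)
    · -- the determinant
      have h1 := hdet hgp
      rw [MonoidHom.mem_ker] at h1
      have h3 := congrArg Units.val h1
      rw [LinearEquiv.coe_det, Units.val_one] at h3
      rw [← extU_det U U' hc g]
      exact h3
  have hirrU : ∀ a : U, a ≠ 0 → ∃ g ∈ GU, g a ∉ Submodule.span F {a} := by
    intro a ha0
    by_contra hcon
    push Not at hcon
    apply no_inv_line hQs hQp U hUd A hA hspan hirr a.2 (fun h => ha0 (Subtype.ext h))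
    intro g hg
    obtain ⟨h, hh, rfl⟩ := hsurj g hg
    obtain ⟨t, ht⟩ := Submodule.mem_span_singleton.1 (hcon h hh)
    refine ⟨t, ?_⟩
    rw [hφv, ← ht]
    rfl
  obtain ⟨-, hP1, hP2, hP3⟩ := Cfsg.Agent.Lib.Helper98_OFA_P3.P3 hQsU hQpU h2 hW GU hGO hAx hirrU
    (fun N k e => Cfsg.Agent.Lib.Helper70_OFA_P3C.P3C N k e)
  refine ⟨?_, ?_, ?_⟩
  · intro g hg
    obtain ⟨h, hh, rfl⟩ := hsurj g hg
    rw [orderOf_injective φ hφinj h]
    exact hP1 h hh
  · rintro ⟨g, hg, hg4⟩
    obtain ⟨h, hh, rfl⟩ := hsurj g hg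
    rw [orderOf_injective φ hφinj h] at hg4
    rw [← hcard]
    exact hP2 ⟨h, hh, hg4⟩
  · intro v hvU hv0
    have hv0' : (⟨v, hvU⟩ : U) ≠ 0 := fun h => hv0 (congrArg Subtype.val h)
    refine le_trans ?_ (hP3 ⟨v, hvU⟩ hv0')
    apply Nat.card_le_card_of_surjective
      (fun h : {g : GU // (g : U ≃ₗ[F] U) ⟨v, hvU⟩ = ⟨v, hvU⟩} =>
        (⟨⟨φ h.1.1, (hmemGU h.1.1).1 h.1.2⟩, by
          have := hφv h.1.1 ⟨v, hvU⟩
          rw [h.2] at this
          exact this⟩ : {g : Gp // (g : V ≃ₗ[F] V) v = v}))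
    rintro ⟨⟨g, hg⟩, hgv⟩
    obtain ⟨h, hh, rfl⟩ := hsurj g hg
    refine ⟨⟨⟨h, hh⟩, ?_⟩, rfl⟩
    apply Subtype.ext
    have := hφv h ⟨v, hvU⟩
    rw [← this]
    exact hgv

end Cfsg.Agent.Lib.Helper61_OFA_P3REL
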