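/-
S5679 + S5696 (orthogonal frames), CASE (A), market OFA (architect helper98), package TRANS
(proof helper64): if all Siegel elements of a nondegenerate 3-space `U` are in `L` then `X ∩ U` is empty or
contains all vectors of norm `c` of `U`.
-/
import Mathlib
import Cfsg.Agent.Lib.Helper98_OFADefs
import Cfsg.Agent.Lib.Helper64_OFA_ROOTTRANS
import Cfsg.Agent.Lib.Helper30_OFA_QUADVAL

set_option autoImplicit false
set_option linter.unusedSectionVars false

namespace Cfsg.Agent.Lib.Helper64_OFA_TRANS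

open Module Cfsg.Agent.Lib.Helper94_Symp Cfsg.Agent.Lib.Helper94_OrthSmall
  Cfsg.Agent.Lib.Helper94_OrthSiegel Cfsg.Agent.Lib.Helper32_OFDefs
  Cfsg.Agent.Lib.Helper98_OFADefs Cfsg.Agent.Lib.Helper64_OFA_ROOTTRANS

variable {F V : Type*} [Field F] [Finite F] [AddCommGroup V] [Module F V] [FiniteDimensional F V]
variable {Q : V → F} {B : LinearMap.BilinForm F V}

/-- a non-zero vector of a 3-space orthogonal to two given vectors -/
theorem exists_perp2 (U : Submodule F V) (hUd : finrank F U = 3) (p q : V) :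
    ∃ r ∈ U, r ≠ 0 ∧ B p r = 0 ∧ B q r = 0 := by
  let φ : ↥U →ₗ[F] F × F := ((B p).domRestrict U).prod ((B q).domRestrict U)
  have hker : LinearMap.ker φ ≠ ⊥ := by
    intro h
    have h3 := LinearMap.finrank_range_add_finrank_ker φ
    rw [h, finrank_bot, add_zero, hUd] at h3
    have h4 : finrank F ↥(LinearMap.range φ) ≤ finrank F (F × F) := Submodule.finrank_le _
    rw [finrank_prod, finrank_self] at h4
    omega
  obtain ⟨z, hz, hz0⟩ := Submodule.exists_mem_ne_zero_of_ne_bot hker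
  have hz' : B p (z : V) = 0 ∧ B q (z : V) = 0 := by
    have := LinearMap.mem_ker.mp hz
    simpa [φ, Prod.ext_iff] using this
  exact ⟨(z : V), z.2, fun h => hz0 (Subtype.ext h), hz'.1, hz'.2⟩

/-- a singular partner of a non-zero singular vector -/
theorem exists_partner (hQs : ∀ (a : F) (v : V), Q (a • v) = a * a * Q v)
    (hQp : ∀ u v : V, Q (u + v) = Q u + Q v + B u v) (U : Submodule F V)
    (hUn : ∀ u ∈ U, (∀ v ∈ U, B u v = 0) → u = 0) {w : V} (hw : w ∈ U) (hQw : Q w = 0)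
    (hw0 : w ≠ 0) : ∃ u1 ∈ U, Q u1 = 0 ∧ B w u1 = 1 := by
  have hsymm := B_symm Q B hQp
  have hww : B w w = 0 := by rw [B_self Q B hQs hQp, hQw, mul_zero]
  obtain ⟨v, hv, hwv⟩ : ∃ v ∈ U, B w v ≠ 0 := by
    by_contra h
    push Not at h
    exact hw0 (hUn w hw h)
  set s := -(Q v * (B w v)⁻¹) with hs
  set w' := v + s • w with hw'
  have hQw' : Q w' = 0 := by
    rw [hw', Q_add_smul Q B hQs hQp, hQw, hsymm v w, hs]
    field_simp
    ring
  have hBw' : B w w' = B w v := by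
    rw [hw', map_add, map_smul, hww, smul_zero, add_zero]
  refine ⟨(B w v)⁻¹ • w', U.smul_mem _ (U.add_mem hv (U.smul_mem _ hw)), ?_, ?_⟩
  · rw [hQs, hQw', mul_zero]
  · rw [map_smul, hBw', smul_eq_mul, inv_mul_cancel₀ hwv]

/-- a nondegenerate 3-space over a finite field contains a hyperbolic pair (from QUADVAL) -/
theorem exists_hyp (hQs : ∀ (a : F) (v : V), Q (a • v) = a * a * Q v)
    (hQp : ∀ u v : V, Q (u + v) = Q u + Q v + B u v) (h2 : (2 : F) ≠ 0)
    (hQV : ∀ a b d : F, a ≠ 0 → ∃ t s : F, a * t * t + b * t + d = s * s)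
    (U : Submodule F V) (hUd : finrank F U = 3)
    (hUn : ∀ u ∈ U, (∀ v ∈ U, B u v = 0) → u = 0) {x : V} (hxU : x ∈ U) (hx : Q x ≠ 0) :
    ∃ w0 ∈ U, ∃ w1 ∈ U, Q w0 = 0 ∧ Q w1 = 0 ∧ B w0 w1 = 1 := by
  have hsymm := B_symm Q B hQp
  -- a non-zero singular vector
  obtain ⟨w, hwU, hw0, hQw⟩ : ∃ w ∈ U, w ≠ 0 ∧ Q w = 0 := by
    obtain ⟨p, hpU, hp0, hxp, _⟩ := exists_perp2 (B := B) U hUd x x
    by_cases hQp0 : Q p = 0
    · exact ⟨p, hpU, hp0, hQp0⟩
    obtain ⟨r, hrU, hr0, hxr, hpr⟩ := exists_perp2 (B := B) U hUd x p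
    by_cases hQr0 : Q r = 0
    · exact ⟨r, hrU, hr0, hQr0⟩
    obtain ⟨t, s, hts⟩ := hQV (-(Q p * (Q x)⁻¹)) 0 (-(Q r * (Q x)⁻¹))
      (neg_ne_zero.mpr (mul_ne_zero hQp0 (inv_ne_zero hx)))
    refine ⟨s • x + t • p + r, U.add_mem (U.add_mem (U.smul_mem _ hxU) (U.smul_mem _ hpU)) hrU,
      ?_, ?_⟩
    · intro h
      have h1 := congrArg (fun v => B v r) h
      simp only [map_add, map_smul, LinearMap.add_apply, LinearMap.smul_apply, smul_eq_mul, hxr,
        hpr, mul_zero, zero_add, map_zero, LinearMap.zero_apply] at h1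
      rw [B_self Q B hQs hQp] at h1
      rcases mul_eq_zero.mp h1 with h3 | h3
      · exact h2 h3
      · exact hQr0 h3
    · rw [hQp, hQp, hQs, hQs]
      simp only [map_add, map_smul, LinearMap.add_apply, LinearMap.smul_apply, smul_eq_mul, hxp,
        hxr, hpr, mul_zero, add_zero]
      have : s * s = -(Q p * (Q x)⁻¹) * t * t + 0 * t + -(Q r * (Q x)⁻¹) := hts.symm
      rw [this]
      field_simp
      ring
  obtain ⟨u1, hu1U, hQu1, hwu1⟩ := exists_partner hQs hQp U hUn hwU hQw hw0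
  exact ⟨w, hwU, u1, hu1U, hQw, hQu1, hwu1⟩

/-- `X` is invariant under the isometries of `L` -/
theorem XL_map (hQs : ∀ (a : F) (v : V), Q (a • v) = a * a * Q v)
    (hQp : ∀ u v : V, Q (u + v) = Q u + Q v + B u v) (L : Subgroup (V ≃ₗ[F] V))
    (hLO : L ≤ oG Q) {c : F} (hc : c ≠ 0) {y : V} (hy : y ∈ XL Q B c L) {σ : V ≃ₗ[F] V}
    (hσ : σ ∈ L) : σ y ∈ XL Q B c L := by
  obtain ⟨hy1, hy2⟩ := hy
  have hσO := hLO hσ
  refine ⟨by rw [hσO, hy1], ?_⟩
  rw [← conj_Rf Q B hQs hQp hσO (by rw [hy1]; exact hc)]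
  exact L.mul_mem (L.mul_mem hσ hy2) (L.inv_mem hσ)

/-- `X = -X` -/
theorem XL_neg (hQs : ∀ (a : F) (v : V), Q (a • v) = a * a * Q v)
    (hQp : ∀ u v : V, Q (u + v) = Q u + Q v + B u v) (L : Subgroup (V ≃ₗ[F] V))
    {c : F} (hc : c ≠ 0) {y : V} (hy : -y ∈ XL Q B c L) : y ∈ XL Q B c L := by
  obtain ⟨hy1, hy2⟩ := hy
  have hQy : Q y = c := by
    rw [← hy1, ← neg_one_smul F y, hQs]; ring
  refine ⟨hQy, ?_⟩
  have := Rf_smul Q B hQs hQp (a := y) (by rw [hQy]; exact hc) (t := -1)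
    (neg_ne_zero.mpr one_ne_zero)
  rw [neg_one_smul] at this
  rw [← this]
  exact hy2

/-- STEP: two vectors of norm `c` of `U` with the same product with a singular vector of `U` -/
theorem step (hQs : ∀ (a : F) (v : V), Q (a • v) = a * a * Q v)
    (hQp : ∀ u v : V, Q (u + v) = Q u + Q v + B u v) (h2 : (2 : F) ≠ 0)
    (U : Submodule F V) (hUd : finrank F U = 3)
    (hUn : ∀ u ∈ U, (∀ v ∈ U, B u v = 0) → u = 0)
    (L : Subgroup (V ≃ₗ[F] V)) (hLO : L ≤ oG Q)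
    (hZ : ∀ w ∈ U, Q w = 0 → ∀ z ∈ U, B w z = 0 → sieg Q B w z ∈ L)
    {c : F} (hc : c ≠ 0) {y y' w : V} (hy : y ∈ XL Q B c L) (hyU : y ∈ U) (hy'U : y' ∈ U)
    (hQy' : Q y' = c) (hwU : w ∈ U) (hQw : Q w = 0) (hw0 : w ≠ 0) (hκ : B y w = B y' w) :
    y' ∈ XL Q B c L := by
  have hsymm := B_symm Q B hQp
  have hQy : Q y = c := hy.1
  by_cases hκ0 : B y w = 0
  · -- both vectors are orthogonal to `w`
    obtain ⟨u1, hu1U, hQu1, hwu1⟩ := exists_partner hQs hQp U hUn hwU hQw hw0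
    have hne : B w u1 ≠ 0 := by rw [hwu1]; exact one_ne_zero
    obtain ⟨z0, hz0U, hz0a, hz0b, hd, hdec⟩ :=
      frame3 hQs hQp U hUd hUn hwU hu1U hQw hQu1 hne
    have hww : B w w = 0 := by rw [B_self Q B hQs hQp, hQw, mul_zero]
    have hu1w : B u1 w = 1 := by rw [hsymm]; exact hwu1
    have hz0w : B z0 w = 0 := by rw [hsymm]; exact hz0a
    have hcoord : ∀ v ∈ U, B v w = 0 → ∃ γ β : F, v = γ • w + β • z0 := by
      intro v hv hvw
      obtain ⟨γ, α, β, rfl⟩ := hdec v hv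
      simp only [map_add, map_smul, LinearMap.add_apply, LinearMap.smul_apply, smul_eq_mul, hww,
        hu1w, hz0w, mul_zero, mul_one, zero_add, add_zero] at hvw
      exact ⟨γ, β, by rw [hvw, zero_smul, add_zero]⟩
    have hQcoord : ∀ γ β : F, Q (γ • w + β • z0) = β * β * Q z0 := by
      intro γ β
      rw [hQp, hQs, hQs, hQw]
      simp only [map_smul, LinearMap.smul_apply, smul_eq_mul, hz0a]
      ring
    obtain ⟨γ, β, rfl⟩ := hcoord y hyU hκ0
    obtain ⟨γ', β', rfl⟩ := hcoord y' hy'U (by rw [← hκ]; exact hκ0)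
    rw [hQcoord] at hQy hQy'
    have hβ0 : β ≠ 0 := by
      intro h
      rw [h, zero_mul, zero_mul] at hQy
      exact hc hQy.symm
    have hββ : (β' - β) * (β' + β) = 0 := by
      have h1 : (β' * β' - β * β) * Q z0 = 0 := by rw [sub_mul, hQy, hQy', sub_self]
      rcases mul_eq_zero.mp h1 with h | h
      · rw [← h]; ring
      · exact absurd h hd
    have hσ : ∀ lam : F, sieg Q B w (lam • z0) (γ • w + β • z0) =
        (γ • w + β • z0) - (lam * β * (2 * Q z0)) • w := by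
      intro lam
      have h1 : B w (lam • z0) = 0 := by rw [map_smul, hz0a, smul_zero]
      rw [sieg_apply Q B hQs hQp hQw h1]
      simp only [map_add, map_smul, LinearMap.add_apply, LinearMap.smul_apply, smul_eq_mul, hww,
        hz0w, hz0a, mul_zero, add_zero, zero_smul, zero_add, sub_zero, B_self Q B hQs hQp z0]
      module
    have hσL : ∀ lam : F, sieg Q B w (lam • z0) ∈ L := fun lam =>
      hZ w hwU hQw _ (U.smul_mem _ hz0U) (by rw [map_smul, hz0a, smul_zero])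
    rcases mul_eq_zero.mp hββ with h | h
    · have hβ' : β' = β := by linear_combination h
      have h3 := XL_map hQs hQp L hLO hc hy (hσL (-(γ' - γ) * (β * (2 * Q z0))⁻¹))
      rw [hσ] at h3
      have h4 : (γ • w + β • z0) - (-(γ' - γ) * (β * (2 * Q z0))⁻¹ * β * (2 * Q z0)) • w =
          γ' • w + β' • z0 := by
        have : -(γ' - γ) * (β * (2 * Q z0))⁻¹ * β * (2 * Q z0) = -(γ' - γ) := by
          field_simp
        rw [this, hβ']
        module
      rwa [h4] at h3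
    · have hβ' : β' = -β := by linear_combination h
      have h3 := XL_map hQs hQp L hLO hc hy (hσL ((γ' + γ) * (β * (2 * Q z0))⁻¹))
      rw [hσ] at h3
      have h4 : (γ • w + β • z0) - ((γ' + γ) * (β * (2 * Q z0))⁻¹ * β * (2 * Q z0)) • w =
          -(γ' • w + β' • z0) := by
        have : (γ' + γ) * (β * (2 * Q z0))⁻¹ * β * (2 * Q z0) = γ' + γ := by
          field_simp
        rw [this, hβ']
        module
      rw [h4] at h3
      exact XL_neg hQs hQp L hc h3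
  · -- one Siegel element moves `y` to `y'`
    set κ := B y w with hκdef
    set δ := y' - y with hδ
    have hδU : δ ∈ U := U.sub_mem hy'U hyU
    have hwδ : B w δ = 0 := by
      rw [hδ, map_sub, hsymm w y', hsymm w y, ← hκ, sub_self]
    have hwzz : B w (κ⁻¹ • δ) = 0 := by rw [map_smul, hwδ, smul_zero]
    have hσL : sieg Q B w (κ⁻¹ • δ) ∈ L := hZ w hwU hQw _ (U.smul_mem _ hδU) hwzz
    have hrel : Q δ + B y δ = 0 := by
      have h1 := hQp y δ
      have h2' : y + δ = y' := by rw [hδ]; abel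
      rw [h2', hQy', hQy] at h1
      linear_combination -h1
    have hσy : sieg Q B w (κ⁻¹ • δ) y = y' := by
      rw [sieg_apply Q B hQs hQp hQw hwzz, map_smul, hQs, ← hκdef]
      have e1 : κ • κ⁻¹ • δ = δ := by rw [smul_smul, mul_inv_cancel₀ hκ0, one_smul]
      have e2 : κ⁻¹ • (B y) δ + κ⁻¹ * κ⁻¹ * Q δ * κ = 0 := by
        rw [smul_eq_mul]
        field_simp
        linear_combination hrel
      rw [e1, sub_sub, ← add_smul, e2, zero_smul, sub_zero, hδ]
      abel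
    have h3 := XL_map hQs hQp L hLO hc hy hσL
    rwa [hσy] at h3

omit [Finite F] in
/-- the parameters of the chain of three STEPs -/
theorem chain_params (hQV : ∀ a b d : F, a ≠ 0 → ∃ t s : F, a * t * t + b * t + d = s * s)
    {a b e a' b' e' c d : F} (hd : d ≠ 0) (h1 : a * e + b * b * d = c)
    (h1' : a' * e' + b' * b' * d = c) :
    ∃ β e1 β2 : F, a * e1 + β * β * d = c ∧ a' * e1 + β2 * β2 * d = c := by
  by_cases haa : a = a'
  · exact ⟨b, e, b, h1, by rw [← haa]; exact h1⟩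
  by_cases ha : a = 0
  · have ha' : a' ≠ 0 := fun h => haa (by rw [ha, h])
    refine ⟨b, c * a'⁻¹, 0, ?_, ?_⟩
    · rw [ha, zero_mul, zero_add]
      rw [ha, zero_mul, zero_add] at h1
      exact h1
    · field_simp
      ring
  by_cases ha' : a' = 0
  · refine ⟨0, c * a⁻¹, b', ?_, ?_⟩
    · field_simp
      ring
    · rw [ha', zero_mul, zero_add]
      rw [ha', zero_mul, zero_add] at h1'
      exact h1'
  obtain ⟨t, s, hts⟩ := hQV (a' * a⁻¹) 0 (c * (a - a') * (d * a)⁻¹) (mul_ne_zero ha' (inv_ne_zero ha))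
  refine ⟨t, (c - t * t * d) * a⁻¹, s, ?_, ?_⟩
  · field_simp
    ring
  · have h3 : s * s * d = a' * a⁻¹ * t * t * d + c * (a - a') * a⁻¹ := by
      rw [← hts]
      field_simp
      ring
    calc a' * ((c - t * t * d) * a⁻¹) + s * s * d
        = a' * ((c - t * t * d) * a⁻¹) + (a' * a⁻¹ * t * t * d + c * (a - a') * a⁻¹) := by rw [h3]
      _ = c := by field_simp; ring

/-- OFA-TRANS with the statement of OFA-QUADVAL as a hypothesis -/
theorem TRANS_aux (hQs : ∀ (a : F) (v : V), Q (a • v) = a * a * Q v)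
    (hQp : ∀ u v : V, Q (u + v) = Q u + Q v + B u v) (h2 : (2 : F) ≠ 0)
    (hQV : ∀ a b d : F, a ≠ 0 → ∃ t s : F, a * t * t + b * t + d = s * s)
    (U : Submodule F V) (hUd : finrank F U = 3)
    (hUn : ∀ u ∈ U, (∀ v ∈ U, B u v = 0) → u = 0)
    (L : Subgroup (V ≃ₗ[F] V)) (hLO : L ≤ oG Q)
    (hZ : ∀ w ∈ U, Q w = 0 → ∀ z ∈ U, B w z = 0 → sieg Q B w z ∈ L)
    {c : F} (hc : c ≠ 0) {x : V} (hx : x ∈ XL Q B c L) (hxU : x ∈ U) :
    ∀ y ∈ U, Q y = c → y ∈ XL Q B c L := by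
  intro y hyU hQy
  have hsymm := B_symm Q B hQp
  have hQx : Q x = c := hx.1
  obtain ⟨w0, hw0U, w1, hw1U, hQw0, hQw1, hw01⟩ :=
    exists_hyp hQs hQp h2 hQV U hUd hUn hxU (by rw [hQx]; exact hc)
  have hne : B w0 w1 ≠ 0 := by rw [hw01]; exact one_ne_zero
  obtain ⟨z0, hz0U, hz0a, hz0b, hd, hdec⟩ := frame3 hQs hQp U hUd hUn hw0U hw1U hQw0 hQw1 hne
  have hw00 : B w0 w0 = 0 := by rw [B_self Q B hQs hQp, hQw0, mul_zero]
  have hw11 : B w1 w1 = 0 := by rw [B_self Q B hQs hQp, hQw1, mul_zero]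
  have hw10 : B w1 w0 = 1 := by rw [hsymm]; exact hw01
  have hz0w0 : B z0 w0 = 0 := by rw [hsymm]; exact hz0a
  have hz0w1 : B z0 w1 = 0 := by rw [hsymm]; exact hz0b
  have hw0ne : w0 ≠ 0 := by
    intro h
    rw [h] at hw01
    simp at hw01
  have hw1ne : w1 ≠ 0 := by
    intro h
    rw [h] at hw01
    simp at hw01
  have hQv : ∀ γ α β : F, Q (γ • w0 + α • w1 + β • z0) = γ * α + β * β * Q z0 := by
    intro γ α β
    rw [hQp, hQp, hQs, hQs, hQs, hQw0, hQw1]
    simp only [map_add, map_smul, LinearMap.add_apply, LinearMap.smul_apply, smul_eq_mul, hz0a,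
      hz0b, hw01]
    ring
  have hB1 : ∀ γ α β : F, B (γ • w0 + α • w1 + β • z0) w1 = γ := by
    intro γ α β
    simp only [map_add, map_smul, LinearMap.add_apply, LinearMap.smul_apply, smul_eq_mul, hw01,
      hw11, hz0w1]
    ring
  have hB0 : ∀ γ α β : F, B (γ • w0 + α • w1 + β • z0) w0 = α := by
    intro γ α β
    simp only [map_add, map_smul, LinearMap.add_apply, LinearMap.smul_apply, smul_eq_mul, hw00,
      hw10, hz0w0]
    ring
  have hmem : ∀ γ α β : F, γ • w0 + α • w1 + β • z0 ∈ U := fun γ α β =>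
    U.add_mem (U.add_mem (U.smul_mem _ hw0U) (U.smul_mem _ hw1U)) (U.smul_mem _ hz0U)
  obtain ⟨γ, α, β, rfl⟩ := hdec x hxU
  obtain ⟨γ', α', β', rfl⟩ := hdec y hyU
  rw [hQv] at hQx hQy
  obtain ⟨β1, e1, β2, hp1, hp2⟩ := chain_params hQV hd hQx hQy
  have hstep := fun {y y' w : V} => step hQs hQp h2 U hUd hUn L hLO hZ hc (y := y) (y' := y') (w := w)
  have s1 : γ • w0 + e1 • w1 + β1 • z0 ∈ XL Q B c L :=
    hstep hx (hmem _ _ _) (hmem _ _ _) (by rw [hQv]; exact hp1) hw1U hQw1 hw1ne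
      (by rw [hB1, hB1])
  have s2 : γ' • w0 + e1 • w1 + β2 • z0 ∈ XL Q B c L :=
    hstep s1 (hmem _ _ _) (hmem _ _ _) (by rw [hQv]; exact hp2) hw0U hQw0 hw0ne
      (by rw [hB0, hB0])
  exact hstep s2 (hmem _ _ _) (hmem _ _ _) (by rw [hQv]; exact hQy) hw1U hQw1 hw1ne
    (by rw [hB1, hB1])

/-- OFA-TRANS (L).  If all Siegel elements of `U` are in `L` then `X ∩ U` is empty or everything. -/
theorem TRANS (hcard : 5 ≤ Nat.card F) (hQs : ∀ (a : F) (v : V), Q (a • v) = a * a * Q v)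
    (hQp : ∀ u v : V, Q (u + v) = Q u + Q v + B u v) (h2 : (2 : F) ≠ 0)
    (U : Submodule F V) (hUd : finrank F U = 3)
    (hUn : ∀ u ∈ U, (∀ v ∈ U, B u v = 0) → u = 0)
    (L : Subgroup (V ≃ₗ[F] V)) (hLO : L ≤ oG Q)
    (hZ : ∀ w ∈ U, Q w = 0 → ∀ z ∈ U, B w z = 0 → sieg Q B w z ∈ L)
    {c : F} (hc : c ≠ 0) {x : V} (hx : x ∈ XL Q B c L) (hxU : x ∈ U) :
    ∀ y ∈ U, Q y = c → y ∈ XL Q B c L :=
  TRANS_aux hQs hQp h2 (fun a b d ha => Cfsg.Agent.Lib.Helper30_OFA_QUADVAL.QUADVAL h2 a b d ha)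
    U hUd hUn L hLO hZ hc hx hxU

end Cfsg.Agent.Lib.Helper64_OFA_TRANS
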