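import Mathlib
import Cfsg.Agent.Lib.Helper98_OFADefs

set_option autoImplicit false
set_option linter.unusedSectionVars false
set_option linter.unusedVariables false
set_option linter.unusedSimpArgs false

namespace Cfsg.Agent.Lib.Helper70_OFA_KER

open Module Cfsg.Agent.Lib.Helper94_Symp Cfsg.Agent.Lib.Helper94_OrthSmall
  Cfsg.Agent.Lib.Helper94_OrthSiegel Cfsg.Agent.Lib.Helper32_OFDefs
  Cfsg.Agent.Lib.Helper98_OFADefs

section Rel

variable {F V : Type*} [Field F] [Finite F] [AddCommGroup V] [Module F V] [FiniteDimensional F V]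
variable {Q : V → F} {B : LinearMap.BilinForm F V}

/-- The automorphisms stabilising `U'` (together with their inverses) and commuting on `U'`
with `f`. -/
def commSub (U' : Submodule F V) (f : V ≃ₗ[F] V) : Subgroup (V ≃ₗ[F] V) where
  carrier := {e | (∀ v ∈ U', e v ∈ U' ∧ e⁻¹ v ∈ U') ∧ ∀ v ∈ U', e (f v) = f (e v)}
  mul_mem' := by
    rintro e1 e2 ⟨h1, c1⟩ ⟨h2, c2⟩
    refine ⟨fun v hv => ⟨?_, ?_⟩, fun v hv => ?_⟩
    · rw [LinearEquiv.mul_apply]; exact (h1 _ (h2 v hv).1).1
    · rw [_root_.mul_inv_rev, LinearEquiv.mul_apply]; exact (h2 _ (h1 v hv).2).2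
    · rw [LinearEquiv.mul_apply, LinearEquiv.mul_apply, c2 v hv, c1 _ (h2 v hv).1]
  one_mem' := by
    refine ⟨fun v hv => ⟨hv, ?_⟩, fun v hv => rfl⟩
    rw [inv_one]; exact hv
  inv_mem' := by
    rintro e ⟨h1, c1⟩
    refine ⟨fun v hv => ⟨(h1 v hv).2, ?_⟩, fun v hv => ?_⟩
    · rw [inv_inv]; exact (h1 v hv).1
    · apply e.injective
      rw [apply_inv_apply', c1 _ (h1 v hv).2, apply_inv_apply']

lemma mem_commSub {U' : Submodule F V} {f e : V ≃ₗ[F] V} :
    e ∈ commSub U' f ↔ (∀ v ∈ U', e v ∈ U' ∧ e⁻¹ v ∈ U') ∧ ∀ v ∈ U', e (f v) = f (e v) :=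
  Iff.rfl

/-- OFA-KER (M).  The kernel trick. -/
theorem KER (U U' : Submodule F V) (hc : IsCompl U U') (L : Subgroup (V ≃ₗ[F] V))
    {κ : Type*} (g g' : κ → (V ≃ₗ[F] V)) (hL : ∀ k, g' k ∈ L)
    (hU : ∀ k, ∀ u ∈ U, g k u = g' k u ∧ g k u ∈ U)
    (hU' : ∀ k, ∀ v ∈ U', g k v = v ∧ g' k v ∈ U')
    (hcomm : ∀ k l, ∀ v ∈ U', g' k (g' l v) = g' l (g' k v))
    (hinv : ∀ k, ∀ v ∈ U', g' k (g' k v) = v) :
    ∀ h ∈ Subgroup.closure (Set.range g), h * h ∈ L := by
  -- the generators `g' k` stabilise `U'` with their inverses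
  have hst : ∀ k, ∀ v ∈ U', g' k v ∈ U' ∧ (g' k)⁻¹ v ∈ U' := by
    intro k v hv
    refine ⟨(hU' k v hv).2, ?_⟩
    have : (g' k)⁻¹ v = g' k v := by
      apply (g' k).injective
      rw [apply_inv_apply', hinv k v hv]
    rw [this]; exact (hU' k v hv).2
  -- induction 1: the closure commutes with the generators on `U'`
  have h1 : ∀ k, Subgroup.closure (Set.range g') ≤ commSub U' (g' k) := by
    intro k
    rw [Subgroup.closure_le]
    rintro _ ⟨l, rfl⟩
    exact ⟨hst l, fun v hv => hcomm l k v hv⟩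
  -- induction 2: the closure commutes with itself on `U'`
  have h2 : ∀ f ∈ Subgroup.closure (Set.range g'),
      Subgroup.closure (Set.range g') ≤ commSub U' f := by
    intro f hf
    rw [Subgroup.closure_le]
    rintro _ ⟨l, rfl⟩
    exact ⟨hst l, fun v hv => ((h1 l hf).2 v hv).symm⟩
  -- induction 3: the closure acts by involutions on `U'`
  have h3 : ∀ f ∈ Subgroup.closure (Set.range g'), ∀ v ∈ U', f (f v) = v := by
    intro f hf
    induction hf using Subgroup.closure_induction with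
    | mem x hx =>
      obtain ⟨k, rfl⟩ := hx
      exact hinv k
    | one => intro v _; rfl
    | mul x y hx hy ihx ihy =>
      intro v hv
      have hyv : y v ∈ U' := ((h2 y hy hy).1 v hv).1
      rw [LinearEquiv.mul_apply, LinearEquiv.mul_apply, (h2 x hx hy).2 _ hyv, ihy v hv,
        ihx v hv]
    | inv x hx ihx =>
      intro v hv
      have e1 : x⁻¹ v = x v := by
        apply x.injective
        rw [apply_inv_apply', ihx v hv]
      rw [e1, inv_apply_apply']
  -- pair induction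
  have h4 : ∀ h ∈ Subgroup.closure (Set.range g), ∃ h' ∈ Subgroup.closure (Set.range g'),
      (∀ u ∈ U, h u = h' u) ∧ (∀ u ∈ U, h u ∈ U) ∧ (∀ v ∈ U', h v = v) := by
    intro h hh
    induction hh using Subgroup.closure_induction with
    | mem x hx =>
      obtain ⟨k, rfl⟩ := hx
      exact ⟨g' k, Subgroup.subset_closure ⟨k, rfl⟩, fun u hu => (hU k u hu).1,
        fun u hu => (hU k u hu).2, fun v hv => (hU' k v hv).1⟩
    | one => exact ⟨1, Subgroup.one_mem _, fun u _ => rfl, fun u hu => hu, fun v _ => rfl⟩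
    | mul x y hx hy ihx ihy =>
      obtain ⟨x', hx', a1, a2, a3⟩ := ihx
      obtain ⟨y', hy', b1, b2, b3⟩ := ihy
      refine ⟨x' * y', Subgroup.mul_mem _ hx' hy', fun u hu => ?_, fun u hu => ?_, fun v hv => ?_⟩
      · rw [LinearEquiv.mul_apply, LinearEquiv.mul_apply, a1 _ (b2 u hu), b1 u hu]
      · rw [LinearEquiv.mul_apply]; exact a2 _ (b2 u hu)
      · rw [LinearEquiv.mul_apply, b3 v hv, a3 v hv]
    | inv x hx ihx =>
      obtain ⟨x', hx', a1, a2, a3⟩ := ihx
      -- `x⁻¹` maps `U` into `U`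
      have hxU : ∀ u ∈ U, x⁻¹ u ∈ U := by
        intro u hu
        obtain ⟨w, hw, w', hw', hsum⟩ := Submodule.mem_sup.1
          (show x⁻¹ u ∈ U ⊔ U' by rw [hc.sup_eq_top]; exact Submodule.mem_top)
        have e1 : u = x w + w' := by
          have := congrArg x hsum
          rw [map_add, a3 w' hw', apply_inv_apply'] at this
          exact this.symm
        have hw'U : w' ∈ U := by
          have : w' = u - x w := by rw [e1]; abel
          rw [this]; exact U.sub_mem hu (a2 w hw)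
        have hw'0 : w' = 0 := by
          have := hc.disjoint.le_bot (show w' ∈ U ⊓ U' from ⟨hw'U, hw'⟩)
          simpa using this
        rw [← hsum, hw'0, add_zero]; exact hw
      refine ⟨x'⁻¹, Subgroup.inv_mem _ hx', fun u hu => ?_, hxU, fun v hv => ?_⟩
      · apply x'.injective
        rw [apply_inv_apply', ← a1 _ (hxU u hu), apply_inv_apply']
      · apply x.injective
        rw [apply_inv_apply', a3 v hv]
  intro h hh
  obtain ⟨h', hh', a1, a2, a3⟩ := h4 h hh
  have hL' : Subgroup.closure (Set.range g') ≤ L := by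
    rw [Subgroup.closure_le]
    rintro _ ⟨k, rfl⟩
    exact hL k
  have heq : h * h = h' * h' := by
    ext x
    obtain ⟨u, hu, v, hv, rfl⟩ := Submodule.mem_sup.1
      (show x ∈ U ⊔ U' by rw [hc.sup_eq_top]; exact Submodule.mem_top)
    simp only [LinearEquiv.mul_apply, map_add]
    rw [a3 v hv, a3 v hv, h3 h' hh' v hv, a1 _ (a2 u hu), a1 u hu]
  rw [heq]
  exact L.mul_mem (hL' hh') (hL' hh')

end Rel

end Cfsg.Agent.Lib.Helper70_OFA_KER
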