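import Mathlib
import Cfsg.Agent.Lib.Helper98_OFADefs
import Cfsg.Agent.Lib.Helper59_OFA_Tool
import Cfsg.Agent.Lib.Helper54_OFA_API1
import Cfsg.Agent.Lib.Helper70_OFA_KER
import Cfsg.Agent.Lib.Helper21_OFA_ROT
import Cfsg.Agent.Lib.Helper59_OFA_U3loc
import Cfsg.Agent.Lib.Helper61_OFA_P3REL
import Cfsg.Agent.Lib.Helper64_OFA_TRANS

set_option autoImplicit false
set_option linter.unusedVariables false
set_option linter.unusedSectionVars false
set_option linter.unusedSimpArgs false
set_option linter.style.haveILetI false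

/-!
helper59, OFA market (helper98), package PART: a partition of the support of `x ∈ X` into three
parts with nonzero partial norms, one of them outside `A`: all unit vectors of
`U = <x_T1, x_T2, x_T3>` are in `X`.

`PART_aux` takes the statements of the packages U3, P3REL, TRANS as hypotheses (in the form in
which they are used: the ambient hypotheses `hp hQs hQp h2 hcard hLO hc` are discharged from the
context); KER, ROT and API1 are imported.
-/

namespace Cfsg.Agent.Lib.Helper59_OFA_PART

open Module Cfsg.Agent.Lib.Helper94_Symp Cfsg.Agent.Lib.Helper94_OrthSmall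
  Cfsg.Agent.Lib.Helper94_OrthSiegel Cfsg.Agent.Lib.Helper32_OFDefs
  Cfsg.Agent.Lib.Helper98_OFADefs Cfsg.Agent.Lib.Helper59_OFA_Tool

variable {F V : Type*} [Field F] [Finite F] [AddCommGroup V] [Module F V] [FiniteDimensional F V]
variable {Q : V → F} {B : LinearMap.BilinForm F V}
variable {ι : Type*} [Fintype ι] [DecidableEq ι] {c : F} {e : ι → V}
variable {L : Subgroup (V ≃ₗ[F] V)}

/-! ### coordinates of partial vectors -/

lemma B_eq_co (hfr : OFr Q B c e) (v : V) (i : ι) : B v (e i) = 2 * c * co B c e v i := by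
  unfold co
  rw [← mul_assoc, mul_inv_cancel₀ hfr.two_c, one_mul]

lemma part_eq_sum (T : Finset ι) (x : V) :
    part B c e T x = ∑ j, (if j ∈ T then co B c e x j else 0) • e j := by
  unfold part
  simp only [ite_smul, zero_smul]
  rw [Finset.sum_ite_mem, Finset.univ_inter]

lemma co_part (hfr : OFr Q B c e) (T : Finset ι) (x : V) (i : ι) :
    co B c e (part B c e T x) i = if i ∈ T then co B c e x i else 0 := by
  rw [part_eq_sum, hfr.co_sum]

lemma B_part_disj (hfr : OFr Q B c e) {T T' : Finset ι} (hd : Disjoint T T') (x : V) :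
    B (part B c e T x) (part B c e T' x) = 0 := by
  rw [hfr.B_eq]
  rw [Finset.sum_eq_zero, mul_zero]
  intro i _
  rw [co_part hfr, co_part hfr]
  by_cases hi : i ∈ T
  · rw [if_neg (Finset.disjoint_left.mp hd hi), mul_zero]
  · rw [if_neg hi, zero_mul]

lemma B_part_self (hfr : OFr Q B c e) (T : Finset ι) (x : V) :
    B (part B c e T x) (part B c e T x) = 2 * c * nu B c e T x := by
  rw [hfr.B_eq]
  congr 1
  unfold nu
  have h1 : ∑ i ∈ T, co B c e x i * co B c e x i =
      ∑ i, if i ∈ T then co B c e x i * co B c e x i else 0 := by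
    rw [Finset.sum_ite_mem, Finset.univ_inter]
  rw [h1]
  refine Finset.sum_congr rfl (fun i _ => ?_)
  rw [co_part hfr]
  split_ifs
  · rfl
  · rw [mul_zero]

lemma Q_part (hfr : OFr Q B c e) (T : Finset ι) (x : V) :
    Q (part B c e T x) = c * nu B c e T x := by
  have h1 := B_self Q B hfr.hQs hfr.hQp (part B c e T x)
  rw [B_part_self hfr] at h1
  have h2 : (2 : F) * (c * nu B c e T x) = 2 * Q (part B c e T x) := by rw [← h1]; ring
  exact (mul_left_cancel₀ hfr.h2 h2).symm

lemma zJ_part_self (hfr : OFr Q B c e) (T : Finset ι) (x : V) :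
    zJ B c e T (part B c e T x) = -part B c e T x := by
  apply hfr.ext
  intro i
  rw [hfr.B_zJ, map_neg, LinearMap.neg_apply, B_eq_co hfr, co_part hfr]
  split_ifs
  · rfl
  · rw [mul_zero, neg_zero]

lemma zJ_part_disj (hfr : OFr Q B c e) {T T' : Finset ι} (hd : Disjoint T T') (x : V) :
    zJ B c e T (part B c e T' x) = part B c e T' x := by
  apply hfr.ext
  intro i
  rw [hfr.B_zJ, B_eq_co hfr, co_part hfr]
  by_cases hi : i ∈ T
  · rw [if_pos hi, if_neg (Finset.disjoint_left.mp hd hi), mul_zero, neg_zero]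
  · rw [if_neg hi]

lemma eq_sum_parts (hfr : OFr Q B c e) {x : V} {T1 T2 T3 : Finset ι} (hd12 : Disjoint T1 T2)
    (hd13 : Disjoint T1 T3) (hd23 : Disjoint T2 T3) (hun : T1 ∪ T2 ∪ T3 = osupp B c e x) :
    x = part B c e T1 x + part B c e T2 x + part B c e T3 x := by
  apply hfr.ext
  intro i
  simp only [map_add, LinearMap.add_apply, B_eq_co hfr, co_part hfr]
  by_cases h1 : i ∈ T1
  · rw [if_pos h1, if_neg (Finset.disjoint_left.mp hd12 h1),
      if_neg (Finset.disjoint_left.mp hd13 h1)]
    ring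
  · by_cases h2 : i ∈ T2
    · rw [if_neg h1, if_pos h2, if_neg (Finset.disjoint_left.mp hd23 h2)]
      ring
    · by_cases h3 : i ∈ T3
      · rw [if_neg h1, if_neg h2, if_pos h3]
        ring
      · rw [if_neg h1, if_neg h2, if_neg h3]
        have hi : i ∉ osupp B c e x := by
          rw [← hun]
          simp [h1, h2, h3]
        rw [mem_osupp, not_not] at hi
        rw [hi]
        ring

/-- OFA-PART with the statements of U3, P3REL, TRANS as hypotheses. -/
theorem PART_aux (hC : TCtx Q B c e L) (hp5 : 5 ≤ Nat.card F)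
    (hU3 : ∀ (U : Submodule F V), finrank F U = 3 →
      (∀ u ∈ U, (∀ v ∈ U, B u v = 0) → u = 0) →
      ∀ (A : Set V), (∀ a ∈ A, a ∈ U ∧ Q a ≠ 0) → Submodule.span F A = U →
      Nat.card F ∣ Nat.card (Subgroup.closure (Rf Q B '' A)) →
      ∀ w ∈ U, Q w = 0 → ∀ z ∈ U, B w z = 0 →
        sieg Q B w z ∈ Subgroup.closure (Rf Q B '' A))
    (hP3REL : ∀ (U : Submodule F V), finrank F U = 3 →
      (∀ u ∈ U, (∀ v ∈ U, B u v = 0) → u = 0) →
      ∀ (A : Set V), (∀ a ∈ A, a ∈ U ∧ Q a ≠ 0) → Submodule.span F A = U →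
      (∀ v ∈ U, v ≠ 0 → ∃ a ∈ A, B v a ≠ 0 ∧ v ∉ Submodule.span F {a}) →
      ¬ Nat.card F ∣ Nat.card (Subgroup.closure (Rf Q B '' A)) →
      (∀ g ∈ RotGp Q B A, orderOf g ≤ 5) ∧
      ((∃ g ∈ RotGp Q B A, orderOf g = 4) → Nat.card (RotGp Q B A) = 24) ∧
      (∀ v ∈ U, v ≠ 0 → Nat.card {g : RotGp Q B A // (g : V ≃ₗ[F] V) v = v} ≤ 5))
    (hTRANS : ∀ (U : Submodule F V), finrank F U = 3 →
      (∀ u ∈ U, (∀ v ∈ U, B u v = 0) → u = 0) →
      (∀ w ∈ U, Q w = 0 → ∀ z ∈ U, B w z = 0 → sieg Q B w z ∈ L) →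
      ∀ x ∈ XL Q B c L, x ∈ U → ∀ y ∈ U, Q y = c → y ∈ XL Q B c L)
    {x : V} (hx : x ∈ XL Q B c L)
    (T1 T2 T3 : Finset ι) (hd12 : Disjoint T1 T2) (hd13 : Disjoint T1 T3) (hd23 : Disjoint T2 T3)
    (hun : T1 ∪ T2 ∪ T3 = osupp B c e x)
    (h1 : nu B c e T1 x ≠ 0) (h2 : nu B c e T2 x ≠ 0) (h3 : nu B c e T3 x ≠ 0)
    (hnA : ¬ InA (nu B c e T1 x) ∨ ¬ InA (nu B c e T2 x) ∨ ¬ InA (nu B c e T3 x)) :
    ∀ y ∈ Submodule.span F {part B c e T1 x, part B c e T2 x, part B c e T3 x}, Q y = c →
      y ∈ XL Q B c L := by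
  classical
  have hfr := hC.fr
  have hQs := hfr.hQs
  have hQp := hfr.hQp
  have h2' := hfr.h2
  have hc0 := hfr.c0
  -- the family
  set T : Fin 3 → Finset ι := ![T1, T2, T3] with hT
  set f : Fin 3 → V := fun k => part B c e (T k) x with hf
  have hdis : ∀ k l : Fin 3, k ≠ l → Disjoint (T k) (T l) := by
    intro k l hkl
    fin_cases k <;> fin_cases l <;> first | exact absurd rfl hkl | skip
    · exact hd12
    · exact hd13
    · exact hd12.symm
    · exact hd23
    · exact hd13.symm
    · exact hd23.symm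
  have hnu : ∀ k : Fin 3, nu B c e (T k) x ≠ 0 := by
    intro k
    fin_cases k
    · exact h1
    · exact h2
    · exact h3
  have horth : ∀ k l : Fin 3, k ≠ l → B (f k) (f l) = 0 := fun k l hkl =>
    B_part_disj hfr (hdis k l hkl) x
  have hns : ∀ k : Fin 3, Q (f k) ≠ 0 := by
    intro k
    rw [hf, Q_part hfr]
    exact mul_ne_zero hc0 (hnu k)
  have hrange : Set.range f = {part B c e T1 x, part B c e T2 x, part B c e T3 x} := by
    ext v
    simp only [Set.mem_range, Set.mem_insert_iff, Set.mem_singleton_iff]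
    constructor
    · rintro ⟨k, rfl⟩
      fin_cases k
      · exact Or.inl rfl
      · exact Or.inr (Or.inl rfl)
      · exact Or.inr (Or.inr rfl)
    · rintro (rfl | rfl | rfl)
      · exact ⟨0, rfl⟩
      · exact ⟨1, rfl⟩
      · exact ⟨2, rfl⟩
  rw [← hrange]
  set U : Submodule F V := Submodule.span F (Set.range f) with hU
  set U' : Submodule F V := Uperp B f with hU'
  have hfU : ∀ k, f k ∈ U := fun k => Submodule.subset_span ⟨k, rfl⟩
  have hUd : finrank F U = 3 := by
    rw [hU, finrank_span hQs hQp h2' horth hns, Fintype.card_fin]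
  have hUn : ∀ u ∈ U, (∀ v ∈ U, B u v = 0) → u = 0 := span_nondeg hQs hQp h2' horth hns
  have hcompl : IsCompl U U' := isCompl hQs hQp h2' horth hns
  -- `x` is the sum of the parts
  have hxsum : x = f 0 + f 1 + f 2 := eq_sum_parts hfr hd12 hd13 hd23 hun
  have hxU : x ∈ U := by
    rw [hxsum]
    exact U.add_mem (U.add_mem (hfU 0) (hfU 1)) (hfU 2)
  have hQx : Q x = c := hx.1
  have hQx0 : Q x ≠ 0 := by rw [hQx]; exact hc0
  have hBxf : ∀ k, B x (f k) = 2 * c * nu B c e (T k) x := by
    intro k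
    have hk : B x (f k) = B (f k) (f k) := by
      have h := B_sum_left horth (fun _ => (1 : F)) k
      rw [Fin.sum_univ_three, one_smul, one_smul, one_smul, one_mul, ← hxsum] at h
      exact h
    rw [hk]
    exact B_part_self hfr (T k) x
  have hBxf0 : ∀ k, B x (f k) ≠ 0 := fun k => by
    rw [hBxf]
    exact mul_ne_zero hfr.two_c (hnu k)
  -- the generating set
  set A : Set V := insert x (Set.range f) with hA
  have hAU : ∀ a ∈ A, a ∈ U ∧ Q a ≠ 0 := by
    rintro a (rfl | ⟨k, rfl⟩)
    · exact ⟨hxU, hQx0⟩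
    · exact ⟨hfU k, hns k⟩
  have hspan : Submodule.span F A = U := by
    apply le_antisymm
    · rw [Submodule.span_le]
      intro a ha
      exact (hAU a ha).1
    · exact Submodule.span_mono (Set.subset_insert _ _)
  set G' : Subgroup (V ≃ₗ[F] V) := Subgroup.closure (Rf Q B '' A) with hG'
  -- all Siegel elements of `U` are in `L`
  have hsieg : ∀ w ∈ U, Q w = 0 → ∀ z ∈ U, B w z = 0 → sieg Q B w z ∈ L := by
    by_cases hdiv : Nat.card F ∣ Nat.card G'
    · -- the unipotent case
      have hG'sieg := hU3 U hUd hUn A hAU hspan hdiv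
      -- the kernel trick
      let g : Option (Fin 3) → (V ≃ₗ[F] V) := fun o => Option.casesOn o (Rf Q B x)
        (fun k => Rf Q B (f k))
      let g' : Option (Fin 3) → (V ≃ₗ[F] V) := fun o => Option.casesOn o (Rf Q B x)
        (fun k => zJ B c e (T k))
      have hzJf : ∀ k l : Fin 3, zJ B c e (T k) (f l) = Rf Q B (f k) (f l) := by
        intro k l
        by_cases hkl : k = l
        · subst hkl
          rw [Rf_self hQs hQp (hns k)]
          exact zJ_part_self hfr (T k) x
        · rw [Rf_fix hQs hQp (hns k) (horth l k (Ne.symm hkl))]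
          exact zJ_part_disj hfr (hdis k l hkl) x
      have hzJU : ∀ k : Fin 3, ∀ u ∈ U, Rf Q B (f k) u = zJ B c e (T k) u := by
        intro k u hu
        obtain ⟨α, rfl⟩ := mem_span_iff.mp hu
        simp only [map_sum, map_smul, hzJf]
      have hzJU' : ∀ k : Fin 3, ∀ v ∈ U', zJ B c e (T k) v ∈ U' := by
        intro k v hv
        apply perp_of_invol hQs hQp (hfr.zJ_mem_oG (T k)) ?_ ?_ hv
        · intro l
          rw [← LinearEquiv.mul_apply, hfr.zJ_mul_self]
          rfl
        · intro l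
          rw [hzJf]
          exact Rf_mem hQs hQp U (hfU k) (hns k) (hfU l)
      have hRxU' : ∀ v ∈ U', Rf Q B x v = v := by
        intro v hv
        apply Rf_fix hQs hQp hQx0
        rw [B_symm Q B hQp]
        exact orth_perp hQp hxU hv
      have hKER := Cfsg.Agent.Lib.Helper70_OFA_KER.KER U U' hcompl L g g'
        (by
          rintro (_ | k)
          · exact hx.2
          · exact Cfsg.Agent.Lib.Helper54_OFA_API1.zJ_mem hC (T k))
        (by
          rintro (_ | k) u hu
          · exact ⟨rfl, Rf_mem hQs hQp U hxU hQx0 hu⟩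
          · exact ⟨hzJU k u hu, Rf_mem hQs hQp U (hfU k) (hns k) hu⟩)
        (by
          rintro (_ | k) v hv
          · refine ⟨hRxU' v hv, ?_⟩
            show Rf Q B x v ∈ U'
            rw [hRxU' v hv]
            exact hv
          · refine ⟨?_, hzJU' k v hv⟩
            apply Rf_fix hQs hQp (hns k)
            exact mem_Uperp.mp hv k)
        (by
          rintro (_ | k) (_ | l) v hv
          · rfl
          · show Rf Q B x (zJ B c e (T l) v) = zJ B c e (T l) (Rf Q B x v)
            rw [hRxU' v hv, hRxU' _ (hzJU' l v hv)]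
          · show zJ B c e (T k) (Rf Q B x v) = Rf Q B x (zJ B c e (T k) v)
            rw [hRxU' v hv, hRxU' _ (hzJU' k v hv)]
          · show zJ B c e (T k) (zJ B c e (T l) v) = zJ B c e (T l) (zJ B c e (T k) v)
            apply hfr.ext
            intro i
            simp only [hfr.B_zJ]
            split_ifs <;> simp)
        (by
          rintro (_ | k) v hv
          · show Rf Q B x (Rf Q B x v) = v
            rw [← LinearEquiv.mul_apply, Rf_mul_self]
            rfl
          · show zJ B c e (T k) (zJ B c e (T k) v) = v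
            rw [← LinearEquiv.mul_apply, hfr.zJ_mul_self]
            rfl)
      have hG'le : G' ≤ Subgroup.closure (Set.range g) := by
        rw [hG', Subgroup.closure_le]
        rintro _ ⟨a, ha, rfl⟩
        apply Subgroup.subset_closure
        rcases ha with rfl | ⟨k, rfl⟩
        · exact ⟨none, rfl⟩
        · exact ⟨some k, rfl⟩
      intro w hw hQw z hz hwz
      have h2inv : B w ((2 : F)⁻¹ • z) = 0 := by rw [map_smul, hwz, smul_zero]
      have hhalf := hKER _ (hG'le (hG'sieg w hw hQw ((2 : F)⁻¹ • z) (U.smul_mem _ hz) h2inv))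
      rw [sieg_mul Q B hQs hQp hQw h2inv h2inv, ← add_smul] at hhalf
      have : (2 : F)⁻¹ + (2 : F)⁻¹ = 1 := by field_simp; norm_num
      rwa [this, one_smul] at hhalf
    · -- the platonic case is impossible
      exfalso
      have hirr : ∀ v ∈ U, v ≠ 0 → ∃ a ∈ A, B v a ≠ 0 ∧ v ∉ Submodule.span F {a} := by
        intro v hv hv0
        by_cases hvx : B v x = 0
        · obtain ⟨k, hk⟩ := exists_ne hQs hQp h2' horth hns hv hv0
          refine ⟨f k, Or.inr ⟨k, rfl⟩, hk, ?_⟩
          intro hmem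
          obtain ⟨s, rfl⟩ := Submodule.mem_span_singleton.mp hmem
          rw [map_smul, LinearMap.smul_apply, smul_eq_mul, B_symm Q B hQp] at hvx
          rcases mul_eq_zero.mp hvx with h | h
          · exact hv0 (by rw [h, zero_smul])
          · exact hBxf0 k h
        · by_cases hmem : v ∈ Submodule.span F {x}
          · obtain ⟨s, rfl⟩ := Submodule.mem_span_singleton.mp hmem
            have hs : s ≠ 0 := by
              rintro rfl
              exact hv0 (zero_smul _ _)
            refine ⟨f 0, Or.inr ⟨0, rfl⟩, ?_, ?_⟩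
            · rw [map_smul, LinearMap.smul_apply, smul_eq_mul]
              exact mul_ne_zero hs (hBxf0 0)
            · intro hmem'
              obtain ⟨r, hr⟩ := Submodule.mem_span_singleton.mp hmem'
              have h4 := congrArg (fun y => B y (f 1)) hr
              simp only [map_smul, LinearMap.smul_apply, smul_eq_mul] at h4
              rw [horth 0 1 (by decide), mul_zero] at h4
              rcases mul_eq_zero.mp h4.symm with h | h
              · exact hs h
              · exact hBxf0 1 h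
          · exact ⟨x, Or.inl rfl, hvx, hmem⟩
      obtain ⟨h5, -, -⟩ := hP3REL U hUd hUn A hAU hspan hirr hdiv
      haveI : Finite V := Module.finite_of_finite F
      haveI : Finite (V ≃ₗ[F] V) :=
        Finite.of_injective (fun g : V ≃ₗ[F] V => (g : V → V)) DFunLike.coe_injective
      have hInA : ∀ k : Fin 3, InA (nu B c e (T k) x) := by
        intro k
        have hmem : Rf Q B x * Rf Q B (f k) ∈ RotGp Q B A :=
          Subgroup.subset_closure ⟨x, Or.inl rfl, f k, Or.inr ⟨k, rfl⟩, rfl⟩
        have hk5 := h5 _ hmem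
        have hk1 : 1 ≤ orderOf (Rf Q B x * Rf Q B (f k)) := orderOf_pos _
        have hrot := Cfsg.Agent.Lib.Helper21_OFA_ROT.ROT hQs hQp h2' hQx0 (hns k) hk1 hk5
          (pow_orderOf_eq_one _)
        have heq : B x (f k) * B x (f k) * (4 * Q x * Q (f k))⁻¹ = nu B c e (T k) x := by
          rw [hBxf, hQx, hf, Q_part hfr]
          have := hnu k
          have h4 : (4 : F) ≠ 0 := by
            have : (4 : F) = 2 * 2 := by norm_num
            rw [this]
            exact mul_ne_zero h2' h2'
          field_simp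
          ring
        rwa [heq] at hrot
      rcases hnA with h | h | h
      · exact h (hInA 0)
      · exact h (hInA 1)
      · exact h (hInA 2)
  intro y hy hQy
  exact hTRANS U hUd hUn hsieg x hx hxU y hy hQy

/-- OFA-PART (L). -/
theorem PART (hC : TCtx Q B c e L) (hp5 : 5 ≤ Nat.card F) {x : V} (hx : x ∈ XL Q B c L)
    (T1 T2 T3 : Finset ι) (hd12 : Disjoint T1 T2) (hd13 : Disjoint T1 T3) (hd23 : Disjoint T2 T3)
    (hun : T1 ∪ T2 ∪ T3 = osupp B c e x)
    (h1 : nu B c e T1 x ≠ 0) (h2 : nu B c e T2 x ≠ 0) (h3 : nu B c e T3 x ≠ 0)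
    (hnA : ¬ InA (nu B c e T1 x) ∨ ¬ InA (nu B c e T2 x) ∨ ¬ InA (nu B c e T3 x)) :
    ∀ y ∈ Submodule.span F {part B c e T1 x, part B c e T2 x, part B c e T3 x}, Q y = c →
      y ∈ XL Q B c L :=
  PART_aux hC hp5
    (fun U hUd hUn A hA hspan hdiv =>
      Cfsg.Agent.Lib.Helper59_OFA_U3loc.U3loc hC.hp hC.fr.hQs hC.fr.hQp hC.fr.h2 U hUd hUn A hA
        hspan hdiv)
    (fun U hUd hUn A hA hspan hirr hnd =>
      Cfsg.Agent.Lib.Helper61_OFA_P3REL.P3REL hC.hp hC.fr.hQs hC.fr.hQp hC.fr.h2 U hUd hUn A hA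
        hspan hirr hnd)
    (fun U hUd hUn hZ x hx hxU =>
      Cfsg.Agent.Lib.Helper64_OFA_TRANS.TRANS hp5 hC.fr.hQs hC.fr.hQp hC.fr.h2 U hUd hUn L hC.hLO
        hZ hC.fr.c0 hx hxU)
    hx T1 T2 T3 hd12 hd13 hd23 hun h1 h2 h3 hnA

end Cfsg.Agent.Lib.Helper59_OFA_PART
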