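import Mathlib
import Cfsg.Agent.Lib.Helper98_OFADefs

/-!
helper73 — package OFA-CONIC2 of helper98's OFA market: for `q ≥ 11` odd the circle `X² + Y² = 1` has a
point with `X, Y ≠ 0`, `X² ≠ Y²` (rational parametrisation, the bad parameters are the roots of a
polynomial of degree 9).  Reusable: `exists_nonroot`.
-/

set_option autoImplicit false

namespace Cfsg.Agent.Lib.Helper73_OFA_CONIC2

open Module Cfsg.Agent.Lib.Helper94_Symp Cfsg.Agent.Lib.Helper94_OrthSmall
  Cfsg.Agent.Lib.Helper94_OrthSiegel Cfsg.Agent.Lib.Helper32_OFDefs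
  Cfsg.Agent.Lib.Helper98_OFADefs

section S3

variable {F : Type*} [Field F] [Finite F]
variable {W : Type*} [AddCommGroup W] [Module F W] [FiniteDimensional F W]
variable {Qw : W → F} {Bw : LinearMap.BilinForm F W}

/-- a nonzero polynomial of degree less than `|F|` has a non-root -/
theorem exists_nonroot (f : Polynomial F) (hf : f ≠ 0) (h : f.natDegree < Nat.card F) :
    ∃ r, f.eval r ≠ 0 := by
  apply Polynomial.exists_eval_ne_zero_of_natDegree_lt_card f hf
  rw [← Nat.cast_card]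
  exact_mod_cast h

open Polynomial in
/-- OFA-CONIC2 (M). -/
theorem CONIC2 (h2 : (2 : F) ≠ 0) (hcard : 11 ≤ Nat.card F) :
    ∃ X Y : F, X * X + Y * Y = 1 ∧ X ≠ 0 ∧ Y ≠ 0 ∧ X * X ≠ Y * Y := by
  let P : F[X] := X * (X ^ 2 - C 1) * (X ^ 2 + C 1) * (X ^ 4 - C 6 * X ^ 2 + C 1)
  have hdeg : P.natDegree ≤ 9 := by
    show (X * (X ^ 2 - C 1) * (X ^ 2 + C 1) * (X ^ 4 - C 6 * X ^ 2 + C 1) : F[X]).natDegree ≤ 9
    compute_degree
  have h1 : (X ^ 2 - C 1 : F[X]) ≠ 0 := by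
    intro h
    have := congrArg (fun p => coeff p 2) h
    simp [coeff_X_pow, coeff_one] at this
  have h2' : (X ^ 2 + C 1 : F[X]) ≠ 0 := by
    intro h
    have := congrArg (fun p => coeff p 2) h
    simp [coeff_X_pow, coeff_one] at this
  have h3 : (X ^ 4 - C 6 * X ^ 2 + C 1 : F[X]) ≠ 0 := by
    intro h
    have := congrArg (fun p => coeff p 4) h
    simp [coeff_X_pow, coeff_one] at this
  have hP : P ≠ 0 := mul_ne_zero (mul_ne_zero (mul_ne_zero X_ne_zero h1) h2') h3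
  obtain ⟨t, ht⟩ := exists_nonroot P hP (by omega)
  have ht' : t * (t ^ 2 - 1) * (t ^ 2 + 1) * (t ^ 4 - 6 * t ^ 2 + 1) ≠ 0 := by
    have : P.eval t = t * (t ^ 2 - 1) * (t ^ 2 + 1) * (t ^ 4 - 6 * t ^ 2 + 1) := by
      simp [P, eval_mul, eval_sub, eval_add, eval_pow]
    rwa [this] at ht
  have t0 : t ≠ 0 := fun h => ht' (by rw [h]; ring)
  have t1 : t ^ 2 - 1 ≠ 0 := fun h => ht' (by rw [h]; ring)
  have t2 : t ^ 2 + 1 ≠ 0 := fun h => ht' (by rw [h]; ring)
  have t3 : t ^ 4 - 6 * t ^ 2 + 1 ≠ 0 := fun h => ht' (by rw [h]; ring)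
  refine ⟨(1 - t ^ 2) / (t ^ 2 + 1), 2 * t / (t ^ 2 + 1), ?_, ?_, ?_, ?_⟩
  · field_simp
    ring
  · refine div_ne_zero ?_ t2
    intro h
    apply t1
    linear_combination -h
  · exact div_ne_zero (mul_ne_zero h2 t0) t2
  · intro h
    apply t3
    have h' : (1 - t ^ 2) * (1 - t ^ 2) = 2 * t * (2 * t) := by
      field_simp at h
      linear_combination h
    linear_combination h'

end S3

end Cfsg.Agent.Lib.Helper73_OFA_CONIC2
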