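import Mathlib
import Cfsg.Agent.Lib.Helper98_OFADefs
import Cfsg.Agent.Lib.Helper73_OFA_CONIC2

/-!
helper73 — package OFA-CONIC of helper98's OFA market: for `q ≥ 7` odd the conic `a X² + b Y² = 1`
(`a, b ≠ 0`) has a point with `X, Y ≠ 0`.  If `a` (or `b`) is a square: rational parametrisation from
the point `(1/α, 0)`, five bad parameters; if neither is a square every point works.
-/

set_option autoImplicit false

namespace Cfsg.Agent.Lib.Helper73_OFA_CONIC

open Module Cfsg.Agent.Lib.Helper94_Symp Cfsg.Agent.Lib.Helper94_OrthSmall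
  Cfsg.Agent.Lib.Helper94_OrthSiegel Cfsg.Agent.Lib.Helper32_OFDefs
  Cfsg.Agent.Lib.Helper98_OFADefs Cfsg.Agent.Lib.Helper73_OFA_CONIC2

section S3

variable {F : Type*} [Field F] [Finite F]
variable {W : Type*} [AddCommGroup W] [Module F W] [FiniteDimensional F W]
variable {Qw : W → F} {Bw : LinearMap.BilinForm F W}

open Polynomial in
/-- the case of a square first coefficient -/
theorem conic_of_sq (h2 : (2 : F) ≠ 0) (hcard : 7 ≤ Nat.card F) (α b : F) (hα : α ≠ 0)
    (hb : b ≠ 0) : ∃ X Y : F, α * α * X * X + b * Y * Y = 1 ∧ X ≠ 0 ∧ Y ≠ 0 := by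
  let P : F[X] := X * (C b * X ^ 2 - C (α * α)) * (C b * X ^ 2 + C (α * α))
  have hdeg : P.natDegree ≤ 5 := by
    show (X * (C b * X ^ 2 - C (α * α)) * (C b * X ^ 2 + C (α * α)) : F[X]).natDegree ≤ 5
    compute_degree
  have h1 : (C b * X ^ 2 - C (α * α) : F[X]) ≠ 0 := by
    intro h
    have := congrArg (fun p => coeff p 2) h
    simp [coeff_X_pow] at this
    exact hb this
  have h2' : (C b * X ^ 2 + C (α * α) : F[X]) ≠ 0 := by
    intro h
    have := congrArg (fun p => coeff p 2) h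
    simp [coeff_X_pow] at this
    exact hb this
  have hP : P ≠ 0 := mul_ne_zero (mul_ne_zero X_ne_zero h1) h2'
  obtain ⟨t, ht⟩ := exists_nonroot P hP (by omega)
  have ht' : t * (b * t ^ 2 - α * α) * (b * t ^ 2 + α * α) ≠ 0 := by
    have : P.eval t = t * (b * t ^ 2 - α * α) * (b * t ^ 2 + α * α) := by
      simp [P, eval_mul, eval_sub, eval_add, eval_pow]
    rwa [this] at ht
  have t0 : t ≠ 0 := fun h => ht' (by rw [h]; ring)
  have t1 : b * t ^ 2 - α * α ≠ 0 := fun h => ht' (by rw [h]; ring)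
  have t2 : b * t ^ 2 + α * α ≠ 0 := fun h => ht' (by rw [h]; ring)
  have t1' : b * t ^ 2 - α ^ 2 ≠ 0 := by rw [pow_two α]; exact t1
  have t2' : b * t ^ 2 + α ^ 2 ≠ 0 := by rw [pow_two α]; exact t2
  refine ⟨(b * t ^ 2 - α ^ 2) / (α * (b * t ^ 2 + α ^ 2)), -(2 * α * t) / (b * t ^ 2 + α ^ 2),
    ?_, ?_, ?_⟩
  · have e1 : α * α * ((b * t ^ 2 - α ^ 2) / (α * (b * t ^ 2 + α ^ 2))) *
          ((b * t ^ 2 - α ^ 2) / (α * (b * t ^ 2 + α ^ 2))) =
        (b * t ^ 2 - α ^ 2) ^ 2 / (b * t ^ 2 + α ^ 2) ^ 2 := by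
      field_simp
    have e2 : b * (-(2 * α * t) / (b * t ^ 2 + α ^ 2)) * (-(2 * α * t) / (b * t ^ 2 + α ^ 2)) =
        4 * α ^ 2 * b * t ^ 2 / (b * t ^ 2 + α ^ 2) ^ 2 := by
      field_simp
      ring
    rw [e1, e2, ← add_div, div_eq_one_iff_eq (pow_ne_zero 2 t2')]
    ring
  · exact div_ne_zero t1' (mul_ne_zero hα t2')
  · exact div_ne_zero (neg_ne_zero.mpr (mul_ne_zero (mul_ne_zero h2 hα) t0)) t2'

open Polynomial in
/-- OFA-CONIC (M). -/
theorem CONIC (h2 : (2 : F) ≠ 0) (hcard : 7 ≤ Nat.card F) (a b : F) (ha : a ≠ 0) (hb : b ≠ 0) :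
    ∃ X Y : F, a * X * X + b * Y * Y = 1 ∧ X ≠ 0 ∧ Y ≠ 0 := by
  by_cases hsa : ∃ α : F, a = α * α
  · obtain ⟨α, rfl⟩ := hsa
    have hα : α ≠ 0 := fun h => ha (by rw [h, mul_zero])
    exact conic_of_sq h2 hcard α b hα hb
  by_cases hsb : ∃ β : F, b = β * β
  · obtain ⟨β, rfl⟩ := hsb
    have hβ : β ≠ 0 := fun h => hb (by rw [h, mul_zero])
    obtain ⟨Y, X, h, hY, hX⟩ := conic_of_sq h2 hcard β a hβ ha
    exact ⟨X, Y, by rw [add_comm]; exact h, hX, hY⟩
  · -- neither coefficient is a square: every point works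
    have : Fintype F := Fintype.ofFinite F
    have hchar : ringChar F ≠ 2 := by
      intro h
      apply h2
      have h3 := ringChar.Nat.cast_ringChar (R := F)
      rw [h] at h3
      exact_mod_cast h3
    have hodd : Fintype.card F % 2 = 1 := FiniteField.odd_card_of_char_ne_two hchar
    have hf : degree (C a * X ^ 2 : F[X]) = 2 := degree_C_mul_X_pow 2 ha
    have hg : degree (C b * X ^ 2 - C 1 : F[X]) = 2 := by
      rw [degree_sub_C, degree_C_mul_X_pow 2 hb]
      · rfl
      · rw [degree_C_mul_X_pow 2 hb]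
        norm_num
    obtain ⟨x, y, hxy⟩ := FiniteField.exists_root_sum_quadratic hf hg hodd
    simp only [eval_mul, eval_C, eval_pow, eval_X, eval_sub] at hxy
    have hxy' : a * x * x + b * y * y = 1 := by linear_combination hxy
    refine ⟨x, y, hxy', ?_, ?_⟩
    · intro hx
      apply hsb
      rw [hx] at hxy'
      have hy : y ≠ 0 := by
        intro hy
        rw [hy] at hxy'
        simp at hxy'
      refine ⟨y⁻¹, ?_⟩
      field_simp
      linear_combination hxy'
    · intro hy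
      apply hsa
      rw [hy] at hxy'
      have hx : x ≠ 0 := by
        intro hx
        rw [hx] at hxy'
        simp at hxy'
      refine ⟨x⁻¹, ?_⟩
      field_simp
      linear_combination hxy'

end S3

end Cfsg.Agent.Lib.Helper73_OFA_CONIC
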