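import Mathlib
import Cfsg.Agent.Lib.Helper98_OFADefs
import Cfsg.Agent.Lib.Helper73_OFA_CONIC
import Cfsg.Agent.Lib.Helper73_OFA_CONIC2
import Cfsg.Agent.Lib.Helper34_OFA_ARITH
import Cfsg.Agent.Lib.Helper59_OFA_PART

/-!
# OFA market (architect helper98), package FOB "F4 or better" (formalised by helper43)

`x ∈ X` with support `S`, `4 ≤ |S| < p`, without tangent subset.  The partitions `{i},{j},S∖{i,j}` and
`{i,j},{k},S∖{i,j,k}` of `S`: if some part has `nu ∉ A`, PART gives all unit vectors of the span of the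
three partial vectors, among them a vector of support 2 or 3 which is neither `± e_k` nor a root
(CONIC2, CONIC).  Otherwise ARITH forces `x_i² = 1/4` for all `i ∈ S`, and `|S| = 4`.
`FOB_aux` takes the statement of OFA-PART as a hypothesis.
-/

set_option autoImplicit false
set_option linter.unusedVariables false
set_option linter.unusedSectionVars false
set_option linter.style.haveILetI false

namespace Cfsg.Agent.Lib.Helper43_OFA_FOB

open Module Cfsg.Agent.Lib.Helper94_Symp Cfsg.Agent.Lib.Helper94_OrthSmall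
  Cfsg.Agent.Lib.Helper94_OrthSiegel Cfsg.Agent.Lib.Helper32_OFDefs
  Cfsg.Agent.Lib.Helper98_OFADefs

section Frame

variable {F V : Type*} [Field F] [Finite F] [AddCommGroup V] [Module F V] [FiniteDimensional F V]
variable {Q : V → F} {B : LinearMap.BilinForm F V}
variable {ι : Type*} [Fintype ι] [DecidableEq ι] {c : F} {e : ι → V}
variable {L : Subgroup (V ≃ₗ[F] V)}

omit [Finite F] [FiniteDimensional F V] [Fintype ι] [DecidableEq ι] in
theorem co_add' (u v : V) (k : ι) :
    co B c e (u + v) k = co B c e u k + co B c e v k := by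
  unfold co
  rw [map_add, LinearMap.add_apply, mul_add]

omit [Finite F] [FiniteDimensional F V] [Fintype ι] [DecidableEq ι] in
theorem co_smul' (a : F) (v : V) (k : ι) : co B c e (a • v) k = a * co B c e v k := by
  unfold co
  rw [map_smul, LinearMap.smul_apply, smul_eq_mul]
  ring

/-- the coordinates of a partial vector -/
theorem co_part (hfr : OFr Q B c e) (T : Finset ι) (x : V) (k : ι) :
    co B c e (part B c e T x) k = if k ∈ T then co B c e x k else 0 := by
  have h : part B c e T x = ∑ i, (if i ∈ T then co B c e x i else 0) • e i := by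
    unfold part
    have h1 : ∑ i ∈ T, co B c e x i • e i =
        ∑ i ∈ T, (if i ∈ T then co B c e x i else 0) • e i :=
      Finset.sum_congr rfl (fun i hi => by rw [if_pos hi])
    rw [h1]
    apply Finset.sum_subset (Finset.subset_univ T)
    intro i _ hi
    rw [if_neg hi, zero_smul]
  rw [h, hfr.co_sum]

/-- the coordinates of a combination of two partial vectors -/
theorem co_comb (hfr : OFr Q B c e) (T1 T2 : Finset ι) (x : V) (α β : F) (k : ι) :
    co B c e (α • part B c e T1 x + β • part B c e T2 x) k =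
      α * (if k ∈ T1 then co B c e x k else 0) + β * (if k ∈ T2 then co B c e x k else 0) := by
  rw [co_add', co_smul', co_smul', co_part hfr, co_part hfr]

/-- the norm of a combination of two disjoint partial vectors -/
theorem Q_comb (hfr : OFr Q B c e) (T1 T2 : Finset ι) (hd : Disjoint T1 T2) (x : V) (α β : F) :
    Q (α • part B c e T1 x + β • part B c e T2 x) =
      c * (α * α * nu B c e T1 x + β * β * nu B c e T2 x) := by
  rw [hfr.Q_eq]
  congr 1
  have hk : ∀ k, co B c e (α • part B c e T1 x + β • part B c e T2 x) k *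
      co B c e (α • part B c e T1 x + β • part B c e T2 x) k =
      α * α * (if k ∈ T1 then co B c e x k * co B c e x k else 0) +
        β * β * (if k ∈ T2 then co B c e x k * co B c e x k else 0) := by
    intro k
    rw [co_comb hfr]
    by_cases h1 : k ∈ T1
    · have h2 : k ∉ T2 := Finset.disjoint_left.mp hd h1
      rw [if_pos h1, if_neg h2, if_pos h1, if_neg h2]
      ring
    · by_cases h2 : k ∈ T2
      · rw [if_neg h1, if_pos h2, if_neg h1, if_pos h2]
        ring
      · rw [if_neg h1, if_neg h2, if_neg h1, if_neg h2]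
        ring
  simp_rw [hk]
  rw [Finset.sum_add_distrib, ← Finset.mul_sum, ← Finset.mul_sum, Finset.sum_ite_mem,
    Finset.sum_ite_mem, Finset.univ_inter, Finset.univ_inter]
  rfl

/-- a vector with two nonzero coordinates is not `± e_m` -/
theorem not_isPM_of_two (hfr : OFr Q B c e) {y : V} {i j : ι} (hij : i ≠ j)
    (hi : co B c e y i ≠ 0) (hj : co B c e y j ≠ 0) : ¬ IsPM e y := by
  rintro ⟨m, hm | hm⟩
  · rw [hm, hfr.co_e] at hi hj
    have h1 : m = i := by
      by_contra h
      rw [if_neg h] at hi
      exact hi rfl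
    have h2 : m = j := by
      by_contra h
      rw [if_neg h] at hj
      exact hj rfl
    exact hij (h1.symm.trans h2)
  · have hneg : ∀ n, co B c e (-e m) n = -(if m = n then (1 : F) else 0) := by
      intro n
      have : -e m = (-1 : F) • e m := by rw [neg_one_smul]
      rw [this, co_smul', hfr.co_e]
      ring
    rw [hm, hneg] at hi hj
    have h1 : m = i := by
      by_contra h
      rw [if_neg h, neg_zero] at hi
      exact hi rfl
    have h2 : m = j := by
      by_contra h
      rw [if_neg h, neg_zero] at hj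
      exact hj rfl
    exact hij (h1.symm.trans h2)

omit [Finite F] [FiniteDimensional F V] in
/-- the support is contained in any set outside of which the coordinates vanish -/
theorem osupp_subset {y : V} {T : Finset ι} (h : ∀ m, m ∉ T → co B c e y m = 0) :
    osupp B c e y ⊆ T := by
  intro m hm
  by_contra hmT
  exact (mem_osupp.mp hm) (h m hmT)

/-- partition (a): a unit vector `X e_i + Y e_j` with `X² ≠ Y²` -/
theorem alt_a (hfr : OFr Q B c e) {x : V} {i j : ι} (hij : i ≠ j)
    (hxi : co B c e x i ≠ 0) (hxj : co B c e x j ≠ 0) (T3 : Finset ι)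
    (hU : ∀ y ∈ Submodule.span F {part B c e {i} x, part B c e {j} x, part B c e T3 x},
      Q y = c → y ∈ XL Q B c L)
    {X Y : F} (hXY : X * X + Y * Y = 1) (hX : X ≠ 0) (hY : Y ≠ 0) (hne : X * X ≠ Y * Y) :
    ∃ y ∈ XL Q B c L, ¬ IsPM e y ∧ ¬ IsRoot B c e y ∧ (osupp B c e y).card ≤ 3 := by
  classical
  set y : V := (X / co B c e x i) • part B c e {i} x + (Y / co B c e x j) • part B c e {j} x
    with hy
  have hdisj : Disjoint ({i} : Finset ι) {j} := Finset.disjoint_singleton.mpr hij
  have hQy : Q y = c := by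
    rw [hy, Q_comb hfr _ _ hdisj]
    unfold nu
    rw [Finset.sum_singleton, Finset.sum_singleton]
    have : X / co B c e x i * (X / co B c e x i) * (co B c e x i * co B c e x i) +
        Y / co B c e x j * (Y / co B c e x j) * (co B c e x j * co B c e x j) = 1 := by
      field_simp
      linear_combination hXY
    rw [this, mul_one]
  have hcoy : ∀ k, co B c e y k = (if k = i then X else 0) + (if k = j then Y else 0) := by
    intro k
    rw [hy, co_comb hfr]
    simp only [Finset.mem_singleton]
    by_cases h1 : k = i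
    · have h2 : k ≠ j := fun h => hij (h1.symm.trans h)
      rw [if_pos h1, if_neg h2, if_pos h1, if_neg h2, h1, mul_zero, add_zero, add_zero,
        div_mul_cancel₀ _ hxi]
    · by_cases h2 : k = j
      · rw [if_neg h1, if_pos h2, if_neg h1, if_pos h2, h2, mul_zero, zero_add, zero_add,
          div_mul_cancel₀ _ hxj]
      · rw [if_neg h1, if_neg h2, if_neg h1, if_neg h2]
        ring
  have hyi : co B c e y i = X := by
    rw [hcoy, if_pos rfl, if_neg hij, add_zero]
  have hyj : co B c e y j = Y := by
    rw [hcoy, if_neg (Ne.symm hij), if_pos rfl, zero_add]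
  have hy0 : ∀ m, m ≠ i → m ≠ j → co B c e y m = 0 := by
    intro m h1 h2
    rw [hcoy, if_neg h1, if_neg h2, add_zero]
  have hymem : y ∈ Submodule.span F
      {part B c e {i} x, part B c e {j} x, part B c e T3 x} := by
    apply Submodule.add_mem
    · exact Submodule.smul_mem _ _ (Submodule.subset_span (by simp))
    · exact Submodule.smul_mem _ _ (Submodule.subset_span (by simp))
  refine ⟨y, hU y hymem hQy, ?_, ?_, ?_⟩
  · exact not_isPM_of_two hfr hij (by rw [hyi]; exact hX) (by rw [hyj]; exact hY)
  · rintro ⟨i', j', hij', h0, h1, h2⟩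
    have hi'0 : co B c e y i' ≠ 0 := by
      intro h
      rw [h, mul_zero, mul_zero] at h1
      exact zero_ne_one h1
    have hj'0 : co B c e y j' ≠ 0 := by
      intro h
      rw [h, mul_zero, mul_zero] at h2
      exact zero_ne_one h2
    have hi' : i' = i ∨ i' = j := by
      by_contra hcon
      push Not at hcon
      exact hi'0 (hy0 i' hcon.1 hcon.2)
    have hj' : j' = i ∨ j' = j := by
      by_contra hcon
      push Not at hcon
      exact hj'0 (hy0 j' hcon.1 hcon.2)
    have h2ne := hfr.h2
    have key : X * X = Y * Y := by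
      rcases hi' with rfl | rfl <;> rcases hj' with rfl | rfl
      · exact absurd rfl hij'
      · rw [hyi] at h1
        rw [hyj] at h2
        exact mul_left_cancel₀ h2ne (h1.trans h2.symm)
      · rw [hyj] at h1
        rw [hyi] at h2
        exact mul_left_cancel₀ h2ne (h2.trans h1.symm)
      · exact absurd rfl hij'
    exact hne key
  · have hsub : osupp B c e y ⊆ {i, j} := by
      apply osupp_subset
      intro m hm
      rw [Finset.mem_insert, Finset.mem_singleton] at hm
      push Not at hm
      exact hy0 m hm.1 hm.2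
    have := Finset.card_le_card hsub
    have h2 : ({i, j} : Finset ι).card ≤ 2 := Finset.card_le_two
    omega

/-- partition (b): a unit vector `α (x_i e_i + x_j e_j) + β x_k e_k` with three nonzero coordinates -/
theorem alt_b (hfr : OFr Q B c e) {x : V} {i j k : ι} (hij : i ≠ j) (hik : i ≠ k) (hjk : j ≠ k)
    (hxi : co B c e x i ≠ 0) (hxj : co B c e x j ≠ 0) (hxk : co B c e x k ≠ 0) (T3 : Finset ι)
    (hU : ∀ y ∈ Submodule.span F {part B c e {i, j} x, part B c e {k} x, part B c e T3 x},
      Q y = c → y ∈ XL Q B c L)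
    {α β : F} (hαβ : nu B c e {i, j} x * α * α + nu B c e {k} x * β * β = 1)
    (hα : α ≠ 0) (hβ : β ≠ 0) :
    ∃ y ∈ XL Q B c L, ¬ IsPM e y ∧ ¬ IsRoot B c e y ∧ (osupp B c e y).card ≤ 3 := by
  classical
  set y : V := α • part B c e {i, j} x + β • part B c e {k} x with hy
  have hk_notin : k ∉ ({i, j} : Finset ι) := by
    rw [Finset.mem_insert, Finset.mem_singleton]
    push Not
    exact ⟨Ne.symm hik, Ne.symm hjk⟩
  have hdisj : Disjoint ({i, j} : Finset ι) {k} := Finset.disjoint_singleton_right.mpr hk_notin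
  have hQy : Q y = c := by
    rw [hy, Q_comb hfr _ _ hdisj]
    linear_combination c * hαβ
  have hcoy : ∀ m, co B c e y m = α * (if m ∈ ({i, j} : Finset ι) then co B c e x m else 0) +
      β * (if m ∈ ({k} : Finset ι) then co B c e x m else 0) := by
    intro m
    rw [hy, co_comb hfr]
  have hi_in : i ∈ ({i, j} : Finset ι) := Finset.mem_insert_self i _
  have hj_in : j ∈ ({i, j} : Finset ι) := Finset.mem_insert_of_mem (Finset.mem_singleton_self j)
  have hi_nk : i ∉ ({k} : Finset ι) := by rw [Finset.mem_singleton]; exact hik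
  have hj_nk : j ∉ ({k} : Finset ι) := by rw [Finset.mem_singleton]; exact hjk
  have hyi : co B c e y i = α * co B c e x i := by
    rw [hcoy, if_pos hi_in, if_neg hi_nk, mul_zero, add_zero]
  have hyj : co B c e y j = α * co B c e x j := by
    rw [hcoy, if_pos hj_in, if_neg hj_nk, mul_zero, add_zero]
  have hyk : co B c e y k = β * co B c e x k := by
    rw [hcoy, if_neg hk_notin, if_pos (Finset.mem_singleton_self k), mul_zero, zero_add]
  have hy0 : ∀ m, m ≠ i → m ≠ j → m ≠ k → co B c e y m = 0 := by
    intro m h1 h2 h3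
    have hm1 : m ∉ ({i, j} : Finset ι) := by
      rw [Finset.mem_insert, Finset.mem_singleton]
      push Not
      exact ⟨h1, h2⟩
    have hm2 : m ∉ ({k} : Finset ι) := by rw [Finset.mem_singleton]; exact h3
    rw [hcoy, if_neg hm1, if_neg hm2, mul_zero, mul_zero, add_zero]
  have hyi0 : co B c e y i ≠ 0 := by rw [hyi]; exact mul_ne_zero hα hxi
  have hyj0 : co B c e y j ≠ 0 := by rw [hyj]; exact mul_ne_zero hα hxj
  have hyk0 : co B c e y k ≠ 0 := by rw [hyk]; exact mul_ne_zero hβ hxk
  have hymem : y ∈ Submodule.span F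
      {part B c e {i, j} x, part B c e {k} x, part B c e T3 x} := by
    apply Submodule.add_mem
    · exact Submodule.smul_mem _ _ (Submodule.subset_span (by simp))
    · exact Submodule.smul_mem _ _ (Submodule.subset_span (by simp))
  refine ⟨y, hU y hymem hQy, not_isPM_of_two hfr hij hyi0 hyj0, ?_, ?_⟩
  · rintro ⟨i', j', hij', h0, -, -⟩
    have mem : ∀ m, co B c e y m ≠ 0 → m = i' ∨ m = j' := by
      intro m hm
      by_contra hcon
      push Not at hcon
      exact hm (h0 m hcon.1 hcon.2)
    rcases mem i hyi0 with h1 | h1 <;> rcases mem j hyj0 with h2 | h2 <;>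
      rcases mem k hyk0 with h3 | h3
    · exact hij (h1.trans h2.symm)
    · exact hij (h1.trans h2.symm)
    · exact hik (h1.trans h3.symm)
    · exact hjk (h2.trans h3.symm)
    · exact hjk (h2.trans h3.symm)
    · exact hik (h1.trans h3.symm)
    · exact hij (h1.trans h2.symm)
    · exact hij (h1.trans h2.symm)
  · have hsub : osupp B c e y ⊆ {i, j, k} := by
      apply osupp_subset
      intro m hm
      rw [Finset.mem_insert, Finset.mem_insert, Finset.mem_singleton] at hm
      push Not at hm
      exact hy0 m hm.1 hm.2.1 hm.2.2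
    have := Finset.card_le_card hsub
    have h2 : ({i, j, k} : Finset ι).card ≤ 3 := Finset.card_le_three
    omega

omit [Finite F] [FiniteDimensional F V] [Fintype ι] in
theorem nu_singleton (x : V) (i : ι) :
    nu B c e {i} x = co B c e x i * co B c e x i := by
  unfold nu
  rw [Finset.sum_singleton]

omit [Finite F] [FiniteDimensional F V] [Fintype ι] in
theorem nu_pair (x : V) {i j : ι} (hij : i ≠ j) :
    nu B c e {i, j} x = co B c e x i * co B c e x i + co B c e x j * co B c e x j := by
  unfold nu
  rw [Finset.sum_pair hij]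

/-- OFA-FOB with the statement of OFA-PART as a hypothesis. -/
theorem FOB_aux (hC : TCtx Q B c e L) (hp : 11 ≤ Nat.card F)
    (hPART : ∀ x ∈ XL Q B c L, ∀ T1 T2 T3 : Finset ι, Disjoint T1 T2 → Disjoint T1 T3 →
      Disjoint T2 T3 → T1 ∪ T2 ∪ T3 = osupp B c e x → nu B c e T1 x ≠ 0 → nu B c e T2 x ≠ 0 →
      nu B c e T3 x ≠ 0 →
      (¬ InA (nu B c e T1 x) ∨ ¬ InA (nu B c e T2 x) ∨ ¬ InA (nu B c e T3 x)) →
      ∀ y ∈ Submodule.span F {part B c e T1 x, part B c e T2 x, part B c e T3 x}, Q y = c →
        y ∈ XL Q B c L)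
    {x : V} (hx : x ∈ XL Q B c L)
    (hs4 : 4 ≤ (osupp B c e x).card) (hsp : (osupp B c e x).card < Nat.card F)
    (hnt : ∀ T : Finset ι, T.Nonempty → T ⊂ osupp B c e x → nu B c e T x ≠ 0) :
    (∃ y ∈ XL Q B c L, ¬ IsPM e y ∧ ¬ IsRoot B c e y ∧ (osupp B c e y).card ≤ 3) ∨
    ((osupp B c e x).card = 4 ∧
      ∀ i ∈ osupp B c e x, 4 * (co B c e x i * co B c e x i) = 1) := by
  classical
  have hfr := hC.fr
  have h2 := hfr.h2
  by_cases hfirst : ∃ y ∈ XL Q B c L, ¬ IsPM e y ∧ ¬ IsRoot B c e y ∧ (osupp B c e y).card ≤ 3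
  · exact Or.inl hfirst
  right
  set S := osupp B c e x with hS
  have hmemS : ∀ i, i ∈ S ↔ co B c e x i ≠ 0 := fun i => mem_osupp
  -- the total norm
  have htot : nu B c e S x = 1 := by
    have h1 := hfr.Q_eq x
    rw [hx.1] at h1
    have h3 : ∑ i, co B c e x i * co B c e x i = 1 := by
      have h4 : c * 1 = c * ∑ i, co B c e x i * co B c e x i := by rw [mul_one]; exact h1
      exact (mul_left_cancel₀ hfr.c0 h4).symm
    unfold nu
    rw [← h3]
    apply Finset.sum_subset (Finset.subset_univ S)
    intro i _ hi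
    have h5 : co B c e x i = 0 := by
      by_contra h
      exact hi ((hmemS i).mpr h)
    rw [h5, mul_zero]
  have hcompl : ∀ T : Finset ι, T ⊆ S → nu B c e (S \ T) x = 1 - nu B c e T x := by
    intro T hT
    have h1 := Finset.sum_sdiff hT (f := fun i => co B c e x i * co B c e x i)
    unfold nu at htot ⊢
    rw [← htot, ← h1]
    ring
  have hne : ∀ T : Finset ι, T ⊆ S → T.Nonempty → T ≠ S → nu B c e T x ≠ 0 :=
    fun T hT hTne hTS => hnt T hTne (Finset.ssubset_iff_subset_ne.mpr ⟨hT, hTS⟩)
  have hsdiff_ne : ∀ U : Finset ι, U ⊆ S → U.Nonempty → U.card ≤ 3 →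
      nu B c e (S \ U) x ≠ 0 := by
    intro U hU hUne hU3
    apply hne (S \ U) Finset.sdiff_subset
    · rw [← Finset.card_pos]
      have := Finset.le_card_sdiff U S
      omega
    · intro h
      obtain ⟨u, hu⟩ := hUne
      have hu2 : u ∈ S \ U := by rw [h]; exact hU hu
      exact (Finset.mem_sdiff.mp hu2).2 hu
  have hsingle : ∀ i ∈ S, nu B c e {i} x ≠ 0 := by
    intro i hi
    rw [nu_singleton]
    exact mul_self_ne_zero.mpr ((hmemS i).mp hi)
  obtain ⟨X, Y, hXY, hX, hY, hXYne⟩ :=
    Cfsg.Agent.Lib.Helper73_OFA_CONIC2.CONIC2 (F := F) h2 hp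
  have hcard7 : 7 ≤ Nat.card F := by omega
  -- partition (a)
  have hA : ∀ i ∈ S, ∀ j ∈ S, i ≠ j → InA (nu B c e {i} x) ∧ InA (nu B c e {j} x) ∧
      InA (nu B c e (S \ ({i} ∪ {j})) x) := by
    intro i hi j hj hij
    by_contra hnot
    apply hfirst
    have hUS : ({i} ∪ {j} : Finset ι) ⊆ S := by
      intro m hm
      rw [Finset.mem_union, Finset.mem_singleton, Finset.mem_singleton] at hm
      rcases hm with rfl | rfl
      · exact hi
      · exact hj
    have hUcard : ({i} ∪ {j} : Finset ι).card ≤ 3 := by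
      have := Finset.card_union_le ({i} : Finset ι) {j}
      rw [Finset.card_singleton, Finset.card_singleton] at this
      omega
    have hd1 : Disjoint ({i} : Finset ι) {j} := Finset.disjoint_singleton.mpr hij
    have hd2 : Disjoint ({i} : Finset ι) (S \ ({i} ∪ {j})) := by
      rw [Finset.disjoint_singleton_left, Finset.mem_sdiff]
      rintro ⟨-, h⟩
      exact h (Finset.mem_union_left _ (Finset.mem_singleton_self i))
    have hd3 : Disjoint ({j} : Finset ι) (S \ ({i} ∪ {j})) := by
      rw [Finset.disjoint_singleton_left, Finset.mem_sdiff]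
      rintro ⟨-, h⟩
      exact h (Finset.mem_union_right _ (Finset.mem_singleton_self j))
    have hor : ¬ InA (nu B c e {i} x) ∨ ¬ InA (nu B c e {j} x) ∨
        ¬ InA (nu B c e (S \ ({i} ∪ {j})) x) := by
      by_contra h
      push Not at h
      exact hnot ⟨h.1, h.2.1, h.2.2⟩
    have hU := hPART x hx {i} {j} (S \ ({i} ∪ {j})) hd1 hd2 hd3
      (Finset.union_sdiff_of_subset hUS) (hsingle i hi) (hsingle j hj)
      (hsdiff_ne _ hUS ⟨i, Finset.mem_union_left _ (Finset.mem_singleton_self i)⟩ hUcard) hor
    exact alt_a hfr hij ((hmemS i).mp hi) ((hmemS j).mp hj) _ hU hXY hX hY hXYne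
  -- partition (b)
  have hB : ∀ i ∈ S, ∀ j ∈ S, ∀ k ∈ S, i ≠ j → i ≠ k → j ≠ k → InA (nu B c e {i, j} x) := by
    intro i hi j hj k hk hij hik hjk
    by_contra hnot
    apply hfirst
    have hijS : ({i, j} : Finset ι) ⊆ S := by
      intro m hm
      rw [Finset.mem_insert, Finset.mem_singleton] at hm
      rcases hm with rfl | rfl
      · exact hi
      · exact hj
    have hUS : ({i, j} ∪ {k} : Finset ι) ⊆ S := by
      intro m hm
      rw [Finset.mem_union, Finset.mem_singleton] at hm
      rcases hm with hm | rfl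
      · exact hijS hm
      · exact hk
    have hUcard : ({i, j} ∪ {k} : Finset ι).card ≤ 3 := by
      have h1 := Finset.card_union_le ({i, j} : Finset ι) {k}
      have h3 : ({i, j} : Finset ι).card ≤ 2 := Finset.card_le_two
      rw [Finset.card_singleton] at h1
      omega
    have hk_notin : k ∉ ({i, j} : Finset ι) := by
      rw [Finset.mem_insert, Finset.mem_singleton]
      push Not
      exact ⟨Ne.symm hik, Ne.symm hjk⟩
    have hd1 : Disjoint ({i, j} : Finset ι) {k} := Finset.disjoint_singleton_right.mpr hk_notin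
    have hd2 : Disjoint ({i, j} : Finset ι) (S \ ({i, j} ∪ {k})) := by
      rw [Finset.disjoint_left]
      intro m hm hm2
      exact (Finset.mem_sdiff.mp hm2).2 (Finset.mem_union_left _ hm)
    have hd3 : Disjoint ({k} : Finset ι) (S \ ({i, j} ∪ {k})) := by
      rw [Finset.disjoint_singleton_left, Finset.mem_sdiff]
      rintro ⟨-, h⟩
      exact h (Finset.mem_union_right _ (Finset.mem_singleton_self k))
    have hij_ne : nu B c e {i, j} x ≠ 0 := by
      apply hne _ hijS ⟨i, Finset.mem_insert_self i _⟩
      intro h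
      have h3 : ({i, j} : Finset ι).card ≤ 2 := Finset.card_le_two
      rw [h] at h3
      omega
    have hU := hPART x hx {i, j} {k} (S \ ({i, j} ∪ {k})) hd1 hd2 hd3
      (Finset.union_sdiff_of_subset hUS) hij_ne (hsingle k hk)
      (hsdiff_ne _ hUS ⟨k, Finset.mem_union_right _ (Finset.mem_singleton_self k)⟩ hUcard)
      (Or.inl hnot)
    obtain ⟨α, β, hαβ, hα, hβ⟩ := Cfsg.Agent.Lib.Helper73_OFA_CONIC.CONIC (F := F) h2 hcard7
      (nu B c e {i, j} x) (nu B c e {k} x) hij_ne (hsingle k hk)
    exact alt_b hfr hij hik hjk ((hmemS i).mp hi) ((hmemS j).mp hj) ((hmemS k).mp hk) _ hU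
      hαβ hα hβ
  -- the characteristic
  haveI : Fact (Nat.card F).Prime := ⟨hC.hp⟩
  letI : Fintype F := Fintype.ofFinite F
  haveI hchar : CharP F (Nat.card F) := charP_of_card_eq_prime (Nat.card_eq_fintype_card).symm
  have h3 : (3 : F) ≠ 0 := by
    intro h
    have h1 : ((3 : ℕ) : F) = 0 := by exact_mod_cast h
    rw [CharP.cast_eq_zero_iff F (Nat.card F)] at h1
    have := Nat.le_of_dvd (by norm_num) h1
    omega
  obtain ⟨hAr1, hAr2⟩ := Cfsg.Agent.Lib.Helper34_OFA_ARITH.ARITH (F := F) h2 h3
  -- all squares are 1/4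
  have hquarter : ∀ i ∈ S, 4 * (co B c e x i * co B c e x i) = 1 := by
    intro i hi
    have h1 : 3 ≤ (S.erase i).card := by rw [Finset.card_erase_of_mem hi]; omega
    obtain ⟨j, hj⟩ := Finset.card_pos.mp (by omega : 0 < (S.erase i).card)
    have hji : j ≠ i := Finset.ne_of_mem_erase hj
    have hjS : j ∈ S := Finset.mem_of_mem_erase hj
    have h4 : 2 ≤ ((S.erase i).erase j).card := by rw [Finset.card_erase_of_mem hj]; omega
    obtain ⟨k, hk⟩ := Finset.card_pos.mp (by omega : 0 < ((S.erase i).erase j).card)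
    have hkj : k ≠ j := Finset.ne_of_mem_erase hk
    have hki : k ≠ i := Finset.ne_of_mem_erase (Finset.mem_of_mem_erase hk)
    have hkS : k ∈ S := Finset.mem_of_mem_erase (Finset.mem_of_mem_erase hk)
    have hij : i ≠ j := Ne.symm hji
    obtain ⟨hAi, hAj, hAc⟩ := hA i hi j hjS hij
    have hAij := hB i hi j hjS k hkS hij (Ne.symm hki) (Ne.symm hkj)
    have hijS : ({i, j} : Finset ι) ⊆ S := by
      intro m hm
      rw [Finset.mem_insert, Finset.mem_singleton] at hm
      rcases hm with rfl | rfl
      · exact hi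
      · exact hjS
    have hunion : ({i} ∪ {j} : Finset ι) = {i, j} := (Finset.insert_eq i {j}).symm
    rw [hunion, hcompl _ hijS] at hAc
    have hne0 : nu B c e {i, j} x ≠ 0 := by
      apply hne _ hijS ⟨i, Finset.mem_insert_self i _⟩
      intro h
      have h3 : ({i, j} : Finset ι).card ≤ 2 := Finset.card_le_two
      rw [h] at h3
      omega
    have hne1 : nu B c e {i, j} x ≠ 1 := by
      intro h
      have h5 := hsdiff_ne {i, j} hijS ⟨i, Finset.mem_insert_self i _⟩
        (le_trans Finset.card_le_two (by norm_num))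
      rw [hcompl _ hijS, h, sub_self] at h5
      exact h5 rfl
    have hhalf : 2 * nu B c e {i, j} x = 1 := by
      rcases hAr1 _ hAij hAc with h | h | h
      · exact absurd h hne0
      · exact absurd h hne1
      · exact h
    have hsingle1 : ∀ m ∈ S, nu B c e {m} x ≠ 1 := by
      intro m hm h
      have hmS : ({m} : Finset ι) ⊆ S := Finset.singleton_subset_iff.mpr hm
      have h5 := hsdiff_ne {m} hmS ⟨m, Finset.mem_singleton_self m⟩
        (by rw [Finset.card_singleton]; norm_num)
      rw [hcompl _ hmS, h, sub_self] at h5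
      exact h5 rfl
    rw [nu_pair x hij, ← nu_singleton, ← nu_singleton] at hhalf
    have := (hAr2 _ _ hAi hAj (hsingle i hi) (hsingle1 i hi) (hsingle j hjS) (hsingle1 j hjS)
      hhalf).1
    rwa [nu_singleton] at this
  refine ⟨?_, hquarter⟩
  -- the cardinality
  have hsum : ((S.card : ℕ) : F) = 4 := by
    have h1 : (4 : F) * nu B c e S x = ∑ i ∈ S, (1 : F) := by
      unfold nu
      rw [Finset.mul_sum]
      exact Finset.sum_congr rfl (fun i hi => hquarter i hi)
    rw [htot, mul_one, Finset.sum_const, nsmul_eq_mul, mul_one] at h1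
    exact h1.symm
  have h5 : (((S.card - 4 : ℕ) : ℕ) : F) = 0 := by
    rw [Nat.cast_sub hs4, hsum]
    norm_num
  rw [CharP.cast_eq_zero_iff F (Nat.card F)] at h5
  have h6 : S.card - 4 = 0 := by
    by_contra h
    have := Nat.le_of_dvd (Nat.pos_of_ne_zero h) h5
    omega
  omega

/-- OFA-FOB (L), verbatim: `FOB_aux` with helper59's PART. -/
theorem FOB (hC : TCtx Q B c e L) (hp : 11 ≤ Nat.card F) {x : V} (hx : x ∈ XL Q B c L)
    (hs4 : 4 ≤ (osupp B c e x).card) (hsp : (osupp B c e x).card < Nat.card F)
    (hnt : ∀ T : Finset ι, T.Nonempty → T ⊂ osupp B c e x → nu B c e T x ≠ 0) :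
    (∃ y ∈ XL Q B c L, ¬ IsPM e y ∧ ¬ IsRoot B c e y ∧ (osupp B c e y).card ≤ 3) ∨
    ((osupp B c e x).card = 4 ∧ ∀ i ∈ osupp B c e x, 4 * (co B c e x i * co B c e x i) = 1) :=
  FOB_aux hC hp
    (fun x hx T1 T2 T3 h1 h2 h3 h4 h5 h6 h7 h8 =>
      Cfsg.Agent.Lib.Helper59_OFA_PART.PART hC (le_trans (by norm_num) hp) hx T1 T2 T3
        h1 h2 h3 h4 h5 h6 h7 h8) hx hs4 hsp hnt

end Frame

end Cfsg.Agent.Lib.Helper43_OFA_FOB
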