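import Mathlib
import Cfsg.Agent.Lib.Helper98_OFADefs
import Cfsg.Agent.Lib.Helper54_OFA_API1

set_option autoImplicit false
set_option linter.unusedSectionVars false

/-!
# OFA package Z2, aux form (helper54 for helper98): `GoodU u`, `p ≥ 5` gives `Z_u = u^⊥`.
The part of the statement of ZAPI that is used enters as the hypothesis `ZHyp`.
-/

namespace Cfsg.Agent.Lib.Helper54_OFA_Z2Core

open Module Cfsg.Agent.Lib.Helper94_Symp Cfsg.Agent.Lib.Helper94_OrthSmall
  Cfsg.Agent.Lib.Helper94_OrthSiegel Cfsg.Agent.Lib.Helper32_OFDefs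
  Cfsg.Agent.Lib.Helper98_OFADefs Cfsg.Agent.Lib.Helper54_OFA_API1

variable {F V : Type*} [Field F] [Finite F] [AddCommGroup V] [Module F V] [FiniteDimensional F V]
variable {Q : V → F} {B : LinearMap.BilinForm F V}
variable {ι : Type*} [Fintype ι] [DecidableEq ι] {c : F} {e : ι → V}
variable {L : Subgroup (V ≃ₗ[F] V)}

section co

variable (B c e)

theorem co_add (v w : V) (k : ι) : co B c e (v + w) k = co B c e v k + co B c e w k := by
  unfold co
  rw [map_add, LinearMap.add_apply, mul_add]

theorem co_sub (v w : V) (k : ι) : co B c e (v - w) k = co B c e v k - co B c e w k := by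
  unfold co
  rw [map_sub, LinearMap.sub_apply, mul_sub]

theorem co_smul (t : F) (v : V) (k : ι) : co B c e (t • v) k = t * co B c e v k := by
  unfold co
  rw [map_smul, LinearMap.smul_apply, smul_eq_mul]
  ring

end co

theorem B_co (hfr : OFr Q B c e) (v : V) (k : ι) : B v (e k) = 2 * c * co B c e v k := by
  unfold co
  rw [← mul_assoc, mul_inv_cancel₀ hfr.two_c, one_mul]

theorem B_co' (hfr : OFr Q B c e) (v : V) (k : ι) : B (e k) v = 2 * c * co B c e v k := by
  rw [hfr.symm, B_co hfr]

/-- a map fixing the frame vectors outside `S` fixes every vector with zero coordinates on `S` -/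
theorem fix_of_co_zero (hfr : OFr Q B c e) (τ : V ≃ₗ[F] V) (S : Finset ι)
    (hτ : ∀ k, k ∉ S → τ (e k) = e k) (r : V) (hr : ∀ k ∈ S, co B c e r k = 0) : τ r = r := by
  conv_lhs => rw [hfr.exp' r]
  conv_rhs => rw [hfr.exp' r]
  rw [map_sum]
  refine Finset.sum_congr rfl fun k _ => ?_
  rw [map_smul]
  by_cases hk : k ∈ S
  · rw [hr k hk, zero_smul, zero_smul]
  · rw [hτ k hk]

theorem zJ_single_apply (hfr : OFr Q B c e) (i : ι) (v : V) :
    zJ B c e {i} v = v - (2 * co B c e v i) • e i := by
  rw [hfr.zJ_apply, Finset.sum_singleton]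
  congr 2
  unfold co
  have := hfr.c0
  have := hfr.h2
  field_simp

theorem three_ne_zero_of_card (hp : (Nat.card F).Prime) (hp5 : 5 ≤ Nat.card F) : (3 : F) ≠ 0 := by
  intro h3
  have : Fintype F := Fintype.ofFinite F
  have h3' : ((3 : ℕ) : F) = 0 := by exact_mod_cast h3
  have hc3 : ringChar F ∣ 3 := (ringChar.spec F 3).1 h3'
  have hcard : ((Nat.card F : ℕ) : F) = 0 := by
    rw [Nat.card_eq_fintype_card]
    exact Nat.cast_card_eq_zero F
  have hcc : ringChar F ∣ Nat.card F := (ringChar.spec F _).1 hcard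
  rcases (Nat.dvd_prime hp).1 hcc with h1 | h1
  · exact CharP.ringChar_ne_one h1
  · rw [h1] at hc3
    have := Nat.le_of_dvd (by norm_num) hc3
    omega

/-- the part of the statement of ZAPI used for Z2 -/
structure ZHyp (Q : V → F) (B : LinearMap.BilinForm F V) (c : F) (L : Subgroup (V ≃ₗ[F] V)) :
    Prop where
  add : ∀ u, Q u = 0 → ∀ z ∈ ZL Q B L u, ∀ z' ∈ ZL Q B L u, z + z' ∈ ZL Q B L u
  smul : ∀ u, Q u = 0 → ∀ z ∈ ZL Q B L u, ∀ t : F, t • z ∈ ZL Q B L u
  self : ∀ u, Q u = 0 → u ∈ ZL Q B L u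
  equiv : ∀ g ∈ L, ∀ u, Q u = 0 → ∀ z ∈ ZL Q B L u, g z ∈ ZL Q B L (g u)
  G2 : ∀ u, Q u = 0 → ∀ x ∈ XL Q B c L, x ∈ ZL Q B L u → ∀ t : F, x + t • u ∈ XL Q B c L
  G1 : ∀ u, Q u = 0 → ∀ y ∈ XL Q B c L, B y u = 0 → ∀ z ∈ ZL Q B L u, B y z ≠ 0 →
    y ∈ ZL Q B L u

/-- `Z_u` as a subspace -/
def ZSub (hZ : ZHyp Q B c L) {u : V} (hu : Q u = 0) : Submodule F V where
  carrier := ZL Q B L u
  add_mem' := fun {a b} ha hb => hZ.add u hu a ha b hb
  zero_mem' := by
    have := hZ.smul u hu u (hZ.self u hu) 0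
    rwa [zero_smul] at this
  smul_mem' := fun t z hz => hZ.smul u hu z hz t

theorem mem_ZSub (hZ : ZHyp Q B c L) {u : V} (hu : Q u = 0) (z : V) :
    z ∈ ZSub hZ hu ↔ z ∈ ZL Q B L u := Iff.rfl

/-- the key computation: `u_i e_a - u_a e_i ∈ Z_u` when `u_a² + 2 u_i² ≠ 0` -/
theorem pair_mem (hC : TCtx Q B c e L) (hZ : ZHyp Q B c L) {u : V} (hu : GoodU Q B c e L u)
    {a i b d : ι} (hai : a ≠ i) (hbd : b ≠ d) (hb : co B c e u b = 0) (hd : co B c e u d = 0)
    (hua : co B c e u a ≠ 0) (hui : co B c e u i ≠ 0)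
    (hD : co B c e u a * co B c e u a + 2 * (co B c e u i * co B c e u i) ≠ 0) :
    co B c e u i • e a - co B c e u a • e i ∈ ZL Q B L u := by
  classical
  have hfr := hC.fr
  have h2 := hfr.h2
  obtain ⟨hQu, hu0, h2z, hgood⟩ := hu
  have hab : a ≠ b := fun h => hua (by rw [h]; exact hb)
  have had : a ≠ d := fun h => hua (by rw [h]; exact hd)
  have hib : i ≠ b := fun h => hui (by rw [h]; exact hb)
  have hid : i ≠ d := fun h => hui (by rw [h]; exact hd)
  obtain ⟨τ, hτL, hτa, hτb, hτd, hτfix⟩ := hC.h3 a b d hab had hbd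
  generalize hua_def : co B c e u a = ua at *
  generalize hui_def : co B c e u i = ui at *
  -- `τ u`
  have hτu : τ u = u - ua • e a + ua • e b := by
    have hτr : τ (u - ua • e a) = u - ua • e a := by
      apply fix_of_co_zero hfr τ {a, b, d}
      · intro k hk
        simp only [Finset.mem_insert, Finset.mem_singleton, not_or] at hk
        exact hτfix k hk.1 hk.2.1 hk.2.2
      · intro k hk
        simp only [Finset.mem_insert, Finset.mem_singleton] at hk
        rcases hk with rfl | rfl | rfl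
        · rw [co_sub, co_smul, hfr.co_e, if_pos rfl, mul_one, hua_def, sub_self]
        · rw [co_sub, co_smul, hfr.co_e, if_neg hab, mul_zero, sub_zero, hb]
        · rw [co_sub, co_smul, hfr.co_e, if_neg had, mul_zero, sub_zero, hd]
    have h1 : u = ua • e a + (u - ua • e a) := by abel
    calc τ u = τ (ua • e a + (u - ua • e a)) := by rw [← h1]
      _ = ua • e b + (u - ua • e a) := by rw [map_add, map_smul, hτa, hτr]
      _ = u - ua • e a + ua • e b := by abel
  have hgL : zJ B c e {i} * τ ∈ L := L.mul_mem (hC.hz i) hτL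
  have hgu : (zJ B c e {i} * τ) u = u - ua • e a + ua • e b - (2 * ui) • e i := by
    rw [LinearEquiv.mul_apply, hτu, zJ_single_apply hfr]
    have h1 : co B c e (u - ua • e a + ua • e b) i = ui := by
      rw [co_add, co_sub, co_smul, co_smul, hfr.co_e, hfr.co_e, if_neg hai,
        if_neg (Ne.symm hib), mul_zero, sub_zero, add_zero, hui_def]
    rw [h1]
  have hged : (zJ B c e {i} * τ) (e d) = e a := by
    rw [LinearEquiv.mul_apply, hτd, hfr.zJ_e_not_mem (by simpa using hai)]
  generalize hu'_def : u - ua • e a + ua • e b - (2 * ui) • e i = u' at *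
  have hQu' : Q u' = 0 := by rw [← hgu, hC.hLO hgL u, hQu]
  have hea : e a ∈ ZL Q B L u' := by
    have := hZ.equiv _ hgL u hQu (e d) (hgood d hd)
    rwa [hged, hgu] at this
  generalize hD_def : ua * ua + 2 * (ui * ui) = D at *
  have hyX : e a + (ua / D) • u' ∈ XL Q B c L :=
    hZ.G2 u' hQu' (e a) (e_mem_XL hC a) hea (ua / D)
  have hBuu : B u u = 0 := by rw [B_self Q B hfr.hQs hfr.hQp, hQu, mul_zero]
  have hBu'u : B u' u = -(2 * c * D) := by
    rw [← hu'_def, ← hD_def]
    simp only [map_sub, map_add, map_smul, LinearMap.sub_apply, LinearMap.add_apply,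
      LinearMap.smul_apply, smul_eq_mul, B_co' hfr, hBuu, hb, hua_def, hui_def]
    ring
  have hyu : B (e a + (ua / D) • u') u = 0 := by
    rw [map_add, map_smul, LinearMap.add_apply, LinearMap.smul_apply, smul_eq_mul, B_co' hfr,
      hBu'u, hua_def]
    field_simp
    ring
  have hcou'b : co B c e u' b = ua := by
    rw [← hu'_def]
    simp only [co_sub, co_add, co_smul, hfr.co_e, if_neg hab, if_neg hib, if_pos, hb]
    ring
  have hyb : B (e a + (ua / D) • u') (e b) ≠ 0 := by
    rw [B_co hfr, co_add, co_smul, hfr.co_e, if_neg hab, hcou'b, zero_add]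
    exact mul_ne_zero hfr.two_c (mul_ne_zero (div_ne_zero hua hD) hua)
  have hyZ : e a + (ua / D) • u' ∈ ZL Q B L u :=
    hZ.G1 u hQu _ hyX hyu (e b) (hgood b hb) hyb
  have hw' : e a + (ua / D) • u' - (ua / D) • u - ((ua / D) * ua) • e b ∈ ZSub hZ hQu :=
    (ZSub hZ hQu).sub_mem ((ZSub hZ hQu).sub_mem hyZ
      ((ZSub hZ hQu).smul_mem _ (hZ.self u hQu))) ((ZSub hZ hQu).smul_mem _ (hgood b hb))
  have hDl : D * (ua / D) = ua := mul_div_cancel₀ ua hD
  have key : (2 * ui) • (ui • e a - ua • e i) =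
      D • (e a + (ua / D) • u' - (ua / D) • u - ((ua / D) * ua) • e b) := by
    rw [← hu'_def]
    have e1 : D • (e a + (ua / D) • (u - ua • e a + ua • e b - (2 * ui) • e i) - (ua / D) • u -
        ((ua / D) * ua) • e b) =
        (D - (D * (ua / D)) * ua) • e a - (2 * (D * (ua / D)) * ui) • e i := by module
    rw [e1, hDl, ← hD_def]
    module
  have hfin : ui • e a - ua • e i =
      (2 * ui)⁻¹ • (D • (e a + (ua / D) • u' - (ua / D) • u - ((ua / D) * ua) • e b)) := by
    rw [← key, smul_smul, inv_mul_cancel₀ (mul_ne_zero h2 hui), one_smul]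
  rw [hfin]
  exact (ZSub hZ hQu).smul_mem _ ((ZSub hZ hQu).smul_mem _ hw')

/-- OFA-Z2, with the needed part of ZAPI as a hypothesis -/
theorem Z2_aux (hC : TCtx Q B c e L) (hZ : ZHyp Q B c L) (hp5 : 5 ≤ Nat.card F) {u : V}
    (hu : GoodU Q B c e L u) : ∀ z, B u z = 0 → z ∈ ZL Q B L u := by
  classical
  intro z hz
  have hfr := hC.fr
  have hu' := hu
  obtain ⟨hQu, hu0, h2z, hgood⟩ := hu
  have h3 : (3 : F) ≠ 0 := three_ne_zero_of_card hC.hp hp5
  obtain ⟨b, hbm, d, hdm, hbd⟩ := Finset.one_lt_card.1 (by omega : 1 < (osupp B c e u)ᶜ.card)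
  have hb : co B c e u b = 0 := by
    rw [Finset.mem_compl, mem_osupp, not_not] at hbm
    exact hbm
  have hd : co B c e u d = 0 := by
    rw [Finset.mem_compl, mem_osupp, not_not] at hdm
    exact hdm
  obtain ⟨a, ha⟩ : ∃ a, co B c e u a ≠ 0 := by
    by_contra hcon
    push Not at hcon
    apply hu0
    rw [hfr.exp' u]
    exact Finset.sum_eq_zero fun k _ => by rw [hcon k, zero_smul]
  have hpair : ∀ k, k ≠ a → co B c e u k ≠ 0 →
      co B c e u k • e a - co B c e u a • e k ∈ ZL Q B L u := by
    intro k hka hk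
    by_cases hD : co B c e u a * co B c e u a + 2 * (co B c e u k * co B c e u k) = 0
    · have hD' : co B c e u k * co B c e u k + 2 * (co B c e u a * co B c e u a) ≠ 0 := by
        intro h0
        have h4 : 3 * (co B c e u k * co B c e u k) = 0 := by linear_combination 2 * hD - h0
        rcases mul_eq_zero.1 h4 with h | h
        · exact h3 h
        · exact hk (mul_self_eq_zero.1 h)
      have h5 := pair_mem hC hZ hu' hka hbd hb hd hk ha hD'
      have h6 := hZ.smul u hQu _ h5 (-1)
      have h7 : co B c e u k • e a - co B c e u a • e k =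
          (-1 : F) • (co B c e u a • e k - co B c e u k • e a) := by module
      rw [h7]
      exact h6
    · exact pair_mem hC hZ hu' (Ne.symm hka) hbd hb hd ha hk hD
  have hv : ∀ k, co B c e z k • e k - (co B c e z k * co B c e u k / co B c e u a) • e a ∈
      ZSub hZ hQu := by
    intro k
    by_cases hk0 : co B c e u k = 0
    · rw [hk0, mul_zero, zero_div, zero_smul, sub_zero]
      exact (ZSub hZ hQu).smul_mem _ (hgood k hk0)
    · by_cases hka : k = a
      · rw [hka, mul_div_assoc, div_self ha, mul_one, sub_self]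
        exact (ZSub hZ hQu).zero_mem
      · have h5 := (ZSub hZ hQu).smul_mem (-(co B c e z k / co B c e u a)) (hpair k hka hk0)
        have h6 : co B c e z k • e k - (co B c e z k * co B c e u k / co B c e u a) • e a =
            (-(co B c e z k / co B c e u a)) •
              (co B c e u k • e a - co B c e u a • e k) := by
          have h7 : -(co B c e z k / co B c e u a) * co B c e u a = -co B c e z k := by
            field_simp
          have h8 : -(co B c e z k / co B c e u a) * co B c e u k =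
              -(co B c e z k * co B c e u k / co B c e u a) := by
            field_simp
          rw [smul_sub, smul_smul, smul_smul, h7, h8]
          module
        rw [h6]
        exact h5
  have hsum : z = ∑ k, (co B c e z k • e k -
      (co B c e z k * co B c e u k / co B c e u a) • e a) := by
    rw [Finset.sum_sub_distrib, ← Finset.sum_smul, ← hfr.exp' z, ← Finset.sum_div]
    have h5 : ∑ k, co B c e z k * co B c e u k = 0 := by
      have h6 := hfr.B_eq z u
      rw [hfr.symm, hz] at h6
      rcases mul_eq_zero.1 h6.symm with h | h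
      · exact absurd h hfr.two_c
      · exact h
    rw [h5, zero_div, zero_smul, sub_zero]
  rw [hsum]
  exact (ZSub hZ hQu).sum_mem fun k _ => hv k

end Cfsg.Agent.Lib.Helper54_OFA_Z2Core
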