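import Mathlib
import Cfsg.Agent.Lib.Helper98_OFADefs
import Cfsg.Agent.Lib.Helper54_OFA_Z2Core
import Cfsg.Agent.Lib.Helper50_OFA_ZAPI

set_option autoImplicit false
set_option linter.unusedSectionVars false

/-!
# OFA package Z2 (helper54 for helper98): `GoodU u`, `p ≥ 5` gives `Z_u = u^⊥`.
-/

namespace Cfsg.Agent.Lib.Helper54_OFA_Z2

open Module Cfsg.Agent.Lib.Helper94_Symp Cfsg.Agent.Lib.Helper94_OrthSmall
  Cfsg.Agent.Lib.Helper94_OrthSiegel Cfsg.Agent.Lib.Helper32_OFDefs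
  Cfsg.Agent.Lib.Helper98_OFADefs

variable {F V : Type*} [Field F] [Finite F] [AddCommGroup V] [Module F V] [FiniteDimensional F V]
variable {Q : V → F} {B : LinearMap.BilinForm F V}
variable {ι : Type*} [Fintype ι] [DecidableEq ι] {c : F} {e : ι → V}
variable {L : Subgroup (V ≃ₗ[F] V)}

/-- OFA-Z2 (L). -/
theorem Z2 (hC : TCtx Q B c e L) (hp5 : 5 ≤ Nat.card F) {u : V} (hu : GoodU Q B c e L u) :
    ∀ z, B u z = 0 → z ∈ ZL Q B L u := by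
  obtain ⟨h1, h2, h3, h4, h5, h6, h7, h8⟩ := Cfsg.Agent.Lib.Helper50_OFA_ZAPI.ZAPI hC
  exact Cfsg.Agent.Lib.Helper54_OFA_Z2Core.Z2_aux hC ⟨h1, h2, h3, h4, h7, h8⟩ hp5 hu

end Cfsg.Agent.Lib.Helper54_OFA_Z2
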