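import Mathlib
import Cfsg.Agent.Lib.Helper98_OFADefs
import Cfsg.Agent.Lib.Helper54_OFA_Z2

/-!
# OFA market (architect helper98), package MFIN (formalised by helper43)

`GoodU u` gives all Siegel elements in `L`: for `a ∈ supp u` the vector `u' = ε_a u` is again `GoodU`,
`B(u, u') = -4 c u_a² ≠ 0`, `Z_u = u^⊥` and `Z_{u'} = u'^⊥` (Z2), then helper94's `all_of_pair`.
`MFIN_aux` takes the statement of OFA-Z2 as a hypothesis.
-/

set_option autoImplicit false
set_option linter.unusedVariables false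
set_option linter.unusedSectionVars false

namespace Cfsg.Agent.Lib.Helper43_OFA_MFIN

open Module Cfsg.Agent.Lib.Helper94_Symp Cfsg.Agent.Lib.Helper94_OrthSmall
  Cfsg.Agent.Lib.Helper94_OrthSiegel Cfsg.Agent.Lib.Helper32_OFDefs
  Cfsg.Agent.Lib.Helper98_OFADefs

section Frame

variable {F V : Type*} [Field F] [Finite F] [AddCommGroup V] [Module F V] [FiniteDimensional F V]
variable {Q : V → F} {B : LinearMap.BilinForm F V}
variable {ι : Type*} [Fintype ι] [DecidableEq ι] {c : F} {e : ι → V}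
variable {L : Subgroup (V ≃ₗ[F] V)}

/-- the coordinates of `ε_a u` -/
theorem co_zJ_single (hfr : OFr Q B c e) (a : ι) (u : V) (i : ι) :
    co B c e (zJ B c e {a} u) i = if i = a then - co B c e u i else co B c e u i := by
  unfold co
  rw [hfr.B_zJ]
  simp only [Finset.mem_singleton]
  split_ifs <;> ring

/-- `ε_a` preserves `GoodU` when `a` is in the support -/
theorem goodU_zJ (hC : TCtx Q B c e L) {u : V} (hu : GoodU Q B c e L u) {a : ι}
    (ha : co B c e u a ≠ 0) : GoodU Q B c e L (zJ B c e {a} u) := by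
  classical
  have hfr := hC.fr
  obtain ⟨hQu, hu0, h2z, hZ⟩ := hu
  have hgL : zJ B c e {a} ∈ L := hC.hz a
  have hgO : zJ B c e {a} ∈ oG Q := hfr.zJ_mem_oG {a}
  have hco := co_zJ_single hfr a u
  have hsupp : osupp B c e (zJ B c e {a} u) = osupp B c e u := by
    ext i
    rw [mem_osupp, mem_osupp, hco]
    split_ifs with hi
    · rw [neg_ne_zero]
    · rfl
  refine ⟨by rw [hgO, hQu], ?_, by rw [hsupp]; exact h2z, ?_⟩
  · intro h
    apply hu0
    have h1 : zJ B c e {a} u = zJ B c e {a} 0 := by rw [map_zero]; exact h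
    exact (zJ B c e {a}).injective h1
  · intro j hj
    have hj' : co B c e u j = 0 := by
      rw [hco] at hj
      split_ifs at hj with hi
      · exact neg_eq_zero.mp hj
      · exact hj
    have hja : j ≠ a := by
      rintro rfl
      exact ha hj'
    have h1 := hZ j hj'
    have hgej : zJ B c e {a} (e j) = e j :=
      hfr.zJ_e_not_mem (by rw [Finset.mem_singleton]; exact hja)
    refine ⟨?_, ?_⟩
    · rw [← hgej, oG_B Q B hfr.hQp hgO]
      exact h1.1
    · have h2 := conj_sieg Q B hfr.hQs hfr.hQp hgO hQu h1.1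
      rw [hgej] at h2
      rw [← h2]
      exact L.mul_mem (L.mul_mem hgL h1.2) (L.inv_mem hgL)

/-- `B(u, ε_a u) = -4 c u_a²` for singular `u` -/
theorem B_zJ_single (hfr : OFr Q B c e) {u : V} (hQu : Q u = 0) (a : ι) :
    B u (zJ B c e {a} u) = 2 * c * (-2 * (co B c e u a * co B c e u a)) := by
  classical
  rw [hfr.B_eq]
  congr 1
  have hsum : ∑ i, co B c e u i * co B c e u i = 0 := by
    have h1 := hfr.Q_eq u
    rw [hQu] at h1
    rcases mul_eq_zero.mp h1.symm with h | h
    · exact absurd h hfr.c0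
    · exact h
  have h2 : ∀ i, co B c e u i * co B c e (zJ B c e {a} u) i =
      co B c e u i * co B c e u i -
        (if i = a then 2 * (co B c e u i * co B c e u i) else 0) := by
    intro i
    rw [co_zJ_single hfr]
    split_ifs <;> ring
  simp_rw [h2]
  rw [Finset.sum_sub_distrib, hsum, Finset.sum_ite_eq' Finset.univ a, if_pos (Finset.mem_univ a)]
  ring

/-- OFA-MFIN with the statement of OFA-Z2 as a hypothesis. -/
theorem MFIN_aux (hC : TCtx Q B c e L) (hp5 : 5 ≤ Nat.card F)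
    (hZ2 : ∀ u : V, GoodU Q B c e L u → ∀ z, B u z = 0 → z ∈ ZL Q B L u)
    {u : V} (hu : GoodU Q B c e L u) :
    ∀ u' z : V, Q u' = 0 → B u' z = 0 → sieg Q B u' z ∈ L := by
  classical
  have hfr := hC.fr
  have hQu : Q u = 0 := hu.1
  have hu0 : u ≠ 0 := hu.2.1
  obtain ⟨a, ha⟩ : ∃ a, co B c e u a ≠ 0 := by
    by_contra hcon
    push Not at hcon
    apply hu0
    rw [hfr.exp' u]
    exact Finset.sum_eq_zero (fun i _ => by rw [hcon i, zero_smul])
  have hgood' := goodU_zJ hC hu ha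
  have hB : B u (zJ B c e {a} u) ≠ 0 := by
    rw [B_zJ_single hfr hQu a]
    exact mul_ne_zero hfr.two_c
      (mul_ne_zero (neg_ne_zero.mpr hfr.h2) (mul_self_ne_zero.mpr ha))
  exact Cfsg.Agent.Lib.Helper94_OrthVec.all_of_pair Q B hfr.hQs hfr.hQp hfr.nondeg L hC.hLO
    ⟨hQu, fun z hz => (hZ2 u hu z hz).2⟩
    ⟨hgood'.1, fun z hz => (hZ2 _ hgood' z hz).2⟩ hB

/-- OFA-MFIN (M), verbatim: `MFIN_aux` with helper54's Z2. -/
theorem MFIN (hC : TCtx Q B c e L) (hp5 : 5 ≤ Nat.card F) {u : V} (hu : GoodU Q B c e L u) :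
    ∀ u' z : V, Q u' = 0 → B u' z = 0 → sieg Q B u' z ∈ L :=
  MFIN_aux hC hp5 (fun u hu => Cfsg.Agent.Lib.Helper54_OFA_Z2.Z2 hC hp5 hu) hu

end Frame

end Cfsg.Agent.Lib.Helper43_OFA_MFIN
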