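import Mathlib
import Cfsg.Agent.Lib.Helper98_OFADefs
import Cfsg.Agent.Lib.Helper50_OFA_ZAPI
import Cfsg.Agent.Lib.Helper54_OFA_API1

set_option autoImplicit false

/-!
OFA market (architect helper98), package TAN2, with a small coordinate API (`co_add`, `co_smul`,
`co_part`, `Q_part`, `B_part`, `zJ_eq_sub_part`, `mem_ZL_part`).
-/

namespace Cfsg.Agent.Lib.Helper50_OFA_TAN2

open Module Cfsg.Agent.Lib.Helper94_Symp Cfsg.Agent.Lib.Helper94_OrthSmall
  Cfsg.Agent.Lib.Helper94_OrthSiegel Cfsg.Agent.Lib.Helper32_OFDefs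
  Cfsg.Agent.Lib.Helper98_OFADefs Cfsg.Agent.Lib.Helper50_OFA_ZAPI
  Cfsg.Agent.Lib.Helper54_OFA_API1

section Sq

variable {F : Type*} [Field F] [Finite F]

/-- if `-1` is not a square then `y` or `-y` is a square -/
theorem isSquare_or_neg (hm : ¬ IsSquare (-1 : F)) {y : F} (hy : y ≠ 0) :
    IsSquare y ∨ IsSquare (-y) := by
  classical
  have := Fintype.ofFinite F
  have h1 : quadraticChar F (-1) = -1 := quadraticChar_neg_one_iff_not_isSquare.mpr hm
  have h2 : quadraticChar F (-y) = quadraticChar F (-1) * quadraticChar F y := by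
    rw [← map_mul]; congr 1; ring
  rcases quadraticChar_dichotomy hy with h3 | h3
  · exact Or.inl ((quadraticChar_one_iff_isSquare hy).mp h3)
  · right
    rw [h1, h3] at h2
    exact (quadraticChar_one_iff_isSquare (neg_ne_zero.mpr hy)).mp (by rw [h2]; norm_num)

end Sq

section Co

variable {F V : Type*} [Field F] [AddCommGroup V] [Module F V]
variable {Q : V → F} {B : LinearMap.BilinForm F V}
variable {ι : Type*} [Fintype ι] [DecidableEq ι] {c : F} {e : ι → V}

omit [Fintype ι] [DecidableEq ι] in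
theorem co_add (v w : V) (i : ι) : co B c e (v + w) i = co B c e v i + co B c e w i := by
  unfold co
  rw [map_add, LinearMap.add_apply, mul_add]

omit [Fintype ι] [DecidableEq ι] in
theorem co_smul (t : F) (v : V) (i : ι) : co B c e (t • v) i = t * co B c e v i := by
  unfold co
  rw [map_smul, LinearMap.smul_apply, smul_eq_mul]
  ring

theorem part_eq_sum (T : Finset ι) (x : V) :
    part B c e T x = ∑ i, (if i ∈ T then co B c e x i else 0) • e i := by
  unfold part
  rw [← Finset.sum_subset (Finset.subset_univ T)]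
  · refine Finset.sum_congr rfl fun i hi => ?_
    rw [if_pos hi]
  · intro i _ hi
    rw [if_neg hi, zero_smul]

theorem co_part (hfr : OFr Q B c e) (T : Finset ι) (x : V) (i : ι) :
    co B c e (part B c e T x) i = if i ∈ T then co B c e x i else 0 := by
  rw [part_eq_sum, hfr.co_sum]

theorem sum_co_part (hfr : OFr Q B c e) (T : Finset ι) (x : V) (f : ι → F) :
    ∑ i, f i * co B c e (part B c e T x) i = ∑ i ∈ T, f i * co B c e x i := by
  rw [← Finset.sum_subset (Finset.subset_univ T)]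
  · refine Finset.sum_congr rfl fun i hi => ?_
    rw [co_part hfr, if_pos hi]
  · intro i _ hi
    rw [co_part hfr, if_neg hi, mul_zero]

theorem Q_part (hfr : OFr Q B c e) (T : Finset ι) (x : V) :
    Q (part B c e T x) = c * nu B c e T x := by
  rw [hfr.Q_eq, sum_co_part hfr]
  unfold nu
  congr 1
  refine Finset.sum_congr rfl fun i hi => ?_
  rw [co_part hfr, if_pos hi]

theorem B_part (hfr : OFr Q B c e) (T : Finset ι) (x : V) :
    B x (part B c e T x) = 2 * c * nu B c e T x := by
  rw [hfr.B_eq, sum_co_part hfr]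
  rfl

theorem zJ_eq_sub_part (hfr : OFr Q B c e) (T : Finset ι) (x : V) :
    zJ B c e T x = x + (-2 : F) • part B c e T x := by
  rw [hfr.zJ_apply]
  unfold part
  rw [Finset.smul_sum, sub_eq_add_neg, ← Finset.sum_neg_distrib]
  congr 1
  refine Finset.sum_congr rfl fun i _ => ?_
  unfold co
  rw [smul_smul, ← neg_smul]
  congr 1
  have h2 := hfr.h2
  have hc := hfr.c0
  field_simp

theorem sum_sq_eq_one (hfr : OFr Q B c e) {x : V} (hx : Q x = c) :
    ∑ i, co B c e x i * co B c e x i = 1 := by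
  have h1 := hfr.Q_eq x
  rw [hx] at h1
  have h2 : c * 1 = c * ∑ i, co B c e x i * co B c e x i := by rw [mul_one]; exact h1
  exact (mul_left_cancel₀ hfr.c0 h2).symm

theorem nu_osupp (hfr : OFr Q B c e) (x : V) :
    nu B c e (osupp B c e x) x = ∑ i, co B c e x i * co B c e x i := by
  unfold nu
  apply Finset.sum_subset (Finset.subset_univ _)
  intro i _ hi
  rw [mem_osupp] at hi
  push Not at hi
  rw [hi, mul_zero]

end Co

section Frame

variable {F V : Type*} [Field F] [Finite F] [AddCommGroup V] [Module F V] [FiniteDimensional F V]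
variable {Q : V → F} {B : LinearMap.BilinForm F V}
variable {ι : Type*} [Fintype ι] [DecidableEq ι] {c : F} {e : ι → V}
variable {L : Subgroup (V ≃ₗ[F] V)}

/-- the TAN1 argument: `x ∈ X`, `nu T x = 0` gives `x ∈ Z_u` for `u = x_T` -/
theorem mem_ZL_part (hC : TCtx Q B c e L) {x : V} (hx : x ∈ XL Q B c L) {T : Finset ι}
    (hnu : nu B c e T x = 0) :
    Q (part B c e T x) = 0 ∧ x ∈ ZL Q B L (part B c e T x) := by
  have hfr := hC.fr
  have hQs := hC.fr.hQs
  have hQp := hC.fr.hQp
  have hu : Q (part B c e T x) = 0 := by rw [Q_part hfr, hnu, mul_zero]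
  refine ⟨hu, ?_⟩
  have hBxu : B x (part B c e T x) = 0 := by rw [B_part hfr, hnu, mul_zero]
  have h1 : zJ B c e T x ∈ XL Q B c L := map_mem_XL hC (zJ_mem hC T) hx
  rw [zJ_eq_sub_part hfr] at h1
  have hu' : Q ((-2 : F) • part B c e T x) = 0 := by rw [hQs, hu, mul_zero]
  have hxu' : B x ((-2 : F) • part B c e T x) = 0 := by rw [map_smul, hBxu, smul_zero]
  have h2 := zl_G0 hQs hQp hC.hp hfr.c0 hx hu' hxu' h1
  rwa [zl_smul_left hQs hQp hC.hp hu (neg_ne_zero.mpr hfr.h2)] at h2

/-- the final step of TAN2 -/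
theorem tan2_step (hC : TCtx Q B c e L) {x : V} (hx : x ∈ XL Q B c L)
    {T : Finset ι} (hTS : T ⊂ osupp B c e x) (hnu : nu B c e T x = 0) {j : ι}
    (hj : osupp B c e x \ T = {j}) {J : Finset ι} (hJT : J ⊆ T) (hJ : J.Nonempty)
    (hJc : J.card + 2 ≤ T.card) {s : F} (hs : s ≠ 0) (hss : s * s = - nu B c e J x) :
    ∃ x' ∈ XL Q B c L, ∃ T' : Finset ι, T'.Nonempty ∧ T' ⊂ osupp B c e x' ∧
      nu B c e T' x' = 0 ∧ T'.card < T.card := by
  have hfr := hC.fr
  have hQs := hC.fr.hQs
  have hQp := hC.fr.hQp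
  obtain ⟨hu, hxZ⟩ := mem_ZL_part hC hx hnu
  have hx' : x + (s⁻¹ - 1) • part B c e T x ∈ XL Q B c L :=
    zl_G2 hQs hQp hC.hp hC.hLO hfr.h2 hfr.c0 hu hx hxZ _
  have hjS : j ∈ osupp B c e x ∧ j ∉ T := by
    have : j ∈ osupp B c e x \ T := by rw [hj]; exact Finset.mem_singleton_self j
    exact Finset.mem_sdiff.mp this
  have hco : ∀ i, co B c e (x + (s⁻¹ - 1) • part B c e T x) i =
      if i ∈ T then s⁻¹ * co B c e x i else co B c e x i := by
    intro i
    rw [co_add, co_smul, co_part hfr]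
    split_ifs <;> ring
  have hsupp : osupp B c e (x + (s⁻¹ - 1) • part B c e T x) = osupp B c e x := by
    ext i
    rw [mem_osupp, mem_osupp, hco]
    split_ifs
    · exact mul_ne_zero_iff_left (inv_ne_zero hs)
    · exact Iff.rfl
  have hjJ : j ∉ J := fun h => hjS.2 (hJT h)
  have hxj : co B c e x j * co B c e x j = 1 := by
    have h1 := sum_sq_eq_one hfr hx.1
    rw [← nu_osupp hfr] at h1
    unfold nu at h1 hnu
    rw [← Finset.sum_sdiff hTS.1, hnu, add_zero, hj, Finset.sum_singleton] at h1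
    exact h1
  refine ⟨_, hx', insert j J, Finset.insert_nonempty j J, ?_, ?_, ?_⟩
  · rw [hsupp]
    have hsub : insert j J ⊆ osupp B c e x := by
      intro i hi
      rcases Finset.mem_insert.mp hi with rfl | hi
      · exact hjS.1
      · exact hTS.1 (hJT hi)
    refine Finset.ssubset_iff_subset_ne.mpr ⟨hsub, fun heq => ?_⟩
    have h1 := Finset.card_lt_card hTS
    rw [← heq, Finset.card_insert_of_notMem hjJ] at h1
    omega
  · unfold nu
    rw [Finset.sum_insert hjJ, hco, if_neg hjS.2, hxj]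
    have h1 : ∑ i ∈ J, co B c e (x + (s⁻¹ - 1) • part B c e T x) i *
        co B c e (x + (s⁻¹ - 1) • part B c e T x) i = s⁻¹ * s⁻¹ * nu B c e J x := by
      unfold nu
      rw [Finset.mul_sum]
      refine Finset.sum_congr rfl fun i hi => ?_
      rw [hco, if_pos (hJT hi)]
      ring
    rw [h1]
    have h2 : nu B c e J x = -(s * s) := by rw [hss, neg_neg]
    rw [h2]
    field_simp
    ring
  · rw [Finset.card_insert_of_notMem hjJ]
    omega

/-- OFA-TAN2 (L). -/
theorem TAN2 (hC : TCtx Q B c e L) (hp5 : 5 ≤ Nat.card F) {x : V} (hx : x ∈ XL Q B c L)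
    {T : Finset ι} (hT4 : 4 ≤ T.card) (hTS : T ⊂ osupp B c e x) (hnu : nu B c e T x = 0)
    (hone : (osupp B c e x \ T).card = 1) :
    ∃ x' ∈ XL Q B c L, ∃ T' : Finset ι, T'.Nonempty ∧ T' ⊂ osupp B c e x' ∧
      nu B c e T' x' = 0 ∧ T'.card < T.card := by
  obtain ⟨j, hj⟩ := Finset.card_eq_one.mp hone
  by_cases hA : ∃ J : Finset ι, J.Nonempty ∧ J ⊂ T ∧ nu B c e J x = 0
  · obtain ⟨J, hJ, hJT, hJnu⟩ := hA
    exact ⟨x, hx, J, hJ, hJT.trans hTS, hJnu, Finset.card_lt_card hJT⟩
  push Not at hA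
  -- two distinct elements of `T`
  obtain ⟨a, b, haT, hbT, hab⟩ : ∃ a b, a ∈ T ∧ b ∈ T ∧ a ≠ b := by
    have h1 : 1 < T.card := by omega
    obtain ⟨a, ha, b, hb, hab⟩ := Finset.one_lt_card.mp h1
    exact ⟨a, b, ha, hb, hab⟩
  have hxa : co B c e x a ≠ 0 := mem_osupp.mp (hTS.1 haT)
  by_cases hm : IsSquare (-1 : F)
  · obtain ⟨i, hi⟩ := hm
    have hi0 : i ≠ 0 := by
      rintro rfl
      rw [mul_zero] at hi
      exact neg_ne_zero.mpr one_ne_zero hi
    refine tan2_step hC hx hTS hnu hj (J := {a}) (Finset.singleton_subset_iff.mpr haT)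
      (Finset.singleton_nonempty a) (by rw [Finset.card_singleton]; omega)
      (s := i * co B c e x a) (mul_ne_zero hi0 hxa) ?_
    unfold nu
    rw [Finset.sum_singleton]
    have : i * co B c e x a * (i * co B c e x a) = (i * i) * (co B c e x a * co B c e x a) := by
      ring
    rw [this, ← hi]
    ring
  · have hJ1T : ({a, b} : Finset ι) ⊆ T := by
      intro k hk
      rcases Finset.mem_insert.mp hk with rfl | hk
      · exact haT
      · rw [Finset.mem_singleton] at hk; rw [hk]; exact hbT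
    have hJ1c : ({a, b} : Finset ι).card = 2 := Finset.card_pair hab
    have hJ1ne : ({a, b} : Finset ι).Nonempty := ⟨a, Finset.mem_insert_self a _⟩
    have hJ1ss : ({a, b} : Finset ι) ⊂ T := by
      refine Finset.ssubset_iff_subset_ne.mpr ⟨hJ1T, fun heq => ?_⟩
      rw [← heq, hJ1c] at hT4
      omega
    have hy : nu B c e {a, b} x ≠ 0 := hA _ hJ1ne hJ1ss
    have hsum : nu B c e (T \ {a, b}) x + nu B c e {a, b} x = 0 := by
      unfold nu at hnu ⊢
      rw [Finset.sum_sdiff hJ1T, hnu]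
    have hJ2c : (T \ {a, b}).card = T.card - 2 := by
      rw [Finset.card_sdiff_of_subset hJ1T, hJ1c]
    rcases isSquare_or_neg hm hy with ⟨s, hs⟩ | ⟨s, hs⟩
    · -- `nu J1 = s²`, use `J2`
      have hs0 : s ≠ 0 := by
        rintro rfl
        rw [mul_zero] at hs
        exact hy hs
      refine tan2_step hC hx hTS hnu hj (J := T \ {a, b}) Finset.sdiff_subset ?_
        (by rw [hJ2c]; omega) (s := s) hs0 ?_
      · rw [← Finset.card_pos, hJ2c]; omega
      · rw [← hs]
        exact eq_neg_of_add_eq_zero_right hsum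
    · have hs0 : s ≠ 0 := by
        rintro rfl
        rw [mul_zero] at hs
        exact hy (neg_eq_zero.mp hs)
      exact tan2_step hC hx hTS hnu hj (J := {a, b}) hJ1T hJ1ne (by rw [hJ1c]; omega)
        (s := s) hs0 hs.symm

end Frame

end Cfsg.Agent.Lib.Helper50_OFA_TAN2
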