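import Mathlib
import Cfsg.Agent.Lib.Helper98_OFADefs

/-!
OFA market (helper98 architect), package **PERM**: the even permutations of the frame are
induced by elements of `L`.  (helper5)
-/

set_option autoImplicit false
set_option linter.unusedSectionVars false

namespace Cfsg.Agent.Lib.Helper5_OFA_PERM

open Module Cfsg.Agent.Lib.Helper94_Symp Cfsg.Agent.Lib.Helper94_OrthSmall
  Cfsg.Agent.Lib.Helper94_OrthSiegel Cfsg.Agent.Lib.Helper32_OFDefs
  Cfsg.Agent.Lib.Helper98_OFADefs

/-- The points of a three-cycle. -/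
lemma threeCycle_data {ι : Type*} [Fintype ι] [DecidableEq ι] {σ : Equiv.Perm ι}
    (h : σ.IsThreeCycle) :
    ∃ a b d, a ≠ b ∧ a ≠ d ∧ b ≠ d ∧ σ a = b ∧ σ b = d ∧ σ d = a ∧
      ∀ i, i ≠ a → i ≠ b → i ≠ d → σ i = i := by
  have hcard : σ.support.card = 3 := h.card_support
  have h3 : σ ^ 3 = 1 := by
    rw [← h.orderOf]; exact pow_orderOf_eq_one σ
  have hne : σ.support.Nonempty := by
    rw [← Finset.card_pos, hcard]; norm_num
  obtain ⟨a, ha⟩ := hne
  rw [Equiv.Perm.mem_support] at ha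
  have h3a : σ (σ (σ a)) = a := by
    have : (σ ^ 3) a = a := by rw [h3]; rfl
    simpa [pow_succ, Equiv.Perm.mul_apply] using this
  have hab : a ≠ σ a := fun h => ha h.symm
  have hbd : σ a ≠ σ (σ a) := fun h => hab (σ.injective h)
  have had : a ≠ σ (σ a) := by
    intro h
    apply ha
    have := h3a
    rw [← h] at this
    exact this
  refine ⟨a, σ a, σ (σ a), hab, had, hbd, rfl, rfl, h3a, ?_⟩
  intro i hia hib hid
  have hsub : ({a, σ a, σ (σ a)} : Finset ι) ⊆ σ.support := by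
    intro x hx
    rw [Finset.mem_insert, Finset.mem_insert, Finset.mem_singleton] at hx
    rw [Equiv.Perm.mem_support]
    rcases hx with rfl | rfl | rfl
    · exact ha
    · exact fun h => hbd h.symm
    · rw [h3a]; exact had
  have hc3 : ({a, σ a, σ (σ a)} : Finset ι).card = 3 := by
    rw [Finset.card_insert_of_notMem, Finset.card_insert_of_notMem, Finset.card_singleton]
    · rw [Finset.mem_singleton]; exact hbd
    · rw [Finset.mem_insert, Finset.mem_singleton, not_or]; exact ⟨hab, had⟩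
  have heq : ({a, σ a, σ (σ a)} : Finset ι) = σ.support :=
    Finset.eq_of_subset_of_card_le hsub (by rw [hc3, hcard])
  by_contra hi
  have : i ∈ σ.support := Equiv.Perm.mem_support.2 hi
  rw [← heq, Finset.mem_insert, Finset.mem_insert, Finset.mem_singleton] at this
  rcases this with h | h | h
  · exact hia h
  · exact hib h
  · exact hid h

section Frame

variable {F V : Type*} [Field F] [Finite F] [AddCommGroup V] [Module F V] [FiniteDimensional F V]
variable {Q : V → F} {B : LinearMap.BilinForm F V}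
variable {ι : Type*} [Fintype ι] [DecidableEq ι] {c : F} {e : ι → V}
variable {L : Subgroup (V ≃ₗ[F] V)}

/-- The permutations of the frame induced by elements of `L`. -/
def permSub (e : ι → V) (L : Subgroup (V ≃ₗ[F] V)) : Subgroup (Equiv.Perm ι) where
  carrier := {σ | ∃ τ ∈ L, ∀ i, τ (e i) = e (σ i)}
  mul_mem' := by
    rintro σ₁ σ₂ ⟨τ₁, h₁, h₁'⟩ ⟨τ₂, h₂, h₂'⟩
    refine ⟨τ₁ * τ₂, L.mul_mem h₁ h₂, fun i => ?_⟩
    rw [LinearEquiv.mul_apply, h₂', h₁', Equiv.Perm.mul_apply]
  one_mem' := ⟨1, L.one_mem, fun i => rfl⟩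
  inv_mem' := by
    rintro σ ⟨τ, h, h'⟩
    refine ⟨τ⁻¹, L.inv_mem h, fun i => ?_⟩
    have h1 : τ (e (σ⁻¹ i)) = e i := by
      rw [h']
      show e (σ (σ⁻¹ i)) = e i
      rw [← Equiv.Perm.mul_apply, mul_inv_cancel]
      rfl
    rw [← h1]
    show τ⁻¹ (τ (e (σ⁻¹ i))) = e (σ⁻¹ i)
    rw [← LinearEquiv.mul_apply, inv_mul_cancel]
    rfl

/-- OFA-PERM (M).  Even permutations of the frame are in `L`. -/
theorem PERM (hC : TCtx Q B c e L) :
    ∀ σ : Equiv.Perm ι, σ ∈ alternatingGroup ι → ∃ τ ∈ L, ∀ i, τ (e i) = e (σ i) := by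
  intro σ hσ
  rw [← Equiv.Perm.closure_three_cycles_eq_alternating] at hσ
  have hle : Subgroup.closure {σ : Equiv.Perm ι | σ.IsThreeCycle} ≤ permSub e L := by
    rw [Subgroup.closure_le]
    intro ρ hρ
    obtain ⟨a, b, d, hab, had, hbd, h1, h2, h3, h4⟩ := threeCycle_data hρ
    obtain ⟨τ, hτL, t1, t2, t3, t4⟩ := hC.h3 a b d hab had hbd
    refine ⟨τ, hτL, fun i => ?_⟩
    by_cases hia : i = a
    · rw [hia, t1, h1]
    by_cases hib : i = b
    · rw [hib, t2, h2]
    by_cases hid : i = d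
    · rw [hid, t3, h3]
    rw [t4 i hia hib hid, h4 i hia hib hid]
  exact hle hσ

end Frame

end Cfsg.Agent.Lib.Helper5_OFA_PERM
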