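import Mathlib
import Cfsg.Agent.Lib.Helper98_OFADefs

set_option autoImplicit false
set_option linter.unusedVariables false
set_option linter.unusedSectionVars false

/-!
# OFA market (architect helper98), package COORD3P (helper96): the platonic case of COORD3 is impossible
-/

namespace Cfsg.Agent.Lib.Helper96_OFA_COORD3P

open Module Cfsg.Agent.Lib.Helper94_Symp Cfsg.Agent.Lib.Helper94_OrthSmall
  Cfsg.Agent.Lib.Helper94_OrthSiegel Cfsg.Agent.Lib.Helper32_OFDefs
  Cfsg.Agent.Lib.Helper98_OFADefs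

section Frame

variable {F V : Type*} [Field F] [Finite F] [AddCommGroup V] [Module F V] [FiniteDimensional F V]
variable {Q : V → F} {B : LinearMap.BilinForm F V}
variable {ι : Type*} [Fintype ι] [DecidableEq ι] {c : F} {e : ι → V}
variable {L : Subgroup (V ≃ₗ[F] V)}

/-- the reflection in a frame vector -/
theorem Rf_e (hfr : OFr Q B c e) (k j : ι) :
    Rf Q B (e k) (e j) = if j = k then -e j else e j := by
  have hk : Q (e k) ≠ 0 := by rw [hfr.Qe]; exact hfr.c0
  rw [Rf_apply Q B hfr.hQs hfr.hQp hk, hfr.Qe, hfr.Bee']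
  by_cases h : j = k
  · rw [if_pos h, if_pos h, h]
    have : c⁻¹ * (2 * c) = 2 := by
      field_simp [hfr.c0]
    rw [this, two_smul]
    abel
  · rw [if_neg h, if_neg h, mul_zero, zero_smul, sub_zero]

theorem Q_sub (hfr : OFr Q B c e) {i j : ι} (hij : i ≠ j) : Q (e i - e j) = 2 * c := by
  have h1 : e i - e j = e i + (-1 : F) • e j := by
    rw [neg_one_smul, sub_eq_add_neg]
  rw [h1, hfr.hQp, hfr.hQs, hfr.Qe, hfr.Qe, map_smul, hfr.orth i j hij]
  simp only [smul_eq_mul, mul_zero, add_zero]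
  ring

/-- the reflection in `e i - e j` is the transposition `(i j)` -/
theorem Rf_sub (hfr : OFr Q B c e) {i j : ι} (hij : i ≠ j) (k : ι) :
    Rf Q B (e i - e j) (e k) = if k = i then e j else if k = j then e i else e k := by
  have hd : Q (e i - e j) ≠ 0 := by
    rw [Q_sub hfr hij]
    exact hfr.two_c
  rw [Rf_apply Q B hfr.hQs hfr.hQp hd, Q_sub hfr hij, map_sub, hfr.Bee', hfr.Bee']
  have h2c : (2 * c)⁻¹ * (2 * c) = 1 := inv_mul_cancel₀ hfr.two_c
  by_cases hki : k = i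
  · have hkj : k ≠ j := fun h => hij (hki.symm.trans h)
    rw [if_pos hki, if_pos hki, if_neg hkj, sub_zero, h2c, one_smul, hki]
    abel
  · rw [if_neg hki, if_neg hki]
    by_cases hkj : k = j
    · rw [if_pos hkj, if_pos hkj, zero_sub, mul_neg, h2c, neg_one_smul, hkj]
      abel
    · rw [if_neg hkj, if_neg hkj, sub_zero, mul_zero, zero_smul, sub_zero]

/-- the reflection in a unit vector `y`, on a frame vector -/
theorem Rf_y (hfr : OFr Q B c e) {y : V} (hy : Q y = c) (t : ι) :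
    Rf Q B y (e t) = e t - (2 * co B c e y t) • y := by
  have hy0 : Q y ≠ 0 := by rw [hy]; exact hfr.c0
  rw [Rf_apply Q B hfr.hQs hfr.hQp hy0, hy]
  congr 2
  unfold co
  rw [hfr.symm (e t) y]
  have := hfr.c0
  have := hfr.h2
  field_simp

theorem co_sub_smul (u v : V) (a : F) (k : ι) :
    co B c e (u - a • v) k = co B c e u k - a * co B c e v k := by
  unfold co
  rw [map_sub, map_smul, LinearMap.sub_apply, LinearMap.smul_apply, smul_eq_mul]
  ring

theorem co_neg (u : V) (k : ι) : co B c e (-u) k = -co B c e u k := by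
  unfold co
  rw [map_neg, LinearMap.neg_apply]
  ring

/-- the orbit argument: in the platonic case every element of the rotation group maps the frame vectors
of `T` to `± e s`, `s ∈ T` -/
theorem orbit_lemma (hfr : OFr Q B c e) (T : Finset ι) (hT : T.card = 3) (y : V)
    (h24 : (∃ g ∈ RotGp Q B (A3 e T y), orderOf g = 4) → Nat.card (RotGp Q B (A3 e T y)) = 24)
    (h5 : ∀ v ∈ Submodule.span F (e '' (T : Set ι)), v ≠ 0 →
      Nat.card {g : RotGp Q B (A3 e T y) // (g : V ≃ₗ[F] V) v = v} ≤ 5) :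
    ∀ g ∈ RotGp Q B (A3 e T y), ∀ t ∈ T, ∃ s ∈ T, g (e t) = e s ∨ g (e t) = -e s := by
  classical
  have hVfin : Finite V := Module.finite_of_finite F
  have hGfin : Finite (V ≃ₗ[F] V) :=
    Finite.of_injective (fun g : V ≃ₗ[F] V => (g : V → V))
      (fun g h hgh => LinearEquiv.ext (congrFun hgh))
  obtain ⟨t1, t2, t3, h12, h13, h23, hTeq⟩ := Finset.card_eq_three.mp hT
  have ht1 : t1 ∈ T := by rw [hTeq]; simp
  have ht2 : t2 ∈ T := by rw [hTeq]; simp
  have ht3 : t3 ∈ T := by rw [hTeq]; simp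
  obtain ⟨Gp, hGp⟩ : ∃ Gp : Subgroup (V ≃ₗ[F] V), Gp = RotGp Q B (A3 e T y) := ⟨_, rfl⟩
  rw [← hGp] at h24 h5 ⊢
  have hgen : ∀ a ∈ A3 e T y, ∀ b ∈ A3 e T y, Rf Q B a * Rf Q B b ∈ Gp := by
    intro a ha b hb
    rw [hGp]
    exact Subgroup.subset_closure ⟨a, ha, b, hb, rfl⟩
  have hAe : ∀ k ∈ T, e k ∈ A3 e T y := fun k hk => Or.inl ⟨k, hk, rfl⟩
  have hAd : ∀ i ∈ T, ∀ j ∈ T, i ≠ j → e i - e j ∈ A3 e T y :=
    fun i hi j hj hij => Or.inr (Or.inl ⟨i, hi, j, hj, hij, rfl⟩)
  -- the element of order `4`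
  obtain ⟨c4, hc4⟩ : ∃ c4 : V ≃ₗ[F] V, c4 = Rf Q B (e t1) * Rf Q B (e t1 - e t2) := ⟨_, rfl⟩
  have hc4G : c4 ∈ Gp := by
    rw [hc4]
    exact hgen _ (hAe t1 ht1) _ (hAd t1 ht1 t2 ht2 h12)
  have hc4e1 : c4 (e t1) = e t2 := by
    rw [hc4, LinearEquiv.mul_apply, Rf_sub hfr h12, if_pos rfl, Rf_e hfr, if_neg (Ne.symm h12)]
  have hc4e2 : c4 (e t2) = -e t1 := by
    rw [hc4, LinearEquiv.mul_apply, Rf_sub hfr h12, if_neg (Ne.symm h12), if_pos rfl, Rf_e hfr,
      if_pos rfl]
  have hc4ek : ∀ k, k ≠ t1 → k ≠ t2 → c4 (e k) = e k := by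
    intro k hk1 hk2
    rw [hc4, LinearEquiv.mul_apply, Rf_sub hfr h12, if_neg hk1, if_neg hk2, Rf_e hfr, if_neg hk1]
  have hd1 : (c4 * c4) (e t1) = -e t1 := by
    rw [LinearEquiv.mul_apply, hc4e1, hc4e2]
  have hd2 : (c4 * c4) (e t2) = -e t2 := by
    rw [LinearEquiv.mul_apply, hc4e2, map_neg, hc4e1]
  have hdk : ∀ k, k ≠ t1 → k ≠ t2 → (c4 * c4) (e k) = e k := by
    intro k hk1 hk2
    rw [LinearEquiv.mul_apply, hc4ek k hk1 hk2, hc4ek k hk1 hk2]
  have hord : orderOf c4 = 4 := by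
    have hnot : ¬ c4 ^ 2 ^ 1 = 1 := by
      intro h
      rw [pow_one, pow_two] at h
      have h1 := hd1
      rw [h] at h1
      exact hfr.e_ne_neg t1 t1 h1
    have hfin : c4 ^ 2 ^ (1 + 1) = 1 := by
      have h4 : c4 ^ 2 ^ (1 + 1) = (c4 * c4) * (c4 * c4) := by
        rw [show (2 : ℕ) ^ (1 + 1) = 4 from rfl, pow_succ, pow_succ, pow_succ, pow_one, mul_assoc]
      rw [h4]
      apply hfr.equiv_ext
      intro k
      rw [LinearEquiv.mul_apply]
      show (c4 * c4) ((c4 * c4) (e k)) = e k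
      by_cases hk1 : k = t1
      · rw [hk1, hd1, map_neg, hd1, neg_neg]
      · by_cases hk2 : k = t2
        · rw [hk2, hd2, map_neg, hd2, neg_neg]
        · rw [hdk k hk1 hk2, hdk k hk1 hk2]
    exact orderOf_eq_prime_pow hnot hfin
  have hcardG : Nat.card Gp = 24 := h24 ⟨c4, hc4G, hord⟩
  -- the stabiliser of `e t3`
  have hsmul : ∀ (g : ↥Gp) (v : V), g • v = (g : V ≃ₗ[F] V) v := fun g v => rfl
  obtain ⟨S, hS⟩ : ∃ S : Subgroup ↥Gp, S = MulAction.stabilizer ↥Gp (e t3) := ⟨_, rfl⟩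
  have hS5 : Nat.card S ≤ 5 := by
    have h := h5 (e t3) (Submodule.subset_span ⟨t3, ht3, rfl⟩) (hfr.e_ne_zero t3)
    have heq : Nat.card S = Nat.card {g : ↥Gp // (g : V ≃ₗ[F] V) (e t3) = e t3} := by
      apply Nat.card_congr
      apply Equiv.subtypeEquivRight
      intro g
      rw [hS, MulAction.mem_stabilizer_iff, hsmul]
    rw [heq]
    exact h
  have hc4S : (⟨c4, hc4G⟩ : ↥Gp) ∈ S := by
    rw [hS, MulAction.mem_stabilizer_iff, hsmul]
    exact hc4ek t3 (Ne.symm h13) (Ne.symm h23)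
  have h4S : 4 ∣ Nat.card S := by
    have h1 : orderOf (⟨⟨c4, hc4G⟩, hc4S⟩ : ↥S) = 4 := by
      rw [← Subgroup.orderOf_coe, ← Subgroup.orderOf_coe]
      exact hord
    rw [← h1]
    exact orderOf_dvd_natCard _
  have hS4 : Nat.card S = 4 := by
    have hpos : 0 < Nat.card S := Nat.card_pos
    obtain ⟨m, hm⟩ := h4S
    omega
  have horb : Nat.card (MulAction.orbit ↥Gp (e t3)) = 6 := by
    have h1 := Subgroup.card_eq_card_quotient_mul_card_subgroup S
    have h2 : Nat.card (MulAction.orbit ↥Gp (e t3)) = Nat.card (↥Gp ⧸ S) := by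
      rw [hS]
      exact Nat.card_congr (MulAction.orbitEquivQuotientStabilizer ↥Gp (e t3))
    rw [hcardG, hS4, ← h2] at h1
    omega
  -- the six vectors `± e s`
  obtain ⟨f, hf⟩ : ∃ f : ι × Bool → V, f = fun p => if p.2 then e p.1 else -e p.1 := ⟨_, rfl⟩
  have hfinj : Function.Injective f := by
    rintro ⟨s, b⟩ ⟨s', b'⟩ h
    rw [hf] at h
    cases b <;> cases b' <;> simp only [Bool.false_eq_true, if_false, if_true] at h
    · rw [hfr.e_inj (neg_injective h)]
    · exact absurd h.symm (hfr.e_ne_neg s' s)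
    · exact absurd h (hfr.e_ne_neg s s')
    · rw [hfr.e_inj h]
  obtain ⟨S6, hS6⟩ : ∃ S6 : Finset V, S6 = (T ×ˢ (Finset.univ : Finset Bool)).image f := ⟨_, rfl⟩
  have hS6card : S6.card = 6 := by
    rw [hS6, Finset.card_image_of_injective _ hfinj, Finset.card_product, hT, Finset.card_univ,
      Fintype.card_bool]
  have hsub : (S6 : Set V) ⊆ MulAction.orbit ↥Gp (e t3) := by
    intro v hv
    rw [Finset.mem_coe, hS6, Finset.mem_image] at hv
    obtain ⟨⟨s, b⟩, hp, rfl⟩ := hv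
    rw [Finset.mem_product] at hp
    have hsT : s ∈ T := hp.1
    rw [MulAction.mem_orbit_iff]
    by_cases hs3 : s = t3
    · cases b
      · refine ⟨⟨Rf Q B (e t3) * Rf Q B (e t1), hgen _ (hAe t3 ht3) _ (hAe t1 ht1)⟩, ?_⟩
        rw [hsmul, hf]
        simp only [Bool.false_eq_true, if_false]
        rw [LinearEquiv.mul_apply, Rf_e hfr, if_neg (Ne.symm h13), Rf_e hfr, if_pos rfl, hs3]
      · refine ⟨1, ?_⟩
        rw [one_smul, hf]
        simp only [if_true]
        rw [hs3]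
    · cases b
      · refine ⟨⟨Rf Q B (e s) * Rf Q B (e s - e t3),
          hgen _ (hAe s hsT) _ (hAd s hsT t3 ht3 hs3)⟩, ?_⟩
        rw [hsmul, hf]
        simp only [Bool.false_eq_true, if_false]
        rw [LinearEquiv.mul_apply, Rf_sub hfr hs3, if_neg (Ne.symm hs3), if_pos rfl, Rf_e hfr,
          if_pos rfl]
      · refine ⟨⟨Rf Q B (e s - e t3) * Rf Q B (e s),
          hgen _ (hAd s hsT t3 ht3 hs3) _ (hAe s hsT)⟩, ?_⟩
        rw [hsmul, hf]
        simp only [if_true]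
        rw [LinearEquiv.mul_apply, Rf_e hfr, if_neg (Ne.symm hs3), Rf_sub hfr hs3,
          if_neg (Ne.symm hs3), if_pos rfl]
  have horbeq : (S6 : Set V) = MulAction.orbit ↥Gp (e t3) := by
    apply Set.eq_of_subset_of_ncard_le hsub
    · rw [Set.ncard_coe_finset, hS6card, ← Nat.card_coe_set_eq, horb]
  -- conclusion
  intro g hg t ht
  have h1 : e t ∈ MulAction.orbit ↥Gp (e t3) := by
    apply hsub
    rw [Finset.mem_coe, hS6, Finset.mem_image]
    refine ⟨(t, true), Finset.mem_product.mpr ⟨ht, Finset.mem_univ _⟩, ?_⟩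
    rw [hf]
    show (if true = true then e t else -e t) = e t
    rw [if_pos rfl]
  obtain ⟨g0, hg0⟩ := MulAction.mem_orbit_iff.mp h1
  have h2 : g (e t) ∈ MulAction.orbit ↥Gp (e t3) := by
    rw [MulAction.mem_orbit_iff]
    refine ⟨⟨g, hg⟩ * g0, ?_⟩
    rw [mul_smul, hg0, hsmul]
  rw [← horbeq, Finset.mem_coe, hS6, Finset.mem_image] at h2
  obtain ⟨⟨s, b⟩, hp, hfp⟩ := h2
  rw [Finset.mem_product] at hp
  refine ⟨s, hp.1, ?_⟩
  rw [hf] at hfp
  cases b
  · right
    simp only [Bool.false_eq_true, if_false] at hfp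
    exact hfp.symm
  · left
    simp only [if_true] at hfp
    exact hfp.symm

/-- one step of the coordinate analysis: if `Rf y (e k) = ± e s` and `y` has two nonzero coordinates
`k ≠ l`, then `2 y_k² = 1` and all other coordinates vanish -/
theorem coord_step (hfr : OFr Q B c e) {y : V} (hy : Q y = c) {k l : ι} (hkl : k ≠ l)
    (hk : co B c e y k ≠ 0) (hl : co B c e y l ≠ 0)
    (hkey : ∃ s, Rf Q B y (e k) = e s ∨ Rf Q B y (e k) = -e s) :
    2 * (co B c e y k * co B c e y k) = 1 ∧ ∀ m, m ≠ k → m ≠ l → co B c e y m = 0 := by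
  obtain ⟨s, hs⟩ := hkey
  have hco : ∀ m, co B c e (Rf Q B y (e k)) m =
      (if k = m then 1 else 0) - 2 * co B c e y k * co B c e y m := by
    intro m
    rw [Rf_y hfr hy, co_sub_smul, hfr.co_e]
  have hco' : ∀ m, m ≠ s →
      (if k = m then (1 : F) else 0) - 2 * co B c e y k * co B c e y m = 0 := by
    intro m hm
    rw [← hco m]
    rcases hs with hs | hs
    · rw [hs, hfr.co_e, if_neg (Ne.symm hm)]
    · rw [hs, co_neg, hfr.co_e, if_neg (Ne.symm hm), neg_zero]
  have hsl : s = l := by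
    by_contra hne
    have h := hco' l (Ne.symm hne)
    rw [if_neg hkl, zero_sub, neg_eq_zero] at h
    exact mul_ne_zero (mul_ne_zero hfr.h2 hk) hl h
  rw [hsl] at hco'
  constructor
  · have h := hco' k hkl
    rw [if_pos rfl] at h
    linear_combination -h
  · intro m hmk hml
    have h := hco' m hml
    rw [if_neg (Ne.symm hmk), zero_sub, neg_eq_zero] at h
    rcases mul_eq_zero.mp h with h | h
    · exact absurd h (mul_ne_zero hfr.h2 hk)
    · exact h

/-- OFA-COORD3P (L).  The platonic case of COORD3 is impossible (hypotheses = conclusions of P3REL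
for `A = A3 e T y`). -/
theorem COORD3P (hfr : OFr Q B c e) (T : Finset ι) (hT : T.card = 3) {y : V} (hy : Q y = c)
    (hyT : osupp B c e y ⊆ T)
    (h24 : (∃ g ∈ RotGp Q B (A3 e T y), orderOf g = 4) → Nat.card (RotGp Q B (A3 e T y)) = 24)
    (h5 : ∀ v ∈ Submodule.span F (e '' (T : Set ι)), v ≠ 0 →
      Nat.card {g : RotGp Q B (A3 e T y) // (g : V ≃ₗ[F] V) v = v} ≤ 5) :
    IsPM e y ∨ IsRoot B c e y := by
  classical
  have horb := orbit_lemma hfr T hT y h24 h5
  have hkey : ∀ t ∈ T, ∃ s, Rf Q B y (e t) = e s ∨ Rf Q B y (e t) = -e s := by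
    intro t ht
    have hg : Rf Q B y * Rf Q B (e t) ∈ RotGp Q B (A3 e T y) :=
      Subgroup.subset_closure ⟨y, Or.inr (Or.inr rfl), e t, Or.inl ⟨t, ht, rfl⟩, rfl⟩
    obtain ⟨s, -, hs⟩ := horb _ hg t ht
    rw [LinearEquiv.mul_apply, Rf_e hfr, if_pos rfl, map_neg] at hs
    refine ⟨s, ?_⟩
    rcases hs with hs | hs
    · right
      rw [← hs, neg_neg]
    · left
      exact neg_injective hs
  have hsum : ∑ i, co B c e y i * co B c e y i = 1 := by
    have h := hfr.Q_eq y
    rw [hy] at h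
    have h2 : c * 1 = c * ∑ i, co B c e y i * co B c e y i := by
      rw [mul_one]
      exact h
    exact (mul_left_cancel₀ hfr.c0 h2).symm
  obtain ⟨k, hk⟩ : ∃ k, co B c e y k ≠ 0 := by
    by_contra hno
    push Not at hno
    have h0 : ∑ i, co B c e y i * co B c e y i = 0 :=
      Finset.sum_eq_zero (fun i _ => by rw [hno i, mul_zero])
    rw [h0] at hsum
    exact zero_ne_one hsum
  have hkT : k ∈ T := hyT (mem_osupp.mpr hk)
  by_cases hex : ∃ l, l ≠ k ∧ co B c e y l ≠ 0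
  · obtain ⟨l, hlk, hl⟩ := hex
    have hlT : l ∈ T := hyT (mem_osupp.mpr hl)
    obtain ⟨h1, h2⟩ := coord_step hfr hy (Ne.symm hlk) hk hl (hkey k hkT)
    obtain ⟨h3, -⟩ := coord_step hfr hy hlk hl hk (hkey l hlT)
    right
    exact ⟨k, l, Ne.symm hlk, h2, h1, h3⟩
  · push Not at hex
    left
    have hyk : y = co B c e y k • e k := by
      have h := hfr.exp' y
      rw [Finset.sum_eq_single k (fun i _ hik => by rw [hex i hik, zero_smul])
        (fun h => absurd (Finset.mem_univ k) h)] at h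
      exact h
    have hk1 : co B c e y k * co B c e y k = 1 := by
      rw [Finset.sum_eq_single k (fun i _ hik => by rw [hex i hik, mul_zero])
        (fun h => absurd (Finset.mem_univ k) h)] at hsum
      exact hsum
    rcases mul_self_eq_one_iff.mp hk1 with h | h
    · exact ⟨k, Or.inl (hyk.trans (by rw [h, one_smul]))⟩
    · exact ⟨k, Or.inr (hyk.trans (by rw [h, neg_one_smul]))⟩

end Frame

end Cfsg.Agent.Lib.Helper96_OFA_COORD3P
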