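import Mathlib
import Cfsg.Agent.Lib.Helper98_OFADefs
import Cfsg.Agent.Lib.Helper59_OFA_Tool
import Cfsg.Agent.Lib.Helper54_OFA_API1
import Cfsg.Agent.Lib.Helper70_OFA_KER
import Cfsg.Agent.Lib.Helper5_OFA_PERM
import Cfsg.Agent.Lib.Helper59_OFA_U3loc
import Cfsg.Agent.Lib.Helper61_OFA_P3REL
import Cfsg.Agent.Lib.Helper64_OFA_TRANS
import Cfsg.Agent.Lib.Helper96_OFA_COORD3P

set_option autoImplicit false
set_option linter.unusedVariables false
set_option linter.unusedSectionVars false
set_option linter.unusedSimpArgs false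
set_option linter.style.haveILetI false

/-!
helper59, OFA market (helper98), package COORD3A: an element `y ∈ X` supported on a coordinate
3-space `V_T`, not `± e k`, not a root, gives `Full3At T` (all Siegel elements of `V_T` are in `L`
and all vectors of norm `c` of `V_T` are in `X`).

`COORD3A_aux` takes the statements of the packages U3, P3REL, TRANS, COORD3P as hypotheses (the
ambient hypotheses are discharged from the context); KER, PERM and API1 are imported.
-/

namespace Cfsg.Agent.Lib.Helper59_OFA_COORD3A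

open Module Cfsg.Agent.Lib.Helper94_Symp Cfsg.Agent.Lib.Helper94_OrthSmall
  Cfsg.Agent.Lib.Helper94_OrthSiegel Cfsg.Agent.Lib.Helper32_OFDefs
  Cfsg.Agent.Lib.Helper98_OFADefs Cfsg.Agent.Lib.Helper59_OFA_Tool

variable {F V : Type*} [Field F] [Finite F] [AddCommGroup V] [Module F V] [FiniteDimensional F V]
variable {Q : V → F} {B : LinearMap.BilinForm F V}
variable {ι : Type*} [Fintype ι] [DecidableEq ι] {c : F} {e : ι → V}
variable {L : Subgroup (V ≃ₗ[F] V)}

lemma Q_sub (hfr : OFr Q B c e) {i j : ι} (hij : i ≠ j) : Q (e i - e j) = 2 * c := by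
  have h1 : e i - e j = e i + (-1 : F) • e j := by rw [neg_one_smul, sub_eq_add_neg]
  rw [h1, hfr.hQp, hfr.hQs, hfr.Qe, hfr.Qe, map_smul, hfr.orth i j hij]
  simp only [smul_eq_mul, mul_zero, add_zero]
  ring

/-- the reflection in `e i - e j` on the frame -/
lemma Rf_sub_e (hfr : OFr Q B c e) {i j : ι} (hij : i ≠ j) (k : ι) :
    Rf Q B (e i - e j) (e k) = e (Equiv.swap i j k) := by
  have hq : Q (e i - e j) ≠ 0 := by rw [Q_sub hfr hij]; exact hfr.two_c
  rw [Rf_apply Q B hfr.hQs hfr.hQp hq, Q_sub hfr hij, map_sub, hfr.Bee', hfr.Bee']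
  by_cases hki : k = i
  · subst hki
    rw [if_pos rfl, if_neg hij, sub_zero, inv_mul_cancel₀ hfr.two_c, one_smul,
      Equiv.swap_apply_left]
    abel
  · by_cases hkj : k = j
    · subst hkj
      rw [if_neg hki, if_pos rfl, zero_sub, mul_neg, inv_mul_cancel₀ hfr.two_c, neg_smul,
        one_smul, Equiv.swap_apply_right]
      abel
    · rw [if_neg hki, if_neg hkj, sub_zero, mul_zero, zero_smul, sub_zero,
        Equiv.swap_apply_of_ne_of_ne hki hkj]

/-- a map permuting the frame, on a vector -/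
lemma perm_apply (hfr : OFr Q B c e) {τ : V ≃ₗ[F] V} {σ : Equiv.Perm ι}
    (hτ : ∀ r, τ (e r) = e (σ r)) (v : V) : τ v = ∑ r, co B c e v r • e (σ r) := by
  conv_lhs => rw [hfr.exp' v]
  simp only [map_sum, map_smul, hτ]

/-- OFA-COORD3A with the statements of U3, P3REL, TRANS, COORD3P as hypotheses. -/
theorem COORD3A_aux (hC : TCtx Q B c e L) (hm : 5 ≤ Fintype.card ι) (hp5 : 5 ≤ Nat.card F)
    (hU3 : ∀ (U : Submodule F V), finrank F U = 3 →
      (∀ u ∈ U, (∀ v ∈ U, B u v = 0) → u = 0) →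
      ∀ (A : Set V), (∀ a ∈ A, a ∈ U ∧ Q a ≠ 0) → Submodule.span F A = U →
      Nat.card F ∣ Nat.card (Subgroup.closure (Rf Q B '' A)) →
      ∀ w ∈ U, Q w = 0 → ∀ z ∈ U, B w z = 0 →
        sieg Q B w z ∈ Subgroup.closure (Rf Q B '' A))
    (hP3REL : ∀ (U : Submodule F V), finrank F U = 3 →
      (∀ u ∈ U, (∀ v ∈ U, B u v = 0) → u = 0) →
      ∀ (A : Set V), (∀ a ∈ A, a ∈ U ∧ Q a ≠ 0) → Submodule.span F A = U →
      (∀ v ∈ U, v ≠ 0 → ∃ a ∈ A, B v a ≠ 0 ∧ v ∉ Submodule.span F {a}) →
      ¬ Nat.card F ∣ Nat.card (Subgroup.closure (Rf Q B '' A)) →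
      (∀ g ∈ RotGp Q B A, orderOf g ≤ 5) ∧
      ((∃ g ∈ RotGp Q B A, orderOf g = 4) → Nat.card (RotGp Q B A) = 24) ∧
      (∀ v ∈ U, v ≠ 0 → Nat.card {g : RotGp Q B A // (g : V ≃ₗ[F] V) v = v} ≤ 5))
    (hTRANS : ∀ (U : Submodule F V), finrank F U = 3 →
      (∀ u ∈ U, (∀ v ∈ U, B u v = 0) → u = 0) →
      (∀ w ∈ U, Q w = 0 → ∀ z ∈ U, B w z = 0 → sieg Q B w z ∈ L) →
      ∀ x ∈ XL Q B c L, x ∈ U → ∀ y ∈ U, Q y = c → y ∈ XL Q B c L)
    (hCOORD3P : ∀ (T : Finset ι), T.card = 3 → ∀ y : V, Q y = c → osupp B c e y ⊆ T →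
      ((∃ g ∈ RotGp Q B (A3 e T y), orderOf g = 4) → Nat.card (RotGp Q B (A3 e T y)) = 24) →
      (∀ v ∈ Submodule.span F (e '' (T : Set ι)), v ≠ 0 →
        Nat.card {g : RotGp Q B (A3 e T y) // (g : V ≃ₗ[F] V) v = v} ≤ 5) →
      IsPM e y ∨ IsRoot B c e y)
    {y : V} (hy : y ∈ XL Q B c L) (hyE : ¬ IsPM e y) (hyR : ¬ IsRoot B c e y)
    (T : Finset ι) (hT : T.card = 3) (hyT : osupp B c e y ⊆ T) : Full3At Q B c e L T := by
  classical
  have hfr := hC.fr
  have hQs := hfr.hQs
  have hQp := hfr.hQp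
  have h2' := hfr.h2
  have hc0 := hfr.c0
  -- the family
  set f : ↥T → V := fun k => e k.1 with hf
  have horth : ∀ k l : ↥T, k ≠ l → B (f k) (f l) = 0 := fun k l hkl =>
    hfr.orth k.1 l.1 (fun h => hkl (Subtype.ext h))
  have hns : ∀ k : ↥T, Q (f k) ≠ 0 := fun k => by rw [hf, hfr.Qe]; exact hc0
  have hrange : Set.range f = e '' (T : Set ι) := by
    ext v
    simp only [Set.mem_range, Set.mem_image, Finset.mem_coe, Subtype.exists, hf]
    constructor
    · rintro ⟨k, hk, rfl⟩
      exact ⟨k, hk, rfl⟩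
    · rintro ⟨k, hk, rfl⟩
      exact ⟨k, hk, rfl⟩
  unfold Full3At
  rw [← hrange]
  set U : Submodule F V := Submodule.span F (Set.range f) with hU
  set U' : Submodule F V := Uperp B f with hU'
  have heU : ∀ k ∈ T, e k ∈ U := fun k hk => Submodule.subset_span ⟨⟨k, hk⟩, rfl⟩
  have hUd : finrank F U = 3 := by
    rw [hU, finrank_span hQs hQp h2' horth hns, Fintype.card_coe, hT]
  have hUn : ∀ u ∈ U, (∀ v ∈ U, B u v = 0) → u = 0 := span_nondeg hQs hQp h2' horth hns
  have hcompl : IsCompl U U' := isCompl hQs hQp h2' horth hns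
  have hmemU' : ∀ v, v ∈ U' ↔ ∀ k ∈ T, co B c e v k = 0 := by
    intro v
    rw [hU', mem_Uperp]
    constructor
    · intro h k hk
      unfold co
      rw [show B v (e k) = B v (f ⟨k, hk⟩) from rfl, h ⟨k, hk⟩, mul_zero]
    · intro h k
      have h1 := h k.1 k.2
      unfold co at h1
      rcases mul_eq_zero.mp h1 with h3 | h3
      · exact absurd h3 (inv_ne_zero hfr.two_c)
      · exact h3
  -- `y ∈ U`
  have hyU : y ∈ U := by
    rw [hfr.exp' y]
    apply Submodule.sum_mem
    intro r _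
    by_cases hr : r ∈ T
    · exact U.smul_mem _ (heU r hr)
    · have : co B c e y r = 0 := by
        by_contra h
        exact hr (hyT (mem_osupp.mpr h))
      rw [this, zero_smul]
      exact U.zero_mem
  have hQy : Q y = c := hy.1
  have hQy0 : Q y ≠ 0 := by rw [hQy]; exact hc0
  -- the generating set
  set A : Set V := A3 e T y with hA
  have hAU : ∀ a ∈ A, a ∈ U ∧ Q a ≠ 0 := by
    rintro a (⟨k, hk, rfl⟩ | ⟨i, hi, j, hj, hij, rfl⟩ | rfl)
    · exact ⟨heU k hk, by rw [hfr.Qe]; exact hc0⟩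
    · exact ⟨U.sub_mem (heU i hi) (heU j hj), by rw [Q_sub hfr hij]; exact hfr.two_c⟩
    · exact ⟨hyU, hQy0⟩
  have hspan : Submodule.span F A = U := by
    apply le_antisymm
    · rw [Submodule.span_le]
      intro a ha
      exact (hAU a ha).1
    · apply Submodule.span_mono
      rintro _ ⟨k, rfl⟩
      exact Or.inl ⟨k.1, k.2, rfl⟩
  set G' : Subgroup (V ≃ₗ[F] V) := Subgroup.closure (Rf Q B '' A) with hG'
  -- two indices outside `T`
  obtain ⟨a, ha, b, hb, hab⟩ : ∃ a ∈ Tᶜ, ∃ b ∈ Tᶜ, a ≠ b := by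
    apply Finset.one_lt_card.mp
    rw [Finset.card_compl, hT]
    omega
  rw [Finset.mem_compl] at ha hb
  have hsieg : ∀ w ∈ U, Q w = 0 → ∀ z ∈ U, B w z = 0 → sieg Q B w z ∈ L := by
    by_cases hdiv : Nat.card F ∣ Nat.card G'
    · have hG'sieg := hU3 U hUd hUn A hAU hspan hdiv
      -- the partners of the reflections in `e i - e j`
      have hτex : ∀ p : {p : ι × ι // p.1 ∈ T ∧ p.2 ∈ T ∧ p.1 ≠ p.2}, ∃ τ ∈ L,
          ∀ r, τ (e r) = e ((Equiv.swap p.1.1 p.1.2 * Equiv.swap a b) r) := by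
        intro p
        apply Cfsg.Agent.Lib.Helper5_OFA_PERM.PERM hC
        rw [Equiv.Perm.mem_alternatingGroup, Equiv.Perm.sign_mul, Equiv.Perm.sign_swap p.2.2.2,
          Equiv.Perm.sign_swap hab]
        rfl
      choose τ hτL hτe using hτex
      -- permutation facts
      have hσT : ∀ p : {p : ι × ι // p.1 ∈ T ∧ p.2 ∈ T ∧ p.1 ≠ p.2}, ∀ k ∈ T,
          (Equiv.swap p.1.1 p.1.2 * Equiv.swap a b) k = Equiv.swap p.1.1 p.1.2 k := by
        intro p k hk
        have h1 : Equiv.swap a b k = k :=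
          Equiv.swap_apply_of_ne_of_ne (by rintro rfl; exact ha hk) (by rintro rfl; exact hb hk)
        rw [Equiv.Perm.mul_apply, h1]
      have hswT : ∀ p : {p : ι × ι // p.1 ∈ T ∧ p.2 ∈ T ∧ p.1 ≠ p.2}, ∀ k ∈ T,
          Equiv.swap p.1.1 p.1.2 k ∈ T := by
        intro p k hk
        by_cases h1 : k = p.1.1
        · rw [h1, Equiv.swap_apply_left]; exact p.2.2.1
        · by_cases h2 : k = p.1.2
          · rw [h2, Equiv.swap_apply_right]; exact p.2.1
          · rw [Equiv.swap_apply_of_ne_of_ne h1 h2]; exact hk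
      have hσout : ∀ p : {p : ι × ι // p.1 ∈ T ∧ p.2 ∈ T ∧ p.1 ≠ p.2}, ∀ r, r ∉ T →
          (Equiv.swap p.1.1 p.1.2 * Equiv.swap a b) r = Equiv.swap a b r := by
        intro p r hr
        rw [Equiv.Perm.mul_apply]
        have hsr : Equiv.swap a b r ∉ T := by
          by_cases h1 : r = a
          · rw [h1, Equiv.swap_apply_left]; exact hb
          · by_cases h2 : r = b
            · rw [h2, Equiv.swap_apply_right]; exact ha
            · rw [Equiv.swap_apply_of_ne_of_ne h1 h2]; exact hr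
        exact Equiv.swap_apply_of_ne_of_ne (fun h => hsr (by rw [h]; exact p.2.1))
          (fun h => hsr (by rw [h]; exact p.2.2.1))
      -- `τ p` agrees with the reflection on `U`
      have hτU : ∀ p, ∀ u ∈ U, Rf Q B (e p.1.1 - e p.1.2) u = τ p u := by
        intro p u hu
        obtain ⟨α, rfl⟩ := mem_span_iff.mp hu
        simp only [map_sum, map_smul]
        refine Finset.sum_congr rfl (fun k _ => ?_)
        rw [hf, Rf_sub_e hfr p.2.2.2, hτe, hσT p k.1 k.2]
      -- `τ p` preserves `U'`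
      have hτU' : ∀ p, ∀ v ∈ U', τ p v ∈ U' := by
        intro p v hv
        apply perp_of_invol hQs hQp (hC.hLO (hτL p)) ?_ ?_ hv
        · intro k
          rw [hf, hτe, hσT p k.1 k.2, hτe, hσT p _ (hswT p k.1 k.2), Equiv.swap_apply_self]
        · intro k
          rw [hf, hτe, hσT p k.1 k.2]
          exact heU _ (hswT p k.1 k.2)
      -- all `τ p` agree on `U'`
      have hτeq : ∀ p p', ∀ v ∈ U', τ p v = τ p' v := by
        intro p p' v hv
        rw [perm_apply hfr (hτe p), perm_apply hfr (hτe p')]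
        refine Finset.sum_congr rfl (fun r _ => ?_)
        by_cases hr : r ∈ T
        · rw [(hmemU' v).mp hv r hr, zero_smul, zero_smul]
        · rw [hσout p r hr, hσout p' r hr]
      have hτinv : ∀ p, ∀ v, τ p (τ p v) = v := by
        intro p v
        have h1 : τ p * τ p = 1 := by
          apply hfr.equiv_ext
          intro r
          rw [LinearEquiv.mul_apply, hτe, hτe]
          have hd : (Equiv.swap p.1.1 p.1.2 * Equiv.swap a b) *
              (Equiv.swap p.1.1 p.1.2 * Equiv.swap a b) = 1 := by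
            have hdis : Equiv.Perm.Disjoint (Equiv.swap p.1.1 p.1.2) (Equiv.swap a b) := by
              intro r
              by_cases hr : r ∈ T
              · right
                exact Equiv.swap_apply_of_ne_of_ne (by rintro rfl; exact ha hr)
                  (by rintro rfl; exact hb hr)
              · left
                exact Equiv.swap_apply_of_ne_of_ne (by rintro rfl; exact hr p.2.1)
                  (by rintro rfl; exact hr p.2.2.1)
            have hc : Equiv.swap p.1.1 p.1.2 * Equiv.swap a b =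
                Equiv.swap a b * Equiv.swap p.1.1 p.1.2 := hdis.commute.eq
            calc (Equiv.swap p.1.1 p.1.2 * Equiv.swap a b) *
                  (Equiv.swap p.1.1 p.1.2 * Equiv.swap a b)
                = (Equiv.swap p.1.1 p.1.2 * Equiv.swap a b) *
                  (Equiv.swap a b * Equiv.swap p.1.1 p.1.2) := by rw [← hc]
              _ = Equiv.swap p.1.1 p.1.2 * (Equiv.swap a b * Equiv.swap a b) *
                  Equiv.swap p.1.1 p.1.2 := by simp only [mul_assoc]
              _ = 1 := by rw [Equiv.swap_mul_self, mul_one, Equiv.swap_mul_self]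
          rw [← Equiv.Perm.mul_apply, hd]
          rfl
        rw [← LinearEquiv.mul_apply, h1]
        rfl
      -- the two families
      let g : Option (↥T ⊕ {p : ι × ι // p.1 ∈ T ∧ p.2 ∈ T ∧ p.1 ≠ p.2}) → (V ≃ₗ[F] V) :=
        fun o => Option.casesOn o (Rf Q B y)
          (fun s => Sum.casesOn s (fun k => Rf Q B (e k.1))
            (fun p => Rf Q B (e p.1.1 - e p.1.2)))
      let g' : Option (↥T ⊕ {p : ι × ι // p.1 ∈ T ∧ p.2 ∈ T ∧ p.1 ≠ p.2}) → (V ≃ₗ[F] V) :=
        fun o => Option.casesOn o (Rf Q B y)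
          (fun s => Sum.casesOn s (fun k => Rf Q B (e k.1)) (fun p => τ p))
      have hRyU' : ∀ v ∈ U', Rf Q B y v = v := by
        intro v hv
        apply Rf_fix hQs hQp hQy0
        rw [B_symm Q B hQp]
        exact orth_perp hQp hyU hv
      have hReU' : ∀ k : ↥T, ∀ v ∈ U', Rf Q B (e k.1) v = v := by
        intro k v hv
        exact Rf_fix hQs hQp (hns k) (mem_Uperp.mp hv k)
      -- classification of the partners on `U'`
      have hcls : ∀ o, (∀ v ∈ U', g' o v = v) ∨
          (∃ p, ∀ v ∈ U', g' o v = τ p v) := by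
        rintro (_ | k | p)
        · exact Or.inl hRyU'
        · exact Or.inl (hReU' k)
        · exact Or.inr ⟨p, fun v _ => rfl⟩
      have hg'U' : ∀ o, ∀ v ∈ U', g' o v ∈ U' := by
        intro o v hv
        rcases hcls o with h | ⟨p, h⟩
        · rw [h v hv]; exact hv
        · rw [h v hv]; exact hτU' p v hv
      have hKER := Cfsg.Agent.Lib.Helper70_OFA_KER.KER U U' hcompl L g g'
        (by
          rintro (_ | k | p)
          · exact hy.2
          · show Rf Q B (e k.1) ∈ L
            rw [← Cfsg.Agent.Lib.Helper54_OFA_API1.zJ_single hfr]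
            exact hC.hz k.1
          · exact hτL p)
        (by
          rintro (_ | k | p) u hu
          · exact ⟨rfl, Rf_mem hQs hQp U hyU hQy0 hu⟩
          · exact ⟨rfl, Rf_mem hQs hQp U (heU k.1 k.2) (hns k) hu⟩
          · exact ⟨hτU p u hu, Rf_mem hQs hQp U (hAU _ (Or.inr (Or.inl
              ⟨p.1.1, p.2.1, p.1.2, p.2.2.1, p.2.2.2, rfl⟩))).1
              (hAU _ (Or.inr (Or.inl ⟨p.1.1, p.2.1, p.1.2, p.2.2.1, p.2.2.2, rfl⟩))).2 hu⟩)
        (by
          rintro (_ | k | p) v hv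
          · exact ⟨hRyU' v hv, hg'U' none v hv⟩
          · exact ⟨hReU' k v hv, hg'U' (some (Sum.inl k)) v hv⟩
          · refine ⟨?_, hg'U' (some (Sum.inr p)) v hv⟩
            apply Rf_fix hQs hQp (hAU _ (Or.inr (Or.inl
              ⟨p.1.1, p.2.1, p.1.2, p.2.2.1, p.2.2.2, rfl⟩))).2
            rw [map_sub, (mem_Uperp.mp hv ⟨p.1.1, p.2.1⟩ : B v (e p.1.1) = 0),
              (mem_Uperp.mp hv ⟨p.1.2, p.2.2.1⟩ : B v (e p.1.2) = 0), sub_zero])
        (by
          intro o o' v hv
          rcases hcls o with h | ⟨p, h⟩ <;> rcases hcls o' with h' | ⟨p', h'⟩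
          · calc g' o (g' o' v) = g' o v := by rw [h' v hv]
              _ = v := h v hv
              _ = g' o' v := (h' v hv).symm
              _ = g' o' (g' o v) := by rw [h v hv]
          · calc g' o (g' o' v) = g' o (τ p' v) := by rw [h' v hv]
              _ = τ p' v := h _ (hτU' p' v hv)
              _ = g' o' v := (h' v hv).symm
              _ = g' o' (g' o v) := by rw [h v hv]
          · calc g' o (g' o' v) = g' o v := by rw [h' v hv]
              _ = τ p v := h v hv
              _ = g' o' (τ p v) := (h' _ (hτU' p v hv)).symm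
              _ = g' o' (g' o v) := by rw [h v hv]
          · calc g' o (g' o' v) = g' o (τ p' v) := by rw [h' v hv]
              _ = τ p (τ p' v) := h _ (hτU' p' v hv)
              _ = τ p' (τ p' v) := hτeq p p' _ (hτU' p' v hv)
              _ = τ p' (τ p v) := by rw [hτeq p p' v hv]
              _ = g' o' (τ p v) := (h' _ (hτU' p v hv)).symm
              _ = g' o' (g' o v) := by rw [h v hv])
        (by
          intro o v hv
          rcases hcls o with h | ⟨p, h⟩
          · rw [h v hv, h v hv]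
          · rw [h v hv, h _ (hτU' p v hv), hτinv])
      have hG'le : G' ≤ Subgroup.closure (Set.range g) := by
        rw [hG', Subgroup.closure_le]
        rintro _ ⟨x, hx, rfl⟩
        apply Subgroup.subset_closure
        rcases hx with ⟨k, hk, rfl⟩ | ⟨i, hi, j, hj, hij, rfl⟩ | rfl
        · exact ⟨some (Sum.inl ⟨k, hk⟩), rfl⟩
        · exact ⟨some (Sum.inr ⟨(i, j), hi, hj, hij⟩), rfl⟩
        · exact ⟨none, rfl⟩
      intro w hw hQw z hz hwz
      have h2inv : B w ((2 : F)⁻¹ • z) = 0 := by rw [map_smul, hwz, smul_zero]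
      have hhalf := hKER _ (hG'le (hG'sieg w hw hQw ((2 : F)⁻¹ • z) (U.smul_mem _ hz) h2inv))
      rw [sieg_mul Q B hQs hQp hQw h2inv h2inv, ← add_smul] at hhalf
      have : (2 : F)⁻¹ + (2 : F)⁻¹ = 1 := by field_simp; norm_num
      rwa [this, one_smul] at hhalf
    · -- the platonic case is impossible
      exfalso
      have hirr : ∀ v ∈ U, v ≠ 0 → ∃ x ∈ A, B v x ≠ 0 ∧ v ∉ Submodule.span F {x} := by
        intro v hv hv0
        obtain ⟨k, hk⟩ := exists_ne hQs hQp h2' horth hns hv hv0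
        by_cases hmem : v ∈ Submodule.span F {e k.1}
        · -- `v` is a multiple of `e k`
          obtain ⟨s, rfl⟩ := Submodule.mem_span_singleton.mp hmem
          have hs : s ≠ 0 := by
            rintro rfl
            exact hv0 (zero_smul _ _)
          -- another index of `T`
          obtain ⟨j, hj, hjk⟩ : ∃ j ∈ T, j ≠ k.1 := by
            have h1 : 1 < T.card := by omega
            obtain ⟨i1, hi1, i2, hi2, h12⟩ := Finset.one_lt_card.mp h1
            by_cases h : i1 = k.1
            · exact ⟨i2, hi2, fun h' => h12 (h.trans h'.symm)⟩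
            · exact ⟨i1, hi1, h⟩
          refine ⟨e k.1 - e j, Or.inr (Or.inl ⟨k.1, k.2, j, hj, Ne.symm hjk, rfl⟩), ?_, ?_⟩
          · rw [map_smul, LinearMap.smul_apply, map_sub, hfr.Bee, hfr.orth _ _ (Ne.symm hjk),
              sub_zero, smul_eq_mul]
            exact mul_ne_zero hs hfr.two_c
          · intro hmem'
            obtain ⟨r, hr⟩ := Submodule.mem_span_singleton.mp hmem'
            have h4 := congrArg (fun x => B x (e j)) hr
            simp only [map_smul, LinearMap.smul_apply, smul_eq_mul, map_sub,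
              LinearMap.sub_apply] at h4
            rw [hfr.orth _ _ (Ne.symm hjk), hfr.Bee, mul_zero, zero_sub] at h4
            have hr0 : r = 0 := by
              rcases mul_eq_zero.mp h4 with h | h
              · exact h
              · exact absurd (neg_eq_zero.mp h) hfr.two_c
            rw [hr0, zero_smul] at hr
            exact hv0 hr.symm
        · exact ⟨e k.1, Or.inl ⟨k.1, k.2, rfl⟩, hk, hmem⟩
      obtain ⟨-, h24, hst⟩ := hP3REL U hUd hUn A hAU hspan hirr hdiv
      rcases hCOORD3P T hT y hQy hyT h24 (fun v hv hv0 => hst v (by rw [hU, hrange]; exact hv) hv0)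
        with h | h
      · exact hyE h
      · exact hyR h
  obtain ⟨k0, hk0⟩ : ∃ k, k ∈ T := Finset.card_pos.mp (by omega)
  refine ⟨hsieg, fun v hv hQv => ?_⟩
  exact hTRANS U hUd hUn hsieg (e k0) (Cfsg.Agent.Lib.Helper54_OFA_API1.e_mem_XL hC k0)
    (heU k0 hk0) v hv hQv

/-- OFA-COORD3A (L). -/
theorem COORD3A (hC : TCtx Q B c e L) (hm : 5 ≤ Fintype.card ι) (hp5 : 5 ≤ Nat.card F)
    {y : V} (hy : y ∈ XL Q B c L) (hyE : ¬ IsPM e y) (hyR : ¬ IsRoot B c e y)
    (T : Finset ι) (hT : T.card = 3) (hyT : osupp B c e y ⊆ T) : Full3At Q B c e L T :=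
  COORD3A_aux hC hm hp5
    (fun U hUd hUn A hA hspan hdiv =>
      Cfsg.Agent.Lib.Helper59_OFA_U3loc.U3loc hC.hp hC.fr.hQs hC.fr.hQp hC.fr.h2 U hUd hUn A hA
        hspan hdiv)
    (fun U hUd hUn A hA hspan hirr hnd =>
      Cfsg.Agent.Lib.Helper61_OFA_P3REL.P3REL hC.hp hC.fr.hQs hC.fr.hQp hC.fr.h2 U hUd hUn A hA
        hspan hirr hnd)
    (fun U hUd hUn hZ x hx hxU =>
      Cfsg.Agent.Lib.Helper64_OFA_TRANS.TRANS hp5 hC.fr.hQs hC.fr.hQp hC.fr.h2 U hUd hUn L hC.hLO
        hZ hC.fr.c0 hx hxU)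
    (fun T hT y hy hyT h24 h5 =>
      Cfsg.Agent.Lib.Helper96_OFA_COORD3P.COORD3P hC.fr T hT hy hyT h24 h5)
    hy hyE hyR T hT hyT

end Cfsg.Agent.Lib.Helper59_OFA_COORD3A
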