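import Mathlib
import Cfsg.Agent.Lib.Helper98_OFADefs
import Cfsg.Agent.Lib.Helper5_OFA_PERM

/-!
OFA market (helper98 architect), package **COORD3B**: `Full3At T` for one coordinate 3-set `T`
gives `Full3` (conjugate by an even permutation of the frame).  (helper5)
-/

set_option autoImplicit false
set_option linter.unusedSectionVars false
set_option linter.unusedVariables false

namespace Cfsg.Agent.Lib.Helper5_OFA_COORD3B

open Module Cfsg.Agent.Lib.Helper94_Symp Cfsg.Agent.Lib.Helper94_OrthSmall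
  Cfsg.Agent.Lib.Helper94_OrthSiegel Cfsg.Agent.Lib.Helper32_OFDefs
  Cfsg.Agent.Lib.Helper98_OFADefs

/-- Two finsets of the same cardinality (at least two) are exchanged by an even permutation. -/
lemma exists_even_perm {ι : Type*} [Fintype ι] [DecidableEq ι] (T T' : Finset ι)
    (hcard : T.card = T'.card) (h2 : 2 ≤ T.card) :
    ∃ σ : Equiv.Perm ι, σ ∈ alternatingGroup ι ∧ ∀ i, i ∈ T ↔ σ i ∈ T' := by
  let e₀ : {x // x ∈ T} ≃ {x // x ∈ T'} := Finset.equivOfCardEq hcard
  let σ₀ : Equiv.Perm ι := e₀.extendSubtype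
  have h0 : ∀ i, i ∈ T ↔ σ₀ i ∈ T' := by
    intro i
    constructor
    · intro hi
      exact e₀.extendSubtype_mem i hi
    · intro hi
      by_contra hni
      exact e₀.extendSubtype_not_mem i hni hi
  by_cases hs : Equiv.Perm.sign σ₀ = 1
  · exact ⟨σ₀, Equiv.Perm.mem_alternatingGroup.2 hs, h0⟩
  · have hs' : Equiv.Perm.sign σ₀ = -1 := by
      rcases Int.units_eq_one_or (Equiv.Perm.sign σ₀) with h | h
      · exact absurd h hs
      · exact h
    obtain ⟨x, hx, y, hy, hxy⟩ : ∃ x ∈ T, ∃ y ∈ T, x ≠ y := by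
      have : 1 < T.card := h2
      rw [Finset.one_lt_card] at this
      exact this
    refine ⟨σ₀ * Equiv.swap x y, ?_, ?_⟩
    · rw [Equiv.Perm.mem_alternatingGroup, map_mul, hs', Equiv.Perm.sign_swap hxy]
      rfl
    · intro i
      rw [Equiv.Perm.mul_apply, ← h0]
      by_cases hix : i = x
      · rw [hix, Equiv.swap_apply_left]
        exact ⟨fun _ => hy, fun _ => hx⟩
      by_cases hiy : i = y
      · rw [hiy, Equiv.swap_apply_right]
        exact ⟨fun _ => hx, fun _ => hy⟩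
      rw [Equiv.swap_apply_of_ne_of_ne hix hiy]

section Frame

variable {F V : Type*} [Field F] [Finite F] [AddCommGroup V] [Module F V] [FiniteDimensional F V]
variable {Q : V → F} {B : LinearMap.BilinForm F V}
variable {ι : Type*} [Fintype ι] [DecidableEq ι] {c : F} {e : ι → V}
variable {L : Subgroup (V ≃ₗ[F] V)}

/-- If `τ` maps the frame vectors of `T'` into those of `T`, it maps the span into the span. -/
lemma map_span_mem {τ : V ≃ₗ[F] V} {T T' : Finset ι}
    (h : ∀ j ∈ T', ∃ i ∈ T, τ (e j) = e i) {v : V}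
    (hv : v ∈ Submodule.span F (e '' (T' : Set ι))) :
    τ v ∈ Submodule.span F (e '' (T : Set ι)) := by
  induction hv using Submodule.span_induction with
  | mem x hx =>
    obtain ⟨j, hj, rfl⟩ := hx
    obtain ⟨i, hi, hji⟩ := h j hj
    rw [hji]
    exact Submodule.subset_span ⟨i, hi, rfl⟩
  | zero => rw [map_zero]; exact Submodule.zero_mem _
  | add x y _ _ hx hy => rw [map_add]; exact Submodule.add_mem _ hx hy
  | smul a x _ hx => rw [map_smul]; exact Submodule.smul_mem _ _ hx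

/-- OFA-COORD3B (M). -/
theorem COORD3B (hC : TCtx Q B c e L) (hm : 5 ≤ Fintype.card ι) (T : Finset ι) (hT : T.card = 3)
    (h : Full3At Q B c e L T) : Full3 Q B c e L := by
  intro T' hT'
  obtain ⟨σ, hσ, hσT⟩ := exists_even_perm T T' (by rw [hT, hT']) (by rw [hT]; norm_num)
  obtain ⟨τ, hτL, hτ⟩ := Cfsg.Agent.Lib.Helper5_OFA_PERM.PERM hC σ hσ
  have hQs := hC.fr.hQs
  have hQp := hC.fr.hQp
  have hτO : τ ∈ oG Q := hC.hLO hτL
  have hτO' : τ⁻¹ ∈ oG Q := (oG Q).inv_mem hτO
  -- `τ⁻¹` maps `span (e '' T')` into `span (e '' T)`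
  have hback : ∀ v ∈ Submodule.span F (e '' (T' : Set ι)),
      τ⁻¹ v ∈ Submodule.span F (e '' (T : Set ι)) := by
    intro v hv
    refine map_span_mem (τ := τ⁻¹) (T := T) (T' := T') ?_ hv
    intro j hj
    refine ⟨σ⁻¹ j, ?_, ?_⟩
    · rw [hσT]
      have : σ (σ⁻¹ j) = j := by
        rw [← Equiv.Perm.mul_apply, mul_inv_cancel]; rfl
      rw [this]; exact hj
    · have h1 : τ (e (σ⁻¹ j)) = e j := by
        rw [hτ]
        have : σ (σ⁻¹ j) = j := by
          rw [← Equiv.Perm.mul_apply, mul_inv_cancel]; rfl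
        rw [this]
      rw [← h1]
      show τ⁻¹ (τ (e (σ⁻¹ j))) = e (σ⁻¹ j)
      rw [← LinearEquiv.mul_apply, inv_mul_cancel]
      rfl
  have hττ : ∀ v, τ (τ⁻¹ v) = v := fun v => by
    rw [← LinearEquiv.mul_apply, mul_inv_cancel]; rfl
  refine ⟨?_, ?_⟩
  · intro w hw hQw z hz hwz
    have hw' := hback w hw
    have hz' := hback z hz
    have hQw' : Q (τ⁻¹ w) = 0 := by rw [hτO' w]; exact hQw
    have hB' : B (τ⁻¹ w) (τ⁻¹ z) = 0 := by
      rw [oG_B Q B hQp hτO']; exact hwz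
    have hmem := h.1 (τ⁻¹ w) hw' hQw' (τ⁻¹ z) hz' hB'
    have hconj := conj_sieg Q B hQs hQp hτO hQw' hB'
    rw [hττ, hττ] at hconj
    rw [← hconj]
    exact L.mul_mem (L.mul_mem hτL hmem) (L.inv_mem hτL)
  · intro v hv hQv
    have hv' := hback v hv
    have hQv' : Q (τ⁻¹ v) = c := by rw [hτO' v]; exact hQv
    have hX := h.2 (τ⁻¹ v) hv' hQv'
    have hne : Q (τ⁻¹ v) ≠ 0 := by rw [hQv']; exact hC.fr.c0
    have hconj := conj_Rf Q B hQs hQp hτO hne
    rw [hττ] at hconj
    refine ⟨hQv, ?_⟩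
    rw [← hconj]
    exact L.mul_mem (L.mul_mem hτL hX.2) (L.inv_mem hτL)

end Frame

end Cfsg.Agent.Lib.Helper5_OFA_COORD3B
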