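import Mathlib
import Cfsg.Agent.Lib.Helper98_OFADefs
import Cfsg.Agent.Lib.Helper5_OFA_PERM

/-!
OFA market (helper98 architect), package **RLEM**: if `L` contains a non-monomial element then
`X` contains a vector which is neither `± e k` nor a root.  (helper5)
-/

set_option autoImplicit false
set_option linter.unusedSectionVars false
set_option linter.unusedVariables false

namespace Cfsg.Agent.Lib.Helper5_OFA_RLEM

open Module Cfsg.Agent.Lib.Helper94_Symp Cfsg.Agent.Lib.Helper94_OrthSmall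
  Cfsg.Agent.Lib.Helper94_OrthSiegel Cfsg.Agent.Lib.Helper32_OFDefs
  Cfsg.Agent.Lib.Helper98_OFADefs

/-- An even permutation with two prescribed values (at least four points). -/
lemma exists_even_perm_pair {ι : Type*} [Fintype ι] [DecidableEq ι] (hm : 4 ≤ Fintype.card ι)
    {a b i k : ι} (hab : a ≠ b) (hik : i ≠ k) :
    ∃ σ : Equiv.Perm ι, σ ∈ alternatingGroup ι ∧ σ a = i ∧ σ b = k := by
  have h1a : Equiv.swap a i a = i := Equiv.swap_apply_left a i
  have h1b : Equiv.swap a i b ≠ i := by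
    intro h
    exact hab ((Equiv.swap a i).injective (h.trans h1a.symm)).symm
  have h0a : (Equiv.swap (Equiv.swap a i b) k * Equiv.swap a i) a = i := by
    rw [Equiv.Perm.mul_apply, h1a, Equiv.swap_apply_of_ne_of_ne (Ne.symm h1b) hik]
  have h0b : (Equiv.swap (Equiv.swap a i b) k * Equiv.swap a i) b = k := by
    rw [Equiv.Perm.mul_apply, Equiv.swap_apply_left]
  by_cases hs : Equiv.Perm.sign (Equiv.swap (Equiv.swap a i b) k * Equiv.swap a i) = 1
  · exact ⟨_, Equiv.Perm.mem_alternatingGroup.2 hs, h0a, h0b⟩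
  · have hs' : Equiv.Perm.sign (Equiv.swap (Equiv.swap a i b) k * Equiv.swap a i) = -1 := by
      rcases Int.units_eq_one_or
        (Equiv.Perm.sign (Equiv.swap (Equiv.swap a i b) k * Equiv.swap a i)) with h | h
      · exact absurd h hs
      · exact h
    have hcard : 1 < (({a, b} : Finset ι)ᶜ).card := by
      rw [Finset.card_compl, Finset.card_pair hab]; omega
    obtain ⟨p, hp, q, hq, hpq⟩ := Finset.one_lt_card.1 hcard
    rw [Finset.mem_compl, Finset.mem_insert, Finset.mem_singleton, not_or] at hp hq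
    refine ⟨(Equiv.swap (Equiv.swap a i b) k * Equiv.swap a i) * Equiv.swap p q, ?_, ?_, ?_⟩
    · rw [Equiv.Perm.mem_alternatingGroup, map_mul, hs', Equiv.Perm.sign_swap hpq]
      rfl
    · rw [Equiv.Perm.mul_apply (_ * _),
        Equiv.swap_apply_of_ne_of_ne (Ne.symm hp.1) (Ne.symm hq.1), h0a]
    · rw [Equiv.Perm.mul_apply (_ * _),
        Equiv.swap_apply_of_ne_of_ne (Ne.symm hp.2) (Ne.symm hq.2), h0b]

/-- A function vanishing off two points vanishes at one of three distinct points. -/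
lemma zero_of_three {ι : Type*} {f : ι → Prop} {a b d : ι}
    (h : ∃ i j, ∀ k, k ≠ i → k ≠ j → f k) (hab : a ≠ b) (had : a ≠ d) (hbd : b ≠ d) :
    f a ∨ f b ∨ f d := by
  obtain ⟨i, j, hij⟩ := h
  by_contra hcon
  rw [not_or, not_or] at hcon
  obtain ⟨ha, hb, hd⟩ := hcon
  have ha' : a = i ∨ a = j := by
    by_contra hh
    rw [not_or] at hh
    exact ha (hij a hh.1 hh.2)
  have hb' : b = i ∨ b = j := by
    by_contra hh
    rw [not_or] at hh
    exact hb (hij b hh.1 hh.2)
  have hd' : d = i ∨ d = j := by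
    by_contra hh
    rw [not_or] at hh
    exact hd (hij d hh.1 hh.2)
  rcases ha' with h1 | h1 <;> rcases hb' with h2 | h2 <;> rcases hd' with h3 | h3
  · exact hab (h1.trans h2.symm)
  · exact hab (h1.trans h2.symm)
  · exact had (h1.trans h3.symm)
  · exact hbd (h2.trans h3.symm)
  · exact hbd (h2.trans h3.symm)
  · exact had (h1.trans h3.symm)
  · exact hab (h1.trans h2.symm)
  · exact hab (h1.trans h2.symm)

section Frame

variable {F V : Type*} [Field F] [Finite F] [AddCommGroup V] [Module F V] [FiniteDimensional F V]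
variable {Q : V → F} {B : LinearMap.BilinForm F V}
variable {ι : Type*} [Fintype ι] [DecidableEq ι] {c : F} {e : ι → V}
variable {L : Subgroup (V ≃ₗ[F] V)}

lemma co_comb (r s : F) (x y : V) (i : ι) :
    co B c e (r • x + s • y) i = r * co B c e x i + s * co B c e y i := by
  unfold co
  rw [map_add, map_smul, map_smul, LinearMap.add_apply, LinearMap.smul_apply,
    LinearMap.smul_apply, smul_eq_mul, smul_eq_mul]
  ring

lemma co_neg (x : V) (i : ι) : co B c e (-x) i = - co B c e x i := by
  unfold co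
  rw [map_neg, LinearMap.neg_apply]
  ring

/-- `zJ {k}` is the reflection in `e k`. -/
lemma zJ_single (hC : TCtx Q B c e L) (k : ι) : zJ B c e {k} = Rf Q B (e k) := by
  have fr := hC.fr
  have hQk : Q (e k) ≠ 0 := by rw [fr.Qe]; exact fr.c0
  apply fr.equiv_ext
  intro i
  rw [fr.zJ_e, Rf_apply Q B fr.hQs fr.hQp hQk, fr.Qe, fr.Bee']
  by_cases hik : i = k
  · rw [if_pos (Finset.mem_singleton.2 hik), if_pos hik, hik]
    have : c⁻¹ * (2 * c) = 2 := by
      have := fr.c0
      field_simp
    rw [this, two_smul]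
    abel
  · rw [if_neg (fun h => hik (Finset.mem_singleton.1 h)), if_neg hik, mul_zero, zero_smul,
      sub_zero]

lemma e_mem_XL (hC : TCtx Q B c e L) (k : ι) : e k ∈ XL Q B c L := by
  refine ⟨hC.fr.Qe k, ?_⟩
  rw [← zJ_single hC k]
  exact hC.hz k

lemma XL_map (hC : TCtx Q B c e L) {g : V ≃ₗ[F] V} (hg : g ∈ L) {x : V}
    (hx : x ∈ XL Q B c L) : g x ∈ XL Q B c L := by
  have hgO : g ∈ oG Q := hC.hLO hg
  have hQx : Q x ≠ 0 := by rw [hx.1]; exact hC.fr.c0
  refine ⟨by rw [hgO x]; exact hx.1, ?_⟩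
  rw [← conj_Rf Q B hC.fr.hQs hC.fr.hQp hgO hQx]
  exact L.mul_mem (L.mul_mem hg hx.2) (L.inv_mem hg)

/-- OFA-RLEM (L). -/
theorem RLEM (hC : TCtx Q B c e L) (hm : 5 ≤ Fintype.card ι) (hne : ∃ g ∈ L, ¬ IsMon e g) :
    ∃ x ∈ XL Q B c L, ¬ IsPM e x ∧ ¬ IsRoot B c e x := by
  have fr := hC.fr
  by_contra hcon
  have hall : ∀ x ∈ XL Q B c L, IsPM e x ∨ IsRoot B c e x := by
    intro x hx
    by_contra h
    rw [not_or] at h
    exact hcon ⟨x, hx, h.1, h.2⟩
  -- every element of `X` has at most two nonzero coordinates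
  have hAM : ∀ x ∈ XL Q B c L, ∃ i j, ∀ k, k ≠ i → k ≠ j → co B c e x k = 0 := by
    intro x hx
    rcases hall x hx with ⟨k0, h | h⟩ | ⟨i, j, -, h, -, -⟩
    · refine ⟨k0, k0, fun k hk _ => ?_⟩
      rw [h, fr.co_e, if_neg (Ne.symm hk)]
    · refine ⟨k0, k0, fun k hk _ => ?_⟩
      rw [h, co_neg, fr.co_e, if_neg (Ne.symm hk), neg_zero]
    · exact ⟨i, j, h⟩
  obtain ⟨g, hgL, hgM⟩ := hne
  have hgO : g ∈ oG Q := hC.hLO hgL
  obtain ⟨i0, hi0⟩ : ∃ i0, ¬ IsPM e (g (e i0)) := by
    by_contra h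
    apply hgM
    intro i
    by_contra hi
    exact h ⟨i, hi⟩
  have hx0 : g (e i0) ∈ XL Q B c L := XL_map hC hgL (e_mem_XL hC i0)
  obtain ⟨a, b, hab, hzero, h2a, h2b⟩ : IsRoot B c e (g (e i0)) := by
    rcases hall _ hx0 with h | h
    · exact absurd h hi0
    · exact h
  set x0 := g (e i0) with hx0def
  set r1 := co B c e x0 a with hr1
  set r2 := co B c e x0 b with hr2
  have hr1ne : r1 ≠ 0 := by
    intro h; rw [h, mul_zero, mul_zero] at h2a; exact zero_ne_one h2a
  have hr2ne : r2 ≠ 0 := by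
    intro h; rw [h, mul_zero, mul_zero] at h2b; exact zero_ne_one h2b
  have hx0exp : x0 = r1 • e a + r2 • e b := by
    have h1 := fr.exp' x0
    rw [Finset.sum_eq_add a b hab (fun k _ hk => by rw [hzero k hk.1 hk.2, zero_smul])
      (fun h => absurd (Finset.mem_univ a) h) (fun h => absurd (Finset.mem_univ b) h)] at h1
    exact h1
  -- all `g (e k)` lie in the plane `⟨e a, e b⟩`
  have hplane : ∀ k d, d ≠ a → d ≠ b → co B c e (g (e k)) d = 0 := by
    intro k d hda hdb
    by_cases hk : k = i0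
    · rw [hk]; exact hzero d hda hdb
    by_contra hyd
    obtain ⟨σ, hσ, hσa, hσb⟩ := exists_even_perm_pair (by omega : 4 ≤ Fintype.card ι) hab
      (Ne.symm hk)
    obtain ⟨τ, hτL, hτ⟩ := Cfsg.Agent.Lib.Helper5_OFA_PERM.PERM hC σ hσ
    have hy : g (e k) ∈ XL Q B c L := XL_map hC hgL (e_mem_XL hC k)
    have hz : g (τ x0) ∈ XL Q B c L := XL_map hC hgL (XL_map hC hτL hx0)
    have hzexp : g (τ x0) = r1 • x0 + r2 • g (e k) := by
      rw [hx0exp, map_add, map_smul, map_smul, hτ, hτ, hσa, hσb, map_add, map_smul, map_smul,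
        ← hx0exp]
    rw [hzexp] at hz
    have horth : r1 * co B c e (g (e k)) a + r2 * co B c e (g (e k)) b = 0 := by
      have h1 : B x0 (g (e k)) = 0 := by
        rw [hx0def, oG_B Q B fr.hQp hgO]
        exact fr.orth i0 k (Ne.symm hk)
      rw [fr.B_eq, Finset.sum_eq_add a b hab
        (fun k' _ hk' => by rw [hzero k' hk'.1 hk'.2, zero_mul])
        (fun h => absurd (Finset.mem_univ a) h) (fun h => absurd (Finset.mem_univ b) h)] at h1
      rcases mul_eq_zero.1 h1 with h | h
      · exact absurd h fr.two_c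
      · exact h
    have hzd : co B c e (r1 • x0 + r2 • g (e k)) d ≠ 0 := by
      rw [co_comb, hzero d hda hdb, mul_zero, zero_add]
      exact mul_ne_zero hr2ne hyd
    have hboth : co B c e (g (e k)) a ≠ 0 ∧ co B c e (g (e k)) b ≠ 0 := by
      rcases zero_of_three (f := fun k' => co B c e (r1 • x0 + r2 • g (e k)) k' = 0)
        (hAM _ hz) hab (Ne.symm hda) (Ne.symm hdb) with h | h | h
      · rw [co_comb] at h
        have hya : co B c e (g (e k)) a ≠ 0 := by
          intro h0
          rw [h0, mul_zero, add_zero] at h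
          exact mul_ne_zero hr1ne hr1ne h
        refine ⟨hya, ?_⟩
        intro h0
        rw [h0, mul_zero, add_zero] at horth
        exact mul_ne_zero hr1ne hya horth
      · rw [co_comb] at h
        have hyb : co B c e (g (e k)) b ≠ 0 := by
          intro h0
          rw [h0, mul_zero, add_zero] at h
          exact mul_ne_zero hr1ne hr2ne h
        refine ⟨?_, hyb⟩
        intro h0
        rw [h0, mul_zero, zero_add] at horth
        exact mul_ne_zero hr2ne hyb horth
      · exact absurd h hzd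
    rcases zero_of_three (f := fun k' => co B c e (g (e k)) k' = 0)
      (hAM _ hy) hab (Ne.symm hda) (Ne.symm hdb) with h | h | h
    · exact hboth.1 h
    · exact hboth.2 h
    · exact hyd h
  -- a third index
  obtain ⟨d, hda, hdb⟩ : ∃ d, d ≠ a ∧ d ≠ b := by
    have hcard : 0 < (({a, b} : Finset ι)ᶜ).card := by
      rw [Finset.card_compl, Finset.card_pair hab]; omega
    obtain ⟨d, hd⟩ := Finset.card_pos.1 hcard
    rw [Finset.mem_compl, Finset.mem_insert, Finset.mem_singleton, not_or] at hd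
    exact ⟨d, hd.1, hd.2⟩
  -- `g⁻¹ (e d)` is orthogonal to the whole frame
  have hw : g⁻¹ (e d) = 0 := by
    apply fr.ext
    intro k
    rw [map_zero, LinearMap.zero_apply, ← oG_B Q B fr.hQp hgO, apply_inv_apply', fr.symm]
    have := hplane k d hda hdb
    unfold co at this
    rcases mul_eq_zero.1 this with h | h
    · exact absurd (inv_eq_zero.1 h) fr.two_c
    · exact h
  have : e d = 0 := by
    rw [← apply_inv_apply' g (e d), hw, map_zero]
  exact fr.e_ne_zero d this

end Frame

end Cfsg.Agent.Lib.Helper5_OFA_RLEM
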