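import Mathlib
import Cfsg.Agent.Lib.Helper98_OFADefs

set_option autoImplicit false
set_option linter.unusedVariables false
set_option linter.unusedSectionVars false

/-!
# OFA market (architect helper98), package S2 (helper96): prefix sums

A unit vector whose support has at least `p = |F|` elements has a proper nonempty subset of the support
with zero partial norm.
-/

namespace Cfsg.Agent.Lib.Helper96_OFA_S2

open Module Cfsg.Agent.Lib.Helper94_Symp Cfsg.Agent.Lib.Helper94_OrthSmall
  Cfsg.Agent.Lib.Helper94_OrthSiegel Cfsg.Agent.Lib.Helper32_OFDefs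
  Cfsg.Agent.Lib.Helper98_OFADefs

section Pre

variable {F : Type*} [Field F] [Finite F] {ι : Type*} [DecidableEq ι]

/-- prefix sums: a nodup list of length at least `|F|` has a nonempty block with zero sum -/
theorem exists_block (w : ι → F) (l : List ι) (hl : l.Nodup) (hlen : Nat.card F ≤ l.length) :
    ∃ a b : ℕ, a < b ∧ b ≤ l.length ∧ ((l.take b).drop a).toFinset.Nonempty ∧
      ∑ i ∈ ((l.take b).drop a).toFinset, w i = 0 := by
  classical
  have : Fintype F := Fintype.ofFinite F
  obtain ⟨p, hp⟩ : ∃ p : ℕ, p = Nat.card F := ⟨_, rfl⟩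
  have hpc : Fintype.card F = p := by rw [hp, Nat.card_eq_fintype_card]
  have key : ∀ a b : ℕ, a < b → b ≤ l.length →
      ((l.map w).take a).sum = ((l.map w).take b).sum →
      ((l.take b).drop a).toFinset.Nonempty ∧ ∑ i ∈ ((l.take b).drop a).toFinset, w i = 0 := by
    intro a b hab hb h
    constructor
    · rw [List.toFinset_nonempty_iff]
      intro h0
      have h1 := congrArg List.length h0
      rw [List.length_drop, List.length_take, List.length_nil, min_eq_left hb] at h1
      omega
    · have hnd : ((l.take b).drop a).Nodup :=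
        List.Nodup.sublist ((List.drop_sublist a _).trans (List.take_sublist b l)) hl
      rw [List.sum_toFinset w hnd, List.map_drop, List.map_take]
      have h2 := List.sum_take_add_sum_drop ((l.map w).take b) a
      rw [List.take_take, min_eq_left hab.le, h] at h2
      exact add_left_cancel (a := ((l.map w).take b).sum) (by rw [h2, add_zero])
  obtain ⟨a, b, hab, hfab⟩ := Fintype.exists_ne_map_eq_of_card_lt
    (fun k : Fin (p + 1) => ((l.map w).take k.val).sum) (by rw [hpc, Fintype.card_fin]; omega)
  have ha := a.2
  have hb := b.2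
  rcases lt_or_gt_of_ne (fun h => hab (Fin.ext h)) with h | h
  · exact ⟨a.val, b.val, h, by omega, key a.val b.val h (by omega) hfab⟩
  · exact ⟨b.val, a.val, h, by omega, key b.val a.val h (by omega) hfab.symm⟩

end Pre

section Frame

variable {F V : Type*} [Field F] [Finite F] [AddCommGroup V] [Module F V] [FiniteDimensional F V]
variable {Q : V → F} {B : LinearMap.BilinForm F V}
variable {ι : Type*} [Fintype ι] [DecidableEq ι] {c : F} {e : ι → V}
variable {L : Subgroup (V ≃ₗ[F] V)}

/-- OFA-S2 (M).  Prefix sums. -/
theorem S2 (hC : TCtx Q B c e L) {x : V} (hx : Q x = c)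
    (hs : Nat.card F ≤ (osupp B c e x).card) :
    ∃ T : Finset ι, T.Nonempty ∧ T ⊂ osupp B c e x ∧ nu B c e T x = 0 := by
  classical
  have hfr := hC.fr
  obtain ⟨s, hsdef⟩ : ∃ s : Finset ι, s = osupp B c e x := ⟨_, rfl⟩
  rw [← hsdef] at hs ⊢
  -- the total norm is `1`
  have htot : nu B c e s x = 1 := by
    have h1 := hfr.Q_eq x
    rw [hx] at h1
    have h2 : ∑ i, co B c e x i * co B c e x i = 1 := by
      have h3 : c * (∑ i, co B c e x i * co B c e x i) = c * 1 := by rw [← h1, mul_one]
      exact mul_left_cancel₀ hfr.c0 h3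
    unfold nu
    rw [← h2]
    apply Finset.sum_subset (Finset.subset_univ _)
    intro i _ hi
    rw [hsdef, mem_osupp, not_not] at hi
    rw [hi, mul_zero]
  obtain ⟨a, b, hab, hb, hne, hsum⟩ := exists_block
    (fun i => co B c e x i * co B c e x i) s.toList s.nodup_toList
    (by rw [Finset.length_toList]; exact hs)
  refine ⟨((s.toList.take b).drop a).toFinset, hne, ?_, hsum⟩
  rw [Finset.ssubset_iff_subset_ne]
  constructor
  · intro i hi
    rw [List.mem_toFinset] at hi
    exact Finset.mem_toList.mp (List.mem_of_mem_take (List.mem_of_mem_drop hi))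
  · intro h
    have h1 : nu B c e s x = 0 := by
      unfold nu
      rw [← h]
      exact hsum
    rw [htot] at h1
    exact one_ne_zero h1

end Frame

end Cfsg.Agent.Lib.Helper96_OFA_S2
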