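import Mathlib
import Cfsg.Agent.Lib.Helper98_OFADefs
import Cfsg.Agent.Lib.Helper32_OFTransfer
import Cfsg.Agent.Lib.Helper54_OFA_API1
import Cfsg.Agent.Lib.Helper96_OFA_S2
import Cfsg.Agent.Lib.Helper5_OFA_COORD3B
import Cfsg.Agent.Lib.Helper61_OFA_MAIN3
import Cfsg.Agent.Lib.Helper5_OFA_RLEM
import Cfsg.Agent.Lib.Helper43_OFA_MFIN
import Cfsg.Agent.Lib.Helper70_OFA_SMALL5
import Cfsg.Agent.Lib.Helper16_OFA_SMALL7
import Cfsg.Agent.Lib.Helper34_OFA_STAR
import Cfsg.Agent.Lib.Helper78_OFA_TAN1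
import Cfsg.Agent.Lib.Helper50_OFA_TAN2
import Cfsg.Agent.Lib.Helper78_OFA_F4
import Cfsg.Agent.Lib.Helper21_OFA_U3aux
import Cfsg.Agent.Lib.Helper93_OFA_UNIP
import Cfsg.Agent.Lib.Helper64_OFA_ROOTTRANS
import Cfsg.Agent.Lib.Helper61_OFA_P3REL
import Cfsg.Agent.Lib.Helper59_OFA_PART
import Cfsg.Agent.Lib.Helper59_OFA_COORD3A
import Cfsg.Agent.Lib.Helper43_OFA_FOB
import Cfsg.Agent.Lib.Helper64_OFA_TRANS
import Cfsg.Agent.Lib.Helper96_OFA_COORD3P

set_option autoImplicit false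
set_option linter.unusedSimpArgs false
set_option linter.unusedVariables false
set_option linter.unusedSectionVars false

/-!
# Orthogonal frames (rows S5679 / S5696), CASE (A): theorem `T(m)` (helper98, market OFA)

`TM`: a group `L` of isometries of a quadratic space over a prime field with an orthogonal frame
`e : ι → V` (`7 ≤ |ι|`) which contains the sign changes and the 3-cycles of the frame and one
non-monomial element contains every Siegel element.

Paper proof: `pending/helper98/OFA_proof.md`.  The packages were proved by the OFA market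
(helpers 5, 16, 21, 30, 34, 43, 50, 52, 54, 59, 61, 64, 70, 73, 78, 93, 96); this file is the assembly.
-/

namespace Cfsg.Agent.Lib.Helper98_OFAMain

open Module Cfsg.Agent.Lib.Helper94_Symp Cfsg.Agent.Lib.Helper94_OrthSmall
  Cfsg.Agent.Lib.Helper94_OrthSiegel Cfsg.Agent.Lib.Helper32_OFDefs
  Cfsg.Agent.Lib.Helper98_OFADefs

variable {F V : Type*} [Field F] [Finite F] [AddCommGroup V] [Module F V] [FiniteDimensional F V]
variable {Q : V → F} {B : LinearMap.BilinForm F V}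
variable {ι : Type*} [Fintype ι] [DecidableEq ι] {c : F} {e : ι → V}
variable {L : Subgroup (V ≃ₗ[F] V)}

/-- OFA-U3 (helper21's `U3_of` + helper93's `UNIP` + helper64's `ROOTTRANS`). -/
theorem U3 (hp : (Nat.card F).Prime) (hQs : ∀ (a : F) (v : V), Q (a • v) = a * a * Q v)
    (hQp : ∀ u v : V, Q (u + v) = Q u + Q v + B u v) (h2 : (2 : F) ≠ 0)
    (U : Submodule F V) (hUd : finrank F U = 3)
    (hUn : ∀ u ∈ U, (∀ v ∈ U, B u v = 0) → u = 0)
    (A : Set V) (hA : ∀ a ∈ A, a ∈ U ∧ Q a ≠ 0) (hspan : Submodule.span F A = U)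
    (hdiv : Nat.card F ∣ Nat.card (Subgroup.closure (Rf Q B '' A))) :
    ∀ w ∈ U, Q w = 0 → ∀ z ∈ U, B w z = 0 →
      sieg Q B w z ∈ Subgroup.closure (Rf Q B '' A) := by
  have hGO : Subgroup.closure (Rf Q B '' A) ≤ oG Q := by
    rw [Subgroup.closure_le]
    rintro g ⟨a, ha, rfl⟩
    exact Rf_mem_oG Q B hQs hQp (hA a ha).2
  refine Cfsg.Agent.Lib.Helper21_OFA_U3aux.U3_of hp hQs hQp h2 U hUd hUn A hA hspan hdiv ?_ ?_
  · intro hnd g hg hgp hg1
    exact Cfsg.Agent.Lib.Helper93_OFA_UNIP.UNIP (Qw := fun u : U => Q u) (Bw := B.restrict U)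
      (fun a v => hQs a v) (fun u v => hQp u v) h2 hnd hUd g hg hgp hg1
  · intro u0 u1 h0 h1 hQ0 hQ1 hne hZ0 hZ1
    exact Cfsg.Agent.Lib.Helper64_OFA_ROOTTRANS.ROOTTRANS hQs hQp h2 U hUd hUn _ hGO h0 h1 hQ0 hQ1
      hne hZ0 hZ1

/-- OFA-PART (helper59's `PART_aux` + U3, P3REL (helper61), TRANS (helper64)). -/
theorem PART (hC : TCtx Q B c e L) (hp5 : 5 ≤ Nat.card F) {x : V} (hx : x ∈ XL Q B c L)
    (T1 T2 T3 : Finset ι) (hd12 : Disjoint T1 T2) (hd13 : Disjoint T1 T3) (hd23 : Disjoint T2 T3)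
    (hun : T1 ∪ T2 ∪ T3 = osupp B c e x)
    (h1 : nu B c e T1 x ≠ 0) (h2 : nu B c e T2 x ≠ 0) (h3 : nu B c e T3 x ≠ 0)
    (hnA : ¬ InA (nu B c e T1 x) ∨ ¬ InA (nu B c e T2 x) ∨ ¬ InA (nu B c e T3 x)) :
    ∀ y ∈ Submodule.span F {part B c e T1 x, part B c e T2 x, part B c e T3 x}, Q y = c →
      y ∈ XL Q B c L :=
  Cfsg.Agent.Lib.Helper59_OFA_PART.PART_aux hC hp5
    (fun U hUd hUn A hA hspan hdiv =>
      U3 hC.hp hC.fr.hQs hC.fr.hQp hC.fr.h2 U hUd hUn A hA hspan hdiv)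
    (fun U hUd hUn A hA hspan hirr hnd =>
      Cfsg.Agent.Lib.Helper61_OFA_P3REL.P3REL hC.hp hC.fr.hQs hC.fr.hQp hC.fr.h2 U hUd hUn A hA
        hspan hirr hnd)
    (fun U hUd hUn hZ x hx hxU =>
      Cfsg.Agent.Lib.Helper64_OFA_TRANS.TRANS hp5 hC.fr.hQs hC.fr.hQp hC.fr.h2 U hUd hUn L hC.hLO
        hZ hC.fr.c0 hx hxU)
    hx T1 T2 T3 hd12 hd13 hd23 hun h1 h2 h3 hnA

/-- OFA-COORD3A (helper59's `COORD3A_aux` + U3, P3REL, TRANS, COORD3P (helper96)). -/
theorem COORD3A (hC : TCtx Q B c e L) (hm : 5 ≤ Fintype.card ι) (hp5 : 5 ≤ Nat.card F)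
    {y : V} (hy : y ∈ XL Q B c L) (hyE : ¬ IsPM e y) (hyR : ¬ IsRoot B c e y)
    (T : Finset ι) (hT : T.card = 3) (hyT : osupp B c e y ⊆ T) : Full3At Q B c e L T :=
  Cfsg.Agent.Lib.Helper59_OFA_COORD3A.COORD3A_aux hC hm hp5
    (fun U hUd hUn A hA hspan hdiv =>
      U3 hC.hp hC.fr.hQs hC.fr.hQp hC.fr.h2 U hUd hUn A hA hspan hdiv)
    (fun U hUd hUn A hA hspan hirr hnd =>
      Cfsg.Agent.Lib.Helper61_OFA_P3REL.P3REL hC.hp hC.fr.hQs hC.fr.hQp hC.fr.h2 U hUd hUn A hA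
        hspan hirr hnd)
    (fun U hUd hUn hZ x hx hxU =>
      Cfsg.Agent.Lib.Helper64_OFA_TRANS.TRANS hp5 hC.fr.hQs hC.fr.hQp hC.fr.h2 U hUd hUn L hC.hLO
        hZ hC.fr.c0 hx hxU)
    (fun T hT y hy hyT h24 h5 =>
      Cfsg.Agent.Lib.Helper96_OFA_COORD3P.COORD3P hC.fr T hT hy hyT h24 h5)
    hy hyE hyR T hT hyT

/-- OFA-FOB (helper43's `FOB_aux` + PART). -/
theorem FOB (hC : TCtx Q B c e L) (hp : 11 ≤ Nat.card F) {x : V} (hx : x ∈ XL Q B c L)
    (hs4 : 4 ≤ (osupp B c e x).card) (hsp : (osupp B c e x).card < Nat.card F)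
    (hnt : ∀ T : Finset ι, T.Nonempty → T ⊂ osupp B c e x → nu B c e T x ≠ 0) :
    (∃ y ∈ XL Q B c L, ¬ IsPM e y ∧ ¬ IsRoot B c e y ∧ (osupp B c e y).card ≤ 3) ∨
    ((osupp B c e x).card = 4 ∧ ∀ i ∈ osupp B c e x, 4 * (co B c e x i * co B c e x i) = 1) :=
  Cfsg.Agent.Lib.Helper43_OFA_FOB.FOB_aux hC hp
    (fun x hx T1 T2 T3 h1 h2 h3 h4 h5 h6 h7 h8 =>
      PART hC (le_trans (by norm_num) hp) hx T1 T2 T3 h1 h2 h3 h4 h5 h6 h7 h8) hx hs4 hsp hnt


/-- COORD3 (assembly of COORD3A + COORD3B). -/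
theorem COORD3 (hC : TCtx Q B c e L) (hm : 5 ≤ Fintype.card ι) (hp5 : 5 ≤ Nat.card F)
    {y : V} (hy : y ∈ XL Q B c L) (hyE : ¬ IsPM e y) (hyR : ¬ IsRoot B c e y)
    (hs : (osupp B c e y).card ≤ 3) : Full3 Q B c e L := by
  classical
  obtain ⟨T, hsub, hT⟩ : ∃ T : Finset ι, osupp B c e y ⊆ T ∧ T.card = 3 := by
    have h3 : 3 ≤ (Finset.univ : Finset ι).card := by rw [Finset.card_univ]; omega
    obtain ⟨T, h1, -, h3⟩ := Finset.exists_subsuperset_card_eq (Finset.subset_univ _) hs h3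
    exact ⟨T, h1, h3⟩
  exact Cfsg.Agent.Lib.Helper5_OFA_COORD3B.COORD3B hC hm T hT (COORD3A hC hm hp5 hy hyE hyR T hT hsub)

/-- tangent ⇒ good singular vector (induction on `|T|`, TAN1 + TAN2) -/
theorem TAN (hC : TCtx Q B c e L) (hm : 6 ≤ Fintype.card ι) (hp5 : 5 ≤ Nat.card F)
    (ht : Tang Q B c e L) : ∃ u, GoodU Q B c e L u := by
  classical
  have main : ∀ n : ℕ, ∀ (x : V) (T : Finset ι), x ∈ XL Q B c L → T.Nonempty →
      T ⊂ osupp B c e x → nu B c e T x = 0 → T.card = n → ∃ u, GoodU Q B c e L u := by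
    intro n
    induction n using Nat.strong_induction_on with
    | _ n ih =>
      intro x T hx hT hTS hnu hn
      by_cases h3 : 3 ≤ Tᶜ.card
      · exact Cfsg.Agent.Lib.Helper78_OFA_TAN1.TAN1 hC hx hT hTS hnu (Or.inl h3)
      · push Not at h3
        have hcardS : (osupp B c e x \ T).card ≠ 0 := by
          intro h0
          rw [Finset.card_eq_zero, Finset.sdiff_eq_empty_iff_subset] at h0
          exact hTS.2 h0
        have hsub : osupp B c e x \ T ⊆ Tᶜ := by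
          intro i hi
          rw [Finset.mem_compl]
          exact (Finset.mem_sdiff.mp hi).2
        have hle : (osupp B c e x \ T).card ≤ Tᶜ.card := Finset.card_le_card hsub
        have hTcard : T.card + Tᶜ.card = Fintype.card ι := by
          rw [Finset.card_compl]
          have := Finset.card_le_univ T
          omega
        by_cases hone : (osupp B c e x \ T).card = 1
        · have hT4 : 4 ≤ T.card := by omega
          obtain ⟨x', hx', T', hT', hTS', hnu', hlt⟩ := Cfsg.Agent.Lib.Helper50_OFA_TAN2.TAN2 hC hp5 hx hT4 hTS hnu hone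
          exact ih T'.card (hn ▸ hlt) x' T' hx' hT' hTS' hnu' rfl
        · have h2 : (osupp B c e x \ T).card = 2 := by omega
          have h2' : Tᶜ.card = 2 := by omega
          have heq : osupp B c e x \ T = Tᶜ := Finset.eq_of_subset_of_card_le hsub (by omega)
          refine Cfsg.Agent.Lib.Helper78_OFA_TAN1.TAN1 hC hx hT hTS hnu (Or.inr ⟨h2', ?_⟩)
          rw [← heq]
          exact Finset.sdiff_subset
  obtain ⟨x, hx, T, hT, hTS, hnu⟩ := ht
  exact main T.card x T hx hT hTS hnu rfl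

/-- generic case: tangent, or an element of `X` of support at most 3 outside `E ∪ R` -/
theorem GEN11 (hC : TCtx Q B c e L) (hm : 6 ≤ Fintype.card ι) (hp : 11 ≤ Nat.card F) {x : V}
    (hx : x ∈ XL Q B c L) (hxE : ¬ IsPM e x) (hxR : ¬ IsRoot B c e x) :
    Tang Q B c e L ∨
      ∃ y ∈ XL Q B c L, ¬ IsPM e y ∧ ¬ IsRoot B c e y ∧ (osupp B c e y).card ≤ 3 := by
  classical
  -- a vector of `X` is tangent, or has small support
  have key : ∀ x ∈ XL Q B c L, 4 ≤ (osupp B c e x).card →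
      Tang Q B c e L ∨ ((osupp B c e x).card < Nat.card F ∧
        ∀ T : Finset ι, T.Nonempty → T ⊂ osupp B c e x → nu B c e T x ≠ 0) := by
    intro x hx _
    by_cases ht : ∃ T : Finset ι, T.Nonempty ∧ T ⊂ osupp B c e x ∧ nu B c e T x = 0
    · obtain ⟨T, h1, h2, h3⟩ := ht
      exact Or.inl ⟨x, hx, T, h1, h2, h3⟩
    · push Not at ht
      right
      refine ⟨?_, fun T h1 h2 h3 => ht T h1 h2 h3⟩
      by_contra hge
      push Not at hge
      obtain ⟨T, h1, h2, h3⟩ := Cfsg.Agent.Lib.Helper96_OFA_S2.S2 hC hx.1 hge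
      exact ht T h1 h2 h3
  by_cases hs : (osupp B c e x).card ≤ 3
  · exact Or.inr ⟨x, hx, hxE, hxR, hs⟩
  push Not at hs
  rcases key x hx hs with h | ⟨hsp, hnt⟩
  · exact Or.inl h
  rcases FOB hC hp hx hs hsp hnt with h | ⟨h4, hq⟩
  · exact Or.inr h
  obtain ⟨x', hx', hs'⟩ := Cfsg.Agent.Lib.Helper78_OFA_F4.F4 hC hm (by omega) hx h4 hq
  rcases key x' hx' (by omega) with h | ⟨hsp', hnt'⟩
  · exact Or.inl h
  rcases FOB hC hp hx' (by omega) hsp' hnt' with h | ⟨h4', _⟩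
  · exact Or.inr h
  · omega

/-- THEOREM T(m). -/
theorem TM (hC : TCtx Q B c e L) (hm : 7 ≤ Fintype.card ι) (hne : ∃ g ∈ L, ¬ IsMon e g) :
    ∀ u z : V, Q u = 0 → B u z = 0 → sieg Q B u z ∈ L := by
  classical
  have hp := hC.hp
  have h2 : (2 : F) ≠ 0 := hC.fr.h2
  have hp2 : Nat.card F ≠ 2 := by
    intro h
    have : Fintype F := Fintype.ofFinite F
    have hc : ringChar F ∣ 2 := by
      have := FiniteField.card F (ringChar F)
      obtain ⟨n, hpr, hcard⟩ := this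
      rw [Nat.card_eq_fintype_card] at h
      rw [h] at hcard
      have hdvd : ringChar F ∣ ringChar F ^ (n : ℕ) := dvd_pow_self _ n.ne_zero
      rw [← hcard] at hdvd
      exact hdvd
    have : ((2 : ℕ) : F) = 0 := (ringChar.spec F 2).mpr hc
    exact h2 (by exact_mod_cast this)
  have hp2' : 2 ≤ Nat.card F := hp.two_le
  by_cases h3 : Nat.card F = 3
  · exact Cfsg.Agent.Lib.Helper61_OFA_MAIN3.MAIN3 hC h3 hm ((Cfsg.Agent.Lib.Helper54_OFA_API1.API1 hC).2.2.2.2.2.2.2 hne)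
  have hp5 : 5 ≤ Nat.card F := by
    by_contra hlt
    push Not at hlt
    have : Nat.card F = 4 := by omega
    rw [this] at hp
    exact absurd hp (by decide)
  obtain ⟨x, hx, hxE, hxR⟩ := Cfsg.Agent.Lib.Helper5_OFA_RLEM.RLEM hC (by omega) hne
  have htan : Tang Q B c e L → ∀ u z : V, Q u = 0 → B u z = 0 → sieg Q B u z ∈ L := by
    intro ht
    obtain ⟨u, hu⟩ := TAN hC (by omega) hp5 ht
    exact Cfsg.Agent.Lib.Helper43_OFA_MFIN.MFIN hC hp5 hu
  by_cases h5 : Nat.card F = 5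
  · exact htan (Cfsg.Agent.Lib.Helper70_OFA_SMALL5.SMALL5 hC h5 (by omega) hx hxE)
  by_cases h7 : Nat.card F = 7
  · exact htan (Cfsg.Agent.Lib.Helper16_OFA_SMALL7.SMALL7 hC h7 (by omega) hx hxE hxR)
  have hp11 : 11 ≤ Nat.card F := by
    by_contra hlt
    push Not at hlt
    have h6 : Nat.card F ≠ 6 := fun h => by rw [h] at hp; exact absurd hp (by decide)
    have h8 : Nat.card F ≠ 8 := fun h => by rw [h] at hp; exact absurd hp (by decide)
    have h9 : Nat.card F ≠ 9 := fun h => by rw [h] at hp; exact absurd hp (by decide)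
    have h10 : Nat.card F ≠ 10 := fun h => by rw [h] at hp; exact absurd hp (by decide)
    omega
  rcases GEN11 hC (by omega) hp11 hx hxE hxR with ht | ⟨y, hy, hyE, hyR, hys⟩
  · exact htan ht
  · have hF := COORD3 hC (by omega) hp5 hy hyE hyR hys
    obtain ⟨u, hu⟩ := Cfsg.Agent.Lib.Helper34_OFA_STAR.STAR hC (by omega) (by omega) hF
    exact Cfsg.Agent.Lib.Helper43_OFA_MFIN.MFIN hC hp5 hu

end Cfsg.Agent.Lib.Helper98_OFAMain

namespace Cfsg.Agent.Lib.Helper98_OFAMain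

open Module Cfsg.Agent.Lib.Helper94_Symp Cfsg.Agent.Lib.Helper94_OrthSmall
  Cfsg.Agent.Lib.Helper94_OrthSiegel Cfsg.Agent.Lib.Helper32_OFDefs
  Cfsg.Agent.Lib.Helper98_OFADefs

universe u

/-- `T(m)` in the form `PropTabs` of helper32 (`Helper32_OFTransfer`), for every frame size
`n ≥ 7` over a prime field. -/
theorem propTabs {F : Type*} [Field F] [Finite F] (hp : (Nat.card F).Prime) {n : ℕ}
    (hn : 7 ≤ n) : Cfsg.Agent.Lib.Helper32_OFTransfer.PropTabs.{u} F n := by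
  intro W _ _ κ _ _ Q' B' c e' hfr hcard L' hLO hz h3 hne
  have hfd : FiniteDimensional F W := by
    classical
    refine ⟨⟨Finset.univ.image e', ?_⟩⟩
    rw [eq_top_iff]
    intro v _
    rw [hfr.exp v]
    refine Submodule.sum_mem _ fun i _ => Submodule.smul_mem _ _ (Submodule.subset_span ?_)
    simp
  exact TM ⟨hfr, hLO, hz, h3, hp⟩ (by omega) hne

end Cfsg.Agent.Lib.Helper98_OFAMain
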