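import Mathlib
import Cfsg.Agent.Lib.Helper32_OFOdd
import Cfsg.Agent.Lib.Helper98_OFAMain

set_option autoImplicit false
set_option linter.unusedSimpArgs false
set_option linter.unusedVariables false
set_option linter.unusedSectionVars false

/-!
Orthogonal frames in odd dimension `≥ 7` over a prime field, in the vocabulary of the prelude:
the stabiliser of a decomposition into pairwise orthogonal, pairwise isometric nondegenerate lines
is maximal in `Ω` (conjunct (3) of the rows omega7 S5813, omega9 S5834, omega11 S5858; also S5679).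
-/

namespace Cfsg.Agent.Lib.Helper32_OFOddBridge

open Cfsg Cfsg.Agent.Lib.Helper94_Symp Cfsg.Agent.Lib.Helper94_Bridge
  Cfsg.Agent.Lib.Helper94_SLBridge
  Cfsg.Agent.Lib.Helper94_OrthSmall Cfsg.Agent.Lib.Helper94_OrthBridge
  Cfsg.Agent.Lib.Helper94_OrthSiegel Cfsg.Agent.Lib.Helper94_OrthSiegel2
  Cfsg.Agent.Lib.Helper94_OrthGenBridge Cfsg.Agent.Lib.Helper94_OrthFinal
  Cfsg.Agent.Lib.Helper29_ODDefs Cfsg.Agent.Lib.Helper32_OFDefs Cfsg.Agent.Lib.Helper32_OFMain
  Cfsg.Agent.Lib.Helper32_OFTransfer Cfsg.Agent.Lib.Helper32_OFOdd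

universe uF

/-- parametric form: helper98's theorem `T(card ι)` as a hypothesis -/
theorem frame_maximal_odd' {ι : Type} [Fintype ι] [DecidableEq ι] {F : Type uF} [Field F]
    [Fintype F]
    (Q : (ι → F) → F) (hQ : Cfsg.Geo.IsNondegenerateQuadraticForm Q) (h2 : (2 : F) ≠ 0)
    (hcard : 7 ≤ Fintype.card ι) (hodd : Odd (Fintype.card ι))
    (hT : PropTabs.{uF} F (Fintype.card ι))
    {t : ℕ} (D : Fin t → Submodule F (ι → F))
    (hD : Cfsg.Geo.IsOrthogonalMDecomposition Q 1 D) :
    Cfsg.Geo.IsMaximalIn (Cfsg.Geo.omegaGL Q)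
      (Cfsg.Geo.decompositionStabilizer D ⊓ Cfsg.Geo.omegaGL Q) := by
  classical
  have hfrV : Module.finrank F (ι → F) = Fintype.card ι := Module.finrank_pi F
  have htk : t * 1 = Fintype.card ι :=
    Cfsg.Agent.Lib.Helper29_OmegaMaxMain.decomp_card hD.decomp.decomp
  obtain rfl : t = Fintype.card ι := by omega
  let S : Subgroup ((ι → F) ≃ₗ[F] (ι → F)) :=
    (Cfsg.Geo.decompositionStabilizer D).comap (glEquiv ι F).symm.toMonoidHom
  have hSeq : Cfsg.Geo.decompositionStabilizer D = S.comap (glEquiv ι F).toMonoidHom :=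
    (comap_symm_comap (glEquiv ι F) _).symm
  rw [hSeq, omegaGL_eq, ← Subgroup.comap_inf]
  apply isMaximalIn_comap
  have hQs := gen_hQs Q hQ
  have hQp := gen_hQp Q hQ
  have hN := gen_hN Q hQ
  apply maximal_frame_orth_odd hQs hQp h2
    (fun u z hu huz => sieg_mem_commutator' Q _ hQs hQp hN (by rw [hfrV]; omega) hu huz)
    (gen_hG3 Q hQ (fun h => absurd h h2) (by omega))
    D ?_ (by omega) hodd hT S ?_
  · -- ODec
    refine ⟨hD.decomp.decomp.finrank_eq, hD.decomp.decomp.iSup_eq_top, ?_, ?_, hD.isometric⟩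
    · intro i a ha ha0
      obtain ⟨x, hx, hxa⟩ := (hD.decomp.nondegenerate i a ha ha0).1
      exact ⟨x, hx, by rw [polarForm_apply]; exact hxa⟩
    · intro i j hij u hu v hv
      rw [polarForm_apply]
      exact hD.decomp.orthogonal i j hij u hu v hv
  · -- IsDStab
    intro g
    have key : Matrix.toLin' (((glEquiv ι F).symm g : Matrix.GeneralLinearGroup ι F) :
        Matrix ι ι F) = (g : (ι → F) →ₗ[F] (ι → F)) := by
      refine LinearMap.ext fun x => ?_
      rw [Matrix.toLin'_apply, ← glEquiv_apply, MulEquiv.apply_symm_apply]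
      rfl
    constructor
    · rintro ⟨σ, hσ⟩
      refine ⟨σ, fun i => ?_⟩
      have := hσ i
      simp only [MulEquiv.toMonoidHom_eq_coe, MonoidHom.coe_coe] at this
      rw [key] at this
      exact this
    · rintro ⟨σ, hσ⟩
      refine ⟨σ, fun i => ?_⟩
      simp only [MulEquiv.toMonoidHom_eq_coe, MonoidHom.coe_coe]
      rw [key]
      exact hσ i

/-- orthogonal frames in odd dimension `≥ 7` over a prime field -/
theorem frame_maximal_odd {ι : Type} [Fintype ι] [DecidableEq ι] {F : Type uF} [Field F]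
    [Fintype F]
    (Q : (ι → F) → F) (hQ : Cfsg.Geo.IsNondegenerateQuadraticForm Q) (h2 : (2 : F) ≠ 0)
    (hcard : 7 ≤ Fintype.card ι) (hodd : Odd (Fintype.card ι))
    (hprime : (Fintype.card F).Prime)
    {t : ℕ} (D : Fin t → Submodule F (ι → F))
    (hD : Cfsg.Geo.IsOrthogonalMDecomposition Q 1 D) :
    Cfsg.Geo.IsMaximalIn (Cfsg.Geo.omegaGL Q)
      (Cfsg.Geo.decompositionStabilizer D ⊓ Cfsg.Geo.omegaGL Q) :=
  frame_maximal_odd' Q hQ h2 hcard hodd
    (Cfsg.Agent.Lib.Helper98_OFAMain.propTabs (by rw [Nat.card_eq_fintype_card]; exact hprime)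
      hcard) D hD

end Cfsg.Agent.Lib.Helper32_OFOddBridge
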