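import Mathlib
import Cfsg.Agent.Lib.Helper32_OFTransfer
import Cfsg.Agent.Lib.Helper98_OFAMain

set_option autoImplicit false

/-!
Orthogonal frames (rows S5679, S5696): helper98's theorem `T(m)` (overgroups of the monomial group
of a full frame) in the relative form `PropT` used by `Helper32_OFMain` / `Helper32_OFBridge`.
-/

namespace Cfsg.Agent.Lib.Helper32_OFT

open Module Cfsg.Agent.Lib.Helper94_Symp Cfsg.Agent.Lib.Helper94_OrthSmall
  Cfsg.Agent.Lib.Helper94_OrthSiegel Cfsg.Agent.Lib.Helper32_OFDefs Cfsg.Agent.Lib.Helper32_OFMain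
  Cfsg.Agent.Lib.Helper32_OFTransfer

universe u

variable {F : Type*} {V : Type u} [Field F] [AddCommGroup V] [Module F V]
variable {Q : V → F} {B : LinearMap.BilinForm F V}

theorem propT [Finite F] (hp : (Nat.card F).Prime) {t : ℕ} {c : F}
    {e : Fin t → V} (ht : 8 ≤ t) (hfr : OFr Q B c e) : PropT Q B c e :=
  propT_of_abs hfr (Cfsg.Agent.Lib.Helper98_OFAMain.propTabs hp (n := t - 1) (by omega))
    (by rw [Fintype.card_fin]; omega)

end Cfsg.Agent.Lib.Helper32_OFT
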