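import Mathlib
import Cfsg.Agent.Lib.Helper94_OrthRefl

set_option autoImplicit false

/-!
Orthogonal groups: maximality of the stabiliser of a nondegenerate subspace `A'` of dimension at
least five whose (nonzero) orthogonal complement `A` has smaller dimension.  This removes the
bounds `7 ≤ dim A'` and `dim A + 3 ≤ dim A'` of `Helper94_OrthRefl.maximal_stab_small`: in the
branch where all Siegel parts at singular vectors of `A'` stay inside `A'`, the image `X = m A'`
under an element `m` of the overgroup is invariant under every Siegel element `h` of `A'`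
(`X ∩ ⟨u, v⟩^⊥` has dimension at least three, so it contains a singular vector, which is fixed
by `h`; then `m⁻¹ h m` stabilises `A'`), hence contains `A'` by irreducibility (helper80).
-/

namespace Cfsg.Agent.Lib.Helper80_OrthNdFive

open Module Cfsg.Agent.Lib.Helper94_Symp Cfsg.Agent.Lib.Helper94_OrthSmall
  Cfsg.Agent.Lib.Helper94_OrthSiegel Cfsg.Agent.Lib.Helper94_OrthSiegel2
  Cfsg.Agent.Lib.Helper94_OrthPara Cfsg.Agent.Lib.Helper94_OrthVec
  Cfsg.Agent.Lib.Helper94_OrthNondeg Cfsg.Agent.Lib.Helper94_OrthRefl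

variable {F V : Type*} [Field F] [AddCommGroup V] [Module F V]

variable [Finite F] [FiniteDimensional F V] {Q : V → F} {B : LinearMap.BilinForm F V}
  (hQs : ∀ (c : F) (v : V), Q (c • v) = c * c * Q v)
  (hQp : ∀ u v : V, Q (u + v) = Q u + Q v + B u v)

include hQs hQp in
/-- **Maximality of the stabiliser of a nondegenerate subspace** `A'` of dimension at least five
whose orthogonal complement `A` is nonzero of smaller dimension (and not an exceptional hyperbolic
plane), in a group `G` of isometries generated by the Siegel elements and containing the products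
of two commuting reflections in vectors of equal norm. -/
theorem maximal_stab_five (hN : B.Nondegenerate) (G : Subgroup (V ≃ₗ[F] V)) (hG1 : G ≤ oG Q)
    (hG2 : ∀ u z, Q u = 0 → B u z = 0 → sieg Q B u z ∈ G)
    (hG3 : ∀ M : Subgroup (V ≃ₗ[F] V),
      (∀ u z, Q u = 0 → B u z = 0 → sieg Q B u z ∈ M) → G ≤ M)
    (hG4 : ∀ a c, Q a ≠ 0 → Q c = Q a → B a c = 0 →
      ∃ g ∈ G, ∀ x, g x = x - ((Q a)⁻¹ * B x a) • a - ((Q a)⁻¹ * B x c) • c)
    (A A' : Submodule F V)
    (hAA' : ∀ a ∈ A, ∀ a' ∈ A', B a a' = 0) (hsup : A ⊔ A' = ⊤) (hA0 : A ≠ ⊥)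
    (h5' : 5 ≤ finrank F A') (hlt : finrank F A < finrank F A')
    (hexc : ¬ Exc Q A) :
    (stab A' ⊓ G < G) ∧
      ∀ M : Subgroup (V ≃ₗ[F] V), stab A' ⊓ G ≤ M → M ≤ G → M = stab A' ⊓ G ∨ M = G := by
  have hsymm := B_symm Q B hQp
  have hAnd := nondegOn_left hQp hN A A' hAA' hsup
  have hA'nd := nondegOn_right hQp hN A A' hAA' hsup
  have hdec : ∀ x : V, ∃ a ∈ A, ∃ a' ∈ A', a + a' = x := fun x =>
    Submodule.mem_sup.mp (hsup ▸ Submodule.mem_top)
  have hinf : A ⊓ A' = ⊥ := by
    rw [eq_bot_iff]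
    rintro x ⟨hx, hx'⟩
    by_contra hx0
    obtain ⟨y, hy, hyx⟩ := hAnd x hx hx0
    exact hyx (hAA' y hy x hx')
  have hV : finrank F V = finrank F A + finrank F A' := by
    have := Submodule.finrank_sup_add_finrank_inf_eq A A'
    rw [hsup, hinf, finrank_bot, finrank_top] at this
    omega
  constructor
  · refine lt_of_le_of_ne inf_le_right ?_
    intro heq
    obtain ⟨u, huA', hu0, hQu, -, -⟩ := exists_sing_orth2 Q B hQs hQp A' h5' 0 0
    obtain ⟨z, hzA, hz0⟩ := Submodule.exists_mem_ne_zero_of_ne_bot hA0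
    obtain ⟨x, hxA', hxu⟩ := hA'nd u huA' hu0
    have huz : B u z = 0 := by rw [hsymm]; exact hAA' z hzA u huA'
    have hg : sieg Q B u z ∈ stab A' ⊓ G := by
      rw [heq]
      exact hG2 u z hQu huz
    have h1 := (mem_stab.mp hg.1 x).mp hxA'
    rw [sieg_apply Q B hQs hQp hQu huz, hsymm x z, hAA' z hzA x hxA'] at h1
    have h2 : B x u • z ∈ A' := by
      have h3 := A'.add_mem (A'.sub_mem h1 hxA') (A'.smul_mem (Q z * B x u) huA')
      have e : x + B x u • z - (0 : F) • u - (Q z * B x u) • u - x + (Q z * B x u) • u =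
          B x u • z := by module
      rwa [e] at h3
    have h4 : z ∈ A' := by
      have := A'.smul_mem (B x u)⁻¹ h2
      rwa [smul_smul, inv_mul_cancel₀ hxu, one_smul] at this
    have : z ∈ (A ⊓ A' : Submodule F V) := ⟨hzA, h4⟩
    rw [hinf, Submodule.mem_bot] at this
    exact hz0 this
  · intro M hHM hMG
    have hMO : M ≤ oG Q := hMG.trans hG1
    by_cases hZ : ∀ w ∈ A', w ≠ 0 → Q w = 0 → ∀ z, InZ Q B M w z → z ∈ A'
    · left
      apply le_antisymm _ hHM
      intro m hmM
      refine ⟨mem_stab_of_forall_mem ?_, hMG hmM⟩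
      have hmO := hMO hmM
      -- the image `X` of `A'` under `m`
      have hXfr : finrank F (A'.map (m : V →ₗ[F] V)) = finrank F A' :=
        LinearEquiv.finrank_map_eq m A'
      -- `X` is invariant under the Siegel elements of `A'`
      have hXinv : ∀ u ∈ A', ∀ v ∈ A', Q u = 0 → B u v = 0 →
          ∀ x ∈ A'.map (m : V →ₗ[F] V), sieg Q B u v x ∈ A'.map (m : V →ₗ[F] V) := by
        intro u hu v hv hQu huv x hx
        have hhM : sieg Q B u v ∈ M :=
          hHM ⟨sieg_mem_stab_of_mem hQs hQp A' hu hv hQu huv, hG2 u v hQu huv⟩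
        have hhO := sieg_mem_oG Q B hQs hQp hQu huv
        -- a singular vector of `X` orthogonal to `u` and `v`
        have h1 := finrank_le_inf_ker_add_one (A'.map (m : V →ₗ[F] V)) (B.flip u)
        have h2 := finrank_le_inf_ker_add_one
          (A'.map (m : V →ₗ[F] V) ⊓ LinearMap.ker (B.flip u)) (B.flip v)
        obtain ⟨w', hw', hw'0, hQw'⟩ := exists_singular_in Q B hQs hQp
          (A'.map (m : V →ₗ[F] V) ⊓ LinearMap.ker (B.flip u) ⊓ LinearMap.ker (B.flip v))
          (by omega)
        have hw'u : B w' u = 0 := mem_ker_flip.mp hw'.1.2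
        have hw'v : B w' v = 0 := mem_ker_flip.mp hw'.2
        obtain ⟨w, hwA', hmw⟩ := hw'.1.1
        have hmw' : m w = w' := hmw
        have hw0 : w ≠ 0 := by
          rintro rfl
          apply hw'0
          rw [← hmw', map_zero]
        have hQw : Q w = 0 := by rw [← hmO w, hmw', hQw']
        have hfix : sieg Q B u v w' = w' := by
          rw [sieg_apply Q B hQs hQp hQu huv, hw'u, hw'v]
          simp
        -- the conjugate `g = m⁻¹ h m` fixes `w`
        have hgM : m⁻¹ * sieg Q B u v * m ∈ M := M.mul_mem (M.mul_mem (M.inv_mem hmM) hhM) hmM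
        have hgO : m⁻¹ * sieg Q B u v * m ∈ oG Q :=
          (oG Q).mul_mem ((oG Q).mul_mem ((oG Q).inv_mem hmO) hhO) hmO
        have hgw : (m⁻¹ * sieg Q B u v * m) w = w := by
          rw [LinearEquiv.mul_apply, LinearEquiv.mul_apply, hmw', hfix, ← hmw']
          exact m.symm_apply_apply w
        have hst := stab_of_fix hQs hQp A' h5' G M hG2 hHM hZ hgM hgO hwA' hw0 hQw
          (by rw [hgw]; exact hwA')
        obtain ⟨y, hyA', hmy⟩ := hx
        have hmy' : m y = x := hmy
        refine ⟨(m⁻¹ * sieg Q B u v * m) y, hst y hyA', ?_⟩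
        show m ((m⁻¹ * sieg Q B u v * m) y) = sieg Q B u v x
        rw [LinearEquiv.mul_apply, LinearEquiv.mul_apply, hmy']
        exact m.apply_symm_apply _
      -- `X` is not inside `A`
      obtain ⟨x, hxX, hxA⟩ : ∃ x ∈ A'.map (m : V →ₗ[F] V), x ∉ A := by
        by_contra hcon
        push Not at hcon
        have hle : A'.map (m : V →ₗ[F] V) ≤ A := hcon
        have := Submodule.finrank_mono hle
        omega
      obtain ⟨a, haA, a', ha'A', haa'⟩ := hdec x
      have ha'0 : a' ≠ 0 := by
        rintro rfl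
        apply hxA
        rw [← haa', add_zero]
        exact haA
      have hA'X : A' ≤ A'.map (m : V →ₗ[F] V) :=
        irr Q B hQs hQp A' hA'nd h5' (A'.map (m : V →ₗ[F] V)) hXinv
          (a := a') (a' := a) (by rw [add_comm, haa']; exact hxX) ha'A' ha'0
          (fun y hy => by rw [hsymm]; exact hAA' a haA y hy)
      have hEq : A' = A'.map (m : V →ₗ[F] V) :=
        Submodule.eq_of_le_of_finrank_eq hA'X hXfr.symm
      intro y hy
      rw [hEq]
      exact ⟨y, hy, rfl⟩
    · right
      push Not at hZ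
      obtain ⟨w, hwA', hw0, hw, z, hz, hzA'⟩ := hZ
      apply le_antisymm hMG
      apply hG3
      obtain ⟨x, hxA, y, hyA', hxy⟩ := hdec z
      have hx0 : x ≠ 0 := by
        rintro rfl
        apply hzA'
        rw [← hxy, zero_add]
        exact hyA'
      have hwA : ∀ x ∈ A, B w x = 0 := fun x hx => by rw [hsymm]; exact hAA' x hx w hwA'
      have hwy : B w y = 0 := by
        have := hz.1
        rw [← hxy, map_add, hwA x hxA, zero_add] at this
        exact this
      have hHA' : ∀ y ∈ A', B w y = 0 → InZ Q B M w y := fun y hy hwy =>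
        ⟨hwy, fun t => hHM ⟨sieg_mem_stab_of_mem hQs hQp A' hwA' (A'.smul_mem t hy) hw
          (by rw [map_smul, hwy, smul_zero]), hG2 _ _ hw (by rw [map_smul, hwy, smul_zero])⟩⟩
      have hxZ : InZ Q B M w x := by
        have := InZ_sub hQs hQp hw hz (hHA' y hyA' hwy)
        rwa [← hxy, add_sub_cancel_right] at this
      let X0 : Submodule F V :=
        { carrier := {z | InZ Q B M w z}
          add_mem' := fun h1 h2 => InZ_add hQs hQp hw h1 h2
          zero_mem' := InZ_zero hQs hQp hw
          smul_mem' := fun c _ h1 => InZ_smul c h1 }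
      have hX0mem : ∀ z, z ∈ X0 ↔ InZ Q B M w z := fun z => Iff.rfl
      have hXne : (X0 ⊓ A : Submodule F V) ≠ ⊥ := by
        intro h
        have : x ∈ (X0 ⊓ A : Submodule F V) := ⟨(hX0mem x).mpr hxZ, hxA⟩
        rw [h, Submodule.mem_bot] at this
        exact hx0 this
      have hXS : ∀ u ∈ A, ∀ v ∈ A, Q u = 0 → B u v = 0 →
          ∀ x ∈ (X0 ⊓ A : Submodule F V), sieg Q B u v x ∈ (X0 ⊓ A : Submodule F V) := by
        intro u hu v hv hQu huv x hx
        have hgM : sieg Q B u v ∈ M :=
          hHM ⟨sieg_mem_stab_of_orth hQs hQp A A' hAA' hu hv hQu huv, hG2 u v hQu huv⟩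
        have hgO := sieg_mem_oG Q B hQs hQp hQu huv
        have hfix : sieg Q B u v w = w := by
          rw [sieg_apply Q B hQs hQp hQu huv, hwA u hu, hwA v hv]
          simp
        have h1 : InZ Q B M (sieg Q B u v w) (sieg Q B u v x) :=
          InZ_map hQs hQp hgM hgO hw ((hX0mem x).mp hx.1)
        rw [hfix] at h1
        refine ⟨(hX0mem _).mpr h1, ?_⟩
        rw [sieg_apply Q B hQs hQp hQu huv]
        exact A.sub_mem (A.sub_mem (A.add_mem hx.2 (A.smul_mem _ hv)) (A.smul_mem _ hu))
          (A.smul_mem _ hu)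
      have hXR : ∀ a ∈ A, Q a ≠ 0 → ∀ x ∈ (X0 ⊓ A : Submodule F V),
          B x a • a ∈ (X0 ⊓ A : Submodule F V) := by
        intro a ha hQa x hx
        obtain ⟨c, hcA', hwc, hQc⟩ := exists_value hQs hQp A' hA'nd h5' hwA' hw0 (Q a)
        obtain ⟨g, hgG, hg⟩ := hG4 a c hQa hQc (hAA' a ha c hcA')
        have hgS : g ∈ stab A' := by
          apply mem_stab_of_forall_mem
          intro y hy
          rw [hg y, hsymm y a, hAA' a ha y hy, mul_zero, zero_smul, sub_zero]
          exact A'.sub_mem hy (A'.smul_mem _ hcA')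
        have hgM : g ∈ M := hHM ⟨hgS, hgG⟩
        have hgO := hMO hgM
        have hgw : g w = w := by
          rw [hg w, hwA a ha, hwc, mul_zero, zero_smul, zero_smul, sub_zero, sub_zero]
        have h1 : InZ Q B M (g w) (g x) := InZ_map hQs hQp hgM hgO hw ((hX0mem x).mp hx.1)
        rw [hgw, hg x, hAA' x hx.2 c hcA', mul_zero, zero_smul, sub_zero] at h1
        have h2 := InZ_sub hQs hQp hw ((hX0mem x).mp hx.1) h1
        rw [sub_sub_cancel] at h2
        have h3 := InZ_smul (Q a) h2
        rw [smul_smul, ← mul_assoc, mul_inv_cancel₀ hQa, one_mul] at h3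
        exact ⟨(hX0mem _).mpr h3, A.smul_mem _ ha⟩
      have hAX : A ≤ (X0 ⊓ A : Submodule F V) :=
        orth_irr hQs hQp A hAnd hexc _ inf_le_right hXne hXR hXS
      have hfull : ∀ z, B w z = 0 → sieg Q B w z ∈ M := by
        intro z' hwz'
        obtain ⟨x', hx'A, y', hy'A', hx'y'⟩ := hdec z'
        have hwy' : B w y' = 0 := by
          have := hwz'
          rw [← hx'y', map_add, hwA x' hx'A, zero_add] at this
          exact this
        have h1 : InZ Q B M w x' := (hX0mem x').mp (hAX hx'A).1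
        have h2 := hHA' y' hy'A' hwy'
        have h3 := InZ_add hQs hQp hw h1 h2
        rw [hx'y'] at h3
        have h4 := h3.2 1
        rwa [one_smul] at h4
      exact all_of_full hQs hQp hN A A' hAA' hsup h5' G M hG2 hHM hMO hwA' hw0 hw hfull

end Cfsg.Agent.Lib.Helper80_OrthNdFive
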