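import Mathlib
import Cfsg.Prelude.Def_GeometricClasses
import Cfsg.Agent.Lib.Helper94_OrthReflBridge
import Cfsg.Agent.Lib.Helper80_OrthNdFive

set_option autoImplicit false

/-!
Prelude-level statement: in `Ω(Q) = [O(Q), O(Q)]`, `Q` a non-degenerate quadratic form on `ι → F`
over a finite field, of dimension at least SEVEN, the stabiliser of a proper nonzero
non-degenerate subspace `W` with `2 dim W ≠ n`, such that the larger of `W` and `W^⊥` has dimension
at least five, is maximal, unless the field has at most three elements and `W` or its orthogonal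
complement is a hyperbolic plane.  Same proof as `Helper94_OrthReflBridge.nondeg_maximal`
(dimension at least thirteen), with `Helper80_OrthNdFive.maximal_stab_five` in place of
`maximal_stab_any` (helper80).
-/

namespace Cfsg.Agent.Lib.Helper80_OrthNdFiveBridge

open Matrix Module Cfsg.Agent.Lib.Helper94_Symp Cfsg.Agent.Lib.Helper94_Bridge
  Cfsg.Agent.Lib.Helper94_SLBridge
  Cfsg.Agent.Lib.Helper94_OrthSmall Cfsg.Agent.Lib.Helper94_OrthBridge
  Cfsg.Agent.Lib.Helper94_OrthSiegel Cfsg.Agent.Lib.Helper94_OrthSiegel2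
  Cfsg.Agent.Lib.Helper94_OrthGenBridge Cfsg.Agent.Lib.Helper94_OrthFinal
  Cfsg.Agent.Lib.Helper94_OrthNondeg Cfsg.Agent.Lib.Helper94_OrthRefl
  Cfsg.Agent.Lib.Helper14_Siegel Cfsg.Agent.Lib.Helper94_OrthReflBridge
  Cfsg.Agent.Lib.Helper80_OrthNdFive

variable {ι : Type} [Fintype ι] [DecidableEq ι] {F : Type*} [Field F] [Fintype F]

/-- Maximality of the stabiliser of a non-degenerate subspace in `Ω(Q)`, dimension at least seven,
the larger of `W`, `W^⊥` of dimension at least five. -/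
theorem nondeg_maximal7 (Q : (ι → F) → F) (hQ : Cfsg.Geo.IsNondegenerateQuadraticForm Q)
    (hc2 : (2 : F) = 0 →
      commutator ↥(Cfsg.isometryGroup F (⇑(qfOf Q hQ))) ≤ siegelGroup (qfOf Q hQ))
    (hn : 7 ≤ Fintype.card ι) (W : Submodule F (ι → F)) (hW0 : W ≠ ⊥) (hW1 : W ≠ ⊤)
    (hdim : 2 * finrank F W ≠ Fintype.card ι)
    (h5 : 5 ≤ finrank F W ∨ finrank F W + 5 ≤ Fintype.card ι)
    (hW : Cfsg.Geo.IsNondegenerateOn (QuadraticMap.polar Q) W)
    (hex : ¬ (Fintype.card F ≤ 3 ∧ (∃ U : Submodule F (ι → F), finrank F U = 2 ∧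
      Cfsg.Geo.IsNondegenerateOn (QuadraticMap.polar Q) U ∧ Cfsg.Geo.IsPlusTypeOn Q U ∧
      (U = W ∨ (Cfsg.Geo.AreOrthogonalFor (QuadraticMap.polar Q) U W ∧
        finrank F U + finrank F W = Fintype.card ι))))) :
    Cfsg.Geo.IsMaximalIn (Cfsg.Geo.omegaGL Q)
      (Cfsg.Geo.subspaceStabilizer W ⊓ Cfsg.Geo.omegaGL Q) := by
  classical
  have hfrV : finrank F (ι → F) = Fintype.card ι := Module.finrank_pi F
  have hQs := gen_hQs Q hQ
  have hQp := gen_hQp Q hQ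
  have hN := gen_hN Q hQ
  have hsymm := B_symm Q (polarForm Q hQ) hQp
  have hR : (polarForm Q hQ).IsRefl := B_isRefl Q (polarForm Q hQ) hQp
  have hWnd : ∀ a ∈ W, a ≠ 0 → ∃ x ∈ W, polarForm Q hQ x a ≠ 0 := fun a ha ha0 => by
    obtain ⟨x, hx, hxa⟩ := (hW a ha ha0).1
    exact ⟨x, hx, hxa⟩
  have hdisj : W ⊓ (polarForm Q hQ).orthogonal W = ⊥ := by
    rw [eq_bot_iff]
    intro x hx
    obtain ⟨hx1, hx2⟩ := Submodule.mem_inf.mp hx
    by_contra hx0
    obtain ⟨y, hy, hyx⟩ := hWnd x hx1 hx0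
    exact hyx ((mem_orth _).mp hx2 y hy)
  have hcompl : IsCompl W ((polarForm Q hQ).orthogonal W) :=
    (LinearMap.BilinForm.isCompl_orthogonal_iff_disjoint hR).mpr (disjoint_iff.mpr hdisj)
  have hsup : W ⊔ (polarForm Q hQ).orthogonal W = ⊤ := hcompl.sup_eq_top
  have hfr' : finrank F ((polarForm Q hQ).orthogonal W) = finrank F (ι → F) - finrank F W :=
    LinearMap.BilinForm.finrank_orthogonal hN W
  have hWW' : ∀ a ∈ W, ∀ a' ∈ (polarForm Q hQ).orthogonal W, polarForm Q hQ a a' = 0 :=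
    fun a ha a' ha' => (mem_orth _).mp ha' a ha
  have hW'W : ∀ a ∈ (polarForm Q hQ).orthogonal W, ∀ a' ∈ W, polarForm Q hQ a a' = 0 :=
    fun a ha a' ha' => by rw [hsymm]; exact hWW' a' ha' a ha
  have hsup' : (polarForm Q hQ).orthogonal W ⊔ W = ⊤ := by rw [sup_comm]; exact hsup
  have hW'nd := nondegOn_right hQp hN W _ hWW' hsup
  have hG1 : ⁅oG Q, oG Q⁆ ≤ oG Q := Subgroup.commutator_le_self _
  have hG2 : ∀ u z, Q u = 0 → polarForm Q hQ u z = 0 →
      sieg Q (polarForm Q hQ) u z ∈ ⁅oG Q, oG Q⁆ := fun u z hu huz =>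
    sieg_mem_commutator' Q _ hQs hQp hN (by rw [hfrV]; omega) hu huz
  have hG3 := gen_hG3 Q hQ hc2 (by omega)
  have hG4 : ∀ a c, Q a ≠ 0 → Q c = Q a → polarForm Q hQ a c = 0 →
      ∃ g ∈ ⁅oG Q, oG Q⁆, ∀ x, g x = x - ((Q a)⁻¹ * polarForm Q hQ x a) • a -
        ((Q a)⁻¹ * polarForm Q hQ x c) • c := fun a c ha hc hac =>
    refl_pair_mem hQs hQp hG2 ha hc hac
  have hpos : 0 < finrank F W := by
    rw [Nat.pos_iff_ne_zero]
    intro h
    exact hW0 (Submodule.finrank_eq_zero.mp h)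
  have hltn : finrank F W < Fintype.card ι := by
    rw [← hfrV]
    exact Submodule.finrank_lt hW1
  rw [subspaceStabilizer_eq, omegaGL_eq, ← Subgroup.comap_inf]
  apply isMaximalIn_comap
  rcases lt_or_gt_of_ne hdim with hlt | hgt
  · have hSG : stab W ⊓ ⁅oG Q, oG Q⁆ =
        stab ((polarForm Q hQ).orthogonal W) ⊓ ⁅oG Q, oG Q⁆ := by
      ext g
      constructor
      · rintro ⟨h1, h2⟩
        exact ⟨stab_orth hQp hN W _ hWW' hsup (hG1 h2) h1, h2⟩
      · rintro ⟨h1, h2⟩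
        exact ⟨stab_orth hQp hN _ W hW'W hsup' (hG1 h2) h1, h2⟩
    rw [hSG]
    apply maximal_stab_five hQs hQp hN _ hG1 hG2 hG3 hG4 W _ hWW' hsup hW0
      (by rw [hfr', hfrV]; omega) (by rw [hfr', hfrV]; omega)
    intro hE
    obtain ⟨h1, h2, h3, h4⟩ := exc_plus Q hQ W hWnd hE
    exact hex ⟨h1, W, h2, h3, h4, Or.inl rfl⟩
  · have hW'0 : (polarForm Q hQ).orthogonal W ≠ ⊥ := by
      intro h
      rw [h, finrank_bot, hfrV] at hfr'
      omega
    apply maximal_stab_five hQs hQp hN _ hG1 hG2 hG3 hG4 _ W hW'W hsup' hW'0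
      (by omega) (by rw [hfr', hfrV]; omega)
    intro hE
    obtain ⟨h1, h2, h3, h4⟩ := exc_plus Q hQ _ hW'nd hE
    exact hex ⟨h1, _, h2, h3, h4, Or.inr ⟨fun u hu v hv => hW'W u hu v hv,
      by rw [hfr', hfrV]; omega⟩⟩

end Cfsg.Agent.Lib.Helper80_OrthNdFiveBridge
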