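import Mathlib
import Cfsg.Prelude.Def_GeometricClasses
import Cfsg.Agent.S5675
import Cfsg.Agent.Lib.Helper80_OrthNdFiveBridge
import Cfsg.Agent.Lib.Helper32_ND4Bridge

/-!
# Conjunct (2) of the row omega7 S5813 (helper32)

Stabilisers of non-degenerate even-dimensional subspaces in `Ω₇(q)`, `q` odd: dimensions 2 and 6
from `Helper80_OrthNdFiveBridge.nondeg_maximal7`, dimension 4 (split `4|3`) from the market ND4
(`Helper32_ND4Bridge.nondeg_maximal_four`).
-/

set_option autoImplicit false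

namespace Cfsg.Agent.Lib.Helper32_Omega7Nondeg

open Cfsg Module

variable {F : Type*} [Field F] [Fintype F]

/-- Non-degenerate even-dimensional subspace stabilisers in `Ω₇(q)`, `q` odd. -/
theorem nondeg_max_omega7 (hodd : Odd (Fintype.card F))
    (W : Submodule F (Unit ⊕ (Fin 3 ⊕ Fin 3) → F)) (hW0 : W ≠ ⊥)
    (hev : Even (Module.finrank F W))
    (hW : Cfsg.Geo.IsNondegenerateOn (QuadraticMap.polar (Cfsg.quadFormOdd 3 F)) W)
    (hex : ¬ (Fintype.card F = 3 ∧ Module.finrank F W = 2 ∧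
      Cfsg.Geo.IsPlusTypeOn (Cfsg.quadFormOdd 3 F) W)) :
    Cfsg.Geo.IsMaximalIn (Cfsg.Geo.omegaGL (Cfsg.quadFormOdd 3 F))
      (Cfsg.Geo.subspaceStabilizer W ⊓ Cfsg.Geo.omegaGL (Cfsg.quadFormOdd 3 F)) := by
  classical
  have h2 : (2 : F) ≠ 0 := Cfsg.Agent.Lib.Helper44_FinSq.two_ne_zero_of_odd_card hodd
  have hQ := Cfsg.Agent.S5675.quadFormOdd_nondeg h2 3
  have hcard : Fintype.card (Unit ⊕ (Fin 3 ⊕ Fin 3)) = 7 := by
    simp [Fintype.card_sum]
  have hfrV : Module.finrank F (Unit ⊕ (Fin 3 ⊕ Fin 3) → F) = 7 := by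
    rw [Module.finrank_pi, hcard]
  obtain ⟨r, hr⟩ := hev
  have hle : Module.finrank F W ≤ 7 := by
    rw [← hfrV]
    exact Submodule.finrank_le W
  have hpos : 0 < Module.finrank F W := by
    rw [Nat.pos_iff_ne_zero]
    intro h
    exact hW0 (Submodule.finrank_eq_zero.mp h)
  have hex' : ¬ (Fintype.card F ≤ 3 ∧ (∃ U : Submodule F (Unit ⊕ (Fin 3 ⊕ Fin 3) → F),
      finrank F U = 2 ∧
      Cfsg.Geo.IsNondegenerateOn (QuadraticMap.polar (Cfsg.quadFormOdd 3 F)) U ∧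
      Cfsg.Geo.IsPlusTypeOn (Cfsg.quadFormOdd 3 F) U ∧
      (U = W ∨ (Cfsg.Geo.AreOrthogonalFor (QuadraticMap.polar (Cfsg.quadFormOdd 3 F)) U W ∧
        finrank F U + finrank F W = Fintype.card (Unit ⊕ (Fin 3 ⊕ Fin 3)))))) := by
    rintro ⟨hq3, U, hU2, hUnd, hUp, hUW | ⟨-, hsum⟩⟩
    · apply hex
      refine ⟨?_, by rw [← hUW]; exact hU2, by rw [← hUW]; exact hUp⟩
      have h1 : 1 < Fintype.card F := Fintype.one_lt_card
      obtain ⟨k, hk⟩ := hodd
      omega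
    · rw [hcard] at hsum
      omega
  by_cases h4 : Module.finrank F W = 4
  · exact Cfsg.Agent.Lib.Helper32_ND4Bridge.nondeg_maximal_four (Cfsg.quadFormOdd 3 F) hQ h2
      hcard W (Or.inr h4) hW hex'
  · apply Cfsg.Agent.Lib.Helper80_OrthNdFiveBridge.nondeg_maximal7 (Cfsg.quadFormOdd 3 F) hQ
      (fun h => absurd h h2) (by rw [hcard]) W hW0
    · intro h
      rw [h, finrank_top, hfrV] at hr
      omega
    · rw [hcard]
      omega
    · rw [hcard]
      omega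
    · exact hW
    · exact hex'

end Cfsg.Agent.Lib.Helper32_Omega7Nondeg
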