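import Mathlib
import Cfsg.Prelude.Def_GeometricClasses
import Cfsg.Agent.Lib.Helper94_OrthReflBridge

/-!
# Non-degenerate subspace stabilisers in `Ω_n(q)`, `n ≥ 11` (helper59)

`Helper94_OrthRefl.maximal_stab_any` and `Helper94_OrthReflBridge.nondeg_maximal` are stated for
`13 ≤ n`, but the two theorems they combine (`maximal_stab_small`: `a + 3 ≤ a'`, `7 ≤ a'`;
`maximal_stab_nondeg`: `5 ≤ a`, `5 ≤ a'`) cover every split `a < a'` of `n ≥ 11`.
-/

set_option autoImplicit false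

namespace Cfsg.Agent.Lib.Helper59_OrthNondeg11

section Any

open Cfsg.Agent.Lib.Helper94_OrthRefl Module Cfsg.Agent.Lib.Helper94_Symp Cfsg.Agent.Lib.Helper94_OrthSmall
  Cfsg.Agent.Lib.Helper94_OrthSiegel Cfsg.Agent.Lib.Helper94_OrthSiegel2
  Cfsg.Agent.Lib.Helper94_OrthPara Cfsg.Agent.Lib.Helper94_OrthVec
  Cfsg.Agent.Lib.Helper94_OrthNondeg

variable {F V : Type*} [Field F] [AddCommGroup V] [Module F V]
variable [Finite F] [FiniteDimensional F V] {Q : V → F} {B : LinearMap.BilinForm F V}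
  (hQs : ∀ (c : F) (v : V), Q (c • v) = c * c * Q v)
  (hQp : ∀ u v : V, Q (u + v) = Q u + Q v + B u v)

include hQs hQp in
/-- **Maximality of the stabiliser of a nondegenerate subspace** `A'` of dimension larger than that
of its (nonzero) orthogonal complement `A`, in dimension at least eleven. -/
theorem maximal_stab_any11 (hN : B.Nondegenerate) (G : Subgroup (V ≃ₗ[F] V)) (hG1 : G ≤ oG Q)
    (hG2 : ∀ u z, Q u = 0 → B u z = 0 → sieg Q B u z ∈ G)
    (hG3 : ∀ M : Subgroup (V ≃ₗ[F] V),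
      (∀ u z, Q u = 0 → B u z = 0 → sieg Q B u z ∈ M) → G ≤ M)
    (hG4 : ∀ a c, Q a ≠ 0 → Q c = Q a → B a c = 0 →
      ∃ g ∈ G, ∀ x, g x = x - ((Q a)⁻¹ * B x a) • a - ((Q a)⁻¹ * B x c) • c)
    (A A' : Submodule F V)
    (hAA' : ∀ a ∈ A, ∀ a' ∈ A', B a a' = 0) (hsup : A ⊔ A' = ⊤) (hA0 : A ≠ ⊥)
    (h11 : 11 ≤ finrank F V) (hlt : finrank F A < finrank F A')
    (hexc : ¬ Exc Q A) :
    (stab A' ⊓ G < G) ∧
      ∀ M : Subgroup (V ≃ₗ[F] V), stab A' ⊓ G ≤ M → M ≤ G → M = stab A' ⊓ G ∨ M = G := by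
  have hAnd := nondegOn_left hQp hN A A' hAA' hsup
  have hinf : A ⊓ A' = ⊥ := by
    rw [eq_bot_iff]
    rintro x ⟨hx, hx'⟩
    by_contra hx0
    obtain ⟨y, hy, hyx⟩ := hAnd x hx hx0
    exact hyx (hAA' y hy x hx')
  have hV : finrank F V = finrank F A + finrank F A' := by
    have := Submodule.finrank_sup_add_finrank_inf_eq A A'
    rw [hsup, hinf, finrank_bot, finrank_top] at this
    omega
  by_cases h3 : finrank F A + 3 ≤ finrank F A'
  · exact maximal_stab_small hQs hQp hN G hG1 hG2 hG3 hG4 A A' hAA' hsup hA0 (by omega) h3 hexc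
  · push Not at h3
    apply maximal_stab_nondeg hQs hQp hN G hG1 hG2 hG3 A A' hAA' hsup (by omega) (by omega)
    intro g _ hcon
    have hle : A'.map (g : V →ₗ[F] V) ≤ A := by
      rintro _ ⟨y, hy, rfl⟩
      exact hcon y hy
    have h4 := Submodule.finrank_mono hle
    rw [LinearEquiv.finrank_map_eq g A'] at h4
    omega

end Any

section Bridge

open Cfsg.Agent.Lib.Helper94_OrthReflBridge Matrix Module Cfsg.Agent.Lib.Helper94_Symp Cfsg.Agent.Lib.Helper94_Bridge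
  Cfsg.Agent.Lib.Helper94_SLBridge
  Cfsg.Agent.Lib.Helper94_OrthSmall Cfsg.Agent.Lib.Helper94_OrthBridge
  Cfsg.Agent.Lib.Helper94_OrthSiegel Cfsg.Agent.Lib.Helper94_OrthSiegel2
  Cfsg.Agent.Lib.Helper94_OrthGenBridge Cfsg.Agent.Lib.Helper94_OrthFinal
  Cfsg.Agent.Lib.Helper94_OrthNondeg Cfsg.Agent.Lib.Helper94_OrthRefl
  Cfsg.Agent.Lib.Helper14_Siegel


variable {ι : Type} [Fintype ι] [DecidableEq ι] {F : Type*} [Field F] [Fintype F]

/-- Maximality of the stabiliser of a non-degenerate subspace in `Ω(Q)`. -/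
theorem nondeg_maximal11 (Q : (ι → F) → F) (hQ : Cfsg.Geo.IsNondegenerateQuadraticForm Q)
    (hc2 : (2 : F) = 0 →
      commutator ↥(Cfsg.isometryGroup F (⇑(qfOf Q hQ))) ≤ siegelGroup (qfOf Q hQ))
    (hn : 11 ≤ Fintype.card ι) (W : Submodule F (ι → F)) (hW0 : W ≠ ⊥) (hW1 : W ≠ ⊤)
    (hdim : 2 * finrank F W ≠ Fintype.card ι)
    (hW : Cfsg.Geo.IsNondegenerateOn (QuadraticMap.polar Q) W)
    (hex : ¬ (Fintype.card F ≤ 3 ∧ (∃ U : Submodule F (ι → F), finrank F U = 2 ∧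
      Cfsg.Geo.IsNondegenerateOn (QuadraticMap.polar Q) U ∧ Cfsg.Geo.IsPlusTypeOn Q U ∧
      (U = W ∨ (Cfsg.Geo.AreOrthogonalFor (QuadraticMap.polar Q) U W ∧
        finrank F U + finrank F W = Fintype.card ι))))) :
    Cfsg.Geo.IsMaximalIn (Cfsg.Geo.omegaGL Q)
      (Cfsg.Geo.subspaceStabilizer W ⊓ Cfsg.Geo.omegaGL Q) := by
  classical
  have hfrV : finrank F (ι → F) = Fintype.card ι := Module.finrank_pi F
  have hQs := gen_hQs Q hQ
  have hQp := gen_hQp Q hQ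
  have hN := gen_hN Q hQ
  have hsymm := B_symm Q (polarForm Q hQ) hQp
  have hR : (polarForm Q hQ).IsRefl := B_isRefl Q (polarForm Q hQ) hQp
  have hWnd : ∀ a ∈ W, a ≠ 0 → ∃ x ∈ W, polarForm Q hQ x a ≠ 0 := fun a ha ha0 => by
    obtain ⟨x, hx, hxa⟩ := (hW a ha ha0).1
    exact ⟨x, hx, hxa⟩
  have hdisj : W ⊓ (polarForm Q hQ).orthogonal W = ⊥ := by
    rw [eq_bot_iff]
    intro x hx
    obtain ⟨hx1, hx2⟩ := Submodule.mem_inf.mp hx
    by_contra hx0
    obtain ⟨y, hy, hyx⟩ := hWnd x hx1 hx0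
    exact hyx ((mem_orth _).mp hx2 y hy)
  have hcompl : IsCompl W ((polarForm Q hQ).orthogonal W) :=
    (LinearMap.BilinForm.isCompl_orthogonal_iff_disjoint hR).mpr (disjoint_iff.mpr hdisj)
  have hsup : W ⊔ (polarForm Q hQ).orthogonal W = ⊤ := hcompl.sup_eq_top
  have hfr' : finrank F ((polarForm Q hQ).orthogonal W) = finrank F (ι → F) - finrank F W :=
    LinearMap.BilinForm.finrank_orthogonal hN W
  have hWW' : ∀ a ∈ W, ∀ a' ∈ (polarForm Q hQ).orthogonal W, polarForm Q hQ a a' = 0 :=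
    fun a ha a' ha' => (mem_orth _).mp ha' a ha
  have hW'W : ∀ a ∈ (polarForm Q hQ).orthogonal W, ∀ a' ∈ W, polarForm Q hQ a a' = 0 :=
    fun a ha a' ha' => by rw [hsymm]; exact hWW' a' ha' a ha
  have hsup' : (polarForm Q hQ).orthogonal W ⊔ W = ⊤ := by rw [sup_comm]; exact hsup
  have hW'nd := nondegOn_right hQp hN W _ hWW' hsup
  have hG1 : ⁅oG Q, oG Q⁆ ≤ oG Q := Subgroup.commutator_le_self _
  have hG2 : ∀ u z, Q u = 0 → polarForm Q hQ u z = 0 →
      sieg Q (polarForm Q hQ) u z ∈ ⁅oG Q, oG Q⁆ := fun u z hu huz =>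
    sieg_mem_commutator' Q _ hQs hQp hN (by rw [hfrV]; omega) hu huz
  have hG3 := gen_hG3 Q hQ hc2 (by omega)
  have hG4 : ∀ a c, Q a ≠ 0 → Q c = Q a → polarForm Q hQ a c = 0 →
      ∃ g ∈ ⁅oG Q, oG Q⁆, ∀ x, g x = x - ((Q a)⁻¹ * polarForm Q hQ x a) • a -
        ((Q a)⁻¹ * polarForm Q hQ x c) • c := fun a c ha hc hac =>
    refl_pair_mem hQs hQp hG2 ha hc hac
  have hpos : 0 < finrank F W := by
    rw [Nat.pos_iff_ne_zero]
    intro h
    exact hW0 (Submodule.finrank_eq_zero.mp h)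
  have hltn : finrank F W < Fintype.card ι := by
    rw [← hfrV]
    exact Submodule.finrank_lt hW1
  rw [subspaceStabilizer_eq, omegaGL_eq, ← Subgroup.comap_inf]
  apply isMaximalIn_comap
  rcases lt_or_gt_of_ne hdim with hlt | hgt
  · have hSG : stab W ⊓ ⁅oG Q, oG Q⁆ =
        stab ((polarForm Q hQ).orthogonal W) ⊓ ⁅oG Q, oG Q⁆ := by
      ext g
      constructor
      · rintro ⟨h1, h2⟩
        exact ⟨stab_orth hQp hN W _ hWW' hsup (hG1 h2) h1, h2⟩
      · rintro ⟨h1, h2⟩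
        exact ⟨stab_orth hQp hN _ W hW'W hsup' (hG1 h2) h1, h2⟩
    rw [hSG]
    apply maximal_stab_any11 hQs hQp hN _ hG1 hG2 hG3 hG4 W _ hWW' hsup hW0
      (by rw [hfrV]; exact hn) (by rw [hfr', hfrV]; omega)
    intro hE
    obtain ⟨h1, h2, h3, h4⟩ := exc_plus Q hQ W hWnd hE
    exact hex ⟨h1, W, h2, h3, h4, Or.inl rfl⟩
  · have hW'0 : (polarForm Q hQ).orthogonal W ≠ ⊥ := by
      intro h
      rw [h, finrank_bot, hfrV] at hfr'
      omega
    apply maximal_stab_any11 hQs hQp hN _ hG1 hG2 hG3 hG4 _ W hW'W hsup' hW'0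
      (by rw [hfrV]; exact hn) (by rw [hfr', hfrV]; omega)
    intro hE
    obtain ⟨h1, h2, h3, h4⟩ := exc_plus Q hQ _ hW'nd hE
    exact hex ⟨h1, _, h2, h3, h4, Or.inr ⟨fun u hu v hv => hW'W u hu v hv,
      by rw [hfr', hfrV]; omega⟩⟩


end Bridge

end Cfsg.Agent.Lib.Helper59_OrthNondeg11
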