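import Mathlib
import Cfsg.Agent.Lib.Helper94_OrthUni

set_option autoImplicit false

/-!
A general position lemma for quadratic spaces over finite fields: a singular vector orthogonal to
a small subspace `W` and not orthogonal to a given vector outside `W`.
-/

namespace Cfsg.Agent.Lib.Helper94_QuadGen

open Module Cfsg.Agent.Lib.Helper94_Symp Cfsg.Agent.Lib.Helper94_OrthSmall
  Cfsg.Agent.Lib.Helper94_OrthSiegel2 Cfsg.Agent.Lib.Helper94_OrthPara
  Cfsg.Agent.Lib.Helper94_OrthNondeg Cfsg.Agent.Lib.Helper94_OrthUni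

variable {F V : Type*} [Field F] [AddCommGroup V] [Module F V]
variable [Finite F] [FiniteDimensional F V] (Q : V → F) (B : LinearMap.BilinForm F V)
  (hQs : ∀ (c : F) (v : V), Q (c • v) = c * c * Q v)
  (hQp : ∀ u v : V, Q (u + v) = Q u + Q v + B u v)

include hQs hQp in
lemma sno_gen (hN : B.Nondegenerate) (W : Submodule F V)
    (hW : 2 * finrank F W + 3 ≤ finrank F V) {b : V} (hb : b ∉ W) :
    ∃ z, Q z = 0 ∧ (∀ w ∈ W, B z w = 0) ∧ B z b ≠ 0 := by
  have hsymm := B_symm Q B hQp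
  obtain ⟨Y, hY⟩ : ∃ Y, Y = B.orthogonal W := ⟨_, rfl⟩
  have hYmem : ∀ y, y ∈ Y ↔ ∀ w ∈ W, B y w = 0 := by
    intro y
    rw [hY, mem_orth]
    constructor
    · intro h w hw
      rw [hsymm]; exact h w hw
    · intro h w hw
      rw [hsymm]; exact h w hw
  have hfY : finrank F Y = finrank F V - finrank F W := by
    rw [hY]; exact LinearMap.BilinForm.finrank_orthogonal hN W
  obtain ⟨q, hq⟩ := Submodule.exists_isCompl (W ⊓ Y)
  have h1 := Submodule.finrank_sup_add_finrank_inf_eq q Y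
  have h2 : finrank F (W ⊓ Y : Submodule F V) + finrank F q = finrank F V :=
    Submodule.finrank_add_eq_of_isCompl hq
  have h3 : finrank F (W ⊓ Y : Submodule F V) ≤ finrank F W := Submodule.finrank_mono inf_le_left
  have h4 : finrank F (q ⊔ Y : Submodule F V) ≤ finrank F V := Submodule.finrank_le _
  have h5 : finrank F W ≤ finrank F V := Submodule.finrank_le _
  obtain ⟨s, hs, hs0, hQs'⟩ := exists_singular_in Q B hQs hQp (q ⊓ Y) (by omega)
  have hsY : s ∈ Y := hs.2
  have hsW : s ∉ W := by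
    intro h
    apply hs0
    have h6 : s ∈ (W ⊓ Y) ⊓ q := ⟨⟨h, hsY⟩, hs.1⟩
    rw [hq.inf_eq_bot] at h6
    exact (Submodule.mem_bot F).mp h6
  obtain ⟨p, hpW, hpb⟩ := exists_perp_ne Q B hQp hN W hb
  obtain ⟨y₁, hy₁W, hy₁s⟩ := exists_perp_ne Q B hQp hN W hsW
  by_cases hsb : B s b = 0
  · obtain ⟨x, hxY, hx1, hx2⟩ := exists_both_ne_zero B Y ⟨y₁, (hYmem _).mpr hy₁W, hy₁s⟩
      ⟨p, (hYmem _).mpr hpW, hpb⟩
    refine ⟨x + (-(Q x / B x s)) • s, sing_adjust Q B hQs hQp hQs' hx1, ?_, ?_⟩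
    · intro w hw
      rw [map_add, map_smul, LinearMap.add_apply, LinearMap.smul_apply, (hYmem x).mp hxY w hw,
        (hYmem s).mp hsY w hw]
      simp
    · rw [map_add, LinearMap.add_apply, map_smul, LinearMap.smul_apply, hsb, smul_zero, add_zero]
      exact hx2
  · exact ⟨s, hQs', (hYmem s).mp hsY, hsb⟩

end Cfsg.Agent.Lib.Helper94_QuadGen
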