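import Mathlib
import Cfsg.Agent.Lib.Helper94_OrthUni
import Cfsg.Agent.Lib.Helper94_QuadGen

set_option autoImplicit false

/-!
Rational structures of a quadratic space over a subfield `F₀` (odd characteristic): an additive
subgroup `V₀` of `V`, stable under `F₀`, spanning `V` over `F`, on which the quadratic form takes
values in `F₀`.  This file sets up the quadratic space over `F₀`, the self-duality of `V₀` and the
general position lemmas for rational singular vectors.
-/

namespace Cfsg.Agent.Lib.Helper94_QSub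

open Module Cfsg.Agent.Lib.Helper94_Symp Cfsg.Agent.Lib.Helper94_OrthSmall
  Cfsg.Agent.Lib.Helper94_OrthSiegel Cfsg.Agent.Lib.Helper94_OrthSiegel2
  Cfsg.Agent.Lib.Helper94_OrthPara Cfsg.Agent.Lib.Helper94_OrthNondeg
  Cfsg.Agent.Lib.Helper94_OrthUni

variable {F V : Type*} [Field F] [AddCommGroup V] [Module F V]
variable {Q : V → F} {B : LinearMap.BilinForm F V} {F₀ : Subfield F} {V₀ : AddSubgroup V}

/-- A rational structure of a quadratic space over the subfield `F₀`. -/
structure QStr (Q : V → F) (B : LinearMap.BilinForm F V) (F₀ : Subfield F)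
    (V₀ : AddSubgroup V) : Prop where
  smul_mem : ∀ (c : F) (v : V), c ∈ F₀ → v ∈ V₀ → c • v ∈ V₀
  val : ∀ v ∈ V₀, Q v ∈ F₀
  span : ∀ x : V, x ∈ Submodule.span F (V₀ : Set V)
  hQs : ∀ (c : F) (v : V), Q (c • v) = c * c * Q v
  hQp : ∀ u v : V, Q (u + v) = Q u + Q v + B u v

namespace QStr

variable (R : QStr Q B F₀ V₀)

include R in
lemma bval {u v : V} (hu : u ∈ V₀) (hv : v ∈ V₀) : B u v ∈ F₀ := by
  rw [B_eq Q B R.hQp]
  exact F₀.sub_mem (F₀.sub_mem (R.val _ (V₀.add_mem hu hv)) (R.val _ hu)) (R.val _ hv)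

include R in
lemma symm (u v : V) : B u v = B v u := B_symm Q B R.hQp u v

/-- The rational vectors as a vector space over `F₀`. -/
def ratSub : Submodule F₀ V where
  carrier := V₀
  add_mem' := V₀.add_mem
  zero_mem' := V₀.zero_mem
  smul_mem' := fun c v hv => R.smul_mem (c : F) v c.2 hv

lemma mem_ratSub {v : V} : v ∈ R.ratSub ↔ v ∈ V₀ := Iff.rfl

/-- The quadratic form on the rational vectors. -/
def q0 (w : R.ratSub) : F₀ := ⟨Q (w : V), R.val _ w.2⟩

/-- The symmetric bilinear form on the rational vectors. -/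
def b0 : LinearMap.BilinForm F₀ R.ratSub :=
  LinearMap.mk₂ F₀ (fun u v => (⟨B (u : V) (v : V), R.bval u.2 v.2⟩ : F₀))
    (by intro u u' v; apply Subtype.ext; simp)
    (by
      intro c u v
      apply Subtype.ext
      show B ((c : F) • (u : V)) (v : V) = (c : F) * B (u : V) (v : V)
      rw [map_smul, LinearMap.smul_apply, smul_eq_mul])
    (by intro u v v'; apply Subtype.ext; simp)
    (by
      intro c u v
      apply Subtype.ext
      show B (u : V) ((c : F) • (v : V)) = (c : F) * B (u : V) (v : V)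
      rw [map_smul, smul_eq_mul])

lemma b0_apply (u v : R.ratSub) : ((R.b0 u v : F₀) : F) = B (u : V) (v : V) := rfl

lemma q0_apply (w : R.ratSub) : ((R.q0 w : F₀) : F) = Q (w : V) := rfl

lemma q0_smul (c : F₀) (w : R.ratSub) : R.q0 (c • w) = c * c * R.q0 w := by
  apply Subtype.ext
  rw [q0_apply]
  simp only [Submodule.coe_smul, MulMemClass.coe_mul, q0_apply]
  rw [show (c • (w : V)) = (c : F) • (w : V) from rfl, R.hQs]

lemma q0_add (u v : R.ratSub) : R.q0 (u + v) = R.q0 u + R.q0 v + R.b0 u v := by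
  apply Subtype.ext
  simp only [q0_apply, Submodule.coe_add, AddMemClass.coe_add, b0_apply]
  exact R.hQp _ _

include R in
lemma eq_zero_of_perp (hN : B.Nondegenerate) {x : V} (h : ∀ v ∈ V₀, B x v = 0) : x = 0 := by
  apply hN.1 x
  intro y
  have hy := R.span y
  induction hy using Submodule.span_induction with
  | mem v hv => exact h v hv
  | zero => simp
  | add a b _ _ ha hb => rw [map_add, ha, hb, add_zero]
  | smul c a _ ha => rw [map_smul, ha, smul_zero]

lemma b0_nondeg (hN : B.Nondegenerate) : (R.b0).Nondegenerate := by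
  have key : ∀ w : R.ratSub, (∀ v : R.ratSub, B (w : V) (v : V) = 0) → w = 0 := by
    intro w hw
    apply Subtype.ext
    exact R.eq_zero_of_perp hN (fun v hv => hw ⟨v, hv⟩)
  constructor
  · intro w hw
    apply key w
    intro v
    have := congrArg Subtype.val (hw v)
    exact this
  · intro w hw
    apply key w
    intro v
    have := congrArg Subtype.val (hw v)
    rw [b0_apply] at this
    rw [R.symm]
    exact this

variable [Finite F] [FiniteDimensional F V]

lemma finrank_le : finrank F V ≤ finrank F₀ R.ratSub := by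
  haveI : Finite V := Module.finite_of_finite F
  let b := Module.finBasis F₀ R.ratSub
  have hspan : Submodule.span F (Set.range (fun i => ((b i : R.ratSub) : V))) = ⊤ := by
    rw [eq_top_iff]
    intro x _
    have hmem : ∀ y : R.ratSub, (y : V) ∈ Submodule.span F
        (Set.range (fun i => ((b i : R.ratSub) : V))) := by
      intro y
      have h1 := b.sum_repr y
      have h2 : (y : V) = ∑ i, ((b.repr y i : F₀) : F) • ((b i : R.ratSub) : V) := by
        conv_lhs => rw [← h1]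
        rw [Submodule.coe_sum]
        rfl
      rw [h2]
      apply Submodule.sum_mem
      intro i _
      exact Submodule.smul_mem _ _ (Submodule.subset_span ⟨i, rfl⟩)
    have hle : Submodule.span F (V₀ : Set V) ≤
        Submodule.span F (Set.range (fun i => ((b i : R.ratSub) : V))) := by
      rw [Submodule.span_le]
      intro v hv
      exact hmem ⟨v, hv⟩
    exact hle (R.span x)
  have h1 := finrank_range_le_card (R := F) (fun i => ((b i : R.ratSub) : V))
  rw [Set.finrank, hspan, finrank_top, Fintype.card_fin] at h1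
  exact h1

include R in
/-- Self-duality of the rational structure. -/
lemma dual (hN : B.Nondegenerate) {x : V} (h : ∀ v ∈ V₀, B x v ∈ F₀) : x ∈ V₀ := by
  haveI : Finite V := Module.finite_of_finite F
  let φ : Module.Dual F₀ R.ratSub :=
    { toFun := fun v => ⟨B x (v : V), h _ v.2⟩
      map_add' := by intro u v; apply Subtype.ext; simp
      map_smul' := by
        intro c v
        apply Subtype.ext
        show B x ((c : F) • (v : V)) = (c : F) * B x (v : V)
        rw [map_smul, smul_eq_mul] }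
  obtain ⟨v₀, hv₀⟩ : ∃ v₀ : R.ratSub, ∀ v : R.ratSub, R.b0 v₀ v = φ v := by
    refine ⟨(LinearMap.BilinForm.toDual R.b0 (R.b0_nondeg hN)).symm φ, fun v => ?_⟩
    exact LinearMap.BilinForm.apply_toDual_symm_apply φ v
  have h0 : x - (v₀ : V) = 0 := by
    apply R.eq_zero_of_perp hN
    intro v hv
    have := congrArg Subtype.val (hv₀ ⟨v, hv⟩)
    rw [b0_apply] at this
    rw [map_sub, LinearMap.sub_apply, this]
    exact sub_self _
  rw [sub_eq_zero.mp h0]
  exact v₀.2

include R in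
/-- A nonzero rational singular vector orthogonal to a given list of rational vectors. -/
lemma rat_sing_perp (l : List V)
    (hl : ∀ x ∈ l, x ∈ V₀) (hlen : l.length + 3 ≤ finrank F V) :
    ∃ w ∈ V₀, w ≠ 0 ∧ Q w = 0 ∧ ∀ p ∈ l, B w p = 0 := by
  have : Finite V := Module.finite_of_finite F
  have hfr := R.finrank_le
  have hl' : ∀ x ∈ l, x ∈ R.ratSub := hl
  obtain ⟨w, -, hw0, hQw, hlw⟩ := exists_sing_perp R.q0 R.b0
    R.q0_smul R.q0_add
    (l.pmap (fun x (hx : x ∈ R.ratSub) => (⟨x, hx⟩ : R.ratSub)) hl') ⊤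
    (by rw [List.length_pmap, finrank_top]; omega)
  refine ⟨w.1, w.2, fun h => hw0 (Subtype.ext h), congrArg Subtype.val hQw, ?_⟩
  intro p hp
  have h3 := hlw ⟨p, hl' p hp⟩ (List.mem_pmap.mpr ⟨p, hp, rfl⟩)
  exact congrArg Subtype.val h3

include R in
/-- A rational singular vector orthogonal to `u` and not to `z`. -/
lemma rat_sno (hN : B.Nondegenerate)
    (h5 : 5 ≤ finrank F V) {u z : V} (hu : u ∈ V₀) (hz : z ∈ V₀)
    (h : ∀ t : F, t ∈ F₀ → z ≠ t • u) :
    ∃ s ∈ V₀, Q s = 0 ∧ B s u = 0 ∧ B s z ≠ 0 := by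
  have : Finite V := Module.finite_of_finite F
  have hfr := R.finrank_le
  have hW : finrank F₀ (Submodule.span F₀ ({(⟨u, hu⟩ : R.ratSub)} : Set R.ratSub)) ≤ 1 :=
    (finrank_span_le_card ({(⟨u, hu⟩ : R.ratSub)} : Set R.ratSub)).trans (by simp)
  have hb : (⟨z, hz⟩ : R.ratSub) ∉
      Submodule.span F₀ ({(⟨u, hu⟩ : R.ratSub)} : Set R.ratSub) := by
    intro hmem
    obtain ⟨t, ht⟩ := Submodule.mem_span_singleton.mp hmem
    apply h (t : F) t.2
    have h3 := congrArg Subtype.val ht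
    exact h3.symm
  obtain ⟨s, hQs, hsW, hsb⟩ := Cfsg.Agent.Lib.Helper94_QuadGen.sno_gen R.q0 R.b0 R.q0_smul
    R.q0_add (R.b0_nondeg hN) _ (by omega) hb
  refine ⟨s.1, s.2, congrArg Subtype.val hQs, ?_, ?_⟩
  · have h3 := hsW ⟨u, hu⟩ (Submodule.mem_span_singleton_self _)
    exact congrArg Subtype.val h3
  · intro h0
    apply hsb
    apply Subtype.ext
    exact h0

include R in
lemma rat_sno0 (hN : B.Nondegenerate)
    (h5 : 5 ≤ finrank F V) {z : V} (hz : z ∈ V₀) (hz0 : z ≠ 0) :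
    ∃ s ∈ V₀, Q s = 0 ∧ B s z ≠ 0 := by
  obtain ⟨s, hs, hss, -, hsz⟩ := R.rat_sno hN h5 V₀.zero_mem hz
    (fun t _ h => hz0 (by rw [h, smul_zero]))
  exact ⟨s, hs, hss, hsz⟩

include R in
/-- A rational vector orthogonal to a rational singular vector `u` is the sum of two rational
singular vectors orthogonal to `u`. -/
lemma rat_two_sing (hN : B.Nondegenerate)
    (h5 : 5 ≤ finrank F V) {u z : V} (hu : u ∈ V₀) (hz : z ∈ V₀) (huu : Q u = 0)
    (hzu : B z u = 0) :
    ∃ s₁ ∈ V₀, ∃ s₂ ∈ V₀, Q s₁ = 0 ∧ Q s₂ = 0 ∧ B s₁ u = 0 ∧ B s₂ u = 0 ∧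
      z = s₁ + s₂ := by
  by_cases hz' : ∃ t : F, t ∈ F₀ ∧ z = t • u
  · obtain ⟨t, -, rfl⟩ := hz'
    refine ⟨t • u, hz, 0, V₀.zero_mem, ?_, Q_zero Q R.hQs, hzu, by simp, by simp⟩
    rw [R.hQs, huu, mul_zero]
  · push Not at hz'
    obtain ⟨s, hs, hss, hsu, hsz⟩ := R.rat_sno hN h5 hu hz hz'
    have hzs : B z s = B s z := R.symm _ _
    obtain ⟨t, ht⟩ : ∃ t : F, t = Q z / B s z := ⟨_, rfl⟩
    have htm : t ∈ F₀ := by
      rw [ht]
      exact F₀.div_mem (R.val _ hz) (R.bval hs hz)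
    refine ⟨z - t • s, V₀.sub_mem hz (R.smul_mem _ _ htm hs), t • s, R.smul_mem _ _ htm hs,
      ?_, ?_, ?_, ?_, by abel⟩
    · have e : z - t • s = z + (-t) • s := by module
      rw [e, Q_add_smul Q B R.hQs R.hQp, hss, hzs, ht]
      field_simp
      ring
    · rw [R.hQs, hss, mul_zero]
    · rw [map_sub, LinearMap.sub_apply, hzu, map_smul, LinearMap.smul_apply, hsu, smul_zero,
        sub_zero]
    · rw [map_smul, LinearMap.smul_apply, hsu, smul_zero]

include R in
/-- A rational hyperbolic pair orthogonal to a given list of rational vectors. -/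
lemma rat_hyp (hN : B.Nondegenerate) (l : List V)
    (hl : ∀ x ∈ l, x ∈ V₀) (hlen : 2 * l.length + 3 ≤ finrank F V) :
    ∃ x ∈ V₀, ∃ x' ∈ V₀, Q x = 0 ∧ Q x' = 0 ∧ B x x' = 1 ∧ (∀ p ∈ l, B x p = 0) ∧
      (∀ p ∈ l, B x' p = 0) := by
  classical
  have : Finite V := Module.finite_of_finite F
  have hfr := R.finrank_le
  have hl' : ∀ x ∈ l, x ∈ R.ratSub := hl
  obtain ⟨l', hl'def⟩ : ∃ l' : List R.ratSub,
      l' = l.pmap (fun x (hx : x ∈ R.ratSub) => (⟨x, hx⟩ : R.ratSub)) hl' := ⟨_, rfl⟩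
  have hlen' : l'.length = l.length := by rw [hl'def, List.length_pmap]
  have hmem' : ∀ p (hp : p ∈ l), (⟨p, hl' p hp⟩ : R.ratSub) ∈ l' := by
    intro p hp
    rw [hl'def]
    exact List.mem_pmap.mpr ⟨p, hp, rfl⟩
  obtain ⟨W, hWdef⟩ : ∃ W : Submodule F₀ R.ratSub,
      W = Submodule.span F₀ ((l'.toFinset : Finset R.ratSub) : Set R.ratSub) := ⟨_, rfl⟩
  have hWfr : finrank F₀ W ≤ l.length := by
    rw [hWdef]
    refine (finrank_span_finset_le_card _).trans ?_
    rw [← hlen']
    exact List.toFinset_card_le l'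
  have hWmem : ∀ p ∈ l', p ∈ W := by
    intro p hp
    rw [hWdef]
    apply Submodule.subset_span
    simpa using hp
  obtain ⟨q, hq⟩ := Submodule.exists_isCompl W
  have hadd : finrank F₀ W + finrank F₀ q = finrank F₀ R.ratSub :=
    Submodule.finrank_add_eq_of_isCompl hq
  obtain ⟨x, hxq, hx0, hQx, hxl⟩ := exists_sing_perp R.q0 R.b0 R.q0_smul R.q0_add l' q
    (by omega)
  have hxW : x ∉ W := by
    intro h
    apply hx0
    have h6 : x ∈ W ⊓ q := ⟨h, hxq⟩
    rw [hq.inf_eq_bot] at h6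
    exact (Submodule.mem_bot F₀).mp h6
  obtain ⟨x', hQx', hx'W, hx'x⟩ := Cfsg.Agent.Lib.Helper94_QuadGen.sno_gen R.q0 R.b0
    R.q0_smul R.q0_add (R.b0_nondeg hN) W (by omega) hxW
  have hne : B (x' : V) (x : V) ≠ 0 := by
    intro h0
    apply hx'x
    apply Subtype.ext
    exact h0
  have hcm : (B (x' : V) (x : V))⁻¹ ∈ F₀ := F₀.inv_mem (R.bval x'.2 x.2)
  refine ⟨x.1, x.2, (B (x' : V) (x : V))⁻¹ • (x' : V), R.smul_mem _ _ hcm x'.2,
    congrArg Subtype.val hQx, ?_, ?_, ?_, ?_⟩
  · rw [R.hQs]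
    have := congrArg Subtype.val hQx'
    rw [q0_apply] at this
    rw [this]
    simp
  · rw [map_smul, smul_eq_mul, R.symm (x : V) (x' : V), inv_mul_cancel₀ hne]
  · intro p hp
    have h3 := hxl ⟨p, hl' p hp⟩ (hmem' p hp)
    exact congrArg Subtype.val h3
  · intro p hp
    have h3 := hx'W ⟨p, hl' p hp⟩ (hWmem _ (hmem' p hp))
    have h4 : B (x' : V) p = 0 := congrArg Subtype.val h3
    rw [map_smul, LinearMap.smul_apply, h4, smul_zero]

include R in
/-- A rational vector not orthogonal to a given nonzero vector. -/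
lemma exists_rat_ne (hN : B.Nondegenerate) {x : V} (hx : x ≠ 0) : ∃ v ∈ V₀, B x v ≠ 0 := by
  by_contra hcon
  push Not at hcon
  exact hx (R.eq_zero_of_perp hN hcon)

include R in
/-- A rational singular vector not orthogonal to a given nonzero vector. -/
lemma exists_rat_sing_ne (hN : B.Nondegenerate) (h5 : 5 ≤ finrank F V) {x : V} (hx : x ≠ 0) :
    ∃ v ∈ V₀, Q v = 0 ∧ B x v ≠ 0 := by
  obtain ⟨v, hv, hxv⟩ := R.exists_rat_ne hN hx
  obtain ⟨s₁, hs₁, s₂, hs₂, hQ₁, hQ₂, -, -, hsum⟩ := R.rat_two_sing hN h5 V₀.zero_mem hv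
    (Q_zero Q R.hQs) (by simp)
  by_cases h1 : B x s₁ = 0
  · refine ⟨s₂, hs₂, hQ₂, ?_⟩
    intro h2
    apply hxv
    rw [hsum, map_add, h1, h2, add_zero]
  · exact ⟨s₁, hs₁, hQ₁, h1⟩

include R in
/-- A rational dual vector of a nonzero rational vector. -/
lemma exists_dual (hN : B.Nondegenerate) {t : V} (ht : t ∈ V₀) (ht0 : t ≠ 0) :
    ∃ t' ∈ V₀, B t t' = 1 := by
  obtain ⟨v, hv, htv⟩ := R.exists_rat_ne hN ht0
  refine ⟨(B t v)⁻¹ • v, R.smul_mem _ _ (F₀.inv_mem (R.bval ht hv)) hv, ?_⟩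
  rw [map_smul, smul_eq_mul, inv_mul_cancel₀ htv]

include R in
/-- The scalar of a rational multiple of a nonzero rational vector is rational. -/
lemma mem_of_smul (hN : B.Nondegenerate) {c : F} {v : V} (hv : v ∈ V₀) (hv0 : v ≠ 0)
    (h : c • v ∈ V₀) : c ∈ F₀ := by
  obtain ⟨v', hv', hvv'⟩ := R.exists_dual hN hv hv0
  have h1 := R.bval h hv'
  rw [map_smul, LinearMap.smul_apply, hvv', smul_eq_mul, mul_one] at h1
  exact h1

include R in
/-- A vector whose products with the rational vectors orthogonal to a nonzero rational vector `t`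
are rational lies in `V₀ + F t`. -/
lemma dual_perp (hN : B.Nondegenerate) {t : V} (ht : t ∈ V₀) (ht0 : t ≠ 0) {x : V}
    (h : ∀ v ∈ V₀, B v t = 0 → B x v ∈ F₀) : ∃ κ : F, x - κ • t ∈ V₀ := by
  obtain ⟨t', ht', htt'⟩ := R.exists_dual hN ht ht0
  refine ⟨B x t', ?_⟩
  apply R.dual hN
  intro v hv
  have hvm : v - B v t • t' ∈ V₀ := V₀.sub_mem hv (R.smul_mem _ _ (R.bval hv ht) ht')
  have h1 := h _ hvm (by
    rw [map_sub, LinearMap.sub_apply, map_smul, LinearMap.smul_apply, R.symm t' t, htt',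
      smul_eq_mul, mul_one, sub_self])
  have e : B (x - B x t' • t) v = B x (v - B v t • t') := by
    simp only [map_sub, map_smul, LinearMap.sub_apply, LinearMap.smul_apply, smul_eq_mul]
    rw [R.symm t v]
    ring
  rw [e]
  exact h1

end QStr

end Cfsg.Agent.Lib.Helper94_QSub
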