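import Mathlib
import Cfsg.Agent.Lib.Helper94_QSub

set_option autoImplicit false

/-!
Overgroups of the stabiliser of a rational structure of a quadratic space: the set of parameters
`c` with `sieg u (c z)` in the overgroup (for a rational totally singular pair `u`, `z`) does not
depend on the pair and is a subalgebra over the subfield.
-/

namespace Cfsg.Agent.Lib.Helper94_QSub

open Module Cfsg.Agent.Lib.Helper94_Symp Cfsg.Agent.Lib.Helper94_OrthSmall
  Cfsg.Agent.Lib.Helper94_OrthSiegel Cfsg.Agent.Lib.Helper94_OrthSiegel2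
  Cfsg.Agent.Lib.Helper94_OrthPara Cfsg.Agent.Lib.Helper94_OrthNondeg
  Cfsg.Agent.Lib.Helper94_OrthUni

variable {F V : Type*} [Field F] [AddCommGroup V] [Module F V]
variable {Q : V → F} {B : LinearMap.BilinForm F V} {F₀ : Subfield F} {V₀ : AddSubgroup V}

/-- A rational totally singular pair of independent vectors. -/
structure RPair (Q : V → F) (B : LinearMap.BilinForm F V) (F₀ : Subfield F)
    (V₀ : AddSubgroup V) (u z : V) : Prop where
  hu : u ∈ V₀
  hz : z ∈ V₀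
  Qu : Q u = 0
  Qz : Q z = 0
  Buz : B u z = 0
  u0 : u ≠ 0
  ind : ∀ t : F, t ∈ F₀ → z ≠ t • u

namespace QStr

variable (R : QStr Q B F₀ V₀)

include R in
/-- The rational Siegel elements stabilise the rational structure. -/
lemma rat_sieg_maps {u z : V} (hu : u ∈ V₀) (hz : z ∈ V₀) (hQu : Q u = 0) (huz : B u z = 0)
    {x : V} (hx : x ∈ V₀) : sieg Q B u z x ∈ V₀ := by
  rw [sieg_apply Q B R.hQs R.hQp hQu huz]
  exact V₀.sub_mem (V₀.sub_mem (V₀.add_mem hx (R.smul_mem _ _ (R.bval hx hu) hz))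
    (R.smul_mem _ _ (R.bval hx hz) hu))
    (R.smul_mem _ _ (F₀.mul_mem (R.val _ hz) (R.bval hx hu)) hu)

variable (S M G : Subgroup (V ≃ₗ[F] V))
  (hS : ∀ g, g ∈ S ↔ ∃ μ : F, μ ≠ 0 ∧ ∀ v ∈ V₀, ∃ w ∈ V₀, g v = μ • w)
  (hG2 : ∀ u z, Q u = 0 → B u z = 0 → sieg Q B u z ∈ G)
  (hHM : S ⊓ G ≤ M) (hMO : M ≤ oG Q)

include R hS hG2 hHM in
lemma rat_sieg_mem {u z : V} (hu : u ∈ V₀) (hz : z ∈ V₀) (hQu : Q u = 0) (huz : B u z = 0) :
    sieg Q B u z ∈ M := by
  apply hHM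
  refine ⟨(hS _).mpr ⟨1, one_ne_zero, fun v hv => ⟨_, R.rat_sieg_maps hu hz hQu huz hv, ?_⟩⟩,
    hG2 u z hQu huz⟩
  rw [one_smul]

include R in
lemma par_symm {u z : V} (hQu : Q u = 0) (hQz : Q z = 0) (huz : B u z = 0) {c : F}
    (h : sieg Q B u (c • z) ∈ M) : sieg Q B z (c • u) ∈ M := by
  have hzu : B z u = 0 := by rw [R.symm, huz]
  have h1 : B u (c • z) = 0 := by rw [map_smul, huz, smul_zero]
  have h2 : B z (c • u) = 0 := by rw [map_smul, hzu, smul_zero]
  have e : sieg Q B z (c • u) = (sieg Q B u (c • z))⁻¹ := by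
    rw [sieg_inv Q B R.hQs R.hQp hQu h1, ← neg_smul]
    ext x
    rw [sieg_apply Q B R.hQs R.hQp hQz h2,
      sieg_apply Q B R.hQs R.hQp hQu (by rw [map_smul, huz, smul_zero])]
    simp only [map_smul, smul_eq_mul, R.hQs, hQu, hQz, mul_zero, zero_mul, zero_smul,
      sub_zero]
    module
  rw [e]
  exact M.inv_mem h

include R hMO in
/-- The basic commutator relation between the parameters of two rational root subgroups. -/
lemma par_move {u z w w' : V} (hQu : Q u = 0) (hQz : Q z = 0) (hQw : Q w = 0)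
    (hQw' : Q w' = 0) (huz : B u z = 0) (huw : B u w = 0) (huw' : B u w' = 0)
    (hzw : B z w = 0) (hzw' : B z w' = 0) (hww' : B w w' = 1) {a b : F}
    (h1 : sieg Q B u (a • w') ∈ M) (h2 : sieg Q B w (b • z) ∈ M) :
    sieg Q B u ((-(a * b)) • z) ∈ M := by
  have hsymm := R.symm
  have hwz : B w z = 0 := by rw [hsymm, hzw]
  have hw'z : B w' z = 0 := by rw [hsymm, hzw']
  have hwu : B w u = 0 := by rw [hsymm, huw]
  have hzu : B z u = 0 := by rw [hsymm, huz]
  have hw'u : B w' u = 0 := by rw [hsymm, huw']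
  have hw'w : B w' w = 1 := by rw [hsymm, hww']
  have huu : B u u = 0 := by rw [B_self Q B R.hQs R.hQp, hQu, mul_zero]
  have hzz : B z z = 0 := by rw [B_self Q B R.hQs R.hQp, hQz, mul_zero]
  have hu1 : B u (a • w') = 0 := by rw [map_smul, huw', smul_zero]
  have hw1 : B w (b • z) = 0 := by rw [map_smul, hwz, smul_zero]
  have hE1 : sieg Q B u (a • w') ∈ oG Q := hMO h1
  have hconj := conj_sieg Q B R.hQs R.hQp hE1 hQw hw1
  have e1 : sieg Q B u (a • w') w = w - a • u := by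
    rw [sieg_apply Q B R.hQs R.hQp hQu hu1]
    simp only [map_smul, smul_eq_mul, hwu, hww', R.hQs, hQw', mul_zero, zero_mul, zero_smul,
      mul_one, sub_zero, add_zero]
  have e2 : sieg Q B u (a • w') (b • z) = b • z := by
    rw [sieg_apply Q B R.hQs R.hQp hQu hu1]
    simp only [map_smul, LinearMap.smul_apply, smul_eq_mul, hzu, hzw', mul_zero, zero_smul,
      sub_zero, add_zero]
  rw [e1, e2] at hconj
  have hQwu : Q (w - a • u) = 0 := by
    have e : w - a • u = w + (-a) • u := by module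
    rw [e, Q_add_smul Q B R.hQs R.hQp, hQw, hQu, hwu]
    ring
  have hwuz : B (w - a • u) (b • z) = 0 := by
    simp only [map_sub, map_smul, LinearMap.sub_apply, LinearMap.smul_apply, smul_eq_mul, hwz,
      huz, mul_zero, sub_zero]
  have hu3 : B u ((-(a * b)) • z) = 0 := by rw [map_smul, huz, smul_zero]
  have e3 : sieg Q B (w - a • u) (b • z) =
      sieg Q B w (b • z) * sieg Q B u ((-(a * b)) • z) := by
    ext x
    rw [LinearEquiv.mul_apply, sieg_apply Q B R.hQs R.hQp hQwu hwuz,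
      sieg_apply Q B R.hQs R.hQp hQw hw1, sieg_apply Q B R.hQs R.hQp hQu hu3]
    simp only [map_sub, map_add, map_smul, map_neg, LinearMap.sub_apply, LinearMap.add_apply,
      LinearMap.smul_apply, LinearMap.neg_apply, smul_eq_mul, R.hQs, hQz, hwz, hzw, hzu, huz,
      huw, hwu, hzz, mul_zero, zero_mul, zero_smul, sub_zero, add_zero, neg_zero]
    module
  have h3 : sieg Q B u (a • w') * sieg Q B w (b • z) * (sieg Q B u (a • w'))⁻¹ ∈ M :=
    M.mul_mem (M.mul_mem h1 h2) (M.inv_mem h1)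
  rw [hconj, e3] at h3
  have h4 := M.mul_mem (M.inv_mem h2) h3
  rwa [inv_mul_cancel_left] at h4

include R hS hG2 hHM hMO in
/-- Moving the second vector of a rational totally singular pair. -/
lemma par_move1 {p q q' w : V} (hp : p ∈ V₀) (hq : q ∈ V₀) (hw : w ∈ V₀) (hQp : Q p = 0)
    (hQq : Q q = 0) (hQq' : Q q' = 0) (hQw : Q w = 0) (hpq : B p q = 0) (hpq' : B p q' = 0)
    (hqq' : B q q' = 0) (hwp : B w p = 0) (hwq : B w q = 0) (hwq' : B w q' = 1) {a : F}
    (h : sieg Q B p (a • q') ∈ M) : sieg Q B p (a • q) ∈ M := by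
  have h2 : sieg Q B w ((1 : F) • q) ∈ M := by
    rw [one_smul]
    exact R.rat_sieg_mem S M G hS hG2 hHM hw hq hQw hwq
  have h3 := R.par_move M hMO hQp hQq hQw hQq' hpq (by rw [R.symm, hwp]) hpq'
    (by rw [R.symm, hwq]) hqq' hwq' h h2
  rw [mul_one] at h3
  have h4 := M.inv_mem h3
  rw [sieg_inv Q B R.hQs R.hQp hQp (by rw [map_smul, hpq, smul_zero]), neg_smul, neg_neg] at h4
  exact h4

variable [Finite F] [FiniteDimensional F V]

include R hS hG2 hHM hMO in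
/-- The parameter set does not depend on the rational totally singular pair. -/
theorem par_transfer (hN : B.Nondegenerate) (h13 : 13 ≤ finrank F V) {u z u₀ z₀ : V}
    (P : RPair Q B F₀ V₀ u z) (P₀ : RPair Q B F₀ V₀ u₀ z₀) {a : F}
    (h : sieg Q B u (a • z) ∈ M) : sieg Q B u₀ (a • z₀) ∈ M := by
  have hsymm := R.symm
  -- a partner of `z` orthogonal to `u`
  obtain ⟨s₁, hs₁, hQs₁, hs₁u, hs₁z⟩ := R.rat_sno hN (by omega) P.hu P.hz P.ind
  obtain ⟨w₁, hw₁def⟩ : ∃ w₁ : V, w₁ = (B s₁ z)⁻¹ • s₁ := ⟨_, rfl⟩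
  have hw₁ : w₁ ∈ V₀ := by
    rw [hw₁def]; exact R.smul_mem _ _ (F₀.inv_mem (R.bval hs₁ P.hz)) hs₁
  have hQw₁ : Q w₁ = 0 := by rw [hw₁def, R.hQs, hQs₁, mul_zero]
  have hw₁u : B w₁ u = 0 := by
    rw [hw₁def, map_smul, LinearMap.smul_apply, hs₁u, smul_zero]
  have hw₁z : B w₁ z = 1 := by
    rw [hw₁def, map_smul, LinearMap.smul_apply, smul_eq_mul, inv_mul_cancel₀ hs₁z]
  -- a hyperbolic pair orthogonal to everything so far
  obtain ⟨x, hx, w₄, hw₄, hQx, hQw₄, hxw₄, hxl, hw₄l⟩ := R.rat_hyp hN [u, z, u₀, z₀, w₁]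
    (by
      intro y hy
      simp only [List.mem_cons, List.not_mem_nil, or_false] at hy
      rcases hy with rfl | rfl | rfl | rfl | rfl
      · exact P.hu
      · exact P.hz
      · exact P₀.hu
      · exact P₀.hz
      · exact hw₁)
    (by simp only [List.length_cons, List.length_nil]; omega)
  have hxu : B x u = 0 := hxl u (by simp)
  have hxz : B x z = 0 := hxl z (by simp)
  have hxu₀ : B x u₀ = 0 := hxl u₀ (by simp)
  have hxz₀ : B x z₀ = 0 := hxl z₀ (by simp)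
  have hxw₁ : B x w₁ = 0 := hxl w₁ (by simp)
  have hw₄u : B w₄ u = 0 := hw₄l u (by simp)
  have hw₄u₀ : B w₄ u₀ = 0 := hw₄l u₀ (by simp)
  have hw₄z₀ : B w₄ z₀ = 0 := hw₄l z₀ (by simp)
  -- a partner of `u` orthogonal to `x`
  have hind : ∀ t : F, t ∈ F₀ → u ≠ t • x := by
    intro t _ hut
    have h1 : B w₄ u = t := by
      rw [hut, map_smul, smul_eq_mul, hsymm w₄ x, hxw₄, mul_one]
    rw [hw₄u] at h1
    apply P.u0
    rw [hut, ← h1, zero_smul]
  obtain ⟨s₂, hs₂, hQs₂, hs₂x, hs₂u⟩ := R.rat_sno hN (by omega) hx P.hu hind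
  obtain ⟨w₂, hw₂def⟩ : ∃ w₂ : V, w₂ = (B s₂ u)⁻¹ • s₂ := ⟨_, rfl⟩
  have hw₂ : w₂ ∈ V₀ := by
    rw [hw₂def]; exact R.smul_mem _ _ (F₀.inv_mem (R.bval hs₂ P.hu)) hs₂
  have hQw₂ : Q w₂ = 0 := by rw [hw₂def, R.hQs, hQs₂, mul_zero]
  have hw₂x : B w₂ x = 0 := by
    rw [hw₂def, map_smul, LinearMap.smul_apply, hs₂x, smul_zero]
  have hw₂u : B w₂ u = 1 := by
    rw [hw₂def, map_smul, LinearMap.smul_apply, smul_eq_mul, inv_mul_cancel₀ hs₂u]
  -- a second hyperbolic pair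
  obtain ⟨y, hy, w₃, hw₃, hQy, hQw₃, hyw₃, hyl, hw₃l⟩ := R.rat_hyp hN [x, u, u₀, w₂]
    (by
      intro y hy
      simp only [List.mem_cons, List.not_mem_nil, or_false] at hy
      rcases hy with rfl | rfl | rfl | rfl
      · exact hx
      · exact P.hu
      · exact P₀.hu
      · exact hw₂)
    (by simp only [List.length_cons, List.length_nil]; omega)
  have hyx : B y x = 0 := hyl x (by simp)
  have hyu : B y u = 0 := hyl u (by simp)
  have hyu₀ : B y u₀ = 0 := hyl u₀ (by simp)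
  have hyw₂ : B y w₂ = 0 := hyl w₂ (by simp)
  have hw₃x : B w₃ x = 0 := hw₃l x (by simp)
  have hw₃u₀ : B w₃ u₀ = 0 := hw₃l u₀ (by simp)
  -- step 1: `(u, z) → (u, x)`
  have s1 : sieg Q B u (a • x) ∈ M :=
    R.par_move1 S M G hS hG2 hHM hMO P.hu hx hw₁ P.Qu hQx P.Qz hQw₁ (by rw [hsymm, hxu]) P.Buz
      hxz hw₁u (by rw [hsymm, hxw₁]) hw₁z h
  -- step 2: `(u, x) → (x, u)`
  have s2 : sieg Q B x (a • u) ∈ M := R.par_symm M P.Qu hQx (by rw [hsymm, hxu]) s1
  -- step 3: `(x, u) → (x, y)`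
  have s3 : sieg Q B x (a • y) ∈ M :=
    R.par_move1 S M G hS hG2 hHM hMO hx hy hw₂ hQx hQy P.Qu hQw₂ (by rw [hsymm, hyx]) hxu
      hyu hw₂x (by rw [hsymm, hyw₂]) hw₂u s2
  -- step 4: `(x, y) → (x, u₀)`
  have s4 : sieg Q B x (a • u₀) ∈ M :=
    R.par_move1 S M G hS hG2 hHM hMO hx P₀.hu hw₃ hQx P₀.Qu hQy hQw₃ hxu₀ (by rw [hsymm, hyx])
      (by rw [hsymm, hyu₀]) hw₃x hw₃u₀ (by rw [hsymm, hyw₃]) s3
  -- step 5: `(x, u₀) → (u₀, x)`
  have s5 : sieg Q B u₀ (a • x) ∈ M := R.par_symm M hQx P₀.Qu hxu₀ s4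
  -- step 6: `(u₀, x) → (u₀, z₀)`
  exact R.par_move1 S M G hS hG2 hHM hMO P₀.hu P₀.hz hw₄ P₀.Qu P₀.Qz hQx hQw₄ P₀.Buz
    (by rw [hsymm, hxu₀]) (by rw [hsymm, hxz₀]) hw₄u₀ hw₄z₀ (by rw [hsymm, hxw₄]) s5

include R in
/-- Existence of a rational totally singular pair. -/
lemma exists_rpair (hN : B.Nondegenerate) (h13 : 13 ≤ finrank F V) :
    ∃ u z : V, RPair Q B F₀ V₀ u z := by
  obtain ⟨x, hx, x', hx', hQx, hQx', hxx', -, -⟩ := R.rat_hyp hN [] (by simp)
    (by simp only [List.length_nil]; omega)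
  obtain ⟨y, hy, y', hy', hQy, hQy', hyy', hyl, hy'l⟩ := R.rat_hyp hN [x, x']
    (by
      intro v hv
      simp only [List.mem_cons, List.not_mem_nil, or_false] at hv
      rcases hv with rfl | rfl
      · exact hx
      · exact hx')
    (by simp only [List.length_cons, List.length_nil]; omega)
  have hyx : B y x = 0 := hyl x (by simp)
  have hy'x : B y' x = 0 := hy'l x (by simp)
  refine ⟨x, y, hx, hy, hQx, hQy, by rw [R.symm, hyx], ?_, ?_⟩
  · intro h0
    rw [h0, map_zero, LinearMap.zero_apply] at hxx'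
    exact zero_ne_one hxx'
  · intro t _ hyt
    have h1 : B y y' = 0 := by
      rw [hyt, map_smul, LinearMap.smul_apply, R.symm x y', hy'x, smul_zero]
    rw [hyy'] at h1
    exact one_ne_zero h1

include R hS hG2 hHM hMO in
/-- **The parameter field dichotomy.** -/
theorem par_dichotomy (hN : B.Nondegenerate) (h13 : 13 ≤ finrank F V)
    (hsimple : ∀ K : Subalgebra F₀ F, K = ⊥ ∨ K = ⊤) :
    (∀ u z : V, RPair Q B F₀ V₀ u z → ∀ c : F, sieg Q B u (c • z) ∈ M → c ∈ F₀) ∨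
    (∀ u z : V, RPair Q B F₀ V₀ u z → ∀ c : F, sieg Q B u (c • z) ∈ M) := by
  have hsymm := R.symm
  obtain ⟨u₀, z₀, P₀⟩ := R.exists_rpair hN h13
  have hu0z0 : ∀ c : F, B u₀ (c • z₀) = 0 := fun c => by rw [map_smul, P₀.Buz, smul_zero]
  -- auxiliary hyperbolic pair
  obtain ⟨w, hw, w', hw', hQw, hQw', hww', hwl, hw'l⟩ := R.rat_hyp hN [u₀, z₀]
    (by
      intro v hv
      simp only [List.mem_cons, List.not_mem_nil, or_false] at hv
      rcases hv with rfl | rfl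
      · exact P₀.hu
      · exact P₀.hz)
    (by simp only [List.length_cons, List.length_nil]; omega)
  have hwu₀ : B w u₀ = 0 := hwl u₀ (by simp)
  have hwz₀ : B w z₀ = 0 := hwl z₀ (by simp)
  have hw'u₀ : B w' u₀ = 0 := hw'l u₀ (by simp)
  have hw'z₀ : B w' z₀ = 0 := hw'l z₀ (by simp)
  have hw0 : w ≠ 0 := by
    intro h0
    rw [h0, map_zero, LinearMap.zero_apply] at hww'
    exact zero_ne_one hww'
  have hw'0 : w' ≠ 0 := by
    intro h0
    rw [h0, map_zero] at hww'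
    exact zero_ne_one hww'
  have P₁ : RPair Q B F₀ V₀ u₀ w' := by
    refine ⟨P₀.hu, hw', P₀.Qu, hQw', by rw [hsymm, hw'u₀], P₀.u0, ?_⟩
    intro t _ h
    have h1 : B w w' = 0 := by rw [h, map_smul, hwu₀, smul_zero]
    rw [hww'] at h1
    exact one_ne_zero h1
  have P₂ : RPair Q B F₀ V₀ w z₀ := by
    refine ⟨hw, P₀.hz, hQw, P₀.Qz, hwz₀, hw0, ?_⟩
    intro t _ h
    have h1 : B u₀ z₀ = 0 := P₀.Buz
    have h2 : B w' z₀ = t := by
      rw [h, map_smul, smul_eq_mul, hsymm w' w, hww', mul_one]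
    rw [hw'z₀] at h2
    apply P₀.ind 0 F₀.zero_mem
    rw [h, ← h2, zero_smul, zero_smul]
  let A : Subalgebra F₀ F :=
    { carrier := {c | sieg Q B u₀ (c • z₀) ∈ M}
      mul_mem' := by
        intro a b ha hb
        have h1 : sieg Q B u₀ (a • w') ∈ M :=
          R.par_transfer S M G hS hG2 hHM hMO hN h13 P₀ P₁ ha
        have h2 : sieg Q B w (b • z₀) ∈ M :=
          R.par_transfer S M G hS hG2 hHM hMO hN h13 P₀ P₂ hb
        have h3 := R.par_move M hMO P₀.Qu P₀.Qz hQw hQw' P₀.Buz (by rw [hsymm, hwu₀])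
          (by rw [hsymm, hw'u₀]) (by rw [hsymm, hwz₀]) (by rw [hsymm, hw'z₀]) hww' h1 h2
        have h4 := M.inv_mem h3
        rw [sieg_inv Q B R.hQs R.hQp P₀.Qu (hu0z0 _), neg_smul, neg_neg] at h4
        exact h4
      one_mem' := by
        show sieg Q B u₀ ((1 : F) • z₀) ∈ M
        rw [one_smul]
        exact R.rat_sieg_mem S M G hS hG2 hHM P₀.hu P₀.hz P₀.Qu P₀.Buz
      add_mem' := by
        intro a b ha hb
        show sieg Q B u₀ ((a + b) • z₀) ∈ M
        rw [add_smul, ← sieg_mul Q B R.hQs R.hQp P₀.Qu (hu0z0 a) (hu0z0 b)]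
        exact M.mul_mem ha hb
      zero_mem' := by
        show sieg Q B u₀ ((0 : F) • z₀) ∈ M
        rw [zero_smul, sieg_zero_right Q B R.hQs R.hQp P₀.Qu]
        exact M.one_mem
      algebraMap_mem' := by
        intro c
        show sieg Q B u₀ ((c : F) • z₀) ∈ M
        exact R.rat_sieg_mem S M G hS hG2 hHM P₀.hu (R.smul_mem _ _ c.2 P₀.hz) P₀.Qu
          (hu0z0 _) }
  rcases hsimple A with hA | hA
  · left
    intro u z P c hc
    have h1 : c ∈ A := R.par_transfer S M G hS hG2 hHM hMO hN h13 P P₀ hc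
    rw [hA] at h1
    obtain ⟨c₀, rfl⟩ := Algebra.mem_bot.mp h1
    exact c₀.2
  · right
    intro u z P c
    have h1 : c ∈ A := by rw [hA]; exact Algebra.mem_top
    exact R.par_transfer S M G hS hG2 hHM hMO hN h13 P₀ P h1

end QStr

end Cfsg.Agent.Lib.Helper94_QSub
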