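import Mathlib
import Cfsg.Agent.Lib.Helper94_QSub2

set_option autoImplicit false

/-!
Overgroups of the stabiliser of a rational structure of a quadratic space: if all the parameters
occur for the rational totally singular pairs, then the overgroup contains all Siegel elements.
-/

namespace Cfsg.Agent.Lib.Helper94_QSub

open Module Cfsg.Agent.Lib.Helper94_Symp Cfsg.Agent.Lib.Helper94_OrthSmall
  Cfsg.Agent.Lib.Helper94_OrthSiegel Cfsg.Agent.Lib.Helper94_OrthSiegel2
  Cfsg.Agent.Lib.Helper94_OrthPara Cfsg.Agent.Lib.Helper94_OrthNondeg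
  Cfsg.Agent.Lib.Helper94_OrthUni

variable {F V : Type*} [Field F] [AddCommGroup V] [Module F V]
variable {Q : V → F} {B : LinearMap.BilinForm F V} {F₀ : Subfield F} {V₀ : AddSubgroup V}

namespace QStr

variable (R : QStr Q B F₀ V₀)

variable (M : Subgroup (V ≃ₗ[F] V)) (hMO : M ≤ oG Q)
  (hall : ∀ u z : V, RPair Q B F₀ V₀ u z → ∀ c : F, sieg Q B u (c • z) ∈ M)

variable [Finite F] [FiniteDimensional F V]

include R hall in
/-- All Siegel elements with rational singular first vector. -/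
lemma rat_full (hN : B.Nondegenerate) (h13 : 13 ≤ finrank F V) {u : V} (hu : u ∈ V₀)
    (hQu : Q u = 0) {z : V} (huz : B u z = 0) : sieg Q B u z ∈ M := by
  have hsymm := R.symm
  by_cases hu0 : u = 0
  · rw [hu0, sieg_zero_left Q B R.hQs R.hQp]
    exact M.one_mem
  have huu : B u u = 0 := by rw [B_self Q B R.hQs R.hQp, hQu, mul_zero]
  let T : Submodule F V :=
    { carrier := {z | B u z = 0 ∧ ∀ c : F, sieg Q B u (c • z) ∈ M}
      add_mem' := by
        rintro a b ⟨ha, ha'⟩ ⟨hb, hb'⟩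
        refine ⟨by rw [map_add, ha, hb, add_zero], fun c => ?_⟩
        rw [smul_add, ← sieg_mul Q B R.hQs R.hQp hQu (by rw [map_smul, ha, smul_zero])
          (by rw [map_smul, hb, smul_zero])]
        exact M.mul_mem (ha' c) (hb' c)
      zero_mem' := by
        refine ⟨by simp, fun c => ?_⟩
        rw [smul_zero, sieg_zero_right Q B R.hQs R.hQp hQu]
        exact M.one_mem
      smul_mem' := by
        rintro d a ⟨ha, ha'⟩
        refine ⟨by rw [map_smul, ha, smul_zero], fun c => ?_⟩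
        rw [smul_smul]
        exact ha' _ }
  have hTmem : ∀ z, z ∈ T ↔ B u z = 0 ∧ ∀ c : F, sieg Q B u (c • z) ∈ M := fun z => Iff.rfl
  -- rational singular vectors orthogonal to `u`
  have h1 : ∀ s ∈ V₀, Q s = 0 → B s u = 0 → s ∈ T := by
    intro s hs hQs hsu
    have hus : B u s = 0 := by rw [hsymm, hsu]
    rw [hTmem]
    refine ⟨hus, fun c => ?_⟩
    by_cases hind : ∀ t : F, t ∈ F₀ → s ≠ t • u
    · exact hall u s ⟨hu, hs, hQu, hQs, hus, hu0, hind⟩ c
    · push Not at hind
      obtain ⟨t, -, rfl⟩ := hind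
      have e : c • t • u = 0 + (c * t) • u := by rw [zero_add, mul_smul]
      rw [e, sieg_add_smul Q B R.hQs R.hQp hQu (by simp), sieg_zero_right Q B R.hQs R.hQp hQu]
      exact M.one_mem
  -- rational vectors orthogonal to `u`
  have h2 : ∀ v ∈ V₀, B v u = 0 → v ∈ T := by
    intro v hv hvu
    obtain ⟨s₁, hs₁, s₂, hs₂, hQ₁, hQ₂, h₁u, h₂u, rfl⟩ :=
      R.rat_two_sing hN (by omega) hu hv hQu hvu
    exact T.add_mem (h1 s₁ hs₁ hQ₁ h₁u) (h1 s₂ hs₂ hQ₂ h₂u)
  obtain ⟨w, hw, huw⟩ := R.exists_dual hN hu hu0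
  have h3 : ∀ y : V, y - B y u • w ∈ T := by
    intro y
    have hy := R.span y
    induction hy using Submodule.span_induction with
    | mem v hv =>
      apply h2 _ (V₀.sub_mem hv (R.smul_mem _ _ (R.bval hv hu) hw))
      rw [map_sub, LinearMap.sub_apply, map_smul, LinearMap.smul_apply, hsymm w u, huw,
        smul_eq_mul, mul_one, sub_self]
    | zero => simp
    | add a b _ _ ha hb =>
      have e : a + b - B (a + b) u • w = (a - B a u • w) + (b - B b u • w) := by
        rw [map_add, LinearMap.add_apply]; module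
      rw [e]
      exact T.add_mem ha hb
    | smul c a _ ha =>
      have e : c • a - B (c • a) u • w = c • (a - B a u • w) := by
        rw [map_smul, LinearMap.smul_apply, smul_eq_mul]; module
      rw [e]
      exact T.smul_mem c ha
  have h4 := h3 z
  rw [hsymm z u, huz, zero_smul, sub_zero] at h4
  have h5 := ((hTmem z).mp h4).2 1
  rwa [one_smul] at h5

include R hMO hall in
/-- **All Siegel elements lie in the overgroup.** -/
theorem all_full (hN : B.Nondegenerate) (h13 : 13 ≤ finrank F V) {x z : V} (hQx : Q x = 0)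
    (hxz : B x z = 0) : sieg Q B x z ∈ M := by
  have hsymm := R.symm
  by_cases hx0 : x = 0
  · rw [hx0, sieg_zero_left Q B R.hQs R.hQp]
    exact M.one_mem
  obtain ⟨u, hu, hQu, hxu⟩ := R.exists_rat_sing_ne hN (by omega) hx0
  have hu0 : u ≠ 0 := by
    intro h0
    rw [h0, map_zero] at hxu
    exact hxu rfl
  obtain ⟨u', hu', hQu', hu'u⟩ := R.rat_sno0 hN (by omega) hu hu0
  have huu' : B u u' ≠ 0 := by rw [hsymm]; exact hu'u
  have hxx : B x x = 0 := by rw [B_self Q B R.hQs R.hQp, hQx, mul_zero]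
  obtain ⟨lam, hlam⟩ : ∃ lam : F, lam = B u x / B u u' := ⟨_, rfl⟩
  have hux : B u x ≠ 0 := by rw [hsymm]; exact hxu
  have hlam0 : lam ≠ 0 := by rw [hlam]; exact div_ne_zero hux huu'
  obtain ⟨x', hx'⟩ : ∃ x' : V, x' = lam • u' := ⟨_, rfl⟩
  have hQx' : Q x' = 0 := by rw [hx', R.hQs, hQu', mul_zero]
  have hux' : B u x' = B u x := by
    rw [hx', map_smul, smul_eq_mul, hlam]
    field_simp
  obtain ⟨z₀, hz₀⟩ : ∃ z₀ : V, z₀ = (B x u)⁻¹ • (x' - x) := ⟨_, rfl⟩
  have huz₀ : B u z₀ = 0 := by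
    rw [hz₀, map_smul, map_sub, hux', sub_self, smul_zero]
  have hE : sieg Q B u z₀ ∈ M := R.rat_full M hall hN h13 hu hQu huz₀
  have hQz₀ : Q z₀ = -(B x x') / (B x u * B x u) := by
    rw [hz₀, R.hQs]
    have e : x' - x = x' + (-1 : F) • x := by module
    rw [e, Q_add_smul Q B R.hQs R.hQp, hQx', hQx, hsymm x' x]
    field_simp
    ring
  have hEx : sieg Q B u z₀ x = x' := by
    rw [sieg_apply Q B R.hQs R.hQp hQu huz₀, hQz₀]
    have e1 : B x z₀ = B x x' / B x u := by
      rw [hz₀, map_smul, map_sub, hxx, sub_zero, smul_eq_mul]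
      field_simp
    rw [e1, hz₀]
    have e2 : -(B x x') / (B x u * B x u) * B x u = -(B x x' / B x u) := by
      field_simp
    rw [e2, smul_smul, mul_inv_cancel₀ hxu]
    module
  have hEO : sieg Q B u z₀ ∈ oG Q := hMO hE
  have hconj := conj_sieg Q B R.hQs R.hQp hEO hQx hxz
  rw [hEx, hx'] at hconj
  have hu'Ez : B u' (sieg Q B u z₀ z) = 0 := by
    have h1 : B (sieg Q B u z₀ x) (sieg Q B u z₀ z) = 0 := by
      rw [oG_B Q B R.hQp hEO, hxz]
    rw [hEx, hx', map_smul, LinearMap.smul_apply, smul_eq_mul] at h1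
    rcases mul_eq_zero.mp h1 with h | h
    · exact absurd h hlam0
    · exact h
  rw [sieg_smul_left Q B R.hQs R.hQp hQu' hu'Ez] at hconj
  have h2 : sieg Q B u' (lam • sieg Q B u z₀ z) ∈ M :=
    R.rat_full M hall hN h13 hu' hQu' (by rw [map_smul, hu'Ez, smul_zero])
  rw [← hconj] at h2
  have h3 := M.mul_mem (M.mul_mem (M.inv_mem hE) h2) hE
  have e : (sieg Q B u z₀)⁻¹ * (sieg Q B u z₀ * sieg Q B x z * (sieg Q B u z₀)⁻¹) *
      sieg Q B u z₀ = sieg Q B x z := by group
  rwa [e] at h3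

end QStr

end Cfsg.Agent.Lib.Helper94_QSub
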