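import Mathlib
import Cfsg.Agent.Lib.Helper94_QSub2

set_option autoImplicit false

/-!
An isometry `k` of a quadratic space with a rational structure such that all the `2 × 2` minors
`B (k u) t * B (k w) y - B (k u) y * B (k w) t` (for rational totally singular pairs `u, w` and
`t, y`) are rational maps the rational structure to a scalar multiple of itself.
-/

namespace Cfsg.Agent.Lib.Helper94_QSub

open Module Cfsg.Agent.Lib.Helper94_Symp Cfsg.Agent.Lib.Helper94_OrthSmall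
  Cfsg.Agent.Lib.Helper94_OrthSiegel Cfsg.Agent.Lib.Helper94_OrthSiegel2
  Cfsg.Agent.Lib.Helper94_OrthPara Cfsg.Agent.Lib.Helper94_OrthNondeg
  Cfsg.Agent.Lib.Helper94_OrthUni

variable {F V : Type*} [Field F] [AddCommGroup V] [Module F V]
variable {Q : V → F} {B : LinearMap.BilinForm F V} {F₀ : Subfield F} {V₀ : AddSubgroup V}

/-- The skew map attached to two vectors. -/
def nm (B : LinearMap.BilinForm F V) (a b x : V) : V := B x a • b - B x b • a

lemma nm_add (a b x y : V) : nm B a b (x + y) = nm B a b x + nm B a b y := by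
  unfold nm
  simp only [map_add, LinearMap.add_apply]
  module

lemma nm_zero (a b : V) : nm B a b 0 = 0 := by
  unfold nm
  simp

namespace QStr

variable (R : QStr Q B F₀ V₀)

include R in
lemma kappa_add {a b p p' : V} {κ κ' : F} (hp : p ∈ V₀) (hp' : p' ∈ V₀)
    (h : nm B a b p - κ • p ∈ V₀) (h' : nm B a b p' - κ' • p' ∈ V₀) (hpp' : B p p' ≠ 0) :
    κ + κ' ∈ F₀ := by
  have hsymm := R.symm
  have h1 := R.bval h hp'
  have h2 := R.bval h' hp
  have e : (κ + κ') * B p p' =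
      -(B (nm B a b p - κ • p) p' + B (nm B a b p' - κ' • p') p) := by
    unfold nm
    simp only [map_sub, map_smul, LinearMap.sub_apply, LinearMap.smul_apply, smul_eq_mul]
    rw [hsymm b p', hsymm a p', hsymm b p, hsymm a p, hsymm p' p]
    ring
  have e2 : κ + κ' = -(B (nm B a b p - κ • p) p' + B (nm B a b p' - κ' • p') p) / B p p' := by
    rw [← e, mul_div_assoc, div_self hpp', mul_one]
  rw [e2]
  exact F₀.div_mem (F₀.neg_mem (F₀.add_mem h1 h2)) (R.bval hp hp')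

variable [Finite F] [FiniteDimensional F V]

variable (k : V ≃ₗ[F] V) (hk : k ∈ oG Q)
  (hmin : ∀ u w t y : V, u ∈ V₀ → w ∈ V₀ → t ∈ V₀ → y ∈ V₀ → Q u = 0 → Q w = 0 → Q t = 0 →
    Q y = 0 → B u w = 0 → B t y = 0 → B (k u) t * B (k w) y - B (k u) y * B (k w) t ∈ F₀)

include R hmin in
/-- First step: the skew map of the image of a rational totally singular pair maps a rational
singular vector `t` into `V₀ + F t`. -/
lemma nm_kappa (hN : B.Nondegenerate) (h13 : 13 ≤ finrank F V) {u w : V} (hu : u ∈ V₀)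
    (hw : w ∈ V₀) (hQu : Q u = 0) (hQw : Q w = 0) (huw : B u w = 0) {t : V} (ht : t ∈ V₀)
    (hQt : Q t = 0) (ht0 : t ≠ 0) : ∃ κ : F, nm B (k u) (k w) t - κ • t ∈ V₀ := by
  have hsymm := R.symm
  apply R.dual_perp hN ht ht0
  intro v hv hvt
  obtain ⟨s₁, hs₁, s₂, hs₂, hQ₁, hQ₂, h₁t, h₂t, rfl⟩ :=
    R.rat_two_sing hN (by omega) ht hv hQt hvt
  have key : ∀ s ∈ V₀, Q s = 0 → B s t = 0 → B (nm B (k u) (k w) t) s ∈ F₀ := by
    intro s hs hQs hst
    have h1 := hmin u w t s hu hw ht hs hQu hQw hQt hQs huw (by rw [hsymm, hst])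
    have e : B (nm B (k u) (k w) t) s =
        B (k u) t * B (k w) s - B (k u) s * B (k w) t := by
      unfold nm
      simp only [map_sub, map_smul, LinearMap.sub_apply, LinearMap.smul_apply, smul_eq_mul]
      rw [hsymm t (k u), hsymm t (k w)]
      ring
    rw [e]
    exact h1
  rw [map_add]
  exact F₀.add_mem (key s₁ hs₁ hQ₁ h₁t) (key s₂ hs₂ hQ₂ h₂t)

include R hmin in
/-- Second step: the skew map of the image of a rational totally singular pair preserves the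
rational structure. -/
lemma nm_rat (hN : B.Nondegenerate) (h13 : 13 ≤ finrank F V) (h2 : (2 : F) ≠ 0) {u w : V}
    (hu : u ∈ V₀) (hw : w ∈ V₀) (hQu : Q u = 0) (hQw : Q w = 0) (huw : B u w = 0) {v : V}
    (hv : v ∈ V₀) : nm B (k u) (k w) v ∈ V₀ := by
  have hsymm := R.symm
  -- singular vectors first
  have key : ∀ t ∈ V₀, Q t = 0 → nm B (k u) (k w) t ∈ V₀ := by
    intro t ht hQt
    by_cases ht0 : t = 0
    · rw [ht0, nm_zero]; exact V₀.zero_mem
    obtain ⟨κt, hκt⟩ := R.nm_kappa k hmin hN h13 hu hw hQu hQw huw ht hQt ht0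
    obtain ⟨y, hy, hQy, hyt⟩ := R.rat_sno0 hN (by omega) ht ht0
    have hy0 : y ≠ 0 := by
      intro h0
      rw [h0, map_zero, LinearMap.zero_apply] at hyt
      exact hyt rfl
    have hty : B t y ≠ 0 := by rw [hsymm]; exact hyt
    obtain ⟨x₁, hx₁, x₂, hx₂, hQx₁, hQx₂, hx₁x₂, hx₁l, hx₂l⟩ := R.rat_hyp hN [t, y]
      (by
        intro v hv
        simp only [List.mem_cons, List.not_mem_nil, or_false] at hv
        rcases hv with rfl | rfl
        · exact ht
        · exact hy)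
      (by simp only [List.length_cons, List.length_nil]; omega)
    have hx₁t : B x₁ t = 0 := hx₁l t (by simp)
    have hx₁y : B x₁ y = 0 := hx₁l y (by simp)
    have hx₂t : B x₂ t = 0 := hx₂l t (by simp)
    have hx₂y : B x₂ y = 0 := hx₂l y (by simp)
    obtain ⟨α, hα⟩ : ∃ α : F, α = -(B t y)⁻¹ := ⟨_, rfl⟩
    have hαm : α ∈ F₀ := by
      rw [hα]; exact F₀.neg_mem (F₀.inv_mem (R.bval ht hy))
    obtain ⟨s, hs⟩ : ∃ s : V, s = t + α • y + (x₁ + x₂) := ⟨_, rfl⟩
    have hsm : s ∈ V₀ := by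
      rw [hs]
      exact V₀.add_mem (V₀.add_mem ht (R.smul_mem _ _ hαm hy)) (V₀.add_mem hx₁ hx₂)
    have hQs : Q s = 0 := by
      rw [hs, R.hQp, R.hQp x₁ x₂, hQx₁, hQx₂, hx₁x₂, Q_add_smul Q B R.hQs R.hQp, hQt, hQy]
      simp only [map_add, map_smul, LinearMap.add_apply, LinearMap.smul_apply, smul_eq_mul,
        hsymm t x₁, hsymm t x₂, hsymm y x₁, hsymm y x₂, hx₁t, hx₂t, hx₁y, hx₂y]
      rw [hα]
      field_simp
      ring
    have hst : B s t ≠ 0 := by
      have htt : B t t = 0 := by rw [B_self Q B R.hQs R.hQp, hQt, mul_zero]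
      have e : B s t = -1 := by
        rw [hs]
        simp only [map_add, map_smul, LinearMap.add_apply, LinearMap.smul_apply, smul_eq_mul,
          htt, hx₁t, hx₂t, hsymm y t, hα]
        field_simp
        ring
      rw [e]
      exact neg_ne_zero.mpr one_ne_zero
    have hsy : B s y ≠ 0 := by
      have hyy : B y y = 0 := by rw [B_self Q B R.hQs R.hQp, hQy, mul_zero]
      have e : B s y = B t y := by
        rw [hs]
        simp only [map_add, map_smul, LinearMap.add_apply, LinearMap.smul_apply, smul_eq_mul,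
          hyy, hx₁y, hx₂y]
        ring
      rw [e]
      exact hty
    have hs0 : s ≠ 0 := by
      intro h0
      rw [h0, map_zero, LinearMap.zero_apply] at hst
      exact hst rfl
    obtain ⟨κy, hκy⟩ := R.nm_kappa k hmin hN h13 hu hw hQu hQw huw hy hQy hy0
    obtain ⟨κs, hκs⟩ := R.nm_kappa k hmin hN h13 hu hw hQu hQw huw hsm hQs hs0
    have a1 := R.kappa_add ht hy hκt hκy hty
    have a2 := R.kappa_add ht hsm hκt hκs (by rw [hsymm]; exact hst)
    have a3 := R.kappa_add hy hsm hκy hκs (by rw [hsymm]; exact hsy)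
    have hκm : κt ∈ F₀ := by
      have e : κt = ((κt + κy) + (κt + κs) - (κy + κs)) / 2 := by
        field_simp
        ring
      rw [e]
      refine F₀.div_mem (F₀.sub_mem (F₀.add_mem a1 a2) a3) ?_
      exact F₀.add_mem F₀.one_mem F₀.one_mem |> fun h => by
        have e2 : (2 : F) = 1 + 1 := by norm_num
        rw [e2]; exact h
    have e : nm B (k u) (k w) t = (nm B (k u) (k w) t - κt • t) + κt • t := by abel
    rw [e]
    exact V₀.add_mem hκt (R.smul_mem _ _ hκm ht)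
  obtain ⟨s₁, hs₁, s₂, hs₂, hQ₁, hQ₂, -, -, rfl⟩ :=
    R.rat_two_sing hN (by omega) V₀.zero_mem hv (Q_zero Q R.hQs) (by simp)
  rw [nm_add]
  exact V₀.add_mem (key s₁ hs₁ hQ₁) (key s₂ hs₂ hQ₂)

include R hk hmin in
/-- Third step: the image of a rational singular vector is a rational point. -/
lemma pt_rat (hN : B.Nondegenerate) (h13 : 13 ≤ finrank F V) (h2 : (2 : F) ≠ 0) {u : V}
    (hu : u ∈ V₀) (hQu : Q u = 0) : ∃ μ : F, ∃ v ∈ V₀, k u = μ • v := by
  have hsymm := R.symm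
  by_cases hu0 : u = 0
  · exact ⟨1, 0, V₀.zero_mem, by rw [hu0, map_zero, smul_zero]⟩
  obtain ⟨w, hw, w', hw', hQw, hQw', hww', hwl, hw'l⟩ := R.rat_hyp hN [u]
    (by
      intro v hv
      simp only [List.mem_cons, List.not_mem_nil, or_false] at hv
      rw [hv]; exact hu)
    (by simp only [List.length_cons, List.length_nil]; omega)
  have hwu : B w u = 0 := hwl u (by simp)
  have hw'u : B w' u = 0 := hw'l u (by simp)
  have hku0 : k u ≠ 0 := fun h0 => hu0 (by simpa using h0)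
  obtain ⟨x, hx, hax⟩ := R.exists_rat_ne hN hku0
  have h1 : nm B (k u) (k w') x ∈ V₀ :=
    R.nm_rat k hmin hN h13 h2 hu hw' hQu hQw' (by rw [hsymm, hw'u]) hx
  have h3 : nm B (k u) (k w) (nm B (k u) (k w') x) ∈ V₀ :=
    R.nm_rat k hmin hN h13 h2 hu hw hQu hQw (by rw [hsymm, hwu]) h1
  have huu : B u u = 0 := by rw [B_self Q B R.hQs R.hQp, hQu, mul_zero]
  have e : nm B (k u) (k w) (nm B (k u) (k w') x) = (-(B x (k u))) • k u := by
    unfold nm
    simp only [map_sub, map_smul, LinearMap.sub_apply, LinearMap.smul_apply, smul_eq_mul,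
      oG_B Q B R.hQp hk, huu, hw'u, hwu, hsymm u w, hsymm u w', hsymm w' w, hww', mul_zero,
      mul_one, sub_zero, zero_smul, zero_sub]
    module
  rw [e] at h3
  have hxa : B x (k u) ≠ 0 := by rw [hsymm]; exact hax
  refine ⟨(-(B x (k u)))⁻¹, _, h3, ?_⟩
  rw [smul_smul, inv_mul_cancel₀ (neg_ne_zero.mpr hxa), one_smul]

include R hk hmin in
/-- Fourth step: compatibility of the scalars along a rational totally singular pair. -/
lemma scalar_compat (hN : B.Nondegenerate) (h13 : 13 ≤ finrank F V) (h2 : (2 : F) ≠ 0)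
    {u₁ u₂ : V} (P : RPair Q B F₀ V₀ u₁ u₂) {μ₁ : F} {v₁ : V} (hv₁ : v₁ ∈ V₀)
    (h1 : k u₁ = μ₁ • v₁) : ∃ v₂ ∈ V₀, k u₂ = μ₁ • v₂ := by
  have hsymm := R.symm
  have hu₂0 : u₂ ≠ 0 := by
    intro h0
    exact P.ind 0 F₀.zero_mem (by rw [h0, zero_smul])
  have hk1 : k u₁ ≠ 0 := fun h0 => P.u0 (by simpa using h0)
  have hk2 : k u₂ ≠ 0 := fun h0 => hu₂0 (by simpa using h0)
  have hμ₁ : μ₁ ≠ 0 := by
    intro h0
    rw [h0, zero_smul] at h1
    exact hk1 h1
  have hv₁0 : v₁ ≠ 0 := by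
    intro h0
    rw [h0, smul_zero] at h1
    exact hk1 h1
  obtain ⟨μ₂, v₂, hv₂, h2'⟩ := R.pt_rat k hk hmin hN h13 h2 P.hz P.Qz
  have hμ₂ : μ₂ ≠ 0 := by
    intro h0
    rw [h0, zero_smul] at h2'
    exact hk2 h2'
  have hv₂0 : v₂ ≠ 0 := by
    intro h0
    rw [h0, smul_zero] at h2'
    exact hk2 h2'
  have hQ12 : Q (u₁ + u₂) = 0 := by rw [R.hQp, P.Qu, P.Qz, P.Buz]; ring
  obtain ⟨μ₃, v₃, hv₃, h3⟩ := R.pt_rat k hk hmin hN h13 h2 (V₀.add_mem P.hu P.hz) hQ12
  rw [map_add, h1, h2'] at h3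
  -- `v₁` is not a rational multiple of `v₂`
  have hind : ∀ t : F, t ∈ F₀ → v₁ ≠ t • v₂ := by
    intro t ht hv
    have e : k u₁ = k ((μ₁ * t / μ₂) • u₂) := by
      rw [map_smul, h1, h2', hv, smul_smul, smul_smul]
      congr 1
      field_simp
    have e' : u₁ = (μ₁ * t / μ₂) • u₂ := k.injective e
    have hcm : μ₁ * t / μ₂ ∈ F₀ := R.mem_of_smul hN P.hz hu₂0 (by rw [← e']; exact P.hu)
    have hc0 : μ₁ * t / μ₂ ≠ 0 := by
      intro h0
      rw [h0, zero_smul] at e'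
      exact P.u0 e'
    apply P.ind (μ₁ * t / μ₂)⁻¹ (F₀.inv_mem hcm)
    rw [e', smul_smul, inv_mul_cancel₀ hc0, one_smul]
  have hind' : ∀ t : F, t ∈ F₀ → v₂ ≠ t • v₁ := by
    intro t ht hv
    have ht0 : t ≠ 0 := by
      intro h0
      rw [h0, zero_smul] at hv
      exact hv₂0 hv
    apply hind t⁻¹ (F₀.inv_mem ht)
    rw [hv, smul_smul, inv_mul_cancel₀ ht0, one_smul]
  obtain ⟨y₁, hy₁, -, hy₁v₂, hy₁v₁⟩ := R.rat_sno hN (by omega) hv₂ hv₁ hind
  obtain ⟨y₂, hy₂, -, hy₂v₁, hy₂v₂⟩ := R.rat_sno hN (by omega) hv₁ hv₂ hind'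
  have p1 : μ₁ * B y₁ v₁ = μ₃ * B y₁ v₃ := by
    have := congrArg (fun z => B y₁ z) h3
    simp only [map_add, map_smul, smul_eq_mul, hy₁v₂, mul_zero, add_zero] at this
    exact this
  have p2 : μ₂ * B y₂ v₂ = μ₃ * B y₂ v₃ := by
    have := congrArg (fun z => B y₂ z) h3
    simp only [map_add, map_smul, smul_eq_mul, hy₂v₁, mul_zero, zero_add] at this
    exact this
  have hμ₃ : μ₃ ≠ 0 := by
    intro h0
    rw [h0, zero_mul] at p1
    rcases mul_eq_zero.mp p1 with h | h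
    · exact hμ₁ h
    · exact hy₁v₁ h
  have hy₁v₃ : B y₁ v₃ ≠ 0 := by
    intro h0
    rw [h0, mul_zero] at p1
    rcases mul_eq_zero.mp p1 with h | h
    · exact hμ₁ h
    · exact hy₁v₁ h
  obtain ⟨c, hc⟩ : ∃ c : F, c = (B y₂ v₃ / B y₂ v₂) * (B y₁ v₁ / B y₁ v₃) := ⟨_, rfl⟩
  have hcm : c ∈ F₀ := by
    rw [hc]
    exact F₀.mul_mem (F₀.div_mem (R.bval hy₂ hv₃) (R.bval hy₂ hv₂))
      (F₀.div_mem (R.bval hy₁ hv₁) (R.bval hy₁ hv₃))
  have hμ : μ₂ = μ₁ * c := by
    rw [hc]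
    have e1 : μ₂ = μ₃ * B y₂ v₃ / B y₂ v₂ := by
      rw [← p2, mul_div_assoc, div_self hy₂v₂, mul_one]
    have e2 : μ₃ = μ₁ * B y₁ v₁ / B y₁ v₃ := by
      rw [p1, mul_div_assoc, div_self hy₁v₃, mul_one]
    rw [e1, e2]
    field_simp
  refine ⟨c • v₂, R.smul_mem _ _ hcm hv₂, ?_⟩
  rw [h2', hμ, mul_smul]

include R hk hmin in
/-- **Rational minors force the isometry to map the rational structure to a multiple of
itself.** -/
theorem rat_of_minors (hN : B.Nondegenerate) (h13 : 13 ≤ finrank F V) (h2 : (2 : F) ≠ 0) :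
    ∃ μ : F, μ ≠ 0 ∧ ∀ v ∈ V₀, ∃ w ∈ V₀, k v = μ • w := by
  have hsymm := R.symm
  obtain ⟨u₀, z₀, P₀⟩ := R.exists_rpair hN h13
  obtain ⟨μ₀, v₀, hv₀, h0⟩ := R.pt_rat k hk hmin hN h13 h2 P₀.hu P₀.Qu
  have hk0 : k u₀ ≠ 0 := fun h => P₀.u0 (by simpa using h)
  have hμ₀ : μ₀ ≠ 0 := by
    intro h
    rw [h, zero_smul] at h0
    exact hk0 h0
  refine ⟨μ₀, hμ₀, ?_⟩
  -- singular vectors
  have key : ∀ u ∈ V₀, Q u = 0 → ∃ w ∈ V₀, k u = μ₀ • w := by
    intro u hu hQu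
    by_cases hu0 : u = 0
    · exact ⟨0, V₀.zero_mem, by rw [hu0, map_zero, smul_zero]⟩
    obtain ⟨x, hx, x', hx', hQx, hQx', hxx', hxl, hx'l⟩ := R.rat_hyp hN [u₀, u]
      (by
        intro v hv
        simp only [List.mem_cons, List.not_mem_nil, or_false] at hv
        rcases hv with rfl | rfl
        · exact P₀.hu
        · exact hu)
      (by simp only [List.length_cons, List.length_nil]; omega)
    have hxu₀ : B x u₀ = 0 := hxl u₀ (by simp)
    have hxu : B x u = 0 := hxl u (by simp)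
    have hx'u₀ : B x' u₀ = 0 := hx'l u₀ (by simp)
    have hx'u : B x' u = 0 := hx'l u (by simp)
    have hx0 : x ≠ 0 := by
      intro h
      rw [h, map_zero, LinearMap.zero_apply] at hxx'
      exact zero_ne_one hxx'
    have P₁ : RPair Q B F₀ V₀ u₀ x := by
      refine ⟨P₀.hu, hx, P₀.Qu, hQx, by rw [hsymm, hxu₀], P₀.u0, ?_⟩
      intro t _ h
      have h1 : B x x' = 0 := by
        rw [h, map_smul, LinearMap.smul_apply, hsymm u₀ x', hx'u₀, smul_zero]
      rw [hxx'] at h1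
      exact one_ne_zero h1
    have P₂ : RPair Q B F₀ V₀ x u := by
      refine ⟨hx, hu, hQx, hQu, hxu, hx0, ?_⟩
      intro t _ h
      have h1 : B x' u = t := by
        rw [h, map_smul, smul_eq_mul, hsymm x' x, hxx', mul_one]
      rw [hx'u] at h1
      apply hu0
      rw [h, ← h1, zero_smul]
    obtain ⟨v₁, hv₁, e1⟩ := R.scalar_compat k hk hmin hN h13 h2 P₁ hv₀ h0
    exact R.scalar_compat k hk hmin hN h13 h2 P₂ hv₁ e1
  intro v hv
  obtain ⟨s₁, hs₁, s₂, hs₂, hQ₁, hQ₂, -, -, rfl⟩ :=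
    R.rat_two_sing hN (by omega) V₀.zero_mem hv (Q_zero Q R.hQs) (by simp)
  obtain ⟨w₁, hw₁, e1⟩ := key s₁ hs₁ hQ₁
  obtain ⟨w₂, hw₂, e2⟩ := key s₂ hs₂ hQ₂
  exact ⟨w₁ + w₂, V₀.add_mem hw₁ hw₂, by rw [map_add, e1, e2, smul_add]⟩

end QStr

end Cfsg.Agent.Lib.Helper94_QSub
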