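import Mathlib
import Cfsg.Agent.Lib.Helper94_QSub2
import Cfsg.Agent.Lib.Helper83_SL2GenBasic

set_option autoImplicit false

/-!
The action of `SL(2,F)` on a quadratic space attached to two totally singular planes in duality,
and its use for overgroups of the stabiliser of a rational structure: an irrational `2 × 2` minor
produces, via the generation of `SL(2, F₀(Δ))` by two root subgroups, all the parameters.
-/

namespace Cfsg.Agent.Lib.Helper94_QSub

open Module Matrix Cfsg.Agent.Lib.Helper94_Symp Cfsg.Agent.Lib.Helper94_OrthSmall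
  Cfsg.Agent.Lib.Helper94_OrthSiegel Cfsg.Agent.Lib.Helper94_OrthSiegel2
  Cfsg.Agent.Lib.Helper94_OrthPara Cfsg.Agent.Lib.Helper94_OrthNondeg
  Cfsg.Agent.Lib.Helper94_OrthUni Cfsg.Agent.Lib.Helper50_SL2Mat
  Cfsg.Agent.Lib.Helper83_SL2GenBasic
open scoped MatrixGroups

variable {F V : Type*} [Field F] [AddCommGroup V] [Module F V]
variable {Q : V → F} {B : LinearMap.BilinForm F V} {F₀ : Subfield F} {V₀ : AddSubgroup V}

/-- Two totally singular planes `⟨a, b⟩`, `⟨a', b'⟩` in duality. -/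
structure Hyp4 (Q : V → F) (B : LinearMap.BilinForm F V) (a b a' b' : V) : Prop where
  Qa : Q a = 0
  Qb : Q b = 0
  Qa' : Q a' = 0
  Qb' : Q b' = 0
  ab : B a b = 0
  a'b' : B a' b' = 0
  aa' : B a a' = 1
  bb' : B b b' = 1
  ab' : B a b' = 0
  ba' : B b a' = 0

section Rho

variable (B) (a b a' b' : V)

/-- The action of a matrix of `SL(2,F)`, as a linear map. -/
def rhoL (g : SL(2, F)) : V →ₗ[F] V :=
  LinearMap.id
  + (B.flip a').smulRight ((g 0 0 - 1) • a - g 1 0 • b')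
  + (B.flip b').smulRight ((g 0 0 - 1) • b + g 1 0 • a')
  + (B.flip a).smulRight (g 0 1 • b + (g 1 1 - 1) • a')
  + (B.flip b).smulRight (-(g 0 1) • a + (g 1 1 - 1) • b')

lemma rhoL_apply (g : SL(2, F)) (x : V) :
    rhoL B a b a' b' g x = x + B x a' • ((g 0 0 - 1) • a - g 1 0 • b')
      + B x b' • ((g 0 0 - 1) • b + g 1 0 • a')
      + B x a • (g 0 1 • b + (g 1 1 - 1) • a')
      + B x b • (-(g 0 1) • a + (g 1 1 - 1) • b') := by
  simp only [rhoL, LinearMap.add_apply, LinearMap.id_apply, LinearMap.smulRight_apply]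
  rfl

lemma rhoL_one : rhoL B a b a' b' (1 : SL(2, F)) = LinearMap.id := by
  ext x
  rw [rhoL_apply, one00, one01, one10, one11]
  simp

end Rho

section RhoMul

variable (hQs : ∀ (c : F) (v : V), Q (c • v) = c * c * Q v)
  (hQp : ∀ u v : V, Q (u + v) = Q u + Q v + B u v)
  {a b a' b' : V} (H : Hyp4 Q B a b a' b')

include hQs hQp H in
lemma rhoL_mul (g h : SL(2, F)) (x : V) :
    rhoL B a b a' b' (g * h) x = rhoL B a b a' b' g (rhoL B a b a' b' h x) := by
  have hsymm := B_symm Q B hQp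
  have haa : B a a = 0 := by rw [B_self Q B hQs hQp, H.Qa, mul_zero]
  have hbb : B b b = 0 := by rw [B_self Q B hQs hQp, H.Qb, mul_zero]
  have ha'a' : B a' a' = 0 := by rw [B_self Q B hQs hQp, H.Qa', mul_zero]
  have hb'b' : B b' b' = 0 := by rw [B_self Q B hQs hQp, H.Qb', mul_zero]
  have hba : B b a = 0 := by rw [hsymm, H.ab]
  have hb'a' : B b' a' = 0 := by rw [hsymm, H.a'b']
  have ha'a : B a' a = 1 := by rw [hsymm, H.aa']
  have hb'b : B b' b = 1 := by rw [hsymm, H.bb']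
  have hb'a : B b' a = 0 := by rw [hsymm, H.ab']
  have ha'b : B a' b = 0 := by rw [hsymm, H.ba']
  have c1 : B (rhoL B a b a' b' h x) a' = h 0 0 * B x a' - h 0 1 * B x b := by
    rw [rhoL_apply]
    simp only [map_add, map_sub, map_smul, map_neg, LinearMap.add_apply, LinearMap.sub_apply,
      LinearMap.smul_apply, LinearMap.neg_apply, smul_eq_mul, H.aa', H.ba', ha'a', hb'a',
      mul_zero, mul_one, add_zero, sub_zero, neg_zero]
    ring
  have c2 : B (rhoL B a b a' b' h x) b' = h 0 0 * B x b' + h 0 1 * B x a := by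
    rw [rhoL_apply]
    simp only [map_add, map_sub, map_smul, map_neg, LinearMap.add_apply, LinearMap.sub_apply,
      LinearMap.smul_apply, LinearMap.neg_apply, smul_eq_mul, H.ab', H.bb', H.a'b', hb'b',
      mul_zero, mul_one, add_zero, sub_zero, neg_zero]
    ring
  have c3 : B (rhoL B a b a' b' h x) a = h 1 1 * B x a + h 1 0 * B x b' := by
    rw [rhoL_apply]
    simp only [map_add, map_sub, map_smul, map_neg, LinearMap.add_apply, LinearMap.sub_apply,
      LinearMap.smul_apply, LinearMap.neg_apply, smul_eq_mul, haa, hba, ha'a, hb'a,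
      mul_zero, mul_one, add_zero, sub_zero, neg_zero]
    ring
  have c4 : B (rhoL B a b a' b' h x) b = h 1 1 * B x b - h 1 0 * B x a' := by
    rw [rhoL_apply]
    simp only [map_add, map_sub, map_smul, map_neg, LinearMap.add_apply, LinearMap.sub_apply,
      LinearMap.smul_apply, LinearMap.neg_apply, smul_eq_mul, H.ab, hbb, ha'b, hb'b,
      mul_zero, mul_one, add_zero, sub_zero, neg_zero]
    ring
  rw [rhoL_apply B a b a' b' g, c1, c2, c3, c4, rhoL_apply, rhoL_apply, mul00, mul01, mul10,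
    mul11]
  module

/-- The action of `SL(2,F)` as a group homomorphism. -/
def rho : SL(2, F) →* (V ≃ₗ[F] V) where
  toFun g := LinearEquiv.ofLinear (rhoL B a b a' b' g) (rhoL B a b a' b' g⁻¹)
    (by
      ext x
      rw [LinearMap.comp_apply, ← rhoL_mul hQs hQp H, mul_inv_cancel, rhoL_one])
    (by
      ext x
      rw [LinearMap.comp_apply, ← rhoL_mul hQs hQp H, inv_mul_cancel, rhoL_one])
  map_one' := by
    ext x
    show rhoL B a b a' b' 1 x = x
    rw [rhoL_one]
    rfl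
  map_mul' := by
    intro g h
    ext x
    exact rhoL_mul hQs hQp H g h x

lemma rho_apply (g : SL(2, F)) (x : V) : rho hQs hQp H g x = rhoL B a b a' b' g x := rfl

lemma rho_tU (c : F) : rho hQs hQp H (tU c) = sieg Q B a (c • b) := by
  ext x
  rw [rho_apply, rhoL_apply, sieg_apply Q B hQs hQp H.Qa (by rw [map_smul, H.ab, smul_zero]),
    tU00, tU01, tU10, tU11, hQs, H.Qb]
  simp only [map_smul, smul_eq_mul]
  module

lemma rho_tL (d : F) : rho hQs hQp H (tL d) = sieg Q B b' (d • a') := by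
  have hsymm := B_symm Q B hQp
  ext x
  rw [rho_apply, rhoL_apply, sieg_apply Q B hQs hQp H.Qb'
    (by rw [map_smul, hsymm, H.a'b', smul_zero]), tL00, tL01, tL10, tL11, hQs, H.Qa']
  simp only [map_smul, smul_eq_mul]
  module

end RhoMul

namespace QStr

variable (R : QStr Q B F₀ V₀)

variable (S M G : Subgroup (V ≃ₗ[F] V))
  (hS : ∀ g, g ∈ S ↔ ∃ μ : F, μ ≠ 0 ∧ ∀ v ∈ V₀, ∃ w ∈ V₀, g v = μ • w)
  (hG2 : ∀ u z, Q u = 0 → B u z = 0 → sieg Q B u z ∈ G)
  (hHM : S ⊓ G ≤ M) (hMO : M ≤ oG Q)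

include R hS hG2 hHM hMO in
/-- **An irrational minor produces all parameters**, provided the two root subgroups generate
`SL(2, F₀(Δ))`. -/
theorem par_all_of_minor (hsimple : ∀ K : Subalgebra F₀ F, K = ⊥ ∨ K = ⊤)
    {k : V ≃ₗ[F] V} (hk : k ∈ M) {u w t y : V}
    (hu : u ∈ V₀) (hw : w ∈ V₀) (ht : t ∈ V₀) (hy : y ∈ V₀) (hQu : Q u = 0) (hQw : Q w = 0)
    (hQt : Q t = 0) (hQy : Q y = 0) (huw : B u w = 0) (hty : B t y = 0) {Δ : F}
    (hΔ : Δ = B (k u) t * B (k w) y - B (k u) y * B (k w) t) (hΔF : Δ ∉ F₀)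
    (hgen : tL (1 : F) ∈ GG F₀ Δ) (c : F) : sieg Q B u (c • w) ∈ M := by
  have hsymm := R.symm
  have hkO : k ∈ oG Q := hMO hk
  have hΔ0 : Δ ≠ 0 := by
    intro h0
    apply hΔF
    rw [h0]
    exact F₀.zero_mem
  obtain ⟨a, ha⟩ : ∃ a : V, a = k u := ⟨_, rfl⟩
  obtain ⟨b, hb⟩ : ∃ b : V, b = k w := ⟨_, rfl⟩
  rw [← ha, ← hb] at hΔ
  obtain ⟨a', ha'⟩ : ∃ a' : V, a' = Δ⁻¹ • (B y b • t - B t b • y) := ⟨_, rfl⟩
  obtain ⟨b', hb'⟩ : ∃ b' : V, b' = Δ⁻¹ • (-(B y a) • t + B t a • y) := ⟨_, rfl⟩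
  have hQa : Q a = 0 := by rw [ha, hkO, hQu]
  have hQb : Q b = 0 := by rw [hb, hkO, hQw]
  have hab : B a b = 0 := by rw [ha, hb, oG_B Q B R.hQp hkO, huw]
  have htt : B t t = 0 := by rw [B_self Q B R.hQs R.hQp, hQt, mul_zero]
  have hyy : B y y = 0 := by rw [B_self Q B R.hQs R.hQp, hQy, mul_zero]
  have hyt : B y t = 0 := by rw [hsymm, hty]
  have hQty : ∀ c d : F, Q (c • t + d • y) = 0 := by
    intro c d
    rw [Q_add_smul Q B R.hQs R.hQp, R.hQs, hQt, hQy, map_smul, LinearMap.smul_apply, hty]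
    simp
  have H : Hyp4 Q B a b a' b' := by
    refine ⟨hQa, hQb, ?_, ?_, hab, ?_, ?_, ?_, ?_, ?_⟩
    · rw [ha', R.hQs, sub_eq_add_neg, ← neg_smul, hQty, mul_zero]
    · rw [hb', R.hQs, hQty, mul_zero]
    · rw [ha', hb']
      simp only [map_add, map_sub, map_smul, map_neg, LinearMap.add_apply, LinearMap.sub_apply,
        LinearMap.smul_apply, LinearMap.neg_apply, smul_eq_mul, htt, hyy, hty, hyt, mul_zero,
        add_zero, sub_zero, neg_zero, smul_zero]
    · rw [ha']
      simp only [map_sub, map_smul, smul_eq_mul]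
      rw [hΔ, hsymm y b, hsymm t b]
      have h0 : B a t * B b y - B a y * B b t ≠ 0 := by rw [← hΔ]; exact hΔ0
      field_simp
    · rw [hb']
      simp only [map_add, map_smul, map_neg, smul_eq_mul]
      rw [hΔ, hsymm y a, hsymm t a]
      have h0 : B a t * B b y - B a y * B b t ≠ 0 := by rw [← hΔ]; exact hΔ0
      field_simp
      ring
    · rw [hb']
      simp only [map_add, map_smul, map_neg, smul_eq_mul]
      rw [hsymm y a, hsymm t a]
      ring
    · rw [ha']
      simp only [map_sub, map_smul, smul_eq_mul]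
      rw [hsymm y b, hsymm t b]
      ring
  -- the generators are mapped into `M`
  have hU : ∀ c₀ : F₀, rho R.hQs R.hQp H (tU (algebraMap F₀ F c₀)) ∈ M := by
    intro c₀
    rw [rho_tU, ha, hb, ← map_smul, ← conj_sieg Q B R.hQs R.hQp hkO hQu
      (by rw [map_smul, huw, smul_zero])]
    refine M.mul_mem (M.mul_mem hk ?_) (M.inv_mem hk)
    exact R.rat_sieg_mem S M G hS hG2 hHM hu (R.smul_mem _ _ c₀.2 hw) hQu
      (by rw [map_smul, huw, smul_zero])
  have hL : ∀ c₀ : F₀, rho R.hQs R.hQp H (tL (algebraMap F₀ F c₀ * Δ)) ∈ M := by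
    intro c₀
    have e : rho R.hQs R.hQp H (tL (algebraMap F₀ F c₀ * Δ)) =
        sieg Q B t ((-(c₀ : F)) • y) := by
      rw [rho_tL]
      ext x
      rw [sieg_apply Q B R.hQs R.hQp H.Qb' (by rw [map_smul, hsymm, H.a'b', smul_zero]),
        sieg_apply Q B R.hQs R.hQp hQt (by rw [map_smul, hty, smul_zero]), R.hQs, R.hQs,
        H.Qa', hQy, ha', hb']
      have hcoe : algebraMap F₀ F c₀ = (c₀ : F) := rfl
      simp only [map_add, map_sub, map_smul, map_neg, smul_eq_mul, hcoe, mul_zero, zero_mul,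
        zero_smul, sub_zero]
      have h0 : B a t * B b y - B a y * B b t ≠ 0 := by rw [← hΔ]; exact hΔ0
      rw [hΔ, hsymm y b, hsymm t b, hsymm y a, hsymm t a]
      match_scalars <;> field_simp <;> ring
    rw [e]
    exact R.rat_sieg_mem S M G hS hG2 hHM ht (R.smul_mem _ _ (F₀.neg_mem c₀.2) hy) hQt
      (by rw [map_smul, hty, smul_zero])
  have hle : GG F₀ Δ ≤ M.comap (rho R.hQs R.hQp H) := by
    rw [GG, Subgroup.closure_le]
    rintro g (⟨c₀, rfl⟩ | ⟨c₀, rfl⟩)
    · exact hU c₀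
    · exact hL c₀
  -- all upper unitriangular matrices lie in the generated subgroup
  have hall : ∀ x : F, tU x ∈ GG F₀ Δ := by
    intro x
    rcases hsimple (Algebra.adjoin F₀ ({Δ} : Set F)) with hbot | htop
    · exfalso
      apply hΔF
      have h1 : Δ ∈ Algebra.adjoin F₀ ({Δ} : Set F) := Algebra.self_mem_adjoin_singleton F₀ Δ
      rw [hbot] at h1
      obtain ⟨c₀, rfl⟩ := Algebra.mem_bot.mp h1
      exact c₀.2
    · have h1 : x ∈ Algebra.adjoin F₀ ({Δ} : Set F) := by rw [htop]; exact Algebra.mem_top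
      rw [Algebra.adjoin_singleton_eq_range_aeval] at h1
      obtain ⟨p, rfl⟩ := h1
      exact tU_aeval_mem hΔ0 hgen p
  have h1 : rho R.hQs R.hQp H (tU c) ∈ M := hle (hall c)
  rw [rho_tU, ha, hb, ← map_smul, ← conj_sieg Q B R.hQs R.hQp hkO hQu
    (by rw [map_smul, huw, smul_zero])] at h1
  have h2 := M.mul_mem (M.mul_mem (M.inv_mem hk) h1) hk
  have e : k⁻¹ * (k * sieg Q B u (c • w) * k⁻¹) * k = sieg Q B u (c • w) := by group
  rwa [e] at h2

end QStr

end Cfsg.Agent.Lib.Helper94_QSub
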