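import Mathlib
import Cfsg.Agent.Lib.Helper94_QSub2
import Cfsg.Agent.Lib.Helper94_QSub3
import Cfsg.Agent.Lib.Helper94_QSub4
import Cfsg.Agent.Lib.Helper94_QSub5

set_option autoImplicit false

/-!
Overgroups of the stabiliser of a rational structure of a quadratic space: the rationality of the
minors in the quadratic case (double commutator with rational Siegel elements), and the
maximality theorem.
-/

namespace Cfsg.Agent.Lib.Helper94_QSub

open Module Matrix Cfsg.Agent.Lib.Helper94_Symp Cfsg.Agent.Lib.Helper94_OrthSmall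
  Cfsg.Agent.Lib.Helper94_OrthSiegel Cfsg.Agent.Lib.Helper94_OrthSiegel2
  Cfsg.Agent.Lib.Helper94_OrthPara Cfsg.Agent.Lib.Helper94_OrthNondeg
  Cfsg.Agent.Lib.Helper94_OrthUni Cfsg.Agent.Lib.Helper50_SL2Mat
  Cfsg.Agent.Lib.Helper83_SL2GenBasic
open scoped MatrixGroups

variable {F V : Type*} [Field F] [AddCommGroup V] [Module F V]
variable {Q : V → F} {B : LinearMap.BilinForm F V} {F₀ : Subfield F} {V₀ : AddSubgroup V}

namespace QStr

variable (R : QStr Q B F₀ V₀)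

include R in
/-- Decomposition of the vectors when the field has degree two over the subfield. -/
lemma vdec {ω : F} (hdec : ∀ c : F, ∃ c₁ ∈ F₀, ∃ c₂ ∈ F₀, c = c₁ + c₂ * ω) (x : V) :
    ∃ x₁ ∈ V₀, ∃ x₂ ∈ V₀, x = x₁ + ω • x₂ := by
  have hx := R.span x
  induction hx using Submodule.span_induction with
  | mem v hv => exact ⟨v, hv, 0, V₀.zero_mem, by simp⟩
  | zero => exact ⟨0, V₀.zero_mem, 0, V₀.zero_mem, by simp⟩
  | add a b _ _ ha hb =>
    obtain ⟨a₁, ha₁, a₂, ha₂, rfl⟩ := ha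
    obtain ⟨b₁, hb₁, b₂, hb₂, rfl⟩ := hb
    exact ⟨a₁ + b₁, V₀.add_mem ha₁ hb₁, a₂ + b₂, V₀.add_mem ha₂ hb₂, by module⟩
  | smul c a _ ha =>
    obtain ⟨a₁, ha₁, a₂, ha₂, rfl⟩ := ha
    obtain ⟨c₁, hc₁, c₂, hc₂, rfl⟩ := hdec c
    obtain ⟨d₁, hd₁, d₂, hd₂, hd⟩ := hdec (ω * ω)
    refine ⟨c₁ • a₁ + (c₂ * d₁) • a₂,
      V₀.add_mem (R.smul_mem _ _ hc₁ ha₁) (R.smul_mem _ _ (F₀.mul_mem hc₂ hd₁) ha₂),
      c₂ • a₁ + (c₁ + c₂ * d₂) • a₂,
      V₀.add_mem (R.smul_mem _ _ hc₂ ha₁)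
        (R.smul_mem _ _ (F₀.add_mem hc₁ (F₀.mul_mem hc₂ hd₂)) ha₂), ?_⟩
    have e : (c₁ + c₂ * ω) • (a₁ + ω • a₂) =
        c₁ • a₁ + (c₂ * (ω * ω)) • a₂ + ω • (c₂ • a₁ + c₁ • a₂) := by module
    rw [e, hd]
    module

variable (S M G : Subgroup (V ≃ₗ[F] V))
  (hS : ∀ g, g ∈ S ↔ ∃ μ : F, μ ≠ 0 ∧ ∀ v ∈ V₀, ∃ w ∈ V₀, g v = μ • w)
  (hG2 : ∀ u z, Q u = 0 → B u z = 0 → sieg Q B u z ∈ G)
  (hHM : S ⊓ G ≤ M) (hMO : M ≤ oG Q)

variable [Finite F] [FiniteDimensional F V]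

include R hS hG2 hHM hMO in
/-- **Rationality of the minors in the quadratic case.** -/
theorem minor_rat_of_two (hN : B.Nondegenerate) (h13 : 13 ≤ finrank F V)
    (hA0 : ∀ u z : V, RPair Q B F₀ V₀ u z → ∀ c : F, sieg Q B u (c • z) ∈ M → c ∈ F₀)
    {ω : F} (hdec : ∀ c : F, ∃ c₁ ∈ F₀, ∃ c₂ ∈ F₀, c = c₁ + c₂ * ω)
    {k : V ≃ₗ[F] V} (hk : k ∈ M) {u w t y : V}
    (hu : u ∈ V₀) (hw : w ∈ V₀) (ht : t ∈ V₀) (hy : y ∈ V₀) (hQu : Q u = 0) (hQw : Q w = 0)
    (hQt : Q t = 0) (hQy : Q y = 0) (huw : B u w = 0) (hty : B t y = 0) :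
    B (k u) t * B (k w) y - B (k u) y * B (k w) t ∈ F₀ := by
  have hsymm := R.symm
  have hkO : k ∈ oG Q := hMO hk
  obtain ⟨a, ha⟩ : ∃ a : V, a = k u := ⟨_, rfl⟩
  obtain ⟨b, hb⟩ : ∃ b : V, b = k w := ⟨_, rfl⟩
  rw [← ha, ← hb]
  have hQa : Q a = 0 := by rw [ha, hkO, hQu]
  have hQb : Q b = 0 := by rw [hb, hkO, hQw]
  have hab : B a b = 0 := by rw [ha, hb, oG_B Q B R.hQp hkO, huw]
  obtain ⟨a₁, ha₁, a₂, ha₂, hadec⟩ := R.vdec hdec a
  obtain ⟨b₁, hb₁, b₂, hb₂, hbdec⟩ := R.vdec hdec b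
  -- the first rational singular vector
  obtain ⟨p, hp, hp0, hQp, hpl⟩ := R.rat_sing_perp [a₁, a₂, b₁, b₂, t, y]
    (by
      intro v hv
      simp only [List.mem_cons, List.not_mem_nil, or_false] at hv
      rcases hv with rfl | rfl | rfl | rfl | rfl | rfl
      · exact ha₁
      · exact ha₂
      · exact hb₁
      · exact hb₂
      · exact ht
      · exact hy)
    (by simp only [List.length_cons, List.length_nil]; omega)
  have hpa : B p a = 0 := by
    rw [hadec, map_add, map_smul, hpl a₁ (by simp), hpl a₂ (by simp), smul_zero, add_zero]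
  have hpb : B p b = 0 := by
    rw [hbdec, map_add, map_smul, hpl b₁ (by simp), hpl b₂ (by simp), smul_zero, add_zero]
  have hpt : B p t = 0 := hpl t (by simp)
  have hpy : B p y = 0 := hpl y (by simp)
  obtain ⟨p', hp', hpp'⟩ := R.exists_dual hN hp hp0
  -- the second rational singular vector
  obtain ⟨p₂, hp₂, hp₂0, hQp₂, hp₂l⟩ := R.rat_sing_perp [a₁, a₂, b₁, b₂, t, y, p, p']
    (by
      intro v hv
      simp only [List.mem_cons, List.not_mem_nil, or_false] at hv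
      rcases hv with rfl | rfl | rfl | rfl | rfl | rfl | rfl | rfl
      · exact ha₁
      · exact ha₂
      · exact hb₁
      · exact hb₂
      · exact ht
      · exact hy
      · exact hp
      · exact hp')
    (by simp only [List.length_cons, List.length_nil]; omega)
  have hp₂a : B p₂ a = 0 := by
    rw [hadec, map_add, map_smul, hp₂l a₁ (by simp), hp₂l a₂ (by simp), smul_zero, add_zero]
  have hp₂b : B p₂ b = 0 := by
    rw [hbdec, map_add, map_smul, hp₂l b₁ (by simp), hp₂l b₂ (by simp), smul_zero, add_zero]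
  have hp₂y : B p₂ y = 0 := hp₂l y (by simp)
  have hp₂p : B p₂ p = 0 := hp₂l p (by simp)
  have hp₂p' : B p₂ p' = 0 := hp₂l p' (by simp)
  have P : RPair Q B F₀ V₀ p₂ p := by
    refine ⟨hp₂, hp, hQp₂, hQp, hp₂p, hp₂0, ?_⟩
    intro c _ h
    have h1 : B p p' = 0 := by
      rw [h, map_smul, LinearMap.smul_apply, hp₂p', smul_zero]
    rw [hpp'] at h1
    exact one_ne_zero h1
  -- the conjugate root element
  have hg₁ : sieg Q B a b ∈ M := by
    rw [ha, hb, ← conj_sieg Q B R.hQs R.hQp hkO hQu huw]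
    exact M.mul_mem (M.mul_mem hk (R.rat_sieg_mem S M G hS hG2 hHM hu hw hQu huw)) (M.inv_mem hk)
  -- first commutator
  obtain ⟨n, hn⟩ : ∃ n : V, n = nm B a b t := ⟨_, rfl⟩
  have hpn : B p n = 0 := by
    rw [hn]
    unfold nm
    rw [map_sub, map_smul, map_smul, hpa, hpb, smul_zero, smul_zero, sub_zero]
  have hp₂n : B p₂ n = 0 := by
    rw [hn]
    unfold nm
    rw [map_sub, map_smul, map_smul, hp₂a, hp₂b, smul_zero, smul_zero, sub_zero]
  have hh₁ : sieg Q B p t ∈ M := R.rat_sieg_mem S M G hS hG2 hHM hp ht hQp hpt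
  have hg₁O : sieg Q B a b ∈ oG Q := hMO hg₁
  have hc₁ := conj_sieg Q B R.hQs R.hQp hg₁O hQp hpt
  have e1 : sieg Q B a b p = p := by
    rw [sieg_apply Q B R.hQs R.hQp hQa hab, hpa, hpb]
    simp
  have e2 : sieg Q B a b t = t + n := by
    rw [sieg_apply Q B R.hQs R.hQp hQa hab, hQb, hn]
    unfold nm
    module
  rw [e1, e2] at hc₁
  have hg₂ : sieg Q B p n ∈ M := by
    have h1 : sieg Q B a b * sieg Q B p t * (sieg Q B a b)⁻¹ * (sieg Q B p t)⁻¹ ∈ M :=
      M.mul_mem (M.mul_mem (M.mul_mem hg₁ hh₁) (M.inv_mem hg₁)) (M.inv_mem hh₁)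
    rw [hc₁, sieg_inv Q B R.hQs R.hQp hQp hpt,
      sieg_mul Q B R.hQs R.hQp hQp (by rw [map_add, hpt, hpn, add_zero])
        (by rw [map_neg, hpt, neg_zero])] at h1
    have e : t + n + -t = n := by abel
    rwa [e] at h1
  -- second commutator
  have hh₂ : sieg Q B p₂ y ∈ M := R.rat_sieg_mem S M G hS hG2 hHM hp₂ hy hQp₂ hp₂y
  have hg₂O : sieg Q B p n ∈ oG Q := hMO hg₂
  have hc₂ := conj_sieg Q B R.hQs R.hQp hg₂O hQp₂ hp₂y
  have e3 : sieg Q B p n p₂ = p₂ := by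
    rw [sieg_apply Q B R.hQs R.hQp hQp hpn, hp₂p, hp₂n]
    simp
  have e4 : sieg Q B p n y = y + (-(B y n)) • p := by
    rw [sieg_apply Q B R.hQs R.hQp hQp hpn, hsymm y p, hpy]
    module
  rw [e3, e4] at hc₂
  have hfin : sieg Q B p₂ ((-(B y n)) • p) ∈ M := by
    have h1 : sieg Q B p n * sieg Q B p₂ y * (sieg Q B p n)⁻¹ * (sieg Q B p₂ y)⁻¹ ∈ M :=
      M.mul_mem (M.mul_mem (M.mul_mem hg₂ hh₂) (M.inv_mem hg₂)) (M.inv_mem hh₂)
    rw [hc₂, sieg_inv Q B R.hQs R.hQp hQp₂ hp₂y,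
      sieg_mul Q B R.hQs R.hQp hQp₂
        (by rw [map_add, map_smul, hp₂y, hp₂p, smul_zero, add_zero])
        (by rw [map_neg, hp₂y, neg_zero])] at h1
    have e : y + (-(B y n)) • p + -y = (-(B y n)) • p := by abel
    rwa [e] at h1
  have h3 := hA0 p₂ p P _ hfin
  have e : B a t * B b y - B a y * B b t = -(-(B y n)) := by
    rw [hn]
    unfold nm
    simp only [map_sub, map_smul, smul_eq_mul]
    rw [hsymm t a, hsymm t b, hsymm y a, hsymm y b]
    ring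
  rw [e]
  exact F₀.neg_mem h3

include R hS in
/-- A Siegel element of a rational totally singular pair with an irrational parameter does not
stabilise the rational structure up to scalars. -/
lemma not_mem_S (hN : B.Nondegenerate) (h13 : 13 ≤ finrank F V)
    {u z : V} (P : RPair Q B F₀ V₀ u z) {c : F} (hc : c ∉ F₀) :
    sieg Q B u (c • z) ∉ S := by
  have hsymm := R.symm
  intro hE
  obtain ⟨μ, hμ, hmap⟩ := (hS _).mp hE
  have hucz : B u (c • z) = 0 := by rw [map_smul, P.Buz, smul_zero]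
  have huu : B u u = 0 := by rw [B_self Q B R.hQs R.hQp, P.Qu, mul_zero]
  have hz0 : z ≠ 0 := fun h0 => P.ind 0 F₀.zero_mem (by rw [h0, zero_smul])
  -- the scalar is rational
  obtain ⟨w₀, hw₀, e0⟩ := hmap u P.hu
  have hEu : sieg Q B u (c • z) u = u := by
    rw [sieg_apply Q B R.hQs R.hQp P.Qu hucz, huu, hucz]
    simp
  rw [hEu] at e0
  have hμm : μ ∈ F₀ := by
    have h1 : μ⁻¹ • u = w₀ := by rw [e0, smul_smul, inv_mul_cancel₀ hμ, one_smul]
    have h2 : μ⁻¹ ∈ F₀ := R.mem_of_smul hN P.hu P.u0 (by rw [h1]; exact hw₀)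
    have := F₀.inv_mem h2
    rwa [inv_inv] at this
  -- a rational vector detecting the parameter
  have hind : ∀ t : F, t ∈ F₀ → u ≠ t • z := by
    intro t ht hut
    have ht0 : t ≠ 0 := by
      intro h0
      rw [h0, zero_smul] at hut
      exact P.u0 hut
    apply P.ind t⁻¹ (F₀.inv_mem ht)
    rw [hut, smul_smul, inv_mul_cancel₀ ht0, one_smul]
  obtain ⟨s, hs, -, hsz, hsu⟩ := R.rat_sno hN (by omega) P.hz P.hu hind
  obtain ⟨w₁, hw₁, e1⟩ := hmap s hs
  have hEs : sieg Q B u (c • z) s = s + (c * B s u) • z := by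
    rw [sieg_apply Q B R.hQs R.hQp P.Qu hucz, map_smul, hsz, R.hQs, P.Qz]
    module
  rw [hEs] at e1
  have h1 : (c * B s u) • z ∈ V₀ := by
    have e : (c * B s u) • z = μ • w₁ - s := by rw [← e1]; abel
    rw [e]
    exact V₀.sub_mem (R.smul_mem _ _ hμm hw₁) hs
  have h2 : c * B s u ∈ F₀ := R.mem_of_smul hN P.hz hz0 h1
  apply hc
  have e : c = c * B s u / B s u := by
    rw [mul_div_assoc, div_self hsu, mul_one]
  rw [e]
  exact F₀.div_mem h2 (R.bval hs P.hu)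

end QStr

/-- **Maximality of the stabiliser of a rational structure over a subfield of prime index** in
the group generated by the Siegel elements of an orthogonal space of dimension at least `13` in
odd characteristic. -/
theorem maximal_qsub [Finite F] [FiniteDimensional F V] (R : QStr Q B F₀ V₀)
    (hN : B.Nondegenerate) (h2 : (2 : F) ≠ 0) (G : Subgroup (V ≃ₗ[F] V)) (hG1 : G ≤ oG Q)
    (hG2 : ∀ u z, Q u = 0 → B u z = 0 → sieg Q B u z ∈ G)
    (hG3 : ∀ M : Subgroup (V ≃ₗ[F] V),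
      (∀ u z, Q u = 0 → B u z = 0 → sieg Q B u z ∈ M) → G ≤ M)
    (h13 : 13 ≤ finrank F V)
    (hsimple : ∀ K : Subalgebra F₀ F, K = ⊥ ∨ K = ⊤) (hne : ∃ c : F, c ∉ F₀)
    (hgen : (∀ Δ : F, Δ ∉ F₀ → tL (1 : F) ∈ GG F₀ Δ) ∨
      (∃ ω : F, ∀ c : F, ∃ c₁ ∈ F₀, ∃ c₂ ∈ F₀, c = c₁ + c₂ * ω))
    (S : Subgroup (V ≃ₗ[F] V))
    (hS : ∀ g, g ∈ S ↔ ∃ μ : F, μ ≠ 0 ∧ ∀ v ∈ V₀, ∃ w ∈ V₀, g v = μ • w) :
    (S ⊓ G < G) ∧
      ∀ M : Subgroup (V ≃ₗ[F] V), S ⊓ G ≤ M → M ≤ G → M = S ⊓ G ∨ M = G := by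
  obtain ⟨c₀, hc₀⟩ := hne
  obtain ⟨u₀, z₀, P₀⟩ := R.exists_rpair hN h13
  constructor
  · refine lt_of_le_of_ne inf_le_right ?_
    intro heq
    have h1 : sieg Q B u₀ (c₀ • z₀) ∈ S ⊓ G := by
      rw [heq]
      exact hG2 _ _ P₀.Qu (by rw [map_smul, P₀.Buz, smul_zero])
    exact R.not_mem_S S hS hN h13 P₀ hc₀ h1.1
  · intro M hHM hMG
    have hMO : M ≤ oG Q := hMG.trans hG1
    rcases R.par_dichotomy S M G hS hG2 hHM hMO hN h13 hsimple with hA0 | hall
    · left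
      apply le_antisymm _ hHM
      intro k hk
      refine ⟨(hS k).mpr ?_, hMG hk⟩
      apply R.rat_of_minors k (hMO hk) _ hN h13 h2
      intro u w t y hu hw ht hy hQu hQw hQt hQy huw hty
      by_cases hu0 : u = 0
      · rw [hu0, map_zero]
        simp only [map_zero, LinearMap.zero_apply, zero_mul, sub_zero]
        exact F₀.zero_mem
      by_cases hind : ∀ t' : F, t' ∈ F₀ → w ≠ t' • u
      · have P : RPair Q B F₀ V₀ u w := ⟨hu, hw, hQu, hQw, huw, hu0, hind⟩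
        rcases hgen with hgen | ⟨ω, hdec⟩
        · by_contra hΔ
          have h1 := R.par_all_of_minor S M G hS hG2 hHM hMO hsimple hk hu hw ht hy hQu hQw
            hQt hQy huw hty rfl hΔ (hgen _ hΔ) c₀
          exact hc₀ (hA0 u w P c₀ h1)
        · exact R.minor_rat_of_two S M G hS hG2 hHM hMO hN h13 hA0 hdec hk hu hw ht hy hQu hQw
            hQt hQy huw hty
      · push Not at hind
        obtain ⟨t', -, rfl⟩ := hind
        have e : B (k u) t * B (k (t' • u)) y - B (k u) y * B (k (t' • u)) t = 0 := by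
          simp only [map_smul, LinearMap.smul_apply, smul_eq_mul]
          ring
        rw [e]
        exact F₀.zero_mem
    · right
      apply le_antisymm hMG
      apply hG3
      intro x z hQx hxz
      exact R.all_full M hMO hall hN h13 hQx hxz

end Cfsg.Agent.Lib.Helper94_QSub
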