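import Mathlib
import Cfsg.Agent.Lib.Helper94_QSub6

/-!
# Orthogonal subfield groups in small dimension, part 1 (helper59)

`Helper94_QSub2.par_transfer` (the parameter set of a rational totally singular pair does not
depend on the pair) needs `13 ≤ finrank`.  Here it is re-proved for `7 ≤ finrank`: two rational
totally singular pairs are joined through rational totally singular `3`-spaces
(`same_first`), and the auxiliary vectors only need `rat_sing_perp` with lists of length four and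
a rational singular vector orthogonal to two vectors and not to a third (`rat_sno2`).
-/

set_option autoImplicit false

namespace Cfsg.Agent.Lib.Helper59_QSub7

open Module Cfsg.Agent.Lib.Helper94_Symp Cfsg.Agent.Lib.Helper94_OrthSmall
  Cfsg.Agent.Lib.Helper94_OrthSiegel Cfsg.Agent.Lib.Helper94_OrthSiegel2
  Cfsg.Agent.Lib.Helper94_OrthPara Cfsg.Agent.Lib.Helper94_OrthNondeg
  Cfsg.Agent.Lib.Helper94_OrthUni Cfsg.Agent.Lib.Helper94_QSub

variable {F V : Type*} [Field F] [AddCommGroup V] [Module F V]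
variable {Q : V → F} {B : LinearMap.BilinForm F V} {F₀ : Subfield F} {V₀ : AddSubgroup V}

section

variable (R : QStr Q B F₀ V₀) [Finite F] [FiniteDimensional F V]

include R in
/-- A rational singular vector orthogonal to `u`, `v` and not to `z`. -/
lemma rat_sno2 (hN : B.Nondegenerate) (h7 : 7 ≤ finrank F V) {u v z : V} (hu : u ∈ V₀)
    (hv : v ∈ V₀) (hz : z ∈ V₀)
    (h : ∀ s t : F, s ∈ F₀ → t ∈ F₀ → z ≠ s • u + t • v) :
    ∃ s ∈ V₀, Q s = 0 ∧ B s u = 0 ∧ B s v = 0 ∧ B s z ≠ 0 := by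
  classical
  have : Finite V := Module.finite_of_finite F
  have hfr := R.finrank_le
  have hW : finrank F₀ (Submodule.span F₀
      ({(⟨u, hu⟩ : R.ratSub), (⟨v, hv⟩ : R.ratSub)} : Set R.ratSub)) ≤ 2 := by
    have h1 := finrank_span_finset_le_card (R := F₀)
      ({(⟨u, hu⟩ : R.ratSub), (⟨v, hv⟩ : R.ratSub)} : Finset R.ratSub)
    have h2 : ({(⟨u, hu⟩ : R.ratSub), (⟨v, hv⟩ : R.ratSub)} : Finset R.ratSub).card ≤ 2 :=
      Finset.card_le_two
    simp only [Finset.coe_insert, Finset.coe_singleton] at h1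
    exact h1.trans h2
  have hb : (⟨z, hz⟩ : R.ratSub) ∉ Submodule.span F₀
      ({(⟨u, hu⟩ : R.ratSub), (⟨v, hv⟩ : R.ratSub)} : Set R.ratSub) := by
    intro hmem
    obtain ⟨s, t, hst⟩ := Submodule.mem_span_pair.mp hmem
    apply h (s : F) (t : F) s.2 t.2
    have h3 := congrArg Subtype.val hst
    exact h3.symm
  obtain ⟨s, hQs, hsW, hsb⟩ := Cfsg.Agent.Lib.Helper94_QuadGen.sno_gen R.q0 R.b0 R.q0_smul
    R.q0_add (R.b0_nondeg hN) _ (by omega) hb
  refine ⟨s.1, s.2, congrArg Subtype.val hQs, ?_, ?_, ?_⟩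
  · have h3 := hsW ⟨u, hu⟩ (Submodule.subset_span (by simp))
    exact congrArg Subtype.val h3
  · have h3 := hsW ⟨v, hv⟩ (Submodule.subset_span (by simp))
    exact congrArg Subtype.val h3
  · intro h0
    apply hsb
    apply Subtype.ext
    exact h0

end

section Transfer

variable (R : QStr Q B F₀ V₀) [Finite F] [FiniteDimensional F V]
variable (S M G : Subgroup (V ≃ₗ[F] V))
  (hS : ∀ g, g ∈ S ↔ ∃ μ : F, μ ≠ 0 ∧ ∀ v ∈ V₀, ∃ w ∈ V₀, g v = μ • w)
  (hG2 : ∀ u z, Q u = 0 → B u z = 0 → sieg Q B u z ∈ G)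
  (hHM : S ⊓ G ≤ M) (hMO : M ≤ oG Q)

include R hS hG2 hHM hMO in
/-- Moving the second vector inside a rational totally singular `3`-space. -/
lemma move2 (hN : B.Nondegenerate) (h7 : 7 ≤ finrank F V) {p q q' : V} (hp : p ∈ V₀)
    (hq : q ∈ V₀) (hq' : q' ∈ V₀) (hQp : Q p = 0) (hQq : Q q = 0) (hQq' : Q q' = 0)
    (hpq : B p q = 0) (hpq' : B p q' = 0) (hqq' : B q q' = 0)
    (hind : ∀ s t : F, s ∈ F₀ → t ∈ F₀ → q' ≠ s • p + t • q) {a : F}
    (h : sieg Q B p (a • q') ∈ M) : sieg Q B p (a • q) ∈ M := by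
  obtain ⟨s₁, hs₁, hQs₁, hs₁p, hs₁q, hs₁q'⟩ := rat_sno2 R hN h7 hp hq hq' hind
  obtain ⟨w, hwdef⟩ : ∃ w : V, w = (B s₁ q')⁻¹ • s₁ := ⟨_, rfl⟩
  have hw : w ∈ V₀ := by
    rw [hwdef]; exact R.smul_mem _ _ (F₀.inv_mem (R.bval hs₁ hq')) hs₁
  have hQw : Q w = 0 := by rw [hwdef, R.hQs, hQs₁, mul_zero]
  have hwp : B w p = 0 := by
    rw [hwdef, map_smul, LinearMap.smul_apply, hs₁p, smul_zero]
  have hwq : B w q = 0 := by
    rw [hwdef, map_smul, LinearMap.smul_apply, hs₁q, smul_zero]
  have hwq' : B w q' = 1 := by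
    rw [hwdef, map_smul, LinearMap.smul_apply, smul_eq_mul, inv_mul_cancel₀ hs₁q']
  exact R.par_move1 S M G hS hG2 hHM hMO hp hq hw hQp hQq hQq' hQw hpq hpq' hqq' hwp hwq hwq' h

include R hS hG2 hHM hMO in
/-- The parameter set does not depend on the second vector of the rational pair. -/
lemma same_first (hN : B.Nondegenerate) (h7 : 7 ≤ finrank F V) {p q q₂ : V} (hp : p ∈ V₀)
    (hq : q ∈ V₀) (hq₂ : q₂ ∈ V₀) (hQp : Q p = 0) (hQq : Q q = 0) (hQq₂ : Q q₂ = 0)
    (hpq : B p q = 0) (hpq₂ : B p q₂ = 0) (hp0 : p ≠ 0)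
    (hiq : ∀ t : F, t ∈ F₀ → q ≠ t • p) (hiq₂ : ∀ t : F, t ∈ F₀ → q₂ ≠ t • p) {a : F}
    (h : sieg Q B p (a • q) ∈ M) : sieg Q B p (a • q₂) ∈ M := by
  have hsymm := R.symm
  have hpp : B p p = 0 := by rw [B_self Q B R.hQs R.hQp, hQp, mul_zero]
  have hqq : B q q = 0 := by rw [B_self Q B R.hQs R.hQp, hQq, mul_zero]
  have hq₂q₂ : B q₂ q₂ = 0 := by rw [B_self Q B R.hQs R.hQp, hQq₂, mul_zero]
  have hqp : B q p = 0 := by rw [hsymm, hpq]
  have hq₂p : B q₂ p = 0 := by rw [hsymm, hpq₂]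
  by_cases hqq₂ : B q q₂ = 0
  · by_cases hdep : ∃ s t : F, s ∈ F₀ ∧ t ∈ F₀ ∧ q₂ = s • p + t • q
    · -- case (iii): `q₂` on the rational line of `p`, `q`
      obtain ⟨α, β, hα, hβ, hq₂def⟩ := hdep
      have hβ0 : β ≠ 0 := by
        rintro rfl
        apply hiq₂ α hα
        rw [hq₂def, zero_smul, add_zero]
      have hip : ∀ t : F, t ∈ F₀ → p ≠ t • q := by
        intro t ht hpt
        have ht0 : t ≠ 0 := by
          rintro rfl
          rw [zero_smul] at hpt
          exact hp0 hpt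
        apply hiq t⁻¹ (F₀.inv_mem ht)
        rw [hpt, smul_smul, inv_mul_cancel₀ ht0, one_smul]
      obtain ⟨p', hp', -, hp'q, hp'p⟩ := R.rat_sno hN (by omega) hq hp hip
      obtain ⟨q'', hq'', -, hq''p, hq''q⟩ := R.rat_sno hN (by omega) hp hq hiq
      obtain ⟨y, hy, hy0, hQy, hyl⟩ := R.rat_sing_perp [p, q, p', q'']
        (by
          intro v hv
          simp only [List.mem_cons, List.not_mem_nil, or_false] at hv
          rcases hv with rfl | rfl | rfl | rfl
          · exact hp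
          · exact hq
          · exact hp'
          · exact hq'')
        (by simp only [List.length_cons, List.length_nil]; omega)
      have hyp : B y p = 0 := hyl p (by simp)
      have hyq : B y q = 0 := hyl q (by simp)
      have hyp' : B y p' = 0 := hyl p' (by simp)
      have hyq'' : B y q'' = 0 := hyl q'' (by simp)
      have hynot : ∀ s t : F, s ∈ F₀ → t ∈ F₀ → y ≠ s • p + t • q := by
        intro s t _ _ hyst
        have e1 : B y p' = s * B p p' := by
          rw [hyst, map_add, map_smul, map_smul, LinearMap.add_apply, LinearMap.smul_apply,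
            LinearMap.smul_apply, hsymm q p', hp'q, smul_zero, add_zero, smul_eq_mul]
        have e2 : B y q'' = t * B q q'' := by
          rw [hyst, map_add, map_smul, map_smul, LinearMap.add_apply, LinearMap.smul_apply,
            LinearMap.smul_apply, hsymm p q'', hq''p, smul_zero, zero_add, smul_eq_mul]
        rw [hyp'] at e1
        rw [hyq''] at e2
        have hs0 : s = 0 := by
          rcases mul_eq_zero.mp e1.symm with h0 | h0
          · exact h0
          · exact absurd (by rw [hsymm]; exact h0) hp'p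
        have ht0 : t = 0 := by
          rcases mul_eq_zero.mp e2.symm with h0 | h0
          · exact h0
          · exact absurd (by rw [hsymm]; exact h0) hq''q
        apply hy0
        rw [hyst, hs0, ht0, zero_smul, zero_smul, add_zero]
      have hpy : B p y = 0 := by rw [hsymm, hyp]
      have hqy : B q y = 0 := by rw [hsymm, hyq]
      -- `q → y`
      have s1 : sieg Q B p (a • y) ∈ M := by
        refine move2 R S M G hS hG2 hHM hMO hN h7 hp hy hq hQp hQy hQq hpy hpq hyq ?_ h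
        intro s t hs ht hqst
        have ht0 : t ≠ 0 := by
          rintro rfl
          apply hiq s hs
          rw [hqst, zero_smul, add_zero]
        apply hynot (-(t⁻¹ * s)) t⁻¹ (F₀.neg_mem (F₀.mul_mem (F₀.inv_mem ht) hs)) (F₀.inv_mem ht)
        rw [hqst, smul_add, smul_smul, smul_smul, inv_mul_cancel₀ ht0, one_smul, neg_smul]
        abel
      -- `y → q₂`
      have hq₂y : B q₂ y = 0 := by
        rw [hq₂def, map_add, map_smul, map_smul, LinearMap.add_apply, LinearMap.smul_apply,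
          LinearMap.smul_apply, hpy, hqy, smul_zero, smul_zero, add_zero]
      refine move2 R S M G hS hG2 hHM hMO hN h7 hp hq₂ hy hQp hQq₂ hQy hpq₂ hpy hq₂y ?_ s1
      intro s t hs ht hyst
      apply hynot (s + t * α) (t * β) (F₀.add_mem hs (F₀.mul_mem ht hα)) (F₀.mul_mem ht hβ)
      rw [hyst, hq₂def]
      module
    · -- case (ii): a rational totally singular `3`-space
      push Not at hdep
      refine move2 R S M G hS hG2 hHM hMO hN h7 hp hq₂ hq hQp hQq₂ hQq hpq₂ hpq
        (by rw [hsymm, hqq₂]) ?_ h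
      intro s t hs ht hqst
      have ht0 : t ≠ 0 := by
        rintro rfl
        apply hiq s hs
        rw [hqst, zero_smul, add_zero]
      apply hdep (-(t⁻¹ * s)) t⁻¹ (F₀.neg_mem (F₀.mul_mem (F₀.inv_mem ht) hs)) (F₀.inv_mem ht)
      rw [hqst, smul_add, smul_smul, smul_smul, inv_mul_cancel₀ ht0, one_smul, neg_smul]
      abel
  · -- case (i): `q`, `q₂` not orthogonal
    obtain ⟨p', hp', hpp'⟩ := R.exists_rat_ne hN hp0
    obtain ⟨y, hy, hy0, hQy, hyl⟩ := R.rat_sing_perp [p, q, q₂, p']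
      (by
        intro v hv
        simp only [List.mem_cons, List.not_mem_nil, or_false] at hv
        rcases hv with rfl | rfl | rfl | rfl
        · exact hp
        · exact hq
        · exact hq₂
        · exact hp')
      (by simp only [List.length_cons, List.length_nil]; omega)
    have hyp : B y p = 0 := hyl p (by simp)
    have hyq : B y q = 0 := hyl q (by simp)
    have hyq₂ : B y q₂ = 0 := hyl q₂ (by simp)
    have hyp' : B y p' = 0 := hyl p' (by simp)
    have hpy : B p y = 0 := by rw [hsymm, hyp]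
    have hynotp : ∀ s : F, y ≠ s • p := by
      intro s hys
      have e1 : B y p' = s * B p p' := by
        rw [hys, map_smul, LinearMap.smul_apply, smul_eq_mul]
      rw [hyp'] at e1
      have hs0 : s = 0 := (mul_eq_zero.mp e1.symm).resolve_right hpp'
      apply hy0
      rw [hys, hs0, zero_smul]
    -- `q → y`
    have s1 : sieg Q B p (a • y) ∈ M := by
      refine move2 R S M G hS hG2 hHM hMO hN h7 hp hy hq hQp hQy hQq hpy hpq hyq ?_ h
      intro s t _ _ hqst
      apply hqq₂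
      rw [hqst, map_add, map_smul, map_smul, LinearMap.add_apply, LinearMap.smul_apply,
        LinearMap.smul_apply, hpq₂, hyq₂, smul_zero, smul_zero, add_zero]
    -- `y → q₂`
    refine move2 R S M G hS hG2 hHM hMO hN h7 hp hq₂ hy hQp hQq₂ hQy hpq₂ hpy
      (by rw [hsymm, hyq₂]) ?_ s1
    intro s t _ _ hyst
    have e1 : B y q = t * B q₂ q := by
      rw [hyst, map_add, map_smul, map_smul, LinearMap.add_apply, LinearMap.smul_apply,
        LinearMap.smul_apply, hpq, smul_zero, zero_add, smul_eq_mul]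
    rw [hyq] at e1
    have ht0 : t = 0 := by
      rcases mul_eq_zero.mp e1.symm with h0 | h0
      · exact h0
      · exact absurd (by rw [hsymm]; exact h0) hqq₂
    apply hynotp s
    rw [hyst, ht0, zero_smul, add_zero]

include R hS hG2 hHM hMO in
/-- The parameter set does not depend on the rational totally singular pair (`7 ≤ finrank`). -/
theorem par_transfer7 (hN : B.Nondegenerate) (h7 : 7 ≤ finrank F V) {u z u₀ z₀ : V}
    (P : RPair Q B F₀ V₀ u z) (P₀ : RPair Q B F₀ V₀ u₀ z₀) {a : F}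
    (h : sieg Q B u (a • z) ∈ M) : sieg Q B u₀ (a • z₀) ∈ M := by
  have hsymm := R.symm
  obtain ⟨u', hu', huu'⟩ := R.exists_rat_ne hN P.u0
  obtain ⟨u₀', hu₀', hu₀u₀'⟩ := R.exists_rat_ne hN P₀.u0
  obtain ⟨x, hx, hx0, hQx, hxl⟩ := R.rat_sing_perp [u, u₀, u', u₀']
    (by
      intro v hv
      simp only [List.mem_cons, List.not_mem_nil, or_false] at hv
      rcases hv with rfl | rfl | rfl | rfl
      · exact P.hu
      · exact P₀.hu
      · exact hu'
      · exact hu₀')
    (by simp only [List.length_cons, List.length_nil]; omega)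
  have hxu : B x u = 0 := hxl u (by simp)
  have hxu₀ : B x u₀ = 0 := hxl u₀ (by simp)
  have hxu' : B x u' = 0 := hxl u' (by simp)
  have hxu₀' : B x u₀' = 0 := hxl u₀' (by simp)
  have hux : B u x = 0 := by rw [hsymm, hxu]
  have hu₀x : B u₀ x = 0 := by rw [hsymm, hxu₀]
  have hxnu : ∀ t : F, x ≠ t • u := by
    intro t hxt
    have e1 : B x u' = t * B u u' := by
      rw [hxt, map_smul, LinearMap.smul_apply, smul_eq_mul]
    rw [hxu'] at e1
    have ht0 : t = 0 := (mul_eq_zero.mp e1.symm).resolve_right huu'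
    apply hx0
    rw [hxt, ht0, zero_smul]
  have hxnu₀ : ∀ t : F, x ≠ t • u₀ := by
    intro t hxt
    have e1 : B x u₀' = t * B u₀ u₀' := by
      rw [hxt, map_smul, LinearMap.smul_apply, smul_eq_mul]
    rw [hxu₀'] at e1
    have ht0 : t = 0 := (mul_eq_zero.mp e1.symm).resolve_right hu₀u₀'
    apply hx0
    rw [hxt, ht0, zero_smul]
  have hunx : ∀ t : F, t ∈ F₀ → u ≠ t • x := by
    intro t _ hut
    have ht0 : t ≠ 0 := by
      rintro rfl
      rw [zero_smul] at hut
      exact P.u0 hut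
    apply hxnu t⁻¹
    rw [hut, smul_smul, inv_mul_cancel₀ ht0, one_smul]
  have hu₀nx : ∀ t : F, t ∈ F₀ → u₀ ≠ t • x := by
    intro t _ hut
    have ht0 : t ≠ 0 := by
      rintro rfl
      rw [zero_smul] at hut
      exact P₀.u0 hut
    apply hxnu₀ t⁻¹
    rw [hut, smul_smul, inv_mul_cancel₀ ht0, one_smul]
  -- `(u, z) → (u, x)`
  have s1 : sieg Q B u (a • x) ∈ M :=
    same_first R S M G hS hG2 hHM hMO hN h7 P.hu P.hz hx P.Qu P.Qz hQx P.Buz hux P.u0 P.ind
      (fun t _ => hxnu t) h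
  -- `(u, x) → (x, u)`
  have s2 : sieg Q B x (a • u) ∈ M := R.par_symm M P.Qu hQx hux s1
  -- `(x, u) → (x, u₀)`
  have s3 : sieg Q B x (a • u₀) ∈ M :=
    same_first R S M G hS hG2 hHM hMO hN h7 hx P.hu P₀.hu hQx P.Qu P₀.Qu hxu hxu₀ hx0 hunx
      hu₀nx s2
  -- `(x, u₀) → (u₀, x)`
  have s4 : sieg Q B u₀ (a • x) ∈ M := R.par_symm M hQx P₀.Qu hxu₀ s3
  -- `(u₀, x) → (u₀, z₀)`
  exact same_first R S M G hS hG2 hHM hMO hN h7 P₀.hu hx P₀.hz P₀.Qu hQx P₀.Qz hu₀x P₀.Buz
    P₀.u0 (fun t _ => hxnu₀ t) P₀.ind s4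

include R in
/-- Existence of a rational totally singular pair (`7 ≤ finrank`). -/
lemma exists_rpair7 (hN : B.Nondegenerate) (h7 : 7 ≤ finrank F V) :
    ∃ u z : V, RPair Q B F₀ V₀ u z := by
  obtain ⟨x, hx, x', hx', hQx, hQx', hxx', -, -⟩ := R.rat_hyp hN [] (by simp)
    (by simp only [List.length_nil]; omega)
  obtain ⟨y, hy, y', hy', hQy, hQy', hyy', hyl, hy'l⟩ := R.rat_hyp hN [x, x']
    (by
      intro v hv
      simp only [List.mem_cons, List.not_mem_nil, or_false] at hv
      rcases hv with rfl | rfl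
      · exact hx
      · exact hx')
    (by simp only [List.length_cons, List.length_nil]; omega)
  have hyx : B y x = 0 := hyl x (by simp)
  have hy'x : B y' x = 0 := hy'l x (by simp)
  refine ⟨x, y, hx, hy, hQx, hQy, by rw [R.symm, hyx], ?_, ?_⟩
  · intro h0
    rw [h0, map_zero, LinearMap.zero_apply] at hxx'
    exact zero_ne_one hxx'
  · intro t _ hyt
    have h1 : B y y' = 0 := by
      rw [hyt, map_smul, LinearMap.smul_apply, R.symm x y', hy'x, smul_zero]
    rw [hyy'] at h1
    exact one_ne_zero h1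

include R hS hG2 hHM hMO in
/-- **The parameter field dichotomy** (`7 ≤ finrank`). -/
theorem par_dichotomy7 (hN : B.Nondegenerate) (h7 : 7 ≤ finrank F V)
    (hsimple : ∀ K : Subalgebra F₀ F, K = ⊥ ∨ K = ⊤) :
    (∀ u z : V, RPair Q B F₀ V₀ u z → ∀ c : F, sieg Q B u (c • z) ∈ M → c ∈ F₀) ∨
    (∀ u z : V, RPair Q B F₀ V₀ u z → ∀ c : F, sieg Q B u (c • z) ∈ M) := by
  have hsymm := R.symm
  obtain ⟨u₀, z₀, P₀⟩ := exists_rpair7 R hN h7
  have hu0z0 : ∀ c : F, B u₀ (c • z₀) = 0 := fun c => by rw [map_smul, P₀.Buz, smul_zero]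
  -- auxiliary hyperbolic pair
  obtain ⟨w, hw, w', hw', hQw, hQw', hww', hwl, hw'l⟩ := R.rat_hyp hN [u₀, z₀]
    (by
      intro v hv
      simp only [List.mem_cons, List.not_mem_nil, or_false] at hv
      rcases hv with rfl | rfl
      · exact P₀.hu
      · exact P₀.hz)
    (by simp only [List.length_cons, List.length_nil]; omega)
  have hwu₀ : B w u₀ = 0 := hwl u₀ (by simp)
  have hwz₀ : B w z₀ = 0 := hwl z₀ (by simp)
  have hw'u₀ : B w' u₀ = 0 := hw'l u₀ (by simp)
  have hw'z₀ : B w' z₀ = 0 := hw'l z₀ (by simp)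
  have hw0 : w ≠ 0 := by
    intro h0
    rw [h0, map_zero, LinearMap.zero_apply] at hww'
    exact zero_ne_one hww'
  have P₁ : RPair Q B F₀ V₀ u₀ w' := by
    refine ⟨P₀.hu, hw', P₀.Qu, hQw', by rw [hsymm, hw'u₀], P₀.u0, ?_⟩
    intro t _ h
    have h1 : B w w' = 0 := by rw [h, map_smul, hwu₀, smul_zero]
    rw [hww'] at h1
    exact one_ne_zero h1
  have P₂ : RPair Q B F₀ V₀ w z₀ := by
    refine ⟨hw, P₀.hz, hQw, P₀.Qz, hwz₀, hw0, ?_⟩
    intro t _ h
    have h2 : B w' z₀ = t := by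
      rw [h, map_smul, smul_eq_mul, hsymm w' w, hww', mul_one]
    rw [hw'z₀] at h2
    apply P₀.ind 0 F₀.zero_mem
    rw [h, ← h2, zero_smul, zero_smul]
  let A : Subalgebra F₀ F :=
    { carrier := {c | sieg Q B u₀ (c • z₀) ∈ M}
      mul_mem' := by
        intro a b ha hb
        have h1 : sieg Q B u₀ (a • w') ∈ M :=
          par_transfer7 R S M G hS hG2 hHM hMO hN h7 P₀ P₁ ha
        have h2 : sieg Q B w (b • z₀) ∈ M :=
          par_transfer7 R S M G hS hG2 hHM hMO hN h7 P₀ P₂ hb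
        have h3 := R.par_move M hMO P₀.Qu P₀.Qz hQw hQw' P₀.Buz (by rw [hsymm, hwu₀])
          (by rw [hsymm, hw'u₀]) (by rw [hsymm, hwz₀]) (by rw [hsymm, hw'z₀]) hww' h1 h2
        have h4 := M.inv_mem h3
        rw [sieg_inv Q B R.hQs R.hQp P₀.Qu (hu0z0 _), neg_smul, neg_neg] at h4
        exact h4
      one_mem' := by
        show sieg Q B u₀ ((1 : F) • z₀) ∈ M
        rw [one_smul]
        exact R.rat_sieg_mem S M G hS hG2 hHM P₀.hu P₀.hz P₀.Qu P₀.Buz
      add_mem' := by
        intro a b ha hb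
        show sieg Q B u₀ ((a + b) • z₀) ∈ M
        rw [add_smul, ← sieg_mul Q B R.hQs R.hQp P₀.Qu (hu0z0 a) (hu0z0 b)]
        exact M.mul_mem ha hb
      zero_mem' := by
        show sieg Q B u₀ ((0 : F) • z₀) ∈ M
        rw [zero_smul, sieg_zero_right Q B R.hQs R.hQp P₀.Qu]
        exact M.one_mem
      algebraMap_mem' := by
        intro c
        show sieg Q B u₀ ((c : F) • z₀) ∈ M
        exact R.rat_sieg_mem S M G hS hG2 hHM P₀.hu (R.smul_mem _ _ c.2 P₀.hz) P₀.Qu
          (hu0z0 _) }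
  rcases hsimple A with hA | hA
  · left
    intro u z P c hc
    have h1 : c ∈ A := par_transfer7 R S M G hS hG2 hHM hMO hN h7 P P₀ hc
    rw [hA] at h1
    obtain ⟨c₀, rfl⟩ := Algebra.mem_bot.mp h1
    exact c₀.2
  · right
    intro u z P c
    have h1 : c ∈ A := by rw [hA]; exact Algebra.mem_top
    exact par_transfer7 R S M G hS hG2 hHM hMO hN h7 P₀ P h1

end Transfer

end Cfsg.Agent.Lib.Helper59_QSub7
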