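import Mathlib
import Cfsg.Agent.Lib.Helper59_QSub7

/-!
# Orthogonal subfield groups in small dimension, part 2 (helper59)

Copies of helper94's `Helper94_QSub3/4/6` with the dimension hypotheses the proofs really use
(`5 ≤ finrank` for the full case, `7 ≤ finrank` for the rational-minors case, `11 ≤ finrank` for
the quadratic double-commutator lemma), and the maximality theorem `maximal_qsub7`
(`7 ≤ finrank`; the double-commutator alternative needs `11 ≤ finrank`).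
-/

set_option autoImplicit false
set_option linter.unusedSectionVars false
set_option linter.unusedVariables false
set_option linter.unusedSimpArgs false

namespace Cfsg.Agent.Lib.Helper59_QSub7

open Module Matrix Cfsg.Agent.Lib.Helper94_Symp Cfsg.Agent.Lib.Helper94_OrthSmall
  Cfsg.Agent.Lib.Helper94_OrthSiegel Cfsg.Agent.Lib.Helper94_OrthSiegel2
  Cfsg.Agent.Lib.Helper94_OrthPara Cfsg.Agent.Lib.Helper94_OrthNondeg
  Cfsg.Agent.Lib.Helper94_OrthUni Cfsg.Agent.Lib.Helper94_QSub Cfsg.Agent.Lib.Helper50_SL2Mat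
  Cfsg.Agent.Lib.Helper83_SL2GenBasic
open scoped MatrixGroups

variable {F V : Type*} [Field F] [AddCommGroup V] [Module F V]
variable {Q : V → F} {B : LinearMap.BilinForm F V} {F₀ : Subfield F} {V₀ : AddSubgroup V}

section Full


variable (R : QStr Q B F₀ V₀)

variable (M : Subgroup (V ≃ₗ[F] V)) (hMO : M ≤ oG Q)
  (hall : ∀ u z : V, RPair Q B F₀ V₀ u z → ∀ c : F, sieg Q B u (c • z) ∈ M)

variable [Finite F] [FiniteDimensional F V]

include R hall in
/-- All Siegel elements with rational singular first vector. -/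
lemma rat_full5 (hN : B.Nondegenerate) (h5 : 5 ≤ finrank F V) {u : V} (hu : u ∈ V₀)
    (hQu : Q u = 0) {z : V} (huz : B u z = 0) : sieg Q B u z ∈ M := by
  have hsymm := R.symm
  by_cases hu0 : u = 0
  · rw [hu0, sieg_zero_left Q B R.hQs R.hQp]
    exact M.one_mem
  have huu : B u u = 0 := by rw [B_self Q B R.hQs R.hQp, hQu, mul_zero]
  let T : Submodule F V :=
    { carrier := {z | B u z = 0 ∧ ∀ c : F, sieg Q B u (c • z) ∈ M}
      add_mem' := by
        rintro a b ⟨ha, ha'⟩ ⟨hb, hb'⟩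
        refine ⟨by rw [map_add, ha, hb, add_zero], fun c => ?_⟩
        rw [smul_add, ← sieg_mul Q B R.hQs R.hQp hQu (by rw [map_smul, ha, smul_zero])
          (by rw [map_smul, hb, smul_zero])]
        exact M.mul_mem (ha' c) (hb' c)
      zero_mem' := by
        refine ⟨by simp, fun c => ?_⟩
        rw [smul_zero, sieg_zero_right Q B R.hQs R.hQp hQu]
        exact M.one_mem
      smul_mem' := by
        rintro d a ⟨ha, ha'⟩
        refine ⟨by rw [map_smul, ha, smul_zero], fun c => ?_⟩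
        rw [smul_smul]
        exact ha' _ }
  have hTmem : ∀ z, z ∈ T ↔ B u z = 0 ∧ ∀ c : F, sieg Q B u (c • z) ∈ M := fun z => Iff.rfl
  -- rational singular vectors orthogonal to `u`
  have h1 : ∀ s ∈ V₀, Q s = 0 → B s u = 0 → s ∈ T := by
    intro s hs hQs hsu
    have hus : B u s = 0 := by rw [hsymm, hsu]
    rw [hTmem]
    refine ⟨hus, fun c => ?_⟩
    by_cases hind : ∀ t : F, t ∈ F₀ → s ≠ t • u
    · exact hall u s ⟨hu, hs, hQu, hQs, hus, hu0, hind⟩ c
    · push Not at hind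
      obtain ⟨t, -, rfl⟩ := hind
      have e : c • t • u = 0 + (c * t) • u := by rw [zero_add, mul_smul]
      rw [e, sieg_add_smul Q B R.hQs R.hQp hQu (by simp), sieg_zero_right Q B R.hQs R.hQp hQu]
      exact M.one_mem
  -- rational vectors orthogonal to `u`
  have h2 : ∀ v ∈ V₀, B v u = 0 → v ∈ T := by
    intro v hv hvu
    obtain ⟨s₁, hs₁, s₂, hs₂, hQ₁, hQ₂, h₁u, h₂u, rfl⟩ :=
      R.rat_two_sing hN (by omega) hu hv hQu hvu
    exact T.add_mem (h1 s₁ hs₁ hQ₁ h₁u) (h1 s₂ hs₂ hQ₂ h₂u)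
  obtain ⟨w, hw, huw⟩ := R.exists_dual hN hu hu0
  have h3 : ∀ y : V, y - B y u • w ∈ T := by
    intro y
    have hy := R.span y
    induction hy using Submodule.span_induction with
    | mem v hv =>
      apply h2 _ (V₀.sub_mem hv (R.smul_mem _ _ (R.bval hv hu) hw))
      rw [map_sub, LinearMap.sub_apply, map_smul, LinearMap.smul_apply, hsymm w u, huw,
        smul_eq_mul, mul_one, sub_self]
    | zero => simp
    | add a b _ _ ha hb =>
      have e : a + b - B (a + b) u • w = (a - B a u • w) + (b - B b u • w) := by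
        rw [map_add, LinearMap.add_apply]; module
      rw [e]
      exact T.add_mem ha hb
    | smul c a _ ha =>
      have e : c • a - B (c • a) u • w = c • (a - B a u • w) := by
        rw [map_smul, LinearMap.smul_apply, smul_eq_mul]; module
      rw [e]
      exact T.smul_mem c ha
  have h4 := h3 z
  rw [hsymm z u, huz, zero_smul, sub_zero] at h4
  have h5 := ((hTmem z).mp h4).2 1
  rwa [one_smul] at h5

include R hMO hall in
/-- **All Siegel elements lie in the overgroup.** -/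
theorem all_full5 (hN : B.Nondegenerate) (h5 : 5 ≤ finrank F V) {x z : V} (hQx : Q x = 0)
    (hxz : B x z = 0) : sieg Q B x z ∈ M := by
  have hsymm := R.symm
  by_cases hx0 : x = 0
  · rw [hx0, sieg_zero_left Q B R.hQs R.hQp]
    exact M.one_mem
  obtain ⟨u, hu, hQu, hxu⟩ := R.exists_rat_sing_ne hN (by omega) hx0
  have hu0 : u ≠ 0 := by
    intro h0
    rw [h0, map_zero] at hxu
    exact hxu rfl
  obtain ⟨u', hu', hQu', hu'u⟩ := R.rat_sno0 hN (by omega) hu hu0
  have huu' : B u u' ≠ 0 := by rw [hsymm]; exact hu'u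
  have hxx : B x x = 0 := by rw [B_self Q B R.hQs R.hQp, hQx, mul_zero]
  obtain ⟨lam, hlam⟩ : ∃ lam : F, lam = B u x / B u u' := ⟨_, rfl⟩
  have hux : B u x ≠ 0 := by rw [hsymm]; exact hxu
  have hlam0 : lam ≠ 0 := by rw [hlam]; exact div_ne_zero hux huu'
  obtain ⟨x', hx'⟩ : ∃ x' : V, x' = lam • u' := ⟨_, rfl⟩
  have hQx' : Q x' = 0 := by rw [hx', R.hQs, hQu', mul_zero]
  have hux' : B u x' = B u x := by
    rw [hx', map_smul, smul_eq_mul, hlam]
    field_simp
  obtain ⟨z₀, hz₀⟩ : ∃ z₀ : V, z₀ = (B x u)⁻¹ • (x' - x) := ⟨_, rfl⟩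
  have huz₀ : B u z₀ = 0 := by
    rw [hz₀, map_smul, map_sub, hux', sub_self, smul_zero]
  have hE : sieg Q B u z₀ ∈ M := rat_full5 R M hall hN h5 hu hQu huz₀
  have hQz₀ : Q z₀ = -(B x x') / (B x u * B x u) := by
    rw [hz₀, R.hQs]
    have e : x' - x = x' + (-1 : F) • x := by module
    rw [e, Q_add_smul Q B R.hQs R.hQp, hQx', hQx, hsymm x' x]
    field_simp
    ring
  have hEx : sieg Q B u z₀ x = x' := by
    rw [sieg_apply Q B R.hQs R.hQp hQu huz₀, hQz₀]
    have e1 : B x z₀ = B x x' / B x u := by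
      rw [hz₀, map_smul, map_sub, hxx, sub_zero, smul_eq_mul]
      field_simp
    rw [e1, hz₀]
    have e2 : -(B x x') / (B x u * B x u) * B x u = -(B x x' / B x u) := by
      field_simp
    rw [e2, smul_smul, mul_inv_cancel₀ hxu]
    module
  have hEO : sieg Q B u z₀ ∈ oG Q := hMO hE
  have hconj := conj_sieg Q B R.hQs R.hQp hEO hQx hxz
  rw [hEx, hx'] at hconj
  have hu'Ez : B u' (sieg Q B u z₀ z) = 0 := by
    have h1 : B (sieg Q B u z₀ x) (sieg Q B u z₀ z) = 0 := by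
      rw [oG_B Q B R.hQp hEO, hxz]
    rw [hEx, hx', map_smul, LinearMap.smul_apply, smul_eq_mul] at h1
    rcases mul_eq_zero.mp h1 with h | h
    · exact absurd h hlam0
    · exact h
  rw [sieg_smul_left Q B R.hQs R.hQp hQu' hu'Ez] at hconj
  have h2 : sieg Q B u' (lam • sieg Q B u z₀ z) ∈ M :=
    rat_full5 R M hall hN h5 hu' hQu' (by rw [map_smul, hu'Ez, smul_zero])
  rw [← hconj] at h2
  have h3 := M.mul_mem (M.mul_mem (M.inv_mem hE) h2) hE
  have e : (sieg Q B u z₀)⁻¹ * (sieg Q B u z₀ * sieg Q B x z * (sieg Q B u z₀)⁻¹) *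
      sieg Q B u z₀ = sieg Q B x z := by group
  rwa [e] at h3


end Full

section Minors

variable (R : QStr Q B F₀ V₀)

variable [Finite F] [FiniteDimensional F V]

variable (k : V ≃ₗ[F] V) (hk : k ∈ oG Q)
  (hmin : ∀ u w t y : V, u ∈ V₀ → w ∈ V₀ → t ∈ V₀ → y ∈ V₀ → Q u = 0 → Q w = 0 → Q t = 0 →
    Q y = 0 → B u w = 0 → B t y = 0 → B (k u) t * B (k w) y - B (k u) y * B (k w) t ∈ F₀)

include R hmin in
/-- First step: the skew map of the image of a rational totally singular pair maps a rational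
singular vector `t` into `V₀ + F t`. -/
lemma nm_kappa7 (hN : B.Nondegenerate) (h7 : 7 ≤ finrank F V) {u w : V} (hu : u ∈ V₀)
    (hw : w ∈ V₀) (hQu : Q u = 0) (hQw : Q w = 0) (huw : B u w = 0) {t : V} (ht : t ∈ V₀)
    (hQt : Q t = 0) (ht0 : t ≠ 0) : ∃ κ : F, nm B (k u) (k w) t - κ • t ∈ V₀ := by
  have hsymm := R.symm
  apply R.dual_perp hN ht ht0
  intro v hv hvt
  obtain ⟨s₁, hs₁, s₂, hs₂, hQ₁, hQ₂, h₁t, h₂t, rfl⟩ :=
    R.rat_two_sing hN (by omega) ht hv hQt hvt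
  have key : ∀ s ∈ V₀, Q s = 0 → B s t = 0 → B (nm B (k u) (k w) t) s ∈ F₀ := by
    intro s hs hQs hst
    have h1 := hmin u w t s hu hw ht hs hQu hQw hQt hQs huw (by rw [hsymm, hst])
    have e : B (nm B (k u) (k w) t) s =
        B (k u) t * B (k w) s - B (k u) s * B (k w) t := by
      unfold nm
      simp only [map_sub, map_smul, LinearMap.sub_apply, LinearMap.smul_apply, smul_eq_mul]
      rw [hsymm t (k u), hsymm t (k w)]
      ring
    rw [e]
    exact h1
  rw [map_add]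
  exact F₀.add_mem (key s₁ hs₁ hQ₁ h₁t) (key s₂ hs₂ hQ₂ h₂t)

include R hmin in
/-- Second step: the skew map of the image of a rational totally singular pair preserves the
rational structure. -/
lemma nm_rat7 (hN : B.Nondegenerate) (h7 : 7 ≤ finrank F V) (h2 : (2 : F) ≠ 0) {u w : V}
    (hu : u ∈ V₀) (hw : w ∈ V₀) (hQu : Q u = 0) (hQw : Q w = 0) (huw : B u w = 0) {v : V}
    (hv : v ∈ V₀) : nm B (k u) (k w) v ∈ V₀ := by
  have hsymm := R.symm
  -- singular vectors first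
  have key : ∀ t ∈ V₀, Q t = 0 → nm B (k u) (k w) t ∈ V₀ := by
    intro t ht hQt
    by_cases ht0 : t = 0
    · rw [ht0, nm_zero]; exact V₀.zero_mem
    obtain ⟨κt, hκt⟩ := nm_kappa7 R k hmin hN h7 hu hw hQu hQw huw ht hQt ht0
    obtain ⟨y, hy, hQy, hyt⟩ := R.rat_sno0 hN (by omega) ht ht0
    have hy0 : y ≠ 0 := by
      intro h0
      rw [h0, map_zero, LinearMap.zero_apply] at hyt
      exact hyt rfl
    have hty : B t y ≠ 0 := by rw [hsymm]; exact hyt
    obtain ⟨x₁, hx₁, x₂, hx₂, hQx₁, hQx₂, hx₁x₂, hx₁l, hx₂l⟩ := R.rat_hyp hN [t, y]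
      (by
        intro v hv
        simp only [List.mem_cons, List.not_mem_nil, or_false] at hv
        rcases hv with rfl | rfl
        · exact ht
        · exact hy)
      (by simp only [List.length_cons, List.length_nil]; omega)
    have hx₁t : B x₁ t = 0 := hx₁l t (by simp)
    have hx₁y : B x₁ y = 0 := hx₁l y (by simp)
    have hx₂t : B x₂ t = 0 := hx₂l t (by simp)
    have hx₂y : B x₂ y = 0 := hx₂l y (by simp)
    obtain ⟨α, hα⟩ : ∃ α : F, α = -(B t y)⁻¹ := ⟨_, rfl⟩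
    have hαm : α ∈ F₀ := by
      rw [hα]; exact F₀.neg_mem (F₀.inv_mem (R.bval ht hy))
    obtain ⟨s, hs⟩ : ∃ s : V, s = t + α • y + (x₁ + x₂) := ⟨_, rfl⟩
    have hsm : s ∈ V₀ := by
      rw [hs]
      exact V₀.add_mem (V₀.add_mem ht (R.smul_mem _ _ hαm hy)) (V₀.add_mem hx₁ hx₂)
    have hQs : Q s = 0 := by
      rw [hs, R.hQp, R.hQp x₁ x₂, hQx₁, hQx₂, hx₁x₂, Q_add_smul Q B R.hQs R.hQp, hQt, hQy]
      simp only [map_add, map_smul, LinearMap.add_apply, LinearMap.smul_apply, smul_eq_mul,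
        hsymm t x₁, hsymm t x₂, hsymm y x₁, hsymm y x₂, hx₁t, hx₂t, hx₁y, hx₂y]
      rw [hα]
      field_simp
      ring
    have hst : B s t ≠ 0 := by
      have htt : B t t = 0 := by rw [B_self Q B R.hQs R.hQp, hQt, mul_zero]
      have e : B s t = -1 := by
        rw [hs]
        simp only [map_add, map_smul, LinearMap.add_apply, LinearMap.smul_apply, smul_eq_mul,
          htt, hx₁t, hx₂t, hsymm y t, hα]
        field_simp
        ring
      rw [e]
      exact neg_ne_zero.mpr one_ne_zero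
    have hsy : B s y ≠ 0 := by
      have hyy : B y y = 0 := by rw [B_self Q B R.hQs R.hQp, hQy, mul_zero]
      have e : B s y = B t y := by
        rw [hs]
        simp only [map_add, map_smul, LinearMap.add_apply, LinearMap.smul_apply, smul_eq_mul,
          hyy, hx₁y, hx₂y]
        ring
      rw [e]
      exact hty
    have hs0 : s ≠ 0 := by
      intro h0
      rw [h0, map_zero, LinearMap.zero_apply] at hst
      exact hst rfl
    obtain ⟨κy, hκy⟩ := nm_kappa7 R k hmin hN h7 hu hw hQu hQw huw hy hQy hy0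
    obtain ⟨κs, hκs⟩ := nm_kappa7 R k hmin hN h7 hu hw hQu hQw huw hsm hQs hs0
    have a1 := R.kappa_add ht hy hκt hκy hty
    have a2 := R.kappa_add ht hsm hκt hκs (by rw [hsymm]; exact hst)
    have a3 := R.kappa_add hy hsm hκy hκs (by rw [hsymm]; exact hsy)
    have hκm : κt ∈ F₀ := by
      have e : κt = ((κt + κy) + (κt + κs) - (κy + κs)) / 2 := by
        field_simp
        ring
      rw [e]
      refine F₀.div_mem (F₀.sub_mem (F₀.add_mem a1 a2) a3) ?_
      exact F₀.add_mem F₀.one_mem F₀.one_mem |> fun h => by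
        have e2 : (2 : F) = 1 + 1 := by norm_num
        rw [e2]; exact h
    have e : nm B (k u) (k w) t = (nm B (k u) (k w) t - κt • t) + κt • t := by abel
    rw [e]
    exact V₀.add_mem hκt (R.smul_mem _ _ hκm ht)
  obtain ⟨s₁, hs₁, s₂, hs₂, hQ₁, hQ₂, -, -, rfl⟩ :=
    R.rat_two_sing hN (by omega) V₀.zero_mem hv (Q_zero Q R.hQs) (by simp)
  rw [nm_add]
  exact V₀.add_mem (key s₁ hs₁ hQ₁) (key s₂ hs₂ hQ₂)

include R hk hmin in
/-- Third step: the image of a rational singular vector is a rational point. -/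
lemma pt_rat7 (hN : B.Nondegenerate) (h7 : 7 ≤ finrank F V) (h2 : (2 : F) ≠ 0) {u : V}
    (hu : u ∈ V₀) (hQu : Q u = 0) : ∃ μ : F, ∃ v ∈ V₀, k u = μ • v := by
  have hsymm := R.symm
  by_cases hu0 : u = 0
  · exact ⟨1, 0, V₀.zero_mem, by rw [hu0, map_zero, smul_zero]⟩
  obtain ⟨w, hw, w', hw', hQw, hQw', hww', hwl, hw'l⟩ := R.rat_hyp hN [u]
    (by
      intro v hv
      simp only [List.mem_cons, List.not_mem_nil, or_false] at hv
      rw [hv]; exact hu)
    (by simp only [List.length_cons, List.length_nil]; omega)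
  have hwu : B w u = 0 := hwl u (by simp)
  have hw'u : B w' u = 0 := hw'l u (by simp)
  have hku0 : k u ≠ 0 := fun h0 => hu0 (by simpa using h0)
  obtain ⟨x, hx, hax⟩ := R.exists_rat_ne hN hku0
  have h1 : nm B (k u) (k w') x ∈ V₀ :=
    nm_rat7 R k hmin hN h7 h2 hu hw' hQu hQw' (by rw [hsymm, hw'u]) hx
  have h3 : nm B (k u) (k w) (nm B (k u) (k w') x) ∈ V₀ :=
    nm_rat7 R k hmin hN h7 h2 hu hw hQu hQw (by rw [hsymm, hwu]) h1
  have huu : B u u = 0 := by rw [B_self Q B R.hQs R.hQp, hQu, mul_zero]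
  have e : nm B (k u) (k w) (nm B (k u) (k w') x) = (-(B x (k u))) • k u := by
    unfold nm
    simp only [map_sub, map_smul, LinearMap.sub_apply, LinearMap.smul_apply, smul_eq_mul,
      oG_B Q B R.hQp hk, huu, hw'u, hwu, hsymm u w, hsymm u w', hsymm w' w, hww', mul_zero,
      mul_one, sub_zero, zero_smul, zero_sub]
    module
  rw [e] at h3
  have hxa : B x (k u) ≠ 0 := by rw [hsymm]; exact hax
  refine ⟨(-(B x (k u)))⁻¹, _, h3, ?_⟩
  rw [smul_smul, inv_mul_cancel₀ (neg_ne_zero.mpr hxa), one_smul]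

include R hk hmin in
/-- Fourth step: compatibility of the scalars along a rational totally singular pair. -/
lemma scalar_compat7 (hN : B.Nondegenerate) (h7 : 7 ≤ finrank F V) (h2 : (2 : F) ≠ 0)
    {u₁ u₂ : V} (P : RPair Q B F₀ V₀ u₁ u₂) {μ₁ : F} {v₁ : V} (hv₁ : v₁ ∈ V₀)
    (h1 : k u₁ = μ₁ • v₁) : ∃ v₂ ∈ V₀, k u₂ = μ₁ • v₂ := by
  have hsymm := R.symm
  have hu₂0 : u₂ ≠ 0 := by
    intro h0
    exact P.ind 0 F₀.zero_mem (by rw [h0, zero_smul])
  have hk1 : k u₁ ≠ 0 := fun h0 => P.u0 (by simpa using h0)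
  have hk2 : k u₂ ≠ 0 := fun h0 => hu₂0 (by simpa using h0)
  have hμ₁ : μ₁ ≠ 0 := by
    intro h0
    rw [h0, zero_smul] at h1
    exact hk1 h1
  have hv₁0 : v₁ ≠ 0 := by
    intro h0
    rw [h0, smul_zero] at h1
    exact hk1 h1
  obtain ⟨μ₂, v₂, hv₂, h2'⟩ := pt_rat7 R k hk hmin hN h7 h2 P.hz P.Qz
  have hμ₂ : μ₂ ≠ 0 := by
    intro h0
    rw [h0, zero_smul] at h2'
    exact hk2 h2'
  have hv₂0 : v₂ ≠ 0 := by
    intro h0
    rw [h0, smul_zero] at h2'
    exact hk2 h2'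
  have hQ12 : Q (u₁ + u₂) = 0 := by rw [R.hQp, P.Qu, P.Qz, P.Buz]; ring
  obtain ⟨μ₃, v₃, hv₃, h3⟩ := pt_rat7 R k hk hmin hN h7 h2 (V₀.add_mem P.hu P.hz) hQ12
  rw [map_add, h1, h2'] at h3
  -- `v₁` is not a rational multiple of `v₂`
  have hind : ∀ t : F, t ∈ F₀ → v₁ ≠ t • v₂ := by
    intro t ht hv
    have e : k u₁ = k ((μ₁ * t / μ₂) • u₂) := by
      rw [map_smul, h1, h2', hv, smul_smul, smul_smul]
      congr 1
      field_simp
    have e' : u₁ = (μ₁ * t / μ₂) • u₂ := k.injective e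
    have hcm : μ₁ * t / μ₂ ∈ F₀ := R.mem_of_smul hN P.hz hu₂0 (by rw [← e']; exact P.hu)
    have hc0 : μ₁ * t / μ₂ ≠ 0 := by
      intro h0
      rw [h0, zero_smul] at e'
      exact P.u0 e'
    apply P.ind (μ₁ * t / μ₂)⁻¹ (F₀.inv_mem hcm)
    rw [e', smul_smul, inv_mul_cancel₀ hc0, one_smul]
  have hind' : ∀ t : F, t ∈ F₀ → v₂ ≠ t • v₁ := by
    intro t ht hv
    have ht0 : t ≠ 0 := by
      intro h0
      rw [h0, zero_smul] at hv
      exact hv₂0 hv
    apply hind t⁻¹ (F₀.inv_mem ht)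
    rw [hv, smul_smul, inv_mul_cancel₀ ht0, one_smul]
  obtain ⟨y₁, hy₁, -, hy₁v₂, hy₁v₁⟩ := R.rat_sno hN (by omega) hv₂ hv₁ hind
  obtain ⟨y₂, hy₂, -, hy₂v₁, hy₂v₂⟩ := R.rat_sno hN (by omega) hv₁ hv₂ hind'
  have p1 : μ₁ * B y₁ v₁ = μ₃ * B y₁ v₃ := by
    have := congrArg (fun z => B y₁ z) h3
    simp only [map_add, map_smul, smul_eq_mul, hy₁v₂, mul_zero, add_zero] at this
    exact this
  have p2 : μ₂ * B y₂ v₂ = μ₃ * B y₂ v₃ := by
    have := congrArg (fun z => B y₂ z) h3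
    simp only [map_add, map_smul, smul_eq_mul, hy₂v₁, mul_zero, zero_add] at this
    exact this
  have hμ₃ : μ₃ ≠ 0 := by
    intro h0
    rw [h0, zero_mul] at p1
    rcases mul_eq_zero.mp p1 with h | h
    · exact hμ₁ h
    · exact hy₁v₁ h
  have hy₁v₃ : B y₁ v₃ ≠ 0 := by
    intro h0
    rw [h0, mul_zero] at p1
    rcases mul_eq_zero.mp p1 with h | h
    · exact hμ₁ h
    · exact hy₁v₁ h
  obtain ⟨c, hc⟩ : ∃ c : F, c = (B y₂ v₃ / B y₂ v₂) * (B y₁ v₁ / B y₁ v₃) := ⟨_, rfl⟩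
  have hcm : c ∈ F₀ := by
    rw [hc]
    exact F₀.mul_mem (F₀.div_mem (R.bval hy₂ hv₃) (R.bval hy₂ hv₂))
      (F₀.div_mem (R.bval hy₁ hv₁) (R.bval hy₁ hv₃))
  have hμ : μ₂ = μ₁ * c := by
    rw [hc]
    have e1 : μ₂ = μ₃ * B y₂ v₃ / B y₂ v₂ := by
      rw [← p2, mul_div_assoc, div_self hy₂v₂, mul_one]
    have e2 : μ₃ = μ₁ * B y₁ v₁ / B y₁ v₃ := by
      rw [p1, mul_div_assoc, div_self hy₁v₃, mul_one]
    rw [e1, e2]
    field_simp
  refine ⟨c • v₂, R.smul_mem _ _ hcm hv₂, ?_⟩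
  rw [h2', hμ, mul_smul]

include R hk hmin in
/-- **Rational minors force the isometry to map the rational structure to a multiple of
itself.** -/
theorem rat_of_minors7 (hN : B.Nondegenerate) (h7 : 7 ≤ finrank F V) (h2 : (2 : F) ≠ 0) :
    ∃ μ : F, μ ≠ 0 ∧ ∀ v ∈ V₀, ∃ w ∈ V₀, k v = μ • w := by
  have hsymm := R.symm
  obtain ⟨u₀, z₀, P₀⟩ := exists_rpair7 R hN h7
  obtain ⟨μ₀, v₀, hv₀, h0⟩ := pt_rat7 R k hk hmin hN h7 h2 P₀.hu P₀.Qu
  have hk0 : k u₀ ≠ 0 := fun h => P₀.u0 (by simpa using h)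
  have hμ₀ : μ₀ ≠ 0 := by
    intro h
    rw [h, zero_smul] at h0
    exact hk0 h0
  refine ⟨μ₀, hμ₀, ?_⟩
  -- singular vectors
  have key : ∀ u ∈ V₀, Q u = 0 → ∃ w ∈ V₀, k u = μ₀ • w := by
    intro u hu hQu
    by_cases hu0 : u = 0
    · exact ⟨0, V₀.zero_mem, by rw [hu0, map_zero, smul_zero]⟩
    obtain ⟨x, hx, x', hx', hQx, hQx', hxx', hxl, hx'l⟩ := R.rat_hyp hN [u₀, u]
      (by
        intro v hv
        simp only [List.mem_cons, List.not_mem_nil, or_false] at hv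
        rcases hv with rfl | rfl
        · exact P₀.hu
        · exact hu)
      (by simp only [List.length_cons, List.length_nil]; omega)
    have hxu₀ : B x u₀ = 0 := hxl u₀ (by simp)
    have hxu : B x u = 0 := hxl u (by simp)
    have hx'u₀ : B x' u₀ = 0 := hx'l u₀ (by simp)
    have hx'u : B x' u = 0 := hx'l u (by simp)
    have hx0 : x ≠ 0 := by
      intro h
      rw [h, map_zero, LinearMap.zero_apply] at hxx'
      exact zero_ne_one hxx'
    have P₁ : RPair Q B F₀ V₀ u₀ x := by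
      refine ⟨P₀.hu, hx, P₀.Qu, hQx, by rw [hsymm, hxu₀], P₀.u0, ?_⟩
      intro t _ h
      have h1 : B x x' = 0 := by
        rw [h, map_smul, LinearMap.smul_apply, hsymm u₀ x', hx'u₀, smul_zero]
      rw [hxx'] at h1
      exact one_ne_zero h1
    have P₂ : RPair Q B F₀ V₀ x u := by
      refine ⟨hx, hu, hQx, hQu, hxu, hx0, ?_⟩
      intro t _ h
      have h1 : B x' u = t := by
        rw [h, map_smul, smul_eq_mul, hsymm x' x, hxx', mul_one]
      rw [hx'u] at h1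
      apply hu0
      rw [h, ← h1, zero_smul]
    obtain ⟨v₁, hv₁, e1⟩ := scalar_compat7 R k hk hmin hN h7 h2 P₁ hv₀ h0
    exact scalar_compat7 R k hk hmin hN h7 h2 P₂ hv₁ e1
  intro v hv
  obtain ⟨s₁, hs₁, s₂, hs₂, hQ₁, hQ₂, -, -, rfl⟩ :=
    R.rat_two_sing hN (by omega) V₀.zero_mem hv (Q_zero Q R.hQs) (by simp)
  obtain ⟨w₁, hw₁, e1⟩ := key s₁ hs₁ hQ₁
  obtain ⟨w₂, hw₂, e2⟩ := key s₂ hs₂ hQ₂
  exact ⟨w₁ + w₂, V₀.add_mem hw₁ hw₂, by rw [map_add, e1, e2, smul_add]⟩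


end Minors

section Two

variable (R : QStr Q B F₀ V₀)

variable (S M G : Subgroup (V ≃ₗ[F] V))
  (hS : ∀ g, g ∈ S ↔ ∃ μ : F, μ ≠ 0 ∧ ∀ v ∈ V₀, ∃ w ∈ V₀, g v = μ • w)
  (hG2 : ∀ u z, Q u = 0 → B u z = 0 → sieg Q B u z ∈ G)
  (hHM : S ⊓ G ≤ M) (hMO : M ≤ oG Q)

variable [Finite F] [FiniteDimensional F V]

include R hS hG2 hHM hMO in
/-- **Rationality of the minors in the quadratic case.** -/
theorem minor_rat_of_two11 (hN : B.Nondegenerate) (h11 : 11 ≤ finrank F V)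
    (hA0 : ∀ u z : V, RPair Q B F₀ V₀ u z → ∀ c : F, sieg Q B u (c • z) ∈ M → c ∈ F₀)
    {ω : F} (hdec : ∀ c : F, ∃ c₁ ∈ F₀, ∃ c₂ ∈ F₀, c = c₁ + c₂ * ω)
    {k : V ≃ₗ[F] V} (hk : k ∈ M) {u w t y : V}
    (hu : u ∈ V₀) (hw : w ∈ V₀) (ht : t ∈ V₀) (hy : y ∈ V₀) (hQu : Q u = 0) (hQw : Q w = 0)
    (hQt : Q t = 0) (hQy : Q y = 0) (huw : B u w = 0) (hty : B t y = 0) :
    B (k u) t * B (k w) y - B (k u) y * B (k w) t ∈ F₀ := by
  have hsymm := R.symm
  have hkO : k ∈ oG Q := hMO hk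
  obtain ⟨a, ha⟩ : ∃ a : V, a = k u := ⟨_, rfl⟩
  obtain ⟨b, hb⟩ : ∃ b : V, b = k w := ⟨_, rfl⟩
  rw [← ha, ← hb]
  have hQa : Q a = 0 := by rw [ha, hkO, hQu]
  have hQb : Q b = 0 := by rw [hb, hkO, hQw]
  have hab : B a b = 0 := by rw [ha, hb, oG_B Q B R.hQp hkO, huw]
  obtain ⟨a₁, ha₁, a₂, ha₂, hadec⟩ := R.vdec hdec a
  obtain ⟨b₁, hb₁, b₂, hb₂, hbdec⟩ := R.vdec hdec b
  -- the first rational singular vector
  obtain ⟨p, hp, hp0, hQp, hpl⟩ := R.rat_sing_perp [a₁, a₂, b₁, b₂, t, y]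
    (by
      intro v hv
      simp only [List.mem_cons, List.not_mem_nil, or_false] at hv
      rcases hv with rfl | rfl | rfl | rfl | rfl | rfl
      · exact ha₁
      · exact ha₂
      · exact hb₁
      · exact hb₂
      · exact ht
      · exact hy)
    (by simp only [List.length_cons, List.length_nil]; omega)
  have hpa : B p a = 0 := by
    rw [hadec, map_add, map_smul, hpl a₁ (by simp), hpl a₂ (by simp), smul_zero, add_zero]
  have hpb : B p b = 0 := by
    rw [hbdec, map_add, map_smul, hpl b₁ (by simp), hpl b₂ (by simp), smul_zero, add_zero]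
  have hpt : B p t = 0 := hpl t (by simp)
  have hpy : B p y = 0 := hpl y (by simp)
  obtain ⟨p', hp', hpp'⟩ := R.exists_dual hN hp hp0
  -- the second rational singular vector
  obtain ⟨p₂, hp₂, hp₂0, hQp₂, hp₂l⟩ := R.rat_sing_perp [a₁, a₂, b₁, b₂, t, y, p, p']
    (by
      intro v hv
      simp only [List.mem_cons, List.not_mem_nil, or_false] at hv
      rcases hv with rfl | rfl | rfl | rfl | rfl | rfl | rfl | rfl
      · exact ha₁
      · exact ha₂
      · exact hb₁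
      · exact hb₂
      · exact ht
      · exact hy
      · exact hp
      · exact hp')
    (by simp only [List.length_cons, List.length_nil]; omega)
  have hp₂a : B p₂ a = 0 := by
    rw [hadec, map_add, map_smul, hp₂l a₁ (by simp), hp₂l a₂ (by simp), smul_zero, add_zero]
  have hp₂b : B p₂ b = 0 := by
    rw [hbdec, map_add, map_smul, hp₂l b₁ (by simp), hp₂l b₂ (by simp), smul_zero, add_zero]
  have hp₂y : B p₂ y = 0 := hp₂l y (by simp)
  have hp₂p : B p₂ p = 0 := hp₂l p (by simp)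
  have hp₂p' : B p₂ p' = 0 := hp₂l p' (by simp)
  have P : RPair Q B F₀ V₀ p₂ p := by
    refine ⟨hp₂, hp, hQp₂, hQp, hp₂p, hp₂0, ?_⟩
    intro c _ h
    have h1 : B p p' = 0 := by
      rw [h, map_smul, LinearMap.smul_apply, hp₂p', smul_zero]
    rw [hpp'] at h1
    exact one_ne_zero h1
  -- the conjugate root element
  have hg₁ : sieg Q B a b ∈ M := by
    rw [ha, hb, ← conj_sieg Q B R.hQs R.hQp hkO hQu huw]
    exact M.mul_mem (M.mul_mem hk (R.rat_sieg_mem S M G hS hG2 hHM hu hw hQu huw)) (M.inv_mem hk)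
  -- first commutator
  obtain ⟨n, hn⟩ : ∃ n : V, n = nm B a b t := ⟨_, rfl⟩
  have hpn : B p n = 0 := by
    rw [hn]
    unfold nm
    rw [map_sub, map_smul, map_smul, hpa, hpb, smul_zero, smul_zero, sub_zero]
  have hp₂n : B p₂ n = 0 := by
    rw [hn]
    unfold nm
    rw [map_sub, map_smul, map_smul, hp₂a, hp₂b, smul_zero, smul_zero, sub_zero]
  have hh₁ : sieg Q B p t ∈ M := R.rat_sieg_mem S M G hS hG2 hHM hp ht hQp hpt
  have hg₁O : sieg Q B a b ∈ oG Q := hMO hg₁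
  have hc₁ := conj_sieg Q B R.hQs R.hQp hg₁O hQp hpt
  have e1 : sieg Q B a b p = p := by
    rw [sieg_apply Q B R.hQs R.hQp hQa hab, hpa, hpb]
    simp
  have e2 : sieg Q B a b t = t + n := by
    rw [sieg_apply Q B R.hQs R.hQp hQa hab, hQb, hn]
    unfold nm
    module
  rw [e1, e2] at hc₁
  have hg₂ : sieg Q B p n ∈ M := by
    have h1 : sieg Q B a b * sieg Q B p t * (sieg Q B a b)⁻¹ * (sieg Q B p t)⁻¹ ∈ M :=
      M.mul_mem (M.mul_mem (M.mul_mem hg₁ hh₁) (M.inv_mem hg₁)) (M.inv_mem hh₁)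
    rw [hc₁, sieg_inv Q B R.hQs R.hQp hQp hpt,
      sieg_mul Q B R.hQs R.hQp hQp (by rw [map_add, hpt, hpn, add_zero])
        (by rw [map_neg, hpt, neg_zero])] at h1
    have e : t + n + -t = n := by abel
    rwa [e] at h1
  -- second commutator
  have hh₂ : sieg Q B p₂ y ∈ M := R.rat_sieg_mem S M G hS hG2 hHM hp₂ hy hQp₂ hp₂y
  have hg₂O : sieg Q B p n ∈ oG Q := hMO hg₂
  have hc₂ := conj_sieg Q B R.hQs R.hQp hg₂O hQp₂ hp₂y
  have e3 : sieg Q B p n p₂ = p₂ := by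
    rw [sieg_apply Q B R.hQs R.hQp hQp hpn, hp₂p, hp₂n]
    simp
  have e4 : sieg Q B p n y = y + (-(B y n)) • p := by
    rw [sieg_apply Q B R.hQs R.hQp hQp hpn, hsymm y p, hpy]
    module
  rw [e3, e4] at hc₂
  have hfin : sieg Q B p₂ ((-(B y n)) • p) ∈ M := by
    have h1 : sieg Q B p n * sieg Q B p₂ y * (sieg Q B p n)⁻¹ * (sieg Q B p₂ y)⁻¹ ∈ M :=
      M.mul_mem (M.mul_mem (M.mul_mem hg₂ hh₂) (M.inv_mem hg₂)) (M.inv_mem hh₂)
    rw [hc₂, sieg_inv Q B R.hQs R.hQp hQp₂ hp₂y,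
      sieg_mul Q B R.hQs R.hQp hQp₂
        (by rw [map_add, map_smul, hp₂y, hp₂p, smul_zero, add_zero])
        (by rw [map_neg, hp₂y, neg_zero])] at h1
    have e : y + (-(B y n)) • p + -y = (-(B y n)) • p := by abel
    rwa [e] at h1
  have h3 := hA0 p₂ p P _ hfin
  have e : B a t * B b y - B a y * B b t = -(-(B y n)) := by
    rw [hn]
    unfold nm
    simp only [map_sub, map_smul, smul_eq_mul]
    rw [hsymm t a, hsymm t b, hsymm y a, hsymm y b]
    ring
  rw [e]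
  exact F₀.neg_mem h3

include R hS in
/-- A Siegel element of a rational totally singular pair with an irrational parameter does not
stabilise the rational structure up to scalars. -/
lemma not_mem_S5 (hN : B.Nondegenerate) (h5 : 5 ≤ finrank F V)
    {u z : V} (P : RPair Q B F₀ V₀ u z) {c : F} (hc : c ∉ F₀) :
    sieg Q B u (c • z) ∉ S := by
  have hsymm := R.symm
  intro hE
  obtain ⟨μ, hμ, hmap⟩ := (hS _).mp hE
  have hucz : B u (c • z) = 0 := by rw [map_smul, P.Buz, smul_zero]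
  have huu : B u u = 0 := by rw [B_self Q B R.hQs R.hQp, P.Qu, mul_zero]
  have hz0 : z ≠ 0 := fun h0 => P.ind 0 F₀.zero_mem (by rw [h0, zero_smul])
  -- the scalar is rational
  obtain ⟨w₀, hw₀, e0⟩ := hmap u P.hu
  have hEu : sieg Q B u (c • z) u = u := by
    rw [sieg_apply Q B R.hQs R.hQp P.Qu hucz, huu, hucz]
    simp
  rw [hEu] at e0
  have hμm : μ ∈ F₀ := by
    have h1 : μ⁻¹ • u = w₀ := by rw [e0, smul_smul, inv_mul_cancel₀ hμ, one_smul]
    have h2 : μ⁻¹ ∈ F₀ := R.mem_of_smul hN P.hu P.u0 (by rw [h1]; exact hw₀)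
    have := F₀.inv_mem h2
    rwa [inv_inv] at this
  -- a rational vector detecting the parameter
  have hind : ∀ t : F, t ∈ F₀ → u ≠ t • z := by
    intro t ht hut
    have ht0 : t ≠ 0 := by
      intro h0
      rw [h0, zero_smul] at hut
      exact P.u0 hut
    apply P.ind t⁻¹ (F₀.inv_mem ht)
    rw [hut, smul_smul, inv_mul_cancel₀ ht0, one_smul]
  obtain ⟨s, hs, -, hsz, hsu⟩ := R.rat_sno hN (by omega) P.hz P.hu hind
  obtain ⟨w₁, hw₁, e1⟩ := hmap s hs
  have hEs : sieg Q B u (c • z) s = s + (c * B s u) • z := by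
    rw [sieg_apply Q B R.hQs R.hQp P.Qu hucz, map_smul, hsz, R.hQs, P.Qz]
    module
  rw [hEs] at e1
  have h1 : (c * B s u) • z ∈ V₀ := by
    have e : (c * B s u) • z = μ • w₁ - s := by rw [← e1]; abel
    rw [e]
    exact V₀.sub_mem (R.smul_mem _ _ hμm hw₁) hs
  have h2 : c * B s u ∈ F₀ := R.mem_of_smul hN P.hz hz0 h1
  apply hc
  have e : c = c * B s u / B s u := by
    rw [mul_div_assoc, div_self hsu, mul_one]
  rw [e]
  exact F₀.div_mem h2 (R.bval hs P.hu)


end Two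

/-- **Maximality of the stabiliser of a rational structure over a subfield of prime index** in
the group generated by the Siegel elements of an orthogonal space of dimension at least `7` in
odd characteristic. -/
theorem maximal_qsub7 [Finite F] [FiniteDimensional F V] (R : QStr Q B F₀ V₀)
    (hN : B.Nondegenerate) (h2 : (2 : F) ≠ 0) (G : Subgroup (V ≃ₗ[F] V)) (hG1 : G ≤ oG Q)
    (hG2 : ∀ u z, Q u = 0 → B u z = 0 → sieg Q B u z ∈ G)
    (hG3 : ∀ M : Subgroup (V ≃ₗ[F] V),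
      (∀ u z, Q u = 0 → B u z = 0 → sieg Q B u z ∈ M) → G ≤ M)
    (h7 : 7 ≤ finrank F V)
    (hsimple : ∀ K : Subalgebra F₀ F, K = ⊥ ∨ K = ⊤) (hne : ∃ c : F, c ∉ F₀)
    (hgen : (∀ Δ : F, Δ ∉ F₀ → tL (1 : F) ∈ GG F₀ Δ) ∨
      (11 ≤ finrank F V ∧ ∃ ω : F, ∀ c : F, ∃ c₁ ∈ F₀, ∃ c₂ ∈ F₀, c = c₁ + c₂ * ω))
    (S : Subgroup (V ≃ₗ[F] V))
    (hS : ∀ g, g ∈ S ↔ ∃ μ : F, μ ≠ 0 ∧ ∀ v ∈ V₀, ∃ w ∈ V₀, g v = μ • w) :
    (S ⊓ G < G) ∧
      ∀ M : Subgroup (V ≃ₗ[F] V), S ⊓ G ≤ M → M ≤ G → M = S ⊓ G ∨ M = G := by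
  obtain ⟨c₀, hc₀⟩ := hne
  obtain ⟨u₀, z₀, P₀⟩ := exists_rpair7 R hN h7
  constructor
  · refine lt_of_le_of_ne inf_le_right ?_
    intro heq
    have h1 : sieg Q B u₀ (c₀ • z₀) ∈ S ⊓ G := by
      rw [heq]
      exact hG2 _ _ P₀.Qu (by rw [map_smul, P₀.Buz, smul_zero])
    exact not_mem_S5 R S hS hN (by omega) P₀ hc₀ h1.1
  · intro M hHM hMG
    have hMO : M ≤ oG Q := hMG.trans hG1
    rcases par_dichotomy7 R S M G hS hG2 hHM hMO hN h7 hsimple with hA0 | hall
    · left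
      apply le_antisymm _ hHM
      intro k hk
      refine ⟨(hS k).mpr ?_, hMG hk⟩
      apply rat_of_minors7 R k (hMO hk) _ hN h7 h2
      intro u w t y hu hw ht hy hQu hQw hQt hQy huw hty
      by_cases hu0 : u = 0
      · rw [hu0, map_zero]
        simp only [map_zero, LinearMap.zero_apply, zero_mul, sub_zero]
        exact F₀.zero_mem
      by_cases hind : ∀ t' : F, t' ∈ F₀ → w ≠ t' • u
      · have P : RPair Q B F₀ V₀ u w := ⟨hu, hw, hQu, hQw, huw, hu0, hind⟩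
        rcases hgen with hgen | ⟨h11, ω, hdec⟩
        · by_contra hΔ
          have h1 := R.par_all_of_minor S M G hS hG2 hHM hMO hsimple hk hu hw ht hy hQu hQw
            hQt hQy huw hty rfl hΔ (hgen _ hΔ) c₀
          exact hc₀ (hA0 u w P c₀ h1)
        · exact minor_rat_of_two11 R S M G hS hG2 hHM hMO hN h11 hA0 hdec hk hu hw ht hy hQu hQw
            hQt hQy huw hty
      · push Not at hind
        obtain ⟨t', -, rfl⟩ := hind
        have e : B (k u) t * B (k (t' • u)) y - B (k u) y * B (k (t' • u)) t = 0 := by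
          simp only [map_smul, LinearMap.smul_apply, smul_eq_mul]
          ring
        rw [e]
        exact F₀.zero_mem
    · right
      apply le_antisymm hMG
      apply hG3
      intro x z hQx hxz
      exact all_full5 R M hMO hall hN (by omega) hQx hxz


end Cfsg.Agent.Lib.Helper59_QSub7
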