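import Cfsg.Agent.Lib.Helper83_SL2GenFin

/-!
# The subgroup generated by `tU c`, `tL (c α)` over a finite field: a variant

A variant of `Helper83_SL2GenFin.tL_one_mem_of_finite`: instead of excluding the field with three
elements, we assume that `5` does not divide the order of `SL(2,F)`, which excludes the
exceptional groups of order `60` and `120`.
-/

set_option autoImplicit false
set_option linter.unusedSimpArgs false
set_option linter.unusedVariables false
set_option linter.unusedSectionVars false

namespace Cfsg.Agent.Lib.Helper94_SL2GenF3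

open Matrix Cfsg.Agent.Lib.Helper50_SL2Mat Cfsg.Agent.Lib.Helper50_CTClass
  Cfsg.Agent.Lib.Helper50_SL2Rep Cfsg.Agent.Lib.Helper50_SL2Std
  Cfsg.Agent.Lib.Helper51_SL2Dich Cfsg.Agent.Lib.Helper51_SL2Sub
  Cfsg.Agent.Lib.Helper83_SL2GenBasic Cfsg.Agent.Lib.Helper83_SL2GenFin
open scoped MatrixGroups

variable {F : Type*} [Field F]

variable {k : Type*} [Field k] [Algebra k F]

/-- **finite case without the exceptional groups**: `tL 1 ∈ GG` -/
theorem tL_one_mem_of_not_five [Finite F] (hchar : ringChar k ≠ 2)
    (h5 : ¬ 5 ∣ Nat.card SL(2, F))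
    {α : F} (hα : α ≠ 0) : tL (1 : F) ∈ GG k α := by
  classical
  haveI := Fintype.ofFinite F
  have : Finite k := Finite.of_injective _ (algebraMap k F).injective
  -- the characteristic
  set p := ringChar k with hp
  have : CharP k p := ringChar.charP k
  have : CharP F p := charP_of_injective_algebraMap (algebraMap k F).injective p
  have : Fact p.Prime := ⟨CharP.char_is_prime F p⟩
  -- the group
  set Γ : Subgroup SL(2, F) := GG k α with hΓ
  have hU : tU (1 : F) ∈ Γ := tU_one_mem
  have hL : tL α ∈ Γ := tL_alpha_mem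
  have hstd : Std p Γ.subtype ⟨tU 1, hU⟩ ⟨tL α, hL⟩ (1 : F) α :=
    ⟨Γ.subtype_injective, hchar, one_ne_zero, hα, rfl, rfl⟩
  have h2F : (2 : F) ≠ 0 := hstd.two_ne_zero
  rcases std_dichotomy_strong hstd with hidx | ⟨h3, hQ, hcard⟩
  · -- the index formula
    have hw : (⟨tL α, hL⟩ : Γ) ∉ Bn Γ.subtype := hstd.v_not_mem_Bn
    have hg : (⟨tL (-α), by rw [← tL_inv]; exact Γ.inv_mem hL⟩ : Γ) ∉ Bn Γ.subtype := by
      intro h
      have h10 : (tL (-α) : SL(2, F)) 1 0 = 0 := h
      rw [tL10] at h10
      exact hα (neg_eq_zero.1 h10)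
    obtain ⟨q, hq, b, hb, hqb⟩ := cover Γ.subtype_injective hidx _ hw _ hg
    obtain ⟨t, ht⟩ := mem_Qs_iff_exists.1 hq
    have ht' : (q : SL(2, F)) = tU t := ht
    have hb10 : (b : SL(2, F)) 1 0 = 0 := hb
    have hqb' : tL (-α) = tU t * tL α * (b : SL(2, F)) := by
      have := congrArg Subtype.val hqb
      rw [← ht']
      exact this
    -- solve for `t`
    have hbe : (b : SL(2, F)) = (tU t * tL α)⁻¹ * tL (-α) := by
      rw [hqb']; group
    have h10 : ((tU t * tL α)⁻¹ * tL (-α) : SL(2, F)) 1 0 = 0 := by rw [← hbe]; exact hb10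
    simp only [mul00, mul01, mul10, mul11, inv00, inv01, inv10, inv11, tU00, tU01, tU10, tU11,
      tL00, tL01, tL10, tL11] at h10
    have htα : t * α = -2 := by
      have h3 : α * (t * α + 2) = 0 := by linear_combination -h10
      rcases mul_eq_zero.1 h3 with h | h
      · exact absurd h hα
      · linear_combination h
    have htU : tU t ∈ Γ := by rw [← ht']; exact q.2
    -- `tU (1/α)` is a power of `tU t`
    have hodd : Odd p := (Fact.out : p.Prime).odd_of_ne_two hchar
    obtain ⟨m, hm⟩ := hodd
    have hpF : (p : F) = 0 := CharP.cast_eq_zero F p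
    have hmF : (2 : F) * (m : F) = -1 := by
      have : ((2 * m + 1 : ℕ) : F) = 0 := by rw [← hm]; exact hpF
      push_cast at this
      linear_combination this
    have hinv : tU (α⁻¹) ∈ Γ := by
      have h5 : (tU t) ^ m ∈ Γ := Γ.pow_mem htU m
      rw [tU_pow] at h5
      have e : (m : F) * t = α⁻¹ := by
        have : (m : F) * t * α = 1 := by
          have : (m : F) * t * α = (m : F) * (t * α) := by ring
          rw [this, htα]
          linear_combination -hmF
        field_simp
        linear_combination this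
      rwa [e] at h5
    have := tL_alpha_mul_mem (k := k) hα hinv
    rwa [mul_inv_cancel₀ hα] at this
  · -- the exceptional case contradicts the hypothesis on the order
    exfalso
    apply h5
    have h1 : Nat.card Γ ∣ Nat.card SL(2, F) := Subgroup.card_subgroup_dvd_card Γ
    refine Dvd.dvd.trans ?_ h1
    rw [hcard]
    exact Dvd.dvd.mul_right (by norm_num) _

end Cfsg.Agent.Lib.Helper94_SL2GenF3
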