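import Mathlib
import Cfsg.Prelude.Def_GeometricClasses
import Cfsg.Agent.Lib.Helper94_Bridge
import Cfsg.Agent.Lib.Helper94_SLBridge
import Cfsg.Agent.Lib.Helper94_OrthBridge
import Cfsg.Agent.Lib.Helper94_OrthGenBridge
import Cfsg.Agent.Lib.Helper94_OrthFinal
import Cfsg.Agent.Lib.Helper94_SubfieldBridge
import Cfsg.Agent.Lib.Helper94_QSub6
import Cfsg.Agent.Lib.Helper94_SL2GenF3
import Cfsg.Agent.Lib.Helper5_PSLCard

set_option autoImplicit false

/-!
Bridge for the subfield groups of the orthogonal groups in odd characteristic: a rational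
structure of the quadratic form in the sense of the prelude gives a `QStr`, and the subfield group
is the group of linear maps stabilising the rational structure up to scalars.
-/

namespace Cfsg.Agent.Lib.Helper94_QSubBridge

open Matrix Module Cfsg.Agent.Lib.Helper94_Symp Cfsg.Agent.Lib.Helper94_Bridge
  Cfsg.Agent.Lib.Helper94_SLBridge
  Cfsg.Agent.Lib.Helper94_OrthSmall Cfsg.Agent.Lib.Helper94_OrthBridge
  Cfsg.Agent.Lib.Helper94_OrthSiegel Cfsg.Agent.Lib.Helper94_OrthSiegel2
  Cfsg.Agent.Lib.Helper94_OrthGenBridge Cfsg.Agent.Lib.Helper94_OrthFinal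
  Cfsg.Agent.Lib.Helper94_SubfieldBridge Cfsg.Agent.Lib.Helper94_QSub
  Cfsg.Agent.Lib.Helper50_SL2Mat Cfsg.Agent.Lib.Helper83_SL2GenBasic
open scoped MatrixGroups

variable {ι : Type} [Fintype ι] [DecidableEq ι] {F : Type*} [Field F]

/-- A rational structure of a quadratic form in the sense of the prelude is a `QStr`. -/
theorem qstr_of (Q : (ι → F) → F) (hQ : Cfsg.Geo.IsNondegenerateQuadraticForm Q)
    (F₀ : Subfield F) (P : GL ι F) (hP : Cfsg.Geo.IsQuadFormRationalStructure Q F₀ P) :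
    QStr Q (polarForm Q hQ) F₀ (ratV F₀ (P : Matrix ι ι F)) := by
  have hPP' : (P : Matrix ι ι F) * ((P⁻¹ : GL ι F) : Matrix ι ι F) = 1 := by
    rw [← Units.val_mul, mul_inv_cancel, Units.val_one]
  refine ⟨?_, ?_, ?_, gen_hQs Q hQ, gen_hQp Q hQ⟩
  · rintro c _ hc ⟨u, hu, rfl⟩
    exact ⟨c • u, fun i => F₀.mul_mem hc (hu i), by rw [Matrix.mulVec_smul]⟩
  · rintro _ ⟨u, hu, rfl⟩
    exact hP u hu
  · intro x
    have key : ∀ y : ι → F, (P : Matrix ι ι F) *ᵥ y ∈
        Submodule.span F ((ratV F₀ (P : Matrix ι ι F) : AddSubgroup (ι → F)) : Set (ι → F)) := by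
      intro y
      have hy : y = ∑ i, y i • (Pi.single i (1 : F) : ι → F) := by
        ext j
        simp [Finset.sum_apply, Pi.single_apply]
      rw [hy, Matrix.mulVec_sum]
      apply Submodule.sum_mem
      intro i _
      rw [Matrix.mulVec_smul]
      apply Submodule.smul_mem
      apply Submodule.subset_span
      refine ⟨Pi.single i 1, fun j => ?_, rfl⟩
      by_cases h : j = i
      · rw [h, Pi.single_eq_same]; exact F₀.one_mem
      · rw [Pi.single_eq_of_ne h]; exact F₀.zero_mem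
    have := key (((P⁻¹ : GL ι F) : Matrix ι ι F) *ᵥ x)
    rwa [Matrix.mulVec_mulVec, hPP', Matrix.one_mulVec] at this

section Field

variable [Fintype F]

/-- the degree of `F` over `F₀` -/
lemma finrank_eq' (F₀ : Subfield F) (r : ℕ)
    (hcard : Fintype.card F = Nat.card F₀ ^ r) : Module.finrank F₀ F = r := by
  classical
  letI : Fintype F₀ := Fintype.ofFinite F₀
  have h1 := Module.card_eq_pow_finrank (K := F₀) (V := F)
  rw [hcard, Nat.card_eq_fintype_card] at h1
  have h2 : 2 ≤ Fintype.card F₀ := Fintype.one_lt_card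
  exact (Nat.pow_right_injective h2 h1).symm

/-- an element outside a proper subfield -/
lemma exists_not_mem (F₀ : Subfield F) (h : 2 ≤ Module.finrank F₀ F) : ∃ c : F, c ∉ F₀ := by
  by_contra hcon
  push Not at hcon
  have h1 : Module.finrank F₀ F ≤ 1 := by
    have hspan : Submodule.span F₀ ({(1 : F)} : Set F) = ⊤ := by
      rw [Submodule.eq_top_iff']
      intro x
      have : x = (⟨x, hcon x⟩ : F₀) • (1 : F) := by
        rw [Subfield.smul_def, smul_eq_mul, mul_one]
      rw [this]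
      exact Submodule.smul_mem _ _ (Submodule.subset_span (by simp))
    have h3 := finrank_span_le_card (R := F₀) ({(1 : F)} : Set F)
    rw [hspan, finrank_top] at h3
    simpa using h3
  omega

/-- decomposition of the elements in degree two -/
lemma exists_dec (F₀ : Subfield F) (h : Module.finrank F₀ F = 2) :
    ∃ ω : F, ∀ c : F, ∃ c₁ ∈ F₀, ∃ c₂ ∈ F₀, c = c₁ + c₂ * ω := by
  obtain ⟨ω, hω⟩ := exists_not_mem F₀ (by omega)
  refine ⟨ω, fun c => ?_⟩
  have hli : LinearIndependent F₀ ![(1 : F), ω] := by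
    rw [LinearIndependent.pair_iff]
    intro s t hst
    rw [Subfield.smul_def, Subfield.smul_def, smul_eq_mul, smul_eq_mul, mul_one] at hst
    have ht : t = 0 := by
      by_contra ht0
      apply hω
      have ht0' : (t : F) ≠ 0 := fun h0 => ht0 (Subtype.ext h0)
      have e : ω = -(s : F) / (t : F) := by
        field_simp
        linear_combination hst
      rw [e]
      exact F₀.div_mem (F₀.neg_mem s.2) t.2
    refine ⟨?_, ht⟩
    rw [ht] at hst
    simp only [ZeroMemClass.coe_zero, zero_mul, add_zero] at hst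
    exact Subtype.ext hst
  have hspan : Submodule.span F₀ (Set.range ![(1 : F), ω]) = ⊤ :=
    hli.span_eq_top_of_card_eq_finrank' (by rw [h]; simp)
  have hc : c ∈ Submodule.span F₀ (Set.range ![(1 : F), ω]) := by rw [hspan]; trivial
  obtain ⟨f, hf⟩ := (Submodule.mem_span_range_iff_exists_fun F₀).mp hc
  rw [Fin.sum_univ_two] at hf
  refine ⟨(f 0 : F), (f 0).2, (f 1 : F), (f 1).2, ?_⟩
  rw [← hf]
  simp only [Matrix.cons_val_zero, Matrix.cons_val_one, Subfield.smul_def, smul_eq_mul, mul_one]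

lemma ringChar_sub_ne_two (F₀ : Subfield F) (h2 : (2 : F) ≠ 0) : ringChar F₀ ≠ 2 := by
  intro h
  apply h2
  haveI := ringChar.charP F₀
  have h1 : ((ringChar F₀ : ℕ) : F₀) = 0 := CharP.cast_eq_zero F₀ (ringChar F₀)
  rw [h] at h1
  have h3 : (((2 : ℕ) : F₀) : F) = 0 := by rw [h1]; rfl
  push_cast at h3
  exact h3

/-- `5` does not divide the order of `SL(2, F)` when `|F| = 3 ^ r` with `r` odd. -/
lemma not_five_dvd {r : ℕ} (hq : Fintype.card F = 3 ^ r) (hodd : Odd r) :
    ¬ 5 ∣ Nat.card SL(2, F) := by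
  rw [Cfsg.Agent.Lib.Helper5_PSLCard.card_SL_two, hq]
  obtain ⟨j, rfl⟩ := hodd
  intro h
  have h5 : Nat.Prime 5 := by norm_num
  rcases (Nat.Prime.dvd_mul h5).mp h with h1 | h1
  · have := Nat.Prime.dvd_of_dvd_pow h5 h1
    omega
  · have e1 : (3 ^ (2 * j + 1)) ^ 2 = 9 * 81 ^ j := by
      rw [← pow_mul]
      have : (2 * j + 1) * 2 = 2 + 4 * j := by ring
      rw [this, pow_add, pow_mul]
      norm_num
    rw [e1] at h1
    have e2 : 81 ^ j % 5 = 1 := by
      rw [Nat.pow_mod]
      norm_num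
    have e3 : (9 * 81 ^ j) % 5 = 4 := by
      rw [Nat.mul_mod, e2]
    have hpos : 1 ≤ 9 * 81 ^ j := Nat.one_le_iff_ne_zero.mpr (by positivity)
    omega

end Field

variable [Fintype F]

/-- **Maximality of the orthogonal subfield groups** (odd characteristic, dimension at least
`13`, prime degree). -/
theorem qsub_maximal (Q : (ι → F) → F) (hQ : Cfsg.Geo.IsNondegenerateQuadraticForm Q)
    (h2 : (2 : F) ≠ 0) (hn : 13 ≤ Fintype.card ι) (F₀ : Subfield F) (r : ℕ) (hr : r.Prime)
    (hcard : Fintype.card F = Nat.card F₀ ^ r) (P : GL ι F)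
    (hP : Cfsg.Geo.IsQuadFormRationalStructure Q F₀ P) :
    Cfsg.Geo.IsMaximalIn (Cfsg.Geo.omegaGL Q)
      (Cfsg.Geo.subfieldSubgroup F₀ P ⊓ Cfsg.Geo.omegaGL Q) := by
  classical
  have hfr : finrank F (ι → F) = Fintype.card ι := Module.finrank_pi F
  have hfin : Module.finrank F₀ F = r := finrank_eq' F₀ r hcard
  have hp : (Module.finrank F₀ F).Prime := by rw [hfin]; exact hr
  haveI := Subalgebra.isSimpleOrder_of_finrank_prime F₀ F hp
  have hsimple : ∀ K : Subalgebra F₀ F, K = ⊥ ∨ K = ⊤ := fun K => eq_bot_or_eq_top K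
  have hne : ∃ c : F, c ∉ F₀ := exists_not_mem F₀ (by rw [hfin]; exact hr.two_le)
  have hchar : ringChar F₀ ≠ 2 := ringChar_sub_ne_two F₀ h2
  have hgen : (∀ Δ : F, Δ ∉ F₀ → tL (1 : F) ∈ GG F₀ Δ) ∨
      (∃ ω : F, ∀ c : F, ∃ c₁ ∈ F₀, ∃ c₂ ∈ F₀, c = c₁ + c₂ * ω) := by
    by_cases hr2 : r = 2
    · right
      exact exists_dec F₀ (by rw [hfin, hr2])
    · left
      intro Δ hΔ
      have hΔ0 : Δ ≠ 0 := by
        intro h0
        apply hΔ
        rw [h0]
        exact F₀.zero_mem
      by_cases h3 : Nat.card F₀ = 3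
      · have hodd : Odd r := hr.odd_of_ne_two hr2
        apply Cfsg.Agent.Lib.Helper94_SL2GenF3.tL_one_mem_of_not_five hchar _ hΔ0
        apply not_five_dvd _ hodd
        rw [hcard, h3]
      · exact Cfsg.Agent.Lib.Helper83_SL2GenFin.tL_one_mem_of_finite hchar h3 hΔ0
  have R := qstr_of Q hQ F₀ P hP
  let S : Subgroup ((ι → F) ≃ₗ[F] (ι → F)) :=
    (Cfsg.Geo.subfieldSubgroup F₀ P).comap (glEquiv ι F).symm.toMonoidHom
  have hSeq : Cfsg.Geo.subfieldSubgroup F₀ P = S.comap (glEquiv ι F).toMonoidHom :=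
    (comap_symm_comap (glEquiv ι F) _).symm
  rw [hSeq, omegaGL_eq, ← Subgroup.comap_inf]
  apply isMaximalIn_comap
  apply maximal_qsub R (gen_hN Q hQ) h2 _ (Subgroup.commutator_le_self _)
    (fun u z hu huz => sieg_mem_commutator' Q _ (gen_hQs Q hQ) (gen_hQp Q hQ) (gen_hN Q hQ)
      (by rw [hfr]; omega) hu huz)
    (gen_hG3 Q hQ (fun h => absurd h h2) (by omega)) (by rw [hfr]; exact hn) hsimple hne hgen S
  intro g
  have key : ∀ x, (((glEquiv ι F).symm g : GL ι F) : Matrix ι ι F).mulVec x = g x := by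
    intro x
    rw [← glEquiv_apply, MulEquiv.apply_symm_apply]
  show (glEquiv ι F).symm g ∈ Cfsg.Geo.subfieldSubgroup F₀ P ↔ _
  rw [mem_subfieldSubgroup_iff]
  simp only [key]

end Cfsg.Agent.Lib.Helper94_QSubBridge
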