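import Mathlib
import Cfsg.Agent.Lib.Helper94_QSubBridge

set_option autoImplicit false

/-!
The orthogonal subfield groups in odd characteristic when a scalar multiple `ζ Q` of the quadratic
form (rather than `Q` itself) takes rational values on the rational structure.
-/

namespace Cfsg.Agent.Lib.Helper94_QSubScaled

open Matrix Module Cfsg.Agent.Lib.Helper94_Bridge Cfsg.Agent.Lib.Helper94_OrthSmall
  Cfsg.Agent.Lib.Helper94_OrthBridge

variable {ι : Type} [Fintype ι] [DecidableEq ι] {F : Type*} [Field F]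

lemma polar_scaled (Q : (ι → F) → F) (ζ : F) (x y : ι → F) :
    QuadraticMap.polar (fun v : ι → F => ζ * Q v) x y = ζ * QuadraticMap.polar Q x y := by
  simp only [QuadraticMap.polar]
  ring

/-- A nonzero scalar multiple of a non-degenerate quadratic form is non-degenerate. -/
theorem scaled_nondeg (Q : (ι → F) → F) (hQ : Cfsg.Geo.IsNondegenerateQuadraticForm Q) {ζ : F}
    (hζ : ζ ≠ 0) : Cfsg.Geo.IsNondegenerateQuadraticForm (fun v : ι → F => ζ * Q v) := by
  refine ⟨?_, ⟨?_, ?_, ?_, ?_⟩, ?_⟩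
  · intro c v
    show ζ * Q (c • v) = c ^ 2 * (ζ * Q v)
    rw [hQ.smul]
    ring
  · intro x y v
    rw [polar_scaled, polar_scaled, polar_scaled, hQ.polar_bilinear.add_left]
    ring
  · intro c x v
    rw [polar_scaled, polar_scaled, hQ.polar_bilinear.smul_left]
    ring
  · intro v x y
    rw [polar_scaled, polar_scaled, polar_scaled, hQ.polar_bilinear.add_right]
    ring
  · intro c v x
    rw [polar_scaled, polar_scaled, hQ.polar_bilinear.smul_right]
    ring
  · intro v hv
    obtain ⟨⟨x, hx⟩, ⟨y, hy⟩⟩ := hQ.nondegenerate v hv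
    refine ⟨⟨x, ?_⟩, ⟨y, ?_⟩⟩
    · rw [polar_scaled]; exact mul_ne_zero hζ hx
    · rw [polar_scaled]; exact mul_ne_zero hζ hy

/-- The isometry group does not change under scaling of the form. -/
lemma oG_scaled (Q : (ι → F) → F) {ζ : F} (hζ : ζ ≠ 0) :
    oG (fun v : ι → F => ζ * Q v) = oG Q := by
  ext g
  simp only [mem_oG]
  constructor
  · intro h v
    exact mul_left_cancel₀ hζ (h v)
  · intro h v
    rw [h v]

lemma omegaGL_scaled (Q : (ι → F) → F) {ζ : F} (hζ : ζ ≠ 0) :
    Cfsg.Geo.omegaGL (fun v : ι → F => ζ * Q v) = Cfsg.Geo.omegaGL Q := by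
  rw [omegaGL_eq, omegaGL_eq, oG_scaled Q hζ]

/-- **Maximality of the orthogonal subfield groups** in odd characteristic, with a scaled form on
the rational structure. -/
theorem qsub_maximal_scaled [Fintype F] (Q : (ι → F) → F)
    (hQ : Cfsg.Geo.IsNondegenerateQuadraticForm Q)
    (h2 : (2 : F) ≠ 0) (hn : 13 ≤ Fintype.card ι) (F₀ : Subfield F) (r : ℕ) (hr : r.Prime)
    (hcard : Fintype.card F = Nat.card F₀ ^ r) (P : GL ι F) {ζ : F} (hζ : ζ ≠ 0)
    (hP : Cfsg.Geo.IsQuadFormRationalStructure (fun v : ι → F => ζ * Q v) F₀ P) :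
    Cfsg.Geo.IsMaximalIn (Cfsg.Geo.omegaGL Q)
      (Cfsg.Geo.subfieldSubgroup F₀ P ⊓ Cfsg.Geo.omegaGL Q) := by
  have h := Cfsg.Agent.Lib.Helper94_QSubBridge.qsub_maximal (fun v : ι → F => ζ * Q v)
    (scaled_nondeg Q hQ hζ) h2 hn F₀ r hr hcard P hP
  rwa [omegaGL_scaled Q hζ] at h

end Cfsg.Agent.Lib.Helper94_QSubScaled
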