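import Mathlib
import Cfsg.Prelude.Def_GeometricClasses
import Cfsg.Agent.S5674
import Cfsg.Agent.S5675
import Cfsg.Agent.Lib.Helper59_OrthNondeg11
import Cfsg.Agent.Lib.Helper59_QSub7Bridge

/-!
# Geometric rows for `Ω_{2m+1}(q)`, `q` odd, in small dimension (helper59)

The proofs of S5674 (totally singular subspaces), S5675 (non-degenerate subspaces) and the
subfield row, with the dimension bounds the libraries really need: `3 ≤ m` for totally singular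
subspaces and subfield groups, `5 ≤ m` for non-degenerate subspaces.
-/

set_option autoImplicit false

namespace Cfsg.Agent.Lib.Helper59_OmegaOddRows

open Cfsg Cfsg.Agent.Lib.Helper94_Symp Cfsg.Agent.Lib.Helper94_Bridge
  Cfsg.Agent.Lib.Helper94_OrthSmall
  Cfsg.Agent.Lib.Helper94_OrthBridge Cfsg.Agent.Lib.Helper94_OrthSiegel
  Cfsg.Agent.Lib.Helper94_OrthPara Cfsg.Agent.Lib.Helper94_OrthSiegelBridge
  Cfsg.Agent.Lib.Helper44_StdForms

variable {F : Type*} [Field F] [Fintype F]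

/-- Totally singular subspace stabilisers in `Ω_{2m+1}(q)`, `m ≥ 3`. -/
theorem ts_max_odd (hodd : Odd (Fintype.card F)) (m : ℕ) (hm : 3 ≤ m)
    (W : Submodule F (Unit ⊕ (Fin m ⊕ Fin m) → F)) (hW0 : W ≠ ⊥)
    (hW : Cfsg.Geo.IsTotallySingularQuad (Cfsg.quadFormOdd m F) W) :
    Cfsg.Geo.IsMaximalIn (Cfsg.Geo.omegaGL (Cfsg.quadFormOdd m F))
      (Cfsg.Geo.subspaceStabilizer W ⊓ Cfsg.Geo.omegaGL (Cfsg.quadFormOdd m F)) := by
  classical
  have h2 : (2 : F) ≠ 0 := Cfsg.Agent.Lib.Helper44_FinSq.two_ne_zero_of_odd_card hodd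
  have h21 : (2 : F) ≠ 1 := by
    intro h
    have : (1 : F) = 0 := by linear_combination h
    exact one_ne_zero this
  rw [← coe_qfOdd] at hW ⊢
  have hQ : (QuadraticMap.polarBilin (qfOdd m F)).Nondegenerate := by
    refine (LinearMap.BilinForm.nondegenerate_iff_det_ne_zero
      (Pi.basisFun F (Unit ⊕ (Fin m ⊕ Fin m)))).mpr ?_
    have : LinearMap.BilinForm.toMatrix (Pi.basisFun F (Unit ⊕ (Fin m ⊕ Fin m)))
        (QuadraticMap.polarBilin (qfOdd m F))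
        = Matrix.of (fun i j : Unit ⊕ (Fin m ⊕ Fin m) =>
            QuadraticMap.polar (Cfsg.quadFormOdd m F) (Pi.single i 1) (Pi.single j 1)) := by
      ext i j
      simp [LinearMap.BilinForm.toMatrix_apply, coe_qfOdd]
    rw [this, det_gram_quadFormOdd]
    exact mul_ne_zero h2 (pow_ne_zero _ (neg_ne_zero.mpr one_ne_zero))
  have hcard : Fintype.card (Unit ⊕ (Fin m ⊕ Fin m)) = 2 * m + 1 := by
    simp [Fintype.card_sum]; ring
  have hfr : Module.finrank F (Unit ⊕ (Fin m ⊕ Fin m) → F) = 2 * m + 1 := by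
    rw [Module.finrank_pi, hcard]
  rw [subspaceStabilizer_eq, omegaGL_eq, ← Subgroup.comap_inf]
  apply isMaximalIn_comap
  exact maximal_stab_ts (⇑(qfOdd m F)) (QuadraticMap.polarBilin (qfOdd m F)) (hQs_of _) (hQp_of _)
    hQ _ (Subgroup.commutator_le_self _)
    (fun u z hu huz => sieg_mem_commutator _ _ (hQs_of _) (hQp_of _) hQ h2 h21 hu huz)
    (fun M hM => commutator_le_closure_sieg h2 (qfOdd m F) hQ (by rw [hcard]; omega) M hM)
    (by rw [hfr]; omega) W hW0 hW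
    (hex_of_dim _ _ (hQs_of _) (hQp_of _) hQ W hW (by rw [hfr]; omega))

/-- Non-degenerate even-dimensional subspace stabilisers in `Ω_{2m+1}(q)`, `m ≥ 5`. -/
theorem nondeg_max_odd (hodd : Odd (Fintype.card F)) (m : ℕ) (hm : 5 ≤ m)
    (W : Submodule F (Unit ⊕ (Fin m ⊕ Fin m) → F)) (hW0 : W ≠ ⊥)
    (hev : Even (Module.finrank F W))
    (hW : Cfsg.Geo.IsNondegenerateOn (QuadraticMap.polar (Cfsg.quadFormOdd m F)) W)
    (hex : ¬ (Fintype.card F = 3 ∧ Module.finrank F W = 2 ∧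
      Cfsg.Geo.IsPlusTypeOn (Cfsg.quadFormOdd m F) W)) :
    Cfsg.Geo.IsMaximalIn (Cfsg.Geo.omegaGL (Cfsg.quadFormOdd m F))
      (Cfsg.Geo.subspaceStabilizer W ⊓ Cfsg.Geo.omegaGL (Cfsg.quadFormOdd m F)) := by
  classical
  have h2 : (2 : F) ≠ 0 := Cfsg.Agent.Lib.Helper44_FinSq.two_ne_zero_of_odd_card hodd
  have hQ := Cfsg.Agent.S5675.quadFormOdd_nondeg h2 m
  have hcard : Fintype.card (Unit ⊕ (Fin m ⊕ Fin m)) = 2 * m + 1 := by
    simp [Fintype.card_sum]; ring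
  have hfrV : Module.finrank F (Unit ⊕ (Fin m ⊕ Fin m) → F) = 2 * m + 1 := by
    rw [Module.finrank_pi, hcard]
  obtain ⟨r, hr⟩ := hev
  apply Cfsg.Agent.Lib.Helper59_OrthNondeg11.nondeg_maximal11 (Cfsg.quadFormOdd m F) hQ
    (fun h => absurd h h2) (by rw [hcard]; omega) W hW0
  · intro h
    rw [h, finrank_top, hfrV] at hr
    omega
  · rw [hcard]
    omega
  · exact hW
  · rintro ⟨hq3, U, hU2, hUnd, hUp, hUW | ⟨-, hsum⟩⟩
    · apply hex
      refine ⟨?_, by rw [← hUW]; exact hU2, by rw [← hUW]; exact hUp⟩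
      have h1 : 1 < Fintype.card F := Fintype.one_lt_card
      obtain ⟨k, hk⟩ := hodd
      omega
    · rw [hcard] at hsum
      omega

/-- Subfield groups in `Ω_{2m+1}(q)`, `q` odd, `m ≥ 3` (`m ≥ 5` for `𝔽₃ ⊂ 𝔽₉`). -/
theorem sub_max_odd (hodd : Odd (Fintype.card F)) (m : ℕ) (hm : 3 ≤ m)
    (F₀ : Subfield F) (r : ℕ) (P : Matrix.GeneralLinearGroup (Unit ⊕ (Fin m ⊕ Fin m)) F)
    (hr : r.Prime) (hcard : Fintype.card F = Nat.card F₀ ^ r)
    (h39 : Nat.card F₀ = 3 → r = 2 → 5 ≤ m)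
    (hP : Cfsg.Geo.IsQuadFormRationalStructure (Cfsg.quadFormOdd m F) F₀ P) :
    Cfsg.Geo.IsMaximalIn (Cfsg.Geo.omegaGL (Cfsg.quadFormOdd m F))
      (Cfsg.Geo.subfieldSubgroup F₀ P ⊓ Cfsg.Geo.omegaGL (Cfsg.quadFormOdd m F)) := by
  have h2 : (2 : F) ≠ 0 := Cfsg.Agent.Lib.Helper44_FinSq.two_ne_zero_of_odd_card hodd
  have hc : Fintype.card (Unit ⊕ (Fin m ⊕ Fin m)) = 2 * m + 1 := by
    simp [Fintype.card_sum]; ring
  exact Cfsg.Agent.Lib.Helper59_QSub7Bridge.qsub_maximal7 (Cfsg.quadFormOdd m F)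
    (Cfsg.Agent.S5675.quadFormOdd_nondeg h2 m) h2 (by rw [hc]; omega) F₀ r hr
    (fun h3 hr2 => by rw [hc]; have := h39 h3 hr2; omega) hcard P hP

end Cfsg.Agent.Lib.Helper59_OmegaOddRows
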