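import Mathlib
import Cfsg.Prelude.Def_GeometricClasses
import Cfsg.Agent.Lib.Helper59_OmegaOddRows
import Cfsg.Agent.Lib.Helper32_Omega7Nondeg
import Cfsg.Agent.Lib.Helper32_OFOddBridge

set_option autoImplicit false

/-!
Assembly of the four clauses for `Ω_7(q)`, `q` odd, with the one missing case (the subfield group
`𝔽₃ ⊂ 𝔽₉`) as a hypothesis.
-/

namespace Cfsg.Agent.Lib.Helper32_Omega7Asm

open Cfsg

/-- the four clauses for `Ω_7(q)`, given the subfield clause in the case `𝔽₃ ⊂ 𝔽₉` -/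
theorem omega7_of_sub39 {F : Type*} [Field F] [Fintype F] (hodd : Odd (Fintype.card F))
    (h39 : ∀ (F₀ : Subfield F) (r : ℕ) (P : Matrix.GeneralLinearGroup (Unit ⊕ (Fin 3 ⊕ Fin 3)) F),
      r.Prime → Fintype.card F = Nat.card F₀ ^ r → Nat.card F₀ = 3 → r = 2 →
      Cfsg.Geo.IsQuadFormRationalStructure (Cfsg.quadFormOdd 3 F) F₀ P →
      Cfsg.Geo.IsMaximalIn (Cfsg.Geo.omegaGL (Cfsg.quadFormOdd 3 F))
        (Cfsg.Geo.subfieldSubgroup F₀ P ⊓ Cfsg.Geo.omegaGL (Cfsg.quadFormOdd 3 F))) :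
    (∀ W : Submodule F (Unit ⊕ (Fin 3 ⊕ Fin 3) → F), W ≠ ⊥ → Cfsg.Geo.IsTotallySingularQuad (Cfsg.quadFormOdd 3 F) W → Cfsg.Geo.IsMaximalIn (Cfsg.Geo.omegaGL (Cfsg.quadFormOdd 3 F)) (Cfsg.Geo.subspaceStabilizer W ⊓ Cfsg.Geo.omegaGL (Cfsg.quadFormOdd 3 F))) ∧
    (∀ W : Submodule F (Unit ⊕ (Fin 3 ⊕ Fin 3) → F), W ≠ ⊥ → Even (Module.finrank F W) → Cfsg.Geo.IsNondegenerateOn (QuadraticMap.polar (Cfsg.quadFormOdd 3 F)) W → ¬ (Fintype.card F = 3 ∧ Module.finrank F W = 2 ∧ Cfsg.Geo.IsPlusTypeOn (Cfsg.quadFormOdd 3 F) W) → Cfsg.Geo.IsMaximalIn (Cfsg.Geo.omegaGL (Cfsg.quadFormOdd 3 F)) (Cfsg.Geo.subspaceStabilizer W ⊓ Cfsg.Geo.omegaGL (Cfsg.quadFormOdd 3 F))) ∧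
    ((Fintype.card F).Prime → ∀ D : Fin 7 → Submodule F (Unit ⊕ (Fin 3 ⊕ Fin 3) → F), Cfsg.Geo.IsOrthogonalMDecomposition (Cfsg.quadFormOdd 3 F) 1 D → Cfsg.Geo.IsMaximalIn (Cfsg.Geo.omegaGL (Cfsg.quadFormOdd 3 F)) (Cfsg.Geo.decompositionStabilizer D ⊓ Cfsg.Geo.omegaGL (Cfsg.quadFormOdd 3 F))) ∧
    (∀ (F₀ : Subfield F) (r : ℕ) (P : Matrix.GeneralLinearGroup (Unit ⊕ (Fin 3 ⊕ Fin 3)) F), r.Prime → Fintype.card F = Nat.card F₀ ^ r → Cfsg.Geo.IsQuadFormRationalStructure (Cfsg.quadFormOdd 3 F) F₀ P → Cfsg.Geo.IsMaximalIn (Cfsg.Geo.omegaGL (Cfsg.quadFormOdd 3 F)) (Cfsg.Geo.subfieldSubgroup F₀ P ⊓ Cfsg.Geo.omegaGL (Cfsg.quadFormOdd 3 F))) := by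
  refine ⟨?_, ?_, ?_, ?_⟩
  · intro W hW0 hW
    exact Cfsg.Agent.Lib.Helper59_OmegaOddRows.ts_max_odd hodd 3 (le_refl 3) W hW0 hW
  · intro W hW0 hev hW hex
    exact Cfsg.Agent.Lib.Helper32_Omega7Nondeg.nondeg_max_omega7 hodd W hW0 hev hW hex
  · intro hp D hD
    have h2 : (2 : F) ≠ 0 := Cfsg.Agent.Lib.Helper44_FinSq.two_ne_zero_of_odd_card hodd
    have hQ := Cfsg.Agent.S5675.quadFormOdd_nondeg h2 3
    have hc : Fintype.card (Unit ⊕ (Fin 3 ⊕ Fin 3)) = 7 := by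
      simp [Fintype.card_sum]
    exact Cfsg.Agent.Lib.Helper32_OFOddBridge.frame_maximal_odd (Cfsg.quadFormOdd 3 F) hQ h2
      (by rw [hc]) (by rw [hc]; decide) hp D hD
  · intro F₀ r P hr hcard hP
    by_cases h : Nat.card F₀ = 3 ∧ r = 2
    · exact h39 F₀ r P hr hcard h.1 h.2 hP
    · exact Cfsg.Agent.Lib.Helper59_OmegaOddRows.sub_max_odd hodd 3 (le_refl 3) F₀ r P hr hcard
        (fun h3 hr2 => absurd ⟨h3, hr2⟩ h) hP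

end Cfsg.Agent.Lib.Helper32_Omega7Asm
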