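import Mathlib
import Cfsg.Agent.Lib.Helper32_OmegaTwoGenModel
import Cfsg.Agent.Lib.Helper94_OrthBridge
import Cfsg.Agent.Lib.Helper94_OrthSiegelBridge
import Cfsg.Agent.Lib.Helper14_SiegelOmega2
import Cfsg.Agent.Lib.Helper14_CartanDieudonne

/-!
helper32: from two-generation data (`Helper32_OmegaTwoGen.TGData`) for a quadratic form `Q` on `ι → F` with
nondegenerate polar form to the two-generation of `PΩ(Q)`.

* `commutator_le_closure_sieg_all`: `Ω ≤ M` for every subgroup `M` containing the abstract Siegel elements (every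
  characteristic, dimension at least five).
* `sq_mem_commutator`: the square of an isometry lies in `Ω = [O, O]`.
* `pomega_two_generated`: the wrapper.
-/

set_option autoImplicit false
set_option linter.unusedSectionVars false
set_option linter.unusedVariables false

namespace Cfsg.Agent.Lib.Helper32_OmegaTwoGenMain

open Matrix Module Cfsg.Agent.Lib.Helper94_Symp Cfsg.Agent.Lib.Helper94_Bridge
  Cfsg.Agent.Lib.Helper94_OrthSmall Cfsg.Agent.Lib.Helper94_OrthBridge
  Cfsg.Agent.Lib.Helper94_OrthSiegel Cfsg.Agent.Lib.Helper94_OrthSiegel2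
  Cfsg.Agent.Lib.Helper94_OrthSiegelBridge
  Cfsg.Agent.Lib.Helper14_Siegel Cfsg.Agent.Lib.Helper14_SiegelOmega
  Cfsg.Agent.Lib.Helper32_OmegaTwoGen Cfsg.Agent.Lib.Helper32_OmegaTwoGenModel

open scoped commutatorElement

variable {ι : Type} [Fintype ι] [DecidableEq ι] {F : Type*} [Field F] [Fintype F]

/-- `Ω = [O, O]` lies in every subgroup containing the abstract Siegel elements. -/
theorem commutator_le_closure_sieg_all (Q : QuadraticForm F (ι → F))
    (hQ : (QuadraticMap.polarBilin Q).Nondegenerate) (hn : 5 ≤ Fintype.card ι)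
    (M : Subgroup ((ι → F) ≃ₗ[F] (ι → F)))
    (hM : ∀ u z, Q u = 0 → QuadraticMap.polarBilin Q u z = 0 →
      sieg (⇑Q) (QuadraticMap.polarBilin Q) u z ∈ M) :
    ⁅oG (⇑Q), oG (⇑Q)⁆ ≤ M := by
  rw [commutator_eq_map]
  refine le_trans (Subgroup.map_mono
    (Cfsg.Agent.Lib.Helper14_SiegelOmega2.commutator_le_siegelGroup_all Q hQ hn)) ?_
  rw [siegelGroup, MonoidHom.map_closure, Subgroup.closure_le]
  rintro _ ⟨g, ⟨u, v, c, hu, hv, huv, hg⟩, rfl⟩
  have huv' : QuadraticMap.polarBilin Q u (c • v) = 0 := by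
    rw [map_smul, QuadraticMap.polarBilin_apply_apply, huv, smul_zero]
  have : ((glEquiv ι F).toMonoidHom.comp (Cfsg.isometryGroup F (⇑Q)).subtype) g =
      sieg (⇑Q) (QuadraticMap.polarBilin Q) u (c • v) := by
    ext x : 1
    rw [sieg_apply (⇑Q) (QuadraticMap.polarBilin Q) (hQs_of Q) (hQp_of Q) hu huv']
    simp only [MonoidHom.coe_comp, Function.comp_apply, Subgroup.coe_subtype,
      MulEquiv.coe_toMonoidHom]
    rw [glEquiv_apply, hg, siegelMatrix_mulVec, hQs_of, hv]
    simp only [map_smul, QuadraticMap.polarBilin_apply_apply, smul_eq_mul]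
    rw [QuadraticMap.polar_comm (⇑Q) x u, QuadraticMap.polar_comm (⇑Q) x v]
    module
  rw [SetLike.mem_coe, this]
  exact hM u (c • v) hu huv'

/-- in a group generated by involutions, squares are products of commutators -/
theorem sq_mem_commutator_of_closure {G : Type*} [Group G] (T : Set G)
    (hT : Subgroup.closure T = ⊤) (hinv : ∀ t ∈ T, t * t = 1) (g : G) :
    g * g ∈ commutator G := by
  have key : ∀ x : G, x ∈ Subgroup.closure T → x * x ∈ commutator G := by
    intro x hx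
    induction hx using Subgroup.closure_induction with
    | mem x hx => rw [hinv x hx]; exact Subgroup.one_mem _
    | one => rw [one_mul]; exact Subgroup.one_mem _
    | mul x y _ _ hx hy =>
      have h1 : x * y * (x * y) = (x * x) * ⁅x⁻¹, y⁆ * (y * y) := by
        rw [commutatorElement_def]
        group
      rw [h1]
      have h2 : ⁅x⁻¹, y⁆ ∈ commutator G := by
        rw [commutator_def]
        exact Subgroup.commutator_mem_commutator (Subgroup.mem_top _) (Subgroup.mem_top _)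
      exact Subgroup.mul_mem _ (Subgroup.mul_mem _ hx h2) hy
    | inv x _ hx =>
      have h1 : x⁻¹ * x⁻¹ = (x * x)⁻¹ := by group
      rw [h1]
      exact Subgroup.inv_mem _ hx
  exact key g (hT ▸ Subgroup.mem_top g)

/-- the square of an isometry lies in `Ω(Q)` (prelude side) -/
theorem sq_mem_commutator_iso (Q : QuadraticForm F (ι → F))
    (hQ : (QuadraticMap.polarBilin Q).Nondegenerate) (hn : 5 ≤ Fintype.card ι)
    (g : ↥(Cfsg.isometryGroup F (⇑Q))) : g * g ∈ commutator ↥(Cfsg.isometryGroup F (⇑Q)) := by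
  by_cases h2 : (2 : F) = 0
  · apply sq_mem_commutator_of_closure _
      (Cfsg.Agent.Lib.Helper14_SiegelOmega2.closure_refl_eq_top_two h2 Q hQ hn)
    rintro _ ⟨v, hv, rfl⟩
    exact Cfsg.Agent.Lib.Helper44_Refl.refl_mul_self Q v hv
  · apply sq_mem_commutator_of_closure _
      (Cfsg.Agent.Lib.Helper14_CartanDieudonne.closure_refl_eq_top h2 Q hQ)
    rintro _ ⟨v, hv, rfl⟩
    exact Cfsg.Agent.Lib.Helper44_Refl.refl_mul_self Q v hv

/-- the square of an isometry lies in `Ω(Q)` (abstract side) -/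
theorem sq_mem_commutator (Q : QuadraticForm F (ι → F))
    (hQ : (QuadraticMap.polarBilin Q).Nondegenerate) (hn : 5 ≤ Fintype.card ι)
    {g : (ι → F) ≃ₗ[F] (ι → F)} (hg : g ∈ oG (⇑Q)) : g * g ∈ ⁅oG (⇑Q), oG (⇑Q)⁆ := by
  rw [commutator_eq_map]
  have h1 : (glEquiv ι F).symm g ∈ Cfsg.isometryGroup F (⇑Q) := by
    rw [isometryGroup_eq, Subgroup.mem_comap]
    show (glEquiv ι F) ((glEquiv ι F).symm g) ∈ oG (⇑Q)
    rw [MulEquiv.apply_symm_apply]
    exact hg
  refine ⟨⟨(glEquiv ι F).symm g, h1⟩ * ⟨(glEquiv ι F).symm g, h1⟩,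
    sq_mem_commutator_iso Q hQ hn _, ?_⟩
  show (glEquiv ι F) ((glEquiv ι F).symm g * (glEquiv ι F).symm g) = g * g
  rw [map_mul, MulEquiv.apply_symm_apply]


/-- every abstract Siegel element lies in `Ω = [O, O]` -/
theorem sieg_mem_omega (Q : QuadraticForm F (ι → F))
    (hQ : (QuadraticMap.polarBilin Q).Nondegenerate)
    (hbig : 7 ≤ Fintype.card ι ∨ 2 < Fintype.card F) {u z : ι → F} (hu : Q u = 0)
    (huz : QuadraticMap.polarBilin Q u z = 0) :
    sieg (⇑Q) (QuadraticMap.polarBilin Q) u z ∈ ⁅oG (⇑Q), oG (⇑Q)⁆ := by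
  classical
  rcases hbig with h7 | h3
  · apply sieg_mem_commutator' (⇑Q) (QuadraticMap.polarBilin Q) (hQs_of Q) (hQp_of Q) hQ _ hu huz
    rw [Module.finrank_fintype_fun_eq_card]
    exact h7
  · -- an element different from 0 and 1
    obtain ⟨l, hl0, hl1⟩ : ∃ l : F, l ≠ 0 ∧ l ≠ 1 := by
      by_contra hcon
      push Not at hcon
      have h1 : ∀ l : F, l ∈ ({0, 1} : Finset F) := by
        intro l
        by_cases h0 : l = 0
        · simp [h0]
        · simp [hcon l h0]
      have h2 : Fintype.card F ≤ ({0, 1} : Finset F).card := by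
        rw [← Finset.card_univ]
        exact Finset.card_le_card (fun l _ => h1 l)
      have h3' : ({0, 1} : Finset F).card ≤ 2 := Finset.card_le_two
      omega
    exact sieg_mem_commutator (⇑Q) (QuadraticMap.polarBilin Q) (hQs_of Q) (hQp_of Q) hQ hl0 hl1
      hu huz

/-- **Wrapper.**  Two-generation data for `Q` give two generators of `PΩ(Q)`. -/
theorem pomega_two_generated (Q : QuadraticForm F (ι → F))
    (hQ : (QuadraticMap.polarBilin Q).Nondegenerate) (hn : 5 ≤ Fintype.card ι)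
    (hbig : 7 ≤ Fintype.card ι ∨ 2 < Fintype.card F)
    (h : TGData (⇑Q) (QuadraticMap.polarBilin Q)) :
    ∃ a b : Cfsg.POmega F (⇑Q),
      Subgroup.closure ({a, b} : Set (Cfsg.POmega F (⇑Q))) = ⊤ := by
  have hrad : ∀ w : ι → F, Q w = 0 → (∀ ζ, QuadraticMap.polarBilin Q w ζ = 0) → w = 0 :=
    fun w _ hw => hQ.1 w hw
  obtain ⟨g, b, hg, hb, hH⟩ := two_gen_of_tgdata (⇑Q) (QuadraticMap.polarBilin Q) (hQs_of Q)
    (hQp_of Q) hrad h
  have haΩ : g * g ∈ ⁅oG (⇑Q), oG (⇑Q)⁆ := sq_mem_commutator Q hQ hn hg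
  have hbΩ : b ∈ ⁅oG (⇑Q), oG (⇑Q)⁆ := by
    have hle : Subgroup.closure (siegSet (⇑Q) (QuadraticMap.polarBilin Q)) ≤
        ⁅oG (⇑Q), oG (⇑Q)⁆ := by
      rw [Subgroup.closure_le]
      rintro _ ⟨u, z, hu, huz, rfl⟩
      exact sieg_mem_omega Q hQ hbig hu huz
    exact hle hb
  have hcl : Subgroup.closure ({g * g, b} : Set ((ι → F) ≃ₗ[F] (ι → F))) =
      ⁅oG (⇑Q), oG (⇑Q)⁆ := by
    apply le_antisymm
    · rw [Subgroup.closure_le]
      rintro x (rfl | rfl)
      · exact haΩ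
      · exact hbΩ
    · apply commutator_le_closure_sieg_all Q hQ hn
      intro u z hu huz
      exact hH _ (Subgroup.subset_closure (by simp)) (Subgroup.subset_closure (by simp)) u z hu huz
  -- pull back to the prelude's `Ω`
  set ψ : ↥(Cfsg.isometryGroup F (⇑Q)) →* ((ι → F) ≃ₗ[F] (ι → F)) :=
    (glEquiv ι F).toMonoidHom.comp (Cfsg.isometryGroup F (⇑Q)).subtype with hψ
  have hψinj : Function.Injective ψ := by
    intro x y hxy
    apply Subtype.ext
    exact (glEquiv ι F).injective hxy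
  rw [commutator_eq_map] at haΩ hbΩ hcl
  obtain ⟨a₀, ha₀, ha₀g⟩ := haΩ
  obtain ⟨b₀, hb₀, hb₀b⟩ := hbΩ
  have hcl₀ : Subgroup.closure ({a₀, b₀} : Set ↥(Cfsg.isometryGroup F (⇑Q))) =
      commutator ↥(Cfsg.isometryGroup F (⇑Q)) := by
    apply Subgroup.map_injective hψinj
    rw [MonoidHom.map_closure, Set.image_pair]
    show Subgroup.closure {ψ a₀, ψ b₀} = _
    rw [ha₀g, hb₀b]
    exact hcl
  have hcl₁ : Subgroup.closure ({⟨a₀, ha₀⟩, ⟨b₀, hb₀⟩} : Set ↥(Cfsg.Omega F (⇑Q))) = ⊤ := by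
    apply Subgroup.map_injective (Subgroup.subtype_injective (Cfsg.Omega F (⇑Q)))
    rw [MonoidHom.map_closure, Set.image_pair, ← MonoidHom.range_eq_map, Subgroup.range_subtype]
    exact hcl₀
  refine ⟨QuotientGroup.mk ⟨a₀, ha₀⟩, QuotientGroup.mk ⟨b₀, hb₀⟩, ?_⟩
  have h1 : (Subgroup.closure ({⟨a₀, ha₀⟩, ⟨b₀, hb₀⟩} : Set ↥(Cfsg.Omega F (⇑Q)))).map
      (QuotientGroup.mk' (Subgroup.center ↥(Cfsg.Omega F (⇑Q)))) = ⊤ := by
    rw [hcl₁]
    exact Subgroup.map_top_of_surjective _ (QuotientGroup.mk'_surjective _)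
  rw [MonoidHom.map_closure, Set.image_pair] at h1
  exact h1

end Cfsg.Agent.Lib.Helper32_OmegaTwoGenMain
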