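import Mathlib
import Cfsg.Agent.Lib.Helper32_OmegaTwoGenMain
import Cfsg.Agent.Lib.Helper40_QuadIso
import Cfsg.Agent.Lib.Helper40_QuadStd
import Cfsg.Agent.Lib.Helper44_OrthOddLang
import Cfsg.Agent.Lib.Helper14_POmegaSimple

/-!
helper32: assembly for S2413 / S2414 / S2415: from a `Model` to two-generation data on the hyperbolic sum, type
identification, and the final statements in terms of models.
-/

set_option autoImplicit false
set_option linter.unusedSectionVars false
set_option linter.unusedVariables false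

namespace Cfsg.Agent.Lib.Helper32_OmegaTwoGenAsm

open Matrix Module Cfsg.Agent.Lib.Helper94_Symp Cfsg.Agent.Lib.Helper94_Bridge
  Cfsg.Agent.Lib.Helper94_OrthSmall Cfsg.Agent.Lib.Helper94_OrthBridge
  Cfsg.Agent.Lib.Helper94_OrthSiegel Cfsg.Agent.Lib.Helper94_OrthSiegel2
  Cfsg.Agent.Lib.Helper94_OrthSiegelBridge
  Cfsg.Agent.Lib.Helper32_OmegaTwoGen Cfsg.Agent.Lib.Helper32_OmegaTwoGenModel
  Cfsg.Agent.Lib.Helper32_OmegaTwoGenMain Cfsg.Agent.Lib.Helper40_QuadIso
  Cfsg.Agent.Lib.Helper40_QuadStd Cfsg.Agent.Lib.Helper44_StdForms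

universe u v

section sum

variable {F : Type*} [Field F] {M : Type*} [AddCommGroup M] [Module F M]
  (Q : M → F) (B : LinearMap.BilinForm F M)
  (hQs : ∀ (c : F) (x : M), Q (c • x) = c * c * Q x)
  (hQp : ∀ x y : M, Q (x + y) = Q x + Q y + B x y)

include hQs in
lemma Qsum_smul (c : F) (x : (F × F) × M) : Qsum Q (c • x) = c * c * Qsum Q x := by
  simp only [Qsum, Prod.smul_fst, Prod.smul_snd, smul_eq_mul, hQs]
  ring

include hQp in
lemma Qsum_add (x y : (F × F) × M) : Qsum Q (x + y) = Qsum Q x + Qsum Q y + Bsum B x y := by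
  simp only [Qsum, Bsum_apply, Prod.fst_add, Prod.snd_add, hQp]
  ring

lemma Bsum_nondegenerate (hN : B.Nondegenerate) : (Bsum B).Nondegenerate := by
  constructor
  · intro x hx
    have h1 : x.1.1 = 0 := by
      have := hx ((0, 1), 0)
      simpa [Bsum_apply] using this
    have h2 : x.1.2 = 0 := by
      have := hx ((1, 0), 0)
      simpa [Bsum_apply] using this
    have h3 : x.2 = 0 := by
      apply hN.1
      intro y
      have := hx ((0, 0), y)
      simpa [Bsum_apply] using this
    exact Prod.ext (Prod.ext h1 h2) h3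
  · intro y hy
    have h1 : y.1.1 = 0 := by
      have := hy ((0, 1), 0)
      simpa [Bsum_apply] using this
    have h2 : y.1.2 = 0 := by
      have := hy ((1, 0), 0)
      simpa [Bsum_apply] using this
    have h3 : y.2 = 0 := by
      apply hN.2
      intro x
      have := hy ((0, 0), x)
      simpa [Bsum_apply] using this
    exact Prod.ext (Prod.ext h1 h2) h3

end sum


section model

variable {F : Type u} [Field F]

/-- the isometry `diag(c, c⁻¹) ⊕ g` of the hyperbolic sum -/
noncomputable def sumIso {M : Type*} [AddCommGroup M] [Module F M] (c : F) (hc : c ≠ 0)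
    (g : M ≃ₗ[F] M) : ((F × F) × M) ≃ₗ[F] ((F × F) × M) :=
  LinearEquiv.prodCongr
    (LinearEquiv.prodCongr (LinearEquiv.smulOfUnit (Units.mk0 c hc))
      (LinearEquiv.smulOfUnit (Units.mk0 c hc)⁻¹)) g

lemma sumIso_apply {M : Type*} [AddCommGroup M] [Module F M] (c : F) (hc : c ≠ 0)
    (g : M ≃ₗ[F] M) (x : (F × F) × M) :
    sumIso c hc g x = ((c * x.1.1, c⁻¹ * x.1.2), g x.2) := by
  rcases x with ⟨⟨α, β⟩, y⟩
  rfl

/-- **two-generation data on the hyperbolic sum of a model** -/
theorem model_tgdata (X : Model.{u, v} F) : TGData (Qsum X.Q) (Bsum X.B) := by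
  refine ⟨sumIso X.c X.hc X.g, ((1, 0), 0), ((0, 1), 0), ((0, 0), X.z₀), X.c, ?_, X.hc, ?_, ?_, ?_,
    ?_, ?_, ?_, ?_, ?_, ?_⟩
  · intro x
    rw [sumIso_apply]
    simp only [Qsum, X.hg x.2]
    have : X.c * x.1.1 * (X.c⁻¹ * x.1.2) = x.1.1 * x.1.2 := by
      field_simp [X.hc]
    rw [this]
  · simp [Qsum, Q_zero X.Q X.hQs]
  · simp [Qsum, Q_zero X.Q X.hQs]
  · simp [Bsum_apply]
  · rw [sumIso_apply]
    simp [Prod.ext_iff]
  · simp [Qsum, X.hz₀]
  · intro h
    exact X.hz₀0 (congrArg Prod.snd h)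
  · simp [Bsum_apply]
  · simp [Bsum_apply]
  · intro A hzA hAcl ζ hζu hζv
    -- the `M`-part of `A`
    let A' : AddSubgroup X.M :=
      { carrier := {y | (((0, 0), y) : (F × F) × X.M) ∈ A}
        zero_mem' := A.zero_mem
        add_mem' := by
          intro y y' hy hy'
          have := A.add_mem hy hy'
          simpa using this
        neg_mem' := by
          intro y hy
          have := A.neg_mem hy
          simpa using this }
    have hA' : A' = ⊤ := by
      apply X.hcyc A' hzA
      intro y hy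
      have h1 := hAcl _ hy
      rw [sumIso_apply, sumIso_apply] at h1
      have h2 : (X.c * X.c) • (((X.c * (X.c * (0 : F)), X.c⁻¹ * (X.c⁻¹ * (0 : F))), X.g (X.g y)) :
          (F × F) × X.M) = ((0, 0), (X.c * X.c) • X.g (X.g y)) := by
        simp [Prod.ext_iff]
      have h3 : (((0, 0), (X.c * X.c) • X.g (X.g y)) : (F × F) × X.M) ∈ A := by
        rw [← h2]
        exact h1
      exact h3
    have h1 : ζ.1.1 = 0 := by
      simpa [Bsum_apply] using hζv
    have h2 : ζ.1.2 = 0 := by
      simpa [Bsum_apply] using hζu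
    have h3 : ζ.2 ∈ A' := by rw [hA']; exact AddSubgroup.mem_top _
    have h4 : ζ = ((0, 0), ζ.2) := Prod.ext (Prod.ext h1 h2) rfl
    rw [h4]
    exact h3


/-- the hyperbolic sum as a quadratic form -/
noncomputable def sumForm (X : Model.{u, v} F) : QuadraticForm F ((F × F) × X.M) :=
  qmOf (Qsum X.Q) (Bsum X.B) (Qsum_smul X.Q X.hQs) (Qsum_add X.Q X.B X.hQp)

lemma sumForm_apply (X : Model.{u, v} F) (x : (F × F) × X.M) :
    sumForm X x = Qsum X.Q x := rfl

lemma polarBilin_sumForm (X : Model.{u, v} F) :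
    QuadraticMap.polarBilin (sumForm X) = Bsum X.B := by
  refine LinearMap.ext fun x => LinearMap.ext fun y => ?_
  rw [QuadraticMap.polarBilin_apply_apply, QuadraticMap.polar, sumForm_apply X, sumForm_apply X,
    sumForm_apply X, Qsum_add X.Q X.B X.hQp]
  ring

lemma sumForm_nondeg (X : Model.{u, v} F) :
    (QuadraticMap.polarBilin (sumForm X)).Nondegenerate := by
  rw [polarBilin_sumForm X]
  exact Bsum_nondegenerate X.B X.hN

lemma finrank_sum (X : Model.{u, v} F) :
    finrank F ((F × F) × X.M) = finrank F X.M + 2 := by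
  rw [Module.finrank_prod, Module.finrank_prod, Module.finrank_self]
  ring

/-- transport of the two-generation data along an isometry to a coordinate form -/
theorem tgdata_of_iso (X : Model.{u, v} F) {ι : Type} [Fintype ι] [DecidableEq ι]
    (Q' : QuadraticForm F (ι → F)) (h : Iso (sumForm X) Q') :
    TGData (⇑Q') (QuadraticMap.polarBilin Q') := by
  obtain ⟨φ, hφ⟩ := h
  apply TGData.map φ (Q := Qsum X.Q) (B := Bsum X.B) _ _ (model_tgdata X)
  · intro x
    exact hφ x
  · intro x y
    rw [QuadraticMap.polarBilin_apply_apply, QuadraticMap.polar, ← map_add, hφ, hφ, hφ,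
      ← polarBilin_sumForm X, QuadraticMap.polarBilin_apply_apply, QuadraticMap.polar]

end model

section final

variable {F : Type u} [Field F] [Fintype F]

/-- **PLUS**: a model of dimension `2k` with a totally singular `k`-space gives two generators of
`PΩ⁺_{2k+2}(F)`. -/
theorem plus_two_generated (k : ℕ) (hk : 3 ≤ k) (X : Model.{u, v} F)
    (hdim : finrank F X.M = 2 * k) (U : Submodule F X.M) (hU : ∀ x ∈ U, X.Q x = 0)
    (hUdim : finrank F U = k) :
    ∃ a b : Cfsg.POmega F (Cfsg.quadFormPlus (k + 1) F),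
      Subgroup.closure ({a, b} : Set (Cfsg.POmega F (Cfsg.quadFormPlus (k + 1) F))) = ⊤ := by
  classical
  -- the sum is hyperbolic
  have hhyp : IsHyp (sumForm X) := by
    let f : (F × U) →ₗ[F] ((F × F) × X.M) :=
      { toFun := fun p => ((p.1, 0), (p.2 : X.M))
        map_add' := by
          intro p p'
          simp
        map_smul' := by
          intro c p
          simp }
    have hf : Function.Injective f := by
      intro p p' h
      have h1 : p.1 = p'.1 := congrArg (fun x : (F × F) × X.M => x.1.1) h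
      have h2 : (p.2 : X.M) = p'.2 := congrArg (fun x : (F × F) × X.M => x.2) h
      exact Prod.ext h1 (Subtype.ext h2)
    refine ⟨LinearMap.range f, ?_, ?_⟩
    · rintro _ ⟨p, rfl⟩
      show Qsum X.Q ((p.1, 0), (p.2 : X.M)) = 0
      simp [Qsum, hU p.2 p.2.2]
    · have h1 : finrank F (LinearMap.range f) = 1 + k := by
        rw [LinearMap.finrank_range_of_inj hf, Module.finrank_prod, Module.finrank_self, hUdim]
      rw [h1, finrank_sum X, hdim]
      omega
  obtain ⟨ζ, hζ⟩ := exists_aniso (F := F)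
  have hV : finrank F ((F × F) × X.M) = 2 * (k + 1) := by
    rw [finrank_sum X, hdim]
    ring
  have hiso : Iso (sumForm X) (qfPlus (k + 1) F) := by
    rcases iso_plus_or_minus (k + 1) (by omega) hV (sumForm X) (sumForm_nondeg X) 1 ζ hζ with h | h
    · exact h
    · exfalso
      exact not_isHyp_qfMinus (k + 1 - 1) 1 ζ hζ (IsHyp.of_iso h hhyp)
  have hdata := tgdata_of_iso X (qfPlus (k + 1) F) hiso
  have hcard : Fintype.card (Fin (k + 1) ⊕ Fin (k + 1)) = 2 * (k + 1) := by
    rw [Fintype.card_sum, Fintype.card_fin]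
    ring
  have hres := pomega_two_generated (qfPlus (k + 1) F)
    (Cfsg.Agent.Lib.Helper14_POmegaSimple.nondegenerate_qfPlus (k + 1)) (by rw [hcard]; omega)
    (Or.inl (by rw [hcard]; omega)) hdata
  rw [coe_qfPlus] at hres
  exact hres


/-- **MINUS**: a model of dimension `2k` whose hyperbolic sum is not hyperbolic gives two generators of
`PΩ⁻_{2k+2}(F)`. -/
theorem minus_two_generated (k : ℕ) (hk : 3 ≤ k) (a b : F)
    (hab : ∀ z₁ z₂ : F, z₁ ^ 2 + a * z₁ * z₂ + b * z₂ ^ 2 = 0 → z₁ = 0 ∧ z₂ = 0)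
    (X : Model.{u, v} F) (hdim : finrank F X.M = 2 * k)
    (hnot : ∀ U : Submodule F ((F × F) × X.M), (∀ x ∈ U, Qsum X.Q x = 0) → finrank F U ≤ k) :
    ∃ g h : Cfsg.POmega F (Cfsg.quadFormMinus k F a b),
      Subgroup.closure ({g, h} : Set (Cfsg.POmega F (Cfsg.quadFormMinus k F a b))) = ⊤ := by
  classical
  have hV : finrank F ((F × F) × X.M) = 2 * (k + 1) := by
    rw [finrank_sum X, hdim]
    ring
  have hnh : ¬ IsHyp (sumForm X) := by
    rintro ⟨U, hU, hUd⟩
    have h1 := hnot U hU
    rw [hV] at hUd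
    omega
  have hiso : Iso (sumForm X) (qfMinus k F a b) := by
    rcases iso_plus_or_minus (k + 1) (by omega) hV (sumForm X) (sumForm_nondeg X) a b hab with h | h
    · exfalso
      exact hnh (IsHyp.of_iso h.symm (isHyp_qfPlus (k + 1)))
    · exact h
  have hdata := tgdata_of_iso X (qfMinus k F a b) hiso
  have hcard : Fintype.card ((Fin k ⊕ Fin k) ⊕ Fin 2) = 2 * k + 2 := by
    rw [Fintype.card_sum, Fintype.card_sum, Fintype.card_fin, Fintype.card_fin]
    ring
  have hres := pomega_two_generated (qfMinus k F a b)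
    (Cfsg.Agent.Lib.Helper14_POmegaSimple.nondegenerate_qfMinus k a b hab) (by rw [hcard]; omega)
    (Or.inl (by rw [hcard]; omega)) hdata
  rw [coe_qfMinus] at hres
  exact hres

/-- **ODD**: a model of dimension `2k+1` gives two generators of `PΩ_{2k+3}(F)`, `|F|` odd. -/
theorem odd_two_generated (h2 : (2 : F) ≠ 0) (k : ℕ) (hk : 2 ≤ k) (X : Model.{u, v} F)
    (hdim : finrank F X.M = 2 * k + 1) :
    ∃ a b : Cfsg.POmega F (Cfsg.quadFormOdd (k + 1) F),
      Subgroup.closure ({a, b} : Set (Cfsg.POmega F (Cfsg.quadFormOdd (k + 1) F))) = ⊤ := by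
  classical
  have hV : finrank F ((F × F) × X.M) = 2 * (k + 1) + 1 := by
    rw [finrank_sum X, hdim]
    ring
  have hI : finrank F (Cfsg.Agent.Lib.Helper44_OrthOddLang.I (k + 1) → F) = 2 * (k + 1) + 1 := by
    rw [Module.finrank_fintype_fun_eq_card, Fintype.card_sum, Fintype.card_sum, Fintype.card_fin,
      Fintype.card_unit]
    ring
  -- coordinates
  have e : ((F × F) × X.M) ≃ₗ[F] (Cfsg.Agent.Lib.Helper44_OrthOddLang.I (k + 1) → F) :=
    LinearEquiv.ofFinrankEq _ _ (by rw [hV, hI])
  set K₀ : QuadraticForm F (Cfsg.Agent.Lib.Helper44_OrthOddLang.I (k + 1) → F) :=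
    (sumForm X).comp (e.symm : _ →ₗ[F] _) with hK₀
  have hK₀a : ∀ y, K₀ y = sumForm X (e.symm y) := fun y => rfl
  have hK₀nd : (QuadraticMap.polarBilin K₀).Nondegenerate := by
    have hpol : ∀ x y, QuadraticMap.polarBilin K₀ x y =
        QuadraticMap.polarBilin (sumForm X) (e.symm x) (e.symm y) := by
      intro x y
      rw [QuadraticMap.polarBilin_apply_apply, QuadraticMap.polarBilin_apply_apply,
        QuadraticMap.polar, QuadraticMap.polar, hK₀a, hK₀a, hK₀a, map_add]
    have hnd := sumForm_nondeg X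
    constructor
    · intro x hx
      have h1 : e.symm x = 0 := by
        apply hnd.1
        intro y
        have := hx (e y)
        rw [hpol, e.symm_apply_apply] at this
        exact this
      exact e.symm.injective (by rw [h1, map_zero])
    · intro y hy
      have h1 : e.symm y = 0 := by
        apply hnd.2
        intro x
        have := hy (e x)
        rw [hpol, e.symm_apply_apply] at this
        exact this
      exact e.symm.injective (by rw [h1, map_zero])
  obtain ⟨d, φ, hφ⟩ := Cfsg.Agent.Lib.Helper44_OrthOddLang.similar_odd (k + 1) K₀ hK₀nd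
  have hd0 : (d : F) ≠ 0 := d.ne_zero
  -- the similarity `χ : V → coordinates`
  set χ : ((F × F) × X.M) ≃ₗ[F] (Cfsg.Agent.Lib.Helper44_OrthOddLang.I (k + 1) → F) :=
    (φ.trans e.symm).symm with hχ
  have hχQ : ∀ x, qfOdd (k + 1) F (χ x) = (d : F)⁻¹ * Qsum X.Q x := by
    intro x
    have h1 := hφ (χ x)
    have h3 : e.symm (φ (χ x)) = x := by
      have : (φ.trans e.symm) ((φ.trans e.symm).symm x) = x := LinearEquiv.apply_symm_apply _ x
      exact this
    rw [hK₀a, h3, sumForm_apply] at h1
    rw [h1, ← mul_assoc, inv_mul_cancel₀ hd0, one_mul]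
  have hdata : TGData (⇑(qfOdd (k + 1) F)) (QuadraticMap.polarBilin (qfOdd (k + 1) F)) := by
    have hsc : TGData (fun x => (d : F)⁻¹ * Qsum X.Q x) ((d : F)⁻¹ • Bsum X.B) :=
      TGData.scale (Qsum X.Q) (Bsum X.B) (Qsum_smul X.Q X.hQs) (d : F)⁻¹ (inv_ne_zero hd0)
        (fun x => rfl) (fun x y => rfl) (model_tgdata X)
    apply TGData.map χ _ _ hsc
    · intro x
      exact hχQ x
    · intro x y
      rw [QuadraticMap.polarBilin_apply_apply, QuadraticMap.polar, ← map_add, hχQ, hχQ, hχQ,
        Qsum_add X.Q X.B X.hQp, LinearMap.smul_apply, LinearMap.smul_apply, smul_eq_mul]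
      ring
  have hcard : Fintype.card (Unit ⊕ (Fin (k + 1) ⊕ Fin (k + 1))) = 2 * (k + 1) + 1 := by
    rw [Fintype.card_sum, Fintype.card_sum, Fintype.card_fin, Fintype.card_unit]
    ring
  have hres := pomega_two_generated (qfOdd (k + 1) F)
    (Cfsg.Agent.Lib.Helper14_POmegaSimple.nondegenerate_qfOdd h2 (k + 1)) (by rw [hcard]; omega)
    (Or.inl (by rw [hcard]; omega)) hdata
  rw [coe_qfOdd] at hres
  exact hres

end final

end Cfsg.Agent.Lib.Helper32_OmegaTwoGenAsm
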