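import Mathlib
import Cfsg.Agent.Lib.Helper32_OFDefs

set_option autoImplicit false

/-!
Definitions for the "platonic lemma" (finite `p'`-groups of rotations of a nondegenerate quadratic
space of dimension three have elements of order at most five), used for the orthogonal frames
rows S5679, S5696.
-/

namespace Cfsg.Agent.Lib.Helper32_P3Defs

open Module Cfsg.Agent.Lib.Helper94_OrthSmall

variable {F U : Type*} [Field F] [AddCommGroup U] [Module F U]

/-- the subspace of fixed vectors of a linear automorphism -/
def fixS (g : U ≃ₗ[F] U) : Submodule F U :=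
  LinearMap.ker ((g : U →ₗ[F] U) - LinearMap.id)

lemma mem_fixS {g : U ≃ₗ[F] U} {x : U} : x ∈ fixS g ↔ g x = x := by
  simp [fixS, LinearMap.mem_ker, sub_eq_zero]

/-- the polynomial vanishing exactly when the rotation `r_a r_b` has order at most five on the
plane `⟨a, b⟩`: `t = B a b ^ 2`, `n = Q a * Q b` (orders `2, 1, 3, 4, 5`) -/
def rotPoly (t n : F) : F :=
  t * (t - 4 * n) * (t - n) * (t - 2 * n) * (t * t - 3 * t * n + n * n)

end Cfsg.Agent.Lib.Helper32_P3Defs
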