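import Mathlib
import Cfsg.Agent.Lib.Helper44_PSLnFieldCent
import Cfsg.Agent.Lib.Helper44_BalanceGen

/-!
# Local balance for field automorphisms of `PSL_n(F)`: definitions (helper44)

`FixK n σ` = the fixed points of `fieldAut σ` on `PSL_n(F)`; `psi n σ` = the action of the subfield
group `SL_n(F₀)`, `F₀` the fixed field of `σ`, on `PSL_n(F)` by conjugation.
-/

set_option autoImplicit false
set_option linter.unusedSectionVars false
set_option linter.unusedVariables false

namespace Cfsg.Agent.Lib.Helper44_PSLnBalDefs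

open Matrix Cfsg.Agent.Lib.Helper14_PSLAut Cfsg.Agent.Lib.Helper44_PSLnRoot
  Cfsg.Agent.Lib.Helper44_PSLnTv Cfsg.Agent.Lib.Helper44_PSLnOut
  Cfsg.Agent.Lib.Helper44_PSLnFieldCent Cfsg.Agent.Lib.Helper44_FixField

variable {F : Type*} [Field F] {n : ℕ}

local notation "Gn" => Matrix.ProjectiveSpecialLinearGroup (Fin n) F

/-- the fixed points of the standard field automorphism -/
def FixK (n : ℕ) (σ : F ≃+* F) : Subgroup (Matrix.ProjectiveSpecialLinearGroup (Fin n) F) :=
  MonoidHom.eqLocus (fieldAut (n := n) σ).toMonoidHom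
    (MonoidHom.id (Matrix.ProjectiveSpecialLinearGroup (Fin n) F))

theorem mem_FixK {σ : F ≃+* F} {k : Gn} : k ∈ FixK n σ ↔ fieldAut σ k = k := Iff.rfl

/-- the subfield group `SL_n(F₀)` inside `SL_n(F)` -/
noncomputable def mapSL (n : ℕ) (σ : F ≃+* F) :
    Matrix.SpecialLinearGroup (Fin n) ↥(fixField σ) →* Matrix.SpecialLinearGroup (Fin n) F :=
  Matrix.SpecialLinearGroup.map (fixField σ).subtype

theorem mapSL_coe (σ : F ≃+* F) (s : Matrix.SpecialLinearGroup (Fin n) ↥(fixField σ)) :
    (mapSL n σ s).1 = s.1.map (fixField σ).subtype := rfl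

/-- the subfield group `SL_n(F₀)` acting on `PSL_n(F)` by conjugation -/
noncomputable def psi (n : ℕ) (σ : F ≃+* F) :
    Matrix.SpecialLinearGroup (Fin n) ↥(fixField σ) →*
      MulAut (Matrix.ProjectiveSpecialLinearGroup (Fin n) F) :=
  (MulAut.conj : Matrix.ProjectiveSpecialLinearGroup (Fin n) F →*
    MulAut (Matrix.ProjectiveSpecialLinearGroup (Fin n) F)).comp
      ((proj (n := n) (F := F)).comp (mapSL n σ))

theorem psi_apply (σ : F ≃+* F) (s : Matrix.SpecialLinearGroup (Fin n) ↥(fixField σ)) :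
    psi n σ s = MulAut.conj (proj (mapSL n σ s)) := rfl

end Cfsg.Agent.Lib.Helper44_PSLnBalDefs
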