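import Mathlib
import Cfsg.Agent.Lib.Helper44_PSLnBalDefs
import Cfsg.Agent.Lib.Helper44_PSL2Aut

set_option autoImplicit false

namespace Cfsg.Agent.Lib.Helper32_PSLFBAL_CONJINJ

open scoped commutatorElement
open Matrix Cfsg.Agent.Lib.Helper14_PSLAut Cfsg.Agent.Lib.Helper44_PSLnRoot
  Cfsg.Agent.Lib.Helper44_PSLnTv Cfsg.Agent.Lib.Helper44_PSLnOut
  Cfsg.Agent.Lib.Helper44_PSLnFieldCent Cfsg.Agent.Lib.Helper44_FixField
  Cfsg.Agent.Lib.Helper44_PSLnBalDefs Cfsg.Agent.Lib.Helper44_BalanceGen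
  Cfsg.Agent.Lib.Helper44_PSLnLang Cfsg.Agent.Lib.Helper44_PSL2Aut

variable {F : Type*} [Field F] {n : ℕ}

local notation "Gn" => Matrix.ProjectiveSpecialLinearGroup (Fin n) F

/-- The centre of `PSL_n(F)` is trivial (no hypothesis on `n` needed). -/
theorem conj_eq_one_imp (x : Gn) (hx : MulAut.conj x = 1) : x = 1 := by
  induction x using QuotientGroup.induction_on with
  | H s =>
    rw [conj_mk_eq, conjAut_eq_one_iff, Cfsg.Geo.mem_scalars_iff] at hx
    obtain ⟨c, hc⟩ := hx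
    have hcen : s ∈ Subgroup.center (Matrix.SpecialLinearGroup (Fin n) F) := by
      rw [Subgroup.mem_center_iff]
      intro t
      apply Subtype.ext
      have hs : (s : Matrix (Fin n) (Fin n) F) = (c : F) • (1 : Matrix (Fin n) (Fin n) F) := hc
      rw [Matrix.SpecialLinearGroup.coe_mul, Matrix.SpecialLinearGroup.coe_mul, hs,
        Matrix.smul_mul, Matrix.mul_smul, Matrix.one_mul, Matrix.mul_one]
    exact (QuotientGroup.eq_one_iff s).2 hcen

/-- **F_CONJINJ**. -/
theorem conj_injective (hn : 2 ≤ n) :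
    Function.Injective (MulAut.conj : Gn →* MulAut Gn) := by
  rw [injective_iff_map_eq_one]
  exact conj_eq_one_imp

end Cfsg.Agent.Lib.Helper32_PSLFBAL_CONJINJ
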