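import Mathlib
import Cfsg.Agent.Lib.Helper44_PSLnBalDefs
import Cfsg.Agent.Lib.Helper44_PSL2Aut

/-!
# PSLFBAL package F_KEY (helper44's market, field half of S2686): an automorphism of `PSL_n(F)`
fixing all `F₀`-rational root elements is a power of `fieldAut σ`
-/

set_option autoImplicit false

namespace Cfsg.Agent.Lib.Helper32_PSLFBAL_KEY

open scoped commutatorElement Pointwise
open Matrix Cfsg.Agent.Lib.Helper14_PSLAut Cfsg.Agent.Lib.Helper44_PSLnRoot
  Cfsg.Agent.Lib.Helper44_PSLnTv Cfsg.Agent.Lib.Helper44_PSLnOut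
  Cfsg.Agent.Lib.Helper44_PSLnFieldCent Cfsg.Agent.Lib.Helper44_FixField
  Cfsg.Agent.Lib.Helper44_PSLnBalDefs Cfsg.Agent.Lib.Helper44_BalanceGen
  Cfsg.Agent.Lib.Helper44_PSLnLang Cfsg.Agent.Lib.Helper44_PSL2Aut
  Cfsg.Agent.Lib.Helper5_Transv Cfsg.Agent.Lib.Helper44_PSLnFrame

variable {F : Type*} [Field F] {n : ℕ}

local notation "Gn" => Matrix.ProjectiveSpecialLinearGroup (Fin n) F
local notation "Vn" => Fin n → F

/-- Galois: an automorphism fixing the fixed field of `σ` pointwise is a power of `σ`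
(copy of `Helper44_PSpBalance.mem_zpowers_of_fixes`). -/
theorem galois_mem_zpowers [Finite F] (σ τ : F ≃+* F) (h : ∀ a : F, σ a = a → τ a = a) :
    τ ∈ Subgroup.zpowers σ := by
  classical
  have : Finite (F ≃+* F) :=
    Finite.of_injective (fun τ : F ≃+* F => (τ : F → F)) DFunLike.coe_injective
  let f : F →ₐ[FixedPoints.subfield (Subgroup.zpowers σ) F] F :=
    { (τ : F →+* F) with
      commutes' := fun a => h a.1 ((mem_fixField σ a.1).mp a.2) }
  obtain ⟨g, hg⟩ := (FixedPoints.toAlgHom_bijective (Subgroup.zpowers σ) F).2 f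
  have h1 : τ = g.1 := by
    ext a
    have := DFunLike.congr_fun hg a
    exact this.symm
  rw [h1]
  exact g.2

theorem fieldAut_mem_zpowers {σ τ : F ≃+* F} (h : τ ∈ Subgroup.zpowers σ) :
    fieldAut (n := n) τ ∈ Subgroup.zpowers (fieldAut (n := n) σ) := by
  obtain ⟨k, rfl⟩ := h
  refine ⟨k, ?_⟩
  show fieldAut σ ^ k = fieldAut (σ ^ k)
  rw [← fieldAutHom_apply, ← fieldAutHom_apply, map_zpow]

/-- `xr hij` is injective for every `n` (no `3 ≤ n` needed). -/
theorem xr_inj {i j : Fin n} (hij : i ≠ j) {a b : F} (h : xr hij a = xr hij b) : a = b := by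
  unfold xr at h
  rw [Cfsg.Agent.Lib.Helper5_RootSL.transvection_eq_tvS,
    Cfsg.Agent.Lib.Helper5_RootSL.transvection_eq_tvS] at h
  have hd : (e j : Vn) ⬝ᵥ e i = 0 := Cfsg.Agent.Lib.Helper5_RootSL.e_dot_e hij
  have h3 := eq_of_proj_eq _ _ h (e i : Vn) (Cfsg.Agent.Lib.Helper5_RootSL.e_ne_zero i)
    (tvS_mulVec_of_dot_zero _ _ hd _ _ hd) (by rw [tvS_coe]; exact tv_sub_one_sq _ _ hd _)
  have h4 : (tv (e i : Vn) (e j) a : Matrix (Fin n) (Fin n) F) = tv (e i : Vn) (e j) b :=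
    congrArg Subtype.val h3
  unfold tv at h4
  have h4' : (a • vecMulVec (e i : Vn) (e j : Vn) : Matrix (Fin n) (Fin n) F)
      = b • vecMulVec (e i : Vn) (e j : Vn) := add_left_cancel h4
  have h5 := congrFun (congrFun h4' i) j
  simpa [vecMulVec_apply, e] using h5

/-- If `conjAut g` fixes `xr hij 1` then it fixes every `xr hij a`. -/
theorem conjAut_fix_xr (g : GL (Fin n) F) {i j : Fin n} (hij : i ≠ j)
    (h1 : conjAut g (xr hij (1 : F)) = xr hij 1) (a : F) :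
    conjAut g (xr hij a) = xr hij a := by
  have hd : (e j : Vn) ⬝ᵥ e i = 0 := Cfsg.Agent.Lib.Helper5_RootSL.e_dot_e hij
  obtain ⟨M, hM⟩ : ∃ M : Matrix (Fin n) (Fin n) F, M = vecMulVec (e i : Vn) (e j : Vn) := ⟨_, rfl⟩
  obtain ⟨N, hN⟩ : ∃ N : Matrix (Fin n) (Fin n) F, N = (g : Matrix (Fin n) (Fin n) F) * M *
      ((g⁻¹ : GL (Fin n) F) : Matrix (Fin n) (Fin n) F) := ⟨_, rfl⟩
  have hconj : ∀ c : F, (g : Matrix (Fin n) (Fin n) F) * tv (e i : Vn) (e j) c *
      ((g⁻¹ : GL (Fin n) F) : Matrix (Fin n) (Fin n) F) = 1 + c • N := by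
    intro c
    unfold tv
    rw [mul_add, add_mul, mul_one, Units.mul_inv, Matrix.mul_smul, Matrix.smul_mul, hN, hM]
  have hMM : M * M = 0 := by
    rw [hM, vecMulVec_mul_vecMulVec, hd, zero_smul]
    simp
  have hNN : N * N = 0 := by
    rw [hN]
    calc (g : Matrix (Fin n) (Fin n) F) * M *
          ((g⁻¹ : GL (Fin n) F) : Matrix (Fin n) (Fin n) F) *
          ((g : Matrix (Fin n) (Fin n) F) * M *
          ((g⁻¹ : GL (Fin n) F) : Matrix (Fin n) (Fin n) F))
        = (g : Matrix (Fin n) (Fin n) F) * M *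
          (((g⁻¹ : GL (Fin n) F) : Matrix (Fin n) (Fin n) F) *
          (g : Matrix (Fin n) (Fin n) F)) * M *
          ((g⁻¹ : GL (Fin n) F) : Matrix (Fin n) (Fin n) F) := by
          simp only [Matrix.mul_assoc]
      _ = 0 := by
          rw [Units.inv_mul, Matrix.mul_one, Matrix.mul_assoc (g : Matrix (Fin n) (Fin n) F),
            hMM, Matrix.mul_zero, Matrix.zero_mul]
  unfold xr at h1
  rw [Cfsg.Agent.Lib.Helper5_RootSL.transvection_eq_tvS] at h1
  have h2 : conjAut g (proj (tvS (e i : Vn) (e j) hd 1))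
      = proj (slConj g (tvS (e i : Vn) (e j) hd 1)) := rfl
  rw [h2] at h1
  have h3 := eq_of_proj_eq _ _ h1.symm (e i : Vn) (Cfsg.Agent.Lib.Helper5_RootSL.e_ne_zero i)
    (tvS_mulVec_of_dot_zero _ _ hd _ _ hd) (by
      rw [slConj_coe, tvS_coe, hconj, add_sub_cancel_left, smul_mul_smul_comm, hNN, smul_zero])
  have h4 := congrArg Subtype.val h3
  rw [tvS_coe, slConj_coe, tvS_coe, hconj] at h4
  unfold tv at h4
  have hNM : N = M := by
    have := add_left_cancel h4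
    rw [one_smul, one_smul, ← hM] at this
    exact this.symm
  unfold xr
  rw [Cfsg.Agent.Lib.Helper5_RootSL.transvection_eq_tvS]
  show proj (slConj g (tvS (e i : Vn) (e j) hd a)) = proj (tvS (e i : Vn) (e j) hd a)
  congr 1
  apply Subtype.ext
  rw [slConj_coe, tvS_coe, hconj, hNM, hM]
  rfl

/-- The case without graph automorphism. -/
theorem key_false [Finite F] (hn : 2 ≤ n) (σ τ : F ≃+* F) (g : GL (Fin n) F)
    (hfix : ∀ (i j : Fin n) (hij : i ≠ j) (a : F), σ a = a →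
      (conjAut g * fieldAut τ : MulAut Gn) (xr hij a) = xr hij a) :
    (conjAut g * fieldAut τ : MulAut Gn) ∈ Subgroup.zpowers (fieldAut (n := n) σ) := by
  have hg1 : ∀ (i j : Fin n) (hij : i ≠ j), conjAut g (xr hij (1 : F)) = xr hij 1 := by
    intro i j hij
    have := hfix i j hij 1 (map_one σ)
    rwa [MulAut.mul_apply, fieldAut_xr, map_one] at this
  have hg : conjAut g = (1 : MulAut Gn) := by
    apply aut_ext_xr hn
    intro i j hij a
    rw [conjAut_fix_xr g hij (hg1 i j hij) a]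
    rfl
  rw [hg, one_mul]
  apply fieldAut_mem_zpowers
  apply galois_mem_zpowers
  intro a ha
  have h01 : (⟨0, by omega⟩ : Fin n) ≠ ⟨1, by omega⟩ := by
    intro h'
    simpa using congrArg Fin.val h'
  have := hfix _ _ h01 a ha
  rw [hg, one_mul, fieldAut_xr] at this
  exact xr_inj h01 this

/-- The case with graph automorphism is impossible for `n ≥ 3`. -/
theorem key_true (hn : 3 ≤ n) (τ : F ≃+* F) (g : GL (Fin n) F)
    (hfix : ∀ (i j : Fin n) (hij : i ≠ j),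
      (conjAut g * fieldAut τ * itAut : MulAut Gn) (xr hij (1 : F)) = xr hij 1) : False := by
  obtain ⟨i0, hi0⟩ : ∃ i0 : Fin n, i0 = ⟨0, by omega⟩ := ⟨_, rfl⟩
  obtain ⟨i1, hi1⟩ : ∃ i1 : Fin n, i1 = ⟨1, by omega⟩ := ⟨_, rfl⟩
  obtain ⟨i2, hi2⟩ : ∃ i2 : Fin n, i2 = ⟨2, by omega⟩ := ⟨_, rfl⟩
  have h01 : i0 ≠ i1 := by
    rw [hi0, hi1]; intro h'; simpa using congrArg Fin.val h'
  have h02 : i0 ≠ i2 := by
    rw [hi0, hi2]; intro h'; simpa using congrArg Fin.val h'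
  have h12 : i1 ≠ i2 := by
    rw [hi1, hi2]; intro h'; simpa using congrArg Fin.val h'
  obtain ⟨y, hy⟩ : ∃ y : MulAut Gn, y = conjAut g * fieldAut τ * itAut := ⟨_, rfl⟩
  obtain ⟨ψ, hψ⟩ : ∃ ψ : Vn, ψ = ((τ : F → F) ∘ (e i0 : Vn)) ᵥ*
      ((g⁻¹ : GL (Fin n) F) : Matrix (Fin n) (Fin n) F) := ⟨_, rfl⟩
  have hyP : y • Pt (e i0 : Vn) = Hp ψ := by
    rw [hy, mul_smul, mul_smul, itAut_smul_Pt, fieldAut_smul_Hp, conjAut_smul_Hp, hψ]
  have hmem : ∀ (j : Fin n) (h : i0 ≠ j), xr h (1 : F) ∈ Hp ψ := by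
    intro j h
    have h1 := hfix i0 j h
    rw [← hy] at h1
    rw [← hyP, ← h1]
    exact Subgroup.smul_mem_pointwise_smul _ _ _ (xr_mem i0 j h 1).1
  have hpar : ∀ (j : Fin n) (h : i0 ≠ j), Par (e j : Vn) ψ := by
    intro j h
    have hm := hmem j h
    rw [xr_eq_tvP] at hm
    refine par_of_tvP_mem_Hp hn _ ?_ (Cfsg.Agent.Lib.Helper5_RootSL.e_ne_zero j) hm
    rw [one_smul]
    exact Cfsg.Agent.Lib.Helper5_RootSL.e_ne_zero i0
  obtain ⟨c, -, hc'⟩ := (hpar i1 h01).trans (hpar i2 h02).symm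
  have h3 := congrFun hc' i2
  simp [e, Ne.symm h12] at h3

/-- **F_KEY**. -/
theorem mem_zpowers_of_fix_xr [Fintype F] {r f : ℕ} [hr : Fact r.Prime]
    (hF : Fintype.card F = r ^ f) (hn : 2 ≤ n) (σ : F ≃+* F) (y : MulAut Gn)
    (hfix : ∀ (i j : Fin n) (hij : i ≠ j) (a : F), σ a = a → y (xr hij a) = xr hij a) :
    y ∈ Subgroup.zpowers (fieldAut (n := n) σ) := by
  rcases Nat.lt_or_ge n 3 with h3 | h3
  · have h2 : n = 2 := by omega
    subst h2
    obtain ⟨g, τ, rfl⟩ := aut_PSL2 hF y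
    exact key_false (le_refl 2) σ τ g hfix
  · obtain ⟨g, τ, ε, rfl⟩ := aut_PSL hF hn y
    cases ε
    · simp only [Bool.false_eq_true, if_false, mul_one] at hfix ⊢
      exact key_false hn σ τ g hfix
    · exfalso
      simp only [if_true] at hfix
      exact key_true h3 τ g (fun i j hij => hfix i j hij 1 (map_one σ))

end Cfsg.Agent.Lib.Helper32_PSLFBAL_KEY
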