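import Mathlib
import Cfsg.Agent.Lib.Helper94_UQInst
import Cfsg.Agent.Lib.Helper27_UQ_GEN
import Cfsg.Agent.Lib.Helper27_UQ_CARD
import Cfsg.Agent.Lib.Helper95_UQ_COUNT

set_option autoImplicit false
set_option linter.unusedSectionVars false
set_option linter.unusedVariables false

/-
helper32: package S2151-ORB (helper68's S2151 market), AUX form: the S2151-CNT count for `(W, Bw B W)` is an explicit
hypothesis `hCNT`; the verbatim `ORB` wrapper follows once S2151-CNT is on main.
Every orbit of `K_v` on `W - 0` has at least `(q^d+1)(q^(d-1)-1)` points (`d = dim W` odd, `≥ 4`).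
-/

open Module Cfsg.Agent.Lib.Helper94_Symp Cfsg.Agent.Lib.Helper94_Herm
  Cfsg.Agent.Lib.Helper13_SUGen Cfsg.Agent.Lib.Helper13_PSUSimple Cfsg.Agent.Lib.Helper14_PSULocal1
  Cfsg.Agent.Lib.Helper27_UQDefs Cfsg.Agent.Lib.Helper27_UQ_KISO Cfsg.Agent.Lib.Helper50_UQAbsDefs
  Cfsg.Agent.Lib.Helper94_UQInst

namespace Cfsg.Agent.Lib.Helper32_S2151_ORBaux

universe u

variable {F : Type*} [Field F] {σ : F →+* F}

/-- the orbit of `w` under `K` (through `ρ`) contains every nonzero vector of `W` of the same norm -/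
theorem orbit_contains {V : Type u} [AddCommGroup V] [Module F V] [Finite F] [FiniteDimensional F V]
    {B : V →ₗ[F] V →ₛₗ[σ] F} (hσ : Invol σ) (hB : IsHerm B) (hN : NondegOn B ⊤)
    {v v' : V} (h : HypPair B v v') (h4 : 4 ≤ finrank F ↥(Wsub B v v'))
    (w : ↥(Wsub B v v')) (hw : w ≠ 0) (w' : ↥(Wsub B v v')) (hw' : w' ≠ 0)
    (hnorm : B (w : V) (w : V) = B (w' : V) (w' : V)) :
    ∃ k ∈ (udat hσ hB h).K, (udat hσ hB h).ρ k w = w' := by
  have hw0 : (w : V) ≠ 0 := fun h0 => hw (Subtype.ext h0)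
  have hw'0 : (w' : V) ≠ 0 := fun h0 => hw' (Subtype.ext h0)
  obtain ⟨k, hk, hkw⟩ := Cfsg.Agent.Lib.Helper27_UQ_GEN.Kv_trans_W hσ hB hN h h4 w.2 w'.2 hw0 hw'0 hnorm
  refine ⟨⟨k, Kv_le B v v' hk⟩, (mem_K hσ hB h).mpr hk, ?_⟩
  apply Subtype.ext
  have hkv : k v = (1 : F) • v := by rw [one_smul]; exact hk.2.1
  rw [ρ_of_mem hσ hB h (l := ⟨k, Kv_le B v v' hk⟩) (Kv_le_Lv B v v' hk) hkv w, map_one, one_smul]
  exact hkw

theorem ORB_aux {V : Type u} [AddCommGroup V] [Module F V] [Finite F] [FiniteDimensional F V]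
    {B : V →ₗ[F] V →ₛₗ[σ] F} (hσ : Invol σ) (hB : IsHerm B) (hN : NondegOn B ⊤) {q : ℕ}
    (hF : Nat.card F = q ^ 2) {v v' : V} (h : HypPair B v v') (d : ℕ)
    (hd : finrank F ↥(Wsub B v v') = d) (hd4 : 4 ≤ d) (hodd : Odd d)
    (hCNT : (Nat.card {x : ↥(Wsub B v v') // Bw B (Wsub B v v') x x = 0} +
          (if Even d then q ^ (d - 1) else q ^ d) =
        q ^ (2 * d - 1) + (if Even d then q ^ d else q ^ (d - 1))) ∧
      (∀ s : F, σ s = s → s ≠ 0 →
        Nat.card {x : ↥(Wsub B v v') // Bw B (Wsub B v v') x x = s} +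
            (if Even d then q ^ (d - 1) else 0) =
          q ^ (2 * d - 1) + (if Even d then 0 else q ^ (d - 1))))
    (w : ↥(Wsub B v v')) (hw : w ≠ 0) :
    (q ^ d + 1) * (q ^ (d - 1) - 1) ≤
      Nat.card {w' : ↥(Wsub B v v') // ∃ k ∈ (udat hσ hB h).K, (udat hσ hB h).ρ k w = w'} := by
  classical
  have hfinV : Finite V := Module.finite_of_finite F
  have hfinW : Finite ↥(Wsub B v v') := inferInstance
  have hnotEven : ¬ Even d := Nat.not_even_iff_odd.mpr hodd
  rw [if_neg hnotEven, if_neg hnotEven] at hCNT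
  have hC2 := hCNT.2
  have hC1 := hCNT.1
  simp only [if_neg hnotEven, add_zero] at hC2
  -- `q ≥ 2`
  have hq2 : 2 ≤ q := by
    have h1 : 1 < Nat.card F := Finite.one_lt_card
    rw [hF] at h1
    by_contra hlt
    push Not at hlt
    interval_cases q <;> simp at h1
  -- the set of nonzero vectors of the same norm
  set s : F := B (w : V) (w : V) with hs
  have hinj : Nat.card {w' : ↥(Wsub B v v') // w' ≠ 0 ∧ Bw B (Wsub B v v') w' w' = s} ≤
      Nat.card {w' : ↥(Wsub B v v') // ∃ k ∈ (udat hσ hB h).K, (udat hσ hB h).ρ k w = w'} := by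
    apply Nat.card_le_card_of_injective
      (fun x => (⟨x.1, orbit_contains hσ hB hN h (hd ▸ hd4) w hw x.1 x.2.1 x.2.2.symm⟩ :
        {w' : ↥(Wsub B v v') // ∃ k ∈ (udat hσ hB h).K, (udat hσ hB h).ρ k w = w'}))
    intro x y hxy
    apply Subtype.ext
    exact congrArg (fun z => z.1) hxy
  refine le_trans ?_ hinj
  -- arithmetic facts
  have hpow1 : q ^ d = q * q ^ (d - 1) := by
    rw [← pow_succ']; congr 1; omega
  have hpow2 : q ^ (2 * d - 1) = q ^ d * q ^ (d - 1) := by
    rw [← pow_add]; congr 1; omega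
  have hpos : 1 ≤ q ^ (d - 1) := Nat.one_le_pow _ _ (by omega)
  have hbound : (q ^ d + 1) * (q ^ (d - 1) - 1) + q ^ d + 1 = q ^ (2 * d - 1) + q ^ (d - 1) := by
    rw [hpow2]
    obtain ⟨m, hm⟩ : ∃ m, q ^ (d - 1) = m + 1 := ⟨q ^ (d - 1) - 1, by omega⟩
    rw [hm, Nat.add_sub_cancel]
    ring
  by_cases hs0 : s = 0
  · -- isotropic case
    have hsplit : Nat.card {x : ↥(Wsub B v v') // Bw B (Wsub B v v') x x = 0} =
        Nat.card {w' : ↥(Wsub B v v') // w' ≠ 0 ∧ Bw B (Wsub B v v') w' w' = s} + 1 := by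
      rw [hs0]
      have e : {x : ↥(Wsub B v v') // Bw B (Wsub B v v') x x = 0} ≃
          Option {w' : ↥(Wsub B v v') // w' ≠ 0 ∧ Bw B (Wsub B v v') w' w' = 0} :=
        { toFun := fun x => if hx : x.1 = 0 then none else some ⟨x.1, hx, x.2⟩
          invFun := fun o => match o with
            | none => ⟨0, by simp⟩
            | some y => ⟨y.1, y.2.2⟩
          left_inv := by
            intro x
            by_cases hx : x.1 = 0
            · simp only [hx, dite_true]
              apply Subtype.ext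
              exact hx.symm
            · simp only [hx, dite_false]
          right_inv := by
            intro o
            cases o with
            | none => simp
            | some y =>
              have := y.2.1
              simp [this] }
      rw [Nat.card_congr e, Finite.card_option]
    rw [hsplit] at hC1
    omega
  · -- anisotropic case
    have hσs : σ s = s := herm_self hB (w : V)
    have h2 := hC2 s hσs hs0
    have hsame : Nat.card {w' : ↥(Wsub B v v') // w' ≠ 0 ∧ Bw B (Wsub B v v') w' w' = s} =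
        Nat.card {x : ↥(Wsub B v v') // Bw B (Wsub B v v') x x = s} := by
      apply Nat.card_congr
      refine Equiv.subtypeEquivRight ?_
      intro x
      constructor
      · exact fun hx => hx.2
      · intro hx
        refine ⟨?_, hx⟩
        intro h0
        apply hs0
        rw [← hx, h0]
        simp
    rw [hsame, h2]
    omega

end Cfsg.Agent.Lib.Helper32_S2151_ORBaux
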