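import Mathlib
import Cfsg.Agent.Lib.Helper94_UQInst
import Cfsg.Agent.Lib.Helper27_UQ_GEN
import Cfsg.Agent.Lib.Helper27_UQ_CARD
import Cfsg.Agent.Lib.Helper95_UQ_COUNT
import Cfsg.Agent.Lib.Helper32_S2151_ORBaux
import Cfsg.Agent.Lib.Helper9_S2151_CNT

set_option autoImplicit false
set_option linter.unusedSectionVars false
set_option linter.unusedVariables false

/-
helper32: package S2151-ORB (helper68's S2151 market), VERBATIM: every orbit of `K_v` on `W - 0` (through `ρ` of `udat`) has at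
least `(q^d+1)(q^(d-1)-1)` points.  = `Helper32_S2151_ORBaux.ORB_aux` + helper9's `CNT` for `(W, Bw B W)`.
-/

open Module Cfsg.Agent.Lib.Helper94_Symp Cfsg.Agent.Lib.Helper94_Herm
  Cfsg.Agent.Lib.Helper13_SUGen Cfsg.Agent.Lib.Helper13_PSUSimple Cfsg.Agent.Lib.Helper14_PSULocal1
  Cfsg.Agent.Lib.Helper27_UQDefs Cfsg.Agent.Lib.Helper27_UQ_KISO Cfsg.Agent.Lib.Helper50_UQAbsDefs
  Cfsg.Agent.Lib.Helper94_UQInst

namespace Cfsg.Agent.Lib.Helper32_S2151_ORB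

universe u

variable {F : Type*} [Field F] {σ : F →+* F}

theorem ORB {V : Type u} [AddCommGroup V] [Module F V] [Finite F] [FiniteDimensional F V]
    {B : V →ₗ[F] V →ₛₗ[σ] F} (hσ : Invol σ) (hB : IsHerm B) (hN : NondegOn B ⊤) {q : ℕ}
    (hF : Nat.card F = q ^ 2) {v v' : V} (h : HypPair B v v') (d : ℕ)
    (hd : finrank F ↥(Wsub B v v') = d) (hd4 : 4 ≤ d) (hodd : Odd d)
    (w : ↥(Wsub B v v')) (hw : w ≠ 0) :
    (q ^ d + 1) * (q ^ (d - 1) - 1) ≤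
      Nat.card {w' : ↥(Wsub B v v') // ∃ k ∈ (udat hσ hB h).K, (udat hσ hB h).ρ k w = w'} := by
  have hWN : NondegOn B (Wsub B v v') := by
    rw [Wsub_eq_Wp]; exact nondegOn_Wp hB hN h
  exact Cfsg.Agent.Lib.Helper32_S2151_ORBaux.ORB_aux hσ hB hN hF h d hd hd4 hodd
    (Cfsg.Agent.Lib.Helper9_S2151_CNT.CNT (Bw B (Wsub B v v')) hσ (isHerm_Bw hB _)
      (nondeg_Bw hWN) hF d hd (by omega)) w hw

end Cfsg.Agent.Lib.Helper32_S2151_ORB
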