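import Mathlib

/-!
# S2153 package FP (helper33's market): transvection centres in a point stabiliser form one point

Abstract `points' `P` with subgroups `Q u`, involutions `t u`, relations `same`/`perp`: if some `t u`
fixes a point of `Ω` (and no point of `Ω` is fixed by all `t u`) then `|P| ≤ 3 |Ω|`.
-/

set_option autoImplicit false
set_option linter.unusedVariables false

namespace Cfsg.Agent.Lib.Helper32_S2153_FP

/-- S2153-FP (M).  STEP 3 of finding 179.  `P`: nonzero isotropic vectors, `same`: same point,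
`perp`: orthogonal.  If some `t u` fixes a point of `Ω` (and no point of `Ω` is fixed by all
`t u`), the transvection centres in a point stabiliser form ONE point, so
`|P| ≤ 3 |Ω|`. -/
theorem FP {G : Type*} [Group G] {Ω : Type*} [MulAction G Ω] [MulAction.IsPretransitive G Ω]
    [Finite Ω] {P : Type*} [MulAction G P] [Finite P]
    (Q : P → Subgroup G) (t : P → G) (same perp : P → P → Prop)
    (hS1 : ∀ (u : P) (ω : Ω), t u • ω = ω → ∀ g ∈ Q u, g • ω = ω)
    (hS2 : ∀ (u : P) (ω : Ω), t u • ω ≠ ω → ∀ g ∈ Q u, g • ω = ω → g = 1)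
    (ht : ∀ (g : G) (u : P), g * t u * g⁻¹ = t (g • u))
    (hsame_t : ∀ u x : P, same u x → t u = t x)
    (hsame_refl : ∀ u : P, same u u)
    (hsame_symm : ∀ u x : P, same u x → same x u)
    (hsame_trans : ∀ u x y : P, same u x → same x y → same u y)
    (hsame_card : ∀ u : P, Nat.card {x : P // same u x} ≤ 3)
    (hQQ : ∀ u v : P, perp u v → ¬ same u v → ∃ g ∈ Q u, g ∈ Q v ∧ g ≠ 1)
    (hopp : ∀ u x y : P, ¬ perp u x → ¬ perp u y → ∃ g ∈ Q u, same (g • x) y)
    (hline : ∀ u x v : P, perp u x → ¬ same u x →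
      ∃ z : P, perp z v ∧ (same z u ∨ ∃ g ∈ Q u, same (g • x) z))
    (htrans : ∀ u x : P, ∃ g : G, g • u = x)
    (hpos : ∃ (u : P) (ω : Ω), t u • ω = ω)
    (hnot : ∀ ω : Ω, ∃ u : P, t u • ω ≠ ω) :
    Nat.card P ≤ 3 * Nat.card Ω := by
  classical
  obtain ⟨u0, ω0, h0⟩ := hpos
  -- transport of fixed points
  have hmove : ∀ (g : G) (u : P) (ω : Ω), t u • ω = ω → t (g • u) • (g • ω) = g • ω := by
    intro g u ω h
    rw [← ht g u, mul_smul, mul_smul, inv_smul_smul, h]
  -- every `ω` is fixed by some `t u`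
  have hne : ∀ ω : Ω, ∃ u : P, t u • ω = ω := by
    intro ω
    obtain ⟨g, rfl⟩ := MulAction.exists_smul_eq G ω0 ω
    exact ⟨g • u0, hmove g u0 ω0 h0⟩
  -- every `u` has `t u` fixing some `ω`
  have hcov : ∀ u : P, ∃ ω : Ω, t u • ω = ω := by
    intro u
    obtain ⟨g, rfl⟩ := htrans u0 u
    exact ⟨g • ω0, hmove g u0 ω0 h0⟩
  -- (β)
  have hbeta : ∀ (ω : Ω) (u v : P), t u • ω = ω → t v • ω ≠ ω → ¬ perp u v := by
    intro ω u v hu hv hperp
    have hns : ¬ same u v := by
      intro hs
      rw [hsame_t u v hs] at hu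
      exact hv hu
    obtain ⟨g, hgu, hgv, hg1⟩ := hQQ u v hperp hns
    exact hg1 (hS2 v ω hv g hgv (hS1 u ω hu g hgu))
  -- elements of `Q u` preserve `D ω` when `u ∈ D ω`
  have hpres : ∀ (ω : Ω) (u x : P), t u • ω = ω → t x • ω = ω → ∀ g ∈ Q u, t (g • x) • ω = ω := by
    intro ω u x hu hx g hg
    have hgω : g • ω = ω := hS1 u ω hu g hg
    have := hmove g x ω hx
    rwa [hgω] at this
  -- `D ω` is one class
  have hone : ∀ (ω : Ω) (u x : P), t u • ω = ω → t x • ω = ω → same u x := by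
    intro ω u x hu hx
    by_contra hns
    obtain ⟨v, hv⟩ := hnot ω
    by_cases hperp : perp u x
    · obtain ⟨z, hzv, hz⟩ := hline u x v hperp hns
      have hzD : t z • ω = ω := by
        rcases hz with hz | ⟨g, hg, hz⟩
        · rw [hsame_t z u hz]; exact hu
        · rw [← hsame_t (g • x) z hz]; exact hpres ω u x hu hx g hg
      exact hbeta ω z v hzD hv hzv
    · have hnuv : ¬ perp u v := hbeta ω u v hu hv
      obtain ⟨g, hg, hs⟩ := hopp u x v hperp hnuv
      apply hv
      rw [← hsame_t (g • x) v hs]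
      exact hpres ω u x hu hx g hg
  -- counting
  choose f hf using hne
  choose c hc using hcov
  have hfinΩ := Fintype.ofFinite Ω
  have hsame_fin : ∀ ω : Ω, Finite {x : P // same (f ω) x} := fun ω => inferInstance
  let φ : P → Σ ω : Ω, {x : P // same (f ω) x} := fun u =>
    ⟨c u, u, hone (c u) (f (c u)) u (hf (c u)) (hc u)⟩
  have hφ : Function.Injective φ := by
    intro u u' h
    have h2 := congrArg (fun s : Σ ω : Ω, {x : P // same (f ω) x} => (s.2 : P)) h
    exact h2
  calc Nat.card P ≤ Nat.card (Σ ω : Ω, {x : P // same (f ω) x}) :=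
        Nat.card_le_card_of_injective φ hφ
    _ = ∑ ω : Ω, Nat.card {x : P // same (f ω) x} := Nat.card_sigma
    _ ≤ ∑ _ω : Ω, 3 := Finset.sum_le_sum (fun ω _ => hsame_card (f ω))
    _ = 3 * Nat.card Ω := by
        rw [Finset.sum_const, Finset.card_univ, smul_eq_mul, Nat.card_eq_fintype_card, mul_comm]

end Cfsg.Agent.Lib.Helper32_S2153_FP
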