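import Mathlib
import Cfsg.Agent.Lib.Helper40_GLClassDefs

set_option autoImplicit false

/-!
# Helper8_S2478_SUM: the number of types of size `n` (package S2478-SUM)
-/

open Polynomial DirectSum Cfsg.Agent.Lib.Helper40_GLClassDefs

universe u

namespace Cfsg.Agent.Lib.Helper8_S2478_SUM

theorem card_types {F : Type u} [Field F] [Fintype F] (n : ℕ)
    (hcard : ∀ d : ℕ, (MonicNZ F d).Finite ∧ Nat.card (MonicNZ F d) = Nq (Fintype.card F) d) :
    Finite {h : Fin n → F[X] // IsType n h} ∧
      Nat.card {h : Fin n → F[X] // IsType n h} =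
        ∑ d ∈ Dn n, ∏ j : Fin n, Nq (Fintype.card F) (d j) := by
  classical
  let M : ℕ → Finset F[X] := fun d => (hcard d).1.toFinset
  have hM : ∀ d f, f ∈ M d ↔ f ∈ MonicNZ F d := fun d f => Set.Finite.mem_toFinset _
  have hMcard : ∀ d, (M d).card = Nq (Fintype.card F) d := by
    intro d
    rw [← (hcard d).2, Nat.card_eq_card_finite_toFinset (hcard d).1]
  let P : (Fin n → ℕ) → Finset (Fin n → F[X]) := fun d => Fintype.piFinset (fun j => M (d j))
  have hP : ∀ d h, h ∈ P d ↔ ∀ j, (h j).Monic ∧ (h j).natDegree = d j ∧ (h j).coeff 0 ≠ 0 := by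
    intro d h
    simp only [P, Fintype.mem_piFinset, hM]
    rfl
  have hS : ∀ h, h ∈ (Dn n).biUnion P ↔ IsType n h := by
    intro h
    rw [Finset.mem_biUnion]
    constructor
    · rintro ⟨d, hd, hh⟩
      rw [hP] at hh
      refine ⟨fun j => ⟨(hh j).1, (hh j).2.2⟩, ?_⟩
      have hd' := (Finset.mem_filter.mp hd).2
      exact (Finset.sum_congr rfl fun j _ => by rw [(hh j).2.1]).trans hd'
    · rintro ⟨h1, h2⟩
      refine ⟨fun j => (h j).natDegree, ?_, ?_⟩
      · rw [Dn, Finset.mem_filter]
        refine ⟨?_, h2⟩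
        rw [Fintype.mem_piFinset]
        intro j
        rw [Finset.mem_range]
        have hle : (j.val + 1) * (h j).natDegree ≤ n :=
          (Finset.single_le_sum (f := fun j : Fin n => (j.val + 1) * (h j).natDegree)
            (fun _ _ => Nat.zero_le _) (Finset.mem_univ j)).trans_eq h2
        have : (h j).natDegree ≤ (j.val + 1) * (h j).natDegree :=
          Nat.le_mul_of_pos_left _ (Nat.succ_pos _)
        omega
      · rw [hP]
        exact fun j => ⟨(h1 j).1, rfl, (h1 j).2⟩
  have hdisj : ((Dn n : Finset (Fin n → ℕ)) : Set (Fin n → ℕ)).PairwiseDisjoint P := by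
    intro d _ d' _ hne
    rw [Function.onFun, Finset.disjoint_left]
    intro h hh hh'
    rw [hP] at hh hh'
    apply hne
    funext j
    rw [← (hh j).2.1, ← (hh' j).2.1]
  have hScard : ((Dn n).biUnion P).card = ∑ d ∈ Dn n, ∏ j : Fin n, Nq (Fintype.card F) (d j) := by
    rw [Finset.card_biUnion hdisj]
    refine Finset.sum_congr rfl fun d _ => ?_
    rw [Fintype.card_piFinset]
    exact Finset.prod_congr rfl fun j _ => hMcard (d j)
  have hequiv : {h : Fin n → F[X] // IsType n h} ≃ {h : Fin n → F[X] // h ∈ (Dn n).biUnion P} :=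
    Equiv.subtypeEquivRight (fun h => (hS h).symm)
  refine ⟨Finite.of_equiv _ hequiv.symm, ?_⟩
  rw [Nat.card_congr hequiv, Nat.card_eq_fintype_card, Fintype.card_coe, hScard]

end Cfsg.Agent.Lib.Helper8_S2478_SUM
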