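import Mathlib
import Cfsg.Agent.Lib.Helper40_GLClassDefs
import Cfsg.Agent.Lib.Helper40_SLClassDefs
import Cfsg.Agent.Lib.Helper58_S2478_ENCODE
import Cfsg.Agent.Lib.Helper8_S2478_SUM
import Cfsg.Agent.Lib.Helper55_S2478_CARD

set_option autoImplicit false

/-
helper32: package S2479-COUNTSUM (helper40's S2479 market): `countsum` VERBATIM.
`(q-1) |A| ≤ SLsum q n` for a finite set `A` mapped to types of determinant `1` with fibres `≤ gam`.
-/

namespace Cfsg.Agent.Lib.Helper32_S2479_COUNTSUM

open Polynomial DirectSum Cfsg.Agent.Lib.Helper40_GLClassDefs Cfsg.Agent.Lib.Helper40_SLClassDefs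
open Cfsg.Agent.Lib.Helper58_S2478_ENCODE (enc part)

universe u v

/-- fibre counting -/
theorem card_le_mul_of_fibers {X Y : Type*} [Finite X] [Finite Y] (φ : X → Y) (m : ℕ)
    (h : ∀ y, Nat.card {x // φ x = y} ≤ m) : Nat.card X ≤ Nat.card Y * m := by
  classical
  let _ : Fintype Y := Fintype.ofFinite Y
  rw [Nat.card_congr (Equiv.sigmaFiberEquiv φ).symm, Nat.card_sigma]
  calc ∑ y, Nat.card {x // φ x = y} ≤ ∑ _y : Y, m := Finset.sum_le_sum (fun y _ => h y)
    _ = Nat.card Y * m := by
      rw [Finset.sum_const, Finset.card_univ, smul_eq_mul, Nat.card_eq_fintype_card]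

theorem countsum {F : Type u} [Field F] [Fintype F] (n : ℕ) {A : Type*} [Finite A]
    (Ψ : A → (Fin n → F[X]))
    (hΨ : ∀ a, IsType n (Ψ a) ∧ detType n (Ψ a) = 1)
    (hfib : ∀ h : Fin n → F[X],
      Nat.card {a : A // Ψ a = h} ≤ gam (Fintype.card F) n (fun j => (h j).natDegree))
    (hdetcount : ∀ d ∈ Dn n, (Fintype.card F - 1) *
        Nat.card {h : Fin n → F[X] // IsType n h ∧ detType n h = 1 ∧
          ∀ j, (h j).natDegree = d j} ≤
      Wt (Fintype.card F) n d * gam (Fintype.card F) n d) :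
    (Fintype.card F - 1) * Nat.card A ≤ SLsum (Fintype.card F) n := by
  classical
  have hfinT : Finite {h : Fin n → F[X] // IsType n h} :=
    (Cfsg.Agent.Lib.Helper8_S2478_SUM.card_types n
      (fun d => Cfsg.Agent.Lib.Helper55_S2478_CARD.card_monicNZ d)).1
  -- the degree vector
  let D : A → (Fin n → ℕ) := fun a j => (Ψ a j).natDegree
  have hD : ∀ a, D a ∈ Dn n := by
    intro a
    have hsum := (hΨ a).1.2
    unfold Dn
    rw [Finset.mem_filter, Fintype.mem_piFinset]
    refine ⟨fun j => ?_, hsum⟩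
    rw [Finset.mem_range]
    have h1 : (j.val + 1) * (Ψ a j).natDegree ≤ n := by
      have h0 := Finset.single_le_sum (f := fun j : Fin n => (j.val + 1) * (Ψ a j).natDegree)
        (fun _ _ => Nat.zero_le _) (Finset.mem_univ j)
      exact h0.trans (le_of_eq hsum)
    have h2 : (Ψ a j).natDegree ≤ (j.val + 1) * (Ψ a j).natDegree :=
      Nat.le_mul_of_pos_left _ (Nat.succ_pos _)
    show (Ψ a j).natDegree < n + 1
    omega
  -- decomposition of `A`
  have e : A ≃ Σ d : ↥(Dn n), {a : A // D a = d.1} :=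
    { toFun := fun a => ⟨⟨D a, hD a⟩, ⟨a, rfl⟩⟩
      invFun := fun x => x.2.1
      left_inv := fun a => rfl
      right_inv := by
        rintro ⟨⟨d, hd⟩, ⟨a, ha⟩⟩
        have ha' : D a = d := ha
        subst ha'
        rfl }
  have h1 : Nat.card A = ∑ d ∈ Dn n, Nat.card {a : A // D a = d} := by
    rw [Nat.card_congr e, Nat.card_sigma, Finset.sum_coe_sort (Dn n)
      (fun d => Nat.card {a : A // D a = d})]
  -- each piece
  have h2 : ∀ d ∈ Dn n, Nat.card {a : A // D a = d} ≤
      Nat.card {h : Fin n → F[X] // IsType n h ∧ detType n h = 1 ∧ ∀ j, (h j).natDegree = d j} *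
        gam (Fintype.card F) n d := by
    intro d _
    have hfinTd : Finite {h : Fin n → F[X] // IsType n h ∧ detType n h = 1 ∧
        ∀ j, (h j).natDegree = d j} :=
      Finite.of_injective
        (fun h => (⟨h.1, h.2.1⟩ : {h : Fin n → F[X] // IsType n h}))
        (fun x y hxy => Subtype.ext (congrArg (fun z => z.1) hxy))
    apply card_le_mul_of_fibers
      (fun a : {a : A // D a = d} =>
        (⟨Ψ a.1, (hΨ a.1).1, (hΨ a.1).2, fun j => congrFun a.2 j⟩ :
          {h : Fin n → F[X] // IsType n h ∧ detType n h = 1 ∧ ∀ j, (h j).natDegree = d j}))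
    intro t
    have hdeg : (fun j => (t.1 j).natDegree) = d := funext t.2.2.2
    have hf := hfib t.1
    rw [hdeg] at hf
    refine le_trans ?_ hf
    apply Nat.card_le_card_of_injective
      (fun x : {a : {a : A // D a = d} // _ = t} =>
        (⟨x.1.1, congrArg Subtype.val x.2⟩ : {a : A // Ψ a = t.1}))
    intro x y hxy
    apply Subtype.ext
    apply Subtype.ext
    exact congrArg (fun z => z.1) hxy
  -- combine
  unfold SLsum
  rw [h1, Finset.mul_sum]
  apply Finset.sum_le_sum
  intro d hd
  calc (Fintype.card F - 1) * Nat.card {a : A // D a = d}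
      ≤ (Fintype.card F - 1) *
          (Nat.card {h : Fin n → F[X] // IsType n h ∧ detType n h = 1 ∧
            ∀ j, (h j).natDegree = d j} * gam (Fintype.card F) n d) :=
        Nat.mul_le_mul_left _ (h2 d hd)
    _ = ((Fintype.card F - 1) *
          Nat.card {h : Fin n → F[X] // IsType n h ∧ detType n h = 1 ∧
            ∀ j, (h j).natDegree = d j}) * gam (Fintype.card F) n d := by ring
    _ ≤ (Wt (Fintype.card F) n d * gam (Fintype.card F) n d) * gam (Fintype.card F) n d :=
        Nat.mul_le_mul_right _ (hdetcount d hd)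
    _ = Wt (Fintype.card F) n d * gam (Fintype.card F) n d ^ 2 := by ring

end Cfsg.Agent.Lib.Helper32_S2479_COUNTSUM
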