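import Mathlib
import Cfsg.Agent.Lib.Helper98_SubfTS
import Cfsg.Agent.Lib.Helper50_SL2Mat

set_option autoImplicit false
set_option linter.unusedSectionVars false
set_option linter.unusedVariables false

/-
helper32: package SB-ENT of helper59's S5798 market.
`prat_of_products`: if all products `(k⁻¹)_{b i} * k_{j a}` (`i ≠ j`, `a ≠ b`) are rational then
`k ∈ K` is projectively rational (under `HypS F₀ K`, `3 ≤ card ι`).
-/

namespace Cfsg.Agent.Lib.Helper32_S5798_SB_ENT

open Matrix Cfsg.Agent.Lib.Helper50_SL2Mat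
open scoped MatrixGroups

open Cfsg.Agent.Lib.Helper98_MonoBase Cfsg.Agent.Lib.Helper98_MonoG
  Cfsg.Agent.Lib.Helper98_SubfBase Cfsg.Agent.Lib.Helper98_SubfU Cfsg.Agent.Lib.Helper98_SubfTS

variable {F : Type*} [Field F] [Fintype F] {ι : Type} [Fintype ι] [DecidableEq ι] {F₀ : Subfield F}

/-- an element of `K` with a zero entry is projectively rational (total skewness) -/
theorem prat_of_entry_zero {K : Subgroup (GL ι F)} (hK : HypS F₀ K) (hn : 3 ≤ Fintype.card ι)
    {k : GL ι F} (hk : k ∈ K) {j a : ι} (h0 : (k : Matrix ι ι F) j a = 0) :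
    PRat F₀ (k : Matrix ι ι F) := by
  have hne : ∀ i : ι, (Pi.single i (1 : F) : ι → F) ≠ 0 := by
    intro i h
    have := congrFun h i
    simp at this
  refine ts hK hn hk (x₀ := Pi.single a 1) (ζ := Pi.single j 1) (ratV_single_one a) (hne a)
    (ratV_single_one j) (hne j) ?_
  rw [single_dotProduct, one_mul, mulVec_single_one_apply]
  exact h0

theorem prat_of_products {K : Subgroup (GL ι F)} (hK : HypS F₀ K) (hn : 3 ≤ Fintype.card ι)
    {k : GL ι F} (hk : k ∈ K)
    (hprod : ∀ i j a b : ι, i ≠ j → a ≠ b →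
      ((k⁻¹ : GL ι F) : Matrix ι ι F) b i * (k : Matrix ι ι F) j a ∈ F₀) :
    PRat F₀ (k : Matrix ι ι F) := by
  classical
  by_contra hnot
  -- all entries of `k` and `k⁻¹` are nonzero
  have hk0 : ∀ j a : ι, (k : Matrix ι ι F) j a ≠ 0 := by
    intro j a h0
    exact hnot (prat_of_entry_zero hK hn hk h0)
  have hki0 : ∀ b i : ι, ((k⁻¹ : GL ι F) : Matrix ι ι F) b i ≠ 0 := by
    intro b i h0
    apply hnot
    have h1 := prat_of_entry_zero hK hn (K.inv_mem hk) h0
    have h2 := PRat.inv h1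
    rwa [inv_inv] at h2
  -- a base point
  have hne : Nonempty ι := by
    rw [← Fintype.card_pos_iff]; omega
  obtain ⟨i₀⟩ := hne
  set ν : F := ((k⁻¹ : GL ι F) : Matrix ι ι F) i₀ i₀ with hν
  have hν0 : ν ≠ 0 := hki0 i₀ i₀
  -- ratios of entries of `k⁻¹` are rational
  have hratio : ∀ b i : ι, ν * (((k⁻¹ : GL ι F) : Matrix ι ι F) b i)⁻¹ ∈ F₀ := by
    intro b i
    obtain ⟨j, hji, hji₀⟩ := exists_third hn i i₀
    obtain ⟨a, hab, hai₀⟩ := exists_third hn b i₀
    have h1 := hprod i j a b (Ne.symm hji) hab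
    have h2 := hprod i₀ j a i₀ (Ne.symm hji₀) hai₀
    have h3 := F₀.mul_mem h2 (F₀.inv_mem h1)
    have : ((k⁻¹ : GL ι F) : Matrix ι ι F) i₀ i₀ * (k : Matrix ι ι F) j a *
        (((k⁻¹ : GL ι F) : Matrix ι ι F) b i * (k : Matrix ι ι F) j a)⁻¹ =
        ν * (((k⁻¹ : GL ι F) : Matrix ι ι F) b i)⁻¹ := by
      have hx := hk0 j a
      have hy := hki0 b i
      rw [hν]
      field_simp
    rwa [this] at h3
  apply hnot
  refine ⟨ν, hν0, fun j a => ?_⟩
  obtain ⟨i, hij, -⟩ := exists_third hn j j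
  obtain ⟨b, hba, -⟩ := exists_third hn a a
  have h1 := hprod i j a b hij (Ne.symm hba)
  have h2 := F₀.mul_mem (hratio b i) h1
  have : ν * (((k⁻¹ : GL ι F) : Matrix ι ι F) b i)⁻¹ *
      (((k⁻¹ : GL ι F) : Matrix ι ι F) b i * (k : Matrix ι ι F) j a) =
      ν * (k : Matrix ι ι F) j a := by
    have hy := hki0 b i
    field_simp
  rw [this] at h2
  rw [Matrix.smul_apply, smul_eq_mul]
  exact h2

end Cfsg.Agent.Lib.Helper32_S5798_SB_ENT
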