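import Mathlib
import Cfsg.Agent.Lib.Helper97_SpTensBasic

set_option autoImplicit false
set_option linter.unusedSectionVars false
set_option linter.unusedVariables false

/-!
# SP3 package FPFASM (architect helper97): `FPF m M` from the stabiliser theorem and `NOEX`
-/

namespace Cfsg.Agent.Lib.Helper32_SP3_FPFASM

open Matrix Module
open Cfsg.Agent.Lib.Helper98_ExtDefs Cfsg.Agent.Lib.Helper97_TensDefs
  Cfsg.Agent.Lib.Helper97_SpTensDefs Cfsg.Agent.Lib.Helper97_SpTensBasic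

variable {F : Type*} [Field F] [Fintype F] {m : ℕ}

local notation "V" => Matrix (Fin m ⊕ Fin m) (Fin 3) F

/-- an inclusion of `3`-dimensional images of fibres is an equality -/
theorem map_bfib_eq_of_le {g h : V ≃ₗ[F] V} {x y : Fin m ⊕ Fin m → F} (hx : x ≠ 0) (hy : y ≠ 0)
    (hle : (bfib x).map g.toLinearMap ≤ (bfib y).map h.toLinearMap) :
    (bfib x).map g.toLinearMap = (bfib y).map h.toLinearMap :=
  Submodule.eq_of_le_of_finrank_eq hle (by rw [finrank_map_bfib g hx, finrank_map_bfib h hy])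

theorem map_bfib_eq_bfib_of_le {g : V ≃ₗ[F] V} {x y : Fin m ⊕ Fin m → F} (hx : x ≠ 0) (hy : y ≠ 0)
    (hle : (bfib x).map g.toLinearMap ≤ bfib y) :
    (bfib x).map g.toLinearMap = bfib y :=
  Submodule.eq_of_le_of_finrank_eq hle (by rw [finrank_map_bfib g hx, finrank_bfib hy])

theorem bfib_eq_map_bfib_of_le {g : V ≃ₗ[F] V} {x y : Fin m ⊕ Fin m → F} (hx : x ≠ 0) (hy : y ≠ 0)
    (hle : bfib y ≤ (bfib x).map g.toLinearMap) :
    bfib y = (bfib x).map g.toLinearMap :=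
  Submodule.eq_of_le_of_finrank_eq hle (by rw [finrank_map_bfib g hx, finrank_bfib hy])

/-- every element of `l_x` is a value of `N_x` -/
theorem exists_nA_eq {x : Fin m ⊕ Fin m → F} (hx : x ≠ 0) (y : Fin 3 → F) :
    ∃ X : V, nA m x X = vecMulVec x y := by
  obtain ⟨w, hw⟩ := Cfsg.Agent.Lib.Helper13_SympTrans.exists_sympForm_ne_zero m hx
  have hw' : Cfsg.sympForm m F w x ≠ 0 := by
    rw [Cfsg.Agent.Lib.Helper13_Symp.sympForm_swap]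
    exact neg_ne_zero.mpr hw
  refine ⟨vecMulVec w ((Cfsg.sympForm m F w x)⁻¹ • y), ?_⟩
  rw [nA_vecMulVec, vecMulVec_smul, smul_smul, mul_inv_cancel₀ hw', one_smul]

theorem fpf_of_stab (h2 : (2 : F) ≠ 0) (M : Subgroup (V ≃ₗ[F] V)) (hSp : MSp m M) (hK : KronSp m M)
    (hstab : ∀ x : Fin m ⊕ Fin m → F, x ≠ 0 → ∀ g ∈ M,
      (bfib x).map g.toLinearMap = bfib x → IsKron g)
    (hnoex : ∀ (t g₀ : V ≃ₗ[F] V), IsKron t → (∀ X Y, tf m (t X) (t Y) = tf m X Y) →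
      ∀ x₁ : Fin m ⊕ Fin m → F, x₁ ≠ 0 → ∀ c : F, c ≠ 0 →
      (∀ X, t (g₀ X) = g₀ (X + c • nA m x₁ X)) →
      ∃ x₃ : Fin m ⊕ Fin m → F, x₃ ≠ 0 ∧ ∃ c' : F, ∀ X, t X = X + c' • nA m x₃ X) :
    FPF m M := by
  intro g₁ hg₁ g₂ hg₂ x₁ x₂ hx₁ hx₂ c hc hyp
  -- `g := g₁⁻¹ g₂`
  obtain ⟨g, hgM, hgdef⟩ : ∃ g ∈ M, g = g₁⁻¹ * g₂ := ⟨_, M.mul_mem (M.inv_mem hg₁) hg₂, rfl⟩
  have hg₂eq : g₂ = g₁ * g := by rw [hgdef, mul_inv_cancel_left]
  obtain ⟨r, hrM, hr0⟩ := hasMap_root hK x₁ c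
  have hr : ∀ X, r X = X + c • nA m x₁ X := hr0
  -- `r` stabilises `g l_{x₂}`
  have hr_le : ((bfib x₂).map g.toLinearMap).map r.toLinearMap ≤ (bfib x₂).map g.toLinearMap := by
    rintro _ ⟨_, ⟨Y, hY, rfl⟩, rfl⟩
    obtain ⟨Z, hZ, hZeq⟩ := hyp (g₂ Y) ⟨Y, hY, rfl⟩
    refine ⟨Z, hZ, ?_⟩
    show g Z = r (g Y)
    rw [hr]
    have h1 : g₂ Z = g₂ Y + c • cN m g₁ x₁ (g₂ Y) := hZeq
    rw [cN_apply] at h1
    have h2' : ∀ W : V, g W = g₁.symm (g₂ W) := by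
      intro W
      rw [hgdef]
      rfl
    rw [h2' Z, h1, map_add, map_smul, LinearEquiv.symm_apply_apply, ← h2' Y]
  have hr_eq : ((bfib x₂).map g.toLinearMap).map r.toLinearMap = (bfib x₂).map g.toLinearMap := by
    rw [← map_mul_bfib] at hr_le ⊢
    exact map_bfib_eq_of_le hx₂ hx₂ hr_le
  -- `t := g⁻¹ r g`
  obtain ⟨t, htM, htdef⟩ : ∃ t ∈ M, t = g⁻¹ * r * g :=
    ⟨_, M.mul_mem (M.mul_mem (M.inv_mem hgM) hrM) hgM, rfl⟩
  have ht_stab : (bfib x₂).map t.toLinearMap = bfib x₂ := by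
    rw [htdef, map_mul_bfib, map_mul_bfib, hr_eq, ← map_mul_bfib, inv_mul_cancel, map_one_eq]
  have htK : IsKron t := hstab x₂ hx₂ t htM ht_stab
  have htSp := hSp t htM
  have hconj : ∀ X, t (g⁻¹ X) = g⁻¹ (X + c • nA m x₁ X) := by
    intro X
    rw [htdef, ← hr X]
    show g⁻¹ (r (g (g⁻¹ X))) = g⁻¹ (r X)
    have : g (g⁻¹ X) = X := g.apply_symm_apply X
    rw [this]
  obtain ⟨x₃, hx₃, c', ht⟩ := hnoex t g⁻¹ htK htSp x₁ hx₁ c hc hconj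
  -- comparing `t - 1` and `g⁻¹ (r - 1) g`
  have hkey : ∀ X, g (c' • nA m x₃ (g⁻¹ X)) = c • nA m x₁ X := by
    intro X
    have h1 := hconj X
    rw [ht, map_add] at h1
    have h3 : c' • nA m x₃ (g⁻¹ X) = g⁻¹ (c • nA m x₁ X) := add_left_cancel h1
    rw [h3]
    exact g.apply_symm_apply _
  -- `l_{x₁} = g l_{x₃}`
  have himg : bfib x₁ = (bfib x₃).map g.toLinearMap := by
    apply bfib_eq_map_bfib_of_le hx₃ hx₁
    rintro _ ⟨y, rfl⟩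
    obtain ⟨X, hX⟩ := exists_nA_eq hx₁ y
    refine ⟨c⁻¹ • (c' • nA m x₃ (g⁻¹ X)), ?_, ?_⟩
    · exact (bfib x₃).smul_mem _ ((bfib x₃).smul_mem _ (nA_mem_bfib x₃ _))
    · show g (c⁻¹ • (c' • nA m x₃ (g⁻¹ X))) = vecMulVec x₁ y
      rw [map_smul, hkey, smul_smul, inv_mul_cancel₀ hc, one_smul, hX]
  -- `P ∈ Sp` with `P x₁ = x₃`
  obtain ⟨A, -, hA⟩ := Cfsg.Agent.Lib.Helper13_SympTrans.exists_transv_map m x₁ x₃ hx₁ hx₃
  have hQ1 : (1 : Matrix (Fin 3) (Fin 3) F)ᵀ * S0 F * 1 = S0 F := by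
    rw [transpose_one, Matrix.one_mul, Matrix.mul_one]
  obtain ⟨s, hsM, hs0⟩ := hK (A : Matrix (Fin m ⊕ Fin m) (Fin m ⊕ Fin m) F) 1 A.2 hQ1
  have hs : ∀ X : V, s X = (A : Matrix (Fin m ⊕ Fin m) (Fin m ⊕ Fin m) F) * X *
      (1 : Matrix (Fin 3) (Fin 3) F)ᵀ := hs0
  have hs_img : (bfib x₁).map s.toLinearMap = bfib x₃ := by
    apply map_bfib_eq_bfib_of_le hx₁ hx₃
    rintro _ ⟨_, ⟨y, rfl⟩, rfl⟩
    show s (vecMulVec x₁ y) ∈ bfib x₃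
    have hk := kron_vecMulVec (A : Matrix (Fin m ⊕ Fin m) (Fin m ⊕ Fin m) F) (1 : Matrix (Fin 3) (Fin 3) F) x₁ y
    rw [hs, hk, hA]
    exact vecMulVec_mem_bfib _ _
  have hsg_stab : (bfib x₃).map (s * g).toLinearMap = bfib x₃ := by
    rw [map_mul_bfib, ← himg, hs_img]
  have hsgK : IsKron (s * g) := hstab x₃ hx₃ (s * g) (M.mul_mem hsM hgM) hsg_stab
  have hsinvK : IsKron s⁻¹ := by
    refine ⟨((A⁻¹ : Matrix.symplecticGroup (Fin m) F) : Matrix (Fin m ⊕ Fin m) (Fin m ⊕ Fin m) F), 1,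
      fun X => ?_⟩
    have h1 : s (((A⁻¹ : Matrix.symplecticGroup (Fin m) F) :
        Matrix (Fin m ⊕ Fin m) (Fin m ⊕ Fin m) F) * X * (1 : Matrix (Fin 3) (Fin 3) F)ᵀ) = X := by
      rw [hs, transpose_one, Matrix.mul_one, Matrix.mul_one, ← Matrix.mul_assoc]
      have : (A : Matrix (Fin m ⊕ Fin m) (Fin m ⊕ Fin m) F) *
          ((A⁻¹ : Matrix.symplecticGroup (Fin m) F) : Matrix (Fin m ⊕ Fin m) (Fin m ⊕ Fin m) F) = 1 := by
        have h0 : ((A * A⁻¹ : Matrix.symplecticGroup (Fin m) F) :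
            Matrix (Fin m ⊕ Fin m) (Fin m ⊕ Fin m) F) = 1 := by
          rw [mul_inv_cancel]; rfl
        exact h0
      rw [this, Matrix.one_mul]
    conv_lhs => rw [← h1]
    exact s.symm_apply_apply _
  have hgK : IsKron g := by
    have : g = s⁻¹ * (s * g) := by rw [inv_mul_cancel_left]
    rw [this]
    exact isKron_mul hsinvK hsgK
  obtain ⟨P', Q', hPQ⟩ := hgK
  have hx' : P' *ᵥ x₂ ≠ 0 := by
    intro h0
    have h1 : g (vecMulVec x₂ e0) = 0 := by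
      rw [hPQ, kron_vecMulVec, h0]
      ext i k; simp [vecMulVec_apply]
    have h3 : vecMulVec x₂ (e0 : Fin 3 → F) = 0 := by
      have := g.injective (h1.trans (map_zero g).symm)
      exact this
    exact e0_ne_zero (vecMulVec_eq_zero_left hx₂ h3)
  refine ⟨P' *ᵥ x₂, hx', ?_⟩
  have hg_img : (bfib x₂).map g.toLinearMap = bfib (P' *ᵥ x₂) := by
    apply map_bfib_eq_bfib_of_le hx₂ hx'
    rintro _ ⟨_, ⟨y, rfl⟩, rfl⟩
    show g (vecMulVec x₂ y) ∈ bfib (P' *ᵥ x₂)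
    rw [hPQ, kron_vecMulVec]
    exact vecMulVec_mem_bfib _ _
  rw [hg₂eq, map_mul_bfib, hg_img]

end Cfsg.Agent.Lib.Helper32_SP3_FPFASM
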