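import Mathlib
import Cfsg.Agent.Lib.Helper97_SpTensBasic

set_option autoImplicit false
set_option linter.unusedSectionVars false
set_option linter.unusedVariables false
set_option linter.unusedSimpArgs false
set_option linter.unnecessarySeqFocus false

/-
helper32: package SP3-SL2W (helper97's SP3 market): `sl2_word` VERBATIM.
-/

namespace Cfsg.Agent.Lib.Helper32_SP3_SL2W

open Matrix Module
open Cfsg.Agent.Lib.Helper98_ExtDefs Cfsg.Agent.Lib.Helper97_TensDefs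
  Cfsg.Agent.Lib.Helper97_SpTensDefs Cfsg.Agent.Lib.Helper97_SpTensBasic

variable {F : Type*} [Field F] [Fintype F] {m : ℕ}

local notation "V" => Matrix (Fin m ⊕ Fin m) (Fin 3) F

/-- composition of maps realised in `M` (general module) -/
theorem hasMap_comp' {W : Type*} [AddCommGroup W] [Module F W] {M : Subgroup (W ≃ₗ[F] W)}
    {φ ψ : W → W} (hφ : HasMap M φ) (hψ : HasMap M ψ) : HasMap M (fun X => φ (ψ X)) := by
  obtain ⟨g, hg, hgx⟩ := hφ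
  obtain ⟨h, hh, hhx⟩ := hψ
  exact ⟨g * h, M.mul_mem hg hh, fun X => by rw [LinearEquiv.mul_apply, hhx, hgx]⟩

theorem hasMap_congr' {W : Type*} [AddCommGroup W] [Module F W] {M : Subgroup (W ≃ₗ[F] W)}
    {φ ψ : W → W} (h : ∀ x, φ x = ψ x) (hφ : HasMap M φ) : HasMap M ψ := by
  obtain ⟨g, hg, hgx⟩ := hφ
  exact ⟨g, hg, fun x => by rw [hgx, h]⟩

section alg

variable {W : Type*} [AddCommGroup W] [Module F W]
  (E E' : W →ₗ[F] W) (hE : ∀ w, E (E w) = 0) (hE' : ∀ w, E' (E' w) = 0)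
  (τ : F) (hτ : τ ≠ 0)
  (h1 : ∀ w, E (E' (E (E' w))) = τ • E (E' w))
  (h2 : ∀ w, E' (E (E' (E w))) = τ • E' (E w))

/-- `u(t) = 1 + t E` -/
def uu (t : F) (w : W) : W := w + t • E w
/-- `v(s) = 1 + s E'` -/
def vv (s : F) (w : W) : W := w + s • E' w
/-- `w(t) = u(t) v(-1/(t τ)) u(t)` -/
def ww (t : F) (w : W) : W := uu E t (vv E' (-(t * τ)⁻¹) (uu E t w))

include hE hE' in
theorem ww_eq (t : F) (ht : t ≠ 0) (x : W) :
    ww E E' τ t x = x + (2 * t) • E x - (t * τ)⁻¹ • E' x - τ⁻¹ • E (E' x) - τ⁻¹ • E' (E x)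
      - (t * τ⁻¹) • E (E' (E x)) := by
  unfold ww uu vv
  simp only [map_add, map_smul, hE, hE', smul_zero, add_zero, smul_add, smul_smul]
  match_scalars <;> field_simp <;> ring

include hE hE' h1 h2 hτ in
theorem hh_eq (μ : F) (hμ : μ ≠ 0) (x : W) :
    ww E E' τ μ (ww E E' τ (-1) x) =
      x + ((μ - 1) * τ⁻¹) • E (E' x) + ((μ⁻¹ - 1) * τ⁻¹) • E' (E x) + (2 * (μ - 1)) • E x
        - (2 * (μ - 1) * τ⁻¹) • E (E' (E x)) + ((1 - μ⁻¹) * τ⁻¹) • E' x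
        - ((1 - μ⁻¹) * τ⁻¹ * τ⁻¹) • E' (E (E' x)) := by
  rw [ww_eq E E' hE hE' τ μ hμ, ww_eq E E' hE hE' τ (-1) (by simp)]
  simp only [map_add, map_sub, map_smul, map_neg, hE, hE', h1, h2, smul_zero, add_zero, sub_zero,
    smul_add, smul_sub, smul_smul, neg_zero, zero_add]
  match_scalars <;> field_simp <;> ring

include hE hE' h1 h2 hτ in
theorem hhinv_eq (μ : F) (hμ : μ ≠ 0) (x : W) :
    ww E E' τ 1 (ww E E' τ (-μ) x) =
      x + ((μ⁻¹ - 1) * τ⁻¹) • E (E' x) + ((μ - 1) * τ⁻¹) • E' (E x) - (2 * (μ - 1)) • E x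
        + (2 * (μ - 1) * τ⁻¹) • E (E' (E x)) - ((1 - μ⁻¹) * τ⁻¹) • E' x
        + ((1 - μ⁻¹) * τ⁻¹ * τ⁻¹) • E' (E (E' x)) := by
  rw [ww_eq E E' hE hE' τ 1 one_ne_zero, ww_eq E E' hE hE' τ (-μ) (neg_ne_zero.mpr hμ)]
  simp only [map_add, map_sub, map_smul, map_neg, hE, hE', h1, h2, smul_zero, add_zero, sub_zero,
    smul_add, smul_sub, smul_smul, neg_zero, zero_add]
  match_scalars <;> field_simp <;> ring

include hE hE' h1 h2 hτ in
theorem comm_eq (μ : F) (hμ : μ ≠ 0) (x : W) :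
    ww E E' τ μ (ww E E' τ (-1) (uu E 1 (ww E E' τ 1 (ww E E' τ (-μ) (uu E (-1) x))))) =
      x + ((μ ^ 2 - 1) * τ⁻¹) • E (E' (E x)) := by
  rw [hh_eq E E' hE hE' τ hτ h1 h2 μ hμ, hhinv_eq E E' hE hE' τ hτ h1 h2 μ hμ]
  unfold uu
  simp only [map_add, map_sub, map_smul, map_neg, hE, hE', h1, h2, smul_zero, add_zero, sub_zero,
    smul_add, smul_sub, smul_smul, neg_zero, zero_add, one_smul, neg_smul]
  match_scalars <;> field_simp <;> ring

end alg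

theorem sl2_word {W : Type*} [AddCommGroup W] [Module F W] (M : Subgroup (W ≃ₗ[F] W))
    (E E' : W →ₗ[F] W) (hE : ∀ w, E (E w) = 0) (hE' : ∀ w, E' (E' w) = 0)
    (τ : F) (hτ : τ ≠ 0)
    (h1 : ∀ w, E (E' (E (E' w))) = τ • E (E' w))
    (h2 : ∀ w, E' (E (E' (E w))) = τ • E' (E w))
    (hEM : ∀ c : F, HasMap M (fun w => w + c • E w))
    (hEM' : ∀ c : F, HasMap M (fun w => w + c • E' w))
    (μ : F) (hμ : μ ≠ 0) (hμ2 : μ ^ 2 ≠ 1) :
    ∃ c : F, c ≠ 0 ∧ HasMap M (fun w => w + c • E (E' (E w))) := by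
  refine ⟨(μ ^ 2 - 1) * τ⁻¹, mul_ne_zero (sub_ne_zero.mpr hμ2) (inv_ne_zero hτ), ?_⟩
  have hu : ∀ t : F, HasMap M (uu E t) := fun t => hEM t
  have hv : ∀ s : F, HasMap M (vv E' s) := fun s => hEM' s
  have hw : ∀ t : F, HasMap M (ww E E' τ t) := by
    intro t
    have h3 : HasMap M (fun x => uu E t (vv E' (-(t * τ)⁻¹) (uu E t x))) :=
      hasMap_comp' (φ := uu E t) (hu t)
        (hasMap_comp' (φ := vv E' (-(t * τ)⁻¹)) (ψ := uu E t) (hv _) (hu t))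
    exact h3
  have hall : HasMap M (fun x => ww E E' τ μ (ww E E' τ (-1) (uu E 1 (ww E E' τ 1
      (ww E E' τ (-μ) (uu E (-1) x)))))) :=
    hasMap_comp' (φ := ww E E' τ μ) (hw μ) (hasMap_comp' (φ := ww E E' τ (-1)) (hw (-1))
      (hasMap_comp' (φ := uu E 1) (hu 1)
      (hasMap_comp' (φ := ww E E' τ 1) (hw 1)
      (hasMap_comp' (φ := ww E E' τ (-μ)) (ψ := uu E (-1)) (hw (-μ)) (hu (-1))))))
  exact hasMap_congr' (fun x => comm_eq E E' hE hE' τ hτ h1 h2 μ hμ x) hall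

end Cfsg.Agent.Lib.Helper32_SP3_SL2W
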