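import Mathlib
import Cfsg.Agent.Lib.Helper40_UBasic
import Cfsg.Agent.Lib.Helper94_Herm

set_option autoImplicit false

/-!
Package TS0 of S5953 (for helper99): a nondegenerate hermitian space over a finite field has totally
isotropic subspaces of every dimension up to half.
-/

namespace Cfsg.Agent.Lib.Helper55_SUTI_TS0

open Module
open Cfsg.Agent.Lib.Helper40_UBasic Cfsg.Agent.Lib.Helper94_Herm

universe u

section aux

variable {K : Type*} [Field K] {V : Type*} [AddCommGroup V] [Module K V] [FiniteDimensional K V]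

/-- intersecting with the kernel of a functional lowers the dimension by at most one -/
theorem finrank_le_inf_ker_add_one (U : Submodule K V) (φ : V →ₗ[K] K) :
    finrank K U ≤ finrank K (U ⊓ LinearMap.ker φ : Submodule K V) + 1 := by
  have h1 := LinearMap.finrank_range_add_finrank_ker (φ.domRestrict U)
  have h2 : finrank K (LinearMap.range (φ.domRestrict U)) ≤ 1 := by
    have := Submodule.finrank_le (LinearMap.range (φ.domRestrict U))
    rwa [finrank_self] at this
  have h3 : (LinearMap.ker (φ.domRestrict U)).map U.subtype = U ⊓ LinearMap.ker φ := by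
    ext x
    constructor
    · rintro ⟨y, hy, rfl⟩
      exact ⟨y.2, hy⟩
    · rintro ⟨hxU, hx⟩
      exact ⟨⟨x, hxU⟩, hx, rfl⟩
  have h4 : finrank K (LinearMap.ker (φ.domRestrict U)) =
      finrank K (U ⊓ LinearMap.ker φ : Submodule K V) := by
    rw [← h3, Submodule.finrank_map_subtype_eq]
  omega

end aux

section main

variable {K : Type*} [Field K] [Finite K] {σ : K →+* K}
variable {V : Type*} [AddCommGroup V] [Module K V] [FiniteDimensional K V]

/-- totally isotropic subspaces of every dimension up to half inside a nondegenerate subspace -/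
theorem exists_ti_in (hσ : Invol σ) (B : V →ₗ[K] V →ₛₗ[σ] K) (hherm : IsHerm B) :
    ∀ (e' : ℕ) (U : Submodule K V), NondegOn B U → 2 * e' ≤ finrank K U →
      ∃ W : Submodule K V, W ≤ U ∧ UIsoOn B W ∧ finrank K W = e' := by
  intro e'
  induction e' with
  | zero =>
    intro U _ _
    refine ⟨⊥, bot_le, ?_, finrank_bot K V⟩
    intro x hx y _
    rw [Submodule.mem_bot] at hx
    rw [hx, map_zero, LinearMap.zero_apply]
  | succ e' ih =>
    intro U hU hdim
    -- two independent vectors of `U`
    have hpos : 0 < finrank K U := by omega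
    obtain ⟨x, hx0⟩ := Module.finrank_pos_iff_exists_ne_zero.1 hpos
    have hx0' : (x : V) ≠ 0 := fun h => hx0 (Subtype.ext h)
    obtain ⟨y, hyU, hy⟩ : ∃ y ∈ U, y ∉ Submodule.span K {(x : V)} := by
      by_contra hcon
      push Not at hcon
      have hle : U ≤ Submodule.span K {(x : V)} := fun y hy => hcon y hy
      have h1 := Submodule.finrank_mono hle
      have h2 := finrank_span_singleton (K := K) hx0'
      omega
    obtain ⟨a, b, he0, hee⟩ := exists_iso hσ hherm hx0' hy
    obtain ⟨e, hedef⟩ : ∃ e : V, e = a • (x : V) + b • y := ⟨_, rfl⟩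
    rw [← hedef] at he0 hee
    have heU : e ∈ U := by
      rw [hedef]
      exact U.add_mem (U.smul_mem _ x.2) (U.smul_mem _ hyU)
    obtain ⟨f, hfU, hff, hef⟩ := exists_partner hσ hherm hU heU he0 hee
    have hU' : NondegOn B (U ⊓ orthV B e ⊓ orthV B f) := nondegOn_pair hherm hU heU hfU hee hff hef
    have hdim' : 2 * e' ≤ finrank K (U ⊓ orthV B e ⊓ orthV B f : Submodule K V) := by
      have h1 := finrank_le_inf_ker_add_one U (B.flip e)
      have h2 := finrank_le_inf_ker_add_one (U ⊓ orthV B e) (B.flip f)
      unfold orthV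
      unfold orthV at h2
      omega
    obtain ⟨W', hW'U, hW'ti, hW'd⟩ := ih _ hU' hdim'
    have hW'e : ∀ w ∈ W', B w e = 0 := fun w hw => mem_orthV.1 (hW'U hw).1.2
    have hW'f : ∀ w ∈ W', B w f = 0 := fun w hw => mem_orthV.1 (hW'U hw).2
    have hew : ∀ w ∈ W', B e w = 0 := fun w hw => herm_eq_zero hherm (hW'e w hw)
    refine ⟨Submodule.span K {e} ⊔ W', ?_, ?_, ?_⟩
    · apply sup_le
      · rw [Submodule.span_singleton_le_iff_mem]
        exact heU
      · exact fun w hw => (hW'U hw).1.1
    · intro u hu v hv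
      obtain ⟨u1, hu1, u2, hu2, rfl⟩ := Submodule.mem_sup.1 hu
      obtain ⟨v1, hv1, v2, hv2, rfl⟩ := Submodule.mem_sup.1 hv
      obtain ⟨c, rfl⟩ := Submodule.mem_span_singleton.1 hu1
      obtain ⟨d, rfl⟩ := Submodule.mem_span_singleton.1 hv1
      simp only [map_add, LinearMap.add_apply, map_smul, LinearMap.smul_apply, map_smulₛₗ, hee,
        hew v2 hv2, hW'e u2 hu2, hW'ti u2 hu2 v2 hv2, smul_zero, add_zero]
    · have hdisj : Disjoint (Submodule.span K {e}) W' := by
        rw [Submodule.disjoint_def]
        intro z hz1 hz2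
        obtain ⟨c, rfl⟩ := Submodule.mem_span_singleton.1 hz1
        have h1 := hW'f _ hz2
        rw [map_smul, LinearMap.smul_apply, hef, smul_eq_mul, mul_one] at h1
        rw [h1, zero_smul]
      have h2 := Submodule.finrank_sup_add_finrank_inf_eq (Submodule.span K {e}) W'
      rw [hdisj.eq_bot, finrank_bot, add_zero, finrank_span_singleton he0, hW'd] at h2
      omega

end main

/-- TS0: a nondegenerate hermitian space over a finite field has totally isotropic subspaces of every dimension up to half. -/
theorem TS0 {K : Type u} [Field K] [Finite K] {σ : K →+* K} (hσ : Invol σ)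
    {V : Type u} [AddCommGroup V] [Module K V] [FiniteDimensional K V]
    (B : V →ₗ[K] V →ₛₗ[σ] K) (hherm : ∀ x y, B y x = σ (B x y)) (hB : UND B)
    (e' : ℕ) (he' : 2 * e' ≤ finrank K V) :
    ∃ U : Submodule K V, UIsoOn B U ∧ finrank K U = e' := by
  have hnd : NondegOn B (⊤ : Submodule K V) := by
    intro x _ hx0
    by_contra hcon
    push Not at hcon
    exact hx0 (hB x (fun y => hcon y Submodule.mem_top))
  obtain ⟨W, -, hW, hWd⟩ := exists_ti_in hσ B hherm e' ⊤ hnd (by rw [finrank_top]; exact he')
  exact ⟨W, hW, hWd⟩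

end Cfsg.Agent.Lib.Helper55_SUTI_TS0
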