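import Mathlib
import Cfsg.Agent.Lib.Helper40_UCases
import Cfsg.Agent.Lib.Helper99_SpAtoms

/-!
# S5954-UD1, abstract part (helper58)

Nondegenerate invariant pieces of a semisimple isometry of a hermitian space coming from a
self-dual irreducible polynomial; transport from restrictions; eigenvectors from a product of
linear factors; self-duality of `X ^ e - C c`.
-/

set_option autoImplicit false
set_option linter.unusedVariables false
set_option linter.unusedSectionVars false

namespace Cfsg.Agent.Lib.Helper58_UD1_Abs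

open Polynomial Module Cfsg.Agent.Lib.Helper40_Semisimple Cfsg.Agent.Lib.Helper40_SpBasic
  Cfsg.Agent.Lib.Helper40_SpCyclic Cfsg.Agent.Lib.Helper40_UBasic Cfsg.Agent.Lib.Helper40_UCyclic
  Cfsg.Agent.Lib.Helper40_UMatch Cfsg.Agent.Lib.Helper40_UHyperbolic
  Cfsg.Agent.Lib.Helper40_UCases

variable {K : Type*} [Field K] {σ : K →+* K} {V : Type*} [AddCommGroup V] [Module K V]
variable {B : V →ₗ[K] V →ₛₗ[σ] K} {a : Module.End K V} {N : ℕ}

/-- a self-dual irreducible polynomial killing a nonzero vector gives a nondegenerate invariant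
subspace of dimension its degree -/
theorem exists_piece_selfdual [Finite K] [FiniteDimensional K V] (hσne : ∃ θ, σ θ ≠ θ)
    (h : UData B a N) (hB : UND B) (ha : a.IsSemisimple) (g : K[X]) (hg : Irreducible g)
    (hdual : g ∣ pstar σ N g) (v : V) (hv0 : v ≠ 0) (hgv : aeval a g v = 0) :
    ∃ P : Submodule K V, Inv a P ∧ UNDOn B P ∧ finrank K P = g.natDegree := by
  by_cases hA : ∃ u, aeval a g u = 0 ∧ ∃ p : K[X], B (aeval a p u) u ≠ 0
  · obtain ⟨u, hgu, p, hp⟩ := hA
    have hu0 : u ≠ 0 := by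
      rintro rfl
      apply hp
      simp
    exact ⟨cyc a u, inv_range_orbitMap a u, undOn_cyc h u g hg hgu p hp,
      Cfsg.Agent.Lib.Helper99_SpAtoms.finrank_cyc a u hu0 g hg hgu⟩
  · exfalso
    have hcase : ∀ u : V, aeval a g u = 0 → ∀ p : K[X], B (aeval a p u) u = 0 := by
      intro u hu p
      by_contra hne
      exact hA ⟨u, hu, p, hne⟩
    exact caseB_false hσne h hB ha v hv0 g hg hgv hcase hdual

theorem pow_restrict_coe (a : Module.End K V) (Z : Submodule K V) (hZ : ∀ x ∈ Z, a x ∈ Z)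
    (k : ℕ) (x : Z) : ((((a.restrict hZ) ^ k) x : Z) : V) = (a ^ k) (x : V) := by
  induction k generalizing x with
  | zero => simp
  | succ k ih =>
    rw [pow_succ, pow_succ, Module.End.mul_apply, Module.End.mul_apply, ih]
    rfl

theorem aeval_restrict_coe (a : Module.End K V) (Z : Submodule K V) (hZ : ∀ x ∈ Z, a x ∈ Z)
    (g : K[X]) (x : Z) : (((aeval (a.restrict hZ) g) x : Z) : V) = aeval a g (x : V) := by
  induction g using Polynomial.induction_on' with
  | add p q hp hq =>
    rw [map_add, map_add, LinearMap.add_apply, LinearMap.add_apply, Submodule.coe_add, hp, hq]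
  | monomial k c =>
    rw [← C_mul_X_pow_eq_monomial, map_mul, map_mul, aeval_C, aeval_C, map_pow, map_pow,
      aeval_X, aeval_X, Module.End.mul_apply, Module.End.mul_apply, Module.algebraMap_end_apply,
      Module.algebraMap_end_apply, Submodule.coe_smul, pow_restrict_coe]

/-- the piece lemma inside a nondegenerate invariant subspace -/
theorem piece_in_sub [Finite K] [FiniteDimensional K V] (hσne : ∃ θ, σ θ ≠ θ)
    (h : UData B a N) (ha : a.IsSemisimple) (Z : Submodule K V) (hZ : Inv a Z)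
    (hZnd : UNDOn B Z) (g : K[X]) (hg : Irreducible g) (hdual : g ∣ pstar σ N g) (v : V)
    (hvZ : v ∈ Z) (hv0 : v ≠ 0) (hgv : aeval a g v = 0) :
    ∃ P : Submodule K V, P ≤ Z ∧ Inv a P ∧ UNDOn B P ∧ finrank K P = g.natDegree := by
  have hZ' : ∀ x ∈ Z, a x ∈ Z := hZ
  have h' : UData (UData.res B Z) (a.restrict hZ') N := h.restrict hZ'
  have hB' : UND (UData.res B Z) := und_res hZnd
  have ha' : Module.End.IsSemisimple (a.restrict hZ' : Module.End K Z) :=
    Module.End.IsSemisimple.restrict (p := Z) hZ' ha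
  have hv' : (⟨v, hvZ⟩ : Z) ≠ 0 := by
    intro h0
    exact hv0 (congrArg Subtype.val h0)
  have hgv' : aeval (a.restrict hZ') g (⟨v, hvZ⟩ : Z) = 0 := by
    apply Subtype.ext
    rw [aeval_restrict_coe]
    exact hgv
  obtain ⟨P', hP'inv, hP'nd, hP'fr⟩ :=
    exists_piece_selfdual hσne h' hB' ha' g hg hdual ⟨v, hvZ⟩ hv' hgv'
  refine ⟨P'.map Z.subtype, Submodule.map_subtype_le Z P', ?_, ?_, ?_⟩
  · rintro _ ⟨y, hy, rfl⟩
    exact ⟨(a.restrict hZ') y, hP'inv y hy, rfl⟩
  · rintro _ ⟨y, hy, rfl⟩ hxy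
    have : y = 0 := by
      apply hP'nd y hy
      intro y' hy'
      exact hxy (Z.subtype y') ⟨y', hy', rfl⟩
    rw [this, map_zero]
  · rw [← hP'fr]
    exact (LinearEquiv.finrank_eq (Submodule.equivSubtypeMap Z P')).symm

/-- an eigenvector inside an invariant subspace, from a product of linear factors killing a
nonzero vector -/
theorem exists_eigen_of_prod (a : Module.End K V) (Z : Submodule K V) (hZ : Inv a Z)
    (l : ℕ → K) :
    ∀ (t : ℕ) (v : V), v ∈ Z → v ≠ 0 →
      aeval a (∏ i ∈ Finset.range t, (X - C (l i))) v = 0 →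
      ∃ i < t, ∃ u ∈ Z, u ≠ 0 ∧ a u = l i • u := by
  intro t
  induction t with
  | zero =>
    intro v _ hv0 hv
    rw [Finset.prod_range_zero, map_one, Module.End.one_apply] at hv
    exact absurd hv hv0
  | succ t ih =>
    intro v hvZ hv0 hv
    rw [Finset.prod_range_succ, map_mul, Module.End.mul_apply] at hv
    by_cases hcase : aeval a (X - C (l t)) v = 0
    · refine ⟨t, Nat.lt_succ_self t, v, hvZ, hv0, ?_⟩
      rw [map_sub, aeval_X, aeval_C, LinearMap.sub_apply, Module.algebraMap_end_apply,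
        sub_eq_zero] at hcase
      exact hcase
    · have hmem : aeval a (X - C (l t)) v ∈ Z := by
        rw [map_sub, aeval_X, aeval_C, LinearMap.sub_apply, Module.algebraMap_end_apply]
        exact Z.sub_mem (hZ v hvZ) (Z.smul_mem _ hvZ)
      obtain ⟨i, hi, u, hu⟩ := ih _ hmem hcase hv
      exact ⟨i, Nat.lt_succ_of_lt hi, u, hu⟩

/-- self-duality of `X ^ e - C c` when `σ c = c⁻¹` and `c ^ N = 1` -/
theorem dvd_pstar_X_pow_sub_C (hN : 0 < N) (e : ℕ) (c : K) (hc : σ c = c⁻¹) (hcN : c ^ N = 1) :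
    (X ^ e - C c : K[X]) ∣ pstar σ N (X ^ e - C c) := by
  have hc0 : c ≠ 0 := by
    intro h0
    rw [h0, zero_pow hN.ne'] at hcN
    exact zero_ne_one hcN
  have hcinv : c ^ (N - 1) = c⁻¹ := by
    have h1 : c ^ (N - 1) * c = 1 := by
      rw [← pow_succ, Nat.sub_add_cancel hN, hcN]
    exact eq_inv_of_mul_eq_one_left h1
  have h2 : pstar σ N (X ^ e - C c) = (X ^ e) ^ (N - 1) - (C c) ^ (N - 1) := by
    rw [pstar, conj, Polynomial.map_sub, Polynomial.map_pow, map_X, map_C, map_sub, map_pow,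
      expand_X, expand_C, hc, ← C_pow, hcinv, ← pow_mul, ← pow_mul, mul_comm]
  rw [h2]
  exact sub_dvd_pow_sub_pow _ _ _

end Cfsg.Agent.Lib.Helper58_UD1_Abs
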