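import Mathlib
import Cfsg.Agent.Lib.Helper40_UBasic
import Cfsg.Agent.Lib.Helper40_UHyperbolic
import Cfsg.Agent.Lib.Helper58_UD1_Abs
import Cfsg.Agent.Lib.Helper55_SUTI_TS0
import Cfsg.Agent.Lib.Helper99_SUTI_Pair

/-!
# S5953, package TB3 (helper32 for helper99), abstract part

Invariant totally isotropic subspaces of a semisimple isometry of a hermitian space:
* `lemmaG`: all eigenvalues in the field, of norm one (orthogonal eigenspaces);
* `peel`: a single self-dual irreducible polynomial kills the isometry (pairs of pieces);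
* `ti_bound`: a totally isotropic subspace orthogonal to a nondegenerate subspace.
-/

set_option autoImplicit false
set_option linter.unusedVariables false
set_option linter.unusedSectionVars false

namespace Cfsg.Agent.Lib.Helper32_SUTI_TB3a

open Polynomial Module Cfsg.Agent.Lib.Helper40_Semisimple Cfsg.Agent.Lib.Helper40_SpBasic
  Cfsg.Agent.Lib.Helper40_UBasic Cfsg.Agent.Lib.Helper40_UHyperbolic
  Cfsg.Agent.Lib.Helper40_UMatch Cfsg.Agent.Lib.Helper94_Herm
  Cfsg.Agent.Lib.Helper58_UD1_Abs

universe u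

section eig

variable {K : Type*} [Field K] {σ : K →+* K} {V : Type*} [AddCommGroup V] [Module K V]
variable {B : V →ₗ[K] V →ₛₗ[σ] K} {a : Module.End K V} {N : ℕ}

/-- pairing with an eigenvector of norm-one eigenvalue is a left eigenvector -/
theorem eig_form (h : UData B a N) {l : K} (hl : l * σ l = 1) {u : V} (hu : a u = l • u) (v : V) :
    B (a v) u = l * B v u := by
  have h1 : B (a v) (a u) = B v u := h.iso v u
  rw [hu, map_smulₛₗ, smul_eq_mul] at h1
  calc B (a v) u = (l * σ l) * B (a v) u := by rw [hl, one_mul]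
    _ = l * (σ l * B (a v) u) := by ring
    _ = l * B v u := by rw [h1]

theorem eig_form_pow (h : UData B a N) {l : K} (hl : l * σ l = 1) {u : V} (hu : a u = l • u)
    (k : ℕ) (v : V) : B ((a ^ k) v) u = l ^ k * B v u := by
  induction k generalizing v with
  | zero => simp
  | succ k ih =>
    rw [pow_succ, Module.End.mul_apply, ih, eig_form h hl hu, pow_succ]
    ring

theorem eig_form_aeval (h : UData B a N) {l : K} (hl : l * σ l = 1) {u : V} (hu : a u = l • u)
    (g : K[X]) (v : V) : B (aeval a g v) u = g.eval l * B v u := by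
  induction g using Polynomial.induction_on' with
  | add p q hp hq =>
    rw [map_add, LinearMap.add_apply, map_add, LinearMap.add_apply, hp, hq, eval_add]
    ring
  | monomial k c =>
    rw [← C_mul_X_pow_eq_monomial, map_mul, aeval_C, map_pow, aeval_X, Module.End.mul_apply,
      Module.algebraMap_end_apply, map_smul, LinearMap.smul_apply, eig_form_pow h hl hu,
      eval_mul, eval_C, eval_pow, eval_X, smul_eq_mul]
    ring

theorem mem_ker_X_sub_C (a : Module.End K V) (l : K) (u : V) :
    u ∈ LinearMap.ker (aeval a (X - C l : K[X])) ↔ a u = l • u := by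
  rw [LinearMap.mem_ker, map_sub, aeval_X, aeval_C, LinearMap.sub_apply,
    Module.algebraMap_end_apply, sub_eq_zero]

theorem inv_ker_aeval (a : Module.End K V) (g : K[X]) : Inv a (LinearMap.ker (aeval a g)) := by
  intro x hx
  rw [LinearMap.mem_ker] at hx ⊢
  have : aeval a g (a x) = a (aeval a g x) := by
    rw [← Module.End.mul_apply, ← Module.End.mul_apply]
    congr 1
    have h1 : aeval a (g * X) = aeval a g * a := by rw [map_mul, aeval_X]
    have h2 : aeval a (X * g) = a * aeval a g := by rw [map_mul, aeval_X]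
    rw [← h1, ← h2, mul_comm]
  rw [this, hx, map_zero]

end eig


section G

variable {K : Type*} [Field K] [Finite K] {σ : K →+* K}

/-- If a product of `t` distinct linear factors `X - l i` with `l i * σ (l i) = 1` kills the isometry
`a`, there are invariant totally isotropic subspaces of every dimension `k` with
`2 * k + t ≤ dim V + 1` (each eigenspace loses at most one dimension, and parity is automatic). -/
theorem lemmaG (hσ : Invol σ) (l : ℕ → K) :
    ∀ (t : ℕ) (V : Type u) [AddCommGroup V] [Module K V] [FiniteDimensional K V]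
      (B : V →ₗ[K] V →ₛₗ[σ] K) (a : Module.End K V) (N : ℕ), UData B a N → UND B →
      (∀ i < t, l i * σ (l i) = 1) → (∀ i < t, ∀ j < t, l i = l j → i = j) →
      aeval a (∏ i ∈ Finset.range t, (X - C (l i))) = 0 →
      ∀ k : ℕ, (k = 0 ∨ 2 * k + t ≤ finrank K V + 1) →
        ∃ U : Submodule K V, Inv a U ∧ UIsoOn B U ∧ finrank K U = k := by
  intro t
  induction t with
  | zero =>
    intro V _ _ _ B a N h hB hl hinj hkill k hk
    have hk0 : k = 0 := by
      rcases hk with hk | hk
      · exact hk
      · rw [Finset.prod_range_zero, map_one] at hkill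
        have hsub : Subsingleton V := by
          refine ⟨fun x y => ?_⟩
          have hx : x = (1 : Module.End K V) x := rfl
          have hy : y = (1 : Module.End K V) y := rfl
          rw [hx, hy, hkill]
          rfl
        have : finrank K V = 0 := finrank_zero_of_subsingleton
        omega
    subst hk0
    refine ⟨⊥, ?_, ?_, finrank_bot K V⟩
    · intro x hx
      rw [Submodule.mem_bot] at hx
      rw [hx, map_zero]
      exact Submodule.zero_mem _
    · intro x hx y _
      rw [Submodule.mem_bot] at hx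
      rw [hx, map_zero, LinearMap.zero_apply]
  | succ t ih =>
    intro V _ _ _ B a N h hB hl hinj hkill k hk
    rcases Nat.eq_zero_or_pos k with hk0 | hkpos
    · subst hk0
      refine ⟨⊥, ?_, ?_, finrank_bot K V⟩
      · intro x hx
        rw [Submodule.mem_bot] at hx
        rw [hx, map_zero]
        exact Submodule.zero_mem _
      · intro x hx y _
        rw [Submodule.mem_bot] at hx
        rw [hx, map_zero, LinearMap.zero_apply]
    have hk' : 2 * k + (t + 1) ≤ finrank K V + 1 := by
      rcases hk with hk | hk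
      · omega
      · exact hk
    obtain ⟨p', hp'⟩ : ∃ p' : K[X], p' = ∏ i ∈ Finset.range t, (X - C (l i)) := ⟨_, rfl⟩
    rw [Finset.prod_range_succ, ← hp'] at hkill
    have hcop : IsCoprime p' (X - C (l t)) := by
      rw [hp']
      apply IsCoprime.prod_left
      intro i hi
      rw [Finset.mem_range] at hi
      apply Polynomial.isCoprime_X_sub_C_of_isUnit_sub
      rw [isUnit_iff_ne_zero, sub_ne_zero]
      intro heq
      have := hinj i (by omega) t (by omega) heq
      omega
    have hp'l : p'.eval (l t) ≠ 0 := by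
      rw [hp', eval_prod, Finset.prod_ne_zero_iff]
      intro i hi
      rw [Finset.mem_range] at hi
      rw [eval_sub, eval_X, eval_C, sub_ne_zero]
      intro heq
      have := hinj t (by omega) i (by omega) heq
      omega
    obtain ⟨E, hE⟩ : ∃ E : Submodule K V, E = LinearMap.ker (aeval a (X - C (l t) : K[X])) :=
      ⟨_, rfl⟩
    obtain ⟨V', hV'⟩ : ∃ V' : Submodule K V, V' = LinearMap.ker (aeval a p') := ⟨_, rfl⟩
    have hEeig : ∀ u ∈ E, a u = l t • u := by
      intro u hu
      rw [hE] at hu
      exact (mem_ker_X_sub_C a (l t) u).1 hu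
    have hV'inv : Inv a V' := by rw [hV']; exact inv_ker_aeval a p'
    have hEinv : Inv a E := by
      intro u hu
      rw [hEeig u hu]
      exact E.smul_mem _ hu
    have hsup : V' ⊔ E = ⊤ := by
      rw [hV', hE, Polynomial.sup_ker_aeval_eq_ker_aeval_mul_of_coprime a hcop, hkill,
        LinearMap.ker_zero]
    have hdisj : Disjoint V' E := by
      rw [hV', hE]
      exact Polynomial.disjoint_ker_aeval_of_isCoprime a hcop
    have hlt : l t * σ (l t) = 1 := hl t (by omega)
    have horth : ∀ v ∈ V', ∀ u ∈ E, B v u = 0 := by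
      intro v hv u hu
      have h1 := eig_form_aeval h hlt (hEeig u hu) p' v
      rw [hV', LinearMap.mem_ker] at hv
      rw [hv, map_zero, LinearMap.zero_apply] at h1
      exact (mul_eq_zero.1 h1.symm).resolve_left hp'l
    have horth' : ∀ u ∈ E, ∀ v ∈ V', B u v = 0 := fun u hu v hv => h.eq_zero (horth v hv u hu)
    have hEnd : UNDOn B E := by
      intro x hx hxy
      apply hB x
      intro v
      have hv : v ∈ V' ⊔ E := by rw [hsup]; trivial
      obtain ⟨v1, hv1, v2, hv2, rfl⟩ := Submodule.mem_sup.1 hv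
      rw [map_add, horth' x hx v1 hv1, hxy v2 hv2, add_zero]
    have hV'nd : UNDOn B V' := by
      intro x hx hxy
      apply hB x
      intro v
      have hv : v ∈ V' ⊔ E := by rw [hsup]; trivial
      obtain ⟨v1, hv1, v2, hv2, rfl⟩ := Submodule.mem_sup.1 hv
      rw [map_add, horth x hx v2 hv2, hxy v1 hv1, add_zero]
    have hdim : finrank K V' + finrank K E = finrank K V := by
      have h1 := Submodule.finrank_sup_add_finrank_inf_eq V' E
      rw [hsup, hdisj.eq_bot, finrank_bot, add_zero, finrank_top] at h1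
      exact h1.symm
    have hEnd' : NondegOn B E := by
      intro x hx hx0
      by_contra hcon
      push Not at hcon
      exact hx0 (hEnd x hx hcon)
    obtain ⟨k2, hk2⟩ : ∃ k2 : ℕ, k2 = min k (finrank K E / 2) := ⟨_, rfl⟩
    obtain ⟨W2, hW2E, hW2ti, hW2d⟩ :=
      Cfsg.Agent.Lib.Helper55_SUTI_TS0.exists_ti_in hσ B h.herm k2 E hEnd' (by omega)
    have hW2inv : Inv a W2 := by
      intro u hu
      rw [hEeig u (hW2E hu)]
      exact W2.smul_mem _ hu
    by_cases hk1 : k - k2 = 0
    · refine ⟨W2, hW2inv, hW2ti, ?_⟩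
      omega
    -- recurse on `V'`
    have hV'inv' : ∀ x ∈ V', a x ∈ V' := hV'inv
    have h' : UData (UData.res B V') (a.restrict hV'inv') N := h.restrict hV'inv'
    have hB' : UND (UData.res B V') := und_res hV'nd
    have hkill' : aeval (a.restrict hV'inv') (∏ i ∈ Finset.range t, (X - C (l i))) = 0 := by
      apply LinearMap.ext
      intro x
      apply Subtype.ext
      rw [aeval_restrict_coe, ← hp']
      have hx2 : (x : V) ∈ LinearMap.ker (aeval a p') := hV' ▸ x.2
      rw [LinearMap.mem_ker] at hx2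
      rw [hx2]
      rfl
    obtain ⟨U', hU'inv, hU'ti, hU'd⟩ := ih V' (UData.res B V') (a.restrict hV'inv') N h' hB'
      (fun i hi => hl i (by omega)) (fun i hi j hj => hinj i (by omega) j (by omega)) hkill'
      (k - k2) (Or.inr (by omega))
    obtain ⟨U1, hU1⟩ : ∃ U1 : Submodule K V, U1 = U'.map V'.subtype := ⟨_, rfl⟩
    have hU1V' : U1 ≤ V' := by rw [hU1]; exact Submodule.map_subtype_le V' U'
    have hU1inv : Inv a U1 := by
      rw [hU1]
      rintro _ ⟨y, hy, rfl⟩
      exact ⟨(a.restrict hV'inv') y, hU'inv y hy, rfl⟩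
    have hU1ti : UIsoOn B U1 := by
      rw [hU1]
      rintro _ ⟨y, hy, rfl⟩ _ ⟨y', hy', rfl⟩
      exact hU'ti y hy y' hy'
    have hU1d : finrank K U1 = k - k2 := by
      rw [hU1, Submodule.finrank_map_subtype_eq, hU'd]
    refine ⟨W2 ⊔ U1, ?_, ?_, ?_⟩
    · intro x hx
      obtain ⟨w, hw, u, hu, rfl⟩ := Submodule.mem_sup.1 hx
      rw [map_add]
      exact Submodule.add_mem_sup (hW2inv w hw) (hU1inv u hu)
    · intro x hx y hy
      obtain ⟨w, hw, u, hu, rfl⟩ := Submodule.mem_sup.1 hx
      obtain ⟨w', hw', u', hu', rfl⟩ := Submodule.mem_sup.1 hy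
      rw [map_add, map_add, LinearMap.add_apply, LinearMap.add_apply, hW2ti w hw w' hw',
        hU1ti u hu u' hu', horth' w (hW2E hw) u' (hU1V' hu'), horth u (hU1V' hu) w' (hW2E hw')]
      simp
    · have hinf : W2 ⊓ U1 = ⊥ := by
        rw [eq_bot_iff]
        calc W2 ⊓ U1 ≤ E ⊓ V' := inf_le_inf hW2E hU1V'
          _ = ⊥ := by rw [inf_comm]; exact hdisj.eq_bot
      have h1 := Submodule.finrank_sup_add_finrank_inf_eq W2 U1
      rw [hinf, finrank_bot, add_zero, hW2d, hU1d] at h1
      omega

end G


section peel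

variable {K : Type u} [Field K] [Finite K] {σ : K →+* K}
variable {V : Type u} [AddCommGroup V] [Module K V] [FiniteDimensional K V]
variable {B : V →ₗ[K] V →ₛₗ[σ] K} {a : Module.End K V} {N : ℕ}

omit [Finite K] in
/-- the restriction to an invariant subspace of dimension `deg g`, `g` irreducible killing `a`,
has characteristic polynomial `g` -/
theorem charpoly_restrict_eq (g : K[X]) (hg : Irreducible g) (hgm : g.Monic)
    (hkill : aeval a g = 0) {P : Submodule K V} (hP : Inv a P)
    (hPd : finrank K P = g.natDegree) : (a.restrict hP).charpoly = g := by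
  obtain ⟨φ, hφdef⟩ : ∃ φ : Module.End K P, φ = a.restrict hP := ⟨_, rfl⟩
  rw [← hφdef]
  have hφ : aeval φ g = 0 := by
    apply LinearMap.ext
    intro x
    apply Subtype.ext
    rw [hφdef, aeval_restrict_coe, hkill]
    rfl
  have hd : 0 < g.natDegree := hg.natDegree_pos
  have hnt : Nontrivial P := Module.nontrivial_of_finrank_pos (R := K) (by omega)
  have h1 : minpoly K φ ∣ g := minpoly.dvd K φ hφ
  have h2 : ¬ IsUnit (minpoly K φ) := minpoly.not_isUnit K φ
  have h3 : minpoly K φ ∣ φ.charpoly := LinearMap.minpoly_dvd_charpoly φ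
  have h4 : g ∣ minpoly K φ := by
    obtain ⟨c, hc⟩ := h1
    rcases hg.isUnit_or_isUnit hc with hu | hu
    · exact absurd hu h2
    · rw [hc]
      exact (hu.mul_right_dvd).2 dvd_rfl
  have h5 : g ∣ φ.charpoly := h4.trans h3
  have h6 : φ.charpoly.natDegree ≤ g.natDegree := by
    rw [LinearMap.charpoly_natDegree, hPd]
  exact Polynomial.eq_of_monic_of_dvd_of_natDegree_le hgm (LinearMap.charpoly_monic φ) h5 h6

omit [Finite K] [FiniteDimensional K V] in
theorem orth_anti {W W1 : Submodule K V} (hle : W ≤ W1) : orth B W1 ≤ orth B W := by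
  intro y hy
  rw [mem_orth] at hy ⊢
  exact fun x hx => hy x (hle hx)

omit [Finite K] [FiniteDimensional K V] in
/-- orthogonal sum of nondegenerate subspaces -/
theorem undOn_sup_orth (h : UData B a N) {W P : Submodule K V} (hWnd : UNDOn B W)
    (hPnd : UNDOn B P) (hPZ : P ≤ orth B W) : UNDOn B (W ⊔ P) := by
  intro x hx hxy
  obtain ⟨w, hw, p, hp, rfl⟩ := Submodule.mem_sup.mp hx
  have hw0 : w = 0 := by
    apply hWnd w hw
    intro y hy
    have h1 := hxy y (Submodule.mem_sup_left hy)
    rw [map_add, LinearMap.add_apply] at h1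
    have h2 : B p y = 0 := h.eq_zero (mem_orth.mp (hPZ hp) y hy)
    rw [h2, add_zero] at h1
    exact h1
  have hp0 : p = 0 := by
    apply hPnd p hp
    intro y hy
    have h1 := hxy y (Submodule.mem_sup_right hy)
    rw [map_add, LinearMap.add_apply] at h1
    have h2 : B w y = 0 := mem_orth.mp (hPZ hy) w hw
    rw [h2, zero_add] at h1
    exact h1
  rw [hw0, hp0, add_zero]

omit [Finite K] [FiniteDimensional K V] in
theorem inv_sup {W P : Submodule K V} (hW : Inv a W) (hP : Inv a P) : Inv a (W ⊔ P) := by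
  intro x hx
  obtain ⟨w, hw, p, hp, rfl⟩ := Submodule.mem_sup.mp hx
  rw [map_add]
  exact Submodule.add_mem_sup (hW w hw) (hP p hp)

/-- If the irreducible self-dual polynomial `g` kills the semisimple isometry `a`, there are
invariant totally isotropic subspaces of every dimension `j * deg g` up to half the dimension. -/
theorem peel (hσne : ∃ θ, σ θ ≠ θ) (h : UData B a N) (hB : UND B) (ha : a.IsSemisimple)
    (g : K[X]) (hg : Irreducible g) (hgm : g.Monic) (hdual : g ∣ pstar σ N g)
    (hkill : aeval a g = 0) :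
    ∀ j : ℕ, 2 * (j * g.natDegree) ≤ finrank K V →
      ∃ W U : Submodule K V, Inv a W ∧ UNDOn B W ∧ finrank K W = 2 * (j * g.natDegree) ∧
        U ≤ W ∧ Inv a U ∧ UIsoOn B U ∧ finrank K U = j * g.natDegree := by
  have hd : 0 < g.natDegree := hg.natDegree_pos
  intro j
  induction j with
  | zero =>
    intro _
    refine ⟨⊥, ⊥, ?_, ?_, ?_, le_rfl, ?_, ?_, ?_⟩
    · intro x hx
      rw [Submodule.mem_bot] at hx
      rw [hx, map_zero]
      exact Submodule.zero_mem _
    · exact fun x hx _ => (Submodule.mem_bot K).mp hx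
    · rw [finrank_bot, Nat.zero_mul]
    · intro x hx
      rw [Submodule.mem_bot] at hx
      rw [hx, map_zero]
      exact Submodule.zero_mem _
    · intro x hx y _
      rw [Submodule.mem_bot] at hx
      rw [hx, map_zero, LinearMap.zero_apply]
    · rw [finrank_bot, Nat.zero_mul]
  | succ j ih =>
    intro hj
    have hexp : (j + 1) * g.natDegree = j * g.natDegree + g.natDegree := Nat.succ_mul _ _
    obtain ⟨W, U, hWinv, hWnd, hWd, hUW, hUinv, hUti, hUd⟩ := ih (by omega)
    -- first piece
    have hcompl := isCompl_orth h hWnd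
    have hZinv : Inv a (orth B W) := h.inv_orth hWinv
    have hZnd : UNDOn B (orth B W) := undOn_orth h hB hWnd
    have hZd := Submodule.finrank_add_eq_of_isCompl hcompl
    have hZne : orth B W ≠ ⊥ := by
      intro hbot
      rw [hbot, finrank_bot] at hZd
      omega
    obtain ⟨v, hvZ, hv0⟩ := Submodule.exists_mem_ne_zero_of_ne_bot hZne
    obtain ⟨P, hPZ, hPinv, hPnd, hPd⟩ := piece_in_sub hσne h ha (orth B W) hZinv hZnd g hg hdual
      v hvZ hv0 (by rw [hkill]; rfl)
    have hW1inv : Inv a (W ⊔ P) := inv_sup hWinv hPinv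
    have hW1nd : UNDOn B (W ⊔ P) := undOn_sup_orth h hWnd hPnd hPZ
    have hW1d : finrank K (W ⊔ P : Submodule K V) = 2 * (j * g.natDegree) + g.natDegree := by
      have hinf : W ⊓ P = ⊥ := by
        rw [eq_bot_iff]
        calc W ⊓ P ≤ W ⊓ orth B W := inf_le_inf_left W hPZ
          _ = ⊥ := hcompl.inf_eq_bot
      have h1 := Submodule.finrank_sup_add_finrank_inf_eq W P
      rw [hinf, finrank_bot, add_zero, hWd, hPd] at h1
      exact h1
    -- second piece
    have hcompl1 := isCompl_orth h hW1nd
    have hZ1inv : Inv a (orth B (W ⊔ P)) := h.inv_orth hW1inv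
    have hZ1nd : UNDOn B (orth B (W ⊔ P)) := undOn_orth h hB hW1nd
    have hZ1d := Submodule.finrank_add_eq_of_isCompl hcompl1
    have hZ1ne : orth B (W ⊔ P) ≠ ⊥ := by
      intro hbot
      rw [hbot, finrank_bot] at hZ1d
      omega
    obtain ⟨v1, hv1Z, hv10⟩ := Submodule.exists_mem_ne_zero_of_ne_bot hZ1ne
    obtain ⟨Q, hQZ, hQinv, hQnd, hQd⟩ := piece_in_sub hσne h ha (orth B (W ⊔ P)) hZ1inv hZ1nd g hg
      hdual v1 hv1Z hv10 (by rw [hkill]; rfl)
    have hW2inv : Inv a (W ⊔ P ⊔ Q) := inv_sup hW1inv hQinv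
    have hW2nd : UNDOn B (W ⊔ P ⊔ Q) := undOn_sup_orth h hW1nd hQnd hQZ
    have hW2d : finrank K (W ⊔ P ⊔ Q : Submodule K V) = 2 * ((j + 1) * g.natDegree) := by
      have hinf : (W ⊔ P) ⊓ Q = ⊥ := by
        rw [eq_bot_iff]
        calc (W ⊔ P) ⊓ Q ≤ (W ⊔ P) ⊓ orth B (W ⊔ P) := inf_le_inf_left _ hQZ
          _ = ⊥ := hcompl1.inf_eq_bot
      have h1 := Submodule.finrank_sup_add_finrank_inf_eq (W ⊔ P) Q
      rw [hinf, finrank_bot, add_zero, hW1d, hQd] at h1
      omega
    have hPQ : ∀ u ∈ P, ∀ v ∈ Q, B u v = 0 := fun u hu v hv =>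
      mem_orth.1 (hQZ hv) u (Submodule.mem_sup_right hu)
    have hch : (a.restrict hPinv).charpoly = (a.restrict hQinv).charpoly := by
      rw [charpoly_restrict_eq g hg hgm hkill hPinv hPd,
        charpoly_restrict_eq g hg hgm hkill hQinv hQd]
    obtain ⟨U', hU'PQ, hU'inv, hU'ti, hU'd⟩ :=
      Cfsg.Agent.Lib.Helper99_SUTI_Pair.exists_ti_in_pair hσne h ha hPinv hQinv hPnd hQnd hPQ hch
    have hQZ0 : Q ≤ orth B W := hQZ.trans (orth_anti le_sup_left)
    have hU'Z : U' ≤ orth B W := hU'PQ.trans (sup_le hPZ hQZ0)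
    refine ⟨W ⊔ P ⊔ Q, U ⊔ U', hW2inv, hW2nd, hW2d, ?_, inv_sup hUinv hU'inv, ?_, ?_⟩
    · apply sup_le
      · exact hUW.trans (le_sup_left.trans le_sup_left)
      · refine hU'PQ.trans (sup_le ?_ le_sup_right)
        exact le_sup_right.trans le_sup_left
    · intro x hx y hy
      obtain ⟨u, hu, u', hu', rfl⟩ := Submodule.mem_sup.1 hx
      obtain ⟨w, hw, w', hw', rfl⟩ := Submodule.mem_sup.1 hy
      have e1 : B u w' = 0 := mem_orth.1 (hU'Z hw') u (hUW hu)
      have e2 : B u' w = 0 := h.eq_zero (mem_orth.1 (hU'Z hu') w (hUW hw))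
      rw [map_add, map_add, LinearMap.add_apply, LinearMap.add_apply, hUti u hu w hw,
        hU'ti u' hu' w' hw', e1, e2]
      simp
    · have hinf : U ⊓ U' = ⊥ := by
        rw [eq_bot_iff]
        calc U ⊓ U' ≤ W ⊓ orth B W := inf_le_inf hUW hU'Z
          _ = ⊥ := hcompl.inf_eq_bot
      have h1 := Submodule.finrank_sup_add_finrank_inf_eq U U'
      rw [hinf, finrank_bot, add_zero, hUd, hU'd, hPd] at h1
      omega

/-- a totally isotropic subspace orthogonal to a nondegenerate subspace -/
theorem ti_bound (h : UData B a N) (hB : UND B) {W S : Submodule K V} (hW : UIsoOn B W)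
    (hS : UNDOn B S) (hWS : ∀ w ∈ W, ∀ s ∈ S, B w s = 0) :
    2 * finrank K W + finrank K S ≤ finrank K V := by
  have hinf : W ⊓ S = ⊥ := by
    rw [eq_bot_iff]
    intro x hx
    rw [Submodule.mem_bot]
    exact hS x hx.2 (fun y hy => hWS x hx.1 y hy)
  have hle : W ⊔ S ≤ orth B W := by
    apply sup_le
    · intro w' hw'
      rw [mem_orth]
      exact fun x hx => hW x hx w' hw'
    · intro s hs
      rw [mem_orth]
      exact fun x hx => hWS x hx s hs
  have h1 := Submodule.finrank_sup_add_finrank_inf_eq W S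
  rw [hinf, finrank_bot, add_zero] at h1
  have h2 := Submodule.finrank_mono hle
  have h3 := finrank_orth h hB W
  omega

end peel

end Cfsg.Agent.Lib.Helper32_SUTI_TB3a
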