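import Mathlib
import Cfsg.Prelude.Def_Classical
import Cfsg.Agent.Lib.Helper40_UExistMatrix

/-!
# Sub-package UD1-U3 of helper58/helper99's S5954 project (helper63)

For `X ^ r - C z` irreducible over `F_{q²}`, `z ^ (q+1) = 1`, `z ^ k = 1`, `r` odd and `n = r k`
there is `x ∈ SU_n(q)` with `x ^ r = z • 1`.
-/

set_option autoImplicit false

namespace Cfsg.Agent.Lib.Helper63_UD1_U3

open scoped MatrixGroups
open Polynomial Module Cfsg.Agent.Lib.Helper40_Palindromic Cfsg.Agent.Lib.Helper40_UExist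

theorem recip_X_pow_sub_C {F : Type*} [Field F] (r : ℕ) (hr : 0 < r) (b : F) (hb : b ≠ 0) :
    recip (X ^ r - C b : F[X]) = X ^ r - C b⁻¹ := by
  have hc0 : (X ^ r - C b : F[X]).coeff 0 = -b := by
    rw [coeff_sub, coeff_X_pow, coeff_C_zero, if_neg hr.ne, zero_sub]
  have hdeg : (X ^ r - C b : F[X]).natDegree = r := natDegree_X_pow_sub_C
  have hrev : (X ^ r - C b : F[X]).reverse = 1 - C b * X ^ r := by
    unfold reverse
    rw [hdeg, sub_eq_add_neg, reflect_add, reflect_neg, reflect_C, reflect_monomial,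
      revAt_le le_rfl, Nat.sub_self, pow_zero, ← sub_eq_add_neg]
  unfold recip
  rw [hc0, hrev, inv_neg, C_neg, mul_sub, mul_one, ← mul_assoc, neg_mul, ← C_mul,
    inv_mul_cancel₀ hb, C_1]
  ring

theorem udual_one {F : Type*} [Field F] (σ : F →+* F) : udual σ (1 : F[X]) = 1 := by
  unfold udual recip
  rw [Polynomial.map_one, coeff_one_zero, inv_one, C_1, one_mul, ← C_1, reverse_C]

theorem udual_pow {F : Type*} [Field F] (σ : F →+* F) (f : F[X]) (k : ℕ) :
    udual σ (f ^ k) = (udual σ f) ^ k := by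
  induction k with
  | zero => rw [pow_zero, pow_zero, udual_one]
  | succ k ih => rw [pow_succ, pow_succ, udual_mul, ih]

set_option linter.unusedVariables false in
theorem U3 {F : Type*} [Field F] [Fintype F] {q : ℕ} (hq : Fintype.card F = q ^ 2)
    (n r k : ℕ) (hr : Odd r) (hn : n = r * k) (z : F) (hz : z ^ (q + 1) = 1) (hzk : z ^ k = 1)
    (hirr : Irreducible (X ^ r - C z : F[X])) :
    ∃ x : Matrix.SpecialLinearGroup (Fin n) F, x ∈ Cfsg.SU n F q ∧
      ((x ^ r : Matrix.SpecialLinearGroup (Fin n) F) : Matrix (Fin n) (Fin n) F) =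
        z • (1 : Matrix (Fin n) (Fin n) F) := by
  classical
  obtain ⟨σ, hσq, hσ⟩ := Cfsg.Agent.Lib.Helper94_HermBridge.exists_frob hq
  have hr0 : 0 < r := hr.pos
  have hz0 : z ≠ 0 := by
    intro h
    rw [h, zero_pow (Nat.succ_ne_zero q)] at hz
    exact zero_ne_one hz
  have hzq : z ^ q = z⁻¹ := by
    apply eq_inv_of_mul_eq_one_left
    rw [← pow_succ]
    exact hz
  set f : F[X] := X ^ r - C z with hf
  have hfm : f.Monic := monic_X_pow_sub_C z hr0.ne'
  have hfdeg : f.natDegree = r := natDegree_X_pow_sub_C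
  have hfdual : udual σ f = f := by
    unfold udual
    rw [hf, Polynomial.map_sub, Polynomial.map_pow, map_X, map_C, hσq, hzq,
      recip_X_pow_sub_C r hr0 _ (inv_ne_zero hz0), inv_inv]
  set c : F[X] := f ^ k with hc
  have hcm : c.Monic := hfm.pow k
  have hcdeg : c.natDegree = n := by
    rw [hc, hfm.natDegree_pow, hfdeg, hn, mul_comm]
  have hcdual : udual σ c = c := by rw [hc, udual_pow, hfdual]
  obtain ⟨A, hApres, hAch, hAkill⟩ :=
    Cfsg.Agent.Lib.Helper40_UExistMatrix.exists_GU_matrix σ hσq hσ n c hcm hcdeg hcdual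
  have hAf : aeval A f = 0 := by
    apply hAkill
    intro g hg hgc
    exact hg.prime.dvd_of_dvd_pow hgc
  have hAr : A ^ r = z • (1 : Matrix (Fin n) (Fin n) F) := by
    rw [hf, map_sub, map_pow, aeval_X, aeval_C, sub_eq_zero, Algebra.algebraMap_eq_smul_one] at hAf
    exact hAf
  have hdet : A.det = 1 := by
    rw [Matrix.det_eq_sign_charpoly_coeff, hAch, Fintype.card_fin, coeff_zero_eq_eval_zero, hc,
      eval_pow, hf, eval_sub, eval_pow, eval_X, eval_C, zero_pow hr0.ne', zero_sub, hn, neg_pow z,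
      hzk, mul_one, ← pow_add]
    have heven : Even (r * k + k) := by
      obtain ⟨m, hm⟩ := hr
      exact ⟨(m + 1) * k, by rw [hm]; ring⟩
    exact heven.neg_one_pow
  refine ⟨⟨A, hdet⟩, fun u v => hApres u v, ?_⟩
  exact (Matrix.SpecialLinearGroup.coe_pow (⟨A, hdet⟩ : Matrix.SpecialLinearGroup (Fin n) F) r).trans hAr

end Cfsg.Agent.Lib.Helper63_UD1_U3
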