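import Mathlib
import Cfsg.Agent.Lib.Helper40_UBasic

/-!
# Sub-package UD1-U5 of helper58/helper99's S5954 project (helper63)

Greedy orthogonal sums of nondegenerate invariant pieces of a fixed dimension.
-/

set_option autoImplicit false

namespace Cfsg.Agent.Lib.Helper63_UD1_U5

open Polynomial Module Cfsg.Agent.Lib.Helper40_UBasic Cfsg.Agent.Lib.Helper40_SpBasic

theorem U5 {K : Type*} [Field K] [Finite K] {σ : K →+* K} {V : Type*} [AddCommGroup V] [Module K V]
    [FiniteDimensional K V] {B : V →ₗ[K] V →ₛₗ[σ] K} {a : Module.End K V} {N : ℕ}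
    (h : UData B a N) (hB : UND B) (d : ℕ)
    (hpiece : ∀ Z : Submodule K V, Inv a Z → UNDOn B Z → Z ≠ ⊥ →
      ∃ P : Submodule K V, P ≤ Z ∧ Inv a P ∧ UNDOn B P ∧ finrank K P = d)
    (j : ℕ) (hj : j * d ≤ finrank K V) :
    ∃ W : Submodule K V, Inv a W ∧ UNDOn B W ∧ finrank K W = j * d := by
  induction j with
  | zero =>
    refine ⟨⊥, fun x hx => ?_, fun x hx _ => ?_, ?_⟩
    · rw [Submodule.mem_bot] at hx
      rw [hx, map_zero]
      exact Submodule.zero_mem _
    · exact (Submodule.mem_bot K).mp hx
    · rw [finrank_bot, Nat.zero_mul]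
  | succ j ih =>
    have hj' : j * d ≤ finrank K V := le_trans (Nat.mul_le_mul_right d (Nat.le_succ j)) hj
    obtain ⟨W, hWinv, hWnd, hWrk⟩ := ih hj'
    rcases Nat.eq_zero_or_pos d with hd | hd
    · refine ⟨W, hWinv, hWnd, ?_⟩
      rw [hWrk, hd, Nat.mul_zero, Nat.mul_zero]
    · have hcompl := isCompl_orth h hWnd
      have hZinv : Inv a (orth B W) := UData.inv_orth h hWinv
      have hZnd : UNDOn B (orth B W) := undOn_orth h hB hWnd
      have hrk := Submodule.finrank_add_eq_of_isCompl hcompl
      have hZne : orth B W ≠ ⊥ := by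
        intro hbot
        rw [hbot, finrank_bot, hWrk] at hrk
        have : (j + 1) * d = j * d + d := Nat.succ_mul j d
        omega
      obtain ⟨P, hPZ, hPinv, hPnd, hPrk⟩ := hpiece (orth B W) hZinv hZnd hZne
      refine ⟨W ⊔ P, ?_, ?_, ?_⟩
      · intro x hx
        obtain ⟨w, hw, p, hp, rfl⟩ := Submodule.mem_sup.mp hx
        rw [map_add]
        exact Submodule.add_mem_sup (hWinv w hw) (hPinv p hp)
      · intro x hx hxy
        obtain ⟨w, hw, p, hp, rfl⟩ := Submodule.mem_sup.mp hx
        have hw0 : w = 0 := by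
          apply hWnd w hw
          intro y hy
          have h1 := hxy y (Submodule.mem_sup_left hy)
          rw [map_add, LinearMap.add_apply] at h1
          have h2 : B p y = 0 := h.eq_zero (mem_orth.mp (hPZ hp) y hy)
          rw [h2, add_zero] at h1
          exact h1
        have hp0 : p = 0 := by
          apply hPnd p hp
          intro y hy
          have h1 := hxy y (Submodule.mem_sup_right hy)
          rw [map_add, LinearMap.add_apply] at h1
          have h2 : B w y = 0 := mem_orth.mp (hPZ hy) w hw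
          rw [h2, zero_add] at h1
          exact h1
        rw [hw0, hp0, add_zero]
      · have hinf : W ⊓ P = ⊥ := by
          rw [eq_bot_iff]
          calc W ⊓ P ≤ W ⊓ orth B W := inf_le_inf_left W hPZ
            _ = ⊥ := hcompl.inf_eq_bot
        have h1 := Submodule.finrank_sup_add_finrank_inf_eq W P
        rw [hinf, finrank_bot, add_zero, hWrk, hPrk] at h1
        rw [h1, Nat.succ_mul]

end Cfsg.Agent.Lib.Helper63_UD1_U5
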