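import Mathlib

/-!
# S5954-UD1, sub-package U1 (helper67 for helper58): arithmetic of `r`-th powers in `F_{q²}`
-/

set_option autoImplicit false

namespace Cfsg.Agent.Lib.Helper67_UD1_U1

/-- In a finite cyclic group of order `N` with `r ∣ N`, an element killed by `N / r` is an `r`-th power. -/
theorem exists_pow_eq_of_pow_div {C : Type*} [Group C] [Fintype C] [IsCyclic C] (r : ℕ)
    (hr : r ∣ Fintype.card C) (x : C) (hx : x ^ (Fintype.card C / r) = 1) : ∃ w : C, w ^ r = x := by
  obtain ⟨g, hg⟩ := IsCyclic.exists_monoid_generator (α := C)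
  have hgz : ∀ y : C, y ∈ Subgroup.zpowers g := by
    intro y
    obtain ⟨n, hn⟩ := hg y
    exact ⟨n, by simpa using hn⟩
  have hog : orderOf g = Fintype.card C := by
    rw [orderOf_eq_card_of_forall_mem_zpowers hgz, Nat.card_eq_fintype_card]
  obtain ⟨s, hs⟩ := hg x
  have hs' : g ^ s = x := hs
  have hNpos : 0 < Fintype.card C := Fintype.card_pos
  obtain ⟨c, hc⟩ := hr
  have hcpos : 0 < c := by
    rcases Nat.eq_zero_or_pos c with h | h
    · rw [h, mul_zero] at hc; omega
    · exact h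
  have hrpos : 0 < r := by
    rcases Nat.eq_zero_or_pos r with h | h
    · rw [h, zero_mul] at hc; omega
    · exact h
  have hdiv : Fintype.card C / r = c := by
    rw [hc, Nat.mul_div_cancel_left c hrpos]
  rw [hdiv, ← hs', ← pow_mul] at hx
  have h1 := orderOf_dvd_of_pow_eq_one hx
  rw [hog, hc] at h1
  have h2 : r ∣ s := Nat.dvd_of_mul_dvd_mul_right hcpos h1
  obtain ⟨t, ht⟩ := h2
  exact ⟨g ^ t, by rw [← pow_mul, mul_comm, ← ht, hs']⟩

theorem U1 {F : Type*} [Field F] [Fintype F] {q : ℕ} (hq : Fintype.card F = q ^ 2)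
    (r : ℕ) (hr : r.Prime) (hr2 : 2 < r) (hi : orderOf (q : ZMod r) = 2) :
    r ∣ q + 1 ∧ ¬ r ∣ q - 1 ∧
    (∀ w z : F, w ^ r = z → z ^ (q + 1) = 1 → w ^ (q + 1) = 1) ∧
    (∀ z : F, z ^ (q + 1) = 1 → (∀ w : F, w ^ r ≠ z) → ∀ k : ℕ, z ^ k = 1 →
      r ^ padicValNat r (q + 1) ∣ k) ∧
    (∃ z : F, z ^ (q + 1) = 1 ∧ (∀ w : F, w ^ r ≠ z) ∧ z ^ (r ^ padicValNat r (q + 1)) = 1) := by
  classical
  have _ := hr2
  have : Fact r.Prime := ⟨hr⟩
  -- `q ≥ 2`
  have hq2 : 2 ≤ q := by
    have h1 : 1 < Fintype.card F := Fintype.one_lt_card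
    rw [hq] at h1
    by_contra hlt
    push Not at hlt
    interval_cases q <;> simp at h1
  -- (1), (2)
  have hsq : (q : ZMod r) ^ 2 = 1 := by rw [← hi]; exact pow_orderOf_eq_one _
  have hne1 : (q : ZMod r) ≠ 1 := by
    intro h
    rw [h, orderOf_one] at hi
    omega
  have hneg : (q : ZMod r) = -1 := by
    have h1 : ((q : ZMod r) - 1) * ((q : ZMod r) + 1) = 0 := by ring_nf; rw [hsq]; ring
    rcases mul_eq_zero.mp h1 with h | h
    · exact absurd (sub_eq_zero.mp h) hne1
    · exact eq_neg_of_add_eq_zero_left h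
  have h1 : r ∣ q + 1 := by
    rw [← ZMod.natCast_eq_zero_iff]
    push_cast
    rw [hneg]; ring
  have h2 : ¬ r ∣ q - 1 := by
    intro h
    rw [← ZMod.natCast_eq_zero_iff, Nat.cast_sub (by omega)] at h
    push_cast at h
    exact hne1 (sub_eq_zero.mp h)
  have hcop : Nat.Coprime r (q - 1) := (Nat.Prime.coprime_iff_not_dvd hr).mpr h2
  -- `|F^×| = (q-1)(q+1)`
  have hcardU : Fintype.card Fˣ = (q - 1) * (q + 1) := by
    rw [Fintype.card_units, hq]
    obtain ⟨m, rfl⟩ : ∃ m, q = m + 1 := ⟨q - 1, by omega⟩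
    have : (m + 1) ^ 2 = m * (m + 1 + 1) + 1 := by ring
    rw [this]
    simp
  have hcardF : ∀ x : F, x ≠ 0 → x ^ ((q - 1) * (q + 1)) = 1 := by
    intro x hx
    have := FiniteField.pow_card_sub_one_eq_one x hx
    rw [← Fintype.card_units, hcardU] at this
    exact this
  set a := padicValNat r (q + 1) with ha
  have hra : r ^ a ∣ q + 1 := pow_padicValNat_dvd
  have hra1 : ¬ r ^ (a + 1) ∣ q + 1 := pow_succ_padicValNat_not_dvd (by omega)
  have ha1 : 1 ≤ a := one_le_padicValNat_of_dvd (by omega) h1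
  -- (3)
  have h3 : ∀ w z : F, w ^ r = z → z ^ (q + 1) = 1 → w ^ (q + 1) = 1 := by
    intro w z hwz hz
    have hw0 : w ≠ 0 := by
      rintro rfl
      rw [zero_pow hr.ne_zero] at hwz
      rw [← hwz, zero_pow (by omega)] at hz
      exact zero_ne_one hz
    have e1 : w ^ (r * (q + 1)) = 1 := by rw [pow_mul, hwz, hz]
    have e2 := hcardF w hw0
    have d1 := orderOf_dvd_of_pow_eq_one e1
    have d2 := orderOf_dvd_of_pow_eq_one e2
    have d3 := Nat.dvd_gcd d1 d2
    rw [Nat.gcd_mul_right, hcop.gcd_eq_one, one_mul] at d3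
    exact orderOf_dvd_iff_pow_eq_one.mp d3
  -- r-th powers among the elements killed by `(q+1)/r`
  have hpow : ∀ z : F, z ^ ((q + 1) / r) = 1 → ∃ w : F, w ^ r = z := by
    intro z hz
    have hz0 : z ≠ 0 := by
      rintro rfl
      have hpos : 0 < (q + 1) / r := Nat.div_pos (Nat.le_of_dvd (by omega) h1) hr.pos
      rw [zero_pow hpos.ne'] at hz
      exact zero_ne_one hz
    have hrN : r ∣ Fintype.card Fˣ := by
      rw [hcardU]; exact Dvd.dvd.mul_left h1 _
    have hx : (Units.mk0 z hz0) ^ (Fintype.card Fˣ / r) = 1 := by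
      rw [hcardU, Nat.mul_div_assoc _ h1, mul_comm, pow_mul]
      apply Units.ext
      push_cast
      rw [Units.val_mk0, hz, one_pow]
    obtain ⟨w, hw⟩ := exists_pow_eq_of_pow_div r hrN (Units.mk0 z hz0) hx
    refine ⟨(w : F), ?_⟩
    have := congrArg Units.val hw
    push_cast at this
    rw [Units.val_mk0] at this
    exact this
  refine ⟨h1, h2, h3, ?_, ?_⟩
  · -- (4)
    intro z hz hnot k hk
    have d1 := orderOf_dvd_of_pow_eq_one hz
    have d2 := orderOf_dvd_of_pow_eq_one hk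
    refine dvd_trans ?_ d2
    obtain ⟨c, hc⟩ := d1
    by_contra hnd
    have hrc : r ∣ c := by
      by_contra hrc
      have hcop' : Nat.Coprime (r ^ a) c :=
        Nat.Coprime.pow_left a ((Nat.Prime.coprime_iff_not_dvd hr).mpr hrc)
      rw [hc] at hra
      exact hnd (hcop'.dvd_of_dvd_mul_right hra)
    obtain ⟨c', rfl⟩ := hrc
    have hdiv : (q + 1) / r = orderOf z * c' := by
      rw [hc]
      have : orderOf z * (r * c') = r * (orderOf z * c') := by ring
      rw [this, Nat.mul_div_cancel_left _ hr.pos]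
    obtain ⟨w, hw⟩ := hpow z (by rw [hdiv, pow_mul, pow_orderOf_eq_one, one_pow])
    exact hnot w hw
  · -- (5)
    obtain ⟨g, hg⟩ := IsCyclic.exists_monoid_generator (α := Fˣ)
    have hgz : ∀ y : Fˣ, y ∈ Subgroup.zpowers g := by
      intro y
      obtain ⟨n, hn⟩ := hg y
      exact ⟨n, by simpa using hn⟩
    have hog : orderOf g = (q - 1) * (q + 1) := by
      rw [orderOf_eq_card_of_forall_mem_zpowers hgz, ← hcardU, Nat.card_eq_fintype_card]
    obtain ⟨e, he⟩ := hra
    -- `q + 1 = r^a * e`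
    set M := (q - 1) * e with hM
    have hNM : (q - 1) * (q + 1) = M * r ^ a := by rw [hM, he]; ring
    set zu : Fˣ := g ^ M with hzu
    have hzra : zu ^ (r ^ a) = 1 := by
      rw [hzu, ← pow_mul, ← hNM, ← hog, pow_orderOf_eq_one]
    have hzq : zu ^ (q + 1) = 1 := by
      rw [he, pow_mul, hzra, one_pow]
    refine ⟨(zu : F), ?_, ?_, ?_⟩
    · rw [← Units.val_pow_eq_pow_val, hzq, Units.val_one]
    · intro w hw
      have hw1 := h3 w _ hw (by rw [← Units.val_pow_eq_pow_val, hzq, Units.val_one])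
      -- `zu ^ ((q+1)/r) = 1`
      obtain ⟨c, hc⟩ := h1
      have hdiv : (q + 1) / r = c := by rw [hc, Nat.mul_div_cancel_left _ hr.pos]
      have h4 : (zu : F) ^ c = 1 := by
        rw [← hw, ← pow_mul, ← hc, hw1]
      have h5 : zu ^ c = 1 := by
        apply Units.ext
        rw [Units.val_pow_eq_pow_val, h4, Units.val_one]
      rw [hzu, ← pow_mul] at h5
      have h6 := orderOf_dvd_of_pow_eq_one h5
      rw [hog, hNM] at h6
      have hMpos : 0 < M := by
        rw [hM]
        apply Nat.mul_pos (by omega)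
        rcases Nat.eq_zero_or_pos e with h | h
        · rw [h, mul_zero] at he; omega
        · exact h
      have h7 : r ^ a ∣ c := Nat.dvd_of_mul_dvd_mul_left hMpos h6
      apply hra1
      rw [hc, pow_succ, mul_comm]
      exact Nat.mul_dvd_mul_left r h7
    · rw [← Units.val_pow_eq_pow_val, hzra, Units.val_one]

end Cfsg.Agent.Lib.Helper67_UD1_U1
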