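import Mathlib
import Cfsg.Agent.Lib.Helper40_Semisimple
import Cfsg.Agent.Lib.Helper40_PrimeOrderClasses
import Cfsg.Agent.Lib.Helper40_PGLInvol

/-!
# S5954-UD1, sub-package U2 (helper67 for helper58)

* `U2a` : if `f` is irreducible and `f(a) = 0`, the degree of `f` divides the dimension of every
  `a`-invariant subspace;
* `U2b` : if `A ^ r = z • 1` with `X ^ r - C z` irreducible and `r` odd, then `r ∣ n` and
  `det A = z ^ (n / r)`.
-/

set_option autoImplicit false

namespace Cfsg.Agent.Lib.Helper67_UD1_U2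

open Polynomial Module

/-- Polynomials in the restriction of an endomorphism to an invariant subspace. -/
theorem aeval_restrict_apply {F : Type*} [Field F] {V : Type*} [AddCommGroup V] [Module F V]
    (a : Module.End F V) (W : Submodule F V) (hW : ∀ x ∈ W, a x ∈ W) (p : F[X]) (w : W) :
    ((aeval (a.restrict hW) p w : W) : V) = aeval a p (w : V) := by
  induction p using Polynomial.induction_on generalizing w with
  | C c =>
    rw [aeval_C, aeval_C, Module.algebraMap_end_apply, Module.algebraMap_end_apply]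
    rfl
  | add p q hp hq =>
    rw [map_add, map_add, LinearMap.add_apply, LinearMap.add_apply, Submodule.coe_add, hp, hq]
  | monomial n c h =>
    have e1 : (C c * X ^ (n + 1) : F[X]) = (C c * X ^ n) * X := by rw [pow_succ, mul_assoc]
    rw [e1, map_mul (aeval (a.restrict hW)), map_mul (aeval a), aeval_X, aeval_X,
      Module.End.mul_apply, Module.End.mul_apply, h]
    rfl

/-- A monic polynomial killed... every irreducible factor of the characteristic polynomial of an
endomorphism killed by `P` divides `P`. -/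
theorem dvd_of_irreducible_of_dvd_charpoly_end {F : Type*} [Field F] {V : Type*} [AddCommGroup V]
    [Module F V] [FiniteDimensional F V] (φ : Module.End F V) (P : F[X]) (hP : aeval φ P = 0)
    (g : F[X]) (hg : Irreducible g) (hdvd : g ∣ φ.charpoly) : g ∣ P := by
  by_contra hnd
  obtain ⟨u, w, huw⟩ := (Irreducible.coprime_iff_not_dvd hg).2 hnd
  obtain ⟨v, hv0, hv⟩ := Helper40_Semisimple.exists_ne_zero_aeval_eq_zero φ g hg hdvd
  have h1 : aeval φ (u * g + w * P) v = v := by
    rw [huw, map_one, Module.End.one_apply]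
  rw [map_add, map_mul, map_mul, hP, mul_zero, add_zero, Module.End.mul_apply, hv, map_zero] at h1
  exact hv0 h1.symm

theorem U2a {F : Type*} [Field F] {V : Type*} [AddCommGroup V] [Module F V] [FiniteDimensional F V]
    (a : Module.End F V) (f : F[X]) (hf : Irreducible f) (hfa : aeval a f = 0)
    (W : Submodule F V) (hW : ∀ x ∈ W, a x ∈ W) : f.natDegree ∣ finrank F W := by
  set a' : Module.End F W := a.restrict hW with ha'
  have hfa' : aeval a' f = 0 := by
    apply LinearMap.ext
    intro w
    apply Subtype.ext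
    rw [aeval_restrict_apply a W hW f w, hfa]
    rfl
  have hf0 : f ≠ 0 := hf.ne_zero
  set P : F[X] := f * C (leadingCoeff f)⁻¹ with hPdef
  have hPm : P.Monic := monic_mul_leadingCoeff_inv hf0
  have hPi : Irreducible P := irreducible_mul_leadingCoeff_inv.mpr hf
  have hPdeg : P.natDegree = f.natDegree := natDegree_mul_leadingCoeff_inv f hf0
  have hall : ∀ g, Irreducible g → g ∣ a'.charpoly → g ∣ P := by
    intro g hg hdvd
    exact (dvd_of_irreducible_of_dvd_charpoly_end a' f hfa' g hg hdvd).trans (Dvd.intro _ rfl)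
  obtain ⟨k, hk⟩ := Helper40_PGLInvol.eq_pow_of_forall_irreducible_dvd P hPm hPi
    a'.charpoly.natDegree a'.charpoly (LinearMap.charpoly_monic a') rfl hall
  have h1 : a'.charpoly.natDegree = finrank F W := LinearMap.charpoly_natDegree a'
  rw [hk, hPm.natDegree_pow, hPdeg] at h1
  exact ⟨k, by rw [← h1, mul_comm]⟩

theorem U2b {F : Type*} [Field F] (n r : ℕ) (hr : Odd r) (z : F)
    (hirr : Irreducible (X ^ r - C z : F[X]))
    (A : Matrix (Fin n) (Fin n) F) (hA : A ^ r = z • (1 : Matrix (Fin n) (Fin n) F)) :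
    r ∣ n ∧ A.det = z ^ (n / r) := by
  have hr0 : r ≠ 0 := by
    rintro rfl
    simp at hr
  have hrpos : 0 < r := Nat.pos_of_ne_zero hr0
  set f : F[X] := X ^ r - C z with hf
  have hfm : f.Monic := monic_X_pow_sub_C z hr0
  have hfdeg : f.natDegree = r := natDegree_X_pow_sub_C
  have hfA : aeval A f = 0 := by
    rw [hf, map_sub, map_pow, aeval_X, aeval_C, hA, Algebra.algebraMap_eq_smul_one, sub_self]
  have hall : ∀ g, Irreducible g → g ∣ A.charpoly → g ∣ f := fun g hg hdvd =>
    Helper40_PrimeOrderClasses.dvd_of_irreducible_of_dvd_charpoly A f hfA g hg hdvd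
  obtain ⟨k, hk⟩ := Helper40_PGLInvol.eq_pow_of_forall_irreducible_dvd f hfm hirr
    A.charpoly.natDegree A.charpoly (Matrix.charpoly_monic A) rfl hall
  have h1 : A.charpoly.natDegree = n := by
    rw [Matrix.charpoly_natDegree_eq_dim, Fintype.card_fin]
  have hn : n = k * r := by
    rw [← h1, hk, hfm.natDegree_pow, hfdeg]
  have hdiv : n / r = k := by rw [hn, Nat.mul_div_cancel _ hrpos]
  refine ⟨⟨k, by rw [hn, mul_comm]⟩, ?_⟩
  rw [hdiv, Matrix.det_eq_sign_charpoly_coeff, Fintype.card_fin, hk, coeff_zero_eq_eval_zero,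
    eval_pow, hf, eval_sub, eval_pow, eval_X, eval_C, zero_pow hr0, zero_sub, neg_pow z k,
    ← mul_assoc, ← pow_add]
  have heven : Even (n + k) := by
    rw [hn]
    obtain ⟨m, hm⟩ := hr
    exact ⟨k * (m + 1), by rw [hm]; ring⟩
  rw [heven.neg_one_pow, one_mul]

end Cfsg.Agent.Lib.Helper67_UD1_U2
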