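import Mathlib
import Cfsg.Prelude.Def_Classical
import Cfsg.Agent.Lib.Helper40_UCases
import Cfsg.Agent.Lib.Helper40_UMatrix
import Cfsg.Agent.Lib.Helper58_UD1_Abs
import Cfsg.Agent.Lib.Helper67_UD1_U1
import Cfsg.Agent.Lib.Helper67_UD1_U2
import Cfsg.Agent.Lib.Helper63_UD1_U3
import Cfsg.Agent.Lib.Helper63_UD1_U5

/-!
# S5954, case UD1 (helper58 for helper99): `r` odd, `r ≠ p`, `r ∣ q + 1`
-/

set_option autoImplicit false
set_option linter.unusedVariables false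
set_option linter.unusedSectionVars false
set_option linter.style.haveILetI false
open scoped MatrixGroups

namespace Cfsg.Agent.Lib.Helper58_SUND_UD1

open Polynomial Module Matrix Cfsg.Agent.Lib.Helper40_Semisimple Cfsg.Agent.Lib.Helper40_SpBasic
  Cfsg.Agent.Lib.Helper40_UBasic Cfsg.Agent.Lib.Helper40_UMatch
  Cfsg.Agent.Lib.Helper94_Herm Cfsg.Agent.Lib.Helper94_HermBridge Cfsg.Agent.Lib.Helper40_UMatrix
  Cfsg.Agent.Lib.Helper58_UD1_Abs Cfsg.Agent.Lib.Helper67_UD1_U1 Cfsg.Agent.Lib.Helper67_UD1_U2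
  Cfsg.Agent.Lib.Helper63_UD1_U3 Cfsg.Agent.Lib.Helper63_UD1_U5

section abs

variable {K : Type*} [Field K] {σ : K →+* K} {V : Type*} [AddCommGroup V] [Module K V]
variable {B : V →ₗ[K] V →ₛₗ[σ] K} {a : Module.End K V} {N : ℕ}

theorem caseII [Finite K] [FiniteDimensional K V] (hσne : ∃ θ, σ θ ≠ θ)
    (h : UData B a N) (hB : UND B) (ha : a.IsSemisimple) (r : ℕ) (z : K)
    (hkill : aeval a (X ^ r - C z : K[X]) = 0)
    (hirr : Irreducible (X ^ r - C z : K[X]))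
    (hdual : (X ^ r - C z : K[X]) ∣ pstar σ N (X ^ r - C z))
    (j : ℕ) (hj : j * r ≤ finrank K V) :
    ∃ W : Submodule K V, Inv a W ∧ UNDOn B W ∧ finrank K W = j * r := by
  apply U5 h hB r _ j hj
  intro Z hZ hZnd hZ0
  obtain ⟨v, hvZ, hv0⟩ := Submodule.exists_mem_ne_zero_of_ne_bot hZ0
  have hdeg : (X ^ r - C z : K[X]).natDegree = r := natDegree_X_pow_sub_C
  have := piece_in_sub hσne h ha Z hZ hZnd _ hirr hdual v hvZ hv0 (by rw [hkill]; rfl)
  rwa [hdeg] at this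

theorem caseI [Finite K] [FiniteDimensional K V] (hσne : ∃ θ, σ θ ≠ θ)
    (h : UData B a N) (hB : UND B) (ha : a.IsSemisimple) (l : ℕ → K) (t : ℕ)
    (hkill : aeval a (∏ i ∈ Finset.range t, (X - C (l i))) = 0)
    (hdual : ∀ i < t, (X - C (l i) : K[X]) ∣ pstar σ N (X - C (l i)))
    (j : ℕ) (hj : j ≤ finrank K V) :
    ∃ W : Submodule K V, Inv a W ∧ UNDOn B W ∧ finrank K W = j := by
  have key := U5 h hB 1 ?_ j (by rwa [mul_one])
  · rwa [mul_one] at key
  intro Z hZ hZnd hZ0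
  obtain ⟨v, hvZ, hv0⟩ := Submodule.exists_mem_ne_zero_of_ne_bot hZ0
  obtain ⟨i, hi, u, huZ, hu0, hu⟩ :=
    exists_eigen_of_prod a Z hZ l t v hvZ hv0 (by rw [hkill]; rfl)
  have hg : Irreducible (X - C (l i) : K[X]) := irreducible_X_sub_C _
  have hgu : aeval a (X - C (l i)) u = 0 := by
    rw [map_sub, aeval_X, aeval_C, LinearMap.sub_apply, Module.algebraMap_end_apply, hu, sub_self]
  have := piece_in_sub hσne h ha Z hZ hZnd _ hg (hdual i hi) u huZ hu0 hgu
  rwa [natDegree_X_sub_C] at this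

end abs

section concrete

variable {F : Type*} [Field F] [Fintype F]

/-- a scalar isometry has norm one -/
theorem scalar_norm_one {q : ℕ} (σ : F →+* F) (hσq : ∀ x, σ x = x ^ q) (n : ℕ) (hn : 0 < n) (z : F)
    (hpres : ∀ u v, Cfsg.hermForm n F q ((z • (1 : Matrix (Fin n) (Fin n) F)) *ᵥ u)
      ((z • (1 : Matrix (Fin n) (Fin n) F)) *ᵥ v) = Cfsg.hermForm n F q u v) : z * σ z = 1 := by
  have hB := und_hermB (n := n) σ hσq
  have hu0 : (Pi.single (⟨0, hn⟩ : Fin n) (1 : F) : Fin n → F) ≠ 0 := by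
    intro h0
    have := congrFun h0 ⟨0, hn⟩
    simp at this
  have hex : ∃ v, hermB n σ hσq (Pi.single (⟨0, hn⟩ : Fin n) (1 : F)) v ≠ 0 := by
    by_contra hcon
    push Not at hcon
    exact hu0 (hB _ hcon)
  obtain ⟨v, hv⟩ := hex
  have h1 := hpres (Pi.single (⟨0, hn⟩ : Fin n) (1 : F)) v
  have e1 : ∀ u w : Fin n → F, hermB n σ hσq (z • u) (z • w) =
      z * (σ z * hermB n σ hσq u w) := by
    intro u w
    rw [LinearMap.map_smul₂, map_smulₛₗ, smul_eq_mul, smul_eq_mul]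
  rw [Matrix.smul_mulVec, Matrix.smul_mulVec, Matrix.one_mulVec, Matrix.one_mulVec,
    ← hermB_apply σ hσq, ← hermB_apply σ hσq, e1, ← mul_assoc] at h1
  exact mul_right_cancel₀ hv (by rw [h1, one_mul])

theorem toLin'_smul_one_eq (n : ℕ) (z : F) :
    Matrix.toLin' (z • (1 : Matrix (Fin n) (Fin n) F)) =
      algebraMap F (Module.End F (Fin n → F)) z := by
  apply LinearMap.ext
  intro v
  rw [Matrix.toLin'_apply, Matrix.smul_mulVec, Matrix.one_mulVec, Module.algebraMap_end_apply]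

theorem aeval_toLin'_X_pow_sub_C (n r : ℕ) (z : F) (A : Matrix (Fin n) (Fin n) F)
    (hAr : A ^ r = z • (1 : Matrix (Fin n) (Fin n) F)) :
    aeval (Matrix.toLin' A) (X ^ r - C z : F[X]) = 0 := by
  rw [map_sub, map_pow, aeval_X, aeval_C, ← Matrix.toLin'_pow, hAr, toLin'_smul_one_eq, sub_self]

theorem sq_sub_one_eq (q : ℕ) (hq : 1 ≤ q) : q ^ 2 - 1 = (q - 1) * (q + 1) := by
  obtain ⟨k, rfl⟩ : ∃ k, q = k + 1 := ⟨q - 1, by omega⟩
  have : (k + 1) ^ 2 = (k + 1 - 1) * (k + 1 + 1) + 1 := by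
    rw [Nat.add_sub_cancel]; ring
  omega

theorem mpr_main {p : ℕ} [Fact p.Prime] [CharP F p] {q : ℕ} (hq : Fintype.card F = q ^ 2)
    (n m : ℕ) (hn : 3 ≤ n) (hmn : 2 * m < n) (r : ℕ) (hr : r.Prime) (hrp : r ≠ p) (hr2 : 2 < r)
    (hi : orderOf (q : ZMod r) = 2)
    (hcond : r ∣ m ∨ padicValNat r n ≤ padicValNat r (q + 1))
    (x : Matrix.SpecialLinearGroup (Fin n) F) (hx : x ∈ Cfsg.SU n F q) (z : F)
    (hxz : ((x ^ r : Matrix.SpecialLinearGroup (Fin n) F) : Matrix (Fin n) (Fin n) F) =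
      z • (1 : Matrix (Fin n) (Fin n) F)) :
    ∃ W : Submodule F (Fin n → F), Module.finrank F ↥W = m ∧
      (∀ u ∈ W, u ≠ 0 → ∃ v ∈ W, Cfsg.hermForm n F q u v ≠ 0) ∧
      W.map (Matrix.toLin' (x : Matrix (Fin n) (Fin n) F)) ≤ W := by
  classical
  obtain ⟨σ, hσq, hσ⟩ := exists_frob hq
  obtain ⟨hrq1, hrq2, hU3, hU4, -⟩ := U1 hq r hr hr2 hi
  have hq1 : 1 ≤ q := by
    rcases Nat.eq_zero_or_pos q with h0 | h0
    · rw [h0] at hq
      have := Fintype.card_pos (α := F)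
      simp at hq
    · exact h0
  obtain ⟨A, hA⟩ : ∃ A : Matrix (Fin n) (Fin n) F, A = (x : Matrix (Fin n) (Fin n) F) := ⟨_, rfl⟩
  have hpres : ∀ u v, Cfsg.hermForm n F q (A *ᵥ u) (A *ᵥ v) = Cfsg.hermForm n F q u v := by
    rw [hA]; exact hx
  have hAr : A ^ r = z • (1 : Matrix (Fin n) (Fin n) F) := by
    rw [hA, ← hxz]; simp
  have hxr : x ^ r ∈ Cfsg.SU n F q := Subgroup.pow_mem _ hx r
  have hpresr : ∀ u v, Cfsg.hermForm n F q ((z • (1 : Matrix (Fin n) (Fin n) F)) *ᵥ u)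
      ((z • (1 : Matrix (Fin n) (Fin n) F)) *ᵥ v) = Cfsg.hermForm n F q u v := by
    rw [← hxz]; exact hxr
  have hzσ : z * σ z = 1 := scalar_norm_one σ hσq n (by omega) z hpresr
  have hz1 : z ^ (q + 1) = 1 := by
    rw [pow_succ', ← hσq]; exact hzσ
  have hz0 : z ≠ 0 := by
    intro h0
    rw [h0, zero_mul] at hzσ
    exact zero_ne_one hzσ
  have hσz : σ z = z⁻¹ := eq_inv_of_mul_eq_one_right hzσ
  have hoz : 0 < orderOf z :=
    orderOf_pos_iff.2 (isOfFinOrder_iff_pow_eq_one.2 ⟨q + 1, Nat.succ_pos q, hz1⟩)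
  obtain ⟨N, hNdef⟩ : ∃ N : ℕ, N = r * orderOf z := ⟨_, rfl⟩
  have hN : 0 < N := by rw [hNdef]; exact Nat.mul_pos hr.pos hoz
  have hzN : z ^ N = 1 := by
    rw [hNdef, mul_comm, pow_mul, pow_orderOf_eq_one, one_pow]
  have hAN : A ^ N = 1 := by
    rw [hNdef, pow_mul, hAr, _root_.smul_pow, one_pow, pow_orderOf_eq_one, one_smul]
  have h : UData (hermB n σ hσq) (Matrix.toLin' A) N := uData_of_mem σ hσq hσ A hpres N hN hAN
  have hB := und_hermB (n := n) σ hσq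
  have hp : p.Prime := Fact.out
  have hrF : (r : F) ≠ 0 := by
    intro h0
    rw [CharP.cast_eq_zero_iff F p] at h0
    exact hrp ((Nat.prime_dvd_prime_iff_eq hp hr).1 h0).symm
  have hkill := aeval_toLin'_X_pow_sub_C n r z A hAr
  have ha : Module.End.IsSemisimple (Matrix.toLin' A : Module.End F (Fin n → F)) := by
    apply Module.End.isSemisimple_of_squarefree_aeval_eq_zero _ hkill
    exact (separable_X_pow_sub_C z hrF hz0).squarefree
  have hfr : finrank F (Fin n → F) = n := by simp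
  have hW : ∃ W : Submodule F (Fin n → F), Inv (Matrix.toLin' A) W ∧
      UNDOn (hermB n σ hσq) W ∧ finrank F W = m := by
    by_cases hroot : ∃ w : F, w ^ r = z
    · obtain ⟨w, hw⟩ := hroot
      have hcard : r ∣ Nat.card Fˣ := by
        rw [Nat.card_units, Nat.card_eq_fintype_card, hq, sq_sub_one_eq q hq1]
        exact Dvd.dvd.mul_left hrq1 _
      obtain ⟨g, hg⟩ := IsCyclic.exists_ofOrder_eq_natCard (α := Fˣ)
      obtain ⟨c, hc⟩ := hcard
      have hc0 : c ≠ 0 := by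
        rintro rfl
        rw [mul_zero] at hc
        exact Nat.card_pos.ne' hc
      obtain ⟨ζu, hζudef⟩ : ∃ ζu : Fˣ, ζu = g ^ c := ⟨_, rfl⟩
      have hζu : orderOf ζu = r := by
        rw [hζudef, orderOf_pow' g hc0, hg, hc, Nat.gcd_mul_left_left,
          Nat.mul_div_cancel _ (Nat.pos_of_ne_zero hc0)]
      have hζ : IsPrimitiveRoot (ζu : F) r := by
        have := IsPrimitiveRoot.orderOf ζu
        rw [hζu] at this
        exact IsPrimitiveRoot.coe_units_iff.2 this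
      have hprod := X_pow_sub_C_eq_prod hζ hr.pos hw
      apply caseI hσ.ne_id h hB ha (fun i => (ζu : F) ^ i * w) r
        (by rw [← hprod]; exact hkill) ?_ m (by rw [hfr]; omega)
      intro i hi
      have hl : ((ζu : F) ^ i * w) ^ r = z := by
        rw [mul_pow, ← pow_mul, mul_comm i r, pow_mul, hζ.pow_eq_one, one_pow, one_mul, hw]
      have hl1 : ((ζu : F) ^ i * w) ^ (q + 1) = 1 := hU3 _ z hl hz1
      have hlσ : σ ((ζu : F) ^ i * w) = ((ζu : F) ^ i * w)⁻¹ := by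
        apply eq_inv_of_mul_eq_one_right
        rw [hσq, ← pow_succ']
        exact hl1
      have hlN : ((ζu : F) ^ i * w) ^ N = 1 := by
        rw [hNdef, pow_mul, hl, pow_orderOf_eq_one]
      have := dvd_pstar_X_pow_sub_C (σ := σ) hN 1 ((ζu : F) ^ i * w) hlσ hlN
      rwa [pow_one] at this
    · push Not at hroot
      have hirr : Irreducible (X ^ r - C z : F[X]) := X_pow_sub_C_irreducible_of_prime hr hroot
      have hdual := dvd_pstar_X_pow_sub_C (σ := σ) hN r z hσz hzN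
      rcases hcond with hrm | hval
      · obtain ⟨j, hj⟩ := hrm
        have := caseII hσ.ne_id h hB ha r z hkill hirr hdual j
          (by rw [hfr, mul_comm, ← hj]; omega)
        rwa [mul_comm j r, ← hj] at this
      · exfalso
        obtain ⟨hrn, hdet⟩ := U2b n r (hr.odd_of_ne_two (by omega)) z hirr A hAr
        have hdet1 : A.det = 1 := by rw [hA]; exact x.2
        rw [hdet1] at hdet
        have hdiv := hU4 z hz1 hroot (n / r) hdet.symm
        have hdvd : r ^ (padicValNat r (q + 1) + 1) ∣ n := by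
          obtain ⟨k, hk⟩ := hrn
          rw [hk, Nat.mul_div_cancel_left k hr.pos] at hdiv
          rw [hk, pow_succ']
          exact Nat.mul_dvd_mul_left r hdiv
        haveI := Fact.mk hr
        have := (padicValNat_dvd_iff_le (by omega : n ≠ 0)).1 hdvd
        omega
  obtain ⟨W, hWinv, hWnd, hWfr⟩ := hW
  refine ⟨W, hWfr, ?_, ?_⟩
  · intro u hu hu0
    by_contra hcon
    push Not at hcon
    exact hu0 (hWnd u hu (fun v hv => by rw [hermB_apply]; exact hcon v hv))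
  · rw [← hA]
    rintro _ ⟨u, hu, rfl⟩
    exact hWinv u hu

theorem mp_main {q : ℕ} (hq : Fintype.card F = q ^ 2)
    (n m : ℕ) (hn : 3 ≤ n) (r : ℕ) (hr : r.Prime) (hr2 : 2 < r)
    (hi : orderOf (q : ZMod r) = 2)
    (hnot : ¬ (r ∣ m ∨ padicValNat r n ≤ padicValNat r (q + 1))) :
    ∃ x : Matrix.SpecialLinearGroup (Fin n) F, x ∈ Cfsg.SU n F q ∧
      (∃ z : F, ((x ^ r : Matrix.SpecialLinearGroup (Fin n) F) : Matrix (Fin n) (Fin n) F) =
        z • (1 : Matrix (Fin n) (Fin n) F)) ∧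
      (∀ z : F, (x : Matrix (Fin n) (Fin n) F) ≠ z • (1 : Matrix (Fin n) (Fin n) F)) ∧
      ∀ W : Submodule F (Fin n → F),
        W.map (Matrix.toLin' (x : Matrix (Fin n) (Fin n) F)) ≤ W → r ∣ finrank F W := by
  classical
  push Not at hnot
  obtain ⟨hrm, hval⟩ := hnot
  obtain ⟨-, -, -, -, z, hz1, hzroot, hzpow⟩ := U1 hq r hr hr2 hi
  haveI := Fact.mk hr
  have hdvd : r ^ (padicValNat r (q + 1) + 1) ∣ n :=
    (pow_dvd_pow r (by omega)).trans pow_padicValNat_dvd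
  obtain ⟨t, ht⟩ := hdvd
  obtain ⟨k, hk⟩ : ∃ k, k = r ^ padicValNat r (q + 1) * t := ⟨_, rfl⟩
  have hnk : n = r * k := by rw [ht, hk, pow_succ']; ring
  have hzk : z ^ k = 1 := by rw [hk, pow_mul, hzpow, one_pow]
  have hirr : Irreducible (X ^ r - C z : F[X]) := X_pow_sub_C_irreducible_of_prime hr hzroot
  obtain ⟨x, hxSU, hxz⟩ := U3 hq n r k (hr.odd_of_ne_two (by omega)) hnk z hz1 hzk hirr
  have hAr : (x : Matrix (Fin n) (Fin n) F) ^ r = z • (1 : Matrix (Fin n) (Fin n) F) := by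
    rw [← hxz]; simp
  refine ⟨x, hxSU, ⟨z, hxz⟩, ?_, ?_⟩
  · intro c hc
    apply hzroot c
    rw [hc, _root_.smul_pow, one_pow] at hAr
    have := congrFun (congrFun hAr ⟨0, by omega⟩) ⟨0, by omega⟩
    simpa using this
  · intro W hW
    have hkill := aeval_toLin'_X_pow_sub_C n r z _ hAr
    have := U2a (Matrix.toLin' (x : Matrix (Fin n) (Fin n) F)) _ hirr hkill W
      (fun u hu => hW ⟨u, hu, rfl⟩)
    rwa [natDegree_X_pow_sub_C] at this

end concrete

/-- UD1: case `r ≠ p` odd, `ord_r(q) = 2` (that is, `r ∣ q + 1`). -/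
theorem UD1 {F : Type*} [Field F] [Fintype F] {p : ℕ} [Fact p.Prime] [CharP F p] {q : ℕ} (hq : Fintype.card F = q ^ 2)
    (n m : ℕ) (hn : 3 ≤ n) (hm : 1 ≤ m) (hmn : 2 * m < n)
    (r : ℕ) (hr : r.Prime) (hrp : r ≠ p) (hr2 : 2 < r) (hi : orderOf (q : ZMod r) = 2) :
    (∀ x : Matrix.SpecialLinearGroup (Fin n) F, x ∈ Cfsg.SU n F q →
      (∃ z : F, ((x ^ r : Matrix.SpecialLinearGroup (Fin n) F) : Matrix (Fin n) (Fin n) F) = z • (1 : Matrix (Fin n) (Fin n) F)) →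
      (∀ z : F, (x : Matrix (Fin n) (Fin n) F) ≠ z • (1 : Matrix (Fin n) (Fin n) F)) →
      ∃ W : Submodule F (Fin n → F), Module.finrank F ↥W = m ∧ (∀ u ∈ W, u ≠ 0 → ∃ v ∈ W, Cfsg.hermForm n F q u v ≠ 0) ∧
        W.map (Matrix.toLin' (x : Matrix (Fin n) (Fin n) F)) ≤ W) ↔
    (r ∣ m ∨ padicValNat r n ≤ padicValNat r (q + 1)) := by
  constructor
  · intro H
    by_contra hnot
    obtain ⟨x, hxSU, hxz, hxns, hxW⟩ := mp_main hq n m hn r hr hr2 hi hnot
    obtain ⟨W, hWfr, -, hWinv⟩ := H x hxSU hxz hxns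
    have := hxW W hWinv
    rw [hWfr] at this
    exact hnot (Or.inl this)
  · intro hcond x hx hxz _
    obtain ⟨z, hz⟩ := hxz
    exact mpr_main hq n m hn hmn r hr hrp hr2 hi hcond x hx z hz

end Cfsg.Agent.Lib.Helper58_SUND_UD1
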