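import Mathlib
import Cfsg.Prelude.Def_Classical
import Cfsg.Agent.Lib.Helper58_SUND_UD1
import Cfsg.Agent.Lib.Helper32_SUTI_TB3a

/-!
# S5953, package TB3 (helper32 for helper99): `r` odd, `r ≠ p`, `r ∣ q + 1`,
totally isotropic invariant subspaces
-/

set_option autoImplicit false
set_option linter.unusedVariables false
set_option linter.unusedSectionVars false
open scoped MatrixGroups

namespace Cfsg.Agent.Lib.Helper32_SUTI_TB3

open Polynomial Module Matrix Cfsg.Agent.Lib.Helper40_Semisimple Cfsg.Agent.Lib.Helper40_SpBasic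
  Cfsg.Agent.Lib.Helper40_UBasic Cfsg.Agent.Lib.Helper40_UMatch
  Cfsg.Agent.Lib.Helper94_Herm Cfsg.Agent.Lib.Helper94_HermBridge Cfsg.Agent.Lib.Helper40_UMatrix
  Cfsg.Agent.Lib.Helper58_UD1_Abs Cfsg.Agent.Lib.Helper67_UD1_U1 Cfsg.Agent.Lib.Helper67_UD1_U2
  Cfsg.Agent.Lib.Helper63_UD1_U3 Cfsg.Agent.Lib.Helper58_SUND_UD1
  Cfsg.Agent.Lib.Helper32_SUTI_TB3a

section exps

/-- exponents of the diagonal element: `k + 1` and `r - (k + 1)` at the positions `2 k`, `2 k + 1`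
below `P`, and `0` from `P` on -/
def ex (r P i : ℕ) : ℕ := if i < P then (if i % 2 = 0 then i / 2 + 1 else r - (i / 2 + 1)) else 0

theorem ex_lt (r P i : ℕ) (hP : P + 1 ≤ r) : ex r P i < r := by
  unfold ex
  split_ifs <;> omega

theorem ex_inj (r P i j : ℕ) (hr : r % 2 = 1) (hP : P + 1 ≤ r) (hi : i < P)
    (h : ex r P i = ex r P j) : i = j := by
  unfold ex at h
  split_ifs at h <;> omega

theorem sum_ex_aux (r c : ℕ) (hc : 2 * c + 1 ≤ r) :
    ∀ c' ≤ c, ∑ i ∈ Finset.range (2 * c'), ex r (2 * c) i = c' * r := by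
  intro c'
  induction c' with
  | zero => intro _; simp
  | succ c' ih =>
    intro hc'
    have e1 : 2 * (c' + 1) = 2 * c' + 1 + 1 := by ring
    rw [e1, Finset.sum_range_succ, Finset.sum_range_succ, ih (by omega)]
    have h1 : ex r (2 * c) (2 * c') = c' + 1 := by
      unfold ex
      rw [if_pos (by omega), if_pos (by omega)]
      omega
    have h2 : ex r (2 * c) (2 * c' + 1) = r - (c' + 1) := by
      unfold ex
      rw [if_pos (by omega), if_neg (by omega)]
      congr 1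
      omega
    rw [h1, h2, Nat.succ_mul]
    omega

theorem sum_ex (r c n : ℕ) (hc : 2 * c + 1 ≤ r) (hn : 2 * c ≤ n) :
    ∑ i ∈ Finset.range n, ex r (2 * c) i = c * r := by
  rw [← Finset.sum_range_add_sum_Ico _ hn, sum_ex_aux r c hc c le_rfl]
  have : ∑ i ∈ Finset.Ico (2 * c) n, ex r (2 * c) i = 0 := by
    apply Finset.sum_eq_zero
    intro i hi
    rw [Finset.mem_Ico] at hi
    unfold ex
    rw [if_neg (by omega)]
  rw [this, add_zero]

end exps


section mat

variable {F : Type*} [Field F] {n : ℕ}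

/-- the diagonal vector -/
def dv (ζ : F) (r P : ℕ) (i : Fin n) : F := ζ ^ ex r P i.val

theorem dv_herm {q : ℕ} (ζ : F) (hζq : ζ ^ (q + 1) = 1) (r P : ℕ) (u v : Fin n → F) :
    Cfsg.hermForm n F q (Matrix.diagonal (dv ζ r P) *ᵥ u) (Matrix.diagonal (dv ζ r P) *ᵥ v)
      = Cfsg.hermForm n F q u v := by
  simp only [Cfsg.hermForm, Matrix.mulVec_diagonal]
  refine Finset.sum_congr rfl (fun j _ => ?_)
  rw [mul_pow]
  have h1 : dv ζ r P j ^ (q + 1) = 1 := by
    unfold dv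
    rw [← pow_mul, mul_comm, pow_mul, hζq, one_pow]
  calc dv ζ r P j * u j * (dv ζ r P j ^ q * v j ^ q)
      = dv ζ r P j ^ (q + 1) * (u j * v j ^ q) := by ring
    _ = _ := by rw [h1, one_mul]

theorem dv_pow (ζ : F) (r P : ℕ) (hζr : ζ ^ r = 1) :
    (Matrix.diagonal (dv ζ r P) : Matrix (Fin n) (Fin n) F) ^ r = (1 : F) • 1 := by
  rw [Matrix.diagonal_pow, one_smul]
  have : (dv ζ r P : Fin n → F) ^ r = 1 := by
    funext i
    rw [Pi.pow_apply, Pi.one_apply]
    unfold dv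
    rw [← pow_mul, mul_comm, pow_mul, hζr, one_pow]
  rw [this]
  exact Matrix.diagonal_one

theorem dv_det (ζ : F) (r : ℕ) (hζr : ζ ^ r = 1) (c : ℕ) (hc : 2 * c + 1 ≤ r) (hn : 2 * c ≤ n) :
    (Matrix.diagonal (dv ζ r (2 * c)) : Matrix (Fin n) (Fin n) F).det = 1 := by
  rw [Matrix.det_diagonal]
  unfold dv
  rw [Fin.prod_univ_eq_prod_range (fun i => ζ ^ ex r (2 * c) i) n, Finset.prod_pow_eq_pow_sum,
    sum_ex r c n hc hn, mul_comm, pow_mul, hζr, one_pow]

theorem dv_simple {ζ : F} {r P : ℕ} (hζ : IsPrimitiveRoot ζ r) (hr : r % 2 = 1) (hPr : P + 1 ≤ r)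
    (i j : Fin n) (hi : i.val < P) (hij : dv ζ r P i = dv ζ r P j) : i = j := by
  unfold dv at hij
  have h1 := hζ.pow_inj (ex_lt r P i.val hPr) (ex_lt r P j.val hPr) hij
  exact Fin.ext (ex_inj r P i.val j.val hr hPr hi h1)

theorem dv_ne_smul {ζ : F} {r P : ℕ} (hζ : IsPrimitiveRoot ζ r) (hr : r % 2 = 1) (hPr : P + 1 ≤ r)
    (hP : 2 ≤ P) (hn : 2 ≤ n) (s : F) :
    (Matrix.diagonal (dv ζ r P) : Matrix (Fin n) (Fin n) F) ≠ s • 1 := by
  intro h
  have h0 := congrFun (congrFun h ⟨0, by omega⟩) ⟨0, by omega⟩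
  have h1 := congrFun (congrFun h ⟨1, by omega⟩) ⟨1, by omega⟩
  simp only [Matrix.diagonal_apply_eq, Matrix.smul_apply, Matrix.one_apply_eq, smul_eq_mul,
    mul_one] at h0 h1
  have h2 := dv_simple hζ hr hPr (⟨0, by omega⟩ : Fin n) ⟨1, by omega⟩ (by simp; omega)
    (by rw [h0, h1])
  have := congrArg Fin.val h2
  simp at this

theorem aeval_diag [DecidableEq (Fin n)] (d : Fin n → F) (g : F[X]) (w : Fin n → F) (i : Fin n) :
    (aeval (Matrix.toLin' (Matrix.diagonal d)) g w) i = g.eval (d i) * w i := by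
  induction g using Polynomial.induction_on' with
  | add p q hp hq =>
    rw [map_add, LinearMap.add_apply, Pi.add_apply, hp, hq, eval_add]
    ring
  | monomial k c =>
    rw [← C_mul_X_pow_eq_monomial, map_mul, aeval_C, map_pow, aeval_X, Module.End.mul_apply,
      Module.algebraMap_end_apply, Pi.smul_apply, ← Matrix.toLin'_pow, Matrix.diagonal_pow,
      Matrix.toLin'_apply, Matrix.mulVec_diagonal, Pi.pow_apply, eval_mul, eval_C, eval_pow,
      eval_X, smul_eq_mul]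
    ring

end mat


section concrete

variable {F : Type*} [Field F] [Fintype F]

theorem q_pos {q : ℕ} (hq : Fintype.card F = q ^ 2) : 1 ≤ q := by
  rcases Nat.eq_zero_or_pos q with h0 | h0
  · rw [h0] at hq
    have := Fintype.card_pos (α := F)
    simp at hq
  · exact h0

theorem exists_prim_root {q : ℕ} (hq : Fintype.card F = q ^ 2) (r : ℕ) (hr : r.Prime)
    (hrq1 : r ∣ q + 1) : ∃ ζ : F, IsPrimitiveRoot ζ r ∧ ζ ^ (q + 1) = 1 := by
  classical
  have hq1 := q_pos hq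
  have hcard : r ∣ Nat.card Fˣ := by
    rw [Nat.card_units, Nat.card_eq_fintype_card, hq, sq_sub_one_eq q hq1]
    exact Dvd.dvd.mul_left hrq1 _
  obtain ⟨g, hg⟩ := IsCyclic.exists_ofOrder_eq_natCard (α := Fˣ)
  obtain ⟨c, hc⟩ := hcard
  have hc0 : c ≠ 0 := by
    rintro rfl
    rw [mul_zero] at hc
    exact Nat.card_pos.ne' hc
  obtain ⟨ζu, hζudef⟩ : ∃ ζu : Fˣ, ζu = g ^ c := ⟨_, rfl⟩
  have hζu : orderOf ζu = r := by
    rw [hζudef, orderOf_pow' g hc0, hg, hc, Nat.gcd_mul_left_left,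
      Nat.mul_div_cancel _ (Nat.pos_of_ne_zero hc0)]
  have hζ : IsPrimitiveRoot (ζu : F) r := by
    have := IsPrimitiveRoot.orderOf ζu
    rw [hζu] at this
    exact IsPrimitiveRoot.coe_units_iff.2 this
  refine ⟨(ζu : F), hζ, ?_⟩
  obtain ⟨k, hk⟩ := hrq1
  rw [hk, pow_mul, hζ.pow_eq_one, one_pow]

theorem herm_single {q : ℕ} (hq0 : q ≠ 0) {n : ℕ} (w : Fin n → F) (j : Fin n) :
    Cfsg.hermForm n F q w (Pi.single j (1 : F)) = w j := by
  simp only [Cfsg.hermForm]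
  rw [Finset.sum_eq_single j]
  · rw [Pi.single_eq_same, one_pow, mul_one]
  · intro i _ hi
    rw [Pi.single_eq_of_ne hi, zero_pow hq0, mul_zero]
  · intro h
    exact absurd (Finset.mem_univ _) h

theorem mp_a {q : ℕ} (hq : Fintype.card F = q ^ 2) (n m : ℕ) (hn : 3 ≤ n) (hm : 1 ≤ m)
    (r : ℕ) (hr : r.Prime) (hr2 : 2 < r) (hi : orderOf (q : ZMod r) = 2)
    (hnot : ¬ ((r - 1) + 2 * m ≤ n)) :
    ∃ x : Matrix.SpecialLinearGroup (Fin n) F, x ∈ Cfsg.SU n F q ∧
      (∃ z : F, ((x ^ r : Matrix.SpecialLinearGroup (Fin n) F) : Matrix (Fin n) (Fin n) F) =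
        z • (1 : Matrix (Fin n) (Fin n) F)) ∧
      (∀ z : F, (x : Matrix (Fin n) (Fin n) F) ≠ z • (1 : Matrix (Fin n) (Fin n) F)) ∧
      ∀ W : Submodule F (Fin n → F), (∀ u ∈ W, ∀ v ∈ W, Cfsg.hermForm n F q u v = 0) →
        W.map (Matrix.toLin' (x : Matrix (Fin n) (Fin n) F)) ≤ W → finrank F W < m := by
  classical
  obtain ⟨σ, hσq, hσ⟩ := exists_frob hq
  obtain ⟨hrq1, -⟩ := U1 hq r hr hr2 hi
  obtain ⟨ζ, hζ, hζq⟩ := exists_prim_root hq r hr hrq1
  have hq1 := q_pos hq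
  have hq0 : q ≠ 0 := by omega
  have hrodd : r % 2 = 1 := by
    rcases hr.eq_two_or_odd with h | h
    · omega
    · exact h
  obtain ⟨c, hcdef⟩ : ∃ c : ℕ, c = min (n / 2) ((r - 1) / 2) := ⟨_, rfl⟩
  have hc1 : 2 * c + 1 ≤ r := by omega
  have hcn : 2 * c ≤ n := by omega
  have hc2 : 2 ≤ 2 * c := by omega
  have hdet := dv_det (n := n) ζ r hζ.pow_eq_one c hc1 hcn
  obtain ⟨A, hAdef⟩ : ∃ A : Matrix (Fin n) (Fin n) F, A = Matrix.diagonal (dv ζ r (2 * c)) :=
    ⟨_, rfl⟩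
  rw [← hAdef] at hdet
  obtain ⟨x, hxdef⟩ : ∃ x : Matrix.SpecialLinearGroup (Fin n) F,
      (x : Matrix (Fin n) (Fin n) F) = A := ⟨⟨_, hdet⟩, rfl⟩
  have hpres : ∀ u v, Cfsg.hermForm n F q (A *ᵥ u) (A *ᵥ v) = Cfsg.hermForm n F q u v := by
    intro u v
    rw [hAdef]
    exact dv_herm ζ hζq r (2 * c) u v
  have hxSU : x ∈ Cfsg.SU n F q := by
    intro u v
    show Cfsg.hermForm n F q ((x : Matrix (Fin n) (Fin n) F) *ᵥ u)
      ((x : Matrix (Fin n) (Fin n) F) *ᵥ v) = Cfsg.hermForm n F q u v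
    rw [hxdef]
    exact hpres u v
  have hAr : A ^ r = (1 : F) • 1 := by
    rw [hAdef]
    exact dv_pow ζ r (2 * c) hζ.pow_eq_one
  refine ⟨x, hxSU, ⟨1, ?_⟩, ?_, ?_⟩
  · rw [Matrix.SpecialLinearGroup.coe_pow, hxdef]
    exact hAr
  · intro s
    rw [hxdef, hAdef]
    exact dv_ne_smul hζ hrodd hc1 hc2 (by omega) s
  intro W hWti hWinv
  rw [hxdef] at hWinv
  have hAr1 : A ^ r = 1 := by rw [hAr, one_smul]
  have h : UData (hermB n σ hσq) (Matrix.toLin' A) r :=
    uData_of_mem σ hσq hσ A hpres r hr.pos hAr1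
  have hB := und_hermB (n := n) σ hσq
  have hInv : Inv (Matrix.toLin' A) W := fun u hu => hWinv ⟨u, hu, rfl⟩
  have hW0 : ∀ w ∈ W, ∀ j : Fin n, j.val < 2 * c → w j = 0 := by
    intro w hw j hj
    obtain ⟨g, hgdef⟩ : ∃ g : F[X],
        g = ∏ k ∈ Finset.univ.erase j, (X - C (dv ζ r (2 * c) k)) := ⟨_, rfl⟩
    have hgW : aeval (Matrix.toLin' A) g w ∈ W := hInv.aeval_mem g hw
    have hco : ∀ i, (aeval (Matrix.toLin' A) g w) i = g.eval (dv ζ r (2 * c) i) * w i := by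
      intro i
      rw [hAdef]
      exact aeval_diag _ g w i
    have hgi : ∀ i, i ≠ j → g.eval (dv ζ r (2 * c) i) = 0 := by
      intro i hij
      rw [hgdef, eval_prod]
      apply Finset.prod_eq_zero (Finset.mem_erase.2 ⟨hij, Finset.mem_univ i⟩)
      rw [eval_sub, eval_X, eval_C, sub_self]
    have hgj : g.eval (dv ζ r (2 * c) j) ≠ 0 := by
      rw [hgdef, eval_prod, Finset.prod_ne_zero_iff]
      intro k hk
      rw [eval_sub, eval_X, eval_C, sub_ne_zero]
      intro heq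
      exact (Finset.mem_erase.1 hk).1 (dv_simple hζ hrodd hc1 j k hj heq).symm
    have h3 := hWti _ hgW _ hgW
    simp only [Cfsg.hermForm] at h3
    rw [Finset.sum_eq_single j] at h3
    · rw [hco, ← pow_succ'] at h3
      have h4 := pow_eq_zero_iff (by omega : q + 1 ≠ 0) |>.1 h3
      exact (mul_eq_zero.1 h4).resolve_left hgj
    · intro i _ hij
      rw [hco, hgi i hij, zero_mul, zero_mul]
    · intro h
      exact absurd (Finset.mem_univ _) h
  obtain ⟨b, hbdef⟩ : ∃ b : Fin (2 * c) → (Fin n → F),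
      b = fun j => Pi.single (Fin.castLE hcn j) (1 : F) := ⟨_, rfl⟩
  have hbli : LinearIndependent F b := by
    rw [hbdef]
    exact (Pi.linearIndependent_single_one (Fin n) F).comp _ (Fin.castLE_injective hcn)
  obtain ⟨S, hSdef⟩ : ∃ S : Submodule F (Fin n → F), S = Submodule.span F (Set.range b) :=
    ⟨_, rfl⟩
  have hSd : finrank F S = 2 * c := by
    rw [hSdef, finrank_span_eq_card hbli, Fintype.card_fin]
  have hbS : ∀ i : Fin n, i.val < 2 * c → Pi.single i (1 : F) ∈ S := by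
    intro i hi
    rw [hSdef]
    apply Submodule.subset_span
    refine ⟨⟨i.val, hi⟩, ?_⟩
    rw [hbdef]
    rfl
  have hScoord : ∀ s ∈ S, ∀ i : Fin n, 2 * c ≤ i.val → s i = 0 := by
    intro s hs i hi
    rw [hSdef] at hs
    induction hs using Submodule.span_induction with
    | mem y hy =>
      obtain ⟨j, rfl⟩ := hy
      rw [hbdef]
      apply Pi.single_eq_of_ne
      intro heq
      have := congrArg Fin.val heq
      simp at this
      omega
    | zero => rfl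
    | add y y' _ _ hy hy' => rw [Pi.add_apply, hy, hy', add_zero]
    | smul t y _ hy => rw [Pi.smul_apply, hy, smul_zero]
  have hWS : ∀ w ∈ W, ∀ s ∈ S, hermB n σ hσq w s = 0 := by
    have hle : S ≤ orth (hermB n σ hσq) W := by
      rw [hSdef, Submodule.span_le]
      rintro _ ⟨j, rfl⟩
      show b j ∈ orth (hermB n σ hσq) W
      rw [mem_orth]
      intro w hw
      rw [hbdef, hermB_apply, herm_single hq0]
      exact hW0 w hw _ (by simp)
    intro w hw s hs
    exact mem_orth.1 (hle hs) w hw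
  have hSnd : UNDOn (hermB n σ hσq) S := by
    intro y hy hyy
    funext i
    by_cases hi : i.val < 2 * c
    · have := hyy _ (hbS i hi)
      rw [hermB_apply, herm_single hq0] at this
      exact this
    · exact hScoord y hy i (by omega)
  have hWti' : UIsoOn (hermB n σ hσq) W := fun u hu v hv => hWti u hu v hv
  have hbound := ti_bound h hB hWti' hSnd hWS
  have hfr : finrank F (Fin n → F) = n := Module.finrank_fin_fun F
  rw [hfr, hSd] at hbound
  omega


theorem mpr_main {p : ℕ} [Fact p.Prime] [CharP F p] {q : ℕ} (hq : Fintype.card F = q ^ 2)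
    (n m : ℕ) (hn : 3 ≤ n) (hmn : 2 * m ≤ n) (r : ℕ) (hr : r.Prime) (hrp : r ≠ p) (hr2 : 2 < r)
    (hi : orderOf (q : ZMod r) = 2)
    (hcond1 : (r - 1) + 2 * m ≤ n)
    (hcond : r ∣ m ∨ padicValNat r n ≤ padicValNat r (q + 1))
    (x : Matrix.SpecialLinearGroup (Fin n) F) (hx : x ∈ Cfsg.SU n F q) (z : F)
    (hxz : ((x ^ r : Matrix.SpecialLinearGroup (Fin n) F) : Matrix (Fin n) (Fin n) F) =
      z • (1 : Matrix (Fin n) (Fin n) F)) :
    ∃ W : Submodule F (Fin n → F), Module.finrank F ↥W = m ∧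
      (∀ u ∈ W, ∀ v ∈ W, Cfsg.hermForm n F q u v = 0) ∧
      W.map (Matrix.toLin' (x : Matrix (Fin n) (Fin n) F)) ≤ W := by
  classical
  obtain ⟨σ, hσq, hσ⟩ := exists_frob hq
  obtain ⟨hrq1, hrq2, hU3, hU4, -⟩ := U1 hq r hr hr2 hi
  have hq1 := q_pos hq
  obtain ⟨A, hA⟩ : ∃ A : Matrix (Fin n) (Fin n) F, A = (x : Matrix (Fin n) (Fin n) F) := ⟨_, rfl⟩
  have hpres : ∀ u v, Cfsg.hermForm n F q (A *ᵥ u) (A *ᵥ v) = Cfsg.hermForm n F q u v := by
    rw [hA]; exact hx
  have hAr : A ^ r = z • (1 : Matrix (Fin n) (Fin n) F) := by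
    rw [hA, ← hxz]; simp
  have hxr : x ^ r ∈ Cfsg.SU n F q := Subgroup.pow_mem _ hx r
  have hpresr : ∀ u v, Cfsg.hermForm n F q ((z • (1 : Matrix (Fin n) (Fin n) F)) *ᵥ u)
      ((z • (1 : Matrix (Fin n) (Fin n) F)) *ᵥ v) = Cfsg.hermForm n F q u v := by
    rw [← hxz]; exact hxr
  have hzσ : z * σ z = 1 := scalar_norm_one σ hσq n (by omega) z hpresr
  have hz1 : z ^ (q + 1) = 1 := by
    rw [pow_succ', ← hσq]; exact hzσ
  have hz0 : z ≠ 0 := by
    intro h0
    rw [h0, zero_mul] at hzσ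
    exact zero_ne_one hzσ
  have hσz : σ z = z⁻¹ := eq_inv_of_mul_eq_one_right hzσ
  have hoz : 0 < orderOf z :=
    orderOf_pos_iff.2 (isOfFinOrder_iff_pow_eq_one.2 ⟨q + 1, Nat.succ_pos q, hz1⟩)
  obtain ⟨N, hNdef⟩ : ∃ N : ℕ, N = r * orderOf z := ⟨_, rfl⟩
  have hN : 0 < N := by rw [hNdef]; exact Nat.mul_pos hr.pos hoz
  have hzN : z ^ N = 1 := by
    rw [hNdef, mul_comm, pow_mul, pow_orderOf_eq_one, one_pow]
  have hAN : A ^ N = 1 := by
    rw [hNdef, pow_mul, hAr, _root_.smul_pow, one_pow, pow_orderOf_eq_one, one_smul]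
  have h : UData (hermB n σ hσq) (Matrix.toLin' A) N := uData_of_mem σ hσq hσ A hpres N hN hAN
  have hB := und_hermB (n := n) σ hσq
  have hp : p.Prime := Fact.out
  have hrF : (r : F) ≠ 0 := by
    intro h0
    rw [CharP.cast_eq_zero_iff F p] at h0
    exact hrp ((Nat.prime_dvd_prime_iff_eq hp hr).1 h0).symm
  have hkill := aeval_toLin'_X_pow_sub_C n r z A hAr
  have ha : Module.End.IsSemisimple (Matrix.toLin' A : Module.End F (Fin n → F)) := by
    apply Module.End.isSemisimple_of_squarefree_aeval_eq_zero _ hkill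
    exact (separable_X_pow_sub_C z hrF hz0).squarefree
  have hfr : finrank F (Fin n → F) = n := by simp
  have hW : ∃ W : Submodule F (Fin n → F), Inv (Matrix.toLin' A) W ∧
      UIsoOn (hermB n σ hσq) W ∧ finrank F W = m := by
    by_cases hroot : ∃ w : F, w ^ r = z
    · obtain ⟨w, hw⟩ := hroot
      obtain ⟨ζ, hζ, hζq⟩ := exists_prim_root hq r hr hrq1
      have hw0 : w ≠ 0 := by
        rintro rfl
        rw [zero_pow hr.ne_zero] at hw
        exact hz0 hw.symm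
      have hprod := X_pow_sub_C_eq_prod hζ hr.pos hw
      apply lemmaG hσ (fun i => ζ ^ i * w) r (Fin n → F) (hermB n σ hσq) (Matrix.toLin' A) N h hB
        ?_ ?_ (by rw [← hprod]; exact hkill) m (Or.inr (by rw [hfr]; omega))
      · intro i hi
        have hl : (ζ ^ i * w) ^ r = z := by
          rw [mul_pow, ← pow_mul, mul_comm i r, pow_mul, hζ.pow_eq_one, one_pow, one_mul, hw]
        have hl1 : (ζ ^ i * w) ^ (q + 1) = 1 := hU3 _ z hl hz1
        show ζ ^ i * w * σ (ζ ^ i * w) = 1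
        rw [hσq, ← pow_succ']
        exact hl1
      · intro i hi j hj hij
        have : ζ ^ i = ζ ^ j := mul_right_cancel₀ hw0 hij
        exact hζ.pow_inj hi hj this
    · push Not at hroot
      have hirr : Irreducible (X ^ r - C z : F[X]) := X_pow_sub_C_irreducible_of_prime hr hroot
      have hdual := dvd_pstar_X_pow_sub_C (σ := σ) hN r z hσz hzN
      have hdeg : (X ^ r - C z : F[X]).natDegree = r := natDegree_X_pow_sub_C
      have hmon : (X ^ r - C z : F[X]).Monic := monic_X_pow_sub_C z hr.ne_zero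
      rcases hcond with hrm | hval
      · obtain ⟨j, hj⟩ := hrm
        obtain ⟨-, U, -, -, -, -, hUinv, hUti, hUd⟩ :=
          peel hσ.ne_id h hB ha (X ^ r - C z) hirr hmon hdual hkill j
            (by rw [hfr, hdeg, mul_comm j r, ← hj]; exact hmn)
        refine ⟨U, hUinv, hUti, ?_⟩
        rw [hUd, hdeg, mul_comm j r, ← hj]
      · exfalso
        obtain ⟨hrn, hdet⟩ := U2b n r (hr.odd_of_ne_two (by omega)) z hirr A hAr
        have hdet1 : A.det = 1 := by rw [hA]; exact x.2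
        rw [hdet1] at hdet
        have hdiv := hU4 z hz1 hroot (n / r) hdet.symm
        have hdvd : r ^ (padicValNat r (q + 1) + 1) ∣ n := by
          obtain ⟨k, hk⟩ := hrn
          rw [hk, Nat.mul_div_cancel_left k hr.pos] at hdiv
          rw [hk, pow_succ']
          exact Nat.mul_dvd_mul_left r hdiv
        have := Fact.mk hr
        have := (padicValNat_dvd_iff_le (by omega : n ≠ 0)).1 hdvd
        omega
  obtain ⟨W, hWinv, hWti, hWfr⟩ := hW
  refine ⟨W, hWfr, ?_, ?_⟩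
  · intro u hu v hv
    rw [← hermB_apply σ hσq]
    exact hWti u hu v hv
  · rw [← hA]
    rintro _ ⟨u, hu, rfl⟩
    exact hWinv u hu

end concrete

/-- TB3: case `r ≠ p` odd, `ord_r(q) = 2` (that is, `r ∣ q + 1`). -/
theorem TB3 {F : Type*} [Field F] [Fintype F] {p : ℕ} [Fact p.Prime] [CharP F p] {q : ℕ} (hq : Fintype.card F = q ^ 2)
    (n m : ℕ) (hn : 3 ≤ n) (hm : 1 ≤ m) (hmn : 2 * m ≤ n)
    (r : ℕ) (hr : r.Prime) (hrp : r ≠ p) (hr2 : 2 < r) (hi : orderOf (q : ZMod r) = 2) :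
    (∀ x : Matrix.SpecialLinearGroup (Fin n) F, x ∈ Cfsg.SU n F q →
      (∃ z : F, ((x ^ r : Matrix.SpecialLinearGroup (Fin n) F) : Matrix (Fin n) (Fin n) F) = z • (1 : Matrix (Fin n) (Fin n) F)) →
      (∀ z : F, (x : Matrix (Fin n) (Fin n) F) ≠ z • (1 : Matrix (Fin n) (Fin n) F)) →
      ∃ W : Submodule F (Fin n → F), Module.finrank F ↥W = m ∧ (∀ u ∈ W, ∀ v ∈ W, Cfsg.hermForm n F q u v = 0) ∧
        W.map (Matrix.toLin' (x : Matrix (Fin n) (Fin n) F)) ≤ W) ↔
    ((r - 1) + 2 * m ≤ n ∧ (r ∣ m ∨ padicValNat r n ≤ padicValNat r (q + 1))) := by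
  constructor
  · intro H
    refine ⟨?_, ?_⟩
    · by_contra hnot
      obtain ⟨x, hxSU, hxz, hxns, hxW⟩ := mp_a hq n m hn hm r hr hr2 hi hnot
      obtain ⟨W, hWfr, hWti, hWinv⟩ := H x hxSU hxz hxns
      have := hxW W hWti hWinv
      omega
    · by_contra hnot
      obtain ⟨x, hxSU, hxz, hxns, hxW⟩ := mp_main hq n m hn r hr hr2 hi hnot
      obtain ⟨W, hWfr, -, hWinv⟩ := H x hxSU hxz hxns
      have := hxW W hWinv
      rw [hWfr] at this
      exact hnot (Or.inl this)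
  · rintro ⟨hcond1, hcond⟩ x hx hxz _
    obtain ⟨z, hz⟩ := hxz
    exact mpr_main hq n m hn hmn r hr hrp hr2 hi hcond1 hcond x hx z hz

end Cfsg.Agent.Lib.Helper32_SUTI_TB3
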