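import Mathlib

/-!
Eigenvectors for operators of order dividing `p - 1` on elementary abelian `p`-groups (helper9).
-/

set_option autoImplicit false

namespace Cfsg.Agent.Lib.Helper9_Eigen

open Polynomial

/-- A linear operator `f` on a nontrivial finite-dimensional `ZMod p`-vector space with
`f ^ (p - 1) = 1` has an eigenvector. -/
theorem exists_eigenvector_of_pow_eq_one (p : ℕ) [hp : Fact p.Prime] {V : Type*} [AddCommGroup V]
    [Module (ZMod p) V] [FiniteDimensional (ZMod p) V] [Nontrivial V]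
    (f : Module.End (ZMod p) V) (hf : f ^ (p - 1) = 1) :
    ∃ (μ : ZMod p) (v : V), v ≠ 0 ∧ f v = μ • v := by
  have hint : IsIntegral (ZMod p) f := Algebra.IsIntegral.isIntegral f
  have h0 : aeval f (X ^ (p - 1) - 1 : (ZMod p)[X]) = 0 := by
    simp [hf]
  have hdvd : minpoly (ZMod p) f ∣ (X ^ (p - 1) - 1 : (ZMod p)[X]) := minpoly.dvd _ f h0
  have hne : (X ^ (p - 1) - 1 : (ZMod p)[X]) ≠ 0 := by
    apply X_pow_sub_C_ne_zero
    have := hp.out.one_lt
    omega
  have hsplit0 : Splits (X ^ p - X : (ZMod p)[X]) := by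
    have := FiniteField.splits_X_pow_card_sub_X (p := p) (K := ZMod p)
    rw [ZMod.card, Algebra.algebraMap_self, Polynomial.map_id] at this
    exact this
  have hdvd2 : (X ^ (p - 1) - 1 : (ZMod p)[X]) ∣ (X ^ p - X : (ZMod p)[X]) := by
    refine ⟨X, ?_⟩
    have h1 : (X : (ZMod p)[X]) ^ p = X ^ (p - 1) * X := by
      rw [← pow_succ]
      congr 1
      have := hp.out.one_lt
      omega
    rw [h1]
    ring
  have hne2 : (X ^ p - X : (ZMod p)[X]) ≠ 0 := by
    have := FiniteField.X_pow_card_sub_X_ne_zero (ZMod p) (p := p) hp.out.one_lt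
    exact this
  have hsplit : Splits (minpoly (ZMod p) f) :=
    (hsplit0.of_dvd hne2 hdvd2).of_dvd hne hdvd
  have hdeg : degree (minpoly (ZMod p) f) ≠ 0 := (minpoly.degree_pos hint).ne'
  obtain ⟨μ, hμ⟩ := hsplit.exists_eval_eq_zero hdeg
  have hev : f.HasEigenvalue μ := Module.End.hasEigenvalue_of_isRoot hμ
  obtain ⟨v, hv⟩ := hev.exists_hasEigenvector
  exact ⟨μ, v, hv.2, hv.apply_eq_smul⟩

theorem exists_eigen_aux (p : ℕ) [hp : Fact p.Prime] {W : Type*} [CommGroup W] [Finite W]
    [Nontrivial W] [Module (ZMod p) (Additive W)] (φ : W →* W)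
    (hφ : ∀ w : W, φ^[p - 1] w = w) :
    ∃ w : W, w ≠ 1 ∧ ∃ m : ℕ, φ w = w ^ m := by
  have : Module.Finite (ZMod p) (Additive W) := Module.Finite.of_finite
  obtain ⟨f, hfdef⟩ : ∃ f : Module.End (ZMod p) (Additive W),
      f = (MonoidHom.toAdditive φ).toZModLinearMap p := ⟨_, rfl⟩
  have hfapp : ∀ v : Additive W, f v = Additive.ofMul (φ v.toMul) := by
    intro v; rw [hfdef]; rfl
  have hiter : ∀ (n : ℕ) (v : Additive W), (f ^ n) v = Additive.ofMul (φ^[n] v.toMul) := by
    intro n
    induction n with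
    | zero => intro v; simp
    | succ n ih =>
      intro v
      rw [pow_succ', Module.End.mul_apply, ih, hfapp, Function.iterate_succ_apply']
      rfl
  have hf : f ^ (p - 1) = 1 := by
    ext v
    rw [hiter, hφ]
    rfl
  obtain ⟨μ, v, hv0, hv⟩ := exists_eigenvector_of_pow_eq_one p f hf
  refine ⟨v.toMul, ?_, μ.val, ?_⟩
  · intro h
    apply hv0
    have : v = Additive.ofMul v.toMul := rfl
    rw [this, h]; rfl
  · have h1 : μ • v = μ.val • v := by
      conv_lhs => rw [← ZMod.natCast_zmod_val μ]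
      exact Nat.cast_smul_eq_nsmul (ZMod p) μ.val v
    rw [hfapp, h1] at hv
    have h2 : μ.val • v = Additive.ofMul (v.toMul ^ μ.val) := rfl
    rw [h2] at hv
    exact Additive.ofMul.injective hv

/-- An endomorphism `φ` of a nontrivial finite elementary abelian `p`-group `W` whose `(p-1)`-st
iterate is the identity has an eigenvector: some `w ≠ 1` with `φ w = w ^ m`. -/
theorem exists_eigen_of_iterate (p : ℕ) [hp : Fact p.Prime] {W : Type*} [CommGroup W] [Finite W]
    [Nontrivial W] (hexp : ∀ w : W, w ^ p = 1) (φ : W →* W) (hφ : ∀ w : W, φ^[p - 1] w = w) :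
    ∃ w : W, w ≠ 1 ∧ ∃ m : ℕ, φ w = w ^ m :=
  @exists_eigen_aux p hp W _ _ _ (AddCommGroup.zmodModule (n := p) (by
    intro x
    change Additive.ofMul (x.toMul ^ p) = 0
    rw [hexp]; rfl)) φ hφ

end Cfsg.Agent.Lib.Helper9_Eigen
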