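import Mathlib
import Cfsg.Prelude.Def_SolvableStructure
import Cfsg.Agent.Lib.Helper9_Eigen
import Cfsg.Agent.Lib.Helper9_Supersolvable
import Cfsg.Agent.Lib.Helper9_Supersolvable2
import Cfsg.Agent.Lib.Helper9_Supersolvable3

/-!
Pieces for Huppert's supersolvability criterion (helper9).
-/

set_option autoImplicit false
open scoped commutatorElement

namespace Cfsg.Agent.Lib.Helper9_Huppert

open Cfsg.Agent.Lib.Helper9_Eigen Cfsg.Agent.Lib.Helper9_Supersolvable
  Cfsg.Agent.Lib.Helper9_Supersolvable2 Cfsg.Agent.Lib.Helper9_Supersolvable3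

variable {G : Type*} [Group G]

/-! ### L2: action on a normal subgroup of prime order -/

/-- On a normal subgroup of prime order `p`, `(p-1)`-st powers act trivially. -/
theorem pow_pred_commutes_of_card_prime (p : ℕ) [hp : Fact p.Prime] (Y : Subgroup G) [Y.Normal]
    (hY : Nat.card Y = p) (g : G) (y : G) (hy : y ∈ Y) : g ^ (p - 1) * y = y * g ^ (p - 1) := by
  have hfin : Finite Y := Nat.finite_of_card_ne_zero (by rw [hY]; exact hp.out.ne_zero)
  have hc : IsCyclic Y := isCyclic_of_prime_card hY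
  have hcard : Nat.card (MulAut Y) = p - 1 := by
    rw [IsCyclic.card_mulAut, hY, Nat.totient_prime hp.out]
  have hfinA : Finite (MulAut Y) := Nat.finite_of_card_ne_zero (by
    rw [hcard]; have := hp.out.one_lt; omega)
  have h1 : (MulAut.conjNormal (H := Y) g) ^ (p - 1) = 1 := by
    rw [← hcard]; exact pow_card_eq_one'
  have h2 : MulAut.conjNormal (H := Y) (g ^ (p - 1)) = 1 := by rw [map_pow, h1]
  have h3 := MulAut.conjNormal_apply (H := Y) (g ^ (p - 1)) ⟨y, hy⟩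
  rw [h2] at h3
  have h4 : y = g ^ (p - 1) * y * (g ^ (p - 1))⁻¹ := h3
  calc g ^ (p - 1) * y = (g ^ (p - 1) * y * (g ^ (p - 1))⁻¹) * g ^ (p - 1) := by group
    _ = y * g ^ (p - 1) := by rw [← h4]

/-- On a normal subgroup of prime order, commutators act trivially. -/
theorem commutator_commutes_of_card_prime (p : ℕ) [hp : Fact p.Prime] (Y : Subgroup G) [Y.Normal]
    (hY : Nat.card Y = p) (g g' : G) (y : G) (hy : y ∈ Y) : ⁅g, g'⁆ * y = y * ⁅g, g'⁆ := by
  have hfin : Finite Y := Nat.finite_of_card_ne_zero (by rw [hY]; exact hp.out.ne_zero)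
  have hc : IsCyclic Y := isCyclic_of_prime_card hY
  have hcomm : ∀ a b : MulAut Y, a * b = b * a := by
    intro a b
    apply (IsCyclic.mulAutMulEquiv Y).injective
    rw [map_mul, map_mul, mul_comm]
  have h2 : MulAut.conjNormal (H := Y) ⁅g, g'⁆ = 1 := by
    rw [map_commutatorElement, commutatorElement_eq_one_iff_mul_comm]
    exact hcomm _ _
  have h3 := MulAut.conjNormal_apply (H := Y) ⁅g, g'⁆ ⟨y, hy⟩
  rw [h2] at h3
  have h4 : y = ⁅g, g'⁆ * y * ⁅g, g'⁆⁻¹ := h3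
  calc ⁅g, g'⁆ * y = (⁅g, g'⁆ * y * ⁅g, g'⁆⁻¹) * ⁅g, g'⁆ := by group
    _ = y * ⁅g, g'⁆ := by rw [← h4]

/-! ### L3: coprime elements acting trivially on prime sections centralize normal `p`-subgroups -/

/-- `k` acts trivially on every normal subgroup of order `p` of every quotient of `G`. -/
def TrivOnPrimeSections (p : ℕ) (k : G) : Prop :=
  ∀ (Z : Subgroup G) (_ : Z.Normal) (Y : Subgroup (G ⧸ Z)), Y.Normal → Nat.card Y = p →
    ∀ y ∈ Y, (QuotientGroup.mk' Z k) * y = y * (QuotientGroup.mk' Z k)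

theorem trivOnPrimeSections_pow (p : ℕ) [hp : Fact p.Prime] (g : G) :
    TrivOnPrimeSections p (g ^ (p - 1)) := by
  intro Z hZ Y hY hcard y hy
  rw [map_pow]
  exact pow_pred_commutes_of_card_prime p Y hcard _ y hy

theorem trivOnPrimeSections_commutator (p : ℕ) [hp : Fact p.Prime] (g g' : G) :
    TrivOnPrimeSections p ⁅g, g'⁆ := by
  intro Z hZ Y hY hcard y hy
  rw [map_commutatorElement]
  exact commutator_commutes_of_card_prime p Y hcard _ _ y hy

theorem conj_pow_eq_of_commutator_commutes (k y z : G) (hz : k * y * k⁻¹ * y⁻¹ = z)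
    (hkz : k * z = z * k) (i : ℕ) : k ^ i * y * (k ^ i)⁻¹ = z ^ i * y := by
  induction i with
  | zero => simp
  | succ i ih =>
    have h1 : k ^ (i + 1) * y * (k ^ (i + 1))⁻¹ = k * (k ^ i * y * (k ^ i)⁻¹) * k⁻¹ := by
      rw [pow_succ']; group
    have hkzi : k * z ^ i = z ^ i * k := by
      have : Commute k z := hkz
      exact (this.pow_right i).eq
    rw [h1, ih]
    calc k * (z ^ i * y) * k⁻¹ = (k * z ^ i) * y * k⁻¹ := by group
      _ = z ^ i * k * y * k⁻¹ := by rw [hkzi]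
      _ = z ^ i * (k * y * k⁻¹ * y⁻¹) * y := by group
      _ = z ^ (i + 1) * y := by rw [hz, pow_succ]

theorem centralizes_of_trivOnPrimeSections [Finite G] (p : ℕ) [hp : Fact p.Prime]
    (hG : Cfsg.IsSupersolvable G) (R : Subgroup G) [hRn : R.Normal] (hR : IsPGroup p R) (k : G)
    (hk : (orderOf k).Coprime p) (hT : TrivOnPrimeSections p k) : ∀ r ∈ R, k * r = r * k := by
  classical
  obtain ⟨Z, -, hZmax⟩ := Finite.exists_le_maximal
    (p := fun Z : Subgroup G => Z.Normal ∧ Z ≤ R ∧ ∀ z ∈ Z, k * z = z * k) (a := ⊥)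
    ⟨inferInstance, bot_le, by
      intro z hz
      rw [Subgroup.mem_bot] at hz
      subst hz; simp⟩
  obtain ⟨hZn, hZR, hZk⟩ := hZmax.prop
  by_cases hZeq : Z = R
  · intro r hr
    rw [← hZeq] at hr
    exact hZk r hr
  exfalso
  have hQ : Cfsg.IsSupersolvable (G ⧸ Z) := isSupersolvable_quotient Z hG
  obtain ⟨R₂, hR₂⟩ : ∃ R₂ : Subgroup (G ⧸ Z), R₂ = R.map (QuotientGroup.mk' Z) := ⟨_, rfl⟩
  have hR₂n : R₂.Normal := by
    rw [hR₂]; exact Subgroup.Normal.map hRn _ (QuotientGroup.mk'_surjective Z)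
  have hR₂ne : R₂ ≠ ⊥ := by
    intro h
    apply hZeq
    apply le_antisymm hZR
    intro r hr
    have h1 : QuotientGroup.mk' Z r ∈ R₂ := by rw [hR₂]; exact Subgroup.mem_map_of_mem _ hr
    rw [h, Subgroup.mem_bot] at h1
    exact (QuotientGroup.eq_one_iff r).1 h1
  have hR₂p : IsPGroup p R₂ := by rw [hR₂]; exact hR.map _
  obtain ⟨Y₂, hY₂R, hY₂n, hY₂p⟩ := exists_normal_prime_le hQ R₂ hR₂ne
  have hY₂card : Nat.card Y₂ = p := by
    obtain ⟨i, hi⟩ := (hR₂p.to_le hY₂R).exists_card_eq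
    have h1 : Nat.card Y₂ ∣ p ^ i := by rw [hi]
    exact (Nat.prime_dvd_prime_iff_eq hY₂p hp.out).1 (hY₂p.dvd_of_dvd_pow h1)
  obtain ⟨Y, hY⟩ : ∃ Y : Subgroup G, Y = Y₂.comap (QuotientGroup.mk' Z) := ⟨_, rfl⟩
  have hYn : Y.Normal := by rw [hY]; exact hY₂n.comap _
  have hZY : Z ≤ Y := by
    intro z hz
    rw [hY, Subgroup.mem_comap]
    have : QuotientGroup.mk' Z z = 1 := (QuotientGroup.eq_one_iff z).2 hz
    rw [this]; exact Y₂.one_mem
  have hYR : Y ≤ R := by
    intro y hy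
    rw [hY, Subgroup.mem_comap] at hy
    have h1 : QuotientGroup.mk' Z y ∈ R₂ := hY₂R hy
    rw [hR₂] at h1
    obtain ⟨r, hr, hry⟩ := h1
    have h2 : r⁻¹ * y ∈ Z := by
      have : QuotientGroup.mk' Z (r⁻¹ * y) = 1 := by
        rw [map_mul, map_inv, hry, inv_mul_cancel]
      exact (QuotientGroup.eq_one_iff _).1 this
    have e : y = r * (r⁻¹ * y) := by group
    rw [e]
    exact R.mul_mem hr (hZR h2)
  have hYk : ∀ y ∈ Y, k * y = y * k := by
    intro y hy
    have hy' : QuotientGroup.mk' Z y ∈ Y₂ := by rw [hY] at hy; exact hy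
    have h1 := hT Z hZn Y₂ hY₂n hY₂card _ hy'
    obtain ⟨z, hz⟩ : ∃ z : G, k * y * k⁻¹ * y⁻¹ = z := ⟨_, rfl⟩
    have hzZ : z ∈ Z := by
      have : QuotientGroup.mk' Z z = 1 := by
        rw [← hz, map_mul, map_mul, map_mul, map_inv, map_inv, h1]
        group
      exact (QuotientGroup.eq_one_iff _).1 this
    have h2 := conj_pow_eq_of_commutator_commutes k y z hz (hZk z hzZ) (orderOf k)
    rw [pow_orderOf_eq_one, inv_one, one_mul, mul_one] at h2
    have h3 : z ^ orderOf k = 1 := by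
      have : z ^ orderOf k * y = 1 * y := by rw [one_mul]; exact h2.symm
      exact mul_right_cancel this
    have h4 : orderOf z ∣ orderOf k := orderOf_dvd_of_pow_eq_one h3
    obtain ⟨j, hj⟩ := (hR.to_le hZR) ⟨z, hzZ⟩
    have hj' : z ^ p ^ j = 1 := by
      have := congrArg Subtype.val hj
      simpa using this
    have h6 : orderOf z ∣ p ^ j := orderOf_dvd_of_pow_eq_one hj'
    have h5 : orderOf z = 1 := by
      have hc : (orderOf z).Coprime (orderOf k) :=
        Nat.Coprime.coprime_dvd_left h6 (Nat.Coprime.pow_left j hk.symm)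
      exact Nat.Coprime.eq_one_of_dvd hc h4
    have hz1 : z = 1 := orderOf_eq_one_iff.1 h5
    rw [hz1] at hz
    calc k * y = (k * y * k⁻¹ * y⁻¹) * (y * k) := by group
      _ = y * k := by rw [hz, one_mul]
  have hle : Y ≤ Z := hZmax.le_of_ge ⟨hYn, hYR, hYk⟩ hZY
  have hYZ : Y = Z := le_antisymm hle hZY
  have hmap : Y.map (QuotientGroup.mk' Z) = Y₂ := by
    rw [hY]; exact Subgroup.map_comap_eq_self_of_surjective (QuotientGroup.mk'_surjective Z) Y₂
  have hbot : Y₂ = ⊥ := by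
    rw [← hmap, hYZ, eq_bot_iff]
    rintro _ ⟨z, hz, rfl⟩
    exact (QuotientGroup.eq_one_iff z).2 hz
  rw [hbot, Subgroup.card_bot] at hY₂p
  exact Nat.not_prime_one hY₂p

/-! ### L1: a minimal normal elementary abelian subgroup acted on through an abelian group of
exponent dividing `p - 1` has order `p` -/

theorem conj_eq_pow_of_abelian_action [Finite G] (p : ℕ) [hp : Fact p.Prime] (N : Subgroup G)
    [hNn : N.Normal] (hN0 : N ≠ ⊥)
    (hmin : ∀ N' : Subgroup G, N'.Normal → N' ≠ ⊥ → N' ≤ N → N' = N)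
    (hcomm : ∀ a ∈ N, ∀ b ∈ N, a * b = b * a) (hexp : ∀ a ∈ N, a ^ p = 1)
    (hpow : ∀ g : G, ∀ w ∈ N, g ^ (p - 1) * w = w * g ^ (p - 1))
    (hc : ∀ g g' : G, ∀ w ∈ N, ⁅g, g'⁆ * w = w * ⁅g, g'⁆) (g : G) :
    ∃ m : ℕ, ∀ w ∈ N, g * w * g⁻¹ = w ^ m := by
  let inst : CommGroup N :=
    { (inferInstance : Group N) with mul_comm := fun a b => Subtype.ext (hcomm a a.2 b b.2) }
  have hnt : Nontrivial N := (Subgroup.nontrivial_iff_ne_bot N).2 hN0
  obtain ⟨φ, hφdef⟩ : ∃ φ : N →* N, φ = (MulAut.conjNormal (H := N) g).toMonoidHom := ⟨_, rfl⟩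
  have hφapp : ∀ w : N, φ w = MulAut.conjNormal (H := N) g w := by
    intro w; rw [hφdef]; rfl
  have hiter : ∀ (n : ℕ) (w : N), φ^[n] w = MulAut.conjNormal (H := N) (g ^ n) w := by
    intro n
    induction n with
    | zero => intro w; simp
    | succ n ih =>
      intro w
      rw [Function.iterate_succ_apply', ih, hφapp, pow_succ', map_mul]
      rfl
  have hφ : ∀ w : N, φ^[p - 1] w = w := by
    intro w
    rw [hiter]
    apply Subtype.ext
    rw [MulAut.conjNormal_apply, hpow g w w.2, mul_inv_cancel_right]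
  have hexp' : ∀ w : N, w ^ p = 1 := by
    intro w
    apply Subtype.ext
    simpa using hexp w w.2
  obtain ⟨w, hw1, m, hwm⟩ := exists_eigen_of_iterate p hexp' φ hφ
  refine ⟨m, ?_⟩
  have hwm' : g * (w : G) * g⁻¹ = (w : G) ^ m := by
    have := congrArg Subtype.val hwm
    rw [hφapp, MulAut.conjNormal_apply] at this
    simpa using this
  -- the eigenspace
  let E : Subgroup G :=
    { carrier := {x | x ∈ N ∧ g * x * g⁻¹ = x ^ m}
      one_mem' := ⟨N.one_mem, by simp⟩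
      mul_mem' := by
        rintro a b ⟨ha, ha'⟩ ⟨hb, hb'⟩
        refine ⟨N.mul_mem ha hb, ?_⟩
        have hab : Commute a b := hcomm a ha b hb
        rw [hab.mul_pow, ← ha', ← hb']
        group
      inv_mem' := by
        rintro a ⟨ha, ha'⟩
        refine ⟨N.inv_mem ha, ?_⟩
        rw [inv_pow, ← ha']
        group }
  have hEmem : ∀ x, x ∈ E ↔ x ∈ N ∧ g * x * g⁻¹ = x ^ m := fun x => Iff.rfl
  have hEn : E.Normal := by
    constructor
    intro a ha x
    obtain ⟨haN, ha'⟩ := (hEmem a).1 ha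
    rw [hEmem]
    refine ⟨hNn.conj_mem a haN x, ?_⟩
    have huN : x * (g * a * g⁻¹) * x⁻¹ ∈ N := hNn.conj_mem _ (hNn.conj_mem a haN g) x
    have h1 := hc g x _ huN
    have h2 : g * (x * a * x⁻¹) * g⁻¹ = ⁅g, x⁆ * (x * (g * a * g⁻¹) * x⁻¹) * ⁅g, x⁆⁻¹ := by
      rw [commutatorElement_def]; group
    rw [h2, h1, mul_inv_cancel_right, ha', conj_pow]
  have hEle : E ≤ N := fun x hx => ((hEmem x).1 hx).1
  have hEne : E ≠ ⊥ := by
    intro h
    have h1 : (w : G) ∈ E := (hEmem _).2 ⟨w.2, hwm'⟩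
    rw [h, Subgroup.mem_bot] at h1
    exact hw1 (Subtype.ext h1)
  have hEN : E = N := hmin E hEn hEne hEle
  intro x hx
  rw [← hEN] at hx
  exact ((hEmem x).1 hx).2

theorem card_eq_prime_of_abelian_action [Finite G] (p : ℕ) [hp : Fact p.Prime] (N : Subgroup G)
    [hNn : N.Normal] (hN0 : N ≠ ⊥)
    (hmin : ∀ N' : Subgroup G, N'.Normal → N' ≠ ⊥ → N' ≤ N → N' = N)
    (hcomm : ∀ a ∈ N, ∀ b ∈ N, a * b = b * a) (hexp : ∀ a ∈ N, a ^ p = 1)
    (hpow : ∀ g : G, ∀ w ∈ N, g ^ (p - 1) * w = w * g ^ (p - 1))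
    (hc : ∀ g g' : G, ∀ w ∈ N, ⁅g, g'⁆ * w = w * ⁅g, g'⁆) : Nat.card N = p := by
  obtain ⟨⟨w, hwN⟩, hw1'⟩ := (Subgroup.ne_bot_iff_exists_ne_one).1 hN0
  have hw1 : w ≠ 1 := fun h => hw1' (Subtype.ext h)
  have hZn : (Subgroup.zpowers w).Normal := by
    constructor
    intro z hz g
    obtain ⟨k, rfl⟩ := Subgroup.mem_zpowers_iff.1 hz
    obtain ⟨m, hm⟩ := conj_eq_pow_of_abelian_action p N hN0 hmin hcomm hexp hpow hc g
    have h1 : g * w ^ k * g⁻¹ = (g * w * g⁻¹) ^ k := by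
      rw [conj_zpow]
    rw [h1, hm w hwN]
    exact Subgroup.zpow_mem _ (Subgroup.pow_mem _ (Subgroup.mem_zpowers w) m) k
  have hZle : Subgroup.zpowers w ≤ N := (Subgroup.zpowers_le).2 hwN
  have hZne : Subgroup.zpowers w ≠ ⊥ := by
    intro h
    exact hw1 ((Subgroup.zpowers_eq_bot).1 h)
  have hZN := hmin _ hZn hZne hZle
  rw [← hZN, Nat.card_zpowers]
  exact orderOf_eq_prime (hexp w hwN) hw1

end Cfsg.Agent.Lib.Helper9_Huppert
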