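import Mathlib
import Cfsg.Agent.Lib.Helper9_Huppert
import Cfsg.Agent.Lib.Helper35_FrobeniusCor
import Cfsg.Agent.Lib.Helper35_PGroupAut
import Cfsg.Agent.Lib.Helper1_Transport
import Cfsg.Agent.Lib.Helper24_CoprimeAction
import Cfsg.Agent.S3803

/-!
Supersolvable embedding of a normal `q`-subgroup (helper32).

`G1 q G` is the subgroup generated by the `(q-1)`-th powers and the commutators. If every `q'`-element
of `G1 q G` centralizes the normal `q`-subgroup `Q`, then `Q` can be reached from `⊥` by a chain of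
normal subgroups of `G` with cyclic steps (`Reach Q`).
-/

set_option autoImplicit false
open scoped commutatorElement Pointwise

namespace Cfsg.Agent.Lib.Helper32_SupEmb

open Subgroup
open Cfsg.Agent.Lib.Helper9_Supersolvable (Reach)

universe u

section basic

variable {G : Type*} [Group G]

/-- the subgroup generated by all `(q-1)`-th powers and all commutators -/
def G1 (q : ℕ) (G : Type*) [Group G] : Subgroup G :=
  Subgroup.closure ({x | ∃ g : G, x = g ^ (q - 1)} ∪ {x | ∃ g g' : G, x = ⁅g, g'⁆})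

theorem pow_mem_G1 (q : ℕ) (g : G) : g ^ (q - 1) ∈ G1 q G :=
  Subgroup.subset_closure (Or.inl ⟨g, rfl⟩)

theorem commutator_mem_G1 (q : ℕ) (g g' : G) : ⁅g, g'⁆ ∈ G1 q G :=
  Subgroup.subset_closure (Or.inr ⟨g, g', rfl⟩)

theorem G1_map {G' : Type*} [Group G'] (q : ℕ) (f : G →* G') (hf : Function.Surjective f) :
    (G1 q G).map f = G1 q G' := by
  rw [G1, G1, MonoidHom.map_closure]
  congr 1
  ext x
  constructor
  · rintro ⟨y, hy | hy, rfl⟩
    · obtain ⟨g, rfl⟩ := hy
      exact Or.inl ⟨f g, by rw [map_pow]⟩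
    · obtain ⟨g, g', rfl⟩ := hy
      exact Or.inr ⟨f g, f g', by rw [map_commutatorElement]⟩
  · rintro (⟨g, rfl⟩ | ⟨g, g', rfl⟩)
    · obtain ⟨a, rfl⟩ := hf g
      exact ⟨a ^ (q - 1), Or.inl ⟨a, rfl⟩, by rw [map_pow]⟩
    · obtain ⟨a, rfl⟩ := hf g
      obtain ⟨b, rfl⟩ := hf g'
      exact ⟨⁅a, b⁆, Or.inr ⟨a, b, rfl⟩, by rw [map_commutatorElement]⟩

instance G1_normal (q : ℕ) : (G1 q G).Normal := by
  constructor
  intro n hn g
  have h := G1_map q (MulAut.conj g).toMonoidHom (MulAut.conj g).surjective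
  have : (MulAut.conj g).toMonoidHom n ∈ (G1 q G).map (MulAut.conj g).toMonoidHom :=
    Subgroup.mem_map_of_mem _ hn
  rw [h] at this
  simpa using this

end basic

section fixedpoints

variable {G : Type*} [Group G]

open Cfsg.Agent.Lib.Helper35_FrobeniusCor (card_modEq_card_inf_centralizer)

/-- a power of `x` of order prime to `q` such that `x` to a `q`-power equals it -/
theorem exists_pow_coprime [Finite G] (q : ℕ) [hq : Fact q.Prime] (x : G) :
    ∃ a : ℕ, (orderOf (x ^ q ^ a)).Coprime q := by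
  have hpos : orderOf x ≠ 0 := (orderOf_pos x).ne'
  obtain ⟨a, m, hm, hx⟩ := Nat.exists_eq_pow_mul_and_not_dvd hpos q hq.out.ne_one
  refine ⟨a, ?_⟩
  have h1 : orderOf (x ^ q ^ a) = m := by
    rw [orderOf_pow' x (pow_ne_zero a hq.out.ne_zero), hx]
    have hg : Nat.gcd (q ^ a * m) (q ^ a) = q ^ a := by
      rw [Nat.gcd_comm]
      exact Nat.gcd_eq_left (dvd_mul_right _ _)
    rw [hg, Nat.mul_div_cancel_left m (pow_pos hq.out.pos a)]
  rw [h1]
  exact ((Nat.Prime.coprime_iff_not_dvd hq.out).mpr hm).symm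

/-- **Fixed points.** If `X` normalizes the nontrivial `q`-group `N` and every `q'`-element of `X`
centralizes `N`, then `X` centralizes a nontrivial element of `N`. -/
theorem inf_centralizer_ne_bot [Finite G] {q : ℕ} [hq : Fact q.Prime]
    (N X : Subgroup G) (hN : IsPGroup q N) (hN0 : N ≠ ⊥) (hXN : X ≤ normalizer (N : Set G))
    (hX : ∀ x ∈ X, (orderOf x).Coprime q → x ∈ centralizer (N : Set G)) :
    N ⊓ centralizer (X : Set G) ≠ ⊥ := by
  classical
  -- a Sylow `q`-subgroup of `X`
  obtain S : Sylow q ↥X := default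
  set S' : Subgroup G := (S : Subgroup ↥X).map X.subtype with hS'
  have hS'X : S' ≤ X := Subgroup.map_subtype_le _
  have hS'q : IsPGroup q S' := S.2.map _
  -- the kernel of the action
  set K : Subgroup ↥X := (centralizer (N : Set G)).subgroupOf X with hK
  have hKn : K.Normal := by
    constructor
    intro n hn g
    rw [hK, Subgroup.mem_subgroupOf] at hn ⊢
    rw [Subgroup.mem_centralizer_iff] at hn ⊢
    intro z hz
    have hgz : (g : G)⁻¹ * z * (g : G) ∈ N := by
      have := (Subgroup.mem_normalizer_iff.mp (inv_mem (hXN g.2)) z).mp hz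
      simpa using this
    have h1 := hn _ hgz
    simp only [Subgroup.coe_mul, Subgroup.coe_inv]
    calc z * ((g : G) * (n : G) * (g : G)⁻¹)
        = (g : G) * (((g : G)⁻¹ * z * (g : G)) * (n : G)) * (g : G)⁻¹ := by group
      _ = (g : G) * ((n : G) * ((g : G)⁻¹ * z * (g : G))) * (g : G)⁻¹ := by rw [h1]
      _ = (g : G) * (n : G) * (g : G)⁻¹ * z := by group
  -- the quotient is a `q`-group
  have hquot : IsPGroup q (↥X ⧸ K) := by
    intro xb
    obtain ⟨x, rfl⟩ := QuotientGroup.mk_surjective xb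
    obtain ⟨a, ha⟩ := exists_pow_coprime q (x : G)
    refine ⟨a, ?_⟩
    rw [← QuotientGroup.mk_pow, QuotientGroup.eq_one_iff, hK, Subgroup.mem_subgroupOf,
      Subgroup.coe_pow]
    exact hX _ (pow_mem x.2 _) ha
  obtain ⟨a, ha⟩ := IsPGroup.iff_card.mp hquot
  have hKidx : K.index = q ^ a := by rw [Subgroup.index_eq_card, ha]
  -- `K ⊔ S = ⊤`
  have htop : K ⊔ (S : Subgroup ↥X) = ⊤ := by
    rw [← Subgroup.index_eq_one]
    have h1 : (K ⊔ (S : Subgroup ↥X)).index ∣ q ^ a := by
      rw [← hKidx]; exact Subgroup.index_dvd_of_le le_sup_left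
    have h2 : (K ⊔ (S : Subgroup ↥X)).index ∣ (S : Subgroup ↥X).index :=
      Subgroup.index_dvd_of_le le_sup_right
    obtain ⟨b, -, hb⟩ := (Nat.dvd_prime_pow hq.out).mp h1
    rcases Nat.eq_zero_or_pos b with hb0 | hbpos
    · rw [hb, hb0, pow_zero]
    · exfalso
      apply S.not_dvd_index
      exact dvd_trans (by rw [hb]; exact dvd_pow_self q hbpos.ne') h2
  -- a nontrivial fixed point of `S'`
  have hmod := card_modEq_card_inf_centralizer N S' hS'q (hS'X.trans hXN)
  have hne : N ⊓ centralizer (S' : Set G) ≠ ⊥ := by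
    intro hbot
    rw [hbot, Subgroup.card_bot] at hmod
    have hnt : Nontrivial ↥N := (Subgroup.nontrivial_iff_ne_bot N).mpr hN0
    obtain ⟨n, hn0, hn⟩ := hN.nontrivial_iff_card.mp hnt
    rw [hn] at hmod
    have h0 : q ^ n ≡ 0 [MOD q] := (Nat.modEq_zero_iff_dvd).mpr (dvd_pow_self q hn0.ne')
    have h1 : (1 : ℕ) ≡ 0 [MOD q] := hmod.symm.trans h0
    have := (Nat.modEq_zero_iff_dvd).mp h1
    exact hq.out.one_lt.ne' (Nat.dvd_one.mp this)
  obtain ⟨z, hz1⟩ := (Subgroup.ne_bot_iff_exists_ne_one).mp hne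
  have hzN : (z : G) ∈ N := z.2.1
  have hzS : (z : G) ∈ centralizer (S' : Set G) := z.2.2
  intro hbot
  apply hz1
  have : (z : G) ∈ N ⊓ centralizer (X : Set G) := by
    refine Subgroup.mem_inf.mpr ⟨hzN, ?_⟩
    rw [Subgroup.mem_centralizer_iff]
    intro x hx
    have hxtop : (⟨x, hx⟩ : ↥X) ∈ K ⊔ (S : Subgroup ↥X) := by rw [htop]; trivial
    have hmul : (⟨x, hx⟩ : ↥X) ∈ ((K : Set ↥X) * ((S : Subgroup ↥X) : Set ↥X)) := by
      rw [← Subgroup.normal_mul K (S : Subgroup ↥X)]
      exact hxtop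
    obtain ⟨k, hk, s, hs, hks⟩ := Set.mem_mul.mp hmul
    have hxks : x = (k : G) * (s : G) := by
      have := congrArg Subtype.val hks
      simpa using this.symm
    have hkc : (k : G) ∈ centralizer (N : Set G) := by
      rw [hK] at hk; exact Subgroup.mem_subgroupOf.mp hk
    have hsS' : (s : G) ∈ S' := ⟨s, hs, rfl⟩
    have h1 : (s : G) * (z : G) = (z : G) * (s : G) :=
      (Subgroup.mem_centralizer_iff.mp hzS) _ hsS'
    have h2 : (z : G) * (k : G) = (k : G) * (z : G) :=
      (Subgroup.mem_centralizer_iff.mp hkc) _ hzN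
    rw [hxks]
    calc (k : G) * (s : G) * (z : G) = (k : G) * ((s : G) * (z : G)) := by group
      _ = (k : G) * ((z : G) * (s : G)) := by rw [h1]
      _ = ((k : G) * (z : G)) * (s : G) := by group
      _ = ((z : G) * (k : G)) * (s : G) := by rw [h2]
      _ = (z : G) * ((k : G) * (s : G)) := by group
  rw [hbot, Subgroup.mem_bot] at this
  exact Subtype.ext this

end fixedpoints

section chain

open Cfsg.Agent.Lib.Helper9_Supersolvable Cfsg.Agent.Lib.Helper9_Huppert
open Cfsg.Agent.Lib.Helper1_Transport (card_map_mk'_of_le)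

/-- the centralizer of a normal subgroup is normal (as a statement about conjugates) -/
theorem conj_mem_centralizer_of_normal {G : Type*} [Group G] (X : Subgroup G) [hX : X.Normal]
    {z : G} (hz : z ∈ centralizer (X : Set G)) (g : G) :
    g * z * g⁻¹ ∈ centralizer (X : Set G) := by
  rw [Subgroup.mem_centralizer_iff] at hz ⊢
  intro x hx
  have h1 : g⁻¹ * x * g ∈ X := by
    have := hX.conj_mem x hx g⁻¹
    simpa using this
  have h2 := hz _ h1
  calc x * (g * z * g⁻¹) = g * ((g⁻¹ * x * g) * z) * g⁻¹ := by group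
    _ = g * (z * (g⁻¹ * x * g)) * g⁻¹ := by rw [h2]
    _ = g * z * g⁻¹ * x := by group

/-- **Chain lemma.** If every `q'`-element of `G1 q G` centralizes the normal `q`-subgroup `Q`, then
`Q` is reached from `⊥` by a chain of normal subgroups of `G` with cyclic factors. -/
theorem reach_of_G1 (q : ℕ) [hq : Fact q.Prime] : ∀ (n : ℕ) (G : Type u) [Group G] [Finite G]
    (Q : Subgroup G), Q.Normal → IsPGroup q Q → Nat.card Q = n →
    (∀ y ∈ G1 q G, (orderOf y).Coprime q → y ∈ centralizer (Q : Set G)) → Reach Q := by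
  intro n
  induction n using Nat.strong_induction_on with
  | _ n ih =>
  intro G _ _ Q hQn hQ hcard hii
  by_cases hQ0 : Q = ⊥
  · rw [hQ0]; exact Reach.bot
  classical
  -- a minimal normal subgroup inside `Q`
  obtain ⟨N, hNQ', hNmin⟩ := Finite.exists_le_minimal
    (p := fun N : Subgroup G => N.Normal ∧ N ≠ ⊥ ∧ N ≤ Q) (a := Q) ⟨hQn, hQ0, le_rfl⟩
  obtain ⟨hNn, hN0, hNQ⟩ := hNmin.prop
  have hmin : ∀ N' : Subgroup G, N'.Normal → N' ≠ ⊥ → N' ≤ N → N' = N := by
    intro N' hN'n hN'0 hle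
    exact le_antisymm hle (hNmin.le_of_le ⟨hN'n, hN'0, hle.trans hNQ⟩ hle)
  have hNq : IsPGroup q N := hQ.to_le hNQ
  -- `G1` centralizes `N`
  have hX : N ≤ centralizer ((G1 q G : Subgroup G) : Set G) := by
    have hne := inf_centralizer_ne_bot N (G1 q G) hNq hN0
      (fun x _ => (Subgroup.normalizer_eq_top_iff.mpr hNn) ▸ Subgroup.mem_top x)
      (fun x hx hc => Subgroup.centralizer_le (show (N : Set G) ⊆ Q from hNQ) (hii x hx hc))
    have hnorm : (N ⊓ centralizer ((G1 q G : Subgroup G) : Set G)).Normal := by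
      constructor
      intro z hz g
      exact Subgroup.mem_inf.mpr ⟨hNn.conj_mem z hz.1 g,
        conj_mem_centralizer_of_normal (G1 q G) hz.2 g⟩
    have := hmin _ hnorm hne inf_le_left
    rw [← this]
    exact inf_le_right
  -- `N` is abelian
  have hcomm : ∀ a ∈ N, ∀ b ∈ N, a * b = b * a := by
    have hne := inf_centralizer_ne_bot N N hNq hN0 Subgroup.le_normalizer
      (fun x hx hc => by
        obtain ⟨k, hk⟩ := (IsPGroup.iff_orderOf.mp hNq) ⟨x, hx⟩
        rw [Subgroup.orderOf_mk] at hk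
        rw [hk] at hc
        have hk0 : k = 0 := by
          by_contra hk0
          have := Nat.Coprime.coprime_dvd_left (dvd_pow_self q hk0) hc
          exact hq.out.one_lt.ne' ((Nat.coprime_self q).mp this)
        rw [hk0, pow_zero, orderOf_eq_one_iff] at hk
        rw [hk]
        exact Subgroup.one_mem _)
    have hnorm : (N ⊓ centralizer ((N : Subgroup G) : Set G)).Normal := by
      constructor
      intro z hz g
      exact Subgroup.mem_inf.mpr ⟨hNn.conj_mem z hz.1 g,
        conj_mem_centralizer_of_normal N hz.2 g⟩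
    have h1 := hmin _ hnorm hne inf_le_left
    intro a ha b hb
    have hb' : b ∈ centralizer ((N : Subgroup G) : Set G) := by
      rw [← h1] at hb; exact hb.2
    exact (Subgroup.mem_centralizer_iff.mp hb' a ha)
  -- `N` has exponent `q`
  have hexp : ∀ a ∈ N, a ^ q = 1 := by
    let Ω : Subgroup G :=
      { carrier := {x | x ∈ N ∧ x ^ q = 1}
        one_mem' := ⟨N.one_mem, one_pow _⟩
        mul_mem' := by
          rintro a b ⟨ha, ha'⟩ ⟨hb, hb'⟩
          refine ⟨N.mul_mem ha hb, ?_⟩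
          have hab : Commute a b := hcomm a ha b hb
          rw [hab.mul_pow, ha', hb', one_mul]
        inv_mem' := by
          rintro a ⟨ha, ha'⟩
          exact ⟨N.inv_mem ha, by rw [inv_pow, ha', inv_one]⟩ }
    have hΩmem : ∀ x, x ∈ Ω ↔ x ∈ N ∧ x ^ q = 1 := fun x => Iff.rfl
    have hΩn : Ω.Normal := by
      constructor
      intro a ha g
      obtain ⟨haN, ha'⟩ := (hΩmem a).1 ha
      rw [hΩmem]
      exact ⟨hNn.conj_mem a haN g, by rw [conj_pow, ha']; group⟩
    have hΩ0 : Ω ≠ ⊥ := by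
      have hnt : Nontrivial ↥N := (Subgroup.nontrivial_iff_ne_bot N).mpr hN0
      obtain ⟨k, hk0, hk⟩ := hNq.nontrivial_iff_card.mp hnt
      have hdvd : q ∣ Nat.card ↥N := by rw [hk]; exact dvd_pow_self q hk0.ne'
      obtain ⟨x, hx⟩ := exists_prime_orderOf_dvd_card' q hdvd
      intro hbot
      have hxΩ : (x : G) ∈ Ω := by
        rw [hΩmem]
        refine ⟨x.2, ?_⟩
        have := pow_orderOf_eq_one x
        rw [hx] at this
        have := congrArg Subtype.val this
        simpa using this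
      rw [hbot, Subgroup.mem_bot] at hxΩ
      have hx1 : x = 1 := Subtype.ext hxΩ
      rw [hx1, orderOf_one] at hx
      exact hq.out.one_lt.ne' hx.symm
    have h1 := hmin Ω hΩn hΩ0 (fun x hx => ((hΩmem x).1 hx).1)
    intro a ha
    rw [← h1] at ha
    exact ((hΩmem a).1 ha).2
  have hpow : ∀ g : G, ∀ w ∈ N, g ^ (q - 1) * w = w * g ^ (q - 1) := by
    intro g w hw
    exact (Subgroup.mem_centralizer_iff.mp (hX hw) _ (pow_mem_G1 q g))
  have hc : ∀ g g' : G, ∀ w ∈ N, ⁅g, g'⁆ * w = w * ⁅g, g'⁆ := by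
    intro g g' w hw
    exact (Subgroup.mem_centralizer_iff.mp (hX hw) _ (commutator_mem_G1 q g g'))
  have hNcard : Nat.card N = q :=
    card_eq_prime_of_abelian_action q N hN0 hmin hcomm hexp hpow hc
  have hNcyc : IsCyclic N := isCyclic_of_prime_card hNcard
  have hNreach : Reach N := reach_of_isCyclic_normal N
  -- pass to the quotient
  obtain ⟨Q', hQ'⟩ : ∃ Q' : Subgroup (G ⧸ N), Q' = Q.map (QuotientGroup.mk' N) := ⟨_, rfl⟩
  have hQ'n : Q'.Normal := by
    rw [hQ']; exact Subgroup.Normal.map hQn _ (QuotientGroup.mk'_surjective N)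
  have hQ'q : IsPGroup q Q' := by rw [hQ']; exact hQ.map _
  have hQ'card : Nat.card Q' < n := by
    have h1 := card_map_mk'_of_le N Q hNQ
    rw [← hQ', hNcard, hcard] at h1
    have hpos : 0 < Nat.card Q' := Nat.card_pos
    have := hq.out.one_lt
    nlinarith
  have hii' : ∀ y ∈ G1 q (G ⧸ N), (orderOf y).Coprime q → y ∈ centralizer (Q' : Set (G ⧸ N)) := by
    intro yb hyb hcop
    rw [← G1_map q (QuotientGroup.mk' N) (QuotientGroup.mk'_surjective N)] at hyb
    obtain ⟨y, hy, rfl⟩ := hyb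
    obtain ⟨a, ha⟩ := exists_pow_coprime q y
    have h1 : y ^ q ^ a ∈ centralizer (Q : Set G) := hii _ (pow_mem hy _) ha
    have h2 : (QuotientGroup.mk' N y) ^ q ^ a ∈ centralizer (Q' : Set (G ⧸ N)) := by
      rw [Subgroup.mem_centralizer_iff]
      rintro xb hxb
      rw [hQ'] at hxb
      obtain ⟨x, hx, rfl⟩ := hxb
      have := Subgroup.mem_centralizer_iff.mp h1 x hx
      rw [← map_pow, ← map_mul, ← map_mul, this]
    have hcop' : (q ^ a).Coprime (orderOf (QuotientGroup.mk' N y)) :=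
      (Nat.Coprime.pow_right a hcop).symm
    obtain ⟨m, hm⟩ := exists_pow_eq_self_of_coprime hcop'
    rw [← hm]
    exact pow_mem h2 m
  have hreach' : Reach Q' := ih _ hQ'card (G ⧸ N) Q' hQ'n hQ'q rfl hii'
  have := Reach.comap_mk N hNreach hreach'
  rw [hQ', Subgroup.comap_map_eq, QuotientGroup.ker_mk', sup_eq_left.mpr hNQ] at this
  exact this

end chain

section qlemma

open Cfsg.Agent.Lib.Helper9_Supersolvable Cfsg.Agent.Lib.Helper9_Huppert
open Cfsg.Agent.Lib.Helper1_Transport (card_map_mk'_of_le)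
open Cfsg.Agent.Lib.Helper24_CoprimeAction (exists_fixed_in_coset)
open Cfsg.Agent.Lib.Helper35_PGroupAut (mem_centralizer_of_commute_omega_odd)

variable {G : Type u} [Group G] [Finite G] {q : ℕ} [hq : Fact q.Prime]

/-- between a subgroup of order `q ^ j` and a subgroup of order `q ^ m` there are subgroups of every
intermediate order -/
theorem exists_subgroup_between {Z F : Subgroup G} (hZF : Z ≤ F) {j n m : ℕ}
    (hZ : Nat.card Z = q ^ j) (hF : Nat.card F = q ^ m) (hjn : j ≤ n) (hnm : n ≤ m) :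
    ∃ E : Subgroup G, Z ≤ E ∧ E ≤ F ∧ Nat.card E = q ^ n := by
  have h1 : q ^ n ∣ Nat.card F := by rw [hF]; exact pow_dvd_pow q hnm
  have h2 : Nat.card (Z.subgroupOf F) = q ^ j := by
    rw [Nat.card_congr (subgroupOfEquivOfLe hZF).toEquiv, hZ]
  obtain ⟨K, hK, hle⟩ := Sylow.exists_subgroup_card_pow_prime_le q h1 (Z.subgroupOf F) h2 hjn
  refine ⟨K.map F.subtype, ?_, map_subtype_le K, ?_⟩
  · intro z hz
    exact ⟨⟨z, hZF hz⟩, hle (mem_subgroupOf.2 hz), rfl⟩
  · rw [card_map_of_injective (subtype_injective F), hK]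

omit [Finite G] in
/-- `G1` centralizes the normal subgroups of order `q` -/
theorem G1_le_centralizer_of_card_prime (Y : Subgroup G) [Y.Normal] (hY : Nat.card Y = q) :
    G1 q G ≤ centralizer (Y : Set G) := by
  rw [G1, Subgroup.closure_le]
  rintro x (⟨g, rfl⟩ | ⟨g, g', rfl⟩)
  · rw [SetLike.mem_coe, Subgroup.mem_centralizer_iff]
    intro y hy
    exact (pow_pred_commutes_of_card_prime q Y hY g y hy).symm
  · rw [SetLike.mem_coe, Subgroup.mem_centralizer_iff]
    intro y hy
    exact (commutator_commutes_of_card_prime q Y hY g g' y hy).symm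

/-- `G1` acts trivially on the normal sections of order `q` -/
theorem G1_section (M X : Subgroup G) [hM : M.Normal] [hX : X.Normal] (hMX : M ≤ X)
    (hcard : Nat.card X = Nat.card M * q) {a : G} (ha : a ∈ G1 q G) {u : G} (hu : u ∈ X) :
    u⁻¹ * (a * u * a⁻¹) ∈ M := by
  have hYn : (X.map (QuotientGroup.mk' M)).Normal :=
    Subgroup.Normal.map hX _ (QuotientGroup.mk'_surjective M)
  have hYc : Nat.card (X.map (QuotientGroup.mk' M)) = q := by
    have h1 := card_map_mk'_of_le M X hMX
    rw [hcard, mul_comm] at h1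
    have hpos : 0 < Nat.card M := Nat.card_pos
    exact Nat.eq_of_mul_eq_mul_left hpos h1
  have ha' : QuotientGroup.mk' M a ∈ G1 q (G ⧸ M) := by
    rw [← G1_map q (QuotientGroup.mk' M) (QuotientGroup.mk'_surjective M)]
    exact Subgroup.mem_map_of_mem _ ha
  have h2 := G1_le_centralizer_of_card_prime _ hYc ha'
  have h3 := Subgroup.mem_centralizer_iff.mp h2 _
    (Subgroup.mem_map_of_mem (QuotientGroup.mk' M) hu)
  rw [← QuotientGroup.eq_one_iff]
  have h4 : ((u⁻¹ * (a * u * a⁻¹) : G) : G ⧸ M) =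
      (QuotientGroup.mk' M u)⁻¹ * (QuotientGroup.mk' M a * QuotientGroup.mk' M u *
        (QuotientGroup.mk' M a)⁻¹) := by
    simp
  rw [h4, ← h3]
  group

/-- **Burnside-type lemma.** A `q'`-group `A` acting trivially on `X / M` for every maximal
subgroup `M` of the `q`-group `X` centralizes `X`. -/
theorem centralizes_of_trivial_on_max_quotients (X A : Subgroup G) (hX : IsPGroup q X)
    (hcop : (Nat.card A).Coprime q)
    (h : ∀ M : Subgroup G, M ≤ X → Nat.card X = Nat.card M * q →
      A ≤ normalizer (M : Set G) ∧ ∀ a ∈ A, ∀ u ∈ X, u⁻¹ * (a * u * a⁻¹) ∈ M) :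
    ∀ a ∈ A, ∀ u ∈ X, a * u = u * a := by
  classical
  by_contra hcon
  push Not at hcon
  obtain ⟨a0, ha0, u0, hu0, hne⟩ := hcon
  obtain ⟨C, hC⟩ : ∃ C : Subgroup G, C = X ⊓ centralizer (A : Set G) := ⟨_, rfl⟩
  have hCX : C ≤ X := by rw [hC]; exact inf_le_left
  have hCne : C ≠ X := by
    intro heq
    apply hne
    have : u0 ∈ C := by rw [heq]; exact hu0
    rw [hC] at this
    exact (Subgroup.mem_centralizer_iff.mp this.2 a0 ha0)
  obtain ⟨n, hn⟩ := hX.exists_card_eq
  obtain ⟨j, hj⟩ := (hX.to_le hCX).exists_card_eq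
  have hlt : Nat.card C < Nat.card X := by
    have hle : Nat.card C ≤ Nat.card X := Subgroup.card_le_of_le hCX
    rcases hle.lt_or_eq with h1 | h1
    · exact h1
    · exact absurd (Subgroup.eq_of_le_of_card_ge hCX h1.ge) hCne
  have hjn : j < n := by
    rw [hj, hn] at hlt
    exact (Nat.pow_lt_pow_iff_right hq.out.one_lt).mp hlt
  obtain ⟨M, hCM, hMX, hMcard⟩ := exists_subgroup_between hCX hj hn
    (show j ≤ n - 1 by omega) (show n - 1 ≤ n by omega)
  have hXM : Nat.card X = Nat.card M * q := by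
    rw [hn, hMcard, ← pow_succ]
    congr 1
    omega
  obtain ⟨hAM, htriv⟩ := h M hMX hXM
  obtain ⟨u, huX, huM⟩ : ∃ u ∈ X, u ∉ M := by
    by_contra hall
    push Not at hall
    have hle : X ≤ M := hall
    have h1 : Nat.card X ≤ Nat.card M := Subgroup.card_le_of_le hle
    rw [hXM] at h1
    have hpos : 0 < Nat.card M := Nat.card_pos
    have := hq.out.one_lt
    nlinarith
  have hMq : IsPGroup q M := hX.to_le hMX
  have hMnil : Group.IsNilpotent M := hMq.isNilpotent
  have hMsolv : Group.IsSolvable M := inferInstance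
  have hcopM : (Nat.card A).Coprime (Nat.card M) := by
    rw [hMcard]; exact Nat.Coprime.pow_right _ hcop
  obtain ⟨d, hd, hfix⟩ := exists_fixed_in_coset A M hAM hcopM (Or.inr hMsolv) u
    (fun a ha => htriv a ha u huX)
  have h1 : u * d ∈ C := by
    rw [hC]
    refine Subgroup.mem_inf.mpr ⟨X.mul_mem huX (hMX hd), ?_⟩
    rw [Subgroup.mem_centralizer_iff]
    intro a ha
    exact hfix a ha
  have h2 : u * d ∈ M := hCM h1
  apply huM
  have := M.mul_mem h2 (M.inv_mem hd)
  simpa using this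

/-- **Cyclic normal subgroups.** A `q'`-element of `G1` centralizes every cyclic normal
`q`-subgroup. -/
theorem commute_of_isCyclic_normal (F : Subgroup G) [hFn : F.Normal] [hFc : IsCyclic F]
    {d : ℕ} (hd : 1 ≤ d) (hF : Nat.card F = q ^ d) {y : G} (hy : y ∈ G1 q G)
    (hcop : (orderOf y).Coprime q) : ∀ x ∈ F, y * x = x * y := by
  classical
  have hcomm : ∀ a b : MulAut F, a * b = b * a := by
    intro a b
    apply (IsCyclic.mulAutMulEquiv F).injective
    rw [map_mul, map_mul, mul_comm]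
  have hcardA : Nat.card (MulAut F) = q ^ (d - 1) * (q - 1) := by
    rw [IsCyclic.card_mulAut, hF]
    obtain ⟨e, rfl⟩ : ∃ e, d = e + 1 := ⟨d - 1, by omega⟩
    rw [Nat.totient_prime_pow_succ hq.out]
    simp
  have hfinA : Finite (MulAut F) := by
    apply Nat.finite_of_card_ne_zero
    rw [hcardA]
    have := hq.out.one_lt
    have h1 : 0 < q ^ (d - 1) := pow_pos hq.out.pos _
    have h2 : 0 < q - 1 := by omega
    exact (Nat.mul_pos h1 h2).ne'
  let S : Subgroup G :=
    { carrier := {g | (MulAut.conjNormal (H := F) g) ^ (q ^ (d - 1)) = 1}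
      one_mem' := by simp
      mul_mem' := by
        intro a b ha hb
        simp only [Set.mem_ofPred_eq] at ha hb ⊢
        have hab : Commute (MulAut.conjNormal (H := F) a) (MulAut.conjNormal (H := F) b) :=
          hcomm _ _
        rw [map_mul, hab.mul_pow, ha, hb, one_mul]
      inv_mem' := by
        intro a ha
        simp only [Set.mem_ofPred_eq] at ha ⊢
        rw [map_inv, inv_pow, ha, inv_one] }
  have hSmem : ∀ g, g ∈ S ↔ (MulAut.conjNormal (H := F) g) ^ (q ^ (d - 1)) = 1 := fun g => Iff.rfl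
  have hle : G1 q G ≤ S := by
    rw [G1, Subgroup.closure_le]
    rintro x (⟨g, rfl⟩ | ⟨g, g', rfl⟩)
    · rw [SetLike.mem_coe, hSmem, map_pow, ← pow_mul, mul_comm, ← hcardA]
      exact pow_card_eq_one'
    · rw [SetLike.mem_coe, hSmem, map_commutatorElement]
      have : ⁅MulAut.conjNormal (H := F) g, MulAut.conjNormal (H := F) g'⁆ = 1 := by
        rw [commutatorElement_eq_one_iff_mul_comm]
        exact hcomm _ _
      rw [this, one_pow]
  have h1 : (MulAut.conjNormal (H := F) y) ^ (q ^ (d - 1)) = 1 := (hSmem y).mp (hle hy)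
  have h2 : (MulAut.conjNormal (H := F) y) ^ (orderOf y) = 1 := by
    rw [← map_pow, pow_orderOf_eq_one, map_one]
  have h3 : orderOf (MulAut.conjNormal (H := F) y) = 1 := by
    have hd1 := orderOf_dvd_of_pow_eq_one h1
    have hd2 := orderOf_dvd_of_pow_eq_one h2
    have hc : (orderOf (MulAut.conjNormal (H := F) y)).Coprime (q ^ (d - 1)) :=
      Nat.Coprime.coprime_dvd_left hd2 (Nat.Coprime.pow_right _ hcop)
    exact Nat.Coprime.eq_one_of_dvd hc hd1
  have h4 : MulAut.conjNormal (H := F) y = 1 := orderOf_eq_one_iff.mp h3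
  intro x hx
  have h5 := MulAut.conjNormal_apply (H := F) y ⟨x, hx⟩
  rw [h4] at h5
  have h6 : x = y * x * y⁻¹ := h5
  calc y * x = (y * x * y⁻¹) * y := by group
    _ = x * y := by rw [← h6]

/-- a noncyclic `q`-group of order `q ^ (d + 1)` all of whose subgroups of order `q ^ d` are normal
in `G` is normal in `G` -/
theorem normal_of_maximal_normal (X : Subgroup G) (hX : IsPGroup q X) {d : ℕ}
    (hXcard : Nat.card X = q ^ (d + 1)) (hnc : ¬ IsCyclic X)
    (hM : ∀ M : Subgroup G, M ≤ X → Nat.card M = q ^ d → M.Normal) : X.Normal := by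
  constructor
  intro u hu g
  have hzle : zpowers u ≤ X := zpowers_le.mpr hu
  obtain ⟨j, hj⟩ := (hX.to_le hzle).exists_card_eq
  have hjd : j ≤ d := by
    by_contra hcon
    push Not at hcon
    have hge : Nat.card X ≤ Nat.card (zpowers u) := by
      rw [hXcard, hj]; exact Nat.pow_le_pow_right hq.out.pos hcon
    have heq := Subgroup.eq_of_le_of_card_ge hzle hge
    apply hnc
    rw [← heq]
    infer_instance
  obtain ⟨M, huM, hMX, hMcard⟩ := exists_subgroup_between hzle hj hXcard hjd (Nat.le_succ d)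
  have := hM M hMX hMcard
  exact hMX (this.conj_mem u (huM (mem_zpowers u)) g)

/-- a `q'`-element of `G1` commutes with the elements of order `q` of `Q` (`q` odd) -/
theorem commute_of_pow_eq_one (Q : Subgroup G) (hQ : IsPGroup q Q)
    {d : ℕ} (hd : 1 ≤ d) (hdQ : q ^ d < Nat.card Q)
    (hF : ∀ F : Subgroup G, F ≤ Q → Nat.card F = q ^ d → F.Normal)
    {y : G} (hy : y ∈ G1 q G) (hcop : (orderOf y).Coprime q) {x : G} (hxQ : x ∈ Q)
    (hx : x ^ q = 1) : Commute y x := by
  by_cases hx1 : x = 1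
  · rw [hx1]; exact Commute.one_right y
  have hox : orderOf x = q := orderOf_eq_prime hx hx1
  have hzc : Nat.card (zpowers x) = q ^ 1 := by rw [Nat.card_zpowers, hox, pow_one]
  have hzle : zpowers x ≤ Q := zpowers_le.mpr hxQ
  obtain ⟨n, hn⟩ := hQ.exists_card_eq
  have hdn : d < n := by
    rw [hn] at hdQ; exact (Nat.pow_lt_pow_iff_right hq.out.one_lt).mp hdQ
  obtain ⟨F, hxF, hFQ, hFcard⟩ := exists_subgroup_between hzle hzc hn hd hdn.le
  have hFn : F.Normal := hF F hFQ hFcard
  have hxF' : x ∈ F := hxF (mem_zpowers x)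
  by_cases hFc : IsCyclic F
  · exact commute_of_isCyclic_normal F hd hFcard hy hcop x hxF'
  obtain ⟨X, hFX, hXQ, hXcard⟩ := exists_subgroup_between hFQ hFcard hn (Nat.le_succ d) hdn
  have hXq : IsPGroup q X := hQ.to_le hXQ
  have hXnc : ¬ IsCyclic X := fun h => hFc (Subgroup.isCyclic_of_le hFX)
  have hMn : ∀ M : Subgroup G, M ≤ X → Nat.card M = q ^ d → M.Normal :=
    fun M hMX hMc => hF M (hMX.trans hXQ) hMc
  have hXn : X.Normal := normal_of_maximal_normal X hXq hXcard hXnc hMn
  have hcopA : (Nat.card (zpowers y)).Coprime q := by rw [Nat.card_zpowers]; exact hcop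
  have key := centralizes_of_trivial_on_max_quotients X (zpowers y) hXq hcopA (by
    intro M hMX hXM
    have hMc : Nat.card M = q ^ d := by
      rw [hXcard, pow_succ] at hXM
      exact (Nat.eq_of_mul_eq_mul_right hq.out.pos hXM).symm
    have hMnorm : M.Normal := hMn M hMX hMc
    refine ⟨?_, ?_⟩
    · rw [Subgroup.normalizer_eq_top_iff.mpr hMnorm]; exact le_top
    · intro a ha u hu
      have haG1 : a ∈ G1 q G := (zpowers_le.mpr hy) ha
      exact G1_section M X hMX hXM haG1 hu)
  exact key y (mem_zpowers y) x (hFX hxF')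

/-- the case `q = 2`, from S3803 -/
theorem mem_centralizer_two (Q : Subgroup G) [hQn : Q.Normal] (hQ : IsPGroup 2 Q) {d : ℕ}
    (hd : 1 ≤ d) (hdQ : 2 ^ d < Nat.card Q)
    (hF : ∀ F : Subgroup G, F ≤ Q → (Nat.card F = 2 ^ d ∨ (2 ^ d = 2 ∧ Nat.card F = 4)) → F.Normal)
    {y : G} (hcop : (orderOf y).Coprime 2) : y ∈ centralizer (Q : Set G) := by
  obtain ⟨n, hn⟩ := hQ.exists_card_eq
  have hdn : d < n := by
    rw [hn] at hdQ; exact (Nat.pow_lt_pow_iff_right (by norm_num)).mp hdQ
  obtain ⟨D, -, hDQ, hDcard⟩ := exists_subgroup_between (q := 2) (bot_le : (⊥ : Subgroup G) ≤ Q)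
    (j := 0) (by simp) hn (Nat.zero_le d) hdn.le
  have hodd : Odd (Nat.card (zpowers y)) := by
    rw [Nat.card_zpowers]; exact Nat.coprime_two_right.mp hcop
  have h1 : 1 < Nat.card D := by
    rw [hDcard]; exact Nat.one_lt_two_pow (by omega)
  have key := Cfsg.Agent.S3803.result Q (zpowers y) D hQ hodd
    (by rw [Subgroup.normalizer_eq_top_iff.mpr hQn]; exact le_top) hDQ h1
    (by rw [hDcard]; exact hdQ)
    (by
      intro E hEQ hE
      have hEn : E.Normal := by
        apply hF E hEQ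
        rcases hE with h | ⟨h, h'⟩
        · left; rw [h, hDcard]
        · right; exact ⟨by rw [← hDcard]; exact h, h'⟩
      rw [Subgroup.normalizer_eq_top_iff.mpr hEn]; exact le_top)
  exact key (mem_zpowers y)

/-- **Q-lemma.** If `Q` is a normal `q`-subgroup of `G` with `G ⧸ Q` supersolvable and `Q` is
cyclic, or all subgroups of `Q` of some order `q ^ d` with `1 < q ^ d < |Q|` (and of order `4` when
`q ^ d = 2`) are normal in `G`, then `G` is supersolvable. -/
theorem isSupersolvable_of_normal_pgroup (Q : Subgroup G) [hQn : Q.Normal] (hQ : IsPGroup q Q)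
    (hquot : Cfsg.IsSupersolvable (G ⧸ Q))
    (hyp : IsCyclic Q ∨ ∃ d : ℕ, 1 ≤ d ∧ q ^ d < Nat.card Q ∧
      ∀ F : Subgroup G, F ≤ Q → (Nat.card F = q ^ d ∨ (q ^ d = 2 ∧ Nat.card F = 4)) → F.Normal) :
    Cfsg.IsSupersolvable G := by
  have hreach : Reach Q := by
    rcases hyp with hc | ⟨d, hd, hdQ, hF⟩
    · exact reach_of_isCyclic_normal Q
    · apply reach_of_G1 q _ G Q hQn hQ rfl
      intro y hy hcop
      by_cases hq2 : q = 2
      · subst hq2
        exact mem_centralizer_two Q hQ hd hdQ hF hcop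
      · apply mem_centralizer_of_commute_omega_odd hq2 hcop Q hQ
          (by rw [Subgroup.normalizer_eq_top_iff.mpr hQn]; exact Subgroup.mem_top y)
        intro x hxQ hx
        exact commute_of_pow_eq_one Q hQ hd hdQ (fun F hFQ hFc => hF F hFQ (Or.inl hFc)) hy hcop
          hxQ hx
  have h1 : Reach (⊤ : Subgroup (G ⧸ Q)) := isSupersolvable_iff_reach_top.mp hquot
  have h2 := Reach.comap_mk Q hreach h1
  rw [Subgroup.comap_top] at h2
  exact isSupersolvable_iff_reach_top.mpr h2

end qlemma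

end Cfsg.Agent.Lib.Helper32_SupEmb
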