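import Mathlib
import Cfsg.Agent.Lib.Helper1_Frattini
import Cfsg.Agent.Lib.Helper35_FrobeniusNPC

/-!
Tate's theorem (helper84): if a normal subgroup `N` of a finite group `G` meets a Sylow `p`-subgroup `P`
inside `Φ(P)`, then `N` has a normal `p`-complement.

The proof lifts retractions `G → P/L` along central chief factors of `P`: the pull-back central extension splits
because its kernel is a direct factor of a Sylow subgroup (transfer), and the splitting is corrected by a
homomorphism `G → C_p` extending a given one on `P`.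
-/

set_option autoImplicit false

namespace Cfsg.Agent.Lib.Helper84_Tate

open scoped IsMulCommutative

universe u

variable {G : Type u} [Group G] [Finite G] {p : ℕ} [Fact p.Prime]

/-- The lifting step: a homomorphism `θb : G → Q/⟨z⟩` (`z` central of order `p`) extending `mk ∘ q` on the Sylow
subgroup `P` lifts to a homomorphism `G → Q` extending `q`, provided homomorphisms `P → ⟨z⟩` extend to `G`. -/
theorem exists_lift (P : Sylow p G) {Q : Type u} [Group Q] [Finite Q] (q : P →* Q)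
    (z : Q) (hzc : z ∈ Subgroup.center Q) (hz : orderOf z = p)
    [hZn : (Subgroup.zpowers z).Normal]
    (θb : G →* Q ⧸ Subgroup.zpowers z) (hθb : ∀ x : P, θb x = QuotientGroup.mk (q x))
    (hext : ∀ δ : P →* Subgroup.zpowers z, ∃ δ' : G →* Subgroup.zpowers z, ∀ x : P, δ' x = δ x) :
    ∃ θ : G →* Q, ∀ x : P, θ x = q x := by
  classical
  have hZc : ∀ w ∈ Subgroup.zpowers z, ∀ y : Q, w * y = y * w := by
    intro w hw y
    obtain ⟨k, rfl⟩ := Subgroup.mem_zpowers_iff.1 hw
    have h1 : z ^ k ∈ Subgroup.center Q := (Subgroup.center Q).zpow_mem hzc k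
    exact (Subgroup.mem_center_iff.1 h1 y).symm
  -- the pull-back
  let f₁ : G × Q →* Q ⧸ Subgroup.zpowers z := θb.comp (MonoidHom.fst G Q)
  let f₂ : G × Q →* Q ⧸ Subgroup.zpowers z :=
    (QuotientGroup.mk' (Subgroup.zpowers z)).comp (MonoidHom.snd G Q)
  let E : Subgroup (G × Q) := f₁.eqLocus f₂
  have hE : ∀ e : G × Q, e ∈ E ↔ θb e.1 = QuotientGroup.mk e.2 := fun e => Iff.rfl
  let pr₁ : E →* G := (MonoidHom.fst G Q).comp E.subtype
  let pr₂ : E →* Q := (MonoidHom.snd G Q).comp E.subtype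
  have hpr₁ : Function.Surjective pr₁ := by
    intro g
    obtain ⟨y, hy⟩ := QuotientGroup.mk_surjective (θb g)
    exact ⟨⟨(g, y), hy.symm⟩, rfl⟩
  have hmem : ∀ e : E, ((e : G × Q).1 ∈ (P : Subgroup G)) → ∀ hx : (e : G × Q).1 ∈ (P : Subgroup G),
      (q ⟨(e : G × Q).1, hx⟩)⁻¹ * (e : G × Q).2 ∈ Subgroup.zpowers z := by
    intro e _ hx
    have h1 : θb (e : G × Q).1 = QuotientGroup.mk (e : G × Q).2 := e.2
    have h2 := hθb ⟨(e : G × Q).1, hx⟩
    rw [h1] at h2
    exact QuotientGroup.eq.1 h2.symm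
  -- the Sylow subgroup of the pull-back and its projection to `⟨z⟩`
  let Pt : Subgroup E := (P : Subgroup G).comap pr₁
  have hPt : ∀ e : E, e ∈ Pt ↔ (e : G × Q).1 ∈ (P : Subgroup G) := fun e => Iff.rfl
  have hidx : Pt.index = (P : Subgroup G).index := Subgroup.index_comap_of_surjective _ hpr₁
  let ϕ : Pt →* Subgroup.zpowers z :=
    { toFun := fun e => ⟨(q ⟨((e : E) : G × Q).1, e.2⟩)⁻¹ * ((e : E) : G × Q).2, hmem e.1 e.2 e.2⟩
      map_one' := by
        apply Subtype.ext
        show (q ⟨(1 : G), _⟩)⁻¹ * (1 : Q) = 1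
        have : (⟨(1 : G), (P : Subgroup G).one_mem⟩ : P) = 1 := rfl
        rw [this, map_one, inv_one, one_mul]
      map_mul' := by
        intro a b
        apply Subtype.ext
        show (q ⟨((a : E) : G × Q).1 * ((b : E) : G × Q).1, _⟩)⁻¹ * (((a : E) : G × Q).2 * ((b : E) : G × Q).2) =
          ((q ⟨((a : E) : G × Q).1, a.2⟩)⁻¹ * ((a : E) : G × Q).2) * ((q ⟨((b : E) : G × Q).1, b.2⟩)⁻¹ * ((b : E) : G × Q).2)
        have h1 : (⟨((a : E) : G × Q).1 * ((b : E) : G × Q).1, (P : Subgroup G).mul_mem a.2 b.2⟩ : P) =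
            ⟨((a : E) : G × Q).1, a.2⟩ * ⟨((b : E) : G × Q).1, b.2⟩ := rfl
        rw [h1, map_mul, mul_inv_rev]
        have h2 := hZc _ (hmem a.1 a.2 a.2) ((q ⟨((b : E) : G × Q).1, b.2⟩)⁻¹)
        calc (q ⟨((b : E) : G × Q).1, b.2⟩)⁻¹ * (q ⟨((a : E) : G × Q).1, a.2⟩)⁻¹ * (((a : E) : G × Q).2 * ((b : E) : G × Q).2)
            = (q ⟨((b : E) : G × Q).1, b.2⟩)⁻¹ * ((q ⟨((a : E) : G × Q).1, a.2⟩)⁻¹ * ((a : E) : G × Q).2) * ((b : E) : G × Q).2 := by
              group
          _ = ((q ⟨((a : E) : G × Q).1, a.2⟩)⁻¹ * ((a : E) : G × Q).2) * (q ⟨((b : E) : G × Q).1, b.2⟩)⁻¹ * ((b : E) : G × Q).2 := by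
              rw [h2]
          _ = _ := by group }
  have : Pt.FiniteIndex := inferInstance
  let T : E →* Subgroup.zpowers z := MonoidHom.transfer ϕ
  -- the central element `ζ = (1, z)`
  have hζE : ((1 : G), z) ∈ E := by
    rw [hE]
    show θb 1 = QuotientGroup.mk z
    rw [map_one]
    exact ((QuotientGroup.eq_one_iff z).2 (Subgroup.mem_zpowers z)).symm
  let ζ : E := ⟨((1 : G), z), hζE⟩
  have hζc : ∀ e : E, ζ * e = e * ζ := by
    intro e
    apply Subtype.ext
    apply Prod.ext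
    · show (1 : G) * (e : G × Q).1 = (e : G × Q).1 * 1
      rw [one_mul, mul_one]
    · show z * (e : G × Q).2 = (e : G × Q).2 * z
      exact hZc z (Subgroup.mem_zpowers z) _
  have hζpow : ∀ k : ℕ, ((ζ ^ k : E) : G × Q) = ((1 : G), z ^ k) := by
    intro k
    induction k with
    | zero => rw [pow_zero, pow_zero]; rfl
    | succ k ih =>
      rw [pow_succ, Subgroup.coe_mul, ih]
      apply Prod.ext
      · show (1 : G) * 1 = 1
        rw [one_mul]
      · show z ^ k * z = z ^ (k + 1)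
        rw [pow_succ]
  have hζPt : ∀ k : ℕ, ζ ^ k ∈ Pt := by
    intro k
    rw [hPt, hζpow]
    exact (P : Subgroup G).one_mem
  have hTζ : ((T ζ : Subgroup.zpowers z) : Q) = z ^ (P : Subgroup G).index := by
    have key : ∀ (k : ℕ) (g₀ : E), g₀⁻¹ * ζ ^ k * g₀ ∈ Pt → g₀⁻¹ * ζ ^ k * g₀ = ζ ^ k := by
      intro k g₀ _
      have h1 : ζ ^ k * g₀ = g₀ * ζ ^ k := (Commute.pow_left (show Commute ζ g₀ from hζc g₀) k).eq
      rw [mul_assoc, h1, ← mul_assoc, inv_mul_cancel, one_mul]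
    have h2 := MonoidHom.transfer_eq_pow ϕ ζ key
    show ((MonoidHom.transfer ϕ ζ : Subgroup.zpowers z) : Q) = _
    rw [h2, ← hidx]
    show (q ⟨((ζ ^ Pt.index : E) : G × Q).1, _⟩)⁻¹ * ((ζ ^ Pt.index : E) : G × Q).2 = _
    have h3 : (⟨((ζ ^ Pt.index : E) : G × Q).1, hζPt _⟩ : P) = 1 := by
      apply Subtype.ext
      show ((ζ ^ Pt.index : E) : G × Q).1 = 1
      rw [hζpow]
    rw [h3, map_one, inv_one, one_mul, hζpow]
  have hcop : ¬ p ∣ (P : Subgroup G).index := P.not_dvd_index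
  have hζzpow : ∀ k : ℤ, ((ζ ^ k : E) : G × Q) = ((1 : G), z ^ k) := by
    intro k
    rw [Subgroup.coe_zpow]
    apply Prod.ext
    · show (((1 : G), z) ^ k).1 = 1
      rw [Prod.pow_fst, one_zpow]
    · show (((1 : G), z) ^ k).2 = z ^ k
      rw [Prod.pow_snd]
  have hTζz : ∀ k : ℤ, ((T (ζ ^ k) : Subgroup.zpowers z) : Q) = z ^ ((P : Subgroup G).index * k : ℤ) := by
    intro k
    rw [map_zpow, Subgroup.coe_zpow, hTζ, ← zpow_natCast, ← zpow_mul]
  have hpr₁ζ : ∀ k : ℤ, pr₁ (ζ ^ k) = 1 := by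
    intro k
    show ((ζ ^ k : E) : G × Q).1 = 1
    rw [hζzpow]
  -- the kernel of `T` maps isomorphically onto `G`
  have hexists : ∀ g : G, ∃ e : E, T e = 1 ∧ pr₁ e = g := by
    intro g
    obtain ⟨e₀, he₀⟩ := hpr₁ g
    obtain ⟨i, hi⟩ := Subgroup.mem_zpowers_iff.1 (T e₀).2
    have hcop' : IsCoprime ((P : Subgroup G).index : ℤ) (p : ℤ) := by
      rw [Int.isCoprime_iff_gcd_eq_one, Int.gcd_natCast_natCast]
      exact (Nat.coprime_comm.1 ((Nat.Prime.coprime_iff_not_dvd Fact.out).2 hcop))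
    obtain ⟨a, b, hab⟩ := hcop'
    refine ⟨e₀ * ζ ^ (-(a * i)), ?_, ?_⟩
    · apply Subtype.ext
      rw [map_mul, Subgroup.coe_mul, hTζz, ← hi, ← zpow_add, Subgroup.coe_one]
      have h1 : i + ((P : Subgroup G).index : ℤ) * -(a * i) = (p : ℤ) * (b * i) := by
        have : a * ((P : Subgroup G).index : ℤ) = 1 - b * p := by linarith
        calc i + ((P : Subgroup G).index : ℤ) * -(a * i) = i * (1 - a * ((P : Subgroup G).index : ℤ)) := by ring
          _ = i * (1 - (1 - b * p)) := by rw [this]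
          _ = (p : ℤ) * (b * i) := by ring
      rw [h1, zpow_mul, zpow_natCast, ← hz, pow_orderOf_eq_one, one_zpow]
    · rw [map_mul, he₀, hpr₁ζ, mul_one]
  have hunique : ∀ e : E, T e = 1 → pr₁ e = 1 → e = 1 := by
    intro e hTe he
    have he1 : (e : G × Q).1 = 1 := he
    have h1 : θb (e : G × Q).1 = QuotientGroup.mk (e : G × Q).2 := e.2
    rw [he1, map_one] at h1
    have h2 : (e : G × Q).2 ∈ Subgroup.zpowers z := (QuotientGroup.eq_one_iff _).1 h1.symm
    obtain ⟨i, hi⟩ := Subgroup.mem_zpowers_iff.1 h2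
    have h3 : e = ζ ^ i := by
      apply Subtype.ext
      rw [hζzpow]
      exact Prod.ext he1 hi.symm
    have h4 : z ^ (((P : Subgroup G).index : ℤ) * i) = 1 := by
      rw [← hTζz, ← h3, hTe, Subgroup.coe_one]
    have h5 : (p : ℤ) ∣ ((P : Subgroup G).index : ℤ) * i := by
      have h := orderOf_dvd_iff_zpow_eq_one.2 h4
      rwa [hz] at h
    have h6 : (p : ℤ) ∣ i := by
      rcases (Int.prime_iff_natAbs_prime.2 (by simpa using (Fact.out : p.Prime))).dvd_or_dvd h5 with h | h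
      · exact absurd (Int.natCast_dvd_natCast.1 h) hcop
      · exact h
    obtain ⟨j, rfl⟩ := h6
    rw [h3]
    apply Subtype.ext
    rw [hζzpow, zpow_mul, zpow_natCast, ← hz, pow_orderOf_eq_one, one_zpow]
    rfl
  let ρ : T.ker →* G := pr₁.comp T.ker.subtype
  have hρ : Function.Bijective ρ := by
    constructor
    · rw [injective_iff_map_eq_one]
      intro k hk
      exact Subtype.ext (hunique k.1 (MonoidHom.mem_ker.1 k.2) hk)
    · intro g
      obtain ⟨e, hTe, he⟩ := hexists g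
      exact ⟨⟨e, MonoidHom.mem_ker.2 hTe⟩, he⟩
  let ε : T.ker ≃* G := MulEquiv.ofBijective ρ hρ
  let θ₂ : G →* Q := (pr₂.comp T.ker.subtype).comp ε.symm.toMonoidHom
  have hθ₂ : ∀ g : G, θb g = QuotientGroup.mk (θ₂ g) := by
    intro g
    have h1 : θb (((ε.symm g : T.ker) : E) : G × Q).1 = QuotientGroup.mk (((ε.symm g : T.ker) : E) : G × Q).2 :=
      ((ε.symm g : T.ker) : E).2
    have h2 : (((ε.symm g : T.ker) : E) : G × Q).1 = g := ε.apply_symm_apply g
    rw [h2] at h1
    exact h1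
  have hδmem : ∀ x : P, (q x)⁻¹ * θ₂ x ∈ Subgroup.zpowers z := by
    intro x
    have h1 := hθ₂ x
    rw [hθb x] at h1
    exact QuotientGroup.eq.1 h1
  let δ : P →* Subgroup.zpowers z :=
    { toFun := fun x => ⟨(q x)⁻¹ * θ₂ x, hδmem x⟩
      map_one' := by
        apply Subtype.ext
        show (q 1)⁻¹ * θ₂ ((1 : P) : G) = 1
        rw [map_one, inv_one, one_mul, OneMemClass.coe_one, map_one]
      map_mul' := by
        intro a b
        apply Subtype.ext
        show (q (a * b))⁻¹ * θ₂ ((a * b : P) : G) = ((q a)⁻¹ * θ₂ a) * ((q b)⁻¹ * θ₂ b)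
        rw [map_mul, mul_inv_rev, Subgroup.coe_mul, map_mul]
        have h2 := hZc _ (hδmem a) ((q b)⁻¹)
        calc (q b)⁻¹ * (q a)⁻¹ * (θ₂ a * θ₂ b) = (q b)⁻¹ * ((q a)⁻¹ * θ₂ a) * θ₂ b := by group
          _ = ((q a)⁻¹ * θ₂ a) * (q b)⁻¹ * θ₂ b := by rw [h2]
          _ = _ := by group }
  obtain ⟨δ', hδ'⟩ := hext δ
  refine ⟨MonoidHom.mk' (fun g => θ₂ g * ((δ' g : Subgroup.zpowers z) : Q)⁻¹) ?_, ?_⟩
  · intro a b
    show θ₂ (a * b) * ((δ' (a * b) : Subgroup.zpowers z) : Q)⁻¹ =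
      θ₂ a * ((δ' a : Subgroup.zpowers z) : Q)⁻¹ * (θ₂ b * ((δ' b : Subgroup.zpowers z) : Q)⁻¹)
    rw [map_mul, map_mul, Subgroup.coe_mul, mul_inv_rev]
    have h2 := hZc _ ((Subgroup.zpowers z).inv_mem (δ' a).2) (θ₂ b)
    calc θ₂ a * θ₂ b * (((δ' b : Subgroup.zpowers z) : Q)⁻¹ * ((δ' a : Subgroup.zpowers z) : Q)⁻¹)
        = θ₂ a * (θ₂ b * ((δ' b : Subgroup.zpowers z) : Q)⁻¹) * ((δ' a : Subgroup.zpowers z) : Q)⁻¹ := by group
      _ = θ₂ a * (((δ' a : Subgroup.zpowers z) : Q)⁻¹ * (θ₂ b * ((δ' b : Subgroup.zpowers z) : Q)⁻¹)) := by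
          rw [mul_assoc, ← hZc _ ((Subgroup.zpowers z).inv_mem (δ' a).2)]
      _ = _ := by group
  · intro x
    show θ₂ x * ((δ' x : Subgroup.zpowers z) : Q)⁻¹ = q x
    rw [hδ' x]
    show θ₂ x * ((q x)⁻¹ * θ₂ x)⁻¹ = q x
    group

/-- If every homomorphism from the Sylow subgroup `P` to a commutative group of exponent `p` extends to `G`, then
every surjection `q : P → Q` extends to `G`. -/
theorem exists_extension_of_ext (P : Sylow p G)
    (hext : ∀ (A : Type u) [CommGroup A] (δ : P →* A), (∀ a : A, a ^ p = 1) →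
      ∃ δ' : G →* A, ∀ x : P, δ' x = δ x) :
    ∀ (n : ℕ) (Q : Type u) [Group Q] [Finite Q] (q : P →* Q), Function.Surjective q → Nat.card Q = n →
      ∃ θ : G →* Q, ∀ x : P, θ x = q x := by
  intro n
  induction n using Nat.strong_induction_on with
  | _ n ih =>
    intro Q _ _ q hq hn
    by_cases htriv : Subsingleton Q
    · exact ⟨1, fun x => Subsingleton.elim _ _⟩
    · have hnt : Nontrivial Q := not_subsingleton_iff_nontrivial.1 htriv
      have hQp : IsPGroup p Q := IsPGroup.of_surjective P.2 q hq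
      have hcnt : Nontrivial (Subgroup.center Q) := hQp.center_nontrivial
      have hdvd : p ∣ Nat.card (Subgroup.center Q) := by
        rcases (hQp.to_subgroup (Subgroup.center Q)).card_eq_or_dvd with h | h
        · exact absurd h (Finite.one_lt_card_iff_nontrivial.2 hcnt).ne'
        · exact h
      obtain ⟨z', hz'⟩ := exists_prime_orderOf_dvd_card' p hdvd
      have hz : orderOf (z' : Q) = p := by rw [Subgroup.orderOf_coe, hz']
      have hZn : (Subgroup.zpowers (z' : Q)).Normal := by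
        constructor
        intro w hw g
        obtain ⟨k, rfl⟩ := Subgroup.mem_zpowers_iff.1 hw
        have h1 : (z' : Q) ^ k ∈ Subgroup.center Q := (Subgroup.center Q).zpow_mem z'.2 k
        have h2 : g * (z' : Q) ^ k = (z' : Q) ^ k * g := Subgroup.mem_center_iff.1 h1 g
        rw [h2, mul_inv_cancel_right]
        exact Subgroup.zpow_mem_zpowers _ k
      have hcard : Nat.card (Q ⧸ Subgroup.zpowers (z' : Q)) < n := by
        have h1 := Subgroup.card_eq_card_quotient_mul_card_subgroup (Subgroup.zpowers (z' : Q))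
        rw [Nat.card_zpowers, hz, hn] at h1
        have hp2 : 2 ≤ p := (Fact.out : p.Prime).two_le
        have hpos : 0 < Nat.card (Q ⧸ Subgroup.zpowers (z' : Q)) := Nat.card_pos
        nlinarith
      obtain ⟨θb, hθb⟩ := ih _ hcard (Q ⧸ Subgroup.zpowers (z' : Q))
        ((QuotientGroup.mk' (Subgroup.zpowers (z' : Q))).comp q)
        ((QuotientGroup.mk'_surjective _).comp hq) rfl
      apply exists_lift P q (z' : Q) z'.2 hz θb hθb
      intro δ
      refine hext (Subgroup.zpowers (z' : Q)) δ ?_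
      rintro ⟨a, ha⟩
      obtain ⟨k, rfl⟩ := Subgroup.mem_zpowers_iff.1 ha
      apply Subtype.ext
      show ((z' : Q) ^ k) ^ p = 1
      rw [← zpow_natCast, ← zpow_mul, mul_comm, zpow_mul, zpow_natCast, ← hz, pow_orderOf_eq_one,
        one_zpow]

open Cfsg.Agent.Lib.Helper35_FrobeniusNPC in
/-- A finite group in which every homomorphism from a Sylow `p`-subgroup `P` to a commutative group of exponent `p`
extends to the whole group has a normal `p`-complement. -/
theorem hasNPC_of_ext (P : Sylow p G)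
    (hext : ∀ (A : Type u) [CommGroup A] (δ : P →* A), (∀ a : A, a ^ p = 1) →
      ∃ δ' : G →* A, ∀ x : P, δ' x = δ x) : HasNPC p G := by
  obtain ⟨θ, hθ⟩ := exists_extension_of_ext P hext _ P (MonoidHom.id P) Function.surjective_id rfl
  have hsurj : Function.Surjective θ := fun x => ⟨x, hθ x⟩
  have hidx : θ.ker.index = Nat.card P := by
    rw [Subgroup.index_ker, MonoidHom.range_eq_top.2 hsurj, Subgroup.card_top]
  obtain ⟨k, hk⟩ := P.2.exists_card_eq
  refine ⟨θ.ker, inferInstance, ?_, k, by rw [hidx, hk]⟩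
  have h1 : Nat.card θ.ker * θ.ker.index = Nat.card G := Subgroup.card_mul_index θ.ker
  have h2 : Nat.card (P : Subgroup G) * (P : Subgroup G).index = Nat.card G :=
    Subgroup.card_mul_index (P : Subgroup G)
  have h3 : Nat.card θ.ker = (P : Subgroup G).index := by
    rw [hidx] at h1
    have hpos : 0 < Nat.card P := Nat.card_pos
    have : Nat.card θ.ker * Nat.card P = (P : Subgroup G).index * Nat.card P := by
      rw [h1, mul_comm, h2]
    exact Nat.eq_of_mul_eq_mul_right hpos this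
  rw [h3]
  exact (Nat.coprime_comm.1 ((Nat.Prime.coprime_iff_not_dvd Fact.out).2 P.not_dvd_index))

end Cfsg.Agent.Lib.Helper84_Tate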