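import Mathlib
import Cfsg.Agent.Lib.Helper32_SupEmb
import Cfsg.Agent.Lib.Helper32_Sylow
import Cfsg.Agent.S3031

/-!
Supersolvability from `ℋ`-subgroups of fixed order in the Sylow subgroups of a normal subgroup `E`
with `G ⧸ E` supersolvable (helper32): the induction for S3032.
-/

set_option autoImplicit false
open scoped Pointwise

namespace Cfsg.Agent.Lib.Helper32_SupHyp

open Subgroup
open Cfsg.Agent.Lib.Helper9_Supersolvable
open Cfsg.Agent.Lib.Helper1_Transport (card_map_mk'_of_le card_map_mk'_of_coprime card_subgroupOf)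
open Cfsg.Agent.Lib.Helper32_Sylow (card_mul_relIndex' inf_eq_bot_of_pgroup_of_coprime)
open Cfsg.Agent.Lib.Helper32_SupEmb (isSupersolvable_of_normal_pgroup)

universe u

/-- the hypothesis of S3032 on the Sylow subgroups of `E` -/
def HypS (G : Type*) [Group G] (E : Subgroup G) : Prop :=
  ∀ (p : ℕ), p.Prime → ∀ P : Subgroup G, P ≤ E → IsPGroup p P → ¬ p ∣ P.relIndex E →
    ¬ IsCyclic ↥P →
      ∃ D : Subgroup G, D ≤ P ∧ 1 < Nat.card D ∧ Nat.card D < Nat.card P ∧
        ∀ F : Subgroup G, F ≤ P → (Nat.card F = Nat.card D ∨ (Nat.card D = 2 ∧ Nat.card F = 4)) →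
          ∀ g : G, F.map (MulAut.conj g).toMonoidHom ⊓ Subgroup.normalizer (F : Set G) ≤ F

section

variable {G : Type u} [Group G] [Finite G]

/-- Sylow's theorem inside `E`, for a `p`-subgroup `P` of `E` of index prime to `p`. -/
theorem sylow_conj_into_rel {p : ℕ} [Fact p.Prime] (E P : Subgroup G)
    (hP : IsPGroup p P) (hrel : ¬ p ∣ P.relIndex E) (T : Subgroup G) (hTE : T ≤ E)
    (hT : IsPGroup p T) : ∃ c ∈ E, ∀ x ∈ T, c * x * c⁻¹ ∈ P := by
  let P' : Sylow p E := IsPGroup.toSylow (P := P.subgroupOf E) hP.comap_subtype hrel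
  have hP' : (P' : Subgroup E) = P.subgroupOf E := IsPGroup.toSylow_coe _ _
  have hpg : IsPGroup p (T.subgroupOf E) := hT.comap_subtype
  obtain ⟨R, hR⟩ := hpg.exists_le_sylow
  obtain ⟨c, hc⟩ := MulAction.exists_smul_eq E R P'
  refine ⟨c, c.2, ?_⟩
  intro x hx
  have h1 : (⟨x, hTE hx⟩ : E) ∈ R := hR (by simpa [Subgroup.mem_subgroupOf] using hx)
  have h2 : c * ⟨x, hTE hx⟩ * c⁻¹ ∈ (P' : Subgroup E) := by
    rw [← hc, Sylow.coe_subgroup_smul]
    exact Subgroup.smul_mem_pointwise_smul _ _ _ h1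
  rw [hP', Subgroup.mem_subgroupOf] at h2
  simpa using h2

omit [Finite G] in
/-- an element of order prime to the index of a normal subgroup lies in it -/
theorem mem_of_coprime_index (N : Subgroup G) [N.Normal] [N.FiniteIndex] {x : G}
    (hx : (orderOf x).Coprime N.index) : x ∈ N := by
  rw [← QuotientGroup.eq_one_iff]
  have h1 : (x : G ⧸ N) ^ orderOf x = 1 := by
    rw [← QuotientGroup.mk_pow, pow_orderOf_eq_one]; rfl
  have h2 : (x : G ⧸ N) ^ N.index = 1 := by
    rw [Subgroup.index_eq_card]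
    exact pow_card_eq_one'
  have hd1 := orderOf_dvd_of_pow_eq_one h1
  have hd2 := orderOf_dvd_of_pow_eq_one h2
  have hc : (orderOf (x : G ⧸ N)).Coprime N.index := Nat.Coprime.coprime_dvd_left hd1 hx
  exact orderOf_eq_one_iff.mp (Nat.Coprime.eq_one_of_dvd hc hd2)

/-- **Normal `p`-complement of `E`** for the smallest prime `p` dividing `|E|`, as subgroups of `G`. -/
theorem exists_npc (E : Subgroup G) [hEn : E.Normal] (hE0 : E ≠ ⊥) (h : HypS G E) :
    ∃ K P : Subgroup G, K.Normal ∧ K ≤ E ∧ P ≤ E ∧ IsPGroup (Nat.card E).minFac P ∧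
      (Nat.card K).Coprime (Nat.card E).minFac ∧ Nat.card K * Nat.card P = Nat.card E := by
  classical
  obtain ⟨p, hp⟩ : ∃ p, p = (Nat.card E).minFac := ⟨_, rfl⟩
  rw [← hp]
  have hE1 : Nat.card E ≠ 1 := fun h1 => hE0 (Subgroup.card_eq_one.mp h1)
  have hpp : p.Prime := hp ▸ Nat.minFac_prime hE1
  have : Fact p.Prime := ⟨hpp⟩
  have hdiv : p ∣ Nat.card E := hp ▸ Nat.minFac_dvd _
  have hmin : ∀ q : ℕ, q.Prime → q ∣ Nat.card E → p ≤ q :=
    fun q hq hqd => hp ▸ Nat.minFac_le_of_dvd hq.two_le hqd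
  obtain P₀ : Sylow p ↥E := default
  obtain ⟨P, hPdef⟩ : ∃ P : Subgroup G, P = (P₀ : Subgroup ↥E).map E.subtype := ⟨_, rfl⟩
  have hPE : P ≤ E := by rw [hPdef]; exact Subgroup.map_subtype_le _
  have hPp : IsPGroup p P := by rw [hPdef]; exact P₀.2.map _
  have hPsub : P.subgroupOf E = (P₀ : Subgroup ↥E) := by
    rw [hPdef]; exact Subgroup.comap_map_eq_self_of_injective E.subtype_injective _
  have hPrel : ¬ p ∣ P.relIndex E := by
    rw [Subgroup.relIndex, hPsub]; exact P₀.not_dvd_index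
  have hPcard : Nat.card (P₀ : Subgroup ↥E) = Nat.card P := by
    rw [← hPsub]; exact card_subgroupOf hPE
  -- the hypothesis of S3031 for `↥E`
  have hyp : IsCyclic ↥(P₀ : Subgroup ↥E) ∨ ∃ D : Subgroup ↥E, D ≤ (P₀ : Subgroup ↥E) ∧
      1 < Nat.card D ∧ Nat.card D < Nat.card (P₀ : Subgroup ↥E) ∧
      ∀ E' : Subgroup ↥E, E' ≤ (P₀ : Subgroup ↥E) →
        (Nat.card E' = Nat.card D ∨ (Nat.card D = 2 ∧ Nat.card E' = 4)) →
        ∀ g : ↥E, E'.map (MulAut.conj g).toMonoidHom ⊓ Subgroup.normalizer (E' : Set ↥E) ≤ E' := by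
    by_cases hcyc : IsCyclic ↥P
    · left
      have e : ↥(P₀ : Subgroup ↥E) ≃* ↥P := by
        rw [hPdef]; exact Subgroup.equivMapOfInjective _ _ E.subtype_injective
      exact isCyclic_of_surjective e.symm e.symm.surjective
    · right
      obtain ⟨D, hDP, hD1, hDlt, hF⟩ := h p hpp P hPE hPp hPrel hcyc
      have hDE : D ≤ E := hDP.trans hPE
      have hDcard : Nat.card (D.subgroupOf E) = Nat.card D := card_subgroupOf hDE
      refine ⟨D.subgroupOf E, ?_, ?_, ?_, ?_⟩
      · rw [← hPsub]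
        exact Subgroup.comap_mono hDP
      · rw [hDcard]; exact hD1
      · rw [hDcard, hPcard]; exact hDlt
      · intro E' hE'P hE'card g x hx
        obtain ⟨F, hFdef⟩ : ∃ F : Subgroup G, F = E'.map E.subtype := ⟨_, rfl⟩
        have hFP : F ≤ P := by
          rw [hFdef, hPdef]; exact Subgroup.map_mono hE'P
        have hFcard : Nat.card F = Nat.card E' := by
          rw [hFdef]; exact Subgroup.card_map_of_injective E.subtype_injective
        have hFmem : ∀ z : ↥E, (z : G) ∈ F ↔ z ∈ E' := by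
          intro z
          rw [hFdef]
          constructor
          · rintro ⟨z', hz', hzz'⟩
            have : z' = z := Subtype.ext hzz'
            rw [← this]; exact hz'
          · intro hz
            exact ⟨z, hz, rfl⟩
        have key := hF F hFP (by rw [hFcard, ← hDcard]; exact hE'card) (g : G)
        rw [← hFmem]
        apply key
        obtain ⟨hx1, hx2⟩ := Subgroup.mem_inf.mp hx
        refine Subgroup.mem_inf.mpr ⟨?_, ?_⟩
        · obtain ⟨e', he', hxe'⟩ := hx1
          refine ⟨(e' : G), (hFmem e').mpr he', ?_⟩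
          rw [← hxe']
          simp
        · apply Subgroup.mem_normalizer_fintype
          intro n hn
          have hnE : n ∈ E := hPE (hFP hn)
          have hn' : (⟨n, hnE⟩ : ↥E) ∈ E' := (hFmem ⟨n, hnE⟩).mp hn
          have h3 := (Subgroup.mem_normalizer_iff.mp hx2 ⟨n, hnE⟩).mp hn'
          have h4 := (hFmem _).mpr h3
          simpa using h4
  have hdiv' : p ∣ Nat.card ↥E := hdiv
  obtain ⟨P₁, N', hN'n, hcompl⟩ := Cfsg.Agent.S3031.result hdiv' hmin P₀ hyp
  -- the orders
  have hcm : Nat.card N' * Nat.card (P₁ : Subgroup ↥E) = Nat.card ↥E := hcompl.card_mul_card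
  have hN'idx : N'.index = Nat.card (P₁ : Subgroup ↥E) := hcompl.symm.index_eq_card
  have hP₁idx : (P₁ : Subgroup ↥E).index = Nat.card N' := hcompl.index_eq_card
  have hN'cop : (Nat.card N').Coprime p := by
    rw [← hP₁idx]
    exact ((Nat.Prime.coprime_iff_not_dvd hpp).mpr P₁.not_dvd_index).symm
  obtain ⟨k, hk⟩ := P₁.2.exists_card_eq
  refine ⟨N'.map E.subtype, (P₁ : Subgroup ↥E).map E.subtype, ?_, Subgroup.map_subtype_le _,
    Subgroup.map_subtype_le _, P₁.2.map _, ?_, ?_⟩
  · -- normality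
    constructor
    rintro x ⟨n, hn, rfl⟩ g
    have hgE : g * (n : G) * g⁻¹ ∈ E := hEn.conj_mem _ n.2 g
    have hord : orderOf (⟨g * (n : G) * g⁻¹, hgE⟩ : ↥E) = orderOf n := by
      have h1 := MulEquiv.orderOf_eq (MulAut.conj g) (n : G)
      rw [MulAut.conj_apply] at h1
      rw [← Subgroup.orderOf_coe, h1, Subgroup.orderOf_coe]
    have hn1 : orderOf n ∣ Nat.card N' := by
      have := orderOf_dvd_natCard (⟨n, hn⟩ : N')
      rwa [Subgroup.orderOf_mk] at this
    have hcop : (orderOf (⟨g * (n : G) * g⁻¹, hgE⟩ : ↥E)).Coprime N'.index := by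
      rw [hord, hN'idx, hk]
      exact Nat.Coprime.pow_right _ (Nat.Coprime.coprime_dvd_left hn1 hN'cop)
    have hmem := mem_of_coprime_index N' hcop
    exact ⟨_, hmem, rfl⟩
  · rw [Subgroup.card_map_of_injective E.subtype_injective]; exact hN'cop
  · rw [Subgroup.card_map_of_injective E.subtype_injective,
      Subgroup.card_map_of_injective E.subtype_injective]
    exact hcm

/-- the hypothesis passes to the normal `p`-complement -/
theorem hypS_of_le (E K : Subgroup G) (hKE : K ≤ E) {p : ℕ} [hp : Fact p.Prime]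
    (hK : (Nat.card K).Coprime p) {k : ℕ} (hrel : K.relIndex E = p ^ k) (h : HypS G E) :
    HypS G K := by
  intro r hr R hRK hRr hRrel hRc
  have hrp : r ≠ p := by
    rintro rfl
    have h1 := inf_eq_bot_of_pgroup_of_coprime hRr hK
    rw [inf_eq_left.mpr hRK] at h1
    apply hRc
    rw [h1]
    exact isCyclic_of_subsingleton
  have hrel' : ¬ r ∣ R.relIndex E := by
    rw [← Subgroup.relIndex_mul_relIndex R K E hRK hKE, hrel]
    intro hdvd
    rcases (Nat.Prime.dvd_mul hr).mp hdvd with h1 | h1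
    · exact hRrel h1
    · exact hrp ((Nat.prime_dvd_prime_iff_eq hr hp.out).mp (hr.dvd_of_dvd_pow h1))
  exact h r hr R (hRK.trans hKE) hRr hrel' hRc

open Cfsg.Agent.Lib.Helper50_HSub (IsH) in
/-- **The quotient by the normal `p`-complement `K` of `E` is supersolvable.** -/
theorem quotient_supersolvable (E K P : Subgroup G) [hEn : E.Normal] [hKn : K.Normal]
    (hKE : K ≤ E) (hPE : P ≤ E) {p : ℕ} [hp : Fact p.Prime] (hPp : IsPGroup p P)
    (hK : (Nat.card K).Coprime p) (hcard : Nat.card K * Nat.card P = Nat.card E)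
    (h : HypS G E) (hGE : Cfsg.IsSupersolvable (G ⧸ E)) : Cfsg.IsSupersolvable (G ⧸ K) := by
  classical
  obtain ⟨Qb, hQb⟩ : ∃ Qb : Subgroup (G ⧸ K), Qb = E.map (QuotientGroup.mk' K) := ⟨_, rfl⟩
  have hQbn : Qb.Normal := by
    rw [hQb]; exact Subgroup.Normal.map hEn _ (QuotientGroup.mk'_surjective K)
  have hQbcard : Nat.card Qb = Nat.card P := by
    have h1 := card_map_mk'_of_le K E hKE
    rw [← hQb, ← hcard, mul_comm] at h1
    exact Nat.eq_of_mul_eq_mul_left Nat.card_pos h1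
  obtain ⟨k, hk⟩ := hPp.exists_card_eq
  have hQbp : IsPGroup p Qb := IsPGroup.of_card (hQbcard.trans hk)
  have hquot : Cfsg.IsSupersolvable ((G ⧸ K) ⧸ Qb) := by
    subst hQb
    exact isSupersolvable_of_mulEquiv (QuotientGroup.quotientQuotientEquivQuotient K E hKE).symm hGE
  have hcopPK : ∀ F : Subgroup G, F ≤ P → (Nat.card F).Coprime (Nat.card K) := by
    intro F hFP
    obtain ⟨j, hj⟩ := (hPp.to_le hFP).exists_card_eq
    rw [hj]; exact (Nat.Coprime.pow_right j hK).symm
  have hQbP : Qb = P.map (QuotientGroup.mk' K) := by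
    symm
    apply Subgroup.eq_of_le_of_card_ge
    · rw [hQb]; exact Subgroup.map_mono hPE
    · rw [card_map_mk'_of_coprime K P (hcopPK P le_rfl), hQbcard]
  have hdecomp : ∀ e ∈ E, ∃ x ∈ P, ∃ c ∈ K, e = x * c := by
    intro e he
    have h1 : QuotientGroup.mk' K e ∈ Qb := by rw [hQb]; exact Subgroup.mem_map_of_mem _ he
    rw [hQbP] at h1
    obtain ⟨x, hx, hxe⟩ := h1
    refine ⟨x, hx, x⁻¹ * e, ?_, by group⟩
    exact QuotientGroup.eq.mp hxe
  have hPrel : ¬ p ∣ P.relIndex E := by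
    have h1 := card_mul_relIndex' hPE
    rw [← hcard, mul_comm] at h1
    have h2 : P.relIndex E = Nat.card K := Nat.eq_of_mul_eq_mul_right Nat.card_pos h1
    rw [h2]
    exact (Nat.Prime.coprime_iff_not_dvd hp.out).mp hK.symm
  apply isSupersolvable_of_normal_pgroup Qb hQbp hquot
  by_cases hPc : IsCyclic P
  · left
    rw [hQbP]
    exact isCyclic_of_surjective _ (MonoidHom.subgroupMap_surjective (QuotientGroup.mk' K) P)
  · right
    obtain ⟨D, hDP, hD1, hDlt, hF⟩ := h p hp.out P hPE hPp hPrel hPc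
    obtain ⟨d, hd⟩ := (hPp.to_le hDP).exists_card_eq
    have hd1 : 1 ≤ d := by
      rcases Nat.eq_zero_or_pos d with h0 | h0
      · rw [h0, pow_zero] at hd; omega
      · exact h0
    refine ⟨d, hd1, by rw [hQbcard, ← hd]; exact hDlt, ?_⟩
    intro Fb hFbQ hFbcard
    obtain ⟨F, hFdef⟩ : ∃ F : Subgroup G, F = Fb.comap (QuotientGroup.mk' K) ⊓ P := ⟨_, rfl⟩
    have hFP : F ≤ P := by rw [hFdef]; exact inf_le_right
    have hFmap : F.map (QuotientGroup.mk' K) = Fb := by
      apply le_antisymm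
      · rintro _ ⟨x, hx, rfl⟩
        rw [hFdef] at hx
        exact hx.1
      · intro yb hyb
        have h1 := hFbQ hyb
        rw [hQbP] at h1
        obtain ⟨x, hx, rfl⟩ := h1
        exact ⟨x, by rw [hFdef]; exact ⟨hyb, hx⟩, rfl⟩
    have hFcard : Nat.card F = Nat.card Fb := by
      rw [← hFmap, card_map_mk'_of_coprime K F (hcopPK F hFP)]
    have hFH : IsH F := hF F hFP (by
      rcases hFbcard with h1 | ⟨h1, h2⟩
      · left; rw [hFcard, h1, hd]
      · right; exact ⟨by rw [hd]; exact h1, by rw [hFcard]; exact h2⟩)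
    have hPN : P ≤ normalizer (F : Set G) := hFH.le_normalizer hPp hFP
    constructor
    intro xb hxb gb
    obtain ⟨g, rfl⟩ := QuotientGroup.mk'_surjective K gb
    rw [← hFmap] at hxb
    obtain ⟨x, hx, rfl⟩ := hxb
    obtain ⟨T, hT⟩ : ∃ T : Subgroup G, T = F.map (MulAut.conj g).toMonoidHom := ⟨_, rfl⟩
    have hTE : T ≤ E := by
      rw [hT]; rintro _ ⟨f, hf, rfl⟩
      exact hEn.conj_mem f (hPE (hFP hf)) g
    have hTp : IsPGroup p T := by rw [hT]; exact (hPp.to_le hFP).map _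
    obtain ⟨c, hcE, hc⟩ := sylow_conj_into_rel E P hPp hPrel T hTE hTp
    obtain ⟨x', hx', c', hc', hcc'⟩ := hdecomp c hcE
    have hconj : ∀ f ∈ F, (c' * g) * f * (c' * g)⁻¹ ∈ P := by
      intro f hf
      have h1 : c * (g * f * g⁻¹) * c⁻¹ ∈ P := hc _ (by rw [hT]; exact ⟨f, hf, rfl⟩)
      have h2 : (c' * g) * f * (c' * g)⁻¹ = x'⁻¹ * (c * (g * f * g⁻¹) * c⁻¹) * x' := by
        rw [hcc']; group
      rw [h2]
      exact P.mul_mem (P.mul_mem (P.inv_mem hx') h1) hx'
    have hmem : (c' * g) * x * (c' * g)⁻¹ ∈ F := by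
      apply hFH (c' * g)
      exact Subgroup.mem_inf.mpr ⟨⟨x, hx, rfl⟩, hPN (hconj x hx)⟩
    have hc'1 : (QuotientGroup.mk' K c') = 1 := (QuotientGroup.eq_one_iff c').mpr hc'
    have hfin : QuotientGroup.mk' K g * QuotientGroup.mk' K x * (QuotientGroup.mk' K g)⁻¹ =
        QuotientGroup.mk' K ((c' * g) * x * (c' * g)⁻¹) := by
      rw [map_mul, map_mul, map_inv, map_mul, hc'1, one_mul]
    rw [hfin, ← hFmap]
    exact Subgroup.mem_map_of_mem _ hmem

end

/-- **The induction.** -/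
theorem isSupersolvable_of_hypS (G : Type u) [Group G] [Finite G] : ∀ (n : ℕ) (E : Subgroup G)
    [E.Normal], Nat.card E = n → Cfsg.IsSupersolvable (G ⧸ E) → HypS G E →
    Cfsg.IsSupersolvable G := by
  intro n
  induction n using Nat.strong_induction_on with
  | _ n ih =>
  intro E hEn hcard hGE h
  rcases eq_or_ne E ⊥ with rfl | hE0
  · exact isSupersolvable_of_mulEquiv QuotientGroup.quotientBot hGE
  obtain ⟨K, P, hKn, hKE, hPE, hPp, hKcop, hKP⟩ := exists_npc E hE0 h
  have hE1 : Nat.card E ≠ 1 := fun h1 => hE0 (Subgroup.card_eq_one.mp h1)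
  have hpp : ((Nat.card E).minFac).Prime := Nat.minFac_prime hE1
  have hfact : Fact ((Nat.card E).minFac).Prime := ⟨hpp⟩
  have hdiv : (Nat.card E).minFac ∣ Nat.card E := Nat.minFac_dvd _
  obtain ⟨k, hk⟩ := hPp.exists_card_eq
  have hrel : K.relIndex E = (Nat.card E).minFac ^ k := by
    have h1 := card_mul_relIndex' hKE
    rw [← hKP] at h1
    rw [← hk]
    exact Nat.eq_of_mul_eq_mul_left Nat.card_pos h1
  have hKlt : Nat.card K < n := by
    rw [← hcard, ← hKP]
    have hP1 : 1 < Nat.card P := by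
      by_contra hcon
      have hP1 : Nat.card P = 1 := by
        have : 0 < Nat.card P := Nat.card_pos
        omega
      rw [hP1, mul_one] at hKP
      rw [← hKP] at hdiv
      have := (Nat.Prime.coprime_iff_not_dvd hpp).mp hKcop.symm
      rw [← hKP] at this
      exact this hdiv
    have : 0 < Nat.card K := Nat.card_pos
    nlinarith
  have hGK : Cfsg.IsSupersolvable (G ⧸ K) :=
    quotient_supersolvable E K P hKE hPE hPp hKcop hKP h hGE
  have hK : HypS G K := hypS_of_le E K hKE hKcop hrel h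
  exact ih _ hKlt K rfl hGK hK

end Cfsg.Agent.Lib.Helper32_SupHyp
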