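import Mathlib
import Cfsg.Agent.Lib.Helper32_OmegaTwoGenAsm
import Cfsg.Agent.Lib.Helper60_OrthTS_OCOUNT
import Cfsg.Agent.Lib.Helper43_OrthTS_OQ2

/-!
helper32: package TYPE_MINUS for S2415: the hyperbolic sum `H ⊥ M` is not hyperbolic when `M` (dimension `2k`) has a
semiregular isometry of order `q^k + 1`.  Singular-vector counts: `|{Q_V = 0}| = q |{Q_M = 0}| + (q - 1) |M|`,
`|{qfPlus (k+1) = 0}| = (q^(k+1) - 1)(q^k + 1) + 1`, and `q^k + 1` divides the number of nonzero singular vectors of `M`.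
-/

set_option autoImplicit false
set_option linter.unusedSectionVars false
set_option linter.unusedVariables false

namespace Cfsg.Agent.Lib.Helper32_TwoGen_TYPE_MINUS

open Module Cfsg.Agent.Lib.Helper94_OrthSmall Cfsg.Agent.Lib.Helper94_OrthSiegel2
  Cfsg.Agent.Lib.Helper32_OmegaTwoGen
  Cfsg.Agent.Lib.Helper32_OmegaTwoGenModel Cfsg.Agent.Lib.Helper32_OmegaTwoGenAsm
  Cfsg.Agent.Lib.Helper40_QuadIso Cfsg.Agent.Lib.Helper40_QuadStd Cfsg.Agent.Lib.Helper44_StdForms
  Cfsg.Agent.Lib.Helper99_OrthTSDefs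

variable {F : Type*} [Field F] [Fintype F]

/-- the number of solutions of `α β = c` -/
lemma card_hyp_fibre [DecidableEq F] (c : F) :
    Nat.card {p : F × F // p.1 * p.2 = c} =
      (if c = 0 then Fintype.card F else 0) + (Fintype.card F - 1) := by
  have h := Cfsg.Agent.Lib.Helper5_QuadCount.card_pairs (F := F) 1 c
  rw [pow_one, Nat.sub_self, pow_zero, mul_one] at h
  rw [← h]
  refine Nat.card_congr (Equiv.subtypeEquiv
    ((Equiv.funUnique (Fin 1) F).symm.prodCongr (Equiv.funUnique (Fin 1) F).symm) ?_)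
  intro p
  simp [dotProduct]

/-- zeros of the hyperbolic sum -/
lemma card_zeros_sum {M : Type*} [AddCommGroup M] [Finite M] (Q : M → F) :
    Nat.card {x : (F × F) × M // Qsum Q x = 0} =
      Fintype.card F * Nat.card {y : M // Q y = 0} + (Fintype.card F - 1) * Nat.card M := by
  classical
  have := Fintype.ofFinite M
  have e : {x : (F × F) × M // Qsum Q x = 0} ≃ Σ y : M, {p : F × F // p.1 * p.2 = - Q y} :=
    { toFun := fun x => ⟨x.1.2, ⟨x.1.1, by
        have := x.2
        unfold Qsum at this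
        linear_combination this⟩⟩
      invFun := fun s => ⟨(s.2.1, s.1), by
        have := s.2.2
        unfold Qsum
        show s.2.1.1 * s.2.1.2 + Q s.1 = 0
        rw [this]
        ring⟩
      left_inv := fun x => by
        apply Subtype.ext
        rfl
      right_inv := fun s => by
        rcases s with ⟨y, ⟨p, hp⟩⟩
        rfl }
  rw [Nat.card_congr e, Nat.card_sigma]
  simp only [card_hyp_fibre, neg_eq_zero]
  rw [Finset.sum_add_distrib, Finset.sum_const, Finset.card_univ, smul_eq_mul,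
    ← Finset.sum_filter, Finset.sum_const, smul_eq_mul, Nat.card_eq_fintype_card,
    Fintype.card_subtype, Nat.card_eq_fintype_card]
  ring


/-- a semiregular isometry: its order divides the number of nonzero singular vectors -/
lemma orderOf_dvd_card_singular {M : Type*} [AddCommGroup M] [Module F M] [Finite M] (Q : M → F)
    (g : M ≃ₗ[F] M) (hg : g ∈ oG Q) (hpos : 0 < orderOf g)
    (hsemi : ∀ (i : ℕ) (x : M), (g ^ i) x = x → x ≠ 0 → g ^ i = 1) :
    orderOf g ∣ Nat.card {x : M // Q x = 0 ∧ x ≠ 0} := by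
  classical
  have hle : Subgroup.zpowers g ≤ oG Q := by
    rw [Subgroup.zpowers_le]
    exact hg
  let act : MulAction (Subgroup.zpowers g) {x : M // Q x = 0 ∧ x ≠ 0} :=
    { smul := fun h x => ⟨h.1 x.1, by rw [hle h.2 x.1]; exact x.2.1, fun h0 => x.2.2
        (h.1.injective (by rw [h0, map_zero]))⟩
      one_smul := fun x => Subtype.ext rfl
      mul_smul := fun h h' x => Subtype.ext rfl }
  have hsm : ∀ (h : Subgroup.zpowers g) (x : {x : M // Q x = 0 ∧ x ≠ 0}),
      ((h • x : {x : M // Q x = 0 ∧ x ≠ 0}) : M) = h.1 x.1 := fun h x => rfl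
  have hfree : ∀ x : {x : M // Q x = 0 ∧ x ≠ 0},
      MulAction.stabilizer (Subgroup.zpowers g) x = ⊥ := by
    intro x
    rw [eq_bot_iff]
    intro h hh
    rw [MulAction.mem_stabilizer_iff] at hh
    have h1 : h.1 x.1 = x.1 := by rw [← hsm, hh]
    have hfin : IsOfFinOrder g := orderOf_pos_iff.mp hpos
    obtain ⟨i, hi⟩ : ∃ i : ℕ, g ^ i = h.1 := by
      have := (hfin.mem_powers_iff_mem_zpowers).mpr h.2
      exact Submonoid.mem_powers_iff _ _ |>.mp this
    rw [← hi] at h1
    have h2 := hsemi i x.1 h1 x.2.2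
    rw [Subgroup.mem_bot]
    apply Subtype.ext
    rw [← hi, h2]
    rfl
  have e := MulAction.selfEquivOrbitsQuotientProd hfree
  rw [Nat.card_congr e, Nat.card_prod, Nat.card_zpowers]
  exact Dvd.intro_left _ rfl


/-- the arithmetic contradiction -/
lemma arith (q A zM s zV : ℤ) (hq : 2 ≤ q) (hA : q ≤ A)
    (h1 : zV = (q * q * A - 1) * (q * A + 1) + 1)
    (h2 : zV = q * zM + (q - 1) * (q * A * (q * A)))
    (h3 : zM = s + 1) (h4 : (q * A + 1) ∣ s) : False := by
  obtain ⟨t, ht⟩ := h4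
  have hq0 : (q : ℤ) ≠ 0 := by omega
  have hs : s = (q * A - 1) * (A + 1) := by
    have h5 : q * (s + 1) = q * (q * A * A + q * A - A) := by
      rw [← h3]
      linear_combination h1 - h2
    have h6 := mul_left_cancel₀ hq0 h5
    linear_combination h6
  -- (qA + 1) (A + 1 - t) = 2 (A + 1)
  have h7 : (q * A + 1) * (A + 1 - t) = 2 * (A + 1) := by
    linear_combination ht - hs
  have hA2 : 2 ≤ A := le_trans hq hA
  have hqA : 2 * A ≤ q * A := mul_le_mul_of_nonneg_right hq (by linarith)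
  rcases lt_trichotomy (A + 1 - t) 1 with h | h | h
  · have h8 : A + 1 - t ≤ 0 := by omega
    have h9 : (q * A + 1) * (A + 1 - t) ≤ 0 :=
      mul_nonpos_of_nonneg_of_nonpos (by linarith) h8
    linarith
  · rw [h, mul_one] at h7
    rcases eq_or_lt_of_le hq with h2 | h3
    · rw [← h2] at h7
      linarith
    · have h3' : 3 ≤ q := by omega
      have h10 : 3 * A ≤ q * A := mul_le_mul_of_nonneg_right h3' (by linarith)
      linarith
  · have h8 : 2 ≤ A + 1 - t := by omega
    have h9 : (q * A + 1) * 2 ≤ (q * A + 1) * (A + 1 - t) :=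
      mul_le_mul_of_nonneg_left h8 (by linarith)
    linarith

/-- **TYPE_MINUS**: the hyperbolic sum `H ⊥ M` is not hyperbolic. -/
theorem TYPE_MINUS {F : Type*} [Field F] [Fintype F] {M : Type*} [AddCommGroup M] [Module F M]
    [Module.Finite F M] (Q : M → F) (B : LinearMap.BilinForm F M)
    (hQs : ∀ (c : F) (x : M), Q (c • x) = c * c * Q x)
    (hQp : ∀ x y : M, Q (x + y) = Q x + Q y + B x y) (hN : B.Nondegenerate)
    (k : ℕ) (hk : 2 ≤ k) (hdim : Module.finrank F M = 2 * k)
    (g : M ≃ₗ[F] M) (hg : g ∈ oG Q) (hord : orderOf g = Fintype.card F ^ k + 1)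
    (hsemi : ∀ (i : ℕ) (x : M), (g ^ i) x = x → x ≠ 0 → g ^ i = 1)
    (U : Submodule F ((F × F) × M)) (hU : ∀ x ∈ U, Qsum Q x = 0) :
    Module.finrank F U ≤ k := by
  classical
  by_contra hcon
  push Not at hcon
  have hMfin : Finite M := Module.finite_of_finite F
  have hMfint := Fintype.ofFinite M
  -- the sum as a quadratic form
  set QV : QuadraticForm F ((F × F) × M) :=
    qmOf (Qsum Q) (Bsum B) (Qsum_smul Q hQs) (Qsum_add Q B hQp) with hQV
  have hQVa : ∀ x, QV x = Qsum Q x := fun x => rfl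
  have hpol : QuadraticMap.polarBilin QV = Bsum B := by
    refine LinearMap.ext fun x => LinearMap.ext fun y => ?_
    rw [QuadraticMap.polarBilin_apply_apply, QuadraticMap.polar, hQVa, hQVa, hQVa,
      Qsum_add Q B hQp]
    ring
  have hnd : (QuadraticMap.polarBilin QV).Nondegenerate := by
    rw [hpol]
    exact Bsum_nondegenerate B hN
  have hV : finrank F ((F × F) × M) = 2 * (k + 1) := by
    rw [Module.finrank_prod, Module.finrank_prod, Module.finrank_self, hdim]
    ring
  have hhyp : IsHyp QV := ⟨U, hU, by rw [hV]; omega⟩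
  obtain ⟨ζ, hζ⟩ := exists_aniso (F := F)
  have hiso : Iso QV (qfPlus (k + 1) F) := by
    rcases iso_plus_or_minus (k + 1) (by omega) hV QV hnd 1 ζ hζ with h | h
    · exact h
    · exfalso
      exact not_isHyp_qfMinus (k + 1 - 1) 1 ζ hζ (IsHyp.of_iso h hhyp)
  obtain ⟨φ, hφ⟩ := hiso
  -- the count of zeros of the sum
  have hzV : Nat.card {x : (F × F) × M // Qsum Q x = 0} =
      osing true (Fintype.card F) (k + 1) + 1 := by
    rw [← Cfsg.Agent.Lib.Helper60_OrthTS_OCOUNT.card_zeros_qfPlus (F := F) (k + 1)]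
    refine Nat.card_congr (Equiv.subtypeEquiv φ.toEquiv ?_)
    intro v
    rw [← hQVa, ← hφ v]
    rfl
  have hzV2 := card_zeros_sum (F := F) Q
  -- the nonzero singular vectors of `M`
  have hzM : Nat.card {y : M // Q y = 0} = Nat.card {x : M // Q x = 0 ∧ x ≠ 0} + 1 := by
    rw [Nat.card_eq_fintype_card, Nat.card_eq_fintype_card, Fintype.card_subtype,
      Fintype.card_subtype]
    have h0 : (0 : M) ∈ Finset.univ.filter (fun y : M => Q y = 0) := by
      simp [Q_zero Q hQs]
    have h1 : Finset.univ.filter (fun x : M => Q x = 0 ∧ x ≠ 0) =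
        (Finset.univ.filter (fun y : M => Q y = 0)).erase 0 := by
      ext x
      simp [and_comm]
    rw [h1, Finset.card_erase_of_mem h0]
    have : 0 < (Finset.univ.filter (fun y : M => Q y = 0)).card := Finset.card_pos.mpr ⟨0, h0⟩
    omega
  have hdvd := orderOf_dvd_card_singular Q g hg (by rw [hord]; omega) hsemi
  rw [hord] at hdvd
  have hcardM : Nat.card M = Fintype.card F ^ (2 * k) := by
    rw [Nat.card_eq_fintype_card, Module.card_eq_pow_finrank (K := F) (V := M), hdim]
  -- arithmetic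
  set q := Fintype.card F with hq
  have hq2 : 2 ≤ q := Fintype.one_lt_card
  obtain ⟨k', rfl⟩ : ∃ k', k = k' + 1 := ⟨k - 1, by omega⟩
  have hA : q ≤ q ^ k' := by
    calc q = q ^ 1 := (pow_one q).symm
      _ ≤ q ^ k' := Nat.pow_le_pow_right (by omega) (by omega)
  rw [osing_true, Nat.add_sub_cancel] at hzV
  have hq1 : 1 ≤ q ^ (k' + 1 + 1) := Nat.one_le_pow _ _ (by omega)
  apply arith (q : ℤ) ((q ^ k' : ℕ) : ℤ) (Nat.card {y : M // Q y = 0} : ℤ)
    (Nat.card {x : M // Q x = 0 ∧ x ≠ 0} : ℤ) (Nat.card {x : (F × F) × M // Qsum Q x = 0} : ℤ)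
    (by exact_mod_cast hq2) (by exact_mod_cast hA)
  · rw [hzV]
    push_cast [Nat.cast_sub hq1]
    ring
  · rw [hzV2, hcardM]
    have hq1' : 1 ≤ q := by omega
    push_cast [Nat.cast_sub hq1']
    ring
  · rw [hzM]
    push_cast
    ring
  · have : ((q ^ (k' + 1) + 1 : ℕ) : ℤ) ∣ (Nat.card {x : M // Q x = 0 ∧ x ≠ 0} : ℤ) :=
      Int.natCast_dvd_natCast.mpr hdvd
    convert this using 1
    push_cast
    ring

end Cfsg.Agent.Lib.Helper32_TwoGen_TYPE_MINUS
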