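import Mathlib
import Cfsg.Agent.Lib.Helper65_U3Defs

/-!
# S2148 abstract half, package BAS7 (helper65's market): subgroups of `Q` avoiding `Z`, auxiliary form

`card_le_of_inf_Z_aux` and `eq_bot_of_two_aux` are the two statements of BAS7 with the facts of BAS1
(`x_inj`, `x_comm`, `x_sq_of_two`), FLD-A (`card_trace_zero`, second half) and FLD-B (`comm_zero_iff`)
they need as explicit hypotheses.
-/

set_option autoImplicit false
set_option linter.unusedSectionVars false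
set_option linter.unusedVariables false

namespace Cfsg.Agent.Lib.Helper32_U3A_BAS7aux

open Cfsg.Agent.Lib.Helper65_U3Defs

variable {p q : ℕ} {F G U : Type*} [Field F] [Group G] [MulAction G U]
variable (D : U3Data p q F G U)

include D in
/-- The commutator form `a a'^q - a^q a'` has trace zero. -/
theorem comm_trace_zero (a a' : F) :
    (a * a' ^ q - a ^ q * a') + (a * a' ^ q - a ^ q * a') ^ q = 0 := by
  have := D.charF
  have hpp : Fact p.Prime := ⟨D.hp⟩
  have hsub : ∀ c d : F, (c - d) ^ q = c ^ q - d ^ q := by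
    intro c d
    rw [D.hq]
    exact sub_pow_char_pow c d D.k
  rw [hsub, mul_pow, mul_pow, D.frob_sq, D.frob_sq]
  ring

/-- `x 0 c ∈ Z` for trace-zero `c`. -/
theorem x_zero_mem_Z {c : F} (hc : c + c ^ q = 0) : D.x 0 c ∈ D.Z := D.mem_Z.mpr ⟨c, hc, rfl⟩

/-- An element `x 0 c` of `R` with `c` trace-zero, where `R ⊓ Z = ⊥`, has `c = 0`. -/
theorem eq_zero_of_mem
    (hxinj : ∀ {a b a' b' : F}, Rel q a b → Rel q a' b' → D.x a b = D.x a' b' → a = a' ∧ b = b')
    (R : Subgroup G) (h : R ⊓ D.Z = ⊥) {c : F} (hc : c + c ^ q = 0) (hR : D.x 0 c ∈ R) :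
    c = 0 := by
  have hmem : D.x 0 c ∈ R ⊓ D.Z := ⟨hR, x_zero_mem_Z D hc⟩
  rw [h, Subgroup.mem_bot, ← D.x_zero_zero] at hmem
  exact (hxinj ((D.rel_zero_iff c).mpr hc) D.rel_zero_zero hmem).2

/-- An element `x 0 b` of `R`, where `R ⊓ Z = ⊥`, is trivial. -/
theorem eq_one_of_mem (R : Subgroup G) (h : R ⊓ D.Z = ⊥) {b : F} (hb : Rel q 0 b)
    (hR : D.x 0 b ∈ R) : D.x 0 b = 1 := by
  have hmem : D.x 0 b ∈ R ⊓ D.Z := ⟨hR, x_zero_mem_Z D ((D.rel_zero_iff b).mp hb)⟩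
  rwa [h, Subgroup.mem_bot] at hmem

/-- **BAS7**, second statement, with `x_inj` and `x_sq_of_two` of BAS1 as hypotheses. -/
theorem eq_bot_of_two_aux
    (hxinj : ∀ {a b a' b' : F}, Rel q a b → Rel q a' b' → D.x a b = D.x a' b' → a = a' ∧ b = b')
    (hxsq : ∀ {a b : F}, Rel q a b → D.x a b * D.x a b = D.x 0 (a * a ^ q))
    (h2 : p = 2) (R : Subgroup G) (hR : R ≤ D.Q) (h : R ⊓ D.Z = ⊥) : R = ⊥ := by
  have hchar := D.charF
  subst h2
  rw [eq_bot_iff]
  intro r hr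
  obtain ⟨a, b, hab, rfl⟩ := D.mem_Q.mp (hR hr)
  have hsq : D.x 0 (a * a ^ q) ∈ R := by
    rw [← hxsq hab]
    exact R.mul_mem hr hr
  have htr : a * a ^ q + (a * a ^ q) ^ q = 0 := by
    rw [mul_pow, D.frob_sq, mul_comm (a ^ q) a]
    exact CharTwo.add_self_eq_zero _
  have h0 := eq_zero_of_mem D hxinj R h htr hsq
  have ha : a = 0 := by
    rcases mul_eq_zero.mp h0 with h | h
    · exact h
    · exact pow_eq_zero_iff D.q_pos.ne' |>.mp h
  subst ha
  rw [Subgroup.mem_bot]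
  exact eq_one_of_mem D R h hab hr

/-- **BAS7**, first statement, with `x_inj`, `x_comm` of BAS1, `comm_zero_iff` of FLD-B and the count
of the fixed field of FLD-A as hypotheses. -/
theorem card_le_of_inf_Z_aux
    (hxinj : ∀ {a b a' b' : F}, Rel q a b → Rel q a' b' → D.x a b = D.x a' b' → a = a' ∧ b = b')
    (hxcomm : ∀ {a b a' b' : F}, Rel q a b → Rel q a' b' →
      D.x a b * D.x a' b' = D.x a' b' * D.x a b * D.x 0 (a * a' ^ q - a ^ q * a'))
    (hcomm0 : ∀ {a a' : F}, a ≠ 0 →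
      (a * a' ^ q - a ^ q * a' = 0 ↔ ∃ c : F, c ^ q = c ∧ a' = c * a))
    (hcardFq : Nat.card {c : F // c ^ q = c} = q)
    (R : Subgroup G) (hR : R ≤ D.Q) (h : R ⊓ D.Z = ⊥) : Nat.card ↥R ≤ q := by
  have hfinF := D.finiteF
  by_cases hRbot : R = ⊥
  · rw [hRbot, Subgroup.card_bot]
    exact D.q_pos
  obtain ⟨⟨r0, hr0R⟩, hne⟩ := (Subgroup.ne_bot_iff_exists_ne_one.mp hRbot)
  have hne' : r0 ≠ 1 := fun e => hne (Subtype.ext e)
  obtain ⟨a0, b0, h0, rfl⟩ := D.mem_Q.mp (hR hr0R)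
  have ha0 : a0 ≠ 0 := by
    rintro rfl
    exact hne' (eq_one_of_mem D R h h0 hr0R)
  -- every element of `R` has its `a`-coordinate in `F_q a0`
  have key : ∀ r : R, ∃ c : {c : F // c ^ q = c}, ∃ a b : F, Rel q a b ∧ (r : G) = D.x a b ∧
      a = (c : F) * a0 := by
    rintro ⟨r, hr⟩
    obtain ⟨a, b, hab, rfl⟩ := D.mem_Q.mp (hR hr)
    have hc := hxcomm h0 hab
    have hmem : D.x 0 (a0 * a ^ q - a0 ^ q * a) ∈ R := by
      have : D.x 0 (a0 * a ^ q - a0 ^ q * a) = (D.x a b * D.x a0 b0)⁻¹ * (D.x a0 b0 * D.x a b) := by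
        rw [hc]; group
      rw [this]
      exact R.mul_mem (R.inv_mem (R.mul_mem hr hr0R)) (R.mul_mem hr0R hr)
    have hzero := eq_zero_of_mem D hxinj R h (comm_trace_zero D a0 a) hmem
    obtain ⟨c, hcq, hca⟩ := (hcomm0 ha0).mp hzero
    exact ⟨⟨c, hcq⟩, a, b, hab, rfl, hca⟩
  choose f hf using key
  have hinj : Function.Injective f := by
    intro r r' hrr'
    obtain ⟨a, b, hab, e, ha⟩ := hf r
    obtain ⟨a', b', hab', e', ha'⟩ := hf r'
    have haa' : a' = a := by rw [ha, ha', hrr']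
    subst haa'
    have hmul := D.x_mul (-a') (b ^ q) a' b' (D.rel_inv hab) hab'
    have hrel := D.rel_mul (D.rel_inv hab) hab'
    rw [neg_add_cancel] at hmul hrel
    have hmem : D.x 0 (b ^ q + b' - (-a') ^ q * a') ∈ R := by
      rw [← hmul, ← D.x_inv hab, ← e, ← e']
      exact R.mul_mem (R.inv_mem r.2) r'.2
    have h1 := eq_one_of_mem D R h hrel hmem
    rw [← hmul, ← D.x_inv hab, ← e, ← e', inv_mul_eq_one] at h1
    exact Subtype.ext h1
  calc Nat.card ↥R ≤ Nat.card {c : F // c ^ q = c} := Nat.card_le_card_of_injective f hinj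
    _ = q := hcardFq

end Cfsg.Agent.Lib.Helper32_U3A_BAS7aux
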