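import Mathlib
import Cfsg.Agent.Lib.Helper65_U3Defs
import Cfsg.Agent.Lib.Helper65_U3A_BAS1
import Cfsg.Agent.Lib.Helper58_U3A_FLDA
import Cfsg.Agent.Lib.Helper58_U3A_FLDB
import Cfsg.Agent.Lib.Helper32_U3A_BAS7aux

/-!
# S2148 abstract half, package BAS7 (helper65's market): subgroups of `Q` meeting `Z` trivially

`card_le_of_inf_Z`: such a subgroup has at most `q` elements; `eq_bot_of_two`: for `p = 2` it is trivial.
-/

set_option autoImplicit false
set_option linter.unusedSectionVars false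
set_option linter.unusedVariables false

namespace Cfsg.Agent.Lib.Helper32_U3A_BAS7

open Cfsg.Agent.Lib.Helper65_U3Defs

variable {p q : ℕ} {F G U : Type*} [Field F] [Group G] [MulAction G U]
variable (D : U3Data p q F G U)

/-- **BAS7** (M; F4; needs BAS1, FLD-A, FLD-B `comm_zero_iff`).  `R` is abelian (commutators lie in `R ⊓ Z`), so by `x_comm`
the `a`-coordinates of `R` are pairwise `F_q`-dependent; `x a b ↦ a` is injective on `R` (`R ⊓ Z = ⊥`) with
image inside `F_q a0`, and `|F_q| = q`. -/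
theorem card_le_of_inf_Z (R : Subgroup G) (hR : R ≤ D.Q) (h : R ⊓ D.Z = ⊥) :
    Nat.card ↥R ≤ q := by
  have hfinF := D.finiteF
  have hpp : Fact p.Prime := ⟨D.hp⟩
  have hchar := D.charF
  exact Cfsg.Agent.Lib.Helper32_U3A_BAS7aux.card_le_of_inf_Z_aux D
    (fun hab hab' e => Cfsg.Agent.Lib.Helper65_U3A_BAS1.x_inj D hab hab' e)
    (fun hab hab' => Cfsg.Agent.Lib.Helper65_U3A_BAS1.x_comm D hab hab')
    (fun ha => Cfsg.Agent.Lib.Helper58_U3A_FLDB.comm_zero_iff D.hk D.hq D.cardF ha)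
    (Cfsg.Agent.Lib.Helper58_U3A_FLDA.card_trace_zero D.hk D.hq D.cardF).2
    R hR h

/-- **BAS7**.  `p = 2`: `(x a b)^2 = x 0 (a a^q) ∈ R ⊓ Z = ⊥` gives `a = 0`, so `x a b ∈ R ⊓ Z`. -/
theorem eq_bot_of_two (h2 : p = 2) (R : Subgroup G) (hR : R ≤ D.Q) (h : R ⊓ D.Z = ⊥) :
    R = ⊥ :=
  Cfsg.Agent.Lib.Helper32_U3A_BAS7aux.eq_bot_of_two_aux D
    (fun hab hab' e => Cfsg.Agent.Lib.Helper65_U3A_BAS1.x_inj D hab hab' e)
    (fun hab => Cfsg.Agent.Lib.Helper65_U3A_BAS1.x_sq_of_two D h2 hab)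
    h2 R hR h

end Cfsg.Agent.Lib.Helper32_U3A_BAS7
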