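import Mathlib
import Cfsg.Agent.Lib.Helper65_U3Defs

/-!
# S2148 abstract half, package BAS8 (helper65's market): `Z_v` stabilises the block, auxiliary form

`Zat_stab_Blk_aux` is the statement of BAS8 with the one fact of BAS2 it needs (`conj_Z_of_mem_B`)
as an explicit hypothesis.
-/

set_option autoImplicit false
set_option linter.unusedSectionVars false
set_option linter.unusedVariables false

namespace Cfsg.Agent.Lib.Helper32_U3A_BAS8aux

open Cfsg.Agent.Lib.Helper65_U3Defs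

variable {p q : ℕ} {F G U : Type*} [Field F] [Group G] [MulAction G U]
variable (D : U3Data p q F G U)

/-- `Z` stabilises the block through `u, u'`. -/
theorem Z_stab_Blk {z : G} (hz : z ∈ D.Z) {v : U} (hv : v ∈ D.Blk) : z • v ∈ D.Blk := by
  rcases D.mem_Blk.mp hv with rfl | ⟨b, hb, rfl⟩
  · exact D.mem_Blk.mpr (Or.inl (D.mem_B.mp (D.Q_le_B (D.Z_le_Q hz))))
  · obtain ⟨b', hb', e⟩ := D.mem_Z.mp (D.Z.mul_mem hz (D.mem_Z.mpr ⟨b, hb, rfl⟩))
    refine D.mem_Blk.mpr (Or.inr ⟨b', hb', ?_⟩)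
    rw [← mul_smul, e]

/-- An element mapping `u` and `u'` into the block permutes the block; so does its inverse. -/
theorem inv_stab_Blk {m : G} (h1 : m • D.u ∈ D.Blk) (h2 : m • D.u' ∈ D.Blk) {w : U}
    (hw : w ∈ D.Blk) : m⁻¹ • w ∈ D.Blk := by
  have hfinU := D.finiteU
  have hmaps : Set.MapsTo (fun w : U => m • w) D.Blk D.Blk := fun w hw =>
    D.blk_unique m h1 h2 w hw
  have hfin : D.Blk.Finite := Set.toFinite _
  have hinj : Set.InjOn (fun w : U => m • w) D.Blk := fun a _ b _ hab =>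
    MulAction.injective m hab
  have hbij := (hfin.injOn_iff_bijOn_of_mapsTo hmaps).mp hinj
  obtain ⟨w', hw', e⟩ := hbij.surjOn hw
  have : m⁻¹ • w = w' := by
    rw [← e]
    exact inv_smul_smul m w'
  rw [this]
  exact hw'

/-- **BAS8**, with the statement `conj_Z_of_mem_B` of BAS2 as a hypothesis. -/
theorem Zat_stab_Blk_aux
    (hconjZ : ∀ {g : G}, g ∈ D.B → ∀ {z : G}, z ∈ D.Z → g * z * g⁻¹ ∈ D.Z)
    {n : G} (hn : n • D.u ∈ D.Blk) {z : G} (hz : z ∈ D.Zat n) {v : U}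
    (hv : v ∈ D.Blk) : z • v ∈ D.Blk := by
  have hz' : n⁻¹ * z * n ∈ D.Z := D.mem_Zat.mp hz
  by_cases hnu : n • D.u = D.u
  · have hnB : n ∈ D.B := D.mem_B.mpr hnu
    have h1 := hconjZ hnB hz'
    have h2 : n * (n⁻¹ * z * n) * n⁻¹ = z := by group
    rw [h2] at h1
    exact Z_stab_Blk D h1 hv
  · obtain ⟨m, hm1, hm2⟩ := D.two_trans D.u D.u' (n • D.u) D.u D.huu' hnu
    have hmu : m • D.u ∈ D.Blk := by rw [hm1]; exact hn
    have hmu' : m • D.u' ∈ D.Blk := by rw [hm2]; exact D.mem_Blk.mpr (Or.inl rfl)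
    have hgB : m⁻¹ * n ∈ D.B := by
      refine D.mem_B.mpr ?_
      rw [mul_smul, ← hm1, inv_smul_smul]
    have h1 := hconjZ hgB hz'
    have h2 : m⁻¹ * n * (n⁻¹ * z * n) * (m⁻¹ * n)⁻¹ = m⁻¹ * z * m := by group
    rw [h2] at h1
    have h3 : z • v = m • ((m⁻¹ * z * m) • (m⁻¹ • v)) := by
      rw [← mul_smul, ← mul_smul]
      congr 1
      group
    rw [h3]
    exact D.blk_unique m hmu hmu' _ (Z_stab_Blk D h1 (inv_stab_Blk D hmu hmu' hv))

end Cfsg.Agent.Lib.Helper32_U3A_BAS8aux
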