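import Mathlib
import Cfsg.Agent.Lib.Helper65_U3Defs
import Cfsg.Agent.Lib.Helper65_U3A_BAS2
import Cfsg.Agent.Lib.Helper32_U3A_BAS8aux

/-!
# S2148 abstract half, package BAS8 (helper65's market): `Z_v` stabilises the block for `v` on the block
-/

set_option autoImplicit false
set_option linter.unusedSectionVars false
set_option linter.unusedVariables false

namespace Cfsg.Agent.Lib.Helper32_U3A_BAS8

open Cfsg.Agent.Lib.Helper65_U3Defs

variable {p q : ℕ} {F G U : Type*} [Field F] [Group G] [MulAction G U]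
variable (D : U3Data p q F G U)

/-- **BAS8** (M; needs BAS2, BAS3).  `Z_v` stabilises the block for every `v` on the block.  `Z` stabilises `Blk` (def).
If `n u = u` then `Zat n = Z` (BAS2).  Else take `m` with `m u = n u`, `m u' = u` (`two_trans`): `m` maps `u, u'` into
`Blk`, so `m Blk ⊆ Blk` (`D.blk_unique`), hence `= Blk` (finite); `Zat n = Zat m = m Z m⁻¹` (as `m⁻¹ n ∈ B`). -/
theorem Zat_stab_Blk {n : G} (hn : n • D.u ∈ D.Blk) {z : G} (hz : z ∈ D.Zat n) {v : U}
    (hv : v ∈ D.Blk) : z • v ∈ D.Blk :=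
  Cfsg.Agent.Lib.Helper32_U3A_BAS8aux.Zat_stab_Blk_aux D
    (fun hg _ hz => Cfsg.Agent.Lib.Helper65_U3A_BAS2.conj_Z_of_mem_B D hg hz) hn hz hv

end Cfsg.Agent.Lib.Helper32_U3A_BAS8
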