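import Mathlib
import Cfsg.Agent.Lib.Helper39_U4Defs
import Cfsg.Agent.Lib.Helper13_SUGen
import Cfsg.Agent.Lib.Helper94_HermTrans

set_option autoImplicit false

/-
helper32: package U4 G-COUNT (helper39's S2150 market), AUX form: `line_count_aux` = `line_count` VERBATIM with the statement of
G-G1 (for the line `l`) as an explicit hypothesis `hG1` (G-G1 is helper39's own assembly; the verbatim wrapper is one line once it lands).
-/

namespace Cfsg.Agent.Lib.Helper32_U4_GCOUNTaux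

open Module Cfsg.Agent.Lib.Helper94_Symp Cfsg.Agent.Lib.Helper94_Herm
  Cfsg.Agent.Lib.Helper94_HermEich Cfsg.Agent.Lib.Helper94_HermOrth
  Cfsg.Agent.Lib.Helper13_SUGen Cfsg.Agent.Lib.Helper39_U4Defs

/-- the number of nonidentity elements of a finite subgroup -/
theorem card_ne_one {G : Type*} [Group G] (H : Subgroup G) [Finite H] :
    Nat.card {x : H // x ≠ 1} = Nat.card H - 1 := by
  classical
  have e : H ≃ Option {x : H // x ≠ 1} :=
    { toFun := fun x => if hx : x = 1 then none else some ⟨x, hx⟩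
      invFun := fun o => match o with
        | none => 1
        | some y => y.1
      left_inv := by
        intro x
        by_cases hx : x = 1
        · simp [hx]
        · simp [hx]
      right_inv := by
        intro o
        cases o with
        | none => simp
        | some y =>
          have := y.2
          simp [this] }
  have := Nat.card_congr e
  rw [Finite.card_option] at this
  omega

variable {F V : Type*} [Field F] [AddCommGroup V] [Module F V] {σ : F →+* F}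
  {B : V →ₗ[F] V →ₛₗ[σ] F} [Finite F] [FiniteDimensional F V]

theorem line_count_aux {q : ℕ} (Hy : U4Hyp B q) {l : Submodule F V} (hl : IsTILine B l)
    (C : Subgroup (V ≃ₗ[F] V)) (hC : C ≤ uG B ⊓ fixer l)
    (hroot : ∀ v ∈ l, v ≠ 0 → C ⊓ Xg B v = ⊥)
    (hG1 : ∀ b : V ≃ₗ[F] V, b ∈ uG B ⊓ fixer l → b ≠ 1 → (∀ v ∈ l, v ≠ 0 → b ∉ Xg B v) →
      Nat.card {v : ↥l // v ≠ 0 ∧ b ∈ Qg B (v : V)} = (q + 1) * (q ^ 2 - 1)) :
    (Nat.card C - 1) * ((q + 1) * (q ^ 2 - 1)) =
      ∑ᶠ v : {v : ↥l // v ≠ 0}, (Nat.card ↥(C ⊓ Qg B ((v : ↥l) : V)) - 1) := by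
  classical
  have hfinV : Finite V := Module.finite_of_finite F
  have hfinE : Finite (V ≃ₗ[F] V) := Finite.of_injective (fun g => (g : V → V))
    (fun g g' h => LinearEquiv.ext (congrFun h))
  let _ : Fintype {v : ↥l // v ≠ 0} := Fintype.ofFinite _
  let _ : Fintype {b : ↥C // b ≠ 1} := Fintype.ofFinite _
  rw [finsum_eq_sum_of_fintype]
  -- the incidence relation
  let P : {b : ↥C // b ≠ 1} → {v : ↥l // v ≠ 0} → Prop :=
    fun b v => ((b : ↥C) : V ≃ₗ[F] V) ∈ Qg B ((v : ↥l) : V)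
  have e1 : (Σ b : {b : ↥C // b ≠ 1}, {v : {v : ↥l // v ≠ 0} // P b v}) ≃
      (Σ v : {v : ↥l // v ≠ 0}, {b : {b : ↥C // b ≠ 1} // P b v}) :=
    ((Equiv.subtypeProdEquivSigmaSubtype P).symm.trans
      ((Equiv.prodComm _ _).subtypeEquiv (fun _ => Iff.rfl))).trans
      (Equiv.subtypeProdEquivSigmaSubtype (fun v b => P b v))
  have h1 := Nat.card_congr e1
  rw [Nat.card_sigma, Nat.card_sigma] at h1
  -- the left side
  have hL : ∀ b : {b : ↥C // b ≠ 1}, Nat.card {v : {v : ↥l // v ≠ 0} // P b v} =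
      (q + 1) * (q ^ 2 - 1) := by
    intro b
    have hb1 : ((b : ↥C) : V ≃ₗ[F] V) ≠ 1 := fun h => b.2 (Subtype.ext h)
    have hbr : ∀ v ∈ l, v ≠ 0 → ((b : ↥C) : V ≃ₗ[F] V) ∉ Xg B v := by
      intro v hv hv0 hmem
      have h2 : ((b : ↥C) : V ≃ₗ[F] V) ∈ C ⊓ Xg B v := ⟨(b : ↥C).2, hmem⟩
      rw [hroot v hv hv0, Subgroup.mem_bot] at h2
      exact hb1 h2
    rw [← hG1 _ (hC (b : ↥C).2) hb1 hbr]
    apply Nat.card_congr
    exact
      { toFun := fun x => ⟨x.1.1, x.1.2, x.2⟩
        invFun := fun x => ⟨⟨x.1, x.2.1⟩, x.2.2⟩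
        left_inv := fun x => rfl
        right_inv := fun x => rfl }
  -- the right side
  have hR : ∀ v : {v : ↥l // v ≠ 0}, Nat.card {b : {b : ↥C // b ≠ 1} // P b v} =
      Nat.card ↥(C ⊓ Qg B ((v : ↥l) : V)) - 1 := by
    intro v
    rw [← card_ne_one]
    apply Nat.card_congr
    exact
      { toFun := fun x => ⟨⟨((x.1 : ↥C) : V ≃ₗ[F] V), (x.1 : ↥C).2, x.2⟩,
          fun h => x.1.2 (Subtype.ext (by
            have h2 : ((x.1 : ↥C) : V ≃ₗ[F] V) = 1 := Subtype.ext_iff.mp h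
            exact h2))⟩
        invFun := fun x => ⟨⟨⟨x.1.1, x.1.2.1⟩,
          fun h => x.2 (Subtype.ext (by
            have h2 : (x.1 : V ≃ₗ[F] V) = 1 := Subtype.ext_iff.mp h
            exact h2))⟩, x.1.2.2⟩
        left_inv := fun x => rfl
        right_inv := fun x => rfl }
  simp only [hL, hR] at h1
  rw [Finset.sum_const, Finset.card_univ, smul_eq_mul, ← Nat.card_eq_fintype_card,
    card_ne_one] at h1
  exact h1

end Cfsg.Agent.Lib.Helper32_U4_GCOUNTaux
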