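import Mathlib
import Cfsg.Agent.S0754
import Cfsg.Agent.Lib.Helper94_Herm

set_option autoImplicit false

/-!
# S2150 package G-LINE5 (helper35, for helper39): a nondegenerate skew-hermitian binary form over
# `F_{q^2}` has exactly `(q+1)(q^2-1)` nonzero isotropic vectors.
-/

namespace Cfsg.Agent.Lib.Helper35_U4_GLINE5

open Cfsg.Agent.Lib.Helper94_Herm

variable {F : Type*} [Field F] [Fintype F] {σ : F →+* F} {q : ℕ}

/-- the model count: `N(w) = d N(a)`, `d` a nonzero element of the fixed field -/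
theorem core (hσ : Invol σ) (hq : Nat.card F = q ^ 2) (hσq : ∀ x, σ x = x ^ q) {d : F}
    (hd0 : d ≠ 0) (hd : σ d = d) :
    Nat.card {p : F × F // (p.1 ≠ 0 ∨ p.2 ≠ 0) ∧ p.2 * σ p.2 = d * (p.1 * σ p.1)} =
      (q + 1) * (q ^ 2 - 1) := by
  classical
  have hF : Fintype.card F = q ^ 2 := by rw [← hq, Nat.card_eq_fintype_card]
  have e : {p : F × F // (p.1 ≠ 0 ∨ p.2 ≠ 0) ∧ p.2 * σ p.2 = d * (p.1 * σ p.1)} ≃
      Σ a : F, {w : F // (a ≠ 0 ∨ w ≠ 0) ∧ w * σ w = d * (a * σ a)} :=
    Equiv.subtypeProdEquivSigmaSubtype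
      (fun a w => (a ≠ 0 ∨ w ≠ 0) ∧ w * σ w = d * (a * σ a))
  rw [Nat.card_congr e, Nat.card_sigma]
  have hfib : ∀ a : F, Nat.card {w : F // (a ≠ 0 ∨ w ≠ 0) ∧ w * σ w = d * (a * σ a)} =
      if a = 0 then 0 else q + 1 := by
    intro a
    split_ifs with ha
    · subst ha
      have : IsEmpty {w : F // ((0 : F) ≠ 0 ∨ w ≠ 0) ∧ w * σ w = d * (0 * σ 0)} := by
        constructor
        rintro ⟨w, hw1, hw2⟩
        rcases hw1 with h | h
        · exact h rfl
        · apply h
          rw [zero_mul, mul_zero] at hw2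
          rcases mul_eq_zero.mp hw2 with h' | h'
          · exact h'
          · exact (map_eq_zero σ).mp h'
      exact Nat.card_of_isEmpty
    · have hμ0 : d * (a * σ a) ≠ 0 :=
        mul_ne_zero hd0 (mul_ne_zero ha ((map_ne_zero σ).mpr ha))
      have hμq : (d * (a * σ a)) ^ q = d * (a * σ a) := by
        rw [← hσq, map_mul, map_mul, hd, hσ.invol, mul_comm (σ a) a]
      rw [← Cfsg.Agent.S0754.result hF (d * (a * σ a)) hμ0 hμq]
      refine Nat.card_congr (Equiv.subtypeEquivRight ?_)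
      intro w
      rw [hσq w, ← pow_succ']
      constructor
      · exact fun h => h.2
      · exact fun h => ⟨Or.inl ha, h⟩
  simp only [hfib]
  rw [Finset.sum_ite, Finset.sum_const_zero, zero_add, Finset.sum_const, smul_eq_mul]
  have hc : (Finset.univ.filter (fun a : F => ¬ a = 0)).card = q ^ 2 - 1 := by
    rw [Finset.filter_ne' Finset.univ (0 : F), Finset.card_erase_of_mem (Finset.mem_univ _),
      Finset.card_univ, hF]
  rw [hc, mul_comm]

/-- the case `c₁ ≠ 0` -/
theorem caseB (hσ : Invol σ) (hq : Nat.card F = q ^ 2) (hσq : ∀ x, σ x = x ^ q) {c₁ lam s : F}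
    (hc : σ c₁ = -c₁) (hs : σ s = -s) (hdet : c₁ * s + lam * σ lam ≠ 0) (hc0 : c₁ ≠ 0) :
    Nat.card {p : F × F // (p.1 ≠ 0 ∨ p.2 ≠ 0) ∧
      p.2 * σ p.2 * c₁ + p.1 * σ p.1 * s + σ p.1 * p.2 * σ lam - p.1 * σ p.2 * lam = 0} =
      (q + 1) * (q ^ 2 - 1) := by
  have hd : σ (c₁ * s + lam * σ lam) = c₁ * s + lam * σ lam := by
    rw [map_add, map_mul, map_mul, hc, hs, hσ.invol]; ring
  rw [← core hσ hq hσq hdet hd]
  -- the substitution `(α, γ) ↦ (α, c₁ γ - lam α)`
  let T : F × F ≃ F × F :=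
    { toFun := fun p => (p.1, c₁ * p.2 - lam * p.1)
      invFun := fun p => (p.1, c₁⁻¹ * (p.2 + lam * p.1))
      left_inv := by
        intro p
        ext
        · rfl
        · simp only
          field_simp
          ring
      right_inv := by
        intro p
        ext
        · rfl
        · simp only
          field_simp
          ring }
  refine Nat.card_congr (Equiv.subtypeEquiv T ?_)
  rintro ⟨α, γ⟩
  simp only [T, Equiv.coe_fn_mk]
  have hkey : (c₁ * γ - lam * α) * σ (c₁ * γ - lam * α) - (c₁ * s + lam * σ lam) * (α * σ α) =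
      -c₁ * (γ * σ γ * c₁ + α * σ α * s + σ α * γ * σ lam - α * σ γ * lam) := by
    rw [map_sub, map_mul, map_mul, hc]; ring
  constructor
  · rintro ⟨h1, h2⟩
    refine ⟨?_, ?_⟩
    · rcases h1 with h | h
      · exact Or.inl h
      · by_cases hα : α = 0
        · right
          rw [hα, mul_zero, sub_zero]
          exact mul_ne_zero hc0 h
        · exact Or.inl hα
    · rw [h2, mul_zero] at hkey
      exact sub_eq_zero.mp hkey
  · rintro ⟨h1, h2⟩
    refine ⟨?_, ?_⟩
    · rcases h1 with h | h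
      · exact Or.inl h
      · by_cases hα : α = 0
        · right
          rw [hα, mul_zero, sub_zero] at h
          exact fun hγ => h (by rw [hγ, mul_zero])
        · exact Or.inl hα
    · rw [h2, sub_self] at hkey
      rcases mul_eq_zero.mp hkey.symm with h | h
      · exact absurd (neg_eq_zero.mp h) hc0
      · exact h

/-- G-LINE5 (arithmetic of `Ψ`): a nondegenerate skew-hermitian binary form has exactly
`(q+1)(q^2-1)` nonzero isotropic vectors. -/
theorem psi_count {F : Type*} [Field F] [Fintype F] {σ : F →+* F} {q : ℕ} (hσ : Invol σ)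
    (hq : Nat.card F = q ^ 2) (hσq : ∀ x, σ x = x ^ q) {c₁ lam s : F} (hc : σ c₁ = -c₁)
    (hs : σ s = -s) (hdet : c₁ * s + lam * σ lam ≠ 0) :
    Nat.card {p : F × F // (p.1 ≠ 0 ∨ p.2 ≠ 0) ∧
      p.2 * σ p.2 * c₁ + p.1 * σ p.1 * s + σ p.1 * p.2 * σ lam - p.1 * σ p.2 * lam = 0} =
      (q + 1) * (q ^ 2 - 1) := by
  by_cases hc0 : c₁ = 0
  swap
  · exact caseB hσ hq hσq hc hs hdet hc0
  by_cases hs0 : s = 0
  swap
  · -- swap the two coordinates
    have hdet' : s * c₁ + (-σ lam) * σ (-σ lam) ≠ 0 := by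
      rw [map_neg, hσ.invol]
      intro h
      apply hdet
      rw [← h]; ring
    rw [← caseB hσ hq hσq hs hc hdet' hs0]
    refine Nat.card_congr (Equiv.subtypeEquiv (Equiv.prodComm F F) ?_)
    rintro ⟨α, γ⟩
    simp only [Equiv.prodComm_apply, Prod.swap_prod_mk]
    rw [map_neg, hσ.invol]
    constructor
    · rintro ⟨h1, h2⟩
      exact ⟨h1.symm, by rw [← h2]; ring⟩
    · rintro ⟨h1, h2⟩
      exact ⟨h1.symm, by rw [← h2]; ring⟩
  subst hc0
  subst hs0
  -- shear `(α, γ) ↦ (α - μ γ, γ)` to make the coefficient of `N(γ)` nonzero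
  have hlam : lam ≠ 0 := by
    rintro rfl
    apply hdet
    simp
  obtain ⟨θ, hθ⟩ := hσ.ne_id
  obtain ⟨μ, hμ⟩ : ∃ μ : F, σ (μ * lam) ≠ μ * lam :=
    ⟨θ * lam⁻¹, by rwa [inv_mul_cancel_right₀ hlam]⟩
  have hc' : σ (σ (μ * lam) - μ * lam) = -(σ (μ * lam) - μ * lam) := by
    rw [map_sub, hσ.invol]; ring
  have hc0' : σ (μ * lam) - μ * lam ≠ 0 := sub_ne_zero.mpr hμ
  have hdet' : (σ (μ * lam) - μ * lam) * 0 + lam * σ lam ≠ 0 := by
    rw [mul_zero, zero_add]
    exact mul_ne_zero hlam ((map_ne_zero σ).mpr hlam)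
  rw [← caseB hσ hq hσq hc' ((map_zero σ).trans neg_zero.symm) hdet' hc0']
  let T : F × F ≃ F × F :=
    { toFun := fun p => (p.1 - μ * p.2, p.2)
      invFun := fun p => (p.1 + μ * p.2, p.2)
      left_inv := by
        intro p
        ext
        · simp
        · rfl
      right_inv := by
        intro p
        ext
        · simp
        · rfl }
  refine Nat.card_congr (Equiv.subtypeEquiv T ?_)
  rintro ⟨α, γ⟩
  simp only [T, Equiv.coe_fn_mk]
  constructor
  · rintro ⟨h1, h2⟩
    refine ⟨?_, ?_⟩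
    · rcases h1 with h | h
      · by_cases hγ : γ = 0
        · left
          rw [hγ, mul_zero, sub_zero]
          exact h
        · exact Or.inr hγ
      · exact Or.inr h
    · rw [map_sub, map_mul, map_mul] 
      rw [map_mul] at *
      linear_combination h2
  · rintro ⟨h1, h2⟩
    refine ⟨?_, ?_⟩
    · rcases h1 with h | h
      · by_cases hγ : γ = 0
        · left
          rw [hγ, mul_zero, sub_zero] at h
          exact h
        · exact Or.inr hγ
      · exact Or.inr h
    · rw [map_sub, map_mul, map_mul] at h2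
      linear_combination h2

end Cfsg.Agent.Lib.Helper35_U4_GLINE5
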