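import Mathlib
import Cfsg.Agent.Lib.Helper39_U4Defs
import Cfsg.Agent.Lib.Helper13_SUGen
import Cfsg.Agent.Lib.Helper94_HermTrans
import Cfsg.Agent.Lib.Helper14_PSULocal1

/-!
# S2150 package G-LINE1 (architect helper39; helper50): hyperbolic coordinates on a totally isotropic line
-/

set_option autoImplicit false
set_option linter.unusedSectionVars false

namespace Cfsg.Agent.Lib.Helper50_U4_G_LINE1

open Module Cfsg.Agent.Lib.Helper94_Symp Cfsg.Agent.Lib.Helper94_Herm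
  Cfsg.Agent.Lib.Helper94_HermEich Cfsg.Agent.Lib.Helper94_HermOrth
  Cfsg.Agent.Lib.Helper13_SUGen Cfsg.Agent.Lib.Helper39_U4Defs

variable {F V : Type*} [Field F] [AddCommGroup V] [Module F V] {σ : F →+* F}
  {B : V →ₗ[F] V →ₛₗ[σ] F} [Finite F] [FiniteDimensional F V]

/-- G-LINE1: coordinates on a t.i. line. -/
theorem line_coords {q : ℕ} (Hy : U4Hyp B q) {l : Submodule F V} (hl : IsTILine B l) :
    ∃ e₁ e₂ f₁ f₂ : V, l = Submodule.span F {e₁, e₂} ∧ HypPair B e₁ f₁ ∧ HypPair B e₂ f₂ ∧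
      B e₁ e₂ = 0 ∧ B e₁ f₂ = 0 ∧ B f₁ e₂ = 0 ∧ B f₁ f₂ = 0 ∧
      (∀ v ∈ l, ∃ α γ : F, v = α • e₁ + γ • e₂) := by
  classical
  obtain ⟨hl2, hti⟩ := hl
  have hσ := Hy.hσ
  have hB := Hy.hB
  have hN := Hy.hN
  let b : Basis (Fin 2) F ↥l := Module.finBasisOfFinrankEq F ↥l hl2
  obtain ⟨e₁, he₁⟩ : ∃ e₁ : V, e₁ = ((b 0 : ↥l) : V) := ⟨_, rfl⟩
  obtain ⟨e₀, he₀⟩ : ∃ e₀ : V, e₀ = ((b 1 : ↥l) : V) := ⟨_, rfl⟩
  have he₁l : e₁ ∈ l := by rw [he₁]; exact (b 0).2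
  have he₀l : e₀ ∈ l := by rw [he₀]; exact (b 1).2
  have he₁0 : e₁ ≠ 0 := by
    intro h0
    apply b.ne_zero 0
    apply Subtype.ext
    rw [← he₁, h0]
    rfl
  -- every vector of `l` in the basis
  have hrepr : ∀ v ∈ l, ∃ α γ : F, v = α • e₁ + γ • e₀ := by
    intro v hv
    have h1 := b.sum_repr ⟨v, hv⟩
    rw [Fin.sum_univ_two] at h1
    have h2 := congrArg (fun z : ↥l => (z : V)) h1
    simp only [Submodule.coe_add, Submodule.coe_smul] at h2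
    refine ⟨b.repr ⟨v, hv⟩ 0, b.repr ⟨v, hv⟩ 1, ?_⟩
    rw [he₁, he₀]
    exact h2.symm
  -- `e₀` is not a multiple of `e₁`
  have hindep : ∀ c : F, e₀ ≠ c • e₁ := by
    intro c hc
    have hli := b.linearIndependent
    rw [Fintype.linearIndependent_iff] at hli
    have h3 := hli ![-c, 1] (by
      rw [Fin.sum_univ_two]
      apply Subtype.ext
      simp only [Matrix.cons_val_zero, Matrix.cons_val_one, Submodule.coe_add, Submodule.coe_smul,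
        Submodule.coe_zero]
      rw [← he₁, ← he₀, hc]
      simp) 1
    simp at h3
  -- the partner of `e₁`
  obtain ⟨f₁, -, hf₁f₁, he₁f₁⟩ := exists_partner hσ hB hN (Submodule.mem_top : e₁ ∈ (⊤ : Submodule F V))
    he₁0 (hti e₁ he₁l e₁ he₁l)
  have h1 : HypPair B e₁ f₁ := hypPair_mk hB (hti e₁ he₁l e₁ he₁l) hf₁f₁ he₁f₁
  -- the corrected second basis vector
  obtain ⟨e₂, he₂⟩ : ∃ e₂ : V, e₂ = e₀ - B e₀ f₁ • e₁ := ⟨_, rfl⟩
  have he₂l : e₂ ∈ l := by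
    rw [he₂]
    exact l.sub_mem he₀l (l.smul_mem _ he₁l)
  have he₂0 : e₂ ≠ 0 := by
    intro h0
    rw [he₂, sub_eq_zero] at h0
    exact hindep _ h0
  have he₂e₁ : B e₂ e₁ = 0 := hti e₂ he₂l e₁ he₁l
  have he₂f₁ : B e₂ f₁ = 0 := by
    rw [he₂, map_sub, map_smul, LinearMap.sub_apply, LinearMap.smul_apply, smul_eq_mul, he₁f₁,
      mul_one, sub_self]
  have he₂W : e₂ ∈ Cfsg.Agent.Lib.Helper14_PSULocal1.Wp B e₁ f₁ :=
    Cfsg.Agent.Lib.Helper14_PSULocal1.mem_Wp.mpr ⟨he₂e₁, he₂f₁⟩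
  obtain ⟨f₂, hf₂W, hf₂f₂, he₂f₂⟩ := exists_partner hσ hB
    (Cfsg.Agent.Lib.Helper14_PSULocal1.nondegOn_Wp hB hN h1) he₂W he₂0 (hti e₂ he₂l e₂ he₂l)
  obtain ⟨hf₂e₁, hf₂f₁⟩ := Cfsg.Agent.Lib.Helper14_PSULocal1.mem_Wp.mp hf₂W
  have h2 : HypPair B e₂ f₂ := hypPair_mk hB (hti e₂ he₂l e₂ he₂l) hf₂f₂ he₂f₂
  have hrepr2 : ∀ v ∈ l, ∃ α γ : F, v = α • e₁ + γ • e₂ := by
    intro v hv
    obtain ⟨α, γ, hαγ⟩ := hrepr v hv
    refine ⟨α + γ * B e₀ f₁, γ, ?_⟩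
    rw [hαγ, he₂, smul_sub, add_smul, smul_smul]
    abel
  refine ⟨e₁, e₂, f₁, f₂, ?_, h1, h2, hti e₁ he₁l e₂ he₂l, herm_eq_zero hB hf₂e₁,
    herm_eq_zero hB he₂f₁, herm_eq_zero hB hf₂f₁, hrepr2⟩
  apply le_antisymm
  · intro v hv
    obtain ⟨α, γ, hαγ⟩ := hrepr2 v hv
    rw [hαγ]
    exact Submodule.add_mem _ (Submodule.smul_mem _ _ (Submodule.subset_span (by simp)))
      (Submodule.smul_mem _ _ (Submodule.subset_span (by simp)))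
  · rw [Submodule.span_le]
    intro x hx
    rcases hx with rfl | rfl
    · exact he₁l
    · exact he₂l

end Cfsg.Agent.Lib.Helper50_U4_G_LINE1
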