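import Mathlib
import Cfsg.Agent.Lib.Helper39_U4Defs
import Cfsg.Agent.Lib.Helper13_SUGen
import Cfsg.Agent.Lib.Helper94_HermTrans

/-!
# S2150 (architect helper39), package G-LINE4: the rank one elements of the radical `A_l` of a
totally isotropic line are root elements
-/

set_option autoImplicit false

namespace Cfsg.Agent.Lib.Helper54_U4_LINE4

open Module Cfsg.Agent.Lib.Helper94_Symp Cfsg.Agent.Lib.Helper94_Herm
  Cfsg.Agent.Lib.Helper94_HermEich Cfsg.Agent.Lib.Helper94_HermOrth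
  Cfsg.Agent.Lib.Helper13_SUGen Cfsg.Agent.Lib.Helper39_U4Defs

variable {F V : Type*} [Field F] [AddCommGroup V] [Module F V] {σ : F →+* F}
  {B : V →ₗ[F] V →ₛₗ[σ] F} [Finite F] [FiniteDimensional F V]

/-- the action of `b(c₁, lam, s) = eich B e₁ (lam • e₂) c₁ * utv B e₂ s` -/
lemma b_apply (hB : IsHerm B) {e₁ e₂ : V} (h11 : B e₁ e₁ = 0) (h22 : B e₂ e₂ = 0)
    (h12 : B e₁ e₂ = 0) (c₁ lam s : F) (x : V) :
    (eich B e₁ (lam • e₂) c₁ * utv B e₂ s) x =
      x + B x e₁ • (c₁ • e₁ + lam • e₂) + B x e₂ • (-(σ lam) • e₁ + s • e₂) := by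
  have h21 : B e₂ e₁ = 0 := herm_eq_zero hB h12
  have hy1 : B (lam • e₂) e₁ = 0 := by
    rw [map_smul, LinearMap.smul_apply, h21, smul_zero]
  have hy2 : B e₁ (lam • e₂) = 0 := by rw [map_smulₛₗ, h12, smul_zero]
  rw [LinearEquiv.mul_apply, utv_apply B h22, eich_apply B h11 hy1 hy2]
  simp only [map_add, map_smul, map_smulₛₗ, LinearMap.add_apply, LinearMap.smul_apply,
    smul_eq_mul, h21, h22, mul_zero, add_zero]
  module

/-- G-LINE4: rank one elements of `A_l` are root elements. -/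
theorem line_root {q : ℕ} (Hy : U4Hyp B q) {e₁ e₂ f₁ f₂ : V} (h1 : HypPair B e₁ f₁)
    (h2 : HypPair B e₂ f₂) (h12 : B e₁ e₂ = 0) (h12' : B e₁ f₂ = 0) (h21 : B f₁ e₂ = 0)
    (hff : B f₁ f₂ = 0) {c₁ lam s : F} (hc : σ c₁ = -c₁) (hs : σ s = -s)
    (hdet : c₁ * s + lam * σ lam = 0) :
    ∃ α γ : F, (α ≠ 0 ∨ γ ≠ 0) ∧ eich B e₁ (lam • e₂) c₁ * utv B e₂ s ∈ Xg B (α • e₁ + γ • e₂) := by
  have hB := Hy.hB
  have he21 : B e₂ e₁ = 0 := herm_eq_zero hB h12
  by_cases hc0 : c₁ = 0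
  · -- then `lam = 0` and `b = utv B e₂ s`
    have hl : lam = 0 := by
      rw [hc0, zero_mul, zero_add] at hdet
      rcases mul_eq_zero.mp hdet with h | h
      · exact h
      · exact (map_eq_zero σ).mp h
    refine ⟨0, 1, Or.inr one_ne_zero, ?_⟩
    have hb : eich B e₁ (lam • e₂) c₁ * utv B e₂ s = utv B ((0 : F) • e₁ + (1 : F) • e₂) s := by
      ext x
      rw [b_apply hB h1.ee h2.ee h12, zero_smul, one_smul, zero_add, utv_apply B h2.ee, hc0, hl]
      simp only [map_zero, neg_zero, zero_smul, add_zero, smul_zero, zero_add, smul_smul]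
      rw [mul_comm]
    rw [hb]
    exact Subgroup.subset_closure ⟨s, hs, rfl⟩
  · -- `b = utv B (c₁ • e₁ + lam • e₂) (-c₁⁻¹)`
    refine ⟨c₁, lam, Or.inl hc0, ?_⟩
    have huu : B (c₁ • e₁ + lam • e₂) (c₁ • e₁ + lam • e₂) = 0 := by
      simp only [map_add, map_smul, map_smulₛₗ, LinearMap.add_apply, LinearMap.smul_apply,
        smul_eq_mul, h1.ee, h2.ee, h12, he21, mul_zero, add_zero]
    have hd : σ (-c₁⁻¹) = -(-c₁⁻¹) := by
      rw [map_neg, map_inv₀, hc, inv_neg]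
    have hs' : s = -(lam * σ lam) * c₁⁻¹ := by
      field_simp
      linear_combination hdet
    have hb : eich B e₁ (lam • e₂) c₁ * utv B e₂ s = utv B (c₁ • e₁ + lam • e₂) (-c₁⁻¹) := by
      ext x
      rw [b_apply hB h1.ee h2.ee h12, utv_apply B huu]
      simp only [map_add, map_smulₛₗ, smul_eq_mul, hc]
      rw [hs']
      match_scalars <;> field_simp <;> ring
    rw [hb]
    exact Subgroup.subset_closure ⟨-c₁⁻¹, hd, rfl⟩

end Cfsg.Agent.Lib.Helper54_U4_LINE4
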