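import Mathlib
import Cfsg.Agent.Lib.Helper39_U4Defs
import Cfsg.Agent.Lib.Helper13_SUGen
import Cfsg.Agent.Lib.Helper94_HermTrans
import Cfsg.Agent.Lib.Helper54_U4_LINE4

/-!
# S2150 (architect helper39), package G-LINE3: membership of `b(c₁, lam, s)` in `Qg B (α e₁ + γ e₂)`
is the vanishing of the skew-hermitian form `Ψ`
-/

set_option autoImplicit false

namespace Cfsg.Agent.Lib.Helper54_U4_LINE3

open Module Cfsg.Agent.Lib.Helper94_Symp Cfsg.Agent.Lib.Helper94_Herm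
  Cfsg.Agent.Lib.Helper94_HermEich Cfsg.Agent.Lib.Helper94_HermOrth
  Cfsg.Agent.Lib.Helper13_SUGen Cfsg.Agent.Lib.Helper39_U4Defs
  Cfsg.Agent.Lib.Helper54_U4_LINE4

variable {F V : Type*} [Field F] [AddCommGroup V] [Module F V] {σ : F →+* F}
  {B : V →ₗ[F] V →ₛₗ[σ] F} [Finite F] [FiniteDimensional F V]

/-- the elements of `Qg B v` fix `v` and move the vectors orthogonal to `v` along `v` -/
lemma Qg_shape (hB : IsHerm B) {v : V} (hv : B v v = 0) {g : V ≃ₗ[F] V} (hg : g ∈ Qg B v) :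
    g v = v ∧ ∀ x : V, B x v = 0 → ∃ t : F, g x = x + t • v := by
  unfold Qg at hg
  induction hg using Subgroup.closure_induction with
  | mem g hg =>
    obtain ⟨w, c, hwv, -, rfl⟩ := hg
    have hvw : B v w = 0 := herm_eq_zero hB hwv
    constructor
    · rw [eich_apply B hv hwv hvw, hv, hvw]
      simp
    · intro x hx
      refine ⟨-(B x w), ?_⟩
      rw [eich_apply B hv hwv hvw, hx]
      simp only [zero_smul, add_zero, mul_zero, neg_smul]
      abel
  | one =>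
    exact ⟨rfl, fun x _ => ⟨0, by simp⟩⟩
  | mul g g' _ _ ih ih' =>
    obtain ⟨h1, h2⟩ := ih
    obtain ⟨h1', h2'⟩ := ih'
    constructor
    · rw [LinearEquiv.mul_apply, h1', h1]
    · intro x hx
      obtain ⟨t', ht'⟩ := h2' x hx
      obtain ⟨t, ht⟩ := h2 x hx
      refine ⟨t + t', ?_⟩
      rw [LinearEquiv.mul_apply, ht', map_add, map_smul, h1, ht, add_smul, add_assoc]
  | inv g _ ih =>
    obtain ⟨h1, h2⟩ := ih
    have hinv : g⁻¹ v = v := by
      have : g⁻¹ (g v) = v := by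
        rw [← LinearEquiv.mul_apply, inv_mul_cancel]; rfl
      rwa [h1] at this
    constructor
    · exact hinv
    · intro x hx
      obtain ⟨t, ht⟩ := h2 x hx
      refine ⟨-t, ?_⟩
      have : g⁻¹ (g x) = x := by
        rw [← LinearEquiv.mul_apply, inv_mul_cancel]; rfl
      rw [ht, map_add, map_smul, hinv] at this
      rw [neg_smul]
      exact eq_add_neg_of_add_eq this

/-- G-LINE3: membership of `b(c₁,lam,s)` in `Qg B (α e₁ + γ e₂)`: the skew-hermitian form `Ψ`. -/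
theorem line_Q_iff {q : ℕ} (Hy : U4Hyp B q) {e₁ e₂ f₁ f₂ : V} (h1 : HypPair B e₁ f₁)
    (h2 : HypPair B e₂ f₂) (h12 : B e₁ e₂ = 0) (h12' : B e₁ f₂ = 0) (h21 : B f₁ e₂ = 0)
    (hff : B f₁ f₂ = 0) {c₁ lam s : F} (hc : σ c₁ = -c₁) (hs : σ s = -s) {α γ : F}
    (hαγ : α ≠ 0 ∨ γ ≠ 0) :
    eich B e₁ (lam • e₂) c₁ * utv B e₂ s ∈ Qg B (α • e₁ + γ • e₂) ↔
      γ * σ γ * c₁ + α * σ α * s + σ α * γ * σ lam - α * σ γ * lam = 0 := by
  have hB := Hy.hB
  have hσ := Hy.hσ
  have he21 : B e₂ e₁ = 0 := herm_eq_zero hB h12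
  have hf2e1 : B f₂ e₁ = 0 := herm_eq_zero hB h12'
  have he2f1 : B e₂ f₁ = 0 := herm_eq_zero hB h21
  have hf2f1 : B f₂ f₁ = 0 := herm_eq_zero hB hff
  have hvv : B (α • e₁ + γ • e₂) (α • e₁ + γ • e₂) = 0 := by
    simp only [map_add, map_smul, map_smulₛₗ, LinearMap.add_apply, LinearMap.smul_apply,
      smul_eq_mul, h1.ee, h2.ee, h12, he21, mul_zero, add_zero]
  constructor
  · intro hmem
    obtain ⟨-, hshape⟩ := Qg_shape hB hvv hmem
    have hx0 : B (σ γ • f₁ - σ α • f₂) (α • e₁ + γ • e₂) = 0 := by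
      simp only [map_add, map_sub, map_smul, map_smulₛₗ, LinearMap.add_apply,
        LinearMap.sub_apply, LinearMap.smul_apply, smul_eq_mul, h1.fe, h2.fe, h21, hf2e1,
        mul_zero, mul_one, add_zero, zero_add, sub_zero]
      ring
    obtain ⟨t, ht⟩ := hshape _ hx0
    rw [b_apply hB h1.ee h2.ee h12] at ht
    -- pair both sides with `x₀`
    have hpair := congrArg (fun y => B y (σ γ • f₁ - σ α • f₂)) ht
    simp only [map_add, map_sub, map_smul, map_smulₛₗ, map_neg, LinearMap.add_apply,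
      LinearMap.sub_apply, LinearMap.smul_apply, LinearMap.neg_apply, smul_eq_mul,
      h1.ee, h1.ff, h1.ef, h1.fe, h2.ee, h2.ff, h2.ef, h2.fe, h12, h12', h21, hff,
      he21, hf2e1, he2f1, hf2f1, hσ.invol, mul_zero, mul_one, add_zero, zero_add, sub_zero,
      zero_sub, neg_zero] at hpair
    linear_combination hpair
  · intro hΨ
    rcases hαγ with hα | hγ
    · -- `b = eich B v ((σ α)⁻¹ • (c₁ • e₁ + lam • e₂)) (-(c₁ * (α * σ α)⁻¹))`
      have hσα : σ α ≠ 0 := (map_ne_zero σ).mpr hα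
      have hwv : B ((σ α)⁻¹ • (c₁ • e₁ + lam • e₂)) (α • e₁ + γ • e₂) = 0 := by
        simp only [map_add, map_smul, map_smulₛₗ, LinearMap.add_apply, LinearMap.smul_apply,
          smul_eq_mul, h1.ee, h2.ee, h12, he21, mul_zero, add_zero]
      have hvw : B (α • e₁ + γ • e₂) ((σ α)⁻¹ • (c₁ • e₁ + lam • e₂)) = 0 :=
        herm_eq_zero hB hwv
      have hww : B ((σ α)⁻¹ • (c₁ • e₁ + lam • e₂)) ((σ α)⁻¹ • (c₁ • e₁ + lam • e₂)) = 0 := by
        simp only [map_add, map_smul, map_smulₛₗ, LinearMap.add_apply, LinearMap.smul_apply,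
          smul_eq_mul, h1.ee, h2.ee, h12, he21, mul_zero, add_zero]
      have hcc : -(c₁ * (α * σ α)⁻¹) + σ (-(c₁ * (α * σ α)⁻¹)) =
          -(B ((σ α)⁻¹ • (c₁ • e₁ + lam • e₂)) ((σ α)⁻¹ • (c₁ • e₁ + lam • e₂))) := by
        rw [hww, map_neg, map_mul, map_inv₀, map_mul, hσ.invol, hc, mul_comm (σ α) α]
        ring
      have hb : eich B e₁ (lam • e₂) c₁ * utv B e₂ s =
          eich B (α • e₁ + γ • e₂) ((σ α)⁻¹ • (c₁ • e₁ + lam • e₂)) (-(c₁ * (α * σ α)⁻¹)) := by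
        ext x
        rw [b_apply hB h1.ee h2.ee h12, eich_apply B hvv hwv hvw]
        simp only [map_add, map_smulₛₗ, smul_eq_mul, hc, map_inv₀, hσ.invol]
        have hs' : s = (α * σ γ * lam - σ α * γ * σ lam - γ * σ γ * c₁) * (α * σ α)⁻¹ := by
          field_simp
          linear_combination hΨ
        rw [hs']
        match_scalars <;> field_simp <;> ring
      rw [hb]
      exact Subgroup.subset_closure ⟨_, _, hwv, hcc, rfl⟩
    · -- `b = eich B v ((σ γ)⁻¹ • (-(σ lam) • e₁ + s • e₂)) (-(s * (γ * σ γ)⁻¹))`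
      have hσγ : σ γ ≠ 0 := (map_ne_zero σ).mpr hγ
      have hwv : B ((σ γ)⁻¹ • (-(σ lam) • e₁ + s • e₂)) (α • e₁ + γ • e₂) = 0 := by
        simp only [map_add, map_smul, map_smulₛₗ, LinearMap.add_apply, LinearMap.smul_apply,
          smul_eq_mul, h1.ee, h2.ee, h12, he21, mul_zero, add_zero]
      have hvw : B (α • e₁ + γ • e₂) ((σ γ)⁻¹ • (-(σ lam) • e₁ + s • e₂)) = 0 :=
        herm_eq_zero hB hwv
      have hww : B ((σ γ)⁻¹ • (-(σ lam) • e₁ + s • e₂))
          ((σ γ)⁻¹ • (-(σ lam) • e₁ + s • e₂)) = 0 := by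
        simp only [map_add, map_smul, map_smulₛₗ, LinearMap.add_apply, LinearMap.smul_apply,
          smul_eq_mul, h1.ee, h2.ee, h12, he21, mul_zero, add_zero]
      have hcc : -(s * (γ * σ γ)⁻¹) + σ (-(s * (γ * σ γ)⁻¹)) =
          -(B ((σ γ)⁻¹ • (-(σ lam) • e₁ + s • e₂)) ((σ γ)⁻¹ • (-(σ lam) • e₁ + s • e₂))) := by
        rw [hww, map_neg, map_mul, map_inv₀, map_mul, hσ.invol, hs, mul_comm (σ γ) γ]
        ring
      have hb : eich B e₁ (lam • e₂) c₁ * utv B e₂ s =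
          eich B (α • e₁ + γ • e₂) ((σ γ)⁻¹ • (-(σ lam) • e₁ + s • e₂))
            (-(s * (γ * σ γ)⁻¹)) := by
        ext x
        rw [b_apply hB h1.ee h2.ee h12, eich_apply B hvv hwv hvw]
        simp only [map_add, map_smulₛₗ, map_neg, smul_eq_mul, hs, map_inv₀, hσ.invol]
        have hc' : c₁ = (α * σ γ * lam - σ α * γ * σ lam - α * σ α * s) * (γ * σ γ)⁻¹ := by
          field_simp
          linear_combination hΨ
        rw [hc']
        match_scalars <;> field_simp <;> ring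
      rw [hb]
      exact Subgroup.subset_closure ⟨_, _, hwv, hcc, rfl⟩

end Cfsg.Agent.Lib.Helper54_U4_LINE3
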