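import Mathlib
import Cfsg.Agent.Lib.Helper39_U4Defs
import Cfsg.Agent.Lib.Helper13_SUGen
import Cfsg.Agent.Lib.Helper95_UQ_FLD

/-!
# S2150 package G-LINE2 (architect helper39): the pointwise stabiliser of a t.i. line in coordinates
-/

set_option autoImplicit false

namespace Cfsg.Agent.Lib.Helper99_U4_GLINE2

open Module Cfsg.Agent.Lib.Helper94_Symp Cfsg.Agent.Lib.Helper94_Herm
  Cfsg.Agent.Lib.Helper94_HermEich Cfsg.Agent.Lib.Helper94_HermOrth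
  Cfsg.Agent.Lib.Helper13_SUGen Cfsg.Agent.Lib.Helper39_U4Defs

variable {F V : Type*} [Field F] [AddCommGroup V] [Module F V] {σ : F →+* F}
  {B : V →ₗ[F] V →ₛₗ[σ] F}

/-- the hypotheses on a hyperbolic frame `e₁, e₂, f₁, f₂` -/
structure Frame (B : V →ₗ[F] V →ₛₗ[σ] F) (e₁ e₂ f₁ f₂ : V) : Prop where
  h1 : HypPair B e₁ f₁
  h2 : HypPair B e₂ f₂
  e12 : B e₁ e₂ = 0
  e21 : B e₂ e₁ = 0
  e1f2 : B e₁ f₂ = 0
  f2e1 : B f₂ e₁ = 0
  f1e2 : B f₁ e₂ = 0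
  e2f1 : B e₂ f₁ = 0
  f12 : B f₁ f₂ = 0
  f21 : B f₂ f₁ = 0

theorem frame_mk (hB : IsHerm B) {e₁ e₂ f₁ f₂ : V} (h1 : HypPair B e₁ f₁)
    (h2 : HypPair B e₂ f₂) (h12 : B e₁ e₂ = 0) (h12' : B e₁ f₂ = 0) (h21 : B f₁ e₂ = 0)
    (hff : B f₁ f₂ = 0) : Frame B e₁ e₂ f₁ f₂ :=
  ⟨h1, h2, h12, herm_eq_zero hB h12, h12', herm_eq_zero hB h12', h21, herm_eq_zero hB h21, hff,
    herm_eq_zero hB hff⟩

section frame

variable {e₁ e₂ f₁ f₂ : V} (Fr : Frame B e₁ e₂ f₁ f₂)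
include Fr

theorem frame_li : LinearIndependent F ![e₁, e₂, f₁, f₂] := by
  rw [Fintype.linearIndependent_iff]
  intro g hg
  simp only [Fin.sum_univ_four, Matrix.cons_val_zero, Matrix.cons_val_one,
    Matrix.cons_val_two, Matrix.cons_val_three, Matrix.head_cons, Matrix.tail_cons] at hg
  have k0 := congrArg (fun x => B x f₁) hg
  have k1 := congrArg (fun x => B x f₂) hg
  have k2 := congrArg (fun x => B x e₁) hg
  have k3 := congrArg (fun x => B x e₂) hg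
  simp only [map_add, map_smul, LinearMap.add_apply, LinearMap.smul_apply, smul_eq_mul,
    Fr.h1.ee, Fr.h1.ff, Fr.h1.ef, Fr.h1.fe, Fr.h2.ee, Fr.h2.ff, Fr.h2.ef, Fr.h2.fe, Fr.e12, Fr.e21,
    Fr.e1f2, Fr.f2e1, Fr.f1e2, Fr.e2f1, Fr.f12, Fr.f21, mul_zero, mul_one, add_zero, zero_add,
    map_zero, LinearMap.zero_apply] at k0 k1 k2 k3
  intro i
  fin_cases i
  · exact k0
  · exact k1
  · exact k2
  · exact k3

theorem frame_span [FiniteDimensional F V] (h4 : finrank F V = 4) :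
    Submodule.span F (Set.range ![e₁, e₂, f₁, f₂]) = ⊤ :=
  (frame_li Fr).span_eq_top_of_card_eq_finrank' (by simp [h4])

/-- coordinates in a hyperbolic frame -/
theorem frame_decomp [FiniteDimensional F V] (hN : NondegOn B ⊤) (h4 : finrank F V = 4) (x : V) :
    x = B x f₁ • e₁ + B x f₂ • e₂ + B x e₁ • f₁ + B x e₂ • f₂ := by
  obtain ⟨d, hd⟩ : ∃ d, d = x - (B x f₁ • e₁ + B x f₂ • e₂ + B x e₁ • f₁ + B x e₂ • f₂) := ⟨_, rfl⟩
  have k0 : B d f₁ = 0 := by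
    rw [hd]
    simp only [map_sub, map_add, map_smul, LinearMap.sub_apply, LinearMap.add_apply,
      LinearMap.smul_apply, smul_eq_mul, Fr.h1.ff, Fr.h1.ef, Fr.e2f1, Fr.f21]
    ring
  have k1 : B d f₂ = 0 := by
    rw [hd]
    simp only [map_sub, map_add, map_smul, LinearMap.sub_apply, LinearMap.add_apply,
      LinearMap.smul_apply, smul_eq_mul, Fr.h2.ff, Fr.h2.ef, Fr.e1f2, Fr.f12]
    ring
  have k2 : B d e₁ = 0 := by
    rw [hd]
    simp only [map_sub, map_add, map_smul, LinearMap.sub_apply, LinearMap.add_apply,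
      LinearMap.smul_apply, smul_eq_mul, Fr.h1.ee, Fr.h1.fe, Fr.e21, Fr.f2e1]
    ring
  have k3 : B d e₂ = 0 := by
    rw [hd]
    simp only [map_sub, map_add, map_smul, LinearMap.sub_apply, LinearMap.add_apply,
      LinearMap.smul_apply, smul_eq_mul, Fr.h2.ee, Fr.h2.fe, Fr.e12, Fr.f1e2]
    ring
  have hall : ∀ y : V, B d y = 0 := by
    intro y
    have hy : y ∈ Submodule.span F (Set.range ![e₁, e₂, f₁, f₂]) := by
      rw [frame_span Fr h4]; trivial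
    induction hy using Submodule.span_induction with
    | mem z hz =>
      obtain ⟨i, rfl⟩ := hz
      fin_cases i
      · exact k2
      · exact k3
      · exact k0
      · exact k1
    | zero => simp
    | add a b _ _ ha hb => rw [map_add, ha, hb, add_zero]
    | smul c a _ ha => rw [map_smulₛₗ, ha, smul_zero]
  have hd0 : d = 0 := by
    by_contra hne
    obtain ⟨y, -, hy⟩ := hN d trivial hne
    exact hy (hall y)
  rw [hd0] at hd
  exact sub_eq_zero.mp hd.symm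

/-- two linear equivalences agreeing on the frame agree -/
theorem frame_ext [FiniteDimensional F V] (hN : NondegOn B ⊤) (h4 : finrank F V = 4)
    {g g' : V ≃ₗ[F] V} (k1 : g e₁ = g' e₁) (k2 : g e₂ = g' e₂) (k3 : g f₁ = g' f₁)
    (k4 : g f₂ = g' f₂) : g = g' := by
  ext x
  rw [frame_decomp Fr hN h4 x]
  simp only [map_add, map_smul, k1, k2, k3, k4]

/-- the element `b(c₁, lam, s)` of `A_l` -/
noncomputable def bel (B : V →ₗ[F] V →ₛₗ[σ] F) (e₁ e₂ : V) (c₁ lam s : F) : V ≃ₗ[F] V :=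
  eich B e₁ (lam • e₂) c₁ * utv B e₂ s

theorem bel_apply (c₁ lam s : F) (x : V) :
    bel B e₁ e₂ c₁ lam s x = x + (s * B x e₂) • e₂ + (B x e₁ * lam) • e₂
      - (σ lam * B x e₂) • e₁ + (c₁ * B x e₁) • e₁ := by
  have hyw : B (lam • e₂) e₁ = 0 := by
    rw [map_smul, LinearMap.smul_apply, Fr.e21, smul_zero]
  have hwy : B e₁ (lam • e₂) = 0 := by
    rw [map_smulₛₗ, Fr.e12, smul_zero]
  unfold bel
  rw [LinearEquiv.mul_apply, utv_apply B Fr.h2.ee, eich_apply B Fr.h1.ee hyw hwy]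
  simp only [map_add, map_smul, map_smulₛₗ, LinearMap.add_apply, LinearMap.smul_apply,
    smul_eq_mul, Fr.e21, Fr.h2.ee, mul_zero, add_zero]
  module

theorem bel_e1 (c₁ lam s : F) : bel B e₁ e₂ c₁ lam s e₁ = e₁ := by
  rw [bel_apply Fr, Fr.h1.ee, Fr.e12]; simp

theorem bel_e2 (c₁ lam s : F) : bel B e₁ e₂ c₁ lam s e₂ = e₂ := by
  rw [bel_apply Fr, Fr.h2.ee, Fr.e21]; simp

theorem bel_f1 (c₁ lam s : F) : bel B e₁ e₂ c₁ lam s f₁ = f₁ + c₁ • e₁ + lam • e₂ := by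
  rw [bel_apply Fr, Fr.h1.fe, Fr.f1e2]
  simp only [mul_zero, zero_smul, add_zero, sub_zero, one_mul, mul_one]
  abel

theorem bel_f2 (c₁ lam s : F) : bel B e₁ e₂ c₁ lam s f₂ = f₂ - σ lam • e₁ + s • e₂ := by
  rw [bel_apply Fr, Fr.h2.fe, Fr.f2e1]
  simp only [mul_zero, zero_smul, add_zero, zero_mul, mul_one]
  abel

theorem bel_mem (hB : IsHerm B) {c₁ lam s : F} (hc : σ c₁ = -c₁) (hs : σ s = -s) :
    bel B e₁ e₂ c₁ lam s ∈ uG B ⊓ fixer (Submodule.span F {e₁, e₂}) := by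
  refine ⟨?_, ?_⟩
  · refine (uG B).mul_mem (eich_mem_uG hB ?_) (utv_mem_uG hB e₂ hs)
    rw [self_smul, Fr.h2.ee, hc]; ring
  · intro x hx
    obtain ⟨a, b, rfl⟩ := Submodule.mem_span_pair.mp hx
    rw [map_add, map_smul, map_smul, bel_e1 Fr, bel_e2 Fr]

theorem exists_bel [FiniteDimensional F V] (hσ : Invol σ) (hN : NondegOn B ⊤)
    (h4 : finrank F V = 4) {b : V ≃ₗ[F] V}
    (hb : b ∈ uG B ⊓ fixer (Submodule.span F {e₁, e₂})) :
    ∃ c₁ lam s : F, σ c₁ = -c₁ ∧ σ s = -s ∧ b = bel B e₁ e₂ c₁ lam s := by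
  obtain ⟨hbu, hbf⟩ := hb
  have he1 : b e₁ = e₁ := hbf e₁ (Submodule.subset_span (by simp))
  have he2 : b e₂ = e₂ := hbf e₂ (Submodule.subset_span (by simp))
  have g1 : B (b f₁) e₁ = 1 := by
    have := hbu f₁ e₁
    rw [he1, Fr.h1.fe] at this; exact this
  have g2 : B (b f₁) e₂ = 0 := by
    have := hbu f₁ e₂
    rw [he2, Fr.f1e2] at this; exact this
  have g3 : B (b f₂) e₁ = 0 := by
    have := hbu f₂ e₁
    rw [he1, Fr.f2e1] at this; exact this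
  have g4 : B (b f₂) e₂ = 1 := by
    have := hbu f₂ e₂
    rw [he2, Fr.h2.fe] at this; exact this
  have d1 := frame_decomp Fr hN h4 (b f₁)
  have d2 := frame_decomp Fr hN h4 (b f₂)
  rw [g1, g2] at d1
  rw [g3, g4] at d2
  obtain ⟨c₁, hc₁⟩ : ∃ c, c = B (b f₁) f₁ := ⟨_, rfl⟩
  obtain ⟨lam, hlam⟩ : ∃ c, c = B (b f₁) f₂ := ⟨_, rfl⟩
  obtain ⟨t, ht⟩ : ∃ c, c = B (b f₂) f₁ := ⟨_, rfl⟩
  obtain ⟨s, hs⟩ : ∃ c, c = B (b f₂) f₂ := ⟨_, rfl⟩
  rw [← hc₁, ← hlam] at d1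
  rw [← ht, ← hs] at d2
  -- the isometry conditions
  have q1 : B (b f₁) (b f₁) = 0 := by rw [hbu, Fr.h1.ff]
  have q2 : B (b f₂) (b f₂) = 0 := by rw [hbu, Fr.h2.ff]
  have q3 : B (b f₁) (b f₂) = 0 := by rw [hbu, Fr.f12]
  have r1 : σ c₁ = -c₁ := by
    have : B (b f₁) (c₁ • e₁ + lam • e₂ + (1 : F) • f₁ + (0 : F) • f₂) = 0 := by
      rw [← d1]; exact q1
    simp only [map_add, map_smulₛₗ, g1, g2, ← hc₁, ← hlam, smul_eq_mul, mul_one, mul_zero,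
      add_zero, map_one, map_zero, one_mul, zero_mul] at this
    linear_combination this
  have r2 : σ s = -s := by
    have : B (b f₂) (t • e₁ + s • e₂ + (0 : F) • f₁ + (1 : F) • f₂) = 0 := by
      rw [← d2]; exact q2
    simp only [map_add, map_smulₛₗ, g3, g4, ← ht, ← hs, smul_eq_mul, mul_one, mul_zero,
      add_zero, map_one, map_zero, one_mul, zero_mul, zero_add] at this
    linear_combination this
  have r3 : t = -σ lam := by
    have : B (b f₁) (t • e₁ + s • e₂ + (0 : F) • f₁ + (1 : F) • f₂) = 0 := by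
      rw [← d2]; exact q3
    simp only [map_add, map_smulₛₗ, g1, g2, ← hc₁, ← hlam, smul_eq_mul, mul_one, mul_zero,
      add_zero, map_one, map_zero, one_mul, zero_mul] at this
    have h5 : σ t = -lam := by linear_combination this
    have h6 := congrArg σ h5
    rw [hσ.invol, map_neg] at h6
    exact h6
  refine ⟨c₁, lam, s, r1, r2, ?_⟩
  apply frame_ext Fr hN h4
  · rw [he1, bel_e1 Fr]
  · rw [he2, bel_e2 Fr]
  · rw [bel_f1 Fr, d1]; module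
  · rw [bel_f2 Fr, d2, r3]; module

theorem bel_inj {c₁ lam s c₁' lam' s' : F}
    (h : bel B e₁ e₂ c₁ lam s = bel B e₁ e₂ c₁' lam' s') : c₁ = c₁' ∧ lam = lam' ∧ s = s' := by
  have k1 := congrArg (fun g : V ≃ₗ[F] V => g f₁) h
  have k2 := congrArg (fun g : V ≃ₗ[F] V => g f₂) h
  simp only [bel_f1 Fr, bel_f2 Fr] at k1 k2
  have a1 := congrArg (fun x => B x f₁) k1
  have a2 := congrArg (fun x => B x f₂) k1
  have a3 := congrArg (fun x => B x f₂) k2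
  simp only [map_add, map_sub, map_smul, LinearMap.add_apply, LinearMap.sub_apply,
    LinearMap.smul_apply, smul_eq_mul, Fr.h1.ff, Fr.h1.ef, Fr.e2f1, Fr.f12, Fr.e1f2, Fr.h2.ef,
    Fr.h2.ff, mul_one, mul_zero, add_zero, zero_add, sub_zero] at a1 a2 a3
  exact ⟨a1, a2, a3⟩

end frame

variable [Finite F] [FiniteDimensional F V]

/-- G-LINE2: the elements of `A_l` in coordinates; `|A_l|` divides `q^4`. -/
theorem line_param {q : ℕ} (Hy : U4Hyp B q) {e₁ e₂ f₁ f₂ : V} (h1 : HypPair B e₁ f₁)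
    (h2 : HypPair B e₂ f₂) (h12 : B e₁ e₂ = 0) (h12' : B e₁ f₂ = 0) (h21 : B f₁ e₂ = 0)
    (hff : B f₁ f₂ = 0) :
    (∀ b, b ∈ uG B ⊓ fixer (Submodule.span F {e₁, e₂}) ↔
      ∃ c₁ lam s : F, σ c₁ = -c₁ ∧ σ s = -s ∧ b = eich B e₁ (lam • e₂) c₁ * utv B e₂ s) ∧
    Nat.card ↥(uG B ⊓ fixer (Submodule.span F {e₁, e₂})) ∣ q ^ 4 := by
  have Fr : Frame B e₁ e₂ f₁ f₂ := frame_mk Hy.hB h1 h2 h12 h12' h21 hff
  have hiff : ∀ b, b ∈ uG B ⊓ fixer (Submodule.span F {e₁, e₂}) ↔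
      ∃ c₁ lam s : F, σ c₁ = -c₁ ∧ σ s = -s ∧ b = eich B e₁ (lam • e₂) c₁ * utv B e₂ s := by
    intro b
    constructor
    · intro hb
      exact exists_bel Fr Hy.hσ Hy.hN Hy.h4 hb
    · rintro ⟨c₁, lam, s, hc, hs, rfl⟩
      exact bel_mem Fr Hy.hB hc hs
  refine ⟨hiff, ?_⟩
  have hcard : Nat.card ↥(uG B ⊓ fixer (Submodule.span F {e₁, e₂})) = q ^ 4 := by
    have e : ({c : F // σ c = -c} × F × {c : F // σ c = -c}) ≃
        ↥(uG B ⊓ fixer (Submodule.span F {e₁, e₂})) := by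
      refine Equiv.ofBijective
        (fun p => ⟨bel B e₁ e₂ p.1.1 p.2.1 p.2.2.1, bel_mem Fr Hy.hB p.1.2 p.2.2.2⟩) ⟨?_, ?_⟩
      · rintro ⟨⟨c, hc⟩, l, ⟨s, hs⟩⟩ ⟨⟨c', hc'⟩, l', ⟨s', hs'⟩⟩ h
        have h' := congrArg Subtype.val h
        obtain ⟨k1, k2, k3⟩ := bel_inj Fr h'
        subst k1 k2 k3
        rfl
      · rintro ⟨b, hb⟩
        obtain ⟨c₁, lam, s, hc, hs, rfl⟩ := exists_bel Fr Hy.hσ Hy.hN Hy.h4 hb
        exact ⟨⟨⟨c₁, hc⟩, lam, ⟨s, hs⟩⟩, rfl⟩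
    rw [← Nat.card_congr e, Nat.card_prod, Nat.card_prod,
      Cfsg.Agent.Lib.Helper95_UQ_FLD.card_skew Hy.hσ Hy.hq, Hy.hq]
    ring
  rw [hcard]

end Cfsg.Agent.Lib.Helper99_U4_GLINE2
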