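import Mathlib
import Cfsg.Agent.Lib.Helper39_U4Defs
import Cfsg.Agent.Lib.Helper13_SUGen
import Cfsg.Agent.Lib.Helper94_HermTrans
import Cfsg.Agent.Lib.Helper54_U4_LINE3
import Cfsg.Agent.Lib.Helper54_U4_LINE4
import Cfsg.Agent.Lib.Helper50_U4_G_LINE1
import Cfsg.Agent.Lib.Helper99_U4_GLINE2
import Cfsg.Agent.Lib.Helper35_U4_GLINE5

/-!
# S2150 (architect helper39), package G-G1: a non-root element `b ≠ 1` of the radical `A_l` of a
totally isotropic line `l` lies in `Qg B v` for exactly `(q+1)(q^2-1)` nonzero vectors `v` of `l`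
-/

set_option autoImplicit false

namespace Cfsg.Agent.Lib.Helper54_U4_G1

open Module Cfsg.Agent.Lib.Helper94_Symp Cfsg.Agent.Lib.Helper94_Herm
  Cfsg.Agent.Lib.Helper94_HermEich Cfsg.Agent.Lib.Helper94_HermOrth
  Cfsg.Agent.Lib.Helper13_SUGen Cfsg.Agent.Lib.Helper39_U4Defs
  Cfsg.Agent.Lib.Helper54_U4_LINE4 Cfsg.Agent.Lib.Helper54_U4_LINE3

variable {F V : Type*} [Field F] [AddCommGroup V] [Module F V] {σ : F →+* F}
  {B : V →ₗ[F] V →ₛₗ[σ] F} [Finite F] [FiniteDimensional F V]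

/-- G-G1 (§4.2 (G1), vector form): a non-root element `b ≠ 1` of `A_l` lies in `Qg B v` for exactly
`(q+1)(q^2-1)` nonzero vectors `v` of `l`. -/
theorem G1 {q : ℕ} (Hy : U4Hyp B q) {l : Submodule F V} (hl : IsTILine B l) {b : V ≃ₗ[F] V}
    (hb : b ∈ uG B ⊓ fixer l) (hb1 : b ≠ 1) (hroot : ∀ v ∈ l, v ≠ 0 → b ∉ Xg B v) :
    Nat.card {v : ↥l // v ≠ 0 ∧ b ∈ Qg B (v : V)} = (q + 1) * (q ^ 2 - 1) := by
  classical
  have hB := Hy.hB
  have hσ := Hy.hσ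
  obtain ⟨e₁, e₂, f₁, f₂, hl_eq, h1, h2, h12, h12', h21, hff, hcoord⟩ :=
    Cfsg.Agent.Lib.Helper50_U4_G_LINE1.line_coords Hy hl
  obtain ⟨hparam, -⟩ := Cfsg.Agent.Lib.Helper99_U4_GLINE2.line_param Hy h1 h2 h12 h12' h21 hff
  have he21 : B e₂ e₁ = 0 := herm_eq_zero hB h12
  have he2f1 : B e₂ f₁ = 0 := herm_eq_zero hB h21
  have hmem : ∀ α γ : F, α • e₁ + γ • e₂ ∈ l := by
    intro α γ
    rw [hl_eq]
    exact Submodule.add_mem _ (Submodule.smul_mem _ _ (Submodule.subset_span (by simp)))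
      (Submodule.smul_mem _ _ (Submodule.subset_span (by simp)))
  have hco1 : ∀ α γ : F, B (α • e₁ + γ • e₂) f₁ = α := by
    intro α γ
    simp only [map_add, map_smul, LinearMap.add_apply, LinearMap.smul_apply, smul_eq_mul, h1.ef,
      he2f1, mul_one, mul_zero, add_zero]
  have hco2 : ∀ α γ : F, B (α • e₁ + γ • e₂) f₂ = γ := by
    intro α γ
    simp only [map_add, map_smul, LinearMap.add_apply, LinearMap.smul_apply, smul_eq_mul, h2.ef,
      h12', mul_one, mul_zero, zero_add]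
  have hne : ∀ α γ : F, (α ≠ 0 ∨ γ ≠ 0) → α • e₁ + γ • e₂ ≠ 0 := by
    intro α γ hαγ h0
    have e1 := hco1 α γ
    have e2 := hco2 α γ
    rw [h0] at e1 e2
    simp only [map_zero, LinearMap.zero_apply] at e1 e2
    rcases hαγ with h | h
    · exact h e1.symm
    · exact h e2.symm
  rw [hl_eq] at hb
  obtain ⟨c₁, lam, s, hc, hs, rfl⟩ := (hparam b).mp hb
  -- the determinant is nonzero
  have hdet : c₁ * s + lam * σ lam ≠ 0 := by
    intro h0
    obtain ⟨α, γ, hαγ, hX⟩ := line_root Hy h1 h2 h12 h12' h21 hff hc hs h0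
    exact hroot _ (hmem α γ) (hne α γ hαγ) hX
  haveI : Fintype F := Fintype.ofFinite F
  rw [← Cfsg.Agent.Lib.Helper35_U4_GLINE5.psi_count hσ Hy.hq Hy.hσq hc hs hdet]
  symm
  apply Nat.card_congr
  refine Equiv.ofBijective (fun p => ⟨⟨p.1.1 • e₁ + p.1.2 • e₂, hmem _ _⟩, ?_, ?_⟩) ⟨?_, ?_⟩
  · intro h0
    exact hne _ _ p.2.1 (congrArg Subtype.val h0)
  · exact (line_Q_iff Hy h1 h2 h12 h12' h21 hff hc hs p.2.1).mpr p.2.2
  · intro p p' hpp'
    have hv : p.1.1 • e₁ + p.1.2 • e₂ = p'.1.1 • e₁ + p'.1.2 • e₂ :=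
      congrArg (fun v => ((v.1 : ↥l) : V)) hpp'
    have e1 := congrArg (fun v => B v f₁) hv
    have e2 := congrArg (fun v => B v f₂) hv
    simp only [hco1, hco2] at e1 e2
    exact Subtype.ext (Prod.ext e1 e2)
  · rintro ⟨⟨v, hvl⟩, hv0, hvQ⟩
    obtain ⟨α, γ, rfl⟩ := hcoord v hvl
    have hαγ : α ≠ 0 ∨ γ ≠ 0 := by
      by_contra hcon
      push Not at hcon
      apply hv0
      apply Subtype.ext
      show α • e₁ + γ • e₂ = 0
      rw [hcon.1, hcon.2, zero_smul, zero_smul, add_zero]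
    exact ⟨⟨(α, γ), hαγ, (line_Q_iff Hy h1 h2 h12 h12' h21 hff hc hs hαγ).mp hvQ⟩, rfl⟩

end Cfsg.Agent.Lib.Helper54_U4_G1
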