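import Mathlib
import Cfsg.Agent.Lib.Helper39_U4Defs
import Cfsg.Agent.Lib.Helper13_SUGen
import Cfsg.Agent.Lib.Helper94_HermTrans
import Cfsg.Agent.Lib.Helper54_U4_G1
import Cfsg.Agent.Lib.Helper32_U4_GCOUNTaux

set_option autoImplicit false

/-
helper32: package U4 G-COUNT (helper39's S2150 market): `line_count` VERBATIM
(= `Helper32_U4_GCOUNTaux.line_count_aux` + helper54's landed `G1`).
-/

namespace Cfsg.Agent.Lib.Helper32_U4_GCOUNT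

open Module Cfsg.Agent.Lib.Helper94_Symp Cfsg.Agent.Lib.Helper94_Herm
  Cfsg.Agent.Lib.Helper94_HermEich Cfsg.Agent.Lib.Helper94_HermOrth
  Cfsg.Agent.Lib.Helper13_SUGen Cfsg.Agent.Lib.Helper39_U4Defs

variable {F V : Type*} [Field F] [AddCommGroup V] [Module F V] {σ : F →+* F}
  {B : V →ₗ[F] V →ₛₗ[σ] F} [Finite F] [FiniteDimensional F V]

theorem line_count {q : ℕ} (Hy : U4Hyp B q) {l : Submodule F V} (hl : IsTILine B l)
    (C : Subgroup (V ≃ₗ[F] V)) (hC : C ≤ uG B ⊓ fixer l)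
    (hroot : ∀ v ∈ l, v ≠ 0 → C ⊓ Xg B v = ⊥) :
    (Nat.card C - 1) * ((q + 1) * (q ^ 2 - 1)) =
      ∑ᶠ v : {v : ↥l // v ≠ 0}, (Nat.card ↥(C ⊓ Qg B ((v : ↥l) : V)) - 1) :=
  Cfsg.Agent.Lib.Helper32_U4_GCOUNTaux.line_count_aux Hy hl C hC hroot
    (fun _ hb hb1 hbr => Cfsg.Agent.Lib.Helper54_U4_G1.G1 Hy hl hb hb1 hbr)

end Cfsg.Agent.Lib.Helper32_U4_GCOUNT
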