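import Mathlib
import Cfsg.Agent.Lib.Helper39_U4Defs
import Cfsg.Agent.Lib.Helper27_UQDefs

/-!
# S2150: compatibility of `Helper39_U4Defs` with the UQ layer (`Helper27_UQDefs`)
-/

set_option autoImplicit false

namespace Cfsg.Agent.Lib.Helper39_U4Compat

open Module Cfsg.Agent.Lib.Helper94_Symp Cfsg.Agent.Lib.Helper94_Herm
  Cfsg.Agent.Lib.Helper94_HermEich Cfsg.Agent.Lib.Helper13_SUGen

variable {F V : Type*} [Field F] [AddCommGroup V] [Module F V] {σ : F →+* F}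
  {B : V →ₗ[F] V →ₛₗ[σ] F}

theorem SUg_eq : Cfsg.Agent.Lib.Helper39_U4Defs.SUg B = Cfsg.Agent.Lib.Helper13_PSUSimple.SUg B :=
  rfl

theorem Xg_eq (u : V) :
    Cfsg.Agent.Lib.Helper39_U4Defs.Xg B u = Cfsg.Agent.Lib.Helper27_UQDefs.Xv B u := by
  apply le_antisymm
  · rw [Cfsg.Agent.Lib.Helper39_U4Defs.Xg, Subgroup.closure_le]
    rintro g ⟨c, hc, rfl⟩
    exact Cfsg.Agent.Lib.Helper27_UQDefs.utv_mem_Xv B u hc
  · rintro g ⟨c, hc, rfl⟩
    exact Subgroup.subset_closure ⟨c, hc, rfl⟩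

theorem Qg_eq (hB : IsHerm B) {u us : V} (h : HypPair B u us) :
    Cfsg.Agent.Lib.Helper39_U4Defs.Qg B u = Cfsg.Agent.Lib.Helper27_UQDefs.Qv B u := by
  apply le_antisymm
  · rw [Cfsg.Agent.Lib.Helper39_U4Defs.Qg, Subgroup.closure_le]
    rintro g ⟨w, c, hw, hc, rfl⟩
    exact Cfsg.Agent.Lib.Helper27_UQDefs.eich_mem_Qv hB h.ee hw hc
  · intro g hg
    obtain ⟨w, c, hw, hc, rfl⟩ := (Cfsg.Agent.Lib.Helper27_UQDefs.mem_Qv_iff_eich hB h g).mp hg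
    exact Subgroup.subset_closure ⟨w, c, hw.1, hc, rfl⟩

theorem Pg_eq {u : V} (hu0 : u ≠ 0) :
    Cfsg.Agent.Lib.Helper39_U4Defs.Pg B u = Cfsg.Agent.Lib.Helper27_UQDefs.Pv B u := by
  ext g
  rw [Cfsg.Agent.Lib.Helper39_U4Defs.Pg, Subgroup.mem_inf, Cfsg.Agent.Lib.Helper27_UQDefs.mem_Pv,
    SUg_eq]
  constructor
  · rintro ⟨h1, h2⟩
    refine ⟨h1, ?_⟩
    have h3 : g u ∈ Submodule.span F {u} := (h2 u).mp (Submodule.mem_span_singleton_self u)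
    obtain ⟨c, hc⟩ := Submodule.mem_span_singleton.mp h3
    refine ⟨c, ?_, hc.symm⟩
    rintro rfl
    rw [zero_smul] at hc
    exact hu0 (g.map_eq_zero_iff.mp hc.symm)
  · rintro ⟨h1, c, hc, hgu⟩
    refine ⟨h1, ?_⟩
    intro v
    rw [Submodule.mem_span_singleton, Submodule.mem_span_singleton]
    constructor
    · rintro ⟨a, rfl⟩
      exact ⟨a * c, by rw [map_smul, hgu, smul_smul]⟩
    · rintro ⟨a, ha⟩
      refine ⟨a * c⁻¹, ?_⟩
      apply g.injective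
      rw [map_smul, hgu, smul_smul, mul_assoc, inv_mul_cancel₀ hc, mul_one, ha]

end Cfsg.Agent.Lib.Helper39_U4Compat
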