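import Mathlib
import Cfsg.Agent.Lib.Helper39_U4Defs
import Cfsg.Agent.Lib.Helper13_SUGen
import Cfsg.Agent.Lib.Helper94_HermTrans

/-!
# S2150 package G-CONJ (architect helper39): conjugation and scaling of `Xg`, `Qg`, `Pg`, `fixer`
-/

set_option autoImplicit false

namespace Cfsg.Agent.Lib.Helper70_U4_GCONJ

open Module Cfsg.Agent.Lib.Helper94_Symp Cfsg.Agent.Lib.Helper94_Herm
  Cfsg.Agent.Lib.Helper94_HermEich Cfsg.Agent.Lib.Helper94_HermOrth
  Cfsg.Agent.Lib.Helper13_SUGen Cfsg.Agent.Lib.Helper39_U4Defs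

variable {F V : Type*} [Field F] [AddCommGroup V] [Module F V] {σ : F →+* F}
  {B : V →ₗ[F] V →ₛₗ[σ] F}

/-- conjugation of the root group, one direction -/
theorem conj_Xg_mem {g : V ≃ₗ[F] V} (hg : g ∈ uG B) (u : V) {x : V ≃ₗ[F] V}
    (hx : x ∈ Xg B u) : g * x * g⁻¹ ∈ Xg B (g u) := by
  have hle : Xg B u ≤ (Xg B (g u)).comap (MulAut.conj g).toMonoidHom := by
    rw [Xg, Subgroup.closure_le]
    rintro _ ⟨c, hc, rfl⟩
    show (MulAut.conj g) (utv B u c) ∈ Xg B (g u)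
    rw [MulAut.conj_apply, conj_utv hg]
    exact Subgroup.subset_closure ⟨c, hc, rfl⟩
  have := hle hx
  simpa using this

theorem conj_Xg_iff {g : V ≃ₗ[F] V} (hg : g ∈ uG B) (u : V) (x : V ≃ₗ[F] V) :
    x ∈ Xg B u ↔ g * x * g⁻¹ ∈ Xg B (g u) := by
  constructor
  · exact conj_Xg_mem hg u
  · intro h
    have h1 := conj_Xg_mem ((uG B).inv_mem hg) (g u) h
    have h2 : g⁻¹ (g u) = u := by
      rw [← LinearEquiv.mul_apply, inv_mul_cancel]; rfl
    have h3 : g⁻¹ * (g * x * g⁻¹) * g⁻¹⁻¹ = x := by group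
    rw [h2, h3] at h1
    exact h1

/-- conjugation of the unipotent radical, one direction -/
theorem conj_Qg_mem {g : V ≃ₗ[F] V} (hg : g ∈ uG B) (u : V) {x : V ≃ₗ[F] V}
    (hx : x ∈ Qg B u) : g * x * g⁻¹ ∈ Qg B (g u) := by
  have hle : Qg B u ≤ (Qg B (g u)).comap (MulAut.conj g).toMonoidHom := by
    rw [Qg, Subgroup.closure_le]
    rintro _ ⟨w, c, hwu, hc, rfl⟩
    show (MulAut.conj g) (eich B u w c) ∈ Qg B (g u)
    rw [MulAut.conj_apply, conj_eich hg]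
    refine Subgroup.subset_closure ⟨g w, c, ?_, ?_, rfl⟩
    · rw [hg, hwu]
    · rw [hg, hc]
  have := hle hx
  simpa using this

theorem conj_Qg_iff {g : V ≃ₗ[F] V} (hg : g ∈ uG B) (u : V) (x : V ≃ₗ[F] V) :
    x ∈ Qg B u ↔ g * x * g⁻¹ ∈ Qg B (g u) := by
  constructor
  · exact conj_Qg_mem hg u
  · intro h
    have h1 := conj_Qg_mem ((uG B).inv_mem hg) (g u) h
    have h2 : g⁻¹ (g u) = u := by
      rw [← LinearEquiv.mul_apply, inv_mul_cancel]; rfl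
    have h3 : g⁻¹ * (g * x * g⁻¹) * g⁻¹⁻¹ = x := by group
    rw [h2, h3] at h1
    exact h1

/-- conjugation of pointwise stabilisers -/
theorem conj_fixer_iff (g : V ≃ₗ[F] V) (l : Submodule F V) (x : V ≃ₗ[F] V) :
    x ∈ fixer l ↔ g * x * g⁻¹ ∈ fixer (l.map (g : V →ₗ[F] V)) := by
  have hinv : ∀ y, g⁻¹ (g y) = y := fun y => by
    rw [← LinearEquiv.mul_apply, inv_mul_cancel]; rfl
  constructor
  · intro hx y hy
    obtain ⟨v, hv, rfl⟩ := hy
    show (g * x * g⁻¹) (g v) = g v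
    rw [LinearEquiv.mul_apply, LinearEquiv.mul_apply, hinv, hx v hv]
  · intro hx v hv
    have h1 := hx (g v) ⟨v, hv, rfl⟩
    rw [LinearEquiv.mul_apply, LinearEquiv.mul_apply, hinv] at h1
    exact g.injective h1

/-- conjugation of setwise stabilisers -/
theorem conj_stab_iff (g : V ≃ₗ[F] V) (l : Submodule F V) (x : V ≃ₗ[F] V) :
    x ∈ stab l ↔ g * x * g⁻¹ ∈ stab (l.map (g : V →ₗ[F] V)) := by
  have hinv : ∀ y, g⁻¹ (g y) = y := fun y => by
    rw [← LinearEquiv.mul_apply, inv_mul_cancel]; rfl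
  have hinv' : ∀ y, g (g⁻¹ y) = y := fun y => by
    rw [← LinearEquiv.mul_apply, mul_inv_cancel]; rfl
  have hmem : ∀ y, y ∈ l.map (g : V →ₗ[F] V) ↔ g⁻¹ y ∈ l := by
    intro y
    constructor
    · rintro ⟨v, hv, rfl⟩
      show g⁻¹ (g v) ∈ l
      rw [hinv]; exact hv
    · intro h
      exact ⟨g⁻¹ y, h, hinv' y⟩
  rw [mem_stab, mem_stab]
  constructor
  · intro hx y
    rw [hmem, hmem, LinearEquiv.mul_apply, LinearEquiv.mul_apply, hinv]
    exact hx _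
  · intro hx v
    have h1 := hx (g v)
    rw [hmem, hmem, LinearEquiv.mul_apply, LinearEquiv.mul_apply, hinv, hinv] at h1
    exact h1

theorem map_span_singleton (g : V ≃ₗ[F] V) (u : V) :
    (Submodule.span F {u}).map (g : V →ₗ[F] V) = Submodule.span F {g u} := by
  rw [Submodule.map_span, Set.image_singleton]
  rfl

theorem conj_Pg_iff {g : V ≃ₗ[F] V} (hg : g ∈ SUg B) (u : V) (x : V ≃ₗ[F] V) :
    x ∈ Pg B u ↔ g * x * g⁻¹ ∈ Pg B (g u) := by
  unfold Pg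
  rw [Subgroup.mem_inf, Subgroup.mem_inf, ← map_span_singleton, ← conj_stab_iff]
  have : x ∈ SUg B ↔ g * x * g⁻¹ ∈ SUg B := by
    constructor
    · intro hx
      exact (SUg B).mul_mem ((SUg B).mul_mem hg hx) ((SUg B).inv_mem hg)
    · intro hx
      have h1 := (SUg B).mul_mem ((SUg B).mul_mem ((SUg B).inv_mem hg) hx) hg
      have h3 : g⁻¹ * (g * x * g⁻¹) * g = x := by group
      rw [h3] at h1
      exact h1
  rw [this]

/-! ### scaling -/

theorem Xg_smul_le (hσ : Invol σ) (u : V) (μ : F) : Xg B (μ • u) ≤ Xg B u := by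
  rw [Xg, Subgroup.closure_le]
  rintro _ ⟨c, hc, rfl⟩
  rw [utv_smul]
  refine Subgroup.subset_closure ⟨μ * σ μ * c, ?_, rfl⟩
  rw [map_mul, map_mul, hσ.invol, hc]
  ring

theorem Xg_smul (hσ : Invol σ) (u : V) {μ : F} (hμ : μ ≠ 0) : Xg B (μ • u) = Xg B u := by
  apply le_antisymm (Xg_smul_le hσ u μ)
  have h := Xg_smul_le (B := B) hσ (μ • u) μ⁻¹
  rw [smul_smul, inv_mul_cancel₀ hμ, one_smul] at h
  exact h

/-- Eichler elements and scaling of the isotropic vector -/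
theorem eich_smul (hσ : Invol σ) (hB : IsHerm B) {u w : V} (hwu : B w u = 0) {μ : F}
    (hμ : μ ≠ 0) (c : F) :
    eich B (μ • u) w c = eich B u (σ μ • w) (μ * σ μ * c) := by
  have huw : B u w = 0 := herm_eq_zero hB hwu
  by_cases hu : B u u = 0
  · have h1 : B (μ • u) (μ • u) = 0 := by rw [self_smul, hu, mul_zero]
    have h2 : B w (μ • u) = 0 := by rw [map_smulₛₗ, hwu, smul_zero]
    have h3 : B (μ • u) w = 0 := by rw [map_smul, LinearMap.smul_apply, huw, smul_zero]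
    have h4 : B (σ μ • w) u = 0 := by rw [map_smul, LinearMap.smul_apply, hwu, smul_zero]
    have h5 : B u (σ μ • w) = 0 := by rw [map_smulₛₗ, huw, smul_zero]
    ext x
    rw [eich_apply B h1 h2 h3, eich_apply B hu h4 h5]
    simp only [map_smulₛₗ, hσ.invol, smul_eq_mul]
    module
  · have h1 : ¬ B (μ • u) (μ • u) = 0 := by
      rw [self_smul]
      exact mul_ne_zero (mul_ne_zero hμ ((map_ne_zero σ).mpr hμ)) hu
    unfold eich
    rw [dif_neg (fun h => h1 h.1), dif_neg (fun h => hu h.1)]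

theorem Qg_smul_le (hσ : Invol σ) (hB : IsHerm B) (u : V) {μ : F} (hμ : μ ≠ 0) :
    Qg B (μ • u) ≤ Qg B u := by
  rw [Qg, Subgroup.closure_le]
  rintro _ ⟨w, c, hwu, hc, rfl⟩
  have hσμ : σ μ ≠ 0 := (map_ne_zero σ).mpr hμ
  have hwu' : B w u = 0 := by
    rw [map_smulₛₗ, smul_eq_mul] at hwu
    exact (mul_eq_zero.mp hwu).resolve_left hσμ
  rw [eich_smul hσ hB hwu' hμ]
  refine Subgroup.subset_closure ⟨σ μ • w, μ * σ μ * c, ?_, ?_, rfl⟩
  · rw [map_smul, LinearMap.smul_apply, hwu', smul_zero]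
  · rw [self_smul, hσ.invol, map_mul, map_mul, hσ.invol]
    linear_combination (μ * σ μ) * hc

theorem Qg_smul (hσ : Invol σ) (hB : IsHerm B) (u : V) {μ : F} (hμ : μ ≠ 0) :
    Qg B (μ • u) = Qg B u := by
  apply le_antisymm (Qg_smul_le hσ hB u hμ)
  have h := Qg_smul_le (B := B) hσ hB (μ • u) (inv_ne_zero hμ)
  rw [smul_smul, inv_mul_cancel₀ hμ, one_smul] at h
  exact h

theorem Pg_smul (u : V) {μ : F} (hμ : μ ≠ 0) : Pg B (μ • u) = Pg B u := by
  unfold Pg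
  rw [Submodule.span_singleton_smul_eq (IsUnit.mk0 μ hμ)]

variable [Finite F] [FiniteDimensional F V]

/-- G-CONJ: conjugation and scaling of the subgroups attached to a vector. -/
theorem conj_groups {q : ℕ} (Hy : U4Hyp B q) {g : V ≃ₗ[F] V} (hg : g ∈ uG B) (u : V) :
    (∀ x, x ∈ Xg B u ↔ g * x * g⁻¹ ∈ Xg B (g u)) ∧
    (∀ x, x ∈ Qg B u ↔ g * x * g⁻¹ ∈ Qg B (g u)) ∧
    (g ∈ SUg B → ∀ x, x ∈ Pg B u ↔ g * x * g⁻¹ ∈ Pg B (g u)) ∧
    (∀ μ : F, μ ≠ 0 → Xg B (μ • u) = Xg B u ∧ Qg B (μ • u) = Qg B u ∧ Pg B (μ • u) = Pg B u) ∧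
    (∀ l : Submodule F V, ∀ x, x ∈ fixer l ↔ g * x * g⁻¹ ∈ fixer (l.map (g : V →ₗ[F] V))) :=
  ⟨conj_Xg_iff hg u, conj_Qg_iff hg u, fun hg' => conj_Pg_iff hg' u,
    fun _ hμ => ⟨Xg_smul Hy.hσ u hμ, Qg_smul Hy.hσ Hy.hB u hμ, Pg_smul u hμ⟩,
    fun l x => conj_fixer_iff g l x⟩

end Cfsg.Agent.Lib.Helper70_U4_GCONJ
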