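import Mathlib
import Cfsg.Agent.Lib.Helper39_U4Defs
import Cfsg.Agent.Lib.Helper39_U4Compat
import Cfsg.Agent.Lib.Helper13_SUGen
import Cfsg.Agent.Lib.Helper94_HermTrans
import Cfsg.Agent.Lib.Helper70_U4_GCONJ

set_option autoImplicit false

/-
helper32: package U4 G-TRANS (helper39's S2150 market): `typeB_transport` VERBATIM
(on top of helper70's landed G-CONJ lemmas).
-/

namespace Cfsg.Agent.Lib.Helper32_U4_GTRANS

open Module Cfsg.Agent.Lib.Helper94_Symp Cfsg.Agent.Lib.Helper94_Herm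
  Cfsg.Agent.Lib.Helper94_HermEich Cfsg.Agent.Lib.Helper94_HermOrth
  Cfsg.Agent.Lib.Helper13_SUGen Cfsg.Agent.Lib.Helper39_U4Defs

variable {F V : Type*} [Field F] [AddCommGroup V] [Module F V] {σ : F →+* F}
  {B : V →ₗ[F] V →ₛₗ[σ] F}

/-- conjugation by `k` is a bijection between a subgroup and its conjugate -/
theorem card_eq_of_conj {G : Type*} [Group G] (S S' : Subgroup G) (k : G)
    (key : ∀ x, x ∈ S ↔ k * x * k⁻¹ ∈ S') : Nat.card S = Nat.card S' := by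
  apply Nat.card_congr
  exact
    { toFun := fun x => ⟨k * x.1 * k⁻¹, (key x.1).1 x.2⟩
      invFun := fun y => ⟨k⁻¹ * y.1 * k, (key _).2 (by
        have h : k * (k⁻¹ * y.1 * k) * k⁻¹ = y.1 := by group
        rw [h]; exact y.2)⟩
      left_inv := fun x => Subtype.ext (by show k⁻¹ * (k * x.1 * k⁻¹) * k = x.1; group)
      right_inv := fun y => Subtype.ext (by show k * (k⁻¹ * y.1 * k) * k⁻¹ = y.1; group) }

/-- the image of a t.i. line under an isometry is a t.i. line (stated for the preimage) -/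
theorem isTILine_comap {k : V ≃ₗ[F] V} (hk : k ∈ uG B) {l' : Submodule F V}
    (hl' : IsTILine B l') : IsTILine B (l'.comap (k : V →ₗ[F] V)) ∧
      (l'.comap (k : V →ₗ[F] V)).map (k : V →ₗ[F] V) = l' := by
  have hmap : (l'.comap (k : V →ₗ[F] V)).map (k : V →ₗ[F] V) = l' :=
    Submodule.map_comap_eq_of_surjective k.surjective l'
  refine ⟨⟨?_, ?_⟩, hmap⟩
  · have h1 := LinearEquiv.finrank_map_eq k (l'.comap (k : V →ₗ[F] V))
    rw [← h1]
    have h2 : finrank F ↥((l'.comap (k : V →ₗ[F] V)).map (k : V →ₗ[F] V)) = finrank F ↥l' := by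
      rw [hmap]
    exact h2.trans hl'.1
  · intro x hx y hy
    rw [← hk x y]
    exact hl'.2 _ hx _ hy

variable [Finite F] [FiniteDimensional F V]

theorem typeB_transport {q : ℕ} (Hy : U4Hyp B q) (K : Subgroup (V ≃ₗ[F] V)) (hK : K ≤ SUg B)
    {k : V ≃ₗ[F] V} (hk : k ∈ K) {μ : F} (hμ : μ ≠ 0) {u : V}
    (h : TypeBg B q u (Pg B u ⊓ K)) : TypeBg B q (μ • k u) (Pg B (μ • k u) ⊓ K) := by
  have hkS : k ∈ SUg B := hK hk
  have hkU : k ∈ uG B := hkS.1
  refine ⟨h.1, ?_⟩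
  intro l' hl' hul'
  obtain ⟨hl, hmap⟩ := isTILine_comap hkU hl'
  have hku : k u ∈ l' := by
    have h1 := l'.smul_mem μ⁻¹ hul'
    rwa [smul_smul, inv_mul_cancel₀ hμ, one_smul] at h1
  have hul : u ∈ l'.comap (k : V →ₗ[F] V) := hku
  have hq := h.2 _ hl hul
  rw [Cfsg.Agent.Lib.Helper70_U4_GCONJ.Pg_smul (k u) hμ,
    Cfsg.Agent.Lib.Helper70_U4_GCONJ.Qg_smul Hy.hσ Hy.hB (k u) hμ, ← hq]
  symm
  apply card_eq_of_conj _ _ k
  intro x
  rw [Subgroup.mem_inf, Subgroup.mem_inf, Subgroup.mem_inf, Subgroup.mem_inf, Subgroup.mem_inf,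
    Subgroup.mem_inf,
    Cfsg.Agent.Lib.Helper70_U4_GCONJ.conj_Pg_iff hkS u x,
    Cfsg.Agent.Lib.Helper70_U4_GCONJ.conj_Qg_iff hkU u x,
    Cfsg.Agent.Lib.Helper70_U4_GCONJ.conj_fixer_iff k (l'.comap (k : V →ₗ[F] V)) x, hmap]
  have hKiff : x ∈ K ↔ k * x * k⁻¹ ∈ K := by
    constructor
    · intro hx
      exact K.mul_mem (K.mul_mem hk hx) (K.inv_mem hk)
    · intro hx
      have h1 := K.mul_mem (K.mul_mem (K.inv_mem hk) hx) hk
      have h3 : k⁻¹ * (k * x * k⁻¹) * k = x := by group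
      rw [h3] at h1
      exact h1
  rw [hKiff]

end Cfsg.Agent.Lib.Helper32_U4_GTRANS
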