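import Mathlib
import Cfsg.Agent.Lib.Helper27_UQDefs
import Cfsg.Agent.Lib.Helper94_HermWitt
import Cfsg.Agent.Lib.Helper94_HermIrr
import Cfsg.Agent.Lib.Helper27_UQ_CARD
import Cfsg.Agent.Lib.Helper71_U5_D3TRP

set_option autoImplicit false
set_option linter.unusedSectionVars false
set_option linter.unusedVariables false

/-
helper32: package U5-D3-TRN (helper85's S2151-T5 market): `trans_norm` VERBATIM.
`SU(U)` is transitive on the vectors of a given nonzero norm (dimension 3, all `q ≥ 2`).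
Route: hyperbolic pairs `(a,a') ⊆ w^⊥`, `(b,b') ⊆ w'^⊥`; `g₀` (D3-TRP) maps `(a,a') ↦ (b,b')`, so `g₀ w = ζ w'` with
`ζ σ ζ = 1`; Hilbert 90 gives `λ` with `σ λ / λ = ζ⁻¹`; the torus element `dgE (λ, (σ λ)⁻¹, σ λ / λ)` has determinant `1`
and scales `w'` by `σ λ / λ`.
-/

open Module Cfsg.Agent.Lib.Helper94_Symp Cfsg.Agent.Lib.Helper94_Herm
  Cfsg.Agent.Lib.Helper94_HermEich Cfsg.Agent.Lib.Helper94_HermPara
  Cfsg.Agent.Lib.Helper94_HermTrans
  Cfsg.Agent.Lib.Helper13_SUGen Cfsg.Agent.Lib.Helper13_PSUSimple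
  Cfsg.Agent.Lib.Helper46_U3TI Cfsg.Agent.Lib.Helper14_PSULocal1
  Cfsg.Agent.Lib.Helper27_UQDefs

namespace Cfsg.Agent.Lib.Helper32_U5_D3TRN

section D3

variable {F U : Type*} [Field F] [AddCommGroup U] [Module F U] {σ : F →+* F}
variable {C : U →ₗ[F] U →ₛₗ[σ] F}

/-- a hyperbolic pair inside the orthogonal of an anisotropic vector (dimension 3) -/
theorem exists_pair_perp [Finite F] [FiniteDimensional F U] (hσ : Invol σ) (hC : IsHerm C)
    (hN : NondegOn C ⊤) (h3 : finrank F U = 3) {w : U} (hw : C w w ≠ 0) :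
    ∃ a a' : U, HypPair C a a' ∧ C a w = 0 ∧ C a' w = 0 := by
  have hD : NondegOn C (⊤ ⊓ orthV C w) := nondegOn_orthV hC hN Submodule.mem_top hw
  have hfr : 2 ≤ finrank F (⊤ ⊓ orthV C w : Submodule F U) := by
    have h1 := Cfsg.Agent.Lib.Helper94_HermWitt.finrank_le_inf_orthV_add_one (B := C) ⊤ w
    rw [finrank_top] at h1
    omega
  obtain ⟨x, hxD, hx0⟩ := Cfsg.Agent.Lib.Helper94_HermWitt.exists_ne_zero_of_finrank_pos
    (U := (⊤ ⊓ orthV C w : Submodule F U)) (by omega)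
  obtain ⟨y, hyD, hy⟩ := Cfsg.Agent.Lib.Helper94_HermWitt.exists_notMem_span1 hfr x
  obtain ⟨α, β, hab0, hab⟩ := exists_iso hσ hC hx0 hy
  have habD : α • x + β • y ∈ (⊤ ⊓ orthV C w : Submodule F U) :=
    Submodule.add_mem _ (Submodule.smul_mem _ _ hxD) (Submodule.smul_mem _ _ hyD)
  obtain ⟨f, hfD, hff, hef⟩ := exists_partner hσ hC hD habD hab0 hab
  exact ⟨α • x + β • y, f, hypPair_mk hC hab hff hef, mem_orthV.mp habD.2, mem_orthV.mp hfD.2⟩

theorem trans_norm [Finite F] [FiniteDimensional F U] (hσ : Invol σ) (hC : IsHerm C)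
    (hN : NondegOn C ⊤) (h3 : finrank F U = 3) {w w' : U} (hw : C w w ≠ 0)
    (hww' : C w w = C w' w') : ∃ g ∈ SUg C, g w = w' := by
  have hw' : C w' w' ≠ 0 := by rw [← hww']; exact hw
  obtain ⟨a, a', h, haw, ha'w⟩ := exists_pair_perp hσ hC hN h3 hw
  obtain ⟨b, b', h', hbw, hb'w⟩ := exists_pair_perp hσ hC hN h3 hw'
  obtain ⟨g₀, hg₀, hg₀a, hg₀a'⟩ := Cfsg.Agent.Lib.Helper71_U5_D3TRP.trans_pair hσ hC hN h3 h h'
  have hg₀U : g₀ ∈ uG C := (mem_SUg.mp hg₀).1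
  -- `w'` and `g₀ w` lie on the line `⟨b, b'⟩^⊥`
  have hfr : finrank F ↥(Wsub C b b') = 1 := by
    have := Cfsg.Agent.Lib.Helper27_UQ_CARD.finrank_Wsub h'
    omega
  have hw'W : w' ∈ Wsub C b b' := ⟨herm_eq_zero hC hbw, herm_eq_zero hC hb'w⟩
  have hgwW : g₀ w ∈ Wsub C b b' := by
    refine ⟨?_, ?_⟩
    · show C (g₀ w) b = 0
      rw [← hg₀a, hg₀U]; exact herm_eq_zero hC haw
    · show C (g₀ w) b' = 0
      rw [← hg₀a', hg₀U]; exact herm_eq_zero hC ha'w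
  have hw'0 : w' ≠ 0 := by
    rintro rfl
    simp at hw'
  obtain ⟨ζ, hζ⟩ : ∃ ζ : F, g₀ w = ζ • w' := by
    have h1 := (finrank_eq_one_iff_of_nonzero' (⟨w', hw'W⟩ : ↥(Wsub C b b'))
      (fun h0 => hw'0 (congrArg Subtype.val h0))).mp hfr ⟨g₀ w, hgwW⟩
    obtain ⟨c, hc⟩ := h1
    exact ⟨c, (congrArg Subtype.val hc).symm⟩
  have hζn : ζ * σ ζ = 1 := by
    have h1 : C (g₀ w) (g₀ w) = C w w := hg₀U w w
    rw [hζ, hww'] at h1
    simp only [map_smulₛₗ, LinearMap.smul_apply, smul_eq_mul, RingHom.id_apply] at h1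
    have h2 : (ζ * σ ζ - 1) * C w' w' = 0 := by linear_combination h1
    rcases mul_eq_zero.mp h2 with h3 | h3
    · exact sub_eq_zero.mp h3
    · exact absurd h3 hw'
  obtain ⟨l, hl0, hl⟩ := hilbert90 hσ hζn
  have hsl0 : σ l ≠ 0 := by
    intro h0
    apply hl0
    have := congrArg σ h0
    rwa [hσ.invol, map_zero] at this
  have hζ0 : ζ ≠ 0 := by
    intro h0
    rw [h0, zero_mul] at hζn
    exact zero_ne_one hζn
  have hb0 : (σ l)⁻¹ ≠ 0 := inv_ne_zero hsl0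
  have hm0 : σ l * l⁻¹ ≠ 0 := mul_ne_zero hsl0 (inv_ne_zero hl0)
  have hab : l * σ ((σ l)⁻¹) = 1 := by
    rw [map_inv₀, hσ.invol, mul_inv_cancel₀ hl0]
  have hmm : (σ l * l⁻¹) * σ (σ l * l⁻¹) = 1 := by
    rw [map_mul, map_inv₀, hσ.invol]
    field_simp
  set t := dgE h' hl0 hb0 hm0 with ht
  have htU : t ∈ uG C := dgE_mem_uG hσ hC h' hl0 hb0 hm0 hab hmm
  have htdet : LinearEquiv.det t = 1 := by
    apply Units.ext
    rw [det_dgE h' hl0 hb0 hm0, h3, Units.val_one]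
    field_simp
  have htS : t ∈ SUg C := mem_SUg.mpr ⟨htU, htdet⟩
  refine ⟨t * g₀, (SUg C).mul_mem htS hg₀, ?_⟩
  rw [LinearEquiv.mul_apply, hζ, map_smul, ht, dgE_W h' hl0 hb0 hm0 hw'W.1 hw'W.2, smul_smul]
  have : ζ * (σ l * l⁻¹) = 1 := by
    have h5 : l = ζ * σ l := hl
    field_simp
    exact h5.symm
  rw [this, one_smul]

end D3

end Cfsg.Agent.Lib.Helper32_U5_D3TRN
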