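import Mathlib
import Cfsg.Agent.Lib.Helper32_ZJo1

/-!
# The sub-configuration lemma, odd-order version (helper32)

`GoalO p X`: for every `HypO p K H` on `X` with `C_X(O_p(X)) ≤ O_p(X)` and every Sylow `p`-subgroup
`T`, `O_p(X)` contains an elementary abelian subgroup of `T` of the largest order.

`subconfig`: if `GoalO` holds for the subgroup `N ⊔ A` (`O_p(X) ≤ N ≤ K₁`, `A` a member of the
family of `T` normalizing `N`), then some member `A₁` of the family of `T` centralizes `N` modulo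
`O_p(X)`.
-/

set_option autoImplicit false

namespace Cfsg.Agent.Lib.Helper32_ZJo

open Cfsg Cfsg.Agent.Lib.Helper11_ZJ Cfsg.Agent.S0654

open Cfsg.Agent.Lib.Helper32_ZJe (fam fam_nonempty le_of_mem_fam mem_of_mem_fam mem_fam_of_le
  mem_fam_of_mem_fam_le card_eq_of_mem_fam mem_fam_of_card_le map_conj_mem_fam fam_map_subtype
  thompsonSubgroupOf_eq_sSup le_thompsonSubgroupOf prEA_iff prEA_of_le prEA_sup prEA_zpowers)

open scoped commutatorElement

universe u

/-- the statement proved by induction -/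
def GoalO (p : ℕ) (X : Type u) [Group X] : Prop :=
  ∀ (K H : Subgroup X), HypO p K H →
    Subgroup.centralizer (pCore p X : Set X) ≤ pCore p X →
    ∀ T : Sylow p X, ∃ A ∈ fam p (T : Subgroup X), A ≤ pCore p X

variable {X : Type u} [Group X]

/-- `HypO` restricts to subgroups -/
theorem hyp_subgroupOf {p : ℕ} {K H : Subgroup X} (hyp : HypO p K H) (Y : Subgroup X) :
    HypO p (K.subgroupOf Y) (H.subgroupOf Y) := by
  have := hyp.Kn
  have := hyp.Hn
  have := hyp.solv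
  refine ⟨inferInstance, inferInstance, hyp.Hp.comap_subtype, ?_, ?_, inferInstance,
    Odd.of_dvd_nat hyp.odd (Subgroup.card_subgroup_dvd_card Y)⟩
  · obtain ⟨e, he, hKe⟩ := hyp.Kexp
    refine ⟨e, he, ?_⟩
    intro k hk
    rw [Subgroup.mem_subgroupOf] at hk ⊢
    have := hKe _ hk
    simpa using this
  · intro g
    obtain ⟨n, hn⟩ := hyp.XK (g : X)
    refine ⟨n, ?_⟩
    rw [Subgroup.mem_subgroupOf]
    simpa using hn

/-- the centralizer condition restricts to subgroups containing `O_p(X)` -/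
theorem centralizer_pCore_subgroup {p : ℕ} [Fact p.Prime]
    (hc : Subgroup.centralizer (pCore p X : Set X) ≤ pCore p X) (Y : Subgroup X)
    (hY : pCore p X ≤ Y) :
    Subgroup.centralizer (pCore p ↥Y : Set ↥Y) ≤ pCore p ↥Y := by
  have hH1n : (pCore p X).Normal := Cfsg.Agent.Lib.Helper1_Cores.pCore_normal p
  have hH1p : IsPGroup p (pCore p X) := Cfsg.Agent.Lib.Helper1_Cores.pCore_isPGroup p
  have h1 : (pCore p X).subgroupOf Y ≤ pCore p ↥Y :=
    Cfsg.Agent.Lib.Helper1_Cores.le_pCore inferInstance hH1p.comap_subtype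
  intro y hy
  apply h1
  rw [Subgroup.mem_subgroupOf]
  apply hc
  rw [Subgroup.mem_centralizer_iff]
  intro h hh
  have h2 : (⟨h, hY hh⟩ : ↥Y) ∈ pCore p ↥Y := h1 (by rw [Subgroup.mem_subgroupOf]; exact hh)
  have h3 := Subgroup.mem_centralizer_iff.mp hy _ h2
  exact congrArg Subtype.val h3

theorem subconfig [Finite X] {p : ℕ} [Fact p.Prime] {K H : Subgroup X} (hyp : HypO p K H)
    (hc : Subgroup.centralizer (pCore p X : Set X) ≤ pCore p X) (T : Sylow p X)
    {A : Subgroup X} (hA : A ∈ fam p (T : Subgroup X))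
    (N : Subgroup X) (hHN : pCore p X ≤ N) (hNK : N ≤ K1 p K)
    (hAN : A ≤ Subgroup.normalizer (N : Set X))
    (ih : GoalO p ↥(N ⊔ A)) :
    ∃ A₁ ∈ fam p (T : Subgroup X), ∀ x ∈ A₁, ∀ k ∈ N, ⁅x, k⁆ ∈ pCore p X := by
  have hH1n : (pCore p X).Normal := Cfsg.Agent.Lib.Helper1_Cores.pCore_normal p
  have hH1T : pCore p X ≤ (T : Subgroup X) := Cfsg.Agent.Lib.Helper1_Cores.pCore_le_sylow p T
  set Y : Subgroup X := N ⊔ A with hYdef
  have hNY : N ≤ Y := le_sup_left
  have hAY : A ≤ Y := le_sup_right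
  have hH1Y : pCore p X ≤ Y := hHN.trans hNY
  have hYN : Y ≤ Subgroup.normalizer (N : Set X) := sup_le Subgroup.le_normalizer hAN
  have hypY := hyp_subgroupOf hyp Y
  have hcY := centralizer_pCore_subgroup hc Y hH1Y
  -- the Sylow subgroup of `Y`
  set P : Subgroup X := pCore p X ⊔ A with hPdef
  have hPT : P ≤ (T : Subgroup X) := sup_le hH1T hA.1
  have hPY : P ≤ Y := sup_le hH1Y hAY
  have hPp : IsPGroup p P := T.isPGroup'.to_le hPT
  obtain ⟨TY, hTY⟩ := (hPp.comap_subtype (K := Y)).exists_le_sylow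
  have hTYeq : (TY : Subgroup ↥Y).map Y.subtype = P := by
    apply le_antisymm
    · rintro _ ⟨y, hy, rfl⟩
      have hyY : (y : X) ∈ ((N ⊔ A : Subgroup X) : Set X) := y.2
      rw [Subgroup.coe_mul_of_right_le_normalizer_left N A hAN] at hyY
      obtain ⟨n, hn, a, ha, hna⟩ := hyY
      have haTY : (⟨a, hAY ha⟩ : ↥Y) ∈ (TY : Subgroup ↥Y) :=
        hTY (Subgroup.mem_comap.mpr (Subgroup.mem_sup_right ha))
      have hnTY : (⟨n, hNY hn⟩ : ↥Y) ∈ (TY : Subgroup ↥Y) := by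
        have h1 : (⟨n, hNY hn⟩ : ↥Y) = y * (⟨a, hAY ha⟩ : ↥Y)⁻¹ := by
          apply Subtype.ext
          simp only [Subgroup.coe_mul, Subgroup.coe_inv]
          rw [← hna, mul_inv_cancel_right]
        rw [h1]
        exact Subgroup.mul_mem _ hy (Subgroup.inv_mem _ haTY)
      have hnH1 : n ∈ pCore p X := by
        have hQp : IsPGroup p (((TY : Subgroup ↥Y).map Y.subtype ⊓ N : Subgroup X)) :=
          (TY.isPGroup'.map Y.subtype).to_le inf_le_left
        have hQK : ((TY : Subgroup ↥Y).map Y.subtype ⊓ N : Subgroup X) ≤ K1 p K :=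
          inf_le_right.trans hNK
        exact le_pCore_of_le_K1 hyp hQp hQK ⟨⟨_, hnTY, rfl⟩, hn⟩
      show (y : X) ∈ P
      rw [← hna]
      exact Subgroup.mul_mem _ (Subgroup.mem_sup_left hnH1) (Subgroup.mem_sup_right ha)
    · intro x hx
      exact ⟨⟨x, hPY hx⟩, hTY (Subgroup.mem_comap.mpr hx), rfl⟩
  obtain ⟨A₁', hA₁', hA₁'le⟩ := ih _ _ hypY hcY TY
  refine ⟨A₁'.map Y.subtype, ?_, ?_⟩
  · have h1 : A₁'.map Y.subtype ∈ fam p P := by
      rw [← hTYeq, fam_map_subtype]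
      exact ⟨A₁', hA₁', rfl⟩
    exact mem_fam_of_mem_fam_le hPT hA le_sup_right h1
  · rintro _ ⟨y, hy, rfl⟩ k hk
    have hyO : y ∈ pCore p ↥Y := hA₁'le hy
    have hOn : (pCore p ↥Y).Normal := Cfsg.Agent.Lib.Helper1_Cores.pCore_normal p
    have hOp : IsPGroup p (pCore p ↥Y) := Cfsg.Agent.Lib.Helper1_Cores.pCore_isPGroup p
    -- the commutator lies in the image of `O_p(Y)` and in `N`
    have h1 : ⁅(y : X), k⁆ ∈ (pCore p ↥Y).map Y.subtype := by
      refine ⟨⁅y, (⟨k, hNY hk⟩ : ↥Y)⁆, ?_, ?_⟩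
      · have : ⁅y, (⟨k, hNY hk⟩ : ↥Y)⁆ = y * ((⟨k, hNY hk⟩ : ↥Y) * y⁻¹ * (⟨k, hNY hk⟩ : ↥Y)⁻¹) := by
          rw [commutatorElement_def]; group
        rw [this]
        exact Subgroup.mul_mem _ hyO (hOn.conj_mem _ (Subgroup.inv_mem _ hyO) _)
      · simp [commutatorElement_def]
    have h2 : ⁅(y : X), k⁆ ∈ N := by
      have h3 : (y : X) * k * (y : X)⁻¹ ∈ N :=
        (Subgroup.mem_normalizer_iff.mp (hYN y.2) k).mp hk
      rw [commutatorElement_def]
      exact Subgroup.mul_mem _ h3 (Subgroup.inv_mem _ hk)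
    have hQp : IsPGroup p (((pCore p ↥Y).map Y.subtype ⊓ N : Subgroup X)) :=
      (hOp.map Y.subtype).to_le inf_le_left
    exact le_pCore_of_le_K1 hyp hQp (inf_le_right.trans hNK) ⟨h1, h2⟩

end Cfsg.Agent.Lib.Helper32_ZJo
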