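import Mathlib
import Cfsg.Agent.Lib.Helper32_ZJo4
import Cfsg.Agent.Lib.Helper32_ZJe6
import Cfsg.Agent.Lib.Helper51_Local
import Cfsg.Agent.Lib.Helper55_Fitting

/-!
# `Z(J_e(T))` is normal: auxiliary lemmas for the minimal counterexample (helper32)

`X` is a finite group, `T` a Sylow `p`-subgroup, `Z = Z(J_e(T))` the centre of the elementary abelian
Thompson subgroup and `M` a proper subgroup containing every proper subgroup of `X` containing `T`
(in the application `M = N_X(Z)`).

* `centerThompsonOf_map_subtype`: transport of `Z(J_e(·))` to a subgroup type;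
* `orderOf_pow_coprime`: the `p'`-part of an element;
* `inf_le_pCore_of_le`: a normal subgroup `L ≤ M` has `T ∩ L ≤ O_p(X)` (Frattini argument);
* `le_of_forall_pow_mem`: a normal subgroup `L` with `L / C` a `p`-group, `C ≤ M` normal, lies in `M`.
-/

set_option autoImplicit false

namespace Cfsg.Agent.Lib.Helper32_ZJo

open Cfsg Cfsg.Agent.Lib.Helper11_ZJ Cfsg.Agent.S0654

open Cfsg.Agent.Lib.Helper32_ZJe (fam fam_nonempty le_of_mem_fam mem_of_mem_fam mem_fam_of_le
  mem_fam_of_mem_fam_le card_eq_of_mem_fam mem_fam_of_card_le map_conj_mem_fam fam_map_subtype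
  thompsonSubgroupOf_eq_sSup le_thompsonSubgroupOf prEA_iff prEA_of_le prEA_sup prEA_zpowers
  comm_mem_iff comm_mem_symm normalizer_le_normalizer_centerThompsonOf isPGroup_of_forall_coprime
  centralizer_pCore_subgroup)

open scoped commutatorElement

universe u

variable {X : Type u} [Group X]

/-- transport of the Thompson subgroup to a subgroup type -/
theorem thompsonSubgroupOf_map_subtype (p : ℕ) (Y : Subgroup X) (T' : Subgroup ↥Y) :
    (Cfsg.thompsonSubgroupOf p T').map Y.subtype = Cfsg.thompsonSubgroupOf p (T'.map Y.subtype) := by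
  rw [thompsonSubgroupOf_eq_sSup, thompsonSubgroupOf_eq_sSup, fam_map_subtype,
    (Subgroup.gc_map_comap Y.subtype).l_sSup, sSup_image]

/-- transport of `Z(J_e(·))` to a subgroup type -/
theorem centerThompsonOf_map_subtype (p : ℕ) (Y : Subgroup X) (T' : Subgroup ↥Y) :
    (Cfsg.centerThompsonOf p T').map Y.subtype = Cfsg.centerThompsonOf p (T'.map Y.subtype) := by
  unfold Cfsg.centerThompsonOf
  rw [Cfsg.Agent.S0622.map_inf_centralizer_of_injective _ Y.subtype_injective,
    thompsonSubgroupOf_map_subtype]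

/-- the `p'`-part: a uniform `p`-power of every element has order prime to `p` -/
theorem orderOf_pow_coprime [Finite X] (p : ℕ) [hp : Fact p.Prime] (y : X) :
    (orderOf (y ^ p ^ (Nat.card X).factorization p)).Coprime p := by
  have hy0 : orderOf y ≠ 0 := (orderOf_pos y).ne'
  obtain ⟨e, m, hm, hem⟩ := Nat.exists_eq_pow_mul_and_not_dvd hy0 p hp.out.one_lt.ne'
  have hpe : p ^ e ≠ 0 := pow_ne_zero _ hp.out.pos.ne'
  have hcard : Nat.card X ≠ 0 := Nat.card_pos.ne'
  have hek : e ≤ (Nat.card X).factorization p := by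
    rw [← hp.out.pow_dvd_iff_le_factorization hcard]
    exact (Dvd.intro m hem.symm).trans (orderOf_dvd_natCard y)
  have hord : orderOf (y ^ (p ^ e)) = m := by
    rw [orderOf_pow_of_dvd hpe ⟨m, hem⟩, hem, Nat.mul_div_cancel_left m (Nat.pos_of_ne_zero hpe)]
  have hsplit : y ^ p ^ (Nat.card X).factorization p =
      (y ^ p ^ e) ^ p ^ ((Nat.card X).factorization p - e) := by
    rw [← pow_mul, ← pow_add, Nat.add_sub_cancel' hek]
  have hdvd : orderOf (y ^ p ^ (Nat.card X).factorization p) ∣ m := by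
    rw [hsplit, ← hord]
    exact orderOf_pow_dvd _
  exact Nat.Coprime.coprime_dvd_left hdvd ((Nat.Prime.coprime_iff_not_dvd hp.out).mpr hm).symm

variable [Finite X] {p : ℕ} [Fact p.Prime]

/-- Frattini argument: if every proper subgroup containing `T` lies in the proper subgroup `M`, then
every normal subgroup `L ≤ M` has `T ∩ L ≤ O_p(X)`. -/
theorem inf_le_pCore_of_le (T : Sylow p X) (M : Subgroup X) (hM : M ≠ ⊤)
    (hTM : ∀ Y : Subgroup X, Y ≠ ⊤ → (T : Subgroup X) ≤ Y → Y ≤ M)
    (L : Subgroup X) [hL : L.Normal] (hLM : L ≤ M) : (T : Subgroup X) ⊓ L ≤ pCore p X := by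
  by_contra hcon
  have hNne : Subgroup.normalizer ((((T : Subgroup X) ⊓ L : Subgroup X)) : Set X) ≠ ⊤ := by
    intro htop
    apply hcon
    have hn : ((T : Subgroup X) ⊓ L).Normal := Subgroup.normalizer_eq_top_iff.mp htop
    exact Cfsg.Agent.Lib.Helper1_Cores.le_pCore hn (T.isPGroup'.to_le inf_le_left)
  have hTN : (T : Subgroup X) ≤
      Subgroup.normalizer ((((T : Subgroup X) ⊓ L : Subgroup X)) : Set X) := by
    intro t ht
    rw [Subgroup.mem_normalizer_iff]
    intro x
    constructor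
    · rintro ⟨hx1, hx2⟩
      exact ⟨Subgroup.mul_mem _ (Subgroup.mul_mem _ ht hx1) (Subgroup.inv_mem _ ht),
        hL.conj_mem x hx2 t⟩
    · rintro ⟨hx1, hx2⟩
      refine ⟨?_, ?_⟩
      · have h1 : t⁻¹ * (t * x * t⁻¹) * t ∈ (T : Subgroup X) :=
          Subgroup.mul_mem _ (Subgroup.mul_mem _ (Subgroup.inv_mem _ ht) hx1) ht
        have h2 : t⁻¹ * (t * x * t⁻¹) * t = x := by group
        rwa [h2] at h1
      · have h1 := hL.conj_mem _ hx2 t⁻¹
        have h2 : t⁻¹ * (t * x * t⁻¹) * t⁻¹⁻¹ = x := by group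
        rwa [h2] at h1
  have hNM := hTM _ hNne hTN
  apply hM
  rw [eq_top_iff]
  intro g _
  obtain ⟨l, hl, n, hn, rfl⟩ := Cfsg.Agent.S0608.frattini_inf T L g
  exact Subgroup.mul_mem _ (hLM hl) (hNM hn)

/-- a normal subgroup `L` all of whose elements have a `p`-power in the normal subgroup `C ≤ L` lies
in `(T ∩ L) C` -/
theorem le_sup_of_forall_pow_mem (T : Sylow p X) (C L : Subgroup X) [hC : C.Normal] [hL : L.Normal]
    (hCL : C ≤ L) (k : ℕ) (h : ∀ y ∈ L, y ^ (p ^ k) ∈ C) : L ≤ ((T : Subgroup X) ⊓ L) ⊔ C := by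
  have hnorm : L ≤ Subgroup.normalizer (C : Set X) := by
    rw [Subgroup.normalizer_eq_top]; exact le_top
  exact Cfsg.Agent.Lib.Helper51_Local.le_sup_of_sylow_of_relIndex_pow
    (Cfsg.Agent.S0608.not_dvd_relIndex_inf_normal T L)
    (Cfsg.Agent.Lib.Helper51_Local.relIndex_eq_pow_of_forall_pow_mem hCL hnorm k h)

end Cfsg.Agent.Lib.Helper32_ZJo
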