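import Mathlib
import Cfsg.Agent.Lib.Helper32_ZJo5

/-!
# `Z(J_e(T))` is normal in a solvable group of odd order with `C_X(O_p(X)) ≤ O_p(X)` (helper32)
-/

set_option autoImplicit false

namespace Cfsg.Agent.Lib.Helper32_ZJo

open Cfsg Cfsg.Agent.Lib.Helper11_ZJ Cfsg.Agent.S0654

open Cfsg.Agent.Lib.Helper32_ZJe (fam fam_nonempty le_of_mem_fam mem_of_mem_fam mem_fam_of_le
  mem_fam_of_mem_fam_le card_eq_of_mem_fam mem_fam_of_card_le map_conj_mem_fam fam_map_subtype
  thompsonSubgroupOf_eq_sSup le_thompsonSubgroupOf prEA_iff prEA_of_le prEA_sup prEA_zpowers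
  comm_mem_iff comm_mem_symm normalizer_le_normalizer_centerThompsonOf isPGroup_of_forall_coprime
  centralizer_pCore_subgroup)

open scoped commutatorElement

universe u

/-- the statement proved by induction -/
def MainO (p : ℕ) (X : Type u) [Group X] : Prop :=
  Group.IsSolvable X → Odd (Nat.card X) →
    Subgroup.centralizer (pCore p X : Set X) ≤ pCore p X →
    ∀ T : Sylow p X, (Cfsg.centerThompsonOf p (T : Subgroup X)).Normal

variable {X : Type u} [Group X] [Finite X] {p : ℕ} [Fact p.Prime]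

omit [Finite X] in
/-- Step 1: proper subgroups containing `T` normalize `Z(J_e(T))` -/
theorem le_normalizer_of_ih (ih : ∀ Y : Subgroup X, Y ≠ ⊤ → MainO p ↥Y)
    (hsolv : Group.IsSolvable X) (hodd : Odd (Nat.card X))
    (hc : Subgroup.centralizer (pCore p X : Set X) ≤ pCore p X) (T : Sylow p X)
    (Y : Subgroup X) (hY : Y ≠ ⊤) (hTY : (T : Subgroup X) ≤ Y) :
    Y ≤ Subgroup.normalizer ((Cfsg.centerThompsonOf p (T : Subgroup X) : Subgroup X) : Set X) := by
  have hH1Y : pCore p X ≤ Y := (Cfsg.Agent.Lib.Helper1_Cores.pCore_le_sylow p T).trans hTY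
  have hcY := centralizer_pCore_subgroup hc Y hH1Y
  have hoddY : Odd (Nat.card ↥Y) := Odd.of_dvd_nat hodd (Subgroup.card_subgroup_dvd_card Y)
  have hn := ih Y hY inferInstance hoddY hcY (T.subtype hTY)
  have hmap : ((T.subtype hTY : Sylow p ↥Y) : Subgroup ↥Y).map Y.subtype = (T : Subgroup X) := by
    rw [Sylow.coe_subtype, Subgroup.map_subgroupOf_eq_of_le hTY]
  have h1 := Subgroup.le_normalizer_map
    (H := Cfsg.centerThompsonOf p ((T.subtype hTY : Sylow p ↥Y) : Subgroup ↥Y)) Y.subtype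
  rw [Subgroup.normalizer_eq_top, ← MonoidHom.range_eq_map, Subgroup.range_subtype,
    centerThompsonOf_map_subtype, hmap] at h1
  exact h1

/-- the preimage of `O_{p'}(X / O_p(X))` -/
abbrev Rp (p : ℕ) (X : Type u) [Group X] : Subgroup X :=
  (pPrimeCore p (X ⧸ pCore p X)).comap (QuotientGroup.mk' (pCore p X))

omit [Finite X] [Fact p.Prime] in
theorem pCore_le_Rp : pCore p X ≤ Rp p X := by
  intro h hh
  rw [Subgroup.mem_comap]
  have : QuotientGroup.mk' (pCore p X) h = 1 := (QuotientGroup.eq_one_iff h).mpr hh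
  rw [this]
  exact Subgroup.one_mem _

omit [Fact p.Prime] in
/-- `R / O_p(X)` has exponent prime to `p` -/
theorem exists_exponent_Rp : ∃ e : ℕ, e.Coprime p ∧ ∀ k ∈ Rp p X, k ^ e ∈ pCore p X := by
  refine ⟨Nat.card (pPrimeCore p (X ⧸ pCore p X)),
    Cfsg.Agent.Lib.Helper1_Cores.pPrimeCore_card_coprime p, ?_⟩
  intro k hk
  rw [Subgroup.mem_comap] at hk
  have h1 : (⟨QuotientGroup.mk' (pCore p X) k, hk⟩ : ↥(pPrimeCore p (X ⧸ pCore p X))) ^
      Nat.card (pPrimeCore p (X ⧸ pCore p X)) = 1 := pow_card_eq_one'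
  have h2 := congrArg Subtype.val h1
  rw [SubgroupClass.coe_pow, OneMemClass.coe_one] at h2
  rw [← QuotientGroup.eq_one_iff, QuotientGroup.mk_pow]
  exact h2

/-- Step 3: `X = T R` in the minimal situation -/
theorem sup_Rp_eq_top (hsolv : Group.IsSolvable X) (T : Sylow p X) (M : Subgroup X) (hM : M ≠ ⊤)
    (hTM : ∀ Y : Subgroup X, Y ≠ ⊤ → (T : Subgroup X) ≤ Y → Y ≤ M) :
    (T : Subgroup X) ⊔ Rp p X = ⊤ := by
  have hp : p.Prime := Fact.out
  by_contra hne
  have hRM : Rp p X ≤ M := le_sup_right.trans (hTM _ hne le_sup_left)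
  have hRn : (Rp p X).Normal :=
    Subgroup.Normal.comap (Cfsg.Agent.Lib.Helper1_Cores.pPrimeCore_normal p) _
  -- `R₂`
  obtain ⟨R₂, hR₂⟩ : ∃ R₂ : Subgroup X,
      R₂ = (pCore p (X ⧸ Rp p X)).comap (QuotientGroup.mk' (Rp p X)) := ⟨_, rfl⟩
  have hR₂n : R₂.Normal := by
    rw [hR₂]
    exact Subgroup.Normal.comap (Cfsg.Agent.Lib.Helper1_Cores.pCore_normal p) _
  have hRR₂ : Rp p X ≤ R₂ := by
    intro r hr
    rw [hR₂, Subgroup.mem_comap]
    have : QuotientGroup.mk' (Rp p X) r = 1 := (QuotientGroup.eq_one_iff r).mpr hr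
    rw [this]
    exact Subgroup.one_mem _
  obtain ⟨k, hk⟩ := IsPGroup.iff_card.mp
    (Cfsg.Agent.Lib.Helper1_Cores.pCore_isPGroup p (G := X ⧸ Rp p X))
  have hpow : ∀ y ∈ R₂, y ^ (p ^ k) ∈ Rp p X := by
    intro y hy
    rw [hR₂, Subgroup.mem_comap] at hy
    have h1 : (⟨QuotientGroup.mk' (Rp p X) y, hy⟩ : ↥(pCore p (X ⧸ Rp p X))) ^
        Nat.card (pCore p (X ⧸ Rp p X)) = 1 := pow_card_eq_one'
    have h2 := congrArg Subtype.val h1
    rw [SubgroupClass.coe_pow, OneMemClass.coe_one, hk] at h2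
    rw [← QuotientGroup.eq_one_iff, QuotientGroup.mk_pow]
    exact h2
  have hR₂le := le_sup_of_forall_pow_mem T (Rp p X) R₂ hRR₂ k hpow
  have hR₂M : R₂ ≤ M :=
    hR₂le.trans (sup_le (inf_le_left.trans (hTM _ hne le_sup_left |> fun h => le_sup_left.trans h))
      hRM)
  have hTR₂ : (T : Subgroup X) ⊓ R₂ ≤ pCore p X := inf_le_pCore_of_le T M hM hTM R₂ hR₂M
  have hR₂R : R₂ ≤ Rp p X := hR₂le.trans (sup_le (hTR₂.trans pCore_le_Rp) le_rfl)
  -- `O_p(X / R) = 1`
  have hOp : pCore p (X ⧸ Rp p X) = ⊥ := by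
    rw [eq_bot_iff]
    intro g hg
    obtain ⟨y, rfl⟩ := QuotientGroup.mk_surjective g
    have hy : y ∈ R₂ := by rw [hR₂, Subgroup.mem_comap]; exact hg
    rw [Subgroup.mem_bot]
    exact (QuotientGroup.eq_one_iff y).mpr (hR₂R hy)
  -- `O_{p'}(X / R) = 1`
  have hOp' : pPrimeCore p (X ⧸ Rp p X) = ⊥ := by
    obtain ⟨N, hN⟩ : ∃ N : Subgroup X,
        N = (pPrimeCore p (X ⧸ Rp p X)).comap (QuotientGroup.mk' (Rp p X)) := ⟨_, rfl⟩
    have hNn : N.Normal := by
      rw [hN]
      exact Subgroup.Normal.comap (Cfsg.Agent.Lib.Helper1_Cores.pPrimeCore_normal p) _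
    have hNR : N ≤ Rp p X := by
      have hmapn : (N.map (QuotientGroup.mk' (pCore p X))).Normal :=
        Subgroup.Normal.map hNn _ (QuotientGroup.mk'_surjective _)
      have hcop : (Nat.card (N.map (QuotientGroup.mk' (pCore p X)))).Coprime p := by
        rw [Nat.coprime_comm, Nat.Prime.coprime_iff_not_dvd hp]
        intro hdvd
        obtain ⟨⟨_, y, hy, rfl⟩, hx⟩ := exists_prime_orderOf_dvd_card' p hdvd
        obtain ⟨e₂, he₂, hRe⟩ := exists_exponent_Rp (X := X) (p := p)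
        have he₁ : (Nat.card (pPrimeCore p (X ⧸ Rp p X))).Coprime p :=
          Cfsg.Agent.Lib.Helper1_Cores.pPrimeCore_card_coprime p
        have hyN : y ∈ N := hy
        have hy' : QuotientGroup.mk' (Rp p X) y ∈ pPrimeCore p (X ⧸ Rp p X) := by
          rw [hN, Subgroup.mem_comap] at hyN; exact hyN
        have h1 : (⟨QuotientGroup.mk' (Rp p X) y, hy'⟩ : ↥(pPrimeCore p (X ⧸ Rp p X))) ^
            Nat.card (pPrimeCore p (X ⧸ Rp p X)) = 1 := pow_card_eq_one'
        have h2 := congrArg Subtype.val h1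
        rw [SubgroupClass.coe_pow, OneMemClass.coe_one, ← map_pow] at h2
        have h3 : y ^ Nat.card (pPrimeCore p (X ⧸ Rp p X)) ∈ Rp p X :=
          (QuotientGroup.eq_one_iff _).mp h2
        have h4 := hRe _ h3
        rw [← pow_mul] at h4
        have h5 : (⟨QuotientGroup.mk' (pCore p X) y, ⟨y, hy, rfl⟩⟩ :
            ↥(N.map (QuotientGroup.mk' (pCore p X)))) ^
              (Nat.card (pPrimeCore p (X ⧸ Rp p X)) * e₂) = 1 := by
          apply Subtype.ext
          rw [SubgroupClass.coe_pow, OneMemClass.coe_one]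
          show (QuotientGroup.mk' (pCore p X) y) ^ _ = 1
          rw [← map_pow]
          exact (QuotientGroup.eq_one_iff _).mpr h4
        have h6 := orderOf_dvd_of_pow_eq_one h5
        rw [hx] at h6
        exact (Nat.Prime.coprime_iff_not_dvd hp).mp (Nat.Coprime.mul_left he₁ he₂).symm h6
      have hle := Cfsg.Agent.Lib.Helper1_Cores.le_pPrimeCore hmapn hcop
      intro y hy
      rw [Subgroup.mem_comap]
      exact hle ⟨y, hy, rfl⟩
    rw [eq_bot_iff]
    intro g hg
    obtain ⟨y, rfl⟩ := QuotientGroup.mk_surjective g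
    have hy : y ∈ N := by rw [hN, Subgroup.mem_comap]; exact hg
    rw [Subgroup.mem_bot]
    exact (QuotientGroup.eq_one_iff y).mpr (hNR hy)
  -- hence `X / R` is trivial
  have hcent := Cfsg.Agent.Lib.Helper55_Fitting.centralizer_pCore_le (G := X ⧸ Rp p X) p hOp'
  rw [hOp] at hcent
  apply hne
  rw [eq_top_iff]
  intro x _
  apply Subgroup.mem_sup_right
  have h1 : QuotientGroup.mk' (Rp p X) x ∈
      Subgroup.centralizer (((⊥ : Subgroup (X ⧸ Rp p X)) : Subgroup (X ⧸ Rp p X)) : Set (X ⧸ Rp p X)) := by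
    rw [Subgroup.mem_centralizer_iff]
    intro y hy
    rw [SetLike.mem_coe, Subgroup.mem_bot] at hy
    rw [hy, one_mul, mul_one]
  have h2 := hcent h1
  rw [Subgroup.mem_bot] at h2
  exact (QuotientGroup.eq_one_iff x).mp h2

/-- the hypotheses `HypO` when `X = T R` -/
theorem hypO_of_sup_eq_top (hsolv : Group.IsSolvable X) (hodd : Odd (Nat.card X)) (T : Sylow p X)
    (h : (T : Subgroup X) ⊔ Rp p X = ⊤) : HypO p (Rp p X) (pCore p X) := by
  have hRn : (Rp p X).Normal :=
    Subgroup.Normal.comap (Cfsg.Agent.Lib.Helper1_Cores.pPrimeCore_normal p) _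
  refine ⟨hRn, Cfsg.Agent.Lib.Helper1_Cores.pCore_normal p,
    Cfsg.Agent.Lib.Helper1_Cores.pCore_isPGroup p, exists_exponent_Rp, ?_, hsolv, hodd⟩
  intro g
  have hg : g ∈ (T : Subgroup X) ⊔ Rp p X := by rw [h]; exact Subgroup.mem_top g
  obtain ⟨t, ht, r, hr, rfl⟩ := Subgroup.mem_sup_of_normal_right.mp hg
  obtain ⟨n, hn⟩ := T.isPGroup' ⟨t, ht⟩
  have hn' : t ^ (p ^ n) = 1 := by simpa using congrArg Subtype.val hn
  refine ⟨n, ?_⟩
  rw [← QuotientGroup.eq_one_iff, QuotientGroup.mk_pow, QuotientGroup.mk_mul,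
    (QuotientGroup.eq_one_iff r).mpr hr, mul_one, ← QuotientGroup.mk_pow, hn']
  rfl

/-- the inductive step -/
theorem main_step (hp2 : p ≠ 2) (ih : ∀ Y : Subgroup X, Y ≠ ⊤ → MainO p ↥Y) : MainO p X := by
  intro hsolv hodd hc T
  have hp : p.Prime := Fact.out
  have hH1n : (pCore p X).Normal := Cfsg.Agent.Lib.Helper1_Cores.pCore_normal p
  have hH1p : IsPGroup p (pCore p X) := Cfsg.Agent.Lib.Helper1_Cores.pCore_isPGroup p
  have hH1T : pCore p X ≤ (T : Subgroup X) := Cfsg.Agent.Lib.Helper1_Cores.pCore_le_sylow p T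
  rw [← Subgroup.normalizer_eq_top_iff]
  by_contra hM
  have hTM := le_normalizer_of_ih ih hsolv hodd hc T
  have hsup := sup_Rp_eq_top hsolv T _ hM hTM
  have hyp := hypO_of_sup_eq_top hsolv hodd T hsup
  obtain ⟨A₀, hA₀, hA₀H⟩ := exists_le_pCore hp2 hyp hc T
  -- notation
  obtain ⟨J, hJ⟩ : ∃ J : Subgroup X, J = Cfsg.thompsonSubgroupOf p (T : Subgroup X) := ⟨_, rfl⟩
  obtain ⟨Z, hZ⟩ : ∃ Z : Subgroup X, Z = Cfsg.centerThompsonOf p (T : Subgroup X) := ⟨_, rfl⟩
  have hZdef : Z = J ⊓ Subgroup.centralizer (J : Set X) := by rw [hZ, hJ]; rfl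
  have hJsup : J = sSup (fam p (T : Subgroup X)) := by rw [hJ, thompsonSubgroupOf_eq_sSup]
  have hfamH : ∀ A' : Subgroup X, A' ∈ fam p (pCore p X) ↔
      A' ∈ fam p (T : Subgroup X) ∧ A' ≤ pCore p X :=
    fun A' => mem_maxFam_restrict hH1T hA₀ hA₀H A'
  have hA₀' : A₀ ∈ fam p (pCore p X) := (hfamH A₀).mpr ⟨hA₀, hA₀H⟩
  obtain ⟨JH, hJH⟩ : ∃ JH : Subgroup X, JH = sSup (fam p (pCore p X)) := ⟨_, rfl⟩
  obtain ⟨V, hV⟩ : ∃ V : Subgroup X, V = sInf (fam p (pCore p X)) := ⟨_, rfl⟩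
  have hJHJ : JH ≤ J := by
    rw [hJH, hJsup]
    exact sSup_le (fun A' hA' => le_sSup ((hfamH A').mp hA').1)
  have hJHH : JH ≤ pCore p X := by
    rw [hJH]
    exact sSup_le (fun A' hA' => hA'.1)
  have hconjfam : ∀ g : X, ∀ A' ∈ fam p (pCore p X),
      A'.map (MulAut.conj g).toMonoidHom ∈ fam p (pCore p X) := by
    intro g A' hA'
    apply map_conj_mem_fam hA' g
    rw [Subgroup.normalizer_eq_top]
    exact Subgroup.mem_top g
  have hJHn : JH.Normal := by
    apply normal_of_conj_mem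
    intro g x hx
    have h1 : JH.map (MulAut.conj g).toMonoidHom ≤ JH := by
      rw [hJH, (Subgroup.gc_map_comap (MulAut.conj g).toMonoidHom).l_sSup]
      exact iSup₂_le (fun A' hA' => le_sSup (hconjfam g A' hA'))
    exact h1 ⟨x, hx, by simp [MulAut.conj_apply]⟩
  have hVn : V.Normal := by
    apply normal_of_conj_mem
    intro g x hx
    rw [hV, Subgroup.mem_sInf] at hx ⊢
    intro A' hA'
    have h1 := hx _ (hconjfam g⁻¹ A' hA')
    obtain ⟨y, hy, hyx⟩ := h1
    have : g * x * g⁻¹ = y := by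
      rw [← hyx, MulEquiv.coe_toMonoidHom, MulAut.conj_apply]; group
    rw [this]
    exact hy
  have hVA : ∀ A' ∈ fam p (pCore p X), V ≤ A' := fun A' hA' => by rw [hV]; exact sInf_le hA'
  have hVH : V ≤ pCore p X := (hVA A₀ hA₀').trans hA₀H
  have hVp : IsPGroup p V := hH1p.to_le hVH
  have hVcomm : ∀ v ∈ V, ∀ w ∈ V, v * w = w * v := fun v hv w hw =>
    (prEA_iff.mp hA₀.2.1).1 v (hVA A₀ hA₀' hv) w (hVA A₀ hA₀' hw)
  -- `C₀ = C_H(J_e(H))`
  obtain ⟨C₀, hC₀⟩ : ∃ C₀ : Subgroup X, C₀ = pCore p X ⊓ Subgroup.centralizer (JH : Set X) :=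
    ⟨_, rfl⟩
  have hC₀n : C₀.Normal := by
    rw [hC₀]
    have : (Subgroup.centralizer (JH : Set X)).Normal := Subgroup.normal_centralizer
    exact Subgroup.normal_inf_normal _ _
  have hC₀p : IsPGroup p C₀ := hH1p.to_le (by rw [hC₀]; exact inf_le_left)
  -- elements of order `p` of `C₀` lie in `V`
  have hC₀V : ∀ x ∈ C₀, x ^ p = 1 → x ∈ V := by
    intro x hx hxp
    rw [hC₀] at hx
    obtain ⟨hxH, hxc⟩ := Subgroup.mem_inf.mp hx
    rw [hV, Subgroup.mem_sInf]
    intro A' hA'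
    apply mem_of_mem_fam hA' hxH hxp
    intro a ha
    have haJ : a ∈ JH := by rw [hJH]; exact (le_sSup hA') ha
    exact Subgroup.mem_centralizer_iff.mp hxc a haJ
  -- `T` normalizes `Z`
  have hTZ : (T : Subgroup X) ≤ Subgroup.normalizer (Z : Set X) := by
    rw [hZ]
    exact Subgroup.le_normalizer.trans (normalizer_le_normalizer_centerThompsonOf p _)
  have hZT : Z ≤ (T : Subgroup X) := by
    rw [hZdef, hJ]
    exact inf_le_left.trans (Cfsg.Agent.Lib.Helper49_Thompson.thompsonSubgroupOf_le p _)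
  have hZcomm : ∀ x ∈ Z, ∀ y ∈ Z, x * y = y * x := by
    intro x hx y hy
    rw [hZdef] at hx hy
    exact (Subgroup.mem_centralizer_iff.mp (Subgroup.mem_inf.mp hx).2 y (Subgroup.mem_inf.mp hy).1).symm
  -- `Z ≤ O_p(X)`
  have hZH : Z ≤ pCore p X := by
    intro z hz
    obtain ⟨n, hn⟩ := T.isPGroup' ⟨z, hZT hz⟩
    have hn' : z ^ (p ^ n) = 1 := by simpa using congrArg Subtype.val hn
    apply Cfsg.Agent.Lib.Helper25_OddStable.mem_pCore_of_quadratic hodd (pCore p X) hH1p
      (hH1p.to_le hc)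
    have hzZ : Subgroup.zpowers z ≤ Z := by
      rw [Subgroup.zpowers_le]; exact hz
    have h1 : ⁅pCore p X, Subgroup.zpowers z⁆ ≤ Z := by
      rw [Subgroup.commutator_le]
      intro q hq x hx
      have h2 : q * x * q⁻¹ ∈ Z :=
        (Subgroup.mem_normalizer_iff.mp (hTZ (hH1T hq)) x).mp (hzZ hx)
      rw [commutatorElement_def]
      exact Subgroup.mul_mem _ h2 (Subgroup.inv_mem _ (hzZ hx))
    rw [eq_bot_iff]
    refine (Subgroup.commutator_mono h1 hzZ).trans ?_
    rw [Subgroup.commutator_le]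
    intro x hx y hy
    rw [Subgroup.mem_bot, commutatorElement_def, hZcomm x hx y hy]
    group
  have hZC₀ : Z ≤ C₀ := by
    rw [hC₀]
    refine le_inf hZH ?_
    rw [hZdef]
    exact inf_le_right.trans (Subgroup.centralizer_le hJHJ)
  -- `V ≤ C₀`
  have hVC₀ : V ≤ C₀ := by
    rw [hC₀]
    refine le_inf hVH ?_
    rw [Subgroup.le_centralizer_iff, hJH]
    apply sSup_le
    intro A' hA' a ha
    rw [Subgroup.mem_centralizer_iff]
    intro v hv
    exact (prEA_iff.mp hA'.2.1).1 v (hVA A' hA' hv) a ha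
  -- the subgroups `D' = C_X(C₀) ≤ D = C_X(V) ≤ L`
  have hD'n : (Subgroup.centralizer (C₀ : Set X)).Normal := Subgroup.normal_centralizer
  have hDn : (Subgroup.centralizer (V : Set X)).Normal := Subgroup.normal_centralizer
  have hD'D : Subgroup.centralizer (C₀ : Set X) ≤ Subgroup.centralizer (V : Set X) :=
    Subgroup.centralizer_le hVC₀
  obtain ⟨L, hL⟩ : ∃ L : Subgroup X, L = (pCore p (X ⧸ Subgroup.centralizer (V : Set X))).comap
      (QuotientGroup.mk' (Subgroup.centralizer (V : Set X))) := ⟨_, rfl⟩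
  have hLn : L.Normal := by
    rw [hL]
    exact Subgroup.Normal.comap (Cfsg.Agent.Lib.Helper1_Cores.pCore_normal p) _
  have hDL : Subgroup.centralizer (V : Set X) ≤ L := by
    intro d hd
    rw [hL, Subgroup.mem_comap]
    have : QuotientGroup.mk' (Subgroup.centralizer (V : Set X)) d = 1 :=
      (QuotientGroup.eq_one_iff d).mpr hd
    rw [this]
    exact Subgroup.one_mem _
  have hD'M : Subgroup.centralizer (C₀ : Set X) ≤ Subgroup.normalizer (Z : Set X) := by
    rw [hZ] at hZC₀ ⊢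
    exact (Subgroup.centralizer_le hZC₀).trans (Subgroup.centralizer_le_normalizer _)
  obtain ⟨j₀, hj₀⟩ := IsPGroup.iff_card.mp
    (Cfsg.Agent.Lib.Helper1_Cores.pCore_isPGroup p (G := X ⧸ Subgroup.centralizer (V : Set X)))
  have hpow : ∀ y ∈ L, y ^ (p ^ (j₀ + (Nat.card X).factorization p)) ∈
      Subgroup.centralizer (C₀ : Set X) := by
    intro y hy
    rw [hL, Subgroup.mem_comap] at hy
    have h1 : (⟨QuotientGroup.mk' (Subgroup.centralizer (V : Set X)) y, hy⟩ :
        ↥(pCore p (X ⧸ Subgroup.centralizer (V : Set X)))) ^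
          Nat.card (pCore p (X ⧸ Subgroup.centralizer (V : Set X))) = 1 := pow_card_eq_one'
    have h2 := congrArg Subtype.val h1
    rw [SubgroupClass.coe_pow, OneMemClass.coe_one, hj₀, ← map_pow] at h2
    have h3 : y ^ (p ^ j₀) ∈ Subgroup.centralizer (V : Set X) := (QuotientGroup.eq_one_iff _).mp h2
    have hcop := orderOf_pow_coprime p (y ^ (p ^ j₀))
    have h4 : (y ^ (p ^ j₀)) ^ p ^ (Nat.card X).factorization p ∈ Subgroup.centralizer (V : Set X) :=
      Subgroup.pow_mem _ h3 _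
    have h5 := Cfsg.Agent.Lib.Helper24_Coprime.centralizes_pgroup_of_centralizes_omega p hp2
      ((y ^ (p ^ j₀)) ^ p ^ (Nat.card X).factorization p) hcop
      C₀ hC₀p (fun x hx => hC₀n.conj_mem x hx _)
      (fun x hx hxp => (Subgroup.mem_centralizer_iff.mp h4 x (hC₀V x hx hxp)).symm)
    rw [pow_add, pow_mul]
    rw [Subgroup.mem_centralizer_iff]
    intro z hz
    exact (h5 z hz).symm
  have hLle := le_sup_of_forall_pow_mem T (Subgroup.centralizer (C₀ : Set X)) L (hD'D.trans hDL)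
    _ hpow
  have hTZ' : (T : Subgroup X) ≤
      Subgroup.normalizer ((Cfsg.centerThompsonOf p (T : Subgroup X) : Subgroup X) : Set X) := by
    rw [← hZ]; exact hTZ
  have hLM : L ≤
      Subgroup.normalizer ((Cfsg.centerThompsonOf p (T : Subgroup X) : Subgroup X) : Set X) := by
    refine hLle.trans (sup_le (inf_le_left.trans hTZ') ?_)
    rw [← hZ]; exact hD'M
  have hTL : (T : Subgroup X) ⊓ L ≤ pCore p X := inf_le_pCore_of_le T _ hM hTM L hLM
  -- every member of the family of `T` contains `V`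
  have hVU : ∀ U ∈ fam p (T : Subgroup X), V ≤ U := by
    by_contra hcon
    push Not at hcon
    obtain ⟨U, hU, hVU⟩ := hcon
    have hVV : ⁅V, V⁆ = ⊥ := by
      rw [Subgroup.commutator_eq_bot_iff_le_centralizer]
      intro v hv
      rw [Subgroup.mem_centralizer_iff]
      intro w hw
      exact hVcomm w hw v hv
    have hTV : (T : Subgroup X) ≤ Subgroup.normalizer (V : Set X) := by
      rw [Subgroup.normalizer_eq_top]; exact le_top
    obtain ⟨A₂, hA₂, hVA₂, hVNA₂⟩ := (Cfsg.Agent.S0654.admissible hp2).replace T V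
      (hVH.trans hH1T) hTV (by rw [hVV, Subgroup.commutator_bot_left])
      ⟨U, hU, by rw [hVV]; exact bot_le, hVU⟩
    apply hVA₂
    apply hVA
    rw [hfamH]
    refine ⟨hA₂, ?_⟩
    intro a ha
    have hea := prEA_iff.mp hA₂.2.1
    have hq := quadratic_of_normalizes hea.1 hVNA₂ ha
    have haL : a ∈ L := by
      rw [hL, Subgroup.mem_comap]
      exact Cfsg.Agent.Lib.Helper25_OddStable.isPStableOn hodd V hVp a hq
    exact hTL ⟨hA₂.1 ha, haL⟩
  have hUH : ∀ U ∈ fam p (T : Subgroup X), U ≤ pCore p X := by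
    intro U hU u hu
    have huD : u ∈ Subgroup.centralizer (V : Set X) := by
      rw [Subgroup.mem_centralizer_iff]
      intro v hv
      exact (prEA_iff.mp hU.2.1).1 v (hVU U hU hv) u hu
    exact hTL ⟨hU.1 hu, hDL huD⟩
  have hJeq : J = JH := by
    apply le_antisymm _ hJHJ
    rw [hJsup, hJH]
    exact sSup_le (fun U hU => le_sSup ((hfamH U).mpr ⟨hU, hUH U hU⟩))
  apply hM
  rw [Subgroup.normalizer_eq_top_iff, ← hZ, hZdef, hJeq]
  have : (Subgroup.centralizer (JH : Set X)).Normal := Subgroup.normal_centralizer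
  exact Subgroup.normal_inf_normal _ _

/-- `MainO` holds for every finite group (`p` odd) -/
theorem mainO (hp2 : p ≠ 2) :
    ∀ (n : ℕ) (X : Type u) [Group X] [Finite X], Nat.card X = n → MainO p X := by
  intro n
  induction n using Nat.strong_induction_on with
  | _ n ih =>
    intro X _ _ hn
    apply main_step hp2
    intro Y hY
    apply ih (Nat.card Y) _ ↥Y rfl
    rw [← hn]
    by_contra hcon
    have hge : Nat.card (⊤ : Subgroup X) ≤ Nat.card Y := by
      rw [Subgroup.card_top]; exact not_lt.mp hcon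
    exact hY (Subgroup.eq_of_le_of_card_ge le_top hge)

/-- **Glauberman's ZJ-theorem for the elementary abelian Thompson subgroup, solvable groups of odd
order**: if `C_X(O_p(X)) ≤ O_p(X)` then `Z(J_e(T))` is normal in `X`. -/
theorem centerThompsonOf_normal_of_odd [hsolv : Group.IsSolvable X] (hodd : Odd (Nat.card X))
    (hc : Subgroup.centralizer (pCore p X : Set X) ≤ pCore p X) (T : Sylow p X) :
    (Cfsg.centerThompsonOf p (T : Subgroup X)).Normal := by
  by_cases hp2 : p = 2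
  · -- the Sylow `2`-subgroup is trivial
    have hZT : Cfsg.centerThompsonOf p (T : Subgroup X) ≤ (T : Subgroup X) :=
      inf_le_left.trans (Cfsg.Agent.Lib.Helper49_Thompson.thompsonSubgroupOf_le p _)
    obtain ⟨k, hk⟩ := IsPGroup.iff_card.mp T.isPGroup'
    have hk0 : k = 0 := by
      by_contra hk0
      have h1 : 2 ∣ Nat.card (T : Subgroup X) := by
        rw [hk, hp2]; exact dvd_pow_self 2 hk0
      have h2 : 2 ∣ Nat.card X := h1.trans (Subgroup.card_subgroup_dvd_card _)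
      exact (Nat.not_even_iff_odd.mpr hodd) (even_iff_two_dvd.mpr h2)
    rw [hk0, pow_zero] at hk
    have hT : (T : Subgroup X) = ⊥ := Subgroup.card_eq_one.mp hk
    rw [hT, le_bot_iff] at hZT
    rw [hT, hZT]
    infer_instance
  · exact mainO hp2 (Nat.card X) X rfl hsolv hodd hc T

end Cfsg.Agent.Lib.Helper32_ZJo
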