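import Mathlib
import Cfsg.Agent.Lib.Helper33_BG16b
import Cfsg.Agent.Lib.Helper53_BG16b
import Cfsg.Agent.Lib.Helper84_RelSylow
import Cfsg.Agent.S1387

/-!
# Bender–Glauberman §16, Theorem C(1), (2) (helper33)

From the earlier statements of the chain taken as hypotheses (`Helper33_BG16Hyp`):
* `statement_S1363` (from S1350, S1366, S1430, S1435): `U` abelian, `N_G(U) ≰ M`;
* `kstar_ne_bot` (from S1430): `K* ≠ 1` when `K ≠ 1`;
* `statement_S1364` (from S1351, S1366, S1430, S1431, S1437): `K*` cyclic, nontrivial, inside `M_F`,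
  and `M_F` not cyclic.
General lemmas: `commute_of_fix'`, `mem_of_not_dvd_index'`, `mem_zpowers_of_cyclic`, `pPart`.
-/

set_option autoImplicit false

namespace Cfsg.Agent.Lib.Helper33_BG16c

open Subgroup Cfsg Cfsg.Agent.Lib.Helper33_BG16Hyp Cfsg.Agent.Lib.Helper33_BG16a
  Cfsg.Agent.Lib.Helper33_BG16b Cfsg.Agent.Lib.Helper84_RelSylow
open scoped Pointwise commutatorElement

variable {G : Type*} [Group G]

/-- **S1363** from the earlier statements -/
theorem statement_S1363 [Finite G] (hG : IsMinSimpleOddOrder G) (h1350 : H1350 G) (h1366 : H1366 G)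
    (h1430 : H1430 G) (h1435 : H1435 G)
    (M : Subgroup G) (hM : IsCoatom M) (K U : Subgroup G) (hKU : Cfsg.IsSigmaDecomposition M K U)
    (hK1 : K ≠ ⊥) :
    IsMulCommutative U ∧ ¬ Subgroup.normalizer (U : Set G) ≤ M := by
  have hsolv : Group.IsSolvable ↥M := hG.2.2.2 M hM.1
  obtain ⟨hσH, -, -⟩ := h1350 M hM
  obtain ⟨-, ⟨U', hU'c, hU'H, -, -⟩, -⟩ := h1430 M hM K hKU.hall hK1
  have hUc := Cfsg.Agent.Lib.Helper53_BG16b.U_comm hsolv hKU hσH ⟨U', hU'c, hU'H⟩
  refine ⟨⟨⟨fun a b => Subtype.ext (hUc a a.2 b b.2)⟩⟩, ?_⟩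
  by_cases hU1 : U = ⊥
  · intro hle
    apply hM.1
    rw [eq_top_iff]
    refine le_trans ?_ hle
    rw [hU1]
    intro g _
    rw [mem_normalizer_iff]
    intro h
    simp only [Subgroup.mem_bot]
    constructor
    · rintro rfl; group
    · intro h1
      have : h = g⁻¹ * (g * h * g⁻¹) * g := by group
      rw [this, h1]; group
  · obtain ⟨Mstar, ⟨hMs, hKst, hKstH⟩, -⟩ := h1366 M hM K U hKU hK1
    have hUcard : Nat.card U ≠ 1 := fun h => hU1 (Subgroup.card_eq_one.mp h)
    obtain ⟨r, hr, hrd⟩ := Nat.exists_prime_and_dvd hUcard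
    have : Fact r.Prime := ⟨hr⟩
    obtain ⟨R⟩ : Nonempty (Sylow r U) := inferInstance
    have hR1 : ((R : Subgroup U).map U.subtype : Subgroup G) ≠ ⊥ := by
      intro h
      have h1 : Nat.card ((R : Subgroup U).map U.subtype : Subgroup G) = 1 := by
        rw [h]; exact Subgroup.card_bot
      rw [Subgroup.card_map_of_injective U.subtype_injective, Sylow.card_eq_multiplicity] at h1
      have h2 : 0 < (Nat.card U).factorization r :=
        Nat.Prime.factorization_pos_of_dvd hr Nat.card_pos.ne' hrd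
      have h3 : 1 < r ^ (Nat.card U).factorization r := Nat.one_lt_pow h2.ne' hr.one_lt
      omega
    have hRtop : ((R : Subgroup U).map U.subtype : Subgroup G) ≠ ⊤ := by
      intro h
      apply hM.1
      rw [eq_top_iff, ← h]
      exact (Subgroup.map_subtype_le _).trans (dec_U_le hKU)
    have hN := Cfsg.Agent.Lib.Helper22_BGTrans.normalizer_ne_top hG hR1 hRtop
    obtain ⟨H, hH, hNH⟩ := (eq_top_or_exists_le_coatom _).resolve_left hN
    obtain ⟨-, -, -, hnot, -, -⟩ := h1435 M hM K U hKU hK1 hU1 Mstar hMs hKst hKstH r hrd R H hH hNH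
    exact fun hle => hnot (inf_le_right.trans hle)


/-- an element normalizing a cyclic `p`-subgroup `P`, fixing an element of order `p` of it, and
having a power coprime to `p` that centralizes `P`, centralizes `P`
(copy of helper73's `S4403.commute_of_fix`, to keep the import closure small). -/
theorem commute_of_fix' {K : Type*} [Group K] [Finite K] {p : ℕ} [Fact p.Prime] (P : Subgroup K)
    (hP : IsPGroup p P) (hc : IsCyclic P) (z : K) (hzP : z ∈ P) (hz : orderOf z = p) (n : K)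
    (hn : ∀ w ∈ P, n * w * n⁻¹ ∈ P) (hfix : n * z * n⁻¹ = z) (j : ℕ) (hj : j.Coprime p)
    (hnj : ∀ w ∈ P, n ^ j * w = w * n ^ j) : ∀ w ∈ P, n * w = w * n := by
  obtain ⟨a', ha'⟩ := IsCyclic.exists_generator (α := ↥P)
  set a : K := (a' : K) with ha
  have haP : a ∈ P := a'.2
  have hgen : ∀ w ∈ P, ∃ s : ℤ, a ^ s = w := by
    intro w hw
    obtain ⟨s, hs⟩ := Subgroup.mem_zpowers_iff.mp (ha' ⟨w, hw⟩)
    refine ⟨s, ?_⟩
    have := congrArg Subtype.val hs
    simpa using this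
  obtain ⟨m, hm⟩ := hP.exists_card_eq
  have horda : orderOf a = p ^ m := by
    rw [ha, Subgroup.orderOf_coe, orderOf_eq_card_of_forall_mem_zpowers ha', hm]
  have hm1 : 1 ≤ m := by
    by_contra h0
    have h0' : m = 0 := by omega
    rw [h0', pow_zero] at hm
    have hbot : P = ⊥ := Subgroup.card_eq_one.mp hm
    rw [hbot, Subgroup.mem_bot] at hzP
    rw [hzP, orderOf_one] at hz
    exact (Fact.out : p.Prime).one_lt.ne hz
  have hsuff : ∀ n' : K, n' * a = a * n' → ∀ w ∈ P, n' * w = w * n' := by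
    intro n' hn' w hw
    obtain ⟨s, rfl⟩ := hgen w hw
    exact ((Commute.zpow_left (show Commute a n' from hn'.symm) s).eq).symm
  obtain ⟨r, hr⟩ := hgen _ (hn a haP)
  obtain ⟨s, hs⟩ := hgen z hzP
  have hzr : z ^ r = z := by
    calc z ^ r = (a ^ s) ^ r := by rw [hs]
      _ = (a ^ r) ^ s := by rw [← zpow_mul, ← zpow_mul, mul_comm]
      _ = (n * a * n⁻¹) ^ s := by rw [hr]
      _ = n * a ^ s * n⁻¹ := by rw [conj_zpow]
      _ = z := by rw [hs, hfix]
  have hpr : (p : ℤ) ∣ r - 1 := by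
    have h1 : z ^ (r - 1) = 1 := by rw [zpow_sub_one, hzr, mul_inv_cancel]
    rw [← hz]
    exact orderOf_dvd_iff_zpow_eq_one.mpr h1
  have hpow : ∀ k : ℕ, n ^ k * a * (n ^ k)⁻¹ = a ^ (r ^ k) := by
    intro k
    induction k with
    | zero => simp
    | succ k ih =>
      calc n ^ (k + 1) * a * (n ^ (k + 1))⁻¹ = n * (n ^ k * a * (n ^ k)⁻¹) * n⁻¹ := by
            rw [pow_succ']; group
        _ = n * a ^ (r ^ k) * n⁻¹ := by rw [ih]
        _ = (n * a * n⁻¹) ^ (r ^ k) := by rw [conj_zpow]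
        _ = (a ^ r) ^ (r ^ k) := by rw [hr]
        _ = a ^ (r ^ (k + 1)) := by rw [← zpow_mul, pow_succ']
  have hq : n ^ (p ^ (m - 1)) * a = a * n ^ (p ^ (m - 1)) := by
    have h1 := hpow (p ^ (m - 1))
    have hdvd : ((p : ℤ) ^ (m - 1 + 1)) ∣ r ^ p ^ (m - 1) - 1 ^ p ^ (m - 1) :=
      dvd_sub_pow_of_dvd_sub hpr (m - 1)
    rw [one_pow, Nat.sub_add_cancel hm1] at hdvd
    have h2 : a ^ (r ^ p ^ (m - 1) - 1) = 1 := by
      apply orderOf_dvd_iff_zpow_eq_one.mp
      rw [horda]; exact_mod_cast hdvd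
    have h3 : a ^ (r ^ p ^ (m - 1)) = a := by
      have e : r ^ p ^ (m - 1) = (r ^ p ^ (m - 1) - 1) + 1 := by ring
      rw [e, zpow_add_one, h2, one_mul]
    rw [h3] at h1
    calc n ^ p ^ (m - 1) * a
        = (n ^ p ^ (m - 1) * a * (n ^ p ^ (m - 1))⁻¹) * n ^ p ^ (m - 1) := by group
      _ = a * n ^ p ^ (m - 1) := by rw [h1]
  have hcop : Nat.Coprime (p ^ (m - 1)) j := (Nat.Coprime.pow_left _ hj.symm)
  have hb := Nat.gcd_eq_gcd_ab (p ^ (m - 1)) j
  rw [hcop.gcd_eq_one] at hb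
  have hn_eq : n = (n ^ (p ^ (m - 1))) ^ (Nat.gcdA (p ^ (m - 1)) j) *
      (n ^ j) ^ (Nat.gcdB (p ^ (m - 1)) j) := by
    rw [← zpow_natCast, ← zpow_natCast, ← zpow_mul, ← zpow_mul, ← zpow_add, ← hb]
    simp
  have hca : n * a = a * n := by
    have c1 : Commute (n ^ (p ^ (m - 1))) a := hq
    have c2 : Commute (n ^ j) a := hnj a haP
    have : Commute ((n ^ (p ^ (m - 1))) ^ (Nat.gcdA (p ^ (m - 1)) j) *
      (n ^ j) ^ (Nat.gcdB (p ^ (m - 1)) j)) a :=
      (c1.zpow_left _).mul_left (c2.zpow_left _)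
    rw [← hn_eq] at this
    exact this.eq
  exact hsuff n hca

/-- A `p`-element lies in every normal subgroup of index prime to `p`. -/
theorem mem_of_not_dvd_index' {X : Type*} [Group X] [Finite X] {p : ℕ} (hp : p.Prime)
    (H : Subgroup X) [H.Normal] (hH : ¬ p ∣ H.index) {s : X} {k : ℕ} (hs : s ^ p ^ k = 1) :
    s ∈ H := by
  rw [← QuotientGroup.eq_one_iff]
  have h1 : orderOf (s : X ⧸ H) ∣ p ^ k := by
    apply orderOf_dvd_of_pow_eq_one
    rw [← QuotientGroup.mk_pow, hs]; rfl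
  have h2 : orderOf (s : X ⧸ H) ∣ H.index := by
    rw [Subgroup.index_eq_card]; exact orderOf_dvd_natCard _
  have h3 : (p ^ k).Coprime H.index := Nat.Coprime.pow_left k ((Nat.Prime.coprime_iff_not_dvd hp).mpr hH)
  exact orderOf_eq_one_iff.mp (Nat.eq_one_of_dvd_coprimes h3 h1 h2)

/-- in a finite cyclic group the elements with `x ^ p = 1` are the powers of any element of order `p` -/
theorem mem_zpowers_of_cyclic {C : Type*} [Group C] [Finite C] [IsCyclic C] {p : ℕ} (hp : p.Prime)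
    {x b : C} (hb : orderOf b = p) (hx : x ^ p = 1) : x ∈ zpowers b := by
  classical
  have : Fintype C := Fintype.ofFinite C
  have h1 := IsCyclic.card_pow_eq_one_le (α := C) hp.pos
  have h2 : ((zpowers b : Set C).toFinset) ⊆ Finset.univ.filter (fun a : C => a ^ p = 1) := by
    intro a ha
    rw [Set.mem_toFinset] at ha
    obtain ⟨k, rfl⟩ := mem_zpowers_iff.mp ha
    simp only [Finset.mem_filter, Finset.mem_univ, true_and]
    rw [← zpow_natCast, ← zpow_mul, mul_comm, zpow_mul, zpow_natCast, ← hb, pow_orderOf_eq_one, one_zpow]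
  have h3 : (zpowers b : Set C).toFinset.card = p := by
    rw [Set.toFinset_card, ← Nat.card_eq_fintype_card]
    exact (Nat.card_zpowers b).trans hb
  have h4 := Finset.eq_of_subset_of_card_le h2 (by rw [h3]; exact h1)
  have h5 : x ∈ Finset.univ.filter (fun a : C => a ^ p = 1) := by simp [hx]
  rw [← h4, Set.mem_toFinset] at h5
  exact h5


/-- the `p`-part of a commutative subgroup -/
def pPart (p : ℕ) (C : Subgroup G) (hC : ∀ a ∈ C, ∀ b ∈ C, a * b = b * a) : Subgroup G where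
  carrier := {c | c ∈ C ∧ ∃ j : ℕ, c ^ p ^ j = 1}
  one_mem' := ⟨one_mem _, 0, by simp⟩
  mul_mem' := by
    rintro a b ⟨ha, i, hi⟩ ⟨hb, j, hj⟩
    refine ⟨mul_mem ha hb, i + j, ?_⟩
    rw [(show Commute a b from hC a ha b hb).mul_pow, pow_add, pow_mul, hi, one_pow, one_mul,
      mul_comm, pow_mul, hj, one_pow]
  inv_mem' := by
    rintro a ⟨ha, i, hi⟩
    exact ⟨inv_mem ha, i, by rw [inv_pow, hi, inv_one]⟩

theorem kstar_ne_bot [Finite G] (h1430 : H1430 G)
    (M : Subgroup G) (hM : IsCoatom M) (K U : Subgroup G) (hKU : Cfsg.IsSigmaDecomposition M K U)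
    (hK1 : K ≠ ⊥) : Cfsg.sigmaCore M ⊓ Subgroup.centralizer (K : Set G) ≠ ⊥ := by
  have hKM : K ≤ M := dec_K_le hKU
  have hKcard : Nat.card K ≠ 1 := fun h => hK1 (Subgroup.card_eq_one.mp h)
  obtain ⟨p, hp, hpd⟩ := Nat.exists_prime_and_dvd hKcard
  have : Fact p.Prime := ⟨hp⟩
  have hpκ : p ∈ kappa M := hKU.hall.2.1 p hp hpd
  obtain ⟨PK⟩ : Nonempty (Sylow p K) := inferInstance
  have hTK : IsSylowIn p ((PK : Subgroup K).map K.subtype) K := isSylowIn_of_sylow PK
  have hTM : IsSylowIn p ((PK : Subgroup K).map K.subtype) M := by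
    refine ⟨hTK.le.trans hKM, hTK.isPGroup, ?_⟩
    rw [← relIndex_mul_relIndex _ K M hTK.le hKM]
    intro hd
    rcases (Nat.Prime.dvd_mul hp).mp hd with h | h
    · exact hTK.not_dvd h
    · exact hKU.hall.2.2 p hp hpκ h
  obtain ⟨-, x, hxP, hx1, y, hy, hy1, hxy⟩ := hpκ.2.2.2 hTM.toSylow
  replace hxP := (hTM.mem_toSylow x).mp hxP
  have hxK : (x : G) ∈ K := hTK.le hxP
  have hx1' : (x : G) ≠ 1 := fun h => hx1 (Subtype.ext h)
  obtain ⟨hcent, -, -⟩ := h1430 M hM K hKU.hall hK1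
  have hmem : y ∈ sigmaCore M ⊓ centralizer ({(x : G)} : Set G) := by
    refine Subgroup.mem_inf.mpr ⟨hy, ?_⟩
    rw [Subgroup.mem_centralizer_singleton_iff]
    exact hxy.symm
  rw [hcent x hxK hx1'] at hmem
  intro hbot
  rw [hbot, Subgroup.mem_bot] at hmem
  exact hy1 hmem

/-- **S1364** from the earlier statements -/
theorem statement_S1364 [Finite G] (h1351 : H1351 G) (h1366 : H1366 G)
    (h1430 : H1430 G) (h1431 : H1431 G) (h1437 : H1437 G)
    (M : Subgroup G) (hM : IsCoatom M) (K U : Subgroup G) (hKU : Cfsg.IsSigmaDecomposition M K U)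
    (hK1 : K ≠ ⊥) :
    IsCyclic ↥(Cfsg.sigmaCore M ⊓ Subgroup.centralizer (K : Set G)) ∧
      (Cfsg.sigmaCore M ⊓ Subgroup.centralizer (K : Set G)) ≠ ⊥ ∧
      (Cfsg.sigmaCore M ⊓ Subgroup.centralizer (K : Set G)) ≤ Cfsg.fittingHallOf M ∧
      ¬ IsCyclic (Cfsg.fittingHallOf M) := by
  have hKM : K ≤ M := dec_K_le hKU
  have hne := kstar_ne_bot h1430 M hM K U hKU hK1
  -- (3)
  have hle : (sigmaCore M ⊓ centralizer (K : Set G)) ≤ fittingHallOf M := by
    by_cases hF : fittingHallOf M = sigmaCore M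
    · rw [hF]; exact inf_le_left
    · obtain ⟨-, -, -, hq, -, -, Q, hQF, hMQ, hQq, hQidx, -⟩ := h1437 M hM K U hKU hF
      have : Fact (Nat.card ↥(sigmaCore M ⊓ centralizer (K : Set G))).Prime := ⟨hq⟩
      have hT : IsSylowIn (Nat.card ↥(sigmaCore M ⊓ centralizer (K : Set G))) (Q ⊓ sigmaCore M)
          (sigmaCore M) :=
        ⟨inf_le_right, hQq.to_le inf_le_left, by rw [inf_relIndex_right]; exact hQidx⟩
      have hKsq : IsPGroup (Nat.card ↥(sigmaCore M ⊓ centralizer (K : Set G)))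
          ↥(sigmaCore M ⊓ centralizer (K : Set G)) :=
        IsPGroup.of_card (n := 1) (by rw [pow_one])
      have hKsN : (sigmaCore M ⊓ centralizer (K : Set G)) ≤
          normalizer ((Q ⊓ sigmaCore M : Subgroup G) : Set G) := by
        intro g hg
        have hgM : g ∈ M := sigmaCore_le M (Subgroup.mem_inf.mp hg).1
        have h1 := mem_normalizer_iff.mp (hMQ hgM)
        have h2 := mem_normalizer_iff.mp (le_normalizer_sigmaCore M hgM)
        rw [mem_normalizer_iff]
        intro h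
        rw [Subgroup.mem_inf, Subgroup.mem_inf, h1 h, h2 h]
      have hsup := IsPGroup.to_sup_of_normal_right' hKsq hT.isPGroup hKsN
      have heq := hT.eq_of_le le_sup_right (sup_le inf_le_left inf_le_right) hsup
      exact ((le_sup_left.trans heq.le).trans inf_le_left).trans hQF
  refine ⟨?_, hne, hle, ?_⟩
  · obtain ⟨Mstar, ⟨hMs, -, hKstH⟩, -⟩ := h1366 M hM K U hKU hK1
    exact (h1351 Mstar hMs).2 _ hKstH
  · intro hcyc
    have hKscard : Nat.card ↥(sigmaCore M ⊓ centralizer (K : Set G)) ≠ 1 :=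
      fun h => hne (Subgroup.card_eq_one.mp h)
    obtain ⟨p, hp, hpd⟩ := Nat.exists_prime_and_dvd hKscard
    have : Fact p.Prime := ⟨hp⟩
    obtain ⟨x₀, hx₀⟩ := exists_prime_orderOf_dvd_card' p hpd
    have hx₀o : orderOf (x₀ : G) = p := by rw [Subgroup.orderOf_coe, hx₀]
    have hx₀C : (x₀ : G) ∈ fittingHallOf M := hle x₀.2
    have hx₀K : (x₀ : G) ∈ centralizer (K : Set G) := (Subgroup.mem_inf.mp x₀.2).2
    obtain ⟨S⟩ : Nonempty (Sylow p ↥(sigmaCore M)) := inferInstance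
    obtain ⟨-, -, hsyl, -⟩ := h1431 M hM K hKU.hall hK1
    obtain ⟨-, -, hnot⟩ := hsyl p hp hpd S
    apply hnot
    -- commutativity of `C = M_F`
    have hCab : ∀ a ∈ fittingHallOf M, ∀ b ∈ fittingHallOf M, a * b = b * a := by
      intro a ha b hb
      have h1 := (IsCyclic.commGroup (α := ↥(fittingHallOf M))).mul_comm ⟨a, ha⟩ ⟨b, hb⟩
      exact congrArg (fun z : ↥(fittingHallOf M) => (z : G)) h1
    have hMC : M ≤ normalizer ((fittingHallOf M : Subgroup G) : Set G) :=
      le_normalizer_map_subtype M _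
    -- `p ∣ |C|`, so `p ∤ |M : C|`
    have hpC : p ∣ Nat.card (fittingHall ↥M) := by
      have h1 : p ∣ Nat.card (fittingHallOf M) := by
        have := orderOf_dvd_natCard (⟨(x₀ : G), hx₀C⟩ : ↥(fittingHallOf M))
        rwa [Subgroup.orderOf_mk, hx₀o] at this
      unfold fittingHallOf at h1
      rwa [Subgroup.card_map_of_injective M.subtype_injective] at h1
    have hpidx : ¬ p ∣ (fittingHall ↥M).index := by
      intro hd
      have := Cfsg.Agent.S1387.fittingHall_coprime ↥M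
      exact Nat.Prime.not_coprime_iff_dvd.mpr ⟨p, hp, hpC, hd⟩ this
    -- every `p`-element of `M` lies in `C`
    have hpelt : ∀ s ∈ M, ∀ j : ℕ, s ^ p ^ j = 1 → s ∈ fittingHallOf M := by
      intro s hs j hj
      have h1 : (⟨s, hs⟩ : ↥M) ∈ fittingHall ↥M :=
        mem_of_not_dvd_index' hp _ hpidx (k := j) (Subtype.ext (by simpa using hj))
      exact ⟨⟨s, hs⟩, h1, rfl⟩
    -- the `p`-part `P` of `C`
    set P := pPart p (fittingHallOf M) hCab with hPdef
    have hPC : P ≤ fittingHallOf M := fun c hc => hc.1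
    have hPp : IsPGroup p P := by
      rintro ⟨c, -, j, hj⟩
      exact ⟨j, Subtype.ext (by simpa using hj)⟩
    have hPcyc : IsCyclic ↥P := by
      have h1 : IsCyclic ↥(P.subgroupOf (fittingHallOf M)) := inferInstance
      exact (Subgroup.subgroupOfEquivOfLe hPC).isCyclic.mp h1
    have hx₀P : (x₀ : G) ∈ P := ⟨hx₀C, 1, by rw [pow_one, ← hx₀o, pow_orderOf_eq_one]⟩
    have hcopK : (Nat.card K).Coprime p :=
      Nat.Coprime.coprime_dvd_right
        (hpd.trans (Subgroup.card_dvd_of_le (inf_le_left : sigmaCore M ⊓ centralizer (K : Set G) ≤ _)))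
        (dec_coprime_K hKU)
    have hcentP : ∀ k ∈ K, ∀ w ∈ P, k * w = w * k := by
      intro k hk
      apply commute_of_fix' P hPp hPcyc (x₀ : G) hx₀P hx₀o k ?_ ?_ (Nat.card K) hcopK ?_
      · rintro w ⟨hwC, j, hj⟩
        refine ⟨(mem_normalizer_iff.mp (hMC (hKM hk)) w).mp hwC, j, ?_⟩
        rw [conj_pow, hj]; group
      · have := hx₀K k hk
        rw [this]; group
      · intro w _
        have h1 : k ^ Nat.card K = 1 := by
          have := pow_card_eq_one' (G := ↥K) (x := ⟨k, hk⟩)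
          exact congrArg (fun z : ↥K => (z : G)) this
        rw [h1, one_mul, mul_one]
    -- `S ≤ P`
    rintro s ⟨s', hs', rfl⟩
    have hsσ : ((sigmaCore M).subtype s' : G) ∈ sigmaCore M := s'.2
    obtain ⟨j, hj⟩ := S.2 ⟨s', hs'⟩
    have hj' : ((sigmaCore M).subtype s' : G) ^ p ^ j = 1 := by
      have := congrArg (fun z : ↥(S : Subgroup ↥(sigmaCore M)) => ((z : ↥(sigmaCore M)) : G)) hj
      simpa using this
    have hsP : ((sigmaCore M).subtype s' : G) ∈ P :=
      ⟨hpelt _ (sigmaCore_le M hsσ) j hj', j, hj'⟩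
    refine Subgroup.mem_inf.mpr ⟨hsσ, ?_⟩
    intro k hk
    exact hcentP k hk _ hsP

end Cfsg.Agent.Lib.Helper33_BG16c
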