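import Mathlib
import Cfsg.Prelude.Def_Characters
import Cfsg.Prelude.Def_OddOrderChar
import Cfsg.Agent.Lib.Helper76_GalConj
import Cfsg.Agent.Lib.Helper76_KerPPrime
import Cfsg.Agent.Lib.Helper79_FrobSchur
import Cfsg.Agent.Lib.Helper80_CharBasic
import Cfsg.Agent.Lib.Helper3_CharOrtho

/-!
# Characters of an odd-order quotient are not real (helper33, package S0885-PC0 for helper95)
-/

set_option autoImplicit false
set_option linter.unusedSectionVars false
set_option linter.style.haveILetI false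

namespace Cfsg.Agent.Lib.Helper33_Feit_PC0

open scoped ComplexConjugate

universe u

variable {L : Type u} [Group L] [Fintype L]

/-- summing a function of the coset over the group -/
theorem sum_comp_mk (K : Subgroup L) [K.Normal] [Fintype (L ⧸ K)] [Fintype K] (F : L ⧸ K → ℂ) :
    ∑ s : L, F (QuotientGroup.mk s) = (Fintype.card K : ℂ) * ∑ q : L ⧸ K, F q := by
  rw [Fintype.sum_equiv (Subgroup.groupEquivQuotientProdSubgroup (s := K))
    (fun s : L => F (QuotientGroup.mk s)) (fun p : (L ⧸ K) × K => F p.1) (fun s => rfl)]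
  rw [Fintype.sum_prod_type]
  simp only [Finset.sum_const, Finset.card_univ, nsmul_eq_mul]
  rw [Finset.mul_sum]

/-- translation invariance under a normal subgroup contained in the kernel -/
theorem mul_right_of_ker (K : Subgroup L) [K.Normal] {χ : L → ℂ}
    (h1 : ∀ k ∈ K, ∀ y : L, χ (k * y) = χ y) (s : L) (k : L) (hk : k ∈ K) : χ (s * k) = χ s := by
  have : s * k = (s * k * s⁻¹) * s := by group
  rw [this]
  exact h1 _ (Subgroup.Normal.conj_mem inferInstance k hk s) s

/-- **PC0** -/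
theorem PC0 (K : Subgroup L) [K.Normal] {χ : L → ℂ} (hχ : Cfsg.IsIrrCharacter L χ)
    (hker : ∀ k ∈ K, χ k = χ 1) :
    (∀ k ∈ K, ∀ y : L, χ (k * y) = χ y) ∧
    (Odd K.index → χ ≠ (fun _ => 1) → Cfsg.conjFun χ ≠ χ) := by
  classical
  have part1 : ∀ k ∈ K, ∀ y : L, χ (k * y) = χ y := by
    intro k hk y
    have hmem : k ∈ Cfsg.Agent.Lib.Helper76_GalConj.kerC (⟨χ, hχ⟩ : Cfsg.IrrCharacter L) := by
      rw [Cfsg.Agent.Lib.Helper76_GalConj.mem_kerC]
      exact hker k hk
    exact Cfsg.Agent.Lib.Helper76_KerPPrime.irr_mul_of_mem_kerC (⟨χ, hχ⟩ : Cfsg.IrrCharacter L) hmem y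
  refine ⟨part1, ?_⟩
  intro hodd hne hreal
  haveI : Fintype (L ⧸ K) := Fintype.ofFinite _
  haveI : Fintype K := Fintype.ofFinite _
  -- the function on the quotient
  let f : L ⧸ K → ℂ := fun q => χ (Quotient.out q)
  have hf : ∀ s : L, f (QuotientGroup.mk s) = χ s := by
    intro s
    obtain ⟨k, hk⟩ := QuotientGroup.mk_out_eq_mul K s
    show χ (Quotient.out (QuotientGroup.mk s : L ⧸ K)) = χ s
    rw [hk]
    exact mul_right_of_ker K part1 s k k.2
  -- squaring is a bijection of the quotient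
  have hcop : (Nat.card (L ⧸ K)).Coprime 2 := by
    rw [← Subgroup.index_eq_card]
    exact (Nat.coprime_comm.mp (Nat.coprime_two_left.mpr hodd))
  have hsq : ∑ q : L ⧸ K, f (q ^ 2) = ∑ q : L ⧸ K, f q :=
    Fintype.sum_equiv (powCoprime hcop) (fun q => f (q ^ 2)) f (fun q => by simp [powCoprime])
  have hsum : ∑ s : L, χ (s * s) = ∑ s : L, χ s := by
    have e1 : ∑ s : L, χ (s * s) = ∑ s : L, (fun q : L ⧸ K => f (q ^ 2)) (QuotientGroup.mk s) := by
      apply Finset.sum_congr rfl
      intro s _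
      show χ (s * s) = f ((QuotientGroup.mk s : L ⧸ K) ^ 2)
      rw [← hf (s * s), QuotientGroup.mk_mul, sq]
    have e2 : ∑ s : L, χ s = ∑ s : L, f (QuotientGroup.mk s) := by
      apply Finset.sum_congr rfl
      intro s _
      exact (hf s).symm
    rw [e1, e2, sum_comp_mk K (fun q : L ⧸ K => f (q ^ 2)), sum_comp_mk K f, hsq]
  -- orthogonality with the principal character
  have horth : Cfsg.classInner χ (fun _ => (1 : ℂ)) = 0 :=
    Cfsg.Agent.Lib.Helper3_CharOrtho.classInner_of_isIrrCharacter_of_ne hχ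
      (Cfsg.Agent.Lib.Helper80_CharBasic.isIrrCharacter_one L) hne
  have hzero : (Nat.card L : ℂ)⁻¹ * ∑ s : L, χ (s * s) = 0 := by
    rw [hsum]
    unfold Cfsg.classInner at horth
    simpa using horth
  obtain ⟨n, ρ, hirr, rfl⟩ := hχ
  haveI := hirr
  obtain ⟨s, hs⟩ := (Cfsg.Agent.Lib.Helper79_FrobSchur.indicator_eq_zero_iff ρ).mp hzero
  apply hs
  have := congrFun hreal s
  unfold Cfsg.conjFun at this
  have h2 := congrArg Complex.im this
  simp only [Complex.conj_im] at h2
  linarith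

end Cfsg.Agent.Lib.Helper33_Feit_PC0
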