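import Mathlib
import Cfsg.Agent.Lib.Helper94_P2Defs

set_option autoImplicit false
set_option linter.unusedSectionVars false
set_option linter.unusedVariables false

namespace Cfsg.Agent.Lib.Helper33_HP_ADDSPAN

open Module Cfsg.Agent.Lib.Helper94_Symp Cfsg.Agent.Lib.Helper94_OrthSmall
  Cfsg.Agent.Lib.Helper94_OrthSiegel Cfsg.Agent.Lib.Helper94_OrthNondeg
  Cfsg.Agent.Lib.Helper29_ODDefs Cfsg.Agent.Lib.Helper94_OD3Defs Cfsg.Agent.Lib.Helper94_P2Defs

open Cfsg.Agent.Lib.Helper94_Q2Defs (MinOver)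

variable {F : Type*} [Field F] [Finite F] {t : ℕ} {S M L : Subgroup (PV F t ≃ₗ[F] PV F t)}

/-- a field with at least five elements has `c ≠ 0, -1` with `c ^ 2 + c + 1 ≠ 0`. -/
lemma exists_good (hq : 5 ≤ Nat.card F) :
    ∃ c : F, c ≠ 0 ∧ c + 1 ≠ 0 ∧ c ^ 2 + c + 1 ≠ 0 := by
  classical
  have : Fintype F := Fintype.ofFinite F
  -- the bad set has at most four elements
  let p : Polynomial F := Polynomial.X * (Polynomial.X + 1) *
    (Polynomial.X ^ 2 + Polynomial.X + 1)
  have hp0 : p ≠ 0 := by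
    have h1 : (Polynomial.X : Polynomial F) ≠ 0 := Polynomial.X_ne_zero
    have h2 : (Polynomial.X + 1 : Polynomial F) ≠ 0 := by
      have := Polynomial.X_add_C_ne_zero (1 : F)
      simpa using this
    have h3 : (Polynomial.X ^ 2 + Polynomial.X + 1 : Polynomial F) ≠ 0 := by
      intro h
      have := congrArg (fun q => Polynomial.coeff q 2) h
      simp [Polynomial.coeff_X, Polynomial.coeff_one] at this
    exact mul_ne_zero (mul_ne_zero h1 h2) h3
  have hdeg : p.natDegree ≤ 4 := by
    have h1 : (Polynomial.X : Polynomial F).natDegree ≤ 1 := Polynomial.natDegree_X_le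
    have h2 : (Polynomial.X + 1 : Polynomial F).natDegree ≤ 1 := by
      have := Polynomial.natDegree_X_add_C (1 : F)
      simp at this
      exact this.le
    have h3 : (Polynomial.X ^ 2 + Polynomial.X + 1 : Polynomial F).natDegree ≤ 2 := by
      refine (Polynomial.natDegree_add_le _ _).trans (max_le ?_ (by simp))
      refine (Polynomial.natDegree_add_le _ _).trans (max_le (by simp) ?_)
      exact Polynomial.natDegree_X_le.trans (by norm_num)
    calc p.natDegree ≤ (Polynomial.X * (Polynomial.X + 1) : Polynomial F).natDegree +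
          (Polynomial.X ^ 2 + Polynomial.X + 1 : Polynomial F).natDegree :=
          Polynomial.natDegree_mul_le
      _ ≤ ((Polynomial.X : Polynomial F).natDegree +
          (Polynomial.X + 1 : Polynomial F).natDegree) + 2 :=
          add_le_add Polynomial.natDegree_mul_le h3
      _ ≤ (1 + 1) + 2 := by gcongr
      _ = 4 := by norm_num
  have hcard : p.natDegree < Cardinal.mk F := by
    rw [Cardinal.mk_fintype]
    have : Fintype.card F = Nat.card F := (Nat.card_eq_fintype_card).symm
    have h4 : p.natDegree < Fintype.card F := by omega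
    exact_mod_cast h4
  obtain ⟨c, hc⟩ := Polynomial.exists_eval_ne_zero_of_natDegree_lt_card p hp0 hcard
  have hev : Polynomial.eval c p = c * (c + 1) * (c ^ 2 + c + 1) := by
    simp [p]
  rw [hev] at hc
  refine ⟨c, ?_, ?_, ?_⟩
  · rintro rfl; exact hc (by ring)
  · intro h; exact hc (by rw [h]; ring)
  · intro h; exact hc (by rw [h]; ring)

/-- **HP-ADDSPAN** [M] a nonzero additive subgroup of F × F invariant under all d(c) and the swap is everything. -/
theorem ADDSPAN (hq : 5 ≤ Nat.card F) (A : AddSubgroup (F × F))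
    (hd : ∀ c : F, c ≠ 0 → ∀ z ∈ A, dAct F c z ∈ A) (hs : ∀ z ∈ A, sAct F z ∈ A)
    (hne : ∃ z ∈ A, z ≠ 0) : A = ⊤ := by
  -- a nonzero element with nonzero first coordinate
  have h1 : ∃ z ∈ A, z.1 ≠ 0 := by
    obtain ⟨z, hzA, hz0⟩ := hne
    by_cases hz1 : z.1 = 0
    · refine ⟨sAct F z, hs z hzA, ?_⟩
      intro h
      apply hz0
      exact Prod.ext hz1 h
    · exact ⟨z, hzA, hz1⟩
  obtain ⟨z, hzA, hz1⟩ := h1
  obtain ⟨c, hc0, hc1, hc2⟩ := exists_good (F := F) hq
  -- an element `(α', 0)` with `α' ≠ 0`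
  have h2 : ∃ a : F, a ≠ 0 ∧ ((a, 0) : F × F) ∈ A := by
    have hc3 : c / (c + 1) ≠ 0 := div_ne_zero hc0 hc1
    have hmem : dAct F c z + z - dAct F (c / (c + 1)) z ∈ A :=
      A.sub_mem (A.add_mem (hd c hc0 z hzA) hzA) (hd _ hc3 z hzA)
    have heq : dAct F c z + z - dAct F (c / (c + 1)) z =
        (((c ^ 2 + c + 1) / (c + 1)) * z.1, 0) := by
      refine Prod.ext ?_ ?_
      · simp only [dAct, Prod.fst_add, Prod.fst_sub]
        field_simp
        ring
      · simp only [dAct, Prod.snd_add, Prod.snd_sub]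
        field_simp
        ring
    rw [heq] at hmem
    exact ⟨_, mul_ne_zero (div_ne_zero hc2 hc1) hz1, hmem⟩
  obtain ⟨a, ha0, haA⟩ := h2
  have h3 : ∀ x : F, ((x, 0) : F × F) ∈ A := by
    intro x
    by_cases hx : x = 0
    · rw [hx]; exact A.zero_mem
    · have := hd (x / a) (div_ne_zero hx ha0) _ haA
      have heq : dAct F (x / a) ((a, 0) : F × F) = (x, 0) := by
        refine Prod.ext ?_ ?_
        · simp only [dAct]; field_simp
        · simp only [dAct]; simp
      rwa [heq] at this
  have h4 : ∀ y : F, ((0, y) : F × F) ∈ A := by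
    intro y
    have := hs _ (h3 y)
    simpa [sAct] using this
  rw [eq_top_iff]
  rintro ⟨x, y⟩ -
  have : ((x, y) : F × F) = (x, 0) + (0, y) := by simp
  rw [this]
  exact A.add_mem (h3 x) (h4 y)

end Cfsg.Agent.Lib.Helper33_HP_ADDSPAN
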