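import Mathlib
import Cfsg.Agent.Lib.Helper94_P2Defs

set_option autoImplicit false
set_option linter.unusedSectionVars false
set_option linter.unusedVariables false

namespace Cfsg.Agent.Lib.Helper33_HP_PLANEISO

open Module Cfsg.Agent.Lib.Helper94_Symp Cfsg.Agent.Lib.Helper94_OrthSmall
  Cfsg.Agent.Lib.Helper94_OrthSiegel Cfsg.Agent.Lib.Helper94_OrthNondeg
  Cfsg.Agent.Lib.Helper29_ODDefs Cfsg.Agent.Lib.Helper94_OD3Defs Cfsg.Agent.Lib.Helper94_P2Defs

open Cfsg.Agent.Lib.Helper94_Q2Defs (MinOver)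

variable {F : Type*} [Field F] [Finite F] {t : ℕ} {S M L : Subgroup (PV F t ≃ₗ[F] PV F t)}

/-- **HP-PLANEISO** [M] (abstract) an isometry σ whose restriction to a nondegenerate subspace P moves every vector of P by a multiple of a fixed SINGULAR d in P is the identity on P. -/
theorem PLANEISO {V : Type*} [AddCommGroup V] [Module F V] (Q : V → F)
    (B : LinearMap.BilinForm F V) (hQs : ∀ (c : F) (v : V), Q (c • v) = c * c * Q v)
    (hQp : ∀ u v : V, Q (u + v) = Q u + Q v + B u v) (P : Submodule F V)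
    (hP : ∀ a ∈ P, a ≠ 0 → ∃ x ∈ P, B x a ≠ 0) {σ : V ≃ₗ[F] V} (hσ : σ ∈ oG Q) {d : V}
    (hd : d ∈ P) (hd0 : d ≠ 0) (hQd : Q d = 0) (h : ∀ v ∈ P, ∃ c : F, σ v - v = c • d) :
    ∀ v ∈ P, σ v = v := by
  -- symmetry of `B`
  have hsymm : ∀ u v : V, B u v = B v u := by
    intro u v
    have h1 := hQp u v
    have h2 := hQp v u
    rw [add_comm v u] at h2
    have : Q u + Q v + B u v = Q v + Q u + B v u := by rw [← h1, ← h2]
    have h3 : Q u + Q v + B u v = Q u + Q v + B v u := by rw [this]; ring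
    exact add_left_cancel h3
  -- first identity: `c * B v d = 0`
  have key1 : ∀ v ∈ P, ∀ c : F, σ v - v = c • d → c * B v d = 0 := by
    intro v hv c hc
    have hσv : σ v = v + c • d := by rw [← hc]; abel
    have hq : Q (σ v) = Q v := hσ v
    rw [hσv, hQp, hQs, hQd, mul_zero, add_zero, map_smul, smul_eq_mul] at hq
    exact add_left_cancel (a := Q v) (by rw [hq, add_zero])
  obtain ⟨w, hwP, hwd⟩ := hP d hd hd0
  obtain ⟨cw, hcw⟩ := h w hwP
  have hcw0 : cw = 0 := by
    rcases mul_eq_zero.mp (key1 w hwP cw hcw) with h0 | h0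
    · exact h0
    · exact absurd h0 hwd
  have hσw : σ w = w := by
    have : σ w - w = 0 := by rw [hcw, hcw0, zero_smul]
    exact sub_eq_zero.mp this
  intro v hv
  obtain ⟨c, hc⟩ := h v hv
  have hσv : σ v = v + c • d := by rw [← hc]; abel
  have hB : B (σ v) (σ w) = B v w := oG_B Q B hQp hσ v w
  rw [hσw, hσv, map_add, LinearMap.add_apply, map_smul, LinearMap.smul_apply, smul_eq_mul] at hB
  have hc0 : c * B d w = 0 := add_left_cancel (a := B v w) (by rw [hB, add_zero])
  rw [hsymm d w] at hc0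
  rcases mul_eq_zero.mp hc0 with h0 | h0
  · rw [hσv, h0, zero_smul, add_zero]
  · exact absurd h0 hwd

end Cfsg.Agent.Lib.Helper33_HP_PLANEISO
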