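import Mathlib

/-!
Helper library (helper33): a Jordan-block argument over `ZMod p`.
For an endomorphism `τ` with `τ^p = 1` of a `ZMod p`-module `M`, a functional `φ` and a vector `x`
with `φ (∑_{i<p} τ^i x) ≠ 0`, the functionals `φ ∘ (τ - 1)^j`, `j < p`, are independent: the map
`Psi τ φ : M → (Fin p → ZMod p)` is surjective.
-/

set_option autoImplicit false

namespace Cfsg.Agent.Lib.Helper33_Jordan

open Polynomial

variable {p : ℕ} [hp : Fact p.Prime] {M : Type*} [AddCommGroup M] [Module (ZMod p) M]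

theorem sum_pow_eq (τ : Module.End (ZMod p) M) :
    ∑ i ∈ Finset.range p, τ ^ i = (τ - 1) ^ (p - 1) := by
  have h1 : (∑ i ∈ Finset.range p, (X : (ZMod p)[X]) ^ i) = (X - 1) ^ (p - 1) := by
    rw [← cyclotomic_prime (ZMod p) p]
    have h := cyclotomic_mul_prime_pow_eq (ZMod p) (p := p) (m := 1)
      (by intro h; exact hp.out.one_lt.ne' (Nat.dvd_one.mp h)) (k := 1) one_pos
    simpa using h
  have := congrArg (aeval τ) h1
  simpa using this

theorem sub_one_pow_eq_zero (τ : Module.End (ZMod p) M) (hτ : τ ^ p = 1) : (τ - 1) ^ p = 0 := by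
  have h1 : ((X : (ZMod p)[X]) - 1) ^ p = X ^ p - 1 := by
    rw [sub_pow_char, one_pow]
  have := congrArg (aeval τ) h1
  simp only [map_pow, map_sub, aeval_X, map_one] at this
  rw [this, hτ, sub_self]

/-- the map `m ↦ (φ ((τ-1)^j m))_j` -/
noncomputable def Psi (τ : Module.End (ZMod p) M) (φ : M →ₗ[ZMod p] ZMod p) :
    M →ₗ[ZMod p] (Fin p → ZMod p) :=
  LinearMap.pi (fun j : Fin p => φ ∘ₗ ((τ - 1) ^ (j : ℕ)))

theorem Psi_apply (τ : Module.End (ZMod p) M) (φ : M →ₗ[ZMod p] ZMod p) (m : M) (j : Fin p) :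
    Psi τ φ m j = φ (((τ - 1) ^ (j : ℕ)) m) := rfl

theorem Psi_surjective (τ : Module.End (ZMod p) M) (hτ : τ ^ p = 1)
    (φ : M →ₗ[ZMod p] ZMod p) (x : M)
    (hx : φ (∑ i ∈ Finset.range p, (τ ^ i) x) ≠ 0) : Function.Surjective (Psi τ φ) := by
  classical
  rw [← LinearMap.range_eq_top]
  by_contra hne
  obtain ⟨f, hf0, hfle⟩ := Submodule.exists_le_ker_of_lt_top _ (lt_top_iff_ne_top.mpr hne)
  have hD : (τ - 1) ^ p = 0 := sub_one_pow_eq_zero τ hτ
  have hN : φ (((τ - 1) ^ (p - 1)) x) ≠ 0 := by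
    rw [← sum_pow_eq, LinearMap.sum_apply]
    exact hx
  -- coefficients of `f`
  have hfv : ∀ v : Fin p → ZMod p, f v = ∑ j, v j * f (Pi.single j 1) := by
    intro v
    conv_lhs => rw [← Finset.univ_sum_single v]
    rw [map_sum]
    apply Finset.sum_congr rfl
    intro j _
    have : (Pi.single j (v j) : Fin p → ZMod p) = v j • Pi.single j 1 := by
      rw [← Pi.single_smul, smul_eq_mul, mul_one]
    rw [this, map_smul, smul_eq_mul]
  have hex : ∃ j : ℕ, ∃ h : j < p, f (Pi.single ⟨j, h⟩ 1) ≠ 0 := by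
    by_contra hcon
    push Not at hcon
    apply hf0
    apply LinearMap.ext
    intro v
    rw [hfv v]
    simp only [LinearMap.zero_apply]
    apply Finset.sum_eq_zero
    intro j _
    rw [hcon j.1 j.2, mul_zero]
  obtain ⟨hj₀, hj₀ne⟩ := Nat.find_spec hex
  set j₀ := Nat.find hex with hj₀def
  have hmin : ∀ j : Fin p, (j : ℕ) < j₀ → f (Pi.single j 1) = 0 := by
    intro j hj
    have := Nat.find_min hex hj
    push Not at this
    exact this j.2
  have hzero : f (Psi τ φ (((τ - 1) ^ (p - 1 - j₀)) x)) = 0 := by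
    have : Psi τ φ (((τ - 1) ^ (p - 1 - j₀)) x) ∈ LinearMap.range (Psi τ φ) := ⟨_, rfl⟩
    exact hfle this
  rw [hfv] at hzero
  have hterm : ∀ j : Fin p, j ≠ ⟨j₀, hj₀⟩ →
      Psi τ φ (((τ - 1) ^ (p - 1 - j₀)) x) j * f (Pi.single j 1) = 0 := by
    intro j hj
    rcases lt_or_gt_of_ne (fun h => hj (Fin.ext h) : (j : ℕ) ≠ j₀) with hlt | hgt
    · rw [hmin j hlt, mul_zero]
    · rw [Psi_apply, ← Module.End.mul_apply, ← pow_add]
      have hge : p ≤ (j : ℕ) + (p - 1 - j₀) := by omega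
      obtain ⟨e, he⟩ := Nat.exists_eq_add_of_le hge
      rw [he, pow_add, hD, zero_mul, LinearMap.zero_apply, map_zero, zero_mul]
  rw [Finset.sum_eq_single_of_mem (⟨j₀, hj₀⟩ : Fin p) (Finset.mem_univ _)
    (fun j _ hj => hterm j hj)] at hzero
  rw [Psi_apply, ← Module.End.mul_apply, ← pow_add] at hzero
  have e : j₀ + (p - 1 - j₀) = p - 1 := by omega
  simp only [e] at hzero
  rcases mul_eq_zero.mp hzero with h | h
  · exact hN h
  · exact hj₀ne h

theorem card_eq_card_ker_mul [Finite M] (τ : Module.End (ZMod p) M) (hτ : τ ^ p = 1)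
    (φ : M →ₗ[ZMod p] ZMod p) (x : M)
    (hx : φ (∑ i ∈ Finset.range p, (τ ^ i) x) ≠ 0) :
    Nat.card M = Nat.card {m : M // Psi τ φ m = 0} * p ^ p := by
  have hs := Psi_surjective τ hτ φ x hx
  have h1 := AddSubgroup.card_mul_index ((Psi τ φ).toAddMonoidHom.ker)
  have h2 : (Psi τ φ).toAddMonoidHom.ker.index = p ^ p := by
    rw [AddSubgroup.index_ker, AddMonoidHom.range_eq_top.mpr hs]
    have : Nat.card (⊤ : AddSubgroup (Fin p → ZMod p)) = Nat.card (Fin p → ZMod p) :=
      AddSubgroup.card_top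
    rw [this, Nat.card_fun, Nat.card_zmod, Nat.card_fin]
  rw [h2] at h1
  rw [← h1]
  rfl

/-- Group-friendly form: an additive endomorphism `τ` of a finite `ZMod p`-module with `τ^p = id`
and a vector `x` whose `τ`-norm is nonzero give a surjective functional `φ` such that every
`τ`-invariant subgroup of `ker φ` has index at least `p^p`. -/
theorem exists_functional {M : Type*} [AddCommGroup M] [Module (ZMod p) M] [Finite M]
    (τ : M →+ M) (hτ : ∀ m, τ^[p] m = m) (x : M)
    (hx : ∑ i ∈ Finset.range p, τ^[i] x ≠ 0) :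
    ∃ φ : M →+ ZMod p, Function.Surjective φ ∧
      ∀ C : AddSubgroup M, (∀ c ∈ C, φ c = 0) → (∀ c ∈ C, τ c ∈ C) →
        Nat.card C * p ^ p ≤ Nat.card M := by
  classical
  set T : Module.End (ZMod p) M := AddMonoidHom.toZModLinearMap p τ with hT
  have hTapp : ∀ m, T m = τ m := fun m => rfl
  have hTpow : ∀ (n : ℕ) (m : M), (T ^ n) m = τ^[n] m := by
    intro n m
    rw [Module.End.pow_apply]
    rfl
  have hTp : T ^ p = 1 := by
    apply LinearMap.ext
    intro m
    rw [hTpow, hτ]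
    rfl
  have hz : ∑ i ∈ Finset.range p, (T ^ i) x ≠ 0 := by
    simp only [hTpow]
    exact hx
  obtain ⟨φ, hφ⟩ : ∃ φ : Module.Dual (ZMod p) M, φ (∑ i ∈ Finset.range p, (T ^ i) x) ≠ 0 := by
    by_contra hcon
    push Not at hcon
    exact hz ((Module.forall_dual_apply_eq_zero_iff (ZMod p) _).mp hcon)
  refine ⟨φ.toAddMonoidHom, ?_, ?_⟩
  · intro c
    refine ⟨(c / φ (∑ i ∈ Finset.range p, (T ^ i) x)) • (∑ i ∈ Finset.range p, (T ^ i) x), ?_⟩
    show φ _ = c
    rw [map_smul, smul_eq_mul, div_mul_cancel₀ _ hφ]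
  · intro C hC0 hCτ
    have hCpow : ∀ (j : ℕ) (c : M), c ∈ C → ((T - 1) ^ j) c ∈ C := by
      intro j
      induction j with
      | zero => intro c hc; simpa using hc
      | succ j ih =>
        intro c hc
        rw [pow_succ', Module.End.mul_apply]
        have h1 := ih c hc
        rw [LinearMap.sub_apply, Module.End.one_apply]
        exact C.sub_mem (hCτ _ h1) h1
    have hker : ∀ c ∈ C, Psi T φ c = 0 := by
      intro c hc
      funext j
      rw [Psi_apply]
      exact hC0 _ (hCpow j c hc)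
    have hcard := card_eq_card_ker_mul T hTp φ x hφ
    rw [hcard]
    apply Nat.mul_le_mul_right
    exact Nat.card_le_card_of_injective
      (fun c : C => (⟨c.1, hker c.1 c.2⟩ : {m : M // Psi T φ m = 0}))
      (fun a b h => Subtype.ext (by simpa using congrArg Subtype.val h))

end Cfsg.Agent.Lib.Helper33_Jordan
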