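import Mathlib
import Cfsg.Prelude.Def_PLocal
import Cfsg.Prelude.Def_LocalEven
import Cfsg.Prelude.Def_ConjugacyFunctors
import Cfsg.Agent.Lib.Helper33_KInfStable

set_option autoImplicit false
open Cfsg

/-!
# K-infinity subgroups and chief factors (Glauberman)

If `K_∞(S)` or `K^∞(S)` is not normal in the finite group `X` (`S` a Sylow `p`-subgroup), then for every normal
subgroup `A ≤ O_p(X)` of class at most two with `[O_p(X), A] ≤ Z(A)` there is `g ∈ S` outside `O_p(X)` acting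
cubically on `A`, quadratically on `Z(A)` and, if `C_X(A) ≤ A`, quadratically and nontrivially on a chief factor
of `X` inside `A` (`exists_bad`).  No `p`-stability hypothesis.

Main tools: relative chief factors `IsChiefIn`, the Clifford step `quadOn_of_normal` and its iteration along a
subnormal series `quadOn_top_of_isSubnormal`; the stabilizer `stabOf` of the chief factors inside a normal
`p`-subgroup.
-/

namespace Cfsg.Agent.Lib.Helper33_KInfChief

open Cfsg.Agent.Lib.Helper54_KInf Cfsg.Agent.Lib.Helper33_KInfStable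
open scoped commutatorElement

universe u

section Mod

variable {X : Type*} [Group X]

/-- the elements of `U` centralized by `B` modulo `V` -/
def cmod (U V B : Subgroup X) (hUV : U ≤ Subgroup.normalizer (V : Set X)) : Subgroup X where
  carrier := {w | w ∈ U ∧ ∀ b ∈ B, ⁅w, b⁆ ∈ V}
  one_mem' := ⟨U.one_mem, fun b _ => by rw [commutatorElement_one_left]; exact V.one_mem⟩
  mul_mem' := by
    rintro w w' ⟨hw, hw'⟩ ⟨hv, hv'⟩
    refine ⟨U.mul_mem hw hv, fun b hb => ?_⟩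
    have h2 : ⁅w * w', b⁆ = w * ⁅w', b⁆ * w⁻¹ * ⁅w, b⁆ := by
      simp only [commutatorElement_def]; group
    rw [h2]
    exact V.mul_mem ((Subgroup.le_normalizer_iff.mp hUV) w hw _ (hv' b hb)) (hw' b hb)
  inv_mem' := by
    rintro w ⟨hw, hw'⟩
    refine ⟨U.inv_mem hw, fun b hb => ?_⟩
    have h2 : ⁅w⁻¹, b⁆ = w⁻¹ * ⁅w, b⁆⁻¹ * w⁻¹⁻¹ := by
      simp only [commutatorElement_def]; group
    rw [h2]
    exact (Subgroup.le_normalizer_iff.mp hUV) w⁻¹ (U.inv_mem hw) _ (V.inv_mem (hw' b hb))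

/-- the elements of `U` on which `B` acts quadratically modulo `V` (a subgroup when `U / V` is abelian) -/
def qmod (U V B : Subgroup X) (hUV : U ≤ Subgroup.normalizer (V : Set X)) (hVU : V ≤ U)
    (hBV : B ≤ Subgroup.normalizer (V : Set X)) (hab : ⁅U, U⁆ ≤ V) : Subgroup X where
  carrier := {u | u ∈ U ∧ ∀ b ∈ B, ⁅u, b⁆ ∈ cmod U V B hUV}
  one_mem' := ⟨U.one_mem, fun b _ => by rw [commutatorElement_one_left]; exact Subgroup.one_mem _⟩
  mul_mem' := by
    rintro w w' ⟨hw, hw'⟩ ⟨hv, hv'⟩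
    refine ⟨U.mul_mem hw hv, fun b hb => ?_⟩
    have h2 : ⁅w * w', b⁆ = ⁅w, ⁅w', b⁆⁆ * ⁅w', b⁆ * ⁅w, b⁆ := by
      simp only [commutatorElement_def]; group
    rw [h2]
    have hVc : V ≤ cmod U V B hUV := fun v hv =>
      ⟨hVU hv, fun b' hb' => by
        rw [commutatorElement_def]
        have := (Subgroup.le_normalizer_iff.mp hBV) b' hb' v⁻¹ (V.inv_mem hv)
        have e : v * b' * v⁻¹ * b'⁻¹ = v * (b' * v⁻¹ * b'⁻¹) := by group
        rw [e]
        exact V.mul_mem hv this⟩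
    have h3 : ⁅w, ⁅w', b⁆⁆ ∈ cmod U V B hUV :=
      hVc (hab (Subgroup.commutator_mem_commutator hw (hv' b hb).1))
    exact Subgroup.mul_mem _ (Subgroup.mul_mem _ h3 (hv' b hb)) (hw' b hb)
  inv_mem' := by
    rintro w ⟨hw, hw'⟩
    refine ⟨U.inv_mem hw, fun b hb => ?_⟩
    have hVc : V ≤ cmod U V B hUV := fun v hv =>
      ⟨hVU hv, fun b' hb' => by
        rw [commutatorElement_def]
        have := (Subgroup.le_normalizer_iff.mp hBV) b' hb' v⁻¹ (V.inv_mem hv)
        have e : v * b' * v⁻¹ * b'⁻¹ = v * (b' * v⁻¹ * b'⁻¹) := by group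
        rw [e]
        exact V.mul_mem hv this⟩
    have h2 : ⁅w⁻¹, b⁆ = ⁅w⁻¹, ⁅w, b⁆⁻¹⁆ * ⁅w, b⁆⁻¹ := by
      simp only [commutatorElement_def]; group
    rw [h2]
    have h3 : ⁅w⁻¹, ⁅w, b⁆⁻¹⁆ ∈ cmod U V B hUV :=
      hVc (hab (Subgroup.commutator_mem_commutator (U.inv_mem hw) (U.inv_mem (hw' b hb).1)))
    exact Subgroup.mul_mem _ h3 (Subgroup.inv_mem _ (hw' b hb))

variable {U V B : Subgroup X} {hUV : U ≤ Subgroup.normalizer (V : Set X)} {hVU : V ≤ U}
  {hBV : B ≤ Subgroup.normalizer (V : Set X)} {hab : ⁅U, U⁆ ≤ V}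

theorem le_qmod_of_quad (hBU : B ≤ Subgroup.normalizer (U : Set X)) {U' : Subgroup X} (hU' : U' ≤ U)
    (hq : ⁅⁅U', B⁆, B⁆ ≤ V) : U' ≤ qmod U V B hUV hVU hBV hab := by
  intro u hu
  refine ⟨hU' hu, fun b hb => ⟨?_, fun b' hb' => ?_⟩⟩
  · have h1 : ⁅u, b⁆ = u * (b * u⁻¹ * b⁻¹) := by
      rw [commutatorElement_def]; group
    rw [h1]
    exact U.mul_mem (hU' hu) ((Subgroup.le_normalizer_iff.mp hBU) b hb _ (U.inv_mem (hU' hu)))
  · exact hq (Subgroup.commutator_mem_commutator (Subgroup.commutator_mem_commutator hu hb) hb')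

theorem quad_of_le_qmod (h : U ≤ qmod U V B hUV hVU hBV hab) : ⁅⁅U, B⁆, B⁆ ≤ V := by
  have h1 : ⁅U, B⁆ ≤ cmod U V B hUV := by
    rw [Subgroup.commutator_le]
    intro u hu b hb
    exact (h hu).2 b hb
  refine (Subgroup.commutator_mono h1 le_rfl).trans ?_
  rw [Subgroup.commutator_le]
  intro w hw b hb
  exact hw.2 b hb

end Mod

section Chief

variable {X : Type*} [Group X]

/-- `U / V` is a chief factor relative to the subgroup `M` (which normalizes `U` and `V`) -/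
def IsChiefIn (M U V : Subgroup X) : Prop :=
  V ≤ U ∧ M ≤ Subgroup.normalizer (U : Set X) ∧ M ≤ Subgroup.normalizer (V : Set X) ∧
    ∀ W : Subgroup X, M ≤ Subgroup.normalizer (W : Set X) → V ≤ W → W ≤ U → W = V ∨ W = U

theorem isChiefIn_top_of_isChiefFactor {U V : Subgroup X} (h : Cfsg.IsChiefFactor U V) :
    IsChiefIn ⊤ U V := by
  obtain ⟨hlt, hU, hV, hmax⟩ := h
  refine ⟨hlt.le, ?_, ?_, ?_⟩
  · rw [Subgroup.normalizer_eq_top]
  · rw [Subgroup.normalizer_eq_top]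
  · intro W hW h1 h2
    exact hmax W (Subgroup.normalizer_eq_top_iff.mp (top_le_iff.mp hW)) h1 h2

theorem le_normalizer_commutator {M H K : Subgroup X} (hH : M ≤ Subgroup.normalizer (H : Set X))
    (hK : M ≤ Subgroup.normalizer (K : Set X)) : M ≤ Subgroup.normalizer ((⁅H, K⁆ : Subgroup X) : Set X) := by
  intro m hm
  rw [Subgroup.mem_normalizer_iff_map_conj_eq] 
  have h1 := (Subgroup.mem_normalizer_iff_map_conj_eq).mp (hH hm)
  have h2 := (Subgroup.mem_normalizer_iff_map_conj_eq).mp (hK hm)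
  rw [Subgroup.map_commutator, h1, h2]

theorem le_normalizer_sup {M H K : Subgroup X} (hH : M ≤ Subgroup.normalizer (H : Set X))
    (hK : M ≤ Subgroup.normalizer (K : Set X)) : M ≤ Subgroup.normalizer ((H ⊔ K : Subgroup X) : Set X) := by
  intro m hm
  rw [Subgroup.mem_normalizer_iff_map_conj_eq] 
  have h1 := (Subgroup.mem_normalizer_iff_map_conj_eq).mp (hH hm)
  have h2 := (Subgroup.mem_normalizer_iff_map_conj_eq).mp (hK hm)
  rw [Subgroup.map_sup, h1, h2]

theorem le_normalizer_inf {M H K : Subgroup X} (hH : M ≤ Subgroup.normalizer (H : Set X))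
    (hK : M ≤ Subgroup.normalizer (K : Set X)) : M ≤ Subgroup.normalizer ((H ⊓ K : Subgroup X) : Set X) := by
  rw [Subgroup.le_normalizer_iff] at hH hK ⊢
  intro m hm k hk
  exact ⟨hH m hm k hk.1, hK m hm k hk.2⟩

/-- a relative chief factor inside a subgroup `A` of class at most two is abelian -/
theorem comm_le_of_isChiefIn {M A U V : Subgroup X} (h : IsChiefIn M U V) (hUA : U ≤ A) (hAM : A ≤ M)
    (hA2 : ⁅A, A⁆ ≤ Subgroup.centralizer (A : Set X)) : ⁅U, U⁆ ≤ V := by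
  obtain ⟨hVU, hMU, hMV, hmax⟩ := h
  have hUV : U ≤ Subgroup.normalizer (V : Set X) := (hUA.trans hAM).trans hMV
  have hUV' := Subgroup.le_normalizer_iff.mp hUV
  have hWn : M ≤ Subgroup.normalizer ((⁅U, U⁆ ⊔ V : Subgroup X) : Set X) :=
    le_normalizer_sup (le_normalizer_commutator hMU hMU) hMV
  have hWU : ⁅U, U⁆ ⊔ V ≤ U := sup_le (Subgroup.commutator_le_self U) hVU
  rcases hmax _ hWn le_sup_right hWU with h1 | h1
  · rw [← h1]; exact le_sup_left
  · -- `U = [U, U] V`, and `[U, U]` is central in `A`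
    have key : ∀ x ∈ ⁅U, U⁆ ⊔ V, x ∈ U ∧ ∀ y ∈ U, ⁅x, y⁆ ∈ V := by
      intro x hx
      rw [Subgroup.sup_eq_closure] at hx
      induction hx using Subgroup.closure_induction with
      | mem x hx =>
        rcases hx with hx | hx
        · refine ⟨Subgroup.commutator_le_self U hx, fun y hy => ?_⟩
          have hxc : x ∈ Subgroup.centralizer (A : Set X) :=
            hA2 (Subgroup.commutator_mono hUA hUA hx)
          have : ⁅x, y⁆ = 1 := by
            rw [commutatorElement_eq_one_iff_commute]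
            exact (Subgroup.mem_centralizer_iff.mp hxc y (hUA hy)).symm
          rw [this]; exact V.one_mem
        · refine ⟨hVU hx, fun y hy => ?_⟩
          have h2 : ⁅x, y⁆ = x * (y * x⁻¹ * y⁻¹) := by rw [commutatorElement_def]; group
          rw [h2]
          exact V.mul_mem hx (hUV' y hy _ (V.inv_mem hx))
      | one =>
        exact ⟨U.one_mem, fun y _ => by rw [commutatorElement_one_left]; exact V.one_mem⟩
      | mul x x' _ _ hx hx' =>
        refine ⟨U.mul_mem hx.1 hx'.1, fun y hy => ?_⟩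
        have h2 : ⁅x * x', y⁆ = x * ⁅x', y⁆ * x⁻¹ * ⁅x, y⁆ := by
          simp only [commutatorElement_def]; group
        rw [h2]
        exact V.mul_mem (hUV' x hx.1 _ (hx'.2 y hy)) (hx.2 y hy)
      | inv x _ hx =>
        refine ⟨U.inv_mem hx.1, fun y hy => ?_⟩
        have h2 : ⁅x⁻¹, y⁆ = x⁻¹ * ⁅x, y⁆⁻¹ * x⁻¹⁻¹ := by
          simp only [commutatorElement_def]; group
        rw [h2]
        exact hUV' x⁻¹ (U.inv_mem hx.1) _ (V.inv_mem (hx.2 y hy))
    rw [Subgroup.commutator_le]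
    intro x hx y hy
    have hx' : x ∈ ⁅U, U⁆ ⊔ V := by rw [h1]; exact hx
    exact (key x hx').2 y hy

/-- `B` acts quadratically on every chief factor relative to `M` inside `A` -/
def QuadOn (M B A : Subgroup X) : Prop :=
  ∀ U V : Subgroup X, IsChiefIn M U V → U ≤ A → ⁅⁅U, B⁆, B⁆ ≤ V

/-- if `A₁ ≤ A` is normalized by `M` and `B ≤ M` acts quadratically on `A₁` and on `A / A₁`, then `B` acts
quadratically on every chief factor relative to `M` inside `A` -/
theorem quadOn_of_series {M B A A₁ : Subgroup X} (hBM : B ≤ M) (hAM : A ≤ M)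
    (hA2 : ⁅A, A⁆ ≤ Subgroup.centralizer (A : Set X))
    (hMA₁ : M ≤ Subgroup.normalizer (A₁ : Set X)) (hq1 : ⁅⁅A₁, B⁆, B⁆ = ⊥)
    (hq2 : ⁅⁅A, B⁆, B⁆ ≤ A₁) : QuadOn M B A := by
  intro U V hch hUA
  have hab := comm_le_of_isChiefIn hch hUA hAM hA2
  obtain ⟨hVU, hMU, hMV, hmax⟩ := hch
  have hUV : U ≤ Subgroup.normalizer (V : Set X) := (hUA.trans hAM).trans hMV
  have hBV : B ≤ Subgroup.normalizer (V : Set X) := hBM.trans hMV
  have hBU : B ≤ Subgroup.normalizer (U : Set X) := hBM.trans hMU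
  have hWn : M ≤ Subgroup.normalizer (((U ⊓ A₁) ⊔ V : Subgroup X) : Set X) :=
    le_normalizer_sup (le_normalizer_inf hMU hMA₁) hMV
  rcases hmax _ hWn le_sup_right (sup_le inf_le_left hVU) with h1 | h1
  · have h2 : U ⊓ A₁ ≤ V := by rw [← h1]; exact le_sup_left
    refine le_trans (le_inf ?_ ?_) h2
    · have h3 : ⁅U, B⁆ ≤ U := Subgroup.le_normalizer_iff_commutator_le_left.mp hBU
      exact (Subgroup.commutator_mono h3 le_rfl).trans h3
    · exact (Subgroup.commutator_mono (Subgroup.commutator_mono hUA le_rfl) le_rfl).trans hq2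
  · apply quad_of_le_qmod (hUV := hUV) (hVU := hVU) (hBV := hBV) (hab := hab)
    have h2 : U ⊓ A₁ ≤ qmod U V B hUV hVU hBV hab := by
      apply le_qmod_of_quad hBU inf_le_left
      refine le_trans ?_ (bot_le : (⊥ : Subgroup X) ≤ V)
      rw [← hq1]
      exact Subgroup.commutator_mono (Subgroup.commutator_mono inf_le_right le_rfl) le_rfl
    have h3 : V ≤ qmod U V B hUV hVU hBV hab := by
      apply le_qmod_of_quad hBU hVU
      have h4 : ⁅V, B⁆ ≤ V := Subgroup.le_normalizer_iff_commutator_le_left.mp hBV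
      exact (Subgroup.commutator_mono h4 le_rfl).trans h4
    calc U = (U ⊓ A₁) ⊔ V := h1.symm
      _ ≤ _ := sup_le h2 h3

/-- conjugate of a subgroup -/
abbrev cj (n : X) (W : Subgroup X) : Subgroup X := W.map (MulAut.conj n).toMonoidHom

theorem cj_cj (m n : X) (W : Subgroup X) : cj m (cj n W) = cj (m * n) W := by
  unfold cj
  rw [Subgroup.map_map]
  congr 1
  ext x
  simp [MulAut.conj_apply, mul_assoc]

theorem cj_one (W : Subgroup X) : cj 1 W = W := by
  unfold cj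
  ext x
  simp

theorem cj_eq_of_mem_normalizer {n : X} {W : Subgroup X}
    (h : n ∈ Subgroup.normalizer (W : Set X)) : cj n W = W :=
  Subgroup.mem_normalizer_iff_map_conj_eq.mp h

theorem cj_mono (n : X) {W W' : Subgroup X} (h : W ≤ W') : cj n W ≤ cj n W' := Subgroup.map_mono h

theorem le_normalizer_cj {H K W : Subgroup X} (hKH : K ≤ Subgroup.normalizer (H : Set X))
    (hW : H ≤ Subgroup.normalizer (W : Set X)) {n : X} (hn : n ∈ K) :
    H ≤ Subgroup.normalizer ((cj n W : Subgroup X) : Set X) := by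
  intro h hh
  rw [Subgroup.mem_normalizer_iff_map_conj_eq]
  show cj h (cj n W) = cj n W
  have h1 : n⁻¹ * h * n ∈ H := by
    have := (Subgroup.le_normalizer_iff.mp hKH) n⁻¹ (K.inv_mem hn) h hh
    simpa using this
  have h2 : cj (n⁻¹ * h * n) W = W := cj_eq_of_mem_normalizer (hW h1)
  calc cj h (cj n W) = cj (h * n) W := cj_cj h n W
    _ = cj (n * (n⁻¹ * h * n)) W := by congr 1; group
    _ = cj n (cj (n⁻¹ * h * n) W) := (cj_cj _ _ _).symm
    _ = cj n W := by rw [h2]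

theorem isChiefIn_cj {H K U₁ V : Subgroup X} (hKH : K ≤ Subgroup.normalizer (H : Set X))
    (hKV : K ≤ Subgroup.normalizer (V : Set X)) (h : IsChiefIn H U₁ V) {n : X} (hn : n ∈ K) :
    IsChiefIn H (cj n U₁) V := by
  obtain ⟨hVU, hHU, hHV, hmax⟩ := h
  have hVn : cj n V = V := cj_eq_of_mem_normalizer (hKV hn)
  have hVn' : cj n⁻¹ V = V := cj_eq_of_mem_normalizer (hKV (K.inv_mem hn))
  refine ⟨?_, le_normalizer_cj hKH hHU hn, hHV, ?_⟩
  · rw [← hVn]; exact cj_mono n hVU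
  · intro W hW h1 h2
    have hW' : H ≤ Subgroup.normalizer ((cj n⁻¹ W : Subgroup X) : Set X) :=
      le_normalizer_cj hKH hW (K.inv_mem hn)
    have h3 : V ≤ cj n⁻¹ W := by rw [← hVn']; exact cj_mono _ h1
    have h4 : cj n⁻¹ W ≤ U₁ := by
      have := cj_mono n⁻¹ h2
      rwa [cj_cj, inv_mul_cancel, cj_one] at this
    have hback : cj n (cj n⁻¹ W) = W := by rw [cj_cj, mul_inv_cancel, cj_one]
    rcases hmax _ hW' h3 h4 with h5 | h5
    · left
      rw [← hback, h5, hVn]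
    · right
      rw [← hback, h5]

variable [Finite X]

/-- **Clifford step**: if `H ⊴ K` and `B` acts quadratically on every chief factor relative to `H` inside `A`,
the same holds relative to `K`. -/
theorem quadOn_of_normal {H K B A : Subgroup X} (hHK : H ≤ K)
    (hKH : K ≤ Subgroup.normalizer (H : Set X)) (hBH : B ≤ H) (hAH : A ≤ H)
    (hA2 : ⁅A, A⁆ ≤ Subgroup.centralizer (A : Set X)) (h : QuadOn H B A) : QuadOn K B A := by
  intro U V hch hUA
  have hab := comm_le_of_isChiefIn hch hUA (hAH.trans hHK) hA2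
  obtain ⟨hVU, hKU, hKV, hmax⟩ := hch
  have hUV : U ≤ Subgroup.normalizer (V : Set X) := ((hUA.trans hAH).trans hHK).trans hKV
  have hBV : B ≤ Subgroup.normalizer (V : Set X) := (hBH.trans hHK).trans hKV
  have hBU : B ≤ Subgroup.normalizer (U : Set X) := (hBH.trans hHK).trans hKU
  by_cases hVeq : V = U
  · have h3 : ⁅U, B⁆ ≤ U := Subgroup.le_normalizer_iff_commutator_le_left.mp hBU
    rw [hVeq]
    exact (Subgroup.commutator_mono h3 le_rfl).trans h3
  have hlt : V < U := lt_of_le_of_ne hVU hVeq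
  -- a minimal `H`-invariant subgroup strictly above `V`
  let 𝒮 : Set (Subgroup X) := {W | V < W ∧ W ≤ U ∧ H ≤ Subgroup.normalizer (W : Set X)}
  have hne : 𝒮.Nonempty := ⟨U, hlt, le_rfl, hHK.trans hKU⟩
  obtain ⟨U₁, ⟨hVU₁, hU₁U, hHU₁⟩, hmin⟩ := (wellFounded_lt (α := Subgroup X)).has_min 𝒮 hne
  have hch₁ : IsChiefIn H U₁ V := by
    refine ⟨hVU₁.le, hHU₁, hHK.trans hKV, ?_⟩
    intro W hW h1 h2
    by_cases hWV : W = V
    · exact Or.inl hWV
    · right
      have hW𝒮 : W ∈ 𝒮 := ⟨lt_of_le_of_ne h1 (Ne.symm hWV), h2.trans hU₁U, hW⟩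
      by_contra hne'
      exact hmin W hW𝒮 (lt_of_le_of_ne h2 hne')
  -- all conjugates lie in `qmod`
  apply quad_of_le_qmod (hUV := hUV) (hVU := hVU) (hBV := hBV) (hab := hab)
  have hconj : ∀ n ∈ K, cj n U₁ ≤ qmod U V B hUV hVU hBV hab := by
    intro n hn
    have hle : cj n U₁ ≤ U := by
      have := cj_mono n hU₁U
      rwa [cj_eq_of_mem_normalizer (hKU hn)] at this
    exact le_qmod_of_quad hBU hle (h _ _ (isChiefIn_cj hKH hKV hch₁ hn) (hle.trans hUA))
  set Ut : Subgroup X := ⨆ n : K, cj (n : X) U₁ with hUt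
  have hUtq : Ut ≤ qmod U V B hUV hVU hBV hab := iSup_le fun n => hconj n n.2
  have hUtU : Ut ≤ U := iSup_le fun n => by
    have := cj_mono (n : X) hU₁U
    rwa [cj_eq_of_mem_normalizer (hKU n.2)] at this
  have hU₁Ut : U₁ ≤ Ut := by
    have := le_iSup (fun n : K => cj (n : X) U₁) 1
    simpa [cj_one] using this
  have hUtn : K ≤ Subgroup.normalizer (Ut : Set X) := by
    intro k hk
    rw [Subgroup.mem_normalizer_iff_map_conj_eq]
    show cj k Ut = Ut
    apply le_antisymm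
    · rw [hUt]
      unfold cj
      rw [Subgroup.map_iSup]
      apply iSup_le
      intro n
      show cj k (cj (n : X) U₁) ≤ _
      rw [cj_cj]
      exact le_iSup (fun n : K => cj (n : X) U₁) ⟨k * n, K.mul_mem hk n.2⟩
    · rw [hUt]
      apply iSup_le
      intro n
      have : cj (n : X) U₁ = cj k (cj (k⁻¹ * n) U₁) := by rw [cj_cj]; congr 1; group
      rw [this]
      apply cj_mono
      exact le_iSup (fun n : K => cj (n : X) U₁) ⟨k⁻¹ * n, K.mul_mem (K.inv_mem hk) n.2⟩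
  rcases hmax Ut hUtn (hVU₁.le.trans hU₁Ut) hUtU with h1 | h1
  · exfalso
    exact absurd (h1 ▸ hU₁Ut) (not_le_of_gt hVU₁)
  · exact (le_of_eq h1.symm).trans hUtq

/-- quadratic action on relative chief factors passes from a subnormal subgroup to the whole group -/
theorem quadOn_top_of_isSubnormal {H B A : Subgroup X} (hH : H.IsSubnormal) (hBH : B ≤ H) (hAH : A ≤ H)
    (hA2 : ⁅A, A⁆ ≤ Subgroup.centralizer (A : Set X)) (h : QuadOn H B A) : QuadOn ⊤ B A := by
  induction hH with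
  | top => exact h
  | step H K h_le _ hN ih =>
    have hKH : K ≤ Subgroup.normalizer (H : Set X) :=
      (Subgroup.normal_subgroupOf_iff_le_normalizer h_le).mp hN
    exact ih (hBH.trans h_le) (hAH.trans h_le) (quadOn_of_normal h_le hKH hBH hAH hA2 h)

end Chief

section Stab

variable {X : Type*} [Group X]

/-- the elements acting trivially on every chief factor of `X` inside `A₀` -/
def stabOf (A₀ : Subgroup X) : Subgroup X where
  carrier := {x | ∀ U V : Subgroup X, Cfsg.IsChiefFactor U V → U ≤ A₀ → ∀ u ∈ U, ⁅u, x⁆ ∈ V}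
  one_mem' := fun U V _ _ u _ => by rw [commutatorElement_one_right]; exact V.one_mem
  mul_mem' := by
    intro x y hx hy U V hch hU u hu
    have hVn : V.Normal := hch.2.2.1
    have h2 : ⁅u, x * y⁆ = ⁅u, x⁆ * (x * ⁅u, y⁆ * x⁻¹) := by
      simp only [commutatorElement_def]; group
    rw [h2]
    exact V.mul_mem (hx U V hch hU u hu) (hVn.conj_mem _ (hy U V hch hU u hu) x)
  inv_mem' := by
    intro x hx U V hch hU u hu
    have hVn : V.Normal := hch.2.2.1
    have h2 : ⁅u, x⁻¹⁆ = x⁻¹ * ⁅u, x⁆⁻¹ * x⁻¹⁻¹ := by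
      simp only [commutatorElement_def]; group
    rw [h2]
    exact hVn.conj_mem _ (V.inv_mem (hx U V hch hU u hu)) x⁻¹

instance stabOf_normal (A₀ : Subgroup X) : (stabOf A₀).Normal := by
  constructor
  intro x hx z U V hch hU u hu
  have hUn : U.Normal := hch.2.1
  have hVn : V.Normal := hch.2.2.1
  have h2 : ⁅u, z * x * z⁻¹⁆ = z * ⁅z⁻¹ * u * z⁻¹⁻¹, x⁆ * z⁻¹ := by
    simp only [commutatorElement_def]; group
  rw [h2]
  exact hVn.conj_mem _ (hx U V hch hU _ (hUn.conj_mem u hu z⁻¹)) z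

theorem centralizer_le_stabOf (A₀ : Subgroup X) : Subgroup.centralizer (A₀ : Set X) ≤ stabOf A₀ := by
  intro x hx U V _ hU u hu
  have : ⁅u, x⁆ = 1 := by
    rw [commutatorElement_eq_one_iff_commute]
    exact (Subgroup.mem_centralizer_iff.mp hx u (hU hu))
  rw [this]; exact V.one_mem

theorem comm_le_of_mem_stabOf {A₀ : Subgroup X} {y : X} (hy : y ∈ stabOf A₀) {U V : Subgroup X}
    (hch : Cfsg.IsChiefFactor U V) (hU : U ≤ A₀) : ⁅U, Subgroup.zpowers y⁆ ≤ V := by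
  rw [Subgroup.commutator_le]
  intro u hu z hz
  exact (Subgroup.zpowers_le.mpr hy hz) U V hch hU u hu

variable [Finite X] {p : ℕ} [Fact p.Prime]

/-- an element acting trivially on all chief factors inside the normal `p`-subgroup `A₀` has a `p`-power
centralizing `A₀` -/
theorem exists_pow_mem_centralizer (A₀ : Subgroup X) [hA₀n : A₀.Normal] (hA₀ : IsPGroup p A₀) {y : X}
    (hy : y ∈ stabOf A₀) : ∃ j : ℕ, y ^ p ^ j ∈ Subgroup.centralizer (A₀ : Set X) := by
  suffices key : ∀ n : ℕ, ∀ U : Subgroup X, U.Normal → U ≤ A₀ → Nat.card U = n →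
      ∃ j : ℕ, ∀ u ∈ U, y ^ p ^ j * u = u * y ^ p ^ j by
    obtain ⟨j, hj⟩ := key _ A₀ hA₀n le_rfl rfl
    exact ⟨j, Subgroup.mem_centralizer_iff.mpr (fun u hu => (hj u hu).symm)⟩
  intro n
  induction n using Nat.strong_induction_on with
  | _ n ih =>
    intro U hUn hUA hn
    by_cases hbot : U = ⊥
    · refine ⟨0, fun u hu => ?_⟩
      rw [hbot, Subgroup.mem_bot] at hu
      rw [hu, mul_one, one_mul]
    · -- a maximal normal subgroup of `X` properly inside `U`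
      let 𝒱 : Set (Subgroup X) := {V | V.Normal ∧ V < U}
      have hne : 𝒱.Nonempty := ⟨⊥, inferInstance, bot_lt_iff_ne_bot.mpr hbot⟩
      obtain ⟨V, ⟨hVn, hVU⟩, hmax⟩ := (wellFounded_gt (α := Subgroup X)).has_min 𝒱 hne
      have hch : Cfsg.IsChiefFactor U V := by
        refine ⟨hVU, hUn, hVn, ?_⟩
        intro N hNn h1 h2
        by_cases hNU : N = U
        · exact Or.inr hNU
        · left
          have hN𝒱 : N ∈ 𝒱 := ⟨hNn, lt_of_le_of_ne h2 hNU⟩
          by_contra hne'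
          exact hmax N hN𝒱 (lt_of_le_of_ne h1 (Ne.symm hne'))
      have hlt : Nat.card V < n := by
        rw [← hn]
        exact Cfsg.Agent.Lib.Helper11_ZJ.card_lt_of_lt hVU
      obtain ⟨j, hj⟩ := ih _ hlt V hVn (hVU.le.trans hUA) rfl
      obtain ⟨m, hm⟩ := IsPGroup.iff_card.mp (hA₀.to_le (hVU.le.trans hUA))
      have hUV := comm_le_of_mem_stabOf hy hch hUA
      refine ⟨j + m, fun u hu => ?_⟩
      set y' := y ^ p ^ j with hy'
      have hy'z : y' ∈ Subgroup.zpowers y := Subgroup.pow_mem _ (Subgroup.mem_zpowers y) _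
      have hd : ⁅y', u⁆ ∈ V := by
        rw [← commutatorElement_inv]
        exact V.inv_mem (hUV (Subgroup.commutator_mem_commutator hu hy'z))
      have hcomm : y' * ⁅y', u⁆ = ⁅y', u⁆ * y' := hj _ hd
      have h1 := Cfsg.Agent.Lib.Helper34_PStable.conj_pow_of_commute y' u hcomm (p ^ m)
      have h2 : ⁅y', u⁆ ^ p ^ m = 1 := by
        have := pow_card_eq_one' (G := ↥V) (x := ⟨⁅y', u⁆, hd⟩)
        rw [hm] at this
        exact congrArg Subtype.val this
      rw [h2, one_mul] at h1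
      have e : y ^ p ^ (j + m) = y' ^ p ^ m := by rw [hy', ← pow_mul, ← pow_add]
      rw [e]
      calc y' ^ p ^ m * u = (y' ^ p ^ m * u * (y' ^ p ^ m)⁻¹) * y' ^ p ^ m := by group
        _ = u * y' ^ p ^ m := by rw [h1]

/-- the stabilizer of the chief factors inside `A₀` is a `p`-group if `C_X(A₀)` is -/
theorem stabOf_isPGroup (A₀ : Subgroup X) [hA₀n : A₀.Normal] (hA₀ : IsPGroup p A₀)
    (hCA : Subgroup.centralizer (A₀ : Set X) ≤ A₀) : IsPGroup p (stabOf A₀) := by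
  rintro ⟨y, hy⟩
  obtain ⟨j, hj⟩ := exists_pow_mem_centralizer A₀ hA₀ hy
  obtain ⟨k, hk⟩ := hA₀ ⟨y ^ p ^ j, hCA hj⟩
  refine ⟨j + k, Subtype.ext ?_⟩
  have hk' : (y ^ p ^ j) ^ p ^ k = 1 := congrArg Subtype.val hk
  show y ^ p ^ (j + k) = 1
  rw [pow_add, pow_mul]
  exact hk'

/-- an element outside `O_p(X)` acts nontrivially on some chief factor inside `A₀` (if `C_X(A₀) ≤ A₀`) -/
theorem exists_chief_nontrivial (A₀ : Subgroup X) [hA₀n : A₀.Normal] (hA₀ : IsPGroup p A₀)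
    (hCA : Subgroup.centralizer (A₀ : Set X) ≤ A₀) {g : X} (hg : g ∉ Cfsg.pCore p X) :
    ∃ U V : Subgroup X, Cfsg.IsChiefFactor U V ∧ U ≤ A₀ ∧ ¬ ⁅U, Subgroup.zpowers g⁆ ≤ V := by
  by_contra hcon
  push_neg at hcon
  apply hg
  have hle : stabOf A₀ ≤ Cfsg.pCore p X :=
    Cfsg.Agent.Lib.Helper1_Cores.le_pCore inferInstance (stabOf_isPGroup A₀ hA₀ hCA)
  apply hle
  intro U V hch hU u hu
  exact hcon U V hch hU (Subgroup.commutator_mem_commutator hu (Subgroup.mem_zpowers g))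

end Stab

section Series

variable {X : Type u} [Group X] [Finite X]

/-- the series `1 ≤ A₁ ≤ A` for a subgroup `B` with the lower-star property -/
theorem exists_series {A B : Subgroup X} [hAn : A.Normal]
    (hA2 : ⁅A, A⁆ ≤ Subgroup.centralizer (A : Set X))
    (hB2 : ⁅⁅B, B⁆, B⁆ = ⊥) (hAB : ⁅A, B⁆ ≤ B)
    (hL : ∀ A' : Subgroup X, A' ≤ A → ⁅B, A'⁆ ≤ A' → ⁅B, ⁅A', A'⁆⁆ = ⊥ → ⁅⁅ZZ B, A'⁆, A'⁆ = ⊥ →
      ⁅B, A'⁆ ≤ ZZ B)
    (hZq : ∀ A' : Subgroup X, A' ≤ A → ⁅⁅ZZ B, A'⁆, A'⁆ = ⊥) :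
    ∃ A₁ : Subgroup X, A₁ ≤ A ∧
      B ⊔ Subgroup.centralizer ((⁅A, A⁆ : Subgroup X) : Set X) ≤ Subgroup.normalizer (A₁ : Set X) ∧
      ⁅⁅A₁, B⁆, B⁆ = ⊥ ∧ ⁅⁅A, B⁆, B⁆ ≤ A₁ := by
  set D := ⁅A, A⁆ with hD
  have hDA : D ≤ A := Subgroup.commutator_le_right A A
  have hDZ : D ≤ ZZ A := le_inf hDA hA2
  set C := Subgroup.centralizer (D : Set X) with hC
  set D₀ := D ⊓ Subgroup.centralizer (B : Set X) with hD₀
  have hD₀Z : D₀ ≤ ZZ A := inf_le_left.trans hDZ
  set A₁ := radOf A D₀ hD₀Z with hA₁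
  have hA₁A : A₁ ≤ A := radOf_le hD₀Z
  have hBA₁ : B ≤ Subgroup.normalizer (A₁ : Set X) := by
    rw [Subgroup.le_normalizer_iff]
    intro b hb a ha
    apply conj_mem_radOf hD₀Z _ ha
    intro d hd
    have h1 : d ∈ Subgroup.centralizer (B : Set X) := hd.2
    have h2 := Subgroup.mem_centralizer_iff.mp h1 b hb
    rw [h2, mul_inv_cancel_right]
  have hCA₁ : C ≤ Subgroup.normalizer (A₁ : Set X) := by
    rw [Subgroup.le_normalizer_iff]
    intro c hc a ha
    apply conj_mem_radOf hD₀Z _ ha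
    intro d hd
    have h2 := Subgroup.mem_centralizer_iff.mp hc d hd.1
    rw [← h2, mul_inv_cancel_right]
  have hcommA₁ : ⁅B, ⁅A₁, A₁⁆⁆ = ⊥ := by
    rw [Subgroup.commutator_comm, Subgroup.commutator_eq_bot_iff_le_centralizer]
    exact ((Subgroup.commutator_mono le_rfl hA₁A).trans (comm_radOf_le hD₀Z)).trans inf_le_right
  have hBA₁q : ⁅B, A₁⁆ ≤ ZZ B := hL A₁ hA₁A
    (Subgroup.le_normalizer_iff_commutator_le_right.mp hBA₁) hcommA₁ (hZq _ hA₁A)
  have hq1 : ⁅⁅A₁, B⁆, B⁆ = ⊥ := by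
    rw [eq_bot_iff, ← ZZ_comm_eq_bot B]
    refine Subgroup.commutator_mono ?_ le_rfl
    rw [Subgroup.commutator_comm]
    exact hBA₁q
  have hZBA₁ : ZZ B ⊓ A ≤ A₁ := by
    rintro z ⟨hzB, hzA⟩
    refine ⟨hzA, fun a' ha' => ⟨Subgroup.commutator_mem_commutator hzA ha', ?_⟩⟩
    show ⁅z, a'⁆ ∈ Subgroup.centralizer (B : Set X)
    rw [Subgroup.mem_centralizer_iff]
    intro b hb
    have hzc : z ∈ Subgroup.centralizer (B : Set X) := hzB.2
    have hzb : b * z = z * b := Subgroup.mem_centralizer_iff.mp hzc b hb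
    have hwB : ⁅b, a'⁆ ∈ B := by
      have : ⁅b, a'⁆ ∈ ⁅B, A⁆ := Subgroup.commutator_mem_commutator hb ha'
      rw [Subgroup.commutator_comm] at this
      exact hAB this
    have hwA : ⁅b, a'⁆ ∈ A := by
      rw [commutatorElement_def]
      exact A.mul_mem (hAn.conj_mem a' ha' b) (A.inv_mem ha')
    have hzw : ⁅b, a'⁆ * z = z * ⁅b, a'⁆ := Subgroup.mem_centralizer_iff.mp hzc _ hwB
    have hdc : ⁅z, a'⁆ ∈ Subgroup.centralizer (A : Set X) :=
      (hDZ (Subgroup.commutator_mem_commutator hzA ha')).2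
    have hwd : ⁅b, a'⁆ * ⁅z, a'⁆ = ⁅z, a'⁆ * ⁅b, a'⁆ := Subgroup.mem_centralizer_iff.mp hdc _ hwA
    have e1 : b * ⁅z, a'⁆ * b⁻¹ = ⁅b * z * b⁻¹, ⁅b, a'⁆ * a'⁆ := by
      simp only [commutatorElement_def]; group
    have e2 : b * z * b⁻¹ = z := by rw [hzb, mul_inv_cancel_right]
    have e3 : ⁅z, ⁅b, a'⁆ * a'⁆ = ⁅z, ⁅b, a'⁆⁆ * (⁅b, a'⁆ * ⁅z, a'⁆ * ⁅b, a'⁆⁻¹) := by
      simp only [commutatorElement_def]; group
    have e4 : ⁅z, ⁅b, a'⁆⁆ = 1 := by
      rw [commutatorElement_eq_one_iff_commute]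
      exact hzw.symm
    have e5 : b * ⁅z, a'⁆ * b⁻¹ = ⁅z, a'⁆ := by
      rw [e1, e2, e3, e4, one_mul, hwd, mul_inv_cancel_right]
    calc b * ⁅z, a'⁆ = (b * ⁅z, a'⁆ * b⁻¹) * b := by group
      _ = ⁅z, a'⁆ * b := by rw [e5]
  have hq2 : ⁅⁅A, B⁆, B⁆ ≤ A₁ := by
    refine le_trans (le_inf ?_ ?_) hZBA₁
    · refine (Subgroup.commutator_mono hAB le_rfl).trans (le_inf B.commutator_le_self ?_)
      exact Subgroup.commutator_eq_bot_iff_le_centralizer.mp hB2
    · have h1 : ⁅A, B⁆ ≤ A := by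
        rw [Subgroup.commutator_comm]; exact Subgroup.commutator_le_right B A
      refine (Subgroup.commutator_mono h1 le_rfl).trans ?_
      rw [Subgroup.commutator_comm]; exact Subgroup.commutator_le_right B A
  exact ⟨A₁, hA₁A, sup_le hBA₁ hCA₁, hq1, hq2⟩

end Series

section Bad

variable {X : Type u} [Group X] [Finite X] {p : ℕ} [Fact p.Prime]

/-- the element `g` witnesses the failure of normality of the K-infinity subgroups -/
def Bad (p : ℕ) (A : Subgroup X) (g : X) : Prop :=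
  g ∉ Cfsg.pCore p X ∧ Cfsg.iterCommutator A (Subgroup.zpowers g) 3 = ⊥ ∧
    ⁅⁅ZZ A, Subgroup.zpowers g⁆, Subgroup.zpowers g⁆ = ⊥ ∧
    (Subgroup.centralizer (A : Set X) ≤ A → ∃ U V : Subgroup X, Cfsg.IsChiefFactor U V ∧ U ≤ A ∧
      ⁅⁅U, Subgroup.zpowers g⁆, Subgroup.zpowers g⁆ ≤ V ∧ ¬ ⁅U, Subgroup.zpowers g⁆ ≤ V)

/-- standing hypotheses (no `p`-stability) -/
structure Amb0 (p : ℕ) (X : Type u) [Group X] (A : Subgroup X) : Prop where
  hAn : A.Normal
  hAp : IsPGroup p A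
  hA2 : ⁅A, A⁆ ≤ Subgroup.centralizer (A : Set X)
  hTA : ⁅Cfsg.pCore p X, A⁆ ≤ ZZ A

variable {A : Subgroup X}

theorem Amb0.bad_of_quadOn (h : Amb0 p X A) {B : Subgroup X} (hB3 : ⁅⁅⁅A, B⁆, B⁆, B⁆ = ⊥)
    (hBZ : ⁅⁅ZZ A, B⁆, B⁆ = ⊥) (hQ : QuadOn ⊤ B A) {g : X} (hgB : g ∈ B)
    (hg : g ∉ Cfsg.pCore p X) : Bad p A g := by
  have hAn := h.hAn
  have hgB' : Subgroup.zpowers g ≤ B := Subgroup.zpowers_le.mpr hgB
  refine ⟨hg, ?_, ?_, ?_⟩
  · rw [eq_bot_iff, ← hB3]
    show ⁅⁅⁅A, Subgroup.zpowers g⁆, Subgroup.zpowers g⁆, Subgroup.zpowers g⁆ ≤ _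
    exact Subgroup.commutator_mono (Subgroup.commutator_mono
      (Subgroup.commutator_mono le_rfl hgB') hgB') hgB'
  · rw [eq_bot_iff, ← hBZ]
    exact Subgroup.commutator_mono (Subgroup.commutator_mono le_rfl hgB') hgB'
  · intro hCA
    obtain ⟨U, V, hch, hUA, hnt⟩ := exists_chief_nontrivial A h.hAp hCA hg
    refine ⟨U, V, hch, hUA, ?_, hnt⟩
    exact (Subgroup.commutator_mono (Subgroup.commutator_mono le_rfl hgB') hgB').trans
      (hQ U V (isChiefIn_top_of_isChiefFactor hch) hUA)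

/-- type 3: `B` quadratic on `A` -/
theorem Amb0.bad3 (h : Amb0 p X A) {B : Subgroup X} (hq : ⁅⁅A, B⁆, B⁆ = ⊥) {g : X} (hgB : g ∈ B)
    (hg : g ∉ Cfsg.pCore p X) : Bad p A g := by
  have hAn := h.hAn
  refine h.bad_of_quadOn (B := B) ?_ ?_ ?_ hgB hg
  · rw [hq, Subgroup.commutator_bot_left]
  · rw [eq_bot_iff, ← hq]
    exact Subgroup.commutator_mono (Subgroup.commutator_mono inf_le_left le_rfl) le_rfl
  · apply quadOn_of_series (A₁ := A) le_top le_top h.hA2
    · rw [Subgroup.normalizer_eq_top]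
    · exact hq
    · rw [hq]; exact bot_le

/-- type 1 -/
theorem Amb0.bad1 (h : Amb0 p X A) {A' : Subgroup X} (hA'2 : ⁅⁅A', A'⁆, A'⁆ = ⊥)
    (hAA' : ⁅A, A'⁆ ≤ A') (hc : ⁅A, ⁅A', A'⁆⁆ = ⊥) (hq : ⁅⁅ZZ A, A'⁆, A'⁆ = ⊥) {g : X}
    (hgB : g ∈ A') (hg : g ∉ Cfsg.pCore p X) : Bad p A g := by
  have hAn := h.hAn
  have hZn : (ZZ A).Normal := (inferInstance : (A ⊓ Subgroup.centralizer (A : Set X)).Normal)
  have h1 : ⁅A, A'⁆ ≤ A := Subgroup.commutator_le_left A A'
  have h2 : ⁅⁅A, A'⁆, A'⁆ ≤ A := (Subgroup.commutator_mono h1 le_rfl).trans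
    (Subgroup.commutator_le_left A A')
  have h3 : ⁅⁅A, A'⁆, A'⁆ ≤ ⁅A', A'⁆ := Subgroup.commutator_mono hAA' le_rfl
  have h4 : ⁅A', A'⁆ ≤ Subgroup.centralizer (A : Set X) := by
    rw [← Subgroup.commutator_eq_bot_iff_le_centralizer, Subgroup.commutator_comm]
    exact hc
  refine h.bad_of_quadOn (B := A') ?_ hq ?_ hgB hg
  · rw [eq_bot_iff, ← hA'2]
    exact Subgroup.commutator_mono h3 le_rfl
  · apply quadOn_of_series (A₁ := ZZ A) le_top le_top h.hA2
    · rw [Subgroup.normalizer_eq_top]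
    · exact hq
    · exact le_inf h2 (h3.trans h4)

/-- type 4 -/
theorem Amb0.bad4 (h : Amb0 p X A) {B : Subgroup X} (hB2 : ⁅⁅B, B⁆, B⁆ = ⊥) (hAB : ⁅A, B⁆ ≤ B)
    (hL : ∀ A' : Subgroup X, A' ≤ A → ⁅B, A'⁆ ≤ A' → ⁅B, ⁅A', A'⁆⁆ = ⊥ → ⁅⁅ZZ B, A'⁆, A'⁆ = ⊥ →
      ⁅B, A'⁆ ≤ ZZ B) (hBR : ¬ B ≤ Cfsg.pCore p X) : ∃ g ∈ B, Bad p A g := by
  have hAn := h.hAn
  have hZAn : (ZZ A).Normal := (inferInstance : (A ⊓ Subgroup.centralizer (A : Set X)).Normal)
  have hB3 : ⁅⁅⁅A, B⁆, B⁆, B⁆ = ⊥ := by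
    rw [eq_bot_iff, ← hB2]
    exact Subgroup.commutator_mono (Subgroup.commutator_mono hAB le_rfl) le_rfl
  -- `B` is quadratic on `Z(A)`
  have hZAq : ⁅B, ZZ A⁆ ≤ ZZ B := hL (ZZ A) inf_le_left (Subgroup.commutator_le_right B (ZZ A))
    (by rw [ZZ_self_comm_eq_bot A, Subgroup.commutator_bot_right])
    (by
      rw [eq_bot_iff, ← ZZ_self_comm_eq_bot A]
      exact Subgroup.commutator_mono (Subgroup.commutator_le_right _ _) le_rfl)
  have hBZ : ⁅⁅ZZ A, B⁆, B⁆ = ⊥ := by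
    rw [eq_bot_iff, ← ZZ_comm_eq_bot B]
    refine Subgroup.commutator_mono ?_ le_rfl
    rw [Subgroup.commutator_comm]
    exact hZAq
  obtain ⟨g₀, hg₀B, hg₀R⟩ := SetLike.not_le_iff_exists.mp hBR
  by_cases hCA : Subgroup.centralizer (A : Set X) ≤ A
  swap
  · -- the last clause is vacuous
    have hg₀B' : Subgroup.zpowers g₀ ≤ B := Subgroup.zpowers_le.mpr hg₀B
    refine ⟨g₀, hg₀B, hg₀R, ?_, ?_, fun hc => absurd hc hCA⟩
    · rw [eq_bot_iff, ← hB3]
      exact Subgroup.commutator_mono (Subgroup.commutator_mono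
        (Subgroup.commutator_mono le_rfl hg₀B') hg₀B') hg₀B'
    · rw [eq_bot_iff, ← hBZ]
      exact Subgroup.commutator_mono (Subgroup.commutator_mono le_rfl hg₀B') hg₀B'
  by_cases hZB : ZZ B ≤ Cfsg.pCore p X
  swap
  · -- `Z(B)` is quadratic on `A`
    obtain ⟨g, hgZ, hgR⟩ := SetLike.not_le_iff_exists.mp hZB
    refine ⟨g, hgZ.1, h.bad3 (B := ZZ B) ?_ hgZ hgR⟩
    rw [eq_bot_iff, ← ZZ_comm_eq_bot B, Subgroup.commutator_comm (ZZ B) B]
    exact Subgroup.commutator_mono ((Subgroup.commutator_mono le_rfl inf_le_left).trans hAB) le_rfl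
  have hZBA : ⁅ZZ B, A⁆ ≤ ZZ A := (Subgroup.commutator_mono hZB le_rfl).trans h.hTA
  have hZq : ∀ A' : Subgroup X, A' ≤ A → ⁅⁅ZZ B, A'⁆, A'⁆ = ⊥ := by
    intro A' hA'
    rw [eq_bot_iff, ← ZZ_comm_eq_bot A]
    exact Subgroup.commutator_mono ((Subgroup.commutator_mono le_rfl hA').trans hZBA) hA'
  set D := ⁅A, A⁆ with hD
  have hDn : D.Normal := Subgroup.commutator_normal A A
  have hDA : D ≤ A := Subgroup.commutator_le_right A A
  have hDZ : D ≤ ZZ A := le_inf hDA h.hA2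
  set C := Subgroup.centralizer (D : Set X) with hC
  have hCn : C.Normal := Subgroup.normal_centralizer
  have hAC : A ≤ C := by
    rw [hC, ← Subgroup.commutator_eq_bot_iff_le_centralizer, Subgroup.commutator_comm]
    exact Subgroup.commutator_eq_bot_iff_le_centralizer.mpr h.hA2
  have hRC : Cfsg.pCore p X ≤ C := by
    rw [hC, ← Subgroup.commutator_eq_bot_iff_le_centralizer, Subgroup.commutator_comm]
    have h1 : ⁅⁅Cfsg.pCore p X, A⁆, A⁆ = ⊥ := by
      rw [eq_bot_iff, ← ZZ_comm_eq_bot A]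
      exact Subgroup.commutator_mono h.hTA le_rfl
    have h2 : ⁅⁅A, Cfsg.pCore p X⁆, A⁆ = ⊥ := by
      rw [Subgroup.commutator_comm A]; exact h1
    exact Subgroup.commutator_commutator_eq_bot_of_rotate h2 h1
  by_cases hBN : B ≤ stabOf D
  swap
  · -- some element of `B` acts nontrivially on a chief factor inside `D ≤ Z(A)`
    obtain ⟨g, hgB, hgN⟩ := SetLike.not_le_iff_exists.mp hBN
    have hgB' : Subgroup.zpowers g ≤ B := Subgroup.zpowers_le.mpr hgB
    have hgR : g ∉ Cfsg.pCore p X := fun hg => hgN ((hRC.trans (centralizer_le_stabOf D)) hg)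
    have hgN' : ¬ ∀ U V : Subgroup X, Cfsg.IsChiefFactor U V → U ≤ D → ∀ u ∈ U, ⁅u, g⁆ ∈ V := hgN
    push_neg at hgN'
    obtain ⟨U, V, hch, hUD, u, hu, huV⟩ := hgN'
    refine ⟨g, hgB, hgR, ?_, ?_, fun _ => ⟨U, V, hch, hUD.trans hDA, ?_, ?_⟩⟩
    · rw [eq_bot_iff, ← hB3]
      exact Subgroup.commutator_mono (Subgroup.commutator_mono
        (Subgroup.commutator_mono le_rfl hgB') hgB') hgB'
    · rw [eq_bot_iff, ← hBZ]
      exact Subgroup.commutator_mono (Subgroup.commutator_mono le_rfl hgB') hgB'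
    · refine le_trans ?_ (bot_le : (⊥ : Subgroup X) ≤ V)
      rw [← hBZ]
      exact Subgroup.commutator_mono (Subgroup.commutator_mono (hUD.trans hDZ) hgB') hgB'
    · intro hle
      exact huV (hle (Subgroup.commutator_mem_commutator hu (Subgroup.mem_zpowers g)))
  -- the main case
  have hGsub : (B ⊔ C).IsSubnormal :=
    isSubnormal_of_between (p := p) (C := C) (L := stabOf D) le_sup_right
      (sup_le hBN (centralizer_le_stabOf D))
      (fun x hx => exists_pow_mem_centralizer D (h.hAp.to_le hDA) hx)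
  obtain ⟨A₁, hA₁A, hGsA₁, hq1, hq2⟩ := exists_series h.hA2 hB2 hAB hL hZq
  have hQ : QuadOn (B ⊔ C) B A :=
    quadOn_of_series le_sup_left (hAC.trans le_sup_right) h.hA2 hGsA₁ hq1 hq2
  have hQtop : QuadOn ⊤ B A :=
    quadOn_top_of_isSubnormal hGsub le_sup_left (hAC.trans le_sup_right) h.hA2 hQ
  exact ⟨g₀, hg₀B, h.bad_of_quadOn hB3 hBZ hQtop hg₀B hg₀R⟩

end Bad

section Main

variable {G : Type u} [Group G] [Finite G] {p : ℕ} [Fact p.Prime]

/-- The key induction inside an ambient group, with subgroup-wise hypotheses (class two kept in `h1`). -/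
theorem inducedFunctor_eq3 (S T A : Subgroup G) (hS : IsPGroup p S) (hTS : T ≤ S) (hAT : A ≤ T)
    (hSA : S ≤ Subgroup.normalizer (A : Set G))
    (hA2 : ⁅A, A⁆ ≤ Subgroup.centralizer (A : Set G))
    (hTA : ⁅T, A⁆ ≤ ZZ A)
    (h1 : ∀ A' : Subgroup G, A' ≤ S → ⁅⁅A', A'⁆, A'⁆ = ⊥ → ⁅A, A'⁆ ≤ A' → ⁅A, ⁅A', A'⁆⁆ = ⊥ →
      ⁅⁅ZZ A, A'⁆, A'⁆ = ⊥ → A' ≤ T)
    (h3 : ∀ B : Subgroup G, B ≤ S → ⁅⁅A, B⁆, B⁆ = ⊥ → B ≤ T)
    (h4 : ∀ B : Subgroup G, B ≤ S → ⁅⁅B, B⁆, B⁆ = ⊥ → ⁅A, B⁆ ≤ B →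
      (∀ A' : Subgroup G, A' ≤ A → ⁅B, A'⁆ ≤ A' → ⁅B, ⁅A', A'⁆⁆ = ⊥ → ⁅⁅ZZ B, A'⁆, A'⁆ = ⊥ →
        ⁅B, A'⁆ ≤ ZZ B) → B ≤ T) :
    Cfsg.inducedFunctor Cfsg.kInfLower S = Cfsg.inducedFunctor Cfsg.kInfLower T ∧
      Cfsg.inducedFunctor Cfsg.kInfUpper S = Cfsg.inducedFunctor Cfsg.kInfUpper T := by
  have hf : Function.Injective S.subtype := S.subtype_injective
  have hAS : A ≤ S := hAT.trans hTS
  have hAmap : (A.subgroupOf S).map S.subtype = A := Subgroup.map_subgroupOf_eq_of_le hAS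
  have hTmap : (T.subgroupOf S).map S.subtype = T := Subgroup.map_subgroupOf_eq_of_le hTS
  have hZmap : (ZZ (A.subgroupOf S)).map S.subtype = ZZ A := by
    rw [Cfsg.Agent.S1979.map_ZZ hf, hAmap]
  have hleS : ∀ B' : Subgroup ↥S, B'.map S.subtype ≤ S := fun B' => Subgroup.map_subtype_le B'
  have toT : ∀ B' : Subgroup ↥S, B'.map S.subtype ≤ T → B' ≤ T.subgroupOf S := by
    intro B' hB'
    rw [← Subgroup.map_le_map_iff_of_injective hf, hTmap]
    exact hB'
  have hsetup : Setup2 (T.subgroupOf S) (A.subgroupOf S) := by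
    refine ⟨?_, ?_, ?_, ?_, ?_, ?_, ?_⟩
    · exact Subgroup.comap_mono hAT
    · exact (Subgroup.normal_subgroupOf_iff_le_normalizer hAS).mpr hSA
    · rw [← Cfsg.Agent.S1979.classTwo_map_iff hf, hAmap]
      exact hA2
    · rw [← Cfsg.Agent.S1979.comm_le_map_iff hf, hZmap, hTmap, hAmap]
      exact hTA
    · intro A' hA'2 hAA' hc hq
      apply toT
      apply h1 _ (hleS A')
      · have := congrArg (Subgroup.map S.subtype) (classTwo_comm_eq_bot hA'2)
        rwa [Subgroup.map_commutator, Subgroup.map_commutator, Subgroup.map_bot] at this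
      · have := (Cfsg.Agent.S1979.comm_le_map_iff hf _ _ _).mpr hAA'
        rwa [hAmap] at this
      · have := congrArg (Subgroup.map S.subtype) hc
        rwa [Subgroup.map_commutator, Subgroup.map_commutator, hAmap, Subgroup.map_bot] at this
      · have := congrArg (Subgroup.map S.subtype) hq
        rwa [Subgroup.map_commutator, Subgroup.map_commutator, hZmap, Subgroup.map_bot] at this
    · intro B hq
      apply toT
      apply h3 _ (hleS B)
      have := congrArg (Subgroup.map S.subtype) hq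
      rwa [Subgroup.map_commutator, Subgroup.map_commutator, hAmap, Subgroup.map_bot] at this
    · intro B hB2 hAB hL
      apply toT
      apply h4 _ (hleS B)
      · have := congrArg (Subgroup.map S.subtype) hB2
        rwa [Subgroup.map_commutator, Subgroup.map_commutator, Subgroup.map_bot] at this
      · have := (Cfsg.Agent.S1979.comm_le_map_iff hf _ _ _).mpr hAB
        rwa [hAmap] at this
      · intro A' hA'A hBA' hc hq
        have hA'S : A' ≤ S := hA'A.trans hAS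
        have hA'map : (A'.subgroupOf S).map S.subtype = A' := Subgroup.map_subgroupOf_eq_of_le hA'S
        have hZB : (ZZ B).map S.subtype = ZZ (B.map S.subtype) := Cfsg.Agent.S1979.map_ZZ hf B
        have key := hL (A'.subgroupOf S) (Subgroup.comap_mono hA'A)
          (by
            rw [← Cfsg.Agent.S1979.comm_le_map_iff hf, hA'map]
            exact hBA')
          (by
            rw [← Subgroup.map_eq_bot_iff_of_injective _ hf, Subgroup.map_commutator,
              Subgroup.map_commutator, hA'map]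
            exact hc)
          (by
            rw [← Subgroup.map_eq_bot_iff_of_injective _ hf, Subgroup.map_commutator,
              Subgroup.map_commutator, hA'map, hZB]
            exact hq)
        have := (Cfsg.Agent.S1979.comm_le_map_iff hf _ _ _).mpr key
        rwa [hA'map, hZB] at this
  have hSP : IsPGroup p ↥S := hS
  have hT' : IsPGroup p ↥(T.subgroupOf S) := hS.to_subgroup _
  obtain ⟨hL, hU⟩ := hsetup.kInf_eq hSP
  constructor
  · have h1 := Cfsg.Agent.Lib.Helper34_NPC.inducedFunctor_map (isCharPFunctor_kInfLower p)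
      S.subtype (T.subgroupOf S) hT' (fun x _ hx => by
        apply hf
        rw [hx, map_one])
    rw [hTmap] at h1
    rw [h1]
    show (Cfsg.kInfLower ↥S).map S.subtype = _
    rw [← hL]
    rfl
  · have h1 := Cfsg.Agent.Lib.Helper34_NPC.inducedFunctor_map (isCharPFunctor_kInfUpper p)
      S.subtype (T.subgroupOf S) hT' (fun x _ hx => by
        apply hf
        rw [hx, map_one])
    rw [hTmap] at h1
    rw [h1]
    show (Cfsg.kInfUpper ↥S).map S.subtype = _
    rw [← hU]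
    rfl


/-- **Glauberman.** If `K_∞(S)` or `K^∞(S)` is not normal in `X`, then for every normal subgroup `A ≤ O_p(X)`
of class at most two with `[O_p(X), A] ≤ Z(A)` some `g ∈ S` outside `O_p(X)` acts cubically on `A`,
quadratically on `Z(A)`, and (if `C_X(A) ≤ A`) quadratically and nontrivially on some chief factor of `X`
inside `A`. -/
theorem exists_bad {X : Type u} [Group X] [Finite X] {p : ℕ} [Fact p.Prime] (S : Sylow p X)
    (A : Subgroup X) (h : Amb0 p X A) (hAR : A ≤ Cfsg.pCore p X)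
    (hnot : ¬ (Cfsg.inducedFunctor Cfsg.kInfLower (S : Subgroup X)).Normal ∨
      ¬ (Cfsg.inducedFunctor Cfsg.kInfUpper (S : Subgroup X)).Normal) :
    ∃ g ∈ (S : Subgroup X), Bad p A g := by
  by_contra hcon
  push_neg at hcon
  have hAn := h.hAn
  set R := Cfsg.pCore p X with hR
  haveI hRn : R.Normal := Cfsg.Agent.Lib.Helper49_CharP.pCoreNormal p X
  have hRp : IsPGroup p ↥R := Cfsg.Agent.Lib.Helper49_CharP.pCore_isPGroup p X
  have hRS : R ≤ (S : Subgroup X) := Cfsg.Agent.Lib.Helper49_CharP.pCore_le_sylow S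
  have key := inducedFunctor_eq3 (p := p) (S : Subgroup X) R A S.isPGroup' hRS hAR
    Subgroup.le_normalizer_of_normal h.hA2 h.hTA
    (by
      intro A' hA'S hA'2 hAA' hc hq
      by_contra hnle
      obtain ⟨g, hgA', hgR⟩ := SetLike.not_le_iff_exists.mp hnle
      exact hcon g (hA'S hgA') (h.bad1 hA'2 hAA' hc hq hgA' hgR))
    (by
      intro B hBS hq
      by_contra hnle
      obtain ⟨g, hgB, hgR⟩ := SetLike.not_le_iff_exists.mp hnle
      exact hcon g (hBS hgB) (h.bad3 hq hgB hgR))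
    (by
      intro B hBS hB2 hAB hL
      by_contra hnle
      obtain ⟨g, hgB, hbad⟩ := h.bad4 hB2 hAB hL hnle
      exact hcon g (hBS hgB) hbad)
  have hnL := Cfsg.Agent.Lib.Helper34_NPC.normalizer_le_normalizer_inducedFunctor
    (isCharPFunctor_kInfLower p) R hRp
  have hnU := Cfsg.Agent.Lib.Helper34_NPC.normalizer_le_normalizer_inducedFunctor
    (isCharPFunctor_kInfUpper p) R hRp
  rw [Subgroup.normalizer_eq_top] at hnL hnU
  rcases hnot with h' | h'
  · apply h'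
    rw [key.1]
    exact Subgroup.normalizer_eq_top_iff.mp (top_le_iff.mp hnL)
  · apply h'
    rw [key.2]
    exact Subgroup.normalizer_eq_top_iff.mp (top_le_iff.mp hnU)

end Main

section Crit

variable {X : Type u} [Group X] [Finite X] {p : ℕ} [Fact p.Prime]

/-- for a critical-type subgroup `A` of `R = O_p(X)`: if `C_X(R) ≤ R` then `C_X(A) ≤ A` -/
theorem centralizer_le_of_critical {A : Subgroup X} [hAn : A.Normal]
    (hRA : ⁅Cfsg.pCore p X, A⁆ ≤ ZZ A)
    (hcent : Cfsg.pCore p X ⊓ Subgroup.centralizer (A : Set X) ≤ ZZ A)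
    (hc : Subgroup.centralizer ((Cfsg.pCore p X : Subgroup X) : Set X) ≤ Cfsg.pCore p X) :
    Subgroup.centralizer (A : Set X) ≤ A := by
  set R := Cfsg.pCore p X with hR
  haveI hRn : R.Normal := Cfsg.Agent.Lib.Helper49_CharP.pCoreNormal p X
  have hRp : IsPGroup p ↥R := Cfsg.Agent.Lib.Helper49_CharP.pCore_isPGroup p X
  set Cx := Subgroup.centralizer (A : Set X) with hCx
  have hCxn : Cx.Normal := Subgroup.normal_centralizer
  have hCxA : ⁅Cx, A⁆ = ⊥ := Subgroup.commutator_eq_bot_iff_le_centralizer.mpr le_rfl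
  have hACx : ⁅A, Cx⁆ = ⊥ := by rw [Subgroup.commutator_comm]; exact hCxA
  have h1 : ⁅⁅R, A⁆, Cx⁆ = ⊥ := by
    rw [eq_bot_iff, ← hACx]
    exact Subgroup.commutator_mono (hRA.trans inf_le_left) le_rfl
  have h2 : ⁅⁅A, Cx⁆, R⁆ = ⊥ := by rw [hACx, Subgroup.commutator_bot_left]
  have h3 : ⁅⁅Cx, R⁆, A⁆ = ⊥ := Subgroup.commutator_commutator_eq_bot_of_rotate h1 h2
  have h4 : ⁅Cx, R⁆ ≤ ZZ A :=
    (le_inf (Subgroup.commutator_le_right Cx R)
      (Subgroup.commutator_eq_bot_iff_le_centralizer.mp h3)).trans hcent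
  -- `Cx` is a `p`-group
  have hCxp : IsPGroup p Cx := by
    rintro ⟨x, hx⟩
    obtain ⟨a, m, hm, hxm⟩ := Nat.exists_eq_pow_mul_and_not_dvd (orderOf_pos x).ne' p
      (Nat.Prime.ne_one Fact.out)
    have hcop : m.Coprime p := (Nat.Coprime.symm ((Nat.Prime.coprime_iff_not_dvd Fact.out).mpr hm))
    set y := x ^ p ^ a with hy
    have hyCx : y ∈ Cx := Cx.pow_mem hx _
    have hym : y ^ m = 1 := by
      rw [hy, ← pow_mul, ← hxm]
      exact pow_orderOf_eq_one x
    have hq : ∀ v ∈ R, y * ⁅y, v⁆ = ⁅y, v⁆ * y := by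
      intro v hv
      have hd : ⁅y, v⁆ ∈ A := (h4 (Subgroup.commutator_mem_commutator hyCx hv)).1
      exact (Subgroup.mem_centralizer_iff.mp hyCx _ hd).symm
    have hyR : y ∈ Subgroup.centralizer (R : Set X) :=
      Cfsg.Agent.Lib.Helper34_PStable.centralizes_of_coprime_quadratic hRp hcop hym hq
    obtain ⟨k, hk⟩ := hRp ⟨y, hc hyR⟩
    have hk' : y ^ p ^ k = 1 := congrArg Subtype.val hk
    have hy1 : y = 1 := by
      have h5 : y ^ Nat.gcd m (p ^ k) = 1 := pow_gcd_eq_one.mpr ⟨hym, hk'⟩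
      have h6 : Nat.gcd m (p ^ k) = 1 := Nat.Coprime.pow_right k hcop
      rwa [h6, pow_one] at h5
    refine ⟨a, Subtype.ext ?_⟩
    show x ^ p ^ a = 1
    rw [← hy]; exact hy1
  have h6 : Cx ≤ R := Cfsg.Agent.Lib.Helper1_Cores.le_pCore hCxn hCxp
  exact (le_inf h6 le_rfl).trans (hcent.trans inf_le_left)

end Crit

end Cfsg.Agent.Lib.Helper33_KInfChief
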