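import Mathlib
import Cfsg.Agent.Lib.Helper33_KInfChief
import Cfsg.Agent.Lib.Helper54_KInfEngel
import Cfsg.Agent.Lib.Helper10_ConjAction

set_option autoImplicit false
open Cfsg

/-!
# K-infinity subgroups: degree four and non-`p`-stable quotients (Glauberman)

* `centralizes_minimal_normal`: a normal subgroup `L ≥ C(U)` with `L / C(U)` a `p`-group centralizes the minimal
  normal `p`-subgroup `U`.
* `not_stable_of_quadratic_chief`: a quadratic nontrivial action on a `p`-chief factor `U / V` makes `G / V`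
  not `p`-stable (normalizer form).
* `exists_quartic`: the element of degree four.
-/

namespace Cfsg.Agent.Lib.Helper33_KInfUnstable

open Cfsg.Agent.Lib.Helper54_KInf Cfsg.Agent.Lib.Helper33_KInfStable
  Cfsg.Agent.Lib.Helper33_KInfChief
open scoped commutatorElement

universe u

section Irr

variable {Y : Type*} [Group Y] [Finite Y] {p : ℕ} [Fact p.Prime]

/-- a normal subgroup `Lb ≥ C_Y(Ub)` with `Lb / C_Y(Ub)` a `p`-group centralizes the minimal normal
`p`-subgroup `Ub` -/
theorem centralizes_minimal_normal (Ub : Subgroup Y) [hUn : Ub.Normal] (hUp : IsPGroup p Ub)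
    (hUne : Ub ≠ ⊥)
    (hmin : ∀ N : Subgroup Y, N.Normal → N ≤ Ub → N = ⊥ ∨ N = Ub) (Lb : Subgroup Y) [hLn : Lb.Normal]
    (hCL : Subgroup.centralizer (Ub : Set Y) ≤ Lb) (k : ℕ)
    (hk : (Subgroup.centralizer (Ub : Set Y)).relIndex Lb = p ^ k) :
    Lb ≤ Subgroup.centralizer (Ub : Set Y) := by
  classical
  set Cb := Subgroup.centralizer (Ub : Set Y) with hCb
  obtain ⟨T⟩ : Nonempty (Sylow p ↥Lb) := inferInstance
  set Tb : Subgroup Y := (T : Subgroup ↥Lb).map Lb.subtype with hTb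
  have hTbL : Tb ≤ Lb := Subgroup.map_subtype_le _
  have hTbp : IsPGroup p Tb := T.isPGroup'.map _
  -- factorization `Lb = Cb Tb`
  have hfac : Lb ≤ Cb ⊔ Tb := by
    have h1 : (Cb ⊔ Tb).relIndex Lb ∣ Cb.relIndex Lb := Subgroup.relIndex_dvd_of_le_left Lb le_sup_left
    have h2 : (Cb ⊔ Tb).relIndex Lb ∣ Tb.relIndex Lb := Subgroup.relIndex_dvd_of_le_left Lb le_sup_right
    have h3 : Tb.relIndex Lb = (T : Subgroup ↥Lb).index := by
      unfold Subgroup.relIndex
      congr 1
      rw [hTb]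
      exact Subgroup.comap_map_eq_self_of_injective Lb.subtype_injective _
    have h4 : ¬ p ∣ (T : Subgroup ↥Lb).index := T.not_dvd_index
    have h5 : (Cb ⊔ Tb).relIndex Lb = 1 := by
      rw [hk] at h1
      obtain ⟨j, -, hj⟩ := (Nat.dvd_prime_pow Fact.out).mp h1
      rcases Nat.eq_zero_or_pos j with h0 | hpos
      · rw [hj, h0, pow_zero]
      · exfalso
        apply h4
        rw [← h3]
        exact dvd_trans (hj ▸ dvd_pow_self p hpos.ne') h2
    exact Subgroup.relIndex_eq_one.mp h5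
  -- fixed points of `Tb` on `Ub`
  have hTbU : Tb ≤ Subgroup.normalizer (Ub : Set Y) := by
    rw [Subgroup.normalizer_eq_top]; exact le_top
  have hmod := Cfsg.Agent.Lib.Helper10_ConjAction.card_modEq_card_centralizer Tb Ub hTbp hTbU
  obtain ⟨n, hn⟩ := IsPGroup.iff_card.mp hUp
  have hn0 : n ≠ 0 := by
    intro h0
    rw [h0, pow_zero] at hn
    exact hUne (Subgroup.card_eq_one.mp hn)
  have hdvd : p ∣ Nat.card (Ub ⊓ Subgroup.centralizer (Tb : Set Y) : Subgroup Y) := by
    have h1 : p ∣ Nat.card Ub := by rw [hn]; exact dvd_pow_self p hn0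
    exact (Nat.modEq_zero_iff_dvd.mp ((hmod.symm.trans (Nat.modEq_zero_iff_dvd.mpr h1))))
  have hFne : Ub ⊓ Subgroup.centralizer (Tb : Set Y) ≠ ⊥ := by
    intro h0
    rw [h0, Subgroup.card_bot] at hdvd
    exact (Nat.Prime.one_lt Fact.out).ne' (Nat.dvd_one.mp hdvd)
  -- these fixed points are fixed by `Lb`
  set F := Ub ⊓ Subgroup.centralizer (Lb : Set Y) with hF
  have hFn : F.Normal := by
    haveI : (Subgroup.centralizer (Lb : Set Y)).Normal := Subgroup.normal_centralizer
    infer_instance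
  have hsub : Ub ⊓ Subgroup.centralizer (Tb : Set Y) ≤ F := by
    rintro u ⟨huU, huT⟩
    refine ⟨huU, ?_⟩
    have h1 : Cb ⊔ Tb ≤ Subgroup.centralizer ((Subgroup.zpowers u : Subgroup Y) : Set Y) := by
      apply sup_le
      · intro c hc
        rw [Subgroup.mem_centralizer_iff]
        intro z hz
        obtain ⟨m, rfl⟩ := Subgroup.mem_zpowers_iff.mp hz
        have hcu : u * c = c * u := Subgroup.mem_centralizer_iff.mp hc u huU
        exact ((Commute.zpow_left hcu m)).eq
      · intro t ht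
        rw [Subgroup.mem_centralizer_iff]
        intro z hz
        obtain ⟨m, rfl⟩ := Subgroup.mem_zpowers_iff.mp hz
        have htu : t * u = u * t := Subgroup.mem_centralizer_iff.mp huT t ht
        exact ((Commute.zpow_left (show Commute u t from htu.symm) m)).eq
    show u ∈ Subgroup.centralizer (Lb : Set Y)
    rw [Subgroup.mem_centralizer_iff]
    intro l hl
    have := Subgroup.mem_centralizer_iff.mp (h1 (hfac hl)) u (Subgroup.mem_zpowers u)
    exact this.symm
  have hFne' : F ≠ ⊥ := fun h0 => hFne (le_bot_iff.mp (h0 ▸ hsub))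
  rcases hmin F hFn inf_le_left with h0 | h0
  · exact absurd h0 hFne'
  · intro l hl
    rw [Subgroup.mem_centralizer_iff]
    intro u hu
    have huF : u ∈ F := by rw [h0]; exact hu
    exact (Subgroup.mem_centralizer_iff.mp huF.2 l hl).symm

end Irr

section Unstable

variable {G : Type u} [Group G] [Finite G] {p : ℕ} [Fact p.Prime]

/-- a `p`-chief factor `U / V` on which some element acts quadratically and nontrivially: `G / V` is not
`p`-stable in the normalizer form -/
theorem not_stable_of_quadratic_chief {U V : Subgroup G} (hch : Cfsg.IsChiefFactor U V)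
    (hUp : IsPGroup p U) {g : G}
    (hq : ⁅⁅U, Subgroup.zpowers g⁆, Subgroup.zpowers g⁆ ≤ V) (hnt : ¬ ⁅U, Subgroup.zpowers g⁆ ≤ V) :
    ∃ (N : Subgroup G) (_ : N.Normal), ¬ Cfsg.IsNormalizerPStable p (G ⧸ N) := by
  obtain ⟨hlt, hUn, hVn, hmax⟩ := hch
  refine ⟨V, hVn, fun hst => hnt ?_⟩
  set π := QuotientGroup.mk' V with hπ
  have hπs : Function.Surjective π := QuotientGroup.mk'_surjective V
  have hker : π.ker = V := QuotientGroup.ker_mk' V
  set Ub : Subgroup (G ⧸ V) := U.map π with hUb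
  haveI hUbn : Ub.Normal := Subgroup.Normal.map hUn π hπs
  have hUbp : IsPGroup p Ub := hUp.map π
  have hUbne : Ub ≠ ⊥ := by
    intro h0
    rw [hUb, Subgroup.map_eq_bot_iff, hker] at h0
    exact absurd h0 (not_le_of_gt hlt)
  have hmin : ∀ N : Subgroup (G ⧸ V), N.Normal → N ≤ Ub → N = ⊥ ∨ N = Ub := by
    intro N hNn hNU
    have h1 : (N.comap π).Normal := Subgroup.Normal.comap hNn π
    have h2 : V ≤ N.comap π := (le_of_eq hker.symm).trans (Subgroup.ker_le_comap π N)
    have h3 : N.comap π ≤ U := by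
      intro x hx
      have hx' : π x ∈ Ub := hNU hx
      obtain ⟨u, hu, hux⟩ := hx'
      have h4 : u⁻¹ * x ∈ V := by
        have : u⁻¹ * x ∈ π.ker := by
          rw [MonoidHom.mem_ker, map_mul, map_inv, hux, inv_mul_cancel]
        rwa [hker] at this
      have : x = u * (u⁻¹ * x) := by group
      rw [this]
      exact U.mul_mem hu (hlt.le h4)
    have h5 : N = (N.comap π).map π := (Subgroup.map_comap_eq_self_of_surjective hπs N).symm
    rcases hmax _ h1 h2 h3 with h6 | h6
    · left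
      rw [h5, h6, Subgroup.map_eq_bot_iff, hker]
    · right
      rw [h5, h6]
  obtain ⟨Lb, hLbn, hCLb, ⟨k, hk⟩, hLbq⟩ :=
    Cfsg.Agent.Lib.Helper11_ZJ2.stableOn_of_isNormalizerPStable hst ⊤ Ub hUbp
  haveI := hLbn
  have hLC := centralizes_minimal_normal Ub hUbp hUbne hmin Lb hCLb k hk
  have hgL : π g ∈ Lb := by
    apply hLbq _ (Subgroup.mem_top _)
    rw [hUb, ← MonoidHom.map_zpowers, ← Subgroup.map_commutator, ← Subgroup.map_commutator,
      Subgroup.map_eq_bot_iff, hker]
    exact hq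
  rw [Subgroup.commutator_le]
  intro u hu z hz
  have hπz : π z ∈ Lb := by
    obtain ⟨m, rfl⟩ := Subgroup.mem_zpowers_iff.mp hz
    rw [map_zpow]
    exact Lb.zpow_mem hgL m
  have hπu : π u ∈ Ub := Subgroup.mem_map_of_mem π hu
  have hcomm : π ⁅u, z⁆ = 1 := by
    rw [map_commutatorElement, commutatorElement_eq_one_iff_commute]
    exact (Subgroup.mem_centralizer_iff.mp (hLC hπz) _ hπu)
  have : ⁅u, z⁆ ∈ π.ker := hcomm
  rwa [hker] at this

end Unstable

section Final

variable {G : Type u} [Group G] [Finite G] {p : ℕ} [Fact p.Prime]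

/-- a critical subgroup of `O_p(G)`, as a normal subgroup of `G` -/
theorem exists_critical (p : ℕ) [Fact p.Prime] (G : Type u) [Group G] [Finite G] :
    ∃ A : Subgroup G, A.Normal ∧ A ≤ Cfsg.pCore p G ∧
      ⁅A, A⁆ ≤ Subgroup.centralizer (A : Set G) ∧ ⁅Cfsg.pCore p G, A⁆ ≤ ZZ A ∧
      Cfsg.pCore p G ⊓ Subgroup.centralizer (A : Set G) ≤ ZZ A := by
  classical
  set R := Cfsg.pCore p G with hR
  haveI hRn : R.Normal := Cfsg.Agent.Lib.Helper49_CharP.pCoreNormal p G
  have hRp : IsPGroup p ↥R := Cfsg.Agent.Lib.Helper49_CharP.pCore_isPGroup p G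
  have hf : Function.Injective R.subtype := R.subtype_injective
  obtain ⟨M, C, hMC, -, -, hCinv, hCM, hcomm, -, hcentC⟩ :=
    Cfsg.Agent.Lib.Helper33_Critical.exists_critical_pair hRp (⊤ : Subgroup (MulAut ↥R)) le_top
      (⊤ : Subgroup ↥R) (fun _ _ _ _ => Subgroup.mem_top _)
  set A := C.map R.subtype with hA
  have hAn : A.Normal := by
    constructor
    intro a ha l
    obtain ⟨c, hc, rfl⟩ := ha
    refine ⟨MulAut.conjNormal l c, hCinv _ (Subgroup.mem_top _) c hc, ?_⟩
    simp [MulAut.conjNormal_apply]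
  have hAR : A ≤ R := by
    rintro _ ⟨c, -, rfl⟩
    exact c.2
  have hMZ : M.map R.subtype ≤ ZZ A := by
    have h1 : M ≤ ZZ C := le_inf hMC (Subgroup.le_centralizer_iff.mp hCM)
    have h2 := Subgroup.map_mono (f := R.subtype) h1
    rwa [Cfsg.Agent.S1979.map_ZZ hf] at h2
  have hRA : ⁅R, A⁆ ≤ ZZ A := by
    have h1 : (⊤ : Subgroup ↥R).map R.subtype = R := by
      rw [← MonoidHom.range_eq_map, Subgroup.range_subtype]
    have h2 : ⁅(⊤ : Subgroup ↥R), C⁆ ≤ M := by
      rw [Subgroup.commutator_comm, Subgroup.commutator_le]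
      intro c hc x _
      exact hcomm c hc x
    have h3 := Subgroup.map_mono (f := R.subtype) h2
    rw [Subgroup.map_commutator, h1] at h3
    exact h3.trans hMZ
  have hcent : R ⊓ Subgroup.centralizer (A : Set G) ≤ ZZ A := by
    intro x hx
    have hxc : (⟨x, hx.1⟩ : ↥R) ∈ Subgroup.centralizer (C : Set ↥R) := by
      rw [Subgroup.mem_centralizer_iff]
      intro c hc
      apply Subtype.ext
      have hx2 : x ∈ Subgroup.centralizer (A : Set G) := hx.2
      exact Subgroup.mem_centralizer_iff.mp hx2 (c : G) ⟨c, hc, rfl⟩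
    have hxM : (⟨x, hx.1⟩ : ↥R) ∈ M := hcentC ⟨Subgroup.mem_top _, hxc⟩
    exact hMZ ⟨⟨x, hx.1⟩, hxM, rfl⟩
  have hA2 : ⁅A, A⁆ ≤ Subgroup.centralizer (A : Set G) :=
    ((Subgroup.commutator_mono hAR le_rfl).trans hRA).trans inf_le_right
  exact ⟨A, hAn, hAR, hA2, hRA, hcent⟩

/-- **Glauberman.** If `K_∞(S)` or `K^∞(S)` is not normal in `G`, some `g ∈ S` outside `O_p(G)` has
degree at most four on every chief factor inside `O_p(G)`, is quadratic on `Z(O_p(G))`, and, if
`C_G(O_p(G)) ≤ O_p(G)`, some quotient of `G` is not `p`-stable. -/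
theorem exists_quartic (S : Sylow p G)
    (hK : ¬ (Cfsg.inducedFunctor Cfsg.kInfLower (S : Subgroup G)).Normal ∨
      ¬ (Cfsg.inducedFunctor Cfsg.kInfUpper (S : Subgroup G)).Normal) :
    ∃ g : G, g ∈ (S : Subgroup G) ∧ g ∉ Cfsg.pCore p G ∧
      (∀ U V : Subgroup G, Cfsg.IsChiefFactor U V → U ≤ Cfsg.pCore p G →
        Cfsg.iterCommutator U (Subgroup.zpowers g) 4 ≤ V) ∧
      ⁅⁅Cfsg.pCore p G ⊓ Subgroup.centralizer ((Cfsg.pCore p G : Subgroup G) : Set G),
        Subgroup.zpowers g⁆, Subgroup.zpowers g⁆ = ⊥ ∧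
      (Subgroup.centralizer ((Cfsg.pCore p G : Subgroup G) : Set G) ≤ Cfsg.pCore p G →
        ∃ (N : Subgroup G) (_ : N.Normal), ¬ Cfsg.IsNormalizerPStable p (G ⧸ N)) := by
  classical
  obtain ⟨A, hAn, hAR, hA2, hRA, hcent⟩ := exists_critical p G
  set R := Cfsg.pCore p G with hR
  haveI hRn : R.Normal := Cfsg.Agent.Lib.Helper49_CharP.pCoreNormal p G
  have hRp : IsPGroup p ↥R := Cfsg.Agent.Lib.Helper49_CharP.pCore_isPGroup p G
  haveI := hAn
  have hamb : Amb0 p G A := ⟨hAn, hRp.to_le hAR, hA2, hRA⟩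
  obtain ⟨g, hgS, hgR, h3, h2, hch⟩ := exists_bad S A hamb hAR hK
  have hnil : ∃ m, Cfsg.iterCommutator (ZZ A) R m = ⊥ := by
    haveI : Group.IsNilpotent ↥R := hRp.isNilpotent
    obtain ⟨n, hn⟩ := (Subgroup.isNilpotent_iff_lowerCentralSeries R).mp inferInstance
    refine ⟨n, le_bot_iff.mp ?_⟩
    rw [← hn]
    exact Cfsg.Agent.Lib.Helper54_KInfEngel.iter_le_lcs (inf_le_left.trans hAR) n
  refine ⟨g, hgS, hgR, ?_, ?_, ?_⟩
  · exact Cfsg.Agent.Lib.Helper54_KInfEngel.good_four R A hRA hcent hnil (Subgroup.zpowers g) h3 h2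
  · rw [eq_bot_iff, ← h2]
    have hZ : R ⊓ Subgroup.centralizer (R : Set G) ≤ ZZ A :=
      (inf_le_inf_left R (Subgroup.centralizer_le hAR)).trans hcent
    exact Subgroup.commutator_mono (Subgroup.commutator_mono hZ le_rfl) le_rfl
  · intro hc
    obtain ⟨U, V, hUV, hUA, hq, hnt⟩ := hch (centralizer_le_of_critical hRA hcent hc)
    exact not_stable_of_quadratic_chief hUV (hRp.to_le (hUA.trans hAR)) hq hnt

end Final

end Cfsg.Agent.Lib.Helper33_KInfUnstable
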