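import Mathlib

set_option autoImplicit false

namespace Cfsg.Agent.Lib.Helper33_MinDegA1

open Equiv Equiv.Perm

variable {Ω : Type*} [DecidableEq Ω]

theorem pais (f : Perm Ω) (x : Ω) : f (f⁻¹ x) = x := f.apply_symm_apply x

/-- If the supports of two permutations meet in exactly one point, their commutator is a 3-cycle. -/
theorem isThreeCycle_commutator [Fintype Ω] (σ τ : Perm Ω) (ω : Ω) (hσ : σ ω ≠ ω) (hτ : τ ω ≠ ω)
    (h : ∀ p, σ p ≠ p → τ p ≠ p → p = ω) : (σ * τ * σ⁻¹ * τ⁻¹).IsThreeCycle := by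
  have ha : ∀ p, σ p ≠ p → p ≠ ω → τ p = p := fun p h1 h2 => by
    by_contra h3; exact h2 (h p h1 h3)
  have hb : ∀ p, τ p ≠ p → p ≠ ω → σ p = p := fun p h1 h2 => by
    by_contra h3; exact h2 (h p h3 h1)
  have hσi : ∀ p, σ p = p → σ⁻¹ p = p := fun p hp => by rw [inv_eq_iff_eq, hp]
  have hτi : ∀ p, τ p = p → τ⁻¹ p = p := fun p hp => by rw [inv_eq_iff_eq, hp]
  have hσm : ∀ p, σ p ≠ p → σ (σ p) ≠ σ p := fun p hp e => hp (σ.injective e)
  have hτm : ∀ p, τ p ≠ p → τ (τ p) ≠ τ p := fun p hp e => hp (τ.injective e)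
  have hσm' : ∀ p, σ p ≠ p → σ (σ⁻¹ p) ≠ σ⁻¹ p := fun p hp e => by
    rw [pais] at e; exact hp ((congrArg σ e).trans (pais σ p))
  have hτm' : ∀ p, τ p ≠ p → τ (τ⁻¹ p) ≠ τ⁻¹ p := fun p hp e => by
    rw [pais] at e; exact hp ((congrArg τ e).trans (pais τ p))
  set A := σ ω with hA
  set B := τ ω with hB
  have hτA : τ A = A := ha A (hσm ω hσ) hσ
  have hσB : σ B = B := hb B (hτm ω hτ) hτ
  have hAB : A ≠ B := fun e => by
    have := hτm ω hτ
    rw [← hB, ← e] at this
    exact this hτA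
  -- pointwise description
  have key : σ * τ * σ⁻¹ * τ⁻¹ = swap A ω * swap A B := by
    ext p
    simp only [Perm.mul_apply]
    by_cases h1 : p = ω
    · -- c ω = A
      subst h1
      have hq : τ⁻¹ p ≠ p := fun e => hτ (by rw [inv_eq_iff_eq] at e; exact e.symm)
      have hq2 : σ (τ⁻¹ p) = τ⁻¹ p := hb _ (hτm' p hτ) hq
      rw [hσi _ hq2, pais]
      rw [swap_apply_of_ne_of_ne (fun e => hσ e.symm) (fun e => hτ e.symm), swap_apply_right]
    · by_cases h2 : p = A
      · -- c A = B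
        rw [h2, hτi A hτA]
        have : σ⁻¹ A = ω := by rw [inv_eq_iff_eq]
        rw [this, ← hB, hσB, swap_apply_left, swap_apply_of_ne_of_ne hAB.symm (fun e => hτ e)]
      · by_cases h3 : p = B
        · -- c B = ω
          rw [h3]
          have e1 : τ⁻¹ B = ω := by rw [inv_eq_iff_eq]
          rw [e1]
          have hr : σ⁻¹ ω ≠ ω := fun e => hσ (by rw [inv_eq_iff_eq] at e; exact e.symm)
          have hr2 : τ (σ⁻¹ ω) = σ⁻¹ ω := ha _ (hσm' ω hσ) hr
          rw [hr2, pais, swap_apply_right, swap_apply_left]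
        · -- other points are fixed
          rw [swap_apply_of_ne_of_ne h2 h3, swap_apply_of_ne_of_ne h2 h1]
          by_cases h4 : τ p = p
          · rw [hτi p h4]
            by_cases h5 : σ p = p
            · rw [hσi p h5, h4, h5]
            · have h6 : σ⁻¹ p ≠ ω := fun e => h2 (by rw [inv_eq_iff_eq] at e; exact e)
              rw [ha _ (hσm' p h5) h6, pais]
          · have h5 : σ p = p := hb p h4 h1
            have h6 : τ⁻¹ p ≠ ω := fun e => h3 (by rw [inv_eq_iff_eq] at e; exact e)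
            have h7 : σ (τ⁻¹ p) = τ⁻¹ p := hb _ (hτm' p h4) h6
            rw [hσi _ h7, pais, h5]
  rw [key]
  exact isThreeCycle_swap_mul_swap_same hσ (hAB) (fun e => hτ e.symm)

end Cfsg.Agent.Lib.Helper33_MinDegA1
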