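import Mathlib

set_option autoImplicit false

namespace Cfsg.Agent.Lib.Helper33_MinDegA2

open Finset

/-- all fibres of a map `φ : G → T` which is "homogeneous" under left translation have the same
size -/
theorem fiber_card {G T : Type*} [Group G] [Fintype G] [DecidableEq T] (φ : G → T) (𝒯 : Finset T)
    (h1 : ∀ g, φ g ∈ 𝒯)
    (h2 : ∀ t ∈ 𝒯, ∀ t' ∈ 𝒯, ∃ h : G, ∀ g, φ g = t → φ (h * g) = t') :
    ∀ t ∈ 𝒯, (univ.filter (fun g => φ g = t)).card * 𝒯.card = Fintype.card G := by
  have hle : ∀ t ∈ 𝒯, ∀ t' ∈ 𝒯,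
      (univ.filter (fun g => φ g = t)).card ≤ (univ.filter (fun g => φ g = t')).card := by
    intro t ht t' ht'
    obtain ⟨h, hh⟩ := h2 t ht t' ht'
    apply Finset.card_le_card_of_injOn (fun g => h * g)
    · intro g hg
      simp only [coe_filter, mem_univ, true_and, Set.mem_ofPred_eq] at hg ⊢
      exact hh g hg
    · intro a _ b _ hab
      exact mul_left_cancel hab
  have heq : ∀ t ∈ 𝒯, ∀ t' ∈ 𝒯,
      (univ.filter (fun g => φ g = t')).card = (univ.filter (fun g => φ g = t)).card :=
    fun t ht t' ht' => le_antisymm (hle t' ht' t ht) (hle t ht t' ht')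
  intro t ht
  have hsum : (univ : Finset G).card = ∑ t' ∈ 𝒯, (univ.filter (fun g => φ g = t')).card :=
    Finset.card_eq_sum_card_fiberwise (fun g _ => h1 g)
  rw [Finset.sum_congr rfl (fun t' ht' => heq t ht t' ht'), Finset.sum_const, smul_eq_mul,
    Finset.card_univ] at hsum
  rw [hsum, mul_comm]

variable {G Ω : Type*} [Group G] [Fintype G] [MulAction G Ω] [Fintype Ω] [DecidableEq Ω]

/-- number of group elements mapping `a` to `c` -/
theorem card_smul_eq [MulAction.IsPretransitive G Ω] (a c : Ω) :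
    (univ.filter (fun g : G => g • a = c)).card * Fintype.card Ω = Fintype.card G := by
  have := fiber_card (fun g : G => g • a) (univ : Finset Ω) (fun _ => mem_univ _)
    (fun t _ t' _ => by
      obtain ⟨h, hh⟩ := MulAction.exists_smul_eq G t t'
      exact ⟨h, fun g hg => by rw [mul_smul, hg, hh]⟩) c (mem_univ _)
  rwa [Finset.card_univ] at this

/-- first moment -/
theorem first_moment [MulAction.IsPretransitive G Ω] (Γ : Finset Ω) :
    (∑ g : G, (Γ.filter (fun a => g • a ∈ Γ)).card) * Fintype.card Ω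
      = Γ.card * Γ.card * Fintype.card G := by
  have h1 : ∀ g : G, (Γ.filter (fun a => g • a ∈ Γ)).card
      = ∑ a ∈ Γ, ∑ c ∈ Γ, (if g • a = c then 1 else 0) := by
    intro g
    rw [Finset.card_filter]
    apply Finset.sum_congr rfl
    intro a _
    rw [Finset.sum_ite_eq Γ (g • a) (fun _ => 1)]
  simp only [h1]
  rw [Finset.sum_comm]
  have h2 : ∀ a ∈ Γ, ∑ g : G, ∑ c ∈ Γ, (if g • a = c then 1 else 0)
      = ∑ c ∈ Γ, (univ.filter (fun g : G => g • a = c)).card := by
    intro a _
    rw [Finset.sum_comm]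
    apply Finset.sum_congr rfl
    intro c _
    rw [Finset.card_filter]
  rw [Finset.sum_congr rfl h2, Finset.sum_mul]
  have h3 : ∀ a ∈ Γ, (∑ c ∈ Γ, (univ.filter (fun g : G => g • a = c)).card) * Fintype.card Ω
      = Γ.card * Fintype.card G := by
    intro a _
    rw [Finset.sum_mul, Finset.sum_congr rfl (fun c _ => card_smul_eq a c), Finset.sum_const,
      smul_eq_mul]
  rw [Finset.sum_congr rfl h3, Finset.sum_const, smul_eq_mul, mul_assoc]

end Cfsg.Agent.Lib.Helper33_MinDegA2

namespace Cfsg.Agent.Lib.Helper33_MinDegA2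

open Finset

variable {G Ω : Type*} [Group G] [Fintype G] [MulAction G Ω] [Fintype Ω] [DecidableEq Ω]

/-- 2-homogeneity -/
def TwoHom (G Ω : Type*) [Group G] [MulAction G Ω] : Prop :=
  ∀ a b c d : Ω, a ≠ b → c ≠ d → ∃ g : G, (g • a = c ∧ g • b = d) ∨ (g • a = d ∧ g • b = c)

theorem card_pair_eq (h2 : TwoHom G Ω) {a b : Ω} (hab : a ≠ b) (t : Finset Ω) (ht : t.card = 2) :
    (univ.filter (fun g : G => ({g • a, g • b} : Finset Ω) = t)).card * (Fintype.card Ω).choose 2
      = Fintype.card G := by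
  have := fiber_card (fun g : G => ({g • a, g • b} : Finset Ω)) ((univ : Finset Ω).powersetCard 2)
    (fun g => by
      rw [mem_powersetCard]
      exact ⟨subset_univ _, Finset.card_pair (fun e => hab (MulAction.injective g e))⟩)
    (fun t ht t' ht' => by
      rw [mem_powersetCard] at ht ht'
      obtain ⟨c, d, hcd, rfl⟩ := Finset.card_eq_two.1 ht.2
      obtain ⟨c', d', hcd', rfl⟩ := Finset.card_eq_two.1 ht'.2
      obtain ⟨h, hh⟩ := h2 c d c' d' hcd hcd'
      refine ⟨h, fun g hg => ?_⟩
      have : ({(h * g) • a, (h * g) • b} : Finset Ω) = ({g • a, g • b} : Finset Ω).image (fun x => h • x) := by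
        rw [Finset.image_insert, Finset.image_singleton, mul_smul, mul_smul]
      rw [this, hg, Finset.image_insert, Finset.image_singleton]
      rcases hh with ⟨e1, e2⟩ | ⟨e1, e2⟩
      · rw [e1, e2]
      · rw [e1, e2, Finset.pair_comm])
    t (by rw [mem_powersetCard]; exact ⟨subset_univ _, ht⟩)
  rwa [Finset.card_powersetCard, Finset.card_univ] at this

theorem card_both_mem (h2 : TwoHom G Ω) {a b : Ω} (hab : a ≠ b) (Γ : Finset Ω) :
    (univ.filter (fun g : G => g • a ∈ Γ ∧ g • b ∈ Γ)).card * (Fintype.card Ω).choose 2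
      = Γ.card.choose 2 * Fintype.card G := by
  have h1 : (univ.filter (fun g : G => g • a ∈ Γ ∧ g • b ∈ Γ)).card
      = ∑ t ∈ Γ.powersetCard 2,
          ((univ.filter (fun g : G => g • a ∈ Γ ∧ g • b ∈ Γ)).filter
            (fun g => ({g • a, g • b} : Finset Ω) = t)).card := by
    apply Finset.card_eq_sum_card_fiberwise
    intro g hg
    simp only [coe_filter, mem_univ, true_and, Set.mem_ofPred_eq] at hg
    simp only [mem_coe, mem_powersetCard]
    refine ⟨?_, Finset.card_pair (fun e => hab (MulAction.injective g e))⟩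
    intro x hx
    rw [mem_insert, mem_singleton] at hx
    rcases hx with rfl | rfl
    · exact hg.1
    · exact hg.2
  have h3 : ∀ t ∈ Γ.powersetCard 2,
      ((univ.filter (fun g : G => g • a ∈ Γ ∧ g • b ∈ Γ)).filter
            (fun g => ({g • a, g • b} : Finset Ω) = t))
        = univ.filter (fun g : G => ({g • a, g • b} : Finset Ω) = t) := by
    intro t ht
    rw [mem_powersetCard] at ht
    ext g
    simp only [mem_filter, mem_univ, true_and, and_iff_right_iff_imp]
    intro hg
    rw [← hg] at ht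
    exact ⟨ht.1 (mem_insert_self _ _), ht.1 (mem_insert_of_mem (mem_singleton_self _))⟩
  rw [h1, Finset.sum_congr rfl (fun t ht => by rw [h3 t ht]), Finset.sum_mul,
    Finset.sum_congr rfl (fun t ht => card_pair_eq h2 hab t (mem_powersetCard.1 ht).2),
    Finset.sum_const, smul_eq_mul, Finset.card_powersetCard]

/-- second moment -/
theorem second_moment (h2 : TwoHom G Ω) (Γ : Finset Ω) :
    (∑ g : G, ((Γ.filter (fun a => g • a ∈ Γ)).offDiag).card) * (Fintype.card Ω).choose 2
      = Γ.offDiag.card * (Γ.card.choose 2 * Fintype.card G) := by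
  have h1 : ∀ g : G, ((Γ.filter (fun a => g • a ∈ Γ)).offDiag).card
      = ∑ p ∈ Γ.offDiag, (if g • p.1 ∈ Γ ∧ g • p.2 ∈ Γ then 1 else 0) := by
    intro g
    rw [← Finset.card_filter]
    congr 1
    ext ⟨x, y⟩
    simp only [mem_offDiag, mem_filter]
    tauto
  simp only [h1]
  rw [Finset.sum_comm, Finset.sum_mul]
  have h3 : ∀ p ∈ Γ.offDiag, (∑ g : G, (if g • p.1 ∈ Γ ∧ g • p.2 ∈ Γ then 1 else 0))
      * (Fintype.card Ω).choose 2 = Γ.card.choose 2 * Fintype.card G := by
    intro p hp
    rw [← Finset.card_filter]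
    exact card_both_mem h2 (mem_offDiag.1 hp).2.2 Γ
  rw [Finset.sum_congr rfl h3, Finset.sum_const, smul_eq_mul]

theorem two_mul_choose_two (k : ℕ) : 2 * k.choose 2 = k * k - k := by
  induction k with
  | zero => simp
  | succ k ih =>
    rw [Nat.choose_succ_succ', Nat.choose_one_right, mul_add, ih]
    have : k ≤ k * k := Nat.le_mul_self k
    have h2 : (k + 1) * (k + 1) = k * k + 2 * k + 1 := by ring
    omega

theorem arith2 (m n c : ℕ) (hc : 0 < c) (hm : 1 ≤ m) (hn : 2 ≤ n)
    (key : m * m * c * (n * n - n) ≤ (m * m - m) * ((m * m - m) * c) * n)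
    (hsmall : (m - 1) * (m - 1) < n - 1) : False := by
  obtain ⟨m', rfl⟩ : ∃ m', m = m' + 1 := ⟨m - 1, by omega⟩
  obtain ⟨n', rfl⟩ : ∃ n', n = n' + 1 := ⟨n - 1, by omega⟩
  have e1 : (m' + 1) * (m' + 1) - (m' + 1) = (m' + 1) * m' := by
    have : (m' + 1) * (m' + 1) = (m' + 1) * m' + (m' + 1) := by ring
    omega
  have e2 : (n' + 1) * (n' + 1) - (n' + 1) = (n' + 1) * n' := by
    have : (n' + 1) * (n' + 1) = (n' + 1) * n' + (n' + 1) := by ring
    omega
  rw [e1, e2] at key
  simp only [Nat.add_sub_cancel] at hsmall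
  have key2 : (m' + 1) * (m' + 1) * c * (n' + 1) * n'
      ≤ (m' + 1) * (m' + 1) * c * (n' + 1) * (m' * m') := by
    calc (m' + 1) * (m' + 1) * c * (n' + 1) * n'
        = (m' + 1) * (m' + 1) * c * ((n' + 1) * n') := by ring
      _ ≤ (m' + 1) * m' * ((m' + 1) * m' * c) * (n' + 1) := key
      _ = (m' + 1) * (m' + 1) * c * (n' + 1) * (m' * m') := by ring
  have hpos : 0 < (m' + 1) * (m' + 1) * c * (n' + 1) := by positivity
  have := Nat.le_of_mul_le_mul_left key2 hpos
  omega

/-- In a 2-homogeneous group, a small set `Γ` meets some translate of itself in exactly one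
point. -/
theorem exists_inter_one [MulAction.IsPretransitive G Ω] (h2 : TwoHom G Ω) (Γ : Finset Ω)
    (hm : 1 ≤ Γ.card) (hsmall : (Γ.card - 1) * (Γ.card - 1) < Fintype.card Ω - 1) :
    ∃ g : G, (Γ.filter (fun a => g • a ∈ Γ)).card = 1 := by
  by_contra hcon
  push Not at hcon
  have hle : ∑ g : G, (Γ.filter (fun a => g • a ∈ Γ)).card
      ≤ ∑ g : G, ((Γ.filter (fun a => g • a ∈ Γ)).offDiag).card := by
    apply Finset.sum_le_sum
    intro g _
    rw [Finset.offDiag_card]
    have := hcon g
    set k := (Γ.filter (fun a => g • a ∈ Γ)).card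
    rcases Nat.lt_or_ge k 2 with h | h
    · interval_cases k
      · simp
      · exact absurd rfl this
    · have : 2 * k ≤ k * k := Nat.mul_le_mul_right k h
      omega
  have f1 := first_moment (G := G) Γ
  have f2 := second_moment h2 Γ
  rw [Finset.offDiag_card] at f2
  have c1 := two_mul_choose_two (Fintype.card Ω)
  have c2 := two_mul_choose_two Γ.card
  set n := Fintype.card Ω
  set m := Γ.card
  set S1 := ∑ g : G, (Γ.filter (fun a => g • a ∈ Γ)).card
  set S2 := ∑ g : G, ((Γ.filter (fun a => g • a ∈ Γ)).offDiag).card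
  have hG : 0 < Fintype.card G := Fintype.card_pos
  have hn : 2 ≤ n := by omega
  -- S1 * n * (2 C(n,2)) ≤ S2 * (2 C(n,2)) * n
  have key : m * m * Fintype.card G * (n * n - n) ≤ (m * m - m) * ((m * m - m) * Fintype.card G) * n := by
    calc m * m * Fintype.card G * (n * n - n) = S1 * n * (2 * n.choose 2) := by rw [← f1, c1]
      _ ≤ S2 * n * (2 * n.choose 2) := by gcongr
      _ = 2 * (S2 * n.choose 2) * n := by ring
      _ = 2 * ((m * m - m) * (m.choose 2 * Fintype.card G)) * n := by rw [f2]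
      _ = (m * m - m) * ((2 * m.choose 2) * Fintype.card G) * n := by ring
      _ = (m * m - m) * ((m * m - m) * Fintype.card G) * n := by rw [c2]
  exact arith2 m n (Fintype.card G) hG hm hn key hsmall

end Cfsg.Agent.Lib.Helper33_MinDegA2
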