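import Mathlib
import Cfsg.Agent.Lib.Helper33_MinDegA1
import Cfsg.Agent.Lib.Helper33_MinDegA2

set_option autoImplicit false

namespace Cfsg.Agent.Lib.Helper33_MinDegA3

open Finset Cfsg.Agent.Lib.Helper33_MinDegA1 Cfsg.Agent.Lib.Helper33_MinDegA2

variable {G Ω : Type*} [Group G] [MulAction G Ω] [Fintype Ω] [DecidableEq Ω]

omit [Fintype Ω] [DecidableEq Ω] in
/-- the image of a primitive group in `Perm Ω` is primitive -/
theorem isPreprimitive_range (hprim : MulAction.IsPreprimitive G Ω) :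
    MulAction.IsPreprimitive (MulAction.toPermHom G Ω).range Ω := by
  let f : Ω →ₑ[(MulAction.toPermHom G Ω).rangeRestrict] Ω :=
    { toFun := id
      map_smul' := fun g a => rfl }
  exact MulAction.IsPreprimitive.of_surjective (f := f) Function.surjective_id

/-- Case A: a 2-homogeneous primitive group not containing the alternating group has minimal
degree `m` with `n - 1 ≤ (m - 1)^2`. -/
theorem caseA [Finite G] (hprim : MulAction.IsPreprimitive G Ω) (h2 : TwoHom G Ω)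
    (hA : ¬ alternatingGroup Ω ≤ (MulAction.toPermHom G Ω).range) (x : G) (ω₀ : Ω)
    (hx : x • ω₀ ≠ ω₀) :
    Fintype.card Ω - 1 ≤ ((univ.filter (fun ω : Ω => x • ω ≠ ω)).card - 1)
      * ((univ.filter (fun ω : Ω => x • ω ≠ ω)).card - 1) := by
  by_contra hcon
  push Not at hcon
  have : Fintype G := Fintype.ofFinite G
  have : MulAction.IsPretransitive G Ω := hprim.toIsPretransitive
  set Γ := univ.filter (fun ω : Ω => x • ω ≠ ω) with hΓ
  have hm : 1 ≤ Γ.card := Finset.card_pos.2 ⟨ω₀, by rw [hΓ, mem_filter]; exact ⟨mem_univ _, hx⟩⟩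
  obtain ⟨g, hg⟩ := exists_inter_one (G := G) h2 Γ hm hcon
  obtain ⟨ω, hω⟩ := Finset.card_eq_one.1 hg
  have hmemΓ : ∀ p : Ω, p ∈ Γ ↔ x • p ≠ p := fun p => by rw [hΓ, mem_filter]; simp
  have hω1 : ω ∈ Γ ∧ g • ω ∈ Γ := by
    have : ω ∈ Γ.filter (fun a => g • a ∈ Γ) := by rw [hω]; exact mem_singleton_self _
    exact mem_filter.1 this
  have huniq : ∀ p, p ∈ Γ → g • p ∈ Γ → p = ω := by
    intro p h1 h2'
    have : p ∈ Γ.filter (fun a => g • a ∈ Γ) := mem_filter.2 ⟨h1, h2'⟩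
    rw [hω] at this
    exact mem_singleton.1 this
  let σ : Equiv.Perm Ω := MulAction.toPermHom G Ω x
  let τ : Equiv.Perm Ω := MulAction.toPermHom G Ω (g⁻¹ * x * g)
  have hσa : ∀ p, σ p = x • p := fun p => rfl
  have hτa : ∀ p, τ p = g⁻¹ • x • g • p := fun p => by
    show (g⁻¹ * x * g) • p = _
    rw [mul_smul, mul_smul]
  have hτne : ∀ p, τ p ≠ p ↔ g • p ∈ Γ := by
    intro p
    rw [hτa, hmemΓ, ne_eq, ne_eq, inv_smul_eq_iff]
  have h3 : (σ * τ * σ⁻¹ * τ⁻¹).IsThreeCycle := by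
    apply isThreeCycle_commutator σ τ ω
    · rw [hσa]; exact (hmemΓ ω).1 hω1.1
    · exact (hτne ω).2 hω1.2
    · intro p hp1 hp2
      exact huniq p ((hmemΓ p).2 (by rwa [hσa] at hp1)) ((hτne p).1 hp2)
  have hmem : σ * τ * σ⁻¹ * τ⁻¹ ∈ (MulAction.toPermHom G Ω).range := by
    refine ⟨x * (g⁻¹ * x * g) * x⁻¹ * (g⁻¹ * x * g)⁻¹, ?_⟩
    simp only [map_mul, map_inv, σ, τ]
  exact hA (Equiv.Perm.alternatingGroup_le_of_isPreprimitive_of_isThreeCycle_mem
    (isPreprimitive_range hprim) h3 hmem)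

end Cfsg.Agent.Lib.Helper33_MinDegA3
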