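import Mathlib
import Cfsg.Agent.S0734

set_option autoImplicit false
open scoped Classical

namespace Cfsg.Agent.Lib.Helper33_MinDegB1

variable {G Ω : Type*} [Group G] [MulAction G Ω] [Fintype Ω]

/-- the points `γ` such that the ordered pairs `(x, γ)` and `(y, γ)` lie in different orbitals -/
noncomputable def dset (G : Type*) {Ω : Type*} [Group G] [MulAction G Ω] [Fintype Ω] (x y : Ω) : Finset Ω :=
  Finset.univ.filter (fun γ => ¬ ∃ g : G, g • x = y ∧ g • γ = γ)

theorem mem_dset {x y γ : Ω} : γ ∈ dset G x y ↔ ¬ ∃ g : G, g • x = y ∧ g • γ = γ := by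
  simp [dset]

theorem dset_self (x : Ω) : dset G x x = ∅ := by
  ext γ
  simp only [mem_dset, Finset.notMem_empty, iff_false, not_not]
  exact ⟨1, one_smul _ _, one_smul _ _⟩

theorem dset_symm (x y : Ω) : dset G x y = dset G y x := by
  ext γ
  simp only [mem_dset]
  constructor
  · intro h ⟨g, h1, h2⟩
    exact h ⟨g⁻¹, by rw [← h1, inv_smul_smul], by rw [inv_smul_eq_iff, h2]⟩
  · intro h ⟨g, h1, h2⟩
    exact h ⟨g⁻¹, by rw [← h1, inv_smul_smul], by rw [inv_smul_eq_iff, h2]⟩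

theorem dset_triangle (x y z : Ω) : dset G x z ⊆ dset G x y ∪ dset G y z := by
  intro γ hγ
  rw [Finset.mem_union]
  by_contra hcon
  push Not at hcon
  obtain ⟨h1, h2⟩ := hcon
  rw [mem_dset, not_not] at h1 h2
  obtain ⟨g1, a1, b1⟩ := h1
  obtain ⟨g2, a2, b2⟩ := h2
  exact (mem_dset.1 hγ) ⟨g2 * g1, by rw [mul_smul, a1, a2], by rw [mul_smul, b1, b2]⟩

theorem card_dset_triangle (x y z : Ω) :
    (dset G x z).card ≤ (dset G x y).card + (dset G y z).card :=
  (Finset.card_le_card (dset_triangle x y z)).trans (Finset.card_union_le _ _)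

theorem card_dset_smul (h : G) (x y : Ω) :
    (dset G (h • x) (h • y)).card = (dset G x y).card := by
  symm
  apply Finset.card_bij (fun γ _ => h • γ)
  · intro γ hγ
    rw [mem_dset] at hγ ⊢
    rintro ⟨g, h1, h2⟩
    apply hγ
    refine ⟨h⁻¹ * g * h, ?_, ?_⟩
    · rw [mul_smul, mul_smul, h1, inv_smul_smul]
    · rw [mul_smul, mul_smul, h2, inv_smul_smul]
  · intro a _ b _ hab
    exact MulAction.injective h hab
  · intro γ hγ
    refine ⟨h⁻¹ • γ, ?_, smul_inv_smul h γ⟩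
    rw [mem_dset] at hγ ⊢
    rintro ⟨g, h1, h2⟩
    apply hγ
    refine ⟨h * g * h⁻¹, ?_, ?_⟩
    · rw [mul_smul, mul_smul, inv_smul_smul, h1]
    · rw [mul_smul, mul_smul, h2, smul_inv_smul]

theorem dset_subset_moved {x y : Ω} (g : G) (hg : g • x = y) :
    dset G x y ⊆ Finset.univ.filter (fun γ => g • γ ≠ γ) := by
  intro γ hγ
  rw [Finset.mem_filter]
  refine ⟨Finset.mem_univ _, fun h => ?_⟩
  exact (mem_dset.1 hγ) ⟨g, hg, h⟩

/-- the orbital graph of the pair `(α, β)` -/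
def X (G : Type*) {Ω : Type*} [Group G] [MulAction G Ω] (α β : Ω) : SimpleGraph Ω :=
  SimpleGraph.fromRel (fun x y : Ω => ∃ g : G, g • α = x ∧ g • β = y)

theorem adj_iff {α β x y : Ω} : (X G α β).Adj x y ↔
    x ≠ y ∧ ((∃ g : G, g • α = x ∧ g • β = y) ∨ (∃ g : G, g • α = y ∧ g • β = x)) := by
  rw [X, SimpleGraph.fromRel_adj]

theorem adj_base {α β : Ω} (h : α ≠ β) : (X G α β).Adj α β :=
  adj_iff.2 ⟨h, Or.inl ⟨1, one_smul _ _, one_smul _ _⟩⟩

theorem adj_smul {α β x y : Ω} (h : G) (hxy : (X G α β).Adj x y) :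
    (X G α β).Adj (h • x) (h • y) := by
  rw [adj_iff] at hxy ⊢
  obtain ⟨hne, hh⟩ := hxy
  refine ⟨fun e => hne (MulAction.injective h e), ?_⟩
  rcases hh with ⟨g, h1, h2⟩ | ⟨g, h1, h2⟩
  · exact Or.inl ⟨h * g, by rw [mul_smul, h1], by rw [mul_smul, h2]⟩
  · exact Or.inr ⟨h * g, by rw [mul_smul, h1], by rw [mul_smul, h2]⟩

theorem adj_smul_iff {α β x y : Ω} (h : G) :
    (X G α β).Adj (h • x) (h • y) ↔ (X G α β).Adj x y := by
  refine ⟨fun hh => ?_, adj_smul h⟩
  have := adj_smul h⁻¹ hh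
  rwa [inv_smul_smul, inv_smul_smul] at this

theorem card_dset_of_adj {α β x y : Ω} (hxy : (X G α β).Adj x y) :
    (dset G x y).card = (dset G α β).card := by
  rw [adj_iff] at hxy
  rcases hxy.2 with ⟨g, h1, h2⟩ | ⟨g, h1, h2⟩
  · rw [← h1, ← h2, card_dset_smul]
  · rw [dset_symm, ← h1, ← h2, card_dset_smul]

/-- neighbours in the orbital graph -/
noncomputable def nb (G : Type*) {Ω : Type*} [Group G] [MulAction G Ω] [Fintype Ω] (α β x : Ω) : Finset Ω :=
  Finset.univ.filter (fun y => (X G α β).Adj x y)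

theorem mem_nb {α β x y : Ω} : y ∈ nb G α β x ↔ (X G α β).Adj x y := by
  simp [nb]

theorem card_nb_smul {α β : Ω} (h : G) (x : Ω) :
    (nb G α β (h • x)).card = (nb G α β x).card := by
  symm
  apply Finset.card_bij (fun γ _ => h • γ)
  · intro γ hγ
    rw [mem_nb] at hγ ⊢
    exact adj_smul h hγ
  · intro a _ b _ hab
    exact MulAction.injective h hab
  · intro γ hγ
    refine ⟨h⁻¹ • γ, ?_, smul_inv_smul h γ⟩
    rw [mem_nb] at hγ ⊢
    have := adj_smul h⁻¹ hγ
    rwa [inv_smul_smul] at this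

theorem card_nb_eq [MulAction.IsPretransitive G Ω] {α β : Ω} (x : Ω) :
    (nb G α β x).card = (nb G α β α).card := by
  obtain ⟨g, rfl⟩ := MulAction.exists_smul_eq G α x
  exact card_nb_smul g α

theorem nb_sdiff_subset_dset {α β : Ω} (x z : Ω) :
    nb G α β x \ nb G α β z ⊆ dset G x z := by
  intro γ hγ
  rw [Finset.mem_sdiff, mem_nb, mem_nb] at hγ
  rw [mem_dset]
  rintro ⟨g, h1, h2⟩
  apply hγ.2
  have := adj_smul g hγ.1
  rwa [h1, h2] at this

theorem card_nb_le {α β : Ω} (x z : Ω) :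
    (nb G α β x).card ≤ (nb G α β x ∩ nb G α β z).card + (dset G x z).card := by
  have h1 : (nb G α β x).card = (nb G α β x ∩ nb G α β z).card + (nb G α β x \ nb G α β z).card := by
    rw [add_comm]; exact (Finset.card_sdiff_add_card_inter _ _).symm
  rw [h1]
  exact Nat.add_le_add_left (Finset.card_le_card (nb_sdiff_subset_dset x z)) _

theorem connected [Finite G] [MulAction.IsPretransitive G Ω] (hprim : MulAction.IsPreprimitive G Ω)
    {α β : Ω} (h : α ≠ β) : (X G α β).Connected := by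
  haveI : Nontrivial Ω := ⟨⟨α, β, h⟩⟩
  exact (Cfsg.Agent.S0734.result (G := G) (Ω := Ω)).1 hprim α β h

end Cfsg.Agent.Lib.Helper33_MinDegB1
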