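import Mathlib
import Cfsg.Agent.Lib.Helper33_MinDegB1

set_option autoImplicit false
open scoped Classical

namespace Cfsg.Agent.Lib.Helper33_MinDegB2

open Cfsg.Agent.Lib.Helper33_MinDegB1

variable {G Ω : Type*} [Group G] [MulAction G Ω] [Fintype Ω]

theorem dist_smul_le {α β : Ω} (hc : (X G α β).Connected) (g : G) (x y : Ω) :
    (X G α β).dist (g • x) (g • y) ≤ (X G α β).dist x y := by
  obtain ⟨p, hp⟩ := hc.exists_walk_length_eq_dist x y
  let φ : (X G α β) →g (X G α β) := ⟨fun z => g • z, fun {a b} h => adj_smul g h⟩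
  have := SimpleGraph.dist_le (p.map φ)
  rw [SimpleGraph.Walk.length_map, hp] at this
  exact this

theorem dist_smul {α β : Ω} (hc : (X G α β).Connected) (g : G) (x y : Ω) :
    (X G α β).dist (g • x) (g • y) = (X G α β).dist x y := by
  apply le_antisymm (dist_smul_le hc g x y)
  have := dist_smul_le hc g⁻¹ (g • x) (g • y)
  rwa [inv_smul_smul, inv_smul_smul] at this

theorem exists_closer {α β : Ω} (hc : (X G α β).Connected) (x γ : Ω) (h : γ ≠ x) :
    ∃ w, (X G α β).Adj x w ∧ (X G α β).dist w γ < (X G α β).dist x γ := by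
  obtain ⟨p, hp⟩ := hc.exists_walk_length_eq_dist x γ
  cases p with
  | nil => exact absurd rfl h
  | cons hadj q =>
    rename_i w
    refine ⟨w, hadj, ?_⟩
    have h1 := SimpleGraph.dist_le q
    rw [SimpleGraph.Walk.length_cons] at hp
    omega

/-- Inequality (I): `n + v ≤ v * μ + 1`. -/
theorem count_I [Finite G] (hprim : MulAction.IsPreprimitive G Ω) {α β : Ω} (hαβ : α ≠ β) :
    Fintype.card Ω + (nb G α β α).card ≤ (nb G α β α).card * (dset G α β).card + 1 := by
  haveI : MulAction.IsPretransitive G Ω := hprim.toIsPretransitive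
  have hc := connected hprim hαβ
  set N := nb G α β α with hN
  set μ := (dset G α β).card with hμ
  -- the double counting set
  let A : Ω → Finset Ω := fun γ => N.filter (fun w => (X G α β).dist w γ ≠ (X G α β).dist α γ)
  let B : Ω → Finset Ω := fun w => Finset.univ.filter (fun γ => (X G α β).dist w γ ≠ (X G α β).dist α γ)
  have hswap : ∑ γ : Ω, (A γ).card = ∑ w ∈ N, (B w).card := by
    simp only [A, B, Finset.card_filter]
    rw [Finset.sum_comm]
  have hB : ∀ w ∈ N, (B w).card ≤ μ := by
    intro w hw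
    have hadj : (X G α β).Adj α w := mem_nb.1 hw
    rw [hμ, ← card_dset_of_adj hadj]
    apply Finset.card_le_card
    intro γ hγ
    simp only [B, Finset.mem_filter, Finset.mem_univ, true_and] at hγ
    rw [mem_dset]
    rintro ⟨g, h1, h2⟩
    apply hγ
    have := dist_smul hc g α γ
    rw [h1, h2] at this
    exact this
  have hA : ∀ γ : Ω, (if γ = α then N.card else 1) ≤ (A γ).card := by
    intro γ
    split_ifs with h
    · rw [h]
      apply Finset.card_le_card
      intro w hw
      simp only [A, Finset.mem_filter]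
      refine ⟨hw, ?_⟩
      have hadj : (X G α β).Adj α w := mem_nb.1 hw
      rw [SimpleGraph.dist_self]
      have : (X G α β).dist w α = 1 := SimpleGraph.dist_eq_one_iff_adj.2 hadj.symm
      omega
    · obtain ⟨w, hw1, hw2⟩ := exists_closer hc α γ h
      apply Finset.card_pos.2
      refine ⟨w, ?_⟩
      simp only [A, Finset.mem_filter]
      exact ⟨mem_nb.2 hw1, by omega⟩
  have h1 : ∑ γ : Ω, (if γ = α then N.card else 1) ≤ ∑ γ : Ω, (A γ).card :=
    Finset.sum_le_sum (fun γ _ => hA γ)
  have h2 : ∑ w ∈ N, (B w).card ≤ N.card * μ := by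
    calc ∑ w ∈ N, (B w).card ≤ ∑ _w ∈ N, μ := Finset.sum_le_sum hB
      _ = N.card * μ := by rw [Finset.sum_const, smul_eq_mul]
  have h3 : ∑ γ : Ω, (if γ = α then N.card else 1) + 1 = Fintype.card Ω + N.card := by
    rw [← Finset.add_sum_erase Finset.univ _ (Finset.mem_univ α), if_pos rfl]
    have h4 : ∑ γ ∈ Finset.univ.erase α, (if γ = α then N.card else 1) = Fintype.card Ω - 1 := by
      rw [Finset.sum_congr rfl (g := fun _ => 1)]
      · rw [Finset.sum_const, smul_eq_mul, mul_one, Finset.card_erase_of_mem (Finset.mem_univ _),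
          Finset.card_univ]
      · intro γ hγ
        rw [if_neg (Finset.ne_of_mem_erase hγ)]
    rw [h4]
    have : 0 < Fintype.card Ω := Fintype.card_pos_iff.2 ⟨α⟩
    omega
  omega

end Cfsg.Agent.Lib.Helper33_MinDegB2
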