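import Mathlib
import Cfsg.Agent.Lib.Helper33_MinDegB1

set_option autoImplicit false
open scoped Classical

namespace Cfsg.Agent.Lib.Helper33_MinDegB3

open Cfsg.Agent.Lib.Helper33_MinDegB1

variable {G Ω : Type*} [Group G] [MulAction G Ω] [Fintype Ω]

/-- within two steps of `α` in the orbital graph -/
def S2 (G : Type*) {Ω : Type*} [Group G] [MulAction G Ω] (α β : Ω) : Set Ω :=
  {z | z = α ∨ (X G α β).Adj α z ∨ ∃ w, (X G α β).Adj α w ∧ (X G α β).Adj w z}

theorem card_dset_le_of_mem_S2 {α β z : Ω} (hz : z ∈ S2 G α β) :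
    (dset G α z).card ≤ 2 * (dset G α β).card := by
  rcases hz with rfl | h | ⟨w, h1, h2⟩
  · rw [dset_self]; simp
  · rw [card_dset_of_adj h]; omega
  · have := card_dset_triangle (G := G) α w z
    rw [card_dset_of_adj h1, card_dset_of_adj h2] at this
    omega

theorem S2_closed [MulAction.IsPretransitive G Ω] {α β : Ω}
    (h3 : 3 * (dset G α β).card < (nb G α β α).card) {z z' : Ω}
    (hz : z ∈ S2 G α β) (hadj : (X G α β).Adj z z') : z' ∈ S2 G α β := by
  have h1 := card_dset_le_of_mem_S2 hz
  have h2 := card_dset_triangle (G := G) α z z'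
  rw [card_dset_of_adj hadj] at h2
  have h4 := card_nb_le (G := G) (α := α) (β := β) α z'
  have hpos : 0 < (nb G α β α ∩ nb G α β z').card := by omega
  obtain ⟨w, hw⟩ := Finset.card_pos.1 hpos
  rw [Finset.mem_inter, mem_nb, mem_nb] at hw
  exact Or.inr (Or.inr ⟨w, hw.1, hw.2.symm⟩)

theorem S2_eq_univ [Finite G] (hprim : MulAction.IsPreprimitive G Ω) {α β : Ω} (hαβ : α ≠ β)
    (h3 : 3 * (dset G α β).card < (nb G α β α).card) (z : Ω) : z ∈ S2 G α β := by
  have : MulAction.IsPretransitive G Ω := hprim.toIsPretransitive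
  have hc := connected hprim hαβ
  have key : ∀ (u v : Ω), (X G α β).Walk u v → u ∈ S2 G α β → v ∈ S2 G α β := by
    intro u v p
    induction p with
    | nil => exact id
    | cons hadj _ ih => exact fun hu => ih (S2_closed h3 hu hadj)
  obtain ⟨p⟩ := hc.preconnected α z
  exact key α z p (Or.inl rfl)

/-- Inequality (IV): `n * v ≤ v * v + 2 * μ * n`. -/
theorem count_IV [Finite G] (hprim : MulAction.IsPreprimitive G Ω) {α β : Ω} (hαβ : α ≠ β)
    (h3 : 3 * (dset G α β).card < (nb G α β α).card) :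
    Fintype.card Ω * (nb G α β α).card ≤
      (nb G α β α).card * (nb G α β α).card + 2 * (dset G α β).card * Fintype.card Ω := by
  have : MulAction.IsPretransitive G Ω := hprim.toIsPretransitive
  have h1 : ∀ z : Ω, (nb G α β α).card ≤ (nb G α β α ∩ nb G α β z).card + 2 * (dset G α β).card := by
    intro z
    have h4 := card_nb_le (G := G) (α := α) (β := β) α z
    have h5 := card_dset_le_of_mem_S2 (S2_eq_univ hprim hαβ h3 z)
    omega
  have h2 : ∑ z : Ω, (nb G α β α ∩ nb G α β z).card = (nb G α β α).card * (nb G α β α).card := by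
    have : ∀ z : Ω, (nb G α β α ∩ nb G α β z).card = ∑ γ ∈ nb G α β α, (if z ∈ nb G α β γ then 1 else 0) := by
      intro z
      rw [← Finset.card_filter]
      congr 1
      ext γ
      simp only [Finset.mem_inter, Finset.mem_filter, mem_nb]
      exact ⟨fun h => ⟨h.1, h.2.symm⟩, fun h => ⟨h.1, h.2.symm⟩⟩
    simp only [this]
    rw [Finset.sum_comm]
    have : ∀ γ ∈ nb G α β α, ∑ z : Ω, (if z ∈ nb G α β γ then 1 else 0) = (nb G α β α).card := by
      intro γ _
      rw [← Finset.card_filter, Finset.filter_mem_eq_inter, Finset.univ_inter]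
      exact card_nb_eq γ
    rw [Finset.sum_congr rfl this, Finset.sum_const, smul_eq_mul]
  have h3' : ∑ _z : Ω, (nb G α β α).card ≤ ∑ z : Ω, ((nb G α β α ∩ nb G α β z).card + 2 * (dset G α β).card) :=
    Finset.sum_le_sum (fun z _ => h1 z)
  rw [Finset.sum_const, Finset.sum_add_distrib, h2, Finset.sum_const, smul_eq_mul, smul_eq_mul,
    Finset.card_univ] at h3'
  linarith [mul_comm (Fintype.card Ω) (2 * (dset G α β).card)]

end Cfsg.Agent.Lib.Helper33_MinDegB3
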