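import Mathlib
import Cfsg.Agent.Lib.Helper33_MinDegB1

set_option autoImplicit false
open scoped Classical

namespace Cfsg.Agent.Lib.Helper33_MinDegB4

open Cfsg.Agent.Lib.Helper33_MinDegB1

variable {G Ω : Type*} [Group G] [MulAction G Ω] [Fintype Ω]

/-- co-adjacency: distinct and not adjacent in the orbital graph -/
def Y (G : Type*) {Ω : Type*} [Group G] [MulAction G Ω] (α β x y : Ω) : Prop :=
  x ≠ y ∧ ¬ (X G α β).Adj x y

omit [Fintype Ω] in
theorem Y_symm {α β x y : Ω} (h : Y G α β x y) : Y G α β y x :=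
  ⟨h.1.symm, fun h' => h.2 h'.symm⟩

theorem Y_smul_iff {α β x y : Ω} (g : G) : Y G α β (g • x) (g • y) ↔ Y G α β x y := by
  unfold Y
  rw [adj_smul_iff]
  constructor
  · rintro ⟨h1, h2⟩
    exact ⟨fun e => h1 (by rw [e]), h2⟩
  · rintro ⟨h1, h2⟩
    exact ⟨fun e => h1 (MulAction.injective g e), h2⟩

/-- having a common co-neighbour -/
def P (G : Type*) {Ω : Type*} [Group G] [MulAction G Ω] (α β x z : Ω) : Prop :=
  ∃ y, Y G α β x y ∧ Y G α β y z

omit [Fintype Ω] in
theorem P_symm {α β x z : Ω} (h : P G α β x z) : P G α β z x := by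
  obtain ⟨y, h1, h2⟩ := h
  exact ⟨y, Y_symm h2, Y_symm h1⟩

theorem P_smul {α β x z : Ω} (g : G) (h : P G α β x z) : P G α β (g • x) (g • z) := by
  obtain ⟨y, h1, h2⟩ := h
  exact ⟨g • y, (Y_smul_iff g).2 h1, (Y_smul_iff g).2 h2⟩

theorem P_of_adj {α β z₀ z : Ω} (h0 : (X G α β).Adj α z₀) (hP : P G α β α z₀)
    (hz : (X G α β).Adj α z) : P G α β α z := by
  have hαβ : P G α β α β := by
    rcases (adj_iff.1 h0).2 with ⟨g, h1, h2⟩ | ⟨g, h1, h2⟩
    · have := P_smul g⁻¹ hP
      have e1 : g⁻¹ • α = α := by rw [inv_smul_eq_iff, h1]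
      have e2 : g⁻¹ • z₀ = β := by rw [inv_smul_eq_iff, h2]
      rwa [e1, e2] at this
    · have := P_smul g⁻¹ (P_symm hP)
      have e1 : g⁻¹ • α = β := by rw [inv_smul_eq_iff, h2]
      have e2 : g⁻¹ • z₀ = α := by rw [inv_smul_eq_iff, h1]
      rwa [e1, e2] at this
  rcases (adj_iff.1 hz).2 with ⟨g, h1, h2⟩ | ⟨g, h1, h2⟩
  · have := P_smul g hαβ
    rwa [h1, h2] at this
  · have := P_symm (P_smul g hαβ)
    rwa [h1, h2] at this

theorem exists_P [Finite G] (hprim : MulAction.IsPreprimitive G Ω) {α β δ : Ω} (hαβ : α ≠ β)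
    (hδ : Y G α β α δ) : ∃ z, (X G α β).Adj α z ∧ P G α β α z := by
  have : MulAction.IsPretransitive G Ω := hprim.toIsPretransitive
  by_contra hcon
  push Not at hcon
  have hc := connected hprim hδ.1
  have hY : ∀ x y, (X G α δ).Adj x y → Y G α β x y := by
    intro x y h
    rw [adj_iff] at h
    obtain ⟨hne, hh⟩ := h
    rcases hh with ⟨g, h1, h2⟩ | ⟨g, h1, h2⟩
    · rw [← h1, ← h2, Y_smul_iff]; exact hδ
    · rw [← h1, ← h2, Y_smul_iff]; exact Y_symm hδ
  have key : ∀ (u v : Ω), (X G α δ).Walk u v → (u = α ∨ Y G α β α u) → (v = α ∨ Y G α β α v) := by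
    intro u v p
    induction p with
    | nil => exact id
    | @cons a b c hadj _ ih =>
      intro hu
      apply ih
      have hab := hY a b hadj
      rcases hu with rfl | hu
      · exact Or.inr hab
      · by_cases hb : b = α
        · exact Or.inl hb
        · by_cases hadj' : (X G α β).Adj α b
          · exact absurd ⟨a, hu, hab⟩ (hcon b hadj')
          · exact Or.inr ⟨fun e => hb e.symm, hadj'⟩
  obtain ⟨p⟩ := hc.preconnected α β
  rcases key α β p (Or.inl rfl) with h | h
  · exact hαβ h.symm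
  · exact h.2 (adj_base hαβ)

/-- co-neighbours -/
noncomputable def cnb (G : Type*) {Ω : Type*} [Group G] [MulAction G Ω] [Fintype Ω] (α β x : Ω) : Finset Ω :=
  Finset.univ.filter (fun y => Y G α β x y)

theorem mem_cnb {α β x y : Ω} : y ∈ cnb G α β x ↔ Y G α β x y := by
  simp [cnb]

theorem card_total {α β : Ω} (x : Ω) :
    Fintype.card Ω = 1 + (nb G α β x).card + (cnb G α β x).card := by
  have h1 : (Finset.univ : Finset Ω) = insert x (nb G α β x ∪ cnb G α β x) := by
    ext y
    simp only [Finset.mem_univ, Finset.mem_insert, Finset.mem_union, mem_nb, mem_cnb, true_iff]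
    by_cases h : y = x
    · exact Or.inl h
    · by_cases h' : (X G α β).Adj x y
      · exact Or.inr (Or.inl h')
      · exact Or.inr (Or.inr ⟨fun e => h e.symm, h'⟩)
  have h2 : x ∉ nb G α β x ∪ cnb G α β x := by
    simp only [Finset.mem_union, mem_nb, mem_cnb, not_or]
    exact ⟨fun h => h.ne rfl, fun h => h.1 rfl⟩
  have h3 : Disjoint (nb G α β x) (cnb G α β x) := by
    rw [Finset.disjoint_left]
    intro y hy hy'
    exact (mem_cnb.1 hy').2 (mem_nb.1 hy)
  rw [← Finset.card_univ, h1, Finset.card_insert_of_notMem h2, Finset.card_union_of_disjoint h3]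
  omega

theorem card_cnb_eq [MulAction.IsPretransitive G Ω] {α β : Ω} (x : Ω) :
    (cnb G α β x).card = (cnb G α β α).card := by
  have h1 := card_total (G := G) (α := α) (β := β) x
  have h2 := card_total (G := G) (α := α) (β := β) α
  have h3 := card_nb_eq (G := G) (α := α) (β := β) x
  omega

/-- Inequality (V): `v ≤ w * (w - 1)`, hence `n ≤ 1 + w * w`. -/
theorem count_V [Finite G] (hprim : MulAction.IsPreprimitive G Ω) {α β δ : Ω} (hαβ : α ≠ β)
    (hδ : Y G α β α δ) :
    Fintype.card Ω ≤ 1 + (cnb G α β α).card * (cnb G α β α).card := by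
  have : MulAction.IsPretransitive G Ω := hprim.toIsPretransitive
  obtain ⟨z₀, hz0, hP0⟩ := exists_P hprim hαβ hδ
  have hsub : nb G α β α ⊆ (cnb G α β α).biUnion (fun y => (cnb G α β y).erase α) := by
    intro z hz
    obtain ⟨y, h1, h2⟩ := P_of_adj hz0 hP0 (mem_nb.1 hz)
    rw [Finset.mem_biUnion]
    refine ⟨y, mem_cnb.2 h1, ?_⟩
    rw [Finset.mem_erase]
    exact ⟨fun e => (mem_nb.1 hz).ne e.symm, mem_cnb.2 h2⟩
  have hw : 0 < (cnb G α β α).card := Finset.card_pos.2 ⟨δ, mem_cnb.2 hδ⟩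
  have h1 : (nb G α β α).card ≤ (cnb G α β α).card * ((cnb G α β α).card - 1) := by
    refine (Finset.card_le_card hsub).trans (Finset.card_biUnion_le.trans ?_)
    calc ∑ y ∈ cnb G α β α, ((cnb G α β y).erase α).card
        ≤ ∑ _y ∈ cnb G α β α, ((cnb G α β α).card - 1) := by
          apply Finset.sum_le_sum
          intro y hy
          rw [Finset.card_erase_of_mem (mem_cnb.2 (Y_symm (mem_cnb.1 hy))), card_cnb_eq y]
      _ = (cnb G α β α).card * ((cnb G α β α).card - 1) := by
          rw [Finset.sum_const, smul_eq_mul]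
  have h2 := card_total (G := G) (α := α) (β := β) α
  have h3 : (cnb G α β α).card * ((cnb G α β α).card - 1) + (cnb G α β α).card
      = (cnb G α β α).card * (cnb G α β α).card := by
    obtain ⟨k, hk⟩ := Nat.exists_eq_succ_of_ne_zero hw.ne'
    rw [hk]; simp only [Nat.succ_sub_one]; rw [Nat.succ_eq_add_one]; ring
  omega

end Cfsg.Agent.Lib.Helper33_MinDegB4
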