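import Mathlib
import Cfsg.Agent.Lib.Helper33_MinDegB2
import Cfsg.Agent.Lib.Helper33_MinDegB3
import Cfsg.Agent.Lib.Helper33_MinDegB4

set_option autoImplicit false
open scoped Classical

namespace Cfsg.Agent.Lib.Helper33_MinDegB5

open Cfsg.Agent.Lib.Helper33_MinDegB1 Cfsg.Agent.Lib.Helper33_MinDegB2
  Cfsg.Agent.Lib.Helper33_MinDegB3 Cfsg.Agent.Lib.Helper33_MinDegB4

/-- the arithmetic at the end of case B -/
theorem arith (n v w μ : ℕ) (hT : n = 1 + v + w) (hI : n + v ≤ v * μ + 1)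
    (hIV : 3 * μ < v → n * v ≤ v * v + 2 * μ * n) (hV : n ≤ 1 + w * w) :
    (Real.sqrt n - 1) / 2 ≤ μ := by
  by_contra hcon
  push Not at hcon
  set s : ℝ := Real.sqrt n with hs
  have hs0 : 0 ≤ s := Real.sqrt_nonneg _
  have hss : s * s = n := Real.mul_self_sqrt (Nat.cast_nonneg n)
  have h1 : 2 * (μ : ℝ) + 1 < s := by linarith
  have hμ0 : (0 : ℝ) ≤ μ := Nat.cast_nonneg μ
  -- (2μ+1)^2 < n as naturals
  have h2 : (2 * μ + 1) * (2 * μ + 1) < n := by
    have : ((2 * μ + 1) * (2 * μ + 1) : ℝ) < n := by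
      rw [← hss]; nlinarith
    exact_mod_cast this
  -- μ ≥ 2
  have hμ2 : 2 ≤ μ := by
    by_contra h
    push Not at h
    interval_cases μ
    · simp at hI h2; omega
    · simp at hI h2; omega
  -- step 1 : 3 μ < v
  have h3 : 3 * μ < v := by
    by_contra h
    push Not at h
    have : v * μ ≤ 3 * μ * μ := Nat.mul_le_mul_right μ h
    nlinarith
  have h4 := hIV h3
  -- reals
  have hIr : (n : ℝ) + v ≤ v * μ + 1 := by exact_mod_cast hI
  have hIVr : (n : ℝ) * v ≤ v * v + 2 * μ * n := by exact_mod_cast h4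
  have hVr : (n : ℝ) ≤ 1 + w * w := by exact_mod_cast hV
  have hTr : (n : ℝ) = 1 + v + w := by exact_mod_cast hT
  have hv0 : (0 : ℝ) ≤ v := Nat.cast_nonneg v
  have hw0 : (0 : ℝ) ≤ w := Nat.cast_nonneg w
  have hμ2r : (2 : ℝ) ≤ μ := by exact_mod_cast hμ2
  -- s ≤ w + 1
  have hsu : s ≤ w + 1 := by
    by_contra h
    push Not at h
    nlinarith
  -- s ≤ v
  have hsv : s ≤ v := by
    by_contra h
    push Not at h
    have h5 : (v : ℝ) * (μ - 1) ≤ s * (μ - 1) := by
      apply mul_le_mul_of_nonneg_right h.le; linarith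
    have h6 : s * s - 1 ≤ v * (μ - 1) := by rw [hss]; linarith
    nlinarith
  have h7 : 0 ≤ ((w : ℝ) + 1 - s) * (v - s) := mul_nonneg (by linarith) (by linarith)
  have hs5 : 5 < s := by linarith
  nlinarith

variable {G Ω : Type*} [Group G] [MulAction G Ω] [Fintype Ω]

/-- Case B: if some pair `(α, δ)` with `δ ≠ α` is not in the symmetrised orbital of `(α, β)`,
then `α` and `β` are distinguished by at least `(√n - 1)/2` points. -/
theorem caseB [Finite G] (hprim : MulAction.IsPreprimitive G Ω) {α β δ : Ω} (hαβ : α ≠ β)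
    (hδ : Y G α β α δ) :
    (Real.sqrt (Fintype.card Ω) - 1) / 2 ≤ ((dset G α β).card : ℝ) :=
  arith (Fintype.card Ω) (nb G α β α).card (cnb G α β α).card (dset G α β).card
    (card_total α) (count_I hprim hαβ) (count_IV hprim hαβ) (count_V hprim hαβ hδ)

end Cfsg.Agent.Lib.Helper33_MinDegB5
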