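import Mathlib
import Cfsg.Agent.Lib.Helper33_U2Defs
import Cfsg.Agent.Lib.Helper33_U2Geo

set_option autoImplicit false

/-!
S2153-COMAP: pulling a `QDat` back to a subgroup containing `Q` and `K`.
-/

namespace Cfsg.Agent.Lib.Helper33_S2153_COMAP

open Cfsg.Agent.Lib.Helper33_U2Defs Cfsg.Agent.Lib.Helper33_U2Geo

variable {G : Type*} [Group G] {W : Type*} [AddCommGroup W]

lemma comap_t_val (D : QDat G W) (G0 : Subgroup G) (h : D.t ∈ G0) :
    ((comapDat D G0).t : G) = D.t := by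
  show ((open Classical in if h : D.t ∈ G0 then (⟨D.t, h⟩ : ↥G0) else 1 : ↥G0) : G) = D.t
  rw [dif_pos h]

lemma coe_pow_val (G0 : Subgroup G) (g : ↥G0) (n : ℕ) : ((g ^ n : ↥G0) : G) = (g : G) ^ n :=
  Subgroup.coe_pow G0 g n

/-- S2153-COMAP (S/M).  Pulling the datum back to a subgroup. -/
theorem COMAP_ok (D : QDat G W) (hD : D.Ok)
    (G0 : Subgroup G) (hQ : D.Q ≤ G0) (hK : D.K ≤ G0) : (comapDat D G0).Ok := by
  have ht0 : D.t ∈ G0 := hQ hD.t_mem
  have htv : ((comapDat D G0).t : G) = D.t := comap_t_val D G0 ht0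
  have hQmem : ∀ g : ↥G0, g ∈ (comapDat D G0).Q ↔ (g : G) ∈ D.Q := fun g => Subgroup.mem_subgroupOf
  have hKmem : ∀ g : ↥G0, g ∈ (comapDat D G0).K ↔ (g : G) ∈ D.K := fun g => Subgroup.mem_subgroupOf
  have hπ : ∀ g : ↥G0, (comapDat D G0).π g = D.π (g : G) := fun _ => rfl
  have hρ : ∀ (k : ↥G0) (w : W), (comapDat D G0).ρ k w = D.ρ (k : G) w := fun _ _ => rfl
  have hβ : (comapDat D G0).β = D.β := rfl
  have hqf : (comapDat D G0).qf = D.qf := rfl
  refine
    { t_mem := ?_, t_ne := ?_, t_sq := ?_, π_mul := ?_, π_surj := ?_, π_ker := ?_, π_t := ?_,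
      two := hD.two, comm := ?_, sq := ?_, β_add := ?_, β_symm := ?_, β_nondeg := ?_,
      qf_add := ?_, K_conj_mem := ?_, K_conj_π := ?_, K_t := ?_ }
  · rw [hQmem, htv]; exact hD.t_mem
  · intro h
    apply hD.t_ne
    rw [← htv, h]; rfl
  · apply Subtype.ext
    rw [Subgroup.coe_mul, htv]
    exact hD.t_sq
  · intro g hg g' hg'
    rw [hπ, hπ, hπ, Subgroup.coe_mul]
    exact hD.π_mul _ ((hQmem g).mp hg) _ ((hQmem g').mp hg')
  · intro w
    obtain ⟨g, hg, hgw⟩ := hD.π_surj w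
    exact ⟨⟨g, hQ hg⟩, (hQmem _).mpr hg, hgw⟩
  · intro g hg h0
    rcases hD.π_ker _ ((hQmem g).mp hg) h0 with h | h
    · left; exact Subtype.ext h
    · right; exact Subtype.ext (h.trans htv.symm)
  · rw [hπ, htv]; exact hD.π_t
  · intro g hg g' hg'
    apply Subtype.ext
    rw [Subgroup.coe_mul, Subgroup.coe_mul, Subgroup.coe_mul, coe_pow_val, htv, hβ, hπ, hπ]
    exact hD.comm _ ((hQmem g).mp hg) _ ((hQmem g').mp hg')
  · intro g hg
    apply Subtype.ext
    rw [Subgroup.coe_mul, coe_pow_val, htv, hqf, hπ]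
    exact hD.sq _ ((hQmem g).mp hg)
  · rw [hβ]; exact hD.β_add
  · rw [hβ]; exact hD.β_symm
  · rw [hβ]; exact hD.β_nondeg
  · rw [hβ, hqf]; exact hD.qf_add
  · intro k hk g hg
    rw [hQmem]
    rw [Subgroup.coe_mul, Subgroup.coe_mul, Subgroup.coe_inv]
    exact hD.K_conj_mem _ ((hKmem k).mp hk) _ ((hQmem g).mp hg)
  · intro k hk g hg
    rw [hπ, hρ, hπ, Subgroup.coe_mul, Subgroup.coe_mul, Subgroup.coe_inv]
    exact hD.K_conj_π _ ((hKmem k).mp hk) _ ((hQmem g).mp hg)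
  · intro k hk
    apply Subtype.ext
    rw [Subgroup.coe_mul, Subgroup.coe_mul, htv]
    exact hD.K_t _ ((hKmem k).mp hk)

theorem COMAP_mu (D : QDat G W)
    (G0 : Subgroup G) (hK : D.K ≤ G0) (m : ℕ)
    (hmu : ∀ L : Subgroup G, L ≤ D.K → L ≠ D.K → m ≤ L.relIndex D.K) :
    ∀ L : Subgroup ↥G0, L ≤ (comapDat D G0).K → L ≠ (comapDat D G0).K →
      m ≤ L.relIndex (comapDat D G0).K := by
  intro L hL hne
  have hKeq : (comapDat D G0).K = D.K.subgroupOf G0 := rfl
  rw [hKeq] at hL hne ⊢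
  have hmapK : (D.K.subgroupOf G0).map G0.subtype = D.K := by
    rw [Subgroup.map_subgroupOf_eq_of_le hK]
  have hle : L.map G0.subtype ≤ D.K := by
    rw [← hmapK]; exact Subgroup.map_mono hL
  have hne' : L.map G0.subtype ≠ D.K := by
    intro h
    apply hne
    rw [← hmapK] at h
    exact Subgroup.map_injective G0.subtype_injective h
  have := hmu _ hle hne'
  have hrel : (L.map G0.subtype).relIndex D.K = L.relIndex (D.K.subgroupOf G0) := by
    conv_lhs => rw [← hmapK]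
    exact Subgroup.relIndex_map_map_of_injective L (D.K.subgroupOf G0) G0.subtype_injective
  rw [hrel] at this
  exact this

end Cfsg.Agent.Lib.Helper33_S2153_COMAP
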