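import Mathlib
import Cfsg.Agent.Lib.Helper94_Herm
import Cfsg.Agent.Lib.Helper94_HermEich
import Cfsg.Agent.Lib.Helper13_SUGen

set_option autoImplicit false

/-!
S2153-EICH: algebra of Eichler elements.
-/

namespace Cfsg.Agent.Lib.Helper33_S2153_EICH

open Module Cfsg.Agent.Lib.Helper94_Symp Cfsg.Agent.Lib.Helper94_Herm
  Cfsg.Agent.Lib.Helper94_HermEich Cfsg.Agent.Lib.Helper13_SUGen

variable {F V : Type*} [Field F] [AddCommGroup V] [Module F V]
variable {σ : F →+* F} {B : V →ₗ[F] V →ₛₗ[σ] F}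

theorem EICH_zero {v : V} (hv : B v v = 0) (c : F) : eich B v 0 c = utv B v c := by
  ext x
  rw [eich_apply B hv (by simp) (by simp), utv_apply B hv]
  simp

theorem EICH_smul_left (hσ : Invol σ) {v y : V} (hv : B v v = 0) (hyv : B y v = 0)
    (hvy : B v y = 0) (a c : F) :
    eich B (a • v) y c = eich B v (σ a • y) (a * σ a * c) := by
  have h1 : B (a • v) (a • v) = 0 := by simp [hv]
  have h2 : B y (a • v) = 0 := by simp [hyv]
  have h3 : B (a • v) y = 0 := by simp [hvy]
  have h4 : B (σ a • y) v = 0 := by simp [hyv]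
  have h5 : B v (σ a • y) = 0 := by simp [hvy]
  ext x
  rw [eich_apply B h1 h2 h3, eich_apply B hv h4 h5]
  simp only [map_smulₛₗ, hσ.invol, smul_eq_mul]
  module

theorem EICH_add_smul {v y : V} (hv : B v v = 0) (hyv : B y v = 0) (hvy : B v y = 0) (a c : F) :
    eich B v (y + a • v) c = eich B v y (c + a - σ a) := by
  have h1 : B (y + a • v) v = 0 := by simp [hyv, hv]
  have h2 : B v (y + a • v) = 0 := by simp [hvy, hv]
  ext x
  rw [eich_apply B hv h1 h2, eich_apply B hv hyv hvy]
  simp only [map_add, map_smulₛₗ, smul_eq_mul]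
  module

theorem EICH_partner {v v' y : V} (h : HypPair B v v') (hyv : B y v = 0) (hvy : B v y = 0)
    (hv'y : B v' y = 0) (c : F) : eich B v y c v' = v' + y + c • v := by
  rw [eich_apply B h.ee hyv hvy, h.fe, hv'y]
  simp

end Cfsg.Agent.Lib.Helper33_S2153_EICH
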