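import Mathlib
import Cfsg.Agent.Lib.Helper94_Herm
import Cfsg.Agent.Lib.Helper94_HermTrans
import Cfsg.Agent.Lib.Helper94_HermEich
import Cfsg.Agent.Lib.Helper94_HermPara
import Cfsg.Agent.Lib.Helper94_HermWitt
import Cfsg.Agent.Lib.Helper94_HermIrr
import Cfsg.Agent.Lib.Helper13_SUGen
import Cfsg.Agent.Lib.Helper33_U2Defs
import Cfsg.Agent.Lib.Helper33_U2Geo
import Cfsg.Agent.Lib.Helper33_S2153_F4
import Cfsg.Agent.Lib.Helper33_S2153_EICH

set_option autoImplicit false

/-!
S2153-QSTR: structure of `Q_v`.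
-/

namespace Cfsg.Agent.Lib.Helper33_S2153_QSTR

open Module Cfsg.Agent.Lib.Helper94_Symp Cfsg.Agent.Lib.Helper94_Herm
  Cfsg.Agent.Lib.Helper94_HermTrans Cfsg.Agent.Lib.Helper94_HermEich
  Cfsg.Agent.Lib.Helper94_HermPara Cfsg.Agent.Lib.Helper94_HermWitt
  Cfsg.Agent.Lib.Helper94_HermIrr
  Cfsg.Agent.Lib.Helper13_SUGen
  Cfsg.Agent.Lib.Helper33_U2Defs Cfsg.Agent.Lib.Helper33_U2Geo
  Cfsg.Agent.Lib.Helper33_S2153_F4 Cfsg.Agent.Lib.Helper33_S2153_EICH

variable {F V : Type*} [Field F] [AddCommGroup V] [Module F V]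
variable {σ : F →+* F} {B : V →ₗ[F] V →ₛₗ[σ] F}

lemma mem_Wsub {U : Submodule F V} {v v' y : V} :
    y ∈ Wsub B U v v' ↔ y ∈ U ∧ B y v = 0 ∧ B y v' = 0 := by
  simp only [Wsub, Submodule.mem_inf, mem_orthV]
  tauto

/-- `W` is the kernel of `x ↦ (B x v, B x v')` on `U`. -/
theorem finrank_Wsub [FiniteDimensional F V] {U : Submodule F V} {v v' : V} (hvU : v ∈ U)
    (hv'U : v' ∈ U) (h : HypPair B v v') : finrank F (Wsub B U v v') + 2 = finrank F U := by
  set f : ↥U →ₗ[F] F × F := ((B.flip v).prod (B.flip v')).comp U.subtype with hf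
  have hfx : ∀ x : ↥U, f x = (B (x : V) v, B (x : V) v') := fun x => rfl
  have hsurj : LinearMap.range f = ⊤ := by
    rw [eq_top_iff]
    rintro ⟨a, b⟩ -
    refine ⟨⟨a • v' + b • v, U.add_mem (U.smul_mem _ hv'U) (U.smul_mem _ hvU)⟩, ?_⟩
    rw [hfx]
    simp [h.ee, h.ff, h.ef, h.fe]
  have hker : LinearMap.ker f = (Wsub B U v v').comap U.subtype := by
    ext x
    rw [LinearMap.mem_ker, hfx, Submodule.mem_comap, mem_Wsub, Prod.mk_eq_zero]
    simp
  have hle : Wsub B U v v' ≤ U := fun x hx => (mem_Wsub.mp hx).1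
  have h1 := LinearMap.finrank_range_add_finrank_ker f
  rw [hsurj, finrank_top, Module.finrank_prod, Module.finrank_self, hker,
    LinearEquiv.finrank_eq (Submodule.comapSubtypeEquivOfLe hle)] at h1
  omega

/-- the parameter set of `Q_v`. -/
def QSet (B : V →ₗ[F] V →ₛₗ[σ] F) (U : Submodule F V) (v v' : V) : Set (V ≃ₗ[F] V) :=
  {g | ∃ y ∈ Wsub B U v v', ∃ c : F, c + σ c = -(B y y) ∧ g = eich B v y c}

lemma eich_zero_zero {v : V} (hv : B v v = 0) : eich B v 0 0 = 1 := by
  ext x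
  rw [eich_apply B hv (by simp) (by simp)]
  simp

theorem QSTR_mem_iff (hσ : Invol σ) (hB : IsHerm B) {U : Submodule F V} {v v' : V}
    (hvU : v ∈ U) (hv'U : v' ∈ U) (h : HypPair B v v') (g : V ≃ₗ[F] V) :
    g ∈ QSub B U v ↔ ∃ y ∈ Wsub B U v v', ∃ c : F, c + σ c = -(B y y) ∧ g = eich B v y c := by
  constructor
  · intro hg
    unfold QSub at hg
    induction hg using Subgroup.closure_induction with
    | mem g hg =>
      obtain ⟨y, hy, c, hc, rfl⟩ := hg
      obtain ⟨hyU, hyv⟩ := Submodule.mem_inf.mp hy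
      rw [mem_orthV] at hyv
      have hvy : B v y = 0 := herm_eq_zero hB hyv
      set a := B y v' with ha
      have hy0 : y - a • v ∈ Wsub B U v v' := by
        rw [mem_Wsub]
        refine ⟨U.sub_mem hyU (U.smul_mem _ hvU), ?_, ?_⟩
        · simp [hyv, h.ee]
        · simp [h.ef, ha]
      have hy0v : B (y - a • v) v = 0 := (mem_Wsub.mp hy0).2.1
      have hvy0 : B v (y - a • v) = 0 := herm_eq_zero hB hy0v
      refine ⟨y - a • v, hy0, c + a - σ a, ?_, ?_⟩
      · have e1 : B (y - a • v) (y - a • v) = B y y := by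
          simp only [map_sub, map_smul, map_smulₛₗ, LinearMap.sub_apply, LinearMap.smul_apply,
            smul_eq_mul, hyv, hvy, h.ee]
          ring
        rw [e1, map_sub, map_add, hσ.invol]
        linear_combination hc
      · rw [← EICH_add_smul h.ee hy0v hvy0 a c, sub_add_cancel]
    | one =>
      exact ⟨0, Submodule.zero_mem _, 0, by simp, (eich_zero_zero h.ee).symm⟩
    | mul g g' _ _ hg hg' =>
      obtain ⟨y, hy, c, hc, rfl⟩ := hg
      obtain ⟨y', hy', c', hc', rfl⟩ := hg'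
      have hyv := (mem_Wsub.mp hy).2.1
      have hy'v := (mem_Wsub.mp hy').2.1
      refine ⟨y + y', Submodule.add_mem _ hy hy', c + c' - B y' y, ?_, ?_⟩
      · rw [map_sub, map_add, ← hB y' y]
        simp only [map_add, LinearMap.add_apply]
        linear_combination hc + hc'
      · exact eich_mul h.ee hyv (herm_eq_zero hB hyv) hy'v (herm_eq_zero hB hy'v) c c'
    | inv g _ hg =>
      obtain ⟨y, hy, c, hc, rfl⟩ := hg
      have hyv := (mem_Wsub.mp hy).2.1
      have hvy := herm_eq_zero hB hyv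
      have hnyv : B (-y) v = 0 := by simp [hyv]
      have hvny : B v (-y) = 0 := by simp [hvy]
      refine ⟨-y, Submodule.neg_mem _ hy, σ c, ?_, ?_⟩
      · rw [hσ.invol]
        simp only [map_neg, LinearMap.neg_apply, neg_neg]
        linear_combination hc
      · apply inv_eq_of_mul_eq_one_right
        rw [eich_mul h.ee hyv hvy hnyv hvny]
        have : c + σ c - B (-y) y = 0 := by
          simp only [map_neg, LinearMap.neg_apply]
          linear_combination hc
        rw [this, add_neg_cancel, eich_zero_zero h.ee]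
  · rintro ⟨y, hy, c, hc, rfl⟩
    apply Subgroup.subset_closure
    obtain ⟨hyU, hyv, -⟩ := mem_Wsub.mp hy
    exact ⟨y, Submodule.mem_inf.mpr ⟨hyU, mem_orthV.mpr hyv⟩, c, hc, rfl⟩

theorem QSTR_inj (hB : IsHerm B) {U : Submodule F V} {v v' : V} (h : HypPair B v v')
    {y y' : V} (hy : y ∈ Wsub B U v v') (hy' : y' ∈ Wsub B U v v') {c c' : F}
    (he : eich B v y c = eich B v y' c') : y = y' ∧ c = c' := by
  obtain ⟨-, hyv, hyv'⟩ := mem_Wsub.mp hy
  obtain ⟨-, hy'v, hy'v'⟩ := mem_Wsub.mp hy'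
  have h1 : eich B v y c v' = eich B v y' c' v' := by rw [he]
  rw [EICH_partner h hyv (herm_eq_zero hB hyv) (herm_eq_zero hB hyv'),
    EICH_partner h hy'v (herm_eq_zero hB hy'v) (herm_eq_zero hB hy'v')] at h1
  have h2 : y - y' = (c' - c) • v := by
    calc y - y' = (v' + y + c • v) - (v' + y' + c • v) := by abel
      _ = (v' + y' + c' • v) - (v' + y' + c • v) := by rw [h1]
      _ = (c' - c) • v := by rw [sub_smul]; abel
  have h3 := congrArg (fun x => B x v') h2
  simp only [map_sub, LinearMap.sub_apply, hyv', hy'v', map_smul, LinearMap.smul_apply, h.ef,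
    smul_eq_mul, mul_one, sub_self] at h3
  have hc : c = c' := by linear_combination h3
  refine ⟨?_, hc⟩
  rw [hc, sub_self, zero_smul] at h2
  exact sub_eq_zero.mp h2


section Four

variable [Fintype F] [FiniteDimensional F V]

/-- isotropic `y ⊥ v`: the Eichler element is a product of three transvections. -/
lemma eich_iso_mem (hF : Fintype.card F = 4) (hσ : Invol σ) (hB : IsHerm B)
    {U : Submodule F V} {v y : V} (hvU : v ∈ U) (hyU : y ∈ U) (hv : B v v = 0) (hy : B y y = 0)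
    (hyv : B y v = 0) {c : F} (hc : c + σ c = 0) : eich B v y c ∈ tvGroup B U := by
  obtain ⟨hadd, -, -, -, -, -, -, -, -⟩ := F4 hF hσ
  have hneg : ∀ x : F, -x = x := fun x => neg_eq_of_add_eq_zero_left (hadd x)
  have hvy : B v y = 0 := herm_eq_zero hB hyv
  have hσ1 : σ (1 : F) = -1 := by rw [map_one, hneg]
  have hvyy : B (v + y) (v + y) = 0 := by
    simp only [map_add, LinearMap.add_apply, hv, hy, hyv, hvy, add_zero]
  have h1 : eich B v y 0 * (utv B v 1 * utv B y 1) = utv B (v + y) 1 := by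
    ext x
    rw [LinearEquiv.mul_apply, LinearEquiv.mul_apply, utv_apply B hy, utv_apply B hv,
      eich_apply B hv hyv hvy, utv_apply B hvyy]
    simp only [map_add, map_smul, LinearMap.add_apply, LinearMap.smul_apply, smul_eq_mul, hv, hy,
      hyv, hvy, one_mul, mul_zero, add_zero, zero_mul, zero_smul]
    have e : -(B x y • v) = B x y • v := by rw [← neg_smul, hneg]
    rw [sub_eq_add_neg, e]
    module
  have h2 : eich B v y 0 = utv B (v + y) 1 * (utv B v 1 * utv B y 1)⁻¹ :=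
    eq_mul_inv_of_mul_eq h1
  have h3 : eich B v y c = eich B v y 0 * utv B v c := by
    rw [eich_mul_utv hv hyv hvy, zero_add]
  have hσc : σ c = -c := by linear_combination hc
  rw [h3, h2]
  exact mul_mem (mul_mem (utv_mem_tvGroup (U.add_mem hvU hyU) hvyy hσ1)
    (inv_mem (mul_mem (utv_mem_tvGroup hvU hv hσ1) (utv_mem_tvGroup hyU hy hσ1))))
    (utv_mem_tvGroup hvU hv hσc)

/-- For `|F| = 4` the Eichler elements are products of transvections. -/
theorem QSTR_le_tvGroup (hF : Fintype.card F = 4) (hσ : Invol σ) (hB : IsHerm B)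
    {U : Submodule F V} (hU : NondegOn B U) (h4 : 4 ≤ finrank F U) {v : V} (hvU : v ∈ U)
    (hv0 : v ≠ 0) (hv : B v v = 0) : QSub B U v ≤ tvGroup B U := by
  obtain ⟨hadd, -, -, -, -, -, -, -, -⟩ := F4 hF hσ
  have hneg : ∀ x : F, -x = x := fun x => neg_eq_of_add_eq_zero_left (hadd x)
  obtain ⟨v', hv'U, hv', hvv'⟩ := exists_partner hσ hB hU hvU hv0 hv
  have h := hypPair_mk hB hv hv' hvv'
  have hWnd : NondegOn B (Wsub B U v v') := nondegOn_pair hB hU hvU hv'U hv hv' hvv'
  have hWdim := finrank_Wsub hvU hv'U h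
  intro g hg
  obtain ⟨y, hy, c, hc, rfl⟩ := (QSTR_mem_iff hσ hB hvU hv'U h g).mp hg
  obtain ⟨hyU, hyv, hyv'⟩ := mem_Wsub.mp hy
  by_cases hyy : B y y = 0
  · exact eich_iso_mem hF hσ hB hvU hyU hv hyy hyv (by rw [hc, hyy, neg_zero])
  · have hκ : c + σ c = B y y := by rw [hc, hneg]
    obtain ⟨e, heW, f, hfW, he, hf, hef, hdec⟩ :=
      exists_pair_decomp hσ hB hWnd (by omega) hy hyy hκ
    obtain ⟨heU, hev, -⟩ := mem_Wsub.mp heW
    obtain ⟨hfU, hfv, -⟩ := mem_Wsub.mp hfW
    have hfe : B f e = 1 := by rw [hB e f, hef, map_one]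
    have hcfv : B (c • f) v = 0 := by simp [hfv]
    have hcf : B (c • f) (c • f) = 0 := by simp [hf]
    have hprod : eich B v y c = eich B v e 0 * eich B v (c • f) 0 := by
      rw [eich_mul hv hev (herm_eq_zero hB hev) hcfv (herm_eq_zero hB hcfv), ← hdec]
      congr 1
      simp only [map_smul, LinearMap.smul_apply, hfe, smul_eq_mul, mul_one, zero_add, zero_sub]
      rw [hneg]
    rw [hprod]
    exact mul_mem (eich_iso_mem hF hσ hB hvU heU hv he hev (by simp))
      (eich_iso_mem hF hσ hB hvU (U.smul_mem _ hfU) hv hcf hcfv (by simp))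

end Four

end Cfsg.Agent.Lib.Helper33_S2153_QSTR
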