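import Mathlib
import Cfsg.Agent.Lib.Helper94_Herm
import Cfsg.Agent.Lib.Helper94_HermTrans
import Cfsg.Agent.Lib.Helper94_HermEich
import Cfsg.Agent.Lib.Helper94_HermPara
import Cfsg.Agent.Lib.Helper94_HermWitt
import Cfsg.Agent.Lib.Helper94_HermIrr
import Cfsg.Agent.Lib.Helper13_SUGen
import Cfsg.Agent.Lib.Helper33_U2Defs
import Cfsg.Agent.Lib.Helper33_U2Geo
import Cfsg.Agent.Lib.Helper33_S2153_F4
import Cfsg.Agent.Lib.Helper33_S2153_EICH
import Cfsg.Agent.Lib.Helper33_S2153_QSTR

set_option autoImplicit false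

/-!
S2153-GOK: the ambient `Q_v`-datum satisfies the axioms.
-/

namespace Cfsg.Agent.Lib.Helper33_S2153_GOK

open Module Cfsg.Agent.Lib.Helper94_Symp Cfsg.Agent.Lib.Helper94_Herm
  Cfsg.Agent.Lib.Helper94_HermTrans Cfsg.Agent.Lib.Helper94_HermEich
  Cfsg.Agent.Lib.Helper94_HermPara
  Cfsg.Agent.Lib.Helper13_SUGen
  Cfsg.Agent.Lib.Helper33_U2Defs Cfsg.Agent.Lib.Helper33_U2Geo
  Cfsg.Agent.Lib.Helper33_S2153_F4 Cfsg.Agent.Lib.Helper33_S2153_EICH
  Cfsg.Agent.Lib.Helper33_S2153_QSTR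

variable {F V : Type*} [Field F] [AddCommGroup V] [Module F V]
variable {σ : F →+* F} {B : V →ₗ[F] V →ₛₗ[σ] F}

lemma projW_eich {v v' y : V} (h : HypPair B v v') (hyv : B y v = 0) (hyv' : B y v' = 0) (c : F) :
    projW B v v' (y + c • v) = y := by
  unfold projW
  simp only [map_add, map_smul, LinearMap.add_apply, LinearMap.smul_apply, hyv, hyv', h.ee, h.ef,
    smul_eq_mul, mul_one, mul_zero, zero_add, add_zero, zero_smul, sub_zero]
  abel

lemma pi_eich (hB : IsHerm B) {U : Submodule F V} {v v' : V} (h : HypPair B v v')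
    (K : Subgroup (V ≃ₗ[F] V)) {y : V} (hy : y ∈ Wsub B U v v') (c : F) :
    (qdatA B U v v' K).π (eich B v y c) = ⟨y, hy⟩ := by
  classical
  obtain ⟨-, hyv, hyv'⟩ := mem_Wsub.mp hy
  have e1 : eich B v y c v' - v' = y + c • v := by
    rw [EICH_partner h hyv (herm_eq_zero hB hyv) (herm_eq_zero hB hyv')]; abel
  have e2 : projW B v v' (eich B v y c v' - v') = y := by rw [e1, projW_eich h hyv hyv']
  show (if h : projW B v v' (eich B v y c v' - v') ∈ Wsub B U v v' then
    (⟨_, h⟩ : ↥(Wsub B U v v')) else 0) = _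
  rw [dif_pos (by rw [e2]; exact hy)]
  exact Subtype.ext e2

lemma rho_eq {U : Submodule F V} {v v' : V} (K : Subgroup (V ≃ₗ[F] V)) (k : V ≃ₗ[F] V)
    (w : ↥(Wsub B U v v')) {z : V} (hz : z ∈ Wsub B U v v')
    (he : σ (B (k v) v') • k (w : V) = z) :
    (qdatA B U v v' K).ρ k w = ⟨z, hz⟩ := by
  classical
  show (if h : σ (B (k v) v') • k (w : V) ∈ Wsub B U v v' then
    (⟨_, h⟩ : ↥(Wsub B U v v')) else w) = _
  rw [dif_pos (by rw [he]; exact hz)]
  exact Subtype.ext he

section Four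

variable [Fintype F] [FiniteDimensional F V]

/-- S2153-GOK (L).  The ambient datum satisfies the axioms. -/
theorem GOK (hF : Fintype.card F = 4) (hσ : Invol σ) (hB : IsHerm B) {U : Submodule F V}
    (hU : NondegOn B U) {v v' : V} (hvU : v ∈ U) (hv'U : v' ∈ U) (h : HypPair B v v')
    (K : Subgroup (V ≃ₗ[F] V)) (hK : K ≤ KFull B U v v') : (qdatA B U v v' K).Ok := by
  classical
  obtain ⟨hadd, hsq, hfix, hnorm1, ⟨ω, hω, hσω, hω0, hω1, hall⟩, htradd, htrσ, hnzadd, htrdef⟩ :=
    F4 hF hσ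
  have hneg : ∀ x : F, -x = x := fun x => neg_eq_of_add_eq_zero_left (hadd x)
  have hv0 : v ≠ 0 := by
    rintro rfl
    have := h.ef
    simp at this
  have hv'0 : v' ≠ 0 := by
    rintro rfl
    have := h.ef
    simp at this
  have hWnd : NondegOn B (Wsub B U v v') := nondegOn_pair hB hU hvU hv'U h.ee h.ff h.ef
  have hmem : ∀ g, g ∈ QSub B U v ↔
      ∃ y ∈ Wsub B U v v', ∃ c, c + σ c = -(B y y) ∧ g = eich B v y c :=
    QSTR_mem_iff hσ hB hvU hv'U h
  have hπe : ∀ {y : V} (hy : y ∈ Wsub B U v v') (c : F),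
      (qdatA B U v v' K).π (eich B v y c) = ⟨y, hy⟩ := fun hy c => pi_eich hB h K hy c
  have hW0 : (0 : V) ∈ Wsub B U v v' := Submodule.zero_mem _
  have ht_eich : ∀ d : F, utv B v d = eich B v 0 d := fun d => (EICH_zero h.ee d).symm
  have hutv_mul : ∀ {y : V} (_ : B y v = 0) (c d : F),
      utv B v d * eich B v y c = eich B v y (d + c) := by
    intro y hyv c d
    rw [ht_eich, eich_mul h.ee (by simp) (by simp) hyv (herm_eq_zero hB hyv)]
    simp
  have hutv0 : utv B v 0 = 1 := by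
    ext x
    rw [utv_apply B h.ee]
    simp
  have hval1 : (1 : ZMod 2).val = 1 := rfl
  have hval0 : (0 : ZMod 2).val = 0 := rfl
  have hfix1 : ∀ a : F, σ a = a → a ≠ 0 → a = 1 := fun a ha ha0 =>
    (hfix a ha).resolve_left ha0
  -- elements of `K`
  have hkey : ∀ k ∈ K, ∃ l : F, l ≠ 0 ∧ k v = l • v ∧ k ∈ uG B ∧ B (k v) v' = l ∧
      ∀ y ∈ Wsub B U v v', σ l • k y ∈ Wsub B U v v' := by
    intro k hk
    obtain ⟨⟨hkT, hkv⟩, hkv'⟩ := hK hk
    have hkU : k ∈ uG B := tvGroup_le_uG hB U hkT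
    obtain ⟨l, hl⟩ := Submodule.mem_span_singleton.mp
      ((mem_stab.mp hkv v).mp (Submodule.mem_span_singleton_self v))
    obtain ⟨l', hl'⟩ := Submodule.mem_span_singleton.mp
      ((mem_stab.mp hkv' v').mp (Submodule.mem_span_singleton_self v'))
    have hl0 : l ≠ 0 := by
      rintro rfl
      rw [zero_smul] at hl
      exact hv0 (by simpa using hl.symm)
    have hl'0 : l' ≠ 0 := by
      rintro rfl
      rw [zero_smul] at hl'
      exact hv'0 (by simpa using hl'.symm)
    refine ⟨l, hl0, hl.symm, hkU, by rw [← hl]; simp [h.ef], ?_⟩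
    intro y hy
    obtain ⟨hyU, hyv, hyv'⟩ := mem_Wsub.mp hy
    have h1 : B (k y) v = 0 := by
      have := hkU y v
      rw [hyv, ← hl, map_smulₛₗ, smul_eq_mul] at this
      rcases mul_eq_zero.mp this with h0 | h0
      · exact absurd ((map_eq_zero σ).mp h0) hl0
      · exact h0
    have h2 : B (k y) v' = 0 := by
      have := hkU y v'
      rw [hyv', ← hl', map_smulₛₗ, smul_eq_mul] at this
      rcases mul_eq_zero.mp this with h0 | h0
      · exact absurd ((map_eq_zero σ).mp h0) hl'0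
      · exact h0
    rw [mem_Wsub]
    refine ⟨U.smul_mem _ (tvGroup_map_mem hkT y hyU), ?_, ?_⟩
    · simp [h1]
    · simp [h2]
  have hconj : ∀ k ∈ K, ∀ l : F, k v = l • v → k ∈ uG B → ∀ y ∈ Wsub B U v v', ∀ c : F,
      k * eich B v y c * k⁻¹ = eich B v (σ l • k y) (l * σ l * c) := by
    intro k _ l hl hkU y hy c
    obtain ⟨-, hyv, -⟩ := mem_Wsub.mp hy
    have h1 : B (k y) v = 0 ∨ l = 0 := by
      have := hkU y v
      rw [hyv, hl, map_smulₛₗ, smul_eq_mul] at this
      rcases mul_eq_zero.mp this with h0 | h0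
      · right; exact (map_eq_zero σ).mp h0
      · left; exact h0
    rw [conj_eich hkU, hl]
    rcases h1 with h1 | rfl
    · exact EICH_smul_left hσ h.ee h1 (herm_eq_zero hB h1) l c
    · -- degenerate, impossible but harmless
      simp only [zero_smul, map_zero, zero_mul]
      have e1 : eich B (0 : V) (k y) c = 1 := by
        ext x
        rw [eich_apply B (by simp) (by simp) (by simp)]
        simp
      rw [e1, eich_zero_zero h.ee]
  refine
    { t_mem := ?_, t_ne := ?_, t_sq := ?_, π_mul := ?_, π_surj := ?_, π_ker := ?_, π_t := ?_,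
      two := ?_, comm := ?_, sq := ?_, β_add := ?_, β_symm := ?_, β_nondeg := ?_,
      qf_add := ?_, K_conj_mem := ?_, K_conj_π := ?_, K_t := ?_ }
  · -- t_mem
    show utv B v 1 ∈ QSub B U v
    rw [hmem]
    exact ⟨0, hW0, 1, by rw [map_one, hadd]; simp, ht_eich 1⟩
  · -- t_ne
    show utv B v 1 ≠ 1
    intro h1
    have h2 : utv B v 1 v' = v' := by rw [h1]; rfl
    rw [utv_apply B h.ee, h.fe, one_mul, one_smul] at h2
    exact hv0 (by simpa using h2)
  · -- t_sq
    show utv B v 1 * utv B v 1 = 1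
    have := hutv_mul (y := 0) (by simp) 1 1
    rw [← ht_eich, ← ht_eich, hadd, hutv0] at this
    exact this
  · -- π_mul
    intro g hg g' hg'
    obtain ⟨y, hy, c, hc, rfl⟩ := (hmem g).mp hg
    obtain ⟨y', hy', c', hc', rfl⟩ := (hmem g').mp hg'
    obtain ⟨-, hyv, -⟩ := mem_Wsub.mp hy
    obtain ⟨-, hy'v, -⟩ := mem_Wsub.mp hy'
    rw [eich_mul h.ee hyv (herm_eq_zero hB hyv) hy'v (herm_eq_zero hB hy'v),
      hπe (Submodule.add_mem _ hy hy'), hπe hy, hπe hy']
    rfl
  · -- π_surj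
    intro w
    obtain ⟨c, hc⟩ := tr_surj hσ (-(B (w : V) (w : V))) (by rw [map_neg, herm_self hB])
    exact ⟨eich B v w c, (hmem _).mpr ⟨w, w.2, c, hc, rfl⟩, hπe w.2 c⟩
  · -- π_ker
    intro g hg h0
    obtain ⟨y, hy, c, hc, rfl⟩ := (hmem g).mp hg
    rw [hπe hy] at h0
    have hy0 : y = 0 := congrArg Subtype.val h0
    subst hy0
    have hc' : σ c = c := by
      have : c + σ c = 0 := by rw [hc]; simp
      have h2 : σ c = -c := by linear_combination this
      rw [h2, hneg]
    rw [← ht_eich]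
    rcases hfix c hc' with rfl | rfl
    · left; exact hutv0
    · right; rfl
  · -- π_t
    show (qdatA B U v v' K).π (utv B v 1) = 0
    rw [ht_eich, hπe hW0]
    rfl
  · -- two
    intro w
    apply Subtype.ext
    show (w : V) + w = 0
    have : (w : V) + w = ((1 : F) + 1) • (w : V) := by rw [add_smul, one_smul]
    rw [this, hadd, zero_smul]
  · -- comm
    intro g hg g' hg'
    obtain ⟨y, hy, c, hc, rfl⟩ := (hmem g).mp hg
    obtain ⟨y', hy', c', hc', rfl⟩ := (hmem g').mp hg'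
    obtain ⟨-, hyv, -⟩ := mem_Wsub.mp hy
    obtain ⟨-, hy'v, -⟩ := mem_Wsub.mp hy'
    have hyy'v : B (y' + y) v = 0 := by simp [hyv, hy'v]
    rw [hπe hy, hπe hy']
    show _ = (utv B v 1) ^ (tr2 σ (B y y')).val * _
    rw [eich_mul h.ee hyv (herm_eq_zero hB hyv) hy'v (herm_eq_zero hB hy'v),
      eich_mul h.ee hy'v (herm_eq_zero hB hy'v) hyv (herm_eq_zero hB hyv)]
    have hfixed : σ (B y y' + σ (B y y')) = B y y' + σ (B y y') := by
      rw [map_add, hσ.invol, add_comm]
    by_cases htr : B y y' + σ (B y y') = 0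
    · have e : tr2 σ (B y y') = 0 := by simp only [tr2, htr, if_true]
      rw [e, hval0, pow_zero, one_mul, add_comm y y']
      congr 1
      rw [hB y y']
      have : σ (B y y') = B y y' := by
        have h2 : σ (B y y') = -(B y y') := by linear_combination htr
        rw [h2, hneg]
      rw [this]; ring
    · have e : tr2 σ (B y y') = 1 := by simp only [tr2, htr, if_false]
      have h1 := hfix1 _ hfixed htr
      rw [e, hval1, pow_one, hutv_mul hyy'v, add_comm y y']
      congr 1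
      rw [hB y y']
      have : σ (B y y') = 1 - B y y' := by linear_combination h1
      rw [this]
      linear_combination hadd (B y y') - hadd 1
  · -- sq
    intro g hg
    obtain ⟨y, hy, c, hc, rfl⟩ := (hmem g).mp hg
    obtain ⟨-, hyv, -⟩ := mem_Wsub.mp hy
    rw [hπe hy]
    show _ = (utv B v 1) ^ (nz2 (B y y)).val
    rw [eich_mul h.ee hyv (herm_eq_zero hB hyv) hyv (herm_eq_zero hB hyv)]
    have hyy : y + y = 0 := by
      have : y + y = ((1 : F) + 1) • y := by rw [add_smul, one_smul]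
      rw [this, hadd, zero_smul]
    rw [hyy, hadd, zero_sub, hneg, ← ht_eich]
    by_cases h0 : B y y = 0
    · have e : nz2 (B y y) = 0 := by simp only [nz2, h0, if_true]
      rw [e, hval0, pow_zero, h0, hutv0]
    · have e : nz2 (B y y) = 1 := by simp only [nz2, h0, if_false]
      rw [e, hval1, pow_one, hfix1 _ (herm_self hB y) h0]
  · -- β_add
    intro w w' u
    show tr2 σ (B ((w + w' : ↥(Wsub B U v v')) : V) (u : V)) = _
    rw [Submodule.coe_add, map_add, LinearMap.add_apply, htradd]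
    rfl
  · -- β_symm
    intro w u
    show tr2 σ (B (w : V) (u : V)) = tr2 σ (B (u : V) (w : V))
    rw [hB (u : V) (w : V), htrσ]
  · -- β_nondeg
    intro w hw
    by_contra hw0
    have hwV : (w : V) ≠ 0 := fun h0 => hw0 (Subtype.ext h0)
    obtain ⟨u, huW, hu⟩ := hWnd (w : V) w.2 hwV
    have := hw ⟨σ (ω / B (w : V) u) • u, Submodule.smul_mem _ _ huW⟩
    have e : B (w : V) (σ (ω / B (w : V) u) • u) = ω := by
      rw [map_smulₛₗ, hσ.invol, smul_eq_mul, div_mul_cancel₀ _ hu]
    have e2 : tr2 σ ω = 1 := by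
      have : ω + σ ω ≠ 0 := by
        rw [hσω]
        intro h0
        have : (1 : F) = 0 := by linear_combination h0 - hadd ω
        exact one_ne_zero this
      simp only [tr2, this, if_false]
    change tr2 σ (B (w : V) (σ (ω / B (w : V) u) • u)) = 0 at this
    rw [e, e2] at this
    exact one_ne_zero this
  · -- qf_add
    intro w w'
    show nz2 (B ((w + w' : ↥(Wsub B U v v')) : V) ((w + w' : ↥(Wsub B U v v')) : V)) =
      nz2 (B (w : V) (w : V)) + nz2 (B (w' : V) (w' : V)) + tr2 σ (B (w : V) (w' : V))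
    rw [Submodule.coe_add, self_add hB, htrdef]
    have f1 : σ (B (w : V) (w : V) + B (w' : V) (w' : V)) =
        B (w : V) (w : V) + B (w' : V) (w' : V) := by
      rw [map_add, herm_self hB, herm_self hB]
    have f2 : σ (B (w : V) (w' : V) + σ (B (w : V) (w' : V))) =
        B (w : V) (w' : V) + σ (B (w : V) (w' : V)) := by
      rw [map_add, hσ.invol, add_comm]
    rw [hnzadd _ _ f1 f2, hnzadd _ _ (herm_self hB _) (herm_self hB _)]
  · -- K_conj_mem
    intro k hk g hg
    obtain ⟨y, hy, c, hc, rfl⟩ := (hmem g).mp hg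
    obtain ⟨l, hl0, hl, hkU, -, hmemW⟩ := hkey k hk
    show _ ∈ QSub B U v
    rw [hconj k hk l hl hkU y hy c, hmem]
    refine ⟨_, hmemW y hy, _, ?_, rfl⟩
    rw [self_smul, hkU y y, hσ.invol, map_mul, map_mul, hσ.invol]
    linear_combination (l * σ l) * hc
  · -- K_conj_π
    intro k hk g hg
    obtain ⟨y, hy, c, hc, rfl⟩ := (hmem g).mp hg
    obtain ⟨l, hl0, hl, hkU, hBl, hmemW⟩ := hkey k hk
    rw [hconj k hk l hl hkU y hy c, hπe (hmemW y hy), hπe hy]
    symm
    apply rho_eq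
    rw [hBl]
  · -- K_t
    intro k hk
    obtain ⟨l, hl0, hl, hkU, -, -⟩ := hkey k hk
    show k * utv B v 1 = utv B v 1 * k
    have := conj_utv hkU v 1
    rw [hl, utv_smul, hnorm1 l hl0, one_mul] at this
    exact mul_inv_eq_iff_eq_mul.mp this

end Four

end Cfsg.Agent.Lib.Helper33_S2153_GOK
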