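import Mathlib
import Cfsg.Agent.Lib.Helper94_Herm
import Cfsg.Agent.Lib.Helper94_HermTrans
import Cfsg.Agent.Lib.Helper94_HermEich
import Cfsg.Agent.Lib.Helper94_HermPara
import Cfsg.Agent.Lib.Helper13_SUGen
import Cfsg.Agent.Lib.Helper33_U2Defs
import Cfsg.Agent.Lib.Helper33_U2Geo
import Cfsg.Agent.Lib.Helper33_S2153_F4
import Cfsg.Agent.Lib.Helper33_S2153_EICH
import Cfsg.Agent.Lib.Helper33_S2153_QSTR
import Cfsg.Agent.Lib.Helper33_S2153_GOK
import Cfsg.Agent.Lib.Helper68_S2153_S1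
import Cfsg.Agent.Lib.Helper10_S2153_RP

set_option autoImplicit false

/-!
S2153-FIX: fixed points of a 3-subgroup `S` stabilising the lines `Fv`, `Fv'` when `Q_v` is regular.
-/

namespace Cfsg.Agent.Lib.Helper33_S2153_FIX

open Module Cfsg.Agent.Lib.Helper94_Symp Cfsg.Agent.Lib.Helper94_Herm
  Cfsg.Agent.Lib.Helper94_HermTrans Cfsg.Agent.Lib.Helper94_HermEich
  Cfsg.Agent.Lib.Helper94_HermPara
  Cfsg.Agent.Lib.Helper13_SUGen
  Cfsg.Agent.Lib.Helper33_U2Defs Cfsg.Agent.Lib.Helper33_U2Geo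
  Cfsg.Agent.Lib.Helper33_S2153_F4 Cfsg.Agent.Lib.Helper33_S2153_EICH
  Cfsg.Agent.Lib.Helper33_S2153_QSTR Cfsg.Agent.Lib.Helper33_S2153_GOK

variable {F V : Type*} [Field F] [AddCommGroup V] [Module F V]
variable {σ : F →+* F} {B : V →ₗ[F] V →ₛₗ[σ] F}

/-- elements of `KFull` act on the parameters of `Q_v`. -/
lemma KFull_key [FiniteDimensional F V] (hσ : Invol σ) (hB : IsHerm B) {U : Submodule F V}
    {v v' : V} (h : HypPair B v v') {k : V ≃ₗ[F] V} (hk : k ∈ KFull B U v v') :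
    ∃ l : F, l ≠ 0 ∧ k v = l • v ∧ k ∈ uG B ∧ B (k v) v' = l ∧
      ∀ y ∈ Wsub B U v v', σ l • k y ∈ Wsub B U v v' ∧
        ∀ c : F, k * eich B v y c * k⁻¹ = eich B v (σ l • k y) (l * σ l * c) := by
  have hv0 : v ≠ 0 := by
    rintro rfl
    have := h.ef
    simp at this
  have hv'0 : v' ≠ 0 := by
    rintro rfl
    have := h.ef
    simp at this
  obtain ⟨⟨hkT, hkv⟩, hkv'⟩ := hk
  have hkU : k ∈ uG B := tvGroup_le_uG hB U hkT
  obtain ⟨l, hl⟩ := Submodule.mem_span_singleton.mp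
    ((mem_stab.mp hkv v).mp (Submodule.mem_span_singleton_self v))
  obtain ⟨l', hl'⟩ := Submodule.mem_span_singleton.mp
    ((mem_stab.mp hkv' v').mp (Submodule.mem_span_singleton_self v'))
  have hl0 : l ≠ 0 := by
    rintro rfl
    rw [zero_smul] at hl
    exact hv0 (by simpa using hl.symm)
  have hl'0 : l' ≠ 0 := by
    rintro rfl
    rw [zero_smul] at hl'
    exact hv'0 (by simpa using hl'.symm)
  refine ⟨l, hl0, hl.symm, hkU, by rw [← hl]; simp [h.ef], ?_⟩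
  intro y hy
  obtain ⟨hyU, hyv, hyv'⟩ := mem_Wsub.mp hy
  have h1 : B (k y) v = 0 := by
    have := hkU y v
    rw [hyv, ← hl, map_smulₛₗ, smul_eq_mul] at this
    rcases mul_eq_zero.mp this with h0 | h0
    · exact absurd ((map_eq_zero σ).mp h0) hl0
    · exact h0
  have h2 : B (k y) v' = 0 := by
    have := hkU y v'
    rw [hyv', ← hl', map_smulₛₗ, smul_eq_mul] at this
    rcases mul_eq_zero.mp this with h0 | h0
    · exact absurd ((map_eq_zero σ).mp h0) hl'0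
    · exact h0
  refine ⟨?_, ?_⟩
  · rw [mem_Wsub]
    refine ⟨U.smul_mem _ (tvGroup_map_mem hkT y hyU), ?_, ?_⟩
    · simp [h1]
    · simp [h2]
  · intro c
    rw [conj_eich hkU, ← hl]
    exact EICH_smul_left hσ h.ee h1 (herm_eq_zero hB h1) l c

section Four

variable [Fintype F] [FiniteDimensional F V]

/-- S2153-FIX (M/L). -/
theorem FIX (hF : Fintype.card F = 4) (hσ : Invol σ) (hB : IsHerm B) {U : Submodule F V}
    (hU : NondegOn B U) (h4 : 4 ≤ finrank F U) {v v' : V} (hvU : v ∈ U) (hv'U : v' ∈ U)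
    (h : HypPair B v v')
    {Ω : Type*} [MulAction ↥(tvGroup B U) Ω] [Finite Ω] [Nonempty Ω]
    (hreg : ∀ ω ω' : Ω, ∃! g : ↥(tvGroup B U),
      g ∈ (QSub B U v).subgroupOf (tvGroup B U) ∧ g • ω = ω')
    (S : Subgroup ↥(tvGroup B U)) (hS : IsPGroup 3 S)
    (hSv : ∀ s ∈ S, ∃ l : F, (s : V ≃ₗ[F] V) v = l • v)
    (hSv' : ∀ s ∈ S, ∃ l : F, (s : V ≃ₗ[F] V) v' = l • v') :
    Nat.card {ω : Ω // ∀ s ∈ S, s • ω = ω} =
      2 * Nat.card {y : V // y ∈ Wsub B U v v' ∧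
        ∀ s ∈ S, σ (B ((s : V ≃ₗ[F] V) v) v') • (s : V ≃ₗ[F] V) y = y} := by
  classical
  have : Finite V := Module.finite_of_finite F
  have : Finite (V ≃ₗ[F] V) := Finite.of_injective (fun g => (g : V → V)) DFunLike.coe_injective
  obtain ⟨hadd, hsq, hfix, hnorm1, -, -, -, -, -⟩ := F4 hF hσ
  have hneg : ∀ x : F, -x = x := fun x => neg_eq_of_add_eq_zero_left (hadd x)
  have hv0 : v ≠ 0 := by
    rintro rfl
    have := h.ef
    simp at this
  have hQle : QSub B U v ≤ tvGroup B U := QSTR_le_tvGroup hF hσ hB hU h4 hvU hv0 h.ee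
  have hOk := GOK hF hσ hB hU hvU hv'U h (KFull B U v v') le_rfl
  have hmem : ∀ g, g ∈ QSub B U v ↔
      ∃ y ∈ Wsub B U v v', ∃ c, c + σ c = -(B y y) ∧ g = eich B v y c :=
    QSTR_mem_iff hσ hB hvU hv'U h
  -- `S ⊆ KFull`
  have hSK : ∀ s ∈ S, (s : V ≃ₗ[F] V) ∈ KFull B U v v' := by
    intro s hs
    refine ⟨⟨s.2, mem_stab_of_forall_mem ?_⟩, mem_stab_of_forall_mem ?_⟩
    · intro x hx
      obtain ⟨a, rfl⟩ := Submodule.mem_span_singleton.mp hx
      obtain ⟨l, hl⟩ := hSv s hs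
      rw [map_smul, hl, smul_smul]
      exact Submodule.smul_mem _ _ (Submodule.mem_span_singleton_self v)
    · intro x hx
      obtain ⟨a, rfl⟩ := Submodule.mem_span_singleton.mp hx
      obtain ⟨l, hl⟩ := hSv' s hs
      rw [map_smul, hl, smul_smul]
      exact Submodule.smul_mem _ _ (Submodule.mem_span_singleton_self v')
  -- the conjugation formula for `S`
  have hSconj : ∀ s ∈ S, ∀ y ∈ Wsub B U v v',
      σ (B ((s : V ≃ₗ[F] V) v) v') • (s : V ≃ₗ[F] V) y ∈ Wsub B U v v' ∧ ∀ c : F,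
      (s : V ≃ₗ[F] V) * eich B v y c * (s : V ≃ₗ[F] V)⁻¹ =
        eich B v (σ (B ((s : V ≃ₗ[F] V) v) v') • (s : V ≃ₗ[F] V) y) c := by
    intro s hs y hy
    obtain ⟨l, hl0, hl, hkU, hBl, hrest⟩ := KFull_key hσ hB h (hSK s hs)
    obtain ⟨hW, hc⟩ := hrest y hy
    rw [hBl]
    refine ⟨hW, fun c => ?_⟩
    rw [hc c, hnorm1 l hl0, one_mul]
  -- cardinality of `Q`
  have hcQ : Nat.card ((QSub B U v).subgroupOf (tvGroup B U)) =
      2 * Nat.card ↥(Wsub B U v v') := by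
    have h1 := Cfsg.Agent.Lib.Helper68_S2153_S1.card_Q hOk
    have h2 : Nat.card ((QSub B U v).subgroupOf (tvGroup B U)) = Nat.card (QSub B U v) :=
      Nat.card_congr (Subgroup.subgroupOfEquivOfLe hQle).toEquiv
    rw [h2]
    exact h1
  have hcW : Nat.card ↥(Wsub B U v v') = 4 ^ finrank F ↥(Wsub B U v v') := by
    rw [Module.natCard_eq_pow_finrank (K := F) (V := ↥(Wsub B U v v')), Nat.card_eq_fintype_card,
      hF]
  have h3 : ¬ 3 ∣ Nat.card ((QSub B U v).subgroupOf (tvGroup B U)) := by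
    rw [hcQ, hcW]
    intro hdvd
    have hp : Nat.Prime 3 := by norm_num
    rcases (Nat.Prime.dvd_mul hp).mp hdvd with h2 | h2
    · omega
    · have := hp.dvd_of_dvd_pow h2
      omega
  have : Fact (Nat.Prime 3) := ⟨by norm_num⟩
  have hnormS : ∀ s ∈ S, ∀ g ∈ (QSub B U v).subgroupOf (tvGroup B U),
      s * g * s⁻¹ ∈ (QSub B U v).subgroupOf (tvGroup B U) := by
    intro s hs g hg
    rw [Subgroup.mem_subgroupOf] at hg ⊢
    rw [Subgroup.coe_mul, Subgroup.coe_mul, Subgroup.coe_inv]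
    exact hOk.K_conj_mem _ (hSK s hs) _ hg
  rw [Cfsg.Agent.Lib.Helper10_S2153_RP.RP ((QSub B U v).subgroupOf (tvGroup B U)) S hreg hnormS 3
    hS h3]
  -- count the centraliser
  have hcy : ∀ y : V, ∃ c : F, c + σ c = -(B y y) := fun y =>
    tr_surj hσ _ (by rw [map_neg, herm_self hB])
  choose cy hcy using hcy
  have hE : Nat.card {e : F // σ e = e} = 2 := by
    rw [Nat.card_eq_two_iff]
    refine ⟨⟨0, map_zero σ⟩, ⟨1, map_one σ⟩, ?_, ?_⟩
    · intro h01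
      exact zero_ne_one (congrArg Subtype.val h01)
    · ext e
      simp only [Set.mem_insert_iff, Set.mem_singleton_iff, Set.mem_univ, iff_true]
      rcases hfix e.1 e.2 with h0 | h1
      · left; exact Subtype.ext h0
      · right; exact Subtype.ext h1
  have hmemQ : ∀ (y : V) (hy : y ∈ Wsub B U v v') (e : F) (he : σ e = e),
      eich B v y (cy y + e) ∈ QSub B U v := by
    intro y hy e he
    rw [hmem]
    refine ⟨y, hy, _, ?_, rfl⟩
    rw [map_add, he]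
    linear_combination hcy y + hadd e
  set T := {y : V // y ∈ Wsub B U v v' ∧
        ∀ s ∈ S, σ (B ((s : V ≃ₗ[F] V) v) v') • (s : V ≃ₗ[F] V) y = y} with hT
  let φ : T × {e : F // σ e = e} →
      {g : ↥(tvGroup B U) // g ∈ (QSub B U v).subgroupOf (tvGroup B U) ∧
        ∀ s ∈ S, s * g = g * s} := fun p =>
    ⟨⟨eich B v p.1.1 (cy p.1.1 + p.2.1), hQle (hmemQ p.1.1 p.1.2.1 p.2.1 p.2.2)⟩,
      Subgroup.mem_subgroupOf.mpr (hmemQ p.1.1 p.1.2.1 p.2.1 p.2.2), by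
      intro s hs
      apply Subtype.ext
      rw [Subgroup.coe_mul, Subgroup.coe_mul]
      have := (hSconj s hs p.1.1 p.1.2.1).2 (cy p.1.1 + p.2.1)
      rw [p.1.2.2 s hs] at this
      exact mul_inv_eq_iff_eq_mul.mp this⟩
  have hφinj : Function.Injective φ := by
    rintro ⟨⟨y, hy⟩, ⟨e, he⟩⟩ ⟨⟨y', hy'⟩, ⟨e', he'⟩⟩ hpp
    have h1 : eich B v y (cy y + e) = eich B v y' (cy y' + e') :=
      congrArg (fun g => ((g.1 : ↥(tvGroup B U)) : V ≃ₗ[F] V)) hpp
    obtain ⟨hyy', hcc'⟩ := QSTR_inj hB h hy.1 hy'.1 h1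
    subst hyy'
    have : e = e' := add_left_cancel hcc'
    subst this
    rfl
  have hφsurj : Function.Surjective φ := by
    rintro ⟨g, hgQ, hgS⟩
    rw [Subgroup.mem_subgroupOf] at hgQ
    obtain ⟨y, hy, c, hc, hgy⟩ := (hmem _).mp hgQ
    have hyT : ∀ s ∈ S, σ (B ((s : V ≃ₗ[F] V) v) v') • (s : V ≃ₗ[F] V) y = y := by
      intro s hs
      obtain ⟨hW, hconj⟩ := hSconj s hs y hy
      have h1 : (s : V ≃ₗ[F] V) * (g : V ≃ₗ[F] V) = (g : V ≃ₗ[F] V) * (s : V ≃ₗ[F] V) := by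
        have := congrArg (fun x : ↥(tvGroup B U) => (x : V ≃ₗ[F] V)) (hgS s hs)
        simpa only [Subgroup.coe_mul] using this
      have h2 : (s : V ≃ₗ[F] V) * eich B v y c * (s : V ≃ₗ[F] V)⁻¹ = eich B v y c := by
        rw [← hgy, h1, mul_inv_cancel_right]
      rw [hconj c] at h2
      exact (QSTR_inj hB h hW hy h2).1
    have he : σ (c - cy y) = c - cy y := by
      have h1 : (c - cy y) + σ (c - cy y) = 0 := by
        rw [map_sub]
        linear_combination hc - hcy y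
      have h2 : σ (c - cy y) = -(c - cy y) := by linear_combination h1
      rw [h2, hneg]
    refine ⟨(⟨y, hy, hyT⟩, ⟨c - cy y, he⟩), ?_⟩
    apply Subtype.ext
    apply Subtype.ext
    show eich B v y (cy y + (c - cy y)) = (g : V ≃ₗ[F] V)
    rw [add_sub_cancel, hgy]
  rw [← Nat.card_congr (Equiv.ofBijective φ ⟨hφinj, hφsurj⟩), Nat.card_prod, hE, mul_comm]

end Four

end Cfsg.Agent.Lib.Helper33_S2153_FIX
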