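import Mathlib
import Cfsg.Agent.Lib.Helper94_Herm
import Cfsg.Agent.Lib.Helper94_HermTrans
import Cfsg.Agent.Lib.Helper94_HermEich
import Cfsg.Agent.Lib.Helper94_HermPara
import Cfsg.Agent.Lib.Helper94_HermTI
import Cfsg.Agent.Lib.Helper13_SUGen
import Cfsg.Agent.Lib.Helper33_U2Defs
import Cfsg.Agent.Lib.Helper33_U2Geo
import Cfsg.Agent.Lib.Helper33_S2153_F4
import Cfsg.Agent.Lib.Helper33_S2153_EICH
import Cfsg.Agent.Lib.Helper33_S2153_QSTR

set_option autoImplicit false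

/-!
S2153-GFP: the three geometric hypotheses of package FP.
-/

namespace Cfsg.Agent.Lib.Helper33_S2153_GFP

open Module Cfsg.Agent.Lib.Helper94_Symp Cfsg.Agent.Lib.Helper94_Herm
  Cfsg.Agent.Lib.Helper94_HermTrans Cfsg.Agent.Lib.Helper94_HermEich
  Cfsg.Agent.Lib.Helper94_HermPara Cfsg.Agent.Lib.Helper94_HermTI
  Cfsg.Agent.Lib.Helper13_SUGen
  Cfsg.Agent.Lib.Helper33_U2Defs Cfsg.Agent.Lib.Helper33_U2Geo
  Cfsg.Agent.Lib.Helper33_S2153_F4 Cfsg.Agent.Lib.Helper33_S2153_EICH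
  Cfsg.Agent.Lib.Helper33_S2153_QSTR

variable {F V : Type*} [Field F] [AddCommGroup V] [Module F V]
variable {σ : F →+* F} {B : V →ₗ[F] V →ₛₗ[σ] F}

lemma eich_mem_QSub {U : Submodule F V} {u y : V} (hyU : y ∈ U) (hyu : B y u = 0) {c : F}
    (hc : c + σ c = -(B y y)) : eich B u y c ∈ QSub B U u :=
  Subgroup.subset_closure ⟨y, Submodule.mem_inf.mpr ⟨hyU, mem_orthV.mpr hyu⟩, c, hc, rfl⟩

theorem GFP_QQ (hB : IsHerm B) {U : Submodule F V}
    (hU : NondegOn B U) {u v : V} (huU : u ∈ U) (hvU : v ∈ U) (hu : B u u = 0) (hv : B v v = 0)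
    (huv : B u v = 0) (hne : ∀ l : F, v ≠ l • u) (hu0 : u ≠ 0) :
    ∃ g ∈ QSub B U u, g ∈ QSub B U v ∧ g ≠ 1 := by
  have hvu : B v u = 0 := herm_eq_zero hB huv
  refine ⟨eich B u v 0, eich_mem_QSub hvU hvu (by simp [hv]), ?_, ?_⟩
  · rw [eich_swap hv hu hvu huv]
    exact inv_mem (eich_mem_QSub huU huv (by simp [hu]))
  · intro h1
    obtain ⟨x, hxU, hx⟩ := hU u huU hu0
    have hxu : B x u ≠ 0 := fun h0 => hx (herm_eq_zero hB h0)
    have h2 : eich B u v 0 x = x := by rw [h1]; rfl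
    rw [eich_apply B hu hvu huv] at h2
    have h3 : B x u • v = B x v • u := by
      have : x + B x u • v - B x v • u + ((0 : F) * B x u) • u = x := h2
      rw [zero_mul, zero_smul, add_zero] at this
      have h4 : x + (B x u • v - B x v • u) = x + 0 := by rw [add_zero, ← add_sub_assoc, this]
      exact sub_eq_zero.mp (add_left_cancel h4)
    apply hne ((B x u)⁻¹ * B x v)
    rw [mul_smul, ← h3, smul_smul, inv_mul_cancel₀ hxu, one_smul]

theorem GFP_opp (hB : IsHerm B) (hσ : Invol σ) {U : Submodule F V}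
    {u x y : V} (huU : u ∈ U) (hxU : x ∈ U) (hyU : y ∈ U) (hu : B u u = 0)
    (hx : B x x = 0) (hy : B y y = 0) (hux : B u x ≠ 0) (huy : B u y ≠ 0) :
    ∃ g ∈ QSub B U u, ∃ l : F, g x = l • y := by
  -- normalise
  set a : F := σ (B u x)⁻¹ with ha
  set b : F := σ (B u y)⁻¹ with hb
  have ha0 : a ≠ 0 := by
    rw [ha]; exact (map_ne_zero σ).mpr (inv_ne_zero hux)
  set x' := a • x with hx'
  set y' := b • y with hy'
  have hux' : B u x' = 1 := by
    rw [hx', map_smulₛₗ, ha, hσ.invol, smul_eq_mul, inv_mul_cancel₀ hux]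
  have huy' : B u y' = 1 := by
    rw [hy', map_smulₛₗ, hb, hσ.invol, smul_eq_mul, inv_mul_cancel₀ huy]
  have hx'u : B x' u = 1 := by rw [hB u x', hux', map_one]
  have hy'u : B y' u = 1 := by rw [hB u y', huy', map_one]
  have hx'x' : B x' x' = 0 := by rw [hx', self_smul, hx, mul_zero]
  have hy'y' : B y' y' = 0 := by rw [hy', self_smul, hy, mul_zero]
  have hx'U : x' ∈ U := U.smul_mem _ hxU
  have hy'U : y' ∈ U := U.smul_mem _ hyU
  have hpair : HypPair B u x' := ⟨hu, hx'x', hux', hx'u⟩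
  set c : F := B y' x' with hc
  set w : V := y' - x' - c • u with hw
  have hwu : B w u = 0 := by
    simp only [hw, map_sub, map_smul, LinearMap.sub_apply, LinearMap.smul_apply, hy'u, hx'u, hu,
      smul_eq_mul, mul_zero, sub_self]
  have huw : B u w = 0 := herm_eq_zero hB hwu
  have hwx' : B w x' = 0 := by
    simp only [hw, map_sub, map_smul, LinearMap.sub_apply, LinearMap.smul_apply, hx'x', hux',
      smul_eq_mul, mul_one, sub_zero, hc, sub_self]
  have hx'w : B x' w = 0 := herm_eq_zero hB hwx'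
  have hwU : w ∈ U := U.sub_mem (U.sub_mem hy'U hx'U) (U.smul_mem _ huU)
  have hcw : c + σ c = -(B w w) := by
    have e1 : B x' y' = σ c := by rw [hc, ← hB y' x']
    simp only [hw, map_sub, map_smul, map_smulₛₗ, LinearMap.sub_apply, LinearMap.smul_apply,
      hy'y', hx'x', hy'u, hx'u, hux', huy', hu, smul_eq_mul, mul_zero, mul_one, e1, ← hc]
    ring
  refine ⟨eich B u w c, eich_mem_QSub hwU hwu hcw, a⁻¹ * b, ?_⟩
  have h1 : eich B u w c x' = y' := by
    rw [EICH_partner hpair hwu huw hx'w, hw]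
    abel
  have hxa : x = a⁻¹ • x' := by rw [hx', smul_smul, inv_mul_cancel₀ ha0, one_smul]
  rw [hxa, map_smul, h1, hy', smul_smul]

theorem GFP_line [Finite F] (hσ : Invol σ) (hB : IsHerm B) {U : Submodule F V}
    (hU : NondegOn B U) {u x v : V} (huU : u ∈ U) (hxU : x ∈ U) (hu0 : u ≠ 0) (hu : B u u = 0)
    (hx : B x x = 0) (hux : B u x = 0) (hne : ∀ l : F, x ≠ l • u) :
    ∃ z ∈ U, z ≠ 0 ∧ B z z = 0 ∧ B z v = 0 ∧
      ((∃ l : F, z = l • u) ∨ ∃ g ∈ QSub B U u, ∃ l : F, g x = l • z) := by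
  have hxu : B x u = 0 := herm_eq_zero hB hux
  have hx0 : x ≠ 0 := by
    have := hne 0
    rwa [zero_smul] at this
  by_cases hxv : B x v = 0
  · exact ⟨x, hxU, hx0, hx, hxv, Or.inr ⟨1, Subgroup.one_mem _, 1, by simp⟩⟩
  set s : F := B u v / B x v with hs
  by_cases hs0 : s = 0
  · have huv : B u v = 0 := by
      rw [hs, div_eq_zero_iff] at hs0
      exact hs0.resolve_right hxv
    exact ⟨u, huU, hu0, hu, huv, Or.inl ⟨1, (one_smul _ _).symm⟩⟩
  -- the point `z = u - s x`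
  have hz0 : u - s • x ≠ 0 := by
    intro h0
    apply hne s⁻¹
    rw [sub_eq_zero.mp h0, smul_smul, inv_mul_cancel₀ hs0, one_smul]
  have hzz : B (u - s • x) (u - s • x) = 0 := by
    simp only [map_sub, map_smul, map_smulₛₗ, LinearMap.sub_apply, LinearMap.smul_apply, hu, hx,
      hux, hxu, smul_eq_mul, mul_zero, sub_zero]
  have hzv : B (u - s • x) v = 0 := by
    rw [map_sub, LinearMap.sub_apply, map_smul, LinearMap.smul_apply, smul_eq_mul, hs,
      div_mul_cancel₀ _ hxv, sub_self]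
  refine ⟨u - s • x, U.sub_mem huU (U.smul_mem _ hxU), hz0, hzz, hzv, Or.inr ?_⟩
  -- a vector `w ∈ W` with `B x w = s⁻¹`
  obtain ⟨u', hu'U, hu', huu'⟩ := exists_partner hσ hB hU huU hu0 hu
  have hu'u : B u' u = 1 := by rw [hB u u', huu', map_one]
  have hWnd : NondegOn B (Wsub B U u u') := nondegOn_pair hB hU huU hu'U hu hu' huu'
  set xW : V := x - B x u' • u with hxW
  have hxWW : xW ∈ Wsub B U u u' := by
    rw [mem_Wsub]
    refine ⟨U.sub_mem hxU (U.smul_mem _ huU), ?_, ?_⟩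
    · simp [hxW, hxu, hu]
    · simp [hxW, huu']
  have hxW0 : xW ≠ 0 := by
    intro h0
    exact hne _ (sub_eq_zero.mp h0)
  obtain ⟨w0, hw0W, hw0⟩ := hWnd xW hxWW hxW0
  obtain ⟨hw0U, hw0u, -⟩ := mem_Wsub.mp hw0W
  have huw0 : B u w0 = 0 := herm_eq_zero hB hw0u
  have hxw0 : B x w0 = B xW w0 := by
    simp [hxW, huw0]
  set w : V := σ (s⁻¹ / B x w0) • w0 with hw
  have hxw : B x w = s⁻¹ := by
    rw [hw, map_smulₛₗ, hσ.invol, smul_eq_mul, hxw0, div_mul_cancel₀ _ hw0]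
  have hwU : w ∈ U := U.smul_mem _ hw0U
  have hwu : B w u = 0 := by simp [hw, hw0u]
  have huw : B u w = 0 := herm_eq_zero hB hwu
  obtain ⟨c, hc⟩ := tr_surj hσ (-(B w w)) (by rw [map_neg, herm_self hB])
  refine ⟨eich B u w c, eich_mem_QSub hwU hwu hc, (-s)⁻¹, ?_⟩
  have e : (-s)⁻¹ • (u - s • x) = x - s⁻¹ • u := by
    rw [smul_sub, smul_smul, inv_neg, neg_mul, inv_mul_cancel₀ hs0]
    module
  rw [eich_apply B hu hwu huw, hxu, hxw, e]
  simp only [zero_smul, mul_zero, add_zero]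

end Cfsg.Agent.Lib.Helper33_S2153_GFP
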