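import Mathlib
import Cfsg.Agent.Lib.Helper56_S3366Defs

/-!
# S3366 package INVERT (architect helper56)

In a `Setting Q Z ψ`, an involution `z` above `-1` inverts `Q/Z`.
-/

set_option autoImplicit false
open Cfsg.Agent.Lib.Helper56_S3366Defs
open scoped commutatorElement

namespace Cfsg.Agent.Lib.Helper33_S3366_INVERT

theorem arith (d c : ℕ) (h3 : 3 ∣ d) (hdc : d ∣ c) (hc : c ∣ 27) (hd3 : d ≠ 3) (hdc' : d ≠ c) :
    c = 27 := by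
  have hc27 : c ≤ 27 := Nat.le_of_dvd (by norm_num) hc
  have hcpos : 0 < c := Nat.pos_of_dvd_of_pos hc (by norm_num)
  have hdle : d ≤ c := Nat.le_of_dvd hcpos hdc
  have key : ∀ c' : Fin 28, ∀ d' : Fin 28, 3 ∣ d'.val → d'.val ∣ c'.val → c'.val ∣ 27 →
      d'.val ≠ 3 → d'.val ≠ c'.val → c'.val = 27 := by decide
  exact key ⟨c, by omega⟩ ⟨d, by omega⟩ h3 hdc hc hd3 hdc'

variable {X : Type*} [Group X]

section setting
variable {Q Z : Subgroup X} {ψ : X →* SL2}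

theorem comm_inv_right (hS : Setting Q Z ψ) {a b : X} (ha : a ∈ Q) (hb : b ∈ Q) :
    ⁅a, b⁻¹⁆ = ⁅a, b⁆⁻¹ := by
  have hc : ⁅a, b⁆⁻¹ ∈ Z := Z.inv_mem (hS.comm_mem a ha b hb)
  have h1 := hS.Zcentral _ hc b hb
  have h2 : ⁅a, b⁻¹⁆ = b⁻¹ * ⁅a, b⁆⁻¹ * b := by
    simp only [commutatorElement_def]; group
  rw [h2, mul_assoc, h1, ← mul_assoc, inv_mul_cancel, one_mul]

theorem comm_mul_left_central (hS : Setting Q Z ψ) {ξ a b : X} (hξ : ξ ∈ Z) (ha : a ∈ Q)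
    (hb : b ∈ Q) : ⁅ξ * a, b⁆ = ⁅a, b⁆ := by
  have h1 : ξ * (a * b * a⁻¹) = (a * b * a⁻¹) * ξ :=
    hS.Zcentral ξ hξ _ (Q.mul_mem (Q.mul_mem ha hb) (Q.inv_mem ha))
  simp only [commutatorElement_def]
  calc ξ * a * b * (ξ * a)⁻¹ * b⁻¹ = ξ * (a * b * a⁻¹) * ξ⁻¹ * b⁻¹ := by group
    _ = a * b * a⁻¹ * ξ * ξ⁻¹ * b⁻¹ := by rw [h1]
    _ = a * b * a⁻¹ * b⁻¹ := by group

/-- **INVERT**. -/
theorem inverts (hS : Setting Q Z ψ)
    (hcz : ∀ x : X, ∀ ξ ∈ Z, x * ξ * x⁻¹ = ξ)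
    (hfaith : ∀ x : X, (∀ q ∈ Q, ⁅x, q⁆ ∈ Z) → x ∈ Q)
    (z : X) (hz2 : z ^ 2 = 1) (hz : ψ z = -1) :
    ∀ q ∈ Q, z * q * z⁻¹ * q ∈ Z := by
  classical
  have := hS.fin
  have hQn := hS.Qnormal
  have hZn := hS.Znormal
  by_contra hcon
  push Not at hcon
  obtain ⟨q₀, hq₀, hq₀Z⟩ := hcon
  -- `z ∉ Q`
  have hzQ : z ∉ Q := by
    intro h
    rw [← hS.ψker, MonoidHom.mem_ker, hz] at h
    exact absurd h (by decide)
  obtain ⟨q₁, hq₁, hq₁Z⟩ : ∃ q₁ ∈ Q, ⁅z, q₁⁆ ∉ Z := by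
    by_contra h
    push Not at h
    exact hzQ (hfaith z h)
  -- the automorphism `σ`
  set σ : MulAut X := MulAut.conj z with hσ
  have hσa : ∀ x, σ x = z * x * z⁻¹ := fun x => MulAut.conj_apply z x
  have hσσ : ∀ x, σ (σ x) = x := by
    intro x
    have : σ * σ = 1 := by
      rw [hσ, ← map_mul, ← pow_two, hz2, map_one]
    calc σ (σ x) = (σ * σ) x := rfl
      _ = x := by rw [this]; rfl
  have hσZ : ∀ ξ ∈ Z, σ ξ = ξ := fun ξ hξ => by rw [hσa]; exact hcz z ξ hξ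
  have hσQ : ∀ q ∈ Q, σ q ∈ Q := fun q hq => by rw [hσa]; exact hQn.conj_mem q hq z
  -- the two elements
  set p : X := σ q₀ * q₀ with hp
  set p' : X := σ q₁ * q₁⁻¹ with hp'
  have hpQ : p ∈ Q := Q.mul_mem (hσQ _ hq₀) hq₀
  have hp'Q : p' ∈ Q := Q.mul_mem (hσQ _ hq₁) (Q.inv_mem hq₁)
  have hpZ : p ∉ Z := by rw [hp, hσa]; exact hq₀Z
  have hp'Z : p' ∉ Z := by
    rw [hp', hσa]
    rwa [commutatorElement_def] at hq₁Z
  have hσp : σ p * p⁻¹ ∈ Z := by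
    have : σ p * p⁻¹ = ⁅q₀, σ q₀⁆ := by
      rw [hp, map_mul, hσσ, commutatorElement_def]; group
    rw [this]
    exact hS.comm_mem _ hq₀ _ (hσQ _ hq₀)
  have hσp' : σ p' = p'⁻¹ := by
    rw [hp', map_mul, map_inv, hσσ]; group
  have hcube : ∀ q ∈ Q, q ^ 3 = 1 := hS.Qexp
  -- `p` and `p'` commute
  have hcomm : p * p' = p' * p := by
    have hc : ⁅p, p'⁆ ∈ Z := hS.comm_mem _ hpQ _ hp'Q
    have h1 : σ ⁅p, p'⁆ = ⁅p, p'⁆ := hσZ _ hc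
    have h2 : σ ⁅p, p'⁆ = ⁅p, p'⁆⁻¹ := by
      rw [map_commutatorElement, hσp']
      have : σ p = (σ p * p⁻¹) * p := by group
      rw [this, comm_mul_left_central hS hσp hpQ (Q.inv_mem hp'Q), comm_inv_right hS hpQ hp'Q]
    have h3 : ⁅p, p'⁆ * ⁅p, p'⁆ = 1 := by
      nth_rewrite 1 [← h1]
      rw [h2, inv_mul_cancel]
    have h4 : ⁅p, p'⁆ ^ 3 = 1 := hcube _ (hS.ZleQ hc)
    have h5 : ⁅p, p'⁆ = 1 := by
      rw [pow_succ, pow_two, h3, one_mul] at h4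
      exact h4
    exact commutatorElement_eq_one_iff_mul_comm.mp h5
  -- the subgroup `A` of the elements fixed modulo `Z`
  let A : Subgroup X :=
    { carrier := {q | q ∈ Q ∧ σ q * q⁻¹ ∈ Z}
      one_mem' := ⟨Q.one_mem, by simp [Z.one_mem]⟩
      mul_mem' := by
        rintro a b ⟨ha, ha'⟩ ⟨hb, hb'⟩
        refine ⟨Q.mul_mem ha hb, ?_⟩
        have h1 := hS.Zcentral _ hb' _ (Q.inv_mem ha)
        have : σ (a * b) * (a * b)⁻¹ = σ a * ((σ b * b⁻¹) * a⁻¹) := by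
          rw [map_mul]; group
        rw [this, h1, ← mul_assoc]
        exact Z.mul_mem ha' hb'
      inv_mem' := by
        rintro a ⟨ha, ha'⟩
        refine ⟨Q.inv_mem ha, ?_⟩
        have : σ a⁻¹ * a⁻¹⁻¹ = a⁻¹ * (σ a * a⁻¹)⁻¹ * a⁻¹⁻¹ := by
          rw [map_inv]; group
        rw [this]
        exact hZn.conj_mem _ (Z.inv_mem ha') _ }
  have hA : ∀ q, q ∈ A ↔ q ∈ Q ∧ σ q * q⁻¹ ∈ Z := fun q => Iff.rfl
  let C : Subgroup X := Q ⊓ Subgroup.centralizer {p}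
  have hC : ∀ q, q ∈ C ↔ q ∈ Q ∧ p * q = q * p := by
    intro q
    rw [Subgroup.mem_inf, Subgroup.mem_centralizer_iff]
    simp
  let D : Subgroup X := A ⊓ C
  have hZD : Z ≤ D := by
    intro ξ hξ
    refine ⟨(hA ξ).2 ⟨hS.ZleQ hξ, ?_⟩, (hC ξ).2 ⟨hS.ZleQ hξ, (hS.Zcentral ξ hξ p hpQ).symm⟩⟩
    rw [hσZ ξ hξ, mul_inv_cancel]
    exact Z.one_mem
  have hDC : D ≤ C := inf_le_right
  have hCQ : C ≤ Q := inf_le_left
  have hpD : p ∈ D := ⟨(hA p).2 ⟨hpQ, hσp⟩, (hC p).2 ⟨hpQ, rfl⟩⟩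
  have hp'C : p' ∈ C := (hC p').2 ⟨hp'Q, hcomm⟩
  have hp'A : p' ∉ A := by
    intro h
    have h1 := ((hA p').1 h).2
    rw [hσp'] at h1
    -- `p'⁻¹ * p'⁻¹ ∈ Z`, so `p' ∈ Z`
    have h2 : p' = (p'⁻¹ * p'⁻¹) * (p'⁻¹ * p'⁻¹) * p' ^ 3 * p' ^ 2 := by group
    rw [hcube _ hp'Q, mul_one] at h2
    have h3 : p' ^ 2 = (p'⁻¹ * p'⁻¹)⁻¹ := by group
    apply hp'Z
    rw [h2, h3]
    exact Z.mul_mem (Z.mul_mem h1 h1) (Z.inv_mem h1)
  -- cardinalities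
  have hd1 : Nat.card Z ∣ Nat.card D := Subgroup.card_dvd_of_le hZD
  have hd2 : Nat.card D ∣ Nat.card C := Subgroup.card_dvd_of_le hDC
  have hd3 : Nat.card C ∣ Nat.card Q := Subgroup.card_dvd_of_le hCQ
  rw [hS.Zcard] at hd1
  rw [hS.Qcard] at hd3
  have hne1 : Nat.card D ≠ 3 := by
    intro h
    have : Z = D := Subgroup.eq_of_le_of_card_ge hZD (by rw [h, hS.Zcard])
    exact hpZ (this ▸ hpD)
  have hne2 : Nat.card D ≠ Nat.card C := by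
    intro h
    have : D = C := Subgroup.eq_of_le_of_card_ge hDC (by rw [h])
    have h1 : p' ∈ D := this ▸ hp'C
    exact hp'A h1.1
  have hcardC : Nat.card C = 27 := arith _ _ hd1 hd2 hd3 hne1 hne2
  have hCeq : C = Q := Subgroup.eq_of_le_of_card_ge hCQ (by rw [hcardC, hS.Qcard])
  apply hpZ
  apply hS.Zcenter p hpQ
  intro q hq
  have : q ∈ C := hCeq ▸ hq
  exact ((hC q).1 this).2

end setting

end Cfsg.Agent.Lib.Helper33_S3366_INVERT
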