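import Mathlib
import Cfsg.Agent.Lib.Helper56_S3366Defs

/-!
# S3366 package ORD3 (architect helper56)

In a `Setting Q Z ψ` with an involution `z` whose inverted elements form a section of `Q → Q/Z`
and with `X = Q · C_X(z)`, an elementary abelian subgroup `E` of order 27 yields an element of
order three of `C_X(z)` outside `Q`.
-/

set_option autoImplicit false
open Cfsg.Agent.Lib.Helper56_S3366Defs
open scoped commutatorElement

namespace Cfsg.Agent.Lib.Helper33_S3366_ORD3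

variable {X : Type*} [Group X]

/-- **ORD3**. -/
theorem exists_order_three {Q Z : Subgroup X} {ψ : X →* SL2} (hS : Setting Q Z ψ)
    (z : X) (hz2 : z ^ 2 = 1)
    (hcz : ∀ x : X, ∀ ξ ∈ Z, x * ξ * x⁻¹ = ξ)
    (hsec1 : ∀ q ∈ Q, ∃ ξ ∈ Z, z * (q * ξ) * z⁻¹ = (q * ξ)⁻¹)
    (hsec2 : ∀ q ∈ Q, ∀ ξ ∈ Z, z * q * z⁻¹ = q⁻¹ → z * (q * ξ) * z⁻¹ = (q * ξ)⁻¹ → ξ = 1)
    (hfrat : ∀ x : X, ∃ q ∈ Q, (q⁻¹ * x) * z = z * (q⁻¹ * x))
    (h3 : ∀ H : Subgroup SL2, (∀ g ∈ H, g ^ 3 = 1) → Nat.card H ≤ 3)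
    (E : Subgroup X) (hEc : IsMulCommutative E) (hEe : ∀ a ∈ E, a ^ 3 = 1)
    (hEcard : Nat.card E = 27) :
    ∃ y : X, y * z = z * y ∧ y ^ 3 = 1 ∧ y ∉ Q := by
  classical
  have := hS.fin
  have hEcomm : ∀ a ∈ E, ∀ b ∈ E, a * b = b * a := fun a ha b hb =>
    Subtype.ext_iff.mp (hEc.is_comm.comm ⟨a, ha⟩ ⟨b, hb⟩)
  -- `A = Q ⊓ E` has at least nine elements
  set A : Subgroup X := Q ⊓ E with hA
  have hAE : A ≤ E := inf_le_right
  have hAQ : A ≤ Q := inf_le_left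
  have hmap : Nat.card (E.map ψ) ≤ 3 := h3 _ (by
    rintro g ⟨e, he, rfl⟩
    rw [← map_pow, hEe e he, map_one])
  have hrel : A.relIndex E = Nat.card (E.map ψ) := by
    rw [hA, Subgroup.inf_relIndex_right, ← hS.ψker, Subgroup.relIndex_ker]
  have hmul : Nat.card A * A.relIndex E = 27 := by
    have := Subgroup.relIndex_mul_relIndex (⊥ : Subgroup X) A E bot_le hAE
    rw [Subgroup.relIndex_bot_left, Subgroup.relIndex_bot_left, hEcard] at this
    exact this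
  have hA9 : 9 ≤ Nat.card A := by
    rw [hrel] at hmul
    by_contra h
    push Not at h
    have : Nat.card A * Nat.card (E.map ψ) ≤ 8 * 3 := Nat.mul_le_mul (by omega) hmap
    omega
  have hAdvd : Nat.card A ∣ 27 := by
    rw [← hS.Qcard]; exact Subgroup.card_dvd_of_le hAQ
  -- `Q` is not abelian
  have hQnab : ¬ Q ≤ E := by
    intro h
    obtain ⟨q, hq, q', hq', hne⟩ := hS.nonab
    exact hne (commutatorElement_eq_one_iff_mul_comm.mpr (hEcomm q (h hq) q' (h hq')))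
  have hA27 : Nat.card A ≠ 27 := by
    intro h
    have : A = Q := Subgroup.eq_of_le_of_card_ge hAQ (by rw [h, hS.Qcard])
    exact hQnab (this ▸ hAE)
  have hA9' : Nat.card A = 9 := by
    have hle : Nat.card A ≤ 27 := Nat.le_of_dvd (by norm_num) hAdvd
    have key : ∀ n : Fin 28, 9 ≤ n.val → n.val ∣ 27 → n.val ≠ 27 → n.val = 9 := by decide
    exact key ⟨Nat.card A, by omega⟩ hA9 hAdvd hA27
  -- subgroups between `A` and `Q`
  have hmid : ∀ K : Subgroup X, A ≤ K → K ≤ Q → K ≠ Q → K = A := by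
    intro K hAK hKQ hne
    have h1 : Nat.card A ∣ Nat.card K := Subgroup.card_dvd_of_le hAK
    have h2 : Nat.card K ∣ 27 := by rw [← hS.Qcard]; exact Subgroup.card_dvd_of_le hKQ
    have h3 : Nat.card K ≠ 27 := by
      intro h
      exact hne (Subgroup.eq_of_le_of_card_ge hKQ (by rw [h, hS.Qcard]))
    rw [hA9'] at h1
    have hle : Nat.card K ≤ 27 := Nat.le_of_dvd (by norm_num) h2
    have key : ∀ n : Fin 28, 9 ∣ n.val → n.val ∣ 27 → n.val ≠ 27 → n.val = 9 := by decide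
    have h4 : Nat.card K = 9 := key ⟨Nat.card K, by omega⟩ h1 h2 h3
    exact (Subgroup.eq_of_le_of_card_ge hAK (by rw [h4, hA9'])).symm
  -- `A` is not contained in `Z`
  have hAZ : ¬ A ≤ Z := by
    intro h
    have := Subgroup.card_le_of_le h
    rw [hA9', hS.Zcard] at this
    omega
  -- `Z ≤ A`
  have hZA : Z ≤ A := by
    let K : Subgroup X := Q ⊓ Subgroup.centralizer (A : Set X)
    have hK : ∀ x, x ∈ K ↔ x ∈ Q ∧ ∀ a ∈ A, a * x = x * a := by
      intro x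
      rw [Subgroup.mem_inf, Subgroup.mem_centralizer_iff]
      rfl
    have hAK : A ≤ K := fun x hx =>
      (hK x).2 ⟨hAQ hx, fun a ha => hEcomm a (hAE ha) x (hAE hx)⟩
    have hZK : Z ≤ K := fun ξ hξ =>
      (hK ξ).2 ⟨hS.ZleQ hξ, fun a ha => (hS.Zcentral ξ hξ a (hAQ ha)).symm⟩
    have hKne : K ≠ Q := by
      intro h
      apply hAZ
      intro a ha
      apply hS.Zcenter a (hAQ ha)
      intro q' hq'
      have : q' ∈ K := h ▸ hq'
      exact ((hK q').1 this).2 a ha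
    rw [hmid K hAK inf_le_left hKne] at hZK
    exact hZK
  -- an element of `A` outside `Z`, inverted by `z`
  obtain ⟨a', ha'A, ha'Z⟩ := SetLike.not_le_iff_exists.mp hAZ
  obtain ⟨ξ, hξ, hinv⟩ := hsec1 a' (hAQ ha'A)
  set a : X := a' * ξ with ha
  have haA : a ∈ A := A.mul_mem ha'A (hZA hξ)
  have haQ : a ∈ Q := hAQ haA
  have haZ : a ∉ Z := by
    intro h
    apply ha'Z
    have : a' = a * ξ⁻¹ := by rw [ha]; group
    rw [this]
    exact Z.mul_mem h (Z.inv_mem hξ)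
  -- an element of `E` outside `Q`
  have hEQ : ¬ E ≤ Q := by
    intro h
    have : E = Q := Subgroup.eq_of_le_of_card_ge h (by rw [hEcard, hS.Qcard])
    exact hQnab this.ge
  obtain ⟨u, huE, huQ⟩ := SetLike.not_le_iff_exists.mp hEQ
  obtain ⟨q, hq, hyz⟩ := hfrat u
  set y : X := q⁻¹ * u with hy
  have hyQ : y ∉ Q := by
    intro h
    apply huQ
    have : u = q * y := by rw [hy]; group
    rw [this]
    exact Q.mul_mem hq h
  have hua : u * a = a * u := hEcomm u huE a (hAE haA)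
  -- `y a y⁻¹ = a ξ'`
  set ξ' : X := ⁅a⁻¹, q⁻¹⁆ with hξ'
  have hξ'Z : ξ' ∈ Z := hS.comm_mem _ (Q.inv_mem haQ) _ (Q.inv_mem hq)
  have hconj : y * a * y⁻¹ = a * ξ' := by
    rw [hy, hξ', commutatorElement_def]
    calc q⁻¹ * u * a * (q⁻¹ * u)⁻¹ = q⁻¹ * (u * a) * u⁻¹ * q := by group
      _ = q⁻¹ * (a * u) * u⁻¹ * q := by rw [hua]
      _ = a * (a⁻¹ * q⁻¹ * a⁻¹⁻¹ * q⁻¹⁻¹) := by group
  have hzy : z * y = y * z := hyz.symm
  have hinv2 : z * (a * ξ') * z⁻¹ = (a * ξ')⁻¹ := by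
    rw [← hconj]
    have hzyi : z⁻¹ * y⁻¹ = y⁻¹ * z⁻¹ := by
      rw [← mul_inv_rev, ← mul_inv_rev, hzy]
    calc z * (y * a * y⁻¹) * z⁻¹ = (z * y) * a * y⁻¹ * z⁻¹ := by group
      _ = y * z * a * (y⁻¹ * z⁻¹) := by rw [hzy]; group
      _ = y * z * a * (z⁻¹ * y⁻¹) := by rw [hzyi]
      _ = y * (z * a * z⁻¹) * y⁻¹ := by group
      _ = y * a⁻¹ * y⁻¹ := by rw [hinv]
      _ = (y * a * y⁻¹)⁻¹ := by group
  have hξ'1 : ξ' = 1 := hsec2 a haQ ξ' hξ'Z hinv hinv2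
  have haq : a * q = q * a := by
    have h1 : ⁅a⁻¹, q⁻¹⁆ = 1 := by rw [← hξ', hξ'1]
    have h2 := commutatorElement_eq_one_iff_mul_comm.mp h1
    -- `a⁻¹ q⁻¹ = q⁻¹ a⁻¹`
    have h3 : (q * a)⁻¹ = (a * q)⁻¹ := by rw [mul_inv_rev q a, mul_inv_rev a q, h2]
    exact (inv_injective h3).symm
  -- `q ∈ C_Q(a) = A`
  have hqA : q ∈ A := by
    let K : Subgroup X := Q ⊓ Subgroup.centralizer {a}
    have hK : ∀ x, x ∈ K ↔ x ∈ Q ∧ a * x = x * a := by
      intro x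
      rw [Subgroup.mem_inf, Subgroup.mem_centralizer_iff]
      simp
    have hAK : A ≤ K := fun x hx => (hK x).2 ⟨hAQ hx, hEcomm a (hAE haA) x (hAE hx)⟩
    have hKne : K ≠ Q := by
      intro h
      apply haZ
      apply hS.Zcenter a haQ
      intro q' hq'
      have : q' ∈ K := h ▸ hq'
      exact ((hK q').1 this).2
    rw [← hmid K hAK inf_le_left hKne]
    exact (hK q).2 ⟨hq, haq⟩
  have hyE : y ∈ E := E.mul_mem (E.inv_mem (hAE hqA)) huE
  exact ⟨y, hyz, hEe y hyE, hyQ⟩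

end Cfsg.Agent.Lib.Helper33_S3366_ORD3
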