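import Mathlib
import Cfsg.Agent.Lib.Helper13_SimsDefs

/-!
# Definitions for S2858 (`(S₃,S₃)`-amalgams with active centre are `S₄` or `C₂ × S₄`)

Abstract setting: a group `G` (possibly infinite) acting on a set `V` of vertices with a `G`-invariant symmetric
relation `Adj` (in the application: the coset graph `Cfsg.cosetGraph P₁ P₂`).
Paper proof: `pending/helper13/S2858_proof.md` (+ `pending/helper13/S2858_N9_status.md`,
`pending/helper33/S2858_DC_proof.md`, `pending/helper33/S2858_market.md`).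
All subgroups are subgroups of `G` itself.  Vocabulary of `Helper13_SimsDefs` is reused:
`Tst G x y = G_x ⊓ G_y`, `Om1Z H = Ω₁Z(H)`, `comm g v = g v g⁻¹ v⁻¹`, `CommSub H W = ⟨comm g v : g ∈ H, v ∈ W⟩`,
`CentIn W H = C_W(H)`, `IsEA`, `cj g H = g H g⁻¹`, `Nrm g H : ∀ h ∈ H, g h g⁻¹ ∈ H`.
-/

set_option autoImplicit false

namespace Cfsg.Agent.Lib.Helper33_S3AmDefs

open MulAction Cfsg.Agent.Lib.Helper13_SimsDefs

section
variable (G : Type*) {V : Type*} [Group G] [MulAction G V] (Adj : V → V → Prop)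

/-- `Q_x`: the kernel of `G_x` on the set `Δ(x)` of neighbours of `x`. -/
def Qst (x : V) : Subgroup G :=
  stabilizer G x ⊓ ⨅ y : {y : V // Adj x y}, stabilizer G (y : V)

/-- `Z_xy = Ω₁ Z(T_xy)`. -/
def Zed (x y : V) : Subgroup G := Om1Z (Tst G x y)

/-- `Z_x = ⟨Ω₁ Z(T_xy) : y ∈ Δ(x)⟩`. -/
def Zst (x : V) : Subgroup G := ⨆ y : {y : V // Adj x y}, Zed G x (y : V)

/-- `V_x = ⟨Z_y : y ∈ Δ(x)⟩`. -/
def Vst (x : V) : Subgroup G := ⨆ y : {y : V // Adj x y}, Zst G Adj (y : V)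

/-- `Ω_x = C_{Z_x}(G_x)`. -/
def Omst (x : V) : Subgroup G := CentIn (Zst G Adj x) (stabilizer G x)

/-- `N_x = [Z_x, G_x]`. -/
def Nst (x : V) : Subgroup G := CommSub (stabilizer G x) (Zst G Adj x)

/-- `R_xy = [Z_x, T_xy]`. -/
def Rst (x y : V) : Subgroup G := CommSub (Tst G x y) (Zst G Adj x)

/-- `D_xy = Q_x ∩ Q_y`. -/
def Dst (x y : V) : Subgroup G := Qst G Adj x ⊓ Qst G Adj y

/-- `L_x = ⟨Q_y : y ∈ Δ(x)⟩`. -/
def Lst (x : V) : Subgroup G := ⨆ y : {y : V // Adj x y}, Qst G Adj (y : V)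

/-- `Φ_x = Q_x ∩ ⋂_{y ∈ Δ(x)} Q_y`. -/
def Phist (x : V) : Subgroup G :=
  Qst G Adj x ⊓ ⨅ y : {y : V // Adj x y}, Qst G Adj (y : V)

/-- `O_x`: the subgroup generated by the elements of order 3 of `G_x`. -/
def O3st (x : V) : Subgroup G := Subgroup.closure {d | d ∈ stabilizer G x ∧ orderOf d = 3}

/-- `C_x = C_{Q_x}(O_x)`: the elements of `Q_x` commuting with all elements of order 3 of `G_x`. -/
def Cst (x : V) : Subgroup G := CentIn (Qst G Adj x) (O3st G x)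

/-- `CV_x = C_{V_x}(O_x)` (the group `C_α` of the N-case). -/
def CVst (x : V) : Subgroup G := CentIn (Vst G Adj x) (O3st G x)

/-- a walk `w_0 ~ w_1 ~ ... ~ w_j` given as a function on `ℕ` (only the values at `0..j` matter). -/
def IsWalk (w : ℕ → V) (j : ℕ) : Prop := ∀ i < j, Adj (w i) (w (i + 1))

/-- a walk of length `j` which is *bad*: `Z_{w_0} ≰ Q_{w_j}`. -/
def IsBad (w : ℕ → V) (j : ℕ) : Prop :=
  IsWalk Adj w j ∧ ¬ Zst G Adj (w 0) ≤ Qst G Adj (w j)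

/-- `bb` is the critical distance: there is a bad walk of length `bb` and none shorter.
A bad walk of length `bb` is then called *critical*. -/
def IsCrit (bb : ℕ) : Prop :=
  (∃ w, IsBad G Adj w bb) ∧ ∀ j < bb, ∀ w, ¬ IsBad G Adj w j

/-- `N(x)`: `V_x = Z_x Z_y` for every neighbour `y` of `x`. -/
def HasN (x : V) : Prop := ∀ y, Adj x y → Vst G Adj x = Zst G Adj x ⊔ Zst G Adj y

/-- `FF(x)`: `|Z_x : Z_xy| = 2` for every neighbour `y` of `x`. -/
def FFat (x : V) : Prop := ∀ y, Adj x y → Nat.card (Zst G Adj x) = 2 * Nat.card (Zed G x y)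

/-- The abstract `(S₃,S₃)`-amalgam interface (I1)-(I6) of the paper proof. -/
structure S3Am : Prop where
  /-- (I1) -/
  symm : ∀ x y : V, Adj x y → Adj y x
  inv : ∀ (g : G) (x y : V), Adj x y → Adj (g • x) (g • y)
  nbr : ∀ x : V, ∃ y, Adj x y
  conn : ∀ x y : V, ∃ (w : ℕ → V) (n : ℕ), IsWalk Adj w n ∧ w 0 = x ∧ w n = y
  /-- (I2) -/
  fin : ∀ x : V, Finite (stabilizer G x)
  trans : ∀ x y y' : V, Adj x y → Adj x y' → ∃ g ∈ stabilizer G x, g • y = y'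
  /-- (I3) -/
  two : ∀ x y : V, Adj x y → IsPGroup 2 (Tst G x y)
  idx3 : ∀ x y : V, Adj x y → Nat.card (stabilizer G x) = 3 * Nat.card (Tst G x y)
  idx2 : ∀ x y : V, Adj x y → Nat.card (Tst G x y) = 2 * Nat.card (Qst G Adj x)
  /-- (I4) `C_{G_x}(Q_x) ≤ Q_x` -/
  cent : ∀ x : V, ∀ g ∈ stabilizer G x, (∀ q ∈ Qst G Adj x, g * q = q * g) → g ∈ Qst G Adj x
  /-- (I5) -/
  core : ∀ x y : V, Adj x y → ∀ Y : Subgroup G, Y ≤ Tst G x y → (∀ g ∈ stabilizer G x, Nrm g Y) →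
    (∀ g ∈ stabilizer G y, Nrm g Y) → Y = ⊥
  /-- (I6) `G_x` does not centralise `Ω₁Z(T_xy)` -/
  active : ∀ x y : V, Adj x y → ∃ g ∈ stabilizer G x, ∃ z ∈ Zed G x y, g * z ≠ z * g

/-- In the case `|Ω_x| = 2`, `R_xy = Ω_y` for all edges: the involutions `c x` generating `Ω_x`. -/
structure CSys (c : V → G) : Prop where
  gen : ∀ x : V, c x ≠ 1 ∧ c x ^ 2 = 1 ∧ Omst G Adj x = Subgroup.zpowers (c x)
  eqv : ∀ (g : G) (x : V), c (g • x) = g * c x * g⁻¹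
  adj : ∀ x y : V, Adj x y → c x ≠ c y ∧ c x * c y = c y * c x ∧ c y ∈ Nst G Adj x ∧ c y ∈ Zst G Adj x ∧
    (Zed G x y : Set G) = {1, c x, c y, c x * c y}
  tri : ∀ x y y' : V, Adj x y → Adj x y' → y ≠ y' →
    c y ≠ c y' ∧ ∀ y'', Adj x y'' → y'' ≠ y → y'' ≠ y' → c y * c y' = c y''

end

section
variable {G : Type*} {V : Type*} [Group G] [MulAction G V] {Adj : V → V → Prop}

theorem mem_Qst_iff (x : V) (g : G) :
    g ∈ Qst G Adj x ↔ g • x = x ∧ ∀ y, Adj x y → g • y = y := by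
  unfold Qst
  simp only [Subgroup.mem_inf, Subgroup.mem_iInf, mem_stabilizer_iff, Subtype.forall]

theorem Qst_le_stab (x : V) : Qst G Adj x ≤ stabilizer G x := inf_le_left

theorem Qst_le_stab_of_adj {x y : V} (h : Adj x y) : Qst G Adj x ≤ stabilizer G y := by
  intro g hg
  exact mem_stabilizer_iff.mpr (((mem_Qst_iff x g).mp hg).2 y h)

theorem Qst_le_Tst {x y : V} (h : Adj x y) : Qst G Adj x ≤ Tst G x y :=
  le_inf (Qst_le_stab x) (Qst_le_stab_of_adj h)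

theorem mem_Tst_iff (x y : V) (g : G) : g ∈ Tst G x y ↔ g • x = x ∧ g • y = y := by
  unfold Tst
  simp only [Subgroup.mem_inf, mem_stabilizer_iff]

theorem Tst_comm (x y : V) : Tst G x y = Tst G y x := by
  unfold Tst; exact inf_comm _ _

theorem Zed_comm (x y : V) : Zed G x y = Zed G y x := by
  unfold Zed; rw [Tst_comm]

theorem Zed_le_Zst {x y : V} (h : Adj x y) : Zed G x y ≤ Zst G Adj x :=
  le_iSup (fun y : {y : V // Adj x y} => Zed G x (y : V)) ⟨y, h⟩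

theorem Zst_le_Vst {x y : V} (h : Adj x y) : Zst G Adj y ≤ Vst G Adj x :=
  le_iSup (fun y : {y : V // Adj x y} => Zst G Adj (y : V)) ⟨y, h⟩

theorem Qst_le_Lst {x y : V} (h : Adj x y) : Qst G Adj y ≤ Lst G Adj x :=
  le_iSup (fun y : {y : V // Adj x y} => Qst G Adj (y : V)) ⟨y, h⟩

theorem mem_Om1Z_iff (H : Subgroup G) (g : G) :
    g ∈ Om1Z H ↔ g ∈ H ∧ (∀ h ∈ H, h * g = g * h) ∧ g ^ 2 = 1 := Iff.rfl

theorem mem_CentIn_iff (W H : Subgroup G) (g : G) :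
    g ∈ CentIn W H ↔ g ∈ W ∧ ∀ h ∈ H, h * g = g * h := by
  unfold CentIn
  rw [Subgroup.mem_inf, Subgroup.mem_centralizer_iff]
  rfl

theorem mem_cj_iff (g : G) (H : Subgroup G) (x : G) : x ∈ cj g H ↔ g⁻¹ * x * g ∈ H := by
  unfold cj
  constructor
  · rintro ⟨h, hh, rfl⟩
    simpa [MulAut.conj_apply, mul_assoc] using hh
  · intro h
    exact ⟨g⁻¹ * x * g, h, by simp [MulAut.conj_apply, mul_assoc]⟩

end

end Cfsg.Agent.Lib.Helper33_S3AmDefs
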