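/-
Helper library (helper33), for S4394: the abstract property of a finite `p`-group that it is
(isomorphic to) the normal Sylow `p`-subgroup of a minimal non-nilpotent (Schmidt) group.
-/
import Mathlib

set_option autoImplicit false

namespace Cfsg.Agent.Lib.Helper33_SchmidtDefs

/-- The data carried by the normal Sylow `p`-subgroup `Q` of a Schmidt group: a nontrivial
automorphism `α` with `α ^ q = 1`, `q ≠ p` prime, which fixes every proper `α`-invariant subgroup
elementwise. -/
def SchmidtData (p : ℕ) {Q : Type*} [Group Q] (α : MulAut Q) (q : ℕ) : Prop :=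
  q.Prime ∧ q ≠ p ∧ α ^ q = 1 ∧ α ≠ 1 ∧
    ∀ H : Subgroup Q, (∀ h ∈ H, α h ∈ H) → H ≠ ⊤ → ∀ h ∈ H, α h = h

/-- `Q` is of Schmidt type for `p`. -/
def SchmidtType (p : ℕ) (Q : Type*) [Group Q] : Prop :=
  ∃ (α : MulAut Q) (q : ℕ), SchmidtData p α q

theorem SchmidtType.of_mulEquiv {p : ℕ} {Q Q' : Type*} [Group Q] [Group Q'] (e : Q ≃* Q')
    (h : SchmidtType p Q) : SchmidtType p Q' := by
  obtain ⟨α, q, hq, hqp, hαq, hα1, hinv⟩ := h
  refine ⟨e.symm.trans (α.trans e), q, hq, hqp, ?_, ?_, ?_⟩
  · have hpow : ∀ n : ℕ, ∀ x : Q', ((e.symm.trans (α.trans e) : MulAut Q') ^ n) x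
        = e ((α ^ n) (e.symm x)) := by
      intro n
      induction n with
      | zero => intro x; simp
      | succ n ih =>
        intro x
        rw [pow_succ, MulAut.mul_apply, ih, pow_succ, MulAut.mul_apply]
        simp
    ext x
    rw [hpow, hαq]
    simp
  · intro h1
    apply hα1
    ext x
    have := congrArg (fun f : MulAut Q' => f (e x)) h1
    simp only [MulAut.one_apply] at this
    have h2 : e (α x) = e x := by simpa using this
    simpa using e.injective h2
  · intro H hH hHtop h hh
    have hH' : ∀ k ∈ H.comap e.toMonoidHom, α k ∈ H.comap e.toMonoidHom := by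
      intro k hk
      rw [Subgroup.mem_comap] at hk ⊢
      have := hH (e k) hk
      simpa using this
    have hne : H.comap e.toMonoidHom ≠ ⊤ := by
      intro ht
      apply hHtop
      rw [eq_top_iff]
      intro x _
      have : e.symm x ∈ H.comap e.toMonoidHom := by rw [ht]; trivial
      rw [Subgroup.mem_comap] at this
      simpa using this
    have hk : e.symm h ∈ H.comap e.toMonoidHom := by
      rw [Subgroup.mem_comap]; simpa using hh
    have := hinv _ hH' hne _ hk
    change e (α (e.symm h)) = h
    rw [this]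
    simp

end Cfsg.Agent.Lib.Helper33_SchmidtDefs
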