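import Mathlib
import Cfsg.Prelude.Def_Local
import Cfsg.Prelude.Def_SolvableStructure
import Cfsg.Agent.Lib.Helper47_HH
import Cfsg.Agent.Lib.Helper48_Generation
import Cfsg.Agent.Lib.Helper1_Cores

/-!
# S4394 package `PC1` (helper45): the minimal `T`-invariant `p'`-subgroup

In a `p`-solvable group `Γ` with `O_p(Γ) = 1`, a nontrivial elementary abelian `p`-subgroup `T` acts
faithfully on `O_{p'}(Γ)`. A `T`-invariant `p'`-subgroup `E` of minimal order not centralized by `T`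
has `|T : C_T(E)| = p` and `E = [E, x]` for `x ∈ T ∖ C_T(E)`.
-/

set_option autoImplicit false

namespace Cfsg.Agent.Lib.Helper45_Schmidt_PC1

open Cfsg

variable {Γ : Type*} [Group Γ]

theorem le_normalizer_of_conj {T C : Subgroup Γ} (h : ∀ t ∈ T, ∀ c ∈ C, t * c * t⁻¹ ∈ C) :
    T ≤ Subgroup.normalizer (C : Set Γ) := by
  intro t ht
  rw [Subgroup.mem_normalizer_iff]
  intro c
  refine ⟨h t ht c, fun hc => ?_⟩
  have := h t⁻¹ (T.inv_mem ht) _ hc
  have e : t⁻¹ * (t * c * t⁻¹) * t⁻¹⁻¹ = c := by group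
  rwa [e] at this

theorem conj_mem_of_le_normalizer {T E : Subgroup Γ} (h : T ≤ Subgroup.normalizer (E : Set Γ))
    {t e : Γ} (ht : t ∈ T) (he : e ∈ E) : t * e * t⁻¹ ∈ E :=
  (Subgroup.mem_normalizer_iff.1 (h ht) e).1 he

/-- the property of the subgroups among which `E` is chosen of minimal order -/
def Cand (p : ℕ) (T E : Subgroup Γ) : Prop :=
  (Nat.card E).Coprime p ∧ T ≤ Subgroup.normalizer (E : Set Γ) ∧ ∃ t ∈ T, ∃ e ∈ E, t * e ≠ e * t

/-- PACKAGE PC1 (the minimal `T`-invariant `p'`-subgroup). -/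
theorem PC1 {p : ℕ} [Fact p.Prime] {Γ : Type*} [Group Γ] [Finite Γ]
    (hsol : Cfsg.IsPSolvable p Γ) (hcore : Cfsg.pCore p Γ = ⊥)
    (T : Subgroup Γ) (hTc : ∀ a ∈ T, ∀ b ∈ T, a * b = b * a) (hTp : ∀ a ∈ T, a ^ p = 1)
    (hT : T ≠ ⊥) :
    ∃ (E : Subgroup Γ) (x : Γ), (Nat.card E).Coprime p ∧
      T ≤ Subgroup.normalizer (E : Set Γ) ∧ x ∈ T ∧ (∃ e ∈ E, x * e ≠ e * x) ∧
      (∀ t ∈ T, ∃ k : ℕ, ∀ e ∈ E, (x ^ k)⁻¹ * t * e = e * ((x ^ k)⁻¹ * t)) ∧
      E = Subgroup.closure {g | ∃ e ∈ E, g = x * e * x⁻¹ * e⁻¹} := by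
  classical
  have hp : p.Prime := Fact.out
  -- `K = O_{p'}(Γ)` is a candidate
  have hK : Cand p T (pPrimeCore p Γ) := by
    refine ⟨Cfsg.Agent.Lib.Helper1_Cores.pPrimeCore_card_coprime p, ?_, ?_⟩
    · have hn : (pPrimeCore p Γ).Normal := Cfsg.Agent.Lib.Helper1_Cores.pPrimeCore_normal p
      rw [Subgroup.normalizer_eq_top_iff.2 hn]
      exact le_top
    · obtain ⟨t, ht1⟩ := (Subgroup.ne_bot_iff_exists_ne_one).1 hT
      have ht1' : (t : Γ) ≠ 1 := fun h => ht1 (Subtype.ext h)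
      by_contra hcon
      push Not at hcon
      have hcen : (t : Γ) ∈ Subgroup.centralizer (pPrimeCore p Γ : Set Γ) := by
        rw [Subgroup.mem_centralizer_iff]
        intro e he
        exact (hcon t t.2 e he).symm
      have htK := Cfsg.Agent.Lib.Helper47_HH.centralizer_pPrimeCore_le p hsol hcore hcen
      have h1 : orderOf (t : Γ) ∣ p := orderOf_dvd_of_pow_eq_one (hTp t t.2)
      have h2 : orderOf (t : Γ) ∣ Nat.card (pPrimeCore p Γ) := by
        have := orderOf_dvd_natCard (⟨t, htK⟩ : pPrimeCore p Γ)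
        rwa [Subgroup.orderOf_mk] at this
      have h3 : orderOf (t : Γ) = 1 :=
        Nat.eq_one_of_dvd_coprimes (Cfsg.Agent.Lib.Helper1_Cores.pPrimeCore_card_coprime p).symm h1 h2
      exact ht1' (orderOf_eq_one_iff.1 h3)
  -- choose a candidate of minimal order
  have hex : ∃ n, ∃ E : Subgroup Γ, Cand p T E ∧ Nat.card E = n := ⟨_, _, hK, rfl⟩
  obtain ⟨E, hE, hEn⟩ := Nat.find_spec hex
  have hmin : ∀ E' : Subgroup Γ, E' ≤ E → E' ≠ E → T ≤ Subgroup.normalizer (E' : Set Γ) →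
      ∀ t ∈ T, ∀ e ∈ E', t * e = e * t := by
    intro E' hle hne hN t ht e he
    by_contra hcon
    have hlt : Nat.card E' < Nat.card E := by
      refine lt_of_le_of_ne (Subgroup.card_le_of_le hle) (fun heq => hne ?_)
      exact Subgroup.eq_of_le_of_card_ge hle heq.ge
    have hc : Cand p T E' :=
      ⟨Nat.Coprime.coprime_dvd_left (Subgroup.card_dvd_of_le hle) hE.1, hN, t, ht, e, he, hcon⟩
    exact Nat.find_min hex (hEn ▸ hlt) ⟨E', hc, rfl⟩
  obtain ⟨hEcop, hTE, x, hxT, e₀, he₀, hxe₀⟩ := hE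
  have hpE : ¬ p ∣ Nat.card E := fun h => by
    have := Nat.Coprime.eq_one_of_dvd hEcop.symm h
    exact hp.one_lt.ne' this
  -- centralizers of elements of `T` not centralizing `E`
  have hcent : ∀ y ∈ T, (∃ e ∈ E, y * e ≠ e * y) →
      E ⊓ Subgroup.centralizer ({y} : Set Γ) ≤ E ⊓ Subgroup.centralizer (T : Set Γ) := by
    intro y hy hye c hc
    obtain ⟨hcE, hcy⟩ := Subgroup.mem_inf.1 hc
    refine Subgroup.mem_inf.2 ⟨hcE, ?_⟩
    rw [Subgroup.mem_centralizer_iff]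
    intro t ht
    refine hmin (E ⊓ Subgroup.centralizer ({y} : Set Γ)) inf_le_left ?_ ?_ t ht c hc
    · intro heq
      obtain ⟨e, he, hne⟩ := hye
      have : e ∈ E ⊓ Subgroup.centralizer ({y} : Set Γ) := by rw [heq]; exact he
      exact hne (Subgroup.mem_centralizer_singleton_iff.1 (Subgroup.mem_inf.1 this).2).symm
    · apply le_normalizer_of_conj
      intro t' ht' c' hc'
      obtain ⟨hc'E, hc'y⟩ := Subgroup.mem_inf.1 hc'
      refine Subgroup.mem_inf.2 ⟨conj_mem_of_le_normalizer hTE ht' hc'E, ?_⟩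
      rw [Subgroup.mem_centralizer_singleton_iff] at hc'y ⊢
      have h1 : t' * y = y * t' := hTc t' ht' y hy
      have h2 : t'⁻¹ * y = y * t'⁻¹ := hTc _ (T.inv_mem ht') y hy
      calc t' * c' * t'⁻¹ * y = t' * c' * (t'⁻¹ * y) := by group
        _ = t' * (c' * y) * t'⁻¹ := by rw [h2]; group
        _ = (t' * y) * c' * t'⁻¹ := by rw [hc'y]; group
        _ = y * (t' * c' * t'⁻¹) := by rw [h1]; group
  refine ⟨E, x, hEcop, hTE, hxT, ⟨e₀, he₀, hxe₀⟩, ?_, ?_⟩
  · -- `T = ⟨x⟩ C_T(E)`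
    intro t ht
    by_contra hcon
    push Not at hcon
    apply hxe₀
    have hxi : x⁻¹ ∈ T := T.inv_mem hxT
    have hxine : ∃ e ∈ E, x⁻¹ * e ≠ e * x⁻¹ := by
      refine ⟨e₀, he₀, fun h => hxe₀ ?_⟩
      calc x * e₀ = x * (e₀ * x⁻¹) * x := by group
        _ = x * (x⁻¹ * e₀) * x := by rw [h]
        _ = e₀ * x := by group
    have hE_le : E ≤ E ⊓ Subgroup.centralizer (T : Set Γ) := by
      apply Cfsg.Agent.Lib.Helper48_Generation.le_of_centralizers_le (p := p) E hpE t x⁻¹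
        (hTE ht) (hTE hxi) (hTp t ht) (hTp _ hxi) (hTc t ht _ hxi)
      · exact hcent _ hxi hxine
      · intro i
        have hmem : t * x⁻¹ ^ i ∈ T := T.mul_mem ht (T.pow_mem hxi i)
        apply hcent _ hmem
        obtain ⟨e, he, hne⟩ := hcon i
        refine ⟨e, he, fun h => hne ?_⟩
        have h1 : (x ^ i)⁻¹ * t = t * x⁻¹ ^ i := by
          rw [← inv_pow]
          exact hTc _ (T.pow_mem hxi i) t ht
        rw [h1, h]
    have := (Subgroup.mem_inf.1 (hE_le he₀)).2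
    rw [Subgroup.mem_centralizer_iff] at this
    exact (this x hxT)
  · -- `E = [E, x]`
    set D := Subgroup.closure {g | ∃ e ∈ E, g = x * e * x⁻¹ * e⁻¹} with hD
    have hDE : D ≤ E := by
      rw [hD, Subgroup.closure_le]
      rintro _ ⟨e, he, rfl⟩
      exact E.mul_mem (conj_mem_of_le_normalizer hTE hxT he) (E.inv_mem he)
    by_contra hne
    have hne' : D ≠ E := fun h => hne h.symm
    have hTD : T ≤ Subgroup.normalizer (D : Set Γ) := by
      apply le_normalizer_of_conj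
      intro t ht d hd
      rw [hD] at hd
      induction hd using Subgroup.closure_induction with
      | mem g hg =>
        obtain ⟨e, he, rfl⟩ := hg
        apply Subgroup.subset_closure
        refine ⟨t * e * t⁻¹, conj_mem_of_le_normalizer hTE ht he, ?_⟩
        have h1 : t * x = x * t := hTc t ht x hxT
        have h2 : x⁻¹ * t = t * x⁻¹ := by
          calc x⁻¹ * t = x⁻¹ * (t * x) * x⁻¹ := by group
            _ = x⁻¹ * (x * t) * x⁻¹ := by rw [h1]
            _ = t * x⁻¹ := by group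
        calc t * (x * e * x⁻¹ * e⁻¹) * t⁻¹ = (t * x) * e * x⁻¹ * e⁻¹ * t⁻¹ := by group
          _ = (x * t) * e * x⁻¹ * e⁻¹ * t⁻¹ := by rw [h1]
          _ = x * t * e * t⁻¹ * (t * x⁻¹) * e⁻¹ * t⁻¹ := by group
          _ = x * t * e * t⁻¹ * (x⁻¹ * t) * e⁻¹ * t⁻¹ := by rw [h2]
          _ = x * (t * e * t⁻¹) * x⁻¹ * (t * e * t⁻¹)⁻¹ := by group
      | one => rw [mul_one, mul_inv_cancel]; exact Subgroup.one_mem _
      | mul a b _ _ ha hb =>
        have : t * (a * b) * t⁻¹ = (t * a * t⁻¹) * (t * b * t⁻¹) := by group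
        rw [this]; exact Subgroup.mul_mem _ ha hb
      | inv a _ ha =>
        have : t * a⁻¹ * t⁻¹ = (t * a * t⁻¹)⁻¹ := by group
        rw [this]; exact Subgroup.inv_mem _ ha
    have hxD : ∀ d ∈ D, x * d = d * x := fun d hd => hmin D hDE hne' hTD x hxT d hd
    apply hxe₀
    -- `x` centralizes `E`
    have hd₀ : x * e₀ * x⁻¹ * e₀⁻¹ ∈ D := Subgroup.subset_closure ⟨e₀, he₀, rfl⟩
    set d := x * e₀ * x⁻¹ * e₀⁻¹ with hd
    have hxd : x * d = d * x := hxD d hd₀
    have hpow : ∀ k : ℕ, x ^ k * e₀ * (x ^ k)⁻¹ = d ^ k * e₀ := by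
      intro k
      induction k with
      | zero => simp
      | succ k ih =>
        have hxdk : x * d ^ k = d ^ k * x := (Commute.pow_right (show Commute x d from hxd) k).eq
        calc x ^ (k + 1) * e₀ * (x ^ (k + 1))⁻¹ = x * (x ^ k * e₀ * (x ^ k)⁻¹) * x⁻¹ := by
              rw [pow_succ']; group
          _ = x * (d ^ k * e₀) * x⁻¹ := by rw [ih]
          _ = (x * d ^ k) * (e₀ * x⁻¹) := by group
          _ = d ^ k * x * (e₀ * x⁻¹) := by rw [hxdk]
          _ = d ^ k * (x * e₀ * x⁻¹ * e₀⁻¹) * e₀ := by group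
          _ = d ^ (k + 1) * e₀ := by rw [← hd, ← pow_succ]
    have hdp : d ^ p = 1 := by
      have := hpow p
      rw [hTp x hxT, one_mul, inv_one, mul_one] at this
      exact (mul_eq_right.1 this.symm)
    have h1 : orderOf d ∣ p := orderOf_dvd_of_pow_eq_one hdp
    have h2 : orderOf d ∣ Nat.card E := by
      have := orderOf_dvd_natCard (⟨d, hDE hd₀⟩ : E)
      rwa [Subgroup.orderOf_mk] at this
    have h3 : orderOf d = 1 := Nat.eq_one_of_dvd_coprimes hEcop.symm h1 h2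
    have hd1 : d = 1 := orderOf_eq_one_iff.1 h3
    have : x * e₀ * x⁻¹ * e₀⁻¹ = 1 := hd1
    calc x * e₀ = (x * e₀ * x⁻¹ * e₀⁻¹) * e₀ * x := by group
      _ = e₀ * x := by rw [this, one_mul]

end Cfsg.Agent.Lib.Helper45_Schmidt_PC1
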