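import Mathlib
import Cfsg.Prelude.Def_Local
import Cfsg.Prelude.Def_SolvableStructure
import Cfsg.Agent.Lib.Helper33_SchmidtDefs

/-!
# Package PD of helper33's S4394 plan

No group of order `p ^ 3`, `p ≤ 3`, carries Schmidt data together with the structure of package PA
and an elementary abelian subgroup of order `p ^ 2`.
-/

set_option autoImplicit false

namespace Cfsg.Agent.Lib.Helper69_Schmidt_PD

open Cfsg.Agent.Lib.Helper33_SchmidtDefs

section aux

variable {Q : Type*} [Group Q]

/-- products of a power of `a` and a central element commute -/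
theorem comm_of_mem_sup {a x y : Q} (hx : x ∈ Subgroup.zpowers a ⊔ Subgroup.center Q)
    (hy : y ∈ Subgroup.zpowers a ⊔ Subgroup.center Q) : x * y = y * x := by
  obtain ⟨x', hx', z, hz, rfl⟩ := Subgroup.mem_sup_of_normal_right.mp hx
  obtain ⟨y', hy', w, hw, rfl⟩ := Subgroup.mem_sup_of_normal_right.mp hy
  obtain ⟨k, rfl⟩ := Subgroup.mem_zpowers_iff.mp hx'
  obtain ⟨l, rfl⟩ := Subgroup.mem_zpowers_iff.mp hy'
  have hzc : ∀ g : Q, Commute z g := fun g => (Subgroup.mem_center_iff.mp hz g).symm
  have hwc : ∀ g : Q, Commute g w := fun g => Subgroup.mem_center_iff.mp hw g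
  have c1 : Commute (a ^ k) (a ^ l) := Commute.zpow_zpow_self a k l
  exact ((c1.mul_right (hwc _)).mul_left ((hzc _).mul_right (hzc _))).eq

/-- the key obstruction: `α a ∈ ⟨a⟩ Z` is impossible for `a ∉ Z` -/
theorem key (α : MulAut Q) (hnc : ¬ ∀ a b : Q, a * b = b * a)
    (hA2 : ∀ z ∈ Subgroup.center Q, α z = z)
    (hA5 : ∀ H : Subgroup Q, Subgroup.center Q ≤ H → (∀ h ∈ H, α h ∈ H) →
      H = Subgroup.center Q ∨ H = ⊤)
    (a : Q) (ha : a ∉ Subgroup.center Q)
    (hαa : α a ∈ Subgroup.zpowers a ⊔ Subgroup.center Q) : False := by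
  have hZH : Subgroup.center Q ≤ Subgroup.zpowers a ⊔ Subgroup.center Q := le_sup_right
  have haH : a ∈ Subgroup.zpowers a ⊔ Subgroup.center Q :=
    (le_sup_left : Subgroup.zpowers a ≤ _) (Subgroup.mem_zpowers a)
  have hinvH : ∀ h ∈ Subgroup.zpowers a ⊔ Subgroup.center Q,
      α h ∈ Subgroup.zpowers a ⊔ Subgroup.center Q := by
    intro h hh
    obtain ⟨x, hx, z, hz, rfl⟩ := Subgroup.mem_sup_of_normal_right.mp hh
    obtain ⟨k, rfl⟩ := Subgroup.mem_zpowers_iff.mp hx
    rw [map_mul, map_zpow, hA2 z hz]
    exact Subgroup.mul_mem _ (Subgroup.zpow_mem _ hαa k) (hZH hz)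
  rcases hA5 _ hZH hinvH with h1 | h1
  · exact ha (by rw [← h1]; exact haH)
  · apply hnc
    intro x y
    exact comm_of_mem_sup (a := a) (by rw [h1]; exact Subgroup.mem_top x)
      (by rw [h1]; exact Subgroup.mem_top y)

/-- a group of exponent two is commutative -/
theorem comm_of_sq_eq_one (h : ∀ b : Q, b * b = 1) (a b : Q) : a * b = b * a := by
  have hab := h (a * b)
  have haa := h a
  have hbb := h b
  calc a * b = a * 1 * b := by group
    _ = a * ((a * b) * (a * b)) * b := by rw [hab]
    _ = (a * a) * (b * a) * (b * b) := by group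
    _ = b * a := by rw [haa, hbb, one_mul, mul_one]

end aux

section count

variable {Q : Type*} [Group Q] [Finite Q]

/-- fixed point congruence for the cyclic group generated by an automorphism of prime order -/
theorem card_modEq (α : MulAut Q) (q : ℕ) [Fact q.Prime] (hαq : α ^ q = 1) (hα1 : α ≠ 1)
    (Z : Subgroup Q) (hfix : ∀ a : Q, α a = a ↔ a ∈ Z) :
    Nat.card Q ≡ Nat.card Z [MOD q] := by
  have hpg : IsPGroup q (Subgroup.zpowers α) := by
    apply IsPGroup.of_card (n := 1)
    rw [Nat.card_zpowers, orderOf_eq_prime hαq hα1, pow_one]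
  have h := hpg.card_modEq_card_fixedPoints Q
  have hset : MulAction.fixedPoints (Subgroup.zpowers α) Q = (Z : Set Q) := by
    ext a
    rw [MulAction.mem_fixedPoints, SetLike.mem_coe, ← hfix]
    constructor
    · intro h
      exact h ⟨α, Subgroup.mem_zpowers α⟩
    · intro ha g
      have hle : Subgroup.zpowers α ≤ MulAction.stabilizer (MulAut Q) a := by
        rw [Subgroup.zpowers_le]
        exact MulAction.mem_stabilizer_iff.mpr ha
      exact MulAction.mem_stabilizer_iff.mp (hle g.2)
  have hc : Nat.card (MulAction.fixedPoints (Subgroup.zpowers α) Q) = Nat.card Z := by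
    rw [hset]
    rfl
  rwa [hc] at h

end count

/-- PACKAGE PD (no Schmidt-type group of order `p³`, `p ≤ 3`, with an elementary abelian subgroup
of order `p²`).  `hA` is the conclusion of PA. -/
theorem PD {p : ℕ} [Fact p.Prime] (hp : p ≤ 3) {Q : Type*} [Group Q] [Finite Q]
    (hcard : Nat.card Q = p ^ 3) (α : MulAut Q) (q : ℕ) (hα : SchmidtData p α q)
    (hnc : ¬ ∀ a b : Q, a * b = b * a)
    (hA : (∀ a b : Q, a * b * a⁻¹ * b⁻¹ ∈ Subgroup.center Q) ∧
      (∀ z ∈ Subgroup.center Q, α z = z) ∧
      (∀ a : Q, a ^ p ∈ Subgroup.center Q) ∧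
      (∀ u : Q, u ∉ Subgroup.center Q → ∀ z ∈ Subgroup.center Q,
        ∃ v : Q, u * v * u⁻¹ * v⁻¹ = z) ∧
      (∀ H : Subgroup Q, Subgroup.center Q ≤ H → (∀ h ∈ H, α h ∈ H) →
        H = Subgroup.center Q ∨ H = ⊤))
    (R : Subgroup Q) (hR : Nat.card R = p ^ 2) (hRp : ∀ r ∈ R, r ^ p = 1) : False := by
  obtain ⟨hq, hqp, hαq, hα1, -⟩ := hα
  obtain ⟨hA1, hA2, hA3, -, hA5⟩ := hA
  have hpp : p.Prime := Fact.out
  have : Fact q.Prime := ⟨hq⟩
  have hkey := key α hnc hA2 hA5
  -- fixed points of `α` are exactly the centre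
  have hfix : ∀ a : Q, α a = a ↔ a ∈ Subgroup.center Q := by
    intro a
    constructor
    · intro h
      by_contra hn
      apply hkey a hn
      rw [h]
      exact (le_sup_left : Subgroup.zpowers a ≤ _) (Subgroup.mem_zpowers a)
    · exact hA2 a
  have hmod := card_modEq α q hαq hα1 (Subgroup.center Q) hfix
  -- the order of the centre
  have hQp : IsPGroup p Q := IsPGroup.of_card hcard
  have : Nontrivial Q := by
    rw [← Finite.one_lt_card_iff_nontrivial, hcard]
    exact Nat.one_lt_pow (by norm_num) hpp.one_lt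
  obtain ⟨j, hj3, hj⟩ := (Nat.dvd_prime_pow hpp).mp
    (hcard ▸ Subgroup.card_subgroup_dvd_card (Subgroup.center Q))
  have hj0 : j ≠ 0 := by
    rintro rfl
    rw [pow_zero, Subgroup.card_eq_one] at hj
    exact (hQp.bot_lt_center).ne' hj
  have hZtop : Subgroup.center Q ≠ ⊤ := by
    intro h
    apply hnc
    intro a b
    have hb : b ∈ Subgroup.center Q := by rw [h]; exact Subgroup.mem_top b
    exact (Subgroup.mem_center_iff.mp hb a)
  have hj3' : j ≠ 3 := by
    rintro rfl
    exact hZtop ((Subgroup.card_eq_iff_eq_top _).mp (hj.trans hcard.symm))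
  -- a noncentral element
  obtain ⟨a₀, ha₀⟩ : ∃ a : Q, a ∉ Subgroup.center Q := by
    by_contra h
    exact hZtop (eq_top_iff.mpr fun x _ => by
      by_contra hx
      exact h ⟨x, hx⟩)
  obtain rfl | rfl : p = 2 ∨ p = 3 := by
    have := hpp.two_le
    omega
  · -- `p = 2`
    have hj' : j = 1 ∨ j = 2 := by omega
    have hZq : Nat.card (Subgroup.center Q) = 2 ∧ q = 3 := by
      rcases hj' with rfl | rfl
      · rw [hcard, hj] at hmod
        have hd : q ∣ 8 - 2 := (Nat.modEq_iff_dvd' (by norm_num)).mp hmod.symm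
        have hle : q ≤ 6 := Nat.le_of_dvd (by norm_num) hd
        have h2 := hq.two_le
        refine ⟨by rw [hj]; norm_num, ?_⟩
        interval_cases q <;> first | rfl | omega | (exfalso; revert hq; decide)
      · exfalso
        rw [hcard, hj] at hmod
        have hd : q ∣ 8 - 4 := (Nat.modEq_iff_dvd' (by norm_num)).mp hmod.symm
        have hle : q ≤ 4 := Nat.le_of_dvd (by norm_num) hd
        have h2 := hq.two_le
        interval_cases q <;> first | omega | (revert hq; decide)
    obtain ⟨hZ2, rfl⟩ := hZq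
    have hz2 : ∀ z ∈ Subgroup.center Q, z * z = 1 := by
      intro z hz
      have h1 := pow_card_eq_one' (G := Subgroup.center Q) (x := ⟨z, hz⟩)
      rw [hZ2] at h1
      have h2 := congrArg Subtype.val h1
      simpa [pow_two] using h2
    -- a noncentral involution in `R`
    obtain ⟨r, hrR, hrZ⟩ : ∃ r ∈ R, r ∉ Subgroup.center Q := by
      by_contra h
      have hle : R ≤ Subgroup.center Q := by
        intro x hx
        by_contra hxZ
        exact h ⟨x, hx, hxZ⟩
      have h1 := Subgroup.card_le_of_le hle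
      rw [hR, hZ2] at h1
      norm_num at h1
    have hr2 : r * r = 1 := by
      have h1 := hRp r hrR
      rwa [pow_two] at h1
    have hα3 : ∀ x : Q, α (α (α x)) = x := by
      intro x
      have h1 := congrArg (fun f : MulAut Q => f x) hαq
      simpa [pow_succ, MulAut.mul_apply] using h1
    have hnotZ : ∀ x : Q, x ∉ Subgroup.center Q → α x ∉ Subgroup.center Q := by
      intro x hx hαx
      apply hx
      have h1 : α (α x) = α x := hA2 _ hαx
      have h2 : α x = x := α.injective h1
      rw [← h2]
      exact hαx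
    have hsZ := hnotZ r hrZ
    have htZ := hnotZ (α r) hsZ
    have hs2 : α r * α r = 1 := by rw [← map_mul, hr2, map_one]
    have ht2 : α (α r) * α (α r) = 1 := by rw [← map_mul, hs2, map_one]
    have hαt : α (α (α r)) = r := hα3 r
    have hcos : ∀ x : Q, x ∉ Subgroup.center Q → ∀ z ∈ Subgroup.center Q, α x ≠ x * z := by
      intro x hx z hz h
      apply hkey x hx
      rw [h]
      exact Subgroup.mul_mem _ ((le_sup_left : Subgroup.zpowers x ≤ _) (Subgroup.mem_zpowers x))
        ((le_sup_right : Subgroup.center Q ≤ _) hz)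
    classical
    have : Fintype (Q ⧸ Subgroup.center Q) := Fintype.ofFinite _
    have hidx : Fintype.card (Q ⧸ Subgroup.center Q) = 4 := by
      rw [← Nat.card_eq_fintype_card, ← Subgroup.index_eq_card]
      have h1 := Subgroup.card_mul_index (Subgroup.center Q)
      rw [hZ2, hcard] at h1
      norm_num at h1
      omega
    have hne : ∀ x y : Q, x⁻¹ * y ∉ Subgroup.center Q →
        (QuotientGroup.mk x : Q ⧸ Subgroup.center Q) ≠ QuotientGroup.mk y :=
      fun x y h e => h (QuotientGroup.eq.mp e)
    have hS : ({QuotientGroup.mk 1, QuotientGroup.mk r, QuotientGroup.mk (α r),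
        QuotientGroup.mk (α (α r))} : Finset (Q ⧸ Subgroup.center Q)).card = 4 := by
      rw [Finset.card_insert_of_notMem, Finset.card_insert_of_notMem,
        Finset.card_insert_of_notMem, Finset.card_singleton]
      · rw [Finset.mem_singleton]
        apply hne
        intro hz
        exact hcos (α r) hsZ _ hz (by group)
      · simp only [Finset.mem_insert, Finset.mem_singleton, not_or]
        refine ⟨hne _ _ ?_, hne _ _ ?_⟩
        · intro hz
          exact hcos r hrZ _ hz (by group)
        · intro hz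
          refine hcos (α (α r)) htZ ((α (α r))⁻¹ * r) ?_ (by rw [hαt]; group)
          have h1 := Subgroup.inv_mem _ hz
          simpa [mul_inv_rev] using h1
      · simp only [Finset.mem_insert, Finset.mem_singleton, not_or]
        refine ⟨hne _ _ ?_, hne _ _ ?_, hne _ _ ?_⟩
        · simpa using hrZ
        · simpa using hsZ
        · simpa using htZ
    have huniv := Finset.eq_univ_of_card _ (hS.trans hidx.symm)
    have hall : ∀ b : Q, b * b = 1 := by
      intro b
      have hb : (QuotientGroup.mk b : Q ⧸ Subgroup.center Q) ∈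
          ({QuotientGroup.mk 1, QuotientGroup.mk r, QuotientGroup.mk (α r),
            QuotientGroup.mk (α (α r))} : Finset (Q ⧸ Subgroup.center Q)) := by
        rw [huniv]
        exact Finset.mem_univ _
      simp only [Finset.mem_insert, Finset.mem_singleton] at hb
      have aux : ∀ u : Q, u * u = 1 →
          (QuotientGroup.mk b : Q ⧸ Subgroup.center Q) = QuotientGroup.mk u → b * b = 1 := by
        intro u hu e
        have hz : u⁻¹ * b ∈ Subgroup.center Q := QuotientGroup.eq.mp e.symm
        have hzz := hz2 _ hz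
        have hc := Subgroup.mem_center_iff.mp hz u
        calc b * b = u * ((u⁻¹ * b) * u) * (u⁻¹ * b) := by group
          _ = u * (u * (u⁻¹ * b)) * (u⁻¹ * b) := by rw [← hc]
          _ = (u * u) * ((u⁻¹ * b) * (u⁻¹ * b)) := by group
          _ = 1 := by rw [hu, hzz, one_mul]
      rcases hb with e | e | e | e
      · exact aux 1 (one_mul 1) e
      · exact aux r hr2 e
      · exact aux _ hs2 e
      · exact aux _ ht2 e
    exact hnc (comm_of_sq_eq_one hall)
  · -- `p = 3`
    have hq2 : q = 2 := by
      have hj' : j = 1 ∨ j = 2 := by omega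
      rcases hj' with rfl | rfl
      · rw [hcard, hj] at hmod
        have hd : q ∣ 27 - 3 := (Nat.modEq_iff_dvd' (by norm_num)).mp hmod.symm
        have hle : q ≤ 24 := Nat.le_of_dvd (by norm_num) hd
        have h2 := hq.two_le
        interval_cases q <;> first | rfl | omega | (exfalso; revert hq; decide)
      · rw [hcard, hj] at hmod
        have hd : q ∣ 27 - 9 := (Nat.modEq_iff_dvd' (by norm_num)).mp hmod.symm
        have hle : q ≤ 18 := Nat.le_of_dvd (by norm_num) hd
        have h2 := hq.two_le
        interval_cases q <;> first | rfl | omega | (exfalso; revert hq; decide)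
    subst hq2
    have hαα : ∀ x : Q, α (α x) = x := by
      intro x
      have := congrArg (fun f : MulAut Q => f x) hαq
      simpa [pow_two, MulAut.mul_apply] using this
    -- `b = a₀ * α a₀` is central
    have hb : a₀ * α a₀ ∈ Subgroup.center Q := by
      by_contra hn
      apply hkey _ hn
      have hc : (a₀ * α a₀)⁻¹ * α (a₀ * α a₀) ∈ Subgroup.center Q := by
        have := hA1 (α a₀)⁻¹ a₀⁻¹
        rw [map_mul, hαα]
        convert this using 1
        group
      have : α (a₀ * α a₀) = (a₀ * α a₀) * ((a₀ * α a₀)⁻¹ * α (a₀ * α a₀)) := by group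
      rw [this]
      exact Subgroup.mul_mem _ ((le_sup_left : Subgroup.zpowers (a₀ * α a₀) ≤ _)
        (Subgroup.mem_zpowers _)) ((le_sup_right : Subgroup.center Q ≤ _) hc)
    apply hkey a₀ ha₀
    have : α a₀ = a₀⁻¹ * (a₀ * α a₀) := by group
    rw [this]
    exact Subgroup.mul_mem _ ((le_sup_left : Subgroup.zpowers a₀ ≤ _)
      (Subgroup.inv_mem _ (Subgroup.mem_zpowers _))) ((le_sup_right : Subgroup.center Q ≤ _) hb)

end Cfsg.Agent.Lib.Helper69_Schmidt_PD
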