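/-
Helper library (helper94), package S4394-PA of helper33's Schmidt market: the structure of a
nonabelian `p`-group carrying `SchmidtData`.
-/
import Mathlib
import Cfsg.Agent.Lib.Helper33_SchmidtDefs

set_option autoImplicit false

namespace Cfsg.Agent.Lib.Helper94_Schmidt_PA

open Cfsg.Agent.Lib.Helper33_SchmidtDefs

section
variable {p : ℕ} [Fact p.Prime] {Q : Type*} [Group Q] [Finite Q]

theorem map_eq_one_of_pow_prime {A : Type*} [Group A] (f : Q →* A) (hQ : IsPGroup p Q) {q : ℕ}
    (hq : q.Prime) (hqp : q ≠ p) {z : Q} (h1 : (f z) ^ q = 1) : f z = 1 := by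
  obtain ⟨k, hk⟩ := hQ z
  have d1 := orderOf_dvd_of_pow_eq_one h1
  have d2 : orderOf (f z) ∣ p ^ k := by
    apply orderOf_dvd_of_pow_eq_one
    rw [← map_pow, hk, map_one]
  have cop : Nat.Coprime q (p ^ k) :=
    Nat.Coprime.pow_right k ((Nat.coprime_primes hq (Fact.out)).2 hqp)
  have := Nat.eq_one_of_dvd_coprimes cop d1 d2
  exact orderOf_eq_one_iff.1 this

theorem closure_eq_top (hQ : IsPGroup p Q) (α : MulAut Q) (q : ℕ) (hα : SchmidtData p α q) :
    Subgroup.closure {g : Q | ∃ u : Q, g = u⁻¹ * α u} = ⊤ := by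
  obtain ⟨hq, hqp, hαq, hα1, hinv⟩ := hα
  by_contra hne
  have hDinv : ∀ h ∈ Subgroup.closure {g : Q | ∃ u : Q, g = u⁻¹ * α u},
      α h ∈ Subgroup.closure {g : Q | ∃ u : Q, g = u⁻¹ * α u} := by
    intro h hh
    induction hh using Subgroup.closure_induction with
    | mem x hx =>
      obtain ⟨u, rfl⟩ := hx
      apply Subgroup.subset_closure
      exact ⟨α u, by simp⟩
    | one => simp
    | mul x y _ _ hx hy => rw [map_mul]; exact Subgroup.mul_mem _ hx hy
    | inv x _ hx => rw [map_inv]; exact Subgroup.inv_mem _ hx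
  have hfix := hinv _ hDinv hne
  apply hα1
  ext u
  have hu : u⁻¹ * α u ∈ Subgroup.closure {g : Q | ∃ u : Q, g = u⁻¹ * α u} :=
    Subgroup.subset_closure ⟨u, rfl⟩
  have hαh : α (u⁻¹ * α u) = u⁻¹ * α u := hfix _ hu
  have hαu : α u = u * (u⁻¹ * α u) := by group
  have hpow : ∀ k : ℕ, (α ^ k) u = u * (u⁻¹ * α u) ^ k := by
    intro k
    induction k with
    | zero => simp
    | succ k ih =>
      rw [pow_succ', MulAut.mul_apply, ih, map_mul, map_pow, hαh, pow_succ' _ k]
      rw [← mul_assoc, ← hαu]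
  have h1 : (u⁻¹ * α u) ^ q = 1 := by
    have := hpow q
    rw [hαq, MulAut.one_apply] at this
    exact mul_left_cancel (a := u) (by rw [mul_one]; exact this.symm)
  have h2 := map_eq_one_of_pow_prime (MonoidHom.id Q) hQ hq hqp (z := u⁻¹ * α u) h1
  simp only [MonoidHom.id_apply] at h2
  rw [MulAut.one_apply]
  rw [hαu, h2, mul_one]

theorem central_of_invariant_normal (α : MulAut Q)
    (hgen : Subgroup.closure {g : Q | ∃ u : Q, g = u⁻¹ * α u} = ⊤)
    (hinv : ∀ H : Subgroup Q, (∀ h ∈ H, α h ∈ H) → H ≠ ⊤ → ∀ h ∈ H, α h = h)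
    (C : Subgroup Q) (hCn : C.Normal) (hC : ∀ c ∈ C, α c ∈ C) (hCtop : C ≠ ⊤) :
    C ≤ Subgroup.center Q := by
  intro c hc
  have hfix := hinv C hC hCtop
  have hle : Subgroup.closure {g : Q | ∃ u : Q, g = u⁻¹ * α u} ≤ Subgroup.centralizer {c} := by
    rw [Subgroup.closure_le]
    rintro g ⟨u, rfl⟩
    rw [SetLike.mem_coe, Subgroup.mem_centralizer_iff]
    intro h hh
    rw [Set.mem_singleton_iff] at hh
    subst hh
    have h1 : α (u * h * u⁻¹) = u * h * u⁻¹ := hfix _ (hCn.conj_mem h hc u)
    have h2 : α h = h := hfix _ hc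
    rw [map_mul, map_mul, h2, map_inv] at h1
    -- α u * h * (α u)⁻¹ = u * h * u⁻¹
    have h3 : h * (α u)⁻¹ * u = (α u)⁻¹ * u * h := by
      have := congrArg (fun t => (α u)⁻¹ * t * u) h1
      calc h * (α u)⁻¹ * u = (α u)⁻¹ * (α u * h * (α u)⁻¹) * u := by group
        _ = (α u)⁻¹ * (u * h * u⁻¹) * u := this
        _ = (α u)⁻¹ * u * h := by group
    -- want h * (u⁻¹ * α u) = u⁻¹ * α u * h
    have h4 : (u⁻¹ * α u) = ((α u)⁻¹ * u)⁻¹ := by group
    rw [h4]
    calc h * ((α u)⁻¹ * u)⁻¹ = ((α u)⁻¹ * u)⁻¹ * (((α u)⁻¹ * u) * h) * ((α u)⁻¹ * u)⁻¹ := by group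
      _ = ((α u)⁻¹ * u)⁻¹ * (h * (α u)⁻¹ * u) * ((α u)⁻¹ * u)⁻¹ := by rw [h3, mul_assoc]
      _ = ((α u)⁻¹ * u)⁻¹ * h := by group
  rw [hgen] at hle
  rw [Subgroup.mem_center_iff]
  intro g
  have := hle (Subgroup.mem_top g)
  rw [Subgroup.mem_centralizer_iff] at this
  exact (this c rfl).symm

end

/-- PACKAGE PA (structure of a nonabelian Schmidt-type `p`-group). -/
theorem PA {p : ℕ} [Fact p.Prime] {Q : Type*} [Group Q] [Finite Q] (hQ : IsPGroup p Q)
    (α : MulAut Q) (q : ℕ) (hα : SchmidtData p α q) (hnc : ¬ ∀ a b : Q, a * b = b * a) :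
    (∀ a b : Q, a * b * a⁻¹ * b⁻¹ ∈ Subgroup.center Q) ∧
    (∀ z ∈ Subgroup.center Q, α z = z) ∧
    (∀ a : Q, a ^ p ∈ Subgroup.center Q) ∧
    (∀ u : Q, u ∉ Subgroup.center Q → ∀ z ∈ Subgroup.center Q, ∃ v : Q, u * v * u⁻¹ * v⁻¹ = z) ∧
    (∀ H : Subgroup Q, Subgroup.center Q ≤ H → (∀ h ∈ H, α h ∈ H) →
      H = Subgroup.center Q ∨ H = ⊤) := by
  have hgen := closure_eq_top hQ α q hα
  obtain ⟨hq, hqp, hαq, hα1, hinv⟩ := hα
  have hcentral := central_of_invariant_normal α hgen hinv
  have hnil : Group.IsNilpotent Q := hQ.isNilpotent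
  have hnt : Nontrivial Q := by
    by_contra h
    rw [not_nontrivial_iff_subsingleton] at h
    exact hnc (fun a b => Subsingleton.elim _ _)
  have hcomm_ne : commutator Q ≠ ⊤ := (IsSolvable.commutator_lt_top_of_nontrivial Q).ne
  have hcomm_inv : ∀ c ∈ commutator Q, α c ∈ commutator Q := by
    intro c hc
    exact (Subgroup.characteristic_iff_le_comap.1 inferInstance α) hc
  have hcomm_le : commutator Q ≤ Subgroup.center Q :=
    hcentral (commutator Q) inferInstance hcomm_inv hcomm_ne
  have h1 : ∀ a b : Q, a * b * a⁻¹ * b⁻¹ ∈ Subgroup.center Q := by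
    intro a b
    apply hcomm_le
    rw [commutator_def]
    have := Subgroup.commutator_mem_commutator (Subgroup.mem_top a) (Subgroup.mem_top b)
    rwa [commutatorElement_def] at this
  have hZne : Subgroup.center Q ≠ ⊤ := by
    intro h
    apply hnc
    intro a b
    have : b ∈ Subgroup.center Q := by rw [h]; trivial
    rw [Subgroup.mem_center_iff] at this
    exact this a
  have hZinv : ∀ c ∈ Subgroup.center Q, α c ∈ Subgroup.center Q := by
    intro c hc
    exact (Subgroup.characteristic_iff_le_comap.1 inferInstance α) hc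
  have h2 : ∀ z ∈ Subgroup.center Q, α z = z := hinv _ hZinv hZne
  -- center ≤ commutator
  have hZle : Subgroup.center Q ≤ commutator Q := by
    intro z hz
    let N : Q →* Abelianization Q :=
      ∏ i ∈ Finset.range q, (Abelianization.of).comp ((α ^ i : MulAut Q).toMonoidHom)
    have hN : ∀ u, N u = ∏ i ∈ Finset.range q, Abelianization.of ((α ^ i) u) := by
      intro u
      simp only [N, MonoidHom.finset_prod_apply]
      rfl
    have hNα : ∀ u, N (α u) = N u := by
      intro u
      rw [hN, hN]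
      have e1 := Finset.prod_range_succ (fun i => Abelianization.of ((α ^ i) u)) q
      have e2 := Finset.prod_range_succ' (fun i => Abelianization.of ((α ^ i) u)) q
      simp only [hαq, MulAut.one_apply, pow_zero] at e1 e2
      have e3 : ∀ i, (α ^ (i+1)) u = (α ^ i) (α u) := by
        intro i
        rw [pow_succ, MulAut.mul_apply]
      simp only [e3] at e2
      rw [e1] at e2
      exact (mul_right_cancel e2).symm
    have hker : Subgroup.closure {g : Q | ∃ u : Q, g = u⁻¹ * α u} ≤ N.ker := by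
      rw [Subgroup.closure_le]
      rintro g ⟨u, rfl⟩
      rw [SetLike.mem_coe, MonoidHom.mem_ker, map_mul, map_inv, hNα]
      simp
    rw [hgen] at hker
    have hz1 : N z = 1 := hker (Subgroup.mem_top z)
    have hfixi : ∀ i : ℕ, (α ^ i) z = z := by
      intro i
      induction i with
      | zero => simp
      | succ i ih => rw [pow_succ, MulAut.mul_apply, h2 z hz, ih]
    rw [hN] at hz1
    simp only [hfixi, Finset.prod_const, Finset.card_range] at hz1
    have := map_eq_one_of_pow_prime (Abelianization.of) hQ hq hqp hz1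
    rw [← Abelianization.ker_of Q]
    exact this
  have hZeq : Subgroup.center Q = commutator Q := le_antisymm hZle hcomm_le
  -- p-th powers
  have h3 : ∀ a : Q, a ^ p ∈ Subgroup.center Q := by
    let Y : Subgroup Q :=
      (MonoidHom.range (powMonoidHom p : Abelianization Q →* Abelianization Q)).comap
        Abelianization.of
    have hYn : Y.Normal := inferInstance
    have hYinv : ∀ c ∈ Y, α c ∈ Y := by
      intro c hc
      obtain ⟨b, hb⟩ := hc
      refine ⟨Abelianization.map α.toMonoidHom b, ?_⟩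
      simp only [powMonoidHom_apply] at hb ⊢
      rw [← map_pow, hb, Abelianization.map_of]
      rfl
    have hYne : Y ≠ ⊤ := by
      intro hY
      have hsurj : Function.Surjective (powMonoidHom p : Abelianization Q →* Abelianization Q) := by
        intro x
        obtain ⟨y, rfl⟩ := QuotientGroup.mk_surjective x
        have : y ∈ Y := by rw [hY]; trivial
        exact this
      have hinj := Finite.injective_iff_surjective.2 hsurj
      have hpA : IsPGroup p (Abelianization Q) := hQ.to_quotient (commutator Q)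
      have hntA : Nontrivial (Abelianization Q) := by
        by_contra h
        rw [not_nontrivial_iff_subsingleton] at h
        apply hcomm_ne
        rw [eq_top_iff]
        intro x _
        rw [← Abelianization.ker_of Q, MonoidHom.mem_ker]
        exact Subsingleton.elim _ _
      obtain ⟨x, hx⟩ := exists_ne (1 : Abelianization Q)
      obtain ⟨k, hk⟩ := hpA x
      have hinjk : ∀ k : ℕ, ∀ x : Abelianization Q, x ^ (p ^ k) = 1 → x = 1 := by
        intro k
        induction k with
        | zero => intro x hx; simpa using hx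
        | succ k ih =>
          intro x hx
          rw [pow_succ', pow_mul] at hx
          have := ih _ hx
          apply hinj
          simpa using this
      exact hx (hinjk k x hk)
    have hYle := hcentral Y hYn hYinv hYne
    intro a
    apply hYle
    refine ⟨Abelianization.of a, ?_⟩
    simp
  refine ⟨h1, h2, h3, ?_, ?_⟩
  · -- commutator map onto the center
    intro u hu z hz
    -- ψ v : w ↦ w v w⁻¹ v⁻¹ is a hom
    have hψmul : ∀ v w w' : Q, (w * w') * v * (w * w')⁻¹ * v⁻¹
        = (w * v * w⁻¹ * v⁻¹) * (w' * v * w'⁻¹ * v⁻¹) := by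
      intro v w w'
      have hc := h1 w' v
      rw [Subgroup.mem_center_iff] at hc
      calc (w * w') * v * (w * w')⁻¹ * v⁻¹
          = w * (w' * v * w'⁻¹ * v⁻¹) * (v * w⁻¹ * v⁻¹) := by group
        _ = (w' * v * w'⁻¹ * v⁻¹) * w * (v * w⁻¹ * v⁻¹) := by rw [hc w]
        _ = (w' * v * w'⁻¹ * v⁻¹) * (w * v * w⁻¹ * v⁻¹) := by group
        _ = (w * v * w⁻¹ * v⁻¹) * (w' * v * w'⁻¹ * v⁻¹) := by rw [hc (w * v * w⁻¹ * v⁻¹)]
    let ψ : Q → (Q →* Q) := fun v => MonoidHom.mk' (fun w => w * v * w⁻¹ * v⁻¹) (hψmul v)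
    have hψ : ∀ v w, ψ v w = w * v * w⁻¹ * v⁻¹ := fun v w => rfl
    let I : Subgroup Q := (ψ u).range
    have hIle : I ≤ Subgroup.center Q := by
      rintro x ⟨w, rfl⟩
      rw [hψ]
      exact h1 w u
    let Y : Subgroup Q := ⨅ v : Q, I.comap (ψ v)
    have hY : ∀ w, w ∈ Y ↔ ∀ v, w * v * w⁻¹ * v⁻¹ ∈ I := by
      intro w
      simp only [Y, Subgroup.mem_iInf, Subgroup.mem_comap, hψ]
    have huY : u ∈ Y := by
      rw [hY]
      intro v
      have : u * v * u⁻¹ * v⁻¹ = (ψ u v)⁻¹ := by rw [hψ]; group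
      rw [this]
      exact I.inv_mem ⟨v, rfl⟩
    have hYinv : ∀ c ∈ Y, α c ∈ Y := by
      intro c hc
      rw [hY] at hc ⊢
      intro v
      have e1 : α c * v * (α c)⁻¹ * v⁻¹ = α (c * (α.symm v) * c⁻¹ * (α.symm v)⁻¹) := by
        simp
      have e2 := hc (α.symm v)
      rw [e1, h2 _ (hIle e2)]
      exact e2
    have hYn : Y.Normal := by
      constructor
      intro w hw g
      rw [hY] at hw ⊢
      intro v
      have hc := h1 g w
      have e1 : g * w * g⁻¹ = (g * w * g⁻¹ * w⁻¹) * w := by group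
      have e2 : ψ v (g * w * g⁻¹) = ψ v w := by
        rw [e1, map_mul]
        have : ψ v (g * w * g⁻¹ * w⁻¹) = 1 := by
          rw [hψ]
          rw [Subgroup.mem_center_iff] at hc
          rw [← hc v]
          group
        rw [this, one_mul]
      rw [hψ, hψ] at e2
      rw [e2]
      exact hw v
    have hYtop : Y = ⊤ := by
      by_contra hne
      exact hu (hcentral Y hYn hYinv hne huY)
    have hcommI : commutator Q ≤ I := by
      rw [commutator_eq_closure, Subgroup.closure_le]
      rintro x ⟨g₁, g₂, rfl⟩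
      have : g₁ ∈ Y := by rw [hYtop]; trivial
      rw [hY] at this
      have := this g₂
      rwa [← commutatorElement_def] at this
    have hzI : z⁻¹ ∈ I := hcommI (hZle ((Subgroup.center Q).inv_mem hz))
    obtain ⟨v, hv⟩ := hzI
    refine ⟨v, ?_⟩
    rw [hψ] at hv
    have : u * v * u⁻¹ * v⁻¹ = (v * u * v⁻¹ * u⁻¹)⁻¹ := by group
    rw [this, hv, inv_inv]
  · intro H hZH hHinv
    by_cases hH : H = ⊤
    · exact Or.inr hH
    · left
      have hHn : H.Normal := by
        constructor
        intro h hh g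
        have : g * h * g⁻¹ = (g * h * g⁻¹ * h⁻¹) * h := by group
        rw [this]
        exact H.mul_mem (hZH (h1 g h)) hh
      exact le_antisymm (hcentral H hHn hHinv hH) hZH

end Cfsg.Agent.Lib.Helper94_Schmidt_PA
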