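/-
Helper library (helper94), package S4394-PC2 of helper33's Schmidt market: the module argument.
-/
import Mathlib

set_option autoImplicit false

namespace Cfsg.Agent.Lib.Helper94_Schmidt_PC2

section
variable {Γ : Type*} [Group Γ] {V : Type*} [CommGroup V]
variable (c : Γ →* MulAut V) (E : Subgroup Γ) [Fintype E]

/-- the norm map of `E` on `V` -/
def nu : V →* V := ∏ e : E, (c (e : Γ)).toMonoidHom

theorem nu_apply (v : V) : nu c E v = ∏ e : E, c (e : Γ) v := by
  simp only [nu, MonoidHom.finset_prod_apply]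
  rfl

theorem nu_act {g : Γ} (hg : g ∈ E) (v : V) : nu c E (c g v) = nu c E v := by
  rw [nu_apply, nu_apply]
  have := Equiv.prod_comp (Equiv.mulRight (⟨g, hg⟩ : E)) (fun e : E => c (e : Γ) v)
  rw [← this]
  apply Finset.prod_congr rfl
  intro e _
  simp [map_mul, MulAut.mul_apply]

theorem act_nu {g : Γ} (hg : g ∈ E) (v : V) : c g (nu c E v) = nu c E v := by
  rw [nu_apply, map_prod]
  have := Equiv.prod_comp (Equiv.mulLeft (⟨g, hg⟩ : E)) (fun e : E => c (e : Γ) v)
  rw [← this]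
  apply Finset.prod_congr rfl
  intro e _
  simp [map_mul, MulAut.mul_apply]

theorem nu_fixed {u : V} (hu : ∀ e ∈ E, c e u = u) : nu c E u = u ^ Fintype.card E := by
  rw [nu_apply]
  rw [Finset.prod_congr rfl (fun (e : E) _ => hu (e : Γ) e.2)]
  simp

theorem nu_comm_of_comm {y : Γ} (hy : ∀ e ∈ E, y * e = e * y) (v : V) :
    nu c E (c y v) = c y (nu c E v) := by
  rw [nu_apply, nu_apply, map_prod]
  apply Finset.prod_congr rfl
  intro e _
  rw [← MulAut.mul_apply, ← map_mul, ← hy e e.2, map_mul, MulAut.mul_apply]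

/-- conjugation by an element of the normalizer, as a permutation of `E` -/
def conjEquiv (t : Γ) (ht : t ∈ Subgroup.normalizer (E : Set Γ)) : E ≃ E where
  toFun e := ⟨t⁻¹ * e * t, (Subgroup.mem_normalizer_iff''.1 ht e).1 e.2⟩
  invFun e := ⟨t * e * t⁻¹, (Subgroup.mem_normalizer_iff.1 ht e).1 e.2⟩
  left_inv e := by
    apply Subtype.ext
    simp only
    group
  right_inv e := by
    apply Subtype.ext
    simp only
    group

theorem nu_normalizer {t : Γ} (ht : t ∈ Subgroup.normalizer (E : Set Γ)) (v : V) :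
    nu c E (c t v) = c t (nu c E v) := by
  rw [nu_apply, nu_apply, map_prod]
  have := Equiv.prod_comp (conjEquiv E t ht) (fun e : E => c t (c (e : Γ) v))
  rw [← this]
  apply Finset.prod_congr rfl
  intro e _
  change c e (c t v) = c t (c (t⁻¹ * e * t) v)
  rw [← MulAut.mul_apply, ← MulAut.mul_apply, ← map_mul, ← map_mul]
  congr 2
  group

end

/-- PACKAGE PC2 (the module argument). -/
theorem PC2 {p : ℕ} [Fact p.Prime] {Γ : Type*} [Group Γ] [Finite Γ] {V : Type*} [CommGroup V]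
    [Finite V] (c : Γ →* MulAut V) (hV : ∀ v : V, v ^ p = 1)
    (hfaith : ∀ γ : Γ, (∀ v, c γ v = v) → γ = 1)
    (T : Subgroup Γ) (hTc : ∀ a ∈ T, ∀ b ∈ T, a * b = b * a) (hTp : ∀ a ∈ T, a ^ p = 1)
    (Zb : Subgroup V) (h1 : ∀ t ∈ T, ∀ v : V, c t v * v⁻¹ ∈ Zb)
    (h2 : ∀ t ∈ T, ∀ z ∈ Zb, c t z = z)
    (h3 : ∀ v : V, v ∉ Zb → ∀ z ∈ Zb, ∃ t ∈ T, c t v * v⁻¹ = z)
    (E : Subgroup Γ) (x : Γ) (hE : (Nat.card E).Coprime p)
    (hTE : T ≤ Subgroup.normalizer (E : Set Γ)) (hx : x ∈ T) (hxE : ∃ e ∈ E, x * e ≠ e * x)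
    (hT0 : ∀ t ∈ T, ∃ k : ℕ, ∀ e ∈ E, (x ^ k)⁻¹ * t * e = e * ((x ^ k)⁻¹ * t))
    (hEx : E = Subgroup.closure {g | ∃ e ∈ E, g = x * e * x⁻¹ * e⁻¹}) :
    Nat.card T = p ∧ Nat.card Zb = p := by
  classical
  have : Fintype E := Fintype.ofFinite E
  have hp : p.Prime := Fact.out
  have hcop : (Fintype.card E).Coprime p := by
    rw [← Nat.card_eq_fintype_card]; exact hE
  obtain ⟨m, -, hm⟩ := Nat.exists_mul_mod_eq_one_of_coprime hcop hp.one_lt
  have hpow : ∀ u : V, u ^ (Fintype.card E * m) = u := by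
    intro u
    have : Fintype.card E * m = p * (Fintype.card E * m / p) + 1 := by
      have := Nat.div_add_mod (Fintype.card E * m) p
      omega
    rw [this, pow_succ, pow_mul, hV, one_pow, one_mul]
  -- fixed and killed by the norm => trivial
  have hX : ∀ u : V, (∀ e ∈ E, c e u = u) → nu c E u = 1 → u = 1 := by
    intro u hu h
    rw [nu_fixed c E hu] at h
    rw [← hpow u, pow_mul, h, one_pow]
  -- decomposition
  have hY : ∀ v : V, ∃ v0 w : V, v = v0 * w ∧ (∀ e ∈ E, c e v0 = v0) ∧ nu c E w = 1 := by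
    intro v
    refine ⟨(nu c E v) ^ m, v * ((nu c E v) ^ m)⁻¹, by simp, ?_, ?_⟩
    · intro e he
      rw [map_pow, act_nu c E he]
    · rw [map_mul, map_inv, map_pow, nu_fixed c E (fun e he => act_nu c E he v), ← pow_mul, hpow]
      simp
  -- generators of E fix what E keeps inside Zb
  have hgen : ∀ w1 : V, (∀ e ∈ E, c e w1 ∈ Zb) →
      ∀ e ∈ Subgroup.closure {g | ∃ e ∈ E, g = x * e * x⁻¹ * e⁻¹}, c e w1 = w1 := by
    intro w1 hEw1 e he
    have hw1Zb : w1 ∈ Zb := by
      have := hEw1 1 E.one_mem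
      simpa using this
    induction he using Subgroup.closure_induction with
    | mem g hg =>
      obtain ⟨e', he', rfl⟩ := hg
      have e1 : c (x * e' * x⁻¹ * e'⁻¹) w1 = c x (c e' (c x⁻¹ (c e'⁻¹ w1))) := by
        simp only [map_mul, MulAut.mul_apply]
      rw [e1, h2 x⁻¹ (T.inv_mem hx) _ (hEw1 e'⁻¹ (E.inv_mem he'))]
      rw [← MulAut.mul_apply _ (c e'), ← map_mul, mul_inv_cancel, map_one, MulAut.one_apply]
      exact h2 x hx _ hw1Zb
    | one => simp
    | mul a b _ _ ha hb => rw [map_mul, MulAut.mul_apply, hb, ha]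
    | inv a _ ha =>
      have := congrArg (c a⁻¹) ha
      rw [← MulAut.mul_apply, ← map_mul, inv_mul_cancel, map_one, MulAut.one_apply] at this
      exact this.symm
  -- Step A: elements of T centralizing E are trivial on ker ν
  have hA : ∀ y ∈ T, (∀ e ∈ E, y * e = e * y) → ∀ w : V, nu c E w = 1 → c y w = w := by
    intro y hyT hy w hw
    have hw1W : nu c E (c y w * w⁻¹) = 1 := by
      rw [map_mul, map_inv, nu_comm_of_comm c E hy, hw]
      simp
    have hEw1 : ∀ e ∈ E, c e (c y w * w⁻¹) ∈ Zb := by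
      intro e he
      have : c e (c y w * w⁻¹) = c y (c e w) * (c e w)⁻¹ := by
        rw [map_mul, map_inv]
        congr 1
        rw [← MulAut.mul_apply, ← MulAut.mul_apply, ← map_mul, ← map_mul, hy e he]
      rw [this]
      exact h1 y hyT _
    have hw1Zb : c y w * w⁻¹ ∈ Zb := h1 y hyT w
    have hfix : ∀ e ∈ E, c e (c y w * w⁻¹) = c y w * w⁻¹ := by
      intro e he
      exact hgen _ hEw1 e (by rw [← hEx]; exact he)
    have := hX _ hfix hw1W
    exact mul_inv_eq_one.1 this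
  -- Step B: x is nontrivial on ker ν
  have hB : ∃ w : V, nu c E w = 1 ∧ c x w ≠ w := by
    by_contra hB
    push Not at hB
    obtain ⟨e, he, hne⟩ := hxE
    apply hne
    have hxinv : ∀ w : V, nu c E w = 1 → c x⁻¹ w = w := by
      intro w hw
      have := congrArg (c x⁻¹) (hB w hw)
      rw [← MulAut.mul_apply, ← map_mul, inv_mul_cancel, map_one, MulAut.one_apply] at this
      exact this.symm
    have hgE : x * e * x⁻¹ * e⁻¹ ∈ E :=
      E.mul_mem ((Subgroup.mem_normalizer_iff.1 (hTE hx) e).1 he) (E.inv_mem he)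
    have hg1 : x * e * x⁻¹ * e⁻¹ = 1 := by
      apply hfaith
      intro v
      obtain ⟨v0, w, rfl, hv0, hw⟩ := hY v
      rw [map_mul, hv0 _ hgE]
      congr 1
      have e1 : c (x * e * x⁻¹ * e⁻¹) w = c x (c e (c x⁻¹ (c e⁻¹ w))) := by
        simp only [map_mul, MulAut.mul_apply]
      rw [e1, hxinv _ (by rw [nu_act c E (E.inv_mem he)]; exact hw)]
      rw [← MulAut.mul_apply _ (c e), ← map_mul, mul_inv_cancel, map_one, MulAut.one_apply]
      exact hB w hw
    have : x * e = (x * e * x⁻¹ * e⁻¹) * (e * x) := by group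
    rw [this, hg1, one_mul]
  obtain ⟨w, hw, hxw⟩ := hB
  have hwZb : w ∉ Zb := fun h => hxw (h2 x hx w h)
  have hz0Zb : c x w * w⁻¹ ∈ Zb := h1 x hx w
  have hz01 : c x w * w⁻¹ ≠ 1 := fun h => hxw (mul_inv_eq_one.1 h)
  have hpowx : ∀ k : ℕ, c (x ^ k) w = w * (c x w * w⁻¹) ^ k := by
    intro k
    induction k with
    | zero => simp
    | succ k ih =>
      rw [pow_succ', map_mul, MulAut.mul_apply, ih, map_mul, map_pow, h2 x hx _ hz0Zb, pow_succ']
      rw [← mul_assoc]
      congr 1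
      simp
  -- each t ∈ T is x^k * t0
  have hTelt : ∀ t ∈ T, ∃ k : ℕ, c t w = w * (c x w * w⁻¹) ^ k := by
    intro t ht
    obtain ⟨k, hk⟩ := hT0 t ht
    have ht0T : (x ^ k)⁻¹ * t ∈ T := T.mul_mem (T.inv_mem (T.pow_mem hx k)) ht
    have := hA _ ht0T hk w hw
    refine ⟨k, ?_⟩
    have e1 : t = x ^ k * ((x ^ k)⁻¹ * t) := by group
    rw [e1, map_mul, MulAut.mul_apply, this, hpowx]
  have hZle : Zb ≤ Subgroup.zpowers (c x w * w⁻¹) := by
    intro z hz
    obtain ⟨t, ht, htz⟩ := h3 w hwZb z hz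
    obtain ⟨k, hk⟩ := hTelt t ht
    rw [hk] at htz
    rw [Subgroup.mem_zpowers_iff]
    refine ⟨k, ?_⟩
    rw [← htz, zpow_natCast]
    simp
  have hZeq : Zb = Subgroup.zpowers (c x w * w⁻¹) :=
    le_antisymm hZle ((Subgroup.zpowers_le).2 hz0Zb)
  have hord : orderOf (c x w * w⁻¹) = p := orderOf_eq_prime (hV _) hz01
  have hcardZ : Nat.card Zb = p := by
    rw [hZeq, Nat.card_zpowers, hord]
  have hnuz0 : nu c E (c x w * w⁻¹) = 1 := by
    rw [map_mul, map_inv, nu_normalizer c E (hTE hx), hw]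
    simp
  have hnuZ : ∀ z ∈ Zb, nu c E z = 1 := by
    intro z hz
    have := hZle hz
    rw [Subgroup.mem_zpowers_iff] at this
    obtain ⟨k, rfl⟩ := this
    rw [map_zpow, hnuz0, one_zpow]
  -- Step D
  have hD : ∀ y ∈ T, (∀ e ∈ E, y * e = e * y) → y = 1 := by
    intro y hyT hy
    apply hfaith
    intro v
    obtain ⟨v0, w', rfl, hv0, hw'⟩ := hY v
    rw [map_mul, hA y hyT hy w' hw']
    congr 1
    have hv1 : c y v0 * v0⁻¹ ∈ Zb := h1 y hyT v0
    have hfix : ∀ e ∈ E, c e (c y v0 * v0⁻¹) = c y v0 * v0⁻¹ := by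
      intro e he
      rw [map_mul, map_inv, hv0 e he]
      congr 1
      rw [← MulAut.mul_apply, ← map_mul, ← hy e he, map_mul, MulAut.mul_apply, hv0 e he]
    exact mul_inv_eq_one.1 (hX _ hfix (hnuZ _ hv1))
  have hTeq : T = Subgroup.zpowers x := by
    apply le_antisymm
    · intro t ht
      obtain ⟨k, hk⟩ := hT0 t ht
      have ht0T : (x ^ k)⁻¹ * t ∈ T := T.mul_mem (T.inv_mem (T.pow_mem hx k)) ht
      have := hD _ ht0T hk
      have e1 : t = x ^ k := by
        have e2 : t = x ^ k * ((x ^ k)⁻¹ * t) := by group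
        rw [e2, this, mul_one]
      rw [e1]
      exact Subgroup.pow_mem _ (Subgroup.mem_zpowers x) k
    · exact (Subgroup.zpowers_le).2 hx
  have hx1 : x ≠ 1 := by
    rintro rfl
    obtain ⟨e, _, hne⟩ := hxE
    exact hne (by simp)
  refine ⟨?_, hcardZ⟩
  rw [hTeq, Nat.card_zpowers]
  exact orderOf_eq_prime (hTp x hx) hx1

end Cfsg.Agent.Lib.Helper94_Schmidt_PC2
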