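import Mathlib
import Cfsg.Agent.Lib.Helper33_SchmidtDefs
import Cfsg.Agent.Lib.Helper33_SchmidtFrat
import Cfsg.Agent.Lib.Helper69_Schmidt_PD
import Cfsg.Agent.Lib.Helper94_Schmidt_PA
import Cfsg.Agent.Lib.Helper94_Schmidt_PC2
import Cfsg.Agent.Lib.Helper45_Schmidt_PC1
import Cfsg.Agent.Lib.Helper10_QuadAction
import Cfsg.Agent.Lib.Helper64_HHPLength
import Cfsg.Agent.Lib.Helper52_ZPL
import Cfsg.Agent.S0274

set_option autoImplicit false

namespace Cfsg.Agent.Lib.Helper33_SchmidtMain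

open Cfsg Cfsg.Agent.Lib.Helper33_SchmidtDefs Cfsg.Agent.Lib.Helper76_PSolvable
open Cfsg.Agent.Lib.Helper69_Schmidt_PD
open Cfsg.Agent.Lib.Helper94_Schmidt_PA Cfsg.Agent.Lib.Helper94_Schmidt_PC2
open Cfsg.Agent.Lib.Helper45_Schmidt_PC1

universe u

/-- glue of packages PC1 and PC2 -/
theorem PC {p : ℕ} [Fact p.Prime] {Γ : Type*} [Group Γ] [Finite Γ] {V : Type*} [CommGroup V]
    [Finite V] (hsol : Cfsg.IsPSolvable p Γ) (hcore : Cfsg.pCore p Γ = ⊥)
    (c : Γ →* MulAut V) (hV : ∀ v : V, v ^ p = 1) (hfaith : ∀ γ : Γ, (∀ v, c γ v = v) → γ = 1)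
    (T : Subgroup Γ) (hTc : ∀ a ∈ T, ∀ b ∈ T, a * b = b * a) (hTp : ∀ a ∈ T, a ^ p = 1)
    (Zb : Subgroup V) (h1 : ∀ t ∈ T, ∀ v : V, c t v * v⁻¹ ∈ Zb)
    (h2 : ∀ t ∈ T, ∀ z ∈ Zb, c t z = z)
    (h3 : ∀ v : V, v ∉ Zb → ∀ z ∈ Zb, ∃ t ∈ T, c t v * v⁻¹ = z) :
    T = ⊥ ∨ (Nat.card T = p ∧ Nat.card Zb = p) := by
  by_cases hT : T = ⊥
  · exact Or.inl hT
  · obtain ⟨E, x, hE, hTE, hx, hxE, hT0, hEx⟩ := PC1 hsol hcore T hTc hTp hT
    exact Or.inr (PC2 c hV hfaith T hTc hTp Zb h1 h2 h3 E x hE hTE hx hxE hT0 hEx)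


section sylow

variable {p : ℕ} [Fact p.Prime] {G : Type u} [Group G] [Finite G]

/-- a normal `p`-subgroup lies in every Sylow `p`-subgroup -/
theorem normal_le_sylow (N : Subgroup G) [N.Normal] (hN : IsPGroup p N) (Q : Sylow p G) :
    N ≤ (Q : Subgroup G) := by
  obtain ⟨P, hP⟩ := hN.exists_le_sylow
  obtain ⟨g, rfl⟩ := MulAction.exists_smul_eq G P Q
  intro n hn
  rw [Sylow.coe_subgroup_smul, Subgroup.mem_smul_pointwise_iff_exists]
  refine ⟨g⁻¹ * n * g, hP ?_, ?_⟩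
  · have := (inferInstance : N.Normal).conj_mem n hn g⁻¹
    simpa using this
  · simp [MulAut.smul_def, mul_assoc]

/-- The set-up shared by both branches: the data `(h1)`-`(h3)` of package PC for the action of
`G / O_p(G)` on the Frattini quotient of `O_p(G)`. -/
theorem setup (hsol : IsPSolvable p G) (hO : pPrimeCore p G = ⊥) (Q : Sylow p G)
    (Z : Subgroup G) (hZR : Z ≤ pCore p G)
    (hZc : ∀ z ∈ Z, ∀ a ∈ (Q : Subgroup G), a * z = z * a)
    (F1 : ∀ a ∈ (Q : Subgroup G), ∀ b ∈ (Q : Subgroup G), a * b * a⁻¹ * b⁻¹ ∈ Z)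
    (F2 : ∀ a ∈ (Q : Subgroup G), a ^ p ∈ Z)
    (F3 : ∀ u ∈ (Q : Subgroup G), u ∉ Z → ∀ z ∈ Z, ∃ v ∈ (Q : Subgroup G),
      u * v * u⁻¹ * v⁻¹ = z) :
    ∃ (N : Type u) (_ : CommGroup N) (_ : Finite N) (qq : ↥(pCore p G) →* N)
      (c : G ⧸ pCore p G →* MulAut N), Function.Surjective qq ∧ (∀ n : N, n ^ p = 1) ∧
      (∀ (g : G) (v : ↥(pCore p G)),
        c (QuotientGroup.mk g) (qq v) = qq (MulAut.conjNormal g v)) ∧
      (∀ γ : G ⧸ pCore p G, (∀ n, c γ n = n) → γ = 1) ∧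
      (∀ v : ↥(pCore p G), qq v = 1 ↔ v ∈ frattini ↥(pCore p G)) ∧
      (∀ a ∈ (Q : Subgroup G).map (QuotientGroup.mk' (pCore p G)),
        ∀ b ∈ (Q : Subgroup G).map (QuotientGroup.mk' (pCore p G)), a * b = b * a) ∧
      (∀ a ∈ (Q : Subgroup G).map (QuotientGroup.mk' (pCore p G)), a ^ p = 1) ∧
      (∀ t ∈ (Q : Subgroup G).map (QuotientGroup.mk' (pCore p G)), ∀ v : N,
        c t v * v⁻¹ ∈ (Z.subgroupOf (pCore p G)).map qq) ∧
      (∀ t ∈ (Q : Subgroup G).map (QuotientGroup.mk' (pCore p G)),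
        ∀ z ∈ (Z.subgroupOf (pCore p G)).map qq, c t z = z) ∧
      (∀ v : N, v ∉ (Z.subgroupOf (pCore p G)).map qq →
        ∀ z ∈ (Z.subgroupOf (pCore p G)).map qq,
          ∃ t ∈ (Q : Subgroup G).map (QuotientGroup.mk' (pCore p G)), c t v * v⁻¹ = z) := by
  classical
  have hRp : IsPGroup p (pCore p G) := pCore_isPGroup p
  have hRQ : pCore p G ≤ (Q : Subgroup G) := normal_le_sylow (pCore p G) hRp Q
  obtain ⟨N, instN, instF, qq, c, hqs, hNp, hcq, hfaith, hker⟩ :=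
    Cfsg.Agent.Lib.Helper33_SchmidtFrat.exists_frattini_action_ker (p := p) (X := G) hsol hO
  refine ⟨N, instN, instF, qq, c, hqs, hNp, hcq, hfaith, hker, ?_, ?_, ?_, ?_, ?_⟩
  · rintro _ ⟨a, ha, rfl⟩ _ ⟨b, hb, rfl⟩
    have h1 : a * b * a⁻¹ * b⁻¹ ∈ pCore p G := hZR (F1 a ha b hb)
    have h2 : (QuotientGroup.mk' (pCore p G)) (a * b * a⁻¹ * b⁻¹) = 1 := by
      rw [QuotientGroup.mk'_apply, QuotientGroup.eq_one_iff]; exact h1
    simp only [map_mul, map_inv] at h2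
    calc (QuotientGroup.mk' (pCore p G)) a * (QuotientGroup.mk' (pCore p G)) b
        = ((QuotientGroup.mk' (pCore p G)) a * (QuotientGroup.mk' (pCore p G)) b *
            ((QuotientGroup.mk' (pCore p G)) a)⁻¹ * ((QuotientGroup.mk' (pCore p G)) b)⁻¹) *
            ((QuotientGroup.mk' (pCore p G)) b * (QuotientGroup.mk' (pCore p G)) a) := by group
      _ = (QuotientGroup.mk' (pCore p G)) b * (QuotientGroup.mk' (pCore p G)) a := by
          rw [h2, one_mul]
  · rintro _ ⟨a, ha, rfl⟩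
    rw [← map_pow, QuotientGroup.mk'_apply, QuotientGroup.eq_one_iff]
    exact hZR (F2 a ha)
  · rintro _ ⟨g, hg, rfl⟩ v
    obtain ⟨r, rfl⟩ := hqs v
    rw [QuotientGroup.mk'_apply, hcq, ← map_inv, ← map_mul]
    refine ⟨MulAut.conjNormal g r * r⁻¹, ?_, rfl⟩
    rw [SetLike.mem_coe, Subgroup.mem_subgroupOf]
    have := F1 g hg r (hRQ r.2)
    simpa [MulAut.conjNormal_apply] using this
  · rintro _ ⟨g, hg, rfl⟩ _ ⟨z0, hz0, rfl⟩
    rw [QuotientGroup.mk'_apply, hcq]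
    congr 1
    apply Subtype.ext
    rw [MulAut.conjNormal_apply]
    rw [SetLike.mem_coe, Subgroup.mem_subgroupOf] at hz0
    have := hZc _ hz0 g hg
    rw [this]; group
  · intro v hv z hz
    obtain ⟨u, rfl⟩ := hqs v
    obtain ⟨z0, hz0, rfl⟩ := hz
    rw [SetLike.mem_coe, Subgroup.mem_subgroupOf] at hz0
    have hu : (u : G) ∉ Z := by
      intro hu
      exact hv ⟨u, by rw [SetLike.mem_coe, Subgroup.mem_subgroupOf]; exact hu, rfl⟩
    obtain ⟨w, hw, hwz⟩ := F3 u (hRQ u.2) hu (z0 : G)⁻¹ (Z.inv_mem hz0)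
    refine ⟨QuotientGroup.mk' (pCore p G) w, ⟨w, hw, rfl⟩, ?_⟩
    rw [QuotientGroup.mk'_apply, hcq, ← map_inv, ← map_mul]
    congr 1
    apply Subtype.ext
    simp only [Subgroup.coe_mul, Subgroup.coe_inv, MulAut.conjNormal_apply]
    have : w * (u : G) * w⁻¹ * (u : G)⁻¹ = ((u : G) * w * (u : G)⁻¹ * w⁻¹)⁻¹ := by group
    rw [this, hwz, inv_inv]


/-- `G`-level form of the conclusions of package PA. -/
theorem glevel (Q : Sylow p G)
    (A1 : ∀ a b : ↥(Q : Subgroup G), a * b * a⁻¹ * b⁻¹ ∈ Subgroup.center ↥(Q : Subgroup G))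
    (A3 : ∀ a : ↥(Q : Subgroup G), a ^ p ∈ Subgroup.center ↥(Q : Subgroup G))
    (A4 : ∀ u : ↥(Q : Subgroup G), u ∉ Subgroup.center ↥(Q : Subgroup G) →
      ∀ z ∈ Subgroup.center ↥(Q : Subgroup G), ∃ v : ↥(Q : Subgroup G), u * v * u⁻¹ * v⁻¹ = z) :
    ∃ Z : Subgroup G, Z ≤ (Q : Subgroup G) ∧
      (∀ g (hg : g ∈ (Q : Subgroup G)), g ∈ Z ↔
        (⟨g, hg⟩ : ↥(Q : Subgroup G)) ∈ Subgroup.center ↥(Q : Subgroup G)) ∧
      (∀ z ∈ Z, ∀ a ∈ (Q : Subgroup G), a * z = z * a) ∧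
      (∀ a ∈ (Q : Subgroup G), ∀ b ∈ (Q : Subgroup G), a * b * a⁻¹ * b⁻¹ ∈ Z) ∧
      (∀ a ∈ (Q : Subgroup G), a ^ p ∈ Z) ∧
      (∀ u ∈ (Q : Subgroup G), u ∉ Z → ∀ z ∈ Z, ∃ v ∈ (Q : Subgroup G),
        u * v * u⁻¹ * v⁻¹ = z) := by
  have hmem : ∀ g (hg : g ∈ (Q : Subgroup G)),
      g ∈ (Subgroup.center ↥(Q : Subgroup G)).map (Q : Subgroup G).subtype ↔
        (⟨g, hg⟩ : ↥(Q : Subgroup G)) ∈ Subgroup.center ↥(Q : Subgroup G) := by
    intro g hg
    constructor
    · rintro ⟨y, hy, hyg⟩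
      have : y = ⟨g, hg⟩ := Subtype.ext hyg
      rw [← this]; exact hy
    · intro h
      exact ⟨⟨g, hg⟩, h, rfl⟩
  have hZQ : (Subgroup.center ↥(Q : Subgroup G)).map (Q : Subgroup G).subtype ≤ (Q : Subgroup G) :=
    Subgroup.map_subtype_le _
  refine ⟨(Subgroup.center ↥(Q : Subgroup G)).map (Q : Subgroup G).subtype, hZQ, hmem,
    ?_, ?_, ?_, ?_⟩
  · intro z hz a ha
    have hz' := (hmem z (hZQ hz)).1 hz
    have := Subgroup.mem_center_iff.mp hz' ⟨a, ha⟩
    exact congrArg Subtype.val this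
  · intro a ha b hb
    have := A1 ⟨a, ha⟩ ⟨b, hb⟩
    exact ⟨_, this, rfl⟩
  · intro a ha
    have := A3 ⟨a, ha⟩
    exact ⟨_, this, rfl⟩
  · intro u hu huZ z hz
    have hu' : (⟨u, hu⟩ : ↥(Q : Subgroup G)) ∉ Subgroup.center ↥(Q : Subgroup G) :=
      fun h => huZ ((hmem u hu).2 h)
    obtain ⟨v, hv⟩ := A4 ⟨u, hu⟩ hu' ⟨z, hZQ hz⟩ ((hmem z (hZQ hz)).1 hz)
    exact ⟨v, v.2, congrArg Subtype.val hv⟩


/-- general: `|ker f| * |H.map f| = |H|` when `ker f ≤ H`. -/
theorem card_ker_mul_card_map {A B : Type*} [Group A] [Group B] (f : A →* B) (H : Subgroup A)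
    (h : f.ker ≤ H) : Nat.card f.ker * Nat.card (H.map f) = Nat.card H := by
  rw [← Subgroup.relIndex_ker, ← Subgroup.relIndex_bot_left, ← Subgroup.relIndex_bot_left,
    Subgroup.relIndex_mul_relIndex _ _ _ bot_le h]

/-- The counting step. -/
theorem counting (hsol : IsPSolvable p G) (hO : pPrimeCore p G = ⊥) (Q : Sylow p G)
    (Z : Subgroup G) (hZR : Z ≤ pCore p G)
    (hZc : ∀ z ∈ Z, ∀ a ∈ (Q : Subgroup G), a * z = z * a)
    (F1 : ∀ a ∈ (Q : Subgroup G), ∀ b ∈ (Q : Subgroup G), a * b * a⁻¹ * b⁻¹ ∈ Z)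
    (F2 : ∀ a ∈ (Q : Subgroup G), a ^ p ∈ Z)
    (F3 : ∀ u ∈ (Q : Subgroup G), u ∉ Z → ∀ z ∈ Z, ∃ v ∈ (Q : Subgroup G),
      u * v * u⁻¹ * v⁻¹ = z)
    {N : Type u} [CommGroup N] [Finite N] (qq : ↥(pCore p G) →* N)
    (c : G ⧸ pCore p G →* MulAut N) (hqs : Function.Surjective qq) (hNp : ∀ n : N, n ^ p = 1)
    (hker : ∀ v : ↥(pCore p G), qq v = 1 ↔ v ∈ frattini ↥(pCore p G))
    (h1 : ∀ t ∈ (Q : Subgroup G).map (QuotientGroup.mk' (pCore p G)), ∀ v : N,
        c t v * v⁻¹ ∈ (Z.subgroupOf (pCore p G)).map qq)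
    (h3 : ∀ v : N, v ∉ (Z.subgroupOf (pCore p G)).map qq →
        ∀ z ∈ (Z.subgroupOf (pCore p G)).map qq,
          ∃ t ∈ (Q : Subgroup G).map (QuotientGroup.mk' (pCore p G)), c t v * v⁻¹ = z)
    (hT : Nat.card ↥((Q : Subgroup G).map (QuotientGroup.mk' (pCore p G))) = p)
    (hZb : Nat.card ↥((Z.subgroupOf (pCore p G)).map qq) = p) :
    Nat.card ↥(Q : Subgroup G) = p ^ 3 ∧ Nat.card ↥(pCore p G) = p ^ 2 ∧
      ∀ r ∈ pCore p G, r ^ p = 1 := by
  classical
  have hp : p.Prime := Fact.out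
  have hRp : IsPGroup p (pCore p G) := pCore_isPGroup p
  have hRQ : pCore p G ≤ (Q : Subgroup G) := normal_le_sylow (pCore p G) hRp Q
  have hHH : Subgroup.centralizer (pCore p G : Set G) ≤ pCore p G :=
    centralizer_pCore_le p hsol hO
  have hZQ : Z ≤ (Q : Subgroup G) := hZR.trans hRQ
  -- (1)
  have hcard1 : Nat.card ↥(pCore p G) * p = Nat.card ↥(Q : Subgroup G) := by
    have := card_mul_card_map_mk (pCore p G) (Q : Subgroup G) hRQ
    rw [hT] at this; exact this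
  -- (2)
  have hfrat : frattini ↥(pCore p G) ≤ Z.subgroupOf (pCore p G) := by
    apply Cfsg.Agent.Lib.Helper1_Frattini.frattini_le_of_elementary_quotient (p := p)
    · rw [commutator_def, Subgroup.commutator_le]
      intro a _ b _
      rw [Subgroup.mem_subgroupOf, commutatorElement_def]
      have := F1 a (hRQ a.2) b (hRQ b.2)
      simpa using this
    · intro x
      rw [Subgroup.mem_subgroupOf]
      have := F2 x (hRQ x.2)
      simpa using this
  have hkerq : qq.ker = frattini ↥(pCore p G) := by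
    ext v
    rw [MonoidHom.mem_ker, hker]
  have hcard2 : Nat.card ↥(frattini ↥(pCore p G)) * p = Nat.card ↥Z := by
    have := card_ker_mul_card_map qq (Z.subgroupOf (pCore p G)) (by rw [hkerq]; exact hfrat)
    rw [hkerq, hZb, Cfsg.Agent.Lib.Helper24_CoprimeAction.card_subgroupOf_of_le hZR] at this
    exact this
  -- (3) an element of `Q` outside `R`
  have hTne : (Q : Subgroup G).map (QuotientGroup.mk' (pCore p G)) ≠ ⊥ := by
    intro h
    rw [Subgroup.eq_bot_iff_card, hT] at h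
    exact hp.one_lt.ne' h
  obtain ⟨⟨tx, htx⟩, htx1⟩ := (Subgroup.ne_bot_iff_exists_ne_one).mp hTne
  obtain ⟨x, hxQ, hxt⟩ := id htx
  subst hxt
  have hxR : x ∉ pCore p G := by
    intro h
    apply htx1
    apply Subtype.ext
    exact (QuotientGroup.eq_one_iff x).mpr h
  have hxZ : x ∉ Z := fun h => hxR (hZR h)
  -- (4) `T` is generated by the image of `x`
  have hgen : ∀ t ∈ (Q : Subgroup G).map (QuotientGroup.mk' (pCore p G)),
      ∃ k : ℤ, t = (QuotientGroup.mk' (pCore p G) x) ^ k := by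
    intro t ht
    have htop := zpowers_eq_top_of_prime_card (G := ↥((Q : Subgroup G).map
      (QuotientGroup.mk' (pCore p G)))) hT htx1
    have : (⟨t, ht⟩ : ↥((Q : Subgroup G).map (QuotientGroup.mk' (pCore p G)))) ∈
        Subgroup.zpowers (⟨_, htx⟩ : ↥((Q : Subgroup G).map (QuotientGroup.mk' (pCore p G)))) := by
      rw [htop]; trivial
    obtain ⟨k, hk⟩ := Subgroup.mem_zpowers_iff.mp this
    refine ⟨k, ?_⟩
    have := congrArg Subtype.val hk
    simpa using this.symm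
  have hfix : ∀ v : N, c (QuotientGroup.mk' (pCore p G) x) v = v →
      ∀ t ∈ (Q : Subgroup G).map (QuotientGroup.mk' (pCore p G)), c t v = v := by
    intro v hv t ht
    obtain ⟨k, rfl⟩ := hgen t ht
    let S : Subgroup (G ⧸ pCore p G) :=
      { carrier := {γ | c γ v = v}
        mul_mem' := by
          intro a b ha hb
          simp only [Set.mem_ofPred_eq] at ha hb ⊢
          rw [map_mul, MulAut.mul_apply, hb, ha]
        one_mem' := by simp
        inv_mem' := by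
          intro a ha
          simp only [Set.mem_ofPred_eq] at ha ⊢
          rw [map_inv]
          conv_lhs => rw [← ha]
          simp }
    have hxS : QuotientGroup.mk' (pCore p G) x ∈ S := hv
    exact S.zpow_mem hxS k
  -- `Zb` has a nontrivial element
  obtain ⟨⟨zb, hzb⟩, hzb1⟩ : ∃ z : ↥((Z.subgroupOf (pCore p G)).map qq), z ≠ 1 := by
    apply (Subgroup.ne_bot_iff_exists_ne_one).mp
    intro h
    have h' := (Subgroup.eq_bot_iff_card _).mp h
    rw [hZb] at h'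
    exact hp.one_lt.ne' h'
  have hzb1' : zb ≠ 1 := fun h => hzb1 (Subtype.ext h)
  -- (5) Claim A
  have claimA : ∀ u : ↥(pCore p G), c (QuotientGroup.mk' (pCore p G) x) (qq u) = qq u →
      (u : G) ∈ Z := by
    intro u hu
    have hmem : qq u ∈ (Z.subgroupOf (pCore p G)).map qq := by
      by_contra hnot
      obtain ⟨t, ht, htz⟩ := h3 (qq u) hnot zb hzb
      rw [hfix (qq u) hu t ht, mul_inv_cancel] at htz
      exact hzb1' htz.symm
    obtain ⟨z0, hz0, hz0u⟩ := hmem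
    have h1' : qq (u * z0⁻¹) = 1 := by rw [map_mul, map_inv, hz0u, mul_inv_cancel]
    have h2' : u * z0⁻¹ ∈ Z.subgroupOf (pCore p G) := hfrat ((hker _).mp h1')
    have h3' : u = (u * z0⁻¹) * z0 := by group
    have h4' : u ∈ Z.subgroupOf (pCore p G) := by
      rw [h3']; exact Subgroup.mul_mem _ h2' hz0
    exact Subgroup.mem_subgroupOf.mp h4'
  -- (6) the homomorphism `ψ`
  let ψ : ↥(pCore p G) →* N := MonoidHom.mk'
    (fun u => c (QuotientGroup.mk' (pCore p G) x) (qq u) * (qq u)⁻¹) (by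
      intro a b
      rw [map_mul, map_mul, mul_inv, mul_mul_mul_comm])
  have hψker : ψ.ker ≤ Z.subgroupOf (pCore p G) := by
    intro u hu
    rw [MonoidHom.mem_ker] at hu
    rw [Subgroup.mem_subgroupOf]
    apply claimA
    have : c (QuotientGroup.mk' (pCore p G) x) (qq u) * (qq u)⁻¹ = 1 := hu
    exact mul_inv_eq_one.mp this
  have hψrange : ψ.range ≤ (Z.subgroupOf (pCore p G)).map qq := by
    rintro _ ⟨u, rfl⟩
    exact h1 _ ⟨x, hxQ, rfl⟩ (qq u)
  have hcard3 : Nat.card ↥(pCore p G) ≤ Nat.card ↥Z * p := by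
    have e1 : Nat.card ↥ψ.ker * Nat.card ↥ψ.range = Nat.card ↥(pCore p G) := by
      rw [← Subgroup.index_ker, Subgroup.card_mul_index]
    have e2 : Nat.card ↥ψ.ker ≤ Nat.card ↥Z := by
      rw [← Cfsg.Agent.Lib.Helper24_CoprimeAction.card_subgroupOf_of_le hZR]
      exact Subgroup.card_le_of_le hψker
    have e3 : Nat.card ↥ψ.range ≤ p := by
      exact le_trans (Subgroup.card_le_of_le hψrange) hZb.le
    rw [← e1]
    exact Nat.mul_le_mul e2 e3
  -- (7) `|R| = |Z| * p`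
  have hZp : IsPGroup p Z := hRp.to_le hZR
  obtain ⟨a, ha⟩ := IsPGroup.iff_card.mp hRp
  obtain ⟨b, hb⟩ := IsPGroup.iff_card.mp hZp
  have hZltR : Nat.card ↥Z < Nat.card ↥(pCore p G) := by
    refine lt_of_le_of_ne (Subgroup.card_le_of_le hZR) ?_
    intro heq
    have hZeqR : Z = pCore p G := Subgroup.eq_of_le_of_card_ge hZR heq.ge
    apply hxR
    apply hHH
    rw [Subgroup.mem_centralizer_iff]
    intro r hr
    rw [← hZeqR] at hr
    exact (hZc r hr x hxQ).symm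
  have hab : a = b + 1 := by
    rw [ha, hb] at hZltR
    rw [ha, hb, ← pow_succ] at hcard3
    have h1' : b < a := (Nat.pow_lt_pow_iff_right hp.one_lt).mp hZltR
    have h2' : a ≤ b + 1 := (Nat.pow_le_pow_iff_right hp.one_lt).mp hcard3
    omega
  -- (8) `|Z| = p` via the homomorphism `v ↦ [x, v]`
  let χ : ↥(Q : Subgroup G) →* G := MonoidHom.mk'
    (fun v => x * (v : G) * x⁻¹ * (v : G)⁻¹) (by
      intro v w
      have hzw : x * (w : G) * x⁻¹ * (w : G)⁻¹ ∈ Z := F1 x hxQ w w.2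
      have hc : (v : G) * (x * (w : G) * x⁻¹ * (w : G)⁻¹) =
          (x * (w : G) * x⁻¹ * (w : G)⁻¹) * (v : G) := hZc _ hzw v v.2
      have hc' : (x * (w : G) * x⁻¹ * (w : G)⁻¹) * (v : G)⁻¹ =
          (v : G)⁻¹ * (x * (w : G) * x⁻¹ * (w : G)⁻¹) := by
        rw [eq_inv_mul_iff_mul_eq, ← mul_assoc, hc, mul_inv_cancel_right]
      calc x * ((v * w : ↥(Q : Subgroup G)) : G) * x⁻¹ * ((v * w : ↥(Q : Subgroup G)) : G)⁻¹
          = x * (v : G) * x⁻¹ * ((x * (w : G) * x⁻¹ * (w : G)⁻¹) * (v : G)⁻¹) := by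
            rw [Subgroup.coe_mul]; group
        _ = x * (v : G) * x⁻¹ * ((v : G)⁻¹ * (x * (w : G) * x⁻¹ * (w : G)⁻¹)) := by rw [hc']
        _ = x * (v : G) * x⁻¹ * (v : G)⁻¹ * (x * (w : G) * x⁻¹ * (w : G)⁻¹) := by group)
  have hχ : ∀ v : ↥(Q : Subgroup G), χ v = x * (v : G) * x⁻¹ * (v : G)⁻¹ := fun v => rfl
  have hrange : χ.range = Z := by
    apply le_antisymm
    · rintro _ ⟨v, rfl⟩
      rw [hχ]; exact F1 x hxQ v v.2
    · intro z hz
      obtain ⟨v, hv, hvz⟩ := F3 x hxQ hxZ z hz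
      exact ⟨⟨v, hv⟩, by rw [hχ]; exact hvz⟩
  have hcard4 : Nat.card ↥χ.ker * Nat.card ↥Z = Nat.card ↥(Q : Subgroup G) := by
    rw [← hrange, ← Subgroup.index_ker, Subgroup.card_mul_index]
  have hZker : Z.subgroupOf (Q : Subgroup G) ≤ χ.ker := by
    intro v hv
    rw [Subgroup.mem_subgroupOf] at hv
    rw [MonoidHom.mem_ker, hχ]
    have := hZc _ hv x hxQ
    rw [this]; group
  have hxker : (⟨x, hxQ⟩ : ↥(Q : Subgroup G)) ∈ χ.ker := by
    rw [MonoidHom.mem_ker, hχ]; group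
  have hZltker : Nat.card ↥Z < Nat.card ↥χ.ker := by
    rw [← Cfsg.Agent.Lib.Helper24_CoprimeAction.card_subgroupOf_of_le hZQ]
    refine lt_of_le_of_ne (Subgroup.card_le_of_le hZker) ?_
    intro heq
    have heq' : Z.subgroupOf (Q : Subgroup G) = χ.ker := Subgroup.eq_of_le_of_card_ge hZker heq.ge
    rw [← heq', Subgroup.mem_subgroupOf] at hxker
    exact hxZ hxker
  have hker2 : Nat.card ↥χ.ker = p ^ 2 := by
    have h5 : Nat.card ↥χ.ker * Nat.card ↥Z = p ^ 2 * Nat.card ↥Z := by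
      rw [hcard4, ← hcard1, ha, hb, hab]; ring
    have hzpos : 0 < Nat.card ↥Z := Nat.card_pos
    exact Nat.eq_of_mul_eq_mul_right hzpos h5
  have hb1 : b = 1 := by
    rw [hker2, hb] at hZltker
    have h1' : b < 2 := (Nat.pow_lt_pow_iff_right hp.one_lt).mp hZltker
    have h2' : b ≠ 0 := by
      intro h0
      rw [h0, pow_zero] at hb
      rw [hb] at hcard2
      have : p ∣ 1 := ⟨_, by rw [mul_comm]; exact hcard2.symm⟩
      exact hp.one_lt.ne' (Nat.dvd_one.mp this)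
    omega
  have hfr1 : Nat.card ↥(frattini ↥(pCore p G)) = 1 := by
    rw [hb, hb1, pow_one] at hcard2
    have hppos : 0 < p := hp.pos
    exact Nat.eq_of_mul_eq_mul_right hppos (by rw [hcard2, one_mul])
  have hfrbot : frattini ↥(pCore p G) = ⊥ := (Subgroup.eq_bot_iff_card _).mpr hfr1
  refine ⟨?_, ?_, ?_⟩
  · rw [← hcard1, ha, hab, hb1]; ring
  · rw [ha, hab, hb1]
  · intro r hr
    have h6 : qq ((⟨r, hr⟩ : ↥(pCore p G)) ^ p) = 1 := by rw [map_pow, hNp]
    have h7 := (hker _).mp h6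
    rw [hfrbot, Subgroup.mem_bot] at h7
    have := congrArg Subtype.val h7
    simpa using this


/-- **Core.** `p`-solvable `G` with `O_{p'}(G) = 1` and a Sylow `p`-subgroup of Schmidt type:
the Sylow subgroup is `O_p(G)`. -/
theorem sylow_le_pCore (hsol : IsPSolvable p G) (hO : pPrimeCore p G = ⊥) (Q : Sylow p G)
    (hQ : SchmidtType p ↥(Q : Subgroup G)) : (Q : Subgroup G) ≤ pCore p G := by
  classical
  have hp : p.Prime := Fact.out
  have hRp : IsPGroup p (pCore p G) := pCore_isPGroup p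
  have hRQ : pCore p G ≤ (Q : Subgroup G) := normal_le_sylow (pCore p G) hRp Q
  have hHH : Subgroup.centralizer (pCore p G : Set G) ≤ pCore p G :=
    centralizer_pCore_le p hsol hO
  by_cases hab : ∀ a b : ↥(Q : Subgroup G), a * b = b * a
  · intro g hg
    apply hHH
    rw [Subgroup.mem_centralizer_iff]
    intro r hr
    exact congrArg Subtype.val (hab ⟨r, hRQ hr⟩ ⟨g, hg⟩)
  · obtain ⟨α, q, hα⟩ := hQ
    have hA := PA Q.isPGroup' α q hα hab
    obtain ⟨A1, A2, A3, A4, A5⟩ := hA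
    obtain ⟨Z, hZQ, hZmem, hZc, F1, F2, F3⟩ := glevel Q A1 A3 A4
    have hZR : Z ≤ pCore p G := by
      intro z hz
      apply hHH
      rw [Subgroup.mem_centralizer_iff]
      intro r hr
      exact hZc z hz r (hRQ hr)
    obtain ⟨N, instN, instF, qq, c, hqs, hNp, hcq, hfaith, hker, hTc, hTp, h1, h2, h3⟩ :=
      setup hsol hO Q Z hZR hZc F1 F2 F3
    by_cases hp5 : 5 ≤ p
    · -- quadratic action and `p`-stability
      have hp2 : p ≠ 2 := by omega
      have hp3 : p ≠ 3 := by omega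
      have hD : Cfsg.Agent.Lib.Helper10_QuadPair.DicksonHyp p :=
        fun F _ _ _ X h => Cfsg.Agent.S0274.result p hp2 X h
      intro x hx
      have hmem := Cfsg.Agent.Lib.Helper10_QuadAction.mem_pCore_quotient_of_quad hD hp2
        (c.comp (QuotientGroup.mk' (pCore p G))) hNp (pCore p G)
        (by
          intro g
          constructor
          · intro hg n
            have : (QuotientGroup.mk' (pCore p G)) g = 1 := by
              rw [QuotientGroup.mk'_apply, QuotientGroup.eq_one_iff]; exact hg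
            rw [MonoidHom.comp_apply, this, map_one, MulAut.one_apply]
          · intro h
            have := hfaith (QuotientGroup.mk' (pCore p G) g) h
            rw [QuotientGroup.mk'_apply, QuotientGroup.eq_one_iff] at this
            exact this)
        x
        (by
          intro n
          have hxT : QuotientGroup.mk' (pCore p G) x ∈
              (Q : Subgroup G).map (QuotientGroup.mk' (pCore p G)) := ⟨x, hx, rfl⟩
          exact h2 _ hxT _ (h1 _ hxT n))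
        (Or.inr ⟨hp3, hsol⟩)
      rw [Cfsg.Agent.Lib.Helper64_HHPLength.pCore_quotient_pCore_eq_bot, Subgroup.mem_bot,
        QuotientGroup.eq_one_iff] at hmem
      exact hmem
    · have hp3 : p ≤ 3 := by
        have h4 : p ≠ 4 := by
          intro h
          rw [h] at hp
          exact absurd hp (by decide)
        omega
      rcases PC (isPSolvable_quotient p (pCore p G) hsol)
        (Cfsg.Agent.Lib.Helper64_HHPLength.pCore_quotient_pCore_eq_bot p) c hNp hfaith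
        ((Q : Subgroup G).map (QuotientGroup.mk' (pCore p G))) hTc hTp
        ((Z.subgroupOf (pCore p G)).map qq) h1 h2 h3 with hT | ⟨hT, hZb⟩
      · intro g hg
        have : QuotientGroup.mk' (pCore p G) g ∈
            (Q : Subgroup G).map (QuotientGroup.mk' (pCore p G)) := ⟨g, hg, rfl⟩
        rw [hT, Subgroup.mem_bot, QuotientGroup.mk'_apply, QuotientGroup.eq_one_iff] at this
        exact this
      · exfalso
        obtain ⟨hc1, hc2, hc3⟩ := counting hsol hO Q Z hZR hZc F1 F2 F3 qq c hqs hNp hker h1 h3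
          hT hZb
        refine PD hp3 hc1 α q hα hab ⟨A1, A2, A3, A4, A5⟩
          ((pCore p G).subgroupOf (Q : Subgroup G)) ?_ ?_
        · rw [Cfsg.Agent.Lib.Helper24_CoprimeAction.card_subgroupOf_of_le hRQ, hc2]
        · intro r hr
          rw [Subgroup.mem_subgroupOf] at hr
          apply Subtype.ext
          rw [Subgroup.coe_pow, Subgroup.coe_one]
          exact hc3 _ hr

end sylow

end Cfsg.Agent.Lib.Helper33_SchmidtMain
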