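import Mathlib

/-!
Helper library (helper33): the trace (norm) map `V^S → V^H` of an abelian normal subgroup `V`
of a group `H` relative to a subgroup `S` of finite index.
-/

set_option autoImplicit false

namespace Cfsg.Agent.Lib.Helper33_Trace

open scoped IsMulCommutative

variable {H : Type*} [Group H] (V : Subgroup H) [V.Normal] [IsMulCommutative V]
  (S : Subgroup H) [Finite (H ⧸ S)]

open Classical in
/-- the trace (norm) map of the `H`-module `V` relative to the subgroup `S`:
`v ↦ ∏_{q ∈ H/S} q v q⁻¹` (using the representatives `Quotient.out`) -/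
noncomputable def tr (v : V) : V :=
  letI := Fintype.ofFinite (H ⧸ S)
  ∏ q : H ⧸ S, MulAut.conjNormal (Quotient.out q : H) v

theorem tr_mul (v w : V) : tr V S (v * w) = tr V S v * tr V S w := by
  unfold tr
  simp only [map_mul]
  exact Finset.prod_mul_distrib

theorem tr_one : tr V S 1 = 1 := by
  unfold tr
  simp

theorem tr_inv (v : V) : tr V S v⁻¹ = (tr V S v)⁻¹ := by
  have h := tr_mul V S v v⁻¹
  rw [mul_inv_cancel, tr_one] at h
  exact (eq_inv_of_mul_eq_one_right h.symm)

theorem tr_pow (v : V) (n : ℕ) : tr V S (v ^ n) = (tr V S v) ^ n := by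
  induction n with
  | zero => simp [tr_one]
  | succ n ih => rw [pow_succ, pow_succ, tr_mul, ih]

/-- the trace of an `S`-invariant element is `H`-invariant -/
theorem conj_tr (v : V) (hv : ∀ s ∈ S, s * (v : H) * s⁻¹ = v) (h : H) :
    h * (tr V S v : H) * h⁻¹ = tr V S v := by
  have key : MulAut.conjNormal h (tr V S v) = tr V S v := by
    unfold tr
    letI := Fintype.ofFinite (H ⧸ S)
    rw [map_prod]
    have key : ∀ q : H ⧸ S, MulAut.conjNormal h (MulAut.conjNormal (Quotient.out q : H) v) =
        MulAut.conjNormal (Quotient.out (h • q) : H) v := by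
      intro q
      have hs : (Quotient.out (h • q) : H)⁻¹ * (h * Quotient.out q) ∈ S := by
        rw [← QuotientGroup.eq]
        have h1 : ((Quotient.out (h • q) : H) : H ⧸ S) = h • q := Quotient.out_eq' _
        have h2 : ((h * Quotient.out q : H) : H ⧸ S) = h • q := by
          have : ((Quotient.out q : H) : H ⧸ S) = q := Quotient.out_eq' _
          conv_rhs => rw [← this]
          rfl
        rw [h1, h2]
      apply Subtype.ext
      simp only [MulAut.conjNormal_apply]
      have e : h * Quotient.out q = Quotient.out (h • q) *
          ((Quotient.out (h • q) : H)⁻¹ * (h * Quotient.out q)) := by group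
      calc h * ((Quotient.out q : H) * (v : H) * (Quotient.out q : H)⁻¹) * h⁻¹
          = (h * Quotient.out q) * (v : H) * (h * Quotient.out q)⁻¹ := by group
        _ = (Quotient.out (h • q) * ((Quotient.out (h • q) : H)⁻¹ * (h * Quotient.out q))) *
            (v : H) * (Quotient.out (h • q) *
              ((Quotient.out (h • q) : H)⁻¹ * (h * Quotient.out q)))⁻¹ := by rw [← e]
        _ = Quotient.out (h • q) * (((Quotient.out (h • q) : H)⁻¹ * (h * Quotient.out q)) *
            (v : H) * ((Quotient.out (h • q) : H)⁻¹ * (h * Quotient.out q))⁻¹) *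
              (Quotient.out (h • q) : H)⁻¹ := by group
        _ = Quotient.out (h • q) * (v : H) * (Quotient.out (h • q) : H)⁻¹ := by rw [hv _ hs]
    simp only [key]
    exact Fintype.prod_equiv (MulAction.toPerm h) _ _ (fun q => rfl)
  have := congrArg Subtype.val key
  simpa [MulAut.conjNormal_apply] using this

/-- on `H`-invariant elements the trace is the `|H : S|`-th power -/
theorem tr_of_central (v : V) (hv : ∀ h : H, h * (v : H) * h⁻¹ = v) :
    tr V S v = v ^ S.index := by
  unfold tr
  letI := Fintype.ofFinite (H ⧸ S)
  have key : ∀ q : H ⧸ S, MulAut.conjNormal (Quotient.out q : H) v = v := by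
    intro q
    apply Subtype.ext
    simp only [MulAut.conjNormal_apply]
    exact hv _
  simp only [key, Finset.prod_const, Finset.card_univ]
  rw [Subgroup.index_eq_card, Nat.card_eq_fintype_card]

end Cfsg.Agent.Lib.Helper33_Trace
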