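import Mathlib
import Cfsg.Agent.Lib.Helper33_Trace

set_option autoImplicit false

namespace Cfsg.Agent.Lib.Helper33_TraceSplit

open Cfsg.Agent.Lib.Helper33_Trace
open scoped IsMulCommutative

variable {H : Type*} [Group H] [Finite H]

/-- **Splitting by the trace.**  Let `V` be an abelian normal `p`-subgroup of the finite group `H`
and `T` a subgroup of index prime to `p`.  Then the fixed points `C_V(H) = V ∩ Z(H)` form a direct
factor of `C_V(T)`. -/
theorem exists_complement {p : ℕ} [Fact p.Prime] (V : Subgroup H) [V.Normal]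
    (hVc : ∀ a ∈ V, ∀ b ∈ V, a * b = b * a) (hVp : IsPGroup p V)
    (T : Subgroup H) (hidx : ¬ p ∣ T.index) :
    ∃ K : Subgroup H, K ≤ V ⊓ Subgroup.centralizer (T : Set H) ∧
      (V ⊓ Subgroup.center H) ⊓ K = ⊥ ∧
      (V ⊓ Subgroup.center H) ⊔ K = V ⊓ Subgroup.centralizer (T : Set H) := by
  classical
  have hp : p.Prime := Fact.out
  have hVcomm : IsMulCommutative V := ⟨⟨fun a b => Subtype.ext (hVc a a.2 b b.2)⟩⟩
  obtain ⟨Z, hZ⟩ : ∃ Z : Subgroup H, Z = V ⊓ Subgroup.centralizer (T : Set H) := ⟨_, rfl⟩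
  obtain ⟨W, hW⟩ : ∃ W : Subgroup H, W = V ⊓ Subgroup.center H := ⟨_, rfl⟩
  rw [← hZ, ← hW]
  have hZV : Z ≤ V := hZ ▸ inf_le_left
  have hWV : W ≤ V := hW ▸ inf_le_left
  have hWZ : W ≤ Z := by
    rw [hW, hZ]
    exact inf_le_inf_left V (Subgroup.center_le_centralizer _)
  have hWcen : ∀ w ∈ W, ∀ h : H, h * w * h⁻¹ = w := by
    intro w hw h
    rw [hW] at hw
    have := (Subgroup.mem_center_iff.mp hw.2) h
    calc h * w * h⁻¹ = (w * h) * h⁻¹ := by rw [this]
      _ = w := by group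
  have hZinv : ∀ z ∈ Z, ∀ t ∈ T, t * z * t⁻¹ = z := by
    intro z hz t ht
    rw [hZ] at hz
    have := (Subgroup.mem_centralizer_iff.mp hz.2) t ht
    calc t * z * t⁻¹ = (z * t) * t⁻¹ := by rw [this]
      _ = z := by group
  let φ : ↥Z →* ↥V := MonoidHom.mk' (fun z => tr V T ⟨(z : H), hZV z.2⟩) (by
    intro a b
    rw [← tr_mul]
    congr 1)
  have hφ : ∀ z : ↥Z, φ z = tr V T ⟨(z : H), hZV z.2⟩ := fun z => rfl
  refine ⟨φ.ker.map Z.subtype, Subgroup.map_subtype_le _, ?_, ?_⟩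
  · rw [eq_bot_iff]
    rintro x ⟨hxW, z, hzker, rfl⟩
    rw [Subgroup.mem_bot]
    have hzW : (z : H) ∈ W := hxW
    have h1 : φ z = 1 := hzker
    rw [hφ, tr_of_central V T _ (hWcen _ hzW)] at h1
    obtain ⟨k, hk⟩ := hVp ⟨(z : H), hZV z.2⟩
    have hd1 : orderOf (⟨(z : H), hZV z.2⟩ : ↥V) ∣ T.index := orderOf_dvd_of_pow_eq_one h1
    have hd2 : orderOf (⟨(z : H), hZV z.2⟩ : ↥V) ∣ p ^ k := orderOf_dvd_of_pow_eq_one hk
    have hcop : Nat.Coprime T.index (p ^ k) :=
      Nat.Coprime.pow_right k ((Nat.Prime.coprime_iff_not_dvd hp).mpr hidx).symm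
    have h3 : orderOf (⟨(z : H), hZV z.2⟩ : ↥V) = 1 := Nat.eq_one_of_dvd_coprimes hcop hd1 hd2
    have h4 : (⟨(z : H), hZV z.2⟩ : ↥V) = 1 := orderOf_eq_one_iff.mp h3
    exact congrArg Subtype.val h4
  · apply le_antisymm
    · exact sup_le hWZ (Subgroup.map_subtype_le _)
    · intro z hz
      obtain ⟨tb, htb⟩ : ∃ tb : ↥V, tb = φ ⟨z, hz⟩ := ⟨_, rfl⟩
      have htcen : ∀ h : H, h * (tb : H) * h⁻¹ = tb := by
        intro h
        rw [htb, hφ]
        exact conj_tr V T _ (fun s hs => hZinv z hz s hs) h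
      have htW : (tb : H) ∈ W := by
        rw [hW, Subgroup.mem_inf]
        refine ⟨tb.2, ?_⟩
        rw [Subgroup.mem_center_iff]
        intro g
        calc g * (tb : H) = (g * (tb : H) * g⁻¹) * g := by group
          _ = (tb : H) * g := by rw [htcen g]
      have hWp : IsPGroup p W := hVp.to_le hWV
      have hcopn : p.Coprime T.index := (Nat.Prime.coprime_iff_not_dvd hp).mpr hidx
      obtain ⟨w, hw⟩ := (hWp.powEquiv hcopn).surjective ⟨(tb : H), htW⟩
      have hw' : (w : H) ^ T.index = tb := by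
        have := congrArg Subtype.val hw
        simpa [IsPGroup.powEquiv] using this
      have hwZ : (w : H) ∈ Z := hWZ w.2
      have hφw : φ ⟨(w : H), hwZ⟩ = tb := by
        rw [hφ, tr_of_central V T _ (hWcen _ w.2)]
        apply Subtype.ext
        show (w : H) ^ T.index = tb
        exact hw'
      have hmem : (w : H)⁻¹ * z ∈ φ.ker.map Z.subtype := by
        refine ⟨⟨(w : H), hwZ⟩⁻¹ * ⟨z, hz⟩, ?_, rfl⟩
        show _ ∈ φ.ker
        rw [MonoidHom.mem_ker, map_mul, map_inv, hφw, htb]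
        exact inv_mul_cancel _
      have : z = (w : H) * ((w : H)⁻¹ * z) := by group
      rw [this]
      exact Subgroup.mul_mem _ (le_sup_left (a := W) w.2)
        (le_sup_right (b := φ.ker.map Z.subtype) hmem)

end Cfsg.Agent.Lib.Helper33_TraceSplit
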