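import Cfsg.Prelude.Def_ConjugacyFunctors
import Cfsg.Prelude.Def_LocalEven
import Cfsg.Agent.Lib.Helper33_WFusion
import Cfsg.Agent.Lib.Helper34_NPC
import Cfsg.Agent.Lib.Helper51_Local
import Cfsg.Agent.Lib.Helper31_AG

/-!
# Control of strong fusion by families of section functors: reduction to constrained sections
(helper34)

`main`: if the family of conjugacy functors induced by a set `𝓦` of isomorphism-invariant
`p`-group functors controls strong fusion in every group involved in `X` that satisfies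
`C(O_p) ≤ O_p`, then it controls strong fusion in `X`.
-/

set_option autoImplicit false
set_option linter.unusedSectionVars false

universe u

namespace Cfsg.Agent.Lib.Helper34_SecFusion

open Cfsg.Agent.Lib.Helper33_Conj Cfsg.Agent.Lib.Helper33_Alperin
  Cfsg.Agent.Lib.Helper33_WFusion Cfsg.Agent.Lib.Helper34_NPC

/-- the family of conjugacy functors on `X` induced by a set of functors on groups -/
def fam (𝓦 : Set (∀ (Q : Type u) [Group Q], Subgroup Q)) (X : Type u) [Group X] :
    Set (Subgroup X → Subgroup X) :=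
  (fun W => Cfsg.inducedFunctor (G := X) W) '' 𝓦

/-- the family induced by `𝓦` controls strong fusion in `X` -/
def Good (p : ℕ) (𝓦 : Set (∀ (Q : Type u) [Group Q], Subgroup Q)) (X : Type u) [Group X] : Prop :=
  Cfsg.FamilyControlsStrongFusionIn p (fam 𝓦 X) ⊤

variable {p : ℕ} {𝓦 : Set (∀ (Q : Type u) [Group Q], Subgroup Q)}

theorem fam_isConjugacyFunctor (h𝓦 : ∀ W ∈ 𝓦, Cfsg.IsCharPFunctor.{u} p W) (X : Type u) [Group X]
    [Finite X] : ∀ W' ∈ fam 𝓦 X, Cfsg.IsConjugacyFunctor p W' := by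
  rintro _ ⟨W, hW, rfl⟩
  exact fun P hP => ⟨inducedFunctor_le W P, inducedFunctor_ne_bot (h𝓦 W hW) hP,
    fun g => inducedFunctor_conj (h𝓦 W hW) P hP g⟩

variable [Fact p.Prime]

/-! ### Transport along injective homomorphisms -/

/-- transport of control along an injective homomorphism -/
theorem good_map (h𝓦 : ∀ W ∈ 𝓦, Cfsg.IsCharPFunctor.{u} p W) {Y X : Type u} [Group Y] [Group X]
    [Finite Y] (f : Y →* X) (hf : Function.Injective f) (h : Good p 𝓦 Y) :
    Cfsg.FamilyControlsStrongFusionIn p (fam 𝓦 X) f.range := by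
  obtain ⟨T, -, hTp, hTi, hT⟩ := h
  refine ⟨T.map f, ?_, hTp.map f, ?_, ?_⟩
  · rintro _ ⟨t, -, rfl⟩
    exact ⟨t, rfl⟩
  · have h1 : f.range = (⊤ : Subgroup Y).map f := (MonoidHom.range_eq_map f)
    rw [h1, Subgroup.relIndex_map_map_of_injective T ⊤ hf]
    exact hTi
  · intro A h hh hA hhA
    obtain ⟨h', rfl⟩ := hh
    have hA' : f ⁻¹' A ⊆ (T : Set Y) := by
      intro a ha
      obtain ⟨t, ht, hta⟩ := hA ha
      have : t = a := hf hta
      rw [← this]; exact ht
    have hhA' : (fun a => h' * a * h'⁻¹) '' (f ⁻¹' A) ⊆ (T : Set Y) := by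
      rintro _ ⟨a, ha, rfl⟩
      have h2 : f h' * f a * (f h')⁻¹ ∈ (T.map f : Set X) := hhA ⟨f a, ha, rfl⟩
      obtain ⟨t, ht, hta⟩ := h2
      have : t = h' * a * h'⁻¹ := hf (by rw [hta]; simp)
      show h' * a * h'⁻¹ ∈ (T : Set Y)
      rw [← this]; exact ht
    obtain ⟨n, c, hc0, hstep, hsub, hag⟩ := hT (f ⁻¹' A) h' (Subgroup.mem_top _) hA' hhA'
    have hpre : ∀ a ∈ A, ∃ a' : Y, a' ∈ f ⁻¹' A ∧ f a' = a := by
      intro a ha
      obtain ⟨t, -, hta⟩ := hA ha
      exact ⟨t, by rw [Set.mem_preimage, hta]; exact ha, hta⟩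
    refine ⟨n, fun i => f (c i), by simp [hc0], ?_, ?_, ?_⟩
    · intro i
      obtain ⟨W', ⟨W, hW, rfl⟩, hmem⟩ := hstep i
      refine ⟨Cfsg.inducedFunctor (G := X) W, ⟨W, hW, rfl⟩, ?_⟩
      rw [Subgroup.mem_inf] at hmem ⊢
      refine ⟨⟨c i.succ * (c i.castSucc)⁻¹, by simp⟩, ?_⟩
      have hfun := inducedFunctor_map (h𝓦 W hW) f T hTp (fun x _ hx => hf (by rw [hx, map_one]))
      rw [hfun]
      have := Subgroup.le_normalizer_map f (H := Cfsg.inducedFunctor (G := Y) W T)
        (Subgroup.mem_map_of_mem f hmem.2)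
      simpa using this
    · intro i
      rintro _ ⟨a, ha, rfl⟩
      obtain ⟨a', ha', rfl⟩ := hpre a ha
      have h3 : c i * a' * (c i)⁻¹ ∈ (T : Set Y) := hsub i ⟨a', ha', rfl⟩
      exact ⟨c i * a' * (c i)⁻¹, h3, by simp⟩
    · intro a ha
      obtain ⟨a', ha', rfl⟩ := hpre a ha
      have := congrArg f (hag a' ha')
      simpa using this

/-! ### The relation `GR` and control -/

/-- `WChain` is monotone in the ambient subgroup -/
theorem wchain_mono_H {X : Type*} [Group X] {𝓥 : Set (Subgroup X → Subgroup X)}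
    {H H' T : Subgroup X} (hHH' : H ≤ H') {A : Set X} {g : X} (h : WChain 𝓥 H T A g) :
    WChain 𝓥 H' T A g := by
  induction h with
  | nil A => exact WChain.nil A
  | cons A y g hy hA _ ih =>
    obtain ⟨W, hW, hyH⟩ := hy
    exact WChain.cons A y g ⟨W, hW, ⟨hHH' hyH.1, hyH.2⟩⟩ hA ih

theorem not_dvd_relIndex_of_le {X : Type*} [Group X] [Finite X] (S : Sylow p X) {M : Subgroup X}
    (hSM : (S : Subgroup X) ≤ M) : ¬ p ∣ (S : Subgroup X).relIndex M :=
  fun h => S.not_dvd_index (h.trans (Subgroup.relIndex_dvd_index_of_le hSM))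

/-- control in a subgroup `M ⊇ S` (as a group) explains fusion by elements of `M` -/
theorem gr_of_good_subgroup (h𝓦 : ∀ W ∈ 𝓦, Cfsg.IsCharPFunctor.{u} p W) {X : Type u} [Group X]
    [Finite X] (S : Sylow p X) (M : Subgroup X) (hSM : (S : Subgroup X) ≤ M) (hM : Good p 𝓦 M)
    {A : Set X} {m : X} (hm : m ∈ M) (hA : A ⊆ ((S : Subgroup X) : Set X))
    (hmA : cjs m A ⊆ ((S : Subgroup X) : Set X)) : GR (fam 𝓦 X) (S : Subgroup X) A m := by
  have hctl := good_map h𝓦 M.subtype M.subtype_injective hM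
  rw [Subgroup.range_subtype] at hctl
  obtain ⟨g, hch, hag⟩ := exists_wchain_of_controls (fam_isConjugacyFunctor h𝓦 X) hctl hSM S.2
    (not_dvd_relIndex_of_le S hSM) A m hm hA hmA
  exact ⟨hA, g, wchain_mono_H le_top hch, hag⟩

theorem good_of_gr {X : Type u} [Group X] [Finite X] (S : Sylow p X)
    (h : ∀ (A : Set X) (g : X), A ⊆ ((S : Subgroup X) : Set X) →
      cjs g A ⊆ ((S : Subgroup X) : Set X) → GR (fam 𝓦 X) (S : Subgroup X) A g) :
    Good p 𝓦 X := by
  refine ⟨(S : Subgroup X), le_top, S.2, ?_, ?_⟩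
  · rw [Subgroup.relIndex_top_right]; exact S.not_dvd_index
  · intro A h' _ hA hhA
    obtain ⟨_, g', hch, hag⟩ := h A h' hA hhA
    obtain ⟨n, c, hc0, hstep, hsub, hlast⟩ := finChain_of_wchain hch hA
    refine ⟨n, c, hc0, hstep, hsub, ?_⟩
    rw [hlast]; exact hag

theorem gr_of_good (h𝓦 : ∀ W ∈ 𝓦, Cfsg.IsCharPFunctor.{u} p W) {X : Type u} [Group X]
    [Finite X] (S : Sylow p X) (h : Good p 𝓦 X) {A : Set X} {g : X}
    (hA : A ⊆ ((S : Subgroup X) : Set X)) (hgA : cjs g A ⊆ ((S : Subgroup X) : Set X)) :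
    GR (fam 𝓦 X) (S : Subgroup X) A g := by
  obtain ⟨g', hch, hag⟩ := exists_wchain_of_controls (fam_isConjugacyFunctor h𝓦 X) h le_top S.2
    (by rw [Subgroup.relIndex_top_right]; exact S.not_dvd_index) A g (Subgroup.mem_top g) hA hgA
  exact ⟨hA, g', hch, hag⟩

/-! ### Lifting chains along a homomorphism -/

theorem image_cjs {X X' : Type*} [Group X] [Group X'] (π : X →* X') (y : X) (A : Set X) :
    π '' (cjs y A) = cjs (π y) (π '' A) := by
  unfold cjs
  rw [Set.image_image, Set.image_image]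
  congr 1
  funext a
  simp

theorem lift_chain {X X' : Type*} [Group X] [Group X'] (π : X →* X') (S : Subgroup X)
    (S' : Subgroup X') (𝓥 : Set (Subgroup X' → Subgroup X')) (Rel : Set X → X → Prop)
    (hone : ∀ A : Set X, A ⊆ (S : Set X) → Rel A 1)
    (htrans : ∀ (A : Set X) (g h : X), Rel A g → Rel (cjs g A) h → Rel A (h * g))
    (hstep : ∀ A : Set X, A ⊆ (S : Set X) → ∀ y' : X',
      (∃ W ∈ 𝓥, y' ∈ (⊤ : Subgroup X') ⊓ Subgroup.normalizer ((W S' : Subgroup X') : Set X')) →
      cjs y' (π '' A) ⊆ (S' : Set X') → ∃ y : X, π y = y' ∧ cjs y A ⊆ (S : Set X) ∧ Rel A y) :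
    ∀ (A' : Set X') (g' : X'), WChain 𝓥 ⊤ S' A' g' → ∀ A : Set X, A ⊆ (S : Set X) →
      π '' A = A' → ∃ g : X, π g = g' ∧ cjs g A ⊆ (S : Set X) ∧ Rel A g := by
  intro A' g' hch
  induction hch with
  | nil A' =>
    intro A hA _
    exact ⟨1, map_one π, by rw [cjs_one]; exact hA, hone A hA⟩
  | cons A' y' g' hy hyA _ ih =>
    intro A hA hAA'
    subst hAA'
    obtain ⟨y, hy1, hy2, hy3⟩ := hstep A hA y' hy hyA
    have himg : π '' (cjs y A) = cjs y' (π '' A) := by rw [image_cjs, hy1]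
    obtain ⟨g, hg1, hg2, hg3⟩ := ih (cjs y A) hy2 himg
    exact ⟨g * y, by rw [map_mul, hg1, hy1], by rw [cjs_mul]; exact hg2, htrans A y g hy3 hg3⟩

/-! ### Lifting control modulo a normal `p'`-subgroup -/

theorem good_of_quotient_pprime (h𝓦 : ∀ W ∈ 𝓦, Cfsg.IsCharPFunctor.{u} p W) {X : Type u}
    [Group X] [Finite X] (K : Subgroup X) [K.Normal] (hK : (Nat.card K).Coprime p)
    (h : Good p 𝓦 (X ⧸ K)) : Good p 𝓦 X := by
  classical
  obtain S : Sylow p X := default
  set π := QuotientGroup.mk' K with hπ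
  have hπs : Function.Surjective π := QuotientGroup.mk'_surjective K
  have hπK : ∀ x : X, π x = 1 ↔ x ∈ K := fun x => QuotientGroup.eq_one_iff x
  set S' : Sylow p (X ⧸ K) := S.mapSurjective hπs with hS'
  have hS'coe : (S' : Subgroup (X ⧸ K)) = (S : Subgroup X).map π := rfl
  -- `π` is injective on `S`
  have hinjS : ∀ x ∈ (S : Subgroup X), π x = 1 → x = 1 := by
    intro x hx hx1
    have hxK : x ∈ K := (hπK x).mp hx1
    have hbot := Cfsg.Agent.Lib.Helper32_Sylow.inf_eq_bot_of_pgroup_of_coprime S.2 hK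
    have hmem : x ∈ (S : Subgroup X) ⊓ K := ⟨hx, hxK⟩
    rw [hbot] at hmem
    exact hmem
  apply good_of_gr S
  intro A g hA hgA
  have hA' : π '' A ⊆ ((S' : Subgroup (X ⧸ K)) : Set (X ⧸ K)) := by
    rintro _ ⟨a, ha, rfl⟩
    exact ⟨a, hA ha, rfl⟩
  have hgA' : cjs (π g) (π '' A) ⊆ ((S' : Subgroup (X ⧸ K)) : Set (X ⧸ K)) := by
    rw [← image_cjs]
    rintro _ ⟨a, ha, rfl⟩
    exact ⟨a, hgA ha, rfl⟩
  obtain ⟨-, g', hch, hag⟩ := gr_of_good h𝓦 S' h hA' hgA'
  have hstep : ∀ A : Set X, A ⊆ ((S : Subgroup X) : Set X) → ∀ y' : X ⧸ K,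
      (∃ W ∈ fam 𝓦 (X ⧸ K), y' ∈ (⊤ : Subgroup (X ⧸ K)) ⊓
        Subgroup.normalizer ((W (S' : Subgroup (X ⧸ K)) : Subgroup (X ⧸ K)) : Set (X ⧸ K))) →
      cjs y' (π '' A) ⊆ ((S' : Subgroup (X ⧸ K)) : Set (X ⧸ K)) →
      ∃ y : X, π y = y' ∧ cjs y A ⊆ ((S : Subgroup X) : Set X) ∧
        GR (fam 𝓦 X) (S : Subgroup X) A y := by
    intro A hA y' hy hyA
    obtain ⟨W', ⟨W, hW, rfl⟩, hy2⟩ := hy
    have hyN := hy2.2
    set V := Cfsg.inducedFunctor (G := X) W (S : Subgroup X) with hV
    have hVS : V ≤ (S : Subgroup X) := inducedFunctor_le W _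
    have hfun : Cfsg.inducedFunctor (G := X ⧸ K) W (S' : Subgroup (X ⧸ K)) = V.map π := by
      rw [hS'coe]
      exact inducedFunctor_map (h𝓦 W hW) π (S : Subgroup X) S.2 hinjS
    simp only [] at hyN
    rw [hfun, ← map_normalizer_eq_of_coprime K hK V (S.2.to_le hVS)] at hyN
    obtain ⟨y₀, hy₀N, rfl⟩ := hyN
    set N := Subgroup.normalizer (V : Set X) with hN
    have hSN : (S : Subgroup X) ≤ N :=
      (Subgroup.le_normalizer).trans
        (normalizer_le_normalizer_inducedFunctor (h𝓦 W hW) (S : Subgroup X) S.2)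
    set B := Subgroup.closure A with hB
    have hBS : B ≤ (S : Subgroup X) := (Subgroup.closure_le _).mpr hA
    have h1 : cj y₀ B ≤ N := by
      have h : cj y₀ B ≤ cj y₀ N := cj_mono (hBS.trans hSN)
      rwa [cj_of_mem hy₀N] at h
    have h2 : cj y₀ B ≤ (S : Subgroup X) ⊔ K := by
      rw [hB, cj_closure, Subgroup.closure_le]
      rintro _ ⟨a, ha, rfl⟩
      have h3 : π (y₀ * a * y₀⁻¹) ∈ ((S' : Subgroup (X ⧸ K)) : Set (X ⧸ K)) := by
        apply hyA
        rw [← image_cjs]
        exact ⟨y₀ * a * y₀⁻¹, ⟨a, ha, rfl⟩, rfl⟩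
      obtain ⟨s, hs, hsa⟩ := h3
      have hk : s⁻¹ * (y₀ * a * y₀⁻¹) ∈ K := by
        rw [← hπK, map_mul, map_inv, hsa, inv_mul_cancel]
      have e : y₀ * a * y₀⁻¹ = s * (s⁻¹ * (y₀ * a * y₀⁻¹)) := by group
      show y₀ * a * y₀⁻¹ ∈ (S : Subgroup X) ⊔ K
      rw [e]
      exact mul_mem (Subgroup.mem_sup_left hs) (Subgroup.mem_sup_right hk)
    have hSL : (S : Subgroup X) ≤ N ⊓ ((S : Subgroup X) ⊔ K) := le_inf hSN le_sup_left
    obtain ⟨u, hu, huB⟩ := exists_cj_le_of_relIndex hSL S.2 (not_dvd_relIndex_of_le S hSL)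
      (le_inf h1 h2) (isPGroup_cj (S.2.to_le hBS))
    obtain ⟨s, hs, k, hk, hsk⟩ : ∃ s ∈ (S : Subgroup X), ∃ k ∈ K, s * k = u := by
      have h3 : u ∈ (((S : Subgroup X) ⊔ K : Subgroup X) : Set X) := hu.2
      rw [Subgroup.mul_normal, Set.mem_mul] at h3
      exact h3
    subst hsk
    have hkN : k ∈ N := by
      have e : k = s⁻¹ * (s * k) := by group
      rw [e]
      exact mul_mem (inv_mem (hSN hs)) hu.1
    have h3 : cj k (cj y₀ B) ≤ (S : Subgroup X) := by
      have h4 : cj (s * k) (cj y₀ B) ≤ (S : Subgroup X) := huB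
      rw [cj_mul] at h4
      have h5 := cj_mono (g := s⁻¹) h4
      rwa [cj_inv_cj, cj_of_mem (inv_mem hs)] at h5
    have h4 : cjs (k * y₀) A ⊆ ((S : Subgroup X) : Set X) := by
      rw [cjs_subset_coe_iff, cj_mul]
      exact h3
    refine ⟨k * y₀, ?_, h4, ?_⟩
    · rw [map_mul, (hπK k).mpr hk, one_mul]
    · exact ⟨hA, k * y₀, WChain.single ⟨_, ⟨W, hW, rfl⟩,
        ⟨Subgroup.mem_top _, mul_mem hkN hy₀N⟩⟩ h4, AgreeOn.refl _ _⟩
  obtain ⟨g₁, hg₁, hg₁A, hg₁R⟩ := lift_chain π (S : Subgroup X) (S' : Subgroup (X ⧸ K))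
    (fam 𝓦 (X ⧸ K)) (GR (fam 𝓦 X) (S : Subgroup X)) (fun A hA => GR.one hA)
    (fun A g h => (GR.fusionRel _ _).trans A g h) hstep (π '' A) g' hch A hA rfl
  refine hg₁R.of_agree ?_
  intro a ha
  have h1 : g₁ * a * g₁⁻¹ ∈ (S : Subgroup X) := hg₁A ⟨a, ha, rfl⟩
  have h2 : g * a * g⁻¹ ∈ (S : Subgroup X) := hgA ⟨a, ha, rfl⟩
  have h3 : π (g₁ * a * g₁⁻¹) = π (g * a * g⁻¹) := by
    have := hag (π a) ⟨a, ha, rfl⟩
    simp only [map_mul, map_inv, hg₁]
    exact this
  have h4 : (g₁ * a * g₁⁻¹) * (g * a * g⁻¹)⁻¹ = 1 :=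
    hinjS _ (mul_mem h1 (inv_mem h2)) (by rw [map_mul, map_inv, h3, mul_inv_cancel])
  exact mul_inv_eq_one.mp h4

/-! ### The stability-group step -/

/-- if `E` is normal and a `p`-group modulo the normal subgroup `K`, then `E ≤ T K` for every
Sylow `p`-subgroup `T` -/
theorem exists_sylow_mul_of_normal_pquot {N : Type*} [Group N] [Finite N] (T : Sylow p N)
    (K E : Subgroup N) [K.Normal] [E.Normal] (hE : ∀ e ∈ E, ∃ k : ℕ, e ^ p ^ k ∈ K) :
    ∀ e ∈ E, ∃ t ∈ (T : Subgroup N), t⁻¹ * e ∈ K := by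
  intro e he
  set π := QuotientGroup.mk' K with hπ
  have hπs : Function.Surjective π := QuotientGroup.mk'_surjective K
  have hπK : ∀ x : N, π x = 1 ↔ x ∈ K := fun x => QuotientGroup.eq_one_iff x
  have hEn : (E.map π).Normal := Subgroup.Normal.map inferInstance π hπs
  have hEp : IsPGroup p (E.map π) := by
    rintro ⟨x, e', he', rfl⟩
    obtain ⟨k, hk⟩ := hE e' he'
    refine ⟨k, Subtype.ext ?_⟩
    show (π e') ^ p ^ k = 1
    rw [← map_pow]
    exact (hπK _).mpr hk
  have hle := hEp.le_sylow_of_normal (T.mapSurjective hπs)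
  have hmem : π e ∈ ((T.mapSurjective hπs : Sylow p (N ⧸ K)) : Subgroup (N ⧸ K)) :=
    hle ⟨e, he, rfl⟩
  obtain ⟨t, ht, hte⟩ := hmem
  refine ⟨t, ht, ?_⟩
  rw [← hπK, map_mul, map_inv, hte, inv_mul_cancel]

theorem conj_pow_of_commute' {X : Type*} [Group X] (a v z : X) (hz : a * v * a⁻¹ = z * v)
    (h : a * z = z * a) (i : ℕ) : a ^ i * v * (a ^ i)⁻¹ = z ^ i * v := by
  induction i with
  | zero => simp
  | succ i ih =>
    have hc : Commute a (z ^ i) := (show Commute a z from h).pow_right i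
    have h1 : a * z ^ i * a⁻¹ = z ^ i := by rw [hc.eq]; group
    calc a ^ (i + 1) * v * (a ^ (i + 1))⁻¹ = a * (a ^ i * v * (a ^ i)⁻¹) * a⁻¹ := by
          rw [pow_succ']; group
      _ = a * (z ^ i * v) * a⁻¹ := by rw [ih]
      _ = (a * z ^ i * a⁻¹) * (a * v * a⁻¹) := by group
      _ = z ^ i * (z * v) := by rw [h1, hz]
      _ = z ^ (i + 1) * v := by rw [pow_succ]; group

/-- the stability subgroup: elements of `N(U)` acting trivially on `U/D` -/
def stabSub {X : Type*} [Group X] (U D : Subgroup X) [hDn : D.Normal] :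
    Subgroup ↥(Subgroup.normalizer (U : Set X)) where
  carrier := {n | ∀ u ∈ U, (n : X) * u * (n : X)⁻¹ * u⁻¹ ∈ D}
  one_mem' := by
    intro u _
    simp
  mul_mem' := by
    intro a b ha hb u hu
    have h1 := hb u hu
    have h2 := ha u hu
    have e : ((a * b : ↥(Subgroup.normalizer (U : Set X))) : X) * u *
        ((a * b : ↥(Subgroup.normalizer (U : Set X))) : X)⁻¹ * u⁻¹ =
        (a : X) * ((b : X) * u * (b : X)⁻¹ * u⁻¹) * (a : X)⁻¹ * ((a : X) * u * (a : X)⁻¹ * u⁻¹) := by
      simp only [Subgroup.coe_mul]; group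
    rw [e]
    exact mul_mem (hDn.conj_mem _ h1 _) h2
  inv_mem' := by
    intro a ha u hu
    have hv : (a : X)⁻¹ * u * (a : X) ∈ U := by
      have h1 : cj (a : X) U = U := mem_normalizer_iff_cj.mp a.2
      have h2 : u ∈ cj (a : X) U := by rw [h1]; exact hu
      exact mem_cj.mp h2
    have h1 := ha _ hv
    have e : ((a⁻¹ : ↥(Subgroup.normalizer (U : Set X))) : X) * u *
        ((a⁻¹ : ↥(Subgroup.normalizer (U : Set X))) : X)⁻¹ * u⁻¹ =
        ((a : X) * ((a : X)⁻¹ * u * (a : X)) * (a : X)⁻¹ * ((a : X)⁻¹ * u * (a : X))⁻¹)⁻¹ := by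
      simp only [Subgroup.coe_inv]; group
    rw [e]
    exact inv_mem h1

theorem mem_stabSub {X : Type*} [Group X] (U D : Subgroup X) [D.Normal]
    (n : ↥(Subgroup.normalizer (U : Set X))) :
    n ∈ stabSub U D ↔ ∀ u ∈ U, (n : X) * u * (n : X)⁻¹ * u⁻¹ ∈ D := Iff.rfl

instance stabSub_normal {X : Type*} [Group X] (U D : Subgroup X) [hDn : D.Normal] :
    (stabSub U D).Normal := by
  constructor
  intro e he n u hu
  have hv : (n : X)⁻¹ * u * (n : X) ∈ U := by
    have h1 : cj (n : X) U = U := mem_normalizer_iff_cj.mp n.2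
    have h2 : u ∈ cj (n : X) U := by rw [h1]; exact hu
    exact mem_cj.mp h2
  have h1 := he _ hv
  have e' : ((n * e * n⁻¹ : ↥(Subgroup.normalizer (U : Set X))) : X) * u *
      ((n * e * n⁻¹ : ↥(Subgroup.normalizer (U : Set X))) : X)⁻¹ * u⁻¹ =
      (n : X) * ((e : X) * ((n : X)⁻¹ * u * (n : X)) * (e : X)⁻¹ *
        ((n : X)⁻¹ * u * (n : X))⁻¹) * (n : X)⁻¹ := by
    simp only [Subgroup.coe_mul, Subgroup.coe_inv]; group
  rw [e']
  exact hDn.conj_mem _ h1 _

/-- **The stability-group step.** If `X = C_X(D) S` for a normal `p`-subgroup `D`, `U` is fully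
normalized with `D ≤ U ≤ S`, and `d ∈ N(U)` acts trivially on `U/D`, then `d` acts on `U` like an
element of `S`. -/
theorem exists_agree_of_stab {X : Type*} [Group X] [Finite X] (S : Sylow p X) (D : Subgroup X)
    [D.Normal] (hD : IsPGroup p D)
    (hCS : ∀ x : X, ∃ c ∈ Subgroup.centralizer (D : Set X), ∃ s ∈ (S : Subgroup X), x = c * s)
    (U : Subgroup X)
    (hfn : ¬ p ∣ ((S : Subgroup X) ⊓ Subgroup.normalizer (U : Set X)).relIndex
      (Subgroup.normalizer (U : Set X)))
    (d : X) (hd : d ∈ Subgroup.normalizer (U : Set X))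
    (hdU : ∀ u ∈ U, d * u * d⁻¹ * u⁻¹ ∈ D) :
    ∃ t ∈ (S : Subgroup X), ∀ u ∈ U, t * u * t⁻¹ = d * u * d⁻¹ := by
  classical
  set N := Subgroup.normalizer (U : Set X) with hN
  set C := Subgroup.centralizer (D : Set X) with hC
  let TN : Sylow p ↥N := IsPGroup.toSylow (P := ((S : Subgroup X) ⊓ N).subgroupOf N)
    ((S.2.to_le inf_le_left).comap_subtype) hfn
  set K' : Subgroup ↥N := (Subgroup.centralizer (U : Set X)).subgroupOf N with hK'
  have hE : ∀ e ∈ stabSub U D, ∃ k : ℕ, e ^ p ^ k ∈ K' := by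
    intro e he
    -- a `p`-power of `e` lies in `C`
    obtain ⟨a, ha⟩ := S.2.exists_card_eq
    obtain ⟨b, hb⟩ := hD.exists_card_eq
    have h1 : (e : X) ^ p ^ a ∈ C := by
      obtain ⟨c, hc, s, hs, hcs⟩ := hCS (e : X)
      have hs1 : s ^ p ^ a = 1 := by
        have : (⟨s, hs⟩ : (S : Subgroup X)) ^ Nat.card (S : Subgroup X) = 1 := pow_card_eq_one'
        rw [ha] at this
        have := congrArg Subtype.val this
        simpa using this
      rw [← QuotientGroup.eq_one_iff (N := C), QuotientGroup.mk_pow, hcs, QuotientGroup.mk_mul,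
        (QuotientGroup.eq_one_iff c).mpr hc, one_mul, ← QuotientGroup.mk_pow, hs1]
      rfl
    have he1 : e ^ p ^ a ∈ stabSub U D := pow_mem he _
    refine ⟨a + b, ?_⟩
    rw [hK', Subgroup.mem_subgroupOf, Subgroup.mem_centralizer_iff]
    intro u hu
    set e₁ : X := (e : X) ^ p ^ a with he₁
    set z : X := e₁ * u * e₁⁻¹ * u⁻¹ with hz
    have hzD : z ∈ D := by
      have := (mem_stabSub U D _).mp he1 u hu
      simpa using this
    have hcomm : e₁ * z = z * e₁ := (Subgroup.mem_centralizer_iff.mp h1 z hzD).symm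
    have hconj := conj_pow_of_commute' e₁ u z (by rw [hz]; group) hcomm (p ^ b)
    have hz1 : z ^ p ^ b = 1 := by
      have : (⟨z, hzD⟩ : D) ^ Nat.card D = 1 := pow_card_eq_one'
      rw [hb] at this
      have := congrArg Subtype.val this
      simpa using this
    rw [hz1, one_mul] at hconj
    have e2 : ((e ^ p ^ (a + b) : ↥N) : X) = e₁ ^ p ^ b := by
      rw [Subgroup.coe_pow, he₁, ← pow_mul, ← pow_add]
    rw [e2]
    have : e₁ ^ p ^ b * u = u * e₁ ^ p ^ b := by
      calc e₁ ^ p ^ b * u = (e₁ ^ p ^ b * u * (e₁ ^ p ^ b)⁻¹) * e₁ ^ p ^ b := by group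
        _ = u * e₁ ^ p ^ b := by rw [hconj]
    exact this.symm
  have hdE : (⟨d, hd⟩ : ↥N) ∈ stabSub U D := hdU
  obtain ⟨t, ht, hte⟩ := exists_sylow_mul_of_normal_pquot TN K' (stabSub U D) hE ⟨d, hd⟩ hdE
  have htS : (t : X) ∈ (S : Subgroup X) := by
    have : t ∈ ((S : Subgroup X) ⊓ N).subgroupOf N := ht
    rw [Subgroup.mem_subgroupOf] at this
    exact this.1
  refine ⟨(t : X), htS, ?_⟩
  intro u hu
  rw [hK', Subgroup.mem_subgroupOf, Subgroup.mem_centralizer_iff] at hte
  have h1 := hte u hu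
  have h2 : ((t⁻¹ * ⟨d, hd⟩ : ↥N) : X) = (t : X)⁻¹ * d := by simp
  rw [h2] at h1
  calc (t : X) * u * (t : X)⁻¹
      = (t : X) * (u * ((t : X)⁻¹ * d)) * ((t : X)⁻¹ * d)⁻¹ * (t : X)⁻¹ := by group
    _ = (t : X) * (((t : X)⁻¹ * d) * u) * ((t : X)⁻¹ * d)⁻¹ * (t : X)⁻¹ := by rw [h1]
    _ = d * u * d⁻¹ := by group

/-! ### The section hypothesis -/

/-- `C_Y(O_p(Y)) ≤ O_p(Y)` -/
def Constrained (p : ℕ) (Y : Type*) [Group Y] : Prop :=
  Subgroup.centralizer ((Cfsg.pCore p Y : Subgroup Y) : Set Y) ≤ Cfsg.pCore p Y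

/-- the section hypothesis: control of strong fusion in all constrained groups involved in `X` -/
def SecGood (p : ℕ) (𝓦 : Set (∀ (Q : Type u) [Group Q], Subgroup Q)) (X : Type u) [Group X] :
    Prop :=
  ∀ (Y : Type u) [Group Y], Cfsg.Involves Y X → Constrained p Y → Good p 𝓦 Y

theorem SecGood.of_subgroup {X : Type u} [Group X] (h : SecGood p 𝓦 X) (M : Subgroup X) :
    SecGood p 𝓦 M :=
  fun Y _ hY => h Y (involves_of_subgroup M hY)

theorem SecGood.of_surjective {X X' : Type u} [Group X] [Group X'] (h : SecGood p 𝓦 X)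
    (π : X →* X') (hπ : Function.Surjective π) : SecGood p 𝓦 X' :=
  fun Y _ hY => h Y (involves_of_surjective π hπ hY)

theorem constrained_of_isPGroup {Y : Type*} [Group Y] (hY : IsPGroup p Y) : Constrained p Y := by
  have h1 : (⊤ : Subgroup Y) ≤ Cfsg.pCore p Y :=
    Cfsg.Agent.Lib.Helper1_Cores.le_pCore inferInstance (hY.to_subgroup ⊤)
  exact fun x _ => h1 (Subgroup.mem_top x)

theorem card_lt_of_ne_top {X : Type*} [Group X] [Finite X] {M : Subgroup X} (hM : M ≠ ⊤) :
    Nat.card M < Nat.card X := by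
  by_contra hcon
  exact hM (Subgroup.eq_top_of_le_card M (not_lt.mp hcon))

theorem card_quotient_lt {X : Type*} [Group X] [Finite X] {K : Subgroup X} [K.Normal]
    (hK : K ≠ ⊥) : Nat.card (X ⧸ K) < Nat.card X := by
  have h1 := Subgroup.card_eq_card_quotient_mul_card_subgroup K
  have h2 : 1 < Nat.card K := K.one_lt_card_iff_ne_bot.mpr hK
  have h3 : 0 < Nat.card (X ⧸ K) := Nat.card_pos
  rw [h1]
  nlinarith

theorem cj_of_normal {X : Type*} [Group X] (Y : Subgroup X) [hY : Y.Normal] (g : X) :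
    cj g Y = Y :=
  mem_normalizer_iff_cj.mp (by rw [Subgroup.normalizer_eq_top_iff.mpr hY]; exact Subgroup.mem_top g)

/-! ### The main induction -/

set_option maxHeartbeats 1600000 in
/-- **Reduction to constrained sections.** -/
theorem main (h𝓦 : ∀ W ∈ 𝓦, Cfsg.IsCharPFunctor.{u} p W) : ∀ n : ℕ, ∀ (X : Type u) [Group X]
    [Finite X], Nat.card X = n → SecGood p 𝓦 X → Good p 𝓦 X := by
  intro n
  induction n using Nat.strong_induction_on with
  | _ n ih =>
  intro X _ _ hcard hsec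
  classical
  have IH : ∀ (Y : Type u) [Group Y] [Finite Y], Nat.card Y < Nat.card X → SecGood p 𝓦 Y →
      Good p 𝓦 Y := fun Y _ _ hY hs => ih (Nat.card Y) (hcard ▸ hY) Y rfl hs
  have IHsub : ∀ M : Subgroup X, M ≠ ⊤ → Good p 𝓦 M := fun M hM =>
    IH M (card_lt_of_ne_top hM) (hsec.of_subgroup M)
  have IHquot : ∀ (K : Subgroup X) [K.Normal], K ≠ ⊥ → Good p 𝓦 (X ⧸ K) := fun K _ hK =>
    IH (X ⧸ K) (card_quotient_lt hK)
      (hsec.of_surjective (QuotientGroup.mk' K) (QuotientGroup.mk'_surjective K))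
  obtain S : Sylow p X := default
  -- Step 1: a nontrivial normal `p'`-subgroup
  by_cases hK : Cfsg.pPrimeCore p X = ⊥
  swap
  · exact good_of_quotient_pprime h𝓦 (Cfsg.pPrimeCore p X)
      (Cfsg.Agent.Lib.Helper1_Cores.pPrimeCore_card_coprime p) (IHquot _ hK)
  -- Step 2: the constrained case
  by_cases hcon : Constrained p X
  · exact hsec X (involves_self X) hcon
  set D := Cfsg.pCore p X with hD
  have hDn : D.Normal := Cfsg.Agent.Lib.Helper1_Cores.pCore_normal p
  have hDp : IsPGroup p D := Cfsg.Agent.Lib.Helper1_Cores.pCore_isPGroup p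
  have hDS : D ≤ (S : Subgroup X) := Cfsg.Agent.Lib.Helper1_Cores.pCore_le_sylow p S
  -- Step 3: `O_p(X) = 1`
  by_cases hDbot : D = ⊥
  · show Cfsg.FamilyControlsStrongFusionIn p (fam 𝓦 X) ⊤
    apply familyControls_of_local S (fam_isConjugacyFunctor h𝓦 X) Set.univ
    · intro T hT
      obtain ⟨U, hUS, hg, hfn⟩ := Cfsg.Agent.Lib.Helper51_Local.exists_fully_normalized S hT
      exact ⟨U, Set.mem_univ _, hUS, hg, hfn⟩
    · intro U _ hUS hUne _
      have hNtop : Subgroup.normalizer (U : Set X) ≠ ⊤ := by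
        intro htop
        have hUn : U.Normal := Subgroup.normalizer_eq_top_iff.mp htop
        have hle := Cfsg.Agent.Lib.Helper1_Cores.le_pCore hUn (S.2.to_le hUS)
        rw [← hD, hDbot] at hle
        exact hUne (le_bot_iff.mp hle)
      have hgm := good_map h𝓦 (Subgroup.normalizer (U : Set X)).subtype
        (Subgroup.subtype_injective _) (IHsub _ hNtop)
      rwa [Subgroup.range_subtype] at hgm
  -- Step 4
  set C := Subgroup.centralizer (D : Set X) with hC
  have hCn : C.Normal := Subgroup.normal_centralizer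
  have hYn : (C ⊔ D).Normal := inferInstance
  set R := (S : Subgroup X) ⊓ (C ⊔ D) with hR
  have hDR : D < R := by
    refine lt_of_le_of_ne (le_inf hDS le_sup_right) ?_
    intro hDReq
    apply hcon
    intro c hc
    have hcen : ∀ z ∈ (S : Subgroup X) ⊓ C, ∀ c ∈ C, z * c = c * z := by
      intro z hz c hc
      have hzD : z ∈ D := by
        rw [hDReq]
        exact ⟨hz.1, Subgroup.mem_sup_left hz.2⟩
      exact Subgroup.mem_centralizer_iff.mp hc z hzD
    obtain ⟨t, ht, z, hz, rfl⟩ :=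
      Cfsg.Agent.Lib.Helper31_AG.exists_mul_of_central_sylow S C hcen hc
    rw [hK, Subgroup.mem_bot] at ht
    rw [ht, one_mul]
    show z ∈ D
    rw [hDReq]
    exact ⟨hz.1, Subgroup.mem_sup_left hz.2⟩
  by_cases hCS : C ⊔ (S : Subgroup X) = ⊤
  · -- `X = C S`
    have hCSx : ∀ x : X, ∃ c ∈ C, ∃ s ∈ (S : Subgroup X), x = c * s := by
      intro x
      have hx : x ∈ ((C ⊔ (S : Subgroup X) : Subgroup X) : Set X) := by
        rw [hCS]; exact Subgroup.mem_top x
      rw [Subgroup.normal_mul, Set.mem_mul] at hx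
      obtain ⟨c, hc, s, hs, h⟩ := hx
      exact ⟨c, hc, s, hs, h.symm⟩
    have gS : Good p 𝓦 (S : Subgroup X) :=
      hsec _ (involves_of_subgroup _ (involves_self _)) (constrained_of_isPGroup S.2)
    apply good_of_gr S
    by_cases hSD : (S : Subgroup X) ≤ D
    · intro A x hA hxA
      obtain ⟨c, hc, s, hs, rfl⟩ := hCSx x
      have hsA : cjs s A ⊆ ((S : Subgroup X) : Set X) := by
        rintro _ ⟨a, ha, rfl⟩
        exact mul_mem (mul_mem hs (hA ha)) (inv_mem hs)
      have g1 := gr_of_good_subgroup h𝓦 S (S : Subgroup X) le_rfl gS hs hA hsA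
      refine g1.of_agree ?_
      intro a ha
      have h1 : s * a * s⁻¹ ∈ D := hSD (hsA ⟨a, ha, rfl⟩)
      have h2 := Subgroup.mem_centralizer_iff.mp hc _ h1
      calc s * a * s⁻¹ = (s * a * s⁻¹ * c) * c⁻¹ := by group
        _ = (c * (s * a * s⁻¹)) * c⁻¹ := by rw [h2]
        _ = c * s * a * (c * s)⁻¹ := by group
    · have key : ∀ Q : Subgroup X, Q ≤ (S : Subgroup X) → ∀ g : X, cj g Q ≤ (S : Subgroup X) →
          GR (fam 𝓦 X) (S : Subgroup X) (Q : Set X) g := by
        apply alperin S Set.univ ?_ (GR (fam 𝓦 X) (S : Subgroup X)) (GR.fusionRel _ _)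
        · intro U _ hUS hfn IH' m hm
          by_cases hDU : D ≤ U
          swap
          · have hlt : Nat.card U < Nat.card (U ⊔ D : Subgroup X) :=
              card_lt_of_lt (lt_of_le_of_ne le_sup_left
                (fun h => hDU (by rw [h]; exact le_sup_right)))
            have hm' : cj m (U ⊔ D) = U ⊔ D := by
              unfold cj
              rw [Subgroup.map_sup]
              have h1 : cj m U = U := mem_normalizer_iff_cj.mp hm
              have h2 : cj m D = D := cj_of_normal D m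
              unfold cj at h1 h2
              rw [h1, h2]
            have h3 := IH' (U ⊔ D) (sup_le hUS hDS) hlt m (hm'.le.trans (sup_le hUS hDS))
            exact (GR.fusionRel _ _).restrict _ _ m h3
              (by intro x hx; exact (le_sup_left : U ≤ U ⊔ D) hx)
          · set π := QuotientGroup.mk' D with hπ
            have hπs : Function.Surjective π := QuotientGroup.mk'_surjective D
            have hπD : ∀ x : X, π x = 1 ↔ x ∈ D := fun x => QuotientGroup.eq_one_iff x
            set S' : Sylow p (X ⧸ D) := S.mapSurjective hπs with hS'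
            have gq : Good p 𝓦 (X ⧸ D) := IHquot D hDbot
            have hpre : ∀ x : X, π x ∈ (S' : Subgroup (X ⧸ D)) → x ∈ (S : Subgroup X) := by
              intro x hx
              obtain ⟨s, hs, hsx⟩ := hx
              have hk : s⁻¹ * x ∈ D := by rw [← hπD, map_mul, map_inv, hsx, inv_mul_cancel]
              have e : x = s * (s⁻¹ * x) := by group
              rw [e]
              exact mul_mem hs (hDS hk)
            have hS'ne : (S' : Subgroup (X ⧸ D)) ≠ ⊥ := by
              intro hbot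
              apply hSD
              intro s hs
              have h1 : π s ∈ (S' : Subgroup (X ⧸ D)) := ⟨s, hs, rfl⟩
              rw [hbot, Subgroup.mem_bot] at h1
              exact (hπD s).mp h1
            have hUA : π '' (U : Set X) ⊆ ((S' : Subgroup (X ⧸ D)) : Set (X ⧸ D)) := by
              rintro _ ⟨u, hu, rfl⟩
              exact ⟨u, hUS hu, rfl⟩
            have hmU : cjs m (U : Set X) = (U : Set X) := by
              rw [← coe_cj, mem_normalizer_iff_cj.mp hm]
            have hmUA : cjs (π m) (π '' (U : Set X)) ⊆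
                ((S' : Subgroup (X ⧸ D)) : Set (X ⧸ D)) := by
              rw [← image_cjs, hmU]; exact hUA
            obtain ⟨-, g', hch, hag⟩ := gr_of_good h𝓦 S' gq hUA hmUA
            have hstep : ∀ A : Set X, A ⊆ ((S : Subgroup X) : Set X) → ∀ y' : X ⧸ D,
                (∃ W ∈ fam 𝓦 (X ⧸ D), y' ∈ (⊤ : Subgroup (X ⧸ D)) ⊓
                  Subgroup.normalizer ((W (S' : Subgroup (X ⧸ D)) : Subgroup (X ⧸ D)) :
                    Set (X ⧸ D))) →
                cjs y' (π '' A) ⊆ ((S' : Subgroup (X ⧸ D)) : Set (X ⧸ D)) →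
                ∃ y : X, π y = y' ∧ cjs y A ⊆ ((S : Subgroup X) : Set X) ∧
                  GR (fam 𝓦 X) (S : Subgroup X) A y := by
              intro A hA y' hy hyA
              obtain ⟨y, rfl⟩ := hπs y'
              have hyAS : cjs y A ⊆ ((S : Subgroup X) : Set X) := by
                rintro _ ⟨a, ha, rfl⟩
                apply hpre
                apply hyA
                rw [← image_cjs]
                exact ⟨_, ⟨a, ha, rfl⟩, rfl⟩
              refine ⟨y, rfl, hyAS, ?_⟩
              obtain ⟨W', hW', hy2⟩ := hy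
              have hW'conj := fam_isConjugacyFunctor h𝓦 (X ⧸ D) W' hW'
              set V' := W' (S' : Subgroup (X ⧸ D)) with hV'
              have hV'S' : V' ≤ (S' : Subgroup (X ⧸ D)) := (hW'conj _ S'.2).1
              have hV'ne : V' ≠ ⊥ := (hW'conj _ S'.2).2.1 hS'ne
              set Mv := Subgroup.normalizer ((V'.comap π : Subgroup X) : Set X) with hMv
              have hyM : y ∈ Mv := by
                rw [hMv, ← Subgroup.comap_normalizer_eq_of_surjective _ hπs]
                exact hy2.2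
              have hSMv : (S : Subgroup X) ≤ Mv := by
                intro s hs
                rw [hMv, ← Subgroup.comap_normalizer_eq_of_surjective _ hπs]
                show π s ∈ Subgroup.normalizer (V' : Set (X ⧸ D))
                exact normalizer_le_normalizer_W' (fam_isConjugacyFunctor h𝓦 (X ⧸ D)) hW' S'.2
                  (Subgroup.le_normalizer ⟨s, hs, rfl⟩)
              have hMvtop : Mv ≠ ⊤ := by
                intro htop
                have hVn : (V'.comap π).Normal := Subgroup.normalizer_eq_top_iff.mp htop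
                have hVS : V'.comap π ≤ (S : Subgroup X) := fun x hx => hpre x (hV'S' hx)
                have hVD : V'.comap π ≤ D :=
                  Cfsg.Agent.Lib.Helper1_Cores.le_pCore hVn (S.2.to_le hVS)
                apply hV'ne
                rw [eq_bot_iff]
                intro v hv
                obtain ⟨x, rfl⟩ := hπs v
                rw [Subgroup.mem_bot]
                exact (hπD x).mpr (hVD hv)
              exact gr_of_good_subgroup h𝓦 S Mv hSMv (IHsub Mv hMvtop) hyM hA hyAS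
            obtain ⟨g, hg1, hgU, hgR⟩ := lift_chain π (S : Subgroup X)
              (S' : Subgroup (X ⧸ D)) (fam 𝓦 (X ⧸ D)) (GR (fam 𝓦 X) (S : Subgroup X))
              (fun A hA => GR.one hA) (fun A g h => (GR.fusionRel _ _).trans A g h) hstep _ g' hch
              (U : Set X) hUS rfl
            set d := g⁻¹ * m with hd
            have hdU : ∀ u ∈ U, d * u * d⁻¹ * u⁻¹ ∈ D := by
              intro u hu
              rw [← hπD]
              have h1 := hag (π u) ⟨u, hu, rfl⟩
              rw [← hg1] at h1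
              simp only [hd, map_mul, map_inv, mul_inv_rev, inv_inv]
              calc (π g)⁻¹ * π m * π u * ((π m)⁻¹ * π g) * (π u)⁻¹
                  = (π g)⁻¹ * (π m * π u * (π m)⁻¹) * π g * (π u)⁻¹ := by group
                _ = (π g)⁻¹ * (π g * π u * (π g)⁻¹) * π g * (π u)⁻¹ := by rw [h1]
                _ = 1 := by group
            have hdN : d ∈ Subgroup.normalizer (U : Set X) := by
              rw [mem_normalizer_iff_cj]
              apply Subgroup.eq_of_le_of_card_ge
              · rintro _ ⟨u, hu, rfl⟩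
                have h1 := hdU u hu
                have e : (MulAut.conj d).toMonoidHom u = (d * u * d⁻¹ * u⁻¹) * u := by
                  simp
                rw [e]
                exact mul_mem (hDU h1) hu
              · rw [card_cj]
            obtain ⟨t, htS, hta⟩ := exists_agree_of_stab S D hDp hCSx U hfn d hdN hdU
            have htU : cjs t (U : Set X) ⊆ ((S : Subgroup X) : Set X) := by
              rintro _ ⟨u, hu, rfl⟩
              exact mul_mem (mul_mem htS (hUS hu)) (inv_mem htS)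
            have g1 := gr_of_good_subgroup h𝓦 S (S : Subgroup X) le_rfl gS htS
              (show (U : Set X) ⊆ ((S : Subgroup X) : Set X) from hUS) htU
            have g2 : GR (fam 𝓦 X) (S : Subgroup X) (U : Set X) d := g1.of_agree hta
            have hdUeq : cjs d (U : Set X) = (U : Set X) := by
              rw [← coe_cj, mem_normalizer_iff_cj.mp hdN]
            have g3 := (GR.fusionRel _ _).trans (U : Set X) d g g2 (by rw [hdUeq]; exact hgR)
            have e : g * d = m := by rw [hd]; group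
            rwa [e] at g3
        · intro T hT
          obtain ⟨U, hUS, hg, hfn⟩ := Cfsg.Agent.Lib.Helper51_Local.exists_fully_normalized S hT
          exact ⟨U, Set.mem_univ _, hUS, hg, hfn⟩
      intro A x hA hxA
      have h1 := key (Subgroup.closure A) ((Subgroup.closure_le _).mpr hA) x
        (cjs_subset_coe_iff.mp hxA)
      exact (GR.fusionRel _ _).restrict _ A x h1 Subgroup.subset_closure
  · -- `C S < X`
    set M := C ⊔ (S : Subgroup X) with hM
    set N := Subgroup.normalizer (R : Set X) with hN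
    have hSM : (S : Subgroup X) ≤ M := le_sup_right
    have hSN : (S : Subgroup X) ≤ N := by
      intro s hs
      rw [hN, mem_normalizer_iff_cj, hR, cj_inf, cj_of_mem hs, cj_of_normal (C ⊔ D) s]
    have hNtop : N ≠ ⊤ := by
      intro htop
      have hRn : R.Normal := Subgroup.normalizer_eq_top_iff.mp htop
      have hle : R ≤ D :=
        Cfsg.Agent.Lib.Helper1_Cores.le_pCore hRn (S.2.to_le inf_le_left)
      exact lt_irrefl _ (lt_of_lt_of_le hDR hle)
    have gM := IHsub M hCS
    have gN := IHsub N hNtop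
    apply good_of_gr S
    intro A x hA hxA
    obtain ⟨y, hy, n, hn, rfl⟩ := Cfsg.Agent.Lib.Helper32_Sylow.frattini_inf S (C ⊔ D) x
    have hyM : y ∈ M := (sup_le le_sup_left (hDS.trans le_sup_right) : C ⊔ D ≤ M) hy
    set B := Subgroup.closure A with hB
    have hBS : B ≤ (S : Subgroup X) := (Subgroup.closure_le _).mpr hA
    have h1 : cj n B ≤ N := by
      have h : cj n B ≤ cj n N := cj_mono (hBS.trans hSN)
      rwa [cj_of_mem hn] at h
    have h2 : cj n B ≤ M := by
      have h3 : cj (y * n) B ≤ (S : Subgroup X) := cjs_subset_coe_iff.mp hxA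
      rw [cj_mul] at h3
      have h4 := cj_mono (g := y⁻¹) h3
      rw [cj_inv_cj] at h4
      exact h4.trans ((cj_mono hSM).trans (le_of_eq (cj_of_mem (inv_mem hyM))))
    have hSL : (S : Subgroup X) ≤ M ⊓ N := le_inf hSM hSN
    obtain ⟨u, hu, huB⟩ := exists_cj_le_of_relIndex hSL S.2 (not_dvd_relIndex_of_le S hSL)
      (le_inf h2 h1) (isPGroup_cj (S.2.to_le hBS))
    have hunA : cjs (u * n) A ⊆ ((S : Subgroup X) : Set X) := by
      rw [cjs_subset_coe_iff, cj_mul]; exact huB
    have g1 := gr_of_good_subgroup h𝓦 S N hSN gN (mul_mem hu.2 hn) hA hunA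
    have e : y * n = (y * u⁻¹) * (u * n) := by group
    have g2 := gr_of_good_subgroup h𝓦 S M hSM gM (mul_mem hyM (inv_mem hu.1)) hunA
      (by rw [← cjs_mul, ← e]; exact hxA)
    have g3 := (GR.fusionRel _ _).trans A (u * n) (y * u⁻¹) g1 g2
    rwa [← e] at g3

/-! ### Transport along isomorphisms; from sections to involved groups -/

theorem Good.of_equiv (h𝓦 : ∀ W ∈ 𝓦, Cfsg.IsCharPFunctor.{u} p W) {Q Y : Type u} [Group Q]
    [Group Y] [Finite Q] (e : Q ≃* Y) (h : Good p 𝓦 Q) : Good p 𝓦 Y := by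
  have h1 := good_map h𝓦 e.toMonoidHom e.injective h
  have h2 : e.toMonoidHom.range = ⊤ := MonoidHom.range_eq_top.mpr e.surjective
  rw [h2] at h1
  exact h1

theorem Constrained.of_equiv {Q Y : Type*} [Group Q] [Group Y] [Finite Q] (e : Q ≃* Y)
    (h : Constrained p Y) : Constrained p Q := by
  have hcore : (Cfsg.pCore p Q).map e.toMonoidHom = Cfsg.pCore p Y := pCore_map_equiv p e
  intro c hc
  have h1 : e c ∈ Cfsg.pCore p Y := by
    apply h
    rw [Subgroup.mem_centralizer_iff]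
    intro y hy
    rw [SetLike.mem_coe, ← hcore] at hy
    obtain ⟨z, hz, rfl⟩ := hy
    have := Subgroup.mem_centralizer_iff.mp hc z hz
    show e z * e c = e c * e z
    rw [← map_mul, ← map_mul, this]
  rw [← hcore] at h1
  obtain ⟨z, hz, hzc⟩ := h1
  have : z = c := e.injective hzc
  rwa [← this]

/-- the section hypothesis, from its form in terms of sections `K/R` -/
theorem secGood_of_sections (h𝓦 : ∀ W ∈ 𝓦, Cfsg.IsCharPFunctor.{u} p W) {G : Type u} [Group G]
    [Finite G]
    (hloc : ∀ (K R : Subgroup G) [hR : (R.subgroupOf K).Normal],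
      Constrained p (↥K ⧸ R.subgroupOf K) → Good p 𝓦 (↥K ⧸ R.subgroupOf K)) :
    SecGood p 𝓦 G := by
  intro Y _ hY hcon
  obtain ⟨K, R, hn, ⟨e⟩⟩ := hY
  exact Good.of_equiv h𝓦 e (hloc K R (Constrained.of_equiv e hcon))

/-- the section hypothesis passes to sections -/
theorem SecGood.of_section {G : Type u} [Group G] (h : SecGood p 𝓦 G) (K R : Subgroup G)
    [(R.subgroupOf K).Normal] : SecGood p 𝓦 (↥K ⧸ R.subgroupOf K) :=
  (h.of_subgroup K).of_surjective (QuotientGroup.mk' (R.subgroupOf K))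
    (QuotientGroup.mk'_surjective _)

/-! ### Two sufficient conditions for control -/

/-- if `W(S)` is normal for a single functor `W`, then `{W}` controls strong fusion -/
theorem good_of_normal {W : ∀ (Q : Type u) [Group Q], Subgroup Q} {X : Type u} [Group X]
    [Finite X] (S : Sylow p X)
    (hn : (Cfsg.inducedFunctor (G := X) W (S : Subgroup X)).Normal) : Good p {W} X := by
  apply good_of_gr S
  intro A g hA hgA
  refine ⟨hA, g, WChain.single ⟨_, ⟨W, rfl, rfl⟩, ⟨Subgroup.mem_top g, ?_⟩⟩ hgA, AgreeOn.refl _ _⟩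
  rw [Subgroup.normalizer_eq_top_iff.mpr hn]
  exact Subgroup.mem_top g

/-- the single-functor consequence of control, for a given Sylow subgroup -/
theorem exists_normalizer_of_good {W : ∀ (Q : Type u) [Group Q], Subgroup Q}
    (hW : Cfsg.IsCharPFunctor.{u} p W) {X : Type u} [Group X] [Finite X] (S : Sylow p X)
    (h : Good p {W} X) {A : Set X} {g : X} (hA : A ⊆ ((S : Subgroup X) : Set X))
    (hgA : cjs g A ⊆ ((S : Subgroup X) : Set X)) :
    ∃ x ∈ Subgroup.normalizer ((Cfsg.inducedFunctor (G := X) W (S : Subgroup X) : Subgroup X) :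
      Set X), ∀ a ∈ A, g * a * g⁻¹ = x * a * x⁻¹ := by
  have h𝓦 : ∀ W' ∈ ({W} : Set (∀ (Q : Type u) [Group Q], Subgroup Q)),
      Cfsg.IsCharPFunctor.{u} p W' := by
    intro W' hW'
    rw [Set.mem_singleton_iff] at hW'
    rw [hW']; exact hW
  obtain ⟨-, g', hch, hag⟩ := gr_of_good h𝓦 S h hA hgA
  have hfam : fam ({W} : Set (∀ (Q : Type u) [Group Q], Subgroup Q)) X =
      {Cfsg.inducedFunctor (G := X) W} := by
    unfold fam
    rw [Set.image_singleton]
  rw [hfam] at hch
  have := hch.mem_normalizer_of_singleton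
  exact ⟨g', this.2, fun a ha => (hag a ha).symm⟩

/-- if `X = N(W₁(S)) N(W₂(S))`, then `{W₁, W₂}` controls strong fusion -/
theorem good_of_factorization {W₁ W₂ : ∀ (Q : Type u) [Group Q], Subgroup Q}
    (hW₁ : Cfsg.IsCharPFunctor.{u} p W₁) (hW₂ : Cfsg.IsCharPFunctor.{u} p W₂)
    {X : Type u} [Group X] [Finite X] (S : Sylow p X)
    (hfac : ∀ x : X, ∃ a ∈ Subgroup.normalizer
        ((Cfsg.inducedFunctor (G := X) W₁ (S : Subgroup X) : Subgroup X) : Set X),
      ∃ b ∈ Subgroup.normalizer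
        ((Cfsg.inducedFunctor (G := X) W₂ (S : Subgroup X) : Subgroup X) : Set X), x = a * b) :
    Good p {W₁, W₂} X := by
  apply good_of_gr S
  intro A x hA hxA
  obtain ⟨a, ha, b, hb, rfl⟩ := hfac x
  set N₁ := Subgroup.normalizer
    ((Cfsg.inducedFunctor (G := X) W₁ (S : Subgroup X) : Subgroup X) : Set X) with hN₁
  set N₂ := Subgroup.normalizer
    ((Cfsg.inducedFunctor (G := X) W₂ (S : Subgroup X) : Subgroup X) : Set X) with hN₂
  have hSN₁ : (S : Subgroup X) ≤ N₁ :=
    (Subgroup.le_normalizer).trans (normalizer_le_normalizer_inducedFunctor hW₁ (S : Subgroup X) S.2)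
  have hSN₂ : (S : Subgroup X) ≤ N₂ :=
    (Subgroup.le_normalizer).trans (normalizer_le_normalizer_inducedFunctor hW₂ (S : Subgroup X) S.2)
  set B := Subgroup.closure A with hB
  have hBS : B ≤ (S : Subgroup X) := (Subgroup.closure_le _).mpr hA
  have h1 : cj b B ≤ N₂ := by
    have h : cj b B ≤ cj b N₂ := cj_mono (hBS.trans hSN₂)
    rwa [cj_of_mem hb] at h
  have h2 : cj b B ≤ N₁ := by
    have h3 : cj (a * b) B ≤ (S : Subgroup X) := cjs_subset_coe_iff.mp hxA
    rw [cj_mul] at h3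
    have h4 := cj_mono (g := a⁻¹) h3
    rw [cj_inv_cj] at h4
    exact h4.trans ((cj_mono hSN₁).trans (le_of_eq (cj_of_mem (inv_mem ha))))
  have hSL : (S : Subgroup X) ≤ N₁ ⊓ N₂ := le_inf hSN₁ hSN₂
  obtain ⟨u, hu, huB⟩ := exists_cj_le_of_relIndex hSL S.2 (not_dvd_relIndex_of_le S hSL)
    (le_inf h2 h1) (isPGroup_cj (S.2.to_le hBS))
  have hubA : cjs (u * b) A ⊆ ((S : Subgroup X) : Set X) := by
    rw [cjs_subset_coe_iff, cj_mul]; exact huB
  have e : a * b = (a * u⁻¹) * (u * b) := by group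
  have hch : WChain (fam {W₁, W₂} X) ⊤ (S : Subgroup X) A ((a * u⁻¹) * (u * b)) := by
    refine WChain.cons A (u * b) (a * u⁻¹) ⟨_, ⟨W₂, by simp, rfl⟩,
      ⟨Subgroup.mem_top _, N₂.mul_mem hu.2 hb⟩⟩ hubA ?_
    refine WChain.single ⟨_, ⟨W₁, by simp, rfl⟩,
      ⟨Subgroup.mem_top _, N₁.mul_mem ha (N₁.inv_mem hu.1)⟩⟩ ?_
    rw [← cjs_mul, ← e]
    exact hxA
  rw [← e] at hch
  exact ⟨hA, a * b, hch, AgreeOn.refl _ _⟩

end Cfsg.Agent.Lib.Helper34_SecFusion





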