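import Mathlib
import Cfsg.Prelude.Def_ConjugacyFunctors
import Cfsg.Prelude.Def_LocalEven
import Cfsg.Agent.Lib.Helper33_WFusion
import Cfsg.Agent.Lib.Helper34_NPC
import Cfsg.Agent.Lib.Helper34_SecFusion
import Cfsg.Agent.Lib.Helper54_FunctorTransfer

/-!
# Triple factorizations and the normal closure of `Ω₁ Z(S)` (helper33)

Material for S1997: the functor `Ω₁ Z`, the closure `AA M Z = ⟨Z^M⟩`, the factorization predicate
`FacZ` and the key equality `⟨Z^{N(W₁(S))}⟩ = ⟨Z^{N(W₂(S))}⟩`.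
-/

set_option autoImplicit false
set_option linter.unusedSectionVars false

universe u

namespace Cfsg.Agent.Lib.Helper33_TripleFac

open Cfsg.Agent.Lib.Helper33_Conj Cfsg.Agent.Lib.Helper33_Alperin
  Cfsg.Agent.Lib.Helper33_WFusion Cfsg.Agent.Lib.Helper34_NPC Cfsg.Agent.Lib.Helper34_SecFusion

/-! ### The functor `Ω₁ Z` -/

/-- the functor `Q ↦ Ω₁(Z(Q))` -/
def Zf (p : ℕ) : ∀ (Q : Type u) [Group Q], Subgroup Q :=
  fun Q _ => Cfsg.omegaOne p (Subgroup.center Q)

theorem omegaOne_map_equiv {p : ℕ} {Q R : Type*} [Group Q] [Group R] (φ : Q ≃* R)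
    (H : Subgroup Q) :
    (Cfsg.omegaOne p H).map φ.toMonoidHom = Cfsg.omegaOne p (H.map φ.toMonoidHom) := by
  unfold Cfsg.omegaOne
  rw [MonoidHom.map_closure]
  congr 1
  ext y
  constructor
  · rintro ⟨x, ⟨hx, hxp⟩, rfl⟩
    refine ⟨⟨x, hx, rfl⟩, ?_⟩
    show (φ x) ^ p = 1
    rw [← map_pow, hxp, map_one]
  · rintro ⟨⟨x, hx, rfl⟩, hxp⟩
    refine ⟨x, ⟨hx, ?_⟩, rfl⟩
    have h1 : φ (x ^ p) = φ 1 := by rw [map_pow, map_one]; exact hxp
    exact φ.injective h1

theorem center_map_equiv {Q R : Type*} [Group Q] [Group R] (φ : Q ≃* R) :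
    (Subgroup.center Q).map φ.toMonoidHom = Subgroup.center R := by
  ext y
  constructor
  · rintro ⟨x, hx, rfl⟩
    rw [SetLike.mem_coe, Subgroup.mem_center_iff] at hx
    rw [Subgroup.mem_center_iff]
    intro r
    obtain ⟨q, rfl⟩ := φ.surjective r
    show φ q * φ x = φ x * φ q
    rw [← map_mul, ← map_mul, hx q]
  · intro hy
    refine ⟨φ.symm y, ?_, by simp⟩
    rw [Subgroup.mem_center_iff] at hy
    rw [SetLike.mem_coe, Subgroup.mem_center_iff]
    intro q
    apply φ.injective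
    rw [map_mul, map_mul]
    simp only [MulEquiv.apply_symm_apply]
    exact hy (φ q)

theorem zf_isCharPFunctor (p : ℕ) [hp : Fact p.Prime] : Cfsg.IsCharPFunctor.{u} p (Zf p) := by
  constructor
  · intro Q _ _ hQ hnt
    have hc : Nontrivial (Subgroup.center Q) := hQ.center_nontrivial
    obtain ⟨z, hz⟩ := exists_ne (1 : Subgroup.center Q)
    have hzc : IsPGroup p (Subgroup.center Q) := hQ.to_subgroup _
    obtain ⟨k, hk⟩ := hzc z
    -- minimal k
    have hex : ∃ k, z ^ p ^ k = 1 := ⟨k, hk⟩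
    classical
    have hspec := Nat.find_spec hex
    set m := Nat.find hex with hm
    have hm0 : m ≠ 0 := by
      intro h0
      rw [h0, pow_zero, pow_one] at hspec
      exact hz hspec
    obtain ⟨j, hj⟩ := Nat.exists_eq_succ_of_ne_zero hm0
    have hne : z ^ p ^ j ≠ 1 := Nat.find_min hex (m := j) (by omega)
    intro hbot
    apply hne
    have hmem : ((z ^ p ^ j : Subgroup.center Q) : Q) ∈ Zf p Q := by
      apply Subgroup.subset_closure
      refine ⟨(z ^ p ^ j).2, ?_⟩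
      have : (z ^ p ^ j) ^ p = 1 := by
        rw [← pow_mul, ← pow_succ, ← Nat.succ_eq_add_one, ← hj]; exact hspec
      have h2 := congrArg (fun y : Subgroup.center Q => (y : Q)) this
      simpa using h2
    rw [hbot, Subgroup.mem_bot] at hmem
    exact Subtype.ext hmem
  · intro Q R _ _ _ hQ φ
    show (Cfsg.omegaOne p (Subgroup.center Q)).map φ.toMonoidHom = Cfsg.omegaOne p (Subgroup.center R)
    rw [omegaOne_map_equiv, center_map_equiv]

/-- the induced functor of `Zf` is `Ω₁ Z(P)` computed in the ambient group -/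
theorem inducedFunctor_zf (p : ℕ) {G : Type u} [Group G] (P : Subgroup G) :
    Cfsg.inducedFunctor (G := G) (Zf p) P =
      Cfsg.omegaOne p (P ⊓ Subgroup.centralizer ((P : Subgroup G) : Set G)) := by
  unfold Cfsg.inducedFunctor Zf Cfsg.omegaOne
  rw [MonoidHom.map_closure]
  congr 1
  ext y
  constructor
  · rintro ⟨x, ⟨hx, hxp⟩, rfl⟩
    refine ⟨?_, ?_⟩
    · rw [Subgroup.mem_inf]
      refine ⟨x.2, ?_⟩
      rw [Subgroup.mem_centralizer_iff]
      intro g hg
      have := (Subgroup.mem_center_iff.mp hx) ⟨g, hg⟩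
      exact congrArg (fun y : P => (y : G)) this
    · have := congrArg (fun y : P => (y : G)) hxp
      simpa using this
  · rintro ⟨hy, hyp⟩
    rw [Subgroup.mem_inf] at hy
    refine ⟨⟨y, hy.1⟩, ⟨?_, ?_⟩, rfl⟩
    · rw [Subgroup.mem_center_iff]
      intro g
      apply Subtype.ext
      exact (Subgroup.mem_centralizer_iff.mp hy.2) g g.2
    · apply Subtype.ext
      simpa using hyp

/-! ### The closure of a subgroup under conjugation by a subgroup -/

section AA

variable {X : Type*} [Group X]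

/-- `⟨Z^M⟩`: the subgroup generated by the `M`-conjugates of `Z` -/
def AA (M Z : Subgroup X) : Subgroup X := ⨆ n : M, cj (n : X) Z

theorem cj_le_AA {M Z : Subgroup X} {n : X} (hn : n ∈ M) : cj n Z ≤ AA M Z :=
  le_iSup (fun n : M => cj (n : X) Z) ⟨n, hn⟩

theorem le_AA (M Z : Subgroup X) : Z ≤ AA M Z := by
  have h := cj_le_AA (Z := Z) (M.one_mem)
  rwa [cj_one] at h

theorem AA_le_iff {M Z B : Subgroup X} : AA M Z ≤ B ↔ ∀ n ∈ M, cj n Z ≤ B := by
  unfold AA
  rw [iSup_le_iff]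
  exact ⟨fun h n hn => h ⟨n, hn⟩, fun h n => h n n.2⟩

theorem AA_mono {M M' Z : Subgroup X} (h : M ≤ M') : AA M Z ≤ AA M' Z :=
  AA_le_iff.mpr fun _ hn => cj_le_AA (h hn)

theorem cj_AA_le {M Z : Subgroup X} {m : X} (hm : m ∈ M) : cj m (AA M Z) ≤ AA M Z := by
  rw [cj_le_iff, AA_le_iff]
  intro n hn
  rw [← cj_le_iff, ← cj_mul]
  exact cj_le_AA (M.mul_mem hm hn)

theorem cj_AA {M Z : Subgroup X} {m : X} (hm : m ∈ M) : cj m (AA M Z) = AA M Z := by
  apply le_antisymm (cj_AA_le hm)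
  have h := cj_AA_le (Z := Z) (M.inv_mem hm)
  rwa [cj_le_iff, inv_inv] at h

theorem le_normalizer_AA (M Z : Subgroup X) : M ≤ Subgroup.normalizer ((AA M Z : Subgroup X) : Set X) :=
  fun _ hm => mem_normalizer_iff_cj.mpr (cj_AA hm)

theorem map_cj {Y : Type*} [Group Y] (f : X →* Y) (g : X) (Z : Subgroup X) :
    (cj g Z).map f = cj (f g) (Z.map f) := by
  ext y
  constructor
  · rintro ⟨_, ⟨z, hz, rfl⟩, rfl⟩
    exact ⟨f z, ⟨z, hz, rfl⟩, by simp⟩
  · rintro ⟨_, ⟨z, hz, rfl⟩, rfl⟩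
    exact ⟨g * z * g⁻¹, ⟨z, hz, by simp⟩, by simp⟩

theorem AA_map {Y : Type*} [Group Y] (f : X →* Y) (M Z : Subgroup X) :
    (AA M Z).map f = AA (M.map f) (Z.map f) := by
  apply le_antisymm
  · rw [Subgroup.map_le_iff_le_comap, AA_le_iff]
    intro n hn
    rw [← Subgroup.map_le_iff_le_comap, map_cj]
    exact cj_le_AA ⟨n, hn, rfl⟩
  · rw [AA_le_iff]
    rintro _ ⟨n, hn, rfl⟩
    rw [← map_cj]
    exact Subgroup.map_mono (cj_le_AA hn)

/-- if every element of `M'` is a product `b * a` with `b ∈ M` and `a` centralizing `Z`, then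
`⟨Z^M'⟩ ≤ ⟨Z^M⟩` -/
theorem AA_le_of_factor {M M' Z : Subgroup X}
    (h : ∀ x ∈ M', ∃ b ∈ M, ∃ a ∈ Subgroup.centralizer ((Z : Subgroup X) : Set X), x = b * a) :
    AA M' Z ≤ AA M Z := by
  rw [AA_le_iff]
  intro x hx
  obtain ⟨b, hb, a, ha, rfl⟩ := h x hx
  rw [cj_mul]
  have h1 : cj a Z = Z := by
    apply mem_normalizer_iff_cj.mp
    exact Subgroup.centralizer_le_normalizer _ ha
  rw [h1]
  exact cj_le_AA hb

/-- `⟨Z^M⟩ ≤ B` when `Z ≤ B` and `M` normalizes `B` -/
theorem AA_le_of_le_normalizer {M Z B : Subgroup X} (hZ : Z ≤ B)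
    (hM : M ≤ Subgroup.normalizer ((B : Subgroup X) : Set X)) : AA M Z ≤ B := by
  rw [AA_le_iff]
  intro n hn
  have h1 : cj n Z ≤ cj n B := cj_mono hZ
  rwa [mem_normalizer_iff_cj.mp (hM hn)] at h1

/-- the normal closure of `Z` in `M`, mapped to the ambient group, is `⟨Z^M⟩` -/
theorem normalClosure_map_subtype (M Z : Subgroup X) (hZM : Z ≤ M) :
    (Subgroup.normalClosure ((Z.subgroupOf M : Subgroup M) : Set M)).map M.subtype = AA M Z := by
  apply le_antisymm
  · rw [Subgroup.map_le_iff_le_comap]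
    have hn : ((AA M Z).comap M.subtype).Normal := by
      constructor
      intro n hn g
      show ((g * n * g⁻¹ : M) : X) ∈ AA M Z
      have h1 : ((g : X) * (n : X) * (g : X)⁻¹) ∈ cj (g : X) (AA M Z) := conj_mem_cj hn
      rw [cj_AA g.2] at h1
      simpa using h1
    apply Subgroup.normalClosure_le_normal (N := (AA M Z).comap M.subtype)
    intro z hz
    exact le_AA M Z hz
  · rw [AA_le_iff]
    intro n hn z hz
    rw [mem_cj] at hz
    have hzM : z ∈ M := by
      have h1 : n⁻¹ * z * n ∈ M := hZM hz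
      have h2 : z = n * (n⁻¹ * z * n) * n⁻¹ := by group
      rw [h2]
      exact M.mul_mem (M.mul_mem hn h1) (M.inv_mem hn)
    refine ⟨⟨z, hzM⟩, ?_, rfl⟩
    have h3 : (⟨n, hn⟩ : M)⁻¹ * ⟨z, hzM⟩ * ⟨n, hn⟩ ∈
        Subgroup.normalClosure ((Z.subgroupOf M : Subgroup M) : Set M) := by
      apply Subgroup.subset_normalClosure
      show ((⟨n, hn⟩ : M)⁻¹ * ⟨z, hzM⟩ * ⟨n, hn⟩ : M) ∈ Z.subgroupOf M
      rw [Subgroup.mem_subgroupOf]
      simpa using hz
    have h4 := (Subgroup.normalClosure_normal (s := ((Z.subgroupOf M : Subgroup M) : Set M))).conj_mem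
      _ h3 ⟨n, hn⟩
    have h5 : (⟨n, hn⟩ : M) * ((⟨n, hn⟩ : M)⁻¹ * ⟨z, hzM⟩ * ⟨n, hn⟩) * (⟨n, hn⟩ : M)⁻¹ = ⟨z, hzM⟩ := by
      group
    rwa [h5] at h4

end AA

/-! ### The factorization predicate -/

section Fac

variable {p : ℕ} {W : ∀ (Q : Type u) [Group Q], Subgroup Q}

/-- `Y = C_Y(Ω₁Z(T)) N_Y(W(T))` for every Sylow `p`-subgroup `T` of `Y` -/
def FacZ (p : ℕ) (W : ∀ (Q : Type u) [Group Q], Subgroup Q) (Y : Type u) [Group Y] : Prop :=
  ∀ T : Sylow p Y, ∀ x : Y,
    ∃ a ∈ Subgroup.centralizer ((Cfsg.omegaOne p ((T : Subgroup Y) ⊓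
        Subgroup.centralizer (((T : Subgroup Y) : Subgroup Y) : Set Y)) : Subgroup Y) : Set Y),
      ∃ b ∈ Subgroup.normalizer
        ((Cfsg.inducedFunctor (G := Y) W (T : Subgroup Y) : Subgroup Y) : Set Y), x = a * b

/-- the factorization in all constrained groups involved in `X` -/
def SecFacZ (p : ℕ) (W : ∀ (Q : Type u) [Group Q], Subgroup Q) (X : Type u) [Group X] : Prop :=
  ∀ (Y : Type u) [Group Y], Cfsg.Involves Y X → Constrained p Y → FacZ p W Y

theorem SecFacZ.of_subgroup {X : Type u} [Group X] (h : SecFacZ p W X) (M : Subgroup X) :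
    SecFacZ p W M :=
  fun Y _ hY => h Y (involves_of_subgroup M hY)

theorem SecFacZ.of_surjective {X X' : Type u} [Group X] [Group X'] (h : SecFacZ p W X)
    (π : X →* X') (hπ : Function.Surjective π) : SecFacZ p W X' :=
  fun Y _ hY => h Y (involves_of_surjective π hπ hY)

theorem map_mem_centralizer {A B : Type*} [Group A] [Group B] (f : A →* B) {H : Subgroup A}
    {a : A} (ha : a ∈ Subgroup.centralizer ((H : Subgroup A) : Set A)) :
    f a ∈ Subgroup.centralizer ((H.map f : Subgroup B) : Set B) := by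
  rw [Subgroup.mem_centralizer_iff]
  rintro _ ⟨h, hh, rfl⟩
  rw [← map_mul, ← map_mul, Subgroup.mem_centralizer_iff.mp ha h hh]

theorem map_mem_normalizer {A B : Type*} [Group A] [Group B] (f : A →* B) {H : Subgroup A}
    {a : A} (ha : a ∈ Subgroup.normalizer ((H : Subgroup A) : Set A)) :
    f a ∈ Subgroup.normalizer ((H.map f : Subgroup B) : Set B) :=
  Subgroup.le_normalizer_map f ⟨a, ha, rfl⟩

variable [Fact p.Prime]

theorem FacZ.of_equiv (hW : Cfsg.IsCharPFunctor.{u} p W) {Q Y : Type u} [Group Q] [Group Y]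
    [Finite Q] (e : Q ≃* Y) (h : FacZ p W Q) : FacZ p W Y := by
  intro T x
  obtain ⟨T', hT'⟩ : ∃ T' : Sylow p Q, T' = T.comapOfInjective e.toMonoidHom e.injective
    (by intro x _; exact ⟨e.symm x, by simp⟩) := ⟨_, rfl⟩
  have hT'coe : (T' : Subgroup Q) = (T : Subgroup Y).comap e.toMonoidHom := by
    rw [hT']; exact Sylow.coe_comapOfInjective _ _ _ _
  have hmap : (T' : Subgroup Q).map e.toMonoidHom = (T : Subgroup Y) := by
    rw [hT'coe]
    exact Subgroup.map_comap_eq_self_of_surjective e.surjective _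
  have hinj : ∀ x ∈ (T' : Subgroup Q), e.toMonoidHom x = 1 → x = 1 := fun x _ hx => by
    have : e x = e 1 := by rw [map_one]; exact hx
    exact e.injective this
  have hfW := inducedFunctor_map hW e.toMonoidHom (T' : Subgroup Q) T'.2 hinj
  have hfZ := inducedFunctor_map (zf_isCharPFunctor p) e.toMonoidHom (T' : Subgroup Q) T'.2 hinj
  rw [hmap] at hfW hfZ
  obtain ⟨a, ha, b, hb, hx⟩ := h T' (e.symm x)
  rw [← inducedFunctor_zf] at ha ⊢
  refine ⟨e a, ?_, e b, ?_, ?_⟩
  · rw [hfZ]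
    exact map_mem_centralizer e.toMonoidHom ha
  · rw [hfW]
    exact map_mem_normalizer e.toMonoidHom hb
  · rw [← map_mul, ← hx]; simp

/-- the section hypothesis, from its form in terms of sections `K/R` -/
theorem secFacZ_of_sections (hW : Cfsg.IsCharPFunctor.{u} p W) {G : Type u} [Group G] [Finite G]
    (hloc : ∀ (K R : Subgroup G) [hR : (R.subgroupOf K).Normal],
      Constrained p (↥K ⧸ R.subgroupOf K) → FacZ p W (↥K ⧸ R.subgroupOf K)) :
    SecFacZ p W G := by
  intro Y _ hY hcon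
  obtain ⟨K, R, hn, ⟨e⟩⟩ := hY
  exact FacZ.of_equiv hW e (hloc K R (Constrained.of_equiv e hcon))

end Fac

/-! ### Transport to subgroups and to quotients by normal `p'`-subgroups -/

section Transport

variable {p : ℕ} [Fact p.Prime] {W : ∀ (Q : Type u) [Group Q], Subgroup Q}

/-- `⟨Z^{N(W(S))}⟩` for a `p`-subgroup `S` -/
def AW (p : ℕ) (W : ∀ (Q : Type u) [Group Q], Subgroup Q) {X : Type u} [Group X]
    (M S : Subgroup X) : Subgroup X :=
  AA (M ⊓ Subgroup.normalizer ((Cfsg.inducedFunctor (G := X) W S : Subgroup X) : Set X))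
    (Cfsg.inducedFunctor (G := X) (Zf p) S)

theorem map_normalizer_subtype {X : Type*} [Group X] (M : Subgroup X) (V' : Subgroup M) :
    (Subgroup.normalizer ((V' : Subgroup M) : Set M)).map M.subtype =
      M ⊓ Subgroup.normalizer ((V'.map M.subtype : Subgroup X) : Set X) := by
  have h1 : V' = (V'.map M.subtype).subgroupOf M :=
    (Subgroup.comap_map_eq_self_of_injective M.subtype_injective V').symm
  have h2 : V'.map M.subtype ≤ M := Subgroup.map_subtype_le V'
  conv_lhs => rw [h1]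
  rw [← Subgroup.subgroupOf_normalizer_eq h2, Subgroup.subgroupOf_map_subtype, inf_comm]

theorem AW_subtype (hW : Cfsg.IsCharPFunctor.{u} p W) {X : Type u} [Group X] [Finite X]
    (S : Sylow p X) (M : Subgroup X) (hSM : (S : Subgroup X) ≤ M) :
    (AW p W ⊤ ((S.subtype hSM : Sylow p M) : Subgroup M)).map M.subtype =
      AW p W M (S : Subgroup X) := by
  have hcoe : ((S.subtype hSM : Sylow p M) : Subgroup M).map M.subtype = (S : Subgroup X) := by
    rw [Sylow.coe_subtype]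
    exact Subgroup.map_subgroupOf_eq_of_le hSM
  have hinj : ∀ x ∈ ((S.subtype hSM : Sylow p M) : Subgroup M), M.subtype x = 1 → x = 1 :=
    fun x _ hx => M.subtype_injective (by rw [hx, map_one])
  have hfW := inducedFunctor_map hW M.subtype ((S.subtype hSM : Sylow p M) : Subgroup M)
    (S.subtype hSM).2 hinj
  have hfZ := inducedFunctor_map (zf_isCharPFunctor p) M.subtype
    ((S.subtype hSM : Sylow p M) : Subgroup M) (S.subtype hSM).2 hinj
  rw [hcoe] at hfW hfZ
  unfold AW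
  rw [AA_map, top_inf_eq, map_normalizer_subtype, ← hfW, ← hfZ]

theorem AW_quotient (hW : Cfsg.IsCharPFunctor.{u} p W) {X : Type u} [Group X] [Finite X]
    (S : Sylow p X) (K : Subgroup X) [K.Normal] (hK : (Nat.card K).Coprime p) :
    (AW p W ⊤ (S : Subgroup X)).map (QuotientGroup.mk' K) =
      AW p W ⊤ ((S : Subgroup X).map (QuotientGroup.mk' K)) := by
  have hinj : ∀ x ∈ (S : Subgroup X), QuotientGroup.mk' K x = 1 → x = 1 := by
    intro x hxS hx
    have hxK : x ∈ K := by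
      rw [← QuotientGroup.ker_mk' K]; exact hx
    have h1 : orderOf x ∣ Nat.card K := by
      have := orderOf_dvd_natCard (⟨x, hxK⟩ : K)
      rwa [Subgroup.orderOf_mk] at this
    obtain ⟨k, hk⟩ := (IsPGroup.iff_orderOf.mp S.2) ⟨x, hxS⟩
    rw [Subgroup.orderOf_mk] at hk
    have h2 : orderOf x ∣ p ^ k := hk ▸ dvd_rfl
    have h3 : (Nat.card K).Coprime (p ^ k) := Nat.Coprime.pow_right k hK
    have h4 : orderOf x = 1 := Nat.eq_one_of_dvd_coprimes h3 h1 h2
    exact orderOf_eq_one_iff.mp h4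
  have hfW := inducedFunctor_map hW (QuotientGroup.mk' K) (S : Subgroup X) S.2 hinj
  have hfZ := inducedFunctor_map (zf_isCharPFunctor p) (QuotientGroup.mk' K) (S : Subgroup X) S.2 hinj
  have hWp : IsPGroup p (Cfsg.inducedFunctor (G := X) W (S : Subgroup X)) :=
    S.2.to_le (inducedFunctor_le W _)
  unfold AW
  rw [AA_map, top_inf_eq, top_inf_eq, map_normalizer_eq_of_coprime K hK _ hWp, ← hfW, ← hfZ]

end Transport

/-! ### The one-sided step -/

section OneSided

variable {p : ℕ} [Fact p.Prime] {W W' : ∀ (Q : Type u) [Group Q], Subgroup Q}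

theorem mem_normalizer_of_cj_le' {X : Type*} [Group X] [Finite X] {x : X} {H : Subgroup X}
    (h : cj x H ≤ H) : x ∈ Subgroup.normalizer ((H : Subgroup X) : Set X) := by
  rw [mem_normalizer_iff_cj]
  exact Subgroup.eq_of_le_of_card_ge h (by rw [card_cj])

/-- Frattini argument for `S ∩ N`, `N` normal -/
theorem frattini_inf {X : Type*} [Group X] [Finite X] (S : Sylow p X) (N : Subgroup X)
    [hN : N.Normal] (x : X) :
    ∃ g ∈ Subgroup.normalizer (((S : Subgroup X) ⊓ N : Subgroup X) : Set X), ∃ y ∈ N, x = g * y := by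
  have hidx : ¬ p ∣ ((S : Subgroup X) ⊓ N).relIndex N := by
    rw [Cfsg.Agent.Lib.Helper32_Sylow.relIndex_inf_of_normal]
    intro h
    exact S.not_dvd_index (h.trans (Subgroup.relIndex_dvd_index_of_le le_sup_left))
  have hU : cj x⁻¹ ((S : Subgroup X) ⊓ N) ≤ N := by
    have h1 : cj x⁻¹ ((S : Subgroup X) ⊓ N) ≤ cj x⁻¹ N := cj_mono inf_le_right
    rwa [cj_of_normal N] at h1
  obtain ⟨h, hh, hle⟩ := exists_cj_le_of_relIndex (p := p) (inf_le_right : (S : Subgroup X) ⊓ N ≤ N)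
    (S.2.to_le inf_le_left) hidx hU (isPGroup_cj (S.2.to_le inf_le_left))
  rw [← cj_mul] at hle
  have hg := mem_normalizer_of_cj_le' hle
  refine ⟨(h * x⁻¹)⁻¹, Subgroup.inv_mem _ hg, h, hh, ?_⟩
  group

theorem AW_le_functor {X : Type u} [Group X] {M S : Subgroup X}
    (hZ : Cfsg.inducedFunctor (G := X) (Zf p) S ≤ Cfsg.inducedFunctor (G := X) W S) :
    AW p W M S ≤ Cfsg.inducedFunctor (G := X) W S :=
  AA_le_of_le_normalizer hZ inf_le_right

theorem AW_mono {X : Type u} [Group X] {M M' S : Subgroup X} (h : M ≤ M') :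
    AW p W M S ≤ AW p W M' S :=
  AA_mono (inf_le_inf_right _ h)

theorem one_sided {X : Type u} [Group X] [Finite X] (S : Sylow p X)
    (IH : ∀ M : Subgroup X, (S : Subgroup X) ≤ M → M ≠ ⊤ →
      AW p W M (S : Subgroup X) = AW p W' M (S : Subgroup X))
    (hK : Cfsg.pPrimeCore p X = ⊥)
    (hfac : Constrained p X → FacZ p W X)
    (hZ' : Cfsg.inducedFunctor (G := X) (Zf p) (S : Subgroup X) ≤
      Cfsg.inducedFunctor (G := X) W' (S : Subgroup X))
    (hn : Subgroup.normalizer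
      ((Cfsg.inducedFunctor (G := X) W' (S : Subgroup X) : Subgroup X) : Set X) = ⊤) :
    AW p W' ⊤ (S : Subgroup X) ≤ AW p W ⊤ (S : Subgroup X) := by
  obtain ⟨Z, hZdef⟩ : ∃ Z, Z = Cfsg.inducedFunctor (G := X) (Zf p) (S : Subgroup X) := ⟨_, rfl⟩
  have hAW' : ∀ M : Subgroup X, AW p W' M (S : Subgroup X) = AA M Z := by
    intro M
    unfold AW
    rw [hn, inf_top_eq, hZdef]
  by_cases hcon : Constrained p X
  · have hf := hfac hcon S
    rw [hAW' ⊤]
    unfold AW
    rw [top_inf_eq, ← hZdef]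
    apply AA_le_of_factor
    intro x _
    obtain ⟨a, ha, b, hb, hx⟩ := hf x⁻¹
    rw [← inducedFunctor_zf, ← hZdef] at ha
    refine ⟨b⁻¹, Subgroup.inv_mem _ hb, a⁻¹, Subgroup.inv_mem _ ha, ?_⟩
    rw [← mul_inv_rev, ← hx, inv_inv]
  · -- the non-constrained case
    obtain ⟨Q, hQdef⟩ : ∃ Q, Q = Cfsg.pCore p X := ⟨_, rfl⟩
    have hQn : Q.Normal := hQdef ▸ Cfsg.Agent.Lib.Helper1_Cores.pCore_normal p
    have hW'n : (Cfsg.inducedFunctor (G := X) W' (S : Subgroup X)).Normal :=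
      Subgroup.normalizer_eq_top_iff.mp hn
    have hW'Q : Cfsg.inducedFunctor (G := X) W' (S : Subgroup X) ≤ Q := by
      rw [hQdef]
      exact Cfsg.Agent.Lib.Helper1_Cores.le_pCore hW'n (S.2.to_le (inducedFunctor_le W' _))
    have hZQ : Z ≤ Q := hZdef ▸ hZ'.trans hW'Q
    obtain ⟨C, hCdef⟩ : ∃ C, C = Subgroup.centralizer ((Q : Subgroup X) : Set X) := ⟨_, rfl⟩
    have hCn : C.Normal := hCdef ▸ Subgroup.normal_centralizer
    have hCZ : C ≤ Subgroup.centralizer ((Z : Subgroup X) : Set X) := by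
      rw [hCdef]
      exact Subgroup.centralizer_le hZQ
    have hQS : Q ≤ (S : Subgroup X) := hQdef ▸ Cfsg.Agent.Lib.Helper1_Cores.pCore_le_sylow p S
    have hQCn : (Q ⊔ C).Normal := Subgroup.sup_normal Q C
    obtain ⟨G₁, hG₁def⟩ : ∃ G₁, G₁ = Subgroup.normalizer
      ((((S : Subgroup X) ⊓ (Q ⊔ C) : Subgroup X)) : Set X) := ⟨_, rfl⟩
    have hQG₁ : Q ≤ G₁ := by
      rw [hG₁def]
      exact (le_inf hQS le_sup_left).trans Subgroup.le_normalizer
    have hSG₁ : (S : Subgroup X) ≤ G₁ := by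
      intro s hs
      rw [hG₁def, mem_normalizer_iff_cj, cj_inf, cj_of_mem hs, cj_of_normal]
    -- factorization `X = G₁ C`
    have hfr : ∀ x ∈ (⊤ : Subgroup X), ∃ b ∈ G₁, ∃ a ∈ Subgroup.centralizer ((Z : Subgroup X) : Set X),
        x = b * a := by
      intro x _
      obtain ⟨g, hg, y, hy, hx⟩ := frattini_inf S (Q ⊔ C) x
      rw [← hG₁def] at hg
      have hy' : y ∈ ((Q ⊔ C : Subgroup X) : Set X) := hy
      rw [Subgroup.mul_normal Q C] at hy'
      obtain ⟨q, hq, c, hc, hqc⟩ := hy'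
      refine ⟨g * q, G₁.mul_mem hg (hQG₁ hq), c, hCZ hc, ?_⟩
      rw [hx, ← hqc, mul_assoc]
    have h1 : AA ⊤ Z ≤ AA G₁ Z := AA_le_of_factor hfr
    by_cases hG₁ : G₁ = ⊤
    · exfalso
      apply hcon
      have hQ₁n : ((S : Subgroup X) ⊓ (Q ⊔ C)).Normal := by
        rw [← Subgroup.normalizer_eq_top_iff, ← hG₁def]; exact hG₁
      have hQ₁Q : (S : Subgroup X) ⊓ (Q ⊔ C) ≤ Q := by
        have h := Cfsg.Agent.Lib.Helper1_Cores.le_pCore hQ₁n (S.2.to_le inf_le_left)
        rwa [← hQdef] at h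
      apply Cfsg.Agent.Lib.Helper54_FunctorTransfer.centralizer_le_pCore_of_inf_le S hK
      rw [← hQdef, ← hCdef]
      exact (inf_le_inf_left _ le_sup_right).trans hQ₁Q
    · have h2 := IH G₁ hSG₁ hG₁
      rw [hAW' ⊤]
      rw [hAW' G₁] at h2
      calc AA ⊤ Z ≤ AA G₁ Z := h1
        _ = AW p W G₁ (S : Subgroup X) := h2.symm
        _ ≤ AW p W ⊤ (S : Subgroup X) := AW_mono le_top

end OneSided

/-! ### The key equality -/

section Key

variable {p : ℕ} [Fact p.Prime] {W₁ W₂ : ∀ (Q : Type u) [Group Q], Subgroup Q}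

theorem eq_of_map_eq_of_le {X Y : Type*} [Group X] [Group Y] (f : X →* Y) {S A B : Subgroup X}
    (hinj : ∀ x ∈ S, f x = 1 → x = 1) (hA : A ≤ S) (hB : B ≤ S) (h : A.map f = B.map f) :
    A = B := by
  have key : ∀ {A B : Subgroup X}, A ≤ S → B ≤ S → A.map f = B.map f → A ≤ B := by
    intro A B hA hB h a ha
    have h1 : f a ∈ B.map f := h ▸ ⟨a, ha, rfl⟩
    obtain ⟨b, hb, hba⟩ := h1
    have h2 : b⁻¹ * a = 1 := by
      apply hinj _ (S.mul_mem (S.inv_mem (hB hb)) (hA ha))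
      rw [map_mul, map_inv, hba, inv_mul_cancel]
    have h3 : a = b := by
      rw [← mul_one b, ← h2]; group
    rw [h3]; exact hb
  exact le_antisymm (key hA hB h) (key hB hA h.symm)

theorem key (hW₁ : Cfsg.IsCharPFunctor.{u} p W₁) (hW₂ : Cfsg.IsCharPFunctor.{u} p W₂) :
    ∀ n : ℕ, ∀ (X : Type u) [Group X] [Finite X], Nat.card X = n →
      SecFacZ p W₁ X → SecFacZ p W₂ X → ∀ S : Sylow p X,
      Cfsg.inducedFunctor (G := X) (Zf p) (S : Subgroup X) ≤
        Cfsg.inducedFunctor (G := X) W₁ (S : Subgroup X) →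
      Cfsg.inducedFunctor (G := X) (Zf p) (S : Subgroup X) ≤
        Cfsg.inducedFunctor (G := X) W₂ (S : Subgroup X) →
      AW p W₁ ⊤ (S : Subgroup X) = AW p W₂ ⊤ (S : Subgroup X) := by
  intro n
  induction n using Nat.strong_induction_on with
  | _ n ih =>
  intro X _ _ hn h1 h2 S hZ1 hZ2
  -- the induction hypothesis for subgroups
  have IH : ∀ M : Subgroup X, (S : Subgroup X) ≤ M → M ≠ ⊤ →
      AW p W₁ M (S : Subgroup X) = AW p W₂ M (S : Subgroup X) := by
    intro M hSM hM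
    have hlt : Nat.card M < n := hn ▸ card_lt_of_ne_top hM
    have hcoe : ((S.subtype hSM : Sylow p M) : Subgroup M).map M.subtype = (S : Subgroup X) := by
      rw [Sylow.coe_subtype]
      exact Subgroup.map_subgroupOf_eq_of_le hSM
    have hinj : ∀ x ∈ ((S.subtype hSM : Sylow p M) : Subgroup M), M.subtype x = 1 → x = 1 :=
      fun x _ hx => M.subtype_injective (by rw [hx, map_one])
    have hfZ := inducedFunctor_map (zf_isCharPFunctor p) M.subtype
      ((S.subtype hSM : Sylow p M) : Subgroup M) (S.subtype hSM).2 hinj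
    have hf1 := inducedFunctor_map hW₁ M.subtype ((S.subtype hSM : Sylow p M) : Subgroup M)
      (S.subtype hSM).2 hinj
    have hf2 := inducedFunctor_map hW₂ M.subtype ((S.subtype hSM : Sylow p M) : Subgroup M)
      (S.subtype hSM).2 hinj
    rw [hcoe] at hfZ hf1 hf2
    have hZ1' : Cfsg.inducedFunctor (G := M) (Zf p) ((S.subtype hSM : Sylow p M) : Subgroup M) ≤
        Cfsg.inducedFunctor (G := M) W₁ ((S.subtype hSM : Sylow p M) : Subgroup M) := by
      rw [← Subgroup.map_le_map_iff_of_injective M.subtype_injective, ← hfZ, ← hf1]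
      exact hZ1
    have hZ2' : Cfsg.inducedFunctor (G := M) (Zf p) ((S.subtype hSM : Sylow p M) : Subgroup M) ≤
        Cfsg.inducedFunctor (G := M) W₂ ((S.subtype hSM : Sylow p M) : Subgroup M) := by
      rw [← Subgroup.map_le_map_iff_of_injective M.subtype_injective, ← hfZ, ← hf2]
      exact hZ2
    have h := ih (Nat.card M) hlt M rfl (h1.of_subgroup M) (h2.of_subgroup M) (S.subtype hSM)
      hZ1' hZ2'
    rw [← AW_subtype hW₁ S M hSM, ← AW_subtype hW₂ S M hSM, h]
  have hSN₁ : (S : Subgroup X) ≤ Subgroup.normalizer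
      ((Cfsg.inducedFunctor (G := X) W₁ (S : Subgroup X) : Subgroup X) : Set X) :=
    Subgroup.le_normalizer.trans (normalizer_le_normalizer_inducedFunctor hW₁ (S : Subgroup X) S.2)
  have hSN₂ : (S : Subgroup X) ≤ Subgroup.normalizer
      ((Cfsg.inducedFunctor (G := X) W₂ (S : Subgroup X) : Subgroup X) : Set X) :=
    Subgroup.le_normalizer.trans (normalizer_le_normalizer_inducedFunctor hW₂ (S : Subgroup X) S.2)
  by_cases hK : Cfsg.pPrimeCore p X = ⊥
  · by_cases hn1 : Subgroup.normalizer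
        ((Cfsg.inducedFunctor (G := X) W₁ (S : Subgroup X) : Subgroup X) : Set X) = ⊤
    · apply le_antisymm
      · exact one_sided S (fun M h h' => (IH M h h').symm) hK
          (fun hc => h2 X (involves_self X) hc) hZ1 hn1
      · have : AW p W₁ ⊤ (S : Subgroup X) =
            AA ⊤ (Cfsg.inducedFunctor (G := X) (Zf p) (S : Subgroup X)) := by
          unfold AW; rw [hn1, inf_top_eq]
        rw [this]
        exact AA_mono le_top
    · by_cases hn2 : Subgroup.normalizer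
          ((Cfsg.inducedFunctor (G := X) W₂ (S : Subgroup X) : Subgroup X) : Set X) = ⊤
      · apply le_antisymm
        · have : AW p W₂ ⊤ (S : Subgroup X) =
              AA ⊤ (Cfsg.inducedFunctor (G := X) (Zf p) (S : Subgroup X)) := by
            unfold AW; rw [hn2, inf_top_eq]
          rw [this]
          exact AA_mono le_top
        · exact one_sided S IH hK (fun hc => h1 X (involves_self X) hc) hZ2 hn2
      · have e1 := IH _ hSN₁ hn1
        have e2 := IH _ hSN₂ hn2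
        unfold AW at e1 e2 ⊢
        rw [inf_idem] at e1 e2
        rw [top_inf_eq, top_inf_eq, e1, ← e2, inf_comm]
  · -- pass to the quotient by `O_{p'}(X)`
    obtain ⟨K, hKdef⟩ : ∃ K, K = Cfsg.pPrimeCore p X := ⟨_, rfl⟩
    have hKn : K.Normal := hKdef ▸ Cfsg.Agent.Lib.Helper1_Cores.pPrimeCore_normal p
    have hKc : (Nat.card K).Coprime p := hKdef ▸ Cfsg.Agent.Lib.Helper1_Cores.pPrimeCore_card_coprime p
    have hKne : K ≠ ⊥ := hKdef ▸ hK
    have hlt : Nat.card (X ⧸ K) < n := hn ▸ card_quotient_lt hKne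
    have hsurj := QuotientGroup.mk'_surjective K
    have hinj : ∀ x ∈ (S : Subgroup X), QuotientGroup.mk' K x = 1 → x = 1 := by
      intro x hxS hx
      have hxK : x ∈ K := by
        rw [← QuotientGroup.ker_mk' K]; exact hx
      have h1 : orderOf x ∣ Nat.card K := by
        have := orderOf_dvd_natCard (⟨x, hxK⟩ : K)
        rwa [Subgroup.orderOf_mk] at this
      obtain ⟨k, hk⟩ := (IsPGroup.iff_orderOf.mp S.2) ⟨x, hxS⟩
      rw [Subgroup.orderOf_mk] at hk
      have h2 : orderOf x ∣ p ^ k := hk ▸ dvd_rfl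
      have h3 : (Nat.card K).Coprime (p ^ k) := Nat.Coprime.pow_right k hKc
      have h4 : orderOf x = 1 := Nat.eq_one_of_dvd_coprimes h3 h1 h2
      exact orderOf_eq_one_iff.mp h4
    have hfZ := inducedFunctor_map (zf_isCharPFunctor p) (QuotientGroup.mk' K) (S : Subgroup X) S.2 hinj
    have hf1 := inducedFunctor_map hW₁ (QuotientGroup.mk' K) (S : Subgroup X) S.2 hinj
    have hf2 := inducedFunctor_map hW₂ (QuotientGroup.mk' K) (S : Subgroup X) S.2 hinj
    have h := ih _ hlt (X ⧸ K) rfl (h1.of_surjective _ hsurj) (h2.of_surjective _ hsurj)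
      (S.mapSurjective hsurj)
      (by rw [Sylow.coe_mapSurjective, hfZ, hf1]; exact Subgroup.map_mono hZ1)
      (by rw [Sylow.coe_mapSurjective, hfZ, hf2]; exact Subgroup.map_mono hZ2)
    rw [Sylow.coe_mapSurjective, ← AW_quotient hW₁ S K hKc, ← AW_quotient hW₂ S K hKc] at h
    exact eq_of_map_eq_of_le (QuotientGroup.mk' K) hinj
      ((AW_le_functor hZ1).trans (inducedFunctor_le W₁ _))
      ((AW_le_functor hZ2).trans (inducedFunctor_le W₂ _)) h

end Key

/-! ### The conclusion -/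

section Final

variable {p : ℕ} [Fact p.Prime] {W₁ W₂ : ∀ (Q : Type u) [Group Q], Subgroup Q}

theorem wchain_mem_of_le {X : Type*} [Group X] {𝓥 : Set (Subgroup X → Subgroup X)}
    {H T M : Subgroup X} {A : Set X} {g : X} (h : WChain 𝓥 H T A g)
    (hM : ∀ W ∈ 𝓥, Subgroup.normalizer ((W T : Subgroup X) : Set X) ≤ M) : g ∈ M := by
  induction h with
  | nil A => exact M.one_mem
  | cons A y g hy _ _ ih =>
    obtain ⟨W, hW, hyH⟩ := hy
    exact M.mul_mem ih (hM W hW hyH.2)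

/-- `⟨Z^M⟩` is elementary abelian when `Z = Ω₁Z(S) ≤ B ≤ S` and `M` normalizes `B` -/
theorem AA_isElementaryAbelian {X : Type u} [Group X] (S M B : Subgroup X)
    (hBS : B ≤ S) (hZB : Cfsg.inducedFunctor (G := X) (Zf p) S ≤ B)
    (hM : M ≤ Subgroup.normalizer ((B : Subgroup X) : Set X)) :
    Cfsg.IsElementaryAbelian p (AA M (Cfsg.inducedFunctor (G := X) (Zf p) S)) := by
  obtain ⟨Z, hZdef⟩ : ∃ Z, Z = Cfsg.inducedFunctor (G := X) (Zf p) S := ⟨_, rfl⟩
  rw [← hZdef] at hZB ⊢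
  have hAB : AA M Z ≤ B := AA_le_of_le_normalizer hZB hM
  have hZc : Z ≤ Subgroup.centralizer ((S : Subgroup X) : Set X) := by
    rw [hZdef, inducedFunctor_zf]
    unfold Cfsg.omegaOne
    rw [Subgroup.closure_le]
    rintro x ⟨hx, -⟩
    exact (Subgroup.mem_inf.mp hx).2
  -- `A` is abelian
  have hcent : AA M Z ≤ Subgroup.centralizer ((AA M Z : Subgroup X) : Set X) := by
    rw [AA_le_iff]
    intro n hn
    calc cj n Z ≤ cj n (Subgroup.centralizer ((S : Subgroup X) : Set X)) := cj_mono hZc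
      _ = Subgroup.centralizer ((cj n S : Subgroup X) : Set X) := cj_centralizer n S
      _ ≤ Subgroup.centralizer ((cj n B : Subgroup X) : Set X) :=
        Subgroup.centralizer_le (cj_mono hBS)
      _ = Subgroup.centralizer ((B : Subgroup X) : Set X) := by
        rw [mem_normalizer_iff_cj.mp (hM hn)]
      _ ≤ Subgroup.centralizer ((AA M Z : Subgroup X) : Set X) := Subgroup.centralizer_le hAB
  have hcomm : ∀ a ∈ AA M Z, ∀ b ∈ AA M Z, a * b = b * a := fun a ha b hb =>
    (Subgroup.mem_centralizer_iff.mp (hcent hb) a ha)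
  refine ⟨⟨⟨fun a b => Subtype.ext (hcomm a a.2 b b.2)⟩⟩, ?_⟩
  -- exponent `p`
  obtain ⟨E, hE⟩ : ∃ E : Subgroup X, ∀ x, x ∈ E ↔ x ∈ AA M Z ∧ x ^ p = 1 := by
    refine ⟨{ carrier := {x | x ∈ AA M Z ∧ x ^ p = 1}
              mul_mem' := ?_
              one_mem' := ⟨Subgroup.one_mem _, one_pow _⟩
              inv_mem' := ?_ }, fun x => Iff.rfl⟩
    · rintro a b ⟨ha, hap⟩ ⟨hb, hbp⟩
      refine ⟨Subgroup.mul_mem _ ha hb, ?_⟩
      have hc : Commute a b := hcomm a ha b hb
      rw [hc.mul_pow, hap, hbp, one_mul]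
    · rintro a ⟨ha, hap⟩
      exact ⟨Subgroup.inv_mem _ ha, by rw [inv_pow, hap, inv_one]⟩
  have hle : AA M Z ≤ E := by
    rw [AA_le_iff]
    intro n hn
    rw [cj_le_iff, hZdef, inducedFunctor_zf]
    unfold Cfsg.omegaOne
    rw [Subgroup.closure_le]
    rintro x ⟨hx, hxp⟩
    show x ∈ cj n⁻¹ E
    rw [mem_cj, inv_inv, hE]
    constructor
    · have h1 : x ∈ Z := by
        rw [hZdef, inducedFunctor_zf]
        exact Subgroup.subset_closure ⟨hx, hxp⟩
      exact cj_le_AA hn (conj_mem_cj h1)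
    · rw [conj_pow, hxp]; group
  intro a ha
  exact ((hE a).mp (hle ha)).2

theorem AW_top {W : ∀ (Q : Type u) [Group Q], Subgroup Q} {X : Type u} [Group X]
    (S : Subgroup X) :
    AW p W ⊤ S = AA (Subgroup.normalizer ((Cfsg.inducedFunctor (G := X) W S : Subgroup X) : Set X))
      (Cfsg.inducedFunctor (G := X) (Zf p) S) := by
  unfold AW
  rw [top_inf_eq]

theorem final (hW₁ : Cfsg.IsCharPFunctor.{u} p W₁) (hW₂ : Cfsg.IsCharPFunctor.{u} p W₂)
    {G : Type u} [Group G] [Finite G] (S : Sylow p G)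
    (hgood : Good p {W₁, W₂} G) (h1 : SecFacZ p W₁ G) (h2 : SecFacZ p W₂ G)
    (hZ1 : Cfsg.inducedFunctor (G := G) (Zf p) (S : Subgroup G) ≤
      Cfsg.inducedFunctor (G := G) W₁ (S : Subgroup G))
    (hZ2 : Cfsg.inducedFunctor (G := G) (Zf p) (S : Subgroup G) ≤
      Cfsg.inducedFunctor (G := G) W₂ (S : Subgroup G)) :
    AW p W₁ ⊤ (S : Subgroup G) ≤ (S : Subgroup G) ∧
      Cfsg.IsElementaryAbelian p (AW p W₁ ⊤ (S : Subgroup G)) ∧
      Cfsg.IsStronglyClosed (AW p W₁ ⊤ (S : Subgroup G)) (S : Subgroup G) ∧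
      Cfsg.ControlsStrongFusion p (AW p W₁ ⊤ (S : Subgroup G)) := by
  have hkey := key hW₁ hW₂ _ G rfl h1 h2 S hZ1 hZ2
  have hAS : AW p W₁ ⊤ (S : Subgroup G) ≤ (S : Subgroup G) :=
    (AW_le_functor hZ1).trans (inducedFunctor_le W₁ _)
  have h𝓦 : ∀ W' ∈ ({W₁, W₂} : Set (∀ (Q : Type u) [Group Q], Subgroup Q)),
      Cfsg.IsCharPFunctor.{u} p W' := by
    intro W' hW'
    rcases hW' with h | h
    · rw [h]; exact hW₁
    · rw [Set.mem_singleton_iff] at h
      rw [h]; exact hW₂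
  -- both normalizers normalize `A`
  have hN : ∀ W ∈ fam ({W₁, W₂} : Set (∀ (Q : Type u) [Group Q], Subgroup Q)) G,
      Subgroup.normalizer ((W (S : Subgroup G) : Subgroup G) : Set G) ≤
        Subgroup.normalizer ((AW p W₁ ⊤ (S : Subgroup G) : Subgroup G) : Set G) := by
    rintro _ ⟨W, hW, rfl⟩
    rcases hW with h | h
    · rw [h, AW_top]
      exact le_normalizer_AA _ _
    · rw [Set.mem_singleton_iff] at h
      rw [h, hkey, AW_top]
      exact le_normalizer_AA _ _
  -- control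
  have hctl : ∀ (A' : Set G) (g : G), A' ⊆ ((S : Subgroup G) : Set G) →
      (fun a => g * a * g⁻¹) '' A' ⊆ ((S : Subgroup G) : Set G) →
      ∃ x ∈ Subgroup.normalizer ((AW p W₁ ⊤ (S : Subgroup G) : Subgroup G) : Set G),
        ∀ a ∈ A', g * a * g⁻¹ = x * a * x⁻¹ := by
    intro A' g hA' hgA'
    obtain ⟨-, g', hch, hag⟩ := gr_of_good h𝓦 S hgood hA' hgA'
    exact ⟨g', wchain_mem_of_le hch hN, fun a ha => (hag a ha).symm⟩
  refine ⟨hAS, ?_, ⟨hAS, ?_⟩, ⟨S, hAS, ?_⟩⟩
  · unfold AW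
    exact AA_isElementaryAbelian (S : Subgroup G) _ _ (inducedFunctor_le W₁ _) hZ1 inf_le_right
  · intro x hx g hgx
    obtain ⟨n, hn, hag⟩ := hctl {x} g (by
      rw [Set.singleton_subset_iff]; exact hAS hx) (by
      rw [Set.image_singleton, Set.singleton_subset_iff]; exact hgx)
    rw [hag x rfl]
    have h3 : n * x * n⁻¹ ∈ cj n (AW p W₁ ⊤ (S : Subgroup G)) := conj_mem_cj hx
    rwa [mem_normalizer_iff_cj.mp hn] at h3
  · intro A' hA'
    exact ⟨hA', fun g hg => hctl A' g hA' hg⟩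

end Final

end Cfsg.Agent.Lib.Helper33_TripleFac
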