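import Mathlib
import Cfsg.Agent.Lib.Helper33_U2Defs

/-!
# S2153 package S2 (helper53; architect helper33, finding 179)

`S2`: STEP 2 (covering count on `Fix(t)`): in a `Q_v`-datum `D` with `|W| = 4^d`, `K` transitive
on the nonzero vectors of each `qf`-value and irreducible on `W`, if `3 |Fix(t)| < 2^(d+1)(2^d-1)`
then `Q` fixes every fixed point of `t`.

Ingredients: `JJ ω = π(Stab_Q ω)`, `AAs ω = JJ^⊥`, the character sum `card_perp_mul_card`
(`|J^⊥| |J| = |W|` for a nondegenerate `ZMod 2`-valued form), `card_le_orbit_mul`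
(`|W| ≤ |Q ω| |J|`), `AAs_smul_K` (`A (k ω) = ρ_k A (ω)`), the action `actK` of `K` on subsets of `W`
and the counting lemmas `ncard_le_of_cover`, `mul_ncard_le_of_fibers`.
-/

set_option autoImplicit false

open Cfsg.Agent.Lib.Helper33_U2Defs

namespace Cfsg.Agent.Lib.Helper53_S2153_S2

section Basic

variable {G : Type*} [Group G] {W : Type*} [AddCommGroup W] {D : QDat G W}

theorem π_one (hD : D.Ok) : D.π 1 = 0 := by
  have h := hD.π_mul 1 D.Q.one_mem 1 D.Q.one_mem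
  rw [mul_one] at h
  exact left_eq_add.mp h

theorem β_zero_left (hD : D.Ok) (u : W) : D.β 0 u = 0 := by
  have h := hD.β_add 0 0 u
  rw [add_zero] at h
  exact left_eq_add.mp h

theorem β_zero_right (hD : D.Ok) (u : W) : D.β u 0 = 0 := by
  rw [hD.β_symm, β_zero_left hD]

theorem β_add_right (hD : D.Ok) (u w w' : W) : D.β u (w + w') = D.β u w + D.β u w' := by
  rw [hD.β_symm, hD.β_add, hD.β_symm w, hD.β_symm w']

theorem t_comm (hD : D.Ok) {g : G} (hg : g ∈ D.Q) : g * D.t = D.t * g := by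
  have h := hD.comm g hg D.t hD.t_mem
  rw [hD.π_t, β_zero_right hD, ZMod.val_zero, pow_zero, one_mul] at h
  exact h

theorem π_inv_add (hD : D.Ok) {g : G} (hg : g ∈ D.Q) : D.π g⁻¹ + D.π g = 0 := by
  rw [← hD.π_mul g⁻¹ (D.Q.inv_mem hg) g hg, inv_mul_cancel, π_one hD]

theorem pow_val_inj (hD : D.Ok) (a b : ZMod 2) (h : D.t ^ a.val = D.t ^ b.val) : a = b := by
  have ht := hD.t_ne
  fin_cases a <;> fin_cases b
  · rfl
  · exfalso
    simp [ZMod.val] at h
    exact ht h.symm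
  · exfalso
    simp [ZMod.val] at h
    exact ht h
  · rfl

/-! ### the action of `K` on `W` -/

theorem ρ_add (hD : D.Ok) {k : G} (hk : k ∈ D.K) (w w' : W) :
    D.ρ k (w + w') = D.ρ k w + D.ρ k w' := by
  obtain ⟨g, hg, rfl⟩ := hD.π_surj w
  obtain ⟨g', hg', rfl⟩ := hD.π_surj w'
  rw [← hD.π_mul g hg g' hg', ← hD.K_conj_π k hk _ (D.Q.mul_mem hg hg'), ← hD.K_conj_π k hk g hg,
    ← hD.K_conj_π k hk g' hg', ← hD.π_mul _ (hD.K_conj_mem k hk g hg) _ (hD.K_conj_mem k hk g' hg')]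
  congr 1
  group

theorem ρ_zero (hD : D.Ok) {k : G} (hk : k ∈ D.K) : D.ρ k 0 = 0 := by
  have h := ρ_add hD hk 0 0
  rw [add_zero] at h
  exact left_eq_add.mp h

theorem ρ_inv_left (hD : D.Ok) {k : G} (hk : k ∈ D.K) (w : W) : D.ρ k⁻¹ (D.ρ k w) = w := by
  obtain ⟨g, hg, rfl⟩ := hD.π_surj w
  rw [← hD.K_conj_π k hk g hg, ← hD.K_conj_π k⁻¹ (D.K.inv_mem hk) _ (hD.K_conj_mem k hk g hg)]
  congr 1
  group

theorem ρ_inv_right (hD : D.Ok) {k : G} (hk : k ∈ D.K) (w : W) : D.ρ k (D.ρ k⁻¹ w) = w := by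
  have h := ρ_inv_left hD (D.K.inv_mem hk) w
  rwa [inv_inv] at h

theorem ρ_injective (hD : D.Ok) {k : G} (hk : k ∈ D.K) : Function.Injective (D.ρ k) := by
  intro w w' h
  rw [← ρ_inv_left hD hk w, h, ρ_inv_left hD hk]

theorem ρ_mul (hD : D.Ok) {k k' : G} (hk : k ∈ D.K) (hk' : k' ∈ D.K) (w : W) :
    D.ρ (k * k') w = D.ρ k (D.ρ k' w) := by
  obtain ⟨g, hg, rfl⟩ := hD.π_surj w
  rw [← hD.K_conj_π k' hk' g hg, ← hD.K_conj_π k hk _ (hD.K_conj_mem k' hk' g hg),
    ← hD.K_conj_π (k * k') (D.K.mul_mem hk hk') g hg]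
  congr 1
  group

theorem ρ_one (hD : D.Ok) (w : W) : D.ρ 1 w = w := by
  obtain ⟨g, hg, rfl⟩ := hD.π_surj w
  rw [← hD.K_conj_π 1 D.K.one_mem g hg]
  congr 1
  group

theorem K_t_pow (hD : D.Ok) {k : G} (hk : k ∈ D.K) (n : ℕ) : k * D.t ^ n * k⁻¹ = D.t ^ n := by
  have h : k * D.t * k⁻¹ = D.t := by
    rw [hD.K_t k hk, mul_inv_cancel_right]
  rw [← conj_pow, h]

theorem qf_ρ (hD : D.Ok) {k : G} (hk : k ∈ D.K) (w : W) : D.qf (D.ρ k w) = D.qf w := by
  obtain ⟨g, hg, rfl⟩ := hD.π_surj w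
  apply pow_val_inj hD
  have h1 : D.t ^ (D.qf (D.ρ k (D.π g))).val = (k * g * k⁻¹) * (k * g * k⁻¹) := by
    rw [← hD.K_conj_π k hk g hg, ← hD.sq _ (hD.K_conj_mem k hk g hg)]
  have h2 : D.t ^ (D.qf (D.π g)).val = k * (g * g) * k⁻¹ := by
    rw [hD.sq g hg, K_t_pow hD hk]
  rw [h1, h2]
  group

theorem β_eq (hD : D.Ok) (w w' : W) : D.β w w' = D.qf (w + w') + D.qf w + D.qf w' := by
  rw [hD.qf_add]
  have h2 : ∀ x : ZMod 2, x + x = 0 := by decide
  have := h2 (D.qf w)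
  have := h2 (D.qf w')
  linear_combination (-1 : ZMod 2) * (h2 (D.qf w)) - h2 (D.qf w')

theorem β_ρ (hD : D.Ok) {k : G} (hk : k ∈ D.K) (w w' : W) :
    D.β (D.ρ k w) (D.ρ k w') = D.β w w' := by
  rw [β_eq hD, β_eq hD w w', ← ρ_add hD hk, qf_ρ hD hk, qf_ρ hD hk, qf_ρ hD hk]

end Basic

section CharSum

/-- the sign character of `ZMod 2` -/
def sgn (x : ZMod 2) : ℤ := if x = 0 then 1 else -1

theorem sgn_zero : sgn 0 = 1 := by simp [sgn]

theorem sgn_add_one (x : ZMod 2) : sgn (x + 1) = - sgn x := by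
  fin_cases x <;> simp [sgn] <;> decide

theorem zmod2_eq_one {x : ZMod 2} (h : x ≠ 0) : x = 1 := by
  fin_cases x
  · exact absurd rfl h
  · rfl

theorem sum_sgn_eq_zero {H : Type*} [AddCommGroup H] [Fintype H] (φ : H → ZMod 2)
    (hφ : ∀ x y, φ (x + y) = φ x + φ y) (h0 : H) (hh : φ h0 ≠ 0) : ∑ h, sgn (φ h) = 0 := by
  have h1 : φ h0 = 1 := zmod2_eq_one hh
  have h2 : ∑ h, sgn (φ (h + h0)) = ∑ h, sgn (φ h) :=
    Fintype.sum_equiv (Equiv.addRight h0) _ _ (fun _ => rfl)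
  simp_rw [hφ, h1, sgn_add_one] at h2
  rw [Finset.sum_neg_distrib] at h2
  omega

variable {W : Type*} [AddCommGroup W] [Fintype W]

theorem card_perp_mul_card (β : W → W → ZMod 2)
    (hadd : ∀ w w' u, β (w + w') u = β w u + β w' u)
    (hsymm : ∀ w u, β w u = β u w) (hnd : ∀ w, (∀ u, β w u = 0) → w = 0) (J : AddSubgroup W)
    [DecidablePred fun a : W => ∀ j ∈ J, β a j = 0] :
    (Finset.univ.filter (fun a : W => ∀ j ∈ J, β a j = 0)).card * Nat.card J = Nat.card W := by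
  classical
  have : Fintype J := Fintype.ofFinite _
  have haddr : ∀ u w w', β u (w + w') = β u w + β u w' := by
    intro u w w'
    rw [hsymm, hadd, hsymm w, hsymm w']
  have hz : ∀ u, β 0 u = 0 := by
    intro u
    have h := hadd 0 0 u
    rw [add_zero] at h
    exact left_eq_add.mp h
  -- first evaluation
  have e1 : ∑ w : W, ∑ j : J, sgn (β (j : W) w)
      = ((Finset.univ.filter (fun a : W => ∀ j ∈ J, β a j = 0)).card : ℤ) * (Nat.card J : ℤ) := by
    have : ∀ w : W, ∑ j : J, sgn (β (j : W) w)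
        = if (∀ j ∈ J, β w j = 0) then (Nat.card J : ℤ) else 0 := by
      intro w
      split_ifs with hw
      · have : ∀ j : J, sgn (β (j : W) w) = 1 := by
          intro j
          rw [hsymm, hw j j.2, sgn_zero]
        simp only [this, Finset.sum_const, Finset.card_univ, Nat.card_eq_fintype_card]
        simp
      · push Not at hw
        obtain ⟨j0, hj0, hne⟩ := hw
        apply sum_sgn_eq_zero (fun j : J => β (j : W) w) _ ⟨j0, hj0⟩
        · show β j0 w ≠ 0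
          rwa [hsymm]
        · intro x y
          show β ((x + y : J) : W) w = _
          rw [AddSubgroup.coe_add, hadd]
    simp_rw [this]
    rw [Finset.sum_ite, Finset.sum_const_zero, add_zero, Finset.sum_const, nsmul_eq_mul]
  -- second evaluation
  have e2 : ∑ j : J, ∑ w : W, sgn (β (j : W) w) = (Nat.card W : ℤ) := by
    rw [Finset.sum_eq_single (0 : J)]
    · simp only [AddSubgroup.coe_zero, hz, sgn_zero, Finset.sum_const, Finset.card_univ,
        Nat.card_eq_fintype_card]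
      simp
    · intro j _ hj
      have hj' : (j : W) ≠ 0 := fun h => hj (Subtype.ext h)
      have : ∃ u, β (j : W) u ≠ 0 := by
        by_contra hcon
        push Not at hcon
        exact hj' (hnd _ hcon)
      obtain ⟨u, hu⟩ := this
      exact sum_sgn_eq_zero (fun w => β (j : W) w) (fun x y => haddr _ x y) u hu
    · intro h
      exact absurd (Finset.mem_univ _) h
  rw [Finset.sum_comm] at e1
  rw [e1] at e2
  exact_mod_cast e2

end CharSum

section Stab

variable {G : Type*} [Group G] {W : Type*} [AddCommGroup W] {Ω : Type*} [MulAction G Ω]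
  {D : QDat G W}

/-- the image in `W` of the stabiliser in `Q` of a point -/
def JJ (hD : D.Ok) (ω : Ω) : AddSubgroup W where
  carrier := {w | ∃ g ∈ D.Q, g • ω = ω ∧ D.π g = w}
  zero_mem' := ⟨1, D.Q.one_mem, one_smul _ _, π_one hD⟩
  add_mem' := by
    rintro _ _ ⟨g, hg, hgω, rfl⟩ ⟨g', hg', hgω', rfl⟩
    exact ⟨g * g', D.Q.mul_mem hg hg', by rw [mul_smul, hgω', hgω], hD.π_mul g hg g' hg'⟩
  neg_mem' := by
    rintro _ ⟨g, hg, hgω, rfl⟩
    refine ⟨g, hg, hgω, ?_⟩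
    exact (neg_eq_of_add_eq_zero_left (hD.two _)).symm

theorem mem_JJ (hD : D.Ok) (ω : Ω) (w : W) :
    w ∈ JJ hD ω ↔ ∃ g ∈ D.Q, g • ω = ω ∧ D.π g = w := Iff.rfl

theorem JJ_smul_Q_le (hD : D.Ok) {g : G} (hg : g ∈ D.Q) (ω : Ω) :
    JJ hD (g • ω) ≤ JJ hD ω := by
  rintro w ⟨s, hs, hsω, rfl⟩
  refine ⟨g⁻¹ * s * g, D.Q.mul_mem (D.Q.mul_mem (D.Q.inv_mem hg) hs) hg, ?_, ?_⟩
  · rw [mul_smul, mul_smul, hsω, inv_smul_smul]
  · rw [hD.π_mul _ (D.Q.mul_mem (D.Q.inv_mem hg) hs) g hg, hD.π_mul _ (D.Q.inv_mem hg) s hs,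
      add_comm (D.π g⁻¹), add_assoc, π_inv_add hD hg, add_zero]

theorem JJ_smul_Q (hD : D.Ok) {g : G} (hg : g ∈ D.Q) (ω : Ω) :
    JJ hD (g • ω) = JJ hD ω := by
  apply le_antisymm (JJ_smul_Q_le hD hg ω)
  have h := JJ_smul_Q_le hD (D.Q.inv_mem hg) (g • ω)
  rwa [inv_smul_smul] at h

theorem mem_JJ_smul_K (hD : D.Ok) {k : G} (hk : k ∈ D.K) (ω : Ω) (w : W) :
    w ∈ JJ hD (k • ω) ↔ D.ρ k⁻¹ w ∈ JJ hD ω := by
  have hk' : k⁻¹ ∈ D.K := D.K.inv_mem hk
  constructor
  · rintro ⟨s, hs, hsω, rfl⟩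
    refine ⟨k⁻¹ * s * k⁻¹⁻¹, hD.K_conj_mem k⁻¹ hk' s hs, ?_, hD.K_conj_π k⁻¹ hk' s hs⟩
    rw [inv_inv, mul_smul, mul_smul, hsω, inv_smul_smul]
  · rintro ⟨s, hs, hsω, hπ⟩
    refine ⟨k * s * k⁻¹, hD.K_conj_mem k hk s hs, ?_, ?_⟩
    · rw [mul_smul, mul_smul, inv_smul_smul, hsω]
    · rw [hD.K_conj_π k hk s hs, hπ, ρ_inv_right hD hk]

/-- the orthogonal complement of `JJ` -/
def AAs (hD : D.Ok) (ω : Ω) : Set W := {a | ∀ j ∈ JJ hD ω, D.β a j = 0}

theorem AAs_smul_Q (hD : D.Ok) {g : G} (hg : g ∈ D.Q) (ω : Ω) :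
    AAs hD (g • ω) = AAs hD ω := by
  unfold AAs
  rw [JJ_smul_Q hD hg]

theorem mem_AAs_smul_K (hD : D.Ok) {k : G} (hk : k ∈ D.K) (ω : Ω) (a : W) :
    a ∈ AAs hD (k • ω) ↔ D.ρ k⁻¹ a ∈ AAs hD ω := by
  have hk' : k⁻¹ ∈ D.K := D.K.inv_mem hk
  constructor
  · intro h j hj
    have h1 : D.ρ k j ∈ JJ hD (k • ω) := by
      rw [mem_JJ_smul_K hD hk, ρ_inv_left hD hk]
      exact hj
    have h2 := h _ h1
    rw [← β_ρ hD hk, ρ_inv_right hD hk]
    exact h2
  · intro h j hj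
    have h1 := (mem_JJ_smul_K hD hk ω j).mp hj
    have h2 := h _ h1
    rwa [β_ρ hD hk'] at h2

theorem AAs_smul_K (hD : D.Ok) {k : G} (hk : k ∈ D.K) (ω : Ω) :
    AAs hD (k • ω) = D.ρ k '' AAs hD ω := by
  ext a
  rw [mem_AAs_smul_K hD hk]
  constructor
  · intro h
    exact ⟨_, h, ρ_inv_right hD hk a⟩
  · rintro ⟨b, hb, rfl⟩
    rwa [ρ_inv_left hD hk]

theorem zero_mem_AAs (hD : D.Ok) (ω : Ω) : (0 : W) ∈ AAs hD ω :=
  fun j _ => β_zero_left hD j

theorem add_mem_AAs (hD : D.Ok) (ω : Ω) {a b : W} (ha : a ∈ AAs hD ω) (hb : b ∈ AAs hD ω) :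
    a + b ∈ AAs hD ω := by
  intro j hj
  rw [hD.β_add, ha j hj, hb j hj, add_zero]

/-- the `Q`-orbit of a point -/
def QO (D : QDat G W) (ω : Ω) : Set Ω := {ω' | ∃ g ∈ D.Q, g • ω = ω'}

theorem card_le_orbit_mul [Finite W] [Finite Ω] (hD : D.Ok) (ω : Ω) :
    Nat.card W ≤ (QO D ω).ncard * Nat.card (JJ hD ω) := by
  classical
  have hch : ∀ x : QO D ω, ∃ g ∈ D.Q, g • ω = x.1 := fun x => x.2
  choose gg hgg hggω using hch
  let ψ : (QO D ω) × (JJ hD ω) → W := fun x => D.π (gg x.1) + x.2.1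
  have hsurj : Function.Surjective ψ := by
    intro w
    obtain ⟨g, hg, rfl⟩ := hD.π_surj w
    let x : QO D ω := ⟨g • ω, g, hg, rfl⟩
    have hx : (x : Ω) = g • ω := rfl
    have h1 : ((gg x)⁻¹ * g) • ω = ω := by
      rw [mul_smul, ← hx, ← hggω x, inv_smul_smul]
    have hq : (gg x)⁻¹ * g ∈ D.Q := D.Q.mul_mem (D.Q.inv_mem (hgg x)) hg
    refine ⟨(x, ⟨D.π ((gg x)⁻¹ * g), (gg x)⁻¹ * g, hq, h1, rfl⟩), ?_⟩
    show D.π (gg x) + D.π ((gg x)⁻¹ * g) = D.π g
    rw [hD.π_mul _ (D.Q.inv_mem (hgg x)) g hg, ← add_assoc, add_comm (D.π (gg x)),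
      π_inv_add hD (hgg x), zero_add]
  have h := Nat.card_le_card_of_surjective ψ hsurj
  rwa [Nat.card_prod, Nat.card_coe_set_eq] at h

end Stab

section Count

theorem ncard_le_of_cover {α : Type*} [Finite α] (S : Set α) (T : Set (Set α)) (c : ℕ)
    (hcov : ∀ x ∈ S, ∃ B ∈ T, x ∈ B) (hB : ∀ B ∈ T, (B ∩ S).ncard ≤ c) :
    S.ncard ≤ T.ncard * c := by
  classical
  have : Fintype α := Fintype.ofFinite α
  let f : α → Set α := fun x => if h : x ∈ S then Classical.choose (hcov x h) else ∅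
  have hf : ∀ x (h : x ∈ S), f x ∈ T ∧ x ∈ f x := by
    intro x h
    simp only [f, dif_pos h]
    exact Classical.choose_spec (hcov x h)
  have h1 := Finset.card_le_mul_card_image_of_maps_to (s := S.toFinset) (t := T.toFinset)
    (f := f) (fun a ha => by
      rw [Set.mem_toFinset] at ha ⊢
      exact (hf a ha).1) c (fun b hb => by
      rw [Set.mem_toFinset] at hb
      refine le_trans ?_ (hB b hb)
      rw [← Set.ncard_coe_finset]
      apply Set.ncard_le_ncard _ (Set.toFinite _)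
      intro x hx
      simp only [Finset.coe_filter, Set.mem_toFinset, Set.mem_ofPred_eq] at hx
      refine ⟨?_, hx.1⟩
      rw [← hx.2]
      exact (hf x hx.1).2)
  rw [Set.ncard_eq_toFinset_card' S, Set.ncard_eq_toFinset_card' T, mul_comm]
  exact h1

theorem mul_ncard_le_of_fibers {α β : Type*} [Finite α] [Finite β] (X : Set α) (F : α → β)
    (T : Set β) (n : ℕ) (hT : ∀ b ∈ T, n ≤ {x | x ∈ X ∧ F x = b}.ncard) :
    n * T.ncard ≤ X.ncard := by
  classical
  have : Fintype α := Fintype.ofFinite α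
  have : Fintype β := Fintype.ofFinite β
  have h1 : (T.toFinset.biUnion (fun b => (X.toFinset.filter (fun x => F x = b)))).card
      = ∑ b ∈ T.toFinset, (X.toFinset.filter (fun x => F x = b)).card := by
    apply Finset.card_biUnion
    intro b _ b' _ hbb'
    show Disjoint _ _
    rw [Finset.disjoint_left]
    intro x hx hx'
    rw [Finset.mem_filter] at hx hx'
    exact hbb' (hx.2.symm.trans hx'.2)
  have h2 : (T.toFinset.biUnion (fun b => (X.toFinset.filter (fun x => F x = b)))).card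
      ≤ X.toFinset.card := by
    apply Finset.card_le_card
    intro x hx
    rw [Finset.mem_biUnion] at hx
    obtain ⟨b, _, hx⟩ := hx
    exact (Finset.mem_filter.mp hx).1
  have h3 : T.toFinset.card • n ≤ ∑ b ∈ T.toFinset, (X.toFinset.filter (fun x => F x = b)).card := by
    apply Finset.card_nsmul_le_sum
    intro b hb
    rw [Set.mem_toFinset] at hb
    refine le_trans (hT b hb) (le_of_eq ?_)
    rw [← Set.ncard_coe_finset]
    congr 1
    ext x
    simp
  rw [Set.ncard_eq_toFinset_card' X, Set.ncard_eq_toFinset_card' T, mul_comm]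
  rw [smul_eq_mul] at h3
  omega

end Count

section Main

variable {G : Type*} [Group G] {W : Type*} [AddCommGroup W] {D : QDat G W}

theorem add_self_eq_zero_iff (hD : D.Ok) (a b : W) : a + b = 0 ↔ a = b := by
  constructor
  · intro h
    have h1 : a = -b := eq_neg_of_add_eq_zero_left h
    rw [h1]
    exact neg_eq_of_add_eq_zero_left (hD.two b)
  · rintro rfl
    exact hD.two a

/-- if all nonzero elements of an additively closed set are nonsingular, it has at most three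
nonzero elements -/
theorem ncard_nonzero_le_three [Finite W] (hD : D.Ok) (A : Set W)
    (hadd : ∀ a ∈ A, ∀ b ∈ A, a + b ∈ A)
    (hq : ∀ a ∈ A, a ≠ 0 → D.qf a ≠ 0) : (A ∩ {w | w ≠ 0}).ncard ≤ 3 := by
  classical
  have hβ : ∀ a ∈ A, ∀ b ∈ A, a ≠ 0 → b ≠ 0 → a ≠ b → D.β a b = 1 := by
    intro a ha b hb ha0 hb0 hab
    have h1 := zmod2_eq_one (hq a ha ha0)
    have h2 := zmod2_eq_one (hq b hb hb0)
    have h3 := zmod2_eq_one (hq (a + b) (hadd a ha b hb)
      (fun h => hab ((add_self_eq_zero_iff hD a b).mp h)))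
    rw [hD.qf_add, h1, h2] at h3
    have : ∀ x : ZMod 2, 1 + 1 + x = 1 → x = 1 := by decide
    exact this _ h3
  by_cases hex : ∃ a ∈ A, ∃ b ∈ A, a ≠ 0 ∧ b ≠ 0 ∧ a ≠ b
  · obtain ⟨a, ha, b, hb, ha0, hb0, hab⟩ := hex
    have hsub : A ∩ {w | w ≠ 0} ⊆ (({a, b, a + b} : Finset W) : Set W) := by
      rintro c ⟨hc, hc0⟩
      have hc0' : c ≠ 0 := hc0
      simp only [Finset.coe_insert, Finset.coe_singleton, Set.mem_insert_iff,
        Set.mem_singleton_iff]
      by_contra hcon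
      push Not at hcon
      obtain ⟨hca, hcb, hcab⟩ := hcon
      -- `a + b + c` is a nonzero element of `A` with `qf = 0`
      have he : a + b + c ∈ A := hadd _ (hadd a ha b hb) c hc
      have he0 : a + b + c ≠ 0 := by
        intro h
        exact hcab ((add_self_eq_zero_iff hD (a + b) c).mp h).symm
      have hab0 : a + b ≠ 0 := fun h => hab ((add_self_eq_zero_iff hD a b).mp h)
      have h1 := zmod2_eq_one (hq (a + b) (hadd a ha b hb) hab0)
      have h2 := zmod2_eq_one (hq c hc hc0')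
      have h3 := hβ a ha c hc ha0 hc0' (Ne.symm hca)
      have h4 := hβ b hb c hc hb0 hc0' (Ne.symm hcb)
      apply hq _ he he0
      rw [hD.qf_add, hD.β_add, h1, h2, h3, h4]
      decide
    calc (A ∩ {w | w ≠ 0}).ncard ≤ ((({a, b, a + b} : Finset W) : Set W)).ncard :=
          Set.ncard_le_ncard hsub (Set.toFinite _)
      _ = ({a, b, a + b} : Finset W).card := Set.ncard_coe_finset _
      _ ≤ 3 := Finset.card_le_three
  · push Not at hex
    have : (A ∩ {w | w ≠ 0}).ncard ≤ 1 := by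
      rw [Set.ncard_le_one (Set.toFinite _)]
      rintro a ⟨ha, ha0⟩ b ⟨hb, hb0⟩
      exact hex a ha b hb ha0 hb0
    omega

/-- the action of `K` on subsets of `W` -/
@[instance_reducible]
def actK (hD : D.Ok) : MulAction ↥D.K (Set W) where
  smul k S := D.ρ (k : G) '' S
  one_smul S := by
    show D.ρ ((1 : ↥D.K) : G) '' S = S
    rw [Subgroup.coe_one]
    have : D.ρ 1 = id := funext (ρ_one hD)
    rw [this, Set.image_id]
  mul_smul k k' S := by
    show D.ρ ((k * k' : ↥D.K) : G) '' S = D.ρ (k : G) '' (D.ρ (k' : G) '' S)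
    rw [Set.image_image, Subgroup.coe_mul]
    congr 1
    funext w
    exact ρ_mul hD k.2 k'.2 w

theorem actK_smul (hD : D.Ok) (k : ↥D.K) (S : Set W) :
    (letI := actK hD; k • S) = D.ρ (k : G) '' S := rfl

end Main

section Arith

theorem arith_sum (x y : ℕ) (hy : 2 * x = y + 1) : y * (x + 1) + x * y + 1 = 4 * x * x := by
  calc y * (x + 1) + x * y + 1 = y * (2 * x) + y + 1 := by ring
    _ = y * (y + 1) + y + 1 := by rw [hy]
    _ = (y + 1) * (y + 1) := by ring
    _ = (2 * x) * (2 * x) := by rw [hy]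
    _ = 4 * x * x := by ring

theorem arith_a (x y N s0 s1 f : ℕ) (hy : 2 * x = y + 1) (hx1 : 1 ≤ x)
    (hc0 : y * (x + 1) ≤ N * s0) (hc1 : x * y ≤ N * s1) (hfN : (s0 + s1 + 1) * N ≤ f)
    (hf : 3 * f < 4 * x * y) : False := by
  have h1 := arith_sum x y hy
  have h2 : (s0 + s1 + 1) * N = N * s0 + N * s1 + N := by ring
  have h3 : 4 * x * x ≤ f + 0 := by
    have : 1 ≤ N := by
      rcases Nat.eq_zero_or_pos N with h | h
      · rw [h, zero_mul] at hc1
        have : 0 < x * y := Nat.mul_pos (by omega) (by omega)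
        omega
      · exact h
    omega
  have h4 : x * y ≤ 2 * x * x := by
    have : y ≤ 2 * x := by omega
    calc x * y ≤ x * (2 * x) := Nat.mul_le_mul_left _ this
      _ = 2 * x * x := by ring
  have h5 : 0 < x * x := Nat.mul_pos (by omega) (by omega)
  have h6 : 4 * x * y = 4 * (x * y) := by ring
  have h7 : 4 * x * x = 4 * (x * x) := by ring
  have h8 : 2 * x * x = 2 * (x * x) := by ring
  omega

theorem arith_b (x y N s f : ℕ) (hc : x * y ≤ N * s) (hs : s ≤ 3) (hfN : (s + 1) * N ≤ f)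
    (hf : 3 * f < 4 * x * y) : False := by
  have h1 : (s + 1) * N = N * s + N := by ring
  have h2 : N * s ≤ N * 3 := Nat.mul_le_mul_left _ hs
  have h6 : 4 * x * y = 4 * (x * y) := by ring
  omega

theorem arith_c1 (x y N s f : ℕ) (hc : y * (x + 1) ≤ N * s) (hs : s ≤ 3)
    (hfN : (s + 1) * N ≤ f) (hf : 3 * f < 4 * x * y) : False := by
  apply arith_b x y N s f _ hs hfN hf
  have : x * y ≤ y * (x + 1) := by
    calc x * y = y * x := mul_comm _ _
      _ ≤ y * (x + 1) := Nat.mul_le_mul_left _ (by omega)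
  omega

theorem arith_c2 (x y N s f m : ℕ) (h8 : 8 ≤ s + 1) (hNm : m ≤ N) (hm2 : x * y ≤ 6 * m)
    (hfN : (s + 1) * N ≤ f) (hf : 3 * f < 4 * x * y) : False := by
  have h1 : 8 * N ≤ (s + 1) * N := Nat.mul_le_mul_right _ h8
  have h6 : 4 * x * y = 4 * (x * y) := by ring
  omega

end Arith

section Final

variable {G : Type*} [Group G] {W : Type*} [AddCommGroup W] [Finite W]
    {Ω : Type*} [MulAction G Ω] [Finite Ω]

theorem eight_le_of_dvd {a d : ℕ} (hdvd : a ∣ 4 ^ d) (h4 : 4 < a) : 8 ≤ a := by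
  have h : (4 : ℕ) ^ d = 2 ^ (2 * d) := by rw [pow_mul]; norm_num
  rw [h] at hdvd
  obtain ⟨j, -, rfl⟩ := (Nat.dvd_prime_pow Nat.prime_two).mp hdvd
  have hj : 3 ≤ j := by
    by_contra hcon
    push Not at hcon
    have : 2 ^ j ≤ 2 ^ 2 := Nat.pow_le_pow_right (by norm_num) (by omega)
    omega
  calc 8 = 2 ^ 3 := by norm_num
    _ ≤ 2 ^ j := Nat.pow_le_pow_right (by norm_num) hj

theorem S2
    (D : QDat G W) (hD : D.Ok) (d m : ℕ) (hd : 1 ≤ d) (hW : Nat.card W = 4 ^ d)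
    (horb : ∀ w w' : W, w ≠ 0 → w' ≠ 0 → D.qf w = D.qf w' → ∃ k ∈ D.K, D.ρ k w = w')
    (hirr : ∀ I : AddSubgroup W, (∀ k ∈ D.K, ∀ w ∈ I, D.ρ k w ∈ I) → I = ⊥ ∨ I = ⊤)
    (hmu : ∀ L : Subgroup G, L ≤ D.K → L ≠ D.K → m ≤ L.relIndex D.K)
    (hsing : Nat.card {w : W // w ≠ 0 ∧ D.qf w = 0} = (2 ^ d - 1) * (2 ^ (d - 1) + 1))
    (hm2 : 2 ^ (d - 1) * (2 ^ d - 1) ≤ 6 * m)
    (hf : 3 * Nat.card {ω : Ω // D.t • ω = ω} < 2 ^ (d + 1) * (2 ^ d - 1)) :
    ∀ ω : Ω, D.t • ω = ω → ∀ g ∈ D.Q, g • ω = ω := by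
  classical
  intro ω0 hω0 g0 hg0
  by_contra hne
  have : Fintype W := Fintype.ofFinite W
  let _ := actK hD
  set A0 : Set W := AAs hD ω0 with hA0
  set J0 : AddSubgroup W := JJ hD ω0 with hJ0
  -- arithmetic parameters
  obtain ⟨e, rfl⟩ : ∃ e, d = e + 1 := ⟨d - 1, by omega⟩
  set x : ℕ := 2 ^ e with hx
  have hx1 : 1 ≤ x := Nat.one_le_two_pow
  have e1 : 2 ^ (e + 1) = 2 * x := by rw [pow_succ, mul_comm]
  have e2 : 2 ^ (e + 1 - 1) = x := by rw [Nat.add_sub_cancel]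
  have e3 : 2 ^ (e + 1 + 1) = 4 * x := by rw [pow_succ, e1]; ring
  have e4 : 4 ^ (e + 1) = 4 * x * x := by
    have : (4 : ℕ) ^ (e + 1) = 2 ^ (e + 1) * 2 ^ (e + 1) := by
      rw [← mul_pow]; norm_num
    rw [this, e1]; ring
  rw [e1, e2] at hsing hm2
  rw [e3, e1] at hf
  rw [e4] at hW
  obtain ⟨y, hy⟩ : ∃ y, 2 * x = y + 1 := ⟨2 * x - 1, by omega⟩
  have hy' : 2 * x - 1 = y := by omega
  rw [hy'] at hsing hm2 hf
  -- `|A0| * |J0| = |W|`
  have hAJ : A0.ncard * Nat.card J0 = Nat.card W := by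
    have h := card_perp_mul_card D.β hD.β_add hD.β_symm hD.β_nondeg J0
    rw [← h, ← Set.ncard_coe_finset]
    congr 2
    ext a
    simp [hA0, AAs, hJ0]
  -- `J0 ≠ ⊤`
  have hJtop : J0 ≠ ⊤ := by
    intro h
    have hmem : D.π g0 ∈ J0 := by rw [h]; trivial
    obtain ⟨s, hs, hsω, hπ⟩ := hmem
    have h1 : D.π (g0 * s⁻¹) = 0 := by
      rw [hD.π_mul g0 hg0 _ (D.Q.inv_mem hs), ← hπ, add_comm, π_inv_add hD hs]
    rcases hD.π_ker _ (D.Q.mul_mem hg0 (D.Q.inv_mem hs)) h1 with h2 | h2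
    · have : g0 = s := by rwa [mul_inv_eq_one] at h2
      exact hne (this ▸ hsω)
    · have : g0 = D.t * s := by rw [← h2]; group
      apply hne
      rw [this, mul_smul, hsω, hω0]
  have hJpos : 0 < Nat.card J0 := Nat.card_pos
  have hWpos : 0 < Nat.card W := Nat.card_pos
  -- `2 ≤ |A0|`
  have hA2 : 2 ≤ A0.ncard := by
    by_contra hcon
    push Not at hcon
    have hA1 : A0.ncard = 1 := by
      rcases Nat.lt_succ_iff.mp hcon with h
      interval_cases hh : A0.ncard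
      · rw [zero_mul] at hAJ; omega
      · rfl
    rw [hA1, one_mul] at hAJ
    exact hJtop ((AddSubgroup.card_eq_iff_eq_top J0).mp hAJ)
  have hAdvd : A0.ncard ∣ 4 ^ (e + 1) := by
    rw [e4, ← hW, ← hAJ]
    exact dvd_mul_right _ _
  have h0A : (0 : W) ∈ A0 := zero_mem_AAs hD ω0
  -- the orbit of `A0`
  set T : Set (Set W) := MulAction.orbit ↥D.K A0 with hT
  set N : ℕ := T.ncard with hN
  have hTmem : ∀ B, B ∈ T ↔ ∃ k ∈ D.K, B = D.ρ k '' A0 := by
    intro B
    constructor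
    · rintro ⟨k, rfl⟩
      exact ⟨k.1, k.2, rfl⟩
    · rintro ⟨k, hk, rfl⟩
      exact ⟨⟨k, hk⟩, rfl⟩
  have hA0T : A0 ∈ T := MulAction.mem_orbit_self A0
  have hN1 : 1 ≤ N := by
    rw [hN, Nat.one_le_iff_ne_zero, Ne, Set.ncard_eq_zero (Set.toFinite _)]
    exact Set.nonempty_iff_ne_empty.mp ⟨A0, hA0T⟩
  -- `|A0| * N ≤ f`
  have hfN : A0.ncard * N ≤ Nat.card {ω : Ω // D.t • ω = ω} := by
    have h := mul_ncard_le_of_fibers {ω : Ω | D.t • ω = ω} (fun ω => AAs hD ω) T A0.ncard ?_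
    · rwa [← Nat.card_coe_set_eq] at h
    · intro B hB
      obtain ⟨k, hk, rfl⟩ := (hTmem B).mp hB
      have hkω : D.t • (k • ω0) = k • ω0 := by
        rw [← mul_smul, ← hD.K_t k hk, mul_smul, hω0]
      have hAk : AAs hD (k • ω0) = D.ρ k '' A0 := AAs_smul_K hD hk ω0
      -- the `Q`-orbit of `k • ω0` lies in the fibre
      have hsub : QO D (k • ω0) ⊆ {ω | ω ∈ {ω : Ω | D.t • ω = ω} ∧ AAs hD ω = D.ρ k '' A0} := by
        rintro _ ⟨g, hg, rfl⟩
        refine ⟨?_, ?_⟩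
        · show D.t • (g • (k • ω0)) = g • (k • ω0)
          rw [← mul_smul, ← t_comm hD hg, mul_smul, hkω]
        · rw [AAs_smul_Q hD hg, hAk]
      have h1 : (D.ρ k '' A0).ncard = A0.ncard :=
        Set.ncard_image_of_injective _ (ρ_injective hD hk)
      have h2 : (AAs hD (k • ω0)).ncard * Nat.card (JJ hD (k • ω0)) = Nat.card W := by
        have h := card_perp_mul_card D.β hD.β_add hD.β_symm hD.β_nondeg (JJ hD (k • ω0))
        rw [← h, ← Set.ncard_coe_finset]
        congr 2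
        ext a
        simp [AAs]
      have h3 := card_le_orbit_mul hD (k • ω0)
      rw [← h2, hAk, h1] at h3
      have h4 : A0.ncard ≤ (QO D (k • ω0)).ncard :=
        Nat.le_of_mul_le_mul_right h3 Nat.card_pos
      exact h4.trans (Set.ncard_le_ncard hsub (Set.toFinite _))
  -- covering
  have hcover : ∀ ε : ZMod 2, (∃ a ∈ A0, a ≠ 0 ∧ D.qf a = ε) →
      {w : W | w ≠ 0 ∧ D.qf w = ε}.ncard ≤ N * (A0 ∩ {w : W | w ≠ 0 ∧ D.qf w = ε}).ncard := by
    rintro ε ⟨a, haA, ha0, haε⟩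
    apply ncard_le_of_cover
    · rintro w ⟨hw0, hwε⟩
      obtain ⟨k, hk, rfl⟩ := horb a w ha0 hw0 (haε.trans hwε.symm)
      exact ⟨D.ρ k '' A0, (hTmem _).mpr ⟨k, hk, rfl⟩, a, haA, rfl⟩
    · intro B hB
      obtain ⟨k, hk, rfl⟩ := (hTmem B).mp hB
      have hsub : D.ρ k '' A0 ∩ {w : W | w ≠ 0 ∧ D.qf w = ε}
          ⊆ D.ρ k '' (A0 ∩ {w : W | w ≠ 0 ∧ D.qf w = ε}) := by
        rintro _ ⟨⟨b, hb, rfl⟩, hb0, hbε⟩
        refine ⟨b, ⟨hb, ?_, ?_⟩, rfl⟩
        · rintro rfl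
          exact hb0 (ρ_zero hD hk)
        · rw [← qf_ρ hD hk]
          exact hbε
      exact (Set.ncard_le_ncard hsub (Set.toFinite _)).trans (Set.ncard_image_le (Set.toFinite _))
  -- the numbers of singular and nonsingular vectors
  have hS0 : {w : W | w ≠ 0 ∧ D.qf w = 0}.ncard = y * (x + 1) := by
    rw [← Nat.card_coe_set_eq]
    exact hsing
  have hS1 : {w : W | w ≠ 0 ∧ D.qf w = 1}.ncard = x * y := by
    have hunion : {w : W | w ≠ 0 ∧ D.qf w = 0} ∪ {w : W | w ≠ 0 ∧ D.qf w = 1} = {w : W | w ≠ 0} := by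
      ext w
      simp only [Set.mem_union, Set.mem_ofPred_eq]
      constructor
      · rintro (h | h) <;> exact h.1
      · intro h
        by_cases hq : D.qf w = 0
        · exact Or.inl ⟨h, hq⟩
        · exact Or.inr ⟨h, zmod2_eq_one hq⟩
    have hdisj : Disjoint {w : W | w ≠ 0 ∧ D.qf w = 0} {w : W | w ≠ 0 ∧ D.qf w = 1} := by
      rw [Set.disjoint_left]
      rintro w ⟨_, h0⟩ ⟨_, h1⟩
      rw [h0] at h1
      exact absurd h1 (by decide)
    have h1 := Set.ncard_union_eq hdisj (Set.toFinite _) (Set.toFinite _)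
    rw [hunion, hS0] at h1
    have h2 : {w : W | w ≠ 0}.ncard = Nat.card W - 1 := by
      have : {w : W | w ≠ 0} = ({0} : Set W)ᶜ := by ext w; simp
      rw [this, Set.ncard_compl, Set.ncard_singleton]
    rw [h2, hW] at h1
    have h3 : y * (x + 1) + x * y + 1 = 4 * x * x := arith_sum x y hy
    omega
  -- the numbers of singular / nonsingular nonzero vectors in `A0`
  set s0 : ℕ := (A0 ∩ {w : W | w ≠ 0 ∧ D.qf w = 0}).ncard with hs0
  set s1 : ℕ := (A0 ∩ {w : W | w ≠ 0 ∧ D.qf w = 1}).ncard with hs1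
  have hs01 : s0 + s1 + 1 = A0.ncard := by
    have hunion : (A0 ∩ {w : W | w ≠ 0 ∧ D.qf w = 0}) ∪ (A0 ∩ {w : W | w ≠ 0 ∧ D.qf w = 1})
        = A0 \ {0} := by
      ext w
      simp only [Set.mem_union, Set.mem_inter_iff, Set.mem_ofPred_eq, Set.mem_sdiff,
        Set.mem_singleton_iff]
      constructor
      · rintro (h | h) <;> exact ⟨h.1, h.2.1⟩
      · rintro ⟨h, h0⟩
        by_cases hq : D.qf w = 0
        · exact Or.inl ⟨h, h0, hq⟩
        · exact Or.inr ⟨h, h0, zmod2_eq_one hq⟩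
    have hdisj : Disjoint (A0 ∩ {w : W | w ≠ 0 ∧ D.qf w = 0})
        (A0 ∩ {w : W | w ≠ 0 ∧ D.qf w = 1}) := by
      rw [Set.disjoint_left]
      rintro w ⟨_, _, h0⟩ ⟨_, _, h1⟩
      rw [h0] at h1
      exact absurd h1 (by decide)
    have h1 := Set.ncard_union_eq hdisj (Set.toFinite _) (Set.toFinite _)
    rw [hunion, Set.ncard_sdiff_singleton_of_mem h0A] at h1
    omega
  have hex : ∀ ε : ZMod 2, (A0 ∩ {w : W | w ≠ 0 ∧ D.qf w = ε}).ncard ≠ 0 →
      ∃ a ∈ A0, a ≠ 0 ∧ D.qf a = ε := by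
    intro ε h
    obtain ⟨a, ha, ha0, haε⟩ := Set.nonempty_of_ncard_ne_zero h
    exact ⟨a, ha, ha0, haε⟩
  have hempty : ∀ ε : ZMod 2, (A0 ∩ {w : W | w ≠ 0 ∧ D.qf w = ε}).ncard = 0 →
      ∀ a ∈ A0, a ≠ 0 → D.qf a ≠ ε := by
    intro ε h a ha ha0 haε
    rw [Set.ncard_eq_zero (Set.toFinite _)] at h
    have : a ∈ A0 ∩ {w : W | w ≠ 0 ∧ D.qf w = ε} := ⟨ha, ha0, haε⟩
    rw [h] at this
    exact this
  have hnz : (A0 ∩ {w : W | w ≠ 0}).ncard = s0 + s1 := by
    have : A0 ∩ {w : W | w ≠ 0} = A0 \ {0} := by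
      ext w
      simp
    rw [this, Set.ncard_sdiff_singleton_of_mem h0A]
    omega
  have hy1 : 1 ≤ y := by omega
  set f : ℕ := Nat.card {ω : Ω // D.t • ω = ω} with hf_def
  rw [← hs01] at hfN
  by_cases h0 : s0 = 0
  · -- no singular vectors in `A0`
    have hs1pos : s1 ≠ 0 := by omega
    have hc := hcover 1 (hex 1 hs1pos)
    rw [hS1] at hc
    have hle : s0 + s1 ≤ 3 := by
      rw [← hnz]
      apply ncard_nonzero_le_three hD A0 (fun a ha b hb => add_mem_AAs hD ω0 ha hb)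
      exact hempty 0 h0
    have hs1 : s1 ≤ 3 := by omega
    rw [h0, zero_add] at hfN
    exact arith_b x y N s1 f hc hs1 hfN hf
  · by_cases h1 : s1 = 0
    · -- all of `A0` singular
      have hc := hcover 0 (hex 0 h0)
      rw [hS0] at hc
      rw [h1, add_zero] at hfN
      by_cases h4 : A0.ncard ≤ 4
      · have hs0' : s0 ≤ 3 := by omega
        exact arith_c1 x y N s0 f hc hs0' hfN hf
      · have h8 : 8 ≤ A0.ncard := eight_le_of_dvd hAdvd (by omega)
        have hNm : m ≤ N := by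
          let I : AddSubgroup W :=
            { carrier := A0
              zero_mem' := h0A
              add_mem' := fun ha hb => add_mem_AAs hD ω0 ha hb
              neg_mem' := by
                intro a ha
                have : -a = a := neg_eq_of_add_eq_zero_left (hD.two a)
                rw [this]
                exact ha }
          have hIbot : I ≠ ⊥ := by
            obtain ⟨a, ha, ha0, -⟩ := hex 0 h0
            intro h
            have : a ∈ I := ha
            rw [h, AddSubgroup.mem_bot] at this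
            exact ha0 this
          have hItop : I ≠ ⊤ := by
            have hne1 : {w : W | w ≠ 0 ∧ D.qf w = 1}.ncard ≠ 0 := by
              rw [hS1]
              exact Nat.mul_ne_zero (by omega) (by omega)
            obtain ⟨w, hw0, hw1⟩ := Set.nonempty_of_ncard_ne_zero hne1
            intro h
            have : w ∈ I := by rw [h]; trivial
            exact hempty 1 h1 w this hw0 hw1
          have hninv : ¬ (∀ k ∈ D.K, ∀ w ∈ I, D.ρ k w ∈ I) := fun h => by
            rcases hirr I h with h | h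
            · exact hIbot h
            · exact hItop h
          push Not at hninv
          obtain ⟨k, hk, w, hw, hkw⟩ := hninv
          let L : Subgroup G := (MulAction.stabilizer ↥D.K A0).map D.K.subtype
          have hLK : L ≤ D.K := Subgroup.map_subtype_le _
          have hLne : L ≠ D.K := by
            intro h
            have hk' : k ∈ L := h ▸ hk
            obtain ⟨k', hk'stab, hk'eq⟩ := hk'
            have hst : k' • A0 = A0 := MulAction.mem_stabilizer_iff.mp hk'stab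
            have hst' : D.ρ k '' A0 = A0 := by
              rw [← hk'eq]
              exact hst
            apply hkw
            show D.ρ k w ∈ A0
            rw [← hst']
            exact ⟨w, hw, rfl⟩
          have hm1 := hmu L hLK hLne
          have hm3 : L.relIndex D.K = N := by
            rw [Subgroup.relIndex, Subgroup.subgroupOf,
              Subgroup.comap_map_eq_self_of_injective D.K.subtype_injective,
              MulAction.index_stabilizer]
          omega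
        exact arith_c2 x y N s0 f m (by omega) hNm hm2 hfN hf
    · -- both kinds
      have hc0 := hcover 0 (hex 0 h0)
      have hc1 := hcover 1 (hex 1 h1)
      rw [hS0] at hc0
      rw [hS1] at hc1
      exact arith_a x y N s0 s1 f hy hx1 hc0 hc1 hfN hf

end Final

end Cfsg.Agent.Lib.Helper53_S2153_S2
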