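import Mathlib
import Cfsg.Agent.Lib.Helper94_Herm
import Cfsg.Agent.Lib.Helper94_HermTrans
import Cfsg.Agent.Lib.Helper94_HermEich
import Cfsg.Agent.Lib.Helper94_HermPara
import Cfsg.Agent.Lib.Helper94_HermWitt
import Cfsg.Agent.Lib.Helper94_HermIrr
import Cfsg.Agent.Lib.Helper13_SUGen
import Cfsg.Agent.Lib.Helper33_U2Defs
import Cfsg.Agent.Lib.Helper33_U2Geo
import Cfsg.Agent.Lib.Helper33_S2153_F4

/-!
# S2153 Part B (architect helper33), package GEN: over the field with 4 elements the transvections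
`utv B u 1` generate `tvGroup B U` and are all conjugate
-/

set_option autoImplicit false

open Module Cfsg.Agent.Lib.Helper94_Symp Cfsg.Agent.Lib.Helper94_Herm
  Cfsg.Agent.Lib.Helper94_HermTrans Cfsg.Agent.Lib.Helper94_HermEich
  Cfsg.Agent.Lib.Helper13_SUGen
  Cfsg.Agent.Lib.Helper33_U2Defs Cfsg.Agent.Lib.Helper33_U2Geo

namespace Cfsg.Agent.Lib.Helper54_S2153_GEN

variable {F V : Type*} [Field F] [Fintype F] [AddCommGroup V] [Module F V] [FiniteDimensional F V]
variable {σ : F →+* F} {B : V →ₗ[F] V →ₛₗ[σ] F}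

/-- a transvection with parameter zero is trivial -/
theorem utv_zero' (a : V) : utv B a 0 = 1 := by
  by_cases ha : B a a = 0
  · ext x
    rw [utv_apply B ha]
    simp
  · simp [utv, ha]

/-- a transvection with centre zero is trivial -/
theorem utv_zero_centre (c : F) : utv B (0 : V) c = 1 := by
  have h0 : B (0 : V) 0 = 0 := by simp
  ext x
  rw [utv_apply B h0]
  simp

/-- S2153-GEN (S/M).  Over the field with 4 elements the transvections `utv B u 1` generate
`tvGroup B U` and are all conjugate (`exists_tv_iso`, `conj_utv`). -/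
theorem GEN_closure (hF : Fintype.card F = 4) (hσ : Invol σ) (U : Submodule F V)
    (H : Subgroup (V ≃ₗ[F] V)) (hH : ∀ u ∈ U, u ≠ 0 → B u u = 0 → utv B u 1 ∈ H) :
    tvGroup B U ≤ H := by
  obtain ⟨h2, -, hfix, -⟩ := Cfsg.Agent.Lib.Helper33_S2153_F4.F4 hF hσ
  apply tvGroup_le
  intro a haU ha c hc
  have hneg : -c = c := by
    have := h2 c
    exact neg_eq_of_add_eq_zero_left this
  rw [hneg] at hc
  rcases hfix c hc with rfl | rfl
  · rw [utv_zero']
    exact H.one_mem
  · by_cases ha0 : a = 0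
    · rw [ha0, utv_zero_centre]
      exact H.one_mem
    · exact hH a haU ha0 ha

theorem GEN_conj (hσ : Invol σ) (hB : IsHerm B) {U : Submodule F V} (hU : NondegOn B U)
    (h3 : 3 ≤ finrank F U) {u u' : V} (huU : u ∈ U) (hu'U : u' ∈ U) (hu0 : u ≠ 0) (hu'0 : u' ≠ 0)
    (hu : B u u = 0) (hu' : B u' u' = 0) :
    ∃ g ∈ tvGroup B U, g u = u' ∧ g * utv B u 1 * g⁻¹ = utv B u' 1 := by
  obtain ⟨t, ht, htu⟩ :=
    Cfsg.Agent.Lib.Helper94_HermWitt.exists_tv_iso hσ hB hU h3 huU hu'U hu0 hu'0 hu hu'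
  refine ⟨t, ht, htu, ?_⟩
  rw [conj_utv (tvGroup_le_uG hB U ht) u 1, htu]

end Cfsg.Agent.Lib.Helper54_S2153_GEN
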