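import Mathlib
import Cfsg.Agent.Lib.Helper94_Herm
import Cfsg.Agent.Lib.Helper94_HermTrans
import Cfsg.Agent.Lib.Helper94_HermEich
import Cfsg.Agent.Lib.Helper94_HermPara
import Cfsg.Agent.Lib.Helper94_HermWitt
import Cfsg.Agent.Lib.Helper94_HermIrr
import Cfsg.Agent.Lib.Helper13_SUGen
import Cfsg.Agent.Lib.Helper33_U2Defs
import Cfsg.Agent.Lib.Helper33_U2Geo
import Cfsg.Agent.Lib.Helper33_S2153_F4

/-!
# S2153 Part B (architect helper33), package DEIG: the element `d = utv a 1 * utv b 1` of order 3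
attached to a hyperbolic pair over the field with 4 elements
-/

set_option autoImplicit false

open Module Cfsg.Agent.Lib.Helper94_Symp Cfsg.Agent.Lib.Helper94_Herm
  Cfsg.Agent.Lib.Helper94_HermTrans Cfsg.Agent.Lib.Helper94_HermEich
  Cfsg.Agent.Lib.Helper13_SUGen
  Cfsg.Agent.Lib.Helper33_U2Defs Cfsg.Agent.Lib.Helper33_U2Geo

namespace Cfsg.Agent.Lib.Helper54_S2153_DEIG

variable {F V : Type*} [Field F] [Fintype F] [AddCommGroup V] [Module F V] [FiniteDimensional F V]
variable {σ : F →+* F} {B : V →ₗ[F] V →ₛₗ[σ] F}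

/-- S2153-DEIG (S/M).  The element `d = utv a 1 * utv b 1` of order 3 attached to a hyperbolic pair. -/
theorem DEIG (hF : Fintype.card F = 4) (hσ : Invol σ) (hB : IsHerm B) {a b : V} (h : HypPair B a b)
    {ω : F} (hω : ω ^ 2 + ω + 1 = 0) :
    (utv B a 1 * utv B b 1) a = b ∧ (utv B a 1 * utv B b 1) b = a + b ∧
    (∀ x : V, B x a = 0 → B x b = 0 → (utv B a 1 * utv B b 1) x = x) ∧
    (utv B a 1 * utv B b 1) (a + ω • b) = ω • (a + ω • b) ∧
    (utv B a 1 * utv B b 1) (a + (ω + 1) • b) = (ω + 1) • (a + (ω + 1) • b) ∧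
    B (a + ω • b) (a + ω • b) = 1 ∧ B (a + (ω + 1) • b) (a + (ω + 1) • b) = 1 ∧
    B (a + ω • b) (a + (ω + 1) • b) = 0 ∧ (utv B a 1 * utv B b 1) ^ 3 = 1 ∧
    (utv B b 1 * utv B a 1) = (utv B a 1 * utv B b 1)⁻¹ := by
  obtain ⟨hchar, hsq, -, -⟩ := Cfsg.Agent.Lib.Helper33_S2153_F4.F4 hF hσ
  have h2 : (2 : F) = 0 := by
    have := hchar 1
    rw [← this]; norm_num
  have h2v : ∀ x : V, x + x = 0 := fun x => by rw [← two_smul F x, h2, zero_smul]
  have hω2 : ω ^ 2 = ω + 1 := by linear_combination hω - (ω + 1) * h2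
  have hωω : ω * ω = ω + 1 := by rw [← pow_two, hω2]
  have hω1 : (ω + 1) * (ω + 1) = ω := by linear_combination hω
  have hσω : σ ω = ω + 1 := by rw [hsq ω, hω2]
  have hσω1 : σ (ω + 1) = ω := by
    rw [map_add, map_one, hσω]
    linear_combination h2
  -- the two transvections on the pair
  have e1 : utv B b 1 a = a + b := by rw [utv_apply B h.ff, h.ef, mul_one, one_smul]
  have e2 : utv B a 1 b = a + b := by rw [utv_apply B h.ee, h.fe, mul_one, one_smul, add_comm]
  have e3 : utv B a 1 a = a := utv_self B a 1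
  have e4 : utv B b 1 b = b := utv_self B b 1
  have hda : (utv B a 1 * utv B b 1) a = b := by
    rw [LinearEquiv.mul_apply, e1, map_add, e3, e2, ← add_assoc, h2v, zero_add]
  have hdb : (utv B a 1 * utv B b 1) b = a + b := by
    rw [LinearEquiv.mul_apply, e4, e2]
  have hdx : ∀ x : V, B x a = 0 → B x b = 0 → (utv B a 1 * utv B b 1) x = x := by
    intro x hxa hxb
    rw [LinearEquiv.mul_apply, utv_fix B b 1 hxb, utv_fix B a 1 hxa]
  have hdab : (utv B a 1 * utv B b 1) (a + b) = a := by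
    rw [map_add, hda, hdb, add_comm a b, ← add_assoc, h2v, zero_add]
  refine ⟨hda, hdb, hdx, ?_, ?_, ?_, ?_, ?_, ?_, ?_⟩
  · rw [map_add, map_smul, hda, hdb, smul_add, smul_add, smul_smul, hωω]
    module
  · rw [map_add, map_smul, hda, hdb, smul_add, smul_add, smul_smul, hω1]
    have : b + ((ω + 1) • a + (ω + 1) • b) = (ω + 1) • a + ω • b + (2 : F) • b := by module
    rw [this, h2, zero_smul, add_zero]
  · simp only [map_add, map_smul, map_smulₛₗ, LinearMap.add_apply, LinearMap.smul_apply,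
      smul_eq_mul, h.ee, h.ff, h.ef, h.fe, hσω]
    linear_combination ω * h2
  · simp only [map_add, map_smul, map_smulₛₗ, LinearMap.add_apply, LinearMap.smul_apply,
      smul_eq_mul, h.ee, h.ff, h.ef, h.fe, hσω1]
    linear_combination ω * h2
  · simp only [map_add, map_smul, map_smulₛₗ, LinearMap.add_apply, LinearMap.smul_apply,
      smul_eq_mul, h.ee, h.ff, h.ef, h.fe, hσω1]
    linear_combination ω * h2
  · apply ext_pair h
    · rw [pow_succ, pow_two, LinearEquiv.mul_apply, LinearEquiv.mul_apply, hda, hdb, hdab]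
      rfl
    · rw [pow_succ, pow_two, LinearEquiv.mul_apply, LinearEquiv.mul_apply, hdb, hdab, hda]
      rfl
    · intro m hma hmb
      rw [pow_succ, pow_two, LinearEquiv.mul_apply, LinearEquiv.mul_apply, hdx m hma hmb,
        hdx m hma hmb, hdx m hma hmb]
      rfl
  · apply eq_inv_of_mul_eq_one_left
    have hsq1 : ∀ v : V, utv B v 1 * utv B v 1 = 1 := by
      intro v
      by_cases hv : B v v = 0
      · ext x
        rw [LinearEquiv.mul_apply, utv_apply B hv, utv_apply B hv]
        simp only [map_add, map_smul, LinearMap.add_apply, LinearMap.smul_apply, smul_eq_mul, hv,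
          mul_zero, add_zero, one_mul, LinearEquiv.coe_one, id_eq]
        rw [add_assoc, h2v, add_zero]
      · simp [utv, hv]
    calc utv B b 1 * utv B a 1 * (utv B a 1 * utv B b 1)
        = utv B b 1 * (utv B a 1 * utv B a 1) * utv B b 1 := by group
      _ = 1 := by rw [hsq1 a, mul_one, hsq1 b]

end Cfsg.Agent.Lib.Helper54_S2153_DEIG
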