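import Mathlib
import Cfsg.Agent.Lib.Helper94_Herm
import Cfsg.Agent.Lib.Helper94_HermTrans
import Cfsg.Agent.Lib.Helper94_HermEich
import Cfsg.Agent.Lib.Helper94_HermPara
import Cfsg.Agent.Lib.Helper94_HermWitt
import Cfsg.Agent.Lib.Helper94_HermIrr
import Cfsg.Agent.Lib.Helper13_SUGen
import Cfsg.Agent.Lib.Helper33_U2Defs
import Cfsg.Agent.Lib.Helper33_U2Geo
import Cfsg.Agent.Lib.Helper33_S2153_F4
import Cfsg.Agent.Lib.Helper33_S2153_QSTR
import Cfsg.Agent.Lib.Helper33_S2153_GOK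
import Cfsg.Agent.Lib.Helper54_S2153_DEIG

/-!
# S2153 Part B (architect helper33), package GT4: in dimension 4 over the field with 4 elements the
group `KFull` is transitive on the nonzero singular vectors of `W = ⟨v, v'⟩^⊥`
-/

set_option autoImplicit false

open Module Cfsg.Agent.Lib.Helper94_Symp Cfsg.Agent.Lib.Helper94_Herm
  Cfsg.Agent.Lib.Helper94_HermTrans Cfsg.Agent.Lib.Helper94_HermEich
  Cfsg.Agent.Lib.Helper13_SUGen
  Cfsg.Agent.Lib.Helper33_U2Defs Cfsg.Agent.Lib.Helper33_U2Geo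

namespace Cfsg.Agent.Lib.Helper54_S2153_GT4

variable {F V : Type*} [Field F] [Fintype F] [AddCommGroup V] [Module F V] [FiniteDimensional F V]
variable {σ : F →+* F} {B : V →ₗ[F] V →ₛₗ[σ] F}

/-- For an orthonormal pair `e₁, e₂` there is a product of two transvections acting as `ω` on `e₁`,
as `ω + 1` on `e₂` and trivially on the orthogonal complement. -/
lemma exists_diag (hF : Fintype.card F = 4) (hσ : Invol σ) (hB : IsHerm B)
    {ω : F} (hω : ω ^ 2 + ω + 1 = 0) {U : Submodule F V} {e₁ e₂ : V} (h1U : e₁ ∈ U)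
    (h2U : e₂ ∈ U) (h11 : B e₁ e₁ = 1) (h22 : B e₂ e₂ = 1) (h12 : B e₁ e₂ = 0) :
    ∃ g ∈ tvGroup B U, g e₁ = ω • e₁ ∧ g e₂ = (ω + 1) • e₂ ∧
      ∀ x : V, B x e₁ = 0 → B x e₂ = 0 → g x = x := by
  obtain ⟨hchar, hsq, -, -⟩ := Cfsg.Agent.Lib.Helper33_S2153_F4.F4 hF hσ
  have h2 : (2 : F) = 0 := by
    have := hchar 1
    rw [← this]; norm_num
  have hω2 : ω ^ 2 = ω + 1 := by linear_combination hω - (ω + 1) * h2
  have hσω : σ ω = ω + 1 := by rw [hsq ω, hω2]
  have h21 : B e₂ e₁ = 0 := herm_eq_zero hB h12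
  have hpq : HypPair B ((1 + ω) • e₁ + ω • e₂) (e₁ + e₂) := by
    refine ⟨?_, ?_, ?_, ?_⟩
    · simp only [map_add, map_smul, map_smulₛₗ, LinearMap.add_apply, LinearMap.smul_apply,
        smul_eq_mul, h11, h22, h12, h21, hσω, map_one]
      linear_combination (ω + 1) * h2 - 2 * hω + (1 + 2 * ω + 2 * ω ^ 2) * h2
    · simp only [map_add, LinearMap.add_apply, h11, h22, h12, h21]
      linear_combination h2
    · simp only [map_add, map_smul, LinearMap.add_apply, LinearMap.smul_apply,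
        smul_eq_mul, h11, h22, h12, h21]
      linear_combination ω * h2
    · simp only [map_add, map_smulₛₗ, LinearMap.add_apply,
        smul_eq_mul, h11, h22, h12, h21, hσω, map_one]
      linear_combination (ω + 1) * h2
  obtain ⟨-, -, hdx, hd1, hd2, -, -, -, -, -⟩ :=
    Cfsg.Agent.Lib.Helper54_S2153_DEIG.DEIG hF hσ hB hpq hω
  have hc1 : σ (1 : F) = -1 := by
    rw [map_one]
    linear_combination h2
  have hp1 : (1 + ω) • e₁ + ω • e₂ + ω • (e₁ + e₂) = e₁ := by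
    have : (1 + ω) • e₁ + ω • e₂ + ω • (e₁ + e₂) = e₁ + (2 : F) • (ω • e₁ + ω • e₂) := by module
    rw [this, h2, zero_smul, add_zero]
  have hp2 : (1 + ω) • e₁ + ω • e₂ + (ω + 1) • (e₁ + e₂) = e₂ := by
    have : (1 + ω) • e₁ + ω • e₂ + (ω + 1) • (e₁ + e₂) =
        e₂ + (2 : F) • ((ω + 1) • e₁ + ω • e₂) := by module
    rw [this, h2, zero_smul, add_zero]
  rw [hp1] at hd1
  rw [hp2] at hd2
  refine ⟨utv B ((1 + ω) • e₁ + ω • e₂) 1 * utv B (e₁ + e₂) 1, ?_, hd1, hd2, ?_⟩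
  · exact (tvGroup B U).mul_mem
      (utv_mem_tvGroup (U.add_mem (U.smul_mem _ h1U) (U.smul_mem _ h2U)) hpq.ee hc1)
      (utv_mem_tvGroup (U.add_mem h1U h2U) hpq.ff hc1)
  · intro x hx1 hx2
    apply hdx x
    · simp only [map_add, map_smulₛₗ, hx1, hx2, smul_zero, add_zero]
    · simp only [map_add, hx1, hx2, add_zero]

/-- For two orthogonal hyperbolic pairs `(v, v')`, `(a, b)` there is a product of transvections
acting as `ω` on `v, v'` and as `ω + 1` on `a, b`. -/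
lemma exists_z (hF : Fintype.card F = 4) (hσ : Invol σ) (hB : IsHerm B)
    {ω : F} (hω : ω ^ 2 + ω + 1 = 0) {U : Submodule F V} {v v' a b : V} (hvU : v ∈ U)
    (hv'U : v' ∈ U) (haU : a ∈ U) (hbU : b ∈ U) (h : HypPair B v v') (h' : HypPair B a b)
    (hav : B a v = 0) (hav' : B a v' = 0) (hbv : B b v = 0) (hbv' : B b v' = 0) :
    ∃ z ∈ tvGroup B U, z v = ω • v ∧ z v' = ω • v' ∧ z a = (ω + 1) • a ∧ z b = (ω + 1) • b := by
  obtain ⟨hchar, hsq, -, -⟩ := Cfsg.Agent.Lib.Helper33_S2153_F4.F4 hF hσ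
  have h2 : (2 : F) = 0 := by
    have := hchar 1
    rw [← this]; norm_num
  have hω2 : ω ^ 2 = ω + 1 := by linear_combination hω - (ω + 1) * h2
  have hσω : σ ω = ω + 1 := by rw [hsq ω, hω2]
  have hva : B v a = 0 := herm_eq_zero hB hav
  have hv'a : B v' a = 0 := herm_eq_zero hB hav'
  have hvb : B v b = 0 := herm_eq_zero hB hbv
  have hv'b : B v' b = 0 := herm_eq_zero hB hbv'
  obtain ⟨-, -, -, -, -, hx11, hx22, hx12, -, -⟩ :=
    Cfsg.Agent.Lib.Helper54_S2153_DEIG.DEIG hF hσ hB h hω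
  obtain ⟨-, -, -, -, -, hy11, hy22, hy12, -, -⟩ :=
    Cfsg.Agent.Lib.Helper54_S2153_DEIG.DEIG hF hσ hB h' hω
  have hx21 := herm_eq_zero hB hx12
  have hy21 := herm_eq_zero hB hy12
  -- cross terms vanish
  have hxy : ∀ c d : F, B (v + c • v') (a + d • b) = 0 := by
    intro c d
    simp only [map_add, map_smul, map_smulₛₗ, LinearMap.add_apply, LinearMap.smul_apply,
      smul_eq_mul, hva, hv'a, hvb, hv'b, mul_zero, add_zero]
  have hyx : ∀ c d : F, B (a + d • b) (v + c • v') = 0 := fun c d => herm_eq_zero hB (hxy c d)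
  have hx1U : v + ω • v' ∈ U := U.add_mem hvU (U.smul_mem _ hv'U)
  have hx2U : v + (ω + 1) • v' ∈ U := U.add_mem hvU (U.smul_mem _ hv'U)
  have hy1U : a + ω • b ∈ U := U.add_mem haU (U.smul_mem _ hbU)
  have hy2U : a + (ω + 1) • b ∈ U := U.add_mem haU (U.smul_mem _ hbU)
  obtain ⟨g₁, hg₁, hg₁x, hg₁y, hg₁f⟩ :=
    exists_diag hF hσ hB hω hx1U hy1U hx11 hy11 (hxy ω ω)
  obtain ⟨g₂, hg₂, hg₂x, hg₂y, hg₂f⟩ :=
    exists_diag hF hσ hB hω hx2U hy2U hx22 hy22 (hxy (ω + 1) (ω + 1))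
  -- action of the product on the four orthonormal vectors
  have z1 : (g₁ * g₂) (v + ω • v') = ω • (v + ω • v') := by
    rw [LinearEquiv.mul_apply, hg₂f _ hx12 (hxy _ _), hg₁x]
  have z2 : (g₁ * g₂) (v + (ω + 1) • v') = ω • (v + (ω + 1) • v') := by
    rw [LinearEquiv.mul_apply, hg₂x, map_smul, hg₁f _ hx21 (hxy _ _)]
  have z3 : (g₁ * g₂) (a + ω • b) = (ω + 1) • (a + ω • b) := by
    rw [LinearEquiv.mul_apply, hg₂f _ (hyx _ _) hy12, hg₁y]
  have z4 : (g₁ * g₂) (a + (ω + 1) • b) = (ω + 1) • (a + (ω + 1) • b) := by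
    rw [LinearEquiv.mul_apply, hg₂y, map_smul, hg₁f _ (hyx _ _) hy21]
  -- decomposition of the hyperbolic pairs
  have dec1 : ∀ p q : V, q = (p + ω • q) + (p + (ω + 1) • q) := by
    intro p q
    have : (p + ω • q) + (p + (ω + 1) • q) = q + (2 : F) • (p + ω • q) := by module
    rw [this, h2, zero_smul, add_zero]
  have dec2 : ∀ p q : V, p = (1 + ω) • (p + ω • q) + ω • (p + (ω + 1) • q) := by
    intro p q
    have : (1 + ω) • (p + ω • q) + ω • (p + (ω + 1) • q) =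
        p + (2 : F) • (ω • p + (ω * (ω + 1)) • q) := by module
    rw [this, h2, zero_smul, add_zero]
  have key : ∀ (p q : V) (c : F), (g₁ * g₂) (p + ω • q) = c • (p + ω • q) →
      (g₁ * g₂) (p + (ω + 1) • q) = c • (p + (ω + 1) • q) →
      (g₁ * g₂) p = c • p ∧ (g₁ * g₂) q = c • q := by
    intro p q c e1 e2
    constructor
    · conv_lhs => rw [dec2 p q]
      rw [map_add, map_smul, map_smul, e1, e2, smul_comm (1 + ω) c, smul_comm ω c, ← smul_add,
        ← dec2 p q]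
    · conv_lhs => rw [dec1 p q]
      rw [map_add, e1, e2, ← smul_add, ← dec1 p q]
  obtain ⟨zv, zv'⟩ := key v v' ω z1 z2
  obtain ⟨za, zb⟩ := key a b (ω + 1) z3 z4
  exact ⟨g₁ * g₂, (tvGroup B U).mul_mem hg₁ hg₂, zv, zv', za, zb⟩

/-- An element of `tvGroup B U` scaling `v` and `v'` lies in `KFull`, and `ρ` is computed by the
evident formula. -/
lemma finish {U : Submodule F V} {v v' : V} (h : HypPair B v v') (k : V ≃ₗ[F] V)
    (hk : k ∈ tvGroup B U) {l l' : F} (hkv : k v = l • v) (hkv' : k v' = l' • v')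
    (w w' : ↥(Wsub B U v v')) (he : σ l • k (w : V) = (w' : V)) :
    ∃ k ∈ KFull B U v v', (qdatA B U v v' (KFull B U v v')).ρ k w = w' := by
  refine ⟨k, ⟨⟨hk, ?_⟩, ?_⟩, ?_⟩
  · apply mem_stab_of_forall_mem
    intro x hx
    obtain ⟨c, rfl⟩ := Submodule.mem_span_singleton.mp hx
    rw [map_smul, hkv, smul_smul]
    exact Submodule.smul_mem _ _ (Submodule.mem_span_singleton_self v)
  · apply mem_stab_of_forall_mem
    intro x hx
    obtain ⟨c, rfl⟩ := Submodule.mem_span_singleton.mp hx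
    rw [map_smul, hkv', smul_smul]
    exact Submodule.smul_mem _ _ (Submodule.mem_span_singleton_self v')
  · have hl : B (k v) v' = l := by
      rw [hkv, map_smul, LinearMap.smul_apply, h.ef, smul_eq_mul, mul_one]
    have := Cfsg.Agent.Lib.Helper33_S2153_GOK.rho_eq (B := B) (U := U) (v := v) (v' := v')
      (KFull B U v v') k w w'.2 (by rw [hl]; exact he)
    rw [this]

/-- S2153-GT4 (L).  `KFull` is transitive on the nonzero singular vectors of `W`. -/
theorem GT4 (hF : Fintype.card F = 4) (hσ : Invol σ) (hB : IsHerm B) {U : Submodule F V}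
    (hU : NondegOn B U) (hdim : finrank F U = 4) {v v' : V} (hvU : v ∈ U) (hv'U : v' ∈ U)
    (h : HypPair B v v') :
    ∀ w w' : ↥(Wsub B U v v'), w ≠ 0 → w' ≠ 0 →
      (qdatA B U v v' (KFull B U v v')).qf w = 0 → (qdatA B U v v' (KFull B U v v')).qf w' = 0 →
      ∃ k ∈ KFull B U v v', (qdatA B U v v' (KFull B U v v')).ρ k w = w' := by
  classical
  intro w w' hw0 hw'0 hq hq'
  obtain ⟨hchar, hsq, -, -, ⟨ω, hω, hσω, -, -, hall⟩, -⟩ :=
    Cfsg.Agent.Lib.Helper33_S2153_F4.F4 hF hσ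
  have h2 : (2 : F) = 0 := by
    have := hchar 1
    rw [← this]; norm_num
  have hω2 : ω ^ 2 = ω + 1 := by linear_combination hω - (ω + 1) * h2
  have hσω1 : σ (ω + 1) = ω := by
    rw [map_add, map_one, hσω]
    linear_combination h2
  -- the two vectors are isotropic
  have hnz : ∀ x : F, nz2 x = 0 → x = 0 := by
    intro x hx
    by_contra hne
    unfold nz2 at hx
    rw [if_neg hne] at hx
    exact one_ne_zero hx
  have hww : B (w : V) (w : V) = 0 := hnz _ hq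
  have hw'w' : B (w' : V) (w' : V) = 0 := hnz _ hq'
  have hwV0 : (w : V) ≠ 0 := fun h0 => hw0 (Subtype.ext h0)
  have hw'V0 : (w' : V) ≠ 0 := fun h0 => hw'0 (Subtype.ext h0)
  have hWnd : NondegOn B (Wsub B U v v') := nondegOn_pair hB hU hvU hv'U h.ee h.ff h.ef
  have hWU : Wsub B U v v' ≤ U := fun x hx => (Cfsg.Agent.Lib.Helper33_S2153_QSTR.mem_Wsub.mp hx).1
  -- move `w` to a multiple of `w'` inside `W`
  obtain ⟨t, ht, μ, hμ0, htw⟩ :=
    exists_tv_move_point hσ hB hWnd w.2 w'.2 hwV0 hw'V0 hww hw'w'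
  have htU : t ∈ tvGroup B U := tvGroup_mono hWU ht
  have htv : t v = v := by
    apply tvGroup_fix _ ht
    intro x hx
    exact herm_eq_zero hB (Cfsg.Agent.Lib.Helper33_S2153_QSTR.mem_Wsub.mp hx).2.1
  have htv' : t v' = v' := by
    apply tvGroup_fix _ ht
    intro x hx
    exact herm_eq_zero hB (Cfsg.Agent.Lib.Helper33_S2153_QSTR.mem_Wsub.mp hx).2.2
  -- a partner of `w'` in `W`, and the diagonal element
  obtain ⟨b, hbW, hbb, hw'b⟩ := exists_partner hσ hB hWnd w'.2 hw'V0 hw'w'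
  have hpair : HypPair B (w' : V) b := hypPair_mk hB hw'w' hbb hw'b
  obtain ⟨-, hw'v, hw'v'⟩ := Cfsg.Agent.Lib.Helper33_S2153_QSTR.mem_Wsub.mp w'.2
  obtain ⟨-, hbv, hbv'⟩ := Cfsg.Agent.Lib.Helper33_S2153_QSTR.mem_Wsub.mp hbW
  obtain ⟨z, hz, hzv, hzv', hzw', -⟩ :=
    exists_z hF hσ hB hω hvU hv'U (hWU w'.2) (hWU hbW) h hpair hw'v hw'v' hbv hbv'
  obtain hμ | hμ | hμ | hμ := hall μ
  · exact absurd hμ hμ0
  · -- `μ = 1`
    rw [hμ] at htw
    refine finish h t htU (l := 1) (l' := 1) (by rw [htv, one_smul]) (by rw [htv', one_smul])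
      w w' ?_
    rw [map_one, one_smul, htw, one_smul]
  · -- `μ = ω`
    rw [hμ] at htw
    refine finish h (z * z * t) ((tvGroup B U).mul_mem ((tvGroup B U).mul_mem hz hz) htU)
      (l := ω * ω) (l' := ω * ω) ?_ ?_ w w' ?_
    · rw [LinearEquiv.mul_apply, LinearEquiv.mul_apply, htv, hzv, map_smul, hzv, smul_smul]
    · rw [LinearEquiv.mul_apply, LinearEquiv.mul_apply, htv', hzv', map_smul, hzv', smul_smul]
    · rw [LinearEquiv.mul_apply, LinearEquiv.mul_apply, htw, map_smul, hzw', map_smul, map_smul,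
        hzw', smul_smul, smul_smul, smul_smul, map_mul, hσω]
      convert one_smul F (w' : V) using 2
      linear_combination (ω ^ 3 + 3 * ω ^ 2 + 2 * ω - 1) * hω
  · -- `μ = ω + 1`
    rw [hμ] at htw
    refine finish h (z * t) ((tvGroup B U).mul_mem hz htU)
      (l := ω) (l' := ω) ?_ ?_ w w' ?_
    · rw [LinearEquiv.mul_apply, htv, hzv]
    · rw [LinearEquiv.mul_apply, htv', hzv']
    · rw [LinearEquiv.mul_apply, htw, map_smul, hzw', smul_smul, smul_smul, hσω]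
      convert one_smul F (w' : V) using 2
      linear_combination (ω + 2) * hω - h2

end Cfsg.Agent.Lib.Helper54_S2153_GT4
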