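import Mathlib
import Cfsg.Agent.Lib.Helper94_Herm
import Cfsg.Agent.Lib.Helper94_HermTrans
import Cfsg.Agent.Lib.Helper94_HermEich
import Cfsg.Agent.Lib.Helper94_HermPara
import Cfsg.Agent.Lib.Helper94_HermWitt
import Cfsg.Agent.Lib.Helper94_HermIrr
import Cfsg.Agent.Lib.Helper13_SUGen
import Cfsg.Agent.Lib.Helper33_U2Defs
import Cfsg.Agent.Lib.Helper33_U2Geo
import Cfsg.Agent.Lib.Helper27_UQ_KISO
import Cfsg.Agent.Lib.Helper27_UQ_CARD
import Cfsg.Agent.Lib.Helper9_S2151_CNT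

/-!
# S2153 package GCNT (architect helper33): the number of nonzero isotropic vectors of a nondegenerate subspace of even
dimension over the field with four elements, and `finrank W + 2 = finrank U`.
-/

set_option autoImplicit false

open Module Cfsg.Agent.Lib.Helper94_Symp Cfsg.Agent.Lib.Helper94_Herm
  Cfsg.Agent.Lib.Helper94_HermTrans Cfsg.Agent.Lib.Helper94_HermEich
  Cfsg.Agent.Lib.Helper13_SUGen
  Cfsg.Agent.Lib.Helper33_U2Defs Cfsg.Agent.Lib.Helper33_U2Geo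

namespace Cfsg.Agent.Lib.Helper55_S2153_GCNT

variable {F V : Type*} [Field F] [Fintype F] [AddCommGroup V] [Module F V] [FiniteDimensional F V]
variable {σ : F →+* F} {B : V →ₗ[F] V →ₛₗ[σ] F}

/-- pure arithmetic: solving the closed form of `Helper9_S2151_CNT.PA` at `q = 2`, `n = 2k` -/
theorem arith (k n : ℕ) (h : 2 * (n + 1) + 2 ^ (2 * k) = 2 ^ (2 * (2 * k)) + 2 ^ (2 * k + 1)) :
    n = (4 ^ k - 1) * (2 ^ (2 * k - 1) + 1) := by
  rcases Nat.eq_zero_or_pos k with rfl | hk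
  · simp at h ⊢
    omega
  · obtain ⟨j, rfl⟩ : ∃ j, k = j + 1 := ⟨k - 1, by omega⟩
    obtain ⟨P, hP⟩ : ∃ P, P = 2 ^ (2 * j + 1) := ⟨_, rfl⟩
    have hP1 : 1 ≤ P := by rw [hP]; exact Nat.one_le_two_pow
    have e1 : 2 ^ (2 * (j + 1)) = 2 * P := by rw [hP]; ring
    have e2 : 2 ^ (2 * (2 * (j + 1))) = 4 * P * P := by rw [hP]; ring
    have e3 : 2 ^ (2 * (j + 1) + 1) = 4 * P := by rw [hP]; ring
    have e4 : 4 ^ (j + 1) = 2 * P := by
      rw [hP, show (4 : ℕ) = 2 ^ 2 by norm_num, ← pow_mul]; ring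
    have e5 : 2 * (j + 1) - 1 = 2 * j + 1 := by omega
    rw [e1, e2, e3] at h
    rw [e4, e5, ← hP]
    obtain ⟨P', rfl⟩ : ∃ P', P = P' + 1 := ⟨P - 1, by omega⟩
    have e6 : 2 * (P' + 1) - 1 = 2 * P' + 1 := by omega
    rw [e6]
    nlinarith

theorem GCNT (hF : Fintype.card F = 4) (hσ : Invol σ) (hB : IsHerm B) (k : ℕ) (U : Submodule F V)
    (hU : NondegOn B U) (hdim : finrank F U = 2 * k) :
    Nat.card {u : V // u ∈ U ∧ u ≠ 0 ∧ B u u = 0} = (4 ^ k - 1) * (2 ^ (2 * k - 1) + 1) := by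
  classical
  have hF' : Nat.card F = 2 ^ 2 := by rw [Nat.card_eq_fintype_card, hF]; norm_num
  have hVfin : Finite V := Module.finite_of_finite F
  have h := (Cfsg.Agent.Lib.Helper9_S2151_CNT.aux hσ hF' (2 * k) ↥U
    (Cfsg.Agent.Lib.Helper27_UQ_KISO.Bw B U) (Cfsg.Agent.Lib.Helper27_UQ_KISO.isHerm_Bw hB U)
    (Cfsg.Agent.Lib.Helper27_UQ_KISO.nondeg_Bw hU) hdim).1
  unfold Cfsg.Agent.Lib.Helper9_S2151_CNT.PA at h
  rw [if_pos (even_two_mul k), if_pos (even_two_mul k)] at h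
  apply arith
  rw [← h]
  congr 2
  -- the count with zero included
  have e : {x : ↥U // Cfsg.Agent.Lib.Helper27_UQ_KISO.Bw B U x x = 0} ≃
      ↥(insert (0 : V) {u : V | u ∈ U ∧ u ≠ 0 ∧ B u u = 0}) :=
    { toFun := fun x => ⟨(x.1 : V), by
        by_cases h0 : (x.1 : V) = 0
        · rw [h0]; exact Set.mem_insert _ _
        · exact Set.mem_insert_of_mem _ ⟨x.1.2, h0, x.2⟩⟩
      invFun := fun u => ⟨⟨u.1, by
        rcases u.2 with h0 | h1
        · rw [h0]; exact U.zero_mem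
        · exact h1.1⟩, by
        rcases u.2 with h0 | h1
        · show B u.1 u.1 = 0
          rw [h0]; simp
        · exact h1.2.2⟩
      left_inv := fun x => rfl
      right_inv := fun u => rfl }
  rw [Nat.card_congr e, _root_.Nat.card_coe_set_eq, Set.ncard_insert_of_notMem (fun h0 => h0.2.1 rfl)
    (Set.toFinite _)]
  rfl

theorem GCNT_finrank (hB : IsHerm B) {U : Submodule F V} {v v' : V} (hvU : v ∈ U) (hv'U : v' ∈ U)
    (h : HypPair B v v') : finrank F (Wsub B U v v') + 2 = finrank F U := by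
  have hp : HypPair (Cfsg.Agent.Lib.Helper27_UQ_KISO.Bw B U) (⟨v, hvU⟩ : ↥U) ⟨v', hv'U⟩ :=
    ⟨h.ee, h.ff, h.ef, h.fe⟩
  have h1 := Cfsg.Agent.Lib.Helper27_UQ_CARD.finrank_Wsub hp
  rw [← h1]
  congr 1
  have hle : Wsub B U v v' ≤ U := fun x hx => hx.1.1
  have heq : Cfsg.Agent.Lib.Helper27_UQDefs.Wsub (Cfsg.Agent.Lib.Helper27_UQ_KISO.Bw B U)
      (⟨v, hvU⟩ : ↥U) ⟨v', hv'U⟩ = Submodule.comap U.subtype (Wsub B U v v') := by
    ext x
    rw [Cfsg.Agent.Lib.Helper27_UQDefs.mem_Wsub, Submodule.mem_comap]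
    constructor
    · rintro ⟨h1, h2⟩
      exact ⟨⟨x.2, mem_orthV.mpr h1⟩, mem_orthV.mpr h2⟩
    · rintro ⟨⟨-, h1⟩, h2⟩
      exact ⟨mem_orthV.mp h1, mem_orthV.mp h2⟩
  rw [heq]
  exact (LinearEquiv.finrank_eq (Submodule.comapSubtypeEquivOfLe hle)).symm

end Cfsg.Agent.Lib.Helper55_S2153_GCNT
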