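import Mathlib
import Cfsg.Agent.Lib.Helper94_Herm
import Cfsg.Agent.Lib.Helper94_HermTrans
import Cfsg.Agent.Lib.Helper94_HermEich
import Cfsg.Agent.Lib.Helper94_HermPara
import Cfsg.Agent.Lib.Helper94_HermWitt
import Cfsg.Agent.Lib.Helper94_HermIrr
import Cfsg.Agent.Lib.Helper13_SUGen
import Cfsg.Agent.Lib.Helper33_U2Defs
import Cfsg.Agent.Lib.Helper33_U2Geo
import Cfsg.Agent.Lib.Helper33_S2153_F4
import Cfsg.Agent.Lib.Helper54_S2153_DEIG
import Cfsg.Agent.Lib.Helper52_S2153_CNT9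
import Cfsg.Agent.Lib.Helper55_S2153_GCNT

/-!
# S2153 package REG6, core (architect helper33): STEP 4 in dimension 6, with the fixed-point formula FIX as a hypothesis
-/

set_option autoImplicit false

open Module Cfsg.Agent.Lib.Helper94_Symp Cfsg.Agent.Lib.Helper94_Herm
  Cfsg.Agent.Lib.Helper94_HermTrans Cfsg.Agent.Lib.Helper94_HermEich
  Cfsg.Agent.Lib.Helper13_SUGen
  Cfsg.Agent.Lib.Helper33_U2Defs Cfsg.Agent.Lib.Helper33_U2Geo

namespace Cfsg.Agent.Lib.Helper55_S2153_REG6core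

/-- two commuting elements of order dividing three generate a 3-group -/
theorem pgroup_closure_pair {G : Type*} [Group G] (x y : G) (hx : x ^ 3 = 1) (hy : y ^ 3 = 1)
    (hc : x * y = y * x) : IsPGroup 3 (Subgroup.closure ({x, y} : Set G)) := by
  have hcomm : ∀ a ∈ ({x, y} : Set G), ∀ b ∈ ({x, y} : Set G), a * b = b * a := by
    rintro a (rfl | rfl) b (rfl | rfl)
    · rfl
    · exact hc
    · exact hc.symm
    · rfl
  have hmc := Subgroup.isMulCommutative_closure hcomm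
  have h3 : ∀ s ∈ Subgroup.closure ({x, y} : Set G), s ^ 3 = 1 := by
    intro s hs
    induction hs using Subgroup.closure_induction with
    | mem a ha =>
      rcases ha with rfl | rfl
      · exact hx
      · exact hy
    | one => exact one_pow 3
    | mul a b ha hb iha ihb =>
      have hab : Commute a b := setLike_mul_comm ha hb
      rw [hab.mul_pow, iha, ihb, one_mul]
    | inv a ha iha => rw [inv_pow, iha, inv_one]
  intro s
  refine ⟨1, Subtype.ext ?_⟩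
  rw [pow_one, Subgroup.coe_pow, h3 s.1 s.2]
  rfl

variable {F V : Type*} [Field F] [Fintype F] [AddCommGroup V] [Module F V] [FiniteDimensional F V]
variable {σ : F →+* F} {B : V →ₗ[F] V →ₛₗ[σ] F}

/-- eigenvectors of an isometry for non-matching eigenvalues are orthogonal -/
theorem orth_of_eigen {g : V ≃ₗ[F] V} (hg : g ∈ uG B) {y e : V} {c μ : F} (hy : g y = c • y)
    (he : g e = μ • e) (hne : c * σ μ ≠ 1) : B y e = 0 := by
  have h1 : B (g y) (g e) = B y e := hg y e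
  rw [hy, he] at h1
  simp only [map_smul, map_smulₛₗ, LinearMap.smul_apply, smul_eq_mul] at h1
  by_contra h0
  apply hne
  have h2 : (c * σ μ - 1) * B y e = 0 := by linear_combination h1
  rcases mul_eq_zero.mp h2 with h | h
  · linear_combination h
  · exact absurd h h0

section fix

variable {U : Submodule F V} {Ω : Type*} [MulAction ↥(tvGroup B U) Ω]

/-- the fixed points of two commuting elements of order three fixing the lines of a hyperbolic pair, when the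
twisted fixed space on `W` is zero -/
theorem fix_two
    (hFIX : ∀ (v v' : V), v ∈ U → v' ∈ U → HypPair B v v' →
      (∀ ω ω' : Ω, ∃! g : ↥(tvGroup B U),
        g ∈ (QSub B U v).subgroupOf (tvGroup B U) ∧ g • ω = ω') →
      ∀ S : Subgroup ↥(tvGroup B U), IsPGroup 3 S →
      (∀ s ∈ S, ∃ l : F, (s : V ≃ₗ[F] V) v = l • v) →
      (∀ s ∈ S, ∃ l : F, (s : V ≃ₗ[F] V) v' = l • v') →
      Nat.card {ω : Ω // ∀ s ∈ S, s • ω = ω} =
        2 * Nat.card {y : V // y ∈ Wsub B U v v' ∧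
          ∀ s ∈ S, σ (B ((s : V ≃ₗ[F] V) v) v') • (s : V ≃ₗ[F] V) y = y})
    {v v' : V} (hvU : v ∈ U) (hv'U : v' ∈ U) (h : HypPair B v v')
    (hreg : ∀ ω ω' : Ω, ∃! g : ↥(tvGroup B U),
      g ∈ (QSub B U v).subgroupOf (tvGroup B U) ∧ g • ω = ω')
    (d r : ↥(tvGroup B U)) (hd3 : d ^ 3 = 1) (hr3 : r ^ 3 = 1) (hcomm : d * r = r * d)
    (hdv : (d : V ≃ₗ[F] V) v = v) (hdv' : (d : V ≃ₗ[F] V) v' = v') {lam lam' : F}
    (hrv : (r : V ≃ₗ[F] V) v = lam • v) (hrv' : (r : V ≃ₗ[F] V) v' = lam' • v')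
    (hzero : ∀ y ∈ Wsub B U v v', (d : V ≃ₗ[F] V) y = y → σ lam • (r : V ≃ₗ[F] V) y = y → y = 0) :
    Nat.card {ω : Ω // d • ω = ω ∧ r • ω = ω} = 2 := by
  classical
  obtain ⟨S, hSdef⟩ : ∃ S : Subgroup ↥(tvGroup B U), S = Subgroup.closure {d, r} := ⟨_, rfl⟩
  have hdS : d ∈ S := by rw [hSdef]; exact Subgroup.subset_closure (Set.mem_insert _ _)
  have hrS : r ∈ S := by
    rw [hSdef]; exact Subgroup.subset_closure (Set.mem_insert_of_mem _ rfl)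
  have hS3 : IsPGroup 3 S := by rw [hSdef]; exact pgroup_closure_pair d r hd3 hr3 hcomm
  have hSline : ∀ w : V, (∃ l : F, (d : V ≃ₗ[F] V) w = l • w) →
      (∃ l : F, (r : V ≃ₗ[F] V) w = l • w) →
      ∀ s ∈ S, ∃ l : F, (s : V ≃ₗ[F] V) w = l • w := by
    intro w hdw hrw
    have hle : S ≤ (stab (Submodule.span F {w})).subgroupOf (tvGroup B U) := by
      rw [hSdef, Subgroup.closure_le]
      have key : ∀ g : ↥(tvGroup B U), (∃ l : F, (g : V ≃ₗ[F] V) w = l • w) →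
          g ∈ (stab (Submodule.span F {w})).subgroupOf (tvGroup B U) := by
        rintro g ⟨l, hl⟩
        rw [Subgroup.mem_subgroupOf]
        apply mem_stab_of_forall_mem
        intro z hz
        obtain ⟨t, rfl⟩ := Submodule.mem_span_singleton.mp hz
        rw [map_smul, hl, smul_smul]
        exact Submodule.mem_span_singleton.mpr ⟨_, rfl⟩
      rintro g (rfl | rfl)
      · exact key _ hdw
      · exact key _ hrw
    intro s hs
    have h1 := hle hs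
    rw [Subgroup.mem_subgroupOf] at h1
    have h2 := (mem_stab.mp h1 w).mp (Submodule.mem_span_singleton_self w)
    obtain ⟨l, hl⟩ := Submodule.mem_span_singleton.mp h2
    exact ⟨l, hl.symm⟩
  have hcount := hFIX v v' hvU hv'U h hreg S hS3
    (hSline v ⟨1, by rw [hdv, one_smul]⟩ ⟨lam, hrv⟩)
    (hSline v' ⟨1, by rw [hdv', one_smul]⟩ ⟨lam', hrv'⟩)
  have hone : Nat.card {y : V // y ∈ Wsub B U v v' ∧
      ∀ s ∈ S, σ (B ((s : V ≃ₗ[F] V) v) v') • (s : V ≃ₗ[F] V) y = y} = 1 := by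
    rw [Nat.card_eq_one_iff_unique]
    refine ⟨⟨?_⟩, ⟨⟨0, (Wsub B U v v').zero_mem, fun s _ => by rw [map_zero, smul_zero]⟩⟩⟩
    rintro ⟨y, hyW, hy⟩ ⟨y', hyW', hy'⟩
    have key : ∀ z : V, z ∈ Wsub B U v v' →
        (∀ s ∈ S, σ (B ((s : V ≃ₗ[F] V) v) v') • (s : V ≃ₗ[F] V) z = z) → z = 0 := by
      intro z hzW hz
      apply hzero z hzW
      · have := hz d hdS
        rwa [hdv, h.ef, map_one, one_smul] at this
      · have := hz r hrS
        rwa [hrv, map_smul, LinearMap.smul_apply, h.ef, smul_eq_mul, mul_one] at this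
    apply Subtype.ext
    show y = y'
    rw [key y hyW hy, key y' hyW' hy']
  rw [hone, mul_one] at hcount
  rw [← hcount]
  apply Nat.card_congr
  refine Equiv.subtypeEquivRight (fun ω => ?_)
  constructor
  · rintro ⟨h1, h2⟩ s hs
    have hle : S ≤ MulAction.stabilizer ↥(tvGroup B U) ω := by
      rw [hSdef, Subgroup.closure_le]
      rintro g (rfl | rfl)
      · exact h1
      · exact h2
    exact hle hs
  · intro hs
    exact ⟨hs d hdS, hs r hrS⟩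


/-- the fixed points of one element of order three fixing a hyperbolic pair -/
theorem fix_one
    (hFIX : ∀ (v v' : V), v ∈ U → v' ∈ U → HypPair B v v' →
      (∀ ω ω' : Ω, ∃! g : ↥(tvGroup B U),
        g ∈ (QSub B U v).subgroupOf (tvGroup B U) ∧ g • ω = ω') →
      ∀ S : Subgroup ↥(tvGroup B U), IsPGroup 3 S →
      (∀ s ∈ S, ∃ l : F, (s : V ≃ₗ[F] V) v = l • v) →
      (∀ s ∈ S, ∃ l : F, (s : V ≃ₗ[F] V) v' = l • v') →
      Nat.card {ω : Ω // ∀ s ∈ S, s • ω = ω} =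
        2 * Nat.card {y : V // y ∈ Wsub B U v v' ∧
          ∀ s ∈ S, σ (B ((s : V ≃ₗ[F] V) v) v') • (s : V ≃ₗ[F] V) y = y})
    {v v' : V} (hvU : v ∈ U) (hv'U : v' ∈ U) (h : HypPair B v v')
    (hreg : ∀ ω ω' : Ω, ∃! g : ↥(tvGroup B U),
      g ∈ (QSub B U v).subgroupOf (tvGroup B U) ∧ g • ω = ω')
    (d : ↥(tvGroup B U)) (hd3 : d ^ 3 = 1)
    (hdv : (d : V ≃ₗ[F] V) v = v) (hdv' : (d : V ≃ₗ[F] V) v' = v') :
    Nat.card {ω : Ω // d • ω = ω} =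
      2 * Nat.card {y : V // y ∈ Wsub B U v v' ∧ (d : V ≃ₗ[F] V) y = y} := by
  classical
  obtain ⟨S, hSdef⟩ : ∃ S : Subgroup ↥(tvGroup B U), S = Subgroup.closure {d} := ⟨_, rfl⟩
  have hdS : d ∈ S := by rw [hSdef]; exact Subgroup.subset_closure rfl
  have hS3 : IsPGroup 3 S := by
    have h1 := pgroup_closure_pair d d hd3 hd3 rfl
    rw [Set.pair_eq_singleton] at h1
    rw [hSdef]; exact h1
  have hfixS : ∀ w : V, (d : V ≃ₗ[F] V) w = w → ∀ s ∈ S, (s : V ≃ₗ[F] V) w = w := by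
    intro w hw
    have hle : S ≤ (MulAction.stabilizer (V ≃ₗ[F] V) w).subgroupOf (tvGroup B U) := by
      rw [hSdef, Subgroup.closure_le]
      rintro g rfl
      show (g : V ≃ₗ[F] V) ∈ MulAction.stabilizer (V ≃ₗ[F] V) w
      rw [MulAction.mem_stabilizer_iff, LinearEquiv.smul_def]
      exact hw
    intro s hs
    have h1 := hle hs
    rw [Subgroup.mem_subgroupOf, MulAction.mem_stabilizer_iff, LinearEquiv.smul_def] at h1
    exact h1
  have hcount := hFIX v v' hvU hv'U h hreg S hS3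
    (fun s hs => ⟨1, by rw [hfixS v hdv s hs, one_smul]⟩)
    (fun s hs => ⟨1, by rw [hfixS v' hdv' s hs, one_smul]⟩)
  have e1 : Nat.card {ω : Ω // ∀ s ∈ S, s • ω = ω} = Nat.card {ω : Ω // d • ω = ω} := by
    apply Nat.card_congr
    refine Equiv.subtypeEquivRight (fun ω => ?_)
    constructor
    · intro hs
      exact hs d hdS
    · intro h1 s hs
      have hle : S ≤ MulAction.stabilizer ↥(tvGroup B U) ω := by
        rw [hSdef, Subgroup.closure_le]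
        rintro g rfl
        exact h1
      exact hle hs
  have e2 : Nat.card {y : V // y ∈ Wsub B U v v' ∧
      ∀ s ∈ S, σ (B ((s : V ≃ₗ[F] V) v) v') • (s : V ≃ₗ[F] V) y = y} =
      Nat.card {y : V // y ∈ Wsub B U v v' ∧ (d : V ≃ₗ[F] V) y = y} := by
    apply Nat.card_congr
    refine Equiv.subtypeEquivRight (fun y => ?_)
    constructor
    · rintro ⟨hyW, hy⟩
      refine ⟨hyW, ?_⟩
      have := hy d hdS
      rwa [hdv, h.ef, map_one, one_smul] at this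
    · rintro ⟨hyW, hy⟩
      refine ⟨hyW, fun s hs => ?_⟩
      rw [hfixS v hdv s hs, h.ef, map_one, one_smul, hfixS y hy s hs]
  rw [← e1, ← e2]
  exact hcount

end fix


/-! ### the elements `d(p,q) = utv p 1 * utv q 1` -/

/-- the element of order three attached to a hyperbolic pair -/
noncomputable def DD (B : V →ₗ[F] V →ₛₗ[σ] F) (p q : V) : V ≃ₗ[F] V := utv B p 1 * utv B q 1

theorem sigma_one (hF : Fintype.card F = 4) : σ (1 : F) = -1 := by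
  rw [map_one]
  exact (neg_eq_of_add_eq_zero_left (Cfsg.Agent.Lib.Helper33_S2153_F4.add_self hF 1)).symm

theorem DD_mem (hF : Fintype.card F = 4) {U : Submodule F V} {p q : V} (hp : p ∈ U) (hq : q ∈ U)
    (h : HypPair B p q) : DD B p q ∈ tvGroup B U :=
  (tvGroup B U).mul_mem (utv_mem_tvGroup hp h.ee (sigma_one hF)) (utv_mem_tvGroup hq h.ff (sigma_one hF))

theorem DD_mem_uG (hF : Fintype.card F = 4) (hB : IsHerm B) (p q : V) : DD B p q ∈ uG B :=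
  (uG B).mul_mem (utv_mem_uG hB p (sigma_one hF)) (utv_mem_uG hB q (sigma_one hF))

theorem DD_fix (p q : V) {x : V} (h1 : B x p = 0) (h2 : B x q = 0) : DD B p q x = x := by
  unfold DD
  rw [LinearEquiv.mul_apply, utv_fix B q 1 h2, utv_fix B p 1 h1]

theorem DD_pow (hF : Fintype.card F = 4) (hσ : Invol σ) (hB : IsHerm B) {p q : V}
    (h : HypPair B p q) : DD B p q ^ 3 = 1 := by
  obtain ⟨-, -, -, -, ⟨ω, hω, -⟩, -⟩ := Cfsg.Agent.Lib.Helper33_S2153_F4.F4 hF hσ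
  exact (Cfsg.Agent.Lib.Helper54_S2153_DEIG.DEIG hF hσ hB h hω).2.2.2.2.2.2.2.2.1

theorem DD_flip (hF : Fintype.card F = 4) (hσ : Invol σ) (hB : IsHerm B) {p q : V}
    (h : HypPair B p q) : DD B q p = DD B p q ^ 2 := by
  obtain ⟨-, -, -, -, ⟨ω, hω, -⟩, -⟩ := Cfsg.Agent.Lib.Helper33_S2153_F4.F4 hF hσ
  have h1 : DD B q p = (DD B p q)⁻¹ :=
    (Cfsg.Agent.Lib.Helper54_S2153_DEIG.DEIG hF hσ hB h hω).2.2.2.2.2.2.2.2.2
  rw [h1]
  apply inv_eq_of_mul_eq_one_right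
  rw [← pow_succ', DD_pow hF hσ hB h]

/-- elements attached to orthogonal hyperbolic pairs commute -/
theorem DD_comm (hF : Fintype.card F = 4) (hB : IsHerm B) {p q p' q' : V}
    (h1 : B p p' = 0) (h2 : B p q' = 0) (h3 : B q p' = 0) (h4 : B q q' = 0) :
    DD B p q * DD B p' q' = DD B p' q' * DD B p q := by
  have hg : DD B p' q' ∈ uG B := DD_mem_uG hF hB p' q'
  have e1 : DD B p' q' * utv B p 1 * (DD B p' q')⁻¹ = utv B p 1 := by
    rw [conj_utv hg, DD_fix p' q' h1 h2]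
  have e2 : DD B p' q' * utv B q 1 * (DD B p' q')⁻¹ = utv B q 1 := by
    rw [conj_utv hg, DD_fix p' q' h3 h4]
  have e3 : DD B p' q' * DD B p q * (DD B p' q')⁻¹ = DD B p q := by
    have : DD B p' q' * DD B p q * (DD B p' q')⁻¹ =
        (DD B p' q' * utv B p 1 * (DD B p' q')⁻¹) * (DD B p' q' * utv B q 1 * (DD B p' q')⁻¹) := by
      unfold DD; group
    rw [this, e1, e2]
    rfl
  calc DD B p q * DD B p' q' = (DD B p' q' * DD B p q * (DD B p' q')⁻¹) * DD B p' q' := by rw [e3]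
    _ = DD B p' q' * DD B p q := by group

/-- the field data: a primitive cube root of unity `ω` with `σ ω = ω + 1` -/
structure Om (σ : F →+* F) (ω : F) : Prop where
  root : ω ^ 2 + ω + 1 = 0
  sig : σ ω = ω + 1
  ne0 : ω ≠ 0
  ne1 : ω ≠ 1
  char2 : ∀ x : F, x + x = 0

theorem exists_Om (hF : Fintype.card F = 4) (hσ : Invol σ) : ∃ ω : F, Om σ ω := by
  obtain ⟨hc, -, -, -, ⟨ω, hω, hσω, h0, h1, -⟩, -⟩ := Cfsg.Agent.Lib.Helper33_S2153_F4.F4 hF hσ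
  exact ⟨ω, hω, hσω, h0, h1, hc⟩

theorem DD_x (hF : Fintype.card F = 4) (hσ : Invol σ) (hB : IsHerm B) {p q : V}
    (h : HypPair B p q) {ω : F} (hω : Om σ ω) :
    DD B p q (p + ω • q) = ω • (p + ω • q) :=
  (Cfsg.Agent.Lib.Helper54_S2153_DEIG.DEIG hF hσ hB h hω.root).2.2.2.1

theorem DD_x' (hF : Fintype.card F = 4) (hσ : Invol σ) (hB : IsHerm B) {p q : V}
    (h : HypPair B p q) {ω : F} (hω : Om σ ω) :
    DD B p q (p + (ω + 1) • q) = (ω + 1) • (p + (ω + 1) • q) :=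
  (Cfsg.Agent.Lib.Helper54_S2153_DEIG.DEIG hF hσ hB h hω.root).2.2.2.2.1

theorem norm_x (hF : Fintype.card F = 4) (hσ : Invol σ) (hB : IsHerm B) {p q : V}
    (h : HypPair B p q) {ω : F} (hω : Om σ ω) : B (p + ω • q) (p + ω • q) = 1 :=
  (Cfsg.Agent.Lib.Helper54_S2153_DEIG.DEIG hF hσ hB h hω.root).2.2.2.2.2.1

/-- orthogonality to both eigenvectors gives orthogonality to the pair -/
theorem pq_of_x {ω : F} (hω : Om σ ω) {y p q : V} (h1 : B y (p + ω • q) = 0)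
    (h2 : B y (p + (ω + 1) • q) = 0) : B y p = 0 ∧ B y q = 0 := by
  simp only [map_add, map_smulₛₗ, smul_eq_mul, hω.sig, map_one] at h1 h2
  have hq : B y q = 0 := by linear_combination h2 - h1
  refine ⟨?_, hq⟩
  rw [hq] at h1
  linear_combination h1

/-- a vector fixed by `d(p,q)` is orthogonal to `p` and `q` -/
theorem fixed_orth (hF : Fintype.card F = 4) (hσ : Invol σ) (hB : IsHerm B) {p q : V}
    (h : HypPair B p q) {y : V} (hy : DD B p q y = y) : B y p = 0 ∧ B y q = 0 := by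
  obtain ⟨ω, hω⟩ := exists_Om hF hσ
  have hg := DD_mem_uG hF hB p q
  have hy1 : DD B p q y = (1 : F) • y := by rw [hy, one_smul]
  apply pq_of_x hω
  · apply orth_of_eigen hg hy1 (DD_x hF hσ hB h hω)
    rw [one_mul, hω.sig]
    intro h0
    exact hω.ne0 (by linear_combination h0)
  · apply orth_of_eigen hg hy1 (DD_x' hF hσ hB h hω)
    rw [one_mul, map_add, map_one, hω.sig]
    intro h0
    apply hω.ne1
    have h2 := hω.char2 1
    linear_combination h0 - h2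


/-! ### frames: three mutually orthogonal hyperbolic pairs spanning `U` -/

structure Frame (B : V →ₗ[F] V →ₛₗ[σ] F) (U : Submodule F V) (p1 q1 p2 q2 p3 q3 : V) : Prop where
  h1 : HypPair B p1 q1
  h2 : HypPair B p2 q2
  h3 : HypPair B p3 q3
  m1 : p1 ∈ U ∧ q1 ∈ U
  m2 : p2 ∈ U ∧ q2 ∈ U
  m3 : p3 ∈ U ∧ q3 ∈ U
  o12 : B p1 p2 = 0 ∧ B p1 q2 = 0 ∧ B q1 p2 = 0 ∧ B q1 q2 = 0
  o13 : B p1 p3 = 0 ∧ B p1 q3 = 0 ∧ B q1 p3 = 0 ∧ B q1 q3 = 0
  o23 : B p2 p3 = 0 ∧ B p2 q3 = 0 ∧ B q2 p3 = 0 ∧ B q2 q3 = 0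
  span : ∀ y ∈ U, B y p1 = 0 → B y q1 = 0 → B y p2 = 0 → B y q2 = 0 → B y p3 = 0 → B y q3 = 0 →
    y = 0

theorem hyp_flip {p q : V} (h : HypPair B p q) : HypPair B q p := ⟨h.ff, h.ee, h.fe, h.ef⟩

theorem hyp_ne_zero {p q : V} (h : HypPair B p q) : p ≠ 0 := by
  intro h0
  have := h.ef
  rw [h0] at this
  simp at this

variable {U : Submodule F V} {p1 q1 p2 q2 p3 q3 : V}

theorem Frame.swap12 (hB : IsHerm B) (f : Frame B U p1 q1 p2 q2 p3 q3) :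
    Frame B U p2 q2 p1 q1 p3 q3 where
  h1 := f.h2
  h2 := f.h1
  h3 := f.h3
  m1 := f.m2
  m2 := f.m1
  m3 := f.m3
  o12 := ⟨herm_eq_zero hB f.o12.1, herm_eq_zero hB f.o12.2.2.1, herm_eq_zero hB f.o12.2.1,
    herm_eq_zero hB f.o12.2.2.2⟩
  o13 := f.o23
  o23 := f.o13
  span y hy a1 b1 a2 b2 a3 b3 := f.span y hy a2 b2 a1 b1 a3 b3

theorem Frame.flip1 (f : Frame B U p1 q1 p2 q2 p3 q3) : Frame B U q1 p1 p2 q2 p3 q3 where
  h1 := hyp_flip f.h1
  h2 := f.h2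
  h3 := f.h3
  m1 := ⟨f.m1.2, f.m1.1⟩
  m2 := f.m2
  m3 := f.m3
  o12 := ⟨f.o12.2.2.1, f.o12.2.2.2, f.o12.1, f.o12.2.1⟩
  o13 := ⟨f.o13.2.2.1, f.o13.2.2.2, f.o13.1, f.o13.2.1⟩
  o23 := f.o23
  span y hy a1 b1 a2 b2 a3 b3 := f.span y hy b1 a1 a2 b2 a3 b3

theorem Frame.flip2 (f : Frame B U p1 q1 p2 q2 p3 q3) : Frame B U p1 q1 q2 p2 p3 q3 where
  h1 := f.h1
  h2 := hyp_flip f.h2
  h3 := f.h3
  m1 := f.m1
  m2 := ⟨f.m2.2, f.m2.1⟩
  m3 := f.m3
  o12 := ⟨f.o12.2.1, f.o12.1, f.o12.2.2.2, f.o12.2.2.1⟩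
  o13 := f.o13
  o23 := ⟨f.o23.2.2.1, f.o23.2.2.2, f.o23.1, f.o23.2.1⟩
  span y hy a1 b1 a2 b2 a3 b3 := f.span y hy a1 b1 b2 a2 a3 b3

section counts

variable {Ω : Type*} [MulAction ↥(tvGroup B U) Ω]

/-- the group element attached to a hyperbolic pair in `U` -/
noncomputable def dEl (hF : Fintype.card F = 4) {p q : V} (hp : p ∈ U) (hq : q ∈ U)
    (h : HypPair B p q) : ↥(tvGroup B U) := ⟨DD B p q, DD_mem hF hp hq h⟩

theorem dEl_coe (hF : Fintype.card F = 4) {p q : V} (hp : p ∈ U) (hq : q ∈ U)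
    (h : HypPair B p q) : ((dEl hF hp hq h : ↥(tvGroup B U)) : V ≃ₗ[F] V) = DD B p q := rfl

theorem dEl_pow (hF : Fintype.card F = 4) (hσ : Invol σ) (hB : IsHerm B) {p q : V} (hp : p ∈ U)
    (hq : q ∈ U) (h : HypPair B p q) : dEl hF hp hq h ^ 3 = 1 :=
  Subtype.ext (by rw [Subgroup.coe_pow, dEl_coe, DD_pow hF hσ hB h]; rfl)

theorem dEl_flip (hF : Fintype.card F = 4) (hσ : Invol σ) (hB : IsHerm B) {p q : V} (hp : p ∈ U)
    (hq : q ∈ U) (h : HypPair B p q) : dEl hF hq hp (hyp_flip h) = dEl hF hp hq h ^ 2 :=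
  Subtype.ext (by rw [Subgroup.coe_pow, dEl_coe, dEl_coe, DD_flip hF hσ hB h])

theorem dEl_comm (hF : Fintype.card F = 4) (hB : IsHerm B) {p q p' q' : V} (hp : p ∈ U)
    (hq : q ∈ U) (h : HypPair B p q) (hp' : p' ∈ U) (hq' : q' ∈ U) (h' : HypPair B p' q')
    (h1 : B p p' = 0) (h2 : B p q' = 0) (h3 : B q p' = 0) (h4 : B q q' = 0) :
    dEl hF hp hq h * dEl hF hp' hq' h' = dEl hF hp' hq' h' * dEl hF hp hq h :=
  Subtype.ext (by
    rw [Subgroup.coe_mul, Subgroup.coe_mul, dEl_coe, dEl_coe]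
    exact DD_comm hF hB h1 h2 h3 h4)


/-- the fixed-point formula of package FIX, for the given action -/
def FixHyp (B : V →ₗ[F] V →ₛₗ[σ] F) (U : Submodule F V) (Ω : Type*)
    [MulAction ↥(tvGroup B U) Ω] : Prop :=
  ∀ (v v' : V), v ∈ U → v' ∈ U → HypPair B v v' →
    (∀ ω ω' : Ω, ∃! g : ↥(tvGroup B U),
      g ∈ (QSub B U v).subgroupOf (tvGroup B U) ∧ g • ω = ω') →
    ∀ S : Subgroup ↥(tvGroup B U), IsPGroup 3 S →
    (∀ s ∈ S, ∃ l : F, (s : V ≃ₗ[F] V) v = l • v) →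
    (∀ s ∈ S, ∃ l : F, (s : V ≃ₗ[F] V) v' = l • v') →
    Nat.card {ω : Ω // ∀ s ∈ S, s • ω = ω} =
      2 * Nat.card {y : V // y ∈ Wsub B U v v' ∧
        ∀ s ∈ S, σ (B ((s : V ≃ₗ[F] V) v) v') • (s : V ≃ₗ[F] V) y = y}

/-- every `Q_u` is regular on `Ω` -/
def RegHyp (B : V →ₗ[F] V →ₛₗ[σ] F) (U : Submodule F V) (Ω : Type*)
    [MulAction ↥(tvGroup B U) Ω] : Prop :=
  ∀ u ∈ U, u ≠ 0 → B u u = 0 → ∀ ω ω' : Ω, ∃! g : ↥(tvGroup B U),
    g ∈ (QSub B U u).subgroupOf (tvGroup B U) ∧ g • ω = ω'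

theorem mem_Wsub' {U' : Submodule F V} {v v' y : V} :
    y ∈ Wsub B U' v v' ↔ y ∈ U' ∧ B y v = 0 ∧ B y v' = 0 := by
  simp only [Wsub, Submodule.mem_inf, mem_orthV]
  tauto

/-- type 1: `⟨d₃, d₂⟩` has exactly two fixed points -/
theorem T1 (hF : Fintype.card F = 4) (hσ : Invol σ) (hB : IsHerm B) (hFIX : FixHyp B U Ω)
    (hreg : RegHyp B U Ω) (f : Frame B U p1 q1 p2 q2 p3 q3) :
    Nat.card {ω : Ω // dEl hF f.m3.1 f.m3.2 f.h3 • ω = ω ∧ dEl hF f.m2.1 f.m2.2 f.h2 • ω = ω} =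
      2 := by
  apply fix_two hFIX f.m1.1 f.m1.2 f.h1 (hreg p1 f.m1.1 (hyp_ne_zero f.h1) f.h1.ee) _ _
    (dEl_pow hF hσ hB _ _ _) (dEl_pow hF hσ hB _ _ _)
    (dEl_comm hF hB f.m2.1 f.m2.2 f.h2 f.m3.1 f.m3.2 f.h3 f.o23.1 f.o23.2.1 f.o23.2.2.1
      f.o23.2.2.2).symm (lam := 1) (lam' := 1)
  · exact DD_fix p3 q3 f.o13.1 f.o13.2.1
  · exact DD_fix p3 q3 f.o13.2.2.1 f.o13.2.2.2
  · rw [one_smul]; exact DD_fix p2 q2 f.o12.1 f.o12.2.1
  · rw [one_smul]; exact DD_fix p2 q2 f.o12.2.2.1 f.o12.2.2.2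
  · intro y hyW hdy hry
    rw [map_one, one_smul] at hry
    obtain ⟨hyU, hy1, hy1'⟩ := mem_Wsub'.mp hyW
    obtain ⟨hy2, hy2'⟩ := fixed_orth hF hσ hB f.h2 hry
    obtain ⟨hy3, hy3'⟩ := fixed_orth hF hσ hB f.h3 hdy
    exact f.span y hyU hy1 hy1' hy2 hy2' hy3 hy3'

/-- type 0: `d₃` has exactly 32 fixed points -/
theorem T0 (hF : Fintype.card F = 4) (hσ : Invol σ) (hB : IsHerm B) (hdim : finrank F U = 6)
    (hFIX : FixHyp B U Ω) (hreg : RegHyp B U Ω) (f : Frame B U p1 q1 p2 q2 p3 q3) :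
    Nat.card {ω : Ω // dEl hF f.m3.1 f.m3.2 f.h3 • ω = ω} = 32 := by
  rw [fix_one hFIX f.m1.1 f.m1.2 f.h1 (hreg p1 f.m1.1 (hyp_ne_zero f.h1) f.h1.ee) _
    (dEl_pow hF hσ hB _ _ _) (DD_fix p3 q3 f.o13.1 f.o13.2.1)
    (DD_fix p3 q3 f.o13.2.2.1 f.o13.2.2.2)]
  have hp3 : p3 ∈ Wsub B U p1 q1 :=
    mem_Wsub'.mpr ⟨f.m3.1, herm_eq_zero hB f.o13.1, herm_eq_zero hB f.o13.2.2.1⟩
  have hq3 : q3 ∈ Wsub B U p1 q1 :=
    mem_Wsub'.mpr ⟨f.m3.2, herm_eq_zero hB f.o13.2.1, herm_eq_zero hB f.o13.2.2.2⟩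
  have e1 := Cfsg.Agent.Lib.Helper55_S2153_GCNT.GCNT_finrank hB f.m1.1 f.m1.2 f.h1
  have e2 := Cfsg.Agent.Lib.Helper55_S2153_GCNT.GCNT_finrank hB hp3 hq3 f.h3
  have e3 : finrank F ↥(Wsub B (Wsub B U p1 q1) p3 q3) = 2 := by omega
  have e4 : Nat.card ↥(Wsub B (Wsub B U p1 q1) p3 q3) = 16 := by
    rw [Module.natCard_eq_pow_finrank (K := F), e3, Nat.card_eq_fintype_card, hF]
    norm_num
  have e5 : Nat.card {y : V // y ∈ Wsub B U p1 q1 ∧
      ((dEl hF f.m3.1 f.m3.2 f.h3 : ↥(tvGroup B U)) : V ≃ₗ[F] V) y = y} = 16 := by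
    rw [← e4]
    apply Nat.card_congr
    refine Equiv.subtypeEquivRight (fun y => ?_)
    rw [mem_Wsub' (U' := Wsub B U p1 q1)]
    constructor
    · rintro ⟨hyW, hy⟩
      obtain ⟨hy3, hy3'⟩ := fixed_orth hF hσ hB f.h3 hy
      exact ⟨hyW, hy3, hy3'⟩
    · rintro ⟨hyW, hy3, hy3'⟩
      exact ⟨hyW, DD_fix p3 q3 hy3 hy3'⟩
  rw [e5]


theorem orth_comb {p q z : V} (h1 : B p z = 0) (h2 : B q z = 0) (a : F) : B (p + a • q) z = 0 := by
  rw [map_add, map_smul, LinearMap.add_apply, LinearMap.smul_apply, h1, h2, smul_zero, add_zero]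

/-- type 2: `⟨d₃, d₁ d₂⟩` has exactly two fixed points -/
theorem T2 (hF : Fintype.card F = 4) (hσ : Invol σ) (hB : IsHerm B) (hFIX : FixHyp B U Ω)
    (hreg : RegHyp B U Ω) (f : Frame B U p1 q1 p2 q2 p3 q3) :
    Nat.card {ω : Ω // dEl hF f.m3.1 f.m3.2 f.h3 • ω = ω ∧
      (dEl hF f.m1.1 f.m1.2 f.h1 * dEl hF f.m2.1 f.m2.2 f.h2) • ω = ω} = 2 := by
  obtain ⟨ω, hω⟩ := exists_Om hF hσ
  -- orthogonality of the eigenvectors
  have a12p : ∀ a : F, B (p1 + a • q1) p2 = 0 := orth_comb f.o12.1 f.o12.2.2.1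
  have a12q : ∀ a : F, B (p1 + a • q1) q2 = 0 := orth_comb f.o12.2.1 f.o12.2.2.2
  have a13p : ∀ a : F, B (p1 + a • q1) p3 = 0 := orth_comb f.o13.1 f.o13.2.2.1
  have a13q : ∀ a : F, B (p1 + a • q1) q3 = 0 := orth_comb f.o13.2.1 f.o13.2.2.2
  have a21p : ∀ a : F, B (p2 + a • q2) p1 = 0 :=
    orth_comb (herm_eq_zero hB f.o12.1) (herm_eq_zero hB f.o12.2.1)
  have a21q : ∀ a : F, B (p2 + a • q2) q1 = 0 :=
    orth_comb (herm_eq_zero hB f.o12.2.2.1) (herm_eq_zero hB f.o12.2.2.2)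
  have a23p : ∀ a : F, B (p2 + a • q2) p3 = 0 := orth_comb f.o23.1 f.o23.2.2.1
  have a23q : ∀ a : F, B (p2 + a • q2) q3 = 0 := orth_comb f.o23.2.1 f.o23.2.2.2
  obtain ⟨x1, hx1⟩ : ∃ x1 : V, x1 = p1 + ω • q1 := ⟨_, rfl⟩
  obtain ⟨x2, hx2⟩ : ∃ x2 : V, x2 = p2 + ω • q2 := ⟨_, rfl⟩
  have hx1U : x1 ∈ U := by rw [hx1]; exact U.add_mem f.m1.1 (U.smul_mem _ f.m1.2)
  have hx2U : x2 ∈ U := by rw [hx2]; exact U.add_mem f.m2.1 (U.smul_mem _ f.m2.2)
  have o12 : B x1 x2 = 0 := by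
    rw [hx2, map_add, map_smulₛₗ, hx1, a12p, a12q, smul_zero, add_zero]
  have o21 : B x2 x1 = 0 := herm_eq_zero hB o12
  have n1 : B x1 x1 = 1 := by rw [hx1]; exact norm_x hF hσ hB f.h1 hω
  have n2 : B x2 x2 = 1 := by rw [hx2]; exact norm_x hF hσ hB f.h2 hω
  have hc2 := hω.char2 1
  have hpair : HypPair B (x1 + x2) (ω • x1 + (ω + 1) • x2) := by
    refine ⟨?_, ?_, ?_, ?_⟩
    · simp only [map_add, LinearMap.add_apply, n1, n2, o12, o21]
      linear_combination hc2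
    · simp only [map_add, map_smul, map_smulₛₗ, LinearMap.add_apply, LinearMap.smul_apply,
        smul_eq_mul, n1, n2, o12, o21, hω.sig, map_one]
      linear_combination (ω ^ 2 + 2 * ω + 1) * hc2
    · simp only [map_add, map_smulₛₗ, LinearMap.add_apply, smul_eq_mul, n1, n2, o12, o21, hω.sig,
        map_one]
      linear_combination (ω + 1) * hc2
    · simp only [map_add, map_smul, LinearMap.add_apply, LinearMap.smul_apply, smul_eq_mul, n1,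
        n2, o12, o21]
      linear_combination ω * hc2
  have hvU : x1 + x2 ∈ U := U.add_mem hx1U hx2U
  have hv'U : ω • x1 + (ω + 1) • x2 ∈ U := U.add_mem (U.smul_mem _ hx1U) (U.smul_mem _ hx2U)
  -- the action of the elements
  have hD2x1 : DD B p2 q2 x1 = x1 := by rw [hx1]; exact DD_fix p2 q2 (a12p ω) (a12q ω)
  have hD1x1 : DD B p1 q1 x1 = ω • x1 := by rw [hx1]; exact DD_x hF hσ hB f.h1 hω
  have hD1x2 : DD B p1 q1 x2 = x2 := by rw [hx2]; exact DD_fix p1 q1 (a21p ω) (a21q ω)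
  have hD2x2 : DD B p2 q2 x2 = ω • x2 := by rw [hx2]; exact DD_x hF hσ hB f.h2 hω
  have hrx1 : (DD B p1 q1 * DD B p2 q2) x1 = ω • x1 := by
    rw [LinearEquiv.mul_apply, hD2x1, hD1x1]
  have hrx2 : (DD B p1 q1 * DD B p2 q2) x2 = ω • x2 := by
    rw [LinearEquiv.mul_apply, hD2x2, map_smul, hD1x2]
  have hD3x1 : DD B p3 q3 x1 = x1 := by rw [hx1]; exact DD_fix p3 q3 (a13p ω) (a13q ω)
  have hD3x2 : DD B p3 q3 x2 = x2 := by rw [hx2]; exact DD_fix p3 q3 (a23p ω) (a23q ω)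
  have c13 := dEl_comm hF hB f.m1.1 f.m1.2 f.h1 f.m3.1 f.m3.2 f.h3 f.o13.1 f.o13.2.1 f.o13.2.2.1
    f.o13.2.2.2
  have c23 := dEl_comm hF hB f.m2.1 f.m2.2 f.h2 f.m3.1 f.m3.2 f.h3 f.o23.1 f.o23.2.1 f.o23.2.2.1
    f.o23.2.2.2
  have c12 := dEl_comm hF hB f.m1.1 f.m1.2 f.h1 f.m2.1 f.m2.2 f.h2 f.o12.1 f.o12.2.1 f.o12.2.2.1
    f.o12.2.2.2
  have hr3 : (dEl hF f.m1.1 f.m1.2 f.h1 * dEl hF f.m2.1 f.m2.2 f.h2) ^ 3 = 1 := by
    have hc : Commute (dEl hF f.m1.1 f.m1.2 f.h1) (dEl hF f.m2.1 f.m2.2 f.h2) := c12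
    rw [hc.mul_pow, dEl_pow hF hσ hB, dEl_pow hF hσ hB, one_mul]
  have hcomm : dEl hF f.m3.1 f.m3.2 f.h3 * (dEl hF f.m1.1 f.m1.2 f.h1 * dEl hF f.m2.1 f.m2.2 f.h2) =
      (dEl hF f.m1.1 f.m1.2 f.h1 * dEl hF f.m2.1 f.m2.2 f.h2) * dEl hF f.m3.1 f.m3.2 f.h3 :=
    ((show Commute (dEl hF f.m3.1 f.m3.2 f.h3) (dEl hF f.m1.1 f.m1.2 f.h1) from c13.symm).mul_right
      (show Commute (dEl hF f.m3.1 f.m3.2 f.h3) (dEl hF f.m2.1 f.m2.2 f.h2) from c23.symm)).eq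
  have hom1 : ω * (ω + 1) = 1 := by linear_combination hω.root - hc2
  apply fix_two hFIX hvU hv'U hpair
    (hreg _ hvU (hyp_ne_zero hpair) hpair.ee) _ _ (dEl_pow hF hσ hB _ _ _) hr3 hcomm
    (lam := ω) (lam' := ω)
  · show DD B p3 q3 (x1 + x2) = x1 + x2
    rw [map_add, hD3x1, hD3x2]
  · show DD B p3 q3 (ω • x1 + (ω + 1) • x2) = ω • x1 + (ω + 1) • x2
    rw [map_add, map_smul, map_smul, hD3x1, hD3x2]
  · show (DD B p1 q1 * DD B p2 q2) (x1 + x2) = ω • (x1 + x2)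
    rw [map_add, hrx1, hrx2, smul_add]
  · show (DD B p1 q1 * DD B p2 q2) (ω • x1 + (ω + 1) • x2) = ω • (ω • x1 + (ω + 1) • x2)
    rw [map_add, map_smul, map_smul, hrx1, hrx2]
    module
  · intro y hyW hdy hry
    obtain ⟨hyU, hyv, hyv'⟩ := mem_Wsub'.mp hyW
    have hdy' : DD B p3 q3 y = y := hdy
    have hry' : (DD B p1 q1 * DD B p2 q2) y = ω • y := by
      have h1 : (ω + 1) • (DD B p1 q1 * DD B p2 q2) y = y := by
        rw [← hω.sig]; exact hry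
      calc (DD B p1 q1 * DD B p2 q2) y = (ω * (ω + 1)) • (DD B p1 q1 * DD B p2 q2) y := by
            rw [hom1, one_smul]
        _ = ω • y := by rw [mul_smul, h1]
    have ha : B y x1 + B y x2 = 0 := by rw [← map_add]; exact hyv
    have hb : (ω + 1) * B y x1 + (ω + 1 + 1) * B y x2 = 0 := by
      have h1 := hyv'
      simp only [map_add, map_smulₛₗ, smul_eq_mul, hω.sig, map_one] at h1
      exact h1
    have hyx1 : B y x1 = 0 := by linear_combination (ω + 1 + 1) * ha - hb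
    have hyx2 : B y x2 = 0 := by linear_combination ha - hyx1
    have hg : DD B p1 q1 * DD B p2 q2 ∈ uG B :=
      (uG B).mul_mem (DD_mem_uG hF hB p1 q1) (DD_mem_uG hF hB p2 q2)
    have hrx1' : (DD B p1 q1 * DD B p2 q2) (p1 + (ω + 1) • q1) =
        (ω + 1) • (p1 + (ω + 1) • q1) := by
      rw [LinearEquiv.mul_apply, DD_fix p2 q2 (a12p _) (a12q _), DD_x' hF hσ hB f.h1 hω]
    have hrx2' : (DD B p1 q1 * DD B p2 q2) (p2 + (ω + 1) • q2) =
        (ω + 1) • (p2 + (ω + 1) • q2) := by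
      rw [LinearEquiv.mul_apply, DD_x' hF hσ hB f.h2 hω, map_smul,
        DD_fix p1 q1 (a21p _) (a21q _)]
    have hne : ω * σ (ω + 1) ≠ 1 := by
      rw [map_add, map_one, hω.sig]
      intro h0
      apply hω.ne0
      linear_combination h0 - hω.root + hc2
    have hyx1' : B y (p1 + (ω + 1) • q1) = 0 := orth_of_eigen hg hry' hrx1' hne
    have hyx2' : B y (p2 + (ω + 1) • q2) = 0 := orth_of_eigen hg hry' hrx2' hne
    obtain ⟨hy1, hy1'⟩ := pq_of_x hω (by rw [← hx1]; exact hyx1) hyx1'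
    obtain ⟨hy2, hy2'⟩ := pq_of_x hω (by rw [← hx2]; exact hyx2) hyx2'
    obtain ⟨hy3, hy3'⟩ := fixed_orth hF hσ hB f.h3 hdy'
    exact f.span y hyU hy1 hy1' hy2 hy2' hy3 hy3'

end counts


/-! ### existence of a frame and the final contradiction -/

theorem exists_hyp (hσ : Invol σ) (hB : IsHerm B) {U' : Submodule F V} (hU' : NondegOn B U')
    (h2 : 2 ≤ finrank F U') : ∃ e ∈ U', ∃ f ∈ U', HypPair B e f := by
  obtain ⟨e, heU, f, hfU, he, hf, hef⟩ :=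
    Cfsg.Agent.Lib.Helper94_HermIrr.exists_pair hσ hB hU' (fun x => by
      by_contra hcon
      push Not at hcon
      have hle : U' ≤ Submodule.span F {x} := fun z hz => hcon z hz
      have h1 := Submodule.finrank_mono hle
      have h3 : finrank F (Submodule.span F {x}) ≤ 1 :=
        (finrank_span_le_card ({x} : Set V)).trans (by simp)
      omega)
  exact ⟨e, heU, f, hfU, hypPair_mk hB he hf hef⟩

theorem exists_frame (hσ : Invol σ) (hB : IsHerm B) (hU : NondegOn B U) (hdim : finrank F U = 6) :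
    ∃ p1 q1 p2 q2 p3 q3 : V, Frame B U p1 q1 p2 q2 p3 q3 := by
  obtain ⟨p1, hp1, q1, hq1, h1⟩ := exists_hyp hσ hB hU (by omega)
  have hW1 : NondegOn B (Wsub B U p1 q1) := nondegOn_pair hB hU hp1 hq1 h1.ee h1.ff h1.ef
  have e1 := Cfsg.Agent.Lib.Helper55_S2153_GCNT.GCNT_finrank hB hp1 hq1 h1
  obtain ⟨p2, hp2, q2, hq2, h2⟩ := exists_hyp hσ hB hW1 (by omega)
  have hW2 : NondegOn B (Wsub B (Wsub B U p1 q1) p2 q2) :=
    nondegOn_pair hB hW1 hp2 hq2 h2.ee h2.ff h2.ef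
  have e2 := Cfsg.Agent.Lib.Helper55_S2153_GCNT.GCNT_finrank hB hp2 hq2 h2
  obtain ⟨p3, hp3, q3, hq3, h3⟩ := exists_hyp hσ hB hW2 (by omega)
  have e3 := Cfsg.Agent.Lib.Helper55_S2153_GCNT.GCNT_finrank hB hp3 hq3 h3
  have e4 : finrank F ↥(Wsub B (Wsub B (Wsub B U p1 q1) p2 q2) p3 q3) = 0 := by omega
  obtain ⟨hp2U, hp2a, hp2b⟩ := mem_Wsub'.mp hp2
  obtain ⟨hq2U, hq2a, hq2b⟩ := mem_Wsub'.mp hq2
  obtain ⟨hp3W, hp3a, hp3b⟩ := mem_Wsub'.mp hp3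
  obtain ⟨hp3U, hp3c, hp3d⟩ := mem_Wsub'.mp hp3W
  obtain ⟨hq3W, hq3a, hq3b⟩ := mem_Wsub'.mp hq3
  obtain ⟨hq3U, hq3c, hq3d⟩ := mem_Wsub'.mp hq3W
  refine ⟨p1, q1, p2, q2, p3, q3,
    { h1 := h1, h2 := h2, h3 := h3, m1 := ⟨hp1, hq1⟩, m2 := ⟨hp2U, hq2U⟩, m3 := ⟨hp3U, hq3U⟩
      o12 := ⟨herm_eq_zero hB hp2a, herm_eq_zero hB hq2a, herm_eq_zero hB hp2b,
        herm_eq_zero hB hq2b⟩
      o13 := ⟨herm_eq_zero hB hp3c, herm_eq_zero hB hq3c, herm_eq_zero hB hp3d,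
        herm_eq_zero hB hq3d⟩
      o23 := ⟨herm_eq_zero hB hp3a, herm_eq_zero hB hq3a, herm_eq_zero hB hp3b,
        herm_eq_zero hB hq3b⟩
      span := ?_ }⟩
  intro y hyU a1 b1 a2 b2 a3 b3
  have hy : y ∈ Wsub B (Wsub B (Wsub B U p1 q1) p2 q2) p3 q3 :=
    mem_Wsub'.mpr ⟨mem_Wsub'.mpr ⟨mem_Wsub'.mpr ⟨hyU, a1, b1⟩, a2, b2⟩, a3, b3⟩
  rw [Submodule.finrank_eq_zero.mp e4] at hy
  exact (Submodule.mem_bot F).mp hy

/-- **S2153-REG6**, with the fixed-point formula FIX as a hypothesis. -/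
theorem REG6_core (hF : Fintype.card F = 4) (hσ : Invol σ) (hB : IsHerm B)
    (hU : NondegOn B U) (hdim : finrank F U = 6)
    {Ω : Type*} [MulAction ↥(tvGroup B U) Ω] [Finite Ω]
    (hFIX : FixHyp B U Ω) (hreg : RegHyp B U Ω) : False := by
  obtain ⟨p1, q1, p2, q2, p3, q3, f⟩ := exists_frame hσ hB hU hdim
  have c12 := dEl_comm hF hB f.m1.1 f.m1.2 f.h1 f.m2.1 f.m2.2 f.h2 f.o12.1 f.o12.2.1 f.o12.2.2.1
    f.o12.2.2.2
  have c13 := dEl_comm hF hB f.m1.1 f.m1.2 f.h1 f.m3.1 f.m3.2 f.h3 f.o13.1 f.o13.2.1 f.o13.2.2.1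
    f.o13.2.2.2
  have c23 := dEl_comm hF hB f.m2.1 f.m2.2 f.h2 f.m3.1 f.m3.2 f.h3 f.o23.1 f.o23.2.1 f.o23.2.2.1
    f.o23.2.2.2
  have fl1 := dEl_flip hF hσ hB f.m1.1 f.m1.2 f.h1
  have fl2 := dEl_flip hF hσ hB f.m2.1 f.m2.2 f.h2
  apply Cfsg.Agent.Lib.Helper52_S2153_CNT9.CNT9 (Ω := Ω) (dEl hF f.m1.1 f.m1.2 f.h1)
    (dEl hF f.m2.1 f.m2.2 f.h2) (dEl hF f.m3.1 f.m3.2 f.h3) c12 c13 c23
    (dEl_pow hF hσ hB _ _ _) (dEl_pow hF hσ hB _ _ _) (T0 hF hσ hB hdim hFIX hreg f)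
  intro i j hi hj hij
  interval_cases i <;> interval_cases j
  · exact absurd ⟨rfl, rfl⟩ hij
  · have h := T1 hF hσ hB hFIX hreg f
    simpa only [pow_zero, one_mul, pow_one] using h
  · have h := T1 hF hσ hB hFIX hreg f.flip2
    rw [show dEl hF f.flip2.m2.1 f.flip2.m2.2 f.flip2.h2 = _ from fl2] at h
    simpa only [pow_zero, one_mul] using h
  · have h := T1 hF hσ hB hFIX hreg (f.swap12 hB)
    simpa only [pow_zero, mul_one, pow_one] using h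
  · have h := T2 hF hσ hB hFIX hreg f
    simpa only [pow_one] using h
  · have h := T2 hF hσ hB hFIX hreg f.flip2
    rw [show dEl hF f.flip2.m2.1 f.flip2.m2.2 f.flip2.h2 = _ from fl2] at h
    simpa only [pow_one] using h
  · have h := T1 hF hσ hB hFIX hreg (f.swap12 hB).flip2
    rw [show dEl hF (f.swap12 hB).flip2.m2.1 (f.swap12 hB).flip2.m2.2 (f.swap12 hB).flip2.h2 = _
      from fl1] at h
    simpa only [pow_zero, mul_one] using h
  · have h := T2 hF hσ hB hFIX hreg f.flip1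
    rw [show dEl hF f.flip1.m1.1 f.flip1.m1.2 f.flip1.h1 = _ from fl1] at h
    simpa only [pow_one] using h
  · have h := T2 hF hσ hB hFIX hreg f.flip1.flip2
    rw [show dEl hF f.flip1.flip2.m1.1 f.flip1.flip2.m1.2 f.flip1.flip2.h1 = _ from fl1,
      show dEl hF f.flip1.flip2.m2.1 f.flip1.flip2.m2.2 f.flip1.flip2.h2 = _ from fl2] at h
    exact h

end Cfsg.Agent.Lib.Helper55_S2153_REG6core
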