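import Mathlib
import Cfsg.Agent.Lib.Helper94_Herm
import Cfsg.Agent.Lib.Helper94_HermTrans
import Cfsg.Agent.Lib.Helper94_HermEich
import Cfsg.Agent.Lib.Helper94_HermPara
import Cfsg.Agent.Lib.Helper94_HermWitt
import Cfsg.Agent.Lib.Helper94_HermIrr
import Cfsg.Agent.Lib.Helper13_SUGen
import Cfsg.Agent.Lib.Helper33_U2Defs
import Cfsg.Agent.Lib.Helper33_U2Geo
import Cfsg.Agent.Lib.Helper33_S2153_FIX
import Cfsg.Agent.Lib.Helper55_S2153_REG6core

/-!
# S2153 package REG6 (architect helper33): STEP 4 in dimension 6 (`REG6_core` + the landed FIX)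
-/

set_option autoImplicit false

open Module Cfsg.Agent.Lib.Helper94_Symp Cfsg.Agent.Lib.Helper94_Herm
  Cfsg.Agent.Lib.Helper94_HermTrans Cfsg.Agent.Lib.Helper94_HermEich
  Cfsg.Agent.Lib.Helper13_SUGen
  Cfsg.Agent.Lib.Helper33_U2Defs Cfsg.Agent.Lib.Helper33_U2Geo

namespace Cfsg.Agent.Lib.Helper55_S2153_REG6

variable {F V : Type*} [Field F] [Fintype F] [AddCommGroup V] [Module F V] [FiniteDimensional F V]
variable {σ : F →+* F} {B : V →ₗ[F] V →ₛₗ[σ] F}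

/-- S2153-REG6 (L).  STEP 4 for `dim = 6` (packages FIX, DEIG, CNT9). -/
theorem REG6 (hF : Fintype.card F = 4) (hσ : Invol σ) (hB : IsHerm B) {U : Submodule F V}
    (hU : NondegOn B U) (hdim : finrank F U = 6)
    {Ω : Type*} [MulAction ↥(tvGroup B U) Ω] [Finite Ω] [Nonempty Ω]
    (hreg : ∀ u ∈ U, u ≠ 0 → B u u = 0 → ∀ ω ω' : Ω, ∃! g : ↥(tvGroup B U),
      g ∈ (QSub B U u).subgroupOf (tvGroup B U) ∧ g • ω = ω') : False :=
  Cfsg.Agent.Lib.Helper55_S2153_REG6core.REG6_core hF hσ hB hU hdim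
    (fun _ _ hvU hv'U h hr S hS hSv hSv' =>
      Cfsg.Agent.Lib.Helper33_S2153_FIX.FIX hF hσ hB hU (by omega) hvU hv'U h hr S hS hSv hSv')
    hreg

end Cfsg.Agent.Lib.Helper55_S2153_REG6
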