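import Mathlib
import Cfsg.Agent.Lib.Helper33_U2Defs

/-!
# S2153 package S1 (architect helper33, formalizer helper68)

STEP 1 of finding 179: every `Q`-orbit on the points moved by `t` is regular, and there is at most
one such orbit.
-/

set_option autoImplicit false

open Cfsg.Agent.Lib.Helper33_U2Defs

namespace Cfsg.Agent.Lib.Helper68_S2153_S1

/-- The sign character of `ZMod 2`. -/
def chi (x : ZMod 2) : ℤ := if x = 0 then 1 else -1

theorem chi_add (x y : ZMod 2) : chi (x + y) = chi x * chi y := by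
  revert x y
  decide

theorem chi_zero : chi 0 = 1 := by decide

theorem chi_ne {x : ZMod 2} (hx : x ≠ 0) : chi x = -1 := by
  unfold chi
  rw [if_neg hx]

/-- A totally isotropic additive subgroup for a nondegenerate biadditive symmetric form with
values in `ZMod 2` has at most `√|W|` elements. -/
theorem isotropic_card_sq_le {W : Type*} [AddCommGroup W] [Finite W] (β : W → W → ZMod 2)
    (β_add : ∀ w w' u, β (w + w') u = β w u + β w' u)
    (β_symm : ∀ w u, β w u = β u w)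
    (β_nondeg : ∀ w, (∀ u, β w u = 0) → w = 0)
    (I : AddSubgroup W) (hI : ∀ i ∈ I, ∀ j ∈ I, β i j = 0) :
    Nat.card I * Nat.card I ≤ Nat.card W := by
  classical
  cases nonempty_fintype W
  have β_add' : ∀ w u u', β w (u + u') = β w u + β w u' := by
    intro w u u'
    rw [β_symm, β_add, β_symm u, β_symm u']
  have β_zero : ∀ u, β 0 u = 0 := by
    intro u
    have h := β_add 0 0 u
    rw [add_zero] at h
    have : β 0 u + β 0 u = β 0 u + 0 := by rw [add_zero]; exact h.symm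
    exact add_left_cancel this
  -- the sum over `W` of a nontrivial character vanishes
  have hsumW : ∀ i : W, i ≠ 0 → ∑ w : W, chi (β i w) = 0 := by
    intro i hi
    have : ¬ ∀ u, β i u = 0 := fun h => hi (β_nondeg i h)
    obtain ⟨u, hu⟩ := not_forall.1 this
    have h1 : ∑ w : W, chi (β i w) = ∑ w : W, chi (β i (w + u)) :=
      (Equiv.sum_comp (Equiv.addRight u) (fun w => chi (β i w))).symm
    have h2 : ∑ w : W, chi (β i (w + u)) = - ∑ w : W, chi (β i w) := by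
      rw [← Finset.sum_neg_distrib]
      refine Finset.sum_congr rfl (fun w _ => ?_)
      rw [β_add', chi_add, chi_ne hu]
      ring
    have h3 : ∑ w : W, chi (β i w) = - ∑ w : W, chi (β i w) := h1.trans h2
    linarith
  have hsumW0 : ∑ w : W, chi (β 0 w) = (Fintype.card W : ℤ) := by
    have : ∀ w : W, chi (β 0 w) = 1 := by
      intro w
      rw [β_zero, chi_zero]
    simp [this]
  -- the inner sums
  have hf_nonneg : ∀ w : W, 0 ≤ ∑ i : I, chi (β i w) := by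
    intro w
    by_cases h : ∀ i : I, β i w = 0
    · have : ∀ i : I, chi (β i w) = 1 := fun i => by rw [h i, chi_zero]
      simp [this]
    · obtain ⟨i₀, hi₀⟩ := not_forall.1 h
      have h1 : ∑ i : I, chi (β i w) = ∑ i : I, chi (β ((i + i₀ : I) : W) w) :=
        (Equiv.sum_comp (Equiv.addRight i₀) (fun i : I => chi (β i w))).symm
      have h2 : ∑ i : I, chi (β ((i + i₀ : I) : W) w) = - ∑ i : I, chi (β i w) := by
        rw [← Finset.sum_neg_distrib]
        refine Finset.sum_congr rfl (fun i _ => ?_)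
        rw [AddSubgroup.coe_add, β_add, chi_add, chi_ne hi₀]
        ring
      have h3 : ∑ i : I, chi (β i w) = - ∑ i : I, chi (β i w) := h1.trans h2
      linarith
  have hf_mem : ∀ w : W, w ∈ I → ∑ i : I, chi (β i w) = (Fintype.card I : ℤ) := by
    intro w hw
    have : ∀ i : I, chi (β i w) = 1 := fun i => by rw [hI i i.2 w hw, chi_zero]
    simp [this]
  -- the double sum
  have hdouble : ∑ w : W, ∑ i : I, chi (β i w) = (Fintype.card W : ℤ) := by
    rw [Finset.sum_comm]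
    have : ∀ i : I, ∑ w : W, chi (β i w) = if i = 0 then (Fintype.card W : ℤ) else 0 := by
      intro i
      split_ifs with h
      · rw [h, AddSubgroup.coe_zero, hsumW0]
      · exact hsumW i (fun h' => h (Subtype.ext h'))
    rw [Finset.sum_congr rfl (fun i _ => this i)]
    simp
  have hlow : ∑ w : W, (if w ∈ I then (Fintype.card I : ℤ) else 0) ≤
      ∑ w : W, ∑ i : I, chi (β i w) := by
    refine Finset.sum_le_sum (fun w _ => ?_)
    split_ifs with h
    · rw [hf_mem w h]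
    · exact hf_nonneg w
  have hcount : ∑ w : W, (if w ∈ I then (Fintype.card I : ℤ) else 0) =
      (Fintype.card I : ℤ) * (Fintype.card I : ℤ) := by
    rw [Finset.sum_ite, Finset.sum_const_zero, add_zero, Finset.sum_const, nsmul_eq_mul]
    congr 2
    rw [Fintype.card_subtype]
  rw [hcount, hdouble] at hlow
  rw [Nat.card_eq_fintype_card, Nat.card_eq_fintype_card]
  exact_mod_cast hlow


section Datum

variable {G : Type*} [Group G] {W : Type*} [AddCommGroup W] {Ω : Type*} [MulAction G Ω]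
  {D : QDat G W}

theorem neg_eq (hD : D.Ok) (w : W) : -w = w :=
  neg_eq_of_add_eq_zero_left (hD.two w)

theorem pi_one (hD : D.Ok) : D.π 1 = 0 := by
  have h := hD.π_mul 1 D.Q.one_mem 1 D.Q.one_mem
  rw [mul_one] at h
  have : D.π 1 + D.π 1 = D.π 1 + 0 := by rw [add_zero]; exact h.symm
  exact add_left_cancel this

theorem pi_inv (hD : D.Ok) {g : G} (hg : g ∈ D.Q) : D.π g⁻¹ = D.π g := by
  have h := hD.π_mul g⁻¹ (D.Q.inv_mem hg) g hg
  rw [inv_mul_cancel, pi_one hD] at h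
  have h2 : D.π g⁻¹ = -D.π g := eq_neg_of_add_eq_zero_left h.symm
  rw [h2, neg_eq hD]

theorem beta_zero_left (hD : D.Ok) (u : W) : D.β 0 u = 0 := by
  have h := hD.β_add 0 0 u
  rw [add_zero] at h
  have : D.β 0 u + D.β 0 u = D.β 0 u + 0 := by rw [add_zero]; exact h.symm
  exact add_left_cancel this

theorem beta_zero_right (hD : D.Ok) (u : W) : D.β u 0 = 0 := by
  rw [hD.β_symm, beta_zero_left hD]

/-- `t` is central in `Q`. -/
theorem t_comm (hD : D.Ok) {g : G} (hg : g ∈ D.Q) : g * D.t = D.t * g := by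
  have h := hD.comm g hg D.t hD.t_mem
  rw [hD.π_t, beta_zero_right hD, ZMod.val_zero, pow_zero, one_mul] at h
  exact h

theorem t_pow_val (x : ZMod 2) : (x = 0 ∧ D.t ^ x.val = 1) ∨ (x = 1 ∧ D.t ^ x.val = D.t) := by
  revert x
  intro x
  fin_cases x
  · left
    refine ⟨rfl, ?_⟩
    show D.t ^ (0 : ZMod 2).val = 1
    rw [ZMod.val_zero, pow_zero]
  · right
    refine ⟨rfl, ?_⟩
    show D.t ^ (1 : ZMod 2).val = D.t
    rw [ZMod.val_one, pow_one]

/-- The image under `π` of the stabiliser in `Q` of the point `ω`. -/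
def stabIm (hD : D.Ok) (ω : Ω) : AddSubgroup W where
  carrier := {w | ∃ g ∈ D.Q, g • ω = ω ∧ D.π g = w}
  zero_mem' := ⟨1, D.Q.one_mem, one_smul _ _, pi_one hD⟩
  add_mem' := by
    rintro a b ⟨g, hg, hgω, rfl⟩ ⟨g', hg', hgω', rfl⟩
    exact ⟨g * g', D.Q.mul_mem hg hg', by rw [mul_smul, hgω', hgω], hD.π_mul g hg g' hg'⟩
  neg_mem' := by
    rintro a ⟨g, hg, hgω, rfl⟩
    exact ⟨g, hg, hgω, (neg_eq hD _).symm⟩

theorem mem_stabIm (hD : D.Ok) (ω : Ω) (w : W) :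
    w ∈ stabIm hD ω ↔ ∃ g ∈ D.Q, g • ω = ω ∧ D.π g = w := Iff.rfl

/-- The stabiliser image of a point moved by `t` is totally isotropic. -/
theorem stabIm_isotropic (hD : D.Ok) {ω : Ω} (hω : D.t • ω ≠ ω) :
    ∀ i ∈ stabIm hD ω, ∀ j ∈ stabIm hD ω, D.β i j = 0 := by
  rintro i ⟨g, hg, hgω, rfl⟩ j ⟨g', hg', hgω', rfl⟩
  have h := hD.comm g hg g' hg'
  rcases t_pow_val (D := D) (D.β (D.π g) (D.π g')) with ⟨h0, _⟩ | ⟨_, h1⟩
  · exact h0
  · exfalso
    rw [h1] at h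
    apply hω
    have h2 : (g * g') • ω = (D.t * (g' * g)) • ω := by rw [h]
    rw [mul_smul, mul_smul, mul_smul, hgω', hgω, hgω'] at h2
    exact h2.symm

/-- `π` is injective on the stabiliser of a point moved by `t`. -/
theorem pi_inj_on_stab (hD : D.Ok) {ω : Ω} (hω : D.t • ω ≠ ω) {g g' : G} (hg : g ∈ D.Q)
    (hg' : g' ∈ D.Q) (hgω : g • ω = ω) (hgω' : g' • ω = ω) (h : D.π g = D.π g') : g = g' := by
  have h1 : D.π (g⁻¹ * g') = 0 := by
    rw [hD.π_mul g⁻¹ (D.Q.inv_mem hg) g' hg', pi_inv hD hg, h, hD.two]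
  have h2 : (g⁻¹ * g') • ω = ω := by
    rw [mul_smul, hgω', inv_smul_eq_iff, hgω]
  rcases hD.π_ker _ (D.Q.mul_mem (D.Q.inv_mem hg) hg') h1 with h3 | h3
  · exact inv_mul_eq_one.1 h3
  · exfalso
    rw [h3] at h2
    exact hω h2

/-- The restriction of `π` to `Q`, as a homomorphism. -/
def piHom (hD : D.Ok) : ↥D.Q →* Multiplicative W where
  toFun g := Multiplicative.ofAdd (D.π (g : G))
  map_one' := by
    show Multiplicative.ofAdd (D.π ((1 : D.Q) : G)) = 1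
    rw [Subgroup.coe_one, pi_one hD, ofAdd_zero]
  map_mul' := fun g g' => by
    show Multiplicative.ofAdd (D.π ((g * g' : D.Q) : G)) = _
    rw [Subgroup.coe_mul, hD.π_mul g g.2 g' g'.2, ofAdd_add]

theorem piHom_apply (hD : D.Ok) (g : D.Q) : piHom hD g = Multiplicative.ofAdd (D.π (g : G)) := rfl

theorem card_Q (hD : D.Ok) : Nat.card D.Q = 2 * Nat.card W := by
  have hsurj : Function.Surjective (piHom hD) := by
    intro w
    obtain ⟨g, hg, hgw⟩ := hD.π_surj (Multiplicative.toAdd w)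
    refine ⟨⟨g, hg⟩, ?_⟩
    rw [piHom_apply]
    show Multiplicative.ofAdd (D.π g) = w
    rw [hgw]
    rfl
  have hker : Nat.card (piHom hD).ker = 2 := by
    rw [Nat.card_eq_two_iff]
    have ht : (⟨D.t, hD.t_mem⟩ : D.Q) ∈ (piHom hD).ker := by
      rw [MonoidHom.mem_ker, piHom_apply]
      show Multiplicative.ofAdd (D.π D.t) = 1
      rw [hD.π_t, ofAdd_zero]
    refine ⟨⟨1, one_mem _⟩, ⟨⟨D.t, hD.t_mem⟩, ht⟩, ?_, ?_⟩
    · intro h
      apply hD.t_ne
      have := congrArg (fun x : (piHom hD).ker => ((x : D.Q) : G)) h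
      exact this.symm
    · ext x
      simp only [Set.mem_insert_iff, Set.mem_singleton_iff, Set.mem_univ, iff_true]
      have hx := x.2
      rw [MonoidHom.mem_ker, piHom_apply] at hx
      have hx0 : D.π ((x : D.Q) : G) = 0 := by
        have := congrArg Multiplicative.toAdd hx
        simpa using this
      rcases hD.π_ker _ (x : D.Q).2 hx0 with h | h
      · left
        exact Subtype.ext (Subtype.ext h)
      · right
        exact Subtype.ext (Subtype.ext h)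
  have h1 := Subgroup.card_eq_card_quotient_mul_card_subgroup (piHom hD).ker
  have h2 : Nat.card (↥D.Q ⧸ (piHom hD).ker) = Nat.card W :=
    Nat.card_congr
      ((QuotientGroup.quotientKerEquivOfSurjective _ hsurj).toEquiv.trans Multiplicative.toAdd)
  rw [h1, h2, hker, mul_comm]

/-- For a point moved by `t`, the stabiliser in `Q` is in bijection with its image. -/
theorem card_stab_eq (hD : D.Ok) {ω : Ω} (hω : D.t • ω ≠ ω) :
    Nat.card (MulAction.stabilizer D.Q ω) = Nat.card (stabIm hD ω) := by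
  refine Nat.card_congr (Equiv.ofBijective
    (fun s => (⟨D.π ((s : D.Q) : G), ⟨((s : D.Q) : G), (s : D.Q).2, ?_, rfl⟩⟩ : stabIm hD ω))
    ⟨?_, ?_⟩)
  · have := s.2
    rw [MulAction.mem_stabilizer_iff] at this
    exact this
  · intro s s' h
    have h1 : D.π ((s : D.Q) : G) = D.π ((s' : D.Q) : G) := congrArg Subtype.val h
    have hs := s.2
    have hs' := s'.2
    rw [MulAction.mem_stabilizer_iff] at hs hs'
    exact Subtype.ext (Subtype.ext
      (pi_inj_on_stab hD hω (s : D.Q).2 (s' : D.Q).2 hs hs' h1))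
  · rintro ⟨w, g, hg, hgω, rfl⟩
    exact ⟨⟨⟨g, hg⟩, by rw [MulAction.mem_stabilizer_iff]; exact hgω⟩, rfl⟩

/-- The `Q`-orbit of a point moved by `t` has at least `2^(d+1)` points. -/
theorem orbit_bound [Finite W] (hD : D.Ok) (d : ℕ) (hW : Nat.card W = 4 ^ d) {ω : Ω}
    (hω : D.t • ω ≠ ω) : 2 ^ (d + 1) ≤ Nat.card (↥D.Q ⧸ MulAction.stabilizer D.Q ω) := by
  have h1 := Subgroup.card_eq_card_quotient_mul_card_subgroup (MulAction.stabilizer D.Q ω)
  rw [card_Q hD, hW, card_stab_eq hD hω] at h1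
  have h2 := isotropic_card_sq_le D.β hD.β_add hD.β_symm hD.β_nondeg (stabIm hD ω)
    (stabIm_isotropic hD hω)
  rw [hW] at h2
  have h4 : (4 : ℕ) ^ d = 2 ^ d * 2 ^ d := by
    rw [← mul_pow]
    norm_num
  rw [h4] at h2
  have h3 : Nat.card (stabIm hD ω) ≤ 2 ^ d := Nat.mul_self_le_mul_self_iff.1 h2
  have h5 : 2 ^ (d + 1) * 2 ^ d ≤
      Nat.card (↥D.Q ⧸ MulAction.stabilizer D.Q ω) * 2 ^ d := by
    calc 2 ^ (d + 1) * 2 ^ d = 2 * 4 ^ d := by rw [h4, pow_succ]; ring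
      _ = Nat.card (↥D.Q ⧸ MulAction.stabilizer D.Q ω) * Nat.card (stabIm hD ω) := h1
      _ ≤ Nat.card (↥D.Q ⧸ MulAction.stabilizer D.Q ω) * 2 ^ d := Nat.mul_le_mul_left _ h3
  exact Nat.le_of_mul_le_mul_right h5 (by positivity)

theorem pi_conj (hD : D.Ok) {g s : G} (hg : g ∈ D.Q) (hs : s ∈ D.Q) :
    D.π (g * s * g⁻¹) = D.π s := by
  rw [hD.π_mul _ (D.Q.mul_mem hg hs) _ (D.Q.inv_mem hg), hD.π_mul g hg s hs, pi_inv hD hg,
    add_comm (D.π g), add_assoc, hD.two, add_zero]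

theorem stabIm_smul_Q (hD : D.Ok) {g : G} (hg : g ∈ D.Q) (ω : Ω) :
    stabIm hD (g • ω) = stabIm hD ω := by
  ext w
  rw [mem_stabIm, mem_stabIm]
  constructor
  · rintro ⟨s, hs, hsω, rfl⟩
    refine ⟨g⁻¹ * s * g⁻¹⁻¹, D.Q.mul_mem (D.Q.mul_mem (D.Q.inv_mem hg) hs)
      (D.Q.inv_mem (D.Q.inv_mem hg)), ?_, pi_conj hD (D.Q.inv_mem hg) hs⟩
    rw [inv_inv, mul_smul, mul_smul, hsω, inv_smul_smul]
  · rintro ⟨s, hs, hsω, rfl⟩
    refine ⟨g * s * g⁻¹, D.Q.mul_mem (D.Q.mul_mem hg hs) (D.Q.inv_mem hg), ?_, pi_conj hD hg hs⟩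
    rw [mul_smul, mul_smul, inv_smul_smul, hsω]

theorem rho_mul (hD : D.Ok) {k k' : G} (hk : k ∈ D.K) (hk' : k' ∈ D.K) (w : W) :
    D.ρ (k * k') w = D.ρ k (D.ρ k' w) := by
  obtain ⟨g, hg, rfl⟩ := hD.π_surj w
  rw [← hD.K_conj_π k' hk' g hg, ← hD.K_conj_π k hk _ (hD.K_conj_mem k' hk' g hg),
    ← hD.K_conj_π (k * k') (D.K.mul_mem hk hk') g hg]
  congr 1
  group

theorem rho_one (hD : D.Ok) (w : W) : D.ρ 1 w = w := by
  obtain ⟨g, hg, rfl⟩ := hD.π_surj w
  rw [← hD.K_conj_π 1 D.K.one_mem g hg]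
  congr 1
  group

theorem rho_inv_rho (hD : D.Ok) {k : G} (hk : k ∈ D.K) (w : W) : D.ρ k⁻¹ (D.ρ k w) = w := by
  rw [← rho_mul hD (D.K.inv_mem hk) hk, inv_mul_cancel, rho_one hD]

theorem rho_rho_inv (hD : D.Ok) {k : G} (hk : k ∈ D.K) (w : W) : D.ρ k (D.ρ k⁻¹ w) = w := by
  rw [← rho_mul hD hk (D.K.inv_mem hk), mul_inv_cancel, rho_one hD]

theorem mem_stabIm_smul_K (hD : D.Ok) {k : G} (hk : k ∈ D.K) (ω : Ω) (w : W) :
    w ∈ stabIm hD (k • ω) ↔ ∃ w' ∈ stabIm hD ω, D.ρ k w' = w := by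
  constructor
  · rintro ⟨s, hs, hsω, rfl⟩
    have hs' : k⁻¹ * s * k⁻¹⁻¹ ∈ D.Q := hD.K_conj_mem k⁻¹ (D.K.inv_mem hk) s hs
    refine ⟨D.π (k⁻¹ * s * k⁻¹⁻¹), ⟨k⁻¹ * s * k⁻¹⁻¹, hs', ?_, rfl⟩, ?_⟩
    · rw [inv_inv, mul_smul, mul_smul, hsω, inv_smul_smul]
    · rw [← hD.K_conj_π k hk _ hs']
      congr 1
      group
  · rintro ⟨w', ⟨s, hs, hsω, rfl⟩, rfl⟩
    refine ⟨k * s * k⁻¹, hD.K_conj_mem k hk s hs, ?_, hD.K_conj_π k hk s hs⟩
    rw [mul_smul, mul_smul, inv_smul_smul, hsω]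

/-- The stabiliser in `K` of an additive subgroup of `W`. -/
def stabL (hD : D.Ok) (I : AddSubgroup W) : Subgroup G where
  carrier := {k | k ∈ D.K ∧ ∀ w, w ∈ I ↔ D.ρ k w ∈ I}
  one_mem' := ⟨D.K.one_mem, fun w => by rw [rho_one hD]⟩
  mul_mem' := by
    rintro a b ⟨ha, ha'⟩ ⟨hb, hb'⟩
    refine ⟨D.K.mul_mem ha hb, fun w => ?_⟩
    rw [rho_mul hD ha hb, ← ha', ← hb']
  inv_mem' := by
    rintro a ⟨ha, ha'⟩
    refine ⟨D.K.inv_mem ha, fun w => ?_⟩
    rw [ha' (D.ρ a⁻¹ w), rho_rho_inv hD ha]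

theorem mem_stabL (hD : D.Ok) (I : AddSubgroup W) (k : G) :
    k ∈ stabL hD I ↔ k ∈ D.K ∧ ∀ w, w ∈ I ↔ D.ρ k w ∈ I := Iff.rfl

theorem stabL_le (hD : D.Ok) (I : AddSubgroup W) : stabL hD I ≤ D.K := fun _ hk => hk.1

/-- If two `K`-translates of `Q`-translates of `ω` agree, the two elements of `K` agree modulo
the stabiliser of the stabiliser image. -/
theorem key_inj (hD : D.Ok) {ω : Ω} {k k' g g' : G} (hk : k ∈ D.K) (hk' : k' ∈ D.K)
    (hg : g ∈ D.Q) (hg' : g' ∈ D.Q) (h : k • g • ω = k' • g' • ω) :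
    k⁻¹ * k' ∈ stabL hD (stabIm hD ω) := by
  have hI : ∀ w, (∃ w' ∈ stabIm hD ω, D.ρ k w' = w) ↔ (∃ w' ∈ stabIm hD ω, D.ρ k' w' = w) := by
    intro w
    have e1 := mem_stabIm_smul_K hD hk (g • ω) w
    have e2 := mem_stabIm_smul_K hD hk' (g' • ω) w
    rw [stabIm_smul_Q hD hg ω] at e1
    rw [stabIm_smul_Q hD hg' ω] at e2
    rw [← e1, ← e2, h]
  refine ⟨D.K.mul_mem (D.K.inv_mem hk) hk', fun w => ?_⟩
  rw [rho_mul hD (D.K.inv_mem hk) hk']
  constructor
  · intro hw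
    obtain ⟨w'', hw'', h2⟩ := (hI (D.ρ k' w)).2 ⟨w, hw, rfl⟩
    rw [← h2, rho_inv_rho hD hk]
    exact hw''
  · intro hw
    obtain ⟨w'', hw'', h2⟩ := (hI (D.ρ k' w)).1 ⟨_, hw, rho_rho_inv hD hk _⟩
    have h3 : w'' = w := by
      have := congrArg (D.ρ k'⁻¹) h2
      rwa [rho_inv_rho hD hk', rho_inv_rho hD hk'] at this
    rw [← h3]
    exact hw''

end Datum

/-- Regularity: the stabiliser in `Q` of a point moved by `t` is trivial. -/
theorem regular_of_moved {G : Type*} [Group G] {W : Type*} [AddCommGroup W] [Finite W]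
    {Ω : Type*} [MulAction G Ω] [Finite Ω]
    (D : QDat G W) (hD : D.Ok) (d m : ℕ) (hd : 1 ≤ d) (hW : Nat.card W = 4 ^ d)
    (hirr : ∀ I : AddSubgroup W, (∀ k ∈ D.K, ∀ w ∈ I, D.ρ k w ∈ I) → I = ⊥ ∨ I = ⊤)
    (hmu : ∀ L : Subgroup G, L ≤ D.K → L ≠ D.K → m ≤ L.relIndex D.K)
    (hm : 2 ^ (d + 2) - 1 ≤ 3 * m)
    (hΩ : 3 * Nat.card Ω < 2 ^ (d + 1) * (2 ^ (d + 2) - 1)) :
    ∀ ω : Ω, D.t • ω ≠ ω → ∀ g ∈ D.Q, g • ω = ω → g = 1 := by
  intro ω hω g hg hgω
  by_contra hg1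
  -- the stabiliser image is a proper nonzero subgroup
  have hπg : D.π g ≠ 0 := by
    intro h0
    rcases hD.π_ker g hg h0 with h | h
    · exact hg1 h
    · rw [h] at hgω
      exact hω hgω
  have hmem : D.π g ∈ stabIm hD ω := ⟨g, hg, hgω, rfl⟩
  have hbot : stabIm hD ω ≠ ⊥ := by
    intro h
    rw [h, AddSubgroup.mem_bot] at hmem
    exact hπg hmem
  have h4 : (4 : ℕ) ^ d = 2 ^ d * 2 ^ d := by
    rw [← mul_pow]
    norm_num
  have htop : stabIm hD ω ≠ ⊤ := by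
    intro h
    have h2 := isotropic_card_sq_le D.β hD.β_add hD.β_symm hD.β_nondeg (stabIm hD ω)
      (stabIm_isotropic hD hω)
    rw [h, AddSubgroup.card_top, hW] at h2
    have h5 : 1 < (4 : ℕ) ^ d := Nat.one_lt_pow (by omega) (by norm_num)
    nlinarith
  have hninv : ¬ ∀ k ∈ D.K, ∀ w ∈ stabIm hD ω, D.ρ k w ∈ stabIm hD ω := by
    intro h
    rcases hirr _ h with h' | h'
    · exact hbot h'
    · exact htop h'
  obtain ⟨k₀, hk₀⟩ := not_forall.1 hninv
  obtain ⟨hk₀K, hk₀'⟩ := Classical.not_imp.1 hk₀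
  obtain ⟨w₀, hw₀⟩ := not_forall.1 hk₀'
  obtain ⟨hw₀I, hw₀'⟩ := Classical.not_imp.1 hw₀
  have hLne : stabL hD (stabIm hD ω) ≠ D.K := by
    intro h
    have : k₀ ∈ stabL hD (stabIm hD ω) := by rw [h]; exact hk₀K
    exact hw₀' ((this.2 w₀).1 hw₀I)
  have hrel := hmu _ (stabL_le hD _) hLne
  -- the injection
  set L' := (stabL hD (stabIm hD ω)).subgroupOf D.K with hL'
  set S := MulAction.stabilizer D.Q ω with hS
  let F : (↥D.K ⧸ L') × (↥D.Q ⧸ S) → Ω :=
    fun x => ((x.1.out : D.K) : G) • (((x.2.out : D.Q) : G) • ω)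
  have hF : Function.Injective F := by
    rintro ⟨c, e⟩ ⟨c', e'⟩ h
    have h0 : ((c.out : D.K) : G) • (((e.out : D.Q) : G) • ω) =
        ((c'.out : D.K) : G) • (((e'.out : D.Q) : G) • ω) := h
    have hk : ((c.out : D.K) : G) ∈ D.K := (c.out : D.K).2
    have hk' : ((c'.out : D.K) : G) ∈ D.K := (c'.out : D.K).2
    have hq : ((e.out : D.Q) : G) ∈ D.Q := (e.out : D.Q).2
    have hq' : ((e'.out : D.Q) : G) ∈ D.Q := (e'.out : D.Q).2
    have h1 := key_inj hD hk hk' hq hq' h0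
    have hcc : c = c' :=
      calc c = ((c.out : D.K) : ↥D.K ⧸ L') := (QuotientGroup.out_eq' c).symm
        _ = ((c'.out : D.K) : ↥D.K ⧸ L') := QuotientGroup.eq.2 (Subgroup.mem_subgroupOf.2 h1)
        _ = c' := QuotientGroup.out_eq' c'
    subst hcc
    have h2 : ((e.out : D.Q) : G) • ω = ((e'.out : D.Q) : G) • ω := smul_left_cancel _ h0
    have h3 : (e.out : D.Q)⁻¹ * (e'.out : D.Q) ∈ S := by
      show (e.out : D.Q)⁻¹ * (e'.out : D.Q) ∈ MulAction.stabilizer D.Q ω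
      rw [MulAction.mem_stabilizer_iff, mul_smul, inv_smul_eq_iff]
      exact h2.symm
    have hee : e = e' :=
      calc e = ((e.out : D.Q) : ↥D.Q ⧸ S) := (QuotientGroup.out_eq' e).symm
        _ = ((e'.out : D.Q) : ↥D.Q ⧸ S) := QuotientGroup.eq.2 h3
        _ = e' := QuotientGroup.out_eq' e'
    rw [hee]
  have hcard := Nat.card_le_card_of_injective F hF
  rw [Nat.card_prod] at hcard
  have hc1 : Nat.card (↥D.K ⧸ L') = (stabL hD (stabIm hD ω)).relIndex D.K := by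
    rw [Subgroup.relIndex, Subgroup.index_eq_card]
  have hc2 : 2 ^ (d + 1) ≤ Nat.card (↥D.Q ⧸ S) := orbit_bound hD d hW hω
  rw [hc1] at hcard
  have h6 : m * 2 ^ (d + 1) ≤ Nat.card Ω :=
    le_trans (Nat.mul_le_mul hrel hc2) hcard
  have h7 : 2 ^ (d + 1) * (2 ^ (d + 2) - 1) ≤ 3 * Nat.card Ω := by
    calc 2 ^ (d + 1) * (2 ^ (d + 2) - 1) ≤ 2 ^ (d + 1) * (3 * m) := Nat.mul_le_mul_left _ hm
      _ = 3 * (m * 2 ^ (d + 1)) := by ring
      _ ≤ 3 * Nat.card Ω := Nat.mul_le_mul_left _ h6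
  omega

/-- S2153-S1 (L).  STEP 1 of finding 179: every `Q`-orbit on the points moved by `t` is regular,
and there is at most one. -/
theorem S1 {G : Type*} [Group G] {W : Type*} [AddCommGroup W] [Finite W]
    {Ω : Type*} [MulAction G Ω] [Finite Ω]
    (D : QDat G W) (hD : D.Ok) (d m : ℕ) (hd : 1 ≤ d) (hW : Nat.card W = 4 ^ d)
    (hirr : ∀ I : AddSubgroup W, (∀ k ∈ D.K, ∀ w ∈ I, D.ρ k w ∈ I) → I = ⊥ ∨ I = ⊤)
    (hmu : ∀ L : Subgroup G, L ≤ D.K → L ≠ D.K → m ≤ L.relIndex D.K)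
    (hm : 2 ^ (d + 2) - 1 ≤ 3 * m)
    (hΩ : 3 * Nat.card Ω < 2 ^ (d + 1) * (2 ^ (d + 2) - 1)) :
    (∀ ω : Ω, D.t • ω ≠ ω → ∀ g ∈ D.Q, g • ω = ω → g = 1) ∧
    (Nat.card {ω : Ω // D.t • ω ≠ ω} = 0 ∨ Nat.card {ω : Ω // D.t • ω ≠ ω} = 2 * 4 ^ d) := by
  have hreg := regular_of_moved D hD d m hd hW hirr hmu hm hΩ
  refine ⟨hreg, ?_⟩
  by_cases hne : Nonempty {ω : Ω // D.t • ω ≠ ω}
  · right
    obtain ⟨⟨ω, hω⟩⟩ := hne
    have hmoved : ∀ g ∈ D.Q, D.t • (g • ω) ≠ g • ω := by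
      intro g hg h
      apply hω
      rw [← mul_smul, ← t_comm hD hg, mul_smul] at h
      exact smul_left_cancel g h
    have hregω : ∀ ω₁ : Ω, D.t • ω₁ ≠ ω₁ → ∀ g g' : D.Q,
        (g : G) • ω₁ = (g' : G) • ω₁ → g = g' := by
      intro ω₁ hω₁ g g' h1
      have h2 : ((g : G)⁻¹ * (g' : G)) • ω₁ = ω₁ := by rw [mul_smul, ← h1, inv_smul_smul]
      have h3 := hreg ω₁ hω₁ _ (D.Q.mul_mem (D.Q.inv_mem g.2) g'.2) h2
      exact Subtype.ext (inv_mul_eq_one.1 h3)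
    let φ : ↥D.Q → {ω : Ω // D.t • ω ≠ ω} := fun g => ⟨(g : G) • ω, hmoved g g.2⟩
    have hφinj : Function.Injective φ := by
      intro g g' h
      exact hregω ω hω g g' (congrArg Subtype.val h)
    have hφsurj : Function.Surjective φ := by
      by_contra hns
      obtain ⟨⟨ω', hω'⟩, hω''⟩ := not_forall.1 hns
      have hne' : ∀ g g' : D.Q, (g : G) • ω ≠ (g' : G) • ω' := by
        intro g g' h
        apply hω''
        refine ⟨g'⁻¹ * g, Subtype.ext ?_⟩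
        show ((g'⁻¹ * g : D.Q) : G) • ω = ω'
        rw [Subgroup.coe_mul, Subgroup.coe_inv, mul_smul, h, inv_smul_smul]
      let F : Bool × ↥D.Q → Ω := fun x => if x.1 then (x.2 : G) • ω else (x.2 : G) • ω'
      have hF : Function.Injective F := by
        rintro ⟨b, g⟩ ⟨b', g'⟩ h
        cases b <;> cases b'
        · have h1 : (g : G) • ω' = (g' : G) • ω' := h
          rw [hregω ω' hω' g g' h1]
        · have h1 : (g : G) • ω' = (g' : G) • ω := h
          exact absurd h1.symm (hne' g' g)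
        · have h1 : (g : G) • ω = (g' : G) • ω' := h
          exact absurd h1 (hne' g g')
        · have h1 : (g : G) • ω = (g' : G) • ω := h
          rw [hregω ω hω g g' h1]
      have hcard := Nat.card_le_card_of_injective F hF
      rw [Nat.card_prod, Nat.card_eq_fintype_card (α := Bool), Fintype.card_bool, card_Q hD,
        hW] at hcard
      have h4 : (4 : ℕ) ^ d = 2 ^ d * 2 ^ d := by
        rw [← mul_pow]
        norm_num
      have h5 : (2 : ℕ) ^ (d + 1) = 2 * 2 ^ d := by rw [pow_succ]; ring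
      have h6 : (2 : ℕ) ^ (d + 2) = 4 * 2 ^ d := by rw [pow_succ, pow_succ]; ring
      rw [h5, h6] at hΩ
      rw [h4] at hcard
      have h7 : 2 * 2 ^ d * (4 * 2 ^ d - 1) ≤ 2 * 2 ^ d * (4 * 2 ^ d) :=
        Nat.mul_le_mul_left _ (Nat.sub_le _ _)
      nlinarith
    rw [← Nat.card_congr (Equiv.ofBijective φ ⟨hφinj, hφsurj⟩), card_Q hD, hW]
  · left
    rw [not_nonempty_iff] at hne
    exact Nat.card_of_isEmpty

end Cfsg.Agent.Lib.Helper68_S2153_S1
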