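import Mathlib
import Cfsg.Agent.Lib.Helper94_Herm
import Cfsg.Agent.Lib.Helper94_HermTrans
import Cfsg.Agent.Lib.Helper94_HermEich
import Cfsg.Agent.Lib.Helper94_HermPara
import Cfsg.Agent.Lib.Helper94_HermWitt
import Cfsg.Agent.Lib.Helper94_HermIrr
import Cfsg.Agent.Lib.Helper13_SUGen
import Cfsg.Agent.Lib.Helper33_U2Defs
import Cfsg.Agent.Lib.Helper33_U2Geo
import Cfsg.Agent.Lib.Helper33_S2153_F4
import Cfsg.Agent.Lib.Helper33_S2153_QSTR
import Cfsg.Agent.Lib.Helper54_S2153_DEIG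
import Cfsg.Agent.Lib.Helper33_S2153_FIX

/-!
# S2153 Part B (architect helper33), package REG8: no regular action of all `Q_u` when `dim U ≥ 7`

`s = d₁ d₂` for three mutually orthogonal hyperbolic pairs; the fixed points of `⟨s⟩` on `Ω` are
counted twice with package FIX: from `(a₃, b₃)` the count is `2 c₁` with `c₁ ≥ 2`, from
`(x₁ + x₂, ω x₁ + (ω+1) x₂)` it is `2`.
-/

set_option autoImplicit false

open Module Cfsg.Agent.Lib.Helper94_Symp Cfsg.Agent.Lib.Helper94_Herm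
  Cfsg.Agent.Lib.Helper94_HermTrans Cfsg.Agent.Lib.Helper94_HermEich
  Cfsg.Agent.Lib.Helper13_SUGen
  Cfsg.Agent.Lib.Helper33_U2Defs Cfsg.Agent.Lib.Helper33_U2Geo

namespace Cfsg.Agent.Lib.Helper69_S2153_REG8

variable {F V : Type*} [Field F] [Fintype F] [AddCommGroup V] [Module F V] [FiniteDimensional F V]
variable {σ : F →+* F} {B : V →ₗ[F] V →ₛₗ[σ] F}

/-- Transvections with orthogonal centres commute. -/
lemma utv_comm (hB : IsHerm B) {a a' : V} (h : B a a' = 0) (c : F) {c' : F} (hc' : σ c' = -c') :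
    utv B a' c' * utv B a c = utv B a c * utv B a' c' := by
  have hg := utv_mem_uG hB a' hc'
  have h1 := conj_utv hg a c
  rw [utv_fix B a' c' h] at h1
  calc utv B a' c' * utv B a c
      = (utv B a' c' * utv B a c * (utv B a' c')⁻¹) * utv B a' c' := by group
    _ = utv B a c * utv B a' c' := by rw [h1]

/-- The elements of the cyclic group generated by an element of order dividing three. -/
lemma zpowers_cases {G : Type*} [Group G] {s : G} (hs3 : s ^ 3 = 1) {t : G}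
    (ht : t ∈ Subgroup.zpowers s) : t = 1 ∨ t = s ∨ t = s * s := by
  obtain ⟨n, rfl⟩ := Subgroup.mem_zpowers_iff.mp ht
  have h3 : s ^ (3 : ℤ) = 1 := by
    have : s ^ ((3 : ℕ) : ℤ) = 1 := by rw [zpow_natCast]; exact hs3
    simpa using this
  rw [zpow_eq_zpow_emod n h3]
  have h0 : 0 ≤ n % 3 := Int.emod_nonneg n (by norm_num)
  have h1 : n % 3 < 3 := Int.emod_lt_of_pos n (by norm_num)
  obtain ⟨k, hk⟩ : ∃ k : ℕ, n % 3 = k := ⟨(n % 3).toNat, (Int.toNat_of_nonneg h0).symm⟩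
  rw [hk] at h1 ⊢
  have hk3 : k < 3 := by exact_mod_cast h1
  rw [zpow_natCast]
  interval_cases k
  · left; simp
  · right; left; simp
  · right; right; rw [pow_two]

/-- The abstract core of REG8: two evaluations of the number of fixed points of `⟨s⟩`. -/
theorem core (hσ : Invol σ) {U : Submodule F V}
    {Ω : Type*} [MulAction ↥(tvGroup B U) Ω] [Finite Ω] [Nonempty Ω]
    (hFIX : ∀ {v v' : V}, v ∈ U → v' ∈ U → HypPair B v v' →
      (∀ ω ω' : Ω, ∃! g : ↥(tvGroup B U),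
        g ∈ (QSub B U v).subgroupOf (tvGroup B U) ∧ g • ω = ω') →
      ∀ S : Subgroup ↥(tvGroup B U), IsPGroup 3 S →
      (∀ s ∈ S, ∃ l : F, (s : V ≃ₗ[F] V) v = l • v) →
      (∀ s ∈ S, ∃ l : F, (s : V ≃ₗ[F] V) v' = l • v') →
      Nat.card {ω : Ω // ∀ s ∈ S, s • ω = ω} =
        2 * Nat.card {y : V // y ∈ Wsub B U v v' ∧
          ∀ s ∈ S, σ (B ((s : V ≃ₗ[F] V) v) v') • (s : V ≃ₗ[F] V) y = y})
    (hreg : ∀ u ∈ U, u ≠ 0 → B u u = 0 → ∀ ω ω' : Ω, ∃! g : ↥(tvGroup B U),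
      g ∈ (QSub B U u).subgroupOf (tvGroup B U) ∧ g • ω = ω')
    {ω : F} (hω : ω ^ 2 + ω + 1 = 0) (hσω : σ ω = ω + 1) (hchar : ∀ x : F, x + x = 0)
    {s : V ≃ₗ[F] V} (hs : s ∈ tvGroup B U) (hs3 : s ^ 3 = 1)
    {a3 b3 y0 : V} (ha3U : a3 ∈ U) (hb3U : b3 ∈ U) (h3 : HypPair B a3 b3)
    (hsa3 : s a3 = a3) (hsb3 : s b3 = b3)
    (hy0U : y0 ∈ U) (hy0 : y0 ≠ 0) (hy0a : B y0 a3 = 0) (hy0b : B y0 b3 = 0) (hsy0 : s y0 = y0)
    {v v' : V} (hvU : v ∈ U) (hv'U : v' ∈ U) (h : HypPair B v v')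
    (hsv : s v = ω • v) (hsv' : s v' = ω • v')
    (hzero : ∀ y ∈ U, B y v = 0 → B y v' = 0 → s y = ω • y → y = 0) : False := by
  classical
  haveI : Finite V := Module.finite_of_finite F
  set s' : ↥(tvGroup B U) := ⟨s, hs⟩ with hs'
  set S : Subgroup ↥(tvGroup B U) := Subgroup.zpowers s' with hSdef
  have hs'3 : s' ^ 3 = 1 := by
    apply Subtype.ext
    rw [Subgroup.coe_pow]
    exact hs3
  have hcases : ∀ t ∈ S, (t : V ≃ₗ[F] V) = 1 ∨ (t : V ≃ₗ[F] V) = s ∨ (t : V ≃ₗ[F] V) = s * s := by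
    intro t ht
    rcases zpowers_cases hs'3 ht with h1 | h1 | h1
    · left; rw [h1]; rfl
    · right; left; rw [h1]
    · right; right; rw [h1]; rfl
  have hs'S : s' ∈ S := Subgroup.mem_zpowers s'
  have hS : IsPGroup 3 S := by
    intro t
    refine ⟨1, ?_⟩
    rw [pow_one]
    apply Subtype.ext
    apply Subtype.ext
    rw [Subgroup.coe_pow, Subgroup.coe_pow]
    rcases hcases t.1 t.2 with h1 | h1 | h1
    · rw [h1]; simp
    · rw [h1]; exact hs3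
    · rw [h1]
      calc (s * s) ^ 3 = (s ^ 3) ^ 2 := by rw [← pow_two, ← pow_mul, ← pow_mul]
        _ = 1 := by rw [hs3, one_pow]
  have hω0 : ω ≠ 0 := by
    rintro rfl
    simp at hω
  have hω1 : ω ≠ 1 := by
    rintro rfl
    have h2 := hchar 1
    apply one_ne_zero (α := F)
    linear_combination hω - h2
  have hωω : ω * (ω + 1) = 1 := by
    have h2 := hchar 1
    linear_combination hω - h2
  have ha3ne : a3 ≠ 0 := by
    rintro rfl
    have := h3.ef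
    simp at this
  have hvne : v ≠ 0 := by
    rintro rfl
    have := h.ef
    simp at this
  -- first evaluation
  have hSa : ∀ t ∈ S, (t : V ≃ₗ[F] V) a3 = a3 := by
    intro t ht
    rcases hcases t ht with h1 | h1 | h1 <;> rw [h1]
    · rfl
    · exact hsa3
    · rw [LinearEquiv.mul_apply, hsa3, hsa3]
  have hSb : ∀ t ∈ S, (t : V ≃ₗ[F] V) b3 = b3 := by
    intro t ht
    rcases hcases t ht with h1 | h1 | h1 <;> rw [h1]
    · rfl
    · exact hsb3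
    · rw [LinearEquiv.mul_apply, hsb3, hsb3]
  have hSy : ∀ t ∈ S, (t : V ≃ₗ[F] V) y0 = y0 := by
    intro t ht
    rcases hcases t ht with h1 | h1 | h1 <;> rw [h1]
    · rfl
    · exact hsy0
    · rw [LinearEquiv.mul_apply, hsy0, hsy0]
  have E1 := hFIX ha3U hb3U h3 (hreg a3 ha3U ha3ne h3.ee) S hS
    (fun t ht => ⟨1, by rw [hSa t ht, one_smul]⟩) (fun t ht => ⟨1, by rw [hSb t ht, one_smul]⟩)
  have hc1 : 2 ≤ Nat.card {y : V // y ∈ Wsub B U a3 b3 ∧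
      ∀ s ∈ S, σ (B ((s : V ≃ₗ[F] V) a3) b3) • (s : V ≃ₗ[F] V) y = y} := by
    have hnt : Nontrivial {y : V // y ∈ Wsub B U a3 b3 ∧
        ∀ s ∈ S, σ (B ((s : V ≃ₗ[F] V) a3) b3) • (s : V ≃ₗ[F] V) y = y} := by
      refine ⟨⟨⟨0, Submodule.zero_mem _, fun t _ => by simp⟩,
        ⟨y0, Cfsg.Agent.Lib.Helper33_S2153_QSTR.mem_Wsub.mpr ⟨hy0U, hy0a, hy0b⟩, fun t ht => ?_⟩,
        ?_⟩⟩
      · rw [hSa t ht, hSy t ht, h3.ef, map_one, one_smul]
      · intro heq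
        exact hy0 (congrArg Subtype.val heq).symm
    exact Finite.one_lt_card_iff_nontrivial.mpr hnt
  -- second evaluation
  have hSv : ∀ t ∈ S, ∃ l : F, (t : V ≃ₗ[F] V) v = l • v := by
    intro t ht
    rcases hcases t ht with h1 | h1 | h1 <;> rw [h1]
    · exact ⟨1, by simp⟩
    · exact ⟨ω, hsv⟩
    · exact ⟨ω * ω, by rw [LinearEquiv.mul_apply, hsv, map_smul, hsv, smul_smul]⟩
  have hSv' : ∀ t ∈ S, ∃ l : F, (t : V ≃ₗ[F] V) v' = l • v' := by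
    intro t ht
    rcases hcases t ht with h1 | h1 | h1 <;> rw [h1]
    · exact ⟨1, by simp⟩
    · exact ⟨ω, hsv'⟩
    · exact ⟨ω * ω, by rw [LinearEquiv.mul_apply, hsv', map_smul, hsv', smul_smul]⟩
  have E2 := hFIX hvU hv'U h (hreg v hvU hvne h.ee) S hS hSv hSv'
  have hc2 : Nat.card {y : V // y ∈ Wsub B U v v' ∧
      ∀ s ∈ S, σ (B ((s : V ≃ₗ[F] V) v) v') • (s : V ≃ₗ[F] V) y = y} ≤ 1 := by
    have hss : Subsingleton {y : V // y ∈ Wsub B U v v' ∧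
        ∀ s ∈ S, σ (B ((s : V ≃ₗ[F] V) v) v') • (s : V ≃ₗ[F] V) y = y} := by
      have hall : ∀ y : {y : V // y ∈ Wsub B U v v' ∧
          ∀ s ∈ S, σ (B ((s : V ≃ₗ[F] V) v) v') • (s : V ≃ₗ[F] V) y = y}, y.1 = 0 := by
        rintro ⟨y, hyW, hy⟩
        obtain ⟨hyU, hyv, hyv'⟩ := Cfsg.Agent.Lib.Helper33_S2153_QSTR.mem_Wsub.mp hyW
        have h1 := hy s' hs'S
        have h2 : ((s' : ↥(tvGroup B U)) : V ≃ₗ[F] V) = s := rfl
        rw [h2, hsv, map_smul, LinearMap.smul_apply, h.ef, smul_eq_mul, mul_one, hσω] at h1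
        apply hzero y hyU hyv hyv'
        calc s y = (ω * (ω + 1)) • s y := by rw [hωω, one_smul]
          _ = ω • ((ω + 1) • s y) := by rw [smul_smul]
          _ = ω • y := by rw [h1]
      refine ⟨fun y y' => Subtype.ext ?_⟩
      rw [hall y, hall y']
    exact Finite.card_le_one_iff_subsingleton.mpr hss
  omega

/-- Eigenvectors of an isometry with `λ σ(μ) ≠ 1` are orthogonal. -/
lemma eig_perp {g : V ≃ₗ[F] V} (hg : g ∈ uG B) {y x : V} {l m : F} (hy : g y = l • y)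
    (hx : g x = m • x) (hlm : l * σ m ≠ 1) : B y x = 0 := by
  have h1 := hg y x
  rw [hy, hx, map_smulₛₗ (B (l • y)), map_smul B, LinearMap.smul_apply, smul_eq_mul,
    smul_eq_mul] at h1
  have h2 : (l * σ m - 1) * B y x = 0 := by linear_combination h1
  rcases mul_eq_zero.mp h2 with h3 | h3
  · exact absurd (sub_eq_zero.mp h3) hlm
  · exact h3

/-- The element `s = d₁ d₂` attached to two orthogonal hyperbolic pairs. -/
theorem sfacts (hF : Fintype.card F = 4) (hσ : Invol σ) (hB : IsHerm B) {a1 b1 a2 b2 : V}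
    (h1 : HypPair B a1 b1) (h2 : HypPair B a2 b2)
    (haa : B a1 a2 = 0) (hab : B a1 b2 = 0) (hba : B b1 a2 = 0) (hbb : B b1 b2 = 0)
    {ω : F} (hω : ω ^ 2 + ω + 1 = 0) :
    ((utv B a1 1 * utv B b1 1) * (utv B a2 1 * utv B b2 1)) ^ 3 = 1 ∧
    (∀ x : V, B x a1 = 0 → B x b1 = 0 → B x a2 = 0 → B x b2 = 0 →
      ((utv B a1 1 * utv B b1 1) * (utv B a2 1 * utv B b2 1)) x = x) ∧
    ((utv B a1 1 * utv B b1 1) * (utv B a2 1 * utv B b2 1)) (a1 + ω • b1) = ω • (a1 + ω • b1) ∧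
    ((utv B a1 1 * utv B b1 1) * (utv B a2 1 * utv B b2 1)) (a2 + ω • b2) = ω • (a2 + ω • b2) ∧
    ((utv B a1 1 * utv B b1 1) * (utv B a2 1 * utv B b2 1)) (a1 + (ω + 1) • b1) =
      (ω + 1) • (a1 + (ω + 1) • b1) ∧
    ((utv B a1 1 * utv B b1 1) * (utv B a2 1 * utv B b2 1)) (a2 + (ω + 1) • b2) =
      (ω + 1) • (a2 + (ω + 1) • b2) := by
  obtain ⟨-, -, D1fix, D1x, D1x', -, -, -, D1c, -⟩ :=
    Cfsg.Agent.Lib.Helper54_S2153_DEIG.DEIG hF hσ hB h1 hω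
  obtain ⟨-, -, D2fix, D2x, D2x', -, -, -, D2c, -⟩ :=
    Cfsg.Agent.Lib.Helper54_S2153_DEIG.DEIG hF hσ hB h2 hω
  have hone : σ (1 : F) = -1 := by
    rw [map_one, Cfsg.Agent.Lib.Helper33_S2153_F4.neg_eq hF]
  have ha2a1 : B a2 a1 = 0 := herm_eq_zero hB haa
  have hb2a1 : B b2 a1 = 0 := herm_eq_zero hB hab
  have ha2b1 : B a2 b1 = 0 := herm_eq_zero hB hba
  have hb2b1 : B b2 b1 = 0 := herm_eq_zero hB hbb
  have c1 : Commute (utv B a2 1) (utv B a1 1) := utv_comm hB haa 1 hone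
  have c2 : Commute (utv B a2 1) (utv B b1 1) := utv_comm hB hba 1 hone
  have c3 : Commute (utv B b2 1) (utv B a1 1) := utv_comm hB hab 1 hone
  have c4 : Commute (utv B b2 1) (utv B b1 1) := utv_comm hB hbb 1 hone
  have hcomm : Commute (utv B a1 1 * utv B b1 1) (utv B a2 1 * utv B b2 1) :=
    ((c1.mul_right c2).mul_left (c3.mul_right c4)).symm
  refine ⟨?_, ?_, ?_, ?_, ?_, ?_⟩
  · rw [hcomm.mul_pow, D1c, D2c, one_mul]
  · intro x hxa1 hxb1 hxa2 hxb2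
    rw [LinearEquiv.mul_apply, D2fix x hxa2 hxb2, D1fix x hxa1 hxb1]
  · rw [LinearEquiv.mul_apply, D2fix _ (by simp [haa, hba]) (by simp [hab, hbb]), D1x]
  · rw [LinearEquiv.mul_apply, D2x, map_smul,
      D1fix _ (by simp [ha2a1, hb2a1]) (by simp [ha2b1, hb2b1])]
  · rw [LinearEquiv.mul_apply, D2fix _ (by simp [haa, hba]) (by simp [hab, hbb]), D1x']
  · rw [LinearEquiv.mul_apply, D2x', map_smul,
      D1fix _ (by simp [ha2a1, hb2a1]) (by simp [ha2b1, hb2b1])]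

/-- Two orthogonal vectors of norm one give a hyperbolic pair. -/
lemma hyp_of_two (hB : IsHerm B) (hchar : ∀ x : F, x + x = 0) {ω : F} (hω : ω ^ 2 + ω + 1 = 0)
    (hσω : σ ω = ω + 1) {x1 x2 : V} (N1 : B x1 x1 = 1) (N2 : B x2 x2 = 1) (h12 : B x1 x2 = 0) :
    HypPair B (x1 + x2) (ω • x1 + (ω + 1) • x2) := by
  have h21 : B x2 x1 = 0 := herm_eq_zero hB h12
  have hσω1 : σ (ω + 1) = ω := by
    rw [map_add, hσω, map_one]
    linear_combination hchar 1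
  apply hypPair_mk hB
  · simp only [map_add, LinearMap.add_apply, N1, N2, h12, h21]
    linear_combination hchar 1
  · simp only [map_add, LinearMap.add_apply, map_smul, map_smulₛₗ, LinearMap.smul_apply,
      smul_eq_mul, N1, N2, h12, h21, hσω, hσω1]
    linear_combination (ω ^ 2 + ω) * hchar 1
  · simp only [map_add, LinearMap.add_apply, map_smulₛₗ, smul_eq_mul, N1, N2, h12, h21, hσω,
      hσω1]
    linear_combination ω * hchar 1

lemma perp_of_two (hchar : ∀ x : F, x + x = 0) {ω : F} (hσω : σ ω = ω + 1) {x1 x2 y : V}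
    (hyv : B y (x1 + x2) = 0) (hyv' : B y (ω • x1 + (ω + 1) • x2) = 0) :
    B y x1 = 0 ∧ B y x2 = 0 := by
  have hσω1 : σ (ω + 1) = ω := by
    rw [map_add, hσω, map_one]
    linear_combination hchar 1
  rw [map_add] at hyv
  rw [map_add, map_smulₛₗ, map_smulₛₗ, hσω, hσω1, smul_eq_mul, smul_eq_mul] at hyv'
  have hp : B y x1 = 0 := by
    linear_combination hyv' + ω * hyv - hchar (ω * B y x1 + ω * B y x2)
  refine ⟨hp, ?_⟩
  rw [hp, zero_add] at hyv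
  exact hyv

lemma eig_of_two {g : V ≃ₗ[F] V} {ω : F} {x1 x2 : V} (h1 : g x1 = ω • x1) (h2 : g x2 = ω • x2) :
    g (x1 + x2) = ω • (x1 + x2) ∧
      g (ω • x1 + (ω + 1) • x2) = ω • (ω • x1 + (ω + 1) • x2) := by
  constructor
  · rw [map_add, h1, h2, smul_add]
  · rw [map_add, map_smul, map_smul, h1, h2, smul_add, smul_comm ω (ω + 1) x2]

/-- REG8 with package FIX as an explicit hypothesis. -/
theorem REG8_of_FIX (hF : Fintype.card F = 4) (hσ : Invol σ) (hB : IsHerm B) {U : Submodule F V}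
    (hU : NondegOn B U) (hdim : 7 ≤ finrank F U)
    {Ω : Type*} [MulAction ↥(tvGroup B U) Ω] [Finite Ω] [Nonempty Ω]
    (hFIX : ∀ {v v' : V}, v ∈ U → v' ∈ U → HypPair B v v' →
      (∀ ω ω' : Ω, ∃! g : ↥(tvGroup B U),
        g ∈ (QSub B U v).subgroupOf (tvGroup B U) ∧ g • ω = ω') →
      ∀ S : Subgroup ↥(tvGroup B U), IsPGroup 3 S →
      (∀ s ∈ S, ∃ l : F, (s : V ≃ₗ[F] V) v = l • v) →
      (∀ s ∈ S, ∃ l : F, (s : V ≃ₗ[F] V) v' = l • v') →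
      Nat.card {ω : Ω // ∀ s ∈ S, s • ω = ω} =
        2 * Nat.card {y : V // y ∈ Wsub B U v v' ∧
          ∀ s ∈ S, σ (B ((s : V ≃ₗ[F] V) v) v') • (s : V ≃ₗ[F] V) y = y})
    (hreg : ∀ u ∈ U, u ≠ 0 → B u u = 0 → ∀ ω ω' : Ω, ∃! g : ↥(tvGroup B U),
      g ∈ (QSub B U u).subgroupOf (tvGroup B U) ∧ g • ω = ω') : False := by
  obtain ⟨hchar, -, -, -, ⟨ω, hω, hσω, hω0, hω1, -⟩, -⟩ :=
    Cfsg.Agent.Lib.Helper33_S2153_F4.F4 hF hσ
  -- three mutually orthogonal hyperbolic pairs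
  obtain ⟨a1, ha1U, b1, hb1U, ha1, hb1, hab1⟩ :=
    Cfsg.Agent.Lib.Helper94_HermIrr.exists_pair hσ hB hU
      (Cfsg.Agent.Lib.Helper94_HermWitt.exists_notMem_span1 (by omega))
  have h1 : HypPair B a1 b1 := hypPair_mk hB ha1 hb1 hab1
  have hW1 : NondegOn B (Wsub B U a1 b1) := nondegOn_pair hB hU ha1U hb1U ha1 hb1 hab1
  have hd1 := Cfsg.Agent.Lib.Helper33_S2153_QSTR.finrank_Wsub ha1U hb1U h1
  obtain ⟨a2, ha2W, b2, hb2W, ha2, hb2, hab2⟩ :=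
    Cfsg.Agent.Lib.Helper94_HermIrr.exists_pair hσ hB hW1
      (Cfsg.Agent.Lib.Helper94_HermWitt.exists_notMem_span1 (by omega))
  have h2 : HypPair B a2 b2 := hypPair_mk hB ha2 hb2 hab2
  have hW2 : NondegOn B (Wsub B (Wsub B U a1 b1) a2 b2) :=
    nondegOn_pair hB hW1 ha2W hb2W ha2 hb2 hab2
  have hd2 := Cfsg.Agent.Lib.Helper33_S2153_QSTR.finrank_Wsub ha2W hb2W h2
  obtain ⟨a3, ha3W, b3, hb3W, ha3, hb3, hab3⟩ :=
    Cfsg.Agent.Lib.Helper94_HermIrr.exists_pair hσ hB hW2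
      (Cfsg.Agent.Lib.Helper94_HermWitt.exists_notMem_span1 (by omega))
  have h3 : HypPair B a3 b3 := hypPair_mk hB ha3 hb3 hab3
  have hd3 := Cfsg.Agent.Lib.Helper33_S2153_QSTR.finrank_Wsub ha3W hb3W h3
  obtain ⟨y0, hy0W, hy0⟩ := Cfsg.Agent.Lib.Helper94_HermWitt.exists_ne_zero_of_finrank_pos
    (U := Wsub B (Wsub B (Wsub B U a1 b1) a2 b2) a3 b3) (by omega)
  obtain ⟨ha2U, ha2a1, ha2b1⟩ := Cfsg.Agent.Lib.Helper33_S2153_QSTR.mem_Wsub.mp ha2W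
  obtain ⟨hb2U, hb2a1, hb2b1⟩ := Cfsg.Agent.Lib.Helper33_S2153_QSTR.mem_Wsub.mp hb2W
  obtain ⟨ha3W1, ha3a2, ha3b2⟩ := Cfsg.Agent.Lib.Helper33_S2153_QSTR.mem_Wsub.mp ha3W
  obtain ⟨ha3U, ha3a1, ha3b1⟩ := Cfsg.Agent.Lib.Helper33_S2153_QSTR.mem_Wsub.mp ha3W1
  obtain ⟨hb3W1, hb3a2, hb3b2⟩ := Cfsg.Agent.Lib.Helper33_S2153_QSTR.mem_Wsub.mp hb3W
  obtain ⟨hb3U, hb3a1, hb3b1⟩ := Cfsg.Agent.Lib.Helper33_S2153_QSTR.mem_Wsub.mp hb3W1
  obtain ⟨hy0W2, hy0a3, hy0b3⟩ := Cfsg.Agent.Lib.Helper33_S2153_QSTR.mem_Wsub.mp hy0W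
  obtain ⟨hy0W1, hy0a2, hy0b2⟩ := Cfsg.Agent.Lib.Helper33_S2153_QSTR.mem_Wsub.mp hy0W2
  obtain ⟨hy0U, hy0a1, hy0b1⟩ := Cfsg.Agent.Lib.Helper33_S2153_QSTR.mem_Wsub.mp hy0W1
  have haa : B a1 a2 = 0 := herm_eq_zero hB ha2a1
  have hab : B a1 b2 = 0 := herm_eq_zero hB hb2a1
  have hba : B b1 a2 = 0 := herm_eq_zero hB ha2b1
  have hbb : B b1 b2 = 0 := herm_eq_zero hB hb2b1
  obtain ⟨hs3, hsfix, hsx1, hsx2, hsx1', hsx2'⟩ := sfacts hF hσ hB h1 h2 haa hab hba hbb hω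
  have hone : σ (1 : F) = -1 := by
    rw [map_one, Cfsg.Agent.Lib.Helper33_S2153_F4.neg_eq hF]
  have hs : (utv B a1 1 * utv B b1 1) * (utv B a2 1 * utv B b2 1) ∈ tvGroup B U :=
    mul_mem (mul_mem (utv_mem_tvGroup ha1U ha1 hone) (utv_mem_tvGroup hb1U hb1 hone))
      (mul_mem (utv_mem_tvGroup ha2U ha2 hone) (utv_mem_tvGroup hb2U hb2 hone))
  have hsG : (utv B a1 1 * utv B b1 1) * (utv B a2 1 * utv B b2 1) ∈ uG B :=
    tvGroup_le_uG hB U hs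
  obtain ⟨-, -, -, -, -, N1, -, -, -, -⟩ := Cfsg.Agent.Lib.Helper54_S2153_DEIG.DEIG hF hσ hB h1 hω
  obtain ⟨-, -, -, -, -, N2, -, -, -, -⟩ := Cfsg.Agent.Lib.Helper54_S2153_DEIG.DEIG hF hσ hB h2 hω
  have hσω1 : σ (ω + 1) = ω := by
    rw [map_add, hσω, map_one]
    linear_combination hchar 1
  have hx12 : B (a1 + ω • b1) (a2 + ω • b2) = 0 := by
    simp [haa, hab, hba, hbb]
  have hx21 : B (a2 + ω • b2) (a1 + ω • b1) = 0 := herm_eq_zero hB hx12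
  have hx1U : a1 + ω • b1 ∈ U := U.add_mem ha1U (U.smul_mem _ hb1U)
  have hx2U : a2 + ω • b2 ∈ U := U.add_mem ha2U (U.smul_mem _ hb2U)
  have hpair : HypPair B ((a1 + ω • b1) + (a2 + ω • b2))
      (ω • (a1 + ω • b1) + (ω + 1) • (a2 + ω • b2)) := hyp_of_two hB hchar hω hσω N1 N2 hx12
  obtain ⟨hsv, hsv'⟩ := eig_of_two hsx1 hsx2
  refine core hσ hFIX hreg hω hσω hchar hs hs3 ha3U hb3U h3
    (hsfix a3 ha3a1 ha3b1 ha3a2 ha3b2) (hsfix b3 hb3a1 hb3b1 hb3a2 hb3b2)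
    hy0U hy0 hy0a3 hy0b3 (hsfix y0 hy0a1 hy0b1 hy0a2 hy0b2)
    (U.add_mem hx1U hx2U) (U.add_mem (U.smul_mem _ hx1U) (U.smul_mem _ hx2U)) hpair hsv hsv' ?_
  · intro y hyU hyv hyv' hsy
    obtain ⟨hp, hq⟩ := perp_of_two hchar hσω hyv hyv'
    have hωω : ω * σ (ω + 1) ≠ 1 := by
      rw [hσω1]
      intro h
      apply hω0
      linear_combination hω - h - hchar 1
    have hp' : B y (a1 + (ω + 1) • b1) = 0 := eig_perp hsG hsy hsx1' hωω
    have hq' : B y (a2 + (ω + 1) • b2) = 0 := eig_perp hsG hsy hsx2' hωω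
    rw [map_add, map_smulₛₗ, smul_eq_mul] at hp hq hp' hq'
    rw [hσω] at hp hq
    rw [hσω1] at hp' hq'
    have hyb1 : B y b1 = 0 := by linear_combination hp - hp'
    have hyb2 : B y b2 = 0 := by linear_combination hq - hq'
    have hya1 : B y a1 = 0 := by rw [hyb1, mul_zero, add_zero] at hp; exact hp
    have hya2 : B y a2 = 0 := by rw [hyb2, mul_zero, add_zero] at hq; exact hq
    have hfix := hsfix y hya1 hyb1 hya2 hyb2
    rw [hfix] at hsy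
    have h0 : (1 - ω) • y = 0 := by
      rw [sub_smul, one_smul]
      exact sub_eq_zero.mpr hsy
    rcases smul_eq_zero.mp h0 with h4 | h4
    · exact absurd (sub_eq_zero.mp h4).symm hω1
    · exact h4

/-- S2153-REG8 (L).  STEP 4 for `dim ≥ 7`: `s = d₁ d₂` for three orthogonal hyperbolic pairs;
`|Fix(s)| = 2 * 4^(dim - 6)` from `(v,v') = (a₃,b₃)` and `= 2` from
`(v,v') = (x₁ + x₂, ω x₁ + (ω+1) x₂)`, `xᵢ = aᵢ + ω bᵢ`. -/
theorem REG8 (hF : Fintype.card F = 4) (hσ : Invol σ) (hB : IsHerm B) {U : Submodule F V}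
    (hU : NondegOn B U) (hdim : 7 ≤ finrank F U)
    {Ω : Type*} [MulAction ↥(tvGroup B U) Ω] [Finite Ω] [Nonempty Ω]
    (hreg : ∀ u ∈ U, u ≠ 0 → B u u = 0 → ∀ ω ω' : Ω, ∃! g : ↥(tvGroup B U),
      g ∈ (QSub B U u).subgroupOf (tvGroup B U) ∧ g • ω = ω') : False :=
  REG8_of_FIX hF hσ hB hU hdim
    (fun hvU hv'U h hr S hS hSv hSv' =>
      Cfsg.Agent.Lib.Helper33_S2153_FIX.FIX hF hσ hB hU (by omega) hvU hv'U h hr S hS hSv hSv')
    hreg

end Cfsg.Agent.Lib.Helper69_S2153_REG8
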