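import Mathlib
import Cfsg.Agent.Lib.Helper54_S2153_GT4
import Cfsg.Agent.Lib.Helper69_S2153_REG8
import Cfsg.Agent.Lib.Helper55_S2153_REG6
import Cfsg.Agent.Lib.Helper33_S2153_F4
import Cfsg.Agent.Lib.Helper33_S2153_QSTR
import Cfsg.Agent.Lib.Helper33_S2153_GOK
import Cfsg.Agent.Lib.Helper33_S2153_GFP
import Cfsg.Agent.Lib.Helper33_S2153_COMAP
import Cfsg.Agent.Lib.Helper26_S2153_GORB
import Cfsg.Agent.Lib.Helper55_S2153_GCNT
import Cfsg.Agent.Lib.Helper55_S2153_GATT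
import Cfsg.Agent.Lib.Helper54_S2153_GEN
import Cfsg.Agent.Lib.Helper68_S2153_S1
import Cfsg.Agent.Lib.Helper53_S2153_S2

set_option autoImplicit false

open Module Cfsg.Agent.Lib.Helper94_Symp Cfsg.Agent.Lib.Helper94_Herm
  Cfsg.Agent.Lib.Helper94_HermTrans Cfsg.Agent.Lib.Helper94_HermEich
  Cfsg.Agent.Lib.Helper13_SUGen
  Cfsg.Agent.Lib.Helper33_U2Defs Cfsg.Agent.Lib.Helper33_U2Geo

open Cfsg.Agent.Lib.Helper33_S2153_F4 (F4)
open Cfsg.Agent.Lib.Helper33_S2153_QSTR (QSTR_le_tvGroup)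
open Cfsg.Agent.Lib.Helper33_S2153_GOK (GOK)
open Cfsg.Agent.Lib.Helper33_S2153_GFP (GFP_QQ GFP_opp GFP_line)
open Cfsg.Agent.Lib.Helper33_S2153_COMAP (COMAP_ok COMAP_mu)
open Cfsg.Agent.Lib.Helper26_S2153_GORB (GORB)
open Cfsg.Agent.Lib.Helper55_S2153_GCNT (GCNT GCNT_finrank)
open Cfsg.Agent.Lib.Helper55_S2153_GATT (GATT)
open Cfsg.Agent.Lib.Helper54_S2153_GEN (GEN_closure GEN_conj)
open Cfsg.Agent.Lib.Helper54_S2153_GT4 (GT4)
open Cfsg.Agent.Lib.Helper69_S2153_REG8 (REG8)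
open Cfsg.Agent.Lib.Helper55_S2153_REG6 (REG6)

namespace Cfsg.Agent.Lib.Helper33_U2Main

/-- The bound: 24 for `m = 2`, `M_{2m}` otherwise. -/
def bnd (m : ℕ) : ℕ := if m = 2 then 24 else 2 ^ (2 * m - 1) * (2 ^ (2 * m) - 1) / 3

lemma three_dvd (k : ℕ) : 3 ∣ 2 ^ (2 * k) - 1 := by
  have h : (2 ^ (2 * k) : ℕ) % 3 = 1 := by
    rw [pow_mul]; norm_num [Nat.pow_mod]
  have h1 : 1 ≤ 2 ^ (2 * k) := Nat.one_le_two_pow
  omega

lemma bnd_mul_three {m : ℕ} (hm : 3 ≤ m) : 3 * bnd m = 2 ^ (2 * m - 1) * (2 ^ (2 * m) - 1) := by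
  have h2 : m ≠ 2 := by omega
  rw [bnd, if_neg h2]
  obtain ⟨c, hc⟩ := three_dvd m
  rw [hc, ← mul_assoc, mul_comm (2 ^ (2 * m - 1)) 3, mul_assoc, Nat.mul_div_cancel_left _ (by norm_num : 0 < 3)]

/-- hypothesis (i): `2^(d+2) - 1 ≤ 3 μ` with `d = 2(m-1)`, `μ = bnd (m-1)`. -/
lemma hyp_i {m : ℕ} (hm : 3 ≤ m) : 2 ^ (2 * (m - 1) + 2) - 1 ≤ 3 * bnd (m - 1) := by
  rcases Nat.lt_or_ge m 4 with h | h
  · have : m = 3 := by omega
    subst this
    norm_num [bnd]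
  · rw [bnd_mul_three (by omega : 3 ≤ m - 1)]
    obtain ⟨k, rfl⟩ : ∃ k, m = k + 4 := ⟨m - 4, by omega⟩
    have e1 : 2 * (k + 4 - 1) + 2 = 2 * k + 8 := by omega
    have e2 : 2 * (k + 4 - 1) - 1 = 2 * k + 5 := by omega
    have e3 : 2 * (k + 4 - 1) = 2 * k + 6 := by omega
    rw [e1, e2, e3]
    have h1 : 1 ≤ 2 ^ (2 * k) := Nat.one_le_two_pow
    have : 2 ^ (2 * k + 8) = 256 * 2 ^ (2 * k) := by rw [pow_add]; ring
    have h5 : 2 ^ (2 * k + 5) = 32 * 2 ^ (2 * k) := by rw [pow_add]; ring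
    have h6 : 2 ^ (2 * k + 6) = 64 * 2 ^ (2 * k) := by rw [pow_add]; ring
    rw [this, h5, h6]
    have : 256 * 2 ^ (2 * k) - 1 ≤ 32 * 2 ^ (2 * k) * (64 * 2 ^ (2 * k) - 1) := by
      have h7 : 63 * 2 ^ (2*k) ≤ 64 * 2 ^ (2 * k) - 1 := by omega
      calc 256 * 2 ^ (2 * k) - 1 ≤ 256 * 2 ^ (2 * k) := Nat.sub_le _ _
        _ ≤ 32 * 2 ^ (2 * k) * (63 * 2 ^ (2*k)) := by nlinarith
        _ ≤ _ := Nat.mul_le_mul_left _ h7
    exact this

/-- hypothesis (ii): `2^(d-1)(2^d-1) ≤ 6 μ`. -/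
lemma hyp_ii {m : ℕ} (hm : 3 ≤ m) :
    2 ^ (2 * (m - 1) - 1) * (2 ^ (2 * (m - 1)) - 1) ≤ 6 * bnd (m - 1) := by
  rcases Nat.lt_or_ge m 4 with h | h
  · have : m = 3 := by omega
    subst this
    norm_num [bnd]
  · have := bnd_mul_three (by omega : 3 ≤ m - 1)
    omega


variable {F V : Type*} [Field F] [Fintype F] [AddCommGroup V] [Module F V] [FiniteDimensional F V]
variable {σ : F →+* F} {B : V →ₗ[F] V →ₛₗ[σ] F}

/-- The transvection `utv B u 1` as an element of `tvGroup B U` (`1` if it is not there). -/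
noncomputable def tEl (B : V →ₗ[F] V →ₛₗ[σ] F) (U : Submodule F V) (u : V) : ↥(tvGroup B U) :=
  (comapDat (qdatA B U u u ⊥) (tvGroup B U)).t

/-- `Q_u` as a subgroup of `tvGroup B U`. -/
def QEl (B : V →ₗ[F] V →ₛₗ[σ] F) (U : Submodule F V) (u : V) : Subgroup ↥(tvGroup B U) :=
  (QSub B U u).subgroupOf (tvGroup B U)

lemma neg_one_eq (hF : Fintype.card F = 4) (hσ : Invol σ) : σ (1 : F) = -1 := by
  obtain ⟨h2, -⟩ := F4 hF hσ
  have := h2 1
  rw [map_one]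
  exact eq_neg_of_add_eq_zero_left this

lemma comapDat_t_val {G : Type*} [Group G] {W : Type*} [AddCommGroup W] (D : QDat G W)
    (G0 : Subgroup G) (h : D.t ∈ G0) : ((comapDat D G0).t : G) = D.t := by
  show ((open Classical in if h : D.t ∈ G0 then (⟨D.t, h⟩ : ↥G0) else 1 : ↥G0) : G) = D.t
  rw [dif_pos h]

lemma tEl_val (hF : Fintype.card F = 4) (hσ : Invol σ) {U : Submodule F V} {u : V} (huU : u ∈ U)
    (hu : B u u = 0) : ((tEl B U u : ↥(tvGroup B U)) : V ≃ₗ[F] V) = utv B u 1 := by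
  have hmem : utv B u 1 ∈ tvGroup B U := utv_mem_tvGroup huU hu (neg_one_eq hF hσ)
  exact comapDat_t_val (qdatA B U u u ⊥) (tvGroup B U) hmem


set_option linter.unusedSectionVars false

/-- If every transvection `utv B u 1` fixes `ω` then the stabiliser of `ω` is everything. -/
lemma stab_top (hF : Fintype.card F = 4) (hσ : Invol σ) {U : Submodule F V}
    {Ω : Type*} [MulAction ↥(tvGroup B U) Ω] (ω : Ω)
    (h : ∀ u ∈ U, u ≠ 0 → B u u = 0 → tEl B U u • ω = ω) : ∀ g : ↥(tvGroup B U), g • ω = ω := by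
  have hle : tvGroup B U ≤ (MulAction.stabilizer ↥(tvGroup B U) ω).map (tvGroup B U).subtype := by
    apply GEN_closure hF hσ
    intro u huU hu0 hu
    refine ⟨tEl B U u, ?_, tEl_val hF hσ huU hu⟩
    exact MulAction.mem_stabilizer_iff.mpr (h u huU hu0 hu)
  intro g
  obtain ⟨g', hg', hgg'⟩ := hle g.2
  have : g' = g := Subtype.ext hgg'
  rw [← this]
  exact MulAction.mem_stabilizer_iff.mp hg'

/-- All `tEl` are conjugate. -/
lemma tEl_conj (hF : Fintype.card F = 4) (hσ : Invol σ) (hB : IsHerm B) {U : Submodule F V}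
    (hU : NondegOn B U) (h3 : 3 ≤ finrank F U) {u u' : V} (huU : u ∈ U) (hu'U : u' ∈ U)
    (hu0 : u ≠ 0) (hu'0 : u' ≠ 0) (hu : B u u = 0) (hu' : B u' u' = 0) :
    ∃ g : ↥(tvGroup B U), g * tEl B U u * g⁻¹ = tEl B U u' := by
  obtain ⟨g, hg, -, hconj⟩ := GEN_conj hσ hB hU h3 huU hu'U hu0 hu'0 hu hu'
  refine ⟨⟨g, hg⟩, ?_⟩
  apply Subtype.ext
  simp only [Subgroup.coe_mul, Subgroup.coe_inv, tEl_val hF hσ huU hu, tEl_val hF hσ hu'U hu']
  exact hconj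

/-- In a transitive action with more than one point every `tEl` moves some point. -/
lemma tEl_moves (hF : Fintype.card F = 4) (hσ : Invol σ) (hB : IsHerm B) {U : Submodule F V}
    (hU : NondegOn B U) (h3 : 3 ≤ finrank F U)
    {Ω : Type*} [MulAction ↥(tvGroup B U) Ω] [MulAction.IsPretransitive ↥(tvGroup B U) Ω]
    [Finite Ω] (h1 : 1 < Nat.card Ω) {u : V} (huU : u ∈ U) (hu0 : u ≠ 0) (hu : B u u = 0) :
    ∃ ω : Ω, tEl B U u • ω ≠ ω := by
  by_contra hcon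
  push Not at hcon
  have hall : ∀ u' ∈ U, u' ≠ 0 → B u' u' = 0 → ∀ ω : Ω, tEl B U u' • ω = ω := by
    intro u' hu'U hu'0 hu' ω
    obtain ⟨g, hg⟩ := tEl_conj hF hσ hB hU h3 huU hu'U hu0 hu'0 hu hu'
    rw [← hg, mul_smul, mul_smul, hcon, smul_inv_smul]
  obtain ⟨ω₀, ω₁, hne⟩ := Finite.one_lt_card_iff_nontrivial.mp h1
  obtain ⟨g, hg⟩ := MulAction.exists_smul_eq ↥(tvGroup B U) ω₀ ω₁
  have := stab_top hF hσ ω₀ (fun u' h1 h2 h3 => hall u' h1 h2 h3 ω₀) g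
  exact hne (this.symm.trans hg)


lemma card_W {W : Submodule F V} (hF : Fintype.card F = 4) (d : ℕ) (hd : finrank F W = d) :
    Nat.card ↥W = 4 ^ d := by
  have : Finite V := Module.finite_of_finite F
  have : Fintype ↥W := Fintype.ofFinite _
  rw [Nat.card_eq_fintype_card, Module.card_eq_pow_finrank (K := F) (V := ↥W), hF, hd]

/-- The structure statement (S) of finding 179 at an isotropic vector `u`. -/
theorem S_at (hF : Fintype.card F = 4) (hσ : Invol σ) (hB : IsHerm B) {m : ℕ} (hm : 3 ≤ m)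
    {U : Submodule F V} (hU : NondegOn B U) (hdim : finrank F U = 2 * m)
    (IH : ∀ W : Submodule F V, NondegOn B W → finrank F W = 2 * (m - 1) →
      ∀ L : Subgroup (V ≃ₗ[F] V), L ≤ tvGroup B W → L ≠ tvGroup B W →
        bnd (m - 1) ≤ L.relIndex (tvGroup B W))
    {Ω : Type*} [MulAction ↥(tvGroup B U) Ω] [MulAction.IsPretransitive ↥(tvGroup B U) Ω]
    [Finite Ω] (h1 : 1 < Nat.card Ω)
    (hlt : 3 * Nat.card Ω < 2 ^ (2 * m - 1) * (2 ^ (2 * m) - 1))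
    {u : V} (huU : u ∈ U) (hu0 : u ≠ 0) (hu : B u u = 0) :
    (∀ ω : Ω, tEl B U u • ω = ω → ∀ g ∈ QEl B U u, g • ω = ω) ∧
    (∀ ω : Ω, tEl B U u • ω ≠ ω → ∀ g ∈ QEl B U u, g • ω = ω → g = 1) ∧
    Nat.card {ω : Ω // tEl B U u • ω ≠ ω} = 2 * 4 ^ (2 * (m - 1)) ∧
    Nat.card (QEl B U u) = 2 * 4 ^ (2 * (m - 1)) := by
  have : Finite V := Module.finite_of_finite F
  classical
  obtain ⟨u', hu'U, hu', huu'⟩ := exists_partner hσ hB hU huU hu0 hu
  have h : HypPair B u u' := hypPair_mk hB hu hu' huu'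
  have hWnd : NondegOn B (Wsub B U u u') := nondegOn_pair hB hU huU hu'U hu hu' huu'
  have hWdim : finrank F (Wsub B U u u') = 2 * (m - 1) := by
    have := GCNT_finrank hB huU hu'U h
    omega
  obtain ⟨horbA, hirrA, hKle⟩ := GORB hF hσ hB hU huU hu'U h (by omega)
  have hOkA := GOK hF hσ hB hU huU hu'U h _ hKle
  have hQle : QSub B U u ≤ tvGroup B U := QSTR_le_tvGroup hF hσ hB hU (by omega) huU hu0 hu
  have hWU : Wsub B U u u' ≤ U := fun x hx => hx.1.1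
  have hKle0 : tvGroup B (Wsub B U u u') ≤ tvGroup B U := tvGroup_mono hWU
  set DA := qdatA B U u u' (tvGroup B (Wsub B U u u')) with hDA
  have hOk : (comapDat DA (tvGroup B U)).Ok := COMAP_ok DA hOkA _ hQle hKle0
  have hmu := COMAP_mu DA (tvGroup B U) hKle0 (bnd (m - 1)) (IH _ hWnd hWdim)
  have hcW : Nat.card ↥(Wsub B U u u') = 4 ^ (2 * (m - 1)) := card_W hF _ hWdim
  -- orbits and irreducibility for the pulled-back datum
  have horb : ∀ w w' : ↥(Wsub B U u u'), w ≠ 0 → w' ≠ 0 →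
      (comapDat DA (tvGroup B U)).qf w = (comapDat DA (tvGroup B U)).qf w' →
      ∃ k ∈ (comapDat DA (tvGroup B U)).K, (comapDat DA (tvGroup B U)).ρ k w = w' := by
    intro w w' hw hw' hq
    obtain ⟨k, hk, hkw⟩ := horbA w w' hw hw' hq
    exact ⟨⟨k, hKle0 hk⟩, Subgroup.mem_subgroupOf.mpr hk, hkw⟩
  have hirr : ∀ I : AddSubgroup ↥(Wsub B U u u'),
      (∀ k ∈ (comapDat DA (tvGroup B U)).K, ∀ w ∈ I, (comapDat DA (tvGroup B U)).ρ k w ∈ I) →
      I = ⊥ ∨ I = ⊤ := by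
    intro I hI
    apply hirrA I
    intro k hk w hw
    exact hI ⟨k, hKle0 hk⟩ (Subgroup.mem_subgroupOf.mpr hk) w hw
  have hΩ : 3 * Nat.card Ω < 2 ^ (2 * (m - 1) + 1) * (2 ^ (2 * (m - 1) + 2) - 1) := by
    have e1 : 2 * (m - 1) + 1 = 2 * m - 1 := by omega
    have e2 : 2 * (m - 1) + 2 = 2 * m := by omega
    rw [e1, e2]; exact hlt
  obtain ⟨hfree, hcard⟩ := Cfsg.Agent.Lib.Helper68_S2153_S1.S1 (comapDat DA (tvGroup B U)) hOk (2 * (m - 1)) (bnd (m - 1))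
    (by omega) hcW hirr hmu (hyp_i hm) hΩ
  have ht_eq : (comapDat DA (tvGroup B U)).t = tEl B U u := rfl
  have hQ_eq : (comapDat DA (tvGroup B U)).Q = QEl B U u := rfl
  rw [ht_eq] at hfree hcard
  rw [hQ_eq] at hfree
  obtain ⟨ω₀, hω₀⟩ := tEl_moves hF hσ hB hU (by omega) h1 huU hu0 hu
  have hcard' : Nat.card {ω : Ω // tEl B U u • ω ≠ ω} = 2 * 4 ^ (2 * (m - 1)) := by
    rcases hcard with h0 | h0
    · exfalso
      have : IsEmpty {ω : Ω // tEl B U u • ω ≠ ω} := by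
        rcases Nat.card_eq_zero.mp h0 with h | h
        · exact h
        · exact absurd (inferInstance : Finite {ω : Ω // tEl B U u • ω ≠ ω}) (by simpa using h)
      exact this.false ⟨ω₀, hω₀⟩
    · exact h0
  have hcQ : Nat.card (QEl B U u) = 2 * 4 ^ (2 * (m - 1)) := by
    rw [← hQ_eq, Cfsg.Agent.Lib.Helper68_S2153_S1.card_Q hOk, hcW]
  refine ⟨?_, hfree, hcard', hcQ⟩
  -- STEP 2
  have hsplit : Nat.card Ω = Nat.card {ω : Ω // tEl B U u • ω = ω} +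
      Nat.card {ω : Ω // tEl B U u • ω ≠ ω} := by
    have := Nat.card_congr (Equiv.sumCompl (fun ω : Ω => tEl B U u • ω = ω))
    rw [Nat.card_sum] at this
    exact this.symm
  have hf : 3 * Nat.card {ω : Ω // tEl B U u • ω = ω} <
      2 ^ (2 * (m - 1) + 1) * (2 ^ (2 * (m - 1)) - 1) := by
    rw [hcard'] at hsplit
    obtain ⟨k, rfl⟩ : ∃ k, m = k + 1 := ⟨m - 1, by omega⟩
    simp only [Nat.add_sub_cancel] at hsplit ⊢
    have e1 : 2 * (k + 1) - 1 = 2 * k + 1 := by omega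
    have e2 : 2 * (k + 1) = 2 * k + 2 := by omega
    rw [e1, e2] at hlt
    have p1 : (4 : ℕ) ^ (2 * k) = 2 ^ (2 * k) * 2 ^ (2 * k) := by
      rw [show (4 : ℕ) = 2 * 2 by norm_num, mul_pow]
    have p2 : (2 : ℕ) ^ (2 * k + 1) = 2 * 2 ^ (2 * k) := by rw [pow_succ]; ring
    have p3 : (2 : ℕ) ^ (2 * k + 2) = 4 * 2 ^ (2 * k) := by rw [pow_add]; ring
    rw [p2, p3] at hlt
    rw [p2]
    rw [p1] at hsplit
    have hx : 1 ≤ 2 ^ (2 * k) := Nat.one_le_two_pow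
    set x := 2 ^ (2 * k) with hxdef
    set f := Nat.card {ω : Ω // tEl B U u • ω = ω}
    have h4 : 4 * x - 1 + 1 = 4 * x := by omega
    have hx1 : x - 1 + 1 = x := by omega
    zify [show 1 ≤ 4 * x by omega, hx] at hlt ⊢
    zify at hsplit
    nlinarith
  have hsing : Nat.card {w : ↥(Wsub B U u u') // w ≠ 0 ∧ (comapDat DA (tvGroup B U)).qf w = 0} =
      (2 ^ (2 * (m - 1)) - 1) * (2 ^ (2 * (m - 1) - 1) + 1) := by
    have hc := GCNT hF hσ hB (m - 1) (Wsub B U u u') hWnd hWdim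
    have e4 : (4 : ℕ) ^ (m - 1) = 2 ^ (2 * (m - 1)) := by
      rw [pow_mul]; norm_num
    rw [e4] at hc
    rw [← hc]
    apply Nat.card_congr
    refine ⟨fun w => ⟨(w.1 : V), w.1.2, fun h0 => w.2.1 (Subtype.ext h0), ?_⟩,
      fun x => ⟨⟨x.1, x.2.1⟩, fun h0 => x.2.2.1 (congrArg Subtype.val h0), ?_⟩, ?_, ?_⟩
    · have := w.2.2
      by_contra hne
      have h2 : (comapDat DA (tvGroup B U)).qf w.1 = 1 := by
        show nz2 (B (w.1 : V) (w.1 : V)) = 1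
        unfold nz2; rw [if_neg hne]
      rw [h2] at this
      exact one_ne_zero this
    · show nz2 (B x.1 x.1) = 0
      unfold nz2; rw [if_pos x.2.2.2]
    · intro w; rfl
    · intro x; rfl
  exact Cfsg.Agent.Lib.Helper53_S2153_S2.S2 (comapDat DA (tvGroup B U)) hOk (2 * (m - 1)) (bnd (m - 1)) (by omega) hcW horb hirr hmu
    hsing (hyp_ii hm) hf


/-- nonzero isotropic vectors of `U`. -/
abbrev IsoPt (B : V →ₗ[F] V →ₛₗ[σ] F) (U : Submodule F V) : Type _ :=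
  {u : V // u ∈ U ∧ u ≠ 0 ∧ B u u = 0}

/-- the action of `tvGroup B U` on the nonzero isotropic vectors of `U`. -/
@[instance_reducible]
noncomputable def isoAct (hB : IsHerm B) (U : Submodule F V) :
    MulAction ↥(tvGroup B U) (IsoPt B U) where
  smul g u := ⟨(g : V ≃ₗ[F] V) u.1, tvGroup_map_mem g.2 _ u.2.1,
    fun h => u.2.2.1 (by simpa using h), by rw [tvGroup_le_uG hB U g.2]; exact u.2.2.2⟩
  one_smul u := Subtype.ext rfl
  mul_smul g g' u := Subtype.ext rfl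

lemma smul_flip {a b : V} {l : F} (h : a = l • b) (ha : a ≠ 0) : b = l⁻¹ • a := by
  have hl : l ≠ 0 := by
    rintro rfl
    rw [zero_smul] at h
    exact ha h
  rw [h, smul_smul, inv_mul_cancel₀ hl, one_smul]

end Cfsg.Agent.Lib.Helper33_U2Main
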