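import Mathlib
import Cfsg.Agent.Lib.Helper33_U2Main
import Cfsg.Agent.Lib.Helper32_S2153_FP

set_option autoImplicit false
set_option linter.unusedSectionVars false
set_option linter.style.haveILetI false

open Module Cfsg.Agent.Lib.Helper94_Symp Cfsg.Agent.Lib.Helper94_Herm
  Cfsg.Agent.Lib.Helper94_HermTrans Cfsg.Agent.Lib.Helper94_HermEich
  Cfsg.Agent.Lib.Helper94_HermWitt
  Cfsg.Agent.Lib.Helper13_SUGen
  Cfsg.Agent.Lib.Helper33_U2Defs Cfsg.Agent.Lib.Helper33_U2Geo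
  Cfsg.Agent.Lib.Helper33_U2Main

open Cfsg.Agent.Lib.Helper33_S2153_F4 (F4)
open Cfsg.Agent.Lib.Helper33_S2153_QSTR (QSTR_le_tvGroup)
open Cfsg.Agent.Lib.Helper33_S2153_GOK (GOK)
open Cfsg.Agent.Lib.Helper33_S2153_GFP (GFP_QQ GFP_opp GFP_line)
open Cfsg.Agent.Lib.Helper33_S2153_COMAP (COMAP_ok COMAP_mu)
open Cfsg.Agent.Lib.Helper26_S2153_GORB (GORB)
open Cfsg.Agent.Lib.Helper55_S2153_GCNT (GCNT GCNT_finrank)
open Cfsg.Agent.Lib.Helper55_S2153_GATT (GATT)
open Cfsg.Agent.Lib.Helper54_S2153_GEN (GEN_closure GEN_conj)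
open Cfsg.Agent.Lib.Helper54_S2153_GT4 (GT4)
open Cfsg.Agent.Lib.Helper69_S2153_REG8 (REG8)
open Cfsg.Agent.Lib.Helper55_S2153_REG6 (REG6)

namespace Cfsg.Agent.Lib.Helper33_U2Core

variable {F V : Type*} [Field F] [Fintype F] [AddCommGroup V] [Module F V] [FiniteDimensional F V]
variable {σ : F →+* F} {B : V →ₗ[F] V →ₛₗ[σ] F}

lemma count_ineq (m : ℕ) (hm : 1 ≤ m) :
    2 ^ (2 * m - 1) * (2 ^ (2 * m) - 1) < (4 ^ m - 1) * (2 ^ (2 * m - 1) + 1) := by
  have e4 : (4 : ℕ) ^ m = 2 ^ (2 * m) := by rw [pow_mul]; norm_num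
  rw [e4]
  have h1 : 2 ≤ 2 ^ (2 * m) := by
    calc 2 = 2 ^ 1 := by norm_num
      _ ≤ 2 ^ (2 * m) := Nat.pow_le_pow_right (by norm_num) (by omega)
  have : 0 < 2 ^ (2 * m) - 1 := by omega
  nlinarith

/-- The induction step of finding 179. -/
theorem core (hF : Fintype.card F = 4) (hσ : Invol σ) (hB : IsHerm B) {m : ℕ} (hm : 3 ≤ m)
    {U : Submodule F V} (hU : NondegOn B U) (hdim : finrank F U = 2 * m)
    (IH : ∀ W : Submodule F V, NondegOn B W → finrank F W = 2 * (m - 1) →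
      ∀ L : Subgroup (V ≃ₗ[F] V), L ≤ tvGroup B W → L ≠ tvGroup B W →
        bnd (m - 1) ≤ L.relIndex (tvGroup B W))
    {Ω : Type*} [MulAction ↥(tvGroup B U) Ω] [MulAction.IsPretransitive ↥(tvGroup B U) Ω]
    [Finite Ω] (h1 : 1 < Nat.card Ω)
    (hlt : 3 * Nat.card Ω < 2 ^ (2 * m - 1) * (2 ^ (2 * m) - 1)) : False := by
  have : Finite V := Module.finite_of_finite F
  classical
  obtain ⟨-, -, -, hnorm1, -⟩ := F4 hF hσ
  have hS := fun (u : V) (huU : u ∈ U) (hu0 : u ≠ 0) (hu : B u u = 0) =>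
    S_at hF hσ hB hm hU hdim IH h1 hlt huU hu0 hu
  haveI : Nonempty Ω := by
    have : 0 < Nat.card Ω := by omega
    exact (Nat.card_pos_iff.mp this).1
  have hQle : ∀ u ∈ U, u ≠ 0 → B u u = 0 → QSub B U u ≤ tvGroup B U := fun u huU hu0 hu =>
    QSTR_le_tvGroup hF hσ hB hU (by omega) huU hu0 hu
  by_cases hpos : ∃ (u : V) (_ : u ∈ U ∧ u ≠ 0 ∧ B u u = 0) (ω : Ω), tEl B U u • ω = ω
  · -- STEP 3
    letI : MulAction ↥(tvGroup B U) (IsoPt B U) := isoAct hB U
    haveI : Finite (IsoPt B U) := Subtype.finite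
    have hsm : ∀ (g : ↥(tvGroup B U)) (u : IsoPt B U), (g • u).1 = (g : V ≃ₗ[F] V) u.1 :=
      fun _ _ => rfl
    have hPle := Cfsg.Agent.Lib.Helper32_S2153_FP.FP (G := ↥(tvGroup B U)) (Ω := Ω) (P := IsoPt B U)
      (fun u => QEl B U u.1) (fun u => tEl B U u.1)
      (fun u x => ∃ l : F, x.1 = l • u.1) (fun u x => B u.1 x.1 = 0)
      (fun u => (hS u.1 u.2.1 u.2.2.1 u.2.2.2).1)
      (fun u => (hS u.1 u.2.1 u.2.2.1 u.2.2.2).2.1)
      (by
        intro g u
        apply Subtype.ext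
        simp only [Subgroup.coe_mul, Subgroup.coe_inv]
        rw [tEl_val hF hσ u.2.1 u.2.2.2, tEl_val hF hσ (g • u).2.1 (g • u).2.2.2, hsm,
          conj_utv (tvGroup_le_uG hB U g.2)])
      (by
        rintro u x ⟨l, hl⟩
        apply Subtype.ext
        rw [tEl_val hF hσ u.2.1 u.2.2.2, tEl_val hF hσ x.2.1 x.2.2.2, hl, utv_smul]
        have hl0 : l ≠ 0 := by
          rintro rfl
          rw [zero_smul] at hl
          exact x.2.2.1 hl
        rw [hnorm1 l hl0, one_mul])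
      (fun u => ⟨1, (one_smul _ _).symm⟩)
      (by
        rintro u x ⟨l, hl⟩
        exact ⟨l⁻¹, smul_flip hl x.2.2.1⟩)
      (by
        rintro u x y ⟨l, hl⟩ ⟨l', hl'⟩
        exact ⟨l' * l, by rw [hl', hl, smul_smul]⟩)
      (by
        intro u
        have hinj : Function.Injective (fun x : {x : IsoPt B U // ∃ l : F, x.1 = l • u.1} =>
            (⟨Classical.choose x.2, by
              intro h0
              have := Classical.choose_spec x.2
              rw [h0, zero_smul] at this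
              exact x.1.2.2.1 this⟩ : {l : F // l ≠ 0})) := by
          intro x y hxy
          have hx := Classical.choose_spec x.2
          have hy := Classical.choose_spec y.2
          have h' : Classical.choose x.2 = Classical.choose y.2 := congrArg Subtype.val hxy
          apply Subtype.ext
          apply Subtype.ext
          rw [hx, hy, h']
        have h3 := Nat.card_le_card_of_injective _ hinj
        have hc : Nat.card {l : F // l ≠ 0} = 3 := by
          rw [Nat.card_eq_fintype_card, Fintype.card_subtype_compl, Fintype.card_subtype_eq, hF]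
        omega)
      (by
        intro u v hperp hns
        obtain ⟨g, hgu, hgv, hg1⟩ := GFP_QQ hB hU u.2.1 v.2.1 u.2.2.2 v.2.2.2 hperp
          (fun l hl => hns ⟨l, hl⟩) u.2.2.1
        have hgT : g ∈ tvGroup B U := hQle u.1 u.2.1 u.2.2.1 u.2.2.2 hgu
        refine ⟨⟨g, hgT⟩, Subgroup.mem_subgroupOf.mpr hgu, Subgroup.mem_subgroupOf.mpr hgv, ?_⟩
        intro h
        exact hg1 (congrArg Subtype.val h))
      (by
        intro u x y hux huy
        obtain ⟨g, hgu, l, hl⟩ := GFP_opp hB hσ u.2.1 x.2.1 y.2.1 u.2.2.2 x.2.2.2 y.2.2.2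
          hux huy
        have hgT : g ∈ tvGroup B U := hQle u.1 u.2.1 u.2.2.1 u.2.2.2 hgu
        refine ⟨⟨g, hgT⟩, Subgroup.mem_subgroupOf.mpr hgu, l⁻¹, ?_⟩
        rw [hsm]
        exact smul_flip hl ((⟨g, hgT⟩ : ↥(tvGroup B U)) • x).2.2.1)
      (by
        intro u x v hux hns
        obtain ⟨z, hzU, hz0, hz, hzv, hcase⟩ := GFP_line (v := v.1) hσ hB hU u.2.1 x.2.1
          u.2.2.1 u.2.2.2 x.2.2.2 hux (fun l hl => hns ⟨l, hl⟩)
        refine ⟨⟨z, hzU, hz0, hz⟩, hzv, ?_⟩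
        rcases hcase with ⟨l, hl⟩ | ⟨g, hgu, l, hl⟩
        · left
          exact ⟨l⁻¹, smul_flip hl hz0⟩
        · right
          have hgT : g ∈ tvGroup B U := hQle u.1 u.2.1 u.2.2.1 u.2.2.2 hgu
          refine ⟨⟨g, hgT⟩, Subgroup.mem_subgroupOf.mpr hgu, l⁻¹, ?_⟩
          rw [hsm]
          exact smul_flip hl ((⟨g, hgT⟩ : ↥(tvGroup B U)) • x).2.2.1)
      (by
        intro u x
        obtain ⟨g, hg, hgu⟩ := exists_tv_iso hσ hB hU (by omega) u.2.1 x.2.1 u.2.2.1 x.2.2.1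
          u.2.2.2 x.2.2.2
        exact ⟨⟨g, hg⟩, Subtype.ext hgu⟩)
      (by
        obtain ⟨u, hu, ω, hω⟩ := hpos
        exact ⟨⟨u, hu⟩, ω, hω⟩)
      (by
        intro ω
        by_contra hcon
        push Not at hcon
        have hall := stab_top hF hσ ω (fun u h1 h2 h3 => hcon ⟨u, h1, h2, h3⟩)
        obtain ⟨ω₀, ω₁, hne⟩ := Finite.one_lt_card_iff_nontrivial.mp h1
        obtain ⟨g₀, hg₀⟩ := MulAction.exists_smul_eq ↥(tvGroup B U) ω ω₀
        obtain ⟨g₁, hg₁⟩ := MulAction.exists_smul_eq ↥(tvGroup B U) ω ω₁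
        exact hne (by rw [← hg₀, ← hg₁, hall, hall]))
    have hcP : Nat.card (IsoPt B U) = (4 ^ m - 1) * (2 ^ (2 * m - 1) + 1) :=
      GCNT hF hσ hB m U hU hdim
    have := count_ineq m (by omega)
    omega
  · -- STEP 4: every `Q_u` is regular
    push Not at hpos
    have hreg : ∀ u ∈ U, u ≠ 0 → B u u = 0 → ∀ ω ω' : Ω, ∃! g : ↥(tvGroup B U),
        g ∈ (QSub B U u).subgroupOf (tvGroup B U) ∧ g • ω = ω' := by
      intro u huU hu0 hu ω ω'
      obtain ⟨-, hfree, hcard, hcQ⟩ := hS u huU hu0 hu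
      have hall : Nat.card {ω : Ω // tEl B U u • ω ≠ ω} = Nat.card Ω := by
        apply Nat.card_congr
        exact Equiv.subtypeUnivEquiv (fun ω => hpos u ⟨huU, hu0, hu⟩ ω)
      have hinj : Function.Injective (fun g : ↥(QEl B U u) => (g : ↥(tvGroup B U)) • ω) := by
        intro g g' hgg'
        have hgg'' : (g : ↥(tvGroup B U)) • ω = (g' : ↥(tvGroup B U)) • ω := hgg'
        have h1 : ((g : ↥(tvGroup B U))⁻¹ * g') • ω = ω := by
          rw [mul_smul, ← hgg'', inv_smul_smul]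
        have := hfree ω (hpos u ⟨huU, hu0, hu⟩ ω) _
          ((QEl B U u).mul_mem ((QEl B U u).inv_mem g.2) g'.2) h1
        apply Subtype.ext
        exact inv_mul_eq_one.mp this
      have hbij := hinj.bijective_of_nat_card_le (by rw [hcQ, ← hcard, hall])
      obtain ⟨g, hg0⟩ := hbij.2 ω'
      have hg : (g : ↥(tvGroup B U)) • ω = ω' := hg0
      refine ⟨g.1, ⟨g.2, hg⟩, ?_⟩
      rintro g' ⟨hg'Q, hg'⟩
      have := hinj (a₁ := ⟨g', hg'Q⟩) (a₂ := g) (by show g' • ω = g.1 • ω; rw [hg', hg])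
      exact congrArg Subtype.val this
    rcases Nat.lt_or_ge m 4 with h4 | h4
    · have : m = 3 := by omega
      subst this
      exact REG6 hF hσ hB hU (by omega) hreg
    · exact REG8 hF hσ hB hU (by omega) hreg

end Cfsg.Agent.Lib.Helper33_U2Core
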