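import Mathlib
import Cfsg.Agent.Lib.Helper33_U2Defs

set_option autoImplicit false

open Cfsg.Agent.Lib.Helper33_U2Defs

namespace Cfsg.Agent.Lib.Helper55_S2153_T4

variable {G : Type*} [Group G] {W : Type*} [AddCommGroup W] {Ω : Type*} [MulAction G Ω]

theorem zmod2_cases (x : ZMod 2) : x = 0 ∨ x = 1 := by
  revert x; decide

theorem zmod2_add_self (x : ZMod 2) : x + x = 0 := by
  revert x; decide

section basics

variable {D : QDat G W} (hD : D.Ok)
include hD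

theorem pi_one : D.π 1 = 0 := by
  have h := hD.π_mul 1 D.Q.one_mem 1 D.Q.one_mem
  rw [mul_one] at h
  exact add_eq_left.mp h.symm

theorem neg_eq (w : W) : -w = w := neg_eq_of_add_eq_zero_left (hD.two w)

theorem pi_inv {g : G} (hg : g ∈ D.Q) : D.π g⁻¹ = D.π g := by
  have h := hD.π_mul g hg g⁻¹ (D.Q.inv_mem hg)
  rw [mul_inv_cancel, pi_one hD] at h
  have h2 : D.π g⁻¹ = -D.π g := (neg_eq_of_add_eq_zero_right h.symm).symm
  rw [h2, neg_eq hD]

theorem pi_conj {g h : G} (hg : g ∈ D.Q) (hh : h ∈ D.Q) : D.π (g * h * g⁻¹) = D.π h := by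
  rw [hD.π_mul (g * h) (D.Q.mul_mem hg hh) g⁻¹ (D.Q.inv_mem hg), hD.π_mul g hg h hh, pi_inv hD hg,
    add_comm (D.π g), add_assoc, hD.two, add_zero]

/-- a point stabiliser in `Q` missing `t` is mapped injectively by `π` -/
theorem pi_inj {ω : Ω} (hω : D.t • ω ≠ ω) {g g' : G} (hg : g ∈ D.Q) (hg' : g' ∈ D.Q)
    (hgω : g • ω = ω) (hg'ω : g' • ω = ω) (h : D.π g = D.π g') : g = g' := by
  have h1 : D.π (g * g'⁻¹) = 0 := by
    rw [hD.π_mul g hg g'⁻¹ (D.Q.inv_mem hg'), pi_inv hD hg', h, hD.two]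
  have h2 : (g * g'⁻¹) • ω = ω := by
    rw [mul_smul, inv_smul_eq_iff.mpr hg'ω.symm, hgω]
  rcases hD.π_ker _ (D.Q.mul_mem hg (D.Q.inv_mem hg')) h1 with h3 | h3
  · exact mul_inv_eq_one.mp h3
  · rw [h3] at h2
    exact absurd h2 hω

theorem qf_eq_zero {ω : Ω} (hω : D.t • ω ≠ ω) {g : G} (hg : g ∈ D.Q) (hgω : g • ω = ω) :
    D.qf (D.π g) = 0 := by
  have h := hD.sq g hg
  rcases zmod2_cases (D.qf (D.π g)) with h0 | h1
  · exact h0
  · exfalso
    rw [h1] at h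
    have h2 : D.t = g * g := by
      rw [h]
      have : (1 : ZMod 2).val = 1 := rfl
      rw [this, pow_one]
    apply hω
    rw [h2, mul_smul, hgω, hgω]

theorem beta_eq_zero {ω : Ω} (hω : D.t • ω ≠ ω) {g g' : G} (hg : g ∈ D.Q) (hg' : g' ∈ D.Q)
    (hgω : g • ω = ω) (hg'ω : g' • ω = ω) : D.β (D.π g) (D.π g') = 0 := by
  have h := hD.comm g hg g' hg'
  rcases zmod2_cases (D.β (D.π g) (D.π g')) with h0 | h1
  · exact h0
  · exfalso
    rw [h1] at h
    have : (1 : ZMod 2).val = 1 := rfl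
    rw [this, pow_one] at h
    apply hω
    have h2 : (g * g') • ω = (D.t * (g' * g)) • ω := by rw [h]
    rw [mul_smul, mul_smul, mul_smul, hg'ω, hgω, hg'ω] at h2
    exact h2.symm

/-- the image in `W` of the stabiliser of `ω` in `Q` -/
def Isub (ω : Ω) : AddSubgroup W where
  carrier := {w | ∃ g ∈ D.Q, g • ω = ω ∧ D.π g = w}
  zero_mem' := ⟨1, D.Q.one_mem, one_smul _ _, pi_one hD⟩
  add_mem' := by
    rintro _ _ ⟨g, hg, hgω, rfl⟩ ⟨g', hg', hg'ω, rfl⟩
    exact ⟨g * g', D.Q.mul_mem hg hg', by rw [mul_smul, hg'ω, hgω], hD.π_mul g hg g' hg'⟩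
  neg_mem' := by
    rintro _ ⟨g, hg, hgω, rfl⟩
    rw [neg_eq hD]
    exact ⟨g, hg, hgω, rfl⟩

theorem mem_Isub {ω : Ω} {w : W} : w ∈ Isub hD ω ↔ ∃ g ∈ D.Q, g • ω = ω ∧ D.π g = w := Iff.rfl

theorem Isub_le {ω : Ω} {g : G} (hg : g ∈ D.Q) : Isub hD ω ≤ Isub hD (g • ω) := by
  rintro _ ⟨h, hh, hhω, rfl⟩
  refine ⟨g * h * g⁻¹, D.Q.mul_mem (D.Q.mul_mem hg hh) (D.Q.inv_mem hg), ?_, pi_conj hD hg hh⟩
  rw [mul_smul, inv_smul_smul, mul_smul, hhω]

theorem Isub_smul {ω : Ω} {g : G} (hg : g ∈ D.Q) : Isub hD (g • ω) = Isub hD ω := by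
  apply le_antisymm
  · have h := Isub_le hD (ω := g • ω) (D.Q.inv_mem hg)
    rwa [inv_smul_smul] at h
  · exact Isub_le hD hg

theorem moved_smul {ω : Ω} (hω : D.t • ω ≠ ω) {k : G} (hk : k ∈ D.K) : D.t • (k • ω) ≠ k • ω := by
  intro h
  apply hω
  rw [← mul_smul, ← hD.K_t k hk, mul_smul] at h
  exact smul_left_cancel k h

theorem rho_mem {ω : Ω} {k : G} (hk : k ∈ D.K) {w : W} (hw : w ∈ Isub hD ω) :
    D.ρ k w ∈ Isub hD (k • ω) := by
  obtain ⟨h, hh, hhω, rfl⟩ := hw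
  refine ⟨k * h * k⁻¹, hD.K_conj_mem k hk h hh, ?_, hD.K_conj_π k hk h hh⟩
  rw [mul_smul, inv_smul_smul, mul_smul, hhω]

theorem Isub_qf {ω : Ω} (hω : D.t • ω ≠ ω) {w : W} (hw : w ∈ Isub hD ω) : D.qf w = 0 := by
  obtain ⟨g, hg, hgω, rfl⟩ := hw
  exact qf_eq_zero hD hω hg hgω

theorem Isub_beta {ω : Ω} (hω : D.t • ω ≠ ω) {w w' : W} (hw : w ∈ Isub hD ω)
    (hw' : w' ∈ Isub hD ω) : D.β w w' = 0 := by
  obtain ⟨g, hg, hgω, rfl⟩ := hw
  obtain ⟨g', hg', hg'ω, rfl⟩ := hw'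
  exact beta_eq_zero hD hω hg hg' hgω hg'ω

end basics


section counting

variable {D : QDat G W} (hD : D.Ok)
include hD

/-- `π` as a homomorphism on `Q` -/
def piHom : ↥D.Q →* Multiplicative W where
  toFun g := Multiplicative.ofAdd (D.π (g : G))
  map_one' := by
    show Multiplicative.ofAdd (D.π ((1 : ↥D.Q) : G)) = 1
    rw [Subgroup.coe_one, pi_one hD, ofAdd_zero]
  map_mul' a b := by
    show Multiplicative.ofAdd (D.π ((a * b : ↥D.Q) : G)) = _
    rw [Subgroup.coe_mul, hD.π_mul a a.2 b b.2, ofAdd_add]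

theorem card_Q : Nat.card ↥D.Q = Nat.card W * 2 := by
  have h1 := Subgroup.index_mul_card (piHom hD).ker
  rw [Subgroup.index_ker] at h1
  have hr : (piHom hD).range = ⊤ := by
    rw [MonoidHom.range_eq_top]
    intro w
    obtain ⟨g, hg, hgw⟩ := hD.π_surj (Multiplicative.toAdd w)
    refine ⟨⟨g, hg⟩, ?_⟩
    show Multiplicative.ofAdd (D.π g) = w
    rw [hgw, ofAdd_toAdd]
  have hk : Nat.card (piHom hD).ker = 2 := by
    rw [Nat.card_eq_two_iff]
    have ht : (⟨D.t, hD.t_mem⟩ : ↥D.Q) ∈ (piHom hD).ker := by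
      rw [MonoidHom.mem_ker]
      show Multiplicative.ofAdd (D.π D.t) = 1
      rw [hD.π_t, ofAdd_zero]
    refine ⟨1, ⟨⟨D.t, hD.t_mem⟩, ht⟩, ?_, ?_⟩
    · intro h
      have h2 := congrArg (fun x : (piHom hD).ker => ((x : ↥D.Q) : G)) h
      simp only [OneMemClass.coe_one] at h2
      exact hD.t_ne h2.symm
    · ext ⟨⟨g, hg⟩, hgk⟩
      simp only [Set.mem_insert_iff, Set.mem_singleton_iff, Set.mem_univ, iff_true]
      rw [MonoidHom.mem_ker] at hgk
      have h0 : D.π g = 0 := by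
        have : Multiplicative.ofAdd (D.π g) = 1 := hgk
        rwa [ofAdd_eq_one] at this
      rcases hD.π_ker g hg h0 with h3 | h3
      · left
        apply Subtype.ext; apply Subtype.ext
        exact h3
      · right
        apply Subtype.ext; apply Subtype.ext
        exact h3
  rw [hr, Subgroup.card_top, hk] at h1
  rw [← h1]
  congr 1

theorem card_stab_le [Finite W] {ω : Ω} (hω : D.t • ω ≠ ω) :
    Nat.card (MulAction.stabilizer ↥D.Q ω) ≤ Nat.card (Isub hD ω) := by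
  let f : MulAction.stabilizer ↥D.Q ω → Isub hD ω := fun g =>
    ⟨D.π ((g : ↥D.Q) : G), ⟨((g : ↥D.Q) : G), (g : ↥D.Q).2, by
      have := g.2
      rw [MulAction.mem_stabilizer_iff] at this
      exact this, rfl⟩⟩
  apply Nat.card_le_card_of_injective f
  intro g g' h
  have h1 : D.π ((g : ↥D.Q) : G) = D.π ((g' : ↥D.Q) : G) := congrArg Subtype.val h
  have hg := g.2
  have hg' := g'.2
  rw [MulAction.mem_stabilizer_iff] at hg hg'
  apply Subtype.ext; apply Subtype.ext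
  exact pi_inj hD hω (g : ↥D.Q).2 (g' : ↥D.Q).2 hg hg' h1

theorem orbit_mul_ge [Finite W] {ω : Ω} (hω : D.t • ω ≠ ω) :
    Nat.card W * 2 ≤ (MulAction.orbit ↥D.Q ω).ncard * Nat.card (Isub hD ω) := by
  have h1 := Subgroup.index_mul_card (MulAction.stabilizer ↥D.Q ω)
  rw [MulAction.index_stabilizer, card_Q hD] at h1
  rw [← h1]
  exact Nat.mul_le_mul_left _ (card_stab_le hD hω)

end counting


section bound

variable {D : QDat G W} (hD : D.Ok)
include hD

theorem beta_add_right (w u u' : W) : D.β w (u + u') = D.β w u + D.β w u' := by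
  rw [hD.β_symm, hD.β_add, hD.β_symm u, hD.β_symm u']

/-- a totally isotropic subgroup of `W` is not of index two (when `|W| = 16`) -/
theorem card_ne_eight [Finite W] (hW : Nat.card W = 16) (I : AddSubgroup W)
    (hI : ∀ w ∈ I, ∀ w' ∈ I, D.β w w' = 0) : Nat.card I ≠ 8 := by
  intro h8
  have hidx : I.index = 2 := by
    have h := I.index_mul_card
    rw [h8, hW] at h
    omega
  have hne : ∃ w, w ∉ I := by
    by_contra hcon
    push Not at hcon
    have : I = ⊤ := (AddSubgroup.eq_top_iff' I).mpr hcon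
    rw [this, AddSubgroup.index_top] at hidx
    omega
  obtain ⟨w, hw⟩ := hne
  have : Fintype I := Fintype.ofFinite I
  have hlt : Fintype.card (ZMod 2) < Fintype.card I := by
    rw [ZMod.card, ← Nat.card_eq_fintype_card, h8]
    norm_num
  obtain ⟨i₁, i₂, hne12, heq⟩ := Fintype.exists_ne_map_eq_of_card_lt
    (fun i : I => D.β (i : W) w) hlt
  set i : W := (i₁ : W) + (i₂ : W) with hi
  have hiI : i ∈ I := I.add_mem i₁.2 i₂.2
  have hi0 : i ≠ 0 := by
    intro h0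
    apply hne12
    apply Subtype.ext
    have : (i₁ : W) = -(i₂ : W) := eq_neg_of_add_eq_zero_left h0
    rw [this, neg_eq hD]
  have hiw : D.β i w = 0 := by
    rw [hi, hD.β_add, heq, zmod2_add_self]
  apply hi0
  apply hD.β_nondeg
  intro u
  by_cases hu : u ∈ I
  · exact hI i hiI u hu
  · have h1 : u + w ∈ I := by
      rw [AddSubgroup.add_mem_iff_of_index_two hidx]
      exact ⟨fun h => absurd h hu, fun h => absurd h hw⟩
    have h2 := hI i hiI (u + w) h1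
    rw [beta_add_right hD, hiw, add_zero] at h2
    exact h2


omit hD in
theorem ncard_sing (hsing : Nat.card {w : W // w ≠ 0 ∧ D.qf w = 0} = 9) :
    Set.ncard {w : W | w ≠ 0 ∧ D.qf w = 0} = 9 := by
  rw [← _root_.Nat.card_coe_set_eq]; exact hsing

theorem ncard_Isub (ω : Ω) :
    Set.ncard ((Isub hD ω : AddSubgroup W) : Set W) = Nat.card (Isub hD ω) := by
  rw [← _root_.Nat.card_coe_set_eq]; rfl

theorem card_Isub_le [Finite W] (hW : Nat.card W = 16)
    (hsing : Nat.card {w : W // w ≠ 0 ∧ D.qf w = 0} = 9) {ω : Ω} (hω : D.t • ω ≠ ω) :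
    Nat.card (Isub hD ω) ≤ 4 := by
  have hdvd := AddSubgroup.card_addSubgroup_dvd_card (Isub hD ω)
  rw [hW] at hdvd
  have h16 : (16 : ℕ) = 2 ^ 4 := by norm_num
  rw [h16, Nat.dvd_prime_pow Nat.prime_two] at hdvd
  obtain ⟨k, hk, hcard⟩ := hdvd
  have hle : Nat.card (Isub hD ω) ≤ 10 := by
    have hsub : ((Isub hD ω : AddSubgroup W) : Set W) ⊆
        insert 0 {w : W | w ≠ 0 ∧ D.qf w = 0} := by
      intro w hw
      by_cases h0 : w = 0
      · left; exact h0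
      · right; exact ⟨h0, Isub_qf hD hω hw⟩
    have h1 := Set.ncard_le_ncard hsub (Set.toFinite _)
    have h2 := Set.ncard_insert_le (0 : W) {w : W | w ≠ 0 ∧ D.qf w = 0}
    have h3 := ncard_sing hsing
    have h4 := ncard_Isub hD ω
    omega
  have h8 := card_ne_eight hD hW (Isub hD ω) (fun w hw w' hw' => Isub_beta hD hω hw hw')
  interval_cases k <;> omega

end bound

/-- S2153-T4 (M).  Base of the induction (`SU_4(2)`): if `t` moves a point then `|Ω| ≥ 24`. -/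
theorem T4 {G : Type*} [Group G] {W : Type*} [AddCommGroup W] [Finite W]
    {Ω : Type*} [MulAction G Ω] [Finite Ω]
    (D : QDat G W) (hD : D.Ok) (hW : Nat.card W = 16)
    (horb0 : ∀ w w' : W, w ≠ 0 → w' ≠ 0 → D.qf w = 0 → D.qf w' = 0 → ∃ k ∈ D.K, D.ρ k w = w')
    (hsing : Nat.card {w : W // w ≠ 0 ∧ D.qf w = 0} = 9)
    (hmoved : ∃ ω : Ω, D.t • ω ≠ ω) : 24 ≤ Nat.card Ω := by
  obtain ⟨ω₀, hω₀⟩ := hmoved
  have hcardI : ∀ ω : Ω, D.t • ω ≠ ω → Set.ncard ((Isub hD ω : AddSubgroup W) : Set W) ≤ 4 := by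
    intro ω hω
    rw [ncard_Isub hD ω]
    exact card_Isub_le hD hW hsing hω
  -- orbit size bound
  have horb : ∀ ω : Ω, D.t • ω ≠ ω → 8 ≤ (MulAction.orbit ↥D.Q ω).ncard := by
    intro ω hω
    have h1 := orbit_mul_ge hD hω
    have h2 := card_Isub_le hD hW hsing hω
    rw [hW] at h1
    by_contra hlt
    push Not at hlt
    have : (MulAction.orbit ↥D.Q ω).ncard * Nat.card (Isub hD ω) ≤ 7 * 4 :=
      Nat.mul_le_mul (by omega) h2
    omega
  have hsubΩ : ∀ S : Set Ω, S.ncard ≤ Nat.card Ω := by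
    intro S
    rw [← Set.ncard_univ]
    exact Set.ncard_le_ncard (Set.subset_univ _) Set.finite_univ
  rcases (Isub hD ω₀).bot_or_exists_ne_zero with hbot | ⟨a, haI, ha0⟩
  · -- regular orbit
    have h1 := orbit_mul_ge hD hω₀
    rw [hbot, hW, AddSubgroup.card_bot, mul_one] at h1
    have h2 := hsubΩ (MulAction.orbit ↥D.Q ω₀)
    omega
  · have haq := Isub_qf hD hω₀ haI
    have hpick : ∀ T : Set W, T.ncard ≤ 8 → ∃ w, w ≠ 0 ∧ D.qf w = 0 ∧ w ∉ T := by
      intro T hT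
      have h3 := ncard_sing hsing
      obtain ⟨w, hw, hwT⟩ := Set.exists_mem_notMem_of_ncard_lt_ncard
        (by omega : T.ncard < Set.ncard {w : W | w ≠ 0 ∧ D.qf w = 0}) (Set.toFinite T)
      exact ⟨w, hw.1, hw.2, hwT⟩
    obtain ⟨w₁, hw₁0, hw₁q, hw₁T⟩ := hpick ((Isub hD ω₀ : AddSubgroup W) : Set W)
      (by have := hcardI ω₀ hω₀; omega)
    obtain ⟨k₁, hk₁, hk₁a⟩ := horb0 a w₁ ha0 hw₁0 haq hw₁q
    have hω₁ := moved_smul hD hω₀ hk₁
    have hw₁I : w₁ ∈ Isub hD (k₁ • ω₀) := by rw [← hk₁a]; exact rho_mem hD hk₁ haI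
    obtain ⟨w₂, hw₂0, hw₂q, hw₂T⟩ := hpick (((Isub hD ω₀ : AddSubgroup W) : Set W) ∪
        ((Isub hD (k₁ • ω₀) : AddSubgroup W) : Set W))
      (by
        have h1 := Set.ncard_union_le ((Isub hD ω₀ : AddSubgroup W) : Set W)
          ((Isub hD (k₁ • ω₀) : AddSubgroup W) : Set W)
        have h2 := hcardI ω₀ hω₀
        have h3 := hcardI _ hω₁
        omega)
    obtain ⟨k₂, hk₂, hk₂a⟩ := horb0 a w₂ ha0 hw₂0 haq hw₂q
    have hω₂ := moved_smul hD hω₀ hk₂
    have hw₂I : w₂ ∈ Isub hD (k₂ • ω₀) := by rw [← hk₂a]; exact rho_mem hD hk₂ haI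
    have hdisj : ∀ ω ω' : Ω, Isub hD ω ≠ Isub hD ω' →
        Disjoint (MulAction.orbit ↥D.Q ω) (MulAction.orbit ↥D.Q ω') := by
      intro ω ω' hne
      rw [Set.disjoint_left]
      rintro x ⟨g, rfl⟩ ⟨g', hg'⟩
      apply hne
      have e1 : Isub hD ((g : G) • ω) = Isub hD ω := Isub_smul hD g.2
      have e2 : Isub hD ((g' : G) • ω') = Isub hD ω' := Isub_smul hD g'.2
      rw [← e1, ← e2]
      congr 1
      exact hg'.symm
    have h01 : Isub hD ω₀ ≠ Isub hD (k₁ • ω₀) := by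
      intro h
      apply hw₁T
      rw [SetLike.mem_coe, h]
      exact hw₁I
    have h02 : Isub hD ω₀ ≠ Isub hD (k₂ • ω₀) := by
      intro h
      apply hw₂T
      left
      rw [SetLike.mem_coe, h]
      exact hw₂I
    have h12 : Isub hD (k₁ • ω₀) ≠ Isub hD (k₂ • ω₀) := by
      intro h
      apply hw₂T
      right
      rw [SetLike.mem_coe, h]
      exact hw₂I
    have hd1 := hdisj _ _ h01
    have hd2 : Disjoint (MulAction.orbit ↥D.Q ω₀ ∪ MulAction.orbit ↥D.Q (k₁ • ω₀))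
        (MulAction.orbit ↥D.Q (k₂ • ω₀)) := by
      rw [Set.disjoint_union_left]
      exact ⟨hdisj _ _ h02, hdisj _ _ h12⟩
    have hc1 := Set.ncard_union_eq hd1 (Set.toFinite _) (Set.toFinite _)
    have hc2 := Set.ncard_union_eq hd2 (Set.toFinite _) (Set.toFinite _)
    have hb0 := horb ω₀ hω₀
    have hb1 := horb _ hω₁
    have hb2 := horb _ hω₂
    have htot := hsubΩ (MulAction.orbit ↥D.Q ω₀ ∪ MulAction.orbit ↥D.Q (k₁ • ω₀) ∪
      MulAction.orbit ↥D.Q (k₂ • ω₀))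
    omega

end Cfsg.Agent.Lib.Helper55_S2153_T4
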