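import Mathlib
import Cfsg.Agent.Lib.Helper33_U2Core
import Cfsg.Agent.Lib.Helper55_S2153_T4

set_option autoImplicit false
set_option linter.unusedSectionVars false
set_option linter.style.haveILetI false

open Module Cfsg.Agent.Lib.Helper94_Symp Cfsg.Agent.Lib.Helper94_Herm
  Cfsg.Agent.Lib.Helper94_HermTrans Cfsg.Agent.Lib.Helper94_HermEich
  Cfsg.Agent.Lib.Helper94_HermWitt Cfsg.Agent.Lib.Helper94_HermIrr
  Cfsg.Agent.Lib.Helper13_SUGen
  Cfsg.Agent.Lib.Helper33_U2Defs Cfsg.Agent.Lib.Helper33_U2Geo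
  Cfsg.Agent.Lib.Helper33_U2Main Cfsg.Agent.Lib.Helper33_U2Core

open Cfsg.Agent.Lib.Helper33_S2153_F4 (F4)
open Cfsg.Agent.Lib.Helper33_S2153_QSTR (QSTR_le_tvGroup)
open Cfsg.Agent.Lib.Helper33_S2153_GOK (GOK)
open Cfsg.Agent.Lib.Helper33_S2153_GFP (GFP_QQ GFP_opp GFP_line)
open Cfsg.Agent.Lib.Helper33_S2153_COMAP (COMAP_ok COMAP_mu)
open Cfsg.Agent.Lib.Helper26_S2153_GORB (GORB)
open Cfsg.Agent.Lib.Helper55_S2153_GCNT (GCNT GCNT_finrank)
open Cfsg.Agent.Lib.Helper55_S2153_GATT (GATT)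
open Cfsg.Agent.Lib.Helper54_S2153_GEN (GEN_closure GEN_conj)
open Cfsg.Agent.Lib.Helper54_S2153_GT4 (GT4)
open Cfsg.Agent.Lib.Helper69_S2153_REG8 (REG8)
open Cfsg.Agent.Lib.Helper55_S2153_REG6 (REG6)

namespace Cfsg.Agent.Lib.Helper33_U2Ind

variable {F V : Type*} [Field F] [Fintype F] [AddCommGroup V] [Module F V] [FiniteDimensional F V]
variable {σ : F →+* F} {B : V →ₗ[F] V →ₛₗ[σ] F}

/-- The base case `SU_4(2)`: a nontrivial transitive action has at least 24 points. -/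
theorem base (hF : Fintype.card F = 4) (hσ : Invol σ) (hB : IsHerm B)
    {U : Submodule F V} (hU : NondegOn B U) (hdim : finrank F U = 4)
    {Ω : Type*} [MulAction ↥(tvGroup B U) Ω] [MulAction.IsPretransitive ↥(tvGroup B U) Ω]
    [Finite Ω] (h1 : 1 < Nat.card Ω) : 24 ≤ Nat.card Ω := by
  have : Finite V := Module.finite_of_finite F
  classical
  obtain ⟨u, huU, hu0, hu⟩ : ∃ u ∈ U, u ≠ 0 ∧ B u u = 0 := by
    obtain ⟨e, heU, f, hfU, he, hf, hef⟩ := exists_pair hσ hB hU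
      (exists_notMem_span1 (U := U) (by omega))
    refine ⟨e, heU, ?_, he⟩
    rintro rfl
    simp at hef
  obtain ⟨u', hu'U, hu', huu'⟩ := exists_partner hσ hB hU huU hu0 hu
  have h : HypPair B u u' := hypPair_mk hB hu hu' huu'
  have hWnd : NondegOn B (Wsub B U u u') := nondegOn_pair hB hU huU hu'U hu hu' huu'
  have hWdim : finrank F (Wsub B U u u') = 2 * 1 := by
    have := GCNT_finrank hB huU hu'U h
    omega
  have hOkA := GOK hF hσ hB hU huU hu'U h (KFull B U u u') le_rfl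
  have hQle : QSub B U u ≤ tvGroup B U := QSTR_le_tvGroup hF hσ hB hU (by omega) huU hu0 hu
  have hKle0 : KFull B U u u' ≤ tvGroup B U := fun x hx => hx.1.1
  set DA := qdatA B U u u' (KFull B U u u') with hDA
  have hOk : (comapDat DA (tvGroup B U)).Ok := COMAP_ok DA hOkA _ hQle hKle0
  have hcW : Nat.card ↥(Wsub B U u u') = 16 := by
    rw [card_W hF _ hWdim]; norm_num
  have horb0 : ∀ w w' : ↥(Wsub B U u u'), w ≠ 0 → w' ≠ 0 →
      (comapDat DA (tvGroup B U)).qf w = 0 → (comapDat DA (tvGroup B U)).qf w' = 0 →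
      ∃ k ∈ (comapDat DA (tvGroup B U)).K, (comapDat DA (tvGroup B U)).ρ k w = w' := by
    intro w w' hw hw' hq hq'
    obtain ⟨k, hk, hkw⟩ := GT4 hF hσ hB hU hdim huU hu'U h w w' hw hw' hq hq'
    exact ⟨⟨k, hKle0 hk⟩, Subgroup.mem_subgroupOf.mpr hk, hkw⟩
  have hsing : Nat.card {w : ↥(Wsub B U u u') // w ≠ 0 ∧ (comapDat DA (tvGroup B U)).qf w = 0} =
      9 := by
    have hc := GCNT hF hσ hB 1 (Wsub B U u u') hWnd hWdim
    have e9 : (4 ^ 1 - 1) * (2 ^ (2 * 1 - 1) + 1) = 9 := by norm_num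
    rw [e9] at hc
    rw [← hc]
    apply Nat.card_congr
    refine ⟨fun w => ⟨(w.1 : V), w.1.2, fun h0 => w.2.1 (Subtype.ext h0), ?_⟩,
      fun x => ⟨⟨x.1, x.2.1⟩, fun h0 => x.2.2.1 (congrArg Subtype.val h0), ?_⟩, ?_, ?_⟩
    · have := w.2.2
      by_contra hne
      have h2 : (comapDat DA (tvGroup B U)).qf w.1 = 1 := by
        show nz2 (B (w.1 : V) (w.1 : V)) = 1
        unfold nz2; rw [if_neg hne]
      rw [h2] at this
      exact one_ne_zero this
    · show nz2 (B x.1 x.1) = 0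
      unfold nz2; rw [if_pos x.2.2.2]
    · intro w; rfl
    · intro x; rfl
  have ht_eq : (comapDat DA (tvGroup B U)).t = tEl B U u := rfl
  obtain ⟨ω₀, hω₀⟩ := tEl_moves hF hσ hB hU (by omega) h1 huU hu0 hu
  exact Cfsg.Agent.Lib.Helper55_S2153_T4.T4 (comapDat DA (tvGroup B U)) hOk hcW horb0 hsing ⟨ω₀, by rw [ht_eq]; exact hω₀⟩

/-- Statement `T(m)` of finding 179. -/
theorem main_bound (hF : Fintype.card F = 4) (hσ : Invol σ) (hB : IsHerm B) :
    ∀ m : ℕ, 2 ≤ m → ∀ U : Submodule F V, NondegOn B U → finrank F U = 2 * m →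
      ∀ L : Subgroup (V ≃ₗ[F] V), L ≤ tvGroup B U → L ≠ tvGroup B U →
        bnd m ≤ L.relIndex (tvGroup B U) := by
  have : Finite V := Module.finite_of_finite F
  haveI : Finite (V ≃ₗ[F] V) := Finite.of_injective (fun g => (g : V → V)) DFunLike.coe_injective
  intro m hm
  induction m, hm using Nat.le_induction with
  | base =>
    intro U hU hdim L hL hne
    have hcard : Nat.card (↥(tvGroup B U) ⧸ L.subgroupOf (tvGroup B U)) =
        L.relIndex (tvGroup B U) := rfl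
    have h1 : 1 < Nat.card (↥(tvGroup B U) ⧸ L.subgroupOf (tvGroup B U)) := by
      rw [hcard]
      have h0 : L.relIndex (tvGroup B U) ≠ 0 := Subgroup.index_ne_zero_of_finite
      have h1 : L.relIndex (tvGroup B U) ≠ 1 := by
        intro h
        rw [Subgroup.relIndex_eq_one] at h
        exact hne (le_antisymm hL h)
      omega
    have := base hF hσ hB hU (by omega) h1
    rw [hcard] at this
    exact this
  | succ m hm ih =>
    intro U hU hdim L hL hne
    have hcard : Nat.card (↥(tvGroup B U) ⧸ L.subgroupOf (tvGroup B U)) =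
        L.relIndex (tvGroup B U) := rfl
    have h1 : 1 < Nat.card (↥(tvGroup B U) ⧸ L.subgroupOf (tvGroup B U)) := by
      rw [hcard]
      have h0 : L.relIndex (tvGroup B U) ≠ 0 := Subgroup.index_ne_zero_of_finite
      have h1 : L.relIndex (tvGroup B U) ≠ 1 := by
        intro h
        rw [Subgroup.relIndex_eq_one] at h
        exact hne (le_antisymm hL h)
      omega
    by_contra hlt
    push Not at hlt
    have h3 : 3 * Nat.card (↥(tvGroup B U) ⧸ L.subgroupOf (tvGroup B U)) <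
        2 ^ (2 * (m + 1) - 1) * (2 ^ (2 * (m + 1)) - 1) := by
      rw [hcard, ← bnd_mul_three (by omega : 3 ≤ m + 1)]
      omega
    exact core hF hσ hB (by omega : 3 ≤ m + 1) hU hdim (fun W hW hWd => ih W hW hWd) h1 h3

end Cfsg.Agent.Lib.Helper33_U2Ind
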