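import Mathlib
import Cfsg.Agent.Lib.Helper71_HHBTwist
import Cfsg.Agent.S0058
import Cfsg.Agent.Lib.Helper24_CoprimeAction
import Cfsg.Agent.Lib.Helper48_Generation
import Cfsg.Agent.Lib.Helper87_WardBasic

/-!
# Ward's theorem: the linear part (helper87)

`L` a finite group with a representation `ρ` on `W`; `Q`, `S`, `A` subgroups as in the minimal
configuration of Ward's theorem.  We show that `[Q,S]` acts trivially on `W`.
-/

set_option autoImplicit false

namespace Cfsg.Agent.Lib.Helper87_WardLin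
open Cfsg.Agent.Lib.Helper71_HHBTwist
open scoped MonoidAlgebra

variable {L : Type*} [Group L] {k : Type*} [Field k] {W : Type*} [AddCommGroup W] [Module k W]

/-- the linear automorphism `ρ g` -/
def lin (ρ : Representation k L W) (g : L) : W ≃ₗ[k] W :=
  LinearEquiv.ofLinearMap (ρ g) (ρ g⁻¹)
    (by ext w; simp) (by ext w; simp)

@[simp] theorem lin_apply (ρ : Representation k L W) (g : L) (w : W) : lin ρ g w = ρ g w := rfl

theorem map_one' (ρ : Representation k L W) (U : Submodule k W) : U.map (ρ 1) = U := by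
  rw [map_one]
  exact Submodule.map_id U

theorem map_mul' (ρ : Representation k L W) (g h : L) (U : Submodule k W) :
    U.map (ρ (g * h)) = (U.map (ρ h)).map (ρ g) := by
  rw [map_mul, Module.End.mul_eq_comp, Submodule.map_comp]

theorem mem_map_iff (ρ : Representation k L W) (g : L) (U : Submodule k W) (w : W) :
    w ∈ U.map (ρ g) ↔ ρ g⁻¹ w ∈ U := by
  constructor
  · rintro ⟨u, hu, rfl⟩
    simpa using hu
  · intro h
    exact ⟨ρ g⁻¹ w, h, by simp⟩

theorem map_eq_of_map_eq (ρ : Representation k L W) (g : L) {U U' : Submodule k W}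
    (h : U.map (ρ g) = U'.map (ρ g)) : U = U' := by
  have h1 := congrArg (Submodule.map (ρ g⁻¹)) h
  rwa [← map_mul', ← map_mul', inv_mul_cancel, map_one', map_one'] at h1

/-- conjugation by an element of the normalizer, as an automorphism of `Q` -/
def conjQ (Q : Subgroup L) (g : L) (hg : g ∈ Subgroup.normalizer (Q : Set L)) : ↥Q ≃* ↥Q where
  toFun x := ⟨g * x * g⁻¹, (Subgroup.mem_normalizer_iff.mp hg x).mp x.2⟩
  invFun x := ⟨g⁻¹ * x * g, by
    have := (Subgroup.mem_normalizer_iff.mp (Subgroup.inv_mem _ hg) x).mp x.2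
    simpa using this⟩
  left_inv x := by ext; simp [mul_assoc]
  right_inv x := by ext; simp [mul_assoc]
  map_mul' x y := by ext; simp [mul_assoc]

/-- the restriction of `ρ` to `Q` -/
abbrev res (ρ : Representation k L W) (Q : Subgroup L) : Representation k ↥Q W :=
  ρ.comp Q.subtype

theorem comp_map (ρ : Representation k L W) (Q : Subgroup L) {U : Submodule k W}
    (hU : IsIsoComp (res ρ Q) U) (g : L) (hg : g ∈ Subgroup.normalizer (Q : Set L)) :
    IsIsoComp (res ρ Q) (U.map (ρ g)) := by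
  have := hU.map (lin ρ g) (conjQ Q g hg) (by
    intro x v
    show ρ g (ρ x v) = ρ (g * x * g⁻¹) (ρ g v)
    rw [← Module.End.mul_apply, ← Module.End.mul_apply, ← map_mul, ← map_mul]
    congr 2
    group)
  exact this

/-- `x` acts trivially on `U` -/
def Triv (ρ : Representation k L W) (x : L) (U : Submodule k W) : Prop := ∀ u ∈ U, ρ x u = u

theorem Triv.one (ρ : Representation k L W) (U : Submodule k W) : Triv ρ 1 U := by
  intro u _
  simp

theorem Triv.mul {ρ : Representation k L W} {U : Submodule k W} {x y : L} (hx : Triv ρ x U)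
    (hy : Triv ρ y U) : Triv ρ (x * y) U := by
  intro u hu
  rw [map_mul, Module.End.mul_apply, hy u hu, hx u hu]

theorem Triv.inv {ρ : Representation k L W} {U : Submodule k W} {x : L} (hx : Triv ρ x U) :
    Triv ρ x⁻¹ U := by
  intro u hu
  have := hx u hu
  rw [← this, Representation.inv_self_apply, this]

theorem Triv.conj {ρ : Representation k L W} {U : Submodule k W} {x : L} (hx : Triv ρ x U)
    (g : L) : Triv ρ (g * x * g⁻¹) (U.map (ρ g)) := by
  rintro _ ⟨u, hu, rfl⟩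
  rw [← Module.End.mul_apply, ← map_mul]
  have : g * x * g⁻¹ * g = g * x := by group
  rw [this, map_mul, Module.End.mul_apply, hx u hu]

theorem Triv.pow {ρ : Representation k L W} {U : Submodule k W} {x : L} (hx : Triv ρ x U)
    (n : ℕ) : Triv ρ (x ^ n) U := by
  induction n with
  | zero => rw [pow_zero]; exact Triv.one ρ U
  | succ n ih => rw [pow_succ]; exact ih.mul hx

/-- the kernel of the action of `Q` on `U`, as a subgroup of `L` -/
def kerOn (ρ : Representation k L W) (Q : Subgroup L) (U : Submodule k W) : Subgroup L where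
  carrier := {x | x ∈ Q ∧ Triv ρ x U}
  mul_mem' := fun ⟨h1, h2⟩ ⟨h3, h4⟩ => ⟨Q.mul_mem h1 h3, h2.mul h4⟩
  one_mem' := ⟨Q.one_mem, Triv.one ρ U⟩
  inv_mem' := fun ⟨h1, h2⟩ => ⟨Q.inv_mem h1, h2.inv⟩

theorem mem_kerOn {ρ : Representation k L W} {Q : Subgroup L} {U : Submodule k W} {x : L} :
    x ∈ kerOn ρ Q U ↔ x ∈ Q ∧ Triv ρ x U := Iff.rfl

theorem kerOn_le (ρ : Representation k L W) (Q : Subgroup L) (U : Submodule k W) :
    kerOn ρ Q U ≤ Q := fun _ h => h.1

/-- conjugation moves the kernel -/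
theorem conj_mem_kerOn {ρ : Representation k L W} {Q : Subgroup L} {U : Submodule k W} {x : L}
    (hx : x ∈ kerOn ρ Q U) (g : L) (hg : g ∈ Subgroup.normalizer (Q : Set L)) :
    g * x * g⁻¹ ∈ kerOn ρ Q (U.map (ρ g)) :=
  ⟨(Subgroup.mem_normalizer_iff.mp hg x).mp hx.1, hx.2.conj g⟩

theorem invariant_of_comp {ρ : Representation k L W} {Q : Subgroup L} {U : Submodule k W}
    (hU : IsIsoComp (res ρ Q) U) {x : L} (hx : x ∈ Q) {u : W} (hu : u ∈ U) : ρ x u ∈ U :=
  hU.invariant ⟨x, hx⟩ hu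

/-- the kernel of `Q` on a component is normal in `Q` -/
theorem conj_mem_kerOn_self {ρ : Representation k L W} {Q : Subgroup L} {U : Submodule k W}
    (hU : IsIsoComp (res ρ Q) U) {x : L} (hx : x ∈ kerOn ρ Q U) {g : L} (hg : g ∈ Q) :
    g * x * g⁻¹ ∈ kerOn ρ Q U := by
  refine ⟨Q.mul_mem (Q.mul_mem hg hx.1) (Q.inv_mem hg), ?_⟩
  intro u hu
  have h1 : ρ g⁻¹ u ∈ U := invariant_of_comp hU (Q.inv_mem hg) hu
  rw [map_mul, map_mul, Module.End.mul_apply, Module.End.mul_apply, hx.2 _ h1]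
  simp

theorem sum_shift {M : Type*} [AddCommGroup M] (f : ℕ → M) (n : ℕ) (h : f n = f 0) :
    ∑ i ∈ Finset.range n, f (i + 1) = ∑ i ∈ Finset.range n, f i := by
  have h1 := Finset.sum_range_succ' f n
  have h2 := Finset.sum_range_succ f n
  rw [h2, h] at h1
  exact (add_right_cancel h1).symm

/-- the diagonal argument -/
theorem diag (ρ : Representation k L W) (Q : Subgroup L) {U : Submodule k W}
    (hU : IsIsoComp (res ρ Q) U) (p : ℕ) (hp : 0 < p) (b : L)
    (hbQ : b ∈ Subgroup.normalizer (Q : Set L)) (hbp : b ^ p = 1)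
    (hmove : ∀ i, 0 < i → i < p → U.map (ρ (b ^ i)) ≠ U) (d : L) (hd : d ∈ Q)
    (hfix : ∀ w, ρ b w = w → ρ d w = w) : Triv ρ d U := by
  classical
  intro u hu
  set c : Fin p → Submodule k W := fun i => U.map (ρ (b ^ (i : ℕ))) with hc
  have hcomp : ∀ i, IsIsoComp (res ρ Q) (c i) := fun i =>
    comp_map ρ Q hU _ (Subgroup.pow_mem _ hbQ _)
  have hinj : Function.Injective c := by
    have key : ∀ i j : Fin p, (i : ℕ) < j → c i ≠ c j := by
      intro i j hij h
      have h1 : (j : ℕ) = (i : ℕ) + ((j : ℕ) - i) := by omega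
      have h2 : c j = (U.map (ρ (b ^ ((j : ℕ) - i)))).map (ρ (b ^ (i : ℕ))) := by
        show U.map (ρ (b ^ (j : ℕ))) = _
        rw [← map_mul', ← pow_add, ← h1]
      rw [h2] at h
      have h3 := map_eq_of_map_eq ρ _ h
      exact hmove _ (by omega) (by have := j.2; omega) h3.symm
    intro i j hij
    by_contra hne
    rcases lt_or_gt_of_ne (fun h => hne (Fin.ext h)) with h | h
    · exact key i j h hij
    · exact key j i h hij.symm
  set f : ℕ → W := fun i => ρ (b ^ i) u with hf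
  set w : W := ∑ i ∈ Finset.range p, f i with hw
  have hbw : ρ b w = w := by
    rw [hw, map_sum]
    have : ∀ i ∈ Finset.range p, ρ b (f i) = f (i + 1) := by
      intro i _
      show ρ b (ρ (b ^ i) u) = ρ (b ^ (i + 1)) u
      rw [← Module.End.mul_apply, ← map_mul, ← pow_succ']
    rw [Finset.sum_congr rfl this]
    apply sum_shift
    show ρ (b ^ p) u = ρ (b ^ 0) u
    rw [hbp, pow_zero]
  have hdw := hfix w hbw
  set v : Fin p → W := fun i => ρ d (f i) - f i with hv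
  have hvmem : ∀ i, v i ∈ c i := by
    intro i
    have h1 : f i ∈ c i := ⟨u, hu, rfl⟩
    exact Submodule.sub_mem _ (invariant_of_comp (hcomp i) hd h1) h1
  have hsum : ∑ i, v i = 0 := by
    rw [Fin.sum_univ_eq_sum_range (fun i => ρ d (f i) - f i) p, Finset.sum_sub_distrib,
      ← map_sum, ← hw, hdw, sub_self]
  have h0 := isIsoComp_indep c hcomp hinj v hvmem hsum ⟨0, hp⟩
  have h1 : ρ d (f 0) - f 0 = 0 := h0
  have h2 : f 0 = u := by
    show ρ (b ^ 0) u = u
    simp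
  rw [h2] at h1
  exact sub_eq_zero.mp h1


/-! ### stabilizers and the subgroups `Sig` -/

theorem map_inv_eq {ρ : Representation k L W} {U : Submodule k W} {g : L}
    (h : U.map (ρ g) = U) : U.map (ρ g⁻¹) = U := by
  have h1 := map_mul' ρ g⁻¹ g U
  rw [inv_mul_cancel, map_one', h] at h1
  exact h1.symm

/-- the stabilizer of a subspace -/
def Stab (ρ : Representation k L W) (U : Submodule k W) : Subgroup L where
  carrier := {g | U.map (ρ g) = U}
  mul_mem' := by
    intro g h hg hh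
    show U.map (ρ (g * h)) = U
    rw [map_mul', hh, hg]
  one_mem' := map_one' ρ U
  inv_mem' := fun h => map_inv_eq h

theorem mem_Stab {ρ : Representation k L W} {U : Submodule k W} {g : L} :
    g ∈ Stab ρ U ↔ U.map (ρ g) = U := Iff.rfl

theorem apply_mem_of_mem_Stab {ρ : Representation k L W} {U : Submodule k W} {g : L}
    (hg : g ∈ Stab ρ U) {u : W} (hu : u ∈ U) : ρ g u ∈ U := by
  have : ρ g u ∈ U.map (ρ g) := ⟨u, hu, rfl⟩
  rwa [mem_Stab.mp hg] at this

theorem mem_Stab_of_invariant {ρ : Representation k L W} {U : Submodule k W} {g : L}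
    (h1 : ∀ u ∈ U, ρ g u ∈ U) (h2 : ∀ u ∈ U, ρ g⁻¹ u ∈ U) : g ∈ Stab ρ U := by
  apply le_antisymm
  · rintro _ ⟨u, hu, rfl⟩
    exact h1 u hu
  · intro u hu
    exact ⟨ρ g⁻¹ u, h2 u hu, by simp⟩

theorem le_Stab_of_comp {ρ : Representation k L W} {Q : Subgroup L} {U : Submodule k W}
    (hU : IsIsoComp (res ρ Q) U) : Q ≤ Stab ρ U := fun _ hx =>
  mem_Stab_of_invariant (fun _ hu => invariant_of_comp hU hx hu)
    (fun _ hu => invariant_of_comp hU (Q.inv_mem hx) hu)

/-- elements of `N(Q)` stabilizing `U` and centralizing `Q` modulo the kernel on `U` -/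
def Sig (ρ : Representation k L W) (Q : Subgroup L) (U : Submodule k W) : Subgroup L where
  carrier := {g | g ∈ Subgroup.normalizer (Q : Set L) ∧ U.map (ρ g) = U ∧
    ∀ x ∈ Q, x * g * x⁻¹ * g⁻¹ ∈ kerOn ρ Q U}
  mul_mem' := by
    rintro g h ⟨hg1, hg2, hg3⟩ ⟨hh1, hh2, hh3⟩
    refine ⟨Subgroup.mul_mem _ hg1 hh1, ?_, ?_⟩
    · rw [map_mul', hh2, hg2]
    · intro x hx
      have h1 := conj_mem_kerOn (hh3 x hx) g hg1
      rw [hg2] at h1
      have h2 := (kerOn ρ Q U).mul_mem (hg3 x hx) h1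
      have h3 : x * g * x⁻¹ * g⁻¹ * (g * (x * h * x⁻¹ * h⁻¹) * g⁻¹) =
          x * (g * h) * x⁻¹ * (g * h)⁻¹ := by group
      rwa [h3] at h2
  one_mem' := by
    refine ⟨Subgroup.one_mem _, map_one' ρ U, ?_⟩
    intro x _
    have : x * 1 * x⁻¹ * 1⁻¹ = 1 := by group
    rw [this]
    exact Subgroup.one_mem _
  inv_mem' := by
    rintro g ⟨hg1, hg2, hg3⟩
    refine ⟨Subgroup.inv_mem _ hg1, map_inv_eq hg2, ?_⟩
    intro x hx
    have h1 := conj_mem_kerOn ((kerOn ρ Q U).inv_mem (hg3 x hx)) g⁻¹ (Subgroup.inv_mem _ hg1)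
    rw [map_inv_eq hg2] at h1
    have h3 : g⁻¹ * (x * g * x⁻¹ * g⁻¹)⁻¹ * g⁻¹⁻¹ = x * g⁻¹ * x⁻¹ * g⁻¹⁻¹ := by group
    rwa [h3] at h1

theorem mem_Sig {ρ : Representation k L W} {Q : Subgroup L} {U : Submodule k W} {g : L} :
    g ∈ Sig ρ Q U ↔ g ∈ Subgroup.normalizer (Q : Set L) ∧ U.map (ρ g) = U ∧
      ∀ x ∈ Q, x * g * x⁻¹ * g⁻¹ ∈ kerOn ρ Q U := Iff.rfl

/-- conjugation moves `Sig` -/
theorem conj_mem_Sig {ρ : Representation k L W} {Q : Subgroup L} {U : Submodule k W} {σ : L}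
    (hσ : σ ∈ Sig ρ Q U) (g : L) (hg : g ∈ Subgroup.normalizer (Q : Set L)) :
    g * σ * g⁻¹ ∈ Sig ρ Q (U.map (ρ g)) := by
  obtain ⟨h1, h2, h3⟩ := hσ
  refine ⟨Subgroup.mul_mem _ (Subgroup.mul_mem _ hg h1) (Subgroup.inv_mem _ hg), ?_, ?_⟩
  · rw [← map_mul']
    have : g * σ * g⁻¹ * g = g * σ := by group
    rw [this, map_mul', h2]
  · intro x hx
    have hx' : g⁻¹ * x * g ∈ Q := by
      have := (Subgroup.mem_normalizer_iff.mp (Subgroup.inv_mem _ hg) x).mp hx
      simpa using this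
    have h4 := conj_mem_kerOn (h3 _ hx') g hg
    have h5 : g * (g⁻¹ * x * g * σ * (g⁻¹ * x * g)⁻¹ * σ⁻¹) * g⁻¹ =
        x * (g * σ * g⁻¹) * x⁻¹ * (g * σ * g⁻¹)⁻¹ := by group
    rwa [h5] at h4

/-! ### generation by centralizers -/

section gen

variable [Finite L] {p : ℕ}

theorem gen_le (hp : p.Prime) (Q A : Subgroup L)
    (hAQ : A ≤ Subgroup.normalizer (Q : Set L))
    (hAc : ∀ a ∈ A, ∀ b ∈ A, a * b = b * a) (hAp : ∀ a ∈ A, a ^ p = 1)
    (hcard : Nat.card A = p ^ 2) (hpQ : ¬ p ∣ Nat.card Q) (T : Subgroup L)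
    (h : ∀ b ∈ A, b ≠ 1 → ∀ d ∈ Q, d * b = b * d → d ∈ T) : Q ≤ T := by
  have : Fact p.Prime := ⟨hp⟩
  have hA1 : ∃ b ∈ A, b ≠ 1 := by
    by_contra hcon
    push Not at hcon
    have : A = ⊥ := (Subgroup.eq_bot_iff_forall A).mpr hcon
    rw [this, Subgroup.card_bot] at hcard
    have := hp.one_lt
    nlinarith
  obtain ⟨b, hb, hb1⟩ := hA1
  obtain ⟨a, ha, hab⟩ := Helper87_WardBasic.exists_not_mem_zpowers A p hp hAp hcard b hb
  apply Helper48_Generation.le_of_centralizers_le (p := p) Q hpQ a b (hAQ ha) (hAQ hb)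
    (hAp a ha) (hAp b hb) (hAc a ha b hb) T
  · intro d hd
    obtain ⟨hd1, hd2⟩ := Subgroup.mem_inf.mp hd
    rw [Subgroup.mem_centralizer_singleton_iff] at hd2
    exact h b hb hb1 d hd1 hd2
  · intro i d hd
    obtain ⟨hd1, hd2⟩ := Subgroup.mem_inf.mp hd
    rw [Subgroup.mem_centralizer_singleton_iff] at hd2
    refine h (a * b ^ i) (A.mul_mem ha (A.pow_mem hb i)) ?_ d hd1 hd2
    intro h1
    apply hab
    have : a = (b ^ i)⁻¹ := eq_inv_of_mul_eq_one_left h1
    rw [this]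
    exact Subgroup.inv_mem _ (Subgroup.pow_mem _ (Subgroup.mem_zpowers b) i)

/-- Lemma B': if `c` stabilizes `U` and the centralizers in `Q` of all elements of `A` outside
`⟨c⟩` act trivially on `U`, then `c` centralizes `Q` modulo the kernel. -/
theorem lemmaB (hp : p.Prime) (ρ : Representation k L W) (Q A : Subgroup L)
    (hAQ : A ≤ Subgroup.normalizer (Q : Set L))
    (hAc : ∀ a ∈ A, ∀ b ∈ A, a * b = b * a) (hAp : ∀ a ∈ A, a ^ p = 1)
    (hcard : Nat.card A = p ^ 2) (hpQ : ¬ p ∣ Nat.card Q) {U : Submodule k W}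
    (hU : IsIsoComp (res ρ Q) U) (c : L) (hc : c ∈ A) (hcU : U.map (ρ c) = U)
    (h : ∀ b ∈ A, b ∉ Subgroup.zpowers c → ∀ d ∈ Q, d * b = b * d → d ∈ kerOn ρ Q U) :
    c ∈ Sig ρ Q U := by
  refine ⟨hAQ hc, hcU, ?_⟩
  let T : Subgroup L :=
    { carrier := {x | x ∈ Q ∧ x * c * x⁻¹ * c⁻¹ ∈ kerOn ρ Q U}
      mul_mem' := by
        rintro x y ⟨hx1, hx2⟩ ⟨hy1, hy2⟩
        refine ⟨Q.mul_mem hx1 hy1, ?_⟩
        have h1 := conj_mem_kerOn_self hU hy2 hx1
        have h2 := (kerOn ρ Q U).mul_mem h1 hx2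
        have h3 : x * (y * c * y⁻¹ * c⁻¹) * x⁻¹ * (x * c * x⁻¹ * c⁻¹) =
            x * y * c * (x * y)⁻¹ * c⁻¹ := by group
        rwa [h3] at h2
      one_mem' := by
        refine ⟨Q.one_mem, ?_⟩
        have : (1 : L) * c * 1⁻¹ * c⁻¹ = 1 := by group
        rw [this]
        exact Subgroup.one_mem _
      inv_mem' := by
        rintro x ⟨hx1, hx2⟩
        refine ⟨Q.inv_mem hx1, ?_⟩
        have h1 := conj_mem_kerOn_self hU ((kerOn ρ Q U).inv_mem hx2) (Q.inv_mem hx1)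
        have h3 : x⁻¹ * (x * c * x⁻¹ * c⁻¹)⁻¹ * x⁻¹⁻¹ = x⁻¹ * c * x⁻¹⁻¹ * c⁻¹ := by group
        rwa [h3] at h1 }
  have hQT : Q ≤ T := by
    apply gen_le hp Q A hAQ hAc hAp hcard hpQ T
    intro b hb hb1 d hd hdb
    refine ⟨hd, ?_⟩
    by_cases hbc : b ∈ Subgroup.zpowers c
    · have hcb : c ∈ Subgroup.zpowers b :=
        Helper87_WardBasic.mem_zpowers_of_mem_zpowers hp (hAp c hc) hbc hb1
      obtain ⟨n, rfl⟩ := Subgroup.mem_zpowers_iff.mp hcb
      have h1 : d * b ^ n = b ^ n * d := ((Commute.zpow_right (show Commute d b from hdb)) n).eq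
      have : d * b ^ n * d⁻¹ * (b ^ n)⁻¹ = 1 := by
        rw [h1]; group
      rw [this]
      exact Subgroup.one_mem _
    · have h1 := h b hb hbc d hd hdb
      have h2 := conj_mem_kerOn ((kerOn ρ Q U).inv_mem h1) c (hAQ hc)
      rw [hcU] at h2
      have h3 := (kerOn ρ Q U).mul_mem h1 h2
      have h4 : d * (c * d⁻¹ * c⁻¹) = d * c * d⁻¹ * c⁻¹ := by group
      rwa [h4] at h3
  intro x hx
  exact (hQT hx).2

end gen


/-! ### restriction to an invariant subspace -/

/-- restriction of `ρ` to the stabilizer of `U`, acting on `U` -/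
def rstHom (ρ : Representation k L W) (U : Submodule k W) : ↥(Stab ρ U) →* Module.End k ↥U where
  toFun g := (ρ (g : L)).restrict (fun _ hu => apply_mem_of_mem_Stab g.2 hu)
  map_one' := by
    ext u
    simp
  map_mul' g h := by
    ext u
    simp

open Classical in
/-- restriction of `ρ g` to `U` (the identity if `g` does not stabilize `U`) -/
noncomputable def rs (ρ : Representation k L W) (U : Submodule k W) (g : L) : Module.End k ↥U :=
  if h : g ∈ Stab ρ U then rstHom ρ U ⟨g, h⟩ else 1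

theorem rs_apply {ρ : Representation k L W} {U : Submodule k W} {g : L} (hg : g ∈ Stab ρ U)
    (u : ↥U) : ((rs ρ U g u : ↥U) : W) = ρ g u := by
  rw [rs, dif_pos hg]
  rfl

theorem rs_mul {ρ : Representation k L W} {U : Submodule k W} {g h : L} (hg : g ∈ Stab ρ U)
    (hh : h ∈ Stab ρ U) : rs ρ U (g * h) = rs ρ U g * rs ρ U h := by
  rw [rs, rs, rs, dif_pos hg, dif_pos hh, dif_pos (Subgroup.mul_mem _ hg hh), ← map_mul]
  rfl

theorem rs_one {ρ : Representation k L W} {U : Submodule k W} : rs ρ U 1 = 1 := by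
  rw [rs, dif_pos (Subgroup.one_mem _)]
  exact map_one (rstHom ρ U)

theorem rs_pow {ρ : Representation k L W} {U : Submodule k W} {g : L} (hg : g ∈ Stab ρ U)
    (n : ℕ) : rs ρ U (g ^ n) = rs ρ U g ^ n := by
  induction n with
  | zero => rw [pow_zero, pow_zero, rs_one]
  | succ n ih => rw [pow_succ, pow_succ, rs_mul (Subgroup.pow_mem _ hg n) hg, ih]

theorem rs_eq_one_iff {ρ : Representation k L W} {U : Submodule k W} {g : L}
    (hg : g ∈ Stab ρ U) : rs ρ U g = 1 ↔ Triv ρ g U := by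
  constructor
  · intro h u hu
    have := rs_apply hg ⟨u, hu⟩
    rw [h] at this
    exact this.symm
  · intro h
    ext u
    rw [rs_apply hg]
    exact h u u.2

theorem rs_inv_mul {ρ : Representation k L W} {U : Submodule k W} {g : L} (hg : g ∈ Stab ρ U) :
    rs ρ U g⁻¹ * rs ρ U g = 1 := by
  rw [← rs_mul (Subgroup.inv_mem _ hg) hg, inv_mul_cancel, rs_one]

theorem rs_mul_inv {ρ : Representation k L W} {U : Submodule k W} {g : L} (hg : g ∈ Stab ρ U) :
    rs ρ U g * rs ρ U g⁻¹ = 1 := by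
  rw [← rs_mul hg (Subgroup.inv_mem _ hg), mul_inv_cancel, rs_one]

theorem mem_kerOn_iff_rs {ρ : Representation k L W} {Q : Subgroup L} {U : Submodule k W}
    (hU : IsIsoComp (res ρ Q) U) {x : L} (hx : x ∈ Q) : x ∈ kerOn ρ Q U ↔ rs ρ U x = 1 := by
  rw [rs_eq_one_iff (le_Stab_of_comp hU hx), mem_kerOn]
  exact ⟨fun h => h.2, fun h => ⟨hx, h⟩⟩

/-- a natural number that is nonzero in `k` is nonzero in `End U` for `U ≠ ⊥` -/
theorem natCast_end_ne_zero {U : Submodule k W} (hU : U ≠ ⊥) {q : ℕ} (hq : (q : k) ≠ 0) :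
    (q : Module.End k ↥U) ≠ 0 := by
  intro h
  obtain ⟨u, hu, hu0⟩ := (Submodule.ne_bot_iff U).mp hU
  have h1 : (q : Module.End k ↥U) ⟨u, hu⟩ = 0 := by rw [h]; rfl
  have h2 : (q : Module.End k ↥U) ⟨u, hu⟩ = (q : k) • (⟨u, hu⟩ : ↥U) := by
    rw [Module.End.natCast_apply]
    simp [Nat.cast_smul_eq_nsmul]
  rw [h2] at h1
  have h3 := (smul_eq_zero.mp h1).resolve_left hq
  exact hu0 (by simpa using congrArg Subtype.val h3)

/-- the norm of an endomorphism of order dividing `q` without nonzero fixed points vanishes -/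
theorem norm_eq_zero {M : Type*} [AddCommGroup M] [Module k M] (G : Module.End k M) (q : ℕ)
    (hG : G ^ q = 1) (hfix : ∀ u, G u = u → u = 0) : ∑ j ∈ Finset.range q, G ^ j = 0 := by
  have h1 : G * ∑ j ∈ Finset.range q, G ^ j = ∑ j ∈ Finset.range q, G ^ j := by
    rw [Finset.mul_sum]
    have : ∀ j ∈ Finset.range q, G * G ^ j = G ^ (j + 1) := fun j _ => (pow_succ' G j).symm
    rw [Finset.sum_congr rfl this]
    apply sum_shift (fun j => G ^ j)
    show G ^ q = G ^ 0
    rw [hG, pow_zero]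
  ext u
  apply hfix
  have := congrArg (fun f : Module.End k M => f u) h1
  simpa using this

/-! ### semisimplicity -/

section semis

variable {Q' : Type*} [Group Q'] [Finite Q'] [NeZero (Nat.card Q' : k)]

theorem exists_simple_le (ρ' : Representation k Q' W) (F : Submodule k W)
    (hF : ∀ g, ∀ u ∈ F, ρ' g u ∈ F) (hF0 : F ≠ ⊥) : ∃ U₁, IsSimpleInv ρ' U₁ ∧ U₁ ≤ F := by
  have h0 : ofInv ρ' F hF ≠ ⊥ := by
    intro h
    apply hF0
    rw [← toSub_ofInv ρ' F hF, h, toSub_bot]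
  obtain ⟨S, hS, hsimple⟩ :=
    (IsSemisimpleModule.eq_bot_or_exists_simple_le (ofInv ρ' F hF)).resolve_left h0
  refine ⟨toSub ρ' S, isSimpleInv_toSub hsimple, ?_⟩
  have := toSub_le_iff.2 hS
  rwa [toSub_ofInv] at this

theorem le_of_simples_le (ρ' : Representation k Q' W) {U : Submodule k W}
    (hU : IsIsoComp ρ' U) (F : Submodule k W) (hF : ∀ g, ∀ u ∈ F, ρ' g u ∈ F)
    (h : ∀ U₂, IsSimpleInv ρ' U₂ → U₂ ≤ U → U₂ ≤ F) : U ≤ F := by
  obtain ⟨c, -, rfl⟩ := hU
  have h1 : c ≤ ofInv ρ' F hF := by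
    rw [← IsSemisimpleModule.sSup_simples_le c]
    apply sSup_le
    rintro S ⟨hS1, hS2⟩
    have hS1' : IsSimpleModule k[Q'] S := hS1
    have h2 := h (toSub ρ' S) (isSimpleInv_toSub hS1') (toSub_le_iff.2 hS2)
    rw [← toSub_ofInv ρ' F hF] at h2
    exact toSub_le_iff.1 h2
  have := toSub_le_iff.2 h1
  rwa [toSub_ofInv] at this

/-- in an isotypic component, an element acting `Q'`-equivariantly either acts trivially or without
nonzero fixed points -/
theorem triv_or_fpf (ρ' : Representation k Q' W) {U : Submodule k W} (hU : IsIsoComp ρ' U)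
    (y : Q') (hy : ∀ (g : Q'), ∀ u ∈ U, ρ' y (ρ' g u) = ρ' g (ρ' y u)) :
    (∀ u ∈ U, ρ' y u = u) ∨ ∀ u ∈ U, ρ' y u = u → u = 0 := by
  let F : Submodule k W :=
    { carrier := {u | u ∈ U ∧ ρ' y u = u}
      add_mem' := by
        rintro a b ⟨ha1, ha2⟩ ⟨hb1, hb2⟩
        exact ⟨U.add_mem ha1 hb1, by rw [map_add, ha2, hb2]⟩
      zero_mem' := ⟨U.zero_mem, map_zero _⟩
      smul_mem' := by
        rintro a u ⟨hu1, hu2⟩
        exact ⟨U.smul_mem a hu1, by rw [map_smul, hu2]⟩ }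
  have hF : ∀ g, ∀ u ∈ F, ρ' g u ∈ F := by
    rintro g u ⟨hu1, hu2⟩
    exact ⟨hU.invariant g hu1, by rw [hy g u hu1, hu2]⟩
  by_cases hF0 : F = ⊥
  · right
    intro u hu hyu
    have : u ∈ F := ⟨hu, hyu⟩
    rw [hF0] at this
    exact (Submodule.mem_bot k).mp this
  · left
    obtain ⟨U₁, hU₁, hU₁F⟩ := exists_simple_le ρ' F hF hF0
    have hFU : F ≤ U := fun u hu => hu.1
    have hUF : U ≤ F := by
      apply le_of_simples_le ρ' hU F hF
      intro U₂ hU₂ hU₂U
      obtain ⟨e, he⟩ := hU.equivIso hU₁ hU₂ (hU₁F.trans hFU) hU₂U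
      intro u₂ hu₂
      refine ⟨hU₂U hu₂, ?_⟩
      obtain ⟨u₁, hu₁⟩ := e.surjective ⟨u₂, hu₂⟩
      have h1 : ((u₁ : ↥U₁) : W) = ρ' y u₁ := ((hU₁F u₁.2).2).symm
      have h2 := he y u₁ u₁ h1
      rw [hu₁] at h2
      exact h2.symm
    intro u hu
    exact (hUF hu).2

end semis

end Cfsg.Agent.Lib.Helper87_WardLin
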