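import Mathlib
import Cfsg.Agent.Lib.Helper87_WardLin
import Cfsg.Agent.Lib.Helper21_WardW1

/-!
# Ward's theorem: the case where `A` stabilizes the isotypic component (helper87)
-/

set_option autoImplicit false

namespace Cfsg.Agent.Lib.Helper87_WardCase3
open Cfsg.Agent.Lib.Helper71_HHBTwist Cfsg.Agent.Lib.Helper87_WardLin
open scoped MonoidAlgebra

variable {L : Type*} [Group L] {k : Type*} [Field k] {W : Type*} [AddCommGroup W] [Module k W]

/-- `y ∈ Q` is central modulo the kernel of `Q` on `U` -/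
def CenK (ρ : Representation k L W) (Q : Subgroup L) (U : Submodule k W) (y : L) : Prop :=
  y ∈ Q ∧ ∀ x ∈ Q, x * y * x⁻¹ * y⁻¹ ∈ kerOn ρ Q U

variable {ρ : Representation k L W} {Q : Subgroup L} {U : Submodule k W}

theorem CenK.one : CenK ρ Q U 1 := by
  refine ⟨Q.one_mem, fun x _ => ?_⟩
  have : x * 1 * x⁻¹ * 1⁻¹ = 1 := by group
  rw [this]
  exact Subgroup.one_mem _

theorem CenK.mul (hU : IsIsoComp (res ρ Q) U) {y z : L} (hy : CenK ρ Q U y)
    (hz : CenK ρ Q U z) : CenK ρ Q U (y * z) := by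
  refine ⟨Q.mul_mem hy.1 hz.1, fun x hx => ?_⟩
  have h1 := conj_mem_kerOn_self hU (hz.2 x hx) hy.1
  have h2 := (kerOn ρ Q U).mul_mem (hy.2 x hx) h1
  have h3 : x * y * x⁻¹ * y⁻¹ * (y * (x * z * x⁻¹ * z⁻¹) * y⁻¹) =
      x * (y * z) * x⁻¹ * (y * z)⁻¹ := by group
  rwa [h3] at h2

theorem CenK.pow (hU : IsIsoComp (res ρ Q) U) {y : L} (hy : CenK ρ Q U y) (n : ℕ) :
    CenK ρ Q U (y ^ n) := by
  induction n with
  | zero => rw [pow_zero]; exact CenK.one
  | succ n ih => rw [pow_succ]; exact ih.mul hU hy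

theorem CenK.conj {y : L} (hy : CenK ρ Q U y) {a : L}
    (haQ : a ∈ Subgroup.normalizer (Q : Set L)) (haU : a ∈ Stab ρ U) :
    CenK ρ Q U (a * y * a⁻¹) := by
  refine ⟨(Subgroup.mem_normalizer_iff.mp haQ y).mp hy.1, fun x hx => ?_⟩
  have hx' : a⁻¹ * x * a ∈ Q := by
    have := (Subgroup.mem_normalizer_iff.mp (Subgroup.inv_mem _ haQ) x).mp hx
    simpa using this
  have h1 := conj_mem_kerOn (hy.2 _ hx') a haQ
  rw [mem_Stab.mp haU] at h1
  have h2 : a * (a⁻¹ * x * a * y * (a⁻¹ * x * a)⁻¹ * y⁻¹) * a⁻¹ =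
      x * (a * y * a⁻¹) * x⁻¹ * (a * y * a⁻¹)⁻¹ := by group
  rwa [h2] at h1

/-- a nontrivial `q`-group modulo a proper normal subgroup has a central element of order `q` -/
theorem exists_central [Finite L] {q : ℕ} (hq : q.Prime) (hQ : IsPGroup q Q)
    (hU : IsIsoComp (res ρ Q) U) (hK : ∃ x ∈ Q, x ∉ kerOn ρ Q U) :
    ∃ y, CenK ρ Q U y ∧ y ∉ kerOn ρ Q U ∧ y ^ q ∈ kerOn ρ Q U := by
  have : Fact q.Prime := ⟨hq⟩
  set K' : Subgroup ↥Q := (kerOn ρ Q U).subgroupOf Q with hK'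
  have hnorm : K'.Normal := by
    refine ⟨fun n hn g => ?_⟩
    rw [hK', Subgroup.mem_subgroupOf] at hn ⊢
    exact conj_mem_kerOn_self hU hn g.2
  have hQb : IsPGroup q (↥Q ⧸ K') := hQ.to_quotient K'
  have hnt : Nontrivial (↥Q ⧸ K') := by
    obtain ⟨x, hx, hxK⟩ := hK
    refine ⟨⟨(QuotientGroup.mk (⟨x, hx⟩ : ↥Q) : ↥Q ⧸ K'), 1, ?_⟩⟩
    intro h
    rw [QuotientGroup.eq_one_iff, hK', Subgroup.mem_subgroupOf] at h
    exact hxK h
  have hcn := hQb.center_nontrivial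
  obtain ⟨z, hz⟩ := exists_ne (1 : Subgroup.center (↥Q ⧸ K'))
  have hz1 : (z : ↥Q ⧸ K') ≠ 1 := fun h => hz (Subtype.ext h)
  obtain ⟨n, hn⟩ := IsPGroup.iff_orderOf.mp hQb (z : ↥Q ⧸ K')
  have hn0 : n ≠ 0 := by
    rintro rfl
    rw [pow_zero, orderOf_eq_one_iff] at hn
    exact hz1 hn
  obtain ⟨n', rfl⟩ := Nat.exists_eq_succ_of_ne_zero hn0
  set z' : ↥Q ⧸ K' := (z : ↥Q ⧸ K') ^ q ^ n' with hz'
  have hz'q : z' ^ q = 1 := by
    rw [hz', ← pow_mul, ← pow_succ, ← hn, pow_orderOf_eq_one]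
  have hz'1 : z' ≠ 1 := by
    intro h
    have h1 := orderOf_dvd_of_pow_eq_one h
    rw [hn] at h1
    have := (Nat.pow_dvd_pow_iff_le_right hq.one_lt).mp h1
    omega
  have hz'c : z' ∈ Subgroup.center (↥Q ⧸ K') := Subgroup.pow_mem _ z.2 _
  obtain ⟨y₀, hy₀⟩ := QuotientGroup.mk_surjective z'
  refine ⟨(y₀ : L), ⟨y₀.2, ?_⟩, ?_, ?_⟩
  · intro x hx
    have h1 : (QuotientGroup.mk ((⟨x, hx⟩ : ↥Q) * y₀ * (⟨x, hx⟩ : ↥Q)⁻¹ * y₀⁻¹) : ↥Q ⧸ K') = 1 := by
      rw [QuotientGroup.mk_mul, QuotientGroup.mk_mul, QuotientGroup.mk_mul, QuotientGroup.mk_inv,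
        QuotientGroup.mk_inv, hy₀, Subgroup.mem_center_iff.mp hz'c _]
      group
    rw [QuotientGroup.eq_one_iff, hK', Subgroup.mem_subgroupOf] at h1
    exact h1
  · intro h
    apply hz'1
    rw [← hy₀, QuotientGroup.eq_one_iff, hK', Subgroup.mem_subgroupOf]
    exact h
  · have h1 : (QuotientGroup.mk (y₀ ^ q) : ↥Q ⧸ K') = 1 := by
      rw [QuotientGroup.mk_pow, hy₀, hz'q]
    rw [QuotientGroup.eq_one_iff, hK', Subgroup.mem_subgroupOf] at h1
    exact h1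

/-- an element central modulo the kernel and outside the kernel has no nonzero fixed vector in `U` -/
theorem fpf_of_cenK [Finite L] [NeZero (Nat.card Q : k)] (hU : IsIsoComp (res ρ Q) U) {y : L}
    (hy : CenK ρ Q U y) (hyK : y ∉ kerOn ρ Q U) : ∀ u ∈ U, ρ y u = u → u = 0 := by
  have key : ∀ (g : ↥Q), ∀ u ∈ U, (res ρ Q) ⟨y, hy.1⟩ ((res ρ Q) g u) =
      (res ρ Q) g ((res ρ Q) ⟨y, hy.1⟩ u) := by
    intro g u hu
    show ρ y (ρ (g : L) u) = ρ (g : L) (ρ y u)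
    have h1 := hy.2 (g : L)⁻¹ (Q.inv_mem g.2)
    have h2 : y * (g : L) = (g : L) * ((g : L)⁻¹ * y * (g : L)⁻¹⁻¹ * y⁻¹) * y := by group
    rw [← Module.End.mul_apply, ← map_mul, h2, map_mul, map_mul, Module.End.mul_apply,
      Module.End.mul_apply]
    congr 1
    exact h1.2 _ (invariant_of_comp hU hy.1 hu)
  rcases triv_or_fpf (res ρ Q) hU ⟨y, hy.1⟩ key with h | h
  · exact absurd ⟨hy.1, h⟩ hyK
  · exact h

theorem rs_commute_of_cenK (hU : IsIsoComp (res ρ Q) U) {y d : L} (hy : CenK ρ Q U y)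
    (hd : d ∈ Q) : rs ρ U d * rs ρ U y = rs ρ U y * rs ρ U d := by
  have hS := le_Stab_of_comp hU
  have h1 := hy.2 d hd
  have h2 : d * y = (d * y * d⁻¹ * y⁻¹) * (y * d) := by group
  rw [← rs_mul (hS hd) (hS hy.1), h2, rs_mul (hS h1.1) (hS (Q.mul_mem hy.1 hd)),
    (mem_kerOn_iff_rs hU h1.1).mp h1, one_mul, rs_mul (hS hy.1) (hS hd)]

/-- the central elements of order `q` modulo the kernel form a cyclic group -/
theorem cyc [Finite L] [NeZero (Nat.card Q : k)] {q : ℕ} (hq : q.Prime) (hqk : (q : k) ≠ 0)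
    (hU : IsIsoComp (res ρ Q) U) {y z : L} (hy : CenK ρ Q U y) (hz : CenK ρ Q U z)
    (hyK : y ∉ kerOn ρ Q U) (hyq : y ^ q ∈ kerOn ρ Q U) (hzq : z ^ q ∈ kerOn ρ Q U) :
    ∃ m : ℕ, rs ρ U z = rs ρ U y ^ m := by
  by_contra hcon
  push Not at hcon
  have hS := le_Stab_of_comp hU
  set Y := rs ρ U y with hY
  set Z := rs ρ U z with hZ
  have hYq : Y ^ q = 1 := by
    rw [hY, ← rs_pow (hS hy.1), ← mem_kerOn_iff_rs hU (Q.pow_mem hy.1 q)]
    exact hyq
  have hZq : Z ^ q = 1 := by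
    rw [hZ, ← rs_pow (hS hz.1), ← mem_kerOn_iff_rs hU (Q.pow_mem hz.1 q)]
    exact hzq
  have hcomm : Commute Y Z := (rs_commute_of_cenK hU hz hy.1)
  have fpf_rs : ∀ g : L, CenK ρ Q U g → g ∉ kerOn ρ Q U → ∀ u : ↥U, rs ρ U g u = u → u = 0 := by
    intro g hg hgK u hu
    have h1 := fpf_of_cenK hU hg hgK (u : W) u.2
    have h2 : ρ g (u : W) = u := by
      rw [← rs_apply (hS hg.1), hu]
    exact Subtype.ext (h1 h2)
  have hNY : ∑ i ∈ Finset.range q, Y ^ i = 0 := norm_eq_zero Y q hYq (fpf_rs y hy hyK)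
  have hN : ∀ i < q, ∑ j ∈ Finset.range q, (Y ^ i * Z) ^ j = 0 := by
    intro i _
    have hg : CenK ρ Q U (y ^ i * z) := (hy.pow hU i).mul hU hz
    have hrs : rs ρ U (y ^ i * z) = Y ^ i * Z := by
      rw [rs_mul (hS (Q.pow_mem hy.1 i)) (hS hz.1), rs_pow (hS hy.1)]
    have hgK : y ^ i * z ∉ kerOn ρ Q U := by
      intro h
      rw [mem_kerOn_iff_rs hU hg.1, hrs] at h
      apply hcon ((q - 1) * i)
      have h1 : Y ^ ((q - 1) * i) * (Y ^ i * Z) = Z := by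
        rw [← mul_assoc, ← pow_add]
        have : (q - 1) * i + i = q * i := by
          have := hq.one_lt
          calc (q - 1) * i + i = ((q - 1) + 1) * i := by ring
            _ = q * i := by rw [Nat.sub_add_cancel hq.one_lt.le]
        rw [this, pow_mul, hYq, one_pow, one_mul]
      rw [← h1, h, mul_one]
    apply norm_eq_zero (Y ^ i * Z) q
    · rw [(hcomm.pow_left i).mul_pow, ← pow_mul, mul_comm i q, pow_mul, hYq, one_pow, hZq,
        one_mul]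
    · rw [← hrs]
      exact fpf_rs _ hg hgK
  have := Cfsg.Agent.Lib.Helper21_WardW1.ring_cyc hq Y Z hcomm hYq hZq hNY hN
  exact natCast_end_ne_zero hU.ne_bot hqk this


theorem pow_eq_pow_of_modEq {M : Type*} [Monoid M] {Y : M} {q : ℕ} (hYq : Y ^ q = 1) {i j : ℕ}
    (h : i ≡ j [MOD q]) : Y ^ i = Y ^ j := by
  have key : ∀ n : ℕ, Y ^ n = Y ^ (n % q) := by
    intro n
    conv_lhs => rw [← Nat.div_add_mod n q, pow_add, pow_mul, hYq, one_pow, one_mul]
  rw [key i, key j, h]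

theorem modEq_of_pow_eq_pow {M : Type*} [Monoid M] {Y : M} {q : ℕ} (hq : q.Prime)
    (hYq : Y ^ q = 1) (hY1 : Y ≠ 1) {i j : ℕ} (h : Y ^ i = Y ^ j) : i ≡ j [MOD q] := by
  set u : Mˣ := Units.ofPowEqOne Y q hYq hq.ne_zero with hu
  have hu1 : (u : M) = Y := rfl
  have h1 : u ^ i = u ^ j := Units.ext (by rw [Units.val_pow_eq_pow_val, Units.val_pow_eq_pow_val, hu1, h])
  have h2 : u ^ q = 1 := Units.ext (by rw [Units.val_pow_eq_pow_val, hu1, hYq]; rfl)
  have h3 : u ≠ 1 := fun h => hY1 (by rw [← hu1, h]; rfl)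
  have : Fact q.Prime := ⟨hq⟩
  have h4 : orderOf u = q := orderOf_eq_prime h2 h3
  rw [pow_eq_pow_iff_modEq, h4] at h1
  exact h1

/-- an element of `N(Q)` stabilizing `U` acts on the cyclic group generated by `y` -/
theorem exists_semiconj [Finite L] [NeZero (Nat.card Q : k)] {q : ℕ} (hq : q.Prime)
    (hqk : (q : k) ≠ 0) (hU : IsIsoComp (res ρ Q) U) {y : L} (hy : CenK ρ Q U y)
    (hyK : y ∉ kerOn ρ Q U) (hyq : y ^ q ∈ kerOn ρ Q U) {a : L}
    (haQ : a ∈ Subgroup.normalizer (Q : Set L)) (haU : a ∈ Stab ρ U) :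
    ∃ m : ℕ, rs ρ U a * rs ρ U y = rs ρ U y ^ m * rs ρ U a := by
  have hS := le_Stab_of_comp hU
  have hz : CenK ρ Q U (a * y * a⁻¹) := hy.conj haQ haU
  have hzq : (a * y * a⁻¹) ^ q ∈ kerOn ρ Q U := by
    have h1 := conj_mem_kerOn hyq a haQ
    rw [mem_Stab.mp haU] at h1
    have h2 : a * y ^ q * a⁻¹ = (a * y * a⁻¹) ^ q := by rw [conj_pow]
    rwa [h2] at h1
  obtain ⟨m, hm⟩ := cyc hq hqk hU hy hz hyK hyq hzq
  refine ⟨m, ?_⟩
  rw [← hm, rs_mul (Subgroup.mul_mem _ haU (hS hy.1)) (Subgroup.inv_mem _ haU),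
    rs_mul haU (hS hy.1), mul_assoc, mul_assoc, rs_inv_mul haU, mul_one]

/-- the Frobenius-type computation: if `b` acts on `⟨y⟩` through a nontrivial power map then the
centralizer of `b` in `Q` acts trivially on `U` -/
theorem kill [Finite L] [NeZero (Nat.card Q : k)] {p q : ℕ} (hp : p.Prime) (hq : q.Prime)
    (hqk : (q : k) ≠ 0) (hU : IsIsoComp (res ρ Q) U) {y : L} (hy : CenK ρ Q U y)
    (hyK : y ∉ kerOn ρ Q U) (hyq : y ^ q ∈ kerOn ρ Q U) {b : L} (hbU : b ∈ Stab ρ U)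
    (hbp : b ^ p = 1) (m : ℕ) (hm : rs ρ U b * rs ρ U y = rs ρ U y ^ m * rs ρ U b)
    (hmj : ∀ j, 0 < j → j < p → ¬ (m ^ j ≡ 1 [MOD q])) {d : L} (hd : d ∈ Q)
    (hfix : ∀ w, ρ b w = w → ρ d w = w) : d ∈ kerOn ρ Q U := by
  have hS := le_Stab_of_comp hU
  set Y := rs ρ U y with hY
  set B := rs ρ U b with hB
  set D := rs ρ U d with hD
  have hYq : Y ^ q = 1 := by
    rw [hY, ← rs_pow (hS hy.1), ← mem_kerOn_iff_rs hU (Q.pow_mem hy.1 q)]
    exact hyq
  have hNY : ∑ i ∈ Finset.range q, Y ^ i = 0 := by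
    apply norm_eq_zero Y q hYq
    intro u hu
    have h1 := fpf_of_cenK hU hy hyK (u : W) u.2
    have h2 : ρ y (u : W) = u := by
      rw [← rs_apply (hS hy.1), hu]
    exact Subtype.ext (h1 h2)
  have hfrob := Cfsg.Agent.Lib.Helper21_WardW1.ring_frob (p := p) hp.pos hq Y B m hYq hNY hm hmj
  set T := ∑ j ∈ Finset.range p, B ^ j with hT
  have hBp : B ^ p = 1 := by
    rw [hB, ← rs_pow hbU, hbp, rs_one]
  have hBT : B * T = T := by
    rw [hT, Finset.mul_sum]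
    have : ∀ j ∈ Finset.range p, B * B ^ j = B ^ (j + 1) := fun j _ => (pow_succ' B j).symm
    rw [Finset.sum_congr rfl this]
    apply sum_shift (fun j => B ^ j)
    show B ^ p = B ^ 0
    rw [hBp, pow_zero]
  have hDT : D * T = T := by
    ext u
    show ((D (T u) : ↥U) : W) = (T u : ↥U)
    rw [hD, rs_apply (hS hd)]
    apply hfix
    rw [← rs_apply hbU]
    have := congrArg (fun f : Module.End k ↥U => f u) hBT
    exact congrArg Subtype.val this
  have hDY : Commute D Y := rs_commute_of_cenK hU hy hd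
  have h1 : D * (q : Module.End k ↥U) = (q : Module.End k ↥U) := by
    rw [← hfrob, Finset.mul_sum]
    apply Finset.sum_congr rfl
    intro i _
    rw [← mul_assoc, ← mul_assoc, (hDY.pow_right _).eq, mul_assoc (Y ^ _) D T, hDT]
  have h2 : (q : Module.End k ↥U) = (q : k) • (1 : Module.End k ↥U) := by
    rw [Nat.cast_smul_eq_nsmul, nsmul_eq_mul, mul_one]
  rw [h2, mul_smul_comm, mul_one] at h1
  have h3 : D = 1 := smul_right_injective _ hqk h1
  exact (mem_kerOn_iff_rs hU hd).mpr h3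


/-- Case 3: if `A` stabilizes the component `U` on which `Q` acts nontrivially, then some
nontrivial element of `A` centralizes `Q` modulo the kernel. -/
theorem case3 [Finite L] [NeZero (Nat.card Q : k)] {p q : ℕ} (hp : p.Prime) (hq : q.Prime)
    (hpq : p ≠ q) (hqk : (q : k) ≠ 0) (hQ : IsPGroup q Q) (A : Subgroup L)
    (hAQ : A ≤ Subgroup.normalizer (Q : Set L))
    (hAc : ∀ a ∈ A, ∀ b ∈ A, a * b = b * a) (hAp : ∀ a ∈ A, a ^ p = 1)
    (hcard : Nat.card A = p ^ 2)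
    (hCQA : ∀ x ∈ Q, (∀ a ∈ A, a * x = x * a) → x = 1)
    (hii : ∀ b ∈ A, b ≠ 1 → ∀ d ∈ Q, d * b = b * d → ∀ w, ρ b w = w → ρ d w = w)
    (hU : IsIsoComp (res ρ Q) U) (hAU : A ≤ Stab ρ U) (hK : ∃ x ∈ Q, x ∉ kerOn ρ Q U) :
    ∃ c ∈ A, c ≠ 1 ∧ c ∈ Sig ρ Q U := by
  have : Fact q.Prime := ⟨hq⟩
  have hpf : Fact p.Prime := ⟨hp⟩
  have hS := le_Stab_of_comp hU
  obtain ⟨n, hn⟩ := IsPGroup.iff_card.mp hQ
  have hpQ : ¬ p ∣ Nat.card Q := by
    rw [hn]
    intro h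
    exact hpq ((Nat.prime_dvd_prime_iff_eq hp hq).mp (hp.dvd_of_dvd_pow h))
  obtain ⟨y, hy, hyK, hyq⟩ := exists_central hq hQ hU hK
  set Y := rs ρ U y with hY
  have hYq : Y ^ q = 1 := by
    rw [hY, ← rs_pow (hS hy.1), ← mem_kerOn_iff_rs hU (Q.pow_mem hy.1 q)]
    exact hyq
  have hY1 : Y ≠ 1 := fun h => hyK ((mem_kerOn_iff_rs hU hy.1).mpr h)
  have hord : orderOf Y = q := orderOf_eq_prime hYq hY1
  have hex : ∀ a : ↥A, ∃ m : ℕ, rs ρ U (a : L) * Y = Y ^ m * rs ρ U (a : L) := fun a =>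
    exists_semiconj hq hqk hU hy hyK hyq (hAQ a.2) (hAU a.2)
  choose m hm using hex
  have hpow_eq : ∀ i j : ℕ, Y ^ i = Y ^ j → ((i : ℕ) : ZMod q) = (j : ZMod q) := by
    intro i j h
    exact (ZMod.natCast_eq_natCast_iff _ _ _).mpr (modEq_of_pow_eq_pow hq hYq hY1 h)
  have hmul : ∀ a b : ↥A, ((m (a * b) : ℕ) : ZMod q) = (m a : ZMod q) * (m b : ZMod q) := by
    intro a b
    have h1 : rs ρ U ((a * b : ↥A) : L) = rs ρ U (a : L) * rs ρ U (b : L) := by
      rw [Subgroup.coe_mul, rs_mul (hAU a.2) (hAU b.2)]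
    have h2 : rs ρ U ((a * b : ↥A) : L) * Y = Y ^ (m a * m b) * rs ρ U ((a * b : ↥A) : L) := by
      rw [h1, mul_assoc, hm b, ← mul_assoc,
        ((show SemiconjBy (rs ρ U (a : L)) Y (Y ^ m a) from hm a).pow_right (m b)).eq,
        ← pow_mul, mul_assoc]
    have h3 := (hm (a * b)).symm.trans h2
    have h4 : Y ^ m (a * b) = Y ^ (m a * m b) := by
      have h5 := congrArg (fun f => f * rs ρ U ((a * b : ↥A) : L)⁻¹) h3
      simp only [mul_assoc, rs_mul_inv (hAU (a * b).2), mul_one] at h5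
      exact h5
    have := hpow_eq _ _ h4
    rw [this]
    push_cast
    rfl
  have hone : ((m 1 : ℕ) : ZMod q) = 1 := by
    have h1 := hm 1
    rw [Subgroup.coe_one, rs_one, one_mul, mul_one] at h1
    have h2 : Y ^ m 1 = Y ^ 1 := by rw [pow_one]; exact h1.symm
    have := hpow_eq _ _ h2
    rw [this]
    simp
  let μ : ↥A →* ZMod q :=
    { toFun := fun a => (m a : ZMod q)
      map_one' := hone
      map_mul' := hmul }
  have hμ : ∀ a, μ a = (m a : ZMod q) := fun _ => rfl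
  have hninj : ¬ Function.Injective μ.toHomUnits := by
    intro hinj
    have hcyc : IsCyclic ↥A := isCyclic_of_injective μ.toHomUnits hinj
    obtain ⟨g, hg⟩ := hcyc.exists_generator
    have h1 : orderOf g = Nat.card ↥A := orderOf_eq_card_of_forall_mem_zpowers hg
    have h2 : g ^ p = 1 := Subtype.ext (by simpa using hAp g g.2)
    have h3 := orderOf_dvd_of_pow_eq_one h2
    rw [h1, hcard] at h3
    have h4 := Nat.le_of_dvd hp.pos h3
    have := hp.one_lt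
    nlinarith
  obtain ⟨c, hcμ, hc1⟩ : ∃ c : ↥A, μ.toHomUnits c = 1 ∧ c ≠ 1 := by
    rw [injective_iff_map_eq_one] at hninj
    push Not at hninj
    exact hninj
  have hcm : (m c : ZMod q) = 1 := by
    have := congrArg Units.val hcμ
    rw [MonoidHom.coe_toHomUnits, Units.val_one] at this
    exact this
  have hcL : (c : L) ≠ 1 := fun h => hc1 (Subtype.ext h)
  -- some element of `A` acts nontrivially on `⟨y⟩`
  have hex1 : ∃ a₀ : ↥A, (m a₀ : ZMod q) ≠ 1 := by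
    by_contra hcon
    push Not at hcon
    have hcomm : ∀ a ∈ A, a * y * a⁻¹ * y⁻¹ ∈ kerOn ρ Q U := by
      intro a ha
      have hmem : a * y * a⁻¹ * y⁻¹ ∈ Q :=
        Q.mul_mem ((Subgroup.mem_normalizer_iff.mp (hAQ ha) y).mp hy.1) (Q.inv_mem hy.1)
      rw [mem_kerOn_iff_rs hU hmem]
      have h1 := hm ⟨a, ha⟩
      have h2 : Y ^ m ⟨a, ha⟩ = Y := by
        have h3 := hcon ⟨a, ha⟩
        have h4 : Y ^ m ⟨a, ha⟩ = Y ^ 1 := by
          apply pow_eq_pow_of_modEq hYq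
          apply (ZMod.natCast_eq_natCast_iff _ _ _).mp
          rw [h3]
          simp
        rwa [pow_one] at h4
      rw [h2] at h1
      have h5 : a * y * a⁻¹ * y⁻¹ = a * y * (a⁻¹ * y⁻¹) := by group
      rw [h5, rs_mul (Subgroup.mul_mem _ (hAU ha) (hS hy.1))
        (Subgroup.mul_mem _ (Subgroup.inv_mem _ (hAU ha)) (Subgroup.inv_mem _ (hS hy.1))),
        rs_mul (hAU ha) (hS hy.1),
        rs_mul (Subgroup.inv_mem _ (hAU ha)) (Subgroup.inv_mem _ (hS hy.1))]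
      show rs ρ U a * Y * (rs ρ U a⁻¹ * rs ρ U y⁻¹) = 1
      rw [h1, mul_assoc, ← mul_assoc (rs ρ U a), rs_mul_inv (hAU ha), one_mul]
      exact rs_mul_inv (hS hy.1)
    have hAK : A ≤ Subgroup.normalizer ((kerOn ρ Q U : Subgroup L) : Set L) := by
      intro a ha
      rw [Subgroup.mem_normalizer_iff]
      intro x
      constructor
      · intro hx
        have := conj_mem_kerOn hx a (hAQ ha)
        rwa [mem_Stab.mp (hAU ha)] at this
      · intro hx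
        have := conj_mem_kerOn hx a⁻¹ (Subgroup.inv_mem _ (hAQ ha))
        rw [map_inv_eq (mem_Stab.mp (hAU ha))] at this
        have h2 : a⁻¹ * (a * x * a⁻¹) * a⁻¹⁻¹ = x := by group
        rwa [h2] at this
    have hcop : (Nat.card A).Coprime (Nat.card (kerOn ρ Q U)) := by
      have h1 : Nat.card (kerOn ρ Q U) ∣ q ^ n := hn ▸ Subgroup.card_dvd_of_le (kerOn_le ρ Q U)
      rw [hcard]
      exact Nat.Coprime.coprime_dvd_right h1
        (Nat.Coprime.pow _ _ ((Nat.coprime_primes hp hq).mpr hpq))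
    have hsolv : Group.IsSolvable ↥A :=
      Group.isSolvable_of_comm (fun a b => Subtype.ext (hAc a a.2 b b.2))
    have hfix : ∀ a ∈ A, y⁻¹ * (a * y * a⁻¹) ∈ kerOn ρ Q U := by
      intro a ha
      have := conj_mem_kerOn_self hU (hcomm a ha) (Q.inv_mem hy.1)
      have h2 : y⁻¹ * (a * y * a⁻¹ * y⁻¹) * y⁻¹⁻¹ = y⁻¹ * (a * y * a⁻¹) := by group
      rwa [h2] at this
    obtain ⟨d, hdK, hd⟩ := Helper24_CoprimeAction.exists_fixed_in_coset A (kerOn ρ Q U) hAK hcop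
      (Or.inl hsolv) y hfix
    have h1 : y * d = 1 := hCQA (y * d) (Q.mul_mem hy.1 hdK.1) hd
    apply hyK
    have : y = d⁻¹ := eq_inv_of_mul_eq_one_left h1
    rw [this]
    exact Subgroup.inv_mem _ hdK
  refine ⟨c, c.2, hcL, lemmaB hp ρ Q A hAQ hAc hAp hcard hpQ hU c c.2 (hAU c.2) ?_⟩
  intro b hb hbc d hd hdb
  have hb1 : b ≠ 1 := by
    rintro rfl
    exact hbc (Subgroup.one_mem _)
  have hmb : (m ⟨b, hb⟩ : ZMod q) ≠ 1 := by
    intro h
    obtain ⟨a₀, ha₀⟩ := hex1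
    apply ha₀
    obtain ⟨i, j, -, -, hij⟩ := Helper87_WardBasic.exists_pow_mul_pow A p hp hAc hAp hcard hb c.2
      hcL hbc a₀ a₀.2
    have h1 : a₀ = (⟨b, hb⟩ : ↥A) ^ i * c ^ j := Subtype.ext (by simpa using hij)
    rw [← hμ, h1, map_mul, map_pow, map_pow, hμ, hμ, h, hcm]
    simp
  have hbp' : (m ⟨b, hb⟩ : ZMod q) ^ p = 1 := by
    rw [← hμ, ← map_pow]
    have : (⟨b, hb⟩ : ↥A) ^ p = 1 := Subtype.ext (by simpa using hAp b hb)
    rw [this, map_one]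
  have hordm : orderOf (m ⟨b, hb⟩ : ZMod q) = p := orderOf_eq_prime hbp' hmb
  refine kill hp hq hqk hU hy hyK hyq (hAU hb) (hAp b hb) (m ⟨b, hb⟩) (hm ⟨b, hb⟩) ?_ hd
    (hii b hb hb1 d hd hdb)
  intro j hj0 hjp hmod
  have h1 : (m ⟨b, hb⟩ : ZMod q) ^ j = 1 := by
    have := (ZMod.natCast_eq_natCast_iff _ _ _).mpr hmod
    simpa using this
  have h2 := orderOf_dvd_of_pow_eq_one h1
  rw [hordm] at h2
  have := Nat.le_of_dvd hj0 h2
  omega

end Cfsg.Agent.Lib.Helper87_WardCase3
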