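import Mathlib
import Cfsg.Agent.Lib.Helper87_WardCase3
import Cfsg.Agent.Lib.Helper10_WardW7

/-!
# Ward's theorem: the linear final theorem (helper87)

`[Q,S]` acts trivially on `W`.
-/

set_option autoImplicit false

namespace Cfsg.Agent.Lib.Helper87_WardLFT
open Cfsg.Agent.Lib.Helper71_HHBTwist Cfsg.Agent.Lib.Helper87_WardLin
  Cfsg.Agent.Lib.Helper87_WardCase3
open scoped MonoidAlgebra

variable {L : Type*} [Group L] {k : Type*} [Field k] {W : Type*} [AddCommGroup W] [Module k W]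
variable {ρ : Representation k L W} {Q : Subgroup L} {U : Submodule k W}

theorem pow_ne_one_of_lt {p : ℕ} (hp : p.Prime) {b : L} (hb1 : b ≠ 1) (hbp : b ^ p = 1) {i : ℕ}
    (hi0 : 0 < i) (hip : i < p) : b ^ i ≠ 1 := by
  have : Fact p.Prime := ⟨hp⟩
  intro h
  have h1 : orderOf b = p := orderOf_eq_prime hbp hb1
  have h2 := orderOf_dvd_of_pow_eq_one h
  rw [h1] at h2
  have := Nat.le_of_dvd hi0 h2
  omega

/-- on every component on which `Q` acts nontrivially, some nontrivial element of `A` centralizes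
`Q` modulo the kernel -/
theorem exists_c [Finite L] [NeZero (Nat.card Q : k)] {p q : ℕ} (hp : p.Prime) (hq : q.Prime)
    (hpq : p ≠ q) (hqk : (q : k) ≠ 0) (hQ : IsPGroup q Q) (A : Subgroup L)
    (hAQ : A ≤ Subgroup.normalizer (Q : Set L))
    (hAc : ∀ a ∈ A, ∀ b ∈ A, a * b = b * a) (hAp : ∀ a ∈ A, a ^ p = 1)
    (hcard : Nat.card A = p ^ 2)
    (hCQA : ∀ x ∈ Q, (∀ a ∈ A, a * x = x * a) → x = 1)
    (hii : ∀ b ∈ A, b ≠ 1 → ∀ d ∈ Q, d * b = b * d → ∀ w, ρ b w = w → ρ d w = w)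
    (hU : IsIsoComp (res ρ Q) U) (hK : ∃ x ∈ Q, x ∉ kerOn ρ Q U) :
    ∃ c ∈ A, c ≠ 1 ∧ c ∈ Sig ρ Q U := by
  have : Fact q.Prime := ⟨hq⟩
  obtain ⟨n, hn⟩ := IsPGroup.iff_card.mp hQ
  have hpQ : ¬ p ∣ Nat.card Q := by
    rw [hn]
    intro h
    exact hpq ((Nat.prime_dvd_prime_iff_eq hp hq).mp (hp.dvd_of_dvd_pow h))
  by_cases hall : A ≤ Stab ρ U
  · exact case3 hp hq hpq hqk hQ A hAQ hAc hAp hcard hCQA hii hU hall hK
  obtain ⟨a₀, ha₀, ha₀S⟩ := SetLike.not_le_iff_exists.mp hall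
  by_cases hex : ∃ c ∈ A, c ≠ 1 ∧ c ∈ Stab ρ U
  · obtain ⟨c, hc, hc1, hcS⟩ := hex
    refine ⟨c, hc, hc1, lemmaB hp ρ Q A hAQ hAc hAp hcard hpQ hU c hc (mem_Stab.mp hcS) ?_⟩
    intro b hb hbc d hd hdb
    have hb1 : b ≠ 1 := by
      rintro rfl
      exact hbc (Subgroup.one_mem _)
    refine ⟨hd, diag ρ Q hU p hp.pos b (hAQ hb) (hAp b hb) ?_ d hd (hii b hb hb1 d hd hdb)⟩
    intro i hi0 hip h
    have hbi : b ^ i ∈ Stab ρ U := h
    have hbi1 : b ^ i ≠ 1 := pow_ne_one_of_lt hp hb1 (hAp b hb) hi0 hip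
    have hbz : b ∈ Subgroup.zpowers (b ^ i) :=
      Helper87_WardBasic.mem_zpowers_of_mem_zpowers hp (hAp b hb)
        (Subgroup.pow_mem _ (Subgroup.mem_zpowers b) i) hbi1
    have hbS : b ∈ Stab ρ U := (Subgroup.zpowers_le.mpr hbi) hbz
    obtain ⟨i', j', -, -, hij⟩ := Helper87_WardBasic.exists_pow_mul_pow A p hp hAc hAp hcard hb hc
      hc1 hbc a₀ ha₀
    apply ha₀S
    rw [hij]
    exact Subgroup.mul_mem _ (Subgroup.pow_mem _ hbS _) (Subgroup.pow_mem _ hcS _)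
  · exfalso
    push Not at hex
    obtain ⟨x, hx, hxK⟩ := hK
    apply hxK
    have hQK : Q ≤ kerOn ρ Q U := by
      apply gen_le hp Q A hAQ hAc hAp hcard hpQ
      intro b hb hb1 d hd hdb
      refine ⟨hd, diag ρ Q hU p hp.pos b (hAQ hb) (hAp b hb) ?_ d hd (hii b hb hb1 d hd hdb)⟩
      intro i hi0 hip h
      exact hex (b ^ i) (A.pow_mem hb i) (pow_ne_one_of_lt hp hb1 (hAp b hb) hi0 hip) h
    exact hQK hx

/-- if `Q = [Q, b₀]` then `b₀` does not centralize `Q` modulo a proper kernel -/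
theorem not_mem_Sig (hK : ∃ x ∈ Q, x ∉ kerOn ρ Q U) {b₀ : L}
    (hQb₀ : Q ≤ Subgroup.closure {z | ∃ x ∈ Q, z = x * b₀ * x⁻¹ * b₀⁻¹}) :
    b₀ ∉ Sig ρ Q U := by
  intro h
  obtain ⟨x, hx, hxK⟩ := hK
  apply hxK
  have h1 : Subgroup.closure {z | ∃ x ∈ Q, z = x * b₀ * x⁻¹ * b₀⁻¹} ≤ kerOn ρ Q U := by
    rw [Subgroup.closure_le]
    rintro z ⟨x, hx, rfl⟩
    exact h.2.2 x hx
  exact h1 (hQb₀ hx)

/-- **The linear final theorem.** -/
theorem lft [Finite L] {p q : ℕ} (hp : p.Prime) (hq : q.Prime) (hpq : p ≠ q) (hqk : (q : k) ≠ 0)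
    (ρ : Representation k L W) (Q S A : Subgroup L) (hQ : IsPGroup q Q)
    (hSQ : S ≤ Subgroup.normalizer (Q : Set L)) (hAQ : A ≤ Subgroup.normalizer (Q : Set L))
    (hAS : A ≤ Subgroup.normalizer (S : Set L))
    (hAc : ∀ a ∈ A, ∀ b ∈ A, a * b = b * a) (hAp : ∀ a ∈ A, a ^ p = 1)
    (hcard : Nat.card A = p ^ 2) (hpS : ¬ p ∣ Nat.card S)
    (b₀ : L) (hb₀ : b₀ ∈ A) (hb₀1 : b₀ ≠ 1) (hb₀S : ∀ g ∈ S, g * b₀ = b₀ * g)
    (hCS : ∀ b ∈ A, b ∉ Subgroup.zpowers b₀ → ∀ g ∈ S, g * b = b * g → g = 1)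
    (hQb₀ : Q ≤ Subgroup.closure {z | ∃ x ∈ Q, z = x * b₀ * x⁻¹ * b₀⁻¹})
    (hCQA : ∀ x ∈ Q, (∀ a ∈ A, a * x = x * a) → x = 1)
    (hii : ∀ b ∈ A, b ≠ 1 → ∀ d ∈ Q, d * b = b * d → ∀ w, ρ b w = w → ρ d w = w) :
    ∀ x ∈ Q, ∀ g ∈ S, ∀ w, ρ (x * g * x⁻¹ * g⁻¹) w = w := by
  have : Fact q.Prime := ⟨hq⟩
  obtain ⟨n, hn⟩ := IsPGroup.iff_card.mp hQ
  have hne : NeZero (Nat.card Q : k) := by
    refine ⟨?_⟩
    rw [hn]
    push_cast
    exact pow_ne_zero n hqk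
  let C : Submodule k W → Prop := fun U =>
    IsIsoComp (res ρ Q) U ∧ ∃ x ∈ Q, x ∉ kerOn ρ Q U
  have key : ∀ g ∈ S, ∀ U, C U → g ∈ Sig ρ Q U := by
    apply Cfsg.Agent.Lib.Helper10_WardW7.stepD S A p hp hAS hAc hAp hcard hpS b₀ hb₀ hb₀1 hb₀S hCS
      (fun g U => U.map (ρ g)) (fun U => Sig ρ Q U) C
    · rintro g hg U ⟨hU, x, hx, hxK⟩
      refine ⟨comp_map ρ Q hU g (hSQ hg), g * x * g⁻¹,
        (Subgroup.mem_normalizer_iff.mp (hSQ hg) x).mp hx, ?_⟩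
      intro h
      apply hxK
      have h1 := conj_mem_kerOn h g⁻¹ (Subgroup.inv_mem _ (hSQ hg))
      rw [← map_mul', inv_mul_cancel, map_one'] at h1
      have h2 : g⁻¹ * (g * x * g⁻¹) * g⁻¹⁻¹ = x := by group
      rwa [h2] at h1
    · rintro g hg U - σ hσ
      exact conj_mem_Sig hσ g (hSQ hg)
    · rintro U ⟨-, hK⟩
      exact not_mem_Sig hK hQb₀
    · rintro U ⟨hU, hK⟩
      exact exists_c hp hq hpq hqk hQ A hAQ hAc hAp hcard hCQA hii hU hK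
    · rintro U - g hg
      exact hg.2.1
    · intro g _ U U' h
      exact map_eq_of_map_eq ρ g h
  intro x hx g hg w
  have hzQ : x * g * x⁻¹ * g⁻¹ ∈ Q := by
    have h1 : g * x⁻¹ * g⁻¹ ∈ Q := (Subgroup.mem_normalizer_iff.mp (hSQ hg) x⁻¹).mp (Q.inv_mem hx)
    have h2 : x * g * x⁻¹ * g⁻¹ = x * (g * x⁻¹ * g⁻¹) := by group
    rw [h2]
    exact Q.mul_mem hx h1
  -- every component is fixed by the commutator
  have hcomp : ∀ U, IsIsoComp (res ρ Q) U → ∀ u ∈ U, ρ (x * g * x⁻¹ * g⁻¹) u = u := by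
    intro U hU
    by_cases hK : ∃ x ∈ Q, x ∉ kerOn ρ Q U
    · exact ((key g hg U ⟨hU, hK⟩).2.2 x hx).2
    · push Not at hK
      exact (hK _ hzQ).2
  set ρ' := res ρ Q with hρ'
  have htop : (ρ'.asModuleEquiv.symm w) ∈ sSup (isotypicComponents k[↥Q] ρ'.asModule) := by
    rw [sSup_isotypicComponents]
    exact Submodule.mem_top
  rw [sSup_eq_iSup'] at htop
  have hmain : ρ (x * g * x⁻¹ * g⁻¹) (ρ'.asModuleEquiv (ρ'.asModuleEquiv.symm w)) =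
      ρ'.asModuleEquiv (ρ'.asModuleEquiv.symm w) := by
    refine Submodule.iSup_induction (fun c : isotypicComponents k[↥Q] ρ'.asModule =>
      (c : Submodule k[↥Q] ρ'.asModule))
      (motive := fun v => ρ (x * g * x⁻¹ * g⁻¹) (ρ'.asModuleEquiv v) = ρ'.asModuleEquiv v)
      htop ?_ ?_ ?_
    · rintro ⟨c, hc⟩ v hv
      have hU : IsIsoComp ρ' (toSub ρ' c) := ⟨c, hc, rfl⟩
      apply hcomp _ hU
      rw [mem_toSub]
      simpa using hv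
    · simp
    · intro v v' hv hv'
      rw [map_add, map_add, hv, hv']
  simpa using hmain

end Cfsg.Agent.Lib.Helper87_WardLFT
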