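import Mathlib
import Cfsg.Agent.Lib.Helper87_WardLFT
import Cfsg.Agent.Lib.Helper52_FrobAct

set_option autoImplicit false
set_option linter.style.haveILetI false
universe u

namespace Cfsg.Agent.Lib.Helper33_WardW13

open Cfsg.Agent.Lib.Helper52_FrobAct

/-- abstract form: an action `a` of `Γ` on an elementary abelian `r`-group `M`. -/
theorem core {Γ : Type*} [Group Γ] [Finite Γ] {M : Type*} [CommGroup M] (r : ℕ) [Fact r.Prime]
    [Module (ZMod r) (Additive M)] (a : Γ →* MulAut M)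
    {p q : ℕ} (hp : p.Prime) (hq : q.Prime) (hpq : p ≠ q) (hqk : ((q : ℕ) : ZMod r) ≠ 0)
    (Q S A : Subgroup Γ) (hQ : IsPGroup q Q)
    (hSQ : S ≤ Subgroup.normalizer (Q : Set Γ)) (hAQ : A ≤ Subgroup.normalizer (Q : Set Γ))
    (hAS : A ≤ Subgroup.normalizer (S : Set Γ))
    (hAc : ∀ a ∈ A, ∀ b ∈ A, a * b = b * a) (hAp : ∀ a ∈ A, a ^ p = 1)
    (hcard : Nat.card A = p ^ 2) (hpS : ¬ p ∣ Nat.card S)
    (b₀ : Γ) (hb₀ : b₀ ∈ A) (hb₀1 : b₀ ≠ 1) (hb₀S : ∀ g ∈ S, g * b₀ = b₀ * g)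
    (hCS : ∀ b ∈ A, b ∉ Subgroup.zpowers b₀ → ∀ g ∈ S, g * b = b * g → g = 1)
    (hQb₀ : Q ≤ Subgroup.closure {z | ∃ x ∈ Q, z = x * b₀ * x⁻¹ * b₀⁻¹})
    (hCQA : ∀ x ∈ Q, (∀ a ∈ A, a * x = x * a) → x = 1)
    (hii : ∀ b ∈ A, b ≠ 1 → ∀ d ∈ Q, d * b = b * d → ∀ v : M, a b v = v → a d v = v) :
    ∀ x ∈ Q, ∀ g ∈ S, ∀ v : M, a (x * g * x⁻¹ * g⁻¹) v = v := by
  have hρ : ∀ (g : Γ) (w : Additive M), actRep r a g w = w ↔ a g (Additive.toMul w) = Additive.toMul w := by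
    intro g w
    rw [actRep_apply]
    constructor
    · intro h; exact congrArg Additive.toMul h
    · intro h; rw [h]; rfl
  have hii' : ∀ b ∈ A, b ≠ 1 → ∀ d ∈ Q, d * b = b * d → ∀ w, actRep r a b w = w → actRep r a d w = w := by
    intro b hb hb1 d hd hdb w hw
    rw [hρ] at hw ⊢
    exact hii b hb hb1 d hd hdb _ hw
  have key := Cfsg.Agent.Lib.Helper87_WardLFT.lft (L := Γ) (k := ZMod r) (W := Additive M) hp hq hpq hqk
    (actRep r a) Q S A hQ hSQ hAQ hAS hAc hAp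
    hcard hpS b₀ hb₀ hb₀1 hb₀S hCS hQb₀ hCQA hii'
  intro x hx g hg v
  have h1 := key x hx g hg (Additive.ofMul v)
  rw [hρ] at h1
  exact h1

/-- W13 of helper87's Ward package: bridge from the linear final theorem to conjugation on `V`. -/
theorem comm_of_lft {Γ : Type*} [Group Γ] [Finite Γ] (V : Subgroup Γ) [V.Normal] (r : ℕ)
    (hr : r.Prime) (hVc : ∀ v ∈ V, ∀ w ∈ V, v * w = w * v) (hVr : ∀ v ∈ V, v ^ r = 1)
    {p q : ℕ} (hp : p.Prime) (hq : q.Prime) (hpq : p ≠ q) (hqr : q ≠ r) (Q S A : Subgroup Γ)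
    (hQ : IsPGroup q Q)
    (hSQ : S ≤ Subgroup.normalizer (Q : Set Γ)) (hAQ : A ≤ Subgroup.normalizer (Q : Set Γ))
    (hAS : A ≤ Subgroup.normalizer (S : Set Γ))
    (hAc : ∀ a ∈ A, ∀ b ∈ A, a * b = b * a) (hAp : ∀ a ∈ A, a ^ p = 1)
    (hcard : Nat.card A = p ^ 2) (hpS : ¬ p ∣ Nat.card S)
    (b₀ : Γ) (hb₀ : b₀ ∈ A) (hb₀1 : b₀ ≠ 1) (hb₀S : ∀ g ∈ S, g * b₀ = b₀ * g)
    (hCS : ∀ b ∈ A, b ∉ Subgroup.zpowers b₀ → ∀ g ∈ S, g * b = b * g → g = 1)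
    (hQb₀ : Q ≤ Subgroup.closure {z | ∃ x ∈ Q, z = x * b₀ * x⁻¹ * b₀⁻¹})
    (hCQA : ∀ x ∈ Q, (∀ a ∈ A, a * x = x * a) → x = 1)
    (hii : ∀ b ∈ A, b ≠ 1 → ∀ d ∈ Q, d * b = b * d → ∀ v ∈ V, b * v = v * b → d * v = v * d) :
    ∀ x ∈ Q, ∀ g ∈ S, ∀ v ∈ V, (x * g * x⁻¹ * g⁻¹) * v = v * (x * g * x⁻¹ * g⁻¹) := by
  classical
  haveI : Fact r.Prime := ⟨hr⟩
  letI inst1 : CommGroup V :=
    { (inferInstance : Group V) with mul_comm := fun a b => Subtype.ext (hVc a a.2 b b.2) }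
  letI inst2 : Module (ZMod r) (Additive V) := AddCommGroup.zmodModule (n := r) (by
    intro x
    have h2 : (Additive.ofMul (Additive.toMul x) : Additive V) = x := rfl
    rw [← h2, ← ofMul_pow]
    have : (Additive.toMul x) ^ r = 1 := Subtype.ext (by simpa using hVr _ (Additive.toMul x).2)
    rw [this]; rfl)
  have hqk : ((q : ℕ) : ZMod r) ≠ 0 := by
    intro h
    rw [ZMod.natCast_eq_zero_iff] at h
    exact hqr ((Nat.prime_dvd_prime_iff_eq hr hq).mp h).symm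
  have hconj : ∀ (g : Γ) (v : V), (MulAut.conjNormal g : MulAut V) v = v ↔ g * (v : Γ) = (v : Γ) * g := by
    intro g v
    constructor
    · intro h
      have h2 := congrArg Subtype.val h
      rw [MulAut.conjNormal_apply] at h2
      calc g * (v : Γ) = (g * (v : Γ) * g⁻¹) * g := by group
        _ = (v : Γ) * g := by rw [h2]
    · intro h
      apply Subtype.ext
      rw [MulAut.conjNormal_apply, h]; group
  have key := core (M := V) r (MulAut.conjNormal : Γ →* MulAut V) hp hq hpq hqk Q S A hQ hSQ hAQ hAS hAc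
    hAp hcard hpS b₀ hb₀ hb₀1 hb₀S hCS hQb₀ hCQA
    (by
      intro b hb hb1 d hd hdb v hv
      rw [hconj] at hv ⊢
      exact hii b hb hb1 d hd hdb _ v.2 hv)
  intro x hx g hg v hv
  have h1 := key x hx g hg ⟨v, hv⟩
  rw [hconj] at h1
  exact h1

end Cfsg.Agent.Lib.Helper33_WardW13
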