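import Mathlib.GroupTheory.Nilpotent
import Mathlib.GroupTheory.Sylow
import Mathlib.GroupTheory.Commutator.Basic

/-!
# Nilpotent groups: nontrivial normal subgroups meet the centre (helper79)
-/

set_option autoImplicit false

namespace Cfsg.Agent.Lib.Helper79_Nilpotent

variable {G : Type*} [Group G]

/-- The series `N, [N,G], [N,G,G], …`. -/
def commSeries (N : Subgroup G) : ℕ → Subgroup G
  | 0 => N
  | (i + 1) => ⁅commSeries N i, (⊤ : Subgroup G)⁆

theorem commSeries_le_lower (N : Subgroup G) (i : ℕ) :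
    commSeries N i ≤ Subgroup.lowerCentralSeries (⊤ : Subgroup G) i := by
  induction i with
  | zero => exact le_top
  | succ i ih =>
    rw [Subgroup.lowerCentralSeries_succ]
    exact Subgroup.commutator_mono ih le_rfl

theorem commSeries_le (N : Subgroup G) [N.Normal] (i : ℕ) : commSeries N i ≤ N := by
  induction i with
  | zero => exact le_rfl
  | succ i ih =>
    exact (Subgroup.commutator_mono ih le_rfl).trans (Subgroup.commutator_le_left N ⊤)

/-- A nontrivial normal subgroup of a nilpotent group contains a nontrivial central element. -/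
theorem exists_central_of_normal [Group.IsNilpotent G] (N : Subgroup G) [N.Normal]
    (hN : N ≠ ⊥) : ∃ z ∈ N, z ∈ Subgroup.center G ∧ z ≠ 1 := by
  classical
  obtain ⟨n, hn⟩ := Subgroup.nilpotent_iff_lowerCentralSeries.1 (inferInstance : Group.IsNilpotent G)
  have hex : ∃ i, commSeries N i = ⊥ := ⟨n, le_bot_iff.1 (hn ▸ commSeries_le_lower N n)⟩
  have hspec := Nat.find_spec hex
  cases h : Nat.find hex with
  | zero =>
    rw [h] at hspec
    exact absurd hspec hN
  | succ j =>
    rw [h] at hspec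
    have hj : commSeries N j ≠ ⊥ := Nat.find_min hex (m := j) (by omega)
    have hcen : commSeries N j ≤ Subgroup.center G := by
      have h1 : ⁅commSeries N j, (⊤ : Subgroup G)⁆ = ⊥ := hspec
      rw [Subgroup.commutator_eq_bot_iff_le_centralizer] at h1
      rwa [Subgroup.coe_top, Subgroup.centralizer_univ] at h1
    obtain ⟨z, hz⟩ := (Subgroup.ne_bot_iff_exists_ne_one).1 hj
    exact ⟨z.1, commSeries_le N j z.2, hcen z.2, fun h => hz (Subtype.ext h)⟩


/-- A nontrivial normal `p`-subgroup of a finite nilpotent group contains a central element of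
order `p`. -/
theorem exists_central_orderOf_eq_prime [Group.IsNilpotent G] [Finite G] (p : ℕ) [Fact p.Prime]
    (N : Subgroup G) [N.Normal] (hNp : IsPGroup p N) (hN : N ≠ ⊥) :
    ∃ z ∈ N, z ∈ Subgroup.center G ∧ orderOf z = p := by
  obtain ⟨z, hzN, hzc, hz1⟩ := exists_central_of_normal N hN
  have hKp : IsPGroup p ↥(N ⊓ Subgroup.center G) := hNp.to_le inf_le_left
  have hnt : Nontrivial ↥(N ⊓ Subgroup.center G) :=
    ⟨⟨⟨z, hzN, hzc⟩, 1, fun h => hz1 (congrArg Subtype.val h)⟩⟩
  obtain ⟨k, hk0, hk⟩ := hKp.nontrivial_iff_card.mp hnt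
  have hdvd : p ∣ Nat.card ↥(N ⊓ Subgroup.center G) := hk ▸ dvd_pow_self _ hk0.ne'
  obtain ⟨w, hw⟩ := exists_prime_orderOf_dvd_card' p hdvd
  exact ⟨w.1, w.2.1, w.2.2, by rw [← hw, Subgroup.orderOf_coe]⟩

end Cfsg.Agent.Lib.Helper79_Nilpotent
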