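import Mathlib
import Cfsg.Agent.Lib.Helper1_Thompson
import Cfsg.Agent.Lib.Helper79_Nilpotent

set_option autoImplicit false
set_option linter.style.haveILetI false
universe u

namespace Cfsg.Agent.Lib.Helper33_WardW2

open Subgroup

/-- Power trick: if `f a₀` has `s`-power order then a suitable power of `a₀` has the same image and
`s`-power order. -/
theorem exists_pow_lift {A B : Type*} [Group A] [Finite A] [Group B] (f : A →* B) {s : ℕ}
    (hs : s.Prime) (a₀ : A) {n : ℕ} (hb : (f a₀) ^ s ^ n = 1) :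
    ∃ c : ℕ, f (a₀ ^ c) = f a₀ ∧ ∃ m, (a₀ ^ c) ^ s ^ m = 1 := by
  rcases Nat.eq_zero_or_pos n with hn | hn
  · subst hn
    refine ⟨0, ?_, 0, by simp⟩
    simp only [pow_zero, pow_one] at hb
    simp [hb]
  · have ho : orderOf a₀ ≠ 0 := (orderOf_pos a₀).ne'
    obtain ⟨e, t, ht, hot⟩ := Nat.exists_eq_pow_mul_and_not_dvd ho s hs.ne_one
    have hcop : Nat.Coprime t (s ^ n) :=
      Nat.Coprime.pow_right n ((Nat.Prime.coprime_iff_not_dvd hs).mpr ht).symm
    have h1 : 1 < s ^ n := Nat.one_lt_pow hn.ne' hs.one_lt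
    obtain ⟨t', -, ht'⟩ := Nat.exists_mul_mod_eq_one_of_coprime hcop h1
    refine ⟨t * t', ?_, e, ?_⟩
    · rw [map_pow, pow_eq_pow_mod (t * t') hb, ht', pow_one]
    · rw [← pow_mul]
      have : t * t' * s ^ e = orderOf a₀ * t' := by rw [hot]; ring
      rw [this, pow_mul, pow_orderOf_eq_one, one_pow]


/-- A nontrivial nilpotent normal subgroup whose `q`-elements commute with all `s`-elements (`q ≠ s`) of the
ambient finite group contains a nontrivial central element of the ambient group. -/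
theorem exists_central {Q : Type*} [Group Q] [Finite Q] (Yb : Subgroup Q) [hYn : Yb.Normal]
    [hnil : Group.IsNilpotent Yb] (hne : Yb ≠ ⊥)
    (hc : ∀ q s : ℕ, q.Prime → s.Prime → q ≠ s → ∀ y ∈ Yb, ∀ g : Q,
      (∃ n, y ^ q ^ n = 1) → (∃ n, g ^ s ^ n = 1) → y * g = g * y) :
    ∃ z ∈ Yb, z ∈ center Q ∧ z ≠ 1 := by
  classical
  have hcard : Nat.card Yb ≠ 1 := by
    intro h
    exact hne ((Subgroup.card_eq_one).mp h)
  obtain ⟨q, hq, hqd⟩ := Nat.exists_prime_and_dvd hcard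
  haveI : Fact q.Prime := ⟨hq⟩
  obtain ⟨P0⟩ : Nonempty (Sylow q Yb) := inferInstance
  have hP0n : (P0 : Subgroup Yb).Normal := inferInstance
  haveI hP0c : (P0 : Subgroup Yb).Characteristic := Sylow.characteristic_of_normal P0 hP0n
  set W : Subgroup Q := (P0 : Subgroup Yb).map Yb.subtype with hW
  haveI hWn : W.Normal := ConjAct.normal_of_characteristic_of_normal
  have hWq : IsPGroup q W := P0.2.map Yb.subtype
  have hWY : W ≤ Yb := Subgroup.map_subtype_le _
  have hWne : W ≠ ⊥ := by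
    intro h
    have h1 : (P0 : Subgroup Yb) = ⊥ :=
      (Subgroup.map_eq_bot_iff_of_injective _ (Subgroup.subtype_injective Yb)).mp h
    exact P0.ne_bot_of_dvd_card hqd h1
  obtain ⟨T, hWT⟩ := hWq.exists_le_sylow
  haveI : Group.IsNilpotent (T : Subgroup Q) := T.2.isNilpotent
  have hNne : W.subgroupOf (T : Subgroup Q) ≠ ⊥ := by
    intro h
    rw [Subgroup.subgroupOf_eq_bot] at h
    exact hWne (h.eq_bot_of_le hWT |> fun h' => by simpa using le_antisymm (h le_rfl hWT) bot_le)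
  obtain ⟨z', hz'N, hz'c, hz'1⟩ :=
    Cfsg.Agent.Lib.Helper79_Nilpotent.exists_central_of_normal (W.subgroupOf (T : Subgroup Q)) hNne
  have hzW : (z' : Q) ∈ W := Subgroup.mem_subgroupOf.mp hz'N
  have hz1 : (z' : Q) ≠ 1 := fun h => hz'1 (Subtype.ext h)
  have hzq : ∃ n, (z' : Q) ^ q ^ n = 1 := by
    obtain ⟨k, hk⟩ := hWq ⟨(z' : Q), hzW⟩
    exact ⟨k, by simpa using congrArg Subtype.val hk⟩
  refine ⟨(z' : Q), hWY hzW, ?_, hz1⟩
  have htop : centralizer ({(z' : Q)} : Set Q) = ⊤ := by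
    apply Cfsg.Agent.Lib.Helper1_Thompson.eq_top_of_forall_sylow_le
    intro s hs
    haveI : Fact s.Prime := ⟨hs⟩
    by_cases hsq : s = q
    · subst hsq
      refine ⟨T, ?_⟩
      intro g hg
      rw [Subgroup.mem_centralizer_singleton_iff]
      have := Subgroup.mem_center_iff.mp hz'c ⟨g, hg⟩
      exact (congrArg Subtype.val this)
    · obtain ⟨S⟩ : Nonempty (Sylow s Q) := inferInstance
      refine ⟨S, ?_⟩
      intro g hg
      rw [Subgroup.mem_centralizer_singleton_iff]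
      obtain ⟨k, hk⟩ := S.2 ⟨g, hg⟩
      have hgs : ∃ n, g ^ s ^ n = 1 := ⟨k, by simpa using congrArg Subtype.val hk⟩
      exact (hc q s hq hs (fun h => hsq h.symm) _ (hWY hzW) g hzq hgs).symm
  rw [Subgroup.mem_center_iff]
  intro g
  have : g ∈ centralizer ({(z' : Q)} : Set Q) := by rw [htop]; trivial
  exact (Subgroup.mem_centralizer_singleton_iff.mp this)


/-- Nilpotent-by-nilpotent with the commuting condition on elements of coprime prime-power orders is
nilpotent. -/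
theorem nilp_aux : ∀ (n : ℕ) (Q : Type u) [Group Q] [Finite Q] (Yb : Subgroup Q) [Yb.Normal],
    Nat.card Q = n → Group.IsNilpotent Yb →
    (∃ k, (⊤ : Subgroup Q).lowerCentralSeries k ≤ Yb) →
    (∀ q s : ℕ, q.Prime → s.Prime → q ≠ s → ∀ y ∈ Yb, ∀ g : Q,
      (∃ n, y ^ q ^ n = 1) → (∃ n, g ^ s ^ n = 1) → y * g = g * y) →
    Group.IsNilpotent Q := by
  intro n
  induction n using Nat.strong_induction_on with
  | _ n ih =>
    intro Q _ _ Yb _ hn hnil hk hc
    by_cases hY : Yb = ⊥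
    · obtain ⟨k, hk⟩ := hk
      rw [hY, le_bot_iff] at hk
      exact Subgroup.nilpotent_iff_lowerCentralSeries.mpr ⟨k, hk⟩
    · haveI := hnil
      obtain ⟨z, hzY, hzc, hz1⟩ := exists_central Yb hY hc
      set Z0 : Subgroup Q := Yb ⊓ center Q with hZ0
      haveI hZ0n : Z0.Normal := Subgroup.normal_inf_normal _ _
      have hzZ0 : z ∈ Z0 := ⟨hzY, hzc⟩
      have hZ0ne : Z0 ≠ ⊥ := fun h => hz1 (by rw [h] at hzZ0; exact hzZ0)
      let π : Q →* Q ⧸ Z0 := QuotientGroup.mk' Z0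
      have hπs : Function.Surjective π := QuotientGroup.mk'_surjective Z0
      have hlt : Nat.card (Q ⧸ Z0) < n := by
        rw [← hn, Subgroup.card_eq_card_quotient_mul_card_subgroup Z0]
        have h1 : 1 < Nat.card Z0 := by
          rcases Nat.lt_or_ge 1 (Nat.card Z0) with h | h
          · exact h
          · exfalso
            have h0 : 0 < Nat.card Z0 := Nat.card_pos
            have : Nat.card Z0 = 1 := by omega
            exact hZ0ne (Subgroup.card_eq_one.mp this)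
        have h0 : 0 < Nat.card (Q ⧸ Z0) := Nat.card_pos
        nlinarith
      haveI hYbn' : (Yb.map π).Normal := Subgroup.Normal.map inferInstance π hπs
      have hnil' : Group.IsNilpotent (Yb.map π) :=
        Group.nilpotent_of_surjective (π.subgroupMap Yb) (π.subgroupMap_surjective Yb)
      have hk' : ∃ k, (⊤ : Subgroup (Q ⧸ Z0)).lowerCentralSeries k ≤ Yb.map π := by
        obtain ⟨k, hk⟩ := hk
        refine ⟨k, ?_⟩
        have h1 := Subgroup.map_lowerCentralSeries (S := (⊤ : Subgroup Q)) π k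
        rw [← MonoidHom.range_eq_map, MonoidHom.range_eq_top.mpr hπs] at h1
        rw [← h1]
        exact Subgroup.map_mono hk
      have hc' : ∀ q s : ℕ, q.Prime → s.Prime → q ≠ s → ∀ y ∈ Yb.map π, ∀ g : Q ⧸ Z0,
          (∃ n, y ^ q ^ n = 1) → (∃ n, g ^ s ^ n = 1) → y * g = g * y := by
        intro q s hq hs hqs y hy g hyq hgs
        obtain ⟨y0, hy0, rfl⟩ := hy
        obtain ⟨g0, rfl⟩ := hπs g
        obtain ⟨ny, hny⟩ := hyq
        obtain ⟨ng, hng⟩ := hgs
        obtain ⟨c, hc1, m, hc2⟩ := exists_pow_lift π hq y0 hny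
        obtain ⟨d, hd1, m', hd2⟩ := exists_pow_lift π hs g0 hng
        rw [← hc1, ← hd1, ← map_mul, ← map_mul]
        exact congrArg π (hc q s hq hs hqs _ (Subgroup.pow_mem _ hy0 c) _ ⟨m, hc2⟩ ⟨m', hd2⟩)
      have hQ' : Group.IsNilpotent (Q ⧸ Z0) :=
        ih _ hlt (Q ⧸ Z0) (Yb.map π) rfl hnil' hk' hc'
      haveI := hQ'
      refine Subgroup.isNilpotent_of_ker_le_center π ?_
      rw [QuotientGroup.ker_mk']
      exact inf_le_right


/-- W2 of helper87's Ward package. -/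
theorem nn_elt {G : Type*} [Group G] [Finite G] (X Y : Subgroup G) (hYX : Y ≤ X)
    (hn : X ≤ Subgroup.normalizer (Y : Set G)) (r : ℕ) (hr : r.Prime)
    (hY : ∃ c, Y.lowerCentralSeries c = ⊥) (hXY : ∃ k, X.lowerCentralSeries k ≤ Y)
    (hcomm : ∀ q s : ℕ, q.Prime → s.Prime → q ≠ s → q ≠ r → ∀ y ∈ Y, ∀ g ∈ X,
      (∃ n, y ^ q ^ n = 1) → (∃ n, g ^ s ^ n = 1) → y * g = g * y) :
    ∃ j, ∀ x ∈ X.lowerCentralSeries j, ∃ n, x ^ r ^ n = 1 := by
  classical
  haveI : Fact r.Prime := ⟨hr⟩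
  -- work inside `H = ↥X`
  set Yh : Subgroup X := Y.subgroupOf X with hYh
  haveI hYhn : Yh.Normal := (Subgroup.normal_subgroupOf_iff_le_normalizer hYX).mpr hn
  have hYnil : Group.IsNilpotent Y := (Subgroup.isNilpotent_iff_lowerCentralSeries Y).mpr hY
  haveI hYhnil : Group.IsNilpotent Yh :=
    Group.nilpotent_of_mulEquiv (Subgroup.subgroupOfEquivOfLe hYX).symm
  obtain ⟨P0⟩ : Nonempty (Sylow r Yh) := inferInstance
  have hP0n : (P0 : Subgroup Yh).Normal := inferInstance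
  haveI hP0c : (P0 : Subgroup Yh).Characteristic := Sylow.characteristic_of_normal P0 hP0n
  set P : Subgroup X := (P0 : Subgroup Yh).map Yh.subtype with hP
  haveI hPn : P.Normal := ConjAct.normal_of_characteristic_of_normal
  have hPr : IsPGroup r P := P0.2.map Yh.subtype
  let π : X →* X ⧸ P := QuotientGroup.mk' P
  have hπs : Function.Surjective π := QuotientGroup.mk'_surjective P
  haveI hYbn : (Yh.map π).Normal := Subgroup.Normal.map inferInstance π hπs
  have hYbnil : Group.IsNilpotent (Yh.map π) :=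
    Group.nilpotent_of_surjective (π.subgroupMap Yh) (π.subgroupMap_surjective Yh)
  -- lower central series
  have hk' : ∃ k, (⊤ : Subgroup (X ⧸ P)).lowerCentralSeries k ≤ Yh.map π := by
    obtain ⟨k, hk⟩ := hXY
    refine ⟨k, ?_⟩
    have h1 := Subgroup.map_lowerCentralSeries (S := (⊤ : Subgroup X)) π k
    rw [← MonoidHom.range_eq_map, MonoidHom.range_eq_top.mpr hπs] at h1
    rw [← h1]
    apply Subgroup.map_mono
    intro x hx
    rw [hYh, Subgroup.mem_subgroupOf]
    apply hk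
    rw [← Subgroup.top_subtype_lowerCentralSeries]
    exact Subgroup.mem_map_of_mem _ hx
  -- r-elements of Yh lie in P
  have hrP : ∀ y ∈ Yh, (∃ n, y ^ r ^ n = 1) → y ∈ P := by
    intro y hy ⟨n, hn⟩
    have hpow : (⟨y, hy⟩ : Yh) ^ r ^ n = 1 := Subtype.ext (by simpa using hn)
    have hdvd : orderOf (⟨y, hy⟩ : Yh) ∣ r ^ n := orderOf_dvd_of_pow_eq_one hpow
    obtain ⟨k, -, hk⟩ := (Nat.dvd_prime_pow hr).mp hdvd
    have hz : IsPGroup r (Subgroup.zpowers (⟨y, hy⟩ : Yh)) :=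
      IsPGroup.of_card (n := k) (by rw [Nat.card_zpowers, hk])
    obtain ⟨P1, hP1⟩ := hz.exists_le_sylow
    haveI := Sylow.unique_of_normal P0 hP0n
    have hP10 : P1 = P0 := Subsingleton.elim _ _
    have hmem : (⟨y, hy⟩ : Yh) ∈ (P0 : Subgroup Yh) := by
      rw [← hP10]; exact hP1 (Subgroup.mem_zpowers _)
    exact ⟨⟨y, hy⟩, hmem, rfl⟩
  have hc' : ∀ q s : ℕ, q.Prime → s.Prime → q ≠ s → ∀ y ∈ Yh.map π, ∀ g : X ⧸ P,
      (∃ n, y ^ q ^ n = 1) → (∃ n, g ^ s ^ n = 1) → y * g = g * y := by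
    intro q s hq hs hqs y hy g hyq hgs
    obtain ⟨y0, hy0, rfl⟩ := hy
    obtain ⟨g0, rfl⟩ := hπs g
    obtain ⟨ny, hny⟩ := hyq
    obtain ⟨ng, hng⟩ := hgs
    obtain ⟨c, hc1, m, hc2⟩ := exists_pow_lift π hq y0 hny
    obtain ⟨d, hd1, m', hd2⟩ := exists_pow_lift π hs g0 hng
    by_cases hqr : q = r
    · subst hqr
      have h1 : y0 ^ c ∈ P := hrP _ (Subgroup.pow_mem _ hy0 c) ⟨m, hc2⟩
      have h2 : π (y0 ^ c) = 1 := (QuotientGroup.eq_one_iff _).mpr h1
      rw [← hc1, h2, one_mul, mul_one]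
    · rw [← hc1, ← hd1, ← map_mul, ← map_mul]
      apply congrArg π
      have hyY : ((y0 ^ c : X) : G) ∈ Y := Subgroup.mem_subgroupOf.mp (Subgroup.pow_mem _ hy0 c)
      have h3 := hcomm q s hq hs hqs hqr _ hyY _ (g0 ^ d : X).2
        ⟨m, by simpa using congrArg Subtype.val hc2⟩ ⟨m', by simpa using congrArg Subtype.val hd2⟩
      exact Subtype.ext (by simpa using h3)
  have hQnil : Group.IsNilpotent (X ⧸ P) :=
    nilp_aux _ (X ⧸ P) (Yh.map π) rfl hYbnil hk' hc'
  obtain ⟨j, hj⟩ := Subgroup.nilpotent_iff_lowerCentralSeries.mp hQnil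
  refine ⟨j, ?_⟩
  have h1 := Subgroup.map_lowerCentralSeries (S := (⊤ : Subgroup X)) π j
  rw [← MonoidHom.range_eq_map, MonoidHom.range_eq_top.mpr hπs, hj] at h1
  have hle : (⊤ : Subgroup X).lowerCentralSeries j ≤ P := by
    intro x hx
    have : π x ∈ ((⊤ : Subgroup X).lowerCentralSeries j).map π := Subgroup.mem_map_of_mem _ hx
    rw [h1, Subgroup.mem_bot] at this
    exact (QuotientGroup.eq_one_iff _).mp this
  intro x hx
  rw [← Subgroup.top_subtype_lowerCentralSeries] at hx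
  obtain ⟨h, hh, rfl⟩ := hx
  obtain ⟨k, hk⟩ := hPr ⟨h, hle hh⟩
  exact ⟨k, by simpa using congrArg (fun t : P => ((t : X) : G)) hk⟩

end Cfsg.Agent.Lib.Helper33_WardW2
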