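import Mathlib
import Cfsg.Agent.Lib.Helper24_CoprimeAction
import Cfsg.Agent.Lib.Helper33_WardW2

set_option autoImplicit false
set_option linter.style.haveILetI false
universe u

namespace Cfsg.Agent.Lib.Helper33_WardW3

open Subgroup Cfsg.Agent.Lib.Helper24_CoprimeAction Cfsg.Agent.Lib.Helper33_WardW2

/-- The lower central series of a normal subgroup consists of normal subgroups. -/
theorem lcs_normal {Γ : Type*} [Group Γ] (N : Subgroup Γ) [N.Normal] :
    ∀ k, (N.lowerCentralSeries k).Normal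
  | 0 => by rw [Subgroup.lowerCentralSeries_zero]; infer_instance
  | (k + 1) => by
    haveI := lcs_normal N k
    rw [Subgroup.lowerCentralSeries_succ]
    infer_instance

/-- An element of `s`-power order of a finite group lies in a conjugate of any given Sylow `s`-subgroup. -/
theorem exists_conj_mem_sylowImage {Γ : Type*} [Group Γ] [Finite Γ] {H : Subgroup Γ} {s : ℕ}
    [Fact s.Prime] (P : Sylow s H) {h : Γ} (hh : h ∈ H) {m : ℕ} (hm : h ^ s ^ m = 1) :
    ∃ η ∈ H, ∃ g ∈ sylowImage P, h = η * g * η⁻¹ := by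
  have hs : s.Prime := Fact.out
  have hpow : (⟨h, hh⟩ : H) ^ s ^ m = 1 := Subtype.ext (by simpa using hm)
  have hdvd : orderOf (⟨h, hh⟩ : H) ∣ s ^ m := orderOf_dvd_of_pow_eq_one hpow
  obtain ⟨k, -, hk⟩ := (Nat.dvd_prime_pow hs).mp hdvd
  have hz : IsPGroup s (Subgroup.zpowers (⟨h, hh⟩ : H)) :=
    IsPGroup.of_card (n := k) (by rw [Nat.card_zpowers, hk])
  obtain ⟨P1, hP1⟩ := hz.exists_le_sylow
  obtain ⟨η, hη⟩ := MulAction.exists_smul_eq H P P1
  have hmem : (⟨h, hh⟩ : H) ∈ (P1 : Subgroup H) := hP1 (Subgroup.mem_zpowers _)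
  have h1 : h ∈ sylowImage P1 := ⟨⟨h, hh⟩, hmem, rfl⟩
  rw [← hη, sylowImage_smul] at h1
  obtain ⟨g, hg, hgh⟩ := h1
  refine ⟨(η : Γ), η.2, g, hg, ?_⟩
  rw [← hgh]; simp [MulAut.conj_apply]


/-- W3 of helper87's Ward package. -/
theorem exists_pair {Γ : Type*} [Group Γ] [Finite Γ] (N A V : Subgroup Γ) [N.Normal] [V.Normal]
    (hVN : V ≤ N) (hcop : (Nat.card A).Coprime (Nat.card N)) (hsolvN : Group.IsSolvable N)
    (r : ℕ) (hr : r.Prime) (hV : IsPGroup r V)
    (k c : ℕ) (hkc : (N.lowerCentralSeries k).lowerCentralSeries c ≤ V)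
    (hnot : ¬ ∃ k' c', (N.lowerCentralSeries k').lowerCentralSeries c' = ⊥) :
    ∃ q s : ℕ, q.Prime ∧ s.Prime ∧ q ≠ s ∧ q ≠ r ∧ ∃ Q S : Subgroup Γ,
      Q ≤ N.lowerCentralSeries k ∧ S ≤ N ∧ IsPGroup q Q ∧ IsPGroup s S ∧
      A ≤ Subgroup.normalizer (Q : Set Γ) ∧ A ≤ Subgroup.normalizer (S : Set Γ) ∧
      S ≤ Subgroup.normalizer (Q : Set Γ) ∧ ∃ x ∈ Q, ∃ g ∈ S, x * g ≠ g * x := by
  classical
  haveI : Fact r.Prime := ⟨hr⟩
  by_contra hno
  apply hnot
  set R : Subgroup Γ := N.lowerCentralSeries k with hR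
  haveI hRn : R.Normal := lcs_normal N k
  have hRN : R ≤ N := by
    have := (Subgroup.lowerCentralSeries_antitone N) (Nat.zero_le k)
    simpa using this
  let π : Γ →* Γ ⧸ V := QuotientGroup.mk' V
  have hπs : Function.Surjective π := QuotientGroup.mk'_surjective V
  have hker : ∀ x, π x = 1 ↔ x ∈ V := fun x => QuotientGroup.eq_one_iff x
  have hYlcs : (R.map π).lowerCentralSeries c = ⊥ := by
    rw [← Subgroup.map_lowerCentralSeries, eq_bot_iff]
    intro y hy
    obtain ⟨x, hx, rfl⟩ := hy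
    exact (Subgroup.mem_bot).mpr ((hker x).mpr (hkc hx))
  haveI hYnil : Group.IsNilpotent (R.map π) :=
    (Subgroup.isNilpotent_iff_lowerCentralSeries _).mpr ⟨c, hYlcs⟩
  have hW2 : ∃ j, ∀ x ∈ (N.map π).lowerCentralSeries j, ∃ n, x ^ r ^ n = 1 := by
    apply nn_elt (N.map π) (R.map π) (Subgroup.map_mono hRN) ?_ r hr ⟨c, hYlcs⟩ ?_ ?_
    · haveI : (R.map π).Normal := Subgroup.Normal.map hRn π hπs
      rw [Subgroup.normalizer_eq_top]
      exact le_top
    · refine ⟨k, ?_⟩
      rw [← Subgroup.map_lowerCentralSeries]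
    · -- the commuting condition
      intro q s hq hs hqs hqr yb hyb gb hgb hyq hgs
      obtain ⟨ny, hny⟩ := hyq
      obtain ⟨ng, hng⟩ := hgs
      haveI : Fact q.Prime := ⟨hq⟩
      haveI : Fact s.Prime := ⟨hs⟩
      have hAR : A ≤ Subgroup.normalizer (R : Set Γ) := by
        rw [Subgroup.normalizer_eq_top]; exact le_top
      have hcopR : (Nat.card A).Coprime (Nat.card R) :=
        Nat.Coprime.coprime_dvd_right (Subgroup.card_dvd_of_le hRN) hcop
      have hsolvR : Group.IsSolvable R := isSolvable_of_le hRN hsolvN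
      obtain ⟨Pq, hPqA⟩ := exists_invariant_sylow A R hAR hcopR (Or.inr hsolvR) q
      set Q : Subgroup Γ := sylowImage Pq with hQ
      have hQR : Q ≤ R := Subgroup.map_subtype_le _
      have hQq : IsPGroup q Q := Pq.2.map _
      set H : Subgroup Γ := N ⊓ Subgroup.normalizer (Q : Set Γ) with hH
      have hHN : H ≤ N := inf_le_left
      have hAH : A ≤ Subgroup.normalizer (H : Set Γ) := by
        rw [Subgroup.le_normalizer_iff]
        intro a ha h hh
        refine ⟨?_, ?_⟩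
        · exact (inferInstance : N.Normal).conj_mem h hh.1 a
        · exact Subgroup.mul_mem _ (Subgroup.mul_mem _ (hPqA ha) hh.2) (Subgroup.inv_mem _ (hPqA ha))
      have hcopH : (Nat.card A).Coprime (Nat.card H) :=
        Nat.Coprime.coprime_dvd_right (Subgroup.card_dvd_of_le hHN) hcop
      have hsolvH : Group.IsSolvable H := isSolvable_of_le hHN hsolvN
      obtain ⟨Ps, hPsA⟩ := exists_invariant_sylow A H hAH hcopH (Or.inr hsolvH) s
      set S : Subgroup Γ := sylowImage Ps with hS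
      have hSH : S ≤ H := Subgroup.map_subtype_le _
      have hSs : IsPGroup s S := Ps.2.map _
      have hQS : ∀ x ∈ Q, ∀ g ∈ S, x * g = g * x := by
        intro x hx g hg
        by_contra hne
        exact hno ⟨q, s, hq, hs, hqs, hqr, Q, S, hQR, hSH.trans hHN, hQq, hSs, hPqA, hPsA,
          fun g hg => (hSH hg).2, x, hx, g, hg, hne⟩
      -- the image of `Q` is normalized by the image of `R`
      let f : R →* R.map π := π.subgroupMap R
      have hf : Function.Surjective f := π.subgroupMap_surjective R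
      let Pq' : Sylow q (R.map π) := Pq.mapSurjective hf
      have hnorm : (Pq' : Subgroup (R.map π)).Normal := inferInstance
      have he' : ∀ y1 ∈ R.map π, ∀ x ∈ Q, ∃ x' ∈ Q, π x' = y1 * π x * y1⁻¹ := by
        intro y1 hy1 x hx
        obtain ⟨x0, hx0, rfl⟩ := hx
        have h1 : f x0 ∈ (Pq' : Subgroup (R.map π)) := by
          rw [Sylow.coe_mapSurjective]; exact Subgroup.mem_map_of_mem _ hx0
        have h2 := hnorm.conj_mem _ h1 ⟨y1, hy1⟩
        rw [Sylow.coe_mapSurjective] at h2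
        obtain ⟨x1, hx1, hx1e⟩ := h2
        refine ⟨(x1 : Γ), ⟨x1, hx1, rfl⟩, ?_⟩
        have := congrArg Subtype.val hx1e
        simpa [f] using this
      -- (e)
      obtain ⟨y0, hy0, rfl⟩ := hyb
      obtain ⟨cy, hcy1, my, hcy2⟩ := exists_pow_lift π hq y0 hny
      obtain ⟨ρ, hρ, x, hx, hyx⟩ := exists_conj_mem_sylowImage Pq (R.pow_mem hy0 cy) hcy2
      obtain ⟨x', hx', hx'e⟩ := he' (π ρ) (Subgroup.mem_map_of_mem π hρ) x hx
      have hyb' : π y0 = π x' := by
        rw [← hcy1, hyx, map_mul, map_mul, map_inv, hx'e]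
      -- (f)
      obtain ⟨n0, hn0, rfl⟩ := hgb
      have hconj_le : Q.map (MulAut.conj n0).toMonoidHom ≤ V ⊔ Q := by
        rintro _ ⟨x2, hx2, rfl⟩
        obtain ⟨κ, hκ⟩ := frattini_rel Pq n0 (by rw [Subgroup.normalizer_eq_top]; trivial)
        have hx3 : ((κ : Γ)⁻¹ * n0) * x2 * ((κ : Γ)⁻¹ * n0)⁻¹ ∈ Q :=
          (Subgroup.mem_normalizer_iff.mp hκ x2).mp hx2
        obtain ⟨x4, hx4, hx4e⟩ := he' (π κ) (Subgroup.mem_map_of_mem π κ.2) _ hx3
        have hrew : n0 * x2 * n0⁻¹ =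
            (κ : Γ) * (((κ : Γ)⁻¹ * n0) * x2 * ((κ : Γ)⁻¹ * n0)⁻¹) * (κ : Γ)⁻¹ := by group
        have hv : (n0 * x2 * n0⁻¹) * x4⁻¹ ∈ V := by
          rw [← hker, map_mul, map_inv, hx4e, hrew, map_mul, map_mul, map_inv]
          group
        have h5 : (MulAut.conj n0).toMonoidHom x2 = ((n0 * x2 * n0⁻¹) * x4⁻¹) * x4 := by
          simp [MulAut.conj_apply]
        rw [h5]
        exact Subgroup.mul_mem _ (Subgroup.mem_sup_left hv) (Subgroup.mem_sup_right hx4)
      have hcard : Nat.card (Q.map (MulAut.conj n0).toMonoidHom) = Nat.card Q :=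
        Subgroup.card_map_of_injective (MulAut.conj n0).injective
      have hQV : Q ≤ Subgroup.normalizer (V : Set Γ) := by
        rw [Subgroup.normalizer_eq_top]; exact le_top
      have hcopQV : (Nat.card Q).Coprime (Nat.card V) := by
        obtain ⟨a, ha⟩ := hQq.exists_card_eq
        obtain ⟨b, hb⟩ := hV.exists_card_eq
        rw [ha, hb]
        exact Nat.Coprime.pow _ _ ((Nat.coprime_primes hq hr).mpr hqr)
      have hQsolv : Group.IsSolvable Q := by
        haveI := hQq.isNilpotent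
        infer_instance
      obtain ⟨v, hv, hvQ⟩ := sz_rel_conj Q V (Q.map (MulAut.conj n0).toMonoidHom) hQV hcopQV
        (Or.inl hQsolv) hconj_le hcard
      have hh0N : v⁻¹ * n0 ∈ Subgroup.normalizer (Q : Set Γ) := by
        rw [mem_normalizer_iff_map_conj]
        have : (MulAut.conj (v⁻¹ * n0)).toMonoidHom =
            (MulAut.conj v⁻¹).toMonoidHom.comp (MulAut.conj n0).toMonoidHom := by
          ext z; simp [MulAut.conj_apply, mul_assoc]
        rw [this, ← Subgroup.map_map, ← hvQ, Subgroup.map_map]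
        have h2 : (MulAut.conj v⁻¹).toMonoidHom.comp (MulAut.conj v).toMonoidHom = MonoidHom.id Γ := by
          ext z; simp [MulAut.conj_apply, mul_assoc]
        rw [h2, Subgroup.map_id]
      have hh0 : v⁻¹ * n0 ∈ H := ⟨N.mul_mem (N.inv_mem (hVN hv)) hn0, hh0N⟩
      have hπh0 : π (v⁻¹ * n0) = π n0 := by
        rw [map_mul, map_inv, (hker v).mpr hv, inv_one, one_mul]
      rw [← hπh0] at hng
      obtain ⟨cg, hcg1, mg, hcg2⟩ := exists_pow_lift π hs (v⁻¹ * n0) hng
      obtain ⟨η, hη, g', hg', hhg⟩ := exists_conj_mem_sylowImage Ps (H.pow_mem hh0 cg) hcg2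
      have hx'' : η⁻¹ * x' * η ∈ Q := by
        have hηN : η⁻¹ ∈ Subgroup.normalizer (Q : Set Γ) := Subgroup.inv_mem _ hη.2
        have := (Subgroup.mem_normalizer_iff.mp hηN x').mp hx'
        simpa using this
      have hcomm1 := hQS _ hx'' g' hg'
      have hfin : x' * (η * g' * η⁻¹) = (η * g' * η⁻¹) * x' := by
        have key : x' * (η * g' * η⁻¹) = η * ((η⁻¹ * x' * η) * g') * η⁻¹ := by group
        rw [key, hcomm1]; group
      rw [hyb', ← hπh0, ← hcg1, hhg, ← map_mul, ← map_mul, hfin]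
  obtain ⟨j, hj⟩ := hW2
  refine ⟨j, ?_⟩
  have hPj : IsPGroup r (N.lowerCentralSeries j) := by
    intro x
    have hx : π (x : Γ) ∈ (N.map π).lowerCentralSeries j := by
      rw [← Subgroup.map_lowerCentralSeries]; exact Subgroup.mem_map_of_mem _ x.2
    obtain ⟨n, hn⟩ := hj _ hx
    rw [← map_pow, hker] at hn
    obtain ⟨m, hm⟩ := hV ⟨_, hn⟩
    refine ⟨n + m, ?_⟩
    apply Subtype.ext
    have := congrArg Subtype.val hm
    simpa [pow_add, pow_mul] using this
  haveI := hPj.isNilpotent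
  exact (Subgroup.isNilpotent_iff_lowerCentralSeries _).mp inferInstance

end Cfsg.Agent.Lib.Helper33_WardW3
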