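import Mathlib
import Cfsg.Prelude.Def_OddOrderLocal
import Cfsg.Prelude.Def_OddOrder
import Cfsg.Agent.Lib.Helper25_BG147
import Cfsg.Agent.Lib.Helper34_BG16a
import Cfsg.Agent.Lib.Helper34_BG16b

/-!
# Bender–Glauberman Theorem 14.7 without cyclicity, part (a): the partner of a vertex (helper34)

A *vertex* is a pair `(V, T)`: `V` a maximal subgroup, `T` a nontrivial Hall `κ(V)`-subgroup of `V`
(no cyclicity of `T` assumed).  `A = kst V T = V_σ ∩ C(T)`, `Z = T ⊔ A`.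

`partner`: for a subgroup `X ≤ T` of prime order and a maximal subgroup `L ⊇ N_G(X)`, there is a Hall
`κ(L)`-subgroup `T_L` of `L` such that `(L, T_L)` is a vertex with the same `Z`, `X ≤ kst L T_L`
and `V ⊓ L = Z`.

Everything is proved from the frozen statements S1430, S1431, S1432 and the second clause of S1378, taken
as explicit hypotheses.
-/

set_option autoImplicit false
set_option linter.unusedSectionVars false
set_option linter.unusedVariables false

namespace Cfsg.Agent.Lib.Helper34_BG147a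

open Subgroup Cfsg Cfsg.Agent.Lib.Helper22_Radical Cfsg.Agent.Lib.Helper25_BG14a
  Cfsg.Agent.Lib.Helper25_BGHyp Cfsg.Agent.Lib.Helper25_BG147

universe u

variable {G : Type u} [Group G]

/-- S1432 -/
def H1432 (G : Type u) [Group G] : Prop :=
  ∀ (M : Subgroup G), IsCoatom M → ∀ (x : G), x ∈ sigmaCore M → x ≠ 1 →
    ∀ x' : G, x' ∈ M ⊓ centralizer ({x} : Set G) → x' ≠ 1 →
    (∀ p : ℕ, p.Prime → p ∣ orderOf x' → p ∉ sigma M) →
    ((∀ p : ℕ, p.Prime → p ∣ orderOf x' → p ∈ kappa M) ∧ centralizer ({x} : Set G) ≤ M) ∨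
      ((∀ p : ℕ, p.Prime → p ∣ orderOf x' → p ∈ tau2 M) ∧
        (∃ L : Subgroup G, IsCoatom L ∧ ∀ p : ℕ, p.Prime → p ∣ orderOf x' → p ∈ sigma L) ∧
        (centralizer ({x'} : Set G) ≤ M ∧
          ∀ L : Subgroup G, IsCoatom L → centralizer ({x'} : Set G) ≤ L → L = M))

/-- a vertex: `T` is a nontrivial Hall `κ(V)`-subgroup of the maximal subgroup `V` -/
structure Vtx (V T : Subgroup G) : Prop where
  co : IsCoatom V
  hall : IsPiHallOf (kappa V) T V
  ne : T ≠ ⊥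

/-! ### generalities -/

theorem orderOf_dvd_card_of_mem {H : Subgroup G} {x : G} (hx : x ∈ H) : orderOf x ∣ Nat.card H :=
  Subgroup.orderOf_dvd_natCard H hx

theorem eq_one_of_forall_prime_not_dvd {x : G} [Finite G]
    (h : ∀ p : ℕ, p.Prime → ¬ p ∣ orderOf x) : x = 1 := by
  by_contra hx
  have h1 : orderOf x ≠ 1 := fun h' => hx (orderOf_eq_one_iff.mp h')
  obtain ⟨p, hp, hpd⟩ := Nat.exists_prime_and_dvd h1
  exact h p hp hpd

/-- conjugation direction helper: `g * x * g⁻¹ ∈ H ↔ x ∈ cj g⁻¹ H` -/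
theorem conj_mem_iff {g x : G} {H : Subgroup G} : g * x * g⁻¹ ∈ H ↔ x ∈ cj g⁻¹ H := by
  rw [mem_cj, inv_inv]

variable [Finite G]

namespace Vtx

variable {V T : Subgroup G}

theorem T_le (h : Vtx V T) : T ≤ V := h.hall.1

theorem Z_le (h : Vtx V T) : T ⊔ kst V T ≤ V := sup_le h.T_le (kst_le V T)

theorem kappa_of_dvd (h : Vtx V T) {p : ℕ} (hp : p.Prime) (hd : p ∣ Nat.card T) : p ∈ kappa V :=
  h.hall.2.1 p hp hd

theorem sigma_of_dvd_kst (h : Vtx V T) {p : ℕ} (hp : p.Prime) (hd : p ∣ Nat.card (kst V T)) :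
    p ∈ sigma V :=
  Cfsg.Agent.Lib.Helper70_BG1012.card_sigmaCore_mem V p hp
    (hd.trans (Subgroup.card_dvd_of_le inf_le_left))

theorem mem_decomp (h : Vtx V T) {z : G} (hz : z ∈ T ⊔ kst V T) :
    ∃ t ∈ T, ∃ a ∈ kst V T, z = t * a :=
  exists_mul_of_mem_sup_comm kst_comm hz

/-- a `σ(V)`-element of `Z` lies in `A` -/
theorem mem_kst_of_sigma (h : Vtx V T) {z : G} (hz : z ∈ T ⊔ kst V T)
    (hσ : ∀ p : ℕ, p.Prime → p ∣ orderOf z → p ∈ sigma V) : z ∈ kst V T := by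
  obtain ⟨t, ht, a, ha, rfl⟩ := h.mem_decomp hz
  have hc : Commute t a := kst_comm t ht a ha
  obtain ⟨n, hn⟩ := exists_pow_mul_eq_left hc (coprime_orderOf h.hall ht ha)
  have ht1 : t = 1 := by
    apply eq_one_of_forall_prime_not_dvd
    intro p hp hpd
    have h1 : p ∣ orderOf (t * a) := by
      rw [← hn] at hpd
      exact hpd.trans (orderOf_pow_dvd n)
    have h2 : p ∈ kappa V := h.kappa_of_dvd hp (hpd.trans (orderOf_dvd_card_of_mem ht))
    exact h2.2.2.1 (hσ p hp h1)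
  rw [ht1, one_mul]
  exact ha

/-- a `σ(V)'`-element of `Z` lies in `T` -/
theorem mem_T_of_not_sigma (h : Vtx V T) {z : G} (hz : z ∈ T ⊔ kst V T)
    (hσ : ∀ p : ℕ, p.Prime → p ∣ orderOf z → p ∉ sigma V) : z ∈ T := by
  obtain ⟨t, ht, a, ha, rfl⟩ := h.mem_decomp hz
  have hc : Commute t a := kst_comm t ht a ha
  obtain ⟨n, hn⟩ := exists_pow_mul_eq_right hc (coprime_orderOf h.hall ht ha)
  have ha1 : a = 1 := by
    apply eq_one_of_forall_prime_not_dvd
    intro p hp hpd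
    have h1 : p ∣ orderOf (t * a) := by
      rw [← hn] at hpd
      exact hpd.trans (orderOf_pow_dvd n)
    exact hσ p hp h1 (h.sigma_of_dvd_kst hp (hpd.trans (orderOf_dvd_card_of_mem ha)))
  rw [ha1, mul_one]
  exact ht

/-- a subgroup of `Z` all of whose prime divisors are in `σ(V)` lies in `A` -/
theorem le_kst_of_sigma (h : Vtx V T) {Y : Subgroup G} (hY : Y ≤ T ⊔ kst V T)
    (hσ : ∀ p : ℕ, p.Prime → p ∣ Nat.card Y → p ∈ sigma V) : Y ≤ kst V T := by
  intro y hy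
  exact h.mem_kst_of_sigma (hY hy)
    (fun p hp hpd => hσ p hp (hpd.trans (orderOf_dvd_card_of_mem hy)))

/-- a subgroup of `Z` none of whose prime divisors is in `σ(V)` lies in `T` -/
theorem le_T_of_not_sigma (h : Vtx V T) {Y : Subgroup G} (hY : Y ≤ T ⊔ kst V T)
    (hσ : ∀ p : ℕ, p.Prime → p ∣ Nat.card Y → p ∉ sigma V) : Y ≤ T := by
  intro y hy
  exact h.mem_T_of_not_sigma (hY hy)
    (fun p hp hpd => hσ p hp (hpd.trans (orderOf_dvd_card_of_mem hy)))

theorem sigmaCore_inf_Z (h : Vtx V T) : sigmaCore V ⊓ (T ⊔ kst V T) = kst V T := by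
  apply le_antisymm
  · intro z hz
    refine h.mem_kst_of_sigma hz.2 ?_
    intro p hp hpd
    exact Cfsg.Agent.Lib.Helper70_BG1012.card_sigmaCore_mem V p hp
      (hpd.trans (orderOf_dvd_card_of_mem hz.1))
  · exact le_inf inf_le_left le_sup_right

/-- `Z` normalizes `T` -/
theorem Z_le_normalizer_T (h : Vtx V T) : T ⊔ kst V T ≤ normalizer (T : Set G) := by
  apply sup_le le_normalizer
  intro a ha
  apply Subgroup.centralizer_le_normalizer
  exact (Subgroup.mem_inf.mp ha).2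

/-- `Z` normalizes `A` -/
theorem Z_le_normalizer_kst (h : Vtx V T) : T ⊔ kst V T ≤ normalizer (kst V T : Set G) := by
  apply sup_le _ le_normalizer
  intro t ht
  apply Subgroup.centralizer_le_normalizer
  rw [mem_centralizer_iff]
  intro a ha
  exact (kst_comm t ht a ha).symm

theorem isComplIn_Z (h : Vtx V T) : IsComplIn T (kst V T) (T ⊔ kst V T) :=
  ⟨le_sup_left, le_sup_right, inf_kst_eq_bot h.hall, fun z hz => h.mem_decomp hz⟩

theorem card_Z (h : Vtx V T) :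
    Nat.card T * Nat.card (kst V T) = Nat.card (T ⊔ kst V T : Subgroup G) :=
  Cfsg.Agent.Lib.Helper34_BG16a.card_of_isComplIn h.isComplIn_Z

/-- a subgroup of prime order of `Z` lies in `T` or in `A` -/
theorem prime_le (h : Vtx V T) {X : Subgroup G} (hX : X ≤ T ⊔ kst V T) (hXp : (Nat.card X).Prime) :
    X ≤ T ∨ X ≤ kst V T := by
  by_cases hσ : Nat.card X ∈ sigma V
  · right
    apply h.le_kst_of_sigma hX
    intro p hp hpd
    rwa [(Nat.prime_dvd_prime_iff_eq hp hXp).mp hpd]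
  · left
    apply h.le_T_of_not_sigma hX
    intro p hp hpd
    rwa [(Nat.prime_dvd_prime_iff_eq hp hXp).mp hpd]

end Vtx


/-! ### auxiliary facts -/

theorem cj_one' (M : Subgroup G) : cj (1 : G) M = M := by
  ext x
  rw [mem_cj]
  simp

omit [Finite G] in
theorem exists_mem_ne_one {H : Subgroup G} (h : H ≠ ⊥) : ∃ x ∈ H, x ≠ 1 := by
  by_contra hh
  push Not at hh
  exact h ((Subgroup.eq_bot_iff_forall H).mpr hh)

/-- the normalizer of a nontrivial subgroup of a maximal subgroup lies in a maximal subgroup -/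
theorem exists_coatom_normalizer (hG : IsMinSimpleOddOrder G) {Y V : Subgroup G} (hV : IsCoatom V)
    (hYV : Y ≤ V) (hY1 : Y ≠ ⊥) : ∃ L : Subgroup G, IsCoatom L ∧ normalizer (Y : Set G) ≤ L := by
  have hne : normalizer (Y : Set G) ≠ ⊤ := by
    intro h
    have h3 : Y.Normal := normalizer_eq_top_iff.mp h
    have := hG.2.1
    rcases h3.eq_bot_or_eq_top with h' | h'
    · exact hY1 h'
    · apply hV.1
      rw [eq_top_iff, ← h']
      exact hYV
  exact (eq_top_or_exists_le_coatom _).resolve_left hne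

/-- `V_σ ∩ L_σ = 1` when `σ(V) ∩ σ(L) = ∅` -/
theorem sigmaCore_inf_eq_bot {V L : Subgroup G}
    (hd : ∀ q : ℕ, q ∈ sigma V → q ∈ sigma L → False) {w : G} (hV : w ∈ sigmaCore V)
    (hL : w ∈ sigmaCore L) : w = 1 := by
  apply eq_one_of_forall_prime_not_dvd
  intro p hp hpd
  exact hd p
    (Cfsg.Agent.Lib.Helper70_BG1012.card_sigmaCore_mem V p hp
      (hpd.trans (orderOf_dvd_card_of_mem hV)))
    (Cfsg.Agent.Lib.Helper70_BG1012.card_sigmaCore_mem L p hp
      (hpd.trans (orderOf_dvd_card_of_mem hL)))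

/-- a maximal subgroup `L` whose `σ`-core contains a nontrivial subgroup of `A = kst V T` is `V` -/
theorem eq_of_le_sigmaCore (h31 : H1431 G) (hSD : SigmaDisj G) {V T : Subgroup G} (h : Vtx V T)
    {Y : Subgroup G} (hY : Y ≤ kst V T) (hY1 : Y ≠ ⊥) {L : Subgroup G} (hL : IsCoatom L)
    (hYL : Y ≤ sigmaCore L) : L = V := by
  obtain ⟨y, hy, hy1⟩ := exists_mem_ne_one hY1
  have ho1 : orderOf y ≠ 1 := fun h' => hy1 (orderOf_eq_one_iff.mp h')
  obtain ⟨p, hp, hpd⟩ := Nat.exists_prime_and_dvd ho1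
  have hpV : p ∈ sigma V :=
    h.sigma_of_dvd_kst hp (hpd.trans (orderOf_dvd_card_of_mem (hY hy)))
  have hpL : p ∈ sigma L :=
    Cfsg.Agent.Lib.Helper70_BG1012.card_sigmaCore_mem L p hp
      (hpd.trans (orderOf_dvd_card_of_mem (hYL hy)))
  obtain ⟨g, hg⟩ := hSD V L h.co hL ⟨p, hpV, hpL⟩
  have hgV : g ∈ V := by
    by_contra hgV
    have h1 := (h31 V h.co T h.hall h.ne).1 g hgV
    have h2 : y ∈ kst V T ⊓ V.map (MulAut.conj g).toMonoidHom := by
      refine Subgroup.mem_inf.mpr ⟨hY hy, ?_⟩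
      rw [← hg]
      exact sigmaCore_le L (hYL hy)
    rw [h1, Subgroup.mem_bot] at h2
    exact hy1 h2
  rw [hg]
  exact cj_eq_of_mem_normalizer (le_normalizer hgV)

/-- Hall dominance with conjugation, in the frozen form -/
theorem exists_cj_le_hall {π : Set ℕ} {M D Y : Subgroup G} (hsolv : Group.IsSolvable M)
    (hD : IsPiHallOf π D M) (hYM : Y ≤ M)
    (hY : ∀ p : ℕ, p.Prime → p ∣ Nat.card Y → p ∈ π) : ∃ m ∈ M, cj m Y ≤ D := by
  rw [Cfsg.Agent.Lib.Helper24_CoprimeHall.isPiHallOf_iff] at hD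
  obtain ⟨H, hH, hYH⟩ := Cfsg.Agent.Lib.Helper24_CoprimeHall.exists_piHall_ge hsolv hYM hY
  obtain ⟨g, hg, hgH⟩ := Cfsg.Agent.Lib.Helper24_CoprimeHall.piHall_conj hsolv hH hD
  exact ⟨g, hg, by rw [← hgH]; exact cj_mono hYH⟩


/-! ### the partner of a vertex -/

/-- **The partner.**  For a vertex `(V, T)`, a subgroup `X ≤ T` of prime order and a maximal subgroup
`L ⊇ N_G(X)`: `L` is not conjugate to `V` and carries a vertex `(L, T_L)` with the same `Z`,
with `X ≤ kst L T_L`, and `V ⊓ L = Z`. -/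
theorem partner (hG : IsMinSimpleOddOrder G) (h30 : H1430 G) (h31 : H1431 G) (h32 : H1432 G)
    (hSD : SigmaDisj G) {V T : Subgroup G} (h : Vtx V T) {X : Subgroup G} (hXT : X ≤ T)
    (hXp : (Nat.card X).Prime) {L : Subgroup G} (hL : IsCoatom L)
    (hNL : normalizer (X : Set G) ≤ L) :
    (∀ g : G, L ≠ cj g V) ∧ ∃ TL : Subgroup G, Vtx L TL ∧ TL ⊔ kst L TL = T ⊔ kst V T ∧
      X ≤ kst L TL ∧ V ⊓ L = T ⊔ kst V T := by
  have h30V := h30 V h.co T h.hall h.ne
  have h31V := h31 V h.co T h.hall h.ne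
  obtain ⟨hNX, -, hXσ⟩ := h30V.2.2 X hXT hXp
  have hXL : X ≤ sigmaCore L := hXσ L hL hNL
  have hXpσL : Nat.card X ∈ sigma L :=
    Cfsg.Agent.Lib.Helper70_BG1012.card_sigmaCore_mem L _ hXp (Subgroup.card_dvd_of_le hXL)
  have hXpκV : Nat.card X ∈ kappa V := h.kappa_of_dvd hXp (Subgroup.card_dvd_of_le hXT)
  -- (1a)
  have hnc : ∀ g : G, L ≠ cj g V := by
    intro g hg
    rw [hg, sigma_cj] at hXpσL
    exact hXpκV.2.2.1 hXpσL
  have hLV : L ≠ V := fun hh => hnc 1 (by rw [cj_one']; exact hh)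
  -- (1c)
  have hdisj : ∀ q : ℕ, q ∈ sigma V → q ∈ sigma L → False := by
    intro q hqV hqL
    obtain ⟨g, hg⟩ := hSD V L h.co hL ⟨q, hqV, hqL⟩
    exact hnc g hg
  -- (1b)
  have hZL : T ⊔ kst V T ≤ L := by
    rw [← hNX]
    exact inf_le_right.trans hNL
  have hAL : kst V T ≤ L := le_sup_right.trans hZL
  have hTL0 : T ≤ L := le_sup_left.trans hZL
  have hX1 : X ≠ ⊥ := by
    intro hX
    rw [hX, Subgroup.card_bot] at hXp
    exact Nat.not_prime_one hXp
  obtain ⟨x, hxX, hx1⟩ := exists_mem_ne_one hX1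
  have hA1 : kst V T ≠ ⊥ := kst_ne_bot h30 h.co h.hall h.ne
  obtain ⟨y, hyA, hy1⟩ := exists_mem_ne_one hA1
  -- (1d)
  have hAκ : ∀ q : ℕ, q.Prime → q ∣ Nat.card (kst V T) → q ∈ kappa L := by
    intro q hq hqd
    have : Fact q.Prime := ⟨hq⟩
    obtain ⟨⟨y', hy'A⟩, hy'o⟩ := exists_prime_orderOf_dvd_card' (G := kst V T) q hqd
    rw [Subgroup.orderOf_mk] at hy'o
    have hy'1 : y' ≠ 1 := by
      rintro rfl
      rw [orderOf_one] at hy'o
      exact hq.one_lt.ne hy'o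
    have hcomm : y' ∈ L ⊓ centralizer ({x} : Set G) := by
      refine Subgroup.mem_inf.mpr ⟨hAL hy'A, ?_⟩
      rw [mem_centralizer_singleton_iff]
      exact (kst_comm x (hXT hxX) y' hy'A).symm
    have hnσ : ∀ p : ℕ, p.Prime → p ∣ orderOf y' → p ∉ sigma L := by
      intro p hp hpd hpL
      rw [hy'o] at hpd
      have hpq : p = q := (Nat.prime_dvd_prime_iff_eq hp hq).mp hpd
      exact hdisj q (h.sigma_of_dvd_kst hq hqd) (hpq ▸ hpL)
    rcases h32 L hL x (hXL hxX) hx1 y' hcomm hy'1 hnσ with h1 | h1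
    · exact h1.1 q hq (by rw [hy'o])
    · exfalso
      obtain ⟨-, -, -, huniq⟩ := h1
      have hCV : centralizer ({y'} : Set G) ≤ V :=
        centralizer_le_of_mem_kst h31 h.co h.hall h.ne hy'A hy'1
      exact hLV (huniq V h.co hCV).symm
  -- (1e)
  obtain ⟨TL, hTLh, hATL⟩ :=
    Cfsg.Agent.Lib.Helper24_CoprimeHall.exists_piHall_ge (Cfsg.Agent.Lib.Helper34_BG16a.solv hG hL)
      hAL hAκ
  rw [← Cfsg.Agent.Lib.Helper24_CoprimeHall.isPiHallOf_iff] at hTLh
  have hTL1 : TL ≠ ⊥ := by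
    intro hh
    rw [hh] at hATL
    exact hA1 (le_bot_iff.mp hATL)
  have hL' : Vtx L TL := ⟨hL, hTLh, hTL1⟩
  have h30L := h30 L hL TL hTLh hTL1
  have h31L := h31 L hL TL hTLh hTL1
  -- `L_σ ∩ C(y) = B`
  have hBy : sigmaCore L ⊓ centralizer ({y} : Set G) = kst L TL := h30L.1 y (hATL hyA) hy1
  -- (1g)
  have hXB : X ≤ kst L TL := by
    rw [← hBy]
    intro x' hx'
    refine Subgroup.mem_inf.mpr ⟨hXL hx', ?_⟩
    rw [mem_centralizer_singleton_iff]
    exact (kst_comm x' (hXT hx') y hyA)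
  -- (1f)
  obtain ⟨Y, hYy, hYp⟩ := exists_prime_le_zpowers hy1
  have hYA : Y ≤ kst V T := hYy.trans (by rw [zpowers_le]; exact hyA)
  have hYTL : Y ≤ TL := hYA.trans hATL
  have hY1 : Y ≠ ⊥ := by
    intro hY
    rw [hY, Subgroup.card_bot] at hYp
    exact Nat.not_prime_one hYp
  obtain ⟨hNY, -, hYσ⟩ := h30L.2.2 Y hYTL hYp
  have hNYV : normalizer (Y : Set G) ≤ V := by
    obtain ⟨V', hV', hNV'⟩ := exists_coatom_normalizer hG h.co (hYA.trans (kst_le V T)) hY1
    have := eq_of_le_sigmaCore h31 hSD h hYA hY1 hV' (hYσ V' hV' hNV')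
    rwa [this] at hNV'
  have hZLV : TL ⊔ kst L TL ≤ V := by
    rw [← hNY]
    exact inf_le_right.trans hNYV
  -- `T ≤ Z_L`
  have hTZL : T ≤ TL ⊔ kst L TL := by
    rw [← hNY]
    intro t ht
    refine Subgroup.mem_inf.mpr ⟨hTL0 ht, ?_⟩
    apply Subgroup.centralizer_le_normalizer
    rw [mem_centralizer_iff]
    intro y' hy'
    exact (kst_comm t ht y' (hYA hy')).symm
  have hZZL : T ⊔ kst V T ≤ TL ⊔ kst L TL := sup_le hTZL (hATL.trans le_sup_left)
  -- (1h)
  have hTLZ : TL ≤ T ⊔ kst V T := by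
    rw [← hNX]
    intro t ht
    refine Subgroup.mem_inf.mpr ⟨hZLV (le_sup_left (a := TL) ht), ?_⟩
    apply Subgroup.centralizer_le_normalizer
    rw [mem_centralizer_iff]
    intro x' hx'
    exact (kst_comm t ht x' (hXB hx')).symm
  -- (1i)
  have hBκ : ∀ q : ℕ, q.Prime → q ∣ Nat.card (kst L TL) → q ∈ kappa V := by
    intro q hq hqd
    have : Fact q.Prime := ⟨hq⟩
    obtain ⟨⟨b, hbB⟩, hbo⟩ := exists_prime_orderOf_dvd_card' (G := kst L TL) q hqd
    rw [Subgroup.orderOf_mk] at hbo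
    have hb1 : b ≠ 1 := by
      rintro rfl
      rw [orderOf_one] at hbo
      exact hq.one_lt.ne hbo
    have hcomm : b ∈ V ⊓ centralizer ({y} : Set G) := by
      refine Subgroup.mem_inf.mpr ⟨hZLV (le_sup_right (b := kst L TL) hbB), ?_⟩
      rw [mem_centralizer_singleton_iff]
      exact (kst_comm y (hATL hyA) b hbB).symm
    have hnσ : ∀ p : ℕ, p.Prime → p ∣ orderOf b → p ∉ sigma V := by
      intro p hp hpd hpV
      rw [hbo] at hpd
      have hpq : p = q := (Nat.prime_dvd_prime_iff_eq hp hq).mp hpd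
      exact hdisj q (hpq ▸ hpV) (hL'.sigma_of_dvd_kst hq hqd)
    rcases h32 V h.co y (Subgroup.mem_inf.mp hyA).1 hy1 b hcomm hb1 hnσ with h1 | h1
    · exact h1.1 q hq (by rw [hbo])
    · exfalso
      obtain ⟨-, -, -, huniq⟩ := h1
      have hCL : centralizer ({b} : Set G) ≤ L :=
        centralizer_le_of_mem_kst h31 hL hTLh hTL1 hbB hb1
      exact hLV (huniq L hL hCL)
  -- 31b, contrapositive
  have h31b : ∀ d ∈ V, ∀ w : G, w ≠ 1 → w ∈ T → w ∈ cj d T → d ∈ T ⊔ kst V T := by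
    intro d hdV w hw1 hwT hwdT
    by_contra hdZ
    have h1 := h31V.2.1 d hdV hdZ
    have h2 : w ∈ T ⊓ T.map (MulAut.conj d).toMonoidHom := Subgroup.mem_inf.mpr ⟨hwT, hwdT⟩
    rw [h1, Subgroup.mem_bot] at h2
    exact hw1 h2
  -- (1j)
  have hBT : kst L TL ≤ T := by
    obtain ⟨m, hmV, hm⟩ := exists_cj_le_hall (Cfsg.Agent.Lib.Helper34_BG16a.solv hG h.co) h.hall
      ((le_sup_right (a := TL)).trans hZLV) hBκ
    have hmx : m * x * m⁻¹ ∈ cj m (kst L TL) := by
      rw [mem_cj]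
      have : m⁻¹ * (m * x * m⁻¹) * m = x := by group
      rw [this]
      exact hXB hxX
    have hmx1 : m * x * m⁻¹ ≠ 1 := by
      intro hh
      apply hx1
      have : x = m⁻¹ * (m * x * m⁻¹) * m := by group
      rw [this, hh]
      group
    have hmxT : m * x * m⁻¹ ∈ cj m T := by
      rw [mem_cj]
      have : m⁻¹ * (m * x * m⁻¹) * m = x := by group
      rw [this]
      exact hXT hxX
    have hmZ : m ∈ T ⊔ kst V T := h31b m hmV _ hmx1 (hm hmx) hmxT
    have hmN : m⁻¹ ∈ normalizer (T : Set G) := inv_mem (h.Z_le_normalizer_T hmZ)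
    intro b hb
    have h1 : m * b * m⁻¹ ∈ T := by
      apply hm
      rw [mem_cj]
      have : m⁻¹ * (m * b * m⁻¹) * m = b := by group
      rw [this]
      exact hb
    have h2 := (mem_normalizer_iff.mp hmN (m * b * m⁻¹)).mp h1
    have : m⁻¹ * (m * b * m⁻¹) * m⁻¹⁻¹ = b := by group
    rwa [this] at h2
  -- (1m)
  have hZeq : TL ⊔ kst L TL = T ⊔ kst V T :=
    le_antisymm (sup_le hTLZ (hBT.trans le_sup_left)) hZZL
  -- (1n)
  have hVL : V ⊓ L = T ⊔ kst V T := by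
    apply le_antisymm
    · intro d hd
      obtain ⟨hdV, hdL⟩ := Subgroup.mem_inf.mp hd
      -- `d x d⁻¹ ∈ L_σ ∩ V`
      have h1 : d * x * d⁻¹ ∈ sigmaCore L :=
        (mem_normalizer_iff.mp (le_normalizer_sigmaCore L hdL) x).mp (hXL hxX)
      have h2 : d * x * d⁻¹ ∈ V := V.mul_mem (V.mul_mem hdV (h.T_le (hXT hxX))) (V.inv_mem hdV)
      -- `L_σ ∩ V ≤ B`
      have h3 : d * x * d⁻¹ ∈ kst L TL := by
        rw [← hBy]
        refine Subgroup.mem_inf.mpr ⟨h1, ?_⟩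
        rw [mem_centralizer_singleton_iff]
        set u := d * x * d⁻¹ with hu
        have hyL : y ∈ L := hAL hyA
        have hyV : y ∈ sigmaCore V := (Subgroup.mem_inf.mp hyA).1
        have hc1 : u * y * u⁻¹ * y⁻¹ ∈ sigmaCore L := by
          have : u * y * u⁻¹ * y⁻¹ = u * (y * u⁻¹ * y⁻¹) := by group
          rw [this]
          exact mul_mem h1
            ((mem_normalizer_iff.mp (le_normalizer_sigmaCore L hyL) u⁻¹).mp (inv_mem h1))
        have hc2 : u * y * u⁻¹ * y⁻¹ ∈ sigmaCore V :=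
          mul_mem ((mem_normalizer_iff.mp (le_normalizer_sigmaCore V h2) y).mp hyV) (inv_mem hyV)
        have hc3 := sigmaCore_inf_eq_bot hdisj hc2 hc1
        calc u * y = (u * y * u⁻¹ * y⁻¹) * (y * u) := by group
          _ = y * u := by rw [hc3, one_mul]
      have hdx1 : d * x * d⁻¹ ≠ 1 := by
        intro hh
        apply hx1
        have : x = d⁻¹ * (d * x * d⁻¹) * d := by group
        rw [this, hh]
        group
      have hdxT : d * x * d⁻¹ ∈ cj d T := by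
        rw [mem_cj]
        have : d⁻¹ * (d * x * d⁻¹) * d = x := by group
        rw [this]
        exact hXT hxX
      exact h31b d hdV _ hdx1 (hBT h3) hdxT
    · exact le_inf h.Z_le hZL
  exact ⟨hnc, TL, hL', hZeq, hXB, hVL⟩

end Cfsg.Agent.Lib.Helper34_BG147a
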