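import Mathlib
import Cfsg.Prelude.Def_OddOrderLocal
import Cfsg.Agent.Lib.Helper4_BGConj
import Cfsg.Agent.Lib.Helper32_Cores

/-!
# Small general facts on complements and normal Hall subgroups  (helper4)
-/

set_option autoImplicit false
open Cfsg

namespace Cfsg.Agent.Lib.Helper4_BGBasic

open Subgroup

universe u

variable {G : Type u} [Group G]

/-- `M = AB` with `A ∩ B = 1` gives `|M| = |A||B|`. -/
theorem card_of_isComplIn {A B M : Subgroup G} (h : IsComplIn A B M) :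
    Nat.card ↥M = Nat.card ↥A * Nat.card ↥B := by
  obtain ⟨hA, hB, hAB, hM⟩ := h
  rw [← Nat.card_prod]
  symm
  let f : ↥A × ↥B → ↥M := fun ab => ⟨(ab.1 : G) * (ab.2 : G), M.mul_mem (hA ab.1.2) (hB ab.2.2)⟩
  apply Nat.card_congr (Equiv.ofBijective f ⟨?_, ?_⟩)
  · rintro ⟨a, b⟩ ⟨a', b'⟩ hab
    have h1 : (a : G) * (b : G) = (a' : G) * (b' : G) := congrArg Subtype.val hab
    have h2 : (a' : G)⁻¹ * (a : G) = (b' : G) * (b : G)⁻¹ := by
      have : (a' : G)⁻¹ * ((a : G) * (b : G)) * (b : G)⁻¹ = (a' : G)⁻¹ * ((a' : G) * (b' : G)) * (b : G)⁻¹ := by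
        rw [h1]
      simpa [mul_assoc] using this
    have h3 : (a' : G)⁻¹ * (a : G) ∈ A ⊓ B := by
      refine ⟨A.mul_mem (A.inv_mem a'.2) a.2, ?_⟩
      rw [h2]; exact B.mul_mem b'.2 (B.inv_mem b.2)
    rw [hAB, mem_bot] at h3
    have h4 : (a : G) = a' := by
      have := inv_mul_eq_one.mp h3
      exact this.symm
    have h5 : (b : G) = b' := by
      rw [h4] at h1
      exact mul_left_cancel h1
    exact Prod.ext (Subtype.ext h4) (Subtype.ext h5)
  · rintro ⟨m, hm⟩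
    obtain ⟨a, ha, b, hb, rfl⟩ := hM m hm
    exact ⟨(⟨a, ha⟩, ⟨b, hb⟩), rfl⟩

/-- two complements of the same subgroup have the same order -/
theorem card_eq_of_isComplIn [Finite G] {A B B' M : Subgroup G} (h : IsComplIn A B M) (h' : IsComplIn A B' M) :
    Nat.card ↥B = Nat.card ↥B' := by
  have h1 := card_of_isComplIn h
  have h2 := card_of_isComplIn h'
  rw [h1] at h2
  exact Nat.eq_of_mul_eq_mul_left Nat.card_pos h2

/-- An element of `M` whose order involves only primes of `π` lies in every normal Hall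
`π`-subgroup of `M`. -/
theorem mem_of_isPiHallOf_normal [Finite G] {π : Set ℕ} {N M : Subgroup G} (hH : IsPiHallOf π N M)
    (hn : M ≤ normalizer (N : Set G)) {x : G} (hx : x ∈ M)
    (hxπ : ∀ p : ℕ, p.Prime → p ∣ orderOf x → p ∈ π) : x ∈ N := by
  obtain ⟨hNM, -, hidx⟩ := hH
  have hnorm : (N.subgroupOf M).Normal := by
    rw [← Subgroup.normalizer_eq_top_iff]
    rw [eq_top_iff]
    intro m _
    have := hn m.2
    rw [mem_normalizer_iff] at this ⊢
    intro h
    rw [mem_subgroupOf, mem_subgroupOf]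
    exact this (h : G)
  let xm : ↥M := ⟨x, hx⟩
  have h1 : ((QuotientGroup.mk xm : ↥M ⧸ N.subgroupOf M)) ^ orderOf x = 1 := by
    rw [← QuotientGroup.mk_pow]
    have : xm ^ orderOf x = 1 := by
      apply Subtype.ext
      simp [xm, pow_orderOf_eq_one]
    rw [this]; rfl
  have h2 : ((QuotientGroup.mk xm : ↥M ⧸ N.subgroupOf M)) ^ Nat.card (↥M ⧸ N.subgroupOf M) = 1 :=
    pow_card_eq_one'
  have hcop : (orderOf x).Coprime (Nat.card (↥M ⧸ N.subgroupOf M)) := by
    rw [Nat.coprime_iff_gcd_eq_one]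
    by_contra hne
    obtain ⟨p, hp, hpd⟩ := Nat.exists_prime_and_dvd hne
    have hp1 := hxπ p hp (hpd.trans (Nat.gcd_dvd_left _ _))
    have hp2 : p ∣ N.relIndex M := by
      have := hpd.trans (Nat.gcd_dvd_right _ _)
      rwa [← Subgroup.index_eq_card] at this
    exact hidx p hp hp1 hp2
  have h3 : (QuotientGroup.mk xm : ↥M ⧸ N.subgroupOf M) = 1 := by
    have := pow_gcd_eq_one.mpr ⟨h1, h2⟩
    rw [Nat.coprime_iff_gcd_eq_one.mp hcop, pow_one] at this
    exact this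
  have h4 : xm ∈ N.subgroupOf M := (QuotientGroup.eq_one_iff xm).mp h3
  exact h4

theorem sigmaCore_le (M : Subgroup G) : sigmaCore M ≤ M := Subgroup.map_subtype_le _

theorem le_normalizer_sigmaCore (M : Subgroup G) : M ≤ normalizer ((sigmaCore M : Subgroup G) : Set G) := by
  intro m hm
  rw [mem_normalizer_iff]
  intro x
  have hn : (piCore (sigma M) ↥M).Normal := inferInstance
  constructor
  · rintro ⟨y, hy, rfl⟩
    refine ⟨⟨m, hm⟩ * y * ⟨m, hm⟩⁻¹, hn.conj_mem y hy ⟨m, hm⟩, rfl⟩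
  · intro h
    obtain ⟨y, hy, hyx⟩ := h
    have h1 : x = m⁻¹ * (y : G) * m := by
      have : (y : G) = m * x * m⁻¹ := hyx
      rw [this]; group
    have h2 := hn.conj_mem y hy (⟨m, hm⟩⁻¹)
    refine ⟨⟨m, hm⟩⁻¹ * y * (⟨m, hm⟩⁻¹)⁻¹, h2, ?_⟩
    rw [h1]
    simp

theorem mem_sigma_of_dvd_card_sigmaCore [Finite G] (M : Subgroup G) :
    ∀ q : ℕ, q.Prime → q ∣ Nat.card ↥(sigmaCore M) → q ∈ sigma M := by
  intro q hq hd
  unfold sigmaCore at hd
  rw [Subgroup.card_map_of_injective M.subtype_injective] at hd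
  exact Cfsg.Agent.Lib.Helper32_Cores.card_piCore _ q hq hd

end Cfsg.Agent.Lib.Helper4_BGBasic
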