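import Mathlib
import Cfsg.Prelude.Def_OddOrderLocal
import Cfsg.Prelude.Def_OddOrder
import Cfsg.Agent.Lib.Helper4_BGConj
import Cfsg.Agent.Lib.Helper4_BGBasic

/-!
# The count `|M̃| = (|M_σ| - 1)|G : M|`  (helper4; Bender–Glauberman Theorem E(1))

Written against the statements of the frozen rows S1350, S1374, S1375, S1433 as explicit hypotheses.
-/

set_option autoImplicit false
set_option linter.unusedSectionVars false
open Cfsg

namespace Cfsg.Agent.Lib.Helper4_BGTilde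

open Subgroup Cfsg.Agent.Lib.Helper4_BGConj Cfsg.Agent.Lib.Helper4_BGBasic

universe u

variable {G : Type u} [Group G]

/-- conjugate of a subgroup, in the form of the frozen statements -/
abbrev cj (g : G) (M : Subgroup G) : Subgroup G := M.map (MulAut.conj g).toMonoidHom

/-- (part of) the statement of S1350 -/
def H1350 (G : Type u) [Group G] : Prop :=
  ∀ M : Subgroup G, IsCoatom M → IsPiHallOf (sigma M) (sigmaCore M) M

/-- (part of) the statement of S1374 -/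
def H1374 (G : Type u) [Group G] : Prop :=
  ∀ M : Subgroup G, IsCoatom M → ∀ x : G, x ∈ sigmaCore M → x ≠ 1 →
    ∃ R : Subgroup G, IsComplIn (M ⊓ centralizer ({x} : Set G)) R (centralizer ({x} : Set G)) ∧
      ∀ g : G, x ∈ cj g M → ∃! r : G, r ∈ R ∧ cj r M = cj g M

/-- (part of) the statement of S1375 -/
def H1375 (G : Type u) [Group G] : Prop :=
  ∀ M : Subgroup G, IsCoatom M → ∀ x : G, x ∈ sigmaCore M → x ≠ 1 → ¬ centralizer ({x} : Set G) ≤ M →
    ∃ N : Subgroup G, IsCoatom N ∧ centralizer ({x} : Set G) ≤ N ∧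
      (∀ L : Subgroup G, IsCoatom L → centralizer ({x} : Set G) ≤ L → L = N) ∧
      sigmaCore N = fittingHallOf N ∧
      IsComplIn (M ⊓ centralizer ({x} : Set G)) (sigmaCore N ⊓ centralizer ({x} : Set G))
        (centralizer ({x} : Set G))

/-- the statement of S1433 -/
def H1433 (G : Type u) [Group G] : Prop :=
  ∀ M N : Subgroup G, IsCoatom M → IsCoatom N → ∀ x y : G, x ∈ sigmaCore M → y ∈ sigmaCore N →
    x ≠ 1 → y ≠ 1 → x ≠ y → ∀ r ∈ supportR M x, ∀ s ∈ supportR N y, x * r ≠ y * s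

theorem cj_mul (a b : G) (M : Subgroup G) : cj (a * b) M = cj a (cj b M) := by
  ext x
  rw [mem_conj, mem_conj, mem_conj]
  have : (a * b)⁻¹ * x * (a * b) = b⁻¹ * (a⁻¹ * x * a) * b := by group
  rw [this]

theorem cj_of_mem {M : Subgroup G} {m : G} (hm : m ∈ M) : cj m M = M := by
  ext x
  rw [mem_conj]
  constructor
  · intro h
    have : x = m * (m⁻¹ * x * m) * m⁻¹ := by group
    rw [this]
    exact M.mul_mem (M.mul_mem hm h) (M.inv_mem hm)
  · intro h
    exact M.mul_mem (M.mul_mem (M.inv_mem hm) h) hm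

theorem cj_one (M : Subgroup G) : cj (1 : G) M = M := cj_of_mem M.one_mem

theorem normalizer_coatom (hG : IsMinSimpleOddOrder G) {M : Subgroup G} (hM : IsCoatom M) (hM1 : M ≠ ⊥) :
    normalizer (M : Set G) = M := by
  by_contra hne
  have h1 : M < normalizer (M : Set G) := lt_of_le_of_ne le_normalizer (Ne.symm hne)
  have h2 := hM.2 _ h1
  have h3 : M.Normal := normalizer_eq_top_iff.mp h2
  have := hG.2.1
  rcases h3.eq_bot_or_eq_top with h | h
  · exact hM1 h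
  · exact hM.1 h

theorem mem_of_cj_eq (hG : IsMinSimpleOddOrder G) {M : Subgroup G} (hM : IsCoatom M) (hM1 : M ≠ ⊥)
    {g : G} (h : cj g M = M) : g ∈ M := by
  rw [← normalizer_coatom hG hM hM1, mem_normalizer_iff]
  intro x
  have h1 : g * x * g⁻¹ ∈ cj g M ↔ x ∈ M := conj_mem_conj
  rw [h] at h1
  exact h1.symm

theorem supportR_congr {M₁ M₂ : Subgroup G} {x : G}
    (h : centralizer ({x} : Set G) ≤ M₁ ↔ centralizer ({x} : Set G) ≤ M₂) :
    supportR M₁ x = supportR M₂ x := by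
  by_cases h1 : centralizer ({x} : Set G) ≤ M₁
  · rw [supportR_eq_bot_of_le h1, supportR_eq_bot_of_le (h.mp h1)]
  · have h2 : ¬ centralizer ({x} : Set G) ≤ M₂ := fun h' => h1 (h.mpr h')
    by_cases h3 : ∃! L : Subgroup G, IsCoatom L ∧ centralizer ({x} : Set G) ≤ L
    · obtain ⟨L, ⟨hL, hxL⟩, hu⟩ := h3
      rw [supportR_eq_of_unique h1 hL hxL (fun L' a b => hu L' ⟨a, b⟩),
        supportR_eq_of_unique h2 hL hxL (fun L' a b => hu L' ⟨a, b⟩)]
    · rw [supportR_eq_bot_of_not_unique h3, supportR_eq_bot_of_not_unique h3]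

section count

variable [Finite G]

/-- the conjugate of `M` attached to a coset `gM` -/
noncomputable def Mq (M : Subgroup G) (q : G ⧸ M) : Subgroup G := cj q.out M

theorem Mq_mk (M : Subgroup G) (g : G) : Mq M (QuotientGroup.mk g) = cj g M := by
  obtain ⟨h, hh⟩ := QuotientGroup.mk_out_eq_mul M g
  unfold Mq
  rw [hh, cj_mul, cj_of_mem h.2]

theorem isCoatom_Mq {M : Subgroup G} (hM : IsCoatom M) (q : G ⧸ M) : IsCoatom (Mq M q) :=
  isCoatom_mp hM

theorem Mq_injective (hG : IsMinSimpleOddOrder G) {M : Subgroup G} (hM : IsCoatom M) (hM1 : M ≠ ⊥) :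
    Function.Injective (Mq M) := by
  intro q q' h
  rw [← QuotientGroup.out_eq' q, ← QuotientGroup.out_eq' q']
  rw [QuotientGroup.eq]
  apply mem_of_cj_eq hG hM hM1
  unfold Mq at h
  rw [cj_mul, ← h, ← cj_mul, inv_mul_cancel, cj_one]

theorem sigmaCore_Mq (M : Subgroup G) (q : G ⧸ M) : sigmaCore (Mq M q) = cj q.out (sigmaCore M) :=
  sigmaCore_conj _ _

theorem card_sigmaCore_Mq (M : Subgroup G) (q : G ⧸ M) :
    Nat.card ↥(sigmaCore (Mq M q)) = Nat.card ↥(sigmaCore M) := by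
  rw [sigmaCore_Mq]; exact card_mp _ _

/-- if `C_G(x) ≤ M'` then `M'` is the only conjugate of `M'` containing `x` -/
theorem conj_eq_of_centralizer_le (h74 : H1374 G) {M' : Subgroup G} (hM' : IsCoatom M') {x : G}
    (hx : x ∈ sigmaCore M') (hx1 : x ≠ 1) (hc : centralizer ({x} : Set G) ≤ M') {g : G}
    (hg : x ∈ cj g M') : cj g M' = M' := by
  obtain ⟨R, hR, hu⟩ := h74 M' hM' x hx hx1
  obtain ⟨r, ⟨hr, hr'⟩, -⟩ := hu g hg
  rw [← hr']
  exact cj_of_mem (hc (hR.2.1 hr))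

variable (M : Subgroup G)

/-- the `R(x')` attached to a conjugate of an element of `M_σ`, via a chosen conjugate of `M` -/
noncomputable def rho (x' : G) : Subgroup G :=
  open Classical in
  if h : ∃ q : G ⧸ M, x' ∈ sigmaCore (Mq M q) then supportR (Mq M (Classical.choose h)) x' else ⊥

variable {M}

theorem rho_eq (h74 : H1374 G) (hM : IsCoatom M) {x' : G} (hx1 : x' ≠ 1) {q : G ⧸ M}
    (hq : x' ∈ sigmaCore (Mq M q)) : rho M x' = supportR (Mq M q) x' := by
  have hex : ∃ q : G ⧸ M, x' ∈ sigmaCore (Mq M q) := ⟨q, hq⟩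
  unfold rho
  rw [dif_pos hex]
  have h0 := Classical.choose_spec hex
  set q₀ := Classical.choose hex
  have key : ∀ q₁ q₂ : G ⧸ M, x' ∈ sigmaCore (Mq M q₁) → x' ∈ sigmaCore (Mq M q₂) →
      centralizer ({x'} : Set G) ≤ Mq M q₁ → centralizer ({x'} : Set G) ≤ Mq M q₂ := by
    intro q₁ q₂ h1 h2 hc
    have h3 : Mq M q₂ = cj (q₂.out * q₁.out⁻¹) (Mq M q₁) := by
      unfold Mq
      rw [← cj_mul, mul_assoc, inv_mul_cancel, mul_one]
    have h4 : x' ∈ cj (q₂.out * q₁.out⁻¹) (Mq M q₁) := by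
      rw [← h3]; exact sigmaCore_le _ h2
    have h5 := conj_eq_of_centralizer_le h74 (isCoatom_Mq hM q₁) h1 hx1 hc h4
    rw [h3, h5]; exact hc
  exact supportR_congr ⟨key q₀ q h0 hq, key q q₀ hq h0⟩

theorem rho_le_centralizer (x' : G) : rho M x' ≤ centralizer ({x'} : Set G) := by
  unfold rho
  split_ifs
  · exact supportR_le_centralizer _ _
  · exact bot_le

/-- description of `M̃` as a union of cosets -/
theorem tilde_eq (h74 : H1374 G) (hM : IsCoatom M) :
    tildeOf M ((sigmaCore M : Set G) \ {1}) =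
      {t | ∃ x' : G, (x' ≠ 1 ∧ ∃ q : G ⧸ M, x' ∈ sigmaCore (Mq M q)) ∧ ∃ r ∈ rho M x', t = x' * r} := by
  ext t
  constructor
  · rintro ⟨a, ⟨ha, ha1⟩, r, hr, y, rfl⟩
    have ha1' : a ≠ 1 := ha1
    have hx1 : y * a * y⁻¹ ≠ 1 := by
      intro h
      apply ha1'
      have : a = y⁻¹ * (y * a * y⁻¹) * y := by group
      rw [this, h]; group
    have hq : y * a * y⁻¹ ∈ sigmaCore (Mq M (QuotientGroup.mk y)) := by
      rw [Mq_mk, sigmaCore_conj]
      exact conj_mem_conj.mpr ha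
    refine ⟨y * a * y⁻¹, ⟨hx1, _, hq⟩, y * r * y⁻¹, ?_, by group⟩
    rw [rho_eq h74 hM hx1 hq, Mq_mk, supportR_conj]
    exact conj_mem_conj.mpr hr
  · rintro ⟨x', ⟨hx1, q, hq⟩, r, hr, rfl⟩
    rw [rho_eq h74 hM hx1 hq] at hr
    have hq' := hq
    rw [sigmaCore_Mq, mem_conj] at hq'
    have hx' : x' = q.out * (q.out⁻¹ * x' * q.out) * q.out⁻¹ := by group
    have hr' : q.out⁻¹ * r * q.out ∈ supportR M (q.out⁻¹ * x' * q.out) := by
      unfold Mq at hr
      rw [hx', supportR_conj, mem_conj] at hr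
      exact hr
    refine ⟨q.out⁻¹ * x' * q.out, ⟨hq', ?_⟩, q.out⁻¹ * r * q.out, hr', q.out, by group⟩
    intro h
    apply hx1
    have h' : q.out⁻¹ * x' * q.out = 1 := h
    rw [hx', h']; group

/-- the cosets `x' ρ(x')` are disjoint for distinct `x'` -/
theorem coset_inj (h74 : H1374 G) (h33 : H1433 G) (hM : IsCoatom M) {x₁ x₂ r₁ r₂ : G}
    (hx₁ : x₁ ≠ 1 ∧ ∃ q : G ⧸ M, x₁ ∈ sigmaCore (Mq M q))
    (hx₂ : x₂ ≠ 1 ∧ ∃ q : G ⧸ M, x₂ ∈ sigmaCore (Mq M q))
    (hr₁ : r₁ ∈ rho M x₁) (hr₂ : r₂ ∈ rho M x₂) (h : x₁ * r₁ = x₂ * r₂) : x₁ = x₂ := by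
  by_contra hne
  obtain ⟨h1, q₁, hq₁⟩ := hx₁
  obtain ⟨h2, q₂, hq₂⟩ := hx₂
  rw [rho_eq h74 hM h1 hq₁] at hr₁
  rw [rho_eq h74 hM h2 hq₂] at hr₂
  exact h33 _ _ (isCoatom_Mq hM q₁) (isCoatom_Mq hM q₂) x₁ x₂ hq₁ hq₂ h1 h2 hne r₁ hr₁ r₂ hr₂ h

/-- `|ρ(x')|` is the number of conjugates of `M` containing `x'` -/
theorem card_rho (hG : IsMinSimpleOddOrder G) (h74 : H1374 G) (h75 : H1375 G) (hM : IsCoatom M) (hM1 : M ≠ ⊥)
    {x' : G} (hx1 : x' ≠ 1) {q₀ : G ⧸ M} (hq₀ : x' ∈ sigmaCore (Mq M q₀)) :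
    Nat.card ↥(rho M x') = Nat.card {q : G ⧸ M // x' ∈ Mq M q} := by
  rw [rho_eq h74 hM hx1 hq₀]
  have hM₀ := isCoatom_Mq hM q₀
  obtain ⟨R, hR, hu⟩ := h74 _ hM₀ x' hq₀ hx1
  -- first `|R(x')| = |R|`
  have hcard : Nat.card ↥(supportR (Mq M q₀) x') = Nat.card ↥R := by
    by_cases hc : centralizer ({x'} : Set G) ≤ Mq M q₀
    · rw [supportR_eq_bot_of_le hc]
      have hRb : R = ⊥ := by
        rw [eq_bot_iff]
        intro r hr
        have h1 : r ∈ (Mq M q₀ ⊓ centralizer ({x'} : Set G)) ⊓ R := ⟨⟨hc (hR.2.1 hr), hR.2.1 hr⟩, hr⟩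
        rw [hR.2.2.1] at h1
        exact h1
      rw [hRb]
    · obtain ⟨N, hN, hxN, huN, hNF, hcompl⟩ := h75 _ hM₀ x' hq₀ hx1 hc
      rw [supportR_eq_of_unique hc hN hxN huN, ← hNF]
      exact card_eq_of_isComplIn hcompl hR
  rw [hcard]
  -- now the bijection `R → {q | x' ∈ M_q}`
  have hRc : ∀ r ∈ R, r * x' * r⁻¹ = x' := by
    intro r hr
    have := hR.2.1 hr
    rw [mem_centralizer_iff] at this
    have h2 := this x' (Set.mem_singleton _)
    rw [← h2]; group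
  have hx'M₀ : x' ∈ Mq M q₀ := sigmaCore_le _ hq₀
  have hmem : ∀ r : ↥R, x' ∈ Mq M (QuotientGroup.mk ((r : G) * q₀.out)) := by
    intro r
    rw [Mq_mk, cj_mul]
    have : x' = (r : G) * x' * (r : G)⁻¹ := (hRc r r.2).symm
    rw [this]
    exact conj_mem_conj.mpr hx'M₀
  apply Nat.card_congr
  refine Equiv.ofBijective (fun r => ⟨QuotientGroup.mk ((r : G) * q₀.out), hmem r⟩) ⟨?_, ?_⟩
  · intro r r' h
    have h1 : (QuotientGroup.mk ((r : G) * q₀.out) : G ⧸ M) = QuotientGroup.mk ((r' : G) * q₀.out) :=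
      congrArg Subtype.val h
    have h2 := congrArg (Mq M) h1
    rw [Mq_mk, Mq_mk, cj_mul, cj_mul] at h2
    have h3 : x' ∈ cj (r' : G) (Mq M q₀) := by
      have : x' = (r' : G) * x' * (r' : G)⁻¹ := (hRc r' r'.2).symm
      rw [this]
      exact conj_mem_conj.mpr hx'M₀
    obtain ⟨r₀, -, hr₀⟩ := hu (r' : G) h3
    have e1 := hr₀ r ⟨r.2, h2⟩
    have e2 := hr₀ r' ⟨r'.2, rfl⟩
    exact Subtype.ext (e1.trans e2.symm)
  · rintro ⟨q, hq⟩
    have h3 : Mq M q = cj (q.out * q₀.out⁻¹) (Mq M q₀) := by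
      unfold Mq
      rw [← cj_mul, mul_assoc, inv_mul_cancel, mul_one]
    have h4 : x' ∈ cj (q.out * q₀.out⁻¹) (Mq M q₀) := by rw [← h3]; exact hq
    obtain ⟨r, ⟨hr, hr'⟩, -⟩ := hu _ h4
    refine ⟨⟨r, hr⟩, ?_⟩
    apply Subtype.ext
    apply Mq_injective hG hM hM1
    show Mq M (QuotientGroup.mk (r * q₀.out)) = Mq M q
    rw [Mq_mk, cj_mul, h3]
    exact hr'

/-- the elements of conjugates of `M_σ` lying in a given conjugate `M'` are exactly `M'_σ` -/
theorem mem_sigmaCore_of_mem (h50 : H1350 G) (hM : IsCoatom M) {x' : G} {q q' : G ⧸ M}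
    (hq' : x' ∈ sigmaCore (Mq M q')) (hq : x' ∈ Mq M q) : x' ∈ sigmaCore (Mq M q) := by
  have hH := h50 _ (isCoatom_Mq hM q)
  apply mem_of_isPiHallOf_normal hH (le_normalizer_sigmaCore _) hq
  intro p hp hpd
  have h1 : p ∣ Nat.card ↥(sigmaCore (Mq M q')) :=
    hpd.trans (by
      have := Subgroup.orderOf_dvd_natCard (sigmaCore (Mq M q')) hq'
      exact this)
  have h2 := mem_sigma_of_dvd_card_sigmaCore _ p hp h1
  unfold Mq at h2 ⊢
  rw [sigma_conj] at h2 ⊢
  exact h2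

/-- **Bender–Glauberman, Theorem E(1)**: `|M̃| = (|M_σ| - 1)|G : M|`. -/
theorem card_tilde (hG : IsMinSimpleOddOrder G) (h50 : H1350 G) (h74 : H1374 G) (h75 : H1375 G)
    (h33 : H1433 G) (hM : IsCoatom M) :
    Set.ncard (tildeOf M ((sigmaCore M : Set G) \ {1})) = (Nat.card ↥(sigmaCore M) - 1) * M.index := by
  classical
  by_cases hM1 : M = ⊥
  · have h1 : sigmaCore M = ⊥ := by
      rw [eq_bot_iff, ← hM1]; exact sigmaCore_le M
    have h2 : tildeOf M ((sigmaCore M : Set G) \ {1}) = ∅ := by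
      rw [Set.eq_empty_iff_forall_notMem]
      rintro t ⟨a, ⟨ha, ha1⟩, -⟩
      rw [h1] at ha
      exact ha1 ha
    rw [h2, h1]
    simp
  have : Fintype G := Fintype.ofFinite G
  have : Fintype (G ⧸ M) := Fintype.ofFinite _
  let P : G → Prop := fun x' => x' ≠ 1 ∧ ∃ q : G ⧸ M, x' ∈ sigmaCore (Mq M q)
  let X : Finset G := Finset.univ.filter P
  let Rf : G → Finset G := fun x' => Finset.univ.filter (fun r => r ∈ rho M x')
  let Tf : Finset G := X.biUnion (fun x' => (Rf x').image (fun r => x' * r))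
  have hT : tildeOf M ((sigmaCore M : Set G) \ {1}) = ↑Tf := by
    rw [tilde_eq h74 hM]
    ext t
    simp only [Set.mem_ofPred_eq, Finset.coe_biUnion, Finset.coe_image, Set.mem_iUnion, Set.mem_image,
      Finset.mem_coe, Tf, X, Rf, Finset.mem_filter, Finset.mem_univ, true_and]
    constructor
    · rintro ⟨x', hx', r, hr, rfl⟩
      exact ⟨x', hx', r, hr, rfl⟩
    · rintro ⟨x', hx', r, hr, rfl⟩
      exact ⟨x', hx', r, hr, rfl⟩
  rw [hT, Set.ncard_coe_finset]
  have hdisj : (X : Set G).PairwiseDisjoint (fun x' => (Rf x').image (fun r => x' * r)) := by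
    intro x₁ hx₁ x₂ hx₂ hne
    rw [Function.onFun, Finset.disjoint_left]
    intro t ht₁ ht₂
    simp only [Finset.mem_image, Rf, Finset.mem_filter, Finset.mem_univ, true_and] at ht₁ ht₂
    obtain ⟨r₁, hr₁, rfl⟩ := ht₁
    obtain ⟨r₂, hr₂, h⟩ := ht₂
    have hx₁' : P x₁ := by simpa [X] using hx₁
    have hx₂' : P x₂ := by simpa [X] using hx₂
    exact hne (coset_inj h74 h33 hM hx₁' hx₂' hr₁ hr₂ h.symm)
  rw [Finset.card_biUnion hdisj]
  have h1 : ∀ x' ∈ X, ((Rf x').image (fun r => x' * r)).card =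
      (Finset.univ.filter (fun q : G ⧸ M => x' ∈ Mq M q)).card := by
    intro x' hx'
    have hx'' : P x' := by simpa [X] using hx'
    obtain ⟨hx1, q₀, hq₀⟩ := hx''
    rw [Finset.card_image_of_injective _ (mul_right_injective x')]
    have e1 : (Rf x').card = Nat.card ↥(rho M x') := by
      rw [Nat.card_eq_fintype_card, Fintype.card_subtype]
    have e2 : (Finset.univ.filter (fun q : G ⧸ M => x' ∈ Mq M q)).card =
        Nat.card {q : G ⧸ M // x' ∈ Mq M q} := by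
      rw [Nat.card_eq_fintype_card, Fintype.card_subtype]
    rw [e1, e2]
    exact card_rho hG h74 h75 hM hM1 hx1 hq₀
  rw [Finset.sum_congr rfl h1]
  -- double counting
  have h2 : ∑ x' ∈ X, (Finset.univ.filter (fun q : G ⧸ M => x' ∈ Mq M q)).card =
      ∑ q : G ⧸ M, (X.filter (fun x' => x' ∈ Mq M q)).card := by
    have := Finset.sum_card_bipartiteAbove_eq_sum_card_bipartiteBelow
      (s := X) (t := (Finset.univ : Finset (G ⧸ M))) (fun x' q => x' ∈ Mq M q)
    simpa [Finset.bipartiteAbove, Finset.bipartiteBelow] using this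
  rw [h2]
  have h3 : ∀ q : G ⧸ M, (X.filter (fun x' => x' ∈ Mq M q)).card = Nat.card ↥(sigmaCore M) - 1 := by
    intro q
    have e1 : X.filter (fun x' => x' ∈ Mq M q) =
        (Finset.univ.filter (fun x' => x' ∈ sigmaCore (Mq M q))).erase 1 := by
      ext x'
      simp only [X, P, Finset.mem_filter, Finset.mem_univ, true_and, Finset.mem_erase]
      constructor
      · rintro ⟨⟨hx1, q', hq'⟩, hq⟩
        exact ⟨hx1, mem_sigmaCore_of_mem h50 hM hq' hq⟩
      · rintro ⟨hx1, hq⟩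
        exact ⟨⟨hx1, q, hq⟩, sigmaCore_le _ hq⟩
    rw [e1, Finset.card_erase_of_mem (by simp)]
    congr 1
    rw [← card_sigmaCore_Mq M q, Nat.card_eq_fintype_card, Fintype.card_subtype]
  rw [Finset.sum_congr rfl (fun q _ => h3 q), Finset.sum_const, Finset.card_univ, smul_eq_mul,
    Subgroup.index_eq_card, Nat.card_eq_fintype_card (α := G ⧸ M), mul_comm]

end count

end Cfsg.Agent.Lib.Helper4_BGTilde
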