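import Mathlib
import Cfsg.Prelude.Def_OddOrderLocal
import Cfsg.Prelude.Def_OddOrder
import Cfsg.Agent.Lib.Helper4_BGConj
import Cfsg.Agent.Lib.Helper4_BGBasic
import Cfsg.Agent.Lib.Helper4_BGTilde

/-!
# Bender–Glauberman Theorem 14.7 (f), (g)  (helper4)

`M` or `M*` is of type `P₂`, and every maximal subgroup `H` with `κ(H) ≠ ∅` is conjugate to `M` or `M*`.
Written against the statements of frozen rows as explicit hypotheses.
-/

set_option autoImplicit false
set_option linter.unusedSectionVars false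
open Cfsg

namespace Cfsg.Agent.Lib.Helper4_BG147

open Subgroup Cfsg.Agent.Lib.Helper4_BGConj Cfsg.Agent.Lib.Helper4_BGBasic
  Cfsg.Agent.Lib.Helper4_BGTilde

universe u

variable {G : Type u} [Group G]

/-! ### generalities -/

theorem mem_sup_of_le_normalizer {A B : Subgroup G} (h : A ≤ normalizer (B : Set G)) {z : G}
    (hz : z ∈ A ⊔ B) : ∃ a ∈ A, ∃ b ∈ B, z = a * b := by
  have h1 : z ∈ ((A ⊔ B : Subgroup G) : Set G) := hz
  rw [Subgroup.coe_mul_of_left_le_normalizer_right A B h] at h1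
  obtain ⟨a, ha, b, hb, rfl⟩ := h1
  exact ⟨a, ha, b, hb, rfl⟩

theorem card_mul_relIndex [Finite G] {H K : Subgroup G} (h : H ≤ K) :
    Nat.card ↥H * H.relIndex K = Nat.card ↥K := by
  have h1 := (H.subgroupOf K).card_mul_index
  rw [← h1, Subgroup.relIndex]
  congr 1
  exact (Nat.card_congr (Subgroup.subgroupOfEquivOfLe h).toEquiv).symm

theorem dvd_card_of_isPiHallOf [Finite G] {π : Set ℕ} {H M : Subgroup G} (hH : IsPiHallOf π H M) {p : ℕ}
    (hp : p.Prime) (hpπ : p ∈ π) (hpM : p ∣ Nat.card ↥M) : p ∣ Nat.card ↥H := by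
  rw [← card_mul_relIndex hH.1] at hpM
  rcases (Nat.Prime.dvd_mul hp).mp hpM with h | h
  · exact h
  · exact absurd h (hH.2.2 p hp hpπ)

/-- a `κ(M)`-subgroup meets `M_σ` trivially -/
theorem inf_sigmaCore_eq_bot [Finite G] {M K : Subgroup G} (hK : IsPiHallOf (kappa M) K M) :
    K ⊓ sigmaCore M = ⊥ := by
  rw [eq_bot_iff]
  intro x hx
  rw [mem_bot]
  by_contra hx1
  have h1 : orderOf x ≠ 1 := fun h => hx1 (orderOf_eq_one_iff.mp h)
  obtain ⟨p, hp, hpd⟩ := Nat.exists_prime_and_dvd h1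
  have h2 : p ∈ kappa M := hK.2.1 p hp (hpd.trans (Subgroup.orderOf_dvd_natCard K hx.1))
  have h3 : p ∈ sigma M :=
    mem_sigma_of_dvd_card_sigmaCore M p hp (hpd.trans (Subgroup.orderOf_dvd_natCard _ hx.2))
  exact h2.2.2.1 h3

theorem coprime_card_kappa_sigmaCore [Finite G] {M K : Subgroup G} (hK : IsPiHallOf (kappa M) K M) :
    (Nat.card ↥K).Coprime (Nat.card ↥(sigmaCore M)) := by
  rw [Nat.coprime_iff_gcd_eq_one]
  by_contra hne
  obtain ⟨p, hp, hpd⟩ := Nat.exists_prime_and_dvd hne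
  have h2 : p ∈ kappa M := hK.2.1 p hp (hpd.trans (Nat.gcd_dvd_left _ _))
  have h3 : p ∈ sigma M := mem_sigma_of_dvd_card_sigmaCore M p hp (hpd.trans (Nat.gcd_dvd_right _ _))
  exact h2.2.2.1 h3

/-- the set `Ẑ = KK* - (K ∪ K*)`, in the literal form of the frozen statements -/
abbrev Zhat (K Ks : Subgroup G) : Set G := (↑(K ⊔ Ks) : Set G) \ ((K : Set G) ∪ ↑Ks)

theorem Zhat_comm (K Ks : Subgroup G) : Zhat K Ks = Zhat Ks K := by
  unfold Zhat
  rw [sup_comm, Set.union_comm]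

theorem le_normalizer_of_le_centralizer {K Ks : Subgroup G} (hc : Ks ≤ centralizer (K : Set G)) :
    K ≤ normalizer (Ks : Set G) :=
  (Subgroup.le_centralizer_iff.mp hc).trans (Subgroup.centralizer_le_normalizer _)

theorem mem_Zhat_decomp {K Ks : Subgroup G} (hc : Ks ≤ centralizer (K : Set G)) {z : G}
    (hz : z ∈ Zhat K Ks) : ∃ x ∈ K, x ≠ 1 ∧ ∃ y ∈ Ks, y ≠ 1 ∧ z = x * y ∧ x * y = y * x := by
  obtain ⟨hz1, hz2⟩ := hz
  obtain ⟨x, hx, y, hy, rfl⟩ := mem_sup_of_le_normalizer (le_normalizer_of_le_centralizer hc) hz1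
  have hcomm : x * y = y * x := by
    have := hc hy
    rw [mem_centralizer_iff] at this
    exact (this x hx)
  refine ⟨x, hx, ?_, y, hy, ?_, rfl, hcomm⟩
  · rintro rfl
    apply hz2
    right
    simpa using hy
  · rintro rfl
    apply hz2
    left
    simpa using hx

/-- CRT: for commuting `a`, `r` of coprime orders, `a` is a power of `a r` -/
theorem exists_pow_eq_left {a r : G} (hc : a * r = r * a) (hcop : (orderOf a).Coprime (orderOf r)) :
    ∃ j : ℕ, (a * r) ^ j = a := by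
  obtain ⟨j, hj1, hj2⟩ := Nat.chineseRemainder hcop 1 0
  refine ⟨j, ?_⟩
  have hcm : Commute a r := hc
  rw [hcm.mul_pow]
  have h1 : a ^ j = a ^ 1 := pow_eq_pow_iff_modEq.mpr hj1
  have h2 : r ^ j = r ^ 0 := pow_eq_pow_iff_modEq.mpr hj2
  rw [h1, h2, pow_one, pow_zero, mul_one]

/-- an element of `K × K*` whose order is prime to `|K|` lies in `K*` -/
theorem mem_right_of_coprime [Finite G] {K Ks : Subgroup G} (hc : Ks ≤ centralizer (K : Set G))
    (hKKs : K ⊓ Ks = ⊥) {a : G} (ha : a ∈ K ⊔ Ks) (hcop : (orderOf a).Coprime (Nat.card ↥K)) : a ∈ Ks := by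
  obtain ⟨x, hx, y, hy, rfl⟩ := mem_sup_of_le_normalizer (le_normalizer_of_le_centralizer hc) ha
  have hcomm : Commute x y := by
    have := hc hy
    rw [mem_centralizer_iff] at this
    exact (this x hx)
  set n := orderOf (x * y) with hn
  have h1 : x ^ n * y ^ n = 1 := by rw [← hcomm.mul_pow, hn, pow_orderOf_eq_one]
  have h2 : x ^ n ∈ K ⊓ Ks := by
    refine ⟨K.pow_mem hx n, ?_⟩
    have : x ^ n = (y ^ n)⁻¹ := eq_inv_of_mul_eq_one_left h1
    rw [this]
    exact Ks.inv_mem (Ks.pow_mem hy n)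
  rw [hKKs, mem_bot] at h2
  have h3 : orderOf x ∣ n := orderOf_dvd_of_pow_eq_one h2
  have h4 : orderOf x ∣ Nat.card ↥K := Subgroup.orderOf_dvd_natCard K hx
  have h5 : orderOf x = 1 := Nat.eq_one_of_dvd_coprimes hcop h3 h4
  rw [orderOf_eq_one_iff] at h5
  rw [h5, one_mul]
  exact hy

/-- the coprimality clause of the statement of S1374 -/
def H1374c (G : Type u) [Group G] : Prop :=
  ∀ M : Subgroup G, IsCoatom M → ∀ x : G, x ∈ sigmaCore M → x ≠ 1 →
    (Nat.card ↥(M ⊓ centralizer ({x} : Set G))).Coprime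
      ((M ⊓ centralizer ({x} : Set G)).relIndex (centralizer ({x} : Set G)))

theorem centralizer_singleton_le_zpowers_pow (a : G) (e : ℕ) :
    centralizer ({a} : Set G) ≤ centralizer ((zpowers (a ^ e) : Subgroup G) : Set G) := by
  intro c hc
  rw [mem_centralizer_iff] at hc ⊢
  intro s hs
  obtain ⟨i, rfl⟩ := mem_zpowers_iff.mp hs
  have h1 : Commute a c := hc a (Set.mem_singleton _)
  exact ((h1.pow_left e).zpow_left i)

theorem conj_centralizer_singleton (h a : G) :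
    centralizer ({h * a * h⁻¹} : Set G) = cj h (centralizer ({a} : Set G)) :=
  centralizer_singleton (MulAut.conj h) a

/-- no conjugate of an element of `Ẑ` lies in `M̃` -/
theorem zhat_not_tilde [Finite G] (h74c : H1374c G) (h75 : H1375 G) {M K : Subgroup G} (hM : IsCoatom M)
    (hK : IsPiHallOf (kappa M) K M)
    (hiii : ∀ g : G, g ∉ M → ∀ z ∈ Zhat K (sigmaCore M ⊓ centralizer (K : Set G)), z ∉ cj g M)
    (h31 : ∀ g : G, g ∉ M → (sigmaCore M ⊓ centralizer (K : Set G)) ⊓ cj g M = ⊥)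
    (h67 : ∀ X : Subgroup G, X ≤ sigmaCore M ⊓ centralizer (K : Set G) → (Nat.card X).Prime →
      centralizer (X : Set G) ≤ M)
    (g z : G) (hz : z ∈ Zhat K (sigmaCore M ⊓ centralizer (K : Set G))) :
    g * z * g⁻¹ ∉ tildeOf M ((sigmaCore M : Set G) \ {1}) := by
  rintro ⟨a, ⟨ha, ha1⟩, r, hr, y, hEq⟩
  have ha1' : a ≠ 1 := ha1
  set Ks := sigmaCore M ⊓ centralizer (K : Set G) with hKs
  have hcK : Ks ≤ centralizer (K : Set G) := inf_le_right
  have hKKs : K ⊓ Ks = ⊥ := by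
    rw [eq_bot_iff, ← inf_sigmaCore_eq_bot hK]
    exact inf_le_inf_left K inf_le_left
  set h := y⁻¹ * g with hh
  have hw : h * z * h⁻¹ = a * r := by
    have : h * z * h⁻¹ = y⁻¹ * (g * z * g⁻¹) * y := by rw [hh]; group
    rw [this, hEq]; group
  have haM : a ∈ M := sigmaCore_le M ha
  by_cases hc : centralizer ({a} : Set G) ≤ M
  · -- `R(a) = 1`
    rw [supportR_eq_bot_of_le hc, mem_bot] at hr
    rw [hr, mul_one] at hw
    have h1 : z ∈ cj h⁻¹ M := by
      rw [mem_conj, inv_inv, hw]; exact haM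
    have h2 : h⁻¹ ∈ M := by
      by_contra hne
      exact hiii _ hne z hz h1
    have h3 : z ∈ sigmaCore M := by
      have hz' : z = h⁻¹ * a * h⁻¹⁻¹ := by rw [← hw]; group
      rw [hz']
      exact (mem_normalizer_iff.mp (le_normalizer_sigmaCore M h2) a).mp ha
    obtain ⟨x, hx, hx1, y₀, hy₀, -, rfl, -⟩ := mem_Zhat_decomp hcK hz
    have h4 : x ∈ K ⊓ sigmaCore M := by
      refine ⟨hx, ?_⟩
      have : x = x * y₀ * y₀⁻¹ := by group
      rw [this]
      exact (sigmaCore M).mul_mem h3 ((sigmaCore M).inv_mem hy₀.1)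
    rw [inf_sigmaCore_eq_bot hK, mem_bot] at h4
    exact hx1 h4
  · obtain ⟨N, hN, hxN, huN, hNF, hcompl⟩ := h75 M hM a ha ha1' hc
    rw [supportR_eq_of_unique hc hN hxN huN, ← hNF] at hr
    have hcomm : a * r = r * a := by
      have := (Subgroup.mem_inf.mp hr).2
      rw [mem_centralizer_iff] at this
      exact this a (Set.mem_singleton _)
    have hcop : (orderOf a).Coprime (orderOf r) := by
      have h1 := h74c M hM a ha ha1'
      have h2 : Nat.card ↥(sigmaCore N ⊓ centralizer ({a} : Set G)) =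
          (M ⊓ centralizer ({a} : Set G)).relIndex (centralizer ({a} : Set G)) := by
        have e1 := card_of_isComplIn hcompl
        have e2 := card_mul_relIndex (H := M ⊓ centralizer ({a} : Set G))
          (K := centralizer ({a} : Set G)) inf_le_right
        rw [e1] at e2
        exact (Nat.eq_of_mul_eq_mul_left Nat.card_pos e2).symm
      rw [← h2] at h1
      have h3 : orderOf a ∣ Nat.card ↥(M ⊓ centralizer ({a} : Set G)) := by
        apply Subgroup.orderOf_dvd_natCard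
        refine Subgroup.mem_inf.mpr ⟨haM, ?_⟩
        rw [mem_centralizer_iff]
        intro s hs
        rw [Set.mem_singleton_iff.mp hs]
      have h4 : orderOf r ∣ Nat.card ↥(sigmaCore N ⊓ centralizer ({a} : Set G)) :=
        Subgroup.orderOf_dvd_natCard _ hr
      exact Nat.Coprime.coprime_dvd_left h3 (Nat.Coprime.coprime_dvd_right h4 h1)
    obtain ⟨j, hj⟩ := exists_pow_eq_left hcomm hcop
    -- `a = h z^j h⁻¹`
    have ha' : a = h * z ^ j * h⁻¹ := by
      rw [← hj, ← hw]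
      exact (conj_pow (a := h) (b := z) (i := j)).symm ▸ rfl
    set a' := z ^ j with ha'def
    have ha'Z : a' ∈ K ⊔ Ks := (K ⊔ Ks).pow_mem hz.1 j
    have hord : orderOf a' = orderOf a := by
      rw [ha']
      exact (orderOf_injective (MulAut.conj h).toMonoidHom (MulAut.conj h).injective a').symm
    have ha'Ks : a' ∈ Ks := by
      apply mem_right_of_coprime hcK hKKs ha'Z
      rw [hord]
      have h3 : orderOf a ∣ Nat.card ↥(sigmaCore M) := Subgroup.orderOf_dvd_natCard _ ha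
      exact (Nat.Coprime.coprime_dvd_left h3 (coprime_card_kappa_sigmaCore hK).symm)
    have ha'1 : a' ≠ 1 := by
      intro h1
      apply ha1'
      rw [ha', h1]; group
    have hhM : h⁻¹ ∈ M := by
      by_contra hne
      have h1 : a' ∈ Ks ⊓ cj h⁻¹ M := by
        refine Subgroup.mem_inf.mpr ⟨ha'Ks, ?_⟩
        rw [mem_conj, inv_inv, ← ha']; exact haM
      rw [h31 _ hne, mem_bot] at h1
      exact ha'1 h1
    have hhM' : h ∈ M := by simpa using M.inv_mem hhM
    -- a subgroup of prime order of `K*`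
    have ho1 : orderOf a' ≠ 1 := fun h1 => ha'1 (orderOf_eq_one_iff.mp h1)
    obtain ⟨p, hp, hpd⟩ := Nat.exists_prime_and_dvd ho1
    have ho0 : orderOf a' ≠ 0 := (orderOf_pos a').ne'
    set e := orderOf a' / p with he
    have hXcard : Nat.card ↥(zpowers (a' ^ e)) = p := by
      rw [Nat.card_zpowers]
      exact orderOf_pow_orderOf_div ho0 hpd
    have hXle : zpowers (a' ^ e) ≤ Ks := by
      rw [zpowers_le]
      exact Ks.pow_mem ha'Ks e
    have h5 := h67 _ hXle (by rw [hXcard]; exact hp)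
    have h6 : centralizer ({a'} : Set G) ≤ M := (centralizer_singleton_le_zpowers_pow a' e).trans h5
    apply hc
    rw [ha', conj_centralizer_singleton]
    have h7 : cj h (centralizer ({a'} : Set G)) ≤ cj h M := Subgroup.map_mono h6
    rwa [cj_of_mem hhM'] at h7

/-! ### The hypotheses (statements of frozen rows) -/

/-- the hypotheses on `(M, K, U, M*)` common to S1367, S1369, S1434 -/
structure PPair (M K U Mstar : Subgroup G) : Prop where
  hM : IsCoatom M
  hKU : IsSigmaDecomposition M K U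
  hK1 : K ≠ ⊥
  hMstar : IsCoatom Mstar
  hKst : K = sigmaCore Mstar ⊓
    centralizer ((sigmaCore M ⊓ centralizer (K : Set G) : Subgroup G) : Set G)
  hKstH : IsPiHallOf (kappa Mstar) (sigmaCore M ⊓ centralizer (K : Set G)) Mstar

/-- the union of the conjugates of `Ẑ`, in the literal form of the frozen statements -/
abbrev AZ (K Ks : Subgroup G) : Set G := {a : G | ∃ g : G, ∃ z ∈ Zhat K Ks, a = g * z * g⁻¹}

/-- (part of) the statement of S1434 -/
def H1434 (G : Type u) [Group G] : Prop :=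
  ∀ M K U Mstar : Subgroup G, PPair M K U Mstar →
    IsPiHallOf (sigma M) (sigmaCore M ⊓ centralizer (K : Set G)) Mstar ∧
    (∀ x ∈ K, x ≠ 1 → ∀ y ∈ (sigmaCore M ⊓ centralizer (K : Set G)), y ≠ 1 →
      centralizer ({x * y} : Set G) = K ⊔ (sigmaCore M ⊓ centralizer (K : Set G))) ∧
    (∀ g : G, g ∉ M → ∀ z ∈ Zhat K (sigmaCore M ⊓ centralizer (K : Set G)), z ∉ cj g M) ∧
    Nat.card K * Nat.card ↥(sigmaCore M ⊓ centralizer (K : Set G)) *
        Set.ncard (AZ K (sigmaCore M ⊓ centralizer (K : Set G))) =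
      (Nat.card K * Nat.card ↥(sigmaCore M ⊓ centralizer (K : Set G)) - Nat.card K -
        Nat.card ↥(sigmaCore M ⊓ centralizer (K : Set G)) + 1) * Nat.card G ∧
    Nat.card G < 2 * Set.ncard (AZ K (sigmaCore M ⊓ centralizer (K : Set G)))

/-- the statement of S1367 -/
def H1367 (G : Type u) [Group G] : Prop :=
  ∀ M K U Mstar : Subgroup G, PPair M K U Mstar →
    (∀ X : Subgroup G, X ≤ (sigmaCore M ⊓ centralizer (K : Set G)) → (Nat.card X).Prime →
      centralizer (X : Set G) ≤ M ∧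
        ∀ L : Subgroup G, IsCoatom L → centralizer (X : Set G) ≤ L → L = M) ∧
    (∀ Y : Subgroup G, Y ≤ K → (Nat.card Y).Prime →
      centralizer (Y : Set G) ≤ Mstar ∧
        ∀ L : Subgroup G, IsCoatom L → centralizer (Y : Set G) ≤ L → L = Mstar)

/-- (existence part of) the statement of S1366 -/
def H1366 (G : Type u) [Group G] : Prop :=
  ∀ M K U : Subgroup G, IsCoatom M → IsSigmaDecomposition M K U → K ≠ ⊥ →
    ∃ Mstar : Subgroup G, PPair M K U Mstar

/-- the statement of S1351 -/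
def H1351 (G : Type u) [Group G] : Prop :=
  ∀ M : Subgroup G, IsCoatom M → (∃ K : Subgroup G, IsPiHallOf (kappa M) K M) ∧
    ∀ K : Subgroup G, IsPiHallOf (kappa M) K M → IsCyclic K

/-- (part of) the statement of S1352 -/
def H1352 (G : Type u) [Group G] : Prop :=
  ∀ M K : Subgroup G, IsCoatom M → IsCyclic K → IsPiHallOf (kappa M) K M →
    ∃ U : Subgroup G, IsSigmaDecomposition M K U

/-- (part of) the statement of S1354 -/
def H1354 (G : Type u) [Group G] : Prop :=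
  ∀ M K : Subgroup G, IsCoatom M → IsCyclic K → IsPiHallOf (kappa M) K M →
    sigmaCore M ⊓ centralizer (K : Set G) ≠ ⊥

/-- (part of) the statement of S1431 -/
def H1431 (G : Type u) [Group G] : Prop :=
  ∀ M K : Subgroup G, IsCoatom M → IsPiHallOf (kappa M) K M → K ≠ ⊥ →
    (∀ g : G, g ∉ M → (sigmaCore M ⊓ centralizer (K : Set G)) ⊓ cj g M = ⊥) ∧
    (∀ (p : ℕ), p.Prime → p ∣ Nat.card ↥(sigmaCore M ⊓ centralizer (K : Set G)) →
      ∀ S : Sylow p ↥(sigmaCore M),
        ¬ (S : Subgroup ↥(sigmaCore M)).map (sigmaCore M).subtype ≤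
          (sigmaCore M ⊓ centralizer (K : Set G)))

/-- the statement of S1377 -/
def H1377 (G : Type u) [Group G] : Prop :=
  ∀ M : Subgroup G, IsCoatom M →
    Set.ncard (tildeOf M ((sigmaCore M : Set G) \ {1})) = (Nat.card ↥(sigmaCore M) - 1) * M.index

/-! ### Part (g) -/

theorem exists_mem_inter_of_card [Finite G] {S₁ S₂ : Set G} (h₁ : Nat.card G < 2 * S₁.ncard)
    (h₂ : Nat.card G < 2 * S₂.ncard) : ∃ a, a ∈ S₁ ∧ a ∈ S₂ := by
  by_contra hne
  have hd : Disjoint S₁ S₂ := by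
    rw [Set.disjoint_left]
    intro a h1 h2
    exact hne ⟨a, h1, h2⟩
  have h3 := Set.ncard_union_eq hd (Set.toFinite _) (Set.toFinite _)
  have h4 : (S₁ ∪ S₂).ncard ≤ Nat.card G := by
    rw [← Set.ncard_univ]
    exact Set.ncard_le_ncard (Set.subset_univ _) (Set.toFinite _)
  omega

/-- a subgroup of prime order of `K × K*` lies in `K` or in `K*` -/
theorem le_or_le_of_prime [Finite G] {K Ks X : Subgroup G} (hc : Ks ≤ centralizer (K : Set G))
    (hKKs : K ⊓ Ks = ⊥) (hcop : (Nat.card ↥K).Coprime (Nat.card ↥Ks)) (hX : X ≤ K ⊔ Ks)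
    (hXp : (Nat.card X).Prime) : X ≤ K ∨ X ≤ Ks := by
  have : Fact (Nat.card X).Prime := ⟨hXp⟩
  obtain ⟨w, hw⟩ := isCyclic_iff_exists_zpowers_eq_top.mp (isCyclic_of_prime_card (α := ↥X) rfl)
  have hwX : ∀ x ∈ X, x ∈ zpowers (w : G) := by
    intro x hx
    have : (⟨x, hx⟩ : ↥X) ∈ zpowers w := by rw [hw]; trivial
    obtain ⟨i, hi⟩ := mem_zpowers_iff.mp this
    exact mem_zpowers_iff.mpr ⟨i, by rw [← Subgroup.coe_zpow, hi]⟩
  have hord : orderOf (w : G) ∣ Nat.card X := by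
    exact Subgroup.orderOf_dvd_natCard X w.2
  by_cases h1 : (Nat.card X).Coprime (Nat.card ↥K)
  · right
    have hwKs : (w : G) ∈ Ks := by
      apply mem_right_of_coprime hc hKKs (hX w.2)
      exact Nat.Coprime.coprime_dvd_left hord h1
    intro x hx
    exact (zpowers_le.mpr hwKs) (hwX x hx)
  · left
    have h2 : Nat.card X ∣ Nat.card ↥K := by
      rcases (Nat.coprime_or_dvd_of_prime hXp (Nat.card ↥K)) with h | h
      · exact absurd h h1
      · exact h
    have h3 : (Nat.card X).Coprime (Nat.card ↥Ks) := Nat.Coprime.coprime_dvd_left h2 hcop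
    have hc' : K ≤ centralizer (Ks : Set G) := Subgroup.le_centralizer_iff.mp hc
    have hwK : (w : G) ∈ K := by
      apply mem_right_of_coprime hc' (by rw [inf_comm]; exact hKKs) (by rw [sup_comm]; exact hX w.2)
      exact Nat.Coprime.coprime_dvd_left hord h3
    intro x hx
    exact (zpowers_le.mpr hwK) (hwX x hx)

theorem cj_inv_cj (h : G) (H : Subgroup G) : cj h⁻¹ (cj h H) = H := by
  rw [← cj_mul, inv_mul_cancel, cj_one]

/-- **Bender–Glauberman 14.7(g)**: every maximal subgroup `H` with `κ(H) ≠ ∅` is conjugate to `M` or `M*`. -/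
theorem two_classes [Finite G] (h34 : H1434 G) (h67 : H1367 G) (h66 : H1366 G) (h51 : H1351 G)
    (h52 : H1352 G) (h54 : H1354 G) {M K U Mstar : Subgroup G} (pp : PPair M K U Mstar)
    (H : Subgroup G) (hH : IsCoatom H) (hk : (kappa H).Nonempty) :
    ∃ g : G, H = cj g M ∨ H = cj g Mstar := by
  obtain ⟨⟨KH, hKH⟩, hcyc⟩ := h51 H hH
  have hKHc := hcyc KH hKH
  have hKH1 : KH ≠ ⊥ := by
    obtain ⟨p, hp⟩ := hk
    have h1 : p ∣ Nat.card ↥KH := dvd_card_of_isPiHallOf hKH hp.1 hp hp.2.1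
    intro h
    rw [h, Subgroup.card_bot] at h1
    exact hp.1.one_lt.ne' (Nat.dvd_one.mp h1)
  obtain ⟨UH, hUH⟩ := h52 H KH hH hKHc hKH
  obtain ⟨Hs, ppH⟩ := h66 H KH UH hH hUH hKH1
  have c1 := (h34 _ _ _ _ pp).2.2.2.2
  have c2 := (h34 _ _ _ _ ppH).2.2.2.2
  obtain ⟨t, ht1, ht2⟩ := exists_mem_inter_of_card c1 c2
  obtain ⟨g, z, hz, rfl⟩ := ht1
  obtain ⟨g', z', hz', hEq⟩ := ht2
  set h := g⁻¹ * g' with hh
  have hzz : z = h * z' * h⁻¹ := by
    have : z = g⁻¹ * (g * z * g⁻¹) * g := by group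
    rw [this, hEq, hh]; group
  set Ks := sigmaCore M ⊓ centralizer (K : Set G) with hKs
  set KHs := sigmaCore H ⊓ centralizer (KH : Set G) with hKHs
  have hcK : Ks ≤ centralizer (K : Set G) := inf_le_right
  have hcKH : KHs ≤ centralizer (KH : Set G) := inf_le_right
  obtain ⟨x, hx, hx1, y, hy, hy1, hzxy, -⟩ := mem_Zhat_decomp hcK hz
  obtain ⟨x', hx', hx'1, y', hy', hy'1, hzxy', -⟩ := mem_Zhat_decomp hcKH hz'
  have hC : centralizer ({z} : Set G) = K ⊔ Ks := by
    rw [hzxy]; exact (h34 _ _ _ _ pp).2.1 x hx hx1 y hy hy1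
  have hC' : centralizer ({z'} : Set G) = KH ⊔ KHs := by
    rw [hzxy']; exact (h34 _ _ _ _ ppH).2.1 x' hx' hx'1 y' hy' hy'1
  have hZ : K ⊔ Ks = cj h (KH ⊔ KHs) := by
    rw [← hC, hzz, conj_centralizer_singleton, hC']
  -- a subgroup of prime order of `K_H*`
  have hKHs1 : KHs ≠ ⊥ := h54 H KH hH hKHc hKH
  have hcard1 : Nat.card ↥KHs ≠ 1 := fun h1 => hKHs1 (Subgroup.card_eq_one.mp h1)
  obtain ⟨r, hr, hrd⟩ := Nat.exists_prime_and_dvd hcard1
  have : Fact r.Prime := ⟨hr⟩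
  obtain ⟨w, hw⟩ := exists_prime_orderOf_dvd_card' (G := ↥KHs) r hrd
  have hwo : orderOf (w : G) = r := by rw [Subgroup.orderOf_coe, hw]
  set X' := zpowers (w : G) with hX'
  have hX'card : Nat.card ↥X' = r := by rw [Nat.card_zpowers, hwo]
  have hX'le : X' ≤ KHs := zpowers_le.mpr w.2
  have h1 := ((h67 _ _ _ _ ppH).1 X' hX'le (by rw [hX'card]; exact hr)).1
  set X := cj h X' with hXdef
  have hXcard : Nat.card ↥X = r := by rw [hXdef, card_mp, hX'card]
  have hXle : X ≤ K ⊔ Ks := by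
    rw [hZ]
    exact Subgroup.map_mono (hX'le.trans le_sup_right)
  have hCX : centralizer (X : Set G) ≤ cj h H := by
    rw [hXdef, centralizer_mp]
    exact Subgroup.map_mono h1
  have hco : IsCoatom (cj h H) := isCoatom_mp hH
  have hKKs : K ⊓ Ks = ⊥ := by
    rw [eq_bot_iff, ← inf_sigmaCore_eq_bot pp.hKU.hall]
    exact inf_le_inf_left K inf_le_left
  have hcop : (Nat.card ↥K).Coprime (Nat.card ↥Ks) :=
    Nat.Coprime.coprime_dvd_right (Subgroup.card_dvd_of_le inf_le_left)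
      (coprime_card_kappa_sigmaCore pp.hKU.hall)
  refine ⟨h⁻¹, ?_⟩
  rcases le_or_le_of_prime hcK hKKs hcop hXle (by rw [hXcard]; exact hr) with hXK | hXKs
  · right
    have := ((h67 _ _ _ _ pp).2 X hXK (by rw [hXcard]; exact hr)).2 _ hco hCX
    rw [← this, cj_inv_cj]
  · left
    have := ((h67 _ _ _ _ pp).1 X hXKs (by rw [hXcard]; exact hr)).2 _ hco hCX
    rw [← this, cj_inv_cj]

/-! ### Part (f) -/

/-- the swapped pair `(M*, K*, U*, M)` -/
theorem PPair.swap [Finite G] (h54 : H1354 G) {M K U Mstar Us : Subgroup G} (pp : PPair M K U Mstar)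
    (hUs : IsSigmaDecomposition Mstar (sigmaCore M ⊓ centralizer (K : Set G)) Us) :
    PPair Mstar (sigmaCore M ⊓ centralizer (K : Set G)) Us M := by
  have hK' : sigmaCore Mstar ⊓
      centralizer ((sigmaCore M ⊓ centralizer (K : Set G) : Subgroup G) : Set G) = K := pp.hKst.symm
  refine ⟨pp.hMstar, hUs, h54 M K pp.hM pp.hKU.cyclic pp.hKU.hall, pp.hM, ?_, ?_⟩
  · rw [hK']
  · rw [hK']; exact pp.hKU.hall

theorem sigma_disjoint [Finite G] (h34 : H1434 G) {M K U Mstar : Subgroup G} (pp : PPair M K U Mstar)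
    {p : ℕ} (hp : p ∈ sigma M) (hp' : p ∈ sigma Mstar) : False := by
  have h1 := (h34 _ _ _ _ pp).1
  have h2 : p ∣ Nat.card ↥(sigmaCore M ⊓ centralizer (K : Set G)) :=
    dvd_card_of_isPiHallOf h1 hp.1 hp hp'.2.1
  have h3 : p ∈ kappa Mstar := pp.hKstH.2.1 p hp.1 h2
  exact h3.2.2.1 hp'

theorem conj_mul_eq (y a r : G) : y * (a * r) * y⁻¹ = (y * a * y⁻¹) * (y * r * y⁻¹) := by group

theorem tilde_disjoint [Finite G] (h34 : H1434 G) (h33 : H1433 G) {M K U Mstar : Subgroup G}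
    (pp : PPair M K U Mstar) {t : G} (ht : t ∈ tildeOf M ((sigmaCore M : Set G) \ {1}))
    (ht' : t ∈ tildeOf Mstar ((sigmaCore Mstar : Set G) \ {1})) : False := by
  obtain ⟨a, ⟨ha, ha1⟩, r, hr, y, rfl⟩ := ht
  obtain ⟨a', ⟨ha', ha'1⟩, r', hr', y', hEq⟩ := ht'
  have ha1' : a ≠ 1 := ha1
  have ha'1' : a' ≠ 1 := ha'1
  have hx₁ : y * a * y⁻¹ ∈ sigmaCore (cj y M) := by
    rw [sigmaCore_conj]; exact conj_mem_conj.mpr ha
  have hx₂ : y' * a' * y'⁻¹ ∈ sigmaCore (cj y' Mstar) := by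
    rw [sigmaCore_conj]; exact conj_mem_conj.mpr ha'
  have hr₁ : y * r * y⁻¹ ∈ supportR (cj y M) (y * a * y⁻¹) := by
    rw [supportR_conj]; exact conj_mem_conj.mpr hr
  have hr₂ : y' * r' * y'⁻¹ ∈ supportR (cj y' Mstar) (y' * a' * y'⁻¹) := by
    rw [supportR_conj]; exact conj_mem_conj.mpr hr'
  have hne₁ : y * a * y⁻¹ ≠ 1 := by
    intro h; apply ha1'
    have : a = y⁻¹ * (y * a * y⁻¹) * y := by group
    rw [this, h]; group
  have hne₂ : y' * a' * y'⁻¹ ≠ 1 := by
    intro h; apply ha'1'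
    have : a' = y'⁻¹ * (y' * a' * y'⁻¹) * y' := by group
    rw [this, h]; group
  rw [conj_mul_eq, conj_mul_eq] at hEq
  by_cases hxx : y * a * y⁻¹ = y' * a' * y'⁻¹
  · have ho : orderOf (y * a * y⁻¹) ≠ 1 := fun h => hne₁ (orderOf_eq_one_iff.mp h)
    obtain ⟨p, hp, hpd⟩ := Nat.exists_prime_and_dvd ho
    have h1 : p ∈ sigma (cj y M) :=
      mem_sigma_of_dvd_card_sigmaCore _ p hp (hpd.trans (Subgroup.orderOf_dvd_natCard _ hx₁))
    have h2 : p ∈ sigma (cj y' Mstar) := by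
      apply mem_sigma_of_dvd_card_sigmaCore _ p hp
      rw [hxx] at hpd
      exact hpd.trans (Subgroup.orderOf_dvd_natCard _ hx₂)
    rw [sigma_conj] at h1 h2
    exact sigma_disjoint h34 pp h1 h2
  · exact h33 _ _ (isCoatom_mp pp.hM) (isCoatom_mp pp.hMstar) _ _ hx₁ hx₂ hne₁ hne₂ hxx _ hr₁ _ hr₂ hEq

theorem card_of_U_bot [Finite G] {M K U : Subgroup G} (h : IsSigmaDecomposition M K U) (hU : U = ⊥) :
    Nat.card ↥M = Nat.card ↥K * Nat.card ↥(sigmaCore M) := by
  have h1 := card_of_isComplIn h.compl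
  rw [hU, Subgroup.card_bot, one_mul] at h1
  rw [h1]
  apply card_of_isComplIn
  have hn : K ≤ normalizer ((sigmaCore M : Subgroup G) : Set G) :=
    h.hall.1.trans (le_normalizer_sigmaCore M)
  refine ⟨le_sup_left, le_sup_right, inf_sigmaCore_eq_bot h.hall, ?_⟩
  intro m hm
  exact mem_sup_of_le_normalizer hn hm

/-- `|M_σ| ≥ 3|K*|` -/
theorem three_mul_card_le [Finite G] (hG : IsMinSimpleOddOrder G) (h31 : H1431 G) {M K : Subgroup G}
    (hM : IsCoatom M) (hK : IsPiHallOf (kappa M) K M) (hK1 : K ≠ ⊥)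
    (hKs1 : sigmaCore M ⊓ centralizer (K : Set G) ≠ ⊥) :
    3 * Nat.card ↥(sigmaCore M ⊓ centralizer (K : Set G)) ≤ Nat.card ↥(sigmaCore M) := by
  set Ks := sigmaCore M ⊓ centralizer (K : Set G) with hKs
  have hle : Ks ≤ sigmaCore M := inf_le_left
  obtain ⟨t, ht⟩ := Subgroup.card_dvd_of_le hle
  have hodd : Odd (Nat.card ↥(sigmaCore M)) :=
    Odd.of_dvd_nat hG.1 (Subgroup.card_subgroup_dvd_card _)
  have hks : 0 < Nat.card ↥Ks := Nat.card_pos
  have ht1 : t ≠ 1 := by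
    intro h1
    rw [h1, mul_one] at ht
    have heq : Ks = sigmaCore M := by
      apply Subgroup.eq_of_le_of_card_ge hle
      rw [ht]
    have hc1 : Nat.card ↥Ks ≠ 1 := fun h => hKs1 (Subgroup.card_eq_one.mp h)
    obtain ⟨p, hp, hpd⟩ := Nat.exists_prime_and_dvd hc1
    have : Fact p.Prime := ⟨hp⟩
    obtain ⟨S⟩ : Nonempty (Sylow p ↥(sigmaCore M)) := inferInstance
    apply (h31 M K hM hK hK1).2 p hp hpd S
    rw [← hKs, heq]
    exact Subgroup.map_subtype_le _
  have ht0 : t ≠ 0 := by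
    intro h0
    rw [h0, mul_zero] at ht
    have : 0 < Nat.card ↥(sigmaCore M) := Nat.card_pos
    omega
  have ht2 : t ≠ 2 := by
    intro h2
    rw [ht, h2] at hodd
    exact (Nat.not_odd_iff_even.mpr (even_two.mul_left _)) hodd
  have ht3 : 3 ≤ t := by omega
  rw [ht]
  calc 3 * Nat.card ↥Ks = Nat.card ↥Ks * 3 := by ring
    _ ≤ Nat.card ↥Ks * t := Nat.mul_le_mul_left _ ht3

/-- the final arithmetic -/
theorem arith_contra {k ks m ms N i j a b c : ℕ} (hk : 2 ≤ k) (hks : 2 ≤ ks) (hm : 3 * ks ≤ m)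
    (hms : 3 * k ≤ ms) (hN : 0 < N) (hi : k * m * i = N) (hj : ks * ms * j = N)
    (ha : k * ks * a = (k * ks - k - ks + 1) * N) (hb : b = (m - 1) * i) (hc : c = (ms - 1) * j)
    (hsum : a + b + c ≤ N) : False := by
  have hkk : k + ks ≤ k * ks := by nlinarith
  have hm1 : 1 ≤ m := by omega
  have hms1 : 1 ≤ ms := by omega
  have ha' : ((k : ℤ) * ks) * a = ((k : ℤ) * ks - k - ks + 1) * N := by
    have e : ((k * ks - k - ks : ℕ) : ℤ) = (k : ℤ) * ks - k - ks := by
      rw [Nat.sub_sub, Nat.cast_sub hkk]; push_cast; ring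
    have := congrArg (fun n : ℕ => (n : ℤ)) ha
    simp only [Nat.cast_mul, Nat.cast_add, Nat.cast_one] at this
    rw [e] at this
    exact this
  have hb' : (b : ℤ) = ((m : ℤ) - 1) * i := by
    rw [hb]; push_cast [Nat.cast_sub hm1]; ring
  have hc' : (c : ℤ) = ((ms : ℤ) - 1) * j := by
    rw [hc]; push_cast [Nat.cast_sub hms1]; ring
  have hi' : (k : ℤ) * m * i = N := by exact_mod_cast hi
  have hj' : (ks : ℤ) * ms * j = N := by exact_mod_cast hj
  have hsum' : (a : ℤ) + b + c ≤ N := by exact_mod_cast hsum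
  have hm' : 3 * (ks : ℤ) ≤ m := by exact_mod_cast hm
  have hms' : 3 * (k : ℤ) ≤ ms := by exact_mod_cast hms
  have hN' : (0 : ℤ) < N := by exact_mod_cast hN
  have hk0 : (0 : ℤ) ≤ k := by positivity
  have hks0 : (0 : ℤ) ≤ ks := by positivity
  have hi0 : (0 : ℤ) ≤ i := by positivity
  have hj0 : (0 : ℤ) ≤ j := by positivity
  -- `K b = ks N - K i`, `K c = k N - K j`
  have e1 : ((k : ℤ) * ks) * b = ks * N - (k : ℤ) * ks * i := by rw [hb', ← hi']; ring
  have e2 : ((k : ℤ) * ks) * c = k * N - (k : ℤ) * ks * j := by rw [hc', ← hj']; ring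
  have e3 : ((k : ℤ) * ks) * (a + b + c) ≤ (k : ℤ) * ks * N :=
    mul_le_mul_of_nonneg_left hsum' (by positivity)
  have e4 : (N : ℤ) ≤ (k : ℤ) * ks * i + (k : ℤ) * ks * j := by
    have e5 : ((k : ℤ) * ks) * (a + b + c) = (k : ℤ) * ks * a + (k : ℤ) * ks * b + (k : ℤ) * ks * c := by
      ring
    have e6 : ((k : ℤ) * ks - k - ks + 1) * N = (k : ℤ) * ks * N - k * N - ks * N + N := by ring
    rw [e5, ha', e1, e2, e6] at e3
    linarith
  have e7 : 3 * ((k : ℤ) * ks * i) ≤ N := by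
    have h1 : (0 : ℤ) ≤ k * i := by positivity
    have h2 := mul_le_mul_of_nonneg_right hm' h1
    have h3 : (m : ℤ) * (k * i) = N := by rw [← hi']; ring
    have h4 : 3 * (ks : ℤ) * (k * i) = 3 * ((k : ℤ) * ks * i) := by ring
    rw [h3, h4] at h2
    exact h2
  have e8 : 3 * ((k : ℤ) * ks * j) ≤ N := by
    have h1 : (0 : ℤ) ≤ ks * j := by positivity
    have h2 := mul_le_mul_of_nonneg_right hms' h1
    have h3 : (ms : ℤ) * (ks * j) = N := by rw [← hj']; ring
    have h4 : 3 * (k : ℤ) * (ks * j) = 3 * ((k : ℤ) * ks * j) := by ring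
    rw [h3, h4] at h2
    exact h2
  linarith

/-- **Bender–Glauberman 14.7(f)**: `M` or `M*` is of type `P₂`. -/
theorem P2_or [Finite G] (hG : IsMinSimpleOddOrder G) (h34 : H1434 G) (h67 : H1367 G) (h54 : H1354 G)
    (h31 : H1431 G) (h77 : H1377 G) (h33 : H1433 G) (h74c : H1374c G) (h75 : H1375 G)
    {M K U Mstar : Subgroup G} (pp : PPair M K U Mstar) :
    U ≠ ⊥ ∨ ∀ Us : Subgroup G,
      IsSigmaDecomposition Mstar (sigmaCore M ⊓ centralizer (K : Set G)) Us → Us ≠ ⊥ := by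
  by_contra hcon
  push Not at hcon
  obtain ⟨hU, Us, hUs, hUs1⟩ := hcon
  set Ks := sigmaCore M ⊓ centralizer (K : Set G) with hKs
  have pp' : PPair Mstar Ks Us M := pp.swap h54 hUs
  have hK' : sigmaCore Mstar ⊓ centralizer (Ks : Set G) = K := pp.hKst.symm
  have hKs1 : Ks ≠ ⊥ := pp'.hK1
  -- the three sets
  set A := AZ K Ks with hA
  set B := tildeOf M ((sigmaCore M : Set G) \ {1}) with hB
  set C := tildeOf Mstar ((sigmaCore Mstar : Set G) \ {1}) with hC
  have hAB : Disjoint A B := by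
    rw [Set.disjoint_left]
    rintro t ⟨g, z, hz, rfl⟩ htB
    exact zhat_not_tilde h74c h75 pp.hM pp.hKU.hall (h34 _ _ _ _ pp).2.2.1
      (h31 M K pp.hM pp.hKU.hall pp.hK1).1 (fun X hX hp => ((h67 _ _ _ _ pp).1 X hX hp).1) g z hz htB
  have hAC : Disjoint A C := by
    rw [Set.disjoint_left]
    rintro t ⟨g, z, hz, rfl⟩ htC
    have hz' : z ∈ Zhat Ks (sigmaCore Mstar ⊓ centralizer (Ks : Set G)) := by
      rw [hK', Zhat_comm]; exact hz
    exact zhat_not_tilde h74c h75 pp'.hM pp'.hKU.hall (h34 _ _ _ _ pp').2.2.1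
      (h31 Mstar Ks pp'.hM pp'.hKU.hall pp'.hK1).1
      (fun X hX hp => ((h67 _ _ _ _ pp').1 X hX hp).1) g z hz' htC
  have hBC : Disjoint B C := by
    rw [Set.disjoint_left]
    intro t htB htC
    exact tilde_disjoint h34 h33 pp htB htC
  have hsum : A.ncard + B.ncard + C.ncard ≤ Nat.card G := by
    have h1 : Disjoint (A ∪ B) C := Set.disjoint_union_left.mpr ⟨hAC, hBC⟩
    rw [← Set.ncard_union_eq hAB (Set.toFinite _) (Set.toFinite _),
      ← Set.ncard_union_eq h1 (Set.toFinite _) (Set.toFinite _), ← Set.ncard_univ]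
    exact Set.ncard_le_ncard (Set.subset_univ _) (Set.toFinite _)
  have hk : 2 ≤ Nat.card ↥K := by
    have := (Subgroup.one_lt_card_iff_ne_bot (H := K)).mpr pp.hK1
    omega
  have hks : 2 ≤ Nat.card ↥Ks := by
    have := (Subgroup.one_lt_card_iff_ne_bot (H := Ks)).mpr hKs1
    omega
  have hm := three_mul_card_le hG h31 pp.hM pp.hKU.hall pp.hK1 hKs1
  have hms : 3 * Nat.card ↥K ≤ Nat.card ↥(sigmaCore Mstar) := by
    have := three_mul_card_le hG h31 pp'.hM pp'.hKU.hall pp'.hK1 (by rw [hK']; exact pp.hK1)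
    rwa [hK'] at this
  have hi : Nat.card ↥K * Nat.card ↥(sigmaCore M) * M.index = Nat.card G := by
    rw [← card_of_U_bot pp.hKU hU]; exact M.card_mul_index
  have hj : Nat.card ↥Ks * Nat.card ↥(sigmaCore Mstar) * Mstar.index = Nat.card G := by
    rw [← card_of_U_bot pp'.hKU hUs1]; exact Mstar.card_mul_index
  exact arith_contra hk hks hm hms Nat.card_pos hi hj (h34 _ _ _ _ pp).2.2.2.1 (h77 M pp.hM)
    (h77 Mstar pp.hMstar) hsum

/-- **Bender–Glauberman 14.7(f),(g)** in the form of S1369. -/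
theorem main [Finite G] (hG : IsMinSimpleOddOrder G) (h34 : H1434 G) (h67 : H1367 G) (h66 : H1366 G)
    (h51 : H1351 G) (h52 : H1352 G) (h54 : H1354 G) (h31 : H1431 G) (h77 : H1377 G) (h33 : H1433 G)
    (h74c : H1374c G) (h75 : H1375 G) {M K U Mstar : Subgroup G} (pp : PPair M K U Mstar) :
    (U ≠ ⊥ ∨ ∀ Us : Subgroup G,
      IsSigmaDecomposition Mstar (sigmaCore M ⊓ centralizer (K : Set G)) Us → Us ≠ ⊥) ∧
    ∀ H : Subgroup G, IsCoatom H → (kappa H).Nonempty → ∃ g : G, H = cj g M ∨ H = cj g Mstar :=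
  ⟨P2_or hG h34 h67 h54 h31 h77 h33 h74c h75 pp, two_classes h34 h67 h66 h51 h52 h54 pp⟩

end Cfsg.Agent.Lib.Helper4_BG147
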