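import Mathlib
import Cfsg.Prelude.Def_OddOrderLocal
import Cfsg.Prelude.Def_OddOrder
import Cfsg.Agent.Lib.Helper34_BG147a
import Cfsg.Agent.Lib.Helper4_BG147

/-!
# Bender–Glauberman Theorem 14.7 without cyclicity, part (b): the clique of `Z` (helper34)

For a fixed subgroup `Z`, the *clique* of `Z` is the set of maximal subgroups `V` carrying a vertex
`(V, T)` with `T ⊔ kst V T = Z`.  Distinct members are non-conjugate, have disjoint `σ`, meet in `Z`;
every subgroup of prime order of `Z` lies in `A_V = V_σ ∩ Z` for some member `V`.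
The set `Ẑ = Z ∖ ⋃ A_V` is a TI-subset with normalizer `Z`.
-/

set_option autoImplicit false
set_option linter.unusedSectionVars false
set_option linter.unusedVariables false

namespace Cfsg.Agent.Lib.Helper34_BG147b

open Subgroup Cfsg Cfsg.Agent.Lib.Helper22_Radical Cfsg.Agent.Lib.Helper25_BG14a
  Cfsg.Agent.Lib.Helper25_BGHyp Cfsg.Agent.Lib.Helper25_BG147 Cfsg.Agent.Lib.Helper34_BG147a

universe u

variable {G : Type u} [Group G] [Finite G]

/-- `V` belongs to the clique of `Z` -/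
def InClique (Z V : Subgroup G) : Prop := ∃ T : Subgroup G, Vtx V T ∧ T ⊔ kst V T = Z

/-- `A_V = V_σ ∩ Z` -/
abbrev AZ (Z V : Subgroup G) : Subgroup G := sigmaCore V ⊓ Z

theorem AZ_eq {Z V T : Subgroup G} (h : Vtx V T) (hZ : T ⊔ kst V T = Z) : AZ Z V = kst V T := by
  unfold AZ
  rw [← hZ]
  exact h.sigmaCore_inf_Z

/-- distinct members of a clique have disjoint `σ` -/
theorem sigma_disjoint (h30 : H1430 G) (h31 : H1431 G) (hSD : SigmaDisj G)
    {Z V T V' T' : Subgroup G} (h : Vtx V T) (hZ : T ⊔ kst V T = Z)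
    (h' : Vtx V' T') (hZ' : T' ⊔ kst V' T' = Z) (hne : V' ≠ V) :
    ∀ q : ℕ, q ∈ sigma V → q ∈ sigma V' → False := by
  intro q hqV hqV'
  obtain ⟨g, hg⟩ := hSD V V' h.co h'.co ⟨q, hqV, hqV'⟩
  apply hne
  have hσ : sigma V' = sigma V := by rw [hg]; exact sigma_cj g V
  have h1 : kst V' T' ≤ kst V T := by
    apply h.le_kst_of_sigma
    · rw [hZ, ← hZ']; exact le_sup_right
    · intro p hp hpd
      rw [← hσ]
      exact h'.sigma_of_dvd_kst hp hpd
  exact eq_of_le_sigmaCore h31 hSD h h1 (kst_ne_bot h30 h'.co h'.hall h'.ne) h'.co inf_le_left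

/-- for distinct members `V`, `V'` of a clique, `A_{V'} ≤ T_V` -/
theorem kst_le_T (h30 : H1430 G) (h31 : H1431 G) (hSD : SigmaDisj G)
    {Z V T V' T' : Subgroup G} (h : Vtx V T) (hZ : T ⊔ kst V T = Z)
    (h' : Vtx V' T') (hZ' : T' ⊔ kst V' T' = Z) (hne : V' ≠ V) : kst V' T' ≤ T := by
  apply h.le_T_of_not_sigma
  · rw [hZ, ← hZ']; exact le_sup_right
  · intro p hp hpd hpV
    exact sigma_disjoint h30 h31 hSD h hZ h' hZ' hne p hpV (h'.sigma_of_dvd_kst hp hpd)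

/-- a nontrivial subgroup has a subgroup of prime order -/
theorem exists_prime_le {H : Subgroup G} (hH : H ≠ ⊥) :
    ∃ X : Subgroup G, X ≤ H ∧ (Nat.card X).Prime := by
  obtain ⟨y, hy, hy1⟩ := exists_mem_ne_one hH
  obtain ⟨X, hXy, hXp⟩ := exists_prime_le_zpowers hy1
  exact ⟨X, hXy.trans (by rw [zpowers_le]; exact hy), hXp⟩

theorem ne_bot_of_prime_card {X : Subgroup G} (hXp : (Nat.card X).Prime) : X ≠ ⊥ := by
  intro hX
  rw [hX, Subgroup.card_bot] at hXp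
  exact Nat.not_prime_one hXp

/-- distinct members of a clique meet in `Z` -/
theorem inf_eq_Z (hG : IsMinSimpleOddOrder G) (h30 : H1430 G) (h31 : H1431 G) (h32 : H1432 G)
    (hSD : SigmaDisj G) {Z V T V' T' : Subgroup G} (h : Vtx V T) (hZ : T ⊔ kst V T = Z)
    (h' : Vtx V' T') (hZ' : T' ⊔ kst V' T' = Z) (hne : V' ≠ V) : V ⊓ V' = Z := by
  obtain ⟨X, hXA, hXp⟩ := exists_prime_le (kst_ne_bot h30 h'.co h'.hall h'.ne)
  have hXT : X ≤ T := hXA.trans (kst_le_T h30 h31 hSD h hZ h' hZ' hne)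
  have hX1 : X ≠ ⊥ := ne_bot_of_prime_card hXp
  obtain ⟨L, hL, hNL⟩ := exists_coatom_normalizer hG h.co (hXT.trans h.T_le) hX1
  obtain ⟨-, TL, hL', hZL, hXB, hVL⟩ := partner hG h30 h31 h32 hSD h hXT hXp hL hNL
  have hLV' : L = V' := eq_of_le_sigmaCore h31 hSD h' hXA hX1 hL (hXB.trans inf_le_left)
  rw [← hLV', hVL, hZ]

/-- every subgroup of prime order of `Z` lies in `A_V` for some member `V` of the clique -/
theorem exists_vtx_of_prime (hG : IsMinSimpleOddOrder G) (h30 : H1430 G) (h31 : H1431 G)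
    (h32 : H1432 G) (hSD : SigmaDisj G) {Z V T : Subgroup G} (h : Vtx V T)
    (hZ : T ⊔ kst V T = Z) {X : Subgroup G} (hXZ : X ≤ Z) (hXp : (Nat.card X).Prime) :
    ∃ V' T' : Subgroup G, Vtx V' T' ∧ T' ⊔ kst V' T' = Z ∧ X ≤ kst V' T' := by
  rcases h.prime_le (hZ ▸ hXZ) hXp with hXT | hXA
  · have hX1 : X ≠ ⊥ := ne_bot_of_prime_card hXp
    obtain ⟨L, hL, hNL⟩ := exists_coatom_normalizer hG h.co (hXT.trans h.T_le) hX1
    obtain ⟨-, TL, hL', hZL, hXB, -⟩ := partner hG h30 h31 h32 hSD h hXT hXp hL hNL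
    exact ⟨L, TL, hL', hZL.trans hZ, hXB⟩
  · exact ⟨V, T, h, hZ, hXA⟩


/-! ### the set `Ẑ` -/

/-- `Ẑ`: the elements of `Z` lying in no `A_V` -/
def Zhat (Z : Subgroup G) : Set G :=
  {z | z ∈ Z ∧ ∀ V T : Subgroup G, Vtx V T → T ⊔ kst V T = Z → z ∉ kst V T}

/-- from S1431 (a): an element conjugating a nonidentity element of `A` into `V` lies in `V` -/
theorem mem_of_conj_mem (h31 : H1431 G) {V T : Subgroup G} (h : Vtx V T) {w : G}
    (hw : w ∈ kst V T) (hw1 : w ≠ 1) {g : G} (hg : g * w * g⁻¹ ∈ V) : g ∈ V := by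
  have hgi : g⁻¹ ∈ V := by
    by_contra hgi
    have h1 := (h31 V h.co T h.hall h.ne).1 g⁻¹ hgi
    have h2 : w ∈ kst V T ⊓ V.map (MulAut.conj g⁻¹).toMonoidHom := by
      refine Subgroup.mem_inf.mpr ⟨hw, ?_⟩
      show w ∈ cj g⁻¹ V
      rw [mem_cj, inv_inv]
      exact hg
    rw [h1, Subgroup.mem_bot] at h2
    exact hw1 h2
  simpa using V.inv_mem hgi

omit [Finite G] in
theorem conj_pow' (g z : G) (n : ℕ) : g * z ^ n * g⁻¹ = (g * z * g⁻¹) ^ n := by
  rw [conj_pow]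

omit [Finite G] in
theorem orderOf_conj' (g z : G) : orderOf (g * z * g⁻¹) = orderOf z := by
  have hsc : SemiconjBy g z (g * z * g⁻¹) := by
    unfold SemiconjBy; group
  exact hsc.orderOf_eq.symm

omit [Finite G] in
theorem conj_ne_one {g z : G} (hz : z ≠ 1) : g * z * g⁻¹ ≠ 1 := by
  intro hh
  apply hz
  have : z = g⁻¹ * (g * z * g⁻¹) * g := by group
  rw [this, hh]
  group

/-- an element of `Ẑ` has nonidentity powers in `A_V`, `A_{V'}` for two distinct members of the clique -/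
theorem zhat_two (hG : IsMinSimpleOddOrder G) (h30 : H1430 G) (h31 : H1431 G)
    (h32 : H1432 G) (hSD : SigmaDisj G) {Z V₀ T₀ : Subgroup G} (h₀ : Vtx V₀ T₀)
    (hZ₀ : T₀ ⊔ kst V₀ T₀ = Z) {z : G} (hz : z ∈ Zhat Z) :
    ∃ V T V' T' : Subgroup G, Vtx V T ∧ T ⊔ kst V T = Z ∧ Vtx V' T' ∧ T' ⊔ kst V' T' = Z ∧
      V' ≠ V ∧ ∃ n n' : ℕ, z ^ n ∈ kst V T ∧ z ^ n ≠ 1 ∧ z ^ n' ∈ kst V' T' ∧ z ^ n' ≠ 1 := by
  obtain ⟨hzZ, hzn⟩ := hz
  have hz1 : z ≠ 1 := by
    rintro rfl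
    exact hzn V₀ T₀ h₀ hZ₀ (one_mem _)
  have ho : orderOf z ≠ 0 := (orderOf_pos z).ne'
  have ho1 : orderOf z ≠ 1 := fun h => hz1 (orderOf_eq_one_iff.mp h)
  -- a prime-order power for each prime divisor
  have key : ∀ p : ℕ, p.Prime → p ∣ orderOf z →
      ∃ V T : Subgroup G, Vtx V T ∧ T ⊔ kst V T = Z ∧ z ^ (orderOf z / p) ∈ kst V T ∧
        z ^ (orderOf z / p) ≠ 1 ∧ p ∈ sigma V := by
    intro p hp hpd
    have hord : orderOf (z ^ (orderOf z / p)) = p := orderOf_pow_orderOf_div ho hpd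
    have hXp : (Nat.card (zpowers (z ^ (orderOf z / p)))).Prime := by
      rw [Nat.card_zpowers, hord]; exact hp
    have hXZ : zpowers (z ^ (orderOf z / p)) ≤ Z := by
      rw [zpowers_le]; exact Z.pow_mem hzZ _
    obtain ⟨V, T, hV, hZV, hX⟩ := exists_vtx_of_prime hG h30 h31 h32 hSD h₀ hZ₀ hXZ hXp
    have hmem : z ^ (orderOf z / p) ∈ kst V T := hX (mem_zpowers _)
    refine ⟨V, T, hV, hZV, hmem, ?_, ?_⟩
    · intro h1
      rw [h1, orderOf_one] at hord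
      exact hp.one_lt.ne hord
    · apply hV.sigma_of_dvd_kst hp
      rw [← hord]
      exact orderOf_dvd_card_of_mem hmem
  obtain ⟨p, hp, hpd⟩ := Nat.exists_prime_and_dvd ho1
  obtain ⟨V, T, hV, hZV, hm, hm1, hpV⟩ := key p hp hpd
  -- a prime `q` of `o(z)` outside `σ(V)`
  have hq : ∃ q : ℕ, q.Prime ∧ q ∣ orderOf z ∧ q ∉ sigma V := by
    by_contra hcon
    push Not at hcon
    exact hzn V T hV hZV (hV.mem_kst_of_sigma (hZV ▸ hzZ) hcon)
  obtain ⟨q, hq, hqd, hqV⟩ := hq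
  obtain ⟨V', T', hV', hZV', hm', hm1', hqV'⟩ := key q hq hqd
  refine ⟨V, T, V', T', hV, hZV, hV', hZV', ?_, _, _, hm, hm1, hm', hm1'⟩
  rintro rfl
  exact hqV hqV'

/-- `Ẑ` is a TI-subset with normalizer in `Z` -/
theorem zhat_TI (hG : IsMinSimpleOddOrder G) (h30 : H1430 G) (h31 : H1431 G)
    (h32 : H1432 G) (hSD : SigmaDisj G) {Z V₀ T₀ : Subgroup G} (h₀ : Vtx V₀ T₀)
    (hZ₀ : T₀ ⊔ kst V₀ T₀ = Z) (g : G) {z : G} (hz : z ∈ Zhat Z) (hgz : g * z * g⁻¹ ∈ Zhat Z) :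
    g ∈ Z := by
  obtain ⟨V, T, V', T', hV, hZV, hV', hZV', hne, n, n', hm, hm1, hm', hm1'⟩ :=
    zhat_two hG h30 h31 h32 hSD h₀ hZ₀ hz
  have aux : ∀ (W S : Subgroup G), Vtx W S → S ⊔ kst W S = Z → ∀ k : ℕ, z ^ k ∈ kst W S →
      z ^ k ≠ 1 → g ∈ W := by
    intro W S hW hZW k hk hk1
    have h1 : g * z ^ k * g⁻¹ ∈ Z := by
      rw [conj_pow']; exact Z.pow_mem hgz.1 k
    have h2 : g * z ^ k * g⁻¹ ∈ kst W S := by
      apply hW.mem_kst_of_sigma (hZW ▸ h1)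
      intro p hp hpd
      rw [orderOf_conj'] at hpd
      exact hW.sigma_of_dvd_kst hp (hpd.trans (orderOf_dvd_card_of_mem hk))
    exact mem_of_conj_mem h31 hW hk hk1 (kst_le W S h2)
  have hgV : g ∈ V := aux V T hV hZV n hm hm1
  have hgV' : g ∈ V' := aux V' T' hV' hZV' n' hm' hm1'
  rw [← inf_eq_Z hG h30 h31 h32 hSD hV hZV hV' hZV' hne]
  exact Subgroup.mem_inf.mpr ⟨hgV, hgV'⟩

/-- `Z` normalizes `Ẑ` -/
theorem zhat_inv {Z : Subgroup G} {g : G} (hg : g ∈ Z) {z : G} (hz : z ∈ Zhat Z) :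
    g * z * g⁻¹ ∈ Zhat Z := by
  refine ⟨Z.mul_mem (Z.mul_mem hg hz.1) (Z.inv_mem hg), ?_⟩
  intro V T hV hZV hmem
  apply hz.2 V T hV hZV
  have hgi : g⁻¹ ∈ normalizer (kst V T : Set G) := hV.Z_le_normalizer_kst (hZV ▸ Z.inv_mem hg)
  have h1 := (mem_normalizer_iff.mp hgi (g * z * g⁻¹)).mp hmem
  have : g⁻¹ * (g * z * g⁻¹) * g⁻¹⁻¹ = z := by group
  rwa [this] at h1

/-- the class support of `Ẑ` has `|G : Z| |Ẑ|` elements -/
theorem card_zhat_support (hG : IsMinSimpleOddOrder G) (h30 : H1430 G) (h31 : H1431 G)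
    (h32 : H1432 G) (hSD : SigmaDisj G) {Z V₀ T₀ : Subgroup G} (h₀ : Vtx V₀ T₀)
    (hZ₀ : T₀ ⊔ kst V₀ T₀ = Z) :
    Nat.card Z * Set.ncard {a : G | ∃ g : G, ∃ z ∈ Zhat Z, a = g * z * g⁻¹} =
      Nat.card G * Set.ncard (Zhat Z) :=
  card_classSupport Z (Zhat Z)
    (fun g z hz hgz => zhat_TI hG h30 h31 h32 hSD h₀ hZ₀ g hz hgz)
    (fun g hg z hz => zhat_inv hg hz)

/-- no conjugate of an element of `Z ∖ A_V` lies in `Ṽ` -/
theorem not_tilde (h31 : H1431 G) (h74c : Cfsg.Agent.Lib.Helper4_BG147.H1374c G)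
    (h75 : Cfsg.Agent.Lib.Helper4_BGTilde.H1375 G) {V T : Subgroup G} (h : Vtx V T) {z : G}
    (hz : z ∈ T ⊔ kst V T) (hzA : z ∉ kst V T) (g : G) :
    g * z * g⁻¹ ∉ tildeOf V ((sigmaCore V : Set G) \ {1}) := by
  rintro ⟨a, ⟨ha, ha1⟩, r, hr, y, hEq⟩
  have ha1' : a ≠ 1 := ha1
  set k := y⁻¹ * g with hk
  have hw : k * z * k⁻¹ = a * r := by
    have : k * z * k⁻¹ = y⁻¹ * (g * z * g⁻¹) * y := by rw [hk]; group
    rw [this, hEq]; group
  have haV : a ∈ V := sigmaCore_le V ha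
  have hσa : ∀ p : ℕ, p.Prime → p ∣ orderOf a → p ∈ sigma V := fun p hp hpd =>
    Cfsg.Agent.Lib.Helper70_BG1012.card_sigmaCore_mem V p hp
      (hpd.trans (orderOf_dvd_card_of_mem ha))
  by_cases hc : centralizer ({a} : Set G) ≤ V
  · rw [Cfsg.Agent.Lib.Helper4_BGConj.supportR_eq_bot_of_le hc, mem_bot] at hr
    rw [hr, mul_one] at hw
    apply hzA
    apply h.mem_kst_of_sigma hz
    intro p hp hpd
    rw [← orderOf_conj' k z, hw] at hpd
    exact hσa p hp hpd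
  · obtain ⟨N, hN, hxN, huN, hNF, hcompl⟩ := h75 V h.co a ha ha1' hc
    rw [Cfsg.Agent.Lib.Helper4_BGConj.supportR_eq_of_unique hc hN hxN huN, ← hNF] at hr
    have hcomm : a * r = r * a := by
      have := (Subgroup.mem_inf.mp hr).2
      rw [mem_centralizer_iff] at this
      exact this a (Set.mem_singleton _)
    have hcop : (orderOf a).Coprime (orderOf r) := by
      have h1 := h74c V h.co a ha ha1'
      have h2 : Nat.card ↥(sigmaCore N ⊓ centralizer ({a} : Set G)) =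
          (V ⊓ centralizer ({a} : Set G)).relIndex (centralizer ({a} : Set G)) := by
        have e1 := Cfsg.Agent.Lib.Helper4_BGBasic.card_of_isComplIn hcompl
        have e2 := Cfsg.Agent.Lib.Helper4_BG147.card_mul_relIndex
          (H := V ⊓ centralizer ({a} : Set G)) (K := centralizer ({a} : Set G)) inf_le_right
        rw [e1] at e2
        exact (Nat.eq_of_mul_eq_mul_left Nat.card_pos e2).symm
      rw [← h2] at h1
      have h3 : orderOf a ∣ Nat.card ↥(V ⊓ centralizer ({a} : Set G)) := by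
        apply Subgroup.orderOf_dvd_natCard
        refine Subgroup.mem_inf.mpr ⟨haV, ?_⟩
        rw [mem_centralizer_iff]
        intro s hs
        rw [Set.mem_singleton_iff.mp hs]
      have h4 : orderOf r ∣ Nat.card ↥(sigmaCore N ⊓ centralizer ({a} : Set G)) :=
        Subgroup.orderOf_dvd_natCard _ hr
      exact Nat.Coprime.coprime_dvd_left h3 (Nat.Coprime.coprime_dvd_right h4 h1)
    obtain ⟨j, hj⟩ := Cfsg.Agent.Lib.Helper4_BG147.exists_pow_eq_left hcomm hcop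
    have ha' : a = k * z ^ j * k⁻¹ := by
      rw [← hj, ← hw, conj_pow']
    set a' := z ^ j with ha'def
    have ha'Z : a' ∈ T ⊔ kst V T := Subgroup.pow_mem _ hz j
    have hord : orderOf a' = orderOf a := by
      rw [ha', orderOf_conj']
    have ha'A : a' ∈ kst V T := by
      apply h.mem_kst_of_sigma ha'Z
      intro p hp hpd
      rw [hord] at hpd
      exact hσa p hp hpd
    have ha'1 : a' ≠ 1 := by
      intro h1
      apply ha1'
      rw [ha', h1]; group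
    have hkV : k ∈ V := mem_of_conj_mem h31 h ha'A ha'1 (ha' ▸ haV)
    have h6 : centralizer ({a'} : Set G) ≤ V :=
      centralizer_le_of_mem_kst h31 h.co h.hall h.ne ha'A ha'1
    apply hc
    rw [ha', Cfsg.Agent.Lib.Helper4_BG147.conj_centralizer_singleton]
    have h7 : cj k (centralizer ({a'} : Set G)) ≤ cj k V := Subgroup.map_mono h6
    rwa [cj_eq_of_mem_normalizer (le_normalizer hkV)] at h7

end Cfsg.Agent.Lib.Helper34_BG147b
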