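import Mathlib
import Cfsg.Prelude.Def_OddOrderLocal
import Cfsg.Prelude.Def_OddOrder
import Cfsg.Agent.Lib.Helper34_BG147b
import Cfsg.Agent.Lib.Helper79_BGTilde

/-!
# Bender–Glauberman Theorem 14.7 without cyclicity, part (c): the count (helper34)

If every member of the clique of `Z` is of type `P₁` (`V = T V_σ`), then counting the sets `Ṽ` and the
class support of `Ẑ` gives a contradiction as soon as the clique has two members.
-/

set_option autoImplicit false
set_option linter.unusedSectionVars false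
set_option linter.unusedVariables false

namespace Cfsg.Agent.Lib.Helper34_BG147c

open Subgroup Cfsg Cfsg.Agent.Lib.Helper22_Radical Cfsg.Agent.Lib.Helper25_BG14a
  Cfsg.Agent.Lib.Helper25_BGHyp Cfsg.Agent.Lib.Helper25_BG147 Cfsg.Agent.Lib.Helper34_BG147a
  Cfsg.Agent.Lib.Helper34_BG147b

universe u

variable {G : Type u} [Group G] [Finite G]

/-! ### generalities -/

theorem ncard_biUnion_finset {ι α : Type*} [Finite α] (s : Finset ι) (f : ι → Set α)
    (hd : ∀ i ∈ s, ∀ j ∈ s, i ≠ j → Disjoint (f i) (f j)) :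
    (⋃ i ∈ s, f i).ncard = ∑ i ∈ s, (f i).ncard := by
  classical
  induction s using Finset.induction_on with
  | empty => simp
  | insert a s ha ih =>
    rw [Finset.set_biUnion_insert, Finset.sum_insert ha]
    rw [Set.ncard_union_eq, ih]
    · intro i hi j hj hij
      exact hd i (Finset.mem_insert_of_mem hi) j (Finset.mem_insert_of_mem hj) hij
    · rw [Set.disjoint_iUnion₂_right]
      intro i hi
      apply hd a (Finset.mem_insert_self a s) i (Finset.mem_insert_of_mem hi)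
      rintro rfl
      exact ha hi

/-- `V` is of type `P₁` (or `F`): every prime divisor of `|V|` lies in `σ(V) ∪ κ(V)` -/
def IsP1 (V : Subgroup G) : Prop :=
  ∀ q : ℕ, q.Prime → q ∣ Nat.card V → q ∈ sigma V ∨ q ∈ kappa V

/-- `|V| = |T| |V_σ|` for a vertex of type `P₁` -/
theorem card_P1 (hσ : Cfsg.Agent.Lib.Helper34_BG16a.HσHall G) {V T : Subgroup G} (h : Vtx V T)
    (hP : IsP1 V) : Nat.card V = Nat.card T * Nat.card (sigmaCore V) := by
  have ks := Cfsg.Agent.Lib.Helper34_BG16a.ks_of hσ h.co h.hall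
  have hH := ks.hall_sup
  rw [← ks.card_sup]
  have hdvd : Nat.card ↥(T ⊔ sigmaCore V) ∣ Nat.card V := Subgroup.card_dvd_of_le ks.sup_le
  obtain ⟨c, hc⟩ := hdvd
  have hpos : 0 < Nat.card ↥(T ⊔ sigmaCore V) := Nat.card_pos
  have hc1 : c = 1 := by
    by_contra hne
    obtain ⟨p, hp, hpd⟩ := Nat.exists_prime_and_dvd hne
    have hpV : p ∣ Nat.card V := by rw [hc]; exact hpd.mul_left _
    have hmem : p ∈ kappa V ∪ sigma V := by
      rcases hP p hp hpV with h1 | h1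
      · exact Or.inr h1
      · exact Or.inl h1
    apply hH.2.2 p hp hmem
    rw [hc, Nat.mul_div_cancel_left _ hpos]
    exact hpd
  rw [hc, hc1, mul_one]

/-- `|V_σ| ≥ 3 |A|` -/
theorem three_mul_card_le (hG : IsMinSimpleOddOrder G) (h30 : H1430 G) (h31 : H1431 G)
    {V T : Subgroup G} (h : Vtx V T) :
    3 * Nat.card (kst V T) ≤ Nat.card (sigmaCore V) := by
  set Ks := kst V T with hKs
  have hle : Ks ≤ sigmaCore V := inf_le_left
  obtain ⟨t, ht⟩ := Subgroup.card_dvd_of_le hle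
  have hodd : Odd (Nat.card ↥(sigmaCore V)) :=
    Odd.of_dvd_nat hG.1 (Subgroup.card_subgroup_dvd_card _)
  have hks : 0 < Nat.card ↥Ks := Nat.card_pos
  have hKs1 : Ks ≠ ⊥ := kst_ne_bot h30 h.co h.hall h.ne
  have ht1 : t ≠ 1 := by
    intro h1
    rw [h1, mul_one] at ht
    have heq : Ks = sigmaCore V := by
      apply Subgroup.eq_of_le_of_card_ge hle
      rw [ht]
    have hc1 : Nat.card ↥Ks ≠ 1 := fun h => hKs1 (Subgroup.card_eq_one.mp h)
    obtain ⟨p, hp, hpd⟩ := Nat.exists_prime_and_dvd hc1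
    have : Fact p.Prime := ⟨hp⟩
    obtain ⟨S⟩ : Nonempty (Sylow p ↥(sigmaCore V)) := inferInstance
    apply ((h31 V h.co T h.hall h.ne).2.2.1 p hp hpd S).2.2
    show _ ≤ Ks
    rw [heq]
    exact Subgroup.map_subtype_le _
  have ht0 : t ≠ 0 := by
    intro h0
    rw [h0, mul_zero] at ht
    have : 0 < Nat.card ↥(sigmaCore V) := Nat.card_pos
    omega
  have ht2 : t ≠ 2 := by
    intro h2
    rw [ht, h2] at hodd
    exact (Nat.not_odd_iff_even.mpr (even_two.mul_left _)) hodd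
  have ht3 : 3 ≤ t := by omega
  rw [ht]
  calc 3 * Nat.card ↥Ks = Nat.card ↥Ks * 3 := by ring
    _ ≤ Nat.card ↥Ks * t := Nat.mul_le_mul_left _ ht3

/-- the contribution of `Ṽ` for a vertex of type `P₁` -/
theorem tilde_ineq (hG : IsMinSimpleOddOrder G) (h30 : H1430 G) (h31 : H1431 G)
    (hσ : Cfsg.Agent.Lib.Helper34_BG16a.HσHall G)
    (hTil : ∀ M : Subgroup G, IsCoatom M →
      Set.ncard (tildeOf M ((sigmaCore M : Set G) \ {1})) = (Nat.card ↥(sigmaCore M) - 1) * M.index)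
    {V T : Subgroup G} (h : Vtx V T) (hP : IsP1 V) :
    Nat.card G * (3 * (Nat.card (kst V T) - 1) + 2) ≤
      3 * Nat.card (T ⊔ kst V T : Subgroup G) *
        Set.ncard (tildeOf V ((sigmaCore V : Set G) \ {1})) := by
  rw [hTil V h.co, ← h.card_Z, ← V.index_mul_card, card_P1 hσ h hP]
  have h3 := three_mul_card_le hG h30 h31 h
  have ha : 0 < Nat.card (kst V T) := Nat.card_pos
  have hs : 0 < Nat.card (sigmaCore V) := Nat.card_pos
  obtain ⟨a, ha'⟩ : ∃ a, Nat.card (kst V T) = a + 1 := ⟨Nat.card (kst V T) - 1, by omega⟩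
  obtain ⟨s, hs'⟩ : ∃ s, Nat.card (sigmaCore V) = s + 1 := ⟨Nat.card (sigmaCore V) - 1, by omega⟩
  rw [ha', hs'] at h3
  rw [ha', hs']
  simp only [Nat.add_sub_cancel]
  have key : (s + 1) * (3 * a + 2) ≤ 3 * (a + 1) * s := by nlinarith
  calc V.index * (Nat.card T * (s + 1)) * (3 * a + 2)
      = V.index * Nat.card T * ((s + 1) * (3 * a + 2)) := by ring
    _ ≤ V.index * Nat.card T * (3 * (a + 1) * s) := Nat.mul_le_mul_left _ key
    _ = 3 * (Nat.card T * (a + 1)) * (s * V.index) := by ring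


/-! ### the clique as a finset -/

/-- the clique of `Z` as a finset -/
noncomputable def cliqueF (Z : Subgroup G) : Finset (Subgroup G) :=
  (Set.toFinite {V : Subgroup G | InClique Z V}).toFinset

theorem mem_cliqueF {Z V : Subgroup G} : V ∈ cliqueF Z ↔ InClique Z V := by
  unfold cliqueF
  simp

/-- `Z = Ẑ ⊔ {1} ⊔ ⨆ (A_V ∖ 1)` -/
theorem card_Z_decomp (h30 : H1430 G) (h31 : H1431 G) (hSD : SigmaDisj G)
    {Z V₀ T₀ : Subgroup G} (h₀ : Vtx V₀ T₀) (hZ₀ : T₀ ⊔ kst V₀ T₀ = Z) :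
    (Zhat Z).ncard + 1 + ∑ V ∈ cliqueF Z, (Nat.card (AZ Z V) - 1) = Nat.card Z := by
  classical
  have hset : (Z : Set G) =
      (Zhat Z ∪ {1}) ∪ ⋃ V ∈ cliqueF Z, ((AZ Z V : Set G) \ {1}) := by
    ext z
    simp only [Set.mem_union, Set.mem_iUnion, Set.mem_sdiff, Set.mem_singleton_iff, SetLike.mem_coe,
      exists_prop]
    constructor
    · intro hz
      by_cases hz1 : z = 1
      · exact Or.inl (Or.inr hz1)
      by_cases hex : ∃ V T : Subgroup G, Vtx V T ∧ T ⊔ kst V T = Z ∧ z ∈ kst V T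
      · obtain ⟨V, T, hV, hZV, hzA⟩ := hex
        right
        refine ⟨V, mem_cliqueF.mpr ⟨T, hV, hZV⟩, ?_, hz1⟩
        rw [AZ_eq hV hZV]
        exact hzA
      · left; left
        refine ⟨hz, ?_⟩
        intro V T hV hZV hzA
        exact hex ⟨V, T, hV, hZV, hzA⟩
    · rintro ((hz | hz) | ⟨V, -, hz, -⟩)
      · exact hz.1
      · rw [hz]; exact Z.one_mem
      · exact hz.2
  have hcard : Nat.card Z = (Z : Set G).ncard := (Nat.card_coe_set_eq (Z : Set G))
  rw [hcard, hset]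
  have hd1 : Disjoint (Zhat Z) ({1} : Set G) := by
    rw [Set.disjoint_singleton_right]
    intro h1
    exact h1.2 V₀ T₀ h₀ hZ₀ (one_mem _)
  have hd2 : Disjoint (Zhat Z ∪ {1}) (⋃ V ∈ cliqueF Z, ((AZ Z V : Set G) \ {1})) := by
    rw [Set.disjoint_iUnion₂_right]
    intro V hV
    obtain ⟨T, hVT, hZV⟩ := mem_cliqueF.mp hV
    rw [Set.disjoint_left]
    rintro z (hz | hz) ⟨hzA, hz1⟩
    · apply hz.2 V T hVT hZV
      rw [← AZ_eq hVT hZV]
      exact hzA
    · exact hz1 hz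
  have hd3 : ∀ V ∈ cliqueF Z, ∀ V' ∈ cliqueF Z, V ≠ V' →
      Disjoint ((AZ Z V : Set G) \ {1}) ((AZ Z V' : Set G) \ {1}) := by
    intro V hV V' hV' hne
    obtain ⟨T, hVT, hZV⟩ := mem_cliqueF.mp hV
    obtain ⟨T', hVT', hZV'⟩ := mem_cliqueF.mp hV'
    rw [Set.disjoint_left]
    rintro z ⟨hzA, hz1⟩ ⟨hzA', -⟩
    apply hz1
    exact sigmaCore_inf_eq_bot (sigma_disjoint h30 h31 hSD hVT hZV hVT' hZV' (Ne.symm hne))
      hzA.1 hzA'.1
  rw [Set.ncard_union_eq hd2, Set.ncard_union_eq hd1, Set.ncard_singleton,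
    ncard_biUnion_finset _ _ hd3]
  congr 1
  apply Finset.sum_congr rfl
  intro V hV
  rw [Set.ncard_sdiff_singleton_of_mem (show (1 : G) ∈ (AZ Z V : Set G) from (AZ Z V).one_mem)]
  rfl

/-- members of a clique are pairwise non-conjugate -/
theorem not_conj (h30 : H1430 G) (h31 : H1431 G) (hSD : SigmaDisj G)
    {Z V T V' T' : Subgroup G} (h : Vtx V T) (hZ : T ⊔ kst V T = Z)
    (h' : Vtx V' T') (hZ' : T' ⊔ kst V' T' = Z) (hne : V' ≠ V) (g : G) : V' ≠ cj g V := by
  intro hg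
  obtain ⟨X, hXA, hXp⟩ := exists_prime_le (kst_ne_bot h30 h.co h.hall h.ne)
  have hq : Nat.card X ∈ sigma V := h.sigma_of_dvd_kst hXp (Subgroup.card_dvd_of_le hXA)
  have hq' : Nat.card X ∈ sigma V' := by rw [hg, sigma_cj]; exact hq
  exact sigma_disjoint h30 h31 hSD h hZ h' hZ' hne _ hq hq'

/-- the class support of `Ẑ` -/
def supp (Z : Subgroup G) : Set G := {a : G | ∃ g : G, ∃ z ∈ Zhat Z, a = g * z * g⁻¹}

/-- the sets `Ṽ` and the class support of `Ẑ` are pairwise disjoint -/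
theorem card_le (h30 : H1430 G) (h31 : H1431 G) (hSD : SigmaDisj G)
    (h33 : Cfsg.Agent.Lib.Helper79_BGTilde.Hyp1433 G)
    (h78 : Cfsg.Agent.Lib.Helper79_BGTilde.Hyp1378 G)
    (h74c : Cfsg.Agent.Lib.Helper4_BG147.H1374c G)
    (h75 : Cfsg.Agent.Lib.Helper4_BGTilde.H1375 G) (Z : Subgroup G) :
    (supp Z).ncard + ∑ V ∈ cliqueF Z, (tildeOf V ((sigmaCore V : Set G) \ {1})).ncard ≤
      Nat.card G := by
  classical
  have hd3 : ∀ V ∈ cliqueF Z, ∀ V' ∈ cliqueF Z, V ≠ V' →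
      Disjoint (tildeOf V ((sigmaCore V : Set G) \ {1}))
        (tildeOf V' ((sigmaCore V' : Set G) \ {1})) := by
    intro V hV V' hV' hne
    obtain ⟨T, hVT, hZV⟩ := mem_cliqueF.mp hV
    obtain ⟨T', hVT', hZV'⟩ := mem_cliqueF.mp hV'
    rw [Set.disjoint_iff_inter_eq_empty]
    exact Cfsg.Agent.Lib.Helper79_BGTilde.tilde_disjoint h33 h78 hVT.co hVT'.co
      (fun g => not_conj h30 h31 hSD hVT hZV hVT' hZV' (Ne.symm hne) g)
  have hd2 : Disjoint (supp Z) (⋃ V ∈ cliqueF Z, tildeOf V ((sigmaCore V : Set G) \ {1})) := by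
    rw [Set.disjoint_iUnion₂_right]
    intro V hV
    obtain ⟨T, hVT, hZV⟩ := mem_cliqueF.mp hV
    rw [Set.disjoint_left]
    rintro a ⟨g, z, hz, rfl⟩ hat
    exact not_tilde h31 h74c h75 hVT (hZV ▸ hz.1) (hz.2 V T hVT hZV) g hat
  rw [← ncard_biUnion_finset _ _ hd3, ← Set.ncard_union_eq hd2]
  exact Set.ncard_le_card _


/-- the clique of a vertex has at least two members -/
theorem two_le_card_clique (hG : IsMinSimpleOddOrder G) (h30 : H1430 G) (h31 : H1431 G)
    (h32 : H1432 G) (hSD : SigmaDisj G) {Z V₀ T₀ : Subgroup G} (h₀ : Vtx V₀ T₀)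
    (hZ₀ : T₀ ⊔ kst V₀ T₀ = Z) : 2 ≤ (cliqueF Z).card := by
  obtain ⟨X, hXT, hXp⟩ := exists_prime_le h₀.ne
  have hX1 : X ≠ ⊥ := ne_bot_of_prime_card hXp
  obtain ⟨L, hL, hNL⟩ := exists_coatom_normalizer hG h₀.co (hXT.trans h₀.T_le) hX1
  obtain ⟨hnc, TL, hL', hZL, -, -⟩ := partner hG h30 h31 h32 hSD h₀ hXT hXp hL hNL
  have hne : L ≠ V₀ := fun hh => hnc 1 (by rw [cj_one']; exact hh)
  have h1 : V₀ ∈ cliqueF Z := mem_cliqueF.mpr ⟨T₀, h₀, hZ₀⟩
  have h2 : L ∈ cliqueF Z := mem_cliqueF.mpr ⟨TL, hL', hZL.trans hZ₀⟩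
  exact Finset.one_lt_card.mpr ⟨L, h2, V₀, h1, hne⟩

/-- **The count.**  A clique all of whose members are of type `P₁` does not exist. -/
theorem count_contra (hG : IsMinSimpleOddOrder G) (h30 : H1430 G) (h31 : H1431 G)
    (h32 : H1432 G) (hSD : SigmaDisj G)
    (hσ : Cfsg.Agent.Lib.Helper34_BG16a.HσHall G)
    (hTil : ∀ M : Subgroup G, IsCoatom M →
      Set.ncard (tildeOf M ((sigmaCore M : Set G) \ {1})) = (Nat.card ↥(sigmaCore M) - 1) * M.index)
    (h33 : Cfsg.Agent.Lib.Helper79_BGTilde.Hyp1433 G)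
    (h78 : Cfsg.Agent.Lib.Helper79_BGTilde.Hyp1378 G)
    (h74c : Cfsg.Agent.Lib.Helper4_BG147.H1374c G)
    (h75 : Cfsg.Agent.Lib.Helper4_BGTilde.H1375 G)
    {Z V₀ T₀ : Subgroup G} (h₀ : Vtx V₀ T₀) (hZ₀ : T₀ ⊔ kst V₀ T₀ = Z)
    (hP : ∀ V T : Subgroup G, Vtx V T → T ⊔ kst V T = Z → IsP1 V) : False := by
  have hN := two_le_card_clique hG h30 h31 h32 hSD h₀ hZ₀
  have hc := card_zhat_support hG h30 h31 h32 hSD h₀ hZ₀
  have hdec := card_Z_decomp h30 h31 hSD h₀ hZ₀
  have hle := card_le h30 h31 hSD h33 h78 h74c h75 Z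
  have hV : ∀ V ∈ cliqueF Z, Nat.card G * (3 * (Nat.card (AZ Z V) - 1) + 2) ≤
      3 * Nat.card Z * (tildeOf V ((sigmaCore V : Set G) \ {1})).ncard := by
    intro V hV
    obtain ⟨T, hVT, hZV⟩ := mem_cliqueF.mp hV
    have := tilde_ineq hG h30 h31 hσ hTil hVT (hP V T hVT hZV)
    rw [AZ_eq hVT hZV]
    rw [hZV] at this
    exact this
  have hsum := Finset.sum_le_sum hV
  have hg : 0 < Nat.card G := Nat.card_pos
  set g := Nat.card G with hgdef
  set z := Nat.card Z with hzdef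
  set zh := (Zhat Z).ncard with hzh
  set S1 := ∑ V ∈ cliqueF Z, (Nat.card (AZ Z V) - 1) with hS1
  set S2 := ∑ V ∈ cliqueF Z, (tildeOf V ((sigmaCore V : Set G) \ {1})).ncard with hS2
  set N := (cliqueF Z).card with hNdef
  have e1 : ∑ V ∈ cliqueF Z, g * (3 * (Nat.card (AZ Z V) - 1) + 2) = g * (3 * S1 + 2 * N) := by
    rw [← Finset.mul_sum, Finset.sum_add_distrib, ← Finset.mul_sum, Finset.sum_const, smul_eq_mul]
    ring
  have e2 : ∑ V ∈ cliqueF Z, 3 * z * (tildeOf V ((sigmaCore V : Set G) \ {1})).ncard =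
      3 * z * S2 := by
    rw [← Finset.mul_sum]
  rw [e1, e2] at hsum
  have hc' : z * (supp Z).ncard = g * zh := hc
  set c := (supp Z).ncard with hcdef
  -- `3z(c + S2) ≤ 3zg`
  have h1 : 3 * z * (c + S2) ≤ 3 * z * g := Nat.mul_le_mul_left _ hle
  have h2 : 3 * z * (c + S2) = 3 * (g * zh) + 3 * z * S2 := by rw [← hc']; ring
  have h3 : 3 * z * g = g * (3 * zh + 3 + 3 * S1) := by rw [← hdec]; ring
  have h4 : g * (3 * zh + 3 * S1 + 2 * N) ≤ g * (3 * zh + 3 + 3 * S1) := by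
    calc g * (3 * zh + 3 * S1 + 2 * N) = 3 * (g * zh) + g * (3 * S1 + 2 * N) := by ring
      _ ≤ 3 * (g * zh) + 3 * z * S2 := Nat.add_le_add_left hsum _
      _ = 3 * z * (c + S2) := h2.symm
      _ ≤ 3 * z * g := h1
      _ = g * (3 * zh + 3 + 3 * S1) := h3
  have h5 := Nat.le_of_mul_le_mul_left h4 hg
  omega


/-! ### the Hall `κ(M)`-subgroups are cyclic -/

/-- the nilpotency clause of S1429, as a hypothesis -/
def HNil (G : Type u) [Group G] : Prop :=
  ∀ M : Subgroup G, IsCoatom M →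
    (∃ p : ℕ, p.Prime ∧ p ∣ Nat.card M ∧ p ∉ sigma M ∧ p ∉ kappa M) →
    Group.IsNilpotent (sigmaCore M)

/-- a Hall `κ(M)`-subgroup has cyclic Sylow subgroups -/
theorem isZGroup_of_kappaHall {M K : Subgroup G} (hK : IsPiHallOf (kappa M) K M) : IsZGroup K := by
  constructor
  intro p hp P
  have : Fact p.Prime := ⟨hp⟩
  by_cases hpd : p ∣ Nat.card K
  · have hpκ : p ∈ kappa M := hK.2.1 p hp hpd
    let f : K →* M := Subgroup.inclusion hK.1
    have hf : Function.Injective f := Subgroup.inclusion_injective hK.1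
    have hP' : IsPGroup p ((P : Subgroup K).map f) := P.2.map f
    obtain ⟨Q, hQ⟩ := hP'.exists_le_sylow
    have hQc : IsCyclic (Q : Subgroup M) := (hpκ.2.2.2 Q).1
    have h1 : IsCyclic (((P : Subgroup K).map f).subgroupOf (Q : Subgroup M)) := Subgroup.isCyclic _
    have h2 : IsCyclic ((P : Subgroup K).map f) :=
      isCyclic_of_surjective _ (Subgroup.subgroupOfEquivOfLe hQ).surjective
    exact isCyclic_of_surjective _ ((P : Subgroup K).equivMapOfInjective f hf).symm.surjective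
  · have h1 : Nat.card (P : Subgroup K) = 1 := by
      obtain ⟨n, hn⟩ := IsPGroup.iff_card.mp P.2
      have : n = 0 := by
        by_contra hn0
        apply hpd
        have h2 : p ∣ Nat.card (P : Subgroup K) := by rw [hn]; exact dvd_pow_self p hn0
        exact h2.trans (Subgroup.card_subgroup_dvd_card _)
      rw [hn, this, pow_zero]
    have : Subsingleton (P : Subgroup K) := (Nat.card_eq_one_iff_unique.mp h1).1
    infer_instance

/-- **Every nontrivial Hall `κ(M)`-subgroup is cyclic.** -/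
theorem kappaHall_cyclic (hG : IsMinSimpleOddOrder G) (h30 : H1430 G) (h31 : H1431 G)
    (h32 : H1432 G) (hSD : SigmaDisj G)
    (hσ : Cfsg.Agent.Lib.Helper34_BG16a.HσHall G)
    (hTil : ∀ M : Subgroup G, IsCoatom M →
      Set.ncard (tildeOf M ((sigmaCore M : Set G) \ {1})) = (Nat.card ↥(sigmaCore M) - 1) * M.index)
    (h33 : Cfsg.Agent.Lib.Helper79_BGTilde.Hyp1433 G)
    (h78 : Cfsg.Agent.Lib.Helper79_BGTilde.Hyp1378 G)
    (h74c : Cfsg.Agent.Lib.Helper4_BG147.H1374c G)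
    (h75 : Cfsg.Agent.Lib.Helper4_BGTilde.H1375 G) (hnil : HNil G)
    {M K : Subgroup G} (h : Vtx M K) : IsCyclic K := by
  by_cases hP : ∀ V T : Subgroup G, Vtx V T → T ⊔ kst V T = K ⊔ kst M K → IsP1 V
  · exact (count_contra hG h30 h31 h32 hSD hσ hTil h33 h78 h74c h75 h rfl hP).elim
  · push Not at hP
    obtain ⟨V, T, hV, hZV, hnP⟩ := hP
    unfold IsP1 at hnP
    push Not at hnP
    obtain ⟨q, hq, hqd, hqσ, hqκ⟩ := hnP
    have hTp : (Nat.card T).Prime :=
      Cfsg.Agent.Lib.Helper34_BG16b.card_kappaHall_prime hG hσ h30 hV.co hV.hall hV.ne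
        ⟨q, hq, hqd, hqσ, hqκ⟩
    by_cases hVM : V = M
    · subst hVM
      have hcard : Nat.card K = Nat.card T :=
        Cfsg.Agent.Lib.Helper24_CoprimeHall.PiHall.card_eq
          ((Cfsg.Agent.Lib.Helper24_CoprimeHall.isPiHallOf_iff _ _ _).mp h.hall)
          ((Cfsg.Agent.Lib.Helper24_CoprimeHall.isPiHallOf_iff _ _ _).mp hV.hall)
      have : Fact (Nat.card K).Prime := ⟨hcard ▸ hTp⟩
      exact isCyclic_of_prime_card rfl
    · -- `K* = T` has prime order, `K = A_V ≤ V_σ`, and `V_σ` is nilpotent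
      have h1 : kst M K ≤ T := kst_le_T h30 h31 hSD hV hZV h rfl (Ne.symm hVM)
      have h2 : kst V T ≤ K := kst_le_T h30 h31 hSD h rfl hV hZV hVM
      have h3 : Nat.card (kst M K) = Nat.card T := by
        have hd : Nat.card (kst M K) ∣ Nat.card T := Subgroup.card_dvd_of_le h1
        rcases (Nat.dvd_prime hTp).mp hd with h' | h'
        · exact absurd (Subgroup.card_eq_one.mp h') (kst_ne_bot h30 h.co h.hall h.ne)
        · exact h'
      have h4 : Nat.card K = Nat.card (kst V T) := by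
        have e1 := h.card_Z
        have e2 := hV.card_Z
        rw [hZV, ← e1, h3] at e2
        have hT0 : 0 < Nat.card T := Nat.card_pos
        have : Nat.card T * Nat.card (kst V T) = Nat.card T * Nat.card K := by
          rw [e2]; ring
        exact (Nat.eq_of_mul_eq_mul_left hT0 this).symm
      have h5 : kst V T = K := Subgroup.eq_of_le_of_card_ge h2 (le_of_eq h4)
      have hKle : K ≤ sigmaCore V := by rw [← h5]; exact inf_le_left
      have : Group.IsNilpotent (sigmaCore V) := hnil V hV.co ⟨q, hq, hqd, hqσ, hqκ⟩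
      have : Group.IsNilpotent (K.subgroupOf (sigmaCore V)) := inferInstance
      have : Group.IsNilpotent K :=
        Group.nilpotent_of_mulEquiv (Subgroup.subgroupOfEquivOfLe hKle)
      have : IsZGroup K := isZGroup_of_kappaHall h.hall
      infer_instance


/-- the conclusion of the frozen statement S1351 -/
theorem statement_S1351 (hG : IsMinSimpleOddOrder G) (h30 : H1430 G) (h31 : H1431 G)
    (h32 : H1432 G) (hSD : SigmaDisj G)
    (hσ : Cfsg.Agent.Lib.Helper34_BG16a.HσHall G)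
    (hTil : ∀ M : Subgroup G, IsCoatom M →
      Set.ncard (tildeOf M ((sigmaCore M : Set G) \ {1})) = (Nat.card ↥(sigmaCore M) - 1) * M.index)
    (h33 : Cfsg.Agent.Lib.Helper79_BGTilde.Hyp1433 G)
    (h78 : Cfsg.Agent.Lib.Helper79_BGTilde.Hyp1378 G)
    (h74c : Cfsg.Agent.Lib.Helper4_BG147.H1374c G)
    (h75 : Cfsg.Agent.Lib.Helper4_BGTilde.H1375 G) (hnil : HNil G)
    (M : Subgroup G) (hM : IsCoatom M) :
    (∃ K : Subgroup G, IsPiHallOf (kappa M) K M) ∧
      ∀ K : Subgroup G, IsPiHallOf (kappa M) K M → IsCyclic K := by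
  constructor
  · obtain ⟨K, hK⟩ := Cfsg.Agent.Lib.Helper24_CoprimeHall.exists_piHall (kappa M) M
      (Cfsg.Agent.Lib.Helper34_BG16a.solv hG hM)
    exact ⟨K, (Cfsg.Agent.Lib.Helper24_CoprimeHall.isPiHallOf_iff _ _ _).mpr hK⟩
  · intro K hK
    by_cases hK1 : K = ⊥
    · rw [hK1]
      exact inferInstance
    · exact kappaHall_cyclic hG h30 h31 h32 hSD hσ hTil h33 h78 h74c h75 hnil ⟨hM, hK, hK1⟩

end Cfsg.Agent.Lib.Helper34_BG147c
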