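import Mathlib
import Cfsg.Prelude.Def_OddOrderLocal
import Cfsg.Prelude.Def_OddOrder
import Cfsg.Agent.Lib.Helper34_BG147c

/-!
# Bender–Glauberman Theorem 14.7 (a), (b): the partner `M*` (helper34)

For a vertex `(M, K)` there is exactly one maximal subgroup `M*` with `K = M*_σ ∩ C(K*)` and
`K* = M_σ ∩ C(K)` a Hall `κ(M*)`-subgroup of `M*` (frozen statement S1366).  Existence uses the count
(`count_contra`): some member of the clique is not of type `P₁`, its `T` has prime order, and then the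
clique has exactly two members.
-/

set_option autoImplicit false
set_option linter.unusedSectionVars false
set_option linter.unusedVariables false

namespace Cfsg.Agent.Lib.Helper34_BG147d

open Subgroup Cfsg Cfsg.Agent.Lib.Helper22_Radical Cfsg.Agent.Lib.Helper25_BG14a
  Cfsg.Agent.Lib.Helper25_BGHyp Cfsg.Agent.Lib.Helper25_BG147 Cfsg.Agent.Lib.Helper34_BG147a
  Cfsg.Agent.Lib.Helper34_BG147b Cfsg.Agent.Lib.Helper34_BG147c

universe u

variable {G : Type u} [Group G] [Finite G]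

/-- in a clique, a member `(V, T)` with `|T|` prime and any other member `(V', T')` are dual:
`A_{V'} = T` and `T' = A_V` -/
theorem prime_pair (h30 : H1430 G) (h31 : H1431 G) (hSD : SigmaDisj G)
    {Z V T V' T' : Subgroup G} (h : Vtx V T) (hZ : T ⊔ kst V T = Z)
    (h' : Vtx V' T') (hZ' : T' ⊔ kst V' T' = Z) (hne : V' ≠ V) (hTp : (Nat.card T).Prime) :
    kst V' T' = T ∧ T' = kst V T := by
  have h1 : kst V' T' ≤ T := kst_le_T h30 h31 hSD h hZ h' hZ' hne
  have h2 : kst V T ≤ T' := kst_le_T h30 h31 hSD h' hZ' h hZ (Ne.symm hne)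
  have h3 : Nat.card (kst V' T') = Nat.card T := by
    have hd : Nat.card (kst V' T') ∣ Nat.card T := Subgroup.card_dvd_of_le h1
    rcases (Nat.dvd_prime hTp).mp hd with hh | hh
    · exact absurd (Subgroup.card_eq_one.mp hh) (kst_ne_bot h30 h'.co h'.hall h'.ne)
    · exact hh
  have h4 : kst V' T' = T := Subgroup.eq_of_le_of_card_ge h1 (le_of_eq h3.symm)
  refine ⟨h4, ?_⟩
  have e1 := h.card_Z
  have e2 := h'.card_Z
  rw [hZ] at e1
  rw [hZ', ← e1, h3] at e2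
  have hT0 : 0 < Nat.card T := Nat.card_pos
  have h5 : Nat.card T' = Nat.card (kst V T) := by
    have : Nat.card T * Nat.card T' = Nat.card T * Nat.card (kst V T) := by
      rw [← e2]; ring
    exact Nat.eq_of_mul_eq_mul_left hT0 this
  exact (Subgroup.eq_of_le_of_card_ge h2 (le_of_eq h5)).symm

/-- existence of the partner -/
theorem exists_partner (hG : IsMinSimpleOddOrder G) (h30 : H1430 G) (h31 : H1431 G)
    (h32 : H1432 G) (hSD : SigmaDisj G)
    (hσ : Cfsg.Agent.Lib.Helper34_BG16a.HσHall G)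
    (hTil : ∀ M : Subgroup G, IsCoatom M →
      Set.ncard (tildeOf M ((sigmaCore M : Set G) \ {1})) = (Nat.card ↥(sigmaCore M) - 1) * M.index)
    (h33 : Cfsg.Agent.Lib.Helper79_BGTilde.Hyp1433 G)
    (h78 : Cfsg.Agent.Lib.Helper79_BGTilde.Hyp1378 G)
    (h74c : Cfsg.Agent.Lib.Helper4_BG147.H1374c G)
    (h75 : Cfsg.Agent.Lib.Helper4_BGTilde.H1375 G)
    {M K : Subgroup G} (h : Vtx M K) :
    ∃ Ms : Subgroup G, IsCoatom Ms ∧ K = kst Ms (kst M K) ∧
      IsPiHallOf (kappa Ms) (kst M K) Ms := by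
  by_cases hP : ∀ V T : Subgroup G, Vtx V T → T ⊔ kst V T = K ⊔ kst M K → IsP1 V
  · exact (count_contra hG h30 h31 h32 hSD hσ hTil h33 h78 h74c h75 h rfl hP).elim
  · push Not at hP
    obtain ⟨V, T, hV, hZV, hnP⟩ := hP
    unfold IsP1 at hnP
    push Not at hnP
    obtain ⟨q, hq, hqd, hqσ, hqκ⟩ := hnP
    have hTp : (Nat.card T).Prime :=
      Cfsg.Agent.Lib.Helper34_BG16b.card_kappaHall_prime hG hσ h30 hV.co hV.hall hV.ne
        ⟨q, hq, hqd, hqσ, hqκ⟩
    by_cases hVM : V = M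
    · subst hVM
      -- `T = K`
      have hTK : T ≤ K := by
        apply h.le_T_of_not_sigma
        · rw [← hZV]; exact le_sup_left
        · intro p hp hpd
          exact (hV.kappa_of_dvd hp hpd).2.2.1
      have hcard : Nat.card K = Nat.card T :=
        Cfsg.Agent.Lib.Helper24_CoprimeHall.PiHall.card_eq
          ((Cfsg.Agent.Lib.Helper24_CoprimeHall.isPiHallOf_iff _ _ _).mp h.hall)
          ((Cfsg.Agent.Lib.Helper24_CoprimeHall.isPiHallOf_iff _ _ _).mp hV.hall)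
      have hTeq : T = K := Subgroup.eq_of_le_of_card_ge hTK (le_of_eq hcard)
      have hKp : (Nat.card K).Prime := hcard ▸ hTp
      obtain ⟨L, hL, hNL⟩ := exists_coatom_normalizer hG h.co h.T_le h.ne
      obtain ⟨hnc, TL, hL', hZL, -, -⟩ := partner hG h30 h31 h32 hSD h le_rfl hKp hL hNL
      have hne : L ≠ V := fun hh => hnc 1 (by rw [cj_one']; exact hh)
      obtain ⟨e1, e2⟩ := prime_pair h30 h31 hSD h rfl hL' hZL hne hKp
      refine ⟨L, hL, ?_, ?_⟩
      · rw [← e2]; exact e1.symm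
      · rw [← e2]; exact hL'.hall
    · obtain ⟨e1, e2⟩ := prime_pair h30 h31 hSD hV hZV h rfl (Ne.symm hVM) hTp
      refine ⟨V, hV.co, ?_, ?_⟩
      · rw [e1]; exact e2
      · rw [e1]; exact hV.hall

/-- uniqueness of the partner -/
theorem partner_unique (h30 : H1430 G) (h31 : H1431 G) (hSD : SigmaDisj G)
    {M K : Subgroup G} (h : Vtx M K) {M₁ M₂ : Subgroup G}
    (h₁ : IsCoatom M₁ ∧ K = kst M₁ (kst M K) ∧ IsPiHallOf (kappa M₁) (kst M K) M₁)
    (h₂ : IsCoatom M₂ ∧ K = kst M₂ (kst M K) ∧ IsPiHallOf (kappa M₂) (kst M K) M₂) :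
    M₁ = M₂ := by
  have hA1 : kst M K ≠ ⊥ := kst_ne_bot h30 h.co h.hall h.ne
  have hV₁ : Vtx M₁ (kst M K) := ⟨h₁.1, h₁.2.2, hA1⟩
  have hV₂ : Vtx M₂ (kst M K) := ⟨h₂.1, h₂.2.2, hA1⟩
  have hZ₁ : kst M K ⊔ kst M₁ (kst M K) = K ⊔ kst M K := by rw [← h₁.2.1, sup_comm]
  have hZ₂ : kst M K ⊔ kst M₂ (kst M K) = K ⊔ kst M K := by rw [← h₂.2.1, sup_comm]
  by_contra hne
  obtain ⟨X, hXK, hXp⟩ := exists_prime_le h.ne
  have hX₁ : X ≤ kst M₁ (kst M K) := by rw [← h₁.2.1]; exact hXK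
  have hX₂ : X ≤ kst M₂ (kst M K) := by rw [← h₂.2.1]; exact hXK
  exact sigma_disjoint h30 h31 hSD hV₁ hZ₁ hV₂ hZ₂ (Ne.symm hne) (Nat.card X)
    (hV₁.sigma_of_dvd_kst hXp (Subgroup.card_dvd_of_le hX₁))
    (hV₂.sigma_of_dvd_kst hXp (Subgroup.card_dvd_of_le hX₂))

/-- the conclusion of the frozen statement S1366 (for any nontrivial Hall `κ(M)`-subgroup `K`) -/
theorem statement_S1366 (hG : IsMinSimpleOddOrder G) (h30 : H1430 G) (h31 : H1431 G)
    (h32 : H1432 G) (hSD : SigmaDisj G)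
    (hσ : Cfsg.Agent.Lib.Helper34_BG16a.HσHall G)
    (hTil : ∀ M : Subgroup G, IsCoatom M →
      Set.ncard (tildeOf M ((sigmaCore M : Set G) \ {1})) = (Nat.card ↥(sigmaCore M) - 1) * M.index)
    (h33 : Cfsg.Agent.Lib.Helper79_BGTilde.Hyp1433 G)
    (h78 : Cfsg.Agent.Lib.Helper79_BGTilde.Hyp1378 G)
    (h74c : Cfsg.Agent.Lib.Helper4_BG147.H1374c G)
    (h75 : Cfsg.Agent.Lib.Helper4_BGTilde.H1375 G)
    (M : Subgroup G) (hM : IsCoatom M) (K : Subgroup G) (hK : IsPiHallOf (kappa M) K M)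
    (hK1 : K ≠ ⊥) :
    ∃! Mstar : Subgroup G, IsCoatom Mstar ∧
      K = sigmaCore Mstar ⊓ centralizer ((sigmaCore M ⊓ centralizer (K : Set G) : Subgroup G) : Set G) ∧
      IsPiHallOf (kappa Mstar) (sigmaCore M ⊓ centralizer (K : Set G)) Mstar := by
  have h : Vtx M K := ⟨hM, hK, hK1⟩
  obtain ⟨Ms, hMs⟩ := exists_partner hG h30 h31 h32 hSD hσ hTil h33 h78 h74c h75 h
  exact ⟨Ms, hMs, fun M' hM' => partner_unique h30 h31 hSD h hM' hMs⟩

end Cfsg.Agent.Lib.Helper34_BG147d
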