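import Mathlib

/-!
# Helper34_DG_Aff (S3670, helper34)

The affine group `Aff R = R ⋊ Rˣ` of a commutative ring and the solvable group
`H6048 = Aff (F_8 × ℤ/18)` of order `144 · 42 = 6048` used in S3670.
-/

set_option autoImplicit false

namespace Cfsg.Agent.Lib.Helper34_DG_Aff

/-- the units of a commutative ring acting on its additive group (written multiplicatively) by
multiplication -/
def unitsAct (R : Type*) [CommRing R] : Rˣ →* MulAut (Multiplicative R) :=
  (MulAutMultiplicative R).symm.toMonoidHom.comp (DistribMulAction.toAddAut Rˣ R)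

/-- the affine group `R ⋊ Rˣ` of a commutative ring -/
abbrev Aff (R : Type*) [CommRing R] : Type _ := Multiplicative R ⋊[unitsAct R] Rˣ

theorem unitsAct_apply (R : Type*) [CommRing R] (u : Rˣ) (a : R) :
    unitsAct R u (Multiplicative.ofAdd a) = Multiplicative.ofAdd ((u : R) * a) := rfl

instance (R : Type*) [CommRing R] [Finite R] : Finite (Aff R) :=
  Finite.of_equiv _ (SemidirectProduct.equivProd (φ := unitsAct R)).symm

/-- the ring of S3670: `F_8 × ℤ/18` -/
abbrev R144 : Type := GaloisField 2 3 × ZMod 18

/-- the solvable group of S3670 -/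
abbrev H6048 : Type := Aff R144

noncomputable instance : Fintype H6048 := Fintype.ofFinite _

end Cfsg.Agent.Lib.Helper34_DG_Aff
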