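import Mathlib
import Cfsg.Prelude.Def_Characters
import Cfsg.Agent.Lib.Helper17_DihChar
import Cfsg.Agent.Lib.Helper3_CharColumn
import Cfsg.Agent.Lib.Helper3_CharBridge
import Cfsg.Agent.Lib.Helper77_BlockBasics

/-!
# S3670 package DG-T2 (architect helper34): at most `|C_G(y)|` irreducible characters have odd degree,
`y` of order `8`.

For `χ(y^k) = ∑ r : ZMod 8, c r ζ^{rk}` and `a_j = c j - c (j+4)`:
`|χ(y)|² + |χ(y³)|² = 2 (a₀² + a₁² + a₂² + a₃²)`, `∑ a_j ≡ χ(1) (mod 2)`; column orthogonality at `y`, `y³`.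
-/

set_option autoImplicit false

namespace Cfsg.Agent.Lib.Helper47_DG_T2

open Cfsg Cfsg.Agent.Lib.Helper17_DihFourier
open scoped ComplexConjugate

/-- the algebraic identity behind DG-T2 -/
theorem key_identity (ζ a0 a1 a2 a3 : ℂ) (h4 : ζ ^ 4 = -1) :
    (a0 + a1 * ζ + a2 * ζ ^ 2 + a3 * ζ ^ 3) * (a0 - a3 * ζ - a2 * ζ ^ 2 - a1 * ζ ^ 3) +
      (a0 + a3 * ζ - a2 * ζ ^ 2 + a1 * ζ ^ 3) * (a0 - a1 * ζ + a2 * ζ ^ 2 - a3 * ζ ^ 3) =
      2 * (a0 ^ 2 + a1 ^ 2 + a2 ^ 2 + a3 ^ 2) := by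
  linear_combination (-2 * (a1 ^ 2 + a2 ^ 2 + a3 ^ 2) - 2 * a1 * a3 * ζ ^ 2) * h4

/-- the local contribution of one character -/
theorem contribution {G : Type*} [Group G] [Finite G] (y : G) (hy : orderOf y = 8)
    (χ : IrrCharacter G) :
    ∃ N : ℕ, ((χ : G → ℂ) y * conj ((χ : G → ℂ) y) +
        (χ : G → ℂ) (y ^ 3) * conj ((χ : G → ℂ) (y ^ 3)) = 2 * (N : ℂ)) ∧
      (¬ 2 ∣ charDegree (χ : G → ℂ) → 1 ≤ N) := by
  classical
  set ζ : ℂ := Complex.exp (2 * Real.pi * Complex.I / (8 : ℕ)) with hζdef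
  have hζ : IsPrimitiveRoot ζ 8 := Complex.isPrimitiveRoot_exp 8 (by norm_num)
  obtain ⟨c, hc⟩ := Cfsg.Agent.Lib.Helper17_DihChar.exists_mult hζ y hy (χ : G → ℂ)
    (Cfsg.Agent.Lib.Helper3_CharBridge.isCharacter_of_isIrrCharacter χ.2)
  have h8 : ζ ^ 8 = 1 := hζ.pow_eq_one
  have h4 : ζ ^ 4 = -1 := by
    have h1 : (ζ ^ 4 - 1) * (ζ ^ 4 + 1) = 0 := by
      have : (ζ ^ 4 - 1) * (ζ ^ 4 + 1) = ζ ^ 8 - 1 := by ring
      rw [this, h8, sub_self]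
    have h2 : ζ ^ 4 ≠ 1 := hζ.pow_ne_one_of_pos_of_lt (by norm_num) (by norm_num)
    rcases mul_eq_zero.1 h1 with h | h
    · exact absurd (sub_eq_zero.1 h) h2
    · exact eq_neg_of_add_eq_zero_left h
  have hz0 : ζ ≠ 0 := hζ.ne_zero (by norm_num)
  have hs : conj ζ = -ζ ^ 3 := by
    have hn : ζ * conj ζ = 1 := by
      rw [Complex.mul_conj, Complex.normSq_eq_norm_sq,
        Complex.norm_eq_one_of_pow_eq_one h8 (by norm_num)]
      norm_num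
    have h5 : ζ * (-ζ ^ 3) = 1 := by linear_combination (-1 : ℂ) * h4
    exact mul_left_cancel₀ hz0 (hn.trans h5.symm)
  have hsum : ∀ f : ZMod 8 → ℂ, ∑ r, f r = f 0 + f 1 + f 2 + f 3 + f 4 + f 5 + f 6 + f 7 :=
    fun f => Fin.sum_univ_eight f
  have e0 : ee ζ (0 : ZMod 8) = 1 := by unfold ee; rw [show (0 : ZMod 8).val = 0 from rfl, pow_zero]
  have e1 : ee ζ (1 : ZMod 8) = ζ := by unfold ee; rw [show (1 : ZMod 8).val = 1 from rfl, pow_one]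
  have e2 : ee ζ (2 : ZMod 8) = ζ ^ 2 := by unfold ee; rw [show (2 : ZMod 8).val = 2 from rfl]
  have e3 : ee ζ (3 : ZMod 8) = ζ ^ 3 := by unfold ee; rw [show (3 : ZMod 8).val = 3 from rfl]
  have e4 : ee ζ (4 : ZMod 8) = ζ ^ 4 := by unfold ee; rw [show (4 : ZMod 8).val = 4 from rfl]
  have e5 : ee ζ (5 : ZMod 8) = ζ ^ 5 := by unfold ee; rw [show (5 : ZMod 8).val = 5 from rfl]
  have e6 : ee ζ (6 : ZMod 8) = ζ ^ 6 := by unfold ee; rw [show (6 : ZMod 8).val = 6 from rfl]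
  have e7 : ee ζ (7 : ZMod 8) = ζ ^ 7 := by unfold ee; rw [show (7 : ZMod 8).val = 7 from rfl]
  -- the three evaluations
  have hk0 := hc 0
  have hk1 := hc 1
  have hk3 := hc 3
  rw [hsum, e0, e1, e2, e3, e4, e5, e6, e7] at hk0 hk1 hk3
  rw [pow_zero] at hk0
  rw [pow_one] at hk1
  simp only [pow_zero, mul_one] at hk0
  simp only [pow_one] at hk1
  -- integer coefficients
  set a0 : ℤ := (c 0 : ℤ) - (c 4 : ℤ) with ha0
  set a1 : ℤ := (c 1 : ℤ) - (c 5 : ℤ) with ha1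
  set a2 : ℤ := (c 2 : ℤ) - (c 6 : ℤ) with ha2
  set a3 : ℤ := (c 3 : ℤ) - (c 7 : ℤ) with ha3
  have hV : (χ : G → ℂ) y = (a0 : ℂ) + (a1 : ℂ) * ζ + (a2 : ℂ) * ζ ^ 2 + (a3 : ℂ) * ζ ^ 3 := by
    rw [hk1, ha0, ha1, ha2, ha3]
    push_cast
    linear_combination ((c 4 : ℂ) + (c 5 : ℂ) * ζ + (c 6 : ℂ) * ζ ^ 2 + (c 7 : ℂ) * ζ ^ 3) * h4
  have p6 : ζ ^ 6 = -ζ ^ 2 := by linear_combination ζ ^ 2 * h4
  have p9 : ζ ^ 9 = ζ := by linear_combination ζ * (ζ ^ 4 - 1) * h4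
  have p12 : ζ ^ 12 = -1 := by linear_combination (ζ ^ 8 - ζ ^ 4 + 1) * h4
  have p15 : ζ ^ 15 = -ζ ^ 3 := by linear_combination ζ ^ 3 * (ζ ^ 8 - ζ ^ 4 + 1) * h4
  have p18 : ζ ^ 18 = ζ ^ 2 := by linear_combination ζ ^ 2 * (ζ ^ 8 + 1) * (ζ ^ 4 - 1) * h4
  have p21 : ζ ^ 21 = -ζ := by
    linear_combination ζ * (ζ ^ 16 - ζ ^ 12 + ζ ^ 8 - ζ ^ 4 + 1) * h4
  have hW : (χ : G → ℂ) (y ^ 3) =
      (a0 : ℂ) + (a3 : ℂ) * ζ - (a2 : ℂ) * ζ ^ 2 + (a1 : ℂ) * ζ ^ 3 := by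
    have h3' : (χ : G → ℂ) (y ^ 3) = (c 0 : ℂ) + (c 1 : ℂ) * ζ ^ 3 + (c 2 : ℂ) * ζ ^ 6 +
        (c 3 : ℂ) * ζ ^ 9 + (c 4 : ℂ) * ζ ^ 12 + (c 5 : ℂ) * ζ ^ 15 + (c 6 : ℂ) * ζ ^ 18 +
        (c 7 : ℂ) * ζ ^ 21 := by
      rw [hk3]; ring
    rw [p6, p9, p12, p15, p18, p21] at h3'
    rw [h3', ha0, ha1, ha2, ha3]
    push_cast
    ring
  have cV : conj ((a0 : ℂ) + (a1 : ℂ) * ζ + (a2 : ℂ) * ζ ^ 2 + (a3 : ℂ) * ζ ^ 3) =
      (a0 : ℂ) - (a3 : ℂ) * ζ - (a2 : ℂ) * ζ ^ 2 - (a1 : ℂ) * ζ ^ 3 := by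
    simp only [map_add, map_mul, map_pow, map_intCast, hs]
    linear_combination ((a2 : ℂ) * ζ ^ 2 - (a3 : ℂ) * ζ * (ζ ^ 4 - 1)) * h4
  have cW : conj ((a0 : ℂ) + (a3 : ℂ) * ζ - (a2 : ℂ) * ζ ^ 2 + (a1 : ℂ) * ζ ^ 3) =
      (a0 : ℂ) - (a1 : ℂ) * ζ + (a2 : ℂ) * ζ ^ 2 - (a3 : ℂ) * ζ ^ 3 := by
    simp only [map_add, map_sub, map_mul, map_pow, map_intCast, hs]
    linear_combination (-(a2 : ℂ) * ζ ^ 2 - (a1 : ℂ) * ζ * (ζ ^ 4 - 1)) * h4
  refine ⟨a0.natAbs ^ 2 + a1.natAbs ^ 2 + a2.natAbs ^ 2 + a3.natAbs ^ 2, ?_, ?_⟩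
  · rw [hV, hW, cV, cW, key_identity ζ a0 a1 a2 a3 h4]
    have hsq : ∀ n : ℤ, ((n.natAbs : ℕ) : ℂ) ^ 2 = (n : ℂ) ^ 2 := by
      intro n
      rcases Int.natAbs_eq n with h | h
      · rw [show (n : ℂ) = ((n.natAbs : ℤ) : ℂ) by rw [← h], Int.cast_natCast]
      · rw [show (n : ℂ) = ((-(n.natAbs : ℤ) : ℤ) : ℂ) by rw [← h], Int.cast_neg,
          Int.cast_natCast, neg_sq]
    push_cast
    rw [hsq, hsq, hsq, hsq]
  · intro hodd
    by_contra hN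
    have hN0 : a0.natAbs ^ 2 + a1.natAbs ^ 2 + a2.natAbs ^ 2 + a3.natAbs ^ 2 = 0 := by omega
    have z0 : a0.natAbs ^ 2 = 0 := by omega
    have z1 : a1.natAbs ^ 2 = 0 := by omega
    have z2 : a2.natAbs ^ 2 = 0 := by omega
    have z3 : a3.natAbs ^ 2 = 0 := by omega
    have y0 : a0 = 0 := Int.natAbs_eq_zero.1 (pow_eq_zero_iff (by norm_num) |>.1 z0)
    have y1 : a1 = 0 := Int.natAbs_eq_zero.1 (pow_eq_zero_iff (by norm_num) |>.1 z1)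
    have y2 : a2 = 0 := Int.natAbs_eq_zero.1 (pow_eq_zero_iff (by norm_num) |>.1 z2)
    have y3 : a3 = 0 := Int.natAbs_eq_zero.1 (pow_eq_zero_iff (by norm_num) |>.1 z3)
    have hdeg : charDegree (χ : G → ℂ) = c 0 + c 1 + c 2 + c 3 + c 4 + c 5 + c 6 + c 7 := by
      have h1 := Cfsg.Agent.Lib.Helper77_BlockBasics.apply_one_eq_charDegree χ
      rw [hk0] at h1
      have h2 : ((c 0 + c 1 + c 2 + c 3 + c 4 + c 5 + c 6 + c 7 : ℕ) : ℂ) =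
          ((charDegree (χ : G → ℂ) : ℕ) : ℂ) := by
        push_cast
        exact h1
      exact (Nat.cast_injective h2).symm
    apply hodd
    rw [hdeg]
    omega

theorem card_odd_le {G : Type*} [Group G] [Finite G] (y : G) (hy : orderOf y = 8) :
    Nat.card {χ : Cfsg.IrrCharacter G // ¬ 2 ∣ Cfsg.charDegree (χ : G → ℂ)} ≤
      Nat.card (Subgroup.centralizer ({y} : Set G)) := by
  classical
  let _ : Fintype G := Fintype.ofFinite G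
  choose N hN1 hN2 using contribution y hy
  -- `C(y³) = C(y)`
  have hcent : Subgroup.centralizer ({y ^ 3} : Set G) = Subgroup.centralizer ({y} : Set G) := by
    have hy9 : (y ^ 3) ^ 3 = y := by
      rw [← pow_mul]
      have : y ^ (3 * 3) = y ^ 8 * y := by rw [← pow_succ]
      rw [this, ← hy, pow_orderOf_eq_one, one_mul]
    ext g
    simp only [Subgroup.mem_centralizer_iff, Set.mem_singleton_iff, forall_eq]
    constructor
    · intro h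
      have : Commute (y ^ 3) g := h
      have h2 := this.pow_left 3
      rw [hy9] at h2
      exact h2
    · intro h
      have : Commute y g := h
      exact this.pow_left 3
  have h1 := Cfsg.Agent.Lib.Helper3_CharColumn.column_orthogonality_self y
  have h2 := Cfsg.Agent.Lib.Helper3_CharColumn.column_orthogonality_self (y ^ 3)
  rw [hcent] at h2
  have hsumC : ∑ χ : IrrCharacter G, (2 * (N χ : ℂ)) =
      2 * (Nat.card (Subgroup.centralizer ({y} : Set G)) : ℂ) := by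
    rw [Finset.sum_congr rfl (fun χ _ => (hN1 χ).symm), Finset.sum_add_distrib, h1, h2]
    ring
  have hsumN : ∑ χ : IrrCharacter G, N χ = Nat.card (Subgroup.centralizer ({y} : Set G)) := by
    rw [← Finset.mul_sum] at hsumC
    have h3 : (∑ χ : IrrCharacter G, (N χ : ℂ)) =
        (Nat.card (Subgroup.centralizer ({y} : Set G)) : ℂ) :=
      mul_left_cancel₀ (by norm_num : (2 : ℂ) ≠ 0) hsumC
    have h4 : ((∑ χ : IrrCharacter G, N χ : ℕ) : ℂ) =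
        (Nat.card (Subgroup.centralizer ({y} : Set G)) : ℂ) := by
      push_cast
      exact h3
    exact Nat.cast_injective h4
  rw [Nat.card_eq_fintype_card, Fintype.card_subtype, ← hsumN, Finset.card_eq_sum_ones,
    Finset.sum_filter]
  apply Finset.sum_le_sum
  intro χ _
  split_ifs with h
  · exact Nat.zero_le _
  · exact hN2 χ h

end Cfsg.Agent.Lib.Helper47_DG_T2
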