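import Mathlib
import Cfsg.Prelude.Def_Blocks
import Cfsg.Agent.Lib.Helper17_DihChar
import Cfsg.Agent.Lib.Helper3_CharColumn
import Cfsg.Agent.Lib.Helper3_CharBridge
import Cfsg.Agent.Lib.Helper77_BlockBasics

/-!
# DG-T3 (package of S3670, architect helper34; formalized by helper5)

For an element `x` of order `3`, at most `|C_G(x)|` irreducible characters have degree prime to `3`:
`χ(x) = a + b ω` with `a + b ≡ χ(1) (mod 3)`, so `|χ(x)|² = a² - ab + b² ≥ 1` when `3 ∤ χ(1)`, and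
`∑ |χ(x)|² = |C_G(x)|`.
-/

set_option autoImplicit false

namespace Cfsg.Agent.Lib.Helper5_DG_T3

open scoped ComplexConjugate
open Cfsg Cfsg.Agent.Lib.Helper17_DihFourier

/-- the Eisenstein norm form is positive definite over the integers -/
theorem eisenstein_pos (a b : ℤ) (h : ¬ (a = 0 ∧ b = 0)) : 1 ≤ a ^ 2 - a * b + b ^ 2 := by
  by_contra hlt
  have h1 : a ^ 2 - a * b + b ^ 2 ≤ 0 := by omega
  have h2 : (2 * a - b) ^ 2 + 3 * b ^ 2 ≤ 0 := by nlinarith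
  have hb : b = 0 := by nlinarith [sq_nonneg (2 * a - b), sq_nonneg b]
  have ha : a = 0 := by
    subst hb
    nlinarith [sq_nonneg a]
  exact h ⟨ha, hb⟩

theorem eisenstein_nonneg (a b : ℤ) : 0 ≤ a ^ 2 - a * b + b ^ 2 := by
  nlinarith [sq_nonneg (2 * a - b), sq_nonneg b]

/-- `|χ(x)|²` is a nonnegative integer, positive if `3 ∤ χ(1)` -/
theorem exists_norm_int {G : Type*} [Group G] [Finite G] (x : G) (hx : orderOf x = 3)
    (χ : Cfsg.IrrCharacter G) :
    ∃ n : ℤ, (n : ℂ) = (χ : G → ℂ) x * conj ((χ : G → ℂ) x) ∧ 0 ≤ n ∧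
      (¬ 3 ∣ Cfsg.charDegree (χ : G → ℂ) → 1 ≤ n) := by
  obtain ⟨ω, hω⟩ : ∃ ω : ℂ, IsPrimitiveRoot ω 3 :=
    ⟨_, Complex.isPrimitiveRoot_exp 3 (by norm_num)⟩
  have hω3 : ω ^ 3 = 1 := hω.pow_eq_one
  have hω1 : ω ≠ 1 := hω.ne_one (by norm_num)
  have hsum : ω ^ 2 + ω + 1 = 0 := by
    have h1 : (ω - 1) * (ω ^ 2 + ω + 1) = 0 := by
      have : (ω - 1) * (ω ^ 2 + ω + 1) = ω ^ 3 - 1 := by ring
      rw [this, hω3, sub_self]
    rcases mul_eq_zero.mp h1 with h | h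
    · exact absurd (sub_eq_zero.mp h) hω1
    · exact h
  have hconj : conj ω = ω ^ 2 := by
    have hnorm : ‖ω‖ = 1 := hω.norm'_eq_one (by norm_num)
    rw [← Complex.inv_eq_conj hnorm]
    apply inv_eq_of_mul_eq_one_right
    rw [← pow_succ']
    exact hω3
  have hconj2 : conj (ω ^ 2) = ω := by
    rw [map_pow, hconj, ← pow_mul]
    have : ω ^ (2 * 2) = ω ^ 3 * ω := by ring
    rw [this, hω3, one_mul]
  obtain ⟨c, hc⟩ := Cfsg.Agent.Lib.Helper17_DihChar.exists_mult hω x hx (χ : G → ℂ)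
    (Cfsg.Agent.Lib.Helper3_CharBridge.isCharacter_of_isIrrCharacter χ.2)
  have hu : (Finset.univ : Finset (ZMod 3)) = {0, 1, 2} := by decide
  have e0 : ee ω (0 : ZMod 3) = 1 := ee_zero
  have e1 : ee ω (1 : ZMod 3) = ω := by
    unfold ee
    have : (1 : ZMod 3).val = 1 := by decide
    rw [this, pow_one]
  have e2 : ee ω (2 : ZMod 3) = ω ^ 2 := by
    unfold ee
    have : (2 : ZMod 3).val = 2 := by decide
    rw [this]
  have h0 := hc 0
  have h1 := hc 1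
  rw [hu, Finset.sum_insert (by decide), Finset.sum_insert (by decide), Finset.sum_singleton,
    e0, e1, e2] at h0 h1
  simp only [pow_zero, mul_one, pow_one] at h0 h1
  -- the degree
  have hdeg : Cfsg.charDegree (χ : G → ℂ) = c 0 + c 1 + c 2 := by
    have h2 := Cfsg.Agent.Lib.Helper77_BlockBasics.apply_one_eq_charDegree χ
    rw [h0] at h2
    have h3 : ((c 0 + c 1 + c 2 : ℕ) : ℂ) = ((Cfsg.charDegree (χ : G → ℂ) : ℕ) : ℂ) := by
      rw [← h2]
      push_cast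
      ring
    exact_mod_cast h3.symm
  refine ⟨((c 0 : ℤ) - c 2) ^ 2 - ((c 0 : ℤ) - c 2) * ((c 1 : ℤ) - c 2) + ((c 1 : ℤ) - c 2) ^ 2,
    ?_, eisenstein_nonneg _ _, ?_⟩
  · rw [h1, map_add, map_add, map_mul, map_mul, Complex.conj_natCast, Complex.conj_natCast,
      Complex.conj_natCast, hconj, hconj2]
    push_cast
    linear_combination (-(((c 1 : ℂ)) ^ 2 + ((c 2 : ℂ)) ^ 2) * (ω - 1) - (c 0 : ℂ) * (c 1 : ℂ) -
      (c 0 : ℂ) * (c 2 : ℂ) - (c 1 : ℂ) * (c 2 : ℂ) * (ω ^ 2 - ω + 1)) * hsum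
  · intro h3
    apply eisenstein_pos
    rintro ⟨ha, hb⟩
    apply h3
    rw [hdeg]
    omega

theorem card_not_dvd_three_le {G : Type*} [Group G] [Finite G] (x : G) (hx : orderOf x = 3) :
    Nat.card {χ : Cfsg.IrrCharacter G // ¬ 3 ∣ Cfsg.charDegree (χ : G → ℂ)} ≤
      Nat.card (Subgroup.centralizer ({x} : Set G)) := by
  classical
  have := Fintype.ofFinite G
  choose n hn hn0 hn1 using fun χ : Cfsg.IrrCharacter G => exists_norm_int x hx χ
  have hcol := Cfsg.Agent.Lib.Helper3_CharColumn.column_orthogonality_self x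
  have h1 : ((∑ χ : Cfsg.IrrCharacter G, n χ : ℤ) : ℂ) =
      (Nat.card (Subgroup.centralizer ({x} : Set G)) : ℂ) := by
    rw [← hcol]
    push_cast
    exact Finset.sum_congr rfl (fun χ _ => hn χ)
  have h2 : (∑ χ : Cfsg.IrrCharacter G, n χ : ℤ) =
      (Nat.card (Subgroup.centralizer ({x} : Set G)) : ℤ) := by exact_mod_cast h1
  have h3 : (Nat.card {χ : Cfsg.IrrCharacter G // ¬ 3 ∣ Cfsg.charDegree (χ : G → ℂ)} : ℤ) ≤
      ∑ χ : Cfsg.IrrCharacter G, n χ := by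
    rw [Nat.card_eq_fintype_card, Fintype.card_subtype]
    calc ((Finset.univ.filter
          (fun χ : Cfsg.IrrCharacter G => ¬ 3 ∣ Cfsg.charDegree (χ : G → ℂ))).card : ℤ)
        = ∑ χ ∈ Finset.univ.filter
          (fun χ : Cfsg.IrrCharacter G => ¬ 3 ∣ Cfsg.charDegree (χ : G → ℂ)), (1 : ℤ) := by
          simp
      _ ≤ ∑ χ ∈ Finset.univ.filter
          (fun χ : Cfsg.IrrCharacter G => ¬ 3 ∣ Cfsg.charDegree (χ : G → ℂ)), n χ :=
          Finset.sum_le_sum (fun χ hχ => hn1 χ (Finset.mem_filter.mp hχ).2)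
      _ ≤ ∑ χ : Cfsg.IrrCharacter G, n χ :=
          Finset.sum_le_sum_of_subset_of_nonneg (Finset.filter_subset _ _)
            (fun χ _ _ => hn0 χ)
  have h4 := h3.trans h2.le
  exact_mod_cast h4

end Cfsg.Agent.Lib.Helper5_DG_T3
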