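import Mathlib

/-!
# S3670 package DG-AR (helper84): the arithmetic of the principal 7-block of `PSU₃(3)`
-/

set_option autoImplicit false

namespace Cfsg.Agent.Lib.Helper84_DG_AR

/-- divisors of `864 = 2^5 · 3^3` -/
theorem dvd_864 (d : ℕ) (h : d ∣ 864) : ∃ a b : ℕ, a ≤ 5 ∧ b ≤ 3 ∧ d = 2 ^ a * 3 ^ b := by
  have hc : Nat.Coprime 32 27 := by norm_num
  have h' : d ∣ 32 * 27 := by
    have : (32 * 27 : ℕ) = 864 := by norm_num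
    rw [this]; exact h
  have e := Nat.Coprime.gcd_mul d hc
  have hd : Nat.gcd d (32 * 27) = d := Nat.gcd_eq_left h'
  obtain ⟨a, ha, hga⟩ := (Nat.dvd_prime_pow Nat.prime_two).mp
    (show Nat.gcd d 32 ∣ 2 ^ 5 from Nat.gcd_dvd_right d 32)
  obtain ⟨b, hb, hgb⟩ := (Nat.dvd_prime_pow Nat.prime_three).mp
    (show Nat.gcd d 27 ∣ 3 ^ 3 from Nat.gcd_dvd_right d 27)
  refine ⟨a, b, ha, hb, ?_⟩
  rw [← hga, ← hgb, ← e, hd]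

/-- the divisors of `864` congruent to `±1` modulo `7` -/
theorem cand (d : ℕ) (e : ℤ) (h : d ∣ 864) (he : e = 1 ∨ e = -1) (c : (d : ℤ) ≡ e [ZMOD 7]) :
    (e = 1 ∧ (d = 1 ∨ d = 8 ∨ d = 36 ∨ d = 288)) ∨
      (e = -1 ∧ (d = 6 ∨ d = 27 ∨ d = 48 ∨ d = 216)) := by
  obtain ⟨a, b, ha, hb, rfl⟩ := dvd_864 d h
  unfold Int.ModEq at c
  interval_cases a <;> interval_cases b <;> rcases he with rfl | rfl <;>
    first | (exfalso; norm_num at c; done) | norm_num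

/-- the divisors of `864` congruent to `±3` modulo `7` -/
theorem cand0 (d : ℕ) (e : ℤ) (h : d ∣ 864) (he : e = 1 ∨ e = -1)
    (c : (d : ℤ) ≡ e * 3 [ZMOD 7]) :
    (e = 1 ∧ (d = 3 ∨ d = 24 ∨ d = 108 ∨ d = 864)) ∨
      (e = -1 ∧ (d = 4 ∨ d = 18 ∨ d = 32 ∨ d = 144)) := by
  obtain ⟨a, b, ha, hb, rfl⟩ := dvd_864 d h
  unfold Int.ModEq at c
  interval_cases a <;> interval_cases b <;> rcases he with rfl | rfl <;>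
    first | (exfalso; norm_num at c; done) | norm_num

theorem arith (d1 d2 d0 : ℕ) (e1 e2 e0 : ℤ) (h1 : d1 ∣ 864) (h2 : d2 ∣ 864) (h0 : d0 ∣ 864)
    (he1 : e1 = 1 ∨ e1 = -1) (he2 : e2 = 1 ∨ e2 = -1) (he0 : e0 = 1 ∨ e0 = -1)
    (c1 : (d1 : ℤ) ≡ e1 [ZMOD 7]) (c2 : (d2 : ℤ) ≡ e2 [ZMOD 7])
    (c0 : (d0 : ℤ) ≡ e0 * 3 [ZMOD 7])
    (rel : e0 * (d0 : ℤ) = 1 + e1 * d1 + e2 * d2) (hne : ¬ (d1 = 1 ∧ d2 = 1)) :
    6 ∣ d1 ∨ 6 ∣ d2 ∨ 6 ∣ d0 := by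
  have k1 := cand d1 e1 h1 he1 c1
  have k2 := cand d2 e2 h2 he2 c2
  have k0 := cand0 d0 e0 h0 he0 c0
  rcases k1 with ⟨rfl, rfl | rfl | rfl | rfl⟩ | ⟨rfl, rfl | rfl | rfl | rfl⟩ <;>
    rcases k2 with ⟨rfl, rfl | rfl | rfl | rfl⟩ | ⟨rfl, rfl | rfl | rfl | rfl⟩ <;>
      rcases k0 with ⟨rfl, rfl | rfl | rfl | rfl⟩ | ⟨rfl, rfl | rfl | rfl | rfl⟩ <;>
        first
        | (exfalso; omega)
        | decide

end Cfsg.Agent.Lib.Helper84_DG_AR
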