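import Mathlib
import Cfsg.Prelude.Def_DegreeGraph
import Cfsg.Agent.S4441
import Cfsg.Agent.Lib.Helper16_SelfCent
import Cfsg.Agent.Lib.Helper23_ZStarB
import Cfsg.Agent.Lib.Helper30_ThreePQ
import Cfsg.Agent.Lib.Helper77_BlockBasics
import Cfsg.Agent.Lib.Helper80_CharBasic
import Cfsg.Agent.Lib.Helper80_CharComplete
import Cfsg.Agent.Lib.Helper81_CharOrth
import Cfsg.Agent.Lib.Helper84_DG_AR
import Cfsg.Agent.Lib.Helper47_DG_T2
import Cfsg.Agent.Lib.Helper5_DG_T3

/-!
# Helper34_DG_Core (S3670, helper34)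

The character-theoretic core: a perfect group of order `6048` with a self-centralizing Sylow
`7`-subgroup of inertial index `3`, an element of order `8` with `|C| ≤ 8`, an element of order `3`
with `|C| ≤ 9` and at least `14` classes has irreducible characters of degrees divisible by
`6`, `14` and `21`.
-/

set_option autoImplicit false

namespace Cfsg.Agent.Lib.Helper34_DG_Core

open Cfsg Cfsg.Agent.Lib.Helper80_CharBasic Cfsg.Agent.Lib.Helper77_BlockBasics
open Cfsg.Agent.Lib.Helper84_DG_AR Cfsg.Agent.Lib.Helper47_DG_T2 Cfsg.Agent.Lib.Helper5_DG_T3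

variable {G : Type*} [Group G] [Fintype G]

/-- counting: if at least `9` characters have degree divisible by `7` and at most `9` have
degree prime to `q` (`q ≠ 1`), one has degree divisible by `7 q`: the trivial character has degree
prime to `q` and to `7`. -/
theorem exists_dvd_of_count (q : ℕ) (hq : Nat.Coprime 7 q) (hq1 : q ≠ 1)
    (h9 : 9 ≤ Nat.card {χ : IrrCharacter G // 7 ∣ charDegree (χ : G → ℂ)})
    (h8 : Nat.card {χ : IrrCharacter G // ¬ q ∣ charDegree (χ : G → ℂ)} ≤ 9) :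
    ∃ χ : IrrCharacter G, 7 * q ∣ charDegree (χ : G → ℂ) := by
  classical
  haveI : Finite (IrrCharacter G) := Cfsg.Agent.Lib.Helper81_CharOrth.finite_irrCharacter
  by_contra hcon
  push_neg at hcon
  have hall : ∀ χ : IrrCharacter G, 7 ∣ charDegree (χ : G → ℂ) → ¬ q ∣ charDegree (χ : G → ℂ) := by
    intro χ h7 hq'
    exact hcon χ (hq.mul_dvd_of_dvd_of_dvd h7 hq')
  have hdeg1 : charDegree ((oneIrr G : IrrCharacter G) : G → ℂ) = 1 := by
    unfold charDegree
    show ⌊((1 : ℂ)).re⌋₊ = 1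
    simp
  have h1q : ¬ q ∣ charDegree ((oneIrr G : IrrCharacter G) : G → ℂ) := by
    rw [hdeg1]; exact fun h => hq1 (Nat.dvd_one.1 h)
  have h17 : ¬ 7 ∣ charDegree ((oneIrr G : IrrCharacter G) : G → ℂ) := by
    rw [hdeg1]; norm_num
  let f : Option {χ : IrrCharacter G // 7 ∣ charDegree (χ : G → ℂ)} →
      {χ : IrrCharacter G // ¬ q ∣ charDegree (χ : G → ℂ)} := fun o =>
    match o with
    | none => ⟨oneIrr G, h1q⟩
    | some χ => ⟨χ.1, hall χ.1 χ.2⟩
  have hf : Function.Injective f := by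
    intro a b hab
    cases a with
    | none =>
      cases b with
      | none => rfl
      | some b =>
        exfalso
        have : (oneIrr G : IrrCharacter G) = b.1 := congrArg (fun t => t.1) hab
        exact h17 (this ▸ b.2)
    | some a =>
      cases b with
      | none =>
        exfalso
        have : a.1 = (oneIrr G : IrrCharacter G) := congrArg (fun t => t.1) hab
        exact h17 (this ▸ a.2)
      | some b =>
        have : a.1 = b.1 := congrArg (fun t => t.1) hab
        exact congrArg some (Subtype.ext this)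
  have hle := Nat.card_le_card_of_injective f hf
  rw [Nat.card_eq_fintype_card (α := Option _), Fintype.card_option,
    ← Nat.card_eq_fintype_card] at hle
  omega

theorem core [Fact (Nat.Prime 7)] (hcard : Nat.card G = 6048)
    (hperf : commutator G = ⊤)
    (P : Sylow 7 G) (hP : Nat.card P = 7)
    (hC : Subgroup.centralizer ((P : Subgroup G) : Set G) = (P : Subgroup G))
    (he : (Subgroup.centralizer ((P : Subgroup G) : Set G)).relIndex
        (Subgroup.normalizer ((P : Subgroup G) : Set G)) = 3)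
    (y : G) (hy : orderOf y = 8) (hCy : Nat.card (Subgroup.centralizer ({y} : Set G)) ≤ 8)
    (x : G) (hx : orderOf x = 3) (hCx : Nat.card (Subgroup.centralizer ({x} : Set G)) ≤ 9)
    (hk : 14 ≤ Nat.card (ConjClasses G)) :
    (∃ χ : IrrCharacter G, 6 ∣ charDegree (χ : G → ℂ)) ∧
    (∃ χ : IrrCharacter G, 14 ∣ charDegree (χ : G → ℂ)) ∧
    (∃ χ : IrrCharacter G, 21 ∣ charDegree (χ : G → ℂ)) := by
  classical
  haveI : Finite (IrrCharacter G) := Cfsg.Agent.Lib.Helper81_CharOrth.finite_irrCharacter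
  obtain ⟨M, hM⟩ := Cfsg.Agent.Lib.Helper23_ZStarB.exists_pModular 7 (by norm_num)
  obtain ⟨X, Y, hB, hdisj, hX3, hY2, εX, ε, hXprop, hε, hYcong, hYagree, hYrel⟩ :=
    Cfsg.Agent.S4441.result 7 M hM (by norm_num) P hP 3 he
  have hB0 : ∀ χ : IrrCharacter G, χ ∈ X ∪ Y ↔ ¬ 7 ∣ charDegree (χ : G → ℂ) := by
    intro χ
    rw [← hB]
    exact Cfsg.Agent.Lib.Helper16_SelfCent.mem_principalBlock_iff hM hP hC χ
  have hY2' : Nat.card Y = 2 := by rw [hY2]
  -- the count of characters of degree prime to 7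
  have h5 : Nat.card {χ : IrrCharacter G // ¬ 7 ∣ charDegree (χ : G → ℂ)} ≤ 5 := by
    have e1 : {χ : IrrCharacter G // ¬ 7 ∣ charDegree (χ : G → ℂ)} ≃ ↥(X ∪ Y) :=
      Equiv.subtypeEquivRight (fun χ => (hB0 χ).symm)
    rw [Nat.card_congr e1, Nat.card_coe_set_eq]
    calc (X ∪ Y).ncard ≤ X.ncard + Y.ncard := Set.ncard_union_le X Y
      _ = 5 := by rw [← Nat.card_coe_set_eq, ← Nat.card_coe_set_eq, hX3, hY2']
  have h9 : 9 ≤ Nat.card {χ : IrrCharacter G // 7 ∣ charDegree (χ : G → ℂ)} := by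
    have hsum := Nat.card_congr (Equiv.sumCompl (fun χ : IrrCharacter G =>
      7 ∣ charDegree (χ : G → ℂ)))
    rw [Nat.card_sum] at hsum
    have hkk : Nat.card (IrrCharacter G) = Nat.card (ConjClasses G) :=
      Cfsg.Agent.Lib.Helper80_CharComplete.card_irr_eq_card_conjClasses
    omega
  refine ⟨?_, ?_, ?_⟩
  · -- the edge 2 - 3: arithmetic in the principal 7-block
    set one : IrrCharacter G := oneIrr G with hone
    have hdeg1 : charDegree ((one : IrrCharacter G) : G → ℂ) = 1 := by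
      unfold charDegree
      show ⌊((1 : ℂ)).re⌋₊ = 1
      simp
    have hone_mem : one ∈ X ∪ Y := by
      rw [hB0, hdeg1]; norm_num
    have hε' : ∀ θ ∈ Y, (charDegree ((θ : IrrCharacter G) : G → ℂ) : ℤ) ≡ ε * 3 [ZMOD 7] := by
      intro θ hθ
      have := hYcong θ hθ
      exact_mod_cast this
    have honeX : one ∈ X := by
      rcases hone_mem with h | h
      · exact h
      · exfalso
        have h1 := hε' one h
        rw [hdeg1] at h1
        rcases hε with rfl | rfl
        · have := h1.dvd; norm_num at this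
        · have := h1.dvd; norm_num at this
    have hXfin : X.Finite := Set.toFinite X
    have hXcard : hXfin.toFinset.card = 3 := by
      rw [← Set.ncard_eq_toFinset_card X hXfin, ← Nat.card_coe_set_eq, hX3]
    have herase : (hXfin.toFinset.erase one).card = 2 := by
      rw [Finset.card_erase_of_mem (by simpa using honeX), hXcard]
    obtain ⟨χ₁, χ₂, h12, hpair⟩ := Finset.card_eq_two.1 herase
    have hχ₁ : χ₁ ∈ hXfin.toFinset.erase one := by rw [hpair]; simp
    have hχ₂ : χ₂ ∈ hXfin.toFinset.erase one := by rw [hpair]; simp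
    have hχ₁X : χ₁ ∈ X := by simpa using (Finset.mem_erase.1 hχ₁).2
    have hχ₂X : χ₂ ∈ X := by simpa using (Finset.mem_erase.1 hχ₂).2
    have hχ₁ne : χ₁ ≠ one := (Finset.mem_erase.1 hχ₁).1
    have hχ₂ne : χ₂ ≠ one := (Finset.mem_erase.1 hχ₂).1
    have hXeq : hXfin.toFinset = {one, χ₁, χ₂} := by
      rw [← Finset.insert_erase (show one ∈ hXfin.toFinset by simpa using honeX), hpair]
    obtain ⟨θ, hθ⟩ : Y.Nonempty := by
      rw [← Set.ncard_pos (Set.toFinite Y), ← Nat.card_coe_set_eq, hY2']; norm_num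
    -- the relation at the identity
    have hrel := hYrel θ hθ 1 (by rw [orderOf_one]; norm_num)
    rw [finsum_mem_eq_finite_toFinset_sum _ hXfin, hXeq,
      Finset.sum_insert (by simp [hχ₁ne.symm, hχ₂ne.symm]),
      Finset.sum_insert (by simp [h12]), Finset.sum_singleton] at hrel
    rw [apply_one_eq_charDegree θ, apply_one_eq_charDegree one, apply_one_eq_charDegree χ₁,
      apply_one_eq_charDegree χ₂, hdeg1] at hrel
    have hεone : εX one = 1 := by
      obtain ⟨h1, h2, _⟩ := hXprop one honeX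
      rcases h1 with h | h
      · exact h
      · exfalso
        rw [hdeg1, h] at h2
        have := h2.dvd; norm_num at this
    rw [hεone] at hrel
    set d₁ := charDegree ((χ₁ : IrrCharacter G) : G → ℂ) with hd₁
    set d₂ := charDegree ((χ₂ : IrrCharacter G) : G → ℂ) with hd₂
    set d₀ := charDegree ((θ : IrrCharacter G) : G → ℂ) with hd₀
    have hrelZ : ε * (d₀ : ℤ) = 1 + εX χ₁ * d₁ + εX χ₂ * d₂ := by
      have : ((ε * (d₀ : ℤ) : ℤ) : ℂ) = ((1 + εX χ₁ * d₁ + εX χ₂ * d₂ : ℤ) : ℂ) := by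
        push_cast
        rw [hrel]
        ring
      exact_mod_cast this
    have hdvd864 : ∀ χ : IrrCharacter G, ¬ 7 ∣ charDegree (χ : G → ℂ) →
        charDegree (χ : G → ℂ) ∣ 864 := by
      intro χ h7
      have h1 := charDegree_dvd_card χ
      rw [hcard, show (6048 : ℕ) = 7 * 864 by norm_num] at h1
      have hcop : Nat.Coprime (charDegree (χ : G → ℂ)) 7 :=
        (Nat.Coprime.symm ((Nat.Prime.coprime_iff_not_dvd (by norm_num)).2 h7))
      exact hcop.dvd_of_dvd_mul_left h1
    have h7χ₁ : ¬ 7 ∣ d₁ := (hB0 χ₁).1 (Or.inl hχ₁X)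
    have h7χ₂ : ¬ 7 ∣ d₂ := (hB0 χ₂).1 (Or.inl hχ₂X)
    have h7θ : ¬ 7 ∣ d₀ := (hB0 θ).1 (Or.inr hθ)
    obtain ⟨hs1, hc1, _⟩ := hXprop χ₁ hχ₁X
    obtain ⟨hs2, hc2, _⟩ := hXprop χ₂ hχ₂X
    have hne : ¬ (d₁ = 1 ∧ d₂ = 1) := by
      rintro ⟨h1, _⟩
      apply hχ₁ne
      apply Cfsg.Agent.Lib.Helper30_ThreePQ.eq_one_of_linear hperf χ₁
      rw [apply_one_eq_charDegree χ₁, ← hd₁, h1]
      simp
    have hfin := arith d₁ d₂ d₀ (εX χ₁) (εX χ₂) ε (hdvd864 χ₁ h7χ₁) (hdvd864 χ₂ h7χ₂)
      (hdvd864 θ h7θ) hs1 hs2 hε (by exact_mod_cast hc1) (by exact_mod_cast hc2)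
      (hε' θ hθ) hrelZ hne
    rcases hfin with h | h | h
    · exact ⟨χ₁, h⟩
    · exact ⟨χ₂, h⟩
    · exact ⟨θ, h⟩
  · -- the edge 2 - 7
    have h8 := (card_odd_le y hy).trans hCy
    exact exists_dvd_of_count 2 (by norm_num) (by norm_num) h9 (h8.trans (by norm_num))
  · -- the edge 3 - 7
    have h8 : Nat.card {χ : IrrCharacter G // ¬ 3 ∣ charDegree (χ : G → ℂ)} ≤ 9 :=
      (card_not_dvd_three_le x hx).trans hCx
    exact exists_dvd_of_count 3 (by norm_num) (by norm_num) h9 h8

end Cfsg.Agent.Lib.Helper34_DG_Core
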