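import Mathlib
import Cfsg.Prelude.Def_Classical
import Cfsg.Agent.Lib.Helper61_TableHom

/-!
# Helper61_SUTransfer

Functoriality of `Cfsg.SU n F q` and `Cfsg.PSU n F q` under ring isomorphisms, and a matrix
criterion for membership in `SU`.
-/

set_option autoImplicit false

namespace Cfsg.Agent.Lib.Helper61_SUTransfer

open Matrix Cfsg.Agent.Lib.Helper61_TableHom

variable {n q : ℕ} {F F' : Type*} [Field F] [Field F']

theorem hermForm_map (e : F ≃+* F') (u v : Fin n → F) :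
    e (Cfsg.hermForm n F q u v) = Cfsg.hermForm n F' q (e ∘ u) (e ∘ v) := by
  unfold Cfsg.hermForm
  rw [map_sum]
  apply Finset.sum_congr rfl
  intro i _
  rw [map_mul, map_pow]
  rfl

theorem mem_SU_iff (A : SpecialLinearGroup (Fin n) F) :
    A ∈ Cfsg.SU n F q ↔ ∀ u v : Fin n → F,
      Cfsg.hermForm n F q (A.1 *ᵥ u) (A.1 *ᵥ v) = Cfsg.hermForm n F q u v := Iff.rfl

theorem slEquiv_mem_SU (e : F ≃+* F') (A : SpecialLinearGroup (Fin n) F)
    (hA : A ∈ Cfsg.SU n F q) : slEquiv e A ∈ Cfsg.SU n F' q := by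
  rw [mem_SU_iff] at hA ⊢
  intro u' v'
  have hu : u' = e ∘ (e.symm ∘ u') := by funext i; simp
  have hv : v' = e ∘ (e.symm ∘ v') := by funext i; simp
  have key : ∀ w : Fin n → F, (slEquiv e A).1 *ᵥ (e ∘ w) = e ∘ (A.1 *ᵥ w) := by
    intro w
    funext i
    have h1 : (slEquiv e A).1 = A.1.map e := by
      ext i j; rw [slEquiv_apply]; rfl
    rw [h1]
    exact (RingHom.map_mulVec (e : F →+* F') A.1 w i).symm
  rw [hu, hv, key, key, ← hermForm_map, ← hermForm_map, hA]

/-- `SU_n` of isomorphic fields. -/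
def suEquiv (e : F ≃+* F') : ↥(Cfsg.SU n F q) ≃* ↥(Cfsg.SU n F' q) where
  toFun g := ⟨slEquiv e g.1, slEquiv_mem_SU e g.1 g.2⟩
  invFun g := ⟨slEquiv e.symm g.1, slEquiv_mem_SU e.symm g.1 g.2⟩
  left_inv g := by
    apply Subtype.ext
    ext i j
    simp [slEquiv_apply]
  right_inv g := by
    apply Subtype.ext
    ext i j
    simp [slEquiv_apply]
  map_mul' g h := by
    apply Subtype.ext
    exact map_mul (slEquiv e) g.1 h.1

/-- `PSU_n` of isomorphic fields. -/
noncomputable def psuEquiv (e : F ≃+* F') : Cfsg.PSU n F q ≃* Cfsg.PSU n F' q :=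
  QuotientGroup.congr (Subgroup.center ↥(Cfsg.SU n F q)) (Subgroup.center ↥(Cfsg.SU n F' q))
    (suEquiv e) (map_center_of_mulEquiv (suEquiv e))

end Cfsg.Agent.Lib.Helper61_SUTransfer
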