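import Mathlib
import Cfsg.Prelude.Def_Classical
import Cfsg.Agent.Lib.Helper61_F9
import Cfsg.Agent.Lib.Helper61_SU33Spec

/-!
# Helper34_DG_Defs (S3670, helper34)

Shared definitions for the `PSU₃(3)` side of S3670, on helper61's computable model
`SU 3 F9 3`:

* `poly3 Y w = w₀ + w₁ Y + w₂ Y²` (computable);
* `kry Y v = [v | Yv | Y²v]` (the Krylov matrix);
* `comm_eq_poly3` : a matrix commuting with `Y` is `poly3 Y w` for an explicit `w`, as soon as
  the Krylov matrix of some vector is invertible;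
* `card_centralizer_le` : hence `|C_G(y)| ≤ #{w : poly3 Y w ∈ SU₃(3)}` for `y = mkSU Y`;
* the elements `g7`, `g8` of orders `7`, `8`.
-/

set_option autoImplicit false
set_option maxHeartbeats 400000

namespace Cfsg.Agent.Lib.Helper34_DG_Defs

open Matrix Cfsg.Agent.Lib.Helper61_F9 Cfsg.Agent.Lib.Helper61_SU33Spec

/-- `3 × 3` matrices over `F9`. -/
abbrev M3 : Type := Matrix (Fin 3) (Fin 3) F9

/-- The group `SU₃(3)` on helper61's model. -/
abbrev G9 : Type := ↥(Cfsg.SU 3 F9 3)

/-- explicit matrix-vector product -/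
def mv3 (A : M3) (v : Fin 3 → F9) : Fin 3 → F9 :=
  fun i => A i 0 * v 0 + A i 1 * v 1 + A i 2 * v 2

theorem mv3_eq (A : M3) (v : Fin 3 → F9) : mv3 A v = A *ᵥ v := by
  funext i
  simp [mv3, Matrix.mulVec, dotProduct, Fin.sum_univ_three]

/-- `w₀ + w₁ Y + w₂ Y²`, computably. -/
def poly3 (Y : M3) (w : F9 × F9 × F9) : M3 :=
  fun i j => w.1 * (if i = j then 1 else 0) + w.2.1 * Y i j + w.2.2 * sq3 Y i j

theorem poly3_eq (Y : M3) (w : F9 × F9 × F9) :
    poly3 Y w = w.1 • (1 : M3) + w.2.1 • Y + w.2.2 • (Y * Y) := by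
  ext i j
  simp only [poly3, sq3, mul3_eq, Matrix.add_apply, Matrix.smul_apply, Matrix.one_apply,
    smul_eq_mul]

/-- The Krylov matrix `[v | Yv | Y²v]`. -/
def kry (Y : M3) (v : Fin 3 → F9) : M3 :=
  fun i j => if j = 0 then v i else if j = 1 then mv3 Y v i else mv3 Y (mv3 Y v) i

theorem kry_mulVec (Y : M3) (v : Fin 3 → F9) (w : Fin 3 → F9) :
    kry Y v *ᵥ w = poly3 Y (w 0, w 1, w 2) *ᵥ v := by
  rw [poly3_eq]
  funext i
  simp only [Matrix.mulVec, dotProduct, Fin.sum_univ_three, kry, mv3_eq, Matrix.add_apply,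
    Matrix.smul_apply, Matrix.one_apply, smul_eq_mul, Matrix.mul_apply]
  fin_cases i <;> simp <;> ring

/-- A matrix commuting with `Y` and killing `v` is zero when the Krylov matrix of `v` is
invertible. -/
theorem eq_zero_of_comm (Y D : M3) (v : Fin 3 → F9) (Binv : M3) (hB : kry Y v * Binv = 1)
    (hcomm : D * Y = Y * D) (hv : D *ᵥ v = 0) : D = 0 := by
  have hstep : ∀ u : Fin 3 → F9, D *ᵥ u = 0 → D *ᵥ (Y *ᵥ u) = 0 := by
    intro u hu
    rw [Matrix.mulVec_mulVec, hcomm, ← Matrix.mulVec_mulVec, hu, Matrix.mulVec_zero]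
  have h1 : D *ᵥ (Y *ᵥ v) = 0 := hstep v hv
  have h2 : D *ᵥ (Y *ᵥ (Y *ᵥ v)) = 0 := hstep _ h1
  have hDB : D * kry Y v = 0 := by
    ext i j
    rw [Matrix.mul_apply]
    have e0 := congrFun hv i
    have e1 := congrFun h1 i
    have e2 := congrFun h2 i
    simp only [Matrix.mulVec, dotProduct, Pi.zero_apply] at e0 e1 e2
    fin_cases j
    · simpa [kry] using e0
    · simpa [kry, mv3_eq, Matrix.mulVec, dotProduct] using e1
    · simpa [kry, mv3_eq, Matrix.mulVec, dotProduct] using e2
  calc D = D * (kry Y v * Binv) := by rw [hB, mul_one]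
    _ = 0 := by rw [← mul_assoc, hDB, zero_mul]

/-- the coordinate triple of a vector -/
def tri (u : Fin 3 → F9) : F9 × F9 × F9 := (u 0, u 1, u 2)

/-- **A matrix commuting with a cyclic matrix `Y` is a polynomial in `Y`**, with explicit
coefficients. -/
theorem comm_eq_poly3 (Y g : M3) (v : Fin 3 → F9) (Binv : M3) (hB : kry Y v * Binv = 1)
    (hcomm : g * Y = Y * g) : g = poly3 Y (tri (Binv *ᵥ (g *ᵥ v))) := by
  set w : Fin 3 → F9 := Binv *ᵥ (g *ᵥ v) with hw
  have hpv : poly3 Y (tri w) *ᵥ v = g *ᵥ v := by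
    have : poly3 Y (tri w) *ᵥ v = kry Y v *ᵥ w := (kry_mulVec Y v w).symm
    rw [this, hw, Matrix.mulVec_mulVec, hB, Matrix.one_mulVec]
  have hpc : poly3 Y (tri w) * Y = Y * poly3 Y (tri w) := by
    rw [poly3_eq]
    simp only [add_mul, mul_add, Matrix.smul_mul, Matrix.mul_smul, one_mul, mul_one, mul_assoc]
  have hD := eq_zero_of_comm Y (g - poly3 Y (tri w)) v Binv hB
    (by rw [sub_mul, mul_sub, hcomm, hpc])
    (by rw [Matrix.sub_mulVec, hpv, sub_self])
  exact sub_eq_zero.1 hD

/-- the underlying matrix of an element of `SU₃(3)` -/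
def mat (g : G9) : M3 := g.1.1

theorem mat_mul (g h : G9) : mat (g * h) = mat g * mat h := rfl

theorem mat_injective : Function.Injective mat := by
  intro g h hgh
  apply Subtype.ext
  apply Subtype.ext
  exact hgh

theorem mat_mkSU (Y : M3) (hdet : det3 Y = 1) (hc : Cols Y) : mat (mkSU Y hdet hc) = Y := rfl

theorem det3_mat (g : G9) : det3 (mat g) = 1 := by
  rw [← det3_eq]
  exact g.1.2

theorem cols_mat (g : G9) : Cols (mat g) := cols_of_mem_SU g.1 g.2

/-- the triples `w` with `poly3 Y w ∈ SU₃(3)` -/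
abbrev Good (Y : M3) : Type :=
  {w : F9 × F9 × F9 // det3 (poly3 Y w) = 1 ∧ Cols (poly3 Y w)}

instance (Y : M3) : Fintype (Good Y) := by
  unfold Good
  infer_instance

/-- the coordinate triple attached to a matrix -/
def coord (v : Fin 3 → F9) (Binv : M3) (A : M3) : F9 × F9 × F9 := tri (Binv *ᵥ (A *ᵥ v))

/-- **The centralizer bound**: `|C_G(y)|` is at most the number of triples `w` with
`poly3 Y w ∈ SU₃(3)`, for `y = mkSU Y` with a vector `v` whose Krylov matrix is invertible. -/
theorem card_centralizer_le (Y : M3) (hdet : det3 Y = 1) (hc : Cols Y) (v : Fin 3 → F9)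
    (Binv : M3) (hB : mul3 (kry Y v) Binv = 1) (n : ℕ) (hn : Fintype.card (Good Y) ≤ n) :
    Nat.card (Subgroup.centralizer ({mkSU Y hdet hc} : Set G9)) ≤ n := by
  classical
  rw [mul3_eq] at hB
  have key : ∀ g : Subgroup.centralizer ({mkSU Y hdet hc} : Set G9),
      mat g.1 = poly3 Y (coord v Binv (mat g.1)) := by
    intro g
    apply comm_eq_poly3 Y (mat g.1) v Binv hB
    have h := g.2
    rw [Subgroup.mem_centralizer_iff] at h
    have h2 := h (mkSU Y hdet hc) (Set.mem_singleton _)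
    have h3 := congrArg mat h2
    rw [mat_mul, mat_mul, mat_mkSU] at h3
    exact h3.symm
  have hgood : ∀ g : Subgroup.centralizer ({mkSU Y hdet hc} : Set G9),
      det3 (poly3 Y (coord v Binv (mat g.1))) = 1 ∧ Cols (poly3 Y (coord v Binv (mat g.1))) := by
    intro g
    have h1 := det3_mat g.1
    have h2 := cols_mat g.1
    generalize hw : coord v Binv (mat g.1) = w
    have hk := key g
    rw [hw] at hk
    rw [← hk]
    exact ⟨h1, h2⟩
  have hinj : Function.Injective
      (fun g : Subgroup.centralizer ({mkSU Y hdet hc} : Set G9) =>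
        (⟨coord v Binv (mat g.1), hgood g⟩ : Good Y)) := by
    intro g h hgh
    have h1 : coord v Binv (mat g.1) = coord v Binv (mat h.1) := congrArg Subtype.val hgh
    apply Subtype.ext
    apply mat_injective
    have hg := key g
    have hh := key h
    generalize coord v Binv (mat g.1) = w1 at h1 hg
    generalize coord v Binv (mat h.1) = w2 at h1 hh
    rw [hg, hh, h1]
  calc Nat.card (Subgroup.centralizer ({mkSU Y hdet hc} : Set G9))
      ≤ Nat.card (Good Y) := Nat.card_le_card_of_injective _ hinj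
    _ = Fintype.card (Good Y) := Nat.card_eq_fintype_card
    _ ≤ n := hn

/-- the element of order `7` -/
def g7 : G9 := mkSU m7 m7_facts.1 m7_facts.2.1

/-- the element of order `8` -/
def g8 : G9 := mkSU m8 m8_facts.1 m8_facts.2.1

theorem orderOf_g7 : orderOf g7 = 7 := by rw [g7, orderOf_mkSU, orderOf_m7]

theorem orderOf_g8 : orderOf g8 = 8 := by rw [g8, orderOf_mkSU, orderOf_m8]

end Cfsg.Agent.Lib.Helper34_DG_Defs
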