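import Cfsg.Agent.Lib.Helper34_Sylow
import Cfsg.Prelude.Def_EvenType
import Mathlib.GroupTheory.Nilpotent

set_option autoImplicit false

namespace Cfsg.Agent.Lib.Helper34_Fusion

open Subgroup Cfsg.Agent.Lib.Helper34_Sylow
open scoped Pointwise

variable {G : Type*} [Group G]

theorem relIndex_cj (a : G) (A B : Subgroup G) : (cj a A).relIndex (cj a B) = A.relIndex B :=
  relIndex_map_map_of_injective A B (MulAut.conj a).injective

theorem sylow_smul_coe {p : ℕ} (g : G) (P : Sylow p G) :
    ((g • P : Sylow p G) : Subgroup G) = cj g (P : Subgroup G) := by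
  ext x
  rw [mem_cj]
  change x ∈ MulAut.conj g • (P : Subgroup G) ↔ _
  rw [Subgroup.mem_pointwise_smul_iff_inv_smul_mem]
  simp [MulAut.smul_def]

/-- A `p`-subgroup of `H` containing a subgroup of `H` of index prime to `p` equals it. -/
theorem le_of_relIndex [Finite G] {p : ℕ} [Fact p.Prime] {S S' H : Subgroup G}
    (hSS' : S ≤ S') (hS'H : S' ≤ H) (hS' : IsPGroup p S') (hidx : ¬ p ∣ S.relIndex H) :
    S' ≤ S := by
  have hp : p.Prime := Fact.out
  rw [← relIndex_eq_one]
  have h1 : S.relIndex S' ∣ S.relIndex H := ⟨_, (relIndex_mul_relIndex S S' H hSS' hS'H).symm⟩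
  have h2 : S.relIndex S' ∣ Nat.card S' := relIndex_dvd_card S S'
  obtain ⟨k, hk⟩ := IsPGroup.iff_card.mp hS'
  rw [hk] at h2
  obtain ⟨j, _, hj⟩ := (Nat.dvd_prime_pow hp).mp h2
  rcases Nat.eq_zero_or_pos j with h0 | h0
  · rw [hj, h0, pow_zero]
  · exfalso
    apply hidx
    rw [hj] at h1
    exact (dvd_pow_self p h0.ne').trans h1

/-- In a finite `p`-group `T`, a subgroup `H` with `N_T(H) ≤ H` is all of `T`. -/
theorem le_of_pgroup_of_normalizer_le [Finite G] {p : ℕ} [Fact p.Prime]
    {H T : Subgroup G} (hT : IsPGroup p T) (hHT : H ≤ T)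
    (h : T ⊓ Subgroup.normalizer (H : Set G) ≤ H) : T ≤ H := by
  have : Group.IsNilpotent T := hT.isNilpotent
  have hnc : NormalizerCondition T := Group.normalizerCondition_of_isNilpotent
  rw [normalizerCondition_iff_only_full_group_self_normalizing] at hnc
  have h1 : Subgroup.normalizer ((H.subgroupOf T : Subgroup T) : Set T) = H.subgroupOf T := by
    rw [← Subgroup.subgroupOf_normalizer_eq hHT]
    apply le_antisymm
    · intro t ht
      rw [Subgroup.mem_subgroupOf] at ht ⊢
      exact h ⟨t.2, ht⟩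
    · intro t ht
      rw [Subgroup.mem_subgroupOf] at ht ⊢
      exact Subgroup.le_normalizer ht
  have h2 := hnc _ h1
  rwa [Subgroup.subgroupOf_eq_top] at h2

theorem cj_eq_of_le [Finite G] {x : G} {H : Subgroup G} (h : cj x H ≤ H) : cj x H = H :=
  Subgroup.eq_of_le_of_card_ge h (by rw [card_cj])

theorem mem_normalizer_of_cj_le [Finite G] {x : G} {H : Subgroup G} (h : cj x H ≤ H) :
    x ∈ normalizer (H : Set G) := by
  have heq := cj_eq_of_le h
  rw [mem_normalizer_iff]
  intro y
  constructor
  · intro hy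
    rw [← heq]; exact conj_mem_cj hy
  · intro hy
    rw [← heq, mem_cj] at hy
    have : x⁻¹ * (x * y * x⁻¹) * x = y := by group
    rwa [this] at hy

/-- A nontrivial `p`-subgroup does not have `p`-rank `≤ 0`. -/
theorem not_pRankLE_zero [Finite G] {p : ℕ} [Fact p.Prime] {D : Subgroup G} (hD : IsPGroup p D)
    (hne : D ≠ ⊥) : ¬ Cfsg.PRankLE p 0 D := by
  have hp : p.Prime := Fact.out
  intro hrank
  have hnt : Nontrivial D := (Subgroup.nontrivial_iff_ne_bot D).mpr hne
  obtain ⟨k, hk⟩ := IsPGroup.iff_card.mp hD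
  have hk0 : k ≠ 0 := by
    intro h0
    rw [h0, pow_zero] at hk
    have := (Nat.card_eq_one_iff_unique.mp hk).1
    exact not_subsingleton D this
  have hdvd : p ∣ Nat.card D := by rw [hk]; exact dvd_pow_self p hk0
  obtain ⟨a, ha⟩ := exists_prime_orderOf_dvd_card' p hdvd
  have h1 := hrank (zpowers a) inferInstance (by
    intro b hb
    obtain ⟨m, rfl⟩ := mem_zpowers_iff.mp hb
    rw [← zpow_natCast, ← zpow_mul, mul_comm, zpow_mul, zpow_natCast, ← ha, pow_orderOf_eq_one,
      one_zpow])
  rw [Nat.card_zpowers, ha, pow_zero] at h1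
  exact absurd h1 (not_le.mpr hp.one_lt)

theorem normalizer_le_kGeneratedCore [Finite G] {p : ℕ} [Fact p.Prime] {P D : Subgroup G}
    (hP : IsPGroup p P) (hDP : D ≤ P) (hne : D ≠ ⊥) :
    normalizer (D : Set G) ≤ Cfsg.kGeneratedCore p 1 P := by
  unfold Cfsg.kGeneratedCore
  have hD : IsPGroup p D := hP.to_le hDP
  exact le_iSup (fun Q : {Q : Subgroup G // Q ≤ P ∧ ¬ Cfsg.PRankLE p (1 - 1) Q} =>
    Subgroup.normalizer ((Q : Subgroup G) : Set G)) ⟨D, hDP, by simpa using not_pRankLE_zero hD hne⟩

/-- A subgroup containing `Γ_{P,1}(X)` controls fusion of nontrivial subgroups of `P`. -/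
theorem mem_of_cj_le_of_core_le [Finite G] {p : ℕ} [Fact p.Prime] (P : Sylow p G)
    (E : Subgroup G) (hE : Cfsg.kGeneratedCore p 1 (P : Subgroup G) ≤ E) :
    ∀ (n : ℕ) (D : Subgroup G) (x : G), Nat.card P - Nat.card D = n → D ≤ P → D ≠ ⊥ →
      cj x D ≤ P → x ∈ E := by
  intro n
  induction n using Nat.strong_induction_on with
  | _ n ih =>
    intro D x hn hDP hne hx
    have hPp : IsPGroup p (P : Subgroup G) := P.2
    have hNE : ∀ D' : Subgroup G, D' ≤ P → D' ≠ ⊥ → normalizer (D' : Set G) ≤ E :=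
      fun D' h1 h2 => (normalizer_le_kGeneratedCore hPp h1 h2).trans hE
    have hPne : (P : Subgroup G) ≠ ⊥ := by
      intro h; apply hne; rw [eq_bot_iff, ← h]; exact hDP
    have hPE : (P : Subgroup G) ≤ E := le_normalizer.trans (hNE P le_rfl hPne)
    by_cases hDeq : D = P
    · rw [hDeq] at hx
      exact hNE P le_rfl hPne (mem_normalizer_of_cj_le hx)
    · -- D is a proper subgroup of P
      set D2 : Subgroup G := cj x D with hD2
      have hD2ne : D2 ≠ ⊥ := by
        intro h
        apply hne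
        have : Nat.card D2 = 1 := by rw [h]; exact Subgroup.card_bot
        rw [hD2, card_cj] at this
        exact Subgroup.card_eq_one.mp this
      set N2 : Subgroup G := (P : Subgroup G) ⊓ normalizer (D2 : Set G) with hN2
      have hD2N2 : D2 ≤ N2 := le_inf hx le_normalizer
      have hcardlt : Nat.card D < Nat.card N2 := by
        have hle : Nat.card D2 ≤ Nat.card N2 := Subgroup.card_le_of_le hD2N2
        rw [hD2, card_cj] at hle
        rcases Nat.lt_or_ge (Nat.card D) (Nat.card N2) with h | h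
        · exact h
        · exfalso
          have hN2D2 : N2 ≤ D2 := by
            have : D2 = N2 := Subgroup.eq_of_le_of_card_ge hD2N2 (by rw [hD2, card_cj]; exact h)
            rw [← this]
          have hPD2 : (P : Subgroup G) ≤ D2 := le_of_pgroup_of_normalizer_le hPp hx hN2D2
          have hcard : Nat.card P ≤ Nat.card D := by
            have := Subgroup.card_le_of_le hPD2
            rwa [hD2, card_cj] at this
          apply hDeq
          exact Subgroup.eq_of_le_of_card_ge hDP hcard
      have hN2ne : N2 ≠ ⊥ := by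
        intro h; apply hD2ne; rw [eq_bot_iff, ← h]; exact hD2N2
      -- conjugate N2 back
      have h1 : cj x⁻¹ N2 ≤ normalizer (D : Set G) := by
        have : cj x⁻¹ N2 ≤ cj x⁻¹ (normalizer (D2 : Set G)) := cj_mono inf_le_right
        rw [cj_normalizer, hD2, cj_inv_cj] at this
        exact this
      have h2 : cj x⁻¹ N2 ≤ E := h1.trans (hNE D hDP hne)
      have hidx : ¬ p ∣ (P : Subgroup G).relIndex E := by
        intro hdvd
        exact P.not_dvd_index (hdvd.trans (relIndex_dvd_index_of_le hPE))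
      have hN2p : IsPGroup p (cj x⁻¹ N2) := isPGroup_cj (hPp.to_le inf_le_left)
      obtain ⟨e, heE, he⟩ := exists_cj_le_of_relIndex hPp hidx h2 hN2p
      rw [← cj_mul] at he
      have hlt : Nat.card P - Nat.card N2 < n := by
        have hN2P : Nat.card N2 ≤ Nat.card P := Subgroup.card_le_of_le inf_le_left
        have hDle : Nat.card D ≤ Nat.card P := Subgroup.card_le_of_le hDP
        omega
      have h3 : e * x⁻¹ ∈ E := ih _ hlt N2 (e * x⁻¹) rfl inf_le_left hN2ne he
      have h4 : x⁻¹ ∈ E := by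
        have := E.mul_mem (E.inv_mem heE) h3
        simpa using this
      simpa using E.inv_mem h4

/-- If `E` is strongly `p`-embedded in the finite group `X` with respect to the Sylow subgroup `P`
then `P` meets some conjugate of itself trivially. -/
theorem exists_cj_disjoint [Finite G] {p : ℕ} [Fact p.Prime] (P : Sylow p G)
    (E : Subgroup G) (hE : Cfsg.kGeneratedCore p 1 (P : Subgroup G) ≤ E) (hEtop : E ≠ ⊤) :
    ∃ x : G, (P : Subgroup G) ⊓ cj x (P : Subgroup G) = ⊥ := by
  have : ∃ x : G, x ∉ E := by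
    by_contra h
    push Not at h
    exact hEtop (eq_top_iff.mpr fun x _ => h x)
  obtain ⟨x, hx⟩ := this
  refine ⟨x, ?_⟩
  by_contra hne
  apply hx
  have h1 : cj x⁻¹ ((P : Subgroup G) ⊓ cj x (P : Subgroup G)) ≤ P := by
    have := cj_mono (g := x⁻¹) (inf_le_right : (P : Subgroup G) ⊓ cj x (P : Subgroup G) ≤ _)
    rwa [cj_inv_cj] at this
  have := mem_of_cj_le_of_core_le P E hE _ _ x⁻¹ rfl inf_le_left hne h1
  simpa using E.inv_mem this

end Cfsg.Agent.Lib.Helper34_Fusion
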