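import Cfsg.Agent.Lib.Helper96_SubPres
import Cfsg.Prelude.Def_Spor_Suz

/-!
# The sub-presentations of the presentation of Suz (helper96)

`K1` on `a, …, f` (a group mapping onto `G₂(4)`), `K2` on `a, …, e` (onto `J₂`), `K3` on `a, b, c, d` (onto
`3·PGL₂(9)`), `K4` on `a, b` (dihedral of order 10): the relators of each are the relators of the presentation of
`Suz` that involve its generators only.
-/

set_option autoImplicit false

namespace Cfsg.Agent.Lib.Helper96_SuzSub

open Cfsg.Spor

namespace K1

/-- The generators a, b, c, d, e, f. -/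
inductive Gen
  | a | b | c | d | e | f
  deriving DecidableEq

/-- the generator a as a word -/ abbrev a : FreeGroup Gen := FreeGroup.of Gen.a
/-- the generator b as a word -/ abbrev b : FreeGroup Gen := FreeGroup.of Gen.b
/-- the generator c as a word -/ abbrev c : FreeGroup Gen := FreeGroup.of Gen.c
/-- the generator d as a word -/ abbrev d : FreeGroup Gen := FreeGroup.of Gen.d
/-- the generator e as a word -/ abbrev e : FreeGroup Gen := FreeGroup.of Gen.e
/-- the generator f as a word -/ abbrev f : FreeGroup Gen := FreeGroup.of Gen.f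

/-- the graph -/
def edges : List (Gen × ℕ × Gen) := [(.a, 5, .b), (.b, 3, .c), (.c, 8, .d), (.d, 3, .e), (.b, 3, .f)]

/-- the further relators -/
def extra : List (FreeGroup Gen) := [
  a * ((c * d) ^ 4)⁻¹,
  (a * b * c * f) ^ 5,
  ((b * c * d * c * d) ^ 5 * e) ^ 3 ]

/-- the inclusion of the generators -/
def ι : Gen → Suz.Gen
  | .a => .a | .b => .b | .c => .c | .d => .d | .e => .e | .f => .f

end K1

namespace K2

/-- The generators a, b, c, d, e. -/
inductive Gen
  | a | b | c | d | e
  deriving DecidableEq

/-- the generator a as a word -/ abbrev a : FreeGroup Gen := FreeGroup.of Gen.a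
/-- the generator b as a word -/ abbrev b : FreeGroup Gen := FreeGroup.of Gen.b
/-- the generator c as a word -/ abbrev c : FreeGroup Gen := FreeGroup.of Gen.c
/-- the generator d as a word -/ abbrev d : FreeGroup Gen := FreeGroup.of Gen.d
/-- the generator e as a word -/ abbrev e : FreeGroup Gen := FreeGroup.of Gen.e

/-- the graph -/
def edges : List (Gen × ℕ × Gen) := [(.a, 5, .b), (.b, 3, .c), (.c, 8, .d), (.d, 3, .e)]

/-- the further relators -/
def extra : List (FreeGroup Gen) := [
  a * ((c * d) ^ 4)⁻¹,
  ((b * c * d * c * d) ^ 5 * e) ^ 3 ]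

/-- the inclusion of the generators -/
def ι : Gen → K1.Gen
  | .a => .a | .b => .b | .c => .c | .d => .d | .e => .e

end K2

namespace K3

/-- The generators a, b, c, d. -/
inductive Gen
  | a | b | c | d
  deriving DecidableEq

/-- the generator a as a word -/ abbrev a : FreeGroup Gen := FreeGroup.of Gen.a
/-- the generator b as a word -/ abbrev b : FreeGroup Gen := FreeGroup.of Gen.b
/-- the generator c as a word -/ abbrev c : FreeGroup Gen := FreeGroup.of Gen.c
/-- the generator d as a word -/ abbrev d : FreeGroup Gen := FreeGroup.of Gen.d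

/-- the graph -/
def edges : List (Gen × ℕ × Gen) := [(.a, 5, .b), (.b, 3, .c), (.c, 8, .d)]

/-- the further relators -/
def extra : List (FreeGroup Gen) := [
  a * ((c * d) ^ 4)⁻¹ ]

/-- the inclusion of the generators -/
def ι : Gen → K2.Gen
  | .a => .a | .b => .b | .c => .c | .d => .d

end K3

namespace K4

/-- The generators a, b. -/
inductive Gen
  | a | b
  deriving DecidableEq

/-- the generator a as a word -/ abbrev a : FreeGroup Gen := FreeGroup.of Gen.a
/-- the generator b as a word -/ abbrev b : FreeGroup Gen := FreeGroup.of Gen.b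

/-- the graph -/
def edges : List (Gen × ℕ × Gen) := [(.a, 5, .b)]

/-- the further relators -/
def extra : List (FreeGroup Gen) := []

/-- the inclusion of the generators -/
def ι : Gen → K3.Gen
  | .a => .a | .b => .b

end K4

open Cfsg.Agent.Lib.Helper96_SubPres

theorem ok1 : SubOk K1.ι K1.edges K1.extra Suz.edges Suz.extra := by
  refine ⟨?_, ?_, ?_⟩
  · intro x _; cases x <;> decide
  · intro x _ y _; cases x <;> cases y <;> decide
  · decide

theorem ok2 : SubOk K2.ι K2.edges K2.extra K1.edges K1.extra := by
  refine ⟨?_, ?_, ?_⟩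
  · intro x _; cases x <;> decide
  · intro x _ y _; cases x <;> cases y <;> decide
  · decide

theorem ok3 : SubOk K3.ι K3.edges K3.extra K2.edges K2.extra := by
  refine ⟨?_, ?_, ?_⟩
  · intro x _; cases x <;> decide
  · intro x _ y _; cases x <;> cases y <;> decide
  · decide

theorem ok4 : SubOk K4.ι K4.edges K4.extra K3.edges K3.extra := by
  refine ⟨?_, ?_, ?_⟩
  · intro x _; cases x <;> decide
  · intro x _ y _; cases x <;> cases y <;> decide
  · decide

end Cfsg.Agent.Lib.Helper96_SuzSub
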