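import Mathlib
import Cfsg.Agent.Lib.Helper96_SuzSubDefs

/-! Homomorphisms from the group `K1` of the sub-presentation on `a, …, f` of the presentation of the Suzuki
group: generators of any group that satisfy the relations give a homomorphism; by helper19. -/

set_option autoImplicit false

namespace Cfsg.Agent.Lib.helper19_G24H

open Cfsg Cfsg.Spor
open Cfsg.Agent.Lib.Helper96_SuzSub Cfsg.Agent.Lib.Helper96_SubPres

/-- the group of the sub-presentation on `a, …, f` -/
abbrev K1pres : Type := CoxPresented K1.Gen K1.edges K1.extra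

/-! ### a homomorphism from the group of the sub-presentation -/

theorem pow_swap {Γ : Type*} [Group Γ] (x y : Γ) (n : ℕ) (h : (x * y) ^ n = 1) : (y * x) ^ n = 1 := by
  have e : y * x = y * (x * y) * y⁻¹ := by group
  rw [e, conj_pow, h]
  group

theorem comm_sq {Γ : Type*} [Group Γ] (x y : Γ) (hx : x * x = 1) (hy : y * y = 1) (h : x * y = y * x) :
    (x * y) ^ 2 = 1 := by
  rw [pow_two]
  calc x * y * (x * y) = x * y * (y * x) := by rw [h]
    _ = x * (y * y) * x := by group
    _ = 1 := by rw [hy, mul_one, hx]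

theorem exists_hom {Γ : Type*} [Group Γ] (g : K1.Gen → Γ)
    (hsq : ∀ x, g x * g x = 1)
    (hab : (g .a * g .b) ^ 5 = 1) (hbc : (g .b * g .c) ^ 3 = 1) (hcd : (g .c * g .d) ^ 8 = 1)
    (hde : (g .d * g .e) ^ 3 = 1) (hbf : (g .b * g .f) ^ 3 = 1)
    (hac : g .a * g .c = g .c * g .a) (had : g .a * g .d = g .d * g .a)
    (hae : g .a * g .e = g .e * g .a) (haf : g .a * g .f = g .f * g .a)
    (hbd : g .b * g .d = g .d * g .b) (hbe : g .b * g .e = g .e * g .b)
    (hce : g .c * g .e = g .e * g .c) (hcf : g .c * g .f = g .f * g .c)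
    (hdf : g .d * g .f = g .f * g .d) (hef : g .e * g .f = g .f * g .e)
    (h1 : g .a = (g .c * g .d) ^ 4)
    (h2 : (g .a * g .b * g .c * g .f) ^ 5 = 1)
    (h3 : ((g .b * g .c * g .d * g .c * g .d) ^ 5 * g .e) ^ 3 = 1) :
    ∃ θ : K1pres →* Γ, ∀ x, θ (PresentedGroup.of x) = g x := by
  have key : ∀ x y : K1.Gen, (g x * g y) ^ coxLabel K1.edges x y = 1 := by
    intro x y
    cases x <;> cases y
    · exact (pow_one _).trans (hsq _)
    · exact hab
    · exact comm_sq _ _ (hsq _) (hsq _) hac
    · exact comm_sq _ _ (hsq _) (hsq _) had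
    · exact comm_sq _ _ (hsq _) (hsq _) hae
    · exact comm_sq _ _ (hsq _) (hsq _) haf
    · exact pow_swap _ _ _ hab
    · exact (pow_one _).trans (hsq _)
    · exact hbc
    · exact comm_sq _ _ (hsq _) (hsq _) hbd
    · exact comm_sq _ _ (hsq _) (hsq _) hbe
    · exact hbf
    · exact comm_sq _ _ (hsq _) (hsq _) hac.symm
    · exact pow_swap _ _ _ hbc
    · exact (pow_one _).trans (hsq _)
    · exact hcd
    · exact comm_sq _ _ (hsq _) (hsq _) hce
    · exact comm_sq _ _ (hsq _) (hsq _) hcf
    · exact comm_sq _ _ (hsq _) (hsq _) had.symm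
    · exact comm_sq _ _ (hsq _) (hsq _) hbd.symm
    · exact pow_swap _ _ _ hcd
    · exact (pow_one _).trans (hsq _)
    · exact hde
    · exact comm_sq _ _ (hsq _) (hsq _) hdf
    · exact comm_sq _ _ (hsq _) (hsq _) hae.symm
    · exact comm_sq _ _ (hsq _) (hsq _) hbe.symm
    · exact comm_sq _ _ (hsq _) (hsq _) hce.symm
    · exact pow_swap _ _ _ hde
    · exact (pow_one _).trans (hsq _)
    · exact comm_sq _ _ (hsq _) (hsq _) hef
    · exact comm_sq _ _ (hsq _) (hsq _) haf.symm
    · exact pow_swap _ _ _ hbf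
    · exact comm_sq _ _ (hsq _) (hsq _) hcf.symm
    · exact comm_sq _ _ (hsq _) (hsq _) hdf.symm
    · exact comm_sq _ _ (hsq _) (hsq _) hef.symm
    · exact (pow_one _).trans (hsq _)
  have hrel : ∀ r ∈ coxRelators K1.edges ∪ {r | r ∈ K1.extra}, FreeGroup.lift g r = 1 := by
    intro r hr
    rcases hr with ⟨x, _, y, _, rfl⟩ | hr
    · rw [map_pow, map_mul, FreeGroup.lift_apply_of, FreeGroup.lift_apply_of]
      exact key x y
    · have hr' : r = K1.a * ((K1.c * K1.d) ^ 4)⁻¹ ∨ r = (K1.a * K1.b * K1.c * K1.f) ^ 5 ∨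
          r = ((K1.b * K1.c * K1.d * K1.c * K1.d) ^ 5 * K1.e) ^ 3 := by
        simpa [K1.extra] using hr
      rcases hr' with rfl | rfl | rfl
      · simp only [map_mul, map_pow, map_inv, FreeGroup.lift_apply_of]
        rw [← h1]
        exact mul_inv_cancel _
      · simp only [map_mul, map_pow, FreeGroup.lift_apply_of]
        exact h2
      · simp only [map_mul, map_pow, FreeGroup.lift_apply_of]
        exact h3
  exact ⟨PresentedGroup.toGroup (f := g) hrel, fun x => PresentedGroup.toGroup.of hrel⟩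

/-- the letter of a generator -/
def li : K1.Gen → ℕ
  | .a => 0 | .b => 1 | .c => 2 | .d => 3 | .e => 4 | .f => 5

/-- the generator of a letter -/
def lt (n : ℕ) : K1.Gen :=
  match n with
  | 0 => .a | 1 => .b | 2 => .c | 3 => .d | 4 => .e | _ => .f

theorem li_lt (x : K1.Gen) : lt (li x) = x := by
  cases x <;> rfl

theorem li_lt_six (x : K1.Gen) : li x < 6 := by
  cases x <;> decide

end Cfsg.Agent.Lib.helper19_G24H
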