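import Mathlib

/-! Matrices over the field with four elements given by packed rows of natural numbers (two bits for each
entry), on the index set of the adjoint representation of the Chevalley group of type `G₂`; by helper19. -/

set_option autoImplicit false

namespace Cfsg.Agent.Lib.helper19_G24M

/-- the field with four elements -/
abbrev F4 : Type := QuadraticAlgebra (ZMod 2) 1 1

instance fact_no_root : Fact (∀ r : ZMod 2, r ^ 2 ≠ 1 + 1 * r) := ⟨by decide⟩

instance fintypeF4 : Fintype F4 :=
  Fintype.ofEquiv (ZMod 2 × ZMod 2) (QuadraticAlgebra.equivProd 1 1).symm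

theorem card_F4 : Fintype.card F4 = 4 := by
  rw [Fintype.card_congr (QuadraticAlgebra.equivProd (1 : ZMod 2) 1)]
  rfl

/-- the index set of the adjoint representation -/
abbrev Idx : Type := Fin 2 ⊕ Fin 12

/-- the position of an index -/
def idxOf (i : Idx) : ℕ := match i with | Sum.inl a => a.val | Sum.inr b => 2 + b.val

/-- the element with a given code -/
def ofCode (n : ℕ) : F4 := ⟨((n % 2 : ℕ) : ZMod 2), (((n / 2) % 2 : ℕ) : ZMod 2)⟩

/-- the matrix with given packed rows -/
def mkM (rows : List ℕ) : Matrix Idx Idx F4 :=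
  Matrix.of fun i j => ofCode ((rows.getD (idxOf i) 0 >>> (2 * idxOf j)) % 4)

/-- a generator of the field -/
def w : F4 := ⟨0, 1⟩

theorem F4_cases (t : F4) : t = 0 ∨ t = 1 ∨ t = w ∨ t = w + 1 := by
  obtain ⟨a, b⟩ := t
  fin_cases a <;> fin_cases b
  · left; rfl
  · right; right; left; rfl
  · right; left; rfl
  · right; right; right; rfl

end Cfsg.Agent.Lib.helper19_G24M
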