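import Mathlib
import Cfsg.Agent.Lib.helper19_G24M
import Cfsg.Agent.Lib.helper19_G24H

/-!
# Helper34_G24Rep (helper34)

The `6`-dimensional representation over the field with four elements of the group `K1pres`
(`≅ G₂(4)`, helper19): explicit `6 × 6` matrices for the generators `a, …, f` (the images of the
root elements on the short-root weight spaces of the `7`-dimensional module modulo its fixed line
in characteristic `2`) that satisfy the relations of the presentation, and the computational facts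
used for the prime graph: the images of `ade`, `abd`, `abcbdefb`, `abcbdef` have orders
`6`, `10`, `7`, `13` and the last two have no eigenvalue `1`.
-/

set_option autoImplicit false

namespace Cfsg.Agent.Lib.Helper34_G24Rep

open Cfsg.Agent.Lib.helper19_G24M Cfsg.Agent.Lib.helper19_G24H
open Cfsg.Agent.Lib.Helper96_SuzSub

/-- `6 × 6` matrices over the field with four elements -/
abbrev M6 : Type := Matrix (Fin 6) (Fin 6) F4

/-- explicit product of `6 × 6` matrices -/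
def mul6 (A B : M6) : M6 :=
  fun i j => A i 0 * B 0 j + A i 1 * B 1 j + A i 2 * B 2 j + A i 3 * B 3 j + A i 4 * B 4 j +
    A i 5 * B 5 j

theorem mul6_eq (A B : M6) : mul6 A B = A * B := by
  refine Matrix.ext fun i j => ?_
  rw [Matrix.mul_apply]
  simp only [Fin.sum_univ_succ, Fin.sum_univ_zero, add_zero]
  simp only [mul6, add_assoc]
  rfl

/-- the matrix with given entry codes (row by row) -/
def lit (l : List ℕ) : M6 := fun i j => ofCode (l.getD (6 * i.val + j.val) 0)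

/-- the matrices of the generators `a, …, f` (letters `0, …, 5`) -/
def r6 (n : ℕ) : M6 :=
  match n with
  | 0 => lit [1, 0, 0, 0, 0, 1, 0, 1, 0, 0, 0, 0, 0, 0, 1, 0, 0, 0, 0, 0, 0, 1, 0, 0, 0, 1, 0, 0, 1, 0, 0, 0, 0, 0, 0, 1]
  | 1 => lit [1, 0, 0, 0, 0, 0, 0, 1, 0, 2, 2, 0, 2, 0, 0, 0, 0, 1, 0, 0, 0, 0, 1, 0, 0, 0, 0, 1, 0, 0, 2, 0, 1, 0, 0, 0]
  | 2 => lit [1, 0, 0, 0, 0, 0, 0, 1, 0, 0, 0, 0, 0, 0, 1, 0, 0, 1, 0, 0, 0, 1, 0, 0, 0, 0, 0, 1, 1, 0, 0, 0, 0, 0, 0, 1]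
  | 3 => lit [1, 0, 0, 1, 1, 0, 0, 1, 0, 0, 0, 0, 0, 1, 1, 0, 0, 0, 0, 0, 1, 1, 0, 1, 0, 0, 1, 0, 1, 1, 0, 1, 0, 0, 0, 1]
  | 4 => lit [1, 2, 0, 3, 0, 0, 0, 1, 0, 0, 0, 1, 0, 3, 1, 1, 0, 0, 0, 0, 0, 1, 0, 3, 1, 0, 3, 0, 1, 0, 0, 0, 0, 0, 0, 1]
  | _ => lit [1, 0, 0, 0, 0, 3, 0, 1, 0, 0, 0, 0, 0, 0, 1, 0, 0, 0, 0, 0, 0, 1, 0, 0, 0, 3, 0, 0, 1, 0, 0, 0, 0, 0, 0, 1]

/-- the value of a word in the letters `0, …, 5` -/
def ev6 : List ℕ → M6
  | [] => 1
  | x :: xs => mul6 (r6 x) (ev6 xs)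

theorem ev6_eq (wd : List ℕ) : ev6 wd = (wd.map r6).prod := by
  induction wd with
  | nil => rfl
  | cons x xs ih => rw [ev6, mul6_eq, ih, List.map_cons, List.prod_cons]

/-- powers through `mul6` -/
def pw6 (M : M6) : ℕ → M6
  | 0 => 1
  | n + 1 => mul6 (pw6 M n) M

theorem pw6_eq (M : M6) (n : ℕ) : pw6 M n = M ^ n := by
  induction n with
  | zero => rfl
  | succ n ih => rw [pw6, mul6_eq, ih, pow_succ]

/-! ### the relations -/

theorem rel_sq : ev6 [0, 0] = 1 ∧ ev6 [1, 1] = 1 ∧ ev6 [2, 2] = 1 ∧ ev6 [3, 3] = 1 ∧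
    ev6 [4, 4] = 1 ∧ ev6 [5, 5] = 1 := by decide +kernel

theorem rel_ab : pw6 (ev6 [0, 1]) 5 = 1 := by decide +kernel
theorem rel_bc : pw6 (ev6 [1, 2]) 3 = 1 := by decide +kernel
theorem rel_cd : pw6 (ev6 [2, 3]) 8 = 1 := by decide +kernel
theorem rel_de : pw6 (ev6 [3, 4]) 3 = 1 := by decide +kernel
theorem rel_bf : pw6 (ev6 [1, 5]) 3 = 1 := by decide +kernel

theorem rel_comm : ev6 [0, 2] = ev6 [2, 0] ∧ ev6 [0, 3] = ev6 [3, 0] ∧ ev6 [0, 4] = ev6 [4, 0] ∧
    ev6 [0, 5] = ev6 [5, 0] ∧ ev6 [1, 3] = ev6 [3, 1] ∧ ev6 [1, 4] = ev6 [4, 1] ∧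
    ev6 [2, 4] = ev6 [4, 2] ∧ ev6 [2, 5] = ev6 [5, 2] ∧ ev6 [3, 5] = ev6 [5, 3] ∧
    ev6 [4, 5] = ev6 [5, 4] := by decide +kernel

theorem rel_a : ev6 [0] = pw6 (ev6 [2, 3]) 4 := by decide +kernel
theorem rel_abcf : pw6 (ev6 [0, 1, 2, 5]) 5 = 1 := by decide +kernel
theorem rel_last : pw6 (mul6 (pw6 (ev6 [1, 2, 3, 2, 3]) 5) (ev6 [4])) 3 = 1 := by decide +kernel

/-! ### the homomorphism -/

theorem gm6_sq (x : K1.Gen) : r6 (li x) * r6 (li x) = 1 := by
  obtain ⟨h0, h1, h2, h3, h4, h5⟩ := rel_sq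
  simp only [ev6, mul6_eq, mul_one] at h0 h1 h2 h3 h4 h5
  cases x
  · exact h0
  · exact h1
  · exact h2
  · exact h3
  · exact h4
  · exact h5

/-- the invertible matrix of a generator -/
def gl6 (x : K1.Gen) : GL (Fin 6) F4 := ⟨r6 (li x), r6 (li x), gm6_sq x, gm6_sq x⟩

theorem gl6_val (x : K1.Gen) : ((gl6 x : GL (Fin 6) F4) : M6) = r6 (li x) := rfl

theorem coe_prod6 (wd : List K1.Gen) :
    (((wd.map gl6).prod : GL (Fin 6) F4) : M6) = ev6 (wd.map li) := by
  induction wd with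
  | nil => rfl
  | cons x wd ih =>
    rw [List.map_cons, List.prod_cons, Units.val_mul, ih, List.map_cons, ev6, mul6_eq, gl6_val]

theorem gl6_sq (x : K1.Gen) : gl6 x * gl6 x = 1 := Units.ext (gm6_sq x)

theorem gl6_ab : (gl6 .a * gl6 .b) ^ 5 = 1 := by
  have h := rel_ab
  simp only [pw6_eq, ev6, mul6_eq, mul_one] at h
  apply Units.ext
  simp only [Units.val_pow_eq_pow_val, Units.val_mul, Units.val_one, gl6_val, li]
  exact h

theorem gl6_bc : (gl6 .b * gl6 .c) ^ 3 = 1 := by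
  have h := rel_bc
  simp only [pw6_eq, ev6, mul6_eq, mul_one] at h
  apply Units.ext
  simp only [Units.val_pow_eq_pow_val, Units.val_mul, Units.val_one, gl6_val, li]
  exact h

theorem gl6_cd : (gl6 .c * gl6 .d) ^ 8 = 1 := by
  have h := rel_cd
  simp only [pw6_eq, ev6, mul6_eq, mul_one] at h
  apply Units.ext
  simp only [Units.val_pow_eq_pow_val, Units.val_mul, Units.val_one, gl6_val, li]
  exact h

theorem gl6_de : (gl6 .d * gl6 .e) ^ 3 = 1 := by
  have h := rel_de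
  simp only [pw6_eq, ev6, mul6_eq, mul_one] at h
  apply Units.ext
  simp only [Units.val_pow_eq_pow_val, Units.val_mul, Units.val_one, gl6_val, li]
  exact h

theorem gl6_bf : (gl6 .b * gl6 .f) ^ 3 = 1 := by
  have h := rel_bf
  simp only [pw6_eq, ev6, mul6_eq, mul_one] at h
  apply Units.ext
  simp only [Units.val_pow_eq_pow_val, Units.val_mul, Units.val_one, gl6_val, li]
  exact h

theorem gl6_comm (x y : K1.Gen) (h : ev6 [li x, li y] = ev6 [li y, li x]) :
    gl6 x * gl6 y = gl6 y * gl6 x := by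
  simp only [ev6, mul6_eq, mul_one] at h
  apply Units.ext
  simp only [Units.val_mul, gl6_val]
  exact h

theorem gl6_a_eq : gl6 .a = (gl6 .c * gl6 .d) ^ 4 := by
  have h := rel_a
  simp only [pw6_eq, ev6, mul6_eq, mul_one] at h
  apply Units.ext
  simp only [Units.val_pow_eq_pow_val, Units.val_mul, gl6_val, li]
  exact h

theorem gl6_abcf : (gl6 .a * gl6 .b * gl6 .c * gl6 .f) ^ 5 = 1 := by
  have h := rel_abcf
  simp only [pw6_eq, ev6, mul6_eq, mul_one] at h
  apply Units.ext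
  simp only [Units.val_pow_eq_pow_val, Units.val_mul, Units.val_one, gl6_val, li, mul_assoc]
  exact h

theorem gl6_last : ((gl6 .b * gl6 .c * gl6 .d * gl6 .c * gl6 .d) ^ 5 * gl6 .e) ^ 3 = 1 := by
  have h := rel_last
  simp only [pw6_eq, ev6, mul6_eq, mul_one] at h
  apply Units.ext
  simp only [Units.val_pow_eq_pow_val, Units.val_mul, Units.val_one, gl6_val, li, mul_assoc]
  exact h

theorem exists_rho : ∃ ρ : K1pres →* GL (Fin 6) F4, ∀ x, ρ (PresentedGroup.of x) = gl6 x :=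
  exists_hom gl6 gl6_sq gl6_ab gl6_bc gl6_cd gl6_de gl6_bf
    (gl6_comm _ _ rel_comm.1) (gl6_comm _ _ rel_comm.2.1) (gl6_comm _ _ rel_comm.2.2.1)
    (gl6_comm _ _ rel_comm.2.2.2.1) (gl6_comm _ _ rel_comm.2.2.2.2.1)
    (gl6_comm _ _ rel_comm.2.2.2.2.2.1) (gl6_comm _ _ rel_comm.2.2.2.2.2.2.1)
    (gl6_comm _ _ rel_comm.2.2.2.2.2.2.2.1) (gl6_comm _ _ rel_comm.2.2.2.2.2.2.2.2.1)
    (gl6_comm _ _ rel_comm.2.2.2.2.2.2.2.2.2) gl6_a_eq gl6_abcf gl6_last

/-- the `6`-dimensional representation of `K1pres ≅ G₂(4)` -/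
noncomputable def rho : K1pres →* GL (Fin 6) F4 := exists_rho.choose

theorem rho_of (x : K1.Gen) : rho (PresentedGroup.of x) = gl6 x := exists_rho.choose_spec x

/-- the element of `K1pres` of a word -/
def wordOf (wd : List K1.Gen) : K1pres := (wd.map fun x => (PresentedGroup.of x : K1pres)).prod

theorem rho_word (wd : List K1.Gen) :
    ((rho (wordOf wd) : GL (Fin 6) F4) : M6) = ev6 (wd.map li) := by
  rw [← coe_prod6, wordOf, map_list_prod, List.map_map]
  congr 2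
  apply List.map_congr_left
  intro x _
  exact rho_of x

/-! ### the module -/

/-- the module `F₄⁶` -/
def V6 : Type := Fin 6 → F4

instance : AddCommGroup V6 := inferInstanceAs (AddCommGroup (Fin 6 → F4))

instance : Finite V6 := inferInstanceAs (Finite (Fin 6 → F4))

/-- the vector of an element of the module -/
def V6.vec (v : V6) : Fin 6 → F4 := v

noncomputable instance : DistribMulAction K1pres V6 where
  smul g v := ((rho g : GL (Fin 6) F4) : M6).mulVec v.vec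
  one_smul v := by
    show ((rho 1 : GL (Fin 6) F4) : M6).mulVec v.vec = v
    rw [map_one, Units.val_one, Matrix.one_mulVec]
    rfl
  mul_smul g h v := by
    show ((rho (g * h) : GL (Fin 6) F4) : M6).mulVec v.vec =
      ((rho g : GL (Fin 6) F4) : M6).mulVec (((rho h : GL (Fin 6) F4) : M6).mulVec v.vec)
    rw [map_mul, Units.val_mul, Matrix.mulVec_mulVec]
  smul_zero g := by
    show ((rho g : GL (Fin 6) F4) : M6).mulVec (0 : Fin 6 → F4) = 0
    rw [Matrix.mulVec_zero]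
  smul_add g v w := by
    show ((rho g : GL (Fin 6) F4) : M6).mulVec (v.vec + w.vec) =
      ((rho g : GL (Fin 6) F4) : M6).mulVec v.vec + ((rho g : GL (Fin 6) F4) : M6).mulVec w.vec
    rw [Matrix.mulVec_add]

theorem smul_def (g : K1pres) (v : V6) :
    g • v = ((rho g : GL (Fin 6) F4) : M6).mulVec v.vec := rfl

theorem two_nsmul_V6 (v : V6) : 2 • v = 0 := by
  have h : ∀ t : F4, t + t = 0 := by decide
  funext i
  rw [two_nsmul]
  exact h (v i)

theorem exists_ne_zero_V6 : ∃ v : V6, v ≠ 0 := by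
  refine ⟨fun _ => 1, fun h => ?_⟩
  have h1 : (1 : F4) = 0 := congrFun h 0
  exact absurd h1 (by decide)

/-! ### the four elements -/

theorem order_facts :
    (pw6 (ev6 [0, 3, 4]) 6 = 1 ∧ pw6 (ev6 [0, 3, 4]) 2 ≠ 1 ∧ pw6 (ev6 [0, 3, 4]) 3 ≠ 1) ∧
    (pw6 (ev6 [0, 1, 3]) 10 = 1 ∧ pw6 (ev6 [0, 1, 3]) 2 ≠ 1 ∧ pw6 (ev6 [0, 1, 3]) 5 ≠ 1) ∧
    pw6 (ev6 [0, 1, 2, 1, 3, 4, 5, 1]) 7 = 1 ∧ pw6 (ev6 [0, 1, 2, 1, 3, 4, 5]) 13 = 1 := by
  decide +kernel

/-- the inverse of `ρ(abcbdefb) - 1` -/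
def inv7 : M6 := lit [0, 0, 0, 1, 1, 2, 3, 1, 0, 1, 3, 1, 1, 1, 0, 2, 1, 0, 0, 0, 0, 1, 0, 3, 1, 2, 3, 0, 1, 0, 3, 1, 0, 1, 3, 0]

/-- the inverse of `ρ(abcbdef) - 1` -/
def inv13 : M6 := lit [1, 1, 2, 3, 2, 3, 1, 0, 2, 1, 0, 1, 1, 3, 3, 0, 0, 1, 2, 2, 3, 2, 1, 1, 1, 3, 1, 1, 2, 3, 0, 2, 1, 0, 1, 3]

theorem inv_facts : mul6 inv7 (ev6 [0, 1, 2, 1, 3, 4, 5, 1]) = 1 + inv7 ∧
    mul6 inv13 (ev6 [0, 1, 2, 1, 3, 4, 5]) = 1 + inv13 := by
  decide +kernel

/-- a matrix `M` with `N * M = 1 + N` has no nonzero fixed vector -/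
theorem fpf_of_inv (N M : M6) (h : N * M = 1 + N) (v : Fin 6 → F4) (hv : M.mulVec v = v) :
    v = 0 := by
  have h1 : (N * M).mulVec v = N.mulVec v := by rw [← Matrix.mulVec_mulVec, hv]
  rw [h, Matrix.add_mulVec, Matrix.one_mulVec] at h1
  exact add_eq_right.1 h1

/-- the element of order `7` -/
def w7 : List K1.Gen := [.a, .b, .c, .b, .d, .e, .f, .b]
/-- the element of order `13` -/
def w13 : List K1.Gen := [.a, .b, .c, .b, .d, .e, .f]
/-- an element of order `6` -/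
def w6 : List K1.Gen := [.a, .d, .e]
/-- an element of order `10` -/
def w10 : List K1.Gen := [.a, .b, .d]

theorem fpf_w7 (v : V6) (hv : wordOf w7 • v = v) : v = 0 := by
  rw [smul_def, rho_word] at hv
  have h := inv_facts.1
  rw [mul6_eq] at h
  exact fpf_of_inv inv7 _ h v hv

theorem fpf_w13 (v : V6) (hv : wordOf w13 • v = v) : v = 0 := by
  rw [smul_def, rho_word] at hv
  have h := inv_facts.2
  rw [mul6_eq] at h
  exact fpf_of_inv inv13 _ h v hv

theorem pow_w7 (v : V6) : wordOf w7 ^ 7 • v = v := by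
  rw [smul_def, map_pow, Units.val_pow_eq_pow_val, rho_word]
  have h := order_facts.2.2.1
  rw [pw6_eq] at h
  show (ev6 [0, 1, 2, 1, 3, 4, 5, 1] ^ 7).mulVec v.vec = v
  rw [h, Matrix.one_mulVec]
  rfl

theorem pow_w13 (v : V6) : wordOf w13 ^ 13 • v = v := by
  rw [smul_def, map_pow, Units.val_pow_eq_pow_val, rho_word]
  have h := order_facts.2.2.2
  rw [pw6_eq] at h
  show (ev6 [0, 1, 2, 1, 3, 4, 5] ^ 13).mulVec v.vec = v
  rw [h, Matrix.one_mulVec]
  rfl

/-- the order of the image of a word divides the order of the word -/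
theorem orderOf_ev6_dvd (wd : List K1.Gen) : orderOf (ev6 (wd.map li)) ∣ orderOf (wordOf wd) := by
  rw [← rho_word, orderOf_units]
  exact orderOf_map_dvd rho (wordOf wd)

theorem six_dvd : 6 ∣ orderOf (wordOf w6) := by
  refine Dvd.dvd.trans ?_ (orderOf_ev6_dvd w6)
  obtain ⟨h6, h2, h3⟩ := order_facts.1
  rw [pw6_eq] at h6 h2 h3
  have : orderOf (ev6 (w6.map li)) = 6 := by
    refine orderOf_eq_of_pow_and_pow_div_prime (by norm_num) h6 ?_
    intro p hp hpd
    have hle : p ≤ 6 := Nat.le_of_dvd (by norm_num) hpd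
    interval_cases p
    · exact absurd hp (by norm_num)
    · exact absurd hp (by norm_num)
    · exact h3
    · exact h2
    · exact absurd hpd (by norm_num)
    · exact absurd hpd (by norm_num)
    · exact absurd hp (by norm_num)
  rw [this]

theorem ten_dvd : 10 ∣ orderOf (wordOf w10) := by
  refine Dvd.dvd.trans ?_ (orderOf_ev6_dvd w10)
  obtain ⟨h10, h2, h5⟩ := order_facts.2.1
  rw [pw6_eq] at h10 h2 h5
  have : orderOf (ev6 (w10.map li)) = 10 := by
    refine orderOf_eq_of_pow_and_pow_div_prime (by norm_num) h10 ?_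
    intro p hp hpd
    have hle : p ≤ 10 := Nat.le_of_dvd (by norm_num) hpd
    interval_cases p
    · exact absurd hp (by norm_num)
    · exact absurd hp (by norm_num)
    · exact h5
    · exact absurd hpd (by norm_num)
    · exact absurd hpd (by norm_num)
    · exact h2
    · exact absurd hpd (by norm_num)
    · exact absurd hpd (by norm_num)
    · exact absurd hpd (by norm_num)
    · exact absurd hpd (by norm_num)
    · exact absurd hp (by norm_num)
  rw [this]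

end Cfsg.Agent.Lib.Helper34_G24Rep
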