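import Cfsg.Agent.Lib.Helper34_G2InvDefs
import Cfsg.Agent.S1023
import Cfsg.Agent.S1024
import Cfsg.Agent.S1025
import Cfsg.Agent.S1026
import Cfsg.Agent.S1031
import Cfsg.Agent.S1032
import Cfsg.Agent.S1034
import Cfsg.Agent.S1036
import Cfsg.Agent.S1037
import Cfsg.Agent.S1039
import Cfsg.Agent.S1100
import Cfsg.Agent.S2326

/-!
# S2177: the bundle `G2Facts F` from the landed general statements on Chevalley groups (helper34)
-/

set_option autoImplicit false

namespace Cfsg.Agent.Lib.Helper34_G2InvFacts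

open Cfsg Cfsg.Lie Cfsg.Agent.Lib.Helper34_G2InvDefs

theorem g2_mem : chevG2 ∈ [Cfsg.Lie.chevG2, Cfsg.Lie.chevB2, Cfsg.Lie.chevD4, Cfsg.Lie.chevF4,
    Cfsg.Lie.chevE6, Cfsg.Lie.chevE7, Cfsg.Lie.chevE8] := List.mem_cons_self

theorem g2Facts (F : Type*) [Field F] : G2Facts F where
  add := fun r hr t₁ t₂ => Cfsg.Agent.S1023.result chevG2 g2_mem r hr t₁ t₂
  zero := fun r hr t => Cfsg.Agent.S1024.result chevG2 g2_mem r hr t
  comm := fun r s hr hs hrs hneg t u => Cfsg.Agent.S1025.result chevG2 g2_mem r s hr hs hrs hneg t u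
  uniq := Cfsg.Agent.S1026.result chevG2 g2_mem
  nconj := fun i s hi hs => Cfsg.Agent.S1031.result chevG2 g2_mem i s hi hs
  hconj := fun i s hi hs c hc t => Cfsg.Agent.S1032.result chevG2 g2_mem i s hi hs c hc t
  hprod := fun g hg => Cfsg.Agent.S1034.result chevG2 g2_mem g hg
  semi := Cfsg.Agent.S1036.result chevG2 g2_mem
  binfv := Cfsg.Agent.S1037.result chevG2 g2_mem
  weyl := Cfsg.Agent.S1039.result (chevG2, ⟨2, CoxeterMatrix.G₂⟩) List.mem_cons_self
  bruhat := (Cfsg.Agent.S1100.result chevG2 g2_mem).1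

theorem g2Sylow (F : Type*) [Field F] [Fintype F] [CharP F 2] :
    ∃ P : Sylow 2 ↥(chevG2.group F),
      (P : Subgroup ↥(chevG2.group F)) = (chevG2.posUnipotent F).subgroupOf (chevG2.group F) :=
  Cfsg.Agent.S2326.result 2 chevG2 g2_mem

end Cfsg.Agent.Lib.Helper34_G2InvFacts
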