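import Mathlib
import Cfsg.Agent.Lib.Helper34_G2InvDefs
import Cfsg.Agent.Lib.Helper34_G2InvBasic

/-!
# S2177 (involution classes of `G₂(q)`, `q ≥ 4` even), market `s2177_packages` (architect helper34):
package REDA1, aux form (`REDA1_aux`: the statement of REDA1 with the statement of CJ as a hypothesis).
-/

set_option autoImplicit false

namespace Cfsg.Agent.Lib.Helper41_G2I_REDA1aux

open Cfsg Cfsg.Lie Cfsg.Agent.Lib.Helper34_G2InvDefs Cfsg.Agent.Lib.Helper34_G2InvBasic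

section Abstract

variable {F : Type*} [Field F] [CharP F 2] {Γ : Type*} [Group Γ] {X : ℕ → F → Γ}

/-- the statement of the package CJ -/
def CJStmt (X : ℕ → F → Γ) : Prop :=
  ∀ s t c d e f y : F,
    (X 6 y * PW X s t c d e f * (X 6 y)⁻¹ =
      PW X s t (c + t * y) (d + t ^ 2 * y) (e + t ^ 3 * y) (f + e * y + t ^ 2 * c * y)) ∧
    (X 7 y * PW X s t c d e f * (X 7 y)⁻¹ =
      PW X s t (c + s * y) (d + s * y ^ 2)
        (e + d * y + c * y ^ 2 + s * y ^ 3 + s * t * y ^ 2 + s * t ^ 2 * y)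
        (f + c ^ 2 * y + s * c * y ^ 2 + s ^ 2 * y ^ 3 + s ^ 2 * t * y ^ 2)) ∧
    (X 8 y * PW X s t c d e f * (X 8 y)⁻¹ =
      PW X s t c d (e + t ^ 2 * y) (f + d * y + t * y ^ 2)) ∧
    (X 9 y * PW X s t c d e f * (X 9 y)⁻¹ = PW X s t c d (e + t * y) (f + c * y)) ∧
    (X 10 y * PW X s t c d e f * (X 10 y)⁻¹ = PW X s t c d e (f + s * y))

variable {na nb : Γ} {K : Subgroup Γ}

lemma conjIn_of_mem {g u v : Γ} (hg : g ∈ K) (hv : g * u * g⁻¹ = v) : ConjIn K u v := ⟨g, hg, hv⟩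

/-- REDA1 with CJ as a hypothesis. -/
theorem REDA1_aux (hCJ : CJStmt X) (hsq : ∀ x : F, ∃ y, y * y = x) (h : URel X) (hw : WRel X na nb)
    (hX : ∀ r t, X r t ∈ K) (hna : na ∈ K) (hnb : nb ∈ K)
    (hs9 : ∀ t : F, t ≠ 0 → ConjIn K (X 9 t) (X 9 1))
    (hs11 : ∀ t : F, t ≠ 0 → ConjIn K (X 11 t) (X 11 1))
    (s c d e f : F) (hs : s ≠ 0) (hse : s * e = c * d) :
    ConjIn K (PW X s 0 c d e f) (X 11 1) ∨ ConjIn K (PW X s 0 c d e f) (X 9 1) := by
  have h2 : (2 : F) = 0 := CharTwo.two_eq_zero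
  -- step 1: conjugate by `X 7 (c / s)`
  set d' : F := d + c ^ 2 / s with hd'
  set f' : F := f + c ^ 3 / s with hf'
  have st1 : ConjIn K (PW X s 0 c d e f) (PW X s 0 0 d' 0 f') := by
    apply conjIn_of_mem (hX 7 (c / s))
    rw [(hCJ s 0 c d e f (c / s)).2.1]
    have e1 : c + s * (c / s) = 0 := by
      field_simp
      linear_combination c * h2
    have e2 : d + s * (c / s) ^ 2 = d' := by
      rw [hd']
      field_simp
    have e3 : e + d * (c / s) + c * (c / s) ^ 2 + s * (c / s) ^ 3 + s * 0 * (c / s) ^ 2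
        + s * 0 ^ 2 * (c / s) = 0 := by
      field_simp
      linear_combination s * hse + (c * d * s + c ^ 3) * h2
    have e4 : f + c ^ 2 * (c / s) + s * c * (c / s) ^ 2 + s ^ 2 * (c / s) ^ 3
        + s ^ 2 * 0 * (c / s) ^ 2 = f' := by
      rw [hf']
      field_simp
      linear_combination (c ^ 3) * h2
    rw [e1, e2, e3, e4]
  -- step 2: conjugate by `X 10 (f' / s)`
  have st2 : ConjIn K (PW X s 0 0 d' 0 f') (PW X s 0 0 d' 0 0) := by
    apply conjIn_of_mem (hX 10 (f' / s))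
    rw [(hCJ s 0 0 d' 0 f' (f' / s)).2.2.2.2]
    have e1 : f' + s * (f' / s) = 0 := by
      field_simp
      linear_combination f' * h2
    rw [e1]
  have st12 := st1.trans st2
  have hform : PW X s 0 0 d' 0 0 = X 6 s * X 9 d' := by
    simp [PW, X_zero h]
  by_cases hd0 : d' = 0
  · left
    -- `X 6 s → X 10 s → X 11 s → X 11 1`
    rw [hd0, PW_6 h] at st12
    have c1 : ConjIn K (X 6 s) (X 10 s) := by
      apply conjIn_of_mem hna
      rw [hw.a6, mul_assoc, mul_inv_cancel, mul_one]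
    have c2 : ConjIn K (X 10 s) (X 11 s) := by
      apply conjIn_of_mem hnb
      rw [hw.b10, mul_assoc, mul_inv_cancel, mul_one]
    exact ((st12.trans c1).trans c2).trans (hs11 s hs)
  · right
    rw [hform] at st12
    -- `na`: `X 6 s * X 9 d' → X 10 s * X 8 d' = PW 0 0 d' 0 s 0`
    have c1 : ConjIn K (X 6 s * X 9 d') (PW X 0 0 d' 0 s 0) := by
      apply conjIn_of_mem hna
      rw [← mul_assoc, hw.a6, mul_assoc (X 10 s), hw.a9, mul_assoc, mul_assoc, mul_inv_cancel,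
        mul_one, ← h.c810]
      simp [PW, X_zero h]
    -- `X 7 y`, `y * y = s / d'`
    obtain ⟨y, hy⟩ := hsq (s / d')
    have hy' : d' * y ^ 2 = s := by
      rw [pow_two, hy]
      field_simp
    have c2 : ConjIn K (PW X 0 0 d' 0 s 0) (PW X 0 0 d' 0 0 (d' ^ 2 * y)) := by
      apply conjIn_of_mem (hX 7 y)
      rw [(hCJ 0 0 d' 0 s 0 y).2.1]
      have e1 : d' + 0 * y = d' := by ring
      have e2 : (0 : F) + 0 * y ^ 2 = 0 := by ring
      have e3 : s + 0 * y + d' * y ^ 2 + 0 * y ^ 3 + 0 * 0 * y ^ 2 + 0 * 0 ^ 2 * y = 0 := by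
        rw [hy']
        linear_combination s * h2
      have e4 : (0 : F) + d' ^ 2 * y + 0 * d' * y ^ 2 + 0 ^ 2 * y ^ 3 + 0 ^ 2 * 0 * y ^ 2
          = d' ^ 2 * y := by ring
      rw [e1, e2, e3, e4]
    -- `X 9 (d' * y)`
    have c3 : ConjIn K (PW X 0 0 d' 0 0 (d' ^ 2 * y)) (X 8 d') := by
      apply conjIn_of_mem (hX 9 (d' * y))
      rw [(hCJ 0 0 d' 0 0 (d' ^ 2 * y) (d' * y)).2.2.2.1]
      have e1 : (0 : F) + 0 * (d' * y) = 0 := by ring
      have e2 : d' ^ 2 * y + d' * (d' * y) = 0 := by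
        linear_combination (d' ^ 2 * y) * h2
      rw [e1, e2, PW_8 h]
    have c4 : ConjIn K (X 8 d') (X 9 d') := by
      apply conjIn_of_mem hna
      rw [hw.a8, mul_assoc, mul_inv_cancel, mul_one]
    exact ((((st12.trans c1).trans c2).trans c3).trans c4).trans (hs9 d' hd0)

end Abstract

end Cfsg.Agent.Lib.Helper41_G2I_REDA1aux
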