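import Mathlib
import Cfsg.Agent.Lib.Helper34_G2InvDefs
import Cfsg.Agent.Lib.Helper34_G2InvBasic
import Cfsg.Agent.Lib.Helper25_G2I_GCOE

/-!
S2177 market (helper34), package GSCALE: torus conjugation `x_9(t) ~ x_9(1)`, `x_11(t) ~ x_11(1)`
inside `chevG2.group F`.  `GSCALE_aux` takes the statement of GCOE as a hypothesis.
-/

set_option autoImplicit false

namespace Cfsg.Agent.Lib.Helper44_G2I_GSCALE

open Cfsg Cfsg.Lie Cfsg.Agent.Lib.Helper34_G2InvDefs Cfsg.Agent.Lib.Helper34_G2InvBasic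

variable {F : Type*} [Field F]

/-- one torus conjugation: `h_{p_i}(t⁻¹) x_s(t) h_{p_i}(t⁻¹)⁻¹ = x_s(1)` when `A_{p_i,s} = 1` -/
lemma scale_one (hf : G2Facts F)
    (hXc : ∀ r (t : F),
      ((XG F r t : GL chevG2.Idx F) : Matrix chevG2.Idx chevG2.Idx F) = chevG2.x F r t)
    (hHc : ∀ r (c : F), r < chevG2.nroots → c ≠ 0 →
      ((HG F r c : GL chevG2.Idx F) : Matrix chevG2.Idx chevG2.Idx F) = chevG2.hMat F r c)
    (hHG : ∀ r (c : F), r < chevG2.nroots → c ≠ 0 → HG F r c ∈ chevG2.group F)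
    (i s : ℕ) (hi : i < chevG2.rank) (hs : s < chevG2.nroots)
    (hp : chevG2.simple i < chevG2.nroots) (hc : chevG2.cartan i s = 1)
    (t : F) (ht : t ≠ 0) : ConjIn (chevG2.group F) (XG F s t) (XG F s 1) := by
  have ht' : t⁻¹ ≠ 0 := inv_ne_zero ht
  refine ⟨HG F (chevG2.simple i) t⁻¹, hHG _ _ hp ht', ?_⟩
  rw [mul_inv_eq_iff_eq_mul]
  apply Units.ext
  rw [Units.val_mul, Units.val_mul, hHc _ _ hp ht', hXc, hXc]
  have h1 := hf.hconj i s hi hs t⁻¹ ht' t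
  rw [hc, zpow_one, inv_mul_cancel₀ ht] at h1
  exact h1

/-- **GSCALE**, with the statement of GCOE as a hypothesis. -/
theorem GSCALE_aux (hf : G2Facts F)
    (hG : (∀ r (t : F),
        ((XG F r t : GL chevG2.Idx F) : Matrix chevG2.Idx chevG2.Idx F) = chevG2.x F r t) ∧
      (∀ r, r < chevG2.nroots →
        ((NG F r : GL chevG2.Idx F) : Matrix chevG2.Idx chevG2.Idx F) = chevG2.nMat F r 1) ∧
      (∀ r (c : F), r < chevG2.nroots → c ≠ 0 →
        ((HG F r c : GL chevG2.Idx F) : Matrix chevG2.Idx chevG2.Idx F) = chevG2.hMat F r c) ∧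
      (∀ r (t : F), XG F r t ∈ chevG2.group F) ∧
      (∀ r, r < chevG2.nroots → NG F r ∈ chevG2.group F) ∧
      (∀ r (c : F), r < chevG2.nroots → c ≠ 0 → HG F r c ∈ chevG2.group F) ∧
      (∀ r (t : F), chevG2.IsPosRoot r → XG F r t ∈ chevG2.posUnipotent F)) :
    (∀ t : F, t ≠ 0 → ConjIn (chevG2.group F) (XG F 9 t) (XG F 9 1)) ∧
    (∀ t : F, t ≠ 0 → ConjIn (chevG2.group F) (XG F 11 t) (XG F 11 1)) := by
  obtain ⟨hXc, _, hHc, _, _, hHG, _⟩ := hG
  refine ⟨fun t ht => ?_, fun t ht => ?_⟩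
  · exact scale_one hf hXc hHc hHG 0 9 (by decide) (by decide) (by decide) (by decide) t ht
  · exact scale_one hf hXc hHc hHG 1 11 (by decide) (by decide) (by decide) (by decide) t ht

/-- **GSCALE** (verbatim). -/
theorem GSCALE (hf : G2Facts F) :
    (∀ t : F, t ≠ 0 → ConjIn (chevG2.group F) (XG F 9 t) (XG F 9 1)) ∧
    (∀ t : F, t ≠ 0 → ConjIn (chevG2.group F) (XG F 11 t) (XG F 11 1)) :=
  GSCALE_aux hf (Cfsg.Agent.Lib.Helper25_G2I_GCOE.GCOE hf)

end Cfsg.Agent.Lib.Helper44_G2I_GSCALE
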