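import Mathlib
import Cfsg.Agent.Lib.Helper34_G2InvDefs
import Cfsg.Agent.Lib.Helper34_G2InvBasic

/-!
# S2177 market (architect helper34), package NC2, auxiliary form: a `U`-conjugate of a long positive
root element is not `X 9 1`; the statements of MUL and L6 are hypotheses.
-/

set_option autoImplicit false

namespace Cfsg.Agent.Lib.Helper58_G2I_NC2aux

open Cfsg Cfsg.Lie Cfsg.Agent.Lib.Helper34_G2InvDefs Cfsg.Agent.Lib.Helper34_G2InvBasic

variable {F : Type*} [Field F] [CharP F 2] {Γ : Type*} [Group Γ] {X : ℕ → F → Γ}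

omit [CharP F 2] in
/-- NC2 with the statements of MUL and L6 as hypotheses. -/
theorem NC2_aux (h : URel X) (hinj : PWInj X)
    (hMUL : ∀ s t c d e f s' t' c' d' e' f' : F,
      PW X s t c d e f * PW X s' t' c' d' e' f' =
        PW X (s + s') (t + t') (c + c' + t * s') (d + d' + t ^ 2 * s')
          (e + e' + d * t' + c * t' ^ 2 + t * s' * t' ^ 2 + t ^ 2 * s' * t' + t ^ 3 * s')
          (f + f' + e * s' + d * c' + c ^ 2 * t' + t ^ 2 * s' * c' + t ^ 2 * c * s'
            + t ^ 2 * s' ^ 2 * t'))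
    (hL6 : ∀ s t c d e f a : F, PW X s t c d e f * X 6 a =
      PW X (s + a) t (c + t * a) (d + t ^ 2 * a) (e + t ^ 3 * a) (f + e * a + t ^ 2 * c * a))
    (s t c d e f a : F) (ha : a ≠ 0) (r : ℕ) (hr : r = 6 ∨ r = 10 ∨ r = 11) :
    PW X s t c d e f * X r a * (PW X s t c d e f)⁻¹ ≠ X 9 1 := by
  intro heq
  have h1 : PW X s t c d e f * X r a = PW X 0 0 0 1 0 0 * PW X s t c d e f := by
    rw [PW_9 h, ← heq]
    group
  rw [hMUL] at h1
  rcases hr with rfl | rfl | rfl
  · rw [hL6] at h1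
    have := (hinj _ _ _ _ _ _ _ _ _ _ _ _ h1).1
    apply ha
    linear_combination this
  · rw [PW_mul_10 h] at h1
    have := (hinj _ _ _ _ _ _ _ _ _ _ _ _ h1).2.2.2.1
    have h2 : (1 : F) = 0 := by linear_combination -this
    exact one_ne_zero h2
  · rw [PW_mul_11 h] at h1
    have := (hinj _ _ _ _ _ _ _ _ _ _ _ _ h1).2.2.2.1
    have h2 : (1 : F) = 0 := by linear_combination -this
    exact one_ne_zero h2

end Cfsg.Agent.Lib.Helper58_G2I_NC2aux
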