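import Mathlib
import Cfsg.Agent.Lib.Helper34_G2InvDefs
import Cfsg.Agent.Lib.Helper34_G2InvBasic

/-!
# S2177 market (architect helper34), package REDA2, auxiliary form: the involutions
`PW X 0 0 c d e f` with `c d = 0` are conjugate to `X 11 1` or to `X 9 1`; the statement of CJ is a
hypothesis.
-/

set_option autoImplicit false
set_option linter.unusedSectionVars false

namespace Cfsg.Agent.Lib.Helper58_G2I_REDA2aux

open Cfsg Cfsg.Lie Cfsg.Agent.Lib.Helper34_G2InvDefs Cfsg.Agent.Lib.Helper34_G2InvBasic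

variable {F : Type*} [Field F] [CharP F 2] {Γ : Type*} [Group Γ] {X : ℕ → F → Γ}

omit [CharP F 2] in
theorem PW_congr {s t c d e f s' t' c' d' e' f' : F} (h1 : s = s') (h2 : t = t') (h3 : c = c')
    (h4 : d = d') (h5 : e = e') (h6 : f = f') :
    PW X s t c d e f = PW X s' t' c' d' e' f' := by
  rw [h1, h2, h3, h4, h5, h6]

variable {na nb : Γ} {K : Subgroup Γ}

/-- REDA2 with the statement of CJ as a hypothesis. -/
theorem REDA2_aux (hsq : ∀ x : F, ∃ y, y * y = x) (h : URel X) (hw : WRel X na nb)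
    (hCJ : ∀ s t c d e f y : F,
      (X 6 y * PW X s t c d e f * (X 6 y)⁻¹ =
        PW X s t (c + t * y) (d + t ^ 2 * y) (e + t ^ 3 * y) (f + e * y + t ^ 2 * c * y)) ∧
      (X 7 y * PW X s t c d e f * (X 7 y)⁻¹ =
        PW X s t (c + s * y) (d + s * y ^ 2)
          (e + d * y + c * y ^ 2 + s * y ^ 3 + s * t * y ^ 2 + s * t ^ 2 * y)
          (f + c ^ 2 * y + s * c * y ^ 2 + s ^ 2 * y ^ 3 + s ^ 2 * t * y ^ 2)) ∧
      (X 8 y * PW X s t c d e f * (X 8 y)⁻¹ =
        PW X s t c d (e + t ^ 2 * y) (f + d * y + t * y ^ 2)) ∧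
      (X 9 y * PW X s t c d e f * (X 9 y)⁻¹ = PW X s t c d (e + t * y) (f + c * y)) ∧
      (X 10 y * PW X s t c d e f * (X 10 y)⁻¹ = PW X s t c d e (f + s * y)))
    (hX : ∀ r t, X r t ∈ K) (hna : na ∈ K) (hnb : nb ∈ K)
    (hs9 : ∀ t : F, t ≠ 0 → ConjIn K (X 9 t) (X 9 1))
    (hs11 : ∀ t : F, t ≠ 0 → ConjIn K (X 11 t) (X 11 1))
    (c d e f : F) (hcd : c * d = 0) (hne : PW X 0 0 c d e f ≠ 1) :
    ConjIn K (PW X 0 0 c d e f) (X 11 1) ∨ ConjIn K (PW X 0 0 c d e f) (X 9 1) := by
  have two : ∀ x : F, x + x = 0 := fun x => CharTwo.add_self_eq_zero x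
  by_cases hc : c = 0
  · subst hc
    by_cases hd : d = 0
    · subst hd
      by_cases he : e = 0
      · -- `c = d = e = 0`
        subst he
        have hf : f ≠ 0 := by
          intro hf
          apply hne
          rw [hf]
          exact PW_zero h
        left
        rw [PW_11 h]
        exact hs11 f hf
      · -- `c = d = 0`, `e ≠ 0`
        left
        have s1 : ConjIn K (PW X 0 0 0 0 e f) (X 10 e) := by
          refine ⟨X 6 (f / e), hX _ _, ?_⟩
          rw [(hCJ 0 0 0 0 e f (f / e)).1, ← PW_10 h]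
          have k : e * (f / e) = f := by field_simp
          refine PW_congr rfl rfl (by ring) (by ring) (by ring) ?_
          linear_combination two f + k
        have s2 : ConjIn K (X 10 e) (X 11 e) := by
          refine ⟨nb, hnb, ?_⟩
          rw [hw.b10, mul_inv_cancel_right]
        exact (s1.trans s2).trans (hs11 e he)
    · -- `c = 0`, `d ≠ 0`
      right
      have s1 : ConjIn K (PW X 0 0 0 d e f) (PW X 0 0 0 d 0 f) := by
        refine ⟨X 7 (e / d), hX _ _, ?_⟩
        rw [(hCJ 0 0 0 d e f (e / d)).2.1]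
        have k : d * (e / d) = e := by field_simp
        refine PW_congr rfl rfl (by ring) (by ring) ?_ (by ring)
        linear_combination two e + k
      have s2 : ConjIn K (PW X 0 0 0 d 0 f) (X 9 d) := by
        refine ⟨X 8 (f / d), hX _ _, ?_⟩
        rw [(hCJ 0 0 0 d 0 f (f / d)).2.2.1, ← PW_9 h]
        have k : d * (f / d) = f := by field_simp
        refine PW_congr rfl rfl rfl rfl (by ring) ?_
        linear_combination two f + k
      exact (s1.trans s2).trans (hs9 d hd)
  · -- `c ≠ 0`, so `d = 0`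
    have hd : d = 0 := by
      rcases mul_eq_zero.mp hcd with h0 | h0
      · exact absurd h0 hc
      · exact h0
    subst hd
    right
    obtain ⟨y, hy⟩ := hsq (e / c)
    have hy' : c * y ^ 2 = e := by
      rw [pow_two, hy, mul_div_cancel₀ _ hc]
    have s1 : ConjIn K (PW X 0 0 c 0 e f) (PW X 0 0 c 0 0 (f + c ^ 2 * y)) := by
      refine ⟨X 7 y, hX _ _, ?_⟩
      rw [(hCJ 0 0 c 0 e f y).2.1]
      refine PW_congr rfl rfl (by ring) (by ring) ?_ (by ring)
      linear_combination two e + hy'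
    have s2 : ConjIn K (PW X 0 0 c 0 0 (f + c ^ 2 * y)) (X 8 c) := by
      refine ⟨X 9 ((f + c ^ 2 * y) / c), hX _ _, ?_⟩
      rw [(hCJ 0 0 c 0 0 (f + c ^ 2 * y) ((f + c ^ 2 * y) / c)).2.2.2.1, ← PW_8 h]
      have k : c * ((f + c ^ 2 * y) / c) = f + c ^ 2 * y := by field_simp
      refine PW_congr rfl rfl rfl rfl (by ring) ?_
      linear_combination two (f + c ^ 2 * y) + k
    have s3 : ConjIn K (X 8 c) (X 9 c) := by
      refine ⟨na, hna, ?_⟩
      rw [hw.a8, mul_inv_cancel_right]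
    exact ((s1.trans s2).trans s3).trans (hs9 c hc)

end Cfsg.Agent.Lib.Helper58_G2I_REDA2aux
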