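import Mathlib
import Cfsg.Agent.Lib.Helper34_G2InvDefs
import Cfsg.Agent.Lib.Helper34_G2InvBasic
import Cfsg.Agent.Lib.Helper31_G2I_GRELC

/-!
# S2177 market (architect helper34): package GRELR (second seat)

The five non-trivial commutator relations among the positive root elements `XG F r t` of `chevG2`
in characteristic 2, from Chevalley's commutator formula `hf.comm` (S1025) with the commutator terms
read off by `decide`.
-/

set_option autoImplicit false
set_option linter.unusedSectionVars false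
set_option linter.unusedVariables false

namespace Cfsg.Agent.Lib.Helper85_G2I_GRELR

open Cfsg Cfsg.Lie Cfsg.Agent.Lib.Helper34_G2InvDefs Cfsg.Agent.Lib.Helper34_G2InvBasic
open Cfsg.Agent.Lib.Helper31_G2I_GRELC

section Concrete

variable {F : Type*} [Field F]

theorem terms76 : chevG2.commTerms 7 6 = [(8, -1, 1, 1), (9, 1, 2, 1), (10, 1, 3, 1), (11, 1, 3, 2)] := by
  decide

theorem terms78 : chevG2.commTerms 7 8 = [(9, -2, 1, 1), (10, -3, 2, 1), (11, 3, 1, 2)] := by
  decide

theorem terms79 : chevG2.commTerms 7 9 = [(10, 3, 1, 1)] := by decide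

theorem terms610 : chevG2.commTerms 6 10 = [(11, 1, 1, 1)] := by decide

theorem terms89 : chevG2.commTerms 8 9 = [(11, 3, 1, 1)] := by decide

theorem r67 [CharP F 2] (hf : G2Facts F) (t u : F) : XG F 6 u * XG F 7 t =
      XG F 7 t * XG F 6 u * XG F 8 (t * u) * XG F 9 (t ^ 2 * u) * XG F 10 (t ^ 3 * u) *
        XG F 11 (t ^ 3 * u ^ 2) := by
  have h2 : (2 : F) = 0 := CharTwo.two_eq_zero
  apply Units.ext
  simp only [Units.val_mul, XG_coe hf]
  rw [hf.comm 7 6 (by decide) (by decide) (by decide) (by decide) t u]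
  unfold ChevalleyDatum.commWord
  rw [terms76]
  simp only [ChevalleyDatum.wordMat, List.map, List.prod_cons, List.prod_nil, mul_one]
  have e8 : ((-1 : ℤ) : F) * (-t) ^ 1 * u ^ 1 = t * u := by push_cast; ring
  have e9 : ((1 : ℤ) : F) * (-t) ^ 2 * u ^ 1 = t ^ 2 * u := by push_cast; ring
  have e10 : ((1 : ℤ) : F) * (-t) ^ 3 * u ^ 1 = t ^ 3 * u := by
    push_cast; linear_combination (-t ^ 3 * u) * h2
  have e11 : ((1 : ℤ) : F) * (-t) ^ 3 * u ^ 2 = t ^ 3 * u ^ 2 := by
    push_cast; linear_combination (-t ^ 3 * u ^ 2) * h2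
  rw [e8, e9, e10, e11]
  simp only [mul_assoc]

theorem r87 [CharP F 2] (hf : G2Facts F) (t u : F) : XG F 8 u * XG F 7 t =
      XG F 7 t * XG F 8 u * XG F 10 (t ^ 2 * u) * XG F 11 (t * u ^ 2) := by
  have h2 : (2 : F) = 0 := CharTwo.two_eq_zero
  apply Units.ext
  simp only [Units.val_mul, XG_coe hf]
  rw [hf.comm 7 8 (by decide) (by decide) (by decide) (by decide) t u]
  unfold ChevalleyDatum.commWord
  rw [terms78]
  simp only [ChevalleyDatum.wordMat, List.map, List.prod_cons, List.prod_nil, mul_one]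
  have e9 : ((-2 : ℤ) : F) * (-t) ^ 1 * u ^ 1 = 0 := by
    push_cast; linear_combination (t * u) * h2
  have e10 : ((-3 : ℤ) : F) * (-t) ^ 2 * u ^ 1 = t ^ 2 * u := by
    push_cast; linear_combination (-2 * t ^ 2 * u) * h2
  have e11 : ((3 : ℤ) : F) * (-t) ^ 1 * u ^ 2 = t * u ^ 2 := by
    push_cast; linear_combination (-2 * t * u ^ 2) * h2
  rw [e9, e10, e11, x_zero hf, one_mul]
  simp only [mul_assoc]

theorem r97 [CharP F 2] (hf : G2Facts F) (t u : F) :
    XG F 9 u * XG F 7 t = XG F 7 t * XG F 9 u * XG F 10 (t * u) := by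
  have h2 : (2 : F) = 0 := CharTwo.two_eq_zero
  apply Units.ext
  simp only [Units.val_mul, XG_coe hf]
  rw [hf.comm 7 9 (by decide) (by decide) (by decide) (by decide) t u]
  unfold ChevalleyDatum.commWord
  rw [terms79]
  simp only [ChevalleyDatum.wordMat, List.map, List.prod_cons, List.prod_nil, mul_one]
  have e10 : ((3 : ℤ) : F) * (-t) ^ 1 * u ^ 1 = t * u := by
    push_cast; linear_combination (-2 * t * u) * h2
  rw [e10]

theorem r106 [CharP F 2] (hf : G2Facts F) (t u : F) :
    XG F 10 u * XG F 6 t = XG F 6 t * XG F 10 u * XG F 11 (t * u) := by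
  have h2 : (2 : F) = 0 := CharTwo.two_eq_zero
  apply Units.ext
  simp only [Units.val_mul, XG_coe hf]
  rw [hf.comm 6 10 (by decide) (by decide) (by decide) (by decide) t u]
  unfold ChevalleyDatum.commWord
  rw [terms610]
  simp only [ChevalleyDatum.wordMat, List.map, List.prod_cons, List.prod_nil, mul_one]
  have e11 : ((1 : ℤ) : F) * (-t) ^ 1 * u ^ 1 = t * u := by
    push_cast; linear_combination (-t * u) * h2
  rw [e11]

theorem r98 [CharP F 2] (hf : G2Facts F) (t u : F) :
    XG F 9 u * XG F 8 t = XG F 8 t * XG F 9 u * XG F 11 (t * u) := by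
  have h2 : (2 : F) = 0 := CharTwo.two_eq_zero
  apply Units.ext
  simp only [Units.val_mul, XG_coe hf]
  rw [hf.comm 8 9 (by decide) (by decide) (by decide) (by decide) t u]
  unfold ChevalleyDatum.commWord
  rw [terms89]
  simp only [ChevalleyDatum.wordMat, List.map, List.prod_cons, List.prod_nil, mul_one]
  have e11 : ((3 : ℤ) : F) * (-t) ^ 1 * u ^ 1 = t * u := by
    push_cast; linear_combination (-2 * t * u) * h2
  rw [e11]

/-- GRELR (L; dep GCOE).  The five non-trivial commutator relations in characteristic 2. -/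
theorem GRELR [CharP F 2] (hf : G2Facts F) :
    (∀ t u : F, XG F 6 u * XG F 7 t =
      XG F 7 t * XG F 6 u * XG F 8 (t * u) * XG F 9 (t ^ 2 * u) * XG F 10 (t ^ 3 * u) *
        XG F 11 (t ^ 3 * u ^ 2)) ∧
    (∀ t u : F, XG F 8 u * XG F 7 t =
      XG F 7 t * XG F 8 u * XG F 10 (t ^ 2 * u) * XG F 11 (t * u ^ 2)) ∧
    (∀ t u : F, XG F 9 u * XG F 7 t = XG F 7 t * XG F 9 u * XG F 10 (t * u)) ∧
    (∀ t u : F, XG F 10 u * XG F 6 t = XG F 6 t * XG F 10 u * XG F 11 (t * u)) ∧
    (∀ t u : F, XG F 9 u * XG F 8 t = XG F 8 t * XG F 9 u * XG F 11 (t * u)) :=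
  ⟨r67 hf, r87 hf, r97 hf, r106 hf, r98 hf⟩

end Concrete

end Cfsg.Agent.Lib.Helper85_G2I_GRELR
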