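import Mathlib
import Cfsg.Agent.Lib.Helper34_G2InvDefs
import Cfsg.Agent.Lib.Helper34_G2InvBasic

/-!
# S2177 market (architect helper34), package NCB (proof helper88)

`B = U H` elementwise for `chevG2`: the diagonal subgroup normalises the positive unipotent
subgroup (`hf.semi`), so the join is the setwise product.
-/

set_option autoImplicit false

namespace Cfsg.Agent.Lib.Helper88_G2I_NCB

open Cfsg Cfsg.Lie Cfsg.Agent.Lib.Helper34_G2InvDefs Cfsg.Agent.Lib.Helper34_G2InvBasic

section Concrete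

variable {F : Type*} [Field F]

/-- NCB (M).  `B = U H` elementwise. -/
theorem NCB (hf : G2Facts F) :
    ∀ b ∈ chevG2.borelSubgroup F, ∃ u ∈ chevG2.posUnipotent F,
      ∃ h ∈ chevG2.diagonalSubgroup F, b = u * h := by
  intro b hb
  have h1 : b ∈ ((chevG2.posUnipotent F ⊔ chevG2.diagonalSubgroup F : Subgroup (GL chevG2.Idx F)) :
      Set (GL chevG2.Idx F)) := hb
  rw [Subgroup.coe_mul_of_right_le_normalizer_left _ _ hf.semi.1] at h1
  obtain ⟨u, hu, h, hh, e⟩ := Set.mem_mul.mp h1
  exact ⟨u, hu, h, hh, e.symm⟩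

end Concrete

end Cfsg.Agent.Lib.Helper88_G2I_NCB
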