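import Mathlib
import Cfsg.Agent.Lib.Helper34_G2InvDefs
import Cfsg.Agent.Lib.Helper34_G2InvBasic

/-!
# S2177 market (architect helper34), package SQ (helper95): core

`SQ_aux`: the involutions of `U`, with the statement of the package MUL as a hypothesis.
-/

set_option autoImplicit false

namespace Cfsg.Agent.Lib.Helper95_G2I_SQaux

open Cfsg Cfsg.Lie Cfsg.Agent.Lib.Helper34_G2InvDefs Cfsg.Agent.Lib.Helper34_G2InvBasic

variable {F : Type*} [Field F] [CharP F 2] {Γ : Type*} [Group Γ] {X : ℕ → F → Γ}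

/-- the statement of the package MUL -/
def MulStmt (X : ℕ → F → Γ) : Prop :=
  ∀ (s t c d e f s' t' c' d' e' f' : F),
    PW X s t c d e f * PW X s' t' c' d' e' f' =
      PW X (s + s') (t + t') (c + c' + t * s') (d + d' + t ^ 2 * s')
        (e + e' + d * t' + c * t' ^ 2 + t * s' * t' ^ 2 + t ^ 2 * s' * t' + t ^ 3 * s')
        (f + f' + e * s' + d * c' + c ^ 2 * t' + t ^ 2 * s' * c' + t ^ 2 * c * s'
          + t ^ 2 * s' ^ 2 * t')

theorem SQ_aux (hMUL : MulStmt X) (h : URel X) (hinj : PWInj X) (s t c d e f : F)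
    (hsq : PW X s t c d e f * PW X s t c d e f = 1) :
    (t = 0 ∧ s * e = c * d) ∨ (s = 0 ∧ t ≠ 0 ∧ d = c * t) := by
  rw [hMUL, ← PW_zero h] at hsq
  obtain ⟨-, -, h3, -, h5, h6⟩ := hinj _ _ _ _ _ _ _ _ _ _ _ _ hsq
  have h2 : (2 : F) = 0 := CharTwo.two_eq_zero
  have hts : t * s = 0 := by linear_combination h3 - c * h2
  rcases eq_or_ne t 0 with ht | ht
  · left
    refine ⟨ht, ?_⟩
    subst ht
    linear_combination h6 - (f + d * c) * h2
  · right
    have hs : s = 0 := by
      rcases mul_eq_zero.mp hts with h0 | h0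
      · exact absurd h0 ht
      · exact h0
    refine ⟨hs, ht, ?_⟩
    subst hs
    have h7 : t * (d + c * t) = 0 := by linear_combination h5 - e * h2
    have h8 : d + c * t = 0 := by
      rcases mul_eq_zero.mp h7 with h0 | h0
      · exact absurd h0 ht
      · exact h0
    linear_combination h8 - (c * t) * h2

end Cfsg.Agent.Lib.Helper95_G2I_SQaux
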