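import Mathlib
import Cfsg.Agent.Lib.Helper34_G2InvDefs
import Cfsg.Agent.Lib.Helper34_G2InvBasic
import Cfsg.Agent.Lib.Helper85_G2I_L6
import Cfsg.Agent.Lib.Helper85_G2I_MUL
import Cfsg.Agent.Lib.Helper95_G2I_SQaux
import Cfsg.Agent.Lib.Helper24_G2I_CJ
import Cfsg.Agent.Lib.Helper24_G2I_REDB
import Cfsg.Agent.Lib.Helper41_G2I_REDA1aux
import Cfsg.Agent.Lib.Helper58_G2I_REDA2aux
import Cfsg.Agent.Lib.Helper58_G2I_NC2aux
import Cfsg.Agent.Lib.Helper25_G2I_GCOE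
import Cfsg.Agent.Lib.Helper25_G2I_GSYL
import Cfsg.Agent.Lib.Helper31_G2I_GRELC
import Cfsg.Agent.Lib.Helper85_G2I_GRELR
import Cfsg.Agent.Lib.Helper31_G2I_GWEYL
import Cfsg.Agent.Lib.Helper44_G2I_GSCALE
import Cfsg.Agent.Lib.Helper11_G2I_GUNIQaux
import Cfsg.Agent.Lib.Helper10_G2I_GP1
import Cfsg.Agent.Lib.Helper10_G2I_NCZ
import Cfsg.Agent.Lib.Helper11_G2I_NCNaux
import Cfsg.Agent.Lib.Helper88_G2I_NCB
import Cfsg.Agent.Lib.Helper43_G2I_GNC1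

/-!
# S2177: assembly of the market `s2177_packages` (helper34)

`main_of_facts`: the statement of S2177 from `G2Facts F` and the Sylow statement S2326 at `chevG2`.
-/

set_option autoImplicit false

namespace Cfsg.Agent.Lib.Helper34_G2InvMain

open Cfsg Cfsg.Lie Cfsg.Agent.Lib.Helper34_G2InvDefs Cfsg.Agent.Lib.Helper34_G2InvBasic

section Abstract

variable {F : Type*} [Field F] [CharP F 2] {Γ : Type*} [Group Γ] {X : ℕ → F → Γ}

theorem MUL (h : URel X) (s t c d e f s' t' c' d' e' f' : F) :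
    PW X s t c d e f * PW X s' t' c' d' e' f' =
      PW X (s + s') (t + t') (c + c' + t * s') (d + d' + t ^ 2 * s')
        (e + e' + d * t' + c * t' ^ 2 + t * s' * t' ^ 2 + t ^ 2 * s' * t' + t ^ 3 * s')
        (f + f' + e * s' + d * c' + c ^ 2 * t' + t ^ 2 * s' * c' + t ^ 2 * c * s'
          + t ^ 2 * s' ^ 2 * t') :=
  Cfsg.Agent.Lib.Helper85_G2I_MUL.MUL h s t c d e f s' t' c' d' e' f'

theorem SQ (h : URel X) (hinj : PWInj X) (s t c d e f : F)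
    (hsq : PW X s t c d e f * PW X s t c d e f = 1) :
    (t = 0 ∧ s * e = c * d) ∨ (s = 0 ∧ t ≠ 0 ∧ d = c * t) :=
  Cfsg.Agent.Lib.Helper95_G2I_SQaux.SQ_aux
    (fun s t c d e f s' t' c' d' e' f' => MUL h s t c d e f s' t' c' d' e' f') h hinj s t c d e f hsq

variable {na nb : Γ} {K : Subgroup Γ}

theorem RED (hsq : ∀ x : F, ∃ y, y * y = x) (h : URel X) (hw : WRel X na nb) (hinj : PWInj X)
    (hX : ∀ r t, X r t ∈ K) (hna : na ∈ K) (hnb : nb ∈ K)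
    (hs9 : ∀ t : F, t ≠ 0 → ConjIn K (X 9 t) (X 9 1))
    (hs11 : ∀ t : F, t ≠ 0 → ConjIn K (X 11 t) (X 11 1))
    (s t c d e f : F) (hsq1 : PW X s t c d e f * PW X s t c d e f = 1)
    (hne : PW X s t c d e f ≠ 1) :
    ConjIn K (PW X s t c d e f) (X 11 1) ∨ ConjIn K (PW X s t c d e f) (X 9 1) := by
  have hCJ := fun s t c d e f y => Cfsg.Agent.Lib.Helper24_G2I_CJ.CJ h s t c d e f y
  rcases SQ h hinj s t c d e f hsq1 with ⟨ht, hse⟩ | ⟨hs, ht, hd⟩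
  · subst ht
    by_cases hs : s = 0
    · subst hs
      have hcd : c * d = 0 := by rw [← hse, zero_mul]
      exact Cfsg.Agent.Lib.Helper58_G2I_REDA2aux.REDA2_aux hsq h hw hCJ hX hna hnb hs9 hs11
        c d e f hcd hne
    · exact Cfsg.Agent.Lib.Helper41_G2I_REDA1aux.REDA1_aux hCJ hsq h hw hX hna hnb hs9 hs11
        s c d e f hs hse
  · subst hs
    subst hd
    exact Or.inr (Cfsg.Agent.Lib.Helper24_G2I_REDB.REDB hsq h hw hX hna hnb hs9 t c e f ht)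

theorem NC2 (h : URel X) (hinj : PWInj X) (s t c d e f a : F) (ha : a ≠ 0) (r : ℕ)
    (hr : r = 6 ∨ r = 10 ∨ r = 11) :
    PW X s t c d e f * X r a * (PW X s t c d e f)⁻¹ ≠ X 9 1 :=
  Cfsg.Agent.Lib.Helper58_G2I_NC2aux.NC2_aux h hinj
    (fun s t c d e f s' t' c' d' e' f' => MUL h s t c d e f s' t' c' d' e' f')
    (fun s t c d e f a => Cfsg.Agent.Lib.Helper85_G2I_L6.L6 h s t c d e f a) s t c d e f a ha r hr

end Abstract

section Concrete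

variable {F : Type*} [Field F]

theorem GCOE (hf : G2Facts F) :
    (∀ r (t : F), ((XG F r t : GL chevG2.Idx F) : Matrix chevG2.Idx chevG2.Idx F) = chevG2.x F r t) ∧
    (∀ r, r < chevG2.nroots →
      ((NG F r : GL chevG2.Idx F) : Matrix chevG2.Idx chevG2.Idx F) = chevG2.nMat F r 1) ∧
    (∀ r (c : F), r < chevG2.nroots → c ≠ 0 →
      ((HG F r c : GL chevG2.Idx F) : Matrix chevG2.Idx chevG2.Idx F) = chevG2.hMat F r c) ∧
    (∀ r (t : F), XG F r t ∈ chevG2.group F) ∧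
    (∀ r, r < chevG2.nroots → NG F r ∈ chevG2.group F) ∧
    (∀ r (c : F), r < chevG2.nroots → c ≠ 0 → HG F r c ∈ chevG2.group F) ∧
    (∀ r (t : F), chevG2.IsPosRoot r → XG F r t ∈ chevG2.posUnipotent F) :=
  Cfsg.Agent.Lib.Helper25_G2I_GCOE.GCOE hf

theorem GREL [CharP F 2] (hf : G2Facts F) : URel (XG F) := by
  obtain ⟨h0, h1, h2, h3, h4, h5, h6, h7, h8, h9, h10⟩ :=
    Cfsg.Agent.Lib.Helper31_G2I_GRELC.GRELC hf
  obtain ⟨r1, r2, r3, r4, r5⟩ := Cfsg.Agent.Lib.Helper85_G2I_GRELR.GRELR hf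
  exact ⟨h0, r1, r2, r3, r4, r5, h1, h2, h3, h4, h5, h6, h7, h8, h9, h10⟩

theorem GWEYL [CharP F 2] (hf : G2Facts F) : WRel (XG F) (NG F 7) (NG F 6) :=
  Cfsg.Agent.Lib.Helper31_G2I_GWEYL.GWEYL hf

theorem GSCALE (hf : G2Facts F) :
    (∀ t : F, t ≠ 0 → ConjIn (chevG2.group F) (XG F 9 t) (XG F 9 1)) ∧
    (∀ t : F, t ≠ 0 → ConjIn (chevG2.group F) (XG F 11 t) (XG F 11 1)) :=
  Cfsg.Agent.Lib.Helper44_G2I_GSCALE.GSCALE_aux hf (GCOE hf)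

theorem GUNIQ (hf : G2Facts F) :
    (∀ g ∈ chevG2.posUnipotent F, ∃ s t c d e f : F, g = PW (XG F) s t c d e f) ∧
    PWInj (XG F) ∧
    (∀ s t c d e f : F, PW (XG F) s t c d e f ∈ chevG2.posUnipotent F) :=
  Cfsg.Agent.Lib.Helper11_G2I_GUNIQaux.GUNIQ_aux hf (GCOE hf).1 (GCOE hf).2.2.2.2.2.2

theorem GSYL [Fintype F]
    (hsyl : ∃ P : Sylow 2 ↥(chevG2.group F),
      (P : Subgroup ↥(chevG2.group F)) = (chevG2.posUnipotent F).subgroupOf (chevG2.group F))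
    (g : GL chevG2.Idx F) (hg : g ∈ chevG2.group F) (ho : orderOf g = 2) :
    ∃ u ∈ chevG2.posUnipotent F, ConjIn (chevG2.group F) g u :=
  Cfsg.Agent.Lib.Helper25_G2I_GSYL.GSYL hsyl g hg ho

theorem GP1 [CharP F 2] (hf : G2Facts F) :
    orderOf (XG F 11 1) = 2 ∧ orderOf (XG F 9 1) = 2 ∧ XG F 11 (1 : F) ≠ XG F 9 1 :=
  Cfsg.Agent.Lib.Helper10_G2I_GP1.GP1_aux hf (GCOE hf).1

theorem GNC1 [CharP F 2] (hf : G2Facts F) (g : GL chevG2.Idx F) (hg : g ∈ chevG2.group F)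
    (hv : g * XG F 11 1 * g⁻¹ ∈ chevG2.posUnipotent F) :
    ∃ u ∈ chevG2.posUnipotent F, ∃ r : ℕ, (r = 6 ∨ r = 10 ∨ r = 11) ∧ ∃ a : F, a ≠ 0 ∧
      g * XG F 11 1 * g⁻¹ = u * XG F r a * u⁻¹ := by
  obtain ⟨h0, -, -, h3, -, h5, -, h7, -, h9, h10⟩ := Cfsg.Agent.Lib.Helper31_G2I_GRELC.GRELC hf
  have hZ := Cfsg.Agent.Lib.Helper10_G2I_NCZ.NCZ_aux (GCOE hf).1 h0 h3 h5 h7 h9 h10
  have hN := Cfsg.Agent.Lib.Helper11_G2I_NCNaux.NCN_aux hf (GCOE hf).1 (GCOE hf).2.1 (GCOE hf).2.2.1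
  exact Cfsg.Agent.Lib.Helper43_G2I_GNC1.GNC1_aux hf (GCOE hf).1 hZ hN.1 hN.2
    (Cfsg.Agent.Lib.Helper88_G2I_NCB.NCB hf) g hg hv

end Concrete

section Asm


variable {F : Type*} [Field F] [Fintype F] [CharP F 2]

theorem perfect_of_finite_char2 (x : F) : ∃ y : F, y * y = x := by
  have hsurj : Function.Surjective (frobenius F 2) := by
    have : Function.Injective (frobenius F 2) := frobenius_inj F 2
    exact Finite.surjective_of_injective this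
  obtain ⟨y, hy⟩ := hsurj x
  exact ⟨y, by rw [← hy, frobenius_def, pow_two]⟩

theorem main_of_facts (hf : G2Facts F)
    (hsyl : ∃ P : Sylow 2 ↥(chevG2.group F),
      (P : Subgroup ↥(chevG2.group F)) = (chevG2.posUnipotent F).subgroupOf (chevG2.group F)) :
    (∀ y : GL Cfsg.Lie.chevG2.Idx F, ((y : GL Cfsg.Lie.chevG2.Idx F) : Matrix Cfsg.Lie.chevG2.Idx Cfsg.Lie.chevG2.Idx F) ∈ [Cfsg.Lie.chevG2.x F 11 1, Cfsg.Lie.chevG2.x F 9 1] → y ∈ Cfsg.Lie.chevG2.group F ∧ orderOf y = 2) ∧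
    (∀ g ∈ Cfsg.Lie.chevG2.group F, orderOf g = 2 → ∃ y ∈ Cfsg.Lie.chevG2.group F, ((y : GL Cfsg.Lie.chevG2.Idx F) : Matrix Cfsg.Lie.chevG2.Idx Cfsg.Lie.chevG2.Idx F) ∈ [Cfsg.Lie.chevG2.x F 11 1, Cfsg.Lie.chevG2.x F 9 1] ∧ ∃ h ∈ Cfsg.Lie.chevG2.group F, h * g * h⁻¹ = y) ∧
    (∀ y₁ ∈ Cfsg.Lie.chevG2.group F, ∀ y₂ ∈ Cfsg.Lie.chevG2.group F, ((y₁ : GL Cfsg.Lie.chevG2.Idx F) : Matrix Cfsg.Lie.chevG2.Idx Cfsg.Lie.chevG2.Idx F) ∈ [Cfsg.Lie.chevG2.x F 11 1, Cfsg.Lie.chevG2.x F 9 1] → ((y₂ : GL Cfsg.Lie.chevG2.Idx F) : Matrix Cfsg.Lie.chevG2.Idx Cfsg.Lie.chevG2.Idx F) ∈ [Cfsg.Lie.chevG2.x F 11 1, Cfsg.Lie.chevG2.x F 9 1] →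
      (∃ h ∈ Cfsg.Lie.chevG2.group F, h * y₁ * h⁻¹ = y₂) → ((y₁ : GL Cfsg.Lie.chevG2.Idx F) : Matrix Cfsg.Lie.chevG2.Idx Cfsg.Lie.chevG2.Idx F) = ((y₂ : GL Cfsg.Lie.chevG2.Idx F) : Matrix Cfsg.Lie.chevG2.Idx Cfsg.Lie.chevG2.Idx F)) := by
  classical
  obtain ⟨hXc, hNc, hHc, hXG, hNG, hHG, hXU⟩ := GCOE hf
  have hrel : URel (XG F) := GREL hf
  have hw : WRel (XG F) (NG F 7) (NG F 6) := GWEYL hf
  obtain ⟨hs9, hs11⟩ := GSCALE hf
  obtain ⟨hex, hinj, hmemU⟩ := GUNIQ hf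
  obtain ⟨ho11, ho9, hne⟩ := GP1 hf
  -- an element with matrix `x_r(1)` is `XG r 1`
  have hyeq : ∀ (y : GL chevG2.Idx F) (r : ℕ),
      (y : Matrix chevG2.Idx chevG2.Idx F) = chevG2.x F r 1 → y = XG F r 1 := by
    intro y r hy
    apply Units.ext
    rw [hy, hXc]
  have hcases : ∀ y : GL chevG2.Idx F,
      (y : Matrix chevG2.Idx chevG2.Idx F) ∈ [chevG2.x F 11 1, chevG2.x F 9 1] →
      y = XG F 11 1 ∨ y = XG F 9 1 := by
    intro y hy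
    simp only [List.mem_cons, List.not_mem_nil, or_false] at hy
    rcases hy with hy | hy
    · exact Or.inl (hyeq y 11 hy)
    · exact Or.inr (hyeq y 9 hy)
  -- no conjugacy between the two
  have hnc : ¬ ∃ h ∈ chevG2.group F, h * XG F 11 1 * h⁻¹ = XG F 9 1 := by
    rintro ⟨g, hg, hconj⟩
    have hv : g * XG F 11 1 * g⁻¹ ∈ chevG2.posUnipotent F := by
      rw [hconj]; exact hXU 9 1 (by decide)
    obtain ⟨u, hu, r, hr, a, ha, he⟩ := GNC1 hf g hg hv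
    obtain ⟨s, t, c, d, e, f, rfl⟩ := hex u hu
    rw [hconj] at he
    exact NC2 hrel hinj s t c d e f a ha r hr he.symm
  refine ⟨?_, ?_, ?_⟩
  · intro y hy
    rcases hcases y hy with rfl | rfl
    · exact ⟨hXG 11 1, ho11⟩
    · exact ⟨hXG 9 1, ho9⟩
  · intro g hg ho
    obtain ⟨u, hu, hgu⟩ := GSYL hsyl g hg ho
    obtain ⟨s, t, c, d, e, f, rfl⟩ := hex u hu
    obtain ⟨y, hy, hyu⟩ := hgu
    have hg2 : g * g = 1 := by
      have := pow_orderOf_eq_one g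
      rw [ho, pow_two] at this
      exact this
    have hg1 : g ≠ 1 := by
      intro h1
      rw [h1, orderOf_one] at ho
      exact absurd ho (by norm_num)
    have hu2 : PW (XG F) s t c d e f * PW (XG F) s t c d e f = 1 := by
      rw [← hyu]
      calc y * g * y⁻¹ * (y * g * y⁻¹) = y * (g * g) * y⁻¹ := by group
        _ = 1 := by rw [hg2]; group
    have hu1 : PW (XG F) s t c d e f ≠ 1 := by
      rw [← hyu]
      intro h1
      apply hg1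
      have : g = y⁻¹ * (y * g * y⁻¹) * y := by group
      rw [this, h1]; group
    have hred := RED (K := chevG2.group F) perfect_of_finite_char2 hrel hw hinj hXG
      (hNG 7 (by decide)) (hNG 6 (by decide)) hs9 hs11 s t c d e f hu2 hu1
    have hgu' : ConjIn (chevG2.group F) g (PW (XG F) s t c d e f) := ⟨y, hy, hyu⟩
    rcases hred with h11 | h9
    · obtain ⟨z, hz, hzu⟩ := hgu'.trans h11
      refine ⟨XG F 11 1, hXG 11 1, ?_, z, hz, hzu⟩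
      rw [hXc]; simp
    · obtain ⟨z, hz, hzu⟩ := hgu'.trans h9
      refine ⟨XG F 9 1, hXG 9 1, ?_, z, hz, hzu⟩
      rw [hXc]; simp
  · intro y₁ _ y₂ _ h1 h2 hconj
    rcases hcases y₁ h1 with rfl | rfl <;> rcases hcases y₂ h2 with rfl | rfl
    · rfl
    · exact absurd hconj hnc
    · exfalso
      apply hnc
      obtain ⟨h, hh, he⟩ := hconj
      refine ⟨h⁻¹, (chevG2.group F).inv_mem hh, ?_⟩
      rw [← he]; group
    · rfl

end Asm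

end Cfsg.Agent.Lib.Helper34_G2InvMain
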