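/-
Helper library (helper34): consequences of helper10's Dickson-type theorem on quadratic actions
for `p = 3`, in the form used for the Hall–Higman bound `l_p ≤ d_p`.

* `quad_comm_trivial` : `Δ` acts (not necessarily faithfully) on a finite commutative group `M`
  of exponent `3`; `a ∈ Δ` acts quadratically and normalizes a `3'`-subgroup `E` which has odd
  order or acts on `M` as a commutative group. Then `a` and `E` commute in their action on `M`.
* `commute_of_comm_comm` : coprime action, `[K, A, A] = 1 ⇒ [K, A] = 1`.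
-/
import Mathlib
import Cfsg.Agent.Lib.Helper10_QuadAction
import Cfsg.Agent.Lib.Helper10_QuadFinal
import Cfsg.Agent.Lib.Helper24_CoprimeAction
import Cfsg.Agent.Lib.Helper76_PSolvable

set_option autoImplicit false

namespace Cfsg.Agent.Lib.Helper34_HHQuad

open Cfsg Cfsg.Agent.Lib.Helper10_QuadAction

/-- a subgroup of order prime to the index of a normal subgroup lies in it -/
theorem le_of_coprime_index {X : Type*} [Group X] [Finite X] (A N : Subgroup X) [N.Normal]
    (h : (Nat.card A).Coprime N.index) : A ≤ N := by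
  intro x hx
  have h1 : orderOf (QuotientGroup.mk' N x) ∣ Nat.card (X ⧸ N) := orderOf_dvd_natCard _
  have h2 : orderOf (QuotientGroup.mk' N x) ∣ orderOf x := orderOf_map_dvd _ x
  have h3 : orderOf x ∣ Nat.card A := by
    have := orderOf_dvd_natCard (⟨x, hx⟩ : A)
    rwa [Subgroup.orderOf_mk] at this
  have h4 : (orderOf (QuotientGroup.mk' N x)).Coprime (orderOf (QuotientGroup.mk' N x)) := by
    apply Nat.Coprime.coprime_dvd_left (h2.trans h3)
    apply Nat.Coprime.coprime_dvd_right h1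
    have : Nat.card (X ⧸ N) = N.index := rfl
    rw [this]
    exact h
  rw [Nat.coprime_self, orderOf_eq_one_iff] at h4
  rwa [QuotientGroup.mk'_apply, QuotientGroup.eq_one_iff] at h4

theorem finite_mulAut (M : Type*) [Group M] [Finite M] : Finite (MulAut M) :=
  Finite.of_injective (fun e : MulAut M => (e : M → M)) DFunLike.coe_injective

/-- **Quadratic elements commute with abelian-acting / odd-order `3'`-groups they normalize.** -/
theorem quad_comm_trivial {Δ : Type*} [Group Δ] {M : Type*} [CommGroup M] [Finite M]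
    (c : Δ →* MulAut M) (hM : ∀ m : M, m ^ 3 = 1)
    (a : Δ) (ha : AQuad c a) (E : Subgroup Δ) [Finite E]
    (hEa : a ∈ Subgroup.normalizer (E : Set Δ))
    (hcop : (Nat.card E).Coprime 3)
    (hE : Odd (Nat.card E) ∨ ∀ e₁ ∈ E, ∀ e₂ ∈ E, c (e₁ * e₂) = c (e₂ * e₁)) :
    ∀ e ∈ E, c (a * e * a⁻¹) = c e := by
  classical
  have : Fact (Nat.Prime 3) := ⟨Nat.prime_three⟩
  have : Fact (Nat.Prime 2) := ⟨Nat.prime_two⟩
  have := finite_mulAut M
  -- the image group
  obtain ⟨Λ, hΛ⟩ : ∃ Λ : Subgroup (MulAut M), Λ = E.map c ⊔ Subgroup.zpowers (c a) := ⟨_, rfl⟩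
  have haΛ : c a ∈ Λ := by
    rw [hΛ]; exact le_sup_right (α := Subgroup (MulAut M)) (Subgroup.mem_zpowers (c a))
  have hEΛ : E.map c ≤ Λ := by rw [hΛ]; exact le_sup_left
  have hZΛ : Subgroup.zpowers (c a) ≤ Λ := by rw [hΛ]; exact le_sup_right
  -- the faithful action of `Λ`
  obtain ⟨c', hc'⟩ : ∃ c' : Λ →* MulAut M, c' = Λ.subtype := ⟨_, rfl⟩
  have hfaith : ∀ γ : Λ, (∀ n, c' γ n = n) → γ = 1 := by
    intro γ h
    apply Subtype.ext
    ext n
    have := h n
    rw [hc'] at this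
    exact this
  have hquad : AQuad c' (⟨c a, haΛ⟩ : Λ) := by
    intro n
    rw [hc']
    exact ha n
  have ha3 : (⟨c a, haΛ⟩ : Λ) ^ 3 = 1 := hquad.pow_p hM hfaith
  -- the normal subgroup `Ē`
  have hnormE : Λ ≤ Subgroup.normalizer ((E.map c : Subgroup (MulAut M)) : Set (MulAut M)) := by
    rw [hΛ]
    apply sup_le
    · exact Subgroup.le_normalizer
    · rw [Subgroup.zpowers_le]
      exact Subgroup.le_normalizer_map c (Subgroup.mem_map_of_mem c hEa)
  have hEn : ((E.map c).subgroupOf Λ).Normal :=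
    (Subgroup.normal_subgroupOf_iff_le_normalizer hEΛ).mpr hnormE
  have hsup : (E.map c).subgroupOf Λ ⊔ (Subgroup.zpowers (c a)).subgroupOf Λ = ⊤ := by
    rw [← Subgroup.subgroupOf_sup hEΛ hZΛ, ← hΛ, Subgroup.subgroupOf_self]
  have hcardZ : Nat.card ((Subgroup.zpowers (c a)).subgroupOf Λ) ∣ 3 := by
    rw [Nat.card_congr (Subgroup.subgroupOfEquivOfLe hZΛ).toEquiv, Nat.card_zpowers]
    apply orderOf_dvd_of_pow_eq_one
    have := congrArg Subtype.val ha3
    simpa using this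
  have hcardE : Nat.card ((E.map c).subgroupOf Λ) ∣ Nat.card E := by
    rw [Nat.card_congr (Subgroup.subgroupOfEquivOfLe hEΛ).toEquiv]
    exact Subgroup.card_map_dvd E c
  have hindex : ((E.map c).subgroupOf Λ).index ∣ 3 := by
    have h1 := Cfsg.Agent.Lib.Helper76_PSolvable.card_sup_dvd
      ((Subgroup.zpowers (c a)).subgroupOf Λ) ((E.map c).subgroupOf Λ)
    rw [sup_comm, hsup, Subgroup.card_top, ← ((E.map c).subgroupOf Λ).card_mul_index,
      mul_comm (Nat.card _) (Nat.card _)] at h1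
    exact (Nat.dvd_of_mul_dvd_mul_left Nat.card_pos h1).trans hcardZ
  -- Sylow 2-subgroups of `Λ` are commutative
  obtain ⟨T⟩ : Nonempty (Sylow 2 Λ) := inferInstance
  have hTle : (T : Subgroup Λ) ≤ (E.map c).subgroupOf Λ := by
    apply le_of_coprime_index
    obtain ⟨k, hk⟩ := IsPGroup.iff_card.mp T.2
    rw [hk]
    apply Nat.Coprime.coprime_dvd_right hindex
    apply Nat.Coprime.pow_left
    decide
  have hTcomm : IsMulCommutative T := by
    refine ⟨⟨?_⟩⟩
    rintro ⟨x, hx⟩ ⟨y, hy⟩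
    apply Subtype.ext
    show x * y = y * x
    rcases hE with hodd | hcomm
    · -- `T` is trivial
      have h1 : Nat.card (T : Subgroup Λ) ∣ Nat.card E :=
        (Subgroup.card_dvd_of_le hTle).trans hcardE
      obtain ⟨k, hk⟩ := IsPGroup.iff_card.mp T.2
      have h2 : Nat.card (T : Subgroup Λ) = 1 := by
        rcases Nat.eq_zero_or_pos k with h0 | h0
        · rw [hk, h0, pow_zero]
        · exfalso
          have h3 : 2 ∣ Nat.card E := by
            apply dvd_trans _ h1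
            rw [hk]
            exact dvd_pow_self 2 h0.ne'
          exact (Nat.not_even_iff_odd.mpr hodd) (even_iff_two_dvd.mpr h3)
      have h4 : (T : Subgroup Λ) = ⊥ := Subgroup.card_eq_one.mp h2
      have hx1 : x = 1 := by
        have : x ∈ (T : Subgroup Λ) := hx
        rw [h4, Subgroup.mem_bot] at this
        exact this
      rw [hx1, one_mul, mul_one]
    · have hx' := hTle hx
      have hy' := hTle hy
      rw [Subgroup.mem_subgroupOf] at hx' hy'
      obtain ⟨e₁, he₁, hxe⟩ := hx'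
      obtain ⟨e₂, he₂, hye⟩ := hy'
      apply Subtype.ext
      rw [Subgroup.coe_mul, Subgroup.coe_mul, ← hxe, ← hye, ← map_mul, ← map_mul]
      exact hcomm e₁ he₁ e₂ he₂
  -- hence `ā ∈ O_3(Λ)`
  have hmem : (⟨c a, haΛ⟩ : Λ) ∈ Cfsg.pCore 3 Λ := by
    by_contra hna
    exact abs_sylow_two_not_comm (Cfsg.Agent.Lib.Helper10_QuadFinal.dicksonHyp 3 (by decide))
      (by decide) c' hM hfaith _ hquad hna T hTcomm
  have hOn : (Cfsg.pCore 3 Λ).Normal := Cfsg.Agent.Lib.Helper76_PSolvable.pCore_normal 3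
  have hOp : IsPGroup 3 (Cfsg.pCore 3 Λ) := Cfsg.Agent.Lib.Helper76_PSolvable.pCore_isPGroup 3
  have hdisj : (E.map c).subgroupOf Λ ⊓ Cfsg.pCore 3 Λ = ⊥ := by
    have hc1 : (Nat.card ((E.map c).subgroupOf Λ)).Coprime (Nat.card (Cfsg.pCore 3 Λ)) := by
      obtain ⟨k, hk⟩ := IsPGroup.iff_card.mp hOp
      rw [hk]
      apply Nat.Coprime.pow_right
      exact Nat.Coprime.coprime_dvd_left hcardE hcop
    exact (Subgroup.disjoint_of_coprime_natCard hc1).eq_bot
  intro e he
  have heΛ : c e ∈ Λ := hEΛ (Subgroup.mem_map_of_mem c he)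
  have h1 : (⟨c a, haΛ⟩ : Λ) * ⟨c e, heΛ⟩ * (⟨c a, haΛ⟩ : Λ)⁻¹ * (⟨c e, heΛ⟩ : Λ)⁻¹ ∈
      (E.map c).subgroupOf Λ ⊓ Cfsg.pCore 3 Λ := by
    constructor
    · apply Subgroup.mul_mem
      · apply hEn.conj_mem
        rw [Subgroup.mem_subgroupOf]
        exact Subgroup.mem_map_of_mem c he
      · apply Subgroup.inv_mem
        rw [Subgroup.mem_subgroupOf]
        exact Subgroup.mem_map_of_mem c he
    · have e1 : (⟨c a, haΛ⟩ : Λ) * ⟨c e, heΛ⟩ * (⟨c a, haΛ⟩ : Λ)⁻¹ * (⟨c e, heΛ⟩ : Λ)⁻¹ =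
          (⟨c a, haΛ⟩ : Λ) * ((⟨c e, heΛ⟩ : Λ) * (⟨c a, haΛ⟩ : Λ)⁻¹ * (⟨c e, heΛ⟩ : Λ)⁻¹) := by
        group
      rw [e1]
      exact Subgroup.mul_mem _ hmem (hOn.conj_mem _ (Subgroup.inv_mem _ hmem) _)
  rw [hdisj, Subgroup.mem_bot] at h1
  have h2 := congrArg Subtype.val h1
  simp only [Subgroup.coe_mul, Subgroup.coe_inv, Subgroup.coe_one] at h2
  rw [map_mul, map_mul, map_inv]
  rw [mul_inv_eq_one] at h2
  exact h2

/-- coprime action: `[K, A, A] = 1 ⇒ [K, A] = 1` -/
theorem commute_of_comm_comm {G : Type*} [Group G] [Finite G] (A K : Subgroup G)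
    (hAK : A ≤ Subgroup.normalizer (K : Set G)) (hcop : (Nat.card A).Coprime (Nat.card K))
    (hsolv : Group.IsSolvable A ∨ Group.IsSolvable K)
    (h : ∀ x ∈ ⁅K, A⁆, ∀ a ∈ A, a * x = x * a) : ∀ k ∈ K, ∀ a ∈ A, a * k = k * a := by
  intro k hk a ha
  obtain ⟨d, hd, z, hz, rfl⟩ :=
    Cfsg.Agent.Lib.Helper24_CoprimeAction.coprime_decomp A K hAK hcop hsolv hk
  have h1 : a * d = d * a := h d hd a ha
  have h2 : a * z = z * a := (Subgroup.mem_centralizer_iff.mp hz.2 a ha)
  calc a * (d * z) = (a * d) * z := by rw [mul_assoc]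
    _ = d * (a * z) := by rw [h1, mul_assoc]
    _ = d * z * a := by rw [h2, mul_assoc]

end Cfsg.Agent.Lib.Helper34_HHQuad
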