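/-
Helper library (helper34): a `3`-group `B` acting (by conjugation inside `Γ`) on a `2`-group `T`,
minimal subject to `A = ⁅B, B⁆` not centralizing `T`.  With `Z = C_T(A)`:
every proper `B`-invariant subgroup of `T` lies in `Z`, `T = ⁅T, A⁆`, `⁅T, T⁆ = Z ≤ Z(T)`,
`t ^ 2 ∈ Z`, `z ^ 2 = 1` on `Z`.
-/
import Mathlib
import Cfsg.Agent.Lib.Helper34_HHQuad
import Cfsg.Agent.Lib.Helper49_FStarComm5
import Cfsg.Agent.Lib.Helper1_Frattini

set_option autoImplicit false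
set_option linter.unusedSectionVars false
set_option linter.style.haveILetI false

namespace Cfsg.Agent.Lib.Helper34_HHMinimal

open Cfsg Cfsg.Agent.Lib.Helper34_HHQuad

variable {Γ : Type*} [Group Γ] [Finite Γ]

/-- the minimal configuration -/
structure MinHyp (B T : Subgroup Γ) : Prop where
  hB : IsPGroup 3 B
  hT : IsPGroup 2 T
  hBT : B ≤ Subgroup.normalizer (T : Set Γ)
  hmin : ∀ M : Subgroup Γ, M ≤ T → B ≤ Subgroup.normalizer (M : Set Γ) → M ≠ T →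
      ∀ m ∈ M, ∀ a ∈ ⁅B, B⁆, a * m = m * a
  hnc : ¬ ∀ t ∈ T, ∀ a ∈ ⁅B, B⁆, a * t = t * a

/-- `Z = C_T(A)` -/
def ZZ (B T : Subgroup Γ) : Subgroup Γ := T ⊓ Subgroup.centralizer ((⁅B, B⁆ : Subgroup Γ) : Set Γ)

theorem mem_ZZ {B T : Subgroup Γ} {z : Γ} :
    z ∈ ZZ B T ↔ z ∈ T ∧ ∀ a ∈ ⁅B, B⁆, a * z = z * a := by
  unfold ZZ
  rw [Subgroup.mem_inf, Subgroup.mem_centralizer_iff]
  rfl

theorem comm_le (B : Subgroup Γ) : ⁅B, B⁆ ≤ B := Subgroup.commutator_le_self B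

theorem B_norm_A (B : Subgroup Γ) : B ≤ Subgroup.normalizer ((⁅B, B⁆ : Subgroup Γ) : Set Γ) :=
  fun _ hb => Cfsg.Agent.Lib.Helper24_CoprimeAction.mem_normalizer_commutator B B
    (Subgroup.le_normalizer hb) (Subgroup.le_normalizer hb)

/-- membership in the normalizer from one-sided stability under a subgroup -/
theorem le_normalizer_of_conj_mem (B M : Subgroup Γ)
    (h : ∀ b ∈ B, ∀ m ∈ M, b * m * b⁻¹ ∈ M) : B ≤ Subgroup.normalizer (M : Set Γ) := by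
  intro b hb
  rw [Subgroup.mem_normalizer_iff]
  intro m
  constructor
  · exact h b hb m
  · intro hm
    have := h b⁻¹ (B.inv_mem hb) _ hm
    have e : b⁻¹ * (b * m * b⁻¹) * b⁻¹⁻¹ = m := by group
    rwa [e] at this

namespace MinHyp

variable {B T : Subgroup Γ} (h : MinHyp B T)
include h

theorem hAT : ⁅B, B⁆ ≤ Subgroup.normalizer (T : Set Γ) := (comm_le B).trans h.hBT

theorem hA3 : IsPGroup 3 (⁅B, B⁆ : Subgroup Γ) := h.hB.to_le (comm_le B)

theorem hcop : (Nat.card (⁅B, B⁆ : Subgroup Γ)).Coprime (Nat.card T) := by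
  haveI : Fact (Nat.Prime 3) := ⟨Nat.prime_three⟩
  haveI : Fact (Nat.Prime 2) := ⟨Nat.prime_two⟩
  obtain ⟨k, hk⟩ := IsPGroup.iff_card.mp h.hA3
  obtain ⟨l, hl⟩ := IsPGroup.iff_card.mp h.hT
  rw [hk, hl]
  apply Nat.Coprime.pow
  decide

theorem hsolv : Group.IsSolvable (⁅B, B⁆ : Subgroup Γ) ∨ Group.IsSolvable T := by
  haveI : Fact (Nat.Prime 3) := ⟨Nat.prime_three⟩
  left
  haveI := h.hA3.isNilpotent
  infer_instance

theorem B_norm_ZZ : B ≤ Subgroup.normalizer ((ZZ B T : Subgroup Γ) : Set Γ) := by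
  apply le_normalizer_of_conj_mem
  intro b hb z hz
  rw [mem_ZZ] at hz ⊢
  refine ⟨(Subgroup.mem_normalizer_iff.mp (h.hBT hb) z).mp hz.1, ?_⟩
  intro a ha
  have ha' : b⁻¹ * a * b ∈ ⁅B, B⁆ := by
    have := (Subgroup.mem_normalizer_iff.mp (B_norm_A B (B.inv_mem hb)) a).mp ha
    rwa [inv_inv] at this
  have h1 := hz.2 _ ha'
  calc a * (b * z * b⁻¹) = b * ((b⁻¹ * a * b) * z) * b⁻¹ := by group
    _ = b * (z * (b⁻¹ * a * b)) * b⁻¹ := by rw [h1]
    _ = b * z * b⁻¹ * a := by group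

/-- proper `B`-invariant subgroups lie in `Z` -/
theorem le_ZZ (M : Subgroup Γ) (hM : M ≤ T) (hBM : B ≤ Subgroup.normalizer (M : Set Γ))
    (hne : M ≠ T) : M ≤ ZZ B T := by
  intro m hm
  rw [mem_ZZ]
  exact ⟨hM hm, fun a ha => h.hmin M hM hBM hne m hm a ha⟩

theorem ZZ_ne : ZZ B T ≠ T := by
  intro he
  apply h.hnc
  intro t ht a ha
  have : t ∈ ZZ B T := by rw [he]; exact ht
  exact (mem_ZZ.mp this).2 a ha

/-- `T = ⁅T, A⁆` -/
theorem T_le_comm : T ≤ ⁅T, ⁅B, B⁆⁆ := by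
  have hle : ⁅T, ⁅B, B⁆⁆ ≤ T :=
    Cfsg.Agent.Lib.Helper24_CoprimeAction.commutator_le_of_le_normalizer T _ h.hAT
  have hBM : B ≤ Subgroup.normalizer ((⁅T, ⁅B, B⁆⁆ : Subgroup Γ) : Set Γ) := fun b hb =>
    Cfsg.Agent.Lib.Helper24_CoprimeAction.mem_normalizer_commutator T _ (h.hBT hb) (B_norm_A B hb)
  by_contra hcon
  have hne : ⁅T, ⁅B, B⁆⁆ ≠ T := fun he => hcon (by rw [he])
  apply h.hnc
  apply commute_of_comm_comm _ T h.hAT h.hcop h.hsolv
  intro x hx a ha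
  exact h.hmin _ hle hBM hne x hx a ha

theorem T_ne_bot : T ≠ ⊥ := by
  intro he
  apply h.hnc
  intro t ht a ha
  rw [he, Subgroup.mem_bot] at ht
  rw [ht, mul_one, one_mul]

theorem comm_ne : ⁅T, T⁆ ≠ T := by
  haveI : Fact (Nat.Prime 2) := ⟨Nat.prime_two⟩
  intro he
  haveI := h.hT.isNilpotent
  haveI : Nontrivial T := (Subgroup.nontrivial_iff_ne_bot T).mpr h.T_ne_bot
  have h1 : _root_.commutator T < ⊤ := Group.IsSolvable.commutator_lt_top_of_nontrivial T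
  apply h1.ne
  apply Subgroup.map_injective T.subtype_injective
  rw [Subgroup.map_subtype_commutator, he, ← MonoidHom.range_eq_map, Subgroup.range_subtype]

theorem B_norm_comm : B ≤ Subgroup.normalizer ((⁅T, T⁆ : Subgroup Γ) : Set Γ) := fun b hb =>
  Cfsg.Agent.Lib.Helper24_CoprimeAction.mem_normalizer_commutator T T (h.hBT hb) (h.hBT hb)

theorem comm_le_ZZ : ⁅T, T⁆ ≤ ZZ B T :=
  h.le_ZZ _ (Subgroup.commutator_le_self T) h.B_norm_comm h.comm_ne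

theorem ZZ_le_comm : ZZ B T ≤ ⁅T, T⁆ := by
  haveI : Fact (Nat.Prime 3) := ⟨Nat.prime_three⟩
  haveI : Fact (Nat.Prime 2) := ⟨Nat.prime_two⟩
  intro z hz
  have hz' := mem_ZZ.mp hz
  have hzc : z ∈ Subgroup.centralizer ((⁅B, B⁆ : Subgroup Γ) : Set Γ) := by
    rw [Subgroup.mem_centralizer_iff]
    exact hz'.2
  have h1 : z ^ Nat.card (⁅B, B⁆ : Subgroup Γ) ∈ ⁅T, T⁆ :=
    Cfsg.Agent.Lib.Helper49_FStarComm.pow_card_mem_commutator_of_centralizes T _ h.hAT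
      h.T_le_comm hz'.1 hzc
  obtain ⟨k, hk⟩ := h.hT ⟨z, hz'.1⟩
  have hk' : z ^ 2 ^ k = 1 := by
    have := congrArg Subtype.val hk
    simpa using this
  obtain ⟨j, hj⟩ := IsPGroup.iff_card.mp h.hA3
  apply Cfsg.Agent.Lib.Helper49_FStarComm.mem_of_pow_mem_of_coprime' _ (a := 3 ^ j) (b := 2 ^ k)
  · apply Nat.Coprime.pow
    decide
  · rw [← hj]; exact h1
  · rw [hk']; exact Subgroup.one_mem _

/-- `Z` is central in `T` -/
theorem ZZ_central : ∀ z ∈ ZZ B T, ∀ t ∈ T, z * t = t * z := by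
  have h1 : ⁅⁅T, ZZ B T⁆, ⁅B, B⁆⁆ = ⊥ := by
    rw [Subgroup.commutator_eq_bot_iff_le_centralizer]
    have hle : ⁅T, ZZ B T⁆ ≤ ZZ B T := by
      refine le_trans ?_ h.comm_le_ZZ
      exact Subgroup.commutator_mono le_rfl inf_le_left
    refine hle.trans ?_
    exact inf_le_right
  have h2 : ⁅⁅ZZ B T, ⁅B, B⁆⁆, T⁆ = ⊥ := by
    have : ⁅ZZ B T, ⁅B, B⁆⁆ = ⊥ := by
      rw [Subgroup.commutator_eq_bot_iff_le_centralizer]
      exact inf_le_right
    rw [this, Subgroup.commutator_bot_left]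
  have h3 := Subgroup.commutator_commutator_eq_bot_of_rotate h1 h2
  rw [Subgroup.commutator_comm ⁅B, B⁆ T] at h3
  have h4 : ⁅T, ZZ B T⁆ = ⊥ := by
    rw [eq_bot_iff, ← h3]
    exact Subgroup.commutator_mono h.T_le_comm le_rfl
  rw [Subgroup.commutator_eq_bot_iff_le_centralizer] at h4
  intro z hz t ht
  have := h4 ht
  rw [Subgroup.mem_centralizer_iff] at this
  exact this z hz

/-- squares lie in `Z` -/
theorem sq_mem_ZZ : ∀ t ∈ T, t ^ 2 ∈ ZZ B T := by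
  haveI : Fact (Nat.Prime 2) := ⟨Nat.prime_two⟩
  have hΦle : (frattini T).map T.subtype ≤ T := Subgroup.map_subtype_le _
  have hΦB : B ≤ Subgroup.normalizer (((frattini T).map T.subtype : Subgroup Γ) : Set Γ) :=
    h.hBT.trans
      (Cfsg.Agent.Lib.Helper24_CoprimeAction.normalizer_le_normalizer_map_of_characteristic T
        (frattini T))
  have hΦne : (frattini T).map T.subtype ≠ T := by
    intro he
    have h1 : frattini T = ⊤ := by
      apply Subgroup.map_injective T.subtype_injective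
      rw [he, ← MonoidHom.range_eq_map, Subgroup.range_subtype]
    have hT1 : Nat.card T ≠ 1 := by
      intro hc
      exact h.T_ne_bot (Subgroup.card_eq_one.mp hc)
    obtain ⟨q, hq, hqd⟩ := Nat.exists_prime_and_dvd hT1
    have := Cfsg.Agent.Lib.Helper1_Frattini.prime_dvd_index_frattini q hq hqd
    rw [h1, Subgroup.index_top] at this
    exact hq.one_lt.ne' (Nat.dvd_one.mp this)
  intro t ht
  apply h.le_ZZ _ hΦle hΦB hΦne
  refine ⟨⟨t, ht⟩ ^ 2, ?_, rfl⟩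
  exact Cfsg.Agent.Lib.Helper1_Frattini.pow_mem_frattini_of_isPGroup
    ((IsPGroup.of_equiv h.hT (MulEquiv.refl T))) ⟨t, ht⟩

/-- commutators of elements of `T` have square `1` -/
theorem comm_sq (x y : Γ) (hx : x ∈ T) (hy : y ∈ T) : (x * y * x⁻¹ * y⁻¹) ^ 2 = 1 := by
  have hc : x * y * x⁻¹ * y⁻¹ ∈ ZZ B T := by
    apply h.comm_le_ZZ
    have := Subgroup.commutator_mem_commutator hx hy
    rwa [commutatorElement_def] at this
  have h1 : (x * y * x⁻¹ * y⁻¹) * x = x * (x * y * x⁻¹ * y⁻¹) := h.ZZ_central _ hc x hx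
  have h2 : x ^ 2 * y = y * x ^ 2 := h.ZZ_central _ (h.sq_mem_ZZ x hx) y hy
  -- `[x², y] = [x, y]²`
  have e : (x * x) * y * (x * x)⁻¹ * y⁻¹ = (x * y * x⁻¹ * y⁻¹) * (x * y * x⁻¹ * y⁻¹) := by
    have e1 : (x * x) * y * (x * x)⁻¹ * y⁻¹ =
        (x * (x * y * x⁻¹ * y⁻¹)) * (y * x⁻¹ * y⁻¹) := by group
    rw [e1, ← h1]
    group
  rw [pow_two, ← e, ← pow_two, h2]
  group

/-- `Z` has exponent `2` -/
theorem ZZ_sq : ∀ z ∈ ZZ B T, z ^ 2 = 1 := by
  intro z hz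
  have hz' := h.ZZ_le_comm hz
  -- closure induction inside the commutative group `Z`
  have key : ∀ w ∈ ⁅T, T⁆, w ∈ ZZ B T ∧ w ^ 2 = 1 := by
    intro w hw
    refine Subgroup.closure_induction (p := fun w _ => w ∈ ZZ B T ∧ w ^ 2 = 1) ?_ ?_ ?_ ?_ hw
    · rintro w ⟨x, hx, y, hy, rfl⟩
      refine ⟨h.comm_le_ZZ (Subgroup.commutator_mem_commutator hx hy), ?_⟩
      rw [commutatorElement_def]
      exact h.comm_sq x y hx hy
    · exact ⟨Subgroup.one_mem _, one_pow 2⟩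
    · rintro u v _ _ ⟨hu, hu2⟩ ⟨hv, hv2⟩
      refine ⟨Subgroup.mul_mem _ hu hv, ?_⟩
      have hcomm : u * v = v * u := h.ZZ_central u hu v (mem_ZZ.mp hv).1
      rw [(Commute.mul_pow hcomm 2), hu2, hv2, one_mul]
    · rintro u _ ⟨hu, hu2⟩
      exact ⟨Subgroup.inv_mem _ hu, by rw [inv_pow, hu2, inv_one]⟩
  exact (key z hz').2

/-- a nonabelian `T` has centre `Z` -/
theorem center_le_ZZ (hna : ∃ t₁ ∈ T, ∃ t₂ ∈ T, t₁ * t₂ ≠ t₂ * t₁) :
    T ⊓ Subgroup.centralizer (T : Set Γ) ≤ ZZ B T := by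
  apply h.le_ZZ _ inf_le_left
  · apply le_normalizer_of_conj_mem
    intro b hb z hz
    rw [Subgroup.mem_inf, Subgroup.mem_centralizer_iff] at hz ⊢
    refine ⟨(Subgroup.mem_normalizer_iff.mp (h.hBT hb) z).mp hz.1, ?_⟩
    intro t ht
    have ht' : b⁻¹ * t * b ∈ T := by
      have := (Subgroup.mem_normalizer_iff.mp (h.hBT (B.inv_mem hb)) t).mp ht
      rwa [inv_inv] at this
    have h1 := hz.2 _ ht'
    calc t * (b * z * b⁻¹) = b * ((b⁻¹ * t * b) * z) * b⁻¹ := by group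
      _ = b * (z * (b⁻¹ * t * b)) * b⁻¹ := by rw [h1]
      _ = b * z * b⁻¹ * t := by group
  · intro he
    obtain ⟨t₁, ht₁, t₂, ht₂, hne⟩ := hna
    apply hne
    have : t₁ ∈ T ⊓ Subgroup.centralizer (T : Set Γ) := by rw [he]; exact ht₁
    rw [Subgroup.mem_inf, Subgroup.mem_centralizer_iff] at this
    exact (this.2 t₂ ht₂).symm

end MinHyp

end Cfsg.Agent.Lib.Helper34_HHMinimal
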