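/-
Helper library (helper34): the core contradiction for the `p = 3` case of `l_p ≤ d_p`.
A `3`-group `B` acts on a `2`-group `T`, minimal subject to `A = ⁅B, B⁆` not centralizing `T`;
`T` acts on a commutative group `M` of exponent `3` with kernel inside `Z = C_T(A)`, `Z` acts by
`± 1`, and every element of `A` acts quadratically.  This is impossible.
-/
import Mathlib
import Cfsg.Agent.Lib.Helper34_HHMinimal
import Cfsg.Agent.Lib.Helper32_PGroup

set_option autoImplicit false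
set_option linter.unusedSectionVars false
set_option linter.style.haveILetI false

namespace Cfsg.Agent.Lib.Helper34_HHCore

open Cfsg Cfsg.Agent.Lib.Helper34_HHQuad Cfsg.Agent.Lib.Helper34_HHMinimal
  Cfsg.Agent.Lib.Helper10_QuadAction

section sign

variable {M : Type*} [CommGroup M]

/-- inversion, as an automorphism -/
def iota : MulAut M := MulEquiv.inv M

theorem iota_apply (m : M) : (iota : MulAut M) m = m⁻¹ := rfl

theorem iota_mul_iota : (iota : MulAut M) * iota = 1 := by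
  ext m
  simp [iota_apply]

theorem iota_comm (g : MulAut M) : g * iota = iota * g := by
  ext m
  simp [iota_apply]

theorem iota_inv : (iota : MulAut M)⁻¹ = iota := by
  rw [inv_eq_iff_mul_eq_one, iota_mul_iota]

theorem iota_ne_one (hM : ∀ m : M, m ^ 3 = 1) (hM1 : ∃ m : M, m ≠ 1) : (iota : MulAut M) ≠ 1 := by
  intro h
  obtain ⟨m, hm⟩ := hM1
  apply hm
  have h1 : (iota : MulAut M) m = m := by rw [h]; rfl
  rw [iota_apply] at h1
  have h2 : m ^ 2 = 1 := by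
    rw [pow_two]
    nth_rewrite 1 [← h1]
    exact inv_mul_cancel m
  have h3 := hM m
  calc m = m ^ 3 * (m ^ 2)⁻¹ := by group
    _ = 1 := by rw [h3, h2]; simp

/-- the subgroup `{1, ι}` -/
def Sgn : Subgroup (MulAut M) where
  carrier := {g | g = 1 ∨ g = iota}
  one_mem' := Or.inl rfl
  mul_mem' := by
    rintro a b (rfl | rfl) (rfl | rfl)
    · left; simp
    · right; simp
    · right; simp
    · left; exact iota_mul_iota
  inv_mem' := by
    rintro a (rfl | rfl)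
    · left; simp
    · right; exact iota_inv

theorem mem_Sgn {g : MulAut M} : g ∈ (Sgn : Subgroup (MulAut M)) ↔ g = 1 ∨ g = iota := Iff.rfl

instance Sgn_normal : (Sgn : Subgroup (MulAut M)).Normal := by
  constructor
  rintro n (rfl | rfl) g
  · left; simp
  · right
    rw [iota_comm g, mul_assoc, mul_inv_cancel, mul_one]

end sign

section anti

variable {M : Type*} [CommGroup M]

/-- `p q = - q p` -/
def Anti (p q : MulAut M) : Prop := p * q = iota * (q * p)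

theorem Anti.symm {p q : MulAut M} (h : Anti p q) : Anti q p := by
  unfold Anti at h ⊢
  rw [h, ← mul_assoc, iota_mul_iota, one_mul]

theorem Anti.not_commute {p q : MulAut M} (hι : (iota : MulAut M) ≠ 1) (h : Anti p q) :
    ¬ Commute p q := by
  intro hc
  apply hι
  unfold Anti at h
  rw [hc.eq] at h
  exact (mul_eq_right.mp h.symm)

theorem commute_iota (g : MulAut M) : Commute g iota := iota_comm g

theorem Commute.mul_anti {p q w : MulAut M} (h1 : Commute p w) (h2 : Anti q w) :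
    Anti (p * q) w := by
  unfold Anti at h2 ⊢
  calc p * q * w = p * (q * w) := mul_assoc _ _ _
    _ = p * (iota * (w * q)) := by rw [h2]
    _ = (p * iota) * (w * q) := by rw [mul_assoc]
    _ = (iota * p) * (w * q) := by rw [iota_comm p]
    _ = iota * ((p * w) * q) := by simp only [mul_assoc]
    _ = iota * ((w * p) * q) := by rw [h1.eq]
    _ = iota * (w * (p * q)) := by simp only [mul_assoc]

theorem Anti.mul_commute {p q w : MulAut M} (h1 : Anti p w) (h2 : Commute q w) :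
    Anti (p * q) w := by
  unfold Anti at h1 ⊢
  rw [mul_assoc, h2.eq, ← mul_assoc, h1, mul_assoc, mul_assoc]

theorem Anti.mul_anti {p q w : MulAut M} (h1 : Anti p w) (h2 : Anti q w) :
    Commute (p * q) w := by
  unfold Anti at h1 h2
  show p * q * w = w * (p * q)
  calc p * q * w = p * (q * w) := mul_assoc _ _ _
    _ = p * (iota * (w * q)) := by rw [h2]
    _ = (p * iota) * (w * q) := by rw [mul_assoc]
    _ = (iota * p) * (w * q) := by rw [iota_comm p]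
    _ = iota * ((p * w) * q) := by simp only [mul_assoc]
    _ = iota * ((iota * (w * p)) * q) := by rw [h1]
    _ = (iota * iota) * (w * (p * q)) := by simp only [mul_assoc]
    _ = w * (p * q) := by rw [iota_mul_iota, one_mul]

end anti

variable {Γ : Type*} [Group Γ] [Finite Γ] {M : Type*} [CommGroup M] [Finite M]

/-- the action modulo signs -/
def cbar (c : Γ →* MulAut M) : Γ →* MulAut M ⧸ (Sgn : Subgroup (MulAut M)) :=
  (QuotientGroup.mk' Sgn).comp c

theorem cbar_eq_one_iff (c : Γ →* MulAut M) (g : Γ) : cbar c g = 1 ↔ c g = 1 ∨ c g = iota := by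
  unfold cbar
  rw [MonoidHom.comp_apply, QuotientGroup.mk'_apply, QuotientGroup.eq_one_iff, mem_Sgn]

/-- hypotheses of the core lemma -/
structure CoreHyp (c : Γ →* MulAut M) (B T : Subgroup Γ) : Prop where
  hM : ∀ m : M, m ^ 3 = 1
  hM1 : ∃ m : M, m ≠ 1
  min : MinHyp B T
  hquad : ∀ a ∈ ⁅B, B⁆, AQuad c a
  hZ : ∀ z ∈ ZZ B T, c z = 1 ∨ c z = iota
  hker : ∀ t ∈ T, c t = 1 → t ∈ ZZ B T

namespace CoreHyp

variable {c : Γ →* MulAut M} {B T : Subgroup Γ} (H : CoreHyp c B T)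
include H

theorem comm_mem {x y : Γ} (hx : x ∈ T) (hy : y ∈ T) : x * y * x⁻¹ * y⁻¹ ∈ ZZ B T := by
  apply H.min.comm_le_ZZ
  have := Subgroup.commutator_mem_commutator hx hy
  rwa [commutatorElement_def] at this

theorem ZZ_le : ZZ B T ≤ T := inf_le_left

theorem iota_ne : (iota : MulAut M) ≠ 1 := iota_ne_one H.hM H.hM1

/-- images of elements of `T` commute or anticommute -/
theorem sgn {x y : Γ} (hx : x ∈ T) (hy : y ∈ T) :
    c x * c y = c y * c x ∨ c x * c y = iota * (c y * c x) := by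
  have h1 := H.hZ _ (H.comm_mem hx hy)
  have e : c x * c y = c (x * y * x⁻¹ * y⁻¹) * (c y * c x) := by
    rw [← map_mul, ← map_mul, ← map_mul]
    congr 1
    group
  rcases h1 with h1 | h1
  · left; rw [e, h1, one_mul]
  · right; rw [e, h1]

/-- the key consequence of quadratic action -/
theorem key {a : Γ} (ha : a ∈ ⁅B, B⁆) (E : Subgroup Γ) (hET : E ≤ T)
    (hEa : a ∈ Subgroup.normalizer (E : Set Γ))
    (hE : ∀ e₁ ∈ E, ∀ e₂ ∈ E, c (e₁ * e₂) = c (e₂ * e₁)) :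
    ∀ e ∈ E, a * e * a⁻¹ * e⁻¹ ∈ ZZ B T := by
  haveI : Fact (Nat.Prime 2) := ⟨Nat.prime_two⟩
  have hcop : (Nat.card E).Coprime 3 := by
    obtain ⟨k, hk⟩ := IsPGroup.iff_card.mp (H.min.hT.to_le hET)
    rw [hk]
    apply Nat.Coprime.pow_left
    decide
  have h1 := quad_comm_trivial c H.hM a (H.hquad a ha) E hEa hcop (Or.inr hE)
  intro e he
  have he' : a * e * a⁻¹ ∈ E := (Subgroup.mem_normalizer_iff.mp hEa e).mp he
  apply H.hker _ (T.mul_mem (hET he') (T.inv_mem (hET he)))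
  rw [map_mul, h1 e he, map_inv, mul_inv_cancel]

/-- `A` cannot act trivially on `T / Z` -/
theorem contra1 (h : ∀ a ∈ ⁅B, B⁆, ∀ t ∈ T, a * t * a⁻¹ * t⁻¹ ∈ ZZ B T) : False := by
  apply H.min.hnc
  apply commute_of_comm_comm _ T H.min.hAT H.min.hcop H.min.hsolv
  intro x hx a ha
  have hxZ : x ∈ ZZ B T := by
    have hle : ⁅T, ⁅B, B⁆⁆ ≤ ZZ B T := by
      rw [Subgroup.commutator_le]
      intro t ht a' ha'
      rw [commutatorElement_def]
      have := (ZZ B T).inv_mem (h a' ha' t ht)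
      have e : (a' * t * a'⁻¹ * t⁻¹)⁻¹ = t * a' * t⁻¹ * a'⁻¹ := by group
      rwa [e] at this
    exact hle hx
  exact (mem_ZZ.mp hxZ).2 a ha

theorem exists_z0 : ∃ z₀ ∈ ZZ B T, c z₀ = iota := by
  by_contra hcon
  have hZ1 : ∀ z ∈ ZZ B T, c z = 1 := fun z hz =>
    (H.hZ z hz).resolve_right (fun h => hcon ⟨z, hz, h⟩)
  apply H.contra1
  intro a ha
  apply H.key ha T le_rfl (H.min.hAT ha)
  intro e₁ he₁ e₂ he₂
  have e : e₁ * e₂ = (e₁ * e₂ * e₁⁻¹ * e₂⁻¹) * (e₂ * e₁) := by group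
  rw [e, map_mul, hZ1 _ (H.comm_mem he₁ he₂), one_mul]

/-- elements of `T` acting by a sign lie in `Z` -/
theorem kerS {t : Γ} (ht : t ∈ T) (h : c t = 1 ∨ c t = iota) : t ∈ ZZ B T := by
  rcases h with h | h
  · exact H.hker t ht h
  · obtain ⟨z₀, hz₀, hcz⟩ := H.exists_z0
    have h1 : t * z₀ ∈ ZZ B T := by
      apply H.hker _ (T.mul_mem ht (H.ZZ_le hz₀))
      rw [map_mul, h, hcz, iota_mul_iota]
    have := (ZZ B T).mul_mem h1 ((ZZ B T).inv_mem hz₀)
    rwa [mul_inv_cancel_right] at this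

theorem mem_ZZ_iff_cbar {t : Γ} (ht : t ∈ T) : t ∈ ZZ B T ↔ cbar c t = 1 := by
  rw [cbar_eq_one_iff]
  exact ⟨fun h => H.hZ t h, fun h => H.kerS ht h⟩

theorem cbar_comm {x y : Γ} (hx : x ∈ T) (hy : y ∈ T) :
    cbar c x * cbar c y = cbar c y * cbar c x := by
  have h1 := (H.mem_ZZ_iff_cbar (T.mul_mem (T.mul_mem (T.mul_mem hx hy) (T.inv_mem hx))
    (T.inv_mem hy))).mp (H.comm_mem hx hy)
  rw [map_mul, map_mul, map_mul, map_inv, map_inv] at h1
  calc cbar c x * cbar c y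
      = (cbar c x * cbar c y * (cbar c x)⁻¹ * (cbar c y)⁻¹) * (cbar c y * cbar c x) := by group
    _ = cbar c y * cbar c x := by rw [h1, one_mul]

theorem cbar_sq {t : Γ} (ht : t ∈ T) : cbar c t * cbar c t = 1 := by
  have h1 := (H.mem_ZZ_iff_cbar (T.pow_mem ht 2)).mp (H.min.sq_mem_ZZ t ht)
  rwa [pow_two, map_mul] at h1

omit H in
/-- conjugates of elements of `T` by elements of `B` -/
theorem conj_mem_T (hmin : MinHyp B T) {b t : Γ} (hb : b ∈ B) (ht : t ∈ T) : b * t * b⁻¹ ∈ T :=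
  (Subgroup.mem_normalizer_iff.mp (hmin.hBT hb) t).mp ht

omit H in
theorem conj_mem_T' (hmin : MinHyp B T) {b t : Γ} (hb : b ∈ B) (ht : t ∈ T) : b⁻¹ * t * b ∈ T := by
  have := conj_mem_T hmin (B.inv_mem hb) ht
  rwa [inv_inv] at this

/-- `D = C_B(T / Z)` -/
def DD (c : Γ →* MulAut M) (B T : Subgroup Γ) : Subgroup Γ :=
  B ⊓ (Subgroup.centralizer ((T.map (cbar c) : Subgroup _) : Set _)).comap (cbar c)

omit H in
theorem mem_DD_iff {b : Γ} :
    b ∈ DD c B T ↔ b ∈ B ∧ ∀ t ∈ T, cbar c t * cbar c b = cbar c b * cbar c t := by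
  unfold DD
  rw [Subgroup.mem_inf, Subgroup.mem_comap, Subgroup.mem_centralizer_iff]
  constructor
  · rintro ⟨h1, h2⟩
    exact ⟨h1, fun t ht => h2 _ ⟨t, ht, rfl⟩⟩
  · rintro ⟨h1, h2⟩
    refine ⟨h1, ?_⟩
    rintro _ ⟨t, ht, rfl⟩
    exact h2 t ht

theorem mem_DD {b : Γ} (hb : b ∈ B) :
    b ∈ DD c B T ↔ ∀ t ∈ T, b * t * b⁻¹ * t⁻¹ ∈ ZZ B T := by
  rw [mem_DD_iff]
  constructor
  · rintro ⟨-, h2⟩ t ht
    rw [H.mem_ZZ_iff_cbar (T.mul_mem (conj_mem_T H.min hb ht) (T.inv_mem ht))]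
    rw [map_mul, map_mul, map_mul, map_inv, map_inv, ← h2 t ht]
    group
  · intro h
    refine ⟨hb, fun t ht => ?_⟩
    have h1 := (H.mem_ZZ_iff_cbar (T.mul_mem (conj_mem_T H.min hb ht) (T.inv_mem ht))).mp (h t ht)
    rw [map_mul, map_mul, map_mul, map_inv, map_inv] at h1
    calc cbar c t * cbar c b
        = (cbar c b * cbar c t * (cbar c b)⁻¹ * (cbar c t)⁻¹)⁻¹ * (cbar c b * cbar c t) := by group
      _ = cbar c b * cbar c t := by rw [h1, inv_one, one_mul]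

omit H in
theorem DD_le : DD c B T ≤ B := inf_le_left

theorem DD_normal {b d : Γ} (hb : b ∈ B) (hd : d ∈ DD c B T) : b * d * b⁻¹ ∈ DD c B T := by
  rw [mem_DD_iff] at hd ⊢
  refine ⟨B.mul_mem (B.mul_mem hb hd.1) (B.inv_mem hb), fun t ht => ?_⟩
  have h1 := hd.2 _ (conj_mem_T' H.min hb ht)
  rw [map_mul, map_mul, map_inv] at h1
  rw [map_mul, map_mul, map_inv]
  calc cbar c t * (cbar c b * cbar c d * (cbar c b)⁻¹)
      = cbar c b * ((cbar c b)⁻¹ * cbar c t * cbar c b * cbar c d) * (cbar c b)⁻¹ := by group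
    _ = cbar c b * (cbar c d * ((cbar c b)⁻¹ * cbar c t * cbar c b)) * (cbar c b)⁻¹ := by rw [h1]
    _ = cbar c b * cbar c d * (cbar c b)⁻¹ * cbar c t := by group

theorem A_not_le_DD : ¬ ⁅B, B⁆ ≤ DD c B T := by
  intro hle
  apply H.contra1
  intro a ha
  exact (H.mem_DD (comm_le B ha)).mp (hle ha)

/-- an element of `A` outside `D`, central modulo `D` -/
theorem exists_a : ∃ a ∈ ⁅B, B⁆, a ∉ DD c B T ∧ ∀ b ∈ B, a⁻¹ * b⁻¹ * a * b ∈ DD c B T := by
  haveI : Fact (Nat.Prime 3) := ⟨Nat.prime_three⟩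
  have hDn : ((DD c B T).subgroupOf B).Normal := by
    constructor
    intro n hn g
    rw [Subgroup.mem_subgroupOf] at hn ⊢
    exact H.DD_normal g.2 hn
  have hQ : IsPGroup 3 (↥B ⧸ (DD c B T).subgroupOf B) := H.min.hB.to_quotient _
  obtain ⟨Nn, hNn⟩ : ∃ Nn : Subgroup (↥B ⧸ (DD c B T).subgroupOf B),
      Nn = (_root_.commutator ↥B).map (QuotientGroup.mk' _) := ⟨_, rfl⟩
  haveI hNnn : Nn.Normal := by
    rw [hNn]
    exact Subgroup.Normal.map inferInstance _ (QuotientGroup.mk'_surjective _)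
  have hmemA : ∀ x : ↥B, x ∈ _root_.commutator ↥B → (x : Γ) ∈ ⁅B, B⁆ := by
    intro x hx
    rw [← Subgroup.map_subtype_commutator]
    exact ⟨x, hx, rfl⟩
  have hNne : Nn ≠ ⊥ := by
    intro hbot
    apply H.A_not_le_DD
    intro a ha
    rw [← Subgroup.map_subtype_commutator] at ha
    obtain ⟨x, hx, rfl⟩ := ha
    have h1 : QuotientGroup.mk' ((DD c B T).subgroupOf B) x ∈ Nn := by
      rw [hNn]; exact ⟨x, hx, rfl⟩
    rw [hbot, Subgroup.mem_bot, QuotientGroup.mk'_apply, QuotientGroup.eq_one_iff,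
      Subgroup.mem_subgroupOf] at h1
    exact h1
  have hne := Cfsg.Agent.Lib.Helper32_PGroup.normal_inf_center_ne_bot hQ Nn hNne
  obtain ⟨y, hymem, hy1⟩ : ∃ y ∈ Nn ⊓ Subgroup.center (↥B ⧸ (DD c B T).subgroupOf B), y ≠ 1 := by
    obtain ⟨y, hy1⟩ := (Subgroup.ne_bot_iff_exists_ne_one).mp hne
    exact ⟨y.1, y.2, fun h => hy1 (Subtype.ext h)⟩
  obtain ⟨hyN, hyC⟩ := Subgroup.mem_inf.mp hymem
  rw [hNn] at hyN
  obtain ⟨x, hx, hxy⟩ := hyN
  refine ⟨(x : Γ), hmemA x hx, ?_, ?_⟩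
  · intro hxD
    apply hy1
    rw [← hxy, QuotientGroup.mk'_apply, QuotientGroup.eq_one_iff,
      Subgroup.mem_subgroupOf]
    exact hxD
  · intro b hb
    rw [Subgroup.mem_center_iff] at hyC
    have h1 := hyC (QuotientGroup.mk' _ ⟨b, hb⟩)
    rw [← hxy, ← map_mul, ← map_mul] at h1
    have h2 : (QuotientGroup.mk' ((DD c B T).subgroupOf B)) (x⁻¹ * ⟨b, hb⟩⁻¹ * x * ⟨b, hb⟩) = 1 := by
      rw [map_mul, map_mul, map_mul, map_inv, map_inv]
      rw [map_mul, map_mul] at h1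
      calc _ = ((QuotientGroup.mk' ((DD c B T).subgroupOf B)) x)⁻¹ *
            ((QuotientGroup.mk' ((DD c B T).subgroupOf B)) ⟨b, hb⟩)⁻¹ *
            ((QuotientGroup.mk' ((DD c B T).subgroupOf B)) x *
            (QuotientGroup.mk' ((DD c B T).subgroupOf B)) ⟨b, hb⟩) := by group
        _ = 1 := by rw [← h1]; group
    rw [QuotientGroup.mk'_apply, QuotientGroup.eq_one_iff, Subgroup.mem_subgroupOf] at h2
    exact h2

/-- `a` acts fixed point freely on `T / Z` -/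
theorem fpf {a : Γ} (ha : a ∈ ⁅B, B⁆) (haD : a ∉ DD c B T)
    (hac : ∀ b ∈ B, a⁻¹ * b⁻¹ * a * b ∈ DD c B T) {t : Γ} (ht : t ∈ T)
    (hcomm : cbar c a * cbar c t = cbar c t * cbar c a) : t ∈ ZZ B T := by
  obtain ⟨Ta, hTa⟩ : ∃ Ta : Subgroup Γ, Ta = T ⊓
      (Subgroup.centralizer ({cbar c a} : Set (MulAut M ⧸ (Sgn : Subgroup (MulAut M))))).comap
        (cbar c) := ⟨_, rfl⟩
  have hmem : ∀ x : Γ, x ∈ Ta ↔ x ∈ T ∧ cbar c a * cbar c x = cbar c x * cbar c a := by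
    intro x
    rw [hTa, Subgroup.mem_inf, Subgroup.mem_comap, Subgroup.mem_centralizer_iff]
    simp only [Set.mem_singleton_iff, forall_eq]
  have hTaT : Ta ≤ T := fun x hx => ((hmem x).mp hx).1
  have hBTa : B ≤ Subgroup.normalizer (Ta : Set Γ) := by
    apply le_normalizer_of_conj_mem
    intro b hb x hx
    obtain ⟨hxT, hxc⟩ := (hmem x).mp hx
    rw [hmem]
    refine ⟨conj_mem_T H.min hb hxT, ?_⟩
    have hd := (mem_DD_iff.mp (hac b hb)).2 x hxT
    rw [map_mul, map_mul, map_mul, map_inv, map_inv] at hd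
    rw [map_mul, map_mul, map_inv]
    -- `β⁻¹ ᾱ β = ᾱ δ`
    have e1 : (cbar c b)⁻¹ * cbar c a * cbar c b =
        cbar c a * ((cbar c a)⁻¹ * (cbar c b)⁻¹ * cbar c a * cbar c b) := by group
    have e2 : ((cbar c b)⁻¹ * cbar c a * cbar c b) * cbar c x =
        cbar c x * ((cbar c b)⁻¹ * cbar c a * cbar c b) := by
      rw [e1, mul_assoc, ← hd, ← mul_assoc, hxc, mul_assoc]
    calc cbar c a * (cbar c b * cbar c x * (cbar c b)⁻¹)
        = cbar c b * (((cbar c b)⁻¹ * cbar c a * cbar c b) * cbar c x) * (cbar c b)⁻¹ := by group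
      _ = cbar c b * (cbar c x * ((cbar c b)⁻¹ * cbar c a * cbar c b)) * (cbar c b)⁻¹ := by rw [e2]
      _ = cbar c b * cbar c x * (cbar c b)⁻¹ * cbar c a := by group
  have hne : Ta ≠ T := by
    intro he
    apply haD
    rw [mem_DD_iff]
    refine ⟨comm_le B ha, fun x hx => ?_⟩
    have : x ∈ Ta := by rw [he]; exact hx
    exact ((hmem x).mp this).2.symm
  exact H.min.le_ZZ Ta hTaT hBTa hne ((hmem t).mpr ⟨ht, hcomm⟩)

theorem alpha_cube {a : Γ} (ha : a ∈ ⁅B, B⁆) : c a * c a * c a = 1 := by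
  have h1 : c (a ^ 3) = 1 := by
    ext n
    rw [(H.hquad a ha).pow_apply, H.hM, one_mul]
    rfl
  rw [← h1, map_pow, pow_succ, pow_two]

theorem cbar_cube {a : Γ} (ha : a ∈ ⁅B, B⁆) : cbar c a * cbar c a * cbar c a = 1 := by
  unfold cbar
  simp only [MonoidHom.comp_apply]
  rw [← map_mul, ← map_mul, H.alpha_cube ha, map_one]

omit H in
theorem A_conj_mem_T (hmin : MinHyp B T) {a t : Γ} (ha : a ∈ ⁅B, B⁆) (ht : t ∈ T) :
    a * t * a⁻¹ ∈ T := conj_mem_T hmin (comm_le B ha) ht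

/-- `t · t^a · t^{a²} ∈ Z` -/
theorem rel3 {a : Γ} (ha : a ∈ ⁅B, B⁆) (haD : a ∉ DD c B T)
    (hac : ∀ b ∈ B, a⁻¹ * b⁻¹ * a * b ∈ DD c B T) {t : Γ} (ht : t ∈ T) :
    t * (a * t * a⁻¹) * (a * (a * t * a⁻¹) * a⁻¹) ∈ ZZ B T := by
  have ht1 : a * t * a⁻¹ ∈ T := A_conj_mem_T H.min ha ht
  have ht2 : a * (a * t * a⁻¹) * a⁻¹ ∈ T := A_conj_mem_T H.min ha ht1
  have hw : t * (a * t * a⁻¹) * (a * (a * t * a⁻¹) * a⁻¹) ∈ T := T.mul_mem (T.mul_mem ht ht1) ht2
  apply H.fpf ha haD hac hw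
  have h3 : cbar c (a * (a * (a * t * a⁻¹) * a⁻¹) * a⁻¹) = cbar c t := by
    have e : a * (a * (a * t * a⁻¹) * a⁻¹) * a⁻¹ = (a * a * a) * t * (a * a * a)⁻¹ := by group
    rw [e, map_mul, map_mul, map_inv, map_mul, map_mul, H.cbar_cube ha]
    group
  have e1 : cbar c a * cbar c (t * (a * t * a⁻¹) * (a * (a * t * a⁻¹) * a⁻¹)) =
      cbar c ((a * t * a⁻¹) * (a * (a * t * a⁻¹) * a⁻¹) * (a * (a * (a * t * a⁻¹) * a⁻¹) * a⁻¹)) *
        cbar c a := by
    rw [← map_mul, ← map_mul]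
    congr 1
    group
  rw [e1]
  congr 1
  have e2 : cbar c ((a * t * a⁻¹) * (a * (a * t * a⁻¹) * a⁻¹) *
      (a * (a * (a * t * a⁻¹) * a⁻¹) * a⁻¹)) =
      cbar c ((a * t * a⁻¹) * (a * (a * t * a⁻¹) * a⁻¹)) * cbar c t := by
    rw [map_mul _ ((a * t * a⁻¹) * (a * (a * t * a⁻¹) * a⁻¹)), h3]
  have e3 : cbar c (t * (a * t * a⁻¹) * (a * (a * t * a⁻¹) * a⁻¹)) =
      cbar c t * cbar c ((a * t * a⁻¹) * (a * (a * t * a⁻¹) * a⁻¹)) := by
    rw [mul_assoc, map_mul]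
  rw [e2, e3, H.cbar_comm (T.mul_mem ht1 ht2) ht]

/-- anisotropy: `u` and `u^a` anticommute on `M` -/
theorem Qa {a : Γ} (ha : a ∈ ⁅B, B⁆) (haD : a ∉ DD c B T)
    (hac : ∀ b ∈ B, a⁻¹ * b⁻¹ * a * b ∈ DD c B T) {u : Γ} (hu : u ∈ T) (huZ : u ∉ ZZ B T) :
    ¬ Commute (c u) (c (a * u * a⁻¹)) := by
  intro hcomm
  have hu1 : a * u * a⁻¹ ∈ T := A_conj_mem_T H.min ha hu
  have hu2 : a * (a * u * a⁻¹) * a⁻¹ ∈ T := A_conj_mem_T H.min ha hu1
  obtain ⟨EE, hEE⟩ : ∃ EE : Subgroup (MulAut M),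
      EE = Subgroup.closure ({c u, c (a * u * a⁻¹), iota} : Set (MulAut M)) := ⟨_, rfl⟩
  have hXE : c u ∈ EE := by rw [hEE]; exact Subgroup.subset_closure (by simp)
  have hX1E : c (a * u * a⁻¹) ∈ EE := by rw [hEE]; exact Subgroup.subset_closure (by simp)
  have hιE : (iota : MulAut M) ∈ EE := by rw [hEE]; exact Subgroup.subset_closure (by simp)
  have hEEc : ∀ g ∈ EE, ∀ h ∈ EE, g * h = h * g := by
    have hc : IsMulCommutative ↥(Subgroup.closure ({c u, c (a * u * a⁻¹), iota} : Set (MulAut M))) := by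
      apply Subgroup.isMulCommutative_closure
      intro x hx y hy
      simp only [Set.mem_insert_iff, Set.mem_singleton_iff] at hx hy
      rcases hx with rfl | rfl | rfl <;> rcases hy with rfl | rfl | rfl
      · rfl
      · exact hcomm.eq
      · exact iota_comm _
      · exact hcomm.eq.symm
      · rfl
      · exact iota_comm _
      · exact (iota_comm _).symm
      · exact (iota_comm _).symm
      · rfl
    intro g hg h hh
    rw [hEE] at hg hh
    have := hc.is_comm.comm (⟨g, hg⟩ : ↥(Subgroup.closure _)) ⟨h, hh⟩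
    exact congrArg Subtype.val this
  -- `X₂ ∈ EE`
  have hX2E : c (a * (a * u * a⁻¹) * a⁻¹) ∈ EE := by
    have h1 := H.hZ _ (H.rel3 ha haD hac hu)
    rw [map_mul, map_mul] at h1
    have e : c (a * (a * u * a⁻¹) * a⁻¹) = (c (a * u * a⁻¹))⁻¹ * (c u)⁻¹ *
        (c u * c (a * u * a⁻¹) * c (a * (a * u * a⁻¹) * a⁻¹)) := by group
    rw [e]
    apply EE.mul_mem (EE.mul_mem (EE.inv_mem hX1E) (EE.inv_mem hXE))
    rcases h1 with h1 | h1
    · rw [h1]; exact EE.one_mem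
    · rw [h1]; exact hιE
  have hinv : ∀ g ∈ EE, c a * g * (c a)⁻¹ ∈ EE := by
    intro g hg
    rw [hEE] at hg
    induction hg using Subgroup.closure_induction with
    | mem x hx =>
      simp only [Set.mem_insert_iff, Set.mem_singleton_iff] at hx
      rcases hx with rfl | rfl | rfl
      · rw [← map_inv, ← map_mul, ← map_mul]; exact hX1E
      · rw [← map_inv, ← map_mul, ← map_mul]; exact hX2E
      · rw [iota_comm (c a), mul_assoc, mul_inv_cancel, mul_one]; exact hιE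
    | one => rw [mul_one, mul_inv_cancel]; exact EE.one_mem
    | mul x y _ _ hx hy =>
      have e : c a * (x * y) * (c a)⁻¹ = (c a * x * (c a)⁻¹) * (c a * y * (c a)⁻¹) := by group
      rw [e]; exact EE.mul_mem hx hy
    | inv x _ hx =>
      have e : c a * x⁻¹ * (c a)⁻¹ = (c a * x * (c a)⁻¹)⁻¹ := by group
      rw [e]; exact EE.inv_mem hx
  have hinv' : ∀ g ∈ EE, (c a)⁻¹ * g * c a ∈ EE := by
    intro g hg
    have h1 := hinv _ (hinv g hg)
    have hcube := H.alpha_cube ha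
    have e : (c a)⁻¹ * g * c a = c a * (c a * g * (c a)⁻¹) * (c a)⁻¹ := by
      have e1 : (c a)⁻¹ = c a * c a := by
        rw [inv_eq_iff_mul_eq_one, ← mul_assoc]; exact hcube
      have e2 : c a = (c a)⁻¹ * (c a)⁻¹ := by
        rw [e1]
        have : (c a * c a) * (c a * c a) = (c a * c a * c a) * c a := by group
        rw [this, hcube, one_mul]
      calc (c a)⁻¹ * g * c a = (c a * c a) * g * ((c a)⁻¹ * (c a)⁻¹) := by rw [← e2, ← e1]
        _ = c a * (c a * g * (c a)⁻¹) * (c a)⁻¹ := by group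
    rw [e]; exact h1
  obtain ⟨E, hE⟩ : ∃ E : Subgroup Γ, E = T ⊓ EE.comap c := ⟨_, rfl⟩
  have hmemE : ∀ x, x ∈ E ↔ x ∈ T ∧ c x ∈ EE := by
    intro x; rw [hE, Subgroup.mem_inf, Subgroup.mem_comap]
  have hET : E ≤ T := fun x hx => ((hmemE x).mp hx).1
  have hEa : a ∈ Subgroup.normalizer (E : Set Γ) := by
    rw [Subgroup.mem_normalizer_iff]
    intro x
    rw [hmemE, hmemE]
    constructor
    · rintro ⟨h1, h2⟩
      refine ⟨A_conj_mem_T H.min ha h1, ?_⟩
      rw [map_mul, map_mul, map_inv]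
      exact hinv _ h2
    · rintro ⟨h1, h2⟩
      constructor
      · have := conj_mem_T' H.min (comm_le B ha) h1
        have e : a⁻¹ * (a * x * a⁻¹) * a = x := by group
        rwa [e] at this
      · have := hinv' _ h2
        rw [map_mul, map_mul, map_inv] at this
        have e : (c a)⁻¹ * (c a * c x * (c a)⁻¹) * c a = c x := by group
        rwa [e] at this
  have hEc : ∀ e₁ ∈ E, ∀ e₂ ∈ E, c (e₁ * e₂) = c (e₂ * e₁) := by
    intro e₁ he₁ e₂ he₂
    rw [map_mul, map_mul]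
    exact hEEc _ ((hmemE e₁).mp he₁).2 _ ((hmemE e₂).mp he₂).2
  have huE : u ∈ E := (hmemE u).mpr ⟨hu, hXE⟩
  have h1 := H.key ha E hET hEa hEc u huE
  apply huZ
  apply H.fpf ha haD hac hu
  have h2 := (H.mem_ZZ_iff_cbar (T.mul_mem hu1 (T.inv_mem hu))).mp h1
  rw [map_mul, map_mul, map_mul, map_inv, map_inv] at h2
  calc cbar c a * cbar c u
      = (cbar c a * cbar c u * (cbar c a)⁻¹ * (cbar c u)⁻¹) * (cbar c u * cbar c a) := by group
    _ = cbar c u * cbar c a := by rw [h2, one_mul]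

theorem comm_or_anti {x y : Γ} (hx : x ∈ T) (hy : y ∈ T) :
    Commute (c x) (c y) ∨ Anti (c x) (c y) := H.sgn hx hy

theorem anti_base {a : Γ} (ha : a ∈ ⁅B, B⁆) (haD : a ∉ DD c B T)
    (hac : ∀ b ∈ B, a⁻¹ * b⁻¹ * a * b ∈ DD c B T) {u : Γ} (hu : u ∈ T) (huZ : u ∉ ZZ B T) :
    Anti (c u) (c (a * u * a⁻¹)) :=
  (H.comm_or_anti hu (A_conj_mem_T H.min ha hu)).resolve_left (H.Qa ha haD hac hu huZ)

/-- the orthogonal complement of `⟨t, t^a⟩` is trivial -/
theorem perp {a : Γ} (ha : a ∈ ⁅B, B⁆) (haD : a ∉ DD c B T)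
    (hac : ∀ b ∈ B, a⁻¹ * b⁻¹ * a * b ∈ DD c B T) {t : Γ} (ht : t ∈ T) (htZ : t ∉ ZZ B T)
    {t' : Γ} (ht' : t' ∈ T) (h1 : Commute (c t') (c t)) (h2 : Commute (c t') (c (a * t * a⁻¹))) :
    t' ∈ ZZ B T := by
  by_contra ht'Z
  have ht1 : a * t * a⁻¹ ∈ T := A_conj_mem_T H.min ha ht
  have ht2 : a * (a * t * a⁻¹) * a⁻¹ ∈ T := A_conj_mem_T H.min ha ht1
  have ht'1 : a * t' * a⁻¹ ∈ T := A_conj_mem_T H.min ha ht'
  have hA1 : Anti (c t) (c (a * t * a⁻¹)) := H.anti_base ha haD hac ht htZ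
  have hA2 : Anti (c t') (c (a * t' * a⁻¹)) := H.anti_base ha haD hac ht' ht'Z
  -- `Y` commutes with `X₂`
  have hYX2 : Commute (c t') (c (a * (a * t * a⁻¹) * a⁻¹)) := by
    have h3 := H.hZ _ (H.rel3 ha haD hac ht)
    rw [map_mul, map_mul] at h3
    have e : c (a * (a * t * a⁻¹) * a⁻¹) = (c (a * t * a⁻¹))⁻¹ * (c t)⁻¹ *
        (c t * c (a * t * a⁻¹) * c (a * (a * t * a⁻¹) * a⁻¹)) := by group
    rw [e]
    apply Commute.mul_right (Commute.mul_right h2.inv_right h1.inv_right)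
    rcases h3 with h3 | h3
    · rw [h3]; exact Commute.one_right _
    · rw [h3]; exact commute_iota _
  -- `X` commutes with `Y₁`
  have hXY1 : Commute (c t) (c (a * t' * a⁻¹)) := by
    have hcube := H.alpha_cube ha
    have e1 : c t = c a * c (a * (a * t * a⁻¹) * a⁻¹) * (c a)⁻¹ := by
      have e : c a * c (a * (a * t * a⁻¹) * a⁻¹) * (c a)⁻¹ =
          (c a * c a * c a) * c t * (c a * c a * c a)⁻¹ := by
        simp only [map_mul, map_inv]; group
      rw [e, hcube]; group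
    have e2 : c (a * t' * a⁻¹) = c a * c t' * (c a)⁻¹ := by
      rw [map_mul, map_mul, map_inv]
    rw [e2]
    nth_rewrite 1 [e1]
    show c a * c (a * (a * t * a⁻¹) * a⁻¹) * (c a)⁻¹ * (c a * c t' * (c a)⁻¹) =
      c a * c t' * (c a)⁻¹ * (c a * c (a * (a * t * a⁻¹) * a⁻¹) * (c a)⁻¹)
    calc c a * c (a * (a * t * a⁻¹) * a⁻¹) * (c a)⁻¹ * (c a * c t' * (c a)⁻¹)
        = c a * (c (a * (a * t * a⁻¹) * a⁻¹) * c t') * (c a)⁻¹ := by group
      _ = c a * (c t' * c (a * (a * t * a⁻¹) * a⁻¹)) * (c a)⁻¹ := by rw [hYX2.eq]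
      _ = c a * c t' * (c a)⁻¹ * (c a * c (a * (a * t * a⁻¹) * a⁻¹) * (c a)⁻¹) := by group
  -- `XY` commutes with `X₁Y₁`
  have hAX : Anti (c t) (c (a * t * a⁻¹) * c (a * t' * a⁻¹)) :=
    (Anti.mul_commute hA1.symm hXY1.symm).symm
  have hAY : Anti (c t') (c (a * t * a⁻¹) * c (a * t' * a⁻¹)) :=
    (Commute.mul_anti h2.symm hA2.symm).symm
  have hC : Commute (c (t * t')) (c (a * (t * t') * a⁻¹)) := by
    have e : a * (t * t') * a⁻¹ = (a * t * a⁻¹) * (a * t' * a⁻¹) := by group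
    rw [e, map_mul, map_mul]
    exact Anti.mul_anti hAX hAY
  have huZ : t * t' ∈ ZZ B T := by
    by_contra hu
    exact H.Qa ha haD hac (T.mul_mem ht ht') hu hC
  -- then `Y = ± X⁻¹` commutes with `X₁` iff `X` does
  have h4 := H.hZ _ huZ
  rw [map_mul] at h4
  have hcX : Commute (c t) (c (a * t * a⁻¹)) := by
    have e : c t = (c t * c t') * (c t')⁻¹ := by group
    rw [e]
    apply Commute.mul_left _ h2.inv_left
    rcases h4 with h4 | h4
    · rw [h4]; exact Commute.one_left _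
    · rw [h4]; exact (commute_iota _).symm
  exact hA1.not_commute H.iota_ne hcX

/-- `T / Z` has at most four elements -/
theorem four {a : Γ} (ha : a ∈ ⁅B, B⁆) (haD : a ∉ DD c B T)
    (hac : ∀ b ∈ B, a⁻¹ * b⁻¹ * a * b ∈ DD c B T) {t : Γ} (ht : t ∈ T) (htZ : t ∉ ZZ B T)
    {v : Γ} (hv : v ∈ T) :
    cbar c v = 1 ∨ cbar c v = cbar c t ∨ cbar c v = cbar c (a * t * a⁻¹) ∨
      cbar c v = cbar c t * cbar c (a * t * a⁻¹) := by
  have ht1 : a * t * a⁻¹ ∈ T := A_conj_mem_T H.min ha ht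
  have hA1 : Anti (c t) (c (a * t * a⁻¹)) := H.anti_base ha haD hac ht htZ
  have hsq := H.cbar_sq ht
  have hsq1 := H.cbar_sq ht1
  rcases H.comm_or_anti hv ht with hC | hA <;> rcases H.comm_or_anti hv ht1 with hC' | hA'
  · left
    exact (H.mem_ZZ_iff_cbar hv).mp (H.perp ha haD hac ht htZ hv hC hC')
  · -- `v t`
    right; left
    have h1 : Commute (c (v * t)) (c t) := by
      rw [map_mul]; exact Commute.mul_left hC (Commute.refl _)
    have h2 : Commute (c (v * t)) (c (a * t * a⁻¹)) := by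
      rw [map_mul]; exact Anti.mul_anti hA' hA1
    have h3 := (H.mem_ZZ_iff_cbar (T.mul_mem hv ht)).mp
      (H.perp ha haD hac ht htZ (T.mul_mem hv ht) h1 h2)
    rw [map_mul] at h3
    calc cbar c v = (cbar c v * cbar c t) * (cbar c t)⁻¹ := by group
      _ = (cbar c t)⁻¹ := by rw [h3, one_mul]
      _ = cbar c t := by rw [inv_eq_iff_mul_eq_one]; exact hsq
  · -- `v t₁`
    right; right; left
    have h1 : Commute (c (v * (a * t * a⁻¹))) (c t) := by
      rw [map_mul]; exact Anti.mul_anti hA hA1.symm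
    have h2 : Commute (c (v * (a * t * a⁻¹))) (c (a * t * a⁻¹)) := by
      rw [map_mul]; exact Commute.mul_left hC' (Commute.refl _)
    have h3 := (H.mem_ZZ_iff_cbar (T.mul_mem hv ht1)).mp
      (H.perp ha haD hac ht htZ (T.mul_mem hv ht1) h1 h2)
    rw [map_mul] at h3
    calc cbar c v = (cbar c v * cbar c (a * t * a⁻¹)) * (cbar c (a * t * a⁻¹))⁻¹ := by group
      _ = (cbar c (a * t * a⁻¹))⁻¹ := by rw [h3, one_mul]
      _ = cbar c (a * t * a⁻¹) := by rw [inv_eq_iff_mul_eq_one]; exact hsq1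
  · -- `v t t₁`
    right; right; right
    have h1 : Commute (c (v * t * (a * t * a⁻¹))) (c t) := by
      rw [map_mul, map_mul]
      exact Anti.mul_anti (Anti.mul_commute hA (Commute.refl _)) hA1.symm
    have h2 : Commute (c (v * t * (a * t * a⁻¹))) (c (a * t * a⁻¹)) := by
      rw [map_mul, map_mul]
      exact Commute.mul_left (Anti.mul_anti hA' hA1) (Commute.refl _)
    have h3 := (H.mem_ZZ_iff_cbar (T.mul_mem (T.mul_mem hv ht) ht1)).mp
      (H.perp ha haD hac ht htZ (T.mul_mem (T.mul_mem hv ht) ht1) h1 h2)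
    rw [map_mul, map_mul] at h3
    have hinv1 : (cbar c t)⁻¹ = cbar c t := by rw [inv_eq_iff_mul_eq_one]; exact hsq
    have hinv2 : (cbar c (a * t * a⁻¹))⁻¹ = cbar c (a * t * a⁻¹) := by
      rw [inv_eq_iff_mul_eq_one]; exact hsq1
    calc cbar c v = (cbar c v * cbar c t * cbar c (a * t * a⁻¹)) *
          ((cbar c (a * t * a⁻¹))⁻¹ * (cbar c t)⁻¹) := by group
      _ = cbar c (a * t * a⁻¹) * cbar c t := by rw [h3, one_mul, hinv1, hinv2]
      _ = cbar c t * cbar c (a * t * a⁻¹) := H.cbar_comm ht1 ht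

/-- the derived group of `B` acts trivially on `T / Z` (when `|T / Z| ≤ 4`) -/
theorem comm_le_DD {a : Γ} (ha : a ∈ ⁅B, B⁆) (haD : a ∉ DD c B T)
    (hac : ∀ b ∈ B, a⁻¹ * b⁻¹ * a * b ∈ DD c B T) : ⁅B, B⁆ ≤ DD c B T := by
  classical
  haveI : Fact (Nat.Prime 3) := ⟨Nat.prime_three⟩
  haveI := finite_mulAut M
  -- an element `t ∈ T \ Z`
  obtain ⟨t, ht, htZ⟩ : ∃ t ∈ T, t ∉ ZZ B T := by
    by_contra hcon
    apply H.min.ZZ_ne
    apply le_antisymm H.ZZ_le
    intro t ht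
    by_contra htZ
    exact hcon ⟨t, ht, htZ⟩
  obtain ⟨V, hV⟩ : ∃ V : Subgroup (MulAut M ⧸ (Sgn : Subgroup (MulAut M))), V = T.map (cbar c) :=
    ⟨_, rfl⟩
  obtain ⟨P, hP⟩ : ∃ P : Subgroup (MulAut M ⧸ (Sgn : Subgroup (MulAut M))), P = B.map (cbar c) :=
    ⟨_, rfl⟩
  have hPV : P ≤ Subgroup.normalizer (V : Set (MulAut M ⧸ (Sgn : Subgroup (MulAut M)))) := by
    rw [hP, hV]
    exact (Subgroup.map_mono H.min.hBT).trans (Subgroup.le_normalizer_map _)
  -- `|V| ≤ 4`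
  have hVcard : Nat.card V ≤ 4 := by
    have hsub : (V : Set (MulAut M ⧸ (Sgn : Subgroup (MulAut M)))) ⊆
        {1, cbar c t, cbar c (a * t * a⁻¹), cbar c t * cbar c (a * t * a⁻¹)} := by
      rintro _ hv
      rw [hV] at hv
      obtain ⟨v, hv, rfl⟩ := hv
      have := H.four ha haD hac ht htZ hv
      simp only [Set.mem_insert_iff, Set.mem_singleton_iff]
      exact this
    have h1 : Nat.card V = Set.ncard (V : Set (MulAut M ⧸ (Sgn : Subgroup (MulAut M)))) :=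
      Nat.card_coe_set_eq _
    rw [h1]
    refine (Set.ncard_le_ncard hsub (Set.toFinite _)).trans ?_
    refine (Set.ncard_insert_le _ _).trans ?_
    refine Nat.succ_le_succ ((Set.ncard_insert_le _ _).trans ?_)
    refine Nat.succ_le_succ ((Set.ncard_insert_le _ _).trans ?_)
    rw [Set.ncard_singleton]
  -- the conjugation action of `P` on `V`
  obtain ⟨φ, hφ⟩ : ∃ φ : ↥P →* MulAut ↥V,
      φ = Cfsg.Agent.Lib.Helper10_QuadPair.conjAct V P hPV := ⟨_, rfl⟩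
  have hP3 : IsPGroup 3 ↥P := by rw [hP]; exact H.min.hB.map _
  have hR3 : IsPGroup 3 ↥φ.range := hP3.of_surjective φ.rangeRestrict φ.rangeRestrict_surjective
  obtain ⟨k, hk⟩ := IsPGroup.iff_card.mp hR3
  have hdvd : Nat.card ↥φ.range ∣ 24 := by
    have h1 : Nat.card ↥φ.range ∣ Nat.card (MulAut ↥V) := Subgroup.card_subgroup_dvd_card _
    have h2 : Nat.card (MulAut ↥V) ∣ Nat.card (Equiv.Perm ↥V) :=
      Subgroup.card_dvd_of_injective (MulAut.toPerm ↥V) (by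
        intro f g hfg
        apply MulEquiv.ext
        intro x
        exact congrArg (fun e : Equiv.Perm ↥V => e x) hfg)
    rw [Nat.card_perm] at h2
    have h3 : (Nat.card ↥V).factorial ∣ Nat.factorial 4 := Nat.factorial_dvd_factorial hVcard
    exact h1.trans (h2.trans h3)
  have hk1 : k ≤ 1 := by
    by_contra hk2
    have h9 : 3 ^ 2 ∣ 3 ^ k := pow_dvd_pow 3 (by omega)
    rw [← hk] at h9
    have := h9.trans hdvd
    omega
  have hcyc : IsCyclic ↥φ.range := by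
    apply isCyclic_of_card_dvd_prime (p := 3)
    rw [hk]
    calc 3 ^ k ∣ 3 ^ 1 := pow_dvd_pow 3 hk1
      _ = 3 := pow_one 3
  have hRc : ∀ x y : ↥P, φ x * φ y = φ y * φ x := by
    intro x y
    letI := IsCyclic.commGroup (α := ↥φ.range)
    have := mul_comm (⟨φ x, ⟨x, rfl⟩⟩ : ↥φ.range) ⟨φ y, ⟨y, rfl⟩⟩
    exact congrArg Subtype.val this
  rw [Subgroup.commutator_le]
  intro b₁ hb₁ b₂ hb₂
  rw [mem_DD_iff]
  refine ⟨comm_le B (Subgroup.commutator_mem_commutator hb₁ hb₂), fun x hx => ?_⟩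
  have hβ₁ : cbar c b₁ ∈ P := by rw [hP]; exact ⟨b₁, hb₁, rfl⟩
  have hβ₂ : cbar c b₂ ∈ P := by rw [hP]; exact ⟨b₂, hb₂, rfl⟩
  have hxV : cbar c x ∈ V := by rw [hV]; exact ⟨x, hx, rfl⟩
  have h1 : φ (⟨cbar c b₁, hβ₁⟩ * ⟨cbar c b₂, hβ₂⟩ * ⟨cbar c b₁, hβ₁⟩⁻¹ * ⟨cbar c b₂, hβ₂⟩⁻¹) = 1 := by
    rw [map_mul, map_mul, map_mul, map_inv, map_inv, hRc ⟨cbar c b₁, hβ₁⟩ ⟨cbar c b₂, hβ₂⟩]
    group
  have h2 := congrArg (fun e : MulAut ↥V => ((e ⟨cbar c x, hxV⟩ : ↥V) :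
    MulAut M ⧸ (Sgn : Subgroup (MulAut M)))) h1
  simp only [hφ, Cfsg.Agent.Lib.Helper10_QuadPair.conjAct_apply, MulAut.one_apply] at h2
  rw [commutatorElement_def, map_mul, map_mul, map_mul, map_inv, map_inv]
  simp only [Subgroup.coe_mul, Subgroup.coe_inv] at h2
  calc cbar c x * (cbar c b₁ * cbar c b₂ * (cbar c b₁)⁻¹ * (cbar c b₂)⁻¹)
      = ((cbar c b₁ * cbar c b₂ * (cbar c b₁)⁻¹ * (cbar c b₂)⁻¹) * cbar c x *
          (cbar c b₁ * cbar c b₂ * (cbar c b₁)⁻¹ * (cbar c b₂)⁻¹)⁻¹)⁻¹⁻¹ *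
          (cbar c b₁ * cbar c b₂ * (cbar c b₁)⁻¹ * (cbar c b₂)⁻¹) := by
        rw [h2]; group
    _ = cbar c b₁ * cbar c b₂ * (cbar c b₁)⁻¹ * (cbar c b₂)⁻¹ * cbar c x := by group

/-- **The core lemma**: the configuration is impossible. -/
theorem false : False := by
  obtain ⟨a, ha, haD, hac⟩ := H.exists_a
  exact haD (H.comm_le_DD ha haD hac ha)

end CoreHyp

end Cfsg.Agent.Lib.Helper34_HHCore
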