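/-
Helper library (helper34): simultaneous sign decomposition of a finite commutative group `N` of
exponent `3` under a family `σ i` of commuting involutory automorphisms:
`eig σ ε = {n | ∀ i, σ i n = n⁻¹ (if ε i) / n (otherwise)}`.

* `iSup_eig_eq_top` : the subgroups `eig σ ε` generate `N`;
* `eig_indep3` : a product `w₀ * w₁ * w₂ = 1` of members of three distinct `eig σ ε_k` has `w₀ = 1`.
-/
import Mathlib

set_option autoImplicit false

namespace Cfsg.Agent.Lib.Helper34_SignDecomp

variable {N : Type*} [CommGroup N] {ι : Type*}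

/-- the simultaneous sign-eigen-subgroup -/
def eig (σ : ι → MulAut N) (ε : ι → Bool) : Subgroup N where
  carrier := {n | ∀ i, (ε i = true → σ i n = n⁻¹) ∧ (ε i = false → σ i n = n)}
  one_mem' := by
    intro i
    constructor <;> intro _ <;> simp
  mul_mem' := by
    intro x y hx hy i
    constructor
    · intro h
      rw [map_mul, (hx i).1 h, (hy i).1 h, mul_inv]
    · intro h
      rw [map_mul, (hx i).2 h, (hy i).2 h]
  inv_mem' := by
    intro x hx i
    constructor
    · intro h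
      rw [map_inv, (hx i).1 h]
    · intro h
      rw [map_inv, (hx i).2 h]

theorem mem_eig {σ : ι → MulAut N} {ε : ι → Bool} {n : N} :
    n ∈ eig σ ε ↔ ∀ i, (ε i = true → σ i n = n⁻¹) ∧ (ε i = false → σ i n = n) := Iff.rfl

theorem eig_apply_of_true {σ : ι → MulAut N} {ε : ι → Bool} {n : N} (hn : n ∈ eig σ ε) {i : ι}
    (h : ε i = true) : σ i n = n⁻¹ := (hn i).1 h

theorem eig_apply_of_false {σ : ι → MulAut N} {ε : ι → Bool} {n : N} (hn : n ∈ eig σ ε) {i : ι}
    (h : ε i = false) : σ i n = n := (hn i).2 h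

/-- the two projections attached to one involution -/
def proj (σ : ι → MulAut N) (i : ι) : Bool → N → N
  | true, n => (n * (σ i n)⁻¹) ^ 2
  | false, n => (n * σ i n) ^ 2

theorem proj_mul (σ : ι → MulAut N) (i : ι) (s : Bool) (x y : N) :
    proj σ i s (x * y) = proj σ i s x * proj σ i s y := by
  cases s
  · show (x * y * σ i (x * y)) ^ 2 = (x * σ i x) ^ 2 * (y * σ i y) ^ 2
    rw [map_mul, ← mul_pow]
    congr 1
    rw [mul_mul_mul_comm]
  · show (x * y * (σ i (x * y))⁻¹) ^ 2 = (x * (σ i x)⁻¹) ^ 2 * (y * (σ i y)⁻¹) ^ 2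
    rw [map_mul, mul_inv, ← mul_pow]
    congr 1
    rw [mul_mul_mul_comm]

theorem proj_one (σ : ι → MulAut N) (i : ι) (s : Bool) : proj σ i s (1 : N) = 1 := by
  cases s
  · show ((1 : N) * σ i 1) ^ 2 = 1
    simp
  · show ((1 : N) * (σ i 1)⁻¹) ^ 2 = 1
    simp

theorem pow_four_eq (hN : ∀ n : N, n ^ 3 = 1) (n : N) : n ^ 4 = n := by
  rw [show 4 = 3 + 1 from rfl, pow_add, hN, one_mul, pow_one]

/-- on `eig σ ε` the projection with the right sign is the identity -/
theorem proj_eq_self (hN : ∀ n : N, n ^ 3 = 1) {σ : ι → MulAut N} {ε : ι → Bool} {n : N}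
    (hn : n ∈ eig σ ε) (i : ι) : proj σ i (ε i) n = n := by
  cases h : ε i
  · have h1 := eig_apply_of_false hn h
    show (n * σ i n) ^ 2 = n
    rw [h1, ← pow_two, ← pow_mul]
    exact pow_four_eq hN n
  · have h1 := eig_apply_of_true hn h
    show (n * (σ i n)⁻¹) ^ 2 = n
    rw [h1, inv_inv, ← pow_two, ← pow_mul]
    exact pow_four_eq hN n

/-- on `eig σ ε` the projection with the wrong sign is trivial -/
theorem proj_eq_one {σ : ι → MulAut N} {ε : ι → Bool} {n : N}
    (hn : n ∈ eig σ ε) (i : ι) (s : Bool) (hs : s ≠ ε i) : proj σ i s n = 1 := by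
  cases h : ε i
  · have h1 := eig_apply_of_false hn h
    have hs' : s = true := by
      cases s
      · exact absurd h.symm hs
      · rfl
    subst hs'
    show (n * (σ i n)⁻¹) ^ 2 = 1
    rw [h1, mul_inv_cancel, one_pow]
  · have h1 := eig_apply_of_true hn h
    have hs' : s = false := by
      cases s
      · rfl
      · exact absurd h.symm hs
    subst hs'
    show (n * σ i n) ^ 2 = 1
    rw [h1, mul_inv_cancel, one_pow]

/-- independence of three distinct sign-eigen-subgroups -/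
theorem eig_indep3 (hN : ∀ n : N, n ^ 3 = 1) {σ : ι → MulAut N} {ε₀ ε₁ ε₂ : ι → Bool}
    (h01 : ε₀ ≠ ε₁) (h02 : ε₀ ≠ ε₂) {w₀ w₁ w₂ : N} (h0 : w₀ ∈ eig σ ε₀) (h1 : w₁ ∈ eig σ ε₁)
    (h2 : w₂ ∈ eig σ ε₂) (h : w₀ * w₁ * w₂ = 1) : w₀ = 1 := by
  obtain ⟨i₁, hi₁⟩ := Function.ne_iff.mp h01
  obtain ⟨i₂, hi₂⟩ := Function.ne_iff.mp h02
  have e0 : proj σ i₁ (ε₀ i₁) (proj σ i₂ (ε₀ i₂) w₀) = w₀ := by
    rw [proj_eq_self hN h0, proj_eq_self hN h0]
  have e2 : proj σ i₁ (ε₀ i₁) (proj σ i₂ (ε₀ i₂) w₂) = 1 := by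
    rw [proj_eq_one h2 i₂ _ hi₂, proj_one]
  have e1 : proj σ i₁ (ε₀ i₁) (proj σ i₂ (ε₀ i₂) w₁) = 1 := by
    by_cases hc : ε₀ i₂ = ε₁ i₂
    · rw [hc, proj_eq_self hN h1, proj_eq_one h1 i₁ _ hi₁]
    · rw [proj_eq_one h1 i₂ _ hc, proj_one]
  have key := congrArg (fun x => proj σ i₁ (ε₀ i₁) (proj σ i₂ (ε₀ i₂) x)) h
  simp only [proj_mul, proj_one] at key
  rw [e0, e1, e2, mul_one, mul_one] at key
  exact key

section span

/-- elements fixed or inverted by each `σ i`, `i ∈ s` -/
def signSet (σ : ι → MulAut N) (s : Set ι) : Set N :=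
  {m | ∀ i ∈ s, σ i m = m ∨ σ i m = m⁻¹}

theorem closure_signSet_eq_top (hN : ∀ n : N, n ^ 3 = 1) (σ : ι → MulAut N)
    (hcomm : ∀ i j n, σ i (σ j n) = σ j (σ i n)) (hinv : ∀ i n, σ i (σ i n) = n)
    (s : Finset ι) : Subgroup.closure (signSet σ (s : Set ι)) = ⊤ := by
  classical
  induction s using Finset.induction_on with
  | empty =>
    rw [eq_top_iff]
    intro n _
    apply Subgroup.subset_closure
    intro i hi
    simp at hi
  | insert i s _ ih =>
    rw [eq_top_iff, ← ih, Subgroup.closure_le]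
    intro m hm
    have hdec : m = (m * σ i m) ^ 2 * (m * (σ i m)⁻¹) ^ 2 := by
      rw [← mul_pow, mul_mul_mul_comm, mul_inv_cancel, mul_one, ← pow_two, ← pow_mul]
      exact (pow_four_eq hN m).symm
    rw [hdec]
    apply Subgroup.mul_mem
    · apply Subgroup.subset_closure
      intro j hj
      rw [Finset.coe_insert, Set.mem_insert_iff] at hj
      rcases hj with rfl | hj
      · left
        rw [map_pow, map_mul, hinv, mul_comm]
      · rcases hm j hj with h1 | h1
        · left
          rw [map_pow, map_mul, hcomm, h1]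
        · right
          rw [map_pow, map_mul, hcomm, h1, map_inv, ← mul_inv, inv_pow]
    · apply Subgroup.subset_closure
      intro j hj
      rw [Finset.coe_insert, Set.mem_insert_iff] at hj
      rcases hj with rfl | hj
      · right
        rw [map_pow, map_mul, map_inv, hinv, ← inv_pow, mul_inv, inv_inv, mul_comm]
      · rcases hm j hj with h1 | h1
        · left
          rw [map_pow, map_mul, map_inv, hcomm, h1]
        · right
          rw [map_pow, map_mul, map_inv, hcomm, h1, map_inv, ← mul_inv, inv_pow]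

/-- the sign-eigen-subgroups generate `N` -/
theorem iSup_eig_eq_top [Finite ι] (hN : ∀ n : N, n ^ 3 = 1) (σ : ι → MulAut N)
    (hcomm : ∀ i j n, σ i (σ j n) = σ j (σ i n)) (hinv : ∀ i n, σ i (σ i n) = n) :
    ⨆ ε, eig σ ε = ⊤ := by
  classical
  have : Fintype ι := Fintype.ofFinite ι
  rw [eq_top_iff, ← closure_signSet_eq_top hN σ hcomm hinv (Finset.univ : Finset ι),
    Subgroup.closure_le]
  intro m hm
  have hm' : ∀ i, σ i m = m ∨ σ i m = m⁻¹ := fun i => hm i (by simp)
  have hmem : m ∈ eig σ (fun i => decide (σ i m ≠ m)) := by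
    intro i
    constructor
    · intro h
      have h2 : σ i m ≠ m := by simpa using h
      rcases hm' i with h1 | h1
      · exact absurd h1 h2
      · exact h1
    · intro h
      have h2 : σ i m = m := by simpa using h
      exact h2
  exact Subgroup.mem_iSup_of_mem _ hmem

/-- an endomorphism-like map fixing every `eig σ ε` pointwise fixes `N` pointwise. -/
theorem eq_of_eig [Finite ι] (hN : ∀ n : N, n ^ 3 = 1) (σ : ι → MulAut N)
    (hcomm : ∀ i j n, σ i (σ j n) = σ j (σ i n)) (hinv : ∀ i n, σ i (σ i n) = n)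
    (g : MulAut N) (hg : ∀ ε, ∀ n ∈ eig σ ε, g n = n) : ∀ n, g n = n := by
  have h1 : (⨆ ε, eig σ ε) ≤ (g : N →* N).eqLocus (MonoidHom.id N) := by
    apply iSup_le
    intro ε n hn
    exact hg ε n hn
  rw [iSup_eig_eq_top hN σ hcomm hinv] at h1
  intro n
  exact h1 (Subgroup.mem_top n)

end span

end Cfsg.Agent.Lib.Helper34_SignDecomp
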