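/-
Helper library (helper34): the abstract `p = 3` theorem behind `l_p ≤ d_p`.
`Γ` is `3`-solvable with `O_3(Γ) = 1`, acting faithfully on a commutative group `N` of exponent `3`;
`B` is a `3`-subgroup and `N₂ ≤ N` with `δ_b δ_b N ⊆ N₂`, `⁅B, B⁆` fixes `N₂` pointwise and
`δ_a N ⊆ N₂` for `a ∈ ⁅B, B⁆`.  Then `⁅B, B⁆ = 1`.
-/
import Mathlib
import Cfsg.Agent.Lib.Helper34_HHCore
import Cfsg.Agent.Lib.Helper34_SignDecomp
import Cfsg.Agent.Lib.Helper10_QuadPair
import Cfsg.Agent.Lib.Helper24_CoprimeAction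
import Cfsg.Agent.Lib.Helper76_PSolvable

set_option autoImplicit false
set_option linter.unusedSectionVars false
set_option linter.style.haveILetI false

namespace Cfsg.Agent.Lib.Helper34_HHThree

open Cfsg Cfsg.Agent.Lib.Helper34_HHQuad Cfsg.Agent.Lib.Helper34_HHMinimal
  Cfsg.Agent.Lib.Helper10_QuadAction Cfsg.Agent.Lib.Helper34_HHCore
  Cfsg.Agent.Lib.Helper34_SignDecomp

section restrict

variable {Γ : Type*} [Group Γ] {N : Type*} [CommGroup N]

/-- the stabilizer of a subgroup of the module -/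
def stab (c : Γ →* MulAut N) (M : Subgroup N) : Subgroup Γ where
  carrier := {g | ∀ n ∈ M, c g n ∈ M ∧ c g⁻¹ n ∈ M}
  one_mem' := by
    intro n hn
    simp [hn]
  mul_mem' := by
    intro g h hg hh n hn
    refine ⟨?_, ?_⟩
    · rw [map_mul]; exact (hg _ (hh n hn).1).1
    · rw [mul_inv_rev, map_mul]; exact (hh _ (hg n hn).2).2
  inv_mem' := by
    intro g hg n hn
    rw [inv_inv]
    exact ⟨(hg n hn).2, (hg n hn).1⟩

theorem mem_stab {c : Γ →* MulAut N} {M : Subgroup N} {g : Γ} :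
    g ∈ stab c M ↔ ∀ n ∈ M, c g n ∈ M ∧ c g⁻¹ n ∈ M := Iff.rfl

/-- the restricted action -/
def resAct (c : Γ →* MulAut N) (M : Subgroup N) : ↥(stab c M) →* MulAut ↥M where
  toFun g :=
    { toFun := fun m => ⟨c g m, (g.2 m m.2).1⟩
      invFun := fun m => ⟨c (g : Γ)⁻¹ m, (g.2 m m.2).2⟩
      left_inv := fun m => Subtype.ext (by
        show c (g : Γ)⁻¹ (c g m) = m
        rw [← MulAut.mul_apply, ← map_mul, inv_mul_cancel, map_one, MulAut.one_apply])
      right_inv := fun m => Subtype.ext (by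
        show c g (c (g : Γ)⁻¹ m) = m
        rw [← MulAut.mul_apply, ← map_mul, mul_inv_cancel, map_one, MulAut.one_apply])
      map_mul' := fun m m' => Subtype.ext (by
        show c g ((m : N) * m') = c g m * c g m'
        rw [map_mul]) }
  map_one' := by
    ext m
    show c ((1 : ↥(stab c M)) : Γ) m = m
    rw [Subgroup.coe_one, map_one, MulAut.one_apply]
  map_mul' g h := by
    ext m
    show c ((g * h : ↥(stab c M)) : Γ) m = c g (c h m)
    rw [Subgroup.coe_mul, map_mul, MulAut.mul_apply]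

@[simp] theorem resAct_apply (c : Γ →* MulAut N) (M : Subgroup N) (g : ↥(stab c M)) (m : ↥M) :
    ((resAct c M g m : ↥M) : N) = c g m := rfl

end restrict

section transfer

variable {Γ : Type*} [Group Γ] [Finite Γ]

theorem coe_mem_comm {B Δ : Subgroup Γ} (hBΔ : B ≤ Δ) {x : ↥Δ}
    (hx : x ∈ ⁅B.subgroupOf Δ, B.subgroupOf Δ⁆) : (x : Γ) ∈ ⁅B, B⁆ := by
  have h1 : (⁅B.subgroupOf Δ, B.subgroupOf Δ⁆).map Δ.subtype = ⁅B, B⁆ := by
    rw [Subgroup.map_commutator, Subgroup.map_subgroupOf_eq_of_le hBΔ]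
  rw [← h1]
  exact ⟨x, hx, rfl⟩

theorem exists_mem_comm {B Δ : Subgroup Γ} (hBΔ : B ≤ Δ) {a : Γ} (ha : a ∈ ⁅B, B⁆) :
    ∃ x : ↥Δ, x ∈ ⁅B.subgroupOf Δ, B.subgroupOf Δ⁆ ∧ (x : Γ) = a := by
  have h1 : (⁅B.subgroupOf Δ, B.subgroupOf Δ⁆).map Δ.subtype = ⁅B, B⁆ := by
    rw [Subgroup.map_commutator, Subgroup.map_subgroupOf_eq_of_le hBΔ]
  rw [← h1] at ha
  obtain ⟨x, hx, rfl⟩ := ha
  exact ⟨x, hx, rfl⟩

theorem minHyp_subgroupOf {B T : Subgroup Γ} (h : MinHyp B T) (Δ : Subgroup Γ) (hBΔ : B ≤ Δ)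
    (hTΔ : T ≤ Δ) : MinHyp (B.subgroupOf Δ) (T.subgroupOf Δ) where
  hB := h.hB.comap_of_injective Δ.subtype Δ.subtype_injective
  hT := h.hT.comap_of_injective Δ.subtype Δ.subtype_injective
  hBT := by
    apply le_normalizer_of_conj_mem
    intro b hb t ht
    rw [Subgroup.mem_subgroupOf] at hb ht ⊢
    exact (Subgroup.mem_normalizer_iff.mp (h.hBT hb) _).mp ht
  hmin := by
    intro M' hM'T hBM' hne m hm a ha
    have hM : M'.map Δ.subtype ≤ T := by
      rintro _ ⟨x, hx, rfl⟩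
      exact Subgroup.mem_subgroupOf.mp (hM'T hx)
    have hBM : B ≤ Subgroup.normalizer ((M'.map Δ.subtype : Subgroup Γ) : Set Γ) := by
      apply le_normalizer_of_conj_mem
      rintro b hb _ ⟨x, hx, rfl⟩
      have hb' : (⟨b, hBΔ hb⟩ : ↥Δ) ∈ B.subgroupOf Δ := Subgroup.mem_subgroupOf.mpr hb
      have := (Subgroup.mem_normalizer_iff.mp (hBM' hb') x).mp hx
      exact ⟨_, this, rfl⟩
    have hne' : M'.map Δ.subtype ≠ T := by
      intro he
      apply hne
      apply le_antisymm hM'T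
      intro t ht
      have : (t : Γ) ∈ M'.map Δ.subtype := by
        rw [he]; exact Subgroup.mem_subgroupOf.mp ht
      obtain ⟨x, hx, hxt⟩ := this
      have : x = t := Subtype.ext hxt
      rwa [← this]
    have := h.hmin _ hM hBM hne' (m : Γ) ⟨m, hm, rfl⟩ (a : Γ) (coe_mem_comm hBΔ ha)
    exact Subtype.ext this
  hnc := by
    intro hcon
    apply h.hnc
    intro t ht a ha
    obtain ⟨x, hx, rfl⟩ := exists_mem_comm hBΔ ha
    have := hcon ⟨t, hTΔ ht⟩ (Subgroup.mem_subgroupOf.mpr ht) x hx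
    exact congrArg Subtype.val this

theorem mem_ZZ_subgroupOf {B T : Subgroup Γ} (Δ : Subgroup Γ) (hBΔ : B ≤ Δ) (z : ↥Δ) :
    z ∈ ZZ (B.subgroupOf Δ) (T.subgroupOf Δ) ↔ (z : Γ) ∈ ZZ B T := by
  rw [mem_ZZ, mem_ZZ, Subgroup.mem_subgroupOf]
  constructor
  · rintro ⟨h1, h2⟩
    refine ⟨h1, fun a ha => ?_⟩
    obtain ⟨x, hx, rfl⟩ := exists_mem_comm hBΔ ha
    exact congrArg Subtype.val (h2 x hx)
  · rintro ⟨h1, h2⟩
    refine ⟨h1, fun a ha => ?_⟩
    exact Subtype.ext (h2 _ (coe_mem_comm hBΔ ha))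

end transfer

section pattern

variable {Γ : Type*} [Group Γ] [Finite Γ] {N : Type*} [CommGroup N] [Finite N]

/-- generic transport of sign-eigen-subgroups -/
theorem eig_map {ι : Type*} {σ : ι → MulAut N} {ε : ι → Bool} (β : MulAut N) (π : ι → ι)
    (hβ : ∀ i n, σ i (β n) = β (σ (π i) n)) {n : N} (hn : n ∈ eig σ ε) :
    β n ∈ eig σ (fun i => ε (π i)) := by
  intro i
  constructor
  · intro h; rw [hβ, eig_apply_of_true hn h, map_inv]
  · intro h; rw [hβ, eig_apply_of_false hn h]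

/-- the pointwise fixer of a subgroup of the module -/
def fixer (c : Γ →* MulAut N) (M : Subgroup N) : Subgroup Γ where
  carrier := {g | ∀ n ∈ M, c g n = n}
  one_mem' := by intro n _; simp
  mul_mem' := by
    intro g h hg hh n hn
    rw [map_mul, MulAut.mul_apply, hh n hn, hg n hn]
  inv_mem' := by
    intro g hg n hn
    have h1 : c g⁻¹ (c g n) = n := by
      rw [← MulAut.mul_apply, ← map_mul, inv_mul_cancel, map_one, MulAut.one_apply]
    rw [hg n hn] at h1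
    exact h1

theorem mem_fixer {c : Γ →* MulAut N} {M : Subgroup N} {g : Γ} :
    g ∈ fixer c M ↔ ∀ n ∈ M, c g n = n := Iff.rfl

/-- hypotheses of the `p = 3` analysis, for a minimal pair `(B, T)` -/
structure ThreeHyp (c : Γ →* MulAut N) (B T : Subgroup Γ) (N₂ : Subgroup N) : Prop where
  hN : ∀ n : N, n ^ 3 = 1
  hfaith : ∀ g : Γ, (∀ n, c g n = n) → g = 1
  min : MinHyp B T
  H1 : ∀ b ∈ B, ∀ n : N, c b (c b n * n⁻¹) * (c b n * n⁻¹)⁻¹ ∈ N₂
  H2 : ∀ a ∈ ⁅B, B⁆, ∀ m ∈ N₂, c a m = m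
  H3 : ∀ a ∈ ⁅B, B⁆, ∀ n : N, c a n * n⁻¹ ∈ N₂

open Classical in
/-- the commuting involutions given by `Z` (trivial outside `Z`) -/
noncomputable def sg (c : Γ →* MulAut N) (B T : Subgroup Γ) : Γ → MulAut N :=
  fun g => if g ∈ ZZ B T then c g else 1

theorem sg_of_mem {c : Γ →* MulAut N} {B T : Subgroup Γ} {g : Γ} (hg : g ∈ ZZ B T) :
    sg c B T g = c g := by
  unfold sg; rw [if_pos hg]

theorem sg_of_not_mem {c : Γ →* MulAut N} {B T : Subgroup Γ} {g : Γ} (hg : g ∉ ZZ B T) :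
    sg c B T g = 1 := by
  unfold sg; rw [if_neg hg]

/-- action on sign patterns -/
def pact (b : Γ) (ε : Γ → Bool) : Γ → Bool := fun g => ε (b⁻¹ * g * b)

theorem pact_mul (b₁ b₂ : Γ) (ε : Γ → Bool) : pact (b₁ * b₂) ε = pact b₁ (pact b₂ ε) := by
  funext g
  unfold pact
  congr 1
  group

theorem pact_one (ε : Γ → Bool) : pact (1 : Γ) ε = ε := by
  funext g
  unfold pact
  simp

/-- stabilizer of a pattern -/
def pstab (ε : Γ → Bool) : Subgroup Γ where
  carrier := {b | pact b ε = ε}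
  one_mem' := pact_one ε
  mul_mem' := by
    intro b₁ b₂ h₁ h₂
    show pact (b₁ * b₂) ε = ε
    rw [pact_mul, h₂, h₁]
  inv_mem' := by
    intro b hb
    show pact b⁻¹ ε = ε
    have h1 : pact b⁻¹ (pact b ε) = ε := by rw [← pact_mul, inv_mul_cancel, pact_one]
    rw [hb] at h1
    exact h1

theorem mem_pstab {ε : Γ → Bool} {b : Γ} : b ∈ pstab ε ↔ pact b ε = ε := Iff.rfl

theorem mem_pstab_of_sq {ε : Γ → Bool} {b : Γ} (hodd : Odd (orderOf b)) (h : b * b ∈ pstab ε) :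
    b ∈ pstab ε := by
  obtain ⟨j, hj⟩ := hodd
  have h1 : (b * b) ^ (j + 1) = b := by
    rw [← pow_two, ← pow_mul]
    have : 2 * (j + 1) = orderOf b + 1 := by omega
    rw [this, pow_succ, pow_orderOf_eq_one, one_mul]
  rw [← h1]
  exact Subgroup.pow_mem _ h _

namespace ThreeHyp

variable {c : Γ →* MulAut N} {B T : Subgroup Γ} {N₂ : Subgroup N} (H : ThreeHyp c B T N₂)
include H

theorem quad {a : Γ} (ha : a ∈ ⁅B, B⁆) : AQuad c a := fun n => H.H2 a ha _ (H.H3 a ha n)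

theorem sg_comm : ∀ i j n, sg c B T i (sg c B T j n) = sg c B T j (sg c B T i n) := by
  intro i j n
  by_cases hi : i ∈ ZZ B T <;> by_cases hj : j ∈ ZZ B T
  · rw [sg_of_mem hi, sg_of_mem hj, ← MulAut.mul_apply, ← MulAut.mul_apply, ← map_mul, ← map_mul,
      H.min.ZZ_central i hi j (mem_ZZ.mp hj).1]
  · rw [sg_of_not_mem hj]; rfl
  · rw [sg_of_not_mem hi]; rfl
  · rw [sg_of_not_mem hi]; rfl

theorem sg_inv : ∀ i n, sg c B T i (sg c B T i n) = n := by
  intro i n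
  by_cases hi : i ∈ ZZ B T
  · rw [sg_of_mem hi, ← MulAut.mul_apply, ← map_mul, ← pow_two, H.min.ZZ_sq i hi, map_one]
    rfl
  · rw [sg_of_not_mem hi]; rfl

omit H in
theorem conj_mem_ZZ (hmin : MinHyp B T) {b z : Γ} (hb : b ∈ B) (hz : z ∈ ZZ B T) :
    b * z * b⁻¹ ∈ ZZ B T :=
  (Subgroup.mem_normalizer_iff.mp (hmin.B_norm_ZZ hb) z).mp hz

theorem conj_B {b : Γ} (hb : b ∈ B) :
    ∀ i n, sg c B T i (c b n) = c b (sg c B T (b⁻¹ * i * b) n) := by
  intro i n
  by_cases hi : i ∈ ZZ B T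
  · have hi' : b⁻¹ * i * b ∈ ZZ B T := by
      have := conj_mem_ZZ H.min (B.inv_mem hb) hi
      rwa [inv_inv] at this
    rw [sg_of_mem hi, sg_of_mem hi', ← MulAut.mul_apply, ← MulAut.mul_apply, ← map_mul, ← map_mul]
    congr 2
    group
  · have hi' : b⁻¹ * i * b ∉ ZZ B T := by
      intro h
      apply hi
      have := conj_mem_ZZ H.min hb h
      have e : b * (b⁻¹ * i * b) * b⁻¹ = i := by group
      rwa [e] at this
    rw [sg_of_not_mem hi, sg_of_not_mem hi']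
    rfl

theorem conj_C {x : Γ} (hx : ∀ z ∈ ZZ B T, x * z = z * x) :
    ∀ i n, sg c B T i (c x n) = c x (sg c B T i n) := by
  intro i n
  by_cases hi : i ∈ ZZ B T
  · rw [sg_of_mem hi, ← MulAut.mul_apply, ← MulAut.mul_apply, ← map_mul, ← map_mul, hx i hi]
  · rw [sg_of_not_mem hi]
    rfl

theorem map_B {b : Γ} (hb : b ∈ B) {ε : Γ → Bool} {n : N} (hn : n ∈ eig (sg c B T) ε) :
    c b n ∈ eig (sg c B T) (pact b ε) :=
  eig_map (c b) (fun i => b⁻¹ * i * b) (H.conj_B hb) hn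

theorem map_C {x : Γ} (hx : ∀ z ∈ ZZ B T, x * z = z * x) {ε : Γ → Bool} {n : N}
    (hn : n ∈ eig (sg c B T) ε) : c x n ∈ eig (sg c B T) ε :=
  eig_map (c x) (fun i => i) (H.conj_C hx) hn

theorem map_T {t : Γ} (ht : t ∈ T) {ε : Γ → Bool} {n : N}
    (hn : n ∈ eig (sg c B T) ε) : c t n ∈ eig (sg c B T) ε :=
  H.map_C (fun z hz => (H.min.ZZ_central z hz t ht).symm) hn

theorem map_A {a : Γ} (ha : a ∈ ⁅B, B⁆) {ε : Γ → Bool} {n : N}
    (hn : n ∈ eig (sg c B T) ε) : c a n ∈ eig (sg c B T) ε :=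
  H.map_C (fun z hz => (mem_ZZ.mp hz).2 a ha) hn

/-- a pattern moved by `B` carries a trivial action of `A` -/
theorem moved {b : Γ} (hb : b ∈ B) {ε : Γ → Bool} (hne : pact b ε ≠ ε) {a : Γ} (ha : a ∈ ⁅B, B⁆)
    {n : N} (hn : n ∈ eig (sg c B T) ε) : c a n = n := by
  haveI : Fact (Nat.Prime 3) := ⟨Nat.prime_three⟩
  have hn1 : c b n ∈ eig (sg c B T) (pact b ε) := H.map_B hb hn
  have hn2 : c b (c b n) ∈ eig (sg c B T) (pact b (pact b ε)) := H.map_B hb hn1
  have h01 : ε ≠ pact b ε := fun h => hne h.symm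
  have h02 : ε ≠ pact b (pact b ε) := by
    intro h
    apply hne
    have hodd : Odd (orderOf b) := by
      obtain ⟨k, hk⟩ := (IsPGroup.iff_orderOf.mp H.min.hB) ⟨b, hb⟩
      rw [Subgroup.orderOf_mk] at hk
      rw [hk]
      exact Odd.pow (by decide)
    have : b * b ∈ pstab ε := by
      rw [mem_pstab, pact_mul]; exact h.symm
    exact mem_pstab.mp (mem_pstab_of_sq hodd this)
  have hm : c b (c b n * n⁻¹) * (c b n * n⁻¹)⁻¹ = n * c b n * c b (c b n) := by
    have h3 := H.hN (c b n)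
    rw [map_mul, map_inv]
    have e : c b (c b n) * (c b n)⁻¹ * (c b n * n⁻¹)⁻¹ = c b (c b n) * ((c b n)⁻¹ * (c b n)⁻¹) * n := by
      rw [mul_inv_rev, inv_inv]
      simp only [mul_assoc, mul_comm, mul_left_comm]
    rw [e]
    have e2 : (c b n)⁻¹ * (c b n)⁻¹ = c b n := by
      calc (c b n)⁻¹ * (c b n)⁻¹ = (c b n) ^ 3 * ((c b n)⁻¹ * (c b n)⁻¹) := by rw [h3, one_mul]
        _ = c b n := by group
    rw [e2]
    simp only [mul_assoc, mul_comm, mul_left_comm]
  have hfix := H.H2 a ha _ (H.H1 b hb n)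
  rw [hm, map_mul, map_mul] at hfix
  have h0 : c a n * n⁻¹ ∈ eig (sg c B T) ε :=
    Subgroup.mul_mem _ (H.map_A ha hn) (Subgroup.inv_mem _ hn)
  have h1 : c a (c b n) * (c b n)⁻¹ ∈ eig (sg c B T) (pact b ε) :=
    Subgroup.mul_mem _ (H.map_A ha hn1) (Subgroup.inv_mem _ hn1)
  have h2 : c a (c b (c b n)) * (c b (c b n))⁻¹ ∈ eig (sg c B T) (pact b (pact b ε)) :=
    Subgroup.mul_mem _ (H.map_A ha hn2) (Subgroup.inv_mem _ hn2)
  have hprod : (c a n * n⁻¹) * (c a (c b n) * (c b n)⁻¹) *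
      (c a (c b (c b n)) * (c b (c b n))⁻¹) = 1 := by
    have e : (c a n * n⁻¹) * (c a (c b n) * (c b n)⁻¹) * (c a (c b (c b n)) * (c b (c b n))⁻¹) =
        (c a n * c a (c b n) * c a (c b (c b n))) * (n * c b n * c b (c b n))⁻¹ := by
      rw [mul_inv_rev, mul_inv_rev]
      simp only [mul_assoc, mul_comm, mul_left_comm]
    rw [e, hfix, mul_inv_cancel]
  have := eig_indep3 H.hN h01 h02 h0 h1 h2 hprod
  calc c a n = (c a n * n⁻¹) * n := by group
    _ = n := by rw [this, one_mul]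

theorem exists_pattern : ∃ ε : Γ → Bool, ∃ t ∈ T, ∃ n ∈ eig (sg c B T) ε, c t n ≠ n := by
  by_contra hcon
  apply H.min.T_ne_bot
  rw [eq_bot_iff]
  intro t ht
  rw [Subgroup.mem_bot]
  apply H.hfaith
  apply eq_of_eig H.hN (sg c B T) H.sg_comm H.sg_inv (c t)
  intro ε n hn
  by_contra hne
  exact hcon ⟨ε, t, ht, n, hn, hne⟩

theorem invariant {ε : Γ → Bool} {t : Γ} (ht : t ∈ T) {n : N} (hn : n ∈ eig (sg c B T) ε)
    (hne : c t n ≠ n) : ∀ b ∈ B, pact b ε = ε := by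
  intro b hb
  by_contra hmv
  apply hne
  have hA : ⁅B, B⁆ ≤ fixer c (eig (sg c B T) ε) := fun a ha n' hn' => H.moved hb hmv ha hn'
  have hTA : ⁅T, ⁅B, B⁆⁆ ≤ fixer c (eig (sg c B T) ε) := by
    rw [Subgroup.commutator_le]
    intro t' ht' a ha n' hn'
    rw [commutatorElement_def, map_mul, map_mul, map_mul, MulAut.mul_apply, MulAut.mul_apply,
      MulAut.mul_apply]
    rw [hA (Subgroup.inv_mem _ ha) n' hn', hA ha _ (H.map_T (T.inv_mem ht') hn'),
      ← MulAut.mul_apply, ← map_mul, mul_inv_cancel, map_one, MulAut.one_apply]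
  exact hTA (H.min.T_le_comm ht) n hn

/-- **the `p = 3` analysis for a minimal pair**: contradiction -/
theorem false : False := by
  obtain ⟨ε, t₀, ht₀, n₀, hn₀, hne₀⟩ := H.exists_pattern
  have hinv := H.invariant ht₀ hn₀ hne₀
  obtain ⟨M, hM⟩ : ∃ M : Subgroup N, M = eig (sg c B T) ε := ⟨_, rfl⟩
  have hBM : ∀ b ∈ B, ∀ n ∈ M, c b n ∈ M := by
    intro b hb n hn
    rw [hM] at hn ⊢
    have := H.map_B hb hn
    rwa [hinv b hb] at this
  have hTM : ∀ t ∈ T, ∀ n ∈ M, c t n ∈ M := by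
    intro t ht n hn
    rw [hM] at hn ⊢
    exact H.map_T ht hn
  have hBΔ : B ≤ stab c M := fun b hb n hn => ⟨hBM b hb n hn, hBM _ (B.inv_mem hb) n hn⟩
  have hTΔ : T ≤ stab c M := fun t ht n hn => ⟨hTM t ht n hn, hTM _ (T.inv_mem ht) n hn⟩
  -- the kernel of `T` on `M` lies in `Z`
  have hCε : T ⊓ fixer c M ≤ ZZ B T := by
    apply H.min.le_ZZ _ inf_le_left
    · apply le_normalizer_of_conj_mem
      intro b hb x hx
      obtain ⟨hxT, hxF⟩ := Subgroup.mem_inf.mp hx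
      refine Subgroup.mem_inf.mpr ⟨CoreHyp.conj_mem_T H.min hb hxT, ?_⟩
      intro n hn
      rw [map_mul, map_mul, MulAut.mul_apply, MulAut.mul_apply, hxF _ (hBM _ (B.inv_mem hb) n hn),
        ← MulAut.mul_apply, ← map_mul, mul_inv_cancel, map_one, MulAut.one_apply]
    · intro he
      have : t₀ ∈ T ⊓ fixer c M := by rw [he]; exact ht₀
      exact hne₀ ((Subgroup.mem_inf.mp this).2 n₀ (by rw [hM]; exact hn₀))
  have hcore : CoreHyp (resAct c M) (B.subgroupOf (stab c M)) (T.subgroupOf (stab c M)) :=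
    { hM := fun m => Subtype.ext (by
        show ((m ^ 3 : ↥M) : N) = 1
        rw [Subgroup.coe_pow]; exact H.hN m)
      hM1 := by
        refine ⟨⟨n₀, by rw [hM]; exact hn₀⟩, ?_⟩
        intro h
        apply hne₀
        have h1 : n₀ = 1 := congrArg Subtype.val h
        rw [h1, map_one]
      min := minHyp_subgroupOf H.min _ hBΔ hTΔ
      hquad := by
        intro a ha m
        apply Subtype.ext
        have := H.quad (coe_mem_comm hBΔ ha) (m : N)
        exact this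
      hZ := by
        intro z hz
        have hz' : (z : Γ) ∈ ZZ B T := (mem_ZZ_subgroupOf _ hBΔ z).mp hz
        cases hε : ε (z : Γ)
        · left
          ext m
          show c (z : Γ) (m : N) = m
          have hm : (m : N) ∈ eig (sg c B T) ε := by rw [← hM]; exact m.2
          have := eig_apply_of_false hm hε
          rwa [sg_of_mem hz'] at this
        · right
          ext m
          show c (z : Γ) (m : N) = (m : N)⁻¹
          have hm : (m : N) ∈ eig (sg c B T) ε := by rw [← hM]; exact m.2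
          have := eig_apply_of_true hm hε
          rwa [sg_of_mem hz'] at this
      hker := by
        intro t ht h1
        rw [mem_ZZ_subgroupOf _ hBΔ]
        apply hCε
        refine Subgroup.mem_inf.mpr ⟨Subgroup.mem_subgroupOf.mp ht, ?_⟩
        intro n hn
        have := congrArg (fun e : MulAut ↥M => ((e ⟨n, hn⟩ : ↥M) : N)) h1
        exact this }
  exact hcore.false

end ThreeHyp

end pattern

section main

variable {Γ : Type*} [Group Γ] [Finite Γ] {N : Type*} [CommGroup N] [Finite N]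

open Cfsg.Agent.Lib.Helper24_CoprimeAction in
/-- A subgroup containing a Sylow `q`-subgroup of `L` for every prime `q` contains `L`
(as in helper64's `le_of_forall_sylow_le`). -/
theorem le_of_forall_sylow_le' (L C : Subgroup Γ)
    (h : ∀ q : ℕ, ∀ _ : Fact q.Prime, ∃ P : Sylow q L, sylowImage P ≤ C) : L ≤ C := by
  have hCL : L ⊓ C = L := by
    apply Subgroup.eq_of_le_of_card_ge inf_le_left
    apply Nat.le_of_dvd Nat.card_pos
    rw [← Nat.factorization_prime_le_iff_dvd Nat.card_pos.ne' Nat.card_pos.ne']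
    intro q hq
    have : Fact q.Prime := ⟨hq⟩
    obtain ⟨P, hP⟩ := h q ⟨hq⟩
    have h1 : Nat.card (sylowImage P) = q ^ (Nat.card L).factorization q := by
      rw [Subgroup.card_map_of_injective L.subtype_injective]
      exact P.card_eq_multiplicity
    have h2 : sylowImage P ≤ L ⊓ C := le_inf (Subgroup.map_subtype_le _) hP
    have h3 := Subgroup.card_dvd_of_le h2
    rw [h1] at h3
    exact (Nat.Prime.pow_dvd_iff_le_factorization hq Nat.card_pos.ne').mp h3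
  rw [← hCL]
  exact inf_le_right

theorem card_lt_of_lt' {H K : Subgroup Γ} (h : H < K) : Nat.card H < Nat.card K := by
  have hle := Subgroup.card_le_of_le h.le
  rcases hle.lt_or_eq with h1 | h1
  · exact h1
  · exact absurd (Subgroup.eq_of_le_of_card_ge h.le h1.ge) h.ne

open Cfsg.Agent.Lib.Helper24_CoprimeAction in
/-- Step A: a `B`-invariant `2`-subgroup not centralized by `A = ⁅B, B⁆`. -/
theorem exists_two_group (hsol : IsPSolvable 3 Γ) (hcore : pCore 3 Γ = ⊥)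
    (c : Γ →* MulAut N) (hN : ∀ n : N, n ^ 3 = 1) (hfaith : ∀ g : Γ, (∀ n, c g n = n) → g = 1)
    (B : Subgroup Γ) (hB : IsPGroup 3 B) (hquad : ∀ a ∈ ⁅B, B⁆, AQuad c a) (hA : ⁅B, B⁆ ≠ ⊥) :
    ∃ T : Subgroup Γ, IsPGroup 2 T ∧ B ≤ Subgroup.normalizer (T : Set Γ) ∧
      ¬ ∀ t ∈ T, ∀ a ∈ ⁅B, B⁆, a * t = t * a := by
  haveI : Fact (Nat.Prime 3) := ⟨Nat.prime_three⟩
  by_contra hcon
  have hcon' : ∀ T : Subgroup Γ, IsPGroup 2 T → B ≤ Subgroup.normalizer (T : Set Γ) →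
      ∀ t ∈ T, ∀ a ∈ ⁅B, B⁆, a * t = t * a := by
    intro T hT hBT
    by_contra h
    exact hcon ⟨T, hT, hBT, h⟩
  apply hA
  have hKn : (pPrimeCore 3 Γ).Normal := Cfsg.Agent.Lib.Helper76_PSolvable.pPrimeCore_normal 3
  have hKcop : (Nat.card (pPrimeCore 3 Γ)).Coprime 3 :=
    Cfsg.Agent.Lib.Helper76_PSolvable.pPrimeCore_card_coprime 3
  have hCK := Cfsg.Agent.Lib.Helper10_QuadPair.centralizer_pPrimeCore_le 3 hsol hcore
  have hBK : B ≤ Subgroup.normalizer ((pPrimeCore 3 Γ : Subgroup Γ) : Set Γ) := by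
    rw [Subgroup.normalizer_eq_top]; exact le_top
  obtain ⟨kB, hkB⟩ := IsPGroup.iff_card.mp hB
  have hcop : (Nat.card B).Coprime (Nat.card (pPrimeCore 3 Γ)) := by
    rw [hkB]
    exact Nat.Coprime.pow_left _ hKcop.symm
  have hsolv : Group.IsSolvable B ∨ Group.IsSolvable (pPrimeCore 3 Γ) := by
    left
    haveI := hB.isNilpotent
    infer_instance
  have hKA : pPrimeCore 3 Γ ≤ Subgroup.centralizer ((⁅B, B⁆ : Subgroup Γ) : Set Γ) := by
    apply le_of_forall_sylow_le'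
    intro q hq
    obtain ⟨P, hP⟩ := exists_invariant_sylow B (pPrimeCore 3 Γ) hBK hcop hsolv q
    refine ⟨P, ?_⟩
    have hQq : IsPGroup q (sylowImage P) := P.isPGroup'.map _
    have hQK : sylowImage P ≤ pPrimeCore 3 Γ := Subgroup.map_subtype_le _
    intro e he
    rw [Subgroup.mem_centralizer_iff]
    intro a ha
    by_cases hq2 : q = 2
    · subst hq2
      exact hcon' _ hQq hP e he a ha
    · obtain ⟨k, hk⟩ := IsPGroup.iff_card.mp hQq
      have hodd : Odd (Nat.card (sylowImage P)) := by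
        rw [hk]
        exact Odd.pow (hq.out.odd_of_ne_two hq2)
      have hcop3 : (Nat.card (sylowImage P)).Coprime 3 :=
        Nat.Coprime.coprime_dvd_left (Subgroup.card_dvd_of_le hQK) hKcop
      have h1 := quad_comm_trivial c hN a (hquad a ha) (sylowImage P)
        (hP (comm_le B ha)) hcop3 (Or.inl hodd) e he
      have h2 : a * e * a⁻¹ * e⁻¹ = 1 := by
        apply hfaith
        intro n
        rw [map_mul, h1, map_inv, mul_inv_cancel, MulAut.one_apply]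
      calc a * e = (a * e * a⁻¹ * e⁻¹) * (e * a) := by group
        _ = e * a := by rw [h2, one_mul]
  have hAK : ⁅B, B⁆ ≤ pPrimeCore 3 Γ := (Subgroup.le_centralizer_iff.mp hKA).trans hCK
  have hA3 : IsPGroup 3 (⁅B, B⁆ : Subgroup Γ) := hB.to_le (comm_le B)
  obtain ⟨j, hj⟩ := IsPGroup.iff_card.mp hA3
  have h1 : (Nat.card (⁅B, B⁆ : Subgroup Γ)).Coprime 3 :=
    Nat.Coprime.coprime_dvd_left (Subgroup.card_dvd_of_le hAK) hKcop
  rw [hj] at h1
  have hj0 : j = 0 := by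
    by_contra hj0
    have : (3 : ℕ) ∣ 3 ^ j := dvd_pow_self 3 hj0
    have h2 := Nat.Coprime.eq_one_of_dvd h1.symm this
    omega
  rw [hj0, pow_zero] at hj
  exact Subgroup.card_eq_one.mp hj

/-- Step B: a minimal such `2`-subgroup. -/
theorem exists_minHyp (B : Subgroup Γ) (hB : IsPGroup 3 B)
    (h : ∃ T : Subgroup Γ, IsPGroup 2 T ∧ B ≤ Subgroup.normalizer (T : Set Γ) ∧
      ¬ ∀ t ∈ T, ∀ a ∈ ⁅B, B⁆, a * t = t * a) : ∃ T : Subgroup Γ, MinHyp B T := by
  obtain ⟨T, hT, hBT, hnc⟩ := h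
  have key : ∀ n : ℕ, ∀ T : Subgroup Γ, Nat.card T = n → IsPGroup 2 T →
      B ≤ Subgroup.normalizer (T : Set Γ) → (¬ ∀ t ∈ T, ∀ a ∈ ⁅B, B⁆, a * t = t * a) →
      ∃ T' : Subgroup Γ, MinHyp B T' := by
    intro n
    induction n using Nat.strong_induction_on with
    | _ n ih =>
      intro T hn hT hBT hnc
      by_cases hmin : ∀ M : Subgroup Γ, M ≤ T → B ≤ Subgroup.normalizer (M : Set Γ) → M ≠ T →
          ∀ m ∈ M, ∀ a ∈ ⁅B, B⁆, a * m = m * a
      · exact ⟨T, ⟨hB, hT, hBT, hmin, hnc⟩⟩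
      · push Not at hmin
        obtain ⟨M, hMT, hBM, hne, hM⟩ := hmin
        have hlt : Nat.card M < n := by
          rw [← hn]
          exact card_lt_of_lt' (lt_of_le_of_ne hMT hne)
        refine ih _ hlt M rfl (hT.to_le hMT) hBM ?_
        intro hcon
        obtain ⟨m, hm, a, ha, hma⟩ := hM
        exact hma (hcon m hm a ha)
  exact key _ T rfl hT hBT hnc

/-- **The abstract `p = 3` theorem.** -/
theorem three (hsol : IsPSolvable 3 Γ) (hcore : pCore 3 Γ = ⊥)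
    (c : Γ →* MulAut N) (hN : ∀ n : N, n ^ 3 = 1) (hfaith : ∀ g : Γ, (∀ n, c g n = n) → g = 1)
    (B : Subgroup Γ) (hB : IsPGroup 3 B) (N₂ : Subgroup N)
    (H1 : ∀ b ∈ B, ∀ n : N, c b (c b n * n⁻¹) * (c b n * n⁻¹)⁻¹ ∈ N₂)
    (H2 : ∀ a ∈ ⁅B, B⁆, ∀ m ∈ N₂, c a m = m)
    (H3 : ∀ a ∈ ⁅B, B⁆, ∀ n : N, c a n * n⁻¹ ∈ N₂) : ⁅B, B⁆ = ⊥ := by
  by_contra hA
  have hquad : ∀ a ∈ ⁅B, B⁆, AQuad c a := fun a ha n => H2 a ha _ (H3 a ha n)
  obtain ⟨T, hT⟩ := exists_minHyp B hB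
    (exists_two_group hsol hcore c hN hfaith B hB hquad hA)
  exact (ThreeHyp.false (⟨hN, hfaith, hT, H1, H2, H3⟩ : ThreeHyp c B T N₂))

end main

end Cfsg.Agent.Lib.Helper34_HHThree
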