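/-
Helper library (helper64): in a finite `p`-solvable group `X` with `O_{p'}(X) = 1`, the quotient
`X / O_p(X)` acts faithfully on the Frattini quotient of `O_p(X)` (an elementary abelian
`p`-group).  Packaged abstractly.  The construction follows helper21's `core_step`.
-/
import Mathlib
import Cfsg.Agent.Lib.Helper76_PSolvable
import Cfsg.Agent.Lib.Helper48_Generation
import Cfsg.Agent.Lib.Helper1_Frattini
import Cfsg.Agent.Lib.Helper10_QuadPair
import Cfsg.Agent.S4218

set_option autoImplicit false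

namespace Cfsg.Agent.Lib.Helper64_FrattiniAct

open Cfsg Cfsg.Agent.Lib.Helper76_PSolvable

universe u

variable {p : ℕ} [Fact p.Prime] {X : Type u} [Group X] [Finite X]

theorem exists_frattini_action (hsol : Cfsg.IsPSolvable p X) (hcore : Cfsg.pPrimeCore p X = ⊥) :
    haveI : (pCore p X).Normal := Cfsg.Agent.Lib.Helper76_PSolvable.pCore_normal p
    ∃ (N : Type u) (_ : CommGroup N) (_ : Finite N) (q : ↥(pCore p X) →* N)
      (c : X ⧸ pCore p X →* MulAut N), Function.Surjective q ∧ (∀ n : N, n ^ p = 1) ∧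
      (∀ (g : X) (v : ↥(pCore p X)),
        c (QuotientGroup.mk g) (q v) = q (MulAut.conjNormal g v)) ∧
      (∀ γ : X ⧸ pCore p X, (∀ n, c γ n = n) → γ = 1) := by
  classical
  have hVn : (pCore p X).Normal := Cfsg.Agent.Lib.Helper76_PSolvable.pCore_normal p
  have hVp : IsPGroup p (pCore p X) := pCore_isPGroup p
  have hHH : Subgroup.centralizer (pCore p X : Set X) ≤ pCore p X :=
    centralizer_pCore_le p hsol hcore
  have hcomm : IsMulCommutative (↥(pCore p X) ⧸ frattini ↥(pCore p X)) :=
    Subgroup.Normal.quotient_commutative_iff_commutator_le.mpr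
      (Cfsg.Agent.Lib.Helper1_Frattini.commutator_le_frattini_of_isPGroup hVp)
  let instC : CommGroup (↥(pCore p X) ⧸ frattini ↥(pCore p X)) :=
    { (inferInstance : Group (↥(pCore p X) ⧸ frattini ↥(pCore p X))) with
      mul_comm := fun u v => hcomm.is_comm.comm u v }
  have hN : ∀ n : ↥(pCore p X) ⧸ frattini ↥(pCore p X), n ^ p = 1 := by
    intro n
    induction n using QuotientGroup.induction_on with
    | H x =>
      rw [← QuotientGroup.mk_pow, QuotientGroup.eq_one_iff]
      exact Cfsg.Agent.Lib.Helper1_Frattini.pow_mem_frattini_of_isPGroup hVp x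
  obtain ⟨cbar, hcbar⟩ : ∃ cbar : X →* MulAut (↥(pCore p X) ⧸ frattini ↥(pCore p X)),
      cbar = (Cfsg.Agent.Lib.Helper48_Generation.autQuot (frattini ↥(pCore p X))).comp
        (MulAut.conjNormal : X →* MulAut ↥(pCore p X)) := ⟨_, rfl⟩
  have hcb : ∀ (x : X) (v : ↥(pCore p X)),
      cbar x (v : ↥(pCore p X) ⧸ frattini ↥(pCore p X)) =
        ((MulAut.conjNormal x v : ↥(pCore p X)) : ↥(pCore p X) ⧸ frattini ↥(pCore p X)) := by
    intro x v
    rw [hcbar]
    rfl
  have hle : pCore p X ≤ cbar.ker := by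
    intro x hx
    rw [MonoidHom.mem_ker]
    ext n
    induction n using QuotientGroup.induction_on with
    | H v =>
      rw [hcb, MulAut.one_apply]
      have e : (MulAut.conjNormal x v : ↥(pCore p X)) = ⟨x, hx⟩ * v * ⟨x, hx⟩⁻¹ := by
        apply Subtype.ext
        simp [MulAut.conjNormal_apply]
      rw [e, QuotientGroup.mk_mul, QuotientGroup.mk_mul, QuotientGroup.mk_inv,
        mul_inv_cancel_comm]
  have hker : ∀ x : X, (∀ n, cbar x n = n) → x ∈ pCore p X := by
    have hKp : IsPGroup p cbar.ker := by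
      rintro ⟨x, hx⟩
      rw [MonoidHom.mem_ker] at hx
      have hmem : (MulAut.conjNormal x : MulAut ↥(pCore p X)) ∈
          Cfsg.Agent.S4218.frattiniTrivial ↥(pCore p X) := by
        rw [Cfsg.Agent.S4218.mem_frattiniTrivial]
        intro y
        have h1 : cbar x (y : ↥(pCore p X) ⧸ frattini ↥(pCore p X)) =
            (y : ↥(pCore p X) ⧸ frattini ↥(pCore p X)) := by rw [hx]; rfl
        rw [hcb] at h1
        rw [← QuotientGroup.eq_one_iff, QuotientGroup.mk_mul, QuotientGroup.mk_inv, h1,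
          mul_inv_cancel]
      obtain ⟨k, hk⟩ := Cfsg.Agent.S4218.frattiniTrivial_isPGroup p hVp ⟨_, hmem⟩
      have hk' : (MulAut.conjNormal x : MulAut ↥(pCore p X)) ^ p ^ k = 1 := by
        have := congrArg Subtype.val hk
        simpa using this
      rw [← map_pow] at hk'
      have hcent : x ^ p ^ k ∈ Subgroup.centralizer (pCore p X : Set X) := by
        rw [Subgroup.mem_centralizer_iff]
        intro v hv
        have h3 : ((MulAut.conjNormal (x ^ p ^ k) (⟨v, hv⟩ : ↥(pCore p X)) : ↥(pCore p X)) : X) =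
            v := by rw [hk']; rfl
        rw [MulAut.conjNormal_apply] at h3
        calc v * x ^ p ^ k = (x ^ p ^ k * v * (x ^ p ^ k)⁻¹) * x ^ p ^ k := by rw [h3]
          _ = x ^ p ^ k * v := by group
      obtain ⟨m, hm⟩ := hVp ⟨_, hHH hcent⟩
      refine ⟨k + m, ?_⟩
      apply Subtype.ext
      have hm' := congrArg Subtype.val hm
      simp only [Subgroup.coe_pow, Subgroup.coe_one] at hm' ⊢
      rw [pow_add, pow_mul]
      exact hm'
    have hKle : cbar.ker ≤ pCore p X := le_pCore p cbar.ker hKp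
    intro x hx
    apply hKle
    rw [MonoidHom.mem_ker]
    ext n
    rw [hx n, MulAut.one_apply]
  obtain ⟨c, hcdef⟩ : ∃ c : X ⧸ pCore p X →* MulAut (↥(pCore p X) ⧸ frattini ↥(pCore p X)),
      c = QuotientGroup.lift (pCore p X) cbar hle := ⟨_, rfl⟩
  have hc : ∀ (x : X) (n : ↥(pCore p X) ⧸ frattini ↥(pCore p X)),
      c (QuotientGroup.mk x) n = cbar x n := by
    intro x n
    rw [hcdef, QuotientGroup.lift_mk]
  have hfaith : ∀ γ : X ⧸ pCore p X, (∀ n, c γ n = n) → γ = 1 := by
    intro γ hγ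
    obtain ⟨x, rfl⟩ := QuotientGroup.mk_surjective γ
    rw [QuotientGroup.eq_one_iff]
    apply hker
    intro n
    rw [← hc]
    exact hγ n
  refine ⟨↥(pCore p X) ⧸ frattini ↥(pCore p X), instC, inferInstance,
    QuotientGroup.mk' (frattini ↥(pCore p X)), c, QuotientGroup.mk'_surjective _, hN, ?_, hfaith⟩
  intro g v
  rw [QuotientGroup.mk'_apply, hc, hcb]
  rfl

end Cfsg.Agent.Lib.Helper64_FrattiniAct
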