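/-
Helper library (helper34): `p` odd, `X` `p`-solvable with `O_{p'}(X) = 1`, `S` a `p`-subgroup
containing `O_p(X)` whose derived series has `S^(d+1) = 1`.  Then `S^(d) ≤ O_p(X)`.
Consequence for a Sylow `p`-subgroup `P` of a `p`-solvable group `G`: `P^(d) ≤ O_{p',p}(G)`.
-/
import Mathlib
import Cfsg.Agent.Lib.Helper34_HHThree
import Cfsg.Agent.Lib.Helper64_FrattiniAct
import Cfsg.Agent.Lib.Helper10_QuadFinal
import Cfsg.Agent.Lib.Helper21_Fitting
import Cfsg.Agent.Lib.Helper32_Cores

set_option autoImplicit false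
set_option linter.unusedSectionVars false
set_option linter.style.haveILetI false

namespace Cfsg.Agent.Lib.Helper34_HHDerived

open Cfsg Cfsg.Agent.Lib.Helper10_QuadAction Cfsg.Agent.Lib.Helper21_Fitting
  Cfsg.Agent.Lib.Helper76_PSolvable

universe u

section dser

variable {G : Type*} [Group G]

theorem dser_le (M : Subgroup G) (k : ℕ) : dser M k ≤ M := by
  induction k with
  | zero => exact le_rfl
  | succ k ih =>
    show ⁅dser M k, dser M k⁆ ≤ M
    exact (Subgroup.commutator_mono ih ih).trans (Subgroup.commutator_le_self M)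

theorem le_normalizer_dser (M : Subgroup G) (k : ℕ) :
    M ≤ Subgroup.normalizer ((dser M k : Subgroup G) : Set G) := by
  induction k with
  | zero => exact Subgroup.le_normalizer
  | succ k ih =>
    intro g hg
    exact Cfsg.Agent.Lib.Helper24_CoprimeAction.mem_normalizer_commutator _ _ (ih hg) (ih hg)

theorem dser_map {H : Type*} [Group H] (f : G →* H) (M : Subgroup G) (k : ℕ) :
    dser (M.map f) k = (dser M k).map f := by
  induction k with
  | zero => rfl
  | succ k ih =>
    show ⁅dser (M.map f) k, dser (M.map f) k⁆ = (⁅dser M k, dser M k⁆).map f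
    rw [ih, Subgroup.map_commutator]

end dser

section KL

variable {p : ℕ} [Fact p.Prime] {X : Type u} [Group X] [Finite X]

/-- conjugate of `x` stays in a subgroup normalized by `g` -/
theorem conj_mem_of_normalizer {A : Subgroup X} {g x : X}
    (hg : g ∈ Subgroup.normalizer (A : Set X)) (hx : x ∈ A) : g * x * g⁻¹ ∈ A :=
  (Subgroup.mem_normalizer_iff.mp hg x).mp hx

theorem comm_mem_of_normalizer {A : Subgroup X} {a v : X} (ha : a ∈ A)
    (hv : v ∈ Subgroup.normalizer (A : Set X)) : a * v * a⁻¹ * v⁻¹ ∈ A := by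
  have h1 : v * a⁻¹ * v⁻¹ ∈ A := conj_mem_of_normalizer hv (A.inv_mem ha)
  have e : a * v * a⁻¹ * v⁻¹ = a * (v * a⁻¹ * v⁻¹) := by group
  rw [e]
  exact A.mul_mem ha h1

theorem comm_mem_of_normalizer' {A : Subgroup X} {a v : X} (hv : v ∈ A)
    (ha : a ∈ Subgroup.normalizer (A : Set X)) : a * v * a⁻¹ * v⁻¹ ∈ A :=
  A.mul_mem (conj_mem_of_normalizer ha hv) (A.inv_mem hv)

/-- **Key lemma** in `X` with `O_{p'}(X) = 1`. -/
theorem dser_le_pCore (hp2 : p ≠ 2) (hsol : IsPSolvable p X) (hcore : pPrimeCore p X = ⊥)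
    (S : Subgroup X) (hS : IsPGroup p S) (hRS : pCore p X ≤ S) (d : ℕ)
    (hd : dser S (d + 1) = ⊥) : dser S d ≤ pCore p X := by
  haveI hRn : (pCore p X).Normal := Cfsg.Agent.Lib.Helper76_PSolvable.pCore_normal p
  have hCR := centralizer_pCore_le p hsol hcore
  -- `A = S^(d)` is abelian and normal in `S`
  have hAS : dser S d ≤ S := dser_le S d
  have hSA : S ≤ Subgroup.normalizer ((dser S d : Subgroup X) : Set X) := le_normalizer_dser S d
  have hAab : ∀ x ∈ dser S d, ∀ y ∈ dser S d, x * y = y * x := by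
    intro x hx y hy
    have h1 : x * y * x⁻¹ * y⁻¹ ∈ dser S (d + 1) := by
      have := Subgroup.commutator_mem_commutator hx hy
      rwa [commutatorElement_def] at this
    rw [hd, Subgroup.mem_bot] at h1
    calc x * y = (x * y * x⁻¹ * y⁻¹) * (y * x) := by group
      _ = y * x := by rw [h1, one_mul]
  obtain ⟨N, instN, instF, q, c, hq, hN, hcq, hfaith⟩ :=
    Cfsg.Agent.Lib.Helper64_FrattiniAct.exists_frattini_action hsol hcore
  -- the basic computation
  have hdelta : ∀ (g : X) (v : ↥(pCore p X)),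
      c (QuotientGroup.mk g) (q v) * (q v)⁻¹ = q (MulAut.conjNormal g v * v⁻¹) := by
    intro g v
    rw [hcq, map_mul, map_inv]
  have hcoe : ∀ (g : X) (v : ↥(pCore p X)),
      ((MulAut.conjNormal g v * v⁻¹ : ↥(pCore p X)) : X) = g * v * g⁻¹ * v⁻¹ := by
    intro g v
    rw [Subgroup.coe_mul, Subgroup.coe_inv, MulAut.conjNormal_apply]
  -- elements of `A` fix the image of `A ∩ R`
  have hfixA : ∀ a ∈ dser S d, ∀ w : ↥(pCore p X), (w : X) ∈ dser S d →
      c (QuotientGroup.mk a) (q w) = q w := by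
    intro a ha w hw
    rw [hcq]
    congr 1
    apply Subtype.ext
    rw [MulAut.conjNormal_apply, hAab a ha w hw, mul_inv_cancel_right]
  -- every element of `A` is quadratic
  have hquadA : ∀ a ∈ dser S d, AQuad c (QuotientGroup.mk a : X ⧸ pCore p X) := by
    intro a ha n
    obtain ⟨v, rfl⟩ := hq n
    rw [hdelta]
    apply hfixA a ha
    rw [hcoe]
    exact comm_mem_of_normalizer ha (hSA (hRS v.2))
  have hΓsol : IsPSolvable p (X ⧸ pCore p X) := isPSolvable_quotient p _ hsol
  have hΓcore : pCore p (X ⧸ pCore p X) = ⊥ :=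
    Cfsg.Agent.Lib.Helper10_QuadPair.pCore_quotient_pCore' p
  by_cases hp3 : p = 3
  · subst hp3
    cases d with
    | zero =>
      -- `S` abelian, so `S ≤ C(R) ≤ R`
      refine le_trans ?_ hCR
      intro s hs
      rw [Subgroup.mem_centralizer_iff]
      intro r hr
      exact hAab r (hRS hr) s hs
    | succ d' =>
      -- `B = S^(d')`, `A = ⁅B, B⁆`
      have hBS : dser S d' ≤ S := dser_le S d'
      have hSB : S ≤ Subgroup.normalizer ((dser S d' : Subgroup X) : Set X) :=
        le_normalizer_dser S d'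
      have hAB : dser S (d' + 1) = ⁅dser S d', dser S d'⁆ := rfl
      obtain ⟨Bb, hBb⟩ : ∃ Bb : Subgroup (X ⧸ pCore 3 X),
          Bb = (dser S d').map (QuotientGroup.mk' (pCore 3 X)) := ⟨_, rfl⟩
      have hBb3 : IsPGroup 3 Bb := by
        rw [hBb]; exact (hS.to_le hBS).map _
      have hAb : ⁅Bb, Bb⁆ = (dser S (d' + 1)).map (QuotientGroup.mk' (pCore 3 X)) := by
        rw [hBb, hAB, Subgroup.map_commutator]
      obtain ⟨N₂, hN₂⟩ : ∃ N₂ : Subgroup N,
          N₂ = ((dser S (d' + 1)).subgroupOf (pCore 3 X)).map q := ⟨_, rfl⟩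
      have hmemN₂ : ∀ w : ↥(pCore 3 X), (w : X) ∈ dser S (d' + 1) → q w ∈ N₂ := by
        intro w hw
        rw [hN₂]
        exact ⟨w, Subgroup.mem_subgroupOf.mpr hw, rfl⟩
      have hthree := Cfsg.Agent.Lib.Helper34_HHThree.three hΓsol hΓcore c hN hfaith Bb hBb3 N₂
        (by
          -- H1
          intro b hb n
          rw [hBb] at hb
          obtain ⟨b, hb, rfl⟩ := hb
          obtain ⟨v, rfl⟩ := hq n
          rw [QuotientGroup.mk'_apply, hdelta, hdelta]
          apply hmemN₂
          rw [hcoe, hAB]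
          have h1 : ((MulAut.conjNormal b v * v⁻¹ : ↥(pCore 3 X)) : X) ∈ dser S d' := by
            rw [hcoe]
            exact comm_mem_of_normalizer hb (hSB (hRS v.2))
          have := Subgroup.commutator_mem_commutator hb h1
          rwa [commutatorElement_def] at this)
        (by
          -- H2
          intro a ha m hm
          rw [hAb] at ha
          obtain ⟨a, ha, rfl⟩ := ha
          rw [hN₂] at hm
          obtain ⟨w, hw, rfl⟩ := hm
          rw [QuotientGroup.mk'_apply]
          exact hfixA a ha w (Subgroup.mem_subgroupOf.mp hw))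
        (by
          -- H3
          intro a ha n
          rw [hAb] at ha
          obtain ⟨a, ha, rfl⟩ := ha
          obtain ⟨v, rfl⟩ := hq n
          rw [QuotientGroup.mk'_apply, hdelta]
          apply hmemN₂
          rw [hcoe]
          exact comm_mem_of_normalizer ha (hSA (hRS v.2)))
      rw [hAb] at hthree
      intro a ha
      have h1 : QuotientGroup.mk' (pCore 3 X) a ∈
          (dser S (d' + 1)).map (QuotientGroup.mk' (pCore 3 X)) := ⟨a, ha, rfl⟩
      rw [hthree, Subgroup.mem_bot, QuotientGroup.mk'_apply, QuotientGroup.eq_one_iff] at h1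
      exact h1
  · -- `p ≥ 5`: quadratic elements are trivial
    intro a ha
    by_contra haR
    apply hp3
    apply abs_p_eq_three (Cfsg.Agent.Lib.Helper10_QuadFinal.dicksonHyp p hp2) hp2 c hN hfaith hΓsol
      (QuotientGroup.mk a) (hquadA a ha)
    rw [hΓcore, Subgroup.mem_bot, QuotientGroup.eq_one_iff]
    exact haR

end KL

section Sylow

variable {p : ℕ} [Fact p.Prime] {G : Type u} [Group G] [Finite G]

/-- **Key lemma**: `P^(d) ≤ O_{p',p}(G)` when `P^(d+1) = 1`, `P` a Sylow `p`-subgroup of the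
`p`-solvable group `G`, `p` odd. -/
theorem dser_le_pPrimePCore (hp2 : p ≠ 2) (hsol : IsPSolvable p G) (P : Sylow p G) (d : ℕ)
    (hd : derivedSeries ↥(P : Subgroup G) (d + 1) = ⊥) :
    dser (P : Subgroup G) d ≤ pPrimePCore p G := by
  haveI hKn : (pPrimeCore p G).Normal := Cfsg.Agent.Lib.Helper76_PSolvable.pPrimeCore_normal p
  have hπ : Function.Surjective (QuotientGroup.mk' (pPrimeCore p G)) :=
    QuotientGroup.mk'_surjective _
  have hXsol : IsPSolvable p (G ⧸ pPrimeCore p G) := isPSolvable_quotient p _ hsol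
  have hXcore : pPrimeCore p (G ⧸ pPrimeCore p G) = ⊥ :=
    Cfsg.Agent.Lib.Helper32_Cores.pPrimeCore_quotient_eq_bot (G := G) p
  have hS : IsPGroup p ((P : Subgroup G).map (QuotientGroup.mk' (pPrimeCore p G))) :=
    P.isPGroup'.map _
  have hRS : pCore p (G ⧸ pPrimeCore p G) ≤
      (P : Subgroup G).map (QuotientGroup.mk' (pPrimeCore p G)) := by
    have := Cfsg.Agent.Lib.Helper1_Cores.pCore_le_sylow p (P.mapSurjective hπ)
    exact this
  have hd' : dser ((P : Subgroup G).map (QuotientGroup.mk' (pPrimeCore p G))) (d + 1) = ⊥ := by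
    rw [dser_map, ← map_derivedSeries_eq_dser, hd, Subgroup.map_bot, Subgroup.map_bot]
  have h1 := dser_le_pCore hp2 hXsol hXcore _ hS hRS d hd'
  rw [dser_map] at h1
  unfold pPrimePCore
  exact Subgroup.map_le_iff_le_comap.mp h1

end Sylow

end Cfsg.Agent.Lib.Helper34_HHDerived
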