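import Cfsg.Agent.S2763
import Cfsg.Agent.Lib.Helper46_Qd3
import Cfsg.Agent.Lib.Helper1_ZJFunctor
import Cfsg.Agent.Lib.Helper1_LocalZJ
import Cfsg.Agent.Lib.Helper1_Cores
import Cfsg.Prelude.Def_LocalEven

/-!
Sections isomorphic to `Qd(p)` are neither `p`-stable (normalizer form) nor have `Z(J(S))`
controlling strong fusion (helper47).  These are the easy halves of S2794 / S2795.
-/

set_option autoImplicit false

namespace Cfsg.Agent.Lib.Helper47_QdSec

open Cfsg
open Cfsg.Agent.Lib.Helper46_Qd Cfsg.Agent.Lib.Helper46_Qd2 Cfsg.Agent.Lib.Helper46_Qd3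
open scoped commutatorElement

/-! ### The translation subgroup is self-centralizing -/

theorem centralizer_transl_le (R : Type*) [CommRing R] :
    Subgroup.centralizer ((transl R : Subgroup (affineSub R)) : Set (affineSub R)) ≤ transl R := by
  intro M hM
  rw [Subgroup.mem_centralizer_iff] at hM
  have key : ∀ a b : R, ent M 0 0 * a + ent M 0 1 * b = a ∧ ent M 1 0 * a + ent M 1 1 * b = b := by
    intro a b
    have hc := hM (mk 1 a b) (transl_mk_mem a b)
    obtain ⟨e1, e2, e3, e4, e5, e6⟩ := ent_mk (1 : Matrix.SpecialLinearGroup (Fin 2) R) a b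
    have c1 := congrArg (fun N : affineSub R => ent N 0 2) hc
    have c2 := congrArg (fun N : affineSub R => ent N 1 2) hc
    simp only [ent_mul_02, ent_mul_12, e1, e2, e3, e4, e5, e6] at c1 c2
    simp at c1 c2
    constructor
    · linear_combination -c1
    · linear_combination -c2
  have k10 := key 1 0
  have k01 := key 0 1
  simp at k10 k01
  rw [mem_transl_iff]
  exact ⟨k10.1, k01.1, k10.2, k01.2⟩

/-! ### Quadratic action inside the Heisenberg group -/

theorem H3_commutator_comm {R : Type*} [CommRing R] (k u w : H3 R) :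
    ⁅k, u⁆ * w = w * ⁅k, u⁆ := by
  have h : ⁅k, u⁆ = ⟨0, 0, k.a * u.b - u.a * k.b⟩ := by
    rw [commutatorElement_def]
    have := H3.comm_eq k u
    rw [← this]; group
  rw [h]
  ext <;> simp
  ring

theorem H3_triple_commutator {R : Type*} [CommRing R] (A B C : Subgroup (H3 R)) :
    ⁅⁅A, B⁆, C⁆ = ⊥ := by
  rw [Subgroup.commutator_eq_bot_iff_le_centralizer, Subgroup.commutator_le]
  intro a _ b _
  rw [Subgroup.mem_centralizer_iff]
  intro c _
  exact (H3_commutator_comm a b c).symm

/-! ### A group isomorphic to `Qd(p)` is not `p`-stable in the normalizer form -/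

/-- the transvection in the Levi complement -/
def uElt (R : Type*) [CommRing R] : affineSub R := iota (⟨1, 0, 0⟩ : H3 R)

theorem uElt_not_mem_transl (R : Type*) [CommRing R] [Nontrivial R] : uElt R ∉ transl R := by
  intro h
  have := (iota_mem_transl_iff (⟨1, 0, 0⟩ : H3 R)).mp h
  exact one_ne_zero this

theorem transl_eq_map_iota (R : Type*) [CommRing R] : transl R = (H3.VH R).map iota := by
  ext M
  constructor
  · intro hM
    obtain ⟨h1, h2, h3, h4⟩ := (mem_transl_iff M).mp hM
    refine ⟨⟨0, ent M 1 2, ent M 0 2⟩, rfl, ?_⟩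
    obtain ⟨e1, e2, e3, e4, e5, e6⟩ := ent_iota (⟨0, ent M 1 2, ent M 0 2⟩ : H3 R)
    apply ext_ent <;> simp_all
  · rintro ⟨x, hx, rfl⟩
    exact (iota_mem_transl_iff x).mpr hx

theorem quadratic_uElt (R : Type*) [CommRing R] :
    ⁅⁅transl R, Subgroup.zpowers (uElt R)⁆, Subgroup.zpowers (uElt R)⁆ = ⊥ := by
  have h1 : Subgroup.zpowers (uElt R) = (Subgroup.zpowers (⟨1, 0, 0⟩ : H3 R)).map iota := by
    rw [MonoidHom.map_zpowers]; rfl
  rw [h1, transl_eq_map_iota, ← Subgroup.map_commutator, ← Subgroup.map_commutator,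
    H3_triple_commutator, Subgroup.map_bot]

variable {p : ℕ} [hp : Fact p.Prime]

theorem not_isNormalizerPStable_of_equiv {X : Type*} [Group X] [Finite X]
    (e : X ≃* affineSub (ZMod p)) : ¬ Cfsg.IsNormalizerPStable p X := by
  intro hst
  set Y := affineSub (ZMod p) with hY
  set P : Subgroup X := (transl (ZMod p)).comap e.toMonoidHom with hP
  have hPn : P.Normal := (transl_normal (R := ZMod p)).comap _
  have hPp : IsPGroup p P :=
    (isPGroup_transl (F := ZMod p) (p := p)).comap_of_injective _ e.injective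
  have hPmap : P.map e.toMonoidHom = transl (ZMod p) :=
    Subgroup.map_comap_eq_self_of_surjective e.surjective _
  set g : X := e.symm (uElt (ZMod p)) with hg
  have heg : e g = uElt (ZMod p) := e.apply_symm_apply _
  have hgN : g ∈ Subgroup.normalizer (P : Set X) := by
    rw [Subgroup.normalizer_eq_top_iff.mpr hPn]; exact Subgroup.mem_top _
  have hquad : ⁅⁅P, Subgroup.zpowers g⁆, Subgroup.zpowers g⁆ = ⊥ := by
    rw [← Subgroup.map_eq_bot_iff_of_injective (f := e.toMonoidHom) _ e.injective,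
      Subgroup.map_commutator, Subgroup.map_commutator, hPmap, MonoidHom.map_zpowers]
    have : e.toMonoidHom g = uElt (ZMod p) := heg
    rw [this]
    exact quadratic_uElt (ZMod p)
  have hmem := hst P hPp g hgN hquad
  -- the centralizer of `P` is `P`
  have hCP : Subgroup.centralizer (P : Set X) ≤ P := by
    intro c hc
    rw [hP, Subgroup.mem_comap]
    apply centralizer_transl_le (ZMod p)
    rw [Subgroup.mem_centralizer_iff]
    intro t ht
    have ht' : e.symm t ∈ P := by
      rw [hP, Subgroup.mem_comap]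
      show e (e.symm t) ∈ transl (ZMod p)
      rw [e.apply_symm_apply]; exact ht
    have := Subgroup.mem_centralizer_iff.mp hc _ ht'
    have h2 := congrArg e this
    rw [map_mul, map_mul, e.apply_symm_apply] at h2
    exact h2
  set N := Subgroup.normalizer (P : Set X) with hN
  set C' := (Subgroup.centralizer (P : Set X)).subgroupOf N with hC'
  set π := QuotientGroup.mk' C' with hπ
  have hC'p : IsPGroup p C' := (hPp.to_le hCP).comap_subtype
  set D' : Subgroup N := (Cfsg.pCore p (N ⧸ C')).comap π with hD'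
  have hD'n : D'.Normal :=
    (Cfsg.Agent.Lib.Helper1_Cores.pCore_normal p).comap _
  have hD'p : IsPGroup p D' := by
    apply (Cfsg.Agent.Lib.Helper1_Cores.pCore_isPGroup p).comap_of_ker_isPGroup
    rw [hπ, QuotientGroup.ker_mk']; exact hC'p
  have hgD' : (⟨g, hgN⟩ : N) ∈ D' := hmem
  set D : Subgroup X := D'.map N.subtype with hD
  have hDp : IsPGroup p D := hD'p.map _
  have hNtop : N = ⊤ := Subgroup.normalizer_eq_top_iff.mpr hPn
  have hDn : D.Normal := by
    constructor
    rintro _ ⟨d, hd, rfl⟩ x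
    have hx : x ∈ N := by rw [hNtop]; exact Subgroup.mem_top _
    refine ⟨⟨x, hx⟩ * d * ⟨x, hx⟩⁻¹, hD'n.conj_mem d hd _, ?_⟩
    simp
  have hgD : g ∈ D := ⟨⟨g, hgN⟩, hgD', rfl⟩
  -- push to `Qd(p)`
  have hDen : (D.map e.toMonoidHom).Normal := hDn.map _ e.surjective
  have hDep : IsPGroup p (D.map e.toMonoidHom) := hDp.map _
  have hle : D.map e.toMonoidHom ≤ Cfsg.pCore p (affineSub (ZMod p)) := le_sSup ⟨hDen, hDep⟩
  rw [pCore_eq_transl (F := ZMod p) (p := p)] at hle
  have hmemT : uElt (ZMod p) ∈ transl (ZMod p) := by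
    rw [← heg]; exact hle ⟨g, hgD, rfl⟩
  have hnt : Nontrivial (ZMod p) := ZMod.nontrivial_iff.mpr hp.out.ne_one
  exact uElt_not_mem_transl (ZMod p) hmemT

/-! ### `Z(J(T))` does not control strong fusion in a group isomorphic to `Qd(p)` -/

omit hp in
/-- If `P` is a self-centralizing normal `p`-subgroup normalizing `W` and `N(W)` controls strong
fusion, then `W` is normal. -/
theorem normalizer_eq_top_of_controlsStrongFusion {X : Type*} [Group X] [Finite X]
    (P W : Subgroup X) [hPn : P.Normal] (hPp : IsPGroup p P)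
    (hCP : Subgroup.centralizer (P : Set X) ≤ P)
    (hPW : P ≤ Subgroup.normalizer (W : Set X)) (h : Cfsg.ControlsStrongFusion p W) :
    Subgroup.normalizer (W : Set X) = ⊤ := by
  obtain ⟨T', _, hctl⟩ := h
  have hPT' : P ≤ (T' : Subgroup X) := hPp.le_sylow_of_normal T'
  rw [eq_top_iff]
  intro g _
  obtain ⟨_, hc⟩ := hctl (P : Set X) hPT'
  have himg : (fun a => g * a * g⁻¹) '' (P : Set X) ⊆ ((T' : Subgroup X) : Set X) := by
    rintro _ ⟨a, ha, rfl⟩
    exact hPT' (hPn.conj_mem a ha g)
  obtain ⟨x, hx, hxa⟩ := hc g himg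
  have hxg : x⁻¹ * g ∈ Subgroup.centralizer (P : Set X) := by
    rw [Subgroup.mem_centralizer_iff]
    intro a ha
    have h1 := hxa a ha
    calc a * (x⁻¹ * g) = x⁻¹ * (x * a * x⁻¹) * g := by group
      _ = x⁻¹ * (g * a * g⁻¹) * g := by rw [h1]
      _ = x⁻¹ * g * a := by group
  have h2 : x⁻¹ * g ∈ Subgroup.normalizer (W : Set X) := hPW (hCP hxg)
  have h3 : g = x * (x⁻¹ * g) := by group
  rw [h3]
  exact Subgroup.mul_mem _ hx h2

/-- `J_A` of a subgroup commutes with isomorphisms of the ambient group (any universes). -/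
theorem thompsonSubgroupAOf_map_equiv {X Y : Type*} [Group X] [Group Y] (e : X ≃* Y)
    (P : Subgroup X) :
    Cfsg.thompsonSubgroupAOf (P.map e.toMonoidHom) =
      (Cfsg.thompsonSubgroupAOf P).map e.toMonoidHom := by
  unfold Cfsg.thompsonSubgroupAOf
  let ε : ↥P ≃* ↥(P.map e.toMonoidHom) := e.subgroupMap P
  have h := Cfsg.Agent.Lib.Helper1_ZJFunctor.thompsonSubgroupA_map ε
  rw [← h, Subgroup.map_map, Subgroup.map_map]
  rfl

theorem map_inf_centralizer_of_injective' {S S' : Type*} [Group S] [Group S'] (f : S →* S')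
    (hf : Function.Injective f) (J : Subgroup S) :
    (J ⊓ Subgroup.centralizer (J : Set S)).map f =
      J.map f ⊓ Subgroup.centralizer ((J.map f : Subgroup S') : Set S') := by
  ext y
  simp only [Subgroup.mem_map, Subgroup.mem_inf, Subgroup.mem_centralizer_iff, SetLike.mem_coe]
  constructor
  · rintro ⟨x, ⟨hxJ, hxC⟩, rfl⟩
    refine ⟨⟨x, hxJ, rfl⟩, ?_⟩
    rintro _ ⟨z, hz, rfl⟩
    rw [← map_mul, ← map_mul, hxC z hz]
  · rintro ⟨⟨x, hxJ, rfl⟩, hyC⟩
    refine ⟨x, ⟨hxJ, ?_⟩, rfl⟩
    intro z hz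
    apply hf
    rw [map_mul, map_mul]
    exact hyC (f z) ⟨z, hz, rfl⟩

theorem centerThompsonAOf_map_equiv {X Y : Type*} [Group X] [Group Y] (e : X ≃* Y)
    (P : Subgroup X) :
    Cfsg.centerThompsonAOf (P.map e.toMonoidHom) =
      (Cfsg.centerThompsonAOf P).map e.toMonoidHom := by
  unfold Cfsg.centerThompsonAOf
  rw [thompsonSubgroupAOf_map_equiv]
  exact (map_inf_centralizer_of_injective' e.toMonoidHom e.injective _).symm

theorem not_controlsStrongFusion_of_equiv {X : Type*} [Group X] [Finite X]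
    (e : X ≃* affineSub (ZMod p)) (T : Sylow p X) :
    ¬ Cfsg.ControlsStrongFusion p (Cfsg.centerThompsonAOf (T : Subgroup X)) := by
  intro hctl
  set P : Subgroup X := (transl (ZMod p)).comap e.toMonoidHom with hP
  have hPn : P.Normal := (transl_normal (R := ZMod p)).comap _
  have hPp : IsPGroup p P :=
    (isPGroup_transl (F := ZMod p) (p := p)).comap_of_injective _ e.injective
  have hCP : Subgroup.centralizer (P : Set X) ≤ P := by
    intro c hc
    rw [hP, Subgroup.mem_comap]
    apply centralizer_transl_le (ZMod p)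
    rw [Subgroup.mem_centralizer_iff]
    intro t ht
    have ht' : e.symm t ∈ P := by
      rw [hP, Subgroup.mem_comap]
      show e (e.symm t) ∈ transl (ZMod p)
      rw [e.apply_symm_apply]; exact ht
    have := Subgroup.mem_centralizer_iff.mp hc _ ht'
    have h2 := congrArg e this
    rw [map_mul, map_mul, e.apply_symm_apply] at h2
    exact h2
  have hPT : P ≤ (T : Subgroup X) := hPp.le_sylow_of_normal T
  have hTW : (T : Subgroup X) ≤ Subgroup.normalizer
      ((Cfsg.centerThompsonAOf (T : Subgroup X) : Subgroup X) : Set X) :=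
    Subgroup.le_normalizer.trans
      (Cfsg.Agent.Lib.Helper1_LocalZJ.normalizer_le_normalizer_zj (p := p) T.2)
  have htop := normalizer_eq_top_of_controlsStrongFusion P _ hPp hCP (hPT.trans hTW) hctl
  -- push to `Qd(p)`
  set S : Sylow p (affineSub (ZMod p)) := T.mapSurjective (f := e.toMonoidHom) e.surjective with hS
  have hSc : (S : Subgroup (affineSub (ZMod p))) = (T : Subgroup X).map e.toMonoidHom := rfl
  have hZJ : Cfsg.centerThompsonAOf (S : Subgroup (affineSub (ZMod p))) =
      (Cfsg.centerThompsonAOf (T : Subgroup X)).map e.toMonoidHom := by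
    rw [hSc]; exact centerThompsonAOf_map_equiv e _
  have hnorm : Subgroup.normalizer ((Cfsg.centerThompsonAOf
      (S : Subgroup (affineSub (ZMod p))) : Subgroup (affineSub (ZMod p))) :
      Set (affineSub (ZMod p))) = ⊤ := by
    rw [hZJ]
    have := Subgroup.map_equiv_normalizer_eq
      (Cfsg.centerThompsonAOf (T : Subgroup X)) e
    rw [← this, htop]
    exact Subgroup.map_top_of_surjective _ e.surjective
  -- `Z(J(S))` as the image of a characteristic subgroup of `S`
  have hW := Cfsg.Agent.Lib.Helper1_ZJFunctor.inducedFunctor_WZJ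
    (S : Subgroup (affineSub (ZMod p)))
  have hWc : (Cfsg.Agent.Lib.Helper1_ZJFunctor.WZJ
      ↥(S : Subgroup (affineSub (ZMod p)))).Characteristic := by
    rw [Subgroup.characteristic_iff_map_eq]
    intro φ
    exact Cfsg.Agent.Lib.Helper1_ZJFunctor.WZJ_map φ
  have hSnt : Nontrivial ↥(S : Subgroup (affineSub (ZMod p))) := by
    have hcard : Nat.card ↥(S : Subgroup (affineSub (ZMod p))) = p ^ 3 := by
      rw [Sylow.card_eq_multiplicity, factorization_card_affineSub]
    have h1 : 1 < Nat.card ↥(S : Subgroup (affineSub (ZMod p))) := by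
      rw [hcard]; exact Nat.one_lt_pow (by norm_num) hp.out.one_lt
    exact Finite.one_lt_card_iff_nontrivial.mp h1
  have hWne : Cfsg.Agent.Lib.Helper1_ZJFunctor.WZJ
      ↥(S : Subgroup (affineSub (ZMod p))) ≠ ⊥ :=
    Cfsg.Agent.Lib.Helper1_ZJFunctor.WZJ_ne_bot (p := p) _ S.2 hSnt
  obtain ⟨h1, h2⟩ := Cfsg.Agent.S2763.main (affineSub (ZMod p)) rfl S _ hWne hWc
  apply h2
  rw [← h1]
  unfold Cfsg.inducedFunctor at hW
  rw [hW]
  exact hnorm

/-! ### Sections isomorphic to `Qd(p)` -/

/-- If `Qd(p)` is involved in `G`, some section of `G` is not `p`-stable (normalizer form). -/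
theorem exists_section_not_isNormalizerPStable {G : Type*} [Group G] [Finite G]
    (h : Cfsg.Involves ↥(Cfsg.qd p) G) :
    ∃ (K R : Subgroup G) (_ : (R.subgroupOf K).Normal),
      ¬ Cfsg.IsNormalizerPStable p (K ⧸ R.subgroupOf K) := by
  obtain ⟨K, R, hR, ⟨e⟩⟩ := h
  exact ⟨K, R, hR, not_isNormalizerPStable_of_equiv (e.trans (MulEquiv.subgroupCongr (qd_eq p)))⟩

/-- The easy half of S2795. -/
theorem not_involves_qd_of_sections_stable {G : Type*} [Group G] [Finite G]
    (h : ∀ (K R : Subgroup G) [_hR : (R.subgroupOf K).Normal],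
      Cfsg.IsNormalizerPStable p (K ⧸ R.subgroupOf K)) :
    ¬ Cfsg.Involves ↥(Cfsg.qd p) G := by
  intro hinv
  obtain ⟨K, R, hR, hns⟩ := exists_section_not_isNormalizerPStable hinv
  exact hns (h K R)

/-- If `Qd(p)` is involved in `G`, then in some section of `G` the subgroup `Z(J(T))` of a Sylow
`p`-subgroup `T` does not control strong fusion. -/
theorem exists_section_not_controlsStrongFusion {G : Type*} [Group G] [Finite G]
    (h : Cfsg.Involves ↥(Cfsg.qd p) G) :
    ∃ (K R : Subgroup G) (_ : (R.subgroupOf K).Normal) (T : Sylow p (K ⧸ R.subgroupOf K)),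
      ¬ Cfsg.ControlsStrongFusion p
        (Cfsg.centerThompsonAOf (T : Subgroup (K ⧸ R.subgroupOf K))) := by
  obtain ⟨K, R, hR, ⟨e⟩⟩ := h
  obtain ⟨T⟩ : Nonempty (Sylow p (K ⧸ R.subgroupOf K)) := Sylow.nonempty
  exact ⟨K, R, hR, T,
    not_controlsStrongFusion_of_equiv (e.trans (MulEquiv.subgroupCongr (qd_eq p))) T⟩

/-- The easy half of S2794. -/
theorem not_involves_qd_of_sections_control {G : Type*} [Group G] [Finite G]
    (h : ∀ (K R : Subgroup G) [_hR : (R.subgroupOf K).Normal],
      ∀ T : Sylow p (K ⧸ R.subgroupOf K), Cfsg.ControlsStrongFusion p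
        (Cfsg.centerThompsonAOf (T : Subgroup (K ⧸ R.subgroupOf K)))) :
    ¬ Cfsg.Involves ↥(Cfsg.qd p) G := by
  intro hinv
  obtain ⟨K, R, hR, T, hns⟩ := exists_section_not_controlsStrongFusion hinv
  exact hns (h K R T)

end Cfsg.Agent.Lib.Helper47_QdSec
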