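import Cfsg.Agent.Lib.Helper34_PStable
import Cfsg.Agent.Lib.Helper24_CoprimeAction

/-!
Helper library (helper34): the minimal configuration of Thompson-type normal `p`-complement
theorems (`X/O_p(X)` with a normal `p`-complement, a Sylow `p`-subgroup maximal in `X`) has a
`PQP`-series: the normal `p`-complement of `X/O_p(X)` is abelian.
-/

set_option autoImplicit false
set_option linter.style.haveILetI false
universe u

namespace Cfsg.Agent.Lib.Helper34_PStableConfig

open Cfsg.Agent.Lib.Helper34_PStable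

open scoped commutatorElement BigOperators
open Cfsg.Agent.Lib.Helper24_CoprimeAction

section Coatom

variable {G : Type*} [Group G]

/-- a subgroup of `N` invariant under `S`, where `S` is "maximal" and `N ∩ S = 1`, is `1` or `N` -/
theorem eq_bot_or_eq_of_invariant (N S : Subgroup G) (hNS : N ⊓ S = ⊥)
    (hmax : ∀ H : Subgroup G, S ≤ H → H = S ∨ H = ⊤) (N₁ : Subgroup G) (h1 : N₁ ≤ N)
    (hS : S ≤ Subgroup.normalizer (N₁ : Set G)) : N₁ = ⊥ ∨ N₁ = N := by
  rcases hmax (N₁ ⊔ S) le_sup_right with h | h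
  · left
    have : N₁ ≤ S := by rw [← h]; exact le_sup_left
    rw [eq_bot_iff, ← hNS]
    exact le_inf h1 this
  · right
    refine le_antisymm h1 ?_
    intro x hx
    have hx' : x ∈ ((N₁ ⊔ S : Subgroup G) : Set G) := by rw [h]; trivial
    rw [Subgroup.coe_mul_of_right_le_normalizer_left N₁ S hS] at hx'
    obtain ⟨n, hn, s, hs, hns⟩ := Set.mem_mul.mp hx'
    have hsN : s ∈ N := by
      have : s = n⁻¹ * x := by rw [← hns]; group
      rw [this]; exact N.mul_mem (N.inv_mem (h1 hn)) hx
    have hs1 : s ∈ N ⊓ S := Subgroup.mem_inf.mpr ⟨hsN, hs⟩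
    rw [hNS, Subgroup.mem_bot] at hs1
    rw [← hns, hs1, mul_one]; exact hn

theorem commutator_lt_of_isPGroup [Finite G] {q : ℕ} [Fact q.Prime] {B : Subgroup G}
    (hBp : IsPGroup q B) (hB : B ≠ ⊥) : ⁅B, B⁆ < B := by
  have hnil : Group.IsNilpotent ↥B := hBp.isNilpotent
  have hnt : Nontrivial ↥B := (Subgroup.nontrivial_iff_ne_bot B).mpr hB
  have h1 := Group.IsSolvable.commutator_lt_top_of_nontrivial ↥B
  refine lt_of_le_of_ne B.commutator_le_self ?_
  intro heq
  rw [← B.map_subtype_commutator] at heq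
  have h2 : (_root_.commutator ↥B).map B.subtype = (⊤ : Subgroup ↥B).map B.subtype := by
    rw [heq, ← MonoidHom.range_eq_map, B.range_subtype]
  exact h1.ne (Subgroup.map_injective B.subtype_injective h2)

/-- a normal `p'`-subgroup `N` of a finite group in which a `p`-subgroup `S` is "maximal" is
abelian -/
theorem commutator_eq_bot_of_coatom [Finite G] {p : ℕ} [Fact p.Prime] (N : Subgroup G) [hN : N.Normal]
    (hNc : (Nat.card N).Coprime p) (S : Subgroup G) (hS : IsPGroup p S)
    (hmax : ∀ H : Subgroup G, S ≤ H → H = S ∨ H = ⊤) : ⁅N, N⁆ = ⊥ := by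
  have hp : p.Prime := Fact.out
  obtain ⟨k, hk⟩ := IsPGroup.iff_card.mp hS
  have hcop : (Nat.card S).Coprime (Nat.card N) := by
    rw [hk]; exact Nat.Coprime.pow_left k hNc.symm
  have hNS : N ⊓ S = ⊥ := (Subgroup.disjoint_of_coprime_natCard hcop.symm).eq_bot
  have hSN : S ≤ Subgroup.normalizer (N : Set G) := by
    rw [Subgroup.normalizer_eq_top]; exact le_top
  by_cases hN1 : N = ⊥
  · rw [hN1, eq_bot_iff]; exact Subgroup.commutator_le_right ⊥ ⊥
  -- a prime divisor `q` of `|N|`
  have hcard : Nat.card N ≠ 1 := by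
    intro h
    exact hN1 ((Subgroup.card_eq_one).mp h)
  obtain ⟨q, hq, hqdvd⟩ := Nat.exists_prime_and_dvd hcard
  haveI : Fact q.Prime := ⟨hq⟩
  have hsolv : Group.IsSolvable S := by
    have : Group.IsNilpotent S := hS.isNilpotent
    infer_instance
  obtain ⟨P, hP⟩ := exists_invariant_sylow S N hSN hcop (Or.inl hsolv) q
  have hPN : sylowImage P ≤ N := by
    rintro _ ⟨x, _, rfl⟩; exact x.2
  have hP1 : sylowImage P ≠ ⊥ := by
    intro h
    have h2 : (P : Subgroup N) = ⊥ := by
      rw [Subgroup.map_eq_bot_iff_of_injective _ N.subtype_injective] at h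
      exact h
    have h3 : q ∣ Nat.card (P : Subgroup N) := P.dvd_card_of_dvd_card hqdvd
    rw [h2, Subgroup.card_bot] at h3
    exact hq.one_lt.ne' (Nat.dvd_one.mp h3)
  have hPeq : sylowImage P = N :=
    (eq_bot_or_eq_of_invariant N S hNS hmax _ hPN hP).resolve_left hP1
  have hNq : IsPGroup q N := by
    have : IsPGroup q (sylowImage P) := P.2.map N.subtype
    rwa [hPeq] at this
  have hcn : (⁅N, N⁆).Normal := inferInstance
  have hcS : S ≤ Subgroup.normalizer ((⁅N, N⁆ : Subgroup G) : Set G) := by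
    rw [Subgroup.normalizer_eq_top]; exact le_top
  rcases eq_bot_or_eq_of_invariant N S hNS hmax ⁅N, N⁆ (Subgroup.commutator_le_self N) hcS with h | h
  · exact h
  · exact absurd h (commutator_lt_of_isPGroup hNq hN1).ne

end Coatom

section Config

/-- the minimal configuration of Thompson-type normal `p`-complement theorems has a `PQP`-series -/
theorem pqp_of_coatom {X : Type*} [Group X] [Finite X] {p : ℕ} [Fact p.Prime] (Q : Subgroup X)
    [hQn : Q.Normal] (hQ : IsPGroup p Q) (N : Subgroup (X ⧸ Q)) [hNn : N.Normal]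
    (hNc : (Nat.card N).Coprime p) (hNi : ∃ n : ℕ, N.index = p ^ n) (T : Sylow p X)
    (hT : IsCoatom (T : Subgroup X)) : PQP p X Q (N.comap (QuotientGroup.mk' Q)) := by
  have hp : p.Prime := Fact.out
  let π := QuotientGroup.mk' Q
  have hπ : Function.Surjective π := QuotientGroup.mk'_surjective Q
  have hker : π.ker = Q := QuotientGroup.ker_mk' Q
  have hQT : Q ≤ (T : Subgroup X) := normal_le_sylow' Q hQ T
  -- the image of `T` is maximal
  have hmax : ∀ H : Subgroup (X ⧸ Q), (T : Subgroup X).map π ≤ H →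
      H = (T : Subgroup X).map π ∨ H = ⊤ := by
    intro H hH
    have h1 : (T : Subgroup X) ≤ H.comap π := Subgroup.map_le_iff_le_comap.mp hH
    rcases eq_or_lt_of_le h1 with h2 | h2
    · left
      rw [h2, Subgroup.map_comap_eq_self_of_surjective hπ]
    · right
      have := hT.2 _ h2
      rw [← Subgroup.map_comap_eq_self_of_surjective hπ H, this, Subgroup.map_top_of_surjective π hπ]
  have hab : ⁅N, N⁆ = ⊥ :=
    commutator_eq_bot_of_coatom N hNc ((T : Subgroup X).map π) (T.2.map π) hmax
  refine ⟨hQn, hNn.comap π, ?_, hQ, ?_, ?_, ?_⟩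
  · exact hker.ge.trans (Subgroup.ker_le_comap π N)
  · have h1 : (⁅N.comap π, N.comap π⁆).map π = ⊥ := by
      rw [Subgroup.map_commutator, Subgroup.map_comap_eq_self_of_surjective hπ, hab]
    exact ((Subgroup.map_eq_bot_iff _).mp h1).trans hker.le
  · intro k hk
    refine ⟨Nat.card N, hNc, ?_⟩
    have h1 : (⟨π k, hk⟩ : N) ^ Nat.card N = 1 := pow_card_eq_one'
    have h2 : π (k ^ Nat.card N) = 1 := by
      rw [map_pow]; exact congrArg Subtype.val h1
    exact hker.le h2
  · intro g
    obtain ⟨n, hn⟩ := hNi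
    refine ⟨n, ?_⟩
    rw [Subgroup.mem_comap, map_pow, ← hn]
    exact Subgroup.pow_index_mem N (π g)

end Config

end Cfsg.Agent.Lib.Helper34_PStableConfig
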