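import Cfsg.Agent.S1969
import Cfsg.Agent.S1990
import Cfsg.Agent.S2007
import Cfsg.Agent.S1978
import Cfsg.Agent.Lib.Helper54_KInf
import Cfsg.Agent.Lib.Helper1_QdStable
import Cfsg.Agent.Lib.Helper47_QdSec
import Cfsg.Agent.Lib.Helper46_Char

/-!
Glue for the `K_∞` rows (helper34): from "`W(S)` is normal in every constrained group all of whose
sections are `p`-stable" (`NormalHyp`, supplied for `K_∞`, `K^∞` by helper33's
`Helper33_KInfStable.kInf_normal`) to

* control of strong fusion in `Qd(p)`-free groups (`controls_of_qdFree`, `controls_sections`);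
* the normal `p`-complement criteria (`npc_of_normalizer`, `npc_of_centralizes`);
* the converse: in a group isomorphic to `Qd(p)` no characteristic functor controls strong
  fusion (`not_controls_of_equiv`).
-/

set_option autoImplicit false

universe u

namespace Cfsg.Agent.Lib.Helper34_KInfGlue

open Cfsg
open Cfsg.Agent.Lib.Helper34_NPC Cfsg.Agent.Lib.Helper34_SecFusion
open Cfsg.Agent.Lib.Helper46_Qd Cfsg.Agent.Lib.Helper46_Qd2 Cfsg.Agent.Lib.Helper46_Qd3

variable {p : ℕ} [Fact p.Prime]

/-- the normality hypothesis on a functor `W`: `W(S)` is normal in every constrained finite group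
all of whose sections are `p`-stable in the normalizer form -/
def NormalHyp (p : ℕ) (W : ∀ (Q : Type u) [Group Q], Subgroup Q) : Prop :=
  ∀ (X : Type u) [Group X] [Finite X],
    (∀ (K R : Subgroup X) [hR : (R.subgroupOf K).Normal],
      Cfsg.IsNormalizerPStable p (↥K ⧸ R.subgroupOf K)) →
    Subgroup.centralizer ((Cfsg.pCore p X : Subgroup X) : Set X) ≤ Cfsg.pCore p X →
    ∀ S : Sylow p X, (Cfsg.inducedFunctor (G := X) W (S : Subgroup X)).Normal

/-- sections of a `Qd(p)`-free group are `Qd(p)`-free -/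
theorem qdFree_section {G : Type*} [Group G] (h : ¬ Cfsg.Involves ↥(Cfsg.qd p) G)
    (K R : Subgroup G) [(R.subgroupOf K).Normal] :
    ¬ Cfsg.Involves ↥(Cfsg.qd p) (↥K ⧸ R.subgroupOf K) := fun h' =>
  h (involves_of_subgroup K (involves_of_surjective (QuotientGroup.mk' (R.subgroupOf K))
    (QuotientGroup.mk'_surjective _) h'))

/-- all sections of a `Qd(p)`-free group are `p`-stable (`p` odd) -/
theorem sections_stable_of_qdFree (hp : p ≠ 2) {G : Type*} [Group G] [Finite G]
    (h : ¬ Cfsg.Involves ↥(Cfsg.qd p) G) (K R : Subgroup G) [(R.subgroupOf K).Normal] :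
    Cfsg.IsNormalizerPStable p (↥K ⧸ R.subgroupOf K) :=
  Cfsg.Agent.Lib.Helper1_QdStable.isNormalizerPStable_of_qdFree hp (qdFree_section h K R)

theorem isChar_singleton {W : ∀ (Q : Type u) [Group Q], Subgroup Q}
    (hW : Cfsg.IsCharPFunctor.{u} p W) :
    ∀ W' ∈ ({W} : Set (∀ (Q : Type u) [Group Q], Subgroup Q)), Cfsg.IsCharPFunctor.{u} p W' := by
  intro W' hW'
  rw [Set.mem_singleton_iff] at hW'
  rw [hW']; exact hW

/-- the section hypothesis of `Helper34_SecFusion` in a `Qd(p)`-free group -/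
theorem secGood_of_qdFree (hp : p ≠ 2) {W : ∀ (Q : Type u) [Group Q], Subgroup Q}
    (hW : Cfsg.IsCharPFunctor.{u} p W) (HN : NormalHyp.{u} p W) {G : Type u} [Group G] [Finite G]
    (h : ¬ Cfsg.Involves ↥(Cfsg.qd p) G) : SecGood p {W} G := by
  classical
  apply secGood_of_sections (isChar_singleton hW)
  intro K R _ hcon
  obtain T : Sylow p (↥K ⧸ R.subgroupOf K) := default
  have h' := qdFree_section h K R
  exact good_of_normal T (HN _ (fun K' R' _ => sections_stable_of_qdFree hp h' K' R') hcon T)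

/-- `W(S)` controls strong fusion in a `Qd(p)`-free group -/
theorem controls_of_qdFree (hp : p ≠ 2) {W : ∀ (Q : Type u) [Group Q], Subgroup Q}
    (hW : Cfsg.IsCharPFunctor.{u} p W) (HN : NormalHyp.{u} p W) {G : Type u} [Group G] [Finite G]
    (h : ¬ Cfsg.Involves ↥(Cfsg.qd p) G) (S : Sylow p G) :
    Cfsg.ControlsStrongFusion p (Cfsg.inducedFunctor (G := G) W (S : Subgroup G)) := by
  classical
  have hgood : Good p {W} G := main (isChar_singleton hW) _ _ rfl (secGood_of_qdFree hp hW HN h)
  refine ⟨S, inducedFunctor_le W _, ?_⟩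
  intro A hA
  refine ⟨hA, ?_⟩
  intro g hgA
  exact exists_normalizer_of_good hW S hgood hA hgA

/-- `W(S)` controls strong fusion in a group all of whose sections are `p`-stable -/
theorem controls_of_stable (hp : p ≠ 2) {W : ∀ (Q : Type u) [Group Q], Subgroup Q}
    (hW : Cfsg.IsCharPFunctor.{u} p W) (HN : NormalHyp.{u} p W) {G : Type u} [Group G] [Finite G]
    (hst : ∀ (K R : Subgroup G) [hR : (R.subgroupOf K).Normal],
      Cfsg.IsNormalizerPStable p (↥K ⧸ R.subgroupOf K)) (S : Sylow p G) :
    Cfsg.ControlsStrongFusion p (Cfsg.inducedFunctor (G := G) W (S : Subgroup G)) :=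
  controls_of_qdFree hp hW HN
    (Cfsg.Agent.Lib.Helper47_QdSec.not_involves_qd_of_sections_stable (fun K R _ => hst K R)) S

/-- control of strong fusion in all sections of a `Qd(p)`-free group -/
theorem controls_sections (hp : p ≠ 2) {W : ∀ (Q : Type u) [Group Q], Subgroup Q}
    (hW : Cfsg.IsCharPFunctor.{u} p W) (HN : NormalHyp.{u} p W) {G : Type u} [Group G] [Finite G]
    (h : ¬ Cfsg.Involves ↥(Cfsg.qd p) G) (K R : Subgroup G) [hR : (R.subgroupOf K).Normal]
    (T : Sylow p (↥K ⧸ R.subgroupOf K)) :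
    Cfsg.ControlsStrongFusion p
      (Cfsg.inducedFunctor (G := (↥K ⧸ R.subgroupOf K)) W (T : Subgroup (↥K ⧸ R.subgroupOf K))) :=
  controls_of_qdFree hp hW HN (qdFree_section h K R) T

/-- the normal `p`-complement criterion: `N_G(W(S))` has a normal `p`-complement -/
theorem npc_of_normalizer (hp : p ≠ 2) {W : ∀ (Q : Type u) [Group Q], Subgroup Q}
    (hW : Cfsg.IsCharPFunctor.{u} p W) (HN : NormalHyp.{u} p W) {G : Type u} [Group G] [Finite G]
    (S : Sylow p G)
    (hN : Cfsg.HasNormalPComplement p ↥(Subgroup.normalizer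
      ((Cfsg.inducedFunctor (G := G) W (S : Subgroup G) : Subgroup G) : Set G))) :
    Cfsg.HasNormalPComplement p G := by
  refine Cfsg.Agent.S1990.result hp W hW S hN ?_
  intro K R _ hst T
  exact controls_of_stable hp hW HN (fun K' R' _ => hst K' R') T

/-- `W(S)` is normalized by `S` -/
theorem le_normalizer_induced {W : ∀ (Q : Type u) [Group Q], Subgroup Q}
    (hW : Cfsg.IsCharPFunctor.{u} p W) {G : Type u} [Group G] [Finite G] (S : Sylow p G) :
    (S : Subgroup G) ≤ Subgroup.normalizer
      ((Cfsg.inducedFunctor (G := G) W (S : Subgroup G) : Subgroup G) : Set G) :=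
  Subgroup.le_normalizer.trans (normalizer_le_normalizer_inducedFunctor hW _ S.2)

/-- the normal `p`-complement criterion: `N_G(W(S)) / C_G(W(S))` is a `p`-group, for a functor with
`C_S(W(S)) ≤ W(S)` -/
theorem npc_of_centralizes (hp : p ≠ 2) {W : ∀ (Q : Type u) [Group Q], Subgroup Q}
    (hW : Cfsg.IsCharPFunctor.{u} p W) (HN : NormalHyp.{u} p W) {G : Type u} [Group G] [Finite G]
    (S : Sylow p G)
    (hcen : Subgroup.centralizer ((W ↥(S : Subgroup G) : Subgroup ↥(S : Subgroup G)) :
      Set ↥(S : Subgroup G)) ≤ W ↥(S : Subgroup G))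
    (hN : ∀ g ∈ Subgroup.normalizer
      ((Cfsg.inducedFunctor (G := G) W (S : Subgroup G) : Subgroup G) : Set G),
      (orderOf g).Coprime p → g ∈ Subgroup.centralizer
        ((Cfsg.inducedFunctor (G := G) W (S : Subgroup G) : Subgroup G) : Set G)) :
    Cfsg.HasNormalPComplement p G := by
  apply npc_of_normalizer hp hW HN S
  refine Cfsg.Agent.S2007.result S _ (inducedFunctor_le W _) (le_normalizer_induced hW S) ?_ hN
  rintro x ⟨hxS, hxC⟩
  have h1 : (⟨x, hxS⟩ : ↥(S : Subgroup G)) ∈ Subgroup.centralizer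
      ((W ↥(S : Subgroup G) : Subgroup ↥(S : Subgroup G)) : Set ↥(S : Subgroup G)) := by
    rw [Subgroup.mem_centralizer_iff]
    intro y hy
    have h2 := Subgroup.mem_centralizer_iff.mp hxC (y : G) ⟨y, hy, rfl⟩
    exact Subtype.ext h2
  exact ⟨⟨x, hxS⟩, hcen h1, rfl⟩

/-! ### The converse: no characteristic functor controls strong fusion in `Qd(p)` -/

/-- In a group isomorphic to `Qd(p)`, `W(T)` does not control strong fusion. -/
theorem not_controls_of_equiv {W : ∀ (Q : Type u) [Group Q], Subgroup Q}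
    (hW : Cfsg.IsCharPFunctor.{u} p W) {X : Type u} [Group X] [Finite X]
    (e : X ≃* affineSub (ZMod p)) (T : Sylow p X) :
    ¬ Cfsg.ControlsStrongFusion p (Cfsg.inducedFunctor (G := X) W (T : Subgroup X)) := by
  intro hctl
  set P : Subgroup X := (transl (ZMod p)).comap e.toMonoidHom with hP
  have hPn : P.Normal := (transl_normal (R := ZMod p)).comap _
  have hPp : IsPGroup p P :=
    (isPGroup_transl (F := ZMod p) (p := p)).comap_of_injective _ e.injective
  have hCP : Subgroup.centralizer (P : Set X) ≤ P := by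
    intro c hc
    rw [hP, Subgroup.mem_comap]
    apply Cfsg.Agent.Lib.Helper47_QdSec.centralizer_transl_le (ZMod p)
    rw [Subgroup.mem_centralizer_iff]
    intro t ht
    have ht' : e.symm t ∈ P := by
      rw [hP, Subgroup.mem_comap]
      show e (e.symm t) ∈ transl (ZMod p)
      rw [e.apply_symm_apply]; exact ht
    have := Subgroup.mem_centralizer_iff.mp hc _ ht'
    have h2 := congrArg e this
    rw [map_mul, map_mul, e.apply_symm_apply] at h2
    exact h2
  have hPT : P ≤ (T : Subgroup X) := hPp.le_sylow_of_normal T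
  have htop := Cfsg.Agent.Lib.Helper47_QdSec.normalizer_eq_top_of_controlsStrongFusion P _ hPp hCP
    (hPT.trans (le_normalizer_induced hW T)) hctl
  -- push to `Qd(p)`
  set S : Sylow p (affineSub (ZMod p)) := T.mapSurjective (f := e.toMonoidHom) e.surjective with hS
  have hSc : (S : Subgroup (affineSub (ZMod p))) = (T : Subgroup X).map e.toMonoidHom := rfl
  let ε : ↥(T : Subgroup X) ≃* ↥(S : Subgroup (affineSub (ZMod p))) :=
    e.subgroupMap (T : Subgroup X)
  have hWc : (W ↥(T : Subgroup X)).Characteristic := by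
    rw [Subgroup.characteristic_iff_map_eq]
    intro φ
    exact hW.2 _ _ T.2 φ
  have hT0c : ((W ↥(T : Subgroup X)).map ε.toMonoidHom).Characteristic :=
    Cfsg.Agent.Lib.Helper46_Char.characteristic_map_equiv ε _
  have hTnt : Nontrivial ↥(T : Subgroup X) := by
    have hcard : Nat.card ↥(S : Subgroup (affineSub (ZMod p))) = p ^ 3 := by
      rw [Sylow.card_eq_multiplicity, factorization_card_affineSub]
    have h1 : 1 < Nat.card ↥(T : Subgroup X) := by
      rw [Nat.card_congr ε.toEquiv, hcard]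
      exact Nat.one_lt_pow (by norm_num) (Fact.out : p.Prime).one_lt
    exact Finite.one_lt_card_iff_nontrivial.mp h1
  have hT0ne : (W ↥(T : Subgroup X)).map ε.toMonoidHom ≠ ⊥ := by
    intro h
    exact hW.1 _ T.2 hTnt ((Subgroup.map_eq_bot_iff_of_injective _ ε.injective).mp h)
  obtain ⟨h1, h2⟩ := Cfsg.Agent.S2763.main (affineSub (ZMod p)) rfl S _ hT0ne hT0c
  apply h2
  rw [← h1]
  have hmap : ((W ↥(T : Subgroup X)).map ε.toMonoidHom).map
      (S : Subgroup (affineSub (ZMod p))).subtype =
      (Cfsg.inducedFunctor (G := X) W (T : Subgroup X)).map e.toMonoidHom := by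
    unfold Cfsg.inducedFunctor
    rw [Subgroup.map_map, Subgroup.map_map]
    rfl
  rw [hmap]
  have := Subgroup.map_equiv_normalizer_eq (Cfsg.inducedFunctor (G := X) W (T : Subgroup X)) e
  rw [← this, htop]
  exact Subgroup.map_top_of_surjective _ e.surjective

/-- If `Qd(p)` is involved in `G`, then in some section of `G` the subgroup `W(T)` of a Sylow
`p`-subgroup `T` does not control strong fusion. -/
theorem exists_section_not_controls {W : ∀ (Q : Type u) [Group Q], Subgroup Q}
    (hW : Cfsg.IsCharPFunctor.{u} p W) {G : Type u} [Group G] [Finite G]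
    (h : Cfsg.Involves ↥(Cfsg.qd p) G) :
    ∃ (K R : Subgroup G) (_ : (R.subgroupOf K).Normal) (T : Sylow p (↥K ⧸ R.subgroupOf K)),
      ¬ Cfsg.ControlsStrongFusion p (Cfsg.inducedFunctor (G := (↥K ⧸ R.subgroupOf K)) W
        (T : Subgroup (↥K ⧸ R.subgroupOf K))) := by
  obtain ⟨K, R, hR, ⟨e⟩⟩ := h
  obtain ⟨T⟩ : Nonempty (Sylow p (↥K ⧸ R.subgroupOf K)) := Sylow.nonempty
  exact ⟨K, R, hR, T, not_controls_of_equiv hW (e.trans (MulEquiv.subgroupCongr (qd_eq p))) T⟩

end Cfsg.Agent.Lib.Helper34_KInfGlue
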