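import Cfsg.Agent.Lib.Helper34_PStable
import Cfsg.Agent.Lib.Helper1_Cores
import Cfsg.Agent.Lib.Helper32_PGroup

/-!
Helper library (helper34): the norm `∑_{i<p} x^i` of an element with `(x-1)^(p-1) = 0` on an
elementary abelian `p`-group, the general form of the base case of `Helper34_PStable`, and the
chief-factor lemma for the minimal configuration of Thompson-type normal `p`-complement theorems.
-/

set_option autoImplicit false
set_option linter.style.haveILetI false
set_option linter.unusedSectionVars false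
universe u

namespace Cfsg.Agent.Lib.Helper34_Norm

open scoped BigOperators commutatorElement
open Cfsg.Agent.Lib.Helper34_PStable



section Ring

variable {R : Type*} [Ring R]

theorem one_add_pow_eq (D : R) (n : ℕ) :
    (1 + D) ^ n = ∑ j ∈ Finset.range (n + 1), (n.choose j : R) * D ^ j := by
  rw [add_comm, (Commute.one_right D).add_pow n]
  apply Finset.sum_congr rfl
  intro j _
  rw [one_pow, mul_one, (Nat.cast_commute (n.choose j) (D ^ j)).eq]

/-- `∑_{i<n} (1+D)^i = ∑_{j<n} C(n,j+1) D^j` -/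
theorem geom_sum_one_add (D : R) (n : ℕ) :
    ∑ i ∈ Finset.range n, (1 + D) ^ i = ∑ j ∈ Finset.range n, (n.choose (j + 1) : R) * D ^ j := by
  induction n with
  | zero => simp
  | succ n ih =>
    rw [Finset.sum_range_succ, ih, one_add_pow_eq]
    have h1 : ∑ j ∈ Finset.range (n + 1), ((n + 1).choose (j + 1) : R) * D ^ j
        = ∑ j ∈ Finset.range (n + 1), (n.choose j : R) * D ^ j
          + ∑ j ∈ Finset.range (n + 1), (n.choose (j + 1) : R) * D ^ j := by
      rw [← Finset.sum_add_distrib]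
      apply Finset.sum_congr rfl
      intro j _
      rw [Nat.choose_succ_succ, Nat.cast_add, add_mul]
    rw [h1, Finset.sum_range_succ (fun j => (n.choose (j + 1) : R) * D ^ j) n,
      Nat.choose_succ_self, Nat.cast_zero, zero_mul, add_zero, add_comm]

/-- in "characteristic `p`": if `D^(p-1) = 0` then `∑_{i<p} (1+D)^i = 0` and `(1+D)^p = 1` -/
theorem norm_eq_zero_of_pow_eq_zero {p : ℕ} (hp : p.Prime) (hpR : ∀ r : R, (p : R) * r = 0)
    (D : R) (hD : D ^ (p - 1) = 0) :
    ∑ i ∈ Finset.range p, (1 + D) ^ i = 0 ∧ (1 + D) ^ p = 1 := by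
  have hchoose : ∀ j : ℕ, 0 < j → j < p → ∀ r : R, (p.choose j : R) * r = 0 := by
    intro j hj0 hjp r
    obtain ⟨c, hc⟩ := hp.dvd_choose_self hj0.ne' hjp
    rw [hc, Nat.cast_mul, mul_assoc, hpR]
  constructor
  · rw [geom_sum_one_add]
    apply Finset.sum_eq_zero
    intro j hj
    have hjp : j < p := Finset.mem_range.mp hj
    by_cases h : j + 1 < p
    · exact hchoose (j + 1) (Nat.succ_pos j) h _
    · have : j = p - 1 := by omega
      rw [this, hD, mul_zero]
  · rw [one_add_pow_eq, Finset.sum_range_succ]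
    have hDp : D ^ p = 0 := by
      have : p = (p - 1) + 1 := by have := hp.one_lt; omega
      rw [this, pow_succ, hD, zero_mul]
    rw [hDp, mul_zero, add_zero]
    rw [Finset.sum_eq_single 0]
    · rw [Nat.choose_zero_right, Nat.cast_one, pow_zero, mul_one]
    · intro j hj hj0
      exact hchoose j (Nat.pos_of_ne_zero hj0) (Finset.mem_range.mp hj) _
    · intro h
      exact absurd (Finset.mem_range.mpr hp.pos) h

end Ring


section Mult

variable {Y M : Type*} [Group Y] [CommGroup M] [MulDistribMulAction Y M]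

/-- multiplicative form: if `(x-1)^(p-1)` kills the elementary abelian `p`-group `M`, then the
norm `∏_{i<p} x^i` kills `M` and `x^p` acts trivially. -/
theorem norm_eq_one_of_iterate (x : Y) {p : ℕ} (hp : p.Prime) (hMp : ∀ m : M, m ^ p = 1)
    (hD : ∀ m : M, (fun m' : M => x • m' * m'⁻¹)^[p - 1] m = 1) :
    (∀ m : M, ∏ i ∈ Finset.range p, (x ^ i) • m = 1) ∧ ∀ m : M, (x ^ p) • m = m := by
  let A : AddMonoid.End (Additive M) := MonoidHom.toAdditive (MulDistribMulAction.toMonoidHom M x)
  have hA : ∀ m : M, A (Additive.ofMul m) = Additive.ofMul (x • m) := fun m => rfl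
  have hApow : ∀ (i : ℕ) (m : M), (A ^ i) (Additive.ofMul m) = Additive.ofMul ((x ^ i) • m) := by
    intro i
    induction i with
    | zero => intro m; simp
    | succ i ih =>
      intro m
      have e : (A ^ (i + 1)) (Additive.ofMul m) = (A ^ i) (A (Additive.ofMul m)) := by
        rw [pow_succ]; rfl
      rw [e, hA, ih, pow_succ, mul_smul]
  set D : AddMonoid.End (Additive M) := A - 1 with hDdef
  have hDapp : ∀ m : M, D (Additive.ofMul m) = Additive.ofMul (x • m * m⁻¹) := by
    intro m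
    have e : D (Additive.ofMul m) = A (Additive.ofMul m) - Additive.ofMul m := rfl
    rw [e, hA, ← ofMul_div, div_eq_mul_inv]
  have hDpow : ∀ (j : ℕ) (m : M), (D ^ j) (Additive.ofMul m)
      = Additive.ofMul ((fun m' : M => x • m' * m'⁻¹)^[j] m) := by
    intro j
    induction j with
    | zero => intro m; simp
    | succ j ih =>
      intro m
      have e : (D ^ (j + 1)) (Additive.ofMul m) = (D ^ j) (D (Additive.ofMul m)) := by
        rw [pow_succ]; rfl
      rw [e, hDapp, ih, Function.iterate_succ_apply]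
  have hD0 : D ^ (p - 1) = 0 := by
    ext v
    have := hDpow (p - 1) (Additive.toMul v)
    rw [ofMul_toMul] at this
    rw [this, hD]
    rfl
  have hpR : ∀ r : AddMonoid.End (Additive M), (p : AddMonoid.End (Additive M)) * r = 0 := by
    intro r
    ext v
    have e : ((p : AddMonoid.End (Additive M)) * r) v = (p : AddMonoid.End (Additive M)) (r v) := rfl
    rw [e, AddMonoid.End.natCast_apply]
    have : p • (r v) = Additive.ofMul ((Additive.toMul (r v)) ^ p) := rfl
    rw [this, hMp]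
    rfl
  obtain ⟨h1, h2⟩ := norm_eq_zero_of_pow_eq_zero hp hpR D hD0
  have hAD : 1 + D = A := by rw [hDdef]; abel
  rw [hAD] at h1 h2
  constructor
  · intro m
    have e1 : Additive.ofMul (∏ i ∈ Finset.range p, (x ^ i) • m)
        = (∑ i ∈ Finset.range p, A ^ i) (Additive.ofMul m) := by
      rw [ofMul_prod]
      have e2 : (∑ i ∈ Finset.range p, A ^ i) (Additive.ofMul m)
          = ∑ i ∈ Finset.range p, (A ^ i) (Additive.ofMul m) :=
        AddMonoidHom.finsetSum_apply _ _ _
      rw [e2]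
      apply Finset.sum_congr rfl
      intro i _
      rw [hApow]
    rw [h1] at e1
    exact e1
  · intro m
    have := hApow p m
    rw [h2] at this
    exact (Additive.ofMul.injective this).symm

end Mult




section General

variable {X M : Type*} [Group X] [Finite X] [CommGroup M] [MulDistribMulAction X M]

/-- general form of the base case: `X` with a `PQP`-series acts on the elementary abelian `p`-group
`M`, `Q` acting trivially. If the norm of `a` kills `M` and `a^p` acts trivially, then `[K, a]`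
acts trivially on `M`. -/
theorem trivial_action_of_norm {p : ℕ} [Fact p.Prime] {Q K : Subgroup X} (h : PQP p X Q K)
    (hQM : ∀ q ∈ Q, ∀ m : M, q • m = m) (hMp : ∀ m : M, m ^ p = 1) (a : X)
    (hxp : ∀ m : M, (a ^ p) • m = m)
    (hN : ∀ m : M, ∏ i ∈ Finset.range p, (a ^ i) • m = 1) :
    ∀ k ∈ K, ∀ m : M, ⁅k, a⁆ • m = m := by
  have hp : p.Prime := Fact.out
  have hKn := h.Kn
  let ρ : X →* MulAut M := MulDistribMulAction.toMulAut X M
  have hρ : ∀ (g : X) (m : M), ρ g • m = g • m := fun g m => rfl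
  let A : Subgroup (MulAut M) := K.map ρ
  have hAfin : Finite A := by
    have : Finite ((K.map ρ : Subgroup (MulAut M)) : Set (MulAut M)) := by
      rw [Subgroup.coe_map]; exact Set.Finite.image _ (Set.toFinite _)
    exact this
  letI : Fintype A := Fintype.ofFinite A
  have hker : ∀ g : X, (∀ m : M, g • m = m) → ρ g = 1 := by
    intro g hg
    ext m
    exact hg m
  have hA : ∀ α ∈ A, ∀ β ∈ A, α * β = β * α := by
    rintro _ ⟨k1, hk1, rfl⟩ _ ⟨k2, hk2, rfl⟩
    have h2 : ρ ⁅k1, k2⁆ = 1 :=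
      hker _ (hQM _ (h.comm (Subgroup.commutator_mem_commutator hk1 hk2)))
    have h3 : k1 * k2 = ⁅k1, k2⁆ * (k2 * k1) := by rw [commutatorElement_def]; group
    rw [← map_mul, ← map_mul, h3, map_mul, h2, one_mul]
  have hxA : ∀ α ∈ A, ρ a * α * (ρ a)⁻¹ ∈ A := by
    rintro _ ⟨k, hk, rfl⟩
    refine ⟨a * k * a⁻¹, hKn.conj_mem k hk a, ?_⟩
    rw [map_mul, map_mul, map_inv]
  have hxp' : (ρ a) ^ p = 1 := by
    rw [← map_pow]; exact hker _ hxp
  have hN' : ∀ m : M, ∏ i ∈ Finset.range p, ((ρ a) ^ i) • m = 1 := by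
    intro m
    rw [← hN m]
    apply Finset.prod_congr rfl
    intro i _
    rw [← map_pow, hρ]
  have hcop : (Fintype.card A).Coprime p := by
    rw [Nat.coprime_comm, Nat.Prime.coprime_iff_not_dvd hp]
    intro hdvd
    obtain ⟨α, hα⟩ := exists_prime_orderOf_dvd_card p hdvd
    obtain ⟨k, hk, hkα⟩ := α.2
    obtain ⟨n, hn, hkn⟩ := h.cop k hk
    have h1 : ρ (k ^ n) = 1 := hker _ (hQM _ hkn)
    have h2 : α ^ n = 1 := by
      apply Subtype.ext
      rw [Subgroup.coe_pow, ← hkα, ← map_pow, h1]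
      rfl
    have h3 : p ∣ n := by
      rw [← hα]; exact orderOf_dvd_of_pow_eq_one h2
    have h4 : p ∣ Nat.gcd n p := Nat.dvd_gcd h3 dvd_rfl
    rw [hn] at h4
    exact hp.one_lt.ne' (Nat.dvd_one.mp h4)
  have hM : ∀ m : M, m ^ Fintype.card A = 1 → m = 1 := by
    intro m hm
    have h2 : m ^ (Nat.gcd (Fintype.card A) p) = 1 := pow_gcd_eq_one.mpr ⟨hm, hMp m⟩
    rwa [hcop, pow_one] at h2
  have hmain := module_lemma A hA (ρ a) p hp hxA hxp' hN' hM
  intro k hk m
  have h1 := hmain (ρ k) ⟨k, hk, rfl⟩ m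
  rw [← hρ, commutatorElement_def, map_mul, map_mul, map_mul, map_inv, map_inv]
  exact h1

end General




section Config

variable {Y : Type*} [Group Y] [Finite Y] {p : ℕ} [Fact p.Prime]

theorem sylow_inf_eq {Q K : Subgroup Y} (h : PQP p Y Q K) (T : Sylow p Y) :
    (T : Subgroup Y) ⊓ K = Q := by
  have hQn := h.Qn
  apply le_antisymm
  · intro x hx
    obtain ⟨hxT, hxK⟩ := Subgroup.mem_inf.mp hx
    obtain ⟨n, hn, hxn⟩ := h.cop x hxK
    obtain ⟨j, hj⟩ := T.2 ⟨x, hxT⟩
    have hj' : x ^ (p ^ j) = 1 := by simpa using congrArg Subtype.val hj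
    have := mem_sup_of_pow_mem (A := Q) (B := ⊥) (g := x) (Nat.Coprime.pow_right j hn) hxn
      (by rw [hj']; exact Subgroup.one_mem _)
    simpa using this
  · exact le_inf (normal_le_sylow' Q h.Qp T) h.QK

theorem normal_between {Q K : Subgroup Y} (h : PQP p Y Q K) (T : Sylow p Y)
    (hT : IsCoatom (T : Subgroup Y)) (K₁ : Subgroup Y) [hK₁ : K₁.Normal] (hQK₁ : Q ≤ K₁)
    (hK₁K : K₁ ≤ K) : K₁ = Q ∨ K₁ = K := by
  have hle : (T : Subgroup Y) ≤ (T : Subgroup Y) ⊔ K₁ := le_sup_left
  rcases eq_or_lt_of_le hle with h1 | h1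
  · left
    apply le_antisymm _ hQK₁
    have : K₁ ≤ (T : Subgroup Y) := by rw [h1]; exact le_sup_right
    rw [← sylow_inf_eq h T]
    exact le_inf this hK₁K
  · right
    have htop := hT.2 _ h1
    apply le_antisymm hK₁K
    intro x hx
    have hx' : x ∈ (((T : Subgroup Y) ⊔ K₁ : Subgroup Y) : Set Y) := by rw [htop]; trivial
    rw [Subgroup.mul_normal] at hx'
    obtain ⟨t, ht, k, hk, htk⟩ := Set.mem_mul.mp hx'
    have htK : t ∈ K := by
      have : t = x * k⁻¹ := by rw [← htk]; group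
      rw [this]; exact K.mul_mem hx (K.inv_mem (hK₁K hk))
    have htQ : t ∈ Q := by rw [← sylow_inf_eq h T]; exact Subgroup.mem_inf.mpr ⟨ht, htK⟩
    rw [← htk]
    exact K₁.mul_mem (hQK₁ htQ) hk

/-- an element of a Sylow `p`-subgroup centralizing `K/Q` lies in `O_p` -/
theorem mem_pCore_of_centralizes_mod {Q K : Subgroup Y} (h : PQP p Y Q K) (T : Sylow p Y)
    {t : Y} (ht : t ∈ (T : Subgroup Y)) (hcomm : ∀ k ∈ K, ⁅k, t⁆ ∈ Q) : t ∈ Cfsg.pCore p Y := by
  have hQn := h.Qn
  have hKn := h.Kn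
  let πQ := QuotientGroup.mk' Q
  set L : Subgroup Y :=
    (Subgroup.centralizer ((K.map πQ : Subgroup (Y ⧸ Q)) : Set (Y ⧸ Q))).comap πQ with hL
  have hKQn : (K.map πQ).Normal := hKn.map πQ (QuotientGroup.mk'_surjective Q)
  have hLn : L.Normal := by
    have : (Subgroup.centralizer ((K.map πQ : Subgroup (Y ⧸ Q)) : Set (Y ⧸ Q))).Normal :=
      inferInstance
    exact this.comap πQ
  have hLmem : ∀ g : Y, g ∈ L ↔ ∀ k ∈ K, ⁅k, g⁆ ∈ Q := by
    intro g
    rw [hL, Subgroup.mem_comap, Subgroup.mem_centralizer_iff]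
    constructor
    · intro hg k hk
      have h1 := hg (πQ k) (Subgroup.mem_map_of_mem πQ hk)
      have h2 : πQ ⁅k, g⁆ = 1 := by
        rw [map_commutatorElement, commutatorElement_def, h1]; group
      exact (QuotientGroup.eq_one_iff _).mp h2
    · rintro hg _ ⟨k, hk, rfl⟩
      have h1 : πQ ⁅k, g⁆ = 1 := (QuotientGroup.eq_one_iff _).mpr (hg k hk)
      rw [map_commutatorElement, commutatorElement_def] at h1
      have h2 : πQ k * πQ g = (πQ k * πQ g * (πQ k)⁻¹ * (πQ g)⁻¹) * (πQ g * πQ k) := by group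
      rw [h2, h1, one_mul]
  set D : Subgroup Y := (T : Subgroup Y) ⊓ L with hD
  have hQT : Q ≤ (T : Subgroup Y) := normal_le_sylow' Q h.Qp T
  have hQL : Q ≤ L := by
    intro q hq
    rw [hLmem]
    intro k _
    rw [commutatorElement_def]
    exact Q.mul_mem (hQn.conj_mem q hq k) (Q.inv_mem hq)
  have hTc : ∀ g ∈ (T : Subgroup Y), ∀ y ∈ D, g * y * g⁻¹ ∈ D := by
    intro g hg y hy
    rw [hD, Subgroup.mem_inf] at hy ⊢
    exact ⟨(T : Subgroup Y).mul_mem ((T : Subgroup Y).mul_mem hg hy.1) ((T : Subgroup Y).inv_mem hg),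
      hLn.conj_mem y hy.2 g⟩
  have hKc : ∀ g ∈ K, ∀ y ∈ D, g * y * g⁻¹ ∈ D := by
    intro g hg y hy
    have hyL := (Subgroup.mem_inf.mp hy).2
    have h1 : ⁅g, y⁆ ∈ Q := (hLmem y).mp hyL g hg
    have e1 : g * y * g⁻¹ = ⁅g, y⁆ * y := by rw [commutatorElement_def]; group
    rw [e1]
    exact D.mul_mem (Subgroup.mem_inf.mpr ⟨hQT h1, hQL h1⟩) hy
  have hnorm_of : ∀ g : Y, (∀ y ∈ D, g * y * g⁻¹ ∈ D) → (∀ y ∈ D, g⁻¹ * y * g⁻¹⁻¹ ∈ D) →
      g ∈ Subgroup.normalizer (D : Set Y) := by
    intro g h1 h2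
    rw [Subgroup.mem_normalizer_iff]
    intro x
    constructor
    · exact h1 x
    · intro hx
      have := h2 _ hx
      have e1 : g⁻¹ * (g * x * g⁻¹) * g⁻¹⁻¹ = x := by group
      rwa [e1] at this
  have hDn : D.Normal := by
    rw [← Subgroup.normalizer_eq_top_iff]
    have h1 : K ≤ Subgroup.normalizer (D : Set Y) := fun g hg =>
      hnorm_of g (hKc g hg) (hKc g⁻¹ (K.inv_mem hg))
    have h2 : (T : Subgroup Y) ≤ Subgroup.normalizer (D : Set Y) := fun g hg =>
      hnorm_of g (hTc g hg) (hTc g⁻¹ ((T : Subgroup Y).inv_mem hg))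
    have := sup_le h1 h2
    rw [sup_sylow_eq_top h T] at this
    exact top_le_iff.mp this
  have hDp : IsPGroup p D := T.2.to_le inf_le_left
  have hle := Cfsg.Agent.Lib.Helper1_Cores.le_pCore hDn hDp
  exact hle (Subgroup.mem_inf.mpr ⟨ht, (hLmem t).mpr hcomm⟩)

end Config




section Iter

variable {L L' : Type*} [Group L] [Group L']

theorem map_iterCommutator (f : L →* L') (N G : Subgroup L) (j : ℕ) :
    (Cfsg.iterCommutator N G j).map f = Cfsg.iterCommutator (N.map f) (G.map f) j := by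
  induction j with
  | zero => rfl
  | succ j ih =>
    show (⁅Cfsg.iterCommutator N G j, G⁆).map f = ⁅Cfsg.iterCommutator (N.map f) (G.map f) j, G.map f⁆
    rw [Subgroup.map_commutator, ih]

theorem iterate_mem_iterCommutator (N : Subgroup L) (a : L) (j : ℕ) {m : L} (hm : m ∈ N) :
    (fun v => ⁅a, v⁆)^[j] m ∈ Cfsg.iterCommutator N (Subgroup.zpowers a) j := by
  induction j with
  | zero => exact hm
  | succ j ih =>
    rw [Function.iterate_succ_apply']
    show ⁅a, _⁆ ∈ ⁅Cfsg.iterCommutator N (Subgroup.zpowers a) j, Subgroup.zpowers a⁆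
    rw [Subgroup.commutator_comm]
    exact Subgroup.commutator_mem_commutator (Subgroup.mem_zpowers a) ih

end Iter


section ChiefFactor

/-- In the minimal configuration: an element `g ∈ T \ O_p(Y)` with `[U, g; p-1] ≤ V` on a chief
factor `U/V` below `O_p(Y)` satisfies `[U, g] ≤ V`. -/
theorem commutator_le_of_iter {Y : Type u} [Group Y] [Finite Y] {p : ℕ} [Fact p.Prime]
    {Q K : Subgroup Y} (h : PQP p Y Q K) (hQ : Q = Cfsg.pCore p Y) (T : Sylow p Y)
    (hT : IsCoatom (T : Subgroup Y)) {g : Y} (hgT : g ∈ (T : Subgroup Y)) (hgQ : g ∉ Q)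
    {U V : Subgroup Y} (hUV : Cfsg.IsChiefFactor U V) (hUQ : U ≤ Q)
    (hiter : Cfsg.iterCommutator U (Subgroup.zpowers g) (p - 1) ≤ V) :
    ⁅U, Subgroup.zpowers g⁆ ≤ V := by
  have hp : p.Prime := Fact.out
  obtain ⟨hVU, hUn, hVn, hmin⟩ := hUV
  have hQn := h.Qn
  have hKn := h.Kn
  let π := QuotientGroup.mk' V
  have hπ : Function.Surjective π := QuotientGroup.mk'_surjective V
  have hker : π.ker = V := QuotientGroup.ker_mk' V
  have h' : PQP p (Y ⧸ V) (Q.map π) (K.map π) := h.map π hπ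
  set U' := U.map π with hU'
  have hU'n : U'.Normal := hUn.map π hπ
  have hQ'n : (Q.map π).Normal := h'.Qn
  have hU'Q' : U' ≤ Q.map π := Subgroup.map_mono hUQ
  have hU'1 : U' ≠ ⊥ := by
    intro hb
    rw [hU', Subgroup.map_eq_bot_iff, hker] at hb
    exact hVU.not_ge hb
  -- minimality
  have hmin' : ∀ N' : Subgroup (Y ⧸ V), N'.Normal → N' ≤ U' → N' = ⊥ ∨ N' = U' := by
    intro N' hN'n hN'U
    have h1 : (N'.comap π).Normal := hN'n.comap π
    have h2 : V ≤ N'.comap π := hker.ge.trans (Subgroup.ker_le_comap π N')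
    have h3 : N'.comap π ≤ U := by
      have := Subgroup.comap_mono (f := π) hN'U
      rw [hU', Subgroup.comap_map_eq, hker, sup_eq_left.mpr hVU.le] at this
      exact this
    rcases hmin _ h1 h2 h3 with h4 | h4
    · left
      rw [← Subgroup.map_comap_eq_self_of_surjective hπ N', h4, Subgroup.map_eq_bot_iff, hker]
    · right
      rw [← Subgroup.map_comap_eq_self_of_surjective hπ N', h4]
  -- `U'` is elementary abelian and central in `Q'`
  have hΩ : omegaCentral p U' (Q.map π) hU'Q' = U' := by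
    have hn : (omegaCentral p U' (Q.map π) hU'Q').Normal := omegaCentral_normal hU'Q'
    have hne := omegaCentral_ne_bot hU'Q' h'.Qp hU'1
    exact (hmin' _ hn (fun u hu => hu.1)).resolve_left hne
  have hU'c : ∀ u ∈ U', u ∈ Subgroup.centralizer ((Q.map π : Subgroup (Y ⧸ V)) : Set (Y ⧸ V)) := by
    intro u hu; rw [← hΩ] at hu; exact hu.2.1
  have hU'p : ∀ u ∈ U', u ^ p = 1 := by
    intro u hu; rw [← hΩ] at hu; exact hu.2.2
  have hU'comm : ∀ u ∈ U', ∀ v ∈ U', u * v = v * u := fun u hu v hv =>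
    (Subgroup.mem_centralizer_iff.mp (hU'c v hv) u (hU'Q' hu))
  -- the module structure
  letI : CommGroup U' :=
    { (inferInstance : Group U') with mul_comm := fun x y => Subtype.ext (hU'comm x x.2 y y.2) }
  letI : MulDistribMulAction (Y ⧸ V) U' :=
    MulDistribMulAction.compHom U' (MulAut.conjNormal : (Y ⧸ V) →* MulAut U')
  have hsmul : ∀ (y : Y ⧸ V) (m : U'), ((y • m : U') : Y ⧸ V) = y * m * y⁻¹ := fun y m => by
    show ((MulAut.conjNormal y : MulAut U') m : Y ⧸ V) = _
    rw [MulAut.conjNormal_apply]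
  set a := π g with ha
  have hQM : ∀ q ∈ Q.map π, ∀ m : U', q • m = m := by
    intro q hq m
    apply Subtype.ext
    rw [hsmul]
    have := Subgroup.mem_centralizer_iff.mp (hU'c m m.2) q hq
    rw [this]; group
  have hMp : ∀ m : U', m ^ p = 1 := fun m => Subtype.ext (by simpa using hU'p m m.2)
  have hcoe : ∀ (j : ℕ) (m : U'), (((fun m' : U' => a • m' * m'⁻¹)^[j] m : U') : Y ⧸ V)
      = (fun v => ⁅a, v⁆)^[j] (m : Y ⧸ V) := by
    intro j
    induction j with
    | zero => intro m; rfl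
    | succ j ih =>
      intro m
      rw [Function.iterate_succ_apply', Function.iterate_succ_apply', ← ih]
      show ((a • _ * _⁻¹ : U') : Y ⧸ V) = _
      rw [Subgroup.coe_mul, hsmul, Subgroup.coe_inv, commutatorElement_def]
  have hD : ∀ m : U', (fun m' : U' => a • m' * m'⁻¹)^[p - 1] m = 1 := by
    intro m
    apply Subtype.ext
    rw [hcoe]
    have h1 := iterate_mem_iterCommutator U' a (p - 1) m.2
    have h2 : Cfsg.iterCommutator U' (Subgroup.zpowers a) (p - 1) = ⊥ := by
      rw [ha, ← MonoidHom.map_zpowers, hU', ← map_iterCommutator, Subgroup.map_eq_bot_iff, hker]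
      exact hiter
    rw [h2, Subgroup.mem_bot] at h1
    exact h1
  obtain ⟨hN, hxp⟩ := norm_eq_one_of_iterate a hp hMp hD
  have htriv := trivial_action_of_norm h' hQM hMp a hxp hN
  -- the centralizer of `U'`, pulled back
  set C : Subgroup Y :=
    (Subgroup.centralizer ((U' : Subgroup (Y ⧸ V)) : Set (Y ⧸ V))).comap π with hC
  have hCn : C.Normal := by
    have : (Subgroup.centralizer ((U' : Subgroup (Y ⧸ V)) : Set (Y ⧸ V))).Normal := inferInstance
    exact this.comap π
  have hKC : ∀ k ∈ K, ⁅k, g⁆ ∈ C := by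
    intro k hk
    rw [hC, Subgroup.mem_comap, map_commutatorElement, Subgroup.mem_centralizer_iff]
    intro m hm
    have h1 := htriv (π k) (Subgroup.mem_map_of_mem π hk) ⟨m, hm⟩
    have h2 := congrArg Subtype.val h1
    rw [hsmul] at h2
    simp only at h2
    calc m * ⁅π k, a⁆ = (⁅π k, a⁆ * m * ⁅π k, a⁆⁻¹) * ⁅π k, a⁆ := by rw [h2]
      _ = ⁅π k, a⁆ * m := by group
  have hQC : Q ≤ C := by
    intro q hq
    rw [hC, Subgroup.mem_comap, Subgroup.mem_centralizer_iff]
    intro m hm
    exact (Subgroup.mem_centralizer_iff.mp (hU'c m hm) (π q) (Subgroup.mem_map_of_mem π hq)).symm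
  have hK₁n : (K ⊓ C).Normal := inferInstance
  rcases normal_between h T hT (K ⊓ C) (le_inf h.QK hQC) inf_le_left with h1 | h1
  · -- `g` centralizes `K/Q`, so `g ∈ O_p(Y)`
    exfalso
    apply hgQ
    rw [hQ]
    apply mem_pCore_of_centralizes_mod h T hgT
    intro k hk
    rw [← h1]
    refine Subgroup.mem_inf.mpr ⟨?_, hKC k hk⟩
    rw [commutatorElement_def]
    have := hKn.conj_mem k⁻¹ (K.inv_mem hk) g
    have e : k * g * k⁻¹ * g⁻¹ = k * (g * k⁻¹ * g⁻¹) := by group
    rw [e]; exact K.mul_mem hk this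
  · -- `K` centralizes `U'`; then `U'` is central
    have hKC' : K ≤ C := by rw [← h1]; exact inf_le_right
    set T' : Subgroup (Y ⧸ V) := (T : Subgroup Y).map π with hT'
    have hT'p : IsPGroup p T' := T.2.map π
    have hU'T' : U' ≤ T' := Subgroup.map_mono (hUQ.trans (normal_le_sylow' Q h.Qp T))
    have hsub1 : U'.subgroupOf T' ≠ ⊥ := by
      intro hb
      rw [Subgroup.subgroupOf_eq_bot, disjoint_iff, inf_eq_left.mpr hU'T'] at hb
      exact hU'1 hb
    obtain ⟨z, hzU, hzc, hz1⟩ :=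
      Cfsg.Agent.Lib.Helper32_PGroup.exists_mem_center_of_normal hT'p (U'.subgroupOf T') hsub1
    have hzU' : (z : Y ⧸ V) ∈ U' := Subgroup.mem_subgroupOf.mp hzU
    have hzcen : (z : Y ⧸ V) ∈ Subgroup.center (Y ⧸ V) := by
      have hle : K.map π ⊔ T' ≤ Subgroup.centralizer ({(z : Y ⧸ V)} : Set (Y ⧸ V)) := by
        apply sup_le
        · rintro _ ⟨k, hk, rfl⟩
          rw [Subgroup.mem_centralizer_iff]
          intro w hw
          rw [Set.mem_singleton_iff] at hw
          rw [hw]
          have := Subgroup.mem_centralizer_iff.mp (Subgroup.mem_comap.mp (hKC' hk)) _ hzU'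
          exact this
        · intro t ht
          rw [Subgroup.mem_centralizer_iff]
          intro w hw
          rw [Set.mem_singleton_iff] at hw
          rw [hw]
          have := Subgroup.mem_center_iff.mp hzc ⟨t, ht⟩
          exact (congrArg Subtype.val this).symm
      have htop : K.map π ⊔ T' = ⊤ := by
        rw [hT', ← Subgroup.map_sup, sup_sylow_eq_top h T, Subgroup.map_top_of_surjective π hπ]
      rw [htop] at hle
      rw [Subgroup.mem_center_iff]
      intro y
      have := Subgroup.mem_centralizer_iff.mp (hle (Subgroup.mem_top y)) _ (Set.mem_singleton _)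
      exact this.symm
    have hN'n : (U' ⊓ Subgroup.center (Y ⧸ V)).Normal := inferInstance
    have hN'1 : U' ⊓ Subgroup.center (Y ⧸ V) ≠ ⊥ := by
      intro hb
      have : (z : Y ⧸ V) ∈ U' ⊓ Subgroup.center (Y ⧸ V) := Subgroup.mem_inf.mpr ⟨hzU', hzcen⟩
      rw [hb, Subgroup.mem_bot] at this
      exact hz1 (Subtype.ext this)
    have hUcen : U' ≤ Subgroup.center (Y ⧸ V) := by
      have := (hmin' _ hN'n inf_le_left).resolve_left hN'1
      rw [← this]; exact inf_le_right
    rw [← hker, ← Subgroup.map_eq_bot_iff, Subgroup.map_commutator,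
      Subgroup.commutator_eq_bot_iff_le_centralizer]
    intro u hu
    rw [Subgroup.mem_centralizer_iff]
    intro w _
    exact Subgroup.mem_center_iff.mp (hUcen hu) w

end ChiefFactor


end Cfsg.Agent.Lib.Helper34_Norm
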