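import Mathlib
import Cfsg.Agent.Lib.Helper38_OD1

/-!
Package S5677-B of helper38's orthogonal-decomposition market: if the block component `a_A` of the
singular vector `a` is singular and nonzero, and the Siegel part at `a` inside `M` contains a vector `b`
whose block component is not proportional to `a_A`, then it contains `a_A`.
Also: `exists_nonsing_orth` (a nonsingular vector of a nondegenerate subspace of dimension at least three
orthogonal to a given nonzero vector of it), `sieg_fix`, `InZ_step` (reusable).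
-/

set_option autoImplicit false

namespace Cfsg.Agent.Lib.Helper34_OD_B

open Module Cfsg.Agent.Lib.Helper94_Symp Cfsg.Agent.Lib.Helper94_OrthSmall
  Cfsg.Agent.Lib.Helper94_OrthSiegel Cfsg.Agent.Lib.Helper94_OrthSiegel2
  Cfsg.Agent.Lib.Helper94_OrthNondeg Cfsg.Agent.Lib.Helper94_OrthRefl
  Cfsg.Agent.Lib.Helper38_OD
open scoped commutatorElement

variable {F V : Type*} [Field F] [AddCommGroup V] [Module F V]

section OneBlock

variable [Finite F] [FiniteDimensional F V] {Q : V → F} {B : LinearMap.BilinForm F V}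
  (hQs : ∀ (c : F) (v : V), Q (c • v) = c * c * Q v)
  (hQp : ∀ u v : V, Q (u + v) = Q u + Q v + B u v)

omit [Finite F] in
include hQp in
/-- a nonsingular vector of `A` orthogonal to a given nonzero vector of `A` -/
lemma exists_nonsing_orth (A : Submodule F V) (hA : NdOn B A) (h3 : 3 ≤ finrank F A) {s : V}
    (hsA : s ∈ A) (hs0 : s ≠ 0) : ∃ w ∈ A, B s w = 0 ∧ Q w ≠ 0 := by
  by_contra hcon
  push Not at hcon
  obtain ⟨x, hxA, hxs⟩ := hA s hsA hs0
  have h1 := finrank_le_inf_ker_add_one A (B.flip s)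
  have h2 := finrank_le_inf_ker_add_one (A ⊓ LinearMap.ker (B.flip s)) (B.flip x)
  have hpos : 0 < finrank F
      (A ⊓ LinearMap.ker (B.flip s) ⊓ LinearMap.ker (B.flip x) : Submodule F V) := by omega
  have hne : (A ⊓ LinearMap.ker (B.flip s) ⊓ LinearMap.ker (B.flip x) : Submodule F V) ≠ ⊥ := by
    intro h
    rw [h, finrank_bot] at hpos
    exact lt_irrefl 0 hpos
  obtain ⟨n, hn, hn0⟩ := Submodule.exists_mem_ne_zero_of_ne_bot hne
  have hnA : n ∈ A := hn.1.1
  have hns : B n s = 0 := mem_ker_flip.mp hn.1.2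
  have hnx : B n x = 0 := mem_ker_flip.mp hn.2
  have hsn : B s n = 0 := by rw [B_symm Q B hQp, hns]
  have hB0 : ∀ y ∈ A, B s y = 0 → B y n = 0 := by
    intro y hy hsy
    rw [B_eq Q B hQp, hcon _ (A.add_mem hy hnA) (by rw [map_add, hsy, hsn, add_zero]),
      hcon y hy hsy, hcon n hnA hsn]
    ring
  obtain ⟨y, hyA, hyn⟩ := hA n hnA hn0
  apply hyn
  have hsx : B s x ≠ 0 := by rw [B_symm Q B hQp]; exact hxs
  have hy' : B s (y - (B s y / B s x) • x) = 0 := by
    rw [map_sub, map_smul, smul_eq_mul, div_mul_cancel₀ _ hsx, sub_self]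
  have h4 := hB0 _ (A.sub_mem hyA (A.smul_mem _ hxA)) hy'
  rw [map_sub, LinearMap.sub_apply, map_smul, LinearMap.smul_apply, B_symm Q B hQp x n, hnx,
    smul_zero, sub_zero] at h4
  exact h4

omit [Finite F] in
include hQs hQp in
/-- a Siegel element of the block at the (singular) block component of `a`, along a vector of the block
orthogonal to it, fixes `a` -/
lemma sieg_fix (A : Submodule F V) (hA : NdOn B A) {a w : V} (hajs : Q (op B A a) = 0)
    (hwA : w ∈ A) (hpw : B (op B A a) w = 0) : sieg Q B (op B A a) w a = a := by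
  have hpA : op B A a ∈ A := op_mem B A a
  have h1 : B a (op B A a) = 0 := by
    rw [← B_op_left Q B hQp hA a hpA, B_self Q B hQs hQp, hajs, mul_zero]
  have h2 : B a w = 0 := by rw [← B_op_left Q B hQp hA a hwA, hpw]
  rw [sieg_apply Q B hQs hQp hajs hpw, h1, h2]
  simp

include hQs hQp in
/-- the basic step: moving `b` by a Siegel element of the block that fixes `a` -/
lemma InZ_step (A : Submodule F V) (hA : NdOn B A)
    (M : Subgroup (V ≃ₗ[F] V)) (hMO : M ≤ oG Q) (hMA : HasSieg Q B M A)
    {a b : V} (ha : Q a = 0) (hab : InZ Q B M a b) (hajs : Q (op B A a) = 0) {w : V} (hwA : w ∈ A)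
    (hpw : B (op B A a) w = 0) :
    InZ Q B M a (B b (op B A a) • w - (B b w + Q w * B b (op B A a)) • op B A a) := by
  have hpA : op B A a ∈ A := op_mem B A a
  have hgM : sieg Q B (op B A a) w ∈ M := hMA _ hpA w hwA hajs hpw
  have h1 := InZ_map hQs hQp hgM (hMO hgM) ha hab
  rw [sieg_fix hQs hQp A hA hajs hwA hpw] at h1
  have h2 := InZ_sub hQs hQp ha h1 hab
  have e : sieg Q B (op B A a) w b - b =
      B b (op B A a) • w - (B b w + Q w * B b (op B A a)) • op B A a := by
    rw [sieg_apply Q B hQs hQp hajs hpw]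
    module
  rw [e] at h2
  exact h2

include hQs hQp in
/-- **PKG B.** The block component of `a` is singular and nonzero. -/
theorem lemB (h2 : (2 : F) ≠ 0) (A : Submodule F V) (hA : NdOn B A) (h3 : 3 ≤ finrank F A)
    (M : Subgroup (V ≃ₗ[F] V)) (hMO : M ≤ oG Q) (hMA : HasSieg Q B M A)
    {a b : V} (ha : Q a = 0) (hab : InZ Q B M a b)
    (haj0 : op B A a ≠ 0) (hajs : Q (op B A a) = 0)
    (hb : ∀ c : F, op B A b ≠ c • op B A a) : InZ Q B M a (op B A a) := by
  have hpA : op B A a ∈ A := op_mem B A a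
  have hrA : op B A b ∈ A := op_mem B A b
  by_cases hβ : B b (op B A a) = 0
  · obtain ⟨t, htA, hpt, hrt⟩ := exists_orth_not_orth hQp A hA hpA hrA hb
    have hbt : B b t ≠ 0 := by rw [← B_op_left Q B hQp hA b htA]; exact hrt
    have h1 := InZ_step hQs hQp A hA M hMO hMA ha hab hajs htA hpt
    rw [hβ, zero_smul, mul_zero, add_zero, zero_sub] at h1
    have h4 := InZ_smul (-(B b t)⁻¹) h1
    have e : (-(B b t)⁻¹) • -(B b t • op B A a) = op B A a := by
      rw [smul_neg, neg_smul, neg_neg, smul_smul, inv_mul_cancel₀ hbt, one_smul]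
    rw [e] at h4
    exact h4
  · obtain ⟨w, hwA, hpw, hQw⟩ := exists_nonsing_orth hQp A hA h3 hpA haj0
    have hnwA : -w ∈ A := A.neg_mem hwA
    have hpnw : B (op B A a) (-w) = 0 := by rw [map_neg, hpw, neg_zero]
    have hQn : Q (-w) = Q w := by
      have := hQs (-1) w
      rw [neg_one_smul] at this
      rw [this]
      ring
    have h1 := InZ_step hQs hQp A hA M hMO hMA ha hab hajs hwA hpw
    have h1' := InZ_step hQs hQp A hA M hMO hMA ha hab hajs hnwA hpnw
    have h5 := InZ_add hQs hQp ha h1 h1'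
    rw [hQn, map_neg] at h5
    have e : B b (op B A a) • w - (B b w + Q w * B b (op B A a)) • op B A a +
        (B b (op B A a) • -w - (-B b w + Q w * B b (op B A a)) • op B A a) =
        (-(2 * Q w * B b (op B A a))) • op B A a := by
      module
    rw [e] at h5
    have hne : -(2 * Q w * B b (op B A a)) ≠ 0 :=
      neg_ne_zero.mpr (mul_ne_zero (mul_ne_zero h2 hQw) hβ)
    have h6 := InZ_smul (-(2 * Q w * B b (op B A a)))⁻¹ h5
    rw [smul_smul, inv_mul_cancel₀ hne, one_smul] at h6
    exact h6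

end OneBlock

end Cfsg.Agent.Lib.Helper34_OD_B
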