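import Mathlib

/-!
# Two square-zero endomorphisms and `SL₂` (helper34)

Let `N, M` be endomorphisms of an abelian group `W` with `N² = M² = 0`, `ker N ∩ ker M = 0` and
`im N + im M = W`.  Then `W ≅ A × A` with `A = ker N`, and in these coordinates
`N = [[0, Λ], [0, 0]]`, `M = [[0, 0], [1, 0]]`, `Λ = NM|_A`.  Consequently the group generated by
`1 + N` and `1 + M` is an image of a subgroup of `SL₂(ℤ[X])` (with `X ↦ Λ`), and every element of
it commuting with `N` and `M` is a "scalar" of determinant one, hence has square `1`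
(`QuadPair.central_sq`).  This is the linear-algebra core of the `p`-stability of groups of odd
order and of the Dickson-type theorem on two quadratic elements.
-/

set_option autoImplicit false

namespace Cfsg.Agent.Lib.Helper34_SL2Embed

open Polynomial

variable {W : Type*} [AddCommGroup W]

/-- the hypotheses on the pair `N, M` -/
structure QuadPair (N M : Module.End ℤ W) : Prop where
  NN : ∀ w, N (N w) = 0
  MM : ∀ w, M (M w) = 0
  inj : ∀ w, N w = 0 → M w = 0 → w = 0
  gen : ∀ w, ∃ u v, w = N u + M v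

namespace QuadPair

variable {N M : Module.End ℤ W}

theorem exN (h : QuadPair N M) {a : W} (ha : N a = 0) : ∃ b, M b = 0 ∧ N b = a := by
  obtain ⟨u, v, huv⟩ := h.gen a
  have h1 : M v = 0 := by
    apply h.inj
    · have : N a = N (N u) + N (M v) := by rw [huv, map_add]
      rw [ha, h.NN, zero_add] at this
      exact this.symm
    · exact h.MM v
  obtain ⟨u', v', hu'⟩ := h.gen u
  refine ⟨M v', h.MM v', ?_⟩
  rw [huv, h1, add_zero, hu', map_add, h.NN, zero_add]

theorem exM (h : QuadPair N M) {b : W} (hb : M b = 0) : ∃ a, N a = 0 ∧ M a = b := by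
  obtain ⟨u, v, huv⟩ := h.gen b
  have h1 : N u = 0 := by
    apply h.inj
    · exact h.NN u
    · have : M b = M (N u) + M (M v) := by rw [huv, map_add]
      rw [hb, h.MM, add_zero] at this
      exact this.symm
  obtain ⟨u', v', hv'⟩ := h.gen v
  refine ⟨N u', h.NN u', ?_⟩
  rw [huv, h1, zero_add, hv', map_add, h.MM, add_zero]

end QuadPair

section Coord

variable (N M : Module.End ℤ W) (hN : ∀ w, N (N w) = 0)

/-- `Λ = NM` on `A = ker N` -/
def lam : Module.End ℤ (LinearMap.ker N) :=
  LinearMap.codRestrict (LinearMap.ker N) ((N ∘ₗ M) ∘ₗ (LinearMap.ker N).subtype)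
    (fun a => by simp [hN])

@[simp] theorem lam_coe (a : LinearMap.ker N) : ((lam N M hN a : LinearMap.ker N) : W) = N (M a) := rfl

/-- the coordinate map `w ↦ (NMw, Nw)` -/
def coord : W →ₗ[ℤ] (Fin 2 → LinearMap.ker N) :=
  LinearMap.pi ![LinearMap.codRestrict (LinearMap.ker N) (N ∘ₗ M) (fun w => by simp [hN]),
    LinearMap.codRestrict (LinearMap.ker N) N (fun w => by simp [hN])]

@[simp] theorem coord_zero (w : W) : ((coord N M hN w 0 : LinearMap.ker N) : W) = N (M w) := rfl
@[simp] theorem coord_one (w : W) : ((coord N M hN w 1 : LinearMap.ker N) : W) = N w := rfl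

end Coord

namespace QuadPair

variable {N M : Module.End ℤ W}

theorem coord_bijective (h : QuadPair N M) : Function.Bijective (coord N M h.NN) := by
  constructor
  · rw [← LinearMap.ker_eq_bot, LinearMap.ker_eq_bot']
    intro w hw
    have h0 : N (M w) = 0 := by
      have := congrArg (fun v => ((v 0 : LinearMap.ker N) : W)) hw
      simpa using this
    have h1 : N w = 0 := by
      have := congrArg (fun v => ((v 1 : LinearMap.ker N) : W)) hw
      simpa using this
    have h2 : M w = 0 := h.inj _ h0 (h.MM w)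
    exact h.inj w h1 h2
  · intro v
    obtain ⟨b, hb, hbv⟩ := h.exN (v 1).2
    obtain ⟨b₁, hb₁, hb₁v⟩ := h.exN (v 0).2
    obtain ⟨a₁, ha₁, ha₁b⟩ := h.exM hb₁
    refine ⟨a₁ + b, ?_⟩
    refine funext (Fin.forall_fin_two.mpr ⟨?_, ?_⟩)
    · apply Subtype.ext
      show N (M (a₁ + b)) = _
      rw [map_add, hb, add_zero, ha₁b, hb₁v]
    · apply Subtype.ext
      show N (a₁ + b) = _
      rw [map_add, ha₁, zero_add, hbv]

/-- the coordinates `W ≃ A × A` -/
noncomputable def coordEquiv (h : QuadPair N M) : W ≃ₗ[ℤ] (Fin 2 → LinearMap.ker N) :=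
  LinearEquiv.ofBijective (coord N M h.NN) h.coord_bijective

@[simp] theorem coordEquiv_apply (h : QuadPair N M) (w : W) : h.coordEquiv w = coord N M h.NN w := rfl

theorem lam_surjective (h : QuadPair N M) : Function.Surjective (lam N M h.NN) := by
  intro a
  obtain ⟨b, hb, hba⟩ := h.exN a.2
  obtain ⟨a₁, ha₁, ha₁b⟩ := h.exM hb
  refine ⟨⟨a₁, ha₁⟩, Subtype.ext ?_⟩
  show N (M a₁) = a
  rw [ha₁b, hba]

/-- matrices over `ℤ[X]` acting on `A × A`, `X` acting as `Λ` -/
noncomputable def psi0 (h : QuadPair N M) :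
    Matrix (Fin 2) (Fin 2) ℤ[X] →+* Module.End ℤ (Fin 2 → LinearMap.ker N) :=
  (endVecRingEquivMatrixEnd (Fin 2) ℤ (LinearMap.ker N)).symm.toRingHom.comp
    ((aeval (lam N M h.NN)).toRingHom.mapMatrix)

theorem psi0_apply (h : QuadPair N M) (m : Matrix (Fin 2) (Fin 2) ℤ[X])
    (v : Fin 2 → LinearMap.ker N) (i : Fin 2) :
    h.psi0 m v i = aeval (lam N M h.NN) (m i 0) (v 0) + aeval (lam N M h.NN) (m i 1) (v 1) := by
  have : h.psi0 m v i = ∑ j, ((aeval (lam N M h.NN)).toRingHom.mapMatrix m) i j (v j) := rfl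
  rw [this, Fin.sum_univ_two]
  rfl

/-- matrices over `ℤ[X]` acting on `W` -/
noncomputable def psi (h : QuadPair N M) : Matrix (Fin 2) (Fin 2) ℤ[X] →+* Module.End ℤ W :=
  (h.coordEquiv.symm.conjRingEquiv).toRingHom.comp h.psi0

theorem coordEquiv_psi (h : QuadPair N M) (m : Matrix (Fin 2) (Fin 2) ℤ[X]) (w : W) :
    h.coordEquiv (h.psi m w) = h.psi0 m (h.coordEquiv w) := by
  simp [psi, LinearEquiv.conjRingEquiv]

theorem psi_N (h : QuadPair N M) : h.psi !![0, X; 0, 0] = N := by
  apply LinearMap.ext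
  intro w
  apply h.coordEquiv.injective
  rw [coordEquiv_psi]
  refine funext (Fin.forall_fin_two.mpr ⟨?_, ?_⟩)
  · rw [psi0_apply]
    apply Subtype.ext
    simp
  · rw [psi0_apply]
    apply Subtype.ext
    simp [h.NN]

theorem psi_M (h : QuadPair N M) : h.psi !![0, 0; 1, 0] = M := by
  apply LinearMap.ext
  intro w
  apply h.coordEquiv.injective
  rw [coordEquiv_psi]
  refine funext (Fin.forall_fin_two.mpr ⟨?_, ?_⟩)
  · rw [psi0_apply]
    apply Subtype.ext
    simp [h.MM]
  · rw [psi0_apply]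
    apply Subtype.ext
    simp

/-- every element of the group generated by `1 + N` and `1 + M` comes from a matrix of
determinant one -/
theorem exists_matrix (h : QuadPair N M) {G : Type*} [Group G] (ρ : G →* Module.End ℤ W)
    {x y : G} (hx : ρ x = 1 + N) (hy : ρ y = 1 + M) {g : G} (hg : g ∈ Subgroup.closure {x, y}) :
    ∃ m : Matrix (Fin 2) (Fin 2) ℤ[X], m.det = 1 ∧ h.psi m = ρ g := by
  induction hg using Subgroup.closure_induction with
  | mem g hg =>
    rcases hg with rfl | hg
    · refine ⟨!![1, X; 0, 1], by simp [Matrix.det_fin_two], ?_⟩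
      have : (!![1, X; 0, 1] : Matrix (Fin 2) (Fin 2) ℤ[X]) = 1 + !![0, X; 0, 0] := by
        ext i j; fin_cases i <;> fin_cases j <;> simp
      rw [this, map_add, map_one, h.psi_N, hx]
    · rw [Set.mem_singleton_iff] at hg
      subst hg
      refine ⟨!![1, 0; 1, 1], by simp [Matrix.det_fin_two], ?_⟩
      have : (!![1, 0; 1, 1] : Matrix (Fin 2) (Fin 2) ℤ[X]) = 1 + !![0, 0; 1, 0] := by
        ext i j; fin_cases i <;> fin_cases j <;> simp
      rw [this, map_add, map_one, h.psi_M, hy]
  | one => exact ⟨1, Matrix.det_one, by rw [map_one, map_one]⟩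
  | mul a b _ _ iha ihb =>
    obtain ⟨ma, hma, hma'⟩ := iha
    obtain ⟨mb, hmb, hmb'⟩ := ihb
    exact ⟨ma * mb, by rw [Matrix.det_mul, hma, hmb, one_mul], by rw [map_mul, map_mul, hma', hmb']⟩
  | inv a _ iha =>
    obtain ⟨ma, hma, hma'⟩ := iha
    refine ⟨ma.adjugate, ?_, ?_⟩
    · rw [Matrix.det_adjugate, hma]; simp
    · have h1 : h.psi ma.adjugate * ρ a = 1 := by
        rw [← hma', ← map_mul, Matrix.adjugate_mul, hma, one_smul, map_one]
      have h2 : ρ a * ρ a⁻¹ = 1 := by rw [← map_mul, mul_inv_cancel, map_one]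
      calc h.psi ma.adjugate = h.psi ma.adjugate * (ρ a * ρ a⁻¹) := by rw [h2, mul_one]
        _ = (h.psi ma.adjugate * ρ a) * ρ a⁻¹ := by rw [mul_assoc]
        _ = ρ a⁻¹ := by rw [h1, one_mul]

/-- **Central elements have square one.** -/
theorem central_sq (h : QuadPair N M) {G : Type*} [Group G] (ρ : G →* Module.End ℤ W)
    {x y : G} (hx : ρ x = 1 + N) (hy : ρ y = 1 + M) {z : G} (hz : z ∈ Subgroup.closure {x, y})
    (hzN : ρ z * N = N * ρ z) (hzM : ρ z * M = M * ρ z) : ρ z * ρ z = 1 := by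
  obtain ⟨m, hdet, hm⟩ := h.exists_matrix ρ hx hy hz
  set Λ := lam N M h.NN with hΛ
  set α := aeval Λ (m 0 0) with hα
  set β := aeval Λ (m 0 1) with hβ
  set γ := aeval Λ (m 1 0) with hγ
  set δ := aeval Λ (m 1 1) with hδ
  -- the action of `z` in coordinates
  have hz0 : ∀ w, h.coordEquiv (ρ z w) 0 = α (h.coordEquiv w 0) + β (h.coordEquiv w 1) := by
    intro w; rw [← hm, coordEquiv_psi, psi0_apply]
  have hz1 : ∀ w, h.coordEquiv (ρ z w) 1 = γ (h.coordEquiv w 0) + δ (h.coordEquiv w 1) := by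
    intro w; rw [← hm, coordEquiv_psi, psi0_apply]
  -- coordinates of `N w` and `M w`
  have hN0 : ∀ w, h.coordEquiv (N w) 0 = Λ (h.coordEquiv w 1) := by
    intro w; apply Subtype.ext; simp [hΛ]
  have hN1 : ∀ w, h.coordEquiv (N w) 1 = 0 := by
    intro w; apply Subtype.ext; simp [h.NN]
  have hM0 : ∀ w, h.coordEquiv (M w) 0 = 0 := by
    intro w; apply Subtype.ext; simp [h.MM]
  have hM1 : ∀ w, h.coordEquiv (M w) 1 = h.coordEquiv w 0 := by
    intro w; apply Subtype.ext; simp
  have hzN' : ∀ w, ρ z (N w) = N (ρ z w) := fun w => LinearMap.congr_fun hzN w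
  have hzM' : ∀ w, ρ z (M w) = M (ρ z w) := fun w => LinearMap.congr_fun hzM w
  -- `β = 0`, `δ = α`
  have hβ0 : ∀ a, β a = 0 := by
    intro a
    obtain ⟨w, hw⟩ := h.coordEquiv.surjective ![a, 0]
    have e := congrArg (fun v => h.coordEquiv v 0) (hzM' w)
    simp only [hz0, hM0, hM1, map_zero, zero_add, hw] at e
    simpa using e
  have hδα : ∀ a, δ a = α a := by
    intro a
    obtain ⟨w, hw⟩ := h.coordEquiv.surjective ![a, 0]
    have e := congrArg (fun v => h.coordEquiv v 1) (hzM' w)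
    simp only [hz1, hz0, hM0, hM1, map_zero, zero_add, hw] at e
    simpa using e
  -- `γ = 0`
  have hγ0 : ∀ a, γ a = 0 := by
    intro a
    obtain ⟨a', rfl⟩ := h.lam_surjective a
    obtain ⟨w, hw⟩ := h.coordEquiv.surjective ![0, a']
    have e := congrArg (fun v => h.coordEquiv v 1) (hzN' w)
    simp only [hz1, hN0, hN1, map_zero, add_zero, hw] at e
    simpa using e
  -- determinant
  have hdet' : α * δ - β * γ = 1 := by
    have := congrArg (aeval Λ) hdet
    rw [Matrix.det_fin_two, map_sub, map_mul, map_mul, map_one] at this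
    exact this
  have hαα : ∀ a, α (α a) = a := by
    intro a
    have := LinearMap.congr_fun hdet' a
    simp only [LinearMap.sub_apply, Module.End.mul_apply, Module.End.one_apply] at this
    rw [hγ0, map_zero, sub_zero, hδα] at this
    exact this
  apply LinearMap.ext
  intro w
  apply h.coordEquiv.injective
  refine funext (Fin.forall_fin_two.mpr ⟨?_, ?_⟩)
  · show h.coordEquiv (ρ z (ρ z w)) 0 = _
    rw [hz0, hz0, hz1, hβ0, hβ0, add_zero, add_zero, hαα]
    rfl
  · show h.coordEquiv (ρ z (ρ z w)) 1 = _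
    rw [hz1, hz0, hz1, hγ0, hγ0, zero_add, zero_add, hδα, hδα, hαα]
    rfl

end QuadPair

end Cfsg.Agent.Lib.Helper34_SL2Embed
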