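import Mathlib
import Cfsg.Agent.Lib.Helper32_PGroup
import Cfsg.Agent.Lib.Helper34_PStable
import Cfsg.Agent.Lib.Helper34_SL2Embed

/-!
# Quadratic elements centralize the odd-order groups they normalize (helper34)

`p` odd, `U` a finite abelian group of exponent `p` on which the group `Y` acts faithfully, `x ∈ Y`
acting quadratically (`(x-1)² = 0`).  If `x` normalizes a `q`-subgroup `Q` of `Y`, `q` an odd prime
different from `p`, then `x` centralizes `Q` (`centralizes_of_quad`).  No character theory: the
abelian case is the module lemma of `Helper34_PStable`, and a minimal non-abelian configuration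
`B⟨x⟩ = ⟨x, x^b⟩` is killed by the `SL₂` embedding of `Helper34_SL2Embed` (a central element of odd
order would be a scalar of determinant one).
-/

set_option autoImplicit false

namespace Cfsg.Agent.Lib.Helper34_OddQuad

open scoped BigOperators
open Cfsg.Agent.Lib.Helper34_PStable Cfsg.Agent.Lib.Helper34_SL2Embed

section Mul

variable {Y U : Type*} [Group Y] [AddCommGroup U] [DistribMulAction Y U]

/-- the multiplicative copy of an additive action -/
@[reducible] def mulAct (Y U : Type*) [Group Y] [AddCommGroup U] [DistribMulAction Y U] :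
    MulDistribMulAction Y (Multiplicative U) where
  smul y m := Multiplicative.ofAdd (y • Multiplicative.toAdd m)
  one_smul m := by
    show Multiplicative.ofAdd ((1 : Y) • Multiplicative.toAdd m) = m
    rw [one_smul]; rfl
  mul_smul a b m := by
    show Multiplicative.ofAdd ((a * b) • Multiplicative.toAdd m) =
      Multiplicative.ofAdd (a • Multiplicative.toAdd (Multiplicative.ofAdd (b • Multiplicative.toAdd m)))
    rw [mul_smul]; rfl
  smul_mul a m n := by
    show Multiplicative.ofAdd (a • (Multiplicative.toAdd m + Multiplicative.toAdd n)) = _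
    rw [smul_add]; rfl
  smul_one a := by
    show Multiplicative.ofAdd (a • (0 : U)) = 1
    rw [smul_zero]; rfl

/-- additive form of the module lemma -/
theorem module_lemma_add (A : Subgroup Y) [Finite A] (hA : ∀ a ∈ A, ∀ b ∈ A, a * b = b * a) (x : Y)
    (p : ℕ) (hp : p.Prime) (hxA : ∀ a ∈ A, x * a * x⁻¹ ∈ A) (hxp : x ^ p = 1)
    (hN : ∀ u : U, ∑ i ∈ Finset.range p, (x ^ i) • u = 0)
    (hM : ∀ u : U, Nat.card A • u = 0 → u = 0) :
    ∀ a ∈ A, ∀ u : U, (a * x * a⁻¹ * x⁻¹) • u = u := by
  letI := mulAct Y U
  letI : Fintype A := Fintype.ofFinite A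
  intro a ha u
  have key := module_lemma (M := Multiplicative U) A hA x p hp hxA hxp ?_ ?_ a ha
    (Multiplicative.ofAdd u)
  · exact congrArg Multiplicative.toAdd key
  · intro m
    have h1 := hN (Multiplicative.toAdd m)
    have h2 : ∏ i ∈ Finset.range p, (x ^ i) • m =
        Multiplicative.ofAdd (∑ i ∈ Finset.range p, (x ^ i) • Multiplicative.toAdd m) := by
      rw [ofAdd_sum]; rfl
    rw [h2, h1]; rfl
  · intro m hm
    have h1 : Nat.card A • Multiplicative.toAdd m = 0 := by
      rw [← Nat.card_eq_fintype_card] at hm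
      have := congrArg Multiplicative.toAdd hm
      rwa [toAdd_pow] at this
    have := hM _ h1
    exact congrArg Multiplicative.ofAdd this

end Mul

section Quad

variable {Y : Type*} [Group Y]

/-- `x` acts quadratically on `U`: `(x - 1)² = 0` -/
def Quad (U : Type*) [AddCommGroup U] [DistribMulAction Y U] (x : Y) : Prop :=
  ∀ u : U, x • (x • u - u) = x • u - u

variable {U : Type*} [AddCommGroup U] [DistribMulAction Y U]

theorem Quad.pow_smul {x : Y} (h : Quad U x) (k : ℕ) (u : U) :
    x ^ k • u = u + k • (x • u - u) := by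
  induction k with
  | zero => simp
  | succ k ih =>
    rw [pow_succ', mul_smul, ih, smul_add, smul_comm x k, h u, succ_nsmul]
    abel

theorem Quad.conj {x : Y} (h : Quad U x) (b : Y) : Quad U (b * x * b⁻¹) := by
  intro u
  have e : ∀ v : U, (b * x * b⁻¹) • v - v = b • (x • (b⁻¹ • v) - b⁻¹ • v) := by
    intro v
    rw [smul_sub, smul_smul, smul_smul, smul_smul, mul_inv_cancel, one_smul, mul_assoc]
  rw [e, smul_smul, inv_mul_cancel_right, mul_smul, h]

theorem Quad.pow_prime_smul {x : Y} (h : Quad U x) {p : ℕ} (hpU : ∀ u : U, p • u = 0) (u : U) :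
    x ^ p • u = u := by
  rw [h.pow_smul, hpU, add_zero]

theorem Quad.norm {x : Y} (h : Quad U x) {p : ℕ} (hp : p.Prime) (hp2 : p ≠ 2)
    (hpU : ∀ u : U, p • u = 0) (u : U) : ∑ i ∈ Finset.range p, (x ^ i) • u = 0 := by
  simp only [h.pow_smul]
  rw [Finset.sum_add_distrib, Finset.sum_const, Finset.card_range, hpU, zero_add,
    ← Finset.sum_smul]
  obtain ⟨k, hk⟩ : ∃ k, p - 1 = 2 * k := by
    rcases hp.eq_two_or_odd' with h2 | ⟨k, hk⟩
    · exact absurd h2 hp2
    · exact ⟨k, by omega⟩
  have hs : ∑ i ∈ Finset.range p, i = k * p := by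
    have := Finset.sum_range_id_mul_two p
    rw [hk] at this
    have h2 : (∑ i ∈ Finset.range p, i) * 2 = (k * p) * 2 := by rw [this]; ring
    exact Nat.eq_of_mul_eq_mul_right (by norm_num) h2
  rw [hs, mul_nsmul, hpU]

theorem eq_zero_of_coprime_nsmul {n p : ℕ} (hnp : n.Coprime p) {u : U} (hn : n • u = 0)
    (hpu : p • u = 0) : u = 0 := by
  have h1 := addOrderOf_dvd_of_nsmul_eq_zero hn
  have h2 := addOrderOf_dvd_of_nsmul_eq_zero hpu
  have h3 : addOrderOf u ∣ 1 := by
    rw [← hnp]; exact Nat.dvd_gcd h1 h2
  exact AddMonoid.addOrderOf_eq_one_iff.mp (Nat.dvd_one.mp h3)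

end Quad

section Central

theorem mem_closure_subtype {G : Type*} [Group G] (H : Subgroup G) {x y g : G} (hx : x ∈ H)
    (hy : y ∈ H) (hg : g ∈ Subgroup.closure {x, y}) :
    ∃ hgH : g ∈ H, (⟨g, hgH⟩ : H) ∈ Subgroup.closure {(⟨x, hx⟩ : H), ⟨y, hy⟩} := by
  induction hg using Subgroup.closure_induction with
  | mem g hg =>
    rcases hg with rfl | hg
    · exact ⟨hx, Subgroup.subset_closure (Set.mem_insert _ _)⟩
    · rw [Set.mem_singleton_iff] at hg
      subst hg
      exact ⟨hy, Subgroup.subset_closure (Set.mem_insert_of_mem _ rfl)⟩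
  | one => exact ⟨H.one_mem, Subgroup.one_mem _⟩
  | mul a b _ _ iha ihb =>
    obtain ⟨ha, ha'⟩ := iha
    obtain ⟨hb, hb'⟩ := ihb
    exact ⟨H.mul_mem ha hb, Subgroup.mul_mem _ ha' hb'⟩
  | inv a _ iha =>
    obtain ⟨ha, ha'⟩ := iha
    exact ⟨H.inv_mem ha, Subgroup.inv_mem _ ha'⟩

variable {Y : Type*} [Group Y] {U : Type*} [AddCommGroup U] [Finite U]
  [DistribMulAction Y U] [FaithfulSMul Y U]

/-- **Killing the centre.**  An element `z` of `p'`-odd order of the group generated by two
quadratic elements `x, y` which commutes with both acts trivially. -/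
theorem eq_one_of_central {p : ℕ} (hpU : ∀ u : U, p • u = 0) {x y z : Y} (hx : Quad U x)
    (hy : Quad U y) (hzx : z * x = x * z) (hzy : z * y = y * z)
    (hz : z ∈ Subgroup.closure {x, y}) {m : ℕ} (hzm : z ^ m = 1) (hmodd : Odd m)
    (hmp : m.Coprime p) : z = 1 := by
  classical
  set act : Y →* Module.End ℤ U := DistribMulAction.toModuleEnd ℤ U with hact
  have hact_apply : ∀ (g : Y) (u : U), act g u = g • u := fun g u => rfl
  set T : Module.End ℤ U := ∑ i ∈ Finset.range m, act (z ^ i) with hT
  have hT_apply : ∀ u, T u = ∑ i ∈ Finset.range m, (z ^ i) • u := by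
    intro u
    rw [hT, LinearMap.sum_apply]
    rfl
  set Wm : Submodule ℤ U := LinearMap.ker T with hWm
  set G₀ : Subgroup Y := Subgroup.centralizer {z} with hG₀
  have hmemG : ∀ g : Y, g ∈ G₀ ↔ z * g = g * z := by
    intro g
    rw [hG₀, Subgroup.mem_centralizer_iff]
    simp
  have hxG : x ∈ G₀ := (hmemG x).mpr hzx
  have hyG : y ∈ G₀ := (hmemG y).mpr hzy
  have hzG : z ∈ G₀ := (hmemG z).mpr rfl
  -- invariance of `Wm`
  have hinv : ∀ g ∈ G₀, ∀ w ∈ Wm, act g w ∈ Wm := by
    intro g hg w hw
    rw [hWm, LinearMap.mem_ker] at hw ⊢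
    rw [hT_apply] at hw ⊢
    have hc : ∀ i : ℕ, z ^ i * g = g * z ^ i := fun i =>
      ((show Commute z g from (hmemG g).mp hg).pow_left i).eq
    have : ∑ i ∈ Finset.range m, (z ^ i) • act g w = g • ∑ i ∈ Finset.range m, (z ^ i) • w := by
      rw [Finset.smul_sum]
      apply Finset.sum_congr rfl
      intro i _
      rw [hact_apply, smul_smul, smul_smul, hc]
    rw [this, hw, smul_zero]
  -- the restricted action
  let ρ : G₀ →* Module.End ℤ Wm :=
    { toFun := fun g => (act g).restrict (hinv g g.2)
      map_one' := by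
        apply LinearMap.ext; intro w; apply Subtype.ext
        simp [LinearMap.restrict_apply, hact_apply]
      map_mul' := by
        intro a b
        apply LinearMap.ext; intro w; apply Subtype.ext
        simp [LinearMap.restrict_apply, hact_apply, mul_smul] }
  have hρ : ∀ (g : G₀) (w : Wm), ((ρ g w : Wm) : U) = (g : Y) • (w : U) := fun g w => rfl
  -- fixed points of `z` in `Wm` vanish
  have hfix : ∀ w : Wm, z • (w : U) = w → w = 0 := by
    intro w hw
    have h1 : ∀ i : ℕ, (z ^ i) • (w : U) = w := by
      intro i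
      induction i with
      | zero => simp
      | succ i ih => rw [pow_succ, mul_smul, hw, ih]
    have h2 : T (w : U) = m • (w : U) := by
      rw [hT_apply]
      simp [h1]
    have h3 : m • (w : U) = 0 := by rw [← h2]; exact w.2
    exact Subtype.ext (eq_zero_of_coprime_nsmul hmp h3 (hpU _))
  set N : Module.End ℤ Wm := ρ ⟨x, hxG⟩ - 1 with hNdef
  set M : Module.End ℤ Wm := ρ ⟨y, hyG⟩ - 1 with hMdef
  have hN_apply : ∀ w : Wm, ((N w : Wm) : U) = x • (w : U) - w := fun w => rfl
  have hM_apply : ∀ w : Wm, ((M w : Wm) : U) = y • (w : U) - w := fun w => rfl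
  obtain ⟨hzG', hzcl⟩ := mem_closure_subtype G₀ hxG hyG hz
  -- everything in the closure fixes the common fixed points
  have hfixcl : ∀ w : Wm, x • (w : U) = w → y • (w : U) = w →
      ∀ g ∈ Subgroup.closure {x, y}, g • (w : U) = w := by
    intro w hxw hyw g hg
    induction hg using Subgroup.closure_induction with
    | mem g hg =>
      rcases hg with rfl | hg
      · exact hxw
      · rw [Set.mem_singleton_iff] at hg; subst hg; exact hyw
    | one => simp
    | mul a b _ _ iha ihb => rw [mul_smul, ihb, iha]
    | inv a _ iha => rw [inv_smul_eq_iff, iha]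
  have hQP : QuadPair N M := by
    refine ⟨?_, ?_, ?_, ?_⟩
    · intro w
      apply Subtype.ext
      rw [hN_apply, hN_apply]
      have := hx (w : U)
      rw [this, sub_self]; rfl
    · intro w
      apply Subtype.ext
      rw [hM_apply, hM_apply]
      have := hy (w : U)
      rw [this, sub_self]; rfl
    · intro w hNw hMw
      have h1 : x • (w : U) = w := by
        have := congrArg Subtype.val hNw
        rw [hN_apply] at this
        exact sub_eq_zero.mp this
      have h2 : y • (w : U) = w := by
        have := congrArg Subtype.val hMw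
        rw [hM_apply] at this
        exact sub_eq_zero.mp this
      exact hfix w (hfixcl w h1 h2 z hz)
    · -- generation
      set I : Submodule ℤ Wm := LinearMap.range N ⊔ LinearMap.range M with hI
      have hcl : ∀ g : G₀, g ∈ Subgroup.closure {(⟨x, hxG⟩ : G₀), ⟨y, hyG⟩} →
          ∀ w : Wm, ρ g w - w ∈ I := by
        intro g hg
        induction hg using Subgroup.closure_induction with
        | mem g hg =>
          intro w
          rcases hg with rfl | hg
          · exact Submodule.mem_sup_left ⟨w, rfl⟩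
          · rw [Set.mem_singleton_iff] at hg; subst hg
            exact Submodule.mem_sup_right ⟨w, rfl⟩
        | one => intro w; simp
        | mul a b _ _ iha ihb =>
          intro w
          have : ρ (a * b) w - w = (ρ a (ρ b w) - ρ b w) + (ρ b w - w) := by
            rw [map_mul]; simp
          rw [this]
          exact I.add_mem (iha _) (ihb _)
        | inv a _ iha =>
          intro w
          have : ρ a⁻¹ w - w = - (ρ a (ρ a⁻¹ w) - ρ a⁻¹ w) := by
            have e : ρ a (ρ a⁻¹ w) = w := by
              rw [← Module.End.mul_apply, ← map_mul, mul_inv_cancel, map_one]; rfl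
            rw [e]; abel
          rw [this]
          exact I.neg_mem (iha _)
      have hinj : Function.Injective (fun w : Wm => ρ ⟨z, hzG'⟩ w - w) := by
        intro w w' hww'
        have h0 : ρ ⟨z, hzG'⟩ (w - w') - (w - w') = 0 := by
          rw [map_sub]
          have : ρ ⟨z, hzG'⟩ w - w = ρ ⟨z, hzG'⟩ w' - w' := hww'
          rw [sub_sub_sub_comm, this, sub_self]
        have h1 : z • ((w - w' : Wm) : U) = (w - w' : Wm) := by
          have := congrArg Subtype.val (sub_eq_zero.mp h0)
          exact this
        exact sub_eq_zero.mp (hfix _ h1)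
      have hsurj := Finite.injective_iff_surjective.mp hinj
      intro w
      obtain ⟨w', hw'⟩ := hsurj w
      have hwI : w ∈ I := by
        rw [← hw']; exact hcl _ hzcl w'
      rw [hI, Submodule.mem_sup] at hwI
      obtain ⟨_, ⟨u, rfl⟩, _, ⟨v, rfl⟩, huv⟩ := hwI
      exact ⟨u, v, huv.symm⟩
  have hcomm : ∀ (g : Y) (hg : g ∈ G₀), z * g = g * z →
      ρ ⟨z, hzG'⟩ * (ρ ⟨g, hg⟩ - 1) = (ρ ⟨g, hg⟩ - 1) * ρ ⟨z, hzG'⟩ := by
    intro g hg hzg
    rw [mul_sub, sub_mul, mul_one, one_mul, ← map_mul, ← map_mul]
    congr 2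
    exact Subtype.ext hzg
  have hsq := hQP.central_sq ρ (x := ⟨x, hxG⟩) (y := ⟨y, hyG⟩) (by rw [hNdef]; abel)
    (by rw [hMdef]; abel) hzcl (hcomm x hxG hzx) (hcomm y hyG hzy)
  -- `z` acts trivially on `Wm`
  have hz2 : ∀ w : Wm, z • z • (w : U) = w := by
    intro w
    have := LinearMap.congr_fun hsq w
    exact congrArg Subtype.val this
  have hztriv : ∀ w : Wm, z • (w : U) = w := by
    intro w
    obtain ⟨k, hk⟩ := hmodd
    have h1 : ∀ j : ℕ, (z ^ (2 * j)) • (w : U) = w := by
      intro j
      induction j with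
      | zero => simp
      | succ j ih =>
        rw [show 2 * (j + 1) = 2 * j + 2 by ring, pow_add, mul_smul, pow_two, mul_smul, hz2, ih]
    have h2 : z ^ (2 * (k + 1)) = z := by
      rw [show 2 * (k + 1) = m + 1 by omega, pow_succ, hzm, one_mul]
    have := h1 (k + 1)
    rwa [h2] at this
  have hW0 : ∀ w : Wm, w = 0 := fun w => hfix w (hztriv w)
  -- but `z u - u ∈ Wm`
  apply FaithfulSMul.eq_of_smul_eq_smul (α := U)
  intro u
  rw [one_smul]
  have hmem : z • u - u ∈ Wm := by
    rw [hWm, LinearMap.mem_ker, hT_apply]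
    have : ∀ i : ℕ, (z ^ i) • (z • u - u) = (z ^ (i + 1)) • u - (z ^ i) • u := by
      intro i
      rw [smul_sub, smul_smul, ← pow_succ]
    simp only [this]
    rw [Finset.sum_range_sub (fun i => (z ^ i) • u), hzm, pow_zero, sub_self]
  have := congrArg Subtype.val (hW0 ⟨z • u - u, hmem⟩)
  exact sub_eq_zero.mp this

end Central

section Main

variable {Y : Type*} [Group Y] [Finite Y] {U : Type*} [AddCommGroup U] [Finite U]
  [DistribMulAction Y U] [FaithfulSMul Y U]

theorem card_lt_of_ssub {H K : Subgroup Y} (h : H < K) : Nat.card H < Nat.card K := by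
  have hle := Subgroup.card_le_of_le h.le
  rcases hle.lt_or_eq with h1 | h1
  · exact h1
  · exact absurd (Subgroup.eq_of_le_of_card_ge h.le h1.ge) h.ne

/-- **Quadratic elements centralize the odd `p'`-groups they normalize.** -/
theorem centralizes_of_quad {p : ℕ} (hp : p.Prime) (hp2 : p ≠ 2) (hpU : ∀ u : U, p • u = 0)
    {q : ℕ} [Fact q.Prime] (hqp : q ≠ p) (hq2 : q ≠ 2) {x : Y} (hx : Quad U x) :
    ∀ (n : ℕ) (B : Subgroup Y), Nat.card B ≤ n → IsPGroup q B → (∀ b ∈ B, x * b * x⁻¹ ∈ B) →
      ∀ b ∈ B, x * b = b * x := by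
  have hq : q.Prime := Fact.out
  have hxp : x ^ p = 1 := by
    apply FaithfulSMul.eq_of_smul_eq_smul (α := U)
    intro u
    rw [hx.pow_prime_smul hpU, one_smul]
  have hcop : ∀ k : ℕ, (q ^ k).Coprime p := fun k =>
    Nat.Coprime.pow_left k ((Nat.coprime_primes hq hp).mpr hqp)
  intro n
  induction n with
  | zero =>
    intro B hB
    exfalso
    have : 0 < Nat.card B := Nat.card_pos
    omega
  | succ n ih =>
    intro B hcard hBq hxB
    by_contra hcon
    push Not at hcon
    obtain ⟨b₀, hb₀, hb₀x⟩ := hcon
    -- proper `x`-invariant subgroups are centralized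
    have hprop : ∀ B' : Subgroup Y, B' < B → (∀ b ∈ B', x * b * x⁻¹ ∈ B') →
        ∀ b ∈ B', x * b = b * x := by
      intro B' hlt hxB'
      have := card_lt_of_ssub hlt
      exact ih B' (by omega) (hBq.to_le hlt.le) hxB'
    by_cases hab : ∀ a ∈ B, ∀ b ∈ B, a * b = b * a
    · have hM : ∀ u : U, Nat.card B • u = 0 → u = 0 := by
        intro u hu
        obtain ⟨k, hk⟩ := IsPGroup.iff_card.mp hBq
        rw [hk] at hu
        exact eq_zero_of_coprime_nsmul (hcop k) hu (hpU u)
      have := module_lemma_add B hab x p hp hxB hxp (hx.norm hp hp2 hpU) hM b₀ hb₀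
      have h1 : b₀ * x * b₀⁻¹ * x⁻¹ = 1 := by
        apply FaithfulSMul.eq_of_smul_eq_smul (α := U)
        intro u
        rw [this u, one_smul]
      apply hb₀x
      calc x * b₀ = (b₀ * x * b₀⁻¹ * x⁻¹)⁻¹ * (b₀ * x) := by group
        _ = b₀ * x := by rw [h1, inv_one, one_mul]
    · push Not at hab
      obtain ⟨a₁, ha₁, a₂, ha₂, ha₁₂⟩ := hab
      -- the centre of `B`
      set Z : Subgroup Y := (Subgroup.center B).map B.subtype with hZ
      have hZmem : ∀ c : Y, c ∈ Z ↔ c ∈ B ∧ ∀ b ∈ B, b * c = c * b := by
        intro c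
        constructor
        · rintro ⟨c', hc', rfl⟩
          refine ⟨c'.2, fun b hb => ?_⟩
          have := Subgroup.mem_center_iff.mp hc' ⟨b, hb⟩
          exact congrArg Subtype.val this
        · rintro ⟨hcB, hc⟩
          refine ⟨⟨c, hcB⟩, ?_, rfl⟩
          show (⟨c, hcB⟩ : B) ∈ Subgroup.center B
          rw [Subgroup.mem_center_iff]
          intro b
          exact Subtype.ext (hc b b.2)
      have hZB : Z ≤ B := fun c hc => ((hZmem c).mp hc).1
      have hZlt : Z < B := by
        refine lt_of_le_of_ne hZB ?_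
        intro h
        have : a₂ ∈ Z := h ▸ ha₂
        exact ha₁₂ (((hZmem a₂).mp this).2 a₁ ha₁)
      have hxB' : ∀ b ∈ B, x⁻¹ * b * x ∈ B := by
        intro b hb
        have := conj_pow_mem hxB (p - 1) b hb
        have e : x ^ (p - 1) = x⁻¹ := by
          have : x ^ (p - 1) * x = 1 := by
            rw [← pow_succ, Nat.sub_add_cancel hp.one_le, hxp]
          exact eq_inv_of_mul_eq_one_left this
        rwa [e, inv_inv] at this
      have hxZ : ∀ c ∈ Z, x * c * x⁻¹ ∈ Z := by
        intro c hc
        obtain ⟨hcB, hcc⟩ := (hZmem c).mp hc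
        refine (hZmem _).mpr ⟨hxB c hcB, fun b hb => ?_⟩
        have h1 := hcc (x⁻¹ * b * x) (hxB' b hb)
        calc b * (x * c * x⁻¹) = x * ((x⁻¹ * b * x) * c) * x⁻¹ := by group
          _ = x * (c * (x⁻¹ * b * x)) * x⁻¹ := by rw [h1]
          _ = x * c * x⁻¹ * b := by group
      have hZc := hprop Z hZlt hxZ
      -- a nontrivial central element
      have hBnt : Nontrivial B := by
        refine ⟨⟨a₁, ha₁⟩, ⟨a₂, ha₂⟩, ?_⟩
        intro h
        apply ha₁₂
        have : a₁ = a₂ := congrArg Subtype.val h
        rw [this]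
      obtain ⟨z', hz'c, hz'1⟩ : ∃ z' : B, z' ∈ Subgroup.center B ∧ z' ≠ 1 := by
        have := hBq.center_nontrivial
        obtain ⟨⟨z', hz'⟩, hne⟩ := exists_ne (1 : Subgroup.center B)
        exact ⟨z', hz', fun h => hne (Subtype.ext h)⟩
      set z : Y := (z' : Y) with hzdef
      have hzB : z ∈ B := z'.2
      have hzZ : z ∈ Z := ⟨z', hz'c, rfl⟩
      have hzcomm : ∀ b ∈ B, b * z = z * b := ((hZmem z).mp hzZ).2
      have hz1 : z ≠ 1 := fun h => hz'1 (Subtype.ext h)
      have hzx : z * x = x * z := (hZc z hzZ).symm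
      -- a conjugate `y` of `x` with `B ≤ ⟨x, y⟩`
      have key : ∃ b ∈ B, B ≤ Subgroup.closure {x, b * x * b⁻¹} := by
        by_contra hno
        push Not at hno
        apply hb₀x
        have hall : ∀ b ∈ B, x * b = b * x := by
          intro b hb
          set c := b * x * b⁻¹ * x⁻¹ with hc
          have hcB : c ∈ B := by
            have : c = b * (x * b⁻¹ * x⁻¹) := by rw [hc]; group
            rw [this]
            exact B.mul_mem hb (hxB _ (B.inv_mem hb))
          set D : Subgroup Y := Subgroup.closure {g | ∃ i : ℕ, g = x ^ i * c * (x ^ i)⁻¹} with hD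
          have hDB : D ≤ B := by
            rw [hD, Subgroup.closure_le]
            rintro g ⟨i, rfl⟩
            exact conj_pow_mem hxB i c hcB
          have hcD : c ∈ D := Subgroup.subset_closure ⟨0, by simp⟩
          have hxD : ∀ d ∈ D, x * d * x⁻¹ ∈ D := by
            intro d hd
            have hle : D ≤ D.comap (MulAut.conj x).toMonoidHom := by
              rw [hD, Subgroup.closure_le]
              rintro g ⟨i, rfl⟩
              rw [SetLike.mem_coe, Subgroup.mem_comap]
              have e : (MulAut.conj x).toMonoidHom (x ^ i * c * (x ^ i)⁻¹) =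
                  x ^ (i + 1) * c * (x ^ (i + 1))⁻¹ := by
                simp only [MulEquiv.coe_toMonoidHom, MulAut.conj_apply]
                rw [pow_succ']; group
              rw [e]
              exact Subgroup.subset_closure ⟨i + 1, rfl⟩
            have := hle hd
            simpa [MulAut.conj_apply] using this
          have hDcl : D ≤ Subgroup.closure {x, b * x * b⁻¹} := by
            rw [hD, Subgroup.closure_le]
            rintro g ⟨i, rfl⟩
            have hxc : x ∈ Subgroup.closure {x, b * x * b⁻¹} :=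
              Subgroup.subset_closure (by simp)
            have hyc : b * x * b⁻¹ ∈ Subgroup.closure {x, b * x * b⁻¹} :=
              Subgroup.subset_closure (by simp)
            have hcc : c ∈ Subgroup.closure {x, b * x * b⁻¹} := by
              rw [hc]
              exact Subgroup.mul_mem _ hyc (Subgroup.inv_mem _ hxc)
            exact Subgroup.mul_mem _ (Subgroup.mul_mem _ (Subgroup.pow_mem _ hxc i) hcc)
              (Subgroup.inv_mem _ (Subgroup.pow_mem _ hxc i))
          have hDlt : D < B := by
            refine lt_of_le_of_ne hDB ?_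
            intro h
            exact hno b hb (h ▸ hDcl)
          have hxc : x * c = c * x := hprop D hDlt hxD c hcD
          have hcp : c ^ p = 1 := by
            have h1 : (c * x) ^ p = c ^ p * x ^ p := (show Commute c x from hxc.symm).mul_pow p
            have h2 : c * x = b * x * b⁻¹ := by rw [hc]; group
            have h3 : (b * x * b⁻¹) ^ p = 1 := by rw [conj_pow, hxp]; group
            rw [h2, h3, hxp, mul_one] at h1
            exact h1.symm
          have hc1 : c = 1 := by
            obtain ⟨k, hk⟩ := hBq ⟨c, hcB⟩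
            have hk' : c ^ (q ^ k) = 1 := by
              have := congrArg Subtype.val hk
              simpa using this
            have h1 : orderOf c ∣ p := orderOf_dvd_of_pow_eq_one hcp
            have h2 : orderOf c ∣ q ^ k := orderOf_dvd_of_pow_eq_one hk'
            have h3 : orderOf c ∣ 1 := by
              have := Nat.dvd_gcd h2 h1
              rwa [(hcop k)] at this
            exact orderOf_eq_one_iff.mp (Nat.dvd_one.mp h3)
          calc x * b = (b * x * b⁻¹ * x⁻¹)⁻¹ * (b * x) := by group
            _ = b * x := by rw [← hc, hc1, inv_one, one_mul]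
        exact hall b₀ hb₀
      obtain ⟨b, hb, hBcl⟩ := key
      set y := b * x * b⁻¹ with hy
      have hyq : Quad U y := hx.conj b
      have hzy : z * y = y * z := by
        rw [hy]
        have h1 := hzcomm b hb
        have h2 := hzcomm b⁻¹ (B.inv_mem hb)
        calc z * (b * x * b⁻¹) = (z * b) * x * b⁻¹ := by group
          _ = b * (z * x) * b⁻¹ := by rw [← h1]; group
          _ = b * x * (z * b⁻¹) := by rw [hzx]; group
          _ = b * x * b⁻¹ * z := by rw [← h2]; group
      obtain ⟨k, hk⟩ := hBq ⟨z, hzB⟩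
      have hzk : z ^ (q ^ k) = 1 := by
        have := congrArg Subtype.val hk
        simpa using this
      have hodd : Odd (q ^ k) := (hq.odd_of_ne_two hq2).pow
      exact hz1 (eq_one_of_central hpU hx hyq hzx hzy (hBcl hzB) hzk hodd (hcop k))

end Main

end Cfsg.Agent.Lib.Helper34_OddQuad
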