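import Mathlib
import Cfsg.Agent.Lib.Helper34_OddQuad
import Cfsg.Agent.Lib.Helper55_Fitting
import Cfsg.Agent.Lib.Helper71_Fitting

/-!
# `p`-stability of solvable groups of odd order (helper34)

`base_abstract`: a solvable group of odd order acting faithfully on a finite abelian group of odd
prime exponent `p`, with `O_p = 1`, contains no nontrivial element acting quadratically.
`exists_normal_of_quadratic_odd`: `X` solvable of odd order, `V` a normal `p`-subgroup, `a` acting
quadratically on `V`; then `a` lies in a normal subgroup `D ≥ C_X(V)` with `D / C_X(V)` a `p`-group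
(i.e. `a C_X(V) ∈ O_p(X / C_X(V))`).
-/

set_option autoImplicit false

universe u

namespace Cfsg.Agent.Lib.Helper34_OddStable

open scoped commutatorElement
open Cfsg.Agent.Lib.Helper34_OddQuad Cfsg.Agent.Lib.Helper71_Fitting

section Abstract

variable {Y : Type*} [Group Y] [Finite Y] {U : Type*} [AddCommGroup U] [Finite U]
  [DistribMulAction Y U] [FaithfulSMul Y U]

/-- a solvable group of odd order with `O_p = 1` acting faithfully on an abelian group of exponent
`p` has no nontrivial quadratic element -/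
theorem base_abstract [Group.IsSolvable Y] (hodd : Odd (Nat.card Y)) {p : ℕ} [hpf : Fact p.Prime]
    (hp2 : p ≠ 2) (hpU : ∀ u : U, p • u = 0) (hOp : sylowCore p Y = ⊥) {x : Y} (hx : Quad U x) :
    x = 1 := by
  have hp : p.Prime := hpf.out
  have hxp : x ^ p = 1 := by
    apply FaithfulSMul.eq_of_smul_eq_smul (α := U)
    intro u
    rw [hx.pow_prime_smul hpU, one_smul]
  -- `x` centralizes every `O_q`
  have hcent : ∀ q : ℕ, q.Prime → ∀ b ∈ sylowCore q Y, x * b = b * x := by
    intro q hq b hb
    haveI : Fact q.Prime := ⟨hq⟩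
    by_cases hqp : q = p
    · subst hqp
      rw [hOp, Subgroup.mem_bot] at hb
      rw [hb, mul_one, one_mul]
    by_cases hq2 : q = 2
    · subst hq2
      -- a `2`-subgroup of a group of odd order is trivial
      obtain ⟨k, hk⟩ := IsPGroup.iff_card.mp (sylowCore_isPGroup (G := Y) 2)
      have hdvd : 2 ^ k ∣ Nat.card Y := hk ▸ Subgroup.card_subgroup_dvd_card _
      have hk0 : k = 0 := by
        by_contra hne
        have : 2 ∣ Nat.card Y := (dvd_pow_self 2 hne).trans hdvd
        exact (Nat.not_even_iff_odd.mpr hodd) (even_iff_two_dvd.mpr this)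
      rw [hk0, pow_zero, Subgroup.card_eq_one] at hk
      rw [hk, Subgroup.mem_bot] at hb
      rw [hb, mul_one, one_mul]
    · have hnorm : ∀ c ∈ sylowCore q Y, x * c * x⁻¹ ∈ sylowCore q Y := fun c hc =>
        (sylowCore_normal (G := Y) q).conj_mem c hc x
      exact centralizes_of_quad hp hp2 hpU hqp hq2 hx _ (sylowCore q Y) le_rfl
        (sylowCore_isPGroup q) hnorm b hb
  -- hence `x` centralizes the Fitting subgroup
  have hxF : x ∈ Subgroup.centralizer (Cfsg.fittingSubgroup Y : Set Y) := by
    have hle : Cfsg.fittingSubgroup Y ≤ Subgroup.centralizer {x} := by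
      rw [fittingSubgroup_eq_sylowCoreSup, sylowCoreSup]
      apply iSup_le
      rintro ⟨q, hq⟩
      intro b hb
      rw [Subgroup.mem_centralizer_iff]
      intro y hy
      rw [Set.mem_singleton_iff] at hy
      subst hy
      exact hcent q (Nat.prime_of_mem_primeFactors hq) b hb
    rw [Subgroup.mem_centralizer_iff]
    intro f hf
    have := hle hf
    rw [Subgroup.mem_centralizer_iff] at this
    exact (this x rfl).symm
  have hxF' : x ∈ Cfsg.fittingSubgroup Y :=
    Cfsg.Agent.Lib.Helper55_Fitting.centralizer_fittingSubgroup_le hxF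
  -- a `p`-element of the Fitting subgroup lies in `O_p`
  have hord : ∃ k : ℕ, orderOf x = p ^ k := by
    have := orderOf_dvd_of_pow_eq_one hxp
    rcases (Nat.dvd_prime hp).mp this with h | h
    · exact ⟨0, by rw [h, pow_zero]⟩
    · exact ⟨1, by rw [h, pow_one]⟩
  obtain ⟨k, hk⟩ := hord
  have : x ∈ sylowCore p Y := mem_sylowCore.mpr (fun P => mem_sylow_of_mem_fitting hxF' hk P)
  rw [hOp, Subgroup.mem_bot] at this
  exact this

end Abstract

section Concrete

open Cfsg.Agent.Lib.Helper34_PStable

/-- additive action on `Additive M` from a homomorphism to `MulAut M` -/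
@[reducible] def addActOfHom {G M : Type*} [Group G] [CommGroup M] (ψ : G →* MulAut M) :
    DistribMulAction G (Additive M) where
  smul g a := Additive.ofMul (ψ g (Additive.toMul a))
  one_smul a := by
    show Additive.ofMul (ψ 1 (Additive.toMul a)) = a
    rw [map_one]; rfl
  mul_smul g h a := by
    show Additive.ofMul (ψ (g * h) (Additive.toMul a)) =
      Additive.ofMul (ψ g (Additive.toMul (Additive.ofMul (ψ h (Additive.toMul a)))))
    rw [map_mul]; rfl
  smul_zero g := by
    show Additive.ofMul (ψ g 1) = 0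
    rw [map_one]; rfl
  smul_add g a b := by
    show Additive.ofMul (ψ g (Additive.toMul a * Additive.toMul b)) = _
    rw [map_mul]; rfl

/-- the irreducible case: `a` quadratic on a minimal normal `p`-subgroup `V` of the solvable group
`X` of odd order centralizes `V` -/
theorem base_irreducible {X : Type u} [Group X] [Finite X] [Group.IsSolvable X]
    (hodd : Odd (Nat.card X)) {p : ℕ} [Fact p.Prime] (hp2 : p ≠ 2) (V : Subgroup X) [hVn : V.Normal]
    (hV : IsPGroup p V) (hV1 : V ≠ ⊥)
    (hirr : ∀ U : Subgroup X, U.Normal → U ≤ V → U = ⊥ ∨ U = V)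
    (a : X) (ha : ∀ v ∈ V, a * ⁅a, v⁆ = ⁅a, v⁆ * a) : a ∈ Subgroup.centralizer (V : Set X) := by
  classical
  have hp : p.Prime := Fact.out
  -- `V` is elementary abelian
  have hΩ : omegaCentral p V V le_rfl = V := by
    have h1 : (omegaCentral p V V le_rfl).Normal := omegaCentral_normal le_rfl
    have h2 : omegaCentral p V V le_rfl ≠ ⊥ := omegaCentral_ne_bot le_rfl hV hV1
    have h3 : omegaCentral p V V le_rfl ≤ V := fun v hv => (mem_omegaCentral.mp hv).1
    exact (hirr _ h1 h3).resolve_left h2
  have hVab : ∀ u ∈ V, ∀ v ∈ V, u * v = v * u := by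
    intro u hu v hv
    have : v ∈ omegaCentral p V V le_rfl := by rw [hΩ]; exact hv
    have h2 := (mem_omegaCentral.mp this).2.1
    rw [Subgroup.mem_centralizer_iff] at h2
    exact h2 u hu
  have hVp : ∀ v ∈ V, v ^ p = 1 := by
    intro v hv
    have : v ∈ omegaCentral p V V le_rfl := by rw [hΩ]; exact hv
    exact (mem_omegaCentral.mp this).2.2
  letI : CommGroup V :=
    { (inferInstance : Group V) with mul_comm := fun x y => Subtype.ext (hVab x x.2 y y.2) }
  set C : Subgroup X := Subgroup.centralizer (V : Set X) with hC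
  have hCn : C.Normal := inferInstance
  let φ : X →* MulAut V := MulAut.conjNormal
  have hker : ∀ g : X, φ g = 1 ↔ g ∈ C := fun g => conjNormal_eq_one_iff g
  let ψ : X ⧸ C →* MulAut V := QuotientGroup.lift C φ (fun g hg => (hker g).mpr hg)
  have hψmk : ∀ g : X, ψ (QuotientGroup.mk g) = φ g := fun g => rfl
  have hψinj : Function.Injective ψ := by
    rw [injective_iff_map_eq_one]
    intro g hg
    obtain ⟨g, rfl⟩ := QuotientGroup.mk_surjective g
    rw [hψmk] at hg
    exact (QuotientGroup.eq_one_iff g).mpr ((hker g).mp hg)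
  letI act : DistribMulAction (X ⧸ C) (Additive V) := addActOfHom ψ
  have hsmul : ∀ (g : X ⧸ C) (u : Additive V), g • u = Additive.ofMul (ψ g (Additive.toMul u)) :=
    fun g u => rfl
  haveI : FaithfulSMul (X ⧸ C) (Additive V) := by
    constructor
    intro g h hgh
    apply hψinj
    ext v
    have := hgh (Additive.ofMul v)
    rw [hsmul, hsmul] at this
    exact congrArg Subtype.val (Additive.ofMul.injective this)
  have hpU : ∀ u : Additive V, p • u = 0 := by
    intro u
    have h1 : p • u = Additive.ofMul ((Additive.toMul u) ^ p) := rfl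
    rw [h1]
    have : (Additive.toMul u) ^ p = 1 := Subtype.ext (by
      rw [Subgroup.coe_pow]; exact hVp _ (Additive.toMul u).2)
    rw [this]; rfl
  -- the image of `a` is quadratic
  have hquad : Quad (Additive V) (QuotientGroup.mk a : X ⧸ C) := by
    intro u
    set v : V := Additive.toMul u with hv
    have hu : u = Additive.ofMul v := rfl
    have e1 : (QuotientGroup.mk a : X ⧸ C) • u - u = Additive.ofMul (φ a v * v⁻¹) := by
      rw [hsmul, hψmk, sub_eq_add_neg]; rfl
    rw [e1, hsmul, hψmk]
    congr 1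
    apply Subtype.ext
    show a * ((a * (v : X) * a⁻¹) * (v : X)⁻¹) * a⁻¹ = (a * (v : X) * a⁻¹) * (v : X)⁻¹
    have h1 := ha (v : X) v.2
    rw [commutatorElement_def] at h1
    rw [h1]; group
  -- `O_p (X / C) = 1`
  have hOp : sylowCore p (X ⧸ C) = ⊥ := by
    set O : Subgroup (X ⧸ C) := sylowCore p (X ⧸ C) with hO
    set R : Subgroup X := O.comap (QuotientGroup.mk' C) with hR
    have hRn : R.Normal := inferInstance
    set U₁ : Subgroup X := V ⊓ Subgroup.centralizer (R : Set X) with hU₁
    have hU₁n : U₁.Normal := inferInstance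
    have hdvd : p ∣ Nat.card (Additive V) := by
      have : Nontrivial V := (Subgroup.nontrivial_iff_ne_bot V).mpr hV1
      obtain ⟨n, hn0, hn⟩ := hV.nontrivial_iff_card.mp this
      show p ∣ Nat.card V
      rw [hn]; exact dvd_pow_self _ (ne_of_gt hn0)
    have h0 : (0 : Additive V) ∈ MulAction.fixedPoints O (Additive V) := by
      intro o
      exact smul_zero _
    obtain ⟨b, hb, hb0⟩ := (sylowCore_isPGroup (G := X ⧸ C) p).exists_fixed_point_of_prime_dvd_card_of_fixed_point
      (Additive V) hdvd h0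
    set v : V := Additive.toMul b with hv
    have hv1 : (v : X) ≠ 1 := by
      intro h
      apply hb0
      have : v = 1 := Subtype.ext h
      show (0 : Additive V) = b
      have hb' : b = Additive.ofMul v := rfl
      rw [hb', this]; rfl
    have hvU₁ : (v : X) ∈ U₁ := by
      refine Subgroup.mem_inf.mpr ⟨v.2, ?_⟩
      rw [Subgroup.mem_centralizer_iff]
      intro r hr
      have hrO : (QuotientGroup.mk r : X ⧸ C) ∈ O := hr
      have := hb ⟨_, hrO⟩
      have h2 : (QuotientGroup.mk r : X ⧸ C) • b = b := this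
      rw [hsmul, hψmk] at h2
      have h3 : φ r v = v := Additive.ofMul.injective h2
      have h4 : r * (v : X) * r⁻¹ = v := congrArg Subtype.val h3
      calc r * (v : X) = (r * v * r⁻¹) * r := by group
        _ = v * r := by rw [h4]
    have hU₁V : U₁ = V := by
      refine (hirr U₁ hU₁n inf_le_left).resolve_left ?_
      intro h
      rw [h, Subgroup.mem_bot] at hvU₁
      exact hv1 hvU₁
    have hRC : R ≤ C := by
      intro r hr
      rw [hC, Subgroup.mem_centralizer_iff]
      intro w hw
      have : w ∈ Subgroup.centralizer (R : Set X) := by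
        have : w ∈ U₁ := hU₁V ▸ hw
        exact (Subgroup.mem_inf.mp this).2
      rw [Subgroup.mem_centralizer_iff] at this
      exact (this r hr).symm
    rw [eq_bot_iff]
    intro o ho
    obtain ⟨r, rfl⟩ := QuotientGroup.mk_surjective o
    rw [Subgroup.mem_bot]
    exact (QuotientGroup.eq_one_iff r).mpr (hRC ho)
  have hodd' : Odd (Nat.card (X ⧸ C)) := hodd.of_dvd_nat (Subgroup.card_quotient_dvd_card C)
  have := base_abstract (Y := X ⧸ C) (U := Additive V) hodd' hp2 hpU hOp hquad
  exact (QuotientGroup.eq_one_iff a).mp this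

/-- **`p`-stability of solvable groups of odd order**, in the form of a normal subgroup. -/
theorem exists_normal_of_quadratic_odd_aux {p : ℕ} [Fact p.Prime] (hp2 : p ≠ 2) :
    ∀ (n : ℕ) (X : Type u) [Group X] [Finite X] [Group.IsSolvable X], Odd (Nat.card X) →
      ∀ (V : Subgroup X) [V.Normal], IsPGroup p V → Nat.card V ≤ n →
      ∀ a : X, (∀ v ∈ V, a * ⁅a, v⁆ = ⁅a, v⁆ * a) →
      ∃ D : Subgroup X, D.Normal ∧ Subgroup.centralizer (V : Set X) ≤ D ∧ a ∈ D ∧
        ∀ d ∈ D, ∃ j : ℕ, d ^ (p ^ j) ∈ Subgroup.centralizer (V : Set X) := by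
  intro n
  induction n with
  | zero =>
    intro X _ _ _ _ V _ _ hcard
    exfalso
    have : 0 < Nat.card V := Nat.card_pos
    omega
  | succ n ih =>
    intro X _ _ _ hodd V hVn hV hcard a ha
    by_cases hirr : ∀ U : Subgroup X, U.Normal → U ≤ V → U = ⊥ ∨ U = V
    · by_cases hV1 : V = ⊥
      · refine ⟨⊤, inferInstance, le_top, Subgroup.mem_top a, fun d _ => ⟨0, ?_⟩⟩
        rw [Subgroup.mem_centralizer_iff]
        intro v hv
        rw [hV1] at hv
        have : v = 1 := by simpa using hv
        rw [this, one_mul, mul_one]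
      · have haC := base_irreducible hodd hp2 V hV hV1 hirr a ha
        exact ⟨_, inferInstance, le_rfl, haC, fun d hd => ⟨0, by simpa using hd⟩⟩
    · push Not at hirr
      obtain ⟨U, hUn, hUV, hU1, hUV'⟩ := hirr
      have hUlt : U < V := lt_of_le_of_ne hUV hUV'
      have hcardU : Nat.card U < Nat.card V := card_lt_of_ssub hUlt
      -- induction on `U`
      obtain ⟨D₁, hD₁n, hCD₁, haD₁, hD₁p⟩ := ih X hodd U (hV.to_le hUV) (by omega) a
        (fun v hv => ha v (hUV hv))
      -- induction on `V / U`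
      set π : X →* X ⧸ U := QuotientGroup.mk' U with hπ
      have hπs : Function.Surjective π := QuotientGroup.mk'_surjective U
      have hVbn : (V.map π).Normal := hVn.map π hπs
      have hVbp : IsPGroup p (V.map π) := hV.map π
      have hcardVb : Nat.card (V.map π) < Nat.card V :=
        card_map_lt V U π hUV hU1 (by rw [hπ, QuotientGroup.ker_mk'])
      have hoddq : Odd (Nat.card (X ⧸ U)) := hodd.of_dvd_nat (Subgroup.card_quotient_dvd_card U)
      have haq : ∀ v ∈ V.map π, π a * ⁅π a, v⁆ = ⁅π a, v⁆ * π a := by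
        rintro _ ⟨v, hv, rfl⟩
        rw [← map_commutatorElement, ← map_mul, ← map_mul, ha v hv]
      obtain ⟨D₂, hD₂n, hCD₂, haD₂, hD₂p⟩ := ih (X ⧸ U) hoddq (V.map π) hVbp (by omega) (π a) haq
      have hD₂cn : (D₂.comap π).Normal := hD₂n.comap π
      refine ⟨D₁ ⊓ D₂.comap π, inferInstance, ?_, Subgroup.mem_inf.mpr ⟨haD₁, haD₂⟩, ?_⟩
      · intro c hc
        refine Subgroup.mem_inf.mpr ⟨hCD₁ (Subgroup.centralizer_le hUV hc), ?_⟩
        apply hCD₂
        rw [Subgroup.mem_centralizer_iff]
        rintro _ ⟨v, hv, rfl⟩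
        rw [Subgroup.mem_centralizer_iff] at hc
        rw [← map_mul, ← map_mul, hc v hv]
      · intro d hd
        obtain ⟨hd₁, hd₂⟩ := Subgroup.mem_inf.mp hd
        obtain ⟨j₁, hj₁⟩ := hD₁p d hd₁
        obtain ⟨j₂, hj₂⟩ := hD₂p (π d) hd₂
        obtain ⟨e, he⟩ := IsPGroup.iff_card.mp (hV.to_le hUV)
        set s : X := d ^ (p ^ (j₁ + j₂)) with hs
        have hs₁ : s ∈ Subgroup.centralizer (U : Set X) := by
          rw [hs, pow_add, pow_mul]
          exact Subgroup.pow_mem _ hj₁ _
        have hs₂ : π s ∈ Subgroup.centralizer ((V.map π : Subgroup (X ⧸ U)) : Set (X ⧸ U)) := by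
          rw [hs, pow_add, mul_comm, pow_mul, map_pow]
          exact Subgroup.pow_mem _ hj₂ _
        refine ⟨j₁ + j₂ + e, ?_⟩
        have hpow : d ^ (p ^ (j₁ + j₂ + e)) = s ^ (p ^ e) := by
          rw [hs, ← pow_mul, ← pow_add]
        rw [hpow, Subgroup.mem_centralizer_iff]
        intro v hv
        -- `⁅s, v⁆ ∈ U`
        have hcU : ⁅s, v⁆ ∈ U := by
          rw [← QuotientGroup.ker_mk' U, MonoidHom.mem_ker, map_commutatorElement,
            commutatorElement_eq_one_iff_commute]
          rw [Subgroup.mem_centralizer_iff] at hs₂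
          exact (hs₂ (π v) ⟨v, hv, rfl⟩).symm
        have hsc : s * ⁅s, v⁆ = ⁅s, v⁆ * s := by
          rw [Subgroup.mem_centralizer_iff] at hs₁
          exact (hs₁ _ hcU).symm
        have h1 := conj_pow_of_commute s v hsc (p ^ e)
        have h2 : ⁅s, v⁆ ^ (p ^ e) = 1 := by
          have : (⟨⁅s, v⁆, hcU⟩ : U) ^ Nat.card U = 1 := pow_card_eq_one'
          rw [he] at this
          have := congrArg Subtype.val this
          simpa using this
        rw [h2, one_mul] at h1
        calc v * s ^ p ^ e = (s ^ p ^ e * v * (s ^ p ^ e)⁻¹) * s ^ p ^ e := by rw [h1]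
          _ = s ^ p ^ e * v := by group

/-- **`p`-stability of solvable groups of odd order**: if `a` acts quadratically on the normal
`p`-subgroup `V`, then `a` lies in a normal subgroup `D ≥ C_X(V)` with `D / C_X(V)` a `p`-group. -/
theorem exists_normal_of_quadratic_odd {X : Type u} [Group X] [Finite X] [Group.IsSolvable X]
    (hodd : Odd (Nat.card X)) {p : ℕ} [Fact p.Prime] (hp2 : p ≠ 2) (V : Subgroup X) [V.Normal]
    (hV : IsPGroup p V) (a : X)
    (ha : ⁅⁅V, Subgroup.zpowers a⁆, Subgroup.zpowers a⁆ = ⊥) :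
    ∃ D : Subgroup X, D.Normal ∧ Subgroup.centralizer (V : Set X) ≤ D ∧ a ∈ D ∧
      ∀ d ∈ D, ∃ j : ℕ, d ^ (p ^ j) ∈ Subgroup.centralizer (V : Set X) :=
  exists_normal_of_quadratic_odd_aux hp2 _ X hodd V hV le_rfl a
    (fun _ hv => commute_of_quadratic ha (Subgroup.mem_zpowers a) hv)

/-- normalizer form: `g ∈ N_Y(P)` quadratic on the `p`-subgroup `P` of the solvable group `Y` of
odd order maps into `O_p(N_Y(P) / C_Y(P))` -/
theorem mk_mem_pCore_of_quadratic_odd {Y : Type u} [Group Y] [Finite Y] [Group.IsSolvable Y]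
    (hodd : Odd (Nat.card Y)) {p : ℕ} [Fact p.Prime] (hp2 : p ≠ 2) (P : Subgroup Y)
    (hP : IsPGroup p P) (g : Y) (hg : g ∈ Subgroup.normalizer (P : Set Y))
    (hquad : ⁅⁅P, Subgroup.zpowers g⁆, Subgroup.zpowers g⁆ = ⊥) :
    (QuotientGroup.mk (s := (Subgroup.centralizer (P : Set Y)).subgroupOf
        (Subgroup.normalizer (P : Set Y))) (⟨g, hg⟩ : ↥(Subgroup.normalizer (P : Set Y)))) ∈
      Cfsg.pCore p (↥(Subgroup.normalizer (P : Set Y)) ⧸
        (Subgroup.centralizer (P : Set Y)).subgroupOf (Subgroup.normalizer (P : Set Y))) := by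
  set N : Subgroup Y := Subgroup.normalizer (P : Set Y) with hN
  have hPN : P ≤ N := Subgroup.le_normalizer
  set V : Subgroup N := P.subgroupOf N with hVdef
  have hVn : V.Normal := inferInstance
  have hVp : IsPGroup p V := hP.comap_of_injective N.subtype N.subtype_injective
  have hquad' : ⁅⁅V, Subgroup.zpowers (⟨g, hg⟩ : N)⁆, Subgroup.zpowers (⟨g, hg⟩ : N)⁆ = ⊥ := by
    rw [← Subgroup.map_eq_bot_iff_of_injective _ N.subtype_injective, Subgroup.map_commutator,
      Subgroup.map_commutator, eq_bot_iff, ← hquad]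
    have h1 : V.map N.subtype ≤ P := by
      rintro _ ⟨x, hx, rfl⟩; exact hx
    have h2 : (Subgroup.zpowers (⟨g, hg⟩ : N)).map N.subtype ≤ Subgroup.zpowers g := by
      rw [MonoidHom.map_zpowers]; exact le_rfl
    exact Subgroup.commutator_mono (Subgroup.commutator_mono h1 h2) h2
  have hoddN : Odd (Nat.card N) := hodd.of_dvd_nat (Subgroup.card_subgroup_dvd_card N)
  obtain ⟨D, hDn, _, haD, hDp⟩ := exists_normal_of_quadratic_odd hoddN hp2 V hVp ⟨g, hg⟩ hquad'
  have hCeq : (Subgroup.centralizer (P : Set Y)).subgroupOf N =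
      Subgroup.centralizer ((V : Subgroup N) : Set N) := by
    ext x
    rw [Subgroup.mem_subgroupOf, Subgroup.mem_centralizer_iff, Subgroup.mem_centralizer_iff]
    constructor
    · intro hx v hv
      exact Subtype.ext (hx v hv)
    · intro hx y hy
      exact congrArg Subtype.val (hx ⟨y, hPN hy⟩ hy)
  refine mk_mem_pCore_of _ D hDn ?_ haD
  intro d hd
  obtain ⟨j, hj⟩ := hDp d hd
  exact ⟨j, by rw [hCeq]; exact hj⟩

end Concrete

end Cfsg.Agent.Lib.Helper34_OddStable
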