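import Mathlib
import Cfsg.Agent.Lib.Helper98_AschDefs
import Cfsg.Agent.Lib.Helper23_FormDefs
import Cfsg.Agent.Lib.Helper34_OrthEven_EV8a
import Cfsg.Agent.Lib.Helper73_OrthEven_EV8b

/-!
# EV8 (helper22's even-dimensional orthogonal market): an irreducible group of isometries normalising an
adjoint-closed tensor algebra `M_d ⊗ 1` with `d`, `s` even is of plus type

Glue of `Helper34_OrthEven_EV8a.EV8a` (characteristic ≠ 2, helper34) and `Helper73_OrthEven_EV8b.EV8b`
(characteristic 2, helper73).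
-/

set_option autoImplicit false

namespace Cfsg.Agent.Lib.Helper34_OrthEven_EV8

open Cfsg Cfsg.Geo Matrix Cfsg.Agent.Lib.Helper98_AschDefs Cfsg.Agent.Lib.Helper23_FormDefs
open scoped Kronecker MatrixGroups

variable {ι : Type} [Fintype ι] [DecidableEq ι] {F : Type*} [Field F]

/-- EV8: an irreducible group of isometries normalising an adjoint-closed tensor algebra `M_d ⊗ 1` with `d`, `s` even:
plus type -/
theorem EV8 [Fintype F] (Q : (ι → F) → F) (hQ : IsNondegenerateQuadraticForm Q) (H : Subgroup (GL ι F))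
    (hHI : H ≤ isometryGroup F Q) (hirr : ActsIrreducibly (matrixSet H))
    (A : Subalgebra F (Matrix ι ι F)) (hA : NormalizesAlg H A)
    (hAadj : IsAdjointClosedFor (QuadraticMap.polar Q) A)
    (d s : ℕ) (e : ι ≃ Fin d × Fin s) (P : GL ι F) (hT : IsTensorAlg A d s e P)
    (hd : Even d) (hs : Even s) (hd0 : 0 < d) (hs0 : 0 < s) : IsPlusTypeOn Q ⊤ := by
  by_cases h2 : (2 : F) = 0
  · exact Cfsg.Agent.Lib.Helper73_OrthEven_EV8b.EV8b Q hQ H hHI hirr A hA hAadj d s e P hT hd hs hd0 hs0 h2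
  · exact Cfsg.Agent.Lib.Helper34_OrthEven_EV8a.EV8a Q hQ H hHI hirr A hA hAadj d s e P hT hd hs hd0 hs0 h2

end Cfsg.Agent.Lib.Helper34_OrthEven_EV8
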