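import Mathlib
import Cfsg.Prelude.Def_GeometricClasses
import Cfsg.Agent.Lib.Helper43_OrthExtDefs
import Cfsg.Agent.Lib.Helper44_Refl

set_option autoImplicit false

namespace Cfsg.Agent.Lib.Helper34_OrthExt_PE2

open Matrix Cfsg.Agent.Lib.Helper3_GUSp_PC1 Cfsg.Agent.Lib.Helper43_OrthExtDefs

section abstract

variable {F : Type*} [Field F] {V : Type*} [AddCommGroup V] [Module F V]

/-- a nondegenerate symmetric form with an isometry of square `-1` -/
structure Hyp (B : LinearMap.BilinForm F V) (x : V →ₗ[F] V) : Prop where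
  symm : ∀ u v, B u v = B v u
  nd : ∀ u, (∀ v, B u v = 0) → u = 0
  iso : ∀ u v, B (x u) (x v) = B u v
  sq : ∀ u, x (x u) = -u

/-- a self-adjoint involution anticommuting with `x` -/
structure IsJ (B : LinearMap.BilinForm F V) (x : V →ₗ[F] V) (J : V →ₗ[F] V) : Prop where
  sq : ∀ u, J (J u) = u
  sa : ∀ u v, B (J u) v = B u (J v)
  anti : ∀ u, J (x u) = -(x (J u))

/-- the orthogonal complement of the plane `⟨v, x v⟩` -/
def perpW (B : LinearMap.BilinForm F V) (x : V →ₗ[F] V) (v : V) : Submodule F V :=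
  LinearMap.ker (B.flip v) ⊓ LinearMap.ker (B.flip (x v))

theorem mem_perpW (B : LinearMap.BilinForm F V) (x : V →ₗ[F] V) (v w : V) :
    w ∈ perpW B x v ↔ B w v = 0 ∧ B w (x v) = 0 := by
  simp [perpW, Submodule.mem_inf, LinearMap.mem_ker, LinearMap.flip_apply]

variable {B : LinearMap.BilinForm F V} {x : V →ₗ[F] V}

theorem Hyp.skew (h : Hyp B x) (u w : V) : B (x u) w = -B u (x w) := by
  have := h.iso u (x w)
  rw [h.sq, map_neg] at this
  rw [← this, neg_neg]

theorem Hyp.ortho (h : Hyp B x) (h2 : (2 : F) ≠ 0) (v : V) : B v (x v) = 0 := by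
  have h1 : B v (x v) = -B v (x v) := by
    have := h.skew v v
    rw [h.symm (x v) v] at this
    exact this
  have h3 : (2 : F) * B v (x v) = 0 := by linear_combination h1
  rcases mul_eq_zero.mp h3 with h4 | h4
  · exact absurd h4 h2
  · exact h4

theorem Hyp.perp_invariant (h : Hyp B x) (v : V) : ∀ w ∈ perpW B x v, x w ∈ perpW B x v := by
  intro w hw
  rw [mem_perpW] at hw ⊢
  refine ⟨?_, ?_⟩
  · rw [h.skew, hw.2, neg_zero]
  · rw [h.iso, hw.1]

/-- coordinate along `v` -/
def fa (B : LinearMap.BilinForm F V) (v : V) : V →ₗ[F] F := (B v v)⁻¹ • B.flip v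

/-- coordinate along `x v` -/
def fb (B : LinearMap.BilinForm F V) (x : V →ₗ[F] V) (v : V) : V →ₗ[F] F :=
  (B v v)⁻¹ • B.flip (x v)

/-- the projection onto `perpW` (as an endomorphism of `V`) -/
def pr (B : LinearMap.BilinForm F V) (x : V →ₗ[F] V) (v : V) : V →ₗ[F] V :=
  LinearMap.id - (fa B v).smulRight v - (fb B x v).smulRight (x v)

theorem fa_apply (v u : V) : fa B v u = (B v v)⁻¹ * B u v := by
  simp [fa, LinearMap.flip_apply]

theorem fb_apply (v u : V) : fb B x v u = (B v v)⁻¹ * B u (x v) := by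
  simp [fb, LinearMap.flip_apply]

theorem pr_apply (v u : V) : pr B x v u = u - fa B v u • v - fb B x v u • x v := by
  simp [pr]

theorem fa_self (v : V) (hv : B v v ≠ 0) : fa B v v = 1 := by
  rw [fa_apply, inv_mul_cancel₀ hv]

theorem fb_self (h : Hyp B x) (h2 : (2 : F) ≠ 0) (v : V) : fb B x v v = 0 := by
  rw [fb_apply, h.ortho h2, mul_zero]

theorem fa_x (h : Hyp B x) (v u : V) : fa B v (x u) = -fb B x v u := by
  rw [fa_apply, fb_apply, h.skew, mul_neg]

theorem fb_x (h : Hyp B x) (v u : V) : fb B x v (x u) = fa B v u := by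
  rw [fa_apply, fb_apply, h.iso]

theorem fa_of_mem (v w : V) (hw : w ∈ perpW B x v) : fa B v w = 0 := by
  rw [fa_apply, ((mem_perpW B x v w).mp hw).1, mul_zero]

theorem fb_of_mem (v w : V) (hw : w ∈ perpW B x v) : fb B x v w = 0 := by
  rw [fb_apply, ((mem_perpW B x v w).mp hw).2, mul_zero]

theorem B_self_x (h : Hyp B x) (v : V) : B (x v) (x v) = B v v := h.iso v v

theorem pr_mem (h : Hyp B x) (h2 : (2 : F) ≠ 0) (v : V) (hv : B v v ≠ 0) (u : V) :
    pr B x v u ∈ perpW B x v := by
  rw [mem_perpW, pr_apply]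
  have h1 := h.ortho h2 v
  have h1' : B (x v) v = 0 := by rw [h.symm]; exact h1
  constructor
  · simp only [map_sub, map_smul, LinearMap.sub_apply, LinearMap.smul_apply, smul_eq_mul, h1',
      fa_apply, fb_apply]
    field_simp
    ring
  · simp only [map_sub, map_smul, LinearMap.sub_apply, LinearMap.smul_apply, smul_eq_mul, h1,
      fa_apply, fb_apply, B_self_x h]
    field_simp
    ring

theorem decomp (v u : V) : u = fa B v u • v + fb B x v u • x v + pr B x v u := by
  rw [pr_apply]; abel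

theorem B_of_mem_left (v w u : V) (hw : w ∈ perpW B x v) :
    B w u = B w (pr B x v u) := by
  have hw' := (mem_perpW B x v w).mp hw
  conv_lhs => rw [decomp (B := B) (x := x) v u]
  simp only [map_add, map_smul, smul_eq_mul, hw'.1, hw'.2, mul_zero, zero_add]

theorem B_formula (h : Hyp B x) (h2 : (2 : F) ≠ 0) (v : V) (hv : B v v ≠ 0) (u u' : V) :
    B u u' = B v v * (fa B v u * fa B v u' + fb B x v u * fb B x v u') +
      B (pr B x v u) (pr B x v u') := by
  have hm := pr_mem h h2 v hv u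
  have hm' := pr_mem h h2 v hv u'
  have e1 : B u u' = fa B v u' * B u v + fb B x v u' * B u (x v) + B u (pr B x v u') := by
    conv_lhs => rw [decomp (B := B) (x := x) v u']
    simp only [map_add, map_smul, smul_eq_mul]
  have e2 : B u (pr B x v u') = B (pr B x v u) (pr B x v u') := by
    rw [h.symm u, B_of_mem_left v _ u hm', h.symm]
  have e3 : B u v = B v v * fa B v u := by
    rw [fa_apply]; field_simp
  have e4 : B u (x v) = B v v * fb B x v u := by
    rw [fb_apply]; field_simp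
  rw [e1, e2, e3, e4]; ring

/-- the induced data on `perpW` -/
theorem hyp_restrict (h : Hyp B x) (h2 : (2 : F) ≠ 0) (v : V) (hv : B v v ≠ 0) :
    Hyp (B.restrict (perpW B x v)) (x.restrict (h.perp_invariant v)) where
  symm u w := by
    simp only [LinearMap.BilinForm.restrict_apply, LinearMap.domRestrict_apply]
    exact h.symm _ _
  nd w hw := by
    apply Subtype.ext
    apply h.nd
    intro u
    rw [B_of_mem_left v (w : V) u w.2]
    have := hw ⟨pr B x v u, pr_mem h h2 v hv u⟩
    simpa [LinearMap.BilinForm.restrict_apply] using this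
  iso u w := by
    simp only [LinearMap.BilinForm.restrict_apply, LinearMap.domRestrict_apply,
      LinearMap.restrict_coe_apply]
    exact h.iso _ _
  sq u := by
    apply Subtype.ext
    simp only [LinearMap.restrict_coe_apply, Submodule.coe_neg]
    exact h.sq _

/-- the inductive step -/
theorem step (h : Hyp B x) (h2 : (2 : F) ≠ 0) (v : V) (hv : B v v ≠ 0)
    (JW : perpW B x v →ₗ[F] perpW B x v)
    (hJW : IsJ (B.restrict (perpW B x v)) (x.restrict (h.perp_invariant v)) JW) :
    ∃ J : V →ₗ[F] V, IsJ B x J ∧ J v = v := by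
  set π : V →ₗ[F] perpW B x v := (pr B x v).codRestrict (perpW B x v) (pr_mem h h2 v hv) with hπ
  have hπ_coe : ∀ u, (π u : V) = pr B x v u := fun u => rfl
  set J : V →ₗ[F] V :=
    (fa B v).smulRight v - (fb B x v).smulRight (x v) + (perpW B x v).subtype ∘ₗ JW ∘ₗ π with hJ
  have hJ_apply : ∀ u, J u = fa B v u • v - fb B x v u • x v + (JW (π u) : V) := by
    intro u; simp [hJ]
  have h1 := h.ortho h2 v
  have h1' : B (x v) v = 0 := by rw [h.symm]; exact h1
  -- coordinates of `J u`
  have hfaJ : ∀ u, fa B v (J u) = fa B v u := by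
    intro u
    rw [hJ_apply, map_add, map_sub, map_smul, map_smul, fa_self v hv, fa_of_mem v _ (JW (π u)).2,
      fa_x h, fb_self h h2]
    simp
  have hfbJ : ∀ u, fb B x v (J u) = -fb B x v u := by
    intro u
    rw [hJ_apply, map_add, map_sub, map_smul, map_smul, fb_self h h2, fb_of_mem v _ (JW (π u)).2,
      fb_x h, fa_self v hv]
    simp
  have hπJ : ∀ u, π (J u) = JW (π u) := by
    intro u
    apply Subtype.ext
    rw [hπ_coe, pr_apply, hfaJ, hfbJ, hJ_apply]
    module
  have hπx : ∀ u, π (x u) = (x.restrict (h.perp_invariant v)) (π u) := by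
    intro u
    apply Subtype.ext
    rw [hπ_coe, pr_apply, fa_x h, fb_x h, LinearMap.restrict_coe_apply, hπ_coe, pr_apply]
    simp only [map_sub, map_smul, h.sq]
    module
  refine ⟨J, ⟨?_, ?_, ?_⟩, ?_⟩
  · intro u
    rw [hJ_apply (J u), hfaJ, hfbJ, hπJ, hJW.sq]
    rw [hπ_coe, pr_apply]
    module
  · intro u u'
    rw [B_formula h h2 v hv (J u) u', B_formula h h2 v hv u (J u'), hfaJ, hfbJ, hfaJ, hfbJ]
    have e := hJW.sa (π u) (π u')
    simp only [LinearMap.BilinForm.restrict_apply, LinearMap.domRestrict_apply] at e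
    rw [← hπ_coe (J u), ← hπ_coe (J u'), hπJ, hπJ, ← hπ_coe u, ← hπ_coe u', e]
    ring
  · intro u
    rw [hJ_apply (x u), fa_x h, fb_x h, hπx, hJW.anti, hJ_apply u]
    simp only [map_add, map_sub, map_smul, h.sq, Submodule.coe_neg, LinearMap.restrict_coe_apply]
    module
  · rw [hJ_apply, fa_self v hv, fb_self h h2]
    have : π v = 0 := by
      apply Subtype.ext
      rw [hπ_coe, pr_apply, fa_self v hv, fb_self h h2]
      simp
    rw [this, map_zero]
    simp

theorem exists_self_ne_zero (h : Hyp B x) (h2 : (2 : F) ≠ 0) (hne : ∃ u : V, u ≠ 0) :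
    ∃ v : V, B v v ≠ 0 := by
  by_contra hcon
  push Not at hcon
  obtain ⟨u, hu⟩ := hne
  apply hu
  apply h.nd
  intro w
  have e := hcon (u + w)
  simp only [map_add, LinearMap.add_apply, hcon u, hcon w, zero_add, add_zero] at e
  rw [h.symm w u] at e
  have h3 : (2 : F) * B u w = 0 := by linear_combination e
  rcases mul_eq_zero.mp h3 with h4 | h4
  · exact absurd h4 h2
  · exact h4

theorem not_mem_perpW (v : V) (hv : B v v ≠ 0) : v ∉ perpW B x v := by
  intro hmem
  exact hv ((mem_perpW B x v v).mp hmem).1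

end abstract

section induction

universe u

variable {F : Type*} [Field F]

theorem exists_J (h2 : (2 : F) ≠ 0) : ∀ (n : ℕ) (V : Type u) [AddCommGroup V] [Module F V]
    [FiniteDimensional F V] (B : LinearMap.BilinForm F V) (x : V →ₗ[F] V),
    Module.finrank F V = n → Hyp B x → ∃ J : V →ₗ[F] V, IsJ B x J := by
  intro n
  induction n using Nat.strong_induction_on with
  | _ n ih =>
    intro V _ _ _ B x hn h
    by_cases hne : ∃ u : V, u ≠ 0
    · obtain ⟨v, hv⟩ := exists_self_ne_zero h h2 hne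
      have hlt : Module.finrank F (perpW B x v) < n := by
        rw [← hn]
        apply Submodule.finrank_lt
        intro htop
        apply not_mem_perpW (x := x) v hv
        rw [htop]; exact Submodule.mem_top
      obtain ⟨JW, hJW⟩ := ih _ hlt (perpW B x v) (B.restrict (perpW B x v))
        (x.restrict (h.perp_invariant v)) rfl (hyp_restrict h h2 v hv)
      obtain ⟨J, hJ, _⟩ := step h h2 v hv JW hJW
      exact ⟨J, hJ⟩
    · push Not at hne
      refine ⟨LinearMap.id, ⟨fun u => rfl, fun u w => rfl, fun u => ?_⟩⟩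
      rw [hne (LinearMap.id (x u)), hne (x (LinearMap.id u)), neg_zero]

/-- top level: a self-adjoint involution `J` anticommuting with `x`, fixing a nonsingular `v` -/
theorem exists_J_fix (h2 : (2 : F) ≠ 0) (V : Type u) [AddCommGroup V] [Module F V]
    [FiniteDimensional F V] (B : LinearMap.BilinForm F V) (x : V →ₗ[F] V) (h : Hyp B x)
    (hne : ∃ u : V, u ≠ 0) :
    ∃ (J : V →ₗ[F] V) (v : V), IsJ B x J ∧ B v v ≠ 0 ∧ J v = v := by
  obtain ⟨v, hv⟩ := exists_self_ne_zero h h2 hne
  obtain ⟨JW, hJW⟩ := exists_J h2 _ (perpW B x v) (B.restrict (perpW B x v))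
    (x.restrict (h.perp_invariant v)) rfl (hyp_restrict h h2 v hv)
  obtain ⟨J, hJ, hJv⟩ := step h h2 v hv JW hJW
  exact ⟨J, v, hJ, hv, hJv⟩

end induction

section ringpart

variable {F : Type*} [Field F] {M : Type*} [Ring M] [Algebra F M]

theorem ring_part (A X R : M) (s t Δ : F) (hAA : A * A = 1) (hAX : A * X = -(X * A))
    (hXX : X * X = -1) (hRR : R * R = 1) (hAR : A * R = R * A)
    (hd : R * X * R * X = X * R * X * R) (hst : s ^ 2 + t ^ 2 = Δ) :
    (s • A + t • (A * X)) * (s • A + t • (A * X)) = Δ • (1 : M) ∧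
    X * (s • A + t • (A * X)) = -((s • A + t • (A * X)) * X) ∧
    X * (R * (s • A + t • (A * X)) * R) = -((R * (s • A + t • (A * X)) * R) * X) := by
  have hXA : X * A = -(A * X) := by rw [hAX, neg_neg]
  have e1 : A * (A * X) = X := by rw [← mul_assoc, hAA, one_mul]
  have e2 : (A * X) * A = -X := by rw [mul_assoc, hXA, mul_neg, e1]
  have e3 : (A * X) * (A * X) = 1 := by
    rw [mul_assoc, ← mul_assoc X A X, hXA, neg_mul, mul_neg, mul_assoc A X X, hXX, mul_neg, mul_one,
      mul_neg, neg_neg, hAA]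
  have e4 : X * (A * X) = A := by
    rw [← mul_assoc, hXA, neg_mul, mul_assoc, hXX, mul_neg, mul_one, neg_neg]
  have e5 : (A * X) * X = -A := by rw [mul_assoc, hXX, mul_neg, mul_one]
  refine ⟨?_, ?_, ?_⟩
  · simp only [add_mul, mul_add, smul_mul_assoc, mul_smul_comm, hAA, e1, e2, e3]
    rw [← hst]
    module
  · simp only [add_mul, mul_add, smul_mul_assoc, mul_smul_comm, hXA, e4, e5]
    module
  · -- X R (sA + tAX) R = s XA + t XA RXR ;  (R Θ R) X = s AX + t A RXRX
    have f1 : R * A * R = A := by rw [← hAR, mul_assoc, hRR, mul_one]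
    have f2 : X * (R * A * R) = -(A * X) := by rw [f1, hXA]
    have f3 : R * A * R * X = A * X := by rw [f1]
    have f4 : X * (R * (A * X) * R) = -(A * (R * X * R * X)) := by
      have : R * (A * X) * R = A * (R * X * R) := by
        rw [← mul_assoc R A X, ← hAR]; simp only [mul_assoc]
      rw [this, ← mul_assoc X A, hXA, hd]
      simp only [mul_assoc, neg_mul]
    have f5 : R * (A * X) * R * X = A * (R * X * R * X) := by
      rw [← mul_assoc R A X, ← hAR]; simp only [mul_assoc]
    have g : R * (s • A + t • (A * X)) * R = s • (R * A * R) + t • (R * (A * X) * R) := by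
      simp only [add_mul, mul_add, smul_mul_assoc, mul_smul_comm]
    rw [g]
    simp only [add_mul, mul_add, smul_mul_assoc, mul_smul_comm, f2, f3, f4, f5]
    module

end ringpart

section final

open Cfsg.Agent.Lib.Helper44_Refl

/-- PE2: isometries with square `-1` (with `[Nonempty ι]`: the statement is false for empty `ι`) -/
theorem PE2 {F : Type*} [Field F] [Fintype F] (h2 : (2 : F) ≠ 0) {ι : Type} [Fintype ι]
    [DecidableEq ι] [Nonempty ι] (Q : QuadraticForm F (ι → F))
    (hQ : (QuadraticMap.polarBilin Q).Nondegenerate) (Δ : F) (x : Matrix ι ι F)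
    (hxQ : ∀ v, Q (x *ᵥ v) = Q v) (hxx : x * x = -1) :
    ∃ (θ' : Matrix ι ι F) (ρ : GL ι F), θ' * θ' = Δ • (1 : Matrix ι ι F) ∧ IsSA (⇑Q) θ' ∧
      x * θ' = -(θ' * x) ∧ ρ ∈ Cfsg.isometryGroup F (⇑Q) ∧ (ρ : Matrix ι ι F).det = -1 ∧
      x * ((ρ : Matrix ι ι F) * θ' * ((ρ⁻¹ : GL ι F) : Matrix ι ι F)) =
        -(((ρ : Matrix ι ι F) * θ' * ((ρ⁻¹ : GL ι F) : Matrix ι ι F)) * x) := by
  classical
  set B : LinearMap.BilinForm F (ι → F) := QuadraticMap.polarBilin Q with hB
  set X : (ι → F) →ₗ[F] (ι → F) := Matrix.toLin' x with hX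
  have hBa : ∀ u w, B u w = QuadraticMap.polar (⇑Q) u w := fun u w => rfl
  have hXa : ∀ u, X u = x *ᵥ u := fun u => Matrix.toLin'_apply x u
  have hyp : Hyp B X :=
    { symm := fun u w => by rw [hBa, hBa, QuadraticMap.polar_comm]
      nd := fun u hu => hQ.1 u hu
      iso := fun u w => by
        rw [hBa, hBa, hXa, hXa]
        unfold QuadraticMap.polar
        rw [← Matrix.mulVec_add, hxQ, hxQ, hxQ]
      sq := fun u => by
        rw [hXa, hXa, Matrix.mulVec_mulVec, hxx, Matrix.neg_mulVec, Matrix.one_mulVec] }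
  have hne : ∃ u : ι → F, u ≠ 0 := by
    obtain ⟨i⟩ := ‹Nonempty ι›
    refine ⟨Pi.single i 1, fun h => ?_⟩
    have := congrFun h i
    simp at this
  obtain ⟨J, v, hJ, hv, hJv⟩ := exists_J_fix h2 (ι → F) B X hyp hne
  have hQv : Q v ≠ 0 := by
    intro h0
    apply hv
    rw [hBa, polar_self, h0, mul_zero]
  -- s, t with s² + t² = Δ
  obtain ⟨s, t, hst⟩ : ∃ s t : F, s ^ 2 + t ^ 2 = Δ := by
    have hF : Fintype.card F % 2 = 1 :=
      FiniteField.odd_card_of_char_ne_two (ringChar_ne_two h2)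
    obtain ⟨a, b, hab⟩ : ∃ a b, (Polynomial.X ^ 2 : Polynomial F).eval a +
        (Polynomial.X ^ 2 - Polynomial.C Δ : Polynomial F).eval b = 0 :=
      FiniteField.exists_root_sum_quadratic (Polynomial.degree_X_pow 2)
        (Polynomial.degree_X_pow_sub_C (by decide) _) hF
    refine ⟨a, b, ?_⟩
    rw [← sub_eq_zero]
    simpa only [Polynomial.eval_C, Polynomial.eval_X, Polynomial.eval_pow,
      Polynomial.eval_sub, ← add_sub_assoc] using hab
  set A : Matrix ι ι F := LinearMap.toMatrix' J with hA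
  have hAa : ∀ u, A *ᵥ u = J u := by
    intro u
    rw [hA, ← Matrix.toLin'_apply, Matrix.toLin'_toMatrix']
  set R : Matrix ι ι F := Cfsg.reflectionMatrix (⇑Q) v with hR
  have hRa : ∀ u, R *ᵥ u = u - ((Q v)⁻¹ * QuadraticMap.polar (⇑Q) v u) • v :=
    fun u => reflectionMatrix_mulVec Q v u
  have hAA : A * A = 1 := by
    apply matrix_ext_mulVec
    intro u
    rw [← Matrix.mulVec_mulVec, hAa, hAa, hJ.sq, Matrix.one_mulVec]
  have hAX : A * x = -(x * A) := by
    apply matrix_ext_mulVec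
    intro u
    rw [← Matrix.mulVec_mulVec, Matrix.neg_mulVec, ← Matrix.mulVec_mulVec, hAa, hAa, ← hXa, ← hXa,
      hJ.anti]
  have hRR : R * R = 1 := reflectionMatrix_mul_self Q hQv
  have hpJ : ∀ u, QuadraticMap.polar (⇑Q) v (J u) = QuadraticMap.polar (⇑Q) v u := by
    intro u
    rw [← hBa, ← hBa, hyp.symm, hJ.sa, hJv, hyp.symm]
  have hAR : A * R = R * A := by
    apply matrix_ext_mulVec
    intro u
    rw [← Matrix.mulVec_mulVec, ← Matrix.mulVec_mulVec, hRa, hAa, hAa, hRa, hpJ, map_sub, map_smul,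
      hJv]
  -- polar facts for `v`, `x v`
  have hvxv : QuadraticMap.polar (⇑Q) v (x *ᵥ v) = 0 := by
    rw [← hXa, ← hBa]; exact hyp.ortho h2 v
  have hpx : ∀ u, QuadraticMap.polar (⇑Q) v (x *ᵥ u) = -QuadraticMap.polar (⇑Q) (x *ᵥ v) u := by
    intro u
    rw [← hXa, ← hXa, ← hBa, ← hBa, hyp.symm, hyp.skew, hyp.symm]
  have hpxx : ∀ u, QuadraticMap.polar (⇑Q) (x *ᵥ v) (x *ᵥ u) = QuadraticMap.polar (⇑Q) v u := by
    intro u
    rw [← hXa, ← hXa, ← hBa, ← hBa, hyp.iso]
  have hxxv : x *ᵥ (x *ᵥ v) = -v := by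
    rw [Matrix.mulVec_mulVec, hxx, Matrix.neg_mulVec, Matrix.one_mulVec]
  have hRXR : ∀ u, R *ᵥ (x *ᵥ (R *ᵥ u)) = x *ᵥ u
      - ((Q v)⁻¹ * QuadraticMap.polar (⇑Q) v u) • (x *ᵥ v)
      + ((Q v)⁻¹ * QuadraticMap.polar (⇑Q) (x *ᵥ v) u) • v := by
    intro u
    rw [hRa u, Matrix.mulVec_sub, Matrix.mulVec_smul, hRa]
    rw [QuadraticMap.polar_sub_right, QuadraticMap.polar_smul_right, hvxv, hpx]
    simp only [smul_eq_mul, mul_zero, sub_zero]
    module
  have hd : R * x * R * x = x * R * x * R := by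
    apply matrix_ext_mulVec
    intro u
    have e1 : (R * x * R * x) *ᵥ u = R *ᵥ (x *ᵥ (R *ᵥ (x *ᵥ u))) := by
      simp only [Matrix.mulVec_mulVec, mul_assoc]
    have e2 : (x * R * x * R) *ᵥ u = x *ᵥ (R *ᵥ (x *ᵥ (R *ᵥ u))) := by
      simp only [Matrix.mulVec_mulVec, mul_assoc]
    rw [e1, e2, hRXR, hRXR, hpx, hpxx]
    simp only [Matrix.mulVec_add, Matrix.mulVec_sub, Matrix.mulVec_smul, hxxv]
    have e3 : x *ᵥ (x *ᵥ u) = -u := by
      rw [Matrix.mulVec_mulVec, hxx, Matrix.neg_mulVec, Matrix.one_mulVec]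
    rw [e3]
    module
  obtain ⟨r1, r2, r3⟩ := ring_part (F := F) A x R s t Δ hAA hAX hxx hRR hAR hd hst
  refine ⟨s • A + t • (A * x), reflGL Q v hQv, r1, ?_, r2, reflGL_mem Q v hQv,
    det_reflectionMatrix Q hQv, ?_⟩
  · -- self-adjointness
    intro u w
    have hK : ∀ u w, QuadraticMap.polar (⇑Q) (J (X u)) w = QuadraticMap.polar (⇑Q) u (J (X w)) := by
      intro u w
      rw [← hBa, ← hBa, hJ.sa, hyp.skew, hJ.anti, map_neg]
    have hθa : ∀ u, (s • A + t • (A * x)) *ᵥ u = s • J u + t • J (X u) := by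
      intro u
      rw [Matrix.add_mulVec, Matrix.smul_mulVec, Matrix.smul_mulVec, ← Matrix.mulVec_mulVec,
        hAa, hAa, hXa]
    rw [hθa, hθa, QuadraticMap.polar_add_left, QuadraticMap.polar_add_right,
      QuadraticMap.polar_smul_left, QuadraticMap.polar_smul_left, QuadraticMap.polar_smul_right,
      QuadraticMap.polar_smul_right, hK]
    have := hJ.sa u w
    rw [hBa, hBa] at this
    rw [this]
  · exact r3

end final

end Cfsg.Agent.Lib.Helper34_OrthExt_PE2
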