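import Mathlib
import Cfsg.Prelude.Def_GeometricClasses
import Cfsg.Agent.Lib.Helper43_OrthExtDefs

set_option autoImplicit false

namespace Cfsg.Agent.Lib.Helper34_OrthExt_PNsq

open Matrix Cfsg.Agent.Lib.Helper3_GUSp_PC1 Cfsg.Agent.Lib.Helper43_OrthExtDefs

/-- PNsq: squares of `L` are detected by the norm -/
theorem PNsq {F : Type*} [Field F] [Fintype F] (h2 : (2 : F) ≠ 0) (Δ : F) (hΔ : ¬ IsSquare Δ)
    (z : QE F Δ) (hz : z ≠ 0) : IsSquare z ↔ IsSquare (QuadraticAlgebra.norm z) := by
  classical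
  have := fact_of_not_isSquare hΔ
  set q := Fintype.card F with hq
  have hcF := ringChar_ne_two h2
  have hoddq : Odd q := Nat.odd_iff.mpr (FiniteField.odd_card_of_char_ne_two hcF)
  have hcardL : Fintype.card (QE F Δ) = q ^ 2 := card_QE rfl
  have h2L : (2 : QE F Δ) ≠ 0 := by
    intro h
    apply h2
    have h3 : algebraMap F (QE F Δ) 2 = algebraMap F (QE F Δ) 0 := by
      rw [map_ofNat, map_zero]; exact h
    exact (algebraMap F (QE F Δ)).injective h3
  have hcL : ringChar (QE F Δ) ≠ 2 := by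
    intro h
    apply h2L
    have := ringChar.Nat.cast_ringChar (R := QE F Δ)
    rw [h] at this
    exact_mod_cast this
  have hstar : star z = z ^ q := by
    rw [pow_card_eq rfl h2 hΔ z]
    ext <;> simp
  have hnorm : algebraMap F (QE F Δ) (QuadraticAlgebra.norm z) = z ^ (q + 1) := by
    rw [QuadraticAlgebra.algebraMap_norm_eq_mul_star, hstar, pow_succ']
  have hn0 : QuadraticAlgebra.norm z ≠ 0 := by
    intro h
    rw [h, map_zero] at hnorm
    exact hz (pow_eq_zero_iff (by omega) |>.mp hnorm.symm)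
  rw [FiniteField.isSquare_iff hcL hz, FiniteField.isSquare_iff hcF hn0, hcardL]
  have hexp : q ^ 2 / 2 = (q + 1) * (q / 2) := by
    obtain ⟨k, hk⟩ := hoddq
    rw [hk]
    have h1 : (2 * k + 1) ^ 2 = 2 * (2 * k * k + 2 * k) + 1 := by ring
    have h2' : (2 * k + 1) / 2 = k := by omega
    rw [h1, h2']
    have h3 : (2 * (2 * k * k + 2 * k) + 1) / 2 = 2 * k * k + 2 * k := by omega
    rw [h3]; ring
  rw [hexp, pow_mul, ← hnorm, ← map_pow]
  constructor
  · intro h
    have : algebraMap F (QE F Δ) (QuadraticAlgebra.norm z ^ (q / 2)) = algebraMap F (QE F Δ) 1 := by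
      rw [h, map_one]
    exact (algebraMap F (QE F Δ)).injective this
  · intro h
    rw [h, map_one]

end Cfsg.Agent.Lib.Helper34_OrthExt_PNsq
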