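import Mathlib

/-!
# Helper34_PG_F16 (S3663, helper34)

A computable model `F16 = F₂[x]/(x⁴ + x + 1)` of the field with sixteen elements, as a type synonym
of `Fin 16` (the element `∑ bᵢ xⁱ` is the number `∑ bᵢ 2ⁱ`).  Addition is bitwise xor and
multiplication is read off a table packed in a natural number, so that kernel evaluation
(`decide +kernel`) is cheap.
-/

set_option autoImplicit false

namespace Cfsg.Agent.Lib.Helper34_PG_F16

/-- The field with sixteen elements `F₂[x]/(x⁴ + x + 1)`. -/
def F16 : Type := Fin 16

namespace F16

instance : DecidableEq F16 := inferInstanceAs (DecidableEq (Fin 16))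
instance : Fintype F16 := inferInstanceAs (Fintype (Fin 16))

/-- the element with bit pattern `n % 16` -/
def mk (n : ℕ) : F16 := (Fin.ofNat 16 n : Fin 16)

/-- the bit pattern -/
def bits (x : F16) : ℕ := Fin.val (n := 16) x

/-- the multiplication table: the product of `a` and `b` is the hexadecimal digit number
`16 a + b`. -/
def mulTab : ℕ := 116196760129267793630862849262464326346044543732748708940920453221664288556434379745879494961270582141731748813355742142288220638766218855867759359510984593843506004200114943278699875244065120512813025380665946106619127097398772031257643617143689515450995722003729973585221105779229319991106539050771048038400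

/-- the table of inverses (`0 ↦ 0`) -/
def invTab : ℕ := 9460475325918865680

/-- the table of `x ↦ x⁴` -/
def frobTab : ℕ := 9924487649903846160

instance : Zero F16 := ⟨mk 0⟩
instance : One F16 := ⟨mk 1⟩
instance : Add F16 := ⟨fun x y => mk (x.bits ^^^ y.bits)⟩
instance : Neg F16 := ⟨fun x => x⟩
instance : Mul F16 := ⟨fun x y => mk ((mulTab >>> (4 * (16 * x.bits + y.bits))) &&& 15)⟩
instance : Inv F16 := ⟨fun x => mk ((invTab >>> (4 * x.bits)) &&& 15)⟩

/-- `x ↦ x⁴`, from the table -/
def frob (x : F16) : F16 := mk ((frobTab >>> (4 * x.bits)) &&& 15)

instance : CommRing F16 where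
  add_assoc := by decide +kernel
  zero_add := by decide +kernel
  add_zero := by decide +kernel
  nsmul := nsmulRec
  zsmul := zsmulRec
  neg_add_cancel := by decide +kernel
  add_comm := by decide +kernel
  left_distrib := by decide +kernel
  right_distrib := by decide +kernel
  zero_mul := by decide +kernel
  mul_zero := by decide +kernel
  mul_assoc := by decide +kernel
  one_mul := by decide +kernel
  mul_one := by decide +kernel
  mul_comm := by decide +kernel

instance : Field F16 where
  exists_pair_ne := ⟨0, 1, by decide +kernel⟩
  mul_inv_cancel := by decide +kernel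
  inv_zero := by decide +kernel
  nnqsmul := _
  nnqsmul_def := fun _ _ => rfl
  qsmul := _
  qsmul_def := fun _ _ => rfl

theorem card : Fintype.card F16 = 16 := by decide +kernel

theorem frob_eq : ∀ x : F16, x ^ 4 = frob x := by decide +kernel

theorem frob_add : ∀ x y : F16, (x + y) ^ 4 = x ^ 4 + y ^ 4 := by decide +kernel

theorem frob_frob : ∀ x : F16, (x ^ 4) ^ 4 = x := by decide +kernel

theorem two_eq_zero : (2 : F16) = 0 := by decide +kernel

theorem neg_eq (x : F16) : -x = x := rfl

theorem sub_eq_add' (x y : F16) : x - y = x + y := by rw [sub_eq_add_neg, neg_eq]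

end F16

/-- Any field with sixteen elements is isomorphic to `F16`. -/
noncomputable def ringEquivF16 {F : Type*} [Field F] [Fintype F] (hF : Fintype.card F = 16) :
    F ≃+* F16 :=
  FiniteField.ringEquivOfCardEq (hF.trans F16.card.symm)

end Cfsg.Agent.Lib.Helper34_PG_F16
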