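import Mathlib
import Cfsg.Prelude.Def_Classical
import Cfsg.Agent.Lib.Helper34_PG_F16
import Cfsg.Agent.Lib.Helper61_SUTransfer

/-!
# Helper34_PG_Defs (S3663, helper34)

Shared definitions for S3663 (groups of unbounded order with the prime graph of `PSU₃(4)`), on the
computable model `F16`:

* `G16 = SU 3 F16 4`, `mat`, `herm`, `Cols`, `mkSU`;
* `Pt` = the nonzero isotropic vectors of `F16³` with the action of `G16`;
* `Wset` = the functions `Pt → ZMod 5`, constant on projective points, whose sum over the five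
  isotropic points of every hyperbolic line vanishes (the dual of the `F₅`-code of the Hermitian
  unital);
* `M2 = Pt → Pt → ZMod 5` with the action of `G16`, `Vset ⊆ M2` = the differences
  `(x, y) ↦ f x - f y`, `f ∈ Wset` (a copy of `Wset / constants`);
* `Hbig k = (M2)^k ⋊ G16` and the subset `Sset k` of the elements with all components in `Vset`;
* the explicit elements `g13`, `g10`, `g15` and the function `f0`.
-/

set_option autoImplicit false

namespace Cfsg.Agent.Lib.Helper34_PG_Defs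

open Matrix Cfsg.Agent.Lib.Helper34_PG_F16

/-- `3 × 3` matrices over `F16`. -/
abbrev M3 : Type := Matrix (Fin 3) (Fin 3) F16

/-- vectors of `F16³` -/
abbrev V3 : Type := Fin 3 → F16

/-- The group `SU₃(4)` on the model `F16`. -/
abbrev G16 : Type := ↥(Cfsg.SU 3 F16 4)

/-- the Hermitian form `∑ uᵢ vᵢ⁴`, computably -/
def herm (u v : V3) : F16 := u 0 * F16.frob (v 0) + u 1 * F16.frob (v 1) + u 2 * F16.frob (v 2)

theorem herm_eq (u v : V3) : herm u v = Cfsg.hermForm 3 F16 4 u v := by
  simp only [herm, Cfsg.hermForm, Fin.sum_univ_three, F16.frob_eq]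

/-- explicit matrix-vector product -/
def mv3 (A : M3) (v : V3) : V3 :=
  fun i => A i 0 * v 0 + A i 1 * v 1 + A i 2 * v 2

theorem mv3_eq (A : M3) (v : V3) : mv3 A v = A *ᵥ v := by
  funext i
  simp [mv3, Matrix.mulVec, dotProduct, Fin.sum_univ_three]

/-- explicit product of `3 × 3` matrices -/
def mul3 (A B : M3) : M3 :=
  fun i j => A i 0 * B 0 j + A i 1 * B 1 j + A i 2 * B 2 j

theorem mul3_eq (A B : M3) : mul3 A B = A * B := by
  ext i j
  rw [Matrix.mul_apply, Fin.sum_univ_three]; rfl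

/-- the determinant of a `3 × 3` matrix, written out -/
def det3 (M : M3) : F16 :=
  M 0 0 * M 1 1 * M 2 2 - M 0 0 * M 1 2 * M 2 1 - M 0 1 * M 1 0 * M 2 2 + M 0 1 * M 1 2 * M 2 0 +
    M 0 2 * M 1 0 * M 2 1 - M 0 2 * M 1 1 * M 2 0

theorem det3_eq (M : M3) : M.det = det3 M := Matrix.det_fin_three M

/-- column orthonormality for the Hermitian form -/
def Cols (M : M3) : Prop :=
  ∀ i j : Fin 3, M 0 i * F16.frob (M 0 j) + M 1 i * F16.frob (M 1 j) + M 2 i * F16.frob (M 2 j) =
    if i = j then 1 else 0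

instance (M : M3) : Decidable (Cols M) := by
  unfold Cols; infer_instance

theorem mem_SU_of_cols (g : SpecialLinearGroup (Fin 3) F16) (H : Cols g.1) :
    g ∈ Cfsg.SU 3 F16 4 := by
  rw [Cfsg.Agent.Lib.Helper61_SUTransfer.mem_SU_iff]
  intro u v
  generalize g.1 = M at H
  have h00 := H 0 0
  have h01 := H 0 1
  have h02 := H 0 2
  have h10 := H 1 0
  have h11 := H 1 1
  have h12 := H 1 2
  have h20 := H 2 0
  have h21 := H 2 1
  have h22 := H 2 2
  simp only [Fin.isValue, if_true, Fin.reduceEq, if_false, ← F16.frob_eq] at h00 h01 h02 h10 h11 h12 h20 h21 h22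
  unfold Cfsg.hermForm
  simp only [Matrix.mulVec, dotProduct, Fin.sum_univ_three, F16.frob_add, mul_pow]
  linear_combination (u 0 * v 0 ^ 4) * h00 + (u 0 * v 1 ^ 4) * h01 + (u 0 * v 2 ^ 4) * h02 +
    (u 1 * v 0 ^ 4) * h10 + (u 1 * v 1 ^ 4) * h11 + (u 1 * v 2 ^ 4) * h12 +
    (u 2 * v 0 ^ 4) * h20 + (u 2 * v 1 ^ 4) * h21 + (u 2 * v 2 ^ 4) * h22

theorem cols_of_mem_SU (g : SpecialLinearGroup (Fin 3) F16) (hg : g ∈ Cfsg.SU 3 F16 4) :
    Cols g.1 := by
  rw [Cfsg.Agent.Lib.Helper61_SUTransfer.mem_SU_iff] at hg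
  intro i j
  have h := hg (Pi.single i 1) (Pi.single j 1)
  unfold Cfsg.hermForm at h
  simp only [Matrix.mulVec_single_one, Fin.sum_univ_three] at h
  rw [show (g.1.col i 0) = g.1 0 i from rfl, show (g.1.col i 1) = g.1 1 i from rfl,
    show (g.1.col i 2) = g.1 2 i from rfl, show (g.1.col j 0) = g.1 0 j from rfl,
    show (g.1.col j 1) = g.1 1 j from rfl, show (g.1.col j 2) = g.1 2 j from rfl] at h
  rw [← F16.frob_eq, ← F16.frob_eq, ← F16.frob_eq, h]
  fin_cases i <;> fin_cases j <;> simp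

/-- an element of `SU₃(4)` from a matrix -/
def mkSU (M : M3) (hdet : det3 M = 1) (H : Cols M) : G16 :=
  ⟨⟨M, by rw [det3_eq]; exact hdet⟩, mem_SU_of_cols _ H⟩

/-- the underlying matrix of an element of `SU₃(4)` -/
def mat (g : G16) : M3 := g.1.1

theorem mat_mul (g h : G16) : mat (g * h) = mat g * mat h := rfl

theorem mat_one : mat (1 : G16) = 1 := rfl

theorem mat_injective : Function.Injective mat := by
  intro g h hgh
  apply Subtype.ext
  apply Subtype.ext
  exact hgh

theorem mat_mkSU (Y : M3) (hdet : det3 Y = 1) (hc : Cols Y) : mat (mkSU Y hdet hc) = Y := rfl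

theorem det3_mat (g : G16) : det3 (mat g) = 1 := by
  rw [← det3_eq]
  exact g.1.2

theorem cols_mat (g : G16) : Cols (mat g) := cols_of_mem_SU g.1 g.2

/-- `SU₃(4)` preserves the Hermitian form. -/
theorem herm_mat (g : G16) (u v : V3) : herm (mat g *ᵥ u) (mat g *ᵥ v) = herm u v := by
  rw [herm_eq, herm_eq]
  exact g.2 u v

theorem mat_inv_mulVec (g : G16) (v : V3) : mat g⁻¹ *ᵥ (mat g *ᵥ v) = v := by
  rw [Matrix.mulVec_mulVec, ← mat_mul, inv_mul_cancel, mat_one, Matrix.one_mulVec]

/-- nonzero isotropic vectors -/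
def IsIso (v : V3) : Prop := v ≠ 0 ∧ herm v v = 0

instance : DecidablePred IsIso := fun v => by unfold IsIso; infer_instance

/-- the `975` nonzero isotropic vectors of `F16³` (fifteen for each of the `65` points of the
Hermitian unital) -/
abbrev Pt : Type := {v : V3 // IsIso v}

theorem isIso_mulVec (g : G16) {v : V3} (hv : IsIso v) : IsIso (mat g *ᵥ v) := by
  refine ⟨fun h => hv.1 ?_, by rw [herm_mat]; exact hv.2⟩
  have := mat_inv_mulVec g v
  rw [h, Matrix.mulVec_zero] at this
  exact this.symm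

instance : MulAction G16 Pt where
  smul g x := ⟨mat g *ᵥ x.1, isIso_mulVec g x.2⟩
  one_smul x := by
    apply Subtype.ext
    show mat 1 *ᵥ x.1 = x.1
    rw [mat_one, Matrix.one_mulVec]
  mul_smul g h x := by
    apply Subtype.ext
    show mat (g * h) *ᵥ x.1 = mat g *ᵥ (mat h *ᵥ x.1)
    rw [mat_mul, Matrix.mulVec_mulVec]

theorem smul_val (g : G16) (x : Pt) : (g • x).1 = mat g *ᵥ x.1 := rfl

/-- normalized vectors: the first nonzero coordinate is `1` -/
def Nrm (v : V3) : Prop := v 0 = 1 ∨ (v 0 = 0 ∧ v 1 = 1) ∨ (v 0 = 0 ∧ v 1 = 0 ∧ v 2 = 1)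

instance : DecidablePred Nrm := fun v => by unfold Nrm; infer_instance

/-- the sum of `f` over the isotropic points of the line `u^⊥` (each point is counted once, through
its normalized vector) -/
def lineSum (f : Pt → ZMod 5) (u : V3) : ZMod 5 :=
  ∑ x : Pt, if Nrm x.1 ∧ herm x.1 u = 0 then f x else 0

/-- the functions on the isotropic points whose sum over each hyperbolic line vanishes -/
def Wset : Set (Pt → ZMod 5) :=
  {f | (∀ x y : Pt, (∃ c : F16, y.1 = c • x.1) → f x = f y) ∧
    ∀ u : V3, herm u u ≠ 0 → lineSum f u = 0}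

/-- the functions on pairs of isotropic vectors -/
def M2 : Type := Pt → Pt → ZMod 5

instance : AddCommGroup M2 := inferInstanceAs (AddCommGroup (Pt → Pt → ZMod 5))

instance : Finite M2 := inferInstanceAs (Finite (Pt → Pt → ZMod 5))

@[ext] theorem M2.ext {F F' : M2} (h : ∀ x y, F x y = F' x y) : F = F' :=
  funext fun x => funext fun y => h x y

theorem M2.add_apply (F F' : M2) (x y : Pt) : (F + F') x y = F x y + F' x y := rfl
theorem M2.zero_apply (x y : Pt) : (0 : M2) x y = 0 := rfl
theorem M2.neg_apply (F : M2) (x y : Pt) : (-F) x y = -(F x y) := rfl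
theorem M2.nsmul_apply (n : ℕ) (F : M2) (x y : Pt) : (n • F) x y = n • F x y := rfl

instance : DistribMulAction G16 M2 where
  smul g F := fun x y => F (g⁻¹ • x) (g⁻¹ • y)
  one_smul F := by
    ext x y
    show F ((1 : G16)⁻¹ • x) ((1 : G16)⁻¹ • y) = F x y
    rw [inv_one, one_smul, one_smul]
  mul_smul g h F := by
    ext x y
    show F ((g * h)⁻¹ • x) ((g * h)⁻¹ • y) = F (h⁻¹ • (g⁻¹ • x)) (h⁻¹ • (g⁻¹ • y))
    rw [_root_.mul_inv_rev, mul_smul, mul_smul]
  smul_zero g := rfl
  smul_add g F F' := rfl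

theorem M2.smul_apply (g : G16) (F : M2) (x y : Pt) : (g • F) x y = F (g⁻¹ • x) (g⁻¹ • y) := rfl

/-- the difference function of `f` -/
def dd (f : Pt → ZMod 5) : M2 := fun x y => f x - f y

/-- the copy of `Wset / constants` inside `M2` -/
def Vset : Set M2 := {F | ∃ f ∈ Wset, F = dd f}

/-- the action of `G16` on an additive group, as automorphisms of the multiplicative copy -/
def act (A : Type) [AddCommGroup A] [DistribMulAction G16 A] :
    G16 →* MulAut (Multiplicative A) :=
  (MulAutMultiplicative A).symm.toMonoidHom.comp (DistribMulAction.toAddAut G16 A)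

theorem act_apply (A : Type) [AddCommGroup A] [DistribMulAction G16 A] (g : G16) (a : A) :
    act A g (Multiplicative.ofAdd a) = Multiplicative.ofAdd (g • a) := rfl

/-- the big group `(M2)^k ⋊ SU₃(4)` -/
abbrev Hbig (k : ℕ) : Type := Multiplicative (Fin k → M2) ⋊[act (Fin k → M2)] G16

instance (k : ℕ) : Finite (Hbig k) :=
  Finite.of_equiv _ (SemidirectProduct.equivProd (φ := act (Fin k → M2))).symm

/-- the elements of `Hbig k` all of whose components lie in `Vset` -/
def Sset (k : ℕ) : Set (Hbig k) := {h | ∀ i : Fin k, Multiplicative.toAdd h.left i ∈ Vset}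

/-- an element of order `13` -/
def m13 : M3 := !![F16.mk 14, F16.mk 5, F16.mk 12; F16.mk 1, F16.mk 5, F16.mk 4;
  F16.mk 9, F16.mk 1, F16.mk 6]

/-- an element of order `10` -/
def m10 : M3 := !![F16.mk 8, F16.mk 2, F16.mk 7; F16.mk 6, F16.mk 13, F16.mk 0;
  F16.mk 4, F16.mk 1, F16.mk 9]

/-- an element of order `15` -/
def m15 : M3 := !![F16.mk 0, F16.mk 14, F16.mk 13; F16.mk 14, F16.mk 9, F16.mk 12;
  F16.mk 13, F16.mk 12, F16.mk 13]

theorem m13_facts : det3 m13 = 1 ∧ Cols m13 := by decide +kernel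
theorem m10_facts : det3 m10 = 1 ∧ Cols m10 := by decide +kernel
theorem m15_facts : det3 m15 = 1 ∧ Cols m15 := by decide +kernel

/-- the element of order `13` -/
def g13 : G16 := mkSU m13 m13_facts.1 m13_facts.2
/-- the element of order `10` -/
def g10 : G16 := mkSU m10 m10_facts.1 m10_facts.2
/-- the element of order `15` -/
def g15 : G16 := mkSU m15 m15_facts.1 m15_facts.2

/-- a non-constant element of `Wset`: `3` on the points with a zero coordinate, `1` on the points
`(x₀ : x₁ : x₂)` with `(x₁ / x₀)⁵ = ω` and `0` on the others -/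
def f0 (x : Pt) : ZMod 5 :=
  if x.1 0 = 0 ∨ x.1 1 = 0 ∨ x.1 2 = 0 then 3
  else if (x.1 1 * (x.1 0)⁻¹) ^ 5 = F16.mk 6 then 1 else 0

end Cfsg.Agent.Lib.Helper34_PG_Defs
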