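import Mathlib
import Cfsg.Agent.Lib.Helper34_PG_Defs

/-!
# Helper34_PG_ORBa (S3663, package ORB, part a; helper34)

The orbits of `g13` on the `65` isotropic points of the Hermitian unital over `F16` (five orbits of
length `13`), the isotropic points of four hyperbolic lines, and the expression of a line sum as a
list sum.
-/

set_option autoImplicit false

namespace Cfsg.Agent.Lib.Helper34_PG_ORBa

open Matrix Cfsg.Agent.Lib.Helper34_PG_F16 Cfsg.Agent.Lib.Helper34_PG_Defs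

/-- coordinate triples -/
abbrev T3 : Type := F16 × F16 × F16

/-- the vector of a triple -/
def ofT (t : T3) : V3 := ![t.1, t.2.1, t.2.2]

/-- the triple of a vector -/
def toT (v : V3) : T3 := (v 0, v 1, v 2)

theorem ofT_toT (v : V3) : ofT (toT v) = v := by
  funext i; fin_cases i <;> rfl

theorem toT_ofT (t : T3) : toT (ofT t) = t := rfl

theorem ofT_injective : Function.Injective ofT := by
  intro s t h
  have := congrArg toT h
  rwa [toT_ofT, toT_ofT] at this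

theorem herm_smul_left (c : F16) (u v : V3) : herm (c • u) v = c * herm u v := by
  simp only [herm, Pi.smul_apply, smul_eq_mul]; ring

theorem herm_smul_right (c : F16) (u v : V3) : herm u (c • v) = c ^ 4 * herm u v := by
  simp only [herm, Pi.smul_apply, smul_eq_mul, ← F16.frob_eq, mul_pow]; ring

theorem isIso_smul {c : F16} (hc : c ≠ 0) {v : V3} (hv : IsIso v) : IsIso (c • v) :=
  ⟨smul_ne_zero hc hv.1, by rw [herm_smul_left, herm_smul_right, hv.2]; ring⟩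

/-- the value of `f` at a vector (`0` outside `Pt`) -/
def val (f : Pt → ZMod 5) (v : V3) : ZMod 5 := if h : IsIso v then f ⟨v, h⟩ else 0

theorem val_of (f : Pt → ZMod 5) (x : Pt) : val f x.1 = f x := by
  rw [val, dif_pos x.2]

theorem val_smul {f : Pt → ZMod 5} (hf : f ∈ Wset) {c : F16} (hc : c ≠ 0) {v : V3} (hv : IsIso v) :
    val f (c • v) = val f v := by
  have h2 := isIso_smul hc hv
  rw [val, val, dif_pos h2, dif_pos hv]
  exact (hf.1 ⟨v, hv⟩ ⟨c • v, h2⟩ ⟨c, rfl⟩).symm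

theorem val_m13 {f : Pt → ZMod 5} (hfix : ∀ x : Pt, f (g13 • x) = f x) {v : V3} (hv : IsIso v) :
    IsIso (m13 *ᵥ v) ∧ val f (m13 *ᵥ v) = val f v := by
  have h2 : IsIso (m13 *ᵥ v) := isIso_mulVec g13 hv
  refine ⟨h2, ?_⟩
  rw [val, val, dif_pos h2, dif_pos hv]
  exact hfix ⟨v, hv⟩

/-- the normalized multiple of a triple -/
def nrmT (t : T3) : T3 :=
  if t.1 ≠ 0 then (1, t.1⁻¹ * t.2.1, t.1⁻¹ * t.2.2)
  else if t.2.1 ≠ 0 then (0, 1, t.2.1⁻¹ * t.2.2) else (0, 0, 1)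

theorem nrmT_spec (t : T3) (ht : ofT t ≠ 0) :
    Nrm (ofT (nrmT t)) ∧ ∃ c : F16, c ≠ 0 ∧ ofT (nrmT t) = c • ofT t := by
  obtain ⟨a, b, c⟩ := t
  by_cases ha : a ≠ 0
  · have h1 : nrmT (a, b, c) = (1, a⁻¹ * b, a⁻¹ * c) := by simp [nrmT, ha]
    rw [h1]
    refine ⟨Or.inl rfl, a⁻¹, inv_ne_zero ha, ?_⟩
    funext i
    fin_cases i
    · simp [ofT, inv_mul_cancel₀ ha]
    · simp [ofT]
    · simp [ofT]
  · rw [not_not] at ha
    subst ha
    by_cases hb : b ≠ 0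
    · have h1 : nrmT (0, b, c) = (0, 1, b⁻¹ * c) := by simp [nrmT, hb]
      rw [h1]
      refine ⟨Or.inr (Or.inl ⟨rfl, rfl⟩), b⁻¹, inv_ne_zero hb, ?_⟩
      funext i
      fin_cases i
      · simp [ofT]
      · simp [ofT, inv_mul_cancel₀ hb]
      · simp [ofT]
    · rw [not_not] at hb
      subst hb
      have hc : c ≠ 0 := by
        intro hc
        apply ht
        subst hc
        funext i
        fin_cases i <;> rfl
      have h1 : nrmT (0, 0, c) = (0, 0, 1) := by simp [nrmT]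
      rw [h1]
      refine ⟨Or.inr (Or.inr ⟨rfl, rfl, rfl⟩), c⁻¹, inv_ne_zero hc, ?_⟩
      funext i
      fin_cases i
      · simp [ofT]
      · simp [ofT]
      · simp [ofT, inv_mul_cancel₀ hc]

/-- `m13` on triples -/
def mvT (t : T3) : T3 := toT (mv3 m13 (ofT t))

/-- one step: apply `m13` and normalize -/
def stepT (t : T3) : T3 := nrmT (mvT t)

theorem val_step {f : Pt → ZMod 5} (hf : f ∈ Wset) (hfix : ∀ x : Pt, f (g13 • x) = f x) {t : T3}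
    (ht : IsIso (ofT t)) : IsIso (ofT (stepT t)) ∧ val f (ofT (stepT t)) = val f (ofT t) := by
  obtain ⟨h1, h2⟩ := val_m13 hfix ht
  have hw : ofT (mvT t) = m13 *ᵥ ofT t := by rw [mvT, ofT_toT, mv3_eq]
  rw [← hw] at h1 h2
  obtain ⟨_, c, hc, hcw⟩ := nrmT_spec (mvT t) h1.1
  rw [stepT, hcw]
  exact ⟨isIso_smul hc h1, by rw [val_smul hf hc h1, h2]⟩

theorem val_iter {f : Pt → ZMod 5} (hf : f ∈ Wset) (hfix : ∀ x : Pt, f (g13 • x) = f x) {t : T3}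
    (ht : IsIso (ofT t)) (i : ℕ) :
    IsIso (ofT (stepT^[i] t)) ∧ val f (ofT (stepT^[i] t)) = val f (ofT t) := by
  induction i with
  | zero => exact ⟨ht, rfl⟩
  | succ i ih =>
    rw [Function.iterate_succ_apply']
    obtain ⟨h1, h2⟩ := val_step hf hfix ih.1
    exact ⟨h1, by rw [h2, ih.2]⟩


theorem val_of_mem_iterate {f : Pt → ZMod 5} (hf : f ∈ Wset)
    (hfix : ∀ x : Pt, f (g13 • x) = f x) {r : T3} (hr : IsIso (ofT r)) {n : ℕ} {t : T3}
    (ht : t ∈ List.iterate stepT r n) : IsIso (ofT t) ∧ val f (ofT t) = val f (ofT r) := by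
  obtain ⟨m, -, rfl⟩ := List.mem_iterate.1 ht
  exact val_iter hf hfix hr m

/-- the equivalence between triples and vectors -/
def eT : T3 ≃ V3 := ⟨ofT, toT, toT_ofT, ofT_toT⟩

theorem lineSum_eq_list (f : Pt → ZMod 5) (u : V3) (L : List T3) (hL : L.Nodup)
    (h : ∀ t : T3, (IsIso (ofT t) ∧ Nrm (ofT t) ∧ herm (ofT t) u = 0) ↔ t ∈ L) :
    lineSum f u = (L.map (fun t => val f (ofT t))).sum := by
  have h1 : lineSum f u
      = ∑ x : Pt, (fun v : V3 => if Nrm v ∧ herm v u = 0 then val f v else 0) x.1 := by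
    unfold lineSum
    refine Finset.sum_congr rfl (fun x _ => ?_)
    simp only [val_of]
  have h2 := Finset.sum_subtype (Finset.univ.filter IsIso) (p := IsIso) (F := inferInstance) (by simp)
    (fun v : V3 => if Nrm v ∧ herm v u = 0 then val f v else 0)
  have h3 : (∑ t : T3, if t ∈ L then val f (ofT t) else 0)
      = ∑ v : V3, if IsIso v then (if Nrm v ∧ herm v u = 0 then val f v else 0) else 0 := by
    refine Fintype.sum_equiv eT _ _ (fun t => ?_)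
    show _ = if IsIso (ofT t) then (if Nrm (ofT t) ∧ herm (ofT t) u = 0 then val f (ofT t) else 0)
      else 0
    by_cases ht : t ∈ L
    · obtain ⟨h2, h3⟩ := (h t).2 ht
      rw [if_pos ht, if_pos h2, if_pos h3]
    · rw [if_neg ht]
      by_cases h2 : IsIso (ofT t)
      · rw [if_pos h2, if_neg]
        intro h3
        exact ht ((h t).1 ⟨h2, h3⟩)
      · rw [if_neg h2]
  rw [h1, ← h2, Finset.sum_filter, ← h3, ← Finset.sum_filter, ← List.sum_toFinset _ hL]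
  refine Finset.sum_congr ?_ (fun _ _ => rfl)
  ext t
  simp

/-- orbit 0 of `g13` on the normalized isotropic vectors -/
def orb0 : List T3 :=
  [(F16.mk 0, F16.mk 1, F16.mk 1),
   (F16.mk 1, F16.mk 2, F16.mk 14),
   (F16.mk 0, F16.mk 1, F16.mk 10),
   (F16.mk 1, F16.mk 6, F16.mk 2),
   (F16.mk 1, F16.mk 9, F16.mk 2),
   (F16.mk 1, F16.mk 6, F16.mk 7),
   (F16.mk 1, F16.mk 3, F16.mk 14),
   (F16.mk 1, F16.mk 14, F16.mk 7),
   (F16.mk 1, F16.mk 2, F16.mk 5),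
   (F16.mk 1, F16.mk 5, F16.mk 11),
   (F16.mk 1, F16.mk 9, F16.mk 3),
   (F16.mk 1, F16.mk 3, F16.mk 5),
   (F16.mk 1, F16.mk 14, F16.mk 11)]

/-- orbit 1 of `g13` on the normalized isotropic vectors -/
def orb1 : List T3 :=
  [(F16.mk 0, F16.mk 1, F16.mk 8),
   (F16.mk 1, F16.mk 11, F16.mk 6),
   (F16.mk 1, F16.mk 11, F16.mk 5),
   (F16.mk 1, F16.mk 6, F16.mk 11),
   (F16.mk 1, F16.mk 10, F16.mk 0),
   (F16.mk 1, F16.mk 9, F16.mk 7),
   (F16.mk 1, F16.mk 13, F16.mk 6),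
   (F16.mk 1, F16.mk 9, F16.mk 13),
   (F16.mk 1, F16.mk 4, F16.mk 13),
   (F16.mk 1, F16.mk 2, F16.mk 9),
   (F16.mk 1, F16.mk 13, F16.mk 4),
   (F16.mk 1, F16.mk 2, F16.mk 4),
   (F16.mk 1, F16.mk 8, F16.mk 0)]

/-- orbit 2 of `g13` on the normalized isotropic vectors -/
def orb2 : List T3 :=
  [(F16.mk 0, F16.mk 1, F16.mk 12),
   (F16.mk 1, F16.mk 0, F16.mk 8),
   (F16.mk 1, F16.mk 5, F16.mk 3),
   (F16.mk 1, F16.mk 6, F16.mk 13),
   (F16.mk 0, F16.mk 1, F16.mk 15),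
   (F16.mk 1, F16.mk 5, F16.mk 7),
   (F16.mk 1, F16.mk 7, F16.mk 4),
   (F16.mk 1, F16.mk 6, F16.mk 3),
   (F16.mk 1, F16.mk 0, F16.mk 12),
   (F16.mk 1, F16.mk 4, F16.mk 7),
   (F16.mk 1, F16.mk 11, F16.mk 9),
   (F16.mk 1, F16.mk 4, F16.mk 2),
   (F16.mk 1, F16.mk 7, F16.mk 9)]

/-- orbit 3 of `g13` on the normalized isotropic vectors -/
def orb3 : List T3 :=
  [(F16.mk 1, F16.mk 0, F16.mk 1),
   (F16.mk 1, F16.mk 11, F16.mk 14),
   (F16.mk 1, F16.mk 12, F16.mk 0),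
   (F16.mk 1, F16.mk 5, F16.mk 13),
   (F16.mk 1, F16.mk 3, F16.mk 6),
   (F16.mk 1, F16.mk 14, F16.mk 2),
   (F16.mk 1, F16.mk 3, F16.mk 4),
   (F16.mk 1, F16.mk 14, F16.mk 13),
   (F16.mk 1, F16.mk 5, F16.mk 2),
   (F16.mk 1, F16.mk 15, F16.mk 0),
   (F16.mk 1, F16.mk 11, F16.mk 4),
   (F16.mk 1, F16.mk 7, F16.mk 6),
   (F16.mk 1, F16.mk 13, F16.mk 14)]

/-- orbit 4 of `g13` on the normalized isotropic vectors -/
def orb4 : List T3 :=
  [(F16.mk 1, F16.mk 0, F16.mk 10),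
   (F16.mk 1, F16.mk 1, F16.mk 0),
   (F16.mk 1, F16.mk 7, F16.mk 14),
   (F16.mk 1, F16.mk 2, F16.mk 6),
   (F16.mk 1, F16.mk 0, F16.mk 15),
   (F16.mk 1, F16.mk 13, F16.mk 5),
   (F16.mk 1, F16.mk 4, F16.mk 11),
   (F16.mk 1, F16.mk 3, F16.mk 9),
   (F16.mk 1, F16.mk 14, F16.mk 3),
   (F16.mk 1, F16.mk 4, F16.mk 3),
   (F16.mk 1, F16.mk 13, F16.mk 9),
   (F16.mk 1, F16.mk 7, F16.mk 5),
   (F16.mk 1, F16.mk 9, F16.mk 11)]

/-- the isotropic points of line 0 -/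
def line0 : List T3 :=
  [(F16.mk 1, F16.mk 1, F16.mk 0), (F16.mk 1, F16.mk 8, F16.mk 0), (F16.mk 1, F16.mk 10, F16.mk 0), (F16.mk 1, F16.mk 12, F16.mk 0), (F16.mk 1, F16.mk 15, F16.mk 0)]

-- labels line 0: [4, 1, 1, 3, 3]  u=(0, 0, 1)

/-- the isotropic points of line 1 -/
def line1 : List T3 :=
  [(F16.mk 1, F16.mk 0, F16.mk 1), (F16.mk 1, F16.mk 0, F16.mk 8), (F16.mk 1, F16.mk 0, F16.mk 10), (F16.mk 1, F16.mk 0, F16.mk 12), (F16.mk 1, F16.mk 0, F16.mk 15)]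

-- labels line 1: [3, 2, 4, 2, 4]  u=(0, 1, 0)

/-- the isotropic points of line 2 -/
def line2 : List T3 :=
  [(F16.mk 1, F16.mk 4, F16.mk 13), (F16.mk 1, F16.mk 5, F16.mk 3), (F16.mk 1, F16.mk 6, F16.mk 2), (F16.mk 1, F16.mk 9, F16.mk 7), (F16.mk 1, F16.mk 14, F16.mk 11)]

-- labels line 2: [1, 2, 0, 1, 0]  u=(0, 1, 2)

/-- the isotropic points of line 3 -/
def line3 : List T3 :=
  [(F16.mk 1, F16.mk 4, F16.mk 2), (F16.mk 1, F16.mk 5, F16.mk 11), (F16.mk 1, F16.mk 6, F16.mk 3), (F16.mk 1, F16.mk 9, F16.mk 13), (F16.mk 1, F16.mk 14, F16.mk 7)]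

-- labels line 3: [2, 0, 2, 1, 0]  u=(0, 1, 3)


theorem orb0_eq : orb0 = List.iterate stepT (F16.mk 0, F16.mk 1, F16.mk 1) 13 := by decide +kernel
theorem orb1_eq : orb1 = List.iterate stepT (F16.mk 0, F16.mk 1, F16.mk 8) 13 := by decide +kernel
theorem orb2_eq : orb2 = List.iterate stepT (F16.mk 0, F16.mk 1, F16.mk 12) 13 := by decide +kernel
theorem orb3_eq : orb3 = List.iterate stepT (F16.mk 1, F16.mk 0, F16.mk 1) 13 := by decide +kernel
theorem orb4_eq : orb4 = List.iterate stepT (F16.mk 1, F16.mk 0, F16.mk 10) 13 := by decide +kernel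

theorem isIso_reps : IsIso (ofT (F16.mk 0, F16.mk 1, F16.mk 1)) ∧
    IsIso (ofT (F16.mk 0, F16.mk 1, F16.mk 8)) ∧ IsIso (ofT (F16.mk 0, F16.mk 1, F16.mk 12)) ∧
    IsIso (ofT (F16.mk 1, F16.mk 0, F16.mk 1)) ∧ IsIso (ofT (F16.mk 1, F16.mk 0, F16.mk 10)) := by
  decide +kernel

theorem cover : ∀ a b c : F16, Nrm (ofT (a, b, c)) → IsIso (ofT (a, b, c)) →
    (a, b, c) ∈ orb0 ∨ (a, b, c) ∈ orb1 ∨ (a, b, c) ∈ orb2 ∨ (a, b, c) ∈ orb3 ∨ (a, b, c) ∈ orb4 := by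
  decide +kernel

/-- the four lines used -/
def u0 : V3 := ![F16.mk 0, F16.mk 0, F16.mk 1]
/-- the four lines used -/
def u1 : V3 := ![F16.mk 0, F16.mk 1, F16.mk 0]
/-- the four lines used -/
def u2 : V3 := ![F16.mk 0, F16.mk 1, F16.mk 2]
/-- the four lines used -/
def u3 : V3 := ![F16.mk 0, F16.mk 1, F16.mk 3]

theorem us_ne : herm u0 u0 ≠ 0 ∧ herm u1 u1 ≠ 0 ∧ herm u2 u2 ≠ 0 ∧ herm u3 u3 ≠ 0 := by
  decide +kernel

theorem line0_spec' : ∀ a b c : F16, (IsIso (ofT (a, b, c)) ∧ Nrm (ofT (a, b, c)) ∧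
    herm (ofT (a, b, c)) u0 = 0) ↔ (a, b, c) ∈ line0 := by
  decide +kernel

theorem line0_spec (t : T3) : (IsIso (ofT t) ∧ Nrm (ofT t) ∧ herm (ofT t) u0 = 0) ↔ t ∈ line0 :=
  line0_spec' t.1 t.2.1 t.2.2
theorem line1_spec' : ∀ a b c : F16, (IsIso (ofT (a, b, c)) ∧ Nrm (ofT (a, b, c)) ∧
    herm (ofT (a, b, c)) u1 = 0) ↔ (a, b, c) ∈ line1 := by
  decide +kernel

theorem line1_spec (t : T3) : (IsIso (ofT t) ∧ Nrm (ofT t) ∧ herm (ofT t) u1 = 0) ↔ t ∈ line1 :=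
  line1_spec' t.1 t.2.1 t.2.2
theorem line2_spec' : ∀ a b c : F16, (IsIso (ofT (a, b, c)) ∧ Nrm (ofT (a, b, c)) ∧
    herm (ofT (a, b, c)) u2 = 0) ↔ (a, b, c) ∈ line2 := by
  decide +kernel

theorem line2_spec (t : T3) : (IsIso (ofT t) ∧ Nrm (ofT t) ∧ herm (ofT t) u2 = 0) ↔ t ∈ line2 :=
  line2_spec' t.1 t.2.1 t.2.2
theorem line3_spec' : ∀ a b c : F16, (IsIso (ofT (a, b, c)) ∧ Nrm (ofT (a, b, c)) ∧
    herm (ofT (a, b, c)) u3 = 0) ↔ (a, b, c) ∈ line3 := by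
  decide +kernel

theorem line3_spec (t : T3) : (IsIso (ofT t) ∧ Nrm (ofT t) ∧ herm (ofT t) u3 = 0) ↔ t ∈ line3 :=
  line3_spec' t.1 t.2.1 t.2.2

theorem lines_nodup : line0.Nodup ∧ line1.Nodup ∧ line2.Nodup ∧ line3.Nodup := by decide +kernel

end Cfsg.Agent.Lib.Helper34_PG_ORBa
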