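import Mathlib
import Cfsg.Agent.Lib.Helper34_PG_ORBa

/-!
# Helper34_PG_ORB (S3663, package ORB; helper34)

`const_of_fixed_g13`: a function of `Wset` (constant on projective points, zero sum on every
hyperbolic line) that is fixed by the element `g13` of order `13` is constant.  The group `⟨g13⟩`
has five orbits of length `13` on the `65` points; four lines give four linear equations between
the five orbit values that force them to be equal.
-/

set_option autoImplicit false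

namespace Cfsg.Agent.Lib.Helper34_PG_ORB

open Matrix Cfsg.Agent.Lib.Helper34_PG_F16 Cfsg.Agent.Lib.Helper34_PG_Defs
  Cfsg.Agent.Lib.Helper34_PG_ORBa

theorem zmod5_key : ∀ c0 c1 c2 c3 c4 : ZMod 5,
    c4 + (c1 + (c1 + (c3 + (c3 + 0)))) = 0 → c3 + (c2 + (c4 + (c2 + (c4 + 0)))) = 0 →
    c1 + (c2 + (c0 + (c1 + (c0 + 0)))) = 0 → c2 + (c0 + (c2 + (c1 + (c0 + 0)))) = 0 →
    c1 = c0 ∧ c2 = c0 ∧ c3 = c0 ∧ c4 = c0 := by decide +kernel

theorem const_of_fixed_g13 (f : Pt → ZMod 5) (hf : f ∈ Wset)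
    (hfix : ∀ x : Pt, f (g13 • x) = f x) : ∀ x y : Pt, f x = f y := by
  obtain ⟨hr0, hr1, hr2, hr3, hr4⟩ := isIso_reps
  have H0 : ∀ t : T3, t ∈ orb0 → IsIso (ofT t) ∧
      val f (ofT t) = val f (ofT (F16.mk 0, F16.mk 1, F16.mk 1)) := fun t ht =>
    val_of_mem_iterate hf hfix hr0 (orb0_eq ▸ ht)
  have H1 : ∀ t : T3, t ∈ orb1 → IsIso (ofT t) ∧
      val f (ofT t) = val f (ofT (F16.mk 0, F16.mk 1, F16.mk 8)) := fun t ht =>
    val_of_mem_iterate hf hfix hr1 (orb1_eq ▸ ht)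
  have H2 : ∀ t : T3, t ∈ orb2 → IsIso (ofT t) ∧
      val f (ofT t) = val f (ofT (F16.mk 0, F16.mk 1, F16.mk 12)) := fun t ht =>
    val_of_mem_iterate hf hfix hr2 (orb2_eq ▸ ht)
  have H3 : ∀ t : T3, t ∈ orb3 → IsIso (ofT t) ∧
      val f (ofT t) = val f (ofT (F16.mk 1, F16.mk 0, F16.mk 1)) := fun t ht =>
    val_of_mem_iterate hf hfix hr3 (orb3_eq ▸ ht)
  have H4 : ∀ t : T3, t ∈ orb4 → IsIso (ofT t) ∧
      val f (ofT t) = val f (ofT (F16.mk 1, F16.mk 0, F16.mk 10)) := fun t ht =>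
    val_of_mem_iterate hf hfix hr4 (orb4_eq ▸ ht)
  have E0 : lineSum f u0 = 0 := hf.2 u0 us_ne.1
  rw [lineSum_eq_list f u0 line0 lines_nodup.1 line0_spec] at E0
  simp only [line0, List.map_cons, List.map_nil, List.sum_cons, List.sum_nil] at E0
  rw [(H4 (F16.mk 1, F16.mk 1, F16.mk 0) (by decide +kernel)).2,
    (H1 (F16.mk 1, F16.mk 8, F16.mk 0) (by decide +kernel)).2,
    (H1 (F16.mk 1, F16.mk 10, F16.mk 0) (by decide +kernel)).2,
    (H3 (F16.mk 1, F16.mk 12, F16.mk 0) (by decide +kernel)).2,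
    (H3 (F16.mk 1, F16.mk 15, F16.mk 0) (by decide +kernel)).2] at E0
  have E1 : lineSum f u1 = 0 := hf.2 u1 us_ne.2.1
  rw [lineSum_eq_list f u1 line1 lines_nodup.2.1 line1_spec] at E1
  simp only [line1, List.map_cons, List.map_nil, List.sum_cons, List.sum_nil] at E1
  rw [(H3 (F16.mk 1, F16.mk 0, F16.mk 1) (by decide +kernel)).2,
    (H2 (F16.mk 1, F16.mk 0, F16.mk 8) (by decide +kernel)).2,
    (H4 (F16.mk 1, F16.mk 0, F16.mk 10) (by decide +kernel)).2,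
    (H2 (F16.mk 1, F16.mk 0, F16.mk 12) (by decide +kernel)).2,
    (H4 (F16.mk 1, F16.mk 0, F16.mk 15) (by decide +kernel)).2] at E1
  have E2 : lineSum f u2 = 0 := hf.2 u2 us_ne.2.2.1
  rw [lineSum_eq_list f u2 line2 lines_nodup.2.2.1 line2_spec] at E2
  simp only [line2, List.map_cons, List.map_nil, List.sum_cons, List.sum_nil] at E2
  rw [(H1 (F16.mk 1, F16.mk 4, F16.mk 13) (by decide +kernel)).2,
    (H2 (F16.mk 1, F16.mk 5, F16.mk 3) (by decide +kernel)).2,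
    (H0 (F16.mk 1, F16.mk 6, F16.mk 2) (by decide +kernel)).2,
    (H1 (F16.mk 1, F16.mk 9, F16.mk 7) (by decide +kernel)).2,
    (H0 (F16.mk 1, F16.mk 14, F16.mk 11) (by decide +kernel)).2] at E2
  have E3 : lineSum f u3 = 0 := hf.2 u3 us_ne.2.2.2
  rw [lineSum_eq_list f u3 line3 lines_nodup.2.2.2 line3_spec] at E3
  simp only [line3, List.map_cons, List.map_nil, List.sum_cons, List.sum_nil] at E3
  rw [(H2 (F16.mk 1, F16.mk 4, F16.mk 2) (by decide +kernel)).2,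
    (H0 (F16.mk 1, F16.mk 5, F16.mk 11) (by decide +kernel)).2,
    (H2 (F16.mk 1, F16.mk 6, F16.mk 3) (by decide +kernel)).2,
    (H1 (F16.mk 1, F16.mk 9, F16.mk 13) (by decide +kernel)).2,
    (H0 (F16.mk 1, F16.mk 14, F16.mk 7) (by decide +kernel)).2] at E3
  obtain ⟨e1, e2, e3, e4⟩ := zmod5_key _ _ _ _ _ E0 E1 E2 E3
  have main : ∀ x : Pt, f x = val f (ofT (F16.mk 0, F16.mk 1, F16.mk 1)) := by
    intro x
    have hx0 : ofT (toT x.1) ≠ 0 := by rw [ofT_toT]; exact x.2.1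
    obtain ⟨hn, c, hc, hcx⟩ := nrmT_spec (toT x.1) hx0
    rw [ofT_toT] at hcx
    have hiso : IsIso (ofT (nrmT (toT x.1))) := by rw [hcx]; exact isIso_smul hc x.2
    have hval : val f (ofT (nrmT (toT x.1))) = f x := by
      rw [hcx, val_smul hf hc x.2, val_of]
    rw [← hval]
    rcases cover (nrmT (toT x.1)).1 (nrmT (toT x.1)).2.1 (nrmT (toT x.1)).2.2 hn hiso with
      h | h | h | h | h
    · exact (H0 _ h).2
    · rw [(H1 _ h).2, e1]
    · rw [(H2 _ h).2, e2]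
    · rw [(H3 _ h).2, e3]
    · rw [(H4 _ h).2, e4]
  intro x y
  rw [main x, main y]

end Cfsg.Agent.Lib.Helper34_PG_ORB
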