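import Mathlib
import Cfsg.Agent.Lib.Helper34_PG_Defs
import Cfsg.Agent.Lib.Helper61_SL2

set_option autoImplicit false

/-!
# S3663 package PG-GEN (architect helper34)

A split extension with kernel of exponent `p` has the same prime graph as the quotient, provided `p`
divides the order of the quotient and, for every prime `q ≠ p`, either the quotient already has an
element of order `p q` or elements lying over elements of order `q` have `q`-th power one.
(Adapted from `Helper61_SL2.samePrimeGraph_of_split`, the case `p = 2`.)
-/

namespace Cfsg.Agent.Lib.Helper70_PG_GEN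

open Matrix Cfsg.Agent.Lib.Helper34_PG_F16 Cfsg.Agent.Lib.Helper34_PG_Defs
open Cfsg.Agent.Lib.Helper61_SL2 (SamePrimeGraph)

theorem samePrimeGraph_of_split_p {H S : Type} [Group H] [Group S] [Finite H] (p : ℕ)
    (hp : p.Prime) (π : H →* S) (ι : S →* H) (hπι : ∀ s, π (ι s) = s)
    (hker : ∀ h : H, π h = 1 → h ^ p = 1) (hpS : p ∣ Nat.card S)
    (hq : ∀ q : ℕ, q.Prime → q ≠ p →
      (∃ s : S, orderOf s = p * q) ∨ (∀ h : H, orderOf (π h) = q → h ^ q = 1)) :
    SamePrimeGraph S H := by
  classical
  have : Fact p.Prime := ⟨hp⟩
  have hsurj : Function.Surjective π := fun s => ⟨ι s, hπι s⟩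
  have hinj : Function.Injective ι := fun a b hab => by
    have := congrArg π hab
    rwa [hπι, hπι] at this
  -- the kernel is a `p`-group
  have hK : IsPGroup p π.ker := by
    intro x
    refine ⟨1, ?_⟩
    have := hker x.1 (MonoidHom.mem_ker.mp x.2)
    apply Subtype.ext
    simpa using this
  obtain ⟨n, hn⟩ := IsPGroup.iff_card.mp hK
  have hcard : Nat.card H = p ^ n * Nat.card S := by
    rw [← hn, ← Subgroup.card_mul_index π.ker, Subgroup.index_ker,
      MonoidHom.range_eq_top.mpr hsurj, Subgroup.card_top]
  refine ⟨fun r hr => ?_, fun a b ha hb hab => ?_⟩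
  · rw [hcard]
    constructor
    · intro h; exact Dvd.dvd.mul_left h _
    · intro h
      rcases (Nat.Prime.dvd_mul hr).mp h with h' | h'
      · have := (Nat.prime_dvd_prime_iff_eq hr hp).mp (hr.dvd_of_dvd_pow h')
        rw [this]; exact hpS
      · exact h'
  · constructor
    · rintro ⟨g, hg⟩
      exact ⟨ι g, by rw [orderOf_injective ι hinj, hg]⟩
    · rintro ⟨h, hh⟩
      have ha2 := ha.two_le
      have hb2 := hb.two_le
      have hd : orderOf (π h) ∣ a * b := by
        rw [← hh]; exact orderOf_map_dvd π h
      have hpow : h ^ (p * orderOf (π h)) = 1 := by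
        rw [mul_comm, pow_mul]
        apply hker
        rw [map_pow, pow_orderOf_eq_one]
      have hdvd : a * b ∣ p * orderOf (π h) := by
        rw [← hh]; exact orderOf_dvd_of_pow_eq_one hpow
      obtain ⟨d1, d2, hd1, hd2, hd12⟩ := (Nat.dvd_mul).mp hd
      rcases (Nat.dvd_prime ha).mp hd1 with rfl | rfl <;>
        rcases (Nat.dvd_prime hb).mp hd2 with rfl | rfl
      · -- order 1
        exfalso
        rw [← hd12, mul_one, mul_one] at hdvd
        rcases (Nat.dvd_prime hp).mp hdvd with h1 | h1
        · nlinarith
        · have : a ∣ p := ⟨b, h1.symm⟩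
          have e1 := (Nat.prime_dvd_prime_iff_eq ha hp).mp this
          rw [e1] at h1
          have : p * b = p * 1 := by rw [h1, mul_one]
          have := Nat.eq_of_mul_eq_mul_left hp.pos this
          omega
      · -- order `b`, so `a = p`
        rw [← hd12, one_mul] at hdvd
        have hap : a ∣ p := by
          have : a * d2 ∣ p * d2 := hdvd
          exact Nat.dvd_of_mul_dvd_mul_right hb.pos this
        have hap' : a = p := (Nat.prime_dvd_prime_iff_eq ha hp).mp hap
        have hbp : d2 ≠ p := fun h' => hab (hap'.trans h'.symm)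
        rcases hq d2 hb hbp with ⟨s, hs⟩ | hall
        · exact ⟨s, by rw [hs, hap']⟩
        · exfalso
          have := hall h (by rw [← hd12, one_mul])
          have hdvd' : a * d2 ∣ d2 := by
            rw [← hh]; exact orderOf_dvd_of_pow_eq_one this
          have := Nat.le_of_dvd hb.pos hdvd'
          nlinarith
      · -- order `a`, so `b = p`
        rw [← hd12, mul_one] at hdvd
        have hbp : b ∣ p := by
          have : d1 * b ∣ d1 * p := by rw [mul_comm d1 p]; exact hdvd
          exact Nat.dvd_of_mul_dvd_mul_left ha.pos this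
        have hbp' : b = p := (Nat.prime_dvd_prime_iff_eq hb hp).mp hbp
        have hap : d1 ≠ p := fun h' => hab (h'.trans hbp'.symm)
        rcases hq d1 ha hap with ⟨s, hs⟩ | hall
        · exact ⟨s, by rw [hs, hbp', mul_comm]⟩
        · exfalso
          have := hall h (by rw [← hd12, mul_one])
          have hdvd' : d1 * b ∣ d1 := by
            rw [← hh]; exact orderOf_dvd_of_pow_eq_one this
          have := Nat.le_of_dvd ha.pos hdvd'
          nlinarith
      · exact ⟨π h, hd12.symm⟩

end Cfsg.Agent.Lib.Helper70_PG_GEN
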