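import Mathlib

/-!
# S3663 package PG-SYL (architect helper34): if `p ^ 2 ∤ |G|`, two elements of order `p` are
conjugate up to a power.
-/

set_option autoImplicit false

namespace Cfsg.Agent.Lib.Helper89_PG_SYL

/-- If `p ^ 2 ∤ |G|` and `a` has order `p`, then `zpowers a` is (the carrier of) a Sylow
`p`-subgroup. -/
theorem exists_sylow_eq_zpowers {G : Type*} [Group G] [Finite G] (p : ℕ) [hp : Fact p.Prime]
    (hp2 : ¬ p ^ 2 ∣ Nat.card G) (a : G) (ha : orderOf a = p) :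
    ∃ P : Sylow p G, (P : Subgroup G) = Subgroup.zpowers a := by
  have hpg : IsPGroup p (Subgroup.zpowers a) := by
    apply IsPGroup.of_card (n := 1)
    rw [Nat.card_zpowers, ha, pow_one]
  obtain ⟨P, hle⟩ := hpg.exists_le_sylow
  refine ⟨P, ?_⟩
  symm
  apply Subgroup.eq_of_le_of_card_ge hle
  rw [Nat.card_zpowers, ha, Sylow.card_eq_multiplicity]
  have hfac : (Nat.card G).factorization p ≤ 1 := by
    by_contra hlt
    push Not at hlt
    apply hp2
    have h2 : 2 ≤ (Nat.card G).factorization p := hlt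
    exact Nat.dvd_trans (pow_dvd_pow p h2) (Nat.ordProj_dvd (Nat.card G) p)
  calc p ^ (Nat.card G).factorization p ≤ p ^ 1 := Nat.pow_le_pow_right hp.out.pos hfac
    _ = p := pow_one p

/-- **PG-SYL**. -/
theorem conj_of_sylow {G : Type*} [Group G] [Finite G] (p : ℕ) (hp : p.Prime)
    (hp2 : ¬ p ^ 2 ∣ Nat.card G) (a b : G) (ha : orderOf a = p) (hb : orderOf b = p) :
    ∃ c : G, ∃ i : ℕ, a = c * b ^ i * c⁻¹ := by
  have : Fact p.Prime := ⟨hp⟩
  obtain ⟨P, hP⟩ := exists_sylow_eq_zpowers p hp2 a ha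
  obtain ⟨Q, hQ⟩ := exists_sylow_eq_zpowers p hp2 b hb
  obtain ⟨c, hc⟩ := MulAction.exists_smul_eq G Q P
  have haP : a ∈ (P : Subgroup G) := by rw [hP]; exact Subgroup.mem_zpowers a
  rw [← hc, Sylow.coe_subgroup_smul, Subgroup.mem_smul_pointwise_iff_exists] at haP
  obtain ⟨s, hs, hsa⟩ := haP
  rw [MulAut.smul_def, MulAut.conj_apply] at hsa
  rw [hQ] at hs
  have hfin : IsOfFinOrder b := by
    rw [← orderOf_pos_iff, hb]; exact hp.pos
  rw [← hfin.mem_powers_iff_mem_zpowers, Submonoid.mem_powers_iff] at hs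
  obtain ⟨i, rfl⟩ := hs
  exact ⟨c, i, hsa.symm⟩

end Cfsg.Agent.Lib.Helper89_PG_SYL
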