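import Mathlib
import Cfsg.Agent.Lib.Helper61_SL2
import Cfsg.Agent.Lib.Helper70_PG_GEN
import Cfsg.Agent.Lib.Helper89_PG_SYL

/-!
# Helper34_PGraphSplit (helper34)

A general tool for the rows "there are finite groups of arbitrarily large order with the same prime
graph as `L`": if a finite group `S` acts on a nontrivial finite additive group `A` of exponent `p`,
`p ∣ |S|`, and for every prime `q ≠ p` either `S` has an element of order `p q` or the elements of
order `q` of `S` are fixed-point-free on `A`, then the groups `A^k ⋊ S` have the prime graph of `S`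
and unbounded order.
-/

set_option autoImplicit false

namespace Cfsg.Agent.Lib.Helper34_PGraphSplit

open Cfsg.Agent.Lib.Helper61_SL2 (SamePrimeGraph)

/-- the action of `S` on an additive group, as automorphisms of the multiplicative copy -/
def actS (S A : Type) [Group S] [AddCommGroup A] [DistribMulAction S A] :
    S →* MulAut (Multiplicative A) :=
  (MulAutMultiplicative A).symm.toMonoidHom.comp (DistribMulAction.toAddAut S A)

/-- the group `A^k ⋊ S` -/
abbrev Hk (S A : Type) [Group S] [AddCommGroup A] [DistribMulAction S A] (k : ℕ) : Type :=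
  Multiplicative (Fin k → A) ⋊[actS S (Fin k → A)] S

section

variable {S A : Type} [Group S] [AddCommGroup A] [DistribMulAction S A]

instance [Finite S] [Finite A] (k : ℕ) : Finite (Hk S A k) :=
  Finite.of_equiv _ (SemidirectProduct.equivProd (φ := actS S (Fin k → A))).symm

theorem toAdd_actS (k : ℕ) (g : S) (x : Multiplicative (Fin k → A)) :
    Multiplicative.toAdd (actS S (Fin k → A) g x) = g • Multiplicative.toAdd x := rfl

theorem pow_right (k : ℕ) (h : Hk S A k) (n : ℕ) : (h ^ n).right = h.right ^ n := by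
  have := map_pow (SemidirectProduct.rightHom (φ := actS S (Fin k → A))) h n
  simpa using this

theorem pow_left (k : ℕ) (h : Hk S A k) (n : ℕ) :
    Multiplicative.toAdd (h ^ n).left =
      ∑ i ∈ Finset.range n, h.right ^ i • Multiplicative.toAdd h.left := by
  induction n with
  | zero =>
    rw [pow_zero, Finset.sum_range_zero, SemidirectProduct.one_left]
    rfl
  | succ n ih =>
    rw [pow_succ, SemidirectProduct.mul_left, toAdd_mul, ih, pow_right, Finset.sum_range_succ,
      toAdd_actS]

theorem sum_pow_smul_fixed {B : Type} [AddCommGroup B] [DistribMulAction S B] (g : S) (r : ℕ)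
    (hr : g ^ r = 1) (x : B) :
    g • (∑ j ∈ Finset.range r, g ^ j • x) = ∑ j ∈ Finset.range r, g ^ j • x := by
  rw [Finset.smul_sum]
  have h1 : ∀ j ∈ Finset.range r, g • g ^ j • x = g ^ (j + 1) • x := by
    intro j _
    rw [← mul_smul, ← pow_succ']
  rw [Finset.sum_congr rfl h1]
  have h2 := Finset.sum_range_succ (fun j => g ^ j • x) r
  have h3 := Finset.sum_range_succ' (fun j => g ^ j • x) r
  rw [h2] at h3
  simp only [hr, pow_zero, one_smul] at h3
  exact (add_right_cancel h3).symm

/-- if `h.right` has order `r` and is fixed-point-free on `A`, then `h ^ r = 1` -/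
theorem pow_eq_one_of_fpf (k : ℕ) (h : Hk S A k) (r : ℕ) (hr : orderOf h.right = r)
    (hfpf : ∀ a : A, h.right • a = a → a = 0) : h ^ r = 1 := by
  have hgr : h.right ^ r = 1 := by rw [← hr]; exact pow_orderOf_eq_one _
  apply SemidirectProduct.ext
  · rw [SemidirectProduct.one_left]
    apply Multiplicative.toAdd.injective
    rw [pow_left, toAdd_one]
    funext i
    rw [Finset.sum_apply]
    have hterm : ∀ j ∈ Finset.range r,
        (h.right ^ j • Multiplicative.toAdd h.left) i =
          h.right ^ j • (Multiplicative.toAdd h.left i) := fun j _ => rfl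
    rw [Finset.sum_congr rfl hterm]
    apply hfpf
    exact sum_pow_smul_fixed h.right r hgr _
  · rw [pow_right, hgr, SemidirectProduct.one_right]

/-- the kernel of the projection has exponent `p` -/
theorem pow_eq_one_of_right_eq_one (k : ℕ) (p : ℕ) (hpA : ∀ a : A, p • a = 0) (h : Hk S A k)
    (h1 : h.right = 1) : h ^ p = 1 := by
  apply SemidirectProduct.ext
  · rw [SemidirectProduct.one_left]
    apply Multiplicative.toAdd.injective
    rw [pow_left, toAdd_one, h1]
    simp only [one_pow, one_smul, Finset.sum_const, Finset.card_range]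
    funext i
    rw [Pi.smul_apply, Pi.zero_apply]
    exact hpA _
  · rw [pow_right, h1, one_pow, SemidirectProduct.one_right]

theorem card_Hk [Finite S] [Finite A] (k : ℕ) :
    Nat.card (Hk S A k) = Nat.card A ^ k * Nat.card S := by
  rw [Nat.card_congr (SemidirectProduct.equivProd (φ := actS S (Fin k → A))), Nat.card_prod]
  congr 1
  rw [show Nat.card (Multiplicative (Fin k → A)) = Nat.card (Fin k → A) from rfl, Nat.card_fun,
    Nat.card_fin]

/-- the groups `A^k ⋊ S` have the prime graph of `S` -/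
theorem samePrimeGraph_Hk [Finite S] [Finite A] (p : ℕ) (hp : p.Prime) (hpA : ∀ a : A, p • a = 0)
    (hpS : p ∣ Nat.card S)
    (hq : ∀ q : ℕ, q.Prime → q ≠ p → (∃ s : S, orderOf s = p * q) ∨
      (∀ s : S, orderOf s = q → ∀ a : A, s • a = a → a = 0)) (k : ℕ) :
    SamePrimeGraph S (Hk S A k) := by
  refine Cfsg.Agent.Lib.Helper70_PG_GEN.samePrimeGraph_of_split_p p hp
    (SemidirectProduct.rightHom (φ := actS S (Fin k → A)))
    (SemidirectProduct.inr (φ := actS S (Fin k → A))) (fun s => rfl) ?_ hpS ?_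
  · intro h h1
    exact pow_eq_one_of_right_eq_one k p hpA h h1
  · intro q hq' hqp
    rcases hq q hq' hqp with h | h
    · exact Or.inl h
    · right
      intro x hx
      exact pow_eq_one_of_fpf k x q hx (h x.right hx)

/-- **Main tool**: finite groups of arbitrarily large order with the prime graph of `S`. -/
theorem exists_big_samePrimeGraph [Finite S] [Finite A] (hA : ∃ a : A, a ≠ 0) (p : ℕ)
    (hp : p.Prime) (hpA : ∀ a : A, p • a = 0) (hpS : p ∣ Nat.card S)
    (hq : ∀ q : ℕ, q.Prime → q ≠ p → (∃ s : S, orderOf s = p * q) ∨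
      (∀ s : S, orderOf s = q → ∀ a : A, s • a = a → a = 0)) (N : ℕ) :
    ∃ (H : Type) (_ : Group H) (_ : Finite H), N < Nat.card H ∧ SamePrimeGraph S H := by
  refine ⟨Hk S A N, inferInstance, inferInstance, ?_, samePrimeGraph_Hk p hp hpA hpS hq N⟩
  rw [card_Hk]
  have h2 : 2 ≤ Nat.card A := by
    obtain ⟨a, ha⟩ := hA
    have : Nontrivial A := ⟨⟨a, 0, ha⟩⟩
    exact Finite.one_lt_card
  have hS : 1 ≤ Nat.card S := Nat.card_pos
  calc N < 2 ^ N := Nat.lt_pow_self (by norm_num)
    _ ≤ Nat.card A ^ N := Nat.pow_le_pow_left h2 N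
    _ = Nat.card A ^ N * 1 := (mul_one _).symm
    _ ≤ Nat.card A ^ N * Nat.card S := Nat.mul_le_mul_left _ hS

end

section fpf

variable {S A : Type} [Group S] [AddCommGroup A] [DistribMulAction S A]

/-- fixed by `g ^ n` and by `g ^ i`: fixed by `g ^ gcd n i` -/
theorem pow_gcd_smul_eq {X : Type*} [MulAction S X] (g : S) (n i : ℕ) (x : X)
    (hn : g ^ n • x = x) (hi : g ^ i • x = x) : g ^ Nat.gcd n i • x = x := by
  have hmem : ∀ k : ℕ, g ^ k • x = x → g ^ k ∈ MulAction.stabilizer S x := fun k hk => hk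
  have h1 := hmem n hn
  have h2 := hmem i hi
  have key : g ^ ((Nat.gcd n i : ℕ) : ℤ) ∈ MulAction.stabilizer S x := by
    rw [Nat.gcd_eq_gcd_ab, zpow_add, zpow_mul, zpow_mul, zpow_natCast, zpow_natCast]
    exact mul_mem (zpow_mem h1 _) (zpow_mem h2 _)
  rw [zpow_natCast] at key
  exact key

/-- an element of a finite group has a power of each order dividing its order -/
theorem exists_orderOf_eq_of_dvd [Finite S] (g : S) (d : ℕ) (hd : d ∣ orderOf g) :
    ∃ s : S, orderOf s = d := by
  obtain ⟨m, hm⟩ := hd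
  have hpos : 0 < orderOf g := orderOf_pos g
  have hm0 : m ≠ 0 := by
    rintro rfl
    rw [mul_zero] at hm
    omega
  have hd0 : d ≠ 0 := by
    rintro rfl
    rw [zero_mul] at hm
    omega
  refine ⟨g ^ m, ?_⟩
  rw [orderOf_pow_of_dvd hm0 ⟨d, by rw [hm, mul_comm]⟩, hm]
  exact Nat.mul_div_cancel _ (Nat.pos_of_ne_zero hm0)

/-- if `q² ∤ |S|` and some `g` with `g ^ q` acting trivially is fixed-point-free on `A ≠ 0`, then
every element of order `q` is fixed-point-free on `A` -/
theorem fpf_of_sylow [Finite S] (hA : ∃ a : A, a ≠ 0) (q : ℕ) (hq : q.Prime)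
    (hq2 : ¬ q ^ 2 ∣ Nat.card S) (g : S) (hgq : ∀ a : A, g ^ q • a = a)
    (hfpf : ∀ a : A, g • a = a → a = 0) :
    ∀ s : S, orderOf s = q → ∀ a : A, s • a = a → a = 0 := by
  -- `q` divides the order of `g`
  have hN : g ^ orderOf g = 1 := pow_orderOf_eq_one g
  have hqN : q ∣ orderOf g := by
    by_contra hnd
    have hcop : Nat.gcd (orderOf g) q = 1 := by
      rw [Nat.gcd_comm]
      exact (Nat.Prime.coprime_iff_not_dvd hq).2 hnd
    obtain ⟨a, ha⟩ := hA
    apply ha
    apply hfpf
    have := pow_gcd_smul_eq g (orderOf g) q a (by rw [hN, one_smul]) (hgq a)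
    rwa [hcop, pow_one] at this
  obtain ⟨m, hm⟩ := hqN
  have hpos : 0 < orderOf g := orderOf_pos g
  have hm0 : m ≠ 0 := by
    rintro rfl
    rw [mul_zero] at hm
    omega
  -- `q ∤ m`
  have hqm : ¬ q ∣ m := by
    rintro ⟨m', rfl⟩
    apply hq2
    have : q ^ 2 ∣ orderOf g := ⟨m', by rw [hm]; ring⟩
    exact this.trans (orderOf_dvd_natCard g)
  -- the element `b = g ^ m` of order `q`
  have hb : orderOf (g ^ m) = q := by
    rw [orderOf_pow_of_dvd hm0 ⟨q, by rw [hm, mul_comm]⟩, hm]
    exact Nat.mul_div_cancel _ (Nat.pos_of_ne_zero hm0)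
  have hbfpf : ∀ a : A, g ^ m • a = a → a = 0 := by
    intro a ha
    apply hfpf
    have hcop : Nat.gcd m q = 1 := by
      rw [Nat.gcd_comm]
      exact (Nat.Prime.coprime_iff_not_dvd hq).2 hqm
    have := pow_gcd_smul_eq g m q a ha (hgq a)
    rwa [hcop, pow_one] at this
  intro s hs a hsa
  obtain ⟨c, i, hci⟩ := Cfsg.Agent.Lib.Helper89_PG_SYL.conj_of_sylow q hq hq2 s (g ^ m) hs hb
  -- `q ∤ i`
  have hqi : ¬ q ∣ i := by
    rintro ⟨i', rfl⟩
    have h1 : (g ^ m) ^ (q * i') = 1 := by
      rw [pow_mul, ← hb, pow_orderOf_eq_one, one_pow]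
    rw [h1, mul_one, mul_inv_cancel] at hci
    rw [hci, orderOf_one] at hs
    exact hq.one_lt.ne hs
  have hw : (g ^ m) ^ i • (c⁻¹ • a) = c⁻¹ • a := by
    have e : (g ^ m) ^ i • (c⁻¹ • a) = c⁻¹ • (s • a) := by
      rw [hci]
      simp only [← mul_smul]
      congr 1
      group
    rw [e, hsa]
  have hbq : (g ^ m) ^ q • (c⁻¹ • a) = c⁻¹ • a := by
    rw [← hb, pow_orderOf_eq_one, one_smul]
  have hcop : Nat.gcd i q = 1 := by
    rw [Nat.gcd_comm]
    exact (Nat.Prime.coprime_iff_not_dvd hq).2 hqi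
  have h3 := pow_gcd_smul_eq (g ^ m) i q (c⁻¹ • a) hw hbq
  rw [hcop, pow_one] at h3
  have h4 := hbfpf _ h3
  have : a = c • (c⁻¹ • a) := by rw [smul_inv_smul]
  rw [this, h4, smul_zero]

end fpf

end Cfsg.Agent.Lib.Helper34_PGraphSplit
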