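import Mathlib
import Cfsg.Agent.Lib.Helper18_TF4InvFacts
import Cfsg.Agent.Lib.Helper36_F4H
import Cfsg.Agent.Lib.Helper36_TwistPerf

/-!
# S2184 market (architect helper18), package TOR: the torus of `²F₄(q)` fuses the root elements of one root group

`h = torusHom chevF4 K (pr m ν 1)` lies in `twistedF4 K (2 ^ m)` (`Helper36_F4H.hJ1_mem`) and maps `X r t` to
`X r (χ_r t)` with `χ_r = (ν ^ 2 ^ m) ^ ⟨r, α₀ᵛ⟩ * ν ^ ⟨r, α₃ᵛ⟩`; the values at the roots `33, 24` (resp. `44, 47`) are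
`((ν ^ 2 ^ m) ^ 2, ν ^ 2)` (resp. `(ν ^ 2 ^ m, ν)`).
-/

set_option autoImplicit false

namespace Cfsg.Agent.Lib.Helper34_S2184_TOR

open Cfsg Cfsg.Lie Cfsg.Agent.Lib.Helper18_ChevGL Cfsg.Agent.Lib.Helper18_ChevUni
  Cfsg.Agent.Lib.Helper36_F4Setup Cfsg.Agent.Lib.Helper18_TF4Swap Cfsg.Agent.Lib.Helper18_TF4Inv
  Cfsg.Agent.Lib.Helper36_ChevTorus Cfsg.Agent.Lib.Helper36_ChevHOrder Cfsg.Agent.Lib.Helper36_F4H

/-- the Tits endomorphism `x ↦ x ^ 2 ^ (m + 1)` -/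
noncomputable def sg (K : Type*) [Field K] [CharP K 2] (m : ℕ) : K →+* K := iterateFrobenius K 2 (m + 1)

theorem sg_apply {K : Type*} [Field K] [CharP K 2] (m : ℕ) (x : K) : sg K m x = x ^ 2 ^ (m + 1) := by
  unfold sg
  rw [iterateFrobenius_def]

theorem cartanTabT : chevF4.cartan 0 44 = 1 ∧ chevF4.cartan 3 44 = 0 ∧ chevF4.cartan 0 47 = 0 ∧
    chevF4.cartan 3 47 = 1 ∧ chevF4.cartan 0 33 = 2 ∧ chevF4.cartan 3 33 = 0 ∧ chevF4.cartan 0 24 = 0 ∧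
    chevF4.cartan 3 24 = 2 := by decide +kernel

section

variable {K : Type*} [Field K] {m : ℕ}

/-- The character of `h(ν, 1)`. -/
theorem chi_nu (ν : Kˣ) (r : ℕ) : chi chevF4 K (ext chevF4 K (pr m ν 1)) r =
    (ν ^ 2 ^ m) ^ chevF4.cartan 0 r * ν ^ chevF4.cartan 3 r := by
  rw [chi_four]
  have f0 : ext chevF4 K (pr m ν 1) 0 = ν ^ 2 ^ m := rfl
  have f1 : ext chevF4 K (pr m ν 1) 1 = 1 := by
    show (1 : Kˣ) ^ 2 ^ m = 1
    rw [one_pow]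
  have f2 : ext chevF4 K (pr m ν 1) 2 = 1 := rfl
  have f3 : ext chevF4 K (pr m ν 1) 3 = ν := rfl
  rw [f0, f1, f2, f3, one_zpow, one_zpow, mul_one, mul_one]

theorem conj_two (h a b : GL chevF4.Idx K) : h * (a * b) * h⁻¹ = (h * a * h⁻¹) * (h * b * h⁻¹) := by group

/-- Conjugation of a product of two root elements by `h(ν, 1)`. -/
theorem conj_pair (ν : Kˣ) (r s : ℕ) (hr : r < chevF4.nroots) (hs : s < chevF4.nroots) (a b : K) :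
    torusHom chevF4 K (pr m ν 1) * (X r a * X s b) * (torusHom chevF4 K (pr m ν 1))⁻¹ =
      X r ((((ν ^ 2 ^ m) ^ chevF4.cartan 0 r * ν ^ chevF4.cartan 3 r : Kˣ) : K) * a) *
        X s ((((ν ^ 2 ^ m) ^ chevF4.cartan 0 s * ν ^ chevF4.cartan 3 s : Kˣ) : K) * b) := by
  have hχ := isRootCharacter_chi chevF4 K (hfK K).hca (ext chevF4 K (pr m ν 1))
  have eH : torusHom chevF4 K (pr m ν 1) = torusGL chevF4 K (chi chevF4 K (ext chevF4 K (pr m ν 1))) := rfl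
  rw [eH, conj_two, Cfsg.Agent.Lib.Helper36_TwistPerf.torus_conj_x dc hchain _ hχ r hr,
    Cfsg.Agent.Lib.Helper36_TwistPerf.torus_conj_x dc hchain _ hχ s hs, chi_nu, chi_nu]

end

section

variable {K : Type*} [Field K] [Fintype K] [CharP K 2] {m : ℕ} (hK : Fintype.card K = 2 ^ (2 * m + 1))

include hK in
theorem torus4 (f : K) (hf : f ≠ 0) : Cj (twistedF4 K (2 ^ m)) (u4 (sg K m) 0 f) (u4 (sg K m) 0 1) := by
  set φ : Kˣ := Units.mk0 f hf with hφ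
  set ν : Kˣ := (φ⁻¹) ^ 2 ^ (m + 1) with hν
  refine ⟨torusHom chevF4 K (pr m ν 1), hJ1_mem hK _ le_rfl ν, ?_⟩
  have e4 : ∀ t : K, u4 (sg K m) 0 t = X 44 t * X 47 (sg K m t) := by
    intro t
    simp [u4, X_zero]
  obtain ⟨c1, c2, c3, c4, -⟩ := cartanTabT
  rw [e4, e4, conj_pair ν 44 47 (by decide) (by decide), c1, c2, c3, c4, map_one]
  have h1 : ν ^ 2 ^ m = φ⁻¹ := by
    rw [hν, ← pow_mul]
    have : 2 ^ (m + 1) * 2 ^ m = 2 ^ (2 * m + 1) := by ring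
    rw [this, units_pow_card hK]
  have k1 : ((((ν ^ 2 ^ m) ^ (1 : ℤ) * ν ^ (0 : ℤ) : Kˣ) : K)) * f = 1 := by
    rw [zpow_one, zpow_zero, mul_one, h1, Units.val_inv_eq_inv_val, hφ, Units.val_mk0]
    exact inv_mul_cancel₀ hf
  have k2 : ((((ν ^ 2 ^ m) ^ (0 : ℤ) * ν ^ (1 : ℤ) : Kˣ) : K)) * sg K m f = 1 := by
    rw [zpow_one, zpow_zero, one_mul, hν, sg_apply, Units.val_pow_eq_pow_val, Units.val_inv_eq_inv_val, hφ,
      Units.val_mk0, ← mul_pow, inv_mul_cancel₀ hf, one_pow]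
  rw [k1, k2]

include hK in
theorem torus1 (a : K) (ha : a ≠ 0) : Cj (twistedF4 K (2 ^ m)) (u1 (sg K m) a) (u1 (sg K m) 1) := by
  set α : Kˣ := Units.mk0 a ha with hα
  set ν : Kˣ := (α⁻¹) ^ 2 ^ m with hν
  refine ⟨torusHom chevF4 K (pr m ν 1), hJ1_mem hK _ le_rfl ν, ?_⟩
  obtain ⟨-, -, -, -, c1, c2, c3, c4⟩ := cartanTabT
  unfold u1
  rw [conj_pair ν 33 24 (by decide) (by decide), c1, c2, c3, c4, map_one]
  have h1 : (ν ^ 2 ^ m) ^ 2 = α⁻¹ := by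
    rw [← pow_mul, mul_comm, hν]
    exact units_pow_pow hK α⁻¹
  have k1 : ((((ν ^ 2 ^ m) ^ (2 : ℤ) * ν ^ (0 : ℤ) : Kˣ) : K)) * a = 1 := by
    have e : (ν ^ 2 ^ m) ^ (2 : ℤ) = (ν ^ 2 ^ m) ^ 2 := zpow_ofNat _ 2
    rw [e, zpow_zero, mul_one, h1, Units.val_inv_eq_inv_val, hα, Units.val_mk0]
    exact inv_mul_cancel₀ ha
  have k2 : ((((ν ^ 2 ^ m) ^ (0 : ℤ) * ν ^ (2 : ℤ) : Kˣ) : K)) * sg K m a = 1 := by
    have e : ν ^ (2 : ℤ) = ν ^ 2 := zpow_ofNat _ 2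
    rw [e, zpow_zero, one_mul, hν, ← pow_mul, sg_apply, Units.val_pow_eq_pow_val, Units.val_inv_eq_inv_val, hα,
      Units.val_mk0]
    have : 2 ^ m * 2 = 2 ^ (m + 1) := by ring
    rw [this, ← mul_pow, inv_mul_cancel₀ ha, one_pow]
  rw [k1, k2]

end

end Cfsg.Agent.Lib.Helper34_S2184_TOR
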