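import Mathlib
import Cfsg.Agent.Lib.Helper30_S2316Defs

/-!
# S2316 market (architect helper30), package REV

A permutation that inverts every adjacent pair of indices whose gap is not a cut reverses every block
(induction on `ht m b - ht m a`).  The three facts on the block function used here (`blk_mono`,
`not_isCut_of_blk_eq`, `exists_ht_eq` of package BLK) are proved locally under private names.
-/

set_option autoImplicit false
set_option linter.unusedSectionVars false
set_option linter.unusedVariables false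

namespace Cfsg.Agent.Lib.Helper30_S2316

open Matrix Cfsg Cfsg.Agent.Lib.Helper68_MatGrp Cfsg.Agent.Lib.Helper5_SpPerfect
  Cfsg.Agent.Lib.Helper68_StSpDefs Cfsg.Agent.Lib.Helper68_StSp Cfsg.Agent.Lib.Helper44_SpUT
  Cfsg.Agent.Lib.Helper68_StAbs Cfsg.Agent.Lib.Helper6_Word Cfsg.Agent.Lib.Helper6_BNPair
  Cfsg.Agent.Lib.Helper81_BNSteinberg Cfsg.Agent.Lib.Helper81_BNIndex Cfsg.Agent.Lib.Helper81_BNBorel

section rev

variable {m : ℕ}

private theorem h34_blk_mono (J : Finset (Fin m)) {a b : Fin m ⊕ Fin m} (h : ht m a ≤ ht m b) :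
    blk m J a ≤ blk m J b := by
  unfold blk
  exact Finset.card_le_card (Finset.filter_subset_filter _ (Finset.range_mono h))

private theorem h34_not_isCut (J : Finset (Fin m)) {a b : Fin m ⊕ Fin m} (hb : blk m J a = blk m J b)
    (g : ℕ) (h1 : ht m a ≤ g) (h2 : g < ht m b) : ¬ IsCut m J g := by
  intro hc
  have hab : ht m a ≤ ht m b := le_trans h1 h2.le
  have hsub : (Finset.range (ht m a)).filter (IsCut m J) ⊆ (Finset.range (ht m b)).filter (IsCut m J) :=
    Finset.filter_subset_filter _ (Finset.range_mono hab)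
  have heq : (Finset.range (ht m a)).filter (IsCut m J) = (Finset.range (ht m b)).filter (IsCut m J) :=
    Finset.eq_of_subset_of_card_le hsub (le_of_eq hb.symm)
  have hg : g ∈ (Finset.range (ht m b)).filter (IsCut m J) :=
    Finset.mem_filter.mpr ⟨Finset.mem_range.mpr h2, hc⟩
  rw [← heq] at hg
  have := Finset.mem_range.mp (Finset.mem_filter.mp hg).1
  omega

private theorem h34_exists_ht {k : ℕ} (hk : k < 2 * m) : ∃ c : Fin m ⊕ Fin m, ht m c = k := by
  by_cases h : k < m
  · exact ⟨Sum.inl ⟨k, h⟩, rfl⟩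
  · refine ⟨Sum.inr ⟨2 * m - 1 - k, by omega⟩, ?_⟩
    rw [ht_inr]
    show 2 * m - 1 - (2 * m - 1 - k) = k
    omega

/-- auxiliary form of `rev_of_adj` with the difference of the heights as a parameter -/
private theorem h34_rev_aux {J : Finset (Fin m)} (τ : Equiv.Perm (Fin m ⊕ Fin m))
    (hadj : ∀ a b : Fin m ⊕ Fin m, ht m b = ht m a + 1 → ¬ IsCut m J (ht m a) →
      ht m (τ b) < ht m (τ a)) :
    ∀ (d : ℕ) (a b : Fin m ⊕ Fin m), ht m b = ht m a + 1 + d → blk m J a = blk m J b →
      ht m (τ b) < ht m (τ a) := by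
  intro d
  induction d with
  | zero =>
    intro a b hd hb
    exact hadj a b hd (h34_not_isCut J hb (ht m a) le_rfl (by omega))
  | succ d ih =>
    intro a b hd hb
    have hbl := ht_lt (m := m) b
    obtain ⟨c, hc⟩ := h34_exists_ht (m := m) (k := ht m a + 1) (by omega)
    have h1 : blk m J a ≤ blk m J c := h34_blk_mono J (by omega)
    have h2 : blk m J c ≤ blk m J b := h34_blk_mono J (by omega)
    have hac : blk m J a = blk m J c := le_antisymm h1 (hb ▸ h2)
    have hcb : blk m J c = blk m J b := hac ▸ hb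
    have s1 : ht m (τ c) < ht m (τ a) :=
      hadj a c hc (h34_not_isCut J hb (ht m a) le_rfl (by omega))
    have s2 : ht m (τ b) < ht m (τ c) := ih c b (by omega) hcb
    exact lt_trans s2 s1

theorem rev_of_adj {J : Finset (Fin m)} (τ : Equiv.Perm (Fin m ⊕ Fin m))
    (hadj : ∀ a b : Fin m ⊕ Fin m, ht m b = ht m a + 1 → ¬ IsCut m J (ht m a) →
      ht m (τ b) < ht m (τ a))
    {a b : Fin m ⊕ Fin m} (hlt : ht m a < ht m b) (hb : blk m J a = blk m J b) :
    ht m (τ b) < ht m (τ a) :=
  h34_rev_aux τ hadj (ht m b - ht m a - 1) a b (by omega) hb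

end rev

end Cfsg.Agent.Lib.Helper30_S2316
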