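import Mathlib

set_option autoImplicit false

namespace Cfsg.Agent.Lib.Helper34_S4699_PHIB

/-- Fermat in a field of characteristic `p`. -/
theorem natCast_pow_pred_eq_one {F : Type*} [Field F] {p : ℕ} [Fact p.Prime] [CharP F p]
    (a : ℕ) (ha : ¬ p ∣ a) : ((a : F)) ^ (p - 1) = 1 := by
  have h0 : ((a : ZMod p)) ≠ 0 := by
    intro h
    exact ha ((ZMod.natCast_eq_zero_iff a p).1 h)
  have h1 : ((a : ZMod p)) ^ (p - 1) = 1 := ZMod.pow_card_sub_one_eq_one h0
  have h2 := congrArg (ZMod.castHom (dvd_refl p) F) h1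
  simpa using h2

/-- the polynomial congruence (a local copy of PK-PHIA). -/
theorem pow_sub_one_pow' {F : Type*} [Field F] {p : ℕ} [Fact p.Prime] [CharP F p] {A : Type*}
    [Ring A] [Algebra F A] (X : A) (a : ℕ) (ha : ¬ p ∣ a) :
    ∃ w : A, w * X = X * w ∧ (X ^ a - 1) ^ (p - 1) = (X - 1) ^ (p - 1) + (X - 1) ^ p * w := by
  classical
  have hp : 1 ≤ p := (Fact.out : p.Prime).one_lt.le
  -- in `F[T]`
  have h1 : ((Polynomial.X : Polynomial F) ^ a - 1) =
      (Polynomial.X - 1) * ∑ i ∈ Finset.range a, (Polynomial.X : Polynomial F) ^ i :=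
    (mul_geom_sum _ _).symm
  set S : Polynomial F := ∑ i ∈ Finset.range a, (Polynomial.X : Polynomial F) ^ i with hS
  have hev : Polynomial.eval 1 S = (a : F) := by
    simp [hS, Polynomial.eval_finsetSum]
  obtain ⟨g, hg⟩ : (Polynomial.X - Polynomial.C (1 : F)) ∣ S - Polynomial.C (Polynomial.eval 1 S) :=
    Polynomial.X_sub_C_dvd_sub_C_eval
  rw [hev, Polynomial.C_1] at hg
  have hS2 : S = Polynomial.C (a : F) + (Polynomial.X - 1) * g := by
    rw [← hg]; ring
  obtain ⟨h, hh⟩ : (S - Polynomial.C (a : F)) ∣ S ^ (p - 1) - (Polynomial.C (a : F)) ^ (p - 1) :=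
    sub_dvd_pow_sub_pow _ _ _
  have hC : (Polynomial.C (a : F)) ^ (p - 1) = 1 := by
    rw [← Polynomial.C_pow, natCast_pow_pred_eq_one a ha, Polynomial.C_1]
  rw [hC, hg] at hh
  have hS3 : S ^ (p - 1) = 1 + (Polynomial.X - 1) * (g * h) := by
    have : S ^ (p - 1) = 1 + (S ^ (p - 1) - 1) := by ring
    rw [this, hh]; ring
  have hmain : ((Polynomial.X : Polynomial F) ^ a - 1) ^ (p - 1) =
      (Polynomial.X - 1) ^ (p - 1) + (Polynomial.X - 1) ^ p * (g * h) := by
    rw [h1, mul_pow, hS3]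
    have : (Polynomial.X - 1 : Polynomial F) ^ p = (Polynomial.X - 1) ^ (p - 1) * (Polynomial.X - 1) := by
      rw [← pow_succ, Nat.sub_add_cancel hp]
    rw [this]; ring
  refine ⟨Polynomial.aeval X (g * h), ?_, ?_⟩
  · have : Polynomial.aeval X ((g * h) * Polynomial.X) = Polynomial.aeval X (Polynomial.X * (g * h)) := by
      rw [mul_comm]
    simpa [map_mul, Polynomial.aeval_X] using this
  · have := congrArg (Polynomial.aeval X) hmain
    simpa [map_mul, map_add, map_sub, map_pow, Polynomial.aeval_X] using this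

theorem phi_of_conj_set {F : Type*} [Field F] {p : ℕ} [Fact p.Prime] [CharP F p] {G : Type*} [Group G]
    (x : G) (N : Subgroup G) (O : Finset G) (hO1 : ∀ y ∈ O, ∃ a : ℕ, ¬ p ∣ a ∧ y = x ^ a)
    (hO2 : ∀ n ∈ N, ∀ y ∈ O, n * y * n⁻¹ ∈ O)
    {V : Type*} [AddCommGroup V] [Module F V] (ρ : Representation F G V) :
    ∃ (φ w : Module.End F V),
      (∀ n ∈ N, φ * ρ n = ρ n * φ) ∧
      (∀ t : Module.End F V, (∀ g : G, t * ρ g = ρ g * t) → t * φ = φ * t) ∧
      w * ρ x = ρ x * w ∧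
      φ = (O.card : F) • (ρ x - 1) ^ (p - 1) + (ρ x - 1) ^ p * w := by
  classical
  have key : ∀ y : G, ∃ w : Module.End F V, y ∈ O →
      (w * ρ x = ρ x * w ∧
        (ρ y - 1) ^ (p - 1) = (ρ x - 1) ^ (p - 1) + (ρ x - 1) ^ p * w) := by
    intro y
    by_cases hy : y ∈ O
    · obtain ⟨a, ha, rfl⟩ := hO1 y hy
      obtain ⟨w, hw1, hw2⟩ := pow_sub_one_pow' (F := F) (p := p) (ρ x) a ha
      refine ⟨w, fun _ => ⟨hw1, ?_⟩⟩
      rw [map_pow]; exact hw2
    · exact ⟨0, fun h => absurd h hy⟩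
  choose wf hwf using key
  refine ⟨∑ y ∈ O, (ρ y - 1) ^ (p - 1), ∑ y ∈ O, wf y, ?_, ?_, ?_, ?_⟩
  · intro n hn
    have hterm : ∀ y : G, ρ n * (ρ y - 1) ^ (p - 1) = (ρ (n * y * n⁻¹) - 1) ^ (p - 1) * ρ n := by
      intro y
      have hc : ρ n * (ρ y - 1) = (ρ (n * y * n⁻¹) - 1) * ρ n := by
        rw [mul_sub, sub_mul, mul_one, one_mul, ← map_mul, ← map_mul]
        congr 2
        group
      have : SemiconjBy (ρ n) (ρ y - 1) (ρ (n * y * n⁻¹) - 1) := hc
      exact (this.pow_right (p - 1))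
    have hre : ∑ y ∈ O, (ρ (n * y * n⁻¹) - 1) ^ (p - 1) = ∑ y ∈ O, (ρ y - 1) ^ (p - 1) := by
      refine Finset.sum_nbij' (fun y => n * y * n⁻¹) (fun y => n⁻¹ * y * n) ?_ ?_ ?_ ?_ ?_
      · intro y hy; exact hO2 n hn y hy
      · intro y hy
        have := hO2 n⁻¹ (N.inv_mem hn) y hy
        simpa using this
      · intro y _; group
      · intro y _; group
      · intro y _; rfl
    rw [Finset.mul_sum, Finset.sum_congr rfl (fun y _ => hterm y), ← Finset.sum_mul, hre]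
  · intro t ht
    have : Commute t (∑ y ∈ O, (ρ y - 1) ^ (p - 1)) := by
      refine Commute.sum_right _ _ _ (fun y _ => ?_)
      refine Commute.pow_right ?_ _
      exact (Commute.sub_right (ht y) (Commute.one_right t))
    exact this
  · have : Commute (∑ y ∈ O, wf y) (ρ x) := by
      refine Commute.sum_left _ _ _ (fun y hy => ?_)
      exact (hwf y hy).1
    exact this
  · rw [Finset.sum_congr rfl (fun y hy => (hwf y hy).2), Finset.sum_add_distrib, Finset.sum_const,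
      ← Finset.mul_sum, Nat.cast_smul_eq_nsmul]

end Cfsg.Agent.Lib.Helper34_S4699_PHIB
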