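import Mathlib
import Cfsg.Prelude.Def_GeometricClasses
import Cfsg.Agent.Lib.Helper34_SpExt_QC1

set_option autoImplicit false

namespace Cfsg.Agent.Lib.Helper34_SpExt_QC2

open Matrix Cfsg.Agent.Lib.Helper34_SpExt_QC1

section abstract

variable {F E V : Type*} [Field F] [Field E] [Algebra F E] [AddCommGroup V] [Module F V]
  [Module E V] [IsScalarTower F E V]

/-- Artin's argument: `F`-independent fixed vectors of an `α`-semilinear map are `E`-independent
when the fixed field of `α` is `F`. -/
theorem artin_aux (α : E ≃ₐ[F] E) (hfix : ∀ a : E, α a = a → ∃ c : F, algebraMap F E c = a)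
    (g : V →ₗ[F] V) (hg : ∀ (a : E) (v : V), g (a • v) = α a • g v)
    {n : Type*} (w : n → V) (hw : LinearIndependent F w) (hgw : ∀ i, g (w i) = w i) :
    ∀ (N : ℕ) (s : Finset n) (c : n → E), s.card ≤ N → (∀ i ∈ s, c i ≠ 0) →
      ∑ i ∈ s, c i • w i = 0 → s = ∅ := by
  classical
  intro N
  induction N with
  | zero =>
    intro s c hs _ _
    exact Finset.card_eq_zero.mp (Nat.le_zero.mp hs)
  | succ N ih =>
    intro s c hs hc hsum
    by_contra hne
    obtain ⟨i₀, hi₀⟩ := Finset.nonempty_iff_ne_empty.mpr hne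
    set c' : n → E := fun i => (c i₀)⁻¹ * c i with hc'
    have hc'i₀ : c' i₀ = 1 := inv_mul_cancel₀ (hc i₀ hi₀)
    have hsum' : ∑ i ∈ s, c' i • w i = 0 := by
      have : ∑ i ∈ s, c' i • w i = (c i₀)⁻¹ • ∑ i ∈ s, c i • w i := by
        rw [Finset.smul_sum]
        exact Finset.sum_congr rfl (fun i _ => by rw [hc', mul_smul])
      rw [this, hsum, smul_zero]
    set d : n → E := fun i => α (c' i) - c' i with hd
    have hsumd : ∑ i ∈ s, d i • w i = 0 := by
      have h1 : g (∑ i ∈ s, c' i • w i) = ∑ i ∈ s, α (c' i) • w i := by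
        rw [map_sum]
        exact Finset.sum_congr rfl (fun i _ => by rw [hg, hgw])
      have h2 : ∑ i ∈ s, d i • w i = ∑ i ∈ s, α (c' i) • w i - ∑ i ∈ s, c' i • w i := by
        rw [← Finset.sum_sub_distrib]
        exact Finset.sum_congr rfl (fun i _ => by rw [hd, sub_smul])
      rw [h2, ← h1, hsum', map_zero, sub_zero]
    set t := s.filter (fun i => d i ≠ 0) with ht
    have hi₀t : i₀ ∉ t := by
      rw [ht, Finset.mem_filter]
      rintro ⟨_, h⟩
      apply h
      show α (c' i₀) - c' i₀ = 0
      rw [hc'i₀, map_one, sub_self]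
    have htcard : t.card ≤ N := by
      have hts : t ⊂ s := by
        refine ⟨Finset.filter_subset _ _, fun h => hi₀t (h hi₀)⟩
      have := Finset.card_lt_card hts
      omega
    have hsumt : ∑ i ∈ t, d i • w i = 0 := by
      have h3 : ∑ i ∈ t, d i • w i = ∑ i ∈ s, d i • w i := by
        rw [ht, Finset.sum_filter]
        refine Finset.sum_congr rfl (fun i _ => ?_)
        by_cases h : d i = 0
        · simp [h]
        · simp [h]
      rw [h3, hsumd]
    have htempty := ih t d htcard (fun i hi => (Finset.mem_filter.mp hi).2) hsumt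
    have hdz : ∀ i ∈ s, d i = 0 := by
      intro i hi
      by_contra h
      have : i ∈ t := Finset.mem_filter.mpr ⟨hi, h⟩
      rw [htempty] at this
      exact absurd this (Finset.notMem_empty i)
    have hex : ∀ i ∈ s, ∃ f : F, algebraMap F E f = c' i := by
      intro i hi
      apply hfix
      have := hdz i hi
      exact sub_eq_zero.mp this
    choose! f hf using hex
    have hsumf : ∑ i ∈ s, f i • w i = 0 := by
      rw [← hsum']
      refine Finset.sum_congr rfl (fun i hi => ?_)
      rw [← hf i hi, algebraMap_smul]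
    have := linearIndependent_iff'.mp hw s f hsumf i₀ hi₀
    have h1 : c' i₀ = 0 := by rw [← hf i₀ hi₀, this, map_zero]
    rw [hc'i₀] at h1
    exact one_ne_zero h1

theorem artin_indep (α : E ≃ₐ[F] E) (hfix : ∀ a : E, α a = a → ∃ c : F, algebraMap F E c = a)
    (g : V →ₗ[F] V) (hg : ∀ (a : E) (v : V), g (a • v) = α a • g v)
    {n : Type*} (w : n → V) (hw : LinearIndependent F w) (hgw : ∀ i, g (w i) = w i) :
    LinearIndependent E w := by
  classical
  rw [linearIndependent_iff']
  intro s c hsum i hi
  by_contra hci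
  set t := s.filter (fun i => c i ≠ 0) with ht
  have hsumt : ∑ i ∈ t, c i • w i = 0 := by
    have h3 : ∑ i ∈ t, c i • w i = ∑ i ∈ s, c i • w i := by
      rw [ht, Finset.sum_filter]
      refine Finset.sum_congr rfl (fun i _ => ?_)
      by_cases h : c i = 0
      · simp [h]
      · simp [h]
    rw [h3, hsum]
  have := artin_aux α hfix g hg w hw hgw t.card t c le_rfl
    (fun i hi => (Finset.mem_filter.mp hi).2) hsumt
  have hit : i ∈ t := Finset.mem_filter.mpr ⟨hi, hci⟩
  rw [this] at hit
  exact absurd hit (Finset.notMem_empty i)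

theorem finrank_mul_finrank_ker_le [FiniteDimensional F V]
    (hprime : (Module.finrank F E).Prime) (α : E ≃ₐ[F] E) (hα : α ≠ 1)
    (g : V →ₗ[F] V) (hg : ∀ (a : E) (v : V), g (a • v) = α a • g v) :
    Module.finrank F E * Module.finrank F (LinearMap.ker (g - LinearMap.id)) ≤ Module.finrank F V := by
  classical
  have hsimple := Subalgebra.isSimpleOrder_of_finrank_prime F E hprime
  have hfix : ∀ a : E, α a = a → ∃ c : F, algebraMap F E c = a := by
    rcases hsimple.eq_bot_or_eq_top (AlgHom.equalizer (α : E →ₐ[F] E) (AlgHom.id F E)) with hbot | htop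
    · intro a ha
      have hmem : a ∈ AlgHom.equalizer (α : E →ₐ[F] E) (AlgHom.id F E) := by
        rw [AlgHom.mem_equalizer]
        exact ha
      rw [hbot, Algebra.mem_bot] at hmem
      exact hmem
    · exfalso
      apply hα
      apply AlgEquiv.ext
      intro a
      have hmem : a ∈ AlgHom.equalizer (α : E →ₐ[F] E) (AlgHom.id F E) := by
        rw [htop]; exact Algebra.mem_top
      rw [AlgHom.mem_equalizer] at hmem
      exact hmem
  have hmemW : ∀ x ∈ LinearMap.ker (g - LinearMap.id), g x = x := by
    intro x hx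
    rw [LinearMap.mem_ker, LinearMap.sub_apply, LinearMap.id_apply, sub_eq_zero] at hx
    exact hx
  generalize LinearMap.ker (g - LinearMap.id) = W at hmemW ⊢
  set b := Module.finBasis F W with hb
  set w : Fin (Module.finrank F W) → V := fun i => (b i : V) with hwdef
  have hw : LinearIndependent F w := by
    have := b.linearIndependent.map' W.subtype (Submodule.ker_subtype W)
    exact this
  have hgw : ∀ i, g (w i) = w i := fun i => hmemW _ (b i).2
  have hE := artin_indep α hfix g hg w hw hgw
  have _ : Module.Finite E V := Module.Finite.of_restrictScalars_finite F E V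
  have hle := hE.fintype_card_le_finrank
  rw [Fintype.card_fin] at hle
  rw [← Module.finrank_mul_finrank F E V]
  exact Nat.mul_le_mul_left _ hle

end abstract

/-- QC2: an element of the normaliser not centralising `K` has a small fixed space -/
theorem QC2 {F : Type*} [Field F] {ι : Type} [Fintype ι] [DecidableEq ι] [Nonempty ι]
    (k : ℕ) (hk : k.Prime) (K : Subalgebra F (Matrix ι ι F)) (hK : Cfsg.Geo.IsFieldSubalgebra k K)
    (g : GL ι F) (hg : g ∈ Cfsg.Geo.subalgebraNormalizer K)
    (hnc : ¬ ∀ a ∈ K, (g : Matrix ι ι F) * a = a * (g : Matrix ι ι F)) :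
    k * (Fintype.card ι - ((g : Matrix ι ι F) - 1).rank) ≤ Fintype.card ι := by
  classical
  let _ : Field K := (isField K hK).toField
  let _ : Module K (ι → F) :=
    { smul := fun a v => a.1 *ᵥ v
      one_smul := fun v => Matrix.one_mulVec v
      mul_smul := fun a b v => (Matrix.mulVec_mulVec v a.1 b.1).symm
      smul_zero := fun a => Matrix.mulVec_zero a.1
      smul_add := fun a v w => Matrix.mulVec_add a.1 v w
      add_smul := fun a b v => Matrix.add_mulVec a.1 b.1 v
      zero_smul := fun v => Matrix.zero_mulVec v }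
  have hsmul : ∀ (a : K) (v : ι → F), a • v = a.1 *ᵥ v := fun _ _ => rfl
  have _ : IsScalarTower F K (ι → F) := ⟨fun c a v => Matrix.smul_mulVec c a.1 v⟩
  have hprime : (Module.finrank F K).Prime := by rw [hK.finrank_eq]; exact hk
  have hα : conjEquiv K g hg ≠ 1 := by
    intro h1
    apply hnc
    intro a ha
    have h2 : ((conjEquiv K g hg ⟨a, ha⟩ : K) : Matrix ι ι F) = a := by
      rw [h1]; rfl
    rw [conjEquiv_apply] at h2
    calc (g : Matrix ι ι F) * a
        = (g : Matrix ι ι F) * a * (((g⁻¹ : GL ι F) : Matrix ι ι F) * (g : Matrix ι ι F)) := by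
          rw [val_inv_mul, mul_one]
      _ = ((g : Matrix ι ι F) * a * ((g⁻¹ : GL ι F) : Matrix ι ι F)) * (g : Matrix ι ι F) := by
          simp only [mul_assoc]
      _ = a * (g : Matrix ι ι F) := by rw [h2]
  have hsemi : ∀ (a : K) (v : ι → F), (Matrix.mulVecLin (g : Matrix ι ι F)) (a • v) =
      conjEquiv K g hg a • (Matrix.mulVecLin (g : Matrix ι ι F)) v := by
    intro a v
    rw [hsmul, hsmul, Matrix.mulVecLin_apply, Matrix.mulVecLin_apply, conjEquiv_apply,
      Matrix.mulVec_mulVec, Matrix.mulVec_mulVec, mul_assoc, val_inv_mul, mul_one]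
  have hmain := finrank_mul_finrank_ker_le hprime (conjEquiv K g hg) hα
    (Matrix.mulVecLin (g : Matrix ι ι F)) hsemi
  rw [hK.finrank_eq, Module.finrank_fintype_fun_eq_card] at hmain
  have hker : Module.finrank F (LinearMap.ker (Matrix.mulVecLin (g : Matrix ι ι F) - LinearMap.id)) =
      Fintype.card ι - ((g : Matrix ι ι F) - 1).rank := by
    have h1 : Matrix.mulVecLin (g : Matrix ι ι F) - LinearMap.id =
        Matrix.mulVecLin ((g : Matrix ι ι F) - 1) := by
      apply LinearMap.ext
      intro v
      rw [LinearMap.sub_apply, LinearMap.id_apply, Matrix.mulVecLin_apply, Matrix.mulVecLin_apply,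
        Matrix.sub_mulVec, Matrix.one_mulVec]
    rw [h1]
    have h2 := LinearMap.finrank_range_add_finrank_ker (Matrix.mulVecLin ((g : Matrix ι ι F) - 1))
    rw [Module.finrank_fintype_fun_eq_card] at h2
    have h3 : ((g : Matrix ι ι F) - 1).rank =
        Module.finrank F (LinearMap.range (Matrix.mulVecLin ((g : Matrix ι ι F) - 1))) := rfl
    omega
  rw [hker] at hmain
  exact hmain

end Cfsg.Agent.Lib.Helper34_SpExt_QC2
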