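import Mathlib
import Cfsg.Prelude.Def_Blocks

/-!
# Alperin–Dade (isomorphic principal blocks, `p'`-index): definitions (helper78)

`ADHyp p G N`: there is a `p`-subgroup `P ≤ N` of index prime to `p` in `G` (a Sylow `p`-subgroup of
`G` inside `N`) with `G = N · C_G(P)`.

`ADReg p M G N`: the consequence of `ADHyp` used by the character-theoretic steps.

`ADConcl M G N`: every member of the principal block of `G` restricts irreducibly to `N`; for every
`θ` in the principal block of `N` there is a member of the principal block of `G` restricting to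
`θ`, and two members of the principal block of `G` restricting to `θ` are equal.

`ADConclAmb M N S hNS`: the existence and uniqueness parts for subgroups `N ≤ S` of an ambient group.
-/

set_option autoImplicit false

namespace Cfsg.Agent.Lib.Helper78_ADDefs

open Cfsg

/-- The Alperin–Dade hypothesis. -/
def ADHyp (p : ℕ) (G : Type*) [Group G] (N : Subgroup G) : Prop :=
  ∃ P : Subgroup G, IsPGroup p P ∧ P ≤ N ∧ ¬ p ∣ P.index ∧
    ∀ g : G, ∃ n ∈ N, ∃ c ∈ Subgroup.centralizer (P : Set G), g = n * c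

/-- The regular-lift property: every coset of `N` contains a `p`-regular element `x` at which
characters in the same block have congruent normalized values (for `G = N · C_G(P)` one takes
`x ∈ C_G(P)`, whose class has size prime to `p`). -/
def ADReg (p : ℕ) (M : Ideal AlgInt) (G : Type*) [Group G] (N : Subgroup G) : Prop :=
  ∀ g : G, ∃ x : G, g⁻¹ * x ∈ N ∧ ¬ p ∣ orderOf x ∧
    ∀ χ ψ : G → ℂ, SameBlock M χ ψ → MemLocalIdeal M (χ x / χ 1 - ψ x / ψ 1)

/-- The Alperin–Dade conclusion. -/
def ADConcl (M : Ideal AlgInt) (G : Type*) [Group G] (N : Subgroup G) : Prop :=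
  (∀ χ : IrrCharacter G, χ ∈ principalBlock M G →
    IsIrrCharacter N (fun n : N => (χ : G → ℂ) n)) ∧
  ∀ θ : IrrCharacter N, θ ∈ principalBlock M N →
    (∃ χ : IrrCharacter G, χ ∈ principalBlock M G ∧
      ∀ n : N, (χ : G → ℂ) n = (θ : N → ℂ) n) ∧
    (∀ χ χ' : IrrCharacter G, χ ∈ principalBlock M G → χ' ∈ principalBlock M G →
      (∀ n : N, (χ : G → ℂ) n = (θ : N → ℂ) n) →
      (∀ n : N, (χ' : G → ℂ) n = (θ : N → ℂ) n) → χ = χ')

/-- The ambient form of the existence and uniqueness parts. -/
def ADConclAmb (M : Ideal AlgInt) {G : Type*} [Group G] (N S : Subgroup G) (hNS : N ≤ S) : Prop :=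
  ∀ θ : IrrCharacter N, θ ∈ principalBlock M N →
    (∃ η : IrrCharacter S, η ∈ principalBlock M S ∧
      ∀ n : N, (η : S → ℂ) ⟨(n : G), hNS n.2⟩ = (θ : N → ℂ) n) ∧
    (∀ η η' : IrrCharacter S, η ∈ principalBlock M S → η' ∈ principalBlock M S →
      (∀ n : N, (η : S → ℂ) ⟨(n : G), hNS n.2⟩ = (θ : N → ℂ) n) →
      (∀ n : N, (η' : S → ℂ) ⟨(n : G), hNS n.2⟩ = (θ : N → ℂ) n) → η = η')

end Cfsg.Agent.Lib.Helper78_ADDefs
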