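import Mathlib
import Cfsg.Agent.Lib.Helper78_ADDefs

/-!
helper35: package AD-SUB of helper78's S4551 market (the Alperin--Dade hypothesis passes to
`(S, N.subgroupOf S)` for `N ≤ S`).
-/

set_option autoImplicit false

namespace Cfsg.Agent.Lib.Helper35_AD_SUB

open Cfsg Cfsg.Agent.Lib.Helper78_ADDefs

universe u

variable {p : ℕ}

theorem hyp_subgroupOf {G : Type u} [Group G] [Finite G] (N S : Subgroup G) (hNS : N ≤ S)
    (h : ADHyp p G N) : ADHyp p S (N.subgroupOf S) := by
  obtain ⟨P, hP, hPN, hPi, hfac⟩ := h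
  refine ⟨P.subgroupOf S, hP.comap_subtype, ?_, ?_, ?_⟩
  · intro x hx
    exact hPN hx
  · intro hdvd
    apply hPi
    have hmul := Subgroup.relIndex_mul_index (hPN.trans hNS)
    have : (P.subgroupOf S).index = P.relIndex S := rfl
    rw [this] at hdvd
    rw [← hmul]
    exact Dvd.dvd.mul_right hdvd _
  · intro s
    obtain ⟨n, hn, c, hc, hs⟩ := hfac (s : G)
    have hcS : c ∈ S := by
      have : c = n⁻¹ * (s : G) := by rw [hs]; group
      rw [this]
      exact S.mul_mem (S.inv_mem (hNS hn)) s.2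
    refine ⟨⟨n, hNS hn⟩, hn, ⟨c, hcS⟩, ?_, ?_⟩
    · rw [Subgroup.mem_centralizer_iff]
      intro x hx
      have hx' : (x : G) ∈ P := hx
      have := (Subgroup.mem_centralizer_iff.mp hc) (x : G) hx'
      ext
      exact this
    · ext
      exact hs

end Cfsg.Agent.Lib.Helper35_AD_SUB
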