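import Mathlib

/-!
helper35: package AD-SYL of helper78's S4551 market (preimage of a Sylow subgroup of a non-solvable
quotient is a proper subgroup of index prime to `q`).
-/

set_option autoImplicit false

namespace Cfsg.Agent.Lib.Helper35_AD_SYL

universe u

theorem exists_sylow_preimage {G : Type u} [Group G] [Finite G] (N : Subgroup G) [hN : N.Normal]
    (hns : ¬ Group.IsSolvable (G ⧸ N)) (q : ℕ) (hq : q.Prime) :
    ∃ S : Subgroup G, N ≤ S ∧ Nat.Coprime S.index q ∧ (N.subgroupOf S).index < N.index := by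
  have : Fact q.Prime := ⟨hq⟩
  obtain ⟨Q⟩ : Nonempty (Sylow q (G ⧸ N)) := inferInstance
  have hsurj : Function.Surjective (QuotientGroup.mk' N) := QuotientGroup.mk'_surjective N
  refine ⟨(Q : Subgroup (G ⧸ N)).comap (QuotientGroup.mk' N), ?_, ?_, ?_⟩
  · have h := MonoidHom.ker_le_comap (QuotientGroup.mk' N) (Q : Subgroup (G ⧸ N))
    rwa [QuotientGroup.ker_mk'] at h
  · rw [Subgroup.index_comap_of_surjective _ hsurj]
    exact ((Nat.Prime.coprime_iff_not_dvd hq).mpr Q.not_dvd_index).symm
  · have hNS : N ≤ (Q : Subgroup (G ⧸ N)).comap (QuotientGroup.mk' N) := by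
      have h := MonoidHom.ker_le_comap (QuotientGroup.mk' N) (Q : Subgroup (G ⧸ N))
      rwa [QuotientGroup.ker_mk'] at h
    have hmul := Subgroup.relIndex_mul_index hNS
    have hne : ((Q : Subgroup (G ⧸ N)).comap (QuotientGroup.mk' N)).index ≠ 1 := by
      rw [Subgroup.index_comap_of_surjective _ hsurj]
      intro h1
      apply hns
      have htop : (Q : Subgroup (G ⧸ N)) = ⊤ := Subgroup.index_eq_one.mp h1
      have hpg : IsPGroup q (G ⧸ N) := by
        intro x
        obtain ⟨k, hk⟩ := Q.isPGroup' ⟨x, htop ▸ Subgroup.mem_top x⟩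
        exact ⟨k, by simpa using congrArg Subtype.val hk⟩
      have : Group.IsNilpotent (G ⧸ N) := hpg.isNilpotent
      infer_instance
    have hne0 : ((Q : Subgroup (G ⧸ N)).comap (QuotientGroup.mk' N)).index ≠ 0 :=
      Subgroup.index_ne_zero_of_finite
    have hN0 : N.index ≠ 0 := Subgroup.index_ne_zero_of_finite
    show N.relIndex _ < N.index
    have h2 : 2 ≤ ((Q : Subgroup (G ⧸ N)).comap (QuotientGroup.mk' N)).index := by omega
    have hpos : 0 < N.relIndex ((Q : Subgroup (G ⧸ N)).comap (QuotientGroup.mk' N)) := by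
      rcases Nat.eq_zero_or_pos
        (N.relIndex ((Q : Subgroup (G ⧸ N)).comap (QuotientGroup.mk' N))) with h0 | h0
      · rw [h0, zero_mul] at hmul
        exact absurd hmul.symm hN0
      · exact h0
    nlinarith

end Cfsg.Agent.Lib.Helper35_AD_SYL
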