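import Mathlib

/-!
# A kernel-friendly conjunction over an initial segment, cut into parts (helper35)

The kernel keeps what it computed until the end of a theorem, so a long conjunction is proved in
parts (`allAnd_split`).
-/

set_option autoImplicit false

namespace Cfsg.Agent.Lib.Helper35_AllFold

/-- a kernel-friendly conjunction over `0, …, n - 1` -/
def allAnd (f : ℕ → Bool) (n : ℕ) : Bool :=
  Nat.rec (motive := fun _ => Bool) true (fun k acc => f k && acc) n

theorem allAnd_succ (f : ℕ → Bool) (n : ℕ) : allAnd f (n + 1) = (f n && allAnd f n) := rfl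

theorem allAnd_eq_true (f : ℕ → Bool) (n : ℕ) :
    allAnd f n = true ↔ ∀ k < n, f k = true := by
  induction n with
  | zero => simp [allAnd]
  | succ n ih =>
    rw [allAnd_succ, Bool.and_eq_true, ih]
    constructor
    · rintro ⟨h1, h2⟩ k hk
      rcases Nat.lt_succ_iff_lt_or_eq.mp hk with h | h
      · exact h2 k h
      · rw [h]; exact h1
    · intro h
      exact ⟨h n (Nat.lt_succ_self n), fun k hk => h k (Nat.lt_succ_of_lt hk)⟩

theorem allAnd_split (f : ℕ → Bool) (m c : ℕ)
    (h : ∀ i < m, allAnd (fun k => f (i * c + k)) c = true) : allAnd f (m * c) = true := by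
  rw [allAnd_eq_true]
  intro k hk
  have hc : 0 < c := by
    rcases Nat.eq_zero_or_pos c with h0 | h0
    · rw [h0, Nat.mul_zero] at hk
      exact absurd hk (Nat.not_lt_zero k)
    · exact h0
  have hi : k / c < m := by
    rw [Nat.div_lt_iff_lt_mul hc]
    exact hk
  have h1 := (allAnd_eq_true _ _).mp (h (k / c) hi) (k % c) (Nat.mod_lt _ hc)
  have e : k / c * c + k % c = k := by
    rw [Nat.mul_comm]
    exact Nat.div_add_mod k c
  rw [e] at h1
  exact h1

end Cfsg.Agent.Lib.Helper35_AllFold
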