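import Mathlib
import Cfsg.Agent.S1403
import Cfsg.Agent.S1411
import Cfsg.Agent.S1414
import Cfsg.Agent.S1415
import Cfsg.Agent.S1416
import Cfsg.Agent.S1417
import Cfsg.Agent.S1418
import Cfsg.Agent.S1444
import Cfsg.Agent.Lib.Helper47_BG1214a
import Cfsg.Agent.Lib.Helper47_BG1214b
import Cfsg.Agent.Lib.Helper76_BG13c
import Cfsg.Agent.Lib.Helper39_BG134
import Cfsg.Agent.Lib.Helper73_BG12c

set_option autoImplicit false
open Cfsg

/-!
# Bender–Glauberman 13.1(c) for the last case of Theorem 13.4 (helper35)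

Tools: `sylow_le_commutator` (a Sylow `p`-subgroup of `H`, `p ∈ σ(H) ∖ β(H)`, lies in the derived group of
every subgroup `J ∋ P̂` of `H` covering `H / H_σ`), `mem_tau1_or_beta` (Corollary 12.10(d2)).
-/

namespace Cfsg.Agent.Lib.Helper35_BG131c

open Subgroup Cfsg.Agent.Lib.Helper22_BGTrans Cfsg.Agent.Lib.Helper22_Radical
  Cfsg.Agent.Lib.Helper84_RelSylow Cfsg.Agent.Lib.Helper49_Sigma Cfsg.Agent.Lib.Helper24_CoprimeHall
  Cfsg.Agent.Lib.Helper70_BG106 Cfsg.Agent.Lib.Helper47_BG1214a Cfsg.Agent.Lib.Helper76_BG13a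
  Cfsg.Agent.Lib.Helper76_BG13b Cfsg.Agent.Lib.Helper73_BG12c

universe u

variable {G : Type u} [Group G] [Finite G]

theorem uniqHyp' (hG : IsMinSimpleOddOrder G) : UniqHyp G :=
  fun K hK h1 h3 => Cfsg.Agent.S1403.result hG K hK h1 h3

theorem h1444' : H1444.{u} := fun X _ _ _ hodd H R R₀ _ hHall hR hR₀ hR₀p hZ q _ =>
  Cfsg.Agent.S1444.result hodd H R R₀ hHall hR hR₀ hR₀p hZ q

/-- a Sylow `p`-subgroup `T` of `G` lies in the derived group of its normalizer (from S1411) -/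
theorem le_commutator_normalizer (hG : IsMinSimpleOddOrder G) {p : ℕ} [Fact p.Prime] {T : Subgroup G}
    (hT : IsSylowIn p T ⊤) :
    T ≤ ⁅normalizer (T : Set G), normalizer (T : Set G)⁆ := by
  have hpp : p.Prime := Fact.out
  have hTp : IsPGroup p T := hT.isPGroup
  have hidx : ¬ p ∣ T.index := by
    have := hT.not_dvd
    rwa [Subgroup.relIndex_top_right] at this
  set S : Sylow p G := IsPGroup.toSylow hTp hidx with hS
  have hST : (S : Subgroup G) = T := IsPGroup.toSylow_coe hTp hidx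
  have hTn : (T.subgroupOf (normalizer (T : Set G))).Normal := Subgroup.normal_in_normalizer
  have hcop : (Nat.card ↥(T.subgroupOf (normalizer (T : Set G)))).Coprime
      (T.subgroupOf (normalizer (T : Set G))).index := by
    have hSN : IsSylowIn p T (normalizer (T : Set G)) := hT.mono le_normalizer le_top
    obtain ⟨k', hk'⟩ := IsPGroup.iff_card.mp
      (hTp.comap_of_injective (normalizer (T : Set G)).subtype (normalizer (T : Set G)).subtype_injective)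
    have hk'' : Nat.card ↥(T.subgroupOf (normalizer (T : Set G))) = p ^ k' := hk'
    rw [hk'']
    apply Nat.Coprime.pow_left
    rw [Nat.Prime.coprime_iff_not_dvd hpp]
    exact hSN.2.2
  obtain ⟨V₀, hV₀⟩ := Subgroup.exists_right_complement'_of_coprime hcop
  have hV : IsComplIn T (V₀.map (normalizer (T : Set G)).subtype) (normalizer (T : Set G)) := by
    refine ⟨le_normalizer, Subgroup.map_subtype_le _, ?_, ?_⟩
    · rw [eq_bot_iff]
      rintro x ⟨hxT, ⟨y, hy, rfl⟩⟩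
      have h1 : y ∈ T.subgroupOf (normalizer (T : Set G)) ⊓ V₀ :=
        Subgroup.mem_inf.mpr ⟨Subgroup.mem_subgroupOf.mpr hxT, hy⟩
      rw [hV₀.disjoint.eq_bot, Subgroup.mem_bot] at h1
      rw [h1]
      exact Subgroup.mem_bot.mpr rfl
    · intro m hm
      obtain ⟨⟨⟨a, ha⟩, ⟨b, hb⟩⟩, hab, -⟩ := hV₀.existsUnique ⟨m, hm⟩
      refine ⟨a.1, Subgroup.mem_subgroupOf.mp ha, b.1, ⟨b, hb, rfl⟩, ?_⟩
      have := congrArg Subtype.val hab
      simpa using this.symm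
  have := (Cfsg.Agent.S1411.result hG p S (V₀.map (normalizer (T : Set G)).subtype)
    (by rw [hST]; exact hV)).2
  rwa [hST] at this

/-- the normal `p`-complement of `H_σ` for `p ∉ β(H)` (from S1414), as a subgroup of `G` normalized by `H` -/
theorem exists_normal_pcompl (hG : IsMinSimpleOddOrder G) {H : Subgroup G} (hH : IsCoatom H) {p : ℕ}
    [Fact p.Prime] (hpH : p ∣ Nat.card H) (hpβ : p ∉ beta H) :
    ∃ K : Subgroup G, K ≤ sigmaCore H ∧ H ≤ normalizer (K : Set G) ∧ ¬ p ∣ Nat.card K ∧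
      IsPiHallOf {r | r ≠ p} K (sigmaCore H) ∧
      ∀ T : Subgroup G, IsSylowIn p T (sigmaCore H) → Nat.card K * Nat.card T = Nat.card (sigmaCore H) := by
  have hpp : p.Prime := Fact.out
  obtain ⟨-, -, -, -, h5⟩ := Cfsg.Agent.S1414.result hG H hH
  obtain ⟨-, ⟨P', N, hNn, hc⟩, -⟩ := h5 p hpp hpH hpβ
  obtain ⟨K, hK⟩ : ∃ K : Subgroup G, K = N.map (sigmaCore H).subtype := ⟨_, rfl⟩
  obtain ⟨R, hR⟩ : ∃ R : Subgroup G, R = (P' : Subgroup ↥(sigmaCore H)).map (sigmaCore H).subtype :=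
    ⟨_, rfl⟩
  have hXH : sigmaCore H ≤ H := Cfsg.Agent.Lib.Helper23_SigmaHall.sigmaCore_le H
  have hRsyl : IsSylowIn p R (sigmaCore H) := hR ▸ isSylowIn_of_sylow P'
  have hKX : K ≤ sigmaCore H := hK ▸ Subgroup.map_subtype_le _
  have hcardK : Nat.card K = Nat.card N :=
    hK ▸ Subgroup.card_map_of_injective (sigmaCore H).subtype_injective
  have hcardR : Nat.card R = Nat.card (P' : Subgroup ↥(sigmaCore H)) :=
    hR ▸ Subgroup.card_map_of_injective (sigmaCore H).subtype_injective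
  have hmul : Nat.card K * Nat.card R = Nat.card (sigmaCore H) := by
    rw [hcardK, hcardR]; exact hc.card_mul_card
  have hpK : ¬ p ∣ Nat.card K := by
    rw [hcardK, ← hc.index_eq_card]
    exact P'.not_dvd_index
  have hXK : sigmaCore H ≤ normalizer (K : Set G) := by
    have h1 := Subgroup.le_normalizer_map (H := N) (sigmaCore H).subtype
    rw [← hK] at h1
    rw [Subgroup.normalizer_eq_top_iff.mpr hNn, ← MonoidHom.range_eq_map,
      Subgroup.range_subtype] at h1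
    exact h1
  have hKhall : IsPiHallOf {r | r ≠ p} K (sigmaCore H) := by
    refine ⟨hKX, ?_, ?_⟩
    · intro r _ hd
      show r ≠ p
      rintro rfl
      exact hpK hd
    · intro r hr hrp hd
      have h1 := relIndex_mul_card' hKX
      have h2 : K.relIndex (sigmaCore H) = Nat.card R := by
        apply Nat.eq_of_mul_eq_mul_right (Nat.card_pos (α := K))
        rw [h1, ← hmul, mul_comm]
      rw [h2] at hd
      have := primes_of_isPGroup hpp hRsyl.isPGroup r hr hd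
      exact hrp this
  refine ⟨K, hKX, ?_, hpK, hKhall, ?_⟩
  swap
  · intro T hT
    obtain ⟨g, hg, hgT⟩ := hRsyl.exists_conj_le hT.le hT.isPGroup
    have h1 : cj g T ≤ R := by
      rintro _ ⟨x, hx, rfl⟩
      exact hgT x hx
    have h2 : IsSylowIn p (cj g T) (sigmaCore H) := by
      have := hT.conj g
      rwa [show (sigmaCore H).map (MulAut.conj g).toMonoidHom = sigmaCore H from
        cj_self_of_mem hg] at this
    have h3 : R = cj g T := h2.eq_of_le h1 hRsyl.le hRsyl.isPGroup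
    rw [← hmul, h3, card_cj]
  intro h hh
  apply Cfsg.Agent.Lib.Helper22_BGTransUp.mem_normalizer_of_cj_eq
  have hle : cj h K ≤ K := by
    apply le_of_normal_hall hKhall hXK
    · have h1 : cj h K ≤ cj h (sigmaCore H) := cj_mono hKX
      have h2 : cj h (sigmaCore H) = sigmaCore H :=
        cj_eq_of_mem_normalizer (le_normalizer_sigmaCore' H hh)
      rwa [h2] at h1
    · intro r _ hd
      show r ≠ p
      rintro rfl
      rw [card_cj] at hd
      exact hpK hd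
  apply Subgroup.eq_of_le_of_card_ge hle
  rw [card_cj]

/-- **(T')** Let `p ∈ σ(H) ∖ β(H)`, `P̂` a Sylow `p`-subgroup of `H` and `P̂ ≤ J ≤ H` with `H = H_σ J`.
Then `P̂ ≤ J'`. -/
theorem sylow_le_commutator (hG : IsMinSimpleOddOrder G) {H J Phat : Subgroup G} (hH : IsCoatom H)
    {p : ℕ} [Fact p.Prime] (hpσ : p ∈ sigma H) (hpβ : p ∉ beta H) (hS : IsSylowIn p Phat H)
    (hPJ : Phat ≤ J) (hJH : J ≤ H) (hcov : H ≤ sigmaCore H ⊔ J) : Phat ≤ ⁅J, J⁆ := by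
  have hpp : p.Prime := Fact.out
  obtain ⟨S₀, hS₀⟩ := Cfsg.Agent.Lib.Helper49_SigmaDisjoint.exists_sylM hpσ
  have hSM : SylM p H Phat := sylM_of_isSylowIn hS₀ hS
  have hPH' : Phat ≤ ⁅H, H⁆ :=
    (le_commutator_normalizer hG hSM.1).trans (Subgroup.commutator_mono hSM.2.2 hSM.2.2)
  obtain ⟨K, hKX, hHK, hpK, hKhall, hKmul⟩ := exists_normal_pcompl hG hH hpσ.2.1 hpβ
  have hXH : sigmaCore H ≤ H := Cfsg.Agent.Lib.Helper23_SigmaHall.sigmaCore_le H
  have hPp : IsPGroup p Phat := hS.isPGroup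
  have hPX : Phat ≤ sigmaCore H := le_sigmaCore_of_isPGroup' hG hH hpσ hPp hS.le
  -- `H_σ = K P̂`
  have hXKP : sigmaCore H ≤ K ⊔ Phat := by
    have hcop : (Nat.card K).Coprime (Nat.card Phat) := by
      obtain ⟨j, hj⟩ := IsPGroup.iff_card.mp hPp
      rw [hj]
      apply Nat.Coprime.pow_right
      rw [Nat.coprime_comm]
      exact (Nat.Prime.coprime_iff_not_dvd hpp).2 hpK
    have hdisj : K ⊓ Phat = ⊥ := (Subgroup.disjoint_of_coprime_natCard hcop).eq_bot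
    have hPsyl : IsSylowIn p Phat (sigmaCore H) := hS.mono hPX hXH
    have hcardP : Nat.card K * Nat.card Phat = Nat.card (sigmaCore H) := hKmul Phat hPsyl
    have hcompl := isComplIn_of_card hKX hPX hdisj hcardP.ge
    intro m hm
    obtain ⟨a, ha, b, hb, rfl⟩ := hcompl.2.2.2 m hm
    exact mul_mem (le_sup_left (a := K) ha) (le_sup_right (b := Phat) hb)
  have hHKJ : H ≤ K ⊔ J := by
    refine hcov.trans (sup_le (hXKP.trans (sup_le le_sup_left (hPJ.trans le_sup_right))) le_sup_right)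
  have hJK : J ≤ normalizer (K : Set G) := hJH.trans hHK
  have h1 : ⁅H, H⁆ ≤ K ⊔ ⁅J, J⁆ :=
    (Subgroup.commutator_mono hHKJ hHKJ).trans
      (Cfsg.Agent.Lib.Helper39_BG134.commutator_sup_le K J hJK)
  intro x hx
  have hx1 : x ∈ K ⊔ ⁅J, J⁆ := h1 (hPH' hx)
  have hJ'K : ⁅J, J⁆ ≤ normalizer (K : Set G) := (Subgroup.commutator_le_self J).trans hJK
  obtain ⟨k, hk, c, hc, rfl⟩ :=
    Cfsg.Agent.Lib.Helper24_CoprimeAction.exists_mul_of_mem_sup ⁅J, J⁆ K hJ'K hx1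
  have hcJ : c ∈ J := Subgroup.commutator_le_self J hc
  have hkJ : k ∈ J := by
    have : k = (k * c) * c⁻¹ := by group
    rw [this]
    exact mul_mem (hPJ hx) (inv_mem hcJ)
  have hc' : (⟨c, hcJ⟩ : ↥J) ∈ commutator ↥J := by
    rw [← Subgroup.map_subtype_commutator J] at hc
    obtain ⟨c', hc', hcc⟩ := hc
    have : c' = ⟨c, hcJ⟩ := Subtype.ext hcc
    rwa [this] at hc'
  set π := QuotientGroup.mk' (commutator ↥J) with hπ
  have hπc : π ⟨c, hcJ⟩ = 1 := (QuotientGroup.eq_one_iff _).mpr hc'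
  have hπx : π ⟨k * c, hPJ hx⟩ = π ⟨k, hkJ⟩ := by
    have : (⟨k * c, hPJ hx⟩ : ↥J) = ⟨k, hkJ⟩ * ⟨c, hcJ⟩ := rfl
    rw [this, map_mul, hπc, mul_one]
  have h2 : (π ⟨k * c, hPJ hx⟩) ^ Nat.card K = 1 := by
    rw [hπx, ← map_pow]
    have : (⟨k, hkJ⟩ : ↥J) ^ Nat.card K = 1 := by
      apply Subtype.ext
      rw [Subgroup.coe_pow, Subgroup.coe_one]
      have h8 := pow_card_eq_one' (G := ↥K) (x := ⟨k, hk⟩)
      have h9 := congrArg Subtype.val h8
      rw [Subgroup.coe_pow, Subgroup.coe_one] at h9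
      exact h9
    rw [this, map_one]
  obtain ⟨n, hn⟩ := (IsPGroup.iff_orderOf.mp hPp) ⟨k * c, hx⟩
  have h3 : (π ⟨k * c, hPJ hx⟩) ^ (p ^ n) = 1 := by
    rw [← map_pow]
    have : (⟨k * c, hPJ hx⟩ : ↥J) ^ (p ^ n) = 1 := by
      apply Subtype.ext
      rw [Subgroup.coe_pow, Subgroup.coe_one]
      have h4 : orderOf (k * c) = p ^ n := by
        rw [← hn]
        exact (Subgroup.orderOf_mk (k * c) hx).symm
      rw [← h4]
      exact pow_orderOf_eq_one _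
    rw [this, map_one]
  have h5 : orderOf (π ⟨k * c, hPJ hx⟩) ∣ Nat.gcd (Nat.card K) (p ^ n) :=
    Nat.dvd_gcd (orderOf_dvd_of_pow_eq_one h2) (orderOf_dvd_of_pow_eq_one h3)
  have h6 : Nat.gcd (Nat.card K) (p ^ n) = 1 := by
    apply Nat.Coprime.pow_right
    rw [Nat.coprime_comm]
    exact (Nat.Prime.coprime_iff_not_dvd hpp).2 hpK
  rw [h6, Nat.dvd_one, orderOf_eq_one_iff] at h5
  have h7 : (⟨k * c, hPJ hx⟩ : ↥J) ∈ commutator ↥J := (QuotientGroup.eq_one_iff _).mp h5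
  rw [← Subgroup.map_subtype_commutator J]
  exact ⟨_, h7, rfl⟩

/-- **(Y)** if `L = B D` with `D` normalizing `B`, a prime `p ∤ |B|` dividing `|L'|` divides `|D'|` -/
theorem dvd_card_commutator_of_le_sup {L B D : Subgroup G} (hDB : D ≤ normalizer (B : Set G))
    (hL : L ≤ B ⊔ D) {p : ℕ} (hp : p.Prime) (hpB : ¬ p ∣ Nat.card B)
    (hpL : p ∣ Nat.card ↥⁅L, L⁆) : p ∣ Nat.card ↥⁅D, D⁆ := by
  have h1 : ⁅L, L⁆ ≤ B ⊔ ⁅D, D⁆ :=
    (Subgroup.commutator_mono hL hL).trans (Cfsg.Agent.Lib.Helper39_BG134.commutator_sup_le B D hDB)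
  have hD'B : ⁅D, D⁆ ≤ normalizer (B : Set G) := (Subgroup.commutator_le_self D).trans hDB
  have h2 : p ∣ Nat.card ↥(B ⊔ ⁅D, D⁆) := hpL.trans (Subgroup.card_dvd_of_le h1)
  have h3 := Cfsg.Agent.Lib.Helper51_Offender.card_sup_mul_card_inf B ⁅D, D⁆ hD'B
  have h4 : p ∣ Nat.card B * Nat.card ↥⁅D, D⁆ := by
    rw [← h3]
    exact h2.mul_right _
  rcases (Nat.Prime.dvd_mul hp).mp h4 with h5 | h5
  · exact absurd h5 hpB
  · exact h5

/-- the derived group of a conjugate -/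
theorem card_commutator_cj (g : G) (M : Subgroup G) :
    Nat.card ↥⁅cj g M, cj g M⁆ = Nat.card ↥⁅M, M⁆ := by
  have : ⁅cj g M, cj g M⁆ = cj g ⁅M, M⁆ := (Subgroup.map_commutator M M _).symm
  rw [this, card_cj]

/-- **Lemma Z** (helper76): for non-conjugate maximal subgroups `M`, `H` with a common prime
`q ∈ σ(M) ∩ σ(H)`, some conjugate `M₁` of `M` has `H = H_β (M₁ ∩ H)`. -/
theorem le_sup_of_sigma_sigma (hG : IsMinSimpleOddOrder G) {M H : Subgroup G} (hM : IsCoatom M)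
    (hH : IsCoatom H) (hncj : ∀ g : G, H ≠ cj g M) {q : ℕ} [Fact q.Prime] (hqM : q ∈ sigma M)
    (hqH : q ∈ sigma H) : ∃ g : G, H ≤ piCoreOf (beta H) H ⊔ (cj g M ⊓ H) := by
  obtain ⟨Y, hY⟩ := Cfsg.Agent.Lib.Helper49_SigmaDisjoint.exists_sylM hqH
  obtain ⟨Y₀, hY₀⟩ := Cfsg.Agent.Lib.Helper49_SigmaDisjoint.exists_sylM hqM
  obtain ⟨g, hg⟩ := Cfsg.Agent.Lib.Helper49_SigmaDisjoint.exists_cj_eq_of_isSylowIn_top hY₀.1 hY.1
  refine ⟨g, ?_⟩
  have hM1 : IsCoatom (cj g M) := Cfsg.Agent.Lib.Helper22_Uniq.isCoatom_cj hM g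
  have hnc1 : ∀ g' : G, H ≠ cj g' (cj g M) := by
    intro g' h
    rw [← cj_mul] at h
    exact hncj _ h
  have hNY : normalizer (Y : Set G) ≤ cj g M := by
    rw [hg, normalizer_cj]
    exact cj_mono hY₀.2.2
  exact case_sigma hG (uniqHyp' hG) h1444' hM1 hH hnc1 (mem_sigma_cj hqM g) hqH
    (hY.1.mono hY.2.1 le_top) hNY

/-- **Lemma Z1** (helper76): in the situation of Lemma Z, a prime `p ∉ β(H)` dividing `|H'|` divides `|M'|` -/
theorem lemmaZ (hG : IsMinSimpleOddOrder G) {M H : Subgroup G} (hM : IsCoatom M)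
    (hH : IsCoatom H) (hncj : ∀ g : G, H ≠ cj g M) {q : ℕ} [Fact q.Prime] (hqM : q ∈ sigma M)
    (hqH : q ∈ sigma H) {p : ℕ} (hp : p.Prime) (hpβ : p ∉ beta H)
    (hpH' : p ∣ Nat.card ↥⁅H, H⁆) : p ∣ Nat.card ↥⁅M, M⁆ := by
  obtain ⟨g, hg⟩ := le_sup_of_sigma_sigma hG hM hH hncj hqM hqH
  have hDB : cj g M ⊓ H ≤ normalizer ((piCoreOf (beta H) H : Subgroup G) : Set G) :=
    inf_le_right.trans (le_normalizer_piCoreOf _ _)
  have hpB : ¬ p ∣ Nat.card ↥(piCoreOf (beta H) H) := fun hd => hpβ (piCoreOf_primes _ _ p hp hd)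
  have h1 := dvd_card_commutator_of_le_sup hDB hg hp hpB hpH'
  have h2 : p ∣ Nat.card ↥⁅cj g M, cj g M⁆ :=
    h1.trans (Subgroup.card_dvd_of_le (Subgroup.commutator_mono inf_le_left inf_le_left))
  rwa [card_commutator_cj] at h2

/-- for `p ∈ σ(H)` every `p`-subgroup of `H` lies in `H'` (from S1411) -/
theorem le_commutator_of_mem_sigma (hG : IsMinSimpleOddOrder G) {H P : Subgroup G} {p : ℕ}
    [Fact p.Prime] (hpσ : p ∈ sigma H) (hPp : IsPGroup p P) (hPH : P ≤ H) :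
    ∃ P', SylM p H P' ∧ P ≤ P' ∧ P' ≤ ⁅H, H⁆ := by
  obtain ⟨S₀, hS₀⟩ := Cfsg.Agent.Lib.Helper49_SigmaDisjoint.exists_sylM hpσ
  obtain ⟨P', hP', hPP'⟩ := exists_sylM_ge hS₀ hPp hPH
  exact ⟨P', hP', hPP', (le_commutator_normalizer hG hP'.1).trans
    (Subgroup.commutator_mono hP'.2.2 hP'.2.2)⟩

/-- **Step 1** (helper76's argument): for `p ∈ σ(H) ∖ β(H)`, an `s`-subgroup `X ≤ H'` (`s ∉ β(H)`,
`s ≠ p`) centralizing the `p`-subgroup `P` of `H` centralizes a Sylow `p`-subgroup of `H` containing `P`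
(both lie in a nilpotent Hall `β(H)'`-subgroup of `H'`, S1414). -/
theorem exists_sylM_centralized (hG : IsMinSimpleOddOrder G) {H : Subgroup G} (hH : IsCoatom H)
    {p : ℕ} [Fact p.Prime] (hpσ : p ∈ sigma H) (hpβ : p ∉ beta H) {P X : Subgroup G} (hPH : P ≤ H)
    (hPp : IsPGroup p P) {s : ℕ} [Fact s.Prime] (hsp : s ≠ p) (hXs : IsPGroup s X)
    (hsβ : s ∉ beta H) (hXH' : X ≤ ⁅H, H⁆) (hXP : X ≤ centralizer (P : Set G)) :
    ∃ S, SylM p H S ∧ P ≤ S ∧ X ≤ centralizer (S : Set G) := by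
  have hpp : p.Prime := Fact.out
  have hsp' : s.Prime := Fact.out
  obtain ⟨P', hP', hPP', hP'H'⟩ := le_commutator_of_mem_sigma hG hpσ hPp hPH
  have hH'H : ⁅H, H⁆ ≤ H := Subgroup.commutator_le_self H
  -- `W = X P` is a `β(H)'`-subgroup of `H'`
  have hW : X ⊔ P ≤ ⁅H, H⁆ := sup_le hXH' (hPP'.trans hP'H')
  have hPX : P ≤ normalizer (X : Set G) :=
    Cfsg.Agent.Lib.Helper22_BGTransUp.le_normalizer_of_le_centralizer hXP
  have hWpr : ∀ q : ℕ, q.Prime → q ∣ Nat.card ↥(X ⊔ P) → q ∈ {q : ℕ | q.Prime ∧ q ∉ beta H} := by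
    intro q hq hd
    have h3 := Cfsg.Agent.Lib.Helper51_Offender.card_sup_mul_card_inf X P hPX
    have h4 : q ∣ Nat.card X * Nat.card P := by
      rw [← h3]
      exact hd.mul_right _
    rcases (Nat.Prime.dvd_mul hq).mp h4 with h5 | h5
    · rw [prime_eq_of_dvd_card_pgroup hXs hq h5]
      exact ⟨hsp', hsβ⟩
    · rw [prime_eq_of_dvd_card_pgroup hPp hq h5]
      exact ⟨hpp, hpβ⟩
  obtain ⟨-, -, ⟨N, hN, hNnil⟩, -, -⟩ := Cfsg.Agent.S1414.result hG H hH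
  have hN' := (isPiHallOf_iff _ N ⁅H, H⁆).mp hN
  have hsolv : Group.IsSolvable ↥⁅H, H⁆ := isSolvable_of_le hG hH hH'H
  obtain ⟨m, hm, hmW⟩ := exists_cj_le_of_piHall hsolv hN' hW hWpr
  -- the conjugate `N₁` of `N` containing `W`
  obtain ⟨N₁, hN₁⟩ : ∃ N₁ : Subgroup G, N₁ = cj m⁻¹ N := ⟨_, rfl⟩
  have hWN₁ : X ⊔ P ≤ N₁ := by
    have := cj_mono (k := m⁻¹) hmW
    rwa [cj_inv_cj, ← hN₁] at this
  have hN₁nil : Group.IsNilpotent ↥N₁ := hN₁ ▸ isNilpotent_cj hNnil m⁻¹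
  have hN₁H' : N₁ ≤ ⁅H, H⁆ := by
    have := cj_mono (k := m⁻¹) hN.1
    rwa [cj_self_of_mem (inv_mem hm), ← hN₁] at this
  have hcardN₁ : Nat.card N₁ = Nat.card N := hN₁ ▸ card_cj m⁻¹ N
  have hidx : ¬ p ∣ N₁.relIndex ⁅H, H⁆ := by
    rw [relIndex_eq_div hN₁H', hcardN₁]
    exact hN'.2.2 p hpp ⟨hpp, hpβ⟩
  have := hN₁nil
  obtain ⟨S_N⟩ : Nonempty (Sylow p ↥N₁) := inferInstance
  obtain ⟨S, hS⟩ : ∃ S : Subgroup G, S = (S_N : Subgroup ↥N₁).map N₁.subtype := ⟨_, rfl⟩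
  have hSN₁ : IsSylowIn p S N₁ := hS ▸ isSylowIn_of_sylow S_N
  have hSH' : IsSylowIn p S ⁅H, H⁆ := by
    refine ⟨hSN₁.1.trans hN₁H', hSN₁.2.1, ?_⟩
    rw [← Subgroup.relIndex_mul_relIndex S N₁ ⁅H, H⁆ hSN₁.1 hN₁H']
    intro hd
    rcases (Nat.Prime.dvd_mul hpp).mp hd with h5 | h5
    · exact hSN₁.2.2 h5
    · exact hidx h5
  -- `S` is a Sylow subgroup of `G` of the good kind
  have hSM : SylM p H S := by
    obtain ⟨g, hg, hgP⟩ := hSH'.exists_conj_le hP'H' hP'.1.isPGroup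
    have h1 : cj g P' ≤ S := by
      rintro _ ⟨x, hx, rfl⟩
      exact hgP x hx
    have h2 : SylM p H (cj g P') := sylM_cj hP' (hH'H hg)
    have h3 : S = cj g P' := h2.1.eq_of_le h1 le_top hSN₁.2.1
    rw [h3]
    exact h2
  refine ⟨S, hSM, ?_, ?_⟩
  · intro a ha
    have haN : a ∈ N₁ := hWN₁ (mem_sup_right ha)
    obtain ⟨k, hk⟩ := (IsPGroup.iff_orderOf.mp hPp) ⟨a, ha⟩
    have hak : (⟨a, haN⟩ : ↥N₁) ^ p ^ k = 1 := by
      apply Subtype.ext
      rw [Subgroup.coe_pow, Subgroup.coe_one]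
      have h4 : orderOf a = p ^ k := by
        rw [← hk]
        exact (Subgroup.orderOf_mk a ha).symm
      rw [← h4]
      exact pow_orderOf_eq_one _
    have := Cfsg.Agent.Lib.Helper35_PGroupAut.mem_sylow_of_isNilpotent S_N hak
    rw [hS]
    exact ⟨⟨a, haN⟩, this, rfl⟩
  · intro x hx
    rw [Subgroup.mem_centralizer_iff]
    intro y hy
    rw [hS] at hy
    obtain ⟨y', hy', rfl⟩ := hy
    have hxN : x ∈ N₁ := hWN₁ (mem_sup_left hx)
    have hXs' : IsPGroup s (X.subgroupOf N₁) :=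
      hXs.comap_of_injective N₁.subtype N₁.subtype_injective
    have hx' : (⟨x, hxN⟩ : ↥N₁) ∈ X.subgroupOf N₁ := Subgroup.mem_subgroupOf.mpr hx
    have := Cfsg.Agent.Lib.Helper1_Thompson.commute_of_isNilpotent (G := ↥N₁) (Ne.symm hsp)
      S_N.2 hXs' hy' hx'
    exact congrArg Subtype.val this

theorem centHyp' (hG : IsMinSimpleOddOrder G) : Cfsg.Agent.Lib.Helper73_BG12.CentHyp G :=
  fun M hM p _ A hAM hAe hA2 => (Cfsg.Agent.S1416.result hG M hM p A ⟨hAM, hAe, hA2⟩).1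

theorem hyp1417' (hG : IsMinSimpleOddOrder G) : Cfsg.Agent.Lib.Helper79_BG141.Hyp1417 G :=
  fun M hM p _ hp A hA => Cfsg.Agent.S1417.result hG M hM p hp A hA

theorem hyp1418a' (hG : IsMinSimpleOddOrder G) : Cfsg.Agent.Lib.Helper76_BG13c.Hyp1418a G :=
  fun M hM E hE p _ hp A hAE hAe hA2 =>
    (Cfsg.Agent.S1418.result hG M hM E hE p hp A ⟨hAE, hAe, hA2⟩).1.1

theorem tau2Hyp' (hG : IsMinSimpleOddOrder G) : Cfsg.Agent.Lib.Helper47_BG1214b.Tau2Hyp G :=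
  fun M hM p _ hp A hAM hAe hA2 => by
    obtain ⟨h1, h2, h3, h4, h5, -⟩ := Cfsg.Agent.S1417.result hG M hM p hp A ⟨hAM, hAe, hA2⟩
    exact ⟨h1, fun P => (h2 P).1, h3, h4, h5⟩

/-- a complement `E` of `H_σ` in `H` normalizes every `τ₃(H)`-subgroup `X` of prime power order of `E`
(S1415: the Hall `τ₃(H)`-subgroup of `E` is cyclic and normal in `E`) -/
theorem le_normalizer_of_tau3 (hG : IsMinSimpleOddOrder G) {H E X : Subgroup G} (hH : IsCoatom H)
    (hE : IsComplIn E (sigmaCore H) H) {s : ℕ} [Fact s.Prime] (hs : s ∈ tau3 H) (hXE : X ≤ E)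
    (hXs : IsPGroup s X) : E ≤ normalizer (X : Set G) := by
  have hsolv : Group.IsSolvable ↥E := isSolvable_of_le hG hH hE.1
  obtain ⟨E₃, hE₃, hXE₃⟩ := exists_piHall_ge (π := tau3 H) hsolv hXE (by
    intro q hq hd
    rw [prime_eq_of_dvd_card_pgroup hXs hq hd]
    exact hs)
  obtain ⟨-, -, h3⟩ := Cfsg.Agent.S1415.result hG H hH E hE
  obtain ⟨hcyc, -, hEn⟩ := h3 E₃ ((isPiHallOf_iff _ _ _).mpr hE₃)
  exact hEn.trans (Cfsg.Agent.Lib.Helper73_BG12.normalizer_le_normalizer_of_isCyclic hcyc hXE₃)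

/-- **the `τ₂(H)` case is impossible** (helper76): `X ≤ M_σ ∩ H` of prime order `s` centralizing a nontrivial
`p`-subgroup `P ≤ M ∩ H`, `p ∈ σ(H)`, forces `s ∉ τ₂(H)`. -/
theorem not_mem_tau2 (hG : IsMinSimpleOddOrder G) {M H P X : Subgroup G} (hM : IsCoatom M)
    (hH : IsCoatom H) (hHM : H ≠ M) {p : ℕ} [Fact p.Prime] (hpH : p ∈ sigma H) (hPH : P ≤ H)
    (hPM : P ≤ M) (hPp : IsPGroup p P) (hP1 : P ≠ ⊥) {s : ℕ} [Fact s.Prime] (hsM : s ∈ sigma M)
    (hXM : X ≤ M) (hXH : X ≤ H) (hX : Nat.card X = s) (hXP : X ≤ centralizer (P : Set G)) :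
    s ∉ tau2 H := by
  intro hs
  have hsp : s.Prime := Fact.out
  have hX1 : X ≠ ⊥ := ne_bot_of_card_prime hsp hX
  have hXs : IsPGroup s X := IsPGroup.of_card (n := 1) (by rw [hX, pow_one])
  have hsolv : Group.IsSolvable ↥H := isSolvable_of_isCoatom hG hH
  obtain ⟨E, hE, hXE⟩ := exists_compl_ge hsolv (sigma_hall hG hH) hXH (by
    intro q hq hd
    rw [prime_eq_of_dvd_card_pgroup hXs hq hd]
    exact hs.2.1)
  obtain ⟨A, hAE, hAe, hA2⟩ := Cfsg.Agent.Lib.Helper76_BG13c.exists_elemAb_le_compl hG hH hE hs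
  obtain ⟨⟨-, h1⟩, -, h3⟩ := Cfsg.Agent.S1418.result hG H hH E hE s hs A ⟨hAE, hAe, hA2⟩
  have hXA : X ≤ A := h1 X hXE hX
  have hPσ : P ≤ sigmaCore H := le_sigmaCore_of_isPGroup' hG hH hpH hPp hPH
  have hPX : P ≤ centralizer (X : Set G) := by
    intro a ha
    rw [Subgroup.mem_centralizer_iff]
    intro x hx
    exact ((Subgroup.mem_centralizer_iff.mp (hXP hx)) a ha).symm
  have hne : sigmaCore H ⊓ centralizer (X : Set G) ≠ ⊥ := by
    intro h
    apply hP1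
    rw [eq_bot_iff, ← h]
    exact le_inf hPσ hPX
  obtain ⟨hCH, hCuniq⟩ := h3 X hXA hX hne
  -- `N_G(X) ≤ H`
  have hXtop : X ≠ ⊤ := by
    rintro rfl
    exact hH.1 (top_le_iff.mp hXH)
  obtain ⟨L, hL, hNL⟩ := (eq_top_or_exists_le_coatom _).resolve_left (normalizer_ne_top hG hX1 hXtop)
  have hLH : L = H := hCuniq L hL ((Subgroup.centralizer_le_normalizer (X : Set G)).trans hNL)
  rw [hLH] at hNL
  obtain ⟨S, hXS, hS⟩ := exists_isSylowIn_ge (p := s) (K := X) (H := M ⊓ H) (le_inf hXM hXH) hXs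
  obtain ⟨-, -, hidx⟩ := Cfsg.Agent.Lib.Helper73_BG12.sigma_other_maximal hG (uniqHyp' hG)
    (centHyp' hG) hM hsM hX1 hHM hNL hS hXS
  have hSH : IsSylowIn s S H := ⟨hS.1.trans inf_le_right, hS.2.1, hidx⟩
  have h4 := (Cfsg.Agent.Lib.Helper76_BG13c.cj_le_of_tau2_other hG (centHyp' hG) (hyp1417' hG)
    (hyp1418a' hG) hM hH hHM hsM hs hSH (hS.1.trans inf_le_left)).1
  apply hP1
  rw [eq_bot_iff, ← h4]
  exact le_inf hPσ hPM

/-- if `H` contains a Sylow `p`-subgroup of `G` and `p ∉ β(H)`, then `p` is not an ideal prime of `G` -/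
theorem not_isIdealPrime_of_not_mem_beta {H S : Subgroup G} {p : ℕ} [Fact p.Prime]
    (hS : SylM p H S) (hpβ : p ∉ beta H) : ¬ IsIdealPrime p G := by
  intro hI
  apply hpβ
  refine ⟨⟨Fact.out, ?_⟩, hI⟩
  intro hr
  apply hI.2.1
  obtain ⟨S', hS'⟩ := Cfsg.Agent.Lib.Helper49_Alpha.exists_sylow_eq_of_isSylowIn_top hS.1
  apply Cfsg.Agent.Lib.Helper2_NarrowSolv.pRankLE_of_sylow' S'
  rw [hS']
  exact Cfsg.Agent.Lib.Helper2_PRank.pRankLE_of_injective' p 2 (Subgroup.inclusion hS.2.1)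
    (Subgroup.inclusion_injective hS.2.1) hr

/-- **Bender–Glauberman 13.1(c) in the last case of Theorem 13.4.**  Let `p ∈ τ₁(M)`, `P ≤ E` of order `p`
(`E` a complement of `M_σ` in `M`), `R ≤ C_E(P)` not centralizing `C_{M_σ}(P)`, and `H` a maximal subgroup
over `N_G(P)`, not conjugate to `M`, with `p ∈ σ(H)`.  Then `p ∈ β(H)`. -/
theorem mem_beta_of_not_le_centralizer (hG : IsMinSimpleOddOrder G) {M E P R H : Subgroup G} {p : ℕ}
    [Fact p.Prime] (hM : IsCoatom M) (hE : IsComplIn E (sigmaCore M) M) (hp : p ∈ tau1 M)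
    (hPE : P ≤ E) (hP : Nat.card P = p) (hRE : R ≤ E) (hRP : R ≤ centralizer (P : Set G))
    (hnc : ¬ (sigmaCore M ⊓ centralizer (P : Set G) ≤ centralizer (R : Set G)))
    (hH : IsCoatom H) (hNP : normalizer (P : Set G) ≤ H) (hpH : p ∈ sigma H)
    (hncj : ∀ g : G, H ≠ cj g M) : p ∈ beta H := by
  by_contra hpβ
  have hpp : p.Prime := Fact.out
  have hU := uniqHyp' hG
  have hpM' : ¬ p ∣ Nat.card ↥⁅M, M⁆ := hp.2.2.2.1
  have hP1 : P ≠ ⊥ := ne_bot_of_card_prime hpp hP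
  have hPp : IsPGroup p P := IsPGroup.of_card (n := 1) (by rw [hP, pow_one])
  have hPM : P ≤ M := hPE.trans hE.1
  have hRM : R ≤ M := hRE.trans hE.1
  have hCP : centralizer (P : Set G) ≤ H := (Subgroup.centralizer_le_normalizer (P : Set G)).trans hNP
  have hPH : P ≤ H := le_normalizer.trans hNP
  have hRH : R ≤ H := hRP.trans hCP
  have hHM : H ≠ M := fun h => hncj 1 (by rw [cj_one']; exact h)
  -- `C = C_{M_σ}(P)` and `T₀ = [C, R]`
  obtain ⟨C, hC⟩ : ∃ C : Subgroup G, C = sigmaCore M ⊓ centralizer (P : Set G) := ⟨_, rfl⟩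
  have hCH : C ≤ H := hC ▸ inf_le_right.trans hCP
  have hRC : R ≤ normalizer (C : Set G) := by
    rw [hC]
    exact le_normalizer_inf' (hRM.trans (le_normalizer_sigmaCore' M)) (hRP.trans le_normalizer)
  have hT₀C : ⁅C, R⁆ ≤ C := by
    rw [Subgroup.commutator_le]
    intro c hc r hr
    have h1 : r * c⁻¹ * r⁻¹ ∈ C := conj_mem_of_mem_normalizer (hRC hr) (inv_mem hc)
    show c * r * c⁻¹ * r⁻¹ ∈ C
    have h2 : c * r * c⁻¹ * r⁻¹ = c * (r * c⁻¹ * r⁻¹) := by group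
    rw [h2]
    exact mul_mem hc h1
  have hT₀1 : ⁅C, R⁆ ≠ ⊥ := by
    intro h
    apply hnc
    rw [← hC]
    exact Subgroup.commutator_eq_bot_iff_le_centralizer.mp h
  have hT₀H' : ⁅C, R⁆ ≤ ⁅H, H⁆ := Subgroup.commutator_mono hCH hRH
  -- `X ≤ T₀` of prime order `s`
  obtain ⟨z, hz1⟩ := (Subgroup.ne_bot_iff_exists_ne_one).mp hT₀1
  have hz1' : (z : G) ≠ 1 := fun h => hz1 (Subtype.ext h)
  obtain ⟨s, hsp, w, hw, hws⟩ := Cfsg.Agent.Lib.Helper76_BG13c.exists_prime_order_mem_zpowers hz1'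
  have : Fact s.Prime := ⟨hsp⟩
  obtain ⟨X, hXdef⟩ : ∃ X : Subgroup G, X = zpowers w := ⟨_, rfl⟩
  have hX : Nat.card X = s := by rw [hXdef, Nat.card_zpowers, hws]
  have hXT₀ : X ≤ ⁅C, R⁆ := by
    rw [hXdef, Subgroup.zpowers_le]
    exact (Subgroup.zpowers_le.mpr z.2) hw
  have hXC : X ≤ C := hXT₀.trans hT₀C
  have hXσ : X ≤ sigmaCore M := hXC.trans (hC ▸ inf_le_left)
  have hXP : X ≤ centralizer (P : Set G) := hXC.trans (hC ▸ inf_le_right)
  have hXM : X ≤ M := hXσ.trans (Cfsg.Agent.Lib.Helper23_SigmaHall.sigmaCore_le M)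
  have hXH : X ≤ H := hXC.trans hCH
  have hXH' : X ≤ ⁅H, H⁆ := hXT₀.trans hT₀H'
  have hX1 : X ≠ ⊥ := ne_bot_of_card_prime hsp hX
  have hXs : IsPGroup s X := IsPGroup.of_card (n := 1) (by rw [hX, pow_one])
  have hsM : s ∈ sigma M := mem_sigma_of_dvd_card_le_sigmaCore hXσ hsp (by rw [hX])
  have hsne : s ≠ p := fun h => hp.2.1 (h ▸ hsM)
  -- `p ∣ |H'|`
  obtain ⟨P', hP', hPP', hP'H'⟩ := le_commutator_of_mem_sigma hG hpH hPp hPH
  have hpP : p ∣ Nat.card P := by rw [hP]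
  have hpH' : p ∣ Nat.card ↥⁅H, H⁆ := hpP.trans (Subgroup.card_dvd_of_le (hPP'.trans hP'H'))
  -- `s ∈ τ₃(H)`
  have hsσH : s ∉ sigma H := fun h => hpM' (lemmaZ hG hM hH hncj hsM h hpp hpβ hpH')
  have hsτ2 : s ∉ tau2 H := not_mem_tau2 hG hM hH hHM hpH hPH hPM hPp hP1 hsM hXM hXH hX hXP
  have hsH' : s ∣ Nat.card ↥⁅H, H⁆ := by
    have := Subgroup.card_dvd_of_le hXH'
    rwa [hX] at this
  have hsτ3 : s ∈ tau3 H := by
    refine ⟨hsp, hsσH, hsH', ?_⟩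
    by_contra h1
    by_cases h2 : PRankLE s 2 ↥H
    · exact hsτ2 ⟨hsp, hsσH, h2, h1⟩
    · exact hsσH (Cfsg.Agent.Lib.Helper49_Alpha.mem_sigma_of_mem_alpha hG hU hH ⟨hsp, h2⟩)
  have hsβ : s ∉ beta H := fun h => hsσH (beta_subset_sigma hG hU hH h)
  -- Step 1: a Sylow `p`-subgroup `S ≥ P` of `H` centralized by `X`
  obtain ⟨S, hSM, hPS, hXS⟩ :=
    exists_sylM_centralized hG hH hpH hpβ hPH hPp hsne hXs hsβ hXH' hXP
  -- a complement `E_H ≥ X` of `H_σ`; it normalizes `X`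
  have hsolvH : Group.IsSolvable ↥H := isSolvable_of_isCoatom hG hH
  obtain ⟨EH, hEH, hXEH⟩ := exists_compl_ge hsolvH (sigma_hall hG hH) hXH (by
    intro q hq hd
    rw [prime_eq_of_dvd_card_pgroup hXs hq hd]
    exact hsσH)
  have hEN : EH ≤ normalizer (X : Set G) := le_normalizer_of_tau3 hG hH hEH hsτ3 hXEH hXs
  -- `L` maximal over `N_G(X)`
  have hXtop : X ≠ ⊤ := by
    rintro rfl
    exact hH.1 (top_le_iff.mp hXH)
  obtain ⟨L, hL, hNL⟩ := (eq_top_or_exists_le_coatom _).resolve_left (normalizer_ne_top hG hX1 hXtop)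
  have hSX : S ≤ centralizer (X : Set G) := by
    intro a ha
    rw [Subgroup.mem_centralizer_iff]
    intro x hx
    exact ((Subgroup.mem_centralizer_iff.mp (hXS hx)) a ha).symm
  have hSL : S ≤ L := (hSX.trans (Subgroup.centralizer_le_normalizer (X : Set G))).trans hNL
  have hEL : EH ≤ L := hEN.trans hNL
  have hXL : X ≤ L := le_normalizer.trans hNL
  have hPL : P ≤ L := hPS.trans hSL
  have hJH : S ⊔ EH ≤ H := sup_le hSM.2.1 hEH.1
  have hJL : S ⊔ EH ≤ L := sup_le hSL hEL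
  have hcov : H ≤ sigmaCore H ⊔ (S ⊔ EH) := by
    intro m hm
    obtain ⟨a, ha, b, hb, rfl⟩ := hEH.2.2.2 m hm
    exact mul_mem (mem_sup_right (mem_sup_right ha)) (mem_sup_left hb)
  have hSJ' : S ≤ ⁅S ⊔ EH, S ⊔ EH⁆ :=
    sylow_le_commutator hG hH hpH hpβ (hSM.1.mono hSM.2.1 le_top) le_sup_left hJH hcov
  have hpL' : p ∣ Nat.card ↥⁅L, L⁆ :=
    hpP.trans (Subgroup.card_dvd_of_le (hPS.trans (hSJ'.trans (Subgroup.commutator_mono hJL hJL))))
  by_cases hLM : L = M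
  · rw [hLM] at hpL'
    exact hpM' hpL'
  obtain ⟨Ss, hXSs, hSs⟩ := exists_isSylowIn_ge (p := s) (K := X) (H := M ⊓ L) (le_inf hXM hXL) hXs
  obtain ⟨hncL, hNSs, hidx⟩ := Cfsg.Agent.Lib.Helper73_BG12.sigma_other_maximal hG hU
    (centHyp' hG) hM hsM hX1 hLM hNL hSs hXSs
  have hSsL : IsSylowIn s Ss L := ⟨hSs.1.trans inf_le_right, hSs.2.1, hidx⟩
  have hSsM : Ss ≤ M := hSs.1.trans inf_le_left
  rcases mem_sigma_or_tau2 hG hL hXs hX1 hNL with hsL | hsL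
  · have hni : ¬ IsIdealPrime p G := not_isIdealPrime_of_not_mem_beta hSM hpβ
    exact hpM' (lemmaZ hG hM hL hncL hsM hsL hpp (fun h => hni h.2) hpL')
  · obtain ⟨-, -, Es, hEsle, -, -, hLcov⟩ := Cfsg.Agent.Lib.Helper47_BG1214b.case_tau2 hG hU h1444'
      (centHyp' hG) (tau2Hyp' hG) hM hL hncL hsM hsL.2.1 hX1 hNL hSsL hXSs hSsM hNSs
    have h4 := (Cfsg.Agent.Lib.Helper76_BG13c.cj_le_of_tau2_other hG (centHyp' hG) (hyp1417' hG)
      (hyp1418a' hG) hM hL hLM hsM hsL hSsL hSsM).1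
    have hpσL : p ∉ sigma L := by
      intro h
      apply hP1
      rw [eq_bot_iff, ← h4]
      exact le_inf (le_sigmaCore_of_isPGroup' hG hL h hPp hPL) hPM
    have hpB : ¬ p ∣ Nat.card ↥(sigmaCore L) := fun hd =>
      hpσL (mem_sigma_of_dvd_card_le_sigmaCore (le_refl _) hpp hd)
    have hEsL : Es ≤ L := hEsle.trans inf_le_right
    have h5 := dvd_card_commutator_of_le_sup (hEsL.trans (le_normalizer_sigmaCore' L)) hLcov hpp hpB
      hpL'
    have hEsM : Es ≤ M := hEsle.trans inf_le_left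
    exact hpM' (h5.trans (Subgroup.card_dvd_of_le (Subgroup.commutator_mono hEsM hEsM)))

/-- the form asked for by the assembly of S1428 (helper39, msg 1609); `r ∈ τ₁(H)` and `|R| = r` are
not needed -/
theorem not_pRankLE_of_not_le_centralizer (hG : IsMinSimpleOddOrder G) {M E P R H : Subgroup G}
    {p r : ℕ} [Fact p.Prime] (hM : IsCoatom M) (hE : IsComplIn E (sigmaCore M) M)
    (hp : p ∈ tau1 M) (hPE : P ≤ E) (hP : Nat.card P = p) (hRE : R ≤ E)
    (hRP : R ≤ centralizer (P : Set G)) (_hR : Nat.card R = r) (_hr : r.Prime)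
    (hnc : ¬ (sigmaCore M ⊓ centralizer (P : Set G) ≤ centralizer (R : Set G)))
    (hH : IsCoatom H) (hNP : normalizer (P : Set G) ≤ H) (hpH : p ∈ sigma H) (_hrH : r ∈ tau1 H)
    (hncj : ∀ g : G, H ≠ cj g M) : ¬ PRankLE p 2 ↥H :=
  (mem_beta_of_not_le_centralizer hG hM hE hp hPE hP hRE hRP hnc hH hNP hpH hncj).1.2

end Cfsg.Agent.Lib.Helper35_BG131c
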