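import Cfsg.Agent.Lib.Helper77_BRDefs

/-!
helper35: package GEO1 of helper77's S0999 / S4701 (Brauer--Reynolds) market:
if every `1 ≠ σ ∈ Q` normalizes exactly `t` Sylow `p`-subgroups then `|N_G(Q)| = t q` and
`N_G(Q) ∩ N_G(P) = Q`.
-/

set_option autoImplicit false

namespace Cfsg.Agent.Lib.Helper35_BR_GEO1

open Cfsg Cfsg.Agent.Lib.Helper80_CharBasic Cfsg.Agent.Lib.Helper77_BRDefs
open scoped ComplexConjugate

universe u

variable {G : Type u} [Group G] [Fintype G] {p : ℕ} [hp : Fact p.Prime]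

/-- in a finite group, `k H k⁻¹ ≤ H` implies `k ∈ N(H)` -/
theorem mem_normalizer_of_conj_mem (H : Subgroup G) (k : G) (hk : ∀ h ∈ H, k * h * k⁻¹ ∈ H) :
    k ∈ Subgroup.normalizer (H : Set G) := by
  rw [Subgroup.mem_normalizer_iff]
  intro h
  refine ⟨hk h, fun hh => ?_⟩
  have hinj : Function.Injective (fun x : H => (⟨k * x * k⁻¹, hk x x.2⟩ : H)) := by
    intro x y hxy
    have := congrArg Subtype.val hxy
    simp only [mul_left_inj, mul_right_inj] at this
    exact Subtype.ext this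
  obtain ⟨x, hx⟩ := (Finite.injective_iff_surjective.mp hinj) ⟨k * h * k⁻¹, hh⟩
  have := congrArg Subtype.val hx
  simp only [mul_left_inj, mul_right_inj] at this
  rw [← this]
  exact x.2

omit [Fintype G] hp in
/-- membership in the normalizer of a Sylow subgroup as a fixed point condition -/
theorem norm_iff (g : G) (P' : Sylow p G) :
    g ∈ Subgroup.normalizer ((P' : Subgroup G) : Set G) ↔ g • P' = P' :=
  Sylow.smul_eq_iff_mem_normalizer.symm

theorem GEO1 (P : Sylow p G) (hP : Nat.card P = p)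
    (hC : ∀ c ∈ Cen P, c ∈ (P : Subgroup G)) (hq2 : 2 ≤ qq P) (t : ℕ)
    (Q : Subgroup G) (hQN : Q ≤ Nrm P) (hQP : Q ⊓ (P : Subgroup G) = ⊥)
    (hQcard : Nat.card Q = qq P) (hQcyc : IsCyclic Q)
    (hNcard : Nat.card (Nrm P) = p * qq P)
    (hQconj : ∀ x ∈ Nrm P, ¬ p ∣ orderOf x → ∃ z ∈ (P : Subgroup G), z * x * z⁻¹ ∈ Q)
    (hQnorm : ∀ z ∈ (P : Subgroup G), ∀ σ ∈ Q, σ ≠ 1 → z * σ * z⁻¹ ∈ Q → z = 1)
    (hfix : ∀ σ ∈ Q, σ ≠ 1 → fixS p σ = t) :
    Nat.card (Subgroup.normalizer (Q : Set G)) = t * qq P ∧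
      Subgroup.normalizer (Q : Set G) ⊓ Nrm P = Q := by
  classical
  have hPN : (P : Subgroup G) ≤ Nrm P := Subgroup.le_normalizer
  -- a generator of `Q`
  obtain ⟨σ₀, hσ₀⟩ := hQcyc.exists_generator
  have hσ₀1 : (σ₀ : G) ≠ 1 := by
    intro h1
    have hsub : ∀ x : Q, x = 1 := by
      intro x
      obtain ⟨k, hk⟩ := Subgroup.mem_zpowers_iff.mp (hσ₀ x)
      have h1' : σ₀ = 1 := Subtype.ext h1
      rw [← hk, h1', one_zpow]
    have : Nat.card Q ≤ 1 := by
      rw [Finite.card_le_one_iff_subsingleton]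
      exact ⟨fun a b => by rw [hsub a, hsub b]⟩
    omega
  -- `p` does not divide `q`
  have hpq : ¬ p ∣ qq P := by
    intro hdvd
    have h1 : Nat.card (Nrm P) ∣ Nat.card G := Subgroup.card_subgroup_dvd_card _
    have h2 : Nat.card (P : Subgroup G) * (P : Subgroup G).index = Nat.card G :=
      Subgroup.card_mul_index _
    have hP' : Nat.card (P : Subgroup G) = p := hP
    rw [hNcard] at h1
    rw [hP'] at h2
    rw [← h2] at h1
    obtain ⟨c, hc⟩ := hdvd
    rw [hc] at h1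
    have hp0 : 0 < p := hp.out.pos
    have : p * c ∣ (P : Subgroup G).index := by
      have h3 : p * (p * c) ∣ p * (P : Subgroup G).index := h1
      exact (Nat.mul_dvd_mul_iff_left hp0).mp h3
    exact P.not_dvd_index (dvd_of_mul_right_dvd this)
  -- every element of `N` is a product `z τ`
  have hdecomp : ∀ x ∈ Nrm P, ∃ z ∈ (P : Subgroup G), ∃ τ ∈ Q, x = z * τ := by
    let f : (↥(P : Subgroup G)) × (↥Q) → Nrm P := fun a => ⟨a.1 * a.2, (Nrm P).mul_mem (hPN a.1.2)
      (hQN a.2.2)⟩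
    have hinj : Function.Injective f := by
      rintro ⟨⟨z, hz⟩, ⟨τ, hτ⟩⟩ ⟨⟨z', hz'⟩, ⟨τ', hτ'⟩⟩ h
      have h' : z * τ = z' * τ' := congrArg Subtype.val h
      have h1 : z'⁻¹ * z = τ' * τ⁻¹ := by
        have : z'⁻¹ * (z * τ) * τ⁻¹ = z'⁻¹ * (z' * τ') * τ⁻¹ := by rw [h']
        simpa [mul_assoc] using this
      have hmem : τ' * τ⁻¹ ∈ Q ⊓ (P : Subgroup G) := by
        refine ⟨Q.mul_mem hτ' (Q.inv_mem hτ), ?_⟩
        rw [← h1]
        exact (P : Subgroup G).mul_mem ((P : Subgroup G).inv_mem hz') hz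
      rw [hQP, Subgroup.mem_bot] at hmem
      have e1 : τ' = τ := by
        have := mul_inv_eq_one.mp hmem
        exact this
      have e2 : z = z' := by
        rw [hmem] at h1
        have := inv_mul_eq_one.mp h1
        exact this.symm
      subst e1; subst e2; rfl
    have hcard : Nat.card (Nrm P) ≤ Nat.card ((↥(P : Subgroup G)) × (↥Q)) := by
      rw [Nat.card_prod, hNcard, hQcard]
      have hP' : Nat.card (P : Subgroup G) = p := hP
      rw [hP']
    have hbij := Function.Injective.bijective_of_nat_card_le hinj hcard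
    intro x hx
    obtain ⟨⟨⟨z, hz⟩, ⟨τ, hτ⟩⟩, hzτ⟩ := hbij.2 ⟨x, hx⟩
    exact ⟨z, hz, τ, hτ, (congrArg Subtype.val hzτ).symm⟩
  -- second claim
  have hinter : Subgroup.normalizer (Q : Set G) ⊓ Nrm P = Q := by
    apply le_antisymm
    · rintro x ⟨hxQ, hxN⟩
      obtain ⟨z, hz, τ, hτ, rfl⟩ := hdecomp x hxN
      have hzQ : z ∈ Subgroup.normalizer (Q : Set G) := by
        have : z = z * τ * τ⁻¹ := by group
        rw [this]
        exact Subgroup.mul_mem _ hxQ (Subgroup.inv_mem _ (Subgroup.le_normalizer hτ))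
      have := hQnorm z hz σ₀ σ₀.2 hσ₀1 ((Subgroup.mem_normalizer_iff.mp hzQ σ₀).mp σ₀.2)
      rw [this, one_mul]
      exact hτ
    · exact le_inf Subgroup.le_normalizer hQN
  refine ⟨?_, hinter⟩
  -- first claim: orbit-stabilizer for `H = N_G(Q)` acting on `Syl_p(G)`
  set H : Subgroup G := Subgroup.normalizer (Q : Set G) with hH
  -- the orbit of `P` under `H` is the fixed point set of `σ₀`
  have horbit : MulAction.orbit H P =
      {P' : Sylow p G | (σ₀ : G) ∈ Subgroup.normalizer ((P' : Subgroup G) : Set G)} := by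
    ext P'
    constructor
    · rintro ⟨h, rfl⟩
      show (σ₀ : G) ∈ Subgroup.normalizer (((h • P : Sylow p G) : Subgroup G) : Set G)
      rw [norm_iff, Subgroup.smul_def, ← mul_smul]
      have hmem : (h : G)⁻¹ * σ₀ * h ∈ Q := by
        have := (Subgroup.mem_normalizer_iff.mp (H.inv_mem h.2) σ₀).mp σ₀.2
        simpa using this
      have hN := hQN hmem
      rw [norm_iff] at hN
      have : (σ₀ : G) * (h : G) = (h : G) * ((h : G)⁻¹ * σ₀ * h) := by group
      rw [this, mul_smul, hN]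
    · intro hP'
      have hP'' : (σ₀ : G) ∈ Subgroup.normalizer ((P' : Subgroup G) : Set G) := hP'
      obtain ⟨g, hg⟩ := MulAction.exists_smul_eq G P P'
      -- `x₀ = g⁻¹ σ₀ g ∈ N(P)` is `p`-regular
      have hx₀N : g⁻¹ * σ₀ * g ∈ Nrm P := by
        rw [norm_iff] at hP'' ⊢
        rw [mul_smul, mul_smul, hg, hP'', ← hg, inv_smul_smul]
      have hord : orderOf (g⁻¹ * σ₀ * g) = orderOf (σ₀ : G) := by
        have : g⁻¹ * σ₀ * g = MulAut.conj g⁻¹ (σ₀ : G) := by simp
        rw [this, MulEquiv.orderOf_eq]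
      have hreg : ¬ p ∣ orderOf (g⁻¹ * σ₀ * g) := by
        rw [hord]
        intro hdvd
        apply hpq
        rw [← hQcard]
        have h1 : orderOf (σ₀ : G) = orderOf σ₀ := Subgroup.orderOf_coe σ₀
        rw [h1] at hdvd
        exact hdvd.trans (orderOf_dvd_natCard σ₀)
      obtain ⟨z, hz, hzQ⟩ := hQconj _ hx₀N hreg
      -- `k = z g⁻¹` normalizes `Q`
      have hkσ : (z * g⁻¹) * σ₀ * (z * g⁻¹)⁻¹ ∈ Q := by
        have : (z * g⁻¹) * σ₀ * (z * g⁻¹)⁻¹ = z * (g⁻¹ * σ₀ * g) * z⁻¹ := by group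
        rw [this]; exact hzQ
      have hk : z * g⁻¹ ∈ H := by
        apply mem_normalizer_of_conj_mem
        intro τ hτ
        obtain ⟨i, hi⟩ := Subgroup.mem_zpowers_iff.mp (hσ₀ ⟨τ, hτ⟩)
        have hi' : (σ₀ : G) ^ i = τ := by
          have := congrArg Subtype.val hi
          simpa using this
        rw [← hi']
        have : (z * g⁻¹) * (σ₀ : G) ^ i * (z * g⁻¹)⁻¹ =
            ((z * g⁻¹) * σ₀ * (z * g⁻¹)⁻¹) ^ i := by
          rw [conj_zpow]
        rw [this]
        exact Q.zpow_mem hkσ i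
      refine ⟨⟨(z * g⁻¹)⁻¹, H.inv_mem hk⟩, ?_⟩
      show ((z * g⁻¹)⁻¹ : G) • P = P'
      have hzP : z⁻¹ • P = P := by
        rw [← norm_iff]
        exact hPN ((P : Subgroup G).inv_mem hz)
      have : (z * g⁻¹)⁻¹ = g * z⁻¹ := by group
      rw [this, mul_smul, hzP, hg]
  -- the stabilizer of `P` in `H` has `q` elements
  have hstab : Nat.card (MulAction.stabilizer H P) = qq P := by
    rw [← hQcard, ← hinter]
    have hmap : (MulAction.stabilizer H P).map H.subtype = H ⊓ Nrm P := by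
      ext x
      constructor
      · rintro ⟨h, hh, rfl⟩
        refine ⟨h.2, ?_⟩
        have : (h : G) • P = P := hh
        rwa [← norm_iff] at this
      · rintro ⟨hxH, hxN⟩
        refine ⟨⟨x, hxH⟩, ?_, rfl⟩
        show (x : G) • P = P
        rwa [← norm_iff]
    rw [← hmap]
    exact (Subgroup.card_map_of_injective H.subtype_injective).symm
  have hos := MulAction.card_orbit_mul_card_stabilizer_eq_card_group H P
  rw [← Nat.card_eq_fintype_card, ← Nat.card_eq_fintype_card, ← Nat.card_eq_fintype_card,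
    hstab] at hos
  rw [← hos]
  congr 1
  rw [← hfix σ₀ σ₀.2 hσ₀1]
  unfold fixS
  rw [horbit]
  rfl

end Cfsg.Agent.Lib.Helper35_BR_GEO1
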