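import Cfsg.Agent.Lib.Helper77_BRDefs
import Cfsg.Agent.Lib.Helper75_CharArith

/-!
helper35: package GEO2 of helper77's S0999 / S4701 (Brauer--Reynolds) market:
every element of `H = N_G(Q)` (of order `p - 1`) is conjugate into `Q`.
-/

set_option autoImplicit false

namespace Cfsg.Agent.Lib.Helper35_BR_GEO2

open Cfsg Cfsg.Agent.Lib.Helper80_CharBasic Cfsg.Agent.Lib.Helper77_BRDefs
open scoped ComplexConjugate

universe u

variable {G : Type u} [Group G] [Fintype G] {p : ℕ} [hp : Fact p.Prime]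

omit [Fintype G] hp in
/-- membership in the normalizer of a Sylow subgroup as a fixed point condition -/
theorem norm_iff (g : G) (P' : Sylow p G) :
    g ∈ Subgroup.normalizer ((P' : Subgroup G) : Set G) ↔ g • P' = P' :=
  Sylow.smul_eq_iff_mem_normalizer.symm

omit [Fintype G] hp in
/-- `fixS` is a class function -/
theorem fixS_conj (k h : G) : fixS p (k * h * k⁻¹) = fixS p h := by
  unfold fixS
  refine Nat.card_congr ⟨fun a => ⟨k⁻¹ • a.1, ?_⟩, fun a => ⟨k • a.1, ?_⟩, ?_, ?_⟩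
  · have := a.2
    rw [norm_iff] at this ⊢
    rw [← mul_smul]
    have h1 : h * k⁻¹ = k⁻¹ * (k * h * k⁻¹) := by group
    rw [h1, mul_smul, this]
  · have := a.2
    rw [norm_iff] at this ⊢
    rw [← mul_smul]
    have h1 : k * h * k⁻¹ * k = k * h := by group
    rw [h1, mul_smul, this]
  · intro a
    apply Subtype.ext
    simp
  · intro a
    apply Subtype.ext
    simp

/-- a `p`-regular element normalizing some Sylow `p`-subgroup is conjugate into `Q` -/
theorem conj_into_Q (P : Sylow p G) (Q : Subgroup G)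
    (hQconj : ∀ x ∈ Nrm P, ¬ p ∣ orderOf x → ∃ z ∈ (P : Subgroup G), z * x * z⁻¹ ∈ Q)
    (h : G) (hreg : ¬ p ∣ orderOf h) (hfix : fixS p h ≠ 0) : ∃ k : G, k * h * k⁻¹ ∈ Q := by
  unfold fixS at hfix
  have hne : Nonempty {Q' : Sylow p G // h ∈ Subgroup.normalizer ((Q' : Subgroup G) : Set G)} := by
    by_contra hcon
    rw [not_nonempty_iff] at hcon
    exact hfix Nat.card_of_isEmpty
  obtain ⟨P', hP'⟩ := hne
  obtain ⟨g, hg⟩ := MulAction.exists_smul_eq G P P'
  have hxN : g⁻¹ * h * g ∈ Nrm P := by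
    rw [norm_iff] at hP' ⊢
    rw [mul_smul, mul_smul, hg, hP', ← hg, inv_smul_smul]
  have hord : orderOf (g⁻¹ * h * g) = orderOf h := by
    have : g⁻¹ * h * g = MulAut.conj g⁻¹ h := by simp
    rw [this, MulEquiv.orderOf_eq]
  obtain ⟨z, _, hzQ⟩ := hQconj _ hxN (by rw [hord]; exact hreg)
  refine ⟨z * g⁻¹, ?_⟩
  have : (z * g⁻¹) * h * (z * g⁻¹)⁻¹ = z * (g⁻¹ * h * g) * z⁻¹ := by group
  rw [this]
  exact hzQ

theorem GEO2 (P : Sylow p G) (hP : Nat.card P = p)
    (hC : ∀ c ∈ Cen P, c ∈ (P : Subgroup G)) (D : PBData P)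
    (hq2 : 2 ≤ qq P) (hq : 2 * qq P ≤ p - 1)
    (hB : ∃ χ ∈ D.X, (χ : G → ℂ) 1 = (p : ℂ) - 1)
    (hfix : ∀ g : G, ¬ p ∣ orderOf g → g ≠ 1 → (fixS p g : ℂ) = (D.Y.card : ℂ) *
      (1 - Bfun D g))
    (Q : Subgroup G) (hQN : Q ≤ Nrm P) (hQP : Q ⊓ (P : Subgroup G) = ⊥)
    (hQcard : Nat.card Q = qq P)
    (hQconj : ∀ x ∈ Nrm P, ¬ p ∣ orderOf x → ∃ z ∈ (P : Subgroup G), z * x * z⁻¹ ∈ Q)
    (hQfix : ∀ σ ∈ Q, σ ≠ 1 → fixS p σ = D.Y.card)
    (hH : Nat.card (Subgroup.normalizer (Q : Set G)) = p - 1) :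
    ∀ y ∈ Subgroup.normalizer (Q : Set G), ∃ g : G, g * y * g⁻¹ ∈ Q := by
  classical
  set H : Subgroup G := Subgroup.normalizer (Q : Set G) with hHdef
  have hp1 : 4 ≤ p - 1 := by omega
  have hp5 : 5 ≤ p := by omega
  have ht0 : D.Y.card ≠ 0 := by
    intro h0
    have := D.hYcard
    rw [h0, zero_mul] at this
    omega
  have ht0' : (D.Y.card : ℂ) ≠ 0 := Nat.cast_ne_zero.mpr ht0
  -- elements of `H` are `p`-regular
  have hreg : ∀ h : H, ¬ p ∣ orderOf (h : G) := by
    intro h hdvd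
    have h1 : orderOf (h : G) = orderOf h := Subgroup.orderOf_coe h
    rw [h1] at hdvd
    have h2 : p ∣ p - 1 := by
      rw [← hH]
      exact hdvd.trans (orderOf_dvd_natCard h)
    have := Nat.le_of_dvd (by omega) h2
    omega
  -- dichotomy for the values of `B` on `H ∖ 1`
  have hval : ∀ h : H, h ≠ 1 →
      Bfun D (h : G) = if fixS p (h : G) = 0 then 1 else 0 := by
    intro h hh1
    have hh1' : (h : G) ≠ 1 := fun e => hh1 (Subtype.ext e)
    have hf := hfix (h : G) (hreg h) hh1'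
    by_cases h0 : fixS p (h : G) = 0
    · rw [if_pos h0]
      rw [h0, Nat.cast_zero] at hf
      have := (mul_eq_zero.mp hf.symm).resolve_left ht0'
      exact (sub_eq_zero.mp this).symm
    · rw [if_neg h0]
      obtain ⟨k, hk⟩ := conj_into_Q P Q hQconj (h : G) (hreg h) h0
      have hk1 : k * (h : G) * k⁻¹ ≠ 1 := by
        intro e
        apply hh1'
        have : (h : G) = k⁻¹ * (k * (h : G) * k⁻¹) * k := by group
        rw [this, e]; group
      have ht := hQfix _ hk hk1
      rw [fixS_conj] at ht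
      rw [ht] at hf
      have h2 : (D.Y.card : ℂ) * 1 = (D.Y.card : ℂ) * (1 - Bfun D (h : G)) := by
        rw [mul_one]; exact hf
      have h3 := mul_left_cancel₀ ht0' h2
      have : Bfun D (h : G) = 1 - (1 - Bfun D (h : G)) := by ring
      rw [this, ← h3]; ring
  -- the restriction of `B` to `H` is a character
  have hψ : Cfsg.IsCharacter H (fun h : H => Bfun D (h : G)) := by
    have : (fun h : H => Bfun D (h : G)) =
        ∑ χ ∈ Bset D, (fun h : H => (χ : G → ℂ) (h : G)) := by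
      funext h
      rw [Finset.sum_apply]
      rfl
    rw [this]
    apply Cfsg.Agent.Lib.Helper75_CharArith.isCharacter_sum
    intro χ _
    exact Cfsg.Agent.Lib.Helper75_CharArith.isCharacter_restrict H
      (Cfsg.Agent.Lib.Helper3_CharBridge.isCharacter_of_isIrrCharacter χ.2)
  have hone : Cfsg.IsCharacter H (fun _ : H => (1 : ℂ)) :=
    Cfsg.Agent.Lib.Helper3_CharBridge.isCharacter_of_isIrrCharacter (isIrrCharacter_one H)
  obtain ⟨n, hn⟩ := Cfsg.Agent.Lib.Helper75_CharArith.classInner_isCharacter_nat hψ hone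
  unfold Cfsg.classInner at hn
  have hHc : (Nat.card H : ℂ) = ((p - 1 : ℕ) : ℂ) := by rw [hH]
  have hHc0 : ((p - 1 : ℕ) : ℂ) ≠ 0 := Nat.cast_ne_zero.mpr (by omega)
  have hsum : ∑ h : H, Bfun D (h : G) = (n : ℂ) * ((p - 1 : ℕ) : ℂ) := by
    have h1 : ∑ h : H, Bfun D (h : G) * conj (1 : ℂ) = ∑ h : H, Bfun D (h : G) := by
      apply Finset.sum_congr rfl
      intro h _
      rw [map_one, mul_one]
    rw [h1, hHc] at hn
    rw [← hn]
    field_simp
  -- split off `h = 1`
  rw [← Finset.add_sum_erase Finset.univ _ (Finset.mem_univ (1 : H))] at hsum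
  have hB1 : Bfun D ((1 : H) : G) = ((Bset D).card : ℂ) * ((p - 1 : ℕ) : ℂ) := by
    unfold Bfun
    have : ∀ χ ∈ Bset D, (χ : G → ℂ) ((1 : H) : G) = ((p - 1 : ℕ) : ℂ) := by
      intro χ hχ
      have := (Finset.mem_filter.mp hχ).2
      rw [Subgroup.coe_one, this, Nat.cast_sub (by omega : 1 ≤ p), Nat.cast_one]
    rw [Finset.sum_congr rfl this, Finset.sum_const, nsmul_eq_mul]
  have hrest : ∑ h ∈ (Finset.univ : Finset H).erase 1, Bfun D (h : G) =
      ((((Finset.univ : Finset H).erase 1).filter (fun h : H => fixS p (h : G) = 0)).card : ℂ) := by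
    rw [Finset.sum_congr rfl (fun h hh => hval h (Finset.ne_of_mem_erase hh))]
    rw [Finset.sum_ite, Finset.sum_const_zero, add_zero, Finset.sum_const, nsmul_eq_mul, mul_one]
  rw [hB1, hrest] at hsum
  set m := (((Finset.univ : Finset H).erase 1).filter (fun h : H => fixS p (h : G) = 0)).card
    with hm
  have hsumN : (Bset D).card * (p - 1) + m = n * (p - 1) := by
    have : (((Bset D).card * (p - 1) + m : ℕ) : ℂ) = ((n * (p - 1) : ℕ) : ℂ) := by
      push_cast
      exact hsum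
    exact Nat.cast_injective this
  have hmlt : m < p - 1 := by
    have h1 : m ≤ ((Finset.univ : Finset H).erase 1).card := Finset.card_filter_le _ _
    have h2 : ((Finset.univ : Finset H).erase 1).card = Fintype.card H - 1 := by
      rw [Finset.card_erase_of_mem (Finset.mem_univ _), Finset.card_univ]
    have h3 : Fintype.card H = p - 1 := by rw [← Nat.card_eq_fintype_card, hH]
    omega
  have hm0 : m = 0 := by
    have hdvd : (p - 1) ∣ m := by
      have h1 : (p - 1) ∣ (Bset D).card * (p - 1) + m := by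
        rw [hsumN]; exact dvd_mul_left _ _
      exact (Nat.dvd_add_right (dvd_mul_left _ _)).mp h1
    exact Nat.eq_zero_of_dvd_of_lt hdvd hmlt
  -- conclusion
  intro y hy
  by_cases hy1 : y = 1
  · exact ⟨1, by rw [hy1]; simp [Q.one_mem]⟩
  · have hyH : (⟨y, hy⟩ : H) ≠ 1 := fun e => hy1 (congrArg Subtype.val e)
    have hnot : fixS p y ≠ 0 := by
      intro h0
      have hmem : (⟨y, hy⟩ : H) ∈
          ((Finset.univ : Finset H).erase 1).filter (fun h : H => fixS p (h : G) = 0) := by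
        rw [Finset.mem_filter]
        exact ⟨Finset.mem_erase.mpr ⟨hyH, Finset.mem_univ _⟩, h0⟩
      have : 0 < m := Finset.card_pos.mpr ⟨_, hmem⟩
      omega
    exact conj_into_Q P Q hQconj y (hreg ⟨y, hy⟩) hnot

end Cfsg.Agent.Lib.Helper35_BR_GEO2
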