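import Mathlib

/-!
# Certificates for coset tables (helper35)

A finished coset table for a subgroup `H` generated by one letter, together with a derivation
order: every entry of the table has a level; the entries of level `0` are the edges of a spanning
tree (which define the coset representatives) and the loop of the subgroup generator at the first
coset; every entry of positive level is justified by a relator read from some coset, in which the
entry (or its reverse) occurs exactly once and all other entries have smaller level.  Soundness:
the index of `H` is at most the number of rows.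
-/

set_option autoImplicit false

namespace Cfsg.Agent.Lib.Helper35_CosetCertDefs

/-- the data -/
structure Cert where
  /-- number of rows -/
  n : ℕ
  /-- number of letters -/
  k : ℕ
  /-- the inverse letter -/
  inv : ℕ → ℕ
  /-- the table -/
  T : ℕ → ℕ → ℕ
  /-- the levels of the entries -/
  lev : ℕ → ℕ → ℕ
  /-- the relator justifying an entry -/
  jr : ℕ → ℕ → ℕ
  /-- the row from which that relator is read -/
  jc : ℕ → ℕ → ℕ
  /-- the parent row in the spanning tree -/
  par : ℕ → ℕ
  /-- the letter leading from the parent row to the row -/
  plet : ℕ → ℕ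
  /-- the relators -/
  rels : List (List ℕ)
  /-- the letter generating the subgroup -/
  hlet : ℕ

/-- reading the word `w` from the row `d`, counting in `cnt` the occurrences of the entry `(c, s)`
or of its reverse, and requiring all other entries to have level below `L`; the result is the last
row and the count -/
def walkAux (C : Cert) (L c s : ℕ) : List ℕ → ℕ → ℕ → Option (ℕ × ℕ)
  | [], d, cnt => some (d, cnt)
  | t :: w, d, cnt =>
    if t < C.k then
      if (d = c ∧ t = s) ∨ (d = C.T c s ∧ t = C.inv s) then
        walkAux C L c s w (C.T d t) (cnt + 1)
      else if C.lev d t < L then walkAux C L c s w (C.T d t) cnt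
      else none
    else none

/-- the entry `(c, s)` is justified -/
def Justified (C : Cert) (c s : ℕ) : Prop :=
  C.jr c s < C.rels.length ∧ C.jc c s < C.n ∧
    walkAux C (C.lev c s) c s (C.rels.getD (C.jr c s) []) (C.jc c s) 0 = some (C.jc c s, 1)

instance (C : Cert) (c s : ℕ) : Decidable (Justified C c s) := by
  unfold Justified; infer_instance

/-- the entry `(c, s)` of level `0` is an edge of the tree, the reverse of one, or the loop of the
subgroup generator -/
def IsBase (C : Cert) (c s : ℕ) : Prop :=
  (0 < C.T c s ∧ C.par (C.T c s) = c ∧ C.plet (C.T c s) = s) ∨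
  (0 < c ∧ C.par c = C.T c s ∧ C.inv (C.plet c) = s) ∨
  (c = 0 ∧ C.T c s = 0 ∧ (s = C.hlet ∨ s = C.inv C.hlet))

instance (C : Cert) (c s : ℕ) : Decidable (IsBase C c s) := by
  unfold IsBase; infer_instance

/-- validity of a certificate -/
structure Valid (C : Cert) : Prop where
  hn : 0 < C.n
  hh : C.hlet < C.k
  hinv : ∀ s < C.k, C.inv s < C.k ∧ C.inv (C.inv s) = s
  htab : ∀ c < C.n, ∀ s < C.k, C.T c s < C.n ∧ C.T (C.T c s) (C.inv s) = c
  htree : ∀ c < C.n, 0 < c → C.par c < c ∧ C.plet c < C.k ∧ C.T (C.par c) (C.plet c) = c
  hbase : ∀ c < C.n, ∀ s < C.k, C.lev c s = 0 → IsBase C c s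
  hjust : ∀ c < C.n, ∀ s < C.k, 0 < C.lev c s → Justified C c s

/-- the product of a word -/
def wprod {G : Type*} [Group G] (S : ℕ → G) : List ℕ → G
  | [] => 1
  | c :: w => S c * wprod S w

end Cfsg.Agent.Lib.Helper35_CosetCertDefs
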