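import Mathlib
import Cfsg.Agent.Lib.Helper34_J2M_X1

/-!
helper35: package C3 of helper26's S2041 market: adjoining `g` with `g ^ 3 ∈ closure S`,
`g` normalizing `closure S`, multiplies the order by at most `3`.
-/

set_option autoImplicit false

namespace Cfsg.Agent.Lib.Helper35_J3M_C3

open scoped commutatorElement

theorem card_closure_insert_le_three {H : Type*} [Group H] [Finite H] (S : Set H) (g : H)
    (hcube : g ^ 3 ∈ Subgroup.closure S) (hconj : ∀ y ∈ S, g * y * g⁻¹ ∈ Subgroup.closure S) :
    Nat.card ↥(Subgroup.closure (insert g S)) ≤ 3 * Nat.card ↥(Subgroup.closure S) := by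
  classical
  set K : Subgroup H := Subgroup.closure S with hK
  have hc : ∀ x ∈ K, g * x * g⁻¹ ∈ K :=
    Cfsg.Agent.Lib.Helper34_J2M_X1.conj_mem_closure S g hconj
  have hc' : ∀ x ∈ K, g⁻¹ * x * g ∈ K := by
    intro x hx
    have : g⁻¹ * x * g = (g ^ 3)⁻¹ * (g * (g * x * g⁻¹) * g⁻¹) * g ^ 3 := by group
    rw [this]
    exact K.mul_mem (K.mul_mem (K.inv_mem hcube) (hc _ (hc x hx))) hcube
  -- the union of the three cosets `K`, `gK`, `g²K`
  let T : Set H := {x | x ∈ K ∨ g⁻¹ * x ∈ K ∨ g⁻¹ * g⁻¹ * x ∈ K}
  have hkT : ∀ k ∈ K, ∀ y ∈ T, k * y ∈ T := by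
    rintro k hk y (hy | hy | hy)
    · exact Or.inl (K.mul_mem hk hy)
    · right; left
      have : g⁻¹ * (k * y) = (g⁻¹ * k * g) * (g⁻¹ * y) := by group
      rw [this]
      exact K.mul_mem (hc' k hk) hy
    · right; right
      have : g⁻¹ * g⁻¹ * (k * y) = (g⁻¹ * (g⁻¹ * k * g) * g) * (g⁻¹ * g⁻¹ * y) := by group
      rw [this]
      exact K.mul_mem (hc' _ (hc' k hk)) hy
  have hLT : ∀ x ∈ Subgroup.closure (insert g S), x ∈ T := by
    intro x hx
    induction hx using Subgroup.closure_induction_left with
    | one => exact Or.inl K.one_mem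
    | mul_left x hx y _ ih =>
      rcases hx with rfl | hx
      · rcases ih with hy | hy | hy
        · right; left
          rw [inv_mul_cancel_left]; exact hy
        · right; right
          have : x⁻¹ * x⁻¹ * (x * y) = x⁻¹ * y := by group
          rw [this]; exact hy
        · left
          have : x * y = x ^ 3 * (x⁻¹ * x⁻¹ * y) := by group
          rw [this]; exact K.mul_mem hcube hy
      · exact hkT x (Subgroup.subset_closure hx) y ih
    | inv_mul_cancel x hx y _ ih =>
      rcases hx with rfl | hx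
      · rcases ih with hy | hy | hy
        · right; right
          have : x⁻¹ * x⁻¹ * (x⁻¹ * y) = (x ^ 3)⁻¹ * y := by group
          rw [this]; exact K.mul_mem (K.inv_mem hcube) hy
        · left; exact hy
        · right; left
          have : x⁻¹ * (x⁻¹ * y) = x⁻¹ * x⁻¹ * y := by group
          rw [this]; exact hy
      · exact hkT x⁻¹ (K.inv_mem (Subgroup.subset_closure hx)) y ih
  have hT : T = (K : Set H) ∪ ((fun x => g * x) '' (K : Set H) ∪
      (fun x => g * g * x) '' (K : Set H)) := by
    ext x
    constructor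
    · rintro (hx | hx | hx)
      · exact Or.inl hx
      · exact Or.inr (Or.inl ⟨g⁻¹ * x, hx, by group⟩)
      · exact Or.inr (Or.inr ⟨g⁻¹ * g⁻¹ * x, hx, by group⟩)
    · rintro (hx | ⟨y, hy, rfl⟩ | ⟨y, hy, rfl⟩)
      · exact Or.inl hx
      · right; left
        show g⁻¹ * (g * y) ∈ K
        rw [inv_mul_cancel_left]; exact hy
      · right; right
        show g⁻¹ * g⁻¹ * (g * g * y) ∈ K
        have : g⁻¹ * g⁻¹ * (g * g * y) = y := by group
        rw [this]; exact hy
  have h1 : Nat.card ↥(Subgroup.closure (insert g S)) ≤ T.ncard := by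
    have : Nat.card ↥(Subgroup.closure (insert g S)) =
        ((Subgroup.closure (insert g S) : Subgroup H) : Set H).ncard := rfl
    rw [this]
    exact Set.ncard_le_ncard (fun x hx => hLT x hx) (Set.toFinite T)
  have h4 : Nat.card K = (K : Set H).ncard := rfl
  rw [hT] at h1
  refine h1.trans ((Set.ncard_union_le _ _).trans ?_)
  have h5 := Set.ncard_union_le ((fun x => g * x) '' (K : Set H))
    ((fun x => g * g * x) '' (K : Set H))
  rw [Set.ncard_image_of_injective _ (mul_right_injective g),
    Set.ncard_image_of_injective _ (mul_right_injective (g * g)), ← h4] at h5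
  rw [← h4]
  omega

end Cfsg.Agent.Lib.Helper35_J3M_C3
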