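import Mathlib
import Cfsg.Agent.Lib.Helper72_MinIdxDefs

set_option autoImplicit false

/-!
helper35: package MI-A (Lemma A) of helper72's S2140 market, in the form `lemmaA_aux` with the
statement of MI-GEN (transvections generate `SL(V)`) as an explicit hypothesis.
-/

namespace Cfsg.Agent.Lib.Helper35_MI_Aaux

open Module Cfsg.Agent.Lib.Helper72_MinIdxDefs

variable {F : Type*} [Field F] {V : Type*} [AddCommGroup V] [Module F V]

/-- the functionals all of whose transvections lie in `H` -/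
def PhiSet (H : Subgroup (SpecialLinearGroup F V)) : Set (Dual F V) :=
  {ψ | axisGrp ψ ≤ H}

theorem mem_PhiSet {H : Subgroup (SpecialLinearGroup F V)} {ψ : Dual F V} :
    ψ ∈ PhiSet H ↔ ∀ (w : V) (h : ψ w = 0), tv ψ w h ∈ H := by
  constructor
  · intro hψ w h
    exact hψ (tv_mem_axisGrp ψ w h)
  · rintro hψ _ ⟨w, h, rfl⟩
    exact hψ w h

theorem zero_mem_PhiSet (H : Subgroup (SpecialLinearGroup F V)) : (0 : Dual F V) ∈ PhiSet H := by
  rw [mem_PhiSet]
  intro w h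
  rw [tv_zero_left]
  exact H.one_mem

theorem smul_mem_PhiSet {H : Subgroup (SpecialLinearGroup F V)} {ψ : Dual F V}
    (hψ : ψ ∈ PhiSet H) (c : F) : c • ψ ∈ PhiSet H := by
  rw [mem_PhiSet] at hψ ⊢
  intro w h
  by_cases hc : c = 0
  · subst hc
    have : tv ((0 : F) • ψ) w h = 1 := by
      apply SpecialLinearGroup.ext; intro x; simp
    rw [this]
    exact H.one_mem
  · have h' : ψ (c • w) = 0 := by
      have : c * ψ w = 0 := by simpa using h
      rw [map_smul, smul_eq_mul, this]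
    have : tv (c • ψ) w h = tv ψ (c • w) h' := by
      apply SpecialLinearGroup.ext; intro x
      simp only [tv_apply, LinearMap.smul_apply, smul_eq_mul]
      rw [smul_smul, mul_comm]
    rw [this]
    exact hψ _ h'

/-- `H`-invariance of `PhiSet H` -/
theorem comp_mem_PhiSet {H : Subgroup (SpecialLinearGroup F V)} {ψ : Dual F V}
    (hψ : ψ ∈ PhiSet H) {g : SpecialLinearGroup F V} (hg : g ∈ H) :
    ψ.comp (g⁻¹).1.toLinearMap ∈ PhiSet H := by
  rw [mem_PhiSet] at hψ ⊢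
  intro w h
  have h0 : ψ (g⁻¹ w) = 0 := h
  have hconj := conj_tv g ψ (g⁻¹ w) h0
  have : tv (ψ.comp (g⁻¹).1.toLinearMap) w h = g * tv ψ (g⁻¹ w) h0 * g⁻¹ := by
    rw [hconj]
    exact tv_congr _ rfl (apply_inv_self' g w).symm
  rw [this]
  exact H.mul_mem (H.mul_mem hg (hψ _ h0)) (H.inv_mem hg)

theorem comp_mem_PhiSet' {H : Subgroup (SpecialLinearGroup F V)} {ψ : Dual F V}
    (hψ : ψ ∈ PhiSet H) {g : SpecialLinearGroup F V} (hg : g ∈ H) :
    ψ.comp g.1.toLinearMap ∈ PhiSet H := by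
  have := comp_mem_PhiSet hψ (H.inv_mem hg)
  rwa [inv_inv] at this

/-- a functional vanishing on the kernel of another one is a multiple of it -/
theorem eq_smul_of_ker_le {ψ₁ ψ₂ : Dual F V} (h : ∀ x, ψ₂ x = 0 → ψ₁ x = 0) :
    ∃ c : F, ψ₁ = c • ψ₂ := by
  by_cases h2 : ∃ e, ψ₂ e ≠ 0
  · obtain ⟨e, he⟩ := h2
    refine ⟨ψ₁ e / ψ₂ e, LinearMap.ext fun y => ?_⟩
    have hy : ψ₂ (y - (ψ₂ y / ψ₂ e) • e) = 0 := by
      rw [map_sub, map_smul, smul_eq_mul, div_mul_cancel₀ _ he, sub_self]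
    have := h _ hy
    rw [map_sub, map_smul, smul_eq_mul, sub_eq_zero] at this
    rw [this, LinearMap.smul_apply, smul_eq_mul]
    field_simp
  · push Not at h2
    refine ⟨0, LinearMap.ext fun y => ?_⟩
    rw [h y (h2 y)]
    simp

theorem add_mem_PhiSet {H : Subgroup (SpecialLinearGroup F V)} {ψ₁ ψ₂ : Dual F V}
    (h₁ : ψ₁ ∈ PhiSet H) (h₂ : ψ₂ ∈ PhiSet H) : ψ₁ + ψ₂ ∈ PhiSet H := by
  by_cases hx : ∃ x, ψ₂ x = 0 ∧ ψ₁ x ≠ 0
  · obtain ⟨x, hx2, hx1⟩ := hx
    -- normalize `ψ₁ x' = 1` and use `g = tv ψ₂ x'`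
    set x' : V := (ψ₁ x)⁻¹ • x with hx'
    have hx'2 : ψ₂ x' = 0 := by rw [hx', map_smul, hx2, smul_zero]
    have hx'1 : ψ₁ x' = 1 := by rw [hx', map_smul, smul_eq_mul, inv_mul_cancel₀ hx1]
    have hg : tv ψ₂ x' hx'2 ∈ H := (mem_PhiSet.mp h₂) _ hx'2
    have hcomp := comp_mem_PhiSet' h₁ hg
    have : ψ₁.comp (tv ψ₂ x' hx'2).1.toLinearMap = ψ₁ + ψ₂ := by
      apply LinearMap.ext; intro y
      show ψ₁ ((tv ψ₂ x' hx'2) y) = ψ₁ y + ψ₂ y
      rw [tv_apply, map_add, map_smul, hx'1, smul_eq_mul, mul_one]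
    rwa [this] at hcomp
  · push Not at hx
    obtain ⟨c, hc⟩ := eq_smul_of_ker_le (ψ₁ := ψ₁) (ψ₂ := ψ₂) hx
    have : ψ₁ + ψ₂ = (c + 1) • ψ₂ := by rw [hc, add_smul, one_smul]
    rw [this]
    exact smul_mem_PhiSet h₂ _

/-- `PhiSet H` as a subspace of the dual -/
def PhiSub (H : Subgroup (SpecialLinearGroup F V)) : Submodule F (Dual F V) where
  carrier := PhiSet H
  zero_mem' := zero_mem_PhiSet H
  add_mem' := fun h₁ h₂ => add_mem_PhiSet h₁ h₂
  smul_mem' := fun c _ hψ => smul_mem_PhiSet hψ c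

theorem lemmaA_aux [Module.Finite F V]
    (hgen : Subgroup.closure {g : SpecialLinearGroup F V |
      ∃ (φ : Dual F V) (w : V) (h : φ w = 0), g = tv φ w h} = ⊤)
    (H : Subgroup (SpecialLinearGroup F V)) (hH : H ≠ ⊤)
    (φ : Dual F V) (hφ : φ ≠ 0) (h : axisGrp φ ≤ H) :
    ∃ U : Submodule F V, U ≠ ⊥ ∧ U ≠ ⊤ ∧ ∀ g ∈ H, ∀ x ∈ U, g x ∈ U := by
  have hφmem : φ ∈ PhiSub H := h
  have hne : PhiSub H ≠ ⊤ := by
    intro htop
    apply hH
    rw [eq_top_iff, ← hgen, Subgroup.closure_le]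
    rintro _ ⟨ψ, w, hw, rfl⟩
    have hψ : ψ ∈ PhiSub H := by rw [htop]; exact Submodule.mem_top
    exact (mem_PhiSet.mp hψ) w hw
  refine ⟨(PhiSub H).dualCoannihilator, ?_, ?_, ?_⟩
  · intro hbot
    apply hne
    have := Subspace.dualCoannihilator_dualAnnihilator_eq (W := PhiSub H)
    rw [hbot, Submodule.dualAnnihilator_bot] at this
    exact this.symm
  · intro htop
    apply hφ
    apply LinearMap.ext; intro x
    have hx : x ∈ (PhiSub H).dualCoannihilator := by rw [htop]; exact Submodule.mem_top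
    exact (Submodule.mem_dualCoannihilator x).mp hx φ hφmem
  · intro g hg x hx
    rw [Submodule.mem_dualCoannihilator] at hx ⊢
    intro ψ hψ
    have hcomp : ψ.comp g.1.toLinearMap ∈ PhiSub H := comp_mem_PhiSet' hψ hg
    exact hx _ hcomp

end Cfsg.Agent.Lib.Helper35_MI_Aaux
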