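import Mathlib
import Cfsg.Agent.Lib.Helper72_MinIdxDefs
import Cfsg.Agent.Lib.Helper72_MI_R1BCore
import Cfsg.Agent.Lib.Helper5_SLGen

set_option autoImplicit false

/-!
# MI-GEN (S2140 package; architect helper72): transvections generate `SL(V)`.
-/

namespace Cfsg.Agent.Lib.Helper5_MI_GEN

open Module Cfsg.Agent.Lib.Helper72_MinIdxDefs Cfsg.Agent.Lib.Helper72_MI_R1BCore

variable {F : Type*} [Field F] {V : Type*} [AddCommGroup V] [Module F V]

/-- the elementary matrix `transvection hij c` corresponds to `tv (c • b.coord j) (b i)`. -/
theorem toLin_equiv_transvection {ι : Type*} [Fintype ι] [DecidableEq ι] (b : Basis ι F V)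
    {i j : ι} (hij : i ≠ j) (c : F) :
    Matrix.SpecialLinearGroup.toLin_equiv b (Matrix.SpecialLinearGroup.transvection hij c) =
      tv (c • b.coord j) (b i) (by simp [hij]) := by
  apply SpecialLinearGroup.ext
  intro x
  have h1 : ((Matrix.SpecialLinearGroup.toLin_equiv b
      (Matrix.SpecialLinearGroup.transvection hij c) : V →ₗ[F] V)) =
      LinearMap.id + (c • b.coord j).smulRight (b i) := by
    rw [Matrix.SpecialLinearGroup.toLin_equiv.toLinearMap_eq]
    apply b.ext
    intro k
    rw [Matrix.toLin_self]
    simp only [Matrix.SpecialLinearGroup.transvection_coe, Matrix.transvection, Matrix.add_apply,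
      Matrix.one_apply, Matrix.single_apply, add_smul, Finset.sum_add_distrib,
      LinearMap.add_apply, LinearMap.id_apply, LinearMap.smulRight_apply, LinearMap.smul_apply,
      Basis.coord_apply, Basis.repr_self, smul_eq_mul]
    congr 1
    · simp
    · by_cases hjk : j = k
      · subst hjk
        simp
      · simp [hjk, Finsupp.single_apply]
  have h2 := LinearMap.congr_fun h1 x
  simp only [LinearMap.add_apply, LinearMap.id_apply, LinearMap.smulRight_apply] at h2
  rw [tv_apply]
  exact h2

theorem closure_tv_eq_top [Module.Finite F V] :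
    Subgroup.closure {g : SpecialLinearGroup F V |
      ∃ (φ : Dual F V) (w : V) (h : φ w = 0), g = tv φ w h} = ⊤ := by
  classical
  by_cases hn : Nontrivial (Fin (finrank F V))
  · rw [eq_top_iff]
    intro g _
    set b := Module.finBasis F V
    set e := Matrix.SpecialLinearGroup.toLin_equiv b
    have key : ∀ A : Matrix.SpecialLinearGroup (Fin (finrank F V)) F,
        e A ∈ Subgroup.closure {g : SpecialLinearGroup F V |
          ∃ (φ : Dual F V) (w : V) (h : φ w = 0), g = tv φ w h} := by
      intro A
      refine Cfsg.Agent.Lib.Helper5_SLGen.transvection_induction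
        (fun A => e A ∈ Subgroup.closure {g : SpecialLinearGroup F V |
          ∃ (φ : Dual F V) (w : V) (h : φ w = 0), g = tv φ w h}) ?_ ?_ A
      · intro i j hij c
        apply Subgroup.subset_closure
        exact ⟨c • b.coord j, b i, by simp [hij], toLin_equiv_transvection b hij c⟩
      · intro A B hA hB
        show e (A * B) ∈ _
        rw [map_mul]
        exact Subgroup.mul_mem _ hA hB
    have := key (e.symm g)
    rwa [MulEquiv.apply_symm_apply] at this
  · have hsub : Subsingleton (SpecialLinearGroup F V) := by
      rw [Fin.nontrivial_iff_two_le, not_le] at hn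
      rcases Nat.lt_succ_iff.1 hn with h1
      rcases Nat.le_one_iff_eq_zero_or_eq_one.1 h1 with h0 | h1
      · have : Subsingleton V := Module.finrank_zero_iff.1 h0
        exact ⟨fun u v => SpecialLinearGroup.ext _ _ (fun x => Subsingleton.elim _ _)⟩
      · exact SpecialLinearGroup.subsingleton_of_finrank_eq_one h1
    exact Subsingleton.elim _ _

end Cfsg.Agent.Lib.Helper5_MI_GEN
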