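import Mathlib
import Cfsg.Agent.Lib.Helper72_MinIdxDefs
import Cfsg.Agent.Lib.Helper72_MI_R1BCore
import Cfsg.Agent.Lib.Helper35_MI_Aaux
import Cfsg.Agent.Lib.Helper5_MI_GEN

set_option autoImplicit false

/-!
helper35: package MI-A (Lemma A) of helper72's S2140 market, statement verbatim:
a proper subgroup of `SL(V)` containing a full `axisGrp φ` is reducible.
-/

namespace Cfsg.Agent.Lib.Helper35_MI_A

open Module Cfsg.Agent.Lib.Helper72_MinIdxDefs Cfsg.Agent.Lib.Helper72_MI_R1BCore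

variable {F : Type*} [Field F] {V : Type*} [AddCommGroup V] [Module F V]

theorem exists_invariant_of_axisGrp_le [Module.Finite F V]
    (H : Subgroup (SpecialLinearGroup F V)) (hH : H ≠ ⊤)
    (φ : Dual F V) (hφ : φ ≠ 0) (h : axisGrp φ ≤ H) :
    ∃ U : Submodule F V, U ≠ ⊥ ∧ U ≠ ⊤ ∧ ∀ g ∈ H, ∀ x ∈ U, g x ∈ U :=
  Cfsg.Agent.Lib.Helper35_MI_Aaux.lemmaA_aux Cfsg.Agent.Lib.Helper5_MI_GEN.closure_tv_eq_top
    H hH φ hφ h

end Cfsg.Agent.Lib.Helper35_MI_A
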