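import Cfsg.Agent.Lib.Helper35_ONFastG
import Cfsg.Agent.Lib.Helper35_ONFastGi
import Cfsg.Agent.Lib.Helper35_ONFastA
import Cfsg.Agent.Lib.Helper35_ONFastB
import Cfsg.Agent.Lib.Helper35_ONFastC
import Cfsg.Agent.Lib.Helper35_ONFastD
import Cfsg.Agent.Lib.Helper35_ONFastE
import Cfsg.Agent.Lib.Helper35_ONFastF
import Cfsg.Agent.Lib.Helper28_S1692Def

set_option autoImplicit false
set_option linter.constructorNameAsVariable false

/-!
# A fast walk in the coset table of the O'Nan group (helper35, for S2078)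

`walkS` reads the leaves of `Helper35_ONFastA`, … and evaluates each step before the next;
`walkS_eq`: it is the walk of `Helper28_CosetPerm`.
-/

namespace Cfsg.Agent.Lib.Helper35_ONFast

open Cfsg.Spor Cfsg.Agent.Lib.Helper28_CosetPerm Cfsg.Agent.Lib.Helper28_S1692
  Cfsg.Agent.Lib.Helper28_S1692Tab Cfsg.Agent.Lib.Helper35_ONFastBase

/-- the leaves of the column of a letter -/
noncomputable def fcol (t : ON.Gen) : Bool → ℕ → ℕ :=
  ON.Gen.rec (motive := fun _ => Bool → ℕ → ℕ)
    (fun b => Bool.rec (motive := fun _ => ℕ → ℕ) Helper35_ONFastGi.sel Helper35_ONFastG.sel b)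
    (fun _ => Helper35_ONFastA.sel) (fun _ => Helper35_ONFastB.sel)
    (fun _ => Helper35_ONFastC.sel) (fun _ => Helper35_ONFastD.sel)
    (fun _ => Helper35_ONFastE.sel) (fun _ => Helper35_ONFastF.sel) t

theorem fcol_eq (t : ON.Gen) (b : Bool) (j : ℕ) : fcol t b j = leafOf (col t b) j := by
  cases t
  · cases b
    · exact Helper35_ONFastGi.sel_eq j
    · exact Helper35_ONFastG.sel_eq j
  · exact Helper35_ONFastA.sel_eq j
  · exact Helper35_ONFastB.sel_eq j
  · exact Helper35_ONFastC.sel_eq j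
  · exact Helper35_ONFastD.sel_eq j
  · exact Helper35_ONFastE.sel_eq j
  · exact Helper35_ONFastF.sel_eq j

/-- one step -/
noncomputable def fnxt (t : ON.Gen) (b : Bool) (x : ℕ) : ℕ := fastNxt (fcol t b) x

theorem fnxt_eq (t : ON.Gen) (b : Bool) (x : ℕ) : fnxt t b x = nxt 4194303 (col t b) x :=
  fastNxt_eq (fcol t b) (col t b) (fcol_eq t b) x

/-- evaluate the number first -/
def forceV (q : ℕ) (f : ℕ → ℕ) : ℕ :=
  Nat.rec (motive := fun _ => ℕ) (f 0) (fun q' _ => f (Nat.succ q')) q

theorem forceV_eq (q : ℕ) (f : ℕ → ℕ) : forceV q f = f q := by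
  cases q <;> rfl

/-- the fast walk -/
noncomputable def walkS (l : List (ON.Gen × Bool)) : ℕ → ℕ :=
  List.rec (motive := fun _ => ℕ → ℕ) (fun x => x)
    (fun p _ ih x => forceV (fnxt p.1 p.2 x) ih) l

theorem walkS_eq (l : List (ON.Gen × Bool)) (x : ℕ) : walkS l x = walk 4194303 col l x := by
  induction l generalizing x with
  | nil => rfl
  | cons p l ih =>
    obtain ⟨a, b⟩ := p
    show forceV (fnxt a b x) (walkS l) = walk 4194303 col l (nxt 4194303 (col a b) x)
    rw [forceV_eq, fnxt_eq, ih]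

end Cfsg.Agent.Lib.Helper35_ONFast
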