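import Cfsg.Agent.Lib.Helper28_CosetPerm

set_option autoImplicit false

/-!
# Fast tables for the kernel (helper35, for S2078)

The columns of the coset table of the O'Nan group (`Helper28_S1692Tab`) are numbers of 2.7 million
bits; the kernel copies half of such a number at every access, and keeps the copy. Here the column
is cut into 512 leaves of 5301 bits (240 entries of 22 bits and 21 bits more), found by a tree of
comparisons; `fastNxt_eq` says that reading the leaf gives what reading the column gives.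
-/

namespace Cfsg.Agent.Lib.Helper35_ONFastBase

open Cfsg.Agent.Lib.Helper28_CosetPerm

/-- a kernel-friendly conjunction over `0, …, n - 1` -/
def allFold (f : ℕ → Bool) (n : ℕ) : Bool :=
  Nat.rec (motive := fun _ => Bool) true (fun k acc => f k && acc) n

theorem allFold_succ (f : ℕ → Bool) (n : ℕ) : allFold f (n + 1) = (f n && allFold f n) := rfl

theorem allFold_eq_true (f : ℕ → Bool) (n : ℕ) :
    allFold f n = true ↔ ∀ k < n, f k = true := by
  induction n with
  | zero => simp [allFold]
  | succ n ih =>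
    rw [allFold_succ, Bool.and_eq_true, ih]
    constructor
    · rintro ⟨h1, h2⟩ k hk
      rcases Nat.lt_succ_iff_lt_or_eq.mp hk with h | h
      · exact h2 k h
      · rw [h]; exact h1
    · intro h
      exact ⟨h n (Nat.lt_succ_self n), fun k hk => h k (Nat.lt_succ_of_lt hk)⟩

/-- the mask of a leaf -/
def LM : ℕ := 2 ^ 5301 - 1

/-- the `j`-th leaf of a column -/
def leafOf (T j : ℕ) : ℕ := Nat.land (Nat.shiftRight T (Nat.mul j 5280)) LM

theorem LM_eq : LM = 2 ^ 5301 - 1 := by unfold LM; rfl

theorem leafOf_eq (T j : ℕ) : leafOf T j = (T >>> (j * 5280)) &&& LM := rfl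

theorem leafOf_big (T j : ℕ) (hT : T < 2 ^ 2703360) (hj : 512 ≤ j) : leafOf T j = 0 := by
  have h1 : T >>> (j * 5280) = 0 := by
    rw [Nat.shiftRight_eq_div_pow]
    apply Nat.div_eq_of_lt
    calc T < 2 ^ 2703360 := hT
      _ ≤ 2 ^ (j * 5280) := Nat.pow_le_pow_right (by norm_num) (by omega)
  rw [leafOf_eq, h1, Nat.zero_and]

theorem core (T x B M w : ℕ) (hB : 0 < B) (h : B + w ≤ M + 1) :
    (((T >>> (x / B * B)) &&& (2 ^ M - 1)) >>> (x % B)) &&& (2 ^ w - 1) =
      (T >>> x) &&& (2 ^ w - 1) := by
  apply Nat.eq_of_testBit_eq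
  intro i
  simp only [Nat.testBit_and, Nat.testBit_shiftRight, Nat.testBit_two_pow_sub_one]
  by_cases hi : i < w
  · have h0 : x % B < B := Nat.mod_lt _ hB
    have h1 : x % B + i < M := by omega
    have h2 : x / B * B + (x % B + i) = x + i := by
      have := Nat.div_add_mod' x B
      omega
    simp [hi, h1, h2]
  · simp [hi]

/-- read an entry through the leaves -/
def fastNxt (s : ℕ → ℕ) (x : ℕ) : ℕ :=
  Nat.land (Nat.shiftRight (s (Nat.div x 5280)) (Nat.mod x 5280)) 4194303

theorem mask_eq : (4194303 : ℕ) = 2 ^ 22 - 1 := by norm_num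

theorem nxt_leaf (T x : ℕ) :
    Nat.land (Nat.shiftRight (leafOf T (Nat.div x 5280)) (Nat.mod x 5280)) 4194303 =
      nxt 4194303 T x := by
  have h := core T x 5280 5301 22 (by norm_num) (by norm_num)
  rw [← LM_eq, ← mask_eq] at h
  exact h

theorem fastNxt_eq (s : ℕ → ℕ) (T : ℕ) (h : ∀ j, s j = leafOf T j) (x : ℕ) :
    fastNxt s x = nxt 4194303 T x := by
  unfold fastNxt
  rw [h, nxt_leaf]


end Cfsg.Agent.Lib.Helper35_ONFastBase
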