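import Cfsg.Agent.Lib.Helper35_ONFastBase

set_option autoImplicit false

/-!
# Cutting a kernel computation into parts (helper35, for S2078)

The kernel keeps what it computed until the end of a theorem, so a long conjunction is proved in
parts.
-/

namespace Cfsg.Agent.Lib.Helper35_ONFastBase

theorem allFold_split (f : ℕ → Bool) (m c : ℕ)
    (h : ∀ i < m, allFold (fun k => f (i * c + k)) c = true) : allFold f (m * c) = true := by
  rw [allFold_eq_true]
  intro k hk
  have hc : 0 < c := by
    rcases Nat.eq_zero_or_pos c with h0 | h0
    · rw [h0, Nat.mul_zero] at hk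
      exact absurd hk (Nat.not_lt_zero k)
    · exact h0
  have hi : k / c < m := by
    rw [Nat.div_lt_iff_lt_mul hc]
    exact hk
  have h1 := (allFold_eq_true _ _).mp (h (k / c) hi) (k % c) (Nat.mod_lt _ hc)
  have e : k / c * c + k % c = k := by
    rw [Nat.mul_comm]
    exact Nat.div_add_mod k c
  rw [e] at h1
  exact h1

end Cfsg.Agent.Lib.Helper35_ONFastBase
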