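import Cfsg.Agent.Lib.Helper35_ONNormDef
import Cfsg.Agent.Lib.Helper35_ONParts

set_option autoImplicit false

/-!
# The certificate for conjugating elements in the O'Nan group (helper35, for S2078; after
helper56's `Helper56_HeNormCert`)

See `Helper35_ONNorm.cert_sound`.
-/

namespace Cfsg.Agent.Lib.Helper35_ONNormCert

open Cfsg.Spor Cfsg.Agent.Lib.Helper28_CosetPerm Cfsg.Agent.Lib.Helper28_S1692
  Cfsg.Agent.Lib.Helper28_S1692Tab
  Cfsg.Agent.Lib.Helper35_ONNormData Cfsg.Agent.Lib.Helper35_ONNormDef
  Cfsg.Agent.Lib.Helper35_ONFastBase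

noncomputable section

/-- evaluate the number first (the kernel then shares the value) -/
def forceN (q : ℕ) (f : ℕ → Bool) : Bool :=
  Nat.rec (motive := fun _ => Bool) (f 0) (fun q' _ => f (Nat.succ q')) q

theorem forceN_eq (q : ℕ) (f : ℕ → Bool) : forceN q f = f q := by
  cases q <;> rfl

/-- the test on the labels of the orbits of `K` -/
def sepM (wk : Wk) (A B : Wd) (y : ℕ) : ℕ → ℕ → ℕ → Bool
  | 0, _, _ => false
  | n + 1, p, r => !(Nat.beq (mu (walkP wk 40 y p)) (mu r)) ||
      sepM wk A B y n (wk A p) (wk B r)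

/-- the test of a single element -/
def sepL (wk : Wk) (A B T K : Wd) : ℕ → ℕ → ℕ → Bool
  | 0, _, _ => false
  | n + 1, p, r => !(Nat.beq (wk K (wk T p)) r) ||
      sepL wk A B T K n (wk A p) (wk B r)

/-- the certificate for the point `y`, the word `T` and the `j`-th element of `K` -/
def certJ (wk : Wk) (A B : Wd) (S : List Wd) (n : ℕ) (T : Wd) (p1 r1 q1 j : ℕ) : Bool :=
  !(Nat.beq (walkK wk 12 (lle j) q1) r1) ||
    (sepL wk A B T (kw j) n p1 r1 ||
      (!(eqL wk [T, kw j, B] [A, T, kw j]) || S.any (fun s => eqL wk [T, kw j] [s])))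

/-- the certificate for the point `y` -/
def certY (wk : Wk) (A B : Wd) (S : List Wd) (n y : ℕ) : Bool :=
  forceN (wk A y) (fun p1 => forceN (wk B 352) (fun r1 =>
    sepM wk A B y n p1 r1 ||
      forceN (walkP wk 40 y p1) (fun q1 =>
        allFold (certJ wk A B S n (path 40 y) p1 r1 q1) 672)))

/-- the certificate -/
def cert (wk : Wk) (A B : Wd) (S : List Wd) (n : ℕ) : Bool :=
  allFold (fun k => !(inY (k * 22)) || certY wk A B S n (k * 22)) 122760

/-! ### parts (the kernel keeps what it computed until the end of a theorem) -/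

/-- a part of the certificate -/
def certR (wk : Wk) (A B : Wd) (S : List Wd) (n c i : ℕ) : Bool :=
  allFold (fun k => !(inY ((i * c + k) * 22)) || certY wk A B S n ((i * c + k) * 22)) c

theorem cert_of_certR (wk : Wk) (A B : Wd) (S : List Wd) (n m c : ℕ) (hmc : m * c = 122760)
    (h : ∀ i < m, certR wk A B S n c i = true) : cert wk A B S n = true := by
  unfold cert
  rw [← hmc]
  exact allFold_split _ m c h

end

end Cfsg.Agent.Lib.Helper35_ONNormCert
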