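import Cfsg.Agent.Lib.Helper35_ONNormChk
import Cfsg.Agent.Lib.Helper35_ONNormCert

set_option autoImplicit false
set_option linter.constructorNameAsVariable false

/-!
# Conjugating elements in the O'Nan group: soundness of the certificate (helper35, for S2078;
after helper56's `Helper56_HeNorm`)

`cert_sound`: if `cert A B S n = true` (a Boolean evaluated by the kernel on the table of the
action on 122760 points), then every element `z` of the stabiliser of the point `0` with
`z * B = A * z` (`A`, `B` words) is one of the words of the list `S`.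
-/

namespace Cfsg.Agent.Lib.Helper35_ONNorm

open Cfsg.Spor Cfsg.Agent.Lib.Helper28_CosetPerm Cfsg.Agent.Lib.Helper28_OrbitLB
  Cfsg.Agent.Lib.Helper28_S1692 Cfsg.Agent.Lib.Helper28_S1692Tab
  Cfsg.Agent.Lib.Helper28_ONOrder
  Cfsg.Agent.Lib.Helper35_ONNormData Cfsg.Agent.Lib.Helper35_ONNormDef
  Cfsg.Agent.Lib.Helper35_ONFastBase
  Cfsg.Agent.Lib.Helper35_ONNormChk Cfsg.Agent.Lib.Helper35_ONNormCert

instance finG : Finite G := finiteG

/-- the stabiliser of the point `0` -/
abbrev HH : Subgroup G := SG RELS [.a, .b, .c, .d, .e, .f]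

/-- the stabiliser of the points `0` and `16` -/
abbrev KK : Subgroup G := SG RELS [.a, .b, .c, .d, .f]

theorem of_mem_SG (l : List ON.Gen) (x : ON.Gen) (hx : x ∈ l) :
    mkW [(x, true)] ∈ SG RELS l :=
  Subgroup.subset_closure ⟨x, hx, rfl⟩

/-! ### the elements of `K` -/

theorem kgw_mem (g : ℕ) : mkW (kgw g) ∈ KK := by
  match g with
  | 0 => exact one_mem _
  | 1 => exact of_mem_SG _ .a (by simp)
  | 2 => exact of_mem_SG _ .b (by simp)
  | 3 => exact of_mem_SG _ .c (by simp)
  | 4 => exact of_mem_SG _ .d (by simp)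
  | 5 => exact of_mem_SG _ .f (by simp)
  | 6 => exact one_mem _
  | 7 => exact one_mem _
  | n + 8 => exact one_mem _

theorem kgw_inv (g : ℕ) : Inv mu (kgw g) := by
  have c1 : muInv (kgw g) = true := chk_mu g
  unfold muInv muF at c1
  rw [wk1_eq] at c1
  intro k
  have h3 : Nat.beq (mu (wk0 (kgw g) (cd k))) (mu (cd k)) = true :=
    (allFold_eq_true _ _).mp c1 k.val k.isLt
  exact Nat.eq_of_beq_eq_true h3

theorem kwd_prop (f c : ℕ) : Inv mu (kwd f c) ∧ mkW (kwd f c) ∈ KK := by
  induction f generalizing c with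
  | zero => exact ⟨Inv.nil _, one_mem _⟩
  | succ f ih =>
    have h := kgw_inv (c % 8)
    show Inv mu (kgw (c % 8) ++ kwd f (c / 8)) ∧ mkW (kgw (c % 8) ++ kwd f (c / 8)) ∈ KK
    refine ⟨Inv.append h (ih _).1, ?_⟩
    rw [mkW_append]
    exact mul_mem (kgw_mem _) (ih _).2

theorem kw_mem (j : ℕ) : mkW (kw j) ∈ KK := (kwd_prop 12 (lle j)).2

theorem sig_step (j : ℕ) (hj : j < 671) : sig wk0 j < sig wk0 (j + 1) := by
  have c := chk_sig
  rw [wk1_eq] at c
  have h : Nat.blt (sig wk0 j) (sig wk0 (j + 1)) = true := (allFold_eq_true _ _).mp c j hj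
  rw [Nat.blt_eq] at h
  exact h

theorem sig_lt : ∀ d i : ℕ, i + d + 1 < 672 → sig wk0 i < sig wk0 (i + d + 1) := by
  intro d
  induction d with
  | zero => intro i h; exact sig_step i (by omega)
  | succ d ih =>
    intro i h
    exact lt_trans (ih i (by omega)) (sig_step (i + d + 1) (by omega))

/-- the point `83` -/
def b83 : Fin 122760 := ⟨83, by norm_num⟩

theorem sig_eq_of_eq {i j : ℕ} (h : mkW (kw i) = mkW (kw j)) : sig wk0 i = sig wk0 j := by
  unfold sig
  rw [walkK_eq, walkK_eq]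
  show wk0 (kw i) (cd b83) = wk0 (kw j) (cd b83)
  rw [wk0_cd, wk0_cd, h]

theorem kw_inj {i j : ℕ} (hi : i < 672) (hj : j < 672) (h : mkW (kw i) = mkW (kw j)) :
    i = j := by
  have hs := sig_eq_of_eq h
  rcases lt_trichotomy i j with hl | he | hg
  · exfalso
    have h1 := sig_lt (j - i - 1) i (by omega)
    rw [show i + (j - i - 1) + 1 = j by omega] at h1
    omega
  · exact he
  · exfalso
    have h1 := sig_lt (i - j - 1) j (by omega)
    rw [show j + (i - j - 1) + 1 = i by omega] at h1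
    omega

theorem card_K : Nat.card KK = 672 := le_antisymm hi2 lo2

theorem K_list (l : G) (hl : l ∈ KK) : ∃ j, j < 672 ∧ l = mkW (kw j) := by
  let f : Fin 672 → KK := fun j => ⟨mkW (kw j.val), kw_mem j.val⟩
  have hinj : Function.Injective f := by
    intro i j hij
    have h : mkW (kw i.val) = mkW (kw j.val) := congrArg Subtype.val hij
    exact Fin.ext (kw_inj i.isLt j.isLt h)
  have hbij := hinj.bijective_of_nat_card_le (by rw [card_K, Nat.card_fin])
  obtain ⟨j, hj⟩ := hbij.2 ⟨l, hl⟩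
  exact ⟨j.val, j.isLt, (congrArg Subtype.val hj).symm⟩

theorem mu_inv_of_mem (l : G) (hl : l ∈ KK) (k : Fin 122760) :
    mu (cd ((rho l)⁻¹ k)) = mu (cd k) := by
  obtain ⟨j, _, rfl⟩ := K_list l hl
  rw [← wk0_cd]
  exact (kwd_prop 12 (lle j)).1 k

/-! ### the stabiliser of the point `0` -/

theorem mem_HH_of_fix (z : G) (hz : rho z b0 = b0) : z ∈ HH := by
  have m0 : z ∈ SG RELS [.g, .a, .b, .c, .d, .e, .f] := by rw [top_eq]; exact Subgroup.mem_top z
  exact Cfsg.Agent.Lib.Helper28_ONLB0.stab tight0 z m0 hz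

theorem mem_KK_of_fix (z : G) (hz : z ∈ HH) (hz1 : rho z b1 = b1) : z ∈ KK :=
  Cfsg.Agent.Lib.Helper28_ONLB1.stab tight1 z hz hz1

theorem hgw_mem (g : ℕ) : mkW (hgw g) ∈ HH := by
  match g with
  | 0 => exact one_mem _
  | 1 => exact of_mem_SG _ .a (by simp)
  | 2 => exact of_mem_SG _ .b (by simp)
  | 3 => exact of_mem_SG _ .c (by simp)
  | 4 => exact of_mem_SG _ .d (by simp)
  | 5 => exact of_mem_SG _ .e (by simp)
  | 6 => exact of_mem_SG _ .f (by simp)
  | 7 => exact one_mem _
  | n + 8 => exact one_mem _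

theorem hgw_lt (g : ℕ) : Inv inY (hgw g) := by
  have c : nuInv (hgw g) = true := chk_nu g
  unfold nuInv nuF at c
  rw [wk1_eq] at c
  intro k
  have h3 : (inY (wk0 (hgw g) (cd k)) == inY (cd k)) = true :=
    (allFold_eq_true _ _).mp c k.val k.isLt
  exact eq_of_beq h3

theorem path_mem (f x : ℕ) : mkW (path f x) ∈ HH := by
  induction f generalizing x with
  | zero => exact one_mem _
  | succ f ih =>
    show mkW (cond (Nat.beq x 352) [] (hgw (stp x) ++ path f (wk0 (hgw (stp x)) x))) ∈ HH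
    cases Nat.beq x 352 with
    | true => exact one_mem _
    | false =>
      show mkW (hgw (stp x) ++ path f (wk0 (hgw (stp x)) x)) ∈ HH
      rw [mkW_append]
      exact mul_mem (hgw_mem _) (ih _)

theorem inY_inv_of_mem_H (z : G) (hz : z ∈ HH) :
    ∀ k : Fin 122760, inY (cd ((rho z)⁻¹ k)) = inY (cd k) := by
  induction hz using Subgroup.closure_induction with
  | mem s hs =>
    obtain ⟨a, ha, rfl⟩ := hs
    have key : ∀ g, ∀ k : Fin 122760,
        inY (cd ((rho (mkW (hgw g)))⁻¹ k)) = inY (cd k) := by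
      intro g k
      rw [← wk0_cd]
      exact hgw_lt g k
    simp only [List.mem_cons, List.not_mem_nil, or_false] at ha
    rcases ha with rfl | rfl | rfl | rfl | rfl | rfl
    · exact key 1
    · exact key 2
    · exact key 3
    · exact key 4
    · exact key 5
    · exact key 6
  | one =>
    intro k
    rw [map_one, inv_one]
    rfl
  | mul x y _ _ hx hy =>
    intro k
    rw [map_mul, mul_inv_rev, Equiv.Perm.mul_apply, hy, hx]
  | inv x _ hx =>
    intro k
    have h := hx (rho x k)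
    rw [perm_inv_apply_self] at h
    rw [map_inv, inv_inv]
    exact h.symm

theorem inY_of_fix (z : G) (hz : rho z b0 = b0) : inY (cd (rho z b1)) = true := by
  have hm : z ∈ HH := mem_HH_of_fix z hz
  have h := inY_inv_of_mem_H z hm (rho z b1)
  rw [perm_inv_apply_self] at h
  rw [← h]
  rfl

theorem path_spec (k : Fin 122760) (h : inY (cd k) = true) :
    wk0 (path 40 (cd k)) (cd k) = 352 := by
  have c := chk_path
  unfold pathF at c
  rw [wk1_eq] at c
  have h1 : (!(inY (cd k)) || Nat.beq (walkP wk0 40 (cd k) (cd k)) 352) = true :=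
    (allFold_eq_true _ _).mp c k.val k.isLt
  rw [h, walkP_eq] at h1
  simp only [Bool.not_true, Bool.false_or] at h1
  exact Nat.eq_of_beq_eq_true h1

/-! ### soundness -/

theorem step_inv {A B : Wd} {z : G} (hrel : z * mkW B = mkW A * z) {p r : Fin 122760}
    (h : (rho z)⁻¹ p = r) : (rho z)⁻¹ ((rho (mkW A))⁻¹ p) = (rho (mkW B))⁻¹ r := by
  rw [← h]
  have e : (rho z)⁻¹ * (rho (mkW A))⁻¹ = (rho (mkW B))⁻¹ * (rho z)⁻¹ := by
    rw [← mul_inv_rev, ← mul_inv_rev, ← map_mul, ← map_mul, hrel]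
  exact congrArg (fun f : Equiv.Perm (Fin 122760) => f p) e

theorem sepL_false {A B T K : Wd} (hrel : mkW (T ++ K) * mkW B = mkW A * mkW (T ++ K)) :
    ∀ (n : ℕ) (p r : Fin 122760), (rho (mkW (T ++ K)))⁻¹ p = r →
      sepL wk0 A B T K n (cd p) (cd r) = false := by
  intro n
  induction n with
  | zero => intro p r _; rfl
  | succ n ih =>
    intro p r h
    show (!(Nat.beq (wk0 K (wk0 T (cd p))) (cd r)) ||
      sepL wk0 A B T K n (wk0 A (cd p)) (wk0 B (cd r))) = false
    rw [← wk0_append, wk0_cd (T ++ K) p, h, Nat.beq_refl, wk0_cd A p, wk0_cd B r,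
      ih _ _ (step_inv hrel h)]
    rfl

theorem sepM_false {A B : Wd} {yc : ℕ} {z l : G} (hz : z = mkW (path 40 yc) * l)
    (hl : ∀ k : Fin 122760, mu (cd ((rho l)⁻¹ k)) = mu (cd k))
    (hrel : z * mkW B = mkW A * z) :
    ∀ (n : ℕ) (p r : Fin 122760), (rho z)⁻¹ p = r → sepM wk0 A B yc n (cd p) (cd r) = false := by
  intro n
  induction n with
  | zero => intro p r _; rfl
  | succ n ih =>
    intro p r h
    show (!(Nat.beq (mu (walkP wk0 40 yc (cd p))) (mu (cd r))) ||
      sepM wk0 A B yc n (wk0 A (cd p)) (wk0 B (cd r))) = false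
    have e : mu (cd r) = mu (walkP wk0 40 yc (cd p)) := by
      rw [walkP_eq, wk0_cd _ p, ← h, hz, map_mul, mul_inv_rev, Equiv.Perm.mul_apply, hl]
    rw [e, Nat.beq_refl, wk0_cd A p, wk0_cd B r, ih _ _ (step_inv hrel h)]
    rfl

/-- Soundness of the certificate. -/
theorem cert_sound {A B : Wd} {S : List Wd} {n : ℕ} (hc1 : cert wk1 A B S n = true) (z : G)
    (hz0 : rho z b0 = b0) (hrel : z * mkW B = mkW A * z) : ∃ s ∈ S, z = mkW s := by
  have hc : cert wk0 A B S n = true := by rw [← wk1_eq]; exact hc1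
  set y : Fin 122760 := rho z b1 with hy
  have hyY : inY (cd y) = true := inY_of_fix z hz0
  have hcy : (!(inY (cd y)) || certY wk0 A B S n (cd y)) = true :=
    (allFold_eq_true _ _).mp hc y.val y.isLt
  rw [hyY] at hcy
  simp only [Bool.not_true, Bool.false_or, certY, forceN_eq] at hcy
  have hT1 := path_spec y hyY
  set T : Wd := path 40 (cd y) with hT
  -- the element of `K`
  have hTy : (rho (mkW T))⁻¹ y = b1 := by
    apply cd_inj
    rw [← wk0_cd, hT1]
    rfl
  have hlH : (mkW T)⁻¹ * z ∈ HH :=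
    mul_mem (inv_mem (path_mem 40 (cd y))) (mem_HH_of_fix z hz0)
  have hl : (mkW T)⁻¹ * z ∈ KK := by
    apply mem_KK_of_fix _ hlH
    rw [map_mul, map_inv, Equiv.Perm.mul_apply, ← hy, hTy]
  obtain ⟨j, hj, hlj⟩ := K_list _ hl
  have hzj : z = mkW (T ++ kw j) := by
    rw [mkW_append, ← hlj]
    group
  have hinit : (rho z)⁻¹ y = b1 := by
    rw [hy, perm_inv_apply_self]
  have hinit' := step_inv hrel hinit
  have hp1 : wk0 A (cd y) = cd ((rho (mkW A))⁻¹ y) := wk0_cd A y
  have hr1 : wk0 B 352 = cd ((rho (mkW B))⁻¹ b1) := wk0_cd B b1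
  rw [hp1, hr1] at hcy
  -- the two tests
  have hM : sepM wk0 A B (cd y) n (cd ((rho (mkW A))⁻¹ y)) (cd ((rho (mkW B))⁻¹ b1)) = false :=
    sepM_false (l := (mkW T)⁻¹ * z) (by show z = mkW T * ((mkW T)⁻¹ * z); group)
      (mu_inv_of_mem _ hl) hrel n _ _ hinit'
  rw [hM, Bool.false_or] at hcy
  have hJ := (allFold_eq_true _ _).mp hcy j hj
  have hrel' : mkW (T ++ kw j) * mkW B = mkW A * mkW (T ++ kw j) := by
    rw [← hzj]; exact hrel
  have hF : Nat.beq (walkK wk0 12 (lle j) (walkP wk0 40 (cd y) (cd ((rho (mkW A))⁻¹ y))))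
      (cd ((rho (mkW B))⁻¹ b1)) = true := by
    rw [walkK_eq, walkP_eq]
    show Nat.beq (wk0 (kw j) (wk0 T (cd ((rho (mkW A))⁻¹ y)))) _ = true
    rw [← wk0_append, wk0_cd, ← hzj, hinit']
    exact Nat.beq_refl _
  have hL : sepL wk0 A B T (kw j) n (cd ((rho (mkW A))⁻¹ y)) (cd ((rho (mkW B))⁻¹ b1)) = false := by
    apply sepL_false hrel'
    rw [← hzj]
    exact hinit'
  have hE : eqL wk0 [T, kw j, B] [A, T, kw j] = true := by
    apply eqL_of_eq
    simp only [List.flatten_cons, List.flatten_nil, List.append_nil]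
    rw [← List.append_assoc, mkW_append, mkW_append A]
    exact hrel'
  unfold certJ at hJ
  rw [hF, hL, hE] at hJ
  simp only [Bool.not_true, Bool.false_or] at hJ
  rw [List.any_eq_true] at hJ
  obtain ⟨s, hs, hse⟩ := hJ
  refine ⟨s, hs, ?_⟩
  have h2 := eq_of_eqL hse
  simp only [List.flatten_cons, List.flatten_nil, List.append_nil] at h2
  rw [hzj]
  exact h2

end Cfsg.Agent.Lib.Helper35_ONNorm
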