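import Cfsg.Agent.Lib.Helper35_ONNormChkN

set_option autoImplicit false
set_option linter.constructorNameAsVariable false
set_option Elab.async false

/-!
# The checks of the step table of `Helper35_ONFastAux`, second part (helper35, for S2078)

Generated.  The computations are cut into parts: the kernel keeps what it computed until the end
of a theorem.
-/

namespace Cfsg.Agent.Lib.Helper35_ONNormChk

open Cfsg.Spor Cfsg.Agent.Lib.Helper28_CosetPerm Cfsg.Agent.Lib.Helper28_S1692
  Cfsg.Agent.Lib.Helper28_S1692Tab
  Cfsg.Agent.Lib.Helper35_ONNormData Cfsg.Agent.Lib.Helper35_ONNormDef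
  Cfsg.Agent.Lib.Helper35_ONFastBase

theorem nu4_0 : allFold (fun k => nuF [(.d, true)] (0 * 15345 + k)) 15345 = true := by
  decide +kernel

theorem nu4_1 : allFold (fun k => nuF [(.d, true)] (1 * 15345 + k)) 15345 = true := by
  decide +kernel

theorem nu4_2 : allFold (fun k => nuF [(.d, true)] (2 * 15345 + k)) 15345 = true := by
  decide +kernel

theorem nu4_3 : allFold (fun k => nuF [(.d, true)] (3 * 15345 + k)) 15345 = true := by
  decide +kernel

theorem nu4_4 : allFold (fun k => nuF [(.d, true)] (4 * 15345 + k)) 15345 = true := by
  decide +kernel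

theorem nu4_5 : allFold (fun k => nuF [(.d, true)] (5 * 15345 + k)) 15345 = true := by
  decide +kernel

theorem nu4_6 : allFold (fun k => nuF [(.d, true)] (6 * 15345 + k)) 15345 = true := by
  decide +kernel

theorem nu4_7 : allFold (fun k => nuF [(.d, true)] (7 * 15345 + k)) 15345 = true := by
  decide +kernel

theorem chk_nu4 : nuInv [(.d, true)] = true := by
  unfold nuInv
  have e : 8 * 15345 = 122760 := by norm_num
  rw [← e]
  apply allFold_split
  intro i hi
  interval_cases i
  · exact nu4_0
  · exact nu4_1
  · exact nu4_2
  · exact nu4_3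
  · exact nu4_4
  · exact nu4_5
  · exact nu4_6
  · exact nu4_7

theorem nu5_0 : allFold (fun k => nuF [(.e, true)] (0 * 15345 + k)) 15345 = true := by
  decide +kernel

theorem nu5_1 : allFold (fun k => nuF [(.e, true)] (1 * 15345 + k)) 15345 = true := by
  decide +kernel

theorem nu5_2 : allFold (fun k => nuF [(.e, true)] (2 * 15345 + k)) 15345 = true := by
  decide +kernel

theorem nu5_3 : allFold (fun k => nuF [(.e, true)] (3 * 15345 + k)) 15345 = true := by
  decide +kernel

theorem nu5_4 : allFold (fun k => nuF [(.e, true)] (4 * 15345 + k)) 15345 = true := by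
  decide +kernel

theorem nu5_5 : allFold (fun k => nuF [(.e, true)] (5 * 15345 + k)) 15345 = true := by
  decide +kernel

theorem nu5_6 : allFold (fun k => nuF [(.e, true)] (6 * 15345 + k)) 15345 = true := by
  decide +kernel

theorem nu5_7 : allFold (fun k => nuF [(.e, true)] (7 * 15345 + k)) 15345 = true := by
  decide +kernel

theorem chk_nu5 : nuInv [(.e, true)] = true := by
  unfold nuInv
  have e : 8 * 15345 = 122760 := by norm_num
  rw [← e]
  apply allFold_split
  intro i hi
  interval_cases i
  · exact nu5_0
  · exact nu5_1
  · exact nu5_2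
  · exact nu5_3
  · exact nu5_4
  · exact nu5_5
  · exact nu5_6
  · exact nu5_7

theorem nu6_0 : allFold (fun k => nuF [(.f, true)] (0 * 15345 + k)) 15345 = true := by
  decide +kernel

theorem nu6_1 : allFold (fun k => nuF [(.f, true)] (1 * 15345 + k)) 15345 = true := by
  decide +kernel

theorem nu6_2 : allFold (fun k => nuF [(.f, true)] (2 * 15345 + k)) 15345 = true := by
  decide +kernel

theorem nu6_3 : allFold (fun k => nuF [(.f, true)] (3 * 15345 + k)) 15345 = true := by
  decide +kernel

theorem nu6_4 : allFold (fun k => nuF [(.f, true)] (4 * 15345 + k)) 15345 = true := by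
  decide +kernel

theorem nu6_5 : allFold (fun k => nuF [(.f, true)] (5 * 15345 + k)) 15345 = true := by
  decide +kernel

theorem nu6_6 : allFold (fun k => nuF [(.f, true)] (6 * 15345 + k)) 15345 = true := by
  decide +kernel

theorem nu6_7 : allFold (fun k => nuF [(.f, true)] (7 * 15345 + k)) 15345 = true := by
  decide +kernel

theorem chk_nu6 : nuInv [(.f, true)] = true := by
  unfold nuInv
  have e : 8 * 15345 = 122760 := by norm_num
  rw [← e]
  apply allFold_split
  intro i hi
  interval_cases i
  · exact nu6_0
  · exact nu6_1
  · exact nu6_2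
  · exact nu6_3
  · exact nu6_4
  · exact nu6_5
  · exact nu6_6
  · exact nu6_7

/-- the path of a point of the orbit of the point `16` leads to this point -/
noncomputable def pathF (k : ℕ) : Bool :=
  !(inY (k * 22)) || Nat.beq (walkP wk1 40 (k * 22) (k * 22)) 352

theorem path_0 : allFold (fun k => pathF (0 * 15345 + k)) 15345 = true := by
  decide +kernel

theorem path_1 : allFold (fun k => pathF (1 * 15345 + k)) 15345 = true := by
  decide +kernel

theorem path_2 : allFold (fun k => pathF (2 * 15345 + k)) 15345 = true := by
  decide +kernel

theorem path_3 : allFold (fun k => pathF (3 * 15345 + k)) 15345 = true := by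
  decide +kernel

theorem path_4 : allFold (fun k => pathF (4 * 15345 + k)) 15345 = true := by
  decide +kernel

theorem path_5 : allFold (fun k => pathF (5 * 15345 + k)) 15345 = true := by
  decide +kernel

theorem path_6 : allFold (fun k => pathF (6 * 15345 + k)) 15345 = true := by
  decide +kernel

theorem path_7 : allFold (fun k => pathF (7 * 15345 + k)) 15345 = true := by
  decide +kernel

theorem chk_path : allFold pathF 122760 = true := by
  have e : 8 * 15345 = 122760 := by norm_num
  rw [← e]
  apply allFold_split
  intro i hi
  interval_cases i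
  · exact path_0
  · exact path_1
  · exact path_2
  · exact path_3
  · exact path_4
  · exact path_5
  · exact path_6
  · exact path_7

end Cfsg.Agent.Lib.Helper35_ONNormChk
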