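import Cfsg.Agent.Lib.Helper35_ONNormChkM
import Cfsg.Agent.Lib.Helper35_ONNormChkN2

set_option autoImplicit false
set_option linter.constructorNameAsVariable false

/-!
# The checks of the tables of `Helper35_ONFastAux` (helper35, for S2078)

The kernel computations are in `Helper35_ONNormChkM`, `Helper35_ONNormChkN` and
`Helper35_ONNormChkN2`.
-/

namespace Cfsg.Agent.Lib.Helper35_ONNormChk

open Cfsg.Spor Cfsg.Agent.Lib.Helper28_CosetPerm Cfsg.Agent.Lib.Helper28_S1692
  Cfsg.Agent.Lib.Helper28_S1692Tab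
  Cfsg.Agent.Lib.Helper35_ONNormData Cfsg.Agent.Lib.Helper35_ONNormDef
  Cfsg.Agent.Lib.Helper35_ONFastBase

theorem chk_mu (g : ℕ) : muInv (kgw g) = true := by
  match g with
  | 0 => exact (allFold_eq_true _ _).mpr fun k _ => Nat.beq_refl _
  | 1 => exact chk_mu1
  | 2 => exact chk_mu2
  | 3 => exact chk_mu3
  | 4 => exact chk_mu4
  | 5 => exact chk_mu5
  | 6 => exact (allFold_eq_true _ _).mpr fun k _ => Nat.beq_refl _
  | 7 => exact (allFold_eq_true _ _).mpr fun k _ => Nat.beq_refl _
  | n + 8 => exact (allFold_eq_true _ _).mpr fun k _ => Nat.beq_refl _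

theorem chk_nu (g : ℕ) : nuInv (hgw g) = true := by
  match g with
  | 0 => exact (allFold_eq_true _ _).mpr fun k _ => beq_self_eq_true _
  | 1 => exact chk_nu1
  | 2 => exact chk_nu2
  | 3 => exact chk_nu3
  | 4 => exact chk_nu4
  | 5 => exact chk_nu5
  | 6 => exact chk_nu6
  | 7 => exact (allFold_eq_true _ _).mpr fun k _ => beq_self_eq_true _
  | n + 8 => exact (allFold_eq_true _ _).mpr fun k _ => beq_self_eq_true _

end Cfsg.Agent.Lib.Helper35_ONNormChk
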