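import Cfsg.Agent.Lib.Helper35_ONNormDef
import Cfsg.Agent.Lib.Helper35_ONParts

set_option autoImplicit false
set_option linter.constructorNameAsVariable false
set_option Elab.async false

/-!
# The checks of the orbit labels of `Helper35_ONFastAux` (helper35, for S2078)

Generated.  The computations are cut into parts: the kernel keeps what it computed until the end
of a theorem.
-/

namespace Cfsg.Agent.Lib.Helper35_ONNormChk

open Cfsg.Spor Cfsg.Agent.Lib.Helper28_CosetPerm Cfsg.Agent.Lib.Helper28_S1692
  Cfsg.Agent.Lib.Helper28_S1692Tab
  Cfsg.Agent.Lib.Helper35_ONNormData Cfsg.Agent.Lib.Helper35_ONNormDef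
  Cfsg.Agent.Lib.Helper35_ONFastBase

/-- the label of a point is the label of its image under a word -/
noncomputable def muF (u : Wd) (k : ℕ) : Bool := Nat.beq (mu (wk1 u (k * 22))) (mu (k * 22))

/-- the labels are invariant under a word -/
noncomputable def muInv (u : Wd) : Bool := allFold (muF u) 122760

theorem mu1_0 : allFold (fun k => muF [(.a, true)] (0 * 30690 + k)) 30690 = true := by
  decide +kernel

theorem mu1_1 : allFold (fun k => muF [(.a, true)] (1 * 30690 + k)) 30690 = true := by
  decide +kernel

theorem mu1_2 : allFold (fun k => muF [(.a, true)] (2 * 30690 + k)) 30690 = true := by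
  decide +kernel

theorem mu1_3 : allFold (fun k => muF [(.a, true)] (3 * 30690 + k)) 30690 = true := by
  decide +kernel

theorem chk_mu1 : muInv [(.a, true)] = true := by
  unfold muInv
  have e : 4 * 30690 = 122760 := by norm_num
  rw [← e]
  apply allFold_split
  intro i hi
  interval_cases i
  · exact mu1_0
  · exact mu1_1
  · exact mu1_2
  · exact mu1_3

theorem mu2_0 : allFold (fun k => muF [(.b, true)] (0 * 30690 + k)) 30690 = true := by
  decide +kernel

theorem mu2_1 : allFold (fun k => muF [(.b, true)] (1 * 30690 + k)) 30690 = true := by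
  decide +kernel

theorem mu2_2 : allFold (fun k => muF [(.b, true)] (2 * 30690 + k)) 30690 = true := by
  decide +kernel

theorem mu2_3 : allFold (fun k => muF [(.b, true)] (3 * 30690 + k)) 30690 = true := by
  decide +kernel

theorem chk_mu2 : muInv [(.b, true)] = true := by
  unfold muInv
  have e : 4 * 30690 = 122760 := by norm_num
  rw [← e]
  apply allFold_split
  intro i hi
  interval_cases i
  · exact mu2_0
  · exact mu2_1
  · exact mu2_2
  · exact mu2_3

theorem mu3_0 : allFold (fun k => muF [(.c, true)] (0 * 30690 + k)) 30690 = true := by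
  decide +kernel

theorem mu3_1 : allFold (fun k => muF [(.c, true)] (1 * 30690 + k)) 30690 = true := by
  decide +kernel

theorem mu3_2 : allFold (fun k => muF [(.c, true)] (2 * 30690 + k)) 30690 = true := by
  decide +kernel

theorem mu3_3 : allFold (fun k => muF [(.c, true)] (3 * 30690 + k)) 30690 = true := by
  decide +kernel

theorem chk_mu3 : muInv [(.c, true)] = true := by
  unfold muInv
  have e : 4 * 30690 = 122760 := by norm_num
  rw [← e]
  apply allFold_split
  intro i hi
  interval_cases i
  · exact mu3_0
  · exact mu3_1
  · exact mu3_2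
  · exact mu3_3

theorem mu4_0 : allFold (fun k => muF [(.d, true)] (0 * 30690 + k)) 30690 = true := by
  decide +kernel

theorem mu4_1 : allFold (fun k => muF [(.d, true)] (1 * 30690 + k)) 30690 = true := by
  decide +kernel

theorem mu4_2 : allFold (fun k => muF [(.d, true)] (2 * 30690 + k)) 30690 = true := by
  decide +kernel

theorem mu4_3 : allFold (fun k => muF [(.d, true)] (3 * 30690 + k)) 30690 = true := by
  decide +kernel

theorem chk_mu4 : muInv [(.d, true)] = true := by
  unfold muInv
  have e : 4 * 30690 = 122760 := by norm_num
  rw [← e]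
  apply allFold_split
  intro i hi
  interval_cases i
  · exact mu4_0
  · exact mu4_1
  · exact mu4_2
  · exact mu4_3

theorem mu5_0 : allFold (fun k => muF [(.f, true)] (0 * 30690 + k)) 30690 = true := by
  decide +kernel

theorem mu5_1 : allFold (fun k => muF [(.f, true)] (1 * 30690 + k)) 30690 = true := by
  decide +kernel

theorem mu5_2 : allFold (fun k => muF [(.f, true)] (2 * 30690 + k)) 30690 = true := by
  decide +kernel

theorem mu5_3 : allFold (fun k => muF [(.f, true)] (3 * 30690 + k)) 30690 = true := by
  decide +kernel

theorem chk_mu5 : muInv [(.f, true)] = true := by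
  unfold muInv
  have e : 4 * 30690 = 122760 := by norm_num
  rw [← e]
  apply allFold_split
  intro i hi
  interval_cases i
  · exact mu5_0
  · exact mu5_1
  · exact mu5_2
  · exact mu5_3

theorem chk_sig : allFold (fun j => Nat.blt (sig wk1 j) (sig wk1 (j + 1))) 671 = true := by
  decide +kernel

end Cfsg.Agent.Lib.Helper35_ONNormChk
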