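import Cfsg.Agent.Lib.Helper35_ONNormDef
import Cfsg.Agent.Lib.Helper35_ONParts

set_option autoImplicit false
set_option linter.constructorNameAsVariable false
set_option Elab.async false

/-!
# The checks of the step table of `Helper35_ONFastAux` (helper35, for S2078)

Generated.  The computations are cut into parts: the kernel keeps what it computed until the end
of a theorem.
-/

namespace Cfsg.Agent.Lib.Helper35_ONNormChk

open Cfsg.Spor Cfsg.Agent.Lib.Helper28_CosetPerm Cfsg.Agent.Lib.Helper28_S1692
  Cfsg.Agent.Lib.Helper28_S1692Tab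
  Cfsg.Agent.Lib.Helper35_ONNormData Cfsg.Agent.Lib.Helper35_ONNormDef
  Cfsg.Agent.Lib.Helper35_ONFastBase

/-- a point lies in the orbit of the point `16` if and only if its image under a word does -/
noncomputable def nuF (u : Wd) (k : ℕ) : Bool := inY (wk1 u (k * 22)) == inY (k * 22)

/-- the orbit of the point `16` is invariant under a word -/
noncomputable def nuInv (u : Wd) : Bool := allFold (nuF u) 122760

theorem nu1_0 : allFold (fun k => nuF [(.a, true)] (0 * 15345 + k)) 15345 = true := by
  decide +kernel

theorem nu1_1 : allFold (fun k => nuF [(.a, true)] (1 * 15345 + k)) 15345 = true := by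
  decide +kernel

theorem nu1_2 : allFold (fun k => nuF [(.a, true)] (2 * 15345 + k)) 15345 = true := by
  decide +kernel

theorem nu1_3 : allFold (fun k => nuF [(.a, true)] (3 * 15345 + k)) 15345 = true := by
  decide +kernel

theorem nu1_4 : allFold (fun k => nuF [(.a, true)] (4 * 15345 + k)) 15345 = true := by
  decide +kernel

theorem nu1_5 : allFold (fun k => nuF [(.a, true)] (5 * 15345 + k)) 15345 = true := by
  decide +kernel

theorem nu1_6 : allFold (fun k => nuF [(.a, true)] (6 * 15345 + k)) 15345 = true := by
  decide +kernel

theorem nu1_7 : allFold (fun k => nuF [(.a, true)] (7 * 15345 + k)) 15345 = true := by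
  decide +kernel

theorem chk_nu1 : nuInv [(.a, true)] = true := by
  unfold nuInv
  have e : 8 * 15345 = 122760 := by norm_num
  rw [← e]
  apply allFold_split
  intro i hi
  interval_cases i
  · exact nu1_0
  · exact nu1_1
  · exact nu1_2
  · exact nu1_3
  · exact nu1_4
  · exact nu1_5
  · exact nu1_6
  · exact nu1_7

theorem nu2_0 : allFold (fun k => nuF [(.b, true)] (0 * 15345 + k)) 15345 = true := by
  decide +kernel

theorem nu2_1 : allFold (fun k => nuF [(.b, true)] (1 * 15345 + k)) 15345 = true := by
  decide +kernel

theorem nu2_2 : allFold (fun k => nuF [(.b, true)] (2 * 15345 + k)) 15345 = true := by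
  decide +kernel

theorem nu2_3 : allFold (fun k => nuF [(.b, true)] (3 * 15345 + k)) 15345 = true := by
  decide +kernel

theorem nu2_4 : allFold (fun k => nuF [(.b, true)] (4 * 15345 + k)) 15345 = true := by
  decide +kernel

theorem nu2_5 : allFold (fun k => nuF [(.b, true)] (5 * 15345 + k)) 15345 = true := by
  decide +kernel

theorem nu2_6 : allFold (fun k => nuF [(.b, true)] (6 * 15345 + k)) 15345 = true := by
  decide +kernel

theorem nu2_7 : allFold (fun k => nuF [(.b, true)] (7 * 15345 + k)) 15345 = true := by
  decide +kernel

theorem chk_nu2 : nuInv [(.b, true)] = true := by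
  unfold nuInv
  have e : 8 * 15345 = 122760 := by norm_num
  rw [← e]
  apply allFold_split
  intro i hi
  interval_cases i
  · exact nu2_0
  · exact nu2_1
  · exact nu2_2
  · exact nu2_3
  · exact nu2_4
  · exact nu2_5
  · exact nu2_6
  · exact nu2_7

theorem nu3_0 : allFold (fun k => nuF [(.c, true)] (0 * 15345 + k)) 15345 = true := by
  decide +kernel

theorem nu3_1 : allFold (fun k => nuF [(.c, true)] (1 * 15345 + k)) 15345 = true := by
  decide +kernel

theorem nu3_2 : allFold (fun k => nuF [(.c, true)] (2 * 15345 + k)) 15345 = true := by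
  decide +kernel

theorem nu3_3 : allFold (fun k => nuF [(.c, true)] (3 * 15345 + k)) 15345 = true := by
  decide +kernel

theorem nu3_4 : allFold (fun k => nuF [(.c, true)] (4 * 15345 + k)) 15345 = true := by
  decide +kernel

theorem nu3_5 : allFold (fun k => nuF [(.c, true)] (5 * 15345 + k)) 15345 = true := by
  decide +kernel

theorem nu3_6 : allFold (fun k => nuF [(.c, true)] (6 * 15345 + k)) 15345 = true := by
  decide +kernel

theorem nu3_7 : allFold (fun k => nuF [(.c, true)] (7 * 15345 + k)) 15345 = true := by
  decide +kernel

theorem chk_nu3 : nuInv [(.c, true)] = true := by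
  unfold nuInv
  have e : 8 * 15345 = 122760 := by norm_num
  rw [← e]
  apply allFold_split
  intro i hi
  interval_cases i
  · exact nu3_0
  · exact nu3_1
  · exact nu3_2
  · exact nu3_3
  · exact nu3_4
  · exact nu3_5
  · exact nu3_6
  · exact nu3_7

end Cfsg.Agent.Lib.Helper35_ONNormChk
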