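import Cfsg.Agent.Lib.Helper35_ONNormData
import Cfsg.Agent.Lib.Helper35_ONFast
import Cfsg.Agent.Lib.Helper35_ONFastAux

set_option autoImplicit false
set_option linter.constructorNameAsVariable false

/-!
# Conjugating elements in the O'Nan group (helper35, for S2078; after helper56's `HeNormDef`)

`cert_sound` (in `Helper35_ONNorm`): a Boolean certificate `cert A B S n` (evaluated by the kernel
on the table of the action on 122760 points) proves that every element `z` of the stabiliser of
the point `0` with `z * B = A * z` (`A`, `B` words) is one of the words of the list `S`.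

The method: `y = z 16` lies in the orbit of `16` under the stabiliser `H = ⟨a, …, f⟩` of `0`; a
word `T` in these generators leads `y` back to `16`, so `T⁻¹ z` lies in the stabiliser
`K = ⟨a, b, c, d, f⟩` of `0` and `16`, whose 672 elements are listed; `z` maps the sequence
`y A^i` to the sequence `16 B^i`, which is tested first on the labels of the orbits of `K` and
then for each of the 672 elements.
-/

namespace Cfsg.Agent.Lib.Helper35_ONNormDef

open Cfsg.Spor Cfsg.Agent.Lib.Helper28_CosetPerm Cfsg.Agent.Lib.Helper28_OrbitLB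
  Cfsg.Agent.Lib.Helper28_S1692 Cfsg.Agent.Lib.Helper28_S1692Tab
  Cfsg.Agent.Lib.Helper28_ONOrder Cfsg.Agent.Lib.Helper35_ONNormData
  Cfsg.Agent.Lib.Helper35_ONFastBase Cfsg.Agent.Lib.Helper35_ONFast

noncomputable section

/-- words -/
abbrev Wd : Type := List (ON.Gen × Bool)

/-- the O'Nan group -/
abbrev G : Type := PresentedGroup RELS

/-- the element of a word -/
def mkW (u : Wd) : G := PresentedGroup.mk RELS (FreeGroup.mk u)

theorem mkW_nil : mkW [] = 1 := rfl

theorem mkW_append (u v : Wd) : mkW (u ++ v) = mkW u * mkW v := by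
  unfold mkW
  rw [← map_mul]
  rfl

theorem mkW_inv (u : Wd) : (mkW u)⁻¹ = mkW (FreeGroup.invRev u) := by
  unfold mkW
  rw [← map_inv, FreeGroup.inv_mk]

theorem mkW_single (x : ON.Gen) : mkW [(x, true)] = PresentedGroup.of x := rfl

/-- the action on the 122760 cosets -/
abbrev rho : G →* Equiv.Perm (Fin 122760) := rhoS1692

/-- base point 0 -/
def b0 : Fin 122760 := ⟨0, by norm_num⟩

/-- base point 1 -/
def b1 : Fin 122760 := ⟨16, by norm_num⟩

/-- the code of a point -/
def cd (k : Fin 122760) : ℕ := (k : ℕ) * 22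

theorem cd_inj {k l : Fin 122760} (h : cd k = cd l) : k = l := by
  unfold cd at h
  exact Fin.ext (by omega)

theorem perm_inv_apply_self (f : Equiv.Perm (Fin 122760)) (x : Fin 122760) : f⁻¹ (f x) = x := by
  rw [Equiv.Perm.inv_def, Equiv.symm_apply_apply]

theorem perm_apply_inv_self (f : Equiv.Perm (Fin 122760)) (x : Fin 122760) : f (f⁻¹ x) = x := by
  rw [Equiv.Perm.inv_def, Equiv.apply_symm_apply]

/-! ### walkers -/

/-- walkers -/
abbrev Wk : Type := Wd → ℕ → ℕ

/-- the walker of the theory -/
def wk0 : Wk := walk 4194303 col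

/-- the walker of the checks -/
def wk1 : Wk := walkS

theorem wk1_eq : wk1 = wk0 := by
  funext l x
  exact walkS_eq l x

theorem wk0_append (u v : Wd) (x : ℕ) : wk0 (u ++ v) x = wk0 v (wk0 u x) :=
  walk_append 4194303 col u v x

/-- the walk computes the inverse of the action -/
theorem wk0_cd (u : Wd) (k : Fin 122760) : wk0 u (cd k) = cd ((rho (mkW u))⁻¹ k) := by
  show walk 4194303 col u ((k : ℕ) * 22) = _
  rw [walk_fin Cfsg.Agent.Lib.Helper28_S1692.verified.hv u k]
  rfl

/-- walk along a list of words -/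
def walkL (wk : Wk) (ws : List Wd) (x : ℕ) : ℕ := ws.foldl (fun x w => wk w x) x

theorem walkL_eq (ws : List Wd) (x : ℕ) : walkL wk0 ws x = wk0 ws.flatten x := by
  induction ws generalizing x with
  | nil => rfl
  | cons w ws ih =>
    show walkL wk0 ws (wk0 w x) = wk0 (w ++ ws.flatten) x
    rw [ih, wk0_append]

/-- the check that two lists of words describe the same element -/
def eqL (wk : Wk) (u v : List Wd) : Bool :=
  offsS1692.all (fun x => Nat.beq (walkL wk u x) (walkL wk v x))

theorem offs_cd : ∀ x ∈ offsS1692, ∃ k : Fin 122760, x = cd k := by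
  intro x hx
  simp only [offsS1692, List.mem_cons, List.not_mem_nil, or_false] at hx
  rcases hx with rfl | rfl | rfl | rfl | rfl | rfl | rfl
  · exact ⟨⟨0, by norm_num⟩, rfl⟩
  · exact ⟨⟨16, by norm_num⟩, rfl⟩
  · exact ⟨⟨135, by norm_num⟩, rfl⟩
  · exact ⟨⟨41, by norm_num⟩, rfl⟩
  · exact ⟨⟨6, by norm_num⟩, rfl⟩
  · exact ⟨⟨1, by norm_num⟩, rfl⟩
  · exact ⟨⟨5, by norm_num⟩, rfl⟩

theorem eqL_of_eq {u v : List Wd} (h : mkW u.flatten = mkW v.flatten) : eqL wk0 u v = true := by
  unfold eqL
  rw [List.all_eq_true]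
  intro x hx
  obtain ⟨k, rfl⟩ := offs_cd x hx
  rw [walkL_eq, walkL_eq, wk0_cd, wk0_cd, h]
  exact Nat.beq_refl _

theorem eq_of_eqL {u v : List Wd} (h : eqL wk0 u v = true) : mkW u.flatten = mkW v.flatten := by
  unfold eqL at h
  rw [List.all_eq_true] at h
  have h1 : mkW (u.flatten ++ FreeGroup.invRev v.flatten) = 1 := by
    apply mk_eq_one_of_walk
    intro x hx
    have hx' := Nat.eq_of_beq_eq_true (h x hx)
    obtain ⟨k, rfl⟩ := offs_cd x hx
    rw [walkL_eq, walkL_eq] at hx'
    show wk0 (u.flatten ++ FreeGroup.invRev v.flatten) (cd k) = cd k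
    rw [wk0_append, hx', ← wk0_append, wk0_cd, mkW_append, ← mkW_inv, mul_inv_cancel, map_one,
      inv_one]
    rfl
  rw [mkW_append, ← mkW_inv] at h1
  exact mul_inv_eq_one.mp h1

/-! ### the tables -/

/-- the step table -/
def stp (x : ℕ) : ℕ := Nat.land (Helper35_ONFastAux.auxv x) 7

/-- the orbit labels -/
def mu (x : ℕ) : ℕ := Nat.shiftRight (Helper35_ONFastAux.auxv x) 3

/-- generators of the stabiliser of the point `0` -/
def hgl : List Wd := [[], [(.a, true)], [(.b, true)], [(.c, true)], [(.d, true)], [(.e, true)],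
  [(.f, true)], []]

/-- generators of the stabiliser of the points `0` and `16` -/
def kgl : List Wd := [[], [(.a, true)], [(.b, true)], [(.c, true)], [(.d, true)], [(.f, true)],
  [], []]

/-- the generators of `H` -/
def hgw (i : ℕ) : Wd := hgl.getD i []

/-- the generators of `K` -/
def kgw (i : ℕ) : Wd := kgl.getD i []

/-- the code of the `j`-th element of `K` -/
def lle (j : ℕ) : ℕ := Nat.land (Nat.shiftRight LL (Nat.mul j 36)) 68719476735

/-- the word of a code -/
def kwd : ℕ → ℕ → Wd
  | 0, _ => []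
  | f + 1, c => kgw (c % 8) ++ kwd f (c / 8)

/-- the word of the `j`-th element of `K` -/
def kw (j : ℕ) : Wd := kwd 12 (lle j)

/-- walk along the word of a code without building it -/
def walkK (wk : Wk) (f : ℕ) : ℕ → ℕ → ℕ :=
  Nat.rec (motive := fun _ => ℕ → ℕ → ℕ) (fun _ x => x)
    (fun _ ih c x => ih (c / 8) (wk (kgw (c % 8)) x)) f

theorem walkK_eq (f c x : ℕ) : walkK wk0 f c x = wk0 (kwd f c) x := by
  induction f generalizing c x with
  | zero => rfl
  | succ f ih =>
    show walkK wk0 f (c / 8) (wk0 (kgw (c % 8)) x) = wk0 (kgw (c % 8) ++ kwd f (c / 8)) x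
    rw [ih, wk0_append]

/-- the orbit of the point `16` under `H` -/
def inY (x : ℕ) : Bool := Nat.beq x 352 || !(Nat.beq (stp x) 0)

/-- the word leading back to the point `16` -/
def path : ℕ → ℕ → Wd
  | 0, _ => []
  | f + 1, x => cond (Nat.beq x 352) [] (hgw (stp x) ++ path f (wk0 (hgw (stp x)) x))

/-- walk along the path without building it -/
def walkP (wk : Wk) (f : ℕ) : ℕ → ℕ → ℕ :=
  Nat.rec (motive := fun _ => ℕ → ℕ → ℕ) (fun _ p => p)
    (fun _ ih x p => cond (Nat.beq x 352) p
      (ih (wk (hgw (stp x)) x) (wk (hgw (stp x)) p))) f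

theorem walkP_eq (f x p : ℕ) : walkP wk0 f x p = wk0 (path f x) p := by
  induction f generalizing x p with
  | zero => rfl
  | succ f ih =>
    show cond (Nat.beq x 352) p (walkP wk0 f (wk0 (hgw (stp x)) x) (wk0 (hgw (stp x)) p)) =
      wk0 (cond (Nat.beq x 352) [] (hgw (stp x) ++ path f (wk0 (hgw (stp x)) x))) p
    cases Nat.beq x 352 with
    | true => rfl
    | false =>
      show walkP wk0 f (wk0 (hgw (stp x)) x) (wk0 (hgw (stp x)) p) =
        wk0 (hgw (stp x) ++ path f (wk0 (hgw (stp x)) x)) p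
      rw [ih, wk0_append]

/-! ### invariance of labels -/

/-- a function on the codes of the points is invariant under a word -/
def Inv {α : Type} (φ : ℕ → α) (u : Wd) : Prop :=
  ∀ k : Fin 122760, φ (wk0 u (cd k)) = φ (cd k)

theorem Inv.nil {α : Type} (φ : ℕ → α) : Inv φ [] := fun _ => rfl

theorem Inv.append {α : Type} {φ : ℕ → α} {u v : Wd} (hu : Inv φ u) (hv : Inv φ v) :
    Inv φ (u ++ v) := by
  intro k
  rw [wk0_append, wk0_cd u k, hv, ← wk0_cd, hu]

/-- the signature of the `j`-th element of `K` -/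
def sig (wk : Wk) (j : ℕ) : ℕ := walkK wk 12 (lle j) 1826

end

end Cfsg.Agent.Lib.Helper35_ONNormDef
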