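import Cfsg.Agent.Lib.Helper35_ONOutDat

set_option autoImplicit false

/-!
# Small checks for the outer automorphism group of the O'Nan group (helper35, for S2078)
-/

namespace Cfsg.Agent.Lib.Helper35_ONOutChkA

open Cfsg.Spor Cfsg.Agent.Lib.Helper28_CosetPerm Cfsg.Agent.Lib.Helper28_S1692
  Cfsg.Agent.Lib.Helper28_S1692Tab
  Cfsg.Agent.Lib.Helper35_ONNormData Cfsg.Agent.Lib.Helper35_ONNormDef
  Cfsg.Agent.Lib.Helper35_ONFastBase
  Cfsg.Agent.Lib.Helper35_ONNormCert Cfsg.Agent.Lib.Helper35_ONOutDat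

theorem chk_pts : wk1 U0 0 = 0 ∧ wk1 W0 0 = 0 ∧
    allFold (fun i => Nat.beq (wk1 (SL i) 0) (Nat.mul (fixW.getD i 0) 22)) 9 = true := by
  decide +kernel

theorem chk_u19 : eqL wk1 [repW 19 U0] [] = true ∧ eqL wk1 [U0] [] = false := by
  decide +kernel

theorem chk_wu : eqL wk1 [U0, W0] [W0, repW 8 U0] = true := by decide +kernel

theorem chk_tw : eqL wk1 [T0, W0] [W0, T0] = true := by decide +kernel

theorem chk_adj : allFold (fun i => eqL wk1 [repW ((7 * i) % 19) U0, repW i U0, W0]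
    [W0, repW ((7 * i) % 19) U0]) 19 = true := by decide +kernel

theorem chk_nc : allFold (fun i => !(eqL wk1 [repW (i + 1) U0, W0] [W0, repW (i + 1) U0])) 18
    = true := by decide +kernel

theorem chk_rel : eqL wk1 (repL 28 [U0, T0]) [] = true ∧
    eqL wk1 (repL 28 [U0, U0, T0]) [] = true ∧
    eqL wk1 (repL 19 [U0, W0, T0]) [] = true := by decide +kernel

theorem chk_gen : allFold (fun x => eqL wk1 [[(gn x, true)]] ((gwl.getD x []).map piece)) 7
    = true := by decide +kernel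

theorem chk_tau_cox : allFold (fun x => allFold (fun y =>
    eqL wk1 (repL (coxLabel ON.edges (gn (x + 1)) (gn (y + 1)))
      [tauW (gn (x + 1)), tauW (gn (y + 1))]) []) 6) 6 = true := by decide +kernel

theorem chk_tau_ext : eqL wk1 [tauWd R1] [] = true ∧ eqL wk1 [tauWd R2] [] = true ∧
    eqL wk1 [tauWd R3] [] = true ∧ eqL wk1 [tauWd R4] [] = true ∧
    eqL wk1 [tauWd R5] [] = true ∧ eqL wk1 [tauWd R6] [] = true ∧
    eqL wk1 [tauWd R7] [] = true := by decide +kernel

theorem chk_tau_uwt : eqL wk1 [tauWd U0] [U0] = true ∧ eqL wk1 [tauWd W0] [W0] = true ∧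
    eqL wk1 [tauWd T0] [T1] = true ∧ eqL wk1 [T1] [T0] = false := by decide +kernel

end Cfsg.Agent.Lib.Helper35_ONOutChkA
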