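import Cfsg.Agent.Lib.Helper35_ONOutDat

set_option autoImplicit false
set_option linter.constructorNameAsVariable false
set_option Elab.async false

/-!
# The certificate for the centraliser of an element of order 6, fixed point 8 (helper35, for S2078)

Generated.  The computations are cut into parts: the kernel keeps what it computed until the end
of a theorem.
-/

namespace Cfsg.Agent.Lib.Helper35_ONOutChkCW8

open Cfsg.Spor Cfsg.Agent.Lib.Helper35_ONNormDef Cfsg.Agent.Lib.Helper35_ONFastBase
  Cfsg.Agent.Lib.Helper35_ONNormCert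
  Cfsg.Agent.Lib.Helper35_ONOutDat

theorem part_0 : certR wk1 (AW 8) W0 (ZL 8) 4 5115 0 = true := by decide +kernel

theorem part_1 : certR wk1 (AW 8) W0 (ZL 8) 4 5115 1 = true := by decide +kernel

theorem part_2 : certR wk1 (AW 8) W0 (ZL 8) 4 5115 2 = true := by decide +kernel

theorem part_3 : certR wk1 (AW 8) W0 (ZL 8) 4 5115 3 = true := by decide +kernel

theorem part_4 : certR wk1 (AW 8) W0 (ZL 8) 4 5115 4 = true := by decide +kernel

theorem part_5 : certR wk1 (AW 8) W0 (ZL 8) 4 5115 5 = true := by decide +kernel

theorem part_6 : certR wk1 (AW 8) W0 (ZL 8) 4 5115 6 = true := by decide +kernel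

theorem part_7 : certR wk1 (AW 8) W0 (ZL 8) 4 5115 7 = true := by decide +kernel

theorem part_8 : certR wk1 (AW 8) W0 (ZL 8) 4 5115 8 = true := by decide +kernel

theorem part_9 : certR wk1 (AW 8) W0 (ZL 8) 4 5115 9 = true := by decide +kernel

theorem part_10 : certR wk1 (AW 8) W0 (ZL 8) 4 5115 10 = true := by decide +kernel

theorem part_11 : certR wk1 (AW 8) W0 (ZL 8) 4 5115 11 = true := by decide +kernel

theorem part_12 : certR wk1 (AW 8) W0 (ZL 8) 4 5115 12 = true := by decide +kernel

theorem part_13 : certR wk1 (AW 8) W0 (ZL 8) 4 5115 13 = true := by decide +kernel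

theorem part_14 : certR wk1 (AW 8) W0 (ZL 8) 4 5115 14 = true := by decide +kernel

theorem part_15 : certR wk1 (AW 8) W0 (ZL 8) 4 5115 15 = true := by decide +kernel

theorem part_16 : certR wk1 (AW 8) W0 (ZL 8) 4 5115 16 = true := by decide +kernel

theorem part_17 : certR wk1 (AW 8) W0 (ZL 8) 4 5115 17 = true := by decide +kernel

theorem part_18 : certR wk1 (AW 8) W0 (ZL 8) 4 5115 18 = true := by decide +kernel

theorem part_19 : certR wk1 (AW 8) W0 (ZL 8) 4 5115 19 = true := by decide +kernel

theorem part_20 : certR wk1 (AW 8) W0 (ZL 8) 4 5115 20 = true := by decide +kernel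

theorem part_21 : certR wk1 (AW 8) W0 (ZL 8) 4 5115 21 = true := by decide +kernel

theorem part_22 : certR wk1 (AW 8) W0 (ZL 8) 4 5115 22 = true := by decide +kernel

theorem part_23 : certR wk1 (AW 8) W0 (ZL 8) 4 5115 23 = true := by decide +kernel

theorem chk_cw : cert wk1 (AW 8) W0 (ZL 8) 4 = true := by
  apply cert_of_certR wk1 _ _ _ 4 24 5115 (by norm_num)
  intro i hi
  interval_cases i
  · exact part_0
  · exact part_1
  · exact part_2
  · exact part_3
  · exact part_4
  · exact part_5
  · exact part_6
  · exact part_7
  · exact part_8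
  · exact part_9
  · exact part_10
  · exact part_11
  · exact part_12
  · exact part_13
  · exact part_14
  · exact part_15
  · exact part_16
  · exact part_17
  · exact part_18
  · exact part_19
  · exact part_20
  · exact part_21
  · exact part_22
  · exact part_23

end Cfsg.Agent.Lib.Helper35_ONOutChkCW8
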