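import Cfsg.Agent.Lib.Helper35_ONOutChkFU

set_option autoImplicit false
set_option linter.constructorNameAsVariable false
set_option Elab.async false

/-!
# The fixed points of two elements of the O'Nan group, third part (helper35, for S2078)

Generated.  The computations are cut into parts: the kernel keeps what it computed until the end
of a theorem.
-/

namespace Cfsg.Agent.Lib.Helper35_ONOutChkF

open Cfsg.Spor Cfsg.Agent.Lib.Helper35_ONNormDef Cfsg.Agent.Lib.Helper35_ONFastBase
  Cfsg.Agent.Lib.Helper35_ONNormCert
  Cfsg.Agent.Lib.Helper35_ONOutDat

theorem fixw_18 : allFold (fun k => fixwF (18 * 4092 + k)) 4092 = true := by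
  decide +kernel

theorem fixw_19 : allFold (fun k => fixwF (19 * 4092 + k)) 4092 = true := by
  decide +kernel

theorem fixw_20 : allFold (fun k => fixwF (20 * 4092 + k)) 4092 = true := by
  decide +kernel

theorem fixw_21 : allFold (fun k => fixwF (21 * 4092 + k)) 4092 = true := by
  decide +kernel

theorem fixw_22 : allFold (fun k => fixwF (22 * 4092 + k)) 4092 = true := by
  decide +kernel

theorem fixw_23 : allFold (fun k => fixwF (23 * 4092 + k)) 4092 = true := by
  decide +kernel

theorem fixw_24 : allFold (fun k => fixwF (24 * 4092 + k)) 4092 = true := by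
  decide +kernel

theorem fixw_25 : allFold (fun k => fixwF (25 * 4092 + k)) 4092 = true := by
  decide +kernel

theorem fixw_26 : allFold (fun k => fixwF (26 * 4092 + k)) 4092 = true := by
  decide +kernel

theorem fixw_27 : allFold (fun k => fixwF (27 * 4092 + k)) 4092 = true := by
  decide +kernel

theorem fixw_28 : allFold (fun k => fixwF (28 * 4092 + k)) 4092 = true := by
  decide +kernel

theorem fixw_29 : allFold (fun k => fixwF (29 * 4092 + k)) 4092 = true := by
  decide +kernel

end Cfsg.Agent.Lib.Helper35_ONOutChkF
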