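import Cfsg.Agent.Lib.Helper35_ONOutChkFW1
import Cfsg.Agent.Lib.Helper35_ONOutChkFW2

set_option autoImplicit false
set_option linter.constructorNameAsVariable false
set_option Elab.async false

/-!
# The fixed points of two elements of the O'Nan group (helper35, for S2078)

Generated.  The computations are cut into parts: the kernel keeps what it computed until the end
of a theorem.
-/

namespace Cfsg.Agent.Lib.Helper35_ONOutChkF

open Cfsg.Spor Cfsg.Agent.Lib.Helper35_ONNormDef Cfsg.Agent.Lib.Helper35_ONFastBase
  Cfsg.Agent.Lib.Helper35_ONNormCert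
  Cfsg.Agent.Lib.Helper35_ONOutDat

theorem chk_fixw : allFold fixwF 122760 = true := by
  have e : 30 * 4092 = 122760 := by norm_num
  rw [← e]
  apply allFold_split
  intro i hi
  interval_cases i
  · exact fixw_0
  · exact fixw_1
  · exact fixw_2
  · exact fixw_3
  · exact fixw_4
  · exact fixw_5
  · exact fixw_6
  · exact fixw_7
  · exact fixw_8
  · exact fixw_9
  · exact fixw_10
  · exact fixw_11
  · exact fixw_12
  · exact fixw_13
  · exact fixw_14
  · exact fixw_15
  · exact fixw_16
  · exact fixw_17
  · exact fixw_18
  · exact fixw_19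
  · exact fixw_20
  · exact fixw_21
  · exact fixw_22
  · exact fixw_23
  · exact fixw_24
  · exact fixw_25
  · exact fixw_26
  · exact fixw_27
  · exact fixw_28
  · exact fixw_29

end Cfsg.Agent.Lib.Helper35_ONOutChkF
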