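import Cfsg.Agent.Lib.Helper35_ONOutDat

set_option autoImplicit false

/-!
# The candidates for the image of `T0` (helper35, for S2078)
-/

namespace Cfsg.Agent.Lib.Helper35_ONOutChkP

open Cfsg.Spor Cfsg.Agent.Lib.Helper35_ONNormDef Cfsg.Agent.Lib.Helper35_ONFastBase
  Cfsg.Agent.Lib.Helper35_ONNormCert
  Cfsg.Agent.Lib.Helper35_ONOutDat

/-- the test of a candidate: one of the three relations fails -/
noncomputable def pinT (r : ℕ) (c : Wd) : Bool :=
  !(eqL wk1 (repL 28 [repW r U0, c]) []) ||
    (!(eqL wk1 (repL 28 [repW r U0, repW r U0, c]) []) ||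
      !(eqL wk1 (repL 19 [repW r U0, W0, c]) []))

theorem chk_pin1 : allFold (fun i => (candsOf i).all (fun c =>
    eqL wk1 [c] [T0] || (eqL wk1 [c] [T1] || pinT 1 c))) 9 = true := by decide +kernel

theorem chk_pin2 : allFold (fun i => (candsOf i).all (fun c => pinT 2 c)) 9 = true := by
  decide +kernel

theorem chk_pin4 : allFold (fun i => (candsOf i).all (fun c => pinT 4 c)) 9 = true := by
  decide +kernel

end Cfsg.Agent.Lib.Helper35_ONOutChkP
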