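import Mathlib
import Cfsg.Prelude.Def_KGroupFacts
import Cfsg.Agent.Lib.Helper90_OutCyc

/-!
# A criterion for `|Out G| = 2` through a Sylow subgroup of prime order `p` whose automiser in `G`
is a proper subgroup of `(ℤ/p)ˣ` (helper35, for S2078)

`G` is a finite group whose order is divisible by the prime `p` exactly once, `y` an element of
order `p`, `w` an element with `w y w⁻¹ = y ^ g`, and `R` a list of exponents such that every
`k ≢ 0` is congruent to some `r * g ^ m`, `r ∈ R`... (in the form `k * g ^ m ≡ r`).  If `τ` is an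
automorphism, not inner, such that every automorphism `α` with `α y = y ^ r`, `r ∈ R`, is inner
or `τ` times an inner one, then `Out G` has order 2.
-/

set_option autoImplicit false
open Cfsg

namespace Cfsg.Agent.Lib.Helper35_OutReps

open Cfsg.Agent.Lib.Helper90_OutCyc

variable {G : Type*} [Group G]

theorem conj_pow_apply (w y : G) (g : ℕ) (hw : w * y * w⁻¹ = y ^ g) (m : ℕ) :
    w ^ m * y * (w ^ m)⁻¹ = y ^ (g ^ m) := by
  induction m with
  | zero => simp
  | succ m ih =>
    have e : w ^ (m + 1) * y * (w ^ (m + 1))⁻¹ = w * (w ^ m * y * (w ^ m)⁻¹) * w⁻¹ := by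
      rw [pow_succ']
      group
    rw [e, ih]
    have e2 : w * y ^ g ^ m * w⁻¹ = (w * y * w⁻¹) ^ (g ^ m) := by
      rw [conj_pow]
    rw [e2, hw, ← pow_mul, pow_succ, Nat.mul_comm]

/-- The criterion. -/
theorem card_out_eq_two_of_reps [Finite G] (p s g : ℕ) [hp : Fact p.Prime]
    (hcard : Nat.card G = p * s) (hs : ¬ p ∣ s)
    (y w : G) (hy : orderOf y = p) (hw : w * y * w⁻¹ = y ^ g)
    (R : List ℕ)
    (hR : ∀ k, k < p → k ≠ 0 → ∃ m r, r ∈ R ∧ (k * g ^ m) % p = r % p)
    (τ : MulAut G) (hτ : τ ∉ Inn G)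
    (hsurv : ∀ α : MulAut G, ∀ r ∈ R, α y = y ^ r → α ∈ Inn G ∨ τ⁻¹ * α ∈ Inn G) :
    Nat.card (Out G) = 2 := by
  have hconj : ∀ c : G, (QuotientGroup.mk (MulAut.conj c) : Out G) = 1 := by
    intro c
    rw [QuotientGroup.eq_one_iff]
    exact ⟨c, rfl⟩
  have key : ∀ α : MulAut G, (QuotientGroup.mk α : Out G) = 1 ∨
      (QuotientGroup.mk α : Out G) = QuotientGroup.mk τ := by
    intro α
    have hoα : orderOf (α y) = p := by
      rw [← hy]
      exact MulEquiv.orderOf_eq α y
    obtain ⟨c, k, hk, hk0, hck⟩ := exists_conj_pow p hcard hs hy hoα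
    obtain ⟨m, r, hrR, hmr⟩ := hR k hk hk0
    set γ : MulAut G := MulAut.conj (w ^ m) * ((MulAut.conj c)⁻¹ * α) with hγ
    have hγy : γ y = y ^ r := by
      rw [hγ, MulAut.mul_apply, MulAut.mul_apply, ← hck, ← map_inv, MulAut.conj_apply,
        MulAut.conj_apply, inv_inv]
      have e : c⁻¹ * (c * y ^ k * c⁻¹) * c = y ^ k := by group
      rw [e]
      have e2 : w ^ m * y ^ k * (w ^ m)⁻¹ = (w ^ m * y * (w ^ m)⁻¹) ^ k := by rw [conj_pow]
      rw [e2, conj_pow_apply w y g hw m, ← pow_mul, ← pow_mod_orderOf y (g ^ m * k), hy,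
        Nat.mul_comm (g ^ m) k, hmr, ← hy, pow_mod_orderOf]
    have hα : α = MulAut.conj c * ((MulAut.conj (w ^ m))⁻¹ * γ) := by
      rw [hγ]
      group
    have hq : (QuotientGroup.mk α : Out G) = QuotientGroup.mk γ := by
      rw [hα, QuotientGroup.mk_mul, QuotientGroup.mk_mul, QuotientGroup.mk_inv, hconj, hconj,
        inv_one, one_mul, one_mul]
    rcases hsurv γ r hrR hγy with h | h
    · left
      rw [hq, QuotientGroup.eq_one_iff]
      exact h
    · right
      rw [hq]
      have : (QuotientGroup.mk (τ⁻¹ * γ) : Out G) = 1 := (QuotientGroup.eq_one_iff _).mpr h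
      rw [QuotientGroup.mk_mul, QuotientGroup.mk_inv] at this
      exact (inv_mul_eq_one.mp this).symm
  have hne : (1 : Out G) ≠ QuotientGroup.mk τ := by
    intro h
    apply hτ
    exact (QuotientGroup.eq_one_iff τ).mp h.symm
  rw [Nat.card_eq_two_iff]
  refine ⟨1, QuotientGroup.mk τ, hne, ?_⟩
  ext a
  simp only [Set.mem_insert_iff, Set.mem_singleton_iff, Set.mem_univ, iff_true]
  induction a using QuotientGroup.induction_on with
  | H α => exact key α

end Cfsg.Agent.Lib.Helper35_OutReps
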