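import Cfsg.Agent.S1699
import Cfsg.Agent.Lib.Helper35_ONNorm
import Cfsg.Agent.Lib.Helper35_ONOutChkA
import Cfsg.Agent.Lib.Helper35_ONOutChkF
import Cfsg.Agent.Lib.Helper35_ONOutChkCU
import Cfsg.Agent.Lib.Helper35_ONOutChkCW0
import Cfsg.Agent.Lib.Helper35_ONOutChkCW1
import Cfsg.Agent.Lib.Helper35_ONOutChkCW2
import Cfsg.Agent.Lib.Helper35_ONOutChkCW3
import Cfsg.Agent.Lib.Helper35_ONOutChkCW4
import Cfsg.Agent.Lib.Helper35_ONOutChkCW5
import Cfsg.Agent.Lib.Helper35_ONOutChkCW6
import Cfsg.Agent.Lib.Helper35_ONOutChkCW7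
import Cfsg.Agent.Lib.Helper35_ONOutChkCW8
import Cfsg.Agent.Lib.Helper35_ONOutChkP
import Cfsg.Agent.Lib.Helper35_OutReps

set_option autoImplicit false
set_option linter.constructorNameAsVariable false

/-!
# The outer automorphism group of the O'Nan group has order two (helper35, for S2078)

After helper56's proof for the Held group.  `u0` has order 19 (a Sylow subgroup), fixes exactly one
of the 122760 points, and its normaliser is `⟨u0, w0⟩ = 19 : 6`; `t0` commutes with `w0`, and
`u0, w0, t0` generate the group.  An automorphism mapping `u0` to `u0 ^ r` (`r = 1, 2, 4`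
represent the cosets of the subgroup of order 6 of `(ℤ/19)ˣ`) can be adjusted by a power of `u0`
to fix `w0`; then the image of `t0` lies in the centraliser of `w0` (72 elements, computed by
`Helper35_ONNorm.cert_sound`), and three relations leave only `r = 1` and the images `t0` and
`t1`; the second is the image under the automorphism `tau`.
-/

namespace Cfsg.Agent.Lib.Helper35_ONOut

open Cfsg Cfsg.Spor Cfsg.Agent.Lib.Helper28_CosetPerm Cfsg.Agent.Lib.Helper28_OrbitLB
  Cfsg.Agent.Lib.Helper28_S1692 Cfsg.Agent.Lib.Helper28_S1692Tab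
  Cfsg.Agent.Lib.Helper28_ONOrder
  Cfsg.Agent.Lib.Helper35_ONNormData Cfsg.Agent.Lib.Helper35_ONNormDef
  Cfsg.Agent.Lib.Helper35_ONFastBase
  Cfsg.Agent.Lib.Helper35_ONNormCert Cfsg.Agent.Lib.Helper35_ONNorm
  Cfsg.Agent.Lib.Helper35_ONOutDat Cfsg.Agent.Lib.Helper35_ONOutChkA
  Cfsg.Agent.Lib.Helper35_ONOutChkF Cfsg.Agent.Lib.Helper35_ONOutChkP

/-! ### from the checks to the group -/

theorem eqL1 {u v : List Wd} (h : eqL wk1 u v = true) : mkW u.flatten = mkW v.flatten := by
  rw [wk1_eq] at h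
  exact eq_of_eqL h

theorem neL1 {u v : List Wd} (h : eqL wk1 u v = false) : mkW u.flatten ≠ mkW v.flatten := by
  intro he
  rw [wk1_eq, eqL_of_eq he] at h
  exact Bool.noConfusion h

theorem mkW_repW (n : ℕ) (u : Wd) : mkW (repW n u) = mkW u ^ n := by
  induction n with
  | zero => rfl
  | succ n ih =>
    show mkW (repW n u ++ u) = _
    rw [mkW_append, ih, pow_succ]

theorem mem_powL {u s : Wd} {n : ℕ} (h : s ∈ powL u n) : ∃ i, i < n ∧ s = repW i u := by
  induction n with
  | zero => exact absurd h (List.not_mem_nil)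
  | succ n ih =>
    rcases List.mem_cons.mp h with h | h
    · exact ⟨n, Nat.lt_succ_self n, h⟩
    · obtain ⟨i, hi, hs⟩ := ih h
      exact ⟨i, Nat.lt_succ_of_lt hi, hs⟩

theorem mkW_flatten_repL (n : ℕ) (l : List Wd) :
    mkW (repL n l).flatten = mkW l.flatten ^ n := by
  induction n with
  | zero => rfl
  | succ n ih =>
    show mkW (l ++ repL n l).flatten = _
    rw [List.flatten_append, mkW_append, ih, pow_succ']

/-- an element with a relation fixes the point `0` if the word `A` fixes this point only -/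
theorem fix0_of_rel {A B : Wd} (hA : ∀ k : Fin 122760, wk0 A (cd k) = cd k → k = b0)
    (hB : wk0 B 0 = 0) {z : G} (hrel : z * mkW B = mkW A * z) : rho z b0 = b0 := by
  have hB' : (rho (mkW B))⁻¹ b0 = b0 := by
    apply cd_inj
    rw [← wk0_cd]
    exact hB
  have hB'' : rho (mkW B) b0 = b0 := by
    have := congrArg (rho (mkW B)) hB'
    rw [perm_apply_inv_self] at this
    exact this.symm
  have h1 : rho z (rho (mkW B) b0) = rho (mkW A) (rho z b0) := by
    rw [← Equiv.Perm.mul_apply, ← Equiv.Perm.mul_apply, ← map_mul, ← map_mul, hrel]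
  rw [hB''] at h1
  apply hA
  rw [wk0_cd]
  congr 1
  have := congrArg (fun k => (rho (mkW A))⁻¹ k) h1
  simp only [perm_inv_apply_self] at this
  exact this

/-! ### the elements -/

/-- an element of order 19 -/
noncomputable def u0 : G := mkW U0

/-- an element of order 6 -/
noncomputable def w0 : G := mkW W0

/-- an element commuting with `w0` -/
noncomputable def t0 : G := mkW T0

/-- its image -/
noncomputable def t1 : G := mkW T1

theorem pts : wk0 U0 0 = 0 ∧ wk0 W0 0 = 0 ∧
    allFold (fun i => Nat.beq (wk0 (SL i) 0) (Nat.mul (fixW.getD i 0) 22)) 9 = true := by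
  have := chk_pts
  rw [wk1_eq] at this
  exact this

theorem fixU (k : Fin 122760) (h : wk0 U0 (cd k) = cd k) : k = b0 := by
  have c := chk_fixu
  unfold fixuF at c
  rw [wk1_eq] at c
  have h1 : (!(Nat.beq (wk0 U0 (cd k)) (cd k)) || Nat.beq k.val 0) = true :=
    (allFold_eq_true _ _).mp c k.val k.isLt
  rw [h, Nat.beq_refl] at h1
  simp only [Bool.not_true, Bool.false_or] at h1
  exact Fin.ext (Nat.eq_of_beq_eq_true h1)

theorem fixW_spec (k : Fin 122760) (h : wk0 W0 (cd k) = cd k) : ∃ i, i < 9 ∧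
    k.val = fixW.getD i 0 := by
  have c := chk_fixw
  unfold fixwF at c
  rw [wk1_eq] at c
  have h1 : (!(Nat.beq (wk0 W0 (cd k)) (cd k)) || fixW.any (fun p => Nat.beq k.val p)) = true :=
    (allFold_eq_true _ _).mp c k.val k.isLt
  rw [h, Nat.beq_refl] at h1
  simp only [Bool.not_true, Bool.false_or] at h1
  rw [List.any_eq_true] at h1
  obtain ⟨p, hp, hkp⟩ := h1
  have hkp' : k.val = p := Nat.eq_of_beq_eq_true hkp
  obtain ⟨i, hi, hip⟩ := List.getElem_of_mem hp
  refine ⟨i, hi, ?_⟩
  rw [hkp', ← hip]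
  exact (List.getD_eq_getElem _ _ hi).symm

theorem u0_pow : u0 ^ 19 = 1 := by
  have h := eqL1 chk_u19.1
  simp only [List.flatten_cons, List.flatten_nil, List.append_nil] at h
  rw [mkW_repW] at h
  exact h

theorem u0_ne : u0 ≠ 1 := by
  have h := neL1 chk_u19.2
  simp only [List.flatten_cons, List.flatten_nil, List.append_nil] at h
  exact h

theorem u0_order : orderOf u0 = 19 := by
  have : Fact (Nat.Prime 19) := ⟨by norm_num⟩
  exact orderOf_eq_prime u0_pow u0_ne

theorem wu : u0 * w0 = w0 * u0 ^ 8 := by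
  have h := eqL1 chk_wu
  simp only [List.flatten_cons, List.flatten_nil, List.append_nil, mkW_append, mkW_repW] at h
  exact h

theorem tw : t0 * w0 = w0 * t0 := by
  have h := eqL1 chk_tw
  simp only [List.flatten_cons, List.flatten_nil, List.append_nil, mkW_append] at h
  exact h

theorem rel1 : (u0 * t0) ^ 28 = 1 := by
  have h := eqL1 chk_rel.1
  rw [mkW_flatten_repL] at h
  simp only [List.flatten_cons, List.flatten_nil, List.append_nil, mkW_append] at h
  exact h

theorem rel2 : (u0 * (u0 * t0)) ^ 28 = 1 := by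
  have h := eqL1 chk_rel.2.1
  rw [mkW_flatten_repL] at h
  simp only [List.flatten_cons, List.flatten_nil, List.append_nil, mkW_append] at h
  exact h

theorem rel3 : (u0 * (w0 * t0)) ^ 19 = 1 := by
  have h := eqL1 chk_rel.2.2
  rw [mkW_flatten_repL] at h
  simp only [List.flatten_cons, List.flatten_nil, List.append_nil, mkW_append] at h
  exact h

/-! ### centralisers -/

theorem cent_u (z : G) (hz : z * u0 = u0 * z) : ∃ i, i < 19 ∧ z = u0 ^ i := by
  have hz0 := fix0_of_rel fixU pts.1 (z := z) hz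
  obtain ⟨s, hs, hzs⟩ := cert_sound Cfsg.Agent.Lib.Helper35_ONOutChkCU.chk_cu z hz0 hz
  obtain ⟨i, hi, rfl⟩ := mem_powL hs
  rw [mkW_repW] at hzs
  exact ⟨i, hi, hzs⟩

theorem w0_fix : rho w0 b0 = b0 := by
  have hB' : (rho (mkW W0))⁻¹ b0 = b0 := by
    apply cd_inj
    rw [← wk0_cd]
    exact pts.2.1
  have := congrArg (rho (mkW W0)) hB'
  rw [perm_apply_inv_self] at this
  exact this.symm

theorem SL_spec (i : ℕ) (hi : i < 9) (k : Fin 122760) (hk : k.val = fixW.getD i 0) :
    rho (mkW (SL i)) k = b0 := by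
  have h := (allFold_eq_true _ _).mp pts.2.2 i hi
  have h' : wk0 (SL i) (cd b0) = cd k := by
    show wk0 (SL i) 0 = k.val * 22
    rw [hk]
    exact Nat.eq_of_beq_eq_true h
  rw [wk0_cd] at h'
  have h2 := cd_inj h'
  rw [← h2, perm_apply_inv_self]

/-- the certificates for the centraliser of `w0` -/
theorem chk_cw_all (i : ℕ) (hi : i < 9) : cert wk1 (AW i) W0 (ZL i) 4 = true := by
  interval_cases i
  · exact Cfsg.Agent.Lib.Helper35_ONOutChkCW0.chk_cw
  · exact Cfsg.Agent.Lib.Helper35_ONOutChkCW1.chk_cw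
  · exact Cfsg.Agent.Lib.Helper35_ONOutChkCW2.chk_cw
  · exact Cfsg.Agent.Lib.Helper35_ONOutChkCW3.chk_cw
  · exact Cfsg.Agent.Lib.Helper35_ONOutChkCW4.chk_cw
  · exact Cfsg.Agent.Lib.Helper35_ONOutChkCW5.chk_cw
  · exact Cfsg.Agent.Lib.Helper35_ONOutChkCW6.chk_cw
  · exact Cfsg.Agent.Lib.Helper35_ONOutChkCW7.chk_cw
  · exact Cfsg.Agent.Lib.Helper35_ONOutChkCW8.chk_cw

theorem cent_w (z : G) (hz : z * w0 = w0 * z) : ∃ i, i < 9 ∧ ∃ c ∈ candsOf i, z = mkW c := by
  -- the image of the point `0` is fixed by `w0`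
  have hfix : rho w0 (rho z b0) = rho z b0 := by
    rw [← Equiv.Perm.mul_apply, ← map_mul, ← hz, map_mul, Equiv.Perm.mul_apply, w0_fix]
  have hfix' : wk0 W0 (cd (rho z b0)) = cd (rho z b0) := by
    rw [wk0_cd]
    congr 1
    have := congrArg (fun k => (rho w0)⁻¹ k) hfix
    simp only [perm_inv_apply_self] at this
    exact this.symm
  obtain ⟨i, hi, hik⟩ := fixW_spec _ hfix'
  have hS := SL_spec i hi _ hik
  have hZ0 : rho (mkW (SL i) * z) b0 = b0 := by
    rw [map_mul, Equiv.Perm.mul_apply, hS]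
  have hrel : (mkW (SL i) * z) * mkW W0 = mkW (AW i) * (mkW (SL i) * z) := by
    unfold AW
    rw [mkW_append, mkW_append, ← mkW_inv]
    show mkW (SL i) * z * w0 = mkW (SL i) * w0 * (mkW (SL i))⁻¹ * (mkW (SL i) * z)
    calc mkW (SL i) * z * w0 = mkW (SL i) * (z * w0) := by group
      _ = mkW (SL i) * (w0 * z) := by rw [hz]
      _ = mkW (SL i) * w0 * (mkW (SL i))⁻¹ * (mkW (SL i) * z) := by group
  obtain ⟨s, hs, hzs⟩ := cert_sound (chk_cw_all i hi) _ hZ0 hrel
  refine ⟨i, hi, FreeGroup.invRev (SL i) ++ s, List.mem_map.mpr ⟨s, hs, rfl⟩, ?_⟩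
  rw [mkW_append, ← mkW_inv, ← hzs]
  group

/-! ### the automorphism -/

/-- the images of the generators -/
noncomputable def tauF (x : ON.Gen) : G := mkW (tauW x)

theorem lift_tauF_mk (L : Wd) : FreeGroup.lift tauF (FreeGroup.mk L) = mkW (tauWd L) := by
  induction L with
  | nil => exact map_one _
  | cons p L ih =>
    obtain ⟨x, b⟩ := p
    have e : (FreeGroup.mk ((x, b) :: L) : FreeGroup ON.Gen) =
        FreeGroup.mk [(x, b)] * FreeGroup.mk L := rfl
    rw [e, map_mul, ih]
    cases b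
    · have e1 : (FreeGroup.mk [(x, false)] : FreeGroup ON.Gen) = (FreeGroup.of x)⁻¹ := rfl
      rw [e1, map_inv, FreeGroup.lift_apply_of]
      show (mkW (tauW x))⁻¹ * mkW (tauWd L) = mkW (FreeGroup.invRev (tauW x) ++ tauWd L)
      rw [mkW_append, mkW_inv]
    · have e1 : (FreeGroup.mk [(x, true)] : FreeGroup ON.Gen) = FreeGroup.of x := rfl
      rw [e1, FreeGroup.lift_apply_of]
      show mkW (tauW x) * mkW (tauWd L) = mkW (tauW x ++ tauWd L)
      rw [mkW_append]

theorem node_cases (x : ON.Gen) (hx : x ∈ coxNodes ON.edges) : ∃ i, i < 6 ∧ x = gn (i + 1) := by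
  cases x
  · exact absurd hx (by decide)
  · exact ⟨0, by norm_num, rfl⟩
  · exact ⟨1, by norm_num, rfl⟩
  · exact ⟨2, by norm_num, rfl⟩
  · exact ⟨3, by norm_num, rfl⟩
  · exact ⟨4, by norm_num, rfl⟩
  · exact ⟨5, by norm_num, rfl⟩

theorem tau_rel : ∀ r ∈ RELS, FreeGroup.lift tauF r = 1 := by
  intro r hr
  rcases hr with hr | hr
  · obtain ⟨x, hx, y, hy, rfl⟩ := hr
    obtain ⟨i, hi, rfl⟩ := node_cases x hx
    obtain ⟨j, hj, rfl⟩ := node_cases y hy
    rw [map_pow, map_mul, FreeGroup.lift_apply_of, FreeGroup.lift_apply_of]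
    have c := (allFold_eq_true _ _).mp ((allFold_eq_true _ _).mp chk_tau_cox i hi) j hj
    have h := eqL1 c
    rw [mkW_flatten_repL] at h
    simp only [List.flatten_cons, List.flatten_nil, List.append_nil, mkW_append] at h
    exact h
  · have hr' : r ∈ ON.extra := hr
    simp only [ON.extra, List.mem_cons, List.not_mem_nil, or_false] at hr'
    have key : ∀ R : Wd, eqL wk1 [tauWd R] [] = true →
        FreeGroup.lift tauF (FreeGroup.mk R) = 1 := by
      intro R hR
      rw [lift_tauF_mk]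
      have h := eqL1 hR
      simp only [List.flatten_cons, List.flatten_nil, List.append_nil] at h
      exact h
    rcases hr' with rfl | rfl | rfl | rfl | rfl | rfl | rfl
    · rw [show ON.a * ON.f * (ON.g ^ 2)⁻¹ = FreeGroup.mk R1 by decide]
      exact key R1 chk_tau_ext.1
    · rw [show ON.a * ON.f * ((ON.c * ON.d) ^ 4)⁻¹ = FreeGroup.mk R2 by decide]
      exact key R2 chk_tau_ext.2.1
    · rw [show ON.c * ((ON.d * ON.g * ON.d * ON.g)⁻¹ * ON.c * (ON.d * ON.g * ON.d * ON.g)) =
        FreeGroup.mk R3 by decide]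
      exact key R3 chk_tau_ext.2.2.1
    · rw [show ON.d * ((ON.c * ON.g * ON.c * ON.g)⁻¹ * ON.d * (ON.c * ON.g * ON.c * ON.g)) =
        FreeGroup.mk R4 by decide]
      exact key R4 chk_tau_ext.2.2.2.1
    · rw [show (ON.b * ON.c * ON.d * ON.g) ^ 5 = FreeGroup.mk R5 by decide]
      exact key R5 chk_tau_ext.2.2.2.2.1
    · rw [show ON.g * ON.b * (ON.c⁻¹ * ON.g * ON.c) * (ON.b⁻¹ * ON.g * ON.b) *
        (ON.c⁻¹ * ON.g * ON.c) = FreeGroup.mk R6 by decide]
      exact key R6 chk_tau_ext.2.2.2.2.2.1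
    · rw [show ON.g * ON.e * (ON.d⁻¹ * ON.g * ON.d) * (ON.e⁻¹ * ON.g * ON.e) *
        (ON.d⁻¹ * ON.g * ON.d) = FreeGroup.mk R7 by decide]
      exact key R7 chk_tau_ext.2.2.2.2.2.2

/-- the endomorphism -/
noncomputable def tauHom : G →* G := PresentedGroup.toGroup (f := tauF) tau_rel

theorem tauHom_mkW (L : Wd) : tauHom (mkW L) = mkW (tauWd L) := lift_tauF_mk L

theorem tauHom_u0 : tauHom u0 = u0 := by
  have h := eqL1 chk_tau_uwt.1
  simp only [List.flatten_cons, List.flatten_nil, List.append_nil] at h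
  exact (tauHom_mkW U0).trans h

theorem tauHom_w0 : tauHom w0 = w0 := by
  have h := eqL1 chk_tau_uwt.2.1
  simp only [List.flatten_cons, List.flatten_nil, List.append_nil] at h
  exact (tauHom_mkW W0).trans h

theorem tauHom_t0 : tauHom t0 = t1 := by
  have h := eqL1 chk_tau_uwt.2.2.1
  simp only [List.flatten_cons, List.flatten_nil, List.append_nil] at h
  exact (tauHom_mkW T0).trans h

theorem t1_ne : t1 ≠ t0 := by
  have h := neL1 chk_tau_uwt.2.2.2
  simp only [List.flatten_cons, List.flatten_nil, List.append_nil] at h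
  exact h

theorem tauHom_bijective : Function.Bijective tauHom := by
  have hsimple : IsSimpleGroup G := Cfsg.Agent.S1699.result.1
  have hinj : Function.Injective tauHom := by
    rw [← MonoidHom.ker_eq_bot_iff]
    rcases hsimple.eq_bot_or_eq_top_of_normal tauHom.ker inferInstance with h | h
    · exact h
    · exfalso
      have : u0 ∈ tauHom.ker := by rw [h]; exact Subgroup.mem_top _
      rw [MonoidHom.mem_ker, tauHom_u0] at this
      exact u0_ne this
  exact Finite.injective_iff_bijective.mp hinj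

/-- the automorphism -/
noncomputable def tau : MulAut G := MulEquiv.ofBijective tauHom tauHom_bijective

theorem tau_apply (z : G) : tau z = tauHom z := rfl

/-! ### automorphisms fixing `u0`, `w0` and `t0` -/

theorem fix_piece (β : MulAut G) (hu : β u0 = u0) (hw : β w0 = w0) (ht : β t0 = t0) (c : ℕ) :
    β (mkW (piece c)) = mkW (piece c) := by
  match c with
  | 0 => exact hu
  | 1 =>
    show β (mkW (FreeGroup.invRev U0)) = mkW (FreeGroup.invRev U0)
    rw [← mkW_inv, map_inv]
    exact congrArg _ hu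
  | 2 => exact hw
  | 3 =>
    show β (mkW (FreeGroup.invRev W0)) = mkW (FreeGroup.invRev W0)
    rw [← mkW_inv, map_inv]
    exact congrArg _ hw
  | 4 => exact ht
  | 5 =>
    show β (mkW (FreeGroup.invRev T0)) = mkW (FreeGroup.invRev T0)
    rw [← mkW_inv, map_inv]
    exact congrArg _ ht
  | n + 6 =>
    show β (mkW []) = mkW []
    rw [mkW_nil, map_one]

theorem fix_pieces (β : MulAut G) (hu : β u0 = u0) (hw : β w0 = w0) (ht : β t0 = t0)
    (l : List ℕ) : β (mkW (l.map piece).flatten) = mkW (l.map piece).flatten := by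
  induction l with
  | nil =>
    show β (mkW []) = mkW []
    rw [mkW_nil, map_one]
  | cons c l ih =>
    show β (mkW (piece c ++ (l.map piece).flatten)) = mkW (piece c ++ (l.map piece).flatten)
    rw [mkW_append, map_mul, fix_piece β hu hw ht c, ih]

theorem fix_all (β : MulAut G) (hu : β u0 = u0) (hw : β w0 = w0) (ht : β t0 = t0) : β = 1 := by
  have hgen : ∀ i, i < 7 → β (PresentedGroup.of (gn i)) = PresentedGroup.of (gn i) := by
    intro i hi
    have c : eqL wk1 [[(gn i, true)]] ((gwl.getD i []).map piece) = true :=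
      (allFold_eq_true _ _).mp chk_gen i hi
    have h := eqL1 c
    simp only [List.flatten_cons, List.flatten_nil, List.append_nil] at h
    show β (mkW [(gn i, true)]) = mkW [(gn i, true)]
    rw [h]
    exact fix_pieces β hu hw ht _
  have hall : ∀ x : ON.Gen, β (PresentedGroup.of x) = PresentedGroup.of x := by
    intro x
    cases x
    · exact hgen 0 (by norm_num)
    · exact hgen 1 (by norm_num)
    · exact hgen 2 (by norm_num)
    · exact hgen 3 (by norm_num)
    · exact hgen 4 (by norm_num)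
    · exact hgen 5 (by norm_num)
    · exact hgen 6 (by norm_num)
  have h : β.toMonoidHom = MonoidHom.id G := PresentedGroup.ext hall
  ext z
  exact DFunLike.congr_fun h z

/-! ### the survivors -/

/-- the relations of a candidate -/
theorem pinT_false {r : ℕ} {c : Wd} (h1 : (u0 ^ r * mkW c) ^ 28 = 1)
    (h2 : (u0 ^ r * (u0 ^ r * mkW c)) ^ 28 = 1) (h3 : (u0 ^ r * (w0 * mkW c)) ^ 19 = 1) :
    pinT r c = false := by
  have e1 : eqL wk1 (repL 28 [repW r U0, c]) [] = true := by
    rw [wk1_eq]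
    apply eqL_of_eq
    rw [mkW_flatten_repL]
    simp only [List.flatten_cons, List.flatten_nil, List.append_nil, mkW_append, mkW_repW]
    exact h1
  have e2 : eqL wk1 (repL 28 [repW r U0, repW r U0, c]) [] = true := by
    rw [wk1_eq]
    apply eqL_of_eq
    rw [mkW_flatten_repL]
    simp only [List.flatten_cons, List.flatten_nil, List.append_nil, mkW_append, mkW_repW]
    exact h2
  have e3 : eqL wk1 (repL 19 [repW r U0, W0, c]) [] = true := by
    rw [wk1_eq]
    apply eqL_of_eq
    rw [mkW_flatten_repL]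
    simp only [List.flatten_cons, List.flatten_nil, List.append_nil, mkW_append, mkW_repW]
    exact h3
  unfold pinT
  rw [e1, e2, e3]
  rfl

/-- the inverse of `r` modulo 19 -/
def rinv : ℕ → ℕ
  | 2 => 10
  | 4 => 5
  | _ => 1

theorem surv (β : MulAut G) (r : ℕ) (hr : r ∈ [1, 2, 4]) (hβ : β u0 = u0 ^ r) :
    β ∈ Inn G ∨ tau⁻¹ * β ∈ Inn G := by
  have hrr : (r * rinv r) % 19 = 1 := by
    simp only [List.mem_cons, List.not_mem_nil, or_false] at hr
    rcases hr with rfl | rfl | rfl <;> rfl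
  have hur : (u0 ^ r) ^ rinv r = u0 := by
    rw [← pow_mul, ← pow_mod_orderOf, u0_order, hrr, pow_one]
  -- the image of `w0`
  set X : G := β w0 with hX
  have E0 : u0 ^ r * X = X * (u0 ^ r) ^ 8 := by
    have := congrArg β wu
    rwa [map_mul, map_mul, map_pow, hβ] at this
  have E1 : X⁻¹ * u0 ^ r * X = (u0 ^ r) ^ 8 := by
    rw [mul_assoc, E0, ← mul_assoc, inv_mul_cancel, one_mul]
  have E2 : X⁻¹ * u0 * X = u0 ^ 8 := by
    have h : (X⁻¹ * u0 ^ r * X) ^ rinv r = ((u0 ^ r) ^ 8) ^ rinv r :=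
      congrArg (fun g => g ^ rinv r) E1
    have e : (X⁻¹ * u0 ^ r * X) ^ rinv r = X⁻¹ * (u0 ^ r) ^ rinv r * X := by
      have := conj_pow (a := X⁻¹) (b := u0 ^ r) (i := rinv r)
      rw [inv_inv] at this
      exact this
    rw [e, hur, ← pow_mul, Nat.mul_comm, pow_mul, hur] at h
    exact h
  have E3 : w0⁻¹ * u0 * w0 = u0 ^ 8 := by
    rw [mul_assoc, wu, ← mul_assoc, inv_mul_cancel, one_mul]
  have hzc : (X * w0⁻¹) * u0 = u0 * (X * w0⁻¹) := by
    have e1 : u0 * X = X * u0 ^ 8 := by
      rw [← E2]; group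
    have e2 : w0⁻¹ * u0 = u0 ^ 8 * w0⁻¹ := by
      rw [← E3]; group
    calc (X * w0⁻¹) * u0 = X * (w0⁻¹ * u0) := by group
      _ = X * (u0 ^ 8 * w0⁻¹) := by rw [e2]
      _ = (X * u0 ^ 8) * w0⁻¹ := by group
      _ = (u0 * X) * w0⁻¹ := by rw [e1]
      _ = u0 * (X * w0⁻¹) := by group
  obtain ⟨i, hi, hzi⟩ := cent_u _ hzc
  have hXw : X = u0 ^ i * w0 := by
    rw [← hzi]; group
  -- the adjustment
  have hadj : u0 ^ ((7 * i) % 19) * (u0 ^ i * w0) = w0 * u0 ^ ((7 * i) % 19) := by
    have c : eqL wk1 [repW ((7 * i) % 19) U0, repW i U0, W0] [W0, repW ((7 * i) % 19) U0]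
        = true := (allFold_eq_true _ _).mp chk_adj i hi
    have h := eqL1 c
    simp only [List.flatten_cons, List.flatten_nil, List.append_nil, mkW_append, mkW_repW] at h
    exact h
  generalize (7 * i) % 19 = m at hadj
  have hγ_apply : ∀ t, (MulAut.conj (u0 ^ m) * β) t = u0 ^ m * β t * (u0 ^ m)⁻¹ := by
    intro t
    rw [MulAut.mul_apply, MulAut.conj_apply]
  have hγu : (MulAut.conj (u0 ^ m) * β) u0 = u0 ^ r := by
    rw [hγ_apply, hβ, ← pow_add, Nat.add_comm, pow_add, mul_inv_cancel_right]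
  have hγw : (MulAut.conj (u0 ^ m) * β) w0 = w0 := by
    rw [hγ_apply, ← hX, hXw, hadj, mul_inv_cancel_right]
  -- it suffices to treat the adjusted automorphism
  suffices hγ : MulAut.conj (u0 ^ m) * β = 1 ∨ MulAut.conj (u0 ^ m) * β = tau by
    rcases hγ with h | h
    · left
      refine ⟨(u0 ^ m)⁻¹, ?_⟩
      have e : β = (MulAut.conj (u0 ^ m))⁻¹ * (MulAut.conj (u0 ^ m) * β) := by group
      rw [e, h, mul_one, map_inv]
    · right
      have e : β = (MulAut.conj (u0 ^ m))⁻¹ * (MulAut.conj (u0 ^ m) * β) := by group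
      rw [e, h]
      have hn : (MulAut.conj (u0 ^ m))⁻¹ ∈ Inn G := ⟨(u0 ^ m)⁻¹, map_inv _ _⟩
      have := (innNormal G).conj_mem _ hn tau⁻¹
      rw [inv_inv] at this
      rw [← mul_assoc]
      exact this
  generalize MulAut.conj (u0 ^ m) * β = γ at hγu hγw ⊢
  -- the image of `t0`
  have hct : γ t0 * w0 = w0 * γ t0 := by
    have := congrArg γ tw
    rwa [map_mul, map_mul, hγw] at this
  obtain ⟨i', hi', c, hc, hγt⟩ := cent_w _ hct
  have h1 : (u0 ^ r * mkW c) ^ 28 = 1 := by
    have := congrArg γ rel1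
    rwa [map_pow, map_mul, hγu, hγt, map_one] at this
  have h2 : (u0 ^ r * (u0 ^ r * mkW c)) ^ 28 = 1 := by
    have := congrArg γ rel2
    rwa [map_pow, map_mul, map_mul, hγu, hγt, map_one] at this
  have h3 : (u0 ^ r * (w0 * mkW c)) ^ 19 = 1 := by
    have := congrArg γ rel3
    rwa [map_pow, map_mul, map_mul, hγu, hγw, hγt, map_one] at this
  have hp := pinT_false h1 h2 h3
  simp only [List.mem_cons, List.not_mem_nil, or_false] at hr
  rcases hr with rfl | rfl | rfl
  · -- `r = 1`
    have hpin := (List.all_eq_true.mp ((allFold_eq_true _ _).mp chk_pin1 i' hi')) c hc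
    rw [hp] at hpin
    simp only [Bool.or_false, Bool.or_eq_true] at hpin
    rw [pow_one] at hγu
    rcases hpin with he | he
    · left
      have h := eqL1 he
      simp only [List.flatten_cons, List.flatten_nil, List.append_nil] at h
      apply fix_all γ hγu hγw
      rw [hγt, h]
      rfl
    · right
      have h := eqL1 he
      simp only [List.flatten_cons, List.flatten_nil, List.append_nil] at h
      have hδ : tau⁻¹ * γ = 1 := by
        apply fix_all
        · rw [MulAut.mul_apply, hγu]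
          apply tau.injective
          rw [MulAut.apply_inv_self, tau_apply, tauHom_u0]
        · rw [MulAut.mul_apply, hγw]
          apply tau.injective
          rw [MulAut.apply_inv_self, tau_apply, tauHom_w0]
        · rw [MulAut.mul_apply, hγt, h]
          apply tau.injective
          rw [MulAut.apply_inv_self, tau_apply, tauHom_t0]
          rfl
      exact (inv_mul_eq_one.mp hδ).symm
  · -- `r = 2`
    exfalso
    have hpin := (List.all_eq_true.mp ((allFold_eq_true _ _).mp chk_pin2 i' hi')) c hc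
    rw [hp] at hpin
    exact Bool.noConfusion hpin
  · -- `r = 4`
    exfalso
    have hpin := (List.all_eq_true.mp ((allFold_eq_true _ _).mp chk_pin4 i' hi')) c hc
    rw [hp] at hpin
    exact Bool.noConfusion hpin

/-! ### `tau` is not inner -/

theorem tau_not_inn : tau ∉ Inn G := by
  rintro ⟨x, hx⟩
  have hxu : x * u0 * x⁻¹ = u0 := by
    have : MulAut.conj x u0 = tau u0 := by rw [hx]
    rw [MulAut.conj_apply, tau_apply, tauHom_u0] at this
    exact this
  have hxw : x * w0 * x⁻¹ = w0 := by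
    have : MulAut.conj x w0 = tau w0 := by rw [hx]
    rw [MulAut.conj_apply, tau_apply, tauHom_w0] at this
    exact this
  have hxt : x * t0 * x⁻¹ = t1 := by
    have : MulAut.conj x t0 = tau t0 := by rw [hx]
    rw [MulAut.conj_apply, tau_apply, tauHom_t0] at this
    exact this
  have hc : x * u0 = u0 * x := by
    calc x * u0 = (x * u0 * x⁻¹) * x := by group
      _ = u0 * x := by rw [hxu]
  obtain ⟨i, hi, rfl⟩ := cent_u x hc
  have hcw : u0 ^ i * w0 = w0 * u0 ^ i := by
    calc u0 ^ i * w0 = (u0 ^ i * w0 * (u0 ^ i)⁻¹) * u0 ^ i := by group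
      _ = w0 * u0 ^ i := by rw [hxw]
  rcases Nat.eq_zero_or_pos i with h0 | hpos
  · subst h0
    rw [pow_zero, one_mul, inv_one, mul_one] at hxt
    exact t1_ne hxt.symm
  · obtain ⟨j, rfl⟩ : ∃ j, i = j + 1 := ⟨i - 1, by omega⟩
    have c : (!(eqL wk1 [repW (j + 1) U0, W0] [W0, repW (j + 1) U0])) = true :=
      (allFold_eq_true _ _).mp chk_nc j (by omega)
    rw [Bool.not_eq_true'] at c
    have h := neL1 c
    simp only [List.flatten_cons, List.flatten_nil, List.append_nil, mkW_append, mkW_repW] at h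
    exact h hcw

/-! ### the result -/

theorem reps : ∀ k, k < 19 → k ≠ 0 → ∃ m r, r ∈ [1, 2, 4] ∧ (k * 8 ^ m) % 19 = r % 19 := by
  intro k hk hk0
  have key : ∀ k : Fin 19, k.val ≠ 0 → ∃ m : Fin 6, ∃ r : Fin 5, r.val ∈ [1, 2, 4] ∧
      (k.val * 8 ^ m.val) % 19 = r.val % 19 := by decide
  obtain ⟨m, r, hr, h⟩ := key ⟨k, hk⟩ hk0
  exact ⟨m.val, r.val, hr, h⟩

theorem card_out : Nat.card (Out G) = 2 := by
  have hp : Fact (Nat.Prime 19) := ⟨by norm_num⟩
  have hcard : Nat.card G = 19 * 24253447680 := by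
    rw [card_eq]
  have hw : w0⁻¹ * u0 * w0⁻¹⁻¹ = u0 ^ 8 := by
    rw [inv_inv, mul_assoc, wu, ← mul_assoc, inv_mul_cancel, one_mul]
  exact Cfsg.Agent.Lib.Helper35_OutReps.card_out_eq_two_of_reps 19 24253447680 8 hcard
    (by norm_num) u0 w0⁻¹ u0_order hw [1, 2, 4] reps tau tau_not_inn
    (fun α r hr hα => surv α r hr hα)

end Cfsg.Agent.Lib.Helper35_ONOut
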