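import Cfsg.Agent.Lib.Helper35_ONOutDat

set_option autoImplicit false
set_option linter.constructorNameAsVariable false
set_option Elab.async false

/-!
# The fixed points of two elements of the O'Nan group, first part (helper35, for S2078)

Generated.  The computations are cut into parts: the kernel keeps what it computed until the end
of a theorem.
-/

namespace Cfsg.Agent.Lib.Helper35_ONOutChkF

open Cfsg.Spor Cfsg.Agent.Lib.Helper35_ONNormDef Cfsg.Agent.Lib.Helper35_ONFastBase
  Cfsg.Agent.Lib.Helper35_ONNormCert
  Cfsg.Agent.Lib.Helper35_ONOutDat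

/-- the point `0` is the only fixed point of `U0` -/
noncomputable def fixuF (k : ℕ) : Bool := !(Nat.beq (wk1 U0 (k * 22)) (k * 22)) || Nat.beq k 0

/-- the fixed points of `W0` are in the list -/
noncomputable def fixwF (k : ℕ) : Bool :=
  !(Nat.beq (wk1 W0 (k * 22)) (k * 22)) || fixW.any (fun p => Nat.beq k p)

theorem fixu_0 : allFold (fun k => fixuF (0 * 15345 + k)) 15345 = true := by
  decide +kernel

theorem fixu_1 : allFold (fun k => fixuF (1 * 15345 + k)) 15345 = true := by
  decide +kernel

theorem fixu_2 : allFold (fun k => fixuF (2 * 15345 + k)) 15345 = true := by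
  decide +kernel

theorem fixu_3 : allFold (fun k => fixuF (3 * 15345 + k)) 15345 = true := by
  decide +kernel

theorem fixu_4 : allFold (fun k => fixuF (4 * 15345 + k)) 15345 = true := by
  decide +kernel

theorem fixu_5 : allFold (fun k => fixuF (5 * 15345 + k)) 15345 = true := by
  decide +kernel

theorem fixu_6 : allFold (fun k => fixuF (6 * 15345 + k)) 15345 = true := by
  decide +kernel

theorem fixu_7 : allFold (fun k => fixuF (7 * 15345 + k)) 15345 = true := by
  decide +kernel

theorem chk_fixu : allFold fixuF 122760 = true := by
  have e : 8 * 15345 = 122760 := by norm_num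
  rw [← e]
  apply allFold_split
  intro i hi
  interval_cases i
  · exact fixu_0
  · exact fixu_1
  · exact fixu_2
  · exact fixu_3
  · exact fixu_4
  · exact fixu_5
  · exact fixu_6
  · exact fixu_7

theorem fixw_0 : allFold (fun k => fixwF (0 * 4092 + k)) 4092 = true := by
  decide +kernel

theorem fixw_1 : allFold (fun k => fixwF (1 * 4092 + k)) 4092 = true := by
  decide +kernel

theorem fixw_2 : allFold (fun k => fixwF (2 * 4092 + k)) 4092 = true := by
  decide +kernel

theorem fixw_3 : allFold (fun k => fixwF (3 * 4092 + k)) 4092 = true := by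
  decide +kernel

theorem fixw_4 : allFold (fun k => fixwF (4 * 4092 + k)) 4092 = true := by
  decide +kernel

theorem fixw_5 : allFold (fun k => fixwF (5 * 4092 + k)) 4092 = true := by
  decide +kernel

end Cfsg.Agent.Lib.Helper35_ONOutChkF
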