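import Cfsg.Agent.Lib.Helper35_ONOutChkFU

set_option autoImplicit false
set_option linter.constructorNameAsVariable false
set_option Elab.async false

/-!
# The fixed points of two elements of the O'Nan group, second part (helper35, for S2078)

Generated.  The computations are cut into parts: the kernel keeps what it computed until the end
of a theorem.
-/

namespace Cfsg.Agent.Lib.Helper35_ONOutChkF

open Cfsg.Spor Cfsg.Agent.Lib.Helper35_ONNormDef Cfsg.Agent.Lib.Helper35_ONFastBase
  Cfsg.Agent.Lib.Helper35_ONNormCert
  Cfsg.Agent.Lib.Helper35_ONOutDat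

theorem fixw_6 : allFold (fun k => fixwF (6 * 4092 + k)) 4092 = true := by
  decide +kernel

theorem fixw_7 : allFold (fun k => fixwF (7 * 4092 + k)) 4092 = true := by
  decide +kernel

theorem fixw_8 : allFold (fun k => fixwF (8 * 4092 + k)) 4092 = true := by
  decide +kernel

theorem fixw_9 : allFold (fun k => fixwF (9 * 4092 + k)) 4092 = true := by
  decide +kernel

theorem fixw_10 : allFold (fun k => fixwF (10 * 4092 + k)) 4092 = true := by
  decide +kernel

theorem fixw_11 : allFold (fun k => fixwF (11 * 4092 + k)) 4092 = true := by
  decide +kernel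

theorem fixw_12 : allFold (fun k => fixwF (12 * 4092 + k)) 4092 = true := by
  decide +kernel

theorem fixw_13 : allFold (fun k => fixwF (13 * 4092 + k)) 4092 = true := by
  decide +kernel

theorem fixw_14 : allFold (fun k => fixwF (14 * 4092 + k)) 4092 = true := by
  decide +kernel

theorem fixw_15 : allFold (fun k => fixwF (15 * 4092 + k)) 4092 = true := by
  decide +kernel

theorem fixw_16 : allFold (fun k => fixwF (16 * 4092 + k)) 4092 = true := by
  decide +kernel

theorem fixw_17 : allFold (fun k => fixwF (17 * 4092 + k)) 4092 = true := by
  decide +kernel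

end Cfsg.Agent.Lib.Helper35_ONOutChkF
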