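import Cfsg.Agent.Lib.Helper35_ONNormCert

set_option autoImplicit false

/-!
# Words for the outer automorphism group of the O'Nan group (helper35, for S2078)

`U0` has order 19 and fixes the point `0` only; `W0` has order 6, normalises `⟨U0⟩`
(`U0 W0 = W0 U0^8`) and fixes nine points; `T0` commutes with `W0`; the three generate the group
(`gwl`: the seven generators as words in them); `tauW`: the images of the generators under an outer
automorphism fixing `U0` and `W0` and mapping `T0` to `T1`; `SL i` leads the `i`-th fixed point of
`W0` to the point `0`, and `ZL i` lists the elements `Z` of the stabiliser of `0` with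
`Z W0 = (SL i) W0 (SL i)⁻¹ Z`, so that the words `(SL i)⁻¹ Z` form the centraliser of `W0`.
-/

namespace Cfsg.Agent.Lib.Helper35_ONOutDat

open Cfsg.Spor Cfsg.Agent.Lib.Helper35_ONNormDef Cfsg.Agent.Lib.Helper35_ONFastBase

/-- an element of order 19 -/
def U0 : Wd := [(.a, true), (.b, true), (.c, true), (.d, true), (.e, true), (.f, true)]

/-- an element of order 6 normalising `⟨U0⟩` -/
def W0 : Wd := [(.c, true), (.d, true), (.c, true), (.b, true), (.d, true), (.c, true), (.e, true), (.d, true), (.c, true), (.b, true), (.a, true), (.d, true), (.c, true), (.d, true), (.e, true), (.d, true), (.c, true), (.b, true), (.d, true), (.c, true), (.d, true), (.c, true), (.e, true)]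

/-- an element commuting with `W0` -/
def T0 : Wd := [(.b, true), (.a, true), (.c, true), (.b, true), (.e, true), (.d, true), (.c, true), (.b, true), (.d, true), (.c, true), (.b, true), (.e, true), (.d, true), (.c, true), (.d, true), (.c, true), (.g, true), (.b, true), (.c, true), (.d, true), (.c, true), (.g, false), (.b, true), (.a, true), (.e, true), (.f, true)]

/-- its image under the outer automorphism -/
def T1 : Wd := [(.a, true), (.b, true), (.c, true), (.d, true), (.e, true), (.d, true), (.c, true), (.b, true), (.d, true), (.c, true), (.b, true), (.d, true), (.c, true), (.b, true), (.a, true), (.e, true), (.d, true), (.c, true), (.b, true), (.d, true), (.c, true), (.d, true), (.c, true), (.e, true), (.d, true), (.g, true), (.b, true), (.a, true), (.c, true), (.b, true), (.e, true), (.d, true), (.c, true), (.b, true), (.g, true), (.e, true), (.g, true), (.d, true), (.e, true), (.g, false), (.c, true)]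

/-- the generators by number -/
def gn : ℕ → ON.Gen
  | 0 => .g
  | 1 => .a
  | 2 => .b
  | 3 => .c
  | 4 => .d
  | 5 => .e
  | _ => .f

/-- the pieces -/
def piece : ℕ → Wd
  | 0 => U0
  | 1 => FreeGroup.invRev U0
  | 2 => W0
  | 3 => FreeGroup.invRev W0
  | 4 => T0
  | 5 => FreeGroup.invRev T0
  | _ => []

/-- the generators `g, a, b, c, d, e, f` as words in the pieces -/
def gwl : List (List ℕ) := [
  [2, 4, 1, 5, 0, 2, 1, 4, 1, 4, 0, 5, 5, 1, 4, 4, 0, 5, 5, 2],
  [2, 0, 0, 4, 4, 0, 3, 5, 1, 4, 1, 5, 1, 4, 2, 0, 5, 5, 3, 0, 0],
  [1, 2, 4, 4, 1, 3, 5, 0, 4, 0, 5, 0, 4, 2, 1, 5, 5, 0, 3, 0],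
  [2, 4, 4, 1, 3, 5, 0, 4, 0, 5, 0, 4, 2, 1, 5, 5, 0, 3],
  [2, 1, 4, 4, 1, 3, 5, 0, 4, 0, 5, 0, 4, 2, 1, 5, 5, 0, 0, 3],
  [4, 4, 0, 0, 3, 5, 5, 1, 5, 1, 5, 0, 4, 0, 0, 2, 1, 5, 5, 5, 1, 1],
  [5, 0, 5, 1, 1, 1, 5, 1, 5, 0, 4, 4, 0, 5, 1, 1, 4, 1, 4, 2]]

/-- the images of the generators under the outer automorphism -/
def tauW : ON.Gen → Wd
  | .g => [(.b, true), (.d, true), (.f, true), (.e, true), (.d, true), (.c, true), (.b, true), (.d, true), (.c, true), (.b, true), (.e, true), (.d, true), (.c, true), (.b, true), (.d, true), (.f, true), (.e, true), (.d, true), (.c, true), (.b, true), (.d, true), (.c, true), (.b, true), (.e, true), (.d, true), (.c, true), (.b, true), (.d, true), (.c, true), (.d, true), (.e, true), (.g, true), (.b, true), (.g, true), (.c, true), (.b, true), (.d, true), (.c, true), (.d, true), (.e, true), (.d, true), (.c, true), (.g, false), (.e, true), (.d, true), (.g, true), (.b, true)]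
  | .a => [(.a, true), (.d, true), (.f, true), (.e, true), (.d, true), (.c, true), (.b, true), (.d, true), (.c, true), (.d, true), (.c, true), (.b, true), (.e, true), (.d, true), (.c, true), (.b, true), (.d, true), (.c, true), (.b, true), (.e, true), (.d, true), (.c, true), (.d, true), (.c, true), (.b, true), (.e, true), (.d, true), (.g, true), (.b, true), (.c, true), (.d, true), (.c, true), (.g, false), (.b, true), (.e, true), (.d, true), (.c, true), (.b, true), (.g, true), (.e, true), (.d, true), (.c, true)]
  | .b => [(.b, true), (.a, true), (.e, true), (.d, true), (.f, true), (.e, true), (.d, true), (.c, true), (.b, true), (.d, true), (.c, true), (.b, true), (.a, true), (.d, true), (.e, true), (.d, true), (.c, true), (.d, true), (.f, true), (.e, true), (.g, true), (.e, true), (.g, false), (.d, true), (.c, true), (.b, true), (.d, true), (.g, false), (.c, true), (.b, true), (.e, true), (.d, true), (.c, true), (.g, true)]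
  | .c => [(.a, true), (.c, true), (.b, true), (.d, true), (.c, true), (.d, true), (.e, true), (.d, true), (.c, true), (.b, true), (.a, true), (.d, true), (.c, true), (.b, true), (.a, true), (.e, true), (.d, true), (.c, true), (.b, true), (.f, true), (.e, true), (.d, true), (.c, true), (.b, true), (.d, true), (.c, true), (.e, true), (.d, true), (.c, true), (.f, true), (.e, true), (.g, true), (.b, true), (.a, true), (.e, true), (.d, true), (.c, true), (.b, true), (.d, true), (.c, true), (.g, true), (.b, true), (.e, true), (.d, true), (.c, true), (.d, true)]
  | .d => [(.a, true), (.b, true), (.c, true), (.d, true), (.c, true), (.b, true), (.e, true), (.d, true), (.c, true), (.d, true), (.c, true), (.b, true), (.e, true), (.d, true), (.c, true), (.d, true), (.c, true), (.b, true), (.e, true), (.d, true), (.c, true), (.b, true), (.a, true), (.d, true), (.c, true), (.b, true), (.g, true), (.b, true), (.g, false), (.c, true), (.d, true), (.c, true), (.e, true), (.g, false), (.b, true), (.d, true), (.c, true), (.g, false), (.b, true), (.g, false), (.c, true)]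
  | .e => [(.a, true), (.b, true), (.a, true), (.c, true), (.b, true), (.e, true), (.d, true), (.c, true), (.b, true), (.d, true), (.e, true), (.f, true), (.e, true), (.d, true), (.c, true), (.b, true), (.a, true), (.d, true), (.c, true), (.b, true), (.g, true), (.b, true), (.g, false), (.c, true), (.d, true), (.c, true), (.e, true), (.g, false), (.b, true), (.d, true), (.c, true), (.e, true), (.d, true), (.g, true)]
  | .f => [(.a, true), (.b, true), (.c, true), (.b, true), (.a, true), (.e, true), (.d, true), (.c, true), (.b, true), (.a, true), (.d, true), (.c, true), (.b, true), (.e, true), (.d, true), (.c, true), (.d, true), (.c, true), (.b, true), (.e, true), (.d, true), (.c, true), (.d, true), (.c, true), (.b, true), (.a, true), (.e, true), (.d, true), (.c, true), (.b, true), (.g, true), (.b, true), (.c, true), (.d, true), (.c, true), (.e, true), (.d, true), (.g, true), (.b, true), (.c, true), (.e, true), (.g, true), (.b, true), (.d, true), (.g, false)]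

/-- the image of a word under the outer automorphism -/
def tauWd : Wd → Wd
  | [] => []
  | (x, true) :: L => tauW x ++ tauWd L
  | (x, false) :: L => FreeGroup.invRev (tauW x) ++ tauWd L

/-- the fixed points of `W0` -/
def fixW : List ℕ := [0, 4632, 16145, 39974, 72328, 94285, 113756, 115346, 119594]

/-- words leading the fixed points of `W0` to the point `0` -/
def SL : ℕ → Wd
  | 0 => []
  | 1 => [(.g, true), (.b, true), (.c, true), (.d, true), (.c, true), (.g, false), (.b, true), (.a, true), (.e, true), (.f, true)]
  | 2 => [(.g, true), (.b, true), (.a, true), (.c, true), (.b, true), (.d, true), (.g, false), (.c, true), (.e, true), (.d, true), (.c, true), (.b, true)]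
  | 3 => [(.g, true), (.b, true), (.c, true), (.d, true), (.c, true), (.d, true), (.e, true), (.d, true), (.g, false), (.e, true), (.g, false), (.b, true), (.c, true)]
  | 4 => [(.g, true), (.b, true), (.c, true), (.d, true), (.c, true), (.d, true), (.e, true), (.d, true), (.c, true), (.g, false), (.b, true), (.c, true), (.g, true), (.d, true)]
  | 5 => [(.g, true), (.b, true), (.g, true), (.c, true), (.d, true), (.c, true), (.b, true), (.a, true), (.e, true), (.d, true), (.g, true), (.c, true), (.g, true), (.b, true), (.e, true)]
  | 6 => [(.g, true), (.d, true), (.e, true), (.d, true), (.c, true), (.b, true), (.d, true), (.g, true), (.c, true), (.b, true), (.e, true), (.g, false), (.d, true), (.c, true), (.d, true)]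
  | 7 => [(.g, true), (.e, true), (.d, true), (.g, false), (.c, true), (.b, true), (.d, true), (.c, true), (.e, true), (.d, true), (.c, true), (.b, true), (.g, false), (.b, true), (.c, true)]
  | 8 => [(.g, true), (.b, true), (.a, true), (.c, true), (.b, true), (.e, true), (.d, true), (.c, true), (.b, true), (.g, true), (.e, true), (.g, true), (.d, true), (.e, true), (.g, false), (.c, true)]
  | _ => []

/-- the conjugating elements -/
def ZL : ℕ → List Wd
  | 0 => [[],
    [(.b, true), (.a, true), (.c, true), (.b, true), (.d, true), (.c, true), (.b, true), (.a, true), (.d, true), (.c, true), (.e, true), (.d, true), (.c, true), (.b, true), (.a, true), (.d, true), (.c, true), (.b, true), (.e, true), (.d, true), (.c, true), (.b, true), (.d, true), (.c, true), (.b, true), (.e, true), (.f, true)],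
    [(.c, true), (.d, true), (.c, true), (.b, true), (.d, true), (.c, true), (.e, true), (.d, true), (.c, true), (.b, true), (.a, true), (.d, true), (.c, true), (.d, true), (.e, true), (.d, true), (.c, true), (.b, true), (.d, true), (.c, true), (.d, true), (.c, true), (.e, true)],
    [(.a, true), (.b, true), (.e, true), (.d, true), (.c, true), (.f, true), (.e, true), (.d, true), (.c, true), (.b, true), (.d, true), (.c, true), (.d, true), (.e, true), (.d, true), (.c, true), (.b, true), (.d, true), (.c, true), (.b, true), (.d, true), (.e, true)],
    [(.c, true), (.e, true), (.d, true), (.c, true), (.b, true), (.a, true), (.d, true), (.c, true), (.d, true), (.e, true), (.d, true), (.c, true), (.b, true), (.d, true), (.c, true), (.d, true), (.c, true), (.b, true), (.e, true), (.d, true), (.c, true), (.d, true), (.c, true)],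
    [(.b, true), (.e, true), (.d, true), (.c, true), (.b, true), (.d, true), (.c, true), (.d, true), (.e, true), (.d, true), (.c, true), (.b, true), (.d, true), (.c, true), (.d, true), (.c, true), (.b, true), (.a, true), (.e, true), (.d, true), (.f, true), (.e, true)],
    [(.a, true), (.c, true), (.b, true), (.d, true), (.c, true), (.e, true), (.d, true), (.c, true), (.f, true), (.e, true), (.d, true), (.c, true), (.b, true), (.d, true), (.c, true), (.d, true), (.c, true), (.b, true), (.e, true), (.d, true), (.c, true), (.d, true), (.c, true), (.e, true), (.d, true), (.c, true), (.b, true), (.f, true)],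
    [(.a, true), (.b, true), (.a, true), (.f, true), (.e, true), (.d, true), (.c, true), (.b, true), (.a, true), (.d, true), (.c, true), (.b, true), (.e, true), (.d, true), (.c, true), (.f, true), (.e, true), (.d, true), (.c, true), (.b, true), (.d, true), (.c, true), (.e, true), (.d, true), (.c, true), (.b, true), (.d, true)],
    [(.c, true), (.d, true), (.c, true), (.b, true), (.e, true), (.d, true), (.c, true), (.b, true), (.d, true), (.c, true), (.e, true), (.d, true), (.c, true), (.f, true), (.e, true), (.d, true), (.c, true), (.b, true), (.d, true), (.c, true), (.d, true), (.c, true), (.e, true), (.d, true), (.c, true)],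
    [(.a, true), (.b, true), (.a, true), (.c, true), (.e, true), (.d, true), (.c, true), (.f, true), (.e, true), (.d, true), (.c, true), (.b, true), (.d, true), (.c, true), (.d, true), (.e, true), (.d, true), (.c, true), (.b, true), (.d, true), (.c, true), (.d, true), (.e, true), (.d, true), (.f, true), (.e, true), (.d, true), (.c, true), (.b, true), (.a, true)],
    [(.c, true), (.b, true), (.d, true), (.c, true), (.b, true), (.e, true), (.d, true), (.c, true), (.b, true), (.d, true), (.c, true), (.b, true), (.e, true), (.d, true), (.c, true), (.b, true), (.d, true), (.c, true), (.e, true), (.d, true), (.c, true), (.b, true), (.d, true), (.c, true), (.d, true), (.e, true), (.d, true), (.f, true), (.e, true)],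
    [(.b, true), (.c, true), (.d, true), (.c, true), (.f, true), (.e, true), (.d, true), (.c, true), (.b, true), (.d, true), (.c, true), (.e, true), (.d, true), (.c, true), (.b, true), (.d, true), (.c, true), (.d, true), (.c, true), (.e, true), (.d, true), (.c, true), (.b, true), (.a, true), (.f, true), (.e, true), (.d, true), (.c, true)]]
  | 1 => [[(.c, true), (.b, true), (.a, true), (.d, true), (.c, true), (.d, true), (.e, true), (.d, true), (.c, true), (.b, true), (.d, true), (.e, true), (.f, true), (.e, true)],
    [(.a, true), (.d, true), (.c, true), (.b, true), (.d, true), (.c, true), (.f, true), (.e, true), (.d, true), (.c, true), (.b, true), (.a, true), (.d, true), (.c, true), (.b, true), (.e, true)],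
    [(.a, true), (.c, true), (.b, true), (.a, true), (.d, true), (.c, true), (.d, true), (.e, true), (.d, true), (.c, true), (.b, true), (.d, true), (.c, true), (.d, true), (.c, true), (.b, true), (.e, true), (.d, true), (.c, true), (.d, true), (.e, true), (.f, true), (.e, true)],
    [(.b, true), (.a, true), (.c, true), (.d, true), (.e, true), (.d, true), (.c, true), (.b, true), (.d, true), (.c, true), (.b, true), (.d, true), (.c, true), (.e, true), (.d, true), (.c, true), (.b, true), (.a, true), (.f, true), (.e, true), (.d, true), (.c, true)],
    [(.d, true), (.c, true), (.b, true), (.d, true), (.c, true), (.b, true), (.e, true), (.d, true), (.c, true), (.b, true), (.a, true), (.d, true), (.f, true), (.e, true), (.d, true), (.c, true), (.b, true), (.a, true), (.d, true), (.c, true), (.e, true), (.d, true), (.c, true)],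
    [(.a, true), (.b, true), (.d, true), (.c, true), (.d, true), (.c, true), (.b, true), (.e, true), (.d, true), (.c, true), (.b, true), (.d, true), (.c, true), (.b, true), (.a, true), (.e, true), (.d, true), (.c, true), (.b, true), (.d, true), (.c, true), (.d, true), (.c, true), (.e, true), (.f, true)],
    [(.a, true), (.d, true), (.c, true), (.b, true), (.d, true), (.c, true), (.b, true), (.d, true), (.e, true), (.d, true), (.c, true), (.b, true), (.d, true), (.c, true), (.b, true), (.e, true), (.d, true), (.c, true), (.b, true), (.d, true), (.c, true), (.f, true), (.e, true), (.d, true), (.c, true), (.b, true), (.d, true)],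
    [(.c, true), (.e, true), (.d, true), (.c, true), (.b, true), (.d, true), (.c, true), (.d, true), (.c, true), (.e, true), (.d, true), (.c, true), (.b, true), (.d, true), (.c, true), (.d, true), (.e, true), (.d, true), (.c, true), (.b, true), (.a, true), (.d, true), (.f, true), (.e, true)],
    [(.f, true), (.e, true), (.d, true), (.c, true), (.b, true), (.d, true), (.c, true), (.d, true), (.c, true), (.b, true), (.e, true), (.d, true), (.c, true), (.b, true), (.d, true), (.c, true), (.e, true), (.f, true), (.e, true), (.d, true), (.c, true), (.b, true)],
    [(.a, true), (.e, true), (.f, true), (.e, true), (.d, true), (.c, true), (.b, true), (.d, true), (.c, true), (.d, true), (.e, true), (.d, true), (.c, true), (.b, true), (.a, true), (.d, true), (.c, true), (.b, true), (.d, true), (.c, true), (.d, true), (.e, true), (.d, true), (.c, true), (.b, true), (.d, true), (.c, true), (.e, true), (.f, true)],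
    [(.d, true), (.c, true), (.b, true), (.a, true), (.d, true), (.e, true), (.f, true), (.e, true), (.d, true), (.c, true), (.b, true), (.d, true), (.c, true), (.d, true), (.e, true), (.d, true), (.c, true), (.b, true), (.d, true), (.c, true), (.d, true), (.e, true), (.d, true), (.c, true), (.b, true), (.d, true), (.c, true), (.b, true), (.d, true), (.e, true)],
    [(.e, true), (.d, true), (.c, true), (.b, true), (.d, true), (.c, true), (.b, true), (.e, true), (.d, true), (.c, true), (.b, true), (.d, true), (.c, true), (.e, true), (.d, true), (.c, true), (.f, true), (.e, true), (.d, true), (.c, true), (.b, true), (.a, true), (.d, true), (.c, true), (.b, true), (.d, true), (.c, true)]]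
  | 2 => []
  | 3 => []
  | 4 => [[(.d, true), (.c, true), (.b, true), (.a, true), (.d, true), (.c, true), (.b, true), (.a, true), (.d, true), (.e, true), (.d, true), (.c, true), (.b, true), (.d, true), (.c, true), (.d, true), (.e, true), (.d, true), (.c, true), (.b, true), (.d, true), (.c, true)],
    [(.a, true), (.c, true), (.b, true), (.d, true), (.c, true), (.d, true), (.c, true), (.e, true), (.d, true), (.c, true), (.b, true), (.d, true), (.c, true), (.e, true), (.d, true), (.c, true), (.f, true), (.e, true), (.d, true), (.c, true), (.b, true), (.d, true)],
    [(.a, true), (.c, true), (.b, true), (.d, true), (.c, true), (.b, true), (.f, true), (.e, true), (.d, true), (.c, true), (.b, true), (.d, true), (.c, true), (.d, true), (.e, true), (.d, true), (.c, true), (.b, true), (.a, true), (.f, true), (.e, true), (.d, true), (.c, true), (.b, true), (.a, true)],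
    [(.a, true), (.b, true), (.c, true), (.b, true), (.a, true), (.d, true), (.c, true), (.b, true), (.a, true), (.d, true), (.c, true), (.d, true), (.e, true), (.d, true), (.c, true), (.b, true), (.d, true), (.c, true), (.b, true), (.d, true), (.e, true), (.d, true), (.c, true), (.b, true), (.f, true), (.e, true), (.d, true), (.c, true), (.d, true), (.e, true), (.f, true)],
    [(.a, true), (.b, true), (.a, true), (.d, true), (.c, true), (.d, true), (.e, true), (.d, true), (.c, true), (.b, true), (.d, true), (.c, true), (.d, true), (.f, true), (.e, true), (.d, true), (.c, true), (.b, true), (.d, true), (.c, true), (.d, true), (.e, true), (.d, true), (.c, true), (.b, true), (.a, true)],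
    [(.b, true), (.a, true), (.d, true), (.f, true), (.e, true), (.d, true), (.c, true), (.b, true), (.d, true), (.c, true), (.e, true), (.d, true), (.c, true), (.b, true), (.d, true), (.c, true), (.d, true), (.e, true), (.d, true), (.c, true), (.b, true), (.d, true), (.c, true), (.d, true)],
    [(.a, true), (.e, true), (.d, true), (.c, true), (.f, true), (.e, true), (.d, true), (.c, true), (.b, true), (.d, true), (.c, true), (.d, true), (.c, true), (.e, true), (.d, true), (.c, true), (.b, true), (.a, true), (.d, true), (.c, true), (.b, true), (.d, true), (.e, true), (.d, true), (.c, true), (.d, true)],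
    [(.a, true), (.b, true), (.c, true), (.b, true), (.e, true), (.d, true), (.c, true), (.b, true), (.d, true), (.f, true), (.e, true), (.d, true), (.c, true), (.b, true), (.d, true), (.c, true), (.b, true), (.a, true), (.d, true), (.e, true), (.d, true), (.c, true), (.b, true), (.a, true), (.d, true), (.e, true), (.f, true)],
    [(.b, true), (.a, true), (.c, true), (.b, true), (.d, true), (.c, true), (.b, true), (.d, true), (.c, true), (.e, true), (.d, true), (.c, true), (.b, true), (.a, true), (.f, true), (.e, true), (.d, true), (.c, true), (.b, true), (.a, true), (.d, true), (.c, true), (.d, true), (.e, true), (.d, true), (.c, true), (.b, true), (.d, true), (.c, true), (.f, true), (.e, true), (.d, true), (.c, true)],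
    [(.c, true), (.d, true), (.e, true), (.f, true), (.e, true), (.d, true), (.c, true), (.b, true), (.d, true), (.c, true), (.d, true), (.e, true), (.d, true), (.c, true), (.b, true), (.d, true), (.c, true), (.d, true), (.e, true), (.d, true), (.c, true), (.b, true), (.a, true), (.d, true), (.c, true), (.e, true), (.d, true)],
    [(.a, true), (.c, true), (.b, true), (.a, true), (.d, true), (.e, true), (.d, true), (.c, true), (.b, true), (.d, true), (.c, true), (.b, true), (.e, true), (.d, true), (.c, true), (.b, true), (.a, true), (.d, true), (.f, true), (.e, true), (.d, true), (.c, true), (.b, true), (.d, true), (.c, true), (.b, true), (.a, true), (.e, true), (.d, true), (.c, true), (.b, true), (.a, true), (.d, true), (.e, true), (.f, true)],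
    [(.a, true), (.b, true), (.d, true), (.c, true), (.b, true), (.a, true), (.d, true), (.e, true), (.d, true), (.c, true), (.b, true), (.d, true), (.c, true), (.d, true), (.f, true), (.e, true), (.d, true), (.c, true), (.b, true), (.d, true), (.c, true), (.d, true), (.e, true), (.d, true), (.c, true), (.b, true), (.d, true), (.c, true), (.b, true), (.d, true), (.e, true), (.d, true), (.c, true), (.b, true), (.d, true), (.c, true), (.b, true), (.d, true), (.c, true), (.e, true)]]
  | 5 => []
  | 6 => [[(.a, true), (.d, true), (.c, true), (.b, true), (.d, true), (.f, true), (.e, true), (.d, true), (.c, true), (.b, true), (.d, true), (.c, true), (.e, true), (.d, true), (.c, true), (.b, true), (.a, true), (.d, true)],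
    [(.a, true), (.c, true), (.b, true), (.d, true), (.f, true), (.e, true), (.d, true), (.c, true), (.b, true), (.a, true), (.d, true), (.c, true), (.b, true), (.e, true), (.d, true), (.c, true), (.f, true), (.e, true), (.d, true)],
    [(.a, true), (.b, true), (.a, true), (.d, true), (.c, true), (.b, true), (.d, true), (.e, true), (.d, true), (.c, true), (.b, true), (.d, true), (.c, true), (.d, true), (.e, true), (.d, true), (.c, true), (.d, true), (.c, true), (.b, true), (.e, true), (.d, true), (.c, true)],
    [(.c, true), (.b, true), (.e, true), (.d, true), (.c, true), (.b, true), (.d, true), (.c, true), (.b, true), (.e, true), (.d, true), (.c, true), (.b, true), (.d, true), (.c, true), (.e, true), (.d, true), (.f, true), (.e, true), (.d, true), (.c, true), (.d, true)],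
    [(.a, true), (.e, true), (.d, true), (.f, true), (.e, true), (.d, true), (.c, true), (.b, true), (.a, true), (.d, true), (.c, true), (.b, true), (.d, true), (.c, true), (.e, true), (.d, true), (.c, true), (.b, true), (.a, true), (.f, true), (.e, true), (.d, true)],
    [(.d, true), (.c, true), (.b, true), (.a, true), (.d, true), (.c, true), (.b, true), (.e, true), (.d, true), (.c, true), (.b, true), (.d, true), (.c, true), (.d, true), (.f, true), (.e, true), (.d, true), (.c, true), (.b, true), (.a, true), (.d, true), (.c, true), (.b, true), (.e, true), (.d, true), (.c, true), (.d, true), (.c, true)],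
    [(.a, true), (.b, true), (.c, true), (.b, true), (.e, true), (.d, true), (.c, true), (.b, true), (.d, true), (.f, true), (.e, true), (.d, true), (.c, true), (.b, true), (.d, true), (.c, true), (.b, true), (.d, true), (.e, true), (.d, true), (.c, true), (.b, true), (.d, true), (.c, true), (.d, true), (.f, true), (.e, true), (.d, true), (.c, true), (.b, true), (.a, true)],
    [(.b, true), (.c, true), (.b, true), (.e, true), (.d, true), (.c, true), (.f, true), (.e, true), (.d, true), (.c, true), (.b, true), (.d, true), (.c, true), (.d, true), (.c, true), (.b, true), (.e, true), (.d, true), (.c, true), (.b, true), (.d, true), (.c, true), (.d, true), (.e, true), (.d, true), (.c, true), (.b, true), (.a, true), (.f, true)],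
    [(.d, true), (.f, true), (.e, true), (.d, true), (.c, true), (.d, true), (.c, true), (.b, true), (.a, true), (.e, true), (.d, true), (.c, true), (.b, true), (.d, true), (.c, true), (.e, true), (.d, true), (.c, true), (.b, true), (.f, true), (.e, true), (.d, true), (.c, true), (.b, true), (.d, true), (.e, true)],
    [(.a, true), (.b, true), (.c, true), (.b, true), (.a, true), (.d, true), (.e, true), (.d, true), (.c, true), (.b, true), (.d, true), (.c, true), (.d, true), (.f, true), (.e, true), (.d, true), (.c, true), (.b, true), (.a, true), (.d, true), (.c, true), (.b, true), (.d, true), (.c, true), (.e, true), (.d, true), (.c, true), (.b, true), (.a, true), (.d, true), (.c, true)],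
    [(.e, true), (.d, true), (.f, true), (.e, true), (.d, true), (.c, true), (.b, true), (.a, true), (.d, true), (.c, true), (.b, true), (.d, true), (.c, true), (.e, true), (.d, true), (.c, true), (.f, true), (.e, true), (.d, true), (.c, true), (.b, true), (.d, true), (.c, true), (.d, true), (.c, true), (.b, true), (.e, true), (.d, true), (.c, true), (.b, true), (.d, true), (.e, true)],
    [(.e, true), (.d, true), (.c, true), (.d, true), (.c, true), (.e, true), (.d, true), (.c, true), (.b, true), (.d, true), (.c, true), (.d, true), (.c, true), (.b, true), (.e, true), (.d, true), (.c, true), (.b, true), (.a, true), (.d, true), (.c, true), (.b, true), (.e, true), (.d, true), (.c, true), (.b, true), (.d, true), (.e, true), (.f, true)]]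
  | 7 => [[(.a, true), (.b, true), (.c, true), (.d, true), (.f, true), (.e, true), (.d, true), (.c, true), (.b, true), (.d, true), (.c, true), (.e, true), (.d, true), (.c, true), (.b, true), (.f, true), (.e, true), (.d, true), (.c, true), (.b, true), (.a, true), (.d, true), (.e, true), (.f, true)],
    [(.f, true), (.e, true), (.d, true), (.c, true), (.b, true), (.a, true), (.d, true), (.c, true), (.b, true), (.e, true), (.d, true), (.c, true), (.b, true), (.d, true), (.c, true), (.b, true), (.e, true), (.d, true), (.c, true), (.b, true), (.a, true), (.d, true), (.c, true), (.b, true), (.a, true), (.e, true)],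
    [(.c, true), (.d, true), (.f, true), (.e, true), (.d, true), (.c, true), (.b, true), (.a, true), (.d, true), (.c, true), (.b, true), (.a, true), (.d, true), (.e, true), (.d, true), (.c, true), (.b, true), (.d, true), (.c, true), (.b, true), (.e, true), (.d, true), (.c, true), (.f, true)],
    [(.b, true), (.d, true), (.c, true), (.f, true), (.e, true), (.d, true), (.c, true), (.b, true), (.d, true), (.c, true), (.e, true), (.d, true), (.c, true), (.b, true), (.d, true), (.c, true), (.d, true), (.e, true), (.d, true), (.c, true), (.b, true), (.d, true), (.e, true), (.f, true)],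
    [(.a, true), (.b, true), (.e, true), (.d, true), (.c, true), (.b, true), (.a, true), (.d, true), (.c, true), (.b, true), (.d, true), (.e, true), (.d, true), (.c, true), (.b, true), (.a, true), (.d, true), (.c, true), (.b, true), (.e, true), (.d, true), (.c, true), (.d, true), (.e, true), (.f, true)],
    [(.f, true), (.e, true), (.d, true), (.c, true), (.b, true), (.d, true), (.c, true), (.b, true), (.d, true), (.e, true), (.d, true), (.c, true), (.b, true), (.d, true), (.c, true), (.b, true), (.a, true), (.d, true), (.e, true), (.d, true), (.c, true), (.d, true), (.c, true)],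
    [(.b, true), (.a, true), (.c, true), (.d, true), (.c, true), (.d, true), (.e, true), (.d, true), (.c, true), (.b, true), (.d, true), (.c, true), (.b, true), (.d, true), (.c, true), (.b, true), (.e, true), (.d, true), (.c, true), (.b, true), (.a, true), (.d, true), (.c, true), (.b, true), (.a, true), (.e, true), (.d, true), (.f, true), (.e, true)],
    [(.e, true), (.d, true), (.c, true), (.b, true), (.d, true), (.c, true), (.d, true), (.e, true), (.d, true), (.c, true), (.b, true), (.a, true), (.d, true), (.c, true), (.b, true), (.f, true), (.e, true), (.d, true), (.c, true), (.b, true), (.a, true), (.d, true)],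
    [(.a, true), (.b, true), (.c, true), (.d, true), (.f, true), (.e, true), (.d, true), (.c, true), (.b, true), (.a, true), (.d, true), (.c, true), (.b, true), (.e, true), (.d, true), (.c, true), (.d, true), (.c, true), (.e, true), (.d, true), (.c, true), (.b, true), (.d, true), (.c, true), (.e, true), (.d, true), (.c, true), (.b, true), (.d, true)],
    [(.a, true), (.f, true), (.e, true), (.d, true), (.c, true), (.b, true), (.d, true), (.c, true), (.e, true), (.d, true), (.c, true), (.b, true), (.d, true), (.c, true), (.e, true), (.d, true), (.c, true), (.b, true), (.d, true), (.c, true), (.d, true), (.c, true), (.e, true), (.d, true), (.c, true), (.b, true), (.d, true)],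
    [(.a, true), (.f, true), (.e, true), (.d, true), (.c, true), (.b, true), (.a, true), (.d, true), (.c, true), (.b, true), (.d, true), (.e, true), (.d, true), (.c, true), (.b, true), (.d, true), (.c, true), (.b, true), (.d, true), (.e, true), (.d, true), (.c, true), (.b, true), (.d, true), (.c, true), (.d, true), (.c, true), (.b, true), (.e, true), (.f, true)],
    [(.e, true), (.d, true), (.c, true), (.b, true), (.d, true), (.c, true), (.b, true), (.e, true), (.d, true), (.c, true), (.b, true), (.a, true), (.d, true), (.f, true), (.e, true), (.d, true), (.c, true), (.b, true), (.d, true), (.c, true), (.e, true), (.d, true), (.c, true), (.f, true), (.e, true), (.d, true), (.c, true), (.b, true), (.d, true), (.c, true), (.d, true), (.c, true), (.e, true)]]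
  | 8 => [[(.c, true), (.b, true), (.a, true), (.d, true), (.c, true), (.f, true), (.e, true), (.d, true), (.c, true), (.b, true), (.d, true), (.c, true), (.d, true), (.e, true), (.d, true), (.c, true), (.b, true), (.d, true), (.c, true), (.b, true), (.a, true), (.e, true), (.d, true), (.c, true)],
    [(.c, true), (.b, true), (.d, true), (.c, true), (.b, true), (.e, true), (.d, true), (.c, true), (.d, true), (.f, true), (.e, true), (.d, true), (.c, true), (.b, true), (.a, true), (.d, true), (.c, true), (.b, true), (.d, true), (.e, true), (.d, true), (.c, true), (.b, true), (.d, true), (.c, true), (.d, true)],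
    [(.b, true), (.d, true), (.c, true), (.b, true), (.a, true), (.e, true), (.d, true), (.c, true), (.b, true), (.d, true), (.c, true), (.d, true), (.c, true), (.e, true), (.d, true), (.c, true), (.b, true), (.d, true), (.c, true), (.d, true), (.e, true), (.d, true), (.c, true), (.b, true), (.a, true)],
    [(.a, true), (.b, true), (.a, true), (.c, true), (.d, true), (.f, true), (.e, true), (.d, true), (.c, true), (.b, true), (.d, true), (.c, true), (.b, true), (.e, true), (.d, true), (.c, true), (.b, true), (.f, true), (.e, true), (.d, true), (.c, true), (.b, true), (.d, true), (.c, true), (.e, true), (.d, true), (.f, true), (.e, true)],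
    [(.b, true), (.a, true), (.c, true), (.d, true), (.c, true), (.b, true), (.e, true), (.d, true), (.c, true), (.b, true), (.a, true), (.d, true), (.e, true), (.f, true), (.e, true), (.d, true), (.c, true), (.b, true), (.a, true), (.d, true), (.c, true), (.b, true), (.e, true), (.d, true), (.c, true), (.f, true), (.e, true)],
    [(.a, true), (.d, true), (.c, true), (.d, true), (.c, true), (.e, true), (.d, true), (.c, true), (.b, true), (.d, true), (.c, true), (.e, true), (.d, true), (.c, true), (.b, true), (.a, true), (.d, true), (.c, true), (.d, true), (.e, true), (.d, true), (.c, true), (.b, true), (.d, true), (.c, true), (.d, true), (.e, true)],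
    [(.a, true), (.e, true), (.d, true), (.c, true), (.b, true), (.d, true), (.c, true), (.e, true), (.d, true), (.c, true), (.b, true), (.d, true), (.c, true), (.d, true), (.c, true), (.e, true), (.d, true), (.c, true), (.b, true), (.a, true), (.d, true), (.c, true), (.b, true), (.d, true), (.c, true), (.e, true), (.d, true)],
    [(.a, true), (.b, true), (.c, true), (.d, true), (.c, true), (.b, true), (.d, true), (.c, true), (.d, true), (.c, true), (.e, true), (.d, true), (.c, true), (.b, true), (.d, true), (.c, true), (.e, true), (.d, true), (.c, true), (.f, true), (.e, true), (.d, true), (.c, true), (.b, true), (.a, true), (.d, true), (.c, true), (.b, true), (.d, true), (.c, true), (.e, true), (.d, true), (.c, true), (.d, true)],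
    [(.b, true), (.a, true), (.c, true), (.b, true), (.d, true), (.c, true), (.b, true), (.d, true), (.f, true), (.e, true), (.d, true), (.c, true), (.d, true), (.c, true), (.b, true), (.a, true), (.e, true), (.d, true), (.c, true), (.b, true), (.d, true), (.c, true), (.d, true), (.c, true), (.e, true), (.d, true), (.c, true), (.b, true), (.a, true), (.f, true), (.e, true), (.d, true), (.c, true), (.d, true)],
    [(.a, true), (.d, true), (.c, true), (.b, true), (.a, true), (.d, true), (.e, true), (.d, true), (.c, true), (.b, true), (.d, true), (.c, true), (.b, true), (.d, true), (.e, true), (.d, true), (.c, true), (.b, true), (.a, true), (.d, true), (.c, true), (.d, true), (.e, true), (.d, true), (.c, true), (.b, true), (.a, true), (.d, true), (.c, true), (.b, true), (.a, true)],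
    [(.c, true), (.b, true), (.e, true), (.d, true), (.c, true), (.b, true), (.d, true), (.f, true), (.e, true), (.d, true), (.c, true), (.b, true), (.a, true), (.d, true), (.c, true), (.b, true), (.e, true), (.d, true), (.c, true), (.d, true), (.c, true), (.b, true), (.e, true), (.d, true), (.c, true), (.d, true), (.e, true)],
    [(.b, true), (.a, true), (.d, true), (.f, true), (.e, true), (.d, true), (.c, true), (.b, true), (.d, true), (.c, true), (.b, true), (.e, true), (.d, true), (.c, true), (.b, true), (.a, true), (.d, true), (.f, true), (.e, true), (.d, true), (.c, true), (.b, true), (.d, true), (.c, true), (.e, true), (.d, true), (.c, true), (.f, true), (.e, true), (.d, true)]]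
  | _ => []

/-- the power of a word -/
def repW : ℕ → Wd → Wd
  | 0, _ => []
  | n + 1, u => repW n u ++ u

/-- the powers of a word -/
def powL (u : Wd) : ℕ → List Wd
  | 0 => []
  | n + 1 => repW n u :: powL u n

/-- the power of a list of words -/
def repL : ℕ → List Wd → List Wd
  | 0, _ => []
  | n + 1, l => l ++ repL n l

/-- the conjugate of `W0` by `SL i` -/
def AW (i : ℕ) : Wd := SL i ++ W0 ++ FreeGroup.invRev (SL i)

/-- the candidates from the `i`-th fixed point -/
def candsOf (i : ℕ) : List Wd := (ZL i).map (fun Z => FreeGroup.invRev (SL i) ++ Z)

/-- the further relators -/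
def R1 : Wd := [(.a, true), (.f, true), (.g, false), (.g, false)]

/-- the further relators -/
def R2 : Wd := [(.a, true), (.f, true), (.d, false), (.c, false), (.d, false), (.c, false), (.d, false), (.c, false), (.d, false), (.c, false)]

/-- the further relators -/
def R3 : Wd := [(.c, true), (.g, false), (.d, false), (.g, false), (.d, false), (.c, true), (.d, true), (.g, true), (.d, true), (.g, true)]

/-- the further relators -/
def R4 : Wd := [(.d, true), (.g, false), (.c, false), (.g, false), (.c, false), (.d, true), (.c, true), (.g, true), (.c, true), (.g, true)]

/-- the further relators -/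
def R5 : Wd := [(.b, true), (.c, true), (.d, true), (.g, true), (.b, true), (.c, true), (.d, true), (.g, true), (.b, true), (.c, true), (.d, true), (.g, true), (.b, true), (.c, true), (.d, true), (.g, true), (.b, true), (.c, true), (.d, true), (.g, true)]

/-- the further relators -/
def R6 : Wd := [(.g, true), (.b, true), (.c, false), (.g, true), (.c, true), (.b, false), (.g, true), (.b, true), (.c, false), (.g, true), (.c, true)]

/-- the further relators -/
def R7 : Wd := [(.g, true), (.e, true), (.d, false), (.g, true), (.d, true), (.e, false), (.g, true), (.e, true), (.d, false), (.g, true), (.d, true)]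

end Cfsg.Agent.Lib.Helper35_ONOutDat
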