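import Mathlib
import Cfsg.Agent.Lib.Helper40_SpConj

set_option autoImplicit false

/-!
Package P3 of helper99's S5955 plan: two orthogonal nondegenerate invariant subspaces of an
alternating space carrying the same characteristic polynomial of a semisimple isometry of finite
order contain (in their sum) an invariant totally isotropic subspace of the dimension of one of
them: the graph of an equivariant anti-isometry.
-/

namespace Cfsg.Agent.Lib.Helper88_SpPairTI

open Polynomial Module Cfsg.Agent.Lib.Helper40_SpBasic

theorem exists_ti_in_pair {F : Type*} [Field F] [Finite F] {V : Type*} [AddCommGroup V] [Module F V]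
    [FiniteDimensional F V] {B : LinearMap.BilinForm F V} {T : Module.End F V} {N : ℕ}
    (h : IsoData B T N) (hss : T.IsSemisimple) {P Q : Submodule F V}
    (hP : Inv T P) (hQ : Inv T Q) (hPnd : NDOn B P) (hQnd : NDOn B Q)
    (horth : ∀ u ∈ P, ∀ v ∈ Q, B u v = 0)
    (hch : (T.restrict hP).charpoly = (T.restrict hQ).charpoly) :
    ∃ U : Submodule F V, U ≤ P ⊔ Q ∧ Inv T U ∧ (∀ u ∈ U, ∀ v ∈ U, B u v = 0) ∧
      finrank F U = finrank F P := by
  have hP' : IsoData (B.restrict P) (T.restrict hP) N := h.restrict hP
  have hQ0 : IsoData (B.restrict Q) (T.restrict hQ) N := h.restrict hQ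
  have hQ' : IsoData (-(B.restrict Q)) (T.restrict hQ) N :=
    { alt := fun x => by
        rw [LinearMap.neg_apply, LinearMap.neg_apply, hQ0.alt, neg_zero]
      iso := fun x y => by
        rw [LinearMap.neg_apply, LinearMap.neg_apply, LinearMap.neg_apply, LinearMap.neg_apply,
          hQ0.iso]
      pow := hQ0.pow
      pos := hQ0.pos }
  have hndP : (B.restrict P).Nondegenerate := nondegenerate_restrict h hPnd
  have hndQ0 : (B.restrict Q).Nondegenerate := nondegenerate_restrict h hQnd
  have hndQ : (-(B.restrict Q)).Nondegenerate := by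
    constructor
    · intro x hx
      apply hndQ0.1 x
      intro y
      have := hx y
      rw [LinearMap.neg_apply, LinearMap.neg_apply, neg_eq_zero] at this
      exact this
    · intro x hx
      apply hndQ0.2 x
      intro y
      have := hx y
      rw [LinearMap.neg_apply, LinearMap.neg_apply, neg_eq_zero] at this
      exact this
  have hssP : Module.End.IsSemisimple (T.restrict hP) :=
    hss.restrict (by rw [Module.End.mem_invtSubmodule]; exact hP)
  have hssQ : Module.End.IsSemisimple (T.restrict hQ) :=
    hss.restrict (by rw [Module.End.mem_invtSubmodule]; exact hQ)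
  obtain ⟨e, he_int, he_iso⟩ :=
    Cfsg.Agent.Lib.Helper40_SpConj.exists_isometry_conj (F := F) (finrank F P)
      (B.restrict P) (-(B.restrict Q)) (T.restrict hP) (T.restrict hQ) N rfl hP' hQ' hndP hndQ
      hssP hssQ hch
  -- the anti-isometry property in `V`
  have hanti : ∀ x y : P, B ((e x : Q) : V) ((e y : Q) : V) = - B (x : V) (y : V) := by
    intro x y
    have h1 := he_iso x y
    rw [LinearMap.neg_apply, LinearMap.neg_apply] at h1
    have h2 : B ((e x : Q) : V) ((e y : Q) : V) = (B.restrict Q) (e x) (e y) := rfl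
    have h3 : B (x : V) (y : V) = (B.restrict P) x y := rfl
    rw [h2, h3, ← h1, neg_neg]
  -- equivariance in `V`
  have hint : ∀ x : P, ((e ((T.restrict hP) x) : Q) : V) = T ((e x : Q) : V) := by
    intro x
    rw [he_int]
    rfl
  let f : P →ₗ[F] V := P.subtype + Q.subtype ∘ₗ e.toLinearMap
  have hf : ∀ x : P, f x = (x : V) + ((e x : Q) : V) := fun x => rfl
  have hcross1 : ∀ x y : P, B (x : V) ((e y : Q) : V) = 0 := fun x y =>
    horth _ x.2 _ (e y).2
  have hcross2 : ∀ x y : P, B ((e x : Q) : V) (y : V) = 0 := fun x y => by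
    rw [h.skew, horth _ y.2 _ (e x).2, neg_zero]
  have hinj : Function.Injective f := by
    rw [← LinearMap.ker_eq_bot, LinearMap.ker_eq_bot']
    intro x hx
    rw [hf] at hx
    apply Subtype.ext
    apply hPnd (x : V) x.2
    intro y hy
    have hxe : (x : V) = - ((e x : Q) : V) := eq_neg_of_add_eq_zero_left hx
    rw [hxe, map_neg, LinearMap.neg_apply, hcross2 x ⟨y, hy⟩, neg_zero]
  refine ⟨LinearMap.range f, ?_, ?_, ?_, ?_⟩
  · rintro _ ⟨x, rfl⟩
    rw [hf]
    exact Submodule.add_mem_sup x.2 (e x).2
  · rintro _ ⟨x, rfl⟩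
    refine ⟨(T.restrict hP) x, ?_⟩
    rw [hf, hf, map_add, hint]
    rfl
  · rintro _ ⟨x, rfl⟩ _ ⟨y, rfl⟩
    rw [hf, hf]
    simp only [map_add, LinearMap.add_apply]
    rw [hcross1, hcross2, hanti]
    ring
  · exact LinearMap.finrank_range_of_inj hinj

end Cfsg.Agent.Lib.Helper88_SpPairTI
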