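import Mathlib
import Cfsg.Agent.Lib.Helper99_SpTI
import Cfsg.Agent.Lib.Helper88_SpPairTI

set_option autoImplicit false
set_option linter.unusedSectionVars false

/-!
Totally isotropic invariant subspaces, `i` even: pairing of atoms of the same type.
-/

namespace Cfsg.Agent.Lib.Helper99_SpTI2

open Module Polynomial
open Cfsg.Agent.Lib.Helper40_SpBasic Cfsg.Agent.Lib.Helper40_SpAdj
  Cfsg.Agent.Lib.Helper40_SpExistMatrix Cfsg.Agent.Lib.Helper40_Semisimple
  Cfsg.Agent.Lib.Helper99_SpAtoms Cfsg.Agent.Lib.Helper99_SpOrth Cfsg.Agent.Lib.Helper99_SpNec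
  Cfsg.Agent.Lib.Helper99_InvSub Cfsg.Agent.Lib.Helper99_PrimeOrderSL
  Cfsg.Agent.Lib.Helper99_SpTI Cfsg.Agent.Lib.Helper88_SpPairTI

variable {F : Type*} [Field F] [Fintype F] {p : ℕ} [Fact p.Prime] [CharP F p] {r : ℕ}
variable {V : Type*} [AddCommGroup V] [Module F V] [FiniteDimensional F V]
variable {B : LinearMap.BilinForm F V} {T : Module.End F V}

/-- the characteristic polynomial of `T` on an invariant subspace of dimension `i` without fixed
vectors is one of the irreducible factors of the cyclotomic polynomial. -/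
theorem charpoly_mem_of_atom (hiso : IsoData B T r) (hr : r.Prime) (hrp : r ≠ p)
    (Wset : Finset F[X])
    (hW1 : ∀ w ∈ Wset, w.Monic ∧ Irreducible w ∧ w ≠ X - 1 ∧ w ∣ X ^ r - 1 ∧
        w.natDegree = orderOf ((Fintype.card F : ℕ) : ZMod r))
    (hW2 : ∀ f : F[X], f.Monic → Irreducible f → f ∣ X ^ r - 1 → f = X - 1 ∨ f ∈ Wset)
    {P : Submodule F V} (hP : Inv T P) (hPC : P ≤ LinearMap.range (T - 1))
    (hPd : finrank F P = orderOf ((Fintype.card F : ℕ) : ZMod r)) :
    (T.restrict hP).charpoly ∈ Wset := by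
  classical
  have hrF : ((r : ℕ) : F) ≠ 0 := natCast_ne_zero hr hrp
  have hipos := ord_pos (F := F) hr hrp
  set i := orderOf ((Fintype.card F : ℕ) : ZMod r) with hidef
  set φ := T.restrict hP with hφ
  have hφr : φ ^ r = 1 := (hiso.restrict hP).pow
  have hmon : φ.charpoly.Monic := LinearMap.charpoly_monic φ
  have hdeg : φ.charpoly.natDegree = i := by rw [LinearMap.charpoly_natDegree, hPd]
  have hnu : ¬ IsUnit φ.charpoly := Polynomial.not_isUnit_of_natDegree_pos _ (by omega)
  obtain ⟨f0, hf0, hf0d⟩ := WfDvdMonoid.exists_irreducible_factor hnu hmon.ne_zero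
  set f := normalize f0 with hf
  have hfm : f.Monic := Polynomial.monic_normalize hf0.ne_zero
  have hfi : Irreducible f := (associated_normalize f0).irreducible hf0
  have hfd : f ∣ φ.charpoly := normalize_dvd_iff.2 hf0d
  obtain ⟨v, hv0, hv⟩ := exists_ne_zero_aeval_eq_zero φ f hfi hfd
  have hkill : aeval φ (X ^ r - 1 : F[X]) = 0 := by
    rw [map_sub, map_pow, aeval_X, map_one, hφr, sub_self]
  have hfX : f ∣ X ^ r - 1 := by
    by_contra hnd
    obtain ⟨a, b, hab⟩ := (Irreducible.coprime_iff_not_dvd hfi).2 hnd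
    apply hv0
    have h1 := congrArg (fun g => aeval φ g v) hab
    simp only [map_add, map_mul, map_one, LinearMap.add_apply, Module.End.mul_apply,
      Module.End.one_apply, hv, hkill, LinearMap.zero_apply, map_zero, add_zero] at h1
    exact h1.symm
  rcases hW2 f hfm hfi hfX with h1 | h1
  · exfalso
    apply hv0
    rw [h1, map_sub, aeval_X, map_one, LinearMap.sub_apply, Module.End.one_apply, sub_eq_zero] at hv
    have hv' : T (v : V) = v := by
      have := congrArg Subtype.val hv
      rwa [LinearMap.coe_restrict_apply] at this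
    have h2 : (v : V) ∈ Module.End.eigenspace T 1 := by
      rw [Module.End.mem_eigenspace_iff, one_smul]
      exact hv'
    have h3 := Submodule.disjoint_def.1 (disjoint_fix_range hrF hiso.pow) _ h2 (hPC v.2)
    exact Subtype.ext h3
  · have h2 := (hW1 f h1).2.2.2.2
    have : φ.charpoly = f :=
      Polynomial.eq_of_monic_of_dvd_of_natDegree_le hfm hmon hfd (by rw [hdeg, h2])
    rw [this]
    exact h1

open Classical in
/-- the type of a piece: the characteristic polynomial of `T` on it. -/
noncomputable def typ (T : Module.End F V) (P : Submodule F V × Bool) : F[X] :=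
  if h : Inv T P.1 then (T.restrict h).charpoly else 0

theorem typ_eq {P : Submodule F V × Bool} (h : Inv T P.1) :
    typ T P = (T.restrict h).charpoly := by
  unfold typ
  rw [dif_pos h]

/-- `i` even: from a list of pairwise orthogonal atoms of length at least `t + 2 s - 1` one gets a
totally isotropic invariant subspace of dimension `i * s`. -/
theorem hasTI_pairs (hiso : IsoData B T r) (hr : r.Prime) (hrp : r ≠ p)
    (hie : Even (orderOf ((Fintype.card F : ℕ) : ZMod r))) :
    ∀ (s : ℕ) (La : List (Submodule F V × Bool)),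
      (∀ P ∈ La, IsPiece B T r P ∧ P.2 = true) →
      La.Pairwise (fun P Q => ∀ u ∈ P.1, ∀ v ∈ Q.1, B u v = 0) →
      (r - 1) / orderOf ((Fintype.card F : ℕ) : ZMod r) + 2 * s ≤ La.length + 1 →
      HasTI B T (lsup La) (orderOf ((Fintype.card F : ℕ) : ZMod r) * s) := by
  classical
  obtain ⟨hipos, Wset, hWcard, hW1, hW2⟩ :=
    Cfsg.Agent.Lib.Helper40_PrimeOrderClasses.exists_cyclotomic_factors (F := F) p r hr hrp
  have hrF : ((r : ℕ) : F) ≠ 0 := natCast_ne_zero hr hrp
  have hskew := hiso.skew
  have hatom : atomDim F r = orderOf ((Fintype.card F : ℕ) : ZMod r) := by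
    unfold atomDim; rw [if_pos hie]
  set i := orderOf ((Fintype.card F : ℕ) : ZMod r) with hidef
  intro s
  induction s with
  | zero =>
    intro La _ _ _
    rw [mul_zero]
    exact hasTI_zero _
  | succ s ih =>
    intro La hLa hp hlen
    have hnodup : La.Nodup := by
      refine List.Pairwise.imp_of_mem ?_ hp
      intro P Q hP hQ horth hPQ
      subst hPQ
      have hnd := (hLa P hP).1.2.1
      have h0 : P.1 = ⊥ := by
        rw [eq_bot_iff]
        intro x hx
        rw [Submodule.mem_bot]
        exact hnd x hx (fun y hy => horth x hx y hy)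
      have hd := ((hLa P hP).1.2.2.1 (hLa P hP).2).1
      rw [h0, finrank_bot, hatom] at hd
      omega
    have hex : ∃ P ∈ La, ∃ Q ∈ La, P ≠ Q ∧ typ T P = typ T Q := by
      by_contra hcon
      push Not at hcon
      have hnd2 : (La.map (typ T)).Nodup :=
        List.Nodup.map_on (fun P hP Q hQ h => by
          by_contra hne
          exact hcon P hP Q hQ hne h) hnodup
      have hsub : (La.map (typ T)).toFinset ⊆ Wset := by
        intro w hw
        rw [List.mem_toFinset, List.mem_map] at hw
        obtain ⟨P, hP, rfl⟩ := hw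
        have hPL := hLa P hP
        rw [typ_eq hPL.1.1]
        have h3 := hPL.1.2.2.1 hPL.2
        exact charpoly_mem_of_atom hiso hr hrp Wset hW1 hW2 hPL.1.1 h3.2 (by rw [h3.1, hatom])
      have := Finset.card_le_card hsub
      rw [List.toFinset_card_of_nodup hnd2, List.length_map, hWcard] at this
      omega
    obtain ⟨P, hP, Q, hQ, hPQ, htyp⟩ := hex
    set rest := (La.erase P).erase Q with hrest
    have hsub : rest.Sublist La := (List.erase_sublist).trans List.erase_sublist
    have hQ' : Q ∈ La.erase P := (List.mem_erase_of_ne (Ne.symm hPQ)).2 hQ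
    have hlen' : rest.length = La.length - 2 := by
      rw [hrest, List.length_erase_of_mem hQ', List.length_erase_of_mem hP]
      omega
    have hmem : ∀ X ∈ rest, X ∈ La ∧ X ≠ P ∧ X ≠ Q := by
      intro X hX
      have h1 := (List.Nodup.mem_erase_iff (hnodup.erase P)).1 hX
      have h2 := (List.Nodup.mem_erase_iff hnodup).1 h1.2
      exact ⟨h2.2, h2.1, h1.1⟩
    have ih' := ih rest (fun X hX => hLa X (hsub.subset hX)) (hp.sublist hsub)
      (by rw [hlen']; omega)
    have hPL := hLa P hP
    have hQL := hLa Q hQ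
    have hss := isSemisimple_of_pow_eq_one T r hrF hiso.pow
    have horthPQ := cross_orth hskew hp hP hQ hPQ
    obtain ⟨U, hU, hUinv, hUti, hUd⟩ := exists_ti_in_pair hiso hss hPL.1.1 hQL.1.1 hPL.1.2.1
      hQL.1.2.1 horthPQ (by rw [← typ_eq, ← typ_eq]; exact htyp)
    have hpair : HasTI B T (P.1 ⊔ Q.1) i :=
      ⟨U, hU, hUinv, hUti, by rw [hUd, (hPL.1.2.2.1 hPL.2).1, hatom]⟩
    have hnd : NDOn B (P.1 ⊔ Q.1) := ndOn_sup hskew hPL.1.2.1 hQL.1.2.1 horthPQ
    have horth : ∀ u ∈ P.1 ⊔ Q.1, ∀ v ∈ lsup rest, B u v = 0 := by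
      apply orth_lsup
      intro X hX u hu v hv
      obtain ⟨hXL, hXP, hXQ⟩ := hmem X hX
      obtain ⟨u1, hu1, u2, hu2, rfl⟩ := Submodule.mem_sup.1 hu
      rw [map_add, LinearMap.add_apply,
        cross_orth hskew hp hP hXL (Ne.symm hXP) u1 hu1 v hv,
        cross_orth hskew hp hQ hXL (Ne.symm hXQ) u2 hu2 v hv, add_zero]
    have := hasTI_sup hskew hnd horth hpair ih'
    rw [Nat.mul_succ, add_comm]
    exact this.mono (sup_le (sup_le (le_lsup hP) (le_lsup hQ))
      (lsup_le (fun X hX => le_lsup (hmem X hX).1)))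

/-- structure theorem, `i` even. -/
theorem exists_struct_even (hiso : IsoData B T r) (hB : B.Nondegenerate) (hr : r.Prime)
    (hr2 : r ≠ 2) (hrp : r ≠ p) (hie : Even (orderOf ((Fintype.card F : ℕ) : ZMod r))) :
    ∃ a e : ℕ, atomDim F r * a + 2 * e = finrank F V ∧
      ∀ s' e' : ℕ,
        (s' = 0 ∨ (r - 1) / orderOf ((Fintype.card F : ℕ) : ZMod r) + 2 * s' ≤ a + 1) → e' ≤ e →
        HasTI B T ⊤ (orderOf ((Fintype.card F : ℕ) : ZMod r) * s' + e') := by
  classical
  obtain ⟨L, hL, hp, hsum⟩ := exists_pieces (p := p) hr hr2 hrp (finrank F V) B T rfl hiso hB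
  have hskew := hiso.skew
  set La := L.filter (fun P => P.2) with hLa
  set Lp := L.filter (fun P => !P.2) with hLp
  have hsubA : La.Sublist L := List.filter_sublist
  have hsubP : Lp.Sublist L := List.filter_sublist
  refine ⟨La.length, Lp.length, ?_, ?_⟩
  · rw [← hsum, sum_pieces L hL]
  · intro s' e' hs' he'
    have hA : HasTI B T (lsup La) (orderOf ((Fintype.card F : ℕ) : ZMod r) * s') := by
      rcases hs' with rfl | hs'
      · rw [mul_zero]
        exact hasTI_zero _
      apply hasTI_pairs hiso hr hrp hie s' La _ (hp.sublist hsubA) hs'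
      intro Q hQ
      refine ⟨hL Q (hsubA.subset hQ), ?_⟩
      have := (List.mem_filter.1 hQ).2
      simpa using this
    have hPl : HasTI B T (lsup Lp) (1 * e') := by
      apply hasTI_lsup_le hskew _ Lp (fun Q hQ => (hL Q (hsubP.subset hQ)).2.1) (hp.sublist hsubP)
        _ e' he'
      intro Q hQ
      have hQL := hL Q (hsubP.subset hQ)
      have hQ2 : Q.2 = false := by
        have := (List.mem_filter.1 hQ).2
        simpa using this
      have h3 := hQL.2.2.2 hQ2
      exact hasTI_plane hiso.alt h3.1 h3.2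
    rw [one_mul] at hPl
    have hAnd : NDOn B (lsup La) :=
      ndOn_lsup hskew La (fun Q hQ => (hL Q (hsubA.subset hQ)).2.1) (hp.sublist hsubA)
    have horth : ∀ u ∈ lsup La, ∀ v ∈ lsup Lp, B u v = 0 := by
      apply orth_lsup_lsup hskew
      intro P hP Q hQ
      apply cross_orth hskew hp (hsubA.subset hP) (hsubP.subset hQ)
      intro hPQ
      have h1 := (List.mem_filter.1 hP).2
      have h2 := (List.mem_filter.1 hQ).2
      rw [hPQ] at h1
      simp at h1 h2
      rw [h1] at h2
      exact Bool.noConfusion h2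
    exact (hasTI_sup hskew hAnd horth hA hPl).mono le_top

end Cfsg.Agent.Lib.Helper99_SpTI2
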