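import Mathlib
import Cfsg.Agent.Lib.Helper84_OTSDefs
import Cfsg.Agent.Lib.Helper99_SpTI2

set_option autoImplicit false

/-!
Package OS of S5972 (architect helper84): existence of invariant totally singular subspaces of
dimension `i * s' + dim E` for an isometry of odd prime order `r ≠ p` of a quadratic space.
-/

namespace Cfsg.Agent.Lib.Helper35_OTS_OS

open Polynomial Module Matrix
open Cfsg.Agent.Lib.Helper40_SpBasic Cfsg.Agent.Lib.Helper40_OConj
  Cfsg.Agent.Lib.Helper40_OConj.OData
  Cfsg.Agent.Lib.Helper99_SpAtoms Cfsg.Agent.Lib.Helper84_OTSDefs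
  Cfsg.Agent.Lib.Helper99_SpTI Cfsg.Agent.Lib.Helper99_SpTI2
  Cfsg.Agent.Lib.Helper99_SpOrth

universe v

section nofix

variable {F : Type*} [Field F] [Fintype F] {p : ℕ} [Fact p.Prime] [CharP F p] {r : ℕ}
variable {V : Type*} [AddCommGroup V] [Module F V] [FiniteDimensional F V]
variable {B : LinearMap.BilinForm F V} {T : Module.End F V}

/-- structure theorem for an isometry of odd prime order without fixed vectors: only atoms. -/
theorem struct_nofix (hiso : IsoData B T r) (hB : B.Nondegenerate) (hr : r.Prime)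
    (hr2 : r ≠ 2) (hrp : r ≠ p) (hfix : ∀ w : V, T w = w → w = 0) :
    ∃ cnt : ℕ, atomDim F r * cnt = finrank F V ∧
      ∀ s' : ℕ,
        ((Odd (orderOf ((Fintype.card F : ℕ) : ZMod r)) ∧ s' ≤ cnt) ∨
         (Even (orderOf ((Fintype.card F : ℕ) : ZMod r)) ∧
           (s' = 0 ∨ (r - 1) / orderOf ((Fintype.card F : ℕ) : ZMod r) + 2 * s' ≤ cnt + 1))) →
        HasTI B T ⊤ (orderOf ((Fintype.card F : ℕ) : ZMod r) * s') := by
  classical
  obtain ⟨L, hL, hp, hsum⟩ := exists_pieces (p := p) hr hr2 hrp (finrank F V) B T rfl hiso hB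
  have hskew := hiso.skew
  have heig : Module.End.eigenspace T 1 = ⊥ := by
    rw [eq_bot_iff]
    intro x hx
    rw [Module.End.mem_eigenspace_iff, one_smul] at hx
    rw [Submodule.mem_bot]
    exact hfix x hx
  have htrue : ∀ P ∈ L, P.2 = true := by
    intro P hP
    by_contra hne
    have hf : P.2 = false := by simpa using hne
    have h3 := (hL P hP).2.2.2 hf
    have h4 : P.1 = ⊥ := by
      rw [eq_bot_iff, ← heig]
      exact h3.2
    have h5 := h3.1
    rw [h4, finrank_bot] at h5
    omega
  have hfa : L.filter (fun P => P.2) = L := by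
    rw [List.filter_eq_self]
    intro P hP
    simpa using htrue P hP
  have hfp : L.filter (fun P => !P.2) = [] := by
    rw [List.filter_eq_nil_iff]
    intro P hP
    simp [htrue P hP]
  refine ⟨L.length, ?_, ?_⟩
  · rw [← hsum, sum_pieces L hL, hfa, hfp]
    simp
  · intro s' hs'
    rcases hs' with ⟨hi, hs'⟩ | ⟨hie, hs'⟩
    · have hA : HasTI B T (lsup L) (orderOf ((Fintype.card F : ℕ) : ZMod r) * s') := by
        apply hasTI_lsup_le hskew _ L (fun Q hQ => (hL Q hQ).2.1) hp _ s' hs'
        intro Q hQ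
        have hQL := hL Q hQ
        have h3 := hQL.2.2.1 (htrue Q hQ)
        apply hasTI_atom_odd hiso hr hrp hi hQL.1 h3.2
        intro h0
        have := h3.1
        rw [h0, finrank_bot] at this
        have hpos := atomDim_pos (F := F) (r := r) (ord_pos (F := F) hr hrp)
        omega
      exact hA.mono le_top
    · rcases hs' with rfl | hs'
      · rw [mul_zero]
        exact hasTI_zero _
      · have hA := hasTI_pairs hiso hr hrp hie s' L (fun P hP => ⟨hL P hP, htrue P hP⟩) hp hs'
        exact hA.mono le_top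

end nofix

section transfer

variable {F : Type v} [Field F] {V : Type v} [AddCommGroup V] [Module F V]
  [FiniteDimensional F V]

/-- an `a`-invariant subspace of `[V, a]` that is totally isotropic for the twisted form is
totally singular (`2 ≠ 0`). -/
theorem tsOn_of_isoOn_tw (h2 : (2 : F) ≠ 0) {Q : QuadraticForm F V} {a : Module.End F V} {N : ℕ}
    (h : OData Q a N) {U : Submodule F V} (hUC : U ≤ comm a) (hUinv : Inv a U)
    (hUti : IsoOn (tw Q a N) U) : TSOn Q U := by
  apply tsOn_of_isoOn h2
  have hdel : ∀ x ∈ U, del a N x ∈ U := by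
    intro x hx
    show (a - a ^ (N - 1)) x ∈ U
    rw [LinearMap.sub_apply]
    exact U.sub_mem (hUinv x hx) (hUinv.pow_mem (N - 1) hx)
  let dU : U →ₗ[F] U := (del a N).restrict hdel
  have hinj : Function.Injective dU := by
    rw [← LinearMap.ker_eq_bot, LinearMap.ker_eq_bot']
    intro x hx
    apply Subtype.ext
    exact h.del_injOn x (hUC x.2) (congrArg Subtype.val hx)
  have hsurj := LinearMap.surjective_of_injective hinj
  intro z hz y hy
  obtain ⟨x, hx⟩ := hsurj ⟨z, hz⟩
  have hx' : del a N (x : V) = z := congrArg Subtype.val hx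
  rw [← hx']
  exact hUti x x.2 y hy

end transfer

/-- OS -/
theorem OS {F : Type v} [Field F] [Fintype F] {p : ℕ} [Fact p.Prime] [CharP F p]
    {V : Type v} [AddCommGroup V] [Module F V] [FiniteDimensional F V] (h2 : (2 : F) ≠ 0)
    {Q : QuadraticForm F V} {a : Module.End F V} {r : ℕ}
    (h : OData Q a r) (hQ : (pol Q).Nondegenerate) (hr : r.Prime) (hr2 : r ≠ 2) (hrp : r ≠ p) :
    ∃ cnt : ℕ, atomDim F r * cnt + finrank F (LinearMap.ker (a - 1)) = finrank F V ∧
      ∀ s' : ℕ,
        ((Odd (orderOf ((Fintype.card F : ℕ) : ZMod r)) ∧ s' ≤ cnt) ∨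
         (Even (orderOf ((Fintype.card F : ℕ) : ZMod r)) ∧
           (s' = 0 ∨ (r - 1) / orderOf ((Fintype.card F : ℕ) : ZMod r) + 2 * s' ≤ cnt + 1))) →
        ∀ E : Submodule F V, E ≤ LinearMap.ker (a - 1) → TSOn Q E →
          ∃ W : Submodule F V, Inv a W ∧ TSOn Q W ∧
            finrank F W = orderOf ((Fintype.card F : ℕ) : ZMod r) * s' + finrank F E := by
  classical
  set C := comm a with hC
  have hCinv : Inv a C := inv_comm a
  set B' := (tw Q a r).restrict C with hB'def
  set T' := a.restrict hCinv with hT'def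
  have hiso' : IsoData B' T' r := h.isoData.restrict hCinv
  have hB' : B'.Nondegenerate := nondegenerate_restrict h.isoData (h.ndOn_tw hQ)
  have hfix' : ∀ w : C, T' w = w → w = 0 := by
    intro w hw
    apply Subtype.ext
    have h1 : a (w : V) = w := by
      have := congrArg Subtype.val hw
      rwa [LinearMap.coe_restrict_apply] at this
    exact h.eq_zero_of_fixed w w.2 h1
  obtain ⟨cnt, hcnt, hS⟩ := struct_nofix (p := p) hiso' hB' hr hr2 hrp hfix'
  refine ⟨cnt, ?_, ?_⟩
  · rw [hcnt]
    exact LinearMap.finrank_range_add_finrank_ker (a - 1)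
  · intro s' hs' E hE hEts
    obtain ⟨U', -, hU'inv, hU'ti, hU'd⟩ := hS s' hs'
    set U := U'.map C.subtype with hU
    have hUC : U ≤ C := by
      rintro _ ⟨x, -, rfl⟩
      exact x.2
    have hUinv : Inv a U := by
      rintro _ ⟨x, hx, rfl⟩
      refine ⟨T' x, hU'inv x hx, ?_⟩
      show ((T' x : C) : V) = a (x : V)
      rw [LinearMap.coe_restrict_apply]
    have hUd : finrank F U = orderOf ((Fintype.card F : ℕ) : ZMod r) * s' := by
      rw [← hU'd]
      exact (Submodule.equivMapOfInjective C.subtype C.injective_subtype U').finrank_eq.symm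
    have hUti : IsoOn (tw Q a r) U := by
      rintro _ ⟨x, hx, rfl⟩ _ ⟨y, hy, rfl⟩
      exact hU'ti x hx y hy
    have hUts : TSOn Q U := tsOn_of_isoOn_tw h2 h hUC hUinv hUti
    have hEfix : ∀ y ∈ E, a y = y := by
      intro y hy
      have := hE hy
      rw [LinearMap.mem_ker, LinearMap.sub_apply, Module.End.one_apply] at this
      exact sub_eq_zero.1 this
    refine ⟨U ⊔ E, ?_, ?_, ?_⟩
    · intro w hw
      obtain ⟨x, hx, y, hy, rfl⟩ := Submodule.mem_sup.1 hw
      rw [map_add, hEfix y hy]
      exact Submodule.add_mem _ (Submodule.mem_sup_left (hUinv x hx)) (Submodule.mem_sup_right hy)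
    · apply TSOn.sup hUts hEts
      intro x hx y hy
      rw [pol_comm]
      exact h.orth_of_fixed y (hEfix y hy) x (hUC hx)
    · have hdisj : Disjoint U E := by
        rw [Submodule.disjoint_def]
        intro x hxU hxE
        exact h.eq_zero_of_fixed x (hUC hxU) (hEfix x hxE)
      rw [Cfsg.Agent.Lib.Helper99_InvSub.finrank_sup_of_disjoint hdisj, hUd]

end Cfsg.Agent.Lib.Helper35_OTS_OS
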