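import Mathlib
import Cfsg.Prelude.Def_GeometricClasses
import Cfsg.Agent.Lib.Helper13_OrthC8Defs
import Cfsg.Agent.Lib.Helper40_OFixedFree
import Cfsg.Agent.Lib.Helper40_QuadStd
import Cfsg.Agent.Lib.Helper14_WittType
import Cfsg.Agent.Lib.Helper99_PrimeOrderSL3

/-!
# S5981 package DEVEN (helper35 for helper13)

`ord_r(q)` even, `n = ord_r(q) * t`: an element of `SL_n(q)` of order `r` without non-zero fixed vectors; if it is a
similarity of a non-degenerate symmetric form with Gram matrix `A` then `(-1)^(n/2) det A` is a square iff `t` is even.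
-/

set_option autoImplicit false

namespace Cfsg.Agent.Lib.Helper35_OrthC8_DEVEN

open Matrix Polynomial Module Cfsg.Agent.Lib.Helper13_OrthC8Defs
open Cfsg.Agent.Lib.Helper40_QuadIso Cfsg.Agent.Lib.Helper44_StdForms
open Cfsg.Agent.Lib.Helper14_WittType

variable {F : Type*} [Field F]

/-- a fixed-point-free isometry of odd prime order of a symmetric bilinear form of dimension `2m` over a finite
field detects the type of the form: the discriminant `(-1)^m det` is a square iff `ord_r(q)` divides `m` -/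
theorem type_of_fixedFree [Fintype F] (h2 : (2 : F) ≠ 0) {V : Type*} [AddCommGroup V] [Module F V]
    [FiniteDimensional F V] (B : LinearMap.BilinForm F V) (hS : B.IsSymm) (hB : B.Nondegenerate)
    {m : ℕ} (hm : 1 ≤ m) (hV : finrank F V = 2 * m) {ι : Type*} [Fintype ι] [DecidableEq ι]
    (b : Basis ι F V) (r : ℕ) (hr : r.Prime) (hr2 : r ≠ 2) (a : Module.End F V)
    (hiso : ∀ u v, B (a u) (a v) = B u v) (hpow : a ^ r = 1) (hfix : ∀ v, a v = v → v = 0)
    (hi1 : orderOf ((Fintype.card F : ℕ) : ZMod r) ≠ 1) :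
    IsSquare ((-1) ^ m * (LinearMap.BilinForm.toMatrix b B).det) ↔
      orderOf ((Fintype.card F : ℕ) : ZMod r) ∣ m := by
  classical
  set Q : QuadraticForm F V := halfQF B with hQdef
  have hpol : QuadraticMap.polarBilin Q = B := polarBilin_halfQF h2 B hS
  have hQnd : (QuadraticMap.polarBilin Q).Nondegenerate := by rw [hpol]; exact hB
  have hQa : ∀ v, Q (a v) = Q v := by
    intro v
    rw [hQdef, halfQF_apply, halfQF_apply, hiso]
  obtain ⟨ζ, hζ⟩ := Cfsg.Agent.Lib.Helper40_QuadStd.exists_aniso (F := F)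
  -- transport along an isometry
  have transport : ∀ {W : Type _} [AddCommGroup W] [Module F W] (Q' : QuadraticForm F W),
      Iso Q Q' → ∃ a' : Module.End F W, (∀ w, Q' (a' w) = Q' w) ∧ a' ^ r = 1 ∧
        ∀ w, a' w = w → w = 0 := by
    intro W _ _ Q' hiso'
    obtain ⟨φ, hφ⟩ := hiso'
    refine ⟨φ.conjRingEquiv a, ?_, ?_, ?_⟩
    · intro w
      have : φ.conjRingEquiv a w = φ (a (φ.symm w)) := rfl
      rw [this, hφ, hQa, ← hφ, φ.apply_symm_apply]
    · rw [← map_pow, hpow, map_one]
    · intro w hw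
      have : φ.conjRingEquiv a w = φ (a (φ.symm w)) := rfl
      rw [this] at hw
      have h1 : a (φ.symm w) = φ.symm w := by
        apply φ.injective
        rw [hw, φ.apply_symm_apply]
      have h3 := hfix _ h1
      have : w = φ (φ.symm w) := (φ.apply_symm_apply w).symm
      rw [this, h3, map_zero]
  have hcases := Cfsg.Agent.Lib.Helper40_QuadStd.iso_plus_or_minus m hm hV Q hQnd 1 ζ hζ
  constructor
  · intro hsq
    obtain ⟨X, hXdim, hXiso⟩ := exists_isotropic_of_isSquare h2 B hS hB hm hV b hsq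
    have hHyp : IsHyp Q := by
      refine ⟨X, ?_, ?_⟩
      · intro u hu
        rw [hQdef, halfQF_apply, hXiso u hu u hu, mul_zero]
      · rw [hV, hXdim]
    rcases hcases with hp | hmn
    · obtain ⟨a', ha'iso, ha'pow, ha'fix⟩ := transport _ hp
      exact Cfsg.Agent.Lib.Helper40_OFixedFree.plus_fixedFree m hm r hr a' ha'iso ha'pow ha'fix hi1
    · exact absurd (IsHyp.of_iso hmn hHyp)
        (Cfsg.Agent.Lib.Helper40_QuadStd.not_isHyp_qfMinus (m - 1) 1 ζ hζ)
  · intro hdvd
    by_contra hnsq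
    rcases hcases with hp | hmn
    · -- Q is hyperbolic, so the discriminant is a square
      have hHyp : IsHyp Q := IsHyp.of_iso hp.symm (Cfsg.Agent.Lib.Helper40_QuadStd.isHyp_qfPlus m)
      obtain ⟨U, hU, hdim⟩ := hHyp
      have hUiso : ∀ x ∈ U, ∀ y ∈ U, B x y = 0 := by
        intro x hx y hy
        have h1 : QuadraticMap.polar (⇑Q) x y = B x y := polar_halfQF h2 B hS x y
        rw [← h1]
        simp only [QuadraticMap.polar]
        rw [hU _ (U.add_mem hx hy), hU x hx, hU y hy]
        ring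
      have hle : U ≤ B.orthogonal U := by
        intro x hx y hy
        exact hUiso y hy x hx
      have h3 := LinearMap.BilinForm.finrank_orthogonal hB U
      have h4 := Submodule.finrank_mono hle
      have h5 : finrank F U ≤ finrank F V := Submodule.finrank_le U
      have hUdim : finrank F U = m := by omega
      exact hnsq (isSquare_of_isotropic B hS hV U hUdim hUiso b)
    · obtain ⟨a', ha'iso, ha'pow, ha'fix⟩ := transport _ hmn
      exact Cfsg.Agent.Lib.Helper40_OFixedFree.minus_fixedFree m hm r hr hr2 1 ζ hζ a' ha'iso ha'pow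
        ha'fix hi1 hdvd

/-- DEVEN -/
theorem DEVEN {F : Type*} [Field F] [Fintype F] (p : ℕ) [Fact p.Prime] [CharP F p] (h2 : (2 : F) ≠ 0)
    {n r t : ℕ} (hr : r.Prime) (hr2 : r ≠ 2) (hrp : r ≠ p)
    (hi : Even (orderOf ((Fintype.card F : ℕ) : ZMod r)))
    (hn : n = orderOf ((Fintype.card F : ℕ) : ZMod r) * t) (ht : 1 ≤ t) :
    ∃ x : Matrix (Fin n) (Fin n) F, x.det = 1 ∧ x ^ r = 1 ∧ (∀ z : F, x ≠ z • 1) ∧
      ∀ A : Matrix (Fin n) (Fin n) F, Aᵀ = A → A.det ≠ 0 → SimM A x →
        (IsSquare ((-1 : F) ^ (n / 2) * A.det) ↔ Even t) := by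
  classical
  have hp : p.Prime := Fact.out
  have : Fact r.Prime := ⟨hr⟩
  set i := orderOf ((Fintype.card F : ℕ) : ZMod r) with hidef
  have hq0 : ((Fintype.card F : ℕ) : ZMod r) ≠ 0 := by
    rw [Ne, ZMod.natCast_eq_zero_iff]
    intro h
    obtain ⟨k, -, hk⟩ := FiniteField.card F p
    rw [hk] at h
    exact hrp ((Nat.prime_dvd_prime_iff_eq hr hp).1 (hr.dvd_of_dvd_pow h))
  have hipos : 0 < i := by
    rw [hidef, orderOf_pos_iff]
    exact isOfFinOrder_iff_pow_eq_one.2 ⟨r - 1, Nat.sub_pos_of_lt hr.one_lt,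
      ZMod.pow_card_sub_one_eq_one hq0⟩
  obtain ⟨j, hj⟩ := hi
  have hj1 : 1 ≤ j := by omega
  have hi2 : 2 ≤ i := by omega
  have hrq : ¬ r ∣ Fintype.card F - 1 := Cfsg.Agent.Lib.Helper99_PrimeOrderSL.not_dvd_card_sub_one hi2
  obtain ⟨y, hyr, hfr, -⟩ := Cfsg.Agent.Lib.Helper99_PrimeOrderSL3.exists_elt (F := F) (p := p) n hr hrp
    hi2 t (le_of_eq hn.symm)
  rw [← hidef, ← hn, Nat.sub_self] at hfr
  set x : Matrix (Fin n) (Fin n) F := (y : Matrix (Fin n) (Fin n) F) with hx
  have hnpos : 0 < n := by rw [hn]; positivity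
  have hfix : ∀ v : Fin n → F, x *ᵥ v = v → v = 0 := by
    intro v hv
    have hmem : v ∈ Module.End.eigenspace (Matrix.toLin' x : Module.End F (Fin n → F)) 1 := by
      rw [Module.End.mem_eigenspace_iff, one_smul, Matrix.toLin'_apply]
      exact hv
    have hbot := Submodule.finrank_eq_zero.1 hfr
    rw [hbot] at hmem
    exact (Submodule.mem_bot F).1 hmem
  refine ⟨x, y.2, hyr, ?_, ?_⟩
  · -- not scalar
    intro z hz
    have hzr : z ^ r = 1 := by
      have h1 : (z • (1 : Matrix (Fin n) (Fin n) F)) ^ r = 1 := by rw [← hz]; exact hyr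
      rw [_root_.smul_pow, one_pow] at h1
      have h3 := congrFun (congrFun h1 ⟨0, hnpos⟩) ⟨0, hnpos⟩
      simpa using h3
    have hz1 : z = 1 := Cfsg.Agent.Lib.Helper99_PrimeOrderSL.eq_one_of_pow_eq_one hr hrq hzr
    rw [hz1, one_smul] at hz
    have hv := hfix (Pi.single ⟨0, hnpos⟩ 1) (by rw [hz, Matrix.one_mulVec])
    have := congrFun hv ⟨0, hnpos⟩
    simp at this
  · intro A hA hAd hsim
    obtain ⟨c, hc0, hc⟩ := hsim
    -- c = 1
    have hpowc : ∀ k : ℕ, (x ^ k)ᵀ * A * x ^ k = c ^ k • A := by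
      intro k
      induction k with
      | zero => simp
      | succ k ih =>
        rw [pow_succ, Matrix.transpose_mul, pow_succ]
        calc xᵀ * (x ^ k)ᵀ * A * (x ^ k * x) = xᵀ * ((x ^ k)ᵀ * A * x ^ k) * x := by
              simp only [Matrix.mul_assoc]
          _ = c ^ k • (xᵀ * A * x) := by
              rw [ih, Matrix.mul_smul, Matrix.smul_mul]
          _ = (c ^ k * c) • A := by rw [hc, smul_smul]
    have hcr : c ^ r = 1 := by
      have h1 := hpowc r
      rw [hyr, Matrix.transpose_one, Matrix.one_mul, Matrix.mul_one] at h1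
      by_contra hne
      apply hAd
      have h3 : (1 - c ^ r) • A = 0 := by rw [sub_smul, one_smul, ← h1, sub_self]
      rcases smul_eq_zero.1 h3 with h4 | h4
      · exact absurd (sub_eq_zero.1 h4).symm hne
      · have : Nonempty (Fin n) := ⟨⟨0, hnpos⟩⟩
        rw [h4, Matrix.det_zero]
    have hc1 : c = 1 := Cfsg.Agent.Lib.Helper99_PrimeOrderSL.eq_one_of_pow_eq_one hr hrq hcr
    rw [hc1, one_smul] at hc
    -- the bilinear form
    set B : LinearMap.BilinForm F (Fin n → F) := Matrix.toBilin' A with hBdef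
    have hBS : B.IsSymm := by
      rw [hBdef, Matrix.isSymm_toBilin'_iff_isSymm]
      exact hA
    have hBnd : B.Nondegenerate := LinearMap.BilinForm.nondegenerate_toBilin'_of_det_ne_zero' A hAd
    have hBapp : ∀ u v : Fin n → F, B u v = u ⬝ᵥ A *ᵥ v := fun u v => Matrix.toBilin'_apply' A u v
    have hBx : ∀ u v : Fin n → F, B (Matrix.toLin' x u) (Matrix.toLin' x v) = B u v := by
      intro u v
      rw [hBapp, hBapp, Matrix.toLin'_apply, Matrix.toLin'_apply, dot_conj, hc]
    have hmat : LinearMap.BilinForm.toMatrix (Pi.basisFun F (Fin n)) B = A := by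
      rw [LinearMap.BilinForm.toMatrix_basisFun, hBdef, LinearMap.BilinForm.toMatrix'_toBilin']
    have hn2 : n / 2 = j * t := by
      rw [hn, hj, ← two_mul, Nat.mul_assoc, Nat.mul_div_cancel_left _ (by norm_num)]
    have hV : finrank F (Fin n → F) = 2 * (j * t) := by
      rw [Module.finrank_fintype_fun_eq_card, Fintype.card_fin, hn, hj]; ring
    have hm : 1 ≤ j * t := Nat.one_le_iff_ne_zero.2 (Nat.mul_ne_zero (by omega) (by omega))
    have hpowx : (Matrix.toLin' x : Module.End F (Fin n → F)) ^ r = 1 := by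
      rw [← Matrix.toLin'_pow, hyr, Matrix.toLin'_one]
      rfl
    have hi1 : i ≠ 1 := by omega
    have key := type_of_fixedFree h2 B hBS hBnd hm hV (Pi.basisFun F (Fin n)) r hr hr2
      (Matrix.toLin' x) hBx hpowx (fun v hv => hfix v (by rw [← Matrix.toLin'_apply]; exact hv)) hi1
    rw [hmat] at key
    rw [hn2, key, ← hidef, hj]
    constructor
    · intro hd
      have h5 : j * 2 ∣ j * t := by rw [mul_two]; exact hd
      exact (even_iff_two_dvd).2 ((Nat.mul_dvd_mul_iff_left (by omega)).1 h5)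
    · intro he
      obtain ⟨k, hk⟩ := he
      exact ⟨k, by rw [hk]; ring⟩

end Cfsg.Agent.Lib.Helper35_OrthC8_DEVEN
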