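import Mathlib
import Cfsg.Prelude.Def_GeometricClasses
import Cfsg.Agent.Lib.Helper43_OrthExtDefs

/-!
# S5977 / S5978 package P0 (helper3): coordinates over `L = F(√Δ)`

`θ` self-adjoint for the polar form of a nondegenerate `Q` on `ι → F` (`|ι| = 2d`) with
`θ² = Δ` a non-square.  Then `ι → F` is an `L`-vector space of dimension `d`
(`ω` acting as `θ`), and `Q` is the real part of a nondegenerate `L`-quadratic form.

* `smul_eq`, `om_om_smul` : the `L`-action in terms of `ω`;
* `bL`, `qL` : the `L`-bilinear form `⟨B(u,v)/2, B(ωu,v)/(2Δ)⟩` and its quadratic form;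
* `P0_abstract` : the abstract version, for any `F`-space with a compatible `L`-structure;
* `P0` : the package statement.
-/

set_option autoImplicit false
set_option linter.unusedSectionVars false

namespace Cfsg.Agent.Lib.Helper3_OrthExt_P0

open Matrix Cfsg.Agent.Lib.Helper3_GUSp_PC1 Cfsg.Agent.Lib.Helper43_OrthExtDefs

section abstract

variable {F : Type*} [Field F] {Δ : F} [Fact (∀ r : F, r ^ 2 ≠ Δ + 0 * r)]
  {V : Type*} [AddCommGroup V] [Module F V] [Module (QE F Δ) V] [IsScalarTower F (QE F Δ) V]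

theorem delta_ne_zero : Δ ≠ 0 := by
  intro h
  have := (Fact.out : ∀ r : F, r ^ 2 ≠ Δ + 0 * r) 0
  simp [h] at this

theorem om_mul_om' : om F Δ * om F Δ = QuadraticAlgebra.C Δ := by
  ext <;> simp [om]

theorem eq_add_mul_om' (z : QE F Δ) :
    z = QuadraticAlgebra.C z.re + QuadraticAlgebra.C z.im * om F Δ := by
  ext <;> simp [om]

theorem smul_eq (z : QE F Δ) (u : V) : z • u = z.re • u + z.im • (om F Δ • u) := by
  conv_lhs => rw [eq_add_mul_om' z]
  rw [add_smul, mul_smul, QuadraticAlgebra.C_eq_algebraMap, algebraMap_smul, algebraMap_smul]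

theorem om_om_smul (u : V) : om F Δ • (om F Δ • u) = Δ • u := by
  rw [← mul_smul, om_mul_om', QuadraticAlgebra.C_eq_algebraMap, algebraMap_smul]

theorem om_smul_smul (a : F) (u : V) : om F Δ • (a • u) = a • (om F Δ • u) :=
  smul_comm _ _ _

variable (Q : QuadraticForm F V)

/-- the function underlying the `L`-bilinear form -/
noncomputable def bLfun (u v : V) : QE F Δ :=
  ⟨QuadraticMap.polar Q u v / 2, QuadraticMap.polar Q (om F Δ • u) v / (2 * Δ)⟩

variable {Q}

theorem bLfun_comm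
    (hsa : ∀ u v : V, QuadraticMap.polar Q (om F Δ • u) v = QuadraticMap.polar Q u (om F Δ • v))
    (u v : V) : bLfun (Δ := Δ) Q u v = bLfun Q v u := by
  unfold bLfun
  rw [QuadraticMap.polar_comm Q u v, hsa u v, QuadraticMap.polar_comm Q u (om F Δ • v)]

theorem bLfun_add_left (u₁ u₂ v : V) :
    bLfun (Δ := Δ) Q (u₁ + u₂) v = bLfun Q u₁ v + bLfun Q u₂ v := by
  unfold bLfun
  ext
  · simp only [QuadraticAlgebra.re_add, QuadraticMap.polar_add_left]; ring
  · simp only [QuadraticAlgebra.im_add, smul_add, QuadraticMap.polar_add_left]; ring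

theorem bLfun_smul_left (h2 : (2 : F) ≠ 0) (z : QE F Δ) (u v : V) :
    bLfun (Δ := Δ) Q (z • u) v = z • bLfun Q u v := by
  have hΔ : Δ ≠ 0 := delta_ne_zero
  have h1 : om F Δ • (z • u) = (Δ * z.im) • u + z.re • (om F Δ • u) := by
    rw [smul_eq z u, smul_add, om_smul_smul, om_smul_smul, om_om_smul, smul_smul, add_comm,
      mul_comm]
  unfold bLfun
  rw [h1, smul_eq z u, smul_eq_mul]
  ext
  · simp only [QuadraticAlgebra.re_mul, QuadraticMap.polar_add_left,
      QuadraticMap.polar_smul_left, smul_eq_mul]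
    field_simp
  · simp only [QuadraticAlgebra.im_mul, QuadraticMap.polar_add_left,
      QuadraticMap.polar_smul_left, smul_eq_mul]
    field_simp
    ring

/-- the `L`-bilinear form `⟨B(u,v)/2, B(ωu,v)/(2Δ)⟩` -/
noncomputable def bL (h2 : (2 : F) ≠ 0)
    (hsa : ∀ u v : V, QuadraticMap.polar Q (om F Δ • u) v = QuadraticMap.polar Q u (om F Δ • v)) :
    LinearMap.BilinForm (QE F Δ) V :=
  LinearMap.mk₂ (QE F Δ) (bLfun Q) bLfun_add_left (bLfun_smul_left h2)
    (fun u v₁ v₂ => by
      rw [bLfun_comm hsa u (v₁ + v₂), bLfun_add_left, bLfun_comm hsa v₁ u, bLfun_comm hsa v₂ u])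
    (fun z u v => by
      rw [bLfun_comm hsa u (z • v), bLfun_smul_left h2, bLfun_comm hsa v u])

theorem bL_apply (h2 : (2 : F) ≠ 0)
    (hsa : ∀ u v : V, QuadraticMap.polar Q (om F Δ • u) v = QuadraticMap.polar Q u (om F Δ • v))
    (u v : V) : bL h2 hsa u v = bLfun Q u v := rfl

/-- the `L`-quadratic form with real part `Q` -/
noncomputable def qL (h2 : (2 : F) ≠ 0)
    (hsa : ∀ u v : V, QuadraticMap.polar Q (om F Δ • u) v = QuadraticMap.polar Q u (om F Δ • v)) :
    QuadraticForm (QE F Δ) V :=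
  LinearMap.BilinMap.toQuadraticMap (bL h2 hsa)

theorem qL_re (h2 : (2 : F) ≠ 0)
    (hsa : ∀ u v : V, QuadraticMap.polar Q (om F Δ • u) v = QuadraticMap.polar Q u (om F Δ • v))
    (u : V) : (qL h2 hsa u).re = Q u := by
  unfold qL
  rw [LinearMap.BilinMap.toQuadraticMap_apply, bL_apply]
  unfold bLfun
  simp only [QuadraticMap.polar_self]
  rw [two_nsmul, ← two_mul]
  field_simp

theorem polar_qL_re (h2 : (2 : F) ≠ 0)
    (hsa : ∀ u v : V, QuadraticMap.polar Q (om F Δ • u) v = QuadraticMap.polar Q u (om F Δ • v))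
    (u v : V) : (QuadraticMap.polar (qL h2 hsa) u v).re = QuadraticMap.polar Q u v := by
  unfold qL
  rw [LinearMap.BilinMap.polar_toQuadraticMap, bL_apply, bL_apply, bLfun_comm hsa v u]
  unfold bLfun
  simp only [QuadraticAlgebra.re_add]
  field_simp
  ring

theorem qL_nondegenerate (h2 : (2 : F) ≠ 0)
    (hsa : ∀ u v : V, QuadraticMap.polar Q (om F Δ • u) v = QuadraticMap.polar Q u (om F Δ • v))
    (hQ : (QuadraticMap.polarBilin Q).Nondegenerate) :
    (QuadraticMap.polarBilin (qL h2 hsa)).Nondegenerate := by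
  have key : ∀ u : V, (∀ v, QuadraticMap.polar (qL h2 hsa) u v = 0) → u = 0 := by
    intro u hu
    apply hQ.1 u
    intro v
    rw [QuadraticMap.polarBilin_apply_apply, ← polar_qL_re h2 hsa, hu v]
    rfl
  constructor
  · intro u hu
    exact key u fun v => by simpa using hu v
  · intro u hu
    apply key u
    intro v
    rw [QuadraticMap.polar_comm]
    simpa using hu v

/-- the abstract version of P0 -/
theorem P0_abstract [FiniteDimensional F V] (h2 : (2 : F) ≠ 0) (d : ℕ)
    (hd : Module.finrank F V = 2 * d) (hQ : (QuadraticMap.polarBilin Q).Nondegenerate)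
    (hsa : ∀ u v : V, QuadraticMap.polar Q (om F Δ • u) v = QuadraticMap.polar Q u (om F Δ • v)) :
    ∃ (q' : QuadraticForm (QE F Δ) (Fin d → QE F Δ)) (Φ : (Fin d → QE F Δ) ≃ₗ[QE F Δ] V),
      (QuadraticMap.polarBilin q').Nondegenerate ∧ (∀ u, Q (Φ u) = (q' u).re) := by
  have : Module.Finite (QE F Δ) V := Module.Finite.of_restrictScalars_finite F (QE F Δ) V
  have hfr : Module.finrank (QE F Δ) V = d := by
    have h1 := Module.finrank_mul_finrank F (QE F Δ) V
    rw [QuadraticAlgebra.finrank_eq_two, hd] at h1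
    omega
  let b : Module.Basis (Fin d) (QE F Δ) V := Module.finBasisOfFinrankEq (QE F Δ) V hfr
  let e : V ≃ₗ[QE F Δ] (Fin d → QE F Δ) := b.equivFun
  refine ⟨(qL h2 hsa).comp (e.symm : (Fin d → QE F Δ) →ₗ[QE F Δ] V), e.symm, ?_, ?_⟩
  · have hnd := qL_nondegenerate h2 hsa hQ
    have key : ∀ u : Fin d → QE F Δ,
        (∀ v, QuadraticMap.polar ((qL h2 hsa).comp (e.symm : (Fin d → QE F Δ) →ₗ[QE F Δ] V)) u v
          = 0) → u = 0 := by
      intro u hu
      have h3 : e.symm u = 0 := by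
        apply hnd.1
        intro w
        have h4 := hu (e w)
        simp only [QuadraticMap.polar, QuadraticMap.comp_apply, LinearEquiv.coe_coe, map_add,
          LinearEquiv.symm_apply_apply] at h4
        rw [QuadraticMap.polarBilin_apply_apply]
        exact h4
      simpa using h3
    constructor
    · intro u hu
      exact key u fun v => by simpa using hu v
    · intro u hu
      apply key u
      intro v
      rw [QuadraticMap.polar_comm]
      simpa using hu v
  · intro u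
    rw [QuadraticMap.comp_apply]
    exact (qL_re h2 hsa _).symm

end abstract

section concrete

variable {F : Type*} [Field F] {Δ : F} {ι : Type} [Fintype ι] [DecidableEq ι]

/-- `L → End_F (ι → F)`, `ω ↦ θ` -/
noncomputable def phi (θ : Matrix ι ι F) (hθ : θ * θ = Δ • (1 : Matrix ι ι F)) :
    QE F Δ →ₐ[F] Module.End F (ι → F) :=
  QuadraticAlgebra.lift ⟨Matrix.toLin' θ, by
    rw [zero_smul, add_zero, Module.End.mul_eq_comp, ← Matrix.toLin'_mul, hθ, map_smul,
      Matrix.toLin'_one]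
    rfl⟩

theorem phi_apply (θ : Matrix ι ι F) (hθ : θ * θ = Δ • (1 : Matrix ι ι F)) (z : QE F Δ)
    (v : ι → F) : phi θ hθ z v = z.re • v + z.im • (θ *ᵥ v) := by
  unfold phi
  simp [QuadraticAlgebra.lift_apply_apply]

/-- **Package P0**: coordinates over `L = F(√Δ)` -/
theorem P0 {F : Type*} [Field F] (h2 : (2 : F) ≠ 0) {ι : Type} [Fintype ι] [DecidableEq ι] (d : ℕ)
    (hcard : Fintype.card ι = 2 * d) (Δ : F) (hΔ : ¬ IsSquare Δ)
    (Q : QuadraticForm F (ι → F)) (hQ : (QuadraticMap.polarBilin Q).Nondegenerate)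
    (θ : Matrix ι ι F) (hθ : θ * θ = Δ • (1 : Matrix ι ι F)) (hsa : IsSA (⇑Q) θ) :
    ∃ (q' : QuadraticForm (QE F Δ) (Fin d → QE F Δ)) (Φ : (Fin d → QE F Δ) ≃ₗ[F] (ι → F)),
      (QuadraticMap.polarBilin q').Nondegenerate ∧
      (∀ u, Φ (om F Δ • u) = θ *ᵥ Φ u) ∧ (∀ u, Q (Φ u) = (q' u).re) := by
  have : Fact (∀ r : F, r ^ 2 ≠ Δ + 0 * r) := ⟨fun r hr => hΔ ⟨r, by rw [← sq, hr]; ring⟩⟩
  let inst : Module (QE F Δ) (ι → F) := Module.compHom (ι → F) (phi θ hθ).toRingHom
  have hsmul : ∀ (z : QE F Δ) (v : ι → F), z • v = phi θ hθ z v := fun _ _ => rfl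
  have : IsScalarTower F (QE F Δ) (ι → F) := ⟨fun a z v => by
    rw [hsmul, hsmul, map_smul, LinearMap.smul_apply]⟩
  have hom : ∀ v : ι → F, om F Δ • v = θ *ᵥ v := by
    intro v
    rw [hsmul, phi_apply]
    simp [om]
  have hfin : Module.finrank F (ι → F) = 2 * d := by
    rw [Module.finrank_fintype_fun_eq_card, hcard]
  obtain ⟨q', Φ, hnd, hq⟩ := P0_abstract (V := ι → F) (Δ := Δ) (Q := Q) h2 d hfin hQ
    (fun u v => by rw [hom, hom]; exact hsa u v)
  refine ⟨q', Φ.restrictScalars F, hnd, ?_, hq⟩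
  intro u
  rw [LinearEquiv.restrictScalars_apply, map_smul, hom, LinearEquiv.restrictScalars_apply]

end concrete

end Cfsg.Agent.Lib.Helper3_OrthExt_P0
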