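import Mathlib
import Cfsg.Prelude.Def_GeometricClasses
import Cfsg.Agent.Lib.Helper43_OrthExtDefs
import Cfsg.Agent.S2623
import Cfsg.Agent.Lib.Helper44_WittMat
import Cfsg.Agent.Lib.Helper22_OrthExt_Pdet
import Cfsg.Agent.Lib.Helper34_OrthExt_PNsq
import Cfsg.Agent.Lib.Helper3_OrthExt_P0

/-!
# S5977 package E1 (helper35 for helper43)

All self-adjoint `θ` with `θ² = Δ` (a non-square) are conjugate under the isometry group of `Q`.
`E1_core` takes the outputs of the packages P0 (for `θ` and `θ'`), Pdet (for the two `L`-forms) and PNsq as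
hypotheses; `E1` is the package statement.
-/

set_option autoImplicit false

open Matrix Cfsg.Agent.Lib.Helper3_GUSp_PC1 Cfsg.Agent.Lib.Helper43_OrthExtDefs

namespace Cfsg.Agent.Lib.Helper35_OrthExt_E1

/-- real and imaginary coordinates -/
noncomputable def coordEquiv (F : Type*) [Field F] (Δ : F) (d : ℕ) :
    (Fin d → QE F Δ) ≃ₗ[F] (Fin d ⊕ Fin d → F) where
  toFun u := Sum.elim (fun k => (u k).re) (fun k => (u k).im)
  invFun w := fun k => ⟨w (Sum.inl k), w (Sum.inr k)⟩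
  map_add' u v := by
    ext (k | k) <;> simp
  map_smul' c u := by
    ext (k | k) <;> simp
  left_inv u := by
    ext k <;> simp
  right_inv w := by
    ext (k | k) <;> simp

/-- `rbasis` as a basis -/
noncomputable def rbasisB (F : Type*) [Field F] (Δ : F) (d : ℕ) :
    Module.Basis (Fin d ⊕ Fin d) F (Fin d → QE F Δ) :=
  Module.Basis.ofEquivFun (coordEquiv F Δ d)

theorem rbasisB_apply (F : Type*) [Field F] (Δ : F) (d : ℕ) (a : Fin d ⊕ Fin d) :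
    rbasisB F Δ d a = rbasis F Δ d a := by
  rw [rbasisB, Module.Basis.coe_ofEquivFun]
  rcases a with k | k
  · ext k' <;> by_cases h : k' = k <;>
      simp [coordEquiv, rbasis, h, QuadraticAlgebra.re_one, QuadraticAlgebra.im_one]
  · ext k' <;> by_cases h : k' = k <;> simp [coordEquiv, rbasis, h, om]


theorem two_ne_zero_QE {F : Type*} [Field F] (h2 : (2 : F) ≠ 0) (Δ : F) : (2 : QE F Δ) ≠ 0 := by
  intro h
  apply h2
  have := congrArg QuadraticAlgebra.re h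
  exact this

/-- E1 from the outputs of P0, Pdet, PNsq -/
theorem E1_core {F : Type*} [Field F] [Fintype F] (h2 : (2 : F) ≠ 0) {ι : Type} [Fintype ι]
    [DecidableEq ι] (d : ℕ) (Δ : F) (hΔ : ¬ IsSquare Δ)
    (Q : QuadraticForm F (ι → F)) (θ θ' : Matrix ι ι F)
    (q' : QuadraticForm (QE F Δ) (Fin d → QE F Δ)) (Φ : (Fin d → QE F Δ) ≃ₗ[F] (ι → F))
    (hq' : (QuadraticMap.polarBilin q').Nondegenerate)
    (hΦθ : ∀ u, Φ (om F Δ • u) = θ *ᵥ Φ u) (hΦQ : ∀ u, Q (Φ u) = (q' u).re)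
    (q'' : QuadraticForm (QE F Δ) (Fin d → QE F Δ)) (Φ' : (Fin d → QE F Δ) ≃ₗ[F] (ι → F))
    (hq'' : (QuadraticMap.polarBilin q'').Nondegenerate)
    (hΦθ' : ∀ u, Φ' (om F Δ • u) = θ' *ᵥ Φ' u) (hΦQ' : ∀ u, Q (Φ' u) = (q'' u).re)
    (hPdet' : (Matrix.of fun a b : Fin d ⊕ Fin d =>
        (QuadraticMap.polar (⇑q') (rbasis F Δ d a) (rbasis F Δ d b)).re).det =
      Δ ^ d * QuadraticAlgebra.norm
        (Matrix.of fun i j : Fin d =>
          QuadraticMap.polar (⇑q') (Pi.single i 1) (Pi.single j 1)).det)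
    (hPdet'' : (Matrix.of fun a b : Fin d ⊕ Fin d =>
        (QuadraticMap.polar (⇑q'') (rbasis F Δ d a) (rbasis F Δ d b)).re).det =
      Δ ^ d * QuadraticAlgebra.norm
        (Matrix.of fun i j : Fin d =>
          QuadraticMap.polar (⇑q'') (Pi.single i 1) (Pi.single j 1)).det)
    (hPN : ∀ z : QE F Δ, z ≠ 0 → (IsSquare z ↔ IsSquare (QuadraticAlgebra.norm z))) :
    ∃ g : GL ι F, g ∈ Cfsg.isometryGroup F (⇑Q) ∧
      (g : Matrix ι ι F) * θ = θ' * (g : Matrix ι ι F) := by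
  classical
  have := fact_of_not_isSquare hΔ
  have hΔ0 : Δ ≠ 0 := fun h => hΔ (h ▸ ⟨0, by simp⟩)
  -- polar forms
  have hpol : ∀ u v, QuadraticMap.polar (⇑Q) (Φ u) (Φ v) = (QuadraticMap.polar (⇑q') u v).re := by
    intro u v
    simp only [QuadraticMap.polar]
    rw [← map_add, hΦQ, hΦQ, hΦQ]
    simp
  have hpol' : ∀ u v, QuadraticMap.polar (⇑Q) (Φ' u) (Φ' v) = (QuadraticMap.polar (⇑q'') u v).re := by
    intro u v
    simp only [QuadraticMap.polar]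
    rw [← map_add, hΦQ', hΦQ', hΦQ']
    simp
  have key := Cfsg.Agent.Lib.Helper44_Disc.isSquare_polar_gram_det_iff Q ((rbasisB F Δ d).map Φ)
    ((rbasisB F Δ d).map Φ')
  simp only [Module.Basis.map_apply, rbasisB_apply, hpol, hpol'] at key
  rw [hPdet', hPdet''] at key
  set D' : QE F Δ := (Matrix.of fun i j : Fin d =>
          QuadraticMap.polar (⇑q') (Pi.single i 1) (Pi.single j 1)).det with hD'
  set D'' : QE F Δ := (Matrix.of fun i j : Fin d =>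
          QuadraticMap.polar (⇑q'') (Pi.single i 1) (Pi.single j 1)).det with hD''
  have hD'0 : D' ≠ 0 := Cfsg.Agent.S2623.gram_det_ne_zero q' hq'
  have hD''0 : D'' ≠ 0 := Cfsg.Agent.S2623.gram_det_ne_zero q'' hq''
  have hn'0 : QuadraticAlgebra.norm D' ≠ 0 := by
    rw [ne_eq, QuadraticAlgebra.norm_eq_zero_iff_eq_zero]; exact hD'0
  have hn''0 : QuadraticAlgebra.norm D'' ≠ 0 := by
    rw [ne_eq, QuadraticAlgebra.norm_eq_zero_iff_eq_zero]; exact hD''0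
  have hΔd : Δ ^ d ≠ 0 := pow_ne_zero _ hΔ0
  -- square classes of the norms agree
  have h1 : IsSquare (QuadraticAlgebra.norm D') ↔ IsSquare (QuadraticAlgebra.norm D'') := by
    rw [← Cfsg.Agent.Lib.Helper44_FinSq.isSquare_mul_iff_iff (mul_ne_zero hΔd hn'0)
      (mul_ne_zero hΔd hn''0)] at key
    rw [← Cfsg.Agent.Lib.Helper44_FinSq.isSquare_mul_iff_iff hn'0 hn''0]
    obtain ⟨s, hs⟩ := key
    refine ⟨s / Δ ^ d, ?_⟩
    rw [div_mul_div_comm, ← hs]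
    field_simp
  have h2L : (2 : QE F Δ) ≠ 0 := two_ne_zero_QE h2 Δ
  have hsq : IsSquare (D' * D'') := by
    rw [Cfsg.Agent.Lib.Helper44_FinSq.isSquare_mul_iff_iff hD'0 hD''0, hPN D' hD'0,
      hPN D'' hD''0]
    exact h1
  obtain ⟨gL, hgL⟩ := (Cfsg.Agent.S2623.result h2L q' q'' hq' hq'').mpr hsq
  -- the isometry
  set g : (ι → F) ≃ₗ[F] (ι → F) := Φ.symm.trans ((gL.restrictScalars F).trans Φ') with hg
  have hgapp : ∀ v, g v = Φ' (gL (Φ.symm v)) := fun v => rfl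
  have hgQ : ∀ v, Q (g v) = Q v := by
    intro v
    rw [hgapp, hΦQ', hgL, ← hΦQ, LinearEquiv.apply_symm_apply]
  have hgθ : ∀ v, g (θ *ᵥ v) = θ' *ᵥ g v := by
    intro v
    rw [hgapp, hgapp, ← hΦθ']
    congr 1
    rw [← map_smul]
    congr 1
    apply Φ.injective
    rw [LinearEquiv.apply_symm_apply, hΦθ, LinearEquiv.apply_symm_apply]
  refine ⟨(Cfsg.Agent.Lib.Helper44_WittMat.isomOfEquiv Q g hgQ : GL ι F),
    (Cfsg.Agent.Lib.Helper44_WittMat.isomOfEquiv Q g hgQ).2, ?_⟩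
  apply Matrix.toLin'.injective
  apply LinearMap.ext
  intro v
  rw [Matrix.toLin'_mul, Matrix.toLin'_mul, LinearMap.comp_apply, LinearMap.comp_apply,
    Matrix.toLin'_apply, Matrix.toLin'_apply, Matrix.toLin'_apply, Matrix.toLin'_apply,
    Cfsg.Agent.Lib.Helper44_WittMat.isomOfEquiv_mulVec, Cfsg.Agent.Lib.Helper44_WittMat.isomOfEquiv_mulVec]
  exact hgθ v

/-- E1 with the package P0 (for the given `Q`) as a hypothesis; Pdet and PNsq are imported -/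
theorem E1_of_P0 {F : Type*} [Field F] [Fintype F] (h2 : (2 : F) ≠ 0) {ι : Type} [Fintype ι]
    [DecidableEq ι] (d : ℕ) (Δ : F) (hΔ : ¬ IsSquare Δ)
    (Q : QuadraticForm F (ι → F))
    (hP0 : ∀ θ : Matrix ι ι F, θ * θ = Δ • (1 : Matrix ι ι F) → IsSA (⇑Q) θ →
      ∃ (q' : QuadraticForm (QE F Δ) (Fin d → QE F Δ)) (Φ : (Fin d → QE F Δ) ≃ₗ[F] (ι → F)),
        (QuadraticMap.polarBilin q').Nondegenerate ∧
        (∀ u, Φ (om F Δ • u) = θ *ᵥ Φ u) ∧ (∀ u, Q (Φ u) = (q' u).re))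
    (θ θ' : Matrix ι ι F) (hθ : θ * θ = Δ • (1 : Matrix ι ι F))
    (hθ' : θ' * θ' = Δ • (1 : Matrix ι ι F)) (hsa : IsSA (⇑Q) θ) (hsa' : IsSA (⇑Q) θ') :
    ∃ g : GL ι F, g ∈ Cfsg.isometryGroup F (⇑Q) ∧
      (g : Matrix ι ι F) * θ = θ' * (g : Matrix ι ι F) := by
  obtain ⟨q', Φ, hq', hΦθ, hΦQ⟩ := hP0 θ hθ hsa
  obtain ⟨q'', Φ', hq'', hΦθ', hΦQ'⟩ := hP0 θ' hθ' hsa'
  exact E1_core h2 d Δ hΔ Q θ θ' q' Φ hq' hΦθ hΦQ q'' Φ' hq'' hΦθ' hΦQ'
    (Cfsg.Agent.Lib.Helper22_OrthExt_Pdet.Pdet Δ d q') (Cfsg.Agent.Lib.Helper22_OrthExt_Pdet.Pdet Δ d q'')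
    (fun z hz => Cfsg.Agent.Lib.Helper34_OrthExt_PNsq.PNsq h2 Δ hΔ z hz)

/-- E1: all self-adjoint `θ` with `θ² = Δ` are conjugate under the isometry group -/
theorem E1 {F : Type*} [Field F] [Fintype F] (h2 : (2 : F) ≠ 0) {ι : Type} [Fintype ι]
    [DecidableEq ι] (d : ℕ) (hcard : Fintype.card ι = 2 * d) (Δ : F) (hΔ : ¬ IsSquare Δ)
    (Q : QuadraticForm F (ι → F)) (hQ : (QuadraticMap.polarBilin Q).Nondegenerate)
    (θ θ' : Matrix ι ι F) (hθ : θ * θ = Δ • (1 : Matrix ι ι F))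
    (hθ' : θ' * θ' = Δ • (1 : Matrix ι ι F)) (hsa : IsSA (⇑Q) θ) (hsa' : IsSA (⇑Q) θ') :
    ∃ g : GL ι F, g ∈ Cfsg.isometryGroup F (⇑Q) ∧
      (g : Matrix ι ι F) * θ = θ' * (g : Matrix ι ι F) :=
  E1_of_P0 h2 d Δ hΔ Q
    (fun θ hθ hsa => Cfsg.Agent.Lib.Helper3_OrthExt_P0.P0 h2 d hcard Δ hΔ Q hQ θ hθ hsa)
    θ θ' hθ hθ' hsa hsa'

end Cfsg.Agent.Lib.Helper35_OrthExt_E1
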