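/-
helper35: S5980 package PA (helper43): orthogonal involutions with a (-1)-eigenspace of any
dimension, for a symmetric Gram matrix in characteristic not 2.
-/
import Mathlib

namespace Cfsg.Agent.Lib.Helper35_OrthInvol

open Matrix

/-- A symmetric matrix over a field with `2 ≠ 0` is congruent to a diagonal matrix. -/
theorem exists_diag_congr {F : Type*} [Field F] (h2 : (2 : F) ≠ 0) {b : ℕ}
    (G : Matrix (Fin b) (Fin b) F) (hG : G.IsSymm) :
    ∃ (Q : Matrix (Fin b) (Fin b) F) (d : Fin b → F),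
      IsUnit Q.det ∧ Qᵀ * G * Q = diagonal d := by
  have : Invertible (2 : F) := invertibleOfNonzero h2
  have hsymm : (Matrix.toBilin' G).IsSymm := Matrix.isSymm_toBilin'_iff_isSymm.mpr hG
  obtain ⟨v0, hv0⟩ := LinearMap.BilinForm.exists_orthogonal_basis
    (LinearMap.BilinForm.isSymm_iff.mp hsymm)
  have hfr : Module.finrank F (Fin b → F) = b := by simp
  let v : Module.Basis (Fin b) F (Fin b → F) := v0.reindex (finCongr hfr)
  have hv : ∀ i j, i ≠ j → Matrix.toBilin' G (v i) (v j) = 0 := by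
    intro i j hij
    simp only [v, Module.Basis.reindex_apply]
    exact hv0 (by simpa using hij)
  refine ⟨(Pi.basisFun F (Fin b)).toMatrix v, fun i => Matrix.toBilin' G (v i) (v i), ?_, ?_⟩
  · have := (Pi.basisFun F (Fin b)).invertibleToMatrix v
    exact Matrix.isUnit_det_of_invertible _
  · have h := LinearMap.BilinForm.toMatrix_mul_basis_toMatrix (Pi.basisFun F (Fin b)) v
      (Matrix.toBilin' G)
    rw [LinearMap.BilinForm.toMatrix_basisFun, LinearMap.BilinForm.toMatrix'_toBilin'] at h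
    rw [h]
    ext i j
    rw [LinearMap.BilinForm.toMatrix_apply]
    by_cases hij : i = j
    · subst hij; simp
    · rw [Matrix.diagonal_apply_ne _ hij]; exact hv i j hij

theorem exists_orth_involution {F : Type*} [Field F] (h2 : (2 : F) ≠ 0) {b : ℕ}
    (G : Matrix (Fin b) (Fin b) F) (hG : G.IsSymm) (k : ℕ) (hk : k ≤ b) :
    ∃ B : Matrix (Fin b) (Fin b) F, B.transpose * G * B = G ∧ B * B = 1 ∧ (B - 1).rank = k := by
  classical
  obtain ⟨Q, d, hQ, hQG⟩ := exists_diag_congr h2 G hG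
  -- the sign vector
  let ε : Fin b → F := fun j => if (j : ℕ) < k then -1 else 1
  have hεε : ∀ j, ε j * ε j = 1 := by
    intro j; simp only [ε]; split_ifs <;> simp
  have hE2 : diagonal ε * diagonal ε = (1 : Matrix (Fin b) (Fin b) F) := by
    rw [Matrix.diagonal_mul_diagonal]
    rw [← Matrix.diagonal_one]
    congr 1
    funext j; exact hεε j
  have hQi : Q * Q⁻¹ = 1 := Matrix.mul_nonsing_inv Q hQ
  have hiQ : Q⁻¹ * Q = 1 := Matrix.nonsing_inv_mul Q hQ
  have hQT : Qᵀ⁻¹ * Qᵀ = 1 := Matrix.nonsing_inv_mul _ (by rwa [Matrix.det_transpose])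
  have hG' : G = Qᵀ⁻¹ * diagonal d * Q⁻¹ := by
    rw [← hQG]
    calc G = (Qᵀ⁻¹ * Qᵀ) * G * (Q * Q⁻¹) := by rw [hQT, hQi]; simp
      _ = Qᵀ⁻¹ * (Qᵀ * G * Q) * Q⁻¹ := by simp only [Matrix.mul_assoc]
  refine ⟨Q * diagonal ε * Q⁻¹, ?_, ?_, ?_⟩
  · have hT : (Q * diagonal ε * Q⁻¹)ᵀ = Qᵀ⁻¹ * diagonal ε * Qᵀ := by
      rw [Matrix.transpose_mul, Matrix.transpose_mul, Matrix.diagonal_transpose,
        Matrix.transpose_nonsing_inv, Matrix.mul_assoc]
    rw [hT]
    have hmid : diagonal ε * diagonal d * diagonal ε = diagonal d := by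
      rw [Matrix.diagonal_mul_diagonal, Matrix.diagonal_mul_diagonal]
      congr 1
      funext j
      rw [mul_comm (ε j) (d j), mul_assoc, hεε j, mul_one]
    calc Qᵀ⁻¹ * diagonal ε * Qᵀ * G * (Q * diagonal ε * Q⁻¹)
        = Qᵀ⁻¹ * (diagonal ε * (Qᵀ * G * Q) * diagonal ε) * Q⁻¹ := by
          simp only [Matrix.mul_assoc]
      _ = Qᵀ⁻¹ * diagonal d * Q⁻¹ := by rw [hQG, hmid]
      _ = G := hG'.symm
  · calc Q * diagonal ε * Q⁻¹ * (Q * diagonal ε * Q⁻¹)
        = Q * (diagonal ε * (Q⁻¹ * Q) * diagonal ε) * Q⁻¹ := by simp only [Matrix.mul_assoc]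
      _ = 1 := by rw [hiQ, Matrix.mul_one, hE2, Matrix.mul_one, hQi]
  · have h1 : Q * diagonal ε * Q⁻¹ - 1 = Q * diagonal (fun j => ε j - 1) * Q⁻¹ := by
      have : diagonal (fun j => ε j - 1) = diagonal ε - (1 : Matrix (Fin b) (Fin b) F) := by
        rw [← Matrix.diagonal_one, Matrix.diagonal_sub]
      rw [this, Matrix.mul_sub, Matrix.sub_mul, Matrix.mul_one, hQi]
    rw [h1]
    have hQi_det : IsUnit (Q⁻¹).det := by
      rw [Matrix.det_nonsing_inv]; exact hQ.ringInverse
    rw [Matrix.rank_mul_eq_left_of_isUnit_det _ _ hQi_det,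
      Matrix.rank_mul_eq_right_of_isUnit_det _ _ hQ, Matrix.rank_diagonal]
    have hne : ∀ j : Fin b, ε j - 1 ≠ 0 ↔ (j : ℕ) < k := by
      intro j
      simp only [ε]
      split_ifs with h
      · simp only [h, iff_true]
        intro h0
        apply h2
        have : (2 : F) = -((-1 : F) - 1) := by ring
        rw [this, h0, neg_zero]
      · simp [h]
    rw [Fintype.card_subtype]
    have : (Finset.univ.filter fun j : Fin b => ε j - 1 ≠ 0)
        = Finset.univ.filter fun j : Fin b => (j : ℕ) < k := by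
      ext j; simp only [Finset.mem_filter, Finset.mem_univ, true_and]; exact hne j
    rw [this]
    rw [Fin.card_filter_val_lt, min_eq_right hk]

end Cfsg.Agent.Lib.Helper35_OrthInvol
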