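import Mathlib
import Cfsg.Prelude.Def_Characters
import Cfsg.Prelude.Def_Blocks
import Cfsg.Prelude.Def_Solvable
import Cfsg.Prelude.Def_Local
import Cfsg.Agent.Lib.Helper3_P2Defs
import Cfsg.Agent.Lib.Helper3_CharCenter
import Cfsg.Agent.Lib.Helper76_GalConj

/-!
# S4705 package P2-ZODD (helper35, for helper3): for perfect `G`, `|Z(G)|` divides `p - 2`
-/

set_option autoImplicit false
set_option linter.unusedSectionVars false
set_option linter.unusedVariables false

namespace Cfsg.Agent.Lib.Helper35_P2_ZODD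

open Cfsg Cfsg.Agent.Lib.Helper3_P2Defs
open scoped ComplexConjugate

universe u

variable {G : Type u} [Group G] [Fintype G] {p : ℕ} [hp : Fact p.Prime] {P : Sylow p G}
  {V : Subgroup G} {ζ : G → ℂ}

/-- the determinant of a representation on `Fin n → ℂ` is trivial on a perfect group -/
theorem det_eq_one_of_perfect {n : ℕ} (ρ : Representation ℂ G (Fin n → ℂ)) (hperf : commutator G = ⊤)
    (g : G) : LinearMap.det (ρ g) = 1 := by
  let d : G →* ℂˣ := ((LinearMap.det : ((Fin n → ℂ) →ₗ[ℂ] (Fin n → ℂ)) →* ℂ).comp ρ).toHomUnits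
  have h1 : commutator G ≤ d.ker := Abelianization.commutator_subset_ker d
  have h2 : g ∈ d.ker := h1 (by rw [hperf]; exact Subgroup.mem_top g)
  have h3 : d g = 1 := MonoidHom.mem_ker.mp h2
  have h4 : ((d g : ℂˣ) : ℂ) = LinearMap.det (ρ g) := rfl
  rw [← h4, h3, Units.val_one]

theorem zodd (h : Hyp G p P ζ) (hperf : commutator G = ⊤) :
    Nat.card (Subgroup.center G) ∣ p - 2 := by
  classical
  obtain ⟨n, ρ, hirr, hchar⟩ := h.irr
  haveI := hirr
  set χ : IrrCharacter G := ⟨ζ, h.irr⟩ with hχ
  -- the degree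
  have h1 : ζ 1 = (n : ℂ) := by
    rw [← hchar]
    show LinearMap.trace ℂ (Fin n → ℂ) (ρ 1) = n
    rw [map_one]
    show LinearMap.trace ℂ (Fin n → ℂ) LinearMap.id = n
    rw [LinearMap.trace_id, Module.finrank_fin_fun]
  have hn : n = p - 2 := by
    have := h.deg
    unfold charDegree at this
    rw [h1] at this
    simpa using this
  have hp5 := h.p5
  have hn0 : (n : ℂ) ≠ 0 := by
    have : n ≠ 0 := by omega
    exact_mod_cast this
  -- faithful
  have hker : Cfsg.Agent.Lib.Helper76_GalConj.kerC χ = ⊥ := by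
    rw [eq_bot_iff]
    intro g hg
    rw [Cfsg.Agent.Lib.Helper76_GalConj.mem_kerC] at hg
    exact Subgroup.mem_bot.mpr (h.faith g hg)
  have hinj : Function.Injective (Cfsg.Agent.Lib.Helper76_GalConj.centralHom χ) := by
    apply Cfsg.Agent.Lib.Helper76_GalConj.centralHom_injective
    intro z _ hz
    rw [hker, Subgroup.mem_bot] at hz
    exact hz
  haveI hcyc : IsCyclic (Subgroup.center G) :=
    Cfsg.Agent.Lib.Helper76_GalConj.isCyclic_center_of_faithful χ hker
  -- every central element has `w ^ n = 1`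
  have hpow : ∀ w : Subgroup.center G, w ^ n = 1 := by
    intro w
    apply hinj
    rw [map_pow, map_one]
    obtain ⟨c, hc⟩ := Cfsg.Agent.Lib.Helper3_CharCenter.exists_scalar_of_mem_center ρ w.2
    have hdet := det_eq_one_of_perfect ρ hperf (w : G)
    rw [hc, LinearMap.det_smul, Module.finrank_fin_fun, LinearMap.det_id, mul_one] at hdet
    have hval : Cfsg.Agent.Lib.Helper76_GalConj.centralHom χ w = c := by
      rw [Cfsg.Agent.Lib.Helper76_GalConj.centralHom_apply]
      show ζ (w : G) / ζ 1 = c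
      rw [h1, ← hchar]
      show LinearMap.trace ℂ (Fin n → ℂ) (ρ (w : G)) / n = c
      rw [hc, map_smul, LinearMap.trace_id, Module.finrank_fin_fun, smul_eq_mul]
      field_simp
    rw [hval, hdet]
  obtain ⟨g, hg⟩ := hcyc.exists_generator
  have hord : orderOf g = Nat.card (Subgroup.center G) := orderOf_eq_card_of_forall_mem_zpowers hg
  rw [← hord, ← hn]
  exact orderOf_dvd_of_pow_eq_one (hpow g)

end Cfsg.Agent.Lib.Helper35_P2_ZODD
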