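import Mathlib
import Cfsg.Prelude.Def_CaseTheorems
import Cfsg.Agent.Lib.Helper1_Frattini
import Cfsg.Agent.Lib.Helper32_PGroup
import Cfsg.Agent.Lib.Helper50_Basic

/-!
Sectional rank toolkit (helper4): elementary abelian sections `H / N` of a group `S`, phrased
elementwise for subgroups `N ≤ H` of `S`; the bound coming from `Cfsg.SectionalPRankLE`; the
subgroup `Sq P` generated by the squares of a subgroup `P`; products of commuting subgroups.
-/

set_option autoImplicit false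

namespace Cfsg.Agent.Lib.Helper4_SectRank

open Subgroup

variable {S : Type*} [Group S]

/-- the conjugate subgroup `g P g⁻¹` -/
abbrev cj (g : S) (P : Subgroup S) : Subgroup S := P.map (MulAut.conj g).toMonoidHom

theorem mem_cj {g x : S} {P : Subgroup S} : x ∈ cj g P ↔ g⁻¹ * x * g ∈ P := by
  constructor
  · rintro ⟨u, hu, rfl⟩
    have h1 : g⁻¹ * ((MulAut.conj g).toMonoidHom u) * g = u := by
      show g⁻¹ * (g * u * g⁻¹) * g = u
      group
    rwa [h1]
  · intro h
    refine ⟨g⁻¹ * x * g, h, ?_⟩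
    show g * (g⁻¹ * x * g) * g⁻¹ = x
    group

theorem conj_mem_cj {g x : S} {P : Subgroup S} (hx : x ∈ P) : g * x * g⁻¹ ∈ cj g P :=
  ⟨x, hx, rfl⟩

theorem card_cj (g : S) (P : Subgroup S) : Nat.card (cj g P) = Nat.card P :=
  Subgroup.card_map_of_injective (MulAut.conj g).injective

theorem cj_cj (a b : S) (P : Subgroup S) : cj a (cj b P) = cj (a * b) P := by
  ext y
  rw [mem_cj, mem_cj, mem_cj]
  have h1 : b⁻¹ * (a⁻¹ * y * a) * b = (a * b)⁻¹ * y * (a * b) := by group
  rw [h1]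

theorem cj_one (P : Subgroup S) : cj 1 P = P := by
  ext y
  rw [mem_cj]
  simp

theorem cj_mono {g : S} {P Q : Subgroup S} (h : P ≤ Q) : cj g P ≤ cj g Q :=
  Subgroup.map_mono h

theorem cj_sup (g : S) (P Q : Subgroup S) : cj g (P ⊔ Q) = cj g P ⊔ cj g Q :=
  Subgroup.map_sup P Q _

theorem cj_eq_of_forall [Finite S] {g : S} {P : Subgroup S} (h : ∀ x ∈ P, g * x * g⁻¹ ∈ P) :
    cj g P = P := by
  apply Subgroup.eq_of_le_of_card_ge
  · rintro _ ⟨u, hu, rfl⟩
    exact h u hu
  · rw [card_cj]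

/-! ### Elementary abelian sections -/

/-- `H / N` is an elementary abelian `p`-section (elementwise form) -/
structure IsEASection (p : ℕ) (H N : Subgroup S) : Prop where
  le : N ≤ H
  norm : ∀ h ∈ H, ∀ n ∈ N, h * n * h⁻¹ ∈ N
  comm : ∀ a ∈ H, ∀ b ∈ H, a * b * a⁻¹ * b⁻¹ ∈ N
  pow : ∀ a ∈ H, a ^ p ∈ N

theorem card_le_of_section {p k : ℕ} (hr : Cfsg.SectionalPRankLE p k S) {H N : Subgroup S}
    (h : IsEASection p H N) : Nat.card H ≤ p ^ k * Nat.card N := by
  have hnormal : (N.subgroupOf H).Normal := by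
    constructor
    intro n hn g
    rw [mem_subgroupOf] at hn ⊢
    exact h.norm g g.2 n hn
  have h1 := hr H (N.subgroupOf H) ⊤ (by
      refine ⟨⟨?_⟩⟩
      rintro ⟨a, -⟩ ⟨b, -⟩
      apply Subtype.ext
      show a * b = b * a
      induction a using QuotientGroup.induction_on with
      | H x =>
        induction b using QuotientGroup.induction_on with
        | H y =>
          rw [← QuotientGroup.mk_mul, ← QuotientGroup.mk_mul, QuotientGroup.eq, mem_subgroupOf]
          have h2 := h.comm _ (inv_mem x.2) _ (inv_mem y.2)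
          have e1 : (((x * y)⁻¹ * (y * x) : ↥H) : S) =
              ((x : S)⁻¹ * (y : S)⁻¹ * ((x : S)⁻¹)⁻¹ * ((y : S)⁻¹)⁻¹)⁻¹ := by
            push_cast
            group
          rw [e1]
          exact inv_mem h2)
    (by
      intro a _
      induction a using QuotientGroup.induction_on with
      | H x =>
        rw [← QuotientGroup.mk_pow, QuotientGroup.eq_one_iff, mem_subgroupOf]
        push_cast
        exact h.pow x x.2)
  have h2 : Nat.card (⊤ : Subgroup (↥H ⧸ N.subgroupOf H)) = Nat.card (↥H ⧸ N.subgroupOf H) :=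
    Subgroup.card_top
  rw [h2] at h1
  have h3 := Subgroup.card_eq_card_quotient_mul_card_subgroup (N.subgroupOf H)
  have h4 : Nat.card (N.subgroupOf H) = Nat.card N :=
    Nat.card_congr (Subgroup.subgroupOfEquivOfLe h.le).toEquiv
  rw [h3, h4]
  exact Nat.mul_le_mul_right _ h1

/-- a section generated by commuting elements of order dividing 2 modulo `N` is elementary
abelian -/
theorem isEASection_closure [Finite S] (N : Subgroup S) (X : Set S) (hNle : N ≤ closure X)
    (hXN : ∀ x ∈ X, ∀ n ∈ N, x * n * x⁻¹ ∈ N)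
    (hcomm : ∀ x ∈ X, ∀ y ∈ X, x * y * x⁻¹ * y⁻¹ ∈ N)
    (hsq : ∀ x ∈ X, x * x ∈ N) : IsEASection 2 (closure X) N := by
  have hK : closure X ≤ normalizer (N : Set S) := by
    rw [closure_le]
    intro x hx
    apply Helper50_Basic.mem_normalizer_of_map_conj_le
    rintro _ ⟨n, hn, rfl⟩
    exact hXN x hx n hn
  have hnorm : ∀ a ∈ closure X, ∀ n ∈ N, a * n * a⁻¹ ∈ N := by
    intro a ha n hn
    exact (mem_normalizer_iff.mp (hK ha) n).mp hn
  have hc : ∀ a ∈ closure X, ∀ b ∈ closure X, a * b * a⁻¹ * b⁻¹ ∈ N := by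
    intro a ha b hb
    induction ha, hb using closure_induction₂ with
    | mem x y hx hy => exact hcomm x hx y hy
    | one_left x hx => simp
    | one_right x hx => simp
    | mul_left x y z hx hy hz h1 h2 =>
      have e1 : x * y * z * (x * y)⁻¹ * z⁻¹ = x * (y * z * y⁻¹ * z⁻¹) * x⁻¹ * (x * z * x⁻¹ * z⁻¹) := by
        group
      rw [e1]
      exact mul_mem (hnorm x hx _ h2) h1
    | mul_right y z x hy hz hx h1 h2 =>
      have e1 : x * (y * z) * x⁻¹ * (y * z)⁻¹ = (x * y * x⁻¹ * y⁻¹) * (y * (x * z * x⁻¹ * z⁻¹) * y⁻¹) := by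
        group
      rw [e1]
      exact mul_mem h1 (hnorm y hy _ h2)
    | inv_left x y hx hy h1 =>
      have e1 : x⁻¹ * y * x⁻¹⁻¹ * y⁻¹ = x⁻¹ * (x * y * x⁻¹ * y⁻¹)⁻¹ * x⁻¹⁻¹ := by group
      rw [e1]
      exact hnorm _ (inv_mem hx) _ (inv_mem h1)
    | inv_right x y hx hy h1 =>
      have e1 : x * y⁻¹ * x⁻¹ * y⁻¹⁻¹ = y⁻¹ * (x * y * x⁻¹ * y⁻¹)⁻¹ * y⁻¹⁻¹ := by group
      rw [e1]
      exact hnorm _ (inv_mem hy) _ (inv_mem h1)
  refine ⟨hNle, hnorm, hc, ?_⟩
  · intro a ha
    rw [pow_two]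
    induction ha using closure_induction with
    | mem x hx => exact hsq x hx
    | one => simp
    | mul x y hx hy h1 h2 =>
      have e1 : x * y * (x * y) = x * x * (x⁻¹ * y * x⁻¹⁻¹ * y⁻¹) * (y * y) := by group
      rw [e1]
      exact mul_mem (mul_mem h1 (hc _ (inv_mem hx) _ hy)) h2
    | inv x hx h1 =>
      have e1 : x⁻¹ * x⁻¹ = (x * x)⁻¹ := by group
      rw [e1]
      exact inv_mem h1


/-- order of the preimage of a subgroup of a quotient -/
theorem card_comap_mk' {G : Type*} [Group G] [Finite G] (N : Subgroup G) [N.Normal]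
    (A : Subgroup (G ⧸ N)) :
    Nat.card (A.comap (QuotientGroup.mk' N)) = Nat.card A * Nat.card N := by
  have h1 : (A.comap (QuotientGroup.mk' N)).index = A.index :=
    Subgroup.index_comap_of_surjective A (QuotientGroup.mk'_surjective N)
  have h2 := (A.comap (QuotientGroup.mk' N)).card_mul_index
  have h3 := A.card_mul_index
  have h4 := Subgroup.card_eq_card_quotient_mul_card_subgroup N
  rw [h1] at h2
  have hpos : 0 < A.index := Nat.pos_of_ne_zero Subgroup.index_ne_zero_of_finite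
  apply Nat.eq_of_mul_eq_mul_right hpos
  rw [h2, h4, ← h3]
  ring

/-- to bound the sectional rank of a subgroup `P` it suffices to bound the elementary abelian
sections `H / N` with `H ≤ P`, as subgroups of the ambient group -/
theorem sectionalPRankLE_subgroup_of_forall [Finite S] {p k : ℕ} (P : Subgroup S)
    (h : ∀ H N : Subgroup S, H ≤ P → IsEASection p H N → Nat.card H ≤ p ^ k * Nat.card N) :
    Cfsg.SectionalPRankLE p k ↥P := by
  intro H N hN A hA hexp
  let ι : ↥H →* S := P.subtype.comp H.subtype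
  have hι : Function.Injective ι := by
    intro a b hab
    apply Subtype.ext
    apply Subtype.ext
    exact hab
  have hsec : IsEASection p ((A.comap (QuotientGroup.mk' N)).map ι) (N.map ι) := by
    refine ⟨?_, ?_, ?_, ?_⟩
    · apply Subgroup.map_mono
      intro n hn
      rw [Subgroup.mem_comap]
      have : (QuotientGroup.mk' N) n = 1 := (QuotientGroup.eq_one_iff n).mpr hn
      rw [this]
      exact one_mem _
    · rintro _ ⟨a, -, rfl⟩ _ ⟨n, hn, rfl⟩
      refine ⟨a * n * a⁻¹, hN.conj_mem n hn a, ?_⟩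
      simp only [map_mul, map_inv]
    · rintro _ ⟨a, ha, rfl⟩ _ ⟨b, hb, rfl⟩
      refine ⟨a * b * a⁻¹ * b⁻¹, ?_, ?_⟩
      · have ha : (QuotientGroup.mk' N) a ∈ A := ha
        have hb : (QuotientGroup.mk' N) b ∈ A := hb
        show a * b * a⁻¹ * b⁻¹ ∈ N
        rw [← QuotientGroup.eq_one_iff]
        have hc : (QuotientGroup.mk' N) a * (QuotientGroup.mk' N) b =
            (QuotientGroup.mk' N) b * (QuotientGroup.mk' N) a :=
          congrArg Subtype.val (hA.is_comm.comm ⟨_, ha⟩ ⟨_, hb⟩)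
        have e1 : ((a * b * a⁻¹ * b⁻¹ : ↥H) : ↥H ⧸ N) =
            (QuotientGroup.mk' N) a * (QuotientGroup.mk' N) b * ((QuotientGroup.mk' N) a)⁻¹ *
              ((QuotientGroup.mk' N) b)⁻¹ := by
          simp only [QuotientGroup.mk'_apply, QuotientGroup.mk_mul, QuotientGroup.mk_inv]
        rw [e1, hc]
        group
      · simp only [map_mul, map_inv]
    · rintro _ ⟨a, ha, rfl⟩
      refine ⟨a ^ p, ?_, ?_⟩
      · have ha : (QuotientGroup.mk' N) a ∈ A := ha
        show a ^ p ∈ N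
        rw [← QuotientGroup.eq_one_iff]
        have := hexp _ ha
        rw [QuotientGroup.mk_pow]
        exact this
      · simp only [map_pow]
  have hle : (A.comap (QuotientGroup.mk' N)).map ι ≤ P := by
    rintro _ ⟨a, -, rfl⟩
    exact (a : ↥P).2
  have h1 := h _ _ hle hsec
  rw [Subgroup.card_map_of_injective hι, Subgroup.card_map_of_injective hι, card_comap_mk'] at h1
  have hpos : 0 < Nat.card N := Nat.card_pos
  exact Nat.le_of_mul_le_mul_right h1 hpos


theorem conj_mem_sup {A B A' B' : Subgroup S} {x : S} (hA : ∀ a ∈ A, x * a * x⁻¹ ∈ A')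
    (hB : ∀ b ∈ B, x * b * x⁻¹ ∈ B') {n : S} (hn : n ∈ A ⊔ B) : x * n * x⁻¹ ∈ A' ⊔ B' := by
  have h1 : x * n * x⁻¹ ∈ cj x (A ⊔ B) := conj_mem_cj hn
  rw [cj_sup] at h1
  have hA' : cj x A ≤ A' := by
    rintro _ ⟨a, ha, rfl⟩
    exact hA a ha
  have hB' : cj x B ≤ B' := by
    rintro _ ⟨b, hb, rfl⟩
    exact hB b hb
  exact sup_le_sup hA' hB' h1

/-- the conjugate of an elementary abelian section -/
theorem IsEASection.cj {p : ℕ} {H N : Subgroup S} (h : IsEASection p H N) (g : S) :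
    IsEASection p (cj g H) (cj g N) := by
  refine ⟨cj_mono h.le, ?_, ?_, ?_⟩
  · rintro _ ⟨a, ha, rfl⟩ _ ⟨n, hn, rfl⟩
    refine ⟨a * n * a⁻¹, h.norm a ha n hn, ?_⟩
    simp only [map_mul, map_inv]
  · rintro _ ⟨a, ha, rfl⟩ _ ⟨b, hb, rfl⟩
    refine ⟨a * b * a⁻¹ * b⁻¹, h.comm a ha b hb, ?_⟩
    simp only [map_mul, map_inv]
  · rintro _ ⟨a, ha, rfl⟩
    refine ⟨a ^ p, h.pow a ha, ?_⟩
    simp only [map_pow]

/-! ### Products of commuting subgroups -/

theorem exists_mul_of_mem_sup {A B : Subgroup S} (hc : ∀ a ∈ A, ∀ b ∈ B, a * b = b * a) {x : S}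
    (hx : x ∈ A ⊔ B) : ∃ a ∈ A, ∃ b ∈ B, x = a * b := by
  let T : Subgroup S :=
    { carrier := {x | ∃ a ∈ A, ∃ b ∈ B, x = a * b}
      one_mem' := ⟨1, one_mem _, 1, one_mem _, by simp⟩
      mul_mem' := by
        rintro _ _ ⟨a, ha, b, hb, rfl⟩ ⟨a', ha', b', hb', rfl⟩
        refine ⟨a * a', mul_mem ha ha', b * b', mul_mem hb hb', ?_⟩
        have := hc a' ha' b hb
        calc a * b * (a' * b') = a * (b * a') * b' := by group
          _ = a * (a' * b) * b' := by rw [this]
          _ = a * a' * (b * b') := by group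
      inv_mem' := by
        rintro _ ⟨a, ha, b, hb, rfl⟩
        refine ⟨a⁻¹, inv_mem ha, b⁻¹, inv_mem hb, ?_⟩
        have := hc a ha b hb
        calc (a * b)⁻¹ = (b * a)⁻¹ := by rw [this]
          _ = a⁻¹ * b⁻¹ := by group }
  have hle : A ⊔ B ≤ T := by
    apply sup_le
    · intro a ha; exact ⟨a, ha, 1, one_mem _, by simp⟩
    · intro b hb; exact ⟨1, one_mem _, b, hb, by simp⟩
  exact hle hx

theorem card_sup_of_commute {A B : Subgroup S} (hc : ∀ a ∈ A, ∀ b ∈ B, a * b = b * a)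
    (hd : A ⊓ B = ⊥) : Nat.card (A ⊔ B : Subgroup S) = Nat.card A * Nat.card B := by
  rw [← Nat.card_prod]
  symm
  apply Nat.card_congr
  refine Equiv.ofBijective
    (fun ab : A × B => (⟨(ab.1 : S) * (ab.2 : S),
      mul_mem (le_sup_left (a := A) (b := B) ab.1.2) (le_sup_right (a := A) (b := B) ab.2.2)⟩ :
        ↥(A ⊔ B))) ⟨?_, ?_⟩
  · rintro ⟨⟨a, ha⟩, ⟨b, hb⟩⟩ ⟨⟨a', ha'⟩, ⟨b', hb'⟩⟩ h
    have h1 : a * b = a' * b' := congrArg Subtype.val h
    have h2 : a'⁻¹ * a = b' * b⁻¹ := by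
      calc a'⁻¹ * a = a'⁻¹ * (a * b) * b⁻¹ := by group
        _ = a'⁻¹ * (a' * b') * b⁻¹ := by rw [h1]
        _ = b' * b⁻¹ := by group
    have h3 : a'⁻¹ * a ∈ A ⊓ B :=
      Subgroup.mem_inf.mpr ⟨mul_mem (inv_mem ha') ha, by rw [h2]; exact mul_mem hb' (inv_mem hb)⟩
    rw [hd, mem_bot] at h3
    have h4 : a = a' := by
      calc a = a' * (a'⁻¹ * a) := by group
        _ = a' := by rw [h3, mul_one]
    have h5 : b' * b⁻¹ = 1 := by rw [← h2, h3]
    have h6 : b = b' := by
      calc b = (b' * b⁻¹)⁻¹ * b' := by group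
        _ = b' := by rw [h5]; group
    subst h4 h6
    rfl
  · rintro ⟨x, hx⟩
    obtain ⟨a, ha, b, hb, rfl⟩ := exists_mul_of_mem_sup hc hx
    exact ⟨⟨⟨a, ha⟩, ⟨b, hb⟩⟩, rfl⟩

/-- elements of subgroups normalizing each other with trivial intersection commute -/
theorem commute_of_disjoint_normalizing {A B : Subgroup S} (hd : A ⊓ B = ⊥)
    (hAB : ∀ a ∈ A, ∀ b ∈ B, a * b * a⁻¹ ∈ B) (hBA : ∀ b ∈ B, ∀ a ∈ A, b * a * b⁻¹ ∈ A) :
    ∀ a ∈ A, ∀ b ∈ B, a * b = b * a := by
  intro a ha b hb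
  have h1 : a * b * a⁻¹ * b⁻¹ ∈ A ⊓ B := by
    apply Subgroup.mem_inf.mpr
    constructor
    · have e1 : a * b * a⁻¹ * b⁻¹ = a * (b * a⁻¹ * b⁻¹) := by group
      rw [e1]
      exact mul_mem ha (hBA b hb _ (inv_mem ha))
    · exact mul_mem (hAB a ha b hb) (inv_mem hb)
  rw [hd, mem_bot] at h1
  calc a * b = (a * b * a⁻¹ * b⁻¹) * (b * a) := by group
    _ = b * a := by rw [h1, one_mul]

/-! ### The subgroup generated by squares -/

/-- the subgroup generated by the squares of the elements of `P` -/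
def Sq (P : Subgroup S) : Subgroup S := closure {y | ∃ x ∈ P, y = x * x}

theorem Sq_le (P : Subgroup S) : Sq P ≤ P := by
  unfold Sq
  rw [closure_le]
  rintro _ ⟨x, hx, rfl⟩
  exact mul_mem hx hx

theorem sq_mem_Sq {P : Subgroup S} {x : S} (hx : x ∈ P) : x * x ∈ Sq P :=
  subset_closure ⟨x, hx, rfl⟩

theorem comm_mem_Sq {P : Subgroup S} {x y : S} (hx : x ∈ P) (hy : y ∈ P) :
    x * y * x⁻¹ * y⁻¹ ∈ Sq P := by
  have e1 : x * y * x⁻¹ * y⁻¹ = (x * x) * ((x⁻¹ * y) * (x⁻¹ * y)) * (y * y)⁻¹ := by group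
  rw [e1]
  exact mul_mem (mul_mem (sq_mem_Sq hx) (sq_mem_Sq (mul_mem (inv_mem hx) hy)))
    (inv_mem (sq_mem_Sq hy))

theorem conj_mem_Sq {P P' : Subgroup S} {g : S} (h : ∀ x ∈ P, g * x * g⁻¹ ∈ P') {d : S}
    (hd : d ∈ Sq P) : g * d * g⁻¹ ∈ Sq P' := by
  unfold Sq at hd
  induction hd using closure_induction with
  | mem y hy =>
    obtain ⟨x, hx, rfl⟩ := hy
    have e1 : g * (x * x) * g⁻¹ = (g * x * g⁻¹) * (g * x * g⁻¹) := by group
    rw [e1]
    exact sq_mem_Sq (h x hx)
  | one => simp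
  | mul x y _ _ h1 h2 =>
    have e1 : g * (x * y) * g⁻¹ = (g * x * g⁻¹) * (g * y * g⁻¹) := by group
    rw [e1]
    exact mul_mem h1 h2
  | inv x _ h1 =>
    have e1 : g * x⁻¹ * g⁻¹ = (g * x * g⁻¹)⁻¹ := by group
    rw [e1]
    exact inv_mem h1

theorem Sq_cj (g : S) (P : Subgroup S) : Sq (cj g P) = cj g (Sq P) := by
  apply le_antisymm
  · intro d hd
    rw [mem_cj]
    have h1 : ∀ x ∈ cj g P, g⁻¹ * x * g⁻¹⁻¹ ∈ P := by
      intro x hx
      rw [inv_inv]
      exact mem_cj.mp hx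
    have := conj_mem_Sq h1 hd
    rwa [inv_inv] at this
  · rintro _ ⟨d, hd, rfl⟩
    exact conj_mem_Sq (fun x hx => conj_mem_cj hx) hd

theorem card_Sq_cj (g : S) (P : Subgroup S) : Nat.card (Sq (cj g P)) = Nat.card (Sq P) := by
  rw [Sq_cj, card_cj]

/-- a nonabelian finite `2`-group has at least four cosets of its subgroup of squares -/
theorem four_mul_card_Sq_le [Finite S] (P : Subgroup S) (hP : IsPGroup 2 P)
    (hnc : ∃ x ∈ P, ∃ y ∈ P, x * y ≠ y * x) : 4 * Nat.card (Sq P) ≤ Nat.card P := by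
  have : Fact (Nat.Prime 2) := ⟨Nat.prime_two⟩
  -- the Frattini subgroup contains the squares
  have h1 : (Sq P).subgroupOf P ≤ frattini ↥P := by
    intro d hd
    rw [mem_subgroupOf] at hd
    obtain ⟨d, hdP⟩ := d
    simp only at hd
    unfold Sq at hd
    induction hd using closure_induction with
    | mem y hy =>
      obtain ⟨x, hx, rfl⟩ := hy
      have := Helper1_Frattini.pow_mem_frattini_of_isPGroup hP (⟨x, hx⟩ : ↥P)
      rw [pow_two] at this
      exact this
    | one => exact one_mem _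
    | mul x y hx hy h1 h2 =>
      have hxP : x ∈ P := Sq_le P hx
      have hyP : y ∈ P := Sq_le P hy
      exact mul_mem (h1 hxP) (h2 hyP)
    | inv x hx h1 =>
      have hxP : x ∈ P := Sq_le P hx
      exact inv_mem (h1 hxP)
  have h2 : Nat.card (Sq P) ≤ Nat.card (frattini ↥P) := by
    rw [← Nat.card_congr (Subgroup.subgroupOfEquivOfLe (Sq_le P)).toEquiv]
    exact Subgroup.card_le_of_le h1
  -- the Frattini quotient has order at least four
  have h3 := Subgroup.card_eq_card_quotient_mul_card_subgroup (frattini ↥P)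
  have hq : IsPGroup 2 (↥P ⧸ frattini ↥P) := hP.to_quotient _
  obtain ⟨k, hk⟩ := IsPGroup.iff_card.mp hq
  have hk2 : 2 ≤ k := by
    by_contra hcon
    push Not at hcon
    have hcyc : IsCyclic (↥P ⧸ frattini ↥P) := by
      have : k = 0 ∨ k = 1 := by omega
      rcases this with h | h
      · rw [h, pow_zero] at hk
        have : Subsingleton (↥P ⧸ frattini ↥P) := (Nat.card_eq_one_iff_unique.mp hk).1
        infer_instance
      · rw [h, pow_one] at hk
        exact isCyclic_of_prime_card hk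
    obtain ⟨q, hq⟩ := hcyc.exists_generator
    obtain ⟨x, rfl⟩ := QuotientGroup.mk_surjective q
    have htop : zpowers x ⊔ frattini ↥P = ⊤ := by
      rw [eq_top_iff]
      intro y _
      obtain ⟨m, hm⟩ := hq (y : ↥P ⧸ frattini ↥P)
      have hm' : ((x ^ m : ↥P) : ↥P ⧸ frattini ↥P) = (y : ↥P ⧸ frattini ↥P) := by
        rw [QuotientGroup.mk_zpow]; exact hm
      rw [QuotientGroup.eq] at hm'
      have e1 : y = x ^ m * ((x ^ m)⁻¹ * y) := by group
      rw [e1]
      exact mul_mem (le_sup_left (a := zpowers x) (zpow_mem (mem_zpowers x) m))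
        (le_sup_right (a := zpowers x) hm')
    have h4 := frattini_nongenerating htop
    obtain ⟨a, ha, b, hb, hab⟩ := hnc
    apply hab
    have ha' : (⟨a, ha⟩ : ↥P) ∈ zpowers x := by rw [h4]; trivial
    have hb' : (⟨b, hb⟩ : ↥P) ∈ zpowers x := by rw [h4]; trivial
    obtain ⟨i, hi⟩ := ha'
    obtain ⟨j, hj⟩ := hb'
    have h5 : (⟨a, ha⟩ : ↥P) * ⟨b, hb⟩ = ⟨b, hb⟩ * ⟨a, ha⟩ := by
      rw [← hi, ← hj, ← zpow_add, ← zpow_add, add_comm]
    exact congrArg Subtype.val h5
  have h5 : 4 ≤ Nat.card (↥P ⧸ frattini ↥P) := by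
    rw [hk]
    calc 4 = 2 ^ 2 := by norm_num
      _ ≤ 2 ^ k := Nat.pow_le_pow_right (by norm_num) hk2
  calc 4 * Nat.card (Sq P) ≤ Nat.card (↥P ⧸ frattini ↥P) * Nat.card (frattini ↥P) :=
        Nat.mul_le_mul h5 h2
    _ = Nat.card P := h3.symm

/-! ### No proper elementary abelian extension of a full-rank section -/

theorem no_ext [Finite S] {k : ℕ} (hr : Cfsg.SectionalPRankLE 2 k S) (Q M : Subgroup S)
    (hs : IsEASection 2 Q M) (hcard : 2 ^ k * Nat.card M ≤ Nat.card Q) (v : S)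
    (hvM : ∀ m ∈ M, v * m * v⁻¹ ∈ M) (hvQ : ∀ q ∈ Q, v * q * v⁻¹ * q⁻¹ ∈ M) (hv2 : v * v ∈ M) :
    v ∈ Q := by
  by_contra hv
  have hsec : IsEASection 2 (closure ((Q : Set S) ∪ {v})) M := by
    apply isEASection_closure
    · intro m hm; exact subset_closure (Or.inl (hs.le hm))
    · rintro x (hx | hx) n hn
      · exact hs.norm x hx n hn
      · rw [Set.mem_singleton_iff] at hx; rw [hx]; exact hvM n hn
    · rintro x (hx | hx) y (hy | hy)
      · exact hs.comm x hx y hy
      · rw [Set.mem_singleton_iff] at hy; rw [hy]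
        have e1 : x * v * x⁻¹ * v⁻¹ = (v * x * v⁻¹ * x⁻¹)⁻¹ := by group
        rw [e1]; exact inv_mem (hvQ x hx)
      · rw [Set.mem_singleton_iff] at hx; rw [hx]; exact hvQ y hy
      · rw [Set.mem_singleton_iff] at hx hy; rw [hx, hy]; simp
    · rintro x (hx | hx)
      · have := hs.pow x hx; rwa [pow_two] at this
      · rw [Set.mem_singleton_iff] at hx; rw [hx]; exact hv2
  have h1 := card_le_of_section hr hsec
  have hQle : Q ≤ closure ((Q : Set S) ∪ {v}) := by
    intro q hq; exact subset_closure (Or.inl hq)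
  have hvmem : v ∈ closure ((Q : Set S) ∪ {v}) := subset_closure (Or.inr rfl)
  have hlt : Nat.card Q < Nat.card (closure ((Q : Set S) ∪ {v})) := by
    have h2 := Subgroup.card_le_of_le hQle
    rcases Nat.lt_or_ge (Nat.card Q) (Nat.card (closure ((Q : Set S) ∪ {v}))) with h | h
    · exact h
    · exfalso
      have := Subgroup.eq_of_le_of_card_ge hQle h
      exact hv (by rw [this]; exact hvmem)
  omega

/-- an element of a finite `2`-group all of whose `2`-power-iterated squares ... : induction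
principle on the order -/
theorem induction_sq [Finite S] (hS : IsPGroup 2 S) (p : S → Prop) (h1 : p 1)
    (hstep : ∀ x, p (x * x) → p x) : ∀ x, p x := by
  have key : ∀ k : ℕ, ∀ x : S, x ^ 2 ^ k = 1 → p x := by
    intro k
    induction k with
    | zero => intro x hx; rw [pow_zero, pow_one] at hx; rw [hx]; exact h1
    | succ k ih =>
      intro x hx
      apply hstep
      apply ih
      rw [← pow_two, ← pow_mul, ← pow_succ']
      exact hx
  intro x
  obtain ⟨k, hk⟩ := hS x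
  exact key k x hk

end Cfsg.Agent.Lib.Helper4_SectRank
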