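import Mathlib
import Cfsg.Prelude.Def_CaseTheorems
import Cfsg.Prelude.Def_OddOrderLocal
import Cfsg.Agent.Lib.Helper4_SectRank
import Cfsg.Agent.Lib.Helper32_PGroup
import Cfsg.Agent.Lib.Helper66_Stem
import Cfsg.Agent.Lib.Helper1_Frattini
import Cfsg.Agent.Lib.Helper50_Basic

/-!
A finite 2-group all of whose elementary abelian sections have order at most 4 is metacyclic
(helper35).  Induction on the order through a central subgroup of order 2 inside the commutator
subgroup; the base cases (commutator subgroup of order at most 2) use a descent on generating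
pairs.
-/

set_option autoImplicit false

namespace Cfsg.Agent.Lib.Helper35_Rank2Meta

open Subgroup Cfsg.Agent.Lib.Helper4_SectRank
open scoped commutatorElement

universe u

variable {G : Type u} [Group G]

/-- every elementary abelian 2-section has order at most 4 -/
def P2 (G : Type u) [Group G] : Prop :=
  ∀ H N : Subgroup G, IsEASection 2 H N → Nat.card H ≤ 4 * Nat.card N

theorem P2_of_sectional (hr : Cfsg.SectionalPRankLE 2 2 G) : P2 G := by
  intro H N h
  have := card_le_of_section hr h
  norm_num at this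
  exact this

theorem P2_quotient [Finite G] (h : P2 G) (M : Subgroup G) [M.Normal] : P2 (G ⧸ M) := by
  intro H N hs
  have hsec : IsEASection 2 (H.comap (QuotientGroup.mk' M)) (N.comap (QuotientGroup.mk' M)) := by
    refine ⟨Subgroup.comap_mono hs.le, ?_, ?_, ?_⟩
    · intro a ha n hn
      rw [Subgroup.mem_comap] at ha hn ⊢
      rw [map_mul, map_mul, map_inv]
      exact hs.norm _ ha _ hn
    · intro a ha b hb
      rw [Subgroup.mem_comap] at ha hb ⊢
      rw [map_mul, map_mul, map_mul, map_inv, map_inv]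
      exact hs.comm _ ha _ hb
    · intro a ha
      rw [Subgroup.mem_comap] at ha ⊢
      rw [map_pow]
      exact hs.pow _ ha
  have h1 := h _ _ hsec
  rw [card_comap_mk', card_comap_mk'] at h1
  have hpos : 0 < Nat.card M := Nat.card_pos
  have h2 : Nat.card H * Nat.card M ≤ (4 * Nat.card N) * Nat.card M := by
    rw [mul_assoc]; exact h1
  exact Nat.le_of_mul_le_mul_right h2 hpos

theorem two_mul_card_le_of_lt [Finite G] {H K : Subgroup G} (h : H < K) :
    2 * Nat.card H ≤ Nat.card K := by
  obtain ⟨j, hj⟩ := Subgroup.card_dvd_of_le h.le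
  have hKpos : 0 < Nat.card K := Nat.card_pos
  have hHpos : 0 < Nat.card H := Nat.card_pos
  have hj1 : j ≠ 1 := by
    intro h1
    rw [h1, mul_one] at hj
    have := Subgroup.eq_of_le_of_card_ge h.le (le_of_eq hj)
    exact h.ne this
  have hj0 : j ≠ 0 := by
    intro h0; rw [h0, mul_zero] at hj; omega
  have : 2 ≤ j := by omega
  rw [hj]; nlinarith

theorem exists_two_gen [Finite G] (hG : IsPGroup 2 G) (h : P2 G) :
    ∃ x y : G, closure {x, y} = ⊤ := by
  have : Fact (Nat.Prime 2) := ⟨Nat.prime_two⟩
  have hsec : IsEASection 2 (⊤ : Subgroup G) (frattini G) := by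
    refine ⟨le_top, ?_, ?_, ?_⟩
    · intro a _ n hn
      exact (inferInstance : (frattini G).Normal).conj_mem n hn a
    · intro a _ b _
      apply Helper1_Frattini.commutator_le_frattini_of_isPGroup hG
      have := Subgroup.commutator_mem_commutator (mem_top a) (mem_top b)
      rw [commutatorElement_def] at this
      exact this
    · intro a _
      exact Helper1_Frattini.pow_mem_frattini_of_isPGroup hG a
  have hcard := h _ _ hsec
  rw [Subgroup.card_top] at hcard
  obtain ⟨x, hx⟩ : ∃ x : G, frattini G = ⊤ ∨ x ∉ frattini G := by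
    by_cases h1 : frattini G = ⊤
    · exact ⟨1, Or.inl h1⟩
    · obtain ⟨x, -, hx⟩ := SetLike.exists_of_lt (lt_top_iff_ne_top.mpr h1)
      exact ⟨x, Or.inr hx⟩
  obtain ⟨y, hy⟩ : ∃ y : G, frattini G ⊔ zpowers x = ⊤ ∨ y ∉ frattini G ⊔ zpowers x := by
    by_cases h1 : frattini G ⊔ zpowers x = ⊤
    · exact ⟨1, Or.inl h1⟩
    · obtain ⟨y, -, hy⟩ := SetLike.exists_of_lt (lt_top_iff_ne_top.mpr h1)
      exact ⟨y, Or.inr hy⟩
  have hH2 : (frattini G ⊔ zpowers x) ⊔ zpowers y = ⊤ := by
    by_contra hne
    have h1 : frattini G < frattini G ⊔ zpowers x := by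
      refine lt_of_le_of_ne le_sup_left ?_
      intro heq
      rcases hx with hx | hx
      · apply hne
        rw [eq_top_iff, ← hx]
        exact le_trans le_sup_left le_sup_left
      · apply hx
        rw [heq]
        exact (le_sup_right : zpowers x ≤ frattini G ⊔ zpowers x) (mem_zpowers x)
    have h2 : frattini G ⊔ zpowers x < (frattini G ⊔ zpowers x) ⊔ zpowers y := by
      refine lt_of_le_of_ne le_sup_left ?_
      intro heq
      rcases hy with hy | hy
      · apply hne
        rw [eq_top_iff, ← hy]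
        exact le_sup_left
      · apply hy
        rw [heq]
        exact (le_sup_right : zpowers y ≤ (frattini G ⊔ zpowers x) ⊔ zpowers y) (mem_zpowers y)
    have c1 := two_mul_card_le_of_lt h1
    have c2 := two_mul_card_le_of_lt h2
    have c3 : Nat.card ((frattini G ⊔ zpowers x) ⊔ zpowers y : Subgroup G) ≤ Nat.card G :=
      Subgroup.card_le_card_group _
    apply hne
    apply Subgroup.eq_top_of_card_eq
    omega
  refine ⟨x, y, ?_⟩
  apply frattini_nongenerating
  rw [eq_top_iff, ← hH2]
  apply sup_le (sup_le le_sup_right (le_trans ?_ le_sup_left)) (le_trans ?_ le_sup_left)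
  · rw [zpowers_le]; exact subset_closure (by simp)
  · rw [zpowers_le]; exact subset_closure (by simp)

theorem isMetacyclic_of_normal_zpowers {x y : G} (hgen : closure {x, y} = ⊤)
    (hn : (zpowers x).Normal) : Cfsg.IsMetacyclic G := by
  refine ⟨zpowers x, hn, inferInstance, ?_⟩
  have key : ∀ t : G, (QuotientGroup.mk' (zpowers x)) t ∈
      zpowers ((QuotientGroup.mk' (zpowers x)) y) := by
    intro t
    have ht : t ∈ closure {x, y} := by rw [hgen]; trivial
    induction ht using closure_induction with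
    | mem s hs =>
      rcases hs with hs | hs
      · have : (QuotientGroup.mk' (zpowers x)) s = 1 := by
          rw [hs]
          exact (QuotientGroup.eq_one_iff x).mpr (mem_zpowers x)
        rw [this]; exact one_mem _
      · rw [Set.mem_singleton_iff] at hs
        rw [hs]
        exact mem_zpowers _
    | one => rw [map_one]; exact one_mem _
    | mul a b _ _ ha hb => rw [map_mul]; exact mul_mem ha hb
    | inv a _ ha => rw [map_inv]; exact inv_mem ha
  exact ⟨⟨(QuotientGroup.mk' (zpowers x)) y, fun q => by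
    obtain ⟨t, rfl⟩ := QuotientGroup.mk'_surjective _ q
    exact key t⟩⟩

theorem normal_of_commutator_le {H : Subgroup G} (h : commutator G ≤ H) : H.Normal := by
  constructor
  intro n hn g
  have e : g * n * g⁻¹ = ⁅g, n⁆ * n := by
    rw [commutatorElement_def]; group
  rw [e]
  exact mul_mem (h (Subgroup.commutator_mem_commutator (mem_top g) (mem_top n))) hn

theorem mem_zpowers_invol {a t : G} (ha2 : a * a = 1) (ht : t ∈ zpowers a) : t = 1 ∨ t = a := by
  obtain ⟨i, rfl⟩ := ht
  show a ^ i = 1 ∨ a ^ i = a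
  have h2 : a ^ (2 : ℤ) = 1 := by rw [zpow_two]; exact ha2
  obtain ⟨k, hk | hk⟩ := Int.even_or_odd' i
  · left
    rw [hk, zpow_mul, h2, one_zpow]
  · right
    rw [hk, zpow_add, zpow_mul, h2, one_zpow, zpow_one, one_mul]

/-! ### Commutator subgroup of order two -/

/-- `z` is the non-identity element of a commutator subgroup of order 2 -/
structure CD (z : G) : Prop where
  ne : z ≠ 1
  mem : z ∈ commutator G
  all : ∀ w ∈ commutator G, w = 1 ∨ w = z

theorem exists_CD (h : Nat.card (commutator G) = 2) : ∃ z : G, CD z := by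
  obtain ⟨z, hz1, hz2⟩ := (Nat.card_eq_two_iff' (1 : commutator G)).mp h
  refine ⟨z.1, ?_, z.2, ?_⟩
  · intro h0
    apply hz1
    exact Subtype.ext h0
  · intro w hw
    by_cases hw1 : w = 1
    · exact Or.inl hw1
    · right
      have := hz2 ⟨w, hw⟩ (by
        intro h0
        apply hw1
        exact congrArg Subtype.val h0)
      exact congrArg Subtype.val this

namespace CD

variable {z : G} (hz : CD z)
include hz

theorem central (g : G) : g * z = z * g := by
  have h1 : g * z * g⁻¹ ∈ commutator G :=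
    (inferInstance : (commutator G).Normal).conj_mem z hz.mem g
  rcases hz.all _ h1 with h | h
  · exfalso
    apply hz.ne
    calc z = g⁻¹ * (g * z * g⁻¹) * g := by group
      _ = 1 := by rw [h]; group
  · calc g * z = g * z * g⁻¹ * g := by group
      _ = z * g := by rw [h]

theorem sq : z * z = 1 := by
  rcases hz.all _ (mul_mem hz.mem hz.mem) with h | h
  · exact h
  · exfalso
    apply hz.ne
    calc z = z⁻¹ * (z * z) := by group
      _ = 1 := by rw [h]; group

theorem comm_cases (a b : G) : a * b = b * a ∨ a * b = z * (b * a) := by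
  have h1 : ⁅a, b⁆ ∈ commutator G :=
    Subgroup.commutator_mem_commutator (mem_top a) (mem_top b)
  rw [commutatorElement_def] at h1
  rcases hz.all _ h1 with h | h
  · left
    calc a * b = (a * b * a⁻¹ * b⁻¹) * (b * a) := by group
      _ = b * a := by rw [h, one_mul]
  · right
    calc a * b = (a * b * a⁻¹ * b⁻¹) * (b * a) := by group
      _ = z * (b * a) := by rw [h]

theorem sq_central (a b : G) : (a * a) * b = b * (a * a) := by
  rcases hz.comm_cases a b with h | h
  · calc a * a * b = a * (a * b) := by group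
      _ = a * (b * a) := by rw [h]
      _ = (a * b) * a := by group
      _ = b * a * a := by rw [h]
      _ = b * (a * a) := by group
  · calc a * a * b = a * (a * b) := by group
      _ = a * (z * (b * a)) := by rw [h]
      _ = (a * z) * (b * a) := by group
      _ = (z * a) * (b * a) := by rw [hz.central a]
      _ = z * (a * b) * a := by group
      _ = z * (z * (b * a)) * a := by rw [h]
      _ = (z * z) * (b * (a * a)) := by group
      _ = b * (a * a) := by rw [hz.sq, one_mul]

theorem pow_two_pow_central (a b : G) {k : ℕ} (hk : 1 ≤ k) :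
    a ^ (2 ^ k) * b = b * a ^ (2 ^ k) := by
  obtain ⟨j, rfl⟩ : ∃ j, k = j + 1 := ⟨k - 1, by omega⟩
  have hc : Commute (a * a) b := hz.sq_central a b
  have e : a ^ (2 ^ (j + 1)) = (a * a) ^ (2 ^ j) := by
    rw [pow_succ', pow_mul, pow_two]
  rw [e]
  exact (hc.pow_left (2 ^ j))

theorem mul_pow_cases (a b : G) (k : ℕ) :
    (a * b) ^ k = a ^ k * b ^ k ∨ (a * b) ^ k = z * (a ^ k * b ^ k) := by
  have h1 : (a * b) ^ k * (a ^ k * b ^ k)⁻¹ ∈ commutator G := by
    rw [← Abelianization.ker_of, MonoidHom.mem_ker]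
    rw [map_mul, map_inv, map_pow, map_mul, map_mul, map_pow, map_pow, mul_pow]
    exact mul_inv_cancel _
  rcases hz.all _ h1 with h | h
  · left
    calc (a * b) ^ k = ((a * b) ^ k * (a ^ k * b ^ k)⁻¹) * (a ^ k * b ^ k) := by group
      _ = a ^ k * b ^ k := by rw [h, one_mul]
  · right
    calc (a * b) ^ k = ((a * b) ^ k * (a ^ k * b ^ k)⁻¹) * (a ^ k * b ^ k) := by group
      _ = z * (a ^ k * b ^ k) := by rw [h]

end CD

/-- in a group with `P2`, an involution lies in the four-group spanned by two distinct central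
involutions -/
theorem invol_mem_four [Finite G] (hP : P2 G) {a b c : G} (ha : ∀ g, a * g = g * a)
    (hb : ∀ g, b * g = g * b) (ha2 : a * a = 1) (hb2 : b * b = 1) (hc2 : c * c = 1)
    (ha1 : a ≠ 1) (hb1 : b ≠ 1) (hba : b ≠ a) :
    c = 1 ∨ c = a ∨ c = b ∨ c = a * b := by
  by_contra hcon
  push Not at hcon
  obtain ⟨hc1, hca, hcb, hcab⟩ := hcon
  have hsec : IsEASection 2 (closure ({a, b, c} : Set G)) ⊥ := by
    apply isEASection_closure
    · exact bot_le
    · intro x _ n hn
      rw [mem_bot] at hn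
      rw [hn, mem_bot]
      group
    · intro x hx y hy
      rw [mem_bot]
      have hxy : x * y = y * x := by
        rcases hx with hx | hx | hx
        · rw [hx]; exact ha y
        · rw [hx]; exact hb y
        · rcases hy with hy | hy | hy
          · rw [hy]; exact (ha x).symm
          · rw [hy]; exact (hb x).symm
          · rw [Set.mem_singleton_iff] at hx hy
            rw [hx, hy]
      calc x * y * x⁻¹ * y⁻¹ = (x * y) * (y * x)⁻¹ := by group
        _ = 1 := by rw [hxy]; group
    · intro x hx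
      rw [mem_bot]
      rcases hx with hx | hx | hx
      · rw [hx]; exact ha2
      · rw [hx]; exact hb2
      · rw [Set.mem_singleton_iff] at hx
        rw [hx]; exact hc2
  have h4 := hP _ _ hsec
  rw [Subgroup.card_bot] at h4
  -- the chain
  have l1 : (⊥ : Subgroup G) < zpowers a := by
    rw [bot_lt_iff_ne_bot]
    intro h
    apply ha1
    have := mem_zpowers a
    rwa [h, mem_bot] at this
  have hab_mem : ∀ t ∈ zpowers a ⊔ zpowers b, t = 1 ∨ t = a ∨ t = b ∨ t = a * b := by
    intro t ht
    obtain ⟨u, hu, v, hv, rfl⟩ :=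
      exists_mul_of_mem_sup (A := zpowers a) (B := zpowers b) (by
        intro u hu v _
        rcases mem_zpowers_invol ha2 hu with h | h
        · rw [h]; simp
        · rw [h]; exact ha v) ht
    rcases mem_zpowers_invol ha2 hu with h | h <;> rcases mem_zpowers_invol hb2 hv with h' | h'
    · left; rw [h, h', mul_one]
    · right; right; left; rw [h, h', one_mul]
    · right; left; rw [h, h', mul_one]
    · right; right; right; rw [h, h']
  have l2 : zpowers a < zpowers a ⊔ zpowers b := by
    refine lt_of_le_of_ne le_sup_left ?_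
    intro h
    have hbm : b ∈ zpowers a := by
      rw [h]
      exact (le_sup_right : zpowers b ≤ zpowers a ⊔ zpowers b) (mem_zpowers b)
    rcases mem_zpowers_invol ha2 hbm with h | h
    · exact hb1 h
    · exact hba h
  have l3 : zpowers a ⊔ zpowers b < closure ({a, b, c} : Set G) := by
    have hle : zpowers a ⊔ zpowers b ≤ closure ({a, b, c} : Set G) := by
      apply sup_le
      · rw [zpowers_le]; exact subset_closure (by simp)
      · rw [zpowers_le]; exact subset_closure (by simp)
    refine lt_of_le_of_ne hle ?_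
    intro h
    have hcm : c ∈ zpowers a ⊔ zpowers b := by
      rw [h]; exact subset_closure (by simp)
    rcases hab_mem c hcm with h | h | h | h
    · exact hc1 h
    · exact hca h
    · exact hcb h
    · exact hcab h
  have c1 := two_mul_card_le_of_lt l1
  have c2 := two_mul_card_le_of_lt l2
  have c3 := two_mul_card_le_of_lt l3
  rw [Subgroup.card_bot] at c1
  omega

theorem closure_pair_eq_top {x y a b : G} (hgen : closure {x, y} = ⊤)
    (hx : x ∈ closure {a, b}) (hy : y ∈ closure {a, b}) : closure {a, b} = ⊤ := by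
  rw [eq_top_iff, ← hgen, closure_le]
  intro t ht
  rcases ht with ht | ht
  · rw [ht]; exact hx
  · rw [Set.mem_singleton_iff] at ht
    rw [ht]; exact hy

theorem descent [Finite G] {z : G} (hG : IsPGroup 2 G) (hP : P2 G) (hz : CD z)
    (hstar : ∀ g h : G, closure {g, h} = ⊤ → z ∉ zpowers g)
    {x y : G} (hgen : closure {x, y} = ⊤) (hle : orderOf y ≤ orderOf x) :
    ∃ g : G, closure {x, g} = ⊤ ∧ orderOf g < orderOf y := by
  have : Fact (Nat.Prime 2) := ⟨Nat.prime_two⟩
  have hgen' : closure {y, x} = ⊤ := by rw [Set.pair_comm]; exact hgen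
  have hnc : x * y ≠ y * x := by
    intro hxy
    have hle : commutator G ≤ ⊥ := by
      apply Helper66_Stem.commutator_le_of_closure ⊥ {x, y} hgen
      intro a ha b hb
      rw [mem_bot]
      have hab : a * b = b * a := by
        rcases ha with ha | ha <;> rcases hb with hb | hb
        · rw [ha, hb]
        · rw [Set.mem_singleton_iff] at hb; rw [ha, hb]; exact hxy
        · rw [Set.mem_singleton_iff] at ha; rw [ha, hb]; exact hxy.symm
        · rw [Set.mem_singleton_iff] at ha hb; rw [ha, hb]
      calc a * b * a⁻¹ * b⁻¹ = (a * b) * (b * a)⁻¹ := by group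
        _ = 1 := by rw [hab]; group
    exact hz.ne ((mem_bot).mp (hle hz.mem))
  have hxy : x * y = z * (y * x) := (hz.comm_cases x y).resolve_left hnc
  obtain ⟨m, hm⟩ := (IsPGroup.iff_orderOf.mp hG) x
  obtain ⟨n, hn⟩ := (IsPGroup.iff_orderOf.mp hG) y
  have hnm : n ≤ m := by
    rw [hm, hn] at hle
    exact (Nat.pow_le_pow_iff_right (by norm_num)).mp hle
  have hn1 : 1 ≤ n := by
    by_contra h0
    have h00 : n = 0 := by omega
    rw [h00, pow_zero, orderOf_eq_one_iff] at hn
    apply hnc; rw [hn]; simp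
  rcases Nat.lt_or_ge m 2 with hm2 | hm2
  · exfalso
    have hm1 : m = 1 := by omega
    have hn1' : n = 1 := by omega
    have hx2 : x * x = 1 := by
      have := pow_orderOf_eq_one x
      rw [hm, hm1] at this
      simpa [pow_two] using this
    have hy2 : y * y = 1 := by
      have := pow_orderOf_eq_one y
      rw [hn, hn1'] at this
      simpa [pow_two] using this
    have hz' : z = (x * y) * (x * y) := by
      calc z = z * (y * (x * x) * y) := by rw [hx2, mul_one, hy2, mul_one]
        _ = (z * (y * x)) * (x * y) := by group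
        _ = (x * y) * (x * y) := by rw [← hxy]
    apply hstar (x * y) y
    · apply closure_pair_eq_top hgen
      · have e : x = (x * y) * y⁻¹ := by group
        rw [e]
        exact mul_mem (subset_closure (by simp)) (inv_mem (subset_closure (by simp)))
      · exact subset_closure (by simp)
    · rw [hz']
      exact mul_mem (mem_zpowers _) (mem_zpowers _)
  · have hx'c : ∀ g, x ^ (2 ^ (m - 1)) * g = g * x ^ (2 ^ (m - 1)) :=
      fun g => hz.pow_two_pow_central x g (by omega)
    have hx'2 : x ^ (2 ^ (m - 1)) * x ^ (2 ^ (m - 1)) = 1 := by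
      rw [← pow_add, ← two_mul, ← pow_succ']
      have : m - 1 + 1 = m := by omega
      rw [this, ← hm]; exact pow_orderOf_eq_one x
    have hx'1 : x ^ (2 ^ (m - 1)) ≠ 1 := by
      apply pow_ne_one_of_lt_orderOf (by positivity)
      rw [hm]; exact Nat.pow_lt_pow_right (by norm_num) (by omega)
    have hy'2 : y ^ (2 ^ (n - 1)) * y ^ (2 ^ (n - 1)) = 1 := by
      rw [← pow_add, ← two_mul, ← pow_succ']
      have : n - 1 + 1 = n := by omega
      rw [this, ← hn]; exact pow_orderOf_eq_one y
    have hy'1 : y ^ (2 ^ (n - 1)) ≠ 1 := by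
      apply pow_ne_one_of_lt_orderOf (by positivity)
      rw [hn]; exact Nat.pow_lt_pow_right (by norm_num) (by omega)
    have hx'z : x ^ (2 ^ (m - 1)) ≠ z := by
      intro h
      apply hstar x y hgen
      rw [← h]; exact pow_mem (mem_zpowers x) _
    have hy'z : y ^ (2 ^ (n - 1)) ≠ z := by
      intro h
      apply hstar y x hgen'
      rw [← h]; exact pow_mem (mem_zpowers y) _
    -- the element g
    have hwk : ((x ^ (2 ^ (m - n)))⁻¹) ^ (2 ^ (n - 1)) = x ^ (2 ^ (m - 1)) := by
      rw [inv_pow, ← pow_mul, ← pow_add]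
      have : m - n + (n - 1) = m - 1 := by omega
      rw [this]
      exact inv_eq_of_mul_eq_one_left hx'2
    have hfin : ((x ^ (2 ^ (m - n)))⁻¹ * y) ^ (2 ^ (n - 1)) = 1 ∨
        ((x ^ (2 ^ (m - n)))⁻¹ * y) ^ (2 ^ (n - 1)) = z →
        ∃ g : G, closure {x, g} = ⊤ ∧ orderOf g < orderOf y := by
      intro hgk
      have hc1 : closure {x, (x ^ (2 ^ (m - n)))⁻¹ * y} = ⊤ := by
        apply closure_pair_eq_top hgen
        · exact subset_closure (by simp)
        · have e : y = x ^ (2 ^ (m - n)) * ((x ^ (2 ^ (m - n)))⁻¹ * y) := by group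
          rw [e]
          exact mul_mem (pow_mem (subset_closure (by simp)) _) (subset_closure (by simp))
      rcases hgk with hgk | hgk
      · refine ⟨_, hc1, ?_⟩
        have h1 := orderOf_dvd_of_pow_eq_one hgk
        have h2 := Nat.le_of_dvd (by positivity) h1
        rw [hn]
        calc orderOf ((x ^ (2 ^ (m - n)))⁻¹ * y) ≤ 2 ^ (n - 1) := h2
          _ < 2 ^ n := Nat.pow_lt_pow_right (by norm_num) (by omega)
      · exfalso
        apply hstar ((x ^ (2 ^ (m - n)))⁻¹ * y) x
        · rw [Set.pair_comm]; exact hc1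
        · rw [← hgk]; exact pow_mem (mem_zpowers _) _
    rcases invol_mem_four hP (fun g => (hz.central g).symm) hx'c hz.sq hx'2 hy'2 hz.ne hx'1 hx'z
      with h | h | h | h
    · exact absurd h hy'1
    · exact absurd h hy'z
    · apply hfin
      rcases hz.mul_pow_cases ((x ^ (2 ^ (m - n)))⁻¹) y (2 ^ (n - 1)) with h1 | h1
      · left
        rw [h1, hwk, h, hx'2]
      · right
        rw [h1, hwk, h, hx'2, mul_one]
    · apply hfin
      have e : x ^ (2 ^ (m - 1)) * (z * x ^ (2 ^ (m - 1))) = z := by
        rw [← mul_assoc, hx'c z, mul_assoc, hx'2, mul_one]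
      rcases hz.mul_pow_cases ((x ^ (2 ^ (m - n)))⁻¹) y (2 ^ (n - 1)) with h1 | h1
      · right
        rw [h1, hwk, h, e]
      · left
        rw [h1, hwk, h, e, hz.sq]

theorem isMetacyclic_of_card_commutator_two [Finite G] (hG : IsPGroup 2 G) (hP : P2 G)
    (h : Nat.card (commutator G) = 2) : Cfsg.IsMetacyclic G := by
  obtain ⟨z, hz⟩ := exists_CD h
  by_cases hstar : ∀ g h : G, closure {g, h} = ⊤ → z ∉ zpowers g
  · exfalso
    obtain ⟨x, y, hxy⟩ := exists_two_gen hG hP
    have key : ∀ s : ℕ, ∀ x y : G, closure {x, y} = ⊤ → orderOf x + orderOf y ≤ s → False := by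
      intro s
      induction s using Nat.strong_induction_on with
      | _ s ih =>
        intro x y hgen hs
        rcases le_total (orderOf y) (orderOf x) with hle | hle
        · obtain ⟨g, hg, hlt⟩ := descent hG hP hz hstar hgen hle
          exact ih (orderOf x + orderOf g) (by omega) x g hg le_rfl
        · have hgen' : closure {y, x} = ⊤ := by rw [Set.pair_comm]; exact hgen
          obtain ⟨g, hg, hlt⟩ := descent hG hP hz hstar hgen' hle
          exact ih (orderOf y + orderOf g) (by omega) y g hg le_rfl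
    exact key _ x y hxy le_rfl
  · push Not at hstar
    obtain ⟨g, h, hgen, hzg⟩ := hstar
    apply isMetacyclic_of_normal_zpowers hgen
    apply normal_of_commutator_le
    intro w hw
    rcases hz.all w hw with h1 | h1
    · rw [h1]; exact one_mem _
    · rw [h1]; exact hzg

/-! ### The induction step -/

theorem isMetacyclic_of_quotient [Finite G] {m : G} (hG : IsPGroup 2 G)
    (hmc : ∀ g : G, m * g = g * m) (hm2 : m * m = 1)
    (hmG : m ∈ commutator G) (hcard : 2 < Nat.card (commutator G))
    [hMn : (zpowers m).Normal]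
    (hq : Cfsg.IsMetacyclic (G ⧸ zpowers m)) : Cfsg.IsMetacyclic G := by
  have : Fact (Nat.Prime 2) := ⟨Nat.prime_two⟩
  obtain ⟨Nb, hNb, hcyc, hqcyc⟩ := hq
  have hAn : (Nb.comap (QuotientGroup.mk' (zpowers m))).Normal := hNb.comap _
  obtain ⟨⟨gb, hgbN⟩, hgb⟩ := hcyc.exists_generator
  obtain ⟨a, rfl⟩ := QuotientGroup.mk'_surjective (zpowers m) gb
  have haA : a ∈ Nb.comap (QuotientGroup.mk' (zpowers m)) := hgbN
  have hA_form : ∀ t ∈ Nb.comap (QuotientGroup.mk' (zpowers m)),
      ∃ k : ℤ, ∃ e ∈ zpowers m, t = a ^ k * e := by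
    intro t ht
    obtain ⟨k, hk⟩ := hgb ⟨(QuotientGroup.mk' (zpowers m)) t, ht⟩
    have hk' : (QuotientGroup.mk' (zpowers m)) (a ^ k) = (QuotientGroup.mk' (zpowers m)) t := by
      have := congrArg Subtype.val hk
      rw [map_zpow]
      simpa using this
    refine ⟨k, (a ^ k)⁻¹ * t, ?_, by group⟩
    exact QuotientGroup.eq.mp hk'
  obtain ⟨qb, hqb⟩ := hqcyc.exists_generator
  obtain ⟨b', rfl⟩ := QuotientGroup.mk'_surjective Nb qb
  obtain ⟨b, rfl⟩ := QuotientGroup.mk'_surjective (zpowers m) b'
  have hG_form : ∀ t : G, ∃ j : ℤ, (b ^ j)⁻¹ * t ∈ Nb.comap (QuotientGroup.mk' (zpowers m)) := by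
    intro t
    obtain ⟨j, hj⟩ := hqb ((QuotientGroup.mk' Nb) ((QuotientGroup.mk' (zpowers m)) t))
    refine ⟨j, ?_⟩
    rw [Subgroup.mem_comap, map_mul, map_inv, map_zpow]
    apply QuotientGroup.eq.mp
    have hj' : (QuotientGroup.mk' Nb) ((QuotientGroup.mk' (zpowers m)) b) ^ j =
        (QuotientGroup.mk' Nb) ((QuotientGroup.mk' (zpowers m)) t) := hj
    rw [← map_zpow] at hj'
    exact hj'
  by_cases hma : m ∈ zpowers a
  · have hAeq : Nb.comap (QuotientGroup.mk' (zpowers m)) = zpowers a := by
      apply le_antisymm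
      · intro t ht
        obtain ⟨k, e, he, rfl⟩ := hA_form t ht
        exact mul_mem (zpow_mem (mem_zpowers a) k) ((zpowers_le.mpr hma) he)
      · exact zpowers_le.mpr haA
    refine ⟨Nb.comap (QuotientGroup.mk' (zpowers m)), hAn, ?_, ?_⟩
    · rw [hAeq]; infer_instance
    · refine ⟨⟨(QuotientGroup.mk' _) b, fun q => ?_⟩⟩
      obtain ⟨t, rfl⟩ := QuotientGroup.mk'_surjective _ q
      obtain ⟨j, hj⟩ := hG_form t
      refine ⟨j, ?_⟩
      show ((QuotientGroup.mk' _) b) ^ j = (QuotientGroup.mk' _) t
      rw [← map_zpow]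
      exact QuotientGroup.eq.mpr hj
  · exfalso
    have hMel : ∀ e ∈ zpowers m, e = 1 ∨ e = m := fun e he => mem_zpowers_invol hm2 he
    have hMc : ∀ e ∈ zpowers m, ∀ g : G, e * g = g * e := by
      intro e he g
      rcases hMel e he with h | h
      · rw [h]; simp
      · rw [h]; exact hmc g
    have hMsq : ∀ e ∈ zpowers m, e * e = 1 := by
      intro e he
      rcases hMel e he with h | h
      · rw [h]; simp
      · rw [h]; exact hm2
    obtain ⟨k, e, he, hbab⟩ := hA_form (b * a * b⁻¹) (hAn.conj_mem a haA b)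
    have hae : Commute a e := (hMc e he a).symm
    have hcomm1 : Commute (b * a * b⁻¹) a⁻¹ := by
      rw [hbab]
      exact (((Commute.refl a).zpow_left k).mul_left hae.symm).inv_right
    have hconj : b * (a ^ k * e) * b⁻¹ = (b * a * b⁻¹) ^ k * e := by
      rw [conj_zpow]
      calc b * (a ^ k * e) * b⁻¹ = b * a ^ k * (e * b⁻¹) := by group
        _ = b * a ^ k * (b⁻¹ * e) := by rw [hMc e he b⁻¹]
        _ = b * a ^ k * b⁻¹ * e := by group
    have hbcb : b * (b * a * b⁻¹ * a⁻¹) * b⁻¹ = (b * a * b⁻¹ * a⁻¹) ^ k := by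
      calc b * (b * a * b⁻¹ * a⁻¹) * b⁻¹
          = (b * (b * a * b⁻¹) * b⁻¹) * (b * a * b⁻¹)⁻¹ := by group
        _ = (b * (a ^ k * e) * b⁻¹) * (a ^ k * e)⁻¹ := by rw [hbab]
        _ = ((b * a * b⁻¹) ^ k * e) * (a ^ k * e)⁻¹ := by rw [hconj]
        _ = (b * a * b⁻¹) ^ k * (a ^ k)⁻¹ := by group
        _ = (b * a * b⁻¹) ^ k * (a⁻¹) ^ k := by rw [inv_zpow]
        _ = (b * a * b⁻¹ * a⁻¹) ^ k := (hcomm1.mul_zpow k).symm
    -- `c` commutes with `a`
    have hca : Commute (b * a * b⁻¹ * a⁻¹) a := by
      rw [hbab]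
      exact (((Commute.refl a).zpow_left k).mul_left hae.symm).mul_left
        (Commute.refl a).inv_left
    -- normality of `zpowers c`
    have hnorm_top : normalizer ((zpowers (b * a * b⁻¹ * a⁻¹) : Subgroup G) : Set G) = ⊤ := by
      rw [eq_top_iff]
      intro t _
      have hb_norm : b ∈ normalizer ((zpowers (b * a * b⁻¹ * a⁻¹) : Subgroup G) : Set G) := by
        apply Helper50_Basic.mem_normalizer_of_map_conj_le
        rintro _ ⟨t, ht, rfl⟩
        obtain ⟨i, rfl⟩ := ht
        show b * (b * a * b⁻¹ * a⁻¹) ^ i * b⁻¹ ∈ zpowers (b * a * b⁻¹ * a⁻¹)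
        rw [← conj_zpow, hbcb]
        exact zpow_mem (zpow_mem (mem_zpowers _) k) i
      have ha_norm : a ∈ normalizer ((zpowers (b * a * b⁻¹ * a⁻¹) : Subgroup G) : Set G) := by
        apply Helper50_Basic.mem_normalizer_of_map_conj_le
        rintro _ ⟨t, ht, rfl⟩
        obtain ⟨i, rfl⟩ := ht
        show a * (b * a * b⁻¹ * a⁻¹) ^ i * a⁻¹ ∈ zpowers (b * a * b⁻¹ * a⁻¹)
        have e1 : a * (b * a * b⁻¹ * a⁻¹) ^ i * a⁻¹ = (b * a * b⁻¹ * a⁻¹) ^ i := by
          rw [← (hca.zpow_left i).eq]; group
        rw [e1]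
        exact zpow_mem (mem_zpowers _) i
      have hM_norm : ∀ e ∈ zpowers m,
          e ∈ normalizer ((zpowers (b * a * b⁻¹ * a⁻¹) : Subgroup G) : Set G) := by
        intro e he
        rw [mem_normalizer_iff]
        intro h
        have e1 : e * h * e⁻¹ = h := by rw [hMc e he h]; group
        rw [e1]
      obtain ⟨j, hj⟩ := hG_form t
      obtain ⟨k', e', he', hke⟩ := hA_form _ hj
      have e2 : t = b ^ j * (a ^ k' * e') := by rw [← hke]; group
      rw [e2]
      exact mul_mem (zpow_mem hb_norm j) (mul_mem (zpow_mem ha_norm k') (hM_norm e' he'))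
    have hCn : (zpowers (b * a * b⁻¹ * a⁻¹)).Normal := normalizer_eq_top_iff.mp hnorm_top
    -- generation
    have hgen : closure ({b, a, m} : Set G) = ⊤ := by
      rw [eq_top_iff]
      intro t _
      obtain ⟨j, hj⟩ := hG_form t
      obtain ⟨k', e', he', hke⟩ := hA_form _ hj
      have e2 : t = b ^ j * (a ^ k' * e') := by rw [← hke]; group
      rw [e2]
      have hm_mem : zpowers m ≤ closure ({b, a, m} : Set G) := by
        rw [zpowers_le]; exact subset_closure (by simp)
      exact mul_mem (zpow_mem (subset_closure (by simp)) j)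
        (mul_mem (zpow_mem (subset_closure (by simp)) k') (hm_mem he'))
    have hGC : commutator G ≤ zpowers (b * a * b⁻¹ * a⁻¹) := by
      apply Helper66_Stem.commutator_le_of_closure _ _ hgen
      have hcen : ∀ s : G, s * m * s⁻¹ * m⁻¹ = 1 ∧ m * s * m⁻¹ * s⁻¹ = 1 := by
        intro s
        constructor
        · rw [mul_assoc s, hmc]; group
        · rw [hmc]; group
      intro s hs s' hs'
      rcases hs with hs | hs | hs
      · rcases hs' with hs' | hs' | hs'
        · rw [hs, hs']
          have : b * b * b⁻¹ * b⁻¹ = 1 := by group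
          rw [this]; exact one_mem _
        · rw [hs, hs']; exact mem_zpowers _
        · rw [Set.mem_singleton_iff] at hs'
          rw [hs, hs', (hcen b).1]; exact one_mem _
      · rcases hs' with hs' | hs' | hs'
        · rw [hs, hs']
          have : a * b * a⁻¹ * b⁻¹ = (b * a * b⁻¹ * a⁻¹)⁻¹ := by group
          rw [this]; exact inv_mem (mem_zpowers _)
        · rw [hs, hs']
          have : a * a * a⁻¹ * a⁻¹ = 1 := by group
          rw [this]; exact one_mem _
        · rw [Set.mem_singleton_iff] at hs'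
          rw [hs, hs', (hcen a).1]; exact one_mem _
      · rw [Set.mem_singleton_iff] at hs
        rw [hs, (hcen s').2]; exact one_mem _
    obtain ⟨i, hi⟩ := hGC hmG
    have hi' : (b * a * b⁻¹ * a⁻¹) ^ i = m := hi
    -- the square of `c` is a power of `a`
    have hcc : (b * a * b⁻¹ * a⁻¹) * (b * a * b⁻¹ * a⁻¹) ∈ zpowers a := by
      rw [hbab]
      have e1 : a ^ k * e * a⁻¹ * (a ^ k * e * a⁻¹) = a ^ k * a⁻¹ * (a ^ k * a⁻¹) * (e * e) := by
        have h1 : e * a⁻¹ = a⁻¹ * e := hMc e he a⁻¹
        have h2 : e * a ^ k = a ^ k * e := hMc e he (a ^ k)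
        calc a ^ k * e * a⁻¹ * (a ^ k * e * a⁻¹)
            = a ^ k * (e * a⁻¹) * (a ^ k * (e * a⁻¹)) := by group
          _ = a ^ k * (a⁻¹ * e) * (a ^ k * (a⁻¹ * e)) := by rw [h1]
          _ = a ^ k * a⁻¹ * (e * a ^ k) * (a⁻¹ * e) := by group
          _ = a ^ k * a⁻¹ * (a ^ k * e) * (a⁻¹ * e) := by rw [h2]
          _ = a ^ k * a⁻¹ * a ^ k * (e * a⁻¹) * e := by group
          _ = a ^ k * a⁻¹ * a ^ k * (a⁻¹ * e) * e := by rw [h1]
          _ = a ^ k * a⁻¹ * (a ^ k * a⁻¹) * (e * e) := by group
      rw [e1, hMsq e he, mul_one]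
      have hak : a ^ k * a⁻¹ ∈ zpowers a :=
        mul_mem (zpow_mem (mem_zpowers a) k) (inv_mem (mem_zpowers a))
      exact mul_mem hak hak
    obtain ⟨r, hr⟩ := (IsPGroup.iff_orderOf.mp hG) (b * a * b⁻¹ * a⁻¹)
    by_cases hr1 : r ≤ 1
    · have h1 : Nat.card (zpowers (b * a * b⁻¹ * a⁻¹)) ≤ 2 := by
        rw [Nat.card_zpowers, hr]
        calc 2 ^ r ≤ 2 ^ 1 := Nat.pow_le_pow_right (by norm_num) hr1
          _ = 2 := by norm_num
      have h2 := Subgroup.card_le_of_le hGC
      omega
    · push Not at hr1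
      have h4 : (4 : ℤ) ∣ (orderOf (b * a * b⁻¹ * a⁻¹) : ℤ) := by
        rw [hr]
        have : (2 : ℕ) ^ 2 ∣ 2 ^ r := pow_dvd_pow 2 hr1
        exact_mod_cast this
      have h2i : (orderOf (b * a * b⁻¹ * a⁻¹) : ℤ) ∣ i * 2 := by
        rw [orderOf_dvd_iff_zpow_eq_one, zpow_mul, hi', zpow_two]
        exact hm2
      have h4i : (4 : ℤ) ∣ i * 2 := dvd_trans h4 h2i
      obtain ⟨j, rfl⟩ : ∃ j, i = 2 * j := ⟨i / 2, by omega⟩
      apply hma
      rw [← hi', zpow_mul, zpow_two]
      exact zpow_mem hcc j

theorem exists_invol_pow [Finite G] (hG : IsPGroup 2 G) {g : G} (hg : g ≠ 1) :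
    ∃ j : ℕ, g ^ j ≠ 1 ∧ g ^ j * g ^ j = 1 := by
  have : Fact (Nat.Prime 2) := ⟨Nat.prime_two⟩
  obtain ⟨k, hk⟩ := (IsPGroup.iff_orderOf.mp hG) g
  have hk1 : 1 ≤ k := by
    by_contra h0
    have h00 : k = 0 := by omega
    rw [h00, pow_zero, orderOf_eq_one_iff] at hk
    exact hg hk
  refine ⟨2 ^ (k - 1), ?_, ?_⟩
  · apply pow_ne_one_of_lt_orderOf (by positivity)
    rw [hk]; exact Nat.pow_lt_pow_right (by norm_num) (by omega)
  · rw [← pow_add, ← two_mul, ← pow_succ']
    have : k - 1 + 1 = k := by omega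
    rw [this, ← hk]; exact pow_orderOf_eq_one g

theorem main : ∀ n : ℕ, ∀ (G : Type u) [Group G] [Finite G], Nat.card G ≤ n → IsPGroup 2 G →
    P2 G → Cfsg.IsMetacyclic G := by
  intro n
  induction n using Nat.strong_induction_on with
  | _ n ih =>
    intro G _ _ hn hG hP
    have : Fact (Nat.Prime 2) := ⟨Nat.prime_two⟩
    by_cases h1 : Nat.card (commutator G) ≤ 2
    · have hpos : 0 < Nat.card (commutator G) := Nat.card_pos
      have h12 : Nat.card (commutator G) = 1 ∨ Nat.card (commutator G) = 2 := by omega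
      rcases h12 with h | h
      · obtain ⟨x, y, hxy⟩ := exists_two_gen hG hP
        apply isMetacyclic_of_normal_zpowers hxy
        apply normal_of_commutator_le
        rw [Subgroup.card_eq_one.mp h]
        exact bot_le
      · exact isMetacyclic_of_card_commutator_two hG hP h
    · push Not at h1
      have hne : commutator G ≠ ⊥ := by
        intro h
        rw [h, Subgroup.card_bot] at h1
        omega
      obtain ⟨z0, hz0N, hz0c, hz01⟩ :=
        Helper32_PGroup.exists_mem_center_of_normal hG (commutator G) hne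
      obtain ⟨j, hj1, hj2⟩ := exists_invol_pow hG hz01
      have hmc : ∀ g : G, z0 ^ j * g = g * z0 ^ j := by
        intro g
        have := Subgroup.mem_center_iff.mp (pow_mem hz0c j) g
        exact this.symm
      have hMle : zpowers (z0 ^ j) ≤ center G := by
        rw [zpowers_le]; exact pow_mem hz0c j
      have hMn : (zpowers (z0 ^ j)).Normal := Helper32_PGroup.normal_of_le_center _ hMle
      have hMcard : 2 ≤ Nat.card (zpowers (z0 ^ j)) := by
        have h0 : zpowers (z0 ^ j) ≠ ⊥ := by
          intro h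
          apply hj1
          have := mem_zpowers (z0 ^ j)
          rwa [h, mem_bot] at this
        have := (Subgroup.one_lt_card_iff_ne_bot _).mpr h0
        omega
      have hcq : Nat.card (G ⧸ zpowers (z0 ^ j)) < n := by
        have h3 := Subgroup.card_eq_card_quotient_mul_card_subgroup (zpowers (z0 ^ j))
        have hqpos : 0 < Nat.card (G ⧸ zpowers (z0 ^ j)) := Nat.card_pos
        have : 2 * Nat.card (G ⧸ zpowers (z0 ^ j)) ≤ Nat.card G := by
          rw [h3]; nlinarith
        omega
      have hq := ih _ hcq (G ⧸ zpowers (z0 ^ j)) le_rfl (hG.to_quotient _)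
        (P2_quotient hP _)
      exact isMetacyclic_of_quotient hG hmc hj2 (pow_mem hz0N j) h1 hq

end Cfsg.Agent.Lib.Helper35_Rank2Meta
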