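import Mathlib
import Cfsg.Prelude.Def_FischerSpaces
import Cfsg.Agent.Lib.Helper14_CentOmega
import Cfsg.Agent.Lib.Helper14_ReflClass
import Cfsg.Agent.Lib.Helper35_QSNormal

/-!
The subgroup `R` of `O(Q)` generated by one class of reflections contains `Ω(Q)`; elements of `GL`
centralising `Ω(Q)` are scalar (dimension at least five); structure of `R` (helper35, for S5360).
-/

set_option autoImplicit false
open scoped MatrixGroups commutatorElement

namespace Cfsg.Agent.Lib.Helper35_ReflF3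

open Cfsg Matrix Module Cfsg.Agent.Lib.Helper94_Bridge Cfsg.Agent.Lib.Helper14_POmegaSimple
  Cfsg.Agent.Lib.Helper14_AutOmega Cfsg.Agent.Lib.Helper44_Orth Cfsg.Agent.Lib.Helper14_CentOmega
  Cfsg.Agent.Lib.Helper94_OrthSiegel Cfsg.Agent.Lib.Helper14_Siegel
  Cfsg.Agent.Lib.Helper14_SiegelOmega2 Cfsg.Agent.Lib.Helper14_OmegaSimple

/-- a subgroup of index two contains the commutator subgroup -/
theorem commutator_le_of_index_two {G : Type*} [Group G] (K : Subgroup G) (h : K.index = 2) :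
    commutator G ≤ K := by
  have hn : K.Normal := Subgroup.normal_of_index_eq_two h
  have hcard : Nat.card (G ⧸ K) = 2 := h
  have : Fact (Nat.Prime 2) := ⟨Nat.prime_two⟩
  have hcyc : IsCyclic (G ⧸ K) := isCyclic_of_prime_card hcard
  let _ : CommGroup (G ⧸ K) := IsCyclic.commGroup
  have := Abelianization.commutator_subset_ker (QuotientGroup.mk' K)
  rwa [QuotientGroup.ker_mk'] at this

/-- if all products of two generators lie in the normal subgroup `Ω`, then `Ω` has index at most two in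
the subgroup generated -/
theorem index_subgroupOf_closure_le_two {G : Type*} [Group G] (Ω : Subgroup G) [hΩ : Ω.Normal]
    (D : Set G) (hD : ∀ g ∈ D, ∀ h ∈ D, g * h ∈ Ω) :
    (Ω.subgroupOf (Subgroup.closure D)).index ≤ 2 := by
  classical
  set R := Subgroup.closure D with hR
  set N := Ω.subgroupOf R with hN
  have hNn : N.Normal := Subgroup.Normal.subgroupOf hΩ R
  -- a base point
  obtain ⟨r₀, hr₀R, hr₀, hr₀D⟩ : ∃ r₀ : G, r₀ ∈ R ∧ r₀ * r₀ ∈ Ω ∧ ∀ g ∈ D, r₀ * g ∈ Ω := by
    rcases D.eq_empty_or_nonempty with h | ⟨r₀, h⟩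
    · exact ⟨1, R.one_mem, by simp [Ω.one_mem], by simp [h]⟩
    · exact ⟨r₀, Subgroup.subset_closure h, hD r₀ h r₀ h, fun g hg => hD r₀ h g hg⟩
  -- dichotomy in the quotient `G ⧸ Ω`
  have hdich : ∀ g ∈ R, g ∈ Ω ∨ r₀ * g ∈ Ω := by
    intro g hg
    induction hg using Subgroup.closure_induction with
    | mem x hx => exact Or.inr (hr₀D x hx)
    | one => exact Or.inl Ω.one_mem
    | mul x y _ _ hx hy =>
      rcases hx with hx | hx <;> rcases hy with hy | hy
      · exact Or.inl (Ω.mul_mem hx hy)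
      · right
        have : r₀ * (x * y) = (r₀ * x * r₀⁻¹) * (r₀ * y) := by group
        rw [this]
        exact Ω.mul_mem (hΩ.conj_mem x hx r₀) hy
      · right
        rw [← mul_assoc]
        exact Ω.mul_mem hx hy
      · left
        have : x * y = (r₀⁻¹ * (r₀ * x) * r₀⁻¹⁻¹) * (r₀ * r₀)⁻¹ * (r₀ * y) := by group
        rw [this]
        exact Ω.mul_mem (Ω.mul_mem (hΩ.conj_mem _ hx r₀⁻¹) (Ω.inv_mem hr₀)) hy
    | inv x _ hx =>
      rcases hx with hx | hx
      · exact Or.inl (Ω.inv_mem hx)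
      · right
        have : r₀ * x⁻¹ = (r₀ * r₀) * (r₀⁻¹ * (r₀ * x)⁻¹ * r₀⁻¹⁻¹) := by group
        rw [this]
        exact Ω.mul_mem hr₀ (hΩ.conj_mem _ (Ω.inv_mem hx) r₀⁻¹)
  -- a surjection from `Bool`
  let f : Bool → (↥R ⧸ N) := fun b => if b then QuotientGroup.mk (⟨r₀, hr₀R⟩ : ↥R)⁻¹ else 1
  have hf : Function.Surjective f := by
    intro q
    induction q using QuotientGroup.induction_on with
    | H g =>
      rcases hdich g.1 g.2 with h | h
      · refine ⟨false, ?_⟩
        show (1 : ↥R ⧸ N) = QuotientGroup.mk g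
        symm
        rw [QuotientGroup.eq_one_iff, hN, Subgroup.mem_subgroupOf]
        exact h
      · refine ⟨true, ?_⟩
        show QuotientGroup.mk (⟨r₀, hr₀R⟩ : ↥R)⁻¹ = (QuotientGroup.mk g : ↥R ⧸ N)
        rw [QuotientGroup.eq, inv_inv, hN, Subgroup.mem_subgroupOf]
        exact h
  have h1 := Nat.card_le_card_of_surjective f hf
  have h2 : Nat.card Bool = 2 := by rw [Nat.card_eq_fintype_card, Fintype.card_bool]
  rw [h2] at h1
  exact h1

variable {ι : Type} [Fintype ι] [DecidableEq ι] {F : Type*} [Field F] [Fintype F]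

/-- An invertible matrix commuting with every element of `Ω(Q)` is scalar (`n ≥ 5`). -/
theorem scalar_of_centralizes_omega (Q : QuadraticForm F (ι → F))
    (hQ : (QuadraticMap.polarBilin Q).Nondegenerate) (hn : 5 ≤ Fintype.card ι) (g : GL ι F)
    (hcomm : ∀ s : ↥(Cfsg.Omega F (⇑Q)),
      g * ((s : ↥(Cfsg.isometryGroup F (⇑Q))) : GL ι F) =
        ((s : ↥(Cfsg.isometryGroup F (⇑Q))) : GL ι F) * g) :
    g ∈ Cfsg.Geo.scalars ι F := by
  have hdim : 5 ≤ finrank F (ι → F) := by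
    rw [Module.finrank_fintype_fun_eq_card]; exact hn
  have hE : ∀ u s : ι → F, Q u = 0 → Q s = 0 → QuadraticMap.polar (⇑Q) u s = 0 →
      glEquiv ι F g * E Q u s = E Q u s * glEquiv ι F g := by
    intro u s hu hs hus
    have hmem : siegel Q u s 1 hu hs hus ∈ Cfsg.Omega F (⇑Q) :=
      Cfsg.Agent.Lib.Helper14_SiegelAll.siegelGroup_le_omega' Q hQ hn (siegel_mem Q u s 1 hu hs hus)
    have h1 := hcomm ⟨siegel Q u s 1 hu hs hus, hmem⟩
    have h2 := congrArg (glEquiv ι F) h1
    rw [map_mul, map_mul] at h2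
    have h3 : glEquiv ι F ((siegel Q u s 1 hu hs hus : ↥(Cfsg.isometryGroup F (⇑Q))) : GL ι F) =
        E Q u s := by
      have := phi_siegel Q u s 1 hu hs hus
      rw [one_smul] at this
      exact this
    rw [h3] at h2
    exact h2
  obtain ⟨l, hl⟩ := exists_scalar_of_comm Q hQ hdim hE
  have hl' : ∀ x : ι → F, (g : Matrix ι ι F) *ᵥ x = l • x := by
    intro x
    rw [← glEquiv_apply]; exact hl x
  have hl0 : l ≠ 0 := by
    rintro rfl
    have hne : Nonempty ι := by
      rw [← Fintype.card_pos_iff]; omega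
    obtain ⟨i⟩ := hne
    have h1 := hl' (Pi.single i 1)
    rw [zero_smul] at h1
    have h2 := congrArg (fun y => ((g⁻¹ : GL ι F) : Matrix ι ι F) *ᵥ y) h1
    simp only [Matrix.mulVec_mulVec, Matrix.mulVec_zero] at h2
    rw [← Units.val_mul, inv_mul_cancel, Units.val_one, Matrix.one_mulVec] at h2
    have h3 := congrFun h2 i
    simp at h3
  rw [Cfsg.Geo.mem_scalars_iff]
  refine ⟨Units.mk0 l hl0, ?_⟩
  ext i j
  have h1 := congrFun (hl' (Pi.single j 1)) i
  rw [Matrix.mulVec_single_one] at h1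
  simp only [Matrix.col_apply, Pi.smul_apply, smul_eq_mul] at h1
  rw [h1, Units.val_mk0, Matrix.smul_apply, Matrix.one_apply, Pi.single_apply]
  simp

/-- `Ω(Q)` is quasisimple (`n ≥ 5`). -/
theorem isQuasisimple_omega (Q : QuadraticForm F (ι → F))
    (hQ : (QuadraticMap.polarBilin Q).Nondegenerate) (hn : 5 ≤ Fintype.card ι) :
    IsQuasisimple ↥(Cfsg.Omega F (⇑Q)) :=
  ⟨⟨commutator_omega_eq_top Q hQ hn⟩, isSimpleGroup_POmega Q hQ hn⟩

section overgroup

variable (Q : QuadraticForm F (ι → F)) (hQ : (QuadraticMap.polarBilin Q).Nondegenerate)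
  (hn : 5 ≤ Fintype.card ι) (R : Subgroup ↥(Cfsg.isometryGroup F (⇑Q)))
  (hR : Cfsg.Omega F (⇑Q) ≤ R)

/-- `Ω` as a subgroup of an overgroup `R` -/
abbrev omegaIn : Subgroup ↥R := (Cfsg.Omega F (⇑Q)).subgroupOf R

omit [Fintype F] in
theorem omegaIn_normal : (omegaIn Q R).Normal := by
  have : (Cfsg.Omega F (⇑Q)).Normal := by
    unfold Cfsg.Omega
    infer_instance
  exact Subgroup.Normal.subgroupOf this R

include hQ hn hR in
theorem omegaIn_quasisimple : IsQuasisimple ↥(omegaIn Q R) :=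
  Cfsg.Agent.Lib.Helper29_Local.isQuasisimple_of_mulEquiv
    (Subgroup.subgroupOfEquivOfLe hR).symm (isQuasisimple_omega Q hQ hn)

omit [Fintype F] in
theorem commutator_le_omegaIn : commutator ↥R ≤ omegaIn Q R := by
  rw [commutator_eq_closure, Subgroup.closure_le]
  rintro _ ⟨x, y, rfl⟩
  rw [SetLike.mem_coe, Subgroup.mem_subgroupOf]
  show ((⁅x, y⁆ : ↥R) : ↥(Cfsg.isometryGroup F (⇑Q))) ∈ commutator ↥(Cfsg.isometryGroup F (⇑Q))
  have : ((⁅x, y⁆ : ↥R) : ↥(Cfsg.isometryGroup F (⇑Q))) = ⁅(x : ↥(Cfsg.isometryGroup F (⇑Q))), (y : ↥(Cfsg.isometryGroup F (⇑Q)))⁆ := by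
    simp [commutatorElement_def]
  rw [this]
  exact Subgroup.commutator_mem_commutator (Subgroup.mem_top _) (Subgroup.mem_top _)

include hQ hn hR in
theorem centralizer_omegaIn_le :
    Subgroup.centralizer (omegaIn Q R : Set ↥R) ≤ Subgroup.center ↥R := by
  intro g hg
  rw [Subgroup.mem_centralizer_iff] at hg
  have hsc : (((g : ↥R) : ↥(Cfsg.isometryGroup F (⇑Q))) : GL ι F) ∈ Cfsg.Geo.scalars ι F := by
    apply scalar_of_centralizes_omega Q hQ hn
    intro s
    have hs : (⟨(s : ↥(Cfsg.isometryGroup F (⇑Q))), hR s.2⟩ : ↥R) ∈ omegaIn Q R := by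
      rw [Subgroup.mem_subgroupOf]; exact s.2
    have h1 := hg _ hs
    have h2 := congrArg (fun t : ↥R => (((t : ↥R) : ↥(Cfsg.isometryGroup F (⇑Q))) : GL ι F)) h1
    simp only [Subgroup.coe_mul] at h2
    exact h2.symm
  obtain ⟨c, hc⟩ := (Cfsg.Geo.mem_scalars_iff _).mp hsc
  rw [Subgroup.mem_center_iff]
  intro h
  apply Subtype.ext
  apply Subtype.ext
  apply Units.ext
  simp only [Subgroup.coe_mul, Units.val_mul]
  rw [hc]
  simp

end overgroup

/-- the product of two reflections whose norms multiply to a square lies in `Ω` -/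
theorem refl_mul_refl_mem_omega (h2 : (2 : F) ≠ 0) (Q : QuadraticForm F (ι → F))
    (g h : ↥(Cfsg.isometryGroup F (⇑Q))) (v w : ι → F) (hv : Q v ≠ 0) (hw : Q w ≠ 0)
    (hsq : IsSquare (Q v * Q w))
    (hg : ((g : GL ι F) : Matrix ι ι F) = Cfsg.reflectionMatrix (⇑Q) v)
    (hh : ((h : GL ι F) : Matrix ι ι F) = Cfsg.reflectionMatrix (⇑Q) w) :
    g * h ∈ Cfsg.Omega F (⇑Q) := by
  have hmat : (((g * h : ↥(Cfsg.isometryGroup F (⇑Q))) : GL ι F) : Matrix ι ι F)
      = ([v, w].map (fun u => Cfsg.reflectionMatrix (⇑Q) u)).prod := by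
    simp only [Subgroup.coe_mul, Units.val_mul, List.map_cons, List.map_nil, List.prod_cons,
      List.prod_nil, mul_one]
    rw [hg, hh]
  rw [Cfsg.Agent.Lib.Helper44_Spinor.mem_omega_iff Q h2 (g * h) [v, w]
    (by
      intro u hu
      simp only [List.mem_cons, List.not_mem_nil, or_false] at hu
      rcases hu with rfl | rfl
      · exact hv
      · exact hw) hmat]
  refine ⟨⟨1, rfl⟩, ?_⟩
  simpa using hsq

end Cfsg.Agent.Lib.Helper35_ReflF3
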