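import Mathlib

/-!
Package S2496-ARITH (architect helper42): the arithmetic of `M = (q^(2m) - 1)/(q + 1) = N * T` modulo
`q + 1` (helper35).
-/

set_option autoImplicit false

namespace Cfsg.Agent.Lib.Helper35_S2496_ARITH

/-- the geometric sum `1 + q² + ... + q^(2(k-1))` -/
def G (q k : ℕ) : ℕ := ∑ i ∈ Finset.range k, (q ^ 2) ^ i

theorem G_mul (q k : ℕ) (hq : 1 ≤ q) : G q k * (q ^ 2 - 1) + 1 = q ^ (2 * k) := by
  have h := geom_sum_mul_add (q ^ 2 - 1) k
  have h1 : q ^ 2 - 1 + 1 = q ^ 2 := by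
    have : 1 ≤ q ^ 2 := Nat.one_le_pow _ _ hq
    omega
  rw [h1] at h
  rw [G, h, pow_mul]

theorem sq_sub_one (q : ℕ) (hq : 1 ≤ q) : q ^ 2 - 1 = (q + 1) * (q - 1) := by
  obtain ⟨z, rfl⟩ : ∃ z, q = z + 1 := ⟨q - 1, by omega⟩
  simp only [Nat.add_sub_cancel]
  have : (z + 1) ^ 2 = (z + 1 + 1) * z + 1 := by ring
  rw [this, Nat.add_sub_cancel]

theorem G_modEq (q k : ℕ) (hq : 1 ≤ q) : G q k ≡ k [MOD (q + 1)] := by
  have h1 : q ^ 2 ≡ 1 [MOD (q + 1)] := by
    have h : q ^ 2 = (q + 1) * (q - 1) + 1 := by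
      have := sq_sub_one q hq
      have h1 : 1 ≤ q ^ 2 := Nat.one_le_pow _ _ hq
      omega
    rw [h]
    have h0 : (q + 1) * (q - 1) + 1 ≡ 0 + 1 [MOD (q + 1)] :=
      Nat.ModEq.add_right 1 ((Nat.modEq_zero_iff_dvd).2 (dvd_mul_right _ _))
    rw [zero_add] at h0
    exact h0
  unfold G
  induction k with
  | zero => simp [Nat.ModEq]
  | succ k ih =>
    rw [Finset.sum_range_succ]
    have h2 : (q ^ 2) ^ k ≡ 1 [MOD (q + 1)] := by
      have := h1.pow k
      rwa [one_pow] at this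
    exact ih.add h2

/-- **S2496-ARITH** -/
theorem ARITH (q m : ℕ) (hq : 2 ≤ q) (hm : 1 ≤ m) :
    ∃ T M : ℕ, 0 < T ∧ (q + 1) * M = q ^ (2 * m) - 1 ∧
      M = (if Even m then q ^ m + 1 else q ^ m - 1) * T ∧
      Nat.gcd (2 * m) (q + 1) ∣ M ∧
      (Nat.gcd (2 * m) (q + 1) ∣ T ↔ Nat.gcd (2 * m) (q + 1) ∣ m) := by
  have hq1 : 1 ≤ q := by omega
  set d := Nat.gcd (2 * m) (q + 1) with hd
  have hd1 : d ∣ 2 * m := Nat.gcd_dvd_left _ _
  have hd2 : d ∣ q + 1 := Nat.gcd_dvd_right _ _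
  have hsq := sq_sub_one q hq1
  -- `M`
  have hM : (q + 1) * ((q - 1) * G q m) = q ^ (2 * m) - 1 := by
    have := G_mul q m hq1
    rw [← this, Nat.add_sub_cancel, hsq]
    ring
  have hdM : d ∣ (q - 1) * G q m := by
    -- `M + 2m ≡ 0`
    have h1 : (q - 1) * G q m + 2 * G q m = (q + 1) * G q m := by
      have : q - 1 + 2 = q + 1 := by omega
      rw [← add_mul, this]
    have h2 : (q - 1) * G q m + 2 * m ≡ (q - 1) * G q m + 2 * G q m [MOD (q + 1)] :=
      Nat.ModEq.add_left _ (((G_modEq q m hq1).symm).mul_left 2)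
    rw [h1] at h2
    have h3 : (q + 1) ∣ (q - 1) * G q m + 2 * m :=
      (Nat.modEq_zero_iff_dvd).1 (h2.trans ((Nat.modEq_zero_iff_dvd).2 (dvd_mul_right _ _)))
    have h4 : d ∣ (q - 1) * G q m + 2 * m := dvd_trans hd2 h3
    exact (Nat.dvd_add_left hd1).1 h4
  have hqm1 : 1 ≤ q ^ m := Nat.one_le_pow _ _ hq1
  have hfac : q ^ (2 * m) - 1 = (q ^ m + 1) * (q ^ m - 1) := by
    have : q ^ (2 * m) = q ^ m * q ^ m := by rw [two_mul, pow_add]
    rw [this]
    obtain ⟨z, hz⟩ : ∃ z, q ^ m = z + 1 := ⟨q ^ m - 1, by omega⟩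
    rw [hz]
    simp only [Nat.add_sub_cancel]
    have : (z + 1) * (z + 1) = (z + 1 + 1) * z + 1 := by ring
    rw [this, Nat.add_sub_cancel]
  rcases Nat.even_or_odd m with hev | hodd
  · -- `m = 2k`
    obtain ⟨k, hk⟩ := hev
    have hk1 : 1 ≤ k := by omega
    have hm2 : m = 2 * k := by omega
    -- `(q+1) T = q^m - 1`
    have hT : (q + 1) * ((q - 1) * G q k) = q ^ m - 1 := by
      have := G_mul q k hq1
      rw [hm2, ← this, Nat.add_sub_cancel, hsq]
      ring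
    have hTpos : 0 < (q - 1) * G q k := by
      rcases Nat.eq_zero_or_pos ((q - 1) * G q k) with h | h
      · rw [h, mul_zero] at hT
        have : 2 ≤ q ^ m := le_trans hq (Nat.le_self_pow (by omega) q)
        omega
      · exact h
    refine ⟨(q - 1) * G q k, (q - 1) * G q m, hTpos, hM, ?_, hdM, ?_⟩
    · rw [if_pos ⟨k, hk⟩]
      have h4 : (q + 1) * ((q - 1) * G q m) = (q + 1) * ((q ^ m + 1) * ((q - 1) * G q k)) := by
        rw [hM, hfac, mul_left_comm, hT]
      exact Nat.eq_of_mul_eq_mul_left (by omega) h4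
    · -- `T + m ≡ 0`
      have h1 : (q - 1) * G q k + 2 * G q k = (q + 1) * G q k := by
        have : q - 1 + 2 = q + 1 := by omega
        rw [← add_mul, this]
      have h2 : (q - 1) * G q k + m ≡ (q - 1) * G q k + 2 * G q k [MOD (q + 1)] := by
        rw [hm2]
        exact Nat.ModEq.add_left _ (((G_modEq q k hq1).symm).mul_left 2)
      rw [h1] at h2
      have h3 : (q + 1) ∣ (q - 1) * G q k + m :=
        (Nat.modEq_zero_iff_dvd).1 (h2.trans ((Nat.modEq_zero_iff_dvd).2 (dvd_mul_right _ _)))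
      have h4 : d ∣ (q - 1) * G q k + m := dvd_trans hd2 h3
      constructor
      · intro h
        exact (Nat.dvd_add_right h).1 h4
      · intro h
        exact (Nat.dvd_add_left h).1 h4
  · -- `m = 2k + 1`
    obtain ⟨k, hk⟩ := hodd
    have hnev : ¬ Even m := Nat.not_even_iff_odd.2 ⟨k, hk⟩
    -- `(q+1) T = q^m + 1`
    have hT : (q + 1) * ((q - 1) * q * G q k + 1) = q ^ m + 1 := by
      have h := G_mul q k hq1
      have : q ^ m = q * q ^ (2 * k) := by rw [hk, pow_succ, mul_comm]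
      rw [this, ← h, hsq]
      ring
    refine ⟨(q - 1) * q * G q k + 1, (q - 1) * G q m, Nat.succ_pos _, hM, ?_, hdM, ?_⟩
    · rw [if_neg hnev]
      have h4 : (q + 1) * ((q - 1) * G q m)
          = (q + 1) * ((q ^ m - 1) * ((q - 1) * q * G q k + 1)) := by
        rw [hM, hfac, mul_left_comm, hT, mul_comm]
      exact Nat.eq_of_mul_eq_mul_left (by omega) h4
    · -- `T ≡ m`
      have h1 : (q - 1) * q = (q + 1) * (q - 2) + 2 := by
        obtain ⟨z, rfl⟩ : ∃ z, q = z + 2 := ⟨q - 2, by omega⟩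
        simp only [Nat.add_sub_cancel]
        have : z + 2 - 1 = z + 1 := by omega
        rw [this]
        ring
      have h2 : (q - 1) * q ≡ 2 [MOD (q + 1)] := by
        rw [h1]
        have h0 : (q + 1) * (q - 2) + 2 ≡ 0 + 2 [MOD (q + 1)] :=
          Nat.ModEq.add_right 2 ((Nat.modEq_zero_iff_dvd).2 (dvd_mul_right _ _))
        rw [zero_add] at h0
        exact h0
      have h3 : (q - 1) * q * G q k + 1 ≡ 2 * k + 1 [MOD (q + 1)] :=
        Nat.ModEq.add_right 1 (h2.mul (G_modEq q k hq1))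
      rw [← hk] at h3
      have h4 : (q - 1) * q * G q k + 1 ≡ m [MOD d] := h3.of_dvd hd2
      exact h4.dvd_iff dvd_rfl

end Cfsg.Agent.Lib.Helper35_S2496_ARITH
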