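import Mathlib
import Cfsg.Agent.Lib.Helper99_Zsigmondy

/-!
Package S2496-PRIME (architect helper42): the primitive prime used in S2496 (helper35).
-/

set_option autoImplicit false

namespace Cfsg.Agent.Lib.Helper35_S2496_PRIME

open Cfsg.Agent.Lib.Helper99_Zsigmondy

/-- A primitive prime divisor `r` of `q^n - 1`, `q` odd, `n ≥ 3`: `ord_r(q) = n`, `r ≠ 2`, `r ∤ q`,
`r ∤ q + 1`. -/
theorem ppd_facts (q n r : ℕ) (hodd : Odd q) (hq : 3 ≤ q) (hn : 3 ≤ n) (hr : r.Prime)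
    (hrdvd : r ∣ q ^ n - 1) (hrmin : ∀ k : ℕ, 0 < k → k < n → ¬ r ∣ q ^ k - 1) :
    orderOf ((q : ℕ) : ZMod r) = n ∧ r ≠ 2 ∧ ¬ r ∣ q ∧ ¬ r ∣ q + 1 := by
  have : Fact r.Prime := ⟨hr⟩
  have hq1 : 1 ≤ q := by omega
  have h1 : ((q : ℕ) : ZMod r) ^ n = 1 := (dvd_pow_sub_one_iff hq1).1 hrdvd
  have hord : orderOf ((q : ℕ) : ZMod r) = n := by
    have hd := orderOf_dvd_of_pow_eq_one h1
    by_contra hne
    have hpos : 0 < orderOf ((q : ℕ) : ZMod r) :=
      orderOf_pos_iff.2 (isOfFinOrder_iff_pow_eq_one.2 ⟨n, by omega, h1⟩)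
    have hlt : orderOf ((q : ℕ) : ZMod r) < n :=
      lt_of_le_of_ne (Nat.le_of_dvd (by omega) hd) hne
    exact hrmin _ hpos hlt ((dvd_pow_sub_one_iff hq1).2 (pow_orderOf_eq_one _))
  refine ⟨hord, ?_, ?_, ?_⟩
  · rintro rfl
    have := hrmin 1 one_pos (by omega)
    apply this
    rw [pow_one]
    obtain ⟨z, hz⟩ := hodd
    exact ⟨z, by omega⟩
  · intro h
    have h0 : ((q : ℕ) : ZMod r) = 0 := (ZMod.natCast_eq_zero_iff _ _).2 h
    rw [h0, zero_pow (by omega)] at h1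
    exact zero_ne_one h1
  · intro h
    have := hrmin 2 (by norm_num) (by omega)
    apply this
    have h2 : q ^ 2 - 1 = (q + 1) * (q - 1) := by
      obtain ⟨z, rfl⟩ : ∃ z, q = z + 1 := ⟨q - 1, by omega⟩
      simp only [Nat.add_sub_cancel]
      have : (z + 1) ^ 2 = (z + 1 + 1) * z + 1 := by ring
      rw [this, Nat.add_sub_cancel]
    rw [h2]
    exact dvd_mul_of_dvd_left h _

/-- **S2496-PRIME** -/
theorem PRIME (q m : ℕ) (hodd : Odd q) (hq : 3 ≤ q) (hm : 2 ≤ m) :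
    ∃ r : ℕ, r.Prime ∧ r ≠ 2 ∧ ¬ r ∣ q ∧ ¬ r ∣ q + 1 ∧
      r ∣ (if Even m then q ^ m + 1 else q ^ m - 1) ∧
      orderOf ((q ^ 2 : ℕ) : ZMod r) = m ∧
      orderOf ((q : ℕ) : ZMod r) % 4 ≠ 2 := by
  have hq1 : 1 ≤ q := by omega
  rcases Nat.even_or_odd m with hev | hmo
  · -- a primitive prime divisor of `q^(2m) - 1`
    obtain ⟨r, hr, hrdvd, hrmin⟩ := zsigmondy q (2 * m) (by omega) (by omega)
      (by
        rintro ⟨rfl, -⟩
        omega)
      (by rintro ⟨h, -⟩; omega)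
    obtain ⟨hord, hr2, hrq, hrq1⟩ := ppd_facts q (2 * m) r hodd hq (by omega) hr hrdvd hrmin
    have : Fact r.Prime := ⟨hr⟩
    refine ⟨r, hr, hr2, hrq, hrq1, ?_, ?_, ?_⟩
    · rw [if_pos hev]
      have hqm1 : 1 ≤ q ^ m := Nat.one_le_pow _ _ hq1
      have hfac : q ^ (2 * m) - 1 = (q ^ m + 1) * (q ^ m - 1) := by
        have : q ^ (2 * m) = q ^ m * q ^ m := by rw [two_mul, pow_add]
        rw [this]
        obtain ⟨z, hz⟩ : ∃ z, q ^ m = z + 1 := ⟨q ^ m - 1, by omega⟩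
        rw [hz]
        simp only [Nat.add_sub_cancel]
        have : (z + 1) * (z + 1) = (z + 1 + 1) * z + 1 := by ring
        rw [this, Nat.add_sub_cancel]
      rw [hfac] at hrdvd
      rcases (Nat.Prime.dvd_mul hr).1 hrdvd with h | h
      · exact h
      · exact absurd h (hrmin m (by omega) (by omega))
    · rw [Nat.cast_pow, orderOf_pow' _ (by norm_num), hord]
      have : Nat.gcd (2 * m) 2 = 2 := Nat.gcd_eq_right (dvd_mul_right 2 m)
      rw [this, Nat.mul_div_cancel_left _ (by norm_num)]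
    · rw [hord]
      obtain ⟨k, hk⟩ := hev
      omega
  · -- a primitive prime divisor of `q^m - 1`
    have hm3 : 3 ≤ m := by
      obtain ⟨k, hk⟩ := hmo
      omega
    obtain ⟨r, hr, hrdvd, hrmin⟩ := zsigmondy q m (by omega) (by omega)
      (by
        rintro ⟨rfl, -⟩
        omega)
      (by rintro ⟨h, -⟩; omega)
    obtain ⟨hord, hr2, hrq, hrq1⟩ := ppd_facts q m r hodd hq hm3 hr hrdvd hrmin
    have : Fact r.Prime := ⟨hr⟩
    have hnev : ¬ Even m := Nat.not_even_iff_odd.2 hmo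
    refine ⟨r, hr, hr2, hrq, hrq1, ?_, ?_, ?_⟩
    · rw [if_neg hnev]
      exact hrdvd
    · rw [Nat.cast_pow, orderOf_pow' _ (by norm_num), hord]
      have : Nat.gcd m 2 = 1 := Nat.coprime_two_right.2 hmo
      rw [this, Nat.div_one]
    · rw [hord]
      obtain ⟨k, hk⟩ := hmo
      omega

end Cfsg.Agent.Lib.Helper35_S2496_PRIME
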