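import Mathlib
import Cfsg.Agent.Lib.Helper40_SemisimpleGL

set_option autoImplicit false

/-!
The centraliser of a semisimple endomorphism over a finite field has surjective determinant.
-/

namespace Cfsg.Agent.Lib.Helper40_SemisimpleCentralizer

open Polynomial Module Cfsg.Agent.Lib.Helper40_Semisimple Cfsg.Agent.Lib.Helper40_SemisimpleGL

universe v

variable {F : Type v} [Field F]

theorem aeval_comm {V : Type*} [AddCommGroup V] [Module F V] (a : Module.End F V) (r : F[X])
    (x : V) : aeval a r (a x) = a (aeval a r x) := by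
  have h : aeval a r * a = a * aeval a r := by
    have h1 : aeval a (r * X) = aeval a (X * r) := by rw [mul_comm]
    rwa [map_mul, map_mul, aeval_X] at h1
  exact LinearMap.congr_fun h x

/-- Over a finite field, a semisimple endomorphism of a nonzero space commutes with
endomorphisms of every determinant. -/
theorem exists_commute_det {V : Type v} [AddCommGroup V] [Module F V] [Module.Finite F V]
    [Finite F] (a : Module.End F V) (ha : a.IsSemisimple) (hV : 0 < finrank F V) (δ : F) :
    ∃ c : Module.End F V, (∀ x, c (a x) = a (c x)) ∧ LinearMap.det c = δ := by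
  classical
  have hnotunit : ¬ IsUnit a.charpoly := by
    intro hu
    have := natDegree_eq_zero_of_isUnit hu
    rw [LinearMap.charpoly_natDegree] at this
    omega
  obtain ⟨f, hfm, hf, hfa⟩ := exists_monic_irreducible_factor a.charpoly hnotunit
  obtain ⟨v, hv0, hv⟩ := exists_ne_zero_aeval_eq_zero a f hf hfa
  set ψ := orbitMap a v with hψ
  set Z := LinearMap.range ψ with hZdef
  have hZ : ∀ x ∈ Z, a x ∈ Z := by
    rintro _ ⟨p, rfl⟩
    exact ⟨X * p, orbitMap_X_mul a v p⟩
  obtain ⟨C, hC', hZC⟩ := (Module.End.isSemisimple_iff.1 ha) Z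
    (by rw [Module.End.mem_invtSubmodule]; exact hZ)
  have hC : ∀ x ∈ C, a x ∈ C := by
    rw [Module.End.mem_invtSubmodule] at hC'; exact hC'
  -- the field
  have : Fact (Irreducible f) := ⟨hf⟩
  have : Module.Finite F (AdjoinRoot f) := hfm.finite_adjoinRoot
  have : Finite (AdjoinRoot f) := Module.finite_of_finite F
  let mkl : F[X] →ₗ[F] AdjoinRoot f := (AdjoinRoot.mkₐ f).toLinearMap
  have hmkl : ∀ p, mkl p = AdjoinRoot.mk f p := fun p => rfl
  have hmkl_surj : Function.Surjective mkl := AdjoinRoot.mk_surjective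
  let ψZ : F[X] →ₗ[F] Z := ψ.rangeRestrict
  have hψZ_surj : Function.Surjective ψZ := LinearMap.surjective_rangeRestrict ψ
  have hker : LinearMap.ker mkl = LinearMap.ker ψZ := by
    ext p
    rw [LinearMap.mem_ker, LinearMap.mem_ker, hmkl, AdjoinRoot.mk_eq_zero]
    rw [← orbitMap_eq_zero_iff a v hv0 f hf hv p]
    constructor
    · intro h
      apply Subtype.ext
      exact h
    · intro h
      exact congrArg Subtype.val h
  let θ : AdjoinRoot f ≃ₗ[F] Z :=
    ((LinearMap.quotKerEquivOfSurjective mkl hmkl_surj).symm.trans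
      (Submodule.quotEquivOfEq _ _ hker)).trans (LinearMap.quotKerEquivOfSurjective ψZ hψZ_surj)
  have hθ : ∀ p : F[X], θ (AdjoinRoot.mk f p) = ψZ p := by
    intro p
    have h1 : (LinearMap.quotKerEquivOfSurjective mkl hmkl_surj).symm (AdjoinRoot.mk f p) =
        Submodule.Quotient.mk p := by
      rw [LinearEquiv.symm_apply_eq]
      rfl
    simp only [θ, LinearEquiv.trans_apply]
    rw [h1, Submodule.quotEquivOfEq_mk]
    rfl
  -- choose the element of the field with the right norm
  obtain ⟨lam, hlam⟩ := FiniteField.norm_surjective F (AdjoinRoot f) δ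
  obtain ⟨r, hr⟩ := AdjoinRoot.mk_surjective lam
  have hZr : ∀ x ∈ Z, aeval a r x ∈ Z := by
    rintro _ ⟨p, rfl⟩
    refine ⟨r * p, ?_⟩
    rw [orbitMap_apply, orbitMap_apply, map_mul, Module.End.mul_apply]
  let cZ : Module.End F Z := (aeval a r).restrict hZr
  have hcZ : cZ = (θ : AdjoinRoot f →ₗ[F] Z) ∘ₗ (Algebra.lmul F (AdjoinRoot f) lam) ∘ₗ
      (θ.symm : Z →ₗ[F] AdjoinRoot f) := by
    apply LinearMap.ext
    intro z
    obtain ⟨y, rfl⟩ := θ.surjective z
    obtain ⟨p, rfl⟩ := AdjoinRoot.mk_surjective y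
    rw [LinearMap.comp_apply, LinearMap.comp_apply]
    simp only [LinearEquiv.coe_coe, LinearEquiv.symm_apply_apply]
    rw [Algebra.coe_lmul_eq_mul, LinearMap.mul_apply', ← hr, ← map_mul, hθ, hθ]
    apply Subtype.ext
    show aeval a r (ψ p) = ψ (r * p)
    rw [orbitMap_apply, orbitMap_apply, map_mul, Module.End.mul_apply]
  have hdetZ : LinearMap.det cZ = δ := by
    rw [hcZ, LinearMap.det_conj, ← Algebra.norm_apply, hlam]
  -- extend by the identity on the complement
  let E := Submodule.prodEquivOfIsCompl Z C hZC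
  let c : Module.End F V := (E : (Z × C) →ₗ[F] V) ∘ₗ (cZ.prodMap LinearMap.id) ∘ₗ
    (E.symm : V →ₗ[F] (Z × C))
  have hcE : ∀ s : Z × C, c (E s) = E (cZ s.1, s.2) := by
    intro s
    simp only [c, LinearMap.comp_apply, LinearEquiv.coe_coe, LinearEquiv.symm_apply_apply]
    rfl
  have haE : ∀ s : Z × C, a (E s) = E ((a.restrict hZ) s.1, (a.restrict hC) s.2) := by
    rintro ⟨z, w⟩
    simp only [E, Submodule.coe_prodEquivOfIsCompl', map_add, LinearMap.coe_restrict_apply]
  refine ⟨c, ?_, ?_⟩
  · intro x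
    obtain ⟨s, rfl⟩ := E.surjective x
    rw [haE, hcE, hcE, haE]
    congr 2
    apply Subtype.ext
    exact aeval_comm a r _
  · rw [LinearMap.det_conj, LinearMap.det_prodMap, hdetZ, LinearMap.det_id, mul_one]

theorem exists_commute_det_matrix [Finite F] {n : ℕ} (hn : 0 < n)
    (A : Matrix (Fin n) (Fin n) F) (hA : IsSS A) (δ : F) :
    ∃ C : Matrix (Fin n) (Fin n) F, C * A = A * C ∧ C.det = δ := by
  obtain ⟨c, hc, hdet⟩ := exists_commute_det (Matrix.toLin' A) hA
    (by rw [Module.finrank_fin_fun]; exact hn) δ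
  refine ⟨LinearMap.toMatrix' c, ?_, ?_⟩
  · have h1 : LinearMap.toMatrix' c * A = LinearMap.toMatrix' (c ∘ₗ Matrix.toLin' A) := by
      rw [LinearMap.toMatrix'_comp, LinearMap.toMatrix'_toLin']
    have h2 : A * LinearMap.toMatrix' c = LinearMap.toMatrix' (Matrix.toLin' A ∘ₗ c) := by
      rw [LinearMap.toMatrix'_comp, LinearMap.toMatrix'_toLin']
    rw [h1, h2]
    congr 1
    apply LinearMap.ext
    intro x
    exact hc x
  · rw [LinearMap.det_toMatrix', hdet]

/-- In `SL_n` over a finite field, semisimple elements with the same characteristic polynomial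
are conjugate. -/
theorem sl_isConj_of_charpoly_eq [Finite F] {n : ℕ}
    (g h : Matrix.SpecialLinearGroup (Fin n) F)
    (hg : IsSS (g : Matrix (Fin n) (Fin n) F)) (hh : IsSS (h : Matrix (Fin n) (Fin n) F))
    (hc : (g : Matrix (Fin n) (Fin n) F).charpoly = (h : Matrix (Fin n) (Fin n) F).charpoly) :
    IsConj g h := by
  rcases Nat.eq_zero_or_pos n with hn | hn
  · subst hn
    have : g = h := by
      apply Subtype.ext
      exact Subsingleton.elim _ _
    rw [this]
  · obtain ⟨P, hP⟩ := exists_GL_conj (g : Matrix (Fin n) (Fin n) F) h hg hh hc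
    have hPdet : (P : Matrix (Fin n) (Fin n) F).det ≠ 0 := by
      have hu : IsUnit (P : Matrix (Fin n) (Fin n) F).det :=
        (Matrix.isUnit_iff_isUnit_det _).1 P.isUnit
      exact hu.ne_zero
    obtain ⟨C, hCg, hCdet⟩ := exists_commute_det_matrix hn (g : Matrix (Fin n) (Fin n) F) hg
      ((P : Matrix (Fin n) (Fin n) F).det)⁻¹
    have hQdet : ((P : Matrix (Fin n) (Fin n) F) * C).det = 1 := by
      rw [Matrix.det_mul, hCdet, mul_inv_cancel₀ hPdet]
    rw [isConj_iff]
    let Q : Matrix.SpecialLinearGroup (Fin n) F := ⟨(P : Matrix (Fin n) (Fin n) F) * C, hQdet⟩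
    have hQ : (Q : Matrix (Fin n) (Fin n) F) = (P : Matrix (Fin n) (Fin n) F) * C := rfl
    refine ⟨Q, ?_⟩
    rw [mul_inv_eq_iff_eq_mul]
    apply Subtype.ext
    rw [Matrix.SpecialLinearGroup.coe_mul, Matrix.SpecialLinearGroup.coe_mul, hQ]
    rw [Matrix.mul_assoc, hCg, ← Matrix.mul_assoc, hP, Matrix.mul_assoc]

end Cfsg.Agent.Lib.Helper40_SemisimpleCentralizer
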