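/-
helper35: semisimple elements of `GL_n(F)` of determinant one with equal characteristic
polynomial are conjugate under an element of determinant one (`Cfsg.Geo.specialLinear` form of
`Helper40_SemisimpleCentralizer.sl_isConj_of_charpoly_eq`).
-/
import Mathlib
import Cfsg.Prelude.Def_GeometricClasses
import Cfsg.Agent.Lib.Helper40_SemisimpleCentralizer

set_option autoImplicit false
open scoped MatrixGroups

namespace Cfsg.Agent.Lib.Helper35_SLConj

variable {F : Type*} [Field F]

theorem det_eq_one_of_mem {n : ℕ} {a : GL (Fin n) F}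
    (ha : a ∈ Cfsg.Geo.specialLinear (Fin n) F) :
    (a : Matrix (Fin n) (Fin n) F).det = 1 := by
  have h : Matrix.GeneralLinearGroup.det a = 1 := ha
  have := congrArg Units.val h
  simpa using this

theorem mem_of_det_eq_one {n : ℕ} {a : GL (Fin n) F}
    (ha : (a : Matrix (Fin n) (Fin n) F).det = 1) :
    a ∈ Cfsg.Geo.specialLinear (Fin n) F := by
  change Matrix.GeneralLinearGroup.det a = 1
  apply Units.ext
  simpa using ha

open Cfsg.Agent.Lib.Helper40_SemisimpleGL in
/-- Semisimple elements of determinant one with the same characteristic polynomial are conjugate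
under an element of determinant one. -/
theorem exists_sl_conj [Finite F] {n : ℕ} (a b : GL (Fin n) F)
    (ha : a ∈ Cfsg.Geo.specialLinear (Fin n) F) (hb : b ∈ Cfsg.Geo.specialLinear (Fin n) F)
    (hsa : IsSS (a : Matrix (Fin n) (Fin n) F)) (hsb : IsSS (b : Matrix (Fin n) (Fin n) F))
    (hc : (a : Matrix (Fin n) (Fin n) F).charpoly = (b : Matrix (Fin n) (Fin n) F).charpoly) :
    ∃ g ∈ Cfsg.Geo.specialLinear (Fin n) F, g⁻¹ * a * g = b := by
  let a' : Matrix.SpecialLinearGroup (Fin n) F := ⟨(a : Matrix (Fin n) (Fin n) F), det_eq_one_of_mem ha⟩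
  let b' : Matrix.SpecialLinearGroup (Fin n) F := ⟨(b : Matrix (Fin n) (Fin n) F), det_eq_one_of_mem hb⟩
  have hconj : IsConj a' b' :=
    Cfsg.Agent.Lib.Helper40_SemisimpleCentralizer.sl_isConj_of_charpoly_eq a' b' hsa hsb hc
  obtain ⟨c, hc'⟩ := isConj_iff.mp hconj
  have haa : Matrix.SpecialLinearGroup.toGL a' = a := Units.ext rfl
  have hbb : Matrix.SpecialLinearGroup.toGL b' = b := Units.ext rfl
  refine ⟨Matrix.SpecialLinearGroup.toGL c⁻¹, ?_, ?_⟩
  · change Matrix.GeneralLinearGroup.det _ = 1
    exact Matrix.SpecialLinearGroup.coeToGL_det _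
  · rw [← haa, ← hbb, ← map_inv, ← map_mul, ← map_mul, inv_inv, hc']

end Cfsg.Agent.Lib.Helper35_SLConj
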