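import Mathlib
import Cfsg.Agent.Lib.Helper40_Palindromic

/-!
# Characteristic polynomials of some elements of `Sp_4(F)` (helper42)
-/

set_option autoImplicit false
set_option linter.unusedSimpArgs false
open scoped MatrixGroups
open Matrix Polynomial

namespace Cfsg.Agent.Lib.Helper42_Sp4Charpoly

variable {F : Type*} [Field F]

abbrev I4 := Fin 2 ⊕ Fin 2

/-- shape of the characteristic polynomial of a `4 × 4` symplectic matrix -/
theorem charpoly_shape (A : Matrix I4 I4 F) (hA : A ∈ symplecticGroup (Fin 2) F) :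
    A.charpoly = X ^ 4 + C (-Matrix.trace A) * X ^ 3 + C (A.charpoly.coeff 2) * X ^ 2 +
      C (-Matrix.trace A) * X + 1 := by
  have hmonic : A.charpoly.Monic := Matrix.charpoly_monic A
  have hdeg : A.charpoly.natDegree = 4 := by
    rw [Matrix.charpoly_natDegree_eq_dim]; simp
  have hrev := Cfsg.Agent.Lib.Helper40_Palindromic.charpoly_reverse_of_mem_symplectic A hA
  have c4 : A.charpoly.coeff 4 = 1 := by
    have := hmonic.leadingCoeff
    rwa [Polynomial.leadingCoeff, hdeg] at this
  have c0 : A.charpoly.coeff 0 = 1 :=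
    Cfsg.Agent.Lib.Helper40_Palindromic.coeff_zero_of_reverse_eq _ hmonic hrev
  have c3 : A.charpoly.coeff 3 = -Matrix.trace A := by
    have := Matrix.trace_eq_neg_charpoly_coeff A
    rw [Fintype.card_sum, Fintype.card_fin] at this
    rw [this]; simp
  have c1 : A.charpoly.coeff 1 = -Matrix.trace A := by
    rw [← c3]
    have h := congrArg (fun q : F[X] => q.coeff 1) hrev
    simp only [Polynomial.coeff_reverse, hdeg] at h
    rw [Polynomial.revAt_le (by norm_num : 1 ≤ 4)] at h
    exact h.symm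
  ext n
  by_cases hn : n ≤ 4
  · interval_cases n
    · rw [c0]; simp [Polynomial.coeff_X_pow, Polynomial.coeff_one, Polynomial.coeff_X]
    · rw [c1]; simp [Polynomial.coeff_X_pow, Polynomial.coeff_one, Polynomial.coeff_X]
    · simp [Polynomial.coeff_X_pow, Polynomial.coeff_one, Polynomial.coeff_X]
    · rw [c3]; simp [Polynomial.coeff_X_pow, Polynomial.coeff_one, Polynomial.coeff_X]
    · rw [c4]; simp [Polynomial.coeff_X_pow, Polynomial.coeff_one, Polynomial.coeff_X]
  · push Not at hn
    rw [Polynomial.coeff_eq_zero_of_natDegree_lt (by rw [hdeg]; exact hn)]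
    have h1 : n ≠ 4 := by omega
    have h2 : n ≠ 3 := by omega
    have h3 : n ≠ 2 := by omega
    have h4 : n ≠ 1 := by omega
    have h5 : n ≠ 0 := by omega
    simp [Polynomial.coeff_X_pow, Polynomial.coeff_one, Polynomial.coeff_X, h1, h2, h3, h4, h5,
      Polynomial.coeff_C_mul, h4.symm, h5.symm]

theorem trace_eq_zero_of_sq_neg (A : Matrix I4 I4 F) (hA : A ∈ symplecticGroup (Fin 2) F)
    (h2 : (2 : F) ≠ 0) (hsq : A * A = -1) : Matrix.trace A = 0 := by
  have hA' := SymplecticGroup.mem_iff'.mp hA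
  have h1 : J (Fin 2) F * A = -(Aᵀ * J (Fin 2) F) := by
    have : Aᵀ * J (Fin 2) F * A * A = J (Fin 2) F * A := by rw [hA']
    rw [Matrix.mul_assoc (Aᵀ * J (Fin 2) F), hsq, Matrix.mul_neg, Matrix.mul_one] at this
    exact this.symm
  have h3 : Matrix.trace (J (Fin 2) F * (J (Fin 2) F * A)) =
      Matrix.trace (J (Fin 2) F * (-(Aᵀ * J (Fin 2) F))) := by rw [h1]
  rw [← Matrix.mul_assoc, Matrix.J_squared, Matrix.neg_mul, Matrix.one_mul, Matrix.trace_neg,
    Matrix.mul_neg, Matrix.trace_neg, ← Matrix.mul_assoc, Matrix.trace_mul_cycle,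
    Matrix.J_squared, Matrix.neg_mul, Matrix.one_mul, Matrix.trace_neg, Matrix.trace_transpose,
    neg_neg] at h3
  have : (2 : F) * Matrix.trace A = 0 := by linear_combination -h3
  rcases mul_eq_zero.mp this with h | h
  · exact absurd h h2
  · exact h

theorem smul_one_eq_zero {k : F} (h : k • (1 : Matrix I4 I4 F) = 0) : k = 0 := by
  have := congrFun (congrFun h (Sum.inl 0)) (Sum.inl 0)
  simpa using this

/-- the characteristic polynomial of a non-scalar symplectic `4 × 4` matrix with square `±1` -/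
theorem charpoly_of_sq (A : Matrix I4 I4 F) (hA : A ∈ symplecticGroup (Fin 2) F)
    (h2 : (2 : F) ≠ 0) (ε : F) (hε : ε = 1 ∨ ε = -1) (hsq : A * A = ε • (1 : Matrix I4 I4 F))
    (hns : ∀ z : F, A ≠ z • (1 : Matrix I4 I4 F)) :
    A.charpoly = X ^ 4 - C (2 * ε) * X ^ 2 + 1 := by
  have hshape := charpoly_shape A hA
  set t := Matrix.trace A with ht
  set c := A.charpoly.coeff 2 with hc
  have hCH := Matrix.aeval_self_charpoly A
  rw [hshape] at hCH
  simp only [map_add, map_mul, map_pow, Polynomial.aeval_X, Polynomial.aeval_C, map_one,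
    Algebra.algebraMap_eq_smul_one, smul_mul_assoc, one_mul] at hCH
  have hA2 : A ^ 2 = ε • (1 : Matrix I4 I4 F) := by rw [pow_two, hsq]
  have hA3 : A ^ 3 = ε • A := by rw [pow_succ, hA2, smul_mul_assoc, one_mul]
  have hA4 : A ^ 4 = (ε * ε) • (1 : Matrix I4 I4 F) := by
    rw [show 4 = 2 + 2 from rfl, pow_add, hA2, smul_mul_assoc, one_mul, smul_smul]
  rw [hA2, hA3, hA4] at hCH
  have hkey : (t * (ε + 1)) • A = (ε * ε + c * ε + 1) • (1 : Matrix I4 I4 F) := by
    have h3 : (t * (ε + 1)) • A - (ε * ε + c * ε + 1) • (1 : Matrix I4 I4 F) =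
        -((ε * ε) • (1 : Matrix I4 I4 F) + -t • ε • A + c • ε • (1 : Matrix I4 I4 F) + -t • A + 1) := by
      module
    rw [hCH, neg_zero, sub_eq_zero] at h3
    exact h3
  have ht0 : t = 0 := by
    rcases hε with h | h
    · by_contra hne
      have h3 : t * (ε + 1) ≠ 0 := by
        rw [h]; norm_num; exact ⟨hne, h2⟩
      apply hns ((t * (ε + 1))⁻¹ * (ε * ε + c * ε + 1))
      rw [← smul_smul, ← hkey, smul_smul, inv_mul_cancel₀ h3, one_smul]
    · rw [h] at hsq
      exact trace_eq_zero_of_sq_neg A hA h2 (by rw [hsq]; simp)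
  have hc0 : c = -(2 * ε) := by
    rw [ht0, zero_mul, zero_smul] at hkey
    have h3 := smul_one_eq_zero hkey.symm
    rcases hε with h | h
    · rw [h] at h3 ⊢; linear_combination h3
    · rw [h] at h3 ⊢; linear_combination -h3
  rw [hshape, ht0, hc0]
  simp
  ring

/-- irreducibility of the fifth cyclotomic polynomial when `p` has order 4 modulo 5 -/
theorem irreducible_cyclotomic_five [Fintype F] {p : ℕ} [Fact p.Prime] (hF : Fintype.card F = p)
    (hord : orderOf (p : ZMod 5) = 4) : Irreducible (cyclotomic 5 F) := by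
  have hp : p.Prime := Fact.out
  have hp5 : p ≠ 5 := by
    intro h
    have := pow_orderOf_eq_one (p : ZMod 5)
    rw [hord, h] at this
    exact absurd this (by decide)
  have hcop : p.Coprime 5 := (Nat.coprime_primes hp (by norm_num)).mpr hp5
  apply Polynomial.irreducible_of_dvd_cyclotomic_of_natDegree (p := p) (f := 1) (n := 5)
    (by rw [hF, pow_one]) hcop dvd_rfl
  rw [Polynomial.natDegree_cyclotomic, ← orderOf_units, ZMod.coe_unitOfCoprime]
  simp only [pow_one]
  rw [hord]
  rfl

/-- the characteristic polynomial of an element of order 5 -/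
theorem charpoly_of_order5 [Fintype F] {p : ℕ} [Fact p.Prime] (hF : Fintype.card F = p)
    (hord : orderOf (p : ZMod 5) = 4) (A : Matrix I4 I4 F) (h5 : A ^ 5 = 1) (h1 : A ≠ 1) :
    A.charpoly = cyclotomic 5 F := by
  have hirr := irreducible_cyclotomic_five hF hord
  have hfact : Fact (Nat.Prime 5) := ⟨by norm_num⟩
  have hmd : minpoly F A ∣ cyclotomic 5 F * (X - 1) := by
    rw [Polynomial.cyclotomic_prime_mul_X_sub_one]
    apply minpoly.dvd
    simp [h5]
  rcases hirr.isCoprime_or_dvd (minpoly F A) with hco | hdvd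
  · exfalso
    have h3 : minpoly F A ∣ X - 1 := hco.symm.dvd_of_dvd_mul_left hmd
    obtain ⟨q, hq⟩ := h3
    have h4 := congrArg (Polynomial.aeval A) hq
    rw [map_mul, minpoly.aeval, zero_mul] at h4
    simp at h4
    exact h1 (sub_eq_zero.mp h4)
  · have h3 : cyclotomic 5 F ∣ A.charpoly := hdvd.trans (Matrix.minpoly_dvd_charpoly A)
    apply Polynomial.eq_of_monic_of_dvd_of_natDegree_le (Polynomial.cyclotomic.monic 5 F)
      (Matrix.charpoly_monic A) h3
    rw [Matrix.charpoly_natDegree_eq_dim, Polynomial.natDegree_cyclotomic]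
    simp
    rfl

end Cfsg.Agent.Lib.Helper42_Sp4Charpoly
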