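/-
helper35: S6000 package PKG-R5 (helper42): elements of `SL_4(p)` whose fifth power is scalar,
`ord_5(p) = 4`.
-/
import Mathlib
import Cfsg.Prelude.Def_GeometricClasses
import Cfsg.Agent.Lib.Helper35_SLConj
import Cfsg.Agent.Lib.Helper42_Sp4Charpoly

set_option autoImplicit false
open scoped MatrixGroups
open Matrix Polynomial

namespace Cfsg.Agent.Lib.Helper35_S6000_R5

open Cfsg.Agent.Lib.Helper35_SLConj Cfsg.Agent.Lib.Helper40_SemisimpleGL

/-- the characteristic polynomial of a `4 × 4` matrix of order 5 (index type `Fin 4`) -/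
theorem charpoly_of_order5 {F : Type*} [Field F] [Fintype F] {p : ℕ} [Fact p.Prime]
    (hF : Fintype.card F = p) (hord : orderOf (p : ZMod 5) = 4) (A : Matrix (Fin 4) (Fin 4) F)
    (h5 : A ^ 5 = 1) (h1 : A ≠ 1) : A.charpoly = cyclotomic 5 F := by
  have hirr := Cfsg.Agent.Lib.Helper42_Sp4Charpoly.irreducible_cyclotomic_five hF hord
  have hfact : Fact (Nat.Prime 5) := ⟨by norm_num⟩
  have hmd : minpoly F A ∣ cyclotomic 5 F * (X - 1) := by
    rw [Polynomial.cyclotomic_prime_mul_X_sub_one]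
    apply minpoly.dvd
    simp [h5]
  rcases hirr.isCoprime_or_dvd (minpoly F A) with hco | hdvd
  · exfalso
    have h3 : minpoly F A ∣ X - 1 := hco.symm.dvd_of_dvd_mul_left hmd
    obtain ⟨q, hq⟩ := h3
    have h4 := congrArg (Polynomial.aeval A) hq
    rw [map_mul, minpoly.aeval, zero_mul] at h4
    simp at h4
    exact h1 (sub_eq_zero.mp h4)
  · have h3 : cyclotomic 5 F ∣ A.charpoly := hdvd.trans (Matrix.minpoly_dvd_charpoly A)
    apply Polynomial.eq_of_monic_of_dvd_of_natDegree_le (Polynomial.cyclotomic.monic 5 F)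
      (Matrix.charpoly_monic A) h3
    rw [Matrix.charpoly_natDegree_eq_dim, Polynomial.natDegree_cyclotomic]
    simp
    rfl

/-- matrix of a scalar element of `GL` -/
theorem coe_scalar_eq {F : Type*} [Field F] {n : ℕ} (c : Fˣ) :
    ((Matrix.GeneralLinearGroup.scalar (Fin n) c : GL (Fin n) F) : Matrix (Fin n) (Fin n) F) =
      (c : F) • (1 : Matrix (Fin n) (Fin n) F) := by
  rw [Matrix.GeneralLinearGroup.coe_scalar]
  ext i j
  simp [Matrix.scalar_apply, Matrix.diagonal_apply, Matrix.one_apply]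

/-- General root extraction: if `k` is prime to `|Fˣ|`, `k ≠ 0` in `F`, an element `x` of
determinant one with `x ^ k` scalar is a scalar multiple `μ • x'` with `x' ^ k = 1`,
`det x' = 1`. -/
theorem exists_scalar_root {F : Type*} [Field F] [Finite F] {n : ℕ} (k : ℕ)
    (hcop : (Nat.card Fˣ).Coprime k)
    (x : GL (Fin n) F) (hx : x ∈ Cfsg.Geo.specialLinear (Fin n) F) (z : F)
    (hxz : ((x ^ k : GL (Fin n) F) : Matrix (Fin n) (Fin n) F) =
      z • (1 : Matrix (Fin n) (Fin n) F)) (hn : 0 < n) :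
    ∃ (μ : Fˣ) (x' : GL (Fin n) F), x = Matrix.GeneralLinearGroup.scalar (Fin n) μ * x' ∧
      x' ^ k = 1 ∧ x' ∈ Cfsg.Geo.specialLinear (Fin n) F := by
  have hz : z ≠ 0 := by
    rintro rfl
    have h1 := Matrix.GeneralLinearGroup.det_ne_zero (x ^ k)
    have : Nonempty (Fin n) := ⟨⟨0, hn⟩⟩
    rw [hxz, zero_smul, Matrix.det_zero] at h1
    exact h1 rfl
  set zu : Fˣ := Units.mk0 z hz with hzu
  set μ : Fˣ := (powCoprime hcop).symm zu with hμ
  have hμk : μ ^ k = zu := by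
    have := (powCoprime hcop).apply_symm_apply zu
    rw [powCoprime_apply] at this
    exact this
  set S := Matrix.GeneralLinearGroup.scalar (Fin n) (R := F) with hS
  have hxk : x ^ k = S zu := by
    apply Units.ext
    rw [hxz, coe_scalar_eq, hzu, Units.val_mk0]
  set x' : GL (Fin n) F := S μ⁻¹ * x with hx'
  have hcomm : Commute (S μ⁻¹) x := Matrix.GeneralLinearGroup.scalar_commute _ _
  have hx'k : x' ^ k = 1 := by
    rw [hx', hcomm.mul_pow, hxk, ← map_pow, ← map_mul, inv_pow, hμk, inv_mul_cancel, map_one]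
  have hdetx : Matrix.GeneralLinearGroup.det x = 1 := hx
  have hdet' : Matrix.GeneralLinearGroup.det x' ^ k = 1 := by
    rw [← map_pow, hx'k, map_one]
  have hdet1 : Matrix.GeneralLinearGroup.det x' = 1 := by
    have hinj := (powCoprime hcop).injective
    apply hinj
    simp only [powCoprime, Equiv.coe_fn_mk]
    rw [hdet', one_pow]
  refine ⟨μ, x', ?_, hx'k, hdet1⟩
  rw [hx', ← mul_assoc, ← map_mul, mul_inv_cancel, map_one, one_mul]

theorem five_case_SL {F : Type*} [Field F] [Fintype F] {p : ℕ} [Fact p.Prime] [CharP F p]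
    (hF : Fintype.card F = p) (hord : orderOf (p : ZMod 5) = 4) (N : Subgroup (GL (Fin 4) F))
    (hscal : ∀ g ∈ N, ∀ g' : GL (Fin 4) F, (∃ c : F, (g' : Matrix (Fin 4) (Fin 4) F) =
      c • (g : Matrix (Fin 4) (Fin 4) F)) → g' ∈ N)
    (y : GL (Fin 4) F) (hyN : y ∈ N) (hy5 : y ^ 5 = 1) (hy1 : y ≠ 1)
    (x : GL (Fin 4) F) (hx : x ∈ Cfsg.Geo.specialLinear (Fin 4) F) (z : F)
    (hxz : ((x ^ 5 : GL (Fin 4) F) : Matrix (Fin 4) (Fin 4) F) = z • (1 : Matrix (Fin 4) (Fin 4) F))
    (hns : ∀ c : F, (x : Matrix (Fin 4) (Fin 4) F) ≠ c • (1 : Matrix (Fin 4) (Fin 4) F)) :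
    ∃ g ∈ Cfsg.Geo.specialLinear (Fin 4) F, g⁻¹ * x * g ∈ N := by
  classical
  have hp : p.Prime := Fact.out
  have hp5 : p ≠ 5 := by
    intro h
    have := pow_orderOf_eq_one (p : ZMod 5)
    rw [hord, h] at this
    exact absurd this (by decide)
  have h5F : ((5 : ℕ) : F) ≠ 0 := by
    intro h
    have h1 := (CharP.cast_eq_zero_iff F p 5).mp h
    exact hp5 ((Nat.prime_dvd_prime_iff_eq hp (by norm_num)).mp h1)
  have hcop : (Nat.card Fˣ).Coprime 5 := by
    rw [Nat.card_units, Nat.card_eq_fintype_card, hF, Nat.coprime_comm,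
      Nat.Prime.coprime_iff_not_dvd (by norm_num)]
    intro hdvd
    have h1 : ((p - 1 : ℕ) : ZMod 5) = 0 := (ZMod.natCast_eq_zero_iff _ _).mpr hdvd
    rw [Nat.cast_sub hp.one_le, Nat.cast_one, sub_eq_zero] at h1
    rw [h1, orderOf_one] at hord
    omega
  obtain ⟨μ, x', hxx', hx'5, hx'SL⟩ := exists_scalar_root 5 hcop x hx z hxz (by norm_num)
  -- `y` has determinant one
  have hySL : y ∈ Cfsg.Geo.specialLinear (Fin 4) F := by
    change Matrix.GeneralLinearGroup.det y = 1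
    have h1 : Matrix.GeneralLinearGroup.det y ^ 5 = 1 := by rw [← map_pow, hy5, map_one]
    apply (powCoprime hcop).injective
    simp only [powCoprime, Equiv.coe_fn_mk]
    rw [h1, one_pow]
  have hx'1 : x' ≠ 1 := by
    rintro h
    apply hns (μ : F)
    rw [hxx', h, mul_one, coe_scalar_eq]
  have hmx' : (x' : Matrix (Fin 4) (Fin 4) F) ^ 5 = 1 := by
    have := congrArg Units.val hx'5
    simpa using this
  have hmy : (y : Matrix (Fin 4) (Fin 4) F) ^ 5 = 1 := by
    have := congrArg Units.val hy5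
    simpa using this
  have hmx'1 : (x' : Matrix (Fin 4) (Fin 4) F) ≠ 1 := fun h => hx'1 (Units.ext h)
  have hmy1 : (y : Matrix (Fin 4) (Fin 4) F) ≠ 1 := fun h => hy1 (Units.ext h)
  have hc : (x' : Matrix (Fin 4) (Fin 4) F).charpoly = (y : Matrix (Fin 4) (Fin 4) F).charpoly := by
    rw [charpoly_of_order5 hF hord _ hmx' hmx'1, charpoly_of_order5 hF hord _ hmy hmy1]
  obtain ⟨g, hg, hgc⟩ := exists_sl_conj x' y hx'SL hySL
    (isSS_of_pow_eq_one _ 5 h5F hmx') (isSS_of_pow_eq_one _ 5 h5F hmy) hc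
  refine ⟨g, hg, ?_⟩
  have hcomm : Commute (Matrix.GeneralLinearGroup.scalar (Fin 4) μ) g⁻¹ :=
    Matrix.GeneralLinearGroup.scalar_commute _ _
  have h1 : g⁻¹ * x * g = Matrix.GeneralLinearGroup.scalar (Fin 4) μ * y := by
    rw [hxx', ← hgc, ← mul_assoc g⁻¹, ← hcomm.eq]
    simp only [mul_assoc]
  rw [h1]
  apply hscal y hyN
  refine ⟨(μ : F), ?_⟩
  rw [Units.val_mul, coe_scalar_eq, Matrix.smul_mul, Matrix.one_mul]

end Cfsg.Agent.Lib.Helper35_S6000_R5
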