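/-
helper35: S6000 package PKG-R2 (helper42): elements of `SL_4(F)` with scalar square.
-/
import Mathlib
import Cfsg.Prelude.Def_GeometricClasses
import Cfsg.Agent.Lib.Helper35_SLConj
import Cfsg.Agent.Lib.Helper35_S6000_R5
import Cfsg.Agent.Lib.Helper40_PGLInvol
import Cfsg.Agent.Lib.Helper43_SubfieldSL2
import Cfsg.Agent.Lib.Helper43_GSpConj

set_option autoImplicit false
set_option linter.unreachableTactic false
set_option linter.unusedTactic false
open scoped MatrixGroups
open Matrix

namespace Cfsg.Agent.Lib.Helper35_S6000_R2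

open Cfsg.Agent.Lib.Helper35_SLConj Cfsg.Agent.Lib.Helper40_SemisimpleGL
open Cfsg.Agent.Lib.Helper40_PGLInvol

universe v
variable {F : Type v} [Field F]

/-- the standard diagonal matrix `diag(l, …, l, -l, …, -l)` with `m` entries `l` -/
def diagM (l : F) (m : ℕ) : Matrix (Fin 4) (Fin 4) F :=
  Matrix.diagonal (fun i => if (i : ℕ) < m then l else -l)

theorem diagM_sq (l : F) (m : ℕ) :
    diagM l m * diagM l m = (l * l) • (1 : Matrix (Fin 4) (Fin 4) F) := by
  unfold diagM
  rw [Matrix.diagonal_mul_diagonal, ← Matrix.diagonal_one, ← Matrix.diagonal_smul]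
  congr 1
  funext i
  by_cases h : (i : ℕ) < m <;> simp [h]

theorem eigDim_diagM (l : F) (hl : l ≠ 0) (h2 : (2 : F) ≠ 0) (m : ℕ) (hm : m ≤ 4) :
    eigDim (diagM l m) l = m := by
  classical
  unfold eigDim diagM
  have h1 : Matrix.diagonal (fun i : Fin 4 => if (i : ℕ) < m then l else -l) -
      l • (1 : Matrix (Fin 4) (Fin 4) F) =
      Matrix.diagonal (fun i : Fin 4 => if (i : ℕ) < m then 0 else -(2 * l)) := by
    rw [← Matrix.diagonal_one, ← Matrix.diagonal_smul, Matrix.diagonal_sub]
    congr 1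
    funext i
    by_cases h : (i : ℕ) < m
    · simp [h]
    · simp [h]; ring
  rw [h1, Matrix.rank_diagonal, Fintype.card_subtype]
  have h2l : -(2 * l) ≠ 0 := neg_ne_zero.mpr (mul_ne_zero h2 hl)
  have h3 : (Finset.univ.filter fun i : Fin 4 =>
      (if (i : ℕ) < m then (0 : F) else -(2 * l)) ≠ 0) =
      Finset.univ.filter fun i : Fin 4 => ¬ (i : ℕ) < m := by
    ext i
    simp only [Finset.mem_filter, Finset.mem_univ, true_and]
    by_cases h : (i : ℕ) < m
    · simp [h]
    · simp [h, h2l]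
  rw [h3, Finset.filter_not, Finset.card_sdiff_of_subset (Finset.filter_subset _ _),
    Fin.card_filter_val_lt, Finset.card_univ, Fintype.card_fin, min_eq_right hm]
  omega

theorem trace_diagM (l : F) (m : ℕ) (hm : m ≤ 4) :
    (diagM l m).trace = (m : F) * l - ((4 - m : ℕ) : F) * l := by
  unfold diagM
  rw [Matrix.trace_diagonal, Fin.sum_univ_four]
  interval_cases m
  all_goals norm_num
  all_goals ring

theorem det_diagM (l : F) (m : ℕ) (hm : m ≤ 4) :
    (diagM l m).det = l ^ m * (-l) ^ (4 - m) := by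
  unfold diagM
  rw [Matrix.det_diagonal, Fin.prod_univ_four]
  interval_cases m
  all_goals simp only [Fin.val_zero, Fin.val_one, Fin.val_two, Fin.isValue]
  all_goals norm_num
  all_goals first | ring1 | (left; ring1)

/-- All numerical invariants of a `4 × 4` matrix with square `l ^ 2`. -/
theorem sq_facts (A : Matrix (Fin 4) (Fin 4) F) (l : F) (hl : l ≠ 0) (h2 : (2 : F) ≠ 0)
    (hA : A * A = (l * l) • (1 : Matrix (Fin 4) (Fin 4) F)) :
    ∃ m, m ≤ 4 ∧ eigDim A l = m ∧ eigDim A (-l) = 4 - m ∧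
      A.trace = (m : F) * l - ((4 - m : ℕ) : F) * l ∧ A.det = l ^ m * (-l) ^ (4 - m) := by
  have hm : eigDim A l ≤ 4 := by unfold eigDim; omega
  set m := eigDim A l with hmdef
  have hadd := eigDim_add A l hl h2 hA
  have hneg : eigDim A (-l) = 4 - m := by omega
  have hD := diagM_sq l m
  have hDl := eigDim_diagM l hl h2 m hm
  have hDadd := eigDim_add (diagM l m) l hl h2 hD
  have hDneg : eigDim (diagM l m) (-l) = 4 - m := by omega
  obtain ⟨P, hP⟩ := exists_GL_conj_of_eigDim A (diagM l m) l hl h2 hA hD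
    (by rw [hDl]) (by rw [hDneg, hneg])
  have hconj : (P : Matrix (Fin 4) (Fin 4) F) * A * ((P⁻¹ : GL (Fin 4) F) : Matrix (Fin 4) (Fin 4) F)
      = diagM l m := by
    rw [hP, Matrix.mul_assoc]
    have : (P : Matrix (Fin 4) (Fin 4) F) * ((P⁻¹ : GL (Fin 4) F) : Matrix (Fin 4) (Fin 4) F) = 1 := by
      rw [← Units.val_mul, mul_inv_cancel, Units.val_one]
    rw [this, Matrix.mul_one]
  refine ⟨m, hm, rfl, hneg, ?_, ?_⟩
  · rw [← trace_diagM l m hm, ← hconj]
    exact (Matrix.trace_units_conj P A).symm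
  · rw [← det_diagM l m hm, ← hconj]
    exact (Matrix.det_units_conj P A).symm

/-- equality of characteristic polynomials from equal eigenspace dimensions -/
theorem charpoly_eq_of_eigDim (A B : Matrix (Fin 4) (Fin 4) F) (l : F) (hl : l ≠ 0)
    (h2 : (2 : F) ≠ 0) (hA : A * A = (l * l) • (1 : Matrix (Fin 4) (Fin 4) F))
    (hB : B * B = (l * l) • (1 : Matrix (Fin 4) (Fin 4) F)) (hp : eigDim A l = eigDim B l) :
    A.charpoly = B.charpoly := by
  have h1 := eigDim_add A l hl h2 hA
  have h3 := eigDim_add B l hl h2 hB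
  have hm : eigDim A (-l) = eigDim B (-l) := by
    rw [hp] at h1
    exact Nat.add_left_cancel (h1.trans h3.symm)
  obtain ⟨P, hP⟩ := exists_GL_conj_of_eigDim A B l hl h2 hA hB hp hm
  have hconj : (P : Matrix (Fin 4) (Fin 4) F) * A * ((P⁻¹ : GL (Fin 4) F) : Matrix (Fin 4) (Fin 4) F)
      = B := by
    rw [hP, Matrix.mul_assoc]
    have : (P : Matrix (Fin 4) (Fin 4) F) * ((P⁻¹ : GL (Fin 4) F) : Matrix (Fin 4) (Fin 4) F) = 1 := by
      rw [← Units.val_mul, mul_inv_cancel, Units.val_one]
    rw [this, Matrix.mul_one]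
  rw [← hconj, Matrix.coe_units_inv, Matrix.charpoly_units_conj]

/-- the scalar multiple `c • w` of an element of `GL` -/
noncomputable def smulGL {n : ℕ} (c : F) (hc : c ≠ 0) (w : GL (Fin n) F) : GL (Fin n) F :=
  Matrix.GeneralLinearGroup.scalar (Fin n) (Units.mk0 c hc) * w

theorem coe_smulGL {n : ℕ} (c : F) (hc : c ≠ 0) (w : GL (Fin n) F) :
    ((smulGL c hc w : GL (Fin n) F) : Matrix (Fin n) (Fin n) F) =
      c • (w : Matrix (Fin n) (Fin n) F) := by
  unfold smulGL
  rw [Units.val_mul, Cfsg.Agent.Lib.Helper35_S6000_R5.coe_scalar_eq, Units.val_mk0,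
    Matrix.smul_mul, Matrix.one_mul]

theorem neg_one_ne_one (h2 : (2 : F) ≠ 0) : (-1 : F) ≠ 1 := by
  intro h
  apply h2
  have : (2 : F) = 1 - (-1) := by ring
  rw [this, h, sub_self]

theorem two_case_SL {F : Type*} [Field F] [Fintype F] (p : ℕ) [Fact p.Prime] [CharP F p]
    (h2 : (2 : F) ≠ 0) (N : Subgroup (GL (Fin 4) F))
    (hscal : ∀ g ∈ N, ∀ g' : GL (Fin 4) F, (∃ c : F, (g' : Matrix (Fin 4) (Fin 4) F) =
      c • (g : Matrix (Fin 4) (Fin 4) F)) → g' ∈ N)
    (ι : F) (hι : ι * ι = -1)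
    (u : GL (Fin 4) F) (huN : u ∈ N)
    (hu2 : (u : Matrix (Fin 4) (Fin 4) F) * (u : Matrix (Fin 4) (Fin 4) F) = 1)
    (hutr : Matrix.trace (u : Matrix (Fin 4) (Fin 4) F) = 0)
    (s : GL (Fin 4) F) (hsN : s ∈ N)
    (hs2 : (s : Matrix (Fin 4) (Fin 4) F) * (s : Matrix (Fin 4) (Fin 4) F) = 1)
    (hstr : Matrix.trace (s : Matrix (Fin 4) (Fin 4) F) = 2)
    (hsns : ∀ c : F, (s : Matrix (Fin 4) (Fin 4) F) ≠ c • (1 : Matrix (Fin 4) (Fin 4) F))
    (x : GL (Fin 4) F) (hx : x ∈ Cfsg.Geo.specialLinear (Fin 4) F) (z : F)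
    (hxz : ((x ^ 2 : GL (Fin 4) F) : Matrix (Fin 4) (Fin 4) F) = z • (1 : Matrix (Fin 4) (Fin 4) F))
    (hns : ∀ c : F, (x : Matrix (Fin 4) (Fin 4) F) ≠ c • (1 : Matrix (Fin 4) (Fin 4) F)) :
    ∃ g ∈ Cfsg.Geo.specialLinear (Fin 4) F, g⁻¹ * x * g ∈ N := by
  classical
  have hm11 : (-1 : F) ≠ 1 := neg_one_ne_one h2
  set A : Matrix (Fin 4) (Fin 4) F := (x : Matrix (Fin 4) (Fin 4) F) with hAdef
  have hAA : A * A = z • (1 : Matrix (Fin 4) (Fin 4) F) := by
    rw [← hxz, pow_two, Units.val_mul]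
  have hdetA : A.det = 1 := det_eq_one_of_mem hx
  have hz4 : z ^ 4 = 1 := by
    have h := congrArg Matrix.det hAA
    rw [Matrix.det_mul, hdetA, Matrix.det_smul, Matrix.det_one, Fintype.card_fin] at h
    simpa using h.symm
  have hz0 : z ≠ 0 := by
    rintro rfl
    simp at hz4
  -- the key step
  have key : ∀ (w : GL (Fin 4) F) (l : F), w ∈ N → l ≠ 0 → z = l * l →
      (w : Matrix (Fin 4) (Fin 4) F) * (w : Matrix (Fin 4) (Fin 4) F) =
        z • (1 : Matrix (Fin 4) (Fin 4) F) →
      (w : Matrix (Fin 4) (Fin 4) F).det = 1 →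
      eigDim A l = eigDim (w : Matrix (Fin 4) (Fin 4) F) l →
      ∃ g ∈ Cfsg.Geo.specialLinear (Fin 4) F, g⁻¹ * x * g ∈ N := by
    intro w l hwN hl hzl hww hdetw hdim
    have hc : A.charpoly = (w : Matrix (Fin 4) (Fin 4) F).charpoly :=
      charpoly_eq_of_eigDim A _ l hl h2 (by rw [hAA, hzl]) (by rw [hww, hzl]) hdim
    have hsA : IsSS A := Cfsg.Agent.Lib.Helper43_GSpConj.isSemisimple_of_sq h2 A z hz0 hAA
    have hsw : IsSS (w : Matrix (Fin 4) (Fin 4) F) :=
      Cfsg.Agent.Lib.Helper43_GSpConj.isSemisimple_of_sq h2 _ z hz0 hww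
    obtain ⟨g, hg, hgc⟩ := exists_sl_conj x w hx (mem_of_det_eq_one hdetw) hsA hsw hc
    exact ⟨g, hg, by rw [hgc]; exact hwN⟩
  -- invariants of `u` and `s`
  set U : Matrix (Fin 4) (Fin 4) F := (u : Matrix (Fin 4) (Fin 4) F) with hUdef
  set S : Matrix (Fin 4) (Fin 4) F := (s : Matrix (Fin 4) (Fin 4) F) with hSdef
  have h4 : (4 : F) ≠ 0 := by
    have : (4 : F) = 2 * 2 := by norm_num
    rw [this]; exact mul_ne_zero h2 h2
  have hU1 : U * U = ((1 : F) * 1) • (1 : Matrix (Fin 4) (Fin 4) F) := by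
    rw [hu2, mul_one, one_smul]
  have hS1 : S * S = ((1 : F) * 1) • (1 : Matrix (Fin 4) (Fin 4) F) := by
    rw [hs2, mul_one, one_smul]
  -- `u` has eigenspace dimensions (2, 2) and determinant one
  have huF : eigDim U 1 = 2 ∧ U.det = 1 := by
    obtain ⟨m, hm4, hm1, hm2, htr, hdet⟩ := sq_facts U 1 one_ne_zero h2 hU1
    rw [hutr] at htr
    interval_cases m
    · exfalso; apply h4; norm_num at htr; first | exact htr | exact htr.symm | linear_combination htr | linear_combination -htr
    · exfalso; apply h2; norm_num at htr; first | exact htr | exact htr.symm | linear_combination htr | linear_combination -htr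
    · exact ⟨hm1, by rw [hdet]; norm_num⟩
    · exfalso; apply h2; norm_num at htr; first | exact htr | exact htr.symm | linear_combination htr | linear_combination -htr
    · exfalso; apply h4; norm_num at htr; first | exact htr | exact htr.symm | linear_combination htr | linear_combination -htr
  -- `s` has eigenspace dimensions (3, 1) and determinant `-1`
  have hsF : eigDim S 1 = 3 ∧ eigDim S (-1) = 1 ∧ S.det = -1 := by
    obtain ⟨m, hm4, hm1, hm2, htr, hdet⟩ := sq_facts S 1 one_ne_zero h2 hS1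
    rw [hstr] at htr
    interval_cases m
    · exfalso
      apply hsns (-1)
      exact eq_smul_one_of_eigDim S (-1) (by rw [hm2])
    · exfalso; apply h4; norm_num at htr; first | exact htr | exact htr.symm | linear_combination htr | linear_combination -htr
    · exfalso; apply h2; norm_num at htr; first | exact htr | exact htr.symm | linear_combination htr | linear_combination -htr
    · exact ⟨hm1, by rw [hm2], by rw [hdet]; norm_num⟩
    · exfalso; apply h2; norm_num at htr; first | exact htr | exact htr.symm | linear_combination htr | linear_combination -htr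
  -- the two main cases
  have hcases : z * z = 1 ∨ z * z = -1 := by
    have : (z * z - 1) * (z * z + 1) = 0 := by linear_combination hz4
    rcases mul_eq_zero.mp this with h | h
    · left; exact sub_eq_zero.mp h
    · right; exact eq_neg_of_add_eq_zero_left h
  rcases hcases with hzz | hzz
  · -- `z = 1` or `z = -1`
    have hz1 : z = 1 ∨ z = -1 := by
      have : (z - 1) * (z + 1) = 0 := by linear_combination hzz
      rcases mul_eq_zero.mp this with h | h
      · left; exact sub_eq_zero.mp h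
      · right; exact eq_neg_of_add_eq_zero_left h
    rcases hz1 with rfl | rfl
    · -- `z = 1`: `x ~ u`
      have hA1 : A * A = ((1 : F) * 1) • (1 : Matrix (Fin 4) (Fin 4) F) := by
        rw [hAA, mul_one]
      obtain ⟨m, hm4, hm1, hm2, htr, hdet⟩ := sq_facts A 1 one_ne_zero h2 hA1
      rw [hdetA] at hdet
      have hm : m = 2 := by
        interval_cases m
        · exfalso
          apply hns (-1)
          exact eq_smul_one_of_eigDim A (-1) (by rw [hm2])
        · exfalso; apply hm11; norm_num at hdet; exact hdet.symm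
        · rfl
        · exfalso; apply hm11; norm_num at hdet; exact hdet.symm
        · exfalso
          apply hns 1
          exact eq_smul_one_of_eigDim A 1 (by rw [hm1])
      subst hm
      refine key u 1 huN one_ne_zero (by ring) (by rw [hu2, one_smul]) huF.2 ?_
      rw [hm1, huF.1]
    · -- `z = -1`: `x ~ ι • u`
      have hι0 : ι ≠ 0 := by
        rintro rfl
        simp at hι
      have hι4 : ι ^ 4 = 1 := by
        have : ι ^ 4 = (ι * ι) * (ι * ι) := by ring
        rw [this, hι]; ring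
      have hA1 : A * A = (ι * ι) • (1 : Matrix (Fin 4) (Fin 4) F) := by
        rw [hAA, hι]
      obtain ⟨m, hm4, hm1, hm2, htr, hdet⟩ := sq_facts A ι hι0 h2 hA1
      rw [hdetA] at hdet
      have hm : m = 2 := by
        interval_cases m
        · exfalso
          apply hns (-ι)
          exact eq_smul_one_of_eigDim A (-ι) (by rw [hm2])
        · exfalso; apply hm11
          have : ι ^ 1 * (-ι) ^ (4 - 1) = -(ι ^ 4) := by ring
          rw [this, hι4] at hdet; exact hdet.symm
        · rfl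
        · exfalso; apply hm11
          have : ι ^ 3 * (-ι) ^ (4 - 3) = -(ι ^ 4) := by ring
          rw [this, hι4] at hdet; exact hdet.symm
        · exfalso
          apply hns ι
          exact eq_smul_one_of_eigDim A ι (by rw [hm1])
      subst hm
      refine key (smulGL ι hι0 u) ι ?_ hι0 hι.symm ?_ ?_ ?_
      · exact hscal u huN _ ⟨ι, coe_smulGL ι hι0 u⟩
      · rw [coe_smulGL, Matrix.smul_mul, Matrix.mul_smul, smul_smul, hu2, hι]
      · rw [coe_smulGL, Matrix.det_smul, Fintype.card_fin, hι4, one_mul, huF.2]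
      · rw [hm1, coe_smulGL]
        have := eigDim_smul U ι 1 hι0
        rw [mul_one] at this
        rw [this, huF.1]
  · -- `z * z = -1`
    by_cases hsq : IsSquare z
    · obtain ⟨ζ, hζ⟩ := hsq
      have hζ0 : ζ ≠ 0 := by
        rintro rfl
        apply hz0; rw [hζ]; ring
      have hζ4 : ζ ^ 4 = -1 := by
        have : ζ ^ 4 = (ζ * ζ) * (ζ * ζ) := by ring
        rw [this, ← hζ, hzz]
      have hA1 : A * A = (ζ * ζ) • (1 : Matrix (Fin 4) (Fin 4) F) := by
        rw [hAA, hζ]
      obtain ⟨m, hm4, hm1, hm2, htr, hdet⟩ := sq_facts A ζ hζ0 h2 hA1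
      rw [hdetA] at hdet
      have hm : m = 1 ∨ m = 3 := by
        interval_cases m
        · exfalso; apply hm11
          have : ζ ^ 0 * (-ζ) ^ (4 - 0) = ζ ^ 4 := by ring
          rw [this, hζ4] at hdet; exact hdet.symm
        · left; rfl
        · exfalso; apply hm11
          have : ζ ^ 2 * (-ζ) ^ (4 - 2) = ζ ^ 4 := by ring
          rw [this, hζ4] at hdet; exact hdet.symm
        · right; rfl
        · exfalso; apply hm11
          have : ζ ^ 4 * (-ζ) ^ (4 - 4) = ζ ^ 4 := by ring
          rw [this, hζ4] at hdet; exact hdet.symm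
      rcases hm with rfl | rfl
      · -- `m = 1`: `x ~ (-ζ) • s`
        have hnζ0 : -ζ ≠ 0 := neg_ne_zero.mpr hζ0
        refine key (smulGL (-ζ) hnζ0 s) ζ ?_ hζ0 hζ ?_ ?_ ?_
        · exact hscal s hsN _ ⟨-ζ, coe_smulGL (-ζ) hnζ0 s⟩
        · rw [coe_smulGL, Matrix.smul_mul, Matrix.mul_smul, smul_smul, hs2, hζ]
          congr 1; ring
        · rw [coe_smulGL, Matrix.det_smul, Fintype.card_fin, hsF.2.2]
          have : (-ζ) ^ 4 = ζ ^ 4 := by ring
          rw [this, hζ4]; ring
        · rw [hm1, coe_smulGL]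
          have := eigDim_smul S (-ζ) (-1) hnζ0
          rw [show -ζ * -1 = ζ by ring] at this
          rw [this, hsF.2.1]
      · -- `m = 3`: `x ~ ζ • s`
        refine key (smulGL ζ hζ0 s) ζ ?_ hζ0 hζ ?_ ?_ ?_
        · exact hscal s hsN _ ⟨ζ, coe_smulGL ζ hζ0 s⟩
        · rw [coe_smulGL, Matrix.smul_mul, Matrix.mul_smul, smul_smul, hs2, hζ]
        · rw [coe_smulGL, Matrix.det_smul, Fintype.card_fin, hsF.2.2, hζ4]; ring
        · rw [hm1, coe_smulGL]
          have := eigDim_smul S ζ 1 hζ0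
          rw [mul_one] at this
          rw [this, hsF.1]
    · -- `z` a non-square: impossible
      exfalso
      obtain ⟨j, hj, hdet⟩ := Cfsg.Agent.Lib.Helper43_SubfieldSL2.det_of_sq_nonsquare A z hAA hsq
      have hj2 : j = 2 := by omega
      subst hj2
      rw [hdetA] at hdet
      apply hm11
      have : (-z) ^ 2 = z * z := by ring
      rw [this, hzz] at hdet
      exact hdet.symm

end Cfsg.Agent.Lib.Helper35_S6000_R2
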