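import Mathlib
import Cfsg.Agent.Lib.Helper40_UCases

set_option autoImplicit false

/-!
The centralizer of a semisimple isometry of a hermitian space surjects onto the norm-one
elements under the determinant.
-/


namespace Cfsg.Agent.Lib.Helper40_UDet

open Polynomial Module Cfsg.Agent.Lib.Helper40_Semisimple Cfsg.Agent.Lib.Helper40_SpBasic
  Cfsg.Agent.Lib.Helper40_SpCyclic Cfsg.Agent.Lib.Helper40_SpMatch Cfsg.Agent.Lib.Helper40_UBasic
  Cfsg.Agent.Lib.Helper40_UCyclic Cfsg.Agent.Lib.Helper40_UMatch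
  Cfsg.Agent.Lib.Helper40_UHyperbolic Cfsg.Agent.Lib.Helper40_UCases

variable {K : Type*} [Field K] {σ : K →+* K}

section Involution

/-- the involution of `K[X]/(f)` for a self-dual `f` dividing `X ^ N - 1` -/
theorem exists_involution (hinv : ∀ c, σ (σ c) = c) (N : ℕ) (hN : 0 < N) (f : K[X])
    [Fact (Irreducible f)] (hdvd : f ∣ pstar σ N f) (hdvdN : f ∣ X ^ N - 1) :
    ∃ σL : AdjoinRoot f →+* AdjoinRoot f,
      (∀ p : K[X], σL (AdjoinRoot.mk f p) = AdjoinRoot.mk f (pstar σ N p)) ∧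
      (∀ x, σL (σL x) = x) ∧ ∀ c : K, σL (AdjoinRoot.of f c) = AdjoinRoot.of f (σ c) := by
  set ρ : AdjoinRoot f := AdjoinRoot.root f with hρ
  have hρN : ρ ^ N = 1 := by
    have := AdjoinRoot.mk_eq_zero.2 hdvdN
    rw [map_sub, map_pow, AdjoinRoot.mk_X, map_one] at this
    exact sub_eq_zero.1 this
  have hρ0 : ρ ≠ 0 := by
    intro h0
    rw [h0, zero_pow hN.ne'] at hρN
    exact zero_ne_one hρN
  have hρinv : ρ ^ (N - 1) = ρ⁻¹ := by
    apply eq_inv_of_mul_eq_one_left
    rw [← pow_succ, Nat.sub_add_cancel hN, hρN]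
  have hev : ∀ p : K[X], eval₂ ((algebraMap K (AdjoinRoot f)).comp σ) (ρ ^ (N - 1)) p =
      AdjoinRoot.mk f (pstar σ N p) := by
    intro p
    rw [← Polynomial.eval₂_map, ← aeval_def, pstar, ← AdjoinRoot.aeval_eq, expand_aeval]
  have hσ0 : eval₂ ((algebraMap K (AdjoinRoot f)).comp σ) (ρ ^ (N - 1)) f = 0 := by
    rw [hev]
    exact AdjoinRoot.mk_eq_zero.2 hdvd
  let σL : AdjoinRoot f →+* AdjoinRoot f :=
    AdjoinRoot.lift ((algebraMap K (AdjoinRoot f)).comp σ) (ρ ^ (N - 1)) hσ0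
  have hσmk : ∀ p : K[X], σL (AdjoinRoot.mk f p) = AdjoinRoot.mk f (pstar σ N p) := by
    intro p
    rw [← hev]
    exact AdjoinRoot.lift_mk hσ0 p
  have hσρ : σL ρ = ρ⁻¹ := by
    rw [← hρinv]
    exact AdjoinRoot.lift_root hσ0
  have hσof : ∀ c : K, σL (AdjoinRoot.of f c) = AdjoinRoot.of f (σ c) := by
    intro c
    exact AdjoinRoot.lift_of hσ0
  refine ⟨σL, hσmk, ?_, hσof⟩
  intro x
  induction x using AdjoinRoot.induction_on with
  | ih p =>
    induction p using Polynomial.induction_on' with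
    | add p q hp hq => rw [map_add, map_add, map_add, hp, hq]
    | monomial n c =>
      rw [← C_mul_X_pow_eq_monomial, map_mul, map_pow, AdjoinRoot.mk_X, AdjoinRoot.mk_C,
        map_mul, map_mul, map_pow, map_pow, hσof, hσof, hinv, hσρ, map_inv₀, hσρ, inv_inv]

/-- the norm commutes with the involutions -/
theorem norm_sigma [Finite K] (f : K[X]) (hfm : f.Monic) [Fact (Irreducible f)]
    (σL : AdjoinRoot f →+* AdjoinRoot f)
    (hσof : ∀ c : K, σL (AdjoinRoot.of f c) = AdjoinRoot.of f (σ c)) (x : AdjoinRoot f) :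
    Algebra.norm K (σL x) = σ (Algebra.norm K x) := by
  have : Module.Finite K (AdjoinRoot f) := hfm.finite_adjoinRoot
  have : Finite (AdjoinRoot f) := Module.finite_of_finite K
  apply (algebraMap K (AdjoinRoot f)).injective
  rw [FiniteField.algebraMap_norm_eq_pow]
  have h1 : algebraMap K (AdjoinRoot f) (σ (Algebra.norm K x)) =
      σL (algebraMap K (AdjoinRoot f) (Algebra.norm K x)) := (hσof _).symm
  rw [h1, FiniteField.algebraMap_norm_eq_pow, map_pow]

end Involution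

section Extend

variable {V : Type*} [AddCommGroup V] [Module K V] {B : V →ₗ[K] V →ₛₗ[σ] K}
  {a : Module.End K V} {N : ℕ} [Finite K] [FiniteDimensional K V]

/-- an isometry of a nondegenerate invariant subspace commuting with `a` extends by the identity -/
theorem extend_isometry (h : UData B a N) {Z : Submodule K V} (hZ : Inv a Z) (hnd : UNDOn B Z)
    (t : Module.End K Z) (ht_iso : ∀ x y : Z, B (t x : V) (t y : V) = B (x : V) (y : V))
    (ht_comm : ∀ x : Z, t ((a.restrict hZ) x) = (a.restrict hZ) (t x)) :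
    ∃ z : Module.End K V, (∀ x y, B (z x) (z y) = B x y) ∧ (∀ x, z (a x) = a (z x)) ∧
      LinearMap.det z = LinearMap.det t := by
  set C := orth B Z with hCdef
  have hC : Inv a C := h.inv_orth hZ
  have hcompl : IsCompl Z C := isCompl_orth h hnd
  let E := Submodule.prodEquivOfIsCompl Z C hcompl
  have hE : ∀ s : Z × C, E s = (s.1 : V) + (s.2 : V) :=
    fun s => Submodule.coe_prodEquivOfIsCompl' Z C hcompl s
  let z : Module.End K V := (E : (Z × C) →ₗ[K] V) ∘ₗ (t.prodMap LinearMap.id) ∘ₗ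
    (E.symm : V →ₗ[K] (Z × C))
  have hz : ∀ s : Z × C, z (E s) = ((t s.1 : Z) : V) + (s.2 : V) := by
    intro s
    have h1 : z (E s) = E ((t.prodMap LinearMap.id) (E.symm (E s))) := rfl
    rw [h1, LinearEquiv.symm_apply_apply, hE]
    rfl
  refine ⟨z, ?_, ?_, ?_⟩
  · intro x y
    obtain ⟨s, rfl⟩ := E.surjective x
    obtain ⟨r, rfl⟩ := E.surjective y
    rw [hz, hz, hE, hE]
    simp only [map_add, LinearMap.add_apply]
    have h1 : B ((t s.1 : Z) : V) (r.2 : V) = 0 := r.2.2 _ (t s.1).2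
    have h2 : B (s.2 : V) ((t r.1 : Z) : V) = 0 := h.eq_zero (s.2.2 _ (t r.1).2)
    have h3 : B (s.1 : V) (r.2 : V) = 0 := r.2.2 _ s.1.2
    have h4 : B (s.2 : V) (r.1 : V) = 0 := h.eq_zero (s.2.2 _ r.1.2)
    rw [h1, h2, h3, h4, ht_iso]
  · intro x
    obtain ⟨s, rfl⟩ := E.surjective x
    have haE : a (E s) = E ((a.restrict hZ) s.1, (a.restrict hC) s.2) := by
      rw [hE, hE, map_add]
      rfl
    rw [haE, hz, hz, map_add, ht_comm]
    rfl
  · rw [LinearMap.det_conj, LinearMap.det_prodMap, LinearMap.det_id, mul_one]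

end Extend

section Adjoint

variable {V : Type*} [AddCommGroup V] [Module K V] {B : V →ₗ[K] V →ₛₗ[σ] K}
  {a : Module.End K V} {N : ℕ} [Finite K] [FiniteDimensional K V]

/-- the determinant of the adjoint with respect to a perfect sesquilinear pairing -/
theorem det_adjoint (h : UData B a N) (hB : UND B) {Z₀ Z₁ : Submodule K V}
    (hp : UHypPair B a Z₀ Z₁) (T : Module.End K Z₀) (S : Module.End K Z₁)
    (hTS : ∀ (x : Z₀) (y : Z₁), B (T x : V) (y : V) = B (x : V) (S y : V)) :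
    LinearMap.det S = σ (LinearMap.det T) := by
  classical
  let b₀ := Module.finBasis K Z₀
  have hrep : ∀ j, ∃ y : Z₁, ∀ z0 : Z₀, B (z0 : V) (y : V) = b₀.coord j z0 :=
    fun j => hp.exists_pairing_rep h hB (b₀.coord j)
  choose y hy using hrep
  have hdelta : ∀ i j, B (b₀ i : V) (y j : V) = if j = i then 1 else 0 := by
    intro i j
    rw [hy, Module.Basis.coord_apply, Module.Basis.repr_self, Finsupp.single_apply]
    simp only [eq_comm]
  have hpair : ∀ (i : Fin (finrank K Z₀)) (c : Fin (finrank K Z₀) → K),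
      B (b₀ i : V) ((∑ j, c j • y j : Z₁) : V) = σ (c i) := by
    intro i c
    rw [Submodule.coe_sum, map_sum]
    simp only [Submodule.coe_smul, map_smulₛₗ, hdelta, smul_eq_mul, mul_ite, mul_one, mul_zero]
    rw [Finset.sum_ite_eq' Finset.univ i]
    simp
  have hli : LinearIndependent K y := by
    rw [Fintype.linearIndependent_iff]
    intro c hc i
    have := hpair i c
    rw [hc, Submodule.coe_zero, map_zero] at this
    have h2 := congrArg σ this
    rw [h.invol, map_zero] at h2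
    exact h2.symm
  have hcard : Fintype.card (Fin (finrank K Z₀)) = finrank K Z₁ := by
    rw [Fintype.card_fin, hp.finrank_eq h hB]
  let b₁ := basisOfLinearIndependentOfCardEqFinrank' y hli hcard
  have hb₁ : ∀ j, b₁ j = y j := fun j => by
    simp [b₁]
  have hM : ∀ i j, LinearMap.toMatrix b₁ b₁ S i j = σ (LinearMap.toMatrix b₀ b₀ T j i) := by
    intro i j
    have h1 : S (y j) = ∑ k, (LinearMap.toMatrix b₁ b₁ S k j) • y k := by
      have := b₁.sum_repr (S (b₁ j))
      simp only [hb₁] at this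
      rw [← this]
      apply Finset.sum_congr rfl
      intro k _
      rw [LinearMap.toMatrix_apply, hb₁]
    have h2 : B (b₀ i : V) (S (y j) : V) = σ (LinearMap.toMatrix b₁ b₁ S i j) := by
      rw [h1]
      exact hpair i _
    have h3 : B (T (b₀ i) : V) (y j : V) = LinearMap.toMatrix b₀ b₀ T j i := by
      rw [hy, LinearMap.toMatrix_apply, Module.Basis.coord_apply]
    rw [← h3, hTS, h2, h.invol]
  rw [← LinearMap.det_toMatrix b₁, ← LinearMap.det_toMatrix b₀, ← Matrix.det_transpose,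
    RingHom.map_det]
  congr 1
  ext i j
  rw [Matrix.transpose_apply, RingHom.mapMatrix_apply, Matrix.map_apply, hM]

end Adjoint

section NormElts

/-- Hilbert 90 for the involution -/
theorem hilbert90 (hinv : ∀ c, σ (σ c) = c) (hσne : ∃ θ, σ θ ≠ θ) (μ : K)
    (hμ : μ * σ μ = 1) : ∃ y : K, y ≠ 0 ∧ y = μ * σ y := by
  by_cases h1 : μ = -1
  · obtain ⟨θ, hθ⟩ := hσne
    refine ⟨θ - σ θ, fun h => hθ (sub_eq_zero.1 h).symm, ?_⟩
    rw [h1, map_sub, hinv]
    ring
  · refine ⟨1 + μ, fun h => h1 (by linear_combination h), ?_⟩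
    rw [map_add, map_one, mul_add, hμ]
    ring

/-- the determinant of a polynomial in `a` on an irreducible cyclic subspace is the norm -/
theorem det_aeval_cyc {V : Type*} [AddCommGroup V] [Module K V] (a : Module.End K V) (v : V)
    (hv0 : v ≠ 0) (f : K[X]) [Fact (Irreducible f)] (hfv : aeval a f v = 0) (l : K[X])
    (hl : ∀ x ∈ cyc a v, aeval a l x ∈ cyc a v) :
    LinearMap.det ((aeval a l).restrict hl) = Algebra.norm K (AdjoinRoot.mk f l) := by
  obtain ⟨θ, hθ⟩ := exists_adjoinRoot_equiv a v hv0 f (Fact.out) hfv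
  rw [Algebra.norm_apply]
  have hconj : (aeval a l).restrict hl =
      (θ : AdjoinRoot f →ₗ[K] cyc a v) ∘ₗ (Algebra.lmul K (AdjoinRoot f) (AdjoinRoot.mk f l)) ∘ₗ
        (θ.symm : cyc a v →ₗ[K] AdjoinRoot f) := by
    apply LinearMap.ext
    intro x
    obtain ⟨y, rfl⟩ := θ.surjective x
    obtain ⟨p, rfl⟩ := AdjoinRoot.mk_surjective y
    apply Subtype.ext
    rw [LinearMap.coe_restrict_apply, hθ]
    have h1 : ((θ : AdjoinRoot f →ₗ[K] cyc a v) ∘ₗ
        (Algebra.lmul K (AdjoinRoot f) (AdjoinRoot.mk f l)) ∘ₗ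
        (θ.symm : cyc a v →ₗ[K] AdjoinRoot f)) (θ (AdjoinRoot.mk f p)) =
        θ (AdjoinRoot.mk f l * θ.symm (θ (AdjoinRoot.mk f p))) := rfl
    rw [h1, LinearEquiv.symm_apply_apply, ← map_mul, hθ, map_mul, Module.End.mul_apply]
  rw [hconj, LinearMap.det_conj]

/-- a unitary element of `K[X]/(f)`, `f` self-dual, with prescribed norm to `K` -/
theorem exists_unitary_poly [Finite K] (hinv : ∀ c, σ (σ c) = c) (hσne : ∃ θ, σ θ ≠ θ) (N : ℕ)
    (hN : 0 < N) (f : K[X]) (hfm : f.Monic) [Fact (Irreducible f)] (hdvd : f ∣ pstar σ N f)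
    (hdvdN : f ∣ X ^ N - 1) (μ : K) (hμ : μ * σ μ = 1) :
    ∃ l : K[X], f ∣ (pstar σ N l * l - 1) ∧ Algebra.norm K (AdjoinRoot.mk f l) = μ := by
  obtain ⟨σL, hσmk, hσσ, hσof⟩ := exists_involution hinv N hN f hdvd hdvdN
  obtain ⟨y, hy0, hy⟩ := hilbert90 hinv hσne μ hμ
  have : Module.Finite K (AdjoinRoot f) := hfm.finite_adjoinRoot
  have : Finite (AdjoinRoot f) := Module.finite_of_finite K
  obtain ⟨x, hx⟩ := FiniteField.norm_surjective K (AdjoinRoot f) y
  have hx0 : x ≠ 0 := by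
    rintro rfl
    rw [Algebra.norm_zero] at hx
    exact hy0 hx.symm
  have hσx0 : σL x ≠ 0 := (map_ne_zero σL).2 hx0
  obtain ⟨l, hl⟩ := AdjoinRoot.mk_surjective (x * (σL x)⁻¹)
  refine ⟨l, ?_, ?_⟩
  · rw [← AdjoinRoot.mk_eq_zero, map_sub, map_mul, map_one, ← hσmk, hl, map_mul, map_inv₀, hσσ]
    field_simp
    ring
  · rw [hl, map_mul, Algebra.norm_inv, norm_sigma f hfm σL hσof, hx]
    have hσy0 : σ y ≠ 0 := (map_ne_zero σ).2 hy0
    rw [eq_comm, eq_mul_inv_iff_mul_eq₀ hσy0]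
    exact hy.symm

/-- a pair of mutually inverse elements of `K[X]/(f)` with prescribed norm quotient -/
theorem exists_norm_pair [Finite K] (hinv : ∀ c, σ (σ c) = c) (hσne : ∃ θ, σ θ ≠ θ) (f : K[X])
    (hfm : f.Monic) [Fact (Irreducible f)] (μ : K) (hμ : μ * σ μ = 1) :
    ∃ l l' : K[X], f ∣ (l' * l - 1) ∧
      Algebra.norm K (AdjoinRoot.mk f l) * σ (Algebra.norm K (AdjoinRoot.mk f l')) = μ := by
  obtain ⟨y, hy0, hy⟩ := hilbert90 hinv hσne μ hμ
  have : Module.Finite K (AdjoinRoot f) := hfm.finite_adjoinRoot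
  have : Finite (AdjoinRoot f) := Module.finite_of_finite K
  obtain ⟨x, hx⟩ := FiniteField.norm_surjective K (AdjoinRoot f) y
  have hx0 : x ≠ 0 := by
    rintro rfl
    rw [Algebra.norm_zero] at hx
    exact hy0 hx.symm
  obtain ⟨l, hl⟩ := AdjoinRoot.mk_surjective x
  obtain ⟨l', hl'⟩ := AdjoinRoot.mk_surjective x⁻¹
  refine ⟨l, l', ?_, ?_⟩
  · rw [← AdjoinRoot.mk_eq_zero, map_sub, map_mul, map_one, hl, hl', inv_mul_cancel₀ hx0,
      sub_self]
  · rw [hl, hl', Algebra.norm_inv, hx, map_inv₀]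
    have hσy0 : σ y ≠ 0 := (map_ne_zero σ).2 hy0
    rw [eq_comm, eq_mul_inv_iff_mul_eq₀ hσy0]
    exact hy.symm

end NormElts

section Pieces

variable {V : Type*} [AddCommGroup V] [Module K V] {B : V →ₗ[K] V →ₛₗ[σ] K}
  {a : Module.End K V} {N : ℕ} [Finite K] [FiniteDimensional K V]

omit [Finite K] [FiniteDimensional K V] in
theorem dvd_X_pow_sub_one (h : UData B a N) (u : V) (hu0 : u ≠ 0) (f : K[X])
    (hf : Irreducible f) (hfu : aeval a f u = 0) : f ∣ X ^ N - 1 := by
  rw [← orbitMap_eq_zero_iff a u hu0 f hf hfu, orbitMap_apply, map_sub, map_pow, aeval_X,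
    map_one, h.pow, sub_self, LinearMap.zero_apply]

omit [Finite K] [FiniteDimensional K V] in
theorem aeval_comm_apply (a : Module.End K V) (l : K[X]) (x : V) :
    aeval a l (a x) = a (aeval a l x) := by
  have h1 : aeval a (l * X) = aeval a (X * l) := by rw [mul_comm]
  rw [map_mul, map_mul, aeval_X] at h1
  have := congrArg (fun g : Module.End K V => g x) h1
  simpa only [Module.End.mul_apply] using this

/-- Case I: a cyclic nondegenerate piece carries centralizing isometries of every determinant -/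
theorem exists_det_cyc (hσne : ∃ θ, σ θ ≠ θ) (h : UData B a N) (u : V) (f : K[X])
    (hfm : f.Monic) (hf : Irreducible f) (hfu : aeval a f u = 0) (p₁ : K[X])
    (hp₁ : B (aeval a p₁ u) u ≠ 0) (μ : K) (hμ : μ * σ μ = 1) :
    ∃ z : Module.End K V, (∀ x y, B (z x) (z y) = B x y) ∧ (∀ x, z (a x) = a (z x)) ∧
      LinearMap.det z = μ := by
  have hu0 : u ≠ 0 := by
    rintro rfl
    apply hp₁
    simp
  have : Fact (Irreducible f) := ⟨hf⟩
  have hnd : UNDOn B (cyc a u) := undOn_cyc h u f hf hfu p₁ hp₁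
  have hdvd : f ∣ pstar σ N f := dvd_pstar_of_moment h u f hf hfu p₁ hp₁
  have hdvdN : f ∣ X ^ N - 1 := dvd_X_pow_sub_one h u hu0 f hf hfu
  obtain ⟨l, hl1, hl2⟩ := exists_unitary_poly h.invol hσne N h.pos f hfm hdvd hdvdN μ hμ
  have hZ : Inv a (cyc a u) := inv_range_orbitMap a u
  have hl : ∀ x ∈ cyc a u, aeval a l x ∈ cyc a u := fun x hx => hZ.aeval_mem l hx
  have ht_iso : ∀ x y : cyc a u, B (((aeval a l).restrict hl) x : V)
      (((aeval a l).restrict hl) y : V) = B (x : V) (y : V) := by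
    intro x y
    rw [LinearMap.coe_restrict_apply, LinearMap.coe_restrict_apply, adjS h,
      ← Module.End.mul_apply, ← map_mul]
    obtain ⟨k, hk⟩ := hl1
    have h2 : pstar σ N l * l = 1 + k * f := by
      rw [mul_comm k f, ← hk]
      ring
    rw [h2, map_add, map_one, map_mul, LinearMap.add_apply, Module.End.one_apply,
      Module.End.mul_apply, aeval_eq_zero_of_mem_cyc a u f hfu y.2, map_zero, add_zero]
  have ht_comm : ∀ x : cyc a u, ((aeval a l).restrict hl) ((a.restrict hZ) x) =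
      (a.restrict hZ) (((aeval a l).restrict hl) x) := by
    intro x
    apply Subtype.ext
    rw [LinearMap.coe_restrict_apply, LinearMap.coe_restrict_apply, LinearMap.coe_restrict_apply,
      LinearMap.coe_restrict_apply]
    exact aeval_comm_apply a l _
  obtain ⟨z, hz1, hz2, hz3⟩ := extend_isometry h hZ hnd ((aeval a l).restrict hl) ht_iso ht_comm
  refine ⟨z, hz1, hz2, ?_⟩
  rw [hz3, det_aeval_cyc a u hu0 f hfu l hl, hl2]

/-- Case II: a hyperbolic piece carries centralizing isometries of every determinant -/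
theorem exists_det_hyp (hσne : ∃ θ, σ θ ≠ θ) (h : UData B a N) (hB : UND B) (v : V)
    (hv0 : v ≠ 0) (f : K[X]) (hfm : f.Monic) (hf : Irreducible f) (hfv : aeval a f v = 0)
    {Z₁ : Submodule K V} (hp : UHypPair B a (cyc a v) Z₁) (μ : K) (hμ : μ * σ μ = 1) :
    ∃ z : Module.End K V, (∀ x y, B (z x) (z y) = B x y) ∧ (∀ x, z (a x) = a (z x)) ∧
      LinearMap.det z = μ := by
  have : Fact (Irreducible f) := ⟨hf⟩
  obtain ⟨l, l', hll, hnorm⟩ := exists_norm_pair h.invol hσne f hfm μ hμ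
  have hZ₀ : Inv a (cyc a v) := hp.inv0
  have hZ₁ : Inv a Z₁ := hp.inv1
  have hl : ∀ x ∈ cyc a v, aeval a l x ∈ cyc a v := fun x hx => hZ₀.aeval_mem l hx
  have hl' : ∀ x ∈ cyc a v, aeval a l' x ∈ cyc a v := fun x hx => hZ₀.aeval_mem l' hx
  have hs : ∀ x ∈ Z₁, aeval a (pstar σ N l') x ∈ Z₁ := fun x hx => hZ₁.aeval_mem _ hx
  set T : Module.End K (cyc a v) := (aeval a l).restrict hl with hT
  set T' : Module.End K (cyc a v) := (aeval a l').restrict hl' with hT'
  set S : Module.End K Z₁ := (aeval a (pstar σ N l')).restrict hs with hS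
  have hdetT : LinearMap.det T = Algebra.norm K (AdjoinRoot.mk f l) :=
    det_aeval_cyc a v hv0 f hfv l hl
  have hdetT' : LinearMap.det T' = Algebra.norm K (AdjoinRoot.mk f l') :=
    det_aeval_cyc a v hv0 f hfv l' hl'
  have hdetS : LinearMap.det S = σ (LinearMap.det T') := by
    apply det_adjoint h hB hp T' S
    intro x y
    rw [hT', hS, LinearMap.coe_restrict_apply, LinearMap.coe_restrict_apply, adjS h]
  have hTS : ∀ (x : cyc a v) (y : Z₁), B (T x : V) (S y : V) = B (x : V) (y : V) := by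
    intro x y
    rw [hT, hS, LinearMap.coe_restrict_apply, LinearMap.coe_restrict_apply, ← adjS h,
      ← Module.End.mul_apply, ← map_mul]
    obtain ⟨k, hk⟩ := hll
    have h2 : l' * l = 1 + k * f := by
      rw [mul_comm k f, ← hk]
      ring
    rw [h2, map_add, map_one, map_mul, LinearMap.add_apply, Module.End.one_apply,
      Module.End.mul_apply, aeval_eq_zero_of_mem_cyc a v f hfv x.2, map_zero, add_zero]
  obtain ⟨ψ, hψ⟩ := hp.exists_sumEquiv
  let t : Module.End K ↥(cyc a v ⊔ Z₁) := (ψ : (cyc a v × Z₁) →ₗ[K] ↥(cyc a v ⊔ Z₁)) ∘ₗ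
    (T.prodMap S) ∘ₗ (ψ.symm : ↥(cyc a v ⊔ Z₁) →ₗ[K] (cyc a v × Z₁))
  have ht : ∀ s : cyc a v × Z₁, ((t (ψ s) : ↥(cyc a v ⊔ Z₁)) : V) = (T s.1 : V) + (S s.2 : V) := by
    intro s
    have h1 : t (ψ s) = ψ ((T.prodMap S) (ψ.symm (ψ s))) := rfl
    rw [h1, LinearEquiv.symm_apply_apply, hψ]
    rfl
  have ht_iso : ∀ x y : ↥(cyc a v ⊔ Z₁), B (t x : V) (t y : V) = B (x : V) (y : V) := by
    intro x y
    obtain ⟨s, rfl⟩ := ψ.surjective x
    obtain ⟨r, rfl⟩ := ψ.surjective y
    rw [ht, ht, hψ, hψ]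
    simp only [map_add, LinearMap.add_apply]
    have h1 : B (T s.1 : V) (T r.1 : V) = 0 := hp.iso0 _ (T s.1).2 _ (T r.1).2
    have h2 : B (S s.2 : V) (S r.2 : V) = 0 := hp.iso1 _ (S s.2).2 _ (S r.2).2
    have h3 : B (s.1 : V) (r.1 : V) = 0 := hp.iso0 _ s.1.2 _ r.1.2
    have h4 : B (s.2 : V) (r.2 : V) = 0 := hp.iso1 _ s.2.2 _ r.2.2
    have h5 : B (S s.2 : V) (T r.1 : V) = B (s.2 : V) (r.1 : V) := by
      rw [h.herm, hTS, ← h.herm]
    rw [h1, h2, h3, h4, hTS, h5]
  have ht_comm : ∀ x : ↥(cyc a v ⊔ Z₁), t ((a.restrict hp.inv_sup) x) =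
      (a.restrict hp.inv_sup) (t x) := by
    intro x
    obtain ⟨s, rfl⟩ := ψ.surjective x
    have haψ : (a.restrict hp.inv_sup) (ψ s) = ψ ((a.restrict hZ₀) s.1, (a.restrict hZ₁) s.2) := by
      apply Subtype.ext
      rw [LinearMap.coe_restrict_apply, hψ, hψ, map_add]
      rfl
    apply Subtype.ext
    have hR : (((a.restrict hp.inv_sup) (t (ψ s)) : ↥(cyc a v ⊔ Z₁)) : V) =
        a (T s.1 : V) + a (S s.2 : V) := by
      have h1 : (((a.restrict hp.inv_sup) (t (ψ s)) : ↥(cyc a v ⊔ Z₁)) : V) =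
          a ((t (ψ s) : ↥(cyc a v ⊔ Z₁)) : V) := rfl
      rw [h1, ht, map_add]
    have hT1 : (T ((a.restrict hZ₀) s.1) : V) = a (T s.1 : V) := aeval_comm_apply a l _
    have hS1 : (S ((a.restrict hZ₁) s.2) : V) = a (S s.2 : V) := aeval_comm_apply a _ _
    rw [haψ, ht, hR, hT1, hS1]
  obtain ⟨z, hz1, hz2, hz3⟩ := extend_isometry h hp.inv_sup (hp.undOn_sup h hB) t ht_iso ht_comm
  refine ⟨z, hz1, hz2, ?_⟩
  rw [hz3, LinearMap.det_conj, LinearMap.det_prodMap, hdetS, hdetT, hdetT', hnorm]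

/-- The centralizer of a semisimple isometry in the isometry group surjects onto the
norm-one elements under the determinant. -/
theorem exists_centralizer_det (hσne : ∃ θ, σ θ ≠ θ) (h : UData B a N) (hB : UND B)
    (ha : a.IsSemisimple) (hpos : 0 < finrank K V) (μ : K) (hμ : μ * σ μ = 1) :
    ∃ z : Module.End K V, (∀ x y, B (z x) (z y) = B x y) ∧ (∀ x, z (a x) = a (z x)) ∧
      LinearMap.det z = μ := by
  classical
  have hnotunit : ¬ IsUnit a.charpoly := by
    intro hu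
    have := natDegree_eq_zero_of_isUnit hu
    rw [LinearMap.charpoly_natDegree] at this
    omega
  obtain ⟨f, hfm, hf, hfa⟩ := exists_monic_irreducible_factor a.charpoly hnotunit
  obtain ⟨v, hv0, hfv⟩ := exists_ne_zero_aeval_eq_zero a f hf hfa
  by_cases hA : ∃ u, aeval a f u = 0 ∧ ∃ p : K[X], B (aeval a p u) u ≠ 0
  · obtain ⟨u, hfu, p₁, hp₁⟩ := hA
    exact exists_det_cyc hσne h u f hfm hf hfu p₁ hp₁ μ hμ
  · have hcase : ∀ u : V, aeval a f u = 0 → ∀ p : K[X], B (aeval a p u) u = 0 := by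
      intro u hu p
      by_contra hne
      exact hA ⟨u, hu, p, hne⟩
    obtain ⟨Z₁, hZ₁, hc1, hiso1⟩ := exists_hyperbolic h hB ha v hv0 f hf hfv hcase
    have hp : UHypPair B a (cyc a v) Z₁ :=
      ⟨inv_range_orbitMap a v, hZ₁, uIsoOn_cyc h v (hcase v hfv), hiso1, hc1⟩
    exact exists_det_hyp hσne h hB v hv0 f hfm hf hfv hp μ hμ

end Pieces

end Cfsg.Agent.Lib.Helper40_UDet
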