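import Mathlib
import Cfsg.Agent.Lib.Helper40_UMatrix
import Cfsg.Agent.Lib.Helper40_UDet
import Cfsg.Agent.Lib.Helper5_SUOrder

set_option autoImplicit false

/-!
Semisimple elements of the finite special unitary group `SU_n(q)` with the same characteristic
polynomial are conjugate in `SU_n(q)`.
-/

namespace Cfsg.Agent.Lib.Helper40_UDetMatrix

open Polynomial Module Matrix Cfsg.Agent.Lib.Helper40_UBasic Cfsg.Agent.Lib.Helper94_Herm
  Cfsg.Agent.Lib.Helper94_HermBridge Cfsg.Agent.Lib.Helper94_Bridge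
  Cfsg.Agent.Lib.Helper40_UMatrix

variable {K : Type*} [Field K] [Fintype K] {n q : ℕ}

/-- The centralizer in `GU_n(q)` of an element of order prime to `p` contains elements of every
determinant of norm one. -/
theorem exists_GU_centralizer_det (hK : Fintype.card K = q ^ 2) (p : ℕ) [Fact p.Prime]
    [CharP K p] (hn : 0 < n) (g : GL (Fin n) K) (hg : g ∈ Cfsg.GU n K q)
    (hgo : (orderOf g).Coprime p) (μ : K) (hμ : μ * μ ^ q = 1) :
    ∃ z : GL (Fin n) K, z ∈ Cfsg.GU n K q ∧ z * g = g * z ∧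
      (z : Matrix (Fin n) (Fin n) K).det = μ := by
  classical
  obtain ⟨σ, hσq, hσ⟩ := exists_frob hK
  have hp : p.Prime := Fact.out
  set N := orderOf g with hNdef
  have hN : 0 < N := orderOf_pos g
  have hNK : (N : K) ≠ 0 := by
    intro h0
    rw [CharP.cast_eq_zero_iff K p] at h0
    exact (Nat.Prime.coprime_iff_not_dvd hp).1 hgo.symm h0
  have hgN : (g : Matrix (Fin n) (Fin n) K) ^ N = 1 := by
    have : g ^ N = 1 := pow_orderOf_eq_one g
    have := congrArg (fun x : GL (Fin n) K => (x : Matrix (Fin n) (Fin n) K)) this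
    simpa using this
  have hd1 := uData_of_mem σ hσq hσ (g : Matrix (Fin n) (Fin n) K) hg N hN hgN
  have hpos : 0 < finrank K (Fin n → K) := by
    rw [Module.finrank_fintype_fun_eq_card, Fintype.card_fin]
    exact hn
  have hμ' : μ * σ μ = 1 := by rw [hσq]; exact hμ
  obtain ⟨z, hz1, hz2, hz3⟩ := Helper40_UDet.exists_centralizer_det hσ.ne_id hd1
    (und_hermB σ hσq) (isSemisimple_of_pow_eq_one _ N hNK hgN) hpos μ hμ'
  have hdet : (LinearMap.toMatrix' z).det = μ := by
    rw [LinearMap.det_toMatrix', hz3]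
  have hμ0 : μ ≠ 0 := by
    rintro rfl
    rw [zero_mul] at hμ
    exact zero_ne_one hμ
  have hdet0 : (LinearMap.toMatrix' z).det ≠ 0 := by rw [hdet]; exact hμ0
  refine ⟨Matrix.GeneralLinearGroup.mkOfDetNeZero (LinearMap.toMatrix' z) hdet0, ?_, ?_, hdet⟩
  · rw [mem_GU_iff]
    intro u v
    have h1 : ∀ x, ((Matrix.GeneralLinearGroup.mkOfDetNeZero (LinearMap.toMatrix' z) hdet0 :
        GL (Fin n) K) : Matrix (Fin n) (Fin n) K) *ᵥ x = z x := by
      intro x
      exact LinearMap.toMatrix'_mulVec z x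
    rw [h1, h1, ← hermB_apply σ hσq, hz1, hermB_apply]
  · apply Units.ext
    have h1 : ((Matrix.GeneralLinearGroup.mkOfDetNeZero (LinearMap.toMatrix' z) hdet0 :
        GL (Fin n) K) : Matrix (Fin n) (Fin n) K) = LinearMap.toMatrix' z := rfl
    rw [Units.val_mul, Units.val_mul, h1]
    apply Matrix.toLin'.injective
    apply LinearMap.ext
    intro x
    rw [Matrix.toLin'_mul, Matrix.toLin'_mul, Matrix.toLin'_toMatrix', LinearMap.comp_apply,
      LinearMap.comp_apply, hz2]

/-- Elements of `SU_n(q)` of order prime to `p` with the same characteristic polynomial are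
conjugate in `SU_n(q)`. -/
theorem isConj_SU (hK : Fintype.card K = q ^ 2) (p : ℕ) [Fact p.Prime] [CharP K p]
    (g h : ↥(Cfsg.SU n K q)) (hg : (orderOf g).Coprime p) (hh : (orderOf h).Coprime p)
    (hc : ((g : Matrix.SpecialLinearGroup (Fin n) K) : Matrix (Fin n) (Fin n) K).charpoly =
      ((h : Matrix.SpecialLinearGroup (Fin n) K) : Matrix (Fin n) (Fin n) K).charpoly) :
    IsConj g h := by
  classical
  rcases Nat.eq_zero_or_pos n with hn | hn
  · subst hn
    have : g = h := by
      apply Subtype.ext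
      apply Subtype.ext
      exact Subsingleton.elim _ _
    rw [this]
  set G : GL (Fin n) K := Matrix.SpecialLinearGroup.toGL g.1 with hG
  set H : GL (Fin n) K := Matrix.SpecialLinearGroup.toGL h.1 with hH
  have hinj : Function.Injective
      ((Matrix.SpecialLinearGroup.toGL (n := Fin n) (R := K)).comp (Cfsg.SU n K q).subtype) := by
    intro x y hxy
    apply Subtype.ext
    apply Subtype.ext
    exact congrArg (fun x : GL (Fin n) K => (x : Matrix (Fin n) (Fin n) K)) hxy
  have hoG : orderOf G = orderOf g := orderOf_injective _ hinj g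
  have hoH : orderOf H = orderOf h := orderOf_injective _ hinj h
  have hGU : G ∈ Cfsg.GU n K q := g.2
  have hHU : H ∈ Cfsg.GU n K q := h.2
  obtain ⟨u, hu, huGH⟩ := exists_GU_conj hK p G H hGU hHU (hoG ▸ hg) (hoH ▸ hh) hc
  have hdu : (u : Matrix (Fin n) (Fin n) K).det * (u : Matrix (Fin n) (Fin n) K).det ^ q = 1 :=
    Helper5_SUOrder.det_mul_det_pow_of_isU hK hu
  have hdu0 : (u : Matrix (Fin n) (Fin n) K).det ≠ 0 := by
    intro h0
    rw [h0, zero_mul] at hdu
    exact zero_ne_one hdu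
  have hμ : ((u : Matrix (Fin n) (Fin n) K).det)⁻¹ * (((u : Matrix (Fin n) (Fin n) K).det)⁻¹) ^ q
      = 1 := by
    rw [inv_pow, ← mul_inv, hdu, inv_one]
  obtain ⟨z, hz, hzG, hzdet⟩ := exists_GU_centralizer_det hK p hn G hGU (hoG ▸ hg) _ hμ
  have hdet1 : ((u * z : GL (Fin n) K) : Matrix (Fin n) (Fin n) K).det = 1 := by
    rw [Units.val_mul, Matrix.det_mul, hzdet, mul_inv_cancel₀ hdu0]
  have huz : u * z ∈ Cfsg.GU n K q := (Cfsg.GU n K q).mul_mem hu hz
  let s : Matrix.SpecialLinearGroup (Fin n) K := ⟨((u * z : GL (Fin n) K) :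
    Matrix (Fin n) (Fin n) K), hdet1⟩
  have hs : s ∈ Cfsg.SU n K q := huz
  rw [isConj_iff]
  refine ⟨⟨s, hs⟩, ?_⟩
  rw [mul_inv_eq_iff_eq_mul]
  apply Subtype.ext
  apply Subtype.ext
  have h1 : (u * z) * G = H * (u * z) := by
    rw [mul_assoc, hzG, ← mul_assoc, huGH, mul_assoc]
  exact congrArg (fun x : GL (Fin n) K => (x : Matrix (Fin n) (Fin n) K)) h1

end Cfsg.Agent.Lib.Helper40_UDetMatrix
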