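import Mathlib
import Cfsg.Prelude.Def_GeometricClasses
import Cfsg.Prelude.Def_LieClassical
import Cfsg.Agent.Lib.Helper40_UMatrix
import Cfsg.Agent.Lib.Helper40_UDetMatrix
import Cfsg.Agent.Lib.Helper5_SUOrder

/-!
# S6001 package UCONJ (helper58, for helper42)

Two elements of `GU_4(p)` of order prime to `p` with the same characteristic polynomial are
conjugate by an element of `SU_4(p) = GU_4(p) ⊓ SL_4(p²)`.
-/

set_option autoImplicit false
set_option linter.unusedVariables false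
open scoped MatrixGroups
open Matrix

namespace Cfsg.Agent.Lib.Helper58_S6001_UCONJ

/-- general rank version -/
theorem exists_SU_conj_gen {F : Type*} [Field F] [Fintype F] {p n : ℕ} [Fact p.Prime] [CharP F p]
    (hn : 0 < n)
    (hF : Fintype.card F = p ^ 2) (x y : GL (Fin n) F)
    (hx : x ∈ Cfsg.GU n F p) (hy : y ∈ Cfsg.GU n F p)
    (hxo : (orderOf x).Coprime p) (hyo : (orderOf y).Coprime p)
    (hc : (x : Matrix (Fin n) (Fin n) F).charpoly = (y : Matrix (Fin n) (Fin n) F).charpoly) :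
    ∃ g ∈ Cfsg.GU n F p ⊓ Cfsg.Geo.specialLinear (Fin n) F, g⁻¹ * x * g = y := by
  obtain ⟨u, hu, hux⟩ := Cfsg.Agent.Lib.Helper40_UMatrix.exists_GU_conj hF p x y hx hy hxo hyo hc
  have hdu : (u : Matrix (Fin n) (Fin n) F).det * (u : Matrix (Fin n) (Fin n) F).det ^ p = 1 :=
    Cfsg.Agent.Lib.Helper5_SUOrder.det_mul_det_pow_of_isU hF hu
  obtain ⟨d, hd⟩ : ∃ d : F, d = (u : Matrix (Fin n) (Fin n) F).det := ⟨_, rfl⟩
  rw [← hd] at hdu
  have hd0 : d ≠ 0 := by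
    intro h
    rw [h, zero_mul] at hdu
    exact zero_ne_one hdu
  have hdinv : d⁻¹ * d⁻¹ ^ p = 1 := by
    rw [inv_pow, ← mul_inv, hdu, inv_one]
  obtain ⟨z, hz, hzx, hzd⟩ := Cfsg.Agent.Lib.Helper40_UDetMatrix.exists_GU_centralizer_det hF p hn
    x hx hxo d⁻¹ hdinv
  refine ⟨(u * z)⁻¹, Subgroup.mem_inf.2 ⟨(Cfsg.GU n F p).inv_mem ((Cfsg.GU n F p).mul_mem hu hz), ?_⟩, ?_⟩
  · show (u * z)⁻¹ ∈ (Matrix.GeneralLinearGroup.det : GL (Fin n) F →* Fˣ).ker
    rw [MonoidHom.mem_ker, map_inv, inv_eq_one]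
    apply Units.ext
    rw [Matrix.GeneralLinearGroup.val_det_apply, Units.val_mul, Matrix.det_mul, hzd, ← hd,
      mul_inv_cancel₀ hd0]
    rfl
  · rw [inv_inv, mul_assoc u z x, hzx, ← mul_assoc u x z, hux]
    group

theorem exists_SU_conj {F : Type*} [Field F] [Fintype F] {p : ℕ} [Fact p.Prime] [CharP F p]
    (hF : Fintype.card F = p ^ 2) (x y : GL (Fin 4) F)
    (hx : x ∈ Cfsg.GU 4 F p) (hy : y ∈ Cfsg.GU 4 F p)
    (hxo : (orderOf x).Coprime p) (hyo : (orderOf y).Coprime p)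
    (hc : (x : Matrix (Fin 4) (Fin 4) F).charpoly = (y : Matrix (Fin 4) (Fin 4) F).charpoly) :
    ∃ g ∈ Cfsg.GU 4 F p ⊓ Cfsg.Geo.specialLinear (Fin 4) F, g⁻¹ * x * g = y :=
  exists_SU_conj_gen (by norm_num) hF x y hx hy hxo hyo hc

end Cfsg.Agent.Lib.Helper58_S6001_UCONJ
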