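/-
helper35: S6001 package PKG-UR5 (helper42): elements of `SU_4(p)` whose fifth power is scalar,
`ord_5(p) = 4`.
-/
import Mathlib
import Cfsg.Prelude.Def_GeometricClasses
import Cfsg.Prelude.Def_LieClassical
import Cfsg.Agent.Lib.Helper35_S6000_R5
import Cfsg.Agent.Lib.Helper58_S6001_UCONJ
import Cfsg.Agent.Lib.Helper5_SUOrder

set_option autoImplicit false
open scoped MatrixGroups
open Matrix Polynomial

namespace Cfsg.Agent.Lib.Helper35_S6001_UR5

open Cfsg.Agent.Lib.Helper5_SUOrder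

/-- a monic polynomial whose coefficients are fixed by the Frobenius map descends to the prime
field -/
theorem exists_lift_of_frobenius_fixed {F : Type*} [Field F] {p : ℕ} [Fact p.Prime] [CharP F p]
    (f : F[X]) (hm : f.Monic) (hf : ∀ n, (f.coeff n) ^ p = f.coeff n) :
    ∃ g : (ZMod p)[X], g.map (ZMod.castHom (dvd_refl p) F) = f ∧ g.natDegree = f.natDegree ∧
      g.Monic := by
  let _ : Algebra (ZMod p) F := ZMod.algebra F p
  apply Polynomial.lifts_and_natDegree_eq_and_monic _ hm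
  rw [Polynomial.lifts_iff_coeff_lifts]
  intro n
  have h1 : f.coeff n ∈ (⊥ : Subfield F) := (Subfield.mem_bot_iff_pow_eq_self F p).2 (hf n)
  rw [Subfield.bot_eq_of_zMod_algebra p] at h1
  obtain ⟨y, hy⟩ := h1
  exact ⟨y, hy⟩

/-- `5 ∣ p ^ 2 + 1` when `ord_5(p) = 4` -/
theorem five_dvd_sq_add_one {p : ℕ} (hord : orderOf (p : ZMod 5) = 4) : 5 ∣ p ^ 2 + 1 := by
  have h1 := pow_orderOf_eq_one (p : ZMod 5)
  rw [hord] at h1
  have h2 : (p : ZMod 5) ^ 2 ≠ 1 := by
    intro h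
    have := orderOf_dvd_of_pow_eq_one h
    rw [hord] at this
    omega
  have h3 : ∀ x : ZMod 5, x ^ 4 = 1 → x ^ 2 ≠ 1 → x ^ 2 + 1 = 0 := by decide
  have h4 := h3 _ h1 h2
  rw [← ZMod.natCast_eq_zero_iff]
  push_cast
  exact h4

/-- the characteristic polynomial of an element of order 5 of `GU_4(p)`, `ord_5(p) = 4` -/
theorem charpoly_of_order5_U {F : Type*} [Field F] [Fintype F] {p : ℕ} [Fact p.Prime] [CharP F p]
    (hF : Fintype.card F = p ^ 2) (hord : orderOf (p : ZMod 5) = 4)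
    (A : GL (Fin 4) F) (hA : A ∈ Cfsg.GU 4 F p) (h5 : A ^ 5 = 1) (h1 : A ≠ 1) :
    (A : Matrix (Fin 4) (Fin 4) F).charpoly = cyclotomic 5 F := by
  classical
  have hp : p.Prime := Fact.out
  obtain ⟨M, hM⟩ : ∃ M : Matrix (Fin 4) (Fin 4) F, M = (A : Matrix (Fin 4) (Fin 4) F) := ⟨_, rfl⟩
  rw [← hM]
  have hMU : Cfsg.Agent.Lib.Helper5_GUOrder.IsU 4 p M := by rw [hM]; exact hA
  have hM5 : M ^ 5 = 1 := by
    have := congrArg Units.val h5
    rw [hM]
    simpa using this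
  have hM1 : M ≠ 1 := by
    rw [hM]
    exact fun h => h1 (Units.ext h)
  obtain ⟨k, hk⟩ := five_dvd_sq_add_one hord
  have hinv : M ^ (p ^ 2) * M = 1 := by
    rw [← pow_succ, hk, pow_mul, hM5, one_pow]
  have hχ1 : (M ^ (p ^ 2)).charpoly = M.charpoly := by
    rw [← hF]
    exact FiniteField.Matrix.charpoly_pow_card M
  have hU := transpose_mul_map_of_isU hF hMU
  have hT : Mᵀ * (M ^ (p ^ 2))ᵀ = 1 := by
    rw [← Matrix.transpose_mul, hinv, Matrix.transpose_one]
  have heq : (powQ hF).mapMatrix M = (M ^ (p ^ 2))ᵀ := by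
    rw [← Matrix.inv_eq_right_inv hU, Matrix.inv_eq_right_inv hT]
  have hmap : M.charpoly.map (powQ hF) = M.charpoly := by
    rw [← Matrix.charpoly_map, ← RingHom.mapMatrix_apply, heq, Matrix.charpoly_transpose, hχ1]
  have hcoeff : ∀ n, (M.charpoly.coeff n) ^ p = M.charpoly.coeff n := by
    intro n
    have := congrArg (fun f => f.coeff n) hmap
    simp only [Polynomial.coeff_map] at this
    exact this
  obtain ⟨g, hgmap, hgdeg, hgm⟩ :=
    exists_lift_of_frobenius_fixed M.charpoly (Matrix.charpoly_monic M) hcoeff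
  have hirr : Irreducible (cyclotomic 5 (ZMod p)) :=
    Cfsg.Agent.Lib.Helper42_Sp4Charpoly.irreducible_cyclotomic_five (F := ZMod p) (ZMod.card p) hord
  have hΦmap : (cyclotomic 5 (ZMod p)).map (ZMod.castHom (dvd_refl p) F) = cyclotomic 5 F :=
    Polynomial.map_cyclotomic 5 _
  have hfact : Fact (Nat.Prime 5) := ⟨by norm_num⟩
  rcases hirr.isCoprime_or_dvd g with hco | hdvd
  · exfalso
    have hco' : IsCoprime (cyclotomic 5 F) M.charpoly := by
      have := hco.map (Polynomial.mapRingHom (ZMod.castHom (dvd_refl p) F))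
      simp only [Polynomial.coe_mapRingHom] at this
      rwa [hΦmap, hgmap] at this
    have hco'' : IsCoprime (cyclotomic 5 F) (minpoly F M) :=
      hco'.of_isCoprime_of_dvd_right (Matrix.minpoly_dvd_charpoly M)
    have hmd : minpoly F M ∣ cyclotomic 5 F * (X - 1) := by
      rw [Polynomial.cyclotomic_prime_mul_X_sub_one]
      apply minpoly.dvd
      simp [hM5]
    have h3 : minpoly F M ∣ X - 1 := hco''.symm.dvd_of_dvd_mul_left hmd
    obtain ⟨q, hq⟩ := h3
    have h4 := congrArg (Polynomial.aeval M) hq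
    rw [map_mul, minpoly.aeval, zero_mul] at h4
    simp at h4
    exact hM1 (sub_eq_zero.mp h4)
  · have hg : g = cyclotomic 5 (ZMod p) := by
      apply Polynomial.eq_of_monic_of_dvd_of_natDegree_le (Polynomial.cyclotomic.monic 5 _) hgm hdvd
      rw [hgdeg, Matrix.charpoly_natDegree_eq_dim, Polynomial.natDegree_cyclotomic]
      simp
      rfl
    rw [← hgmap, hg, hΦmap]

/-- a scalar matrix in `GU` has norm-one scalar -/
theorem norm_of_scalar_isU {F : Type*} [Field F] [Fintype F] {p : ℕ}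
    (hF : Fintype.card F = p ^ 2) (z : F)
    (h : Cfsg.Agent.Lib.Helper5_GUOrder.IsU 4 p (z • (1 : Matrix (Fin 4) (Fin 4) F))) :
    z * z ^ p = 1 := by
  have h1 := transpose_mul_map_of_isU hF h
  have h2 := congrFun (congrFun h1 0) 0
  rw [Matrix.mul_apply] at h2
  simp only [Matrix.transpose_apply, Matrix.smul_apply, Matrix.one_apply, RingHom.mapMatrix_apply,
    Matrix.map_apply, smul_eq_mul] at h2
  rw [Finset.sum_eq_single (0 : Fin 4)] at h2
  · simpa [powQ] using h2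
  · intro b _ hb
    simp [hb]
  · simp

theorem five_case_SU {F : Type*} [Field F] [Fintype F] {p : ℕ} [Fact p.Prime] [CharP F p]
    (hF : Fintype.card F = p ^ 2) (hp4 : p % 4 = 3) (hord : orderOf (p : ZMod 5) = 4)
    (N : Subgroup (GL (Fin 4) F))
    (hscal : ∀ g ∈ N, ∀ g' : GL (Fin 4) F, (∃ c : F, (g' : Matrix (Fin 4) (Fin 4) F) =
      c • (g : Matrix (Fin 4) (Fin 4) F)) → g' ∈ N)
    (y : GL (Fin 4) F) (hyN : y ∈ N) (hyU : y ∈ Cfsg.GU 4 F p) (hy5 : y ^ 5 = 1) (hy1 : y ≠ 1)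
    (x : GL (Fin 4) F) (hx : x ∈ Cfsg.GU 4 F p ⊓ Cfsg.Geo.specialLinear (Fin 4) F) (z : F)
    (hxz : ((x ^ 5 : GL (Fin 4) F) : Matrix (Fin 4) (Fin 4) F) = z • (1 : Matrix (Fin 4) (Fin 4) F))
    (hns : ∀ c : F, (x : Matrix (Fin 4) (Fin 4) F) ≠ c • (1 : Matrix (Fin 4) (Fin 4) F)) :
    ∃ g ∈ Cfsg.GU 4 F p ⊓ Cfsg.Geo.specialLinear (Fin 4) F, g⁻¹ * x * g ∈ N := by
  classical
  have hp : p.Prime := Fact.out
  have hp5 : p ≠ 5 := by
    intro h
    have := pow_orderOf_eq_one (p : ZMod 5)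
    rw [hord, h] at this
    exact absurd this (by decide)
  obtain ⟨k, hk⟩ := five_dvd_sq_add_one hord
  have hcop : (Nat.card Fˣ).Coprime 5 := by
    rw [Nat.card_units, Nat.card_eq_fintype_card, hF, Nat.coprime_comm,
      Nat.Prime.coprime_iff_not_dvd (by norm_num)]
    intro hdvd
    have hp1 : 1 ≤ p ^ 2 := Nat.one_le_pow _ _ hp.pos
    omega
  obtain ⟨hxU, hxSL⟩ := Subgroup.mem_inf.1 hx
  obtain ⟨μ, x', hxx', hx'5, hx'SL⟩ :=
    Cfsg.Agent.Lib.Helper35_S6000_R5.exists_scalar_root 5 hcop x hxSL z hxz (by norm_num)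
  set S := Matrix.GeneralLinearGroup.scalar (Fin 4) (R := F) with hS
  -- `z = μ ^ 5`
  have hcomm : Commute (S μ) x' := Matrix.GeneralLinearGroup.scalar_commute _ _
  have hx5 : x ^ 5 = S (μ ^ 5) := by
    rw [hxx', hcomm.mul_pow, hx'5, mul_one, ← map_pow]
  have hz : z = ((μ ^ 5 : Fˣ) : F) := by
    have h1 := congrArg Units.val hx5
    rw [hxz, Cfsg.Agent.Lib.Helper35_S6000_R5.coe_scalar_eq] at h1
    have h2 := congrFun (congrFun h1 0) 0
    simpa using h2
  -- `z` has norm one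
  have hzU : Cfsg.Agent.Lib.Helper5_GUOrder.IsU 4 p (z • (1 : Matrix (Fin 4) (Fin 4) F)) := by
    rw [← hxz]
    exact (Cfsg.GU 4 F p).pow_mem hxU 5
  have hznorm : z * z ^ p = 1 := norm_of_scalar_isU hF z hzU
  -- `μ` has norm one
  have hμnorm : (μ : F) * (μ : F) ^ p = 1 := by
    have h1 : (μ ^ (p + 1)) ^ 5 = 1 := by
      apply Units.ext
      rw [← pow_mul, mul_comm, pow_mul]
      have hz' : z = (μ : F) ^ 5 := by rw [hz]; push_cast; rfl
      push_cast
      rw [← hz', pow_succ']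
      exact hznorm
    have h2 : μ ^ (p + 1) = 1 := by
      apply (powCoprime hcop).injective
      simp only [powCoprime, Equiv.coe_fn_mk]
      rw [h1, one_pow]
    have h3 := congrArg Units.val h2
    rw [pow_succ'] at h3
    push_cast at h3
    exact h3
  have hSμU : S μ ∈ Cfsg.GU 4 F p := by
    show Cfsg.Agent.Lib.Helper5_GUOrder.IsU 4 p ((S μ : GL (Fin 4) F) : Matrix (Fin 4) (Fin 4) F)
    rw [Cfsg.Agent.Lib.Helper35_S6000_R5.coe_scalar_eq]
    exact Cfsg.Agent.Lib.Helper5_GUOrder.isU_smul hF _ hμnorm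
  have hx'U : x' ∈ Cfsg.GU 4 F p := by
    have h1 : x' = (S μ)⁻¹ * x := by rw [hxx', inv_mul_cancel_left]
    rw [h1]
    exact (Cfsg.GU 4 F p).mul_mem ((Cfsg.GU 4 F p).inv_mem hSμU) hxU
  have hx'1 : x' ≠ 1 := by
    rintro h
    apply hns (μ : F)
    rw [hxx', h, mul_one, Cfsg.Agent.Lib.Helper35_S6000_R5.coe_scalar_eq]
  have hc : (x' : Matrix (Fin 4) (Fin 4) F).charpoly = (y : Matrix (Fin 4) (Fin 4) F).charpoly := by
    rw [charpoly_of_order5_U hF hord x' hx'U hx'5 hx'1, charpoly_of_order5_U hF hord y hyU hy5 hy1]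
  have h5p : Nat.Coprime 5 p := (Nat.coprime_primes (by norm_num) hp).2 (Ne.symm hp5)
  have hxo : (orderOf x').Coprime p :=
    Nat.Coprime.coprime_dvd_left (orderOf_dvd_of_pow_eq_one hx'5) h5p
  have hyo : (orderOf y).Coprime p :=
    Nat.Coprime.coprime_dvd_left (orderOf_dvd_of_pow_eq_one hy5) h5p
  obtain ⟨g, hg, hgc⟩ :=
    Cfsg.Agent.Lib.Helper58_S6001_UCONJ.exists_SU_conj hF x' y hx'U hyU hxo hyo hc
  refine ⟨g, hg, ?_⟩
  have hcomm2 : Commute (S μ) g⁻¹ := Matrix.GeneralLinearGroup.scalar_commute _ _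
  have h1 : g⁻¹ * x * g = S μ * y := by
    rw [hxx', ← hgc, ← mul_assoc g⁻¹, ← hcomm2.eq]
    simp only [mul_assoc]
  rw [h1]
  apply hscal y hyN
  refine ⟨(μ : F), ?_⟩
  rw [Units.val_mul, Cfsg.Agent.Lib.Helper35_S6000_R5.coe_scalar_eq, Matrix.smul_mul,
    Matrix.one_mul]

end Cfsg.Agent.Lib.Helper35_S6001_UR5
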