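/-
helper35: S6001 package PKG-UR2 (helper42): elements of `SU_4(p)`, `p ≡ 3 (mod 4)`, with scalar
square.
-/
import Mathlib
import Cfsg.Prelude.Def_GeometricClasses
import Cfsg.Prelude.Def_LieClassical
import Cfsg.Agent.Lib.Helper35_S6000_R2
import Cfsg.Agent.Lib.Helper35_S6001_UR5
import Cfsg.Agent.Lib.Helper58_S6001_UCONJ

set_option autoImplicit false
set_option linter.unreachableTactic false
set_option linter.unusedTactic false
open scoped MatrixGroups
open Matrix

namespace Cfsg.Agent.Lib.Helper35_S6001_UR2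

open Cfsg.Agent.Lib.Helper35_SLConj Cfsg.Agent.Lib.Helper40_SemisimpleGL
open Cfsg.Agent.Lib.Helper40_PGLInvol Cfsg.Agent.Lib.Helper35_S6000_R2
open Cfsg.Agent.Lib.Helper5_SUOrder

/-- a norm-one scalar multiple of an element of `GU` is in `GU` -/
theorem smulGL_mem_GU {F : Type*} [Field F] [Fintype F] {p : ℕ}
    (hF : Fintype.card F = p ^ 2) (c : F) (hc : c ≠ 0) (hcn : c * c ^ p = 1)
    (w : GL (Fin 4) F) (hw : w ∈ Cfsg.GU 4 F p) : smulGL c hc w ∈ Cfsg.GU 4 F p := by
  unfold smulGL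
  apply (Cfsg.GU 4 F p).mul_mem _ hw
  show Cfsg.Agent.Lib.Helper5_GUOrder.IsU 4 p
    ((Matrix.GeneralLinearGroup.scalar (Fin 4) (Units.mk0 c hc) : GL (Fin 4) F) :
      Matrix (Fin 4) (Fin 4) F)
  rw [Cfsg.Agent.Lib.Helper35_S6000_R5.coe_scalar_eq, Units.val_mk0]
  exact Cfsg.Agent.Lib.Helper5_GUOrder.isU_smul hF c hcn

/-- the trace relation for a unitary matrix with scalar square -/
theorem trace_pow_of_isU_sq {F : Type*} [Field F] [Fintype F] {p : ℕ}
    (hF : Fintype.card F = p ^ 2) (A : Matrix (Fin 4) (Fin 4) F)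
    (hA : Cfsg.Agent.Lib.Helper5_GUOrder.IsU 4 p A) (z : F) (hz0 : z ≠ 0)
    (hAA : A * A = z • (1 : Matrix (Fin 4) (Fin 4) F)) :
    A.trace ^ p = z⁻¹ * A.trace := by
  have hU := transpose_mul_map_of_isU hF hA
  have hT : Aᵀ * (z⁻¹ • A)ᵀ = 1 := by
    rw [← Matrix.transpose_mul, Matrix.smul_mul, hAA, smul_smul, inv_mul_cancel₀ hz0, one_smul,
      Matrix.transpose_one]
  have heq : (powQ hF).mapMatrix A = (z⁻¹ • A)ᵀ := by
    rw [← Matrix.inv_eq_right_inv hU, Matrix.inv_eq_right_inv hT]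
  have h1 := congrArg Matrix.trace heq
  rw [Matrix.trace_transpose, Matrix.trace_smul, smul_eq_mul] at h1
  rw [← h1]
  simp only [Matrix.trace, Matrix.diag_apply, RingHom.mapMatrix_apply, Matrix.map_apply]
  show (powQ hF) (∑ i, A i i) = _
  rw [map_sum]

/-- integers of the shape `m - (4 - m)` are fixed by the Frobenius map -/
theorem cast_sub_pow {F : Type*} [Field F] {p : ℕ} [Fact p.Prime] [CharP F p] (a b : ℕ) :
    ((a : F) - (b : F)) ^ p = (a : F) - (b : F) := by
  rw [sub_pow_char]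
  have h1 : ∀ n : ℕ, ((n : F)) ^ p = (n : F) := by
    intro n
    have := map_natCast (frobenius F p) n
    rwa [frobenius_def] at this
  rw [h1, h1]

/-- the norm of a square root of `z` from the trace relation -/
theorem norm_of_trace {F : Type*} [Field F] {p : ℕ} (t c ζ z : F) (hc : c ^ p = c)
    (hc0 : c ≠ 0) (hz : z = ζ * ζ) (hz0 : z ≠ 0) (ht : t = c * ζ) (htp : t ^ p = z⁻¹ * t) :
    ζ * ζ ^ p = 1 := by
  rw [ht, mul_pow, hc] at htp
  have h1 : ζ ^ p = z⁻¹ * ζ := by
    apply mul_left_cancel₀ hc0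
    rw [htp]; ring
  rw [h1, hz]
  have hζ0 : ζ ≠ 0 := by
    rintro rfl
    apply hz0; rw [hz]; ring
  field_simp

theorem two_case_SU {F : Type*} [Field F] [Fintype F] {p : ℕ} [Fact p.Prime] [CharP F p]
    (hF : Fintype.card F = p ^ 2) (hp4 : p % 4 = 3)
    (N : Subgroup (GL (Fin 4) F))
    (hscal : ∀ g ∈ N, ∀ g' : GL (Fin 4) F, (∃ c : F, (g' : Matrix (Fin 4) (Fin 4) F) =
      c • (g : Matrix (Fin 4) (Fin 4) F)) → g' ∈ N)
    (ι : F) (hι : ι * ι = -1)
    (u : GL (Fin 4) F) (huN : u ∈ N) (huU : u ∈ Cfsg.GU 4 F p)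
    (hu2 : (u : Matrix (Fin 4) (Fin 4) F) * (u : Matrix (Fin 4) (Fin 4) F) = 1)
    (hutr : Matrix.trace (u : Matrix (Fin 4) (Fin 4) F) = 0)
    (s : GL (Fin 4) F) (hsN : s ∈ N) (hsU : s ∈ Cfsg.GU 4 F p)
    (hs2 : (s : Matrix (Fin 4) (Fin 4) F) * (s : Matrix (Fin 4) (Fin 4) F) = 1)
    (hstr : Matrix.trace (s : Matrix (Fin 4) (Fin 4) F) = 2)
    (hsns : ∀ c : F, (s : Matrix (Fin 4) (Fin 4) F) ≠ c • (1 : Matrix (Fin 4) (Fin 4) F))
    (x : GL (Fin 4) F) (hx : x ∈ Cfsg.GU 4 F p ⊓ Cfsg.Geo.specialLinear (Fin 4) F) (z : F)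
    (hxz : ((x ^ 2 : GL (Fin 4) F) : Matrix (Fin 4) (Fin 4) F) = z • (1 : Matrix (Fin 4) (Fin 4) F))
    (hns : ∀ c : F, (x : Matrix (Fin 4) (Fin 4) F) ≠ c • (1 : Matrix (Fin 4) (Fin 4) F)) :
    ∃ g ∈ Cfsg.GU 4 F p ⊓ Cfsg.Geo.specialLinear (Fin 4) F, g⁻¹ * x * g ∈ N := by
  classical
  have hp : p.Prime := Fact.out
  have hp2 : p ≠ 2 := by omega
  have h2 : (2 : F) ≠ 0 := by
    intro h
    have h1 : ((2 : ℕ) : F) = 0 := by exact_mod_cast h
    have h3 := (CharP.cast_eq_zero_iff F p 2).mp h1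
    exact hp2 ((Nat.prime_dvd_prime_iff_eq hp Nat.prime_two).mp h3)
  obtain ⟨hxU, hxSL⟩ := Subgroup.mem_inf.1 hx
  have hm11 : (-1 : F) ≠ 1 := neg_one_ne_one h2
  set A : Matrix (Fin 4) (Fin 4) F := (x : Matrix (Fin 4) (Fin 4) F) with hAdef
  have hAU : Cfsg.Agent.Lib.Helper5_GUOrder.IsU 4 p A := hxU
  have hAA : A * A = z • (1 : Matrix (Fin 4) (Fin 4) F) := by
    rw [← hxz, pow_two, Units.val_mul]
  have hdetA : A.det = 1 := det_eq_one_of_mem hxSL
  have hz4 : z ^ 4 = 1 := by
    have h := congrArg Matrix.det hAA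
    rw [Matrix.det_mul, hdetA, Matrix.det_smul, Matrix.det_one, Fintype.card_fin] at h
    simpa using h.symm
  have hz0 : z ≠ 0 := by
    rintro rfl
    simp at hz4
  have htrace : A.trace ^ p = z⁻¹ * A.trace := trace_pow_of_isU_sq hF A hAU z hz0 hAA
  have h8p : Nat.Coprime 8 p := by
    have : Nat.Coprime 2 p := (Nat.coprime_primes Nat.prime_two hp).2 (Ne.symm hp2)
    exact Nat.Coprime.pow_left 3 this
  have hx8 : x ^ 8 = 1 := by
    apply Units.ext
    have h1 : ((x ^ 8 : GL (Fin 4) F) : Matrix (Fin 4) (Fin 4) F) =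
        ((x ^ 2 : GL (Fin 4) F) : Matrix (Fin 4) (Fin 4) F) ^ 4 := by
      rw [← Units.val_pow_eq_pow_val, ← pow_mul]
    rw [h1, hxz, smul_pow, one_pow, hz4, one_smul, Units.val_one]
  -- the key step
  have key : ∀ (w : GL (Fin 4) F) (l : F), w ∈ N → w ∈ Cfsg.GU 4 F p → l ≠ 0 → z = l * l →
      (w : Matrix (Fin 4) (Fin 4) F) * (w : Matrix (Fin 4) (Fin 4) F) =
        z • (1 : Matrix (Fin 4) (Fin 4) F) →
      eigDim A l = eigDim (w : Matrix (Fin 4) (Fin 4) F) l →
      ∃ g ∈ Cfsg.GU 4 F p ⊓ Cfsg.Geo.specialLinear (Fin 4) F, g⁻¹ * x * g ∈ N := by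
    intro w l hwN hwU hl hzl hww hdim
    have hc : A.charpoly = (w : Matrix (Fin 4) (Fin 4) F).charpoly :=
      charpoly_eq_of_eigDim A _ l hl h2 (by rw [hAA, hzl]) (by rw [hww, hzl]) hdim
    have hw8 : w ^ 8 = 1 := by
      apply Units.ext
      have h1 : ((w ^ 8 : GL (Fin 4) F) : Matrix (Fin 4) (Fin 4) F) =
          ((w : Matrix (Fin 4) (Fin 4) F) * (w : Matrix (Fin 4) (Fin 4) F)) ^ 4 := by
        rw [Units.val_pow_eq_pow_val, ← pow_two, ← pow_mul]
      rw [h1, hww, smul_pow, one_pow, hz4, one_smul, Units.val_one]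
    have hxo : (orderOf x).Coprime p :=
      Nat.Coprime.coprime_dvd_left (orderOf_dvd_of_pow_eq_one hx8) h8p
    have hwo : (orderOf w).Coprime p :=
      Nat.Coprime.coprime_dvd_left (orderOf_dvd_of_pow_eq_one hw8) h8p
    obtain ⟨g, hg, hgc⟩ :=
      Cfsg.Agent.Lib.Helper58_S6001_UCONJ.exists_SU_conj hF x w hxU hwU hxo hwo hc
    exact ⟨g, hg, by rw [hgc]; exact hwN⟩
  -- invariants of `u` and `s`
  set U : Matrix (Fin 4) (Fin 4) F := (u : Matrix (Fin 4) (Fin 4) F) with hUdef
  set S : Matrix (Fin 4) (Fin 4) F := (s : Matrix (Fin 4) (Fin 4) F) with hSdef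
  have h4 : (4 : F) ≠ 0 := by
    have : (4 : F) = 2 * 2 := by norm_num
    rw [this]; exact mul_ne_zero h2 h2
  have hU1 : U * U = ((1 : F) * 1) • (1 : Matrix (Fin 4) (Fin 4) F) := by
    rw [hu2, mul_one, one_smul]
  have hS1 : S * S = ((1 : F) * 1) • (1 : Matrix (Fin 4) (Fin 4) F) := by
    rw [hs2, mul_one, one_smul]
  -- `u` has eigenspace dimensions (2, 2)
  have huF : eigDim U 1 = 2 := by
    obtain ⟨m, hm4, hm1, hm2, htr, hdet⟩ := sq_facts U 1 one_ne_zero h2 hU1
    rw [hutr] at htr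
    interval_cases m
    · exfalso; apply h4; norm_num at htr; first | exact htr | exact htr.symm | linear_combination htr | linear_combination -htr
    · exfalso; apply h2; norm_num at htr; first | exact htr | exact htr.symm | linear_combination htr | linear_combination -htr
    · exact hm1
    · exfalso; apply h2; norm_num at htr; first | exact htr | exact htr.symm | linear_combination htr | linear_combination -htr
    · exfalso; apply h4; norm_num at htr; first | exact htr | exact htr.symm | linear_combination htr | linear_combination -htr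
  -- `s` has eigenspace dimensions (3, 1)
  have hsF : eigDim S 1 = 3 ∧ eigDim S (-1) = 1 := by
    obtain ⟨m, hm4, hm1, hm2, htr, hdet⟩ := sq_facts S 1 one_ne_zero h2 hS1
    rw [hstr] at htr
    interval_cases m
    · exfalso
      apply hsns (-1)
      exact eq_smul_one_of_eigDim S (-1) (by rw [hm2])
    · exfalso; apply h4; norm_num at htr; first | exact htr | exact htr.symm | linear_combination htr | linear_combination -htr
    · exfalso; apply h2; norm_num at htr; first | exact htr | exact htr.symm | linear_combination htr | linear_combination -htr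
    · exact ⟨hm1, by rw [hm2]⟩
    · exfalso; apply h2; norm_num at htr; first | exact htr | exact htr.symm | linear_combination htr | linear_combination -htr
  -- the two main cases
  have hcases : z * z = 1 ∨ z * z = -1 := by
    have : (z * z - 1) * (z * z + 1) = 0 := by linear_combination hz4
    rcases mul_eq_zero.mp this with h | h
    · left; exact sub_eq_zero.mp h
    · right; exact eq_neg_of_add_eq_zero_left h
  rcases hcases with hzz | hzz
  · -- `z = 1` or `z = -1`
    have hz1 : z = 1 ∨ z = -1 := by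
      have : (z - 1) * (z + 1) = 0 := by linear_combination hzz
      rcases mul_eq_zero.mp this with h | h
      · left; exact sub_eq_zero.mp h
      · right; exact eq_neg_of_add_eq_zero_left h
    rcases hz1 with rfl | rfl
    · -- `z = 1`: `x ~ u`
      have hA1 : A * A = ((1 : F) * 1) • (1 : Matrix (Fin 4) (Fin 4) F) := by
        rw [hAA, mul_one]
      obtain ⟨m, hm4, hm1, hm2, htr, hdet⟩ := sq_facts A 1 one_ne_zero h2 hA1
      rw [hdetA] at hdet
      have hm : m = 2 := by
        interval_cases m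
        · exfalso
          apply hns (-1)
          exact eq_smul_one_of_eigDim A (-1) (by rw [hm2])
        · exfalso; apply hm11; norm_num at hdet; exact hdet.symm
        · rfl
        · exfalso; apply hm11; norm_num at hdet; exact hdet.symm
        · exfalso
          apply hns 1
          exact eq_smul_one_of_eigDim A 1 (by rw [hm1])
      subst hm
      refine key u 1 huN huU one_ne_zero (by ring) (by rw [hu2, one_smul]) ?_
      rw [hm1, huF]
    · -- `z = -1`: `x ~ ι • u`
      have hι0 : ι ≠ 0 := by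
        rintro rfl
        simp at hι
      have hι4 : ι ^ 4 = 1 := by
        have : ι ^ 4 = (ι * ι) * (ι * ι) := by ring
        rw [this, hι]; ring
      have hιn : ι * ι ^ p = 1 := by
        rw [← pow_succ']
        have h1 : p + 1 = 4 * (p / 4 + 1) := by omega
        rw [h1, pow_mul, hι4, one_pow]
      have hA1 : A * A = (ι * ι) • (1 : Matrix (Fin 4) (Fin 4) F) := by
        rw [hAA, hι]
      obtain ⟨m, hm4, hm1, hm2, htr, hdet⟩ := sq_facts A ι hι0 h2 hA1
      rw [hdetA] at hdet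
      have hm : m = 2 := by
        interval_cases m
        · exfalso
          apply hns (-ι)
          exact eq_smul_one_of_eigDim A (-ι) (by rw [hm2])
        · exfalso; apply hm11
          have : ι ^ 1 * (-ι) ^ (4 - 1) = -(ι ^ 4) := by ring
          rw [this, hι4] at hdet; exact hdet.symm
        · rfl
        · exfalso; apply hm11
          have : ι ^ 3 * (-ι) ^ (4 - 3) = -(ι ^ 4) := by ring
          rw [this, hι4] at hdet; exact hdet.symm
        · exfalso
          apply hns ι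
          exact eq_smul_one_of_eigDim A ι (by rw [hm1])
      subst hm
      refine key (smulGL ι hι0 u) ι ?_ (smulGL_mem_GU hF ι hι0 hιn u huU) hι0 hι.symm ?_ ?_
      · exact hscal u huN _ ⟨ι, coe_smulGL ι hι0 u⟩
      · rw [coe_smulGL, Matrix.smul_mul, Matrix.mul_smul, smul_smul, hu2, hι]
      · rw [hm1, coe_smulGL]
        have := eigDim_smul U ι 1 hι0
        rw [mul_one] at this
        rw [this, huF]
  · -- `z * z = -1`: `z` is a square since `8 ∣ p ^ 2 - 1`
    have hsq : IsSquare z := by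
      have hrc : ringChar F ≠ 2 := by
        rw [ringChar.eq F p]
        exact hp2
      rw [FiniteField.isSquare_iff hrc hz0, hF]
      have h1 : p ^ 2 / 2 = 4 * (2 * (p / 4) ^ 2 + 3 * (p / 4) + 1) := by
        have h2 : p = 4 * (p / 4) + 3 := by omega
        set j := p / 4 with hj
        rw [h2]
        have h3 : (4 * j + 3) ^ 2 = 2 * (4 * (2 * j ^ 2 + 3 * j + 1)) + 1 := by ring
        rw [h3]
        omega
      rw [h1, pow_mul, hz4, one_pow]
    obtain ⟨ζ, hζ⟩ := hsq
    have hζ0 : ζ ≠ 0 := by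
      rintro rfl
      apply hz0; rw [hζ]; ring
    have hζ4 : ζ ^ 4 = -1 := by
      have : ζ ^ 4 = (ζ * ζ) * (ζ * ζ) := by ring
      rw [this, ← hζ, hzz]
    have hA1 : A * A = (ζ * ζ) • (1 : Matrix (Fin 4) (Fin 4) F) := by
      rw [hAA, hζ]
    obtain ⟨m, hm4, hm1, hm2, htr, hdet⟩ := sq_facts A ζ hζ0 h2 hA1
    rw [hdetA] at hdet
    have hm : m = 1 ∨ m = 3 := by
      interval_cases m
      · exfalso; apply hm11
        have : ζ ^ 0 * (-ζ) ^ (4 - 0) = ζ ^ 4 := by ring
        rw [this, hζ4] at hdet; exact hdet.symm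
      · left; rfl
      · exfalso; apply hm11
        have : ζ ^ 2 * (-ζ) ^ (4 - 2) = ζ ^ 4 := by ring
        rw [this, hζ4] at hdet; exact hdet.symm
      · right; rfl
      · exfalso; apply hm11
        have : ζ ^ 4 * (-ζ) ^ (4 - 4) = ζ ^ 4 := by ring
        rw [this, hζ4] at hdet; exact hdet.symm
    -- the norm of `ζ`
    have hζn : ζ * ζ ^ p = 1 := by
      have htr' : A.trace = ((m : F) - ((4 - m : ℕ) : F)) * ζ := by rw [htr]; ring
      apply norm_of_trace A.trace ((m : F) - ((4 - m : ℕ) : F)) ζ z (cast_sub_pow m (4 - m)) ?_ hζ hz0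
        htr' htrace
      rcases hm with rfl | rfl
      · norm_num
        intro h
        first | exact h2 h | (apply h2; linear_combination h) | (apply h2; linear_combination -h)
      · norm_num
        intro h
        first | exact h2 h | (apply h2; linear_combination h) | (apply h2; linear_combination -h)
    have hnζn : (-ζ) * (-ζ) ^ p = 1 := by
      have hodd : Odd p := hp.odd_of_ne_two hp2
      rw [hodd.neg_pow]
      linear_combination hζn
    rcases hm with rfl | rfl
    · -- `m = 1`: `x ~ (-ζ) • s`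
      have hnζ0 : -ζ ≠ 0 := neg_ne_zero.mpr hζ0
      refine key (smulGL (-ζ) hnζ0 s) ζ ?_ (smulGL_mem_GU hF (-ζ) hnζ0 hnζn s hsU) hζ0 hζ ?_ ?_
      · exact hscal s hsN _ ⟨-ζ, coe_smulGL (-ζ) hnζ0 s⟩
      · rw [coe_smulGL, Matrix.smul_mul, Matrix.mul_smul, smul_smul, hs2, hζ]
        congr 1; ring
      · rw [hm1, coe_smulGL]
        have := eigDim_smul S (-ζ) (-1) hnζ0
        rw [show -ζ * -1 = ζ by ring] at this
        rw [this, hsF.2]
    · -- `m = 3`: `x ~ ζ • s`
      refine key (smulGL ζ hζ0 s) ζ ?_ (smulGL_mem_GU hF ζ hζ0 hζn s hsU) hζ0 hζ ?_ ?_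
      · exact hscal s hsN _ ⟨ζ, coe_smulGL ζ hζ0 s⟩
      · rw [coe_smulGL, Matrix.smul_mul, Matrix.mul_smul, smul_smul, hs2, hζ]
      · rw [hm1, coe_smulGL]
        have := eigDim_smul S ζ 1 hζ0
        rw [mul_one] at this
        rw [this, hsF.1]

end Cfsg.Agent.Lib.Helper35_S6001_UR2
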