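import Mathlib

/-!
`SL₂(F)` over a finite field of odd order: the only involution is `-1` (`negOne`), there are
elements squaring to `-1` (`wElt`), and any two of them are conjugate in `SL₂(F)`.
Matrix-level lemmas first, then the versions for `Matrix.SpecialLinearGroup (Fin 2) F`.
-/

set_option autoImplicit false

namespace Cfsg.Agent.Lib.Helper53_SL2

open Matrix

variable {F : Type*} [Field F]

theorem entries_mul (m n : Matrix (Fin 2) (Fin 2) F) (i j : Fin 2) :
    (m * n) i j = m i 0 * n 0 j + m i 1 * n 1 j := by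
  rw [Matrix.mul_apply, Fin.sum_univ_two]

theorem mat_ext_iff {R : Type*} (m n : Matrix (Fin 2) (Fin 2) R) :
    m = n ↔ m 0 0 = n 0 0 ∧ m 0 1 = n 0 1 ∧ m 1 0 = n 1 0 ∧ m 1 1 = n 1 1 := by
  constructor
  · rintro rfl; exact ⟨rfl, rfl, rfl, rfl⟩
  · rintro ⟨h1, h2, h3, h4⟩
    ext i j
    fin_cases i <;> fin_cases j <;> assumption

/-- field-level version of "the only involutions are ±1" -/
theorem fieldA (h2 : (2 : F) ≠ 0) (a b c d : F) (hdet : a * d - b * c = 1)
    (h00 : a * a + b * c = 1) (h01 : a * b + b * d = 0) (h10 : c * a + d * c = 0) :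
    (a = 1 ∧ b = 0 ∧ c = 0 ∧ d = 1) ∨ (a = -1 ∧ b = 0 ∧ c = 0 ∧ d = -1) := by
  have htr : a + d ≠ 0 := by
    intro h
    have hd : d = -a := by linear_combination h
    rw [hd] at hdet
    apply h2
    linear_combination -h00 - hdet
  have hb : b = 0 := by
    have : b * (a + d) = 0 := by linear_combination h01
    rcases mul_eq_zero.mp this with h | h
    · exact h
    · exact absurd h htr
  have hc : c = 0 := by
    have : c * (a + d) = 0 := by linear_combination h10
    rcases mul_eq_zero.mp this with h | h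
    · exact h
    · exact absurd h htr
  rw [hb, hc] at hdet h00
  have had : a = d := by
    have : a * (a * d) = d * (a * a) := by ring
    have h3 : a * d = 1 := by linear_combination hdet
    have h4 : a * a = 1 := by linear_combination h00
    rw [h3, h4] at this
    linear_combination this
  have ha : (a - 1) * (a + 1) = 0 := by linear_combination h00
  rcases mul_eq_zero.mp ha with h | h
  · left
    exact ⟨by linear_combination h, hb, hc, by linear_combination h - had⟩
  · right
    exact ⟨by linear_combination h, hb, hc, by linear_combination h - had⟩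

theorem matA (h2 : (2 : F) ≠ 0) (m : Matrix (Fin 2) (Fin 2) F) (hdet : m.det = 1)
    (hg : m * m = 1) : m = 1 ∨ m = -1 := by
  rw [det_fin_two] at hdet
  rw [mat_ext_iff] at hg
  simp only [entries_mul, one_apply_eq, ne_eq, zero_ne_one,
    not_false_eq_true, one_apply_ne, one_ne_zero] at hg
  obtain ⟨h00, h01, h10, _⟩ := hg
  rcases fieldA h2 _ _ _ _ hdet h00 h01 h10 with ⟨h1, h2, h3, h4⟩ | ⟨h1, h2, h3, h4⟩
  · left
    rw [mat_ext_iff]
    simp [h1, h2, h3, h4]
  · right
    rw [mat_ext_iff]
    simp [h1, h2, h3, h4]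

theorem exists_sq_add_sq [Fintype F] (hF : Fintype.card F % 2 = 1) (x : F) :
    ∃ a b : F, a ^ 2 + b ^ 2 = x := by
  obtain ⟨a, b, hab⟩ : ∃ a b, (Polynomial.X ^ 2 : Polynomial F).eval a +
      (Polynomial.X ^ 2 - Polynomial.C x : Polynomial F).eval b = 0 :=
    FiniteField.exists_root_sum_quadratic (Polynomial.degree_X_pow 2)
      (Polynomial.degree_X_pow_sub_C (by decide) _) hF
  refine ⟨a, b, ?_⟩
  rw [← sub_eq_zero]
  simpa only [Polynomial.eval_C, Polynomial.eval_X, Polynomial.eval_pow,
    Polynomial.eval_sub, ← add_sub_assoc] using hab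

/-- field-level: trace zero and a vector `v` with `det [v, g v] = 1` -/
theorem fieldB [Fintype F] (hF : Fintype.card F % 2 = 1) (h2 : (2 : F) ≠ 0) (a b c d : F)
    (hdet : a * d - b * c = 1)
    (h00 : a * a + b * c = -1) (h01 : a * b + b * d = 0) (h10 : c * a + d * c = 0)
    (h11 : c * b + d * d = -1) :
    d = -a ∧ ∃ v1 v2 : F, c * v1 ^ 2 - 2 * a * v1 * v2 - b * v2 ^ 2 = 1 := by
  have htr : a + d = 0 := by
    by_contra htr
    have hb0 : b = 0 := by
      have : b * (a + d) = 0 := by linear_combination h01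
      rcases mul_eq_zero.mp this with h | h
      · exact h
      · exact absurd h htr
    have hc0 : c = 0 := by
      have : c * (a + d) = 0 := by linear_combination h10
      rcases mul_eq_zero.mp this with h | h
      · exact h
      · exact absurd h htr
    rw [hb0, hc0] at hdet h00 h11
    have h5 : (a - d) * (a + d) = 0 := by linear_combination h00 - h11
    rcases mul_eq_zero.mp h5 with h | h
    · have had : a = d := by linear_combination h
      rw [← had] at hdet
      apply h2
      linear_combination h00 - hdet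
    · exact htr h
  have hd' : d = -a := by linear_combination htr
  refine ⟨hd', ?_⟩
  by_cases hc0 : c = 0
  · have ha0 : a ≠ 0 := by
      intro ha0
      rw [hc0, ha0] at h00
      simp at h00
    refine ⟨-(1 + b) / (2 * a), 1, ?_⟩
    rw [hc0]
    field_simp
    ring
  · obtain ⟨s, t, hst⟩ := exists_sq_add_sq hF c
    refine ⟨s / c + a / c * t, t, ?_⟩
    field_simp
    linear_combination hst - (t ^ 2) * h00

/-- the matrix `w = [[0,-1],[1,0]]` -/
def wMat : Matrix (Fin 2) (Fin 2) F := !![0, -1; 1, 0]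

theorem wMat_det : (wMat : Matrix (Fin 2) (Fin 2) F).det = 1 := by
  simp [wMat, det_fin_two]

theorem wMat_mul_self : (wMat : Matrix (Fin 2) (Fin 2) F) * wMat = -1 := by
  rw [mat_ext_iff]
  simp [wMat, entries_mul]

theorem matB [Fintype F] (hF : Fintype.card F % 2 = 1) (h2 : (2 : F) ≠ 0)
    (m : Matrix (Fin 2) (Fin 2) F) (hdet : m.det = 1) (hg : m * m = -1) :
    ∃ P : Matrix (Fin 2) (Fin 2) F, P.det = 1 ∧ P * wMat = m * P := by
  rw [det_fin_two] at hdet
  rw [mat_ext_iff] at hg
  simp only [entries_mul, Matrix.neg_apply, one_apply_eq, ne_eq, zero_ne_one,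
    not_false_eq_true, one_apply_ne, one_ne_zero, neg_zero] at hg
  obtain ⟨h00, h01, h10, h11⟩ := hg
  obtain ⟨hd, v1, v2, hv⟩ := fieldB hF h2 _ _ _ _ hdet h00 h01 h10 h11
  refine ⟨!![v1, m 0 0 * v1 + m 0 1 * v2; v2, m 1 0 * v1 + m 1 1 * v2], ?_, ?_⟩
  · rw [det_fin_two_of, hd]
    linear_combination hv
  · rw [mat_ext_iff]
    simp only [entries_mul, wMat, of_apply, cons_val', cons_val_zero, cons_val_fin_one,
      cons_val_one]
    refine ⟨by ring, ?_, by ring, ?_⟩
    · linear_combination (-v1) * h00 - v2 * h01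
    · linear_combination (-v1) * h10 - v2 * h11

/-! ### `SL₂` versions -/

/-- `-1` as an element of `SL₂(F)` -/
def negOne : SpecialLinearGroup (Fin 2) F := ⟨-1, by simp [det_neg]⟩

/-- the element `w = [[0,-1],[1,0]]` of order 4 -/
def wElt : SpecialLinearGroup (Fin 2) F := ⟨wMat, wMat_det⟩

theorem val_mul (g h : SpecialLinearGroup (Fin 2) F) : (g * h).1 = g.1 * h.1 := rfl

theorem val_one : (1 : SpecialLinearGroup (Fin 2) F).1 = 1 := rfl

theorem negOne_mul_self : (negOne : SpecialLinearGroup (Fin 2) F) * negOne = 1 := by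
  apply Subtype.ext
  show (-1 : Matrix (Fin 2) (Fin 2) F) * (-1) = 1
  simp

theorem wElt_mul_self : (wElt : SpecialLinearGroup (Fin 2) F) * wElt = negOne := by
  apply Subtype.ext
  exact wMat_mul_self

theorem negOne_ne_one (h2 : (2 : F) ≠ 0) : (negOne : SpecialLinearGroup (Fin 2) F) ≠ 1 := by
  intro h
  have h1 : (-1 : Matrix (Fin 2) (Fin 2) F) = 1 := congrArg Subtype.val h
  have h3 := congrFun (congrFun h1 0) 0
  simp only [Matrix.neg_apply, one_apply_eq] at h3
  apply h2
  linear_combination -h3

theorem negOne_central (g : SpecialLinearGroup (Fin 2) F) : g * negOne = negOne * g := by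
  apply Subtype.ext
  show g.1 * (-1 : Matrix (Fin 2) (Fin 2) F) = (-1) * g.1
  simp

/-- the only elements of `SL₂(F)` squaring to `1` are `±1` (characteristic not 2) -/
theorem eq_one_or_negOne_of_mul_self (h2 : (2 : F) ≠ 0) (g : SpecialLinearGroup (Fin 2) F)
    (hg : g * g = 1) : g = 1 ∨ g = negOne := by
  have h : g.1 * g.1 = 1 := congrArg Subtype.val hg
  rcases matA h2 g.1 g.2 h with h1 | h1
  · left; exact Subtype.ext h1
  · right; exact Subtype.ext h1

/-- any element of `SL₂(F)` squaring to `-1` is conjugate to `wElt` -/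
theorem exists_conj_of_mul_self_eq_negOne [Fintype F] (hF : Fintype.card F % 2 = 1)
    (h2 : (2 : F) ≠ 0) (g : SpecialLinearGroup (Fin 2) F) (hg : g * g = negOne) :
    ∃ P : SpecialLinearGroup (Fin 2) F, P * wElt * P⁻¹ = g := by
  have h : g.1 * g.1 = -1 := congrArg Subtype.val hg
  obtain ⟨P, hP, hPw⟩ := matB hF h2 g.1 g.2 h
  let P' : SpecialLinearGroup (Fin 2) F := ⟨P, hP⟩
  have key : P' * wElt = g * P' := Subtype.ext hPw
  exact ⟨P', mul_inv_eq_iff_eq_mul.mpr key⟩

/-- `(2 : F) ≠ 0` in a finite field of odd order -/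
theorem two_ne_zero_of_card_odd [Fintype F] (hF : Fintype.card F % 2 = 1) : (2 : F) ≠ 0 := by
  intro h
  have hchar : ringChar F = 2 := by
    have : ringChar F ∣ 2 := by
      rw [← ringChar.spec F 2]
      exact_mod_cast h
    rcases (Nat.dvd_prime Nat.prime_two).mp this with h1 | h1
    · exfalso
      exact CharP.ringChar_ne_one (R := F) h1
    · exact h1
  have := FiniteField.even_card_of_char_two hchar
  omega

end Cfsg.Agent.Lib.Helper53_SL2
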