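import Mathlib
import Cfsg.Prelude.Def_KGroupFacts

set_option autoImplicit false

/-!
# Stem extensions and cyclic subgroups (helper59)

If `σ : Γ →* G` is a stem extension (kernel central and inside the commutator subgroup) and
`L ≤ G` is a cyclic subgroup of finite index, then every element of the kernel is killed by
`L.index` (transfer into the abelian subgroup `σ⁻¹(L)`).  Consequently, if `G` has cyclic
subgroups of coprime indices, its Schur multiplier is trivial.
-/

namespace Cfsg.Agent.Lib.Helper59_Stem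

open Subgroup MonoidHom
open scoped IsMulCommutative

variable {Γ G : Type*} [Group Γ] [Group G]

/-- The preimage of a cyclic subgroup under a homomorphism with central kernel is commutative. -/
theorem isMulCommutative_comap (σ : Γ →* G) (hc : σ.ker ≤ center Γ) (L : Subgroup G)
    [hL : IsCyclic L] : IsMulCommutative (L.comap σ) := by
  apply MonoidHom.isMulCommutative_of_isCyclic_of_ker_le_center (σ.subgroupComap L)
  intro h hh
  rw [Subgroup.mem_center_iff]
  intro g
  have h1 : (h : Γ) ∈ σ.ker := by
    rw [MonoidHom.mem_ker] at hh ⊢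
    have := congrArg Subtype.val hh
    exact this
  have h2 := Subgroup.mem_center_iff.1 (hc h1) (g : Γ)
  exact Subtype.ext h2

/-- Elements of the kernel of a stem extension are killed by the index of any cyclic subgroup. -/
theorem ker_pow_index_eq_one (σ : Γ →* G) (hs : Function.Surjective σ) (hc : σ.ker ≤ center Γ)
    (hd : σ.ker ≤ commutator Γ) (L : Subgroup G) [IsCyclic L] [L.FiniteIndex]
    (z : Γ) (hz : z ∈ σ.ker) : z ^ L.index = 1 := by
  set H := L.comap σ with hH
  have hidx : H.index = L.index := Subgroup.index_comap_of_surjective L hs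
  have : H.FiniteIndex := ⟨by rw [hidx]; exact Subgroup.FiniteIndex.index_ne_zero⟩
  have hcomm : IsMulCommutative H := isMulCommutative_comap σ hc L
  have hzc : z ∈ center Γ := hc hz
  have key : ∀ (k : ℕ) (g₀ : Γ), g₀⁻¹ * z ^ k * g₀ ∈ H → g₀⁻¹ * z ^ k * g₀ = z ^ k := by
    intro k g₀ _
    have := Subgroup.mem_center_iff.1 ((center Γ).pow_mem hzc k) g₀
    rw [mul_assoc, ← this, ← mul_assoc, inv_mul_cancel, one_mul]
  have h1 := transfer_eq_pow (MonoidHom.id H) z key
  have h2 : transfer (MonoidHom.id H) z = 1 := by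
    have := Abelianization.commutator_subset_ker (transfer (MonoidHom.id H)) (hd hz)
    exact MonoidHom.mem_ker.1 this
  rw [h2] at h1
  have := congrArg Subtype.val h1
  rw [← hidx]
  simpa using this.symm

/-- If `G` has two cyclic subgroups of coprime (finite) indices, every stem extension of `G` has
trivial kernel. -/
theorem ker_eq_bot_of_coprime (σ : Γ →* G) (hs : Function.Surjective σ) (hc : σ.ker ≤ center Γ)
    (hd : σ.ker ≤ commutator Γ) (L₁ L₂ : Subgroup G) [IsCyclic L₁] [IsCyclic L₂]
    [L₁.FiniteIndex] [L₂.FiniteIndex] (hcop : Nat.Coprime L₁.index L₂.index) : σ.ker = ⊥ := by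
  rw [eq_bot_iff]
  intro z hz
  rw [Subgroup.mem_bot]
  have h1 := ker_pow_index_eq_one σ hs hc hd L₁ z hz
  have h2 := ker_pow_index_eq_one σ hs hc hd L₂ z hz
  have h3 : orderOf z ∣ Nat.gcd L₁.index L₂.index :=
    Nat.dvd_gcd (orderOf_dvd_of_pow_eq_one h1) (orderOf_dvd_of_pow_eq_one h2)
  rw [hcop.gcd_eq_one, Nat.dvd_one] at h3
  exact orderOf_eq_one_iff.1 h3

/-- Trivial Schur multiplier from two cyclic subgroups of coprime indices. -/
theorem hasCyclicSchurMultiplier_one_of_coprime {G : Type} [Group G] [Finite G]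
    (L₁ L₂ : Subgroup G) [IsCyclic L₁] [IsCyclic L₂]
    (hcop : Nat.Coprime L₁.index L₂.index) : Cfsg.HasCyclicSchurMultiplier G 1 := by
  refine ⟨⟨G, inferInstance, inferInstance, MonoidHom.id G, ⟨Function.surjective_id, ?_, ?_⟩, ?_⟩,
    ?_⟩
  · rw [MonoidHom.ker_id]; exact bot_le
  · rw [MonoidHom.ker_id]; exact bot_le
  · have hu : ∀ x : (MonoidHom.id G).ker, x = 1 := by
      intro x
      have h1 : (x : G) ∈ (MonoidHom.id G).ker := x.2
      rw [MonoidHom.mem_ker] at h1
      exact Subtype.ext h1
    exact ⟨{ toFun := fun _ => 1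
             invFun := fun _ => 1
             left_inv := fun x => (hu x).symm
             right_inv := fun x => Subsingleton.elim _ _
             map_mul' := fun _ _ => by simp }⟩
  · intro Γ _ _ σ hσ
    obtain ⟨hs, hc, hd⟩ := hσ
    have hbot := ker_eq_bot_of_coprime σ hs hc hd L₁ L₂ hcop
    refine ⟨1, ?_⟩
    intro x
    refine ⟨1, ?_⟩
    have h1 : (x : Γ) ∈ σ.ker := x.2
    have h2 : (x : Γ) ∈ (⊥ : Subgroup Γ) := hbot ▸ h1
    rw [Subgroup.mem_bot] at h2
    exact (Subtype.ext h2).symm

end Cfsg.Agent.Lib.Helper59_Stem
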