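import Mathlib
import Cfsg.Prelude.Def_KGroupFacts
import Cfsg.Agent.Lib.Helper66_Stem
import Cfsg.Agent.Lib.Helper66_StemTools
import Cfsg.Agent.Lib.Helper59_Stem
import Cfsg.Agent.Lib.Helper5_PSLCard
import Cfsg.Agent.Lib.Helper53_SL2
import Cfsg.Agent.Lib.Helper50_UniqueInv2
import Cfsg.Agent.S0260
import Cfsg.Agent.S0262

set_option autoImplicit false
open Cfsg

/-! The Schur multiplier of `SL₂(q)` is trivial for `q ≠ 4, 9` (helper66). -/

namespace Cfsg.Agent.Lib.Helper66_SL2Mult

open Matrix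
open scoped MatrixGroups commutatorElement IsMulCommutative
open Cfsg.Agent.Lib.Helper66_StemTools
open Cfsg.Agent.S0260 (uT U uHom)
open Cfsg.Agent.S0262 (tor torusHom)

variable {F : Type*} [Field F]

theorem uT_add (β γ : F) : uT (β + γ) = uT β * uT γ :=
  map_mul uHom (Multiplicative.ofAdd β) (Multiplicative.ofAdd γ)

theorem uT_comm (β γ : F) : uT β * uT γ = uT γ * uT β := by
  rw [← uT_add, ← uT_add, add_comm]

theorem tor_conj_uT (a : F) (ha : a ≠ 0) (b : F) :
    tor (Units.mk0 a ha) * uT b * (tor (Units.mk0 a ha))⁻¹ = uT (a * a * b) := by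
  have := Cfsg.Agent.S0260.conj_uT_of_lower_zero (tor (Units.mk0 a ha)) (by simp [tor]) b
  simpa [tor] using this

section stem

variable [Fintype F] {Γ : Type*} [Group Γ] (σ : Γ →* SL(2, F))

/-- elements of the preimage of `U` commute, when `q` is not a prime, `4` or `9` -/
theorem commute_of_mem_comap_U (hs : Function.Surjective σ) (hc : σ.ker ≤ Subgroup.center Γ)
    (hnp : ¬ (Fintype.card F).Prime) (h4 : Fintype.card F ≠ 4) (h9 : Fintype.card F ≠ 9)
    (g g' : Γ) (hg : σ g ∈ (U : Subgroup SL(2, F))) (hg' : σ g' ∈ (U : Subgroup SL(2, F))) :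
    g * g' = g' * g := by
  classical
  let l : F → Γ := fun β => Function.surjInv hs (uT β)
  have hl : ∀ β, σ (l β) = uT β := fun β => Function.surjInv_eq hs (uT β)
  have hker : ∀ β γ, ⁅l β, l γ⁆ ∈ σ.ker := by
    intro β γ
    rw [MonoidHom.mem_ker, map_commutatorElement, hl, hl, commutatorElement_eq_one_iff_mul_comm]
    exact uT_comm β γ
  let c : F → F → Additive (Subgroup.center Γ) := fun β γ =>
    Additive.ofMul ⟨⁅l β, l γ⁆, hc (hker β γ)⟩
  have hc0 : ∀ x y, c x y = 0 := by
    apply pairing_eq_zero_of_card hnp h4 h9 c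
    · intro x x' y
      show Additive.ofMul _ = Additive.ofMul _ + Additive.ofMul _
      rw [← ofMul_mul]
      congr 1
      apply Subtype.ext
      show ⁅l (x + x'), l y⁆ = ⁅l x, l y⁆ * ⁅l x', l y⁆
      rw [← commutatorElement_mul_left_of_central _ _ _ (hc (hker x' y))]
      apply commutatorElement_congr_of_central σ hc
      · rw [hl, map_mul, hl, hl, uT_add]
      · rfl
    · intro x y y'
      show Additive.ofMul _ = Additive.ofMul _ + Additive.ofMul _
      rw [← ofMul_mul]
      congr 1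
      apply Subtype.ext
      show ⁅l x, l (y + y')⁆ = ⁅l x, l y⁆ * ⁅l x, l y'⁆
      rw [← commutatorElement_mul_right_of_central _ _ _ (hc (hker x y'))]
      apply commutatorElement_congr_of_central σ hc
      · rfl
      · rw [hl, map_mul, hl, hl, uT_add]
    · intro a ha x y
      show Additive.ofMul _ = Additive.ofMul _
      congr 1
      apply Subtype.ext
      show ⁅l (a * a * x), l (a * a * y)⁆ = ⁅l x, l y⁆
      obtain ⟨h, hh⟩ := hs (tor (Units.mk0 a ha))
      have h1 : ⁅l (a * a * x), l (a * a * y)⁆ = ⁅h * l x * h⁻¹, h * l y * h⁻¹⁆ := by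
        apply commutatorElement_congr_of_central σ hc
        · rw [hl, map_mul, map_mul, map_inv, hh, hl, tor_conj_uT]
        · rw [hl, map_mul, map_mul, map_inv, hh, hl, tor_conj_uT]
      rw [h1, ← conjugate_commutatorElement]
      have := Subgroup.mem_center_iff.mp (hc (hker x y)) h
      rw [this]; group
  obtain ⟨x, hx⟩ := (Cfsg.Agent.S0260.mem_U_iff _).mp hg
  obtain ⟨y, hy⟩ := (Cfsg.Agent.S0260.mem_U_iff _).mp hg'
  have h1 : ⁅g, g'⁆ = ⁅l x, l y⁆ :=
    commutatorElement_congr_of_central σ hc (by rw [hx, hl]) (by rw [hy, hl])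
  have h2 : ⁅l x, l y⁆ = 1 := by
    have h3 := congrArg Additive.toMul (hc0 x y)
    exact congrArg Subtype.val h3
  rw [h2, commutatorElement_eq_one_iff_mul_comm] at h1
  exact h1

theorem card_arith (q : ℕ) (hq : 1 < q) :
    q * (q ^ 2 - 1) = (q - 1) * (q * (q + 1)) ∧ q * (q ^ 2 - 1) = (q + 1) * (q * (q - 1)) := by
  obtain ⟨k, rfl⟩ : ∃ k, q = k + 2 := ⟨q - 2, by omega⟩
  have h1 : (k + 2) ^ 2 - 1 = (k + 1) * (k + 3) := by
    have : (k + 2) ^ 2 = (k + 1) * (k + 3) + 1 := by ring
    omega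
  have h2 : k + 2 - 1 = k + 1 := by omega
  rw [h1, h2]
  constructor <;> ring

theorem index_U : (U : Subgroup SL(2, F)).index = Fintype.card F ^ 2 - 1 := by
  have h1 := Subgroup.card_mul_index (U : Subgroup SL(2, F))
  rw [Cfsg.Agent.S0260.card_U, Cfsg.Agent.Lib.Helper5_PSLCard.card_SL_two] at h1
  exact Nat.eq_of_mul_eq_mul_left Fintype.card_pos h1

theorem index_of_card_pred (T : Subgroup SL(2, F)) (hT : Nat.card T = Fintype.card F - 1) :
    T.index = Fintype.card F * (Fintype.card F + 1) := by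
  have hq : 1 < Fintype.card F := Fintype.one_lt_card
  have h1 := Subgroup.card_mul_index T
  rw [hT, Cfsg.Agent.Lib.Helper5_PSLCard.card_SL_two, (card_arith _ hq).1] at h1
  exact Nat.eq_of_mul_eq_mul_left (by omega) h1

theorem index_of_card_succ (T : Subgroup SL(2, F)) (hT : Nat.card T = Fintype.card F + 1) :
    T.index = Fintype.card F * (Fintype.card F - 1) := by
  have hq : 1 < Fintype.card F := Fintype.one_lt_card
  have h1 := Subgroup.card_mul_index T
  rw [hT, Cfsg.Agent.Lib.Helper5_PSLCard.card_SL_two, (card_arith _ hq).2] at h1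
  exact Nat.eq_of_mul_eq_mul_left (by omega) h1

/-- transfer into the preimage of `U` -/
theorem pow_U (hstem : IsStemExtension σ) (h4 : Fintype.card F ≠ 4) (h9 : Fintype.card F ≠ 9)
    (z : Γ) (hz : z ∈ σ.ker) : z ^ (Fintype.card F ^ 2 - 1) = 1 := by
  obtain ⟨hs, hc, hd⟩ := hstem
  rw [← index_U]
  by_cases hp : (Fintype.card F).Prime
  · have : Fact (Nat.card (U : Subgroup SL(2, F))).Prime :=
      ⟨by rw [Cfsg.Agent.S0260.card_U]; exact hp⟩
    have : IsCyclic (U : Subgroup SL(2, F)) :=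
      isCyclic_of_prime_card (p := Nat.card (U : Subgroup SL(2, F))) rfl
    exact Cfsg.Agent.Lib.Helper59_Stem.ker_pow_index_eq_one σ hs hc hd U z hz
  · set S := (U : Subgroup SL(2, F)).comap σ with hS
    have hidx : S.index = (U : Subgroup SL(2, F)).index :=
      Subgroup.index_comap_of_surjective U hs
    have : S.FiniteIndex := ⟨by rw [hidx]; exact Subgroup.FiniteIndex.index_ne_zero⟩
    have : IsMulCommutative S :=
      ⟨⟨fun a b => Subtype.ext (commute_of_mem_comap_U σ hs hc hp h4 h9 a b a.2 b.2)⟩⟩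
    rw [← hidx]
    exact Cfsg.Agent.Lib.Helper66_Stem.pow_index_eq_one_of_mem_commutator S z (hc hz) (hd hz)

/-- transfer into the preimage of the split torus -/
theorem pow_T (hstem : IsStemExtension σ) (z : Γ) (hz : z ∈ σ.ker) :
    z ^ (Fintype.card F * (Fintype.card F + 1)) = 1 := by
  obtain ⟨hs, hc, hd⟩ := hstem
  rw [← index_of_card_pred (torusHom : Fˣ →* SL(2, F)).range Cfsg.Agent.S0262.card_torus]
  exact Cfsg.Agent.Lib.Helper59_Stem.ker_pow_index_eq_one σ hs hc hd _ z hz

/-- transfer into the preimage of the nonsplit torus -/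
theorem pow_C (hstem : IsStemExtension σ) (z : Γ) (hz : z ∈ σ.ker) :
    z ^ (Fintype.card F * (Fintype.card F - 1)) = 1 := by
  obtain ⟨hs, hc, hd⟩ := hstem
  obtain ⟨p, hp⟩ := CharP.exists F
  have : Fact p.Prime := ⟨CharP.char_is_prime F p⟩
  obtain ⟨C, hC, hcard⟩ := Cfsg.Agent.S0262.exists_cyclic_card_succ (F := F) p
  rw [← index_of_card_succ C hcard]
  exact Cfsg.Agent.Lib.Helper59_Stem.ker_pow_index_eq_one σ hs hc hd C z hz

/-- every element of the kernel has order dividing `2`, and is trivial if `q` is even -/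
theorem pow_two (hstem : IsStemExtension σ) (h4 : Fintype.card F ≠ 4) (h9 : Fintype.card F ≠ 9)
    (z : Γ) (hz : z ∈ σ.ker) : z ^ 2 = 1 ∧ (Fintype.card F % 2 = 0 → z = 1) := by
  have hq : 1 < Fintype.card F := Fintype.one_lt_card
  have h1 := orderOf_dvd_of_pow_eq_one (pow_U σ hstem h4 h9 z hz)
  have h2 := orderOf_dvd_of_pow_eq_one (pow_T σ hstem z hz)
  have h3 := orderOf_dvd_of_pow_eq_one (pow_C σ hstem z hz)
  set q := Fintype.card F with hqdef
  set d := orderOf z with hd
  -- d ∣ 2 * q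
  have h4' : d ∣ 2 * q := by
    have : q * (q + 1) - q * (q - 1) = 2 * q := by
      obtain ⟨k, hk⟩ : ∃ k, q = k + 1 := ⟨q - 1, by omega⟩
      rw [hk]
      have : (k + 1) * (k + 1 + 1) = (k + 1) * (k + 1 - 1) + 2 * (k + 1) := by
        rw [Nat.add_sub_cancel]; ring
      omega
    rw [← this]
    exact Nat.dvd_sub h2 h3
  have hcop : Nat.Coprime d q := by
    have h5 : Nat.Coprime (q ^ 2 - 1) q := by
      have h6 : (q ^ 2 - 1) + 1 = q * q := by
        have : 1 ≤ q ^ 2 := Nat.one_le_pow _ _ (by omega)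
        rw [Nat.sub_add_cancel this]; ring
      have h7 : Nat.gcd (q ^ 2 - 1) q ∣ 1 := by
        have ha : Nat.gcd (q ^ 2 - 1) q ∣ q * q :=
          Dvd.dvd.mul_right (Nat.gcd_dvd_right _ _) _
        have hb : Nat.gcd (q ^ 2 - 1) q ∣ q ^ 2 - 1 := Nat.gcd_dvd_left _ _
        rw [← h6] at ha
        exact (Nat.dvd_add_right hb).mp ha
      exact Nat.eq_one_of_dvd_one h7
    exact Nat.Coprime.coprime_dvd_left h1 h5
  have h5 : d ∣ 2 := hcop.dvd_of_dvd_mul_right h4'
  refine ⟨orderOf_dvd_iff_pow_eq_one.mp h5, ?_⟩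
  intro hev
  have h6 : d ∣ 1 := by
    have h7 : Nat.Coprime d 2 := by
      have h8 : Nat.Coprime (q ^ 2 - 1) 2 := by
        rw [Nat.coprime_two_right, Nat.odd_iff]
        obtain ⟨k, hk⟩ : ∃ k, q = 2 * k := ⟨q / 2, by omega⟩
        have hk0 : 1 ≤ k := by omega
        have : q ^ 2 = 2 * (2 * k * k) := by rw [hk]; ring
        have h9 : 1 ≤ 2 * k * k := by nlinarith
        omega
      exact Nat.Coprime.coprime_dvd_left h1 h8
    have := h7.dvd_of_dvd_mul_right (show d ∣ 1 * 2 by simpa using h5)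
    exact this
  have : orderOf z = 1 := Nat.eq_one_of_dvd_one h6
  exact orderOf_eq_one_iff.mp this

end stem

section odd

open Cfsg.Agent.Lib.Helper50_UniqueInv Cfsg.Agent.Lib.Helper50_UniqueInv2

theorem uniqueInvolution_subgroup (h2 : (2 : F) ≠ 0) (S : Subgroup SL(2, F)) :
    UniqueInvolution S := by
  intro u v hu hv hu1 hv1
  have key : ∀ w : S, w ^ 2 = 1 → w ≠ 1 →
      (w : SL(2, F)) = Cfsg.Agent.Lib.Helper53_SL2.negOne := by
    intro w hw hw1
    have h : (w : SL(2, F)) * w = 1 := by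
      have := congrArg Subtype.val hw
      simpa [sq] using this
    rcases Cfsg.Agent.Lib.Helper53_SL2.eq_one_or_negOne_of_mul_self h2 _ h with h | h
    · exact absurd (Subtype.ext h) hw1
    · exact h
  exact Subtype.ext ((key u hu hu1).trans (key v hv hv1).symm)

theorem quaternion_closure (n : ℕ) [NeZero n] :
    Subgroup.closure ({QuaternionGroup.a 1, QuaternionGroup.xa 0} : Set (QuaternionGroup n)) = ⊤ := by
  rw [eq_top_iff]
  intro g _
  have h1 : (QuaternionGroup.a 1 : QuaternionGroup n) ∈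
      Subgroup.closure ({QuaternionGroup.a 1, QuaternionGroup.xa 0} : Set (QuaternionGroup n)) :=
    Subgroup.subset_closure (by simp)
  have h2 : (QuaternionGroup.xa 0 : QuaternionGroup n) ∈
      Subgroup.closure ({QuaternionGroup.a 1, QuaternionGroup.xa 0} : Set (QuaternionGroup n)) :=
    Subgroup.subset_closure (by simp)
  have ha : ∀ i : ZMod (2 * n), (QuaternionGroup.a i : QuaternionGroup n) ∈
      Subgroup.closure ({QuaternionGroup.a 1, QuaternionGroup.xa 0} : Set (QuaternionGroup n)) := by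
    intro i
    have : (QuaternionGroup.a i : QuaternionGroup n) = QuaternionGroup.a 1 ^ i.val := by
      rw [QuaternionGroup.a_one_pow, ZMod.natCast_zmod_val]
    rw [this]
    exact Subgroup.pow_mem _ h1 _
  rcases g with i | i
  · exact ha i
  · have : (QuaternionGroup.xa i : QuaternionGroup n) = QuaternionGroup.xa 0 * QuaternionGroup.a i := by
      simp
    rw [this]
    exact Subgroup.mul_mem _ h2 (ha i)

variable [Fintype F] {Γ : Type*} [Group Γ] [Finite Γ] (σ : Γ →* SL(2, F))

/-- the `2`-part: for `q` odd, an involution in the kernel of a stem extension is trivial -/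
theorem eq_one_of_odd (hstem : IsStemExtension σ) (hodd : Fintype.card F % 2 = 1) (z : Γ)
    (hz : z ∈ σ.ker) (hz2 : z ^ 2 = 1) : z = 1 := by
  classical
  obtain ⟨hs, hc, hd⟩ := hstem
  have h2 : (2 : F) ≠ 0 := Cfsg.Agent.Lib.Helper53_SL2.two_ne_zero_of_card_odd hodd
  have : Fact (Nat.Prime 2) := ⟨Nat.prime_two⟩
  obtain S : Sylow 2 SL(2, F) := default
  have hP : IsPGroup 2 S := S.isPGroup'
  have hidx : ¬ 2 ∣ (S : Subgroup SL(2, F)).index := S.not_dvd_index
  have key : ∀ m : ℕ, ¬ 2 ∣ m → z ^ m = z := by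
    intro m hm
    obtain ⟨j, hj⟩ : ∃ j, m = 2 * j + 1 := ⟨m / 2, by omega⟩
    rw [hj, pow_succ, pow_mul, hz2, one_pow, one_mul]
  rcases isCyclic_or_quaternion hP (uniqueInvolution_subgroup h2 (S : Subgroup SL(2, F))) with
    hcyc | ⟨k, hk, ⟨e⟩⟩
  · have := Cfsg.Agent.Lib.Helper59_Stem.ker_pow_index_eq_one σ hs hc hd (S : Subgroup SL(2, F)) z hz
    rwa [key _ hidx] at this
  · set n := 2 ^ k with hn
    have : NeZero n := ⟨by positivity⟩
    set H : Subgroup Γ := (S : Subgroup SL(2, F)).comap σ with hH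
    have hHidx : H.index = (S : Subgroup SL(2, F)).index :=
      Subgroup.index_comap_of_surjective _ hs
    obtain ⟨hmem, hcomm⟩ := pow_index_mem_commutator H z (hc hz) (hd hz)
    have hzH : z ^ H.index = z := key _ (by rw [hHidx]; exact hidx)
    let φ : H →* QuaternionGroup n :=
      e.toMonoidHom.comp (σ.subgroupComap (S : Subgroup SL(2, F)))
    have hφs : Function.Surjective φ :=
      e.surjective.comp (MonoidHom.subgroupComap_surjective_of_surjective σ _ hs)
    have hφk : ∀ w : H, φ w = 1 ↔ (w : Γ) ∈ σ.ker := by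
      intro w
      show e (σ.subgroupComap (S : Subgroup SL(2, F)) w) = 1 ↔ _
      rw [EmbeddingLike.map_eq_one_iff, MonoidHom.mem_ker]
      constructor
      · intro h
        exact congrArg Subtype.val h
      · intro h
        exact Subtype.ext h
    set Z : Subgroup H := σ.ker.subgroupOf H with hZ
    have hZker : φ.ker = Z := by
      ext w
      rw [MonoidHom.mem_ker, hφk, hZ, Subgroup.mem_subgroupOf]
    have hZc : Z ≤ Subgroup.center H := by
      intro w hw
      rw [hZ, Subgroup.mem_subgroupOf] at hw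
      rw [Subgroup.mem_center_iff]
      intro g
      exact Subtype.ext (Subgroup.mem_center_iff.mp (hc hw) (g : Γ))
    obtain ⟨α, hα⟩ := hφs (QuaternionGroup.a 1)
    obtain ⟨ξ, hξ⟩ := hφs (QuaternionGroup.xa 0)
    have hgen : Subgroup.closure (({α, ξ} : Set H) ∪ (Z : Set H)) = ⊤ := by
      rw [← hZker]
      apply closure_union_ker_eq_top φ
      have : φ '' ({α, ξ} : Set H) = {QuaternionGroup.a 1, QuaternionGroup.xa 0} := by
        rw [Set.image_pair, hα, hξ]
      rw [this]
      exact quaternion_closure n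
    have hk' : ξ * α * ξ⁻¹ * α ∈ Z := by
      rw [← hZker, MonoidHom.mem_ker, map_mul, map_mul, map_mul, map_inv, hα, hξ]
      have h : (QuaternionGroup.xa 0 * QuaternionGroup.a 1 : QuaternionGroup n) =
          (QuaternionGroup.a 1 : QuaternionGroup n)⁻¹ * (QuaternionGroup.xa 0 : QuaternionGroup n) := by
        rw [eq_inv_mul_iff_mul_eq]
        simp
      rw [h]; group
    have hsq : ∃ v ∈ Z, ξ * ξ = α ^ n * v := by
      refine ⟨(α ^ n)⁻¹ * (ξ * ξ), ?_, by group⟩
      rw [← hZker, MonoidHom.mem_ker, map_mul, map_mul, map_inv, map_pow, hα, hξ,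
        QuaternionGroup.a_one_pow]
      simp
    have hord : ∀ i : ℤ, α ^ i ∈ Z → ((2 * n : ℕ) : ℤ) ∣ i := by
      intro i hi
      rw [← hZker, MonoidHom.mem_ker, map_zpow, hα] at hi
      rw [← QuaternionGroup.orderOf_a_one (n := n)]
      exact orderOf_dvd_iff_zpow_eq_one.mpr hi
    have hbot := inf_commutator_eq_bot_of_dicyclic Z hZc α ξ n hgen hk' hsq hord
    have hzmem : (⟨z ^ H.index, hmem⟩ : H) ∈ Z ⊓ commutator H := by
      refine Subgroup.mem_inf.mpr ⟨?_, hcomm⟩
      rw [hZ, Subgroup.mem_subgroupOf]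
      show z ^ H.index ∈ σ.ker
      rw [hzH]; exact hz
    rw [hbot, Subgroup.mem_bot] at hzmem
    have h3 := congrArg Subtype.val hzmem
    have h4 : z ^ H.index = 1 := h3
    rw [hzH] at h4
    exact h4

end odd

/-- every finite stem extension of `SL₂(q)`, `q ≠ 4, 9`, is an isomorphism -/
theorem ker_eq_bot [Fintype F] {Γ : Type*} [Group Γ] [Finite Γ] (σ : Γ →* SL(2, F))
    (hstem : IsStemExtension σ) (h4 : Fintype.card F ≠ 4) (h9 : Fintype.card F ≠ 9) :
    σ.ker = ⊥ := by
  rw [eq_bot_iff]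
  intro z hz
  rw [Subgroup.mem_bot]
  obtain ⟨h1, h2⟩ := pow_two σ hstem h4 h9 z hz
  rcases Nat.mod_two_eq_zero_or_one (Fintype.card F) with h | h
  · exact h2 h
  · exact eq_one_of_odd σ hstem h z hz h1

end Cfsg.Agent.Lib.Helper66_SL2Mult
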