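import Mathlib

set_option autoImplicit false

/-!
# A splitting lemma for finitely generated abelian groups

If `Z` is a finitely generated commutative group, `T ≤ Z` a subgroup with `Z / T` torsion free and
`N ≤ Z` with `N ⊔ T = ⊤`, then `T` has a complement `S` contained in `N`.
-/

namespace Cfsg.Agent.Lib.Helper66_SchurAb

/-- complement lemma, commutative version -/
theorem exists_complement_le {Z : Type*} [CommGroup Z] [Group.FG Z]
    (T N : Subgroup Z) (hNT : N ⊔ T = ⊤)
    (htf : ∀ z : Z, ∀ n : ℕ, 0 < n → z ^ n ∈ T → z ∈ T) :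
    ∃ S : Subgroup Z, S ≤ N ∧ S ⊓ T = ⊥ ∧ S ⊔ T = ⊤ := by
  classical
  -- the quotient as a `ℤ`-module
  let M := Additive (Z ⧸ T)
  have hfgq : Group.FG (Z ⧸ T) := QuotientGroup.fg T
  have hfgM : AddGroup.FG M := GroupFG.iff_add_fg.mp hfgq
  have hfin : Module.Finite ℤ M := Module.Finite.iff_addGroup_fg.mpr hfgM
  have htfM : IsAddTorsionFree M := by
    refine ⟨fun n hn => ?_⟩
    have key : ∀ q : Z ⧸ T, q ^ n = 1 → q = 1 := by
      intro q hq
      obtain ⟨z, rfl⟩ := QuotientGroup.mk'_surjective T q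
      rw [QuotientGroup.mk'_apply, ← QuotientGroup.mk_pow, QuotientGroup.eq_one_iff] at hq
      rw [QuotientGroup.mk'_apply, QuotientGroup.eq_one_iff]
      exact htf z n (Nat.pos_of_ne_zero hn) hq
    intro a b hab
    have h1 : (Additive.toMul a / Additive.toMul b) ^ n = 1 := by
      rw [div_pow, div_eq_one]
      exact congrArg Additive.toMul hab
    have h2 := key _ h1
    rw [div_eq_one] at h2
    exact h2
  have hfree : Module.Free ℤ M := inferInstance
  have hproj : Module.Projective ℤ M := inferInstance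
  -- the surjection `N → Z / T`
  let f0 : N →* Z ⧸ T := (QuotientGroup.mk' T).comp N.subtype
  have hf0 : Function.Surjective f0 := by
    intro q
    obtain ⟨z, rfl⟩ := QuotientGroup.mk'_surjective T q
    have hz : z ∈ N ⊔ T := hNT ▸ Subgroup.mem_top z
    obtain ⟨n, hn, t, ht, rfl⟩ := Subgroup.mem_sup.mp hz
    refine ⟨⟨n, hn⟩, ?_⟩
    simp only [f0, MonoidHom.comp_apply, Subgroup.coe_subtype, QuotientGroup.mk'_apply]
    rw [QuotientGroup.eq]
    simpa using ht
  let f : Additive N →ₗ[ℤ] M := (MonoidHom.toAdditive f0).toIntLinearMap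
  have hf : Function.Surjective f := hf0
  obtain ⟨h, hh⟩ := Module.projective_lifting_property f LinearMap.id hf
  -- the section as a group homomorphism `Z ⧸ T →* Z`
  let s0 : Z ⧸ T →* N := MonoidHom.toAdditive.symm (h.toAddMonoidHom : M →+ Additive N)
  let s : Z ⧸ T →* Z := N.subtype.comp s0
  have hs : ∀ q : Z ⧸ T, (QuotientGroup.mk (s q) : Z ⧸ T) = q := by
    intro q
    have := LinearMap.congr_fun hh (Additive.ofMul q)
    exact congrArg Additive.toMul this
  have hsN : ∀ q : Z ⧸ T, s q ∈ N := fun q => (s0 q).2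
  refine ⟨s.range, ?_, ?_, ?_⟩
  · rintro _ ⟨q, rfl⟩
    exact hsN q
  · rw [eq_bot_iff]
    rintro x ⟨⟨q, rfl⟩, hxT⟩
    have h1 := hs q
    rw [(QuotientGroup.eq_one_iff _).mpr hxT] at h1
    rw [Subgroup.mem_bot, ← h1, map_one]
  · rw [eq_top_iff]
    intro z _
    have h1 : (s (QuotientGroup.mk z))⁻¹ * z ∈ T := by
      rw [← QuotientGroup.eq, hs]
    have : z = s (QuotientGroup.mk z) * ((s (QuotientGroup.mk z))⁻¹ * z) := by group
    rw [this]
    exact Subgroup.mul_mem_sup ⟨_, rfl⟩ h1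

/-- membership in a join with a central subgroup -/
theorem mem_sup_of_le_center {E : Type*} [Group E] {N T : Subgroup E}
    (hT : T ≤ Subgroup.center E) {x : E} :
    x ∈ N ⊔ T ↔ ∃ n ∈ N, ∃ t ∈ T, n * t = x := by
  have : T.Normal := ⟨fun t ht g => by
    have := Subgroup.mem_center_iff.mp (hT ht) g
    rw [this, mul_inv_cancel_right]
    exact ht⟩
  rw [← SetLike.mem_coe, Subgroup.mul_normal, Set.mem_mul]
  simp only [SetLike.mem_coe]

/-- complement lemma for a central subgroup `Z` of a group `E` -/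
theorem exists_complement_central {E : Type*} [Group E] (Z : Subgroup E)
    (hZ : Z ≤ Subgroup.center E) (hfg : Group.FG Z)
    (T N : Subgroup E) (hT : T ≤ Z) (hN : N ≤ Z) (hNT : N ⊔ T = Z)
    (htf : ∀ z ∈ Z, ∀ n : ℕ, 0 < n → z ^ n ∈ T → z ∈ T) :
    ∃ S : Subgroup E, S ≤ N ∧ S ⊓ T = ⊥ ∧ S ⊔ T = Z := by
  let _ : CommGroup Z :=
    { (inferInstance : Group Z) with
      mul_comm := fun a b => Subtype.ext (by
        have := Subgroup.mem_center_iff.mp (hZ a.2) b
        exact this.symm) }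
  have hNT' : N.subgroupOf Z ⊔ T.subgroupOf Z = ⊤ := by
    rw [eq_top_iff]
    intro z _
    have hz : (z : E) ∈ N ⊔ T := hNT ▸ z.2
    obtain ⟨n, hn, t, ht, hnt⟩ := (mem_sup_of_le_center (hT.trans hZ)).mp hz
    rw [Subgroup.mem_sup]
    refine ⟨⟨n, hN hn⟩, by simpa [Subgroup.mem_subgroupOf] using hn, ⟨t, hT ht⟩,
      by simpa [Subgroup.mem_subgroupOf] using ht, Subtype.ext hnt⟩
  obtain ⟨S, hS1, hS2, hS3⟩ := exists_complement_le (T.subgroupOf Z) (N.subgroupOf Z) hNT'
    (fun z n hn hz => by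
      rw [Subgroup.mem_subgroupOf] at hz ⊢
      exact htf z z.2 n hn (by simpa using hz))
  refine ⟨S.map Z.subtype, ?_, ?_, ?_⟩
  · rintro _ ⟨s, hs, rfl⟩
    exact Subgroup.mem_subgroupOf.mp (hS1 hs)
  · rw [eq_bot_iff]
    rintro _ ⟨⟨s, hs, rfl⟩, hsT⟩
    have : s ∈ S ⊓ T.subgroupOf Z := ⟨hs, Subgroup.mem_subgroupOf.mpr hsT⟩
    rw [hS2, Subgroup.mem_bot] at this
    rw [this]
    exact Subgroup.one_mem _
  · apply le_antisymm
    · apply sup_le _ hT
      rintro _ ⟨s, _, rfl⟩
      exact s.2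
    · intro z hz
      have : (⟨z, hz⟩ : Z) ∈ S ⊔ T.subgroupOf Z := hS3 ▸ Subgroup.mem_top _
      obtain ⟨s, hs, t, ht, hst⟩ := Subgroup.mem_sup.mp this
      have hz' : z = (s : E) * (t : E) := by
        have := congrArg Subtype.val hst
        exact this.symm
      rw [hz']
      exact Subgroup.mul_mem_sup ⟨s, hs, rfl⟩ (Subgroup.mem_subgroupOf.mp ht)

end Cfsg.Agent.Lib.Helper66_SchurAb
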