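import Cfsg.Prelude.Def_KGroupFacts
import Cfsg.Agent.Lib.Helper66_SchurAb
import Mathlib

set_option autoImplicit false

/-!
# Schur multiplier via central extensions: core lemmas

General lemmas on central extensions `ρ : E →* Q`, `τ : Δ →* Q` and homomorphisms `β : E →* Δ`
over `Q`.
-/

open Cfsg
open scoped commutatorElement

namespace Cfsg.Agent.Lib.Helper66_SchurCore

section General

variable {E : Type*} {Q : Type*} {Δ : Type*} [Group E] [Group Q] [Group Δ]

/-- every element of `Δ` is `β e * k` with `k ∈ ker τ` -/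
theorem exists_eq_mul_ker (ρ : E →* Q) (hρ : Function.Surjective ρ) (τ : Δ →* Q)
    (β : E →* Δ) (hβ : τ.comp β = ρ) (d : Δ) : ∃ e : E, ∃ k ∈ τ.ker, d = β e * k := by
  obtain ⟨e, he⟩ := hρ (τ d)
  refine ⟨e, (β e)⁻¹ * d, ?_, by group⟩
  rw [MonoidHom.mem_ker, map_mul, map_inv, ← MonoidHom.comp_apply, hβ, he, inv_mul_cancel]

/-- `β` maps the commutator subgroup onto the commutator subgroup -/
theorem map_commutator_eq (ρ : E →* Q) (hρ : Function.Surjective ρ) (τ : Δ →* Q)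
    (hτc : τ.ker ≤ Subgroup.center Δ) (β : E →* Δ) (hβ : τ.comp β = ρ) :
    (commutator E).map β = commutator Δ := by
  apply le_antisymm
  · rw [commutator_def, Subgroup.map_commutator]
    exact Subgroup.commutator_mono le_top le_top
  · rw [commutator_def (G := Δ), Subgroup.commutator_le]
    intro d₁ _ d₂ _
    obtain ⟨e₁, k₁, hk₁, rfl⟩ := exists_eq_mul_ker ρ hρ τ β hβ d₁
    obtain ⟨e₂, k₂, hk₂, rfl⟩ := exists_eq_mul_ker ρ hρ τ β hβ d₂
    have c₁ := Subgroup.mem_center_iff.mp (hτc hk₁)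
    have c₂ := Subgroup.mem_center_iff.mp (hτc hk₂)
    have : ⁅β e₁ * k₁, β e₂ * k₂⁆ = β ⁅e₁, e₂⁆ := by
      rw [map_commutatorElement, commutatorElement_def, commutatorElement_def]
      rw [mul_inv_rev, mul_inv_rev]
      calc β e₁ * k₁ * (β e₂ * k₂) * (k₁⁻¹ * (β e₁)⁻¹) * (k₂⁻¹ * (β e₂)⁻¹)
          = β e₁ * (k₁ * (β e₂ * k₂) * k₁⁻¹) * (β e₁)⁻¹ * k₂⁻¹ * (β e₂)⁻¹ := by group
        _ = β e₁ * ((β e₂ * k₂) * k₁ * k₁⁻¹) * (β e₁)⁻¹ * k₂⁻¹ * (β e₂)⁻¹ := by rw [← c₁]
        _ = β e₁ * β e₂ * (k₂ * (β e₁)⁻¹) * k₂⁻¹ * (β e₂)⁻¹ := by group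
        _ = β e₁ * β e₂ * ((β e₁)⁻¹ * k₂) * k₂⁻¹ * (β e₂)⁻¹ := by rw [c₂]
        _ = β e₁ * β e₂ * (β e₁)⁻¹ * (β e₂)⁻¹ := by group
    rw [this]
    exact Subgroup.mem_map_of_mem β (Subgroup.commutator_mem_commutator (Subgroup.mem_top _)
      (Subgroup.mem_top _))

/-- `β` maps `ker ρ ∩ E'` onto `ker τ ∩ Δ'` -/
theorem map_ker_inf_commutator (ρ : E →* Q) (hρ : Function.Surjective ρ) (τ : Δ →* Q)
    (hτc : τ.ker ≤ Subgroup.center Δ) (β : E →* Δ) (hβ : τ.comp β = ρ) :
    (ρ.ker ⊓ commutator E).map β = τ.ker ⊓ commutator Δ := by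
  apply le_antisymm
  · rintro _ ⟨e, ⟨he1, he2⟩, rfl⟩
    refine Subgroup.mem_inf.mpr ⟨?_, ?_⟩
    · rw [MonoidHom.mem_ker, ← MonoidHom.comp_apply, hβ]
      exact he1
    · rw [← map_commutator_eq ρ hρ τ hτc β hβ]
      exact Subgroup.mem_map_of_mem β he2
  · intro d hd
    obtain ⟨hd1, hd2⟩ := Subgroup.mem_inf.mp hd
    rw [← map_commutator_eq ρ hρ τ hτc β hβ] at hd2
    obtain ⟨e, he, rfl⟩ := hd2
    refine ⟨e, Subgroup.mem_inf.mpr ⟨?_, he⟩, rfl⟩
    rw [MonoidHom.mem_ker, ← hβ]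
    exact hd1

/-- a homomorphism over `Q` into a stem extension is surjective -/
theorem surjective_of_stem (ρ : E →* Q) (hρ : Function.Surjective ρ) (τ : Δ →* Q)
    (hτ : IsStemExtension τ) (β : E →* Δ) (hβ : τ.comp β = ρ) : Function.Surjective β := by
  intro d
  obtain ⟨e, k, hk, rfl⟩ := exists_eq_mul_ker ρ hρ τ β hβ d
  have hk' : k ∈ commutator Δ := hτ.2.2 hk
  rw [← map_commutator_eq ρ hρ τ hτ.2.1 β hβ] at hk'
  obtain ⟨e', _, rfl⟩ := hk'
  exact ⟨e * e', map_mul _ _ _⟩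

/-- for a stem extension, `ker ρ ∩ E'` maps onto `ker τ` -/
theorem map_ker_inf_commutator_of_stem (ρ : E →* Q) (hρ : Function.Surjective ρ) (τ : Δ →* Q)
    (hτ : IsStemExtension τ) (β : E →* Δ) (hβ : τ.comp β = ρ) :
    (ρ.ker ⊓ commutator E).map β = τ.ker := by
  rw [map_ker_inf_commutator ρ hρ τ hτ.2.1 β hβ]
  exact inf_eq_left.mpr hτ.2.2

/-- the induced surjection `ker ρ ∩ E' → ker τ` -/
theorem exists_surjective_of_stem (ρ : E →* Q) (hρ : Function.Surjective ρ) (τ : Δ →* Q)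
    (hτ : IsStemExtension τ) (β : E →* Δ) (hβ : τ.comp β = ρ) :
    ∃ f : ↥(ρ.ker ⊓ commutator E) →* τ.ker, Function.Surjective f ∧
      ∀ x, ((f x : τ.ker) : Δ) = β x := by
  have hmap := map_ker_inf_commutator_of_stem ρ hρ τ hτ β hβ
  refine ⟨(β.comp (ρ.ker ⊓ commutator E).subtype).codRestrict τ.ker (fun x => ?_), ?_, fun x => rfl⟩
  · rw [← hmap]
    exact Subgroup.mem_map_of_mem β x.2
  · rintro ⟨k, hk⟩
    rw [← hmap] at hk
    obtain ⟨e, he, rfl⟩ := hk
    exact ⟨⟨e, he⟩, rfl⟩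

end General

section Cover

variable {E : Type*} {Q : Type*} [Group E] [Group Q]

/-- a subgroup of the centre is normal -/
theorem normal_of_le_center {S : Subgroup E} (hS : S ≤ Subgroup.center E) : S.Normal :=
  ⟨fun t ht g => by
    have := Subgroup.mem_center_iff.mp (hS ht) g
    rw [this, mul_inv_cancel_right]
    exact ht⟩

/-- the quotient of a central extension `ρ` by a subgroup `S` of its kernel -/
def quotHom (ρ : E →* Q) (S : Subgroup E) [S.Normal] (hS : S ≤ ρ.ker) : E ⧸ S →* Q :=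
  QuotientGroup.lift S ρ (fun _ hx => hS hx)

@[simp]
theorem quotHom_mk (ρ : E →* Q) (S : Subgroup E) [S.Normal] (hS : S ≤ ρ.ker) (e : E) :
    quotHom ρ S hS (QuotientGroup.mk e) = ρ e := rfl

theorem quotHom_comp_mk (ρ : E →* Q) (S : Subgroup E) [S.Normal] (hS : S ≤ ρ.ker) :
    (quotHom ρ S hS).comp (QuotientGroup.mk' S) = ρ := rfl

theorem quotHom_ker (ρ : E →* Q) (S : Subgroup E) [S.Normal] (hS : S ≤ ρ.ker) :
    (quotHom ρ S hS).ker = ρ.ker.map (QuotientGroup.mk' S) := by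
  ext x
  obtain ⟨e, rfl⟩ := QuotientGroup.mk'_surjective S x
  rw [MonoidHom.mem_ker, QuotientGroup.mk'_apply, quotHom_mk]
  constructor
  · intro h
    exact ⟨e, h, rfl⟩
  · rintro ⟨e', he', h⟩
    rw [QuotientGroup.mk'_apply, QuotientGroup.eq] at h
    have h2 : e = e' * (e'⁻¹ * e) := by group
    rw [h2, map_mul, MonoidHom.mem_ker.mp he', one_mul]
    exact hS h

/-- the quotient by a complement of `T = ker ρ ∩ E'` in `ker ρ` is a stem extension -/
theorem quotHom_isStem (ρ : E →* Q) (hρ : Function.Surjective ρ)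
    (hc : ρ.ker ≤ Subgroup.center E) (S : Subgroup E) [S.Normal] (hS : S ≤ ρ.ker)
    (hST : S ⊔ (ρ.ker ⊓ commutator E) = ρ.ker) : IsStemExtension (quotHom ρ S hS) := by
  refine ⟨?_, ?_, ?_⟩
  · intro q
    obtain ⟨e, rfl⟩ := hρ q
    exact ⟨QuotientGroup.mk e, rfl⟩
  · rw [quotHom_ker]
    rintro _ ⟨z, hz, rfl⟩
    rw [Subgroup.mem_center_iff]
    intro x
    obtain ⟨e, rfl⟩ := QuotientGroup.mk'_surjective S x
    rw [QuotientGroup.mk'_apply, QuotientGroup.mk'_apply, ← QuotientGroup.mk_mul,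
      ← QuotientGroup.mk_mul, Subgroup.mem_center_iff.mp (hc hz) e]
  · rw [quotHom_ker]
    rintro _ ⟨z, hz, rfl⟩
    rw [← hST] at hz
    obtain ⟨s, hs, t, ht, rfl⟩ := (Helper66_SchurAb.mem_sup_of_le_center
      (inf_le_left.trans hc)).mp hz
    have h1 : (QuotientGroup.mk' S) (s * t) = (QuotientGroup.mk' S) t := by
      rw [map_mul, QuotientGroup.mk'_apply, (QuotientGroup.eq_one_iff s).mpr hs, one_mul]
    rw [h1, commutator_def]
    have h2 : (QuotientGroup.mk' S) t ∈ (commutator E).map (QuotientGroup.mk' S) :=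
      Subgroup.mem_map_of_mem _ ht.2
    rw [commutator_def, Subgroup.map_commutator] at h2
    exact Subgroup.commutator_mono le_top le_top h2

/-- the kernel of the quotient by a complement is isomorphic to `T` -/
theorem quotHom_ker_equiv (ρ : E →* Q) (hc : ρ.ker ≤ Subgroup.center E)
    (S : Subgroup E) [S.Normal] (hS : S ≤ ρ.ker)
    (hST0 : S ⊓ (ρ.ker ⊓ commutator E) = ⊥)
    (hST : S ⊔ (ρ.ker ⊓ commutator E) = ρ.ker) :
    Nonempty (↥(ρ.ker ⊓ commutator E) ≃* (quotHom ρ S hS).ker) := by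
  let f : ↥(ρ.ker ⊓ commutator E) →* (quotHom ρ S hS).ker :=
    ((QuotientGroup.mk' S).comp (ρ.ker ⊓ commutator E).subtype).codRestrict _ (fun x => by
      rw [MonoidHom.mem_ker]
      exact x.2.1)
  refine ⟨MulEquiv.ofBijective f ⟨?_, ?_⟩⟩
  · rw [injective_iff_map_eq_one]
    intro x hx
    have h1 : (QuotientGroup.mk (x : E) : E ⧸ S) = 1 := congrArg Subtype.val hx
    rw [QuotientGroup.eq_one_iff] at h1
    have h2 : (x : E) ∈ S ⊓ (ρ.ker ⊓ commutator E) := Subgroup.mem_inf.mpr ⟨h1, x.2⟩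
    rw [hST0, Subgroup.mem_bot] at h2
    exact Subtype.ext h2
  · rintro ⟨y, hy⟩
    have hy' := hy
    rw [quotHom_ker] at hy'
    obtain ⟨z, hz, rfl⟩ := hy'
    rw [← hST] at hz
    obtain ⟨s, hs, t, ht, rfl⟩ := (Helper66_SchurAb.mem_sup_of_le_center
      (inf_le_left.trans hc)).mp hz
    refine ⟨⟨t, ht⟩, Subtype.ext ?_⟩
    change (QuotientGroup.mk' S) t = (QuotientGroup.mk' S) (s * t)
    have hs1 : (QuotientGroup.mk' S) s = 1 := (QuotientGroup.eq_one_iff s).mpr hs
    rw [map_mul, hs1, one_mul]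

/-- a group with a finite quotient whose kernel is finite is finite -/
theorem finite_of_ker_of_range {G H : Type*} [Group G] [Group H] (f : G →* H) [Finite H]
    [Finite f.ker] : Finite G := by
  apply Nat.finite_of_card_ne_zero
  rw [← f.ker.card_mul_index]
  apply mul_ne_zero Nat.card_pos.ne'
  rw [Subgroup.index_ker]
  exact Nat.card_pos.ne'

end Cover

section Free

universe u w

variable {X : Type w} {Q : Type u} [Group Q] (π : FreeGroup X →* Q)

/-- `[F, R]` for `R = ker π` -/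
abbrev C : Subgroup (FreeGroup X) := ⁅(⊤ : Subgroup (FreeGroup X)), π.ker⁆

theorem C_le_ker : C π ≤ π.ker := Subgroup.commutator_le_right _ _

theorem C_le_commutator : C π ≤ commutator (FreeGroup X) := by
  rw [commutator_def]
  exact Subgroup.commutator_mono le_rfl le_top

/-- `E = F / [F, R]` -/
abbrev E : Type w := FreeGroup X ⧸ C π

/-- the central extension `E → Q` -/
def ρ : E π →* Q := QuotientGroup.lift (C π) π (fun _ hx => C_le_ker π hx)

@[simp]
theorem ρ_mk (f : FreeGroup X) : ρ π (QuotientGroup.mk f) = π f := rfl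

theorem ρ_surjective (hπ : Function.Surjective π) : Function.Surjective (ρ π) := by
  intro q
  obtain ⟨f, rfl⟩ := hπ q
  exact ⟨QuotientGroup.mk f, rfl⟩

theorem ρ_ker_le_center : (ρ π).ker ≤ Subgroup.center (E π) := by
  intro z hz
  obtain ⟨r, rfl⟩ := QuotientGroup.mk_surjective z
  have hr : r ∈ π.ker := hz
  rw [Subgroup.mem_center_iff]
  intro x
  obtain ⟨f, rfl⟩ := QuotientGroup.mk_surjective x
  rw [← QuotientGroup.mk_mul, ← QuotientGroup.mk_mul, QuotientGroup.eq]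
  have h1 : (f * r)⁻¹ * (r * f) = ⁅r⁻¹, f⁻¹⁆ := by
    rw [commutatorElement_def]
    group
  rw [h1, C, Subgroup.commutator_comm]
  exact Subgroup.commutator_mem_commutator (inv_mem hr) (Subgroup.mem_top _)

/-- `T = ker ρ ∩ E'`, the model of the Schur multiplier -/
def T : Subgroup (E π) := (ρ π).ker ⊓ commutator (E π)

theorem T_le_ker : T π ≤ (ρ π).ker := inf_le_left

theorem T_le_commutator : T π ≤ commutator (E π) := inf_le_right

theorem T_le_center : T π ≤ Subgroup.center (E π) := (T_le_ker π).trans (ρ_ker_le_center π)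

instance instCommGroupT : CommGroup (T π) :=
  { (T π).toGroup with
    mul_comm := fun a b => Subtype.ext (by
      have := Subgroup.mem_center_iff.mp (T_le_center π a.2) b
      exact this.symm) }

/-- lifting property of `E` against central extensions -/
theorem exists_lift' {Y : Type*} {Q' : Type*} [Group Y] [Group Q'] (ξ : Y →* Q')
    (hξ : Function.Surjective ξ) (hξc : ξ.ker ≤ Subgroup.center Y) (φ : Q →* Q') :
    ∃ β : E π →* Y, ξ.comp β = φ.comp (ρ π) := by
  choose g hg using fun x : X => hξ (φ (π (FreeGroup.of x)))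
  let β₀ : FreeGroup X →* Y := FreeGroup.lift g
  have h0 : ξ.comp β₀ = φ.comp π := by
    ext x
    simp [β₀, hg]
  have hC : C π ≤ β₀.ker := by
    rw [Subgroup.commutator_le]
    intro f _ r hr
    rw [MonoidHom.mem_ker, map_commutatorElement]
    have hr' : β₀ r ∈ ξ.ker := by
      rw [MonoidHom.mem_ker, ← MonoidHom.comp_apply, h0, MonoidHom.comp_apply,
        MonoidHom.mem_ker.mp hr, map_one]
    have hcen := Subgroup.mem_center_iff.mp (hξc hr') (β₀ f)
    rw [commutatorElement_eq_one_iff_mul_comm]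
    exact hcen
  refine ⟨QuotientGroup.lift (C π) β₀ (fun _ hx => hC hx), ?_⟩
  apply MonoidHom.ext
  intro x
  obtain ⟨f, rfl⟩ := QuotientGroup.mk_surjective x
  exact DFunLike.congr_fun h0 f

/-- lifting property of `E` against central extensions of `Q` -/
theorem exists_lift {Y : Type*} [Group Y] (ξ : Y →* Q)
    (hξ : Function.Surjective ξ) (hξc : ξ.ker ≤ Subgroup.center Y) :
    ∃ β : E π →* Y, ξ.comp β = ρ π := by
  obtain ⟨β, hβ⟩ := exists_lift' π ξ hξ hξc (MonoidHom.id Q)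
  exact ⟨β, by rw [hβ, MonoidHom.id_comp]⟩

/-- the map `E → Fᵃᵇ` -/
def ab : E π →* Abelianization (FreeGroup X) :=
  QuotientGroup.lift (C π) Abelianization.of (fun x hx => by
    rw [Abelianization.ker_of]
    exact C_le_commutator π hx)

@[simp]
theorem ab_mk (f : FreeGroup X) : ab π (QuotientGroup.mk f) = Abelianization.of f := rfl

theorem commutator_E_eq : commutator (E π) = (commutator (FreeGroup X)).map (QuotientGroup.mk' (C π)) := by
  rw [commutator_def, commutator_def, Subgroup.map_commutator,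
    ← MonoidHom.range_eq_map, MonoidHom.range_eq_top_of_surjective _ (QuotientGroup.mk'_surjective _)]

theorem ab_ker : (ab π).ker = commutator (E π) := by
  ext x
  obtain ⟨f, rfl⟩ := QuotientGroup.mk_surjective x
  rw [MonoidHom.mem_ker, ab_mk, ← MonoidHom.mem_ker, Abelianization.ker_of, commutator_E_eq]
  constructor
  · intro h
    exact ⟨f, h, rfl⟩
  · rintro ⟨f', hf', h⟩
    rw [QuotientGroup.mk'_apply, QuotientGroup.eq] at h
    have h2 : f = f' * (f'⁻¹ * f) := by group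
    rw [h2]
    exact mul_mem hf' (C_le_commutator π h)

theorem ab_torsionFree (b : Abelianization (FreeGroup X)) (n : ℕ) (hn : 0 < n)
    (h : b ^ n = 1) : b = 1 := by
  have e : Additive (Abelianization (FreeGroup X)) ≃+ (X →₀ ℤ) := FreeAbelianGroup.equivFinsupp X
  have h1 : n • (e (Additive.ofMul b)) = 0 := by
    rw [← map_nsmul, ← ofMul_pow, h]
    exact map_zero _
  rw [smul_eq_zero] at h1
  rcases h1 with h1 | h1
  · omega
  · have := e.injective (h1.trans (map_zero _).symm)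
    exact congrArg Additive.toMul this

theorem T_torsionFree_quot (z : E π) (n : ℕ) (hn : 0 < n) (hz : z ∈ (ρ π).ker)
    (h : z ^ n ∈ T π) : z ∈ T π := by
  refine Subgroup.mem_inf.mpr ⟨hz, ?_⟩
  rw [← ab_ker, MonoidHom.mem_ker]
  apply ab_torsionFree _ n hn
  rw [← map_pow, ← MonoidHom.mem_ker, ab_ker]
  exact T_le_commutator π h

theorem commutatorElement_mul_center {G : Type*} [Group G] (g₁ g₂ k₁ k₂ : G)
    (h₁ : k₁ ∈ Subgroup.center G) (h₂ : k₂ ∈ Subgroup.center G) :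
    ⁅g₁ * k₁, g₂ * k₂⁆ = ⁅g₁, g₂⁆ := by
  have c₁ := Subgroup.mem_center_iff.mp h₁
  have c₂ := Subgroup.mem_center_iff.mp h₂
  rw [commutatorElement_def, commutatorElement_def, mul_inv_rev, mul_inv_rev]
  calc g₁ * k₁ * (g₂ * k₂) * (k₁⁻¹ * g₁⁻¹) * (k₂⁻¹ * g₂⁻¹)
      = g₁ * (k₁ * (g₂ * k₂) * k₁⁻¹) * g₁⁻¹ * k₂⁻¹ * g₂⁻¹ := by group
    _ = g₁ * ((g₂ * k₂) * k₁ * k₁⁻¹) * g₁⁻¹ * k₂⁻¹ * g₂⁻¹ := by rw [← c₁]
    _ = g₁ * g₂ * (k₂ * g₁⁻¹) * k₂⁻¹ * g₂⁻¹ := by group
    _ = g₁ * g₂ * (g₁⁻¹ * k₂) * k₂⁻¹ * g₂⁻¹ := by rw [c₂]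
    _ = g₁ * g₂ * g₁⁻¹ * g₂⁻¹ := by group

/-- Schur: if the centre has finite index then there are finitely many commutators -/
theorem finite_commutatorSet_of_finiteIndex_center (G : Type*) [Group G]
    [(Subgroup.center G).FiniteIndex] : Finite (commutatorSet G) := by
  have : Finite (G ⧸ Subgroup.center G) := Subgroup.finite_quotient_of_finiteIndex
  let c : (G ⧸ Subgroup.center G) × (G ⧸ Subgroup.center G) → G :=
    fun p => ⁅p.1.out, p.2.out⁆
  apply Set.Finite.subset (Set.finite_range c)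
  rintro _ ⟨g₁, g₂, rfl⟩
  obtain ⟨k₁, hk₁⟩ := QuotientGroup.mk_out_eq_mul (Subgroup.center G) g₁
  obtain ⟨k₂, hk₂⟩ := QuotientGroup.mk_out_eq_mul (Subgroup.center G) g₂
  refine ⟨(QuotientGroup.mk g₁, QuotientGroup.mk g₂), ?_⟩
  change ⁅(QuotientGroup.mk g₁ : G ⧸ Subgroup.center G).out,
    (QuotientGroup.mk g₂ : G ⧸ Subgroup.center G).out⁆ = ⁅g₁, g₂⁆
  rw [hk₁, hk₂]
  exact commutatorElement_mul_center g₁ g₂ k₁ k₂ k₁.2 k₂.2

theorem ker_ρ_finiteIndex [Finite Q] : (ρ π).ker.FiniteIndex := by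
  constructor
  rw [Subgroup.index_ker]
  exact Nat.card_pos.ne'

theorem finite_commutator_E [Finite Q] : Finite (commutator (E π)) := by
  have h1 := ker_ρ_finiteIndex π
  have h2 : (Subgroup.center (E π)).FiniteIndex := Subgroup.finiteIndex_of_le (ρ_ker_le_center π)
  have h3 := finite_commutatorSet_of_finiteIndex_center (E π)
  infer_instance

instance finite_T [Finite Q] : Finite (T π) := by
  have := finite_commutator_E π
  exact Finite.of_injective (fun x : T π => (⟨x.1, T_le_commutator π x.2⟩ : commutator (E π)))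
    (fun a b h => Subtype.ext (by
      have := congrArg Subtype.val h
      exact this))

theorem fg_ker_ρ [Finite X] [Finite Q] : Group.FG (ρ π).ker := by
  have h1 := ker_ρ_finiteIndex π
  have h2 : Group.FG (E π) := QuotientGroup.fg _
  infer_instance

/-- for every stem extension `τ` of `Q`, the group `T` maps onto `ker τ` -/
theorem exists_T_surjective (hπ : Function.Surjective π) {Δ : Type*} [Group Δ] (τ : Δ →* Q)
    (hτ : IsStemExtension τ) : ∃ f : T π →* τ.ker, Function.Surjective f := by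
  obtain ⟨β, hβ⟩ := exists_lift π τ hτ.1 hτ.2.1
  obtain ⟨f, hf, _⟩ := exists_surjective_of_stem (ρ π) (ρ_surjective π hπ) τ hτ β hβ
  exact ⟨f, hf⟩

/-- existence of a complement to `T` inside `ker ρ`, contained in the kernel of a given lift
to a stem extension -/
theorem exists_complement [Finite X] [Finite Q] (hπ : Function.Surjective π) {Δ : Type*} [Group Δ]
    (τ : Δ →* Q) (hτ : IsStemExtension τ) (β : E π →* Δ) (hβ : τ.comp β = ρ π) :
    ∃ S : Subgroup (E π), S ≤ (ρ π).ker ∧ S ≤ β.ker ∧ S ⊓ T π = ⊥ ∧ S ⊔ T π = (ρ π).ker := by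
  have hfg := fg_ker_ρ π
  have hmap := map_ker_inf_commutator_of_stem (ρ π) (ρ_surjective π hπ) τ hτ β hβ
  have hNT : (β.ker ⊓ (ρ π).ker) ⊔ T π = (ρ π).ker := by
    apply le_antisymm (sup_le inf_le_right (T_le_ker π))
    intro z hz
    have h1 : β z ∈ τ.ker := by
      rw [MonoidHom.mem_ker, ← MonoidHom.comp_apply, hβ]
      exact hz
    rw [← hmap] at h1
    obtain ⟨t, ht, hzt⟩ := h1
    rw [Helper66_SchurAb.mem_sup_of_le_center (T_le_center π)]
    refine ⟨z * t⁻¹, Subgroup.mem_inf.mpr ⟨?_, ?_⟩, t, ht, by group⟩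
    · rw [MonoidHom.mem_ker, map_mul, map_inv, hzt, mul_inv_cancel]
    · exact mul_mem hz (inv_mem (T_le_ker π ht))
  obtain ⟨S, hS1, hS2, hS3⟩ := Helper66_SchurAb.exists_complement_central (ρ π).ker
    (ρ_ker_le_center π) hfg (T π) (β.ker ⊓ (ρ π).ker) (T_le_ker π) inf_le_right hNT
    (fun z hz n hn h => T_torsionFree_quot π z n hn hz h)
  exact ⟨S, hS1.trans inf_le_right, hS1.trans inf_le_left, hS2, hS3⟩

end Free

end Cfsg.Agent.Lib.Helper66_SchurCore
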