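import Mathlib
import Cfsg.Prelude.Def_KGroupFacts
import Cfsg.Agent.Lib.Helper66_Stem
import Cfsg.Agent.Lib.Helper66_StemTools
import Cfsg.Agent.Lib.Helper66_SchurCore
import Cfsg.Agent.Lib.Helper66_SL2Mult
import Cfsg.Agent.Lib.Helper61_F9
import Cfsg.Agent.S0260

set_option autoImplicit false
open Cfsg

/-! Upper bound for the Schur multiplier of `SL₂(9)`: the kernel of every finite stem extension
is generated by one element of order dividing `3` (helper35). -/

namespace Cfsg.Agent.Lib.Helper35_SL29Bound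

open Matrix
open scoped MatrixGroups commutatorElement
open Cfsg.Agent.Lib.Helper66_StemTools Cfsg.Agent.Lib.Helper66_SL2Mult
open Cfsg.Agent.Lib.Helper61_F9
open Cfsg.Agent.S0260 (uT U uHom)

theorem f9_decomp : ∀ x : F9, ∃ a b : Fin 3, x = (a : ℕ) • (1 : F9) + (b : ℕ) • F9.mk 0 1 := by
  decide

variable {F : Type*} [Field F]

theorem uT_nsmul (n : ℕ) (β : F) : uT (n • β) = uT β ^ n := by
  induction n with
  | zero => rw [zero_smul, pow_zero]; exact map_one uHom
  | succ k ih => rw [succ_nsmul, uT_add, ih, pow_succ]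

variable [Fintype F]

/-- a basis `1, i` of a field with nine elements over its prime field -/
theorem exists_basis (hF : Fintype.card F = 9) :
    ∃ i : F, ∀ x : F, ∃ a b : ℕ, x = a • (1 : F) + b • i := by
  let e := ringEquivF9 hF
  refine ⟨e.symm (F9.mk 0 1), fun x => ?_⟩
  obtain ⟨a, b, hab⟩ := f9_decomp (e x)
  refine ⟨a, b, ?_⟩
  apply e.injective
  rw [hab, map_add, map_nsmul, map_nsmul, map_one, RingEquiv.apply_symm_apply]

theorem three_eq_zero (hF : Fintype.card F = 9) : (3 : F) = 0 := by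
  let e := ringEquivF9 hF
  apply e.injective
  rw [map_ofNat, map_zero]
  decide

section stem

variable {Γ : Type*} [Group Γ] [Finite Γ] (σ : Γ →* SL(2, F))

/-- every element of the kernel has order dividing `9` -/
theorem pow_nine (hstem : IsStemExtension σ) (hF : Fintype.card F = 9) (z : Γ) (hz : z ∈ σ.ker) :
    z ^ 9 = 1 := by
  have h1 := pow_T σ hstem z hz
  have h2 := pow_C σ hstem z hz
  rw [hF] at h1 h2
  have h3 : z ^ 18 = 1 := by
    have h4 : z ^ (9 * (9 + 1)) = z ^ (9 * (9 - 1)) * z ^ 18 := by rw [← pow_add]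
    rw [h1, h2, one_mul] at h4
    exact h4.symm
  have h5 : (z ^ 9) ^ 2 = 1 := by rw [← pow_mul]; exact h3
  exact eq_one_of_odd σ hstem (by rw [hF]) (z ^ 9) (Subgroup.pow_mem _ hz 9) h5

theorem bound (hstem : IsStemExtension σ) (hF : Fintype.card F = 9) :
    ∃ w ∈ σ.ker, (∀ z ∈ σ.ker, z ∈ Subgroup.zpowers w) ∧ w ^ 3 = 1 := by
  classical
  obtain ⟨hs, hc, hd⟩ := hstem
  obtain ⟨i, hi⟩ := exists_basis hF
  obtain ⟨α, hα⟩ := hs (uT 1)
  obtain ⟨ξ, hξ⟩ := hs (uT i)
  have hwker : ⁅α, ξ⁆ ∈ σ.ker := by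
    rw [MonoidHom.mem_ker, map_commutatorElement, hα, hξ, commutatorElement_eq_one_iff_mul_comm]
    exact uT_comm 1 i
  have hwc : ⁅α, ξ⁆ ∈ Subgroup.center Γ := hc hwker
  -- `α ^ 3` is in the kernel
  have hα3 : α ^ 3 ∈ σ.ker := by
    rw [MonoidHom.mem_ker, map_pow, hα, ← uT_nsmul]
    have : (3 : ℕ) • (1 : F) = 0 := by
      rw [nsmul_eq_mul, mul_one]
      exact_mod_cast three_eq_zero hF
    rw [this]
    exact map_one uHom
  have hw3 : ⁅α, ξ⁆ ^ 3 = 1 := by
    have h1 : ⁅α * α, ξ⁆ = ⁅α, ξ⁆ * ⁅α, ξ⁆ :=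
      commutatorElement_mul_left_of_central α α ξ hwc
    have h2 : ⁅α * (α * α), ξ⁆ = ⁅α, ξ⁆ * ⁅α * α, ξ⁆ := by
      apply commutatorElement_mul_left_of_central
      rw [h1]
      exact Subgroup.mul_mem _ hwc hwc
    have h3 : ⁅α * (α * α), ξ⁆ = 1 := by
      rw [commutatorElement_eq_one_iff_mul_comm]
      have h4 : α * (α * α) = α ^ 3 := by rw [pow_succ, _root_.pow_two, mul_assoc]
      rw [h4]
      exact (Subgroup.mem_center_iff.mp (hc hα3) ξ).symm
    rw [pow_succ', _root_.pow_two, ← h1, ← h2, h3]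
  refine ⟨⁅α, ξ⁆, hwker, ?_, hw3⟩
  intro z hz
  -- transfer into the preimage of `U`
  set H : Subgroup Γ := (U : Subgroup SL(2, F)).comap σ with hH
  have hHidx : H.index = 80 := by
    rw [hH, Subgroup.index_comap_of_surjective U hs, index_U, hF]
    norm_num
  have : H.FiniteIndex := ⟨by rw [hHidx]; norm_num⟩
  obtain ⟨hmem, hcomm⟩ := pow_index_mem_commutator H z (hc hz) (hd hz)
  have hαH : α ∈ H := by rw [hH, Subgroup.mem_comap, hα]; exact Cfsg.Agent.S0260.uT_mem_U 1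
  have hξH : ξ ∈ H := by rw [hH, Subgroup.mem_comap, hξ]; exact Cfsg.Agent.S0260.uT_mem_U i
  have hkH : σ.ker ≤ H := by
    intro k hk
    rw [hH, Subgroup.mem_comap, MonoidHom.mem_ker.mp hk]
    exact Subgroup.one_mem _
  let N : Subgroup H := (Subgroup.zpowers ⁅α, ξ⁆).subgroupOf H
  have hNc : N ≤ Subgroup.center H := by
    intro x hx
    rw [Subgroup.mem_subgroupOf] at hx
    have hx' : (x : Γ) ∈ Subgroup.center Γ := by
      obtain ⟨k, hk⟩ := Subgroup.mem_zpowers_iff.mp hx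
      rw [← hk]
      exact Subgroup.zpow_mem _ hwc k
    rw [Subgroup.mem_center_iff]
    intro g
    exact Subtype.ext (Subgroup.mem_center_iff.mp hx' (g : Γ))
  have : N.Normal := Cfsg.Agent.Lib.Helper66_SchurCore.normal_of_le_center hNc
  let S : Set H := {h | (h : Γ) = α ∨ (h : Γ) = ξ ∨ (h : Γ) ∈ σ.ker}
  have hS : Subgroup.closure S = ⊤ := by
    rw [eq_top_iff]
    intro h _
    obtain ⟨x, hx⟩ := (Cfsg.Agent.S0260.mem_U_iff _).mp h.2
    obtain ⟨a, b, hab⟩ := hi x
    have hk : (α ^ a * ξ ^ b)⁻¹ * (h : Γ) ∈ σ.ker := by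
      rw [MonoidHom.mem_ker, map_mul, map_inv, map_mul, map_pow, map_pow, hα, hξ, hx, hab,
        uT_add, uT_nsmul, uT_nsmul, inv_mul_cancel]
    have e : h = (⟨α, hαH⟩ : H) ^ a * (⟨ξ, hξH⟩ : H) ^ b *
        ⟨(α ^ a * ξ ^ b)⁻¹ * (h : Γ), hkH hk⟩ := by
      apply Subtype.ext
      simp only [Subgroup.coe_mul, Subgroup.coe_pow]
      group
    rw [e]
    refine Subgroup.mul_mem _ (Subgroup.mul_mem _ (Subgroup.pow_mem _ ?_ _)
      (Subgroup.pow_mem _ ?_ _)) ?_
    · exact Subgroup.subset_closure (Or.inl rfl)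
    · exact Subgroup.subset_closure (Or.inr (Or.inl rfl))
    · exact Subgroup.subset_closure (Or.inr (Or.inr hk))
  have hcommS : ∀ a ∈ S, ∀ b ∈ S, a * b * a⁻¹ * b⁻¹ ∈ N := by
    intro a ha b hb
    rw [Subgroup.mem_subgroupOf]
    simp only [Subgroup.coe_mul, Subgroup.coe_inv]
    have hcentral : ∀ k g : Γ, k ∈ σ.ker → k * g * k⁻¹ * g⁻¹ = 1 ∧ g * k * g⁻¹ * k⁻¹ = 1 := by
      intro k g hk
      have := Subgroup.mem_center_iff.mp (hc hk) g
      constructor
      · rw [← this]; group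
      · rw [this]; group
    rcases ha with ha | ha | ha
    · rcases hb with hb | hb | hb
      · rw [ha, hb]
        have : α * α * α⁻¹ * α⁻¹ = 1 := by group
        rw [this]; exact Subgroup.one_mem _
      · rw [ha, hb, ← commutatorElement_def]
        exact Subgroup.mem_zpowers _
      · rw [(hcentral _ _ hb).2]; exact Subgroup.one_mem _
    · rcases hb with hb | hb | hb
      · rw [ha, hb]
        have : ξ * α * ξ⁻¹ * α⁻¹ = ⁅α, ξ⁆⁻¹ := by rw [commutatorElement_def]; group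
        rw [this]
        exact Subgroup.inv_mem _ (Subgroup.mem_zpowers _)
      · rw [ha, hb]
        have : ξ * ξ * ξ⁻¹ * ξ⁻¹ = 1 := by group
        rw [this]; exact Subgroup.one_mem _
      · rw [(hcentral _ _ hb).2]; exact Subgroup.one_mem _
    · rw [(hcentral _ _ ha).1]; exact Subgroup.one_mem _
  have hle := Cfsg.Agent.Lib.Helper66_Stem.commutator_le_of_closure N S hS hcommS
  have h80 : z ^ 80 ∈ Subgroup.zpowers ⁅α, ξ⁆ := by
    have := hle hcomm
    rw [Subgroup.mem_subgroupOf] at this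
    have h2 : ((⟨z ^ H.index, hmem⟩ : H) : Γ) = z ^ 80 := by
      show z ^ H.index = z ^ 80
      rw [hHidx]
    rwa [h2] at this
  have h81 : z ^ 81 = 1 := by
    have : z ^ 81 = (z ^ 9) ^ 9 := by rw [← pow_mul]
    rw [this, pow_nine σ ⟨hs, hc, hd⟩ hF z hz, one_pow]
  have hz' : z = (z ^ 80)⁻¹ := by
    rw [eq_inv_iff_mul_eq_one, ← pow_succ', h81]
  rw [hz']
  exact Subgroup.inv_mem _ h80

end stem

end Cfsg.Agent.Lib.Helper35_SL29Bound
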