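/-
Central closedness of Steinberg groups of simply-laced type (helper35): the root data of a `ChevalleyDatum` as input
for `Helper35_SteinAbs`, boolean certificates for the combinatorial conditions, and their soundness.
-/
import Mathlib
import Cfsg.Prelude.Def_SteinbergCover
import Cfsg.Agent.Lib.Helper35_SteinAbs
import Cfsg.Agent.Lib.Helper81_StAbs

set_option autoImplicit false
set_option linter.unusedVariables false
set_option linter.unusedSectionVars false

namespace Cfsg.Agent.Lib.Helper35_SteinCert

open Cfsg Cfsg.Lie Cfsg.Agent.Lib.Helper81_StAbs Cfsg.Agent.Lib.Helper35_SteinAbs Cfsg.Agent.Lib.Helper81_UceA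
open scoped commutatorElement

variable (D : ChevalleyDatum)

/-- The sum of two roots, with the structure constant of the group commutator `⁅x_b(u), x_a(t)⁆`. -/
def smD (a b : ℕ) : Option (ℕ × ℤ) := ((D.chainEntry a b)[0]?).map fun e => (e.1, -e.2)

/-- The root elements of `r` and `s` commute (boolean form). -/
def cmB (r s : ℕ) : Bool :=
  decide (r < D.nroots) && (decide (s < D.nroots) &&
    (decide (s = r) || (!decide (s = D.neg r) && (smD D r s).isNone)))

/-- Well-formedness of a row of the chain table, for a simply-laced datum. -/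
def wfRow (r : ℕ) : Bool :=
  ((D.chain.getD r #[]).toList).all fun e =>
    decide (e.1 < D.nroots) && (!decide (e.1 = r) && (!decide (e.1 = D.neg r) && (decide (e.2.size = 1) &&
      (match e.2[0]? with
       | some km => decide (km.1 < D.nroots) && (decide (km.2 = 1) || decide (km.2 = -1))
       | none => false))))

/-- Well-formedness of the chain table. -/
def wfB : Bool := decide (D.chain.size ≤ D.nroots) && (List.range D.nroots).all (wfRow D)

variable {D}

theorem chainEntry_cases (h : wfB D = true) (a b : ℕ) :
    D.chainEntry a b = [] ∨ ∃ k M, D.chainEntry a b = [(k, M)] ∧ a < D.nroots ∧ b < D.nroots ∧ b ≠ a ∧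
      b ≠ D.neg a ∧ k < D.nroots ∧ (M = 1 ∨ M = -1) := by
  unfold wfB at h
  rw [Bool.and_eq_true, decide_eq_true_eq, List.all_eq_true] at h
  obtain ⟨hsz, hrows⟩ := h
  unfold ChevalleyDatum.chainEntry
  cases hfind : (D.chain.getD a #[]).toList.find? (fun e => decide (e.1 = b)) with
  | none => left; rfl
  | some e =>
    right
    have hmem := List.mem_of_find?_eq_some hfind
    have hb := List.find?_some hfind
    rw [decide_eq_true_eq] at hb
    have ha : a < D.chain.size := by
      by_contra hcon
      have : D.chain.getD a #[] = #[] := by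
        rw [Array.getD_eq_getD_getElem?, Array.getElem?_eq_none (by omega)]
        rfl
      rw [this] at hmem
      simp at hmem
    have han : a < D.nroots := lt_of_lt_of_le ha hsz
    have hrow := hrows a (List.mem_range.mpr han)
    unfold wfRow at hrow
    rw [List.all_eq_true] at hrow
    have he := hrow e hmem
    simp only [Bool.and_eq_true, decide_eq_true_eq, Bool.not_eq_true', decide_eq_false_iff_not] at he
    obtain ⟨h1, h2, h3, h4, h5⟩ := he
    cases h0 : e.2[0]? with
    | none => rw [h0] at h5; simp at h5
    | some km =>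
      rw [h0] at h5
      simp only [Bool.and_eq_true, decide_eq_true_eq, Bool.or_eq_true] at h5
      refine ⟨km.1, km.2, ?_, han, hb ▸ h1, hb ▸ h2, hb ▸ h3, h5.1, h5.2⟩
      have hlen : e.2.toList.length = 1 := by rw [Array.length_toList]; exact h4
      obtain ⟨x, hx⟩ := List.length_eq_one_iff.mp hlen
      have : e.2[0]? = some x := by
        rw [← Array.getElem?_toList, hx]
        rfl
      rw [h0] at this
      have hx' : x = km := (Option.some.inj this).symm
      show e.2.toList = [(km.1, km.2)]
      rw [hx, hx']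

theorem chainEntry_length (h : wfB D = true) (a b : ℕ) : (D.chainEntry a b).length ≤ 1 := by
  rcases chainEntry_cases h a b with h1 | ⟨k, M, h1, -⟩ <;> rw [h1] <;> simp

theorem commTerms_eq (h : wfB D = true) (a b : ℕ) :
    D.commTerms a b = match (D.chainEntry a b)[0]? with
      | some e => [(e.1, e.2, 1, 1)]
      | none => [] := by
  have h1 : ∀ i, 1 ≤ i → (D.chainEntry a b)[i]? = none := fun i hi =>
    List.getElem?_eq_none (le_trans (chainEntry_length h a b) hi)
  have h2 : ∀ i, 1 ≤ i → (D.chainEntry b a)[i]? = none := fun i hi =>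
    List.getElem?_eq_none (le_trans (chainEntry_length h b a) hi)
  unfold ChevalleyDatum.commTerms ChevalleyDatum.chainRoot ChevalleyDatum.chainM
  simp only [Nat.sub_self, Nat.add_one_sub_one, h1 1 le_rfl, h1 2 (by norm_num), h2 1 le_rfl, h2 2 (by norm_num),
    Option.map_none, Option.bind_none]
  cases h0 : (D.chainEntry a b)[0]? with
  | none => simp
  | some e => simp

theorem smD_some (h : wfB D = true) {a b k : ℕ} {d : ℤ} (hs : smD D a b = some (k, d)) :
    a < D.nroots ∧ b < D.nroots ∧ b ≠ a ∧ b ≠ D.neg a ∧ k < D.nroots ∧ d * d = 1 ∧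
      D.commTerms a b = [(k, -d, 1, 1)] := by
  unfold smD at hs
  rcases chainEntry_cases h a b with h1 | ⟨k', M, h1, ha, hb, hba, hbn, hk, hM⟩
  · rw [h1] at hs
    simp at hs
  · have hct := commTerms_eq h a b
    rw [h1] at hs hct
    simp only [List.getElem?_cons_zero, Option.map_some, Option.some.injEq, Prod.mk.injEq] at hs
    obtain ⟨rfl, rfl⟩ := hs
    refine ⟨ha, hb, hba, hbn, hk, ?_, ?_⟩
    · rcases hM with rfl | rfl <;> norm_num
    · rw [hct]
      simp

theorem smD_none (h : wfB D = true) {a b : ℕ} (hs : smD D a b = none) : D.commTerms a b = [] := by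
  unfold smD at hs
  rw [commTerms_eq h a b]
  rw [Option.map_eq_none_iff] at hs
  rw [hs]

theorem cmB_iff {r s : ℕ} : cmB D r s = true ↔ r < D.nroots ∧ s < D.nroots ∧ (s = r ∨ (s ≠ D.neg r ∧ smD D r s = none)) := by
  unfold cmB
  simp only [Bool.and_eq_true, decide_eq_true_eq, Bool.or_eq_true, Bool.not_eq_true', decide_eq_false_iff_not,
    Option.isNone_iff_eq_none]

section Rel

variable {F : Type*} [Field F] {Γ : Type*} [Group Γ] {X : ℕ → F → Γ}

theorem commute_of_cmB (h : wfB D = true) (hX : StGrp D X) {r s : ℕ} (hc : cmB D r s = true) (t u : F) :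
    Commute (X r t) (X s u) := by
  obtain ⟨hr, hs, hc⟩ := cmB_iff.mp hc
  rcases hc with rfl | ⟨hne, hnone⟩
  · show X s t * X s u = X s u * X s t
    rw [hX.add s hs, hX.add s hs, add_comm]
  · by_cases hsr : s = r
    · subst hsr
      show X s t * X s u = X s u * X s t
      rw [hX.add s hs, hX.add s hs, add_comm]
    · have := hX.comm r s hr hs hsr hne t u
      unfold ChevalleyDatum.commWord at this
      rw [smD_none h hnone, List.map_nil, wordP_nil] at this
      show X r t * X s u = X s u * X r t
      calc X r t * X s u = X s u * X r t * ((X s u)⁻¹ * (X r t)⁻¹ * X s u * X r t)⁻¹ := by group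
        _ = X s u * X r t := by rw [this, inv_one, mul_one]

theorem rel_of_smD (h : wfB D = true) (hX : StGrp D X) {a b r : ℕ} {d : ℤ} (hs : smD D a b = some (r, d))
    (t u : F) : ⁅X b u, X a t⁆ = X r ((d : F) * t * u) := by
  obtain ⟨ha, hb, hba, hbn, hr, hd, hct⟩ := smD_some h hs
  have := hX.comm a b ha hb hba hbn (-t) (-u)
  unfold ChevalleyDatum.commWord at this
  rw [hct, List.map_cons, List.map_nil, wordP_cons, wordP_nil, mul_one, hX.inv b hb, hX.inv a ha, neg_neg,
    neg_neg] at this
  rw [commutatorElement_def, hX.inv b hb, hX.inv a ha, this]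
  congr 1
  push_cast
  ring

end Rel

/-! ### Boolean certificates -/

section Certs

variable (D)

/-- The canonical decomposition of a root, from a table. -/
def can (canT : List (ℕ × ℕ)) (r : ℕ) : ℕ × ℕ := canT.getD r (0, 0)

/-- Look up the entry of the decomposition `(x, y)` in the table of Hall-Witt configurations. -/
def look (T : List (List (ℕ × Bool × ℕ × ℕ × ℕ × ℕ))) (x y : ℕ) : Option (ℕ × Bool × ℕ × ℕ × ℕ × ℕ) :=
  (T.getD x []).find? fun e => decide (e.1 = y)

/-- The depth of a decomposition. -/
def dep (T : List (List (ℕ × Bool × ℕ × ℕ × ℕ × ℕ))) (x y : ℕ) : ℕ :=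
  match look T x y with
  | some e => e.2.2.2.2.2
  | none => 0

/-- (C4): the summands commute with the sum. -/
def c4Row (a : ℕ) : Bool :=
  (D.chain.getD a #[]).toList.all fun e =>
    match e.2[0]? with
    | some km => cmB D a km.1 && cmB D e.1 km.1
    | none => false

/-- (C1): a root commuting with `r` commutes with both summands of a decomposition of `r`. -/
def c1Row (W : List (List (ℕ × ℕ))) (r : ℕ) : Bool :=
  ((W.getD r []).all fun ab =>
    match smD D ab.1 ab.2 with
    | some ks => decide (ks.1 = r)
    | none => false) &&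
  (List.range D.nroots).all fun s =>
    !(cmB D r s) || (W.getD r []).any fun ab => cmB D ab.1 s && cmB D ab.2 s

/-- The canonical decomposition is a decomposition. -/
def canRow (canT : List (ℕ × ℕ)) (r : ℕ) : Bool :=
  match smD D (can canT r).1 (can canT r).2 with
  | some ks => decide (ks.1 = r)
  | none => false

/-- The Hall-Witt configuration attached to the decomposition `x + y = r`. -/
def parEntry (canT : List (ℕ × ℕ)) (T : List (List (ℕ × Bool × ℕ × ℕ × ℕ × ℕ))) (x y r : ℕ) : Bool :=
  match look T x y with
  | none => false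
  | some e =>
    match smD D e.2.2.1 e.2.2.2.1, smD D e.2.2.2.1 e.2.2.2.2.1 with
    | some pd, some qd =>
      cmB D e.2.2.1 e.2.2.2.2.1 && (cmB D pd.1 qd.1 &&
        (match smD D pd.1 e.2.2.2.2.1, smD D e.2.2.1 qd.1 with
         | some r₁, some r₂ =>
           decide (r₁.1 = r) && (decide (r₂.1 = r) && (decide (r₁.2 * pd.2 = r₂.2 * qd.2) &&
             (if e.2.1 then
                decide (x = e.2.2.1) && (decide (y = qd.1) &&
                  (decide ((e.2.2.1, qd.1) = can canT r) ||
                    decide (dep T pd.1 e.2.2.2.2.1 < dep T e.2.2.1 qd.1)))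
              else
                decide (x = pd.1) && (decide (y = e.2.2.2.2.1) &&
                  (decide ((pd.1, e.2.2.2.2.1) = can canT r) ||
                    decide (dep T e.2.2.1 qd.1 < dep T pd.1 e.2.2.2.2.1))))))
         | _, _ => false))
    | _, _ => false

def parRow (canT : List (ℕ × ℕ)) (T : List (List (ℕ × Bool × ℕ × ℕ × ℕ × ℕ))) (x : ℕ) : Bool :=
  (D.chain.getD x #[]).toList.all fun e =>
    match e.2[0]? with
    | some km => parEntry D canT T x e.1 km.1
    | none => false

/-- All the conditions. -/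
structure Cert (canT : List (ℕ × ℕ)) (T : List (List (ℕ × Bool × ℕ × ℕ × ℕ × ℕ))) (W : List (List (ℕ × ℕ))) :
    Prop where
  wf : wfB D = true
  c4 : ∀ a < D.nroots, c4Row D a = true
  c1 : ∀ r < D.nroots, c1Row D W r = true
  cn : ∀ r < D.nroots, canRow D canT r = true
  pr : ∀ x < D.nroots, parRow D canT T x = true

variable {D}

theorem wfB_of_rows (h1 : D.chain.size ≤ D.nroots) (h2 : ∀ r < D.nroots, wfRow D r = true) : wfB D = true := by
  unfold wfB
  rw [Bool.and_eq_true, decide_eq_true_eq, List.all_eq_true]
  exact ⟨h1, fun r hr => h2 r (List.mem_range.mp hr)⟩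

theorem of_range' {f : ℕ → Bool} {lo len : ℕ} (h : (List.range' lo len).all f = true) (r : ℕ) (h1 : lo ≤ r)
    (h2 : r < lo + len) : f r = true := by
  rw [List.all_eq_true] at h
  apply h r
  rw [List.mem_range'_1]
  exact ⟨h1, h2⟩

/-- A decomposition comes from an entry of the chain table. -/
theorem exists_entry_of_smD {a b r : ℕ} {d : ℤ} (hs : smD D a b = some (r, d)) :
    ∃ e ∈ (D.chain.getD a #[]).toList, e.1 = b ∧ ∃ km, e.2[0]? = some km ∧ km.1 = r := by
  unfold smD ChevalleyDatum.chainEntry at hs
  cases hfind : (D.chain.getD a #[]).toList.find? (fun e => decide (e.1 = b)) with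
  | none =>
    rw [hfind] at hs
    simp at hs
  | some e =>
    rw [hfind] at hs
    have hmem := List.mem_of_find?_eq_some hfind
    have hb := List.find?_some hfind
    rw [decide_eq_true_eq] at hb
    refine ⟨e, hmem, hb, ?_⟩
    simp only [Option.map_eq_some_iff] at hs
    obtain ⟨km, hkm, hkm2⟩ := hs
    refine ⟨km, ?_, ?_⟩
    · rw [← Array.getElem?_toList]
      exact hkm
    · exact (Prod.mk.inj hkm2).1

variable {canT : List (ℕ × ℕ)} {T : List (List (ℕ × Bool × ℕ × ℕ × ℕ × ℕ))} {W : List (List (ℕ × ℕ))}

theorem cert_c4 (C : Cert D canT T W) {a b r : ℕ} {d : ℤ} (hs : smD D a b = some (r, d)) :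
    cmB D a r = true ∧ cmB D b r = true := by
  obtain ⟨ha, -⟩ := smD_some C.wf hs
  obtain ⟨e, hmem, rfl, km, hkm, rfl⟩ := exists_entry_of_smD hs
  have := C.c4 a ha
  unfold c4Row at this
  rw [List.all_eq_true] at this
  have h2 := this e hmem
  rw [hkm] at h2
  simpa using h2

theorem cert_c1 (C : Cert D canT T W) {r s : ℕ} (hr : r < D.nroots) (hc : cmB D r s = true) :
    ∃ a b d, smD D a b = some (r, d) ∧ cmB D a s = true ∧ cmB D b s = true := by
  have := C.c1 r hr
  unfold c1Row at this
  rw [Bool.and_eq_true, List.all_eq_true, List.all_eq_true] at this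
  obtain ⟨h1, h2⟩ := this
  have hs : s < D.nroots := (cmB_iff.mp hc).2.1
  have h3 := h2 s (List.mem_range.mpr hs)
  rw [hc] at h3
  simp only [Bool.not_true, Bool.false_or, List.any_eq_true, Bool.and_eq_true] at h3
  obtain ⟨ab, hab, h4, h5⟩ := h3
  have h6 := h1 ab hab
  cases h7 : smD D ab.1 ab.2 with
  | none => rw [h7] at h6; simp at h6
  | some ks =>
    rw [h7] at h6
    simp only [decide_eq_true_eq] at h6
    refine ⟨ab.1, ab.2, ks.2, ?_, h4, h5⟩
    rw [h7, ← h6]

theorem cert_can (C : Cert D canT T W) {r : ℕ} (hr : r < D.nroots) :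
    ∃ d, smD D (can canT r).1 (can canT r).2 = some (r, d) := by
  have := C.cn r hr
  unfold canRow at this
  cases h7 : smD D (can canT r).1 (can canT r).2 with
  | none => rw [h7] at this; simp at this
  | some ks =>
    rw [h7] at this
    simp only [decide_eq_true_eq] at this
    exact ⟨ks.2, by rw [← this]⟩

theorem cert_par (C : Cert D canT T W) {x y r : ℕ} {d : ℤ} (hs : smD D x y = some (r, d)) :
    ∃ a m c p q d₁ d₂ d₃ d₄,
      smD D a m = some (p, d₁) ∧ smD D m c = some (q, d₂) ∧ cmB D a c = true ∧ cmB D p q = true ∧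
      smD D p c = some (r, d₃) ∧ smD D a q = some (r, d₄) ∧ d₃ * d₁ = d₄ * d₂ ∧
      ((x = p ∧ y = c ∧ ((p, c) = can canT r ∨ dep T a q < dep T p c)) ∨
        (x = a ∧ y = q ∧ ((a, q) = can canT r ∨ dep T p c < dep T a q))) := by
  obtain ⟨hx, -⟩ := smD_some C.wf hs
  obtain ⟨e, hmem, rfl, km, hkm, rfl⟩ := exists_entry_of_smD hs
  have := C.pr x hx
  unfold parRow at this
  rw [List.all_eq_true] at this
  have h2 := this e hmem
  rw [hkm] at h2
  simp only at h2
  unfold parEntry at h2
  cases hl : look T x e.1 with
  | none => rw [hl] at h2; simp at h2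
  | some en =>
    rw [hl] at h2
    simp only at h2
    cases h3 : smD D en.2.2.1 en.2.2.2.1 with
    | none => rw [h3] at h2; simp at h2
    | some pd =>
      cases h4 : smD D en.2.2.2.1 en.2.2.2.2.1 with
      | none => rw [h3, h4] at h2; simp at h2
      | some qd =>
        rw [h3, h4] at h2
        simp only [Bool.and_eq_true] at h2
        obtain ⟨h5, h6, h7⟩ := h2
        cases h8 : smD D pd.1 en.2.2.2.2.1 with
        | none => rw [h8] at h7; simp at h7
        | some r₁ =>
          cases h9 : smD D en.2.2.1 qd.1 with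
          | none => rw [h8, h9] at h7; simp at h7
          | some r₂ =>
            rw [h8, h9] at h7
            simp only [Bool.and_eq_true, decide_eq_true_eq] at h7
            obtain ⟨h10, h11, h12, h13⟩ := h7
            refine ⟨en.2.2.1, en.2.2.2.1, en.2.2.2.2.1, pd.1, qd.1, pd.2, qd.2, r₁.2, r₂.2, h3, h4, h5, h6, ?_, ?_,
              h12, ?_⟩
            · rw [h8, ← h10]
            · rw [h9, ← h11]
            · by_cases ht : en.2.1 = true
              · rw [if_pos ht] at h13
                simp only [Bool.and_eq_true, decide_eq_true_eq, Bool.or_eq_true] at h13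
                right
                exact h13
              · rw [if_neg ht] at h13
                simp only [Bool.and_eq_true, decide_eq_true_eq, Bool.or_eq_true] at h13
                left
                exact h13

/-- The hypotheses of the abstract theorem, from a certificate. -/
theorem sys_of_cert {F : Type*} [Field F] {Γ : Type*} [Group Γ] {X : ℕ → F → Γ} (C : Cert D canT T W)
    (hX : StGrp D X) :
    Sys F D.nroots X (smD D) (fun r s => cmB D r s = true) (can canT) (dep T) where
  add := fun r hr t u => hX.add r hr t u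
  cm := fun r s h t u => commute_of_cmB C.wf hX h t u
  sm_rel := fun a b r d h t u => rel_of_smD C.wf hX h t u
  sq := fun a b r d h => (smD_some C.wf h).2.2.2.2.2.1
  lt := fun a b r d h => ⟨(smD_some C.wf h).1, (smD_some C.wf h).2.1, (smD_some C.wf h).2.2.2.2.1⟩
  cm_sum := fun a b r d h => cert_c4 C h
  cm_self := fun r hr => cmB_iff.mpr ⟨hr, hr, Or.inl rfl⟩
  c1 := fun r s hr h => cert_c1 C hr h
  can_dec := fun r hr => cert_can C hr
  par := fun x y r d h => cert_par C h

end Certs

end Cfsg.Agent.Lib.Helper35_SteinCert
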