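/-
Central closedness of Steinberg groups (helper35): certificate tables for the type E6 (generated).
-/
import Mathlib

set_option autoImplicit false

namespace Cfsg.Agent.Lib.Helper35_SteinDataE6

/-- canonical decompositions -/
def canT : List (ℕ × ℕ) := [(1, 25), (0, 46), (0, 47), (0, 48), (0, 49), (0, 50), (0, 51), (0, 52), (0, 53), (0, 54), (0, 55), (1, 53), (1, 54), (1, 55), (2, 55), (5, 55), (0, 61), (0, 62), (0, 63), (0, 64), (0, 65), (0, 66), (0, 67), (0, 68), (0, 69), (0, 70), (1, 64), (1, 65), (1, 66), (2, 66), (1, 67), (1, 68), (1, 69), (2, 67), (2, 68), (3, 67), (4, 68), (3, 69), (4, 69), (2, 70), (3, 70), (4, 70), (5, 69), (5, 70), (6, 70), (7, 70), (1, 71), (2, 71), (3, 71), (4, 71), (5, 71), (6, 71), (7, 71), (8, 71), (9, 71), (10, 71), (16, 66), (16, 69), (16, 70), (17, 70), (18, 70), (16, 71), (17, 71), (18, 71), (19, 71), (20, 71), (21, 71), (22, 71), (23, 71), (24, 71), (25, 71), (46, 70)]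

/-- decompositions witnessing (C1) -/
def wT : List (List (ℕ × ℕ)) := [[(1, 25), (2, 24), (3, 23), (4, 22)], [(0, 46), (2, 32), (3, 31), (4, 30)], [(0, 47), (1, 39), (3, 34), (4, 33)], [(0, 48), (1, 40), (2, 37), (4, 35)], [(0, 49), (1, 41), (2, 38), (3, 36)], [(0, 50), (1, 43), (2, 42), (15, 16)], [(0, 51), (1, 44), (3, 42), (15, 17)], [(0, 52), (1, 45), (4, 42), (15, 18)], [(0, 53), (2, 44), (3, 43), (15, 19)], [(0, 54), (2, 45), (4, 43), (15, 20)], [(0, 55), (3, 45), (4, 44), (15, 21)], [(1, 53), (2, 51), (3, 50), (15, 26)], [(1, 54), (2, 52), (4, 50), (15, 27)], [(1, 55), (3, 52), (4, 51), (15, 28)], [(2, 55), (3, 54), (4, 53), (15, 29)], [(5, 55), (6, 54), (7, 53), (14, 42)], [(0, 61), (1, 58), (2, 57), (5, 56)], [(0, 62), (1, 59), (3, 57), (6, 56)], [(0, 63), (1, 60), (4, 57), (7, 56)], [(0, 64), (2, 59), (3, 58), (8, 56)], [(0, 65), (2, 60), (4, 58), (9, 56)], [(0, 66), (3, 60), (4, 59), (10, 56)], [(0, 67),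 (5, 59), (6, 58), (8, 57)], [(0, 68), (5, 60), (7, 58), (9, 57)], [(0, 69), (6, 60), (7, 59), (10, 57)], [(0, 70), (8, 60), (9, 59), (10, 58)], [(1, 64), (2, 62), (3, 61), (11, 56)], [(1, 65), (2, 63), (4, 61), (12, 56)], [(1, 66), (3, 63), (4, 62), (13, 56)], [(2, 66), (3, 65), (4, 64), (14, 56)], [(1, 67), (5, 62), (6, 61), (11, 57)], [(1, 68), (5, 63), (7, 61), (12, 57)], [(1, 69), (6, 63), (7, 62), (13, 57)], [(2, 67), (5, 64), (8, 61), (11, 58)], [(2, 68), (5, 65), (9, 61), (12, 58)], [(3, 67), (6, 64), (8, 62), (11, 59)], [(4, 68), (7, 65), (9, 63), (12, 60)], [(3, 69), (6, 66), (10, 62), (13, 59)], [(4, 69), (7, 66), (10, 63), (13, 60)], [(2, 70), (8, 65), (9, 64), (14, 58)], [(3, 70), (8, 66), (10, 64), (14, 59)], [(4, 70), (9, 66), (10, 65), (14, 60)], [(5, 69), (6, 68), (7, 67), (15, 57)], [(5, 70), (8, 68), (9, 67), (15, 58)], [(6, 70), (8, 69), (10, 67), (15, 59)], [(7, 70), (9, 69), (10, 68), (15, 60)],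 [(1, 71), (11, 63), (12, 62), (13, 61)], [(2, 71), (11, 65), (12, 64), (14, 61)], [(3, 71), (11, 66), (13, 64), (14, 62)], [(4, 71), (12, 66), (13, 65), (14, 63)], [(5, 71), (11, 68), (12, 67), (15, 61)], [(6, 71), (11, 69), (13, 67), (15, 62)], [(7, 71), (12, 69), (13, 68), (15, 63)], [(8, 71), (11, 70), (14, 67), (15, 64)], [(9, 71), (12, 70), (14, 68), (15, 65)], [(10, 71), (13, 70), (14, 69), (15, 66)], [(16, 66), (17, 65), (18, 64), (29, 57)], [(16, 69), (17, 68), (18, 67), (42, 56)], [(16, 70), (19, 68), (20, 67), (43, 56)], [(17, 70), (19, 69), (21, 67), (44, 56)], [(18, 70), (20, 69), (21, 68), (45, 56)], [(16, 71), (26, 68), (27, 67), (50, 56)], [(17, 71), (26, 69), (28, 67), (51, 56)], [(18, 71), (27, 69), (28, 68), (52, 56)], [(19, 71), (26, 70), (29, 67), (53, 56)], [(20, 71), (27, 70), (29, 68), (54, 56)], [(21, 71), (28, 70), (29, 69), (55, 56)], [(22, 71), (30, 70), (33, 69), (35, 68)], [(23, 71), (31,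 70), (34, 69), (36, 67)], [(24, 71), (32, 70), (37, 68), (38, 67)], [(25, 71), (39, 69), (40, 68), (41, 67)], [(46, 70), (47, 69), (48, 68), (49, 67)]]

def tRow0 : List (ℕ × Bool × ℕ × ℕ × ℕ × ℕ) := [(46, true, 0, 47, 32, 0), (47, true, 0, 46, 39, 0), (48, true, 0, 46, 40, 0), (49, true, 0, 46, 41, 0), (50, true, 0, 46, 43, 0), (51, true, 0, 46, 44, 0), (52, true, 0, 46, 45, 0), (53, true, 0, 47, 44, 0), (54, true, 0, 47, 45, 0), (55, true, 0, 48, 45, 0), (61, true, 0, 46, 58, 0), (62, true, 0, 46, 59, 0), (63, true, 0, 46, 60, 0), (64, true, 0, 47, 59, 0), (65, true, 0, 47, 60, 0), (66, true, 0, 48, 60, 0), (67, true, 0, 50, 59, 0), (68, true, 0, 50, 60, 0), (69, true, 0, 51, 60, 0), (70, true, 0, 53, 60, 0)]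
def tRow1 : List (ℕ × Bool × ℕ × ℕ × ℕ × ℕ) := [(25, true, 1, 39, 24, 0), (39, false, 0, 46, 39, 1), (40, false, 0, 46, 40, 1), (41, false, 0, 46, 41, 1), (43, false, 0, 46, 43, 1), (44, false, 0, 46, 44, 1), (45, false, 0, 46, 45, 1), (53, true, 1, 39, 51, 0), (54, true, 1, 39, 52, 0), (55, true, 1, 40, 52, 0), (58, false, 0, 46, 58, 1), (59, false, 0, 46, 59, 1), (60, false, 0, 46, 60, 1), (64, true, 1, 39, 62, 0), (65, true, 1, 39, 63, 0), (66, true, 1, 40, 63, 0), (67, true, 1, 43, 62, 0), (68, true, 1, 43, 63, 0), (69, true, 1, 44, 63, 0), (71, true, 1, 53, 63, 0)]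
def tRow2 : List (ℕ × Bool × ℕ × ℕ × ℕ × ℕ) := [(24, false, 1, 39, 24, 1), (32, false, 0, 47, 32, 1), (37, false, 0, 47, 37, 1), (38, false, 0, 47, 38, 1), (42, false, 0, 47, 42, 1), (44, false, 0, 47, 44, 1), (45, false, 0, 47, 45, 1), (51, false, 1, 39, 51, 1), (52, false, 1, 39, 52, 1), (55, true, 2, 37, 54, 0), (57, false, 0, 47, 57, 1), (59, false, 0, 47, 59, 1), (60, false, 0, 47, 60, 1), (62, false, 1, 39, 62, 1), (63, false, 1, 39, 63, 1), (66, true, 2, 37, 65, 0), (67, true, 2, 42, 64, 0), (68, true, 2, 42, 65, 0), (70, true, 2, 44, 65, 0), (71, true, 2, 51, 65, 0)]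
def tRow3 : List (ℕ × Bool × ℕ × ℕ × ℕ × ℕ) := [(23, false, 1, 40, 23, 1), (31, false, 0, 48, 31, 1), (34, false, 0, 48, 34, 1), (36, false, 0, 48, 36, 1), (42, false, 0, 48, 42, 1), (43, false, 0, 48, 43, 1), (45, false, 0, 48, 45, 1), (50, false, 1, 40, 50, 1), (52, false, 1, 40, 52, 1), (54, false, 2, 37, 54, 1), (57, false, 0, 48, 57, 1), (58, false, 0, 48, 58, 1), (60, false, 0, 48, 60, 1), (61, false, 1, 40, 61, 1), (63, false, 1, 40, 63, 1), (65, false, 2, 37, 65, 1), (67, true, 3, 42, 64, 0), (69, true, 3, 42, 66, 0), (70, true, 3, 43, 66, 0), (71, true, 3, 50, 66, 0)]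
def tRow4 : List (ℕ × Bool × ℕ × ℕ × ℕ × ℕ) := [(22, false, 1, 41, 22, 1), (30, false, 0, 49, 30, 1), (33, false, 0, 49, 33, 1), (35, false, 0, 49, 35, 1), (42, false, 0, 49, 42, 1), (43, false, 0, 49, 43, 1), (44, false, 0, 49, 44, 1), (50, false, 1, 41, 50, 1), (51, false, 1, 41, 51, 1), (53, false, 2, 38, 53, 1), (57, false, 0, 49, 57, 1), (58, false, 0, 49, 58, 1), (59, false, 0, 49, 59, 1), (61, false, 1, 41, 61, 1), (62, false, 1, 41, 62, 1), (64, false, 2, 38, 64, 1), (68, true, 4, 42, 65, 0), (69, true, 4, 42, 66, 0), (70, true, 4, 43, 66, 0), (71, true, 4, 50, 66, 0)]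
def tRow5 : List (ℕ × Bool × ℕ × ℕ × ℕ × ℕ) := [(21, false, 1, 43, 21, 1), (28, false, 0, 50, 28, 1), (29, false, 0, 50, 29, 1), (37, false, 0, 50, 37, 1), (38, false, 0, 50, 38, 1), (40, false, 0, 50, 40, 1), (41, false, 0, 50, 41, 1), (48, false, 1, 43, 48, 1), (49, false, 1, 43, 49, 1), (55, true, 5, 37, 54, 0), (56, false, 0, 50, 56, 1), (59, false, 0, 50, 59, 1), (60, false, 0, 50, 60, 1), (62, false, 1, 43, 62, 1), (63, false, 1, 43, 63, 1), (64, false, 2, 42, 64, 1), (65, false, 2, 42, 65, 1), (69, true, 5, 37, 68, 0), (70, true, 5, 40, 68, 0), (71, true, 5, 48, 68, 0)]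
def tRow6 : List (ℕ × Bool × ℕ × ℕ × ℕ × ℕ) := [(20, false, 1, 44, 20, 1), (27, false, 0, 51, 27, 1), (29, false, 0, 51, 29, 1), (34, false, 0, 51, 34, 1), (36, false, 0, 51, 36, 1), (39, false, 0, 51, 39, 1), (41, false, 0, 51, 41, 1), (47, false, 1, 44, 47, 1), (49, false, 1, 44, 49, 1), (54, false, 5, 37, 54, 1), (56, false, 0, 51, 56, 1), (58, false, 0, 51, 58, 1), (60, false, 0, 51, 60, 1), (61, false, 1, 44, 61, 1), (63, false, 1, 44, 63, 1), (64, false, 3, 42, 64, 1), (66, false, 3, 42, 66, 1), (68, false, 5, 37, 68, 1), (70, true, 6, 39, 69, 0), (71, true, 6, 47, 69, 0)]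
def tRow7 : List (ℕ × Bool × ℕ × ℕ × ℕ × ℕ) := [(19, false, 1, 45, 19, 1), (26, false, 0, 52, 26, 1), (29, false, 0, 52, 29, 1), (33, false, 0, 52, 33, 1), (35, false, 0, 52, 35, 1), (39, false, 0, 52, 39, 1), (40, false, 0, 52, 40, 1), (47, false, 1, 45, 47, 1), (48, false, 1, 45, 48, 1), (53, false, 5, 38, 53, 1), (56, false, 0, 52, 56, 1), (58, false, 0, 52, 58, 1), (59, false, 0, 52, 59, 1), (61, false, 1, 45, 61, 1), (62, false, 1, 45, 62, 1), (65, false, 4, 42, 65, 1), (66, false, 4, 42, 66, 1), (67, false, 5, 38, 67, 1), (70, true, 7, 39, 69, 0), (71, true, 7, 47, 69, 0)]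
def tRow8 : List (ℕ × Bool × ℕ × ℕ × ℕ × ℕ) := [(18, false, 2, 44, 18, 2), (27, false, 0, 53, 27, 1), (28, false, 0, 53, 28, 1), (31, false, 0, 53, 31, 1), (32, false, 0, 53, 32, 1), (36, false, 0, 53, 36, 1), (38, false, 0, 53, 38, 1), (46, false, 2, 44, 46, 2), (49, false, 2, 44, 49, 1), (52, false, 5, 40, 52, 1), (56, false, 0, 53, 56, 1), (57, false, 0, 53, 57, 1), (60, false, 0, 53, 60, 1), (61, false, 2, 44, 61, 1), (62, false, 3, 43, 62, 1), (65, false, 2, 44, 65, 1), (66, false, 3, 43, 66, 1), (68, false, 5, 40, 68, 1), (69, false, 6, 39, 69, 1), (71, true, 8, 46, 70, 0)]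
def tRow9 : List (ℕ × Bool × ℕ × ℕ × ℕ × ℕ) := [(17, false, 2, 45, 17, 2), (26, false, 0, 54, 26, 1), (28, false, 0, 54, 28, 1), (30, false, 0, 54, 30, 1), (32, false, 0, 54, 32, 1), (35, false, 0, 54, 35, 1), (37, false, 0, 54, 37, 1), (46, false, 2, 45, 46, 2), (48, false, 2, 45, 48, 1), (51, false, 5, 41, 51, 1), (56, false, 0, 54, 56, 1), (57, false, 0, 54, 57, 1), (59, false, 0, 54, 59, 1), (61, false, 2, 45, 61, 1), (63, false, 4, 43, 63, 1), (64, false, 2, 45, 64, 1), (66, false, 4, 43, 66, 1), (67, false, 5, 41, 67, 1), (69, false, 7, 39, 69, 1), (71, true, 9, 46, 70, 0)]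
def tRow10 : List (ℕ × Bool × ℕ × ℕ × ℕ × ℕ) := [(16, false, 3, 45, 16, 2), (26, false, 0, 55, 26, 1), (27, false, 0, 55, 27, 1), (30, false, 0, 55, 30, 1), (31, false, 0, 55, 31, 1), (33, false, 0, 55, 33, 1), (34, false, 0, 55, 34, 1), (46, false, 3, 45, 46, 2), (47, false, 3, 45, 47, 2), (50, false, 6, 41, 50, 2), (56, false, 0, 55, 56, 1), (57, false, 0, 55, 57, 1), (58, false, 0, 55, 58, 1), (62, false, 3, 45, 62, 1), (63, false, 4, 44, 63, 1), (64, false, 3, 45, 64, 1), (65, false, 4, 44, 65, 1), (67, false, 6, 41, 67, 1), (68, false, 7, 40, 68, 1), (71, true, 10, 46, 70, 0)]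
def tRow11 : List (ℕ × Bool × ℕ × ℕ × ℕ × ℕ) := [(18, false, 2, 51, 18, 2), (20, false, 1, 53, 20, 2), (21, false, 1, 53, 21, 2), (23, false, 1, 53, 23, 2), (24, false, 1, 53, 24, 2), (25, false, 2, 51, 25, 2), (36, false, 1, 53, 36, 1), (38, false, 1, 53, 38, 1), (41, false, 2, 51, 41, 1), (45, false, 5, 48, 45, 1), (56, false, 1, 53, 56, 1), (57, false, 1, 53, 57, 1), (58, false, 2, 51, 58, 1), (59, false, 3, 50, 59, 1), (63, false, 1, 53, 63, 1), (65, false, 2, 51, 65, 1), (66, false, 3, 50, 66, 1), (68, false, 5, 48, 68, 1), (69, false, 6, 47, 69, 1), (70, false, 8, 46, 70, 1)]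
def tRow12 : List (ℕ × Bool × ℕ × ℕ × ℕ × ℕ) := [(17, false, 2, 52, 17, 2), (19, false, 1, 54, 19, 2), (21, false, 1, 54, 21, 2), (22, false, 1, 54, 22, 2), (24, false, 1, 54, 24, 2), (25, false, 2, 52, 25, 2), (35, false, 1, 54, 35, 1), (37, false, 1, 54, 37, 1), (40, false, 2, 52, 40, 1), (44, false, 5, 49, 44, 1), (56, false, 1, 54, 56, 1), (57, false, 1, 54, 57, 1), (58, false, 2, 52, 58, 1), (60, false, 4, 50, 60, 1), (62, false, 1, 54, 62, 1), (64, false, 2, 52, 64, 1), (66, false, 4, 50, 66, 1), (67, false, 5, 49, 67, 1), (69, false, 7, 47, 69, 1), (70, false, 9, 46, 70, 1)]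
def tRow13 : List (ℕ × Bool × ℕ × ℕ × ℕ × ℕ) := [(16, false, 3, 52, 16, 2), (19, false, 1, 55, 19, 2), (20, false, 1, 55, 20, 2), (22, false, 1, 55, 22, 2), (23, false, 1, 55, 23, 2), (25, false, 3, 52, 25, 2), (33, false, 1, 55, 33, 1), (34, false, 1, 55, 34, 1), (39, false, 3, 52, 39, 2), (43, false, 6, 49, 43, 2), (56, false, 1, 55, 56, 1), (57, false, 1, 55, 57, 1), (59, false, 3, 52, 59, 1), (60, false, 4, 51, 60, 1), (61, false, 1, 55, 61, 1), (64, false, 3, 52, 64, 1), (65, false, 4, 51, 65, 1), (67, false, 6, 49, 67, 1), (68, false, 7, 48, 68, 1), (70, false, 10, 46, 70, 1)]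
def tRow14 : List (ℕ × Bool × ℕ × ℕ × ℕ × ℕ) := [(16, false, 3, 54, 16, 2), (17, false, 2, 55, 17, 2), (18, false, 2, 55, 18, 2), (22, false, 2, 55, 22, 2), (23, false, 2, 55, 23, 2), (24, false, 3, 54, 24, 2), (30, false, 2, 55, 30, 2), (31, false, 2, 55, 31, 2), (32, false, 3, 54, 32, 2), (42, false, 8, 49, 42, 2), (56, false, 2, 55, 56, 1), (58, false, 2, 55, 58, 1), (59, false, 3, 54, 59, 1), (60, false, 4, 53, 60, 1), (61, false, 2, 55, 61, 1), (62, false, 3, 54, 62, 1), (63, false, 4, 53, 63, 1), (67, false, 8, 49, 67, 1), (68, false, 9, 48, 68, 1), (69, false, 10, 47, 69, 1)]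
def tRow15 : List (ℕ × Bool × ℕ × ℕ × ℕ × ℕ) := [(16, false, 6, 54, 16, 2), (17, false, 5, 55, 17, 2), (18, false, 5, 55, 18, 2), (19, false, 5, 55, 19, 2), (20, false, 5, 55, 20, 2), (21, false, 6, 54, 21, 2), (26, false, 5, 55, 26, 2), (27, false, 5, 55, 27, 2), (28, false, 6, 54, 28, 2), (29, false, 8, 52, 29, 2), (57, false, 5, 55, 57, 1), (58, false, 5, 55, 58, 1), (59, false, 6, 54, 59, 1), (60, false, 7, 53, 60, 1), (61, false, 5, 55, 61, 1), (62, false, 6, 54, 62, 1), (63, false, 7, 53, 63, 1), (64, false, 8, 52, 64, 1), (65, false, 9, 51, 65, 1), (66, false, 10, 50, 66, 1)]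
def tRow16 : List (ℕ × Bool × ℕ × ℕ × ℕ × ℕ) := [(10, false, 1, 58, 10, 1), (13, false, 0, 61, 13, 1), (14, false, 0, 61, 14, 1), (15, false, 0, 61, 15, 1), (37, false, 0, 61, 37, 1), (38, false, 0, 61, 38, 1), (40, false, 0, 61, 40, 1), (41, false, 0, 61, 41, 1), (44, false, 0, 61, 44, 1), (45, false, 0, 61, 45, 1), (48, false, 1, 58, 48, 1), (49, false, 1, 58, 49, 1), (51, false, 1, 58, 51, 1), (52, false, 1, 58, 52, 1), (53, false, 2, 57, 53, 1), (54, false, 2, 57, 54, 1), (66, true, 16, 37, 65, 0), (69, true, 16, 37, 68, 0), (70, true, 16, 40, 68, 0), (71, true, 16, 48, 68, 0)]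
def tRow17 : List (ℕ × Bool × ℕ × ℕ × ℕ × ℕ) := [(9, false, 1, 59, 9, 1), (12, false, 0, 62, 12, 1), (14, false, 0, 62, 14, 1), (15, false, 0, 62, 15, 1), (34, false, 0, 62, 34, 1), (36, false, 0, 62, 36, 1), (39, false, 0, 62, 39, 1), (41, false, 0, 62, 41, 1), (43, false, 0, 62, 43, 1), (45, false, 0, 62, 45, 1), (47, false, 1, 59, 47, 1), (49, false, 1, 59, 49, 1), (50, false, 1, 59, 50, 1), (52, false, 1, 59, 52, 1), (53, false, 3, 57, 53, 1), (55, false, 3, 57, 55, 1), (65, false, 16, 37, 65, 1), (68, false, 16, 37, 68, 1), (70, true, 17, 39, 69, 0), (71, true, 17, 47, 69, 0)]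
def tRow18 : List (ℕ × Bool × ℕ × ℕ × ℕ × ℕ) := [(8, false, 1, 60, 8, 1), (11, false, 0, 63, 11, 1), (14, false, 0, 63, 14, 1), (15, false, 0, 63, 15, 1), (33, false, 0, 63, 33, 1), (35, false, 0, 63, 35, 1), (39, false, 0, 63, 39, 1), (40, false, 0, 63, 40, 1), (43, false, 0, 63, 43, 1), (44, false, 0, 63, 44, 1), (47, false, 1, 60, 47, 1), (48, false, 1, 60, 48, 1), (50, false, 1, 60, 50, 1), (51, false, 1, 60, 51, 1), (54, false, 4, 57, 54, 1), (55, false, 4, 57, 55, 1), (64, false, 16, 38, 64, 1), (67, false, 16, 38, 67, 1), (70, true, 18, 39, 69, 0), (71, true, 18, 47, 69, 0)]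
def tRow19 : List (ℕ × Bool × ℕ × ℕ × ℕ × ℕ) := [(7, false, 2, 59, 7, 2), (12, false, 0, 64, 12, 1), (13, false, 0, 64, 13, 1), (15, false, 0, 64, 15, 1), (31, false, 0, 64, 31, 1), (32, false, 0, 64, 32, 1), (36, false, 0, 64, 36, 1), (38, false, 0, 64, 38, 1), (42, false, 0, 64, 42, 1), (45, false, 0, 64, 45, 1), (46, false, 2, 59, 46, 2), (49, false, 2, 59, 49, 1), (50, false, 2, 59, 50, 1), (51, false, 3, 58, 51, 1), (54, false, 2, 59, 54, 1), (55, false, 3, 58, 55, 1), (63, false, 16, 40, 63, 1), (68, false, 16, 40, 68, 1), (69, false, 17, 39, 69, 1), (71, true, 19, 46, 70, 0)]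
def tRow20 : List (ℕ × Bool × ℕ × ℕ × ℕ × ℕ) := [(6, false, 2, 60, 6, 2), (11, false, 0, 65, 11, 1), (13, false, 0, 65, 13, 1), (15, false, 0, 65, 15, 1), (30, false, 0, 65, 30, 1), (32, false, 0, 65, 32, 1), (35, false, 0, 65, 35, 1), (37, false, 0, 65, 37, 1), (42, false, 0, 65, 42, 1), (44, false, 0, 65, 44, 1), (46, false, 2, 60, 46, 2), (48, false, 2, 60, 48, 1), (50, false, 2, 60, 50, 1), (52, false, 4, 58, 52, 1), (53, false, 2, 60, 53, 1), (55, false, 4, 58, 55, 1), (62, false, 16, 41, 62, 1), (67, false, 16, 41, 67, 1), (69, false, 18, 39, 69, 1), (71, true, 20, 46, 70, 0)]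
def tRow21 : List (ℕ × Bool × ℕ × ℕ × ℕ × ℕ) := [(5, false, 3, 60, 5, 2), (11, false, 0, 66, 11, 1), (12, false, 0, 66, 12, 1), (15, false, 0, 66, 15, 1), (30, false, 0, 66, 30, 1), (31, false, 0, 66, 31, 1), (33, false, 0, 66, 33, 1), (34, false, 0, 66, 34, 1), (42, false, 0, 66, 42, 1), (43, false, 0, 66, 43, 1), (46, false, 3, 60, 46, 2), (47, false, 3, 60, 47, 2), (51, false, 3, 60, 51, 1), (52, false, 4, 59, 52, 1), (53, false, 3, 60, 53, 1), (54, false, 4, 59, 54, 1), (61, false, 17, 41, 61, 2), (67, false, 17, 41, 67, 1), (68, false, 18, 40, 68, 1), (71, true, 21, 46, 70, 0)]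
def tRow22 : List (ℕ × Bool × ℕ × ℕ × ℕ × ℕ) := [(4, false, 5, 59, 4, 2), (12, false, 0, 67, 12, 1), (13, false, 0, 67, 13, 1), (14, false, 0, 67, 14, 1), (27, false, 0, 67, 27, 1), (28, false, 0, 67, 28, 1), (29, false, 0, 67, 29, 1), (36, false, 0, 67, 36, 1), (38, false, 0, 67, 38, 1), (41, false, 0, 67, 41, 1), (46, false, 5, 59, 46, 2), (47, false, 5, 59, 47, 2), (48, false, 6, 58, 48, 2), (52, false, 5, 59, 52, 1), (54, false, 5, 59, 54, 1), (55, false, 6, 58, 55, 1), (63, false, 16, 44, 63, 1), (65, false, 16, 44, 65, 1), (66, false, 17, 43, 66, 1), (71, true, 22, 46, 70, 0)]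
def tRow23 : List (ℕ × Bool × ℕ × ℕ × ℕ × ℕ) := [(3, false, 5, 60, 3, 2), (11, false, 0, 68, 11, 1), (13, false, 0, 68, 13, 1), (14, false, 0, 68, 14, 1), (26, false, 0, 68, 26, 1), (28, false, 0, 68, 28, 1), (29, false, 0, 68, 29, 1), (35, false, 0, 68, 35, 1), (37, false, 0, 68, 37, 1), (40, false, 0, 68, 40, 1), (46, false, 5, 60, 46, 2), (47, false, 5, 60, 47, 2), (49, false, 7, 58, 49, 2), (51, false, 5, 60, 51, 1), (53, false, 5, 60, 53, 1), (55, false, 7, 58, 55, 1), (62, false, 16, 45, 62, 1), (64, false, 16, 45, 64, 1), (66, false, 18, 43, 66, 1), (71, true, 23, 46, 70, 0)]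
def tRow24 : List (ℕ × Bool × ℕ × ℕ × ℕ × ℕ) := [(2, false, 6, 60, 2, 2), (11, false, 0, 69, 11, 1), (12, false, 0, 69, 12, 1), (14, false, 0, 69, 14, 1), (26, false, 0, 69, 26, 1), (27, false, 0, 69, 27, 1), (29, false, 0, 69, 29, 1), (33, false, 0, 69, 33, 1), (34, false, 0, 69, 34, 1), (39, false, 0, 69, 39, 1), (46, false, 6, 60, 46, 2), (48, false, 6, 60, 48, 2), (49, false, 7, 59, 49, 2), (50, false, 6, 60, 50, 2), (53, false, 6, 60, 53, 1), (54, false, 7, 59, 54, 1), (61, false, 17, 45, 61, 2), (64, false, 17, 45, 64, 1), (65, false, 18, 44, 65, 1), (71, true, 24, 46, 70, 0)]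
def tRow25 : List (ℕ × Bool × ℕ × ℕ × ℕ × ℕ) := [(1, false, 8, 60, 1, 3), (11, false, 0, 70, 11, 1), (12, false, 0, 70, 12, 1), (13, false, 0, 70, 13, 1), (26, false, 0, 70, 26, 1), (27, false, 0, 70, 27, 1), (28, false, 0, 70, 28, 1), (30, false, 0, 70, 30, 1), (31, false, 0, 70, 31, 1), (32, false, 0, 70, 32, 1), (47, false, 8, 60, 47, 2), (48, false, 8, 60, 48, 2), (49, false, 9, 59, 49, 2), (50, false, 8, 60, 50, 2), (51, false, 8, 60, 51, 2), (52, false, 9, 59, 52, 2), (61, false, 19, 45, 61, 2), (62, false, 19, 45, 62, 2), (63, false, 20, 44, 63, 2), (71, true, 25, 47, 69, 0)]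
def tRow26 : List (ℕ × Bool × ℕ × ℕ × ℕ × ℕ) := [(7, false, 2, 62, 7, 2), (9, false, 1, 64, 9, 2), (10, false, 1, 64, 10, 2), (15, false, 1, 64, 15, 1), (23, false, 1, 64, 23, 2), (24, false, 1, 64, 24, 2), (25, false, 2, 62, 25, 2), (36, false, 1, 64, 36, 1), (38, false, 1, 64, 38, 1), (41, false, 2, 62, 41, 1), (42, false, 1, 64, 42, 1), (43, false, 2, 62, 43, 1), (44, false, 3, 61, 44, 1), (52, false, 1, 64, 52, 1), (54, false, 2, 62, 54, 1), (55, false, 3, 61, 55, 1), (60, false, 16, 48, 60, 1), (68, false, 16, 48, 68, 1), (69, false, 17, 47, 69, 1), (70, false, 19, 46, 70, 1)]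
def tRow27 : List (ℕ × Bool × ℕ × ℕ × ℕ × ℕ) := [(6, false, 2, 63, 6, 2), (8, false, 1, 65, 8, 2), (10, false, 1, 65, 10, 2), (15, false, 1, 65, 15, 1), (22, false, 1, 65, 22, 2), (24, false, 1, 65, 24, 2), (25, false, 2, 63, 25, 2), (35, false, 1, 65, 35, 1), (37, false, 1, 65, 37, 1), (40, false, 2, 63, 40, 1), (42, false, 1, 65, 42, 1), (43, false, 2, 63, 43, 1), (45, false, 4, 61, 45, 1), (51, false, 1, 65, 51, 1), (53, false, 2, 63, 53, 1), (55, false, 4, 61, 55, 1), (59, false, 16, 49, 59, 1), (67, false, 16, 49, 67, 1), (69, false, 18, 47, 69, 1), (70, false, 20, 46, 70, 1)]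
def tRow28 : List (ℕ × Bool × ℕ × ℕ × ℕ × ℕ) := [(5, false, 3, 63, 5, 2), (8, false, 1, 66, 8, 2), (9, false, 1, 66, 9, 2), (15, false, 1, 66, 15, 1), (22, false, 1, 66, 22, 2), (23, false, 1, 66, 23, 2), (25, false, 3, 63, 25, 2), (33, false, 1, 66, 33, 1), (34, false, 1, 66, 34, 1), (39, false, 3, 63, 39, 2), (42, false, 1, 66, 42, 1), (44, false, 3, 63, 44, 1), (45, false, 4, 62, 45, 1), (50, false, 1, 66, 50, 1), (53, false, 3, 63, 53, 1), (54, false, 4, 62, 54, 1), (58, false, 17, 49, 58, 2), (67, false, 17, 49, 67, 1), (68, false, 18, 48, 68, 1), (70, false, 21, 46, 70, 1)]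
def tRow29 : List (ℕ × Bool × ℕ × ℕ × ℕ × ℕ) := [(5, false, 3, 65, 5, 2), (6, false, 2, 66, 6, 2), (7, false, 2, 66, 7, 2), (15, false, 2, 66, 15, 1), (22, false, 2, 66, 22, 2), (23, false, 2, 66, 23, 2), (24, false, 3, 65, 24, 2), (30, false, 2, 66, 30, 2), (31, false, 2, 66, 31, 2), (32, false, 3, 65, 32, 2), (43, false, 2, 66, 43, 1), (44, false, 3, 65, 44, 1), (45, false, 4, 64, 45, 1), (50, false, 2, 66, 50, 1), (51, false, 3, 65, 51, 1), (52, false, 4, 64, 52, 1), (57, false, 19, 49, 57, 2), (67, false, 19, 49, 67, 1), (68, false, 20, 48, 68, 1), (69, false, 21, 47, 69, 1)]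
def tRow30 : List (ℕ × Bool × ℕ × ℕ × ℕ × ℕ) := [(4, false, 5, 62, 4, 2), (9, false, 1, 67, 9, 2), (10, false, 1, 67, 10, 2), (14, false, 1, 67, 14, 1), (20, false, 1, 67, 20, 2), (21, false, 1, 67, 21, 2), (25, false, 5, 62, 25, 2), (29, false, 1, 67, 29, 1), (36, false, 1, 67, 36, 1), (38, false, 1, 67, 38, 1), (39, false, 5, 62, 39, 2), (40, false, 6, 61, 40, 2), (45, false, 5, 62, 45, 1), (49, false, 1, 67, 49, 1), (54, false, 5, 62, 54, 1), (55, false, 6, 61, 55, 1), (60, false, 16, 51, 60, 1), (65, false, 16, 51, 65, 1), (66, false, 17, 50, 66, 1), (70, false, 22, 46, 70, 1)]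
def tRow31 : List (ℕ × Bool × ℕ × ℕ × ℕ × ℕ) := [(3, false, 5, 63, 3, 2), (8, false, 1, 68, 8, 2), (10, false, 1, 68, 10, 2), (14, false, 1, 68, 14, 1), (19, false, 1, 68, 19, 2), (21, false, 1, 68, 21, 2), (25, false, 5, 63, 25, 2), (29, false, 1, 68, 29, 1), (35, false, 1, 68, 35, 1), (37, false, 1, 68, 37, 1), (39, false, 5, 63, 39, 2), (41, false, 7, 61, 41, 2), (44, false, 5, 63, 44, 1), (48, false, 1, 68, 48, 1), (53, false, 5, 63, 53, 1), (55, false, 7, 61, 55, 1), (59, false, 16, 52, 59, 1), (64, false, 16, 52, 64, 1), (66, false, 18, 50, 66, 1), (70, false, 23, 46, 70, 1)]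
def tRow32 : List (ℕ × Bool × ℕ × ℕ × ℕ × ℕ) := [(2, false, 6, 63, 2, 2), (8, false, 1, 69, 8, 2), (9, false, 1, 69, 9, 2), (14, false, 1, 69, 14, 1), (19, false, 1, 69, 19, 2), (20, false, 1, 69, 20, 2), (25, false, 6, 63, 25, 2), (29, false, 1, 69, 29, 1), (33, false, 1, 69, 33, 1), (34, false, 1, 69, 34, 1), (40, false, 6, 63, 40, 2), (41, false, 7, 62, 41, 2), (43, false, 6, 63, 43, 2), (47, false, 1, 69, 47, 1), (53, false, 6, 63, 53, 1), (54, false, 7, 62, 54, 1), (58, false, 17, 52, 58, 2), (64, false, 17, 52, 64, 1), (65, false, 18, 51, 65, 1), (70, false, 24, 46, 70, 1)]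
def tRow33 : List (ℕ × Bool × ℕ × ℕ × ℕ × ℕ) := [(4, false, 5, 64, 4, 2), (7, false, 2, 67, 7, 2), (10, false, 2, 67, 10, 2), (13, false, 2, 67, 13, 2), (18, false, 2, 67, 18, 2), (21, false, 2, 67, 21, 2), (24, false, 5, 64, 24, 2), (28, false, 2, 67, 28, 2), (32, false, 5, 64, 32, 2), (36, false, 2, 67, 36, 1), (37, false, 8, 61, 37, 2), (41, false, 2, 67, 41, 1), (45, false, 5, 64, 45, 1), (49, false, 2, 67, 49, 1), (52, false, 5, 64, 52, 1), (55, false, 8, 61, 55, 1), (60, false, 16, 53, 60, 1), (63, false, 16, 53, 63, 1), (66, false, 19, 50, 66, 1), (69, false, 22, 47, 69, 1)]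
def tRow34 : List (ℕ × Bool × ℕ × ℕ × ℕ × ℕ) := [(3, false, 5, 65, 3, 2), (6, false, 2, 68, 6, 2), (10, false, 2, 68, 10, 2), (13, false, 2, 68, 13, 2), (17, false, 2, 68, 17, 2), (21, false, 2, 68, 21, 2), (24, false, 5, 65, 24, 2), (28, false, 2, 68, 28, 2), (32, false, 5, 65, 32, 2), (35, false, 2, 68, 35, 1), (38, false, 9, 61, 38, 2), (40, false, 2, 68, 40, 1), (44, false, 5, 65, 44, 1), (48, false, 2, 68, 48, 1), (51, false, 5, 65, 51, 1), (55, false, 9, 61, 55, 1), (59, false, 16, 54, 59, 1), (62, false, 16, 54, 62, 1), (66, false, 20, 50, 66, 1), (69, false, 23, 47, 69, 1)]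
def tRow35 : List (ℕ × Bool × ℕ × ℕ × ℕ × ℕ) := [(4, false, 6, 64, 4, 2), (7, false, 3, 67, 7, 2), (9, false, 3, 67, 9, 2), (12, false, 3, 67, 12, 2), (18, false, 3, 67, 18, 2), (20, false, 3, 67, 20, 2), (23, false, 6, 64, 23, 2), (27, false, 3, 67, 27, 2), (31, false, 6, 64, 31, 2), (34, false, 8, 62, 34, 2), (38, false, 3, 67, 38, 1), (41, false, 3, 67, 41, 1), (45, false, 6, 64, 45, 1), (49, false, 3, 67, 49, 1), (52, false, 6, 64, 52, 1), (54, false, 8, 62, 54, 1), (60, false, 17, 53, 60, 1), (63, false, 17, 53, 63, 1), (65, false, 19, 51, 65, 1), (68, false, 22, 48, 68, 1)]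
def tRow36 : List (ℕ × Bool × ℕ × ℕ × ℕ × ℕ) := [(3, false, 7, 65, 3, 2), (6, false, 4, 68, 6, 2), (8, false, 4, 68, 8, 2), (11, false, 4, 68, 11, 2), (17, false, 4, 68, 17, 2), (19, false, 4, 68, 19, 2), (22, false, 7, 65, 22, 2), (26, false, 4, 68, 26, 2), (30, false, 7, 65, 30, 2), (33, false, 9, 63, 33, 2), (37, false, 4, 68, 37, 1), (40, false, 4, 68, 40, 1), (44, false, 7, 65, 44, 1), (48, false, 4, 68, 48, 1), (51, false, 7, 65, 51, 1), (53, false, 9, 63, 53, 1), (59, false, 18, 54, 59, 1), (62, false, 18, 54, 62, 1), (64, false, 20, 52, 64, 1), (67, false, 23, 49, 67, 1)]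
def tRow37 : List (ℕ × Bool × ℕ × ℕ × ℕ × ℕ) := [(2, false, 6, 66, 2, 2), (5, false, 3, 69, 5, 2), (9, false, 3, 69, 9, 2), (12, false, 3, 69, 12, 2), (16, false, 3, 69, 16, 2), (20, false, 3, 69, 20, 2), (23, false, 6, 66, 23, 2), (27, false, 3, 69, 27, 2), (31, false, 6, 66, 31, 2), (33, false, 3, 69, 33, 1), (36, false, 10, 62, 36, 2), (39, false, 3, 69, 39, 1), (43, false, 6, 66, 43, 1), (47, false, 3, 69, 47, 1), (50, false, 6, 66, 50, 1), (54, false, 10, 62, 54, 1), (58, false, 17, 55, 58, 1), (61, false, 17, 55, 61, 1), (65, false, 21, 51, 65, 1), (68, false, 24, 48, 68, 1)]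
def tRow38 : List (ℕ × Bool × ℕ × ℕ × ℕ × ℕ) := [(2, false, 7, 66, 2, 2), (5, false, 4, 69, 5, 2), (8, false, 4, 69, 8, 2), (11, false, 4, 69, 11, 2), (16, false, 4, 69, 16, 2), (19, false, 4, 69, 19, 2), (22, false, 7, 66, 22, 2), (26, false, 4, 69, 26, 2), (30, false, 7, 66, 30, 2), (34, false, 4, 69, 34, 1), (35, false, 10, 63, 35, 2), (39, false, 4, 69, 39, 1), (43, false, 7, 66, 43, 1), (47, false, 4, 69, 47, 1), (50, false, 7, 66, 50, 1), (53, false, 10, 63, 53, 1), (58, false, 18, 55, 58, 1), (61, false, 18, 55, 61, 1), (64, false, 21, 52, 64, 1), (67, false, 24, 49, 67, 1)]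
def tRow39 : List (ℕ × Bool × ℕ × ℕ × ℕ × ℕ) := [(1, false, 8, 65, 1, 2), (6, false, 2, 70, 6, 2), (7, false, 2, 70, 7, 2), (13, false, 2, 70, 13, 1), (17, false, 2, 70, 17, 2), (18, false, 2, 70, 18, 2), (24, false, 8, 65, 24, 2), (28, false, 2, 70, 28, 1), (30, false, 2, 70, 30, 1), (31, false, 2, 70, 31, 1), (37, false, 8, 65, 37, 2), (38, false, 9, 64, 38, 2), (42, false, 8, 65, 42, 2), (46, false, 2, 70, 46, 1), (51, false, 8, 65, 51, 1), (52, false, 9, 64, 52, 1), (57, false, 19, 54, 57, 2), (62, false, 19, 54, 62, 1), (63, false, 20, 53, 63, 1), (69, false, 25, 47, 69, 1)]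
def tRow40 : List (ℕ × Bool × ℕ × ℕ × ℕ × ℕ) := [(1, false, 8, 66, 1, 2), (5, false, 3, 70, 5, 2), (7, false, 3, 70, 7, 2), (12, false, 3, 70, 12, 2), (16, false, 3, 70, 16, 2), (18, false, 3, 70, 18, 2), (23, false, 8, 66, 23, 2), (27, false, 3, 70, 27, 2), (30, false, 3, 70, 30, 1), (32, false, 3, 70, 32, 1), (34, false, 8, 66, 34, 2), (36, false, 10, 64, 36, 2), (42, false, 8, 66, 42, 2), (46, false, 3, 70, 46, 1), (50, false, 8, 66, 50, 1), (52, false, 10, 64, 52, 1), (57, false, 19, 55, 57, 2), (61, false, 19, 55, 61, 1), (63, false, 21, 53, 63, 1), (68, false, 25, 48, 68, 1)]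
def tRow41 : List (ℕ × Bool × ℕ × ℕ × ℕ × ℕ) := [(1, false, 9, 66, 1, 2), (5, false, 4, 70, 5, 2), (6, false, 4, 70, 6, 2), (11, false, 4, 70, 11, 2), (16, false, 4, 70, 16, 2), (17, false, 4, 70, 17, 2), (22, false, 9, 66, 22, 2), (26, false, 4, 70, 26, 2), (31, false, 4, 70, 31, 1), (32, false, 4, 70, 32, 1), (33, false, 9, 66, 33, 2), (35, false, 10, 65, 35, 2), (42, false, 9, 66, 42, 2), (46, false, 4, 70, 46, 1), (50, false, 9, 66, 50, 1), (51, false, 10, 65, 51, 1), (57, false, 20, 55, 57, 2), (61, false, 20, 55, 61, 1), (62, false, 21, 54, 62, 1), (67, false, 25, 49, 67, 1)]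
def tRow42 : List (ℕ × Bool × ℕ × ℕ × ℕ × ℕ) := [(2, false, 6, 68, 2, 2), (3, false, 5, 69, 3, 2), (4, false, 5, 69, 4, 2), (14, false, 5, 69, 14, 1), (19, false, 5, 69, 19, 2), (20, false, 5, 69, 20, 2), (21, false, 6, 68, 21, 2), (26, false, 5, 69, 26, 2), (27, false, 5, 69, 27, 2), (28, false, 6, 68, 28, 2), (39, false, 5, 69, 39, 1), (40, false, 6, 68, 40, 1), (41, false, 7, 67, 41, 1), (47, false, 5, 69, 47, 1), (48, false, 6, 68, 48, 1), (49, false, 7, 67, 49, 1), (56, false, 22, 52, 56, 2), (64, false, 22, 52, 64, 1), (65, false, 23, 51, 65, 1), (66, false, 24, 50, 66, 1)]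
def tRow43 : List (ℕ × Bool × ℕ × ℕ × ℕ × ℕ) := [(1, false, 8, 68, 1, 2), (3, false, 5, 70, 3, 2), (4, false, 5, 70, 4, 2), (13, false, 5, 70, 13, 1), (17, false, 5, 70, 17, 2), (18, false, 5, 70, 18, 2), (21, false, 8, 68, 21, 2), (26, false, 5, 70, 26, 2), (27, false, 5, 70, 27, 2), (29, false, 8, 68, 29, 2), (32, false, 5, 70, 32, 1), (37, false, 8, 68, 37, 2), (38, false, 9, 67, 38, 2), (46, false, 5, 70, 46, 1), (48, false, 8, 68, 48, 1), (49, false, 9, 67, 49, 1), (56, false, 22, 54, 56, 2), (62, false, 22, 54, 62, 1), (63, false, 23, 53, 63, 1), (66, false, 25, 50, 66, 1)]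
def tRow44 : List (ℕ × Bool × ℕ × ℕ × ℕ × ℕ) := [(1, false, 8, 69, 1, 2), (2, false, 6, 70, 2, 2), (4, false, 6, 70, 4, 2), (12, false, 6, 70, 12, 2), (16, false, 6, 70, 16, 2), (18, false, 6, 70, 18, 2), (20, false, 8, 69, 20, 2), (26, false, 6, 70, 26, 2), (28, false, 6, 70, 28, 2), (29, false, 8, 69, 29, 2), (31, false, 6, 70, 31, 2), (34, false, 8, 69, 34, 2), (36, false, 10, 67, 36, 2), (46, false, 6, 70, 46, 1), (47, false, 8, 69, 47, 1), (49, false, 10, 67, 49, 1), (56, false, 22, 55, 56, 2), (61, false, 22, 55, 61, 1), (63, false, 24, 53, 63, 1), (65, false, 25, 51, 65, 1)]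
def tRow45 : List (ℕ × Bool × ℕ × ℕ × ℕ × ℕ) := [(1, false, 9, 69, 1, 2), (2, false, 7, 70, 2, 2), (3, false, 7, 70, 3, 2), (11, false, 7, 70, 11, 2), (16, false, 7, 70, 16, 2), (17, false, 7, 70, 17, 2), (19, false, 9, 69, 19, 2), (27, false, 7, 70, 27, 2), (28, false, 7, 70, 28, 2), (29, false, 9, 69, 29, 2), (30, false, 7, 70, 30, 2), (33, false, 9, 69, 33, 2), (35, false, 10, 68, 35, 2), (46, false, 7, 70, 46, 1), (47, false, 9, 69, 47, 1), (48, false, 10, 68, 48, 1), (56, false, 23, 55, 56, 2), (61, false, 23, 55, 61, 1), (62, false, 24, 54, 62, 1), (64, false, 25, 52, 64, 1)]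
def tRow46 : List (ℕ × Bool × ℕ × ℕ × ℕ × ℕ) := [(0, false, 11, 63, 0, 3), (8, false, 1, 71, 8, 1), (9, false, 1, 71, 9, 1), (10, false, 1, 71, 10, 1), (19, false, 1, 71, 19, 1), (20, false, 1, 71, 20, 1), (21, false, 1, 71, 21, 1), (22, false, 1, 71, 22, 1), (23, false, 1, 71, 23, 1), (24, false, 1, 71, 24, 1), (39, false, 11, 63, 39, 2), (40, false, 11, 63, 40, 2), (41, false, 12, 62, 41, 2), (43, false, 11, 63, 43, 2), (44, false, 11, 63, 44, 2), (45, false, 12, 62, 45, 2), (58, false, 26, 52, 58, 2), (59, false, 26, 52, 59, 2), (60, false, 27, 51, 60, 2), (70, true, 46, 39, 69, 0)]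
def tRow47 : List (ℕ × Bool × ℕ × ℕ × ℕ × ℕ) := [(0, false, 11, 65, 0, 3), (6, false, 2, 71, 6, 2), (7, false, 2, 71, 7, 2), (10, false, 2, 71, 10, 1), (17, false, 2, 71, 17, 2), (18, false, 2, 71, 18, 2), (21, false, 2, 71, 21, 1), (22, false, 2, 71, 22, 1), (23, false, 2, 71, 23, 1), (25, false, 2, 71, 25, 1), (32, false, 11, 65, 32, 2), (37, false, 11, 65, 37, 2), (38, false, 12, 64, 38, 2), (42, false, 11, 65, 42, 2), (44, false, 11, 65, 44, 2), (45, false, 12, 64, 45, 2), (57, false, 26, 54, 57, 2), (59, false, 26, 54, 59, 2), (60, false, 27, 53, 60, 2), (69, false, 46, 39, 69, 1)]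
def tRow48 : List (ℕ × Bool × ℕ × ℕ × ℕ × ℕ) := [(0, false, 11, 66, 0, 3), (5, false, 3, 71, 5, 2), (7, false, 3, 71, 7, 2), (9, false, 3, 71, 9, 2), (16, false, 3, 71, 16, 2), (18, false, 3, 71, 18, 2), (20, false, 3, 71, 20, 2), (22, false, 3, 71, 22, 1), (24, false, 3, 71, 24, 1), (25, false, 3, 71, 25, 1), (31, false, 11, 66, 31, 2), (34, false, 11, 66, 34, 2), (36, false, 13, 64, 36, 2), (42, false, 11, 66, 42, 2), (43, false, 11, 66, 43, 2), (45, false, 13, 64, 45, 2), (57, false, 26, 55, 57, 2), (58, false, 26, 55, 58, 2), (60, false, 28, 53, 60, 2), (68, false, 46, 40, 68, 1)]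
def tRow49 : List (ℕ × Bool × ℕ × ℕ × ℕ × ℕ) := [(0, false, 12, 66, 0, 3), (5, false, 4, 71, 5, 2), (6, false, 4, 71, 6, 2), (8, false, 4, 71, 8, 2), (16, false, 4, 71, 16, 2), (17, false, 4, 71, 17, 2), (19, false, 4, 71, 19, 2), (23, false, 4, 71, 23, 1), (24, false, 4, 71, 24, 1), (25, false, 4, 71, 25, 1), (30, false, 12, 66, 30, 2), (33, false, 12, 66, 33, 2), (35, false, 13, 65, 35, 2), (42, false, 12, 66, 42, 2), (43, false, 12, 66, 43, 2), (44, false, 13, 65, 44, 2), (57, false, 27, 55, 57, 2), (58, false, 27, 55, 58, 2), (59, false, 28, 54, 59, 2), (67, false, 46, 41, 67, 1)]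
def tRow50 : List (ℕ × Bool × ℕ × ℕ × ℕ × ℕ) := [(0, false, 11, 68, 0, 3), (3, false, 5, 71, 3, 2), (4, false, 5, 71, 4, 2), (10, false, 5, 71, 10, 1), (17, false, 5, 71, 17, 2), (18, false, 5, 71, 18, 2), (19, false, 5, 71, 19, 2), (20, false, 5, 71, 20, 2), (24, false, 5, 71, 24, 1), (25, false, 5, 71, 25, 1), (28, false, 11, 68, 28, 2), (29, false, 11, 68, 29, 2), (37, false, 11, 68, 37, 2), (38, false, 12, 67, 38, 2), (40, false, 11, 68, 40, 2), (41, false, 12, 67, 41, 2), (56, false, 30, 54, 56, 2), (59, false, 30, 54, 59, 2), (60, false, 31, 53, 60, 2), (66, false, 46, 43, 66, 1)]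
def tRow51 : List (ℕ × Bool × ℕ × ℕ × ℕ × ℕ) := [(0, false, 11, 69, 0, 3), (2, false, 6, 71, 2, 2), (4, false, 6, 71, 4, 2), (9, false, 6, 71, 9, 2), (16, false, 6, 71, 16, 2), (18, false, 6, 71, 18, 2), (19, false, 6, 71, 19, 2), (21, false, 6, 71, 21, 2), (23, false, 6, 71, 23, 2), (25, false, 6, 71, 25, 1), (27, false, 11, 69, 27, 2), (29, false, 11, 69, 29, 2), (34, false, 11, 69, 34, 2), (36, false, 13, 67, 36, 2), (39, false, 11, 69, 39, 2), (41, false, 13, 67, 41, 2), (56, false, 30, 55, 56, 2), (58, false, 30, 55, 58, 2), (60, false, 32, 53, 60, 2), (65, false, 46, 44, 65, 1)]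
def tRow52 : List (ℕ × Bool × ℕ × ℕ × ℕ × ℕ) := [(0, false, 12, 69, 0, 3), (2, false, 7, 71, 2, 2), (3, false, 7, 71, 3, 2), (8, false, 7, 71, 8, 2), (16, false, 7, 71, 16, 2), (17, false, 7, 71, 17, 2), (20, false, 7, 71, 20, 2), (21, false, 7, 71, 21, 2), (22, false, 7, 71, 22, 2), (25, false, 7, 71, 25, 1), (26, false, 12, 69, 26, 2), (29, false, 12, 69, 29, 2), (33, false, 12, 69, 33, 2), (35, false, 13, 68, 35, 2), (39, false, 12, 69, 39, 2), (40, false, 13, 68, 40, 2), (56, false, 31, 55, 56, 2), (58, false, 31, 55, 58, 2), (59, false, 32, 54, 59, 2), (64, false, 46, 45, 64, 1)]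
def tRow53 : List (ℕ × Bool × ℕ × ℕ × ℕ × ℕ) := [(0, false, 11, 70, 0, 3), (1, false, 8, 71, 1, 3), (4, false, 8, 71, 4, 2), (7, false, 8, 71, 7, 2), (16, false, 8, 71, 16, 2), (17, false, 8, 71, 17, 2), (20, false, 8, 71, 20, 2), (21, false, 8, 71, 21, 2), (23, false, 8, 71, 23, 2), (24, false, 8, 71, 24, 2), (27, false, 11, 70, 27, 2), (28, false, 11, 70, 28, 2), (31, false, 11, 70, 31, 2), (32, false, 11, 70, 32, 2), (36, false, 14, 67, 36, 2), (38, false, 14, 67, 38, 2), (56, false, 33, 55, 56, 2), (57, false, 33, 55, 57, 2), (60, false, 39, 51, 60, 2), (63, false, 47, 44, 63, 2)]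
def tRow54 : List (ℕ × Bool × ℕ × ℕ × ℕ × ℕ) := [(0, false, 12, 70, 0, 3), (1, false, 9, 71, 1, 3), (3, false, 9, 71, 3, 2), (6, false, 9, 71, 6, 2), (16, false, 9, 71, 16, 2), (18, false, 9, 71, 18, 2), (19, false, 9, 71, 19, 2), (21, false, 9, 71, 21, 2), (22, false, 9, 71, 22, 2), (24, false, 9, 71, 24, 2), (26, false, 12, 70, 26, 2), (28, false, 12, 70, 28, 2), (30, false, 12, 70, 30, 2), (32, false, 12, 70, 32, 2), (35, false, 14, 68, 35, 2), (37, false, 14, 68, 37, 2), (56, false, 34, 55, 56, 2), (57, false, 34, 55, 57, 2), (59, false, 39, 52, 59, 2), (62, false, 47, 45, 62, 2)]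
def tRow55 : List (ℕ × Bool × ℕ × ℕ × ℕ × ℕ) := [(0, false, 13, 70, 0, 3), (1, false, 10, 71, 1, 3), (2, false, 10, 71, 2, 3), (5, false, 10, 71, 5, 3), (17, false, 10, 71, 17, 2), (18, false, 10, 71, 18, 2), (19, false, 10, 71, 19, 2), (20, false, 10, 71, 20, 2), (22, false, 10, 71, 22, 2), (23, false, 10, 71, 23, 2), (26, false, 13, 70, 26, 2), (27, false, 13, 70, 27, 2), (30, false, 13, 70, 30, 2), (31, false, 13, 70, 31, 2), (33, false, 14, 69, 33, 2), (34, false, 14, 69, 34, 2), (56, false, 37, 54, 56, 2), (57, false, 37, 54, 57, 2), (58, false, 40, 52, 58, 2), (61, false, 48, 45, 61, 2)]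
def tRow56 : List (ℕ × Bool × ℕ × ℕ × ℕ × ℕ) := [(5, false, 17, 65, 5, 2), (6, false, 16, 66, 6, 2), (7, false, 16, 66, 7, 2), (8, false, 16, 66, 8, 2), (9, false, 16, 66, 9, 2), (10, false, 17, 65, 10, 2), (11, false, 16, 66, 11, 2), (12, false, 16, 66, 12, 2), (13, false, 17, 65, 13, 2), (14, false, 19, 63, 14, 2), (42, false, 16, 66, 42, 1), (43, false, 16, 66, 43, 1), (44, false, 17, 65, 44, 1), (45, false, 18, 64, 45, 1), (50, false, 16, 66, 50, 1), (51, false, 17, 65, 51, 1), (52, false, 18, 64, 52, 1), (53, false, 19, 63, 53, 1), (54, false, 20, 62, 54, 1), (55, false, 21, 61, 55, 1)]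
def tRow57 : List (ℕ × Bool × ℕ × ℕ × ℕ × ℕ) := [(2, false, 17, 68, 2, 2), (3, false, 16, 69, 3, 2), (4, false, 16, 69, 4, 2), (8, false, 16, 69, 8, 2), (9, false, 16, 69, 9, 2), (10, false, 17, 68, 10, 2), (11, false, 16, 69, 11, 2), (12, false, 16, 69, 12, 2), (13, false, 17, 68, 13, 2), (15, false, 22, 63, 15, 2), (29, false, 16, 69, 29, 1), (39, false, 16, 69, 39, 1), (40, false, 17, 68, 40, 1), (41, false, 18, 67, 41, 1), (47, false, 16, 69, 47, 1), (48, false, 17, 68, 48, 1), (49, false, 18, 67, 49, 1), (53, false, 22, 63, 53, 1), (54, false, 23, 62, 54, 1), (55, false, 24, 61, 55, 1)]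
def tRow58 : List (ℕ × Bool × ℕ × ℕ × ℕ × ℕ) := [(1, false, 19, 68, 1, 2), (3, false, 16, 70, 3, 2), (4, false, 16, 70, 4, 2), (6, false, 16, 70, 6, 2), (7, false, 16, 70, 7, 2), (10, false, 19, 68, 10, 2), (11, false, 16, 70, 11, 2), (12, false, 16, 70, 12, 2), (14, false, 19, 68, 14, 2), (15, false, 22, 65, 15, 2), (28, false, 16, 70, 28, 1), (32, false, 16, 70, 32, 1), (37, false, 19, 68, 37, 2), (38, false, 20, 67, 38, 2), (46, false, 16, 70, 46, 1), (48, false, 19, 68, 48, 1), (49, false, 20, 67, 49, 1), (51, false, 22, 65, 51, 1), (52, false, 23, 64, 52, 1), (55, false, 25, 61, 55, 1)]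
def tRow59 : List (ℕ × Bool × ℕ × ℕ × ℕ × ℕ) := [(1, false, 19, 69, 1, 2), (2, false, 17, 70, 2, 2), (4, false, 17, 70, 4, 2), (5, false, 17, 70, 5, 2), (7, false, 17, 70, 7, 2), (9, false, 19, 69, 9, 2), (11, false, 17, 70, 11, 2), (13, false, 17, 70, 13, 2), (14, false, 19, 69, 14, 2), (15, false, 22, 66, 15, 2), (27, false, 17, 70, 27, 2), (31, false, 17, 70, 31, 2), (34, false, 19, 69, 34, 2), (36, false, 21, 67, 36, 2), (46, false, 17, 70, 46, 1), (47, false, 19, 69, 47, 1), (49, false, 21, 67, 49, 1), (50, false, 22, 66, 50, 1), (52, false, 24, 64, 52, 1), (54, false, 25, 62, 54, 1)]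
def tRow60 : List (ℕ × Bool × ℕ × ℕ × ℕ × ℕ) := [(1, false, 20, 69, 1, 2), (2, false, 18, 70, 2, 2), (3, false, 18, 70, 3, 2), (5, false, 18, 70, 5, 2), (6, false, 18, 70, 6, 2), (8, false, 20, 69, 8, 2), (12, false, 18, 70, 12, 2), (13, false, 18, 70, 13, 2), (14, false, 20, 69, 14, 2), (15, false, 23, 66, 15, 2), (26, false, 18, 70, 26, 2), (30, false, 18, 70, 30, 2), (33, false, 20, 69, 33, 2), (35, false, 21, 68, 35, 2), (46, false, 18, 70, 46, 1), (47, false, 20, 69, 47, 1), (48, false, 21, 68, 48, 1), (50, false, 23, 66, 50, 1), (51, false, 24, 65, 51, 1), (53, false, 25, 63, 53, 1)]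
def tRow61 : List (ℕ × Bool × ℕ × ℕ × ℕ × ℕ) := [(0, false, 26, 68, 0, 3), (3, false, 16, 71, 3, 2), (4, false, 16, 71, 4, 2), (6, false, 16, 71, 6, 2), (7, false, 16, 71, 7, 2), (8, false, 16, 71, 8, 2), (9, false, 16, 71, 9, 2), (13, false, 26, 68, 13, 2), (14, false, 26, 68, 14, 2), (15, false, 30, 65, 15, 2), (21, false, 16, 71, 21, 1), (24, false, 16, 71, 24, 1), (25, false, 16, 71, 25, 1), (37, false, 26, 68, 37, 2), (38, false, 27, 67, 38, 2), (40, false, 26, 68, 40, 2), (41, false, 27, 67, 41, 2), (44, false, 30, 65, 44, 2), (45, false, 31, 64, 45, 2), (55, false, 46, 58, 55, 1)]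
def tRow62 : List (ℕ × Bool × ℕ × ℕ × ℕ × ℕ) := [(0, false, 26, 69, 0, 3), (2, false, 17, 71, 2, 2), (4, false, 17, 71, 4, 2), (5, false, 17, 71, 5, 2), (7, false, 17, 71, 7, 2), (8, false, 17, 71, 8, 2), (10, false, 17, 71, 10, 2), (12, false, 26, 69, 12, 2), (14, false, 26, 69, 14, 2), (15, false, 30, 66, 15, 2), (20, false, 17, 71, 20, 2), (23, false, 17, 71, 23, 2), (25, false, 17, 71, 25, 1), (34, false, 26, 69, 34, 2), (36, false, 28, 67, 36, 2), (39, false, 26, 69, 39, 2), (41, false, 28, 67, 41, 2), (43, false, 30, 66, 43, 2), (45, false, 32, 64, 45, 2), (54, false, 46, 59, 54, 1)]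
def tRow63 : List (ℕ × Bool × ℕ × ℕ × ℕ × ℕ) := [(0, false, 27, 69, 0, 3), (2, false, 18, 71, 2, 2), (3, false, 18, 71, 3, 2), (5, false, 18, 71, 5, 2), (6, false, 18, 71, 6, 2), (9, false, 18, 71, 9, 2), (10, false, 18, 71, 10, 2), (11, false, 27, 69, 11, 2), (14, false, 27, 69, 14, 2), (15, false, 31, 66, 15, 2), (19, false, 18, 71, 19, 2), (22, false, 18, 71, 22, 2), (25, false, 18, 71, 25, 1), (33, false, 27, 69, 33, 2), (35, false, 28, 68, 35, 2), (39, false, 27, 69, 39, 2), (40, false, 28, 68, 40, 2), (43, false, 31, 66, 43, 2), (44, false, 32, 65, 44, 2), (53, false, 46, 60, 53, 1)]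
def tRow64 : List (ℕ × Bool × ℕ × ℕ × ℕ × ℕ) := [(0, false, 26, 70, 0, 3), (1, false, 19, 71, 1, 3), (4, false, 19, 71, 4, 2), (5, false, 19, 71, 5, 2), (6, false, 19, 71, 6, 2), (9, false, 19, 71, 9, 2), (10, false, 19, 71, 10, 2), (12, false, 26, 70, 12, 2), (13, false, 26, 70, 13, 2), (15, false, 33, 66, 15, 2), (18, false, 19, 71, 18, 2), (23, false, 19, 71, 23, 2), (24, false, 19, 71, 24, 2), (31, false, 26, 70, 31, 2), (32, false, 26, 70, 32, 2), (36, false, 29, 67, 36, 2), (38, false, 29, 67, 38, 2), (42, false, 33, 66, 42, 2), (45, false, 39, 62, 45, 2), (52, false, 47, 59, 52, 2)]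
def tRow65 : List (ℕ × Bool × ℕ × ℕ × ℕ × ℕ) := [(0, false, 27, 70, 0, 3), (1, false, 20, 71, 1, 3), (3, false, 20, 71, 3, 2), (5, false, 20, 71, 5, 2), (7, false, 20, 71, 7, 2), (8, false, 20, 71, 8, 2), (10, false, 20, 71, 10, 2), (11, false, 27, 70, 11, 2), (13, false, 27, 70, 13, 2), (15, false, 34, 66, 15, 2), (17, false, 20, 71, 17, 2), (22, false, 20, 71, 22, 2), (24, false, 20, 71, 24, 2), (30, false, 27, 70, 30, 2), (32, false, 27, 70, 32, 2), (35, false, 29, 68, 35, 2), (37, false, 29, 68, 37, 2), (42, false, 34, 66, 42, 2), (44, false, 39, 63, 44, 2), (51, false, 47, 60, 51, 2)]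
def tRow66 : List (ℕ × Bool × ℕ × ℕ × ℕ × ℕ) := [(0, false, 28, 70, 0, 3), (1, false, 21, 71, 1, 3), (2, false, 21, 71, 2, 3), (6, false, 21, 71, 6, 2), (7, false, 21, 71, 7, 2), (8, false, 21, 71, 8, 2), (9, false, 21, 71, 9, 2), (11, false, 28, 70, 11, 2), (12, false, 28, 70, 12, 2), (15, false, 37, 65, 15, 2), (16, false, 21, 71, 16, 3), (22, false, 21, 71, 22, 2), (23, false, 21, 71, 23, 2), (30, false, 28, 70, 30, 2), (31, false, 28, 70, 31, 2), (33, false, 29, 69, 33, 2), (34, false, 29, 69, 34, 2), (42, false, 37, 65, 42, 2), (43, false, 40, 63, 43, 2), (50, false, 48, 60, 50, 2)]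
def tRow67 : List (ℕ × Bool × ℕ × ℕ × ℕ × ℕ) := [(0, false, 30, 70, 0, 3), (1, false, 22, 71, 1, 3), (2, false, 22, 71, 2, 3), (3, false, 22, 71, 3, 3), (7, false, 22, 71, 7, 2), (9, false, 22, 71, 9, 2), (10, false, 22, 71, 10, 2), (12, false, 30, 70, 12, 2), (13, false, 30, 70, 13, 2), (14, false, 33, 69, 14, 2), (18, false, 22, 71, 18, 2), (20, false, 22, 71, 20, 2), (21, false, 22, 71, 21, 2), (27, false, 30, 70, 27, 2), (28, false, 30, 70, 28, 2), (29, false, 33, 69, 29, 2), (36, false, 42, 64, 36, 2), (38, false, 42, 64, 38, 2), (41, false, 43, 62, 41, 2), (49, false, 50, 59, 49, 2)]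
def tRow68 : List (ℕ × Bool × ℕ × ℕ × ℕ × ℕ) := [(0, false, 31, 70, 0, 3), (1, false, 23, 71, 1, 3), (2, false, 23, 71, 2, 3), (4, false, 23, 71, 4, 3), (6, false, 23, 71, 6, 2), (8, false, 23, 71, 8, 2), (10, false, 23, 71, 10, 2), (11, false, 31, 70, 11, 2), (13, false, 31, 70, 13, 2), (14, false, 34, 69, 14, 2), (17, false, 23, 71, 17, 2), (19, false, 23, 71, 19, 2), (21, false, 23, 71, 21, 2), (26, false, 31, 70, 26, 2), (28, false, 31, 70, 28, 2), (29, false, 34, 69, 29, 2), (35, false, 42, 65, 35, 2), (37, false, 42, 65, 37, 2), (40, false, 43, 63, 40, 2), (48, false, 50, 60, 48, 2)]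
def tRow69 : List (ℕ × Bool × ℕ × ℕ × ℕ × ℕ) := [(0, false, 32, 70, 0, 3), (1, false, 24, 71, 1, 3), (3, false, 24, 71, 3, 3), (4, false, 24, 71, 4, 3), (5, false, 24, 71, 5, 3), (8, false, 24, 71, 8, 2), (9, false, 24, 71, 9, 2), (11, false, 32, 70, 11, 2), (12, false, 32, 70, 12, 2), (14, false, 37, 68, 14, 2), (16, false, 24, 71, 16, 3), (19, false, 24, 71, 19, 2), (20, false, 24, 71, 20, 2), (26, false, 32, 70, 26, 2), (27, false, 32, 70, 27, 2), (29, false, 37, 68, 29, 2), (33, false, 42, 66, 33, 2), (34, false, 42, 66, 34, 2), (39, false, 44, 63, 39, 2), (47, false, 51, 60, 47, 2)]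
def tRow70 : List (ℕ × Bool × ℕ × ℕ × ℕ × ℕ) := [(0, false, 39, 69, 0, 3), (2, false, 25, 71, 2, 3), (3, false, 25, 71, 3, 3), (4, false, 25, 71, 4, 3), (5, false, 25, 71, 5, 3), (6, false, 25, 71, 6, 3), (7, false, 25, 71, 7, 3), (11, false, 39, 69, 11, 2), (12, false, 39, 69, 12, 2), (13, false, 40, 68, 13, 2), (16, false, 25, 71, 16, 3), (17, false, 25, 71, 17, 3), (18, false, 25, 71, 18, 3), (26, false, 39, 69, 26, 2), (27, false, 39, 69, 27, 2), (28, false, 40, 68, 28, 2), (30, false, 43, 66, 30, 2), (31, false, 43, 66, 31, 2), (32, false, 44, 65, 32, 2), (46, false, 53, 60, 46, 3)]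
def tRow71 : List (ℕ × Bool × ℕ × ℕ × ℕ × ℕ) := [(1, false, 47, 69, 1, 3), (2, false, 46, 70, 2, 3), (3, false, 46, 70, 3, 3), (4, false, 46, 70, 4, 3), (5, false, 46, 70, 5, 3), (6, false, 46, 70, 6, 3), (7, false, 46, 70, 7, 3), (8, false, 47, 69, 8, 3), (9, false, 47, 69, 9, 3), (10, false, 48, 68, 10, 3), (16, false, 46, 70, 16, 3), (17, false, 46, 70, 17, 3), (18, false, 46, 70, 18, 3), (19, false, 47, 69, 19, 3), (20, false, 47, 69, 20, 3), (21, false, 48, 68, 21, 3), (22, false, 50, 66, 22, 3), (23, false, 50, 66, 23, 3), (24, false, 51, 65, 24, 3), (25, false, 53, 63, 25, 3)]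

/-- Hall-Witt configurations -/
def tT : List (List (ℕ × Bool × ℕ × ℕ × ℕ × ℕ)) := [tRow0, tRow1, tRow2, tRow3, tRow4, tRow5, tRow6, tRow7, tRow8, tRow9, tRow10, tRow11, tRow12, tRow13, tRow14, tRow15, tRow16, tRow17, tRow18, tRow19, tRow20, tRow21, tRow22, tRow23, tRow24, tRow25, tRow26, tRow27, tRow28, tRow29, tRow30, tRow31, tRow32, tRow33, tRow34, tRow35, tRow36, tRow37, tRow38, tRow39, tRow40, tRow41, tRow42, tRow43, tRow44, tRow45, tRow46, tRow47, tRow48, tRow49, tRow50, tRow51, tRow52, tRow53, tRow54, tRow55, tRow56, tRow57, tRow58, tRow59, tRow60, tRow61, tRow62, tRow63, tRow64, tRow65, tRow66, tRow67, tRow68, tRow69, tRow70, tRow71]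

end Cfsg.Agent.Lib.Helper35_SteinDataE6
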