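/-
Central closedness of Steinberg groups (helper35): certificate checks for the type E6, well-formedness for the roots 0 to 72 (generated).
-/
import Mathlib
import Cfsg.Prelude.Def_ChevE6
import Cfsg.Agent.Lib.Helper35_SteinCert
import Cfsg.Agent.Lib.Helper35_SteinDataE6

set_option autoImplicit false
set_option maxRecDepth 100000

namespace Cfsg.Agent.Lib.Helper35_SteinCertE6F0

open Cfsg Cfsg.Lie Cfsg.Agent.Lib.Helper35_SteinCert Cfsg.Agent.Lib.Helper35_SteinDataE6

theorem r0 : wfRow chevE6 0 = true := by decide +kernel
theorem r1 : wfRow chevE6 1 = true := by decide +kernel
theorem r2 : wfRow chevE6 2 = true := by decide +kernel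
theorem r3 : wfRow chevE6 3 = true := by decide +kernel
theorem r4 : wfRow chevE6 4 = true := by decide +kernel
theorem r5 : wfRow chevE6 5 = true := by decide +kernel
theorem r6 : wfRow chevE6 6 = true := by decide +kernel
theorem r7 : wfRow chevE6 7 = true := by decide +kernel
theorem r8 : wfRow chevE6 8 = true := by decide +kernel
theorem r9 : wfRow chevE6 9 = true := by decide +kernel
theorem r10 : wfRow chevE6 10 = true := by decide +kernel
theorem r11 : wfRow chevE6 11 = true := by decide +kernel
theorem r12 : wfRow chevE6 12 = true := by decide +kernel
theorem r13 : wfRow chevE6 13 = true := by decide +kernel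
theorem r14 : wfRow chevE6 14 = true := by decide +kernel
theorem r15 : wfRow chevE6 15 = true := by decide +kernel
theorem r16 : wfRow chevE6 16 = true := by decide +kernel
theorem r17 : wfRow chevE6 17 = true := by decide +kernel
theorem r18 : wfRow chevE6 18 = true := by decide +kernel
theorem r19 : wfRow chevE6 19 = true := by decide +kernel
theorem r20 : wfRow chevE6 20 = true := by decide +kernel
theorem r21 : wfRow chevE6 21 = true := by decide +kernel
theorem r22 : wfRow chevE6 22 = true := by decide +kernel
theorem r23 : wfRow chevE6 23 = true := by decide +kernel
theorem r24 : wfRow chevE6 24 = true := by decide +kernel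
theorem r25 : wfRow chevE6 25 = true := by decide +kernel
theorem r26 : wfRow chevE6 26 = true := by decide +kernel
theorem r27 : wfRow chevE6 27 = true := by decide +kernel
theorem r28 : wfRow chevE6 28 = true := by decide +kernel
theorem r29 : wfRow chevE6 29 = true := by decide +kernel
theorem r30 : wfRow chevE6 30 = true := by decide +kernel
theorem r31 : wfRow chevE6 31 = true := by decide +kernel
theorem r32 : wfRow chevE6 32 = true := by decide +kernel
theorem r33 : wfRow chevE6 33 = true := by decide +kernel
theorem r34 : wfRow chevE6 34 = true := by decide +kernel
theorem r35 : wfRow chevE6 35 = true := by decide +kernel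
theorem r36 : wfRow chevE6 36 = true := by decide +kernel
theorem r37 : wfRow chevE6 37 = true := by decide +kernel
theorem r38 : wfRow chevE6 38 = true := by decide +kernel
theorem r39 : wfRow chevE6 39 = true := by decide +kernel
theorem r40 : wfRow chevE6 40 = true := by decide +kernel
theorem r41 : wfRow chevE6 41 = true := by decide +kernel
theorem r42 : wfRow chevE6 42 = true := by decide +kernel
theorem r43 : wfRow chevE6 43 = true := by decide +kernel
theorem r44 : wfRow chevE6 44 = true := by decide +kernel
theorem r45 : wfRow chevE6 45 = true := by decide +kernel
theorem r46 : wfRow chevE6 46 = true := by decide +kernel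
theorem r47 : wfRow chevE6 47 = true := by decide +kernel
theorem r48 : wfRow chevE6 48 = true := by decide +kernel
theorem r49 : wfRow chevE6 49 = true := by decide +kernel
theorem r50 : wfRow chevE6 50 = true := by decide +kernel
theorem r51 : wfRow chevE6 51 = true := by decide +kernel
theorem r52 : wfRow chevE6 52 = true := by decide +kernel
theorem r53 : wfRow chevE6 53 = true := by decide +kernel
theorem r54 : wfRow chevE6 54 = true := by decide +kernel
theorem r55 : wfRow chevE6 55 = true := by decide +kernel
theorem r56 : wfRow chevE6 56 = true := by decide +kernel
theorem r57 : wfRow chevE6 57 = true := by decide +kernel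
theorem r58 : wfRow chevE6 58 = true := by decide +kernel
theorem r59 : wfRow chevE6 59 = true := by decide +kernel
theorem r60 : wfRow chevE6 60 = true := by decide +kernel
theorem r61 : wfRow chevE6 61 = true := by decide +kernel
theorem r62 : wfRow chevE6 62 = true := by decide +kernel
theorem r63 : wfRow chevE6 63 = true := by decide +kernel
theorem r64 : wfRow chevE6 64 = true := by decide +kernel
theorem r65 : wfRow chevE6 65 = true := by decide +kernel
theorem r66 : wfRow chevE6 66 = true := by decide +kernel
theorem r67 : wfRow chevE6 67 = true := by decide +kernel
theorem r68 : wfRow chevE6 68 = true := by decide +kernel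
theorem r69 : wfRow chevE6 69 = true := by decide +kernel
theorem r70 : wfRow chevE6 70 = true := by decide +kernel
theorem r71 : wfRow chevE6 71 = true := by decide +kernel

theorem chunk : ∀ x, 0 ≤ x → x < 72 → wfRow chevE6 x = true := by
  intro x h1 h2
  interval_cases x
  · exact r0
  · exact r1
  · exact r2
  · exact r3
  · exact r4
  · exact r5
  · exact r6
  · exact r7
  · exact r8
  · exact r9
  · exact r10
  · exact r11
  · exact r12
  · exact r13
  · exact r14
  · exact r15
  · exact r16
  · exact r17
  · exact r18
  · exact r19
  · exact r20
  · exact r21
  · exact r22
  · exact r23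
  · exact r24
  · exact r25
  · exact r26
  · exact r27
  · exact r28
  · exact r29
  · exact r30
  · exact r31
  · exact r32
  · exact r33
  · exact r34
  · exact r35
  · exact r36
  · exact r37
  · exact r38
  · exact r39
  · exact r40
  · exact r41
  · exact r42
  · exact r43
  · exact r44
  · exact r45
  · exact r46
  · exact r47
  · exact r48
  · exact r49
  · exact r50
  · exact r51
  · exact r52
  · exact r53
  · exact r54
  · exact r55
  · exact r56
  · exact r57
  · exact r58
  · exact r59
  · exact r60
  · exact r61
  · exact r62
  · exact r63
  · exact r64
  · exact r65
  · exact r66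
  · exact r67
  · exact r68
  · exact r69
  · exact r70
  · exact r71

end Cfsg.Agent.Lib.Helper35_SteinCertE6F0
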