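/-
Central closedness of Steinberg groups (helper35): the certificate for the type E6 (generated).
-/
import Mathlib
import Cfsg.Agent.Lib.Helper35_SteinCertE6F0
import Cfsg.Agent.Lib.Helper35_SteinCertE6C0
import Cfsg.Agent.Lib.Helper35_SteinCertE6W0
import Cfsg.Agent.Lib.Helper35_SteinCertE6P0

set_option autoImplicit false
set_option maxRecDepth 100000

namespace Cfsg.Agent.Lib.Helper35_SteinCertE6

open Cfsg Cfsg.Lie Cfsg.Agent.Lib.Helper35_SteinCert Cfsg.Agent.Lib.Helper35_SteinDataE6

theorem size_le : chevE6.chain.size ≤ chevE6.nroots := by decide +kernel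

theorem cn : (List.range' 0 72).all (canRow chevE6 canT) = true := by decide +kernel

theorem wf : wfB chevE6 = true := by
  apply wfB_of_rows size_le
  intro r hr
  have hr' : r < 72 := hr
  exact Cfsg.Agent.Lib.Helper35_SteinCertE6F0.chunk r (by omega) (by omega)

theorem cert : Cert chevE6 canT tT wT where
  wf := wf
  c4 := by
    intro r hr
    have hr' : r < 72 := hr
    exact Cfsg.Agent.Lib.Helper35_SteinCertE6C0.chunk r (by omega) (by omega)
  cn := fun r hr => of_range' cn r (Nat.zero_le r) (by
    have : r < 72 := hr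
    omega)
  c1 := by
    intro r hr
    have hr' : r < 72 := hr
    exact Cfsg.Agent.Lib.Helper35_SteinCertE6W0.chunk r (by omega) (by omega)
  pr := by
    intro r hr
    have hr' : r < 72 := hr
    exact Cfsg.Agent.Lib.Helper35_SteinCertE6P0.chunk r (by omega) (by omega)

end Cfsg.Agent.Lib.Helper35_SteinCertE6
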