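/-
Central closedness of Steinberg groups (helper35): certificate tables for the type E7 (generated).
-/
import Mathlib

set_option autoImplicit false

namespace Cfsg.Agent.Lib.Helper35_SteinDataE7

/-- canonical decompositions -/
def canT : List (ℕ × ℕ) := [(1, 32), (0, 93), (0, 94), (0, 95), (0, 96), (0, 97), (0, 98), (0, 99), (0, 100), (0, 101), (0, 102), (0, 103), (0, 104), (0, 105), (0, 106), (0, 107), (0, 108), (0, 109), (0, 110), (0, 111), (0, 112), (0, 113), (0, 114), (0, 115), (0, 116), (0, 117), (0, 118), (0, 119), (0, 120), (0, 121), (0, 122), (0, 123), (0, 124), (1, 109), (1, 110), (1, 111), (1, 112), (1, 113), (1, 114), (1, 115), (1, 116), (1, 117), (1, 118), (2, 115), (2, 116), (2, 117), (2, 118), (3, 118), (1, 119), (1, 120), (1, 121), (1, 122), (1, 123), (2, 119), (2, 120), (2, 121), (2, 122), (3, 119), (3, 120), (3, 121), (4, 119), (4, 120), (5, 119), (6, 120), (5, 121), (6, 121), (4, 122), (5, 122), (6, 122), (3, 123), (4, 123), (5, 123), (6, 123), (2, 124),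 (3, 124), (4, 124), (5, 124), (6, 124), (7, 122), (7, 123), (8, 123), (9, 123), (10, 123), (7, 124), (8, 124), (9, 124), (10, 124), (11, 124), (12, 124), (13, 124), (14, 124), (15, 124), (16, 124), (1, 125), (2, 125), (3, 125), (4, 125), (5, 125), (6, 125), (7, 125), (8, 125), (9, 125), (10, 125), (11, 125), (12, 125), (13, 125), (14, 125), (15, 125), (16, 125), (17, 125), (18, 125), (19, 125), (20, 125), (21, 125), (22, 125), (23, 125), (24, 125), (25, 125), (26, 125), (27, 125), (28, 125), (29, 125), (30, 125), (31, 125), (32, 125), (93, 124)]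

/-- decompositions witnessing (C1) -/
def wT : List (List (ℕ × ℕ)) := [[(1, 32), (2, 31), (3, 30), (4, 29), (5, 28)], [(0, 93), (2, 52), (3, 51), (4, 50), (5, 49)], [(0, 94), (1, 73), (3, 56), (4, 55), (5, 54)], [(0, 95), (1, 74), (2, 69), (4, 59), (5, 58)], [(0, 96), (1, 75), (2, 70), (3, 66), (5, 61)], [(0, 97), (1, 76), (2, 71), (3, 67), (4, 64)], [(0, 98), (1, 77), (2, 72), (3, 68), (4, 65)], [(0, 99), (1, 83), (2, 79), (8, 59), (9, 58)], [(0, 100), (1, 84), (2, 80), (7, 66), (9, 61)], [(0, 101), (1, 85), (2, 81), (7, 67), (8, 64)], [(0, 102), (1, 86), (2, 82), (7, 68), (8, 65)], [(0, 103), (1, 87), (3, 80), (7, 70), (12, 61)], [(0, 104), (1, 88), (3, 81), (7, 71), (11, 64)], [(0, 105), (1, 89), (3, 82), (7, 72), (11, 65)], [(0, 106), (1, 90), (4, 81), (8, 71), (11, 67)], [(0, 107), (1, 91), (4, 82), (8, 72), (11, 68)], [(0, 108), (1, 92), (5, 82), (9, 72), (12, 68)], [(0, 109), (2, 87), (3, 84), (7, 75), (18, 61)], [(0, 110), (2, 88), (3, 85), (7, 76), (17, 64)], [(0,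 111), (2, 89), (3, 86), (7, 77), (17, 65)], [(0, 112), (2, 90), (4, 85), (8, 76), (17, 67)], [(0, 113), (2, 91), (4, 86), (8, 77), (17, 68)], [(0, 114), (2, 92), (5, 86), (9, 77), (18, 68)], [(0, 115), (3, 90), (4, 88), (11, 76), (17, 71)], [(0, 116), (3, 91), (4, 89), (11, 77), (17, 72)], [(0, 117), (3, 92), (5, 89), (12, 77), (18, 72)], [(0, 118), (4, 92), (5, 91), (14, 77), (20, 72)], [(0, 119), (7, 90), (8, 88), (11, 85), (17, 81)], [(0, 120), (7, 91), (8, 89), (11, 86), (17, 82)], [(0, 121), (7, 92), (9, 89), (12, 86), (18, 82)], [(0, 122), (8, 92), (9, 91), (14, 86), (20, 82)], [(0, 123), (11, 92), (12, 91), (14, 89), (23, 82)], [(0, 124), (17, 92), (18, 91), (20, 89), (23, 86)], [(1, 109), (2, 103), (3, 100), (7, 96), (34, 61)], [(1, 110), (2, 104), (3, 101), (7, 97), (33, 64)], [(1, 111), (2, 105), (3, 102), (7, 98), (33, 65)], [(1, 112), (2, 106), (4, 101), (8, 97), (33, 67)], [(1, 113), (2, 107), (4, 102), (8, 98), (33, 68)], [(1, 114), (2, 108), (5, 102), (9,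 98), (34, 68)], [(1, 115), (3, 106), (4, 104), (11, 97), (33, 71)], [(1, 116), (3, 107), (4, 105), (11, 98), (33, 72)], [(1, 117), (3, 108), (5, 105), (12, 98), (34, 72)], [(1, 118), (4, 108), (5, 107), (14, 98), (36, 72)], [(2, 115), (3, 112), (4, 110), (17, 97), (33, 76)], [(2, 116), (3, 113), (4, 111), (17, 98), (33, 77)], [(2, 117), (3, 114), (5, 111), (18, 98), (34, 77)], [(2, 118), (4, 114), (5, 113), (20, 98), (36, 77)], [(3, 118), (4, 117), (5, 116), (23, 98), (39, 77)], [(1, 119), (7, 106), (8, 104), (11, 101), (33, 81)], [(1, 120), (7, 107), (8, 105), (11, 102), (33, 82)], [(1, 121), (7, 108), (9, 105), (12, 102), (34, 82)], [(1, 122), (8, 108), (9, 107), (14, 102), (36, 82)], [(1, 123), (11, 108), (12, 107), (14, 105), (39, 82)], [(2, 119), (7, 112), (8, 110), (17, 101), (33, 85)], [(2, 120), (7, 113), (8, 111), (17, 102), (33, 86)], [(2, 121), (7, 114), (9, 111), (18, 102), (34, 86)], [(2, 122), (8, 114), (9, 113), (20, 102), (36, 86)], [(3, 119), (7, 115), (11,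 110), (17, 104), (33, 88)], [(3, 120), (7, 116), (11, 111), (17, 105), (33, 89)], [(3, 121), (7, 117), (12, 111), (18, 105), (34, 89)], [(4, 119), (8, 115), (11, 112), (17, 106), (33, 90)], [(4, 120), (8, 116), (11, 113), (17, 107), (33, 91)], [(5, 119), (9, 115), (12, 112), (18, 106), (34, 90)], [(6, 120), (10, 116), (13, 113), (19, 107), (35, 91)], [(5, 121), (9, 117), (12, 114), (18, 108), (34, 92)], [(6, 121), (10, 117), (13, 114), (19, 108), (35, 92)], [(4, 122), (8, 118), (14, 113), (20, 107), (36, 91)], [(5, 122), (9, 118), (14, 114), (20, 108), (36, 92)], [(6, 122), (10, 118), (15, 114), (21, 108), (37, 92)], [(3, 123), (11, 117), (12, 116), (23, 105), (39, 89)], [(4, 123), (11, 118), (14, 116), (23, 107), (39, 91)], [(5, 123), (12, 118), (14, 117), (23, 108), (39, 92)], [(6, 123), (13, 118), (15, 117), (24, 108), (40, 92)], [(2, 124), (17, 114), (18, 113), (20, 111), (43, 86)], [(3, 124), (17, 117), (18, 116), (23, 111), (43, 89)], [(4, 124), (17, 118), (20, 116),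 (23, 113), (43, 91)], [(5, 124), (18, 118), (20, 117), (23, 114), (43, 92)], [(6, 124), (19, 118), (21, 117), (24, 114), (44, 92)], [(7, 122), (8, 121), (9, 120), (27, 102), (48, 86)], [(7, 123), (11, 121), (12, 120), (27, 105), (48, 89)], [(8, 123), (11, 122), (14, 120), (27, 107), (48, 91)], [(9, 123), (12, 122), (14, 121), (27, 108), (48, 92)], [(10, 123), (13, 122), (15, 121), (28, 108), (49, 92)], [(7, 124), (17, 121), (18, 120), (27, 111), (53, 89)], [(8, 124), (17, 122), (20, 120), (27, 113), (53, 91)], [(9, 124), (18, 122), (20, 121), (27, 114), (53, 92)], [(10, 124), (19, 122), (21, 121), (28, 114), (54, 92)], [(11, 124), (17, 123), (23, 120), (27, 116), (57, 91)], [(12, 124), (18, 123), (23, 121), (27, 117), (57, 92)], [(13, 124), (19, 123), (24, 121), (28, 117), (58, 92)], [(14, 124), (20, 123), (23, 122), (27, 118), (60, 92)], [(15, 124), (21, 123), (24, 122), (28, 118), (61, 92)], [(16, 124), (22, 123), (25, 122), (29, 118), (64, 91)], [(1, 125), (33, 108),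 (34, 107), (36, 105), (39, 102)], [(2, 125), (33, 114), (34, 113), (36, 111), (43, 102)], [(3, 125), (33, 117), (34, 116), (39, 111), (43, 105)], [(4, 125), (33, 118), (36, 116), (39, 113), (43, 107)], [(5, 125), (34, 118), (36, 117), (39, 114), (43, 108)], [(6, 125), (35, 118), (37, 117), (40, 114), (44, 108)], [(7, 125), (33, 121), (34, 120), (48, 111), (53, 105)], [(8, 125), (33, 122), (36, 120), (48, 113), (53, 107)], [(9, 125), (34, 122), (36, 121), (48, 114), (53, 108)], [(10, 125), (35, 122), (37, 121), (49, 114), (54, 108)], [(11, 125), (33, 123), (39, 120), (48, 116), (57, 107)], [(12, 125), (34, 123), (39, 121), (48, 117), (57, 108)], [(13, 125), (35, 123), (40, 121), (49, 117), (58, 108)], [(14, 125), (36, 123), (39, 122), (48, 118), (60, 108)], [(15, 125), (37, 123), (40, 122), (49, 118), (61, 108)], [(16, 125), (38, 123), (41, 122), (50, 118), (64, 107)], [(17, 125), (33, 124), (43, 120), (53, 116), (57, 113)], [(18, 125), (34, 124), (43, 121), (53, 117), (57,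 114)], [(19, 125), (35, 124), (44, 121), (54, 117), (58, 114)], [(20, 125), (36, 124), (43, 122), (53, 118), (60, 114)], [(21, 125), (37, 124), (44, 122), (54, 118), (61, 114)], [(22, 125), (38, 124), (45, 122), (55, 118), (64, 113)], [(23, 125), (39, 124), (43, 123), (57, 118), (60, 117)], [(24, 125), (40, 124), (44, 123), (58, 118), (61, 117)], [(25, 125), (41, 124), (45, 123), (59, 118), (64, 116)], [(26, 125), (42, 124), (46, 123), (66, 117), (67, 116)], [(27, 125), (48, 124), (53, 123), (57, 122), (60, 121)], [(28, 125), (49, 124), (54, 123), (58, 122), (61, 121)], [(29, 125), (50, 124), (55, 123), (59, 122), (64, 120)], [(30, 125), (51, 124), (56, 123), (66, 121), (67, 120)], [(31, 125), (52, 124), (69, 122), (70, 121), (71, 120)], [(32, 125), (73, 123), (74, 122), (75, 121), (76, 120)], [(93, 124), (94, 123), (95, 122), (96, 121), (97, 120)]]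

def tRow0 : List (ℕ × Bool × ℕ × ℕ × ℕ × ℕ) := [(93, true, 0, 94, 52, 0), (94, true, 0, 93, 73, 0), (95, true, 0, 93, 74, 0), (96, true, 0, 93, 75, 0), (97, true, 0, 93, 76, 0), (98, true, 0, 93, 77, 0), (99, true, 0, 93, 83, 0), (100, true, 0, 93, 84, 0), (101, true, 0, 93, 85, 0), (102, true, 0, 93, 86, 0), (103, true, 0, 93, 87, 0), (104, true, 0, 93, 88, 0), (105, true, 0, 93, 89, 0), (106, true, 0, 93, 90, 0), (107, true, 0, 93, 91, 0), (108, true, 0, 93, 92, 0), (109, true, 0, 94, 87, 0), (110, true, 0, 94, 88, 0), (111, true, 0, 94, 89, 0), (112, true, 0, 94, 90, 0), (113, true, 0, 94, 91, 0), (114, true, 0, 94, 92, 0), (115, true, 0, 95, 90, 0), (116, true, 0, 95, 91, 0), (117, true, 0, 95, 92, 0), (118, true, 0, 96, 92, 0), (119, true, 0, 99, 90, 0), (120, true, 0, 99, 91, 0), (121, true, 0, 99, 92, 0), (122, true, 0, 100, 92, 0), (123, true, 0, 103, 92, 0), (124, true, 0, 109, 92, 0)]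
def tRow1 : List (ℕ × Bool × ℕ × ℕ × ℕ × ℕ) := [(32, true, 1, 73, 31, 0), (73, false, 0, 93, 73, 1), (74, false, 0, 93, 74, 1), (75, false, 0, 93, 75, 1), (76, false, 0, 93, 76, 1), (77, false, 0, 93, 77, 1), (83, false, 0, 93, 83, 1), (84, false, 0, 93, 84, 1), (85, false, 0, 93, 85, 1), (86, false, 0, 93, 86, 1), (87, false, 0, 93, 87, 1), (88, false, 0, 93, 88, 1), (89, false, 0, 93, 89, 1), (90, false, 0, 93, 90, 1), (91, false, 0, 93, 91, 1), (92, false, 0, 93, 92, 1), (109, true, 1, 73, 103, 0), (110, true, 1, 73, 104, 0), (111, true, 1, 73, 105, 0), (112, true, 1, 73, 106, 0), (113, true, 1, 73, 107, 0), (114, true, 1, 73, 108, 0), (115, true, 1, 74, 106, 0), (116, true, 1, 74, 107, 0), (117, true, 1, 74, 108, 0), (118, true, 1, 75, 108, 0), (119, true, 1, 83, 106, 0), (120, true, 1, 83, 107, 0), (121, true, 1, 83, 108, 0), (122, true, 1, 84, 108, 0), (123, true, 1, 87, 108, 0), (125, true, 1, 109, 108, 0)]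
def tRow2 : List (ℕ × Bool × ℕ × ℕ × ℕ × ℕ) := [(31, false, 1, 73, 31, 1), (52, false, 0, 94, 52, 1), (69, false, 0, 94, 69, 1), (70, false, 0, 94, 70, 1), (71, false, 0, 94, 71, 1), (72, false, 0, 94, 72, 1), (79, false, 0, 94, 79, 1), (80, false, 0, 94, 80, 1), (81, false, 0, 94, 81, 1), (82, false, 0, 94, 82, 1), (87, false, 0, 94, 87, 1), (88, false, 0, 94, 88, 1), (89, false, 0, 94, 89, 1), (90, false, 0, 94, 90, 1), (91, false, 0, 94, 91, 1), (92, false, 0, 94, 92, 1), (103, false, 1, 73, 103, 1), (104, false, 1, 73, 104, 1), (105, false, 1, 73, 105, 1), (106, false, 1, 73, 106, 1), (107, false, 1, 73, 107, 1), (108, false, 1, 73, 108, 1), (115, true, 2, 69, 112, 0), (116, true, 2, 69, 113, 0), (117, true, 2, 69, 114, 0), (118, true, 2, 70, 114, 0), (119, true, 2, 79, 112, 0), (120, true, 2, 79, 113, 0), (121, true, 2, 79, 114, 0), (122, true, 2, 80, 114, 0), (124, true, 2, 87, 114, 0), (125, true, 2, 103, 114, 0)]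
def tRow3 : List (ℕ × Bool × ℕ × ℕ × ℕ × ℕ) := [(30, false, 1, 74, 30, 1), (51, false, 0, 95, 51, 1), (56, false, 0, 95, 56, 1), (66, false, 0, 95, 66, 1), (67, false, 0, 95, 67, 1), (68, false, 0, 95, 68, 1), (78, false, 0, 95, 78, 1), (80, false, 0, 95, 80, 1), (81, false, 0, 95, 81, 1), (82, false, 0, 95, 82, 1), (84, false, 0, 95, 84, 1), (85, false, 0, 95, 85, 1), (86, false, 0, 95, 86, 1), (90, false, 0, 95, 90, 1), (91, false, 0, 95, 91, 1), (92, false, 0, 95, 92, 1), (100, false, 1, 74, 100, 1), (101, false, 1, 74, 101, 1), (102, false, 1, 74, 102, 1), (106, false, 1, 74, 106, 1), (107, false, 1, 74, 107, 1), (108, false, 1, 74, 108, 1), (112, false, 2, 69, 112, 1), (113, false, 2, 69, 113, 1), (114, false, 2, 69, 114, 1), (118, true, 3, 66, 117, 0), (119, true, 3, 78, 115, 0), (120, true, 3, 78, 116, 0), (121, true, 3, 78, 117, 0), (123, true, 3, 80, 117, 0), (124, true, 3, 84, 117, 0), (125, true, 3, 100, 117, 0)]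
def tRow4 : List (ℕ × Bool × ℕ × ℕ × ℕ × ℕ) := [(29, false, 1, 75, 29, 1), (50, false, 0, 96, 50, 1), (55, false, 0, 96, 55, 1), (59, false, 0, 96, 59, 1), (64, false, 0, 96, 64, 1), (65, false, 0, 96, 65, 1), (78, false, 0, 96, 78, 1), (79, false, 0, 96, 79, 1), (81, false, 0, 96, 81, 1), (82, false, 0, 96, 82, 1), (83, false, 0, 96, 83, 1), (85, false, 0, 96, 85, 1), (86, false, 0, 96, 86, 1), (88, false, 0, 96, 88, 1), (89, false, 0, 96, 89, 1), (92, false, 0, 96, 92, 1), (99, false, 1, 75, 99, 1), (101, false, 1, 75, 101, 1), (102, false, 1, 75, 102, 1), (104, false, 1, 75, 104, 1), (105, false, 1, 75, 105, 1), (108, false, 1, 75, 108, 1), (110, false, 2, 70, 110, 1), (111, false, 2, 70, 111, 1), (114, false, 2, 70, 114, 1), (117, false, 3, 66, 117, 1), (119, true, 4, 78, 115, 0), (120, true, 4, 78, 116, 0), (122, true, 4, 78, 118, 0), (123, true, 4, 79, 118, 0), (124, true, 4, 83, 118, 0), (125, true, 4, 99, 118, 0)]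
def tRow5 : List (ℕ × Bool × ℕ × ℕ × ℕ × ℕ) := [(28, false, 1, 76, 28, 1), (49, false, 0, 97, 49, 1), (54, false, 0, 97, 54, 1), (58, false, 0, 97, 58, 1), (61, false, 0, 97, 61, 1), (63, false, 0, 97, 63, 1), (78, false, 0, 97, 78, 1), (79, false, 0, 97, 79, 1), (80, false, 0, 97, 80, 1), (82, false, 0, 97, 82, 1), (83, false, 0, 97, 83, 1), (84, false, 0, 97, 84, 1), (86, false, 0, 97, 86, 1), (87, false, 0, 97, 87, 1), (89, false, 0, 97, 89, 1), (91, false, 0, 97, 91, 1), (99, false, 1, 76, 99, 1), (100, false, 1, 76, 100, 1), (102, false, 1, 76, 102, 1), (103, false, 1, 76, 103, 1), (105, false, 1, 76, 105, 1), (107, false, 1, 76, 107, 1), (109, false, 2, 71, 109, 1), (111, false, 2, 71, 111, 1), (113, false, 2, 71, 113, 1), (116, false, 3, 67, 116, 1), (119, true, 5, 78, 115, 0), (121, true, 5, 78, 117, 0), (122, true, 5, 78, 118, 0), (123, true, 5, 79, 118, 0), (124, true, 5, 83, 118, 0), (125, true, 5, 99, 118, 0)]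
def tRow6 : List (ℕ × Bool × ℕ × ℕ × ℕ × ℕ) := [(27, false, 1, 77, 27, 1), (48, false, 0, 98, 48, 1), (53, false, 0, 98, 53, 1), (57, false, 0, 98, 57, 1), (60, false, 0, 98, 60, 1), (62, false, 0, 98, 62, 1), (78, false, 0, 98, 78, 1), (79, false, 0, 98, 79, 1), (80, false, 0, 98, 80, 1), (81, false, 0, 98, 81, 1), (83, false, 0, 98, 83, 1), (84, false, 0, 98, 84, 1), (85, false, 0, 98, 85, 1), (87, false, 0, 98, 87, 1), (88, false, 0, 98, 88, 1), (90, false, 0, 98, 90, 1), (99, false, 1, 77, 99, 1), (100, false, 1, 77, 100, 1), (101, false, 1, 77, 101, 1), (103, false, 1, 77, 103, 1), (104, false, 1, 77, 104, 1), (106, false, 1, 77, 106, 1), (109, false, 2, 72, 109, 1), (110, false, 2, 72, 110, 1), (112, false, 2, 72, 112, 1), (115, false, 3, 68, 115, 1), (120, true, 6, 78, 116, 0), (121, true, 6, 78, 117, 0), (122, true, 6, 78, 118, 0), (123, true, 6, 79, 118, 0), (124, true, 6, 83, 118, 0), (125, true, 6, 99, 118, 0)]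
def tRow7 : List (ℕ × Bool × ℕ × ℕ × ℕ × ℕ) := [(26, false, 1, 83, 26, 1), (42, false, 0, 99, 42, 1), (46, false, 0, 99, 46, 1), (47, false, 0, 99, 47, 1), (66, false, 0, 99, 66, 1), (67, false, 0, 99, 67, 1), (68, false, 0, 99, 68, 1), (70, false, 0, 99, 70, 1), (71, false, 0, 99, 71, 1), (72, false, 0, 99, 72, 1), (75, false, 0, 99, 75, 1), (76, false, 0, 99, 76, 1), (77, false, 0, 99, 77, 1), (90, false, 0, 99, 90, 1), (91, false, 0, 99, 91, 1), (92, false, 0, 99, 92, 1), (96, false, 1, 83, 96, 1), (97, false, 1, 83, 97, 1), (98, false, 1, 83, 98, 1), (106, false, 1, 83, 106, 1), (107, false, 1, 83, 107, 1), (108, false, 1, 83, 108, 1), (112, false, 2, 79, 112, 1), (113, false, 2, 79, 113, 1), (114, false, 2, 79, 114, 1), (115, false, 3, 78, 115, 1), (116, false, 3, 78, 116, 1), (117, false, 3, 78, 117, 1), (122, true, 7, 66, 121, 0), (123, true, 7, 70, 121, 0), (124, true, 7, 75, 121, 0), (125, true, 7, 96, 121, 0)]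
def tRow8 : List (ℕ × Bool × ℕ × ℕ × ℕ × ℕ) := [(25, false, 1, 84, 25, 1), (41, false, 0, 100, 41, 1), (45, false, 0, 100, 45, 1), (47, false, 0, 100, 47, 1), (59, false, 0, 100, 59, 1), (64, false, 0, 100, 64, 1), (65, false, 0, 100, 65, 1), (69, false, 0, 100, 69, 1), (71, false, 0, 100, 71, 1), (72, false, 0, 100, 72, 1), (74, false, 0, 100, 74, 1), (76, false, 0, 100, 76, 1), (77, false, 0, 100, 77, 1), (88, false, 0, 100, 88, 1), (89, false, 0, 100, 89, 1), (92, false, 0, 100, 92, 1), (95, false, 1, 84, 95, 1), (97, false, 1, 84, 97, 1), (98, false, 1, 84, 98, 1), (104, false, 1, 84, 104, 1), (105, false, 1, 84, 105, 1), (108, false, 1, 84, 108, 1), (110, false, 2, 80, 110, 1), (111, false, 2, 80, 111, 1), (114, false, 2, 80, 114, 1), (115, false, 4, 78, 115, 1), (116, false, 4, 78, 116, 1), (118, false, 4, 78, 118, 1), (121, false, 7, 66, 121, 1), (123, true, 8, 69, 122, 0), (124, true, 8, 74, 122, 0), (125, true, 8, 95, 122, 0)]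
def tRow9 : List (ℕ × Bool × ℕ × ℕ × ℕ × ℕ) := [(24, false, 1, 85, 24, 1), (40, false, 0, 101, 40, 1), (44, false, 0, 101, 44, 1), (47, false, 0, 101, 47, 1), (58, false, 0, 101, 58, 1), (61, false, 0, 101, 61, 1), (63, false, 0, 101, 63, 1), (69, false, 0, 101, 69, 1), (70, false, 0, 101, 70, 1), (72, false, 0, 101, 72, 1), (74, false, 0, 101, 74, 1), (75, false, 0, 101, 75, 1), (77, false, 0, 101, 77, 1), (87, false, 0, 101, 87, 1), (89, false, 0, 101, 89, 1), (91, false, 0, 101, 91, 1), (95, false, 1, 85, 95, 1), (96, false, 1, 85, 96, 1), (98, false, 1, 85, 98, 1), (103, false, 1, 85, 103, 1), (105, false, 1, 85, 105, 1), (107, false, 1, 85, 107, 1), (109, false, 2, 81, 109, 1), (111, false, 2, 81, 111, 1), (113, false, 2, 81, 113, 1), (115, false, 5, 78, 115, 1), (117, false, 5, 78, 117, 1), (118, false, 5, 78, 118, 1), (120, false, 7, 67, 120, 1), (123, true, 9, 69, 122, 0), (124, true, 9, 74, 122, 0), (125, true, 9, 95, 122, 0)]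
def tRow10 : List (ℕ × Bool × ℕ × ℕ × ℕ × ℕ) := [(23, false, 1, 86, 23, 1), (39, false, 0, 102, 39, 1), (43, false, 0, 102, 43, 1), (47, false, 0, 102, 47, 1), (57, false, 0, 102, 57, 1), (60, false, 0, 102, 60, 1), (62, false, 0, 102, 62, 1), (69, false, 0, 102, 69, 1), (70, false, 0, 102, 70, 1), (71, false, 0, 102, 71, 1), (74, false, 0, 102, 74, 1), (75, false, 0, 102, 75, 1), (76, false, 0, 102, 76, 1), (87, false, 0, 102, 87, 1), (88, false, 0, 102, 88, 1), (90, false, 0, 102, 90, 1), (95, false, 1, 86, 95, 1), (96, false, 1, 86, 96, 1), (97, false, 1, 86, 97, 1), (103, false, 1, 86, 103, 1), (104, false, 1, 86, 104, 1), (106, false, 1, 86, 106, 1), (109, false, 2, 82, 109, 1), (110, false, 2, 82, 110, 1), (112, false, 2, 82, 112, 1), (116, false, 6, 78, 116, 1), (117, false, 6, 78, 117, 1), (118, false, 6, 78, 118, 1), (119, false, 7, 68, 119, 1), (123, true, 10, 69, 122, 0), (124, true, 10, 74, 122, 0), (125, true, 10, 95, 122, 0)]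
def tRow11 : List (ℕ × Bool × ℕ × ℕ × ℕ × ℕ) := [(22, false, 1, 87, 22, 1), (38, false, 0, 103, 38, 1), (45, false, 0, 103, 45, 1), (46, false, 0, 103, 46, 1), (55, false, 0, 103, 55, 1), (56, false, 0, 103, 56, 1), (64, false, 0, 103, 64, 1), (65, false, 0, 103, 65, 1), (67, false, 0, 103, 67, 1), (68, false, 0, 103, 68, 1), (73, false, 0, 103, 73, 1), (76, false, 0, 103, 76, 1), (77, false, 0, 103, 77, 1), (85, false, 0, 103, 85, 1), (86, false, 0, 103, 86, 1), (92, false, 0, 103, 92, 1), (94, false, 1, 87, 94, 1), (97, false, 1, 87, 97, 1), (98, false, 1, 87, 98, 1), (101, false, 1, 87, 101, 1), (102, false, 1, 87, 102, 1), (108, false, 1, 87, 108, 1), (110, false, 3, 80, 110, 1), (111, false, 3, 80, 111, 1), (112, false, 4, 79, 112, 1), (113, false, 4, 79, 113, 1), (117, false, 3, 80, 117, 1), (118, false, 4, 79, 118, 1), (121, false, 7, 70, 121, 1), (122, false, 8, 69, 122, 1), (124, true, 11, 73, 123, 0), (125, true, 11, 94, 123, 0)]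
def tRow12 : List (ℕ × Bool × ℕ × ℕ × ℕ × ℕ) := [(21, false, 1, 88, 21, 1), (37, false, 0, 104, 37, 1), (44, false, 0, 104, 44, 1), (46, false, 0, 104, 46, 1), (54, false, 0, 104, 54, 1), (56, false, 0, 104, 56, 1), (61, false, 0, 104, 61, 1), (63, false, 0, 104, 63, 1), (66, false, 0, 104, 66, 1), (68, false, 0, 104, 68, 1), (73, false, 0, 104, 73, 1), (75, false, 0, 104, 75, 1), (77, false, 0, 104, 77, 1), (84, false, 0, 104, 84, 1), (86, false, 0, 104, 86, 1), (91, false, 0, 104, 91, 1), (94, false, 1, 88, 94, 1), (96, false, 1, 88, 96, 1), (98, false, 1, 88, 98, 1), (100, false, 1, 88, 100, 1), (102, false, 1, 88, 102, 1), (107, false, 1, 88, 107, 1), (109, false, 3, 81, 109, 1), (111, false, 3, 81, 111, 1), (112, false, 5, 79, 112, 1), (114, false, 5, 79, 114, 1), (116, false, 3, 81, 116, 1), (118, false, 5, 79, 118, 1), (120, false, 7, 71, 120, 1), (122, false, 9, 69, 122, 1), (124, true, 12, 73, 123, 0), (125, true, 12, 94, 123, 0)]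
def tRow13 : List (ℕ × Bool × ℕ × ℕ × ℕ × ℕ) := [(20, false, 1, 89, 20, 1), (36, false, 0, 105, 36, 1), (43, false, 0, 105, 43, 1), (46, false, 0, 105, 46, 1), (53, false, 0, 105, 53, 1), (56, false, 0, 105, 56, 1), (60, false, 0, 105, 60, 1), (62, false, 0, 105, 62, 1), (66, false, 0, 105, 66, 1), (67, false, 0, 105, 67, 1), (73, false, 0, 105, 73, 1), (75, false, 0, 105, 75, 1), (76, false, 0, 105, 76, 1), (84, false, 0, 105, 84, 1), (85, false, 0, 105, 85, 1), (90, false, 0, 105, 90, 1), (94, false, 1, 89, 94, 1), (96, false, 1, 89, 96, 1), (97, false, 1, 89, 97, 1), (100, false, 1, 89, 100, 1), (101, false, 1, 89, 101, 1), (106, false, 1, 89, 106, 1), (109, false, 3, 82, 109, 1), (110, false, 3, 82, 110, 1), (113, false, 6, 79, 113, 1), (114, false, 6, 79, 114, 1), (115, false, 3, 82, 115, 1), (118, false, 6, 79, 118, 1), (119, false, 7, 72, 119, 1), (122, false, 10, 69, 122, 1), (124, true, 13, 73, 123, 0), (125, true, 13, 94, 123, 0)]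
def tRow14 : List (ℕ × Bool × ℕ × ℕ × ℕ × ℕ) := [(19, false, 1, 90, 19, 1), (35, false, 0, 106, 35, 1), (44, false, 0, 106, 44, 1), (45, false, 0, 106, 45, 1), (54, false, 0, 106, 54, 1), (55, false, 0, 106, 55, 1), (58, false, 0, 106, 58, 1), (59, false, 0, 106, 59, 1), (63, false, 0, 106, 63, 1), (65, false, 0, 106, 65, 1), (73, false, 0, 106, 73, 1), (74, false, 0, 106, 74, 1), (77, false, 0, 106, 77, 1), (83, false, 0, 106, 83, 1), (86, false, 0, 106, 86, 1), (89, false, 0, 106, 89, 1), (94, false, 1, 90, 94, 1), (95, false, 1, 90, 95, 1), (98, false, 1, 90, 98, 1), (99, false, 1, 90, 99, 1), (102, false, 1, 90, 102, 1), (105, false, 1, 90, 105, 1), (109, false, 4, 81, 109, 1), (110, false, 5, 80, 110, 1), (113, false, 4, 81, 113, 1), (114, false, 5, 80, 114, 1), (116, false, 4, 81, 116, 1), (117, false, 5, 80, 117, 1), (120, false, 8, 71, 120, 1), (121, false, 9, 70, 121, 1), (124, true, 14, 73, 123, 0), (125, true, 14, 94, 123, 0)]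
def tRow15 : List (ℕ × Bool × ℕ × ℕ × ℕ × ℕ) := [(18, false, 1, 91, 18, 1), (34, false, 0, 107, 34, 1), (43, false, 0, 107, 43, 1), (45, false, 0, 107, 45, 1), (53, false, 0, 107, 53, 1), (55, false, 0, 107, 55, 1), (57, false, 0, 107, 57, 1), (59, false, 0, 107, 59, 1), (62, false, 0, 107, 62, 1), (64, false, 0, 107, 64, 1), (73, false, 0, 107, 73, 1), (74, false, 0, 107, 74, 1), (76, false, 0, 107, 76, 1), (83, false, 0, 107, 83, 1), (85, false, 0, 107, 85, 1), (88, false, 0, 107, 88, 1), (94, false, 1, 91, 94, 1), (95, false, 1, 91, 95, 1), (97, false, 1, 91, 97, 1), (99, false, 1, 91, 99, 1), (101, false, 1, 91, 101, 1), (104, false, 1, 91, 104, 1), (109, false, 4, 82, 109, 1), (111, false, 6, 80, 111, 1), (112, false, 4, 82, 112, 1), (114, false, 6, 80, 114, 1), (115, false, 4, 82, 115, 1), (117, false, 6, 80, 117, 1), (119, false, 8, 72, 119, 1), (121, false, 10, 70, 121, 1), (124, true, 15, 73, 123, 0), (125, true, 15, 94, 123, 0)]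
def tRow16 : List (ℕ × Bool × ℕ × ℕ × ℕ × ℕ) := [(17, false, 1, 92, 17, 1), (33, false, 0, 108, 33, 1), (43, false, 0, 108, 43, 1), (44, false, 0, 108, 44, 1), (53, false, 0, 108, 53, 1), (54, false, 0, 108, 54, 1), (57, false, 0, 108, 57, 1), (58, false, 0, 108, 58, 1), (60, false, 0, 108, 60, 1), (61, false, 0, 108, 61, 1), (73, false, 0, 108, 73, 1), (74, false, 0, 108, 74, 1), (75, false, 0, 108, 75, 1), (83, false, 0, 108, 83, 1), (84, false, 0, 108, 84, 1), (87, false, 0, 108, 87, 1), (94, false, 1, 92, 94, 1), (95, false, 1, 92, 95, 1), (96, false, 1, 92, 96, 1), (99, false, 1, 92, 99, 1), (100, false, 1, 92, 100, 1), (103, false, 1, 92, 103, 1), (110, false, 5, 82, 110, 1), (111, false, 6, 81, 111, 1), (112, false, 5, 82, 112, 1), (113, false, 6, 81, 113, 1), (115, false, 5, 82, 115, 1), (116, false, 6, 81, 116, 1), (119, false, 9, 72, 119, 1), (120, false, 10, 71, 120, 1), (124, true, 16, 73, 123, 0), (125, true, 16, 94, 123, 0)]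
def tRow17 : List (ℕ × Bool × ℕ × ℕ × ℕ × ℕ) := [(16, false, 2, 87, 16, 2), (38, false, 0, 109, 38, 1), (41, false, 0, 109, 41, 1), (42, false, 0, 109, 42, 1), (50, false, 0, 109, 50, 1), (51, false, 0, 109, 51, 1), (52, false, 0, 109, 52, 1), (64, false, 0, 109, 64, 1), (65, false, 0, 109, 65, 1), (67, false, 0, 109, 67, 1), (68, false, 0, 109, 68, 1), (71, false, 0, 109, 71, 1), (72, false, 0, 109, 72, 1), (81, false, 0, 109, 81, 1), (82, false, 0, 109, 82, 1), (92, false, 0, 109, 92, 1), (93, false, 2, 87, 93, 2), (97, false, 2, 87, 97, 1), (98, false, 2, 87, 98, 1), (101, false, 2, 87, 101, 1), (102, false, 2, 87, 102, 1), (104, false, 3, 84, 104, 1), (105, false, 3, 84, 105, 1), (106, false, 4, 83, 106, 1), (107, false, 4, 83, 107, 1), (114, false, 2, 87, 114, 1), (117, false, 3, 84, 117, 1), (118, false, 4, 83, 118, 1), (121, false, 7, 75, 121, 1), (122, false, 8, 74, 122, 1), (123, false, 11, 73, 123, 1), (125, true, 17, 93, 124, 0)]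
def tRow18 : List (ℕ × Bool × ℕ × ℕ × ℕ × ℕ) := [(15, false, 2, 88, 15, 2), (37, false, 0, 110, 37, 1), (40, false, 0, 110, 40, 1), (42, false, 0, 110, 42, 1), (49, false, 0, 110, 49, 1), (51, false, 0, 110, 51, 1), (52, false, 0, 110, 52, 1), (61, false, 0, 110, 61, 1), (63, false, 0, 110, 63, 1), (66, false, 0, 110, 66, 1), (68, false, 0, 110, 68, 1), (70, false, 0, 110, 70, 1), (72, false, 0, 110, 72, 1), (80, false, 0, 110, 80, 1), (82, false, 0, 110, 82, 1), (91, false, 0, 110, 91, 1), (93, false, 2, 88, 93, 2), (96, false, 2, 88, 96, 1), (98, false, 2, 88, 98, 1), (100, false, 2, 88, 100, 1), (102, false, 2, 88, 102, 1), (103, false, 3, 85, 103, 1), (105, false, 3, 85, 105, 1), (106, false, 5, 83, 106, 1), (108, false, 5, 83, 108, 1), (113, false, 2, 88, 113, 1), (116, false, 3, 85, 116, 1), (118, false, 5, 83, 118, 1), (120, false, 7, 76, 120, 1), (122, false, 9, 74, 122, 1), (123, false, 12, 73, 123, 1), (125, true, 18, 93, 124, 0)]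
def tRow19 : List (ℕ × Bool × ℕ × ℕ × ℕ × ℕ) := [(14, false, 2, 89, 14, 2), (36, false, 0, 111, 36, 1), (39, false, 0, 111, 39, 1), (42, false, 0, 111, 42, 1), (48, false, 0, 111, 48, 1), (51, false, 0, 111, 51, 1), (52, false, 0, 111, 52, 1), (60, false, 0, 111, 60, 1), (62, false, 0, 111, 62, 1), (66, false, 0, 111, 66, 1), (67, false, 0, 111, 67, 1), (70, false, 0, 111, 70, 1), (71, false, 0, 111, 71, 1), (80, false, 0, 111, 80, 1), (81, false, 0, 111, 81, 1), (90, false, 0, 111, 90, 1), (93, false, 2, 89, 93, 2), (96, false, 2, 89, 96, 1), (97, false, 2, 89, 97, 1), (100, false, 2, 89, 100, 1), (101, false, 2, 89, 101, 1), (103, false, 3, 86, 103, 1), (104, false, 3, 86, 104, 1), (107, false, 6, 83, 107, 1), (108, false, 6, 83, 108, 1), (112, false, 2, 89, 112, 1), (115, false, 3, 86, 115, 1), (118, false, 6, 83, 118, 1), (119, false, 7, 77, 119, 1), (122, false, 10, 74, 122, 1), (123, false, 13, 73, 123, 1), (125, true, 19, 93, 124, 0)]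
def tRow20 : List (ℕ × Bool × ℕ × ℕ × ℕ × ℕ) := [(13, false, 2, 90, 13, 2), (35, false, 0, 112, 35, 1), (40, false, 0, 112, 40, 1), (41, false, 0, 112, 41, 1), (49, false, 0, 112, 49, 1), (50, false, 0, 112, 50, 1), (52, false, 0, 112, 52, 1), (58, false, 0, 112, 58, 1), (59, false, 0, 112, 59, 1), (63, false, 0, 112, 63, 1), (65, false, 0, 112, 65, 1), (69, false, 0, 112, 69, 1), (72, false, 0, 112, 72, 1), (79, false, 0, 112, 79, 1), (82, false, 0, 112, 82, 1), (89, false, 0, 112, 89, 1), (93, false, 2, 90, 93, 2), (95, false, 2, 90, 95, 1), (98, false, 2, 90, 98, 1), (99, false, 2, 90, 99, 1), (102, false, 2, 90, 102, 1), (103, false, 4, 85, 103, 1), (104, false, 5, 84, 104, 1), (107, false, 4, 85, 107, 1), (108, false, 5, 84, 108, 1), (111, false, 2, 90, 111, 1), (116, false, 4, 85, 116, 1), (117, false, 5, 84, 117, 1), (120, false, 8, 76, 120, 1), (121, false, 9, 75, 121, 1), (123, false, 14, 73, 123, 1), (125, true, 20, 93, 124, 0)]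
def tRow21 : List (ℕ × Bool × ℕ × ℕ × ℕ × ℕ) := [(12, false, 2, 91, 12, 2), (34, false, 0, 113, 34, 1), (39, false, 0, 113, 39, 1), (41, false, 0, 113, 41, 1), (48, false, 0, 113, 48, 1), (50, false, 0, 113, 50, 1), (52, false, 0, 113, 52, 1), (57, false, 0, 113, 57, 1), (59, false, 0, 113, 59, 1), (62, false, 0, 113, 62, 1), (64, false, 0, 113, 64, 1), (69, false, 0, 113, 69, 1), (71, false, 0, 113, 71, 1), (79, false, 0, 113, 79, 1), (81, false, 0, 113, 81, 1), (88, false, 0, 113, 88, 1), (93, false, 2, 91, 93, 2), (95, false, 2, 91, 95, 1), (97, false, 2, 91, 97, 1), (99, false, 2, 91, 99, 1), (101, false, 2, 91, 101, 1), (103, false, 4, 86, 103, 1), (105, false, 6, 84, 105, 1), (106, false, 4, 86, 106, 1), (108, false, 6, 84, 108, 1), (110, false, 2, 91, 110, 1), (115, false, 4, 86, 115, 1), (117, false, 6, 84, 117, 1), (119, false, 8, 77, 119, 1), (121, false, 10, 75, 121, 1), (123, false, 15, 73, 123, 1), (125, true, 21, 93, 124, 0)]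
def tRow22 : List (ℕ × Bool × ℕ × ℕ × ℕ × ℕ) := [(11, false, 2, 92, 11, 2), (33, false, 0, 114, 33, 1), (39, false, 0, 114, 39, 1), (40, false, 0, 114, 40, 1), (48, false, 0, 114, 48, 1), (49, false, 0, 114, 49, 1), (52, false, 0, 114, 52, 1), (57, false, 0, 114, 57, 1), (58, false, 0, 114, 58, 1), (60, false, 0, 114, 60, 1), (61, false, 0, 114, 61, 1), (69, false, 0, 114, 69, 1), (70, false, 0, 114, 70, 1), (79, false, 0, 114, 79, 1), (80, false, 0, 114, 80, 1), (87, false, 0, 114, 87, 1), (93, false, 2, 92, 93, 2), (95, false, 2, 92, 95, 1), (96, false, 2, 92, 96, 1), (99, false, 2, 92, 99, 1), (100, false, 2, 92, 100, 1), (104, false, 5, 86, 104, 1), (105, false, 6, 85, 105, 1), (106, false, 5, 86, 106, 1), (107, false, 6, 85, 107, 1), (109, false, 2, 92, 109, 1), (115, false, 5, 86, 115, 1), (116, false, 6, 85, 116, 1), (119, false, 9, 77, 119, 1), (120, false, 10, 76, 120, 1), (123, false, 16, 73, 123, 1), (125, true, 22, 93, 124, 0)]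
def tRow23 : List (ℕ × Bool × ℕ × ℕ × ℕ × ℕ) := [(10, false, 3, 90, 10, 2), (35, false, 0, 115, 35, 1), (37, false, 0, 115, 37, 1), (38, false, 0, 115, 38, 1), (49, false, 0, 115, 49, 1), (50, false, 0, 115, 50, 1), (51, false, 0, 115, 51, 1), (54, false, 0, 115, 54, 1), (55, false, 0, 115, 55, 1), (56, false, 0, 115, 56, 1), (63, false, 0, 115, 63, 1), (65, false, 0, 115, 65, 1), (68, false, 0, 115, 68, 1), (78, false, 0, 115, 78, 1), (82, false, 0, 115, 82, 1), (86, false, 0, 115, 86, 1), (93, false, 3, 90, 93, 2), (94, false, 3, 90, 94, 2), (98, false, 3, 90, 98, 1), (99, false, 3, 90, 99, 1), (100, false, 4, 88, 100, 1), (101, false, 5, 87, 101, 1), (105, false, 3, 90, 105, 1), (107, false, 4, 88, 107, 1), (108, false, 5, 87, 108, 1), (111, false, 3, 90, 111, 1), (113, false, 4, 88, 113, 1), (114, false, 5, 87, 114, 1), (120, false, 11, 76, 120, 1), (121, false, 12, 75, 121, 1), (122, false, 14, 74, 122, 1), (125, true, 23, 93, 124, 0)]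
def tRow24 : List (ℕ × Bool × ℕ × ℕ × ℕ × ℕ) := [(9, false, 3, 91, 9, 2), (34, false, 0, 116, 34, 1), (36, false, 0, 116, 36, 1), (38, false, 0, 116, 38, 1), (48, false, 0, 116, 48, 1), (50, false, 0, 116, 50, 1), (51, false, 0, 116, 51, 1), (53, false, 0, 116, 53, 1), (55, false, 0, 116, 55, 1), (56, false, 0, 116, 56, 1), (62, false, 0, 116, 62, 1), (64, false, 0, 116, 64, 1), (67, false, 0, 116, 67, 1), (78, false, 0, 116, 78, 1), (81, false, 0, 116, 81, 1), (85, false, 0, 116, 85, 1), (93, false, 3, 91, 93, 2), (94, false, 3, 91, 94, 2), (97, false, 3, 91, 97, 1), (99, false, 3, 91, 99, 1), (100, false, 4, 89, 100, 1), (102, false, 6, 87, 102, 1), (104, false, 3, 91, 104, 1), (106, false, 4, 89, 106, 1), (108, false, 6, 87, 108, 1), (110, false, 3, 91, 110, 1), (112, false, 4, 89, 112, 1), (114, false, 6, 87, 114, 1), (119, false, 11, 77, 119, 1), (121, false, 13, 75, 121, 1), (122, false, 15, 74, 122, 1), (125, true, 24, 93, 124, 0)]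
def tRow25 : List (ℕ × Bool × ℕ × ℕ × ℕ × ℕ) := [(8, false, 3, 92, 8, 2), (33, false, 0, 117, 33, 1), (36, false, 0, 117, 36, 1), (37, false, 0, 117, 37, 1), (48, false, 0, 117, 48, 1), (49, false, 0, 117, 49, 1), (51, false, 0, 117, 51, 1), (53, false, 0, 117, 53, 1), (54, false, 0, 117, 54, 1), (56, false, 0, 117, 56, 1), (60, false, 0, 117, 60, 1), (61, false, 0, 117, 61, 1), (66, false, 0, 117, 66, 1), (78, false, 0, 117, 78, 1), (80, false, 0, 117, 80, 1), (84, false, 0, 117, 84, 1), (93, false, 3, 92, 93, 2), (94, false, 3, 92, 94, 2), (96, false, 3, 92, 96, 1), (99, false, 3, 92, 99, 1), (101, false, 5, 89, 101, 1), (102, false, 6, 88, 102, 1), (103, false, 3, 92, 103, 1), (106, false, 5, 89, 106, 1), (107, false, 6, 88, 107, 1), (109, false, 3, 92, 109, 1), (112, false, 5, 89, 112, 1), (113, false, 6, 88, 113, 1), (119, false, 12, 77, 119, 1), (120, false, 13, 76, 120, 1), (122, false, 16, 74, 122, 1), (125, true, 25, 93, 124, 0)]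
def tRow26 : List (ℕ × Bool × ℕ × ℕ × ℕ × ℕ) := [(7, false, 4, 92, 7, 2), (33, false, 0, 118, 33, 1), (34, false, 0, 118, 34, 1), (35, false, 0, 118, 35, 1), (48, false, 0, 118, 48, 1), (49, false, 0, 118, 49, 1), (50, false, 0, 118, 50, 1), (53, false, 0, 118, 53, 1), (54, false, 0, 118, 54, 1), (55, false, 0, 118, 55, 1), (57, false, 0, 118, 57, 1), (58, false, 0, 118, 58, 1), (59, false, 0, 118, 59, 1), (78, false, 0, 118, 78, 1), (79, false, 0, 118, 79, 1), (83, false, 0, 118, 83, 1), (93, false, 4, 92, 93, 2), (94, false, 4, 92, 94, 2), (95, false, 4, 92, 95, 2), (100, false, 4, 92, 100, 1), (101, false, 5, 91, 101, 1), (102, false, 6, 90, 102, 1), (103, false, 4, 92, 103, 1), (104, false, 5, 91, 104, 1), (105, false, 6, 90, 105, 1), (109, false, 4, 92, 109, 1), (110, false, 5, 91, 110, 1), (111, false, 6, 90, 111, 1), (119, false, 14, 77, 119, 1), (120, false, 15, 76, 120, 1), (121, false, 16, 75, 121, 1), (125, true, 26, 93, 124, 0)]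
def tRow27 : List (ℕ × Bool × ℕ × ℕ × ℕ × ℕ) := [(6, false, 7, 90, 6, 2), (35, false, 0, 119, 35, 1), (37, false, 0, 119, 37, 1), (38, false, 0, 119, 38, 1), (40, false, 0, 119, 40, 1), (41, false, 0, 119, 41, 1), (42, false, 0, 119, 42, 1), (44, false, 0, 119, 44, 1), (45, false, 0, 119, 45, 1), (46, false, 0, 119, 46, 1), (47, false, 0, 119, 47, 1), (63, false, 0, 119, 63, 1), (65, false, 0, 119, 65, 1), (68, false, 0, 119, 68, 1), (72, false, 0, 119, 72, 1), (77, false, 0, 119, 77, 1), (93, false, 7, 90, 93, 2), (94, false, 7, 90, 94, 2), (95, false, 7, 90, 95, 2), (96, false, 8, 88, 96, 2), (97, false, 9, 87, 97, 2), (102, false, 7, 90, 102, 1), (105, false, 7, 90, 105, 1), (107, false, 8, 88, 107, 1), (108, false, 9, 87, 108, 1), (111, false, 7, 90, 111, 1), (113, false, 8, 88, 113, 1), (114, false, 9, 87, 114, 1), (116, false, 11, 85, 116, 1), (117, false, 12, 84, 117, 1), (118, false, 14, 83, 118, 1), (125, true, 27, 93, 124, 0)]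
def tRow28 : List (ℕ × Bool × ℕ × ℕ × ℕ × ℕ) := [(5, false, 7, 91, 5, 2), (34, false, 0, 120, 34, 1), (36, false, 0, 120, 36, 1), (38, false, 0, 120, 38, 1), (39, false, 0, 120, 39, 1), (41, false, 0, 120, 41, 1), (42, false, 0, 120, 42, 1), (43, false, 0, 120, 43, 1), (45, false, 0, 120, 45, 1), (46, false, 0, 120, 46, 1), (47, false, 0, 120, 47, 1), (62, false, 0, 120, 62, 1), (64, false, 0, 120, 64, 1), (67, false, 0, 120, 67, 1), (71, false, 0, 120, 71, 1), (76, false, 0, 120, 76, 1), (93, false, 7, 91, 93, 2), (94, false, 7, 91, 94, 2), (95, false, 7, 91, 95, 2), (96, false, 8, 89, 96, 2), (98, false, 10, 87, 98, 2), (101, false, 7, 91, 101, 1), (104, false, 7, 91, 104, 1), (106, false, 8, 89, 106, 1), (108, false, 10, 87, 108, 1), (110, false, 7, 91, 110, 1), (112, false, 8, 89, 112, 1), (114, false, 10, 87, 114, 1), (115, false, 11, 86, 115, 1), (117, false, 13, 84, 117, 1), (118, false, 15, 83, 118, 1), (125, true, 28, 93, 124, 0)]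
def tRow29 : List (ℕ × Bool × ℕ × ℕ × ℕ × ℕ) := [(4, false, 7, 92, 4, 2), (33, false, 0, 121, 33, 1), (36, false, 0, 121, 36, 1), (37, false, 0, 121, 37, 1), (39, false, 0, 121, 39, 1), (40, false, 0, 121, 40, 1), (42, false, 0, 121, 42, 1), (43, false, 0, 121, 43, 1), (44, false, 0, 121, 44, 1), (46, false, 0, 121, 46, 1), (47, false, 0, 121, 47, 1), (60, false, 0, 121, 60, 1), (61, false, 0, 121, 61, 1), (66, false, 0, 121, 66, 1), (70, false, 0, 121, 70, 1), (75, false, 0, 121, 75, 1), (93, false, 7, 92, 93, 2), (94, false, 7, 92, 94, 2), (95, false, 7, 92, 95, 2), (97, false, 9, 89, 97, 2), (98, false, 10, 88, 98, 2), (100, false, 7, 92, 100, 1), (103, false, 7, 92, 103, 1), (106, false, 9, 89, 106, 1), (107, false, 10, 88, 107, 1), (109, false, 7, 92, 109, 1), (112, false, 9, 89, 112, 1), (113, false, 10, 88, 113, 1), (115, false, 12, 86, 115, 1), (116, false, 13, 85, 116, 1), (118, false, 16, 83, 118, 1), (125, true, 29, 93, 124, 0)]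
def tRow30 : List (ℕ × Bool × ℕ × ℕ × ℕ × ℕ) := [(3, false, 8, 92, 3, 2), (33, false, 0, 122, 33, 1), (34, false, 0, 122, 34, 1), (35, false, 0, 122, 35, 1), (39, false, 0, 122, 39, 1), (40, false, 0, 122, 40, 1), (41, false, 0, 122, 41, 1), (43, false, 0, 122, 43, 1), (44, false, 0, 122, 44, 1), (45, false, 0, 122, 45, 1), (47, false, 0, 122, 47, 1), (57, false, 0, 122, 57, 1), (58, false, 0, 122, 58, 1), (59, false, 0, 122, 59, 1), (69, false, 0, 122, 69, 1), (74, false, 0, 122, 74, 1), (93, false, 8, 92, 93, 2), (94, false, 8, 92, 94, 2), (96, false, 8, 92, 96, 2), (97, false, 9, 91, 97, 2), (98, false, 10, 90, 98, 2), (99, false, 8, 92, 99, 2), (103, false, 8, 92, 103, 1), (104, false, 9, 91, 104, 1), (105, false, 10, 90, 105, 1), (109, false, 8, 92, 109, 1), (110, false, 9, 91, 110, 1), (111, false, 10, 90, 111, 1), (115, false, 14, 86, 115, 1), (116, false, 15, 85, 116, 1), (117, false, 16, 84, 117, 1), (125, true, 30, 93, 124, 0)]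
def tRow31 : List (ℕ × Bool × ℕ × ℕ × ℕ × ℕ) := [(2, false, 11, 92, 2, 2), (33, false, 0, 123, 33, 1), (34, false, 0, 123, 34, 1), (35, false, 0, 123, 35, 1), (36, false, 0, 123, 36, 1), (37, false, 0, 123, 37, 1), (38, false, 0, 123, 38, 1), (43, false, 0, 123, 43, 1), (44, false, 0, 123, 44, 1), (45, false, 0, 123, 45, 1), (46, false, 0, 123, 46, 1), (53, false, 0, 123, 53, 1), (54, false, 0, 123, 54, 1), (55, false, 0, 123, 55, 1), (56, false, 0, 123, 56, 1), (73, false, 0, 123, 73, 1), (93, false, 11, 92, 93, 2), (95, false, 11, 92, 95, 2), (96, false, 11, 92, 96, 2), (97, false, 12, 91, 97, 2), (98, false, 13, 90, 98, 2), (99, false, 11, 92, 99, 2), (100, false, 11, 92, 100, 2), (101, false, 12, 91, 101, 2), (102, false, 13, 90, 102, 2), (109, false, 11, 92, 109, 1), (110, false, 12, 91, 110, 1), (111, false, 13, 90, 111, 1), (112, false, 14, 89, 112, 1), (113, false, 15, 88, 113, 1), (114, false, 16, 87, 114, 1), (125, true, 31, 93, 124, 0)]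
def tRow32 : List (ℕ × Bool × ℕ × ℕ × ℕ × ℕ) := [(1, false, 17, 92, 1, 3), (33, false, 0, 124, 33, 1), (34, false, 0, 124, 34, 1), (35, false, 0, 124, 35, 1), (36, false, 0, 124, 36, 1), (37, false, 0, 124, 37, 1), (38, false, 0, 124, 38, 1), (39, false, 0, 124, 39, 1), (40, false, 0, 124, 40, 1), (41, false, 0, 124, 41, 1), (42, false, 0, 124, 42, 1), (48, false, 0, 124, 48, 1), (49, false, 0, 124, 49, 1), (50, false, 0, 124, 50, 1), (51, false, 0, 124, 51, 1), (52, false, 0, 124, 52, 1), (94, false, 17, 92, 94, 2), (95, false, 17, 92, 95, 2), (96, false, 17, 92, 96, 2), (97, false, 18, 91, 97, 2), (98, false, 19, 90, 98, 2), (99, false, 17, 92, 99, 2), (100, false, 17, 92, 100, 2), (101, false, 18, 91, 101, 2), (102, false, 19, 90, 102, 2), (103, false, 17, 92, 103, 2), (104, false, 18, 91, 104, 2), (105, false, 19, 90, 105, 2), (106, false, 20, 89, 106, 2), (107, false, 21, 88, 107, 2), (108, false, 22, 87, 108, 2), (125, true, 32, 94, 123, 0)]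
def tRow33 : List (ℕ × Bool × ℕ × ℕ × ℕ × ℕ) := [(16, false, 2, 103, 16, 2), (22, false, 1, 109, 22, 2), (25, false, 1, 109, 25, 2), (26, false, 1, 109, 26, 2), (29, false, 1, 109, 29, 2), (30, false, 1, 109, 30, 2), (31, false, 1, 109, 31, 2), (32, false, 2, 103, 32, 2), (64, false, 1, 109, 64, 1), (65, false, 1, 109, 65, 1), (67, false, 1, 109, 67, 1), (68, false, 1, 109, 68, 1), (71, false, 1, 109, 71, 1), (72, false, 1, 109, 72, 1), (76, false, 2, 103, 76, 1), (77, false, 2, 103, 77, 1), (81, false, 1, 109, 81, 1), (82, false, 1, 109, 82, 1), (85, false, 2, 103, 85, 1), (86, false, 2, 103, 86, 1), (88, false, 3, 100, 88, 1), (89, false, 3, 100, 89, 1), (90, false, 4, 99, 90, 1), (91, false, 4, 99, 91, 1), (108, false, 1, 109, 108, 1), (114, false, 2, 103, 114, 1), (117, false, 3, 100, 117, 1), (118, false, 4, 99, 118, 1), (121, false, 7, 96, 121, 1), (122, false, 8, 95, 122, 1), (123, false, 11, 94, 123, 1), (124, false, 17, 93, 124, 1)]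
def tRow34 : List (ℕ × Bool × ℕ × ℕ × ℕ × ℕ) := [(15, false, 2, 104, 15, 2), (21, false, 1, 110, 21, 2), (24, false, 1, 110, 24, 2), (26, false, 1, 110, 26, 2), (28, false, 1, 110, 28, 2), (30, false, 1, 110, 30, 2), (31, false, 1, 110, 31, 2), (32, false, 2, 104, 32, 2), (61, false, 1, 110, 61, 1), (63, false, 1, 110, 63, 1), (66, false, 1, 110, 66, 1), (68, false, 1, 110, 68, 1), (70, false, 1, 110, 70, 1), (72, false, 1, 110, 72, 1), (75, false, 2, 104, 75, 1), (77, false, 2, 104, 77, 1), (80, false, 1, 110, 80, 1), (82, false, 1, 110, 82, 1), (84, false, 2, 104, 84, 1), (86, false, 2, 104, 86, 1), (87, false, 3, 101, 87, 1), (89, false, 3, 101, 89, 1), (90, false, 5, 99, 90, 1), (92, false, 5, 99, 92, 1), (107, false, 1, 110, 107, 1), (113, false, 2, 104, 113, 1), (116, false, 3, 101, 116, 1), (118, false, 5, 99, 118, 1), (120, false, 7, 97, 120, 1), (122, false, 9, 95, 122, 1), (123, false, 12, 94, 123, 1), (124, false, 18, 93, 124, 1)]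
def tRow35 : List (ℕ × Bool × ℕ × ℕ × ℕ × ℕ) := [(14, false, 2, 105, 14, 2), (20, false, 1, 111, 20, 2), (23, false, 1, 111, 23, 2), (26, false, 1, 111, 26, 2), (27, false, 1, 111, 27, 2), (30, false, 1, 111, 30, 2), (31, false, 1, 111, 31, 2), (32, false, 2, 105, 32, 2), (60, false, 1, 111, 60, 1), (62, false, 1, 111, 62, 1), (66, false, 1, 111, 66, 1), (67, false, 1, 111, 67, 1), (70, false, 1, 111, 70, 1), (71, false, 1, 111, 71, 1), (75, false, 2, 105, 75, 1), (76, false, 2, 105, 76, 1), (80, false, 1, 111, 80, 1), (81, false, 1, 111, 81, 1), (84, false, 2, 105, 84, 1), (85, false, 2, 105, 85, 1), (87, false, 3, 102, 87, 1), (88, false, 3, 102, 88, 1), (91, false, 6, 99, 91, 1), (92, false, 6, 99, 92, 1), (106, false, 1, 111, 106, 1), (112, false, 2, 105, 112, 1), (115, false, 3, 102, 115, 1), (118, false, 6, 99, 118, 1), (119, false, 7, 98, 119, 1), (122, false, 10, 95, 122, 1), (123, false, 13, 94, 123, 1), (124, false, 19, 93, 124, 1)]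
def tRow36 : List (ℕ × Bool × ℕ × ℕ × ℕ × ℕ) := [(13, false, 2, 106, 13, 2), (19, false, 1, 112, 19, 2), (24, false, 1, 112, 24, 2), (25, false, 1, 112, 25, 2), (28, false, 1, 112, 28, 2), (29, false, 1, 112, 29, 2), (31, false, 1, 112, 31, 2), (32, false, 2, 106, 32, 2), (58, false, 1, 112, 58, 1), (59, false, 1, 112, 59, 1), (63, false, 1, 112, 63, 1), (65, false, 1, 112, 65, 1), (69, false, 1, 112, 69, 1), (72, false, 1, 112, 72, 1), (74, false, 2, 106, 74, 1), (77, false, 2, 106, 77, 1), (79, false, 1, 112, 79, 1), (82, false, 1, 112, 82, 1), (83, false, 2, 106, 83, 1), (86, false, 2, 106, 86, 1), (87, false, 4, 101, 87, 1), (88, false, 5, 100, 88, 1), (91, false, 4, 101, 91, 1), (92, false, 5, 100, 92, 1), (105, false, 1, 112, 105, 1), (111, false, 2, 106, 111, 1), (116, false, 4, 101, 116, 1), (117, false, 5, 100, 117, 1), (120, false, 8, 97, 120, 1), (121, false, 9, 96, 121, 1), (123, false, 14, 94, 123, 1), (124, false, 20, 93, 124, 1)]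
def tRow37 : List (ℕ × Bool × ℕ × ℕ × ℕ × ℕ) := [(12, false, 2, 107, 12, 2), (18, false, 1, 113, 18, 2), (23, false, 1, 113, 23, 2), (25, false, 1, 113, 25, 2), (27, false, 1, 113, 27, 2), (29, false, 1, 113, 29, 2), (31, false, 1, 113, 31, 2), (32, false, 2, 107, 32, 2), (57, false, 1, 113, 57, 1), (59, false, 1, 113, 59, 1), (62, false, 1, 113, 62, 1), (64, false, 1, 113, 64, 1), (69, false, 1, 113, 69, 1), (71, false, 1, 113, 71, 1), (74, false, 2, 107, 74, 1), (76, false, 2, 107, 76, 1), (79, false, 1, 113, 79, 1), (81, false, 1, 113, 81, 1), (83, false, 2, 107, 83, 1), (85, false, 2, 107, 85, 1), (87, false, 4, 102, 87, 1), (89, false, 6, 100, 89, 1), (90, false, 4, 102, 90, 1), (92, false, 6, 100, 92, 1), (104, false, 1, 113, 104, 1), (110, false, 2, 107, 110, 1), (115, false, 4, 102, 115, 1), (117, false, 6, 100, 117, 1), (119, false, 8, 98, 119, 1), (121, false, 10, 96, 121, 1), (123, false, 15, 94, 123, 1), (124, false, 21, 93, 124, 1)]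
def tRow38 : List (ℕ × Bool × ℕ × ℕ × ℕ × ℕ) := [(11, false, 2, 108, 11, 2), (17, false, 1, 114, 17, 2), (23, false, 1, 114, 23, 2), (24, false, 1, 114, 24, 2), (27, false, 1, 114, 27, 2), (28, false, 1, 114, 28, 2), (31, false, 1, 114, 31, 2), (32, false, 2, 108, 32, 2), (57, false, 1, 114, 57, 1), (58, false, 1, 114, 58, 1), (60, false, 1, 114, 60, 1), (61, false, 1, 114, 61, 1), (69, false, 1, 114, 69, 1), (70, false, 1, 114, 70, 1), (74, false, 2, 108, 74, 1), (75, false, 2, 108, 75, 1), (79, false, 1, 114, 79, 1), (80, false, 1, 114, 80, 1), (83, false, 2, 108, 83, 1), (84, false, 2, 108, 84, 1), (88, false, 5, 102, 88, 1), (89, false, 6, 101, 89, 1), (90, false, 5, 102, 90, 1), (91, false, 6, 101, 91, 1), (103, false, 1, 114, 103, 1), (109, false, 2, 108, 109, 1), (115, false, 5, 102, 115, 1), (116, false, 6, 101, 116, 1), (119, false, 9, 98, 119, 1), (120, false, 10, 97, 120, 1), (123, false, 16, 94, 123, 1), (124, false, 22, 93, 124, 1)]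
def tRow39 : List (ℕ × Bool × ℕ × ℕ × ℕ × ℕ) := [(10, false, 3, 106, 10, 2), (19, false, 1, 115, 19, 2), (21, false, 1, 115, 21, 2), (22, false, 1, 115, 22, 2), (28, false, 1, 115, 28, 2), (29, false, 1, 115, 29, 2), (30, false, 1, 115, 30, 2), (32, false, 3, 106, 32, 2), (54, false, 1, 115, 54, 1), (55, false, 1, 115, 55, 1), (56, false, 1, 115, 56, 1), (63, false, 1, 115, 63, 1), (65, false, 1, 115, 65, 1), (68, false, 1, 115, 68, 1), (73, false, 3, 106, 73, 2), (77, false, 3, 106, 77, 1), (78, false, 1, 115, 78, 1), (82, false, 1, 115, 82, 1), (83, false, 3, 106, 83, 1), (84, false, 4, 104, 84, 1), (85, false, 5, 103, 85, 1), (89, false, 3, 106, 89, 1), (91, false, 4, 104, 91, 1), (92, false, 5, 103, 92, 1), (102, false, 1, 115, 102, 1), (111, false, 3, 106, 111, 1), (113, false, 4, 104, 113, 1), (114, false, 5, 103, 114, 1), (120, false, 11, 97, 120, 1), (121, false, 12, 96, 121, 1), (122, false, 14, 95, 122, 1), (124, false, 23, 93, 124, 1)]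
def tRow40 : List (ℕ × Bool × ℕ × ℕ × ℕ × ℕ) := [(9, false, 3, 107, 9, 2), (18, false, 1, 116, 18, 2), (20, false, 1, 116, 20, 2), (22, false, 1, 116, 22, 2), (27, false, 1, 116, 27, 2), (29, false, 1, 116, 29, 2), (30, false, 1, 116, 30, 2), (32, false, 3, 107, 32, 2), (53, false, 1, 116, 53, 1), (55, false, 1, 116, 55, 1), (56, false, 1, 116, 56, 1), (62, false, 1, 116, 62, 1), (64, false, 1, 116, 64, 1), (67, false, 1, 116, 67, 1), (73, false, 3, 107, 73, 2), (76, false, 3, 107, 76, 1), (78, false, 1, 116, 78, 1), (81, false, 1, 116, 81, 1), (83, false, 3, 107, 83, 1), (84, false, 4, 105, 84, 1), (86, false, 6, 103, 86, 1), (88, false, 3, 107, 88, 1), (90, false, 4, 105, 90, 1), (92, false, 6, 103, 92, 1), (101, false, 1, 116, 101, 1), (110, false, 3, 107, 110, 1), (112, false, 4, 105, 112, 1), (114, false, 6, 103, 114, 1), (119, false, 11, 98, 119, 1), (121, false, 13, 96, 121, 1), (122, false, 15, 95, 122, 1), (124, false, 24, 93, 124, 1)]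
def tRow41 : List (ℕ × Bool × ℕ × ℕ × ℕ × ℕ) := [(8, false, 3, 108, 8, 2), (17, false, 1, 117, 17, 2), (20, false, 1, 117, 20, 2), (21, false, 1, 117, 21, 2), (27, false, 1, 117, 27, 2), (28, false, 1, 117, 28, 2), (30, false, 1, 117, 30, 2), (32, false, 3, 108, 32, 2), (53, false, 1, 117, 53, 1), (54, false, 1, 117, 54, 1), (56, false, 1, 117, 56, 1), (60, false, 1, 117, 60, 1), (61, false, 1, 117, 61, 1), (66, false, 1, 117, 66, 1), (73, false, 3, 108, 73, 2), (75, false, 3, 108, 75, 1), (78, false, 1, 117, 78, 1), (80, false, 1, 117, 80, 1), (83, false, 3, 108, 83, 1), (85, false, 5, 105, 85, 1), (86, false, 6, 104, 86, 1), (87, false, 3, 108, 87, 1), (90, false, 5, 105, 90, 1), (91, false, 6, 104, 91, 1), (100, false, 1, 117, 100, 1), (109, false, 3, 108, 109, 1), (112, false, 5, 105, 112, 1), (113, false, 6, 104, 113, 1), (119, false, 12, 98, 119, 1), (120, false, 13, 97, 120, 1), (122, false, 16, 95, 122, 1), (124, false, 25, 93, 124, 1)]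
def tRow42 : List (ℕ × Bool × ℕ × ℕ × ℕ × ℕ) := [(7, false, 4, 108, 7, 2), (17, false, 1, 118, 17, 2), (18, false, 1, 118, 18, 2), (19, false, 1, 118, 19, 2), (27, false, 1, 118, 27, 2), (28, false, 1, 118, 28, 2), (29, false, 1, 118, 29, 2), (32, false, 4, 108, 32, 2), (53, false, 1, 118, 53, 1), (54, false, 1, 118, 54, 1), (55, false, 1, 118, 55, 1), (57, false, 1, 118, 57, 1), (58, false, 1, 118, 58, 1), (59, false, 1, 118, 59, 1), (73, false, 4, 108, 73, 2), (74, false, 4, 108, 74, 2), (78, false, 1, 118, 78, 1), (79, false, 1, 118, 79, 1), (84, false, 4, 108, 84, 1), (85, false, 5, 107, 85, 1), (86, false, 6, 106, 86, 1), (87, false, 4, 108, 87, 1), (88, false, 5, 107, 88, 1), (89, false, 6, 106, 89, 1), (99, false, 1, 118, 99, 1), (109, false, 4, 108, 109, 1), (110, false, 5, 107, 110, 1), (111, false, 6, 106, 111, 1), (119, false, 14, 98, 119, 1), (120, false, 15, 97, 120, 1), (121, false, 16, 96, 121, 1), (124, false, 26, 93, 124, 1)]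
def tRow43 : List (ℕ × Bool × ℕ × ℕ × ℕ × ℕ) := [(10, false, 3, 112, 10, 2), (13, false, 2, 115, 13, 2), (15, false, 2, 115, 15, 2), (16, false, 2, 115, 16, 2), (28, false, 2, 115, 28, 2), (29, false, 2, 115, 29, 2), (30, false, 2, 115, 30, 2), (31, false, 3, 112, 31, 2), (49, false, 2, 115, 49, 2), (50, false, 2, 115, 50, 2), (51, false, 2, 115, 51, 2), (52, false, 3, 112, 52, 2), (63, false, 2, 115, 63, 1), (65, false, 2, 115, 65, 1), (68, false, 2, 115, 68, 1), (72, false, 3, 112, 72, 1), (78, false, 2, 115, 78, 1), (79, false, 3, 112, 79, 1), (80, false, 4, 110, 80, 1), (81, false, 5, 109, 81, 1), (86, false, 2, 115, 86, 1), (89, false, 3, 112, 89, 1), (91, false, 4, 110, 91, 1), (92, false, 5, 109, 92, 1), (102, false, 2, 115, 102, 1), (105, false, 3, 112, 105, 1), (107, false, 4, 110, 107, 1), (108, false, 5, 109, 108, 1), (120, false, 17, 97, 120, 1), (121, false, 18, 96, 121, 1), (122, false, 20, 95, 122, 1), (123, false, 23, 94, 123, 1)]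
def tRow44 : List (ℕ × Bool × ℕ × ℕ × ℕ × ℕ) := [(9, false, 3, 113, 9, 2), (12, false, 2, 116, 12, 2), (14, false, 2, 116, 14, 2), (16, false, 2, 116, 16, 2), (27, false, 2, 116, 27, 2), (29, false, 2, 116, 29, 2), (30, false, 2, 116, 30, 2), (31, false, 3, 113, 31, 2), (48, false, 2, 116, 48, 2), (50, false, 2, 116, 50, 2), (51, false, 2, 116, 51, 2), (52, false, 3, 113, 52, 2), (62, false, 2, 116, 62, 1), (64, false, 2, 116, 64, 1), (67, false, 2, 116, 67, 1), (71, false, 3, 113, 71, 1), (78, false, 2, 116, 78, 1), (79, false, 3, 113, 79, 1), (80, false, 4, 111, 80, 1), (82, false, 6, 109, 82, 1), (85, false, 2, 116, 85, 1), (88, false, 3, 113, 88, 1), (90, false, 4, 111, 90, 1), (92, false, 6, 109, 92, 1), (101, false, 2, 116, 101, 1), (104, false, 3, 113, 104, 1), (106, false, 4, 111, 106, 1), (108, false, 6, 109, 108, 1), (119, false, 17, 98, 119, 1), (121, false, 19, 96, 121, 1), (122, false, 21, 95, 122, 1), (123, false, 24, 94, 123, 1)]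
def tRow45 : List (ℕ × Bool × ℕ × ℕ × ℕ × ℕ) := [(8, false, 3, 114, 8, 2), (11, false, 2, 117, 11, 2), (14, false, 2, 117, 14, 2), (15, false, 2, 117, 15, 2), (27, false, 2, 117, 27, 2), (28, false, 2, 117, 28, 2), (30, false, 2, 117, 30, 2), (31, false, 3, 114, 31, 2), (48, false, 2, 117, 48, 2), (49, false, 2, 117, 49, 2), (51, false, 2, 117, 51, 2), (52, false, 3, 114, 52, 2), (60, false, 2, 117, 60, 1), (61, false, 2, 117, 61, 1), (66, false, 2, 117, 66, 1), (70, false, 3, 114, 70, 1), (78, false, 2, 117, 78, 1), (79, false, 3, 114, 79, 1), (81, false, 5, 111, 81, 1), (82, false, 6, 110, 82, 1), (84, false, 2, 117, 84, 1), (87, false, 3, 114, 87, 1), (90, false, 5, 111, 90, 1), (91, false, 6, 110, 91, 1), (100, false, 2, 117, 100, 1), (103, false, 3, 114, 103, 1), (106, false, 5, 111, 106, 1), (107, false, 6, 110, 107, 1), (119, false, 18, 98, 119, 1), (120, false, 19, 97, 120, 1), (122, false, 22, 95, 122, 1), (123, false, 25, 94, 123, 1)]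
def tRow46 : List (ℕ × Bool × ℕ × ℕ × ℕ × ℕ) := [(7, false, 4, 114, 7, 2), (11, false, 2, 118, 11, 2), (12, false, 2, 118, 12, 2), (13, false, 2, 118, 13, 2), (27, false, 2, 118, 27, 2), (28, false, 2, 118, 28, 2), (29, false, 2, 118, 29, 2), (31, false, 4, 114, 31, 2), (48, false, 2, 118, 48, 2), (49, false, 2, 118, 49, 2), (50, false, 2, 118, 50, 2), (52, false, 4, 114, 52, 2), (57, false, 2, 118, 57, 1), (58, false, 2, 118, 58, 1), (59, false, 2, 118, 59, 1), (69, false, 4, 114, 69, 2), (78, false, 2, 118, 78, 1), (80, false, 4, 114, 80, 1), (81, false, 5, 113, 81, 1), (82, false, 6, 112, 82, 1), (83, false, 2, 118, 83, 1), (87, false, 4, 114, 87, 1), (88, false, 5, 113, 88, 1), (89, false, 6, 112, 89, 1), (99, false, 2, 118, 99, 1), (103, false, 4, 114, 103, 1), (104, false, 5, 113, 104, 1), (105, false, 6, 112, 105, 1), (119, false, 20, 98, 119, 1), (120, false, 21, 97, 120, 1), (121, false, 22, 96, 121, 1), (123, false, 26, 94, 123, 1)]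
def tRow47 : List (ℕ × Bool × ℕ × ℕ × ℕ × ℕ) := [(7, false, 4, 117, 7, 2), (8, false, 3, 118, 8, 2), (9, false, 3, 118, 9, 2), (10, false, 3, 118, 10, 2), (27, false, 3, 118, 27, 2), (28, false, 3, 118, 28, 2), (29, false, 3, 118, 29, 2), (30, false, 4, 117, 30, 2), (48, false, 3, 118, 48, 2), (49, false, 3, 118, 49, 2), (50, false, 3, 118, 50, 2), (51, false, 4, 117, 51, 2), (53, false, 3, 118, 53, 2), (54, false, 3, 118, 54, 2), (55, false, 3, 118, 55, 2), (56, false, 4, 117, 56, 2), (79, false, 3, 118, 79, 1), (80, false, 4, 117, 80, 1), (81, false, 5, 116, 81, 1), (82, false, 6, 115, 82, 1), (83, false, 3, 118, 83, 1), (84, false, 4, 117, 84, 1), (85, false, 5, 116, 85, 1), (86, false, 6, 115, 86, 1), (99, false, 3, 118, 99, 1), (100, false, 4, 117, 100, 1), (101, false, 5, 116, 101, 1), (102, false, 6, 115, 102, 1), (119, false, 23, 98, 119, 1), (120, false, 24, 97, 120, 1), (121, false, 25, 96, 121, 1), (122, false, 26, 95, 122, 1)]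
def tRow48 : List (ℕ × Bool × ℕ × ℕ × ℕ × ℕ) := [(6, false, 7, 106, 6, 2), (19, false, 1, 119, 19, 2), (21, false, 1, 119, 21, 2), (22, false, 1, 119, 22, 2), (24, false, 1, 119, 24, 2), (25, false, 1, 119, 25, 2), (26, false, 1, 119, 26, 2), (32, false, 7, 106, 32, 2), (44, false, 1, 119, 44, 1), (45, false, 1, 119, 45, 1), (46, false, 1, 119, 46, 1), (47, false, 1, 119, 47, 1), (63, false, 1, 119, 63, 1), (65, false, 1, 119, 65, 1), (68, false, 1, 119, 68, 1), (72, false, 1, 119, 72, 1), (73, false, 7, 106, 73, 2), (74, false, 7, 106, 74, 2), (75, false, 8, 104, 75, 2), (76, false, 9, 103, 76, 2), (86, false, 7, 106, 86, 1), (89, false, 7, 106, 89, 1), (91, false, 8, 104, 91, 1), (92, false, 9, 103, 92, 1), (98, false, 1, 119, 98, 1), (111, false, 7, 106, 111, 1), (113, false, 8, 104, 113, 1), (114, false, 9, 103, 114, 1), (116, false, 11, 101, 116, 1), (117, false, 12, 100, 117, 1), (118, false, 14, 99, 118, 1), (124, false, 27, 93, 124, 1)]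
def tRow49 : List (ℕ × Bool × ℕ × ℕ × ℕ × ℕ) := [(5, false, 7, 107, 5, 2), (18, false, 1, 120, 18, 2), (20, false, 1, 120, 20, 2), (22, false, 1, 120, 22, 2), (23, false, 1, 120, 23, 2), (25, false, 1, 120, 25, 2), (26, false, 1, 120, 26, 2), (32, false, 7, 107, 32, 2), (43, false, 1, 120, 43, 1), (45, false, 1, 120, 45, 1), (46, false, 1, 120, 46, 1), (47, false, 1, 120, 47, 1), (62, false, 1, 120, 62, 1), (64, false, 1, 120, 64, 1), (67, false, 1, 120, 67, 1), (71, false, 1, 120, 71, 1), (73, false, 7, 107, 73, 2), (74, false, 7, 107, 74, 2), (75, false, 8, 105, 75, 2), (77, false, 10, 103, 77, 2), (85, false, 7, 107, 85, 1), (88, false, 7, 107, 88, 1), (90, false, 8, 105, 90, 1), (92, false, 10, 103, 92, 1), (97, false, 1, 120, 97, 1), (110, false, 7, 107, 110, 1), (112, false, 8, 105, 112, 1), (114, false, 10, 103, 114, 1), (115, false, 11, 102, 115, 1), (117, false, 13, 100, 117, 1), (118, false, 15, 99, 118, 1), (124, false, 28, 93, 124, 1)]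
def tRow50 : List (ℕ × Bool × ℕ × ℕ × ℕ × ℕ) := [(4, false, 7, 108, 4, 2), (17, false, 1, 121, 17, 2), (20, false, 1, 121, 20, 2), (21, false, 1, 121, 21, 2), (23, false, 1, 121, 23, 2), (24, false, 1, 121, 24, 2), (26, false, 1, 121, 26, 2), (32, false, 7, 108, 32, 2), (43, false, 1, 121, 43, 1), (44, false, 1, 121, 44, 1), (46, false, 1, 121, 46, 1), (47, false, 1, 121, 47, 1), (60, false, 1, 121, 60, 1), (61, false, 1, 121, 61, 1), (66, false, 1, 121, 66, 1), (70, false, 1, 121, 70, 1), (73, false, 7, 108, 73, 2), (74, false, 7, 108, 74, 2), (76, false, 9, 105, 76, 2), (77, false, 10, 104, 77, 2), (84, false, 7, 108, 84, 1), (87, false, 7, 108, 87, 1), (90, false, 9, 105, 90, 1), (91, false, 10, 104, 91, 1), (96, false, 1, 121, 96, 1), (109, false, 7, 108, 109, 1), (112, false, 9, 105, 112, 1), (113, false, 10, 104, 113, 1), (115, false, 12, 102, 115, 1), (116, false, 13, 101, 116, 1), (118, false, 16, 99, 118, 1), (124, false, 29, 93, 124, 1)]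
def tRow51 : List (ℕ × Bool × ℕ × ℕ × ℕ × ℕ) := [(3, false, 8, 108, 3, 2), (17, false, 1, 122, 17, 2), (18, false, 1, 122, 18, 2), (19, false, 1, 122, 19, 2), (23, false, 1, 122, 23, 2), (24, false, 1, 122, 24, 2), (25, false, 1, 122, 25, 2), (32, false, 8, 108, 32, 2), (43, false, 1, 122, 43, 1), (44, false, 1, 122, 44, 1), (45, false, 1, 122, 45, 1), (47, false, 1, 122, 47, 1), (57, false, 1, 122, 57, 1), (58, false, 1, 122, 58, 1), (59, false, 1, 122, 59, 1), (69, false, 1, 122, 69, 1), (73, false, 8, 108, 73, 2), (75, false, 8, 108, 75, 2), (76, false, 9, 107, 76, 2), (77, false, 10, 106, 77, 2), (83, false, 8, 108, 83, 2), (87, false, 8, 108, 87, 1), (88, false, 9, 107, 88, 1), (89, false, 10, 106, 89, 1), (95, false, 1, 122, 95, 1), (109, false, 8, 108, 109, 1), (110, false, 9, 107, 110, 1), (111, false, 10, 106, 111, 1), (115, false, 14, 102, 115, 1), (116, false, 15, 101, 116, 1), (117, false, 16, 100, 117, 1), (124, false, 30, 93, 124, 1)]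
def tRow52 : List (ℕ × Bool × ℕ × ℕ × ℕ × ℕ) := [(2, false, 11, 108, 2, 2), (17, false, 1, 123, 17, 2), (18, false, 1, 123, 18, 2), (19, false, 1, 123, 19, 2), (20, false, 1, 123, 20, 2), (21, false, 1, 123, 21, 2), (22, false, 1, 123, 22, 2), (32, false, 11, 108, 32, 2), (43, false, 1, 123, 43, 1), (44, false, 1, 123, 44, 1), (45, false, 1, 123, 45, 1), (46, false, 1, 123, 46, 1), (53, false, 1, 123, 53, 1), (54, false, 1, 123, 54, 1), (55, false, 1, 123, 55, 1), (56, false, 1, 123, 56, 1), (74, false, 11, 108, 74, 2), (75, false, 11, 108, 75, 2), (76, false, 12, 107, 76, 2), (77, false, 13, 106, 77, 2), (83, false, 11, 108, 83, 2), (84, false, 11, 108, 84, 2), (85, false, 12, 107, 85, 2), (86, false, 13, 106, 86, 2), (94, false, 1, 123, 94, 1), (109, false, 11, 108, 109, 1), (110, false, 12, 107, 110, 1), (111, false, 13, 106, 111, 1), (112, false, 14, 105, 112, 1), (113, false, 15, 104, 113, 1), (114, false, 16, 103, 114, 1), (124, false, 31, 93, 124, 1)]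
def tRow53 : List (ℕ × Bool × ℕ × ℕ × ℕ × ℕ) := [(6, false, 7, 112, 6, 2), (13, false, 2, 119, 13, 2), (15, false, 2, 119, 15, 2), (16, false, 2, 119, 16, 2), (24, false, 2, 119, 24, 2), (25, false, 2, 119, 25, 2), (26, false, 2, 119, 26, 2), (31, false, 7, 112, 31, 2), (40, false, 2, 119, 40, 2), (41, false, 2, 119, 41, 2), (42, false, 2, 119, 42, 2), (47, false, 2, 119, 47, 1), (52, false, 7, 112, 52, 2), (63, false, 2, 119, 63, 1), (65, false, 2, 119, 65, 1), (68, false, 2, 119, 68, 1), (69, false, 7, 112, 69, 2), (70, false, 8, 110, 70, 2), (71, false, 9, 109, 71, 2), (77, false, 2, 119, 77, 1), (82, false, 7, 112, 82, 1), (89, false, 7, 112, 89, 1), (91, false, 8, 110, 91, 1), (92, false, 9, 109, 92, 1), (98, false, 2, 119, 98, 1), (105, false, 7, 112, 105, 1), (107, false, 8, 110, 107, 1), (108, false, 9, 109, 108, 1), (116, false, 17, 101, 116, 1), (117, false, 18, 100, 117, 1), (118, false, 20, 99, 118, 1), (123, false, 27, 94, 123, 1)]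
def tRow54 : List (ℕ × Bool × ℕ × ℕ × ℕ × ℕ) := [(5, false, 7, 113, 5, 2), (12, false, 2, 120, 12, 2), (14, false, 2, 120, 14, 2), (16, false, 2, 120, 16, 2), (23, false, 2, 120, 23, 2), (25, false, 2, 120, 25, 2), (26, false, 2, 120, 26, 2), (31, false, 7, 113, 31, 2), (39, false, 2, 120, 39, 2), (41, false, 2, 120, 41, 2), (42, false, 2, 120, 42, 2), (47, false, 2, 120, 47, 1), (52, false, 7, 113, 52, 2), (62, false, 2, 120, 62, 1), (64, false, 2, 120, 64, 1), (67, false, 2, 120, 67, 1), (69, false, 7, 113, 69, 2), (70, false, 8, 111, 70, 2), (72, false, 10, 109, 72, 2), (76, false, 2, 120, 76, 1), (81, false, 7, 113, 81, 1), (88, false, 7, 113, 88, 1), (90, false, 8, 111, 90, 1), (92, false, 10, 109, 92, 1), (97, false, 2, 120, 97, 1), (104, false, 7, 113, 104, 1), (106, false, 8, 111, 106, 1), (108, false, 10, 109, 108, 1), (115, false, 17, 102, 115, 1), (117, false, 19, 100, 117, 1), (118, false, 21, 99, 118, 1), (123, false, 28, 94, 123, 1)]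
def tRow55 : List (ℕ × Bool × ℕ × ℕ × ℕ × ℕ) := [(4, false, 7, 114, 4, 2), (11, false, 2, 121, 11, 2), (14, false, 2, 121, 14, 2), (15, false, 2, 121, 15, 2), (23, false, 2, 121, 23, 2), (24, false, 2, 121, 24, 2), (26, false, 2, 121, 26, 2), (31, false, 7, 114, 31, 2), (39, false, 2, 121, 39, 2), (40, false, 2, 121, 40, 2), (42, false, 2, 121, 42, 2), (47, false, 2, 121, 47, 1), (52, false, 7, 114, 52, 2), (60, false, 2, 121, 60, 1), (61, false, 2, 121, 61, 1), (66, false, 2, 121, 66, 1), (69, false, 7, 114, 69, 2), (71, false, 9, 111, 71, 2), (72, false, 10, 110, 72, 2), (75, false, 2, 121, 75, 1), (80, false, 7, 114, 80, 1), (87, false, 7, 114, 87, 1), (90, false, 9, 111, 90, 1), (91, false, 10, 110, 91, 1), (96, false, 2, 121, 96, 1), (103, false, 7, 114, 103, 1), (106, false, 9, 111, 106, 1), (107, false, 10, 110, 107, 1), (115, false, 18, 102, 115, 1), (116, false, 19, 101, 116, 1), (118, false, 22, 99, 118, 1), (123, false, 29, 94, 123, 1)]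
def tRow56 : List (ℕ × Bool × ℕ × ℕ × ℕ × ℕ) := [(3, false, 8, 114, 3, 2), (11, false, 2, 122, 11, 2), (12, false, 2, 122, 12, 2), (13, false, 2, 122, 13, 2), (23, false, 2, 122, 23, 2), (24, false, 2, 122, 24, 2), (25, false, 2, 122, 25, 2), (31, false, 8, 114, 31, 2), (39, false, 2, 122, 39, 2), (40, false, 2, 122, 40, 2), (41, false, 2, 122, 41, 2), (47, false, 2, 122, 47, 1), (52, false, 8, 114, 52, 2), (57, false, 2, 122, 57, 1), (58, false, 2, 122, 58, 1), (59, false, 2, 122, 59, 1), (70, false, 8, 114, 70, 2), (71, false, 9, 113, 71, 2), (72, false, 10, 112, 72, 2), (74, false, 2, 122, 74, 1), (79, false, 8, 114, 79, 2), (87, false, 8, 114, 87, 1), (88, false, 9, 113, 88, 1), (89, false, 10, 112, 89, 1), (95, false, 2, 122, 95, 1), (103, false, 8, 114, 103, 1), (104, false, 9, 113, 104, 1), (105, false, 10, 112, 105, 1), (115, false, 20, 102, 115, 1), (116, false, 21, 101, 116, 1), (117, false, 22, 100, 117, 1), (123, false, 30, 94, 123, 1)]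
def tRow57 : List (ℕ × Bool × ℕ × ℕ × ℕ × ℕ) := [(6, false, 7, 115, 6, 2), (10, false, 3, 119, 10, 2), (15, false, 3, 119, 15, 2), (16, false, 3, 119, 16, 2), (21, false, 3, 119, 21, 2), (22, false, 3, 119, 22, 2), (26, false, 3, 119, 26, 2), (30, false, 7, 115, 30, 2), (37, false, 3, 119, 37, 2), (38, false, 3, 119, 38, 2), (42, false, 3, 119, 42, 2), (46, false, 3, 119, 46, 2), (51, false, 7, 115, 51, 2), (56, false, 7, 115, 56, 2), (63, false, 3, 119, 63, 1), (65, false, 3, 119, 65, 1), (66, false, 11, 110, 66, 2), (67, false, 12, 109, 67, 2), (72, false, 3, 119, 72, 1), (77, false, 3, 119, 77, 1), (82, false, 7, 115, 82, 1), (86, false, 7, 115, 86, 1), (91, false, 11, 110, 91, 1), (92, false, 12, 109, 92, 1), (98, false, 3, 119, 98, 1), (102, false, 7, 115, 102, 1), (107, false, 11, 110, 107, 1), (108, false, 12, 109, 108, 1), (113, false, 17, 104, 113, 1), (114, false, 18, 103, 114, 1), (118, false, 23, 99, 118, 1), (122, false, 27, 95, 122, 1)]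
def tRow58 : List (ℕ × Bool × ℕ × ℕ × ℕ × ℕ) := [(5, false, 7, 116, 5, 2), (9, false, 3, 120, 9, 2), (14, false, 3, 120, 14, 2), (16, false, 3, 120, 16, 2), (20, false, 3, 120, 20, 2), (22, false, 3, 120, 22, 2), (26, false, 3, 120, 26, 2), (30, false, 7, 116, 30, 2), (36, false, 3, 120, 36, 2), (38, false, 3, 120, 38, 2), (42, false, 3, 120, 42, 2), (46, false, 3, 120, 46, 2), (51, false, 7, 116, 51, 2), (56, false, 7, 116, 56, 2), (62, false, 3, 120, 62, 1), (64, false, 3, 120, 64, 1), (66, false, 11, 111, 66, 2), (68, false, 13, 109, 68, 2), (71, false, 3, 120, 71, 1), (76, false, 3, 120, 76, 1), (81, false, 7, 116, 81, 1), (85, false, 7, 116, 85, 1), (90, false, 11, 111, 90, 1), (92, false, 13, 109, 92, 1), (97, false, 3, 120, 97, 1), (101, false, 7, 116, 101, 1), (106, false, 11, 111, 106, 1), (108, false, 13, 109, 108, 1), (112, false, 17, 105, 112, 1), (114, false, 19, 103, 114, 1), (118, false, 24, 99, 118, 1), (122, false, 28, 95, 122, 1)]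
def tRow59 : List (ℕ × Bool × ℕ × ℕ × ℕ × ℕ) := [(4, false, 7, 117, 4, 2), (8, false, 3, 121, 8, 2), (14, false, 3, 121, 14, 2), (15, false, 3, 121, 15, 2), (20, false, 3, 121, 20, 2), (21, false, 3, 121, 21, 2), (26, false, 3, 121, 26, 2), (30, false, 7, 117, 30, 2), (36, false, 3, 121, 36, 2), (37, false, 3, 121, 37, 2), (42, false, 3, 121, 42, 2), (46, false, 3, 121, 46, 2), (51, false, 7, 117, 51, 2), (56, false, 7, 117, 56, 2), (60, false, 3, 121, 60, 1), (61, false, 3, 121, 61, 1), (67, false, 12, 111, 67, 2), (68, false, 13, 110, 68, 2), (70, false, 3, 121, 70, 1), (75, false, 3, 121, 75, 1), (80, false, 7, 117, 80, 1), (84, false, 7, 117, 84, 1), (90, false, 12, 111, 90, 1), (91, false, 13, 110, 91, 1), (96, false, 3, 121, 96, 1), (100, false, 7, 117, 100, 1), (106, false, 12, 111, 106, 1), (107, false, 13, 110, 107, 1), (112, false, 18, 105, 112, 1), (113, false, 19, 104, 113, 1), (118, false, 25, 99, 118, 1), (122, false, 29, 95, 122, 1)]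
def tRow60 : List (ℕ × Bool × ℕ × ℕ × ℕ × ℕ) := [(6, false, 8, 115, 6, 2), (10, false, 4, 119, 10, 2), (13, false, 4, 119, 13, 2), (16, false, 4, 119, 16, 2), (19, false, 4, 119, 19, 2), (22, false, 4, 119, 22, 2), (25, false, 4, 119, 25, 2), (29, false, 8, 115, 29, 2), (35, false, 4, 119, 35, 2), (38, false, 4, 119, 38, 2), (41, false, 4, 119, 41, 2), (45, false, 4, 119, 45, 2), (50, false, 8, 115, 50, 2), (55, false, 8, 115, 55, 2), (59, false, 11, 112, 59, 2), (63, false, 4, 119, 63, 1), (64, false, 14, 109, 64, 2), (68, false, 4, 119, 68, 1), (72, false, 4, 119, 72, 1), (77, false, 4, 119, 77, 1), (82, false, 8, 115, 82, 1), (86, false, 8, 115, 86, 1), (89, false, 11, 112, 89, 1), (92, false, 14, 109, 92, 1), (98, false, 4, 119, 98, 1), (102, false, 8, 115, 102, 1), (105, false, 11, 112, 105, 1), (108, false, 14, 109, 108, 1), (111, false, 17, 106, 111, 1), (114, false, 20, 103, 114, 1), (117, false, 23, 100, 117, 1), (121, false, 27, 96, 121, 1)]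
def tRow61 : List (ℕ × Bool × ℕ × ℕ × ℕ × ℕ) := [(5, false, 8, 116, 5, 2), (9, false, 4, 120, 9, 2), (12, false, 4, 120, 12, 2), (16, false, 4, 120, 16, 2), (18, false, 4, 120, 18, 2), (22, false, 4, 120, 22, 2), (25, false, 4, 120, 25, 2), (29, false, 8, 116, 29, 2), (34, false, 4, 120, 34, 2), (38, false, 4, 120, 38, 2), (41, false, 4, 120, 41, 2), (45, false, 4, 120, 45, 2), (50, false, 8, 116, 50, 2), (55, false, 8, 116, 55, 2), (59, false, 11, 113, 59, 2), (62, false, 4, 120, 62, 1), (65, false, 15, 109, 65, 2), (67, false, 4, 120, 67, 1), (71, false, 4, 120, 71, 1), (76, false, 4, 120, 76, 1), (81, false, 8, 116, 81, 1), (85, false, 8, 116, 85, 1), (88, false, 11, 113, 88, 1), (92, false, 15, 109, 92, 1), (97, false, 4, 120, 97, 1), (101, false, 8, 116, 101, 1), (104, false, 11, 113, 104, 1), (108, false, 15, 109, 108, 1), (110, false, 17, 107, 110, 1), (114, false, 21, 103, 114, 1), (117, false, 24, 100, 117, 1), (121, false, 28, 96, 121, 1)]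
def tRow62 : List (ℕ × Bool × ℕ × ℕ × ℕ × ℕ) := [(6, false, 9, 115, 6, 2), (10, false, 5, 119, 10, 2), (13, false, 5, 119, 13, 2), (15, false, 5, 119, 15, 2), (19, false, 5, 119, 19, 2), (21, false, 5, 119, 21, 2), (24, false, 5, 119, 24, 2), (28, false, 9, 115, 28, 2), (35, false, 5, 119, 35, 2), (37, false, 5, 119, 37, 2), (40, false, 5, 119, 40, 2), (44, false, 5, 119, 44, 2), (49, false, 9, 115, 49, 2), (54, false, 9, 115, 54, 2), (58, false, 12, 112, 58, 2), (61, false, 14, 110, 61, 2), (65, false, 5, 119, 65, 1), (68, false, 5, 119, 68, 1), (72, false, 5, 119, 72, 1), (77, false, 5, 119, 77, 1), (82, false, 9, 115, 82, 1), (86, false, 9, 115, 86, 1), (89, false, 12, 112, 89, 1), (91, false, 14, 110, 91, 1), (98, false, 5, 119, 98, 1), (102, false, 9, 115, 102, 1), (105, false, 12, 112, 105, 1), (107, false, 14, 110, 107, 1), (111, false, 18, 106, 111, 1), (113, false, 20, 104, 113, 1), (116, false, 23, 101, 116, 1), (120, false, 27, 97, 120, 1)]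
def tRow63 : List (ℕ × Bool × ℕ × ℕ × ℕ × ℕ) := [(5, false, 10, 116, 5, 2), (9, false, 6, 120, 9, 2), (12, false, 6, 120, 12, 2), (14, false, 6, 120, 14, 2), (18, false, 6, 120, 18, 2), (20, false, 6, 120, 20, 2), (23, false, 6, 120, 23, 2), (27, false, 10, 116, 27, 2), (34, false, 6, 120, 34, 2), (36, false, 6, 120, 36, 2), (39, false, 6, 120, 39, 2), (43, false, 6, 120, 43, 2), (48, false, 10, 116, 48, 2), (53, false, 10, 116, 53, 2), (57, false, 13, 113, 57, 2), (60, false, 15, 111, 60, 2), (64, false, 6, 120, 64, 1), (67, false, 6, 120, 67, 1), (71, false, 6, 120, 71, 1), (76, false, 6, 120, 76, 1), (81, false, 10, 116, 81, 1), (85, false, 10, 116, 85, 1), (88, false, 13, 113, 88, 1), (90, false, 15, 111, 90, 1), (97, false, 6, 120, 97, 1), (101, false, 10, 116, 101, 1), (104, false, 13, 113, 104, 1), (106, false, 15, 111, 106, 1), (110, false, 19, 107, 110, 1), (112, false, 21, 105, 112, 1), (115, false, 24, 102, 115, 1), (119, false, 28, 98, 119, 1)]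
def tRow64 : List (ℕ × Bool × ℕ × ℕ × ℕ × ℕ) := [(4, false, 9, 117, 4, 2), (8, false, 5, 121, 8, 2), (11, false, 5, 121, 11, 2), (15, false, 5, 121, 15, 2), (17, false, 5, 121, 17, 2), (21, false, 5, 121, 21, 2), (24, false, 5, 121, 24, 2), (28, false, 9, 117, 28, 2), (33, false, 5, 121, 33, 2), (37, false, 5, 121, 37, 2), (40, false, 5, 121, 40, 2), (44, false, 5, 121, 44, 2), (49, false, 9, 117, 49, 2), (54, false, 9, 117, 54, 2), (58, false, 12, 114, 58, 2), (60, false, 5, 121, 60, 1), (63, false, 16, 110, 63, 2), (66, false, 5, 121, 66, 1), (70, false, 5, 121, 70, 1), (75, false, 5, 121, 75, 1), (80, false, 9, 117, 80, 1), (84, false, 9, 117, 84, 1), (87, false, 12, 114, 87, 1), (91, false, 16, 110, 91, 1), (96, false, 5, 121, 96, 1), (100, false, 9, 117, 100, 1), (103, false, 12, 114, 103, 1), (107, false, 16, 110, 107, 1), (109, false, 18, 108, 109, 1), (113, false, 22, 104, 113, 1), (116, false, 25, 101, 116, 1), (120, false, 29, 97, 120, 1)]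
def tRow65 : List (ℕ × Bool × ℕ × ℕ × ℕ × ℕ) := [(4, false, 10, 117, 4, 2), (8, false, 6, 121, 8, 2), (11, false, 6, 121, 11, 2), (14, false, 6, 121, 14, 2), (17, false, 6, 121, 17, 2), (20, false, 6, 121, 20, 2), (23, false, 6, 121, 23, 2), (27, false, 10, 117, 27, 2), (33, false, 6, 121, 33, 2), (36, false, 6, 121, 36, 2), (39, false, 6, 121, 39, 2), (43, false, 6, 121, 43, 2), (48, false, 10, 117, 48, 2), (53, false, 10, 117, 53, 2), (57, false, 13, 114, 57, 2), (61, false, 6, 121, 61, 1), (62, false, 16, 111, 62, 2), (66, false, 6, 121, 66, 1), (70, false, 6, 121, 70, 1), (75, false, 6, 121, 75, 1), (80, false, 10, 117, 80, 1), (84, false, 10, 117, 84, 1), (87, false, 13, 114, 87, 1), (90, false, 16, 111, 90, 1), (96, false, 6, 121, 96, 1), (100, false, 10, 117, 100, 1), (103, false, 13, 114, 103, 1), (106, false, 16, 111, 106, 1), (109, false, 19, 108, 109, 1), (112, false, 22, 105, 112, 1), (115, false, 25, 102, 115, 1), (119, false, 29, 98, 119, 1)]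
def tRow66 : List (ℕ × Bool × ℕ × ℕ × ℕ × ℕ) := [(3, false, 8, 118, 3, 2), (7, false, 4, 122, 7, 2), (12, false, 4, 122, 12, 2), (13, false, 4, 122, 13, 2), (18, false, 4, 122, 18, 2), (19, false, 4, 122, 19, 2), (25, false, 4, 122, 25, 2), (29, false, 8, 118, 29, 2), (34, false, 4, 122, 34, 2), (35, false, 4, 122, 35, 2), (41, false, 4, 122, 41, 2), (45, false, 4, 122, 45, 2), (50, false, 8, 118, 50, 2), (55, false, 8, 118, 55, 2), (57, false, 4, 122, 57, 1), (58, false, 4, 122, 58, 1), (64, false, 14, 113, 64, 2), (65, false, 15, 112, 65, 2), (69, false, 4, 122, 69, 1), (74, false, 4, 122, 74, 1), (79, false, 8, 118, 79, 1), (83, false, 8, 118, 83, 1), (88, false, 14, 113, 88, 1), (89, false, 15, 112, 89, 1), (95, false, 4, 122, 95, 1), (99, false, 8, 118, 99, 1), (104, false, 14, 113, 104, 1), (105, false, 15, 112, 105, 1), (110, false, 20, 107, 110, 1), (111, false, 21, 106, 111, 1), (117, false, 26, 100, 117, 1), (121, false, 30, 96, 121, 1)]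
def tRow67 : List (ℕ × Bool × ℕ × ℕ × ℕ × ℕ) := [(3, false, 9, 118, 3, 2), (7, false, 5, 122, 7, 2), (11, false, 5, 122, 11, 2), (13, false, 5, 122, 13, 2), (17, false, 5, 122, 17, 2), (19, false, 5, 122, 19, 2), (24, false, 5, 122, 24, 2), (28, false, 9, 118, 28, 2), (33, false, 5, 122, 33, 2), (35, false, 5, 122, 35, 2), (40, false, 5, 122, 40, 2), (44, false, 5, 122, 44, 2), (49, false, 9, 118, 49, 2), (54, false, 9, 118, 54, 2), (57, false, 5, 122, 57, 1), (59, false, 5, 122, 59, 1), (61, false, 14, 114, 61, 2), (63, false, 16, 112, 63, 2), (69, false, 5, 122, 69, 1), (74, false, 5, 122, 74, 1), (79, false, 9, 118, 79, 1), (83, false, 9, 118, 83, 1), (87, false, 14, 114, 87, 1), (89, false, 16, 112, 89, 1), (95, false, 5, 122, 95, 1), (99, false, 9, 118, 99, 1), (103, false, 14, 114, 103, 1), (105, false, 16, 112, 105, 1), (109, false, 20, 108, 109, 1), (111, false, 22, 106, 111, 1), (116, false, 26, 101, 116, 1), (120, false, 30, 97, 120, 1)]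
def tRow68 : List (ℕ × Bool × ℕ × ℕ × ℕ × ℕ) := [(3, false, 10, 118, 3, 2), (7, false, 6, 122, 7, 2), (11, false, 6, 122, 11, 2), (12, false, 6, 122, 12, 2), (17, false, 6, 122, 17, 2), (18, false, 6, 122, 18, 2), (23, false, 6, 122, 23, 2), (27, false, 10, 118, 27, 2), (33, false, 6, 122, 33, 2), (34, false, 6, 122, 34, 2), (39, false, 6, 122, 39, 2), (43, false, 6, 122, 43, 2), (48, false, 10, 118, 48, 2), (53, false, 10, 118, 53, 2), (58, false, 6, 122, 58, 1), (59, false, 6, 122, 59, 1), (60, false, 15, 114, 60, 2), (62, false, 16, 113, 62, 2), (69, false, 6, 122, 69, 1), (74, false, 6, 122, 74, 1), (79, false, 10, 118, 79, 1), (83, false, 10, 118, 83, 1), (87, false, 15, 114, 87, 1), (88, false, 16, 113, 88, 1), (95, false, 6, 122, 95, 1), (99, false, 10, 118, 99, 1), (103, false, 15, 114, 103, 1), (104, false, 16, 113, 104, 1), (109, false, 21, 108, 109, 1), (110, false, 22, 107, 110, 1), (115, false, 26, 102, 115, 1), (119, false, 30, 98, 119, 1)]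
def tRow69 : List (ℕ × Bool × ℕ × ℕ × ℕ × ℕ) := [(2, false, 11, 117, 2, 2), (8, false, 3, 123, 8, 2), (9, false, 3, 123, 9, 2), (10, false, 3, 123, 10, 2), (20, false, 3, 123, 20, 2), (21, false, 3, 123, 21, 2), (22, false, 3, 123, 22, 2), (30, false, 11, 117, 30, 2), (36, false, 3, 123, 36, 2), (37, false, 3, 123, 37, 2), (38, false, 3, 123, 38, 2), (46, false, 3, 123, 46, 1), (51, false, 11, 117, 51, 2), (53, false, 3, 123, 53, 1), (54, false, 3, 123, 54, 1), (55, false, 3, 123, 55, 1), (66, false, 11, 117, 66, 2), (67, false, 12, 116, 67, 2), (68, false, 13, 115, 68, 2), (73, false, 3, 123, 73, 1), (78, false, 11, 117, 78, 2), (84, false, 11, 117, 84, 1), (85, false, 12, 116, 85, 1), (86, false, 13, 115, 86, 1), (94, false, 3, 123, 94, 1), (100, false, 11, 117, 100, 1), (101, false, 12, 116, 101, 1), (102, false, 13, 115, 102, 1), (112, false, 23, 105, 112, 1), (113, false, 24, 104, 113, 1), (114, false, 25, 103, 114, 1), (122, false, 31, 95, 122, 1)]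
def tRow70 : List (ℕ × Bool × ℕ × ℕ × ℕ × ℕ) := [(2, false, 11, 118, 2, 2), (7, false, 4, 123, 7, 2), (9, false, 4, 123, 9, 2), (10, false, 4, 123, 10, 2), (18, false, 4, 123, 18, 2), (19, false, 4, 123, 19, 2), (22, false, 4, 123, 22, 2), (29, false, 11, 118, 29, 2), (34, false, 4, 123, 34, 2), (35, false, 4, 123, 35, 2), (38, false, 4, 123, 38, 2), (45, false, 4, 123, 45, 2), (50, false, 11, 118, 50, 2), (53, false, 4, 123, 53, 1), (54, false, 4, 123, 54, 1), (56, false, 4, 123, 56, 1), (59, false, 11, 118, 59, 2), (64, false, 14, 116, 64, 2), (65, false, 15, 115, 65, 2), (73, false, 4, 123, 73, 1), (78, false, 11, 118, 78, 2), (83, false, 11, 118, 83, 1), (85, false, 14, 116, 85, 1), (86, false, 15, 115, 86, 1), (94, false, 4, 123, 94, 1), (99, false, 11, 118, 99, 1), (101, false, 14, 116, 101, 1), (102, false, 15, 115, 102, 1), (110, false, 23, 107, 110, 1), (111, false, 24, 106, 111, 1), (114, false, 26, 103, 114, 1), (121, false, 31, 96, 121, 1)]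
def tRow71 : List (ℕ × Bool × ℕ × ℕ × ℕ × ℕ) := [(2, false, 12, 118, 2, 2), (7, false, 5, 123, 7, 2), (8, false, 5, 123, 8, 2), (10, false, 5, 123, 10, 2), (17, false, 5, 123, 17, 2), (19, false, 5, 123, 19, 2), (21, false, 5, 123, 21, 2), (28, false, 12, 118, 28, 2), (33, false, 5, 123, 33, 2), (35, false, 5, 123, 35, 2), (37, false, 5, 123, 37, 2), (44, false, 5, 123, 44, 2), (49, false, 12, 118, 49, 2), (53, false, 5, 123, 53, 1), (55, false, 5, 123, 55, 1), (56, false, 5, 123, 56, 1), (58, false, 12, 118, 58, 2), (61, false, 14, 117, 61, 2), (63, false, 16, 115, 63, 2), (73, false, 5, 123, 73, 1), (78, false, 12, 118, 78, 2), (83, false, 12, 118, 83, 1), (84, false, 14, 117, 84, 1), (86, false, 16, 115, 86, 1), (94, false, 5, 123, 94, 1), (99, false, 12, 118, 99, 1), (100, false, 14, 117, 100, 1), (102, false, 16, 115, 102, 1), (109, false, 23, 108, 109, 1), (111, false, 25, 106, 111, 1), (113, false, 26, 104, 113, 1), (120, false, 31, 97, 120, 1)]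
def tRow72 : List (ℕ × Bool × ℕ × ℕ × ℕ × ℕ) := [(2, false, 13, 118, 2, 2), (7, false, 6, 123, 7, 2), (8, false, 6, 123, 8, 2), (9, false, 6, 123, 9, 2), (17, false, 6, 123, 17, 2), (18, false, 6, 123, 18, 2), (20, false, 6, 123, 20, 2), (27, false, 13, 118, 27, 2), (33, false, 6, 123, 33, 2), (34, false, 6, 123, 34, 2), (36, false, 6, 123, 36, 2), (43, false, 6, 123, 43, 2), (48, false, 13, 118, 48, 2), (54, false, 6, 123, 54, 1), (55, false, 6, 123, 55, 1), (56, false, 6, 123, 56, 1), (57, false, 13, 118, 57, 2), (60, false, 15, 117, 60, 2), (62, false, 16, 116, 62, 2), (73, false, 6, 123, 73, 1), (78, false, 13, 118, 78, 2), (83, false, 13, 118, 83, 1), (84, false, 15, 117, 84, 1), (85, false, 16, 116, 85, 1), (94, false, 6, 123, 94, 1), (99, false, 13, 118, 99, 1), (100, false, 15, 117, 100, 1), (101, false, 16, 116, 101, 1), (109, false, 24, 108, 109, 1), (110, false, 25, 107, 110, 1), (112, false, 26, 105, 112, 1), (119, false, 31, 98, 119, 1)]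
def tRow73 : List (ℕ × Bool × ℕ × ℕ × ℕ × ℕ) := [(1, false, 17, 114, 1, 2), (11, false, 2, 124, 11, 2), (12, false, 2, 124, 12, 2), (13, false, 2, 124, 13, 2), (14, false, 2, 124, 14, 2), (15, false, 2, 124, 15, 2), (16, false, 2, 124, 16, 2), (31, false, 17, 114, 31, 2), (39, false, 2, 124, 39, 1), (40, false, 2, 124, 40, 1), (41, false, 2, 124, 41, 1), (42, false, 2, 124, 42, 1), (48, false, 2, 124, 48, 1), (49, false, 2, 124, 49, 1), (50, false, 2, 124, 50, 1), (51, false, 2, 124, 51, 1), (69, false, 17, 114, 69, 2), (70, false, 17, 114, 70, 2), (71, false, 18, 113, 71, 2), (72, false, 19, 112, 72, 2), (79, false, 17, 114, 79, 2), (80, false, 17, 114, 80, 2), (81, false, 18, 113, 81, 2), (82, false, 19, 112, 82, 2), (93, false, 2, 124, 93, 1), (103, false, 17, 114, 103, 1), (104, false, 18, 113, 104, 1), (105, false, 19, 112, 105, 1), (106, false, 20, 111, 106, 1), (107, false, 21, 110, 107, 1), (108, false, 22, 109, 108, 1), (123, false, 32, 94, 123, 1)]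
def tRow74 : List (ℕ × Bool × ℕ × ℕ × ℕ × ℕ) := [(1, false, 17, 117, 1, 2), (8, false, 3, 124, 8, 2), (9, false, 3, 124, 9, 2), (10, false, 3, 124, 10, 2), (14, false, 3, 124, 14, 2), (15, false, 3, 124, 15, 2), (16, false, 3, 124, 16, 2), (30, false, 17, 117, 30, 2), (36, false, 3, 124, 36, 2), (37, false, 3, 124, 37, 2), (38, false, 3, 124, 38, 2), (42, false, 3, 124, 42, 1), (48, false, 3, 124, 48, 1), (49, false, 3, 124, 49, 1), (50, false, 3, 124, 50, 1), (52, false, 3, 124, 52, 1), (56, false, 17, 117, 56, 2), (66, false, 17, 117, 66, 2), (67, false, 18, 116, 67, 2), (68, false, 19, 115, 68, 2), (78, false, 17, 117, 78, 2), (80, false, 17, 117, 80, 2), (81, false, 18, 116, 81, 2), (82, false, 19, 115, 82, 2), (93, false, 3, 124, 93, 1), (100, false, 17, 117, 100, 1), (101, false, 18, 116, 101, 1), (102, false, 19, 115, 102, 1), (106, false, 23, 111, 106, 1), (107, false, 24, 110, 107, 1), (108, false, 25, 109, 108, 1), (122, false, 32, 95, 122, 1)]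
def tRow75 : List (ℕ × Bool × ℕ × ℕ × ℕ × ℕ) := [(1, false, 17, 118, 1, 2), (7, false, 4, 124, 7, 2), (9, false, 4, 124, 9, 2), (10, false, 4, 124, 10, 2), (12, false, 4, 124, 12, 2), (13, false, 4, 124, 13, 2), (16, false, 4, 124, 16, 2), (29, false, 17, 118, 29, 2), (34, false, 4, 124, 34, 2), (35, false, 4, 124, 35, 2), (38, false, 4, 124, 38, 2), (41, false, 4, 124, 41, 2), (48, false, 4, 124, 48, 1), (49, false, 4, 124, 49, 1), (51, false, 4, 124, 51, 1), (52, false, 4, 124, 52, 1), (55, false, 17, 118, 55, 2), (59, false, 17, 118, 59, 2), (64, false, 20, 116, 64, 2), (65, false, 21, 115, 65, 2), (78, false, 17, 118, 78, 2), (79, false, 17, 118, 79, 2), (81, false, 20, 116, 81, 2), (82, false, 21, 115, 82, 2), (93, false, 4, 124, 93, 1), (99, false, 17, 118, 99, 1), (101, false, 20, 116, 101, 1), (102, false, 21, 115, 102, 1), (104, false, 23, 113, 104, 1), (105, false, 24, 112, 105, 1), (108, false, 26, 109, 108, 1), (121, false, 32, 96, 121, 1)]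
def tRow76 : List (ℕ × Bool × ℕ × ℕ × ℕ × ℕ) := [(1, false, 18, 118, 1, 2), (7, false, 5, 124, 7, 2), (8, false, 5, 124, 8, 2), (10, false, 5, 124, 10, 2), (11, false, 5, 124, 11, 2), (13, false, 5, 124, 13, 2), (15, false, 5, 124, 15, 2), (28, false, 18, 118, 28, 2), (33, false, 5, 124, 33, 2), (35, false, 5, 124, 35, 2), (37, false, 5, 124, 37, 2), (40, false, 5, 124, 40, 2), (48, false, 5, 124, 48, 1), (50, false, 5, 124, 50, 1), (51, false, 5, 124, 51, 1), (52, false, 5, 124, 52, 1), (54, false, 18, 118, 54, 2), (58, false, 18, 118, 58, 2), (61, false, 20, 117, 61, 2), (63, false, 22, 115, 63, 2), (78, false, 18, 118, 78, 2), (79, false, 18, 118, 79, 2), (80, false, 20, 117, 80, 2), (82, false, 22, 115, 82, 2), (93, false, 5, 124, 93, 1), (99, false, 18, 118, 99, 1), (100, false, 20, 117, 100, 1), (102, false, 22, 115, 102, 1), (103, false, 23, 114, 103, 1), (105, false, 25, 112, 105, 1), (107, false, 26, 110, 107, 1), (120, false, 32, 97, 120, 1)]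
def tRow77 : List (ℕ × Bool × ℕ × ℕ × ℕ × ℕ) := [(1, false, 19, 118, 1, 2), (7, false, 6, 124, 7, 2), (8, false, 6, 124, 8, 2), (9, false, 6, 124, 9, 2), (11, false, 6, 124, 11, 2), (12, false, 6, 124, 12, 2), (14, false, 6, 124, 14, 2), (27, false, 19, 118, 27, 2), (33, false, 6, 124, 33, 2), (34, false, 6, 124, 34, 2), (36, false, 6, 124, 36, 2), (39, false, 6, 124, 39, 2), (49, false, 6, 124, 49, 1), (50, false, 6, 124, 50, 1), (51, false, 6, 124, 51, 1), (52, false, 6, 124, 52, 1), (53, false, 19, 118, 53, 2), (57, false, 19, 118, 57, 2), (60, false, 21, 117, 60, 2), (62, false, 22, 116, 62, 2), (78, false, 19, 118, 78, 2), (79, false, 19, 118, 79, 2), (80, false, 21, 117, 80, 2), (81, false, 22, 116, 81, 2), (93, false, 6, 124, 93, 1), (99, false, 19, 118, 99, 1), (100, false, 21, 117, 100, 1), (101, false, 22, 116, 101, 1), (103, false, 24, 114, 103, 1), (104, false, 25, 113, 104, 1), (106, false, 26, 111, 106, 1), (119, false, 32, 98, 119, 1)]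
def tRow78 : List (ℕ × Bool × ℕ × ℕ × ℕ × ℕ) := [(3, false, 8, 121, 3, 2), (4, false, 7, 122, 4, 2), (5, false, 7, 122, 5, 2), (6, false, 7, 122, 6, 2), (23, false, 7, 122, 23, 2), (24, false, 7, 122, 24, 2), (25, false, 7, 122, 25, 2), (26, false, 8, 121, 26, 2), (39, false, 7, 122, 39, 2), (40, false, 7, 122, 40, 2), (41, false, 7, 122, 41, 2), (42, false, 8, 121, 42, 2), (43, false, 7, 122, 43, 2), (44, false, 7, 122, 44, 2), (45, false, 7, 122, 45, 2), (46, false, 8, 121, 46, 2), (69, false, 7, 122, 69, 1), (70, false, 8, 121, 70, 1), (71, false, 9, 120, 71, 1), (72, false, 10, 119, 72, 1), (74, false, 7, 122, 74, 1), (75, false, 8, 121, 75, 1), (76, false, 9, 120, 76, 1), (77, false, 10, 119, 77, 1), (95, false, 7, 122, 95, 1), (96, false, 8, 121, 96, 1), (97, false, 9, 120, 97, 1), (98, false, 10, 119, 98, 1), (115, false, 27, 102, 115, 1), (116, false, 28, 101, 116, 1), (117, false, 29, 100, 117, 1), (118, false, 30, 99, 118, 1)]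
def tRow79 : List (ℕ × Bool × ℕ × ℕ × ℕ × ℕ) := [(2, false, 11, 121, 2, 2), (4, false, 7, 123, 4, 2), (5, false, 7, 123, 5, 2), (6, false, 7, 123, 6, 2), (20, false, 7, 123, 20, 2), (21, false, 7, 123, 21, 2), (22, false, 7, 123, 22, 2), (26, false, 11, 121, 26, 2), (36, false, 7, 123, 36, 2), (37, false, 7, 123, 37, 2), (38, false, 7, 123, 38, 2), (42, false, 11, 121, 42, 2), (43, false, 7, 123, 43, 2), (44, false, 7, 123, 44, 2), (45, false, 7, 123, 45, 2), (47, false, 11, 121, 47, 2), (56, false, 7, 123, 56, 1), (66, false, 11, 121, 66, 2), (67, false, 12, 120, 67, 2), (68, false, 13, 119, 68, 2), (73, false, 7, 123, 73, 1), (75, false, 11, 121, 75, 1), (76, false, 12, 120, 76, 1), (77, false, 13, 119, 77, 1), (94, false, 7, 123, 94, 1), (96, false, 11, 121, 96, 1), (97, false, 12, 120, 97, 1), (98, false, 13, 119, 98, 1), (112, false, 27, 105, 112, 1), (113, false, 28, 104, 113, 1), (114, false, 29, 103, 114, 1), (118, false, 31, 99, 118, 1)]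
def tRow80 : List (ℕ × Bool × ℕ × ℕ × ℕ × ℕ) := [(2, false, 11, 122, 2, 2), (3, false, 8, 123, 3, 2), (5, false, 8, 123, 5, 2), (6, false, 8, 123, 6, 2), (18, false, 8, 123, 18, 2), (19, false, 8, 123, 19, 2), (22, false, 8, 123, 22, 2), (25, false, 11, 122, 25, 2), (34, false, 8, 123, 34, 2), (35, false, 8, 123, 35, 2), (38, false, 8, 123, 38, 2), (41, false, 11, 122, 41, 2), (43, false, 8, 123, 43, 2), (44, false, 8, 123, 44, 2), (46, false, 8, 123, 46, 2), (47, false, 11, 122, 47, 2), (55, false, 8, 123, 55, 2), (59, false, 11, 122, 59, 2), (64, false, 14, 120, 64, 2), (65, false, 15, 119, 65, 2), (73, false, 8, 123, 73, 1), (74, false, 11, 122, 74, 1), (76, false, 14, 120, 76, 1), (77, false, 15, 119, 77, 1), (94, false, 8, 123, 94, 1), (95, false, 11, 122, 95, 1), (97, false, 14, 120, 97, 1), (98, false, 15, 119, 98, 1), (110, false, 27, 107, 110, 1), (111, false, 28, 106, 111, 1), (114, false, 30, 103, 114, 1), (117, false, 31, 100, 117, 1)]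
def tRow81 : List (ℕ × Bool × ℕ × ℕ × ℕ × ℕ) := [(2, false, 12, 122, 2, 2), (3, false, 9, 123, 3, 2), (4, false, 9, 123, 4, 2), (6, false, 9, 123, 6, 2), (17, false, 9, 123, 17, 2), (19, false, 9, 123, 19, 2), (21, false, 9, 123, 21, 2), (24, false, 12, 122, 24, 2), (33, false, 9, 123, 33, 2), (35, false, 9, 123, 35, 2), (37, false, 9, 123, 37, 2), (40, false, 12, 122, 40, 2), (43, false, 9, 123, 43, 2), (45, false, 9, 123, 45, 2), (46, false, 9, 123, 46, 2), (47, false, 12, 122, 47, 2), (54, false, 9, 123, 54, 2), (58, false, 12, 122, 58, 2), (61, false, 14, 121, 61, 2), (63, false, 16, 119, 63, 2), (73, false, 9, 123, 73, 1), (74, false, 12, 122, 74, 1), (75, false, 14, 121, 75, 1), (77, false, 16, 119, 77, 1), (94, false, 9, 123, 94, 1), (95, false, 12, 122, 95, 1), (96, false, 14, 121, 96, 1), (98, false, 16, 119, 98, 1), (109, false, 27, 108, 109, 1), (111, false, 29, 106, 111, 1), (113, false, 30, 104, 113, 1), (116, false, 31, 101, 116, 1)]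
def tRow82 : List (ℕ × Bool × ℕ × ℕ × ℕ × ℕ) := [(2, false, 13, 122, 2, 2), (3, false, 10, 123, 3, 2), (4, false, 10, 123, 4, 2), (5, false, 10, 123, 5, 2), (17, false, 10, 123, 17, 2), (18, false, 10, 123, 18, 2), (20, false, 10, 123, 20, 2), (23, false, 13, 122, 23, 2), (33, false, 10, 123, 33, 2), (34, false, 10, 123, 34, 2), (36, false, 10, 123, 36, 2), (39, false, 13, 122, 39, 2), (44, false, 10, 123, 44, 2), (45, false, 10, 123, 45, 2), (46, false, 10, 123, 46, 2), (47, false, 13, 122, 47, 2), (53, false, 10, 123, 53, 2), (57, false, 13, 122, 57, 2), (60, false, 15, 121, 60, 2), (62, false, 16, 120, 62, 2), (73, false, 10, 123, 73, 1), (74, false, 13, 122, 74, 1), (75, false, 15, 121, 75, 1), (76, false, 16, 120, 76, 1), (94, false, 10, 123, 94, 1), (95, false, 13, 122, 95, 1), (96, false, 15, 121, 96, 1), (97, false, 16, 120, 97, 1), (109, false, 28, 108, 109, 1), (110, false, 29, 107, 110, 1), (112, false, 30, 105, 112, 1), (115, false, 31, 102, 115, 1)]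
def tRow83 : List (ℕ × Bool × ℕ × ℕ × ℕ × ℕ) := [(1, false, 17, 121, 1, 2), (4, false, 7, 124, 4, 2), (5, false, 7, 124, 5, 2), (6, false, 7, 124, 6, 2), (14, false, 7, 124, 14, 2), (15, false, 7, 124, 15, 2), (16, false, 7, 124, 16, 2), (26, false, 17, 121, 26, 2), (36, false, 7, 124, 36, 2), (37, false, 7, 124, 37, 2), (38, false, 7, 124, 38, 2), (39, false, 7, 124, 39, 2), (40, false, 7, 124, 40, 2), (41, false, 7, 124, 41, 2), (46, false, 17, 121, 46, 2), (47, false, 17, 121, 47, 2), (51, false, 7, 124, 51, 1), (52, false, 7, 124, 52, 1), (66, false, 17, 121, 66, 2), (67, false, 18, 120, 67, 2), (68, false, 19, 119, 68, 2), (70, false, 17, 121, 70, 2), (71, false, 18, 120, 71, 2), (72, false, 19, 119, 72, 2), (93, false, 7, 124, 93, 1), (96, false, 17, 121, 96, 1), (97, false, 18, 120, 97, 1), (98, false, 19, 119, 98, 1), (106, false, 27, 111, 106, 1), (107, false, 28, 110, 107, 1), (108, false, 29, 109, 108, 1), (118, false, 32, 99, 118, 1)]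
def tRow84 : List (ℕ × Bool × ℕ × ℕ × ℕ × ℕ) := [(1, false, 17, 122, 1, 2), (3, false, 8, 124, 3, 2), (5, false, 8, 124, 5, 2), (6, false, 8, 124, 6, 2), (12, false, 8, 124, 12, 2), (13, false, 8, 124, 13, 2), (16, false, 8, 124, 16, 2), (25, false, 17, 122, 25, 2), (34, false, 8, 124, 34, 2), (35, false, 8, 124, 35, 2), (38, false, 8, 124, 38, 2), (39, false, 8, 124, 39, 2), (40, false, 8, 124, 40, 2), (42, false, 8, 124, 42, 2), (45, false, 17, 122, 45, 2), (47, false, 17, 122, 47, 2), (50, false, 8, 124, 50, 2), (52, false, 8, 124, 52, 1), (59, false, 17, 122, 59, 2), (64, false, 20, 120, 64, 2), (65, false, 21, 119, 65, 2), (69, false, 17, 122, 69, 2), (71, false, 20, 120, 71, 2), (72, false, 21, 119, 72, 2), (93, false, 8, 124, 93, 1), (95, false, 17, 122, 95, 1), (97, false, 20, 120, 97, 1), (98, false, 21, 119, 98, 1), (104, false, 27, 113, 104, 1), (105, false, 28, 112, 105, 1), (108, false, 30, 109, 108, 1), (117, false, 32, 100, 117, 1)]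
def tRow85 : List (ℕ × Bool × ℕ × ℕ × ℕ × ℕ) := [(1, false, 18, 122, 1, 2), (3, false, 9, 124, 3, 2), (4, false, 9, 124, 4, 2), (6, false, 9, 124, 6, 2), (11, false, 9, 124, 11, 2), (13, false, 9, 124, 13, 2), (15, false, 9, 124, 15, 2), (24, false, 18, 122, 24, 2), (33, false, 9, 124, 33, 2), (35, false, 9, 124, 35, 2), (37, false, 9, 124, 37, 2), (39, false, 9, 124, 39, 2), (41, false, 9, 124, 41, 2), (42, false, 9, 124, 42, 2), (44, false, 18, 122, 44, 2), (47, false, 18, 122, 47, 2), (49, false, 9, 124, 49, 2), (52, false, 9, 124, 52, 1), (58, false, 18, 122, 58, 2), (61, false, 20, 121, 61, 2), (63, false, 22, 119, 63, 2), (69, false, 18, 122, 69, 2), (70, false, 20, 121, 70, 2), (72, false, 22, 119, 72, 2), (93, false, 9, 124, 93, 1), (95, false, 18, 122, 95, 1), (96, false, 20, 121, 96, 1), (98, false, 22, 119, 98, 1), (103, false, 27, 114, 103, 1), (105, false, 29, 112, 105, 1), (107, false, 30, 110, 107, 1), (116, false, 32, 101, 116, 1)]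
def tRow86 : List (ℕ × Bool × ℕ × ℕ × ℕ × ℕ) := [(1, false, 19, 122, 1, 2), (3, false, 10, 124, 3, 2), (4, false, 10, 124, 4, 2), (5, false, 10, 124, 5, 2), (11, false, 10, 124, 11, 2), (12, false, 10, 124, 12, 2), (14, false, 10, 124, 14, 2), (23, false, 19, 122, 23, 2), (33, false, 10, 124, 33, 2), (34, false, 10, 124, 34, 2), (36, false, 10, 124, 36, 2), (40, false, 10, 124, 40, 2), (41, false, 10, 124, 41, 2), (42, false, 10, 124, 42, 2), (43, false, 19, 122, 43, 2), (47, false, 19, 122, 47, 2), (48, false, 10, 124, 48, 2), (52, false, 10, 124, 52, 1), (57, false, 19, 122, 57, 2), (60, false, 21, 121, 60, 2), (62, false, 22, 120, 62, 2), (69, false, 19, 122, 69, 2), (70, false, 21, 121, 70, 2), (71, false, 22, 120, 71, 2), (93, false, 10, 124, 93, 1), (95, false, 19, 122, 95, 1), (96, false, 21, 121, 96, 1), (97, false, 22, 120, 97, 1), (103, false, 28, 114, 103, 1), (104, false, 29, 113, 104, 1), (106, false, 30, 111, 106, 1), (115, false, 32, 102, 115, 1)]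
def tRow87 : List (ℕ × Bool × ℕ × ℕ × ℕ × ℕ) := [(1, false, 17, 123, 1, 2), (2, false, 11, 124, 2, 2), (5, false, 11, 124, 5, 2), (6, false, 11, 124, 6, 2), (9, false, 11, 124, 9, 2), (10, false, 11, 124, 10, 2), (16, false, 11, 124, 16, 2), (22, false, 17, 123, 22, 2), (34, false, 11, 124, 34, 2), (35, false, 11, 124, 35, 2), (36, false, 11, 124, 36, 2), (37, false, 11, 124, 37, 2), (41, false, 11, 124, 41, 2), (42, false, 11, 124, 42, 2), (45, false, 17, 123, 45, 2), (46, false, 17, 123, 46, 2), (50, false, 11, 124, 50, 2), (51, false, 11, 124, 51, 2), (55, false, 17, 123, 55, 2), (56, false, 17, 123, 56, 2), (64, false, 23, 120, 64, 2), (65, false, 24, 119, 65, 2), (67, false, 23, 120, 67, 2), (68, false, 24, 119, 68, 2), (93, false, 11, 124, 93, 1), (94, false, 17, 123, 94, 1), (97, false, 23, 120, 97, 1), (98, false, 24, 119, 98, 1), (101, false, 27, 116, 101, 1), (102, false, 28, 115, 102, 1), (108, false, 31, 109, 108, 1), (114, false, 32, 103, 114, 1)]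
def tRow88 : List (ℕ × Bool × ℕ × ℕ × ℕ × ℕ) := [(1, false, 18, 123, 1, 2), (2, false, 12, 124, 2, 2), (4, false, 12, 124, 4, 2), (6, false, 12, 124, 6, 2), (8, false, 12, 124, 8, 2), (10, false, 12, 124, 10, 2), (15, false, 12, 124, 15, 2), (21, false, 18, 123, 21, 2), (33, false, 12, 124, 33, 2), (35, false, 12, 124, 35, 2), (36, false, 12, 124, 36, 2), (38, false, 12, 124, 38, 2), (40, false, 12, 124, 40, 2), (42, false, 12, 124, 42, 2), (44, false, 18, 123, 44, 2), (46, false, 18, 123, 46, 2), (49, false, 12, 124, 49, 2), (51, false, 12, 124, 51, 2), (54, false, 18, 123, 54, 2), (56, false, 18, 123, 56, 2), (61, false, 23, 121, 61, 2), (63, false, 25, 119, 63, 2), (66, false, 23, 121, 66, 2), (68, false, 25, 119, 68, 2), (93, false, 12, 124, 93, 1), (94, false, 18, 123, 94, 1), (96, false, 23, 121, 96, 1), (98, false, 25, 119, 98, 1), (100, false, 27, 117, 100, 1), (102, false, 29, 115, 102, 1), (107, false, 31, 110, 107, 1), (113, false, 32, 104, 113, 1)]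
def tRow89 : List (ℕ × Bool × ℕ × ℕ × ℕ × ℕ) := [(1, false, 19, 123, 1, 2), (2, false, 13, 124, 2, 2), (4, false, 13, 124, 4, 2), (5, false, 13, 124, 5, 2), (8, false, 13, 124, 8, 2), (9, false, 13, 124, 9, 2), (14, false, 13, 124, 14, 2), (20, false, 19, 123, 20, 2), (33, false, 13, 124, 33, 2), (34, false, 13, 124, 34, 2), (37, false, 13, 124, 37, 2), (38, false, 13, 124, 38, 2), (39, false, 13, 124, 39, 2), (42, false, 13, 124, 42, 2), (43, false, 19, 123, 43, 2), (46, false, 19, 123, 46, 2), (48, false, 13, 124, 48, 2), (51, false, 13, 124, 51, 2), (53, false, 19, 123, 53, 2), (56, false, 19, 123, 56, 2), (60, false, 24, 121, 60, 2), (62, false, 25, 120, 62, 2), (66, false, 24, 121, 66, 2), (67, false, 25, 120, 67, 2), (93, false, 13, 124, 93, 1), (94, false, 19, 123, 94, 1), (96, false, 24, 121, 96, 1), (97, false, 25, 120, 97, 1), (100, false, 28, 117, 100, 1), (101, false, 29, 116, 101, 1), (106, false, 31, 111, 106, 1), (112, false, 32, 105, 112, 1)]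
def tRow90 : List (ℕ × Bool × ℕ × ℕ × ℕ × ℕ) := [(1, false, 20, 123, 1, 2), (2, false, 14, 124, 2, 2), (3, false, 14, 124, 3, 2), (6, false, 14, 124, 6, 2), (7, false, 14, 124, 7, 2), (10, false, 14, 124, 10, 2), (13, false, 14, 124, 13, 2), (19, false, 20, 123, 19, 2), (33, false, 14, 124, 33, 2), (34, false, 14, 124, 34, 2), (37, false, 14, 124, 37, 2), (38, false, 14, 124, 38, 2), (40, false, 14, 124, 40, 2), (41, false, 14, 124, 41, 2), (44, false, 20, 123, 44, 2), (45, false, 20, 123, 45, 2), (49, false, 14, 124, 49, 2), (50, false, 14, 124, 50, 2), (54, false, 20, 123, 54, 2), (55, false, 20, 123, 55, 2), (58, false, 23, 122, 58, 2), (59, false, 23, 122, 59, 2), (63, false, 26, 119, 63, 2), (65, false, 26, 119, 65, 2), (93, false, 14, 124, 93, 1), (94, false, 20, 123, 94, 1), (95, false, 23, 122, 95, 1), (98, false, 26, 119, 98, 1), (99, false, 27, 118, 99, 1), (102, false, 30, 115, 102, 1), (105, false, 31, 112, 105, 1), (111, false, 32, 106, 111, 1)]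
def tRow91 : List (ℕ × Bool × ℕ × ℕ × ℕ × ℕ) := [(1, false, 21, 123, 1, 2), (2, false, 15, 124, 2, 2), (3, false, 15, 124, 3, 2), (5, false, 15, 124, 5, 2), (7, false, 15, 124, 7, 2), (9, false, 15, 124, 9, 2), (12, false, 15, 124, 12, 2), (18, false, 21, 123, 18, 2), (33, false, 15, 124, 33, 2), (35, false, 15, 124, 35, 2), (36, false, 15, 124, 36, 2), (38, false, 15, 124, 38, 2), (39, false, 15, 124, 39, 2), (41, false, 15, 124, 41, 2), (43, false, 21, 123, 43, 2), (45, false, 21, 123, 45, 2), (48, false, 15, 124, 48, 2), (50, false, 15, 124, 50, 2), (53, false, 21, 123, 53, 2), (55, false, 21, 123, 55, 2), (57, false, 24, 122, 57, 2), (59, false, 24, 122, 59, 2), (62, false, 26, 120, 62, 2), (64, false, 26, 120, 64, 2), (93, false, 15, 124, 93, 1), (94, false, 21, 123, 94, 1), (95, false, 24, 122, 95, 1), (97, false, 26, 120, 97, 1), (99, false, 28, 118, 99, 1), (101, false, 30, 116, 101, 1), (104, false, 31, 113, 104, 1), (110, false, 32, 107, 110, 1)]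
def tRow92 : List (ℕ × Bool × ℕ × ℕ × ℕ × ℕ) := [(1, false, 22, 123, 1, 2), (2, false, 16, 124, 2, 2), (3, false, 16, 124, 3, 2), (4, false, 16, 124, 4, 2), (7, false, 16, 124, 7, 2), (8, false, 16, 124, 8, 2), (11, false, 16, 124, 11, 2), (17, false, 22, 123, 17, 2), (34, false, 16, 124, 34, 2), (35, false, 16, 124, 35, 2), (36, false, 16, 124, 36, 2), (37, false, 16, 124, 37, 2), (39, false, 16, 124, 39, 2), (40, false, 16, 124, 40, 2), (43, false, 22, 123, 43, 2), (44, false, 22, 123, 44, 2), (48, false, 16, 124, 48, 2), (49, false, 16, 124, 49, 2), (53, false, 22, 123, 53, 2), (54, false, 22, 123, 54, 2), (57, false, 25, 122, 57, 2), (58, false, 25, 122, 58, 2), (60, false, 26, 121, 60, 2), (61, false, 26, 121, 61, 2), (93, false, 16, 124, 93, 1), (94, false, 22, 123, 94, 1), (95, false, 25, 122, 95, 1), (96, false, 26, 121, 96, 1), (99, false, 29, 118, 99, 1), (100, false, 30, 117, 100, 1), (103, false, 31, 114, 103, 1), (109, false, 32, 108, 109, 1)]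
def tRow93 : List (ℕ × Bool × ℕ × ℕ × ℕ × ℕ) := [(0, false, 33, 108, 0, 3), (17, false, 1, 125, 17, 1), (18, false, 1, 125, 18, 1), (19, false, 1, 125, 19, 1), (20, false, 1, 125, 20, 1), (21, false, 1, 125, 21, 1), (22, false, 1, 125, 22, 1), (23, false, 1, 125, 23, 1), (24, false, 1, 125, 24, 1), (25, false, 1, 125, 25, 1), (26, false, 1, 125, 26, 1), (27, false, 1, 125, 27, 1), (28, false, 1, 125, 28, 1), (29, false, 1, 125, 29, 1), (30, false, 1, 125, 30, 1), (31, false, 1, 125, 31, 1), (73, false, 33, 108, 73, 2), (74, false, 33, 108, 74, 2), (75, false, 33, 108, 75, 2), (76, false, 34, 107, 76, 2), (77, false, 35, 106, 77, 2), (83, false, 33, 108, 83, 2), (84, false, 33, 108, 84, 2), (85, false, 34, 107, 85, 2), (86, false, 35, 106, 86, 2), (87, false, 33, 108, 87, 2), (88, false, 34, 107, 88, 2), (89, false, 35, 106, 89, 2), (90, false, 36, 105, 90, 2), (91, false, 37, 104, 91, 2), (92, false, 38, 103, 92, 2), (124, true, 93, 73, 123, 0)]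
def tRow94 : List (ℕ × Bool × ℕ × ℕ × ℕ × ℕ) := [(0, false, 33, 114, 0, 3), (11, false, 2, 125, 11, 2), (12, false, 2, 125, 12, 2), (13, false, 2, 125, 13, 2), (14, false, 2, 125, 14, 2), (15, false, 2, 125, 15, 2), (16, false, 2, 125, 16, 2), (23, false, 2, 125, 23, 1), (24, false, 2, 125, 24, 1), (25, false, 2, 125, 25, 1), (26, false, 2, 125, 26, 1), (27, false, 2, 125, 27, 1), (28, false, 2, 125, 28, 1), (29, false, 2, 125, 29, 1), (30, false, 2, 125, 30, 1), (32, false, 2, 125, 32, 1), (52, false, 33, 114, 52, 2), (69, false, 33, 114, 69, 2), (70, false, 33, 114, 70, 2), (71, false, 34, 113, 71, 2), (72, false, 35, 112, 72, 2), (79, false, 33, 114, 79, 2), (80, false, 33, 114, 80, 2), (81, false, 34, 113, 81, 2), (82, false, 35, 112, 82, 2), (87, false, 33, 114, 87, 2), (88, false, 34, 113, 88, 2), (89, false, 35, 112, 89, 2), (90, false, 36, 111, 90, 2), (91, false, 37, 110, 91, 2), (92, false, 38, 109, 92, 2), (123, false, 93, 73, 123, 1)]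
def tRow95 : List (ℕ × Bool × ℕ × ℕ × ℕ × ℕ) := [(0, false, 33, 117, 0, 3), (8, false, 3, 125, 8, 2), (9, false, 3, 125, 9, 2), (10, false, 3, 125, 10, 2), (14, false, 3, 125, 14, 2), (15, false, 3, 125, 15, 2), (16, false, 3, 125, 16, 2), (20, false, 3, 125, 20, 2), (21, false, 3, 125, 21, 2), (22, false, 3, 125, 22, 2), (26, false, 3, 125, 26, 1), (27, false, 3, 125, 27, 1), (28, false, 3, 125, 28, 1), (29, false, 3, 125, 29, 1), (31, false, 3, 125, 31, 1), (32, false, 3, 125, 32, 1), (51, false, 33, 117, 51, 2), (56, false, 33, 117, 56, 2), (66, false, 33, 117, 66, 2), (67, false, 34, 116, 67, 2), (68, false, 35, 115, 68, 2), (78, false, 33, 117, 78, 2), (80, false, 33, 117, 80, 2), (81, false, 34, 116, 81, 2), (82, false, 35, 115, 82, 2), (84, false, 33, 117, 84, 2), (85, false, 34, 116, 85, 2), (86, false, 35, 115, 86, 2), (90, false, 39, 111, 90, 2), (91, false, 40, 110, 91, 2), (92, false, 41, 109, 92, 2), (122, false, 93, 74, 122, 1)]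
def tRow96 : List (ℕ × Bool × ℕ × ℕ × ℕ × ℕ) := [(0, false, 33, 118, 0, 3), (7, false, 4, 125, 7, 2), (9, false, 4, 125, 9, 2), (10, false, 4, 125, 10, 2), (12, false, 4, 125, 12, 2), (13, false, 4, 125, 13, 2), (16, false, 4, 125, 16, 2), (18, false, 4, 125, 18, 2), (19, false, 4, 125, 19, 2), (22, false, 4, 125, 22, 2), (25, false, 4, 125, 25, 2), (27, false, 4, 125, 27, 1), (28, false, 4, 125, 28, 1), (30, false, 4, 125, 30, 1), (31, false, 4, 125, 31, 1), (32, false, 4, 125, 32, 1), (50, false, 33, 118, 50, 2), (55, false, 33, 118, 55, 2), (59, false, 33, 118, 59, 2), (64, false, 36, 116, 64, 2), (65, false, 37, 115, 65, 2), (78, false, 33, 118, 78, 2), (79, false, 33, 118, 79, 2), (81, false, 36, 116, 81, 2), (82, false, 37, 115, 82, 2), (83, false, 33, 118, 83, 2), (85, false, 36, 116, 85, 2), (86, false, 37, 115, 86, 2), (88, false, 39, 113, 88, 2), (89, false, 40, 112, 89, 2), (92, false, 42, 109, 92, 2), (121, false, 93, 75, 121, 1)]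
def tRow97 : List (ℕ × Bool × ℕ × ℕ × ℕ × ℕ) := [(0, false, 34, 118, 0, 3), (7, false, 5, 125, 7, 2), (8, false, 5, 125, 8, 2), (10, false, 5, 125, 10, 2), (11, false, 5, 125, 11, 2), (13, false, 5, 125, 13, 2), (15, false, 5, 125, 15, 2), (17, false, 5, 125, 17, 2), (19, false, 5, 125, 19, 2), (21, false, 5, 125, 21, 2), (24, false, 5, 125, 24, 2), (27, false, 5, 125, 27, 1), (29, false, 5, 125, 29, 1), (30, false, 5, 125, 30, 1), (31, false, 5, 125, 31, 1), (32, false, 5, 125, 32, 1), (49, false, 34, 118, 49, 2), (54, false, 34, 118, 54, 2), (58, false, 34, 118, 58, 2), (61, false, 36, 117, 61, 2), (63, false, 38, 115, 63, 2), (78, false, 34, 118, 78, 2), (79, false, 34, 118, 79, 2), (80, false, 36, 117, 80, 2), (82, false, 38, 115, 82, 2), (83, false, 34, 118, 83, 2), (84, false, 36, 117, 84, 2), (86, false, 38, 115, 86, 2), (87, false, 39, 114, 87, 2), (89, false, 41, 112, 89, 2), (91, false, 42, 110, 91, 2), (120, false, 93, 76, 120, 1)]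
def tRow98 : List (ℕ × Bool × ℕ × ℕ × ℕ × ℕ) := [(0, false, 35, 118, 0, 3), (7, false, 6, 125, 7, 2), (8, false, 6, 125, 8, 2), (9, false, 6, 125, 9, 2), (11, false, 6, 125, 11, 2), (12, false, 6, 125, 12, 2), (14, false, 6, 125, 14, 2), (17, false, 6, 125, 17, 2), (18, false, 6, 125, 18, 2), (20, false, 6, 125, 20, 2), (23, false, 6, 125, 23, 2), (28, false, 6, 125, 28, 1), (29, false, 6, 125, 29, 1), (30, false, 6, 125, 30, 1), (31, false, 6, 125, 31, 1), (32, false, 6, 125, 32, 1), (48, false, 35, 118, 48, 2), (53, false, 35, 118, 53, 2), (57, false, 35, 118, 57, 2), (60, false, 37, 117, 60, 2), (62, false, 38, 116, 62, 2), (78, false, 35, 118, 78, 2), (79, false, 35, 118, 79, 2), (80, false, 37, 117, 80, 2), (81, false, 38, 116, 81, 2), (83, false, 35, 118, 83, 2), (84, false, 37, 117, 84, 2), (85, false, 38, 116, 85, 2), (87, false, 40, 114, 87, 2), (88, false, 41, 113, 88, 2), (90, false, 42, 111, 90, 2), (119, false, 93, 77, 119, 1)]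
def tRow99 : List (ℕ × Bool × ℕ × ℕ × ℕ × ℕ) := [(0, false, 33, 121, 0, 3), (4, false, 7, 125, 4, 2), (5, false, 7, 125, 5, 2), (6, false, 7, 125, 6, 2), (14, false, 7, 125, 14, 2), (15, false, 7, 125, 15, 2), (16, false, 7, 125, 16, 2), (20, false, 7, 125, 20, 2), (21, false, 7, 125, 21, 2), (22, false, 7, 125, 22, 2), (23, false, 7, 125, 23, 2), (24, false, 7, 125, 24, 2), (25, false, 7, 125, 25, 2), (30, false, 7, 125, 30, 1), (31, false, 7, 125, 31, 1), (32, false, 7, 125, 32, 1), (42, false, 33, 121, 42, 2), (46, false, 33, 121, 46, 2), (47, false, 33, 121, 47, 2), (66, false, 33, 121, 66, 2), (67, false, 34, 120, 67, 2), (68, false, 35, 119, 68, 2), (70, false, 33, 121, 70, 2), (71, false, 34, 120, 71, 2), (72, false, 35, 119, 72, 2), (75, false, 33, 121, 75, 2), (76, false, 34, 120, 76, 2), (77, false, 35, 119, 77, 2), (90, false, 48, 111, 90, 2), (91, false, 49, 110, 91, 2), (92, false, 50, 109, 92, 2), (118, false, 93, 83, 118, 1)]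
def tRow100 : List (ℕ × Bool × ℕ × ℕ × ℕ × ℕ) := [(0, false, 33, 122, 0, 3), (3, false, 8, 125, 3, 2), (5, false, 8, 125, 5, 2), (6, false, 8, 125, 6, 2), (12, false, 8, 125, 12, 2), (13, false, 8, 125, 13, 2), (16, false, 8, 125, 16, 2), (18, false, 8, 125, 18, 2), (19, false, 8, 125, 19, 2), (22, false, 8, 125, 22, 2), (23, false, 8, 125, 23, 2), (24, false, 8, 125, 24, 2), (26, false, 8, 125, 26, 2), (29, false, 8, 125, 29, 2), (31, false, 8, 125, 31, 1), (32, false, 8, 125, 32, 1), (41, false, 33, 122, 41, 2), (45, false, 33, 122, 45, 2), (47, false, 33, 122, 47, 2), (59, false, 33, 122, 59, 2), (64, false, 36, 120, 64, 2), (65, false, 37, 119, 65, 2), (69, false, 33, 122, 69, 2), (71, false, 36, 120, 71, 2), (72, false, 37, 119, 72, 2), (74, false, 33, 122, 74, 2), (76, false, 36, 120, 76, 2), (77, false, 37, 119, 77, 2), (88, false, 48, 113, 88, 2), (89, false, 49, 112, 89, 2), (92, false, 51, 109, 92, 2), (117, false, 93, 84, 117, 1)]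
def tRow101 : List (ℕ × Bool × ℕ × ℕ × ℕ × ℕ) := [(0, false, 34, 122, 0, 3), (3, false, 9, 125, 3, 2), (4, false, 9, 125, 4, 2), (6, false, 9, 125, 6, 2), (11, false, 9, 125, 11, 2), (13, false, 9, 125, 13, 2), (15, false, 9, 125, 15, 2), (17, false, 9, 125, 17, 2), (19, false, 9, 125, 19, 2), (21, false, 9, 125, 21, 2), (23, false, 9, 125, 23, 2), (25, false, 9, 125, 25, 2), (26, false, 9, 125, 26, 2), (28, false, 9, 125, 28, 2), (31, false, 9, 125, 31, 1), (32, false, 9, 125, 32, 1), (40, false, 34, 122, 40, 2), (44, false, 34, 122, 44, 2), (47, false, 34, 122, 47, 2), (58, false, 34, 122, 58, 2), (61, false, 36, 121, 61, 2), (63, false, 38, 119, 63, 2), (69, false, 34, 122, 69, 2), (70, false, 36, 121, 70, 2), (72, false, 38, 119, 72, 2), (74, false, 34, 122, 74, 2), (75, false, 36, 121, 75, 2), (77, false, 38, 119, 77, 2), (87, false, 48, 114, 87, 2), (89, false, 50, 112, 89, 2), (91, false, 51, 110, 91, 2), (116, false, 93, 85, 116, 1)]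
def tRow102 : List (ℕ × Bool × ℕ × ℕ × ℕ × ℕ) := [(0, false, 35, 122, 0, 3), (3, false, 10, 125, 3, 2), (4, false, 10, 125, 4, 2), (5, false, 10, 125, 5, 2), (11, false, 10, 125, 11, 2), (12, false, 10, 125, 12, 2), (14, false, 10, 125, 14, 2), (17, false, 10, 125, 17, 2), (18, false, 10, 125, 18, 2), (20, false, 10, 125, 20, 2), (24, false, 10, 125, 24, 2), (25, false, 10, 125, 25, 2), (26, false, 10, 125, 26, 2), (27, false, 10, 125, 27, 2), (31, false, 10, 125, 31, 1), (32, false, 10, 125, 32, 1), (39, false, 35, 122, 39, 2), (43, false, 35, 122, 43, 2), (47, false, 35, 122, 47, 2), (57, false, 35, 122, 57, 2), (60, false, 37, 121, 60, 2), (62, false, 38, 120, 62, 2), (69, false, 35, 122, 69, 2), (70, false, 37, 121, 70, 2), (71, false, 38, 120, 71, 2), (74, false, 35, 122, 74, 2), (75, false, 37, 121, 75, 2), (76, false, 38, 120, 76, 2), (87, false, 49, 114, 87, 2), (88, false, 50, 113, 88, 2), (90, false, 51, 111, 90, 2), (115, false, 93, 86, 115, 1)]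
def tRow103 : List (ℕ × Bool × ℕ × ℕ × ℕ × ℕ) := [(0, false, 33, 123, 0, 3), (2, false, 11, 125, 2, 2), (5, false, 11, 125, 5, 2), (6, false, 11, 125, 6, 2), (9, false, 11, 125, 9, 2), (10, false, 11, 125, 10, 2), (16, false, 11, 125, 16, 2), (18, false, 11, 125, 18, 2), (19, false, 11, 125, 19, 2), (20, false, 11, 125, 20, 2), (21, false, 11, 125, 21, 2), (25, false, 11, 125, 25, 2), (26, false, 11, 125, 26, 2), (29, false, 11, 125, 29, 2), (30, false, 11, 125, 30, 2), (32, false, 11, 125, 32, 1), (38, false, 33, 123, 38, 2), (45, false, 33, 123, 45, 2), (46, false, 33, 123, 46, 2), (55, false, 33, 123, 55, 2), (56, false, 33, 123, 56, 2), (64, false, 39, 120, 64, 2), (65, false, 40, 119, 65, 2), (67, false, 39, 120, 67, 2), (68, false, 40, 119, 68, 2), (73, false, 33, 123, 73, 2), (76, false, 39, 120, 76, 2), (77, false, 40, 119, 77, 2), (85, false, 48, 116, 85, 2), (86, false, 49, 115, 86, 2), (92, false, 52, 109, 92, 2), (114, false, 93, 87, 114, 1)]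
def tRow104 : List (ℕ × Bool × ℕ × ℕ × ℕ × ℕ) := [(0, false, 34, 123, 0, 3), (2, false, 12, 125, 2, 2), (4, false, 12, 125, 4, 2), (6, false, 12, 125, 6, 2), (8, false, 12, 125, 8, 2), (10, false, 12, 125, 10, 2), (15, false, 12, 125, 15, 2), (17, false, 12, 125, 17, 2), (19, false, 12, 125, 19, 2), (20, false, 12, 125, 20, 2), (22, false, 12, 125, 22, 2), (24, false, 12, 125, 24, 2), (26, false, 12, 125, 26, 2), (28, false, 12, 125, 28, 2), (30, false, 12, 125, 30, 2), (32, false, 12, 125, 32, 1), (37, false, 34, 123, 37, 2), (44, false, 34, 123, 44, 2), (46, false, 34, 123, 46, 2), (54, false, 34, 123, 54, 2), (56, false, 34, 123, 56, 2), (61, false, 39, 121, 61, 2), (63, false, 41, 119, 63, 2), (66, false, 39, 121, 66, 2), (68, false, 41, 119, 68, 2), (73, false, 34, 123, 73, 2), (75, false, 39, 121, 75, 2), (77, false, 41, 119, 77, 2), (84, false, 48, 117, 84, 2), (86, false, 50, 115, 86, 2), (91, false, 52, 110, 91, 2), (113, false, 93, 88, 113, 1)]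
def tRow105 : List (ℕ × Bool × ℕ × ℕ × ℕ × ℕ) := [(0, false, 35, 123, 0, 3), (2, false, 13, 125, 2, 2), (4, false, 13, 125, 4, 2), (5, false, 13, 125, 5, 2), (8, false, 13, 125, 8, 2), (9, false, 13, 125, 9, 2), (14, false, 13, 125, 14, 2), (17, false, 13, 125, 17, 2), (18, false, 13, 125, 18, 2), (21, false, 13, 125, 21, 2), (22, false, 13, 125, 22, 2), (23, false, 13, 125, 23, 2), (26, false, 13, 125, 26, 2), (27, false, 13, 125, 27, 2), (30, false, 13, 125, 30, 2), (32, false, 13, 125, 32, 1), (36, false, 35, 123, 36, 2), (43, false, 35, 123, 43, 2), (46, false, 35, 123, 46, 2), (53, false, 35, 123, 53, 2), (56, false, 35, 123, 56, 2), (60, false, 40, 121, 60, 2), (62, false, 41, 120, 62, 2), (66, false, 40, 121, 66, 2), (67, false, 41, 120, 67, 2), (73, false, 35, 123, 73, 2), (75, false, 40, 121, 75, 2), (76, false, 41, 120, 76, 2), (84, false, 49, 117, 84, 2), (85, false, 50, 116, 85, 2), (90, false, 52, 111, 90, 2), (112, false, 93, 89, 112, 1)]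
def tRow106 : List (ℕ × Bool × ℕ × ℕ × ℕ × ℕ) := [(0, false, 36, 123, 0, 3), (2, false, 14, 125, 2, 2), (3, false, 14, 125, 3, 2), (6, false, 14, 125, 6, 2), (7, false, 14, 125, 7, 2), (10, false, 14, 125, 10, 2), (13, false, 14, 125, 13, 2), (17, false, 14, 125, 17, 2), (18, false, 14, 125, 18, 2), (21, false, 14, 125, 21, 2), (22, false, 14, 125, 22, 2), (24, false, 14, 125, 24, 2), (25, false, 14, 125, 25, 2), (28, false, 14, 125, 28, 2), (29, false, 14, 125, 29, 2), (32, false, 14, 125, 32, 1), (35, false, 36, 123, 35, 2), (44, false, 36, 123, 44, 2), (45, false, 36, 123, 45, 2), (54, false, 36, 123, 54, 2), (55, false, 36, 123, 55, 2), (58, false, 39, 122, 58, 2), (59, false, 39, 122, 59, 2), (63, false, 42, 119, 63, 2), (65, false, 42, 119, 65, 2), (73, false, 36, 123, 73, 2), (74, false, 39, 122, 74, 2), (77, false, 42, 119, 77, 2), (83, false, 48, 118, 83, 2), (86, false, 51, 115, 86, 2), (89, false, 52, 112, 89, 2), (111, false, 93, 90, 111, 1)]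
def tRow107 : List (ℕ × Bool × ℕ × ℕ × ℕ × ℕ) := [(0, false, 37, 123, 0, 3), (2, false, 15, 125, 2, 2), (3, false, 15, 125, 3, 2), (5, false, 15, 125, 5, 2), (7, false, 15, 125, 7, 2), (9, false, 15, 125, 9, 2), (12, false, 15, 125, 12, 2), (17, false, 15, 125, 17, 2), (19, false, 15, 125, 19, 2), (20, false, 15, 125, 20, 2), (22, false, 15, 125, 22, 2), (23, false, 15, 125, 23, 2), (25, false, 15, 125, 25, 2), (27, false, 15, 125, 27, 2), (29, false, 15, 125, 29, 2), (32, false, 15, 125, 32, 1), (34, false, 37, 123, 34, 2), (43, false, 37, 123, 43, 2), (45, false, 37, 123, 45, 2), (53, false, 37, 123, 53, 2), (55, false, 37, 123, 55, 2), (57, false, 40, 122, 57, 2), (59, false, 40, 122, 59, 2), (62, false, 42, 120, 62, 2), (64, false, 42, 120, 64, 2), (73, false, 37, 123, 73, 2), (74, false, 40, 122, 74, 2), (76, false, 42, 120, 76, 2), (83, false, 49, 118, 83, 2), (85, false, 51, 116, 85, 2), (88, false, 52, 113, 88, 2), (110, false, 93, 91, 110, 1)]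
def tRow108 : List (ℕ × Bool × ℕ × ℕ × ℕ × ℕ) := [(0, false, 38, 123, 0, 3), (2, false, 16, 125, 2, 2), (3, false, 16, 125, 3, 2), (4, false, 16, 125, 4, 2), (7, false, 16, 125, 7, 2), (8, false, 16, 125, 8, 2), (11, false, 16, 125, 11, 2), (18, false, 16, 125, 18, 2), (19, false, 16, 125, 19, 2), (20, false, 16, 125, 20, 2), (21, false, 16, 125, 21, 2), (23, false, 16, 125, 23, 2), (24, false, 16, 125, 24, 2), (27, false, 16, 125, 27, 2), (28, false, 16, 125, 28, 2), (32, false, 16, 125, 32, 1), (33, false, 38, 123, 33, 2), (43, false, 38, 123, 43, 2), (44, false, 38, 123, 44, 2), (53, false, 38, 123, 53, 2), (54, false, 38, 123, 54, 2), (57, false, 41, 122, 57, 2), (58, false, 41, 122, 58, 2), (60, false, 42, 121, 60, 2), (61, false, 42, 121, 61, 2), (73, false, 38, 123, 73, 2), (74, false, 41, 122, 74, 2), (75, false, 42, 121, 75, 2), (83, false, 50, 118, 83, 2), (84, false, 51, 117, 84, 2), (87, false, 52, 114, 87, 2), (109, false, 93, 92, 109, 1)]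
def tRow109 : List (ℕ × Bool × ℕ × ℕ × ℕ × ℕ) := [(0, false, 33, 124, 0, 3), (1, false, 17, 125, 1, 3), (5, false, 17, 125, 5, 2), (6, false, 17, 125, 6, 2), (9, false, 17, 125, 9, 2), (10, false, 17, 125, 10, 2), (12, false, 17, 125, 12, 2), (13, false, 17, 125, 13, 2), (14, false, 17, 125, 14, 2), (15, false, 17, 125, 15, 2), (22, false, 17, 125, 22, 2), (25, false, 17, 125, 25, 2), (26, false, 17, 125, 26, 2), (29, false, 17, 125, 29, 2), (30, false, 17, 125, 30, 2), (31, false, 17, 125, 31, 2), (38, false, 33, 124, 38, 2), (41, false, 33, 124, 41, 2), (42, false, 33, 124, 42, 2), (50, false, 33, 124, 50, 2), (51, false, 33, 124, 51, 2), (52, false, 33, 124, 52, 2), (64, false, 43, 120, 64, 2), (65, false, 44, 119, 65, 2), (67, false, 43, 120, 67, 2), (68, false, 44, 119, 68, 2), (71, false, 43, 120, 71, 2), (72, false, 44, 119, 72, 2), (81, false, 53, 116, 81, 2), (82, false, 54, 115, 82, 2), (92, false, 73, 103, 92, 2), (108, false, 94, 87, 108, 2)]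
def tRow110 : List (ℕ × Bool × ℕ × ℕ × ℕ × ℕ) := [(0, false, 34, 124, 0, 3), (1, false, 18, 125, 1, 3), (4, false, 18, 125, 4, 2), (6, false, 18, 125, 6, 2), (8, false, 18, 125, 8, 2), (10, false, 18, 125, 10, 2), (11, false, 18, 125, 11, 2), (13, false, 18, 125, 13, 2), (14, false, 18, 125, 14, 2), (16, false, 18, 125, 16, 2), (21, false, 18, 125, 21, 2), (24, false, 18, 125, 24, 2), (26, false, 18, 125, 26, 2), (28, false, 18, 125, 28, 2), (30, false, 18, 125, 30, 2), (31, false, 18, 125, 31, 2), (37, false, 34, 124, 37, 2), (40, false, 34, 124, 40, 2), (42, false, 34, 124, 42, 2), (49, false, 34, 124, 49, 2), (51, false, 34, 124, 51, 2), (52, false, 34, 124, 52, 2), (61, false, 43, 121, 61, 2), (63, false, 45, 119, 63, 2), (66, false, 43, 121, 66, 2), (68, false, 45, 119, 68, 2), (70, false, 43, 121, 70, 2), (72, false, 45, 119, 72, 2), (80, false, 53, 117, 80, 2), (82, false, 55, 115, 82, 2), (91, false, 73, 104, 91, 2), (107, false, 94, 88, 107, 2)]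
def tRow111 : List (ℕ × Bool × ℕ × ℕ × ℕ × ℕ) := [(0, false, 35, 124, 0, 3), (1, false, 19, 125, 1, 3), (4, false, 19, 125, 4, 2), (5, false, 19, 125, 5, 2), (8, false, 19, 125, 8, 2), (9, false, 19, 125, 9, 2), (11, false, 19, 125, 11, 2), (12, false, 19, 125, 12, 2), (15, false, 19, 125, 15, 2), (16, false, 19, 125, 16, 2), (20, false, 19, 125, 20, 2), (23, false, 19, 125, 23, 2), (26, false, 19, 125, 26, 2), (27, false, 19, 125, 27, 2), (30, false, 19, 125, 30, 2), (31, false, 19, 125, 31, 2), (36, false, 35, 124, 36, 2), (39, false, 35, 124, 39, 2), (42, false, 35, 124, 42, 2), (48, false, 35, 124, 48, 2), (51, false, 35, 124, 51, 2), (52, false, 35, 124, 52, 2), (60, false, 44, 121, 60, 2), (62, false, 45, 120, 62, 2), (66, false, 44, 121, 66, 2), (67, false, 45, 120, 67, 2), (70, false, 44, 121, 70, 2), (71, false, 45, 120, 71, 2), (80, false, 54, 117, 80, 2), (81, false, 55, 116, 81, 2), (90, false, 73, 105, 90, 2), (106, false, 94, 89, 106, 2)]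
def tRow112 : List (ℕ × Bool × ℕ × ℕ × ℕ × ℕ) := [(0, false, 36, 124, 0, 3), (1, false, 20, 125, 1, 3), (3, false, 20, 125, 3, 2), (6, false, 20, 125, 6, 2), (7, false, 20, 125, 7, 2), (10, false, 20, 125, 10, 2), (11, false, 20, 125, 11, 2), (12, false, 20, 125, 12, 2), (15, false, 20, 125, 15, 2), (16, false, 20, 125, 16, 2), (19, false, 20, 125, 19, 2), (24, false, 20, 125, 24, 2), (25, false, 20, 125, 25, 2), (28, false, 20, 125, 28, 2), (29, false, 20, 125, 29, 2), (31, false, 20, 125, 31, 2), (35, false, 36, 124, 35, 2), (40, false, 36, 124, 40, 2), (41, false, 36, 124, 41, 2), (49, false, 36, 124, 49, 2), (50, false, 36, 124, 50, 2), (52, false, 36, 124, 52, 2), (58, false, 43, 122, 58, 2), (59, false, 43, 122, 59, 2), (63, false, 46, 119, 63, 2), (65, false, 46, 119, 65, 2), (69, false, 43, 122, 69, 2), (72, false, 46, 119, 72, 2), (79, false, 53, 118, 79, 2), (82, false, 56, 115, 82, 2), (89, false, 73, 106, 89, 2), (105, false, 94, 90, 105, 2)]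
def tRow113 : List (ℕ × Bool × ℕ × ℕ × ℕ × ℕ) := [(0, false, 37, 124, 0, 3), (1, false, 21, 125, 1, 3), (3, false, 21, 125, 3, 2), (5, false, 21, 125, 5, 2), (7, false, 21, 125, 7, 2), (9, false, 21, 125, 9, 2), (11, false, 21, 125, 11, 2), (13, false, 21, 125, 13, 2), (14, false, 21, 125, 14, 2), (16, false, 21, 125, 16, 2), (18, false, 21, 125, 18, 2), (23, false, 21, 125, 23, 2), (25, false, 21, 125, 25, 2), (27, false, 21, 125, 27, 2), (29, false, 21, 125, 29, 2), (31, false, 21, 125, 31, 2), (34, false, 37, 124, 34, 2), (39, false, 37, 124, 39, 2), (41, false, 37, 124, 41, 2), (48, false, 37, 124, 48, 2), (50, false, 37, 124, 50, 2), (52, false, 37, 124, 52, 2), (57, false, 44, 122, 57, 2), (59, false, 44, 122, 59, 2), (62, false, 46, 120, 62, 2), (64, false, 46, 120, 64, 2), (69, false, 44, 122, 69, 2), (71, false, 46, 120, 71, 2), (79, false, 54, 118, 79, 2), (81, false, 56, 116, 81, 2), (88, false, 73, 107, 88, 2), (104, false, 94, 91, 104, 2)]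
def tRow114 : List (ℕ × Bool × ℕ × ℕ × ℕ × ℕ) := [(0, false, 38, 124, 0, 3), (1, false, 22, 125, 1, 3), (3, false, 22, 125, 3, 2), (4, false, 22, 125, 4, 2), (7, false, 22, 125, 7, 2), (8, false, 22, 125, 8, 2), (12, false, 22, 125, 12, 2), (13, false, 22, 125, 13, 2), (14, false, 22, 125, 14, 2), (15, false, 22, 125, 15, 2), (17, false, 22, 125, 17, 2), (23, false, 22, 125, 23, 2), (24, false, 22, 125, 24, 2), (27, false, 22, 125, 27, 2), (28, false, 22, 125, 28, 2), (31, false, 22, 125, 31, 2), (33, false, 38, 124, 33, 2), (39, false, 38, 124, 39, 2), (40, false, 38, 124, 40, 2), (48, false, 38, 124, 48, 2), (49, false, 38, 124, 49, 2), (52, false, 38, 124, 52, 2), (57, false, 45, 122, 57, 2), (58, false, 45, 122, 58, 2), (60, false, 46, 121, 60, 2), (61, false, 46, 121, 61, 2), (69, false, 45, 122, 69, 2), (70, false, 46, 121, 70, 2), (79, false, 55, 118, 79, 2), (80, false, 56, 117, 80, 2), (87, false, 73, 108, 87, 2), (103, false, 94, 92, 103, 2)]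
def tRow115 : List (ℕ × Bool × ℕ × ℕ × ℕ × ℕ) := [(0, false, 39, 124, 0, 3), (1, false, 23, 125, 1, 3), (2, false, 23, 125, 2, 3), (6, false, 23, 125, 6, 2), (7, false, 23, 125, 7, 2), (8, false, 23, 125, 8, 2), (9, false, 23, 125, 9, 2), (13, false, 23, 125, 13, 2), (15, false, 23, 125, 15, 2), (16, false, 23, 125, 16, 2), (19, false, 23, 125, 19, 2), (21, false, 23, 125, 21, 2), (22, false, 23, 125, 22, 2), (28, false, 23, 125, 28, 2), (29, false, 23, 125, 29, 2), (30, false, 23, 125, 30, 2), (35, false, 39, 124, 35, 2), (37, false, 39, 124, 37, 2), (38, false, 39, 124, 38, 2), (49, false, 39, 124, 49, 2), (50, false, 39, 124, 50, 2), (51, false, 39, 124, 51, 2), (54, false, 43, 123, 54, 2), (55, false, 43, 123, 55, 2), (56, false, 43, 123, 56, 2), (63, false, 47, 119, 63, 2), (65, false, 47, 119, 65, 2), (68, false, 47, 119, 68, 2), (78, false, 57, 118, 78, 2), (82, false, 69, 112, 82, 2), (86, false, 74, 106, 86, 2), (102, false, 95, 90, 102, 2)]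
def tRow116 : List (ℕ × Bool × ℕ × ℕ × ℕ × ℕ) := [(0, false, 40, 124, 0, 3), (1, false, 24, 125, 1, 3), (2, false, 24, 125, 2, 3), (5, false, 24, 125, 5, 2), (7, false, 24, 125, 7, 2), (8, false, 24, 125, 8, 2), (10, false, 24, 125, 10, 2), (12, false, 24, 125, 12, 2), (14, false, 24, 125, 14, 2), (16, false, 24, 125, 16, 2), (18, false, 24, 125, 18, 2), (20, false, 24, 125, 20, 2), (22, false, 24, 125, 22, 2), (27, false, 24, 125, 27, 2), (29, false, 24, 125, 29, 2), (30, false, 24, 125, 30, 2), (34, false, 40, 124, 34, 2), (36, false, 40, 124, 36, 2), (38, false, 40, 124, 38, 2), (48, false, 40, 124, 48, 2), (50, false, 40, 124, 50, 2), (51, false, 40, 124, 51, 2), (53, false, 44, 123, 53, 2), (55, false, 44, 123, 55, 2), (56, false, 44, 123, 56, 2), (62, false, 47, 120, 62, 2), (64, false, 47, 120, 64, 2), (67, false, 47, 120, 67, 2), (78, false, 58, 118, 78, 2), (81, false, 69, 113, 81, 2), (85, false, 74, 107, 85, 2), (101, false, 95, 91, 101, 2)]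
def tRow117 : List (ℕ × Bool × ℕ × ℕ × ℕ × ℕ) := [(0, false, 41, 124, 0, 3), (1, false, 25, 125, 1, 3), (2, false, 25, 125, 2, 3), (4, false, 25, 125, 4, 2), (7, false, 25, 125, 7, 2), (9, false, 25, 125, 9, 2), (10, false, 25, 125, 10, 2), (11, false, 25, 125, 11, 2), (14, false, 25, 125, 14, 2), (15, false, 25, 125, 15, 2), (17, false, 25, 125, 17, 2), (20, false, 25, 125, 20, 2), (21, false, 25, 125, 21, 2), (27, false, 25, 125, 27, 2), (28, false, 25, 125, 28, 2), (30, false, 25, 125, 30, 2), (33, false, 41, 124, 33, 2), (36, false, 41, 124, 36, 2), (37, false, 41, 124, 37, 2), (48, false, 41, 124, 48, 2), (49, false, 41, 124, 49, 2), (51, false, 41, 124, 51, 2), (53, false, 45, 123, 53, 2), (54, false, 45, 123, 54, 2), (56, false, 45, 123, 56, 2), (60, false, 47, 121, 60, 2), (61, false, 47, 121, 61, 2), (66, false, 47, 121, 66, 2), (78, false, 59, 118, 78, 2), (80, false, 69, 114, 80, 2), (84, false, 74, 108, 84, 2), (100, false, 95, 92, 100, 2)]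
def tRow118 : List (ℕ × Bool × ℕ × ℕ × ℕ × ℕ) := [(0, false, 42, 124, 0, 3), (1, false, 26, 125, 1, 3), (2, false, 26, 125, 2, 3), (3, false, 26, 125, 3, 3), (8, false, 26, 125, 8, 2), (9, false, 26, 125, 9, 2), (10, false, 26, 125, 10, 2), (11, false, 26, 125, 11, 2), (12, false, 26, 125, 12, 2), (13, false, 26, 125, 13, 2), (17, false, 26, 125, 17, 2), (18, false, 26, 125, 18, 2), (19, false, 26, 125, 19, 2), (27, false, 26, 125, 27, 2), (28, false, 26, 125, 28, 2), (29, false, 26, 125, 29, 2), (33, false, 42, 124, 33, 2), (34, false, 42, 124, 34, 2), (35, false, 42, 124, 35, 2), (48, false, 42, 124, 48, 2), (49, false, 42, 124, 49, 2), (50, false, 42, 124, 50, 2), (53, false, 46, 123, 53, 2), (54, false, 46, 123, 54, 2), (55, false, 46, 123, 55, 2), (57, false, 47, 122, 57, 2), (58, false, 47, 122, 58, 2), (59, false, 47, 122, 59, 2), (78, false, 66, 117, 78, 2), (79, false, 70, 114, 79, 2), (83, false, 75, 108, 83, 2), (99, false, 96, 92, 99, 2)]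
def tRow119 : List (ℕ × Bool × ℕ × ℕ × ℕ × ℕ) := [(0, false, 48, 124, 0, 3), (1, false, 27, 125, 1, 3), (2, false, 27, 125, 2, 3), (3, false, 27, 125, 3, 3), (4, false, 27, 125, 4, 3), (5, false, 27, 125, 5, 3), (10, false, 27, 125, 10, 2), (13, false, 27, 125, 13, 2), (15, false, 27, 125, 15, 2), (16, false, 27, 125, 16, 2), (19, false, 27, 125, 19, 2), (21, false, 27, 125, 21, 2), (22, false, 27, 125, 22, 2), (24, false, 27, 125, 24, 2), (25, false, 27, 125, 25, 2), (26, false, 27, 125, 26, 2), (35, false, 48, 124, 35, 2), (37, false, 48, 124, 37, 2), (38, false, 48, 124, 38, 2), (40, false, 48, 124, 40, 2), (41, false, 48, 124, 41, 2), (42, false, 48, 124, 42, 2), (44, false, 53, 123, 44, 2), (45, false, 53, 123, 45, 2), (46, false, 53, 123, 46, 2), (47, false, 57, 122, 47, 2), (63, false, 78, 115, 63, 2), (65, false, 78, 115, 65, 2), (68, false, 78, 115, 68, 2), (72, false, 79, 112, 72, 2), (77, false, 83, 106, 77, 2), (98, false, 99, 90, 98, 2)]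
def tRow120 : List (ℕ × Bool × ℕ × ℕ × ℕ × ℕ) := [(0, false, 49, 124, 0, 3), (1, false, 28, 125, 1, 3), (2, false, 28, 125, 2, 3), (3, false, 28, 125, 3, 3), (4, false, 28, 125, 4, 3), (6, false, 28, 125, 6, 3), (9, false, 28, 125, 9, 2), (12, false, 28, 125, 12, 2), (14, false, 28, 125, 14, 2), (16, false, 28, 125, 16, 2), (18, false, 28, 125, 18, 2), (20, false, 28, 125, 20, 2), (22, false, 28, 125, 22, 2), (23, false, 28, 125, 23, 2), (25, false, 28, 125, 25, 2), (26, false, 28, 125, 26, 2), (34, false, 49, 124, 34, 2), (36, false, 49, 124, 36, 2), (38, false, 49, 124, 38, 2), (39, false, 49, 124, 39, 2), (41, false, 49, 124, 41, 2), (42, false, 49, 124, 42, 2), (43, false, 54, 123, 43, 2), (45, false, 54, 123, 45, 2), (46, false, 54, 123, 46, 2), (47, false, 58, 122, 47, 2), (62, false, 78, 116, 62, 2), (64, false, 78, 116, 64, 2), (67, false, 78, 116, 67, 2), (71, false, 79, 113, 71, 2), (76, false, 83, 107, 76, 2), (97, false, 99, 91, 97, 2)]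
def tRow121 : List (ℕ × Bool × ℕ × ℕ × ℕ × ℕ) := [(0, false, 50, 124, 0, 3), (1, false, 29, 125, 1, 3), (2, false, 29, 125, 2, 3), (3, false, 29, 125, 3, 3), (5, false, 29, 125, 5, 3), (6, false, 29, 125, 6, 3), (8, false, 29, 125, 8, 2), (11, false, 29, 125, 11, 2), (14, false, 29, 125, 14, 2), (15, false, 29, 125, 15, 2), (17, false, 29, 125, 17, 2), (20, false, 29, 125, 20, 2), (21, false, 29, 125, 21, 2), (23, false, 29, 125, 23, 2), (24, false, 29, 125, 24, 2), (26, false, 29, 125, 26, 2), (33, false, 50, 124, 33, 2), (36, false, 50, 124, 36, 2), (37, false, 50, 124, 37, 2), (39, false, 50, 124, 39, 2), (40, false, 50, 124, 40, 2), (42, false, 50, 124, 42, 2), (43, false, 55, 123, 43, 2), (44, false, 55, 123, 44, 2), (46, false, 55, 123, 46, 2), (47, false, 59, 122, 47, 2), (60, false, 78, 117, 60, 2), (61, false, 78, 117, 61, 2), (66, false, 78, 117, 66, 2), (70, false, 79, 114, 70, 2), (75, false, 83, 108, 75, 2), (96, false, 99, 92, 96, 2)]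
def tRow122 : List (ℕ × Bool × ℕ × ℕ × ℕ × ℕ) := [(0, false, 51, 124, 0, 3), (1, false, 30, 125, 1, 3), (2, false, 30, 125, 2, 3), (4, false, 30, 125, 4, 3), (5, false, 30, 125, 5, 3), (6, false, 30, 125, 6, 3), (7, false, 30, 125, 7, 3), (11, false, 30, 125, 11, 2), (12, false, 30, 125, 12, 2), (13, false, 30, 125, 13, 2), (17, false, 30, 125, 17, 2), (18, false, 30, 125, 18, 2), (19, false, 30, 125, 19, 2), (23, false, 30, 125, 23, 2), (24, false, 30, 125, 24, 2), (25, false, 30, 125, 25, 2), (33, false, 51, 124, 33, 2), (34, false, 51, 124, 34, 2), (35, false, 51, 124, 35, 2), (39, false, 51, 124, 39, 2), (40, false, 51, 124, 40, 2), (41, false, 51, 124, 41, 2), (43, false, 56, 123, 43, 2), (44, false, 56, 123, 44, 2), (45, false, 56, 123, 45, 2), (47, false, 66, 121, 47, 2), (57, false, 78, 118, 57, 2), (58, false, 78, 118, 58, 2), (59, false, 78, 118, 59, 2), (69, false, 80, 114, 69, 2), (74, false, 84, 108, 74, 2), (95, false, 100, 92, 95, 2)]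
def tRow123 : List (ℕ × Bool × ℕ × ℕ × ℕ × ℕ) := [(0, false, 52, 124, 0, 3), (1, false, 31, 125, 1, 3), (3, false, 31, 125, 3, 3), (4, false, 31, 125, 4, 3), (5, false, 31, 125, 5, 3), (6, false, 31, 125, 6, 3), (7, false, 31, 125, 7, 3), (8, false, 31, 125, 8, 3), (9, false, 31, 125, 9, 3), (10, false, 31, 125, 10, 3), (17, false, 31, 125, 17, 2), (18, false, 31, 125, 18, 2), (19, false, 31, 125, 19, 2), (20, false, 31, 125, 20, 2), (21, false, 31, 125, 21, 2), (22, false, 31, 125, 22, 2), (33, false, 52, 124, 33, 2), (34, false, 52, 124, 34, 2), (35, false, 52, 124, 35, 2), (36, false, 52, 124, 36, 2), (37, false, 52, 124, 37, 2), (38, false, 52, 124, 38, 2), (43, false, 69, 122, 43, 2), (44, false, 69, 122, 44, 2), (45, false, 69, 122, 45, 2), (46, false, 70, 121, 46, 2), (53, false, 79, 118, 53, 2), (54, false, 79, 118, 54, 2), (55, false, 79, 118, 55, 2), (56, false, 80, 117, 56, 2), (73, false, 87, 108, 73, 2), (94, false, 103, 92, 94, 2)]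
def tRow124 : List (ℕ × Bool × ℕ × ℕ × ℕ × ℕ) := [(0, false, 73, 123, 0, 3), (2, false, 32, 125, 2, 3), (3, false, 32, 125, 3, 3), (4, false, 32, 125, 4, 3), (5, false, 32, 125, 5, 3), (6, false, 32, 125, 6, 3), (7, false, 32, 125, 7, 3), (8, false, 32, 125, 8, 3), (9, false, 32, 125, 9, 3), (10, false, 32, 125, 10, 3), (11, false, 32, 125, 11, 3), (12, false, 32, 125, 12, 3), (13, false, 32, 125, 13, 3), (14, false, 32, 125, 14, 3), (15, false, 32, 125, 15, 3), (16, false, 32, 125, 16, 3), (33, false, 73, 123, 33, 2), (34, false, 73, 123, 34, 2), (35, false, 73, 123, 35, 2), (36, false, 73, 123, 36, 2), (37, false, 73, 123, 37, 2), (38, false, 73, 123, 38, 2), (39, false, 74, 122, 39, 2), (40, false, 74, 122, 40, 2), (41, false, 74, 122, 41, 2), (42, false, 75, 121, 42, 2), (48, false, 83, 118, 48, 2), (49, false, 83, 118, 49, 2), (50, false, 83, 118, 50, 2), (51, false, 84, 117, 51, 2), (52, false, 87, 114, 52, 2), (93, false, 109, 92, 93, 3)]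
def tRow125 : List (ℕ × Bool × ℕ × ℕ × ℕ × ℕ) := [(1, false, 94, 123, 1, 3), (2, false, 93, 124, 2, 3), (3, false, 93, 124, 3, 3), (4, false, 93, 124, 4, 3), (5, false, 93, 124, 5, 3), (6, false, 93, 124, 6, 3), (7, false, 93, 124, 7, 3), (8, false, 93, 124, 8, 3), (9, false, 93, 124, 9, 3), (10, false, 93, 124, 10, 3), (11, false, 93, 124, 11, 3), (12, false, 93, 124, 12, 3), (13, false, 93, 124, 13, 3), (14, false, 93, 124, 14, 3), (15, false, 93, 124, 15, 3), (16, false, 93, 124, 16, 3), (17, false, 94, 123, 17, 3), (18, false, 94, 123, 18, 3), (19, false, 94, 123, 19, 3), (20, false, 94, 123, 20, 3), (21, false, 94, 123, 21, 3), (22, false, 94, 123, 22, 3), (23, false, 95, 122, 23, 3), (24, false, 95, 122, 24, 3), (25, false, 95, 122, 25, 3), (26, false, 96, 121, 26, 3), (27, false, 99, 118, 27, 3), (28, false, 99, 118, 28, 3), (29, false, 99, 118, 29, 3), (30, false, 100, 117, 30, 3), (31, false, 103, 114, 31, 3), (32, false, 109, 108, 32, 3)]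

/-- Hall-Witt configurations -/
def tT : List (List (ℕ × Bool × ℕ × ℕ × ℕ × ℕ)) := [tRow0, tRow1, tRow2, tRow3, tRow4, tRow5, tRow6, tRow7, tRow8, tRow9, tRow10, tRow11, tRow12, tRow13, tRow14, tRow15, tRow16, tRow17, tRow18, tRow19, tRow20, tRow21, tRow22, tRow23, tRow24, tRow25, tRow26, tRow27, tRow28, tRow29, tRow30, tRow31, tRow32, tRow33, tRow34, tRow35, tRow36, tRow37, tRow38, tRow39, tRow40, tRow41, tRow42, tRow43, tRow44, tRow45, tRow46, tRow47, tRow48, tRow49, tRow50, tRow51, tRow52, tRow53, tRow54, tRow55, tRow56, tRow57, tRow58, tRow59, tRow60, tRow61, tRow62, tRow63, tRow64, tRow65, tRow66, tRow67, tRow68, tRow69, tRow70, tRow71, tRow72, tRow73, tRow74, tRow75, tRow76, tRow77, tRow78, tRow79, tRow80, tRow81, tRow82, tRow83, tRow84, tRow85, tRow86, tRow87, tRow88, tRow89, tRow90, tRow91, tRow92, tRow93, tRow94, tRow95, tRow96, tRow97, tRow98, tRow99, tRow100, tRow101, tRow102, tRow103, tRow104, tRow105, tRow106, tRow107, tRow108, tRow109, tRow110, tRow111, tRow112,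 tRow113, tRow114, tRow115, tRow116, tRow117, tRow118, tRow119, tRow120, tRow121, tRow122, tRow123, tRow124, tRow125]

end Cfsg.Agent.Lib.Helper35_SteinDataE7
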