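/-
Central closedness of Steinberg groups (helper35): certificate checks for the type E7, Hall-Witt configurations for the roots 63 to 126 (generated).
-/
import Mathlib
import Cfsg.Prelude.Def_ChevE7
import Cfsg.Agent.Lib.Helper35_SteinCert
import Cfsg.Agent.Lib.Helper35_SteinDataE7

set_option autoImplicit false
set_option maxRecDepth 100000

namespace Cfsg.Agent.Lib.Helper35_SteinCertE7P1

open Cfsg Cfsg.Lie Cfsg.Agent.Lib.Helper35_SteinCert Cfsg.Agent.Lib.Helper35_SteinDataE7

theorem r63 : parRow chevE7 canT tT 63 = true := by decide +kernel
theorem r64 : parRow chevE7 canT tT 64 = true := by decide +kernel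
theorem r65 : parRow chevE7 canT tT 65 = true := by decide +kernel
theorem r66 : parRow chevE7 canT tT 66 = true := by decide +kernel
theorem r67 : parRow chevE7 canT tT 67 = true := by decide +kernel
theorem r68 : parRow chevE7 canT tT 68 = true := by decide +kernel
theorem r69 : parRow chevE7 canT tT 69 = true := by decide +kernel
theorem r70 : parRow chevE7 canT tT 70 = true := by decide +kernel
theorem r71 : parRow chevE7 canT tT 71 = true := by decide +kernel
theorem r72 : parRow chevE7 canT tT 72 = true := by decide +kernel
theorem r73 : parRow chevE7 canT tT 73 = true := by decide +kernel
theorem r74 : parRow chevE7 canT tT 74 = true := by decide +kernel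
theorem r75 : parRow chevE7 canT tT 75 = true := by decide +kernel
theorem r76 : parRow chevE7 canT tT 76 = true := by decide +kernel
theorem r77 : parRow chevE7 canT tT 77 = true := by decide +kernel
theorem r78 : parRow chevE7 canT tT 78 = true := by decide +kernel
theorem r79 : parRow chevE7 canT tT 79 = true := by decide +kernel
theorem r80 : parRow chevE7 canT tT 80 = true := by decide +kernel
theorem r81 : parRow chevE7 canT tT 81 = true := by decide +kernel
theorem r82 : parRow chevE7 canT tT 82 = true := by decide +kernel
theorem r83 : parRow chevE7 canT tT 83 = true := by decide +kernel
theorem r84 : parRow chevE7 canT tT 84 = true := by decide +kernel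
theorem r85 : parRow chevE7 canT tT 85 = true := by decide +kernel
theorem r86 : parRow chevE7 canT tT 86 = true := by decide +kernel
theorem r87 : parRow chevE7 canT tT 87 = true := by decide +kernel
theorem r88 : parRow chevE7 canT tT 88 = true := by decide +kernel
theorem r89 : parRow chevE7 canT tT 89 = true := by decide +kernel
theorem r90 : parRow chevE7 canT tT 90 = true := by decide +kernel
theorem r91 : parRow chevE7 canT tT 91 = true := by decide +kernel
theorem r92 : parRow chevE7 canT tT 92 = true := by decide +kernel
theorem r93 : parRow chevE7 canT tT 93 = true := by decide +kernel
theorem r94 : parRow chevE7 canT tT 94 = true := by decide +kernel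
theorem r95 : parRow chevE7 canT tT 95 = true := by decide +kernel
theorem r96 : parRow chevE7 canT tT 96 = true := by decide +kernel
theorem r97 : parRow chevE7 canT tT 97 = true := by decide +kernel
theorem r98 : parRow chevE7 canT tT 98 = true := by decide +kernel
theorem r99 : parRow chevE7 canT tT 99 = true := by decide +kernel
theorem r100 : parRow chevE7 canT tT 100 = true := by decide +kernel
theorem r101 : parRow chevE7 canT tT 101 = true := by decide +kernel
theorem r102 : parRow chevE7 canT tT 102 = true := by decide +kernel
theorem r103 : parRow chevE7 canT tT 103 = true := by decide +kernel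
theorem r104 : parRow chevE7 canT tT 104 = true := by decide +kernel
theorem r105 : parRow chevE7 canT tT 105 = true := by decide +kernel
theorem r106 : parRow chevE7 canT tT 106 = true := by decide +kernel
theorem r107 : parRow chevE7 canT tT 107 = true := by decide +kernel
theorem r108 : parRow chevE7 canT tT 108 = true := by decide +kernel
theorem r109 : parRow chevE7 canT tT 109 = true := by decide +kernel
theorem r110 : parRow chevE7 canT tT 110 = true := by decide +kernel
theorem r111 : parRow chevE7 canT tT 111 = true := by decide +kernel
theorem r112 : parRow chevE7 canT tT 112 = true := by decide +kernel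
theorem r113 : parRow chevE7 canT tT 113 = true := by decide +kernel
theorem r114 : parRow chevE7 canT tT 114 = true := by decide +kernel
theorem r115 : parRow chevE7 canT tT 115 = true := by decide +kernel
theorem r116 : parRow chevE7 canT tT 116 = true := by decide +kernel
theorem r117 : parRow chevE7 canT tT 117 = true := by decide +kernel
theorem r118 : parRow chevE7 canT tT 118 = true := by decide +kernel
theorem r119 : parRow chevE7 canT tT 119 = true := by decide +kernel
theorem r120 : parRow chevE7 canT tT 120 = true := by decide +kernel
theorem r121 : parRow chevE7 canT tT 121 = true := by decide +kernel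
theorem r122 : parRow chevE7 canT tT 122 = true := by decide +kernel
theorem r123 : parRow chevE7 canT tT 123 = true := by decide +kernel
theorem r124 : parRow chevE7 canT tT 124 = true := by decide +kernel
theorem r125 : parRow chevE7 canT tT 125 = true := by decide +kernel

theorem chunk : ∀ x, 63 ≤ x → x < 126 → parRow chevE7 canT tT x = true := by
  intro x h1 h2
  interval_cases x
  · exact r63
  · exact r64
  · exact r65
  · exact r66
  · exact r67
  · exact r68
  · exact r69
  · exact r70
  · exact r71
  · exact r72
  · exact r73
  · exact r74
  · exact r75
  · exact r76
  · exact r77
  · exact r78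
  · exact r79
  · exact r80
  · exact r81
  · exact r82
  · exact r83
  · exact r84
  · exact r85
  · exact r86
  · exact r87
  · exact r88
  · exact r89
  · exact r90
  · exact r91
  · exact r92
  · exact r93
  · exact r94
  · exact r95
  · exact r96
  · exact r97
  · exact r98
  · exact r99
  · exact r100
  · exact r101
  · exact r102
  · exact r103
  · exact r104
  · exact r105
  · exact r106
  · exact r107
  · exact r108
  · exact r109
  · exact r110
  · exact r111
  · exact r112
  · exact r113
  · exact r114
  · exact r115
  · exact r116
  · exact r117
  · exact r118
  · exact r119
  · exact r120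
  · exact r121
  · exact r122
  · exact r123
  · exact r124
  · exact r125

end Cfsg.Agent.Lib.Helper35_SteinCertE7P1
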