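/-
Central closedness of Steinberg groups (helper35): the certificate for the type E7 (generated).
-/
import Mathlib
import Cfsg.Agent.Lib.Helper35_SteinCertE7F0
import Cfsg.Agent.Lib.Helper35_SteinCertE7C0
import Cfsg.Agent.Lib.Helper35_SteinCertE7W0
import Cfsg.Agent.Lib.Helper35_SteinCertE7W1
import Cfsg.Agent.Lib.Helper35_SteinCertE7P0
import Cfsg.Agent.Lib.Helper35_SteinCertE7P1

set_option autoImplicit false
set_option maxRecDepth 100000

namespace Cfsg.Agent.Lib.Helper35_SteinCertE7

open Cfsg Cfsg.Lie Cfsg.Agent.Lib.Helper35_SteinCert Cfsg.Agent.Lib.Helper35_SteinDataE7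

theorem size_le : chevE7.chain.size ≤ chevE7.nroots := by decide +kernel

theorem cn : (List.range' 0 126).all (canRow chevE7 canT) = true := by decide +kernel

theorem wf : wfB chevE7 = true := by
  apply wfB_of_rows size_le
  intro r hr
  have hr' : r < 126 := hr
  exact Cfsg.Agent.Lib.Helper35_SteinCertE7F0.chunk r (by omega) (by omega)

theorem cert : Cert chevE7 canT tT wT where
  wf := wf
  c4 := by
    intro r hr
    have hr' : r < 126 := hr
    exact Cfsg.Agent.Lib.Helper35_SteinCertE7C0.chunk r (by omega) (by omega)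
  cn := fun r hr => of_range' cn r (Nat.zero_le r) (by
    have : r < 126 := hr
    omega)
  c1 := by
    intro r hr
    have hr' : r < 126 := hr
    by_cases h0 : r < 63
    · exact Cfsg.Agent.Lib.Helper35_SteinCertE7W0.chunk r (by omega) (by omega)
    exact Cfsg.Agent.Lib.Helper35_SteinCertE7W1.chunk r (by omega) (by omega)
  pr := by
    intro r hr
    have hr' : r < 126 := hr
    by_cases h0 : r < 63
    · exact Cfsg.Agent.Lib.Helper35_SteinCertE7P0.chunk r (by omega) (by omega)
    exact Cfsg.Agent.Lib.Helper35_SteinCertE7P1.chunk r (by omega) (by omega)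

end Cfsg.Agent.Lib.Helper35_SteinCertE7
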