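/-
Central closedness of Steinberg groups (helper35): certificate tables for the type E8 (generated).
-/
import Mathlib

set_option autoImplicit false

namespace Cfsg.Agent.Lib.Helper35_SteinDataE8

/-- canonical decompositions -/
def canT : List (ℕ × ℕ) := [(1, 119), (0, 120), (0, 122), (0, 125), (0, 129), (0, 134), (0, 140), (0, 146), (0, 151), (0, 155), (0, 158), (0, 160), (0, 161), (1, 161), (0, 168), (0, 173), (0, 177), (0, 180), (0, 182), (0, 183), (1, 183), (0, 187), (0, 190), (0, 192), (0, 193), (1, 193), (0, 196), (0, 198), (0, 199), (1, 199), (0, 201), (0, 202), (1, 202), (0, 203), (1, 203), (2, 203), (0, 206), (0, 208), (0, 209), (1, 209), (0, 211), (0, 212), (1, 212), (0, 213), (1, 213), (2, 213), (0, 215), (0, 216), (1, 216), (0, 217), (1, 217), (2, 217), (0, 218), (1, 218), (2, 218), (3, 218), (0, 220), (0, 221), (1, 221), (0, 222), (1, 222), (2, 222), (0, 223), (1, 223), (2, 223), (3, 223), (0, 224), (1, 224), (2, 224), (3, 224), (4, 224), (0, 225), (1, 225), (2, 225), (3, 225), (4, 225), (5, 225), (6, 225),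 (0, 227), (0, 228), (1, 228), (0, 229), (1, 229), (2, 229), (0, 230), (1, 230), (2, 230), (3, 230), (0, 231), (1, 231), (2, 231), (3, 231), (4, 231), (0, 232), (1, 232), (2, 232), (3, 232), (4, 232), (5, 232), (0, 233), (1, 233), (2, 233), (3, 233), (4, 233), (5, 233), (0, 234), (1, 234), (2, 234), (3, 234), (4, 234), (0, 235), (1, 235), (2, 235), (3, 235), (0, 236), (1, 236), (2, 236), (0, 237), (1, 237), (0, 238), (1, 239), (2, 238), (2, 239), (3, 237), (3, 238), (3, 239), (4, 236), (4, 237), (4, 238), (4, 239), (5, 235), (5, 236), (5, 237), (5, 238), (5, 239), (6, 234), (6, 235), (6, 236), (6, 237), (6, 238), (6, 239), (7, 234), (7, 235), (7, 236), (7, 237), (7, 238), (7, 239), (8, 235), (8, 236), (8, 237), (8, 238), (8, 239), (9, 236), (9, 237), (9, 238), (9, 239), (10, 237), (10, 238), (10, 239), (11, 238), (11, 239), (12, 239), (14, 233), (14, 234), (14, 235), (14, 236), (14, 237), (14, 238), (14, 239), (15, 235), (15, 236), (15, 237), (15, 238), (15, 239), (16, 236), (16, 237), (16, 238), (16, 239), (17, 237),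 (17, 238), (17, 239), (18, 238), (18, 239), (19, 239), (21, 236), (21, 237), (21, 238), (21, 239), (22, 237), (22, 238), (22, 239), (23, 238), (23, 239), (24, 239), (26, 237), (26, 238), (26, 239), (27, 238), (27, 239), (28, 239), (30, 238), (30, 239), (31, 239), (33, 239), (36, 237), (36, 238), (36, 239), (37, 238), (37, 239), (38, 239), (40, 238), (40, 239), (41, 239), (43, 239), (46, 238), (46, 239), (47, 239), (49, 239), (52, 239), (56, 238), (56, 239), (57, 239), (59, 239), (62, 239), (66, 239), (71, 239), (78, 238), (78, 239), (79, 239), (81, 239), (84, 239), (88, 239), (93, 239), (99, 239), (105, 239), (110, 239), (114, 239), (117, 239), (119, 239), (120, 238)]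

/-- decompositions witnessing (C1) -/
def wT : List (List (ℕ × ℕ)) := [[(1, 119), (2, 117), (11, 79), (3, 114), (14, 71)], [(0, 120), (2, 118), (11, 80), (3, 115), (14, 72)], [(0, 122), (1, 121), (12, 80), (3, 116), (14, 73)], [(0, 125), (1, 124), (12, 82), (2, 123), (14, 74)], [(0, 129), (1, 128), (12, 85), (2, 127), (14, 75)], [(0, 134), (1, 133), (12, 89), (2, 132), (14, 76)], [(0, 140), (1, 139), (12, 94), (2, 138), (14, 77)], [(0, 146), (1, 145), (12, 100), (2, 144), (15, 76)], [(0, 151), (1, 150), (12, 106), (2, 149), (15, 77)], [(0, 155), (1, 154), (12, 111), (2, 153), (16, 77)], [(0, 158), (1, 157), (12, 115), (2, 156), (17, 77)], [(0, 160), (1, 159), (12, 118), (3, 156), (18, 77)], [(0, 161), (2, 159), (11, 121), (3, 157), (19, 77)], [(1, 161), (2, 160), (11, 122), (3, 158), (20, 77)], [(0, 168), (1, 167), (19, 94), (2, 166), (6, 162)], [(0, 173), (1, 172), (19, 106), (2, 171), (8, 162)], [(0, 177), (1, 176), (19, 111), (2, 175), (9, 162)], [(0, 180), (1, 179), (19, 115), (2, 178), (10, 162)], [(0, 182), (1,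 181), (19, 118), (3, 178), (11, 162)], [(0, 183), (2, 181), (18, 121), (3, 179), (12, 162)], [(1, 183), (2, 182), (18, 122), (3, 180), (13, 162)], [(0, 187), (1, 186), (24, 111), (2, 185), (9, 163)], [(0, 190), (1, 189), (24, 115), (2, 188), (10, 163)], [(0, 192), (1, 191), (24, 118), (3, 188), (11, 163)], [(0, 193), (2, 191), (23, 121), (3, 189), (12, 163)], [(1, 193), (2, 192), (23, 122), (3, 190), (13, 163)], [(0, 196), (1, 195), (28, 115), (2, 194), (10, 164)], [(0, 198), (1, 197), (28, 118), (3, 194), (11, 164)], [(0, 199), (2, 197), (27, 121), (3, 195), (12, 164)], [(1, 199), (2, 198), (27, 122), (3, 196), (13, 164)], [(0, 201), (1, 200), (31, 118), (4, 194), (11, 165)], [(0, 202), (2, 200), (30, 121), (4, 195), (12, 165)], [(1, 202), (2, 201), (30, 122), (4, 196), (13, 165)], [(0, 203), (3, 200), (30, 124), (4, 197), (12, 166)], [(1, 203), (3, 201), (30, 125), (4, 198), (13, 166)], [(2, 203), (3, 202), (31, 125), (4, 199), (13, 167)], [(0, 206), (1, 205), (38, 115), (2, 204), (10, 169)], [(0, 208), (1, 207), (38,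 118), (3, 204), (11, 169)], [(0, 209), (2, 207), (37, 121), (3, 205), (12, 169)], [(1, 209), (2, 208), (37, 122), (3, 206), (13, 169)], [(0, 211), (1, 210), (41, 118), (4, 204), (11, 170)], [(0, 212), (2, 210), (40, 121), (4, 205), (12, 170)], [(1, 212), (2, 211), (40, 122), (4, 206), (13, 170)], [(0, 213), (3, 210), (40, 124), (4, 207), (12, 171)], [(1, 213), (3, 211), (40, 125), (4, 208), (13, 171)], [(2, 213), (3, 212), (41, 125), (4, 209), (13, 172)], [(0, 215), (1, 214), (47, 118), (5, 204), (11, 174)], [(0, 216), (2, 214), (46, 121), (5, 205), (12, 174)], [(1, 216), (2, 215), (46, 122), (5, 206), (13, 174)], [(0, 217), (3, 214), (46, 124), (5, 207), (12, 175)], [(1, 217), (3, 215), (46, 125), (5, 208), (13, 175)], [(2, 217), (3, 216), (47, 125), (5, 209), (13, 176)], [(0, 218), (4, 214), (46, 128), (5, 210), (12, 178)], [(1, 218), (4, 215), (46, 129), (5, 211), (13, 178)], [(2, 218), (4, 216), (47, 129), (5, 212), (13, 179)], [(3, 218), (4, 217), (49, 129), (5, 213), (13, 181)], [(0, 220), (1, 219), (57, 118), (6,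 204), (11, 184)], [(0, 221), (2, 219), (56, 121), (6, 205), (12, 184)], [(1, 221), (2, 220), (56, 122), (6, 206), (13, 184)], [(0, 222), (3, 219), (56, 124), (6, 207), (12, 185)], [(1, 222), (3, 220), (56, 125), (6, 208), (13, 185)], [(2, 222), (3, 221), (57, 125), (6, 209), (13, 186)], [(0, 223), (4, 219), (56, 128), (6, 210), (12, 188)], [(1, 223), (4, 220), (56, 129), (6, 211), (13, 188)], [(2, 223), (4, 221), (57, 129), (6, 212), (13, 189)], [(3, 223), (4, 222), (59, 129), (6, 213), (13, 191)], [(0, 224), (5, 219), (56, 133), (6, 214), (12, 194)], [(1, 224), (5, 220), (56, 134), (6, 215), (13, 194)], [(2, 224), (5, 221), (57, 134), (6, 216), (13, 195)], [(3, 224), (5, 222), (59, 134), (6, 217), (13, 197)], [(4, 224), (5, 223), (62, 134), (6, 218), (13, 200)], [(0, 225), (7, 219), (56, 145), (8, 214), (12, 204)], [(1, 225), (7, 220), (56, 146), (8, 215), (13, 204)], [(2, 225), (7, 221), (57, 146), (8, 216), (13, 205)], [(3, 225), (7, 222), (59, 146), (8, 217), (13, 207)], [(4, 225), (7, 223), (62, 146), (8, 218), (13,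 210)], [(5, 225), (7, 224), (66, 146), (9, 218), (13, 214)], [(6, 225), (8, 224), (66, 151), (9, 223), (13, 219)], [(0, 227), (1, 226), (79, 118), (14, 204), (18, 184)], [(0, 228), (2, 226), (78, 121), (14, 205), (19, 184)], [(1, 228), (2, 227), (78, 122), (14, 206), (20, 184)], [(0, 229), (3, 226), (78, 124), (14, 207), (19, 185)], [(1, 229), (3, 227), (78, 125), (14, 208), (20, 185)], [(2, 229), (3, 228), (79, 125), (14, 209), (20, 186)], [(0, 230), (4, 226), (78, 128), (14, 210), (19, 188)], [(1, 230), (4, 227), (78, 129), (14, 211), (20, 188)], [(2, 230), (4, 228), (79, 129), (14, 212), (20, 189)], [(3, 230), (4, 229), (81, 129), (14, 213), (20, 191)], [(0, 231), (5, 226), (78, 133), (14, 214), (19, 194)], [(1, 231), (5, 227), (78, 134), (14, 215), (20, 194)], [(2, 231), (5, 228), (79, 134), (14, 216), (20, 195)], [(3, 231), (5, 229), (81, 134), (14, 217), (20, 197)], [(4, 231), (5, 230), (84, 134), (14, 218), (20, 200)], [(0, 232), (6, 226), (78, 139), (14, 219), (24, 194)], [(1, 232), (6, 227), (78, 140), (14, 220),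 (25, 194)], [(2, 232), (6, 228), (79, 140), (14, 221), (25, 195)], [(3, 232), (6, 229), (81, 140), (14, 222), (25, 197)], [(4, 232), (6, 230), (84, 140), (14, 223), (25, 200)], [(5, 232), (6, 231), (88, 140), (14, 224), (29, 200)], [(0, 233), (7, 226), (78, 145), (15, 214), (19, 204)], [(1, 233), (7, 227), (78, 146), (15, 215), (20, 204)], [(2, 233), (7, 228), (79, 146), (15, 216), (20, 205)], [(3, 233), (7, 229), (81, 146), (15, 217), (20, 207)], [(4, 233), (7, 230), (84, 146), (15, 218), (20, 210)], [(5, 233), (7, 231), (88, 146), (16, 218), (20, 214)], [(0, 234), (8, 226), (78, 150), (15, 219), (24, 204)], [(1, 234), (8, 227), (78, 151), (15, 220), (25, 204)], [(2, 234), (8, 228), (79, 151), (15, 221), (25, 205)], [(3, 234), (8, 229), (81, 151), (15, 222), (25, 207)], [(4, 234), (8, 230), (84, 151), (15, 223), (25, 210)], [(0, 235), (9, 226), (78, 154), (16, 219), (28, 204)], [(1, 235), (9, 227), (78, 155), (16, 220), (29, 204)], [(2, 235), (9, 228), (79, 155), (16, 221), (29, 205)], [(3, 235), (9, 229), (81, 155),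 (16, 222), (29, 207)], [(0, 236), (10, 226), (78, 157), (17, 219), (31, 204)], [(1, 236), (10, 227), (78, 158), (17, 220), (32, 204)], [(2, 236), (10, 228), (79, 158), (17, 221), (32, 205)], [(0, 237), (11, 226), (78, 159), (18, 219), (33, 204)], [(1, 237), (11, 227), (78, 160), (18, 220), (34, 204)], [(0, 238), (12, 226), (79, 159), (19, 219), (33, 205)], [(1, 239), (13, 227), (80, 160), (20, 220), (34, 206)], [(2, 238), (12, 228), (79, 161), (19, 221), (35, 205)], [(2, 239), (13, 228), (80, 161), (20, 221), (35, 206)], [(3, 237), (11, 229), (81, 160), (18, 222), (34, 207)], [(3, 238), (12, 229), (81, 161), (19, 222), (35, 207)], [(3, 239), (13, 229), (82, 161), (20, 222), (35, 208)], [(4, 236), (10, 230), (84, 158), (17, 223), (32, 210)], [(4, 237), (11, 230), (84, 160), (18, 223), (34, 210)], [(4, 238), (12, 230), (84, 161), (19, 223), (35, 210)], [(4, 239), (13, 230), (85, 161), (20, 223), (35, 211)], [(5, 235), (9, 231), (88, 155), (16, 224), (29, 214)], [(5, 236), (10, 231), (88, 158), (17, 224), (32, 214)], [(5,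 237), (11, 231), (88, 160), (18, 224), (34, 214)], [(5, 238), (12, 231), (88, 161), (19, 224), (35, 214)], [(5, 239), (13, 231), (89, 161), (20, 224), (35, 215)], [(6, 234), (8, 232), (93, 151), (21, 223), (25, 219)], [(6, 235), (9, 232), (93, 155), (21, 224), (29, 219)], [(6, 236), (10, 232), (93, 158), (22, 224), (32, 219)], [(6, 237), (11, 232), (93, 160), (23, 224), (34, 219)], [(6, 238), (12, 232), (93, 161), (24, 224), (35, 219)], [(6, 239), (13, 232), (94, 161), (25, 224), (35, 220)], [(7, 234), (8, 233), (99, 151), (15, 225), (39, 210)], [(7, 235), (9, 233), (99, 155), (16, 225), (39, 214)], [(7, 236), (10, 233), (99, 158), (17, 225), (42, 214)], [(7, 237), (11, 233), (99, 160), (18, 225), (44, 214)], [(7, 238), (12, 233), (99, 161), (19, 225), (45, 214)], [(7, 239), (13, 233), (100, 161), (20, 225), (45, 215)], [(8, 235), (9, 234), (105, 155), (21, 225), (39, 219)], [(8, 236), (10, 234), (105, 158), (22, 225), (42, 219)], [(8, 237), (11, 234), (105, 160), (23, 225), (44, 219)], [(8, 238), (12, 234), (105, 161),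 (24, 225), (45, 219)], [(8, 239), (13, 234), (106, 161), (25, 225), (45, 220)], [(9, 236), (10, 235), (110, 158), (26, 225), (48, 219)], [(9, 237), (11, 235), (110, 160), (27, 225), (50, 219)], [(9, 238), (12, 235), (110, 161), (28, 225), (51, 219)], [(9, 239), (13, 235), (111, 161), (29, 225), (51, 220)], [(10, 237), (11, 236), (114, 160), (30, 225), (53, 219)], [(10, 238), (12, 236), (114, 161), (31, 225), (54, 219)], [(10, 239), (13, 236), (115, 161), (32, 225), (54, 220)], [(11, 238), (12, 237), (117, 161), (33, 225), (55, 219)], [(11, 239), (13, 237), (118, 161), (34, 225), (55, 220)], [(12, 239), (13, 238), (121, 160), (35, 225), (55, 221)], [(14, 233), (15, 231), (88, 173), (16, 230), (20, 226)], [(14, 234), (15, 232), (93, 173), (21, 230), (25, 226)], [(14, 235), (16, 232), (93, 177), (21, 231), (29, 226)], [(14, 236), (17, 232), (93, 180), (22, 231), (32, 226)], [(14, 237), (18, 232), (93, 182), (23, 231), (34, 226)], [(14, 238), (19, 232), (93, 183), (24, 231), (35, 226)], [(14, 239), (20, 232), (94, 183), (25,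 231), (35, 227)], [(15, 235), (16, 234), (105, 177), (21, 233), (39, 226)], [(15, 236), (17, 234), (105, 180), (22, 233), (42, 226)], [(15, 237), (18, 234), (105, 182), (23, 233), (44, 226)], [(15, 238), (19, 234), (105, 183), (24, 233), (45, 226)], [(15, 239), (20, 234), (106, 183), (25, 233), (45, 227)], [(16, 236), (17, 235), (110, 180), (26, 233), (48, 226)], [(16, 237), (18, 235), (110, 182), (27, 233), (50, 226)], [(16, 238), (19, 235), (110, 183), (28, 233), (51, 226)], [(16, 239), (20, 235), (111, 183), (29, 233), (51, 227)], [(17, 237), (18, 236), (114, 182), (30, 233), (53, 226)], [(17, 238), (19, 236), (114, 183), (31, 233), (54, 226)], [(17, 239), (20, 236), (115, 183), (32, 233), (54, 227)], [(18, 238), (19, 237), (117, 183), (33, 233), (55, 226)], [(18, 239), (20, 237), (118, 183), (34, 233), (55, 227)], [(19, 239), (20, 238), (121, 182), (35, 233), (55, 228)], [(21, 236), (22, 235), (110, 190), (26, 234), (58, 226)], [(21, 237), (23, 235), (110, 192), (27, 234), (60, 226)], [(21, 238), (24, 235), (110,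 193), (28, 234), (61, 226)], [(21, 239), (25, 235), (111, 193), (29, 234), (61, 227)], [(22, 237), (23, 236), (114, 192), (30, 234), (63, 226)], [(22, 238), (24, 236), (114, 193), (31, 234), (64, 226)], [(22, 239), (25, 236), (115, 193), (32, 234), (64, 227)], [(23, 238), (24, 237), (117, 193), (33, 234), (65, 226)], [(23, 239), (25, 237), (118, 193), (34, 234), (65, 227)], [(24, 239), (25, 238), (121, 192), (35, 234), (65, 228)], [(26, 237), (27, 236), (114, 198), (30, 235), (67, 226)], [(26, 238), (28, 236), (114, 199), (31, 235), (68, 226)], [(26, 239), (29, 236), (115, 199), (32, 235), (68, 227)], [(27, 238), (28, 237), (117, 199), (33, 235), (69, 226)], [(27, 239), (29, 237), (118, 199), (34, 235), (69, 227)], [(28, 239), (29, 238), (121, 198), (35, 235), (69, 228)], [(30, 238), (31, 237), (117, 202), (33, 236), (70, 226)], [(30, 239), (32, 237), (118, 202), (34, 236), (70, 227)], [(31, 239), (32, 238), (121, 201), (35, 236), (70, 228)], [(33, 239), (34, 238), (124, 201), (35, 237), (70, 229)], [(36, 237), (37, 236),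 (114, 208), (40, 235), (72, 226)], [(36, 238), (38, 236), (114, 209), (41, 235), (73, 226)], [(36, 239), (39, 236), (115, 209), (42, 235), (73, 227)], [(37, 238), (38, 237), (117, 209), (43, 235), (74, 226)], [(37, 239), (39, 237), (118, 209), (44, 235), (74, 227)], [(38, 239), (39, 238), (121, 208), (45, 235), (74, 228)], [(40, 238), (41, 237), (117, 212), (43, 236), (75, 226)], [(40, 239), (42, 237), (118, 212), (44, 236), (75, 227)], [(41, 239), (42, 238), (121, 211), (45, 236), (75, 228)], [(43, 239), (44, 238), (124, 211), (45, 237), (75, 229)], [(46, 238), (47, 237), (117, 216), (49, 236), (76, 226)], [(46, 239), (48, 237), (118, 216), (50, 236), (76, 227)], [(47, 239), (48, 238), (121, 215), (51, 236), (76, 228)], [(49, 239), (50, 238), (124, 215), (51, 237), (76, 229)], [(52, 239), (53, 238), (128, 215), (54, 237), (76, 230)], [(56, 238), (57, 237), (117, 221), (59, 236), (77, 226)], [(56, 239), (58, 237), (118, 221), (60, 236), (77, 227)], [(57, 239), (58, 238), (121, 220), (61, 236), (77, 228)], [(59, 239),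 (60, 238), (124, 220), (61, 237), (77, 229)], [(62, 239), (63, 238), (128, 220), (64, 237), (77, 230)], [(66, 239), (67, 238), (133, 220), (68, 237), (77, 231)], [(71, 239), (72, 238), (145, 220), (73, 237), (77, 233)], [(78, 238), (79, 237), (117, 228), (81, 236), (162, 219)], [(78, 239), (80, 237), (118, 228), (82, 236), (162, 220)], [(79, 239), (80, 238), (121, 227), (83, 236), (162, 221)], [(81, 239), (82, 238), (124, 227), (83, 237), (162, 222)], [(84, 239), (85, 238), (128, 227), (86, 237), (162, 223)], [(88, 239), (89, 238), (133, 227), (90, 237), (162, 224)], [(93, 239), (94, 238), (139, 227), (95, 237), (163, 224)], [(99, 239), (100, 238), (145, 227), (101, 237), (162, 225)], [(105, 239), (106, 238), (150, 227), (107, 237), (163, 225)], [(110, 239), (111, 238), (154, 227), (112, 237), (164, 225)], [(114, 239), (115, 238), (157, 227), (116, 237), (165, 225)], [(117, 239), (118, 238), (159, 227), (123, 236), (166, 225)], [(119, 239), (121, 237), (159, 228), (124, 236), (167, 225)], [(120, 238), (122, 237), (160,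 228), (125, 236), (168, 225)]]

def tRow0 : List (ℕ × Bool × ℕ × ℕ × ℕ × ℕ) := [(120, true, 0, 122, 118, 0), (122, true, 0, 120, 121, 0), (125, true, 0, 120, 124, 0), (129, true, 0, 120, 128, 0), (134, true, 0, 120, 133, 0), (140, true, 0, 120, 139, 0), (146, true, 0, 120, 145, 0), (151, true, 0, 120, 150, 0), (155, true, 0, 120, 154, 0), (158, true, 0, 120, 157, 0), (160, true, 0, 120, 159, 0), (161, true, 0, 122, 159, 0), (168, true, 0, 120, 167, 0), (173, true, 0, 120, 172, 0), (177, true, 0, 120, 176, 0), (180, true, 0, 120, 179, 0), (182, true, 0, 120, 181, 0), (183, true, 0, 122, 181, 0), (187, true, 0, 120, 186, 0), (190, true, 0, 120, 189, 0), (192, true, 0, 120, 191, 0), (193, true, 0, 122, 191, 0), (196, true, 0, 120, 195, 0), (198, true, 0, 120, 197, 0), (199, true, 0, 122, 197, 0), (201, true, 0, 120, 200, 0), (202, true, 0, 122, 200, 0), (203, true, 0, 125, 200, 0), (206, true, 0, 120, 205, 0), (208, true, 0, 120, 207, 0), (209, true, 0, 122, 207, 0), (211, true, 0, 120, 210, 0), (212, true, 0, 122, 210,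 0), (213, true, 0, 125, 210, 0), (215, true, 0, 120, 214, 0), (216, true, 0, 122, 214, 0), (217, true, 0, 125, 214, 0), (218, true, 0, 129, 214, 0), (220, true, 0, 120, 219, 0), (221, true, 0, 122, 219, 0), (222, true, 0, 125, 219, 0), (223, true, 0, 129, 219, 0), (224, true, 0, 134, 219, 0), (225, true, 0, 146, 219, 0), (227, true, 0, 120, 226, 0), (228, true, 0, 122, 226, 0), (229, true, 0, 125, 226, 0), (230, true, 0, 129, 226, 0), (231, true, 0, 134, 226, 0), (232, true, 0, 140, 226, 0), (233, true, 0, 146, 226, 0), (234, true, 0, 151, 226, 0), (235, true, 0, 155, 226, 0), (236, true, 0, 158, 226, 0), (237, true, 0, 160, 226, 0), (238, true, 0, 161, 226, 0)]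
def tRow1 : List (ℕ × Bool × ℕ × ℕ × ℕ × ℕ) := [(119, true, 1, 121, 117, 0), (121, false, 0, 120, 121, 1), (124, false, 0, 120, 124, 1), (128, false, 0, 120, 128, 1), (133, false, 0, 120, 133, 1), (139, false, 0, 120, 139, 1), (145, false, 0, 120, 145, 1), (150, false, 0, 120, 150, 1), (154, false, 0, 120, 154, 1), (157, false, 0, 120, 157, 1), (159, false, 0, 120, 159, 1), (161, true, 1, 121, 160, 0), (167, false, 0, 120, 167, 1), (172, false, 0, 120, 172, 1), (176, false, 0, 120, 176, 1), (179, false, 0, 120, 179, 1), (181, false, 0, 120, 181, 1), (183, true, 1, 121, 182, 0), (186, false, 0, 120, 186, 1), (189, false, 0, 120, 189, 1), (191, false, 0, 120, 191, 1), (193, true, 1, 121, 192, 0), (195, false, 0, 120, 195, 1), (197, false, 0, 120, 197, 1), (199, true, 1, 121, 198, 0), (200, false, 0, 120, 200, 1), (202, true, 1, 121, 201, 0), (203, true, 1, 124, 201, 0), (205, false, 0, 120, 205, 1), (207, false, 0, 120, 207, 1), (209, true, 1, 121, 208, 0), (210, false, 0, 120, 210, 1), (212, true, 1, 121, 211, 0), (213,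 true, 1, 124, 211, 0), (214, false, 0, 120, 214, 1), (216, true, 1, 121, 215, 0), (217, true, 1, 124, 215, 0), (218, true, 1, 128, 215, 0), (219, false, 0, 120, 219, 1), (221, true, 1, 121, 220, 0), (222, true, 1, 124, 220, 0), (223, true, 1, 128, 220, 0), (224, true, 1, 133, 220, 0), (225, true, 1, 145, 220, 0), (226, false, 0, 120, 226, 1), (228, true, 1, 121, 227, 0), (229, true, 1, 124, 227, 0), (230, true, 1, 128, 227, 0), (231, true, 1, 133, 227, 0), (232, true, 1, 139, 227, 0), (233, true, 1, 145, 227, 0), (234, true, 1, 150, 227, 0), (235, true, 1, 154, 227, 0), (236, true, 1, 157, 227, 0), (237, true, 1, 159, 227, 0), (239, true, 1, 161, 227, 0)]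
def tRow2 : List (ℕ × Bool × ℕ × ℕ × ℕ × ℕ) := [(117, false, 1, 121, 117, 1), (118, false, 0, 122, 118, 1), (123, false, 0, 122, 123, 1), (127, false, 0, 122, 127, 1), (132, false, 0, 122, 132, 1), (138, false, 0, 122, 138, 1), (144, false, 0, 122, 144, 1), (149, false, 0, 122, 149, 1), (153, false, 0, 122, 153, 1), (156, false, 0, 122, 156, 1), (159, false, 0, 122, 159, 1), (160, false, 1, 121, 160, 1), (166, false, 0, 122, 166, 1), (171, false, 0, 122, 171, 1), (175, false, 0, 122, 175, 1), (178, false, 0, 122, 178, 1), (181, false, 0, 122, 181, 1), (182, false, 1, 121, 182, 1), (185, false, 0, 122, 185, 1), (188, false, 0, 122, 188, 1), (191, false, 0, 122, 191, 1), (192, false, 1, 121, 192, 1), (194, false, 0, 122, 194, 1), (197, false, 0, 122, 197, 1), (198, false, 1, 121, 198, 1), (200, false, 0, 122, 200, 1), (201, false, 1, 121, 201, 1), (203, true, 2, 123, 202, 0), (204, false, 0, 122, 204, 1), (207, false, 0, 122, 207, 1), (208, false, 1, 121, 208, 1), (210, false, 0, 122, 210, 1), (211, false, 1, 121, 211,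 1), (213, true, 2, 123, 212, 0), (214, false, 0, 122, 214, 1), (215, false, 1, 121, 215, 1), (217, true, 2, 123, 216, 0), (218, true, 2, 127, 216, 0), (219, false, 0, 122, 219, 1), (220, false, 1, 121, 220, 1), (222, true, 2, 123, 221, 0), (223, true, 2, 127, 221, 0), (224, true, 2, 132, 221, 0), (225, true, 2, 144, 221, 0), (226, false, 0, 122, 226, 1), (227, false, 1, 121, 227, 1), (229, true, 2, 123, 228, 0), (230, true, 2, 127, 228, 0), (231, true, 2, 132, 228, 0), (232, true, 2, 138, 228, 0), (233, true, 2, 144, 228, 0), (234, true, 2, 149, 228, 0), (235, true, 2, 153, 228, 0), (236, true, 2, 156, 228, 0), (238, true, 2, 159, 228, 0), (239, true, 2, 160, 228, 0)]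
def tRow3 : List (ℕ × Bool × ℕ × ℕ × ℕ × ℕ) := [(114, false, 1, 124, 114, 1), (115, false, 0, 125, 115, 1), (116, false, 0, 125, 116, 1), (126, false, 0, 125, 126, 1), (131, false, 0, 125, 131, 1), (137, false, 0, 125, 137, 1), (143, false, 0, 125, 143, 1), (148, false, 0, 125, 148, 1), (152, false, 0, 125, 152, 1), (156, false, 0, 125, 156, 1), (157, false, 0, 125, 157, 1), (158, false, 1, 124, 158, 1), (165, false, 0, 125, 165, 1), (170, false, 0, 125, 170, 1), (174, false, 0, 125, 174, 1), (178, false, 0, 125, 178, 1), (179, false, 0, 125, 179, 1), (180, false, 1, 124, 180, 1), (184, false, 0, 125, 184, 1), (188, false, 0, 125, 188, 1), (189, false, 0, 125, 189, 1), (190, false, 1, 124, 190, 1), (194, false, 0, 125, 194, 1), (195, false, 0, 125, 195, 1), (196, false, 1, 124, 196, 1), (200, false, 0, 125, 200, 1), (201, false, 1, 124, 201, 1), (202, false, 2, 123, 202, 1), (204, false, 0, 125, 204, 1), (205, false, 0, 125, 205, 1), (206, false, 1, 124, 206, 1), (210, false, 0, 125, 210, 1), (211, false, 1, 124, 211,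 1), (212, false, 2, 123, 212, 1), (214, false, 0, 125, 214, 1), (215, false, 1, 124, 215, 1), (216, false, 2, 123, 216, 1), (218, true, 3, 126, 217, 0), (219, false, 0, 125, 219, 1), (220, false, 1, 124, 220, 1), (221, false, 2, 123, 221, 1), (223, true, 3, 126, 222, 0), (224, true, 3, 131, 222, 0), (225, true, 3, 143, 222, 0), (226, false, 0, 125, 226, 1), (227, false, 1, 124, 227, 1), (228, false, 2, 123, 228, 1), (230, true, 3, 126, 229, 0), (231, true, 3, 131, 229, 0), (232, true, 3, 137, 229, 0), (233, true, 3, 143, 229, 0), (234, true, 3, 148, 229, 0), (235, true, 3, 152, 229, 0), (237, true, 3, 156, 229, 0), (238, true, 3, 157, 229, 0), (239, true, 3, 158, 229, 0)]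
def tRow4 : List (ℕ × Bool × ℕ × ℕ × ℕ × ℕ) := [(110, false, 1, 128, 110, 1), (111, false, 0, 129, 111, 1), (112, false, 0, 129, 112, 1), (113, false, 0, 129, 113, 1), (130, false, 0, 129, 130, 1), (136, false, 0, 129, 136, 1), (142, false, 0, 129, 142, 1), (147, false, 0, 129, 147, 1), (152, false, 0, 129, 152, 1), (153, false, 0, 129, 153, 1), (154, false, 0, 129, 154, 1), (155, false, 1, 128, 155, 1), (164, false, 0, 129, 164, 1), (169, false, 0, 129, 169, 1), (174, false, 0, 129, 174, 1), (175, false, 0, 129, 175, 1), (176, false, 0, 129, 176, 1), (177, false, 1, 128, 177, 1), (184, false, 0, 129, 184, 1), (185, false, 0, 129, 185, 1), (186, false, 0, 129, 186, 1), (187, false, 1, 128, 187, 1), (194, false, 0, 129, 194, 1), (195, false, 0, 129, 195, 1), (196, false, 1, 128, 196, 1), (197, false, 0, 129, 197, 1), (198, false, 1, 128, 198, 1), (199, false, 2, 127, 199, 1), (204, false, 0, 129, 204, 1), (205, false, 0, 129, 205, 1), (206, false, 1, 128, 206, 1), (207, false, 0, 129, 207, 1), (208, false, 1, 128, 208,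 1), (209, false, 2, 127, 209, 1), (214, false, 0, 129, 214, 1), (215, false, 1, 128, 215, 1), (216, false, 2, 127, 216, 1), (217, false, 3, 126, 217, 1), (219, false, 0, 129, 219, 1), (220, false, 1, 128, 220, 1), (221, false, 2, 127, 221, 1), (222, false, 3, 126, 222, 1), (224, true, 4, 130, 223, 0), (225, true, 4, 142, 223, 0), (226, false, 0, 129, 226, 1), (227, false, 1, 128, 227, 1), (228, false, 2, 127, 228, 1), (229, false, 3, 126, 229, 1), (231, true, 4, 130, 230, 0), (232, true, 4, 136, 230, 0), (233, true, 4, 142, 230, 0), (234, true, 4, 147, 230, 0), (236, true, 4, 152, 230, 0), (237, true, 4, 153, 230, 0), (238, true, 4, 154, 230, 0), (239, true, 4, 155, 230, 0)]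
def tRow5 : List (ℕ × Bool × ℕ × ℕ × ℕ × ℕ) := [(105, false, 1, 133, 105, 1), (106, false, 0, 134, 106, 1), (107, false, 0, 134, 107, 1), (108, false, 0, 134, 108, 1), (109, false, 0, 134, 109, 1), (135, false, 0, 134, 135, 1), (141, false, 0, 134, 141, 1), (147, false, 0, 134, 147, 1), (148, false, 0, 134, 148, 1), (149, false, 0, 134, 149, 1), (150, false, 0, 134, 150, 1), (151, false, 1, 133, 151, 1), (163, false, 0, 134, 163, 1), (169, false, 0, 134, 169, 1), (170, false, 0, 134, 170, 1), (171, false, 0, 134, 171, 1), (172, false, 0, 134, 172, 1), (173, false, 1, 133, 173, 1), (184, false, 0, 134, 184, 1), (185, false, 0, 134, 185, 1), (186, false, 0, 134, 186, 1), (187, false, 1, 133, 187, 1), (188, false, 0, 134, 188, 1), (189, false, 0, 134, 189, 1), (190, false, 1, 133, 190, 1), (191, false, 0, 134, 191, 1), (192, false, 1, 133, 192, 1), (193, false, 2, 132, 193, 1), (204, false, 0, 134, 204, 1), (205, false, 0, 134, 205, 1), (206, false, 1, 133, 206, 1), (207, false, 0, 134, 207, 1), (208, false, 1, 133, 208,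 1), (209, false, 2, 132, 209, 1), (210, false, 0, 134, 210, 1), (211, false, 1, 133, 211, 1), (212, false, 2, 132, 212, 1), (213, false, 3, 131, 213, 1), (219, false, 0, 134, 219, 1), (220, false, 1, 133, 220, 1), (221, false, 2, 132, 221, 1), (222, false, 3, 131, 222, 1), (223, false, 4, 130, 223, 1), (225, true, 5, 141, 224, 0), (226, false, 0, 134, 226, 1), (227, false, 1, 133, 227, 1), (228, false, 2, 132, 228, 1), (229, false, 3, 131, 229, 1), (230, false, 4, 130, 230, 1), (232, true, 5, 135, 231, 0), (233, true, 5, 141, 231, 0), (235, true, 5, 147, 231, 0), (236, true, 5, 148, 231, 0), (237, true, 5, 149, 231, 0), (238, true, 5, 150, 231, 0), (239, true, 5, 151, 231, 0)]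
def tRow6 : List (ℕ × Bool × ℕ × ℕ × ℕ × ℕ) := [(99, false, 1, 139, 99, 1), (100, false, 0, 140, 100, 1), (101, false, 0, 140, 101, 1), (102, false, 0, 140, 102, 1), (103, false, 0, 140, 103, 1), (104, false, 0, 140, 104, 1), (141, false, 0, 140, 141, 1), (142, false, 0, 140, 142, 1), (143, false, 0, 140, 143, 1), (144, false, 0, 140, 144, 1), (145, false, 0, 140, 145, 1), (146, false, 1, 139, 146, 1), (162, false, 0, 140, 162, 1), (169, false, 0, 140, 169, 1), (170, false, 0, 140, 170, 1), (171, false, 0, 140, 171, 1), (172, false, 0, 140, 172, 1), (173, false, 1, 139, 173, 1), (174, false, 0, 140, 174, 1), (175, false, 0, 140, 175, 1), (176, false, 0, 140, 176, 1), (177, false, 1, 139, 177, 1), (178, false, 0, 140, 178, 1), (179, false, 0, 140, 179, 1), (180, false, 1, 139, 180, 1), (181, false, 0, 140, 181, 1), (182, false, 1, 139, 182, 1), (183, false, 2, 138, 183, 1), (204, false, 0, 140, 204, 1), (205, false, 0, 140, 205, 1), (206, false, 1, 139, 206, 1), (207, false, 0, 140, 207, 1), (208, false, 1, 139, 208, 1),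 (209, false, 2, 138, 209, 1), (210, false, 0, 140, 210, 1), (211, false, 1, 139, 211, 1), (212, false, 2, 138, 212, 1), (213, false, 3, 137, 213, 1), (214, false, 0, 140, 214, 1), (215, false, 1, 139, 215, 1), (216, false, 2, 138, 216, 1), (217, false, 3, 137, 217, 1), (218, false, 4, 136, 218, 1), (225, true, 6, 141, 224, 0), (226, false, 0, 140, 226, 1), (227, false, 1, 139, 227, 1), (228, false, 2, 138, 228, 1), (229, false, 3, 137, 229, 1), (230, false, 4, 136, 230, 1), (231, false, 5, 135, 231, 1), (234, true, 6, 141, 232, 0), (235, true, 6, 142, 232, 0), (236, true, 6, 143, 232, 0), (237, true, 6, 144, 232, 0), (238, true, 6, 145, 232, 0), (239, true, 6, 146, 232, 0)]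
def tRow7 : List (ℕ × Bool × ℕ × ℕ × ℕ × ℕ) := [(93, false, 1, 145, 93, 1), (94, false, 0, 146, 94, 1), (95, false, 0, 146, 95, 1), (96, false, 0, 146, 96, 1), (97, false, 0, 146, 97, 1), (98, false, 0, 146, 98, 1), (135, false, 0, 146, 135, 1), (136, false, 0, 146, 136, 1), (137, false, 0, 146, 137, 1), (138, false, 0, 146, 138, 1), (139, false, 0, 146, 139, 1), (140, false, 1, 145, 140, 1), (163, false, 0, 146, 163, 1), (164, false, 0, 146, 164, 1), (165, false, 0, 146, 165, 1), (166, false, 0, 146, 166, 1), (167, false, 0, 146, 167, 1), (168, false, 1, 145, 168, 1), (184, false, 0, 146, 184, 1), (185, false, 0, 146, 185, 1), (186, false, 0, 146, 186, 1), (187, false, 1, 145, 187, 1), (188, false, 0, 146, 188, 1), (189, false, 0, 146, 189, 1), (190, false, 1, 145, 190, 1), (191, false, 0, 146, 191, 1), (192, false, 1, 145, 192, 1), (193, false, 2, 144, 193, 1), (194, false, 0, 146, 194, 1), (195, false, 0, 146, 195, 1), (196, false, 1, 145, 196, 1), (197, false, 0, 146, 197, 1), (198, false, 1, 145, 198, 1), (199, false,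 2, 144, 199, 1), (200, false, 0, 146, 200, 1), (201, false, 1, 145, 201, 1), (202, false, 2, 144, 202, 1), (203, false, 3, 143, 203, 1), (219, false, 0, 146, 219, 1), (220, false, 1, 145, 220, 1), (221, false, 2, 144, 221, 1), (222, false, 3, 143, 222, 1), (223, false, 4, 142, 223, 1), (224, false, 5, 141, 224, 1), (226, false, 0, 146, 226, 1), (227, false, 1, 145, 227, 1), (228, false, 2, 144, 228, 1), (229, false, 3, 143, 229, 1), (230, false, 4, 142, 230, 1), (231, false, 5, 141, 231, 1), (234, true, 7, 135, 233, 0), (235, true, 7, 136, 233, 0), (236, true, 7, 137, 233, 0), (237, true, 7, 138, 233, 0), (238, true, 7, 139, 233, 0), (239, true, 7, 140, 233, 0)]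
def tRow8 : List (ℕ × Bool × ℕ × ℕ × ℕ × ℕ) := [(88, false, 1, 150, 88, 1), (89, false, 0, 151, 89, 1), (90, false, 0, 151, 90, 1), (91, false, 0, 151, 91, 1), (92, false, 0, 151, 92, 1), (98, false, 0, 151, 98, 1), (104, false, 0, 151, 104, 1), (130, false, 0, 151, 130, 1), (131, false, 0, 151, 131, 1), (132, false, 0, 151, 132, 1), (133, false, 0, 151, 133, 1), (134, false, 1, 150, 134, 1), (162, false, 0, 151, 162, 1), (164, false, 0, 151, 164, 1), (165, false, 0, 151, 165, 1), (166, false, 0, 151, 166, 1), (167, false, 0, 151, 167, 1), (168, false, 1, 150, 168, 1), (174, false, 0, 151, 174, 1), (175, false, 0, 151, 175, 1), (176, false, 0, 151, 176, 1), (177, false, 1, 150, 177, 1), (178, false, 0, 151, 178, 1), (179, false, 0, 151, 179, 1), (180, false, 1, 150, 180, 1), (181, false, 0, 151, 181, 1), (182, false, 1, 150, 182, 1), (183, false, 2, 149, 183, 1), (194, false, 0, 151, 194, 1), (195, false, 0, 151, 195, 1), (196, false, 1, 150, 196, 1), (197, false, 0, 151, 197, 1), (198, false, 1, 150, 198, 1), (199, false,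 2, 149, 199, 1), (200, false, 0, 151, 200, 1), (201, false, 1, 150, 201, 1), (202, false, 2, 149, 202, 1), (203, false, 3, 148, 203, 1), (214, false, 0, 151, 214, 1), (215, false, 1, 150, 215, 1), (216, false, 2, 149, 216, 1), (217, false, 3, 148, 217, 1), (218, false, 4, 147, 218, 1), (224, false, 6, 141, 224, 1), (226, false, 0, 151, 226, 1), (227, false, 1, 150, 227, 1), (228, false, 2, 149, 228, 1), (229, false, 3, 148, 229, 1), (230, false, 4, 147, 230, 1), (232, false, 6, 141, 232, 1), (233, false, 7, 135, 233, 1), (235, true, 8, 130, 234, 0), (236, true, 8, 131, 234, 0), (237, true, 8, 132, 234, 0), (238, true, 8, 133, 234, 0), (239, true, 8, 134, 234, 0)]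
def tRow9 : List (ℕ × Bool × ℕ × ℕ × ℕ × ℕ) := [(84, false, 1, 154, 84, 1), (85, false, 0, 155, 85, 1), (86, false, 0, 155, 86, 1), (87, false, 0, 155, 87, 1), (92, false, 0, 155, 92, 1), (97, false, 0, 155, 97, 1), (103, false, 0, 155, 103, 1), (109, false, 0, 155, 109, 1), (126, false, 0, 155, 126, 1), (127, false, 0, 155, 127, 1), (128, false, 0, 155, 128, 1), (129, false, 1, 154, 129, 1), (162, false, 0, 155, 162, 1), (163, false, 0, 155, 163, 1), (165, false, 0, 155, 165, 1), (166, false, 0, 155, 166, 1), (167, false, 0, 155, 167, 1), (168, false, 1, 154, 168, 1), (170, false, 0, 155, 170, 1), (171, false, 0, 155, 171, 1), (172, false, 0, 155, 172, 1), (173, false, 1, 154, 173, 1), (178, false, 0, 155, 178, 1), (179, false, 0, 155, 179, 1), (180, false, 1, 154, 180, 1), (181, false, 0, 155, 181, 1), (182, false, 1, 154, 182, 1), (183, false, 2, 153, 183, 1), (188, false, 0, 155, 188, 1), (189, false, 0, 155, 189, 1), (190, false, 1, 154, 190, 1), (191, false, 0, 155, 191, 1), (192, false, 1, 154, 192, 1), (193, false,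 2, 153, 193, 1), (200, false, 0, 155, 200, 1), (201, false, 1, 154, 201, 1), (202, false, 2, 153, 202, 1), (203, false, 3, 152, 203, 1), (210, false, 0, 155, 210, 1), (211, false, 1, 154, 211, 1), (212, false, 2, 153, 212, 1), (213, false, 3, 152, 213, 1), (218, false, 5, 147, 218, 1), (223, false, 6, 142, 223, 1), (226, false, 0, 155, 226, 1), (227, false, 1, 154, 227, 1), (228, false, 2, 153, 228, 1), (229, false, 3, 152, 229, 1), (231, false, 5, 147, 231, 1), (232, false, 6, 142, 232, 1), (233, false, 7, 136, 233, 1), (234, false, 8, 130, 234, 1), (236, true, 9, 126, 235, 0), (237, true, 9, 127, 235, 0), (238, true, 9, 128, 235, 0), (239, true, 9, 129, 235, 0)]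
def tRow10 : List (ℕ × Bool × ℕ × ℕ × ℕ × ℕ) := [(81, false, 1, 157, 81, 1), (82, false, 0, 158, 82, 1), (83, false, 0, 158, 83, 1), (87, false, 0, 158, 87, 1), (91, false, 0, 158, 91, 1), (96, false, 0, 158, 96, 1), (102, false, 0, 158, 102, 1), (108, false, 0, 158, 108, 1), (113, false, 0, 158, 113, 1), (123, false, 0, 158, 123, 1), (124, false, 0, 158, 124, 1), (125, false, 1, 157, 125, 1), (162, false, 0, 158, 162, 1), (163, false, 0, 158, 163, 1), (164, false, 0, 158, 164, 1), (166, false, 0, 158, 166, 1), (167, false, 0, 158, 167, 1), (168, false, 1, 157, 168, 1), (169, false, 0, 158, 169, 1), (171, false, 0, 158, 171, 1), (172, false, 0, 158, 172, 1), (173, false, 1, 157, 173, 1), (175, false, 0, 158, 175, 1), (176, false, 0, 158, 176, 1), (177, false, 1, 157, 177, 1), (181, false, 0, 158, 181, 1), (182, false, 1, 157, 182, 1), (183, false, 2, 156, 183, 1), (185, false, 0, 158, 185, 1), (186, false, 0, 158, 186, 1), (187, false, 1, 157, 187, 1), (191, false, 0, 158, 191, 1), (192, false, 1, 157, 192, 1), (193,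 false, 2, 156, 193, 1), (197, false, 0, 158, 197, 1), (198, false, 1, 157, 198, 1), (199, false, 2, 156, 199, 1), (203, false, 4, 152, 203, 1), (207, false, 0, 158, 207, 1), (208, false, 1, 157, 208, 1), (209, false, 2, 156, 209, 1), (213, false, 4, 152, 213, 1), (217, false, 5, 148, 217, 1), (222, false, 6, 143, 222, 1), (226, false, 0, 158, 226, 1), (227, false, 1, 157, 227, 1), (228, false, 2, 156, 228, 1), (230, false, 4, 152, 230, 1), (231, false, 5, 148, 231, 1), (232, false, 6, 143, 232, 1), (233, false, 7, 137, 233, 1), (234, false, 8, 131, 234, 1), (235, false, 9, 126, 235, 1), (237, true, 10, 123, 236, 0), (238, true, 10, 124, 236, 0), (239, true, 10, 125, 236, 0)]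
def tRow11 : List (ℕ × Bool × ℕ × ℕ × ℕ × ℕ) := [(79, false, 1, 159, 79, 1), (80, false, 0, 160, 80, 1), (83, false, 0, 160, 83, 1), (86, false, 0, 160, 86, 1), (90, false, 0, 160, 90, 1), (95, false, 0, 160, 95, 1), (101, false, 0, 160, 101, 1), (107, false, 0, 160, 107, 1), (112, false, 0, 160, 112, 1), (116, false, 0, 160, 116, 1), (121, false, 0, 160, 121, 1), (122, false, 1, 159, 122, 1), (162, false, 0, 160, 162, 1), (163, false, 0, 160, 163, 1), (164, false, 0, 160, 164, 1), (165, false, 0, 160, 165, 1), (167, false, 0, 160, 167, 1), (168, false, 1, 159, 168, 1), (169, false, 0, 160, 169, 1), (170, false, 0, 160, 170, 1), (172, false, 0, 160, 172, 1), (173, false, 1, 159, 173, 1), (174, false, 0, 160, 174, 1), (176, false, 0, 160, 176, 1), (177, false, 1, 159, 177, 1), (179, false, 0, 160, 179, 1), (180, false, 1, 159, 180, 1), (183, false, 3, 156, 183, 1), (184, false, 0, 160, 184, 1), (186, false, 0, 160, 186, 1), (187, false, 1, 159, 187, 1), (189, false, 0, 160, 189, 1), (190, false, 1, 159, 190, 1), (193,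 false, 3, 156, 193, 1), (195, false, 0, 160, 195, 1), (196, false, 1, 159, 196, 1), (199, false, 3, 156, 199, 1), (202, false, 4, 153, 202, 1), (205, false, 0, 160, 205, 1), (206, false, 1, 159, 206, 1), (209, false, 3, 156, 209, 1), (212, false, 4, 153, 212, 1), (216, false, 5, 149, 216, 1), (221, false, 6, 144, 221, 1), (226, false, 0, 160, 226, 1), (227, false, 1, 159, 227, 1), (229, false, 3, 156, 229, 1), (230, false, 4, 153, 230, 1), (231, false, 5, 149, 231, 1), (232, false, 6, 144, 232, 1), (233, false, 7, 138, 233, 1), (234, false, 8, 132, 234, 1), (235, false, 9, 127, 235, 1), (236, false, 10, 123, 236, 1), (238, true, 11, 121, 237, 0), (239, true, 11, 122, 237, 0)]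
def tRow12 : List (ℕ × Bool × ℕ × ℕ × ℕ × ℕ) := [(78, false, 2, 159, 78, 2), (80, false, 0, 161, 80, 1), (82, false, 0, 161, 82, 1), (85, false, 0, 161, 85, 1), (89, false, 0, 161, 89, 1), (94, false, 0, 161, 94, 1), (100, false, 0, 161, 100, 1), (106, false, 0, 161, 106, 1), (111, false, 0, 161, 111, 1), (115, false, 0, 161, 115, 1), (118, false, 0, 161, 118, 1), (120, false, 2, 159, 120, 2), (162, false, 0, 161, 162, 1), (163, false, 0, 161, 163, 1), (164, false, 0, 161, 164, 1), (165, false, 0, 161, 165, 1), (166, false, 0, 161, 166, 1), (168, false, 2, 159, 168, 1), (169, false, 0, 161, 169, 1), (170, false, 0, 161, 170, 1), (171, false, 0, 161, 171, 1), (173, false, 2, 159, 173, 1), (174, false, 0, 161, 174, 1), (175, false, 0, 161, 175, 1), (177, false, 2, 159, 177, 1), (178, false, 0, 161, 178, 1), (180, false, 2, 159, 180, 1), (182, false, 3, 157, 182, 1), (184, false, 0, 161, 184, 1), (185, false, 0, 161, 185, 1), (187, false, 2, 159, 187, 1), (188, false, 0, 161, 188, 1), (190, false, 2, 159, 190, 1), (192,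 false, 3, 157, 192, 1), (194, false, 0, 161, 194, 1), (196, false, 2, 159, 196, 1), (198, false, 3, 157, 198, 1), (201, false, 4, 154, 201, 1), (204, false, 0, 161, 204, 1), (206, false, 2, 159, 206, 1), (208, false, 3, 157, 208, 1), (211, false, 4, 154, 211, 1), (215, false, 5, 150, 215, 1), (220, false, 6, 145, 220, 1), (226, false, 0, 161, 226, 1), (228, false, 2, 159, 228, 1), (229, false, 3, 157, 229, 1), (230, false, 4, 154, 230, 1), (231, false, 5, 150, 231, 1), (232, false, 6, 145, 232, 1), (233, false, 7, 139, 233, 1), (234, false, 8, 133, 234, 1), (235, false, 9, 128, 235, 1), (236, false, 10, 124, 236, 1), (237, false, 11, 121, 237, 1), (239, true, 12, 120, 238, 0)]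
def tRow13 : List (ℕ × Bool × ℕ × ℕ × ℕ × ℕ) := [(78, false, 2, 160, 78, 2), (79, false, 1, 161, 79, 2), (81, false, 1, 161, 81, 2), (84, false, 1, 161, 84, 2), (88, false, 1, 161, 88, 2), (93, false, 1, 161, 93, 2), (99, false, 1, 161, 99, 2), (105, false, 1, 161, 105, 2), (110, false, 1, 161, 110, 2), (114, false, 1, 161, 114, 2), (117, false, 1, 161, 117, 2), (119, false, 2, 160, 119, 2), (162, false, 1, 161, 162, 1), (163, false, 1, 161, 163, 1), (164, false, 1, 161, 164, 1), (165, false, 1, 161, 165, 1), (166, false, 1, 161, 166, 1), (167, false, 2, 160, 167, 1), (169, false, 1, 161, 169, 1), (170, false, 1, 161, 170, 1), (171, false, 1, 161, 171, 1), (172, false, 2, 160, 172, 1), (174, false, 1, 161, 174, 1), (175, false, 1, 161, 175, 1), (176, false, 2, 160, 176, 1), (178, false, 1, 161, 178, 1), (179, false, 2, 160, 179, 1), (181, false, 3, 158, 181, 1), (184, false, 1, 161, 184, 1), (185, false, 1, 161, 185, 1), (186, false, 2, 160, 186, 1), (188, false, 1, 161, 188, 1), (189, false, 2, 160, 189, 1), (191, false,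 3, 158, 191, 1), (194, false, 1, 161, 194, 1), (195, false, 2, 160, 195, 1), (197, false, 3, 158, 197, 1), (200, false, 4, 155, 200, 1), (204, false, 1, 161, 204, 1), (205, false, 2, 160, 205, 1), (207, false, 3, 158, 207, 1), (210, false, 4, 155, 210, 1), (214, false, 5, 151, 214, 1), (219, false, 6, 146, 219, 1), (227, false, 1, 161, 227, 1), (228, false, 2, 160, 228, 1), (229, false, 3, 158, 229, 1), (230, false, 4, 155, 230, 1), (231, false, 5, 151, 231, 1), (232, false, 6, 146, 232, 1), (233, false, 7, 140, 233, 1), (234, false, 8, 134, 234, 1), (235, false, 9, 129, 235, 1), (236, false, 10, 125, 236, 1), (237, false, 11, 122, 237, 1), (238, false, 12, 120, 238, 1)]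
def tRow14 : List (ℕ × Bool × ℕ × ℕ × ℕ × ℕ) := [(71, false, 1, 167, 71, 1), (72, false, 0, 168, 72, 1), (73, false, 0, 168, 73, 1), (74, false, 0, 168, 74, 1), (75, false, 0, 168, 75, 1), (76, false, 0, 168, 76, 1), (77, false, 0, 168, 77, 1), (141, false, 0, 168, 141, 1), (142, false, 0, 168, 142, 1), (143, false, 0, 168, 143, 1), (144, false, 0, 168, 144, 1), (145, false, 0, 168, 145, 1), (146, false, 1, 167, 146, 1), (147, false, 0, 168, 147, 1), (148, false, 0, 168, 148, 1), (149, false, 0, 168, 149, 1), (150, false, 0, 168, 150, 1), (151, false, 1, 167, 151, 1), (152, false, 0, 168, 152, 1), (153, false, 0, 168, 153, 1), (154, false, 0, 168, 154, 1), (155, false, 1, 167, 155, 1), (156, false, 0, 168, 156, 1), (157, false, 0, 168, 157, 1), (158, false, 1, 167, 158, 1), (159, false, 0, 168, 159, 1), (160, false, 1, 167, 160, 1), (161, false, 2, 166, 161, 1), (204, false, 0, 168, 204, 1), (205, false, 0, 168, 205, 1), (206, false, 1, 167, 206, 1), (207, false, 0, 168, 207, 1), (208, false, 1, 167, 208, 1), (209, false,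 2, 166, 209, 1), (210, false, 0, 168, 210, 1), (211, false, 1, 167, 211, 1), (212, false, 2, 166, 212, 1), (213, false, 3, 165, 213, 1), (214, false, 0, 168, 214, 1), (215, false, 1, 167, 215, 1), (216, false, 2, 166, 216, 1), (217, false, 3, 165, 217, 1), (218, false, 4, 164, 218, 1), (219, false, 0, 168, 219, 1), (220, false, 1, 167, 220, 1), (221, false, 2, 166, 221, 1), (222, false, 3, 165, 222, 1), (223, false, 4, 164, 223, 1), (224, false, 5, 163, 224, 1), (233, true, 14, 141, 231, 0), (234, true, 14, 141, 232, 0), (235, true, 14, 142, 232, 0), (236, true, 14, 143, 232, 0), (237, true, 14, 144, 232, 0), (238, true, 14, 145, 232, 0), (239, true, 14, 146, 232, 0)]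
def tRow15 : List (ℕ × Bool × ℕ × ℕ × ℕ × ℕ) := [(66, false, 1, 172, 66, 1), (67, false, 0, 173, 67, 1), (68, false, 0, 173, 68, 1), (69, false, 0, 173, 69, 1), (70, false, 0, 173, 70, 1), (76, false, 0, 173, 76, 1), (77, false, 0, 173, 77, 1), (98, false, 0, 173, 98, 1), (130, false, 0, 173, 130, 1), (131, false, 0, 173, 131, 1), (132, false, 0, 173, 132, 1), (133, false, 0, 173, 133, 1), (134, false, 1, 172, 134, 1), (136, false, 0, 173, 136, 1), (137, false, 0, 173, 137, 1), (138, false, 0, 173, 138, 1), (139, false, 0, 173, 139, 1), (140, false, 1, 172, 140, 1), (152, false, 0, 173, 152, 1), (153, false, 0, 173, 153, 1), (154, false, 0, 173, 154, 1), (155, false, 1, 172, 155, 1), (156, false, 0, 173, 156, 1), (157, false, 0, 173, 157, 1), (158, false, 1, 172, 158, 1), (159, false, 0, 173, 159, 1), (160, false, 1, 172, 160, 1), (161, false, 2, 171, 161, 1), (194, false, 0, 173, 194, 1), (195, false, 0, 173, 195, 1), (196, false, 1, 172, 196, 1), (197, false, 0, 173, 197, 1), (198, false, 1, 172, 198, 1), (199, false,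 2, 171, 199, 1), (200, false, 0, 173, 200, 1), (201, false, 1, 172, 201, 1), (202, false, 2, 171, 202, 1), (203, false, 3, 170, 203, 1), (214, false, 0, 173, 214, 1), (215, false, 1, 172, 215, 1), (216, false, 2, 171, 216, 1), (217, false, 3, 170, 217, 1), (218, false, 4, 169, 218, 1), (219, false, 0, 173, 219, 1), (220, false, 1, 172, 220, 1), (221, false, 2, 171, 221, 1), (222, false, 3, 170, 222, 1), (223, false, 4, 169, 223, 1), (225, false, 7, 163, 225, 1), (231, false, 14, 141, 231, 1), (232, false, 14, 141, 232, 1), (235, true, 15, 130, 234, 0), (236, true, 15, 131, 234, 0), (237, true, 15, 132, 234, 0), (238, true, 15, 133, 234, 0), (239, true, 15, 134, 234, 0)]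
def tRow16 : List (ℕ × Bool × ℕ × ℕ × ℕ × ℕ) := [(62, false, 1, 176, 62, 1), (63, false, 0, 177, 63, 1), (64, false, 0, 177, 64, 1), (65, false, 0, 177, 65, 1), (70, false, 0, 177, 70, 1), (75, false, 0, 177, 75, 1), (77, false, 0, 177, 77, 1), (97, false, 0, 177, 97, 1), (109, false, 0, 177, 109, 1), (126, false, 0, 177, 126, 1), (127, false, 0, 177, 127, 1), (128, false, 0, 177, 128, 1), (129, false, 1, 176, 129, 1), (135, false, 0, 177, 135, 1), (137, false, 0, 177, 137, 1), (138, false, 0, 177, 138, 1), (139, false, 0, 177, 139, 1), (140, false, 1, 176, 140, 1), (148, false, 0, 177, 148, 1), (149, false, 0, 177, 149, 1), (150, false, 0, 177, 150, 1), (151, false, 1, 176, 151, 1), (156, false, 0, 177, 156, 1), (157, false, 0, 177, 157, 1), (158, false, 1, 176, 158, 1), (159, false, 0, 177, 159, 1), (160, false, 1, 176, 160, 1), (161, false, 2, 175, 161, 1), (188, false, 0, 177, 188, 1), (189, false, 0, 177, 189, 1), (190, false, 1, 176, 190, 1), (191, false, 0, 177, 191, 1), (192, false, 1, 176, 192, 1), (193, false,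 2, 175, 193, 1), (200, false, 0, 177, 200, 1), (201, false, 1, 176, 201, 1), (202, false, 2, 175, 202, 1), (203, false, 3, 174, 203, 1), (210, false, 0, 177, 210, 1), (211, false, 1, 176, 211, 1), (212, false, 2, 175, 212, 1), (213, false, 3, 174, 213, 1), (218, false, 5, 169, 218, 1), (219, false, 0, 177, 219, 1), (220, false, 1, 176, 220, 1), (221, false, 2, 175, 221, 1), (222, false, 3, 174, 222, 1), (224, false, 5, 169, 224, 1), (225, false, 7, 164, 225, 1), (230, false, 14, 142, 230, 1), (232, false, 14, 142, 232, 1), (234, false, 15, 130, 234, 1), (236, true, 16, 126, 235, 0), (237, true, 16, 127, 235, 0), (238, true, 16, 128, 235, 0), (239, true, 16, 129, 235, 0)]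
def tRow17 : List (ℕ × Bool × ℕ × ℕ × ℕ × ℕ) := [(59, false, 1, 179, 59, 1), (60, false, 0, 180, 60, 1), (61, false, 0, 180, 61, 1), (65, false, 0, 180, 65, 1), (69, false, 0, 180, 69, 1), (74, false, 0, 180, 74, 1), (77, false, 0, 180, 77, 1), (96, false, 0, 180, 96, 1), (108, false, 0, 180, 108, 1), (113, false, 0, 180, 113, 1), (123, false, 0, 180, 123, 1), (124, false, 0, 180, 124, 1), (125, false, 1, 179, 125, 1), (135, false, 0, 180, 135, 1), (136, false, 0, 180, 136, 1), (138, false, 0, 180, 138, 1), (139, false, 0, 180, 139, 1), (140, false, 1, 179, 140, 1), (147, false, 0, 180, 147, 1), (149, false, 0, 180, 149, 1), (150, false, 0, 180, 150, 1), (151, false, 1, 179, 151, 1), (153, false, 0, 180, 153, 1), (154, false, 0, 180, 154, 1), (155, false, 1, 179, 155, 1), (159, false, 0, 180, 159, 1), (160, false, 1, 179, 160, 1), (161, false, 2, 178, 161, 1), (185, false, 0, 180, 185, 1), (186, false, 0, 180, 186, 1), (187, false, 1, 179, 187, 1), (191, false, 0, 180, 191, 1), (192, false, 1, 179, 192, 1), (193, false,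 2, 178, 193, 1), (197, false, 0, 180, 197, 1), (198, false, 1, 179, 198, 1), (199, false, 2, 178, 199, 1), (203, false, 4, 174, 203, 1), (207, false, 0, 180, 207, 1), (208, false, 1, 179, 208, 1), (209, false, 2, 178, 209, 1), (213, false, 4, 174, 213, 1), (217, false, 5, 170, 217, 1), (219, false, 0, 180, 219, 1), (220, false, 1, 179, 220, 1), (221, false, 2, 178, 221, 1), (223, false, 4, 174, 223, 1), (224, false, 5, 170, 224, 1), (225, false, 7, 165, 225, 1), (229, false, 14, 143, 229, 1), (232, false, 14, 143, 232, 1), (234, false, 15, 131, 234, 1), (235, false, 16, 126, 235, 1), (237, true, 17, 123, 236, 0), (238, true, 17, 124, 236, 0), (239, true, 17, 125, 236, 0)]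
def tRow18 : List (ℕ × Bool × ℕ × ℕ × ℕ × ℕ) := [(57, false, 1, 181, 57, 1), (58, false, 0, 182, 58, 1), (61, false, 0, 182, 61, 1), (64, false, 0, 182, 64, 1), (68, false, 0, 182, 68, 1), (73, false, 0, 182, 73, 1), (77, false, 0, 182, 77, 1), (95, false, 0, 182, 95, 1), (107, false, 0, 182, 107, 1), (112, false, 0, 182, 112, 1), (116, false, 0, 182, 116, 1), (121, false, 0, 182, 121, 1), (122, false, 1, 181, 122, 1), (135, false, 0, 182, 135, 1), (136, false, 0, 182, 136, 1), (137, false, 0, 182, 137, 1), (139, false, 0, 182, 139, 1), (140, false, 1, 181, 140, 1), (147, false, 0, 182, 147, 1), (148, false, 0, 182, 148, 1), (150, false, 0, 182, 150, 1), (151, false, 1, 181, 151, 1), (152, false, 0, 182, 152, 1), (154, false, 0, 182, 154, 1), (155, false, 1, 181, 155, 1), (157, false, 0, 182, 157, 1), (158, false, 1, 181, 158, 1), (161, false, 3, 178, 161, 1), (184, false, 0, 182, 184, 1), (186, false, 0, 182, 186, 1), (187, false, 1, 181, 187, 1), (189, false, 0, 182, 189, 1), (190, false, 1, 181, 190, 1), (193, false,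 3, 178, 193, 1), (195, false, 0, 182, 195, 1), (196, false, 1, 181, 196, 1), (199, false, 3, 178, 199, 1), (202, false, 4, 175, 202, 1), (205, false, 0, 182, 205, 1), (206, false, 1, 181, 206, 1), (209, false, 3, 178, 209, 1), (212, false, 4, 175, 212, 1), (216, false, 5, 171, 216, 1), (219, false, 0, 182, 219, 1), (220, false, 1, 181, 220, 1), (222, false, 3, 178, 222, 1), (223, false, 4, 175, 223, 1), (224, false, 5, 171, 224, 1), (225, false, 7, 166, 225, 1), (228, false, 14, 144, 228, 1), (232, false, 14, 144, 232, 1), (234, false, 15, 132, 234, 1), (235, false, 16, 127, 235, 1), (236, false, 17, 123, 236, 1), (238, true, 18, 121, 237, 0), (239, true, 18, 122, 237, 0)]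
def tRow19 : List (ℕ × Bool × ℕ × ℕ × ℕ × ℕ) := [(56, false, 2, 181, 56, 2), (58, false, 0, 183, 58, 1), (60, false, 0, 183, 60, 1), (63, false, 0, 183, 63, 1), (67, false, 0, 183, 67, 1), (72, false, 0, 183, 72, 1), (77, false, 0, 183, 77, 1), (94, false, 0, 183, 94, 1), (106, false, 0, 183, 106, 1), (111, false, 0, 183, 111, 1), (115, false, 0, 183, 115, 1), (118, false, 0, 183, 118, 1), (120, false, 2, 181, 120, 2), (135, false, 0, 183, 135, 1), (136, false, 0, 183, 136, 1), (137, false, 0, 183, 137, 1), (138, false, 0, 183, 138, 1), (140, false, 2, 181, 140, 1), (147, false, 0, 183, 147, 1), (148, false, 0, 183, 148, 1), (149, false, 0, 183, 149, 1), (151, false, 2, 181, 151, 1), (152, false, 0, 183, 152, 1), (153, false, 0, 183, 153, 1), (155, false, 2, 181, 155, 1), (156, false, 0, 183, 156, 1), (158, false, 2, 181, 158, 1), (160, false, 3, 179, 160, 1), (184, false, 0, 183, 184, 1), (185, false, 0, 183, 185, 1), (187, false, 2, 181, 187, 1), (188, false, 0, 183, 188, 1), (190, false, 2, 181, 190, 1), (192, false,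 3, 179, 192, 1), (194, false, 0, 183, 194, 1), (196, false, 2, 181, 196, 1), (198, false, 3, 179, 198, 1), (201, false, 4, 176, 201, 1), (204, false, 0, 183, 204, 1), (206, false, 2, 181, 206, 1), (208, false, 3, 179, 208, 1), (211, false, 4, 176, 211, 1), (215, false, 5, 172, 215, 1), (219, false, 0, 183, 219, 1), (221, false, 2, 181, 221, 1), (222, false, 3, 179, 222, 1), (223, false, 4, 176, 223, 1), (224, false, 5, 172, 224, 1), (225, false, 7, 167, 225, 1), (227, false, 14, 145, 227, 1), (232, false, 14, 145, 232, 1), (234, false, 15, 133, 234, 1), (235, false, 16, 128, 235, 1), (236, false, 17, 124, 236, 1), (237, false, 18, 121, 237, 1), (239, true, 19, 120, 238, 0)]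
def tRow20 : List (ℕ × Bool × ℕ × ℕ × ℕ × ℕ) := [(56, false, 2, 182, 56, 2), (57, false, 1, 183, 57, 2), (59, false, 1, 183, 59, 2), (62, false, 1, 183, 62, 2), (66, false, 1, 183, 66, 2), (71, false, 1, 183, 71, 2), (77, false, 1, 183, 77, 1), (93, false, 1, 183, 93, 2), (105, false, 1, 183, 105, 2), (110, false, 1, 183, 110, 2), (114, false, 1, 183, 114, 2), (117, false, 1, 183, 117, 2), (119, false, 2, 182, 119, 2), (135, false, 1, 183, 135, 1), (136, false, 1, 183, 136, 1), (137, false, 1, 183, 137, 1), (138, false, 1, 183, 138, 1), (139, false, 2, 182, 139, 1), (147, false, 1, 183, 147, 1), (148, false, 1, 183, 148, 1), (149, false, 1, 183, 149, 1), (150, false, 2, 182, 150, 1), (152, false, 1, 183, 152, 1), (153, false, 1, 183, 153, 1), (154, false, 2, 182, 154, 1), (156, false, 1, 183, 156, 1), (157, false, 2, 182, 157, 1), (159, false, 3, 180, 159, 1), (184, false, 1, 183, 184, 1), (185, false, 1, 183, 185, 1), (186, false, 2, 182, 186, 1), (188, false, 1, 183, 188, 1), (189, false, 2, 182, 189, 1), (191, false,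 3, 180, 191, 1), (194, false, 1, 183, 194, 1), (195, false, 2, 182, 195, 1), (197, false, 3, 180, 197, 1), (200, false, 4, 177, 200, 1), (204, false, 1, 183, 204, 1), (205, false, 2, 182, 205, 1), (207, false, 3, 180, 207, 1), (210, false, 4, 177, 210, 1), (214, false, 5, 173, 214, 1), (220, false, 1, 183, 220, 1), (221, false, 2, 182, 221, 1), (222, false, 3, 180, 222, 1), (223, false, 4, 177, 223, 1), (224, false, 5, 173, 224, 1), (225, false, 7, 168, 225, 1), (226, false, 14, 146, 226, 1), (232, false, 14, 146, 232, 1), (234, false, 15, 134, 234, 1), (235, false, 16, 129, 235, 1), (236, false, 17, 125, 236, 1), (237, false, 18, 122, 237, 1), (238, false, 19, 120, 238, 1)]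
def tRow21 : List (ℕ × Bool × ℕ × ℕ × ℕ × ℕ) := [(52, false, 1, 186, 52, 1), (53, false, 0, 187, 53, 1), (54, false, 0, 187, 54, 1), (55, false, 0, 187, 55, 1), (70, false, 0, 187, 70, 1), (75, false, 0, 187, 75, 1), (76, false, 0, 187, 76, 1), (92, false, 0, 187, 92, 1), (103, false, 0, 187, 103, 1), (104, false, 0, 187, 104, 1), (126, false, 0, 187, 126, 1), (127, false, 0, 187, 127, 1), (128, false, 0, 187, 128, 1), (129, false, 1, 186, 129, 1), (131, false, 0, 187, 131, 1), (132, false, 0, 187, 132, 1), (133, false, 0, 187, 133, 1), (134, false, 1, 186, 134, 1), (143, false, 0, 187, 143, 1), (144, false, 0, 187, 144, 1), (145, false, 0, 187, 145, 1), (146, false, 1, 186, 146, 1), (156, false, 0, 187, 156, 1), (157, false, 0, 187, 157, 1), (158, false, 1, 186, 158, 1), (159, false, 0, 187, 159, 1), (160, false, 1, 186, 160, 1), (161, false, 2, 185, 161, 1), (178, false, 0, 187, 178, 1), (179, false, 0, 187, 179, 1), (180, false, 1, 186, 180, 1), (181, false, 0, 187, 181, 1), (182, false, 1, 186, 182, 1), (183, false,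 2, 185, 183, 1), (200, false, 0, 187, 200, 1), (201, false, 1, 186, 201, 1), (202, false, 2, 185, 202, 1), (203, false, 3, 184, 203, 1), (210, false, 0, 187, 210, 1), (211, false, 1, 186, 211, 1), (212, false, 2, 185, 212, 1), (213, false, 3, 184, 213, 1), (214, false, 0, 187, 214, 1), (215, false, 1, 186, 215, 1), (216, false, 2, 185, 216, 1), (217, false, 3, 184, 217, 1), (223, false, 6, 169, 223, 1), (224, false, 6, 169, 224, 1), (225, false, 8, 164, 225, 1), (230, false, 14, 147, 230, 1), (231, false, 14, 147, 231, 1), (233, false, 15, 136, 233, 1), (236, true, 21, 126, 235, 0), (237, true, 21, 127, 235, 0), (238, true, 21, 128, 235, 0), (239, true, 21, 129, 235, 0)]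
def tRow22 : List (ℕ × Bool × ℕ × ℕ × ℕ × ℕ) := [(49, false, 1, 189, 49, 1), (50, false, 0, 190, 50, 1), (51, false, 0, 190, 51, 1), (55, false, 0, 190, 55, 1), (69, false, 0, 190, 69, 1), (74, false, 0, 190, 74, 1), (76, false, 0, 190, 76, 1), (91, false, 0, 190, 91, 1), (102, false, 0, 190, 102, 1), (104, false, 0, 190, 104, 1), (113, false, 0, 190, 113, 1), (123, false, 0, 190, 123, 1), (124, false, 0, 190, 124, 1), (125, false, 1, 189, 125, 1), (130, false, 0, 190, 130, 1), (132, false, 0, 190, 132, 1), (133, false, 0, 190, 133, 1), (134, false, 1, 189, 134, 1), (142, false, 0, 190, 142, 1), (144, false, 0, 190, 144, 1), (145, false, 0, 190, 145, 1), (146, false, 1, 189, 146, 1), (153, false, 0, 190, 153, 1), (154, false, 0, 190, 154, 1), (155, false, 1, 189, 155, 1), (159, false, 0, 190, 159, 1), (160, false, 1, 189, 160, 1), (161, false, 2, 188, 161, 1), (175, false, 0, 190, 175, 1), (176, false, 0, 190, 176, 1), (177, false, 1, 189, 177, 1), (181, false, 0, 190, 181, 1), (182, false, 1, 189, 182, 1), (183, false,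 2, 188, 183, 1), (197, false, 0, 190, 197, 1), (198, false, 1, 189, 198, 1), (199, false, 2, 188, 199, 1), (203, false, 4, 184, 203, 1), (207, false, 0, 190, 207, 1), (208, false, 1, 189, 208, 1), (209, false, 2, 188, 209, 1), (213, false, 4, 184, 213, 1), (214, false, 0, 190, 214, 1), (215, false, 1, 189, 215, 1), (216, false, 2, 188, 216, 1), (218, false, 4, 184, 218, 1), (222, false, 6, 170, 222, 1), (224, false, 6, 170, 224, 1), (225, false, 8, 165, 225, 1), (229, false, 14, 148, 229, 1), (231, false, 14, 148, 231, 1), (233, false, 15, 137, 233, 1), (235, false, 21, 126, 235, 1), (237, true, 22, 123, 236, 0), (238, true, 22, 124, 236, 0), (239, true, 22, 125, 236, 0)]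
def tRow23 : List (ℕ × Bool × ℕ × ℕ × ℕ × ℕ) := [(47, false, 1, 191, 47, 1), (48, false, 0, 192, 48, 1), (51, false, 0, 192, 51, 1), (54, false, 0, 192, 54, 1), (68, false, 0, 192, 68, 1), (73, false, 0, 192, 73, 1), (76, false, 0, 192, 76, 1), (90, false, 0, 192, 90, 1), (101, false, 0, 192, 101, 1), (104, false, 0, 192, 104, 1), (112, false, 0, 192, 112, 1), (116, false, 0, 192, 116, 1), (121, false, 0, 192, 121, 1), (122, false, 1, 191, 122, 1), (130, false, 0, 192, 130, 1), (131, false, 0, 192, 131, 1), (133, false, 0, 192, 133, 1), (134, false, 1, 191, 134, 1), (142, false, 0, 192, 142, 1), (143, false, 0, 192, 143, 1), (145, false, 0, 192, 145, 1), (146, false, 1, 191, 146, 1), (152, false, 0, 192, 152, 1), (154, false, 0, 192, 154, 1), (155, false, 1, 191, 155, 1), (157, false, 0, 192, 157, 1), (158, false, 1, 191, 158, 1), (161, false, 3, 188, 161, 1), (174, false, 0, 192, 174, 1), (176, false, 0, 192, 176, 1), (177, false, 1, 191, 177, 1), (179, false, 0, 192, 179, 1), (180, false, 1, 191, 180, 1), (183, false,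 3, 188, 183, 1), (195, false, 0, 192, 195, 1), (196, false, 1, 191, 196, 1), (199, false, 3, 188, 199, 1), (202, false, 4, 185, 202, 1), (205, false, 0, 192, 205, 1), (206, false, 1, 191, 206, 1), (209, false, 3, 188, 209, 1), (212, false, 4, 185, 212, 1), (214, false, 0, 192, 214, 1), (215, false, 1, 191, 215, 1), (217, false, 3, 188, 217, 1), (218, false, 4, 185, 218, 1), (221, false, 6, 171, 221, 1), (224, false, 6, 171, 224, 1), (225, false, 8, 166, 225, 1), (228, false, 14, 149, 228, 1), (231, false, 14, 149, 231, 1), (233, false, 15, 138, 233, 1), (235, false, 21, 127, 235, 1), (236, false, 22, 123, 236, 1), (238, true, 23, 121, 237, 0), (239, true, 23, 122, 237, 0)]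
def tRow24 : List (ℕ × Bool × ℕ × ℕ × ℕ × ℕ) := [(46, false, 2, 191, 46, 2), (48, false, 0, 193, 48, 1), (50, false, 0, 193, 50, 1), (53, false, 0, 193, 53, 1), (67, false, 0, 193, 67, 1), (72, false, 0, 193, 72, 1), (76, false, 0, 193, 76, 1), (89, false, 0, 193, 89, 1), (100, false, 0, 193, 100, 1), (104, false, 0, 193, 104, 1), (111, false, 0, 193, 111, 1), (115, false, 0, 193, 115, 1), (118, false, 0, 193, 118, 1), (120, false, 2, 191, 120, 2), (130, false, 0, 193, 130, 1), (131, false, 0, 193, 131, 1), (132, false, 0, 193, 132, 1), (134, false, 2, 191, 134, 1), (142, false, 0, 193, 142, 1), (143, false, 0, 193, 143, 1), (144, false, 0, 193, 144, 1), (146, false, 2, 191, 146, 1), (152, false, 0, 193, 152, 1), (153, false, 0, 193, 153, 1), (155, false, 2, 191, 155, 1), (156, false, 0, 193, 156, 1), (158, false, 2, 191, 158, 1), (160, false, 3, 189, 160, 1), (174, false, 0, 193, 174, 1), (175, false, 0, 193, 175, 1), (177, false, 2, 191, 177, 1), (178, false, 0, 193, 178, 1), (180, false, 2, 191, 180, 1), (182, false,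 3, 189, 182, 1), (194, false, 0, 193, 194, 1), (196, false, 2, 191, 196, 1), (198, false, 3, 189, 198, 1), (201, false, 4, 186, 201, 1), (204, false, 0, 193, 204, 1), (206, false, 2, 191, 206, 1), (208, false, 3, 189, 208, 1), (211, false, 4, 186, 211, 1), (214, false, 0, 193, 214, 1), (216, false, 2, 191, 216, 1), (217, false, 3, 189, 217, 1), (218, false, 4, 186, 218, 1), (220, false, 6, 172, 220, 1), (224, false, 6, 172, 224, 1), (225, false, 8, 167, 225, 1), (227, false, 14, 150, 227, 1), (231, false, 14, 150, 231, 1), (233, false, 15, 139, 233, 1), (235, false, 21, 128, 235, 1), (236, false, 22, 124, 236, 1), (237, false, 23, 121, 237, 1), (239, true, 24, 120, 238, 0)]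
def tRow25 : List (ℕ × Bool × ℕ × ℕ × ℕ × ℕ) := [(46, false, 2, 192, 46, 2), (47, false, 1, 193, 47, 2), (49, false, 1, 193, 49, 2), (52, false, 1, 193, 52, 2), (66, false, 1, 193, 66, 2), (71, false, 1, 193, 71, 2), (76, false, 1, 193, 76, 1), (88, false, 1, 193, 88, 2), (99, false, 1, 193, 99, 2), (104, false, 1, 193, 104, 1), (110, false, 1, 193, 110, 2), (114, false, 1, 193, 114, 2), (117, false, 1, 193, 117, 2), (119, false, 2, 192, 119, 2), (130, false, 1, 193, 130, 1), (131, false, 1, 193, 131, 1), (132, false, 1, 193, 132, 1), (133, false, 2, 192, 133, 1), (142, false, 1, 193, 142, 1), (143, false, 1, 193, 143, 1), (144, false, 1, 193, 144, 1), (145, false, 2, 192, 145, 1), (152, false, 1, 193, 152, 1), (153, false, 1, 193, 153, 1), (154, false, 2, 192, 154, 1), (156, false, 1, 193, 156, 1), (157, false, 2, 192, 157, 1), (159, false, 3, 190, 159, 1), (174, false, 1, 193, 174, 1), (175, false, 1, 193, 175, 1), (176, false, 2, 192, 176, 1), (178, false, 1, 193, 178, 1), (179, false, 2, 192, 179, 1), (181, false,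 3, 190, 181, 1), (194, false, 1, 193, 194, 1), (195, false, 2, 192, 195, 1), (197, false, 3, 190, 197, 1), (200, false, 4, 187, 200, 1), (204, false, 1, 193, 204, 1), (205, false, 2, 192, 205, 1), (207, false, 3, 190, 207, 1), (210, false, 4, 187, 210, 1), (215, false, 1, 193, 215, 1), (216, false, 2, 192, 216, 1), (217, false, 3, 190, 217, 1), (218, false, 4, 187, 218, 1), (219, false, 6, 173, 219, 1), (224, false, 6, 173, 224, 1), (225, false, 8, 168, 225, 1), (226, false, 14, 151, 226, 1), (231, false, 14, 151, 231, 1), (233, false, 15, 140, 233, 1), (235, false, 21, 129, 235, 1), (236, false, 22, 125, 236, 1), (237, false, 23, 122, 237, 1), (238, false, 24, 120, 238, 1)]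
def tRow26 : List (ℕ × Bool × ℕ × ℕ × ℕ × ℕ) := [(43, false, 1, 195, 43, 1), (44, false, 0, 196, 44, 1), (45, false, 0, 196, 45, 1), (55, false, 0, 196, 55, 1), (65, false, 0, 196, 65, 1), (74, false, 0, 196, 74, 1), (75, false, 0, 196, 75, 1), (87, false, 0, 196, 87, 1), (102, false, 0, 196, 102, 1), (103, false, 0, 196, 103, 1), (108, false, 0, 196, 108, 1), (109, false, 0, 196, 109, 1), (123, false, 0, 196, 123, 1), (124, false, 0, 196, 124, 1), (125, false, 1, 195, 125, 1), (127, false, 0, 196, 127, 1), (128, false, 0, 196, 128, 1), (129, false, 1, 195, 129, 1), (141, false, 0, 196, 141, 1), (144, false, 0, 196, 144, 1), (145, false, 0, 196, 145, 1), (146, false, 1, 195, 146, 1), (149, false, 0, 196, 149, 1), (150, false, 0, 196, 150, 1), (151, false, 1, 195, 151, 1), (159, false, 0, 196, 159, 1), (160, false, 1, 195, 160, 1), (161, false, 2, 194, 161, 1), (171, false, 0, 196, 171, 1), (172, false, 0, 196, 172, 1), (173, false, 1, 195, 173, 1), (181, false, 0, 196, 181, 1), (182, false, 1, 195, 182, 1), (183, false,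 2, 194, 183, 1), (191, false, 0, 196, 191, 1), (192, false, 1, 195, 192, 1), (193, false, 2, 194, 193, 1), (203, false, 5, 184, 203, 1), (207, false, 0, 196, 207, 1), (208, false, 1, 195, 208, 1), (209, false, 2, 194, 209, 1), (210, false, 0, 196, 210, 1), (211, false, 1, 195, 211, 1), (212, false, 2, 194, 212, 1), (217, false, 5, 184, 217, 1), (218, false, 5, 184, 218, 1), (222, false, 6, 174, 222, 1), (223, false, 6, 174, 223, 1), (225, false, 9, 165, 225, 1), (229, false, 14, 152, 229, 1), (230, false, 14, 152, 230, 1), (233, false, 16, 137, 233, 1), (234, false, 21, 131, 234, 1), (237, true, 26, 123, 236, 0), (238, true, 26, 124, 236, 0), (239, true, 26, 125, 236, 0)]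
def tRow27 : List (ℕ × Bool × ℕ × ℕ × ℕ × ℕ) := [(41, false, 1, 197, 41, 1), (42, false, 0, 198, 42, 1), (45, false, 0, 198, 45, 1), (54, false, 0, 198, 54, 1), (64, false, 0, 198, 64, 1), (73, false, 0, 198, 73, 1), (75, false, 0, 198, 75, 1), (86, false, 0, 198, 86, 1), (101, false, 0, 198, 101, 1), (103, false, 0, 198, 103, 1), (107, false, 0, 198, 107, 1), (109, false, 0, 198, 109, 1), (116, false, 0, 198, 116, 1), (121, false, 0, 198, 121, 1), (122, false, 1, 197, 122, 1), (126, false, 0, 198, 126, 1), (128, false, 0, 198, 128, 1), (129, false, 1, 197, 129, 1), (141, false, 0, 198, 141, 1), (143, false, 0, 198, 143, 1), (145, false, 0, 198, 145, 1), (146, false, 1, 197, 146, 1), (148, false, 0, 198, 148, 1), (150, false, 0, 198, 150, 1), (151, false, 1, 197, 151, 1), (157, false, 0, 198, 157, 1), (158, false, 1, 197, 158, 1), (161, false, 3, 194, 161, 1), (170, false, 0, 198, 170, 1), (172, false, 0, 198, 172, 1), (173, false, 1, 197, 173, 1), (179, false, 0, 198, 179, 1), (180, false, 1, 197, 180, 1), (183, false,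 3, 194, 183, 1), (189, false, 0, 198, 189, 1), (190, false, 1, 197, 190, 1), (193, false, 3, 194, 193, 1), (202, false, 5, 185, 202, 1), (205, false, 0, 198, 205, 1), (206, false, 1, 197, 206, 1), (209, false, 3, 194, 209, 1), (210, false, 0, 198, 210, 1), (211, false, 1, 197, 211, 1), (213, false, 3, 194, 213, 1), (216, false, 5, 185, 216, 1), (218, false, 5, 185, 218, 1), (221, false, 6, 175, 221, 1), (223, false, 6, 175, 223, 1), (225, false, 9, 166, 225, 1), (228, false, 14, 153, 228, 1), (230, false, 14, 153, 230, 1), (233, false, 16, 138, 233, 1), (234, false, 21, 132, 234, 1), (236, false, 26, 123, 236, 1), (238, true, 27, 121, 237, 0), (239, true, 27, 122, 237, 0)]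
def tRow28 : List (ℕ × Bool × ℕ × ℕ × ℕ × ℕ) := [(40, false, 2, 197, 40, 2), (42, false, 0, 199, 42, 1), (44, false, 0, 199, 44, 1), (53, false, 0, 199, 53, 1), (63, false, 0, 199, 63, 1), (72, false, 0, 199, 72, 1), (75, false, 0, 199, 75, 1), (85, false, 0, 199, 85, 1), (100, false, 0, 199, 100, 1), (103, false, 0, 199, 103, 1), (106, false, 0, 199, 106, 1), (109, false, 0, 199, 109, 1), (115, false, 0, 199, 115, 1), (118, false, 0, 199, 118, 1), (120, false, 2, 197, 120, 2), (126, false, 0, 199, 126, 1), (127, false, 0, 199, 127, 1), (129, false, 2, 197, 129, 1), (141, false, 0, 199, 141, 1), (143, false, 0, 199, 143, 1), (144, false, 0, 199, 144, 1), (146, false, 2, 197, 146, 1), (148, false, 0, 199, 148, 1), (149, false, 0, 199, 149, 1), (151, false, 2, 197, 151, 1), (156, false, 0, 199, 156, 1), (158, false, 2, 197, 158, 1), (160, false, 3, 195, 160, 1), (170, false, 0, 199, 170, 1), (171, false, 0, 199, 171, 1), (173, false, 2, 197, 173, 1), (178, false, 0, 199, 178, 1), (180, false, 2, 197, 180, 1), (182, false,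 3, 195, 182, 1), (188, false, 0, 199, 188, 1), (190, false, 2, 197, 190, 1), (192, false, 3, 195, 192, 1), (201, false, 5, 186, 201, 1), (204, false, 0, 199, 204, 1), (206, false, 2, 197, 206, 1), (208, false, 3, 195, 208, 1), (210, false, 0, 199, 210, 1), (212, false, 2, 197, 212, 1), (213, false, 3, 195, 213, 1), (215, false, 5, 186, 215, 1), (218, false, 5, 186, 218, 1), (220, false, 6, 176, 220, 1), (223, false, 6, 176, 223, 1), (225, false, 9, 167, 225, 1), (227, false, 14, 154, 227, 1), (230, false, 14, 154, 230, 1), (233, false, 16, 139, 233, 1), (234, false, 21, 133, 234, 1), (236, false, 26, 124, 236, 1), (237, false, 27, 121, 237, 1), (239, true, 28, 120, 238, 0)]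
def tRow29 : List (ℕ × Bool × ℕ × ℕ × ℕ × ℕ) := [(40, false, 2, 198, 40, 2), (41, false, 1, 199, 41, 2), (43, false, 1, 199, 43, 2), (52, false, 1, 199, 52, 2), (62, false, 1, 199, 62, 2), (71, false, 1, 199, 71, 2), (75, false, 1, 199, 75, 1), (84, false, 1, 199, 84, 2), (99, false, 1, 199, 99, 2), (103, false, 1, 199, 103, 1), (105, false, 1, 199, 105, 2), (109, false, 1, 199, 109, 1), (114, false, 1, 199, 114, 2), (117, false, 1, 199, 117, 2), (119, false, 2, 198, 119, 2), (126, false, 1, 199, 126, 1), (127, false, 1, 199, 127, 1), (128, false, 2, 198, 128, 1), (141, false, 1, 199, 141, 1), (143, false, 1, 199, 143, 1), (144, false, 1, 199, 144, 1), (145, false, 2, 198, 145, 1), (148, false, 1, 199, 148, 1), (149, false, 1, 199, 149, 1), (150, false, 2, 198, 150, 1), (156, false, 1, 199, 156, 1), (157, false, 2, 198, 157, 1), (159, false, 3, 196, 159, 1), (170, false, 1, 199, 170, 1), (171, false, 1, 199, 171, 1), (172, false, 2, 198, 172, 1), (178, false, 1, 199, 178, 1), (179, false, 2, 198, 179, 1), (181, false,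 3, 196, 181, 1), (188, false, 1, 199, 188, 1), (189, false, 2, 198, 189, 1), (191, false, 3, 196, 191, 1), (200, false, 5, 187, 200, 1), (204, false, 1, 199, 204, 1), (205, false, 2, 198, 205, 1), (207, false, 3, 196, 207, 1), (211, false, 1, 199, 211, 1), (212, false, 2, 198, 212, 1), (213, false, 3, 196, 213, 1), (214, false, 5, 187, 214, 1), (218, false, 5, 187, 218, 1), (219, false, 6, 177, 219, 1), (223, false, 6, 177, 223, 1), (225, false, 9, 168, 225, 1), (226, false, 14, 155, 226, 1), (230, false, 14, 155, 230, 1), (233, false, 16, 140, 233, 1), (234, false, 21, 134, 234, 1), (236, false, 26, 125, 236, 1), (237, false, 27, 122, 237, 1), (238, false, 28, 120, 238, 1)]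
def tRow30 : List (ℕ × Bool × ℕ × ℕ × ℕ × ℕ) := [(38, false, 1, 200, 38, 1), (39, false, 0, 201, 39, 1), (45, false, 0, 201, 45, 1), (51, false, 0, 201, 51, 1), (61, false, 0, 201, 61, 1), (73, false, 0, 201, 73, 1), (74, false, 0, 201, 74, 1), (83, false, 0, 201, 83, 1), (101, false, 0, 201, 101, 1), (102, false, 0, 201, 102, 1), (107, false, 0, 201, 107, 1), (108, false, 0, 201, 108, 1), (112, false, 0, 201, 112, 1), (113, false, 0, 201, 113, 1), (121, false, 0, 201, 121, 1), (122, false, 1, 200, 122, 1), (124, false, 0, 201, 124, 1), (125, false, 1, 200, 125, 1), (141, false, 0, 201, 141, 1), (142, false, 0, 201, 142, 1), (145, false, 0, 201, 145, 1), (146, false, 1, 200, 146, 1), (147, false, 0, 201, 147, 1), (150, false, 0, 201, 150, 1), (151, false, 1, 200, 151, 1), (154, false, 0, 201, 154, 1), (155, false, 1, 200, 155, 1), (161, false, 4, 194, 161, 1), (169, false, 0, 201, 169, 1), (172, false, 0, 201, 172, 1), (173, false, 1, 200, 173, 1), (176, false, 0, 201, 176, 1), (177, false, 1, 200, 177, 1), (183, false,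 4, 194, 183, 1), (186, false, 0, 201, 186, 1), (187, false, 1, 200, 187, 1), (193, false, 4, 194, 193, 1), (199, false, 5, 188, 199, 1), (205, false, 0, 201, 205, 1), (206, false, 1, 200, 206, 1), (207, false, 0, 201, 207, 1), (208, false, 1, 200, 208, 1), (212, false, 4, 194, 212, 1), (213, false, 4, 194, 213, 1), (216, false, 5, 188, 216, 1), (217, false, 5, 188, 217, 1), (221, false, 6, 178, 221, 1), (222, false, 6, 178, 222, 1), (225, false, 10, 166, 225, 1), (228, false, 14, 156, 228, 1), (229, false, 14, 156, 229, 1), (233, false, 17, 138, 233, 1), (234, false, 22, 132, 234, 1), (235, false, 26, 127, 235, 1), (238, true, 30, 121, 237, 0), (239, true, 30, 122, 237, 0)]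
def tRow31 : List (ℕ × Bool × ℕ × ℕ × ℕ × ℕ) := [(37, false, 2, 200, 37, 2), (39, false, 0, 202, 39, 1), (44, false, 0, 202, 44, 1), (50, false, 0, 202, 50, 1), (60, false, 0, 202, 60, 1), (72, false, 0, 202, 72, 1), (74, false, 0, 202, 74, 1), (82, false, 0, 202, 82, 1), (100, false, 0, 202, 100, 1), (102, false, 0, 202, 102, 1), (106, false, 0, 202, 106, 1), (108, false, 0, 202, 108, 1), (111, false, 0, 202, 111, 1), (113, false, 0, 202, 113, 1), (118, false, 0, 202, 118, 1), (120, false, 2, 200, 120, 2), (123, false, 0, 202, 123, 1), (125, false, 2, 200, 125, 1), (141, false, 0, 202, 141, 1), (142, false, 0, 202, 142, 1), (144, false, 0, 202, 144, 1), (146, false, 2, 200, 146, 1), (147, false, 0, 202, 147, 1), (149, false, 0, 202, 149, 1), (151, false, 2, 200, 151, 1), (153, false, 0, 202, 153, 1), (155, false, 2, 200, 155, 1), (160, false, 4, 195, 160, 1), (169, false, 0, 202, 169, 1), (171, false, 0, 202, 171, 1), (173, false, 2, 200, 173, 1), (175, false, 0, 202, 175, 1), (177, false, 2, 200, 177, 1), (182, false,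 4, 195, 182, 1), (185, false, 0, 202, 185, 1), (187, false, 2, 200, 187, 1), (192, false, 4, 195, 192, 1), (198, false, 5, 189, 198, 1), (204, false, 0, 202, 204, 1), (206, false, 2, 200, 206, 1), (207, false, 0, 202, 207, 1), (209, false, 2, 200, 209, 1), (211, false, 4, 195, 211, 1), (213, false, 4, 195, 213, 1), (215, false, 5, 189, 215, 1), (217, false, 5, 189, 217, 1), (220, false, 6, 179, 220, 1), (222, false, 6, 179, 222, 1), (225, false, 10, 167, 225, 1), (227, false, 14, 157, 227, 1), (229, false, 14, 157, 229, 1), (233, false, 17, 139, 233, 1), (234, false, 22, 133, 234, 1), (235, false, 26, 128, 235, 1), (237, false, 30, 121, 237, 1), (239, true, 31, 120, 238, 0)]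
def tRow32 : List (ℕ × Bool × ℕ × ℕ × ℕ × ℕ) := [(37, false, 2, 201, 37, 2), (38, false, 1, 202, 38, 2), (43, false, 1, 202, 43, 2), (49, false, 1, 202, 49, 2), (59, false, 1, 202, 59, 2), (71, false, 1, 202, 71, 2), (74, false, 1, 202, 74, 1), (81, false, 1, 202, 81, 2), (99, false, 1, 202, 99, 2), (102, false, 1, 202, 102, 1), (105, false, 1, 202, 105, 2), (108, false, 1, 202, 108, 1), (110, false, 1, 202, 110, 2), (113, false, 1, 202, 113, 1), (117, false, 1, 202, 117, 2), (119, false, 2, 201, 119, 2), (123, false, 1, 202, 123, 1), (124, false, 2, 201, 124, 1), (141, false, 1, 202, 141, 1), (142, false, 1, 202, 142, 1), (144, false, 1, 202, 144, 1), (145, false, 2, 201, 145, 1), (147, false, 1, 202, 147, 1), (149, false, 1, 202, 149, 1), (150, false, 2, 201, 150, 1), (153, false, 1, 202, 153, 1), (154, false, 2, 201, 154, 1), (159, false, 4, 196, 159, 1), (169, false, 1, 202, 169, 1), (171, false, 1, 202, 171, 1), (172, false, 2, 201, 172, 1), (175, false, 1, 202, 175, 1), (176, false, 2, 201, 176, 1), (181, false,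 4, 196, 181, 1), (185, false, 1, 202, 185, 1), (186, false, 2, 201, 186, 1), (191, false, 4, 196, 191, 1), (197, false, 5, 190, 197, 1), (204, false, 1, 202, 204, 1), (205, false, 2, 201, 205, 1), (208, false, 1, 202, 208, 1), (209, false, 2, 201, 209, 1), (210, false, 4, 196, 210, 1), (213, false, 4, 196, 213, 1), (214, false, 5, 190, 214, 1), (217, false, 5, 190, 217, 1), (219, false, 6, 180, 219, 1), (222, false, 6, 180, 222, 1), (225, false, 10, 168, 225, 1), (226, false, 14, 158, 226, 1), (229, false, 14, 158, 229, 1), (233, false, 17, 140, 233, 1), (234, false, 22, 134, 234, 1), (235, false, 26, 129, 235, 1), (237, false, 30, 122, 237, 1), (238, false, 31, 120, 238, 1)]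
def tRow33 : List (ℕ × Bool × ℕ × ℕ × ℕ × ℕ) := [(36, false, 3, 200, 36, 2), (39, false, 0, 203, 39, 1), (42, false, 0, 203, 42, 1), (48, false, 0, 203, 48, 1), (58, false, 0, 203, 58, 1), (72, false, 0, 203, 72, 1), (73, false, 0, 203, 73, 1), (80, false, 0, 203, 80, 1), (100, false, 0, 203, 100, 1), (101, false, 0, 203, 101, 1), (106, false, 0, 203, 106, 1), (107, false, 0, 203, 107, 1), (111, false, 0, 203, 111, 1), (112, false, 0, 203, 112, 1), (115, false, 0, 203, 115, 1), (116, false, 0, 203, 116, 1), (120, false, 3, 200, 120, 2), (122, false, 3, 200, 122, 2), (141, false, 0, 203, 141, 1), (142, false, 0, 203, 142, 1), (143, false, 0, 203, 143, 1), (146, false, 3, 200, 146, 1), (147, false, 0, 203, 147, 1), (148, false, 0, 203, 148, 1), (151, false, 3, 200, 151, 1), (152, false, 0, 203, 152, 1), (155, false, 3, 200, 155, 1), (158, false, 4, 197, 158, 1), (169, false, 0, 203, 169, 1), (170, false, 0, 203, 170, 1), (173, false, 3, 200, 173, 1), (174, false, 0, 203, 174, 1), (177, false, 3, 200, 177, 1), (180, false,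 4, 197, 180, 1), (184, false, 0, 203, 184, 1), (187, false, 3, 200, 187, 1), (190, false, 4, 197, 190, 1), (196, false, 5, 191, 196, 1), (204, false, 0, 203, 204, 1), (205, false, 0, 203, 205, 1), (208, false, 3, 200, 208, 1), (209, false, 3, 200, 209, 1), (211, false, 4, 197, 211, 1), (212, false, 4, 197, 212, 1), (215, false, 5, 191, 215, 1), (216, false, 5, 191, 216, 1), (220, false, 6, 181, 220, 1), (221, false, 6, 181, 221, 1), (225, false, 11, 167, 225, 1), (227, false, 14, 159, 227, 1), (228, false, 14, 159, 228, 1), (233, false, 18, 139, 233, 1), (234, false, 23, 133, 234, 1), (235, false, 27, 128, 235, 1), (236, false, 30, 124, 236, 1), (239, true, 33, 120, 238, 0)]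
def tRow34 : List (ℕ × Bool × ℕ × ℕ × ℕ × ℕ) := [(36, false, 3, 201, 36, 2), (38, false, 1, 203, 38, 2), (41, false, 1, 203, 41, 2), (47, false, 1, 203, 47, 2), (57, false, 1, 203, 57, 2), (71, false, 1, 203, 71, 2), (73, false, 1, 203, 73, 1), (79, false, 1, 203, 79, 2), (99, false, 1, 203, 99, 2), (101, false, 1, 203, 101, 1), (105, false, 1, 203, 105, 2), (107, false, 1, 203, 107, 1), (110, false, 1, 203, 110, 2), (112, false, 1, 203, 112, 1), (114, false, 1, 203, 114, 2), (116, false, 1, 203, 116, 1), (119, false, 3, 201, 119, 2), (121, false, 3, 201, 121, 2), (141, false, 1, 203, 141, 1), (142, false, 1, 203, 142, 1), (143, false, 1, 203, 143, 1), (145, false, 3, 201, 145, 1), (147, false, 1, 203, 147, 1), (148, false, 1, 203, 148, 1), (150, false, 3, 201, 150, 1), (152, false, 1, 203, 152, 1), (154, false, 3, 201, 154, 1), (157, false, 4, 198, 157, 1), (169, false, 1, 203, 169, 1), (170, false, 1, 203, 170, 1), (172, false, 3, 201, 172, 1), (174, false, 1, 203, 174, 1), (176, false, 3, 201, 176, 1), (179, false,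 4, 198, 179, 1), (184, false, 1, 203, 184, 1), (186, false, 3, 201, 186, 1), (189, false, 4, 198, 189, 1), (195, false, 5, 192, 195, 1), (204, false, 1, 203, 204, 1), (206, false, 1, 203, 206, 1), (207, false, 3, 201, 207, 1), (209, false, 3, 201, 209, 1), (210, false, 4, 198, 210, 1), (212, false, 4, 198, 212, 1), (214, false, 5, 192, 214, 1), (216, false, 5, 192, 216, 1), (219, false, 6, 182, 219, 1), (221, false, 6, 182, 221, 1), (225, false, 11, 168, 225, 1), (226, false, 14, 160, 226, 1), (228, false, 14, 160, 228, 1), (233, false, 18, 140, 233, 1), (234, false, 23, 134, 234, 1), (235, false, 27, 129, 235, 1), (236, false, 30, 125, 236, 1), (238, false, 33, 120, 238, 1)]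
def tRow35 : List (ℕ × Bool × ℕ × ℕ × ℕ × ℕ) := [(36, false, 3, 202, 36, 2), (37, false, 2, 203, 37, 2), (40, false, 2, 203, 40, 2), (46, false, 2, 203, 46, 2), (56, false, 2, 203, 56, 2), (71, false, 2, 203, 71, 2), (72, false, 2, 203, 72, 2), (78, false, 2, 203, 78, 2), (99, false, 2, 203, 99, 2), (100, false, 2, 203, 100, 2), (105, false, 2, 203, 105, 2), (106, false, 2, 203, 106, 2), (110, false, 2, 203, 110, 2), (111, false, 2, 203, 111, 2), (114, false, 2, 203, 114, 2), (115, false, 2, 203, 115, 2), (117, false, 3, 202, 117, 2), (118, false, 3, 202, 118, 2), (141, false, 2, 203, 141, 1), (142, false, 2, 203, 142, 1), (143, false, 2, 203, 143, 1), (144, false, 3, 202, 144, 1), (147, false, 2, 203, 147, 1), (148, false, 2, 203, 148, 1), (149, false, 3, 202, 149, 1), (152, false, 2, 203, 152, 1), (153, false, 3, 202, 153, 1), (156, false, 4, 199, 156, 1), (169, false, 2, 203, 169, 1), (170, false, 2, 203, 170, 1), (171, false, 3, 202, 171, 1), (174, false, 2, 203, 174, 1), (175, false, 3, 202, 175, 1), (178, false,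 4, 199, 178, 1), (184, false, 2, 203, 184, 1), (185, false, 3, 202, 185, 1), (188, false, 4, 199, 188, 1), (194, false, 5, 193, 194, 1), (205, false, 2, 203, 205, 1), (206, false, 2, 203, 206, 1), (207, false, 3, 202, 207, 1), (208, false, 3, 202, 208, 1), (210, false, 4, 199, 210, 1), (211, false, 4, 199, 211, 1), (214, false, 5, 193, 214, 1), (215, false, 5, 193, 215, 1), (219, false, 6, 183, 219, 1), (220, false, 6, 183, 220, 1), (225, false, 12, 168, 225, 1), (226, false, 14, 161, 226, 1), (227, false, 14, 161, 227, 1), (233, false, 19, 140, 233, 1), (234, false, 24, 134, 234, 1), (235, false, 28, 129, 235, 1), (236, false, 31, 125, 236, 1), (237, false, 33, 122, 237, 1)]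
def tRow36 : List (ℕ × Bool × ℕ × ℕ × ℕ × ℕ) := [(33, false, 1, 205, 33, 1), (34, false, 0, 206, 34, 1), (35, false, 0, 206, 35, 1), (55, false, 0, 206, 55, 1), (65, false, 0, 206, 65, 1), (69, false, 0, 206, 69, 1), (70, false, 0, 206, 70, 1), (87, false, 0, 206, 87, 1), (91, false, 0, 206, 91, 1), (92, false, 0, 206, 92, 1), (96, false, 0, 206, 96, 1), (97, false, 0, 206, 97, 1), (98, false, 0, 206, 98, 1), (123, false, 0, 206, 123, 1), (124, false, 0, 206, 124, 1), (125, false, 1, 205, 125, 1), (127, false, 0, 206, 127, 1), (128, false, 0, 206, 128, 1), (129, false, 1, 205, 129, 1), (132, false, 0, 206, 132, 1), (133, false, 0, 206, 133, 1), (134, false, 1, 205, 134, 1), (138, false, 0, 206, 138, 1), (139, false, 0, 206, 139, 1), (140, false, 1, 205, 140, 1), (159, false, 0, 206, 159, 1), (160, false, 1, 205, 160, 1), (161, false, 2, 204, 161, 1), (166, false, 0, 206, 166, 1), (167, false, 0, 206, 167, 1), (168, false, 1, 205, 168, 1), (181, false, 0, 206, 181, 1), (182, false, 1, 205, 182, 1), (183, false, 2, 204,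 183, 1), (191, false, 0, 206, 191, 1), (192, false, 1, 205, 192, 1), (193, false, 2, 204, 193, 1), (197, false, 0, 206, 197, 1), (198, false, 1, 205, 198, 1), (199, false, 2, 204, 199, 1), (200, false, 0, 206, 200, 1), (201, false, 1, 205, 201, 1), (202, false, 2, 204, 202, 1), (213, false, 7, 184, 213, 1), (217, false, 7, 184, 217, 1), (218, false, 7, 184, 218, 1), (222, false, 8, 174, 222, 1), (223, false, 8, 174, 223, 1), (224, false, 9, 170, 224, 1), (229, false, 15, 152, 229, 1), (230, false, 15, 152, 230, 1), (231, false, 16, 148, 231, 1), (232, false, 21, 143, 232, 1), (237, true, 36, 123, 236, 0), (238, true, 36, 124, 236, 0), (239, true, 36, 125, 236, 0)]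
def tRow37 : List (ℕ × Bool × ℕ × ℕ × ℕ × ℕ) := [(31, false, 1, 207, 31, 1), (32, false, 0, 208, 32, 1), (35, false, 0, 208, 35, 1), (54, false, 0, 208, 54, 1), (64, false, 0, 208, 64, 1), (68, false, 0, 208, 68, 1), (70, false, 0, 208, 70, 1), (86, false, 0, 208, 86, 1), (90, false, 0, 208, 90, 1), (92, false, 0, 208, 92, 1), (95, false, 0, 208, 95, 1), (97, false, 0, 208, 97, 1), (98, false, 0, 208, 98, 1), (116, false, 0, 208, 116, 1), (121, false, 0, 208, 121, 1), (122, false, 1, 207, 122, 1), (126, false, 0, 208, 126, 1), (128, false, 0, 208, 128, 1), (129, false, 1, 207, 129, 1), (131, false, 0, 208, 131, 1), (133, false, 0, 208, 133, 1), (134, false, 1, 207, 134, 1), (137, false, 0, 208, 137, 1), (139, false, 0, 208, 139, 1), (140, false, 1, 207, 140, 1), (157, false, 0, 208, 157, 1), (158, false, 1, 207, 158, 1), (161, false, 3, 204, 161, 1), (165, false, 0, 208, 165, 1), (167, false, 0, 208, 167, 1), (168, false, 1, 207, 168, 1), (179, false, 0, 208, 179, 1), (180, false, 1, 207, 180, 1), (183, false, 3, 204,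 183, 1), (189, false, 0, 208, 189, 1), (190, false, 1, 207, 190, 1), (193, false, 3, 204, 193, 1), (195, false, 0, 208, 195, 1), (196, false, 1, 207, 196, 1), (199, false, 3, 204, 199, 1), (200, false, 0, 208, 200, 1), (201, false, 1, 207, 201, 1), (203, false, 3, 204, 203, 1), (212, false, 7, 185, 212, 1), (216, false, 7, 185, 216, 1), (218, false, 7, 185, 218, 1), (221, false, 8, 175, 221, 1), (223, false, 8, 175, 223, 1), (224, false, 9, 171, 224, 1), (228, false, 15, 153, 228, 1), (230, false, 15, 153, 230, 1), (231, false, 16, 149, 231, 1), (232, false, 21, 144, 232, 1), (236, false, 36, 123, 236, 1), (238, true, 37, 121, 237, 0), (239, true, 37, 122, 237, 0)]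
def tRow38 : List (ℕ × Bool × ℕ × ℕ × ℕ × ℕ) := [(30, false, 2, 207, 30, 2), (32, false, 0, 209, 32, 1), (34, false, 0, 209, 34, 1), (53, false, 0, 209, 53, 1), (63, false, 0, 209, 63, 1), (67, false, 0, 209, 67, 1), (70, false, 0, 209, 70, 1), (85, false, 0, 209, 85, 1), (89, false, 0, 209, 89, 1), (92, false, 0, 209, 92, 1), (94, false, 0, 209, 94, 1), (97, false, 0, 209, 97, 1), (98, false, 0, 209, 98, 1), (115, false, 0, 209, 115, 1), (118, false, 0, 209, 118, 1), (120, false, 2, 207, 120, 2), (126, false, 0, 209, 126, 1), (127, false, 0, 209, 127, 1), (129, false, 2, 207, 129, 1), (131, false, 0, 209, 131, 1), (132, false, 0, 209, 132, 1), (134, false, 2, 207, 134, 1), (137, false, 0, 209, 137, 1), (138, false, 0, 209, 138, 1), (140, false, 2, 207, 140, 1), (156, false, 0, 209, 156, 1), (158, false, 2, 207, 158, 1), (160, false, 3, 205, 160, 1), (165, false, 0, 209, 165, 1), (166, false, 0, 209, 166, 1), (168, false, 2, 207, 168, 1), (178, false, 0, 209, 178, 1), (180, false, 2, 207, 180, 1), (182, false, 3, 205,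 182, 1), (188, false, 0, 209, 188, 1), (190, false, 2, 207, 190, 1), (192, false, 3, 205, 192, 1), (194, false, 0, 209, 194, 1), (196, false, 2, 207, 196, 1), (198, false, 3, 205, 198, 1), (200, false, 0, 209, 200, 1), (202, false, 2, 207, 202, 1), (203, false, 3, 205, 203, 1), (211, false, 7, 186, 211, 1), (215, false, 7, 186, 215, 1), (218, false, 7, 186, 218, 1), (220, false, 8, 176, 220, 1), (223, false, 8, 176, 223, 1), (224, false, 9, 172, 224, 1), (227, false, 15, 154, 227, 1), (230, false, 15, 154, 230, 1), (231, false, 16, 150, 231, 1), (232, false, 21, 145, 232, 1), (236, false, 36, 124, 236, 1), (237, false, 37, 121, 237, 1), (239, true, 38, 120, 238, 0)]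
def tRow39 : List (ℕ × Bool × ℕ × ℕ × ℕ × ℕ) := [(30, false, 2, 208, 30, 2), (31, false, 1, 209, 31, 2), (33, false, 1, 209, 33, 2), (52, false, 1, 209, 52, 2), (62, false, 1, 209, 62, 2), (66, false, 1, 209, 66, 2), (70, false, 1, 209, 70, 1), (84, false, 1, 209, 84, 2), (88, false, 1, 209, 88, 2), (92, false, 1, 209, 92, 1), (93, false, 1, 209, 93, 2), (97, false, 1, 209, 97, 1), (98, false, 1, 209, 98, 1), (114, false, 1, 209, 114, 2), (117, false, 1, 209, 117, 2), (119, false, 2, 208, 119, 2), (126, false, 1, 209, 126, 1), (127, false, 1, 209, 127, 1), (128, false, 2, 208, 128, 1), (131, false, 1, 209, 131, 1), (132, false, 1, 209, 132, 1), (133, false, 2, 208, 133, 1), (137, false, 1, 209, 137, 1), (138, false, 1, 209, 138, 1), (139, false, 2, 208, 139, 1), (156, false, 1, 209, 156, 1), (157, false, 2, 208, 157, 1), (159, false, 3, 206, 159, 1), (165, false, 1, 209, 165, 1), (166, false, 1, 209, 166, 1), (167, false, 2, 208, 167, 1), (178, false, 1, 209, 178, 1), (179, false, 2, 208, 179, 1), (181, false, 3, 206,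 181, 1), (188, false, 1, 209, 188, 1), (189, false, 2, 208, 189, 1), (191, false, 3, 206, 191, 1), (194, false, 1, 209, 194, 1), (195, false, 2, 208, 195, 1), (197, false, 3, 206, 197, 1), (201, false, 1, 209, 201, 1), (202, false, 2, 208, 202, 1), (203, false, 3, 206, 203, 1), (210, false, 7, 187, 210, 1), (214, false, 7, 187, 214, 1), (218, false, 7, 187, 218, 1), (219, false, 8, 177, 219, 1), (223, false, 8, 177, 223, 1), (224, false, 9, 173, 224, 1), (226, false, 15, 155, 226, 1), (230, false, 15, 155, 230, 1), (231, false, 16, 151, 231, 1), (232, false, 21, 146, 232, 1), (236, false, 36, 125, 236, 1), (237, false, 37, 122, 237, 1), (238, false, 38, 120, 238, 1)]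
def tRow40 : List (ℕ × Bool × ℕ × ℕ × ℕ × ℕ) := [(28, false, 1, 210, 28, 1), (29, false, 0, 211, 29, 1), (35, false, 0, 211, 35, 1), (51, false, 0, 211, 51, 1), (61, false, 0, 211, 61, 1), (68, false, 0, 211, 68, 1), (69, false, 0, 211, 69, 1), (83, false, 0, 211, 83, 1), (90, false, 0, 211, 90, 1), (91, false, 0, 211, 91, 1), (95, false, 0, 211, 95, 1), (96, false, 0, 211, 96, 1), (98, false, 0, 211, 98, 1), (112, false, 0, 211, 112, 1), (113, false, 0, 211, 113, 1), (121, false, 0, 211, 121, 1), (122, false, 1, 210, 122, 1), (124, false, 0, 211, 124, 1), (125, false, 1, 210, 125, 1), (130, false, 0, 211, 130, 1), (133, false, 0, 211, 133, 1), (134, false, 1, 210, 134, 1), (136, false, 0, 211, 136, 1), (139, false, 0, 211, 139, 1), (140, false, 1, 210, 140, 1), (154, false, 0, 211, 154, 1), (155, false, 1, 210, 155, 1), (161, false, 4, 204, 161, 1), (164, false, 0, 211, 164, 1), (167, false, 0, 211, 167, 1), (168, false, 1, 210, 168, 1), (176, false, 0, 211, 176, 1), (177, false, 1, 210, 177, 1), (183, false, 4, 204,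 183, 1), (186, false, 0, 211, 186, 1), (187, false, 1, 210, 187, 1), (193, false, 4, 204, 193, 1), (195, false, 0, 211, 195, 1), (196, false, 1, 210, 196, 1), (197, false, 0, 211, 197, 1), (198, false, 1, 210, 198, 1), (202, false, 4, 204, 202, 1), (203, false, 4, 204, 203, 1), (209, false, 7, 188, 209, 1), (216, false, 7, 188, 216, 1), (217, false, 7, 188, 217, 1), (221, false, 8, 178, 221, 1), (222, false, 8, 178, 222, 1), (224, false, 10, 171, 224, 1), (228, false, 15, 156, 228, 1), (229, false, 15, 156, 229, 1), (231, false, 17, 149, 231, 1), (232, false, 22, 144, 232, 1), (235, false, 36, 127, 235, 1), (238, true, 40, 121, 237, 0), (239, true, 40, 122, 237, 0)]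
def tRow41 : List (ℕ × Bool × ℕ × ℕ × ℕ × ℕ) := [(27, false, 2, 210, 27, 2), (29, false, 0, 212, 29, 1), (34, false, 0, 212, 34, 1), (50, false, 0, 212, 50, 1), (60, false, 0, 212, 60, 1), (67, false, 0, 212, 67, 1), (69, false, 0, 212, 69, 1), (82, false, 0, 212, 82, 1), (89, false, 0, 212, 89, 1), (91, false, 0, 212, 91, 1), (94, false, 0, 212, 94, 1), (96, false, 0, 212, 96, 1), (98, false, 0, 212, 98, 1), (111, false, 0, 212, 111, 1), (113, false, 0, 212, 113, 1), (118, false, 0, 212, 118, 1), (120, false, 2, 210, 120, 2), (123, false, 0, 212, 123, 1), (125, false, 2, 210, 125, 1), (130, false, 0, 212, 130, 1), (132, false, 0, 212, 132, 1), (134, false, 2, 210, 134, 1), (136, false, 0, 212, 136, 1), (138, false, 0, 212, 138, 1), (140, false, 2, 210, 140, 1), (153, false, 0, 212, 153, 1), (155, false, 2, 210, 155, 1), (160, false, 4, 205, 160, 1), (164, false, 0, 212, 164, 1), (166, false, 0, 212, 166, 1), (168, false, 2, 210, 168, 1), (175, false, 0, 212, 175, 1), (177, false, 2, 210, 177, 1), (182, false, 4, 205,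 182, 1), (185, false, 0, 212, 185, 1), (187, false, 2, 210, 187, 1), (192, false, 4, 205, 192, 1), (194, false, 0, 212, 194, 1), (196, false, 2, 210, 196, 1), (197, false, 0, 212, 197, 1), (199, false, 2, 210, 199, 1), (201, false, 4, 205, 201, 1), (203, false, 4, 205, 203, 1), (208, false, 7, 189, 208, 1), (215, false, 7, 189, 215, 1), (217, false, 7, 189, 217, 1), (220, false, 8, 179, 220, 1), (222, false, 8, 179, 222, 1), (224, false, 10, 172, 224, 1), (227, false, 15, 157, 227, 1), (229, false, 15, 157, 229, 1), (231, false, 17, 150, 231, 1), (232, false, 22, 145, 232, 1), (235, false, 36, 128, 235, 1), (237, false, 40, 121, 237, 1), (239, true, 41, 120, 238, 0)]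
def tRow42 : List (ℕ × Bool × ℕ × ℕ × ℕ × ℕ) := [(27, false, 2, 211, 27, 2), (28, false, 1, 212, 28, 2), (33, false, 1, 212, 33, 2), (49, false, 1, 212, 49, 2), (59, false, 1, 212, 59, 2), (66, false, 1, 212, 66, 2), (69, false, 1, 212, 69, 1), (81, false, 1, 212, 81, 2), (88, false, 1, 212, 88, 2), (91, false, 1, 212, 91, 1), (93, false, 1, 212, 93, 2), (96, false, 1, 212, 96, 1), (98, false, 1, 212, 98, 1), (110, false, 1, 212, 110, 2), (113, false, 1, 212, 113, 1), (117, false, 1, 212, 117, 2), (119, false, 2, 211, 119, 2), (123, false, 1, 212, 123, 1), (124, false, 2, 211, 124, 1), (130, false, 1, 212, 130, 1), (132, false, 1, 212, 132, 1), (133, false, 2, 211, 133, 1), (136, false, 1, 212, 136, 1), (138, false, 1, 212, 138, 1), (139, false, 2, 211, 139, 1), (153, false, 1, 212, 153, 1), (154, false, 2, 211, 154, 1), (159, false, 4, 206, 159, 1), (164, false, 1, 212, 164, 1), (166, false, 1, 212, 166, 1), (167, false, 2, 211, 167, 1), (175, false, 1, 212, 175, 1), (176, false, 2, 211, 176, 1), (181, false, 4, 206,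 181, 1), (185, false, 1, 212, 185, 1), (186, false, 2, 211, 186, 1), (191, false, 4, 206, 191, 1), (194, false, 1, 212, 194, 1), (195, false, 2, 211, 195, 1), (198, false, 1, 212, 198, 1), (199, false, 2, 211, 199, 1), (200, false, 4, 206, 200, 1), (203, false, 4, 206, 203, 1), (207, false, 7, 190, 207, 1), (214, false, 7, 190, 214, 1), (217, false, 7, 190, 217, 1), (219, false, 8, 180, 219, 1), (222, false, 8, 180, 222, 1), (224, false, 10, 173, 224, 1), (226, false, 15, 158, 226, 1), (229, false, 15, 158, 229, 1), (231, false, 17, 151, 231, 1), (232, false, 22, 146, 232, 1), (235, false, 36, 129, 235, 1), (237, false, 40, 122, 237, 1), (238, false, 41, 120, 238, 1)]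
def tRow43 : List (ℕ × Bool × ℕ × ℕ × ℕ × ℕ) := [(26, false, 3, 210, 26, 2), (29, false, 0, 213, 29, 1), (32, false, 0, 213, 32, 1), (48, false, 0, 213, 48, 1), (58, false, 0, 213, 58, 1), (67, false, 0, 213, 67, 1), (68, false, 0, 213, 68, 1), (80, false, 0, 213, 80, 1), (89, false, 0, 213, 89, 1), (90, false, 0, 213, 90, 1), (94, false, 0, 213, 94, 1), (95, false, 0, 213, 95, 1), (98, false, 0, 213, 98, 1), (111, false, 0, 213, 111, 1), (112, false, 0, 213, 112, 1), (115, false, 0, 213, 115, 1), (116, false, 0, 213, 116, 1), (120, false, 3, 210, 120, 2), (122, false, 3, 210, 122, 2), (130, false, 0, 213, 130, 1), (131, false, 0, 213, 131, 1), (134, false, 3, 210, 134, 1), (136, false, 0, 213, 136, 1), (137, false, 0, 213, 137, 1), (140, false, 3, 210, 140, 1), (152, false, 0, 213, 152, 1), (155, false, 3, 210, 155, 1), (158, false, 4, 207, 158, 1), (164, false, 0, 213, 164, 1), (165, false, 0, 213, 165, 1), (168, false, 3, 210, 168, 1), (174, false, 0, 213, 174, 1), (177, false, 3, 210, 177, 1), (180, false, 4, 207,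 180, 1), (184, false, 0, 213, 184, 1), (187, false, 3, 210, 187, 1), (190, false, 4, 207, 190, 1), (194, false, 0, 213, 194, 1), (195, false, 0, 213, 195, 1), (198, false, 3, 210, 198, 1), (199, false, 3, 210, 199, 1), (201, false, 4, 207, 201, 1), (202, false, 4, 207, 202, 1), (206, false, 7, 191, 206, 1), (215, false, 7, 191, 215, 1), (216, false, 7, 191, 216, 1), (220, false, 8, 181, 220, 1), (221, false, 8, 181, 221, 1), (224, false, 11, 172, 224, 1), (227, false, 15, 159, 227, 1), (228, false, 15, 159, 228, 1), (231, false, 18, 150, 231, 1), (232, false, 23, 145, 232, 1), (235, false, 37, 128, 235, 1), (236, false, 40, 124, 236, 1), (239, true, 43, 120, 238, 0)]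
def tRow44 : List (ℕ × Bool × ℕ × ℕ × ℕ × ℕ) := [(26, false, 3, 211, 26, 2), (28, false, 1, 213, 28, 2), (31, false, 1, 213, 31, 2), (47, false, 1, 213, 47, 2), (57, false, 1, 213, 57, 2), (66, false, 1, 213, 66, 2), (68, false, 1, 213, 68, 1), (79, false, 1, 213, 79, 2), (88, false, 1, 213, 88, 2), (90, false, 1, 213, 90, 1), (93, false, 1, 213, 93, 2), (95, false, 1, 213, 95, 1), (98, false, 1, 213, 98, 1), (110, false, 1, 213, 110, 2), (112, false, 1, 213, 112, 1), (114, false, 1, 213, 114, 2), (116, false, 1, 213, 116, 1), (119, false, 3, 211, 119, 2), (121, false, 3, 211, 121, 2), (130, false, 1, 213, 130, 1), (131, false, 1, 213, 131, 1), (133, false, 3, 211, 133, 1), (136, false, 1, 213, 136, 1), (137, false, 1, 213, 137, 1), (139, false, 3, 211, 139, 1), (152, false, 1, 213, 152, 1), (154, false, 3, 211, 154, 1), (157, false, 4, 208, 157, 1), (164, false, 1, 213, 164, 1), (165, false, 1, 213, 165, 1), (167, false, 3, 211, 167, 1), (174, false, 1, 213, 174, 1), (176, false, 3, 211, 176, 1), (179, false, 4, 208,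 179, 1), (184, false, 1, 213, 184, 1), (186, false, 3, 211, 186, 1), (189, false, 4, 208, 189, 1), (194, false, 1, 213, 194, 1), (196, false, 1, 213, 196, 1), (197, false, 3, 211, 197, 1), (199, false, 3, 211, 199, 1), (200, false, 4, 208, 200, 1), (202, false, 4, 208, 202, 1), (205, false, 7, 192, 205, 1), (214, false, 7, 192, 214, 1), (216, false, 7, 192, 216, 1), (219, false, 8, 182, 219, 1), (221, false, 8, 182, 221, 1), (224, false, 11, 173, 224, 1), (226, false, 15, 160, 226, 1), (228, false, 15, 160, 228, 1), (231, false, 18, 151, 231, 1), (232, false, 23, 146, 232, 1), (235, false, 37, 129, 235, 1), (236, false, 40, 125, 236, 1), (238, false, 43, 120, 238, 1)]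
def tRow45 : List (ℕ × Bool × ℕ × ℕ × ℕ × ℕ) := [(26, false, 3, 212, 26, 2), (27, false, 2, 213, 27, 2), (30, false, 2, 213, 30, 2), (46, false, 2, 213, 46, 2), (56, false, 2, 213, 56, 2), (66, false, 2, 213, 66, 2), (67, false, 2, 213, 67, 2), (78, false, 2, 213, 78, 2), (88, false, 2, 213, 88, 2), (89, false, 2, 213, 89, 2), (93, false, 2, 213, 93, 2), (94, false, 2, 213, 94, 2), (98, false, 2, 213, 98, 1), (110, false, 2, 213, 110, 2), (111, false, 2, 213, 111, 2), (114, false, 2, 213, 114, 2), (115, false, 2, 213, 115, 2), (117, false, 3, 212, 117, 2), (118, false, 3, 212, 118, 2), (130, false, 2, 213, 130, 1), (131, false, 2, 213, 131, 1), (132, false, 3, 212, 132, 1), (136, false, 2, 213, 136, 1), (137, false, 2, 213, 137, 1), (138, false, 3, 212, 138, 1), (152, false, 2, 213, 152, 1), (153, false, 3, 212, 153, 1), (156, false, 4, 209, 156, 1), (164, false, 2, 213, 164, 1), (165, false, 2, 213, 165, 1), (166, false, 3, 212, 166, 1), (174, false, 2, 213, 174, 1), (175, false, 3, 212, 175, 1), (178, false, 4, 209,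 178, 1), (184, false, 2, 213, 184, 1), (185, false, 3, 212, 185, 1), (188, false, 4, 209, 188, 1), (195, false, 2, 213, 195, 1), (196, false, 2, 213, 196, 1), (197, false, 3, 212, 197, 1), (198, false, 3, 212, 198, 1), (200, false, 4, 209, 200, 1), (201, false, 4, 209, 201, 1), (204, false, 7, 193, 204, 1), (214, false, 7, 193, 214, 1), (215, false, 7, 193, 215, 1), (219, false, 8, 183, 219, 1), (220, false, 8, 183, 220, 1), (224, false, 12, 173, 224, 1), (226, false, 15, 161, 226, 1), (227, false, 15, 161, 227, 1), (231, false, 19, 151, 231, 1), (232, false, 24, 146, 232, 1), (235, false, 38, 129, 235, 1), (236, false, 41, 125, 236, 1), (237, false, 43, 122, 237, 1)]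
def tRow46 : List (ℕ × Bool × ℕ × ℕ × ℕ × ℕ) := [(24, false, 1, 214, 24, 1), (25, false, 0, 215, 25, 1), (35, false, 0, 215, 35, 1), (45, false, 0, 215, 45, 1), (61, false, 0, 215, 61, 1), (64, false, 0, 215, 64, 1), (65, false, 0, 215, 65, 1), (83, false, 0, 215, 83, 1), (86, false, 0, 215, 86, 1), (87, false, 0, 215, 87, 1), (95, false, 0, 215, 95, 1), (96, false, 0, 215, 96, 1), (97, false, 0, 215, 97, 1), (107, false, 0, 215, 107, 1), (108, false, 0, 215, 108, 1), (109, false, 0, 215, 109, 1), (121, false, 0, 215, 121, 1), (122, false, 1, 214, 122, 1), (124, false, 0, 215, 124, 1), (125, false, 1, 214, 125, 1), (128, false, 0, 215, 128, 1), (129, false, 1, 214, 129, 1), (135, false, 0, 215, 135, 1), (139, false, 0, 215, 139, 1), (140, false, 1, 214, 140, 1), (150, false, 0, 215, 150, 1), (151, false, 1, 214, 151, 1), (161, false, 5, 204, 161, 1), (163, false, 0, 215, 163, 1), (167, false, 0, 215, 167, 1), (168, false, 1, 214, 168, 1), (172, false, 0, 215, 172, 1), (173, false, 1, 214, 173, 1), (183, false, 5, 204,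 183, 1), (186, false, 0, 215, 186, 1), (187, false, 1, 214, 187, 1), (189, false, 0, 215, 189, 1), (190, false, 1, 214, 190, 1), (191, false, 0, 215, 191, 1), (192, false, 1, 214, 192, 1), (199, false, 5, 204, 199, 1), (202, false, 5, 204, 202, 1), (203, false, 5, 204, 203, 1), (209, false, 7, 194, 209, 1), (212, false, 7, 194, 212, 1), (213, false, 7, 194, 213, 1), (221, false, 9, 178, 221, 1), (222, false, 9, 178, 222, 1), (223, false, 10, 175, 223, 1), (228, false, 16, 156, 228, 1), (229, false, 16, 156, 229, 1), (230, false, 17, 153, 230, 1), (232, false, 26, 144, 232, 1), (234, false, 36, 132, 234, 1), (238, true, 46, 121, 237, 0), (239, true, 46, 122, 237, 0)]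
def tRow47 : List (ℕ × Bool × ℕ × ℕ × ℕ × ℕ) := [(23, false, 2, 214, 23, 2), (25, false, 0, 216, 25, 1), (34, false, 0, 216, 34, 1), (44, false, 0, 216, 44, 1), (60, false, 0, 216, 60, 1), (63, false, 0, 216, 63, 1), (65, false, 0, 216, 65, 1), (82, false, 0, 216, 82, 1), (85, false, 0, 216, 85, 1), (87, false, 0, 216, 87, 1), (94, false, 0, 216, 94, 1), (96, false, 0, 216, 96, 1), (97, false, 0, 216, 97, 1), (106, false, 0, 216, 106, 1), (108, false, 0, 216, 108, 1), (109, false, 0, 216, 109, 1), (118, false, 0, 216, 118, 1), (120, false, 2, 214, 120, 2), (123, false, 0, 216, 123, 1), (125, false, 2, 214, 125, 1), (127, false, 0, 216, 127, 1), (129, false, 2, 214, 129, 1), (135, false, 0, 216, 135, 1), (138, false, 0, 216, 138, 1), (140, false, 2, 214, 140, 1), (149, false, 0, 216, 149, 1), (151, false, 2, 214, 151, 1), (160, false, 5, 205, 160, 1), (163, false, 0, 216, 163, 1), (166, false, 0, 216, 166, 1), (168, false, 2, 214, 168, 1), (171, false, 0, 216, 171, 1), (173, false, 2, 214, 173, 1), (182, false, 5, 205,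 182, 1), (185, false, 0, 216, 185, 1), (187, false, 2, 214, 187, 1), (188, false, 0, 216, 188, 1), (190, false, 2, 214, 190, 1), (191, false, 0, 216, 191, 1), (193, false, 2, 214, 193, 1), (198, false, 5, 205, 198, 1), (201, false, 5, 205, 201, 1), (203, false, 5, 205, 203, 1), (208, false, 7, 195, 208, 1), (211, false, 7, 195, 211, 1), (213, false, 7, 195, 213, 1), (220, false, 9, 179, 220, 1), (222, false, 9, 179, 222, 1), (223, false, 10, 176, 223, 1), (227, false, 16, 157, 227, 1), (229, false, 16, 157, 229, 1), (230, false, 17, 154, 230, 1), (232, false, 26, 145, 232, 1), (234, false, 36, 133, 234, 1), (237, false, 46, 121, 237, 1), (239, true, 47, 120, 238, 0)]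
def tRow48 : List (ℕ × Bool × ℕ × ℕ × ℕ × ℕ) := [(23, false, 2, 215, 23, 2), (24, false, 1, 216, 24, 2), (33, false, 1, 216, 33, 2), (43, false, 1, 216, 43, 2), (59, false, 1, 216, 59, 2), (62, false, 1, 216, 62, 2), (65, false, 1, 216, 65, 1), (81, false, 1, 216, 81, 2), (84, false, 1, 216, 84, 2), (87, false, 1, 216, 87, 1), (93, false, 1, 216, 93, 2), (96, false, 1, 216, 96, 1), (97, false, 1, 216, 97, 1), (105, false, 1, 216, 105, 2), (108, false, 1, 216, 108, 1), (109, false, 1, 216, 109, 1), (117, false, 1, 216, 117, 2), (119, false, 2, 215, 119, 2), (123, false, 1, 216, 123, 1), (124, false, 2, 215, 124, 1), (127, false, 1, 216, 127, 1), (128, false, 2, 215, 128, 1), (135, false, 1, 216, 135, 1), (138, false, 1, 216, 138, 1), (139, false, 2, 215, 139, 1), (149, false, 1, 216, 149, 1), (150, false, 2, 215, 150, 1), (159, false, 5, 206, 159, 1), (163, false, 1, 216, 163, 1), (166, false, 1, 216, 166, 1), (167, false, 2, 215, 167, 1), (171, false, 1, 216, 171, 1), (172, false, 2, 215, 172, 1), (181, false, 5, 206,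 181, 1), (185, false, 1, 216, 185, 1), (186, false, 2, 215, 186, 1), (188, false, 1, 216, 188, 1), (189, false, 2, 215, 189, 1), (192, false, 1, 216, 192, 1), (193, false, 2, 215, 193, 1), (197, false, 5, 206, 197, 1), (200, false, 5, 206, 200, 1), (203, false, 5, 206, 203, 1), (207, false, 7, 196, 207, 1), (210, false, 7, 196, 210, 1), (213, false, 7, 196, 213, 1), (219, false, 9, 180, 219, 1), (222, false, 9, 180, 222, 1), (223, false, 10, 177, 223, 1), (226, false, 16, 158, 226, 1), (229, false, 16, 158, 229, 1), (230, false, 17, 155, 230, 1), (232, false, 26, 146, 232, 1), (234, false, 36, 134, 234, 1), (237, false, 46, 122, 237, 1), (238, false, 47, 120, 238, 1)]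
def tRow49 : List (ℕ × Bool × ℕ × ℕ × ℕ × ℕ) := [(22, false, 3, 214, 22, 2), (25, false, 0, 217, 25, 1), (32, false, 0, 217, 32, 1), (42, false, 0, 217, 42, 1), (58, false, 0, 217, 58, 1), (63, false, 0, 217, 63, 1), (64, false, 0, 217, 64, 1), (80, false, 0, 217, 80, 1), (85, false, 0, 217, 85, 1), (86, false, 0, 217, 86, 1), (94, false, 0, 217, 94, 1), (95, false, 0, 217, 95, 1), (97, false, 0, 217, 97, 1), (106, false, 0, 217, 106, 1), (107, false, 0, 217, 107, 1), (109, false, 0, 217, 109, 1), (115, false, 0, 217, 115, 1), (116, false, 0, 217, 116, 1), (120, false, 3, 214, 120, 2), (122, false, 3, 214, 122, 2), (126, false, 0, 217, 126, 1), (129, false, 3, 214, 129, 1), (135, false, 0, 217, 135, 1), (137, false, 0, 217, 137, 1), (140, false, 3, 214, 140, 1), (148, false, 0, 217, 148, 1), (151, false, 3, 214, 151, 1), (158, false, 5, 207, 158, 1), (163, false, 0, 217, 163, 1), (165, false, 0, 217, 165, 1), (168, false, 3, 214, 168, 1), (170, false, 0, 217, 170, 1), (173, false, 3, 214, 173, 1), (180, false, 5, 207,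 180, 1), (184, false, 0, 217, 184, 1), (187, false, 3, 214, 187, 1), (188, false, 0, 217, 188, 1), (189, false, 0, 217, 189, 1), (192, false, 3, 214, 192, 1), (193, false, 3, 214, 193, 1), (196, false, 5, 207, 196, 1), (201, false, 5, 207, 201, 1), (202, false, 5, 207, 202, 1), (206, false, 7, 197, 206, 1), (211, false, 7, 197, 211, 1), (212, false, 7, 197, 212, 1), (220, false, 9, 181, 220, 1), (221, false, 9, 181, 221, 1), (223, false, 11, 176, 223, 1), (227, false, 16, 159, 227, 1), (228, false, 16, 159, 228, 1), (230, false, 18, 154, 230, 1), (232, false, 27, 145, 232, 1), (234, false, 37, 133, 234, 1), (236, false, 46, 124, 236, 1), (239, true, 49, 120, 238, 0)]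
def tRow50 : List (ℕ × Bool × ℕ × ℕ × ℕ × ℕ) := [(22, false, 3, 215, 22, 2), (24, false, 1, 217, 24, 2), (31, false, 1, 217, 31, 2), (41, false, 1, 217, 41, 2), (57, false, 1, 217, 57, 2), (62, false, 1, 217, 62, 2), (64, false, 1, 217, 64, 1), (79, false, 1, 217, 79, 2), (84, false, 1, 217, 84, 2), (86, false, 1, 217, 86, 1), (93, false, 1, 217, 93, 2), (95, false, 1, 217, 95, 1), (97, false, 1, 217, 97, 1), (105, false, 1, 217, 105, 2), (107, false, 1, 217, 107, 1), (109, false, 1, 217, 109, 1), (114, false, 1, 217, 114, 2), (116, false, 1, 217, 116, 1), (119, false, 3, 215, 119, 2), (121, false, 3, 215, 121, 2), (126, false, 1, 217, 126, 1), (128, false, 3, 215, 128, 1), (135, false, 1, 217, 135, 1), (137, false, 1, 217, 137, 1), (139, false, 3, 215, 139, 1), (148, false, 1, 217, 148, 1), (150, false, 3, 215, 150, 1), (157, false, 5, 208, 157, 1), (163, false, 1, 217, 163, 1), (165, false, 1, 217, 165, 1), (167, false, 3, 215, 167, 1), (170, false, 1, 217, 170, 1), (172, false, 3, 215, 172, 1), (179, false, 5, 208,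 179, 1), (184, false, 1, 217, 184, 1), (186, false, 3, 215, 186, 1), (188, false, 1, 217, 188, 1), (190, false, 1, 217, 190, 1), (191, false, 3, 215, 191, 1), (193, false, 3, 215, 193, 1), (195, false, 5, 208, 195, 1), (200, false, 5, 208, 200, 1), (202, false, 5, 208, 202, 1), (205, false, 7, 198, 205, 1), (210, false, 7, 198, 210, 1), (212, false, 7, 198, 212, 1), (219, false, 9, 182, 219, 1), (221, false, 9, 182, 221, 1), (223, false, 11, 177, 223, 1), (226, false, 16, 160, 226, 1), (228, false, 16, 160, 228, 1), (230, false, 18, 155, 230, 1), (232, false, 27, 146, 232, 1), (234, false, 37, 134, 234, 1), (236, false, 46, 125, 236, 1), (238, false, 49, 120, 238, 1)]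
def tRow51 : List (ℕ × Bool × ℕ × ℕ × ℕ × ℕ) := [(22, false, 3, 216, 22, 2), (23, false, 2, 217, 23, 2), (30, false, 2, 217, 30, 2), (40, false, 2, 217, 40, 2), (56, false, 2, 217, 56, 2), (62, false, 2, 217, 62, 2), (63, false, 2, 217, 63, 2), (78, false, 2, 217, 78, 2), (84, false, 2, 217, 84, 2), (85, false, 2, 217, 85, 2), (93, false, 2, 217, 93, 2), (94, false, 2, 217, 94, 2), (97, false, 2, 217, 97, 1), (105, false, 2, 217, 105, 2), (106, false, 2, 217, 106, 2), (109, false, 2, 217, 109, 1), (114, false, 2, 217, 114, 2), (115, false, 2, 217, 115, 2), (117, false, 3, 216, 117, 2), (118, false, 3, 216, 118, 2), (126, false, 2, 217, 126, 1), (127, false, 3, 216, 127, 1), (135, false, 2, 217, 135, 1), (137, false, 2, 217, 137, 1), (138, false, 3, 216, 138, 1), (148, false, 2, 217, 148, 1), (149, false, 3, 216, 149, 1), (156, false, 5, 209, 156, 1), (163, false, 2, 217, 163, 1), (165, false, 2, 217, 165, 1), (166, false, 3, 216, 166, 1), (170, false, 2, 217, 170, 1), (171, false, 3, 216, 171, 1), (178, false, 5, 209,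 178, 1), (184, false, 2, 217, 184, 1), (185, false, 3, 216, 185, 1), (189, false, 2, 217, 189, 1), (190, false, 2, 217, 190, 1), (191, false, 3, 216, 191, 1), (192, false, 3, 216, 192, 1), (194, false, 5, 209, 194, 1), (200, false, 5, 209, 200, 1), (201, false, 5, 209, 201, 1), (204, false, 7, 199, 204, 1), (210, false, 7, 199, 210, 1), (211, false, 7, 199, 211, 1), (219, false, 9, 183, 219, 1), (220, false, 9, 183, 220, 1), (223, false, 12, 177, 223, 1), (226, false, 16, 161, 226, 1), (227, false, 16, 161, 227, 1), (230, false, 19, 155, 230, 1), (232, false, 28, 146, 232, 1), (234, false, 38, 134, 234, 1), (236, false, 47, 125, 236, 1), (237, false, 49, 122, 237, 1)]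
def tRow52 : List (ℕ × Bool × ℕ × ℕ × ℕ × ℕ) := [(21, false, 4, 214, 21, 2), (25, false, 0, 218, 25, 1), (29, false, 0, 218, 29, 1), (39, false, 0, 218, 39, 1), (58, false, 0, 218, 58, 1), (60, false, 0, 218, 60, 1), (61, false, 0, 218, 61, 1), (80, false, 0, 218, 80, 1), (82, false, 0, 218, 82, 1), (83, false, 0, 218, 83, 1), (94, false, 0, 218, 94, 1), (95, false, 0, 218, 95, 1), (96, false, 0, 218, 96, 1), (106, false, 0, 218, 106, 1), (107, false, 0, 218, 107, 1), (108, false, 0, 218, 108, 1), (111, false, 0, 218, 111, 1), (112, false, 0, 218, 112, 1), (113, false, 0, 218, 113, 1), (120, false, 4, 214, 120, 2), (122, false, 4, 214, 122, 2), (125, false, 4, 214, 125, 2), (135, false, 0, 218, 135, 1), (136, false, 0, 218, 136, 1), (140, false, 4, 214, 140, 1), (147, false, 0, 218, 147, 1), (151, false, 4, 214, 151, 1), (155, false, 5, 210, 155, 1), (163, false, 0, 218, 163, 1), (164, false, 0, 218, 164, 1), (168, false, 4, 214, 168, 1), (169, false, 0, 218, 169, 1), (173, false, 4, 214, 173, 1), (177, false, 5, 210,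 177, 1), (184, false, 0, 218, 184, 1), (185, false, 0, 218, 185, 1), (186, false, 0, 218, 186, 1), (190, false, 4, 214, 190, 1), (192, false, 4, 214, 192, 1), (193, false, 4, 214, 193, 1), (196, false, 5, 210, 196, 1), (198, false, 5, 210, 198, 1), (199, false, 5, 210, 199, 1), (206, false, 7, 200, 206, 1), (208, false, 7, 200, 208, 1), (209, false, 7, 200, 209, 1), (220, false, 10, 181, 220, 1), (221, false, 10, 181, 221, 1), (222, false, 11, 179, 222, 1), (227, false, 17, 159, 227, 1), (228, false, 17, 159, 228, 1), (229, false, 18, 157, 229, 1), (232, false, 30, 145, 232, 1), (234, false, 40, 133, 234, 1), (235, false, 46, 128, 235, 1), (239, true, 52, 120, 238, 0)]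
def tRow53 : List (ℕ × Bool × ℕ × ℕ × ℕ × ℕ) := [(21, false, 4, 215, 21, 2), (24, false, 1, 218, 24, 2), (28, false, 1, 218, 28, 2), (38, false, 1, 218, 38, 2), (57, false, 1, 218, 57, 2), (59, false, 1, 218, 59, 2), (61, false, 1, 218, 61, 1), (79, false, 1, 218, 79, 2), (81, false, 1, 218, 81, 2), (83, false, 1, 218, 83, 1), (93, false, 1, 218, 93, 2), (95, false, 1, 218, 95, 1), (96, false, 1, 218, 96, 1), (105, false, 1, 218, 105, 2), (107, false, 1, 218, 107, 1), (108, false, 1, 218, 108, 1), (110, false, 1, 218, 110, 2), (112, false, 1, 218, 112, 1), (113, false, 1, 218, 113, 1), (119, false, 4, 215, 119, 2), (121, false, 4, 215, 121, 2), (124, false, 4, 215, 124, 2), (135, false, 1, 218, 135, 1), (136, false, 1, 218, 136, 1), (139, false, 4, 215, 139, 1), (147, false, 1, 218, 147, 1), (150, false, 4, 215, 150, 1), (154, false, 5, 211, 154, 1), (163, false, 1, 218, 163, 1), (164, false, 1, 218, 164, 1), (167, false, 4, 215, 167, 1), (169, false, 1, 218, 169, 1), (172, false, 4, 215, 172, 1), (176, false, 5, 211,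 176, 1), (184, false, 1, 218, 184, 1), (185, false, 1, 218, 185, 1), (187, false, 1, 218, 187, 1), (189, false, 4, 215, 189, 1), (191, false, 4, 215, 191, 1), (193, false, 4, 215, 193, 1), (195, false, 5, 211, 195, 1), (197, false, 5, 211, 197, 1), (199, false, 5, 211, 199, 1), (205, false, 7, 201, 205, 1), (207, false, 7, 201, 207, 1), (209, false, 7, 201, 209, 1), (219, false, 10, 182, 219, 1), (221, false, 10, 182, 221, 1), (222, false, 11, 180, 222, 1), (226, false, 17, 160, 226, 1), (228, false, 17, 160, 228, 1), (229, false, 18, 158, 229, 1), (232, false, 30, 146, 232, 1), (234, false, 40, 134, 234, 1), (235, false, 46, 129, 235, 1), (238, false, 52, 120, 238, 1)]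
def tRow54 : List (ℕ × Bool × ℕ × ℕ × ℕ × ℕ) := [(21, false, 4, 216, 21, 2), (23, false, 2, 218, 23, 2), (27, false, 2, 218, 27, 2), (37, false, 2, 218, 37, 2), (56, false, 2, 218, 56, 2), (59, false, 2, 218, 59, 2), (60, false, 2, 218, 60, 2), (78, false, 2, 218, 78, 2), (81, false, 2, 218, 81, 2), (82, false, 2, 218, 82, 2), (93, false, 2, 218, 93, 2), (94, false, 2, 218, 94, 2), (96, false, 2, 218, 96, 1), (105, false, 2, 218, 105, 2), (106, false, 2, 218, 106, 2), (108, false, 2, 218, 108, 1), (110, false, 2, 218, 110, 2), (111, false, 2, 218, 111, 2), (113, false, 2, 218, 113, 1), (117, false, 4, 216, 117, 2), (118, false, 4, 216, 118, 2), (123, false, 4, 216, 123, 2), (135, false, 2, 218, 135, 1), (136, false, 2, 218, 136, 1), (138, false, 4, 216, 138, 1), (147, false, 2, 218, 147, 1), (149, false, 4, 216, 149, 1), (153, false, 5, 212, 153, 1), (163, false, 2, 218, 163, 1), (164, false, 2, 218, 164, 1), (166, false, 4, 216, 166, 1), (169, false, 2, 218, 169, 1), (171, false, 4, 216, 171, 1), (175, false, 5, 212,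 175, 1), (184, false, 2, 218, 184, 1), (186, false, 2, 218, 186, 1), (187, false, 2, 218, 187, 1), (188, false, 4, 216, 188, 1), (191, false, 4, 216, 191, 1), (192, false, 4, 216, 192, 1), (194, false, 5, 212, 194, 1), (197, false, 5, 212, 197, 1), (198, false, 5, 212, 198, 1), (204, false, 7, 202, 204, 1), (207, false, 7, 202, 207, 1), (208, false, 7, 202, 208, 1), (219, false, 10, 183, 219, 1), (220, false, 10, 183, 220, 1), (222, false, 12, 180, 222, 1), (226, false, 17, 161, 226, 1), (227, false, 17, 161, 227, 1), (229, false, 19, 158, 229, 1), (232, false, 31, 146, 232, 1), (234, false, 41, 134, 234, 1), (235, false, 47, 129, 235, 1), (237, false, 52, 122, 237, 1)]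
def tRow55 : List (ℕ × Bool × ℕ × ℕ × ℕ × ℕ) := [(21, false, 4, 217, 21, 2), (22, false, 3, 218, 22, 2), (26, false, 3, 218, 26, 2), (36, false, 3, 218, 36, 2), (56, false, 3, 218, 56, 2), (57, false, 3, 218, 57, 2), (58, false, 3, 218, 58, 2), (78, false, 3, 218, 78, 2), (79, false, 3, 218, 79, 2), (80, false, 3, 218, 80, 2), (93, false, 3, 218, 93, 2), (94, false, 3, 218, 94, 2), (95, false, 3, 218, 95, 2), (105, false, 3, 218, 105, 2), (106, false, 3, 218, 106, 2), (107, false, 3, 218, 107, 2), (110, false, 3, 218, 110, 2), (111, false, 3, 218, 111, 2), (112, false, 3, 218, 112, 2), (114, false, 4, 217, 114, 2), (115, false, 4, 217, 115, 2), (116, false, 4, 217, 116, 2), (135, false, 3, 218, 135, 1), (136, false, 3, 218, 136, 1), (137, false, 4, 217, 137, 1), (147, false, 3, 218, 147, 1), (148, false, 4, 217, 148, 1), (152, false, 5, 213, 152, 1), (163, false, 3, 218, 163, 1), (164, false, 3, 218, 164, 1), (165, false, 4, 217, 165, 1), (169, false, 3, 218, 169, 1), (170, false, 4, 217, 170, 1), (174, false, 5, 213,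 174, 1), (185, false, 3, 218, 185, 1), (186, false, 3, 218, 186, 1), (187, false, 3, 218, 187, 1), (188, false, 4, 217, 188, 1), (189, false, 4, 217, 189, 1), (190, false, 4, 217, 190, 1), (194, false, 5, 213, 194, 1), (195, false, 5, 213, 195, 1), (196, false, 5, 213, 196, 1), (204, false, 7, 203, 204, 1), (205, false, 7, 203, 205, 1), (206, false, 7, 203, 206, 1), (219, false, 11, 183, 219, 1), (220, false, 11, 183, 220, 1), (221, false, 12, 182, 221, 1), (226, false, 18, 161, 226, 1), (227, false, 18, 161, 227, 1), (228, false, 19, 160, 228, 1), (232, false, 33, 146, 232, 1), (234, false, 43, 134, 234, 1), (235, false, 49, 129, 235, 1), (236, false, 52, 125, 236, 1)]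
def tRow56 : List (ℕ × Bool × ℕ × ℕ × ℕ × ℕ) := [(19, false, 1, 219, 19, 1), (20, false, 0, 220, 20, 1), (35, false, 0, 220, 35, 1), (45, false, 0, 220, 45, 1), (51, false, 0, 220, 51, 1), (54, false, 0, 220, 54, 1), (55, false, 0, 220, 55, 1), (83, false, 0, 220, 83, 1), (86, false, 0, 220, 86, 1), (87, false, 0, 220, 87, 1), (90, false, 0, 220, 90, 1), (91, false, 0, 220, 91, 1), (92, false, 0, 220, 92, 1), (101, false, 0, 220, 101, 1), (102, false, 0, 220, 102, 1), (103, false, 0, 220, 103, 1), (104, false, 0, 220, 104, 1), (121, false, 0, 220, 121, 1), (122, false, 1, 219, 122, 1), (124, false, 0, 220, 124, 1), (125, false, 1, 219, 125, 1), (128, false, 0, 220, 128, 1), (129, false, 1, 219, 129, 1), (133, false, 0, 220, 133, 1), (134, false, 1, 219, 134, 1), (145, false, 0, 220, 145, 1), (146, false, 1, 219, 146, 1), (161, false, 6, 204, 161, 1), (162, false, 0, 220, 162, 1), (167, false, 0, 220, 167, 1), (168, false, 1, 219, 168, 1), (172, false, 0, 220, 172, 1), (173, false, 1, 219, 173, 1), (176, false, 0, 220,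 176, 1), (177, false, 1, 219, 177, 1), (179, false, 0, 220, 179, 1), (180, false, 1, 219, 180, 1), (181, false, 0, 220, 181, 1), (182, false, 1, 219, 182, 1), (193, false, 6, 204, 193, 1), (199, false, 6, 204, 199, 1), (202, false, 6, 204, 202, 1), (203, false, 6, 204, 203, 1), (209, false, 8, 194, 209, 1), (212, false, 8, 194, 212, 1), (213, false, 8, 194, 213, 1), (216, false, 9, 188, 216, 1), (217, false, 9, 188, 217, 1), (218, false, 10, 185, 218, 1), (228, false, 21, 156, 228, 1), (229, false, 21, 156, 229, 1), (230, false, 22, 153, 230, 1), (231, false, 26, 149, 231, 1), (233, false, 36, 138, 233, 1), (238, true, 56, 121, 237, 0), (239, true, 56, 122, 237, 0)]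
def tRow57 : List (ℕ × Bool × ℕ × ℕ × ℕ × ℕ) := [(18, false, 2, 219, 18, 2), (20, false, 0, 221, 20, 1), (34, false, 0, 221, 34, 1), (44, false, 0, 221, 44, 1), (50, false, 0, 221, 50, 1), (53, false, 0, 221, 53, 1), (55, false, 0, 221, 55, 1), (82, false, 0, 221, 82, 1), (85, false, 0, 221, 85, 1), (87, false, 0, 221, 87, 1), (89, false, 0, 221, 89, 1), (91, false, 0, 221, 91, 1), (92, false, 0, 221, 92, 1), (100, false, 0, 221, 100, 1), (102, false, 0, 221, 102, 1), (103, false, 0, 221, 103, 1), (104, false, 0, 221, 104, 1), (118, false, 0, 221, 118, 1), (120, false, 2, 219, 120, 2), (123, false, 0, 221, 123, 1), (125, false, 2, 219, 125, 1), (127, false, 0, 221, 127, 1), (129, false, 2, 219, 129, 1), (132, false, 0, 221, 132, 1), (134, false, 2, 219, 134, 1), (144, false, 0, 221, 144, 1), (146, false, 2, 219, 146, 1), (160, false, 6, 205, 160, 1), (162, false, 0, 221, 162, 1), (166, false, 0, 221, 166, 1), (168, false, 2, 219, 168, 1), (171, false, 0, 221, 171, 1), (173, false, 2, 219, 173, 1), (175, false, 0, 221,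 175, 1), (177, false, 2, 219, 177, 1), (178, false, 0, 221, 178, 1), (180, false, 2, 219, 180, 1), (181, false, 0, 221, 181, 1), (183, false, 2, 219, 183, 1), (192, false, 6, 205, 192, 1), (198, false, 6, 205, 198, 1), (201, false, 6, 205, 201, 1), (203, false, 6, 205, 203, 1), (208, false, 8, 195, 208, 1), (211, false, 8, 195, 211, 1), (213, false, 8, 195, 213, 1), (215, false, 9, 189, 215, 1), (217, false, 9, 189, 217, 1), (218, false, 10, 186, 218, 1), (227, false, 21, 157, 227, 1), (229, false, 21, 157, 229, 1), (230, false, 22, 154, 230, 1), (231, false, 26, 150, 231, 1), (233, false, 36, 139, 233, 1), (237, false, 56, 121, 237, 1), (239, true, 57, 120, 238, 0)]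
def tRow58 : List (ℕ × Bool × ℕ × ℕ × ℕ × ℕ) := [(18, false, 2, 220, 18, 2), (19, false, 1, 221, 19, 2), (33, false, 1, 221, 33, 2), (43, false, 1, 221, 43, 2), (49, false, 1, 221, 49, 2), (52, false, 1, 221, 52, 2), (55, false, 1, 221, 55, 1), (81, false, 1, 221, 81, 2), (84, false, 1, 221, 84, 2), (87, false, 1, 221, 87, 1), (88, false, 1, 221, 88, 2), (91, false, 1, 221, 91, 1), (92, false, 1, 221, 92, 1), (99, false, 1, 221, 99, 2), (102, false, 1, 221, 102, 1), (103, false, 1, 221, 103, 1), (104, false, 1, 221, 104, 1), (117, false, 1, 221, 117, 2), (119, false, 2, 220, 119, 2), (123, false, 1, 221, 123, 1), (124, false, 2, 220, 124, 1), (127, false, 1, 221, 127, 1), (128, false, 2, 220, 128, 1), (132, false, 1, 221, 132, 1), (133, false, 2, 220, 133, 1), (144, false, 1, 221, 144, 1), (145, false, 2, 220, 145, 1), (159, false, 6, 206, 159, 1), (162, false, 1, 221, 162, 1), (166, false, 1, 221, 166, 1), (167, false, 2, 220, 167, 1), (171, false, 1, 221, 171, 1), (172, false, 2, 220, 172, 1), (175, false, 1, 221, 175,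 1), (176, false, 2, 220, 176, 1), (178, false, 1, 221, 178, 1), (179, false, 2, 220, 179, 1), (182, false, 1, 221, 182, 1), (183, false, 2, 220, 183, 1), (191, false, 6, 206, 191, 1), (197, false, 6, 206, 197, 1), (200, false, 6, 206, 200, 1), (203, false, 6, 206, 203, 1), (207, false, 8, 196, 207, 1), (210, false, 8, 196, 210, 1), (213, false, 8, 196, 213, 1), (214, false, 9, 190, 214, 1), (217, false, 9, 190, 217, 1), (218, false, 10, 187, 218, 1), (226, false, 21, 158, 226, 1), (229, false, 21, 158, 229, 1), (230, false, 22, 155, 230, 1), (231, false, 26, 151, 231, 1), (233, false, 36, 140, 233, 1), (237, false, 56, 122, 237, 1), (238, false, 57, 120, 238, 1)]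
def tRow59 : List (ℕ × Bool × ℕ × ℕ × ℕ × ℕ) := [(17, false, 3, 219, 17, 2), (20, false, 0, 222, 20, 1), (32, false, 0, 222, 32, 1), (42, false, 0, 222, 42, 1), (48, false, 0, 222, 48, 1), (53, false, 0, 222, 53, 1), (54, false, 0, 222, 54, 1), (80, false, 0, 222, 80, 1), (85, false, 0, 222, 85, 1), (86, false, 0, 222, 86, 1), (89, false, 0, 222, 89, 1), (90, false, 0, 222, 90, 1), (92, false, 0, 222, 92, 1), (100, false, 0, 222, 100, 1), (101, false, 0, 222, 101, 1), (103, false, 0, 222, 103, 1), (104, false, 0, 222, 104, 1), (115, false, 0, 222, 115, 1), (116, false, 0, 222, 116, 1), (120, false, 3, 219, 120, 2), (122, false, 3, 219, 122, 2), (126, false, 0, 222, 126, 1), (129, false, 3, 219, 129, 1), (131, false, 0, 222, 131, 1), (134, false, 3, 219, 134, 1), (143, false, 0, 222, 143, 1), (146, false, 3, 219, 146, 1), (158, false, 6, 207, 158, 1), (162, false, 0, 222, 162, 1), (165, false, 0, 222, 165, 1), (168, false, 3, 219, 168, 1), (170, false, 0, 222, 170, 1), (173, false, 3, 219, 173, 1), (174, false, 0, 222,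 174, 1), (177, false, 3, 219, 177, 1), (178, false, 0, 222, 178, 1), (179, false, 0, 222, 179, 1), (182, false, 3, 219, 182, 1), (183, false, 3, 219, 183, 1), (190, false, 6, 207, 190, 1), (196, false, 6, 207, 196, 1), (201, false, 6, 207, 201, 1), (202, false, 6, 207, 202, 1), (206, false, 8, 197, 206, 1), (211, false, 8, 197, 211, 1), (212, false, 8, 197, 212, 1), (215, false, 9, 191, 215, 1), (216, false, 9, 191, 216, 1), (218, false, 11, 186, 218, 1), (227, false, 21, 159, 227, 1), (228, false, 21, 159, 228, 1), (230, false, 23, 154, 230, 1), (231, false, 27, 150, 231, 1), (233, false, 37, 139, 233, 1), (236, false, 56, 124, 236, 1), (239, true, 59, 120, 238, 0)]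
def tRow60 : List (ℕ × Bool × ℕ × ℕ × ℕ × ℕ) := [(17, false, 3, 220, 17, 2), (19, false, 1, 222, 19, 2), (31, false, 1, 222, 31, 2), (41, false, 1, 222, 41, 2), (47, false, 1, 222, 47, 2), (52, false, 1, 222, 52, 2), (54, false, 1, 222, 54, 1), (79, false, 1, 222, 79, 2), (84, false, 1, 222, 84, 2), (86, false, 1, 222, 86, 1), (88, false, 1, 222, 88, 2), (90, false, 1, 222, 90, 1), (92, false, 1, 222, 92, 1), (99, false, 1, 222, 99, 2), (101, false, 1, 222, 101, 1), (103, false, 1, 222, 103, 1), (104, false, 1, 222, 104, 1), (114, false, 1, 222, 114, 2), (116, false, 1, 222, 116, 1), (119, false, 3, 220, 119, 2), (121, false, 3, 220, 121, 2), (126, false, 1, 222, 126, 1), (128, false, 3, 220, 128, 1), (131, false, 1, 222, 131, 1), (133, false, 3, 220, 133, 1), (143, false, 1, 222, 143, 1), (145, false, 3, 220, 145, 1), (157, false, 6, 208, 157, 1), (162, false, 1, 222, 162, 1), (165, false, 1, 222, 165, 1), (167, false, 3, 220, 167, 1), (170, false, 1, 222, 170, 1), (172, false, 3, 220, 172, 1), (174, false, 1, 222, 174,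 1), (176, false, 3, 220, 176, 1), (178, false, 1, 222, 178, 1), (180, false, 1, 222, 180, 1), (181, false, 3, 220, 181, 1), (183, false, 3, 220, 183, 1), (189, false, 6, 208, 189, 1), (195, false, 6, 208, 195, 1), (200, false, 6, 208, 200, 1), (202, false, 6, 208, 202, 1), (205, false, 8, 198, 205, 1), (210, false, 8, 198, 210, 1), (212, false, 8, 198, 212, 1), (214, false, 9, 192, 214, 1), (216, false, 9, 192, 216, 1), (218, false, 11, 187, 218, 1), (226, false, 21, 160, 226, 1), (228, false, 21, 160, 228, 1), (230, false, 23, 155, 230, 1), (231, false, 27, 151, 231, 1), (233, false, 37, 140, 233, 1), (236, false, 56, 125, 236, 1), (238, false, 59, 120, 238, 1)]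
def tRow61 : List (ℕ × Bool × ℕ × ℕ × ℕ × ℕ) := [(17, false, 3, 221, 17, 2), (18, false, 2, 222, 18, 2), (30, false, 2, 222, 30, 2), (40, false, 2, 222, 40, 2), (46, false, 2, 222, 46, 2), (52, false, 2, 222, 52, 2), (53, false, 2, 222, 53, 2), (78, false, 2, 222, 78, 2), (84, false, 2, 222, 84, 2), (85, false, 2, 222, 85, 2), (88, false, 2, 222, 88, 2), (89, false, 2, 222, 89, 2), (92, false, 2, 222, 92, 1), (99, false, 2, 222, 99, 2), (100, false, 2, 222, 100, 2), (103, false, 2, 222, 103, 1), (104, false, 2, 222, 104, 1), (114, false, 2, 222, 114, 2), (115, false, 2, 222, 115, 2), (117, false, 3, 221, 117, 2), (118, false, 3, 221, 118, 2), (126, false, 2, 222, 126, 1), (127, false, 3, 221, 127, 1), (131, false, 2, 222, 131, 1), (132, false, 3, 221, 132, 1), (143, false, 2, 222, 143, 1), (144, false, 3, 221, 144, 1), (156, false, 6, 209, 156, 1), (162, false, 2, 222, 162, 1), (165, false, 2, 222, 165, 1), (166, false, 3, 221, 166, 1), (170, false, 2, 222, 170, 1), (171, false, 3, 221, 171, 1), (174, false, 2, 222, 174,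 1), (175, false, 3, 221, 175, 1), (179, false, 2, 222, 179, 1), (180, false, 2, 222, 180, 1), (181, false, 3, 221, 181, 1), (182, false, 3, 221, 182, 1), (188, false, 6, 209, 188, 1), (194, false, 6, 209, 194, 1), (200, false, 6, 209, 200, 1), (201, false, 6, 209, 201, 1), (204, false, 8, 199, 204, 1), (210, false, 8, 199, 210, 1), (211, false, 8, 199, 211, 1), (214, false, 9, 193, 214, 1), (215, false, 9, 193, 215, 1), (218, false, 12, 187, 218, 1), (226, false, 21, 161, 226, 1), (227, false, 21, 161, 227, 1), (230, false, 24, 155, 230, 1), (231, false, 28, 151, 231, 1), (233, false, 38, 140, 233, 1), (236, false, 57, 125, 236, 1), (237, false, 59, 122, 237, 1)]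
def tRow62 : List (ℕ × Bool × ℕ × ℕ × ℕ × ℕ) := [(16, false, 4, 219, 16, 2), (20, false, 0, 223, 20, 1), (29, false, 0, 223, 29, 1), (39, false, 0, 223, 39, 1), (48, false, 0, 223, 48, 1), (50, false, 0, 223, 50, 1), (51, false, 0, 223, 51, 1), (80, false, 0, 223, 80, 1), (82, false, 0, 223, 82, 1), (83, false, 0, 223, 83, 1), (89, false, 0, 223, 89, 1), (90, false, 0, 223, 90, 1), (91, false, 0, 223, 91, 1), (100, false, 0, 223, 100, 1), (101, false, 0, 223, 101, 1), (102, false, 0, 223, 102, 1), (104, false, 0, 223, 104, 1), (111, false, 0, 223, 111, 1), (112, false, 0, 223, 112, 1), (113, false, 0, 223, 113, 1), (120, false, 4, 219, 120, 2), (122, false, 4, 219, 122, 2), (125, false, 4, 219, 125, 2), (130, false, 0, 223, 130, 1), (134, false, 4, 219, 134, 1), (142, false, 0, 223, 142, 1), (146, false, 4, 219, 146, 1), (155, false, 6, 210, 155, 1), (162, false, 0, 223, 162, 1), (164, false, 0, 223, 164, 1), (168, false, 4, 219, 168, 1), (169, false, 0, 223, 169, 1), (173, false, 4, 219, 173, 1), (174, false, 0, 223,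 174, 1), (175, false, 0, 223, 175, 1), (176, false, 0, 223, 176, 1), (180, false, 4, 219, 180, 1), (182, false, 4, 219, 182, 1), (183, false, 4, 219, 183, 1), (187, false, 6, 210, 187, 1), (196, false, 6, 210, 196, 1), (198, false, 6, 210, 198, 1), (199, false, 6, 210, 199, 1), (206, false, 8, 200, 206, 1), (208, false, 8, 200, 208, 1), (209, false, 8, 200, 209, 1), (215, false, 10, 191, 215, 1), (216, false, 10, 191, 216, 1), (217, false, 11, 189, 217, 1), (227, false, 22, 159, 227, 1), (228, false, 22, 159, 228, 1), (229, false, 23, 157, 229, 1), (231, false, 30, 150, 231, 1), (233, false, 40, 139, 233, 1), (235, false, 56, 128, 235, 1), (239, true, 62, 120, 238, 0)]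
def tRow63 : List (ℕ × Bool × ℕ × ℕ × ℕ × ℕ) := [(16, false, 4, 220, 16, 2), (19, false, 1, 223, 19, 2), (28, false, 1, 223, 28, 2), (38, false, 1, 223, 38, 2), (47, false, 1, 223, 47, 2), (49, false, 1, 223, 49, 2), (51, false, 1, 223, 51, 1), (79, false, 1, 223, 79, 2), (81, false, 1, 223, 81, 2), (83, false, 1, 223, 83, 1), (88, false, 1, 223, 88, 2), (90, false, 1, 223, 90, 1), (91, false, 1, 223, 91, 1), (99, false, 1, 223, 99, 2), (101, false, 1, 223, 101, 1), (102, false, 1, 223, 102, 1), (104, false, 1, 223, 104, 1), (110, false, 1, 223, 110, 2), (112, false, 1, 223, 112, 1), (113, false, 1, 223, 113, 1), (119, false, 4, 220, 119, 2), (121, false, 4, 220, 121, 2), (124, false, 4, 220, 124, 2), (130, false, 1, 223, 130, 1), (133, false, 4, 220, 133, 1), (142, false, 1, 223, 142, 1), (145, false, 4, 220, 145, 1), (154, false, 6, 211, 154, 1), (162, false, 1, 223, 162, 1), (164, false, 1, 223, 164, 1), (167, false, 4, 220, 167, 1), (169, false, 1, 223, 169, 1), (172, false, 4, 220, 172, 1), (174, false, 1, 223, 174,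 1), (175, false, 1, 223, 175, 1), (177, false, 1, 223, 177, 1), (179, false, 4, 220, 179, 1), (181, false, 4, 220, 181, 1), (183, false, 4, 220, 183, 1), (186, false, 6, 211, 186, 1), (195, false, 6, 211, 195, 1), (197, false, 6, 211, 197, 1), (199, false, 6, 211, 199, 1), (205, false, 8, 201, 205, 1), (207, false, 8, 201, 207, 1), (209, false, 8, 201, 209, 1), (214, false, 10, 192, 214, 1), (216, false, 10, 192, 216, 1), (217, false, 11, 190, 217, 1), (226, false, 22, 160, 226, 1), (228, false, 22, 160, 228, 1), (229, false, 23, 158, 229, 1), (231, false, 30, 151, 231, 1), (233, false, 40, 140, 233, 1), (235, false, 56, 129, 235, 1), (238, false, 62, 120, 238, 1)]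
def tRow64 : List (ℕ × Bool × ℕ × ℕ × ℕ × ℕ) := [(16, false, 4, 221, 16, 2), (18, false, 2, 223, 18, 2), (27, false, 2, 223, 27, 2), (37, false, 2, 223, 37, 2), (46, false, 2, 223, 46, 2), (49, false, 2, 223, 49, 2), (50, false, 2, 223, 50, 2), (78, false, 2, 223, 78, 2), (81, false, 2, 223, 81, 2), (82, false, 2, 223, 82, 2), (88, false, 2, 223, 88, 2), (89, false, 2, 223, 89, 2), (91, false, 2, 223, 91, 1), (99, false, 2, 223, 99, 2), (100, false, 2, 223, 100, 2), (102, false, 2, 223, 102, 1), (104, false, 2, 223, 104, 1), (110, false, 2, 223, 110, 2), (111, false, 2, 223, 111, 2), (113, false, 2, 223, 113, 1), (117, false, 4, 221, 117, 2), (118, false, 4, 221, 118, 2), (123, false, 4, 221, 123, 2), (130, false, 2, 223, 130, 1), (132, false, 4, 221, 132, 1), (142, false, 2, 223, 142, 1), (144, false, 4, 221, 144, 1), (153, false, 6, 212, 153, 1), (162, false, 2, 223, 162, 1), (164, false, 2, 223, 164, 1), (166, false, 4, 221, 166, 1), (169, false, 2, 223, 169, 1), (171, false, 4, 221, 171, 1), (174, false, 2, 223, 174,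 1), (176, false, 2, 223, 176, 1), (177, false, 2, 223, 177, 1), (178, false, 4, 221, 178, 1), (181, false, 4, 221, 181, 1), (182, false, 4, 221, 182, 1), (185, false, 6, 212, 185, 1), (194, false, 6, 212, 194, 1), (197, false, 6, 212, 197, 1), (198, false, 6, 212, 198, 1), (204, false, 8, 202, 204, 1), (207, false, 8, 202, 207, 1), (208, false, 8, 202, 208, 1), (214, false, 10, 193, 214, 1), (215, false, 10, 193, 215, 1), (217, false, 12, 190, 217, 1), (226, false, 22, 161, 226, 1), (227, false, 22, 161, 227, 1), (229, false, 24, 158, 229, 1), (231, false, 31, 151, 231, 1), (233, false, 41, 140, 233, 1), (235, false, 57, 129, 235, 1), (237, false, 62, 122, 237, 1)]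
def tRow65 : List (ℕ × Bool × ℕ × ℕ × ℕ × ℕ) := [(16, false, 4, 222, 16, 2), (17, false, 3, 223, 17, 2), (26, false, 3, 223, 26, 2), (36, false, 3, 223, 36, 2), (46, false, 3, 223, 46, 2), (47, false, 3, 223, 47, 2), (48, false, 3, 223, 48, 2), (78, false, 3, 223, 78, 2), (79, false, 3, 223, 79, 2), (80, false, 3, 223, 80, 2), (88, false, 3, 223, 88, 2), (89, false, 3, 223, 89, 2), (90, false, 3, 223, 90, 2), (99, false, 3, 223, 99, 2), (100, false, 3, 223, 100, 2), (101, false, 3, 223, 101, 2), (104, false, 3, 223, 104, 1), (110, false, 3, 223, 110, 2), (111, false, 3, 223, 111, 2), (112, false, 3, 223, 112, 2), (114, false, 4, 222, 114, 2), (115, false, 4, 222, 115, 2), (116, false, 4, 222, 116, 2), (130, false, 3, 223, 130, 1), (131, false, 4, 222, 131, 1), (142, false, 3, 223, 142, 1), (143, false, 4, 222, 143, 1), (152, false, 6, 213, 152, 1), (162, false, 3, 223, 162, 1), (164, false, 3, 223, 164, 1), (165, false, 4, 222, 165, 1), (169, false, 3, 223, 169, 1), (170, false, 4, 222, 170, 1), (175, false, 3, 223, 175,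 1), (176, false, 3, 223, 176, 1), (177, false, 3, 223, 177, 1), (178, false, 4, 222, 178, 1), (179, false, 4, 222, 179, 1), (180, false, 4, 222, 180, 1), (184, false, 6, 213, 184, 1), (194, false, 6, 213, 194, 1), (195, false, 6, 213, 195, 1), (196, false, 6, 213, 196, 1), (204, false, 8, 203, 204, 1), (205, false, 8, 203, 205, 1), (206, false, 8, 203, 206, 1), (214, false, 11, 193, 214, 1), (215, false, 11, 193, 215, 1), (216, false, 12, 192, 216, 1), (226, false, 23, 161, 226, 1), (227, false, 23, 161, 227, 1), (228, false, 24, 160, 228, 1), (231, false, 33, 151, 231, 1), (233, false, 43, 140, 233, 1), (235, false, 59, 129, 235, 1), (236, false, 62, 125, 236, 1)]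
def tRow66 : List (ℕ × Bool × ℕ × ℕ × ℕ × ℕ) := [(15, false, 5, 219, 15, 2), (20, false, 0, 224, 20, 1), (25, false, 0, 224, 25, 1), (39, false, 0, 224, 39, 1), (42, false, 0, 224, 42, 1), (44, false, 0, 224, 44, 1), (45, false, 0, 224, 45, 1), (80, false, 0, 224, 80, 1), (82, false, 0, 224, 82, 1), (83, false, 0, 224, 83, 1), (85, false, 0, 224, 85, 1), (86, false, 0, 224, 86, 1), (87, false, 0, 224, 87, 1), (100, false, 0, 224, 100, 1), (101, false, 0, 224, 101, 1), (102, false, 0, 224, 102, 1), (103, false, 0, 224, 103, 1), (106, false, 0, 224, 106, 1), (107, false, 0, 224, 107, 1), (108, false, 0, 224, 108, 1), (109, false, 0, 224, 109, 1), (120, false, 5, 219, 120, 2), (122, false, 5, 219, 122, 2), (125, false, 5, 219, 125, 2), (129, false, 5, 219, 129, 2), (141, false, 0, 224, 141, 1), (146, false, 5, 219, 146, 1), (151, false, 6, 214, 151, 1), (162, false, 0, 224, 162, 1), (163, false, 0, 224, 163, 1), (168, false, 5, 219, 168, 1), (169, false, 0, 224, 169, 1), (170, false, 0, 224, 170, 1), (171, false, 0, 224,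 171, 1), (172, false, 0, 224, 172, 1), (177, false, 5, 219, 177, 1), (180, false, 5, 219, 180, 1), (182, false, 5, 219, 182, 1), (183, false, 5, 219, 183, 1), (187, false, 6, 214, 187, 1), (190, false, 6, 214, 190, 1), (192, false, 6, 214, 192, 1), (193, false, 6, 214, 193, 1), (206, false, 9, 200, 206, 1), (208, false, 9, 200, 208, 1), (209, false, 9, 200, 209, 1), (211, false, 10, 197, 211, 1), (212, false, 10, 197, 212, 1), (213, false, 11, 195, 213, 1), (227, false, 26, 159, 227, 1), (228, false, 26, 159, 228, 1), (229, false, 27, 157, 229, 1), (230, false, 30, 154, 230, 1), (233, false, 46, 139, 233, 1), (234, false, 56, 133, 234, 1), (239, true, 66, 120, 238, 0)]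
def tRow67 : List (ℕ × Bool × ℕ × ℕ × ℕ × ℕ) := [(15, false, 5, 220, 15, 2), (19, false, 1, 224, 19, 2), (24, false, 1, 224, 24, 2), (38, false, 1, 224, 38, 2), (41, false, 1, 224, 41, 2), (43, false, 1, 224, 43, 2), (45, false, 1, 224, 45, 1), (79, false, 1, 224, 79, 2), (81, false, 1, 224, 81, 2), (83, false, 1, 224, 83, 1), (84, false, 1, 224, 84, 2), (86, false, 1, 224, 86, 1), (87, false, 1, 224, 87, 1), (99, false, 1, 224, 99, 2), (101, false, 1, 224, 101, 1), (102, false, 1, 224, 102, 1), (103, false, 1, 224, 103, 1), (105, false, 1, 224, 105, 2), (107, false, 1, 224, 107, 1), (108, false, 1, 224, 108, 1), (109, false, 1, 224, 109, 1), (119, false, 5, 220, 119, 2), (121, false, 5, 220, 121, 2), (124, false, 5, 220, 124, 2), (128, false, 5, 220, 128, 2), (141, false, 1, 224, 141, 1), (145, false, 5, 220, 145, 1), (150, false, 6, 215, 150, 1), (162, false, 1, 224, 162, 1), (163, false, 1, 224, 163, 1), (167, false, 5, 220, 167, 1), (169, false, 1, 224, 169, 1), (170, false, 1, 224, 170, 1), (171, false, 1, 224, 171,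 1), (173, false, 1, 224, 173, 1), (176, false, 5, 220, 176, 1), (179, false, 5, 220, 179, 1), (181, false, 5, 220, 181, 1), (183, false, 5, 220, 183, 1), (186, false, 6, 215, 186, 1), (189, false, 6, 215, 189, 1), (191, false, 6, 215, 191, 1), (193, false, 6, 215, 193, 1), (205, false, 9, 201, 205, 1), (207, false, 9, 201, 207, 1), (209, false, 9, 201, 209, 1), (210, false, 10, 198, 210, 1), (212, false, 10, 198, 212, 1), (213, false, 11, 196, 213, 1), (226, false, 26, 160, 226, 1), (228, false, 26, 160, 228, 1), (229, false, 27, 158, 229, 1), (230, false, 30, 155, 230, 1), (233, false, 46, 140, 233, 1), (234, false, 56, 134, 234, 1), (238, false, 66, 120, 238, 1)]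
def tRow68 : List (ℕ × Bool × ℕ × ℕ × ℕ × ℕ) := [(15, false, 5, 221, 15, 2), (18, false, 2, 224, 18, 2), (23, false, 2, 224, 23, 2), (37, false, 2, 224, 37, 2), (40, false, 2, 224, 40, 2), (43, false, 2, 224, 43, 2), (44, false, 2, 224, 44, 2), (78, false, 2, 224, 78, 2), (81, false, 2, 224, 81, 2), (82, false, 2, 224, 82, 2), (84, false, 2, 224, 84, 2), (85, false, 2, 224, 85, 2), (87, false, 2, 224, 87, 1), (99, false, 2, 224, 99, 2), (100, false, 2, 224, 100, 2), (102, false, 2, 224, 102, 1), (103, false, 2, 224, 103, 1), (105, false, 2, 224, 105, 2), (106, false, 2, 224, 106, 2), (108, false, 2, 224, 108, 1), (109, false, 2, 224, 109, 1), (117, false, 5, 221, 117, 2), (118, false, 5, 221, 118, 2), (123, false, 5, 221, 123, 2), (127, false, 5, 221, 127, 2), (141, false, 2, 224, 141, 1), (144, false, 5, 221, 144, 1), (149, false, 6, 216, 149, 1), (162, false, 2, 224, 162, 1), (163, false, 2, 224, 163, 1), (166, false, 5, 221, 166, 1), (169, false, 2, 224, 169, 1), (170, false, 2, 224, 170, 1), (172, false, 2, 224, 172,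 1), (173, false, 2, 224, 173, 1), (175, false, 5, 221, 175, 1), (178, false, 5, 221, 178, 1), (181, false, 5, 221, 181, 1), (182, false, 5, 221, 182, 1), (185, false, 6, 216, 185, 1), (188, false, 6, 216, 188, 1), (191, false, 6, 216, 191, 1), (192, false, 6, 216, 192, 1), (204, false, 9, 202, 204, 1), (207, false, 9, 202, 207, 1), (208, false, 9, 202, 208, 1), (210, false, 10, 199, 210, 1), (211, false, 10, 199, 211, 1), (213, false, 12, 196, 213, 1), (226, false, 26, 161, 226, 1), (227, false, 26, 161, 227, 1), (229, false, 28, 158, 229, 1), (230, false, 31, 155, 230, 1), (233, false, 47, 140, 233, 1), (234, false, 57, 134, 234, 1), (237, false, 66, 122, 237, 1)]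
def tRow69 : List (ℕ × Bool × ℕ × ℕ × ℕ × ℕ) := [(15, false, 5, 222, 15, 2), (17, false, 3, 224, 17, 2), (22, false, 3, 224, 22, 2), (36, false, 3, 224, 36, 2), (40, false, 3, 224, 40, 2), (41, false, 3, 224, 41, 2), (42, false, 3, 224, 42, 2), (78, false, 3, 224, 78, 2), (79, false, 3, 224, 79, 2), (80, false, 3, 224, 80, 2), (84, false, 3, 224, 84, 2), (85, false, 3, 224, 85, 2), (86, false, 3, 224, 86, 2), (99, false, 3, 224, 99, 2), (100, false, 3, 224, 100, 2), (101, false, 3, 224, 101, 2), (103, false, 3, 224, 103, 1), (105, false, 3, 224, 105, 2), (106, false, 3, 224, 106, 2), (107, false, 3, 224, 107, 2), (109, false, 3, 224, 109, 1), (114, false, 5, 222, 114, 2), (115, false, 5, 222, 115, 2), (116, false, 5, 222, 116, 2), (126, false, 5, 222, 126, 2), (141, false, 3, 224, 141, 1), (143, false, 5, 222, 143, 1), (148, false, 6, 217, 148, 1), (162, false, 3, 224, 162, 1), (163, false, 3, 224, 163, 1), (165, false, 5, 222, 165, 1), (169, false, 3, 224, 169, 1), (171, false, 3, 224, 171, 1), (172, false, 3, 224, 172,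 1), (173, false, 3, 224, 173, 1), (174, false, 5, 222, 174, 1), (178, false, 5, 222, 178, 1), (179, false, 5, 222, 179, 1), (180, false, 5, 222, 180, 1), (184, false, 6, 217, 184, 1), (188, false, 6, 217, 188, 1), (189, false, 6, 217, 189, 1), (190, false, 6, 217, 190, 1), (204, false, 9, 203, 204, 1), (205, false, 9, 203, 205, 1), (206, false, 9, 203, 206, 1), (210, false, 11, 199, 210, 1), (211, false, 11, 199, 211, 1), (212, false, 12, 198, 212, 1), (226, false, 27, 161, 226, 1), (227, false, 27, 161, 227, 1), (228, false, 28, 160, 228, 1), (230, false, 33, 155, 230, 1), (233, false, 49, 140, 233, 1), (234, false, 59, 134, 234, 1), (236, false, 66, 125, 236, 1)]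
def tRow70 : List (ℕ × Bool × ℕ × ℕ × ℕ × ℕ) := [(15, false, 5, 223, 15, 2), (16, false, 4, 224, 16, 2), (21, false, 4, 224, 21, 2), (36, false, 4, 224, 36, 2), (37, false, 4, 224, 37, 2), (38, false, 4, 224, 38, 2), (39, false, 4, 224, 39, 2), (78, false, 4, 224, 78, 2), (79, false, 4, 224, 79, 2), (80, false, 4, 224, 80, 2), (81, false, 4, 224, 81, 2), (82, false, 4, 224, 82, 2), (83, false, 4, 224, 83, 2), (99, false, 4, 224, 99, 2), (100, false, 4, 224, 100, 2), (101, false, 4, 224, 101, 2), (102, false, 4, 224, 102, 2), (105, false, 4, 224, 105, 2), (106, false, 4, 224, 106, 2), (107, false, 4, 224, 107, 2), (108, false, 4, 224, 108, 2), (110, false, 5, 223, 110, 2), (111, false, 5, 223, 111, 2), (112, false, 5, 223, 112, 2), (113, false, 5, 223, 113, 2), (141, false, 4, 224, 141, 1), (142, false, 5, 223, 142, 1), (147, false, 6, 218, 147, 1), (162, false, 4, 224, 162, 1), (163, false, 4, 224, 163, 1), (164, false, 5, 223, 164, 1), (170, false, 4, 224, 170, 1), (171, false, 4, 224, 171, 1), (172, false, 4, 224, 172,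 1), (173, false, 4, 224, 173, 1), (174, false, 5, 223, 174, 1), (175, false, 5, 223, 175, 1), (176, false, 5, 223, 176, 1), (177, false, 5, 223, 177, 1), (184, false, 6, 218, 184, 1), (185, false, 6, 218, 185, 1), (186, false, 6, 218, 186, 1), (187, false, 6, 218, 187, 1), (204, false, 10, 203, 204, 1), (205, false, 10, 203, 205, 1), (206, false, 10, 203, 206, 1), (207, false, 11, 202, 207, 1), (208, false, 11, 202, 208, 1), (209, false, 12, 201, 209, 1), (226, false, 30, 161, 226, 1), (227, false, 30, 161, 227, 1), (228, false, 31, 160, 228, 1), (229, false, 33, 158, 229, 1), (233, false, 52, 140, 233, 1), (234, false, 62, 134, 234, 1), (235, false, 66, 129, 235, 1)]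
def tRow71 : List (ℕ × Bool × ℕ × ℕ × ℕ × ℕ) := [(14, false, 7, 219, 14, 2), (20, false, 0, 225, 20, 1), (25, false, 0, 225, 25, 1), (29, false, 0, 225, 29, 1), (32, false, 0, 225, 32, 1), (34, false, 0, 225, 34, 1), (35, false, 0, 225, 35, 1), (80, false, 0, 225, 80, 1), (82, false, 0, 225, 82, 1), (83, false, 0, 225, 83, 1), (85, false, 0, 225, 85, 1), (86, false, 0, 225, 86, 1), (87, false, 0, 225, 87, 1), (89, false, 0, 225, 89, 1), (90, false, 0, 225, 90, 1), (91, false, 0, 225, 91, 1), (92, false, 0, 225, 92, 1), (94, false, 0, 225, 94, 1), (95, false, 0, 225, 95, 1), (96, false, 0, 225, 96, 1), (97, false, 0, 225, 97, 1), (98, false, 0, 225, 98, 1), (120, false, 7, 219, 120, 2), (122, false, 7, 219, 122, 2), (125, false, 7, 219, 125, 2), (129, false, 7, 219, 129, 2), (134, false, 7, 219, 134, 2), (140, false, 8, 214, 140, 2), (162, false, 0, 225, 162, 1), (163, false, 0, 225, 163, 1), (164, false, 0, 225, 164, 1), (165, false, 0, 225, 165, 1), (166, false, 0, 225, 166, 1), (167, false, 0, 225, 167, 1), (173, false,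 7, 219, 173, 1), (177, false, 7, 219, 177, 1), (180, false, 7, 219, 180, 1), (182, false, 7, 219, 182, 1), (183, false, 7, 219, 183, 1), (187, false, 8, 214, 187, 1), (190, false, 8, 214, 190, 1), (192, false, 8, 214, 192, 1), (193, false, 8, 214, 193, 1), (196, false, 9, 210, 196, 1), (198, false, 9, 210, 198, 1), (199, false, 9, 210, 199, 1), (201, false, 10, 207, 201, 1), (202, false, 10, 207, 202, 1), (203, false, 11, 205, 203, 1), (227, false, 36, 159, 227, 1), (228, false, 36, 159, 228, 1), (229, false, 37, 157, 229, 1), (230, false, 40, 154, 230, 1), (231, false, 46, 150, 231, 1), (232, false, 56, 145, 232, 1), (239, true, 71, 120, 238, 0)]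
def tRow72 : List (ℕ × Bool × ℕ × ℕ × ℕ × ℕ) := [(14, false, 7, 220, 14, 2), (19, false, 1, 225, 19, 2), (24, false, 1, 225, 24, 2), (28, false, 1, 225, 28, 2), (31, false, 1, 225, 31, 2), (33, false, 1, 225, 33, 2), (35, false, 1, 225, 35, 1), (79, false, 1, 225, 79, 2), (81, false, 1, 225, 81, 2), (83, false, 1, 225, 83, 1), (84, false, 1, 225, 84, 2), (86, false, 1, 225, 86, 1), (87, false, 1, 225, 87, 1), (88, false, 1, 225, 88, 2), (90, false, 1, 225, 90, 1), (91, false, 1, 225, 91, 1), (92, false, 1, 225, 92, 1), (93, false, 1, 225, 93, 2), (95, false, 1, 225, 95, 1), (96, false, 1, 225, 96, 1), (97, false, 1, 225, 97, 1), (98, false, 1, 225, 98, 1), (119, false, 7, 220, 119, 2), (121, false, 7, 220, 121, 2), (124, false, 7, 220, 124, 2), (128, false, 7, 220, 128, 2), (133, false, 7, 220, 133, 2), (139, false, 8, 215, 139, 2), (162, false, 1, 225, 162, 1), (163, false, 1, 225, 163, 1), (164, false, 1, 225, 164, 1), (165, false, 1, 225, 165, 1), (166, false, 1, 225, 166, 1), (168, false, 1, 225, 168, 1), (172, false,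 7, 220, 172, 1), (176, false, 7, 220, 176, 1), (179, false, 7, 220, 179, 1), (181, false, 7, 220, 181, 1), (183, false, 7, 220, 183, 1), (186, false, 8, 215, 186, 1), (189, false, 8, 215, 189, 1), (191, false, 8, 215, 191, 1), (193, false, 8, 215, 193, 1), (195, false, 9, 211, 195, 1), (197, false, 9, 211, 197, 1), (199, false, 9, 211, 199, 1), (200, false, 10, 208, 200, 1), (202, false, 10, 208, 202, 1), (203, false, 11, 206, 203, 1), (226, false, 36, 160, 226, 1), (228, false, 36, 160, 228, 1), (229, false, 37, 158, 229, 1), (230, false, 40, 155, 230, 1), (231, false, 46, 151, 231, 1), (232, false, 56, 146, 232, 1), (238, false, 71, 120, 238, 1)]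
def tRow73 : List (ℕ × Bool × ℕ × ℕ × ℕ × ℕ) := [(14, false, 7, 221, 14, 2), (18, false, 2, 225, 18, 2), (23, false, 2, 225, 23, 2), (27, false, 2, 225, 27, 2), (30, false, 2, 225, 30, 2), (33, false, 2, 225, 33, 2), (34, false, 2, 225, 34, 2), (78, false, 2, 225, 78, 2), (81, false, 2, 225, 81, 2), (82, false, 2, 225, 82, 2), (84, false, 2, 225, 84, 2), (85, false, 2, 225, 85, 2), (87, false, 2, 225, 87, 1), (88, false, 2, 225, 88, 2), (89, false, 2, 225, 89, 2), (91, false, 2, 225, 91, 1), (92, false, 2, 225, 92, 1), (93, false, 2, 225, 93, 2), (94, false, 2, 225, 94, 2), (96, false, 2, 225, 96, 1), (97, false, 2, 225, 97, 1), (98, false, 2, 225, 98, 1), (117, false, 7, 221, 117, 2), (118, false, 7, 221, 118, 2), (123, false, 7, 221, 123, 2), (127, false, 7, 221, 127, 2), (132, false, 7, 221, 132, 2), (138, false, 8, 216, 138, 2), (162, false, 2, 225, 162, 1), (163, false, 2, 225, 163, 1), (164, false, 2, 225, 164, 1), (165, false, 2, 225, 165, 1), (167, false, 2, 225, 167, 1), (168, false, 2, 225, 168, 1), (171, false,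 7, 221, 171, 1), (175, false, 7, 221, 175, 1), (178, false, 7, 221, 178, 1), (181, false, 7, 221, 181, 1), (182, false, 7, 221, 182, 1), (185, false, 8, 216, 185, 1), (188, false, 8, 216, 188, 1), (191, false, 8, 216, 191, 1), (192, false, 8, 216, 192, 1), (194, false, 9, 212, 194, 1), (197, false, 9, 212, 197, 1), (198, false, 9, 212, 198, 1), (200, false, 10, 209, 200, 1), (201, false, 10, 209, 201, 1), (203, false, 12, 206, 203, 1), (226, false, 36, 161, 226, 1), (227, false, 36, 161, 227, 1), (229, false, 38, 158, 229, 1), (230, false, 41, 155, 230, 1), (231, false, 47, 151, 231, 1), (232, false, 57, 146, 232, 1), (237, false, 71, 122, 237, 1)]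
def tRow74 : List (ℕ × Bool × ℕ × ℕ × ℕ × ℕ) := [(14, false, 7, 222, 14, 2), (17, false, 3, 225, 17, 2), (22, false, 3, 225, 22, 2), (26, false, 3, 225, 26, 2), (30, false, 3, 225, 30, 2), (31, false, 3, 225, 31, 2), (32, false, 3, 225, 32, 2), (78, false, 3, 225, 78, 2), (79, false, 3, 225, 79, 2), (80, false, 3, 225, 80, 2), (84, false, 3, 225, 84, 2), (85, false, 3, 225, 85, 2), (86, false, 3, 225, 86, 2), (88, false, 3, 225, 88, 2), (89, false, 3, 225, 89, 2), (90, false, 3, 225, 90, 2), (92, false, 3, 225, 92, 1), (93, false, 3, 225, 93, 2), (94, false, 3, 225, 94, 2), (95, false, 3, 225, 95, 2), (97, false, 3, 225, 97, 1), (98, false, 3, 225, 98, 1), (114, false, 7, 222, 114, 2), (115, false, 7, 222, 115, 2), (116, false, 7, 222, 116, 2), (126, false, 7, 222, 126, 2), (131, false, 7, 222, 131, 2), (137, false, 8, 217, 137, 2), (162, false, 3, 225, 162, 1), (163, false, 3, 225, 163, 1), (164, false, 3, 225, 164, 1), (166, false, 3, 225, 166, 1), (167, false, 3, 225, 167, 1), (168, false, 3, 225, 168, 1), (170, false,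 7, 222, 170, 1), (174, false, 7, 222, 174, 1), (178, false, 7, 222, 178, 1), (179, false, 7, 222, 179, 1), (180, false, 7, 222, 180, 1), (184, false, 8, 217, 184, 1), (188, false, 8, 217, 188, 1), (189, false, 8, 217, 189, 1), (190, false, 8, 217, 190, 1), (194, false, 9, 213, 194, 1), (195, false, 9, 213, 195, 1), (196, false, 9, 213, 196, 1), (200, false, 11, 209, 200, 1), (201, false, 11, 209, 201, 1), (202, false, 12, 208, 202, 1), (226, false, 37, 161, 226, 1), (227, false, 37, 161, 227, 1), (228, false, 38, 160, 228, 1), (230, false, 43, 155, 230, 1), (231, false, 49, 151, 231, 1), (232, false, 59, 146, 232, 1), (236, false, 71, 125, 236, 1)]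
def tRow75 : List (ℕ × Bool × ℕ × ℕ × ℕ × ℕ) := [(14, false, 7, 223, 14, 2), (16, false, 4, 225, 16, 2), (21, false, 4, 225, 21, 2), (26, false, 4, 225, 26, 2), (27, false, 4, 225, 27, 2), (28, false, 4, 225, 28, 2), (29, false, 4, 225, 29, 2), (78, false, 4, 225, 78, 2), (79, false, 4, 225, 79, 2), (80, false, 4, 225, 80, 2), (81, false, 4, 225, 81, 2), (82, false, 4, 225, 82, 2), (83, false, 4, 225, 83, 2), (88, false, 4, 225, 88, 2), (89, false, 4, 225, 89, 2), (90, false, 4, 225, 90, 2), (91, false, 4, 225, 91, 2), (93, false, 4, 225, 93, 2), (94, false, 4, 225, 94, 2), (95, false, 4, 225, 95, 2), (96, false, 4, 225, 96, 2), (98, false, 4, 225, 98, 1), (110, false, 7, 223, 110, 2), (111, false, 7, 223, 111, 2), (112, false, 7, 223, 112, 2), (113, false, 7, 223, 113, 2), (130, false, 7, 223, 130, 2), (136, false, 8, 218, 136, 2), (162, false, 4, 225, 162, 1), (163, false, 4, 225, 163, 1), (165, false, 4, 225, 165, 1), (166, false, 4, 225, 166, 1), (167, false, 4, 225, 167, 1), (168, false, 4, 225, 168, 1), (169, false,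 7, 223, 169, 1), (174, false, 7, 223, 174, 1), (175, false, 7, 223, 175, 1), (176, false, 7, 223, 176, 1), (177, false, 7, 223, 177, 1), (184, false, 8, 218, 184, 1), (185, false, 8, 218, 185, 1), (186, false, 8, 218, 186, 1), (187, false, 8, 218, 187, 1), (194, false, 10, 213, 194, 1), (195, false, 10, 213, 195, 1), (196, false, 10, 213, 196, 1), (197, false, 11, 212, 197, 1), (198, false, 11, 212, 198, 1), (199, false, 12, 211, 199, 1), (226, false, 40, 161, 226, 1), (227, false, 40, 161, 227, 1), (228, false, 41, 160, 228, 1), (229, false, 43, 158, 229, 1), (231, false, 52, 151, 231, 1), (232, false, 62, 146, 232, 1), (235, false, 71, 129, 235, 1)]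
def tRow76 : List (ℕ × Bool × ℕ × ℕ × ℕ × ℕ) := [(14, false, 7, 224, 14, 2), (15, false, 5, 225, 15, 2), (21, false, 5, 225, 21, 2), (22, false, 5, 225, 22, 2), (23, false, 5, 225, 23, 2), (24, false, 5, 225, 24, 2), (25, false, 5, 225, 25, 2), (78, false, 5, 225, 78, 2), (79, false, 5, 225, 79, 2), (80, false, 5, 225, 80, 2), (81, false, 5, 225, 81, 2), (82, false, 5, 225, 82, 2), (83, false, 5, 225, 83, 2), (84, false, 5, 225, 84, 2), (85, false, 5, 225, 85, 2), (86, false, 5, 225, 86, 2), (87, false, 5, 225, 87, 2), (93, false, 5, 225, 93, 2), (94, false, 5, 225, 94, 2), (95, false, 5, 225, 95, 2), (96, false, 5, 225, 96, 2), (97, false, 5, 225, 97, 2), (105, false, 7, 224, 105, 2), (106, false, 7, 224, 106, 2), (107, false, 7, 224, 107, 2), (108, false, 7, 224, 108, 2), (109, false, 7, 224, 109, 2), (135, false, 9, 218, 135, 2), (162, false, 5, 225, 162, 1), (164, false, 5, 225, 164, 1), (165, false, 5, 225, 165, 1), (166, false, 5, 225, 166, 1), (167, false, 5, 225, 167, 1), (168, false, 5, 225, 168, 1), (169, false,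 7, 224, 169, 1), (170, false, 7, 224, 170, 1), (171, false, 7, 224, 171, 1), (172, false, 7, 224, 172, 1), (173, false, 7, 224, 173, 1), (184, false, 9, 218, 184, 1), (185, false, 9, 218, 185, 1), (186, false, 9, 218, 186, 1), (187, false, 9, 218, 187, 1), (188, false, 10, 217, 188, 1), (189, false, 10, 217, 189, 1), (190, false, 10, 217, 190, 1), (191, false, 11, 216, 191, 1), (192, false, 11, 216, 192, 1), (193, false, 12, 215, 193, 1), (226, false, 46, 161, 226, 1), (227, false, 46, 161, 227, 1), (228, false, 47, 160, 228, 1), (229, false, 49, 158, 229, 1), (230, false, 52, 155, 230, 1), (232, false, 66, 146, 232, 1), (234, false, 71, 134, 234, 1)]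
def tRow77 : List (ℕ × Bool × ℕ × ℕ × ℕ × ℕ) := [(14, false, 8, 224, 14, 2), (15, false, 6, 225, 15, 2), (16, false, 6, 225, 16, 2), (17, false, 6, 225, 17, 2), (18, false, 6, 225, 18, 2), (19, false, 6, 225, 19, 2), (20, false, 6, 225, 20, 2), (78, false, 6, 225, 78, 2), (79, false, 6, 225, 79, 2), (80, false, 6, 225, 80, 2), (81, false, 6, 225, 81, 2), (82, false, 6, 225, 82, 2), (83, false, 6, 225, 83, 2), (84, false, 6, 225, 84, 2), (85, false, 6, 225, 85, 2), (86, false, 6, 225, 86, 2), (87, false, 6, 225, 87, 2), (88, false, 6, 225, 88, 2), (89, false, 6, 225, 89, 2), (90, false, 6, 225, 90, 2), (91, false, 6, 225, 91, 2), (92, false, 6, 225, 92, 2), (99, false, 8, 224, 99, 2), (100, false, 8, 224, 100, 2), (101, false, 8, 224, 101, 2), (102, false, 8, 224, 102, 2), (103, false, 8, 224, 103, 2), (104, false, 9, 223, 104, 2), (163, false, 6, 225, 163, 1), (164, false, 6, 225, 164, 1), (165, false, 6, 225, 165, 1), (166, false, 6, 225, 166, 1), (167, false, 6, 225, 167, 1), (168, false, 6, 225, 168, 1), (169, false,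 8, 224, 169, 1), (170, false, 8, 224, 170, 1), (171, false, 8, 224, 171, 1), (172, false, 8, 224, 172, 1), (173, false, 8, 224, 173, 1), (174, false, 9, 223, 174, 1), (175, false, 9, 223, 175, 1), (176, false, 9, 223, 176, 1), (177, false, 9, 223, 177, 1), (178, false, 10, 222, 178, 1), (179, false, 10, 222, 179, 1), (180, false, 10, 222, 180, 1), (181, false, 11, 221, 181, 1), (182, false, 11, 221, 182, 1), (183, false, 12, 220, 183, 1), (226, false, 56, 161, 226, 1), (227, false, 56, 161, 227, 1), (228, false, 57, 160, 228, 1), (229, false, 59, 158, 229, 1), (230, false, 62, 155, 230, 1), (231, false, 66, 151, 231, 1), (233, false, 71, 140, 233, 1)]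
def tRow78 : List (ℕ × Bool × ℕ × ℕ × ℕ × ℕ) := [(12, false, 1, 226, 12, 1), (13, false, 0, 227, 13, 1), (35, false, 0, 227, 35, 1), (45, false, 0, 227, 45, 1), (51, false, 0, 227, 51, 1), (54, false, 0, 227, 54, 1), (55, false, 0, 227, 55, 1), (61, false, 0, 227, 61, 1), (64, false, 0, 227, 64, 1), (65, false, 0, 227, 65, 1), (68, false, 0, 227, 68, 1), (69, false, 0, 227, 69, 1), (70, false, 0, 227, 70, 1), (73, false, 0, 227, 73, 1), (74, false, 0, 227, 74, 1), (75, false, 0, 227, 75, 1), (76, false, 0, 227, 76, 1), (77, false, 0, 227, 77, 1), (121, false, 0, 227, 121, 1), (122, false, 1, 226, 122, 1), (124, false, 0, 227, 124, 1), (125, false, 1, 226, 125, 1), (128, false, 0, 227, 128, 1), (129, false, 1, 226, 129, 1), (133, false, 0, 227, 133, 1), (134, false, 1, 226, 134, 1), (139, false, 0, 227, 139, 1), (140, false, 1, 226, 140, 1), (145, false, 0, 227, 145, 1), (146, false, 1, 226, 146, 1), (150, false, 0, 227, 150, 1), (151, false, 1, 226, 151, 1), (154, false, 0, 227, 154, 1), (155, false, 1, 226, 155, 1),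 (157, false, 0, 227, 157, 1), (158, false, 1, 226, 158, 1), (159, false, 0, 227, 159, 1), (160, false, 1, 226, 160, 1), (183, false, 14, 204, 183, 1), (193, false, 14, 204, 193, 1), (199, false, 14, 204, 199, 1), (202, false, 14, 204, 202, 1), (203, false, 14, 204, 203, 1), (209, false, 15, 194, 209, 1), (212, false, 15, 194, 212, 1), (213, false, 15, 194, 213, 1), (216, false, 16, 188, 216, 1), (217, false, 16, 188, 217, 1), (218, false, 17, 185, 218, 1), (221, false, 21, 178, 221, 1), (222, false, 21, 178, 222, 1), (223, false, 22, 175, 223, 1), (224, false, 26, 171, 224, 1), (225, false, 36, 166, 225, 1), (238, true, 78, 121, 237, 0), (239, true, 78, 122, 237, 0)]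
def tRow79 : List (ℕ × Bool × ℕ × ℕ × ℕ × ℕ) := [(11, false, 2, 226, 11, 2), (13, false, 0, 228, 13, 1), (34, false, 0, 228, 34, 1), (44, false, 0, 228, 44, 1), (50, false, 0, 228, 50, 1), (53, false, 0, 228, 53, 1), (55, false, 0, 228, 55, 1), (60, false, 0, 228, 60, 1), (63, false, 0, 228, 63, 1), (65, false, 0, 228, 65, 1), (67, false, 0, 228, 67, 1), (69, false, 0, 228, 69, 1), (70, false, 0, 228, 70, 1), (72, false, 0, 228, 72, 1), (74, false, 0, 228, 74, 1), (75, false, 0, 228, 75, 1), (76, false, 0, 228, 76, 1), (77, false, 0, 228, 77, 1), (118, false, 0, 228, 118, 1), (120, false, 2, 226, 120, 2), (123, false, 0, 228, 123, 1), (125, false, 2, 226, 125, 1), (127, false, 0, 228, 127, 1), (129, false, 2, 226, 129, 1), (132, false, 0, 228, 132, 1), (134, false, 2, 226, 134, 1), (138, false, 0, 228, 138, 1), (140, false, 2, 226, 140, 1), (144, false, 0, 228, 144, 1), (146, false, 2, 226, 146, 1), (149, false, 0, 228, 149, 1), (151, false, 2, 226, 151, 1), (153, false, 0, 228, 153, 1), (155, false, 2, 226, 155, 1),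 (156, false, 0, 228, 156, 1), (158, false, 2, 226, 158, 1), (159, false, 0, 228, 159, 1), (161, false, 2, 226, 161, 1), (182, false, 14, 205, 182, 1), (192, false, 14, 205, 192, 1), (198, false, 14, 205, 198, 1), (201, false, 14, 205, 201, 1), (203, false, 14, 205, 203, 1), (208, false, 15, 195, 208, 1), (211, false, 15, 195, 211, 1), (213, false, 15, 195, 213, 1), (215, false, 16, 189, 215, 1), (217, false, 16, 189, 217, 1), (218, false, 17, 186, 218, 1), (220, false, 21, 179, 220, 1), (222, false, 21, 179, 222, 1), (223, false, 22, 176, 223, 1), (224, false, 26, 172, 224, 1), (225, false, 36, 167, 225, 1), (237, false, 78, 121, 237, 1), (239, true, 79, 120, 238, 0)]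
def tRow80 : List (ℕ × Bool × ℕ × ℕ × ℕ × ℕ) := [(11, false, 2, 227, 11, 2), (12, false, 1, 228, 12, 2), (33, false, 1, 228, 33, 2), (43, false, 1, 228, 43, 2), (49, false, 1, 228, 49, 2), (52, false, 1, 228, 52, 2), (55, false, 1, 228, 55, 1), (59, false, 1, 228, 59, 2), (62, false, 1, 228, 62, 2), (65, false, 1, 228, 65, 1), (66, false, 1, 228, 66, 2), (69, false, 1, 228, 69, 1), (70, false, 1, 228, 70, 1), (71, false, 1, 228, 71, 2), (74, false, 1, 228, 74, 1), (75, false, 1, 228, 75, 1), (76, false, 1, 228, 76, 1), (77, false, 1, 228, 77, 1), (117, false, 1, 228, 117, 2), (119, false, 2, 227, 119, 2), (123, false, 1, 228, 123, 1), (124, false, 2, 227, 124, 1), (127, false, 1, 228, 127, 1), (128, false, 2, 227, 128, 1), (132, false, 1, 228, 132, 1), (133, false, 2, 227, 133, 1), (138, false, 1, 228, 138, 1), (139, false, 2, 227, 139, 1), (144, false, 1, 228, 144, 1), (145, false, 2, 227, 145, 1), (149, false, 1, 228, 149, 1), (150, false, 2, 227, 150, 1), (153, false, 1, 228, 153, 1), (154, false, 2, 227, 154, 1),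 (156, false, 1, 228, 156, 1), (157, false, 2, 227, 157, 1), (160, false, 1, 228, 160, 1), (161, false, 2, 227, 161, 1), (181, false, 14, 206, 181, 1), (191, false, 14, 206, 191, 1), (197, false, 14, 206, 197, 1), (200, false, 14, 206, 200, 1), (203, false, 14, 206, 203, 1), (207, false, 15, 196, 207, 1), (210, false, 15, 196, 210, 1), (213, false, 15, 196, 213, 1), (214, false, 16, 190, 214, 1), (217, false, 16, 190, 217, 1), (218, false, 17, 187, 218, 1), (219, false, 21, 180, 219, 1), (222, false, 21, 180, 222, 1), (223, false, 22, 177, 223, 1), (224, false, 26, 173, 224, 1), (225, false, 36, 168, 225, 1), (237, false, 78, 122, 237, 1), (238, false, 79, 120, 238, 1)]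
def tRow81 : List (ℕ × Bool × ℕ × ℕ × ℕ × ℕ) := [(10, false, 3, 226, 10, 2), (13, false, 0, 229, 13, 1), (32, false, 0, 229, 32, 1), (42, false, 0, 229, 42, 1), (48, false, 0, 229, 48, 1), (53, false, 0, 229, 53, 1), (54, false, 0, 229, 54, 1), (58, false, 0, 229, 58, 1), (63, false, 0, 229, 63, 1), (64, false, 0, 229, 64, 1), (67, false, 0, 229, 67, 1), (68, false, 0, 229, 68, 1), (70, false, 0, 229, 70, 1), (72, false, 0, 229, 72, 1), (73, false, 0, 229, 73, 1), (75, false, 0, 229, 75, 1), (76, false, 0, 229, 76, 1), (77, false, 0, 229, 77, 1), (115, false, 0, 229, 115, 1), (116, false, 0, 229, 116, 1), (120, false, 3, 226, 120, 2), (122, false, 3, 226, 122, 2), (126, false, 0, 229, 126, 1), (129, false, 3, 226, 129, 1), (131, false, 0, 229, 131, 1), (134, false, 3, 226, 134, 1), (137, false, 0, 229, 137, 1), (140, false, 3, 226, 140, 1), (143, false, 0, 229, 143, 1), (146, false, 3, 226, 146, 1), (148, false, 0, 229, 148, 1), (151, false, 3, 226, 151, 1), (152, false, 0, 229, 152, 1), (155, false, 3, 226, 155, 1),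 (156, false, 0, 229, 156, 1), (157, false, 0, 229, 157, 1), (160, false, 3, 226, 160, 1), (161, false, 3, 226, 161, 1), (180, false, 14, 207, 180, 1), (190, false, 14, 207, 190, 1), (196, false, 14, 207, 196, 1), (201, false, 14, 207, 201, 1), (202, false, 14, 207, 202, 1), (206, false, 15, 197, 206, 1), (211, false, 15, 197, 211, 1), (212, false, 15, 197, 212, 1), (215, false, 16, 191, 215, 1), (216, false, 16, 191, 216, 1), (218, false, 18, 186, 218, 1), (220, false, 21, 181, 220, 1), (221, false, 21, 181, 221, 1), (223, false, 23, 176, 223, 1), (224, false, 27, 172, 224, 1), (225, false, 37, 167, 225, 1), (236, false, 78, 124, 236, 1), (239, true, 81, 120, 238, 0)]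
def tRow82 : List (ℕ × Bool × ℕ × ℕ × ℕ × ℕ) := [(10, false, 3, 227, 10, 2), (12, false, 1, 229, 12, 2), (31, false, 1, 229, 31, 2), (41, false, 1, 229, 41, 2), (47, false, 1, 229, 47, 2), (52, false, 1, 229, 52, 2), (54, false, 1, 229, 54, 1), (57, false, 1, 229, 57, 2), (62, false, 1, 229, 62, 2), (64, false, 1, 229, 64, 1), (66, false, 1, 229, 66, 2), (68, false, 1, 229, 68, 1), (70, false, 1, 229, 70, 1), (71, false, 1, 229, 71, 2), (73, false, 1, 229, 73, 1), (75, false, 1, 229, 75, 1), (76, false, 1, 229, 76, 1), (77, false, 1, 229, 77, 1), (114, false, 1, 229, 114, 2), (116, false, 1, 229, 116, 1), (119, false, 3, 227, 119, 2), (121, false, 3, 227, 121, 2), (126, false, 1, 229, 126, 1), (128, false, 3, 227, 128, 1), (131, false, 1, 229, 131, 1), (133, false, 3, 227, 133, 1), (137, false, 1, 229, 137, 1), (139, false, 3, 227, 139, 1), (143, false, 1, 229, 143, 1), (145, false, 3, 227, 145, 1), (148, false, 1, 229, 148, 1), (150, false, 3, 227, 150, 1), (152, false, 1, 229, 152, 1), (154, false, 3, 227, 154, 1),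 (156, false, 1, 229, 156, 1), (158, false, 1, 229, 158, 1), (159, false, 3, 227, 159, 1), (161, false, 3, 227, 161, 1), (179, false, 14, 208, 179, 1), (189, false, 14, 208, 189, 1), (195, false, 14, 208, 195, 1), (200, false, 14, 208, 200, 1), (202, false, 14, 208, 202, 1), (205, false, 15, 198, 205, 1), (210, false, 15, 198, 210, 1), (212, false, 15, 198, 212, 1), (214, false, 16, 192, 214, 1), (216, false, 16, 192, 216, 1), (218, false, 18, 187, 218, 1), (219, false, 21, 182, 219, 1), (221, false, 21, 182, 221, 1), (223, false, 23, 177, 223, 1), (224, false, 27, 173, 224, 1), (225, false, 37, 168, 225, 1), (236, false, 78, 125, 236, 1), (238, false, 81, 120, 238, 1)]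
def tRow83 : List (ℕ × Bool × ℕ × ℕ × ℕ × ℕ) := [(10, false, 3, 228, 10, 2), (11, false, 2, 229, 11, 2), (30, false, 2, 229, 30, 2), (40, false, 2, 229, 40, 2), (46, false, 2, 229, 46, 2), (52, false, 2, 229, 52, 2), (53, false, 2, 229, 53, 2), (56, false, 2, 229, 56, 2), (62, false, 2, 229, 62, 2), (63, false, 2, 229, 63, 2), (66, false, 2, 229, 66, 2), (67, false, 2, 229, 67, 2), (70, false, 2, 229, 70, 1), (71, false, 2, 229, 71, 2), (72, false, 2, 229, 72, 2), (75, false, 2, 229, 75, 1), (76, false, 2, 229, 76, 1), (77, false, 2, 229, 77, 1), (114, false, 2, 229, 114, 2), (115, false, 2, 229, 115, 2), (117, false, 3, 228, 117, 2), (118, false, 3, 228, 118, 2), (126, false, 2, 229, 126, 1), (127, false, 3, 228, 127, 1), (131, false, 2, 229, 131, 1), (132, false, 3, 228, 132, 1), (137, false, 2, 229, 137, 1), (138, false, 3, 228, 138, 1), (143, false, 2, 229, 143, 1), (144, false, 3, 228, 144, 1), (148, false, 2, 229, 148, 1), (149, false, 3, 228, 149, 1), (152, false, 2, 229, 152, 1), (153, false, 3, 228, 153, 1),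 (157, false, 2, 229, 157, 1), (158, false, 2, 229, 158, 1), (159, false, 3, 228, 159, 1), (160, false, 3, 228, 160, 1), (178, false, 14, 209, 178, 1), (188, false, 14, 209, 188, 1), (194, false, 14, 209, 194, 1), (200, false, 14, 209, 200, 1), (201, false, 14, 209, 201, 1), (204, false, 15, 199, 204, 1), (210, false, 15, 199, 210, 1), (211, false, 15, 199, 211, 1), (214, false, 16, 193, 214, 1), (215, false, 16, 193, 215, 1), (218, false, 19, 187, 218, 1), (219, false, 21, 183, 219, 1), (220, false, 21, 183, 220, 1), (223, false, 24, 177, 223, 1), (224, false, 28, 173, 224, 1), (225, false, 38, 168, 225, 1), (236, false, 79, 125, 236, 1), (237, false, 81, 122, 237, 1)]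
def tRow84 : List (ℕ × Bool × ℕ × ℕ × ℕ × ℕ) := [(9, false, 4, 226, 9, 2), (13, false, 0, 230, 13, 1), (29, false, 0, 230, 29, 1), (39, false, 0, 230, 39, 1), (48, false, 0, 230, 48, 1), (50, false, 0, 230, 50, 1), (51, false, 0, 230, 51, 1), (58, false, 0, 230, 58, 1), (60, false, 0, 230, 60, 1), (61, false, 0, 230, 61, 1), (67, false, 0, 230, 67, 1), (68, false, 0, 230, 68, 1), (69, false, 0, 230, 69, 1), (72, false, 0, 230, 72, 1), (73, false, 0, 230, 73, 1), (74, false, 0, 230, 74, 1), (76, false, 0, 230, 76, 1), (77, false, 0, 230, 77, 1), (111, false, 0, 230, 111, 1), (112, false, 0, 230, 112, 1), (113, false, 0, 230, 113, 1), (120, false, 4, 226, 120, 2), (122, false, 4, 226, 122, 2), (125, false, 4, 226, 125, 2), (130, false, 0, 230, 130, 1), (134, false, 4, 226, 134, 1), (136, false, 0, 230, 136, 1), (140, false, 4, 226, 140, 1), (142, false, 0, 230, 142, 1), (146, false, 4, 226, 146, 1), (147, false, 0, 230, 147, 1), (151, false, 4, 226, 151, 1), (152, false, 0, 230, 152, 1), (153, false, 0, 230, 153, 1), (154,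 false, 0, 230, 154, 1), (158, false, 4, 226, 158, 1), (160, false, 4, 226, 160, 1), (161, false, 4, 226, 161, 1), (177, false, 14, 210, 177, 1), (187, false, 14, 210, 187, 1), (196, false, 14, 210, 196, 1), (198, false, 14, 210, 198, 1), (199, false, 14, 210, 199, 1), (206, false, 15, 200, 206, 1), (208, false, 15, 200, 208, 1), (209, false, 15, 200, 209, 1), (215, false, 17, 191, 215, 1), (216, false, 17, 191, 216, 1), (217, false, 18, 189, 217, 1), (220, false, 22, 181, 220, 1), (221, false, 22, 181, 221, 1), (222, false, 23, 179, 222, 1), (224, false, 30, 172, 224, 1), (225, false, 40, 167, 225, 1), (235, false, 78, 128, 235, 1), (239, true, 84, 120, 238, 0)]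
def tRow85 : List (ℕ × Bool × ℕ × ℕ × ℕ × ℕ) := [(9, false, 4, 227, 9, 2), (12, false, 1, 230, 12, 2), (28, false, 1, 230, 28, 2), (38, false, 1, 230, 38, 2), (47, false, 1, 230, 47, 2), (49, false, 1, 230, 49, 2), (51, false, 1, 230, 51, 1), (57, false, 1, 230, 57, 2), (59, false, 1, 230, 59, 2), (61, false, 1, 230, 61, 1), (66, false, 1, 230, 66, 2), (68, false, 1, 230, 68, 1), (69, false, 1, 230, 69, 1), (71, false, 1, 230, 71, 2), (73, false, 1, 230, 73, 1), (74, false, 1, 230, 74, 1), (76, false, 1, 230, 76, 1), (77, false, 1, 230, 77, 1), (110, false, 1, 230, 110, 2), (112, false, 1, 230, 112, 1), (113, false, 1, 230, 113, 1), (119, false, 4, 227, 119, 2), (121, false, 4, 227, 121, 2), (124, false, 4, 227, 124, 2), (130, false, 1, 230, 130, 1), (133, false, 4, 227, 133, 1), (136, false, 1, 230, 136, 1), (139, false, 4, 227, 139, 1), (142, false, 1, 230, 142, 1), (145, false, 4, 227, 145, 1), (147, false, 1, 230, 147, 1), (150, false, 4, 227, 150, 1), (152, false, 1, 230, 152, 1), (153, false, 1, 230, 153, 1), (155,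 false, 1, 230, 155, 1), (157, false, 4, 227, 157, 1), (159, false, 4, 227, 159, 1), (161, false, 4, 227, 161, 1), (176, false, 14, 211, 176, 1), (186, false, 14, 211, 186, 1), (195, false, 14, 211, 195, 1), (197, false, 14, 211, 197, 1), (199, false, 14, 211, 199, 1), (205, false, 15, 201, 205, 1), (207, false, 15, 201, 207, 1), (209, false, 15, 201, 209, 1), (214, false, 17, 192, 214, 1), (216, false, 17, 192, 216, 1), (217, false, 18, 190, 217, 1), (219, false, 22, 182, 219, 1), (221, false, 22, 182, 221, 1), (222, false, 23, 180, 222, 1), (224, false, 30, 173, 224, 1), (225, false, 40, 168, 225, 1), (235, false, 78, 129, 235, 1), (238, false, 84, 120, 238, 1)]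
def tRow86 : List (ℕ × Bool × ℕ × ℕ × ℕ × ℕ) := [(9, false, 4, 228, 9, 2), (11, false, 2, 230, 11, 2), (27, false, 2, 230, 27, 2), (37, false, 2, 230, 37, 2), (46, false, 2, 230, 46, 2), (49, false, 2, 230, 49, 2), (50, false, 2, 230, 50, 2), (56, false, 2, 230, 56, 2), (59, false, 2, 230, 59, 2), (60, false, 2, 230, 60, 2), (66, false, 2, 230, 66, 2), (67, false, 2, 230, 67, 2), (69, false, 2, 230, 69, 1), (71, false, 2, 230, 71, 2), (72, false, 2, 230, 72, 2), (74, false, 2, 230, 74, 1), (76, false, 2, 230, 76, 1), (77, false, 2, 230, 77, 1), (110, false, 2, 230, 110, 2), (111, false, 2, 230, 111, 2), (113, false, 2, 230, 113, 1), (117, false, 4, 228, 117, 2), (118, false, 4, 228, 118, 2), (123, false, 4, 228, 123, 2), (130, false, 2, 230, 130, 1), (132, false, 4, 228, 132, 1), (136, false, 2, 230, 136, 1), (138, false, 4, 228, 138, 1), (142, false, 2, 230, 142, 1), (144, false, 4, 228, 144, 1), (147, false, 2, 230, 147, 1), (149, false, 4, 228, 149, 1), (152, false, 2, 230, 152, 1), (154, false, 2, 230, 154, 1), (155,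 false, 2, 230, 155, 1), (156, false, 4, 228, 156, 1), (159, false, 4, 228, 159, 1), (160, false, 4, 228, 160, 1), (175, false, 14, 212, 175, 1), (185, false, 14, 212, 185, 1), (194, false, 14, 212, 194, 1), (197, false, 14, 212, 197, 1), (198, false, 14, 212, 198, 1), (204, false, 15, 202, 204, 1), (207, false, 15, 202, 207, 1), (208, false, 15, 202, 208, 1), (214, false, 17, 193, 214, 1), (215, false, 17, 193, 215, 1), (217, false, 19, 190, 217, 1), (219, false, 22, 183, 219, 1), (220, false, 22, 183, 220, 1), (222, false, 24, 180, 222, 1), (224, false, 31, 173, 224, 1), (225, false, 41, 168, 225, 1), (235, false, 79, 129, 235, 1), (237, false, 84, 122, 237, 1)]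
def tRow87 : List (ℕ × Bool × ℕ × ℕ × ℕ × ℕ) := [(9, false, 4, 229, 9, 2), (10, false, 3, 230, 10, 2), (26, false, 3, 230, 26, 2), (36, false, 3, 230, 36, 2), (46, false, 3, 230, 46, 2), (47, false, 3, 230, 47, 2), (48, false, 3, 230, 48, 2), (56, false, 3, 230, 56, 2), (57, false, 3, 230, 57, 2), (58, false, 3, 230, 58, 2), (66, false, 3, 230, 66, 2), (67, false, 3, 230, 67, 2), (68, false, 3, 230, 68, 2), (71, false, 3, 230, 71, 2), (72, false, 3, 230, 72, 2), (73, false, 3, 230, 73, 2), (76, false, 3, 230, 76, 1), (77, false, 3, 230, 77, 1), (110, false, 3, 230, 110, 2), (111, false, 3, 230, 111, 2), (112, false, 3, 230, 112, 2), (114, false, 4, 229, 114, 2), (115, false, 4, 229, 115, 2), (116, false, 4, 229, 116, 2), (130, false, 3, 230, 130, 1), (131, false, 4, 229, 131, 1), (136, false, 3, 230, 136, 1), (137, false, 4, 229, 137, 1), (142, false, 3, 230, 142, 1), (143, false, 4, 229, 143, 1), (147, false, 3, 230, 147, 1), (148, false, 4, 229, 148, 1), (153, false, 3, 230, 153, 1), (154, false, 3, 230, 154, 1), (155,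 false, 3, 230, 155, 1), (156, false, 4, 229, 156, 1), (157, false, 4, 229, 157, 1), (158, false, 4, 229, 158, 1), (174, false, 14, 213, 174, 1), (184, false, 14, 213, 184, 1), (194, false, 14, 213, 194, 1), (195, false, 14, 213, 195, 1), (196, false, 14, 213, 196, 1), (204, false, 15, 203, 204, 1), (205, false, 15, 203, 205, 1), (206, false, 15, 203, 206, 1), (214, false, 18, 193, 214, 1), (215, false, 18, 193, 215, 1), (216, false, 19, 192, 216, 1), (219, false, 23, 183, 219, 1), (220, false, 23, 183, 220, 1), (221, false, 24, 182, 221, 1), (224, false, 33, 173, 224, 1), (225, false, 43, 168, 225, 1), (235, false, 81, 129, 235, 1), (236, false, 84, 125, 236, 1)]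
def tRow88 : List (ℕ × Bool × ℕ × ℕ × ℕ × ℕ) := [(8, false, 5, 226, 8, 2), (13, false, 0, 231, 13, 1), (25, false, 0, 231, 25, 1), (39, false, 0, 231, 39, 1), (42, false, 0, 231, 42, 1), (44, false, 0, 231, 44, 1), (45, false, 0, 231, 45, 1), (58, false, 0, 231, 58, 1), (60, false, 0, 231, 60, 1), (61, false, 0, 231, 61, 1), (63, false, 0, 231, 63, 1), (64, false, 0, 231, 64, 1), (65, false, 0, 231, 65, 1), (72, false, 0, 231, 72, 1), (73, false, 0, 231, 73, 1), (74, false, 0, 231, 74, 1), (75, false, 0, 231, 75, 1), (77, false, 0, 231, 77, 1), (106, false, 0, 231, 106, 1), (107, false, 0, 231, 107, 1), (108, false, 0, 231, 108, 1), (109, false, 0, 231, 109, 1), (120, false, 5, 226, 120, 2), (122, false, 5, 226, 122, 2), (125, false, 5, 226, 125, 2), (129, false, 5, 226, 129, 2), (135, false, 0, 231, 135, 1), (140, false, 5, 226, 140, 1), (141, false, 0, 231, 141, 1), (146, false, 5, 226, 146, 1), (147, false, 0, 231, 147, 1), (148, false, 0, 231, 148, 1), (149, false, 0, 231, 149, 1), (150, false, 0, 231, 150, 1), (155,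 false, 5, 226, 155, 1), (158, false, 5, 226, 158, 1), (160, false, 5, 226, 160, 1), (161, false, 5, 226, 161, 1), (173, false, 14, 214, 173, 1), (187, false, 14, 214, 187, 1), (190, false, 14, 214, 190, 1), (192, false, 14, 214, 192, 1), (193, false, 14, 214, 193, 1), (206, false, 16, 200, 206, 1), (208, false, 16, 200, 208, 1), (209, false, 16, 200, 209, 1), (211, false, 17, 197, 211, 1), (212, false, 17, 197, 212, 1), (213, false, 18, 195, 213, 1), (220, false, 26, 181, 220, 1), (221, false, 26, 181, 221, 1), (222, false, 27, 179, 222, 1), (223, false, 30, 176, 223, 1), (225, false, 46, 167, 225, 1), (234, false, 78, 133, 234, 1), (239, true, 88, 120, 238, 0)]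
def tRow89 : List (ℕ × Bool × ℕ × ℕ × ℕ × ℕ) := [(8, false, 5, 227, 8, 2), (12, false, 1, 231, 12, 2), (24, false, 1, 231, 24, 2), (38, false, 1, 231, 38, 2), (41, false, 1, 231, 41, 2), (43, false, 1, 231, 43, 2), (45, false, 1, 231, 45, 1), (57, false, 1, 231, 57, 2), (59, false, 1, 231, 59, 2), (61, false, 1, 231, 61, 1), (62, false, 1, 231, 62, 2), (64, false, 1, 231, 64, 1), (65, false, 1, 231, 65, 1), (71, false, 1, 231, 71, 2), (73, false, 1, 231, 73, 1), (74, false, 1, 231, 74, 1), (75, false, 1, 231, 75, 1), (77, false, 1, 231, 77, 1), (105, false, 1, 231, 105, 2), (107, false, 1, 231, 107, 1), (108, false, 1, 231, 108, 1), (109, false, 1, 231, 109, 1), (119, false, 5, 227, 119, 2), (121, false, 5, 227, 121, 2), (124, false, 5, 227, 124, 2), (128, false, 5, 227, 128, 2), (135, false, 1, 231, 135, 1), (139, false, 5, 227, 139, 1), (141, false, 1, 231, 141, 1), (145, false, 5, 227, 145, 1), (147, false, 1, 231, 147, 1), (148, false, 1, 231, 148, 1), (149, false, 1, 231, 149, 1), (151, false, 1, 231, 151, 1), (154,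 false, 5, 227, 154, 1), (157, false, 5, 227, 157, 1), (159, false, 5, 227, 159, 1), (161, false, 5, 227, 161, 1), (172, false, 14, 215, 172, 1), (186, false, 14, 215, 186, 1), (189, false, 14, 215, 189, 1), (191, false, 14, 215, 191, 1), (193, false, 14, 215, 193, 1), (205, false, 16, 201, 205, 1), (207, false, 16, 201, 207, 1), (209, false, 16, 201, 209, 1), (210, false, 17, 198, 210, 1), (212, false, 17, 198, 212, 1), (213, false, 18, 196, 213, 1), (219, false, 26, 182, 219, 1), (221, false, 26, 182, 221, 1), (222, false, 27, 180, 222, 1), (223, false, 30, 177, 223, 1), (225, false, 46, 168, 225, 1), (234, false, 78, 134, 234, 1), (238, false, 88, 120, 238, 1)]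
def tRow90 : List (ℕ × Bool × ℕ × ℕ × ℕ × ℕ) := [(8, false, 5, 228, 8, 2), (11, false, 2, 231, 11, 2), (23, false, 2, 231, 23, 2), (37, false, 2, 231, 37, 2), (40, false, 2, 231, 40, 2), (43, false, 2, 231, 43, 2), (44, false, 2, 231, 44, 2), (56, false, 2, 231, 56, 2), (59, false, 2, 231, 59, 2), (60, false, 2, 231, 60, 2), (62, false, 2, 231, 62, 2), (63, false, 2, 231, 63, 2), (65, false, 2, 231, 65, 1), (71, false, 2, 231, 71, 2), (72, false, 2, 231, 72, 2), (74, false, 2, 231, 74, 1), (75, false, 2, 231, 75, 1), (77, false, 2, 231, 77, 1), (105, false, 2, 231, 105, 2), (106, false, 2, 231, 106, 2), (108, false, 2, 231, 108, 1), (109, false, 2, 231, 109, 1), (117, false, 5, 228, 117, 2), (118, false, 5, 228, 118, 2), (123, false, 5, 228, 123, 2), (127, false, 5, 228, 127, 2), (135, false, 2, 231, 135, 1), (138, false, 5, 228, 138, 1), (141, false, 2, 231, 141, 1), (144, false, 5, 228, 144, 1), (147, false, 2, 231, 147, 1), (148, false, 2, 231, 148, 1), (150, false, 2, 231, 150, 1), (151, false, 2, 231, 151, 1), (153,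 false, 5, 228, 153, 1), (156, false, 5, 228, 156, 1), (159, false, 5, 228, 159, 1), (160, false, 5, 228, 160, 1), (171, false, 14, 216, 171, 1), (185, false, 14, 216, 185, 1), (188, false, 14, 216, 188, 1), (191, false, 14, 216, 191, 1), (192, false, 14, 216, 192, 1), (204, false, 16, 202, 204, 1), (207, false, 16, 202, 207, 1), (208, false, 16, 202, 208, 1), (210, false, 17, 199, 210, 1), (211, false, 17, 199, 211, 1), (213, false, 19, 196, 213, 1), (219, false, 26, 183, 219, 1), (220, false, 26, 183, 220, 1), (222, false, 28, 180, 222, 1), (223, false, 31, 177, 223, 1), (225, false, 47, 168, 225, 1), (234, false, 79, 134, 234, 1), (237, false, 88, 122, 237, 1)]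
def tRow91 : List (ℕ × Bool × ℕ × ℕ × ℕ × ℕ) := [(8, false, 5, 229, 8, 2), (10, false, 3, 231, 10, 2), (22, false, 3, 231, 22, 2), (36, false, 3, 231, 36, 2), (40, false, 3, 231, 40, 2), (41, false, 3, 231, 41, 2), (42, false, 3, 231, 42, 2), (56, false, 3, 231, 56, 2), (57, false, 3, 231, 57, 2), (58, false, 3, 231, 58, 2), (62, false, 3, 231, 62, 2), (63, false, 3, 231, 63, 2), (64, false, 3, 231, 64, 2), (71, false, 3, 231, 71, 2), (72, false, 3, 231, 72, 2), (73, false, 3, 231, 73, 2), (75, false, 3, 231, 75, 1), (77, false, 3, 231, 77, 1), (105, false, 3, 231, 105, 2), (106, false, 3, 231, 106, 2), (107, false, 3, 231, 107, 2), (109, false, 3, 231, 109, 1), (114, false, 5, 229, 114, 2), (115, false, 5, 229, 115, 2), (116, false, 5, 229, 116, 2), (126, false, 5, 229, 126, 2), (135, false, 3, 231, 135, 1), (137, false, 5, 229, 137, 1), (141, false, 3, 231, 141, 1), (143, false, 5, 229, 143, 1), (147, false, 3, 231, 147, 1), (149, false, 3, 231, 149, 1), (150, false, 3, 231, 150, 1), (151, false, 3, 231, 151, 1), (152,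 false, 5, 229, 152, 1), (156, false, 5, 229, 156, 1), (157, false, 5, 229, 157, 1), (158, false, 5, 229, 158, 1), (170, false, 14, 217, 170, 1), (184, false, 14, 217, 184, 1), (188, false, 14, 217, 188, 1), (189, false, 14, 217, 189, 1), (190, false, 14, 217, 190, 1), (204, false, 16, 203, 204, 1), (205, false, 16, 203, 205, 1), (206, false, 16, 203, 206, 1), (210, false, 18, 199, 210, 1), (211, false, 18, 199, 211, 1), (212, false, 19, 198, 212, 1), (219, false, 27, 183, 219, 1), (220, false, 27, 183, 220, 1), (221, false, 28, 182, 221, 1), (223, false, 33, 177, 223, 1), (225, false, 49, 168, 225, 1), (234, false, 81, 134, 234, 1), (236, false, 88, 125, 236, 1)]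
def tRow92 : List (ℕ × Bool × ℕ × ℕ × ℕ × ℕ) := [(8, false, 5, 230, 8, 2), (9, false, 4, 231, 9, 2), (21, false, 4, 231, 21, 2), (36, false, 4, 231, 36, 2), (37, false, 4, 231, 37, 2), (38, false, 4, 231, 38, 2), (39, false, 4, 231, 39, 2), (56, false, 4, 231, 56, 2), (57, false, 4, 231, 57, 2), (58, false, 4, 231, 58, 2), (59, false, 4, 231, 59, 2), (60, false, 4, 231, 60, 2), (61, false, 4, 231, 61, 2), (71, false, 4, 231, 71, 2), (72, false, 4, 231, 72, 2), (73, false, 4, 231, 73, 2), (74, false, 4, 231, 74, 2), (77, false, 4, 231, 77, 1), (105, false, 4, 231, 105, 2), (106, false, 4, 231, 106, 2), (107, false, 4, 231, 107, 2), (108, false, 4, 231, 108, 2), (110, false, 5, 230, 110, 2), (111, false, 5, 230, 111, 2), (112, false, 5, 230, 112, 2), (113, false, 5, 230, 113, 2), (135, false, 4, 231, 135, 1), (136, false, 5, 230, 136, 1), (141, false, 4, 231, 141, 1), (142, false, 5, 230, 142, 1), (148, false, 4, 231, 148, 1), (149, false, 4, 231, 149, 1), (150, false, 4, 231, 150, 1), (151, false, 4, 231, 151, 1), (152,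 false, 5, 230, 152, 1), (153, false, 5, 230, 153, 1), (154, false, 5, 230, 154, 1), (155, false, 5, 230, 155, 1), (169, false, 14, 218, 169, 1), (184, false, 14, 218, 184, 1), (185, false, 14, 218, 185, 1), (186, false, 14, 218, 186, 1), (187, false, 14, 218, 187, 1), (204, false, 17, 203, 204, 1), (205, false, 17, 203, 205, 1), (206, false, 17, 203, 206, 1), (207, false, 18, 202, 207, 1), (208, false, 18, 202, 208, 1), (209, false, 19, 201, 209, 1), (219, false, 30, 183, 219, 1), (220, false, 30, 183, 220, 1), (221, false, 31, 182, 221, 1), (222, false, 33, 180, 222, 1), (225, false, 52, 168, 225, 1), (234, false, 84, 134, 234, 1), (235, false, 88, 129, 235, 1)]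
def tRow93 : List (ℕ × Bool × ℕ × ℕ × ℕ × ℕ) := [(7, false, 6, 226, 7, 2), (13, false, 0, 232, 13, 1), (20, false, 0, 232, 20, 1), (39, false, 0, 232, 39, 1), (42, false, 0, 232, 42, 1), (44, false, 0, 232, 44, 1), (45, false, 0, 232, 45, 1), (48, false, 0, 232, 48, 1), (50, false, 0, 232, 50, 1), (51, false, 0, 232, 51, 1), (53, false, 0, 232, 53, 1), (54, false, 0, 232, 54, 1), (55, false, 0, 232, 55, 1), (72, false, 0, 232, 72, 1), (73, false, 0, 232, 73, 1), (74, false, 0, 232, 74, 1), (75, false, 0, 232, 75, 1), (76, false, 0, 232, 76, 1), (100, false, 0, 232, 100, 1), (101, false, 0, 232, 101, 1), (102, false, 0, 232, 102, 1), (103, false, 0, 232, 103, 1), (104, false, 0, 232, 104, 1), (120, false, 6, 226, 120, 2), (122, false, 6, 226, 122, 2), (125, false, 6, 226, 125, 2), (129, false, 6, 226, 129, 2), (134, false, 6, 226, 134, 2), (141, false, 0, 232, 141, 1), (142, false, 0, 232, 142, 1), (143, false, 0, 232, 143, 1), (144, false, 0, 232, 144, 1), (145, false, 0, 232, 145, 1), (151, false, 6, 226, 151, 1), (155,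 false, 6, 226, 155, 1), (158, false, 6, 226, 158, 1), (160, false, 6, 226, 160, 1), (161, false, 6, 226, 161, 1), (173, false, 14, 219, 173, 1), (177, false, 14, 219, 177, 1), (180, false, 14, 219, 180, 1), (182, false, 14, 219, 182, 1), (183, false, 14, 219, 183, 1), (206, false, 21, 200, 206, 1), (208, false, 21, 200, 208, 1), (209, false, 21, 200, 209, 1), (211, false, 22, 197, 211, 1), (212, false, 22, 197, 212, 1), (213, false, 23, 195, 213, 1), (215, false, 26, 191, 215, 1), (216, false, 26, 191, 216, 1), (217, false, 27, 189, 217, 1), (218, false, 30, 186, 218, 1), (225, false, 56, 167, 225, 1), (233, false, 78, 139, 233, 1), (239, true, 93, 120, 238, 0)]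
def tRow94 : List (ℕ × Bool × ℕ × ℕ × ℕ × ℕ) := [(7, false, 6, 227, 7, 2), (12, false, 1, 232, 12, 2), (19, false, 1, 232, 19, 2), (38, false, 1, 232, 38, 2), (41, false, 1, 232, 41, 2), (43, false, 1, 232, 43, 2), (45, false, 1, 232, 45, 1), (47, false, 1, 232, 47, 2), (49, false, 1, 232, 49, 2), (51, false, 1, 232, 51, 1), (52, false, 1, 232, 52, 2), (54, false, 1, 232, 54, 1), (55, false, 1, 232, 55, 1), (71, false, 1, 232, 71, 2), (73, false, 1, 232, 73, 1), (74, false, 1, 232, 74, 1), (75, false, 1, 232, 75, 1), (76, false, 1, 232, 76, 1), (99, false, 1, 232, 99, 2), (101, false, 1, 232, 101, 1), (102, false, 1, 232, 102, 1), (103, false, 1, 232, 103, 1), (104, false, 1, 232, 104, 1), (119, false, 6, 227, 119, 2), (121, false, 6, 227, 121, 2), (124, false, 6, 227, 124, 2), (128, false, 6, 227, 128, 2), (133, false, 6, 227, 133, 2), (141, false, 1, 232, 141, 1), (142, false, 1, 232, 142, 1), (143, false, 1, 232, 143, 1), (144, false, 1, 232, 144, 1), (146, false, 1, 232, 146, 1), (150, false, 6, 227, 150, 1), (154,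 false, 6, 227, 154, 1), (157, false, 6, 227, 157, 1), (159, false, 6, 227, 159, 1), (161, false, 6, 227, 161, 1), (172, false, 14, 220, 172, 1), (176, false, 14, 220, 176, 1), (179, false, 14, 220, 179, 1), (181, false, 14, 220, 181, 1), (183, false, 14, 220, 183, 1), (205, false, 21, 201, 205, 1), (207, false, 21, 201, 207, 1), (209, false, 21, 201, 209, 1), (210, false, 22, 198, 210, 1), (212, false, 22, 198, 212, 1), (213, false, 23, 196, 213, 1), (214, false, 26, 192, 214, 1), (216, false, 26, 192, 216, 1), (217, false, 27, 190, 217, 1), (218, false, 30, 187, 218, 1), (225, false, 56, 168, 225, 1), (233, false, 78, 140, 233, 1), (238, false, 93, 120, 238, 1)]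
def tRow95 : List (ℕ × Bool × ℕ × ℕ × ℕ × ℕ) := [(7, false, 6, 228, 7, 2), (11, false, 2, 232, 11, 2), (18, false, 2, 232, 18, 2), (37, false, 2, 232, 37, 2), (40, false, 2, 232, 40, 2), (43, false, 2, 232, 43, 2), (44, false, 2, 232, 44, 2), (46, false, 2, 232, 46, 2), (49, false, 2, 232, 49, 2), (50, false, 2, 232, 50, 2), (52, false, 2, 232, 52, 2), (53, false, 2, 232, 53, 2), (55, false, 2, 232, 55, 1), (71, false, 2, 232, 71, 2), (72, false, 2, 232, 72, 2), (74, false, 2, 232, 74, 1), (75, false, 2, 232, 75, 1), (76, false, 2, 232, 76, 1), (99, false, 2, 232, 99, 2), (100, false, 2, 232, 100, 2), (102, false, 2, 232, 102, 1), (103, false, 2, 232, 103, 1), (104, false, 2, 232, 104, 1), (117, false, 6, 228, 117, 2), (118, false, 6, 228, 118, 2), (123, false, 6, 228, 123, 2), (127, false, 6, 228, 127, 2), (132, false, 6, 228, 132, 2), (141, false, 2, 232, 141, 1), (142, false, 2, 232, 142, 1), (143, false, 2, 232, 143, 1), (145, false, 2, 232, 145, 1), (146, false, 2, 232, 146, 1), (149, false, 6, 228, 149, 1), (153,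 false, 6, 228, 153, 1), (156, false, 6, 228, 156, 1), (159, false, 6, 228, 159, 1), (160, false, 6, 228, 160, 1), (171, false, 14, 221, 171, 1), (175, false, 14, 221, 175, 1), (178, false, 14, 221, 178, 1), (181, false, 14, 221, 181, 1), (182, false, 14, 221, 182, 1), (204, false, 21, 202, 204, 1), (207, false, 21, 202, 207, 1), (208, false, 21, 202, 208, 1), (210, false, 22, 199, 210, 1), (211, false, 22, 199, 211, 1), (213, false, 24, 196, 213, 1), (214, false, 26, 193, 214, 1), (215, false, 26, 193, 215, 1), (217, false, 28, 190, 217, 1), (218, false, 31, 187, 218, 1), (225, false, 57, 168, 225, 1), (233, false, 79, 140, 233, 1), (237, false, 93, 122, 237, 1)]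
def tRow96 : List (ℕ × Bool × ℕ × ℕ × ℕ × ℕ) := [(7, false, 6, 229, 7, 2), (10, false, 3, 232, 10, 2), (17, false, 3, 232, 17, 2), (36, false, 3, 232, 36, 2), (40, false, 3, 232, 40, 2), (41, false, 3, 232, 41, 2), (42, false, 3, 232, 42, 2), (46, false, 3, 232, 46, 2), (47, false, 3, 232, 47, 2), (48, false, 3, 232, 48, 2), (52, false, 3, 232, 52, 2), (53, false, 3, 232, 53, 2), (54, false, 3, 232, 54, 2), (71, false, 3, 232, 71, 2), (72, false, 3, 232, 72, 2), (73, false, 3, 232, 73, 2), (75, false, 3, 232, 75, 1), (76, false, 3, 232, 76, 1), (99, false, 3, 232, 99, 2), (100, false, 3, 232, 100, 2), (101, false, 3, 232, 101, 2), (103, false, 3, 232, 103, 1), (104, false, 3, 232, 104, 1), (114, false, 6, 229, 114, 2), (115, false, 6, 229, 115, 2), (116, false, 6, 229, 116, 2), (126, false, 6, 229, 126, 2), (131, false, 6, 229, 131, 2), (141, false, 3, 232, 141, 1), (142, false, 3, 232, 142, 1), (144, false, 3, 232, 144, 1), (145, false, 3, 232, 145, 1), (146, false, 3, 232, 146, 1), (148, false, 6, 229, 148, 1), (152,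 false, 6, 229, 152, 1), (156, false, 6, 229, 156, 1), (157, false, 6, 229, 157, 1), (158, false, 6, 229, 158, 1), (170, false, 14, 222, 170, 1), (174, false, 14, 222, 174, 1), (178, false, 14, 222, 178, 1), (179, false, 14, 222, 179, 1), (180, false, 14, 222, 180, 1), (204, false, 21, 203, 204, 1), (205, false, 21, 203, 205, 1), (206, false, 21, 203, 206, 1), (210, false, 23, 199, 210, 1), (211, false, 23, 199, 211, 1), (212, false, 24, 198, 212, 1), (214, false, 27, 193, 214, 1), (215, false, 27, 193, 215, 1), (216, false, 28, 192, 216, 1), (218, false, 33, 187, 218, 1), (225, false, 59, 168, 225, 1), (233, false, 81, 140, 233, 1), (236, false, 93, 125, 236, 1)]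
def tRow97 : List (ℕ × Bool × ℕ × ℕ × ℕ × ℕ) := [(7, false, 6, 230, 7, 2), (9, false, 4, 232, 9, 2), (16, false, 4, 232, 16, 2), (36, false, 4, 232, 36, 2), (37, false, 4, 232, 37, 2), (38, false, 4, 232, 38, 2), (39, false, 4, 232, 39, 2), (46, false, 4, 232, 46, 2), (47, false, 4, 232, 47, 2), (48, false, 4, 232, 48, 2), (49, false, 4, 232, 49, 2), (50, false, 4, 232, 50, 2), (51, false, 4, 232, 51, 2), (71, false, 4, 232, 71, 2), (72, false, 4, 232, 72, 2), (73, false, 4, 232, 73, 2), (74, false, 4, 232, 74, 2), (76, false, 4, 232, 76, 1), (99, false, 4, 232, 99, 2), (100, false, 4, 232, 100, 2), (101, false, 4, 232, 101, 2), (102, false, 4, 232, 102, 2), (104, false, 4, 232, 104, 1), (110, false, 6, 230, 110, 2), (111, false, 6, 230, 111, 2), (112, false, 6, 230, 112, 2), (113, false, 6, 230, 113, 2), (130, false, 6, 230, 130, 2), (141, false, 4, 232, 141, 1), (143, false, 4, 232, 143, 1), (144, false, 4, 232, 144, 1), (145, false, 4, 232, 145, 1), (146, false, 4, 232, 146, 1), (147, false, 6, 230, 147, 1), (152,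 false, 6, 230, 152, 1), (153, false, 6, 230, 153, 1), (154, false, 6, 230, 154, 1), (155, false, 6, 230, 155, 1), (169, false, 14, 223, 169, 1), (174, false, 14, 223, 174, 1), (175, false, 14, 223, 175, 1), (176, false, 14, 223, 176, 1), (177, false, 14, 223, 177, 1), (204, false, 22, 203, 204, 1), (205, false, 22, 203, 205, 1), (206, false, 22, 203, 206, 1), (207, false, 23, 202, 207, 1), (208, false, 23, 202, 208, 1), (209, false, 24, 201, 209, 1), (214, false, 30, 193, 214, 1), (215, false, 30, 193, 215, 1), (216, false, 31, 192, 216, 1), (217, false, 33, 190, 217, 1), (225, false, 62, 168, 225, 1), (233, false, 84, 140, 233, 1), (235, false, 93, 129, 235, 1)]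
def tRow98 : List (ℕ × Bool × ℕ × ℕ × ℕ × ℕ) := [(7, false, 6, 231, 7, 2), (8, false, 5, 232, 8, 2), (15, false, 5, 232, 15, 2), (36, false, 5, 232, 36, 2), (37, false, 5, 232, 37, 2), (38, false, 5, 232, 38, 2), (39, false, 5, 232, 39, 2), (40, false, 5, 232, 40, 2), (41, false, 5, 232, 41, 2), (42, false, 5, 232, 42, 2), (43, false, 5, 232, 43, 2), (44, false, 5, 232, 44, 2), (45, false, 5, 232, 45, 2), (71, false, 5, 232, 71, 2), (72, false, 5, 232, 72, 2), (73, false, 5, 232, 73, 2), (74, false, 5, 232, 74, 2), (75, false, 5, 232, 75, 2), (99, false, 5, 232, 99, 2), (100, false, 5, 232, 100, 2), (101, false, 5, 232, 101, 2), (102, false, 5, 232, 102, 2), (103, false, 5, 232, 103, 2), (105, false, 6, 231, 105, 2), (106, false, 6, 231, 106, 2), (107, false, 6, 231, 107, 2), (108, false, 6, 231, 108, 2), (109, false, 6, 231, 109, 2), (142, false, 5, 232, 142, 1), (143, false, 5, 232, 143, 1), (144, false, 5, 232, 144, 1), (145, false, 5, 232, 145, 1), (146, false, 5, 232, 146, 1), (147, false, 6, 231, 147, 1), (148,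 false, 6, 231, 148, 1), (149, false, 6, 231, 149, 1), (150, false, 6, 231, 150, 1), (151, false, 6, 231, 151, 1), (169, false, 14, 224, 169, 1), (170, false, 14, 224, 170, 1), (171, false, 14, 224, 171, 1), (172, false, 14, 224, 172, 1), (173, false, 14, 224, 173, 1), (204, false, 26, 203, 204, 1), (205, false, 26, 203, 205, 1), (206, false, 26, 203, 206, 1), (207, false, 27, 202, 207, 1), (208, false, 27, 202, 208, 1), (209, false, 28, 201, 209, 1), (210, false, 30, 199, 210, 1), (211, false, 30, 199, 211, 1), (212, false, 31, 198, 212, 1), (213, false, 33, 196, 213, 1), (225, false, 66, 168, 225, 1), (233, false, 88, 140, 233, 1), (234, false, 93, 134, 234, 1)]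
def tRow99 : List (ℕ × Bool × ℕ × ℕ × ℕ × ℕ) := [(6, false, 7, 226, 6, 2), (13, false, 0, 233, 13, 1), (25, false, 0, 233, 25, 1), (29, false, 0, 233, 29, 1), (32, false, 0, 233, 32, 1), (34, false, 0, 233, 34, 1), (35, false, 0, 233, 35, 1), (58, false, 0, 233, 58, 1), (60, false, 0, 233, 60, 1), (61, false, 0, 233, 61, 1), (63, false, 0, 233, 63, 1), (64, false, 0, 233, 64, 1), (65, false, 0, 233, 65, 1), (67, false, 0, 233, 67, 1), (68, false, 0, 233, 68, 1), (69, false, 0, 233, 69, 1), (70, false, 0, 233, 70, 1), (77, false, 0, 233, 77, 1), (94, false, 0, 233, 94, 1), (95, false, 0, 233, 95, 1), (96, false, 0, 233, 96, 1), (97, false, 0, 233, 97, 1), (98, false, 0, 233, 98, 1), (120, false, 7, 226, 120, 2), (122, false, 7, 226, 122, 2), (125, false, 7, 226, 125, 2), (129, false, 7, 226, 129, 2), (134, false, 7, 226, 134, 2), (135, false, 0, 233, 135, 1), (136, false, 0, 233, 136, 1), (137, false, 0, 233, 137, 1), (138, false, 0, 233, 138, 1), (139, false, 0, 233, 139, 1), (151, false, 7, 226, 151, 1), (155, false,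 7, 226, 155, 1), (158, false, 7, 226, 158, 1), (160, false, 7, 226, 160, 1), (161, false, 7, 226, 161, 1), (168, false, 15, 214, 168, 2), (187, false, 15, 214, 187, 1), (190, false, 15, 214, 190, 1), (192, false, 15, 214, 192, 1), (193, false, 15, 214, 193, 1), (196, false, 16, 210, 196, 1), (198, false, 16, 210, 198, 1), (199, false, 16, 210, 199, 1), (201, false, 17, 207, 201, 1), (202, false, 17, 207, 202, 1), (203, false, 18, 205, 203, 1), (220, false, 36, 181, 220, 1), (221, false, 36, 181, 221, 1), (222, false, 37, 179, 222, 1), (223, false, 40, 176, 223, 1), (224, false, 46, 172, 224, 1), (232, false, 78, 145, 232, 1), (239, true, 99, 120, 238, 0)]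
def tRow100 : List (ℕ × Bool × ℕ × ℕ × ℕ × ℕ) := [(6, false, 7, 227, 6, 2), (12, false, 1, 233, 12, 2), (24, false, 1, 233, 24, 2), (28, false, 1, 233, 28, 2), (31, false, 1, 233, 31, 2), (33, false, 1, 233, 33, 2), (35, false, 1, 233, 35, 1), (57, false, 1, 233, 57, 2), (59, false, 1, 233, 59, 2), (61, false, 1, 233, 61, 1), (62, false, 1, 233, 62, 2), (64, false, 1, 233, 64, 1), (65, false, 1, 233, 65, 1), (66, false, 1, 233, 66, 2), (68, false, 1, 233, 68, 1), (69, false, 1, 233, 69, 1), (70, false, 1, 233, 70, 1), (77, false, 1, 233, 77, 1), (93, false, 1, 233, 93, 2), (95, false, 1, 233, 95, 1), (96, false, 1, 233, 96, 1), (97, false, 1, 233, 97, 1), (98, false, 1, 233, 98, 1), (119, false, 7, 227, 119, 2), (121, false, 7, 227, 121, 2), (124, false, 7, 227, 124, 2), (128, false, 7, 227, 128, 2), (133, false, 7, 227, 133, 2), (135, false, 1, 233, 135, 1), (136, false, 1, 233, 136, 1), (137, false, 1, 233, 137, 1), (138, false, 1, 233, 138, 1), (140, false, 1, 233, 140, 1), (150, false, 7, 227, 150, 1), (154, false,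 7, 227, 154, 1), (157, false, 7, 227, 157, 1), (159, false, 7, 227, 159, 1), (161, false, 7, 227, 161, 1), (167, false, 15, 215, 167, 2), (186, false, 15, 215, 186, 1), (189, false, 15, 215, 189, 1), (191, false, 15, 215, 191, 1), (193, false, 15, 215, 193, 1), (195, false, 16, 211, 195, 1), (197, false, 16, 211, 197, 1), (199, false, 16, 211, 199, 1), (200, false, 17, 208, 200, 1), (202, false, 17, 208, 202, 1), (203, false, 18, 206, 203, 1), (219, false, 36, 182, 219, 1), (221, false, 36, 182, 221, 1), (222, false, 37, 180, 222, 1), (223, false, 40, 177, 223, 1), (224, false, 46, 173, 224, 1), (232, false, 78, 146, 232, 1), (238, false, 99, 120, 238, 1)]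
def tRow101 : List (ℕ × Bool × ℕ × ℕ × ℕ × ℕ) := [(6, false, 7, 228, 6, 2), (11, false, 2, 233, 11, 2), (23, false, 2, 233, 23, 2), (27, false, 2, 233, 27, 2), (30, false, 2, 233, 30, 2), (33, false, 2, 233, 33, 2), (34, false, 2, 233, 34, 2), (56, false, 2, 233, 56, 2), (59, false, 2, 233, 59, 2), (60, false, 2, 233, 60, 2), (62, false, 2, 233, 62, 2), (63, false, 2, 233, 63, 2), (65, false, 2, 233, 65, 1), (66, false, 2, 233, 66, 2), (67, false, 2, 233, 67, 2), (69, false, 2, 233, 69, 1), (70, false, 2, 233, 70, 1), (77, false, 2, 233, 77, 1), (93, false, 2, 233, 93, 2), (94, false, 2, 233, 94, 2), (96, false, 2, 233, 96, 1), (97, false, 2, 233, 97, 1), (98, false, 2, 233, 98, 1), (117, false, 7, 228, 117, 2), (118, false, 7, 228, 118, 2), (123, false, 7, 228, 123, 2), (127, false, 7, 228, 127, 2), (132, false, 7, 228, 132, 2), (135, false, 2, 233, 135, 1), (136, false, 2, 233, 136, 1), (137, false, 2, 233, 137, 1), (139, false, 2, 233, 139, 1), (140, false, 2, 233, 140, 1), (149, false, 7, 228, 149, 1), (153, false,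 7, 228, 153, 1), (156, false, 7, 228, 156, 1), (159, false, 7, 228, 159, 1), (160, false, 7, 228, 160, 1), (166, false, 15, 216, 166, 2), (185, false, 15, 216, 185, 1), (188, false, 15, 216, 188, 1), (191, false, 15, 216, 191, 1), (192, false, 15, 216, 192, 1), (194, false, 16, 212, 194, 1), (197, false, 16, 212, 197, 1), (198, false, 16, 212, 198, 1), (200, false, 17, 209, 200, 1), (201, false, 17, 209, 201, 1), (203, false, 19, 206, 203, 1), (219, false, 36, 183, 219, 1), (220, false, 36, 183, 220, 1), (222, false, 38, 180, 222, 1), (223, false, 41, 177, 223, 1), (224, false, 47, 173, 224, 1), (232, false, 79, 146, 232, 1), (237, false, 99, 122, 237, 1)]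
def tRow102 : List (ℕ × Bool × ℕ × ℕ × ℕ × ℕ) := [(6, false, 7, 229, 6, 2), (10, false, 3, 233, 10, 2), (22, false, 3, 233, 22, 2), (26, false, 3, 233, 26, 2), (30, false, 3, 233, 30, 2), (31, false, 3, 233, 31, 2), (32, false, 3, 233, 32, 2), (56, false, 3, 233, 56, 2), (57, false, 3, 233, 57, 2), (58, false, 3, 233, 58, 2), (62, false, 3, 233, 62, 2), (63, false, 3, 233, 63, 2), (64, false, 3, 233, 64, 2), (66, false, 3, 233, 66, 2), (67, false, 3, 233, 67, 2), (68, false, 3, 233, 68, 2), (70, false, 3, 233, 70, 1), (77, false, 3, 233, 77, 1), (93, false, 3, 233, 93, 2), (94, false, 3, 233, 94, 2), (95, false, 3, 233, 95, 2), (97, false, 3, 233, 97, 1), (98, false, 3, 233, 98, 1), (114, false, 7, 229, 114, 2), (115, false, 7, 229, 115, 2), (116, false, 7, 229, 116, 2), (126, false, 7, 229, 126, 2), (131, false, 7, 229, 131, 2), (135, false, 3, 233, 135, 1), (136, false, 3, 233, 136, 1), (138, false, 3, 233, 138, 1), (139, false, 3, 233, 139, 1), (140, false, 3, 233, 140, 1), (148, false, 7, 229, 148, 1), (152, false,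 7, 229, 152, 1), (156, false, 7, 229, 156, 1), (157, false, 7, 229, 157, 1), (158, false, 7, 229, 158, 1), (165, false, 15, 217, 165, 2), (184, false, 15, 217, 184, 1), (188, false, 15, 217, 188, 1), (189, false, 15, 217, 189, 1), (190, false, 15, 217, 190, 1), (194, false, 16, 213, 194, 1), (195, false, 16, 213, 195, 1), (196, false, 16, 213, 196, 1), (200, false, 18, 209, 200, 1), (201, false, 18, 209, 201, 1), (202, false, 19, 208, 202, 1), (219, false, 37, 183, 219, 1), (220, false, 37, 183, 220, 1), (221, false, 38, 182, 221, 1), (223, false, 43, 177, 223, 1), (224, false, 49, 173, 224, 1), (232, false, 81, 146, 232, 1), (236, false, 99, 125, 236, 1)]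
def tRow103 : List (ℕ × Bool × ℕ × ℕ × ℕ × ℕ) := [(6, false, 7, 230, 6, 2), (9, false, 4, 233, 9, 2), (21, false, 4, 233, 21, 2), (26, false, 4, 233, 26, 2), (27, false, 4, 233, 27, 2), (28, false, 4, 233, 28, 2), (29, false, 4, 233, 29, 2), (56, false, 4, 233, 56, 2), (57, false, 4, 233, 57, 2), (58, false, 4, 233, 58, 2), (59, false, 4, 233, 59, 2), (60, false, 4, 233, 60, 2), (61, false, 4, 233, 61, 2), (66, false, 4, 233, 66, 2), (67, false, 4, 233, 67, 2), (68, false, 4, 233, 68, 2), (69, false, 4, 233, 69, 2), (77, false, 4, 233, 77, 1), (93, false, 4, 233, 93, 2), (94, false, 4, 233, 94, 2), (95, false, 4, 233, 95, 2), (96, false, 4, 233, 96, 2), (98, false, 4, 233, 98, 1), (110, false, 7, 230, 110, 2), (111, false, 7, 230, 111, 2), (112, false, 7, 230, 112, 2), (113, false, 7, 230, 113, 2), (130, false, 7, 230, 130, 2), (135, false, 4, 233, 135, 1), (137, false, 4, 233, 137, 1), (138, false, 4, 233, 138, 1), (139, false, 4, 233, 139, 1), (140, false, 4, 233, 140, 1), (147, false, 7, 230, 147, 1), (152, false,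 7, 230, 152, 1), (153, false, 7, 230, 153, 1), (154, false, 7, 230, 154, 1), (155, false, 7, 230, 155, 1), (164, false, 15, 218, 164, 2), (184, false, 15, 218, 184, 1), (185, false, 15, 218, 185, 1), (186, false, 15, 218, 186, 1), (187, false, 15, 218, 187, 1), (194, false, 17, 213, 194, 1), (195, false, 17, 213, 195, 1), (196, false, 17, 213, 196, 1), (197, false, 18, 212, 197, 1), (198, false, 18, 212, 198, 1), (199, false, 19, 211, 199, 1), (219, false, 40, 183, 219, 1), (220, false, 40, 183, 220, 1), (221, false, 41, 182, 221, 1), (222, false, 43, 180, 222, 1), (224, false, 52, 173, 224, 1), (232, false, 84, 146, 232, 1), (235, false, 99, 129, 235, 1)]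
def tRow104 : List (ℕ × Bool × ℕ × ℕ × ℕ × ℕ) := [(6, false, 7, 231, 6, 2), (8, false, 5, 233, 8, 2), (21, false, 5, 233, 21, 2), (22, false, 5, 233, 22, 2), (23, false, 5, 233, 23, 2), (24, false, 5, 233, 24, 2), (25, false, 5, 233, 25, 2), (56, false, 5, 233, 56, 2), (57, false, 5, 233, 57, 2), (58, false, 5, 233, 58, 2), (59, false, 5, 233, 59, 2), (60, false, 5, 233, 60, 2), (61, false, 5, 233, 61, 2), (62, false, 5, 233, 62, 2), (63, false, 5, 233, 63, 2), (64, false, 5, 233, 64, 2), (65, false, 5, 233, 65, 2), (77, false, 5, 233, 77, 1), (93, false, 5, 233, 93, 2), (94, false, 5, 233, 94, 2), (95, false, 5, 233, 95, 2), (96, false, 5, 233, 96, 2), (97, false, 5, 233, 97, 2), (105, false, 7, 231, 105, 2), (106, false, 7, 231, 106, 2), (107, false, 7, 231, 107, 2), (108, false, 7, 231, 108, 2), (109, false, 7, 231, 109, 2), (136, false, 5, 233, 136, 1), (137, false, 5, 233, 137, 1), (138, false, 5, 233, 138, 1), (139, false, 5, 233, 139, 1), (140, false, 5, 233, 140, 1), (147, false, 7, 231, 147, 1), (148, false,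 7, 231, 148, 1), (149, false, 7, 231, 149, 1), (150, false, 7, 231, 150, 1), (151, false, 7, 231, 151, 1), (163, false, 16, 218, 163, 2), (184, false, 16, 218, 184, 1), (185, false, 16, 218, 185, 1), (186, false, 16, 218, 186, 1), (187, false, 16, 218, 187, 1), (188, false, 17, 217, 188, 1), (189, false, 17, 217, 189, 1), (190, false, 17, 217, 190, 1), (191, false, 18, 216, 191, 1), (192, false, 18, 216, 192, 1), (193, false, 19, 215, 193, 1), (219, false, 46, 183, 219, 1), (220, false, 46, 183, 220, 1), (221, false, 47, 182, 221, 1), (222, false, 49, 180, 222, 1), (223, false, 52, 177, 223, 1), (232, false, 88, 146, 232, 1), (234, false, 99, 134, 234, 1)]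
def tRow105 : List (ℕ × Bool × ℕ × ℕ × ℕ × ℕ) := [(5, false, 8, 226, 5, 2), (13, false, 0, 234, 13, 1), (20, false, 0, 234, 20, 1), (29, false, 0, 234, 29, 1), (32, false, 0, 234, 32, 1), (34, false, 0, 234, 34, 1), (35, false, 0, 234, 35, 1), (48, false, 0, 234, 48, 1), (50, false, 0, 234, 50, 1), (51, false, 0, 234, 51, 1), (53, false, 0, 234, 53, 1), (54, false, 0, 234, 54, 1), (55, false, 0, 234, 55, 1), (67, false, 0, 234, 67, 1), (68, false, 0, 234, 68, 1), (69, false, 0, 234, 69, 1), (70, false, 0, 234, 70, 1), (76, false, 0, 234, 76, 1), (89, false, 0, 234, 89, 1), (90, false, 0, 234, 90, 1), (91, false, 0, 234, 91, 1), (92, false, 0, 234, 92, 1), (98, false, 0, 234, 98, 1), (104, false, 0, 234, 104, 1), (120, false, 8, 226, 120, 2), (122, false, 8, 226, 122, 2), (125, false, 8, 226, 125, 2), (129, false, 8, 226, 129, 2), (130, false, 0, 234, 130, 1), (131, false, 0, 234, 131, 1), (132, false, 0, 234, 132, 1), (133, false, 0, 234, 133, 1), (140, false, 8, 226, 140, 2), (146, false, 8, 226, 146, 2), (155, false,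 8, 226, 155, 1), (158, false, 8, 226, 158, 1), (160, false, 8, 226, 160, 1), (161, false, 8, 226, 161, 1), (168, false, 15, 219, 168, 2), (177, false, 15, 219, 177, 1), (180, false, 15, 219, 180, 1), (182, false, 15, 219, 182, 1), (183, false, 15, 219, 183, 1), (196, false, 21, 210, 196, 1), (198, false, 21, 210, 198, 1), (199, false, 21, 210, 199, 1), (201, false, 22, 207, 201, 1), (202, false, 22, 207, 202, 1), (203, false, 23, 205, 203, 1), (215, false, 36, 191, 215, 1), (216, false, 36, 191, 216, 1), (217, false, 37, 189, 217, 1), (218, false, 40, 186, 218, 1), (224, false, 56, 172, 224, 1), (231, false, 78, 150, 231, 1), (239, true, 105, 120, 238, 0)]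
def tRow106 : List (ℕ × Bool × ℕ × ℕ × ℕ × ℕ) := [(5, false, 8, 227, 5, 2), (12, false, 1, 234, 12, 2), (19, false, 1, 234, 19, 2), (28, false, 1, 234, 28, 2), (31, false, 1, 234, 31, 2), (33, false, 1, 234, 33, 2), (35, false, 1, 234, 35, 1), (47, false, 1, 234, 47, 2), (49, false, 1, 234, 49, 2), (51, false, 1, 234, 51, 1), (52, false, 1, 234, 52, 2), (54, false, 1, 234, 54, 1), (55, false, 1, 234, 55, 1), (66, false, 1, 234, 66, 2), (68, false, 1, 234, 68, 1), (69, false, 1, 234, 69, 1), (70, false, 1, 234, 70, 1), (76, false, 1, 234, 76, 1), (88, false, 1, 234, 88, 2), (90, false, 1, 234, 90, 1), (91, false, 1, 234, 91, 1), (92, false, 1, 234, 92, 1), (98, false, 1, 234, 98, 1), (104, false, 1, 234, 104, 1), (119, false, 8, 227, 119, 2), (121, false, 8, 227, 121, 2), (124, false, 8, 227, 124, 2), (128, false, 8, 227, 128, 2), (130, false, 1, 234, 130, 1), (131, false, 1, 234, 131, 1), (132, false, 1, 234, 132, 1), (134, false, 1, 234, 134, 1), (139, false, 8, 227, 139, 2), (145, false, 8, 227, 145, 2), (154, false,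 8, 227, 154, 1), (157, false, 8, 227, 157, 1), (159, false, 8, 227, 159, 1), (161, false, 8, 227, 161, 1), (167, false, 15, 220, 167, 2), (176, false, 15, 220, 176, 1), (179, false, 15, 220, 179, 1), (181, false, 15, 220, 181, 1), (183, false, 15, 220, 183, 1), (195, false, 21, 211, 195, 1), (197, false, 21, 211, 197, 1), (199, false, 21, 211, 199, 1), (200, false, 22, 208, 200, 1), (202, false, 22, 208, 202, 1), (203, false, 23, 206, 203, 1), (214, false, 36, 192, 214, 1), (216, false, 36, 192, 216, 1), (217, false, 37, 190, 217, 1), (218, false, 40, 187, 218, 1), (224, false, 56, 173, 224, 1), (231, false, 78, 151, 231, 1), (238, false, 105, 120, 238, 1)]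
def tRow107 : List (ℕ × Bool × ℕ × ℕ × ℕ × ℕ) := [(5, false, 8, 228, 5, 2), (11, false, 2, 234, 11, 2), (18, false, 2, 234, 18, 2), (27, false, 2, 234, 27, 2), (30, false, 2, 234, 30, 2), (33, false, 2, 234, 33, 2), (34, false, 2, 234, 34, 2), (46, false, 2, 234, 46, 2), (49, false, 2, 234, 49, 2), (50, false, 2, 234, 50, 2), (52, false, 2, 234, 52, 2), (53, false, 2, 234, 53, 2), (55, false, 2, 234, 55, 1), (66, false, 2, 234, 66, 2), (67, false, 2, 234, 67, 2), (69, false, 2, 234, 69, 1), (70, false, 2, 234, 70, 1), (76, false, 2, 234, 76, 1), (88, false, 2, 234, 88, 2), (89, false, 2, 234, 89, 2), (91, false, 2, 234, 91, 1), (92, false, 2, 234, 92, 1), (98, false, 2, 234, 98, 1), (104, false, 2, 234, 104, 1), (117, false, 8, 228, 117, 2), (118, false, 8, 228, 118, 2), (123, false, 8, 228, 123, 2), (127, false, 8, 228, 127, 2), (130, false, 2, 234, 130, 1), (131, false, 2, 234, 131, 1), (133, false, 2, 234, 133, 1), (134, false, 2, 234, 134, 1), (138, false, 8, 228, 138, 2), (144, false, 8, 228, 144, 2), (153, false,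 8, 228, 153, 1), (156, false, 8, 228, 156, 1), (159, false, 8, 228, 159, 1), (160, false, 8, 228, 160, 1), (166, false, 15, 221, 166, 2), (175, false, 15, 221, 175, 1), (178, false, 15, 221, 178, 1), (181, false, 15, 221, 181, 1), (182, false, 15, 221, 182, 1), (194, false, 21, 212, 194, 1), (197, false, 21, 212, 197, 1), (198, false, 21, 212, 198, 1), (200, false, 22, 209, 200, 1), (201, false, 22, 209, 201, 1), (203, false, 24, 206, 203, 1), (214, false, 36, 193, 214, 1), (215, false, 36, 193, 215, 1), (217, false, 38, 190, 217, 1), (218, false, 41, 187, 218, 1), (224, false, 57, 173, 224, 1), (231, false, 79, 151, 231, 1), (237, false, 105, 122, 237, 1)]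
def tRow108 : List (ℕ × Bool × ℕ × ℕ × ℕ × ℕ) := [(5, false, 8, 229, 5, 2), (10, false, 3, 234, 10, 2), (17, false, 3, 234, 17, 2), (26, false, 3, 234, 26, 2), (30, false, 3, 234, 30, 2), (31, false, 3, 234, 31, 2), (32, false, 3, 234, 32, 2), (46, false, 3, 234, 46, 2), (47, false, 3, 234, 47, 2), (48, false, 3, 234, 48, 2), (52, false, 3, 234, 52, 2), (53, false, 3, 234, 53, 2), (54, false, 3, 234, 54, 2), (66, false, 3, 234, 66, 2), (67, false, 3, 234, 67, 2), (68, false, 3, 234, 68, 2), (70, false, 3, 234, 70, 1), (76, false, 3, 234, 76, 1), (88, false, 3, 234, 88, 2), (89, false, 3, 234, 89, 2), (90, false, 3, 234, 90, 2), (92, false, 3, 234, 92, 1), (98, false, 3, 234, 98, 1), (104, false, 3, 234, 104, 1), (114, false, 8, 229, 114, 2), (115, false, 8, 229, 115, 2), (116, false, 8, 229, 116, 2), (126, false, 8, 229, 126, 2), (130, false, 3, 234, 130, 1), (132, false, 3, 234, 132, 1), (133, false, 3, 234, 133, 1), (134, false, 3, 234, 134, 1), (137, false, 8, 229, 137, 2), (143, false, 8, 229, 143, 2), (152, false,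 8, 229, 152, 1), (156, false, 8, 229, 156, 1), (157, false, 8, 229, 157, 1), (158, false, 8, 229, 158, 1), (165, false, 15, 222, 165, 2), (174, false, 15, 222, 174, 1), (178, false, 15, 222, 178, 1), (179, false, 15, 222, 179, 1), (180, false, 15, 222, 180, 1), (194, false, 21, 213, 194, 1), (195, false, 21, 213, 195, 1), (196, false, 21, 213, 196, 1), (200, false, 23, 209, 200, 1), (201, false, 23, 209, 201, 1), (202, false, 24, 208, 202, 1), (214, false, 37, 193, 214, 1), (215, false, 37, 193, 215, 1), (216, false, 38, 192, 216, 1), (218, false, 43, 187, 218, 1), (224, false, 59, 173, 224, 1), (231, false, 81, 151, 231, 1), (236, false, 105, 125, 236, 1)]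
def tRow109 : List (ℕ × Bool × ℕ × ℕ × ℕ × ℕ) := [(5, false, 8, 230, 5, 2), (9, false, 4, 234, 9, 2), (16, false, 4, 234, 16, 2), (26, false, 4, 234, 26, 2), (27, false, 4, 234, 27, 2), (28, false, 4, 234, 28, 2), (29, false, 4, 234, 29, 2), (46, false, 4, 234, 46, 2), (47, false, 4, 234, 47, 2), (48, false, 4, 234, 48, 2), (49, false, 4, 234, 49, 2), (50, false, 4, 234, 50, 2), (51, false, 4, 234, 51, 2), (66, false, 4, 234, 66, 2), (67, false, 4, 234, 67, 2), (68, false, 4, 234, 68, 2), (69, false, 4, 234, 69, 2), (76, false, 4, 234, 76, 1), (88, false, 4, 234, 88, 2), (89, false, 4, 234, 89, 2), (90, false, 4, 234, 90, 2), (91, false, 4, 234, 91, 2), (98, false, 4, 234, 98, 1), (104, false, 4, 234, 104, 1), (110, false, 8, 230, 110, 2), (111, false, 8, 230, 111, 2), (112, false, 8, 230, 112, 2), (113, false, 8, 230, 113, 2), (131, false, 4, 234, 131, 1), (132, false, 4, 234, 132, 1), (133, false, 4, 234, 133, 1), (134, false, 4, 234, 134, 1), (136, false, 8, 230, 136, 2), (142, false, 8, 230, 142, 2), (152, false,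 8, 230, 152, 1), (153, false, 8, 230, 153, 1), (154, false, 8, 230, 154, 1), (155, false, 8, 230, 155, 1), (164, false, 15, 223, 164, 2), (174, false, 15, 223, 174, 1), (175, false, 15, 223, 175, 1), (176, false, 15, 223, 176, 1), (177, false, 15, 223, 177, 1), (194, false, 22, 213, 194, 1), (195, false, 22, 213, 195, 1), (196, false, 22, 213, 196, 1), (197, false, 23, 212, 197, 1), (198, false, 23, 212, 198, 1), (199, false, 24, 211, 199, 1), (214, false, 40, 193, 214, 1), (215, false, 40, 193, 215, 1), (216, false, 41, 192, 216, 1), (217, false, 43, 190, 217, 1), (224, false, 62, 173, 224, 1), (231, false, 84, 151, 231, 1), (235, false, 105, 129, 235, 1)]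
def tRow110 : List (ℕ × Bool × ℕ × ℕ × ℕ × ℕ) := [(4, false, 9, 226, 4, 2), (13, false, 0, 235, 13, 1), (20, false, 0, 235, 20, 1), (25, false, 0, 235, 25, 1), (32, false, 0, 235, 32, 1), (34, false, 0, 235, 34, 1), (35, false, 0, 235, 35, 1), (42, false, 0, 235, 42, 1), (44, false, 0, 235, 44, 1), (45, false, 0, 235, 45, 1), (53, false, 0, 235, 53, 1), (54, false, 0, 235, 54, 1), (55, false, 0, 235, 55, 1), (63, false, 0, 235, 63, 1), (64, false, 0, 235, 64, 1), (65, false, 0, 235, 65, 1), (70, false, 0, 235, 70, 1), (75, false, 0, 235, 75, 1), (85, false, 0, 235, 85, 1), (86, false, 0, 235, 86, 1), (87, false, 0, 235, 87, 1), (92, false, 0, 235, 92, 1), (97, false, 0, 235, 97, 1), (103, false, 0, 235, 103, 1), (109, false, 0, 235, 109, 1), (120, false, 9, 226, 120, 2), (122, false, 9, 226, 122, 2), (125, false, 9, 226, 125, 2), (126, false, 0, 235, 126, 1), (127, false, 0, 235, 127, 1), (128, false, 0, 235, 128, 1), (134, false, 9, 226, 134, 2), (140, false, 9, 226, 140, 2), (146, false, 9, 226, 146, 2), (151, false,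 9, 226, 151, 2), (158, false, 9, 226, 158, 1), (160, false, 9, 226, 160, 1), (161, false, 9, 226, 161, 1), (168, false, 16, 219, 168, 2), (173, false, 16, 219, 173, 2), (180, false, 16, 219, 180, 1), (182, false, 16, 219, 182, 1), (183, false, 16, 219, 183, 1), (190, false, 21, 214, 190, 1), (192, false, 21, 214, 192, 1), (193, false, 21, 214, 193, 1), (201, false, 26, 207, 201, 1), (202, false, 26, 207, 202, 1), (203, false, 27, 205, 203, 1), (211, false, 36, 197, 211, 1), (212, false, 36, 197, 212, 1), (213, false, 37, 195, 213, 1), (218, false, 46, 186, 218, 1), (223, false, 56, 176, 223, 1), (230, false, 78, 154, 230, 1), (239, true, 110, 120, 238, 0)]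
def tRow111 : List (ℕ × Bool × ℕ × ℕ × ℕ × ℕ) := [(4, false, 9, 227, 4, 2), (12, false, 1, 235, 12, 2), (19, false, 1, 235, 19, 2), (24, false, 1, 235, 24, 2), (31, false, 1, 235, 31, 2), (33, false, 1, 235, 33, 2), (35, false, 1, 235, 35, 1), (41, false, 1, 235, 41, 2), (43, false, 1, 235, 43, 2), (45, false, 1, 235, 45, 1), (52, false, 1, 235, 52, 2), (54, false, 1, 235, 54, 1), (55, false, 1, 235, 55, 1), (62, false, 1, 235, 62, 2), (64, false, 1, 235, 64, 1), (65, false, 1, 235, 65, 1), (70, false, 1, 235, 70, 1), (75, false, 1, 235, 75, 1), (84, false, 1, 235, 84, 2), (86, false, 1, 235, 86, 1), (87, false, 1, 235, 87, 1), (92, false, 1, 235, 92, 1), (97, false, 1, 235, 97, 1), (103, false, 1, 235, 103, 1), (109, false, 1, 235, 109, 1), (119, false, 9, 227, 119, 2), (121, false, 9, 227, 121, 2), (124, false, 9, 227, 124, 2), (126, false, 1, 235, 126, 1), (127, false, 1, 235, 127, 1), (129, false, 1, 235, 129, 1), (133, false, 9, 227, 133, 2), (139, false, 9, 227, 139, 2), (145, false, 9, 227, 145, 2), (150, false,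 9, 227, 150, 2), (157, false, 9, 227, 157, 1), (159, false, 9, 227, 159, 1), (161, false, 9, 227, 161, 1), (167, false, 16, 220, 167, 2), (172, false, 16, 220, 172, 2), (179, false, 16, 220, 179, 1), (181, false, 16, 220, 181, 1), (183, false, 16, 220, 183, 1), (189, false, 21, 215, 189, 1), (191, false, 21, 215, 191, 1), (193, false, 21, 215, 193, 1), (200, false, 26, 208, 200, 1), (202, false, 26, 208, 202, 1), (203, false, 27, 206, 203, 1), (210, false, 36, 198, 210, 1), (212, false, 36, 198, 212, 1), (213, false, 37, 196, 213, 1), (218, false, 46, 187, 218, 1), (223, false, 56, 177, 223, 1), (230, false, 78, 155, 230, 1), (238, false, 110, 120, 238, 1)]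
def tRow112 : List (ℕ × Bool × ℕ × ℕ × ℕ × ℕ) := [(4, false, 9, 228, 4, 2), (11, false, 2, 235, 11, 2), (18, false, 2, 235, 18, 2), (23, false, 2, 235, 23, 2), (30, false, 2, 235, 30, 2), (33, false, 2, 235, 33, 2), (34, false, 2, 235, 34, 2), (40, false, 2, 235, 40, 2), (43, false, 2, 235, 43, 2), (44, false, 2, 235, 44, 2), (52, false, 2, 235, 52, 2), (53, false, 2, 235, 53, 2), (55, false, 2, 235, 55, 1), (62, false, 2, 235, 62, 2), (63, false, 2, 235, 63, 2), (65, false, 2, 235, 65, 1), (70, false, 2, 235, 70, 1), (75, false, 2, 235, 75, 1), (84, false, 2, 235, 84, 2), (85, false, 2, 235, 85, 2), (87, false, 2, 235, 87, 1), (92, false, 2, 235, 92, 1), (97, false, 2, 235, 97, 1), (103, false, 2, 235, 103, 1), (109, false, 2, 235, 109, 1), (117, false, 9, 228, 117, 2), (118, false, 9, 228, 118, 2), (123, false, 9, 228, 123, 2), (126, false, 2, 235, 126, 1), (128, false, 2, 235, 128, 1), (129, false, 2, 235, 129, 1), (132, false, 9, 228, 132, 2), (138, false, 9, 228, 138, 2), (144, false, 9, 228, 144, 2), (149, false,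 9, 228, 149, 2), (156, false, 9, 228, 156, 1), (159, false, 9, 228, 159, 1), (160, false, 9, 228, 160, 1), (166, false, 16, 221, 166, 2), (171, false, 16, 221, 171, 2), (178, false, 16, 221, 178, 1), (181, false, 16, 221, 181, 1), (182, false, 16, 221, 182, 1), (188, false, 21, 216, 188, 1), (191, false, 21, 216, 191, 1), (192, false, 21, 216, 192, 1), (200, false, 26, 209, 200, 1), (201, false, 26, 209, 201, 1), (203, false, 28, 206, 203, 1), (210, false, 36, 199, 210, 1), (211, false, 36, 199, 211, 1), (213, false, 38, 196, 213, 1), (218, false, 47, 187, 218, 1), (223, false, 57, 177, 223, 1), (230, false, 79, 155, 230, 1), (237, false, 110, 122, 237, 1)]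
def tRow113 : List (ℕ × Bool × ℕ × ℕ × ℕ × ℕ) := [(4, false, 9, 229, 4, 2), (10, false, 3, 235, 10, 2), (17, false, 3, 235, 17, 2), (22, false, 3, 235, 22, 2), (30, false, 3, 235, 30, 2), (31, false, 3, 235, 31, 2), (32, false, 3, 235, 32, 2), (40, false, 3, 235, 40, 2), (41, false, 3, 235, 41, 2), (42, false, 3, 235, 42, 2), (52, false, 3, 235, 52, 2), (53, false, 3, 235, 53, 2), (54, false, 3, 235, 54, 2), (62, false, 3, 235, 62, 2), (63, false, 3, 235, 63, 2), (64, false, 3, 235, 64, 2), (70, false, 3, 235, 70, 1), (75, false, 3, 235, 75, 1), (84, false, 3, 235, 84, 2), (85, false, 3, 235, 85, 2), (86, false, 3, 235, 86, 2), (92, false, 3, 235, 92, 1), (97, false, 3, 235, 97, 1), (103, false, 3, 235, 103, 1), (109, false, 3, 235, 109, 1), (114, false, 9, 229, 114, 2), (115, false, 9, 229, 115, 2), (116, false, 9, 229, 116, 2), (127, false, 3, 235, 127, 1), (128, false, 3, 235, 128, 1), (129, false, 3, 235, 129, 1), (131, false, 9, 229, 131, 2), (137, false, 9, 229, 137, 2), (143, false, 9, 229, 143, 2), (148, false,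 9, 229, 148, 2), (156, false, 9, 229, 156, 1), (157, false, 9, 229, 157, 1), (158, false, 9, 229, 158, 1), (165, false, 16, 222, 165, 2), (170, false, 16, 222, 170, 2), (178, false, 16, 222, 178, 1), (179, false, 16, 222, 179, 1), (180, false, 16, 222, 180, 1), (188, false, 21, 217, 188, 1), (189, false, 21, 217, 189, 1), (190, false, 21, 217, 190, 1), (200, false, 27, 209, 200, 1), (201, false, 27, 209, 201, 1), (202, false, 28, 208, 202, 1), (210, false, 37, 199, 210, 1), (211, false, 37, 199, 211, 1), (212, false, 38, 198, 212, 1), (218, false, 49, 187, 218, 1), (223, false, 59, 177, 223, 1), (230, false, 81, 155, 230, 1), (236, false, 110, 125, 236, 1)]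
def tRow114 : List (ℕ × Bool × ℕ × ℕ × ℕ × ℕ) := [(3, false, 10, 226, 3, 2), (13, false, 0, 236, 13, 1), (20, false, 0, 236, 20, 1), (25, false, 0, 236, 25, 1), (29, false, 0, 236, 29, 1), (34, false, 0, 236, 34, 1), (35, false, 0, 236, 35, 1), (39, false, 0, 236, 39, 1), (44, false, 0, 236, 44, 1), (45, false, 0, 236, 45, 1), (50, false, 0, 236, 50, 1), (51, false, 0, 236, 51, 1), (55, false, 0, 236, 55, 1), (60, false, 0, 236, 60, 1), (61, false, 0, 236, 61, 1), (65, false, 0, 236, 65, 1), (69, false, 0, 236, 69, 1), (74, false, 0, 236, 74, 1), (82, false, 0, 236, 82, 1), (83, false, 0, 236, 83, 1), (87, false, 0, 236, 87, 1), (91, false, 0, 236, 91, 1), (96, false, 0, 236, 96, 1), (102, false, 0, 236, 102, 1), (108, false, 0, 236, 108, 1), (113, false, 0, 236, 113, 1), (120, false, 10, 226, 120, 2), (122, false, 10, 226, 122, 2), (123, false, 0, 236, 123, 1), (124, false, 0, 236, 124, 1), (129, false, 10, 226, 129, 2), (134, false, 10, 226, 134, 2), (140, false, 10, 226, 140, 2), (146, false, 10, 226, 146, 2), (151,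 false, 10, 226, 151, 2), (155, false, 10, 226, 155, 2), (160, false, 10, 226, 160, 1), (161, false, 10, 226, 161, 1), (168, false, 17, 219, 168, 2), (173, false, 17, 219, 173, 2), (177, false, 17, 219, 177, 2), (182, false, 17, 219, 182, 1), (183, false, 17, 219, 183, 1), (187, false, 22, 214, 187, 2), (192, false, 22, 214, 192, 1), (193, false, 22, 214, 193, 1), (198, false, 26, 210, 198, 1), (199, false, 26, 210, 199, 1), (203, false, 30, 205, 203, 1), (208, false, 36, 200, 208, 1), (209, false, 36, 200, 209, 1), (213, false, 40, 195, 213, 1), (217, false, 46, 189, 217, 1), (222, false, 56, 179, 222, 1), (229, false, 78, 157, 229, 1), (239, true, 114, 120, 238, 0)]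
def tRow115 : List (ℕ × Bool × ℕ × ℕ × ℕ × ℕ) := [(3, false, 10, 227, 3, 2), (12, false, 1, 236, 12, 2), (19, false, 1, 236, 19, 2), (24, false, 1, 236, 24, 2), (28, false, 1, 236, 28, 2), (33, false, 1, 236, 33, 2), (35, false, 1, 236, 35, 1), (38, false, 1, 236, 38, 2), (43, false, 1, 236, 43, 2), (45, false, 1, 236, 45, 1), (49, false, 1, 236, 49, 2), (51, false, 1, 236, 51, 1), (55, false, 1, 236, 55, 1), (59, false, 1, 236, 59, 2), (61, false, 1, 236, 61, 1), (65, false, 1, 236, 65, 1), (69, false, 1, 236, 69, 1), (74, false, 1, 236, 74, 1), (81, false, 1, 236, 81, 2), (83, false, 1, 236, 83, 1), (87, false, 1, 236, 87, 1), (91, false, 1, 236, 91, 1), (96, false, 1, 236, 96, 1), (102, false, 1, 236, 102, 1), (108, false, 1, 236, 108, 1), (113, false, 1, 236, 113, 1), (119, false, 10, 227, 119, 2), (121, false, 10, 227, 121, 2), (123, false, 1, 236, 123, 1), (125, false, 1, 236, 125, 1), (128, false, 10, 227, 128, 2), (133, false, 10, 227, 133, 2), (139, false, 10, 227, 139, 2), (145, false, 10, 227, 145, 2), (150,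 false, 10, 227, 150, 2), (154, false, 10, 227, 154, 2), (159, false, 10, 227, 159, 1), (161, false, 10, 227, 161, 1), (167, false, 17, 220, 167, 2), (172, false, 17, 220, 172, 2), (176, false, 17, 220, 176, 2), (181, false, 17, 220, 181, 1), (183, false, 17, 220, 183, 1), (186, false, 22, 215, 186, 2), (191, false, 22, 215, 191, 1), (193, false, 22, 215, 193, 1), (197, false, 26, 211, 197, 1), (199, false, 26, 211, 199, 1), (203, false, 30, 206, 203, 1), (207, false, 36, 201, 207, 1), (209, false, 36, 201, 209, 1), (213, false, 40, 196, 213, 1), (217, false, 46, 190, 217, 1), (222, false, 56, 180, 222, 1), (229, false, 78, 158, 229, 1), (238, false, 114, 120, 238, 1)]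
def tRow116 : List (ℕ × Bool × ℕ × ℕ × ℕ × ℕ) := [(3, false, 10, 228, 3, 2), (11, false, 2, 236, 11, 2), (18, false, 2, 236, 18, 2), (23, false, 2, 236, 23, 2), (27, false, 2, 236, 27, 2), (33, false, 2, 236, 33, 2), (34, false, 2, 236, 34, 2), (37, false, 2, 236, 37, 2), (43, false, 2, 236, 43, 2), (44, false, 2, 236, 44, 2), (49, false, 2, 236, 49, 2), (50, false, 2, 236, 50, 2), (55, false, 2, 236, 55, 1), (59, false, 2, 236, 59, 2), (60, false, 2, 236, 60, 2), (65, false, 2, 236, 65, 1), (69, false, 2, 236, 69, 1), (74, false, 2, 236, 74, 1), (81, false, 2, 236, 81, 2), (82, false, 2, 236, 82, 2), (87, false, 2, 236, 87, 1), (91, false, 2, 236, 91, 1), (96, false, 2, 236, 96, 1), (102, false, 2, 236, 102, 1), (108, false, 2, 236, 108, 1), (113, false, 2, 236, 113, 1), (117, false, 10, 228, 117, 2), (118, false, 10, 228, 118, 2), (124, false, 2, 236, 124, 1), (125, false, 2, 236, 125, 1), (127, false, 10, 228, 127, 2), (132, false, 10, 228, 132, 2), (138, false, 10, 228, 138, 2), (144, false, 10, 228, 144, 2), (149,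 false, 10, 228, 149, 2), (153, false, 10, 228, 153, 2), (159, false, 10, 228, 159, 1), (160, false, 10, 228, 160, 1), (166, false, 17, 221, 166, 2), (171, false, 17, 221, 171, 2), (175, false, 17, 221, 175, 2), (181, false, 17, 221, 181, 1), (182, false, 17, 221, 182, 1), (185, false, 22, 216, 185, 2), (191, false, 22, 216, 191, 1), (192, false, 22, 216, 192, 1), (197, false, 26, 212, 197, 1), (198, false, 26, 212, 198, 1), (203, false, 31, 206, 203, 1), (207, false, 36, 202, 207, 1), (208, false, 36, 202, 208, 1), (213, false, 41, 196, 213, 1), (217, false, 47, 190, 217, 1), (222, false, 57, 180, 222, 1), (229, false, 79, 158, 229, 1), (237, false, 114, 122, 237, 1)]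
def tRow117 : List (ℕ × Bool × ℕ × ℕ × ℕ × ℕ) := [(2, false, 11, 226, 2, 2), (13, false, 0, 237, 13, 1), (20, false, 0, 237, 20, 1), (25, false, 0, 237, 25, 1), (29, false, 0, 237, 29, 1), (32, false, 0, 237, 32, 1), (35, false, 0, 237, 35, 1), (39, false, 0, 237, 39, 1), (42, false, 0, 237, 42, 1), (45, false, 0, 237, 45, 1), (48, false, 0, 237, 48, 1), (51, false, 0, 237, 51, 1), (54, false, 0, 237, 54, 1), (58, false, 0, 237, 58, 1), (61, false, 0, 237, 61, 1), (64, false, 0, 237, 64, 1), (68, false, 0, 237, 68, 1), (73, false, 0, 237, 73, 1), (80, false, 0, 237, 80, 1), (83, false, 0, 237, 83, 1), (86, false, 0, 237, 86, 1), (90, false, 0, 237, 90, 1), (95, false, 0, 237, 95, 1), (101, false, 0, 237, 101, 1), (107, false, 0, 237, 107, 1), (112, false, 0, 237, 112, 1), (116, false, 0, 237, 116, 1), (120, false, 11, 226, 120, 2), (121, false, 0, 237, 121, 1), (125, false, 11, 226, 125, 2), (129, false, 11, 226, 129, 2), (134, false, 11, 226, 134, 2), (140, false, 11, 226, 140, 2), (146, false, 11, 226, 146, 2), (151,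 false, 11, 226, 151, 2), (155, false, 11, 226, 155, 2), (158, false, 11, 226, 158, 2), (161, false, 11, 226, 161, 1), (168, false, 18, 219, 168, 2), (173, false, 18, 219, 173, 2), (177, false, 18, 219, 177, 2), (180, false, 18, 219, 180, 2), (183, false, 18, 219, 183, 1), (187, false, 23, 214, 187, 2), (190, false, 23, 214, 190, 2), (193, false, 23, 214, 193, 1), (196, false, 27, 210, 196, 2), (199, false, 27, 210, 199, 1), (202, false, 30, 207, 202, 1), (206, false, 37, 200, 206, 2), (209, false, 37, 200, 209, 1), (212, false, 40, 197, 212, 1), (216, false, 46, 191, 216, 1), (221, false, 56, 181, 221, 1), (228, false, 78, 159, 228, 1), (239, true, 117, 120, 238, 0)]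
def tRow118 : List (ℕ × Bool × ℕ × ℕ × ℕ × ℕ) := [(2, false, 11, 227, 2, 2), (12, false, 1, 237, 12, 2), (19, false, 1, 237, 19, 2), (24, false, 1, 237, 24, 2), (28, false, 1, 237, 28, 2), (31, false, 1, 237, 31, 2), (35, false, 1, 237, 35, 1), (38, false, 1, 237, 38, 2), (41, false, 1, 237, 41, 2), (45, false, 1, 237, 45, 1), (47, false, 1, 237, 47, 2), (51, false, 1, 237, 51, 1), (54, false, 1, 237, 54, 1), (57, false, 1, 237, 57, 2), (61, false, 1, 237, 61, 1), (64, false, 1, 237, 64, 1), (68, false, 1, 237, 68, 1), (73, false, 1, 237, 73, 1), (79, false, 1, 237, 79, 2), (83, false, 1, 237, 83, 1), (86, false, 1, 237, 86, 1), (90, false, 1, 237, 90, 1), (95, false, 1, 237, 95, 1), (101, false, 1, 237, 101, 1), (107, false, 1, 237, 107, 1), (112, false, 1, 237, 112, 1), (116, false, 1, 237, 116, 1), (119, false, 11, 227, 119, 2), (122, false, 1, 237, 122, 1), (124, false, 11, 227, 124, 2), (128, false, 11, 227, 128, 2), (133, false, 11, 227, 133, 2), (139, false, 11, 227, 139, 2), (145, false, 11, 227, 145, 2), (150,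 false, 11, 227, 150, 2), (154, false, 11, 227, 154, 2), (157, false, 11, 227, 157, 2), (161, false, 11, 227, 161, 1), (167, false, 18, 220, 167, 2), (172, false, 18, 220, 172, 2), (176, false, 18, 220, 176, 2), (179, false, 18, 220, 179, 2), (183, false, 18, 220, 183, 1), (186, false, 23, 215, 186, 2), (189, false, 23, 215, 189, 2), (193, false, 23, 215, 193, 1), (195, false, 27, 211, 195, 2), (199, false, 27, 211, 199, 1), (202, false, 30, 208, 202, 1), (205, false, 37, 201, 205, 2), (209, false, 37, 201, 209, 1), (212, false, 40, 198, 212, 1), (216, false, 46, 192, 216, 1), (221, false, 56, 182, 221, 1), (228, false, 78, 160, 228, 1), (238, false, 117, 120, 238, 1)]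
def tRow119 : List (ℕ × Bool × ℕ × ℕ × ℕ × ℕ) := [(1, false, 12, 226, 1, 3), (13, false, 0, 238, 13, 1), (20, false, 0, 238, 20, 1), (25, false, 0, 238, 25, 1), (29, false, 0, 238, 29, 1), (32, false, 0, 238, 32, 1), (34, false, 0, 238, 34, 1), (39, false, 0, 238, 39, 1), (42, false, 0, 238, 42, 1), (44, false, 0, 238, 44, 1), (48, false, 0, 238, 48, 1), (50, false, 0, 238, 50, 1), (53, false, 0, 238, 53, 1), (58, false, 0, 238, 58, 1), (60, false, 0, 238, 60, 1), (63, false, 0, 238, 63, 1), (67, false, 0, 238, 67, 1), (72, false, 0, 238, 72, 1), (80, false, 0, 238, 80, 1), (82, false, 0, 238, 82, 1), (85, false, 0, 238, 85, 1), (89, false, 0, 238, 89, 1), (94, false, 0, 238, 94, 1), (100, false, 0, 238, 100, 1), (106, false, 0, 238, 106, 1), (111, false, 0, 238, 111, 1), (115, false, 0, 238, 115, 1), (118, false, 0, 238, 118, 1), (122, false, 12, 226, 122, 2), (125, false, 12, 226, 125, 2), (129, false, 12, 226, 129, 2), (134, false, 12, 226, 134, 2), (140, false, 12, 226, 140, 2), (146, false, 12, 226, 146, 2), (151,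 false, 12, 226, 151, 2), (155, false, 12, 226, 155, 2), (158, false, 12, 226, 158, 2), (160, false, 12, 226, 160, 2), (168, false, 19, 219, 168, 2), (173, false, 19, 219, 173, 2), (177, false, 19, 219, 177, 2), (180, false, 19, 219, 180, 2), (182, false, 19, 219, 182, 2), (187, false, 24, 214, 187, 2), (190, false, 24, 214, 190, 2), (192, false, 24, 214, 192, 2), (196, false, 28, 210, 196, 2), (198, false, 28, 210, 198, 2), (201, false, 31, 207, 201, 2), (206, false, 38, 200, 206, 2), (208, false, 38, 200, 208, 2), (211, false, 41, 197, 211, 2), (215, false, 47, 191, 215, 2), (220, false, 57, 181, 220, 2), (227, false, 79, 159, 227, 2), (239, true, 119, 122, 237, 0)]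
def tRow120 : List (ℕ × Bool × ℕ × ℕ × ℕ × ℕ) := [(0, false, 13, 227, 0, 3), (12, false, 1, 239, 12, 1), (19, false, 1, 239, 19, 1), (24, false, 1, 239, 24, 1), (28, false, 1, 239, 28, 1), (31, false, 1, 239, 31, 1), (33, false, 1, 239, 33, 1), (38, false, 1, 239, 38, 1), (41, false, 1, 239, 41, 1), (43, false, 1, 239, 43, 1), (47, false, 1, 239, 47, 1), (49, false, 1, 239, 49, 1), (52, false, 1, 239, 52, 1), (57, false, 1, 239, 57, 1), (59, false, 1, 239, 59, 1), (62, false, 1, 239, 62, 1), (66, false, 1, 239, 66, 1), (71, false, 1, 239, 71, 1), (79, false, 1, 239, 79, 1), (81, false, 1, 239, 81, 1), (84, false, 1, 239, 84, 1), (88, false, 1, 239, 88, 1), (93, false, 1, 239, 93, 1), (99, false, 1, 239, 99, 1), (105, false, 1, 239, 105, 1), (110, false, 1, 239, 110, 1), (114, false, 1, 239, 114, 1), (117, false, 1, 239, 117, 1), (121, false, 13, 227, 121, 2), (124, false, 13, 227, 124, 2), (128, false, 13, 227, 128, 2), (133, false, 13, 227, 133, 2), (139, false, 13, 227, 139, 2), (145, false, 13, 227, 145, 2), (150,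 false, 13, 227, 150, 2), (154, false, 13, 227, 154, 2), (157, false, 13, 227, 157, 2), (159, false, 13, 227, 159, 2), (167, false, 20, 220, 167, 2), (172, false, 20, 220, 172, 2), (176, false, 20, 220, 176, 2), (179, false, 20, 220, 179, 2), (181, false, 20, 220, 181, 2), (186, false, 25, 215, 186, 2), (189, false, 25, 215, 189, 2), (191, false, 25, 215, 191, 2), (195, false, 29, 211, 195, 2), (197, false, 29, 211, 197, 2), (200, false, 32, 208, 200, 2), (205, false, 39, 201, 205, 2), (207, false, 39, 201, 207, 2), (210, false, 42, 198, 210, 2), (214, false, 48, 192, 214, 2), (219, false, 58, 182, 219, 2), (226, false, 80, 160, 226, 2), (238, true, 120, 121, 237, 0)]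
def tRow121 : List (ℕ × Bool × ℕ × ℕ × ℕ × ℕ) := [(1, false, 12, 228, 1, 2), (11, false, 2, 238, 11, 2), (18, false, 2, 238, 18, 2), (23, false, 2, 238, 23, 2), (27, false, 2, 238, 27, 2), (30, false, 2, 238, 30, 2), (34, false, 2, 238, 34, 1), (37, false, 2, 238, 37, 2), (40, false, 2, 238, 40, 2), (44, false, 2, 238, 44, 1), (46, false, 2, 238, 46, 2), (50, false, 2, 238, 50, 1), (53, false, 2, 238, 53, 1), (56, false, 2, 238, 56, 2), (60, false, 2, 238, 60, 1), (63, false, 2, 238, 63, 1), (67, false, 2, 238, 67, 1), (72, false, 2, 238, 72, 1), (78, false, 2, 238, 78, 2), (82, false, 2, 238, 82, 1), (85, false, 2, 238, 85, 1), (89, false, 2, 238, 89, 1), (94, false, 2, 238, 94, 1), (100, false, 2, 238, 100, 1), (106, false, 2, 238, 106, 1), (111, false, 2, 238, 111, 1), (115, false, 2, 238, 115, 1), (117, false, 12, 228, 117, 2), (120, false, 2, 238, 120, 1), (123, false, 12, 228, 123, 2), (127, false, 12, 228, 127, 2), (132, false, 12, 228, 132, 2), (138, false, 12, 228, 138, 2), (144, false, 12, 228, 144, 2), (149,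 false, 12, 228, 149, 2), (153, false, 12, 228, 153, 2), (156, false, 12, 228, 156, 2), (160, false, 12, 228, 160, 1), (166, false, 19, 221, 166, 2), (171, false, 19, 221, 171, 2), (175, false, 19, 221, 175, 2), (178, false, 19, 221, 178, 2), (182, false, 19, 221, 182, 1), (185, false, 24, 216, 185, 2), (188, false, 24, 216, 188, 2), (192, false, 24, 216, 192, 1), (194, false, 28, 212, 194, 2), (198, false, 28, 212, 198, 1), (201, false, 31, 209, 201, 1), (204, false, 38, 202, 204, 2), (208, false, 38, 202, 208, 1), (211, false, 41, 199, 211, 1), (215, false, 47, 193, 215, 1), (220, false, 57, 183, 220, 1), (227, false, 79, 161, 227, 1), (237, false, 119, 122, 237, 1)]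
def tRow122 : List (ℕ × Bool × ℕ × ℕ × ℕ × ℕ) := [(0, false, 13, 228, 0, 3), (11, false, 2, 239, 11, 2), (18, false, 2, 239, 18, 2), (23, false, 2, 239, 23, 2), (27, false, 2, 239, 27, 2), (30, false, 2, 239, 30, 2), (33, false, 2, 239, 33, 1), (37, false, 2, 239, 37, 2), (40, false, 2, 239, 40, 2), (43, false, 2, 239, 43, 1), (46, false, 2, 239, 46, 2), (49, false, 2, 239, 49, 1), (52, false, 2, 239, 52, 1), (56, false, 2, 239, 56, 2), (59, false, 2, 239, 59, 1), (62, false, 2, 239, 62, 1), (66, false, 2, 239, 66, 1), (71, false, 2, 239, 71, 1), (78, false, 2, 239, 78, 2), (81, false, 2, 239, 81, 1), (84, false, 2, 239, 84, 1), (88, false, 2, 239, 88, 1), (93, false, 2, 239, 93, 1), (99, false, 2, 239, 99, 1), (105, false, 2, 239, 105, 1), (110, false, 2, 239, 110, 1), (114, false, 2, 239, 114, 1), (118, false, 13, 228, 118, 2), (119, false, 2, 239, 119, 1), (123, false, 13, 228, 123, 2), (127, false, 13, 228, 127, 2), (132, false, 13, 228, 132, 2), (138, false, 13, 228, 138, 2), (144, false, 13, 228, 144, 2), (149,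 false, 13, 228, 149, 2), (153, false, 13, 228, 153, 2), (156, false, 13, 228, 156, 2), (159, false, 13, 228, 159, 2), (166, false, 20, 221, 166, 2), (171, false, 20, 221, 171, 2), (175, false, 20, 221, 175, 2), (178, false, 20, 221, 178, 2), (181, false, 20, 221, 181, 2), (185, false, 25, 216, 185, 2), (188, false, 25, 216, 188, 2), (191, false, 25, 216, 191, 2), (194, false, 29, 212, 194, 2), (197, false, 29, 212, 197, 2), (200, false, 32, 209, 200, 2), (204, false, 39, 202, 204, 2), (207, false, 39, 202, 207, 2), (210, false, 42, 199, 210, 2), (214, false, 48, 193, 214, 2), (219, false, 58, 183, 219, 2), (226, false, 80, 161, 226, 2), (237, false, 120, 121, 237, 1)]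
def tRow123 : List (ℕ × Bool × ℕ × ℕ × ℕ × ℕ) := [(2, false, 11, 229, 2, 2), (10, false, 3, 237, 10, 2), (17, false, 3, 237, 17, 2), (22, false, 3, 237, 22, 2), (26, false, 3, 237, 26, 2), (31, false, 3, 237, 31, 2), (32, false, 3, 237, 32, 2), (36, false, 3, 237, 36, 2), (41, false, 3, 237, 41, 2), (42, false, 3, 237, 42, 2), (47, false, 3, 237, 47, 2), (48, false, 3, 237, 48, 2), (54, false, 3, 237, 54, 1), (57, false, 3, 237, 57, 2), (58, false, 3, 237, 58, 2), (64, false, 3, 237, 64, 1), (68, false, 3, 237, 68, 1), (73, false, 3, 237, 73, 1), (79, false, 3, 237, 79, 2), (80, false, 3, 237, 80, 2), (86, false, 3, 237, 86, 1), (90, false, 3, 237, 90, 1), (95, false, 3, 237, 95, 1), (101, false, 3, 237, 101, 1), (107, false, 3, 237, 107, 1), (112, false, 3, 237, 112, 1), (114, false, 11, 229, 114, 2), (115, false, 11, 229, 115, 2), (121, false, 3, 237, 121, 1), (122, false, 3, 237, 122, 1), (126, false, 11, 229, 126, 2), (131, false, 11, 229, 131, 2), (137, false, 11, 229, 137, 2), (143, false, 11, 229, 143, 2), (148,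 false, 11, 229, 148, 2), (152, false, 11, 229, 152, 2), (157, false, 11, 229, 157, 1), (158, false, 11, 229, 158, 1), (165, false, 18, 222, 165, 2), (170, false, 18, 222, 170, 2), (174, false, 18, 222, 174, 2), (179, false, 18, 222, 179, 1), (180, false, 18, 222, 180, 1), (184, false, 23, 217, 184, 2), (189, false, 23, 217, 189, 1), (190, false, 23, 217, 190, 1), (195, false, 27, 213, 195, 1), (196, false, 27, 213, 196, 1), (202, false, 33, 208, 202, 1), (205, false, 37, 203, 205, 1), (206, false, 37, 203, 206, 1), (212, false, 43, 198, 212, 1), (216, false, 49, 192, 216, 1), (221, false, 59, 182, 221, 1), (228, false, 81, 160, 228, 1), (236, false, 117, 125, 236, 1)]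
def tRow124 : List (ℕ × Bool × ℕ × ℕ × ℕ × ℕ) := [(1, false, 12, 229, 1, 2), (10, false, 3, 238, 10, 2), (17, false, 3, 238, 17, 2), (22, false, 3, 238, 22, 2), (26, false, 3, 238, 26, 2), (30, false, 3, 238, 30, 2), (32, false, 3, 238, 32, 2), (36, false, 3, 238, 36, 2), (40, false, 3, 238, 40, 2), (42, false, 3, 238, 42, 2), (46, false, 3, 238, 46, 2), (48, false, 3, 238, 48, 2), (53, false, 3, 238, 53, 1), (56, false, 3, 238, 56, 2), (58, false, 3, 238, 58, 2), (63, false, 3, 238, 63, 1), (67, false, 3, 238, 67, 1), (72, false, 3, 238, 72, 1), (78, false, 3, 238, 78, 2), (80, false, 3, 238, 80, 2), (85, false, 3, 238, 85, 1), (89, false, 3, 238, 89, 1), (94, false, 3, 238, 94, 1), (100, false, 3, 238, 100, 1), (106, false, 3, 238, 106, 1), (111, false, 3, 238, 111, 1), (114, false, 12, 229, 114, 2), (116, false, 12, 229, 116, 2), (118, false, 3, 238, 118, 1), (120, false, 3, 238, 120, 1), (126, false, 12, 229, 126, 2), (131, false, 12, 229, 131, 2), (137, false, 12, 229, 137, 2), (143, false, 12, 229, 143, 2), (148,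 false, 12, 229, 148, 2), (152, false, 12, 229, 152, 2), (156, false, 12, 229, 156, 2), (158, false, 12, 229, 158, 1), (165, false, 19, 222, 165, 2), (170, false, 19, 222, 170, 2), (174, false, 19, 222, 174, 2), (178, false, 19, 222, 178, 2), (180, false, 19, 222, 180, 1), (184, false, 24, 217, 184, 2), (188, false, 24, 217, 188, 2), (190, false, 24, 217, 190, 1), (194, false, 28, 213, 194, 2), (196, false, 28, 213, 196, 1), (201, false, 33, 209, 201, 1), (204, false, 38, 203, 204, 2), (206, false, 38, 203, 206, 1), (211, false, 43, 199, 211, 1), (215, false, 49, 193, 215, 1), (220, false, 59, 183, 220, 1), (227, false, 81, 161, 227, 1), (236, false, 119, 125, 236, 1)]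
def tRow125 : List (ℕ × Bool × ℕ × ℕ × ℕ × ℕ) := [(0, false, 13, 229, 0, 3), (10, false, 3, 239, 10, 2), (17, false, 3, 239, 17, 2), (22, false, 3, 239, 22, 2), (26, false, 3, 239, 26, 2), (30, false, 3, 239, 30, 2), (31, false, 3, 239, 31, 2), (36, false, 3, 239, 36, 2), (40, false, 3, 239, 40, 2), (41, false, 3, 239, 41, 2), (46, false, 3, 239, 46, 2), (47, false, 3, 239, 47, 2), (52, false, 3, 239, 52, 1), (56, false, 3, 239, 56, 2), (57, false, 3, 239, 57, 2), (62, false, 3, 239, 62, 1), (66, false, 3, 239, 66, 1), (71, false, 3, 239, 71, 1), (78, false, 3, 239, 78, 2), (79, false, 3, 239, 79, 2), (84, false, 3, 239, 84, 1), (88, false, 3, 239, 88, 1), (93, false, 3, 239, 93, 1), (99, false, 3, 239, 99, 1), (105, false, 3, 239, 105, 1), (110, false, 3, 239, 110, 1), (115, false, 13, 229, 115, 2), (116, false, 13, 229, 116, 2), (117, false, 3, 239, 117, 1), (119, false, 3, 239, 119, 1), (126, false, 13, 229, 126, 2), (131, false, 13, 229, 131, 2), (137, false, 13, 229, 137, 2), (143, false, 13, 229, 143, 2), (148,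 false, 13, 229, 148, 2), (152, false, 13, 229, 152, 2), (156, false, 13, 229, 156, 2), (157, false, 13, 229, 157, 2), (165, false, 20, 222, 165, 2), (170, false, 20, 222, 170, 2), (174, false, 20, 222, 174, 2), (178, false, 20, 222, 178, 2), (179, false, 20, 222, 179, 2), (184, false, 25, 217, 184, 2), (188, false, 25, 217, 188, 2), (189, false, 25, 217, 189, 2), (194, false, 29, 213, 194, 2), (195, false, 29, 213, 195, 2), (200, false, 34, 209, 200, 2), (204, false, 39, 203, 204, 2), (205, false, 39, 203, 205, 2), (210, false, 44, 199, 210, 2), (214, false, 50, 193, 214, 2), (219, false, 60, 183, 219, 2), (226, false, 82, 161, 226, 2), (236, false, 120, 124, 236, 1)]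
def tRow126 : List (ℕ × Bool × ℕ × ℕ × ℕ × ℕ) := [(3, false, 10, 230, 3, 2), (9, false, 4, 236, 9, 2), (16, false, 4, 236, 16, 2), (21, false, 4, 236, 21, 2), (27, false, 4, 236, 27, 2), (28, false, 4, 236, 28, 2), (29, false, 4, 236, 29, 2), (37, false, 4, 236, 37, 2), (38, false, 4, 236, 38, 2), (39, false, 4, 236, 39, 2), (49, false, 4, 236, 49, 2), (50, false, 4, 236, 50, 2), (51, false, 4, 236, 51, 2), (59, false, 4, 236, 59, 2), (60, false, 4, 236, 60, 2), (61, false, 4, 236, 61, 2), (69, false, 4, 236, 69, 1), (74, false, 4, 236, 74, 1), (81, false, 4, 236, 81, 2), (82, false, 4, 236, 82, 2), (83, false, 4, 236, 83, 2), (91, false, 4, 236, 91, 1), (96, false, 4, 236, 96, 1), (102, false, 4, 236, 102, 1), (108, false, 4, 236, 108, 1), (110, false, 10, 230, 110, 2), (111, false, 10, 230, 111, 2), (112, false, 10, 230, 112, 2), (123, false, 4, 236, 123, 1), (124, false, 4, 236, 124, 1), (125, false, 4, 236, 125, 1), (130, false, 10, 230, 130, 2), (136, false, 10, 230, 136, 2), (142, false, 10, 230, 142, 2), (147,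 false, 10, 230, 147, 2), (153, false, 10, 230, 153, 1), (154, false, 10, 230, 154, 1), (155, false, 10, 230, 155, 1), (164, false, 17, 223, 164, 2), (169, false, 17, 223, 169, 2), (175, false, 17, 223, 175, 1), (176, false, 17, 223, 176, 1), (177, false, 17, 223, 177, 1), (185, false, 22, 218, 185, 1), (186, false, 22, 218, 186, 1), (187, false, 22, 218, 187, 1), (197, false, 30, 212, 197, 1), (198, false, 30, 212, 198, 1), (199, false, 31, 211, 199, 1), (207, false, 40, 202, 207, 1), (208, false, 40, 202, 208, 1), (209, false, 41, 201, 209, 1), (217, false, 52, 190, 217, 1), (222, false, 62, 180, 222, 1), (229, false, 84, 158, 229, 1), (235, false, 114, 129, 235, 1)]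
def tRow127 : List (ℕ × Bool × ℕ × ℕ × ℕ × ℕ) := [(2, false, 11, 230, 2, 2), (9, false, 4, 237, 9, 2), (16, false, 4, 237, 16, 2), (21, false, 4, 237, 21, 2), (26, false, 4, 237, 26, 2), (28, false, 4, 237, 28, 2), (29, false, 4, 237, 29, 2), (36, false, 4, 237, 36, 2), (38, false, 4, 237, 38, 2), (39, false, 4, 237, 39, 2), (47, false, 4, 237, 47, 2), (48, false, 4, 237, 48, 2), (51, false, 4, 237, 51, 2), (57, false, 4, 237, 57, 2), (58, false, 4, 237, 58, 2), (61, false, 4, 237, 61, 2), (68, false, 4, 237, 68, 1), (73, false, 4, 237, 73, 1), (79, false, 4, 237, 79, 2), (80, false, 4, 237, 80, 2), (83, false, 4, 237, 83, 2), (90, false, 4, 237, 90, 1), (95, false, 4, 237, 95, 1), (101, false, 4, 237, 101, 1), (107, false, 4, 237, 107, 1), (110, false, 11, 230, 110, 2), (111, false, 11, 230, 111, 2), (113, false, 11, 230, 113, 2), (116, false, 4, 237, 116, 1), (121, false, 4, 237, 121, 1), (122, false, 4, 237, 122, 1), (130, false, 11, 230, 130, 2), (136, false, 11, 230, 136, 2), (142, false, 11, 230, 142, 2), (147,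 false, 11, 230, 147, 2), (152, false, 11, 230, 152, 2), (154, false, 11, 230, 154, 1), (155, false, 11, 230, 155, 1), (164, false, 18, 223, 164, 2), (169, false, 18, 223, 169, 2), (174, false, 18, 223, 174, 2), (176, false, 18, 223, 176, 1), (177, false, 18, 223, 177, 1), (184, false, 23, 218, 184, 2), (186, false, 23, 218, 186, 1), (187, false, 23, 218, 187, 1), (195, false, 30, 213, 195, 1), (196, false, 30, 213, 196, 1), (199, false, 33, 211, 199, 1), (205, false, 40, 203, 205, 1), (206, false, 40, 203, 206, 1), (209, false, 43, 201, 209, 1), (216, false, 52, 192, 216, 1), (221, false, 62, 182, 221, 1), (228, false, 84, 160, 228, 1), (235, false, 117, 129, 235, 1)]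
def tRow128 : List (ℕ × Bool × ℕ × ℕ × ℕ × ℕ) := [(1, false, 12, 230, 1, 2), (9, false, 4, 238, 9, 2), (16, false, 4, 238, 16, 2), (21, false, 4, 238, 21, 2), (26, false, 4, 238, 26, 2), (27, false, 4, 238, 27, 2), (29, false, 4, 238, 29, 2), (36, false, 4, 238, 36, 2), (37, false, 4, 238, 37, 2), (39, false, 4, 238, 39, 2), (46, false, 4, 238, 46, 2), (48, false, 4, 238, 48, 2), (50, false, 4, 238, 50, 2), (56, false, 4, 238, 56, 2), (58, false, 4, 238, 58, 2), (60, false, 4, 238, 60, 2), (67, false, 4, 238, 67, 1), (72, false, 4, 238, 72, 1), (78, false, 4, 238, 78, 2), (80, false, 4, 238, 80, 2), (82, false, 4, 238, 82, 2), (89, false, 4, 238, 89, 1), (94, false, 4, 238, 94, 1), (100, false, 4, 238, 100, 1), (106, false, 4, 238, 106, 1), (110, false, 12, 230, 110, 2), (112, false, 12, 230, 112, 2), (113, false, 12, 230, 113, 2), (115, false, 4, 238, 115, 1), (118, false, 4, 238, 118, 1), (120, false, 4, 238, 120, 1), (130, false, 12, 230, 130, 2), (136, false, 12, 230, 136, 2), (142, false, 12, 230, 142, 2), (147,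 false, 12, 230, 147, 2), (152, false, 12, 230, 152, 2), (153, false, 12, 230, 153, 2), (155, false, 12, 230, 155, 1), (164, false, 19, 223, 164, 2), (169, false, 19, 223, 169, 2), (174, false, 19, 223, 174, 2), (175, false, 19, 223, 175, 2), (177, false, 19, 223, 177, 1), (184, false, 24, 218, 184, 2), (185, false, 24, 218, 185, 2), (187, false, 24, 218, 187, 1), (194, false, 31, 213, 194, 2), (196, false, 31, 213, 196, 1), (198, false, 33, 212, 198, 1), (204, false, 41, 203, 204, 2), (206, false, 41, 203, 206, 1), (208, false, 43, 202, 208, 1), (215, false, 52, 193, 215, 1), (220, false, 62, 183, 220, 1), (227, false, 84, 161, 227, 1), (235, false, 119, 129, 235, 1)]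
def tRow129 : List (ℕ × Bool × ℕ × ℕ × ℕ × ℕ) := [(0, false, 13, 230, 0, 3), (9, false, 4, 239, 9, 2), (16, false, 4, 239, 16, 2), (21, false, 4, 239, 21, 2), (26, false, 4, 239, 26, 2), (27, false, 4, 239, 27, 2), (28, false, 4, 239, 28, 2), (36, false, 4, 239, 36, 2), (37, false, 4, 239, 37, 2), (38, false, 4, 239, 38, 2), (46, false, 4, 239, 46, 2), (47, false, 4, 239, 47, 2), (49, false, 4, 239, 49, 2), (56, false, 4, 239, 56, 2), (57, false, 4, 239, 57, 2), (59, false, 4, 239, 59, 2), (66, false, 4, 239, 66, 1), (71, false, 4, 239, 71, 1), (78, false, 4, 239, 78, 2), (79, false, 4, 239, 79, 2), (81, false, 4, 239, 81, 2), (88, false, 4, 239, 88, 1), (93, false, 4, 239, 93, 1), (99, false, 4, 239, 99, 1), (105, false, 4, 239, 105, 1), (111, false, 13, 230, 111, 2), (112, false, 13, 230, 112, 2), (113, false, 13, 230, 113, 2), (114, false, 4, 239, 114, 1), (117, false, 4, 239, 117, 1), (119, false, 4, 239, 119, 1), (130, false, 13, 230, 130, 2), (136, false, 13, 230, 136, 2), (142, false, 13, 230, 142, 2), (147, false,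 13, 230, 147, 2), (152, false, 13, 230, 152, 2), (153, false, 13, 230, 153, 2), (154, false, 13, 230, 154, 2), (164, false, 20, 223, 164, 2), (169, false, 20, 223, 169, 2), (174, false, 20, 223, 174, 2), (175, false, 20, 223, 175, 2), (176, false, 20, 223, 176, 2), (184, false, 25, 218, 184, 2), (185, false, 25, 218, 185, 2), (186, false, 25, 218, 186, 2), (194, false, 32, 213, 194, 2), (195, false, 32, 213, 195, 2), (197, false, 34, 212, 197, 2), (204, false, 42, 203, 204, 2), (205, false, 42, 203, 205, 2), (207, false, 44, 202, 207, 2), (214, false, 53, 193, 214, 2), (219, false, 63, 183, 219, 2), (226, false, 85, 161, 226, 2), (235, false, 120, 128, 235, 1)]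
def tRow130 : List (ℕ × Bool × ℕ × ℕ × ℕ × ℕ) := [(4, false, 9, 231, 4, 2), (8, false, 5, 235, 8, 2), (15, false, 5, 235, 15, 2), (22, false, 5, 235, 22, 2), (23, false, 5, 235, 23, 2), (24, false, 5, 235, 24, 2), (25, false, 5, 235, 25, 2), (40, false, 5, 235, 40, 2), (41, false, 5, 235, 41, 2), (42, false, 5, 235, 42, 2), (43, false, 5, 235, 43, 2), (44, false, 5, 235, 44, 2), (45, false, 5, 235, 45, 2), (62, false, 5, 235, 62, 2), (63, false, 5, 235, 63, 2), (64, false, 5, 235, 64, 2), (65, false, 5, 235, 65, 2), (75, false, 5, 235, 75, 1), (84, false, 5, 235, 84, 2), (85, false, 5, 235, 85, 2), (86, false, 5, 235, 86, 2), (87, false, 5, 235, 87, 2), (97, false, 5, 235, 97, 1), (103, false, 5, 235, 103, 1), (105, false, 9, 231, 105, 2), (106, false, 9, 231, 106, 2), (107, false, 9, 231, 107, 2), (108, false, 9, 231, 108, 2), (126, false, 5, 235, 126, 1), (127, false, 5, 235, 127, 1), (128, false, 5, 235, 128, 1), (129, false, 5, 235, 129, 1), (135, false, 9, 231, 135, 2), (141, false, 9, 231, 141, 2), (148, false,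 9, 231, 148, 1), (149, false, 9, 231, 149, 1), (150, false, 9, 231, 150, 1), (151, false, 9, 231, 151, 1), (163, false, 16, 224, 163, 2), (170, false, 16, 224, 170, 1), (171, false, 16, 224, 171, 1), (172, false, 16, 224, 172, 1), (173, false, 16, 224, 173, 1), (188, false, 26, 217, 188, 1), (189, false, 26, 217, 189, 1), (190, false, 26, 217, 190, 1), (191, false, 27, 216, 191, 1), (192, false, 27, 216, 192, 1), (193, false, 28, 215, 193, 1), (210, false, 46, 199, 210, 1), (211, false, 46, 199, 211, 1), (212, false, 47, 198, 212, 1), (213, false, 49, 196, 213, 1), (223, false, 66, 177, 223, 1), (230, false, 88, 155, 230, 1), (234, false, 110, 134, 234, 1)]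
def tRow131 : List (ℕ × Bool × ℕ × ℕ × ℕ × ℕ) := [(3, false, 10, 231, 3, 2), (8, false, 5, 236, 8, 2), (15, false, 5, 236, 15, 2), (21, false, 5, 236, 21, 2), (23, false, 5, 236, 23, 2), (24, false, 5, 236, 24, 2), (25, false, 5, 236, 25, 2), (37, false, 5, 236, 37, 2), (38, false, 5, 236, 38, 2), (39, false, 5, 236, 39, 2), (43, false, 5, 236, 43, 2), (44, false, 5, 236, 44, 2), (45, false, 5, 236, 45, 2), (59, false, 5, 236, 59, 2), (60, false, 5, 236, 60, 2), (61, false, 5, 236, 61, 2), (65, false, 5, 236, 65, 2), (74, false, 5, 236, 74, 1), (81, false, 5, 236, 81, 2), (82, false, 5, 236, 82, 2), (83, false, 5, 236, 83, 2), (87, false, 5, 236, 87, 2), (96, false, 5, 236, 96, 1), (102, false, 5, 236, 102, 1), (105, false, 10, 231, 105, 2), (106, false, 10, 231, 106, 2), (107, false, 10, 231, 107, 2), (109, false, 10, 231, 109, 2), (113, false, 5, 236, 113, 1), (123, false, 5, 236, 123, 1), (124, false, 5, 236, 124, 1), (125, false, 5, 236, 125, 1), (135, false, 10, 231, 135, 2), (141, false, 10, 231, 141, 2), (147,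 false, 10, 231, 147, 2), (149, false, 10, 231, 149, 1), (150, false, 10, 231, 150, 1), (151, false, 10, 231, 151, 1), (163, false, 17, 224, 163, 2), (169, false, 17, 224, 169, 2), (171, false, 17, 224, 171, 1), (172, false, 17, 224, 172, 1), (173, false, 17, 224, 173, 1), (185, false, 26, 218, 185, 1), (186, false, 26, 218, 186, 1), (187, false, 26, 218, 187, 1), (191, false, 30, 216, 191, 1), (192, false, 30, 216, 192, 1), (193, false, 31, 215, 193, 1), (207, false, 46, 202, 207, 1), (208, false, 46, 202, 208, 1), (209, false, 47, 201, 209, 1), (213, false, 52, 196, 213, 1), (222, false, 66, 180, 222, 1), (229, false, 88, 158, 229, 1), (234, false, 114, 134, 234, 1)]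
def tRow132 : List (ℕ × Bool × ℕ × ℕ × ℕ × ℕ) := [(2, false, 11, 231, 2, 2), (8, false, 5, 237, 8, 2), (15, false, 5, 237, 15, 2), (21, false, 5, 237, 21, 2), (22, false, 5, 237, 22, 2), (24, false, 5, 237, 24, 2), (25, false, 5, 237, 25, 2), (36, false, 5, 237, 36, 2), (38, false, 5, 237, 38, 2), (39, false, 5, 237, 39, 2), (41, false, 5, 237, 41, 2), (42, false, 5, 237, 42, 2), (45, false, 5, 237, 45, 2), (57, false, 5, 237, 57, 2), (58, false, 5, 237, 58, 2), (61, false, 5, 237, 61, 2), (64, false, 5, 237, 64, 2), (73, false, 5, 237, 73, 1), (79, false, 5, 237, 79, 2), (80, false, 5, 237, 80, 2), (83, false, 5, 237, 83, 2), (86, false, 5, 237, 86, 2), (95, false, 5, 237, 95, 1), (101, false, 5, 237, 101, 1), (105, false, 11, 231, 105, 2), (106, false, 11, 231, 106, 2), (108, false, 11, 231, 108, 2), (109, false, 11, 231, 109, 2), (112, false, 5, 237, 112, 1), (116, false, 5, 237, 116, 1), (121, false, 5, 237, 121, 1), (122, false, 5, 237, 122, 1), (135, false, 11, 231, 135, 2), (141, false, 11, 231, 141, 2), (147,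 false, 11, 231, 147, 2), (148, false, 11, 231, 148, 2), (150, false, 11, 231, 150, 1), (151, false, 11, 231, 151, 1), (163, false, 18, 224, 163, 2), (169, false, 18, 224, 169, 2), (170, false, 18, 224, 170, 2), (172, false, 18, 224, 172, 1), (173, false, 18, 224, 173, 1), (184, false, 27, 218, 184, 2), (186, false, 27, 218, 186, 1), (187, false, 27, 218, 187, 1), (189, false, 30, 217, 189, 1), (190, false, 30, 217, 190, 1), (193, false, 33, 215, 193, 1), (205, false, 46, 203, 205, 1), (206, false, 46, 203, 206, 1), (209, false, 49, 201, 209, 1), (212, false, 52, 198, 212, 1), (221, false, 66, 182, 221, 1), (228, false, 88, 160, 228, 1), (234, false, 117, 134, 234, 1)]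
def tRow133 : List (ℕ × Bool × ℕ × ℕ × ℕ × ℕ) := [(1, false, 12, 231, 1, 2), (8, false, 5, 238, 8, 2), (15, false, 5, 238, 15, 2), (21, false, 5, 238, 21, 2), (22, false, 5, 238, 22, 2), (23, false, 5, 238, 23, 2), (25, false, 5, 238, 25, 2), (36, false, 5, 238, 36, 2), (37, false, 5, 238, 37, 2), (39, false, 5, 238, 39, 2), (40, false, 5, 238, 40, 2), (42, false, 5, 238, 42, 2), (44, false, 5, 238, 44, 2), (56, false, 5, 238, 56, 2), (58, false, 5, 238, 58, 2), (60, false, 5, 238, 60, 2), (63, false, 5, 238, 63, 2), (72, false, 5, 238, 72, 1), (78, false, 5, 238, 78, 2), (80, false, 5, 238, 80, 2), (82, false, 5, 238, 82, 2), (85, false, 5, 238, 85, 2), (94, false, 5, 238, 94, 1), (100, false, 5, 238, 100, 1), (105, false, 12, 231, 105, 2), (107, false, 12, 231, 107, 2), (108, false, 12, 231, 108, 2), (109, false, 12, 231, 109, 2), (111, false, 5, 238, 111, 1), (115, false, 5, 238, 115, 1), (118, false, 5, 238, 118, 1), (120, false, 5, 238, 120, 1), (135, false, 12, 231, 135, 2), (141, false, 12, 231, 141, 2), (147,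 false, 12, 231, 147, 2), (148, false, 12, 231, 148, 2), (149, false, 12, 231, 149, 2), (151, false, 12, 231, 151, 1), (163, false, 19, 224, 163, 2), (169, false, 19, 224, 169, 2), (170, false, 19, 224, 170, 2), (171, false, 19, 224, 171, 2), (173, false, 19, 224, 173, 1), (184, false, 28, 218, 184, 2), (185, false, 28, 218, 185, 2), (187, false, 28, 218, 187, 1), (188, false, 31, 217, 188, 2), (190, false, 31, 217, 190, 1), (192, false, 33, 216, 192, 1), (204, false, 47, 203, 204, 2), (206, false, 47, 203, 206, 1), (208, false, 49, 202, 208, 1), (211, false, 52, 199, 211, 1), (220, false, 66, 183, 220, 1), (227, false, 88, 161, 227, 1), (234, false, 119, 134, 234, 1)]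
def tRow134 : List (ℕ × Bool × ℕ × ℕ × ℕ × ℕ) := [(0, false, 13, 231, 0, 3), (8, false, 5, 239, 8, 2), (15, false, 5, 239, 15, 2), (21, false, 5, 239, 21, 2), (22, false, 5, 239, 22, 2), (23, false, 5, 239, 23, 2), (24, false, 5, 239, 24, 2), (36, false, 5, 239, 36, 2), (37, false, 5, 239, 37, 2), (38, false, 5, 239, 38, 2), (40, false, 5, 239, 40, 2), (41, false, 5, 239, 41, 2), (43, false, 5, 239, 43, 2), (56, false, 5, 239, 56, 2), (57, false, 5, 239, 57, 2), (59, false, 5, 239, 59, 2), (62, false, 5, 239, 62, 2), (71, false, 5, 239, 71, 1), (78, false, 5, 239, 78, 2), (79, false, 5, 239, 79, 2), (81, false, 5, 239, 81, 2), (84, false, 5, 239, 84, 2), (93, false, 5, 239, 93, 1), (99, false, 5, 239, 99, 1), (106, false, 13, 231, 106, 2), (107, false, 13, 231, 107, 2), (108, false, 13, 231, 108, 2), (109, false, 13, 231, 109, 2), (110, false, 5, 239, 110, 1), (114, false, 5, 239, 114, 1), (117, false, 5, 239, 117, 1), (119, false, 5, 239, 119, 1), (135, false, 13, 231, 135, 2), (141, false, 13, 231, 141, 2), (147, false,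 13, 231, 147, 2), (148, false, 13, 231, 148, 2), (149, false, 13, 231, 149, 2), (150, false, 13, 231, 150, 2), (163, false, 20, 224, 163, 2), (169, false, 20, 224, 169, 2), (170, false, 20, 224, 170, 2), (171, false, 20, 224, 171, 2), (172, false, 20, 224, 172, 2), (184, false, 29, 218, 184, 2), (185, false, 29, 218, 185, 2), (186, false, 29, 218, 186, 2), (188, false, 32, 217, 188, 2), (189, false, 32, 217, 189, 2), (191, false, 34, 216, 191, 2), (204, false, 48, 203, 204, 2), (205, false, 48, 203, 205, 2), (207, false, 50, 202, 207, 2), (210, false, 53, 199, 210, 2), (219, false, 67, 183, 219, 2), (226, false, 89, 161, 226, 2), (234, false, 120, 133, 234, 1)]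
def tRow135 : List (ℕ × Bool × ℕ × ℕ × ℕ × ℕ) := [(5, false, 8, 232, 5, 2), (7, false, 6, 234, 7, 2), (16, false, 6, 234, 16, 2), (17, false, 6, 234, 17, 2), (18, false, 6, 234, 18, 2), (19, false, 6, 234, 19, 2), (20, false, 6, 234, 20, 2), (46, false, 6, 234, 46, 2), (47, false, 6, 234, 47, 2), (48, false, 6, 234, 48, 2), (49, false, 6, 234, 49, 2), (50, false, 6, 234, 50, 2), (51, false, 6, 234, 51, 2), (52, false, 6, 234, 52, 2), (53, false, 6, 234, 53, 2), (54, false, 6, 234, 54, 2), (55, false, 6, 234, 55, 2), (76, false, 6, 234, 76, 1), (88, false, 6, 234, 88, 2), (89, false, 6, 234, 89, 2), (90, false, 6, 234, 90, 2), (91, false, 6, 234, 91, 2), (92, false, 6, 234, 92, 2), (99, false, 8, 232, 99, 2), (100, false, 8, 232, 100, 2), (101, false, 8, 232, 101, 2), (102, false, 8, 232, 102, 2), (103, false, 8, 232, 103, 2), (130, false, 6, 234, 130, 1), (131, false, 6, 234, 131, 1), (132, false, 6, 234, 132, 1), (133, false, 6, 234, 133, 1), (134, false, 6, 234, 134, 1), (142, false, 8, 232, 142, 1), (143, false, 8,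 232, 143, 1), (144, false, 8, 232, 144, 1), (145, false, 8, 232, 145, 1), (146, false, 8, 232, 146, 1), (162, false, 21, 223, 162, 2), (174, false, 21, 223, 174, 1), (175, false, 21, 223, 175, 1), (176, false, 21, 223, 176, 1), (177, false, 21, 223, 177, 1), (178, false, 22, 222, 178, 1), (179, false, 22, 222, 179, 1), (180, false, 22, 222, 180, 1), (181, false, 23, 221, 181, 1), (182, false, 23, 221, 182, 1), (183, false, 24, 220, 183, 1), (214, false, 56, 193, 214, 1), (215, false, 56, 193, 215, 1), (216, false, 57, 192, 216, 1), (217, false, 59, 190, 217, 1), (218, false, 62, 187, 218, 1), (231, false, 93, 151, 231, 1), (233, false, 105, 140, 233, 1)]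
def tRow136 : List (ℕ × Bool × ℕ × ℕ × ℕ × ℕ) := [(4, false, 9, 232, 4, 2), (7, false, 6, 235, 7, 2), (15, false, 6, 235, 15, 2), (17, false, 6, 235, 17, 2), (18, false, 6, 235, 18, 2), (19, false, 6, 235, 19, 2), (20, false, 6, 235, 20, 2), (40, false, 6, 235, 40, 2), (41, false, 6, 235, 41, 2), (42, false, 6, 235, 42, 2), (43, false, 6, 235, 43, 2), (44, false, 6, 235, 44, 2), (45, false, 6, 235, 45, 2), (52, false, 6, 235, 52, 2), (53, false, 6, 235, 53, 2), (54, false, 6, 235, 54, 2), (55, false, 6, 235, 55, 2), (75, false, 6, 235, 75, 1), (84, false, 6, 235, 84, 2), (85, false, 6, 235, 85, 2), (86, false, 6, 235, 86, 2), (87, false, 6, 235, 87, 2), (92, false, 6, 235, 92, 2), (99, false, 9, 232, 99, 2), (100, false, 9, 232, 100, 2), (101, false, 9, 232, 101, 2), (102, false, 9, 232, 102, 2), (104, false, 9, 232, 104, 2), (109, false, 6, 235, 109, 1), (126, false, 6, 235, 126, 1), (127, false, 6, 235, 127, 1), (128, false, 6, 235, 128, 1), (129, false, 6, 235, 129, 1), (141, false, 9, 232, 141, 2), (143, false, 9,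 232, 143, 1), (144, false, 9, 232, 144, 1), (145, false, 9, 232, 145, 1), (146, false, 9, 232, 146, 1), (162, false, 21, 224, 162, 2), (170, false, 21, 224, 170, 1), (171, false, 21, 224, 171, 1), (172, false, 21, 224, 172, 1), (173, false, 21, 224, 173, 1), (178, false, 26, 222, 178, 1), (179, false, 26, 222, 179, 1), (180, false, 26, 222, 180, 1), (181, false, 27, 221, 181, 1), (182, false, 27, 221, 182, 1), (183, false, 28, 220, 183, 1), (210, false, 56, 199, 210, 1), (211, false, 56, 199, 211, 1), (212, false, 57, 198, 212, 1), (213, false, 59, 196, 213, 1), (218, false, 66, 187, 218, 1), (230, false, 93, 155, 230, 1), (233, false, 110, 140, 233, 1)]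
def tRow137 : List (ℕ × Bool × ℕ × ℕ × ℕ × ℕ) := [(3, false, 10, 232, 3, 2), (7, false, 6, 236, 7, 2), (15, false, 6, 236, 15, 2), (16, false, 6, 236, 16, 2), (18, false, 6, 236, 18, 2), (19, false, 6, 236, 19, 2), (20, false, 6, 236, 20, 2), (37, false, 6, 236, 37, 2), (38, false, 6, 236, 38, 2), (39, false, 6, 236, 39, 2), (43, false, 6, 236, 43, 2), (44, false, 6, 236, 44, 2), (45, false, 6, 236, 45, 2), (49, false, 6, 236, 49, 2), (50, false, 6, 236, 50, 2), (51, false, 6, 236, 51, 2), (55, false, 6, 236, 55, 2), (74, false, 6, 236, 74, 1), (81, false, 6, 236, 81, 2), (82, false, 6, 236, 82, 2), (83, false, 6, 236, 83, 2), (87, false, 6, 236, 87, 2), (91, false, 6, 236, 91, 2), (99, false, 10, 232, 99, 2), (100, false, 10, 232, 100, 2), (101, false, 10, 232, 101, 2), (103, false, 10, 232, 103, 2), (104, false, 10, 232, 104, 2), (108, false, 6, 236, 108, 1), (113, false, 6, 236, 113, 1), (123, false, 6, 236, 123, 1), (124, false, 6, 236, 124, 1), (125, false, 6, 236, 125, 1), (141, false, 10, 232, 141, 2), (142, false,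 10, 232, 142, 2), (144, false, 10, 232, 144, 1), (145, false, 10, 232, 145, 1), (146, false, 10, 232, 146, 1), (162, false, 22, 224, 162, 2), (169, false, 22, 224, 169, 2), (171, false, 22, 224, 171, 1), (172, false, 22, 224, 172, 1), (173, false, 22, 224, 173, 1), (175, false, 26, 223, 175, 1), (176, false, 26, 223, 176, 1), (177, false, 26, 223, 177, 1), (181, false, 30, 221, 181, 1), (182, false, 30, 221, 182, 1), (183, false, 31, 220, 183, 1), (207, false, 56, 202, 207, 1), (208, false, 56, 202, 208, 1), (209, false, 57, 201, 209, 1), (213, false, 62, 196, 213, 1), (217, false, 66, 190, 217, 1), (229, false, 93, 158, 229, 1), (233, false, 114, 140, 233, 1)]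
def tRow138 : List (ℕ × Bool × ℕ × ℕ × ℕ × ℕ) := [(2, false, 11, 232, 2, 2), (7, false, 6, 237, 7, 2), (15, false, 6, 237, 15, 2), (16, false, 6, 237, 16, 2), (17, false, 6, 237, 17, 2), (19, false, 6, 237, 19, 2), (20, false, 6, 237, 20, 2), (36, false, 6, 237, 36, 2), (38, false, 6, 237, 38, 2), (39, false, 6, 237, 39, 2), (41, false, 6, 237, 41, 2), (42, false, 6, 237, 42, 2), (45, false, 6, 237, 45, 2), (47, false, 6, 237, 47, 2), (48, false, 6, 237, 48, 2), (51, false, 6, 237, 51, 2), (54, false, 6, 237, 54, 2), (73, false, 6, 237, 73, 1), (79, false, 6, 237, 79, 2), (80, false, 6, 237, 80, 2), (83, false, 6, 237, 83, 2), (86, false, 6, 237, 86, 2), (90, false, 6, 237, 90, 2), (99, false, 11, 232, 99, 2), (100, false, 11, 232, 100, 2), (102, false, 11, 232, 102, 2), (103, false, 11, 232, 103, 2), (104, false, 11, 232, 104, 2), (107, false, 6, 237, 107, 1), (112, false, 6, 237, 112, 1), (116, false, 6, 237, 116, 1), (121, false, 6, 237, 121, 1), (122, false, 6, 237, 122, 1), (141, false, 11, 232, 141, 2), (142, false,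 11, 232, 142, 2), (143, false, 11, 232, 143, 2), (145, false, 11, 232, 145, 1), (146, false, 11, 232, 146, 1), (162, false, 23, 224, 162, 2), (169, false, 23, 224, 169, 2), (170, false, 23, 224, 170, 2), (172, false, 23, 224, 172, 1), (173, false, 23, 224, 173, 1), (174, false, 27, 223, 174, 2), (176, false, 27, 223, 176, 1), (177, false, 27, 223, 177, 1), (179, false, 30, 222, 179, 1), (180, false, 30, 222, 180, 1), (183, false, 33, 220, 183, 1), (205, false, 56, 203, 205, 1), (206, false, 56, 203, 206, 1), (209, false, 59, 201, 209, 1), (212, false, 62, 198, 212, 1), (216, false, 66, 192, 216, 1), (228, false, 93, 160, 228, 1), (233, false, 117, 140, 233, 1)]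
def tRow139 : List (ℕ × Bool × ℕ × ℕ × ℕ × ℕ) := [(1, false, 12, 232, 1, 2), (7, false, 6, 238, 7, 2), (15, false, 6, 238, 15, 2), (16, false, 6, 238, 16, 2), (17, false, 6, 238, 17, 2), (18, false, 6, 238, 18, 2), (20, false, 6, 238, 20, 2), (36, false, 6, 238, 36, 2), (37, false, 6, 238, 37, 2), (39, false, 6, 238, 39, 2), (40, false, 6, 238, 40, 2), (42, false, 6, 238, 42, 2), (44, false, 6, 238, 44, 2), (46, false, 6, 238, 46, 2), (48, false, 6, 238, 48, 2), (50, false, 6, 238, 50, 2), (53, false, 6, 238, 53, 2), (72, false, 6, 238, 72, 1), (78, false, 6, 238, 78, 2), (80, false, 6, 238, 80, 2), (82, false, 6, 238, 82, 2), (85, false, 6, 238, 85, 2), (89, false, 6, 238, 89, 2), (99, false, 12, 232, 99, 2), (101, false, 12, 232, 101, 2), (102, false, 12, 232, 102, 2), (103, false, 12, 232, 103, 2), (104, false, 12, 232, 104, 2), (106, false, 6, 238, 106, 1), (111, false, 6, 238, 111, 1), (115, false, 6, 238, 115, 1), (118, false, 6, 238, 118, 1), (120, false, 6, 238, 120, 1), (141, false, 12, 232, 141, 2), (142, false,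 12, 232, 142, 2), (143, false, 12, 232, 143, 2), (144, false, 12, 232, 144, 2), (146, false, 12, 232, 146, 1), (162, false, 24, 224, 162, 2), (169, false, 24, 224, 169, 2), (170, false, 24, 224, 170, 2), (171, false, 24, 224, 171, 2), (173, false, 24, 224, 173, 1), (174, false, 28, 223, 174, 2), (175, false, 28, 223, 175, 2), (177, false, 28, 223, 177, 1), (178, false, 31, 222, 178, 2), (180, false, 31, 222, 180, 1), (182, false, 33, 221, 182, 1), (204, false, 57, 203, 204, 2), (206, false, 57, 203, 206, 1), (208, false, 59, 202, 208, 1), (211, false, 62, 199, 211, 1), (215, false, 66, 193, 215, 1), (227, false, 93, 161, 227, 1), (233, false, 119, 140, 233, 1)]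
def tRow140 : List (ℕ × Bool × ℕ × ℕ × ℕ × ℕ) := [(0, false, 13, 232, 0, 3), (7, false, 6, 239, 7, 2), (15, false, 6, 239, 15, 2), (16, false, 6, 239, 16, 2), (17, false, 6, 239, 17, 2), (18, false, 6, 239, 18, 2), (19, false, 6, 239, 19, 2), (36, false, 6, 239, 36, 2), (37, false, 6, 239, 37, 2), (38, false, 6, 239, 38, 2), (40, false, 6, 239, 40, 2), (41, false, 6, 239, 41, 2), (43, false, 6, 239, 43, 2), (46, false, 6, 239, 46, 2), (47, false, 6, 239, 47, 2), (49, false, 6, 239, 49, 2), (52, false, 6, 239, 52, 2), (71, false, 6, 239, 71, 1), (78, false, 6, 239, 78, 2), (79, false, 6, 239, 79, 2), (81, false, 6, 239, 81, 2), (84, false, 6, 239, 84, 2), (88, false, 6, 239, 88, 2), (100, false, 13, 232, 100, 2), (101, false, 13, 232, 101, 2), (102, false, 13, 232, 102, 2), (103, false, 13, 232, 103, 2), (104, false, 13, 232, 104, 2), (105, false, 6, 239, 105, 1), (110, false, 6, 239, 110, 1), (114, false, 6, 239, 114, 1), (117, false, 6, 239, 117, 1), (119, false, 6, 239, 119, 1), (141, false, 13, 232, 141, 2), (142,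 false, 13, 232, 142, 2), (143, false, 13, 232, 143, 2), (144, false, 13, 232, 144, 2), (145, false, 13, 232, 145, 2), (162, false, 25, 224, 162, 2), (169, false, 25, 224, 169, 2), (170, false, 25, 224, 170, 2), (171, false, 25, 224, 171, 2), (172, false, 25, 224, 172, 2), (174, false, 29, 223, 174, 2), (175, false, 29, 223, 175, 2), (176, false, 29, 223, 176, 2), (178, false, 32, 222, 178, 2), (179, false, 32, 222, 179, 2), (181, false, 34, 221, 181, 2), (204, false, 58, 203, 204, 2), (205, false, 58, 203, 205, 2), (207, false, 60, 202, 207, 2), (210, false, 63, 199, 210, 2), (214, false, 67, 193, 214, 2), (226, false, 94, 161, 226, 2), (233, false, 120, 139, 233, 1)]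
def tRow141 : List (ℕ × Bool × ℕ × ℕ × ℕ × ℕ) := [(5, false, 8, 233, 5, 2), (6, false, 7, 234, 6, 2), (14, false, 7, 234, 14, 2), (26, false, 7, 234, 26, 2), (27, false, 7, 234, 27, 2), (28, false, 7, 234, 28, 2), (29, false, 7, 234, 29, 2), (30, false, 7, 234, 30, 2), (31, false, 7, 234, 31, 2), (32, false, 7, 234, 32, 2), (33, false, 7, 234, 33, 2), (34, false, 7, 234, 34, 2), (35, false, 7, 234, 35, 2), (66, false, 7, 234, 66, 2), (67, false, 7, 234, 67, 2), (68, false, 7, 234, 68, 2), (69, false, 7, 234, 69, 2), (70, false, 7, 234, 70, 2), (88, false, 7, 234, 88, 2), (89, false, 7, 234, 89, 2), (90, false, 7, 234, 90, 2), (91, false, 7, 234, 91, 2), (92, false, 7, 234, 92, 2), (93, false, 8, 233, 93, 2), (94, false, 8, 233, 94, 2), (95, false, 8, 233, 95, 2), (96, false, 8, 233, 96, 2), (97, false, 8, 233, 97, 2), (130, false, 7, 234, 130, 1), (131, false, 7, 234, 131, 1), (132, false, 7, 234, 132, 1), (133, false, 7, 234, 133, 1), (134, false, 7, 234, 134, 1), (136, false, 8, 233, 136, 1), (137, false, 8, 233, 137,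 1), (138, false, 8, 233, 138, 1), (139, false, 8, 233, 139, 1), (140, false, 8, 233, 140, 1), (164, false, 15, 225, 164, 1), (165, false, 15, 225, 165, 1), (166, false, 15, 225, 166, 1), (167, false, 15, 225, 167, 1), (168, false, 15, 225, 168, 1), (194, false, 36, 213, 194, 1), (195, false, 36, 213, 195, 1), (196, false, 36, 213, 196, 1), (197, false, 37, 212, 197, 1), (198, false, 37, 212, 198, 1), (199, false, 38, 211, 199, 1), (200, false, 40, 209, 200, 1), (201, false, 40, 209, 201, 1), (202, false, 41, 208, 202, 1), (203, false, 43, 206, 203, 1), (224, false, 71, 173, 224, 1), (231, false, 99, 151, 231, 1), (232, false, 105, 146, 232, 1)]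
def tRow142 : List (ℕ × Bool × ℕ × ℕ × ℕ × ℕ) := [(4, false, 9, 233, 4, 2), (6, false, 7, 235, 6, 2), (14, false, 7, 235, 14, 2), (22, false, 7, 235, 22, 2), (23, false, 7, 235, 23, 2), (24, false, 7, 235, 24, 2), (25, false, 7, 235, 25, 2), (30, false, 7, 235, 30, 2), (31, false, 7, 235, 31, 2), (32, false, 7, 235, 32, 2), (33, false, 7, 235, 33, 2), (34, false, 7, 235, 34, 2), (35, false, 7, 235, 35, 2), (62, false, 7, 235, 62, 2), (63, false, 7, 235, 63, 2), (64, false, 7, 235, 64, 2), (65, false, 7, 235, 65, 2), (70, false, 7, 235, 70, 2), (84, false, 7, 235, 84, 2), (85, false, 7, 235, 85, 2), (86, false, 7, 235, 86, 2), (87, false, 7, 235, 87, 2), (92, false, 7, 235, 92, 2), (93, false, 9, 233, 93, 2), (94, false, 9, 233, 94, 2), (95, false, 9, 233, 95, 2), (96, false, 9, 233, 96, 2), (98, false, 9, 233, 98, 2), (109, false, 7, 235, 109, 1), (126, false, 7, 235, 126, 1), (127, false, 7, 235, 127, 1), (128, false, 7, 235, 128, 1), (129, false, 7, 235, 129, 1), (135, false, 9, 233, 135, 2), (137, false, 9, 233, 137,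 1), (138, false, 9, 233, 138, 1), (139, false, 9, 233, 139, 1), (140, false, 9, 233, 140, 1), (163, false, 16, 225, 163, 2), (165, false, 16, 225, 165, 1), (166, false, 16, 225, 166, 1), (167, false, 16, 225, 167, 1), (168, false, 16, 225, 168, 1), (188, false, 36, 217, 188, 1), (189, false, 36, 217, 189, 1), (190, false, 36, 217, 190, 1), (191, false, 37, 216, 191, 1), (192, false, 37, 216, 192, 1), (193, false, 38, 215, 193, 1), (200, false, 46, 209, 200, 1), (201, false, 46, 209, 201, 1), (202, false, 47, 208, 202, 1), (203, false, 49, 206, 203, 1), (223, false, 71, 177, 223, 1), (230, false, 99, 155, 230, 1), (232, false, 110, 146, 232, 1)]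
def tRow143 : List (ℕ × Bool × ℕ × ℕ × ℕ × ℕ) := [(3, false, 10, 233, 3, 2), (6, false, 7, 236, 6, 2), (14, false, 7, 236, 14, 2), (21, false, 7, 236, 21, 2), (23, false, 7, 236, 23, 2), (24, false, 7, 236, 24, 2), (25, false, 7, 236, 25, 2), (27, false, 7, 236, 27, 2), (28, false, 7, 236, 28, 2), (29, false, 7, 236, 29, 2), (33, false, 7, 236, 33, 2), (34, false, 7, 236, 34, 2), (35, false, 7, 236, 35, 2), (59, false, 7, 236, 59, 2), (60, false, 7, 236, 60, 2), (61, false, 7, 236, 61, 2), (65, false, 7, 236, 65, 2), (69, false, 7, 236, 69, 2), (81, false, 7, 236, 81, 2), (82, false, 7, 236, 82, 2), (83, false, 7, 236, 83, 2), (87, false, 7, 236, 87, 2), (91, false, 7, 236, 91, 2), (93, false, 10, 233, 93, 2), (94, false, 10, 233, 94, 2), (95, false, 10, 233, 95, 2), (97, false, 10, 233, 97, 2), (98, false, 10, 233, 98, 2), (108, false, 7, 236, 108, 1), (113, false, 7, 236, 113, 1), (123, false, 7, 236, 123, 1), (124, false, 7, 236, 124, 1), (125, false, 7, 236, 125, 1), (135, false, 10, 233, 135, 2), (136, false, 10,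 233, 136, 2), (138, false, 10, 233, 138, 1), (139, false, 10, 233, 139, 1), (140, false, 10, 233, 140, 1), (163, false, 17, 225, 163, 2), (164, false, 17, 225, 164, 2), (166, false, 17, 225, 166, 1), (167, false, 17, 225, 167, 1), (168, false, 17, 225, 168, 1), (185, false, 36, 218, 185, 1), (186, false, 36, 218, 186, 1), (187, false, 36, 218, 187, 1), (191, false, 40, 216, 191, 1), (192, false, 40, 216, 192, 1), (193, false, 41, 215, 193, 1), (197, false, 46, 212, 197, 1), (198, false, 46, 212, 198, 1), (199, false, 47, 211, 199, 1), (203, false, 52, 206, 203, 1), (222, false, 71, 180, 222, 1), (229, false, 99, 158, 229, 1), (232, false, 114, 146, 232, 1)]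
def tRow144 : List (ℕ × Bool × ℕ × ℕ × ℕ × ℕ) := [(2, false, 11, 233, 2, 2), (6, false, 7, 237, 6, 2), (14, false, 7, 237, 14, 2), (21, false, 7, 237, 21, 2), (22, false, 7, 237, 22, 2), (24, false, 7, 237, 24, 2), (25, false, 7, 237, 25, 2), (26, false, 7, 237, 26, 2), (28, false, 7, 237, 28, 2), (29, false, 7, 237, 29, 2), (31, false, 7, 237, 31, 2), (32, false, 7, 237, 32, 2), (35, false, 7, 237, 35, 2), (57, false, 7, 237, 57, 2), (58, false, 7, 237, 58, 2), (61, false, 7, 237, 61, 2), (64, false, 7, 237, 64, 2), (68, false, 7, 237, 68, 2), (79, false, 7, 237, 79, 2), (80, false, 7, 237, 80, 2), (83, false, 7, 237, 83, 2), (86, false, 7, 237, 86, 2), (90, false, 7, 237, 90, 2), (93, false, 11, 233, 93, 2), (94, false, 11, 233, 94, 2), (96, false, 11, 233, 96, 2), (97, false, 11, 233, 97, 2), (98, false, 11, 233, 98, 2), (107, false, 7, 237, 107, 1), (112, false, 7, 237, 112, 1), (116, false, 7, 237, 116, 1), (121, false, 7, 237, 121, 1), (122, false, 7, 237, 122, 1), (135, false, 11, 233, 135, 2), (136, false, 11,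 233, 136, 2), (137, false, 11, 233, 137, 2), (139, false, 11, 233, 139, 1), (140, false, 11, 233, 140, 1), (163, false, 18, 225, 163, 2), (164, false, 18, 225, 164, 2), (165, false, 18, 225, 165, 2), (167, false, 18, 225, 167, 1), (168, false, 18, 225, 168, 1), (184, false, 37, 218, 184, 2), (186, false, 37, 218, 186, 1), (187, false, 37, 218, 187, 1), (189, false, 40, 217, 189, 1), (190, false, 40, 217, 190, 1), (193, false, 43, 215, 193, 1), (195, false, 46, 213, 195, 1), (196, false, 46, 213, 196, 1), (199, false, 49, 211, 199, 1), (202, false, 52, 208, 202, 1), (221, false, 71, 182, 221, 1), (228, false, 99, 160, 228, 1), (232, false, 117, 146, 232, 1)]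
def tRow145 : List (ℕ × Bool × ℕ × ℕ × ℕ × ℕ) := [(1, false, 12, 233, 1, 2), (6, false, 7, 238, 6, 2), (14, false, 7, 238, 14, 2), (21, false, 7, 238, 21, 2), (22, false, 7, 238, 22, 2), (23, false, 7, 238, 23, 2), (25, false, 7, 238, 25, 2), (26, false, 7, 238, 26, 2), (27, false, 7, 238, 27, 2), (29, false, 7, 238, 29, 2), (30, false, 7, 238, 30, 2), (32, false, 7, 238, 32, 2), (34, false, 7, 238, 34, 2), (56, false, 7, 238, 56, 2), (58, false, 7, 238, 58, 2), (60, false, 7, 238, 60, 2), (63, false, 7, 238, 63, 2), (67, false, 7, 238, 67, 2), (78, false, 7, 238, 78, 2), (80, false, 7, 238, 80, 2), (82, false, 7, 238, 82, 2), (85, false, 7, 238, 85, 2), (89, false, 7, 238, 89, 2), (93, false, 12, 233, 93, 2), (95, false, 12, 233, 95, 2), (96, false, 12, 233, 96, 2), (97, false, 12, 233, 97, 2), (98, false, 12, 233, 98, 2), (106, false, 7, 238, 106, 1), (111, false, 7, 238, 111, 1), (115, false, 7, 238, 115, 1), (118, false, 7, 238, 118, 1), (120, false, 7, 238, 120, 1), (135, false, 12, 233, 135, 2), (136, false, 12,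 233, 136, 2), (137, false, 12, 233, 137, 2), (138, false, 12, 233, 138, 2), (140, false, 12, 233, 140, 1), (163, false, 19, 225, 163, 2), (164, false, 19, 225, 164, 2), (165, false, 19, 225, 165, 2), (166, false, 19, 225, 166, 2), (168, false, 19, 225, 168, 1), (184, false, 38, 218, 184, 2), (185, false, 38, 218, 185, 2), (187, false, 38, 218, 187, 1), (188, false, 41, 217, 188, 2), (190, false, 41, 217, 190, 1), (192, false, 43, 216, 192, 1), (194, false, 47, 213, 194, 2), (196, false, 47, 213, 196, 1), (198, false, 49, 212, 198, 1), (201, false, 52, 209, 201, 1), (220, false, 71, 183, 220, 1), (227, false, 99, 161, 227, 1), (232, false, 119, 146, 232, 1)]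
def tRow146 : List (ℕ × Bool × ℕ × ℕ × ℕ × ℕ) := [(0, false, 13, 233, 0, 3), (6, false, 7, 239, 6, 2), (14, false, 7, 239, 14, 2), (21, false, 7, 239, 21, 2), (22, false, 7, 239, 22, 2), (23, false, 7, 239, 23, 2), (24, false, 7, 239, 24, 2), (26, false, 7, 239, 26, 2), (27, false, 7, 239, 27, 2), (28, false, 7, 239, 28, 2), (30, false, 7, 239, 30, 2), (31, false, 7, 239, 31, 2), (33, false, 7, 239, 33, 2), (56, false, 7, 239, 56, 2), (57, false, 7, 239, 57, 2), (59, false, 7, 239, 59, 2), (62, false, 7, 239, 62, 2), (66, false, 7, 239, 66, 2), (78, false, 7, 239, 78, 2), (79, false, 7, 239, 79, 2), (81, false, 7, 239, 81, 2), (84, false, 7, 239, 84, 2), (88, false, 7, 239, 88, 2), (94, false, 13, 233, 94, 2), (95, false, 13, 233, 95, 2), (96, false, 13, 233, 96, 2), (97, false, 13, 233, 97, 2), (98, false, 13, 233, 98, 2), (105, false, 7, 239, 105, 1), (110, false, 7, 239, 110, 1), (114, false, 7, 239, 114, 1), (117, false, 7, 239, 117, 1), (119, false, 7, 239, 119, 1), (135, false, 13, 233, 135, 2), (136, false, 13,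 233, 136, 2), (137, false, 13, 233, 137, 2), (138, false, 13, 233, 138, 2), (139, false, 13, 233, 139, 2), (163, false, 20, 225, 163, 2), (164, false, 20, 225, 164, 2), (165, false, 20, 225, 165, 2), (166, false, 20, 225, 166, 2), (167, false, 20, 225, 167, 2), (184, false, 39, 218, 184, 2), (185, false, 39, 218, 185, 2), (186, false, 39, 218, 186, 2), (188, false, 42, 217, 188, 2), (189, false, 42, 217, 189, 2), (191, false, 44, 216, 191, 2), (194, false, 48, 213, 194, 2), (195, false, 48, 213, 195, 2), (197, false, 50, 212, 197, 2), (200, false, 53, 209, 200, 2), (219, false, 72, 183, 219, 2), (226, false, 100, 161, 226, 2), (232, false, 120, 145, 232, 1)]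
def tRow147 : List (ℕ × Bool × ℕ × ℕ × ℕ × ℕ) := [(4, false, 9, 234, 4, 2), (5, false, 8, 235, 5, 2), (14, false, 8, 235, 14, 2), (17, false, 8, 235, 17, 2), (18, false, 8, 235, 18, 2), (19, false, 8, 235, 19, 2), (20, false, 8, 235, 20, 2), (30, false, 8, 235, 30, 2), (31, false, 8, 235, 31, 2), (32, false, 8, 235, 32, 2), (33, false, 8, 235, 33, 2), (34, false, 8, 235, 34, 2), (35, false, 8, 235, 35, 2), (52, false, 8, 235, 52, 2), (53, false, 8, 235, 53, 2), (54, false, 8, 235, 54, 2), (55, false, 8, 235, 55, 2), (70, false, 8, 235, 70, 2), (84, false, 8, 235, 84, 2), (85, false, 8, 235, 85, 2), (86, false, 8, 235, 86, 2), (87, false, 8, 235, 87, 2), (88, false, 9, 234, 88, 2), (89, false, 9, 234, 89, 2), (90, false, 9, 234, 90, 2), (91, false, 9, 234, 91, 2), (97, false, 8, 235, 97, 2), (98, false, 9, 234, 98, 2), (103, false, 8, 235, 103, 2), (104, false, 9, 234, 104, 2), (126, false, 8, 235, 126, 1), (127, false, 8, 235, 127, 1), (128, false, 8, 235, 128, 1), (129, false, 8, 235, 129, 1), (131, false, 9, 234, 131,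 1), (132, false, 9, 234, 132, 1), (133, false, 9, 234, 133, 1), (134, false, 9, 234, 134, 1), (162, false, 21, 225, 162, 2), (165, false, 21, 225, 165, 1), (166, false, 21, 225, 166, 1), (167, false, 21, 225, 167, 1), (168, false, 21, 225, 168, 1), (178, false, 36, 222, 178, 1), (179, false, 36, 222, 179, 1), (180, false, 36, 222, 180, 1), (181, false, 37, 221, 181, 1), (182, false, 37, 221, 182, 1), (183, false, 38, 220, 183, 1), (200, false, 56, 209, 200, 1), (201, false, 56, 209, 201, 1), (202, false, 57, 208, 202, 1), (203, false, 59, 206, 203, 1), (218, false, 71, 187, 218, 1), (230, false, 105, 155, 230, 1), (231, false, 110, 151, 231, 1)]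
def tRow148 : List (ℕ × Bool × ℕ × ℕ × ℕ × ℕ) := [(3, false, 10, 234, 3, 2), (5, false, 8, 236, 5, 2), (14, false, 8, 236, 14, 2), (16, false, 8, 236, 16, 2), (18, false, 8, 236, 18, 2), (19, false, 8, 236, 19, 2), (20, false, 8, 236, 20, 2), (27, false, 8, 236, 27, 2), (28, false, 8, 236, 28, 2), (29, false, 8, 236, 29, 2), (33, false, 8, 236, 33, 2), (34, false, 8, 236, 34, 2), (35, false, 8, 236, 35, 2), (49, false, 8, 236, 49, 2), (50, false, 8, 236, 50, 2), (51, false, 8, 236, 51, 2), (55, false, 8, 236, 55, 2), (69, false, 8, 236, 69, 2), (81, false, 8, 236, 81, 2), (82, false, 8, 236, 82, 2), (83, false, 8, 236, 83, 2), (87, false, 8, 236, 87, 2), (88, false, 10, 234, 88, 2), (89, false, 10, 234, 89, 2), (90, false, 10, 234, 90, 2), (92, false, 10, 234, 92, 2), (96, false, 8, 236, 96, 2), (98, false, 10, 234, 98, 2), (102, false, 8, 236, 102, 2), (104, false, 10, 234, 104, 2), (113, false, 8, 236, 113, 1), (123, false, 8, 236, 123, 1), (124, false, 8, 236, 124, 1), (125, false, 8, 236, 125, 1), (130, false, 10,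 234, 130, 2), (132, false, 10, 234, 132, 1), (133, false, 10, 234, 133, 1), (134, false, 10, 234, 134, 1), (162, false, 22, 225, 162, 2), (164, false, 22, 225, 164, 2), (166, false, 22, 225, 166, 1), (167, false, 22, 225, 167, 1), (168, false, 22, 225, 168, 1), (175, false, 36, 223, 175, 1), (176, false, 36, 223, 176, 1), (177, false, 36, 223, 177, 1), (181, false, 40, 221, 181, 1), (182, false, 40, 221, 182, 1), (183, false, 41, 220, 183, 1), (197, false, 56, 212, 197, 1), (198, false, 56, 212, 198, 1), (199, false, 57, 211, 199, 1), (203, false, 62, 206, 203, 1), (217, false, 71, 190, 217, 1), (229, false, 105, 158, 229, 1), (231, false, 114, 151, 231, 1)]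
def tRow149 : List (ℕ × Bool × ℕ × ℕ × ℕ × ℕ) := [(2, false, 11, 234, 2, 2), (5, false, 8, 237, 5, 2), (14, false, 8, 237, 14, 2), (16, false, 8, 237, 16, 2), (17, false, 8, 237, 17, 2), (19, false, 8, 237, 19, 2), (20, false, 8, 237, 20, 2), (26, false, 8, 237, 26, 2), (28, false, 8, 237, 28, 2), (29, false, 8, 237, 29, 2), (31, false, 8, 237, 31, 2), (32, false, 8, 237, 32, 2), (35, false, 8, 237, 35, 2), (47, false, 8, 237, 47, 2), (48, false, 8, 237, 48, 2), (51, false, 8, 237, 51, 2), (54, false, 8, 237, 54, 2), (68, false, 8, 237, 68, 2), (79, false, 8, 237, 79, 2), (80, false, 8, 237, 80, 2), (83, false, 8, 237, 83, 2), (86, false, 8, 237, 86, 2), (88, false, 11, 234, 88, 2), (89, false, 11, 234, 89, 2), (91, false, 11, 234, 91, 2), (92, false, 11, 234, 92, 2), (95, false, 8, 237, 95, 2), (98, false, 11, 234, 98, 2), (101, false, 8, 237, 101, 2), (104, false, 11, 234, 104, 2), (112, false, 8, 237, 112, 1), (116, false, 8, 237, 116, 1), (121, false, 8, 237, 121, 1), (122, false, 8, 237, 122, 1), (130, false, 11,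 234, 130, 2), (131, false, 11, 234, 131, 2), (133, false, 11, 234, 133, 1), (134, false, 11, 234, 134, 1), (162, false, 23, 225, 162, 2), (164, false, 23, 225, 164, 2), (165, false, 23, 225, 165, 2), (167, false, 23, 225, 167, 1), (168, false, 23, 225, 168, 1), (174, false, 37, 223, 174, 2), (176, false, 37, 223, 176, 1), (177, false, 37, 223, 177, 1), (179, false, 40, 222, 179, 1), (180, false, 40, 222, 180, 1), (183, false, 43, 220, 183, 1), (195, false, 56, 213, 195, 1), (196, false, 56, 213, 196, 1), (199, false, 59, 211, 199, 1), (202, false, 62, 208, 202, 1), (216, false, 71, 192, 216, 1), (228, false, 105, 160, 228, 1), (231, false, 117, 151, 231, 1)]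
def tRow150 : List (ℕ × Bool × ℕ × ℕ × ℕ × ℕ) := [(1, false, 12, 234, 1, 2), (5, false, 8, 238, 5, 2), (14, false, 8, 238, 14, 2), (16, false, 8, 238, 16, 2), (17, false, 8, 238, 17, 2), (18, false, 8, 238, 18, 2), (20, false, 8, 238, 20, 2), (26, false, 8, 238, 26, 2), (27, false, 8, 238, 27, 2), (29, false, 8, 238, 29, 2), (30, false, 8, 238, 30, 2), (32, false, 8, 238, 32, 2), (34, false, 8, 238, 34, 2), (46, false, 8, 238, 46, 2), (48, false, 8, 238, 48, 2), (50, false, 8, 238, 50, 2), (53, false, 8, 238, 53, 2), (67, false, 8, 238, 67, 2), (78, false, 8, 238, 78, 2), (80, false, 8, 238, 80, 2), (82, false, 8, 238, 82, 2), (85, false, 8, 238, 85, 2), (88, false, 12, 234, 88, 2), (90, false, 12, 234, 90, 2), (91, false, 12, 234, 91, 2), (92, false, 12, 234, 92, 2), (94, false, 8, 238, 94, 2), (98, false, 12, 234, 98, 2), (100, false, 8, 238, 100, 2), (104, false, 12, 234, 104, 2), (111, false, 8, 238, 111, 1), (115, false, 8, 238, 115, 1), (118, false, 8, 238, 118, 1), (120, false, 8, 238, 120, 1), (130, false, 12,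 234, 130, 2), (131, false, 12, 234, 131, 2), (132, false, 12, 234, 132, 2), (134, false, 12, 234, 134, 1), (162, false, 24, 225, 162, 2), (164, false, 24, 225, 164, 2), (165, false, 24, 225, 165, 2), (166, false, 24, 225, 166, 2), (168, false, 24, 225, 168, 1), (174, false, 38, 223, 174, 2), (175, false, 38, 223, 175, 2), (177, false, 38, 223, 177, 1), (178, false, 41, 222, 178, 2), (180, false, 41, 222, 180, 1), (182, false, 43, 221, 182, 1), (194, false, 57, 213, 194, 2), (196, false, 57, 213, 196, 1), (198, false, 59, 212, 198, 1), (201, false, 62, 209, 201, 1), (215, false, 71, 193, 215, 1), (227, false, 105, 161, 227, 1), (231, false, 119, 151, 231, 1)]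
def tRow151 : List (ℕ × Bool × ℕ × ℕ × ℕ × ℕ) := [(0, false, 13, 234, 0, 3), (5, false, 8, 239, 5, 2), (14, false, 8, 239, 14, 2), (16, false, 8, 239, 16, 2), (17, false, 8, 239, 17, 2), (18, false, 8, 239, 18, 2), (19, false, 8, 239, 19, 2), (26, false, 8, 239, 26, 2), (27, false, 8, 239, 27, 2), (28, false, 8, 239, 28, 2), (30, false, 8, 239, 30, 2), (31, false, 8, 239, 31, 2), (33, false, 8, 239, 33, 2), (46, false, 8, 239, 46, 2), (47, false, 8, 239, 47, 2), (49, false, 8, 239, 49, 2), (52, false, 8, 239, 52, 2), (66, false, 8, 239, 66, 2), (78, false, 8, 239, 78, 2), (79, false, 8, 239, 79, 2), (81, false, 8, 239, 81, 2), (84, false, 8, 239, 84, 2), (89, false, 13, 234, 89, 2), (90, false, 13, 234, 90, 2), (91, false, 13, 234, 91, 2), (92, false, 13, 234, 92, 2), (93, false, 8, 239, 93, 2), (98, false, 13, 234, 98, 2), (99, false, 8, 239, 99, 2), (104, false, 13, 234, 104, 2), (110, false, 8, 239, 110, 1), (114, false, 8, 239, 114, 1), (117, false, 8, 239, 117, 1), (119, false, 8, 239, 119, 1), (130, false, 13, 234,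 130, 2), (131, false, 13, 234, 131, 2), (132, false, 13, 234, 132, 2), (133, false, 13, 234, 133, 2), (162, false, 25, 225, 162, 2), (164, false, 25, 225, 164, 2), (165, false, 25, 225, 165, 2), (166, false, 25, 225, 166, 2), (167, false, 25, 225, 167, 2), (174, false, 39, 223, 174, 2), (175, false, 39, 223, 175, 2), (176, false, 39, 223, 176, 2), (178, false, 42, 222, 178, 2), (179, false, 42, 222, 179, 2), (181, false, 44, 221, 181, 2), (194, false, 58, 213, 194, 2), (195, false, 58, 213, 195, 2), (197, false, 60, 212, 197, 2), (200, false, 63, 209, 200, 2), (214, false, 72, 193, 214, 2), (226, false, 106, 161, 226, 2), (231, false, 120, 150, 231, 1)]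
def tRow152 : List (ℕ × Bool × ℕ × ℕ × ℕ × ℕ) := [(3, false, 10, 235, 3, 2), (4, false, 9, 236, 4, 2), (14, false, 9, 236, 14, 2), (15, false, 9, 236, 15, 2), (18, false, 9, 236, 18, 2), (19, false, 9, 236, 19, 2), (20, false, 9, 236, 20, 2), (23, false, 9, 236, 23, 2), (24, false, 9, 236, 24, 2), (25, false, 9, 236, 25, 2), (33, false, 9, 236, 33, 2), (34, false, 9, 236, 34, 2), (35, false, 9, 236, 35, 2), (43, false, 9, 236, 43, 2), (44, false, 9, 236, 44, 2), (45, false, 9, 236, 45, 2), (55, false, 9, 236, 55, 2), (65, false, 9, 236, 65, 2), (81, false, 9, 236, 81, 2), (82, false, 9, 236, 82, 2), (83, false, 9, 236, 83, 2), (84, false, 10, 235, 84, 2), (85, false, 10, 235, 85, 2), (86, false, 10, 235, 86, 2), (91, false, 9, 236, 91, 2), (92, false, 10, 235, 92, 2), (96, false, 9, 236, 96, 2), (97, false, 10, 235, 97, 2), (102, false, 9, 236, 102, 2), (103, false, 10, 235, 103, 2), (108, false, 9, 236, 108, 2), (109, false, 10, 235, 109, 2), (123, false, 9, 236, 123, 1), (124, false, 9, 236, 124, 1), (125, false, 9,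 236, 125, 1), (127, false, 10, 235, 127, 1), (128, false, 10, 235, 128, 1), (129, false, 10, 235, 129, 1), (162, false, 26, 225, 162, 2), (163, false, 26, 225, 163, 2), (166, false, 26, 225, 166, 1), (167, false, 26, 225, 167, 1), (168, false, 26, 225, 168, 1), (171, false, 36, 224, 171, 1), (172, false, 36, 224, 172, 1), (173, false, 36, 224, 173, 1), (181, false, 46, 221, 181, 1), (182, false, 46, 221, 182, 1), (183, false, 47, 220, 183, 1), (191, false, 56, 216, 191, 1), (192, false, 56, 216, 192, 1), (193, false, 57, 215, 193, 1), (203, false, 66, 206, 203, 1), (213, false, 71, 196, 213, 1), (229, false, 110, 158, 229, 1), (230, false, 114, 155, 230, 1)]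
def tRow153 : List (ℕ × Bool × ℕ × ℕ × ℕ × ℕ) := [(2, false, 11, 235, 2, 2), (4, false, 9, 237, 4, 2), (14, false, 9, 237, 14, 2), (15, false, 9, 237, 15, 2), (17, false, 9, 237, 17, 2), (19, false, 9, 237, 19, 2), (20, false, 9, 237, 20, 2), (22, false, 9, 237, 22, 2), (24, false, 9, 237, 24, 2), (25, false, 9, 237, 25, 2), (31, false, 9, 237, 31, 2), (32, false, 9, 237, 32, 2), (35, false, 9, 237, 35, 2), (41, false, 9, 237, 41, 2), (42, false, 9, 237, 42, 2), (45, false, 9, 237, 45, 2), (54, false, 9, 237, 54, 2), (64, false, 9, 237, 64, 2), (79, false, 9, 237, 79, 2), (80, false, 9, 237, 80, 2), (83, false, 9, 237, 83, 2), (84, false, 11, 235, 84, 2), (85, false, 11, 235, 85, 2), (87, false, 11, 235, 87, 2), (90, false, 9, 237, 90, 2), (92, false, 11, 235, 92, 2), (95, false, 9, 237, 95, 2), (97, false, 11, 235, 97, 2), (101, false, 9, 237, 101, 2), (103, false, 11, 235, 103, 2), (107, false, 9, 237, 107, 2), (109, false, 11, 235, 109, 2), (116, false, 9, 237, 116, 1), (121, false, 9, 237, 121, 1), (122, false, 9,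 237, 122, 1), (126, false, 11, 235, 126, 2), (128, false, 11, 235, 128, 1), (129, false, 11, 235, 129, 1), (162, false, 27, 225, 162, 2), (163, false, 27, 225, 163, 2), (165, false, 27, 225, 165, 2), (167, false, 27, 225, 167, 1), (168, false, 27, 225, 168, 1), (170, false, 37, 224, 170, 2), (172, false, 37, 224, 172, 1), (173, false, 37, 224, 173, 1), (179, false, 46, 222, 179, 1), (180, false, 46, 222, 180, 1), (183, false, 49, 220, 183, 1), (189, false, 56, 217, 189, 1), (190, false, 56, 217, 190, 1), (193, false, 59, 215, 193, 1), (202, false, 66, 208, 202, 1), (212, false, 71, 198, 212, 1), (228, false, 110, 160, 228, 1), (230, false, 117, 155, 230, 1)]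
def tRow154 : List (ℕ × Bool × ℕ × ℕ × ℕ × ℕ) := [(1, false, 12, 235, 1, 2), (4, false, 9, 238, 4, 2), (14, false, 9, 238, 14, 2), (15, false, 9, 238, 15, 2), (17, false, 9, 238, 17, 2), (18, false, 9, 238, 18, 2), (20, false, 9, 238, 20, 2), (22, false, 9, 238, 22, 2), (23, false, 9, 238, 23, 2), (25, false, 9, 238, 25, 2), (30, false, 9, 238, 30, 2), (32, false, 9, 238, 32, 2), (34, false, 9, 238, 34, 2), (40, false, 9, 238, 40, 2), (42, false, 9, 238, 42, 2), (44, false, 9, 238, 44, 2), (53, false, 9, 238, 53, 2), (63, false, 9, 238, 63, 2), (78, false, 9, 238, 78, 2), (80, false, 9, 238, 80, 2), (82, false, 9, 238, 82, 2), (84, false, 12, 235, 84, 2), (86, false, 12, 235, 86, 2), (87, false, 12, 235, 87, 2), (89, false, 9, 238, 89, 2), (92, false, 12, 235, 92, 2), (94, false, 9, 238, 94, 2), (97, false, 12, 235, 97, 2), (100, false, 9, 238, 100, 2), (103, false, 12, 235, 103, 2), (106, false, 9, 238, 106, 2), (109, false, 12, 235, 109, 2), (115, false, 9, 238, 115, 1), (118, false, 9, 238, 118, 1), (120, false, 9,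 238, 120, 1), (126, false, 12, 235, 126, 2), (127, false, 12, 235, 127, 2), (129, false, 12, 235, 129, 1), (162, false, 28, 225, 162, 2), (163, false, 28, 225, 163, 2), (165, false, 28, 225, 165, 2), (166, false, 28, 225, 166, 2), (168, false, 28, 225, 168, 1), (170, false, 38, 224, 170, 2), (171, false, 38, 224, 171, 2), (173, false, 38, 224, 173, 1), (178, false, 47, 222, 178, 2), (180, false, 47, 222, 180, 1), (182, false, 49, 221, 182, 1), (188, false, 57, 217, 188, 2), (190, false, 57, 217, 190, 1), (192, false, 59, 216, 192, 1), (201, false, 66, 209, 201, 1), (211, false, 71, 199, 211, 1), (227, false, 110, 161, 227, 1), (230, false, 119, 155, 230, 1)]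
def tRow155 : List (ℕ × Bool × ℕ × ℕ × ℕ × ℕ) := [(0, false, 13, 235, 0, 3), (4, false, 9, 239, 4, 2), (14, false, 9, 239, 14, 2), (15, false, 9, 239, 15, 2), (17, false, 9, 239, 17, 2), (18, false, 9, 239, 18, 2), (19, false, 9, 239, 19, 2), (22, false, 9, 239, 22, 2), (23, false, 9, 239, 23, 2), (24, false, 9, 239, 24, 2), (30, false, 9, 239, 30, 2), (31, false, 9, 239, 31, 2), (33, false, 9, 239, 33, 2), (40, false, 9, 239, 40, 2), (41, false, 9, 239, 41, 2), (43, false, 9, 239, 43, 2), (52, false, 9, 239, 52, 2), (62, false, 9, 239, 62, 2), (78, false, 9, 239, 78, 2), (79, false, 9, 239, 79, 2), (81, false, 9, 239, 81, 2), (85, false, 13, 235, 85, 2), (86, false, 13, 235, 86, 2), (87, false, 13, 235, 87, 2), (88, false, 9, 239, 88, 2), (92, false, 13, 235, 92, 2), (93, false, 9, 239, 93, 2), (97, false, 13, 235, 97, 2), (99, false, 9, 239, 99, 2), (103, false, 13, 235, 103, 2), (105, false, 9, 239, 105, 2), (109, false, 13, 235, 109, 2), (114, false, 9, 239, 114, 1), (117, false, 9, 239, 117, 1), (119, false, 9, 239,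 119, 1), (126, false, 13, 235, 126, 2), (127, false, 13, 235, 127, 2), (128, false, 13, 235, 128, 2), (162, false, 29, 225, 162, 2), (163, false, 29, 225, 163, 2), (165, false, 29, 225, 165, 2), (166, false, 29, 225, 166, 2), (167, false, 29, 225, 167, 2), (170, false, 39, 224, 170, 2), (171, false, 39, 224, 171, 2), (172, false, 39, 224, 172, 2), (178, false, 48, 222, 178, 2), (179, false, 48, 222, 179, 2), (181, false, 50, 221, 181, 2), (188, false, 58, 217, 188, 2), (189, false, 58, 217, 189, 2), (191, false, 60, 216, 191, 2), (200, false, 67, 209, 200, 2), (210, false, 72, 199, 210, 2), (226, false, 111, 161, 226, 2), (230, false, 120, 154, 230, 1)]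
def tRow156 : List (ℕ × Bool × ℕ × ℕ × ℕ × ℕ) := [(2, false, 11, 236, 2, 2), (3, false, 10, 237, 3, 2), (14, false, 10, 237, 14, 2), (15, false, 10, 237, 15, 2), (16, false, 10, 237, 16, 2), (19, false, 10, 237, 19, 2), (20, false, 10, 237, 20, 2), (21, false, 10, 237, 21, 2), (24, false, 10, 237, 24, 2), (25, false, 10, 237, 25, 2), (28, false, 10, 237, 28, 2), (29, false, 10, 237, 29, 2), (35, false, 10, 237, 35, 2), (38, false, 10, 237, 38, 2), (39, false, 10, 237, 39, 2), (45, false, 10, 237, 45, 2), (51, false, 10, 237, 51, 2), (61, false, 10, 237, 61, 2), (79, false, 10, 237, 79, 2), (80, false, 10, 237, 80, 2), (81, false, 11, 236, 81, 2), (82, false, 11, 236, 82, 2), (86, false, 10, 237, 86, 2), (87, false, 11, 236, 87, 2), (90, false, 10, 237, 90, 2), (91, false, 11, 236, 91, 2), (95, false, 10, 237, 95, 2), (96, false, 11, 236, 96, 2), (101, false, 10, 237, 101, 2), (102, false, 11, 236, 102, 2), (107, false, 10, 237, 107, 2), (108, false, 11, 236, 108, 2), (112, false, 10, 237, 112, 2), (113, false, 11, 236,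 113, 2), (121, false, 10, 237, 121, 1), (122, false, 10, 237, 122, 1), (124, false, 11, 236, 124, 1), (125, false, 11, 236, 125, 1), (162, false, 30, 225, 162, 2), (163, false, 30, 225, 163, 2), (164, false, 30, 225, 164, 2), (167, false, 30, 225, 167, 1), (168, false, 30, 225, 168, 1), (169, false, 40, 224, 169, 2), (172, false, 40, 224, 172, 1), (173, false, 40, 224, 173, 1), (176, false, 46, 223, 176, 1), (177, false, 46, 223, 177, 1), (183, false, 52, 220, 183, 1), (186, false, 56, 218, 186, 1), (187, false, 56, 218, 187, 1), (193, false, 62, 215, 193, 1), (199, false, 66, 211, 199, 1), (209, false, 71, 201, 209, 1), (228, false, 114, 160, 228, 1), (229, false, 117, 158, 229, 1)]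
def tRow157 : List (ℕ × Bool × ℕ × ℕ × ℕ × ℕ) := [(1, false, 12, 236, 1, 2), (3, false, 10, 238, 3, 2), (14, false, 10, 238, 14, 2), (15, false, 10, 238, 15, 2), (16, false, 10, 238, 16, 2), (18, false, 10, 238, 18, 2), (20, false, 10, 238, 20, 2), (21, false, 10, 238, 21, 2), (23, false, 10, 238, 23, 2), (25, false, 10, 238, 25, 2), (27, false, 10, 238, 27, 2), (29, false, 10, 238, 29, 2), (34, false, 10, 238, 34, 2), (37, false, 10, 238, 37, 2), (39, false, 10, 238, 39, 2), (44, false, 10, 238, 44, 2), (50, false, 10, 238, 50, 2), (60, false, 10, 238, 60, 2), (78, false, 10, 238, 78, 2), (80, false, 10, 238, 80, 2), (81, false, 12, 236, 81, 2), (83, false, 12, 236, 83, 2), (85, false, 10, 238, 85, 2), (87, false, 12, 236, 87, 2), (89, false, 10, 238, 89, 2), (91, false, 12, 236, 91, 2), (94, false, 10, 238, 94, 2), (96, false, 12, 236, 96, 2), (100, false, 10, 238, 100, 2), (102, false, 12, 236, 102, 2), (106, false, 10, 238, 106, 2), (108, false, 12, 236, 108, 2), (111, false, 10, 238, 111, 2), (113, false, 12, 236,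 113, 2), (118, false, 10, 238, 118, 1), (120, false, 10, 238, 120, 1), (123, false, 12, 236, 123, 2), (125, false, 12, 236, 125, 1), (162, false, 31, 225, 162, 2), (163, false, 31, 225, 163, 2), (164, false, 31, 225, 164, 2), (166, false, 31, 225, 166, 2), (168, false, 31, 225, 168, 1), (169, false, 41, 224, 169, 2), (171, false, 41, 224, 171, 2), (173, false, 41, 224, 173, 1), (175, false, 47, 223, 175, 2), (177, false, 47, 223, 177, 1), (182, false, 52, 221, 182, 1), (185, false, 57, 218, 185, 2), (187, false, 57, 218, 187, 1), (192, false, 62, 216, 192, 1), (198, false, 66, 212, 198, 1), (208, false, 71, 202, 208, 1), (227, false, 114, 161, 227, 1), (229, false, 119, 158, 229, 1)]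
def tRow158 : List (ℕ × Bool × ℕ × ℕ × ℕ × ℕ) := [(0, false, 13, 236, 0, 3), (3, false, 10, 239, 3, 2), (14, false, 10, 239, 14, 2), (15, false, 10, 239, 15, 2), (16, false, 10, 239, 16, 2), (18, false, 10, 239, 18, 2), (19, false, 10, 239, 19, 2), (21, false, 10, 239, 21, 2), (23, false, 10, 239, 23, 2), (24, false, 10, 239, 24, 2), (27, false, 10, 239, 27, 2), (28, false, 10, 239, 28, 2), (33, false, 10, 239, 33, 2), (37, false, 10, 239, 37, 2), (38, false, 10, 239, 38, 2), (43, false, 10, 239, 43, 2), (49, false, 10, 239, 49, 2), (59, false, 10, 239, 59, 2), (78, false, 10, 239, 78, 2), (79, false, 10, 239, 79, 2), (82, false, 13, 236, 82, 2), (83, false, 13, 236, 83, 2), (84, false, 10, 239, 84, 2), (87, false, 13, 236, 87, 2), (88, false, 10, 239, 88, 2), (91, false, 13, 236, 91, 2), (93, false, 10, 239, 93, 2), (96, false, 13, 236, 96, 2), (99, false, 10, 239, 99, 2), (102, false, 13, 236, 102, 2), (105, false, 10, 239, 105, 2), (108, false, 13, 236, 108, 2), (110, false, 10, 239, 110, 2), (113, false, 13, 236,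 113, 2), (117, false, 10, 239, 117, 1), (119, false, 10, 239, 119, 1), (123, false, 13, 236, 123, 2), (124, false, 13, 236, 124, 2), (162, false, 32, 225, 162, 2), (163, false, 32, 225, 163, 2), (164, false, 32, 225, 164, 2), (166, false, 32, 225, 166, 2), (167, false, 32, 225, 167, 2), (169, false, 42, 224, 169, 2), (171, false, 42, 224, 171, 2), (172, false, 42, 224, 172, 2), (175, false, 48, 223, 175, 2), (176, false, 48, 223, 176, 2), (181, false, 53, 221, 181, 2), (185, false, 58, 218, 185, 2), (186, false, 58, 218, 186, 2), (191, false, 63, 216, 191, 2), (197, false, 67, 212, 197, 2), (207, false, 72, 202, 207, 2), (226, false, 115, 161, 226, 2), (229, false, 120, 157, 229, 1)]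
def tRow159 : List (ℕ × Bool × ℕ × ℕ × ℕ × ℕ) := [(1, false, 12, 237, 1, 2), (2, false, 11, 238, 2, 2), (14, false, 11, 238, 14, 2), (15, false, 11, 238, 15, 2), (16, false, 11, 238, 16, 2), (17, false, 11, 238, 17, 2), (20, false, 11, 238, 20, 2), (21, false, 11, 238, 21, 2), (22, false, 11, 238, 22, 2), (25, false, 11, 238, 25, 2), (26, false, 11, 238, 26, 2), (29, false, 11, 238, 29, 2), (32, false, 11, 238, 32, 2), (36, false, 11, 238, 36, 2), (39, false, 11, 238, 39, 2), (42, false, 11, 238, 42, 2), (48, false, 11, 238, 48, 2), (58, false, 11, 238, 58, 2), (78, false, 11, 238, 78, 2), (79, false, 12, 237, 79, 2), (82, false, 11, 238, 82, 2), (83, false, 12, 237, 83, 2), (85, false, 11, 238, 85, 2), (86, false, 12, 237, 86, 2), (89, false, 11, 238, 89, 2), (90, false, 12, 237, 90, 2), (94, false, 11, 238, 94, 2), (95, false, 12, 237, 95, 2), (100, false, 11, 238, 100, 2), (101, false, 12, 237, 101, 2), (106, false, 11, 238, 106, 2), (107, false, 12, 237, 107, 2), (111, false, 11, 238, 111, 2), (112, false, 12, 237,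 112, 2), (115, false, 11, 238, 115, 2), (116, false, 12, 237, 116, 2), (120, false, 11, 238, 120, 1), (122, false, 12, 237, 122, 1), (162, false, 33, 225, 162, 2), (163, false, 33, 225, 163, 2), (164, false, 33, 225, 164, 2), (165, false, 33, 225, 165, 2), (168, false, 33, 225, 168, 1), (169, false, 43, 224, 169, 2), (170, false, 43, 224, 170, 2), (173, false, 43, 224, 173, 1), (174, false, 49, 223, 174, 2), (177, false, 49, 223, 177, 1), (180, false, 52, 222, 180, 1), (184, false, 59, 218, 184, 2), (187, false, 59, 218, 187, 1), (190, false, 62, 217, 190, 1), (196, false, 66, 213, 196, 1), (206, false, 71, 203, 206, 1), (227, false, 117, 161, 227, 1), (228, false, 119, 160, 228, 1)]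
def tRow160 : List (ℕ × Bool × ℕ × ℕ × ℕ × ℕ) := [(0, false, 13, 237, 0, 3), (2, false, 11, 239, 2, 2), (14, false, 11, 239, 14, 2), (15, false, 11, 239, 15, 2), (16, false, 11, 239, 16, 2), (17, false, 11, 239, 17, 2), (19, false, 11, 239, 19, 2), (21, false, 11, 239, 21, 2), (22, false, 11, 239, 22, 2), (24, false, 11, 239, 24, 2), (26, false, 11, 239, 26, 2), (28, false, 11, 239, 28, 2), (31, false, 11, 239, 31, 2), (36, false, 11, 239, 36, 2), (38, false, 11, 239, 38, 2), (41, false, 11, 239, 41, 2), (47, false, 11, 239, 47, 2), (57, false, 11, 239, 57, 2), (78, false, 11, 239, 78, 2), (80, false, 13, 237, 80, 2), (81, false, 11, 239, 81, 2), (83, false, 13, 237, 83, 2), (84, false, 11, 239, 84, 2), (86, false, 13, 237, 86, 2), (88, false, 11, 239, 88, 2), (90, false, 13, 237, 90, 2), (93, false, 11, 239, 93, 2), (95, false, 13, 237, 95, 2), (99, false, 11, 239, 99, 2), (101, false, 13, 237, 101, 2), (105, false, 11, 239, 105, 2), (107, false, 13, 237, 107, 2), (110, false, 11, 239, 110, 2), (112, false, 13, 237,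 112, 2), (114, false, 11, 239, 114, 2), (116, false, 13, 237, 116, 2), (119, false, 11, 239, 119, 1), (121, false, 13, 237, 121, 2), (162, false, 34, 225, 162, 2), (163, false, 34, 225, 163, 2), (164, false, 34, 225, 164, 2), (165, false, 34, 225, 165, 2), (167, false, 34, 225, 167, 2), (169, false, 44, 224, 169, 2), (170, false, 44, 224, 170, 2), (172, false, 44, 224, 172, 2), (174, false, 50, 223, 174, 2), (176, false, 50, 223, 176, 2), (179, false, 53, 222, 179, 2), (184, false, 60, 218, 184, 2), (186, false, 60, 218, 186, 2), (189, false, 63, 217, 189, 2), (195, false, 67, 213, 195, 2), (205, false, 72, 203, 205, 2), (226, false, 118, 161, 226, 2), (228, false, 120, 159, 228, 1)]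
def tRow161 : List (ℕ × Bool × ℕ × ℕ × ℕ × ℕ) := [(0, false, 13, 238, 0, 3), (1, false, 12, 239, 1, 3), (14, false, 12, 239, 14, 2), (15, false, 12, 239, 15, 2), (16, false, 12, 239, 16, 2), (17, false, 12, 239, 17, 2), (18, false, 12, 239, 18, 2), (21, false, 12, 239, 21, 2), (22, false, 12, 239, 22, 2), (23, false, 12, 239, 23, 2), (26, false, 12, 239, 26, 2), (27, false, 12, 239, 27, 2), (30, false, 12, 239, 30, 2), (36, false, 12, 239, 36, 2), (37, false, 12, 239, 37, 2), (40, false, 12, 239, 40, 2), (46, false, 12, 239, 46, 2), (56, false, 12, 239, 56, 2), (79, false, 12, 239, 79, 2), (80, false, 13, 238, 80, 2), (81, false, 12, 239, 81, 2), (82, false, 13, 238, 82, 2), (84, false, 12, 239, 84, 2), (85, false, 13, 238, 85, 2), (88, false, 12, 239, 88, 2), (89, false, 13, 238, 89, 2), (93, false, 12, 239, 93, 2), (94, false, 13, 238, 94, 2), (99, false, 12, 239, 99, 2), (100, false, 13, 238, 100, 2), (105, false, 12, 239, 105, 2), (106, false, 13, 238, 106, 2), (110, false, 12, 239, 110, 2), (111, false, 13, 238,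 111, 2), (114, false, 12, 239, 114, 2), (115, false, 13, 238, 115, 2), (117, false, 12, 239, 117, 2), (118, false, 13, 238, 118, 2), (162, false, 35, 225, 162, 2), (163, false, 35, 225, 163, 2), (164, false, 35, 225, 164, 2), (165, false, 35, 225, 165, 2), (166, false, 35, 225, 166, 2), (169, false, 45, 224, 169, 2), (170, false, 45, 224, 170, 2), (171, false, 45, 224, 171, 2), (174, false, 51, 223, 174, 2), (175, false, 51, 223, 175, 2), (178, false, 54, 222, 178, 2), (184, false, 61, 218, 184, 2), (185, false, 61, 218, 185, 2), (188, false, 64, 217, 188, 2), (194, false, 68, 213, 194, 2), (204, false, 73, 203, 204, 2), (226, false, 121, 160, 226, 2), (227, false, 122, 159, 227, 2)]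
def tRow162 : List (ℕ × Bool × ℕ × ℕ × ℕ × ℕ) := [(6, false, 15, 231, 6, 2), (8, false, 14, 233, 8, 2), (9, false, 14, 233, 9, 2), (10, false, 14, 233, 10, 2), (11, false, 14, 233, 11, 2), (12, false, 14, 233, 12, 2), (13, false, 14, 233, 13, 2), (56, false, 14, 233, 56, 2), (57, false, 14, 233, 57, 2), (58, false, 14, 233, 58, 2), (59, false, 14, 233, 59, 2), (60, false, 14, 233, 60, 2), (61, false, 14, 233, 61, 2), (62, false, 14, 233, 62, 2), (63, false, 14, 233, 63, 2), (64, false, 14, 233, 64, 2), (65, false, 14, 233, 65, 2), (66, false, 14, 233, 66, 2), (67, false, 14, 233, 67, 2), (68, false, 14, 233, 68, 2), (69, false, 14, 233, 69, 2), (70, false, 14, 233, 70, 2), (71, false, 15, 231, 71, 2), (72, false, 15, 231, 72, 2), (73, false, 15, 231, 73, 2), (74, false, 15, 231, 74, 2), (75, false, 15, 231, 75, 2), (76, false, 16, 230, 76, 2), (135, false, 14, 233, 135, 1), (136, false, 14, 233, 136, 1), (137, false, 14, 233, 137, 1), (138, false, 14, 233, 138, 1), (139, false, 14, 233, 139, 1), (140, false, 14, 233,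 140, 1), (147, false, 15, 231, 147, 1), (148, false, 15, 231, 148, 1), (149, false, 15, 231, 149, 1), (150, false, 15, 231, 150, 1), (151, false, 15, 231, 151, 1), (152, false, 16, 230, 152, 1), (153, false, 16, 230, 153, 1), (154, false, 16, 230, 154, 1), (155, false, 16, 230, 155, 1), (156, false, 17, 229, 156, 1), (157, false, 17, 229, 157, 1), (158, false, 17, 229, 158, 1), (159, false, 18, 228, 159, 1), (160, false, 18, 228, 160, 1), (161, false, 19, 227, 161, 1), (219, false, 78, 183, 219, 1), (220, false, 78, 183, 220, 1), (221, false, 79, 182, 221, 1), (222, false, 81, 180, 222, 1), (223, false, 84, 177, 223, 1), (224, false, 88, 173, 224, 1), (225, false, 99, 168, 225, 1)]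
def tRow163 : List (ℕ × Bool × ℕ × ℕ × ℕ × ℕ) := [(5, false, 15, 232, 5, 2), (7, false, 14, 234, 7, 2), (9, false, 14, 234, 9, 2), (10, false, 14, 234, 10, 2), (11, false, 14, 234, 11, 2), (12, false, 14, 234, 12, 2), (13, false, 14, 234, 13, 2), (46, false, 14, 234, 46, 2), (47, false, 14, 234, 47, 2), (48, false, 14, 234, 48, 2), (49, false, 14, 234, 49, 2), (50, false, 14, 234, 50, 2), (51, false, 14, 234, 51, 2), (52, false, 14, 234, 52, 2), (53, false, 14, 234, 53, 2), (54, false, 14, 234, 54, 2), (55, false, 14, 234, 55, 2), (66, false, 14, 234, 66, 2), (67, false, 14, 234, 67, 2), (68, false, 14, 234, 68, 2), (69, false, 14, 234, 69, 2), (70, false, 14, 234, 70, 2), (71, false, 15, 232, 71, 2), (72, false, 15, 232, 72, 2), (73, false, 15, 232, 73, 2), (74, false, 15, 232, 74, 2), (75, false, 15, 232, 75, 2), (77, false, 21, 230, 77, 2), (104, false, 14, 234, 104, 1), (130, false, 14, 234, 130, 1), (131, false, 14, 234, 131, 1), (132, false, 14, 234, 132, 1), (133, false, 14, 234, 133, 1), (134, false, 14, 234,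 134, 1), (142, false, 15, 232, 142, 1), (143, false, 15, 232, 143, 1), (144, false, 15, 232, 144, 1), (145, false, 15, 232, 145, 1), (146, false, 15, 232, 146, 1), (152, false, 21, 230, 152, 1), (153, false, 21, 230, 153, 1), (154, false, 21, 230, 154, 1), (155, false, 21, 230, 155, 1), (156, false, 22, 229, 156, 1), (157, false, 22, 229, 157, 1), (158, false, 22, 229, 158, 1), (159, false, 23, 228, 159, 1), (160, false, 23, 228, 160, 1), (161, false, 24, 227, 161, 1), (214, false, 78, 193, 214, 1), (215, false, 78, 193, 215, 1), (216, false, 79, 192, 216, 1), (217, false, 81, 190, 217, 1), (218, false, 84, 187, 218, 1), (224, false, 93, 173, 224, 1), (225, false, 105, 168, 225, 1)]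
def tRow164 : List (ℕ × Bool × ℕ × ℕ × ℕ × ℕ) := [(4, false, 16, 232, 4, 2), (7, false, 14, 235, 7, 2), (8, false, 14, 235, 8, 2), (10, false, 14, 235, 10, 2), (11, false, 14, 235, 11, 2), (12, false, 14, 235, 12, 2), (13, false, 14, 235, 13, 2), (40, false, 14, 235, 40, 2), (41, false, 14, 235, 41, 2), (42, false, 14, 235, 42, 2), (43, false, 14, 235, 43, 2), (44, false, 14, 235, 44, 2), (45, false, 14, 235, 45, 2), (52, false, 14, 235, 52, 2), (53, false, 14, 235, 53, 2), (54, false, 14, 235, 54, 2), (55, false, 14, 235, 55, 2), (62, false, 14, 235, 62, 2), (63, false, 14, 235, 63, 2), (64, false, 14, 235, 64, 2), (65, false, 14, 235, 65, 2), (70, false, 14, 235, 70, 2), (71, false, 16, 232, 71, 2), (72, false, 16, 232, 72, 2), (73, false, 16, 232, 73, 2), (74, false, 16, 232, 74, 2), (76, false, 16, 232, 76, 2), (77, false, 21, 231, 77, 2), (103, false, 14, 235, 103, 1), (109, false, 14, 235, 109, 1), (126, false, 14, 235, 126, 1), (127, false, 14, 235, 127, 1), (128, false, 14, 235, 128, 1), (129, false, 14, 235,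 129, 1), (141, false, 16, 232, 141, 2), (143, false, 16, 232, 143, 1), (144, false, 16, 232, 144, 1), (145, false, 16, 232, 145, 1), (146, false, 16, 232, 146, 1), (148, false, 21, 231, 148, 1), (149, false, 21, 231, 149, 1), (150, false, 21, 231, 150, 1), (151, false, 21, 231, 151, 1), (156, false, 26, 229, 156, 1), (157, false, 26, 229, 157, 1), (158, false, 26, 229, 158, 1), (159, false, 27, 228, 159, 1), (160, false, 27, 228, 160, 1), (161, false, 28, 227, 161, 1), (210, false, 78, 199, 210, 1), (211, false, 78, 199, 211, 1), (212, false, 79, 198, 212, 1), (213, false, 81, 196, 213, 1), (218, false, 88, 187, 218, 1), (223, false, 93, 177, 223, 1), (225, false, 110, 168, 225, 1)]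
def tRow165 : List (ℕ × Bool × ℕ × ℕ × ℕ × ℕ) := [(3, false, 17, 232, 3, 2), (7, false, 14, 236, 7, 2), (8, false, 14, 236, 8, 2), (9, false, 14, 236, 9, 2), (11, false, 14, 236, 11, 2), (12, false, 14, 236, 12, 2), (13, false, 14, 236, 13, 2), (37, false, 14, 236, 37, 2), (38, false, 14, 236, 38, 2), (39, false, 14, 236, 39, 2), (43, false, 14, 236, 43, 2), (44, false, 14, 236, 44, 2), (45, false, 14, 236, 45, 2), (49, false, 14, 236, 49, 2), (50, false, 14, 236, 50, 2), (51, false, 14, 236, 51, 2), (55, false, 14, 236, 55, 2), (59, false, 14, 236, 59, 2), (60, false, 14, 236, 60, 2), (61, false, 14, 236, 61, 2), (65, false, 14, 236, 65, 2), (69, false, 14, 236, 69, 2), (71, false, 17, 232, 71, 2), (72, false, 17, 232, 72, 2), (73, false, 17, 232, 73, 2), (75, false, 17, 232, 75, 2), (76, false, 17, 232, 76, 2), (77, false, 22, 231, 77, 2), (102, false, 14, 236, 102, 1), (108, false, 14, 236, 108, 1), (113, false, 14, 236, 113, 1), (123, false, 14, 236, 123, 1), (124, false, 14, 236, 124, 1), (125, false, 14, 236, 125,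 1), (141, false, 17, 232, 141, 2), (142, false, 17, 232, 142, 2), (144, false, 17, 232, 144, 1), (145, false, 17, 232, 145, 1), (146, false, 17, 232, 146, 1), (147, false, 22, 231, 147, 2), (149, false, 22, 231, 149, 1), (150, false, 22, 231, 150, 1), (151, false, 22, 231, 151, 1), (153, false, 26, 230, 153, 1), (154, false, 26, 230, 154, 1), (155, false, 26, 230, 155, 1), (159, false, 30, 228, 159, 1), (160, false, 30, 228, 160, 1), (161, false, 31, 227, 161, 1), (207, false, 78, 202, 207, 1), (208, false, 78, 202, 208, 1), (209, false, 79, 201, 209, 1), (213, false, 84, 196, 213, 1), (217, false, 88, 190, 217, 1), (222, false, 93, 180, 222, 1), (225, false, 114, 168, 225, 1)]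
def tRow166 : List (ℕ × Bool × ℕ × ℕ × ℕ × ℕ) := [(2, false, 18, 232, 2, 2), (7, false, 14, 237, 7, 2), (8, false, 14, 237, 8, 2), (9, false, 14, 237, 9, 2), (10, false, 14, 237, 10, 2), (12, false, 14, 237, 12, 2), (13, false, 14, 237, 13, 2), (36, false, 14, 237, 36, 2), (38, false, 14, 237, 38, 2), (39, false, 14, 237, 39, 2), (41, false, 14, 237, 41, 2), (42, false, 14, 237, 42, 2), (45, false, 14, 237, 45, 2), (47, false, 14, 237, 47, 2), (48, false, 14, 237, 48, 2), (51, false, 14, 237, 51, 2), (54, false, 14, 237, 54, 2), (57, false, 14, 237, 57, 2), (58, false, 14, 237, 58, 2), (61, false, 14, 237, 61, 2), (64, false, 14, 237, 64, 2), (68, false, 14, 237, 68, 2), (71, false, 18, 232, 71, 2), (72, false, 18, 232, 72, 2), (74, false, 18, 232, 74, 2), (75, false, 18, 232, 75, 2), (76, false, 18, 232, 76, 2), (77, false, 23, 231, 77, 2), (101, false, 14, 237, 101, 1), (107, false, 14, 237, 107, 1), (112, false, 14, 237, 112, 1), (116, false, 14, 237, 116, 1), (121, false, 14, 237, 121, 1), (122, false, 14, 237, 122,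 1), (141, false, 18, 232, 141, 2), (142, false, 18, 232, 142, 2), (143, false, 18, 232, 143, 2), (145, false, 18, 232, 145, 1), (146, false, 18, 232, 146, 1), (147, false, 23, 231, 147, 2), (148, false, 23, 231, 148, 2), (150, false, 23, 231, 150, 1), (151, false, 23, 231, 151, 1), (152, false, 27, 230, 152, 2), (154, false, 27, 230, 154, 1), (155, false, 27, 230, 155, 1), (157, false, 30, 229, 157, 1), (158, false, 30, 229, 158, 1), (161, false, 33, 227, 161, 1), (205, false, 78, 203, 205, 1), (206, false, 78, 203, 206, 1), (209, false, 81, 201, 209, 1), (212, false, 84, 198, 212, 1), (216, false, 88, 192, 216, 1), (221, false, 93, 182, 221, 1), (225, false, 117, 168, 225, 1)]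
def tRow167 : List (ℕ × Bool × ℕ × ℕ × ℕ × ℕ) := [(1, false, 19, 232, 1, 2), (7, false, 14, 238, 7, 2), (8, false, 14, 238, 8, 2), (9, false, 14, 238, 9, 2), (10, false, 14, 238, 10, 2), (11, false, 14, 238, 11, 2), (13, false, 14, 238, 13, 2), (36, false, 14, 238, 36, 2), (37, false, 14, 238, 37, 2), (39, false, 14, 238, 39, 2), (40, false, 14, 238, 40, 2), (42, false, 14, 238, 42, 2), (44, false, 14, 238, 44, 2), (46, false, 14, 238, 46, 2), (48, false, 14, 238, 48, 2), (50, false, 14, 238, 50, 2), (53, false, 14, 238, 53, 2), (56, false, 14, 238, 56, 2), (58, false, 14, 238, 58, 2), (60, false, 14, 238, 60, 2), (63, false, 14, 238, 63, 2), (67, false, 14, 238, 67, 2), (71, false, 19, 232, 71, 2), (73, false, 19, 232, 73, 2), (74, false, 19, 232, 74, 2), (75, false, 19, 232, 75, 2), (76, false, 19, 232, 76, 2), (77, false, 24, 231, 77, 2), (100, false, 14, 238, 100, 1), (106, false, 14, 238, 106, 1), (111, false, 14, 238, 111, 1), (115, false, 14, 238, 115, 1), (118, false, 14, 238, 118, 1), (120, false, 14, 238, 120,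 1), (141, false, 19, 232, 141, 2), (142, false, 19, 232, 142, 2), (143, false, 19, 232, 143, 2), (144, false, 19, 232, 144, 2), (146, false, 19, 232, 146, 1), (147, false, 24, 231, 147, 2), (148, false, 24, 231, 148, 2), (149, false, 24, 231, 149, 2), (151, false, 24, 231, 151, 1), (152, false, 28, 230, 152, 2), (153, false, 28, 230, 153, 2), (155, false, 28, 230, 155, 1), (156, false, 31, 229, 156, 2), (158, false, 31, 229, 158, 1), (160, false, 33, 228, 160, 1), (204, false, 79, 203, 204, 2), (206, false, 79, 203, 206, 1), (208, false, 81, 202, 208, 1), (211, false, 84, 199, 211, 1), (215, false, 88, 193, 215, 1), (220, false, 93, 183, 220, 1), (225, false, 119, 168, 225, 1)]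
def tRow168 : List (ℕ × Bool × ℕ × ℕ × ℕ × ℕ) := [(0, false, 20, 232, 0, 3), (7, false, 14, 239, 7, 2), (8, false, 14, 239, 8, 2), (9, false, 14, 239, 9, 2), (10, false, 14, 239, 10, 2), (11, false, 14, 239, 11, 2), (12, false, 14, 239, 12, 2), (36, false, 14, 239, 36, 2), (37, false, 14, 239, 37, 2), (38, false, 14, 239, 38, 2), (40, false, 14, 239, 40, 2), (41, false, 14, 239, 41, 2), (43, false, 14, 239, 43, 2), (46, false, 14, 239, 46, 2), (47, false, 14, 239, 47, 2), (49, false, 14, 239, 49, 2), (52, false, 14, 239, 52, 2), (56, false, 14, 239, 56, 2), (57, false, 14, 239, 57, 2), (59, false, 14, 239, 59, 2), (62, false, 14, 239, 62, 2), (66, false, 14, 239, 66, 2), (72, false, 20, 232, 72, 2), (73, false, 20, 232, 73, 2), (74, false, 20, 232, 74, 2), (75, false, 20, 232, 75, 2), (76, false, 20, 232, 76, 2), (77, false, 25, 231, 77, 2), (99, false, 14, 239, 99, 1), (105, false, 14, 239, 105, 1), (110, false, 14, 239, 110, 1), (114, false, 14, 239, 114, 1), (117, false, 14, 239, 117, 1), (119, false, 14, 239, 119,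 1), (141, false, 20, 232, 141, 2), (142, false, 20, 232, 142, 2), (143, false, 20, 232, 143, 2), (144, false, 20, 232, 144, 2), (145, false, 20, 232, 145, 2), (147, false, 25, 231, 147, 2), (148, false, 25, 231, 148, 2), (149, false, 25, 231, 149, 2), (150, false, 25, 231, 150, 2), (152, false, 29, 230, 152, 2), (153, false, 29, 230, 153, 2), (154, false, 29, 230, 154, 2), (156, false, 32, 229, 156, 2), (157, false, 32, 229, 157, 2), (159, false, 34, 228, 159, 2), (204, false, 80, 203, 204, 2), (205, false, 80, 203, 205, 2), (207, false, 82, 202, 207, 2), (210, false, 85, 199, 210, 2), (214, false, 89, 193, 214, 2), (219, false, 94, 183, 219, 2), (225, false, 120, 167, 225, 1)]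
def tRow169 : List (ℕ × Bool × ℕ × ℕ × ℕ × ℕ) := [(4, false, 16, 234, 4, 2), (5, false, 15, 235, 5, 2), (6, false, 15, 235, 6, 2), (10, false, 15, 235, 10, 2), (11, false, 15, 235, 11, 2), (12, false, 15, 235, 12, 2), (13, false, 15, 235, 13, 2), (30, false, 15, 235, 30, 2), (31, false, 15, 235, 31, 2), (32, false, 15, 235, 32, 2), (33, false, 15, 235, 33, 2), (34, false, 15, 235, 34, 2), (35, false, 15, 235, 35, 2), (52, false, 15, 235, 52, 2), (53, false, 15, 235, 53, 2), (54, false, 15, 235, 54, 2), (55, false, 15, 235, 55, 2), (62, false, 15, 235, 62, 2), (63, false, 15, 235, 63, 2), (64, false, 15, 235, 64, 2), (65, false, 15, 235, 65, 2), (66, false, 16, 234, 66, 2), (67, false, 16, 234, 67, 2), (68, false, 16, 234, 68, 2), (69, false, 16, 234, 69, 2), (75, false, 15, 235, 75, 2), (76, false, 16, 234, 76, 2), (77, false, 21, 233, 77, 2), (92, false, 15, 235, 92, 2), (97, false, 15, 235, 97, 2), (98, false, 16, 234, 98, 2), (126, false, 15, 235, 126, 1), (127, false, 15, 235, 127, 1), (128, false, 15, 235, 128, 1),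 (129, false, 15, 235, 129, 1), (131, false, 16, 234, 131, 1), (132, false, 16, 234, 132, 1), (133, false, 16, 234, 133, 1), (134, false, 16, 234, 134, 1), (137, false, 21, 233, 137, 1), (138, false, 21, 233, 138, 1), (139, false, 21, 233, 139, 1), (140, false, 21, 233, 140, 1), (156, false, 36, 229, 156, 1), (157, false, 36, 229, 157, 1), (158, false, 36, 229, 158, 1), (159, false, 37, 228, 159, 1), (160, false, 37, 228, 160, 1), (161, false, 38, 227, 161, 1), (200, false, 78, 209, 200, 1), (201, false, 78, 209, 201, 1), (202, false, 79, 208, 202, 1), (203, false, 81, 206, 203, 1), (218, false, 99, 187, 218, 1), (223, false, 105, 177, 223, 1), (224, false, 110, 173, 224, 1)]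
def tRow170 : List (ℕ × Bool × ℕ × ℕ × ℕ × ℕ) := [(3, false, 17, 234, 3, 2), (5, false, 15, 236, 5, 2), (6, false, 15, 236, 6, 2), (9, false, 15, 236, 9, 2), (11, false, 15, 236, 11, 2), (12, false, 15, 236, 12, 2), (13, false, 15, 236, 13, 2), (27, false, 15, 236, 27, 2), (28, false, 15, 236, 28, 2), (29, false, 15, 236, 29, 2), (33, false, 15, 236, 33, 2), (34, false, 15, 236, 34, 2), (35, false, 15, 236, 35, 2), (49, false, 15, 236, 49, 2), (50, false, 15, 236, 50, 2), (51, false, 15, 236, 51, 2), (55, false, 15, 236, 55, 2), (59, false, 15, 236, 59, 2), (60, false, 15, 236, 60, 2), (61, false, 15, 236, 61, 2), (65, false, 15, 236, 65, 2), (66, false, 17, 234, 66, 2), (67, false, 17, 234, 67, 2), (68, false, 17, 234, 68, 2), (70, false, 17, 234, 70, 2), (74, false, 15, 236, 74, 2), (76, false, 17, 234, 76, 2), (77, false, 22, 233, 77, 2), (91, false, 15, 236, 91, 2), (96, false, 15, 236, 96, 2), (98, false, 17, 234, 98, 2), (113, false, 15, 236, 113, 1), (123, false, 15, 236, 123, 1), (124, false, 15, 236, 124, 1),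 (125, false, 15, 236, 125, 1), (130, false, 17, 234, 130, 2), (132, false, 17, 234, 132, 1), (133, false, 17, 234, 133, 1), (134, false, 17, 234, 134, 1), (136, false, 22, 233, 136, 2), (138, false, 22, 233, 138, 1), (139, false, 22, 233, 139, 1), (140, false, 22, 233, 140, 1), (153, false, 36, 230, 153, 1), (154, false, 36, 230, 154, 1), (155, false, 36, 230, 155, 1), (159, false, 40, 228, 159, 1), (160, false, 40, 228, 160, 1), (161, false, 41, 227, 161, 1), (197, false, 78, 212, 197, 1), (198, false, 78, 212, 198, 1), (199, false, 79, 211, 199, 1), (203, false, 84, 206, 203, 1), (217, false, 99, 190, 217, 1), (222, false, 105, 180, 222, 1), (224, false, 114, 173, 224, 1)]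
def tRow171 : List (ℕ × Bool × ℕ × ℕ × ℕ × ℕ) := [(2, false, 18, 234, 2, 2), (5, false, 15, 237, 5, 2), (6, false, 15, 237, 6, 2), (9, false, 15, 237, 9, 2), (10, false, 15, 237, 10, 2), (12, false, 15, 237, 12, 2), (13, false, 15, 237, 13, 2), (26, false, 15, 237, 26, 2), (28, false, 15, 237, 28, 2), (29, false, 15, 237, 29, 2), (31, false, 15, 237, 31, 2), (32, false, 15, 237, 32, 2), (35, false, 15, 237, 35, 2), (47, false, 15, 237, 47, 2), (48, false, 15, 237, 48, 2), (51, false, 15, 237, 51, 2), (54, false, 15, 237, 54, 2), (57, false, 15, 237, 57, 2), (58, false, 15, 237, 58, 2), (61, false, 15, 237, 61, 2), (64, false, 15, 237, 64, 2), (66, false, 18, 234, 66, 2), (67, false, 18, 234, 67, 2), (69, false, 18, 234, 69, 2), (70, false, 18, 234, 70, 2), (73, false, 15, 237, 73, 2), (76, false, 18, 234, 76, 2), (77, false, 23, 233, 77, 2), (90, false, 15, 237, 90, 2), (95, false, 15, 237, 95, 2), (98, false, 18, 234, 98, 2), (112, false, 15, 237, 112, 1), (116, false, 15, 237, 116, 1), (121, false, 15, 237, 121, 1),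 (122, false, 15, 237, 122, 1), (130, false, 18, 234, 130, 2), (131, false, 18, 234, 131, 2), (133, false, 18, 234, 133, 1), (134, false, 18, 234, 134, 1), (136, false, 23, 233, 136, 2), (137, false, 23, 233, 137, 2), (139, false, 23, 233, 139, 1), (140, false, 23, 233, 140, 1), (152, false, 37, 230, 152, 2), (154, false, 37, 230, 154, 1), (155, false, 37, 230, 155, 1), (157, false, 40, 229, 157, 1), (158, false, 40, 229, 158, 1), (161, false, 43, 227, 161, 1), (195, false, 78, 213, 195, 1), (196, false, 78, 213, 196, 1), (199, false, 81, 211, 199, 1), (202, false, 84, 208, 202, 1), (216, false, 99, 192, 216, 1), (221, false, 105, 182, 221, 1), (224, false, 117, 173, 224, 1)]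
def tRow172 : List (ℕ × Bool × ℕ × ℕ × ℕ × ℕ) := [(1, false, 19, 234, 1, 2), (5, false, 15, 238, 5, 2), (6, false, 15, 238, 6, 2), (9, false, 15, 238, 9, 2), (10, false, 15, 238, 10, 2), (11, false, 15, 238, 11, 2), (13, false, 15, 238, 13, 2), (26, false, 15, 238, 26, 2), (27, false, 15, 238, 27, 2), (29, false, 15, 238, 29, 2), (30, false, 15, 238, 30, 2), (32, false, 15, 238, 32, 2), (34, false, 15, 238, 34, 2), (46, false, 15, 238, 46, 2), (48, false, 15, 238, 48, 2), (50, false, 15, 238, 50, 2), (53, false, 15, 238, 53, 2), (56, false, 15, 238, 56, 2), (58, false, 15, 238, 58, 2), (60, false, 15, 238, 60, 2), (63, false, 15, 238, 63, 2), (66, false, 19, 234, 66, 2), (68, false, 19, 234, 68, 2), (69, false, 19, 234, 69, 2), (70, false, 19, 234, 70, 2), (72, false, 15, 238, 72, 2), (76, false, 19, 234, 76, 2), (77, false, 24, 233, 77, 2), (89, false, 15, 238, 89, 2), (94, false, 15, 238, 94, 2), (98, false, 19, 234, 98, 2), (111, false, 15, 238, 111, 1), (115, false, 15, 238, 115, 1), (118, false, 15, 238, 118, 1),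 (120, false, 15, 238, 120, 1), (130, false, 19, 234, 130, 2), (131, false, 19, 234, 131, 2), (132, false, 19, 234, 132, 2), (134, false, 19, 234, 134, 1), (136, false, 24, 233, 136, 2), (137, false, 24, 233, 137, 2), (138, false, 24, 233, 138, 2), (140, false, 24, 233, 140, 1), (152, false, 38, 230, 152, 2), (153, false, 38, 230, 153, 2), (155, false, 38, 230, 155, 1), (156, false, 41, 229, 156, 2), (158, false, 41, 229, 158, 1), (160, false, 43, 228, 160, 1), (194, false, 79, 213, 194, 2), (196, false, 79, 213, 196, 1), (198, false, 81, 212, 198, 1), (201, false, 84, 209, 201, 1), (215, false, 99, 193, 215, 1), (220, false, 105, 183, 220, 1), (224, false, 119, 173, 224, 1)]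
def tRow173 : List (ℕ × Bool × ℕ × ℕ × ℕ × ℕ) := [(0, false, 20, 234, 0, 3), (5, false, 15, 239, 5, 2), (6, false, 15, 239, 6, 2), (9, false, 15, 239, 9, 2), (10, false, 15, 239, 10, 2), (11, false, 15, 239, 11, 2), (12, false, 15, 239, 12, 2), (26, false, 15, 239, 26, 2), (27, false, 15, 239, 27, 2), (28, false, 15, 239, 28, 2), (30, false, 15, 239, 30, 2), (31, false, 15, 239, 31, 2), (33, false, 15, 239, 33, 2), (46, false, 15, 239, 46, 2), (47, false, 15, 239, 47, 2), (49, false, 15, 239, 49, 2), (52, false, 15, 239, 52, 2), (56, false, 15, 239, 56, 2), (57, false, 15, 239, 57, 2), (59, false, 15, 239, 59, 2), (62, false, 15, 239, 62, 2), (67, false, 20, 234, 67, 2), (68, false, 20, 234, 68, 2), (69, false, 20, 234, 69, 2), (70, false, 20, 234, 70, 2), (71, false, 15, 239, 71, 2), (76, false, 20, 234, 76, 2), (77, false, 25, 233, 77, 2), (88, false, 15, 239, 88, 2), (93, false, 15, 239, 93, 2), (98, false, 20, 234, 98, 2), (110, false, 15, 239, 110, 1), (114, false, 15, 239, 114, 1), (117, false, 15, 239, 117, 1),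 (119, false, 15, 239, 119, 1), (130, false, 20, 234, 130, 2), (131, false, 20, 234, 131, 2), (132, false, 20, 234, 132, 2), (133, false, 20, 234, 133, 2), (136, false, 25, 233, 136, 2), (137, false, 25, 233, 137, 2), (138, false, 25, 233, 138, 2), (139, false, 25, 233, 139, 2), (152, false, 39, 230, 152, 2), (153, false, 39, 230, 153, 2), (154, false, 39, 230, 154, 2), (156, false, 42, 229, 156, 2), (157, false, 42, 229, 157, 2), (159, false, 44, 228, 159, 2), (194, false, 80, 213, 194, 2), (195, false, 80, 213, 195, 2), (197, false, 82, 212, 197, 2), (200, false, 85, 209, 200, 2), (214, false, 100, 193, 214, 2), (219, false, 106, 183, 219, 2), (224, false, 120, 172, 224, 1)]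
def tRow174 : List (ℕ × Bool × ℕ × ℕ × ℕ × ℕ) := [(3, false, 17, 235, 3, 2), (4, false, 16, 236, 4, 2), (6, false, 16, 236, 6, 2), (8, false, 16, 236, 8, 2), (11, false, 16, 236, 11, 2), (12, false, 16, 236, 12, 2), (13, false, 16, 236, 13, 2), (23, false, 16, 236, 23, 2), (24, false, 16, 236, 24, 2), (25, false, 16, 236, 25, 2), (33, false, 16, 236, 33, 2), (34, false, 16, 236, 34, 2), (35, false, 16, 236, 35, 2), (43, false, 16, 236, 43, 2), (44, false, 16, 236, 44, 2), (45, false, 16, 236, 45, 2), (55, false, 16, 236, 55, 2), (59, false, 16, 236, 59, 2), (60, false, 16, 236, 60, 2), (61, false, 16, 236, 61, 2), (62, false, 17, 235, 62, 2), (63, false, 17, 235, 63, 2), (64, false, 17, 235, 64, 2), (69, false, 16, 236, 69, 2), (70, false, 17, 235, 70, 2), (74, false, 16, 236, 74, 2), (75, false, 17, 235, 75, 2), (77, false, 26, 233, 77, 2), (87, false, 16, 236, 87, 2), (96, false, 16, 236, 96, 2), (97, false, 17, 235, 97, 2), (108, false, 16, 236, 108, 2), (109, false, 17, 235, 109, 2), (123, false, 16, 236, 123, 1),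 (124, false, 16, 236, 124, 1), (125, false, 16, 236, 125, 1), (127, false, 17, 235, 127, 1), (128, false, 17, 235, 128, 1), (129, false, 17, 235, 129, 1), (135, false, 26, 233, 135, 2), (138, false, 26, 233, 138, 1), (139, false, 26, 233, 139, 1), (140, false, 26, 233, 140, 1), (149, false, 36, 231, 149, 1), (150, false, 36, 231, 150, 1), (151, false, 36, 231, 151, 1), (159, false, 46, 228, 159, 1), (160, false, 46, 228, 160, 1), (161, false, 47, 227, 161, 1), (191, false, 78, 216, 191, 1), (192, false, 78, 216, 192, 1), (193, false, 79, 215, 193, 1), (203, false, 88, 206, 203, 1), (213, false, 99, 196, 213, 1), (222, false, 110, 180, 222, 1), (223, false, 114, 177, 223, 1)]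
def tRow175 : List (ℕ × Bool × ℕ × ℕ × ℕ × ℕ) := [(2, false, 18, 235, 2, 2), (4, false, 16, 237, 4, 2), (6, false, 16, 237, 6, 2), (8, false, 16, 237, 8, 2), (10, false, 16, 237, 10, 2), (12, false, 16, 237, 12, 2), (13, false, 16, 237, 13, 2), (22, false, 16, 237, 22, 2), (24, false, 16, 237, 24, 2), (25, false, 16, 237, 25, 2), (31, false, 16, 237, 31, 2), (32, false, 16, 237, 32, 2), (35, false, 16, 237, 35, 2), (41, false, 16, 237, 41, 2), (42, false, 16, 237, 42, 2), (45, false, 16, 237, 45, 2), (54, false, 16, 237, 54, 2), (57, false, 16, 237, 57, 2), (58, false, 16, 237, 58, 2), (61, false, 16, 237, 61, 2), (62, false, 18, 235, 62, 2), (63, false, 18, 235, 63, 2), (65, false, 18, 235, 65, 2), (68, false, 16, 237, 68, 2), (70, false, 18, 235, 70, 2), (73, false, 16, 237, 73, 2), (75, false, 18, 235, 75, 2), (77, false, 27, 233, 77, 2), (86, false, 16, 237, 86, 2), (95, false, 16, 237, 95, 2), (97, false, 18, 235, 97, 2), (107, false, 16, 237, 107, 2), (109, false, 18, 235, 109, 2), (116, false, 16, 237, 116, 1),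 (121, false, 16, 237, 121, 1), (122, false, 16, 237, 122, 1), (126, false, 18, 235, 126, 2), (128, false, 18, 235, 128, 1), (129, false, 18, 235, 129, 1), (135, false, 27, 233, 135, 2), (137, false, 27, 233, 137, 2), (139, false, 27, 233, 139, 1), (140, false, 27, 233, 140, 1), (148, false, 37, 231, 148, 2), (150, false, 37, 231, 150, 1), (151, false, 37, 231, 151, 1), (157, false, 46, 229, 157, 1), (158, false, 46, 229, 158, 1), (161, false, 49, 227, 161, 1), (189, false, 78, 217, 189, 1), (190, false, 78, 217, 190, 1), (193, false, 81, 215, 193, 1), (202, false, 88, 208, 202, 1), (212, false, 99, 198, 212, 1), (221, false, 110, 182, 221, 1), (223, false, 117, 177, 223, 1)]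
def tRow176 : List (ℕ × Bool × ℕ × ℕ × ℕ × ℕ) := [(1, false, 19, 235, 1, 2), (4, false, 16, 238, 4, 2), (6, false, 16, 238, 6, 2), (8, false, 16, 238, 8, 2), (10, false, 16, 238, 10, 2), (11, false, 16, 238, 11, 2), (13, false, 16, 238, 13, 2), (22, false, 16, 238, 22, 2), (23, false, 16, 238, 23, 2), (25, false, 16, 238, 25, 2), (30, false, 16, 238, 30, 2), (32, false, 16, 238, 32, 2), (34, false, 16, 238, 34, 2), (40, false, 16, 238, 40, 2), (42, false, 16, 238, 42, 2), (44, false, 16, 238, 44, 2), (53, false, 16, 238, 53, 2), (56, false, 16, 238, 56, 2), (58, false, 16, 238, 58, 2), (60, false, 16, 238, 60, 2), (62, false, 19, 235, 62, 2), (64, false, 19, 235, 64, 2), (65, false, 19, 235, 65, 2), (67, false, 16, 238, 67, 2), (70, false, 19, 235, 70, 2), (72, false, 16, 238, 72, 2), (75, false, 19, 235, 75, 2), (77, false, 28, 233, 77, 2), (85, false, 16, 238, 85, 2), (94, false, 16, 238, 94, 2), (97, false, 19, 235, 97, 2), (106, false, 16, 238, 106, 2), (109, false, 19, 235, 109, 2), (115, false, 16, 238, 115, 1),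 (118, false, 16, 238, 118, 1), (120, false, 16, 238, 120, 1), (126, false, 19, 235, 126, 2), (127, false, 19, 235, 127, 2), (129, false, 19, 235, 129, 1), (135, false, 28, 233, 135, 2), (137, false, 28, 233, 137, 2), (138, false, 28, 233, 138, 2), (140, false, 28, 233, 140, 1), (148, false, 38, 231, 148, 2), (149, false, 38, 231, 149, 2), (151, false, 38, 231, 151, 1), (156, false, 47, 229, 156, 2), (158, false, 47, 229, 158, 1), (160, false, 49, 228, 160, 1), (188, false, 79, 217, 188, 2), (190, false, 79, 217, 190, 1), (192, false, 81, 216, 192, 1), (201, false, 88, 209, 201, 1), (211, false, 99, 199, 211, 1), (220, false, 110, 183, 220, 1), (223, false, 119, 177, 223, 1)]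
def tRow177 : List (ℕ × Bool × ℕ × ℕ × ℕ × ℕ) := [(0, false, 20, 235, 0, 3), (4, false, 16, 239, 4, 2), (6, false, 16, 239, 6, 2), (8, false, 16, 239, 8, 2), (10, false, 16, 239, 10, 2), (11, false, 16, 239, 11, 2), (12, false, 16, 239, 12, 2), (22, false, 16, 239, 22, 2), (23, false, 16, 239, 23, 2), (24, false, 16, 239, 24, 2), (30, false, 16, 239, 30, 2), (31, false, 16, 239, 31, 2), (33, false, 16, 239, 33, 2), (40, false, 16, 239, 40, 2), (41, false, 16, 239, 41, 2), (43, false, 16, 239, 43, 2), (52, false, 16, 239, 52, 2), (56, false, 16, 239, 56, 2), (57, false, 16, 239, 57, 2), (59, false, 16, 239, 59, 2), (63, false, 20, 235, 63, 2), (64, false, 20, 235, 64, 2), (65, false, 20, 235, 65, 2), (66, false, 16, 239, 66, 2), (70, false, 20, 235, 70, 2), (71, false, 16, 239, 71, 2), (75, false, 20, 235, 75, 2), (77, false, 29, 233, 77, 2), (84, false, 16, 239, 84, 2), (93, false, 16, 239, 93, 2), (97, false, 20, 235, 97, 2), (105, false, 16, 239, 105, 2), (109, false, 20, 235, 109, 2), (114, false, 16, 239, 114, 1),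 (117, false, 16, 239, 117, 1), (119, false, 16, 239, 119, 1), (126, false, 20, 235, 126, 2), (127, false, 20, 235, 127, 2), (128, false, 20, 235, 128, 2), (135, false, 29, 233, 135, 2), (137, false, 29, 233, 137, 2), (138, false, 29, 233, 138, 2), (139, false, 29, 233, 139, 2), (148, false, 39, 231, 148, 2), (149, false, 39, 231, 149, 2), (150, false, 39, 231, 150, 2), (156, false, 48, 229, 156, 2), (157, false, 48, 229, 157, 2), (159, false, 50, 228, 159, 2), (188, false, 80, 217, 188, 2), (189, false, 80, 217, 189, 2), (191, false, 82, 216, 191, 2), (200, false, 89, 209, 200, 2), (210, false, 100, 199, 210, 2), (219, false, 111, 183, 219, 2), (223, false, 120, 176, 223, 1)]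
def tRow178 : List (ℕ × Bool × ℕ × ℕ × ℕ × ℕ) := [(2, false, 18, 236, 2, 2), (3, false, 17, 237, 3, 2), (6, false, 17, 237, 6, 2), (8, false, 17, 237, 8, 2), (9, false, 17, 237, 9, 2), (12, false, 17, 237, 12, 2), (13, false, 17, 237, 13, 2), (21, false, 17, 237, 21, 2), (24, false, 17, 237, 24, 2), (25, false, 17, 237, 25, 2), (28, false, 17, 237, 28, 2), (29, false, 17, 237, 29, 2), (35, false, 17, 237, 35, 2), (38, false, 17, 237, 38, 2), (39, false, 17, 237, 39, 2), (45, false, 17, 237, 45, 2), (51, false, 17, 237, 51, 2), (57, false, 17, 237, 57, 2), (58, false, 17, 237, 58, 2), (59, false, 18, 236, 59, 2), (60, false, 18, 236, 60, 2), (64, false, 17, 237, 64, 2), (65, false, 18, 236, 65, 2), (68, false, 17, 237, 68, 2), (69, false, 18, 236, 69, 2), (73, false, 17, 237, 73, 2), (74, false, 18, 236, 74, 2), (77, false, 30, 233, 77, 2), (83, false, 17, 237, 83, 2), (95, false, 17, 237, 95, 2), (96, false, 18, 236, 96, 2), (107, false, 17, 237, 107, 2), (108, false, 18, 236, 108, 2), (112, false, 17, 237, 112, 2), (113,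 false, 18, 236, 113, 2), (121, false, 17, 237, 121, 1), (122, false, 17, 237, 122, 1), (124, false, 18, 236, 124, 1), (125, false, 18, 236, 125, 1), (135, false, 30, 233, 135, 2), (136, false, 30, 233, 136, 2), (139, false, 30, 233, 139, 1), (140, false, 30, 233, 140, 1), (147, false, 40, 231, 147, 2), (150, false, 40, 231, 150, 1), (151, false, 40, 231, 151, 1), (154, false, 46, 230, 154, 1), (155, false, 46, 230, 155, 1), (161, false, 52, 227, 161, 1), (186, false, 78, 218, 186, 1), (187, false, 78, 218, 187, 1), (193, false, 84, 215, 193, 1), (199, false, 88, 211, 199, 1), (209, false, 99, 201, 209, 1), (221, false, 114, 182, 221, 1), (222, false, 117, 180, 222, 1)]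
def tRow179 : List (ℕ × Bool × ℕ × ℕ × ℕ × ℕ) := [(1, false, 19, 236, 1, 2), (3, false, 17, 238, 3, 2), (6, false, 17, 238, 6, 2), (8, false, 17, 238, 8, 2), (9, false, 17, 238, 9, 2), (11, false, 17, 238, 11, 2), (13, false, 17, 238, 13, 2), (21, false, 17, 238, 21, 2), (23, false, 17, 238, 23, 2), (25, false, 17, 238, 25, 2), (27, false, 17, 238, 27, 2), (29, false, 17, 238, 29, 2), (34, false, 17, 238, 34, 2), (37, false, 17, 238, 37, 2), (39, false, 17, 238, 39, 2), (44, false, 17, 238, 44, 2), (50, false, 17, 238, 50, 2), (56, false, 17, 238, 56, 2), (58, false, 17, 238, 58, 2), (59, false, 19, 236, 59, 2), (61, false, 19, 236, 61, 2), (63, false, 17, 238, 63, 2), (65, false, 19, 236, 65, 2), (67, false, 17, 238, 67, 2), (69, false, 19, 236, 69, 2), (72, false, 17, 238, 72, 2), (74, false, 19, 236, 74, 2), (77, false, 31, 233, 77, 2), (82, false, 17, 238, 82, 2), (94, false, 17, 238, 94, 2), (96, false, 19, 236, 96, 2), (106, false, 17, 238, 106, 2), (108, false, 19, 236, 108, 2), (111, false, 17, 238, 111, 2), (113,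 false, 19, 236, 113, 2), (118, false, 17, 238, 118, 1), (120, false, 17, 238, 120, 1), (123, false, 19, 236, 123, 2), (125, false, 19, 236, 125, 1), (135, false, 31, 233, 135, 2), (136, false, 31, 233, 136, 2), (138, false, 31, 233, 138, 2), (140, false, 31, 233, 140, 1), (147, false, 41, 231, 147, 2), (149, false, 41, 231, 149, 2), (151, false, 41, 231, 151, 1), (153, false, 47, 230, 153, 2), (155, false, 47, 230, 155, 1), (160, false, 52, 228, 160, 1), (185, false, 79, 218, 185, 2), (187, false, 79, 218, 187, 1), (192, false, 84, 216, 192, 1), (198, false, 88, 212, 198, 1), (208, false, 99, 202, 208, 1), (220, false, 114, 183, 220, 1), (222, false, 119, 180, 222, 1)]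
def tRow180 : List (ℕ × Bool × ℕ × ℕ × ℕ × ℕ) := [(0, false, 20, 236, 0, 3), (3, false, 17, 239, 3, 2), (6, false, 17, 239, 6, 2), (8, false, 17, 239, 8, 2), (9, false, 17, 239, 9, 2), (11, false, 17, 239, 11, 2), (12, false, 17, 239, 12, 2), (21, false, 17, 239, 21, 2), (23, false, 17, 239, 23, 2), (24, false, 17, 239, 24, 2), (27, false, 17, 239, 27, 2), (28, false, 17, 239, 28, 2), (33, false, 17, 239, 33, 2), (37, false, 17, 239, 37, 2), (38, false, 17, 239, 38, 2), (43, false, 17, 239, 43, 2), (49, false, 17, 239, 49, 2), (56, false, 17, 239, 56, 2), (57, false, 17, 239, 57, 2), (60, false, 20, 236, 60, 2), (61, false, 20, 236, 61, 2), (62, false, 17, 239, 62, 2), (65, false, 20, 236, 65, 2), (66, false, 17, 239, 66, 2), (69, false, 20, 236, 69, 2), (71, false, 17, 239, 71, 2), (74, false, 20, 236, 74, 2), (77, false, 32, 233, 77, 2), (81, false, 17, 239, 81, 2), (93, false, 17, 239, 93, 2), (96, false, 20, 236, 96, 2), (105, false, 17, 239, 105, 2), (108, false, 20, 236, 108, 2), (110, false, 17, 239, 110, 2), (113,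 false, 20, 236, 113, 2), (117, false, 17, 239, 117, 1), (119, false, 17, 239, 119, 1), (123, false, 20, 236, 123, 2), (124, false, 20, 236, 124, 2), (135, false, 32, 233, 135, 2), (136, false, 32, 233, 136, 2), (138, false, 32, 233, 138, 2), (139, false, 32, 233, 139, 2), (147, false, 42, 231, 147, 2), (149, false, 42, 231, 149, 2), (150, false, 42, 231, 150, 2), (153, false, 48, 230, 153, 2), (154, false, 48, 230, 154, 2), (159, false, 53, 228, 159, 2), (185, false, 80, 218, 185, 2), (186, false, 80, 218, 186, 2), (191, false, 85, 216, 191, 2), (197, false, 89, 212, 197, 2), (207, false, 100, 202, 207, 2), (219, false, 115, 183, 219, 2), (222, false, 120, 179, 222, 1)]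
def tRow181 : List (ℕ × Bool × ℕ × ℕ × ℕ × ℕ) := [(1, false, 19, 237, 1, 2), (2, false, 18, 238, 2, 2), (6, false, 18, 238, 6, 2), (8, false, 18, 238, 8, 2), (9, false, 18, 238, 9, 2), (10, false, 18, 238, 10, 2), (13, false, 18, 238, 13, 2), (21, false, 18, 238, 21, 2), (22, false, 18, 238, 22, 2), (25, false, 18, 238, 25, 2), (26, false, 18, 238, 26, 2), (29, false, 18, 238, 29, 2), (32, false, 18, 238, 32, 2), (36, false, 18, 238, 36, 2), (39, false, 18, 238, 39, 2), (42, false, 18, 238, 42, 2), (48, false, 18, 238, 48, 2), (56, false, 18, 238, 56, 2), (57, false, 19, 237, 57, 2), (60, false, 18, 238, 60, 2), (61, false, 19, 237, 61, 2), (63, false, 18, 238, 63, 2), (64, false, 19, 237, 64, 2), (67, false, 18, 238, 67, 2), (68, false, 19, 237, 68, 2), (72, false, 18, 238, 72, 2), (73, false, 19, 237, 73, 2), (77, false, 33, 233, 77, 2), (80, false, 18, 238, 80, 2), (94, false, 18, 238, 94, 2), (95, false, 19, 237, 95, 2), (106, false, 18, 238, 106, 2), (107, false, 19, 237, 107, 2), (111, false, 18, 238, 111, 2), (112,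 false, 19, 237, 112, 2), (115, false, 18, 238, 115, 2), (116, false, 19, 237, 116, 2), (120, false, 18, 238, 120, 1), (122, false, 19, 237, 122, 1), (135, false, 33, 233, 135, 2), (136, false, 33, 233, 136, 2), (137, false, 33, 233, 137, 2), (140, false, 33, 233, 140, 1), (147, false, 43, 231, 147, 2), (148, false, 43, 231, 148, 2), (151, false, 43, 231, 151, 1), (152, false, 49, 230, 152, 2), (155, false, 49, 230, 155, 1), (158, false, 52, 229, 158, 1), (184, false, 81, 218, 184, 2), (187, false, 81, 218, 187, 1), (190, false, 84, 217, 190, 1), (196, false, 88, 213, 196, 1), (206, false, 99, 203, 206, 1), (220, false, 117, 183, 220, 1), (221, false, 119, 182, 221, 1)]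
def tRow182 : List (ℕ × Bool × ℕ × ℕ × ℕ × ℕ) := [(0, false, 20, 237, 0, 3), (2, false, 18, 239, 2, 2), (6, false, 18, 239, 6, 2), (8, false, 18, 239, 8, 2), (9, false, 18, 239, 9, 2), (10, false, 18, 239, 10, 2), (12, false, 18, 239, 12, 2), (21, false, 18, 239, 21, 2), (22, false, 18, 239, 22, 2), (24, false, 18, 239, 24, 2), (26, false, 18, 239, 26, 2), (28, false, 18, 239, 28, 2), (31, false, 18, 239, 31, 2), (36, false, 18, 239, 36, 2), (38, false, 18, 239, 38, 2), (41, false, 18, 239, 41, 2), (47, false, 18, 239, 47, 2), (56, false, 18, 239, 56, 2), (58, false, 20, 237, 58, 2), (59, false, 18, 239, 59, 2), (61, false, 20, 237, 61, 2), (62, false, 18, 239, 62, 2), (64, false, 20, 237, 64, 2), (66, false, 18, 239, 66, 2), (68, false, 20, 237, 68, 2), (71, false, 18, 239, 71, 2), (73, false, 20, 237, 73, 2), (77, false, 34, 233, 77, 2), (79, false, 18, 239, 79, 2), (93, false, 18, 239, 93, 2), (95, false, 20, 237, 95, 2), (105, false, 18, 239, 105, 2), (107, false, 20, 237, 107, 2), (110, false, 18, 239, 110, 2), (112,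 false, 20, 237, 112, 2), (114, false, 18, 239, 114, 2), (116, false, 20, 237, 116, 2), (119, false, 18, 239, 119, 1), (121, false, 20, 237, 121, 2), (135, false, 34, 233, 135, 2), (136, false, 34, 233, 136, 2), (137, false, 34, 233, 137, 2), (139, false, 34, 233, 139, 2), (147, false, 44, 231, 147, 2), (148, false, 44, 231, 148, 2), (150, false, 44, 231, 150, 2), (152, false, 50, 230, 152, 2), (154, false, 50, 230, 154, 2), (157, false, 53, 229, 157, 2), (184, false, 82, 218, 184, 2), (186, false, 82, 218, 186, 2), (189, false, 85, 217, 189, 2), (195, false, 89, 213, 195, 2), (205, false, 100, 203, 205, 2), (219, false, 118, 183, 219, 2), (221, false, 120, 181, 221, 1)]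
def tRow183 : List (ℕ × Bool × ℕ × ℕ × ℕ × ℕ) := [(0, false, 20, 238, 0, 3), (1, false, 19, 239, 1, 3), (6, false, 19, 239, 6, 2), (8, false, 19, 239, 8, 2), (9, false, 19, 239, 9, 2), (10, false, 19, 239, 10, 2), (11, false, 19, 239, 11, 2), (21, false, 19, 239, 21, 2), (22, false, 19, 239, 22, 2), (23, false, 19, 239, 23, 2), (26, false, 19, 239, 26, 2), (27, false, 19, 239, 27, 2), (30, false, 19, 239, 30, 2), (36, false, 19, 239, 36, 2), (37, false, 19, 239, 37, 2), (40, false, 19, 239, 40, 2), (46, false, 19, 239, 46, 2), (57, false, 19, 239, 57, 2), (58, false, 20, 238, 58, 2), (59, false, 19, 239, 59, 2), (60, false, 20, 238, 60, 2), (62, false, 19, 239, 62, 2), (63, false, 20, 238, 63, 2), (66, false, 19, 239, 66, 2), (67, false, 20, 238, 67, 2), (71, false, 19, 239, 71, 2), (72, false, 20, 238, 72, 2), (77, false, 35, 233, 77, 2), (78, false, 19, 239, 78, 2), (93, false, 19, 239, 93, 2), (94, false, 20, 238, 94, 2), (105, false, 19, 239, 105, 2), (106, false, 20, 238, 106, 2), (110, false, 19, 239, 110, 2), (111,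 false, 20, 238, 111, 2), (114, false, 19, 239, 114, 2), (115, false, 20, 238, 115, 2), (117, false, 19, 239, 117, 2), (118, false, 20, 238, 118, 2), (135, false, 35, 233, 135, 2), (136, false, 35, 233, 136, 2), (137, false, 35, 233, 137, 2), (138, false, 35, 233, 138, 2), (147, false, 45, 231, 147, 2), (148, false, 45, 231, 148, 2), (149, false, 45, 231, 149, 2), (152, false, 51, 230, 152, 2), (153, false, 51, 230, 153, 2), (156, false, 54, 229, 156, 2), (184, false, 83, 218, 184, 2), (185, false, 83, 218, 185, 2), (188, false, 86, 217, 188, 2), (194, false, 90, 213, 194, 2), (204, false, 101, 203, 204, 2), (219, false, 121, 182, 219, 2), (220, false, 122, 181, 220, 2)]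
def tRow184 : List (ℕ × Bool × ℕ × ℕ × ℕ × ℕ) := [(3, false, 22, 235, 3, 2), (4, false, 21, 236, 4, 2), (5, false, 21, 236, 5, 2), (7, false, 21, 236, 7, 2), (11, false, 21, 236, 11, 2), (12, false, 21, 236, 12, 2), (13, false, 21, 236, 13, 2), (18, false, 21, 236, 18, 2), (19, false, 21, 236, 19, 2), (20, false, 21, 236, 20, 2), (33, false, 21, 236, 33, 2), (34, false, 21, 236, 34, 2), (35, false, 21, 236, 35, 2), (43, false, 21, 236, 43, 2), (44, false, 21, 236, 44, 2), (45, false, 21, 236, 45, 2), (49, false, 21, 236, 49, 2), (50, false, 21, 236, 50, 2), (51, false, 21, 236, 51, 2), (52, false, 22, 235, 52, 2), (53, false, 22, 235, 53, 2), (54, false, 22, 235, 54, 2), (65, false, 21, 236, 65, 2), (69, false, 21, 236, 69, 2), (70, false, 22, 235, 70, 2), (74, false, 21, 236, 74, 2), (75, false, 22, 235, 75, 2), (76, false, 26, 234, 76, 2), (87, false, 21, 236, 87, 2), (91, false, 21, 236, 91, 2), (92, false, 22, 235, 92, 2), (102, false, 21, 236, 102, 2), (103, false, 22, 235, 103, 2), (104, false, 26, 234, 104, 2),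 (123, false, 21, 236, 123, 1), (124, false, 21, 236, 124, 1), (125, false, 21, 236, 125, 1), (127, false, 22, 235, 127, 1), (128, false, 22, 235, 128, 1), (129, false, 22, 235, 129, 1), (132, false, 26, 234, 132, 1), (133, false, 26, 234, 133, 1), (134, false, 26, 234, 134, 1), (144, false, 36, 232, 144, 1), (145, false, 36, 232, 145, 1), (146, false, 36, 232, 146, 1), (159, false, 56, 228, 159, 1), (160, false, 56, 228, 160, 1), (161, false, 57, 227, 161, 1), (181, false, 78, 221, 181, 1), (182, false, 78, 221, 182, 1), (183, false, 79, 220, 183, 1), (203, false, 93, 206, 203, 1), (213, false, 105, 196, 213, 1), (217, false, 110, 190, 217, 1), (218, false, 114, 187, 218, 1)]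
def tRow185 : List (ℕ × Bool × ℕ × ℕ × ℕ × ℕ) := [(2, false, 23, 235, 2, 2), (4, false, 21, 237, 4, 2), (5, false, 21, 237, 5, 2), (7, false, 21, 237, 7, 2), (10, false, 21, 237, 10, 2), (12, false, 21, 237, 12, 2), (13, false, 21, 237, 13, 2), (17, false, 21, 237, 17, 2), (19, false, 21, 237, 19, 2), (20, false, 21, 237, 20, 2), (31, false, 21, 237, 31, 2), (32, false, 21, 237, 32, 2), (35, false, 21, 237, 35, 2), (41, false, 21, 237, 41, 2), (42, false, 21, 237, 42, 2), (45, false, 21, 237, 45, 2), (47, false, 21, 237, 47, 2), (48, false, 21, 237, 48, 2), (51, false, 21, 237, 51, 2), (52, false, 23, 235, 52, 2), (53, false, 23, 235, 53, 2), (55, false, 23, 235, 55, 2), (64, false, 21, 237, 64, 2), (68, false, 21, 237, 68, 2), (70, false, 23, 235, 70, 2), (73, false, 21, 237, 73, 2), (75, false, 23, 235, 75, 2), (76, false, 27, 234, 76, 2), (86, false, 21, 237, 86, 2), (90, false, 21, 237, 90, 2), (92, false, 23, 235, 92, 2), (101, false, 21, 237, 101, 2), (103, false, 23, 235, 103, 2), (104, false, 27, 234, 104, 2),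 (116, false, 21, 237, 116, 1), (121, false, 21, 237, 121, 1), (122, false, 21, 237, 122, 1), (126, false, 23, 235, 126, 2), (128, false, 23, 235, 128, 1), (129, false, 23, 235, 129, 1), (131, false, 27, 234, 131, 2), (133, false, 27, 234, 133, 1), (134, false, 27, 234, 134, 1), (143, false, 37, 232, 143, 2), (145, false, 37, 232, 145, 1), (146, false, 37, 232, 146, 1), (157, false, 56, 229, 157, 1), (158, false, 56, 229, 158, 1), (161, false, 59, 227, 161, 1), (179, false, 78, 222, 179, 1), (180, false, 78, 222, 180, 1), (183, false, 81, 220, 183, 1), (202, false, 93, 208, 202, 1), (212, false, 105, 198, 212, 1), (216, false, 110, 192, 216, 1), (218, false, 117, 187, 218, 1)]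
def tRow186 : List (ℕ × Bool × ℕ × ℕ × ℕ × ℕ) := [(1, false, 24, 235, 1, 2), (4, false, 21, 238, 4, 2), (5, false, 21, 238, 5, 2), (7, false, 21, 238, 7, 2), (10, false, 21, 238, 10, 2), (11, false, 21, 238, 11, 2), (13, false, 21, 238, 13, 2), (17, false, 21, 238, 17, 2), (18, false, 21, 238, 18, 2), (20, false, 21, 238, 20, 2), (30, false, 21, 238, 30, 2), (32, false, 21, 238, 32, 2), (34, false, 21, 238, 34, 2), (40, false, 21, 238, 40, 2), (42, false, 21, 238, 42, 2), (44, false, 21, 238, 44, 2), (46, false, 21, 238, 46, 2), (48, false, 21, 238, 48, 2), (50, false, 21, 238, 50, 2), (52, false, 24, 235, 52, 2), (54, false, 24, 235, 54, 2), (55, false, 24, 235, 55, 2), (63, false, 21, 238, 63, 2), (67, false, 21, 238, 67, 2), (70, false, 24, 235, 70, 2), (72, false, 21, 238, 72, 2), (75, false, 24, 235, 75, 2), (76, false, 28, 234, 76, 2), (85, false, 21, 238, 85, 2), (89, false, 21, 238, 89, 2), (92, false, 24, 235, 92, 2), (100, false, 21, 238, 100, 2), (103, false, 24, 235, 103, 2), (104, false, 28, 234, 104, 2),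 (115, false, 21, 238, 115, 1), (118, false, 21, 238, 118, 1), (120, false, 21, 238, 120, 1), (126, false, 24, 235, 126, 2), (127, false, 24, 235, 127, 2), (129, false, 24, 235, 129, 1), (131, false, 28, 234, 131, 2), (132, false, 28, 234, 132, 2), (134, false, 28, 234, 134, 1), (143, false, 38, 232, 143, 2), (144, false, 38, 232, 144, 2), (146, false, 38, 232, 146, 1), (156, false, 57, 229, 156, 2), (158, false, 57, 229, 158, 1), (160, false, 59, 228, 160, 1), (178, false, 79, 222, 178, 2), (180, false, 79, 222, 180, 1), (182, false, 81, 221, 182, 1), (201, false, 93, 209, 201, 1), (211, false, 105, 199, 211, 1), (215, false, 110, 193, 215, 1), (218, false, 119, 187, 218, 1)]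
def tRow187 : List (ℕ × Bool × ℕ × ℕ × ℕ × ℕ) := [(0, false, 25, 235, 0, 3), (4, false, 21, 239, 4, 2), (5, false, 21, 239, 5, 2), (7, false, 21, 239, 7, 2), (10, false, 21, 239, 10, 2), (11, false, 21, 239, 11, 2), (12, false, 21, 239, 12, 2), (17, false, 21, 239, 17, 2), (18, false, 21, 239, 18, 2), (19, false, 21, 239, 19, 2), (30, false, 21, 239, 30, 2), (31, false, 21, 239, 31, 2), (33, false, 21, 239, 33, 2), (40, false, 21, 239, 40, 2), (41, false, 21, 239, 41, 2), (43, false, 21, 239, 43, 2), (46, false, 21, 239, 46, 2), (47, false, 21, 239, 47, 2), (49, false, 21, 239, 49, 2), (53, false, 25, 235, 53, 2), (54, false, 25, 235, 54, 2), (55, false, 25, 235, 55, 2), (62, false, 21, 239, 62, 2), (66, false, 21, 239, 66, 2), (70, false, 25, 235, 70, 2), (71, false, 21, 239, 71, 2), (75, false, 25, 235, 75, 2), (76, false, 29, 234, 76, 2), (84, false, 21, 239, 84, 2), (88, false, 21, 239, 88, 2), (92, false, 25, 235, 92, 2), (99, false, 21, 239, 99, 2), (103, false, 25, 235, 103, 2), (104, false, 29, 234, 104, 2), (114,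 false, 21, 239, 114, 1), (117, false, 21, 239, 117, 1), (119, false, 21, 239, 119, 1), (126, false, 25, 235, 126, 2), (127, false, 25, 235, 127, 2), (128, false, 25, 235, 128, 2), (131, false, 29, 234, 131, 2), (132, false, 29, 234, 132, 2), (133, false, 29, 234, 133, 2), (143, false, 39, 232, 143, 2), (144, false, 39, 232, 144, 2), (145, false, 39, 232, 145, 2), (156, false, 58, 229, 156, 2), (157, false, 58, 229, 157, 2), (159, false, 60, 228, 159, 2), (178, false, 80, 222, 178, 2), (179, false, 80, 222, 179, 2), (181, false, 82, 221, 181, 2), (200, false, 94, 209, 200, 2), (210, false, 106, 199, 210, 2), (214, false, 111, 193, 214, 2), (218, false, 120, 186, 218, 1)]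
def tRow188 : List (ℕ × Bool × ℕ × ℕ × ℕ × ℕ) := [(2, false, 23, 236, 2, 2), (3, false, 22, 237, 3, 2), (5, false, 22, 237, 5, 2), (7, false, 22, 237, 7, 2), (9, false, 22, 237, 9, 2), (12, false, 22, 237, 12, 2), (13, false, 22, 237, 13, 2), (16, false, 22, 237, 16, 2), (19, false, 22, 237, 19, 2), (20, false, 22, 237, 20, 2), (28, false, 22, 237, 28, 2), (29, false, 22, 237, 29, 2), (35, false, 22, 237, 35, 2), (38, false, 22, 237, 38, 2), (39, false, 22, 237, 39, 2), (45, false, 22, 237, 45, 2), (47, false, 22, 237, 47, 2), (48, false, 22, 237, 48, 2), (49, false, 23, 236, 49, 2), (50, false, 23, 236, 50, 2), (54, false, 22, 237, 54, 2), (55, false, 23, 236, 55, 2), (61, false, 22, 237, 61, 2), (68, false, 22, 237, 68, 2), (69, false, 23, 236, 69, 2), (73, false, 22, 237, 73, 2), (74, false, 23, 236, 74, 2), (76, false, 30, 234, 76, 2), (83, false, 22, 237, 83, 2), (90, false, 22, 237, 90, 2), (91, false, 23, 236, 91, 2), (101, false, 22, 237, 101, 2), (102, false, 23, 236, 102, 2), (104, false, 30, 234, 104, 2), (112,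 false, 22, 237, 112, 2), (113, false, 23, 236, 113, 2), (121, false, 22, 237, 121, 1), (122, false, 22, 237, 122, 1), (124, false, 23, 236, 124, 1), (125, false, 23, 236, 125, 1), (130, false, 30, 234, 130, 2), (133, false, 30, 234, 133, 1), (134, false, 30, 234, 134, 1), (142, false, 40, 232, 142, 2), (145, false, 40, 232, 145, 1), (146, false, 40, 232, 146, 1), (154, false, 56, 230, 154, 1), (155, false, 56, 230, 155, 1), (161, false, 62, 227, 161, 1), (176, false, 78, 223, 176, 1), (177, false, 78, 223, 177, 1), (183, false, 84, 220, 183, 1), (199, false, 93, 211, 199, 1), (209, false, 105, 201, 209, 1), (216, false, 114, 192, 216, 1), (217, false, 117, 190, 217, 1)]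
def tRow189 : List (ℕ × Bool × ℕ × ℕ × ℕ × ℕ) := [(1, false, 24, 236, 1, 2), (3, false, 22, 238, 3, 2), (5, false, 22, 238, 5, 2), (7, false, 22, 238, 7, 2), (9, false, 22, 238, 9, 2), (11, false, 22, 238, 11, 2), (13, false, 22, 238, 13, 2), (16, false, 22, 238, 16, 2), (18, false, 22, 238, 18, 2), (20, false, 22, 238, 20, 2), (27, false, 22, 238, 27, 2), (29, false, 22, 238, 29, 2), (34, false, 22, 238, 34, 2), (37, false, 22, 238, 37, 2), (39, false, 22, 238, 39, 2), (44, false, 22, 238, 44, 2), (46, false, 22, 238, 46, 2), (48, false, 22, 238, 48, 2), (49, false, 24, 236, 49, 2), (51, false, 24, 236, 51, 2), (53, false, 22, 238, 53, 2), (55, false, 24, 236, 55, 2), (60, false, 22, 238, 60, 2), (67, false, 22, 238, 67, 2), (69, false, 24, 236, 69, 2), (72, false, 22, 238, 72, 2), (74, false, 24, 236, 74, 2), (76, false, 31, 234, 76, 2), (82, false, 22, 238, 82, 2), (89, false, 22, 238, 89, 2), (91, false, 24, 236, 91, 2), (100, false, 22, 238, 100, 2), (102, false, 24, 236, 102, 2), (104, false, 31, 234, 104, 2), (111,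 false, 22, 238, 111, 2), (113, false, 24, 236, 113, 2), (118, false, 22, 238, 118, 1), (120, false, 22, 238, 120, 1), (123, false, 24, 236, 123, 2), (125, false, 24, 236, 125, 1), (130, false, 31, 234, 130, 2), (132, false, 31, 234, 132, 2), (134, false, 31, 234, 134, 1), (142, false, 41, 232, 142, 2), (144, false, 41, 232, 144, 2), (146, false, 41, 232, 146, 1), (153, false, 57, 230, 153, 2), (155, false, 57, 230, 155, 1), (160, false, 62, 228, 160, 1), (175, false, 79, 223, 175, 2), (177, false, 79, 223, 177, 1), (182, false, 84, 221, 182, 1), (198, false, 93, 212, 198, 1), (208, false, 105, 202, 208, 1), (215, false, 114, 193, 215, 1), (217, false, 119, 190, 217, 1)]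
def tRow190 : List (ℕ × Bool × ℕ × ℕ × ℕ × ℕ) := [(0, false, 25, 236, 0, 3), (3, false, 22, 239, 3, 2), (5, false, 22, 239, 5, 2), (7, false, 22, 239, 7, 2), (9, false, 22, 239, 9, 2), (11, false, 22, 239, 11, 2), (12, false, 22, 239, 12, 2), (16, false, 22, 239, 16, 2), (18, false, 22, 239, 18, 2), (19, false, 22, 239, 19, 2), (27, false, 22, 239, 27, 2), (28, false, 22, 239, 28, 2), (33, false, 22, 239, 33, 2), (37, false, 22, 239, 37, 2), (38, false, 22, 239, 38, 2), (43, false, 22, 239, 43, 2), (46, false, 22, 239, 46, 2), (47, false, 22, 239, 47, 2), (50, false, 25, 236, 50, 2), (51, false, 25, 236, 51, 2), (52, false, 22, 239, 52, 2), (55, false, 25, 236, 55, 2), (59, false, 22, 239, 59, 2), (66, false, 22, 239, 66, 2), (69, false, 25, 236, 69, 2), (71, false, 22, 239, 71, 2), (74, false, 25, 236, 74, 2), (76, false, 32, 234, 76, 2), (81, false, 22, 239, 81, 2), (88, false, 22, 239, 88, 2), (91, false, 25, 236, 91, 2), (99, false, 22, 239, 99, 2), (102, false, 25, 236, 102, 2), (104, false, 32, 234, 104, 2), (110,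 false, 22, 239, 110, 2), (113, false, 25, 236, 113, 2), (117, false, 22, 239, 117, 1), (119, false, 22, 239, 119, 1), (123, false, 25, 236, 123, 2), (124, false, 25, 236, 124, 2), (130, false, 32, 234, 130, 2), (132, false, 32, 234, 132, 2), (133, false, 32, 234, 133, 2), (142, false, 42, 232, 142, 2), (144, false, 42, 232, 144, 2), (145, false, 42, 232, 145, 2), (153, false, 58, 230, 153, 2), (154, false, 58, 230, 154, 2), (159, false, 63, 228, 159, 2), (175, false, 80, 223, 175, 2), (176, false, 80, 223, 176, 2), (181, false, 85, 221, 181, 2), (197, false, 94, 212, 197, 2), (207, false, 106, 202, 207, 2), (214, false, 115, 193, 214, 2), (217, false, 120, 189, 217, 1)]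
def tRow191 : List (ℕ × Bool × ℕ × ℕ × ℕ × ℕ) := [(1, false, 24, 237, 1, 2), (2, false, 23, 238, 2, 2), (5, false, 23, 238, 5, 2), (7, false, 23, 238, 7, 2), (9, false, 23, 238, 9, 2), (10, false, 23, 238, 10, 2), (13, false, 23, 238, 13, 2), (16, false, 23, 238, 16, 2), (17, false, 23, 238, 17, 2), (20, false, 23, 238, 20, 2), (26, false, 23, 238, 26, 2), (29, false, 23, 238, 29, 2), (32, false, 23, 238, 32, 2), (36, false, 23, 238, 36, 2), (39, false, 23, 238, 39, 2), (42, false, 23, 238, 42, 2), (46, false, 23, 238, 46, 2), (47, false, 24, 237, 47, 2), (50, false, 23, 238, 50, 2), (51, false, 24, 237, 51, 2), (53, false, 23, 238, 53, 2), (54, false, 24, 237, 54, 2), (58, false, 23, 238, 58, 2), (67, false, 23, 238, 67, 2), (68, false, 24, 237, 68, 2), (72, false, 23, 238, 72, 2), (73, false, 24, 237, 73, 2), (76, false, 33, 234, 76, 2), (80, false, 23, 238, 80, 2), (89, false, 23, 238, 89, 2), (90, false, 24, 237, 90, 2), (100, false, 23, 238, 100, 2), (101, false, 24, 237, 101, 2), (104, false, 33, 234, 104, 2), (111,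 false, 23, 238, 111, 2), (112, false, 24, 237, 112, 2), (115, false, 23, 238, 115, 2), (116, false, 24, 237, 116, 2), (120, false, 23, 238, 120, 1), (122, false, 24, 237, 122, 1), (130, false, 33, 234, 130, 2), (131, false, 33, 234, 131, 2), (134, false, 33, 234, 134, 1), (142, false, 43, 232, 142, 2), (143, false, 43, 232, 143, 2), (146, false, 43, 232, 146, 1), (152, false, 59, 230, 152, 2), (155, false, 59, 230, 155, 1), (158, false, 62, 229, 158, 1), (174, false, 81, 223, 174, 2), (177, false, 81, 223, 177, 1), (180, false, 84, 222, 180, 1), (196, false, 93, 213, 196, 1), (206, false, 105, 203, 206, 1), (215, false, 117, 193, 215, 1), (216, false, 119, 192, 216, 1)]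
def tRow192 : List (ℕ × Bool × ℕ × ℕ × ℕ × ℕ) := [(0, false, 25, 237, 0, 3), (2, false, 23, 239, 2, 2), (5, false, 23, 239, 5, 2), (7, false, 23, 239, 7, 2), (9, false, 23, 239, 9, 2), (10, false, 23, 239, 10, 2), (12, false, 23, 239, 12, 2), (16, false, 23, 239, 16, 2), (17, false, 23, 239, 17, 2), (19, false, 23, 239, 19, 2), (26, false, 23, 239, 26, 2), (28, false, 23, 239, 28, 2), (31, false, 23, 239, 31, 2), (36, false, 23, 239, 36, 2), (38, false, 23, 239, 38, 2), (41, false, 23, 239, 41, 2), (46, false, 23, 239, 46, 2), (48, false, 25, 237, 48, 2), (49, false, 23, 239, 49, 2), (51, false, 25, 237, 51, 2), (52, false, 23, 239, 52, 2), (54, false, 25, 237, 54, 2), (57, false, 23, 239, 57, 2), (66, false, 23, 239, 66, 2), (68, false, 25, 237, 68, 2), (71, false, 23, 239, 71, 2), (73, false, 25, 237, 73, 2), (76, false, 34, 234, 76, 2), (79, false, 23, 239, 79, 2), (88, false, 23, 239, 88, 2), (90, false, 25, 237, 90, 2), (99, false, 23, 239, 99, 2), (101, false, 25, 237, 101, 2), (104, false, 34, 234, 104, 2), (110,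 false, 23, 239, 110, 2), (112, false, 25, 237, 112, 2), (114, false, 23, 239, 114, 2), (116, false, 25, 237, 116, 2), (119, false, 23, 239, 119, 1), (121, false, 25, 237, 121, 2), (130, false, 34, 234, 130, 2), (131, false, 34, 234, 131, 2), (133, false, 34, 234, 133, 2), (142, false, 44, 232, 142, 2), (143, false, 44, 232, 143, 2), (145, false, 44, 232, 145, 2), (152, false, 60, 230, 152, 2), (154, false, 60, 230, 154, 2), (157, false, 63, 229, 157, 2), (174, false, 82, 223, 174, 2), (176, false, 82, 223, 176, 2), (179, false, 85, 222, 179, 2), (195, false, 94, 213, 195, 2), (205, false, 106, 203, 205, 2), (214, false, 118, 193, 214, 2), (216, false, 120, 191, 216, 1)]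
def tRow193 : List (ℕ × Bool × ℕ × ℕ × ℕ × ℕ) := [(0, false, 25, 238, 0, 3), (1, false, 24, 239, 1, 3), (5, false, 24, 239, 5, 2), (7, false, 24, 239, 7, 2), (9, false, 24, 239, 9, 2), (10, false, 24, 239, 10, 2), (11, false, 24, 239, 11, 2), (16, false, 24, 239, 16, 2), (17, false, 24, 239, 17, 2), (18, false, 24, 239, 18, 2), (26, false, 24, 239, 26, 2), (27, false, 24, 239, 27, 2), (30, false, 24, 239, 30, 2), (36, false, 24, 239, 36, 2), (37, false, 24, 239, 37, 2), (40, false, 24, 239, 40, 2), (47, false, 24, 239, 47, 2), (48, false, 25, 238, 48, 2), (49, false, 24, 239, 49, 2), (50, false, 25, 238, 50, 2), (52, false, 24, 239, 52, 2), (53, false, 25, 238, 53, 2), (56, false, 24, 239, 56, 2), (66, false, 24, 239, 66, 2), (67, false, 25, 238, 67, 2), (71, false, 24, 239, 71, 2), (72, false, 25, 238, 72, 2), (76, false, 35, 234, 76, 2), (78, false, 24, 239, 78, 2), (88, false, 24, 239, 88, 2), (89, false, 25, 238, 89, 2), (99, false, 24, 239, 99, 2), (100, false, 25, 238, 100, 2), (104, false, 35, 234, 104, 2), (110,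 false, 24, 239, 110, 2), (111, false, 25, 238, 111, 2), (114, false, 24, 239, 114, 2), (115, false, 25, 238, 115, 2), (117, false, 24, 239, 117, 2), (118, false, 25, 238, 118, 2), (130, false, 35, 234, 130, 2), (131, false, 35, 234, 131, 2), (132, false, 35, 234, 132, 2), (142, false, 45, 232, 142, 2), (143, false, 45, 232, 143, 2), (144, false, 45, 232, 144, 2), (152, false, 61, 230, 152, 2), (153, false, 61, 230, 153, 2), (156, false, 64, 229, 156, 2), (174, false, 83, 223, 174, 2), (175, false, 83, 223, 175, 2), (178, false, 86, 222, 178, 2), (194, false, 95, 213, 194, 2), (204, false, 107, 203, 204, 2), (214, false, 121, 192, 214, 2), (215, false, 122, 191, 215, 2)]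
def tRow194 : List (ℕ × Bool × ℕ × ℕ × ℕ × ℕ) := [(2, false, 27, 236, 2, 2), (3, false, 26, 237, 3, 2), (4, false, 26, 237, 4, 2), (7, false, 26, 237, 7, 2), (8, false, 26, 237, 8, 2), (12, false, 26, 237, 12, 2), (13, false, 26, 237, 13, 2), (15, false, 26, 237, 15, 2), (19, false, 26, 237, 19, 2), (20, false, 26, 237, 20, 2), (24, false, 26, 237, 24, 2), (25, false, 26, 237, 25, 2), (35, false, 26, 237, 35, 2), (38, false, 26, 237, 38, 2), (39, false, 26, 237, 39, 2), (41, false, 26, 237, 41, 2), (42, false, 26, 237, 42, 2), (43, false, 27, 236, 43, 2), (44, false, 27, 236, 44, 2), (51, false, 26, 237, 51, 2), (54, false, 26, 237, 54, 2), (55, false, 27, 236, 55, 2), (61, false, 26, 237, 61, 2), (64, false, 26, 237, 64, 2), (65, false, 27, 236, 65, 2), (73, false, 26, 237, 73, 2), (74, false, 27, 236, 74, 2), (75, false, 30, 235, 75, 2), (83, false, 26, 237, 83, 2), (86, false, 26, 237, 86, 2), (87, false, 27, 236, 87, 2), (101, false, 26, 237, 101, 2), (102, false, 27, 236, 102, 2), (103, false, 30, 235, 103, 2), (107,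 false, 26, 237, 107, 2), (108, false, 27, 236, 108, 2), (109, false, 30, 235, 109, 2), (121, false, 26, 237, 121, 1), (122, false, 26, 237, 122, 1), (124, false, 27, 236, 124, 1), (125, false, 27, 236, 125, 1), (128, false, 30, 235, 128, 1), (129, false, 30, 235, 129, 1), (141, false, 46, 232, 141, 2), (145, false, 46, 232, 145, 1), (146, false, 46, 232, 146, 1), (150, false, 56, 231, 150, 1), (151, false, 56, 231, 151, 1), (161, false, 66, 227, 161, 1), (172, false, 78, 224, 172, 1), (173, false, 78, 224, 173, 1), (183, false, 88, 220, 183, 1), (193, false, 93, 215, 193, 1), (209, false, 110, 201, 209, 1), (212, false, 114, 198, 212, 1), (213, false, 117, 196, 213, 1)]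
def tRow195 : List (ℕ × Bool × ℕ × ℕ × ℕ × ℕ) := [(1, false, 28, 236, 1, 2), (3, false, 26, 238, 3, 2), (4, false, 26, 238, 4, 2), (7, false, 26, 238, 7, 2), (8, false, 26, 238, 8, 2), (11, false, 26, 238, 11, 2), (13, false, 26, 238, 13, 2), (15, false, 26, 238, 15, 2), (18, false, 26, 238, 18, 2), (20, false, 26, 238, 20, 2), (23, false, 26, 238, 23, 2), (25, false, 26, 238, 25, 2), (34, false, 26, 238, 34, 2), (37, false, 26, 238, 37, 2), (39, false, 26, 238, 39, 2), (40, false, 26, 238, 40, 2), (42, false, 26, 238, 42, 2), (43, false, 28, 236, 43, 2), (45, false, 28, 236, 45, 2), (50, false, 26, 238, 50, 2), (53, false, 26, 238, 53, 2), (55, false, 28, 236, 55, 2), (60, false, 26, 238, 60, 2), (63, false, 26, 238, 63, 2), (65, false, 28, 236, 65, 2), (72, false, 26, 238, 72, 2), (74, false, 28, 236, 74, 2), (75, false, 31, 235, 75, 2), (82, false, 26, 238, 82, 2), (85, false, 26, 238, 85, 2), (87, false, 28, 236, 87, 2), (100, false, 26, 238, 100, 2), (102, false, 28, 236, 102, 2), (103, false, 31, 235, 103, 2), (106,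 false, 26, 238, 106, 2), (108, false, 28, 236, 108, 2), (109, false, 31, 235, 109, 2), (118, false, 26, 238, 118, 1), (120, false, 26, 238, 120, 1), (123, false, 28, 236, 123, 2), (125, false, 28, 236, 125, 1), (127, false, 31, 235, 127, 2), (129, false, 31, 235, 129, 1), (141, false, 47, 232, 141, 2), (144, false, 47, 232, 144, 2), (146, false, 47, 232, 146, 1), (149, false, 57, 231, 149, 2), (151, false, 57, 231, 151, 1), (160, false, 66, 228, 160, 1), (171, false, 79, 224, 171, 2), (173, false, 79, 224, 173, 1), (182, false, 88, 221, 182, 1), (192, false, 93, 216, 192, 1), (208, false, 110, 202, 208, 1), (211, false, 114, 199, 211, 1), (213, false, 119, 196, 213, 1)]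
def tRow196 : List (ℕ × Bool × ℕ × ℕ × ℕ × ℕ) := [(0, false, 29, 236, 0, 3), (3, false, 26, 239, 3, 2), (4, false, 26, 239, 4, 2), (7, false, 26, 239, 7, 2), (8, false, 26, 239, 8, 2), (11, false, 26, 239, 11, 2), (12, false, 26, 239, 12, 2), (15, false, 26, 239, 15, 2), (18, false, 26, 239, 18, 2), (19, false, 26, 239, 19, 2), (23, false, 26, 239, 23, 2), (24, false, 26, 239, 24, 2), (33, false, 26, 239, 33, 2), (37, false, 26, 239, 37, 2), (38, false, 26, 239, 38, 2), (40, false, 26, 239, 40, 2), (41, false, 26, 239, 41, 2), (44, false, 29, 236, 44, 2), (45, false, 29, 236, 45, 2), (49, false, 26, 239, 49, 2), (52, false, 26, 239, 52, 2), (55, false, 29, 236, 55, 2), (59, false, 26, 239, 59, 2), (62, false, 26, 239, 62, 2), (65, false, 29, 236, 65, 2), (71, false, 26, 239, 71, 2), (74, false, 29, 236, 74, 2), (75, false, 32, 235, 75, 2), (81, false, 26, 239, 81, 2), (84, false, 26, 239, 84, 2), (87, false, 29, 236, 87, 2), (99, false, 26, 239, 99, 2), (102, false, 29, 236, 102, 2), (103, false, 32, 235, 103, 2), (105,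 false, 26, 239, 105, 2), (108, false, 29, 236, 108, 2), (109, false, 32, 235, 109, 2), (117, false, 26, 239, 117, 1), (119, false, 26, 239, 119, 1), (123, false, 29, 236, 123, 2), (124, false, 29, 236, 124, 2), (127, false, 32, 235, 127, 2), (128, false, 32, 235, 128, 2), (141, false, 48, 232, 141, 2), (144, false, 48, 232, 144, 2), (145, false, 48, 232, 145, 2), (149, false, 58, 231, 149, 2), (150, false, 58, 231, 150, 2), (159, false, 67, 228, 159, 2), (171, false, 80, 224, 171, 2), (172, false, 80, 224, 172, 2), (181, false, 89, 221, 181, 2), (191, false, 94, 216, 191, 2), (207, false, 111, 202, 207, 2), (210, false, 115, 199, 210, 2), (213, false, 120, 195, 213, 1)]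
def tRow197 : List (ℕ × Bool × ℕ × ℕ × ℕ × ℕ) := [(1, false, 28, 237, 1, 2), (2, false, 27, 238, 2, 2), (4, false, 27, 238, 4, 2), (7, false, 27, 238, 7, 2), (8, false, 27, 238, 8, 2), (10, false, 27, 238, 10, 2), (13, false, 27, 238, 13, 2), (15, false, 27, 238, 15, 2), (17, false, 27, 238, 17, 2), (20, false, 27, 238, 20, 2), (22, false, 27, 238, 22, 2), (25, false, 27, 238, 25, 2), (32, false, 27, 238, 32, 2), (36, false, 27, 238, 36, 2), (39, false, 27, 238, 39, 2), (40, false, 27, 238, 40, 2), (41, false, 28, 237, 41, 2), (44, false, 27, 238, 44, 2), (45, false, 28, 237, 45, 2), (48, false, 27, 238, 48, 2), (53, false, 27, 238, 53, 2), (54, false, 28, 237, 54, 2), (58, false, 27, 238, 58, 2), (63, false, 27, 238, 63, 2), (64, false, 28, 237, 64, 2), (72, false, 27, 238, 72, 2), (73, false, 28, 237, 73, 2), (75, false, 33, 235, 75, 2), (80, false, 27, 238, 80, 2), (85, false, 27, 238, 85, 2), (86, false, 28, 237, 86, 2), (100, false, 27, 238, 100, 2), (101, false, 28, 237, 101, 2), (103, false, 33, 235, 103, 2), (106,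 false, 27, 238, 106, 2), (107, false, 28, 237, 107, 2), (109, false, 33, 235, 109, 2), (115, false, 27, 238, 115, 2), (116, false, 28, 237, 116, 2), (120, false, 27, 238, 120, 1), (122, false, 28, 237, 122, 1), (126, false, 33, 235, 126, 2), (129, false, 33, 235, 129, 1), (141, false, 49, 232, 141, 2), (143, false, 49, 232, 143, 2), (146, false, 49, 232, 146, 1), (148, false, 59, 231, 148, 2), (151, false, 59, 231, 151, 1), (158, false, 66, 229, 158, 1), (170, false, 81, 224, 170, 2), (173, false, 81, 224, 173, 1), (180, false, 88, 222, 180, 1), (190, false, 93, 217, 190, 1), (206, false, 110, 203, 206, 1), (211, false, 117, 199, 211, 1), (212, false, 119, 198, 212, 1)]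
def tRow198 : List (ℕ × Bool × ℕ × ℕ × ℕ × ℕ) := [(0, false, 29, 237, 0, 3), (2, false, 27, 239, 2, 2), (4, false, 27, 239, 4, 2), (7, false, 27, 239, 7, 2), (8, false, 27, 239, 8, 2), (10, false, 27, 239, 10, 2), (12, false, 27, 239, 12, 2), (15, false, 27, 239, 15, 2), (17, false, 27, 239, 17, 2), (19, false, 27, 239, 19, 2), (22, false, 27, 239, 22, 2), (24, false, 27, 239, 24, 2), (31, false, 27, 239, 31, 2), (36, false, 27, 239, 36, 2), (38, false, 27, 239, 38, 2), (40, false, 27, 239, 40, 2), (42, false, 29, 237, 42, 2), (43, false, 27, 239, 43, 2), (45, false, 29, 237, 45, 2), (47, false, 27, 239, 47, 2), (52, false, 27, 239, 52, 2), (54, false, 29, 237, 54, 2), (57, false, 27, 239, 57, 2), (62, false, 27, 239, 62, 2), (64, false, 29, 237, 64, 2), (71, false, 27, 239, 71, 2), (73, false, 29, 237, 73, 2), (75, false, 34, 235, 75, 2), (79, false, 27, 239, 79, 2), (84, false, 27, 239, 84, 2), (86, false, 29, 237, 86, 2), (99, false, 27, 239, 99, 2), (101, false, 29, 237, 101, 2), (103, false, 34, 235, 103, 2), (105,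 false, 27, 239, 105, 2), (107, false, 29, 237, 107, 2), (109, false, 34, 235, 109, 2), (114, false, 27, 239, 114, 2), (116, false, 29, 237, 116, 2), (119, false, 27, 239, 119, 1), (121, false, 29, 237, 121, 2), (126, false, 34, 235, 126, 2), (128, false, 34, 235, 128, 2), (141, false, 50, 232, 141, 2), (143, false, 50, 232, 143, 2), (145, false, 50, 232, 145, 2), (148, false, 60, 231, 148, 2), (150, false, 60, 231, 150, 2), (157, false, 67, 229, 157, 2), (170, false, 82, 224, 170, 2), (172, false, 82, 224, 172, 2), (179, false, 89, 222, 179, 2), (189, false, 94, 217, 189, 2), (205, false, 111, 203, 205, 2), (210, false, 118, 199, 210, 2), (212, false, 120, 197, 212, 1)]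
def tRow199 : List (ℕ × Bool × ℕ × ℕ × ℕ × ℕ) := [(0, false, 29, 238, 0, 3), (1, false, 28, 239, 1, 3), (4, false, 28, 239, 4, 2), (7, false, 28, 239, 7, 2), (8, false, 28, 239, 8, 2), (10, false, 28, 239, 10, 2), (11, false, 28, 239, 11, 2), (15, false, 28, 239, 15, 2), (17, false, 28, 239, 17, 2), (18, false, 28, 239, 18, 2), (22, false, 28, 239, 22, 2), (23, false, 28, 239, 23, 2), (30, false, 28, 239, 30, 2), (36, false, 28, 239, 36, 2), (37, false, 28, 239, 37, 2), (41, false, 28, 239, 41, 2), (42, false, 29, 238, 42, 2), (43, false, 28, 239, 43, 2), (44, false, 29, 238, 44, 2), (46, false, 28, 239, 46, 2), (52, false, 28, 239, 52, 2), (53, false, 29, 238, 53, 2), (56, false, 28, 239, 56, 2), (62, false, 28, 239, 62, 2), (63, false, 29, 238, 63, 2), (71, false, 28, 239, 71, 2), (72, false, 29, 238, 72, 2), (75, false, 35, 235, 75, 2), (78, false, 28, 239, 78, 2), (84, false, 28, 239, 84, 2), (85, false, 29, 238, 85, 2), (99, false, 28, 239, 99, 2), (100, false, 29, 238, 100, 2), (103, false, 35, 235, 103, 2), (105,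 false, 28, 239, 105, 2), (106, false, 29, 238, 106, 2), (109, false, 35, 235, 109, 2), (114, false, 28, 239, 114, 2), (115, false, 29, 238, 115, 2), (117, false, 28, 239, 117, 2), (118, false, 29, 238, 118, 2), (126, false, 35, 235, 126, 2), (127, false, 35, 235, 127, 2), (141, false, 51, 232, 141, 2), (143, false, 51, 232, 143, 2), (144, false, 51, 232, 144, 2), (148, false, 61, 231, 148, 2), (149, false, 61, 231, 149, 2), (156, false, 68, 229, 156, 2), (170, false, 83, 224, 170, 2), (171, false, 83, 224, 171, 2), (178, false, 90, 222, 178, 2), (188, false, 95, 217, 188, 2), (204, false, 112, 203, 204, 2), (210, false, 121, 198, 210, 2), (211, false, 122, 197, 211, 2)]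
def tRow200 : List (ℕ × Bool × ℕ × ℕ × ℕ × ℕ) := [(1, false, 31, 237, 1, 2), (2, false, 30, 238, 2, 2), (3, false, 30, 238, 3, 2), (7, false, 30, 238, 7, 2), (8, false, 30, 238, 8, 2), (9, false, 30, 238, 9, 2), (13, false, 30, 238, 13, 2), (15, false, 30, 238, 15, 2), (16, false, 30, 238, 16, 2), (20, false, 30, 238, 20, 2), (21, false, 30, 238, 21, 2), (25, false, 30, 238, 25, 2), (29, false, 30, 238, 29, 2), (36, false, 30, 238, 36, 2), (37, false, 30, 238, 37, 2), (38, false, 31, 237, 38, 2), (42, false, 30, 238, 42, 2), (44, false, 30, 238, 44, 2), (45, false, 31, 237, 45, 2), (48, false, 30, 238, 48, 2), (50, false, 30, 238, 50, 2), (51, false, 31, 237, 51, 2), (58, false, 30, 238, 58, 2), (60, false, 30, 238, 60, 2), (61, false, 31, 237, 61, 2), (72, false, 30, 238, 72, 2), (73, false, 31, 237, 73, 2), (74, false, 33, 236, 74, 2), (80, false, 30, 238, 80, 2), (82, false, 30, 238, 82, 2), (83, false, 31, 237, 83, 2), (100, false, 30, 238, 100, 2), (101, false, 31, 237, 101, 2), (102, false, 33, 236, 102, 2), (106,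 false, 30, 238, 106, 2), (107, false, 31, 237, 107, 2), (108, false, 33, 236, 108, 2), (111, false, 30, 238, 111, 2), (112, false, 31, 237, 112, 2), (113, false, 33, 236, 113, 2), (120, false, 30, 238, 120, 1), (122, false, 31, 237, 122, 1), (125, false, 33, 236, 125, 1), (141, false, 52, 232, 141, 2), (142, false, 52, 232, 142, 2), (146, false, 52, 232, 146, 1), (147, false, 62, 231, 147, 2), (151, false, 62, 231, 151, 1), (155, false, 66, 230, 155, 1), (169, false, 84, 224, 169, 2), (173, false, 84, 224, 173, 1), (177, false, 88, 223, 177, 1), (187, false, 93, 218, 187, 1), (206, false, 114, 203, 206, 1), (208, false, 117, 202, 208, 1), (209, false, 119, 201, 209, 1)]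
def tRow201 : List (ℕ × Bool × ℕ × ℕ × ℕ × ℕ) := [(0, false, 32, 237, 0, 3), (2, false, 30, 239, 2, 2), (3, false, 30, 239, 3, 2), (7, false, 30, 239, 7, 2), (8, false, 30, 239, 8, 2), (9, false, 30, 239, 9, 2), (12, false, 30, 239, 12, 2), (15, false, 30, 239, 15, 2), (16, false, 30, 239, 16, 2), (19, false, 30, 239, 19, 2), (21, false, 30, 239, 21, 2), (24, false, 30, 239, 24, 2), (28, false, 30, 239, 28, 2), (36, false, 30, 239, 36, 2), (37, false, 30, 239, 37, 2), (39, false, 32, 237, 39, 2), (41, false, 30, 239, 41, 2), (43, false, 30, 239, 43, 2), (45, false, 32, 237, 45, 2), (47, false, 30, 239, 47, 2), (49, false, 30, 239, 49, 2), (51, false, 32, 237, 51, 2), (57, false, 30, 239, 57, 2), (59, false, 30, 239, 59, 2), (61, false, 32, 237, 61, 2), (71, false, 30, 239, 71, 2), (73, false, 32, 237, 73, 2), (74, false, 34, 236, 74, 2), (79, false, 30, 239, 79, 2), (81, false, 30, 239, 81, 2), (83, false, 32, 237, 83, 2), (99, false, 30, 239, 99, 2), (101, false, 32, 237, 101, 2), (102, false, 34, 236, 102, 2), (105,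 false, 30, 239, 105, 2), (107, false, 32, 237, 107, 2), (108, false, 34, 236, 108, 2), (110, false, 30, 239, 110, 2), (112, false, 32, 237, 112, 2), (113, false, 34, 236, 113, 2), (119, false, 30, 239, 119, 1), (121, false, 32, 237, 121, 2), (124, false, 34, 236, 124, 2), (141, false, 53, 232, 141, 2), (142, false, 53, 232, 142, 2), (145, false, 53, 232, 145, 2), (147, false, 63, 231, 147, 2), (150, false, 63, 231, 150, 2), (154, false, 67, 230, 154, 2), (169, false, 85, 224, 169, 2), (172, false, 85, 224, 172, 2), (176, false, 89, 223, 176, 2), (186, false, 94, 218, 186, 2), (205, false, 115, 203, 205, 2), (207, false, 118, 202, 207, 2), (209, false, 120, 200, 209, 1)]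
def tRow202 : List (ℕ × Bool × ℕ × ℕ × ℕ × ℕ) := [(0, false, 32, 238, 0, 3), (1, false, 31, 239, 1, 3), (3, false, 31, 239, 3, 2), (7, false, 31, 239, 7, 2), (8, false, 31, 239, 8, 2), (9, false, 31, 239, 9, 2), (11, false, 31, 239, 11, 2), (15, false, 31, 239, 15, 2), (16, false, 31, 239, 16, 2), (18, false, 31, 239, 18, 2), (21, false, 31, 239, 21, 2), (23, false, 31, 239, 23, 2), (27, false, 31, 239, 27, 2), (36, false, 31, 239, 36, 2), (38, false, 31, 239, 38, 2), (39, false, 32, 238, 39, 2), (40, false, 31, 239, 40, 2), (43, false, 31, 239, 43, 2), (44, false, 32, 238, 44, 2), (46, false, 31, 239, 46, 2), (49, false, 31, 239, 49, 2), (50, false, 32, 238, 50, 2), (56, false, 31, 239, 56, 2), (59, false, 31, 239, 59, 2), (60, false, 32, 238, 60, 2), (71, false, 31, 239, 71, 2), (72, false, 32, 238, 72, 2), (74, false, 35, 236, 74, 2), (78, false, 31, 239, 78, 2), (81, false, 31, 239, 81, 2), (82, false, 32, 238, 82, 2), (99, false, 31, 239, 99, 2), (100, false, 32, 238, 100, 2), (102, false, 35, 236, 102, 2), (105,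 false, 31, 239, 105, 2), (106, false, 32, 238, 106, 2), (108, false, 35, 236, 108, 2), (110, false, 31, 239, 110, 2), (111, false, 32, 238, 111, 2), (113, false, 35, 236, 113, 2), (117, false, 31, 239, 117, 2), (118, false, 32, 238, 118, 2), (123, false, 35, 236, 123, 2), (141, false, 54, 232, 141, 2), (142, false, 54, 232, 142, 2), (144, false, 54, 232, 144, 2), (147, false, 64, 231, 147, 2), (149, false, 64, 231, 149, 2), (153, false, 68, 230, 153, 2), (169, false, 86, 224, 169, 2), (171, false, 86, 224, 171, 2), (175, false, 90, 223, 175, 2), (185, false, 95, 218, 185, 2), (204, false, 116, 203, 204, 2), (207, false, 121, 201, 207, 2), (208, false, 122, 200, 208, 2)]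
def tRow203 : List (ℕ × Bool × ℕ × ℕ × ℕ × ℕ) := [(0, false, 34, 238, 0, 3), (1, false, 33, 239, 1, 3), (2, false, 33, 239, 2, 3), (7, false, 33, 239, 7, 2), (8, false, 33, 239, 8, 2), (9, false, 33, 239, 9, 2), (10, false, 33, 239, 10, 2), (15, false, 33, 239, 15, 2), (16, false, 33, 239, 16, 2), (17, false, 33, 239, 17, 2), (21, false, 33, 239, 21, 2), (22, false, 33, 239, 22, 2), (26, false, 33, 239, 26, 2), (37, false, 33, 239, 37, 2), (38, false, 33, 239, 38, 2), (39, false, 34, 238, 39, 2), (40, false, 33, 239, 40, 2), (41, false, 33, 239, 41, 2), (42, false, 34, 238, 42, 2), (46, false, 33, 239, 46, 2), (47, false, 33, 239, 47, 2), (48, false, 34, 238, 48, 2), (56, false, 33, 239, 56, 2), (57, false, 33, 239, 57, 2), (58, false, 34, 238, 58, 2), (71, false, 33, 239, 71, 2), (72, false, 34, 238, 72, 2), (73, false, 35, 237, 73, 2), (78, false, 33, 239, 78, 2), (79, false, 33, 239, 79, 2), (80, false, 34, 238, 80, 2), (99, false, 33, 239, 99, 2), (100, false, 34, 238, 100, 2), (101, false, 35, 237, 101, 2), (105,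 false, 33, 239, 105, 2), (106, false, 34, 238, 106, 2), (107, false, 35, 237, 107, 2), (110, false, 33, 239, 110, 2), (111, false, 34, 238, 111, 2), (112, false, 35, 237, 112, 2), (114, false, 33, 239, 114, 2), (115, false, 34, 238, 115, 2), (116, false, 35, 237, 116, 2), (141, false, 55, 232, 141, 2), (142, false, 55, 232, 142, 2), (143, false, 55, 232, 143, 2), (147, false, 65, 231, 147, 2), (148, false, 65, 231, 148, 2), (152, false, 69, 230, 152, 2), (169, false, 87, 224, 169, 2), (170, false, 87, 224, 170, 2), (174, false, 91, 223, 174, 2), (184, false, 96, 218, 184, 2), (204, false, 123, 202, 204, 2), (205, false, 124, 201, 205, 2), (206, false, 125, 200, 206, 2)]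
def tRow204 : List (ℕ × Bool × ℕ × ℕ × ℕ × ℕ) := [(2, false, 37, 236, 2, 2), (3, false, 36, 237, 3, 2), (4, false, 36, 237, 4, 2), (5, false, 36, 237, 5, 2), (6, false, 36, 237, 6, 2), (12, false, 36, 237, 12, 2), (13, false, 36, 237, 13, 2), (14, false, 36, 237, 14, 2), (19, false, 36, 237, 19, 2), (20, false, 36, 237, 20, 2), (24, false, 36, 237, 24, 2), (25, false, 36, 237, 25, 2), (28, false, 36, 237, 28, 2), (29, false, 36, 237, 29, 2), (31, false, 36, 237, 31, 2), (32, false, 36, 237, 32, 2), (33, false, 37, 236, 33, 2), (34, false, 37, 236, 34, 2), (45, false, 36, 237, 45, 2), (51, false, 36, 237, 51, 2), (54, false, 36, 237, 54, 2), (55, false, 37, 236, 55, 2), (61, false, 36, 237, 61, 2), (64, false, 36, 237, 64, 2), (65, false, 37, 236, 65, 2), (68, false, 36, 237, 68, 2), (69, false, 37, 236, 69, 2), (70, false, 40, 235, 70, 2), (83, false, 36, 237, 83, 2), (86, false, 36, 237, 86, 2), (87, false, 37, 236, 87, 2), (90, false, 36, 237, 90, 2), (91, false, 37, 236, 91, 2), (92, false, 40, 235, 92, 2), (95, false,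 36, 237, 95, 2), (96, false, 37, 236, 96, 2), (97, false, 40, 235, 97, 2), (98, false, 46, 234, 98, 2), (121, false, 36, 237, 121, 1), (122, false, 36, 237, 122, 1), (124, false, 37, 236, 124, 1), (125, false, 37, 236, 125, 1), (128, false, 40, 235, 128, 1), (129, false, 40, 235, 129, 1), (133, false, 46, 234, 133, 1), (134, false, 46, 234, 134, 1), (139, false, 56, 233, 139, 1), (140, false, 56, 233, 140, 1), (161, false, 71, 227, 161, 1), (167, false, 78, 225, 167, 1), (168, false, 78, 225, 168, 1), (183, false, 99, 220, 183, 1), (193, false, 105, 215, 193, 1), (199, false, 110, 211, 199, 1), (202, false, 114, 208, 202, 1), (203, false, 117, 206, 203, 1)]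
def tRow205 : List (ℕ × Bool × ℕ × ℕ × ℕ × ℕ) := [(1, false, 38, 236, 1, 2), (3, false, 36, 238, 3, 2), (4, false, 36, 238, 4, 2), (5, false, 36, 238, 5, 2), (6, false, 36, 238, 6, 2), (11, false, 36, 238, 11, 2), (13, false, 36, 238, 13, 2), (14, false, 36, 238, 14, 2), (18, false, 36, 238, 18, 2), (20, false, 36, 238, 20, 2), (23, false, 36, 238, 23, 2), (25, false, 36, 238, 25, 2), (27, false, 36, 238, 27, 2), (29, false, 36, 238, 29, 2), (30, false, 36, 238, 30, 2), (32, false, 36, 238, 32, 2), (33, false, 38, 236, 33, 2), (35, false, 38, 236, 35, 2), (44, false, 36, 238, 44, 2), (50, false, 36, 238, 50, 2), (53, false, 36, 238, 53, 2), (55, false, 38, 236, 55, 2), (60, false, 36, 238, 60, 2), (63, false, 36, 238, 63, 2), (65, false, 38, 236, 65, 2), (67, false, 36, 238, 67, 2), (69, false, 38, 236, 69, 2), (70, false, 41, 235, 70, 2), (82, false, 36, 238, 82, 2), (85, false, 36, 238, 85, 2), (87, false, 38, 236, 87, 2), (89, false, 36, 238, 89, 2), (91, false, 38, 236, 91, 2), (92, false, 41, 235, 92, 2), (94, false,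 36, 238, 94, 2), (96, false, 38, 236, 96, 2), (97, false, 41, 235, 97, 2), (98, false, 47, 234, 98, 2), (118, false, 36, 238, 118, 1), (120, false, 36, 238, 120, 1), (123, false, 38, 236, 123, 2), (125, false, 38, 236, 125, 1), (127, false, 41, 235, 127, 2), (129, false, 41, 235, 129, 1), (132, false, 47, 234, 132, 2), (134, false, 47, 234, 134, 1), (138, false, 57, 233, 138, 2), (140, false, 57, 233, 140, 1), (160, false, 71, 228, 160, 1), (166, false, 79, 225, 166, 2), (168, false, 79, 225, 168, 1), (182, false, 99, 221, 182, 1), (192, false, 105, 216, 192, 1), (198, false, 110, 212, 198, 1), (201, false, 114, 209, 201, 1), (203, false, 119, 206, 203, 1)]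
def tRow206 : List (ℕ × Bool × ℕ × ℕ × ℕ × ℕ) := [(0, false, 39, 236, 0, 3), (3, false, 36, 239, 3, 2), (4, false, 36, 239, 4, 2), (5, false, 36, 239, 5, 2), (6, false, 36, 239, 6, 2), (11, false, 36, 239, 11, 2), (12, false, 36, 239, 12, 2), (14, false, 36, 239, 14, 2), (18, false, 36, 239, 18, 2), (19, false, 36, 239, 19, 2), (23, false, 36, 239, 23, 2), (24, false, 36, 239, 24, 2), (27, false, 36, 239, 27, 2), (28, false, 36, 239, 28, 2), (30, false, 36, 239, 30, 2), (31, false, 36, 239, 31, 2), (34, false, 39, 236, 34, 2), (35, false, 39, 236, 35, 2), (43, false, 36, 239, 43, 2), (49, false, 36, 239, 49, 2), (52, false, 36, 239, 52, 2), (55, false, 39, 236, 55, 2), (59, false, 36, 239, 59, 2), (62, false, 36, 239, 62, 2), (65, false, 39, 236, 65, 2), (66, false, 36, 239, 66, 2), (69, false, 39, 236, 69, 2), (70, false, 42, 235, 70, 2), (81, false, 36, 239, 81, 2), (84, false, 36, 239, 84, 2), (87, false, 39, 236, 87, 2), (88, false, 36, 239, 88, 2), (91, false, 39, 236, 91, 2), (92, false, 42, 235, 92, 2), (93, false,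 36, 239, 93, 2), (96, false, 39, 236, 96, 2), (97, false, 42, 235, 97, 2), (98, false, 48, 234, 98, 2), (117, false, 36, 239, 117, 1), (119, false, 36, 239, 119, 1), (123, false, 39, 236, 123, 2), (124, false, 39, 236, 124, 2), (127, false, 42, 235, 127, 2), (128, false, 42, 235, 128, 2), (132, false, 48, 234, 132, 2), (133, false, 48, 234, 133, 2), (138, false, 58, 233, 138, 2), (139, false, 58, 233, 139, 2), (159, false, 72, 228, 159, 2), (166, false, 80, 225, 166, 2), (167, false, 80, 225, 167, 2), (181, false, 100, 221, 181, 2), (191, false, 106, 216, 191, 2), (197, false, 111, 212, 197, 2), (200, false, 115, 209, 200, 2), (203, false, 120, 205, 203, 1)]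
def tRow207 : List (ℕ × Bool × ℕ × ℕ × ℕ × ℕ) := [(1, false, 38, 237, 1, 2), (2, false, 37, 238, 2, 2), (4, false, 37, 238, 4, 2), (5, false, 37, 238, 5, 2), (6, false, 37, 238, 6, 2), (10, false, 37, 238, 10, 2), (13, false, 37, 238, 13, 2), (14, false, 37, 238, 14, 2), (17, false, 37, 238, 17, 2), (20, false, 37, 238, 20, 2), (22, false, 37, 238, 22, 2), (25, false, 37, 238, 25, 2), (26, false, 37, 238, 26, 2), (29, false, 37, 238, 29, 2), (30, false, 37, 238, 30, 2), (31, false, 38, 237, 31, 2), (34, false, 37, 238, 34, 2), (35, false, 38, 237, 35, 2), (42, false, 37, 238, 42, 2), (48, false, 37, 238, 48, 2), (53, false, 37, 238, 53, 2), (54, false, 38, 237, 54, 2), (58, false, 37, 238, 58, 2), (63, false, 37, 238, 63, 2), (64, false, 38, 237, 64, 2), (67, false, 37, 238, 67, 2), (68, false, 38, 237, 68, 2), (70, false, 43, 235, 70, 2), (80, false, 37, 238, 80, 2), (85, false, 37, 238, 85, 2), (86, false, 38, 237, 86, 2), (89, false, 37, 238, 89, 2), (90, false, 38, 237, 90, 2), (92, false, 43, 235, 92, 2), (94, false,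 37, 238, 94, 2), (95, false, 38, 237, 95, 2), (97, false, 43, 235, 97, 2), (98, false, 49, 234, 98, 2), (115, false, 37, 238, 115, 2), (116, false, 38, 237, 116, 2), (120, false, 37, 238, 120, 1), (122, false, 38, 237, 122, 1), (126, false, 43, 235, 126, 2), (129, false, 43, 235, 129, 1), (131, false, 49, 234, 131, 2), (134, false, 49, 234, 134, 1), (137, false, 59, 233, 137, 2), (140, false, 59, 233, 140, 1), (158, false, 71, 229, 158, 1), (165, false, 81, 225, 165, 2), (168, false, 81, 225, 168, 1), (180, false, 99, 222, 180, 1), (190, false, 105, 217, 190, 1), (196, false, 110, 213, 196, 1), (201, false, 117, 209, 201, 1), (202, false, 119, 208, 202, 1)]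
def tRow208 : List (ℕ × Bool × ℕ × ℕ × ℕ × ℕ) := [(0, false, 39, 237, 0, 3), (2, false, 37, 239, 2, 2), (4, false, 37, 239, 4, 2), (5, false, 37, 239, 5, 2), (6, false, 37, 239, 6, 2), (10, false, 37, 239, 10, 2), (12, false, 37, 239, 12, 2), (14, false, 37, 239, 14, 2), (17, false, 37, 239, 17, 2), (19, false, 37, 239, 19, 2), (22, false, 37, 239, 22, 2), (24, false, 37, 239, 24, 2), (26, false, 37, 239, 26, 2), (28, false, 37, 239, 28, 2), (30, false, 37, 239, 30, 2), (32, false, 39, 237, 32, 2), (33, false, 37, 239, 33, 2), (35, false, 39, 237, 35, 2), (41, false, 37, 239, 41, 2), (47, false, 37, 239, 47, 2), (52, false, 37, 239, 52, 2), (54, false, 39, 237, 54, 2), (57, false, 37, 239, 57, 2), (62, false, 37, 239, 62, 2), (64, false, 39, 237, 64, 2), (66, false, 37, 239, 66, 2), (68, false, 39, 237, 68, 2), (70, false, 44, 235, 70, 2), (79, false, 37, 239, 79, 2), (84, false, 37, 239, 84, 2), (86, false, 39, 237, 86, 2), (88, false, 37, 239, 88, 2), (90, false, 39, 237, 90, 2), (92, false, 44, 235, 92, 2), (93, false,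 37, 239, 93, 2), (95, false, 39, 237, 95, 2), (97, false, 44, 235, 97, 2), (98, false, 50, 234, 98, 2), (114, false, 37, 239, 114, 2), (116, false, 39, 237, 116, 2), (119, false, 37, 239, 119, 1), (121, false, 39, 237, 121, 2), (126, false, 44, 235, 126, 2), (128, false, 44, 235, 128, 2), (131, false, 50, 234, 131, 2), (133, false, 50, 234, 133, 2), (137, false, 60, 233, 137, 2), (139, false, 60, 233, 139, 2), (157, false, 72, 229, 157, 2), (165, false, 82, 225, 165, 2), (167, false, 82, 225, 167, 2), (179, false, 100, 222, 179, 2), (189, false, 106, 217, 189, 2), (195, false, 111, 213, 195, 2), (200, false, 118, 209, 200, 2), (202, false, 120, 207, 202, 1)]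
def tRow209 : List (ℕ × Bool × ℕ × ℕ × ℕ × ℕ) := [(0, false, 39, 238, 0, 3), (1, false, 38, 239, 1, 3), (4, false, 38, 239, 4, 2), (5, false, 38, 239, 5, 2), (6, false, 38, 239, 6, 2), (10, false, 38, 239, 10, 2), (11, false, 38, 239, 11, 2), (14, false, 38, 239, 14, 2), (17, false, 38, 239, 17, 2), (18, false, 38, 239, 18, 2), (22, false, 38, 239, 22, 2), (23, false, 38, 239, 23, 2), (26, false, 38, 239, 26, 2), (27, false, 38, 239, 27, 2), (31, false, 38, 239, 31, 2), (32, false, 39, 238, 32, 2), (33, false, 38, 239, 33, 2), (34, false, 39, 238, 34, 2), (40, false, 38, 239, 40, 2), (46, false, 38, 239, 46, 2), (52, false, 38, 239, 52, 2), (53, false, 39, 238, 53, 2), (56, false, 38, 239, 56, 2), (62, false, 38, 239, 62, 2), (63, false, 39, 238, 63, 2), (66, false, 38, 239, 66, 2), (67, false, 39, 238, 67, 2), (70, false, 45, 235, 70, 2), (78, false, 38, 239, 78, 2), (84, false, 38, 239, 84, 2), (85, false, 39, 238, 85, 2), (88, false, 38, 239, 88, 2), (89, false, 39, 238, 89, 2), (92, false, 45, 235, 92, 2), (93, false,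 38, 239, 93, 2), (94, false, 39, 238, 94, 2), (97, false, 45, 235, 97, 2), (98, false, 51, 234, 98, 2), (114, false, 38, 239, 114, 2), (115, false, 39, 238, 115, 2), (117, false, 38, 239, 117, 2), (118, false, 39, 238, 118, 2), (126, false, 45, 235, 126, 2), (127, false, 45, 235, 127, 2), (131, false, 51, 234, 131, 2), (132, false, 51, 234, 132, 2), (137, false, 61, 233, 137, 2), (138, false, 61, 233, 138, 2), (156, false, 73, 229, 156, 2), (165, false, 83, 225, 165, 2), (166, false, 83, 225, 166, 2), (178, false, 101, 222, 178, 2), (188, false, 107, 217, 188, 2), (194, false, 112, 213, 194, 2), (200, false, 121, 208, 200, 2), (201, false, 122, 207, 201, 2)]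
def tRow210 : List (ℕ × Bool × ℕ × ℕ × ℕ × ℕ) := [(1, false, 41, 237, 1, 2), (2, false, 40, 238, 2, 2), (3, false, 40, 238, 3, 2), (5, false, 40, 238, 5, 2), (6, false, 40, 238, 6, 2), (9, false, 40, 238, 9, 2), (13, false, 40, 238, 13, 2), (14, false, 40, 238, 14, 2), (16, false, 40, 238, 16, 2), (20, false, 40, 238, 20, 2), (21, false, 40, 238, 21, 2), (25, false, 40, 238, 25, 2), (26, false, 40, 238, 26, 2), (27, false, 40, 238, 27, 2), (28, false, 41, 237, 28, 2), (32, false, 40, 238, 32, 2), (34, false, 40, 238, 34, 2), (35, false, 41, 237, 35, 2), (39, false, 40, 238, 39, 2), (48, false, 40, 238, 48, 2), (50, false, 40, 238, 50, 2), (51, false, 41, 237, 51, 2), (58, false, 40, 238, 58, 2), (60, false, 40, 238, 60, 2), (61, false, 41, 237, 61, 2), (67, false, 40, 238, 67, 2), (68, false, 41, 237, 68, 2), (69, false, 43, 236, 69, 2), (80, false, 40, 238, 80, 2), (82, false, 40, 238, 82, 2), (83, false, 41, 237, 83, 2), (89, false, 40, 238, 89, 2), (90, false, 41, 237, 90, 2), (91, false, 43, 236, 91, 2), (94, false,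 40, 238, 94, 2), (95, false, 41, 237, 95, 2), (96, false, 43, 236, 96, 2), (98, false, 52, 234, 98, 2), (111, false, 40, 238, 111, 2), (112, false, 41, 237, 112, 2), (113, false, 43, 236, 113, 2), (120, false, 40, 238, 120, 1), (122, false, 41, 237, 122, 1), (125, false, 43, 236, 125, 1), (130, false, 52, 234, 130, 2), (134, false, 52, 234, 134, 1), (136, false, 62, 233, 136, 2), (140, false, 62, 233, 140, 1), (155, false, 71, 230, 155, 1), (164, false, 84, 225, 164, 2), (168, false, 84, 225, 168, 1), (177, false, 99, 223, 177, 1), (187, false, 105, 218, 187, 1), (196, false, 114, 213, 196, 1), (198, false, 117, 212, 198, 1), (199, false, 119, 211, 199, 1)]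
def tRow211 : List (ℕ × Bool × ℕ × ℕ × ℕ × ℕ) := [(0, false, 42, 237, 0, 3), (2, false, 40, 239, 2, 2), (3, false, 40, 239, 3, 2), (5, false, 40, 239, 5, 2), (6, false, 40, 239, 6, 2), (9, false, 40, 239, 9, 2), (12, false, 40, 239, 12, 2), (14, false, 40, 239, 14, 2), (16, false, 40, 239, 16, 2), (19, false, 40, 239, 19, 2), (21, false, 40, 239, 21, 2), (24, false, 40, 239, 24, 2), (26, false, 40, 239, 26, 2), (27, false, 40, 239, 27, 2), (29, false, 42, 237, 29, 2), (31, false, 40, 239, 31, 2), (33, false, 40, 239, 33, 2), (35, false, 42, 237, 35, 2), (38, false, 40, 239, 38, 2), (47, false, 40, 239, 47, 2), (49, false, 40, 239, 49, 2), (51, false, 42, 237, 51, 2), (57, false, 40, 239, 57, 2), (59, false, 40, 239, 59, 2), (61, false, 42, 237, 61, 2), (66, false, 40, 239, 66, 2), (68, false, 42, 237, 68, 2), (69, false, 44, 236, 69, 2), (79, false, 40, 239, 79, 2), (81, false, 40, 239, 81, 2), (83, false, 42, 237, 83, 2), (88, false, 40, 239, 88, 2), (90, false, 42, 237, 90, 2), (91, false, 44, 236, 91, 2), (93, false,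 40, 239, 93, 2), (95, false, 42, 237, 95, 2), (96, false, 44, 236, 96, 2), (98, false, 53, 234, 98, 2), (110, false, 40, 239, 110, 2), (112, false, 42, 237, 112, 2), (113, false, 44, 236, 113, 2), (119, false, 40, 239, 119, 1), (121, false, 42, 237, 121, 2), (124, false, 44, 236, 124, 2), (130, false, 53, 234, 130, 2), (133, false, 53, 234, 133, 2), (136, false, 63, 233, 136, 2), (139, false, 63, 233, 139, 2), (154, false, 72, 230, 154, 2), (164, false, 85, 225, 164, 2), (167, false, 85, 225, 167, 2), (176, false, 100, 223, 176, 2), (186, false, 106, 218, 186, 2), (195, false, 115, 213, 195, 2), (197, false, 118, 212, 197, 2), (199, false, 120, 210, 199, 1)]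
def tRow212 : List (ℕ × Bool × ℕ × ℕ × ℕ × ℕ) := [(0, false, 42, 238, 0, 3), (1, false, 41, 239, 1, 3), (3, false, 41, 239, 3, 2), (5, false, 41, 239, 5, 2), (6, false, 41, 239, 6, 2), (9, false, 41, 239, 9, 2), (11, false, 41, 239, 11, 2), (14, false, 41, 239, 14, 2), (16, false, 41, 239, 16, 2), (18, false, 41, 239, 18, 2), (21, false, 41, 239, 21, 2), (23, false, 41, 239, 23, 2), (26, false, 41, 239, 26, 2), (28, false, 41, 239, 28, 2), (29, false, 42, 238, 29, 2), (30, false, 41, 239, 30, 2), (33, false, 41, 239, 33, 2), (34, false, 42, 238, 34, 2), (37, false, 41, 239, 37, 2), (46, false, 41, 239, 46, 2), (49, false, 41, 239, 49, 2), (50, false, 42, 238, 50, 2), (56, false, 41, 239, 56, 2), (59, false, 41, 239, 59, 2), (60, false, 42, 238, 60, 2), (66, false, 41, 239, 66, 2), (67, false, 42, 238, 67, 2), (69, false, 45, 236, 69, 2), (78, false, 41, 239, 78, 2), (81, false, 41, 239, 81, 2), (82, false, 42, 238, 82, 2), (88, false, 41, 239, 88, 2), (89, false, 42, 238, 89, 2), (91, false, 45, 236, 91, 2), (93, false,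 41, 239, 93, 2), (94, false, 42, 238, 94, 2), (96, false, 45, 236, 96, 2), (98, false, 54, 234, 98, 2), (110, false, 41, 239, 110, 2), (111, false, 42, 238, 111, 2), (113, false, 45, 236, 113, 2), (117, false, 41, 239, 117, 2), (118, false, 42, 238, 118, 2), (123, false, 45, 236, 123, 2), (130, false, 54, 234, 130, 2), (132, false, 54, 234, 132, 2), (136, false, 64, 233, 136, 2), (138, false, 64, 233, 138, 2), (153, false, 73, 230, 153, 2), (164, false, 86, 225, 164, 2), (166, false, 86, 225, 166, 2), (175, false, 101, 223, 175, 2), (185, false, 107, 218, 185, 2), (194, false, 116, 213, 194, 2), (197, false, 121, 211, 197, 2), (198, false, 122, 210, 198, 2)]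
def tRow213 : List (ℕ × Bool × ℕ × ℕ × ℕ × ℕ) := [(0, false, 44, 238, 0, 3), (1, false, 43, 239, 1, 3), (2, false, 43, 239, 2, 3), (5, false, 43, 239, 5, 2), (6, false, 43, 239, 6, 2), (9, false, 43, 239, 9, 2), (10, false, 43, 239, 10, 2), (14, false, 43, 239, 14, 2), (16, false, 43, 239, 16, 2), (17, false, 43, 239, 17, 2), (21, false, 43, 239, 21, 2), (22, false, 43, 239, 22, 2), (27, false, 43, 239, 27, 2), (28, false, 43, 239, 28, 2), (29, false, 44, 238, 29, 2), (30, false, 43, 239, 30, 2), (31, false, 43, 239, 31, 2), (32, false, 44, 238, 32, 2), (36, false, 43, 239, 36, 2), (46, false, 43, 239, 46, 2), (47, false, 43, 239, 47, 2), (48, false, 44, 238, 48, 2), (56, false, 43, 239, 56, 2), (57, false, 43, 239, 57, 2), (58, false, 44, 238, 58, 2), (66, false, 43, 239, 66, 2), (67, false, 44, 238, 67, 2), (68, false, 45, 237, 68, 2), (78, false, 43, 239, 78, 2), (79, false, 43, 239, 79, 2), (80, false, 44, 238, 80, 2), (88, false, 43, 239, 88, 2), (89, false, 44, 238, 89, 2), (90, false, 45, 237, 90, 2), (93, false,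 43, 239, 93, 2), (94, false, 44, 238, 94, 2), (95, false, 45, 237, 95, 2), (98, false, 55, 234, 98, 2), (110, false, 43, 239, 110, 2), (111, false, 44, 238, 111, 2), (112, false, 45, 237, 112, 2), (114, false, 43, 239, 114, 2), (115, false, 44, 238, 115, 2), (116, false, 45, 237, 116, 2), (130, false, 55, 234, 130, 2), (131, false, 55, 234, 131, 2), (136, false, 65, 233, 136, 2), (137, false, 65, 233, 137, 2), (152, false, 74, 230, 152, 2), (164, false, 87, 225, 164, 2), (165, false, 87, 225, 165, 2), (174, false, 102, 223, 174, 2), (184, false, 108, 218, 184, 2), (194, false, 123, 212, 194, 2), (195, false, 124, 211, 195, 2), (196, false, 125, 210, 196, 2)]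
def tRow214 : List (ℕ × Bool × ℕ × ℕ × ℕ × ℕ) := [(1, false, 47, 237, 1, 2), (2, false, 46, 238, 2, 2), (3, false, 46, 238, 3, 2), (4, false, 46, 238, 4, 2), (6, false, 46, 238, 6, 2), (8, false, 46, 238, 8, 2), (13, false, 46, 238, 13, 2), (14, false, 46, 238, 14, 2), (15, false, 46, 238, 15, 2), (20, false, 46, 238, 20, 2), (21, false, 46, 238, 21, 2), (22, false, 46, 238, 22, 2), (23, false, 46, 238, 23, 2), (24, false, 47, 237, 24, 2), (29, false, 46, 238, 29, 2), (32, false, 46, 238, 32, 2), (34, false, 46, 238, 34, 2), (35, false, 47, 237, 35, 2), (39, false, 46, 238, 39, 2), (42, false, 46, 238, 42, 2), (44, false, 46, 238, 44, 2), (45, false, 47, 237, 45, 2), (58, false, 46, 238, 58, 2), (60, false, 46, 238, 60, 2), (61, false, 47, 237, 61, 2), (63, false, 46, 238, 63, 2), (64, false, 47, 237, 64, 2), (65, false, 49, 236, 65, 2), (80, false, 46, 238, 80, 2), (82, false, 46, 238, 82, 2), (83, false, 47, 237, 83, 2), (85, false, 46, 238, 85, 2), (86, false, 47, 237, 86, 2), (87, false, 49, 236, 87, 2), (94, false,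 46, 238, 94, 2), (95, false, 47, 237, 95, 2), (96, false, 49, 236, 96, 2), (97, false, 52, 235, 97, 2), (106, false, 46, 238, 106, 2), (107, false, 47, 237, 107, 2), (108, false, 49, 236, 108, 2), (109, false, 52, 235, 109, 2), (120, false, 46, 238, 120, 1), (122, false, 47, 237, 122, 1), (125, false, 49, 236, 125, 1), (129, false, 52, 235, 129, 1), (135, false, 66, 233, 135, 2), (140, false, 66, 233, 140, 1), (151, false, 71, 231, 151, 1), (163, false, 88, 225, 163, 2), (168, false, 88, 225, 168, 1), (173, false, 99, 224, 173, 1), (187, false, 110, 218, 187, 1), (190, false, 114, 217, 190, 1), (192, false, 117, 216, 192, 1), (193, false, 119, 215, 193, 1)]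
def tRow215 : List (ℕ × Bool × ℕ × ℕ × ℕ × ℕ) := [(0, false, 48, 237, 0, 3), (2, false, 46, 239, 2, 2), (3, false, 46, 239, 3, 2), (4, false, 46, 239, 4, 2), (6, false, 46, 239, 6, 2), (8, false, 46, 239, 8, 2), (12, false, 46, 239, 12, 2), (14, false, 46, 239, 14, 2), (15, false, 46, 239, 15, 2), (19, false, 46, 239, 19, 2), (21, false, 46, 239, 21, 2), (22, false, 46, 239, 22, 2), (23, false, 46, 239, 23, 2), (25, false, 48, 237, 25, 2), (28, false, 46, 239, 28, 2), (31, false, 46, 239, 31, 2), (33, false, 46, 239, 33, 2), (35, false, 48, 237, 35, 2), (38, false, 46, 239, 38, 2), (41, false, 46, 239, 41, 2), (43, false, 46, 239, 43, 2), (45, false, 48, 237, 45, 2), (57, false, 46, 239, 57, 2), (59, false, 46, 239, 59, 2), (61, false, 48, 237, 61, 2), (62, false, 46, 239, 62, 2), (64, false, 48, 237, 64, 2), (65, false, 50, 236, 65, 2), (79, false, 46, 239, 79, 2), (81, false, 46, 239, 81, 2), (83, false, 48, 237, 83, 2), (84, false, 46, 239, 84, 2), (86, false, 48, 237, 86, 2), (87, false, 50, 236, 87, 2), (93, false,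 46, 239, 93, 2), (95, false, 48, 237, 95, 2), (96, false, 50, 236, 96, 2), (97, false, 53, 235, 97, 2), (105, false, 46, 239, 105, 2), (107, false, 48, 237, 107, 2), (108, false, 50, 236, 108, 2), (109, false, 53, 235, 109, 2), (119, false, 46, 239, 119, 1), (121, false, 48, 237, 121, 2), (124, false, 50, 236, 124, 2), (128, false, 53, 235, 128, 2), (135, false, 67, 233, 135, 2), (139, false, 67, 233, 139, 2), (150, false, 72, 231, 150, 2), (163, false, 89, 225, 163, 2), (167, false, 89, 225, 167, 2), (172, false, 100, 224, 172, 2), (186, false, 111, 218, 186, 2), (189, false, 115, 217, 189, 2), (191, false, 118, 216, 191, 2), (193, false, 120, 214, 193, 1)]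
def tRow216 : List (ℕ × Bool × ℕ × ℕ × ℕ × ℕ) := [(0, false, 48, 238, 0, 3), (1, false, 47, 239, 1, 3), (3, false, 47, 239, 3, 2), (4, false, 47, 239, 4, 2), (6, false, 47, 239, 6, 2), (8, false, 47, 239, 8, 2), (11, false, 47, 239, 11, 2), (14, false, 47, 239, 14, 2), (15, false, 47, 239, 15, 2), (18, false, 47, 239, 18, 2), (21, false, 47, 239, 21, 2), (22, false, 47, 239, 22, 2), (24, false, 47, 239, 24, 2), (25, false, 48, 238, 25, 2), (27, false, 47, 239, 27, 2), (30, false, 47, 239, 30, 2), (33, false, 47, 239, 33, 2), (34, false, 48, 238, 34, 2), (37, false, 47, 239, 37, 2), (40, false, 47, 239, 40, 2), (43, false, 47, 239, 43, 2), (44, false, 48, 238, 44, 2), (56, false, 47, 239, 56, 2), (59, false, 47, 239, 59, 2), (60, false, 48, 238, 60, 2), (62, false, 47, 239, 62, 2), (63, false, 48, 238, 63, 2), (65, false, 51, 236, 65, 2), (78, false, 47, 239, 78, 2), (81, false, 47, 239, 81, 2), (82, false, 48, 238, 82, 2), (84, false, 47, 239, 84, 2), (85, false, 48, 238, 85, 2), (87, false, 51, 236, 87, 2), (93, false,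 47, 239, 93, 2), (94, false, 48, 238, 94, 2), (96, false, 51, 236, 96, 2), (97, false, 54, 235, 97, 2), (105, false, 47, 239, 105, 2), (106, false, 48, 238, 106, 2), (108, false, 51, 236, 108, 2), (109, false, 54, 235, 109, 2), (117, false, 47, 239, 117, 2), (118, false, 48, 238, 118, 2), (123, false, 51, 236, 123, 2), (127, false, 54, 235, 127, 2), (135, false, 68, 233, 135, 2), (138, false, 68, 233, 138, 2), (149, false, 73, 231, 149, 2), (163, false, 90, 225, 163, 2), (166, false, 90, 225, 166, 2), (171, false, 101, 224, 171, 2), (185, false, 112, 218, 185, 2), (188, false, 116, 217, 188, 2), (191, false, 121, 215, 191, 2), (192, false, 122, 214, 192, 2)]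
def tRow217 : List (ℕ × Bool × ℕ × ℕ × ℕ × ℕ) := [(0, false, 50, 238, 0, 3), (1, false, 49, 239, 1, 3), (2, false, 49, 239, 2, 3), (4, false, 49, 239, 4, 2), (6, false, 49, 239, 6, 2), (8, false, 49, 239, 8, 2), (10, false, 49, 239, 10, 2), (14, false, 49, 239, 14, 2), (15, false, 49, 239, 15, 2), (17, false, 49, 239, 17, 2), (21, false, 49, 239, 21, 2), (23, false, 49, 239, 23, 2), (24, false, 49, 239, 24, 2), (25, false, 50, 238, 25, 2), (26, false, 49, 239, 26, 2), (30, false, 49, 239, 30, 2), (31, false, 49, 239, 31, 2), (32, false, 50, 238, 32, 2), (36, false, 49, 239, 36, 2), (40, false, 49, 239, 40, 2), (41, false, 49, 239, 41, 2), (42, false, 50, 238, 42, 2), (56, false, 49, 239, 56, 2), (57, false, 49, 239, 57, 2), (58, false, 50, 238, 58, 2), (62, false, 49, 239, 62, 2), (63, false, 50, 238, 63, 2), (64, false, 51, 237, 64, 2), (78, false, 49, 239, 78, 2), (79, false, 49, 239, 79, 2), (80, false, 50, 238, 80, 2), (84, false, 49, 239, 84, 2), (85, false, 50, 238, 85, 2), (86, false, 51, 237, 86, 2), (93, false,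 49, 239, 93, 2), (94, false, 50, 238, 94, 2), (95, false, 51, 237, 95, 2), (97, false, 55, 235, 97, 2), (105, false, 49, 239, 105, 2), (106, false, 50, 238, 106, 2), (107, false, 51, 237, 107, 2), (109, false, 55, 235, 109, 2), (114, false, 49, 239, 114, 2), (115, false, 50, 238, 115, 2), (116, false, 51, 237, 116, 2), (126, false, 55, 235, 126, 2), (135, false, 69, 233, 135, 2), (137, false, 69, 233, 137, 2), (148, false, 74, 231, 148, 2), (163, false, 91, 225, 163, 2), (165, false, 91, 225, 165, 2), (170, false, 102, 224, 170, 2), (184, false, 113, 218, 184, 2), (188, false, 123, 216, 188, 2), (189, false, 124, 215, 189, 2), (190, false, 125, 214, 190, 2)]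
def tRow218 : List (ℕ × Bool × ℕ × ℕ × ℕ × ℕ) := [(0, false, 53, 238, 0, 3), (1, false, 52, 239, 1, 3), (2, false, 52, 239, 2, 3), (3, false, 52, 239, 3, 3), (6, false, 52, 239, 6, 2), (8, false, 52, 239, 8, 2), (9, false, 52, 239, 9, 2), (14, false, 52, 239, 14, 2), (15, false, 52, 239, 15, 2), (16, false, 52, 239, 16, 2), (22, false, 52, 239, 22, 2), (23, false, 52, 239, 23, 2), (24, false, 52, 239, 24, 2), (25, false, 53, 238, 25, 2), (26, false, 52, 239, 26, 2), (27, false, 52, 239, 27, 2), (28, false, 52, 239, 28, 2), (29, false, 53, 238, 29, 2), (36, false, 52, 239, 36, 2), (37, false, 52, 239, 37, 2), (38, false, 52, 239, 38, 2), (39, false, 53, 238, 39, 2), (56, false, 52, 239, 56, 2), (57, false, 52, 239, 57, 2), (58, false, 53, 238, 58, 2), (59, false, 52, 239, 59, 2), (60, false, 53, 238, 60, 2), (61, false, 54, 237, 61, 2), (78, false, 52, 239, 78, 2), (79, false, 52, 239, 79, 2), (80, false, 53, 238, 80, 2), (81, false, 52, 239, 81, 2), (82, false, 53, 238, 82, 2), (83, false, 54, 237, 83, 2), (93, false,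 52, 239, 93, 2), (94, false, 53, 238, 94, 2), (95, false, 54, 237, 95, 2), (96, false, 55, 236, 96, 2), (105, false, 52, 239, 105, 2), (106, false, 53, 238, 106, 2), (107, false, 54, 237, 107, 2), (108, false, 55, 236, 108, 2), (110, false, 52, 239, 110, 2), (111, false, 53, 238, 111, 2), (112, false, 54, 237, 112, 2), (113, false, 55, 236, 113, 2), (135, false, 70, 233, 135, 2), (136, false, 70, 233, 136, 2), (147, false, 75, 231, 147, 2), (163, false, 92, 225, 163, 2), (164, false, 92, 225, 164, 2), (169, false, 103, 224, 169, 2), (184, false, 126, 217, 184, 2), (185, false, 127, 216, 185, 2), (186, false, 128, 215, 186, 2), (187, false, 129, 214, 187, 2)]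
def tRow219 : List (ℕ × Bool × ℕ × ℕ × ℕ × ℕ) := [(1, false, 57, 237, 1, 2), (2, false, 56, 238, 2, 2), (3, false, 56, 238, 3, 2), (4, false, 56, 238, 4, 2), (5, false, 56, 238, 5, 2), (7, false, 56, 238, 7, 2), (13, false, 56, 238, 13, 2), (14, false, 56, 238, 14, 2), (15, false, 56, 238, 15, 2), (16, false, 56, 238, 16, 2), (17, false, 56, 238, 17, 2), (18, false, 56, 238, 18, 2), (19, false, 57, 237, 19, 2), (25, false, 56, 238, 25, 2), (29, false, 56, 238, 29, 2), (32, false, 56, 238, 32, 2), (34, false, 56, 238, 34, 2), (35, false, 57, 237, 35, 2), (39, false, 56, 238, 39, 2), (42, false, 56, 238, 42, 2), (44, false, 56, 238, 44, 2), (45, false, 57, 237, 45, 2), (48, false, 56, 238, 48, 2), (50, false, 56, 238, 50, 2), (51, false, 57, 237, 51, 2), (53, false, 56, 238, 53, 2), (54, false, 57, 237, 54, 2), (55, false, 59, 236, 55, 2), (80, false, 56, 238, 80, 2), (82, false, 56, 238, 82, 2), (83, false, 57, 237, 83, 2), (85, false, 56, 238, 85, 2), (86, false, 57, 237, 86, 2), (87, false, 59, 236, 87, 2), (89, false,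 56, 238, 89, 2), (90, false, 57, 237, 90, 2), (91, false, 59, 236, 91, 2), (92, false, 62, 235, 92, 2), (100, false, 56, 238, 100, 2), (101, false, 57, 237, 101, 2), (102, false, 59, 236, 102, 2), (103, false, 62, 235, 103, 2), (104, false, 66, 234, 104, 2), (120, false, 56, 238, 120, 1), (122, false, 57, 237, 122, 1), (125, false, 59, 236, 125, 1), (129, false, 62, 235, 129, 1), (134, false, 66, 234, 134, 1), (146, false, 71, 232, 146, 1), (162, false, 93, 225, 162, 2), (168, false, 93, 225, 168, 1), (173, false, 105, 224, 173, 1), (177, false, 110, 223, 177, 1), (180, false, 114, 222, 180, 1), (182, false, 117, 221, 182, 1), (183, false, 119, 220, 183, 1)]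
def tRow220 : List (ℕ × Bool × ℕ × ℕ × ℕ × ℕ) := [(0, false, 58, 237, 0, 3), (2, false, 56, 239, 2, 2), (3, false, 56, 239, 3, 2), (4, false, 56, 239, 4, 2), (5, false, 56, 239, 5, 2), (7, false, 56, 239, 7, 2), (12, false, 56, 239, 12, 2), (14, false, 56, 239, 14, 2), (15, false, 56, 239, 15, 2), (16, false, 56, 239, 16, 2), (17, false, 56, 239, 17, 2), (18, false, 56, 239, 18, 2), (20, false, 58, 237, 20, 2), (24, false, 56, 239, 24, 2), (28, false, 56, 239, 28, 2), (31, false, 56, 239, 31, 2), (33, false, 56, 239, 33, 2), (35, false, 58, 237, 35, 2), (38, false, 56, 239, 38, 2), (41, false, 56, 239, 41, 2), (43, false, 56, 239, 43, 2), (45, false, 58, 237, 45, 2), (47, false, 56, 239, 47, 2), (49, false, 56, 239, 49, 2), (51, false, 58, 237, 51, 2), (52, false, 56, 239, 52, 2), (54, false, 58, 237, 54, 2), (55, false, 60, 236, 55, 2), (79, false, 56, 239, 79, 2), (81, false, 56, 239, 81, 2), (83, false, 58, 237, 83, 2), (84, false, 56, 239, 84, 2), (86, false, 58, 237, 86, 2), (87, false, 60, 236, 87, 2), (88, false,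 56, 239, 88, 2), (90, false, 58, 237, 90, 2), (91, false, 60, 236, 91, 2), (92, false, 63, 235, 92, 2), (99, false, 56, 239, 99, 2), (101, false, 58, 237, 101, 2), (102, false, 60, 236, 102, 2), (103, false, 63, 235, 103, 2), (104, false, 67, 234, 104, 2), (119, false, 56, 239, 119, 1), (121, false, 58, 237, 121, 2), (124, false, 60, 236, 124, 2), (128, false, 63, 235, 128, 2), (133, false, 67, 234, 133, 2), (145, false, 72, 232, 145, 2), (162, false, 94, 225, 162, 2), (167, false, 94, 225, 167, 2), (172, false, 106, 224, 172, 2), (176, false, 111, 223, 176, 2), (179, false, 115, 222, 179, 2), (181, false, 118, 221, 181, 2), (183, false, 120, 219, 183, 1)]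
def tRow221 : List (ℕ × Bool × ℕ × ℕ × ℕ × ℕ) := [(0, false, 58, 238, 0, 3), (1, false, 57, 239, 1, 3), (3, false, 57, 239, 3, 2), (4, false, 57, 239, 4, 2), (5, false, 57, 239, 5, 2), (7, false, 57, 239, 7, 2), (11, false, 57, 239, 11, 2), (14, false, 57, 239, 14, 2), (15, false, 57, 239, 15, 2), (16, false, 57, 239, 16, 2), (17, false, 57, 239, 17, 2), (19, false, 57, 239, 19, 2), (20, false, 58, 238, 20, 2), (23, false, 57, 239, 23, 2), (27, false, 57, 239, 27, 2), (30, false, 57, 239, 30, 2), (33, false, 57, 239, 33, 2), (34, false, 58, 238, 34, 2), (37, false, 57, 239, 37, 2), (40, false, 57, 239, 40, 2), (43, false, 57, 239, 43, 2), (44, false, 58, 238, 44, 2), (46, false, 57, 239, 46, 2), (49, false, 57, 239, 49, 2), (50, false, 58, 238, 50, 2), (52, false, 57, 239, 52, 2), (53, false, 58, 238, 53, 2), (55, false, 61, 236, 55, 2), (78, false, 57, 239, 78, 2), (81, false, 57, 239, 81, 2), (82, false, 58, 238, 82, 2), (84, false, 57, 239, 84, 2), (85, false, 58, 238, 85, 2), (87, false, 61, 236, 87, 2), (88, false,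 57, 239, 88, 2), (89, false, 58, 238, 89, 2), (91, false, 61, 236, 91, 2), (92, false, 64, 235, 92, 2), (99, false, 57, 239, 99, 2), (100, false, 58, 238, 100, 2), (102, false, 61, 236, 102, 2), (103, false, 64, 235, 103, 2), (104, false, 68, 234, 104, 2), (117, false, 57, 239, 117, 2), (118, false, 58, 238, 118, 2), (123, false, 61, 236, 123, 2), (127, false, 64, 235, 127, 2), (132, false, 68, 234, 132, 2), (144, false, 73, 232, 144, 2), (162, false, 95, 225, 162, 2), (166, false, 95, 225, 166, 2), (171, false, 107, 224, 171, 2), (175, false, 112, 223, 175, 2), (178, false, 116, 222, 178, 2), (181, false, 121, 220, 181, 2), (182, false, 122, 219, 182, 2)]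
def tRow222 : List (ℕ × Bool × ℕ × ℕ × ℕ × ℕ) := [(0, false, 60, 238, 0, 3), (1, false, 59, 239, 1, 3), (2, false, 59, 239, 2, 3), (4, false, 59, 239, 4, 2), (5, false, 59, 239, 5, 2), (7, false, 59, 239, 7, 2), (10, false, 59, 239, 10, 2), (14, false, 59, 239, 14, 2), (15, false, 59, 239, 15, 2), (16, false, 59, 239, 16, 2), (18, false, 59, 239, 18, 2), (19, false, 59, 239, 19, 2), (20, false, 60, 238, 20, 2), (22, false, 59, 239, 22, 2), (26, false, 59, 239, 26, 2), (30, false, 59, 239, 30, 2), (31, false, 59, 239, 31, 2), (32, false, 60, 238, 32, 2), (36, false, 59, 239, 36, 2), (40, false, 59, 239, 40, 2), (41, false, 59, 239, 41, 2), (42, false, 60, 238, 42, 2), (46, false, 59, 239, 46, 2), (47, false, 59, 239, 47, 2), (48, false, 60, 238, 48, 2), (52, false, 59, 239, 52, 2), (53, false, 60, 238, 53, 2), (54, false, 61, 237, 54, 2), (78, false, 59, 239, 78, 2), (79, false, 59, 239, 79, 2), (80, false, 60, 238, 80, 2), (84, false, 59, 239, 84, 2), (85, false, 60, 238, 85, 2), (86, false, 61, 237, 86, 2), (88, false,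 59, 239, 88, 2), (89, false, 60, 238, 89, 2), (90, false, 61, 237, 90, 2), (92, false, 65, 235, 92, 2), (99, false, 59, 239, 99, 2), (100, false, 60, 238, 100, 2), (101, false, 61, 237, 101, 2), (103, false, 65, 235, 103, 2), (104, false, 69, 234, 104, 2), (114, false, 59, 239, 114, 2), (115, false, 60, 238, 115, 2), (116, false, 61, 237, 116, 2), (126, false, 65, 235, 126, 2), (131, false, 69, 234, 131, 2), (143, false, 74, 232, 143, 2), (162, false, 96, 225, 162, 2), (165, false, 96, 225, 165, 2), (170, false, 108, 224, 170, 2), (174, false, 113, 223, 174, 2), (178, false, 123, 221, 178, 2), (179, false, 124, 220, 179, 2), (180, false, 125, 219, 180, 2)]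
def tRow223 : List (ℕ × Bool × ℕ × ℕ × ℕ × ℕ) := [(0, false, 63, 238, 0, 3), (1, false, 62, 239, 1, 3), (2, false, 62, 239, 2, 3), (3, false, 62, 239, 3, 3), (5, false, 62, 239, 5, 2), (7, false, 62, 239, 7, 2), (9, false, 62, 239, 9, 2), (14, false, 62, 239, 14, 2), (15, false, 62, 239, 15, 2), (17, false, 62, 239, 17, 2), (18, false, 62, 239, 18, 2), (19, false, 62, 239, 19, 2), (20, false, 63, 238, 20, 2), (21, false, 62, 239, 21, 2), (26, false, 62, 239, 26, 2), (27, false, 62, 239, 27, 2), (28, false, 62, 239, 28, 2), (29, false, 63, 238, 29, 2), (36, false, 62, 239, 36, 2), (37, false, 62, 239, 37, 2), (38, false, 62, 239, 38, 2), (39, false, 63, 238, 39, 2), (46, false, 62, 239, 46, 2), (47, false, 62, 239, 47, 2), (48, false, 63, 238, 48, 2), (49, false, 62, 239, 49, 2), (50, false, 63, 238, 50, 2), (51, false, 64, 237, 51, 2), (78, false, 62, 239, 78, 2), (79, false, 62, 239, 79, 2), (80, false, 63, 238, 80, 2), (81, false, 62, 239, 81, 2), (82, false, 63, 238, 82, 2), (83, false, 64, 237, 83, 2), (88, false,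 62, 239, 88, 2), (89, false, 63, 238, 89, 2), (90, false, 64, 237, 90, 2), (91, false, 65, 236, 91, 2), (99, false, 62, 239, 99, 2), (100, false, 63, 238, 100, 2), (101, false, 64, 237, 101, 2), (102, false, 65, 236, 102, 2), (104, false, 70, 234, 104, 2), (110, false, 62, 239, 110, 2), (111, false, 63, 238, 111, 2), (112, false, 64, 237, 112, 2), (113, false, 65, 236, 113, 2), (130, false, 70, 234, 130, 2), (142, false, 75, 232, 142, 2), (162, false, 97, 225, 162, 2), (164, false, 97, 225, 164, 2), (169, false, 109, 224, 169, 2), (174, false, 126, 222, 174, 2), (175, false, 127, 221, 175, 2), (176, false, 128, 220, 176, 2), (177, false, 129, 219, 177, 2)]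
def tRow224 : List (ℕ × Bool × ℕ × ℕ × ℕ × ℕ) := [(0, false, 67, 238, 0, 3), (1, false, 66, 239, 1, 3), (2, false, 66, 239, 2, 3), (3, false, 66, 239, 3, 3), (4, false, 66, 239, 4, 3), (7, false, 66, 239, 7, 2), (8, false, 66, 239, 8, 2), (14, false, 66, 239, 14, 2), (16, false, 66, 239, 16, 2), (17, false, 66, 239, 17, 2), (18, false, 66, 239, 18, 2), (19, false, 66, 239, 19, 2), (20, false, 67, 238, 20, 2), (21, false, 66, 239, 21, 2), (22, false, 66, 239, 22, 2), (23, false, 66, 239, 23, 2), (24, false, 66, 239, 24, 2), (25, false, 67, 238, 25, 2), (36, false, 66, 239, 36, 2), (37, false, 66, 239, 37, 2), (38, false, 66, 239, 38, 2), (39, false, 67, 238, 39, 2), (40, false, 66, 239, 40, 2), (41, false, 66, 239, 41, 2), (42, false, 67, 238, 42, 2), (43, false, 66, 239, 43, 2), (44, false, 67, 238, 44, 2), (45, false, 68, 237, 45, 2), (78, false, 66, 239, 78, 2), (79, false, 66, 239, 79, 2), (80, false, 67, 238, 80, 2), (81, false, 66, 239, 81, 2), (82, false, 67, 238, 82, 2), (83, false, 68, 237, 83, 2), (84, false,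 66, 239, 84, 2), (85, false, 67, 238, 85, 2), (86, false, 68, 237, 86, 2), (87, false, 69, 236, 87, 2), (99, false, 66, 239, 99, 2), (100, false, 67, 238, 100, 2), (101, false, 68, 237, 101, 2), (102, false, 69, 236, 102, 2), (103, false, 70, 235, 103, 2), (105, false, 66, 239, 105, 2), (106, false, 67, 238, 106, 2), (107, false, 68, 237, 107, 2), (108, false, 69, 236, 108, 2), (109, false, 70, 235, 109, 2), (141, false, 76, 232, 141, 2), (162, false, 98, 225, 162, 2), (163, false, 98, 225, 163, 2), (169, false, 130, 223, 169, 2), (170, false, 131, 222, 170, 2), (171, false, 132, 221, 171, 2), (172, false, 133, 220, 172, 2), (173, false, 134, 219, 173, 2)]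
def tRow225 : List (ℕ × Bool × ℕ × ℕ × ℕ × ℕ) := [(0, false, 72, 238, 0, 3), (1, false, 71, 239, 1, 3), (2, false, 71, 239, 2, 3), (3, false, 71, 239, 3, 3), (4, false, 71, 239, 4, 3), (5, false, 71, 239, 5, 3), (6, false, 71, 239, 6, 3), (15, false, 71, 239, 15, 2), (16, false, 71, 239, 16, 2), (17, false, 71, 239, 17, 2), (18, false, 71, 239, 18, 2), (19, false, 71, 239, 19, 2), (20, false, 72, 238, 20, 2), (21, false, 71, 239, 21, 2), (22, false, 71, 239, 22, 2), (23, false, 71, 239, 23, 2), (24, false, 71, 239, 24, 2), (25, false, 72, 238, 25, 2), (26, false, 71, 239, 26, 2), (27, false, 71, 239, 27, 2), (28, false, 71, 239, 28, 2), (29, false, 72, 238, 29, 2), (30, false, 71, 239, 30, 2), (31, false, 71, 239, 31, 2), (32, false, 72, 238, 32, 2), (33, false, 71, 239, 33, 2), (34, false, 72, 238, 34, 2), (35, false, 73, 237, 35, 2), (78, false, 71, 239, 78, 2), (79, false, 71, 239, 79, 2), (80, false, 72, 238, 80, 2), (81, false, 71, 239, 81, 2), (82, false, 72, 238, 82, 2), (83, false, 73, 237, 83, 2), (84, false,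 71, 239, 84, 2), (85, false, 72, 238, 85, 2), (86, false, 73, 237, 86, 2), (87, false, 74, 236, 87, 2), (88, false, 71, 239, 88, 2), (89, false, 72, 238, 89, 2), (90, false, 73, 237, 90, 2), (91, false, 74, 236, 91, 2), (92, false, 75, 235, 92, 2), (93, false, 71, 239, 93, 2), (94, false, 72, 238, 94, 2), (95, false, 73, 237, 95, 2), (96, false, 74, 236, 96, 2), (97, false, 75, 235, 97, 2), (98, false, 76, 234, 98, 2), (162, false, 141, 224, 162, 2), (163, false, 141, 224, 163, 2), (164, false, 142, 223, 164, 2), (165, false, 143, 222, 165, 2), (166, false, 144, 221, 166, 2), (167, false, 145, 220, 167, 2), (168, false, 146, 219, 168, 2)]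
def tRow226 : List (ℕ × Bool × ℕ × ℕ × ℕ × ℕ) := [(1, false, 79, 237, 1, 2), (2, false, 78, 238, 2, 2), (3, false, 78, 238, 3, 2), (4, false, 78, 238, 4, 2), (5, false, 78, 238, 5, 2), (6, false, 78, 238, 6, 2), (7, false, 78, 238, 7, 2), (8, false, 78, 238, 8, 2), (9, false, 78, 238, 9, 2), (10, false, 78, 238, 10, 2), (11, false, 78, 238, 11, 2), (12, false, 79, 237, 12, 2), (20, false, 78, 238, 20, 2), (25, false, 78, 238, 25, 2), (29, false, 78, 238, 29, 2), (32, false, 78, 238, 32, 2), (34, false, 78, 238, 34, 2), (35, false, 79, 237, 35, 2), (39, false, 78, 238, 39, 2), (42, false, 78, 238, 42, 2), (44, false, 78, 238, 44, 2), (45, false, 79, 237, 45, 2), (48, false, 78, 238, 48, 2), (50, false, 78, 238, 50, 2), (51, false, 79, 237, 51, 2), (53, false, 78, 238, 53, 2), (54, false, 79, 237, 54, 2), (55, false, 81, 236, 55, 2), (58, false, 78, 238, 58, 2), (60, false, 78, 238, 60, 2), (61, false, 79, 237, 61, 2), (63, false, 78, 238, 63, 2), (64, false, 79, 237, 64, 2), (65, false, 81, 236, 65, 2), (67, false, 78,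 238, 67, 2), (68, false, 79, 237, 68, 2), (69, false, 81, 236, 69, 2), (70, false, 84, 235, 70, 2), (72, false, 78, 238, 72, 2), (73, false, 79, 237, 73, 2), (74, false, 81, 236, 74, 2), (75, false, 84, 235, 75, 2), (76, false, 88, 234, 76, 2), (77, false, 93, 233, 77, 2), (120, false, 78, 238, 120, 1), (122, false, 79, 237, 122, 1), (125, false, 81, 236, 125, 1), (129, false, 84, 235, 129, 1), (134, false, 88, 234, 134, 1), (140, false, 93, 233, 140, 1), (146, false, 99, 232, 146, 1), (151, false, 105, 231, 151, 1), (155, false, 110, 230, 155, 1), (158, false, 114, 229, 158, 1), (160, false, 117, 228, 160, 1), (161, false, 119, 227, 161, 1)]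
def tRow227 : List (ℕ × Bool × ℕ × ℕ × ℕ × ℕ) := [(0, false, 80, 237, 0, 3), (2, false, 78, 239, 2, 2), (3, false, 78, 239, 3, 2), (4, false, 78, 239, 4, 2), (5, false, 78, 239, 5, 2), (6, false, 78, 239, 6, 2), (7, false, 78, 239, 7, 2), (8, false, 78, 239, 8, 2), (9, false, 78, 239, 9, 2), (10, false, 78, 239, 10, 2), (11, false, 78, 239, 11, 2), (13, false, 80, 237, 13, 2), (19, false, 78, 239, 19, 2), (24, false, 78, 239, 24, 2), (28, false, 78, 239, 28, 2), (31, false, 78, 239, 31, 2), (33, false, 78, 239, 33, 2), (35, false, 80, 237, 35, 2), (38, false, 78, 239, 38, 2), (41, false, 78, 239, 41, 2), (43, false, 78, 239, 43, 2), (45, false, 80, 237, 45, 2), (47, false, 78, 239, 47, 2), (49, false, 78, 239, 49, 2), (51, false, 80, 237, 51, 2), (52, false, 78, 239, 52, 2), (54, false, 80, 237, 54, 2), (55, false, 82, 236, 55, 2), (57, false, 78, 239, 57, 2), (59, false, 78, 239, 59, 2), (61, false, 80, 237, 61, 2), (62, false, 78, 239, 62, 2), (64, false, 80, 237, 64, 2), (65, false, 82, 236, 65, 2), (66, false, 78,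 239, 66, 2), (68, false, 80, 237, 68, 2), (69, false, 82, 236, 69, 2), (70, false, 85, 235, 70, 2), (71, false, 78, 239, 71, 2), (73, false, 80, 237, 73, 2), (74, false, 82, 236, 74, 2), (75, false, 85, 235, 75, 2), (76, false, 89, 234, 76, 2), (77, false, 94, 233, 77, 2), (119, false, 78, 239, 119, 1), (121, false, 80, 237, 121, 2), (124, false, 82, 236, 124, 2), (128, false, 85, 235, 128, 2), (133, false, 89, 234, 133, 2), (139, false, 94, 233, 139, 2), (145, false, 100, 232, 145, 2), (150, false, 106, 231, 150, 2), (154, false, 111, 230, 154, 2), (157, false, 115, 229, 157, 2), (159, false, 118, 228, 159, 2), (161, false, 120, 226, 161, 1)]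
def tRow228 : List (ℕ × Bool × ℕ × ℕ × ℕ × ℕ) := [(0, false, 80, 238, 0, 3), (1, false, 79, 239, 1, 3), (3, false, 79, 239, 3, 2), (4, false, 79, 239, 4, 2), (5, false, 79, 239, 5, 2), (6, false, 79, 239, 6, 2), (7, false, 79, 239, 7, 2), (8, false, 79, 239, 8, 2), (9, false, 79, 239, 9, 2), (10, false, 79, 239, 10, 2), (12, false, 79, 239, 12, 2), (13, false, 80, 238, 13, 2), (18, false, 79, 239, 18, 2), (23, false, 79, 239, 23, 2), (27, false, 79, 239, 27, 2), (30, false, 79, 239, 30, 2), (33, false, 79, 239, 33, 2), (34, false, 80, 238, 34, 2), (37, false, 79, 239, 37, 2), (40, false, 79, 239, 40, 2), (43, false, 79, 239, 43, 2), (44, false, 80, 238, 44, 2), (46, false, 79, 239, 46, 2), (49, false, 79, 239, 49, 2), (50, false, 80, 238, 50, 2), (52, false, 79, 239, 52, 2), (53, false, 80, 238, 53, 2), (55, false, 83, 236, 55, 2), (56, false, 79, 239, 56, 2), (59, false, 79, 239, 59, 2), (60, false, 80, 238, 60, 2), (62, false, 79, 239, 62, 2), (63, false, 80, 238, 63, 2), (65, false, 83, 236, 65, 2), (66, false, 79,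 239, 66, 2), (67, false, 80, 238, 67, 2), (69, false, 83, 236, 69, 2), (70, false, 86, 235, 70, 2), (71, false, 79, 239, 71, 2), (72, false, 80, 238, 72, 2), (74, false, 83, 236, 74, 2), (75, false, 86, 235, 75, 2), (76, false, 90, 234, 76, 2), (77, false, 95, 233, 77, 2), (117, false, 79, 239, 117, 2), (118, false, 80, 238, 118, 2), (123, false, 83, 236, 123, 2), (127, false, 86, 235, 127, 2), (132, false, 90, 234, 132, 2), (138, false, 95, 233, 138, 2), (144, false, 101, 232, 144, 2), (149, false, 107, 231, 149, 2), (153, false, 112, 230, 153, 2), (156, false, 116, 229, 156, 2), (159, false, 121, 227, 159, 2), (160, false, 122, 226, 160, 2)]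
def tRow229 : List (ℕ × Bool × ℕ × ℕ × ℕ × ℕ) := [(0, false, 82, 238, 0, 3), (1, false, 81, 239, 1, 3), (2, false, 81, 239, 2, 3), (4, false, 81, 239, 4, 2), (5, false, 81, 239, 5, 2), (6, false, 81, 239, 6, 2), (7, false, 81, 239, 7, 2), (8, false, 81, 239, 8, 2), (9, false, 81, 239, 9, 2), (11, false, 81, 239, 11, 2), (12, false, 81, 239, 12, 2), (13, false, 82, 238, 13, 2), (17, false, 81, 239, 17, 2), (22, false, 81, 239, 22, 2), (26, false, 81, 239, 26, 2), (30, false, 81, 239, 30, 2), (31, false, 81, 239, 31, 2), (32, false, 82, 238, 32, 2), (36, false, 81, 239, 36, 2), (40, false, 81, 239, 40, 2), (41, false, 81, 239, 41, 2), (42, false, 82, 238, 42, 2), (46, false, 81, 239, 46, 2), (47, false, 81, 239, 47, 2), (48, false, 82, 238, 48, 2), (52, false, 81, 239, 52, 2), (53, false, 82, 238, 53, 2), (54, false, 83, 237, 54, 2), (56, false, 81, 239, 56, 2), (57, false, 81, 239, 57, 2), (58, false, 82, 238, 58, 2), (62, false, 81, 239, 62, 2), (63, false, 82, 238, 63, 2), (64, false, 83, 237, 64, 2), (66, false, 81,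 239, 66, 2), (67, false, 82, 238, 67, 2), (68, false, 83, 237, 68, 2), (70, false, 87, 235, 70, 2), (71, false, 81, 239, 71, 2), (72, false, 82, 238, 72, 2), (73, false, 83, 237, 73, 2), (75, false, 87, 235, 75, 2), (76, false, 91, 234, 76, 2), (77, false, 96, 233, 77, 2), (114, false, 81, 239, 114, 2), (115, false, 82, 238, 115, 2), (116, false, 83, 237, 116, 2), (126, false, 87, 235, 126, 2), (131, false, 91, 234, 131, 2), (137, false, 96, 233, 137, 2), (143, false, 102, 232, 143, 2), (148, false, 108, 231, 148, 2), (152, false, 113, 230, 152, 2), (156, false, 123, 228, 156, 2), (157, false, 124, 227, 157, 2), (158, false, 125, 226, 158, 2)]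
def tRow230 : List (ℕ × Bool × ℕ × ℕ × ℕ × ℕ) := [(0, false, 85, 238, 0, 3), (1, false, 84, 239, 1, 3), (2, false, 84, 239, 2, 3), (3, false, 84, 239, 3, 3), (5, false, 84, 239, 5, 2), (6, false, 84, 239, 6, 2), (7, false, 84, 239, 7, 2), (8, false, 84, 239, 8, 2), (10, false, 84, 239, 10, 2), (11, false, 84, 239, 11, 2), (12, false, 84, 239, 12, 2), (13, false, 85, 238, 13, 2), (16, false, 84, 239, 16, 2), (21, false, 84, 239, 21, 2), (26, false, 84, 239, 26, 2), (27, false, 84, 239, 27, 2), (28, false, 84, 239, 28, 2), (29, false, 85, 238, 29, 2), (36, false, 84, 239, 36, 2), (37, false, 84, 239, 37, 2), (38, false, 84, 239, 38, 2), (39, false, 85, 238, 39, 2), (46, false, 84, 239, 46, 2), (47, false, 84, 239, 47, 2), (48, false, 85, 238, 48, 2), (49, false, 84, 239, 49, 2), (50, false, 85, 238, 50, 2), (51, false, 86, 237, 51, 2), (56, false, 84, 239, 56, 2), (57, false, 84, 239, 57, 2), (58, false, 85, 238, 58, 2), (59, false, 84, 239, 59, 2), (60, false, 85, 238, 60, 2), (61, false, 86, 237, 61, 2), (66, false, 84,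 239, 66, 2), (67, false, 85, 238, 67, 2), (68, false, 86, 237, 68, 2), (69, false, 87, 236, 69, 2), (71, false, 84, 239, 71, 2), (72, false, 85, 238, 72, 2), (73, false, 86, 237, 73, 2), (74, false, 87, 236, 74, 2), (76, false, 92, 234, 76, 2), (77, false, 97, 233, 77, 2), (110, false, 84, 239, 110, 2), (111, false, 85, 238, 111, 2), (112, false, 86, 237, 112, 2), (113, false, 87, 236, 113, 2), (130, false, 92, 234, 130, 2), (136, false, 97, 233, 136, 2), (142, false, 103, 232, 142, 2), (147, false, 109, 231, 147, 2), (152, false, 126, 229, 152, 2), (153, false, 127, 228, 153, 2), (154, false, 128, 227, 154, 2), (155, false, 129, 226, 155, 2)]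
def tRow231 : List (ℕ × Bool × ℕ × ℕ × ℕ × ℕ) := [(0, false, 89, 238, 0, 3), (1, false, 88, 239, 1, 3), (2, false, 88, 239, 2, 3), (3, false, 88, 239, 3, 3), (4, false, 88, 239, 4, 3), (6, false, 88, 239, 6, 2), (7, false, 88, 239, 7, 2), (9, false, 88, 239, 9, 2), (10, false, 88, 239, 10, 2), (11, false, 88, 239, 11, 2), (12, false, 88, 239, 12, 2), (13, false, 89, 238, 13, 2), (15, false, 88, 239, 15, 2), (21, false, 88, 239, 21, 2), (22, false, 88, 239, 22, 2), (23, false, 88, 239, 23, 2), (24, false, 88, 239, 24, 2), (25, false, 89, 238, 25, 2), (36, false, 88, 239, 36, 2), (37, false, 88, 239, 37, 2), (38, false, 88, 239, 38, 2), (39, false, 89, 238, 39, 2), (40, false, 88, 239, 40, 2), (41, false, 88, 239, 41, 2), (42, false, 89, 238, 42, 2), (43, false, 88, 239, 43, 2), (44, false, 89, 238, 44, 2), (45, false, 90, 237, 45, 2), (56, false, 88, 239, 56, 2), (57, false, 88, 239, 57, 2), (58, false, 89, 238, 58, 2), (59, false, 88, 239, 59, 2), (60, false, 89, 238, 60, 2), (61, false, 90, 237, 61, 2), (62, false, 88,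 239, 62, 2), (63, false, 89, 238, 63, 2), (64, false, 90, 237, 64, 2), (65, false, 91, 236, 65, 2), (71, false, 88, 239, 71, 2), (72, false, 89, 238, 72, 2), (73, false, 90, 237, 73, 2), (74, false, 91, 236, 74, 2), (75, false, 92, 235, 75, 2), (77, false, 98, 233, 77, 2), (105, false, 88, 239, 105, 2), (106, false, 89, 238, 106, 2), (107, false, 90, 237, 107, 2), (108, false, 91, 236, 108, 2), (109, false, 92, 235, 109, 2), (135, false, 98, 233, 135, 2), (141, false, 104, 232, 141, 2), (147, false, 130, 230, 147, 2), (148, false, 131, 229, 148, 2), (149, false, 132, 228, 149, 2), (150, false, 133, 227, 150, 2), (151, false, 134, 226, 151, 2)]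
def tRow232 : List (ℕ × Bool × ℕ × ℕ × ℕ × ℕ) := [(0, false, 94, 238, 0, 3), (1, false, 93, 239, 1, 3), (2, false, 93, 239, 2, 3), (3, false, 93, 239, 3, 3), (4, false, 93, 239, 4, 3), (5, false, 93, 239, 5, 3), (8, false, 93, 239, 8, 2), (9, false, 93, 239, 9, 2), (10, false, 93, 239, 10, 2), (11, false, 93, 239, 11, 2), (12, false, 93, 239, 12, 2), (13, false, 94, 238, 13, 2), (15, false, 93, 239, 15, 2), (16, false, 93, 239, 16, 2), (17, false, 93, 239, 17, 2), (18, false, 93, 239, 18, 2), (19, false, 93, 239, 19, 2), (20, false, 94, 238, 20, 2), (36, false, 93, 239, 36, 2), (37, false, 93, 239, 37, 2), (38, false, 93, 239, 38, 2), (39, false, 94, 238, 39, 2), (40, false, 93, 239, 40, 2), (41, false, 93, 239, 41, 2), (42, false, 94, 238, 42, 2), (43, false, 93, 239, 43, 2), (44, false, 94, 238, 44, 2), (45, false, 95, 237, 45, 2), (46, false, 93, 239, 46, 2), (47, false, 93, 239, 47, 2), (48, false, 94, 238, 48, 2), (49, false, 93, 239, 49, 2), (50, false, 94, 238, 50, 2), (51, false, 95, 237, 51, 2), (52, false, 93,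 239, 52, 2), (53, false, 94, 238, 53, 2), (54, false, 95, 237, 54, 2), (55, false, 96, 236, 55, 2), (71, false, 93, 239, 71, 2), (72, false, 94, 238, 72, 2), (73, false, 95, 237, 73, 2), (74, false, 96, 236, 74, 2), (75, false, 97, 235, 75, 2), (76, false, 98, 234, 76, 2), (99, false, 93, 239, 99, 2), (100, false, 94, 238, 100, 2), (101, false, 95, 237, 101, 2), (102, false, 96, 236, 102, 2), (103, false, 97, 235, 103, 2), (104, false, 98, 234, 104, 2), (141, false, 135, 231, 141, 2), (142, false, 136, 230, 142, 2), (143, false, 137, 229, 143, 2), (144, false, 138, 228, 144, 2), (145, false, 139, 227, 145, 2), (146, false, 140, 226, 146, 2)]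
def tRow233 : List (ℕ × Bool × ℕ × ℕ × ℕ × ℕ) := [(0, false, 100, 238, 0, 3), (1, false, 99, 239, 1, 3), (2, false, 99, 239, 2, 3), (3, false, 99, 239, 3, 3), (4, false, 99, 239, 4, 3), (5, false, 99, 239, 5, 3), (8, false, 99, 239, 8, 2), (9, false, 99, 239, 9, 2), (10, false, 99, 239, 10, 2), (11, false, 99, 239, 11, 2), (12, false, 99, 239, 12, 2), (13, false, 100, 238, 13, 2), (14, false, 99, 239, 14, 3), (21, false, 99, 239, 21, 2), (22, false, 99, 239, 22, 2), (23, false, 99, 239, 23, 2), (24, false, 99, 239, 24, 2), (25, false, 100, 238, 25, 2), (26, false, 99, 239, 26, 2), (27, false, 99, 239, 27, 2), (28, false, 99, 239, 28, 2), (29, false, 100, 238, 29, 2), (30, false, 99, 239, 30, 2), (31, false, 99, 239, 31, 2), (32, false, 100, 238, 32, 2), (33, false, 99, 239, 33, 2), (34, false, 100, 238, 34, 2), (35, false, 101, 237, 35, 2), (56, false, 99, 239, 56, 2), (57, false, 99, 239, 57, 2), (58, false, 100, 238, 58, 2), (59, false, 99, 239, 59, 2), (60, false, 100, 238, 60, 2), (61, false, 101, 237, 61, 2), (62,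 false, 99, 239, 62, 2), (63, false, 100, 238, 63, 2), (64, false, 101, 237, 64, 2), (65, false, 102, 236, 65, 2), (66, false, 99, 239, 66, 2), (67, false, 100, 238, 67, 2), (68, false, 101, 237, 68, 2), (69, false, 102, 236, 69, 2), (70, false, 103, 235, 70, 2), (77, false, 141, 231, 77, 2), (93, false, 99, 239, 93, 2), (94, false, 100, 238, 94, 2), (95, false, 101, 237, 95, 2), (96, false, 102, 236, 96, 2), (97, false, 103, 235, 97, 2), (98, false, 104, 234, 98, 2), (135, false, 141, 231, 135, 2), (136, false, 142, 230, 136, 2), (137, false, 143, 229, 137, 2), (138, false, 144, 228, 138, 2), (139, false, 145, 227, 139, 2), (140, false, 146, 226, 140, 2)]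
def tRow234 : List (ℕ × Bool × ℕ × ℕ × ℕ × ℕ) := [(0, false, 106, 238, 0, 3), (1, false, 105, 239, 1, 3), (2, false, 105, 239, 2, 3), (3, false, 105, 239, 3, 3), (4, false, 105, 239, 4, 3), (6, false, 105, 239, 6, 3), (7, false, 105, 239, 7, 3), (9, false, 105, 239, 9, 2), (10, false, 105, 239, 10, 2), (11, false, 105, 239, 11, 2), (12, false, 105, 239, 12, 2), (13, false, 106, 238, 13, 2), (14, false, 105, 239, 14, 3), (16, false, 105, 239, 16, 2), (17, false, 105, 239, 17, 2), (18, false, 105, 239, 18, 2), (19, false, 105, 239, 19, 2), (20, false, 106, 238, 20, 2), (26, false, 105, 239, 26, 2), (27, false, 105, 239, 27, 2), (28, false, 105, 239, 28, 2), (29, false, 106, 238, 29, 2), (30, false, 105, 239, 30, 2), (31, false, 105, 239, 31, 2), (32, false, 106, 238, 32, 2), (33, false, 105, 239, 33, 2), (34, false, 106, 238, 34, 2), (35, false, 107, 237, 35, 2), (46, false, 105, 239, 46, 2), (47, false, 105, 239, 47, 2), (48, false, 106, 238, 48, 2), (49, false, 105, 239, 49, 2), (50, false, 106, 238, 50, 2), (51, false,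 107, 237, 51, 2), (52, false, 105, 239, 52, 2), (53, false, 106, 238, 53, 2), (54, false, 107, 237, 54, 2), (55, false, 108, 236, 55, 2), (66, false, 105, 239, 66, 2), (67, false, 106, 238, 67, 2), (68, false, 107, 237, 68, 2), (69, false, 108, 236, 69, 2), (70, false, 109, 235, 70, 2), (76, false, 141, 232, 76, 2), (88, false, 105, 239, 88, 2), (89, false, 106, 238, 89, 2), (90, false, 107, 237, 90, 2), (91, false, 108, 236, 91, 2), (92, false, 109, 235, 92, 2), (98, false, 135, 233, 98, 2), (104, false, 141, 232, 104, 2), (130, false, 147, 230, 130, 2), (131, false, 148, 229, 131, 2), (132, false, 149, 228, 132, 2), (133, false, 150, 227, 133, 2), (134, false, 151, 226, 134, 2)]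
def tRow235 : List (ℕ × Bool × ℕ × ℕ × ℕ × ℕ) := [(0, false, 111, 238, 0, 3), (1, false, 110, 239, 1, 3), (2, false, 110, 239, 2, 3), (3, false, 110, 239, 3, 3), (5, false, 110, 239, 5, 3), (6, false, 110, 239, 6, 3), (7, false, 110, 239, 7, 3), (8, false, 110, 239, 8, 3), (10, false, 110, 239, 10, 2), (11, false, 110, 239, 11, 2), (12, false, 110, 239, 12, 2), (13, false, 111, 238, 13, 2), (14, false, 110, 239, 14, 3), (15, false, 110, 239, 15, 3), (17, false, 110, 239, 17, 2), (18, false, 110, 239, 18, 2), (19, false, 110, 239, 19, 2), (20, false, 111, 238, 20, 2), (22, false, 110, 239, 22, 2), (23, false, 110, 239, 23, 2), (24, false, 110, 239, 24, 2), (25, false, 111, 238, 25, 2), (30, false, 110, 239, 30, 2), (31, false, 110, 239, 31, 2), (32, false, 111, 238, 32, 2), (33, false, 110, 239, 33, 2), (34, false, 111, 238, 34, 2), (35, false, 112, 237, 35, 2), (40, false, 110, 239, 40, 2), (41, false, 110, 239, 41, 2), (42, false, 111, 238, 42, 2), (43, false, 110, 239, 43, 2), (44, false, 111, 238, 44, 2), (45, false,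 112, 237, 45, 2), (52, false, 110, 239, 52, 2), (53, false, 111, 238, 53, 2), (54, false, 112, 237, 54, 2), (55, false, 113, 236, 55, 2), (62, false, 110, 239, 62, 2), (63, false, 111, 238, 63, 2), (64, false, 112, 237, 64, 2), (65, false, 113, 236, 65, 2), (70, false, 130, 234, 70, 2), (75, false, 142, 232, 75, 2), (84, false, 110, 239, 84, 2), (85, false, 111, 238, 85, 2), (86, false, 112, 237, 86, 2), (87, false, 113, 236, 87, 2), (92, false, 130, 234, 92, 2), (97, false, 136, 233, 97, 2), (103, false, 142, 232, 103, 2), (109, false, 147, 231, 109, 2), (126, false, 152, 229, 126, 2), (127, false, 153, 228, 127, 2), (128, false, 154, 227, 128, 2), (129, false, 155, 226, 129, 2)]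
def tRow236 : List (ℕ × Bool × ℕ × ℕ × ℕ × ℕ) := [(0, false, 115, 238, 0, 3), (1, false, 114, 239, 1, 3), (2, false, 114, 239, 2, 3), (4, false, 114, 239, 4, 3), (5, false, 114, 239, 5, 3), (6, false, 114, 239, 6, 3), (7, false, 114, 239, 7, 3), (8, false, 114, 239, 8, 3), (9, false, 114, 239, 9, 3), (11, false, 114, 239, 11, 2), (12, false, 114, 239, 12, 2), (13, false, 115, 238, 13, 2), (14, false, 114, 239, 14, 3), (15, false, 114, 239, 15, 3), (16, false, 114, 239, 16, 3), (18, false, 114, 239, 18, 2), (19, false, 114, 239, 19, 2), (20, false, 115, 238, 20, 2), (21, false, 114, 239, 21, 3), (23, false, 114, 239, 23, 2), (24, false, 114, 239, 24, 2), (25, false, 115, 238, 25, 2), (27, false, 114, 239, 27, 2), (28, false, 114, 239, 28, 2), (29, false, 115, 238, 29, 2), (33, false, 114, 239, 33, 2), (34, false, 115, 238, 34, 2), (35, false, 116, 237, 35, 2), (37, false, 114, 239, 37, 2), (38, false, 114, 239, 38, 2), (39, false, 115, 238, 39, 2), (43, false, 114, 239, 43, 2), (44, false, 115, 238, 44, 2), (45, false,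 116, 237, 45, 2), (49, false, 114, 239, 49, 2), (50, false, 115, 238, 50, 2), (51, false, 116, 237, 51, 2), (55, false, 126, 235, 55, 2), (59, false, 114, 239, 59, 2), (60, false, 115, 238, 60, 2), (61, false, 116, 237, 61, 2), (65, false, 126, 235, 65, 2), (69, false, 131, 234, 69, 2), (74, false, 143, 232, 74, 2), (81, false, 114, 239, 81, 2), (82, false, 115, 238, 82, 2), (83, false, 116, 237, 83, 2), (87, false, 126, 235, 87, 2), (91, false, 131, 234, 91, 2), (96, false, 137, 233, 96, 2), (102, false, 143, 232, 102, 2), (108, false, 148, 231, 108, 2), (113, false, 152, 230, 113, 2), (123, false, 156, 228, 123, 2), (124, false, 157, 227, 124, 2), (125, false, 158, 226, 125, 2)]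
def tRow237 : List (ℕ × Bool × ℕ × ℕ × ℕ × ℕ) := [(0, false, 118, 238, 0, 3), (1, false, 117, 239, 1, 3), (3, false, 117, 239, 3, 3), (4, false, 117, 239, 4, 3), (5, false, 117, 239, 5, 3), (6, false, 117, 239, 6, 3), (7, false, 117, 239, 7, 3), (8, false, 117, 239, 8, 3), (9, false, 117, 239, 9, 3), (10, false, 117, 239, 10, 3), (12, false, 117, 239, 12, 2), (13, false, 118, 238, 13, 2), (14, false, 117, 239, 14, 3), (15, false, 117, 239, 15, 3), (16, false, 117, 239, 16, 3), (17, false, 117, 239, 17, 3), (19, false, 117, 239, 19, 2), (20, false, 118, 238, 20, 2), (21, false, 117, 239, 21, 3), (22, false, 117, 239, 22, 3), (24, false, 117, 239, 24, 2), (25, false, 118, 238, 25, 2), (26, false, 117, 239, 26, 3), (28, false, 117, 239, 28, 2), (29, false, 118, 238, 29, 2), (31, false, 117, 239, 31, 2), (32, false, 118, 238, 32, 2), (35, false, 123, 236, 35, 2), (36, false, 117, 239, 36, 3), (38, false, 117, 239, 38, 2), (39, false, 118, 238, 39, 2), (41, false, 117, 239, 41, 2), (42, false, 118, 238, 42, 2), (45, false,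 123, 236, 45, 2), (47, false, 117, 239, 47, 2), (48, false, 118, 238, 48, 2), (51, false, 123, 236, 51, 2), (54, false, 127, 235, 54, 2), (57, false, 117, 239, 57, 2), (58, false, 118, 238, 58, 2), (61, false, 123, 236, 61, 2), (64, false, 127, 235, 64, 2), (68, false, 132, 234, 68, 2), (73, false, 144, 232, 73, 2), (79, false, 117, 239, 79, 2), (80, false, 118, 238, 80, 2), (83, false, 123, 236, 83, 2), (86, false, 127, 235, 86, 2), (90, false, 132, 234, 90, 2), (95, false, 138, 233, 95, 2), (101, false, 144, 232, 101, 2), (107, false, 149, 231, 107, 2), (112, false, 153, 230, 112, 2), (116, false, 156, 229, 116, 2), (121, false, 159, 227, 121, 2), (122, false, 160, 226, 122, 2)]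
def tRow238 : List (ℕ × Bool × ℕ × ℕ × ℕ × ℕ) := [(0, false, 121, 237, 0, 3), (2, false, 119, 239, 2, 3), (3, false, 119, 239, 3, 3), (4, false, 119, 239, 4, 3), (5, false, 119, 239, 5, 3), (6, false, 119, 239, 6, 3), (7, false, 119, 239, 7, 3), (8, false, 119, 239, 8, 3), (9, false, 119, 239, 9, 3), (10, false, 119, 239, 10, 3), (11, false, 119, 239, 11, 3), (13, false, 121, 237, 13, 2), (14, false, 119, 239, 14, 3), (15, false, 119, 239, 15, 3), (16, false, 119, 239, 16, 3), (17, false, 119, 239, 17, 3), (18, false, 119, 239, 18, 3), (20, false, 121, 237, 20, 2), (21, false, 119, 239, 21, 3), (22, false, 119, 239, 22, 3), (23, false, 119, 239, 23, 3), (25, false, 121, 237, 25, 2), (26, false, 119, 239, 26, 3), (27, false, 119, 239, 27, 3), (29, false, 121, 237, 29, 2), (30, false, 119, 239, 30, 3), (32, false, 121, 237, 32, 2), (34, false, 124, 236, 34, 2), (36, false, 119, 239, 36, 3), (37, false, 119, 239, 37, 3), (39, false, 121, 237, 39, 2), (40, false, 119, 239, 40, 3), (42, false, 121, 237, 42, 2), (44, false,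 124, 236, 44, 2), (46, false, 119, 239, 46, 3), (48, false, 121, 237, 48, 2), (50, false, 124, 236, 50, 2), (53, false, 128, 235, 53, 2), (56, false, 119, 239, 56, 3), (58, false, 121, 237, 58, 2), (60, false, 124, 236, 60, 2), (63, false, 128, 235, 63, 2), (67, false, 133, 234, 67, 2), (72, false, 145, 232, 72, 2), (78, false, 119, 239, 78, 3), (80, false, 121, 237, 80, 2), (82, false, 124, 236, 82, 2), (85, false, 128, 235, 85, 2), (89, false, 133, 234, 89, 2), (94, false, 139, 233, 94, 2), (100, false, 145, 232, 100, 2), (106, false, 150, 231, 106, 2), (111, false, 154, 230, 111, 2), (115, false, 157, 229, 115, 2), (118, false, 159, 228, 118, 2), (120, false, 161, 226, 120, 3)]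
def tRow239 : List (ℕ × Bool × ℕ × ℕ × ℕ × ℕ) := [(1, false, 122, 237, 1, 3), (2, false, 120, 238, 2, 3), (3, false, 120, 238, 3, 3), (4, false, 120, 238, 4, 3), (5, false, 120, 238, 5, 3), (6, false, 120, 238, 6, 3), (7, false, 120, 238, 7, 3), (8, false, 120, 238, 8, 3), (9, false, 120, 238, 9, 3), (10, false, 120, 238, 10, 3), (11, false, 120, 238, 11, 3), (12, false, 122, 237, 12, 3), (14, false, 120, 238, 14, 3), (15, false, 120, 238, 15, 3), (16, false, 120, 238, 16, 3), (17, false, 120, 238, 17, 3), (18, false, 120, 238, 18, 3), (19, false, 122, 237, 19, 3), (21, false, 120, 238, 21, 3), (22, false, 120, 238, 22, 3), (23, false, 120, 238, 23, 3), (24, false, 122, 237, 24, 3), (26, false, 120, 238, 26, 3), (27, false, 120, 238, 27, 3), (28, false, 122, 237, 28, 3), (30, false, 120, 238, 30, 3), (31, false, 122, 237, 31, 3), (33, false, 125, 236, 33, 3), (36, false, 120, 238, 36, 3), (37, false, 120, 238, 37, 3), (38, false, 122, 237, 38, 3), (40, false, 120, 238, 40, 3), (41, false, 122, 237, 41, 3), (43, false,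 125, 236, 43, 3), (46, false, 120, 238, 46, 3), (47, false, 122, 237, 47, 3), (49, false, 125, 236, 49, 3), (52, false, 129, 235, 52, 3), (56, false, 120, 238, 56, 3), (57, false, 122, 237, 57, 3), (59, false, 125, 236, 59, 3), (62, false, 129, 235, 62, 3), (66, false, 134, 234, 66, 3), (71, false, 146, 232, 71, 3), (78, false, 120, 238, 78, 3), (79, false, 122, 237, 79, 3), (81, false, 125, 236, 81, 3), (84, false, 129, 235, 84, 3), (88, false, 134, 234, 88, 3), (93, false, 140, 233, 93, 3), (99, false, 146, 232, 99, 3), (105, false, 151, 231, 105, 3), (110, false, 155, 230, 110, 3), (114, false, 158, 229, 114, 3), (117, false, 160, 228, 117, 3), (119, false, 161, 227, 119, 3)]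

/-- Hall-Witt configurations -/
def tT : List (List (ℕ × Bool × ℕ × ℕ × ℕ × ℕ)) := [tRow0, tRow1, tRow2, tRow3, tRow4, tRow5, tRow6, tRow7, tRow8, tRow9, tRow10, tRow11, tRow12, tRow13, tRow14, tRow15, tRow16, tRow17, tRow18, tRow19, tRow20, tRow21, tRow22, tRow23, tRow24, tRow25, tRow26, tRow27, tRow28, tRow29, tRow30, tRow31, tRow32, tRow33, tRow34, tRow35, tRow36, tRow37, tRow38, tRow39, tRow40, tRow41, tRow42, tRow43, tRow44, tRow45, tRow46, tRow47, tRow48, tRow49, tRow50, tRow51, tRow52, tRow53, tRow54, tRow55, tRow56, tRow57, tRow58, tRow59, tRow60, tRow61, tRow62, tRow63, tRow64, tRow65, tRow66, tRow67, tRow68, tRow69, tRow70, tRow71, tRow72, tRow73, tRow74, tRow75, tRow76, tRow77, tRow78, tRow79, tRow80, tRow81, tRow82, tRow83, tRow84, tRow85, tRow86, tRow87, tRow88, tRow89, tRow90, tRow91, tRow92, tRow93, tRow94, tRow95, tRow96, tRow97, tRow98, tRow99, tRow100, tRow101, tRow102, tRow103, tRow104, tRow105, tRow106, tRow107, tRow108, tRow109, tRow110, tRow111, tRow112, tRow113, tRow114, tRow115, tRow116, tRow117,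 tRow118, tRow119, tRow120, tRow121, tRow122, tRow123, tRow124, tRow125, tRow126, tRow127, tRow128, tRow129, tRow130, tRow131, tRow132, tRow133, tRow134, tRow135, tRow136, tRow137, tRow138, tRow139, tRow140, tRow141, tRow142, tRow143, tRow144, tRow145, tRow146, tRow147, tRow148, tRow149, tRow150, tRow151, tRow152, tRow153, tRow154, tRow155, tRow156, tRow157, tRow158, tRow159, tRow160, tRow161, tRow162, tRow163, tRow164, tRow165, tRow166, tRow167, tRow168, tRow169, tRow170, tRow171, tRow172, tRow173, tRow174, tRow175, tRow176, tRow177, tRow178, tRow179, tRow180, tRow181, tRow182, tRow183, tRow184, tRow185, tRow186, tRow187, tRow188, tRow189, tRow190, tRow191, tRow192, tRow193, tRow194, tRow195, tRow196, tRow197, tRow198, tRow199, tRow200, tRow201, tRow202, tRow203, tRow204, tRow205, tRow206, tRow207, tRow208, tRow209, tRow210, tRow211, tRow212, tRow213, tRow214, tRow215, tRow216, tRow217, tRow218, tRow219, tRow220, tRow221, tRow222, tRow223, tRow224, tRow225, tRow226, tRow227, tRow228, tRow229, tRow230, tRow231, tRow232,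 tRow233, tRow234, tRow235, tRow236, tRow237, tRow238, tRow239]

end Cfsg.Agent.Lib.Helper35_SteinDataE8
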