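/-
Central closedness of Steinberg groups (helper35): certificate checks for the type E8, (C4) for the roots 0 to 120 (generated).
-/
import Mathlib
import Cfsg.Prelude.Def_ChevE8
import Cfsg.Agent.Lib.Helper35_SteinCert
import Cfsg.Agent.Lib.Helper35_SteinDataE8

set_option autoImplicit false
set_option maxRecDepth 100000

namespace Cfsg.Agent.Lib.Helper35_SteinCertE8C0

open Cfsg Cfsg.Lie Cfsg.Agent.Lib.Helper35_SteinCert Cfsg.Agent.Lib.Helper35_SteinDataE8

theorem r0 : c4Row chevE8 0 = true := by decide +kernel
theorem r1 : c4Row chevE8 1 = true := by decide +kernel
theorem r2 : c4Row chevE8 2 = true := by decide +kernel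
theorem r3 : c4Row chevE8 3 = true := by decide +kernel
theorem r4 : c4Row chevE8 4 = true := by decide +kernel
theorem r5 : c4Row chevE8 5 = true := by decide +kernel
theorem r6 : c4Row chevE8 6 = true := by decide +kernel
theorem r7 : c4Row chevE8 7 = true := by decide +kernel
theorem r8 : c4Row chevE8 8 = true := by decide +kernel
theorem r9 : c4Row chevE8 9 = true := by decide +kernel
theorem r10 : c4Row chevE8 10 = true := by decide +kernel
theorem r11 : c4Row chevE8 11 = true := by decide +kernel
theorem r12 : c4Row chevE8 12 = true := by decide +kernel
theorem r13 : c4Row chevE8 13 = true := by decide +kernel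
theorem r14 : c4Row chevE8 14 = true := by decide +kernel
theorem r15 : c4Row chevE8 15 = true := by decide +kernel
theorem r16 : c4Row chevE8 16 = true := by decide +kernel
theorem r17 : c4Row chevE8 17 = true := by decide +kernel
theorem r18 : c4Row chevE8 18 = true := by decide +kernel
theorem r19 : c4Row chevE8 19 = true := by decide +kernel
theorem r20 : c4Row chevE8 20 = true := by decide +kernel
theorem r21 : c4Row chevE8 21 = true := by decide +kernel
theorem r22 : c4Row chevE8 22 = true := by decide +kernel
theorem r23 : c4Row chevE8 23 = true := by decide +kernel
theorem r24 : c4Row chevE8 24 = true := by decide +kernel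
theorem r25 : c4Row chevE8 25 = true := by decide +kernel
theorem r26 : c4Row chevE8 26 = true := by decide +kernel
theorem r27 : c4Row chevE8 27 = true := by decide +kernel
theorem r28 : c4Row chevE8 28 = true := by decide +kernel
theorem r29 : c4Row chevE8 29 = true := by decide +kernel
theorem r30 : c4Row chevE8 30 = true := by decide +kernel
theorem r31 : c4Row chevE8 31 = true := by decide +kernel
theorem r32 : c4Row chevE8 32 = true := by decide +kernel
theorem r33 : c4Row chevE8 33 = true := by decide +kernel
theorem r34 : c4Row chevE8 34 = true := by decide +kernel
theorem r35 : c4Row chevE8 35 = true := by decide +kernel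
theorem r36 : c4Row chevE8 36 = true := by decide +kernel
theorem r37 : c4Row chevE8 37 = true := by decide +kernel
theorem r38 : c4Row chevE8 38 = true := by decide +kernel
theorem r39 : c4Row chevE8 39 = true := by decide +kernel
theorem r40 : c4Row chevE8 40 = true := by decide +kernel
theorem r41 : c4Row chevE8 41 = true := by decide +kernel
theorem r42 : c4Row chevE8 42 = true := by decide +kernel
theorem r43 : c4Row chevE8 43 = true := by decide +kernel
theorem r44 : c4Row chevE8 44 = true := by decide +kernel
theorem r45 : c4Row chevE8 45 = true := by decide +kernel
theorem r46 : c4Row chevE8 46 = true := by decide +kernel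
theorem r47 : c4Row chevE8 47 = true := by decide +kernel
theorem r48 : c4Row chevE8 48 = true := by decide +kernel
theorem r49 : c4Row chevE8 49 = true := by decide +kernel
theorem r50 : c4Row chevE8 50 = true := by decide +kernel
theorem r51 : c4Row chevE8 51 = true := by decide +kernel
theorem r52 : c4Row chevE8 52 = true := by decide +kernel
theorem r53 : c4Row chevE8 53 = true := by decide +kernel
theorem r54 : c4Row chevE8 54 = true := by decide +kernel
theorem r55 : c4Row chevE8 55 = true := by decide +kernel
theorem r56 : c4Row chevE8 56 = true := by decide +kernel
theorem r57 : c4Row chevE8 57 = true := by decide +kernel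
theorem r58 : c4Row chevE8 58 = true := by decide +kernel
theorem r59 : c4Row chevE8 59 = true := by decide +kernel
theorem r60 : c4Row chevE8 60 = true := by decide +kernel
theorem r61 : c4Row chevE8 61 = true := by decide +kernel
theorem r62 : c4Row chevE8 62 = true := by decide +kernel
theorem r63 : c4Row chevE8 63 = true := by decide +kernel
theorem r64 : c4Row chevE8 64 = true := by decide +kernel
theorem r65 : c4Row chevE8 65 = true := by decide +kernel
theorem r66 : c4Row chevE8 66 = true := by decide +kernel
theorem r67 : c4Row chevE8 67 = true := by decide +kernel
theorem r68 : c4Row chevE8 68 = true := by decide +kernel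
theorem r69 : c4Row chevE8 69 = true := by decide +kernel
theorem r70 : c4Row chevE8 70 = true := by decide +kernel
theorem r71 : c4Row chevE8 71 = true := by decide +kernel
theorem r72 : c4Row chevE8 72 = true := by decide +kernel
theorem r73 : c4Row chevE8 73 = true := by decide +kernel
theorem r74 : c4Row chevE8 74 = true := by decide +kernel
theorem r75 : c4Row chevE8 75 = true := by decide +kernel
theorem r76 : c4Row chevE8 76 = true := by decide +kernel
theorem r77 : c4Row chevE8 77 = true := by decide +kernel
theorem r78 : c4Row chevE8 78 = true := by decide +kernel
theorem r79 : c4Row chevE8 79 = true := by decide +kernel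
theorem r80 : c4Row chevE8 80 = true := by decide +kernel
theorem r81 : c4Row chevE8 81 = true := by decide +kernel
theorem r82 : c4Row chevE8 82 = true := by decide +kernel
theorem r83 : c4Row chevE8 83 = true := by decide +kernel
theorem r84 : c4Row chevE8 84 = true := by decide +kernel
theorem r85 : c4Row chevE8 85 = true := by decide +kernel
theorem r86 : c4Row chevE8 86 = true := by decide +kernel
theorem r87 : c4Row chevE8 87 = true := by decide +kernel
theorem r88 : c4Row chevE8 88 = true := by decide +kernel
theorem r89 : c4Row chevE8 89 = true := by decide +kernel
theorem r90 : c4Row chevE8 90 = true := by decide +kernel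
theorem r91 : c4Row chevE8 91 = true := by decide +kernel
theorem r92 : c4Row chevE8 92 = true := by decide +kernel
theorem r93 : c4Row chevE8 93 = true := by decide +kernel
theorem r94 : c4Row chevE8 94 = true := by decide +kernel
theorem r95 : c4Row chevE8 95 = true := by decide +kernel
theorem r96 : c4Row chevE8 96 = true := by decide +kernel
theorem r97 : c4Row chevE8 97 = true := by decide +kernel
theorem r98 : c4Row chevE8 98 = true := by decide +kernel
theorem r99 : c4Row chevE8 99 = true := by decide +kernel
theorem r100 : c4Row chevE8 100 = true := by decide +kernel
theorem r101 : c4Row chevE8 101 = true := by decide +kernel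
theorem r102 : c4Row chevE8 102 = true := by decide +kernel
theorem r103 : c4Row chevE8 103 = true := by decide +kernel
theorem r104 : c4Row chevE8 104 = true := by decide +kernel
theorem r105 : c4Row chevE8 105 = true := by decide +kernel
theorem r106 : c4Row chevE8 106 = true := by decide +kernel
theorem r107 : c4Row chevE8 107 = true := by decide +kernel
theorem r108 : c4Row chevE8 108 = true := by decide +kernel
theorem r109 : c4Row chevE8 109 = true := by decide +kernel
theorem r110 : c4Row chevE8 110 = true := by decide +kernel
theorem r111 : c4Row chevE8 111 = true := by decide +kernel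
theorem r112 : c4Row chevE8 112 = true := by decide +kernel
theorem r113 : c4Row chevE8 113 = true := by decide +kernel
theorem r114 : c4Row chevE8 114 = true := by decide +kernel
theorem r115 : c4Row chevE8 115 = true := by decide +kernel
theorem r116 : c4Row chevE8 116 = true := by decide +kernel
theorem r117 : c4Row chevE8 117 = true := by decide +kernel
theorem r118 : c4Row chevE8 118 = true := by decide +kernel
theorem r119 : c4Row chevE8 119 = true := by decide +kernel

theorem chunk : ∀ x, 0 ≤ x → x < 120 → c4Row chevE8 x = true := by
  intro x h1 h2
  interval_cases x
  · exact r0
  · exact r1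
  · exact r2
  · exact r3
  · exact r4
  · exact r5
  · exact r6
  · exact r7
  · exact r8
  · exact r9
  · exact r10
  · exact r11
  · exact r12
  · exact r13
  · exact r14
  · exact r15
  · exact r16
  · exact r17
  · exact r18
  · exact r19
  · exact r20
  · exact r21
  · exact r22
  · exact r23
  · exact r24
  · exact r25
  · exact r26
  · exact r27
  · exact r28
  · exact r29
  · exact r30
  · exact r31
  · exact r32
  · exact r33
  · exact r34
  · exact r35
  · exact r36
  · exact r37
  · exact r38
  · exact r39
  · exact r40
  · exact r41
  · exact r42
  · exact r43
  · exact r44
  · exact r45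
  · exact r46
  · exact r47
  · exact r48
  · exact r49
  · exact r50
  · exact r51
  · exact r52
  · exact r53
  · exact r54
  · exact r55
  · exact r56
  · exact r57
  · exact r58
  · exact r59
  · exact r60
  · exact r61
  · exact r62
  · exact r63
  · exact r64
  · exact r65
  · exact r66
  · exact r67
  · exact r68
  · exact r69
  · exact r70
  · exact r71
  · exact r72
  · exact r73
  · exact r74
  · exact r75
  · exact r76
  · exact r77
  · exact r78
  · exact r79
  · exact r80
  · exact r81
  · exact r82
  · exact r83
  · exact r84
  · exact r85
  · exact r86
  · exact r87
  · exact r88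
  · exact r89
  · exact r90
  · exact r91
  · exact r92
  · exact r93
  · exact r94
  · exact r95
  · exact r96
  · exact r97
  · exact r98
  · exact r99
  · exact r100
  · exact r101
  · exact r102
  · exact r103
  · exact r104
  · exact r105
  · exact r106
  · exact r107
  · exact r108
  · exact r109
  · exact r110
  · exact r111
  · exact r112
  · exact r113
  · exact r114
  · exact r115
  · exact r116
  · exact r117
  · exact r118
  · exact r119

end Cfsg.Agent.Lib.Helper35_SteinCertE8C0
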