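/-
Central closedness of Steinberg groups (helper35): certificate checks for the type E8, (C4) for the roots 120 to 240 (generated).
-/
import Mathlib
import Cfsg.Prelude.Def_ChevE8
import Cfsg.Agent.Lib.Helper35_SteinCert
import Cfsg.Agent.Lib.Helper35_SteinDataE8

set_option autoImplicit false
set_option maxRecDepth 100000

namespace Cfsg.Agent.Lib.Helper35_SteinCertE8C1

open Cfsg Cfsg.Lie Cfsg.Agent.Lib.Helper35_SteinCert Cfsg.Agent.Lib.Helper35_SteinDataE8

theorem r120 : c4Row chevE8 120 = true := by decide +kernel
theorem r121 : c4Row chevE8 121 = true := by decide +kernel
theorem r122 : c4Row chevE8 122 = true := by decide +kernel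
theorem r123 : c4Row chevE8 123 = true := by decide +kernel
theorem r124 : c4Row chevE8 124 = true := by decide +kernel
theorem r125 : c4Row chevE8 125 = true := by decide +kernel
theorem r126 : c4Row chevE8 126 = true := by decide +kernel
theorem r127 : c4Row chevE8 127 = true := by decide +kernel
theorem r128 : c4Row chevE8 128 = true := by decide +kernel
theorem r129 : c4Row chevE8 129 = true := by decide +kernel
theorem r130 : c4Row chevE8 130 = true := by decide +kernel
theorem r131 : c4Row chevE8 131 = true := by decide +kernel
theorem r132 : c4Row chevE8 132 = true := by decide +kernel
theorem r133 : c4Row chevE8 133 = true := by decide +kernel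
theorem r134 : c4Row chevE8 134 = true := by decide +kernel
theorem r135 : c4Row chevE8 135 = true := by decide +kernel
theorem r136 : c4Row chevE8 136 = true := by decide +kernel
theorem r137 : c4Row chevE8 137 = true := by decide +kernel
theorem r138 : c4Row chevE8 138 = true := by decide +kernel
theorem r139 : c4Row chevE8 139 = true := by decide +kernel
theorem r140 : c4Row chevE8 140 = true := by decide +kernel
theorem r141 : c4Row chevE8 141 = true := by decide +kernel
theorem r142 : c4Row chevE8 142 = true := by decide +kernel
theorem r143 : c4Row chevE8 143 = true := by decide +kernel
theorem r144 : c4Row chevE8 144 = true := by decide +kernel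
theorem r145 : c4Row chevE8 145 = true := by decide +kernel
theorem r146 : c4Row chevE8 146 = true := by decide +kernel
theorem r147 : c4Row chevE8 147 = true := by decide +kernel
theorem r148 : c4Row chevE8 148 = true := by decide +kernel
theorem r149 : c4Row chevE8 149 = true := by decide +kernel
theorem r150 : c4Row chevE8 150 = true := by decide +kernel
theorem r151 : c4Row chevE8 151 = true := by decide +kernel
theorem r152 : c4Row chevE8 152 = true := by decide +kernel
theorem r153 : c4Row chevE8 153 = true := by decide +kernel
theorem r154 : c4Row chevE8 154 = true := by decide +kernel
theorem r155 : c4Row chevE8 155 = true := by decide +kernel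
theorem r156 : c4Row chevE8 156 = true := by decide +kernel
theorem r157 : c4Row chevE8 157 = true := by decide +kernel
theorem r158 : c4Row chevE8 158 = true := by decide +kernel
theorem r159 : c4Row chevE8 159 = true := by decide +kernel
theorem r160 : c4Row chevE8 160 = true := by decide +kernel
theorem r161 : c4Row chevE8 161 = true := by decide +kernel
theorem r162 : c4Row chevE8 162 = true := by decide +kernel
theorem r163 : c4Row chevE8 163 = true := by decide +kernel
theorem r164 : c4Row chevE8 164 = true := by decide +kernel
theorem r165 : c4Row chevE8 165 = true := by decide +kernel
theorem r166 : c4Row chevE8 166 = true := by decide +kernel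
theorem r167 : c4Row chevE8 167 = true := by decide +kernel
theorem r168 : c4Row chevE8 168 = true := by decide +kernel
theorem r169 : c4Row chevE8 169 = true := by decide +kernel
theorem r170 : c4Row chevE8 170 = true := by decide +kernel
theorem r171 : c4Row chevE8 171 = true := by decide +kernel
theorem r172 : c4Row chevE8 172 = true := by decide +kernel
theorem r173 : c4Row chevE8 173 = true := by decide +kernel
theorem r174 : c4Row chevE8 174 = true := by decide +kernel
theorem r175 : c4Row chevE8 175 = true := by decide +kernel
theorem r176 : c4Row chevE8 176 = true := by decide +kernel
theorem r177 : c4Row chevE8 177 = true := by decide +kernel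
theorem r178 : c4Row chevE8 178 = true := by decide +kernel
theorem r179 : c4Row chevE8 179 = true := by decide +kernel
theorem r180 : c4Row chevE8 180 = true := by decide +kernel
theorem r181 : c4Row chevE8 181 = true := by decide +kernel
theorem r182 : c4Row chevE8 182 = true := by decide +kernel
theorem r183 : c4Row chevE8 183 = true := by decide +kernel
theorem r184 : c4Row chevE8 184 = true := by decide +kernel
theorem r185 : c4Row chevE8 185 = true := by decide +kernel
theorem r186 : c4Row chevE8 186 = true := by decide +kernel
theorem r187 : c4Row chevE8 187 = true := by decide +kernel
theorem r188 : c4Row chevE8 188 = true := by decide +kernel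
theorem r189 : c4Row chevE8 189 = true := by decide +kernel
theorem r190 : c4Row chevE8 190 = true := by decide +kernel
theorem r191 : c4Row chevE8 191 = true := by decide +kernel
theorem r192 : c4Row chevE8 192 = true := by decide +kernel
theorem r193 : c4Row chevE8 193 = true := by decide +kernel
theorem r194 : c4Row chevE8 194 = true := by decide +kernel
theorem r195 : c4Row chevE8 195 = true := by decide +kernel
theorem r196 : c4Row chevE8 196 = true := by decide +kernel
theorem r197 : c4Row chevE8 197 = true := by decide +kernel
theorem r198 : c4Row chevE8 198 = true := by decide +kernel
theorem r199 : c4Row chevE8 199 = true := by decide +kernel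
theorem r200 : c4Row chevE8 200 = true := by decide +kernel
theorem r201 : c4Row chevE8 201 = true := by decide +kernel
theorem r202 : c4Row chevE8 202 = true := by decide +kernel
theorem r203 : c4Row chevE8 203 = true := by decide +kernel
theorem r204 : c4Row chevE8 204 = true := by decide +kernel
theorem r205 : c4Row chevE8 205 = true := by decide +kernel
theorem r206 : c4Row chevE8 206 = true := by decide +kernel
theorem r207 : c4Row chevE8 207 = true := by decide +kernel
theorem r208 : c4Row chevE8 208 = true := by decide +kernel
theorem r209 : c4Row chevE8 209 = true := by decide +kernel
theorem r210 : c4Row chevE8 210 = true := by decide +kernel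
theorem r211 : c4Row chevE8 211 = true := by decide +kernel
theorem r212 : c4Row chevE8 212 = true := by decide +kernel
theorem r213 : c4Row chevE8 213 = true := by decide +kernel
theorem r214 : c4Row chevE8 214 = true := by decide +kernel
theorem r215 : c4Row chevE8 215 = true := by decide +kernel
theorem r216 : c4Row chevE8 216 = true := by decide +kernel
theorem r217 : c4Row chevE8 217 = true := by decide +kernel
theorem r218 : c4Row chevE8 218 = true := by decide +kernel
theorem r219 : c4Row chevE8 219 = true := by decide +kernel
theorem r220 : c4Row chevE8 220 = true := by decide +kernel
theorem r221 : c4Row chevE8 221 = true := by decide +kernel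
theorem r222 : c4Row chevE8 222 = true := by decide +kernel
theorem r223 : c4Row chevE8 223 = true := by decide +kernel
theorem r224 : c4Row chevE8 224 = true := by decide +kernel
theorem r225 : c4Row chevE8 225 = true := by decide +kernel
theorem r226 : c4Row chevE8 226 = true := by decide +kernel
theorem r227 : c4Row chevE8 227 = true := by decide +kernel
theorem r228 : c4Row chevE8 228 = true := by decide +kernel
theorem r229 : c4Row chevE8 229 = true := by decide +kernel
theorem r230 : c4Row chevE8 230 = true := by decide +kernel
theorem r231 : c4Row chevE8 231 = true := by decide +kernel
theorem r232 : c4Row chevE8 232 = true := by decide +kernel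
theorem r233 : c4Row chevE8 233 = true := by decide +kernel
theorem r234 : c4Row chevE8 234 = true := by decide +kernel
theorem r235 : c4Row chevE8 235 = true := by decide +kernel
theorem r236 : c4Row chevE8 236 = true := by decide +kernel
theorem r237 : c4Row chevE8 237 = true := by decide +kernel
theorem r238 : c4Row chevE8 238 = true := by decide +kernel
theorem r239 : c4Row chevE8 239 = true := by decide +kernel

theorem chunk : ∀ x, 120 ≤ x → x < 240 → c4Row chevE8 x = true := by
  intro x h1 h2
  interval_cases x
  · exact r120
  · exact r121
  · exact r122
  · exact r123
  · exact r124
  · exact r125
  · exact r126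
  · exact r127
  · exact r128
  · exact r129
  · exact r130
  · exact r131
  · exact r132
  · exact r133
  · exact r134
  · exact r135
  · exact r136
  · exact r137
  · exact r138
  · exact r139
  · exact r140
  · exact r141
  · exact r142
  · exact r143
  · exact r144
  · exact r145
  · exact r146
  · exact r147
  · exact r148
  · exact r149
  · exact r150
  · exact r151
  · exact r152
  · exact r153
  · exact r154
  · exact r155
  · exact r156
  · exact r157
  · exact r158
  · exact r159
  · exact r160
  · exact r161
  · exact r162
  · exact r163
  · exact r164
  · exact r165
  · exact r166
  · exact r167
  · exact r168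
  · exact r169
  · exact r170
  · exact r171
  · exact r172
  · exact r173
  · exact r174
  · exact r175
  · exact r176
  · exact r177
  · exact r178
  · exact r179
  · exact r180
  · exact r181
  · exact r182
  · exact r183
  · exact r184
  · exact r185
  · exact r186
  · exact r187
  · exact r188
  · exact r189
  · exact r190
  · exact r191
  · exact r192
  · exact r193
  · exact r194
  · exact r195
  · exact r196
  · exact r197
  · exact r198
  · exact r199
  · exact r200
  · exact r201
  · exact r202
  · exact r203
  · exact r204
  · exact r205
  · exact r206
  · exact r207
  · exact r208
  · exact r209
  · exact r210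
  · exact r211
  · exact r212
  · exact r213
  · exact r214
  · exact r215
  · exact r216
  · exact r217
  · exact r218
  · exact r219
  · exact r220
  · exact r221
  · exact r222
  · exact r223
  · exact r224
  · exact r225
  · exact r226
  · exact r227
  · exact r228
  · exact r229
  · exact r230
  · exact r231
  · exact r232
  · exact r233
  · exact r234
  · exact r235
  · exact r236
  · exact r237
  · exact r238
  · exact r239

end Cfsg.Agent.Lib.Helper35_SteinCertE8C1
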