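/-
Central closedness of Steinberg groups (helper35): certificate checks for the type E8, well-formedness for the roots 0 to 240 (generated).
-/
import Mathlib
import Cfsg.Prelude.Def_ChevE8
import Cfsg.Agent.Lib.Helper35_SteinCert
import Cfsg.Agent.Lib.Helper35_SteinDataE8

set_option autoImplicit false
set_option maxRecDepth 100000

namespace Cfsg.Agent.Lib.Helper35_SteinCertE8F0

open Cfsg Cfsg.Lie Cfsg.Agent.Lib.Helper35_SteinCert Cfsg.Agent.Lib.Helper35_SteinDataE8

theorem r0 : wfRow chevE8 0 = true := by decide +kernel
theorem r1 : wfRow chevE8 1 = true := by decide +kernel
theorem r2 : wfRow chevE8 2 = true := by decide +kernel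
theorem r3 : wfRow chevE8 3 = true := by decide +kernel
theorem r4 : wfRow chevE8 4 = true := by decide +kernel
theorem r5 : wfRow chevE8 5 = true := by decide +kernel
theorem r6 : wfRow chevE8 6 = true := by decide +kernel
theorem r7 : wfRow chevE8 7 = true := by decide +kernel
theorem r8 : wfRow chevE8 8 = true := by decide +kernel
theorem r9 : wfRow chevE8 9 = true := by decide +kernel
theorem r10 : wfRow chevE8 10 = true := by decide +kernel
theorem r11 : wfRow chevE8 11 = true := by decide +kernel
theorem r12 : wfRow chevE8 12 = true := by decide +kernel
theorem r13 : wfRow chevE8 13 = true := by decide +kernel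
theorem r14 : wfRow chevE8 14 = true := by decide +kernel
theorem r15 : wfRow chevE8 15 = true := by decide +kernel
theorem r16 : wfRow chevE8 16 = true := by decide +kernel
theorem r17 : wfRow chevE8 17 = true := by decide +kernel
theorem r18 : wfRow chevE8 18 = true := by decide +kernel
theorem r19 : wfRow chevE8 19 = true := by decide +kernel
theorem r20 : wfRow chevE8 20 = true := by decide +kernel
theorem r21 : wfRow chevE8 21 = true := by decide +kernel
theorem r22 : wfRow chevE8 22 = true := by decide +kernel
theorem r23 : wfRow chevE8 23 = true := by decide +kernel
theorem r24 : wfRow chevE8 24 = true := by decide +kernel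
theorem r25 : wfRow chevE8 25 = true := by decide +kernel
theorem r26 : wfRow chevE8 26 = true := by decide +kernel
theorem r27 : wfRow chevE8 27 = true := by decide +kernel
theorem r28 : wfRow chevE8 28 = true := by decide +kernel
theorem r29 : wfRow chevE8 29 = true := by decide +kernel
theorem r30 : wfRow chevE8 30 = true := by decide +kernel
theorem r31 : wfRow chevE8 31 = true := by decide +kernel
theorem r32 : wfRow chevE8 32 = true := by decide +kernel
theorem r33 : wfRow chevE8 33 = true := by decide +kernel
theorem r34 : wfRow chevE8 34 = true := by decide +kernel
theorem r35 : wfRow chevE8 35 = true := by decide +kernel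
theorem r36 : wfRow chevE8 36 = true := by decide +kernel
theorem r37 : wfRow chevE8 37 = true := by decide +kernel
theorem r38 : wfRow chevE8 38 = true := by decide +kernel
theorem r39 : wfRow chevE8 39 = true := by decide +kernel
theorem r40 : wfRow chevE8 40 = true := by decide +kernel
theorem r41 : wfRow chevE8 41 = true := by decide +kernel
theorem r42 : wfRow chevE8 42 = true := by decide +kernel
theorem r43 : wfRow chevE8 43 = true := by decide +kernel
theorem r44 : wfRow chevE8 44 = true := by decide +kernel
theorem r45 : wfRow chevE8 45 = true := by decide +kernel
theorem r46 : wfRow chevE8 46 = true := by decide +kernel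
theorem r47 : wfRow chevE8 47 = true := by decide +kernel
theorem r48 : wfRow chevE8 48 = true := by decide +kernel
theorem r49 : wfRow chevE8 49 = true := by decide +kernel
theorem r50 : wfRow chevE8 50 = true := by decide +kernel
theorem r51 : wfRow chevE8 51 = true := by decide +kernel
theorem r52 : wfRow chevE8 52 = true := by decide +kernel
theorem r53 : wfRow chevE8 53 = true := by decide +kernel
theorem r54 : wfRow chevE8 54 = true := by decide +kernel
theorem r55 : wfRow chevE8 55 = true := by decide +kernel
theorem r56 : wfRow chevE8 56 = true := by decide +kernel
theorem r57 : wfRow chevE8 57 = true := by decide +kernel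
theorem r58 : wfRow chevE8 58 = true := by decide +kernel
theorem r59 : wfRow chevE8 59 = true := by decide +kernel
theorem r60 : wfRow chevE8 60 = true := by decide +kernel
theorem r61 : wfRow chevE8 61 = true := by decide +kernel
theorem r62 : wfRow chevE8 62 = true := by decide +kernel
theorem r63 : wfRow chevE8 63 = true := by decide +kernel
theorem r64 : wfRow chevE8 64 = true := by decide +kernel
theorem r65 : wfRow chevE8 65 = true := by decide +kernel
theorem r66 : wfRow chevE8 66 = true := by decide +kernel
theorem r67 : wfRow chevE8 67 = true := by decide +kernel
theorem r68 : wfRow chevE8 68 = true := by decide +kernel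
theorem r69 : wfRow chevE8 69 = true := by decide +kernel
theorem r70 : wfRow chevE8 70 = true := by decide +kernel
theorem r71 : wfRow chevE8 71 = true := by decide +kernel
theorem r72 : wfRow chevE8 72 = true := by decide +kernel
theorem r73 : wfRow chevE8 73 = true := by decide +kernel
theorem r74 : wfRow chevE8 74 = true := by decide +kernel
theorem r75 : wfRow chevE8 75 = true := by decide +kernel
theorem r76 : wfRow chevE8 76 = true := by decide +kernel
theorem r77 : wfRow chevE8 77 = true := by decide +kernel
theorem r78 : wfRow chevE8 78 = true := by decide +kernel
theorem r79 : wfRow chevE8 79 = true := by decide +kernel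
theorem r80 : wfRow chevE8 80 = true := by decide +kernel
theorem r81 : wfRow chevE8 81 = true := by decide +kernel
theorem r82 : wfRow chevE8 82 = true := by decide +kernel
theorem r83 : wfRow chevE8 83 = true := by decide +kernel
theorem r84 : wfRow chevE8 84 = true := by decide +kernel
theorem r85 : wfRow chevE8 85 = true := by decide +kernel
theorem r86 : wfRow chevE8 86 = true := by decide +kernel
theorem r87 : wfRow chevE8 87 = true := by decide +kernel
theorem r88 : wfRow chevE8 88 = true := by decide +kernel
theorem r89 : wfRow chevE8 89 = true := by decide +kernel
theorem r90 : wfRow chevE8 90 = true := by decide +kernel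
theorem r91 : wfRow chevE8 91 = true := by decide +kernel
theorem r92 : wfRow chevE8 92 = true := by decide +kernel
theorem r93 : wfRow chevE8 93 = true := by decide +kernel
theorem r94 : wfRow chevE8 94 = true := by decide +kernel
theorem r95 : wfRow chevE8 95 = true := by decide +kernel
theorem r96 : wfRow chevE8 96 = true := by decide +kernel
theorem r97 : wfRow chevE8 97 = true := by decide +kernel
theorem r98 : wfRow chevE8 98 = true := by decide +kernel
theorem r99 : wfRow chevE8 99 = true := by decide +kernel
theorem r100 : wfRow chevE8 100 = true := by decide +kernel
theorem r101 : wfRow chevE8 101 = true := by decide +kernel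
theorem r102 : wfRow chevE8 102 = true := by decide +kernel
theorem r103 : wfRow chevE8 103 = true := by decide +kernel
theorem r104 : wfRow chevE8 104 = true := by decide +kernel
theorem r105 : wfRow chevE8 105 = true := by decide +kernel
theorem r106 : wfRow chevE8 106 = true := by decide +kernel
theorem r107 : wfRow chevE8 107 = true := by decide +kernel
theorem r108 : wfRow chevE8 108 = true := by decide +kernel
theorem r109 : wfRow chevE8 109 = true := by decide +kernel
theorem r110 : wfRow chevE8 110 = true := by decide +kernel
theorem r111 : wfRow chevE8 111 = true := by decide +kernel
theorem r112 : wfRow chevE8 112 = true := by decide +kernel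
theorem r113 : wfRow chevE8 113 = true := by decide +kernel
theorem r114 : wfRow chevE8 114 = true := by decide +kernel
theorem r115 : wfRow chevE8 115 = true := by decide +kernel
theorem r116 : wfRow chevE8 116 = true := by decide +kernel
theorem r117 : wfRow chevE8 117 = true := by decide +kernel
theorem r118 : wfRow chevE8 118 = true := by decide +kernel
theorem r119 : wfRow chevE8 119 = true := by decide +kernel
theorem r120 : wfRow chevE8 120 = true := by decide +kernel
theorem r121 : wfRow chevE8 121 = true := by decide +kernel
theorem r122 : wfRow chevE8 122 = true := by decide +kernel
theorem r123 : wfRow chevE8 123 = true := by decide +kernel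
theorem r124 : wfRow chevE8 124 = true := by decide +kernel
theorem r125 : wfRow chevE8 125 = true := by decide +kernel
theorem r126 : wfRow chevE8 126 = true := by decide +kernel
theorem r127 : wfRow chevE8 127 = true := by decide +kernel
theorem r128 : wfRow chevE8 128 = true := by decide +kernel
theorem r129 : wfRow chevE8 129 = true := by decide +kernel
theorem r130 : wfRow chevE8 130 = true := by decide +kernel
theorem r131 : wfRow chevE8 131 = true := by decide +kernel
theorem r132 : wfRow chevE8 132 = true := by decide +kernel
theorem r133 : wfRow chevE8 133 = true := by decide +kernel
theorem r134 : wfRow chevE8 134 = true := by decide +kernel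
theorem r135 : wfRow chevE8 135 = true := by decide +kernel
theorem r136 : wfRow chevE8 136 = true := by decide +kernel
theorem r137 : wfRow chevE8 137 = true := by decide +kernel
theorem r138 : wfRow chevE8 138 = true := by decide +kernel
theorem r139 : wfRow chevE8 139 = true := by decide +kernel
theorem r140 : wfRow chevE8 140 = true := by decide +kernel
theorem r141 : wfRow chevE8 141 = true := by decide +kernel
theorem r142 : wfRow chevE8 142 = true := by decide +kernel
theorem r143 : wfRow chevE8 143 = true := by decide +kernel
theorem r144 : wfRow chevE8 144 = true := by decide +kernel
theorem r145 : wfRow chevE8 145 = true := by decide +kernel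
theorem r146 : wfRow chevE8 146 = true := by decide +kernel
theorem r147 : wfRow chevE8 147 = true := by decide +kernel
theorem r148 : wfRow chevE8 148 = true := by decide +kernel
theorem r149 : wfRow chevE8 149 = true := by decide +kernel
theorem r150 : wfRow chevE8 150 = true := by decide +kernel
theorem r151 : wfRow chevE8 151 = true := by decide +kernel
theorem r152 : wfRow chevE8 152 = true := by decide +kernel
theorem r153 : wfRow chevE8 153 = true := by decide +kernel
theorem r154 : wfRow chevE8 154 = true := by decide +kernel
theorem r155 : wfRow chevE8 155 = true := by decide +kernel
theorem r156 : wfRow chevE8 156 = true := by decide +kernel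
theorem r157 : wfRow chevE8 157 = true := by decide +kernel
theorem r158 : wfRow chevE8 158 = true := by decide +kernel
theorem r159 : wfRow chevE8 159 = true := by decide +kernel
theorem r160 : wfRow chevE8 160 = true := by decide +kernel
theorem r161 : wfRow chevE8 161 = true := by decide +kernel
theorem r162 : wfRow chevE8 162 = true := by decide +kernel
theorem r163 : wfRow chevE8 163 = true := by decide +kernel
theorem r164 : wfRow chevE8 164 = true := by decide +kernel
theorem r165 : wfRow chevE8 165 = true := by decide +kernel
theorem r166 : wfRow chevE8 166 = true := by decide +kernel
theorem r167 : wfRow chevE8 167 = true := by decide +kernel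
theorem r168 : wfRow chevE8 168 = true := by decide +kernel
theorem r169 : wfRow chevE8 169 = true := by decide +kernel
theorem r170 : wfRow chevE8 170 = true := by decide +kernel
theorem r171 : wfRow chevE8 171 = true := by decide +kernel
theorem r172 : wfRow chevE8 172 = true := by decide +kernel
theorem r173 : wfRow chevE8 173 = true := by decide +kernel
theorem r174 : wfRow chevE8 174 = true := by decide +kernel
theorem r175 : wfRow chevE8 175 = true := by decide +kernel
theorem r176 : wfRow chevE8 176 = true := by decide +kernel
theorem r177 : wfRow chevE8 177 = true := by decide +kernel
theorem r178 : wfRow chevE8 178 = true := by decide +kernel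
theorem r179 : wfRow chevE8 179 = true := by decide +kernel
theorem r180 : wfRow chevE8 180 = true := by decide +kernel
theorem r181 : wfRow chevE8 181 = true := by decide +kernel
theorem r182 : wfRow chevE8 182 = true := by decide +kernel
theorem r183 : wfRow chevE8 183 = true := by decide +kernel
theorem r184 : wfRow chevE8 184 = true := by decide +kernel
theorem r185 : wfRow chevE8 185 = true := by decide +kernel
theorem r186 : wfRow chevE8 186 = true := by decide +kernel
theorem r187 : wfRow chevE8 187 = true := by decide +kernel
theorem r188 : wfRow chevE8 188 = true := by decide +kernel
theorem r189 : wfRow chevE8 189 = true := by decide +kernel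
theorem r190 : wfRow chevE8 190 = true := by decide +kernel
theorem r191 : wfRow chevE8 191 = true := by decide +kernel
theorem r192 : wfRow chevE8 192 = true := by decide +kernel
theorem r193 : wfRow chevE8 193 = true := by decide +kernel
theorem r194 : wfRow chevE8 194 = true := by decide +kernel
theorem r195 : wfRow chevE8 195 = true := by decide +kernel
theorem r196 : wfRow chevE8 196 = true := by decide +kernel
theorem r197 : wfRow chevE8 197 = true := by decide +kernel
theorem r198 : wfRow chevE8 198 = true := by decide +kernel
theorem r199 : wfRow chevE8 199 = true := by decide +kernel
theorem r200 : wfRow chevE8 200 = true := by decide +kernel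
theorem r201 : wfRow chevE8 201 = true := by decide +kernel
theorem r202 : wfRow chevE8 202 = true := by decide +kernel
theorem r203 : wfRow chevE8 203 = true := by decide +kernel
theorem r204 : wfRow chevE8 204 = true := by decide +kernel
theorem r205 : wfRow chevE8 205 = true := by decide +kernel
theorem r206 : wfRow chevE8 206 = true := by decide +kernel
theorem r207 : wfRow chevE8 207 = true := by decide +kernel
theorem r208 : wfRow chevE8 208 = true := by decide +kernel
theorem r209 : wfRow chevE8 209 = true := by decide +kernel
theorem r210 : wfRow chevE8 210 = true := by decide +kernel
theorem r211 : wfRow chevE8 211 = true := by decide +kernel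
theorem r212 : wfRow chevE8 212 = true := by decide +kernel
theorem r213 : wfRow chevE8 213 = true := by decide +kernel
theorem r214 : wfRow chevE8 214 = true := by decide +kernel
theorem r215 : wfRow chevE8 215 = true := by decide +kernel
theorem r216 : wfRow chevE8 216 = true := by decide +kernel
theorem r217 : wfRow chevE8 217 = true := by decide +kernel
theorem r218 : wfRow chevE8 218 = true := by decide +kernel
theorem r219 : wfRow chevE8 219 = true := by decide +kernel
theorem r220 : wfRow chevE8 220 = true := by decide +kernel
theorem r221 : wfRow chevE8 221 = true := by decide +kernel
theorem r222 : wfRow chevE8 222 = true := by decide +kernel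
theorem r223 : wfRow chevE8 223 = true := by decide +kernel
theorem r224 : wfRow chevE8 224 = true := by decide +kernel
theorem r225 : wfRow chevE8 225 = true := by decide +kernel
theorem r226 : wfRow chevE8 226 = true := by decide +kernel
theorem r227 : wfRow chevE8 227 = true := by decide +kernel
theorem r228 : wfRow chevE8 228 = true := by decide +kernel
theorem r229 : wfRow chevE8 229 = true := by decide +kernel
theorem r230 : wfRow chevE8 230 = true := by decide +kernel
theorem r231 : wfRow chevE8 231 = true := by decide +kernel
theorem r232 : wfRow chevE8 232 = true := by decide +kernel
theorem r233 : wfRow chevE8 233 = true := by decide +kernel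
theorem r234 : wfRow chevE8 234 = true := by decide +kernel
theorem r235 : wfRow chevE8 235 = true := by decide +kernel
theorem r236 : wfRow chevE8 236 = true := by decide +kernel
theorem r237 : wfRow chevE8 237 = true := by decide +kernel
theorem r238 : wfRow chevE8 238 = true := by decide +kernel
theorem r239 : wfRow chevE8 239 = true := by decide +kernel

theorem chunk : ∀ x, 0 ≤ x → x < 240 → wfRow chevE8 x = true := by
  intro x h1 h2
  interval_cases x
  · exact r0
  · exact r1
  · exact r2
  · exact r3
  · exact r4
  · exact r5
  · exact r6
  · exact r7
  · exact r8
  · exact r9
  · exact r10
  · exact r11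
  · exact r12
  · exact r13
  · exact r14
  · exact r15
  · exact r16
  · exact r17
  · exact r18
  · exact r19
  · exact r20
  · exact r21
  · exact r22
  · exact r23
  · exact r24
  · exact r25
  · exact r26
  · exact r27
  · exact r28
  · exact r29
  · exact r30
  · exact r31
  · exact r32
  · exact r33
  · exact r34
  · exact r35
  · exact r36
  · exact r37
  · exact r38
  · exact r39
  · exact r40
  · exact r41
  · exact r42
  · exact r43
  · exact r44
  · exact r45
  · exact r46
  · exact r47
  · exact r48
  · exact r49
  · exact r50
  · exact r51
  · exact r52
  · exact r53
  · exact r54
  · exact r55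
  · exact r56
  · exact r57
  · exact r58
  · exact r59
  · exact r60
  · exact r61
  · exact r62
  · exact r63
  · exact r64
  · exact r65
  · exact r66
  · exact r67
  · exact r68
  · exact r69
  · exact r70
  · exact r71
  · exact r72
  · exact r73
  · exact r74
  · exact r75
  · exact r76
  · exact r77
  · exact r78
  · exact r79
  · exact r80
  · exact r81
  · exact r82
  · exact r83
  · exact r84
  · exact r85
  · exact r86
  · exact r87
  · exact r88
  · exact r89
  · exact r90
  · exact r91
  · exact r92
  · exact r93
  · exact r94
  · exact r95
  · exact r96
  · exact r97
  · exact r98
  · exact r99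
  · exact r100
  · exact r101
  · exact r102
  · exact r103
  · exact r104
  · exact r105
  · exact r106
  · exact r107
  · exact r108
  · exact r109
  · exact r110
  · exact r111
  · exact r112
  · exact r113
  · exact r114
  · exact r115
  · exact r116
  · exact r117
  · exact r118
  · exact r119
  · exact r120
  · exact r121
  · exact r122
  · exact r123
  · exact r124
  · exact r125
  · exact r126
  · exact r127
  · exact r128
  · exact r129
  · exact r130
  · exact r131
  · exact r132
  · exact r133
  · exact r134
  · exact r135
  · exact r136
  · exact r137
  · exact r138
  · exact r139
  · exact r140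
  · exact r141
  · exact r142
  · exact r143
  · exact r144
  · exact r145
  · exact r146
  · exact r147
  · exact r148
  · exact r149
  · exact r150
  · exact r151
  · exact r152
  · exact r153
  · exact r154
  · exact r155
  · exact r156
  · exact r157
  · exact r158
  · exact r159
  · exact r160
  · exact r161
  · exact r162
  · exact r163
  · exact r164
  · exact r165
  · exact r166
  · exact r167
  · exact r168
  · exact r169
  · exact r170
  · exact r171
  · exact r172
  · exact r173
  · exact r174
  · exact r175
  · exact r176
  · exact r177
  · exact r178
  · exact r179
  · exact r180
  · exact r181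
  · exact r182
  · exact r183
  · exact r184
  · exact r185
  · exact r186
  · exact r187
  · exact r188
  · exact r189
  · exact r190
  · exact r191
  · exact r192
  · exact r193
  · exact r194
  · exact r195
  · exact r196
  · exact r197
  · exact r198
  · exact r199
  · exact r200
  · exact r201
  · exact r202
  · exact r203
  · exact r204
  · exact r205
  · exact r206
  · exact r207
  · exact r208
  · exact r209
  · exact r210
  · exact r211
  · exact r212
  · exact r213
  · exact r214
  · exact r215
  · exact r216
  · exact r217
  · exact r218
  · exact r219
  · exact r220
  · exact r221
  · exact r222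
  · exact r223
  · exact r224
  · exact r225
  · exact r226
  · exact r227
  · exact r228
  · exact r229
  · exact r230
  · exact r231
  · exact r232
  · exact r233
  · exact r234
  · exact r235
  · exact r236
  · exact r237
  · exact r238
  · exact r239

end Cfsg.Agent.Lib.Helper35_SteinCertE8F0
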