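/-
Central closedness of Steinberg groups (helper35): certificate checks for the type E8, Hall-Witt configurations for the roots 0 to 30 (generated).
-/
import Mathlib
import Cfsg.Prelude.Def_ChevE8
import Cfsg.Agent.Lib.Helper35_SteinCert
import Cfsg.Agent.Lib.Helper35_SteinDataE8

set_option autoImplicit false
set_option maxRecDepth 100000

namespace Cfsg.Agent.Lib.Helper35_SteinCertE8P0

open Cfsg Cfsg.Lie Cfsg.Agent.Lib.Helper35_SteinCert Cfsg.Agent.Lib.Helper35_SteinDataE8

theorem r0 : parRow chevE8 canT tT 0 = true := by decide +kernel
theorem r1 : parRow chevE8 canT tT 1 = true := by decide +kernel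
theorem r2 : parRow chevE8 canT tT 2 = true := by decide +kernel
theorem r3 : parRow chevE8 canT tT 3 = true := by decide +kernel
theorem r4 : parRow chevE8 canT tT 4 = true := by decide +kernel
theorem r5 : parRow chevE8 canT tT 5 = true := by decide +kernel
theorem r6 : parRow chevE8 canT tT 6 = true := by decide +kernel
theorem r7 : parRow chevE8 canT tT 7 = true := by decide +kernel
theorem r8 : parRow chevE8 canT tT 8 = true := by decide +kernel
theorem r9 : parRow chevE8 canT tT 9 = true := by decide +kernel
theorem r10 : parRow chevE8 canT tT 10 = true := by decide +kernel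
theorem r11 : parRow chevE8 canT tT 11 = true := by decide +kernel
theorem r12 : parRow chevE8 canT tT 12 = true := by decide +kernel
theorem r13 : parRow chevE8 canT tT 13 = true := by decide +kernel
theorem r14 : parRow chevE8 canT tT 14 = true := by decide +kernel
theorem r15 : parRow chevE8 canT tT 15 = true := by decide +kernel
theorem r16 : parRow chevE8 canT tT 16 = true := by decide +kernel
theorem r17 : parRow chevE8 canT tT 17 = true := by decide +kernel
theorem r18 : parRow chevE8 canT tT 18 = true := by decide +kernel
theorem r19 : parRow chevE8 canT tT 19 = true := by decide +kernel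
theorem r20 : parRow chevE8 canT tT 20 = true := by decide +kernel
theorem r21 : parRow chevE8 canT tT 21 = true := by decide +kernel
theorem r22 : parRow chevE8 canT tT 22 = true := by decide +kernel
theorem r23 : parRow chevE8 canT tT 23 = true := by decide +kernel
theorem r24 : parRow chevE8 canT tT 24 = true := by decide +kernel
theorem r25 : parRow chevE8 canT tT 25 = true := by decide +kernel
theorem r26 : parRow chevE8 canT tT 26 = true := by decide +kernel
theorem r27 : parRow chevE8 canT tT 27 = true := by decide +kernel
theorem r28 : parRow chevE8 canT tT 28 = true := by decide +kernel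
theorem r29 : parRow chevE8 canT tT 29 = true := by decide +kernel

theorem chunk : ∀ x, 0 ≤ x → x < 30 → parRow chevE8 canT tT x = true := by
  intro x h1 h2
  interval_cases x
  · exact r0
  · exact r1
  · exact r2
  · exact r3
  · exact r4
  · exact r5
  · exact r6
  · exact r7
  · exact r8
  · exact r9
  · exact r10
  · exact r11
  · exact r12
  · exact r13
  · exact r14
  · exact r15
  · exact r16
  · exact r17
  · exact r18
  · exact r19
  · exact r20
  · exact r21
  · exact r22
  · exact r23
  · exact r24
  · exact r25
  · exact r26
  · exact r27
  · exact r28
  · exact r29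

end Cfsg.Agent.Lib.Helper35_SteinCertE8P0
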