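/-
Central closedness of Steinberg groups (helper35): certificate checks for the type E8, Hall-Witt configurations for the roots 60 to 90 (generated).
-/
import Mathlib
import Cfsg.Prelude.Def_ChevE8
import Cfsg.Agent.Lib.Helper35_SteinCert
import Cfsg.Agent.Lib.Helper35_SteinDataE8

set_option autoImplicit false
set_option maxRecDepth 100000

namespace Cfsg.Agent.Lib.Helper35_SteinCertE8P2

open Cfsg Cfsg.Lie Cfsg.Agent.Lib.Helper35_SteinCert Cfsg.Agent.Lib.Helper35_SteinDataE8

theorem r60 : parRow chevE8 canT tT 60 = true := by decide +kernel
theorem r61 : parRow chevE8 canT tT 61 = true := by decide +kernel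
theorem r62 : parRow chevE8 canT tT 62 = true := by decide +kernel
theorem r63 : parRow chevE8 canT tT 63 = true := by decide +kernel
theorem r64 : parRow chevE8 canT tT 64 = true := by decide +kernel
theorem r65 : parRow chevE8 canT tT 65 = true := by decide +kernel
theorem r66 : parRow chevE8 canT tT 66 = true := by decide +kernel
theorem r67 : parRow chevE8 canT tT 67 = true := by decide +kernel
theorem r68 : parRow chevE8 canT tT 68 = true := by decide +kernel
theorem r69 : parRow chevE8 canT tT 69 = true := by decide +kernel
theorem r70 : parRow chevE8 canT tT 70 = true := by decide +kernel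
theorem r71 : parRow chevE8 canT tT 71 = true := by decide +kernel
theorem r72 : parRow chevE8 canT tT 72 = true := by decide +kernel
theorem r73 : parRow chevE8 canT tT 73 = true := by decide +kernel
theorem r74 : parRow chevE8 canT tT 74 = true := by decide +kernel
theorem r75 : parRow chevE8 canT tT 75 = true := by decide +kernel
theorem r76 : parRow chevE8 canT tT 76 = true := by decide +kernel
theorem r77 : parRow chevE8 canT tT 77 = true := by decide +kernel
theorem r78 : parRow chevE8 canT tT 78 = true := by decide +kernel
theorem r79 : parRow chevE8 canT tT 79 = true := by decide +kernel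
theorem r80 : parRow chevE8 canT tT 80 = true := by decide +kernel
theorem r81 : parRow chevE8 canT tT 81 = true := by decide +kernel
theorem r82 : parRow chevE8 canT tT 82 = true := by decide +kernel
theorem r83 : parRow chevE8 canT tT 83 = true := by decide +kernel
theorem r84 : parRow chevE8 canT tT 84 = true := by decide +kernel
theorem r85 : parRow chevE8 canT tT 85 = true := by decide +kernel
theorem r86 : parRow chevE8 canT tT 86 = true := by decide +kernel
theorem r87 : parRow chevE8 canT tT 87 = true := by decide +kernel
theorem r88 : parRow chevE8 canT tT 88 = true := by decide +kernel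
theorem r89 : parRow chevE8 canT tT 89 = true := by decide +kernel

theorem chunk : ∀ x, 60 ≤ x → x < 90 → parRow chevE8 canT tT x = true := by
  intro x h1 h2
  interval_cases x
  · exact r60
  · exact r61
  · exact r62
  · exact r63
  · exact r64
  · exact r65
  · exact r66
  · exact r67
  · exact r68
  · exact r69
  · exact r70
  · exact r71
  · exact r72
  · exact r73
  · exact r74
  · exact r75
  · exact r76
  · exact r77
  · exact r78
  · exact r79
  · exact r80
  · exact r81
  · exact r82
  · exact r83
  · exact r84
  · exact r85
  · exact r86
  · exact r87
  · exact r88
  · exact r89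

end Cfsg.Agent.Lib.Helper35_SteinCertE8P2
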