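/-
Central closedness of Steinberg groups (helper35): certificate checks for the type E8, Hall-Witt configurations for the roots 180 to 210 (generated).
-/
import Mathlib
import Cfsg.Prelude.Def_ChevE8
import Cfsg.Agent.Lib.Helper35_SteinCert
import Cfsg.Agent.Lib.Helper35_SteinDataE8

set_option autoImplicit false
set_option maxRecDepth 100000

namespace Cfsg.Agent.Lib.Helper35_SteinCertE8P6

open Cfsg Cfsg.Lie Cfsg.Agent.Lib.Helper35_SteinCert Cfsg.Agent.Lib.Helper35_SteinDataE8

theorem r180 : parRow chevE8 canT tT 180 = true := by decide +kernel
theorem r181 : parRow chevE8 canT tT 181 = true := by decide +kernel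
theorem r182 : parRow chevE8 canT tT 182 = true := by decide +kernel
theorem r183 : parRow chevE8 canT tT 183 = true := by decide +kernel
theorem r184 : parRow chevE8 canT tT 184 = true := by decide +kernel
theorem r185 : parRow chevE8 canT tT 185 = true := by decide +kernel
theorem r186 : parRow chevE8 canT tT 186 = true := by decide +kernel
theorem r187 : parRow chevE8 canT tT 187 = true := by decide +kernel
theorem r188 : parRow chevE8 canT tT 188 = true := by decide +kernel
theorem r189 : parRow chevE8 canT tT 189 = true := by decide +kernel
theorem r190 : parRow chevE8 canT tT 190 = true := by decide +kernel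
theorem r191 : parRow chevE8 canT tT 191 = true := by decide +kernel
theorem r192 : parRow chevE8 canT tT 192 = true := by decide +kernel
theorem r193 : parRow chevE8 canT tT 193 = true := by decide +kernel
theorem r194 : parRow chevE8 canT tT 194 = true := by decide +kernel
theorem r195 : parRow chevE8 canT tT 195 = true := by decide +kernel
theorem r196 : parRow chevE8 canT tT 196 = true := by decide +kernel
theorem r197 : parRow chevE8 canT tT 197 = true := by decide +kernel
theorem r198 : parRow chevE8 canT tT 198 = true := by decide +kernel
theorem r199 : parRow chevE8 canT tT 199 = true := by decide +kernel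
theorem r200 : parRow chevE8 canT tT 200 = true := by decide +kernel
theorem r201 : parRow chevE8 canT tT 201 = true := by decide +kernel
theorem r202 : parRow chevE8 canT tT 202 = true := by decide +kernel
theorem r203 : parRow chevE8 canT tT 203 = true := by decide +kernel
theorem r204 : parRow chevE8 canT tT 204 = true := by decide +kernel
theorem r205 : parRow chevE8 canT tT 205 = true := by decide +kernel
theorem r206 : parRow chevE8 canT tT 206 = true := by decide +kernel
theorem r207 : parRow chevE8 canT tT 207 = true := by decide +kernel
theorem r208 : parRow chevE8 canT tT 208 = true := by decide +kernel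
theorem r209 : parRow chevE8 canT tT 209 = true := by decide +kernel

theorem chunk : ∀ x, 180 ≤ x → x < 210 → parRow chevE8 canT tT x = true := by
  intro x h1 h2
  interval_cases x
  · exact r180
  · exact r181
  · exact r182
  · exact r183
  · exact r184
  · exact r185
  · exact r186
  · exact r187
  · exact r188
  · exact r189
  · exact r190
  · exact r191
  · exact r192
  · exact r193
  · exact r194
  · exact r195
  · exact r196
  · exact r197
  · exact r198
  · exact r199
  · exact r200
  · exact r201
  · exact r202
  · exact r203
  · exact r204
  · exact r205
  · exact r206
  · exact r207
  · exact r208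
  · exact r209

end Cfsg.Agent.Lib.Helper35_SteinCertE8P6
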