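/-
Central closedness of Steinberg groups (helper35): certificate checks for the type E8, (C1) for the roots 0 to 30 (generated).
-/
import Mathlib
import Cfsg.Prelude.Def_ChevE8
import Cfsg.Agent.Lib.Helper35_SteinCert
import Cfsg.Agent.Lib.Helper35_SteinDataE8

set_option autoImplicit false
set_option maxRecDepth 100000

namespace Cfsg.Agent.Lib.Helper35_SteinCertE8W0

open Cfsg Cfsg.Lie Cfsg.Agent.Lib.Helper35_SteinCert Cfsg.Agent.Lib.Helper35_SteinDataE8

theorem r0 : c1Row chevE8 wT 0 = true := by decide +kernel
theorem r1 : c1Row chevE8 wT 1 = true := by decide +kernel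
theorem r2 : c1Row chevE8 wT 2 = true := by decide +kernel
theorem r3 : c1Row chevE8 wT 3 = true := by decide +kernel
theorem r4 : c1Row chevE8 wT 4 = true := by decide +kernel
theorem r5 : c1Row chevE8 wT 5 = true := by decide +kernel
theorem r6 : c1Row chevE8 wT 6 = true := by decide +kernel
theorem r7 : c1Row chevE8 wT 7 = true := by decide +kernel
theorem r8 : c1Row chevE8 wT 8 = true := by decide +kernel
theorem r9 : c1Row chevE8 wT 9 = true := by decide +kernel
theorem r10 : c1Row chevE8 wT 10 = true := by decide +kernel
theorem r11 : c1Row chevE8 wT 11 = true := by decide +kernel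
theorem r12 : c1Row chevE8 wT 12 = true := by decide +kernel
theorem r13 : c1Row chevE8 wT 13 = true := by decide +kernel
theorem r14 : c1Row chevE8 wT 14 = true := by decide +kernel
theorem r15 : c1Row chevE8 wT 15 = true := by decide +kernel
theorem r16 : c1Row chevE8 wT 16 = true := by decide +kernel
theorem r17 : c1Row chevE8 wT 17 = true := by decide +kernel
theorem r18 : c1Row chevE8 wT 18 = true := by decide +kernel
theorem r19 : c1Row chevE8 wT 19 = true := by decide +kernel
theorem r20 : c1Row chevE8 wT 20 = true := by decide +kernel
theorem r21 : c1Row chevE8 wT 21 = true := by decide +kernel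
theorem r22 : c1Row chevE8 wT 22 = true := by decide +kernel
theorem r23 : c1Row chevE8 wT 23 = true := by decide +kernel
theorem r24 : c1Row chevE8 wT 24 = true := by decide +kernel
theorem r25 : c1Row chevE8 wT 25 = true := by decide +kernel
theorem r26 : c1Row chevE8 wT 26 = true := by decide +kernel
theorem r27 : c1Row chevE8 wT 27 = true := by decide +kernel
theorem r28 : c1Row chevE8 wT 28 = true := by decide +kernel
theorem r29 : c1Row chevE8 wT 29 = true := by decide +kernel

theorem chunk : ∀ x, 0 ≤ x → x < 30 → c1Row chevE8 wT x = true := by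
  intro x h1 h2
  interval_cases x
  · exact r0
  · exact r1
  · exact r2
  · exact r3
  · exact r4
  · exact r5
  · exact r6
  · exact r7
  · exact r8
  · exact r9
  · exact r10
  · exact r11
  · exact r12
  · exact r13
  · exact r14
  · exact r15
  · exact r16
  · exact r17
  · exact r18
  · exact r19
  · exact r20
  · exact r21
  · exact r22
  · exact r23
  · exact r24
  · exact r25
  · exact r26
  · exact r27
  · exact r28
  · exact r29

end Cfsg.Agent.Lib.Helper35_SteinCertE8W0
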