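/-
Central closedness of Steinberg groups (helper35): certificate checks for the type E8, (C1) for the roots 30 to 60 (generated).
-/
import Mathlib
import Cfsg.Prelude.Def_ChevE8
import Cfsg.Agent.Lib.Helper35_SteinCert
import Cfsg.Agent.Lib.Helper35_SteinDataE8

set_option autoImplicit false
set_option maxRecDepth 100000

namespace Cfsg.Agent.Lib.Helper35_SteinCertE8W1

open Cfsg Cfsg.Lie Cfsg.Agent.Lib.Helper35_SteinCert Cfsg.Agent.Lib.Helper35_SteinDataE8

theorem r30 : c1Row chevE8 wT 30 = true := by decide +kernel
theorem r31 : c1Row chevE8 wT 31 = true := by decide +kernel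
theorem r32 : c1Row chevE8 wT 32 = true := by decide +kernel
theorem r33 : c1Row chevE8 wT 33 = true := by decide +kernel
theorem r34 : c1Row chevE8 wT 34 = true := by decide +kernel
theorem r35 : c1Row chevE8 wT 35 = true := by decide +kernel
theorem r36 : c1Row chevE8 wT 36 = true := by decide +kernel
theorem r37 : c1Row chevE8 wT 37 = true := by decide +kernel
theorem r38 : c1Row chevE8 wT 38 = true := by decide +kernel
theorem r39 : c1Row chevE8 wT 39 = true := by decide +kernel
theorem r40 : c1Row chevE8 wT 40 = true := by decide +kernel
theorem r41 : c1Row chevE8 wT 41 = true := by decide +kernel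
theorem r42 : c1Row chevE8 wT 42 = true := by decide +kernel
theorem r43 : c1Row chevE8 wT 43 = true := by decide +kernel
theorem r44 : c1Row chevE8 wT 44 = true := by decide +kernel
theorem r45 : c1Row chevE8 wT 45 = true := by decide +kernel
theorem r46 : c1Row chevE8 wT 46 = true := by decide +kernel
theorem r47 : c1Row chevE8 wT 47 = true := by decide +kernel
theorem r48 : c1Row chevE8 wT 48 = true := by decide +kernel
theorem r49 : c1Row chevE8 wT 49 = true := by decide +kernel
theorem r50 : c1Row chevE8 wT 50 = true := by decide +kernel
theorem r51 : c1Row chevE8 wT 51 = true := by decide +kernel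
theorem r52 : c1Row chevE8 wT 52 = true := by decide +kernel
theorem r53 : c1Row chevE8 wT 53 = true := by decide +kernel
theorem r54 : c1Row chevE8 wT 54 = true := by decide +kernel
theorem r55 : c1Row chevE8 wT 55 = true := by decide +kernel
theorem r56 : c1Row chevE8 wT 56 = true := by decide +kernel
theorem r57 : c1Row chevE8 wT 57 = true := by decide +kernel
theorem r58 : c1Row chevE8 wT 58 = true := by decide +kernel
theorem r59 : c1Row chevE8 wT 59 = true := by decide +kernel

theorem chunk : ∀ x, 30 ≤ x → x < 60 → c1Row chevE8 wT x = true := by
  intro x h1 h2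
  interval_cases x
  · exact r30
  · exact r31
  · exact r32
  · exact r33
  · exact r34
  · exact r35
  · exact r36
  · exact r37
  · exact r38
  · exact r39
  · exact r40
  · exact r41
  · exact r42
  · exact r43
  · exact r44
  · exact r45
  · exact r46
  · exact r47
  · exact r48
  · exact r49
  · exact r50
  · exact r51
  · exact r52
  · exact r53
  · exact r54
  · exact r55
  · exact r56
  · exact r57
  · exact r58
  · exact r59

end Cfsg.Agent.Lib.Helper35_SteinCertE8W1
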