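/-
Central closedness of Steinberg groups (helper35): certificate checks for the type E8, (C1) for the roots 60 to 90 (generated).
-/
import Mathlib
import Cfsg.Prelude.Def_ChevE8
import Cfsg.Agent.Lib.Helper35_SteinCert
import Cfsg.Agent.Lib.Helper35_SteinDataE8

set_option autoImplicit false
set_option maxRecDepth 100000

namespace Cfsg.Agent.Lib.Helper35_SteinCertE8W2

open Cfsg Cfsg.Lie Cfsg.Agent.Lib.Helper35_SteinCert Cfsg.Agent.Lib.Helper35_SteinDataE8

theorem r60 : c1Row chevE8 wT 60 = true := by decide +kernel
theorem r61 : c1Row chevE8 wT 61 = true := by decide +kernel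
theorem r62 : c1Row chevE8 wT 62 = true := by decide +kernel
theorem r63 : c1Row chevE8 wT 63 = true := by decide +kernel
theorem r64 : c1Row chevE8 wT 64 = true := by decide +kernel
theorem r65 : c1Row chevE8 wT 65 = true := by decide +kernel
theorem r66 : c1Row chevE8 wT 66 = true := by decide +kernel
theorem r67 : c1Row chevE8 wT 67 = true := by decide +kernel
theorem r68 : c1Row chevE8 wT 68 = true := by decide +kernel
theorem r69 : c1Row chevE8 wT 69 = true := by decide +kernel
theorem r70 : c1Row chevE8 wT 70 = true := by decide +kernel
theorem r71 : c1Row chevE8 wT 71 = true := by decide +kernel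
theorem r72 : c1Row chevE8 wT 72 = true := by decide +kernel
theorem r73 : c1Row chevE8 wT 73 = true := by decide +kernel
theorem r74 : c1Row chevE8 wT 74 = true := by decide +kernel
theorem r75 : c1Row chevE8 wT 75 = true := by decide +kernel
theorem r76 : c1Row chevE8 wT 76 = true := by decide +kernel
theorem r77 : c1Row chevE8 wT 77 = true := by decide +kernel
theorem r78 : c1Row chevE8 wT 78 = true := by decide +kernel
theorem r79 : c1Row chevE8 wT 79 = true := by decide +kernel
theorem r80 : c1Row chevE8 wT 80 = true := by decide +kernel
theorem r81 : c1Row chevE8 wT 81 = true := by decide +kernel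
theorem r82 : c1Row chevE8 wT 82 = true := by decide +kernel
theorem r83 : c1Row chevE8 wT 83 = true := by decide +kernel
theorem r84 : c1Row chevE8 wT 84 = true := by decide +kernel
theorem r85 : c1Row chevE8 wT 85 = true := by decide +kernel
theorem r86 : c1Row chevE8 wT 86 = true := by decide +kernel
theorem r87 : c1Row chevE8 wT 87 = true := by decide +kernel
theorem r88 : c1Row chevE8 wT 88 = true := by decide +kernel
theorem r89 : c1Row chevE8 wT 89 = true := by decide +kernel

theorem chunk : ∀ x, 60 ≤ x → x < 90 → c1Row chevE8 wT x = true := by
  intro x h1 h2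
  interval_cases x
  · exact r60
  · exact r61
  · exact r62
  · exact r63
  · exact r64
  · exact r65
  · exact r66
  · exact r67
  · exact r68
  · exact r69
  · exact r70
  · exact r71
  · exact r72
  · exact r73
  · exact r74
  · exact r75
  · exact r76
  · exact r77
  · exact r78
  · exact r79
  · exact r80
  · exact r81
  · exact r82
  · exact r83
  · exact r84
  · exact r85
  · exact r86
  · exact r87
  · exact r88
  · exact r89

end Cfsg.Agent.Lib.Helper35_SteinCertE8W2
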