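/-
Central closedness of Steinberg groups (helper35): certificate checks for the type E8, (C1) for the roots 90 to 120 (generated).
-/
import Mathlib
import Cfsg.Prelude.Def_ChevE8
import Cfsg.Agent.Lib.Helper35_SteinCert
import Cfsg.Agent.Lib.Helper35_SteinDataE8

set_option autoImplicit false
set_option maxRecDepth 100000

namespace Cfsg.Agent.Lib.Helper35_SteinCertE8W3

open Cfsg Cfsg.Lie Cfsg.Agent.Lib.Helper35_SteinCert Cfsg.Agent.Lib.Helper35_SteinDataE8

theorem r90 : c1Row chevE8 wT 90 = true := by decide +kernel
theorem r91 : c1Row chevE8 wT 91 = true := by decide +kernel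
theorem r92 : c1Row chevE8 wT 92 = true := by decide +kernel
theorem r93 : c1Row chevE8 wT 93 = true := by decide +kernel
theorem r94 : c1Row chevE8 wT 94 = true := by decide +kernel
theorem r95 : c1Row chevE8 wT 95 = true := by decide +kernel
theorem r96 : c1Row chevE8 wT 96 = true := by decide +kernel
theorem r97 : c1Row chevE8 wT 97 = true := by decide +kernel
theorem r98 : c1Row chevE8 wT 98 = true := by decide +kernel
theorem r99 : c1Row chevE8 wT 99 = true := by decide +kernel
theorem r100 : c1Row chevE8 wT 100 = true := by decide +kernel
theorem r101 : c1Row chevE8 wT 101 = true := by decide +kernel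
theorem r102 : c1Row chevE8 wT 102 = true := by decide +kernel
theorem r103 : c1Row chevE8 wT 103 = true := by decide +kernel
theorem r104 : c1Row chevE8 wT 104 = true := by decide +kernel
theorem r105 : c1Row chevE8 wT 105 = true := by decide +kernel
theorem r106 : c1Row chevE8 wT 106 = true := by decide +kernel
theorem r107 : c1Row chevE8 wT 107 = true := by decide +kernel
theorem r108 : c1Row chevE8 wT 108 = true := by decide +kernel
theorem r109 : c1Row chevE8 wT 109 = true := by decide +kernel
theorem r110 : c1Row chevE8 wT 110 = true := by decide +kernel
theorem r111 : c1Row chevE8 wT 111 = true := by decide +kernel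
theorem r112 : c1Row chevE8 wT 112 = true := by decide +kernel
theorem r113 : c1Row chevE8 wT 113 = true := by decide +kernel
theorem r114 : c1Row chevE8 wT 114 = true := by decide +kernel
theorem r115 : c1Row chevE8 wT 115 = true := by decide +kernel
theorem r116 : c1Row chevE8 wT 116 = true := by decide +kernel
theorem r117 : c1Row chevE8 wT 117 = true := by decide +kernel
theorem r118 : c1Row chevE8 wT 118 = true := by decide +kernel
theorem r119 : c1Row chevE8 wT 119 = true := by decide +kernel

theorem chunk : ∀ x, 90 ≤ x → x < 120 → c1Row chevE8 wT x = true := by
  intro x h1 h2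
  interval_cases x
  · exact r90
  · exact r91
  · exact r92
  · exact r93
  · exact r94
  · exact r95
  · exact r96
  · exact r97
  · exact r98
  · exact r99
  · exact r100
  · exact r101
  · exact r102
  · exact r103
  · exact r104
  · exact r105
  · exact r106
  · exact r107
  · exact r108
  · exact r109
  · exact r110
  · exact r111
  · exact r112
  · exact r113
  · exact r114
  · exact r115
  · exact r116
  · exact r117
  · exact r118
  · exact r119

end Cfsg.Agent.Lib.Helper35_SteinCertE8W3
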