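/-
Central closedness of Steinberg groups (helper35): certificate checks for the type E8, (C1) for the roots 120 to 150 (generated).
-/
import Mathlib
import Cfsg.Prelude.Def_ChevE8
import Cfsg.Agent.Lib.Helper35_SteinCert
import Cfsg.Agent.Lib.Helper35_SteinDataE8

set_option autoImplicit false
set_option maxRecDepth 100000

namespace Cfsg.Agent.Lib.Helper35_SteinCertE8W4

open Cfsg Cfsg.Lie Cfsg.Agent.Lib.Helper35_SteinCert Cfsg.Agent.Lib.Helper35_SteinDataE8

theorem r120 : c1Row chevE8 wT 120 = true := by decide +kernel
theorem r121 : c1Row chevE8 wT 121 = true := by decide +kernel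
theorem r122 : c1Row chevE8 wT 122 = true := by decide +kernel
theorem r123 : c1Row chevE8 wT 123 = true := by decide +kernel
theorem r124 : c1Row chevE8 wT 124 = true := by decide +kernel
theorem r125 : c1Row chevE8 wT 125 = true := by decide +kernel
theorem r126 : c1Row chevE8 wT 126 = true := by decide +kernel
theorem r127 : c1Row chevE8 wT 127 = true := by decide +kernel
theorem r128 : c1Row chevE8 wT 128 = true := by decide +kernel
theorem r129 : c1Row chevE8 wT 129 = true := by decide +kernel
theorem r130 : c1Row chevE8 wT 130 = true := by decide +kernel
theorem r131 : c1Row chevE8 wT 131 = true := by decide +kernel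
theorem r132 : c1Row chevE8 wT 132 = true := by decide +kernel
theorem r133 : c1Row chevE8 wT 133 = true := by decide +kernel
theorem r134 : c1Row chevE8 wT 134 = true := by decide +kernel
theorem r135 : c1Row chevE8 wT 135 = true := by decide +kernel
theorem r136 : c1Row chevE8 wT 136 = true := by decide +kernel
theorem r137 : c1Row chevE8 wT 137 = true := by decide +kernel
theorem r138 : c1Row chevE8 wT 138 = true := by decide +kernel
theorem r139 : c1Row chevE8 wT 139 = true := by decide +kernel
theorem r140 : c1Row chevE8 wT 140 = true := by decide +kernel
theorem r141 : c1Row chevE8 wT 141 = true := by decide +kernel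
theorem r142 : c1Row chevE8 wT 142 = true := by decide +kernel
theorem r143 : c1Row chevE8 wT 143 = true := by decide +kernel
theorem r144 : c1Row chevE8 wT 144 = true := by decide +kernel
theorem r145 : c1Row chevE8 wT 145 = true := by decide +kernel
theorem r146 : c1Row chevE8 wT 146 = true := by decide +kernel
theorem r147 : c1Row chevE8 wT 147 = true := by decide +kernel
theorem r148 : c1Row chevE8 wT 148 = true := by decide +kernel
theorem r149 : c1Row chevE8 wT 149 = true := by decide +kernel

theorem chunk : ∀ x, 120 ≤ x → x < 150 → c1Row chevE8 wT x = true := by
  intro x h1 h2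
  interval_cases x
  · exact r120
  · exact r121
  · exact r122
  · exact r123
  · exact r124
  · exact r125
  · exact r126
  · exact r127
  · exact r128
  · exact r129
  · exact r130
  · exact r131
  · exact r132
  · exact r133
  · exact r134
  · exact r135
  · exact r136
  · exact r137
  · exact r138
  · exact r139
  · exact r140
  · exact r141
  · exact r142
  · exact r143
  · exact r144
  · exact r145
  · exact r146
  · exact r147
  · exact r148
  · exact r149

end Cfsg.Agent.Lib.Helper35_SteinCertE8W4
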