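/-
Central closedness of Steinberg groups (helper35): certificate checks for the type E8, (C1) for the roots 180 to 210 (generated).
-/
import Mathlib
import Cfsg.Prelude.Def_ChevE8
import Cfsg.Agent.Lib.Helper35_SteinCert
import Cfsg.Agent.Lib.Helper35_SteinDataE8

set_option autoImplicit false
set_option maxRecDepth 100000

namespace Cfsg.Agent.Lib.Helper35_SteinCertE8W6

open Cfsg Cfsg.Lie Cfsg.Agent.Lib.Helper35_SteinCert Cfsg.Agent.Lib.Helper35_SteinDataE8

theorem r180 : c1Row chevE8 wT 180 = true := by decide +kernel
theorem r181 : c1Row chevE8 wT 181 = true := by decide +kernel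
theorem r182 : c1Row chevE8 wT 182 = true := by decide +kernel
theorem r183 : c1Row chevE8 wT 183 = true := by decide +kernel
theorem r184 : c1Row chevE8 wT 184 = true := by decide +kernel
theorem r185 : c1Row chevE8 wT 185 = true := by decide +kernel
theorem r186 : c1Row chevE8 wT 186 = true := by decide +kernel
theorem r187 : c1Row chevE8 wT 187 = true := by decide +kernel
theorem r188 : c1Row chevE8 wT 188 = true := by decide +kernel
theorem r189 : c1Row chevE8 wT 189 = true := by decide +kernel
theorem r190 : c1Row chevE8 wT 190 = true := by decide +kernel
theorem r191 : c1Row chevE8 wT 191 = true := by decide +kernel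
theorem r192 : c1Row chevE8 wT 192 = true := by decide +kernel
theorem r193 : c1Row chevE8 wT 193 = true := by decide +kernel
theorem r194 : c1Row chevE8 wT 194 = true := by decide +kernel
theorem r195 : c1Row chevE8 wT 195 = true := by decide +kernel
theorem r196 : c1Row chevE8 wT 196 = true := by decide +kernel
theorem r197 : c1Row chevE8 wT 197 = true := by decide +kernel
theorem r198 : c1Row chevE8 wT 198 = true := by decide +kernel
theorem r199 : c1Row chevE8 wT 199 = true := by decide +kernel
theorem r200 : c1Row chevE8 wT 200 = true := by decide +kernel
theorem r201 : c1Row chevE8 wT 201 = true := by decide +kernel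
theorem r202 : c1Row chevE8 wT 202 = true := by decide +kernel
theorem r203 : c1Row chevE8 wT 203 = true := by decide +kernel
theorem r204 : c1Row chevE8 wT 204 = true := by decide +kernel
theorem r205 : c1Row chevE8 wT 205 = true := by decide +kernel
theorem r206 : c1Row chevE8 wT 206 = true := by decide +kernel
theorem r207 : c1Row chevE8 wT 207 = true := by decide +kernel
theorem r208 : c1Row chevE8 wT 208 = true := by decide +kernel
theorem r209 : c1Row chevE8 wT 209 = true := by decide +kernel

theorem chunk : ∀ x, 180 ≤ x → x < 210 → c1Row chevE8 wT x = true := by
  intro x h1 h2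
  interval_cases x
  · exact r180
  · exact r181
  · exact r182
  · exact r183
  · exact r184
  · exact r185
  · exact r186
  · exact r187
  · exact r188
  · exact r189
  · exact r190
  · exact r191
  · exact r192
  · exact r193
  · exact r194
  · exact r195
  · exact r196
  · exact r197
  · exact r198
  · exact r199
  · exact r200
  · exact r201
  · exact r202
  · exact r203
  · exact r204
  · exact r205
  · exact r206
  · exact r207
  · exact r208
  · exact r209

end Cfsg.Agent.Lib.Helper35_SteinCertE8W6
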