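/-
Central closedness of Steinberg groups (helper35): certificate checks for the type E8, (C1) for the roots 210 to 240 (generated).
-/
import Mathlib
import Cfsg.Prelude.Def_ChevE8
import Cfsg.Agent.Lib.Helper35_SteinCert
import Cfsg.Agent.Lib.Helper35_SteinDataE8

set_option autoImplicit false
set_option maxRecDepth 100000

namespace Cfsg.Agent.Lib.Helper35_SteinCertE8W7

open Cfsg Cfsg.Lie Cfsg.Agent.Lib.Helper35_SteinCert Cfsg.Agent.Lib.Helper35_SteinDataE8

theorem r210 : c1Row chevE8 wT 210 = true := by decide +kernel
theorem r211 : c1Row chevE8 wT 211 = true := by decide +kernel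
theorem r212 : c1Row chevE8 wT 212 = true := by decide +kernel
theorem r213 : c1Row chevE8 wT 213 = true := by decide +kernel
theorem r214 : c1Row chevE8 wT 214 = true := by decide +kernel
theorem r215 : c1Row chevE8 wT 215 = true := by decide +kernel
theorem r216 : c1Row chevE8 wT 216 = true := by decide +kernel
theorem r217 : c1Row chevE8 wT 217 = true := by decide +kernel
theorem r218 : c1Row chevE8 wT 218 = true := by decide +kernel
theorem r219 : c1Row chevE8 wT 219 = true := by decide +kernel
theorem r220 : c1Row chevE8 wT 220 = true := by decide +kernel
theorem r221 : c1Row chevE8 wT 221 = true := by decide +kernel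
theorem r222 : c1Row chevE8 wT 222 = true := by decide +kernel
theorem r223 : c1Row chevE8 wT 223 = true := by decide +kernel
theorem r224 : c1Row chevE8 wT 224 = true := by decide +kernel
theorem r225 : c1Row chevE8 wT 225 = true := by decide +kernel
theorem r226 : c1Row chevE8 wT 226 = true := by decide +kernel
theorem r227 : c1Row chevE8 wT 227 = true := by decide +kernel
theorem r228 : c1Row chevE8 wT 228 = true := by decide +kernel
theorem r229 : c1Row chevE8 wT 229 = true := by decide +kernel
theorem r230 : c1Row chevE8 wT 230 = true := by decide +kernel
theorem r231 : c1Row chevE8 wT 231 = true := by decide +kernel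
theorem r232 : c1Row chevE8 wT 232 = true := by decide +kernel
theorem r233 : c1Row chevE8 wT 233 = true := by decide +kernel
theorem r234 : c1Row chevE8 wT 234 = true := by decide +kernel
theorem r235 : c1Row chevE8 wT 235 = true := by decide +kernel
theorem r236 : c1Row chevE8 wT 236 = true := by decide +kernel
theorem r237 : c1Row chevE8 wT 237 = true := by decide +kernel
theorem r238 : c1Row chevE8 wT 238 = true := by decide +kernel
theorem r239 : c1Row chevE8 wT 239 = true := by decide +kernel

theorem chunk : ∀ x, 210 ≤ x → x < 240 → c1Row chevE8 wT x = true := by
  intro x h1 h2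
  interval_cases x
  · exact r210
  · exact r211
  · exact r212
  · exact r213
  · exact r214
  · exact r215
  · exact r216
  · exact r217
  · exact r218
  · exact r219
  · exact r220
  · exact r221
  · exact r222
  · exact r223
  · exact r224
  · exact r225
  · exact r226
  · exact r227
  · exact r228
  · exact r229
  · exact r230
  · exact r231
  · exact r232
  · exact r233
  · exact r234
  · exact r235
  · exact r236
  · exact r237
  · exact r238
  · exact r239

end Cfsg.Agent.Lib.Helper35_SteinCertE8W7
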