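/-
Central closedness of Steinberg groups (helper35): the certificate for the type E8 (generated).
-/
import Mathlib
import Cfsg.Agent.Lib.Helper35_SteinCertE8F0
import Cfsg.Agent.Lib.Helper35_SteinCertE8C0
import Cfsg.Agent.Lib.Helper35_SteinCertE8C1
import Cfsg.Agent.Lib.Helper35_SteinCertE8W0
import Cfsg.Agent.Lib.Helper35_SteinCertE8W1
import Cfsg.Agent.Lib.Helper35_SteinCertE8W2
import Cfsg.Agent.Lib.Helper35_SteinCertE8W3
import Cfsg.Agent.Lib.Helper35_SteinCertE8W4
import Cfsg.Agent.Lib.Helper35_SteinCertE8W5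
import Cfsg.Agent.Lib.Helper35_SteinCertE8W6
import Cfsg.Agent.Lib.Helper35_SteinCertE8W7
import Cfsg.Agent.Lib.Helper35_SteinCertE8P0
import Cfsg.Agent.Lib.Helper35_SteinCertE8P1
import Cfsg.Agent.Lib.Helper35_SteinCertE8P2
import Cfsg.Agent.Lib.Helper35_SteinCertE8P3
import Cfsg.Agent.Lib.Helper35_SteinCertE8P4
import Cfsg.Agent.Lib.Helper35_SteinCertE8P5
import Cfsg.Agent.Lib.Helper35_SteinCertE8P6
import Cfsg.Agent.Lib.Helper35_SteinCertE8P7

set_option autoImplicit false
set_option maxRecDepth 100000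

namespace Cfsg.Agent.Lib.Helper35_SteinCertE8

open Cfsg Cfsg.Lie Cfsg.Agent.Lib.Helper35_SteinCert Cfsg.Agent.Lib.Helper35_SteinDataE8

theorem size_le : chevE8.chain.size ≤ chevE8.nroots := by decide +kernel

theorem cn : (List.range' 0 240).all (canRow chevE8 canT) = true := by decide +kernel

theorem wf : wfB chevE8 = true := by
  apply wfB_of_rows size_le
  intro r hr
  have hr' : r < 240 := hr
  exact Cfsg.Agent.Lib.Helper35_SteinCertE8F0.chunk r (by omega) (by omega)

theorem cert : Cert chevE8 canT tT wT where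
  wf := wf
  c4 := by
    intro r hr
    have hr' : r < 240 := hr
    by_cases h0 : r < 120
    · exact Cfsg.Agent.Lib.Helper35_SteinCertE8C0.chunk r (by omega) (by omega)
    exact Cfsg.Agent.Lib.Helper35_SteinCertE8C1.chunk r (by omega) (by omega)
  cn := fun r hr => of_range' cn r (Nat.zero_le r) (by
    have : r < 240 := hr
    omega)
  c1 := by
    intro r hr
    have hr' : r < 240 := hr
    by_cases h0 : r < 30
    · exact Cfsg.Agent.Lib.Helper35_SteinCertE8W0.chunk r (by omega) (by omega)
    by_cases h1 : r < 60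
    · exact Cfsg.Agent.Lib.Helper35_SteinCertE8W1.chunk r (by omega) (by omega)
    by_cases h2 : r < 90
    · exact Cfsg.Agent.Lib.Helper35_SteinCertE8W2.chunk r (by omega) (by omega)
    by_cases h3 : r < 120
    · exact Cfsg.Agent.Lib.Helper35_SteinCertE8W3.chunk r (by omega) (by omega)
    by_cases h4 : r < 150
    · exact Cfsg.Agent.Lib.Helper35_SteinCertE8W4.chunk r (by omega) (by omega)
    by_cases h5 : r < 180
    · exact Cfsg.Agent.Lib.Helper35_SteinCertE8W5.chunk r (by omega) (by omega)
    by_cases h6 : r < 210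
    · exact Cfsg.Agent.Lib.Helper35_SteinCertE8W6.chunk r (by omega) (by omega)
    exact Cfsg.Agent.Lib.Helper35_SteinCertE8W7.chunk r (by omega) (by omega)
  pr := by
    intro r hr
    have hr' : r < 240 := hr
    by_cases h0 : r < 30
    · exact Cfsg.Agent.Lib.Helper35_SteinCertE8P0.chunk r (by omega) (by omega)
    by_cases h1 : r < 60
    · exact Cfsg.Agent.Lib.Helper35_SteinCertE8P1.chunk r (by omega) (by omega)
    by_cases h2 : r < 90
    · exact Cfsg.Agent.Lib.Helper35_SteinCertE8P2.chunk r (by omega) (by omega)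
    by_cases h3 : r < 120
    · exact Cfsg.Agent.Lib.Helper35_SteinCertE8P3.chunk r (by omega) (by omega)
    by_cases h4 : r < 150
    · exact Cfsg.Agent.Lib.Helper35_SteinCertE8P4.chunk r (by omega) (by omega)
    by_cases h5 : r < 180
    · exact Cfsg.Agent.Lib.Helper35_SteinCertE8P5.chunk r (by omega) (by omega)
    by_cases h6 : r < 210
    · exact Cfsg.Agent.Lib.Helper35_SteinCertE8P6.chunk r (by omega) (by omega)
    exact Cfsg.Agent.Lib.Helper35_SteinCertE8P7.chunk r (by omega) (by omega)

end Cfsg.Agent.Lib.Helper35_SteinCertE8
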