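/-
Central closedness of Steinberg groups (helper35): certificate checks for the type E8, (C1) for the roots 150 to 180 (generated).
-/
import Mathlib
import Cfsg.Prelude.Def_ChevE8
import Cfsg.Agent.Lib.Helper35_SteinCert
import Cfsg.Agent.Lib.Helper35_SteinDataE8

set_option autoImplicit false
set_option maxRecDepth 100000

namespace Cfsg.Agent.Lib.Helper35_SteinCertE8W5

open Cfsg Cfsg.Lie Cfsg.Agent.Lib.Helper35_SteinCert Cfsg.Agent.Lib.Helper35_SteinDataE8

theorem r150 : c1Row chevE8 wT 150 = true := by decide +kernel
theorem r151 : c1Row chevE8 wT 151 = true := by decide +kernel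
theorem r152 : c1Row chevE8 wT 152 = true := by decide +kernel
theorem r153 : c1Row chevE8 wT 153 = true := by decide +kernel
theorem r154 : c1Row chevE8 wT 154 = true := by decide +kernel
theorem r155 : c1Row chevE8 wT 155 = true := by decide +kernel
theorem r156 : c1Row chevE8 wT 156 = true := by decide +kernel
theorem r157 : c1Row chevE8 wT 157 = true := by decide +kernel
theorem r158 : c1Row chevE8 wT 158 = true := by decide +kernel
theorem r159 : c1Row chevE8 wT 159 = true := by decide +kernel
theorem r160 : c1Row chevE8 wT 160 = true := by decide +kernel
theorem r161 : c1Row chevE8 wT 161 = true := by decide +kernel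
theorem r162 : c1Row chevE8 wT 162 = true := by decide +kernel
theorem r163 : c1Row chevE8 wT 163 = true := by decide +kernel
theorem r164 : c1Row chevE8 wT 164 = true := by decide +kernel
theorem r165 : c1Row chevE8 wT 165 = true := by decide +kernel
theorem r166 : c1Row chevE8 wT 166 = true := by decide +kernel
theorem r167 : c1Row chevE8 wT 167 = true := by decide +kernel
theorem r168 : c1Row chevE8 wT 168 = true := by decide +kernel
theorem r169 : c1Row chevE8 wT 169 = true := by decide +kernel
theorem r170 : c1Row chevE8 wT 170 = true := by decide +kernel
theorem r171 : c1Row chevE8 wT 171 = true := by decide +kernel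
theorem r172 : c1Row chevE8 wT 172 = true := by decide +kernel
theorem r173 : c1Row chevE8 wT 173 = true := by decide +kernel
theorem r174 : c1Row chevE8 wT 174 = true := by decide +kernel
theorem r175 : c1Row chevE8 wT 175 = true := by decide +kernel
theorem r176 : c1Row chevE8 wT 176 = true := by decide +kernel
theorem r177 : c1Row chevE8 wT 177 = true := by decide +kernel
theorem r178 : c1Row chevE8 wT 178 = true := by decide +kernel
theorem r179 : c1Row chevE8 wT 179 = true := by decide +kernel

theorem chunk : ∀ x, 150 ≤ x → x < 180 → c1Row chevE8 wT x = true := by
  intro x h1 h2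
  interval_cases x
  · exact r150
  · exact r151
  · exact r152
  · exact r153
  · exact r154
  · exact r155
  · exact r156
  · exact r157
  · exact r158
  · exact r159
  · exact r160
  · exact r161
  · exact r162
  · exact r163
  · exact r164
  · exact r165
  · exact r166
  · exact r167
  · exact r168
  · exact r169
  · exact r170
  · exact r171
  · exact r172
  · exact r173
  · exact r174
  · exact r175
  · exact r176
  · exact r177
  · exact r178
  · exact r179

end Cfsg.Agent.Lib.Helper35_SteinCertE8W5
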