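/-
Central closedness of Steinberg groups of simply-laced type (helper35), main part: for a `ChevalleyDatum` with a
certificate (`Helper35_SteinCert.Cert`) the group presented by Steinberg's relators (R1), (R2) is perfect, every
central extension of it splits, and homomorphisms from it lift along central extensions -- over ANY field.
-/
import Mathlib
import Cfsg.Agent.Lib.Helper35_SteinCert
import Cfsg.Agent.Lib.Helper81_StMain

set_option autoImplicit false
set_option linter.unusedVariables false
set_option linter.unusedSectionVars false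

namespace Cfsg.Agent.Lib.Helper35_SteinMain

open Cfsg Cfsg.Lie Cfsg.Agent.Lib.Helper81_StAbs Cfsg.Agent.Lib.Helper35_SteinAbs Cfsg.Agent.Lib.Helper81_UceA
  Cfsg.Agent.Lib.Helper35_SteinCert Cfsg.Agent.Lib.Helper81_StMain Cfsg.Agent.Lib.Helper81_StBruhat
open scoped commutatorElement

variable {D : ChevalleyDatum} {canT : List (ℕ × ℕ)} {T : List (List (ℕ × Bool × ℕ × ℕ × ℕ × ℕ))}
  {W : List (List (ℕ × ℕ))} {F : Type*} [Field F]

theorem commWord_lt (h : wfB D = true) (r s : ℕ) (t u : F) : ∀ p ∈ D.commWord F r s t u, p.1 < D.nroots := by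
  intro p hp
  unfold ChevalleyDatum.commWord at hp
  rw [List.mem_map] at hp
  obtain ⟨k, hk, rfl⟩ := hp
  cases hs : smD D r s with
  | none =>
    rw [smD_none h hs] at hk
    simp at hk
  | some kd =>
    obtain ⟨k', d⟩ := kd
    obtain ⟨-, -, -, -, hk', -, hct⟩ := smD_some h hs
    rw [hct] at hk
    simp only [List.mem_cons, List.not_mem_nil, or_false] at hk
    rw [hk]
    exact hk'

/-- Elements satisfying the relations of the abstract theorem satisfy (R1), (R2). -/
theorem stGrp_of_lifts (C : Cert D canT T W) {E : Type*} [Group E] {Y : ℕ → F → E}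
    (h2 : ∀ r < D.nroots, ∀ t u : F, Y r t * Y r u = Y r (t + u))
    (h3 : ∀ r s, r < D.nroots → s < D.nroots → cmB D r s = true → ∀ t u : F, Commute (Y r t) (Y s u))
    (h4 : ∀ a b r d, smD D a b = some (r, d) → ∀ t u : F, ⁅Y b u, Y a t⁆ = Y r ((d : F) * t * u)) :
    StGrp D Y where
  add := h2
  comm := by
    intro r s hr hs hsr hsn t u
    have hzero : ∀ r < D.nroots, Y r 0 = 1 := by
      intro r hr
      have := h2 r hr 0 0
      rw [add_zero] at this
      exact mul_eq_left.mp this
    have hinv : ∀ r < D.nroots, ∀ t : F, (Y r t)⁻¹ = Y r (-t) := by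
      intro r hr t
      rw [inv_eq_iff_mul_eq_one, h2 r hr, add_neg_cancel, hzero r hr]
    unfold ChevalleyDatum.commWord
    cases hsm : smD D r s with
    | none =>
      rw [smD_none C.wf hsm, List.map_nil, wordP_nil]
      have hc : cmB D r s = true := cmB_iff.mpr ⟨hr, hs, Or.inr ⟨hsn, hsm⟩⟩
      have := (h3 r s hr hs hc t u).eq
      calc (Y s u)⁻¹ * (Y r t)⁻¹ * Y s u * Y r t = (Y s u)⁻¹ * (Y r t)⁻¹ * (Y s u * Y r t) := by group
        _ = (Y s u)⁻¹ * (Y r t)⁻¹ * (Y r t * Y s u) := by rw [this]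
        _ = 1 := by group
    | some kd =>
      obtain ⟨k, d⟩ := kd
      obtain ⟨-, -, -, -, hk, hd, hct⟩ := smD_some C.wf hsm
      rw [hct, List.map_cons, List.map_nil, wordP_cons, wordP_nil, mul_one]
      have := h4 r s k d hsm (-t) (-u)
      rw [commutatorElement_def, ← hinv s hs, ← hinv r hr, inv_inv, inv_inv] at this
      rw [this]
      congr 1
      push_cast
      ring

/-- A group with elements satisfying (R1), (R2) is an image of the presented group. -/
theorem exists_hom_of_stGrp (hwf : wfB D = true) {G : Type*} [Group G] {Z : ℕ → F → G} (hZ : StGrp D Z) :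
    ∃ s : D.SteinbergCover F →* G, ∀ r < D.nroots, ∀ t : F, s (pGen D (D.steinbergRelsAB F) r t) = Z r t := by
  set f : Fin D.nroots × F → G := fun p => Z p.1 p.2 with hf
  have hX : ∀ r < D.nroots, ∀ t : F, FreeGroup.lift f (D.stX r t) = Z r t := by
    intro r hr t
    unfold ChevalleyDatum.stX
    rw [dif_pos hr, FreeGroup.lift_apply_of]
  have hW : ∀ w : List (ℕ × F), (∀ p ∈ w, p.1 < D.nroots) → FreeGroup.lift f (D.stWord w) = wordP Z w := by
    intro w hw
    unfold ChevalleyDatum.stWord wordP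
    rw [map_list_prod, List.map_map]
    congr 1
    apply List.map_congr_left
    intro p hp
    exact hX p.1 (hw p hp) p.2
  have hrel : ∀ g ∈ D.steinbergRelsAB F, FreeGroup.lift f g = 1 := by
    rintro g (⟨r, t₁, t₂, hr, rfl⟩ | ⟨r, s, t, u, hr, hs, h1, h2, rfl⟩)
    · rw [map_mul, map_mul, map_inv, hX r hr, hX r hr, hX r hr, hZ.add r hr, mul_inv_cancel]
    · rw [map_mul, map_mul, map_mul, map_mul, map_inv, map_inv, map_inv, hX r hr, hX s hs,
        hW _ (commWord_lt hwf r s t u), hZ.comm r s hr hs h1 h2, mul_inv_cancel]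
  refine ⟨PresentedGroup.toGroup hrel, ?_⟩
  intro r hr t
  unfold pGen ChevalleyDatum.stX
  rw [dif_pos hr]
  exact PresentedGroup.toGroup.of hrel

theorem of_eq_pGen (rels : Set (FreeGroup (Fin D.nroots × F))) (x : Fin D.nroots × F) :
    (PresentedGroup.of x : PresentedGroup rels) = pGen D rels x.1 x.2 := by
  unfold pGen ChevalleyDatum.stX
  rw [dif_pos x.1.2]
  rfl

/-- Every central extension of the presented group splits (any field). -/
theorem exists_section (C : Cert D canT T W) {E : Type*} [Group E] (ψ : E →* D.SteinbergCover F)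
    (hψ : CExt ψ) : ∃ s : D.SteinbergCover F →* E, ψ.comp s = MonoidHom.id _ := by
  have hX : StGrp D (pGen D (D.steinbergRelsAB F)) := stGrp_pGen (fun _ hg => hg)
  obtain ⟨Y, h1, h2, h3, h4⟩ := exists_lifts (sys_of_cert C hX) hψ
  obtain ⟨s, hs⟩ := exists_hom_of_stGrp C.wf (stGrp_of_lifts C h2 h3 h4)
  refine ⟨s, ?_⟩
  apply PresentedGroup.ext
  intro x
  rw [MonoidHom.comp_apply, of_eq_pGen, hs x.1 x.1.2 x.2, h1 x.1 x.1.2 x.2]
  rfl

/-- The pullback of a central extension. -/
def pullback {Δ E G₁ : Type*} [Group Δ] [Group E] [Group G₁] (π₁ : E →* G₁) (σ : Δ →* G₁) : Subgroup (E × Δ) where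
  carrier := {p | π₁ p.1 = σ p.2}
  one_mem' := by
    show π₁ (1 : E × Δ).1 = σ (1 : E × Δ).2
    simp
  mul_mem' := by
    intro a b ha hb
    show π₁ (a * b).1 = σ (a * b).2
    rw [Prod.fst_mul, Prod.snd_mul, map_mul, map_mul, ha, hb]
  inv_mem' := by
    intro a ha
    show π₁ (a⁻¹).1 = σ (a⁻¹).2
    rw [Prod.fst_inv, Prod.snd_inv, map_inv, map_inv, ha]

/-- Homomorphisms from the presented group lift along central extensions (any field). -/
theorem exists_lift (C : Cert D canT T W) {G₁ E : Type*} [Group G₁] [Group E] (π₁ : E →* G₁)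
    (hπ : Function.Surjective π₁) (hc : π₁.ker ≤ Subgroup.center E) (σ : D.SteinbergCover F →* G₁) :
    ∃ τ : D.SteinbergCover F →* E, π₁.comp τ = σ := by
  set P := pullback π₁ σ with hPdef
  set ψ : P →* D.SteinbergCover F := (MonoidHom.snd E (D.SteinbergCover F)).comp P.subtype with hψdef
  have hψ : CExt ψ := by
    constructor
    · intro x
      obtain ⟨e, he⟩ := hπ (σ x)
      exact ⟨⟨(e, x), he⟩, rfl⟩
    · rintro ⟨⟨e, x⟩, hp⟩ hker
      have hx : x = 1 := hker
      subst hx
      have he : e ∈ Subgroup.center E := by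
        apply hc
        rw [MonoidHom.mem_ker]
        have : π₁ e = σ 1 := hp
        rw [this, map_one]
      rw [Subgroup.mem_center_iff] at he ⊢
      rintro ⟨⟨e', x'⟩, hp'⟩
      apply Subtype.ext
      show (e' * e, x' * 1) = (e * e', 1 * x')
      rw [he e', mul_one, one_mul]
  obtain ⟨s, hs⟩ := exists_section C ψ hψ
  refine ⟨(MonoidHom.fst E (D.SteinbergCover F)).comp (P.subtype.comp s), ?_⟩
  apply MonoidHom.ext
  intro x
  have h1 : π₁ (s x).1.1 = σ (s x).1.2 := (s x).2
  have h2 : (s x).1.2 = x := DFunLike.congr_fun hs x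
  rw [h2] at h1
  exact h1

/-- A group generated by elements satisfying (R1), (R2) of a certified datum is perfect. -/
theorem commutator_eq_top (C : Cert D canT T W) {Γ : Type*} [Group Γ] {X : ℕ → F → Γ} (hX : StGrp D X)
    (hgen : Gen D X) : commutator Γ = ⊤ := by
  rw [eq_top_iff, ← hgen, Subgroup.closure_le]
  rintro y ⟨r, hr, t, rfl⟩
  obtain ⟨d, hd⟩ := cert_can C hr
  have h1 := rel_of_smD C.wf hX hd ((d : F) * t) 1
  have h2 : (d : F) * ((d : F) * t) * 1 = t := by
    have := (smD_some C.wf hd).2.2.2.2.2.1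
    have h3 : (d : F) * (d : F) = 1 := by rw [← Int.cast_mul, this, Int.cast_one]
    calc (d : F) * ((d : F) * t) * 1 = ((d : F) * (d : F)) * t := by ring
      _ = t := by rw [h3, one_mul]
  rw [h2] at h1
  rw [SetLike.mem_coe, ← h1, commutator_def]
  exact Subgroup.commutator_mem_commutator (Subgroup.mem_top _) (Subgroup.mem_top _)

end Cfsg.Agent.Lib.Helper35_SteinMain
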