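import Mathlib

/-!
# A twisted pairing lemma (helper35)

A biadditive pairing `c` on a finite field with `c (d ^ n * x) (d * y) = c x y` for all `d ≠ 0`
vanishes as soon as `2 * n + 2 < |F|`.  Used for the Schur multiplier of the Suzuki groups.
-/

set_option autoImplicit false

namespace Cfsg.Agent.Lib.Helper35_SzPairing

open Polynomial

variable {F : Type*} [Field F] {A : Type*} [AddCommGroup A]

/-- there is `d ∉ {0, -1}` with `d ^ n - (d + 1) ^ n - d ^ n * (d + 1) ^ n ≠ 0` -/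
theorem exists_good [Fintype F] (n : ℕ) (hq : 2 * n + 2 < Fintype.card F) :
    ∃ d : F, d ≠ 0 ∧ d + 1 ≠ 0 ∧ d ^ n - (d + 1) ^ n - d ^ n * (d + 1) ^ n ≠ 0 := by
  let g : F[X] := X ^ n - (X + 1) ^ n - X ^ n * (X + 1) ^ n
  let f : F[X] := X * (X + 1) * g
  have hdeg : f.natDegree ≤ 2 * n + 2 := by
    show (X * (X + 1) * (X ^ n - (X + 1) ^ n - X ^ n * (X + 1) ^ n) : F[X]).natDegree ≤ 2 * n + 2
    compute_degree
    all_goals omega
  have hg0 : g ≠ 0 := by
    intro h
    have h1 := congrArg (eval 0) h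
    simp only [g, eval_sub, eval_mul, eval_pow, eval_X, eval_add, eval_one, eval_zero, zero_add,
      one_pow, mul_one] at h1
    rcases Nat.eq_zero_or_pos n with hn | hn
    · subst hn
      simp at h1
    · rw [zero_pow hn.ne'] at h1
      simp at h1
  have hf0 : f ≠ 0 := by
    have h1 : (X : F[X]) ≠ 0 := X_ne_zero
    have h2 : (X + 1 : F[X]) ≠ 0 := by
      have : (X + 1 : F[X]) = X + C 1 := by simp
      rw [this]; exact X_add_C_ne_zero 1
    exact mul_ne_zero (mul_ne_zero h1 h2) hg0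
  have hlt : f.natDegree < Fintype.card F := lt_of_le_of_lt hdeg hq
  obtain ⟨d, hd⟩ := Polynomial.exists_eval_ne_zero_of_natDegree_lt_card f hf0 (by
    rw [Cardinal.mk_fintype]; exact_mod_cast hlt)
  simp only [f, g, eval_mul, eval_add, eval_sub, eval_X, eval_one, eval_pow] at hd
  refine ⟨d, ?_, ?_, ?_⟩
  · rintro rfl; apply hd; ring
  · intro h; apply hd; rw [h]; ring
  · intro h; apply hd; rw [h]; ring

/-- a biadditive pairing on a finite field with `c (d ^ n * x) (d * y) = c x y` for all `d ≠ 0`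
vanishes, if `2 * n + 2 < |F|` -/
theorem twisted_pairing_eq_zero [Fintype F] (n : ℕ) (hq : 2 * n + 2 < Fintype.card F)
    (c : F → F → A)
    (hl : ∀ x x' y, c (x + x') y = c x y + c x' y)
    (hr : ∀ x y y', c x (y + y') = c x y + c x y')
    (hinv : ∀ d : F, d ≠ 0 → ∀ x y, c (d ^ n * x) (d * y) = c x y) : ∀ x y, c x y = 0 := by
  obtain ⟨d, hd0, hd1, hne⟩ := exists_good (F := F) n hq
  let cl : F → (F →+ A) := fun y => AddMonoidHom.mk' (fun x => c x y) (fun x x' => hl x x' y)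
  have hcl : ∀ x y, cl y x = c x y := fun _ _ => rfl
  have h1 : ∀ e : F, e ≠ 0 → ∀ x y, c x (e * y) = c ((e ^ n)⁻¹ * x) y := by
    intro e he x y
    have hen : e ^ n ≠ 0 := pow_ne_zero n he
    have := hinv e he ((e ^ n)⁻¹ * x) y
    rw [← this, ← mul_assoc, mul_inv_cancel₀ hen, one_mul]
  set t := d ^ n with ht
  set v := (d + 1) ^ n with hv
  have ht0 : t ≠ 0 := pow_ne_zero n hd0
  have hv0 : v ≠ 0 := pow_ne_zero n hd1
  have hw : v⁻¹ - t⁻¹ - 1 ≠ 0 := by
    intro h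
    apply hne
    have h5 : (v⁻¹ - t⁻¹ - 1) * (t * v) = t - v - t * v := by
      field_simp
    rw [h, zero_mul] at h5
    exact h5.symm
  intro x' y
  set x := (v⁻¹ - t⁻¹ - 1)⁻¹ * x' with hx
  have h2 : c x ((d + 1) * y) = c (v⁻¹ * x) y := h1 (d + 1) hd1 x y
  have h3 : c x (d * y) = c (t⁻¹ * x) y := h1 d hd0 x y
  have h4 : (d + 1) * y = d * y + y := by ring
  rw [h4, hr, h3] at h2
  have h6 : cl y (v⁻¹ * x - t⁻¹ * x - x) = 0 := by
    rw [map_sub, map_sub, hcl, hcl, hcl, ← h2]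
    abel
  have h7 : v⁻¹ * x - t⁻¹ * x - x = x' := by
    have : v⁻¹ * x - t⁻¹ * x - x = (v⁻¹ - t⁻¹ - 1) * x := by ring
    rw [this, hx, ← mul_assoc, mul_inv_cancel₀ hw, one_mul]
  rw [h7, hcl] at h6
  exact h6

end Cfsg.Agent.Lib.Helper35_SzPairing
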