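import Mathlib
import Cfsg.Agent.Lib.Helper66_StemTools
import Cfsg.Agent.Lib.Helper35_SzPairing
import Cfsg.Agent.Lib.Helper35_SzMult

/-!
# Central extensions of the Suzuki 2-group of order 64 with its torus (helper35, for S2112)

The abstract setting of `Helper35_SzMult` for `q = 8`: here the lifts of the centre `Z(U)` need not
commute with the lifts of `U`; their commutators define a pairing `β a b = ⁅l a 0, ρ b⁆` with
values in the kernel, which is biadditive, invariant under the torus and hence of the form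
`φ (a * b ^ 4)`; the Hall-Witt identity shows that `φ` kills the values of the polarisation of the
norm form of the field with eight elements, in particular `φ 1 = 1`.
-/

set_option autoImplicit false

namespace Cfsg.Agent.Lib.Helper35_Sz8Base

open scoped commutatorElement IsMulCommutative
open Cfsg.Agent.Lib.Helper66_StemTools Cfsg.Agent.Lib.Helper35_SzPairing
open Cfsg.Agent.Lib.Helper35_SzMult (comm_mul_left' comm_mul_right' comm_eq_one_of_commute)

section Abstract

variable {F : Type*} [Field F] [Fintype F] {S : F →+* F} {m : ℕ}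
  {G Γ : Type*} [Group G] [Group Γ] (u : F → F → G) (h : Fˣ → G) (σ : Γ →* G)

/-- the hypotheses of the abstract setting -/
structure HypB (S : F →+* F) (m : ℕ) (u : F → F → G) (h : Fˣ → G) (σ : Γ →* G) : Prop where
  hm : 1 ≤ m
  hF : Fintype.card F = 2 ^ (2 * m + 1)
  h2 : (2 : F) = 0
  hS : ∀ z, S (S z) = z ^ 2
  hSdef : ∀ z, S z = z ^ 2 ^ (m + 1)
  hu : ∀ a b a' b', u a b * u a' b' = u (a + a') (b + b' + S a * a')
  hinj : ∀ b, u 0 b = 1 → b = 0
  hh : ∀ (t : Fˣ) a b,
    h t * u a b * (h t)⁻¹ = u ((t : F) ^ 2 * a) (S (t : F) ^ 2 * (t : F) ^ 2 * b)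
  hhc : ∀ t t', h t * h t' = h t' * h t
  hs : Function.Surjective σ
  hc : σ.ker ≤ Subgroup.center Γ

namespace HypB

variable {u h σ} (H : HypB S m u h σ)
include H

theorem add_self (x : F) : x + x = 0 := by linear_combination x * H.h2

theorem card_big : 8 ≤ Fintype.card F := by
  rw [H.hF]
  calc 8 = 2 ^ 3 := by norm_num
    _ ≤ 2 ^ (2 * m + 1) := Nat.pow_le_pow_right (by norm_num) (by have := H.hm; omega)

theorem not_prime : ¬ (Fintype.card F).Prime := by
  rw [H.hF, pow_succ]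
  apply Nat.not_prime_mul
  · have h1 : 1 < 2 ^ (2 * m) := Nat.one_lt_two_pow (by have := H.hm; omega)
    omega
  · norm_num

theorem card_ne_four : Fintype.card F ≠ 4 := by have := H.card_big; omega

theorem card_ne_nine : Fintype.card F ≠ 9 := by rw [H.hF, pow_succ]; omega

theorem u_zero : u 0 0 = 1 := by
  have h1 := H.hu 0 0 0 0
  simp only [add_zero, map_zero, zero_mul] at h1
  exact mul_left_cancel (h1.trans (mul_one _).symm)

theorem u0_mul (b b' : F) : u 0 b * u 0 b' = u 0 (b + b') := by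
  rw [H.hu, add_zero, map_zero, zero_mul, add_zero]

theorem u_split (a b : F) : u a b = u a 0 * u 0 b := by
  rw [H.hu, add_zero, zero_add, mul_zero, add_zero]

theorem u0_comm (a b b' : F) : u 0 b * u a b' = u a b' * u 0 b := by
  rw [H.hu, H.hu]
  congr 1
  · ring
  · simp only [map_zero, zero_mul, mul_zero, add_zero]
    ring

theorem u0_sq (b : F) : u 0 b * u 0 b = 1 := by
  rw [H.u0_mul, H.add_self, H.u_zero]

theorem u0_inv (b : F) : (u 0 b)⁻¹ = u 0 b := by
  rw [inv_eq_iff_mul_eq_one, H.u0_sq]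

theorem ua0_add (a a' : F) : u (a + a') 0 = u a 0 * (u a' 0 * u 0 (S a * a')) := by
  rw [← mul_assoc, H.hu a 0 a' 0, H.hu]
  congr 1
  · ring
  · simp only [mul_zero, add_zero, zero_add]
    rw [H.add_self]

/-- the commutator of two of the `u a 0` -/
theorem comm_ua0 (a a' : F) : ⁅u a 0, u a' 0⁆ = u 0 (S a * a' + S a' * a) := by
  have e1 : u a 0 * u a' 0 = u (a + a') (S a * a') := by
    rw [H.hu]
    congr 1
    ring
  have e2 : u 0 (S a * a' + S a' * a) * (u a' 0 * u a 0) = u (a + a') (S a * a') := by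
    rw [H.hu, H.hu]
    congr 1
    · ring
    · simp only [add_zero, zero_add, map_zero, zero_mul]
      linear_combination (S a' * a) * H.h2
  rw [commutatorElement_def, mul_inv_eq_iff_eq_mul, mul_inv_eq_iff_eq_mul, mul_assoc, e1, e2]

/-- every nonzero element is `S t * t` for a unit `t` -/
theorem exists_unit (a : F) (ha : a ≠ 0) : ∃ t : Fˣ, S (t : F) * (t : F) = a := by
  have hSa : S a ≠ 0 := by simpa using ha
  refine ⟨Units.mk0 (S a * a⁻¹) (mul_ne_zero hSa (inv_ne_zero ha)), ?_⟩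
  rw [Units.val_mk0, map_mul, map_inv₀, H.hS]
  field_simp

/-- every nonzero element is the square of a unit -/
theorem exists_sqrt (d : F) (hd : d ≠ 0) : ∃ t : Fˣ, (t : F) ^ 2 = d := by
  have hinj : Function.Injective S := S.injective
  have hsurj : Function.Surjective S := Finite.injective_iff_surjective.mp hinj
  obtain ⟨y, hy⟩ := hsurj d
  obtain ⟨t, ht⟩ := hsurj y
  have h1 : t ^ 2 = d := by rw [← H.hS, ht, hy]
  have ht0 : t ≠ 0 := by
    rintro rfl
    rw [zero_pow (by norm_num)] at h1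
    exact hd h1.symm
  exact ⟨Units.mk0 t ht0, h1⟩

/-- chosen lifts of the `u a b` -/
noncomputable def l (a b : F) : Γ := Function.surjInv H.hs (u a b)

/-- chosen lifts of the `h t` -/
noncomputable def k (t : Fˣ) : Γ := Function.surjInv H.hs (h t)

theorem σ_l (a b : F) : σ (H.l a b) = u a b := Function.surjInv_eq H.hs (u a b)

theorem σ_k (t : Fˣ) : σ (H.k t) = h t := Function.surjInv_eq H.hs (h t)

theorem comm_congr {x x' y y' : Γ} (hx : σ x = σ x') (hy : σ y = σ y') : ⁅x, y⁆ = ⁅x', y'⁆ :=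
  commutatorElement_congr_of_central σ H.hc hx hy

theorem σ_conj (t : Fˣ) {x : Γ} {a b : F} (hx : σ x = u a b) :
    σ (H.k t * x * (H.k t)⁻¹) = u ((t : F) ^ 2 * a) (S (t : F) ^ 2 * (t : F) ^ 2 * b) := by
  rw [map_mul, map_mul, map_inv, H.σ_k, hx, H.hh]

theorem conj_central (g : Γ) {z : Γ} (hz : z ∈ σ.ker) : g * z * g⁻¹ = z := by
  have := Subgroup.mem_center_iff.mp (H.hc hz) g
  rw [this, mul_inv_cancel_right]

/-- Step 1: lifts of the `u 0 b` commute -/
theorem comm00 {x y : Γ} {b b' : F} (hx : σ x = u 0 b) (hy : σ y = u 0 b') : x * y = y * x := by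
  classical
  have hker : ∀ β γ, ⁅H.l 0 β, H.l 0 γ⁆ ∈ σ.ker := by
    intro β γ
    rw [MonoidHom.mem_ker, map_commutatorElement, H.σ_l, H.σ_l,
      commutatorElement_eq_one_iff_mul_comm, H.u0_mul, H.u0_mul, add_comm]
  let c : F → F → Additive (Subgroup.center Γ) := fun β γ =>
    Additive.ofMul ⟨⁅H.l 0 β, H.l 0 γ⁆, H.hc (hker β γ)⟩
  have hc0 : ∀ x y, c x y = 0 := by
    apply pairing_eq_zero_of_card H.not_prime H.card_ne_four H.card_ne_nine c
    · intro x x' y
      show Additive.ofMul _ = Additive.ofMul _ + Additive.ofMul _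
      rw [← ofMul_mul]
      congr 1
      apply Subtype.ext
      show ⁅H.l 0 (x + x'), H.l 0 y⁆ = ⁅H.l 0 x, H.l 0 y⁆ * ⁅H.l 0 x', H.l 0 y⁆
      rw [← commutatorElement_mul_left_of_central _ _ _ (H.hc (hker x' y))]
      apply H.comm_congr
      · rw [H.σ_l, map_mul, H.σ_l, H.σ_l, H.u0_mul]
      · rfl
    · intro x y y'
      show Additive.ofMul _ = Additive.ofMul _ + Additive.ofMul _
      rw [← ofMul_mul]
      congr 1
      apply Subtype.ext
      show ⁅H.l 0 x, H.l 0 (y + y')⁆ = ⁅H.l 0 x, H.l 0 y⁆ * ⁅H.l 0 x, H.l 0 y'⁆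
      rw [← commutatorElement_mul_right_of_central _ _ _ (H.hc (hker x y'))]
      apply H.comm_congr
      · rfl
      · rw [H.σ_l, map_mul, H.σ_l, H.σ_l, H.u0_mul]
    · intro a ha x y
      show Additive.ofMul _ = Additive.ofMul _
      congr 1
      apply Subtype.ext
      show ⁅H.l 0 (a * a * x), H.l 0 (a * a * y)⁆ = ⁅H.l 0 x, H.l 0 y⁆
      obtain ⟨t, ht⟩ := H.exists_unit a ha
      have hν : S (t : F) ^ 2 * (t : F) ^ 2 = a * a := by rw [← ht]; ring
      have h1 : ⁅H.l 0 (a * a * x), H.l 0 (a * a * y)⁆ =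
          ⁅H.k t * H.l 0 x * (H.k t)⁻¹, H.k t * H.l 0 y * (H.k t)⁻¹⁆ := by
        apply H.comm_congr
        · rw [H.σ_l, H.σ_conj t (H.σ_l 0 x), mul_zero, hν]
        · rw [H.σ_l, H.σ_conj t (H.σ_l 0 y), mul_zero, hν]
      rw [h1, ← conjugate_commutatorElement, H.conj_central _ (hker x y)]
  have h1 : ⁅x, y⁆ = ⁅H.l 0 b, H.l 0 b'⁆ :=
    H.comm_congr (by rw [hx, H.σ_l]) (by rw [hy, H.σ_l])
  have h2 : ⁅H.l 0 b, H.l 0 b'⁆ = 1 := by
    have h3 := congrArg Additive.toMul (hc0 b b')
    exact congrArg Subtype.val h3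
  rw [h2, commutatorElement_eq_one_iff_mul_comm] at h1
  exact h1

theorem S_mul_self (d : F) : S d * d = d ^ (2 ^ (m + 1) + 1) := by
  rw [H.hSdef]
  exact (pow_succ d _).symm

/-- the commutator of two of the `u a b` -/
theorem comm_u (a b a' b' : F) : ⁅u a b, u a' b'⁆ = u 0 (S a * a' + S a' * a) := by
  have e2 : u 0 (S a * a' + S a' * a) * (u a' b' * u a b) = u a b * u a' b' := by
    rw [H.hu, H.hu, H.hu]
    congr 1
    · ring
    · simp only [map_zero, zero_mul, add_zero]
      linear_combination (S a' * a) * H.h2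
  rw [commutatorElement_def, mul_inv_eq_iff_eq_mul, mul_inv_eq_iff_eq_mul, mul_assoc, e2]

theorem exists_t1 : ∃ t : Fˣ, S (t : F) ^ 2 * (t : F) ^ 2 + 1 ≠ 0 := by
  have h3 : 2 < Fintype.card F := by have := H.card_big; omega
  obtain ⟨a, b, c, hab, hac, hbc⟩ := Fintype.two_lt_card_iff.mp h3
  have : ∃ a1 : F, a1 ≠ 0 ∧ a1 ≠ 1 := by
    by_cases ha0 : a = 0
    · by_cases hb1 : b = 1
      · exact ⟨c, by rw [← ha0]; exact hac.symm, by rw [← hb1]; exact hbc.symm⟩
      · exact ⟨b, by rw [← ha0]; exact hab.symm, hb1⟩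
    · by_cases ha1 : a = 1
      · by_cases hb0 : b = 0
        · exact ⟨c, by rw [← hb0]; exact hbc.symm, by rw [← ha1]; exact hac.symm⟩
        · exact ⟨b, hb0, by rw [← ha1]; exact hab.symm⟩
      · exact ⟨a, ha0, ha1⟩
  obtain ⟨a1, h0, h1⟩ := this
  obtain ⟨t, ht⟩ := H.exists_unit a1 h0
  refine ⟨t, ?_⟩
  have e : S (t : F) ^ 2 * (t : F) ^ 2 + 1 = (a1 + 1) ^ 2 := by
    rw [← ht]
    linear_combination (-(S (t : F) * (t : F))) * H.h2
  rw [e]
  exact pow_ne_zero 2 (fun h => h1 (by linear_combination h - H.h2))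


end HypB

end Abstract

end Cfsg.Agent.Lib.Helper35_Sz8Base
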