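import Cfsg.Agent.Lib.Helper35_Sz8Base

/-!
# The exceptional pairing for `q = 8` (helper35, for S2112)

In the setting of `Helper35_Sz8Base`: the splitting map `ρ` of the centre of `U`, the pairing
`β a b = ⁅l a 0, ρ b⁆`, its biadditivity and invariance under the torus, and the consequence of the
Hall-Witt identity.
-/

set_option autoImplicit false

namespace Cfsg.Agent.Lib.Helper35_Sz8Beta

open scoped commutatorElement IsMulCommutative
open Cfsg.Agent.Lib.Helper66_StemTools Cfsg.Agent.Lib.Helper35_SzPairing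
open Cfsg.Agent.Lib.Helper35_SzMult (comm_mul_left' comm_mul_right' comm_eq_one_of_commute)
open Cfsg.Agent.Lib.Helper35_Sz8Base

section HW

variable {Γ : Type*} [Group Γ]

/-- the commutator `a⁻¹ b⁻¹ a b` -/
def cc (a b : Γ) : Γ := a⁻¹ * b⁻¹ * a * b

theorem cc_eq (a b : Γ) : cc a b = ⁅a⁻¹, b⁻¹⁆ := by
  simp only [cc, commutatorElement_def, inv_inv]

/-- the Hall-Witt identity -/
theorem hall_witt (x y z : Γ) :
    (y⁻¹ * cc (cc x y⁻¹) z * y) * (z⁻¹ * cc (cc y z⁻¹) x * z) * (x⁻¹ * cc (cc z x⁻¹) y * x) = 1 := by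
  simp only [cc]
  group

end HW

section Abstract

variable {F : Type*} [Field F] [Fintype F] {S : F →+* F} {m : ℕ}
  {G Γ : Type*} [Group G] [Group Γ] {u : F → F → G} {h : Fˣ → G} {σ : Γ →* G}

namespace HypBeta

variable (H : HypB S m u h σ)
include H

theorem u_inv (a b : F) : (u a b)⁻¹ = u a (b + S a * a) := by
  rw [inv_eq_iff_mul_eq_one, H.hu, H.add_self, ← H.u_zero]
  congr 1
  linear_combination (b + S a * a) * H.h2

/-- the splitting map: a lift of `u 0 b` which is a commutator with a torus element -/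
noncomputable def rho (t1 : Fˣ) (b : F) : Γ :=
  ⁅H.k t1, H.l 0 ((S (t1 : F) ^ 2 * (t1 : F) ^ 2 + 1)⁻¹ * b)⁆

section rho

variable (t1 : Fˣ) (ht1 : S (t1 : F) ^ 2 * (t1 : F) ^ 2 + 1 ≠ 0)
include ht1

theorem σ_rho (b : F) : σ (rho H t1 b) = u 0 b := by
  unfold rho
  rw [map_commutatorElement, H.σ_k, H.σ_l, commutatorElement_def, H.hh, H.u0_inv, mul_zero,
    H.u0_mul]
  congr 1
  field_simp

theorem rho_comm00 (b : F) {y : Γ} {b' : F} (hy : σ y = u 0 b') :
    rho H t1 b * y = y * rho H t1 b :=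
  H.comm00 (σ_rho H t1 ht1 b) hy

theorem rho_add (b b' : F) : rho H t1 (b + b') = rho H t1 b * rho H t1 b' := by
  have e1 : rho H t1 (b + b') =
      ⁅H.k t1, H.l 0 ((S (t1 : F) ^ 2 * (t1 : F) ^ 2 + 1)⁻¹ * b) *
        H.l 0 ((S (t1 : F) ^ 2 * (t1 : F) ^ 2 + 1)⁻¹ * b')⁆ := by
    unfold rho
    apply H.comm_congr rfl
    rw [H.σ_l, map_mul, H.σ_l, H.σ_l, H.u0_mul, mul_add]
  rw [e1, comm_mul_right' _ _ _ (rho_comm00 H t1 ht1 b' (H.σ_l 0 _)).symm]
  rfl

theorem rho_zero : rho H t1 0 = 1 := by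
  have h := rho_add H t1 ht1 0 0
  rw [add_zero] at h
  exact mul_left_cancel (a := rho H t1 0) (by rw [mul_one]; exact h.symm)

theorem rho_sq (b : F) : rho H t1 b * rho H t1 b = 1 := by
  rw [← rho_add H t1 ht1, H.add_self, rho_zero H t1 ht1]

theorem rho_inv (b : F) : (rho H t1 b)⁻¹ = rho H t1 b := by
  rw [inv_eq_iff_mul_eq_one, rho_sq H t1 ht1]

omit ht1 in
theorem rho_conj (b : F) (t : Fˣ) :
    H.k t * rho H t1 b * (H.k t)⁻¹ = rho H t1 (S (t : F) ^ 2 * (t : F) ^ 2 * b) := by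
  unfold rho
  rw [conjugate_commutatorElement]
  apply H.comm_congr
  · rw [map_mul, map_mul, map_inv, H.σ_k, H.σ_k, H.hhc, mul_inv_cancel_right]
  · rw [H.σ_conj t (H.σ_l 0 _), H.σ_l, mul_zero]
    congr 1
    ring

/-- the exceptional pairing -/
noncomputable def beta (a b : F) : Γ := ⁅H.l a 0, rho H t1 b⁆

theorem beta_mem_ker (a b : F) : beta H t1 a b ∈ σ.ker := by
  unfold beta
  rw [MonoidHom.mem_ker, map_commutatorElement, H.σ_l, σ_rho H t1 ht1,
    commutatorElement_eq_one_iff_mul_comm, H.u0_comm]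

theorem beta_central (a b : F) : beta H t1 a b ∈ Subgroup.center Γ :=
  H.hc (beta_mem_ker H t1 ht1 a b)

/-- every commutator of a lift of `u a b'` with a lift of `u 0 b` is a value of the pairing -/
theorem comm_eq_beta {x y : Γ} {a b b' : F} (hx : σ x = u a b') (hy : σ y = u 0 b) :
    ⁅x, y⁆ = beta H t1 a b := by
  have e1 : ⁅x, y⁆ = ⁅H.l a 0 * H.l 0 b', rho H t1 b⁆ := by
    apply H.comm_congr
    · rw [hx, map_mul, H.σ_l, H.σ_l, ← H.u_split]
    · rw [hy, σ_rho H t1 ht1]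
  have e2 : ⁅H.l 0 b', rho H t1 b⁆ = 1 :=
    comm_eq_one_of_commute (rho_comm00 H t1 ht1 b (H.σ_l 0 b')).symm
  rw [e1, commutatorElement_mul_left_of_central _ _ _ (by rw [e2]; exact Subgroup.one_mem _), e2,
    mul_one]
  rfl

theorem beta_add_right (a b b' : F) :
    beta H t1 a (b + b') = beta H t1 a b * beta H t1 a b' := by
  unfold beta
  rw [rho_add H t1 ht1,
    commutatorElement_mul_right_of_central _ _ _ (beta_central H t1 ht1 a b')]

theorem beta_add_left (a a' b : F) :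
    beta H t1 (a + a') b = beta H t1 a b * beta H t1 a' b := by
  have e1 : beta H t1 (a + a') b =
      ⁅H.l a 0 * (H.l a' 0 * H.l 0 (S a * a')), rho H t1 b⁆ := by
    unfold beta
    apply H.comm_congr _ rfl
    rw [H.σ_l, map_mul, map_mul, H.σ_l, H.σ_l, H.σ_l, H.ua0_add]
  have e2 : ⁅H.l 0 (S a * a'), rho H t1 b⁆ = 1 :=
    comm_eq_one_of_commute (rho_comm00 H t1 ht1 b (H.σ_l 0 _)).symm
  have e3 : ⁅H.l a' 0 * H.l 0 (S a * a'), rho H t1 b⁆ = beta H t1 a' b := by
    rw [commutatorElement_mul_left_of_central _ _ _ (by rw [e2]; exact Subgroup.one_mem _), e2,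
      mul_one]
    rfl
  rw [e1, commutatorElement_mul_left_of_central _ _ _
    (by rw [e3]; exact beta_central H t1 ht1 a' b), e3]
  rfl

theorem beta_zero_right (a : F) : beta H t1 a 0 = 1 := by
  have h := beta_add_right H t1 ht1 a 0 0
  rw [add_zero] at h
  exact mul_left_cancel (a := beta H t1 a 0) (by rw [mul_one]; exact h.symm)

theorem beta_zero_left (b : F) : beta H t1 0 b = 1 := by
  have h := beta_add_left H t1 ht1 0 0 b
  rw [add_zero] at h
  exact mul_left_cancel (a := beta H t1 0 b) (by rw [mul_one]; exact h.symm)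

theorem beta_sq (a b : F) : beta H t1 a b * beta H t1 a b = 1 := by
  rw [← beta_add_right H t1 ht1, H.add_self, beta_zero_right H t1 ht1]

theorem beta_inv (a b : F) : (beta H t1 a b)⁻¹ = beta H t1 a b := by
  rw [inv_eq_iff_mul_eq_one, beta_sq H t1 ht1]

/-- invariance under the torus -/
theorem beta_invariant (t : Fˣ) (a b : F) :
    beta H t1 ((t : F) ^ 2 * a) (S (t : F) ^ 2 * (t : F) ^ 2 * b) = beta H t1 a b := by
  have e1 : H.k t * beta H t1 a b * (H.k t)⁻¹ = beta H t1 a b :=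
    H.conj_central _ (beta_mem_ker H t1 ht1 a b)
  rw [← e1]
  have e2 : H.k t * beta H t1 a b * (H.k t)⁻¹ =
      ⁅H.k t * H.l a 0 * (H.k t)⁻¹, H.k t * rho H t1 b * (H.k t)⁻¹⁆ := by
    unfold beta
    rw [conjugate_commutatorElement]
  rw [e2, rho_conj H t1]
  symm
  apply comm_eq_beta H t1 ht1 (b' := S (t : F) ^ 2 * (t : F) ^ 2 * 0)
  · exact H.σ_conj t (H.σ_l a 0)
  · exact σ_rho H t1 ht1 _

/-- the commutator of a lift of `u 0 b` with a lift of `u a b'` -/
theorem comm_eq_beta' {x y : Γ} {a b b' : F} (hx : σ x = u 0 b) (hy : σ y = u a b') :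
    ⁅x, y⁆ = beta H t1 a b := by
  rw [← commutatorElement_inv, comm_eq_beta H t1 ht1 hy hx, beta_inv H t1 ht1]

/-- the consequence of the Hall-Witt identity -/
theorem beta_cyclic (a a' a'' : F) :
    beta H t1 a'' (S a * a' + S a' * a) * beta H t1 a (S a' * a'' + S a'' * a') *
      beta H t1 a' (S a'' * a + S a * a'') = 1 := by
  have key : ∀ (x y z : Γ) (a a' a'' : F), σ x = u a 0 → σ y = u a' 0 → σ z = u a'' 0 →
      cc (cc x y⁻¹) z = beta H t1 a'' (S a * a' + S a' * a) := by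
    intro x y z a a' a'' hx hy hz
    have h1 : σ (cc x y⁻¹)⁻¹ = u 0 (S a * a' + S a' * a) := by
      rw [cc_eq, inv_inv, map_inv, map_commutatorElement, map_inv, hx, hy, u_inv H, H.comm_u,
        H.u0_inv]
    have h2 : σ z⁻¹ = u a'' (0 + S a'' * a'') := by rw [map_inv, hz, u_inv H]
    rw [cc_eq, comm_eq_beta' H t1 ht1 h1 h2]
  have hw := hall_witt (H.l a 0) (H.l a' 0) (H.l a'' 0)
  rw [key _ _ _ a a' a'' (H.σ_l a 0) (H.σ_l a' 0) (H.σ_l a'' 0),
    key _ _ _ a' a'' a (H.σ_l a' 0) (H.σ_l a'' 0) (H.σ_l a 0),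
    key _ _ _ a'' a a' (H.σ_l a'' 0) (H.σ_l a 0) (H.σ_l a' 0)] at hw
  have c1 := Subgroup.mem_center_iff.mp (beta_central H t1 ht1 a'' (S a * a' + S a' * a))
  have c2 := Subgroup.mem_center_iff.mp (beta_central H t1 ht1 a (S a' * a'' + S a'' * a'))
  have c3 := Subgroup.mem_center_iff.mp (beta_central H t1 ht1 a' (S a'' * a + S a * a''))
  rw [mul_assoc (H.l a' 0)⁻¹, ← c1, inv_mul_cancel_left, mul_assoc (H.l a'' 0)⁻¹, ← c2,
    inv_mul_cancel_left, mul_assoc (H.l a 0)⁻¹, ← c3, inv_mul_cancel_left] at hw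
  exact hw

end rho

end HypBeta

/-! ### The field with eight elements -/

namespace HypEight

variable (H : HypB S 1 u h σ)
include H

theorem card_eq : Fintype.card F = 8 := by rw [H.hF]; norm_num

theorem S_eq (z : F) : S z = z ^ 4 := by rw [H.hSdef]; norm_num

theorem pow_eight (z : F) : z ^ 8 = z := by
  have := FiniteField.pow_card z
  rwa [card_eq H] at this

theorem pow_seven {z : F} (hz : z ≠ 0) : z ^ 7 = 1 := by
  have := FiniteField.pow_card_sub_one_eq_one z hz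
  rwa [card_eq H] at this

variable (t1 : Fˣ) (ht1 : S (t1 : F) ^ 2 * (t1 : F) ^ 2 + 1 ≠ 0)
include ht1

/-- the homomorphism describing the pairing -/
noncomputable def phi (c : F) : Γ := HypBeta.beta H t1 c 1

omit ht1 in
theorem phi_def (c : F) : phi H t1 c = HypBeta.beta H t1 c 1 := rfl

theorem phi_add (c c' : F) : phi H t1 (c + c') = phi H t1 c * phi H t1 c' :=
  HypBeta.beta_add_left H t1 ht1 c c' 1

theorem phi_zero : phi H t1 0 = 1 := HypBeta.beta_zero_left H t1 ht1 1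

theorem phi_sq (c : F) : phi H t1 c * phi H t1 c = 1 := HypBeta.beta_sq H t1 ht1 c 1

theorem phi_mem_ker (c : F) : phi H t1 c ∈ σ.ker := HypBeta.beta_mem_ker H t1 ht1 c 1

/-- the pairing in terms of `phi` -/
theorem beta_eq_phi (a b : F) : HypBeta.beta H t1 a b = phi H t1 (a * b ^ 4) := by
  by_cases hb : b = 0
  · rw [hb, HypBeta.beta_zero_right H t1 ht1, zero_pow (by norm_num), mul_zero, phi_zero H t1 ht1]
  · have hb2 : b ^ 2 ≠ 0 := pow_ne_zero 2 hb
    have h1 := HypBeta.beta_invariant H t1 ht1 (Units.mk0 (b ^ 2) hb2) a b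
    rw [Units.val_mk0] at h1
    have e1 : (b ^ 2) ^ 2 * a = a * b ^ 4 := by ring
    have e2 : S (b ^ 2) ^ 2 * (b ^ 2) ^ 2 * b = 1 := by
      rw [S_eq H]
      have : ((b ^ 2) ^ 4) ^ 2 * (b ^ 2) ^ 2 * b = b ^ 8 * b ^ 8 * b ^ 5 := by ring
      rw [this, pow_eight H]
      have : b * b * b ^ 5 = b ^ 7 := by ring
      rw [this, pow_seven H hb]
    rw [e1, e2] at h1
    rw [← h1]
    rfl

/-- the Hall-Witt identity in terms of `phi` -/
theorem phi_polar (a a' a'' : F) :
    phi H t1 (a'' * (a ^ 4 * a' + a' ^ 4 * a) ^ 4 + a * (a' ^ 4 * a'' + a'' ^ 4 * a') ^ 4 +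
      a' * (a'' ^ 4 * a + a ^ 4 * a'') ^ 4) = 1 := by
  have h := HypBeta.beta_cyclic H t1 ht1 a a' a''
  rw [beta_eq_phi H t1 ht1, beta_eq_phi H t1 ht1, beta_eq_phi H t1 ht1, S_eq H, S_eq H, S_eq H,
    ← phi_add H t1 ht1, ← phi_add H t1 ht1] at h
  exact h

/-- `phi` kills `1` -/
theorem phi_one (hT : ∃ a a' a'' : F,
    a'' * (a ^ 4 * a' + a' ^ 4 * a) ^ 4 + a * (a' ^ 4 * a'' + a'' ^ 4 * a') ^ 4 +
      a' * (a'' ^ 4 * a + a ^ 4 * a'') ^ 4 = 1) : phi H t1 1 = 1 := by
  obtain ⟨a, a', a'', hT⟩ := hT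
  rw [← hT]
  exact phi_polar H t1 ht1 a a' a''

/-- `phi` as a homomorphism -/
noncomputable def phiHom : Multiplicative F →* Γ where
  toFun c := phi H t1 (Multiplicative.toAdd c)
  map_one' := phi_zero H t1 ht1
  map_mul' _ _ := phi_add H t1 ht1 _ _

theorem phiHom_apply (c : Multiplicative F) :
    phiHom H t1 ht1 c = phi H t1 (Multiplicative.toAdd c) := rfl

theorem range_le_ker : (phiHom H t1 ht1).range ≤ σ.ker := by
  rintro _ ⟨c, rfl⟩
  exact phi_mem_ker H t1 ht1 _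

/-- the image of `phi` has at most four elements -/
theorem card_range_le (h1 : phi H t1 1 = 1) : Nat.card (phiHom H t1 ht1).range ≤ 4 := by
  classical
  have hidx : (phiHom H t1 ht1).ker.index = Nat.card (phiHom H t1 ht1).range :=
    Subgroup.index_ker _
  have hmul := Subgroup.card_mul_index (phiHom H t1 ht1).ker
  have hcard : Nat.card (Multiplicative F) = 8 := by
    rw [Nat.card_eq_fintype_card, Fintype.card_multiplicative]
    exact card_eq H
  rw [hcard, hidx] at hmul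
  -- the kernel has at least two elements
  have h2 : 2 ≤ Nat.card (phiHom H t1 ht1).ker := by
    have hne : (⟨Multiplicative.ofAdd (1 : F), h1⟩ : (phiHom H t1 ht1).ker) ≠ 1 := by
      intro h
      have := congrArg Subtype.val h
      exact one_ne_zero (α := F) (Multiplicative.ofAdd.injective this)
    exact Finite.one_lt_card_iff_nontrivial.mpr ⟨⟨_, _, hne⟩⟩
  nlinarith

/-- the commutator of a lift of `u 0 b` with a lift of `u a b'` lies in the image of `phi` -/
theorem comm_mem_range {x y : Γ} {a b b' : F} (hx : σ x = u 0 b) (hy : σ y = u a b') :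
    ⁅x, y⁆ ∈ (phiHom H t1 ht1).range := by
  rw [HypBeta.comm_eq_beta' H t1 ht1 hx hy, beta_eq_phi H t1 ht1]
  exact ⟨Multiplicative.ofAdd (a * b ^ 4), rfl⟩

end HypEight

end Abstract

end Cfsg.Agent.Lib.Helper35_Sz8Beta
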