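import Cfsg.Agent.Lib.Helper35_Sz8CertBase

/-!
# The certificate for the coset table of the cover of `Sz(8)`: checks, part 4 (helper35, for S2112)
-/

set_option autoImplicit false
set_option Elab.async false

namespace Cfsg.Agent.Lib.Helper35_Sz8CertP4

open Cfsg.Agent.Lib.Helper35_Sz8CertBase Cfsg.Agent.Lib.Helper35_AllFold

theorem part16 : allAnd (fun k => chkRow (16 * 520 + k)) 520 = true := by decide +kernel

theorem part17 : allAnd (fun k => chkRow (17 * 520 + k)) 520 = true := by decide +kernel

theorem part18 : allAnd (fun k => chkRow (18 * 520 + k)) 520 = true := by decide +kernel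

theorem part19 : allAnd (fun k => chkRow (19 * 520 + k)) 520 = true := by decide +kernel

end Cfsg.Agent.Lib.Helper35_Sz8CertP4
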