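import Cfsg.Agent.Lib.Helper35_Sz8CertP0
import Cfsg.Agent.Lib.Helper35_Sz8CertP1
import Cfsg.Agent.Lib.Helper35_Sz8CertP2
import Cfsg.Agent.Lib.Helper35_Sz8CertP3
import Cfsg.Agent.Lib.Helper35_Sz8CertP4
import Cfsg.Agent.Lib.Helper35_Sz8CertP5
import Cfsg.Agent.Lib.Helper35_Sz8CertP6
import Cfsg.Agent.Lib.Helper35_Sz8CertP7

/-!
# The certificate for the coset table of the cover of `Sz(8)` (helper35, for S2112)

The presented group `⟨X, H, W | W², 12 relators⟩`, the subgroup generated by `H`, 16640 rows.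
Letters: `0 = X`, `1 = X⁻¹`, `2 = H`, `3 = H⁻¹`, `4 = W`.
-/

set_option autoImplicit false

namespace Cfsg.Agent.Lib.Helper35_Sz8Cert

open Cfsg.Agent.Lib.Helper35_Sz8Data Cfsg.Agent.Lib.Helper35_CosetCertDefs
open Cfsg.Agent.Lib.Helper35_AllFold Cfsg.Agent.Lib.Helper35_Sz8CertBase

theorem chkAll : allAnd chkRow 16640 = true := by
  have h : allAnd chkRow (32 * 520) = true := by
    apply allAnd_split
    intro i hi
    interval_cases i
    · exact Cfsg.Agent.Lib.Helper35_Sz8CertP0.part0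
    · exact Cfsg.Agent.Lib.Helper35_Sz8CertP0.part1
    · exact Cfsg.Agent.Lib.Helper35_Sz8CertP0.part2
    · exact Cfsg.Agent.Lib.Helper35_Sz8CertP0.part3
    · exact Cfsg.Agent.Lib.Helper35_Sz8CertP1.part4
    · exact Cfsg.Agent.Lib.Helper35_Sz8CertP1.part5
    · exact Cfsg.Agent.Lib.Helper35_Sz8CertP1.part6
    · exact Cfsg.Agent.Lib.Helper35_Sz8CertP1.part7
    · exact Cfsg.Agent.Lib.Helper35_Sz8CertP2.part8
    · exact Cfsg.Agent.Lib.Helper35_Sz8CertP2.part9
    · exact Cfsg.Agent.Lib.Helper35_Sz8CertP2.part10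
    · exact Cfsg.Agent.Lib.Helper35_Sz8CertP2.part11
    · exact Cfsg.Agent.Lib.Helper35_Sz8CertP3.part12
    · exact Cfsg.Agent.Lib.Helper35_Sz8CertP3.part13
    · exact Cfsg.Agent.Lib.Helper35_Sz8CertP3.part14
    · exact Cfsg.Agent.Lib.Helper35_Sz8CertP3.part15
    · exact Cfsg.Agent.Lib.Helper35_Sz8CertP4.part16
    · exact Cfsg.Agent.Lib.Helper35_Sz8CertP4.part17
    · exact Cfsg.Agent.Lib.Helper35_Sz8CertP4.part18
    · exact Cfsg.Agent.Lib.Helper35_Sz8CertP4.part19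
    · exact Cfsg.Agent.Lib.Helper35_Sz8CertP5.part20
    · exact Cfsg.Agent.Lib.Helper35_Sz8CertP5.part21
    · exact Cfsg.Agent.Lib.Helper35_Sz8CertP5.part22
    · exact Cfsg.Agent.Lib.Helper35_Sz8CertP5.part23
    · exact Cfsg.Agent.Lib.Helper35_Sz8CertP6.part24
    · exact Cfsg.Agent.Lib.Helper35_Sz8CertP6.part25
    · exact Cfsg.Agent.Lib.Helper35_Sz8CertP6.part26
    · exact Cfsg.Agent.Lib.Helper35_Sz8CertP6.part27
    · exact Cfsg.Agent.Lib.Helper35_Sz8CertP7.part28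
    · exact Cfsg.Agent.Lib.Helper35_Sz8CertP7.part29
    · exact Cfsg.Agent.Lib.Helper35_Sz8CertP7.part30
    · exact Cfsg.Agent.Lib.Helper35_Sz8CertP7.part31
  exact h

theorem chkRow_of_lt {c : ℕ} (hc : c < 16640) : chkRow c = true :=
  (allAnd_eq_true _ _).mp chkAll c hc

theorem row_facts {c : ℕ} (hc : c < 16640) : RowOK c :=
  of_decide_eq_true (chkRow_of_lt hc)

/-- the certificate is valid -/
theorem valid : Valid cert where
  hn := by decide
  hh := by decide
  hinv := by decide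
  htab := fun c hc => (row_facts hc).1
  htree := fun c hc => (row_facts hc).2.1
  hbase := fun c hc => (row_facts hc).2.2.1
  hjust := fun c hc => (row_facts hc).2.2.2.1

/-- the relators fix every row -/
theorem follow_rel {c : ℕ} (hc : c < 16640) {r : List ℕ} (hr : r ∈ rels) : follow r c = c :=
  (row_facts hc).2.2.2.2 r hr

end Cfsg.Agent.Lib.Helper35_Sz8Cert
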