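import Cfsg.Agent.Lib.Helper35_Sz8Data
import Cfsg.Agent.Lib.Helper35_CosetCertDefs
import Cfsg.Agent.Lib.Helper35_AllFold

/-!
# Definitions for the certificate for the coset table of the cover of `Sz(8)` (helper35, for S2112)

The presented group `⟨X, H, W | W², 12 relators⟩`, the subgroup generated by `H`, 16640 rows.
Letters: `0 = X`, `1 = X⁻¹`, `2 = H`, `3 = H⁻¹`, `4 = W`.
-/

set_option autoImplicit false
set_option Elab.async false

namespace Cfsg.Agent.Lib.Helper35_Sz8CertBase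

open Cfsg.Agent.Lib.Helper35_Sz8Data Cfsg.Agent.Lib.Helper35_CosetCertDefs
open Cfsg.Agent.Lib.Helper35_AllFold

/-- the row with number `c` -/
def row (c : ℕ) : ℕ :=
  Nat.land (Nat.shiftRight (leaf (c / 32)) ((c % 32) * 213)) 0x1fffffffffffffffffffffffffffffffffffffffffffffffffffff

def fT (c s : ℕ) : ℕ := Nat.land (Nat.shiftRight (row c) (15 * s)) 32767
def fLev (c s : ℕ) : ℕ := Nat.land (Nat.shiftRight (row c) (75 + 5 * s)) 31
def fJr (c s : ℕ) : ℕ := Nat.land (Nat.shiftRight (row c) (100 + 4 * s)) 15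
def fJc (c s : ℕ) : ℕ := Nat.land (Nat.shiftRight (row c) (120 + 15 * s)) 32767
def fPar (c : ℕ) : ℕ := Nat.land (Nat.shiftRight (row c) 195) 32767
def fPlet (c : ℕ) : ℕ := Nat.land (Nat.shiftRight (row c) 210) 7

/-- the inverse letter -/
def inv5 (s : ℕ) : ℕ := [1, 0, 3, 2, 4].getD s 0

/-- the twelve relators (the thirteenth, `W²`, is built into the letters) -/
def rels : List (List ℕ) :=
  [[0, 0, 0, 0], [2, 4, 2, 4], [0, 0, 4, 1, 4, 0, 4], [2, 2, 2, 2, 2, 2, 2],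
   [0, 4, 0, 4, 0, 4, 0, 4], [0, 0, 0, 4, 0, 4, 1, 1, 4], [0, 0, 2, 4, 2, 1, 4, 0, 4],
   [0, 0, 3, 4, 3, 1, 4, 0, 4], [0, 0, 4, 1, 2, 4, 2, 0, 4], [0, 0, 4, 1, 3, 4, 3, 0, 4],
   [0, 2, 0, 3, 3, 3, 0, 2, 2], [2, 2, 2, 2, 2, 2, 4, 3, 4]]

/-- the certificate -/
def cert : Cert where
  n := 16640
  k := 5
  inv := inv5
  T := fT
  lev := fLev
  jr := fJr
  jc := fJc
  par := fPar
  plet := fPlet
  rels := rels
  hlet := 2

/-- following a word in the table -/
def follow (w : List ℕ) (c : ℕ) : ℕ := w.foldl (fun d t => fT d t) c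

/-- the facts to be checked for the row `c` -/
def RowOK (c : ℕ) : Prop :=
  (∀ s : ℕ, s < 5 → fT c s < 16640 ∧ fT (fT c s) (inv5 s) = c) ∧
    (0 < c → fPar c < c ∧ fPlet c < 5 ∧ fT (fPar c) (fPlet c) = c) ∧
    (∀ s : ℕ, s < 5 → fLev c s = 0 → IsBase cert c s) ∧
    (∀ s : ℕ, s < 5 → 0 < fLev c s → Justified cert c s) ∧
    (∀ r : List ℕ, r ∈ rels → follow r c = c)

instance (c : ℕ) : Decidable (RowOK c) := by
  unfold RowOK; infer_instance

/-- all checks for the row `c` -/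
def chkRow (c : ℕ) : Bool := decide (RowOK c)

end Cfsg.Agent.Lib.Helper35_Sz8CertBase
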