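import Cfsg.Agent.Lib.Helper35_Sz8CertBase

/-!
# The certificate for the coset table of the cover of `Sz(8)`: checks, part 0 (helper35, for S2112)
-/

set_option autoImplicit false
set_option Elab.async false

namespace Cfsg.Agent.Lib.Helper35_Sz8CertP0

open Cfsg.Agent.Lib.Helper35_Sz8CertBase Cfsg.Agent.Lib.Helper35_AllFold

theorem part0 : allAnd (fun k => chkRow (0 * 520 + k)) 520 = true := by decide +kernel

theorem part1 : allAnd (fun k => chkRow (1 * 520 + k)) 520 = true := by decide +kernel

theorem part2 : allAnd (fun k => chkRow (2 * 520 + k)) 520 = true := by decide +kernel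

theorem part3 : allAnd (fun k => chkRow (3 * 520 + k)) 520 = true := by decide +kernel

end Cfsg.Agent.Lib.Helper35_Sz8CertP0
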