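import Mathlib
import Cfsg.Agent.Lib.Helper66_StemTools
import Cfsg.Agent.Lib.Helper35_SzPairing
import Cfsg.Agent.Lib.Helper35_SzMult

/-!
# Central extensions of Suzuki 2-groups with a torus action, second version (helper35)

The setting of `Helper35_SzMult` with `m ≥ 1` (so `q = 8` is allowed) and with the additional
hypothesis that the lifts of the `u 0 b` commute with the lifts of all `u a b'` (for `q ≥ 32` this
is a theorem, for `q = 8` it holds after dividing by the image of the exceptional pairing).  For a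
surjection `σ : Γ →* G` with central kernel we construct a subgroup `R` of `Γ` meeting the kernel
trivially and containing all commutators of elements lying over the `u a b`.
-/

set_option autoImplicit false

namespace Cfsg.Agent.Lib.Helper35_Sz8Gen

open scoped commutatorElement IsMulCommutative
open Cfsg.Agent.Lib.Helper66_StemTools Cfsg.Agent.Lib.Helper35_SzPairing
open Cfsg.Agent.Lib.Helper35_SzMult (comm_mul_left' comm_mul_right' comm_eq_one_of_commute)



section Abstract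

variable {F : Type*} [Field F] [Fintype F] {S : F →+* F} {m : ℕ}
  {G Γ : Type*} [Group G] [Group Γ] (u : F → F → G) (h : Fˣ → G) (σ : Γ →* G)

/-- the hypotheses of the abstract setting -/
structure Hyp8 (S : F →+* F) (m : ℕ) (u : F → F → G) (h : Fˣ → G) (σ : Γ →* G) : Prop where
  hm : 1 ≤ m
  hF : Fintype.card F = 2 ^ (2 * m + 1)
  h2 : (2 : F) = 0
  hS : ∀ z, S (S z) = z ^ 2
  hSdef : ∀ z, S z = z ^ 2 ^ (m + 1)
  hu : ∀ a b a' b', u a b * u a' b' = u (a + a') (b + b' + S a * a')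
  hinj : ∀ b, u 0 b = 1 → b = 0
  hh : ∀ (t : Fˣ) a b,
    h t * u a b * (h t)⁻¹ = u ((t : F) ^ 2 * a) (S (t : F) ^ 2 * (t : F) ^ 2 * b)
  hhc : ∀ t t', h t * h t' = h t' * h t
  hs : Function.Surjective σ
  hc : σ.ker ≤ Subgroup.center Γ
  hcomm0 : ∀ (x y : Γ) (a b b' : F), σ x = u 0 b → σ y = u a b' → x * y = y * x

namespace Hyp8

variable {u h σ} (H : Hyp8 S m u h σ)
include H

theorem add_self (x : F) : x + x = 0 := by linear_combination x * H.h2

theorem card_big : 8 ≤ Fintype.card F := by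
  rw [H.hF]
  calc 8 = 2 ^ 3 := by norm_num
    _ ≤ 2 ^ (2 * m + 1) := Nat.pow_le_pow_right (by norm_num) (by have := H.hm; omega)

theorem not_prime : ¬ (Fintype.card F).Prime := by
  rw [H.hF, pow_succ]
  apply Nat.not_prime_mul
  · have h1 : 1 < 2 ^ (2 * m) := Nat.one_lt_two_pow (by have := H.hm; omega)
    omega
  · norm_num

theorem card_ne_four : Fintype.card F ≠ 4 := by have := H.card_big; omega

theorem card_ne_nine : Fintype.card F ≠ 9 := by rw [H.hF, pow_succ]; omega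

theorem u_zero : u 0 0 = 1 := by
  have h1 := H.hu 0 0 0 0
  simp only [add_zero, map_zero, zero_mul] at h1
  exact mul_left_cancel (h1.trans (mul_one _).symm)

theorem u0_mul (b b' : F) : u 0 b * u 0 b' = u 0 (b + b') := by
  rw [H.hu, add_zero, map_zero, zero_mul, add_zero]

theorem u_split (a b : F) : u a b = u a 0 * u 0 b := by
  rw [H.hu, add_zero, zero_add, mul_zero, add_zero]

theorem u0_comm (a b b' : F) : u 0 b * u a b' = u a b' * u 0 b := by
  rw [H.hu, H.hu]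
  congr 1
  · ring
  · simp only [map_zero, zero_mul, mul_zero, add_zero]
    ring

theorem u0_sq (b : F) : u 0 b * u 0 b = 1 := by
  rw [H.u0_mul, H.add_self, H.u_zero]

theorem u0_inv (b : F) : (u 0 b)⁻¹ = u 0 b := by
  rw [inv_eq_iff_mul_eq_one, H.u0_sq]

theorem ua0_add (a a' : F) : u (a + a') 0 = u a 0 * (u a' 0 * u 0 (S a * a')) := by
  rw [← mul_assoc, H.hu a 0 a' 0, H.hu]
  congr 1
  · ring
  · simp only [mul_zero, add_zero, zero_add]
    rw [H.add_self]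

/-- the commutator of two of the `u a 0` -/
theorem comm_ua0 (a a' : F) : ⁅u a 0, u a' 0⁆ = u 0 (S a * a' + S a' * a) := by
  have e1 : u a 0 * u a' 0 = u (a + a') (S a * a') := by
    rw [H.hu]
    congr 1
    ring
  have e2 : u 0 (S a * a' + S a' * a) * (u a' 0 * u a 0) = u (a + a') (S a * a') := by
    rw [H.hu, H.hu]
    congr 1
    · ring
    · simp only [add_zero, zero_add, map_zero, zero_mul]
      linear_combination (S a' * a) * H.h2
  rw [commutatorElement_def, mul_inv_eq_iff_eq_mul, mul_inv_eq_iff_eq_mul, mul_assoc, e1, e2]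

/-- every nonzero element is `S t * t` for a unit `t` -/
theorem exists_unit (a : F) (ha : a ≠ 0) : ∃ t : Fˣ, S (t : F) * (t : F) = a := by
  have hSa : S a ≠ 0 := by simpa using ha
  refine ⟨Units.mk0 (S a * a⁻¹) (mul_ne_zero hSa (inv_ne_zero ha)), ?_⟩
  rw [Units.val_mk0, map_mul, map_inv₀, H.hS]
  field_simp

/-- every nonzero element is the square of a unit -/
theorem exists_sqrt (d : F) (hd : d ≠ 0) : ∃ t : Fˣ, (t : F) ^ 2 = d := by
  have hinj : Function.Injective S := S.injective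
  have hsurj : Function.Surjective S := Finite.injective_iff_surjective.mp hinj
  obtain ⟨y, hy⟩ := hsurj d
  obtain ⟨t, ht⟩ := hsurj y
  have h1 : t ^ 2 = d := by rw [← H.hS, ht, hy]
  have ht0 : t ≠ 0 := by
    rintro rfl
    rw [zero_pow (by norm_num)] at h1
    exact hd h1.symm
  exact ⟨Units.mk0 t ht0, h1⟩

/-- chosen lifts of the `u a b` -/
noncomputable def l (a b : F) : Γ := Function.surjInv H.hs (u a b)

/-- chosen lifts of the `h t` -/
noncomputable def k (t : Fˣ) : Γ := Function.surjInv H.hs (h t)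

theorem σ_l (a b : F) : σ (H.l a b) = u a b := Function.surjInv_eq H.hs (u a b)

theorem σ_k (t : Fˣ) : σ (H.k t) = h t := Function.surjInv_eq H.hs (h t)

theorem comm_congr {x x' y y' : Γ} (hx : σ x = σ x') (hy : σ y = σ y') : ⁅x, y⁆ = ⁅x', y'⁆ :=
  commutatorElement_congr_of_central σ H.hc hx hy

theorem σ_conj (t : Fˣ) {x : Γ} {a b : F} (hx : σ x = u a b) :
    σ (H.k t * x * (H.k t)⁻¹) = u ((t : F) ^ 2 * a) (S (t : F) ^ 2 * (t : F) ^ 2 * b) := by
  rw [map_mul, map_mul, map_inv, H.σ_k, hx, H.hh]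

theorem conj_central (g : Γ) {z : Γ} (hz : z ∈ σ.ker) : g * z * g⁻¹ = z := by
  have := Subgroup.mem_center_iff.mp (H.hc hz) g
  rw [this, mul_inv_cancel_right]

/-- lifts of the `u 0 b` commute -/
theorem comm00 {x y : Γ} {b b' : F} (hx : σ x = u 0 b) (hy : σ y = u 0 b') : x * y = y * x :=
  H.hcomm0 x y 0 b b' hx hy

theorem S_mul_self (d : F) : S d * d = d ^ (2 ^ (m + 1) + 1) := by
  rw [H.hSdef]
  exact (pow_succ d _).symm

/-- lifts of the `u 0 b` commute with lifts of all `u a b'` -/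
theorem comm0 {x y : Γ} {a b b' : F} (hx : σ x = u 0 b) (hy : σ y = u a b') :
    x * y = y * x :=
  H.hcomm0 x y a b b' hx hy

/-- the commutator of two of the `u a b` -/
theorem comm_u (a b a' b' : F) : ⁅u a b, u a' b'⁆ = u 0 (S a * a' + S a' * a) := by
  have e2 : u 0 (S a * a' + S a' * a) * (u a' b' * u a b) = u a b * u a' b' := by
    rw [H.hu, H.hu, H.hu]
    congr 1
    · ring
    · simp only [map_zero, zero_mul, add_zero]
      linear_combination (S a' * a) * H.h2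
  rw [commutatorElement_def, mul_inv_eq_iff_eq_mul, mul_inv_eq_iff_eq_mul, mul_assoc, e2]

theorem exists_t1 : ∃ t : Fˣ, S (t : F) ^ 2 * (t : F) ^ 2 + 1 ≠ 0 := by
  have h3 : 2 < Fintype.card F := by have := H.card_big; omega
  obtain ⟨a, b, c, hab, hac, hbc⟩ := Fintype.two_lt_card_iff.mp h3
  have : ∃ a1 : F, a1 ≠ 0 ∧ a1 ≠ 1 := by
    by_cases ha0 : a = 0
    · by_cases hb1 : b = 1
      · exact ⟨c, by rw [← ha0]; exact hac.symm, by rw [← hb1]; exact hbc.symm⟩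
      · exact ⟨b, by rw [← ha0]; exact hab.symm, hb1⟩
    · by_cases ha1 : a = 1
      · by_cases hb0 : b = 0
        · exact ⟨c, by rw [← hb0]; exact hbc.symm, by rw [← ha1]; exact hac.symm⟩
        · exact ⟨b, hb0, by rw [← ha1]; exact hab.symm⟩
      · exact ⟨a, ha0, ha1⟩
  obtain ⟨a1, h0, h1⟩ := this
  obtain ⟨t, ht⟩ := H.exists_unit a1 h0
  refine ⟨t, ?_⟩
  have e : S (t : F) ^ 2 * (t : F) ^ 2 + 1 = (a1 + 1) ^ 2 := by
    rw [← ht]
    linear_combination (-(S (t : F) * (t : F))) * H.h2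
  rw [e]
  exact pow_ne_zero 2 (fun h => h1 (by linear_combination h - H.h2))

/-- the splitting map: a lift of `u 0 b` which is a commutator with a torus element -/
noncomputable def rho (t1 : Fˣ) (b : F) : Γ :=
  ⁅H.k t1, H.l 0 ((S (t1 : F) ^ 2 * (t1 : F) ^ 2 + 1)⁻¹ * b)⁆

section rho

variable (t1 : Fˣ) (ht1 : S (t1 : F) ^ 2 * (t1 : F) ^ 2 + 1 ≠ 0)
include ht1

theorem σ_rho (b : F) : σ (H.rho t1 b) = u 0 b := by
  unfold rho
  rw [map_commutatorElement, H.σ_k, H.σ_l, commutatorElement_def, H.hh, H.u0_inv, mul_zero,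
    H.u0_mul]
  congr 1
  field_simp

theorem rho_comm (b : F) {y : Γ} {a b' : F} (hy : σ y = u a b') :
    H.rho t1 b * y = y * H.rho t1 b :=
  H.comm0 (H.σ_rho t1 ht1 b) hy

theorem rho_add (b b' : F) : H.rho t1 (b + b') = H.rho t1 b * H.rho t1 b' := by
  have e1 : H.rho t1 (b + b') =
      ⁅H.k t1, H.l 0 ((S (t1 : F) ^ 2 * (t1 : F) ^ 2 + 1)⁻¹ * b) *
        H.l 0 ((S (t1 : F) ^ 2 * (t1 : F) ^ 2 + 1)⁻¹ * b')⁆ := by
    unfold rho
    apply H.comm_congr rfl
    rw [H.σ_l, map_mul, H.σ_l, H.σ_l, H.u0_mul, mul_add]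
  rw [e1, comm_mul_right' _ _ _ (H.rho_comm t1 ht1 b' (H.σ_l 0 _)).symm]
  rfl

theorem rho_zero : H.rho t1 0 = 1 := by
  have h := H.rho_add t1 ht1 0 0
  rw [add_zero] at h
  exact mul_left_cancel (a := H.rho t1 0) (by rw [mul_one]; exact h.symm)

theorem rho_sq (b : F) : H.rho t1 b * H.rho t1 b = 1 := by
  rw [← H.rho_add t1 ht1, H.add_self, H.rho_zero t1 ht1]

theorem rho_inv (b : F) : (H.rho t1 b)⁻¹ = H.rho t1 b := by
  rw [inv_eq_iff_mul_eq_one, H.rho_sq t1 ht1]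

omit ht1 in
theorem rho_conj (b : F) (t : Fˣ) :
    H.k t * H.rho t1 b * (H.k t)⁻¹ = H.rho t1 (S (t : F) ^ 2 * (t : F) ^ 2 * b) := by
  unfold rho
  rw [conjugate_commutatorElement]
  apply H.comm_congr
  · rw [map_mul, map_mul, map_inv, H.σ_k, H.σ_k, H.hhc, mul_inv_cancel_right]
  · rw [H.σ_conj t (H.σ_l 0 _), H.σ_l, mul_zero]
    congr 1
    ring

omit ht1 in
/-- commutators of lifts of elements of `Q` commute with lifts of elements of `Q` -/
theorem comm_comm {x y w : Γ} {a b a' b' a'' b'' : F} (hx : σ x = u a b) (hy : σ y = u a' b')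
    (hw : σ w = u a'' b'') : ⁅x, y⁆ * w = w * ⁅x, y⁆ :=
  H.comm0 (x := ⁅x, y⁆) (by rw [map_commutatorElement, hx, hy, H.comm_u]) hw

omit ht1 in
theorem σ_comm {x y : Γ} {a b a' b' : F} (hx : σ x = u a b) (hy : σ y = u a' b') :
    σ ⁅x, y⁆ = u 0 (S a * a' + S a' * a) := by
  rw [map_commutatorElement, hx, hy, H.comm_u]

omit ht1 in
theorem comm_mul_left_Q {x y w : Γ} {a b a' b' a'' b'' : F} (hx : σ x = u a b)
    (hy : σ y = u a' b') (hw : σ w = u a'' b'') : ⁅x * y, w⁆ = ⁅x, w⁆ * ⁅y, w⁆ :=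
  comm_mul_left' x y w (H.comm_comm hy hw hx).symm (H.comm_comm hy hw (H.σ_comm hx hw))

omit ht1 in
theorem comm_mul_right_Q {w x y : Γ} {a b a' b' a'' b'' : F} (hw : σ w = u a'' b'')
    (hx : σ x = u a b) (hy : σ y = u a' b') : ⁅w, x * y⁆ = ⁅w, x⁆ * ⁅w, y⁆ :=
  comm_mul_right' w x y (H.comm_comm hw hy hx).symm

/-- the correction of the commutator pairing on `Q / Z(Q)` -/
noncomputable def zeta (a a' : F) : Γ :=
  ⁅H.l a 0, H.l a' 0⁆ * H.rho t1 (S a * a' + S a' * a)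

theorem zeta_mem_ker (a a' : F) : H.zeta t1 a a' ∈ σ.ker := by
  unfold zeta
  rw [MonoidHom.mem_ker, map_mul, H.σ_comm (H.σ_l a 0) (H.σ_l a' 0), H.σ_rho t1 ht1, H.u0_sq]

theorem zeta_add_left (a a'' a' : F) :
    H.zeta t1 (a + a'') a' = H.zeta t1 a a' * H.zeta t1 a'' a' := by
  have e1 : ⁅H.l (a + a'') 0, H.l a' 0⁆ = ⁅H.l a 0, H.l a' 0⁆ * ⁅H.l a'' 0, H.l a' 0⁆ := by
    have e2 : ⁅H.l (a + a'') 0, H.l a' 0⁆ =
        ⁅H.l a 0 * (H.l a'' 0 * H.l 0 (S a * a'')), H.l a' 0⁆ := by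
      apply H.comm_congr _ rfl
      rw [H.σ_l, map_mul, map_mul, H.σ_l, H.σ_l, H.σ_l, H.ua0_add]
    have e3 : σ (H.l a'' 0 * H.l 0 (S a * a'')) = u a'' (S a * a'') := by
      rw [map_mul, H.σ_l, H.σ_l, ← H.u_split]
    have e4 : ⁅H.l 0 (S a * a''), H.l a' 0⁆ = 1 :=
      comm_eq_one_of_commute (H.comm0 (H.σ_l 0 _) (H.σ_l a' 0))
    rw [e2, H.comm_mul_left_Q (H.σ_l a 0) e3 (H.σ_l a' 0),
      H.comm_mul_left_Q (H.σ_l a'' 0) (H.σ_l 0 _) (H.σ_l a' 0), e4, mul_one]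
  have e5 : S (a + a'') * a' + S a' * (a + a'') =
      (S a * a' + S a' * a) + (S a'' * a' + S a' * a'') := by
    rw [map_add]; ring
  have e6 := H.rho_comm t1 ht1 (S a * a' + S a' * a)
    (H.σ_comm (H.σ_l a'' 0) (H.σ_l a' 0))
  unfold zeta
  rw [e1, e5, H.rho_add t1 ht1]
  calc ⁅H.l a 0, H.l a' 0⁆ * ⁅H.l a'' 0, H.l a' 0⁆ *
        (H.rho t1 (S a * a' + S a' * a) * H.rho t1 (S a'' * a' + S a' * a''))
      = ⁅H.l a 0, H.l a' 0⁆ * (⁅H.l a'' 0, H.l a' 0⁆ * H.rho t1 (S a * a' + S a' * a)) *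
          H.rho t1 (S a'' * a' + S a' * a'') := by group
    _ = ⁅H.l a 0, H.l a' 0⁆ * (H.rho t1 (S a * a' + S a' * a) * ⁅H.l a'' 0, H.l a' 0⁆) *
          H.rho t1 (S a'' * a' + S a' * a'') := by rw [e6]
    _ = _ := by group

theorem zeta_add_right (a a' a'' : F) :
    H.zeta t1 a (a' + a'') = H.zeta t1 a a' * H.zeta t1 a a'' := by
  have e1 : ⁅H.l a 0, H.l (a' + a'') 0⁆ = ⁅H.l a 0, H.l a' 0⁆ * ⁅H.l a 0, H.l a'' 0⁆ := by
    have e2 : ⁅H.l a 0, H.l (a' + a'') 0⁆ =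
        ⁅H.l a 0, H.l a' 0 * (H.l a'' 0 * H.l 0 (S a' * a''))⁆ := by
      apply H.comm_congr rfl
      rw [H.σ_l, map_mul, map_mul, H.σ_l, H.σ_l, H.σ_l, H.ua0_add]
    have e3 : σ (H.l a'' 0 * H.l 0 (S a' * a'')) = u a'' (S a' * a'') := by
      rw [map_mul, H.σ_l, H.σ_l, ← H.u_split]
    have e4 : ⁅H.l a 0, H.l 0 (S a' * a'')⁆ = 1 :=
      comm_eq_one_of_commute (H.comm0 (H.σ_l 0 _) (H.σ_l a 0)).symm
    rw [e2, H.comm_mul_right_Q (H.σ_l a 0) (H.σ_l a' 0) e3,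
      H.comm_mul_right_Q (H.σ_l a 0) (H.σ_l a'' 0) (H.σ_l 0 _), e4, mul_one]
  have e5 : S a * (a' + a'') + S (a' + a'') * a =
      (S a * a' + S a' * a) + (S a * a'' + S a'' * a) := by
    rw [map_add]; ring
  have e6 := H.rho_comm t1 ht1 (S a * a' + S a' * a)
    (H.σ_comm (H.σ_l a 0) (H.σ_l a'' 0))
  unfold zeta
  rw [e1, e5, H.rho_add t1 ht1]
  calc ⁅H.l a 0, H.l a' 0⁆ * ⁅H.l a 0, H.l a'' 0⁆ *
        (H.rho t1 (S a * a' + S a' * a) * H.rho t1 (S a * a'' + S a'' * a))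
      = ⁅H.l a 0, H.l a' 0⁆ * (⁅H.l a 0, H.l a'' 0⁆ * H.rho t1 (S a * a' + S a' * a)) *
          H.rho t1 (S a * a'' + S a'' * a) := by group
    _ = ⁅H.l a 0, H.l a' 0⁆ * (H.rho t1 (S a * a' + S a' * a) * ⁅H.l a 0, H.l a'' 0⁆) *
          H.rho t1 (S a * a'' + S a'' * a) := by rw [e6]
    _ = _ := by group

theorem zeta_invariant (s : F) (hs : s ≠ 0) (a a' : F) :
    H.zeta t1 (s * s * a) (s * s * a') = H.zeta t1 a a' := by
  set t : Fˣ := Units.mk0 s hs with ht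
  have hts : (t : F) = s := rfl
  have e1 : H.k t * H.zeta t1 a a' * (H.k t)⁻¹ = H.zeta t1 a a' :=
    H.conj_central _ (H.zeta_mem_ker t1 ht1 a a')
  rw [← e1]
  unfold zeta
  have e2 : H.k t * (⁅H.l a 0, H.l a' 0⁆ * H.rho t1 (S a * a' + S a' * a)) * (H.k t)⁻¹ =
      (H.k t * ⁅H.l a 0, H.l a' 0⁆ * (H.k t)⁻¹) *
        (H.k t * H.rho t1 (S a * a' + S a' * a) * (H.k t)⁻¹) := by group
  rw [e2, H.rho_conj, conjugate_commutatorElement]
  congr 1
  · apply H.comm_congr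
    · rw [H.σ_l, H.σ_conj t (H.σ_l a 0), mul_zero, hts, sq]
    · rw [H.σ_l, H.σ_conj t (H.σ_l a' 0), mul_zero, hts, sq]
  · congr 1
    rw [hts, map_mul, map_mul, map_mul, map_mul]
    ring

theorem zeta_eq_one (a a' : F) : H.zeta t1 a a' = 1 := by
  classical
  let c : F → F → Additive (Subgroup.center Γ) := fun a a' =>
    Additive.ofMul ⟨H.zeta t1 a a', H.hc (H.zeta_mem_ker t1 ht1 a a')⟩
  have hc0 : ∀ x y, c x y = 0 := by
    apply pairing_eq_zero_of_card H.not_prime H.card_ne_four H.card_ne_nine c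
    · intro x x' y
      show Additive.ofMul _ = Additive.ofMul _ + Additive.ofMul _
      rw [← ofMul_mul]
      congr 1
      apply Subtype.ext
      exact H.zeta_add_left t1 ht1 x x' y
    · intro x y y'
      show Additive.ofMul _ = Additive.ofMul _ + Additive.ofMul _
      rw [← ofMul_mul]
      congr 1
      apply Subtype.ext
      exact H.zeta_add_right t1 ht1 x y y'
    · intro s hs x y
      show Additive.ofMul _ = Additive.ofMul _
      congr 1
      apply Subtype.ext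
      exact H.zeta_invariant t1 ht1 s hs x y
  have h3 := congrArg Additive.toMul (hc0 a a')
  exact congrArg Subtype.val h3

/-- all commutators of lifts of elements of `Q` are values of `rho` -/
theorem comm_eq_rho {x y : Γ} {a b a' b' : F} (hx : σ x = u a b) (hy : σ y = u a' b') :
    ⁅x, y⁆ = H.rho t1 (S a * a' + S a' * a) := by
  have e1 : ⁅x, y⁆ = ⁅H.l a 0 * H.l 0 b, H.l a' 0 * H.l 0 b'⁆ := by
    apply H.comm_congr
    · rw [hx, map_mul, H.σ_l, H.σ_l, ← H.u_split]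
    · rw [hy, map_mul, H.σ_l, H.σ_l, ← H.u_split]
  have e3 : σ (H.l a' 0 * H.l 0 b') = u a' b' := by
    rw [map_mul, H.σ_l, H.σ_l, ← H.u_split]
  have e4 : ⁅H.l 0 b, H.l a' 0 * H.l 0 b'⁆ = 1 :=
    comm_eq_one_of_commute (H.comm0 (H.σ_l 0 _) e3)
  have e5 : ⁅H.l a 0, H.l 0 b'⁆ = 1 :=
    comm_eq_one_of_commute (H.comm0 (H.σ_l 0 _) (H.σ_l a 0)).symm
  rw [e1, H.comm_mul_left_Q (H.σ_l a 0) (H.σ_l 0 b) e3, e4, mul_one,
    H.comm_mul_right_Q (H.σ_l a 0) (H.σ_l a' 0) (H.σ_l 0 b'), e5, mul_one]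
  have h := H.zeta_eq_one t1 ht1 a a'
  unfold zeta at h
  rw [mul_eq_one_iff_eq_inv, H.rho_inv t1 ht1] at h
  exact h

end rho

/-- **Main abstract statement**: a subgroup meeting the kernel trivially and containing all
commutators of lifts of elements of `Q`. -/
theorem exists_R : ∃ R : Subgroup Γ, R ⊓ σ.ker = ⊥ ∧
    ∀ (x y : Γ) (a b a' b' : F), σ x = u a b → σ y = u a' b' → ⁅x, y⁆ ∈ R := by
  obtain ⟨t1, ht1⟩ := H.exists_t1
  let R : Subgroup Γ :=
    { carrier := Set.range (H.rho t1)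
      mul_mem' := by
        rintro _ _ ⟨b, rfl⟩ ⟨b', rfl⟩
        exact ⟨b + b', H.rho_add t1 ht1 b b'⟩
      one_mem' := ⟨0, H.rho_zero t1 ht1⟩
      inv_mem' := by
        rintro _ ⟨b, rfl⟩
        exact ⟨b, (H.rho_inv t1 ht1 b).symm⟩ }
  refine ⟨R, ?_, ?_⟩
  · rw [eq_bot_iff]
    rintro w ⟨⟨b, rfl⟩, hw⟩
    rw [Subgroup.mem_bot]
    have h1 : σ (H.rho t1 b) = 1 := hw
    rw [H.σ_rho t1 ht1] at h1
    rw [H.hinj b h1, H.rho_zero t1 ht1]
  · intro x y a b a' b' hx hy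
    exact ⟨S a * a' + S a' * a, (H.comm_eq_rho t1 ht1 hx hy).symm⟩

end Hyp8

end Abstract

end Cfsg.Agent.Lib.Helper35_Sz8Gen
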