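import Mathlib
import Cfsg.Agent.Lib.Helper35_Sz8CertBase

/-!
# The presented cover of `Sz(8)` (helper35, for S2112)

The group `Cover = ⟨X, H, W | W², twelve relators⟩`; its relators are the words of
`Helper35_Sz8CertBase.rels` in the letters `0 = X`, `1 = X⁻¹`, `2 = H`, `3 = H⁻¹`, `4 = W`.
-/

set_option autoImplicit false

namespace Cfsg.Agent.Lib.Helper35_Sz8Pres

open Cfsg.Agent.Lib.Helper35_CosetCertDefs Cfsg.Agent.Lib.Helper35_Sz8CertBase

/-- five letters -/
def letters5 {M : Type*} [One M] (a b c d e : M) : ℕ → M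
  | 0 => a
  | 1 => b
  | 2 => c
  | 3 => d
  | 4 => e
  | _ => 1

/-- the letters `X, X⁻¹, H, H⁻¹, W` -/
def letters {G : Type*} [Group G] (x h w : G) : ℕ → G := letters5 x x⁻¹ h h⁻¹ w

/-- the product of a word in a monoid -/
def mprod {M : Type*} [Monoid M] (S : ℕ → M) : List ℕ → M
  | [] => 1
  | c :: w => S c * mprod S w

theorem wprod_eq_mprod {G : Type*} [Group G] (S : ℕ → G) (r : List ℕ) :
    wprod S r = mprod S r := by
  induction r with
  | nil => rfl
  | cons c w ih => simp only [wprod, mprod, ih]

theorem map_mprod {M N : Type*} [Monoid M] [Monoid N] (f : M →* N) (S : ℕ → M) (r : List ℕ) :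
    f (mprod S r) = mprod (fun s => f (S s)) r := by
  induction r with
  | nil => simp only [mprod, map_one]
  | cons c w ih => simp only [mprod, map_mul, ih]

theorem map_wprod {G G' : Type*} [Group G] [Group G'] (f : G →* G') (S : ℕ → G) (r : List ℕ) :
    f (wprod S r) = wprod (fun s => f (S s)) r := by
  rw [wprod_eq_mprod, wprod_eq_mprod, map_mprod]

theorem map_letters5 {M N : Type*} [Monoid M] [Monoid N] (f : M →* N) (a b c d e : M) (s : ℕ) :
    f (letters5 a b c d e s) = letters5 (f a) (f b) (f c) (f d) (f e) s := by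
  rcases s with _ | _ | _ | _ | _ | s <;> simp [letters5]

theorem map_letters {G G' : Type*} [Group G] [Group G'] (f : G →* G') (x h w : G) (s : ℕ) :
    f (letters x h w s) = letters (f x) (f h) (f w) s := by
  unfold letters
  rw [map_letters5, map_inv, map_inv]

theorem map_wprod_letters {G G' : Type*} [Group G] [Group G'] (f : G →* G') (x h w : G)
    (r : List ℕ) : f (wprod (letters x h w) r) = wprod (letters (f x) (f h) (f w)) r := by
  rw [map_wprod]
  congr 1
  funext s
  exact map_letters f x h w s

/-- the free generators -/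
def FX : FreeGroup (Fin 3) := FreeGroup.of 0

/-- the free generators -/
def FH : FreeGroup (Fin 3) := FreeGroup.of 1

/-- the free generators -/
def FW : FreeGroup (Fin 3) := FreeGroup.of 2

/-- the relators -/
def relSet : Set (FreeGroup (Fin 3)) :=
  {g | g = FW * FW ∨ ∃ r ∈ rels, g = wprod (letters FX FH FW) r}

/-- the presented group -/
abbrev Cover : Type := PresentedGroup relSet

/-- the generators -/
def gX : Cover := PresentedGroup.of 0

/-- the generators -/
def gH : Cover := PresentedGroup.of 1

/-- the generators -/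
def gW : Cover := PresentedGroup.of 2

theorem mk_FX : PresentedGroup.mk relSet FX = gX := rfl

theorem mk_FH : PresentedGroup.mk relSet FH = gH := rfl

theorem mk_FW : PresentedGroup.mk relSet FW = gW := rfl

theorem gW_mul_gW : gW * gW = 1 := by
  have h : PresentedGroup.mk relSet (FW * FW) = 1 :=
    (PresentedGroup.mk_eq_one_iff).mpr (Subgroup.subset_normalClosure (Or.inl rfl))
  rw [map_mul, mk_FW] at h
  exact h

theorem rel_cover {r : List ℕ} (hr : r ∈ rels) : wprod (letters gX gH gW) r = 1 := by
  have h : PresentedGroup.mk relSet (wprod (letters FX FH FW) r) = 1 :=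
    (PresentedGroup.mk_eq_one_iff).mpr (Subgroup.subset_normalClosure (Or.inr ⟨r, hr, rfl⟩))
  rw [map_wprod_letters, mk_FX, mk_FH, mk_FW] at h
  exact h

theorem closure_gens : Subgroup.closure ({gX, gH, gW} : Set Cover) = ⊤ := by
  rw [eq_top_iff, ← PresentedGroup.closure_range_of relSet]
  apply Subgroup.closure_mono
  rintro _ ⟨i, rfl⟩
  fin_cases i
  · exact Or.inl rfl
  · exact Or.inr (Or.inl rfl)
  · exact Or.inr (Or.inr rfl)

/-- the universal property -/
theorem exists_hom {G : Type*} [Group G] (x h w : G) (hw : w * w = 1)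
    (hr : ∀ r ∈ rels, wprod (letters x h w) r = 1) :
    ∃ φ : Cover →* G, φ gX = x ∧ φ gH = h ∧ φ gW = w := by
  let f : Fin 3 → G := ![x, h, w]
  have e1 : FreeGroup.lift f FX = x := by simp [FX, f]
  have e2 : FreeGroup.lift f FH = h := by simp [FH, f]
  have e3 : FreeGroup.lift f FW = w := by simp [FW, f]
  have hf : ∀ g ∈ relSet, FreeGroup.lift f g = 1 := by
    rintro g (rfl | ⟨r, hr', rfl⟩)
    · rw [map_mul, e3, hw]
    · rw [map_wprod_letters, e1, e2, e3]
      exact hr r hr'
  refine ⟨PresentedGroup.toGroup hf, ?_, ?_, ?_⟩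
  · rw [gX, PresentedGroup.toGroup.of]; rfl
  · rw [gH, PresentedGroup.toGroup.of]; rfl
  · rw [gW, PresentedGroup.toGroup.of]; rfl

end Cfsg.Agent.Lib.Helper35_Sz8Pres
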