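import Mathlib

/-!
# Helper61_F8

A computable model `F8 = (ℤ/2)[x]/(x³ + x + 1)` of the field with eight elements (as a type synonym
of `ZMod 2 × ZMod 2 × ZMod 2`), with `Field`, `Fintype`, `DecidableEq` instances, and a ring
isomorphism from any field with eight elements.
-/

set_option autoImplicit false

namespace Cfsg.Agent.Lib.Helper61_F8

/-- The field with eight elements `(ℤ/2)[x]/(x³ + x + 1)`. -/
def F8 : Type := ZMod 2 × ZMod 2 × ZMod 2

namespace F8

instance : DecidableEq F8 := inferInstanceAs (DecidableEq (ZMod 2 × ZMod 2 × ZMod 2))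
instance : Fintype F8 := inferInstanceAs (Fintype (ZMod 2 × ZMod 2 × ZMod 2))

/-- `a + b x + c x²`. -/
def mk (a b c : ZMod 2) : F8 := (a, b, c)

def c0 (x : F8) : ZMod 2 := x.1
def c1 (x : F8) : ZMod 2 := x.2.1
def c2 (x : F8) : ZMod 2 := x.2.2

instance : Zero F8 := ⟨mk 0 0 0⟩
instance : One F8 := ⟨mk 1 0 0⟩
instance : Add F8 := ⟨fun x y => mk (x.c0 + y.c0) (x.c1 + y.c1) (x.c2 + y.c2)⟩
instance : Neg F8 := ⟨fun x => x⟩
instance : Mul F8 := ⟨fun x y => mk
  (x.c0 * y.c0 + (x.c1 * y.c2 + x.c2 * y.c1))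
  (x.c0 * y.c1 + x.c1 * y.c0 + (x.c1 * y.c2 + x.c2 * y.c1) + x.c2 * y.c2)
  (x.c0 * y.c2 + x.c1 * y.c1 + x.c2 * y.c0 + x.c2 * y.c2)⟩
instance : Inv F8 := ⟨fun x => (x * x) * (x * x) * (x * x)⟩

instance : CommRing F8 where
  add_assoc := by decide
  zero_add := by decide
  add_zero := by decide
  nsmul := nsmulRec
  zsmul := zsmulRec
  neg_add_cancel := by decide
  add_comm := by decide
  left_distrib := by decide
  right_distrib := by decide
  zero_mul := by decide
  mul_zero := by decide
  mul_assoc := by decide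
  one_mul := by decide
  mul_one := by decide
  mul_comm := by decide

instance : Field F8 where
  exists_pair_ne := ⟨0, 1, by decide⟩
  mul_inv_cancel := by decide
  inv_zero := by decide
  nnqsmul := _
  nnqsmul_def := fun _ _ => rfl
  qsmul := _
  qsmul_def := fun _ _ => rfl

theorem card : Fintype.card F8 = 8 := by decide

end F8

/-- Any field with eight elements is isomorphic to `F8`. -/
noncomputable def ringEquivF8 {F : Type*} [Field F] [Fintype F] (hF : Fintype.card F = 8) :
    F ≃+* F8 :=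
  FiniteField.ringEquivOfCardEq (hF.trans F8.card.symm)

end Cfsg.Agent.Lib.Helper61_F8
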