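import Mathlib
import Cfsg.Agent.Lib.Helper61_F8
import Cfsg.Agent.Lib.Helper35_Sz8Pres

/-!
# The relators of the presented cover hold for explicit matrices over `F8` (helper35, for S2112)

Generated.  The letters `X, X⁻¹, H, H⁻¹, W` go to `u(1,1)`, `u(1,0)`, `h(λ⁻¹)`, `h(λ)`, `w`.
-/

set_option autoImplicit false

namespace Cfsg.Agent.Lib.Helper35_Sz8Rel

open Cfsg.Agent.Lib.Helper61_F8 Cfsg.Agent.Lib.Helper35_Sz8Pres
open Cfsg.Agent.Lib.Helper35_Sz8CertBase

/-- the elements of the field -/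
abbrev e0 : F8 := F8.mk 0 0 0
/-- the elements of the field -/
abbrev e1 : F8 := F8.mk 1 0 0
/-- the elements of the field -/
abbrev e2 : F8 := F8.mk 0 1 0
/-- the elements of the field -/
abbrev e3 : F8 := F8.mk 1 1 0
/-- the elements of the field -/
abbrev e4 : F8 := F8.mk 0 0 1
/-- the elements of the field -/
abbrev e5 : F8 := F8.mk 1 0 1
/-- the elements of the field -/
abbrev e6 : F8 := F8.mk 0 1 1
/-- the elements of the field -/
abbrev e7 : F8 := F8.mk 1 1 1

/-- the matrix of a letter -/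
def mX : Matrix (Fin 4) (Fin 4) F8 :=
  !![e1, e1, e0, e1; e0, e1, e1, e1; e0, e0, e1, e1; e0, e0, e0, e1]

/-- the matrix of a letter -/
def mx : Matrix (Fin 4) (Fin 4) F8 :=
  !![e1, e1, e1, e1; e0, e1, e1, e0; e0, e0, e1, e1; e0, e0, e0, e1]

/-- the matrix of a letter -/
def mH : Matrix (Fin 4) (Fin 4) F8 :=
  !![e2, e0, e0, e0; e0, e3, e0, e0; e0, e0, e6, e0; e0, e0, e0, e5]

/-- the matrix of a letter -/
def mh : Matrix (Fin 4) (Fin 4) F8 :=
  !![e5, e0, e0, e0; e0, e6, e0, e0; e0, e0, e3, e0; e0, e0, e0, e2]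

/-- the matrix of a letter -/
def mW : Matrix (Fin 4) (Fin 4) F8 :=
  !![e0, e0, e0, e1; e0, e0, e1, e0; e0, e1, e0, e0; e1, e0, e0, e0]

theorem mX_mul_mx : mX * mx = 1 := by decide

theorem mx_mul_mX : mx * mX = 1 := by decide

theorem mH_mul_mh : mH * mh = 1 := by decide

theorem mh_mul_mH : mh * mH = 1 := by decide

theorem mW_mul_mW : mW * mW = 1 := by decide

/-- a product of letters -/
def q0 : Matrix (Fin 4) (Fin 4) F8 :=
  !![e1, e0, e1, e1; e0, e1, e0, e1; e0, e0, e1, e0; e0, e0, e0, e1]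

theorem s0 : mX * mX = q0 := by decide

/-- a product of letters -/
def q1 : Matrix (Fin 4) (Fin 4) F8 :=
  !![e1, e1, e1, e1; e0, e1, e1, e0; e0, e0, e1, e1; e0, e0, e0, e1]

theorem s1 : mX * q0 = q1 := by decide

theorem t2 : mX * q1 = 1 := by decide

/-- a product of letters -/
def q2 : Matrix (Fin 4) (Fin 4) F8 :=
  !![e0, e0, e0, e2; e0, e0, e3, e0; e0, e6, e0, e0; e5, e0, e0, e0]

theorem s3 : mH * mW = q2 := by decide

/-- a product of letters -/
def q3 : Matrix (Fin 4) (Fin 4) F8 :=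
  !![e5, e0, e0, e0; e0, e6, e0, e0; e0, e0, e3, e0; e0, e0, e0, e2]

theorem s4 : mW * q2 = q3 := by decide

theorem t5 : mH * q3 = 1 := by decide

/-- a product of letters -/
def q4 : Matrix (Fin 4) (Fin 4) F8 :=
  !![e1, e0, e1, e1; e1, e1, e1, e0; e1, e1, e0, e0; e1, e0, e0, e0]

theorem s6 : mX * mW = q4 := by decide

/-- a product of letters -/
def q5 : Matrix (Fin 4) (Fin 4) F8 :=
  !![e1, e0, e0, e0; e1, e1, e0, e0; e1, e1, e1, e0; e1, e0, e1, e1]

theorem s7 : mW * q4 = q5 := by decide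

/-- a product of letters -/
def q6 : Matrix (Fin 4) (Fin 4) F8 :=
  !![e0, e0, e0, e1; e0, e0, e1, e0; e0, e1, e0, e1; e1, e0, e1, e1]

theorem s8 : mx * q5 = q6 := by decide

/-- a product of letters -/
def q7 : Matrix (Fin 4) (Fin 4) F8 :=
  !![e1, e0, e1, e1; e0, e1, e0, e1; e0, e0, e1, e0; e0, e0, e0, e1]

theorem s9 : mW * q6 = q7 := by decide

/-- a product of letters -/
def q8 : Matrix (Fin 4) (Fin 4) F8 :=
  !![e1, e1, e1, e1; e0, e1, e1, e0; e0, e0, e1, e1; e0, e0, e0, e1]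

theorem s10 : mX * q7 = q8 := by decide

theorem t11 : mX * q8 = 1 := by decide

/-- a product of letters -/
def q9 : Matrix (Fin 4) (Fin 4) F8 :=
  !![e4, e0, e0, e0; e0, e5, e0, e0; e0, e0, e2, e0; e0, e0, e0, e7]

theorem s12 : mH * mH = q9 := by decide

/-- a product of letters -/
def q10 : Matrix (Fin 4) (Fin 4) F8 :=
  !![e3, e0, e0, e0; e0, e4, e0, e0; e0, e0, e7, e0; e0, e0, e0, e6]

theorem s13 : mH * q9 = q10 := by decide

/-- a product of letters -/
def q11 : Matrix (Fin 4) (Fin 4) F8 :=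
  !![e6, e0, e0, e0; e0, e7, e0, e0; e0, e0, e4, e0; e0, e0, e0, e3]

theorem s14 : mH * q10 = q11 := by decide

/-- a product of letters -/
def q12 : Matrix (Fin 4) (Fin 4) F8 :=
  !![e7, e0, e0, e0; e0, e2, e0, e0; e0, e0, e5, e0; e0, e0, e0, e4]

theorem s15 : mH * q11 = q12 := by decide

/-- a product of letters -/
def q13 : Matrix (Fin 4) (Fin 4) F8 :=
  !![e5, e0, e0, e0; e0, e6, e0, e0; e0, e0, e3, e0; e0, e0, e0, e2]

theorem s16 : mH * q12 = q13 := by decide

theorem t17 : mH * q13 = 1 := by decide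

/-- a product of letters -/
def q14 : Matrix (Fin 4) (Fin 4) F8 :=
  !![e1, e1, e1, e1; e1, e0, e0, e1; e0, e1, e0, e1; e1, e0, e1, e1]

theorem s18 : mX * q5 = q14 := by decide

/-- a product of letters -/
def q15 : Matrix (Fin 4) (Fin 4) F8 :=
  !![e1, e0, e1, e1; e0, e1, e0, e1; e1, e0, e0, e1; e1, e1, e1, e1]

theorem s19 : mW * q14 = q15 := by decide

/-- a product of letters -/
def q16 : Matrix (Fin 4) (Fin 4) F8 :=
  !![e0, e0, e0, e1; e0, e0, e1, e1; e0, e1, e1, e0; e1, e1, e1, e1]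

theorem s20 : mX * q15 = q16 := by decide

/-- a product of letters -/
def q17 : Matrix (Fin 4) (Fin 4) F8 :=
  !![e1, e1, e1, e1; e0, e1, e1, e0; e0, e0, e1, e1; e0, e0, e0, e1]

theorem s21 : mW * q16 = q17 := by decide

theorem t22 : mX * q17 = 1 := by decide

/-- a product of letters -/
def q18 : Matrix (Fin 4) (Fin 4) F8 :=
  !![e1, e1, e1, e1; e0, e1, e1, e0; e1, e1, e0, e0; e1, e0, e0, e0]

theorem s23 : mx * mW = q18 := by decide

/-- a product of letters -/
def q19 : Matrix (Fin 4) (Fin 4) F8 :=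
  !![e1, e1, e0, e1; e1, e0, e1, e0; e0, e1, e0, e0; e1, e0, e0, e0]

theorem s24 : mx * q18 = q19 := by decide

/-- a product of letters -/
def q20 : Matrix (Fin 4) (Fin 4) F8 :=
  !![e1, e0, e0, e0; e0, e1, e0, e0; e1, e0, e1, e0; e1, e1, e0, e1]

theorem s25 : mW * q19 = q20 := by decide

/-- a product of letters -/
def q21 : Matrix (Fin 4) (Fin 4) F8 :=
  !![e0, e0, e0, e1; e0, e0, e1, e1; e0, e1, e1, e1; e1, e1, e0, e1]

theorem s26 : mX * q20 = q21 := by decide

/-- a product of letters -/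
def q22 : Matrix (Fin 4) (Fin 4) F8 :=
  !![e1, e1, e0, e1; e0, e1, e1, e1; e0, e0, e1, e1; e0, e0, e0, e1]

theorem s27 : mW * q21 = q22 := by decide

/-- a product of letters -/
def q23 : Matrix (Fin 4) (Fin 4) F8 :=
  !![e1, e0, e1, e1; e0, e1, e0, e1; e0, e0, e1, e0; e0, e0, e0, e1]

theorem s28 : mX * q22 = q23 := by decide

/-- a product of letters -/
def q24 : Matrix (Fin 4) (Fin 4) F8 :=
  !![e1, e1, e1, e1; e0, e1, e1, e0; e0, e0, e1, e1; e0, e0, e0, e1]

theorem s29 : mX * q23 = q24 := by decide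

theorem t30 : mX * q24 = 1 := by decide

/-- a product of letters -/
def q25 : Matrix (Fin 4) (Fin 4) F8 :=
  !![e0, e0, e0, e2; e0, e0, e3, e0; e0, e6, e0, e6; e5, e0, e5, e5]

theorem s31 : mH * q6 = q25 := by decide

/-- a product of letters -/
def q26 : Matrix (Fin 4) (Fin 4) F8 :=
  !![e5, e0, e5, e5; e0, e6, e0, e6; e0, e0, e3, e0; e0, e0, e0, e2]

theorem s32 : mW * q25 = q26 := by decide

/-- a product of letters -/
def q27 : Matrix (Fin 4) (Fin 4) F8 :=
  !![e1, e0, e1, e1; e0, e1, e0, e1; e0, e0, e1, e0; e0, e0, e0, e1]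

theorem s33 : mH * q26 = q27 := by decide

/-- a product of letters -/
def q28 : Matrix (Fin 4) (Fin 4) F8 :=
  !![e1, e1, e1, e1; e0, e1, e1, e0; e0, e0, e1, e1; e0, e0, e0, e1]

theorem s34 : mX * q27 = q28 := by decide

theorem t35 : mX * q28 = 1 := by decide

/-- a product of letters -/
def q29 : Matrix (Fin 4) (Fin 4) F8 :=
  !![e0, e0, e0, e5; e0, e0, e6, e0; e0, e3, e0, e3; e2, e0, e2, e2]

theorem s36 : mh * q6 = q29 := by decide

/-- a product of letters -/
def q30 : Matrix (Fin 4) (Fin 4) F8 :=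
  !![e2, e0, e2, e2; e0, e3, e0, e3; e0, e0, e6, e0; e0, e0, e0, e5]

theorem s37 : mW * q29 = q30 := by decide

/-- a product of letters -/
def q31 : Matrix (Fin 4) (Fin 4) F8 :=
  !![e1, e0, e1, e1; e0, e1, e0, e1; e0, e0, e1, e0; e0, e0, e0, e1]

theorem s38 : mh * q30 = q31 := by decide

/-- a product of letters -/
def q32 : Matrix (Fin 4) (Fin 4) F8 :=
  !![e1, e1, e1, e1; e0, e1, e1, e0; e0, e0, e1, e1; e0, e0, e0, e1]

theorem s39 : mX * q31 = q32 := by decide

theorem t40 : mX * q32 = 1 := by decide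

/-- a product of letters -/
def q33 : Matrix (Fin 4) (Fin 4) F8 :=
  !![e2, e0, e2, e2; e3, e3, e3, e0; e6, e6, e0, e0; e5, e0, e0, e0]

theorem s41 : mH * q4 = q33 := by decide

/-- a product of letters -/
def q34 : Matrix (Fin 4) (Fin 4) F8 :=
  !![e5, e0, e0, e0; e6, e6, e0, e0; e3, e3, e3, e0; e2, e0, e2, e2]

theorem s42 : mW * q33 = q34 := by decide

/-- a product of letters -/
def q35 : Matrix (Fin 4) (Fin 4) F8 :=
  !![e1, e0, e0, e0; e1, e1, e0, e0; e1, e1, e1, e0; e1, e0, e1, e1]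

theorem s43 : mH * q34 = q35 := by decide

/-- a product of letters -/
def q36 : Matrix (Fin 4) (Fin 4) F8 :=
  !![e0, e0, e0, e1; e0, e0, e1, e0; e0, e1, e0, e1; e1, e0, e1, e1]

theorem s44 : mx * q35 = q36 := by decide

/-- a product of letters -/
def q37 : Matrix (Fin 4) (Fin 4) F8 :=
  !![e1, e0, e1, e1; e0, e1, e0, e1; e0, e0, e1, e0; e0, e0, e0, e1]

theorem s45 : mW * q36 = q37 := by decide

/-- a product of letters -/
def q38 : Matrix (Fin 4) (Fin 4) F8 :=
  !![e1, e1, e1, e1; e0, e1, e1, e0; e0, e0, e1, e1; e0, e0, e0, e1]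

theorem s46 : mX * q37 = q38 := by decide

theorem t47 : mX * q38 = 1 := by decide

/-- a product of letters -/
def q39 : Matrix (Fin 4) (Fin 4) F8 :=
  !![e5, e0, e5, e5; e6, e6, e6, e0; e3, e3, e0, e0; e2, e0, e0, e0]

theorem s48 : mh * q4 = q39 := by decide

/-- a product of letters -/
def q40 : Matrix (Fin 4) (Fin 4) F8 :=
  !![e2, e0, e0, e0; e3, e3, e0, e0; e6, e6, e6, e0; e5, e0, e5, e5]

theorem s49 : mW * q39 = q40 := by decide

/-- a product of letters -/
def q41 : Matrix (Fin 4) (Fin 4) F8 :=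
  !![e1, e0, e0, e0; e1, e1, e0, e0; e1, e1, e1, e0; e1, e0, e1, e1]

theorem s50 : mh * q40 = q41 := by decide

/-- a product of letters -/
def q42 : Matrix (Fin 4) (Fin 4) F8 :=
  !![e0, e0, e0, e1; e0, e0, e1, e0; e0, e1, e0, e1; e1, e0, e1, e1]

theorem s51 : mx * q41 = q42 := by decide

/-- a product of letters -/
def q43 : Matrix (Fin 4) (Fin 4) F8 :=
  !![e1, e0, e1, e1; e0, e1, e0, e1; e0, e0, e1, e0; e0, e0, e0, e1]

theorem s52 : mW * q42 = q43 := by decide

/-- a product of letters -/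
def q44 : Matrix (Fin 4) (Fin 4) F8 :=
  !![e1, e1, e1, e1; e0, e1, e1, e0; e0, e0, e1, e1; e0, e0, e0, e1]

theorem s53 : mX * q43 = q44 := by decide

theorem t54 : mX * q44 = 1 := by decide

/-- a product of letters -/
def q45 : Matrix (Fin 4) (Fin 4) F8 :=
  !![e4, e5, e0, e7; e0, e5, e2, e7; e0, e0, e2, e7; e0, e0, e0, e7]

theorem s55 : mX * q9 = q45 := by decide

/-- a product of letters -/
def q46 : Matrix (Fin 4) (Fin 4) F8 :=
  !![e2, e7, e0, e6; e0, e3, e7, e4; e0, e0, e6, e2; e0, e0, e0, e5]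

theorem s56 : mh * q45 = q46 := by decide

/-- a product of letters -/
def q47 : Matrix (Fin 4) (Fin 4) F8 :=
  !![e1, e6, e0, e3; e0, e1, e4, e5; e0, e0, e1, e6; e0, e0, e0, e1]

theorem s57 : mh * q46 = q47 := by decide

/-- a product of letters -/
def q48 : Matrix (Fin 4) (Fin 4) F8 :=
  !![e5, e3, e0, e4; e0, e6, e5, e3; e0, e0, e3, e1; e0, e0, e0, e2]

theorem s58 : mh * q47 = q48 := by decide

/-- a product of letters -/
def q49 : Matrix (Fin 4) (Fin 4) F8 :=
  !![e5, e5, e5, e5; e0, e6, e6, e0; e0, e0, e3, e3; e0, e0, e0, e2]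

theorem s59 : mX * q48 = q49 := by decide

/-- a product of letters -/
def q50 : Matrix (Fin 4) (Fin 4) F8 :=
  !![e1, e1, e1, e1; e0, e1, e1, e0; e0, e0, e1, e1; e0, e0, e0, e1]

theorem s60 : mH * q49 = q50 := by decide

theorem t61 : mX * q50 = 1 := by decide

/-- a product of letters -/
def q51 : Matrix (Fin 4) (Fin 4) F8 :=
  !![e0, e0, e0, e5; e0, e0, e6, e0; e0, e3, e0, e0; e2, e0, e0, e0]

theorem s62 : mh * mW = q51 := by decide

/-- a product of letters -/
def q52 : Matrix (Fin 4) (Fin 4) F8 :=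
  !![e2, e0, e0, e0; e0, e3, e0, e0; e0, e0, e6, e0; e0, e0, e0, e5]

theorem s63 : mW * q51 = q52 := by decide

/-- a product of letters -/
def q53 : Matrix (Fin 4) (Fin 4) F8 :=
  !![e4, e0, e0, e0; e0, e5, e0, e0; e0, e0, e2, e0; e0, e0, e0, e7]

theorem s64 : mH * q52 = q53 := by decide

/-- a product of letters -/
def q54 : Matrix (Fin 4) (Fin 4) F8 :=
  !![e3, e0, e0, e0; e0, e4, e0, e0; e0, e0, e7, e0; e0, e0, e0, e6]

theorem s65 : mH * q53 = q54 := by decide

/-- a product of letters -/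
def q55 : Matrix (Fin 4) (Fin 4) F8 :=
  !![e6, e0, e0, e0; e0, e7, e0, e0; e0, e0, e4, e0; e0, e0, e0, e3]

theorem s66 : mH * q54 = q55 := by decide

/-- a product of letters -/
def q56 : Matrix (Fin 4) (Fin 4) F8 :=
  !![e7, e0, e0, e0; e0, e2, e0, e0; e0, e0, e5, e0; e0, e0, e0, e4]

theorem s67 : mH * q55 = q56 := by decide

/-- a product of letters -/
def q57 : Matrix (Fin 4) (Fin 4) F8 :=
  !![e5, e0, e0, e0; e0, e6, e0, e0; e0, e0, e3, e0; e0, e0, e0, e2]

theorem s68 : mH * q56 = q57 := by decide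

theorem t69 : mH * q57 = 1 := by decide

/-- the relators hold for the matrices -/
theorem rel_mat : ∀ r ∈ rels, mprod (letters5 mX mx mH mh mW) r = 1 := by
  intro r hr
  simp only [rels, List.mem_cons, List.not_mem_nil, or_false] at hr
  rcases hr with rfl | rfl | rfl | rfl | rfl | rfl | rfl | rfl | rfl | rfl | rfl | rfl

  · show mX * (mX * (mX * (mX * (1)))) = 1
    rw [mul_one, s0, s1, t2]

  · show mH * (mW * (mH * (mW * (1)))) = 1
    rw [mul_one, s3, s4, t5]

  · show mX * (mX * (mW * (mx * (mW * (mX * (mW * (1))))))) = 1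
    rw [mul_one, s6, s7, s8, s9, s10, t11]

  · show mH * (mH * (mH * (mH * (mH * (mH * (mH * (1))))))) = 1
    rw [mul_one, s12, s13, s14, s15, s16, t17]

  · show mX * (mW * (mX * (mW * (mX * (mW * (mX * (mW * (1)))))))) = 1
    rw [mul_one, s6, s7, s18, s19, s20, s21, t22]

  · show mX * (mX * (mX * (mW * (mX * (mW * (mx * (mx * (mW * (1))))))))) = 1
    rw [mul_one, s23, s24, s25, s26, s27, s28, s29, t30]

  · show mX * (mX * (mH * (mW * (mH * (mx * (mW * (mX * (mW * (1))))))))) = 1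
    rw [mul_one, s6, s7, s8, s31, s32, s33, s34, t35]

  · show mX * (mX * (mh * (mW * (mh * (mx * (mW * (mX * (mW * (1))))))))) = 1
    rw [mul_one, s6, s7, s8, s36, s37, s38, s39, t40]

  · show mX * (mX * (mW * (mx * (mH * (mW * (mH * (mX * (mW * (1))))))))) = 1
    rw [mul_one, s6, s41, s42, s43, s44, s45, s46, t47]

  · show mX * (mX * (mW * (mx * (mh * (mW * (mh * (mX * (mW * (1))))))))) = 1
    rw [mul_one, s6, s48, s49, s50, s51, s52, s53, t54]

  · show mX * (mH * (mX * (mh * (mh * (mh * (mX * (mH * (mH * (1))))))))) = 1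
    rw [mul_one, s12, s55, s56, s57, s58, s59, s60, t61]

  · show mH * (mH * (mH * (mH * (mH * (mH * (mW * (mh * (mW * (1))))))))) = 1
    rw [mul_one, s62, s63, s64, s65, s66, s67, s68, t69]


end Cfsg.Agent.Lib.Helper35_Sz8Rel
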