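import Cfsg.Agent.Lib.Helper37_SzStruct

/-!
# Bruhat-type decomposition and transitivity of the Suzuki group on the ovoid (helper37)
-/

set_option autoImplicit false
open Cfsg

namespace Cfsg.Agent.Helper37Sz

open Cfsg.Agent.S0335 (sf sf_aniso sf_inv sf_collinear)
open Matrix
open scoped Pointwise

section Trans

variable {F : Type*} [Field F] [Fintype F] {S : F →+* F} {m : ℕ}

theorem wSL_mul_self : (wSL : Matrix.SpecialLinearGroup (Fin 4) F) * wSL = 1 := by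
  apply Subtype.ext
  exact wMat_mul_self

theorem wSL_inv : (wSL : Matrix.SpecialLinearGroup (Fin 4) F)⁻¹ = wSL :=
  inv_eq_of_mul_eq_one_left wSL_mul_self

/-- `Sz = B ∪ B w B` with unique-ish normal form -/
theorem Sz_decomp (hm : 1 ≤ m) (hF : Fintype.card F = 2 ^ (2 * m + 1)) (h2 : (2 : F) = 0)
    (hS : ∀ z, S (S z) = z ^ 2) (hSdef : ∀ z, S z = z ^ 2 ^ (m + 1))
    {g : Matrix.SpecialLinearGroup (Fin 4) F} (hg : g ∈ Cfsg.Sz F m) :
    (∃ (a b : F) (t : Fˣ), g = uSL S a b * hSL S t) ∨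
    (∃ (a b a' b' : F) (t : Fˣ), g = uSL S a b * wSL * (uSL S a' b' * hSL S t)) := by
  obtain ⟨c, hc, h | ⟨a, b, h⟩⟩ := isOv_of_mem_Sz hSdef hg (isOv_pInf (S := S))
  · left
    exact stab_inf_struct hm hF h2 hS hSdef hg h
  · right
    have hu := uSL_mem (m := m) h2 hS hSdef a b
    have hw := wSL_mem (F := F) (m := m) h2 hS hSdef
    have hg' : wSL * (uSL S a b)⁻¹ * g ∈ Cfsg.Sz F m :=
      (Cfsg.Sz F m).mul_mem ((Cfsg.Sz F m).mul_mem hw ((Cfsg.Sz F m).inv_mem hu)) hg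
    have hinv : (uSL S a b)⁻¹ = uSL S a (b + S a * a) := uSL_inv h2 hS a b
    have hinf' : ((wSL * (uSL S a b)⁻¹ * g : Matrix.SpecialLinearGroup (Fin 4) F) :
        Matrix (Fin 4) (Fin 4) F) *ᵥ pInf = c • pInf := by
      rw [hinv, Matrix.SpecialLinearGroup.coe_mul, Matrix.SpecialLinearGroup.coe_mul,
        ← Matrix.mulVec_mulVec, ← Matrix.mulVec_mulVec, h, Matrix.mulVec_smul, Matrix.mulVec_smul]
      show c • (wMat *ᵥ (uMat S a (b + S a * a) *ᵥ pAff S a b)) = _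
      rw [uMat_mulVec_pAff h2 hS]
      have e1 : a + a = 0 := by linear_combination a * h2
      have e2 : b + (b + S a * a) + S a * a = 0 := by linear_combination (b + S a * a) * h2
      rw [e1, e2, wMat_mulVec_pAff_zero]
    obtain ⟨a', b', t, ht⟩ := stab_inf_struct hm hF h2 hS hSdef hg' hinf'
    refine ⟨a, b, a', b', t, ?_⟩
    rw [← ht]
    have : uSL S a b * wSL * (wSL * (uSL S a b)⁻¹ * g)
        = uSL S a b * (wSL * wSL) * (uSL S a b)⁻¹ * g := by group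
    rw [this, wSL_mul_self, mul_one, mul_inv_cancel, one_mul]

theorem uw_mulVec_pInf (h2 : (2 : F) = 0) (hS : ∀ z, S (S z) = z ^ 2) (a b : F) :
    ((uSL S a b * wSL : Matrix.SpecialLinearGroup (Fin 4) F) : Matrix (Fin 4) (Fin 4) F)
      *ᵥ pInf = pAff S a b := by
  rw [Matrix.SpecialLinearGroup.coe_mul, ← Matrix.mulVec_mulVec]
  show uMat S a b *ᵥ (wMat *ᵥ pInf) = _
  rw [wMat_mulVec_pInf (S := S), uMat_mulVec_pAff h2 hS, zero_add, mul_zero, add_zero, zero_add]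

theorem inf_mem_ovoid : Cfsg.suzukiPointInfinity F ∈ Cfsg.suzukiOvoid F m :=
  ⟨![1, 0, 0, 0], by simp, rfl, Or.inl rfl⟩

/-- the Suzuki group is transitive on the ovoid -/
theorem exists_smul_inf (h2 : (2 : F) = 0) (hS : ∀ z, S (S z) = z ^ 2)
    (hSdef : ∀ z, S z = z ^ 2 ^ (m + 1)) {p : Projectivization F (Fin 4 → F)}
    (hp : p ∈ Cfsg.suzukiOvoid F m) :
    ∃ g : Cfsg.Sz F m, g • Cfsg.suzukiPointInfinity F = p := by
  induction p using Projectivization.ind with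
  | h v hv =>
    rw [mk_mem_ovoid_iff hSdef] at hp
    obtain ⟨c, hc, h | ⟨a, b, h⟩⟩ := hp
    · refine ⟨1, ?_⟩
      rw [one_smul, suzukiPointInfinity_eq, Projectivization.mk_eq_mk_iff']
      exact ⟨c⁻¹, by rw [h, smul_smul, inv_mul_cancel₀ hc, one_smul]⟩
    · refine ⟨⟨uSL S a b * wSL, (Cfsg.Sz F m).mul_mem (uSL_mem h2 hS hSdef a b)
        (wSL_mem h2 hS hSdef)⟩, ?_⟩
      show (uSL S a b * wSL) • Cfsg.suzukiPointInfinity F = _
      rw [suzukiPointInfinity_eq, Projectivization.smul_mk, Projectivization.mk_eq_mk_iff']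
      refine ⟨c⁻¹, ?_⟩
      show c⁻¹ • v = ((uSL S a b * wSL : Matrix.SpecialLinearGroup (Fin 4) F) :
        Matrix (Fin 4) (Fin 4) F) *ᵥ pInf
      rw [uw_mulVec_pInf h2 hS, h, smul_smul, inv_mul_cancel₀ hc, one_smul]

theorem smul_mem_ovoid {g : Matrix.SpecialLinearGroup (Fin 4) F} (hg : g ∈ Cfsg.Sz F m)
    {p : Projectivization F (Fin 4 → F)} (hp : p ∈ Cfsg.suzukiOvoid F m) :
    g • p ∈ Cfsg.suzukiOvoid F m := by
  have h1 : g • Cfsg.suzukiOvoid F m = Cfsg.suzukiOvoid F m := MulAction.mem_stabilizer_iff.1 hg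
  have h3 : g • p ∈ g • Cfsg.suzukiOvoid F m := Set.smul_mem_smul_set hp
  rw [h1] at h3
  exact h3

theorem orbit_inf_eq (h2 : (2 : F) = 0) (hS : ∀ z, S (S z) = z ^ 2)
    (hSdef : ∀ z, S z = z ^ 2 ^ (m + 1)) :
    MulAction.orbit (Cfsg.Sz F m) (Cfsg.suzukiPointInfinity F) = Cfsg.suzukiOvoid F m := by
  ext p
  constructor
  · rintro ⟨g, rfl⟩
    exact smul_mem_ovoid g.2 inf_mem_ovoid
  · intro hp
    obtain ⟨g, hg⟩ := exists_smul_inf h2 hS hSdef hp
    exact ⟨g, hg⟩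

end Trans

end Cfsg.Agent.Helper37Sz
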