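import Cfsg.Agent.Lib.Helper37_SzBasic

/-!
# The point stabiliser in the Suzuki group (helper37)

`two_pt_struct`: an element of `Sz` fixing the points `∞` and `0` of the ovoid is a torus element.
`stab_inf_struct`: an element of `Sz` fixing `∞` is `uSL a b * hSL t`.
-/

set_option autoImplicit false
open Cfsg

namespace Cfsg.Agent.Helper37Sz

open Cfsg.Agent.S0335 (sf sf_aniso sf_inv sf_collinear)
open Matrix Polynomial
open scoped Pointwise

section Poly

variable {F : Type*} [Field F] [Fintype F]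

/-- a polynomial `c₁ X^(n+2) + c₂ X^n + c₃ X^2 + c₄ X` of small degree vanishing on `F` is zero -/
theorem four_coeff_zero {n : ℕ} (hn : 4 ≤ n) (hq : n + 2 < Fintype.card F) (c₁ c₂ c₃ c₄ : F)
    (h : ∀ z : F, c₁ * z ^ (n + 2) + c₂ * z ^ n + c₃ * z ^ 2 + c₄ * z = 0) :
    c₁ = 0 ∧ c₂ = 0 ∧ c₃ = 0 ∧ c₄ = 0 := by
  set p : F[X] := C c₁ * X ^ (n + 2) + C c₂ * X ^ n + C c₃ * X ^ 2 + C c₄ * X with hp
  have hdeg : p.natDegree ≤ n + 2 := by
    rw [hp]; compute_degree
  have hev : ∀ z : F, p.eval z = 0 := by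
    intro z
    rw [hp]
    simp only [eval_add, eval_mul, eval_C, eval_pow, eval_X]
    exact h z
  have hp0 : p = 0 :=
    eq_zero_of_natDegree_lt_card_of_eval_eq_zero p Function.injective_id hev
      (lt_of_le_of_lt hdeg hq)
  have e1 := congrArg (fun r : F[X] => r.coeff (n + 2)) hp0
  have e2 := congrArg (fun r : F[X] => r.coeff n) hp0
  have e3 := congrArg (fun r : F[X] => r.coeff 2) hp0
  have e4 := congrArg (fun r : F[X] => r.coeff 1) hp0
  have n4 : ¬ (n = 2) := by omega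
  have n5 : ¬ (n = 1) := by omega
  have n8 : ¬ (2 = n) := by omega
  have n10 : ¬ (1 = n) := by omega
  simp only [hp, coeff_add, coeff_C_mul, coeff_X_pow, coeff_X, coeff_zero] at e1 e2 e3 e4
  have n0 : n ≠ 0 := by omega
  simp [n0, n4, n8, n10] at e1 e2 e3 e4
  exact ⟨e1, e2, e3, e4⟩

/-- the algebraic heart of the two-point stabiliser computation -/
theorem alg_two_pt {S : F →+* F} {n : ℕ} (hn : 4 ≤ n) (hq : n + 2 < Fintype.card F)
    (hSdef : ∀ z, S z = z ^ n) {k p q' aa bb dd e : F} (hk : k ≠ 0)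
    (h : ∀ x y : F, k * sf S x y + p * y + q' * x = sf S (bb * y + aa * x) (e * y + dd * x)) :
    bb = 0 ∧ dd = 0 ∧ p = 0 ∧ q' = 0 ∧ e = S aa * aa ∧ k = S aa * aa ^ 2 := by
  -- `x = 0`
  have h1 : ∀ y : F, (S bb * bb ^ 2) * y ^ (n + 2) + (S e - k) * y ^ n + (bb * e) * y ^ 2
      + (-p) * y = 0 := by
    intro y
    have := h 0 y
    simp only [sf, mul_zero, add_zero, zero_mul, map_zero, map_mul, zero_add] at this
    rw [pow_add, ← hSdef y]
    linear_combination -this
  obtain ⟨a1, a2, -, a4⟩ := four_coeff_zero hn hq _ _ _ _ h1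
  have hbb : bb = 0 := by
    rcases mul_eq_zero.1 a1 with h | h
    · simpa using h
    · exact pow_eq_zero_iff (two_ne_zero) |>.1 h
  have hp : p = 0 := by simpa using a4
  have hke : k = S e := by linear_combination -a2
  -- `y = 0`
  have h2 : ∀ x : F, (S aa * aa ^ 2 - k) * x ^ (n + 2) + (S dd) * x ^ n + (aa * dd) * x ^ 2
      + (-q') * x = 0 := by
    intro x
    have := h x 0
    simp only [sf, mul_zero, add_zero, zero_mul, map_zero, map_mul, zero_add] at this
    rw [pow_add, ← hSdef x]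
    linear_combination -this
  obtain ⟨b1, b2, -, b4⟩ := four_coeff_zero hn hq _ _ _ _ h2
  have hdd : dd = 0 := by simpa using b2
  have hq' : q' = 0 := by simpa using b4
  have hka : k = S aa * aa ^ 2 := by linear_combination -b1
  have h3 := h 1 1
  rw [hbb, hdd, hp, hq'] at h3
  simp only [sf, mul_one, map_one, one_pow, zero_mul, zero_add, add_zero, map_mul] at h3
  have haa : aa ≠ 0 := by
    rintro rfl
    apply hk
    rw [hka]; simp
  have hkae : k = aa * e := by
    have : k * (1 + 1 + 1) = aa * e + S aa * aa ^ 2 + S e := by linear_combination h3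
    rw [← hka, ← hke] at this
    linear_combination this
  refine ⟨hbb, hdd, hp, hq', ?_, hka⟩
  have : aa * e = aa * (S aa * aa) := by rw [← hkae, hka]; ring
  exact mul_left_cancel₀ haa this

end Poly

section Struct

variable {F : Type*} [Field F] [Fintype F] {S : F →+* F} {m : ℕ}

theorem SL_mulVec_injective (g : Matrix.SpecialLinearGroup (Fin 4) F) {v w : Fin 4 → F}
    (h : (g : Matrix (Fin 4) (Fin 4) F) *ᵥ v = (g : Matrix (Fin 4) (Fin 4) F) *ᵥ w) : v = w := by
  have h1 := congrArg (fun u => ((g⁻¹ : Matrix.SpecialLinearGroup (Fin 4) F) :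
    Matrix (Fin 4) (Fin 4) F) *ᵥ u) h
  simp only [Matrix.mulVec_mulVec] at h1
  rw [← Matrix.SpecialLinearGroup.coe_mul, inv_mul_cancel, Matrix.SpecialLinearGroup.coe_one,
    Matrix.one_mulVec, Matrix.one_mulVec] at h1
  exact h1

theorem pAff_ne_smul_pInf (x y c : F) : pAff S x y ≠ c • pInf := by
  intro h
  have := congrFun h 3
  simp [pAff, pInf] at this

theorem mulVec_pAff_apply (M : Matrix (Fin 4) (Fin 4) F) (x y : F) (i : Fin 4) :
    (M *ᵥ pAff S x y) i = M i 0 * sf S x y + M i 1 * y + M i 2 * x + M i 3 := by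
  simp [Matrix.mulVec, dotProduct, Fin.sum_univ_four, pAff]

theorem mulVec_pInf_apply (M : Matrix (Fin 4) (Fin 4) F) (i : Fin 4) :
    (M *ᵥ (pInf : Fin 4 → F)) i = M i 0 := by
  simp [Matrix.mulVec, dotProduct, Fin.sum_univ_four, pInf]

/-- an element of `Sz` fixing `∞` maps affine points to affine points -/
theorem affine_of_fix_inf (hSdef : ∀ z, S z = z ^ 2 ^ (m + 1))
    {g : Matrix.SpecialLinearGroup (Fin 4) F} (hg : g ∈ Cfsg.Sz F m) {c : F}
    (hinf : (g : Matrix (Fin 4) (Fin 4) F) *ᵥ pInf = c • pInf) (x y : F) :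
    ∃ l : F, l ≠ 0 ∧ ∃ x' y' : F,
      (g : Matrix (Fin 4) (Fin 4) F) *ᵥ pAff S x y = l • pAff S x' y' := by
  obtain ⟨l, hl, h | ⟨x', y', h⟩⟩ := isOv_of_mem_Sz hSdef hg (isOv_pAff (S := S) x y)
  · exfalso
    have hc : c ≠ 0 := by
      rintro rfl
      rw [zero_smul] at hinf
      have := SL_mulVec_injective g (hinf.trans (Matrix.mulVec_zero _).symm)
      exact pInf_ne_zero this
    have h1 : (g : Matrix (Fin 4) (Fin 4) F) *ᵥ pAff S x y
        = (g : Matrix (Fin 4) (Fin 4) F) *ᵥ ((l / c) • pInf) := by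
      rw [h, Matrix.mulVec_smul, hinf, smul_smul]
      congr 1
      field_simp
    exact pAff_ne_smul_pInf x y _ (SL_mulVec_injective g h1)
  · exact ⟨l, hl, x', y', h⟩

/-- An element of `Sz` fixing the ovoid points `∞` and `0` is a torus element. -/
theorem two_pt_struct (hm : 1 ≤ m) (hF : Fintype.card F = 2 ^ (2 * m + 1)) (h2 : (2 : F) = 0)
    (hS : ∀ z, S (S z) = z ^ 2) (hSdef : ∀ z, S z = z ^ 2 ^ (m + 1))
    {g : Matrix.SpecialLinearGroup (Fin 4) F} (hg : g ∈ Cfsg.Sz F m) {c d : F}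
    (hinf : (g : Matrix (Fin 4) (Fin 4) F) *ᵥ pInf = c • pInf)
    (hzero : (g : Matrix (Fin 4) (Fin 4) F) *ᵥ pAff S 0 0 = d • pAff S 0 0) :
    ∃ t : Fˣ, g = hSL S t := by
  set M : Matrix (Fin 4) (Fin 4) F := (g : Matrix (Fin 4) (Fin 4) F) with hM
  -- columns 0 and 3
  have c0 : ∀ i, M i 0 = (c • (pInf : Fin 4 → F)) i := fun i => by
    rw [← hinf, mulVec_pInf_apply]
  have c3 : ∀ i, M i 3 = (d • pAff S 0 0) i := fun i => by
    rw [← hzero, mulVec_pAff_apply]; simp [sf]
  have m00 : M 0 0 = c := by rw [c0]; simp [pInf]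
  have m10 : M 1 0 = 0 := by rw [c0]; simp [pInf]
  have m20 : M 2 0 = 0 := by rw [c0]; simp [pInf]
  have m30 : M 3 0 = 0 := by rw [c0]; simp [pInf]
  have m03 : M 0 3 = 0 := by rw [c3]; simp [pAff, sf]
  have m13 : M 1 3 = 0 := by rw [c3]; simp [pAff]
  have m23 : M 2 3 = 0 := by rw [c3]; simp [pAff]
  have m33 : M 3 3 = d := by rw [c3]; simp [pAff]
  have hc : c ≠ 0 := by
    rintro rfl
    rw [zero_smul] at hinf
    exact pInf_ne_zero (SL_mulVec_injective g (hinf.trans (Matrix.mulVec_zero _).symm))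
  have hd : d ≠ 0 := by
    rintro rfl
    rw [zero_smul] at hzero
    exact pAff_ne_zero S 0 0 (SL_mulVec_injective g (hzero.trans (Matrix.mulVec_zero _).symm))
  -- the last row
  have hrow : ∀ x y : F, M 3 1 * y + M 3 2 * x + d ≠ 0 := by
    intro x y
    obtain ⟨l, hl, x', y', h⟩ := affine_of_fix_inf hSdef hg hinf x y
    replace h : M *ᵥ pAff S x y = l • pAff S x' y' := h
    have := congrFun h 3
    rw [mulVec_pAff_apply, m30, m33] at this
    simp [pAff] at this
    rw [this]; exact hl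
  have m31 : M 3 1 = 0 := by
    by_contra hne
    apply hrow 0 (-d / M 3 1)
    field_simp
    ring
  have m32 : M 3 2 = 0 := by
    by_contra hne
    apply hrow (-d / M 3 2) 0
    field_simp
    ring
  -- the key identity
  have key : ∀ x y : F, (c / d) * sf S x y + (M 0 1 / d) * y + (M 0 2 / d) * x
      = sf S ((M 2 1 / d) * y + (M 2 2 / d) * x) ((M 1 1 / d) * y + (M 1 2 / d) * x) := by
    intro x y
    obtain ⟨l, hl, x', y', h⟩ := affine_of_fix_inf hSdef hg hinf x y
    replace h : M *ᵥ pAff S x y = l • pAff S x' y' := h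
    have e3 := congrFun h 3
    have e2 := congrFun h 2
    have e1 := congrFun h 1
    have e0 := congrFun h 0
    rw [mulVec_pAff_apply] at e0 e1 e2 e3
    rw [m30, m31, m32, m33] at e3
    rw [m20, m23] at e2
    rw [m10, m13] at e1
    rw [m00, m03] at e0
    simp [pAff] at e0 e1 e2 e3
    have hl' : l = d := by rw [← e3]
    subst hl'
    have hx' : x' = (M 2 1 / l) * y + (M 2 2 / l) * x := by
      field_simp; linear_combination -e2
    have hy' : y' = (M 1 1 / l) * y + (M 1 2 / l) * x := by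
      field_simp; linear_combination -e1
    rw [← hx', ← hy']
    field_simp
    linear_combination e0
  have hn4 : 4 ≤ 2 ^ (m + 1) := by
    calc 4 = 2 ^ 2 := by norm_num
      _ ≤ 2 ^ (m + 1) := Nat.pow_le_pow_right (by norm_num) (by omega)
  have hnq : 2 ^ (m + 1) + 2 < Fintype.card F := by
    rw [hF]
    have : 2 ^ (2 * m + 1) = 2 ^ (m + 1) * 2 ^ m := by rw [← pow_add]; congr 1; omega
    rw [this]
    have h2m : 2 ≤ 2 ^ m := by
      calc 2 = 2 ^ 1 := by norm_num
        _ ≤ 2 ^ m := Nat.pow_le_pow_right (by norm_num) hm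
    nlinarith
  obtain ⟨hbb, hdd, hp, hq', he, hk⟩ :=
    alg_two_pt hn4 hnq hSdef (div_ne_zero hc hd) key
  have m21 : M 2 1 = 0 := by
    rcases div_eq_zero_iff.1 hbb with h | h
    · exact h
    · exact absurd h hd
  have m12 : M 1 2 = 0 := by
    rcases div_eq_zero_iff.1 hdd with h | h
    · exact h
    · exact absurd h hd
  have m01 : M 0 1 = 0 := by
    rcases div_eq_zero_iff.1 hp with h | h
    · exact h
    · exact absurd h hd
  have m02 : M 0 2 = 0 := by
    rcases div_eq_zero_iff.1 hq' with h | h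
    · exact h
    · exact absurd h hd
  -- square root
  have : CharP F 2 := CharTwo.of_one_ne_zero_of_two_eq_zero one_ne_zero h2
  obtain ⟨t, ht⟩ := FiniteField.isSquare_of_char_two (ringChar.eq F 2) (M 2 2 / d)
  have haa : M 2 2 / d ≠ 0 := by
    intro h0
    apply div_ne_zero hc hd
    rw [hk, h0]; simp
  have ht0 : t ≠ 0 := by
    rintro rfl
    apply haa
    rw [ht]; simp
  have hSt : S t ≠ 0 := by simpa using ht0
  have m22 : M 2 2 = d * t ^ 2 := by
    field_simp at ht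
    rw [ht]
  have m11 : M 1 1 = d * (S t ^ 2 * t ^ 2) := by
    have : M 1 1 / d = S t ^ 2 * t ^ 2 := by
      rw [he, ht, map_mul]; ring
    field_simp at this
    rw [this]; ring
  have hcd : c = d * (S t ^ 2 * t ^ 4) := by
    have : c / d = S t ^ 2 * t ^ 4 := by
      rw [hk, ht, map_mul]; ring
    field_simp at this
    rw [this]; ring
  -- the matrix is diagonal
  have hdiag : M = Matrix.diagonal ![c, M 1 1, M 2 2, d] := by
    ext i j
    fin_cases i <;> fin_cases j <;>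
      simp [m00, m10, m20, m30, m03, m13, m23, m33, m31, m32, m21, m12, m01, m02]
  have hdet : M.det = 1 := g.2
  rw [hdiag, Matrix.det_diagonal, Fin.prod_univ_four] at hdet
  simp at hdet
  rw [m11, m22, hcd] at hdet
  have h4 : (d * S t * t ^ 2) ^ 4 = 1 := by
    rw [← hdet]; ring
  have h1 : d * S t * t ^ 2 = 1 := by
    have h5 : (d * S t * t ^ 2 - 1) ^ 4 = 0 := by
      have : (d * S t * t ^ 2 - 1) ^ 4 = (d * S t * t ^ 2) ^ 4 - 1
          + 2 * (-2 * (d * S t * t ^ 2) ^ 3 + 3 * (d * S t * t ^ 2) ^ 2 - 2 * (d * S t * t ^ 2) + 1) := by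
        ring
      rw [this, h4, h2]; ring
    have := pow_eq_zero_iff (n := 4) (by norm_num) |>.1 h5
    linear_combination this
  have hdval : d = (S t * t ^ 2)⁻¹ := by
    field_simp
    linear_combination h1
  refine ⟨Units.mk0 t ht0, ?_⟩
  apply Subtype.ext
  show M = hMat S t
  rw [hdiag, m11, m22, hcd, hdval]
  ext i j
  fin_cases i <;> fin_cases j <;> simp [hMat] <;> field_simp

theorem uSL_mul (h2 : (2 : F) = 0) (hS : ∀ z, S (S z) = z ^ 2) (a b a' b' : F) :
    uSL S a b * uSL S a' b' = uSL S (a + a') (b + b' + S a * a') := by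
  apply Subtype.ext
  exact uMat_mul h2 hS a b a' b'

theorem uSL_zero : uSL S 0 0 = 1 := by
  apply Subtype.ext
  exact uMat_zero

theorem uSL_inv (h2 : (2 : F) = 0) (hS : ∀ z, S (S z) = z ^ 2) (a b : F) :
    (uSL S a b)⁻¹ = uSL S a (b + S a * a) := by
  rw [inv_eq_iff_mul_eq_one, uSL_mul h2 hS]
  have e1 : a + a = 0 := by linear_combination a * h2
  have e2 : b + (b + S a * a) + S a * a = 0 := by linear_combination (b + S a * a) * h2
  rw [e1, e2, uSL_zero]

/-- An element of `Sz` fixing the ovoid point `∞` is of the form `uSL a b * hSL t`. -/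
theorem stab_inf_struct (hm : 1 ≤ m) (hF : Fintype.card F = 2 ^ (2 * m + 1)) (h2 : (2 : F) = 0)
    (hS : ∀ z, S (S z) = z ^ 2) (hSdef : ∀ z, S z = z ^ 2 ^ (m + 1))
    {g : Matrix.SpecialLinearGroup (Fin 4) F} (hg : g ∈ Cfsg.Sz F m) {c : F}
    (hinf : (g : Matrix (Fin 4) (Fin 4) F) *ᵥ pInf = c • pInf) :
    ∃ (a b : F) (t : Fˣ), g = uSL S a b * hSL S t := by
  obtain ⟨d, hd, a, b, h0⟩ := affine_of_fix_inf (S := S) hSdef hg hinf 0 0
  have hu := uSL_mem (m := m) h2 hS hSdef a b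
  have hg' : (uSL S a b)⁻¹ * g ∈ Cfsg.Sz F m := (Cfsg.Sz F m).mul_mem ((Cfsg.Sz F m).inv_mem hu) hg
  have hinv : (uSL S a b)⁻¹ = uSL S a (b + S a * a) := uSL_inv h2 hS a b
  have hinf' : (((uSL S a b)⁻¹ * g : Matrix.SpecialLinearGroup (Fin 4) F) :
      Matrix (Fin 4) (Fin 4) F) *ᵥ pInf = c • pInf := by
    rw [hinv, Matrix.SpecialLinearGroup.coe_mul, ← Matrix.mulVec_mulVec, hinf, Matrix.mulVec_smul]
    show c • (uMat S a (b + S a * a) *ᵥ pInf) = _
    rw [uMat_mulVec_pInf]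
  have hzero' : (((uSL S a b)⁻¹ * g : Matrix.SpecialLinearGroup (Fin 4) F) :
      Matrix (Fin 4) (Fin 4) F) *ᵥ pAff S 0 0 = d • pAff S 0 0 := by
    rw [hinv, Matrix.SpecialLinearGroup.coe_mul, ← Matrix.mulVec_mulVec, h0, Matrix.mulVec_smul]
    show d • (uMat S a (b + S a * a) *ᵥ pAff S a b) = _
    rw [uMat_mulVec_pAff h2 hS]
    have e1 : a + a = 0 := by linear_combination a * h2
    have e2 : b + (b + S a * a) + S a * a = 0 := by linear_combination (b + S a * a) * h2
    rw [e1, e2]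
  obtain ⟨t, ht⟩ := two_pt_struct hm hF h2 hS hSdef hg' hinf' hzero'
  refine ⟨a, b, t, ?_⟩
  rw [← ht, mul_inv_cancel_left]

theorem hSL_mul (t t' : Fˣ) : hSL S t * hSL S t' = hSL S (t * t') := by
  apply Subtype.ext
  exact hMat_mul (t : F) (t' : F)

theorem hSL_one : hSL S (1 : Fˣ) = 1 := by
  apply Subtype.ext
  exact hMat_one

theorem hSL_injective : Function.Injective (hSL S : Fˣ → Matrix.SpecialLinearGroup (Fin 4) F) := by
  intro t t' h
  have h1 := congrArg (fun g : Matrix.SpecialLinearGroup (Fin 4) F =>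
    (g : Matrix (Fin 4) (Fin 4) F) 1 1) h
  simp [hSL, hMat] at h1
  exact Units.ext (S.injective h1)

theorem suzukiPointInfinity_eq : Cfsg.suzukiPointInfinity F
    = Projectivization.mk F (pInf : Fin 4 → F) pInf_ne_zero := rfl

theorem suzukiPointZero_eq : Cfsg.suzukiPointZero F
    = Projectivization.mk F (pAff S 0 0) (pAff_ne_zero S 0 0) := by
  unfold Cfsg.suzukiPointZero
  congr 1
  simp [pAff, sf]

/-- fixing the point `∞`, in coordinates -/
theorem smul_inf_eq_iff (g : Matrix.SpecialLinearGroup (Fin 4) F) :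
    g • Cfsg.suzukiPointInfinity F = Cfsg.suzukiPointInfinity F ↔
      ∃ c : F, (g : Matrix (Fin 4) (Fin 4) F) *ᵥ pInf = c • pInf := by
  rw [suzukiPointInfinity_eq, Projectivization.smul_mk, Projectivization.mk_eq_mk_iff']
  constructor
  · rintro ⟨c, hc⟩
    exact ⟨c, hc.symm⟩
  · rintro ⟨c, hc⟩
    exact ⟨c, hc.symm⟩

/-- fixing the point `0`, in coordinates -/
theorem smul_zero_eq_iff (g : Matrix.SpecialLinearGroup (Fin 4) F) :
    g • Cfsg.suzukiPointZero F = Cfsg.suzukiPointZero F ↔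
      ∃ d : F, (g : Matrix (Fin 4) (Fin 4) F) *ᵥ pAff S 0 0 = d • pAff S 0 0 := by
  rw [suzukiPointZero_eq (S := S), Projectivization.smul_mk, Projectivization.mk_eq_mk_iff']
  constructor
  · rintro ⟨c, hc⟩
    exact ⟨c, hc.symm⟩
  · rintro ⟨c, hc⟩
    exact ⟨c, hc.symm⟩

theorem uh_mulVec_pInf (a b : F) (t : Fˣ) :
    ((uSL S a b * hSL S t : Matrix.SpecialLinearGroup (Fin 4) F) : Matrix (Fin 4) (Fin 4) F)
      *ᵥ pInf = (S (t : F) * (t : F) ^ 2) • pInf := by
  rw [Matrix.SpecialLinearGroup.coe_mul, ← Matrix.mulVec_mulVec]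
  show uMat S a b *ᵥ (hMat S (t : F) *ᵥ pInf) = _
  rw [hMat_mulVec_pInf, Matrix.mulVec_smul, uMat_mulVec_pInf]

theorem uh_mulVec_zero (h2 : (2 : F) = 0) (hS : ∀ z, S (S z) = z ^ 2) (a b : F) (t : Fˣ) :
    ((uSL S a b * hSL S t : Matrix.SpecialLinearGroup (Fin 4) F) : Matrix (Fin 4) (Fin 4) F)
      *ᵥ pAff S 0 0 = (S (t : F) * (t : F) ^ 2)⁻¹ • pAff S a b := by
  rw [Matrix.SpecialLinearGroup.coe_mul, ← Matrix.mulVec_mulVec]
  show uMat S a b *ᵥ (hMat S (t : F) *ᵥ pAff S 0 0) = _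
  rw [hMat_mulVec_pAff hS t.ne_zero, Matrix.mulVec_smul, mul_zero, mul_zero,
    uMat_mulVec_pAff h2 hS, zero_add, mul_zero, add_zero, zero_add]

theorem uh_injective (h2 : (2 : F) = 0) (hS : ∀ z, S (S z) = z ^ 2) {a b a' b' : F} {t t' : Fˣ}
    (h : uSL S a b * hSL S t = uSL S a' b' * hSL S t') : a = a' ∧ b = b' ∧ t = t' := by
  have h1 := congrArg (fun g : Matrix.SpecialLinearGroup (Fin 4) F =>
    (g : Matrix (Fin 4) (Fin 4) F) *ᵥ pAff S 0 0) h
  simp only [uh_mulVec_zero h2 hS] at h1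
  have e3 := congrFun h1 3
  have e2 := congrFun h1 2
  have e1 := congrFun h1 1
  simp [pAff] at e1 e2 e3
  have ht : (t : F) ≠ 0 := t.ne_zero
  have ht' : (t' : F) ≠ 0 := t'.ne_zero
  have hSt : S (t : F) ≠ 0 := by simpa using ht
  have hSt' : S (t' : F) ≠ 0 := by simpa using ht'
  have hne : (S (t : F) * (t : F) ^ 2)⁻¹ ≠ 0 := inv_ne_zero (mul_ne_zero hSt (pow_ne_zero _ ht))
  have hne' : ((t : F) ^ 2)⁻¹ * (S (t : F))⁻¹ ≠ 0 := by
    have : ((t : F) ^ 2)⁻¹ * (S (t : F))⁻¹ = (S (t : F) * (t : F) ^ 2)⁻¹ := by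
      rw [mul_inv]; ring
    rw [this]; exact hne
  rw [← e3] at e1 e2
  have ha : a = a' := mul_left_cancel₀ hne' e2
  have hb : b = b' := mul_left_cancel₀ hne' e1
  subst ha hb
  refine ⟨rfl, rfl, ?_⟩
  exact hSL_injective (mul_left_cancel h)

end Struct

end Cfsg.Agent.Helper37Sz
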