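import Cfsg.Agent.Lib.Helper37_SzTrans
import Cfsg.Agent.S0324

/-!
# Suzuki 2-groups and the Sylow 2-subgroups of the Suzuki group (helper37)
-/

set_option autoImplicit false
open Cfsg

namespace Cfsg.Agent.Helper37Sz

open Cfsg.Agent.S0335 (sf sf_aniso sf_inv sf_collinear)
open Matrix
open scoped Pointwise commutatorElement

section Abstract

variable {F : Type*} [Field F] [Fintype F] {S : F →+* F}

theorem exists_S_ne (hS : ∀ z, S (S z) = z ^ 2) (hq : 2 < Fintype.card F) :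
    ∃ τ : F, τ ≠ 0 ∧ S τ ≠ τ := by
  classical
  obtain ⟨τ, hτ⟩ : ∃ τ : F, τ ∉ ({0, 1} : Finset F) := by
    by_contra hcon
    push Not at hcon
    have : (Finset.univ : Finset F) ⊆ {0, 1} := fun x _ => hcon x
    have h1 := Finset.card_le_card this
    rw [Finset.card_univ] at h1
    have h2 : ({0, 1} : Finset F).card ≤ 2 := Finset.card_le_two
    omega
  simp only [Finset.mem_insert, Finset.mem_singleton, not_or] at hτ
  refine ⟨τ, hτ.1, ?_⟩
  intro h
  have h1 : τ ^ 2 = τ := by rw [← hS τ, h, h]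
  have h2 : τ * (τ - 1) = 0 := by linear_combination h1
  rcases mul_eq_zero.1 h2 with h | h
  · exact hτ.1 h
  · exact hτ.2 (by linear_combination h)

variable {G : Type*} [Group G] (φ : F × F → G)

/-- the structure of a Suzuki 2-group `A(m, σ)` given in coordinates -/
theorem suzuki_two_group (h2 : (2 : F) = 0) (hS : ∀ z, S (S z) = z ^ 2)
    (hq : 2 < Fintype.card F) (hφ : Function.Bijective φ)
    (hmul : ∀ a b a' b', φ (a, b) * φ (a', b') = φ (a + a', b + b' + S a * a')) :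
    Nat.card G = Fintype.card F ^ 2 ∧ Monoid.exponent G = 4 ∧
      Subgroup.center G = commutator G ∧ Nat.card (Subgroup.center G) = Fintype.card F := by
  have hadd : ∀ x : F, x + x = 0 := fun x => by linear_combination x * h2
  have hone : φ (0, 0) = 1 := by
    have := hmul 0 0 0 0
    simp only [add_zero, map_zero, mul_zero] at this
    exact mul_eq_left.1 this
  obtain ⟨τ, hτ0, hτ⟩ := exists_S_ne hS hq
  -- the centre
  have hcen : ∀ a b, φ (a, b) ∈ Subgroup.center G ↔ a = 0 := by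
    intro a b
    rw [Subgroup.mem_center_iff]
    constructor
    · intro h
      by_contra ha
      have h1 := h (φ (a * τ, 0))
      rw [hmul, hmul] at h1
      have h3 := hφ.1 h1
      simp only [Prod.mk.injEq] at h3
      have h4 : a * S a * (S τ - τ) = 0 := by
        have := h3.2
        rw [map_mul] at this
        linear_combination this
      have hSa : S a ≠ 0 := by simpa using ha
      rcases mul_eq_zero.1 h4 with h | h
      · rcases mul_eq_zero.1 h with h | h
        · exact ha h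
        · exact hSa h
      · exact hτ (by linear_combination h)
    · rintro rfl g
      obtain ⟨⟨a', b'⟩, rfl⟩ := hφ.2 g
      rw [hmul, hmul]
      congr 1
      simp only [map_zero, zero_mul, mul_zero, add_zero, zero_add, Prod.mk.injEq]
      exact ⟨trivial, add_comm _ _⟩
  -- commutators
  have hcomm : ∀ a b a' b', ⁅φ (a, b), φ (a', b')⁆ = φ (0, S a * a' + S a' * a) := by
    intro a b a' b'
    have h1 : ⁅φ (a, b), φ (a', b')⁆ * (φ (a', b') * φ (a, b)) = φ (a, b) * φ (a', b') := by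
      rw [commutatorElement_def]; group
    have h3 : φ (0, S a * a' + S a' * a) * (φ (a', b') * φ (a, b)) = φ (a, b) * φ (a', b') := by
      rw [hmul, hmul, hmul]
      congr 1
      simp only [map_zero, zero_mul, add_zero, zero_add, Prod.mk.injEq]
      refine ⟨add_comm _ _, ?_⟩
      linear_combination (S a' * a) * h2
    exact mul_right_cancel (h1.trans h3.symm)
  have hZ : Subgroup.center G = commutator G := by
    apply le_antisymm
    · intro z hz
      obtain ⟨⟨a, c⟩, rfl⟩ := hφ.2 z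
      have ha := (hcen a c).1 hz
      subst ha
      -- `φ (0, c)` is a commutator
      have hτ' : τ + S τ ≠ 0 := by
        intro h
        apply hτ
        have : S τ = -τ := by linear_combination h
        rw [this]
        linear_combination (-τ) * h2
      obtain ⟨c', hc'⟩ : ∃ c' : F, c = c' * (τ + S τ) := ⟨c / (τ + S τ), by field_simp⟩
      obtain ⟨s, hs⟩ : ∃ s : F, S s * s = c' := by
        by_cases h0 : c' = 0
        · exact ⟨0, by rw [h0]; simp⟩
        · refine ⟨S c' / c', ?_⟩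
          have hSc : S c' ≠ 0 := by simpa using h0
          rw [map_div₀, hS]
          field_simp
      have : φ (0, c) = ⁅φ (s, 0), φ (s * τ, 0)⁆ := by
        rw [hcomm]
        congr 2
        rw [map_mul, hc', ← hs]; ring
      rw [this]
      exact Subgroup.commutator_mem_commutator (Subgroup.mem_top _) (Subgroup.mem_top _)
    · rw [commutator_eq_closure, Subgroup.closure_le]
      rintro _ ⟨g, h, rfl⟩
      obtain ⟨⟨a, b⟩, rfl⟩ := hφ.2 g
      obtain ⟨⟨a', b'⟩, rfl⟩ := hφ.2 h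
      rw [hcomm]
      exact (hcen _ _).2 rfl
  refine ⟨?_, ?_, hZ, ?_⟩
  · rw [← Nat.card_congr (Equiv.ofBijective φ hφ), Nat.card_prod, Nat.card_eq_fintype_card, sq]
  · -- exponent
    have hsq : ∀ a b, φ (a, b) ^ 2 = φ (0, S a * a) := by
      intro a b
      rw [pow_two, hmul, hadd, hadd, zero_add]
    have h4 : ∀ g : G, g ^ 4 = 1 := by
      intro g
      obtain ⟨⟨a, b⟩, rfl⟩ := hφ.2 g
      have : φ (a, b) ^ 4 = (φ (a, b) ^ 2) ^ 2 := by rw [← pow_mul]
      rw [this, hsq, hsq, map_zero, zero_mul, hone]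
    have hdvd : Monoid.exponent G ∣ 2 ^ 2 := Monoid.exponent_dvd_of_forall_pow_eq_one h4
    obtain ⟨k, hk, hkk⟩ := (Nat.dvd_prime_pow Nat.prime_two).1 hdvd
    have hk2 : k = 2 := by
      by_contra hne
      have hk1 : k ≤ 1 := by omega
      have hd2 : Monoid.exponent G ∣ 2 := by
        rw [hkk]
        calc 2 ^ k ∣ 2 ^ 1 := pow_dvd_pow 2 hk1
          _ = 2 := by norm_num
      have h5 := Monoid.exponent_dvd_iff_forall_pow_eq_one.1 hd2 (φ (1, 0))
      rw [hsq, map_one, mul_one, ← hone] at h5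
      have h6 := hφ.1 h5
      simp only [Prod.mk.injEq] at h6
      exact one_ne_zero h6.2
    rw [hkk, hk2]; norm_num
  · -- card centre
    have : Function.Bijective (fun c : F => (⟨φ (0, c), (hcen 0 c).2 rfl⟩ : Subgroup.center G)) := by
      constructor
      · intro c c' h
        have := congrArg Subtype.val h
        have h3 := hφ.1 this
        simp only [Prod.mk.injEq] at h3
        exact h3.2
      · rintro ⟨z, hz⟩
        obtain ⟨⟨a, c⟩, rfl⟩ := hφ.2 z
        have ha := (hcen a c).1 hz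
        subst ha
        exact ⟨c, rfl⟩
    rw [← Nat.card_congr (Equiv.ofBijective _ this), Nat.card_eq_fintype_card]

end Abstract

section Sylow

variable {F : Type*} [Field F] [Fintype F] {S : F →+* F} {m : ℕ}

theorem uSL_injective {a b a' b' : F} (h : uSL S a b = uSL S a' b') : a = a' ∧ b = b' := by
  have h1 := congrArg (fun g : Matrix.SpecialLinearGroup (Fin 4) F =>
    (g : Matrix (Fin 4) (Fin 4) F) 2 3) h
  have h2 := congrArg (fun g : Matrix.SpecialLinearGroup (Fin 4) F =>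
    (g : Matrix (Fin 4) (Fin 4) F) 1 3) h
  simp [uSL, uMat] at h1 h2
  exact ⟨h1, h2⟩

/-- the subgroup `Q = {uSL a b}` of `Sz` -/
def Qsub (h2 : (2 : F) = 0) (hS : ∀ z, S (S z) = z ^ 2) (m : ℕ) : Subgroup (Cfsg.Sz F m) where
  carrier := {g | ∃ a b : F, (g : Matrix.SpecialLinearGroup (Fin 4) F) = uSL S a b}
  mul_mem' := by
    rintro g h ⟨a, b, hg⟩ ⟨a', b', hh⟩
    refine ⟨a + a', b + b' + S a * a', ?_⟩
    rw [Subgroup.coe_mul, hg, hh, uSL_mul h2 hS]
  one_mem' := ⟨0, 0, by rw [uSL_zero]; rfl⟩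
  inv_mem' := by
    rintro g ⟨a, b, hg⟩
    refine ⟨a, b + S a * a, ?_⟩
    rw [Subgroup.coe_inv, hg, uSL_inv h2 hS]

theorem mem_Qsub (h2 : (2 : F) = 0) (hS : ∀ z, S (S z) = z ^ 2) (g : Cfsg.Sz F m) :
    g ∈ Qsub h2 hS m ↔ ∃ a b : F, (g : Matrix.SpecialLinearGroup (Fin 4) F) = uSL S a b :=
  Iff.rfl

/-- the elements of `Q` as elements of `Sz` -/
def uQ (h2 : (2 : F) = 0) (hS : ∀ z, S (S z) = z ^ 2) (hSdef : ∀ z, S z = z ^ 2 ^ (m + 1))
    (a b : F) : Cfsg.Sz F m := ⟨uSL S a b, uSL_mem h2 hS hSdef a b⟩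

theorem uQ_mul (h2 : (2 : F) = 0) (hS : ∀ z, S (S z) = z ^ 2)
    (hSdef : ∀ z, S z = z ^ 2 ^ (m + 1)) (a b a' b' : F) :
    uQ h2 hS hSdef a b * uQ h2 hS hSdef a' b' = uQ h2 hS hSdef (a + a') (b + b' + S a * a') :=
  Subtype.ext (uSL_mul h2 hS a b a' b')

theorem card_Qsub (h2 : (2 : F) = 0) (hS : ∀ z, S (S z) = z ^ 2)
    (hSdef : ∀ z, S z = z ^ 2 ^ (m + 1)) :
    Nat.card (Qsub h2 hS m) = Fintype.card F ^ 2 := by
  have : Function.Bijective (fun x : F × F =>
      (⟨uQ h2 hS hSdef x.1 x.2, ⟨x.1, x.2, rfl⟩⟩ : Qsub h2 hS m)) := by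
    constructor
    · rintro ⟨a, b⟩ ⟨a', b'⟩ h
      have h1 : uSL S a b = uSL S a' b' :=
        congrArg (fun x : Qsub h2 hS m =>
          ((x : Cfsg.Sz F m) : Matrix.SpecialLinearGroup (Fin 4) F)) h
      obtain ⟨rfl, rfl⟩ := uSL_injective h1
      rfl
    · rintro ⟨⟨g, hg⟩, a, b, hab⟩
      exact ⟨(a, b), Subtype.ext (Subtype.ext hab.symm)⟩
  rw [← Nat.card_congr (Equiv.ofBijective _ this), Nat.card_prod, Nat.card_eq_fintype_card, sq]

theorem factorization_card_Sz (hm : 1 ≤ m) (hF : Fintype.card F = 2 ^ (2 * m + 1)) :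
    (Nat.card (Cfsg.Sz F m)).factorization 2 = 2 * (2 * m + 1) := by
  rw [Cfsg.Agent.S0324.result hm hF]
  set q := 2 ^ (2 * m + 1) with hq
  have hq1 : 2 ≤ q := by
    calc 2 = 2 ^ 1 := by norm_num
      _ ≤ 2 ^ (2 * m + 1) := Nat.pow_le_pow_right (by norm_num) (by omega)
  have hqeven : 2 ∣ q := by rw [hq]; exact dvd_pow_self 2 (by omega)
  have hodd1 : ¬ 2 ∣ q ^ 2 + 1 := by
    intro h
    have : 2 ∣ q ^ 2 := dvd_pow hqeven (by norm_num)
    omega
  have hodd2 : ¬ 2 ∣ q - 1 := by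
    intro h
    omega
  have hne1 : q ^ 2 ≠ 0 := by positivity
  have hne2 : q ^ 2 + 1 ≠ 0 := by positivity
  have hne3 : q - 1 ≠ 0 := by omega
  rw [Nat.factorization_mul (mul_ne_zero hne1 hne2) hne3, Nat.factorization_mul hne1 hne2]
  simp only [Finsupp.coe_add, Pi.add_apply]
  rw [Nat.factorization_eq_zero_of_not_dvd hodd1, Nat.factorization_eq_zero_of_not_dvd hodd2,
    hq, ← pow_mul, Nat.Prime.factorization_pow Nat.prime_two]
  simp [mul_comm]

/-- every Sylow 2-subgroup of `Sz` is a Suzuki 2-group in coordinates -/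
theorem sylow_two_param (hm : 1 ≤ m) (hF : Fintype.card F = 2 ^ (2 * m + 1)) (h2 : (2 : F) = 0)
    (hS : ∀ z, S (S z) = z ^ 2) (hSdef : ∀ z, S z = z ^ 2 ^ (m + 1))
    (P : Sylow 2 (Cfsg.Sz F m)) :
    ∃ (g : Cfsg.Sz F m) (φ : F × F → P), Function.Bijective φ ∧
      (∀ a b, ((φ (a, b) : P) : Cfsg.Sz F m) = g * uQ h2 hS hSdef a b * g⁻¹) ∧
      ∀ a b a' b', φ (a, b) * φ (a', b') = φ (a + a', b + b' + S a * a') := by
  have hcard : Nat.card (Qsub h2 hS m) = 2 ^ (Nat.card (Cfsg.Sz F m)).factorization 2 := by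
    rw [card_Qsub h2 hS hSdef, factorization_card_Sz hm hF, hF, ← pow_mul, mul_comm]
  set P₀ : Sylow 2 (Cfsg.Sz F m) := Sylow.ofCard (Qsub h2 hS m) hcard with hP₀
  obtain ⟨g, hg⟩ := MulAction.exists_smul_eq (Cfsg.Sz F m) P₀ P
  have hmemP : ∀ x : Cfsg.Sz F m, x ∈ P ↔ ∃ a b, x = g * uQ h2 hS hSdef a b * g⁻¹ := by
    intro x
    have hx : x ∈ P ↔ x ∈ (MulAut.conj g • (Qsub h2 hS m : Subgroup (Cfsg.Sz F m))) := by
      rw [← hg]; rfl
    rw [hx, Subgroup.mem_smul_pointwise_iff_exists]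
    constructor
    · rintro ⟨y, hy, rfl⟩
      obtain ⟨a, b, hab⟩ := hy
      refine ⟨a, b, ?_⟩
      rw [MulAut.smul_def, MulAut.conj_apply]
      congr 2
      exact Subtype.ext hab
    · rintro ⟨a, b, rfl⟩
      exact ⟨uQ h2 hS hSdef a b, ⟨a, b, rfl⟩, by rw [MulAut.smul_def, MulAut.conj_apply]⟩
  refine ⟨g, fun x => ⟨g * uQ h2 hS hSdef x.1 x.2 * g⁻¹, (hmemP _).2 ⟨x.1, x.2, rfl⟩⟩, ?_,
    fun a b => rfl, ?_⟩
  · constructor
    · rintro ⟨a, b⟩ ⟨a', b'⟩ h
      have h1 : g * uQ h2 hS hSdef a b * g⁻¹ = g * uQ h2 hS hSdef a' b' * g⁻¹ :=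
        congrArg Subtype.val h
      have h3 : uQ h2 hS hSdef a b = uQ h2 hS hSdef a' b' :=
        mul_left_cancel (mul_right_cancel h1)
      obtain ⟨rfl, rfl⟩ := uSL_injective (congrArg Subtype.val h3)
      rfl
    · rintro ⟨x, hx⟩
      obtain ⟨a, b, rfl⟩ := (hmemP x).1 hx
      exact ⟨(a, b), rfl⟩
  · intro a b a' b'
    apply Subtype.ext
    show g * uQ h2 hS hSdef a b * g⁻¹ * (g * uQ h2 hS hSdef a' b' * g⁻¹)
      = g * uQ h2 hS hSdef (a + a') (b + b' + S a * a') * g⁻¹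
    rw [← uQ_mul]
    group

end Sylow

end Cfsg.Agent.Helper37Sz
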