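import Cfsg.Agent.Lib.Helper37_SzConj

/-!
# The action of the Suzuki group on the ovoid: points, 2-transitivity, Zassenhaus property (helper37)
-/

set_option autoImplicit false
open Cfsg

namespace Cfsg.Agent.Helper37Sz

open Cfsg.Agent.S0335 (sf sf_aniso sf_inv sf_collinear)
open Matrix
open scoped Pointwise

section Points

variable {F : Type*} [Field F] [Fintype F] {S : F →+* F} {m : ℕ}

/-- the point `∞` of the ovoid -/
def ptInf (F : Type*) [Field F] (m : ℕ) : Cfsg.suzukiOvoid F m :=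
  ⟨Cfsg.suzukiPointInfinity F, ⟨![1, 0, 0, 0], by simp, rfl, Or.inl rfl⟩⟩

/-- the affine points of the ovoid -/
def ptAff (hSdef : ∀ z, S z = z ^ 2 ^ (m + 1)) (x y : F) : Cfsg.suzukiOvoid F m :=
  ⟨Projectivization.mk F (pAff S x y) (pAff_ne_zero S x y),
    (mk_mem_ovoid_iff hSdef _ _).2 (isOv_pAff x y)⟩

theorem pt_cases (hSdef : ∀ z, S z = z ^ 2 ^ (m + 1)) (p : Cfsg.suzukiOvoid F m) :
    p = ptInf F m ∨ ∃ x y : F, p = ptAff hSdef x y := by
  obtain ⟨p, hp⟩ := p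
  induction p using Projectivization.ind with
  | h v hv =>
    obtain ⟨c, hc, h | ⟨x, y, h⟩⟩ := (mk_mem_ovoid_iff hSdef v hv).1 hp
    · left
      apply Subtype.ext
      show Projectivization.mk F v hv = Cfsg.suzukiPointInfinity F
      rw [suzukiPointInfinity_eq, Projectivization.mk_eq_mk_iff']
      exact ⟨c, h.symm⟩
    · right
      refine ⟨x, y, Subtype.ext ?_⟩
      show Projectivization.mk F v hv = Projectivization.mk F (pAff S x y) _
      rw [Projectivization.mk_eq_mk_iff']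
      exact ⟨c, h.symm⟩

theorem ptAff_ne_ptInf (hSdef : ∀ z, S z = z ^ 2 ^ (m + 1)) (x y : F) :
    ptAff hSdef x y ≠ ptInf F m := by
  intro h
  have h1 := congrArg Subtype.val h
  change Projectivization.mk F (pAff S x y) _ = Cfsg.suzukiPointInfinity F at h1
  rw [suzukiPointInfinity_eq, Projectivization.mk_eq_mk_iff'] at h1
  obtain ⟨c, hc⟩ := h1
  exact pAff_ne_smul_pInf x y c hc.symm

theorem ptAff_inj (hSdef : ∀ z, S z = z ^ 2 ^ (m + 1)) {x y x' y' : F}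
    (h : ptAff hSdef x y = ptAff hSdef x' y') : x = x' ∧ y = y' := by
  have h1 := congrArg Subtype.val h
  change Projectivization.mk F (pAff S x y) _ = Projectivization.mk F (pAff S x' y') _ at h1
  rw [Projectivization.mk_eq_mk_iff'] at h1
  obtain ⟨c, hc⟩ := h1
  have e3 := congrFun hc 3
  have e2 := congrFun hc 2
  have e1 := congrFun hc 1
  simp [pAff] at e1 e2 e3
  subst e3
  simp at e1 e2
  exact ⟨e2.symm, e1.symm⟩

/-- the action of `Sz` on ovoid points in coordinates -/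
theorem smul_pt_eq_iff (g : Cfsg.Sz F m) {v w : Fin 4 → F} (hv : v ≠ 0) (hw : w ≠ 0)
    (h : Projectivization.mk F v hv ∈ Cfsg.suzukiOvoid F m)
    (h' : Projectivization.mk F w hw ∈ Cfsg.suzukiOvoid F m) :
    g • (⟨Projectivization.mk F v hv, h⟩ : Cfsg.suzukiOvoid F m) = ⟨Projectivization.mk F w hw, h'⟩
      ↔ ∃ c : F, ((g : Matrix.SpecialLinearGroup (Fin 4) F) : Matrix (Fin 4) (Fin 4) F) *ᵥ v
          = c • w := by
  rw [← Subtype.coe_inj, SMul.smul_stabilizer_def]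
  show (g : Matrix.SpecialLinearGroup (Fin 4) F) • Projectivization.mk F v hv = _ ↔ _
  rw [Projectivization.smul_mk, Projectivization.mk_eq_mk_iff']
  constructor
  · rintro ⟨c, hc⟩
    exact ⟨c, hc.symm⟩
  · rintro ⟨c, hc⟩
    exact ⟨c, hc.symm⟩

theorem smul_ptInf_eq_ptInf_iff (g : Cfsg.Sz F m) : g • ptInf F m = ptInf F m ↔
    ∃ c : F, ((g : Matrix.SpecialLinearGroup (Fin 4) F) : Matrix (Fin 4) (Fin 4) F) *ᵥ pInf
      = c • pInf :=
  smul_pt_eq_iff g pInf_ne_zero pInf_ne_zero _ _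

theorem smul_ptInf_eq_ptAff_iff (hSdef : ∀ z, S z = z ^ 2 ^ (m + 1)) (g : Cfsg.Sz F m) (x y : F) :
    g • ptInf F m = ptAff hSdef x y ↔
    ∃ c : F, ((g : Matrix.SpecialLinearGroup (Fin 4) F) : Matrix (Fin 4) (Fin 4) F) *ᵥ pInf
      = c • pAff S x y :=
  smul_pt_eq_iff g pInf_ne_zero (pAff_ne_zero S x y) _ _

theorem smul_ptAff_eq_ptAff_iff (hSdef : ∀ z, S z = z ^ 2 ^ (m + 1)) (g : Cfsg.Sz F m)
    (x y x' y' : F) :
    g • ptAff hSdef x y = ptAff hSdef x' y' ↔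
    ∃ c : F, ((g : Matrix.SpecialLinearGroup (Fin 4) F) : Matrix (Fin 4) (Fin 4) F) *ᵥ pAff S x y
      = c • pAff S x' y' :=
  smul_pt_eq_iff g (pAff_ne_zero S x y) (pAff_ne_zero S x' y') _ _

theorem smul_ptAff_eq_ptInf_iff (hSdef : ∀ z, S z = z ^ 2 ^ (m + 1)) (g : Cfsg.Sz F m)
    (x y : F) :
    g • ptAff hSdef x y = ptInf F m ↔
    ∃ c : F, ((g : Matrix.SpecialLinearGroup (Fin 4) F) : Matrix (Fin 4) (Fin 4) F) *ᵥ pAff S x y
      = c • pInf :=
  smul_pt_eq_iff g (pAff_ne_zero S x y) pInf_ne_zero _ _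

/-- torus and inversion as elements of `Sz` -/
def hQ (hS : ∀ z, S (S z) = z ^ 2) (hSdef : ∀ z, S z = z ^ 2 ^ (m + 1)) (t : Fˣ) : Cfsg.Sz F m :=
  ⟨hSL S t, hSL_mem hS hSdef t⟩

/-- the inversion as an element of `Sz` -/
def wQ (h2 : (2 : F) = 0) (hS : ∀ z, S (S z) = z ^ 2) (hSdef : ∀ z, S z = z ^ 2 ^ (m + 1)) :
    Cfsg.Sz F m := ⟨wSL, wSL_mem h2 hS hSdef⟩

theorem uQ_smul_ptInf (h2 : (2 : F) = 0) (hS : ∀ z, S (S z) = z ^ 2)
    (hSdef : ∀ z, S z = z ^ 2 ^ (m + 1)) (a b : F) :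
    uQ h2 hS hSdef a b • ptInf F m = ptInf F m := by
  rw [smul_ptInf_eq_ptInf_iff]
  exact ⟨1, by rw [one_smul]; exact uMat_mulVec_pInf a b⟩

theorem uQ_smul_ptAff (h2 : (2 : F) = 0) (hS : ∀ z, S (S z) = z ^ 2)
    (hSdef : ∀ z, S z = z ^ 2 ^ (m + 1)) (a b x y : F) :
    uQ h2 hS hSdef a b • ptAff hSdef x y = ptAff hSdef (x + a) (y + b + S a * x) := by
  rw [smul_ptAff_eq_ptAff_iff]
  exact ⟨1, by rw [one_smul]; exact uMat_mulVec_pAff h2 hS a b x y⟩

theorem hQ_smul_ptInf (hS : ∀ z, S (S z) = z ^ 2)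
    (hSdef : ∀ z, S z = z ^ 2 ^ (m + 1)) (t : Fˣ) :
    hQ hS hSdef t • ptInf F m = ptInf F m := by
  rw [smul_ptInf_eq_ptInf_iff]
  exact ⟨_, hMat_mulVec_pInf (t : F)⟩

theorem hQ_smul_ptAff (hS : ∀ z, S (S z) = z ^ 2)
    (hSdef : ∀ z, S z = z ^ 2 ^ (m + 1)) (t : Fˣ) (x y : F) :
    hQ hS hSdef t • ptAff hSdef x y
      = ptAff hSdef ((t : F) ^ 2 * x) (S (t : F) ^ 2 * (t : F) ^ 2 * y) := by
  rw [smul_ptAff_eq_ptAff_iff]
  exact ⟨_, hMat_mulVec_pAff hS t.ne_zero x y⟩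

theorem wQ_smul_ptInf (h2 : (2 : F) = 0) (hS : ∀ z, S (S z) = z ^ 2)
    (hSdef : ∀ z, S z = z ^ 2 ^ (m + 1)) :
    wQ h2 hS hSdef • ptInf F m = ptAff hSdef 0 0 := by
  rw [smul_ptInf_eq_ptAff_iff]
  exact ⟨1, by rw [one_smul]; exact wMat_mulVec_pInf⟩

theorem wQ_smul_ptAff_zero (h2 : (2 : F) = 0) (hS : ∀ z, S (S z) = z ^ 2)
    (hSdef : ∀ z, S z = z ^ 2 ^ (m + 1)) :
    wQ h2 hS hSdef • ptAff hSdef 0 0 = ptInf F m := by
  rw [smul_ptAff_eq_ptInf_iff]
  exact ⟨1, by rw [one_smul]; exact wMat_mulVec_pAff_zero⟩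

/-- any two distinct points can be moved to `(∞, 0)` -/
theorem exists_smul_pair (h2 : (2 : F) = 0) (hS : ∀ z, S (S z) = z ^ 2)
    (hSdef : ∀ z, S z = z ^ 2 ^ (m + 1)) {p q : Cfsg.suzukiOvoid F m} (hpq : p ≠ q) :
    ∃ g : Cfsg.Sz F m, g • p = ptInf F m ∧ g • q = ptAff hSdef 0 0 := by
  have hadd : ∀ x : F, x + x = 0 := fun x => by linear_combination x * h2
  -- first the case `p = ∞`
  have key : ∀ q : Cfsg.suzukiOvoid F m, q ≠ ptInf F m →
      ∃ g : Cfsg.Sz F m, g • ptInf F m = ptInf F m ∧ g • q = ptAff hSdef 0 0 := by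
    intro q hq
    rcases pt_cases hSdef q with rfl | ⟨x, y, rfl⟩
    · exact absurd rfl hq
    · refine ⟨uQ h2 hS hSdef x (y + S x * x), uQ_smul_ptInf h2 hS hSdef _ _, ?_⟩
      rw [uQ_smul_ptAff]
      congr 1
      · exact hadd x
      · linear_combination (y + S x * x) * h2
  rcases pt_cases hSdef p with rfl | ⟨x, y, rfl⟩
  · exact key q (Ne.symm hpq)
  · -- move `p` to `∞`
    obtain ⟨g₀, hg₀⟩ := key (ptAff hSdef x y) (ptAff_ne_ptInf hSdef x y)
    set g₁ : Cfsg.Sz F m := wQ h2 hS hSdef * g₀ with hg₁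
    have h1 : g₁ • ptAff hSdef x y = ptInf F m := by
      rw [hg₁, mul_smul, hg₀.2, wQ_smul_ptAff_zero]
    have h3 : g₁ • q ≠ ptInf F m := by
      rw [← h1]
      intro h
      exact hpq (MulAction.injective g₁ h).symm
    obtain ⟨g₂, hg₂⟩ := key (g₁ • q) h3
    refine ⟨g₂ * g₁, ?_, ?_⟩
    · rw [mul_smul, h1, hg₂.1]
    · rw [mul_smul, hg₂.2]

theorem fix_two_eq_hQ (hm : 1 ≤ m) (hF : Fintype.card F = 2 ^ (2 * m + 1)) (h2 : (2 : F) = 0)
    (hS : ∀ z, S (S z) = z ^ 2) (hSdef : ∀ z, S z = z ^ 2 ^ (m + 1)) {g : Cfsg.Sz F m}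
    (h1 : g • ptInf F m = ptInf F m) (h0 : g • ptAff hSdef 0 0 = ptAff hSdef 0 0) :
    ∃ t : Fˣ, g = hQ hS hSdef t := by
  rw [smul_ptInf_eq_ptInf_iff] at h1
  rw [smul_ptAff_eq_ptAff_iff] at h0
  obtain ⟨c, hc⟩ := h1
  obtain ⟨d, hd⟩ := h0
  obtain ⟨t, ht⟩ := two_pt_struct hm hF h2 hS hSdef g.2 hc hd
  exact ⟨t, Subtype.ext ht⟩

theorem unit_eq_one_of_sq (h2 : (2 : F) = 0) {t : F} (h : t ^ 2 = 1) : t = 1 := by
  have : (t - 1) ^ 2 = 0 := by
    have : (t - 1) ^ 2 = t ^ 2 - 1 + 2 * (1 - t) := by ring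
    rw [this, h, h2]; ring
  have := pow_eq_zero_iff (two_ne_zero) |>.1 this
  linear_combination this

/-- a torus element fixing a third point is trivial -/
theorem hQ_fix_third (h2 : (2 : F) = 0) (hS : ∀ z, S (S z) = z ^ 2)
    (hSdef : ∀ z, S z = z ^ 2 ^ (m + 1)) {t : Fˣ} {x y : F} (hxy : ¬(x = 0 ∧ y = 0))
    (h : hQ hS hSdef t • ptAff hSdef x y = ptAff hSdef x y) : t = 1 := by
  rw [hQ_smul_ptAff] at h
  obtain ⟨e1, e2⟩ := ptAff_inj hSdef h
  apply Units.ext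
  by_cases hx : x = 0
  · have hy : y ≠ 0 := fun hy => hxy ⟨hx, hy⟩
    have h3 : (S (t : F) * (t : F)) ^ 2 = 1 := by
      have : y * ((S (t : F) * (t : F)) ^ 2 - 1) = 0 := by linear_combination e2
      rcases mul_eq_zero.1 this with h | h
      · exact absurd h hy
      · linear_combination h
    have h4 : S (t : F) * (t : F) = 1 := unit_eq_one_of_sq h2 h3
    have h5 : S (S (t : F)) * S (t : F) = 1 := by rw [← map_mul, h4, map_one]
    rw [hS] at h5
    have ht : (t : F) ≠ 0 := t.ne_zero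
    have hSt : S (t : F) ≠ 0 := by simpa using ht
    -- `t^2 * S t = 1 = S t * t` gives `t = 1`
    have : S (t : F) * ((t : F) * ((t : F) - 1)) = 0 := by linear_combination h5 - h4
    rcases mul_eq_zero.1 this with h | h
    · exact absurd h hSt
    · rcases mul_eq_zero.1 h with h | h
      · exact absurd h ht
      · show (t : F) = 1
        linear_combination h
  · have h3 : (t : F) ^ 2 = 1 := by
      have : x * ((t : F) ^ 2 - 1) = 0 := by linear_combination e1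
      rcases mul_eq_zero.1 this with h | h
      · exact absurd h hx
      · linear_combination h
    exact unit_eq_one_of_sq h2 h3

theorem hQ_one (hS : ∀ z, S (S z) = z ^ 2) (hSdef : ∀ z, S z = z ^ 2 ^ (m + 1)) :
    hQ (m := m) hS hSdef 1 = 1 := Subtype.ext hSL_one

/-- the stabiliser of three distinct points of the ovoid is trivial -/
theorem three_pt_trivial (hm : 1 ≤ m) (hF : Fintype.card F = 2 ^ (2 * m + 1)) (h2 : (2 : F) = 0)
    (hS : ∀ z, S (S z) = z ^ 2) (hSdef : ∀ z, S z = z ^ 2 ^ (m + 1)) (g : Cfsg.Sz F m)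
    {a b c : Cfsg.suzukiOvoid F m} (hab : a ≠ b) (hbc : b ≠ c) (hac : a ≠ c)
    (ha : g • a = a) (hb : g • b = b) (hc : g • c = c) : g = 1 := by
  obtain ⟨k, hka, hkb⟩ := exists_smul_pair h2 hS hSdef hab
  set g' : Cfsg.Sz F m := k * g * k⁻¹ with hg'
  have h1 : g' • ptInf F m = ptInf F m := by
    rw [hg', ← hka, ← mul_smul, inv_mul_cancel_right, mul_smul, ha]
  have h0 : g' • ptAff hSdef 0 0 = ptAff hSdef 0 0 := by
    rw [hg', ← hkb, ← mul_smul, inv_mul_cancel_right, mul_smul, hb]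
  have hc' : g' • (k • c) = k • c := by
    rw [hg', ← mul_smul, inv_mul_cancel_right, mul_smul, hc]
  obtain ⟨t, ht⟩ := fix_two_eq_hQ hm hF h2 hS hSdef h1 h0
  have hkc1 : k • c ≠ ptInf F m := by
    rw [← hka]; intro h; exact hac (MulAction.injective k h).symm
  have hkc0 : k • c ≠ ptAff hSdef 0 0 := by
    rw [← hkb]; intro h; exact hbc (MulAction.injective k h).symm
  rcases pt_cases hSdef (k • c) with h | ⟨x, y, h⟩
  · exact absurd h hkc1
  · have hxy : ¬(x = 0 ∧ y = 0) := by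
      rintro ⟨rfl, rfl⟩
      exact hkc0 h
    rw [h, ht] at hc'
    have ht1 := hQ_fix_third h2 hS hSdef hxy hc'
    rw [ht1, hQ_one] at ht
    have : k * g * k⁻¹ = 1 := ht
    have h5 : g = k⁻¹ * (k * g * k⁻¹) * k := by group
    rw [h5, this]; group

end Points

section Regular

/-- an involution acting without fixed points on a finite normal subgroup inverts it -/
theorem inv_of_fpf_involution {G : Type*} [Group G] (N : Subgroup G) [hN : N.Normal] [Finite N]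
    (z : G) (hz : z * z = 1) (hfpf : ∀ n ∈ N, z * n * z⁻¹ = n → n = 1) :
    ∀ n ∈ N, z * n * z⁻¹ = n⁻¹ := by
  have hzinv : z⁻¹ = z := inv_eq_of_mul_eq_one_left hz
  let f : N → N := fun n => ⟨(n : G)⁻¹ * (z * n * z⁻¹),
    N.mul_mem (N.inv_mem n.2) (hN.conj_mem n n.2 z)⟩
  have hinj : Function.Injective f := by
    intro n k h
    have h1 : (n : G)⁻¹ * (z * n * z⁻¹) = (k : G)⁻¹ * (z * k * z⁻¹) := congrArg Subtype.val h
    have h3 : z * ((k : G) * (n : G)⁻¹) * z⁻¹ = (k : G) * (n : G)⁻¹ := by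
      have e1 : z * ((k : G) * (n : G)⁻¹) * z⁻¹
          = (k : G) * ((k : G)⁻¹ * (z * k * z⁻¹)) * ((n : G)⁻¹ * (z * n * z⁻¹))⁻¹ * (n : G)⁻¹ := by
        group
      rw [e1, ← h1]; group
    have h4 := hfpf _ (N.mul_mem k.2 (N.inv_mem n.2)) h3
    have h5 : (k : G) = n := by
      have := mul_inv_eq_one.1 h4
      exact this
    exact Subtype.ext h5.symm
  have hsurj : Function.Surjective f := Finite.injective_iff_surjective.1 hinj
  intro n hn
  obtain ⟨k, hk⟩ := hsurj ⟨n, hn⟩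
  have hk' : (k : G)⁻¹ * (z * k * z⁻¹) = n := congrArg Subtype.val hk
  rw [← hk']
  have e1 : z * ((k : G)⁻¹ * (z * k * z⁻¹)) * z⁻¹ = z * (k : G)⁻¹ * z * k * (z⁻¹ * z⁻¹) := by group
  have e2 : ((k : G)⁻¹ * (z * k * z⁻¹))⁻¹ = z * (k : G)⁻¹ * z⁻¹ * k := by group
  rw [e1, e2, hzinv, hz, mul_one]

end Regular

section NoRegular

variable {F : Type*} [Field F] [Fintype F] {S : F →+* F} {m : ℕ}

theorem uQ_zero_involution (h2 : (2 : F) = 0) (hS : ∀ z, S (S z) = z ^ 2)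
    (hSdef : ∀ z, S z = z ^ 2 ^ (m + 1)) (c : F) :
    uQ (m := m) h2 hS hSdef 0 c * uQ h2 hS hSdef 0 c = 1 := by
  rw [uQ_mul]
  have e : c + c + S 0 * 0 = 0 := by rw [map_zero, mul_zero, add_zero]; linear_combination c * h2
  rw [e, add_zero]
  exact Subtype.ext uSL_zero

theorem uQ_zero_fix (h2 : (2 : F) = 0) (hS : ∀ z, S (S z) = z ^ 2)
    (hSdef : ∀ z, S z = z ^ 2 ^ (m + 1)) {c : F} (hc : c ≠ 0) (p : Cfsg.suzukiOvoid F m)
    (hp : uQ h2 hS hSdef 0 c • p = p) : p = ptInf F m := by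
  rcases pt_cases hSdef p with rfl | ⟨x, y, rfl⟩
  · rfl
  · exfalso
    rw [uQ_smul_ptAff] at hp
    obtain ⟨-, e2⟩ := ptAff_inj hSdef hp
    rw [map_zero, zero_mul, add_zero] at e2
    apply hc
    linear_combination e2

/-- the Suzuki group has no regular normal subgroup on the ovoid -/
theorem no_regular_normal (hm : 1 ≤ m) (hF : Fintype.card F = 2 ^ (2 * m + 1)) (h2 : (2 : F) = 0)
    (hS : ∀ z, S (S z) = z ^ 2) (hSdef : ∀ z, S z = z ^ 2 ^ (m + 1))
    (N : Subgroup (Cfsg.Sz F m)) (hN : N.Normal)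
    (htrans : MulAction.IsPretransitive N (Cfsg.suzukiOvoid F m)) :
    ∃ a : Cfsg.suzukiOvoid F m, MulAction.stabilizer N a ≠ ⊥ := by
  by_contra hcon
  push Not at hcon
  have hq : 2 < Fintype.card F := by
    rw [hF]
    calc 2 = 2 ^ 1 := by norm_num
      _ < 2 ^ (2 * m + 1) := Nat.pow_lt_pow_right (by norm_num) (by omega)
  obtain ⟨τ, hτ0, hτ⟩ := exists_S_ne hS hq
  have hτ1 : 1 + τ ≠ 0 := by
    intro h
    apply hτ
    have : τ = 1 := by
      have : τ = -1 := by linear_combination h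
      rw [this]; linear_combination -h2
    rw [this, map_one]
  -- fixed-point-freeness
  have hfpf : ∀ c : F, c ≠ 0 → ∀ n ∈ N,
      uQ h2 hS hSdef 0 c * n * (uQ h2 hS hSdef 0 c)⁻¹ = n → n = 1 := by
    intro c hc n hn hconj
    have h1 : uQ h2 hS hSdef 0 c • (n • ptInf F m) = n • ptInf F m := by
      have : uQ h2 hS hSdef 0 c * n = n * uQ h2 hS hSdef 0 c := by
        have h := congrArg (fun g => g * uQ h2 hS hSdef 0 c) hconj
        simpa [mul_assoc] using h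
      rw [← mul_smul, this, mul_smul, uQ_smul_ptInf]
    have h3 := uQ_zero_fix h2 hS hSdef hc _ h1
    have h4 : (⟨n, hn⟩ : N) ∈ MulAction.stabilizer N (ptInf F m) := by
      rw [MulAction.mem_stabilizer_iff]
      exact h3
    rw [hcon] at h4
    have := Subgroup.mem_bot.1 h4
    exact congrArg Subtype.val this
  have hinv : ∀ c : F, c ≠ 0 → ∀ n ∈ N,
      uQ h2 hS hSdef 0 c * n * (uQ h2 hS hSdef 0 c)⁻¹ = n⁻¹ := fun c hc =>
    inv_of_fpf_involution N _ (uQ_zero_involution h2 hS hSdef c) (hfpf c hc)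
  -- every element of `N` is an involution
  have hsq : ∀ n ∈ N, n * n = 1 := by
    intro n hn
    have e1 := hinv 1 one_ne_zero n hn
    have e2 := hinv τ hτ0 n hn
    have e3 := hinv (1 + τ) hτ1 n hn
    have e4 : uQ (m := m) h2 hS hSdef 0 (1 + τ) = uQ h2 hS hSdef 0 1 * uQ h2 hS hSdef 0 τ := by
      rw [uQ_mul, map_zero, zero_mul, add_zero, add_zero]
    rw [e4] at e3
    have e5 : uQ h2 hS hSdef 0 1 * uQ h2 hS hSdef 0 τ * n * (uQ h2 hS hSdef 0 1 * uQ h2 hS hSdef 0 τ)⁻¹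
        = uQ h2 hS hSdef 0 1 * (uQ h2 hS hSdef 0 τ * n * (uQ h2 hS hSdef 0 τ)⁻¹)
          * (uQ h2 hS hSdef 0 1)⁻¹ := by group
    rw [e5, e2] at e3
    have e6 : uQ h2 hS hSdef 0 1 * n⁻¹ * (uQ h2 hS hSdef 0 1)⁻¹
        = (uQ h2 hS hSdef 0 1 * n * (uQ h2 hS hSdef 0 1)⁻¹)⁻¹ := by group
    rw [e6, e1, inv_inv] at e3
    -- `n = n⁻¹`
    rw [← eq_inv_iff_mul_eq_one]
    exact e3
  -- an element of `N` moving `∞` to `0`
  obtain ⟨n, hn⟩ := MulAction.exists_smul_eq N (ptInf F m) (ptAff hSdef 0 0)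
  have hn1 : n ≠ 1 := by
    rintro rfl
    rw [one_smul] at hn
    exact ptAff_ne_ptInf hSdef 0 0 hn.symm
  have hn2 : n ^ 2 = 1 := by
    rw [pow_two]
    exact Subtype.ext (hsq n n.2)
  have hord : orderOf n = 2 := orderOf_eq_prime hn2 hn1
  have hdvd : 2 ∣ Nat.card N := by rw [← hord]; exact orderOf_dvd_natCard n
  -- `|N| = |O| = q² + 1`
  have hcardN : Nat.card N = Fintype.card F ^ 2 + 1 := by
    have h1 := Nat.card_congr (MulAction.orbitEquivQuotientStabilizer N (ptInf F m))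
    have h3 := Subgroup.card_eq_card_quotient_mul_card_subgroup
      (MulAction.stabilizer N (ptInf F m))
    rw [← h1, hcon, Subgroup.card_bot, mul_one, MulAction.orbit_eq_univ,
      Nat.card_congr (Equiv.Set.univ _), Cfsg.Agent.S0326.result] at h3
    exact h3
  rw [hcardN, hF] at hdvd
  have : 2 ∣ (2 ^ (2 * m + 1)) ^ 2 := dvd_pow (dvd_pow_self 2 (by omega)) (by norm_num)
  omega

end NoRegular

end Cfsg.Agent.Helper37Sz
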