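import Mathlib
import Cfsg.Agent.Lib.Helper37_SzZass
import Cfsg.Agent.Lib.Helper37_SzSylow

/-!
# sz8 market (helper35, S2112), package SZ8-GEN: generators of the Suzuki group
-/

set_option autoImplicit false
set_option linter.unusedVariables false
set_option linter.unusedSectionVars false
set_option linter.unusedSimpArgs false
open Cfsg

namespace Cfsg.Agent.Lib.Helper70_SZ8_GEN

open Cfsg.Agent.Helper37Sz

section Gen

variable {F : Type*} [Field F] [Fintype F] {S : F →+* F} {m : ℕ}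

/-- the Suzuki group is generated by its standard elements -/
theorem closure_std_eq_top (hm : 1 ≤ m) (hF : Fintype.card F = 2 ^ (2 * m + 1)) (h2 : (2 : F) = 0)
    (hS : ∀ z, S (S z) = z ^ 2) (hSdef : ∀ z, S z = z ^ 2 ^ (m + 1)) :
    Subgroup.closure ({g : Cfsg.Sz F m | (∃ a b : F, g = uQ h2 hS hSdef a b) ∨
      (∃ t : Fˣ, g = hQ hS hSdef t) ∨ g = wQ h2 hS hSdef}) = ⊤ := by
  rw [eq_top_iff]
  intro g _
  have hu : ∀ a b : F, uQ h2 hS hSdef a b ∈ Subgroup.closure ({g : Cfsg.Sz F m |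
      (∃ a b : F, g = uQ h2 hS hSdef a b) ∨
      (∃ t : Fˣ, g = hQ hS hSdef t) ∨ g = wQ h2 hS hSdef}) :=
    fun a b => Subgroup.subset_closure (Or.inl ⟨a, b, rfl⟩)
  have hh : ∀ t : Fˣ, hQ hS hSdef t ∈ Subgroup.closure ({g : Cfsg.Sz F m |
      (∃ a b : F, g = uQ h2 hS hSdef a b) ∨
      (∃ t : Fˣ, g = hQ hS hSdef t) ∨ g = wQ h2 hS hSdef}) :=
    fun t => Subgroup.subset_closure (Or.inr (Or.inl ⟨t, rfl⟩))
  have hw : wQ h2 hS hSdef ∈ Subgroup.closure ({g : Cfsg.Sz F m |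
      (∃ a b : F, g = uQ h2 hS hSdef a b) ∨
      (∃ t : Fˣ, g = hQ hS hSdef t) ∨ g = wQ h2 hS hSdef}) :=
    Subgroup.subset_closure (Or.inr (Or.inr rfl))
  rcases Sz_decomp hm hF h2 hS hSdef g.2 with ⟨a, b, t, h⟩ | ⟨a, b, a', b', t, h⟩
  · have e : g = uQ h2 hS hSdef a b * hQ hS hSdef t := Subtype.ext h
    rw [e]
    exact Subgroup.mul_mem _ (hu a b) (hh t)
  · have e : g = uQ h2 hS hSdef a b * wQ h2 hS hSdef *
        (uQ h2 hS hSdef a' b' * hQ hS hSdef t) := Subtype.ext h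
    rw [e]
    exact Subgroup.mul_mem _ (Subgroup.mul_mem _ (hu a b) hw) (Subgroup.mul_mem _ (hu a' b') (hh t))

theorem hQ_mul' (hS : ∀ z, S (S z) = z ^ 2) (hSdef : ∀ z, S z = z ^ 2 ^ (m + 1)) (t t' : Fˣ) :
    hQ (m := m) hS hSdef (t * t') = hQ hS hSdef t * hQ hS hSdef t' :=
  Subtype.ext (hSL_mul t t').symm

/-- the torus as a homomorphism -/
def hQhom (hS : ∀ z, S (S z) = z ^ 2) (hSdef : ∀ z, S z = z ^ 2 ^ (m + 1)) : Fˣ →* Cfsg.Sz F m :=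
  MonoidHom.mk' (hQ hS hSdef) (hQ_mul' hS hSdef)

theorem hQ_mul_uQ' (h2 : (2 : F) = 0) (hS : ∀ z, S (S z) = z ^ 2)
    (hSdef : ∀ z, S z = z ^ 2 ^ (m + 1)) (t : Fˣ) (a b : F) :
    hQ hS hSdef t * uQ h2 hS hSdef a b =
      uQ h2 hS hSdef ((t : F) ^ 2 * a) (S (t : F) ^ 2 * (t : F) ^ 2 * b) * hQ hS hSdef t :=
  Subtype.ext (hSL_mul_uSL hS t a b)

/-- over the field with eight elements three elements suffice -/
theorem closure_three_eq_top (hF : Fintype.card F = 8) (h2 : (2 : F) = 0)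
    (hS : ∀ z, S (S z) = z ^ 2) (hSdef : ∀ z, S z = z ^ 2 ^ (1 + 1))
    (t0 : Fˣ) (ht0 : ∀ t : Fˣ, t ∈ Subgroup.zpowers t0) :
    Subgroup.closure ({uQ (m := 1) h2 hS hSdef 1 0, hQ (m := 1) hS hSdef t0,
      wQ (m := 1) h2 hS hSdef} : Set (Cfsg.Sz F 1)) = ⊤ := by
  have hF' : Fintype.card F = 2 ^ (2 * 1 + 1) := by rw [hF]; norm_num
  have hu10 : uQ (m := 1) h2 hS hSdef 1 0 ∈ Subgroup.closure ({uQ (m := 1) h2 hS hSdef 1 0,
      hQ (m := 1) hS hSdef t0, wQ (m := 1) h2 hS hSdef} : Set (Cfsg.Sz F 1)) :=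
    Subgroup.subset_closure (by simp)
  have hht0 : hQ (m := 1) hS hSdef t0 ∈ Subgroup.closure ({uQ (m := 1) h2 hS hSdef 1 0,
      hQ (m := 1) hS hSdef t0, wQ (m := 1) h2 hS hSdef} : Set (Cfsg.Sz F 1)) :=
    Subgroup.subset_closure (by simp)
  have hw : wQ (m := 1) h2 hS hSdef ∈ Subgroup.closure ({uQ (m := 1) h2 hS hSdef 1 0,
      hQ (m := 1) hS hSdef t0, wQ (m := 1) h2 hS hSdef} : Set (Cfsg.Sz F 1)) :=
    Subgroup.subset_closure (by simp)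
  -- the whole torus
  have hh : ∀ t : Fˣ, hQ (m := 1) hS hSdef t ∈ Subgroup.closure ({uQ (m := 1) h2 hS hSdef 1 0,
      hQ (m := 1) hS hSdef t0, wQ (m := 1) h2 hS hSdef} : Set (Cfsg.Sz F 1)) := by
    intro t
    obtain ⟨n, rfl⟩ := Subgroup.mem_zpowers_iff.1 (ht0 t)
    have e : hQ (m := 1) hS hSdef (t0 ^ n) = (hQ (m := 1) hS hSdef t0) ^ n :=
      map_zpow (hQhom (m := 1) hS hSdef) t0 n
    rw [e]
    exact Subgroup.zpow_mem _ hht0 n
  -- `u(a,0)`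
  have hz : uQ (m := 1) h2 hS hSdef 0 0 = 1 := Subtype.ext uSL_zero
  have hua : ∀ a : F, uQ (m := 1) h2 hS hSdef a 0 ∈ Subgroup.closure ({uQ (m := 1) h2 hS hSdef 1 0,
      hQ (m := 1) hS hSdef t0, wQ (m := 1) h2 hS hSdef} : Set (Cfsg.Sz F 1)) := by
    intro a
    by_cases ha : a = 0
    · rw [ha, hz]; exact Subgroup.one_mem _
    · have ha8 : a ^ 8 = a := by
        have := FiniteField.pow_card a
        rwa [hF] at this
      have ha4 : a ^ 4 ≠ 0 := pow_ne_zero 4 ha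
      have h1 := hQ_mul_uQ' (m := 1) h2 hS hSdef (Units.mk0 (a ^ 4) ha4) 1 0
      have e1 : ((Units.mk0 (a ^ 4) ha4 : Fˣ) : F) ^ 2 * 1 = a := by
        rw [Units.val_mk0, mul_one, ← pow_mul]; exact ha8
      rw [e1, mul_zero] at h1
      have h3 : uQ (m := 1) h2 hS hSdef a 0 =
          hQ (m := 1) hS hSdef (Units.mk0 (a ^ 4) ha4) * uQ (m := 1) h2 hS hSdef 1 0 *
            (hQ (m := 1) hS hSdef (Units.mk0 (a ^ 4) ha4))⁻¹ := by
        rw [h1, mul_inv_cancel_right]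
      rw [h3]
      exact Subgroup.mul_mem _ (Subgroup.mul_mem _ (hh _) hu10) (Subgroup.inv_mem _ (hh _))
  -- `u(0,b)`
  have hS1 : S 1 = 1 := map_one S
  have hub : ∀ b : F, uQ (m := 1) h2 hS hSdef 0 b ∈ Subgroup.closure ({uQ (m := 1) h2 hS hSdef 1 0,
      hQ (m := 1) hS hSdef t0, wQ (m := 1) h2 hS hSdef} : Set (Cfsg.Sz F 1)) := by
    intro b
    have e1 : uQ (m := 1) h2 hS hSdef 1 0 * uQ (m := 1) h2 hS hSdef b 0 =
        uQ (m := 1) h2 hS hSdef (1 + b) b := by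
      rw [uQ_mul, hS1]; congr 1; ring
    have e2 : uQ (m := 1) h2 hS hSdef (1 + b) 0 * uQ (m := 1) h2 hS hSdef 0 b =
        uQ (m := 1) h2 hS hSdef (1 + b) b := by
      rw [uQ_mul]; congr 1 <;> ring
    have e3 : uQ (m := 1) h2 hS hSdef 0 b = (uQ (m := 1) h2 hS hSdef (1 + b) 0)⁻¹ *
        (uQ (m := 1) h2 hS hSdef 1 0 * uQ (m := 1) h2 hS hSdef b 0) := by
      rw [e1, ← e2, inv_mul_cancel_left]
    rw [e3]
    exact Subgroup.mul_mem _ (Subgroup.inv_mem _ (hua _)) (Subgroup.mul_mem _ hu10 (hua b))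
  have hu : ∀ a b : F, uQ (m := 1) h2 hS hSdef a b ∈ Subgroup.closure ({uQ (m := 1) h2 hS hSdef 1 0,
      hQ (m := 1) hS hSdef t0, wQ (m := 1) h2 hS hSdef} : Set (Cfsg.Sz F 1)) := by
    intro a b
    have e : uQ (m := 1) h2 hS hSdef a b = uQ (m := 1) h2 hS hSdef a 0 * uQ (m := 1) h2 hS hSdef 0 b := by
      rw [uQ_mul]; congr 1 <;> ring
    rw [e]
    exact Subgroup.mul_mem _ (hua a) (hub b)
  rw [eq_top_iff, ← closure_std_eq_top (m := 1) le_rfl hF' h2 hS hSdef, Subgroup.closure_le]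
  rintro g (⟨a, b, rfl⟩ | ⟨t, rfl⟩ | rfl)
  · exact hu a b
  · exact hh t
  · exact hw

end Gen

end Cfsg.Agent.Lib.Helper70_SZ8_GEN
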