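import Mathlib
import Cfsg.Agent.Lib.Helper35_Sz8Rel
import Cfsg.Agent.Lib.Helper70_SZ8_GEN

/-!
# The presented cover maps onto `Sz(8)` over the explicit field `F8` (helper35, for S2112)
-/

set_option autoImplicit false
open Cfsg

namespace Cfsg.Agent.Lib.Helper35_Sz8Tau

open Cfsg.Agent.Helper37Sz
open Cfsg.Agent.Lib.Helper61_F8 Cfsg.Agent.Lib.Helper35_Sz8Pres Cfsg.Agent.Lib.Helper35_Sz8Rel
open Cfsg.Agent.Lib.Helper35_Sz8CertBase Cfsg.Agent.Lib.Helper35_CosetCertDefs

theorem two8 : (2 : F8) = 0 := by decide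

/-- the Tits endomorphism of `F8` -/
noncomputable def S8 : F8 →+* F8 := sgHom F8 1 two8

theorem hSdef8 : ∀ z, S8 z = z ^ 2 ^ (1 + 1) := fun z => sgHom_apply 1 two8 z

theorem hS8 : ∀ z, S8 (S8 z) = z ^ 2 := fun z =>
  sgHom_sgHom (m := 1) (by rw [F8.card]; norm_num) two8 z

/-- the matrix of an element -/
def toMat : Cfsg.Sz F8 1 →* Matrix (Fin 4) (Fin 4) F8 where
  toFun g := ((g : Matrix.SpecialLinearGroup (Fin 4) F8) : Matrix (Fin 4) (Fin 4) F8)
  map_one' := rfl
  map_mul' _ _ := rfl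

theorem toMat_injective : Function.Injective toMat := by
  intro a b h
  exact Subtype.ext (Subtype.ext h)

/-- a generator of the multiplicative group -/
def t1 : F8ˣ := Units.mk0 e5 (by decide)

/-- the images of the generators -/
noncomputable def x8 : Cfsg.Sz F8 1 := uQ two8 hS8 hSdef8 1 1

/-- the images of the generators -/
noncomputable def h8 : Cfsg.Sz F8 1 := hQ hS8 hSdef8 t1

/-- the images of the generators -/
noncomputable def w8 : Cfsg.Sz F8 1 := wQ two8 hS8 hSdef8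

theorem toMat_x8 : toMat x8 = mX := by
  show uMat S8 1 1 = mX
  unfold uMat Cfsg.Agent.S0335.sf
  simp only [hSdef8]
  decide

theorem toMat_u10 : toMat (uQ two8 hS8 hSdef8 1 0) = mx := by
  show uMat S8 1 0 = mx
  unfold uMat Cfsg.Agent.S0335.sf
  simp only [hSdef8]
  decide

theorem toMat_h8 : toMat h8 = mH := by
  show hMat S8 ((t1 : F8ˣ) : F8) = mH
  unfold hMat
  simp only [hSdef8]
  decide

theorem toMat_w8 : toMat w8 = mW := by
  show wMat = mW
  unfold wMat
  decide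

theorem toMat_inv_of {g : Cfsg.Sz F8 1} {A B : Matrix (Fin 4) (Fin 4) F8} (hg : toMat g = A)
    (h1 : B * A = 1) : toMat g⁻¹ = B := by
  have h2 : toMat g * toMat g⁻¹ = 1 := by rw [← map_mul, mul_inv_cancel, map_one]
  calc toMat g⁻¹ = (B * A) * toMat g⁻¹ := by rw [h1, one_mul]
    _ = B * (toMat g * toMat g⁻¹) := by rw [hg, mul_assoc]
    _ = B := by rw [h2, mul_one]

theorem toMat_x8_inv : toMat x8⁻¹ = mx := toMat_inv_of toMat_x8 mx_mul_mX

theorem toMat_h8_inv : toMat h8⁻¹ = mh := toMat_inv_of toMat_h8 mh_mul_mH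

theorem w8_mul_w8 : w8 * w8 = 1 := by
  apply toMat_injective
  rw [map_mul, toMat_w8, map_one, mW_mul_mW]

theorem rel_sz8 : ∀ r ∈ rels, wprod (letters x8 h8 w8) r = 1 := by
  intro r hr
  apply toMat_injective
  rw [map_one, wprod_eq_mprod, map_mprod]
  have e : (fun s => toMat (letters x8 h8 w8 s)) = letters5 mX mx mH mh mW := by
    funext s
    unfold letters
    rw [map_letters5, toMat_x8, toMat_x8_inv, toMat_h8, toMat_h8_inv, toMat_w8]
  rw [e]
  exact rel_mat r hr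

theorem mem_zpowers_t1 (t : F8ˣ) : t ∈ Subgroup.zpowers t1 := by
  have : Fact (Nat.Prime 7) := ⟨by norm_num⟩
  have hc : Nat.card F8ˣ = 7 := by
    rw [Nat.card_eq_fintype_card, Fintype.card_units, F8.card]
  have h1 : t1 ≠ 1 := by
    intro h
    have h2 : ((t1 : F8ˣ) : F8) = 1 := by rw [h]; rfl
    revert h2
    decide
  exact mem_zpowers_of_prime_card hc h1

/-- the presented cover maps onto the Suzuki group -/
theorem exists_hom_sz8 : ∃ τ : Cover →* Cfsg.Sz F8 1, Function.Surjective τ := by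
  obtain ⟨φ, hx, hh, hw⟩ := exists_hom x8 h8 w8 w8_mul_w8 rel_sz8
  refine ⟨φ, ?_⟩
  rw [← MonoidHom.range_eq_top, eq_top_iff,
    ← Cfsg.Agent.Lib.Helper70_SZ8_GEN.closure_three_eq_top F8.card two8 hS8 hSdef8 t1 mem_zpowers_t1,
    Subgroup.closure_le]
  rintro g (rfl | rfl | rfl)
  · have e : uQ two8 hS8 hSdef8 1 0 = x8⁻¹ := by
      apply toMat_injective
      rw [toMat_u10, toMat_x8_inv]
    rw [e, ← hx]
    exact ⟨gX⁻¹, map_inv φ gX⟩
  · exact ⟨gH, hh⟩
  · exact ⟨gW, hw⟩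

end Cfsg.Agent.Lib.Helper35_Sz8Tau
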