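import Cfsg.Agent.Lib.Helper35_SzMultMain
import Cfsg.Agent.Lib.Helper35_Sz8Gen
import Cfsg.Agent.Lib.Helper35_Sz8Beta

/-!
# The kernel of a stem extension of `Sz(8)` (helper35, for S2112)

Every finite stem extension of `Cfsg.Sz F 1`, `|F| = 8`, has a kernel which is the image of the
additive group of `F` under a homomorphism killing `1` whose values have order at most two.
-/

set_option autoImplicit false
open Cfsg

namespace Cfsg.Agent.Lib.Helper35_Sz8Upper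

open scoped commutatorElement
open Cfsg.Agent.Helper37Sz Cfsg.Agent.Lib.Helper6_SzCent Cfsg.Agent.Lib.Helper6_SzTori
open Cfsg.Agent.Lib.Helper6_SzPartition Cfsg.Agent.Lib.Helper6_SzToriClass
open Cfsg.Agent.Lib.Helper66_StemTools Cfsg.Agent.Lib.Helper35_SzMultMain
open Cfsg.Agent.Lib.Helper35_Sz8Base Cfsg.Agent.Lib.Helper35_Sz8Gen Cfsg.Agent.Lib.Helper35_Sz8Beta

section Quot

variable {Γ G : Type*} [Group Γ] [Group G]

/-- the quotient of a stem extension by a subgroup of the kernel is a stem extension -/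
theorem isStemExtension_lift (σ : Γ →* G) (hσ : IsStemExtension σ) (Z0 : Subgroup Γ) [Z0.Normal]
    (h : Z0 ≤ σ.ker) : IsStemExtension (QuotientGroup.lift Z0 σ (fun _ hx => h hx)) := by
  obtain ⟨hs, hc, hd⟩ := hσ
  have hker : ∀ q : Γ ⧸ Z0, q ∈ (QuotientGroup.lift Z0 σ (fun _ hx => h hx)).ker →
      ∃ x ∈ σ.ker, q = QuotientGroup.mk x := by
    intro q hq
    obtain ⟨x, rfl⟩ := QuotientGroup.mk_surjective q
    exact ⟨x, by rwa [MonoidHom.mem_ker, QuotientGroup.lift_mk] at hq, rfl⟩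
  refine ⟨?_, ?_, ?_⟩
  · intro g
    obtain ⟨x, rfl⟩ := hs g
    exact ⟨QuotientGroup.mk x, QuotientGroup.lift_mk _ _ _⟩
  · intro q hq
    obtain ⟨x, hx, rfl⟩ := hker q hq
    rw [Subgroup.mem_center_iff]
    intro y
    obtain ⟨y, rfl⟩ := QuotientGroup.mk_surjective y
    rw [← QuotientGroup.mk_mul, ← QuotientGroup.mk_mul, Subgroup.mem_center_iff.mp (hc hx) y]
  · intro q hq
    obtain ⟨x, hx, rfl⟩ := hker q hq
    have h1 : x ∈ commutator Γ := hd hx
    have h2 : (commutator Γ).map (QuotientGroup.mk' Z0) ≤ commutator (Γ ⧸ Z0) := by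
      rw [commutator_def, commutator_def, Subgroup.map_commutator]
      exact Subgroup.commutator_mono le_top le_top
    exact h2 ⟨x, h1, rfl⟩

/-- if the quotient extension is an isomorphism, the kernel is the subgroup -/
theorem ker_le_of_lift_ker_eq_bot (σ : Γ →* G) (Z0 : Subgroup Γ) [Z0.Normal] (h : Z0 ≤ σ.ker)
    (hbot : (QuotientGroup.lift Z0 σ (fun _ hx => h hx)).ker = ⊥) : σ.ker ≤ Z0 := by
  intro x hx
  have h1 : (QuotientGroup.mk x : Γ ⧸ Z0) ∈ (QuotientGroup.lift Z0 σ (fun _ hx => h hx)).ker := by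
    rwa [MonoidHom.mem_ker, QuotientGroup.lift_mk]
  rw [hbot, Subgroup.mem_bot, QuotientGroup.eq_one_iff] at h1
  exact h1

end Quot

section Main

variable {F : Type*} [Field F] [Fintype F] {S : F →+* F} {m : ℕ}

/-- the basic hypotheses hold for the Suzuki group -/
theorem hypB (hm : 1 ≤ m) (hF : Fintype.card F = 2 ^ (2 * m + 1)) (h2 : (2 : F) = 0)
    (hS : ∀ z, S (S z) = z ^ 2) (hSdef : ∀ z, S z = z ^ 2 ^ (m + 1))
    {Γ : Type*} [Group Γ] (σ : Γ →* Cfsg.Sz F m) (hs : Function.Surjective σ)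
    (hc : σ.ker ≤ Subgroup.center Γ) :
    HypB S m (uQ h2 hS hSdef) (hQ hS hSdef) σ where
  hm := hm
  hF := hF
  h2 := h2
  hS := hS
  hSdef := hSdef
  hu := uQ_mul h2 hS hSdef
  hinj := by
    intro b hb
    have h1 : uSL S 0 b = uSL S 0 0 := by
      rw [uSL_zero]
      exact congrArg Subtype.val hb
    exact (uSL_injective h1).2
  hh := by
    intro t a b
    rw [mul_inv_eq_iff_eq_mul]
    apply Subtype.ext
    exact hSL_mul_uSL hS t a b
  hhc := hQ_comm hS hSdef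
  hs := hs
  hc := hc

variable {Γ : Type*} [Group Γ] (σ : Γ →* Cfsg.Sz F m)

/-- the 2-part: transfer into the preimage of the Sylow 2-subgroup, under the second set of
hypotheses -/
theorem pow_Q8 (h2 : (2 : F) = 0) (hS : ∀ z, S (S z) = z ^ 2)
    (hSdef : ∀ z, S z = z ^ 2 ^ (m + 1)) (H : Hyp8 S m (uQ h2 hS hSdef) (hQ hS hSdef) σ)
    (hstem : IsStemExtension σ) (z : Γ) (hz : z ∈ σ.ker) :
    z ^ (Qsub h2 hS m).index = 1 := by
  obtain ⟨hs, hc, hd⟩ := hstem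
  obtain ⟨R, hR1, hR2⟩ := H.exists_R
  set Sh : Subgroup Γ := (Qsub h2 hS m).comap σ with hSh
  have hidx : Sh.index = (Qsub h2 hS m).index := Subgroup.index_comap_of_surjective _ hs
  have : Sh.FiniteIndex := ⟨by rw [hidx]; exact Subgroup.FiniteIndex.index_ne_zero⟩
  obtain ⟨hmem, hcomm⟩ := pow_index_mem_commutator Sh z (hc hz) (hd hz)
  have hle : commutator Sh ≤ R.subgroupOf Sh := by
    rw [commutator_eq_closure, Subgroup.closure_le]
    rintro _ ⟨x, y, rfl⟩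
    obtain ⟨a, b, hx⟩ := x.2
    obtain ⟨a', b', hy⟩ := y.2
    show ((⁅x, y⁆ : Sh) : Γ) ∈ R
    exact hR2 x y a b a' b' (Subtype.ext hx) (Subtype.ext hy)
  have h1 : z ^ Sh.index ∈ R := hle hcomm
  have h3 : z ^ Sh.index ∈ R ⊓ σ.ker := ⟨h1, Subgroup.pow_mem _ hz _⟩
  rw [hR1, Subgroup.mem_bot, hidx] at h3
  exact h3

/-- a stem extension of `Sz(q)` whose kernel is killed by the index of the Sylow 2-subgroup is an
isomorphism -/
theorem ker_eq_bot_of_pow_Q (hm1 : 1 ≤ m) (hF : Fintype.card F = 2 ^ (2 * m + 1))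
    (hstem : IsStemExtension σ)
    (hQ : ∀ (h2 : (2 : F) = 0) (hS : ∀ z, sgHom F m h2 (sgHom F m h2 z) = z ^ 2),
      ∀ z ∈ σ.ker, z ^ (Qsub h2 hS m).index = 1) : σ.ker = ⊥ := by
  have h2 : (2 : F) = 0 := two_eq_zero_of_card hF
  set S : F →+* F := sgHom F m h2 with hSd
  have hSdef : ∀ z, S z = z ^ 2 ^ (m + 1) := fun z => sgHom_apply m h2 z
  have hS : ∀ z, S (S z) = z ^ 2 := fun z => sgHom_sgHom hF h2 z
  obtain ⟨hq2, hrq, hfac⟩ := q_facts m
  rw [eq_bot_iff]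
  intro z hz
  rw [Subgroup.mem_bot]
  have hst := hstem
  obtain ⟨hs, hc, hd⟩ := hstem
  -- the 2-part
  have hA : orderOf z ∣ ((2 ^ (2 * m + 1)) ^ 2 + 1) * (2 ^ (2 * m + 1) - 1) := by
    have h1 := hQ h2 hS z hz
    rw [index_of_card hm1 hF (Qsub h2 hS m) ((2 ^ (2 * m + 1)) ^ 2)
      (((2 ^ (2 * m + 1)) ^ 2 + 1) * (2 ^ (2 * m + 1) - 1)) (by positivity)
      (by rw [card_Qsub h2 hS hSdef, hF]) (by ring)] at h1
    exact orderOf_dvd_of_pow_eq_one h1
  -- the split torus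
  have hB : orderOf z ∣ (2 ^ (2 * m + 1)) ^ 2 * ((2 ^ (2 * m + 1)) ^ 2 + 1) := by
    have hne : ptInf F m ≠ ptAff hSdef 0 0 := (ptAff_ne_ptInf hSdef 0 0).symm
    have := isCyclic_twoPt hm1 hF hne
    have h1 := Cfsg.Agent.Lib.Helper59_Stem.ker_pow_index_eq_one σ hs hc hd
      (twoPt (ptInf F m) (ptAff hSdef 0 0)) z hz
    rw [index_of_card hm1 hF _ (2 ^ (2 * m + 1) - 1)
      ((2 ^ (2 * m + 1)) ^ 2 * ((2 ^ (2 * m + 1)) ^ 2 + 1)) (by omega)
      (card_twoPt hm1 hF hne) (by ring)] at h1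
    exact orderOf_dvd_of_pow_eq_one h1
  -- the two nonsplit tori
  obtain ⟨g₁, g₂, hg₁, hg₂, hc₁, hc₂, -⟩ := tori_classification hm1 hF
  have hC2 : orderOf z ∣ (2 ^ (2 * m + 1)) ^ 2 * (2 ^ (2 * m + 1) - 1) *
      (2 ^ (2 * m + 1) - 2 ^ (m + 1) + 1) := by
    have := isCyclic_centralizer_of_no_fixed hm1 hF hg₁
    have h1 := Cfsg.Agent.Lib.Helper59_Stem.ker_pow_index_eq_one σ hs hc hd (torus g₁) z hz
    rw [index_of_card hm1 hF _ (2 ^ (2 * m + 1) + 2 ^ (m + 1) + 1)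
      ((2 ^ (2 * m + 1)) ^ 2 * (2 ^ (2 * m + 1) - 1) * (2 ^ (2 * m + 1) - 2 ^ (m + 1) + 1))
      (by omega) hc₁ (by rw [hfac]; ring)] at h1
    exact orderOf_dvd_of_pow_eq_one h1
  have hC1 : orderOf z ∣ (2 ^ (2 * m + 1)) ^ 2 * (2 ^ (2 * m + 1) - 1) *
      (2 ^ (2 * m + 1) + 2 ^ (m + 1) + 1) := by
    have := isCyclic_centralizer_of_no_fixed hm1 hF hg₂
    have h1 := Cfsg.Agent.Lib.Helper59_Stem.ker_pow_index_eq_one σ hs hc hd (torus g₂) z hz
    rw [index_of_card hm1 hF _ (2 ^ (2 * m + 1) - 2 ^ (m + 1) + 1)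
      ((2 ^ (2 * m + 1)) ^ 2 * (2 ^ (2 * m + 1) - 1) * (2 ^ (2 * m + 1) + 2 ^ (m + 1) + 1))
      (by omega) hc₂ (by rw [hfac]; ring)] at h1
    exact orderOf_dvd_of_pow_eq_one h1
  exact orderOf_eq_one_iff.mp (arith m (orderOf z) hA hB hC2 hC1)

end Main

section Eight

variable {F : Type*} [Field F] [Fintype F]

theorem normal_of_le_center' {Γ : Type*} [Group Γ] (Z : Subgroup Γ) (h : Z ≤ Subgroup.center Γ) :
    Z.Normal := by
  constructor
  intro n hn g
  rw [Subgroup.mem_center_iff.mp (h hn) g, mul_inv_cancel_right]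
  exact hn

/-- **The kernel of a finite stem extension of `Sz(8)`** has at most four elements and
exponent two. -/
theorem ker_small (hF : Fintype.card F = 8)
    (hT : ∃ a a' a'' : F,
      a'' * (a ^ 4 * a' + a' ^ 4 * a) ^ 4 + a * (a' ^ 4 * a'' + a'' ^ 4 * a') ^ 4 +
        a' * (a'' ^ 4 * a + a ^ 4 * a'') ^ 4 = 1)
    {Γ : Type*} [Group Γ] (σ : Γ →* Cfsg.Sz F 1) (hσ : IsStemExtension σ) :
    Nat.card σ.ker ≤ 4 ∧ ∀ z ∈ σ.ker, z * z = 1 := by
  have hF' : Fintype.card F = 2 ^ (2 * 1 + 1) := by rw [hF]; norm_num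
  have h2 : (2 : F) = 0 := two_eq_zero_of_card hF'
  set S : F →+* F := sgHom F 1 h2 with hSd
  have hSdef : ∀ z, S z = z ^ 2 ^ (1 + 1) := fun z => sgHom_apply 1 h2 z
  have hS : ∀ z, S (S z) = z ^ 2 := fun z => sgHom_sgHom hF' h2 z
  have hst := hσ
  obtain ⟨hs, hc, hd⟩ := hσ
  have H := hypB (m := 1) le_rfl hF' h2 hS hSdef σ hs hc
  obtain ⟨t1, ht1⟩ := H.exists_t1
  have h1 : HypEight.phi H t1 1 = 1 := HypEight.phi_one H t1 ht1 hT
  set Z0 : Subgroup Γ := (HypEight.phiHom H t1 ht1).range with hZ0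
  have hle : Z0 ≤ σ.ker := HypEight.range_le_ker H t1 ht1
  have : Z0.Normal := normal_of_le_center' Z0 (hle.trans hc)
  -- the quotient extension
  have hst' := isStemExtension_lift σ hst Z0 hle
  have H8 : Hyp8 S 1 (uQ h2 hS hSdef) (hQ hS hSdef)
      (QuotientGroup.lift Z0 σ (fun _ hx => hle hx)) :=
    { hm := le_rfl
      hF := hF'
      h2 := h2
      hS := hS
      hSdef := hSdef
      hu := H.hu
      hinj := H.hinj
      hh := H.hh
      hhc := H.hhc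
      hs := hst'.1
      hc := hst'.2.1
      hcomm0 := by
        intro x y a b b' hx hy
        obtain ⟨x, rfl⟩ := QuotientGroup.mk_surjective x
        obtain ⟨y, rfl⟩ := QuotientGroup.mk_surjective y
        rw [QuotientGroup.lift_mk] at hx hy
        have h3 : ⁅x, y⁆ ∈ Z0 := HypEight.comm_mem_range H t1 ht1 hx hy
        rw [← QuotientGroup.mk_mul, ← QuotientGroup.mk_mul, QuotientGroup.eq]
        have e : (x * y)⁻¹ * (y * x) = (y * x)⁻¹ * ⁅x, y⁆⁻¹ * (y * x) := by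
          simp only [commutatorElement_def]; group
        rw [e]
        exact (inferInstance : Z0.Normal).conj_mem' _ (Z0.inv_mem h3) (y * x) }
  have hbot : (QuotientGroup.lift Z0 σ (fun _ hx => hle hx)).ker = ⊥ := by
    apply ker_eq_bot_of_pow_Q _ le_rfl hF' hst'
    intro h2' hS' z hz
    exact pow_Q8 _ h2 hS hSdef H8 hst' z hz
  have hker : σ.ker ≤ Z0 := ker_le_of_lift_ker_eq_bot σ Z0 hle hbot
  have heq : σ.ker = Z0 := le_antisymm hker hle
  constructor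
  · rw [heq]
    exact HypEight.card_range_le H t1 ht1 h1
  · intro z hz
    obtain ⟨c, rfl⟩ := hker hz
    rw [HypEight.phiHom_apply]
    exact HypEight.phi_sq H t1 ht1 _

end Eight

end Cfsg.Agent.Lib.Helper35_Sz8Upper
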