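import Cfsg.Agent.Lib.Helper37_SzSylow

/-!
# Conjugation in the Borel subgroup of the Suzuki group (helper37)
-/

set_option autoImplicit false
open Cfsg

namespace Cfsg.Agent.Helper37Sz

open Cfsg.Agent.S0335 (sf sf_aniso sf_inv sf_collinear)
open Matrix
open scoped Pointwise

section Conj

variable {F : Type*} [Field F] {S : F →+* F}

theorem hMat_mul_uMat (hS : ∀ z, S (S z) = z ^ 2) {t : F} (ht : t ≠ 0) (a b : F) :
    hMat S t * uMat S a b = uMat S (t ^ 2 * a) (S t ^ 2 * t ^ 2 * b) * hMat S t := by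
  have hSt : S t ≠ 0 := by simpa using ht
  ext i j
  fin_cases i <;> fin_cases j <;>
    simp [hMat, uMat, sf, Matrix.mul_apply, Fin.sum_univ_four, map_mul, map_pow, hS] <;>
    field_simp

theorem hSL_mul_uSL (hS : ∀ z, S (S z) = z ^ 2) (t : Fˣ) (a b : F) :
    hSL S t * uSL S a b = uSL S ((t : F) ^ 2 * a) (S (t : F) ^ 2 * (t : F) ^ 2 * b) * hSL S t := by
  apply Subtype.ext
  exact hMat_mul_uMat hS t.ne_zero a b

/-- no solution of `S z = z + 1` -/
theorem S_ne_add_one (h2 : (2 : F) = 0) (hS : ∀ z, S (S z) = z ^ 2) (z : F) : S z ≠ z + 1 := by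
  intro h4
  have h5 : z ^ 2 = z := by
    rw [← hS z, h4, map_add, map_one, h4]
    linear_combination h2
  have h6 : z = 0 ∨ z = 1 := by
    have : z * (z - 1) = 0 := by linear_combination h5
    rcases mul_eq_zero.1 this with h | h
    · exact Or.inl h
    · exact Or.inr (by linear_combination h)
  rcases h6 with h | h
  · rw [h] at h4; simp at h4
  · rw [h] at h4
    simp at h4

end Conj

section Real

variable {F : Type*} [Field F] [Fintype F] {S : F →+* F} {m : ℕ}

/-- an element `uSL a b` with `a ≠ 0` (of order 4) is not conjugate to its inverse in `Sz` -/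
theorem not_conj_inv (hm : 1 ≤ m) (hF : Fintype.card F = 2 ^ (2 * m + 1)) (h2 : (2 : F) = 0)
    (hS : ∀ z, S (S z) = z ^ 2) (hSdef : ∀ z, S z = z ^ 2 ^ (m + 1)) {a b : F} (ha : a ≠ 0)
    {y : Matrix.SpecialLinearGroup (Fin 4) F} (hy : y ∈ Cfsg.Sz F m)
    (h : y * uSL S a b * y⁻¹ = (uSL S a b)⁻¹) : False := by
  have h1 : y * uSL S a b = (uSL S a b)⁻¹ * y := by rw [← h]; group
  rw [uSL_inv h2 hS] at h1
  -- `y` fixes `∞`
  have hfix : ∃ c : F, (y : Matrix (Fin 4) (Fin 4) F) *ᵥ pInf = c • pInf := by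
    obtain ⟨c, hc, h' | ⟨x, y', h'⟩⟩ := isOv_of_mem_Sz hSdef hy (isOv_pInf (S := S))
    · exact ⟨c, h'⟩
    · exfalso
      have h3 := congrArg (fun g : Matrix.SpecialLinearGroup (Fin 4) F =>
        (g : Matrix (Fin 4) (Fin 4) F) *ᵥ pInf) h1
      simp only [Matrix.SpecialLinearGroup.coe_mul, ← Matrix.mulVec_mulVec] at h3
      have e1 : ((uSL S a b : Matrix.SpecialLinearGroup (Fin 4) F) : Matrix (Fin 4) (Fin 4) F)
          *ᵥ pInf = pInf := uMat_mulVec_pInf a b
      have e2 : ∀ v, ((uSL S a (b + S a * a) : Matrix.SpecialLinearGroup (Fin 4) F) :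
          Matrix (Fin 4) (Fin 4) F) *ᵥ v = uMat S a (b + S a * a) *ᵥ v := fun v => rfl
      rw [e1, h', e2, Matrix.mulVec_smul, uMat_mulVec_pAff h2 hS] at h3
      have h4 := congrFun h3 2
      simp [pAff] at h4
      rcases h4 with h4 | h4
      · exact ha h4
      · exact hc h4
  obtain ⟨c, hc⟩ := hfix
  obtain ⟨c', d, t, rfl⟩ := stab_inf_struct hm hF h2 hS hSdef hy hc
  rw [mul_assoc, hSL_mul_uSL hS, ← mul_assoc, uSL_mul h2 hS, ← mul_assoc (uSL S a _), uSL_mul h2 hS] at h1
  obtain ⟨e1, e2, -⟩ := uh_injective h2 hS h1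
  have ht2 : (t : F) ^ 2 = 1 := by
    have : a * ((t : F) ^ 2 - 1) = 0 := by linear_combination e1
    rcases mul_eq_zero.1 this with h | h
    · exact absurd h ha
    · linear_combination h
  have ht1 : (t : F) = 1 := by
    have : ((t : F) - 1) ^ 2 = 0 := by
      have : ((t : F) - 1) ^ 2 = (t : F) ^ 2 - 1 + 2 * (1 - (t : F)) := by ring
      rw [this, ht2, h2]; ring
    have := pow_eq_zero_iff (two_ne_zero) |>.1 this
    linear_combination this
  rw [ht1, map_one] at e2
  have hSa : S a ≠ 0 := by simpa using ha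
  apply S_ne_add_one h2 hS (c' / a)
  rw [map_div₀]
  field_simp
  linear_combination e2

end Real

end Cfsg.Agent.Helper37Sz
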