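import Mathlib
import Cfsg.Agent.Lib.Helper99_Singer

/-!
# Centralisers of irreducible elements are cyclic (helper6)

Built on `Helper99_Singer` (Schur's lemma for an irreducible endomorphism of a finite-dimensional space):
if `ρ : G →* End_F(V)` is injective, `G` is finite and `ρ x` acts irreducibly, then `C_G(x)` is cyclic.
Also the number theory needed to apply `irreducible_of_ppd` for primes dividing `q² + 1`.
-/

set_option autoImplicit false

namespace Cfsg.Agent.Lib.Helper6_SzTorus

open Cfsg.Agent.Lib.Helper99_Singer

section General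

variable {F V : Type*} [Field F] [AddCommGroup V] [Module F V]

/-- If `ρ : G →* End_F(V)` is injective, `G` is finite, and `ρ x` has no proper non-zero invariant
subspace, then the centraliser of `x` in `G` is cyclic. -/
theorem isCyclic_centralizer_of_irreducible [FiniteDimensional F V] [Nontrivial V]
    {G : Type*} [Group G] [Finite G] (ρ : G →* Module.End F V) (hρ : Function.Injective ρ) (x : G)
    (hirr : ∀ W : Submodule F V, (∀ w ∈ W, ρ x w ∈ W) → W ≠ ⊥ → W = ⊤) :
    IsCyclic (Subgroup.centralizer ({x} : Set G)) := by
  classical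
  obtain ⟨v₀, hv₀⟩ := exists_ne (0 : V)
  obtain ⟨hcomm, hinj, hsurj⟩ := centAlg_structure (ρ x) hirr v₀ hv₀
  set T := ρ x with hT
  set C := centAlg T with hC
  let instCR : CommRing C :=
    { (inferInstance : Ring C) with
      mul_comm := fun a b => Subtype.ext (hcomm a.1 a.2 b.1 b.2) }
  have hnt : Nontrivial C := by
    refine ⟨⟨0, 1, ?_⟩⟩
    intro h
    have h1 : (0 : Module.End F V) = 1 := congrArg Subtype.val h
    have := LinearMap.congr_fun h1 v₀
    simp at this
    exact hv₀ this.symm
  have hnzd : NoZeroDivisors C := by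
    refine ⟨fun {a b} hab => ?_⟩
    by_cases ha : a = 0
    · exact Or.inl ha
    · right
      have ha' : (a : Module.End F V) ≠ 0 := fun h => ha (Subtype.ext h)
      have hu := isUnit_of_mem_centAlg T hirr a.1 a.2 ha'
      have hab' : (a : Module.End F V) * (b : Module.End F V) = 0 :=
        congrArg Subtype.val hab
      apply Subtype.ext
      exact (hu.mul_right_eq_zero).mp hab'
  have hdom : IsDomain C := NoZeroDivisors.to_isDomain C
  -- the map from the centraliser to `C`
  let f : Subgroup.centralizer ({x} : Set G) →* C :=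
    { toFun := fun c => ⟨ρ (c : G), by
        rw [mem_centAlg, hT, ← map_mul, ← map_mul]
        congr 1
        have := c.2
        rw [Subgroup.mem_centralizer_iff] at this
        exact this x rfl⟩
      map_one' := by
        apply Subtype.ext
        simp
      map_mul' := fun a b => by
        apply Subtype.ext
        simp }
  have hf : Function.Injective f := by
    intro a b hab
    have h1 : ρ (a : G) = ρ (b : G) := congrArg Subtype.val hab
    exact Subtype.ext (hρ h1)
  exact isCyclic_of_injective_ringHom f hf

end General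

section NumberTheory

/-- For an odd prime `p` dividing `q² + 1`, the order of `q` modulo `p` is `4`. -/
theorem orderOf_zmod_eq_four {p q : ℕ} [hp : Fact p.Prime] (hp2 : p ≠ 2) (hq : p ∣ q ^ 2 + 1) :
    orderOf ((q : ℕ) : ZMod p) = 4 := by
  have h1 : ((q : ℕ) : ZMod p) ^ 2 = -1 := by
    have := (ZMod.natCast_eq_zero_iff (q ^ 2 + 1) p).2 hq
    push_cast at this
    linear_combination this
  have hp3 : 2 < p := lt_of_le_of_ne hp.out.two_le (Ne.symm hp2)
  have : Fact (2 < p) := ⟨hp3⟩
  have h2 : orderOf ((q : ℕ) : ZMod p) = 2 ^ (1 + 1) := by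
    apply orderOf_eq_prime_pow
    · rw [pow_one, h1]
      exact ZMod.neg_one_ne_one
    · show ((q : ℕ) : ZMod p) ^ (2 ^ 2) = 1
      have : ((q : ℕ) : ZMod p) ^ (2 ^ 2) = (((q : ℕ) : ZMod p) ^ 2) ^ 2 := by ring
      rw [this, h1]; ring
  rw [h2]; norm_num

end NumberTheory

end Cfsg.Agent.Lib.Helper6_SzTorus
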