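import Mathlib
import Cfsg.Agent.Lib.Helper6_SzTorus
import Cfsg.Agent.Lib.Helper37_SzZass
import Cfsg.Agent.S0326

/-!
# Centralisers in the Suzuki group (helper6)

On top of helper37's coordinates for `Sz F m` and `Helper6_SzTorus`:
* `rho` : the natural representation `Sz F m →* End_F(F⁴)`, injective;
* `isCyclic_centralizer_of_orderOf_prime` : an element of odd prime order `p ∣ q² + 1` has cyclic centraliser;
* the torus `hQhom : Fˣ →* Sz F m`, `wQ * hQ t * wQ = hQ t⁻¹`;
* fixed-point analysis of the point stabiliser.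
-/

set_option autoImplicit false
open Cfsg

namespace Cfsg.Agent.Lib.Helper6_SzCent

open Cfsg.Agent.Helper37Sz Cfsg.Agent.Lib.Helper6_SzTorus Cfsg.Agent.Lib.Helper99_Singer
open Matrix

section Rho

variable {F : Type*} [Field F] {m : ℕ}

/-- the natural representation of the Suzuki group on `F⁴` -/
noncomputable def rho (F : Type*) [Field F] (m : ℕ) : Cfsg.Sz F m →* Module.End F (Fin 4 → F) where
  toFun g := Matrix.toLin' ((g : Matrix.SpecialLinearGroup (Fin 4) F) : Matrix (Fin 4) (Fin 4) F)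
  map_one' := by
    simp only [OneMemClass.coe_one, Matrix.SpecialLinearGroup.coe_one, Matrix.toLin'_one]
    rfl
  map_mul' a b := by
    simp only [Subgroup.coe_mul, Matrix.SpecialLinearGroup.coe_mul, Matrix.toLin'_mul]
    rfl

theorem rho_apply (g : Cfsg.Sz F m) (v : Fin 4 → F) :
    rho F m g v = ((g : Matrix.SpecialLinearGroup (Fin 4) F) : Matrix (Fin 4) (Fin 4) F) *ᵥ v := by
  simp [rho]

theorem rho_injective : Function.Injective (rho F m) := by
  intro a b h
  apply Subtype.ext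
  apply Subtype.ext
  exact Matrix.toLin'.injective h

end Rho

section Prime

variable {F : Type*} [Field F] [Fintype F] {m : ℕ}

/-- an element of the Suzuki group of odd prime order `p ∣ q² + 1` has a cyclic centraliser -/
theorem isCyclic_centralizer_of_orderOf_prime {p : ℕ} [hp : Fact p.Prime] (hp2 : p ≠ 2)
    (hpq : p ∣ Fintype.card F ^ 2 + 1) (x : Cfsg.Sz F m) (hx : orderOf x = p) :
    IsCyclic (Subgroup.centralizer ({x} : Set (Cfsg.Sz F m))) := by
  classical
  apply isCyclic_centralizer_of_irreducible (rho F m) rho_injective x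
  have hT : (rho F m x) ^ p = 1 := by
    rw [← map_pow, ← hx, pow_orderOf_eq_one, map_one]
  have hT1 : rho F m x ≠ 1 := by
    intro h
    have : x = 1 := rho_injective (by rw [h, map_one])
    rw [this, orderOf_one] at hx
    exact hp.out.one_lt.ne hx
  have hi : orderOf ((Fintype.card F : ℕ) : ZMod p) = Module.finrank F (Fin 4 → F) := by
    rw [orderOf_zmod_eq_four hp2 hpq, Module.finrank_fin_fun]
  exact irreducible_of_ppd (rho F m x) hp.out hT hT1 hi

end Prime

section Torus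

variable {F : Type*} [Field F] [Fintype F] {S : F →+* F} {m : ℕ}

theorem hQ_mul (hS : ∀ z, S (S z) = z ^ 2) (hSdef : ∀ z, S z = z ^ 2 ^ (m + 1)) (t t' : Fˣ) :
    hQ (m := m) hS hSdef t * hQ hS hSdef t' = hQ hS hSdef (t * t') :=
  Subtype.ext (hSL_mul t t')

theorem hQ_injective (hS : ∀ z, S (S z) = z ^ 2) (hSdef : ∀ z, S z = z ^ 2 ^ (m + 1)) :
    Function.Injective (hQ (m := m) hS hSdef) := by
  intro t t' h
  exact hSL_injective (congrArg Subtype.val h)

theorem hQ_inv (hS : ∀ z, S (S z) = z ^ 2) (hSdef : ∀ z, S z = z ^ 2 ^ (m + 1)) (t : Fˣ) :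
    (hQ (m := m) hS hSdef t)⁻¹ = hQ hS hSdef t⁻¹ := by
  rw [inv_eq_iff_mul_eq_one, hQ_mul, mul_inv_cancel, hQ_one]

theorem hQ_comm (hS : ∀ z, S (S z) = z ^ 2) (hSdef : ∀ z, S z = z ^ 2 ^ (m + 1)) (t t' : Fˣ) :
    hQ (m := m) hS hSdef t * hQ hS hSdef t' = hQ hS hSdef t' * hQ hS hSdef t := by
  rw [hQ_mul, hQ_mul, mul_comm]

theorem wMat_mul_hMat_mul_wMat {t : F} (ht : t ≠ 0) :
    (wMat : Matrix (Fin 4) (Fin 4) F) * hMat S t * wMat = hMat S t⁻¹ := by
  have hSt : S t ≠ 0 := by simpa using ht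
  ext i j
  fin_cases i <;> fin_cases j <;>
    simp [hMat, wMat, Matrix.mul_apply, Fin.sum_univ_four, map_inv₀] <;> ring

theorem wQ_mul_self (h2 : (2 : F) = 0) (hS : ∀ z, S (S z) = z ^ 2)
    (hSdef : ∀ z, S z = z ^ 2 ^ (m + 1)) :
    wQ (m := m) h2 hS hSdef * wQ h2 hS hSdef = 1 :=
  Subtype.ext wSL_mul_self

theorem wQ_mul_hQ_mul_wQ (h2 : (2 : F) = 0) (hS : ∀ z, S (S z) = z ^ 2)
    (hSdef : ∀ z, S z = z ^ 2 ^ (m + 1)) (t : Fˣ) :
    wQ (m := m) h2 hS hSdef * hQ hS hSdef t * wQ h2 hS hSdef = hQ hS hSdef t⁻¹ := by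
  apply Subtype.ext
  apply Subtype.ext
  show (wMat : Matrix (Fin 4) (Fin 4) F) * hMat S (t : F) * wMat = hMat S ((t⁻¹ : Fˣ) : F)
  rw [wMat_mul_hMat_mul_wMat t.ne_zero, Units.val_inv_eq_inv_val]

/-- the stabiliser of `∞` in coordinates -/
theorem stab_inf (hm : 1 ≤ m) (hF : Fintype.card F = 2 ^ (2 * m + 1)) (h2 : (2 : F) = 0)
    (hS : ∀ z, S (S z) = z ^ 2) (hSdef : ∀ z, S z = z ^ 2 ^ (m + 1)) {g : Cfsg.Sz F m}
    (hg : g • ptInf F m = ptInf F m) :
    ∃ (a b : F) (t : Fˣ), g = uQ h2 hS hSdef a b * hQ hS hSdef t := by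
  rw [smul_ptInf_eq_ptInf_iff] at hg
  obtain ⟨c, hc⟩ := hg
  obtain ⟨a, b, t, h⟩ := stab_inf_struct hm hF h2 hS hSdef g.2 hc
  exact ⟨a, b, t, Subtype.ext h⟩

theorem uQ_hQ_smul_ptAff (h2 : (2 : F) = 0) (hS : ∀ z, S (S z) = z ^ 2)
    (hSdef : ∀ z, S z = z ^ 2 ^ (m + 1)) (a b : F) (t : Fˣ) (x y : F) :
    (uQ h2 hS hSdef a b * hQ hS hSdef t) • ptAff hSdef x y
      = ptAff hSdef ((t : F) ^ 2 * x + a)
          (S (t : F) ^ 2 * (t : F) ^ 2 * y + b + S a * ((t : F) ^ 2 * x)) := by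
  rw [mul_smul, hQ_smul_ptAff, uQ_smul_ptAff]

theorem uQ_hQ_smul_ptInf (h2 : (2 : F) = 0) (hS : ∀ z, S (S z) = z ^ 2)
    (hSdef : ∀ z, S z = z ^ 2 ^ (m + 1)) (a b : F) (t : Fˣ) :
    (uQ h2 hS hSdef a b * hQ hS hSdef t) • ptInf F m = ptInf F m := by
  rw [mul_smul, hQ_smul_ptInf, uQ_smul_ptInf]

/-- `S t * t = 1` forces `t = 1` -/
theorem eq_one_of_S_mul_self (h2 : (2 : F) = 0) (hS : ∀ z, S (S z) = z ^ 2) {t : F} (ht : t ≠ 0)
    (h : (S t * t) ^ 2 = 1) : t = 1 := by
  have h4 : S t * t = 1 := unit_eq_one_of_sq h2 h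
  have h5 : S (S t) * S t = 1 := by rw [← map_mul, h4, map_one]
  rw [hS] at h5
  have hSt : S t ≠ 0 := by simpa using ht
  have : S t * (t * (t - 1)) = 0 := by linear_combination h5 - h4
  rcases mul_eq_zero.1 this with h | h
  · exact absurd h hSt
  · rcases mul_eq_zero.1 h with h | h
    · exact absurd h ht
    · linear_combination h

/-- an element of the point stabiliser outside `Q` fixes a second point -/
theorem exists_fixed_aff (h2 : (2 : F) = 0) (hS : ∀ z, S (S z) = z ^ 2)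
    (hSdef : ∀ z, S z = z ^ 2 ^ (m + 1)) (a b : F) {t : Fˣ} (ht : t ≠ 1) :
    ∃ x y : F, (uQ h2 hS hSdef a b * hQ hS hSdef t) • ptAff hSdef x y = ptAff hSdef x y := by
  have h1 : (1 : F) - (t : F) ^ 2 ≠ 0 := by
    intro h
    apply ht
    apply Units.ext
    exact unit_eq_one_of_sq h2 (by linear_combination -h)
  have h3 : (1 : F) - S (t : F) ^ 2 * (t : F) ^ 2 ≠ 0 := by
    intro h
    apply ht
    apply Units.ext
    exact eq_one_of_S_mul_self h2 hS t.ne_zero (by linear_combination -h)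
  set x : F := a / (1 - (t : F) ^ 2) with hx
  refine ⟨x, (b + S a * ((t : F) ^ 2 * x)) / (1 - S (t : F) ^ 2 * (t : F) ^ 2), ?_⟩
  rw [uQ_hQ_smul_ptAff]
  congr 1
  · rw [hx]; field_simp; ring
  · field_simp; ring

/-- a non-identity element of `Q` fixes only `∞` -/
theorem uQ_fix (h2 : (2 : F) = 0) (hS : ∀ z, S (S z) = z ^ 2)
    (hSdef : ∀ z, S z = z ^ 2 ^ (m + 1)) {a b : F} (hab : ¬ (a = 0 ∧ b = 0))
    (p : Cfsg.suzukiOvoid F m) (hp : uQ h2 hS hSdef a b • p = p) : p = ptInf F m := by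
  rcases pt_cases hSdef p with rfl | ⟨x, y, rfl⟩
  · rfl
  · exfalso
    rw [uQ_smul_ptAff] at hp
    obtain ⟨e1, e2⟩ := ptAff_inj hSdef hp
    have ha : a = 0 := by linear_combination e1
    rw [ha, map_zero, zero_mul, add_zero] at e2
    exact hab ⟨ha, by linear_combination e2⟩

theorem uQ_pow_four (h2 : (2 : F) = 0) (hS : ∀ z, S (S z) = z ^ 2)
    (hSdef : ∀ z, S z = z ^ 2 ^ (m + 1)) (a b : F) :
    uQ (m := m) h2 hS hSdef a b ^ 4 = 1 := by
  have e : uQ (m := m) h2 hS hSdef a b ^ 4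
      = (uQ h2 hS hSdef a b * uQ h2 hS hSdef a b) * (uQ h2 hS hSdef a b * uQ h2 hS hSdef a b) := by
    simp only [pow_succ, pow_zero, one_mul, mul_assoc]
  have e1 : a + a = 0 := by linear_combination a * h2
  rw [e, uQ_mul, e1]
  exact uQ_zero_involution h2 hS hSdef _

end Torus

section Cent

variable {F : Type*} [Field F] [Fintype F] {S : F →+* F} {m : ℕ}

theorem commute_of_mem_centralizer {G : Type*} [Group G] {g c : G}
    (hc : c ∈ Subgroup.centralizer ({g} : Set G)) : c * g = g * c := by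
  rw [Subgroup.mem_centralizer_iff] at hc
  exact (hc g rfl).symm

theorem smul_fixed_of_commute {G α : Type*} [Group G] [MulAction G α] {g c : G} (h : c * g = g * c)
    {a : α} (ha : g • a = a) : g • (c • a) = c • a := by
  rw [← mul_smul, ← h, mul_smul, ha]

/-- an element commuting with a non-identity torus element is a torus element -/
theorem eq_hQ_of_commute (hm : 1 ≤ m) (hF : Fintype.card F = 2 ^ (2 * m + 1)) (h2 : (2 : F) = 0)
    (hS : ∀ z, S (S z) = z ^ 2) (hSdef : ∀ z, S z = z ^ 2 ^ (m + 1)) {t : Fˣ} (ht : t ≠ 1)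
    {d : Cfsg.Sz F m} (hd : d * hQ hS hSdef t = hQ hS hSdef t * d) :
    ∃ s : Fˣ, d = hQ hS hSdef s := by
  -- a point fixed by `hQ t` is `∞` or `0`
  have hfix : ∀ p : Cfsg.suzukiOvoid F m, hQ hS hSdef t • p = p →
      p = ptInf F m ∨ p = ptAff hSdef 0 0 := by
    intro p hp
    rcases pt_cases hSdef p with rfl | ⟨x, y, rfl⟩
    · exact Or.inl rfl
    · right
      by_cases hxy : x = 0 ∧ y = 0
      · rw [hxy.1, hxy.2]
      · exact absurd (hQ_fix_third h2 hS hSdef hxy hp) ht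
  have h1 := hfix _ (smul_fixed_of_commute hd (hQ_smul_ptInf hS hSdef t))
  have h0' : hQ hS hSdef t • ptAff hSdef 0 0 = ptAff hSdef 0 0 := by
    rw [hQ_smul_ptAff, mul_zero, mul_zero]
  have h0 := hfix _ (smul_fixed_of_commute hd h0')
  have hne : d • ptInf F m ≠ d • ptAff hSdef 0 0 := fun h =>
    ptAff_ne_ptInf hSdef 0 0 (MulAction.injective d h).symm
  rcases h1 with h1 | h1
  · rcases h0 with h0 | h0
    · exact absurd (h1.trans h0.symm) hne
    · exact fix_two_eq_hQ hm hF h2 hS hSdef h1 h0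
  · rcases h0 with h0 | h0
    · exfalso
      have e1 : (wQ h2 hS hSdef * d) • ptInf F m = ptInf F m := by
        rw [mul_smul, h1, wQ_smul_ptAff_zero]
      have e0 : (wQ h2 hS hSdef * d) • ptAff hSdef 0 0 = ptAff hSdef 0 0 := by
        rw [mul_smul, h0, wQ_smul_ptInf]
      obtain ⟨s, hs⟩ := fix_two_eq_hQ hm hF h2 hS hSdef e1 e0
      have hd' : d = wQ h2 hS hSdef * hQ hS hSdef s := by
        rw [← hs, ← mul_assoc, wQ_mul_self, one_mul]
      have hw : hQ hS hSdef t * wQ h2 hS hSdef = wQ h2 hS hSdef * hQ hS hSdef t⁻¹ := by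
        rw [← wQ_mul_hQ_mul_wQ h2 hS hSdef t, ← mul_assoc, ← mul_assoc, wQ_mul_self, one_mul]
      rw [hd', mul_assoc, hQ_mul, ← mul_assoc, hw, mul_assoc, hQ_mul] at hd
      have h3 : hQ (m := m) hS hSdef (s * t) = hQ hS hSdef (t⁻¹ * s) := mul_left_cancel hd
      have h4 : s * t = t⁻¹ * s := hQ_injective hS hSdef h3
      have h5 : t * t = 1 := by
        have : t = t⁻¹ := by
          have := h4
          rw [mul_comm] at this
          exact mul_right_cancel this
        calc t * t = t * t⁻¹ := by rw [← this]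
          _ = 1 := mul_inv_cancel t
      apply ht
      apply Units.ext
      apply unit_eq_one_of_sq h2
      have := congrArg Units.val h5
      rw [Units.val_mul, Units.val_one] at this
      rw [sq]; exact this
    · exact absurd (h1.trans h0.symm) hne

/-- the centraliser of a non-identity element with two fixed points is commutative -/
theorem comm_of_two_fixed (hm : 1 ≤ m) (hF : Fintype.card F = 2 ^ (2 * m + 1)) (h2 : (2 : F) = 0)
    (hS : ∀ z, S (S z) = z ^ 2) (hSdef : ∀ z, S z = z ^ 2 ^ (m + 1)) {g : Cfsg.Sz F m} (hg : g ≠ 1)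
    {a b : Cfsg.suzukiOvoid F m} (hab : a ≠ b) (ha : g • a = a) (hb : g • b = b)
    {c c' : Cfsg.Sz F m} (hc : c * g = g * c) (hc' : c' * g = g * c') : c * c' = c' * c := by
  obtain ⟨k, hka, hkb⟩ := exists_smul_pair h2 hS hSdef hab
  have h1 : (k * g * k⁻¹) • ptInf F m = ptInf F m := by
    rw [← hka, ← mul_smul, inv_mul_cancel_right, mul_smul, ha]
  have h0 : (k * g * k⁻¹) • ptAff hSdef 0 0 = ptAff hSdef 0 0 := by
    rw [← hkb, ← mul_smul, inv_mul_cancel_right, mul_smul, hb]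
  obtain ⟨t, ht⟩ := fix_two_eq_hQ hm hF h2 hS hSdef h1 h0
  have ht1 : t ≠ 1 := by
    rintro rfl
    rw [hQ_one] at ht
    apply hg
    have h5 : g = k⁻¹ * (k * g * k⁻¹) * k := by group
    rw [h5, ht]; group
  have key : ∀ x : Cfsg.Sz F m, x * g = g * x → ∃ s : Fˣ, k * x * k⁻¹ = hQ hS hSdef s := by
    intro x hx
    apply eq_hQ_of_commute hm hF h2 hS hSdef ht1
    rw [← ht]
    have e1 : k * x * k⁻¹ * (k * g * k⁻¹) = k * (x * g) * k⁻¹ := by group
    have e2 : k * g * k⁻¹ * (k * x * k⁻¹) = k * (g * x) * k⁻¹ := by group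
    rw [e1, e2, hx]
  obtain ⟨s, hs⟩ := key c hc
  obtain ⟨s', hs'⟩ := key c' hc'
  have e : k * (c * c') * k⁻¹ = k * (c' * c) * k⁻¹ := by
    have e1 : k * (c * c') * k⁻¹ = (k * c * k⁻¹) * (k * c' * k⁻¹) := by group
    have e2 : k * (c' * c) * k⁻¹ = (k * c' * k⁻¹) * (k * c * k⁻¹) := by group
    rw [e1, e2, hs, hs', hQ_comm]
  exact mul_left_cancel (mul_right_cancel e)

/-- the centraliser of a non-identity element with exactly one fixed point has exponent dividing `4` -/
theorem pow_four_of_one_fixed (hm : 1 ≤ m) (hF : Fintype.card F = 2 ^ (2 * m + 1)) (h2 : (2 : F) = 0)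
    (hS : ∀ z, S (S z) = z ^ 2) (hSdef : ∀ z, S z = z ^ 2 ^ (m + 1)) {g : Cfsg.Sz F m}
    {a : Cfsg.suzukiOvoid F m} (ha : g • a = a) (huniq : ∀ b, g • b = b → b = a)
    {c : Cfsg.Sz F m} (hc : c * g = g * c) : c ^ 4 = 1 := by
  -- move `a` to `∞`
  obtain ⟨k, hka⟩ : ∃ k : Cfsg.Sz F m, k • a = ptInf F m := by
    by_cases h : a = ptInf F m
    · exact ⟨1, by rw [one_smul, h]⟩
    · obtain ⟨k, hk, -⟩ := exists_smul_pair h2 hS hSdef h
      exact ⟨k, hk⟩
  set g' := k * g * k⁻¹ with hg'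
  set c' := k * c * k⁻¹ with hc'
  have hcomm : c' * g' = g' * c' := by
    have e1 : k * c * k⁻¹ * (k * g * k⁻¹) = k * (c * g) * k⁻¹ := by group
    have e2 : k * g * k⁻¹ * (k * c * k⁻¹) = k * (g * c) * k⁻¹ := by group
    rw [hg', hc', e1, e2, hc]
  have h1 : g' • ptInf F m = ptInf F m := by
    rw [hg', ← hka, ← mul_smul, inv_mul_cancel_right, mul_smul, ha]
  have huniq' : ∀ p, g' • p = p → p = ptInf F m := by
    intro p hp
    have : g • (k⁻¹ • p) = k⁻¹ • p := by
      have e : g = k⁻¹ * g' * k := by rw [hg']; group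
      rw [e, mul_smul, mul_smul, smul_inv_smul, hp]
    have := huniq _ this
    rw [← hka, ← this, smul_inv_smul]
  have hc1 : c' • ptInf F m = ptInf F m := huniq' _ (smul_fixed_of_commute hcomm h1)
  obtain ⟨a'', b'', t'', hc''⟩ := stab_inf hm hF h2 hS hSdef hc1
  have hfin : c' ^ 4 = 1 := by
    by_cases ht : t'' = 1
    · rw [hc'', ht, hQ_one, mul_one]
      exact uQ_pow_four h2 hS hSdef a'' b''
    · obtain ⟨x, y, hxy⟩ := exists_fixed_aff h2 hS hSdef a'' b'' ht
      rw [← hc''] at hxy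
      have hcomm' : g' * c' = c' * g' := hcomm.symm
      have hr := smul_fixed_of_commute hcomm' hxy
      have hr1 : g' • ptAff hSdef x y ≠ ptInf F m := by
        intro h
        rw [← h1] at h
        exact ptAff_ne_ptInf hSdef x y (MulAction.injective g' h)
      have hr2 : g' • ptAff hSdef x y ≠ ptAff hSdef x y := fun h =>
        ptAff_ne_ptInf hSdef x y (huniq' _ h)
      have : c' = 1 := three_pt_trivial hm hF h2 hS hSdef c' (ptAff_ne_ptInf hSdef x y).symm
        (Ne.symm hr2) (Ne.symm hr1) hc1 hxy hr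
      rw [this, one_pow]
  have e : c ^ 4 = k⁻¹ * c' ^ 4 * k := by
    rw [hc', conj_pow]; group
  rw [e, hfin]; group

end Cent

section NoFixed

variable {F : Type*} [Field F] [Fintype F] {S : F →+* F} {m : ℕ}

theorem pow_smul_fixed {G α : Type*} [Group G] [MulAction G α] {h : G} {a : α} (ha : h • a = a)
    (k : ℕ) : h ^ k • a = a := by
  induction k with
  | zero => simp
  | succ k ih => rw [pow_succ, mul_smul, ha, ih]

/-- the number of fixed points of an element of prime order `p` is congruent to `q² + 1` -/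
theorem card_fixed_modEq {p : ℕ} (hp : p.Prime) (y : Cfsg.Sz F m) (hy : y ^ p = 1) :
    Fintype.card F ^ 2 + 1 ≡ Nat.card {a : Cfsg.suzukiOvoid F m // y • a = a} [MOD p] := by
  haveI : Finite (Cfsg.suzukiOvoid F m) := (Set.toFinite _).to_subtype
  have h := card_modEq_card_fixed (MulAction.toPerm y : Equiv.Perm (Cfsg.suzukiOvoid F m)) hp (by
    ext a
    rw [← MulAction.toPermHom_apply, ← map_pow, hy, map_one])
  rw [Cfsg.Agent.S0326.result] at h
  exact h

/-- if `g` has no fixed point and `y ≠ 1` commutes with `g` and has a fixed point, then `y` has exactly two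
fixed points, swapped by `g` -/
theorem swap_of_commute (hm : 1 ≤ m) (hF : Fintype.card F = 2 ^ (2 * m + 1)) (h2 : (2 : F) = 0)
    (hS : ∀ z, S (S z) = z ^ 2) (hSdef : ∀ z, S z = z ^ 2 ^ (m + 1)) {g y : Cfsg.Sz F m}
    (hg : ∀ a : Cfsg.suzukiOvoid F m, g • a ≠ a) (hy : y ≠ 1) (hgy : g * y = y * g)
    {a : Cfsg.suzukiOvoid F m} (ha : y • a = a) :
    y • (g • a) = g • a ∧ g • (g • a) = a ∧ ∀ c, y • c = c → c = a ∨ c = g • a := by
  have hb : y • (g • a) = g • a := smul_fixed_of_commute hgy ha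
  have hb' : y • (g • (g • a)) = g • (g • a) := smul_fixed_of_commute hgy hb
  have hab : a ≠ g • a := fun h => hg a h.symm
  have hbb : g • a ≠ g • (g • a) := fun h => hg (g • a) h.symm
  refine ⟨hb, ?_, ?_⟩
  · by_contra hne
    exact hy (three_pt_trivial hm hF h2 hS hSdef y hab hbb (Ne.symm hne) ha hb hb')
  · intro c hc
    by_contra hcon
    push Not at hcon
    exact hy (three_pt_trivial hm hF h2 hS hSdef y hab (Ne.symm hcon.2) (Ne.symm hcon.1) ha hb hc)

/-- every prime dividing the order of a fixed-point-free element divides `q² + 1` -/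
theorem prime_dvd_of_no_fixed (hm : 1 ≤ m) (hF : Fintype.card F = 2 ^ (2 * m + 1))
    {g : Cfsg.Sz F m} (hg : ∀ a : Cfsg.suzukiOvoid F m, g • a ≠ a)
    {p : ℕ} (hp : p.Prime) (hpg : p ∣ orderOf g) : p ∣ Fintype.card F ^ 2 + 1 := by
  classical
  have h2 : (2 : F) = 0 := two_eq_zero_of_card hF
  set S : F →+* F := sgHom F m h2 with hSd
  have hSdef : ∀ z, S z = z ^ 2 ^ (m + 1) := fun z => sgHom_apply m h2 z
  have hS : ∀ z, S (S z) = z ^ 2 := fun z => sgHom_sgHom hF h2 z
  haveI : Finite (Cfsg.suzukiOvoid F m) := (Set.toFinite _).to_subtype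
  have hn0 : orderOf g ≠ 0 := (orderOf_pos g).ne'
  have hqeven : Even (Fintype.card F ^ 2) := by
    rw [hF, ← pow_mul]
    exact (Nat.even_pow.2 ⟨even_two, by omega⟩)
  -- the general step
  have step : ∀ r : ℕ, r.Prime → r ∣ orderOf g → ¬ r ∣ Fintype.card F ^ 2 + 1 →
      ∃ a : Cfsg.suzukiOvoid F m, g • (g • a) = a ∧
        Nat.card {c : Cfsg.suzukiOvoid F m // g ^ (orderOf g / r) • c = c} = 2 := by
    intro r hr hrg hrq
    set y := g ^ (orderOf g / r) with hy
    have hyo : orderOf y = r := orderOf_pow_orderOf_div hn0 hrg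
    have hy1 : y ≠ 1 := by
      intro h
      rw [h, orderOf_one] at hyo
      exact hr.one_lt.ne hyo
    have hyr : y ^ r = 1 := by rw [← hyo, pow_orderOf_eq_one]
    have hgy : g * y = y * g := by
      rw [hy, ← pow_succ', ← pow_succ]
    have hcard := card_fixed_modEq hr y hyr
    have hne : Nat.card {a : Cfsg.suzukiOvoid F m // y • a = a} ≠ 0 := by
      intro h
      rw [h] at hcard
      exact hrq ((Nat.modEq_zero_iff_dvd).1 hcard)
    have hnonempty : Nonempty {a : Cfsg.suzukiOvoid F m // y • a = a} := by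
      by_contra h
      rw [not_nonempty_iff] at h
      exact hne Nat.card_of_isEmpty
    obtain ⟨a, ha⟩ := hnonempty
    obtain ⟨hb, hgg, hall⟩ := swap_of_commute hm hF h2 hS hSdef hg hy1 hgy ha
    refine ⟨a, hgg, ?_⟩
    rw [Nat.card_eq_two_iff]
    refine ⟨⟨a, ha⟩, ⟨g • a, hb⟩, ?_, ?_⟩
    · intro h
      exact hg a (congrArg Subtype.val h).symm
    · ext ⟨c, hc⟩
      simp only [Set.mem_insert_iff, Set.mem_singleton_iff, Subtype.mk.injEq, Set.mem_univ,
        iff_true]
      exact hall c hc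
  -- the order of `g` is odd
  have hodd : ¬ 2 ∣ orderOf g := by
    intro h2g
    have hnd : ¬ 2 ∣ Fintype.card F ^ 2 + 1 := by
      intro h
      have := (Nat.even_add_one).1 (even_iff_two_dvd.2 h)
      exact this hqeven
    obtain ⟨a, -, hcard⟩ := step 2 Nat.prime_two h2g hnd
    have hy2 : (g ^ (orderOf g / 2)) ^ 2 = 1 := by
      rw [← pow_mul, Nat.div_mul_cancel h2g, pow_orderOf_eq_one]
    have := card_fixed_modEq Nat.prime_two (g ^ (orderOf g / 2)) hy2
    rw [hcard] at this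
    apply hnd
    have h3 : (Fintype.card F ^ 2 + 1) % 2 = 0 := by
      have := this
      unfold Nat.ModEq at this
      rw [this]
    exact Nat.dvd_of_mod_eq_zero h3
  by_contra hpq
  obtain ⟨a, hgg, -⟩ := step p hp hpg hpq
  -- `g² a = a` and `g` of odd order force `g a = a`
  obtain ⟨j, hj⟩ : ∃ j, orderOf g = 2 * j + 1 := by
    have : orderOf g % 2 = 1 := by
      rcases Nat.mod_two_eq_zero_or_one (orderOf g) with h | h
      · exact absurd (Nat.dvd_of_mod_eq_zero h) hodd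
      · exact h
    exact ⟨orderOf g / 2, by omega⟩
  have h1 : (g ^ 2) • a = a := by rw [pow_two, mul_smul, hgg]
  have h3 : (g ^ 2) ^ (j + 1) • a = a := pow_smul_fixed h1 (j + 1)
  have h4 : (g ^ 2) ^ (j + 1) = g := by
    rw [← pow_mul]
    have : 2 * (j + 1) = orderOf g + 1 := by omega
    rw [this, pow_succ, pow_orderOf_eq_one, one_mul]
  rw [h4] at h3
  exact hg a h3

/-- the centraliser of a fixed-point-free element is cyclic -/
theorem isCyclic_centralizer_of_no_fixed (hm : 1 ≤ m) (hF : Fintype.card F = 2 ^ (2 * m + 1))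
    {g : Cfsg.Sz F m} (hg : ∀ a : Cfsg.suzukiOvoid F m, g • a ≠ a) :
    IsCyclic (Subgroup.centralizer ({g} : Set (Cfsg.Sz F m))) := by
  classical
  have hg1 : g ≠ 1 := by
    rintro rfl
    exact hg (ptInf F m) (one_smul _ _)
  have hn1 : orderOf g ≠ 1 := by
    intro h
    exact hg1 (orderOf_eq_one_iff.1 h)
  have hn0 : orderOf g ≠ 0 := (orderOf_pos g).ne'
  set p := (orderOf g).minFac with hp
  have hpp : p.Prime := Nat.minFac_prime hn1
  have hpg : p ∣ orderOf g := Nat.minFac_dvd _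
  have hpq := prime_dvd_of_no_fixed hm hF hg hpp hpg
  have hp2 : p ≠ 2 := by
    intro h
    rw [h] at hpq
    have hqeven : Even (Fintype.card F ^ 2) := by
      rw [hF, ← pow_mul]
      exact (Nat.even_pow.2 ⟨even_two, by omega⟩)
    exact (Nat.even_add_one).1 (even_iff_two_dvd.2 hpq) hqeven
  haveI : Fact p.Prime := ⟨hpp⟩
  set y := g ^ (orderOf g / p) with hy
  have hyo : orderOf y = p := orderOf_pow_orderOf_div hn0 hpg
  haveI := isCyclic_centralizer_of_orderOf_prime hp2 hpq y hyo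
  refine Subgroup.isCyclic_of_le (H' := Subgroup.centralizer ({y} : Set (Cfsg.Sz F m))) ?_
  intro c hc
  rw [Subgroup.mem_centralizer_iff] at hc ⊢
  intro z hz
  rw [Set.mem_singleton_iff] at hz
  rw [hz, hy]
  have h1 : g * c = c * g := hc g rfl
  exact ((Commute.pow_left (show Commute g c from h1) _).eq)

end NoFixed

end Cfsg.Agent.Lib.Helper6_SzCent
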