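import Mathlib

/-!
# Arithmetic for the tori of the Suzuki group (helper6)
-/

set_option autoImplicit false

namespace Cfsg.Agent.Lib.Helper6_SzArith

/-- one class of tori cannot exhaust the fixed-point-free elements -/
theorem arith_one {q g0 y c : ℕ} (hq : 8 ≤ q) (hg0 : 0 < g0) (hc : c = 1 ∨ c = 2 ∨ c = 4)
    (h1 : y * (c * (q ^ 2 + 1)) = g0 * (q ^ 2 + 1) * q ^ 2)
    (h2 : 2 * y = g0 * q * (q - 1)) : False := by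
  have hN : 0 < q ^ 2 + 1 := by positivity
  have e1 : y * c = g0 * q ^ 2 := by
    apply Nat.eq_of_mul_eq_mul_right hN
    calc y * c * (q ^ 2 + 1) = y * (c * (q ^ 2 + 1)) := by ring
      _ = g0 * (q ^ 2 + 1) * q ^ 2 := h1
      _ = g0 * q ^ 2 * (q ^ 2 + 1) := by ring
  have e2 : g0 * (2 * q ^ 2) = g0 * (c * q * (q - 1)) := by
    calc g0 * (2 * q ^ 2) = 2 * (y * c) := by rw [e1]; ring
      _ = c * (2 * y) := by ring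
      _ = c * (g0 * q * (q - 1)) := by rw [h2]
      _ = g0 * (c * q * (q - 1)) := by ring
  have e3 : 2 * q ^ 2 = c * q * (q - 1) := Nat.eq_of_mul_eq_mul_left hg0 e2
  have e4 : q * (2 * q) = q * (c * (q - 1)) := by
    calc q * (2 * q) = 2 * q ^ 2 := by ring
      _ = c * q * (q - 1) := e3
      _ = q * (c * (q - 1)) := by ring
  have e5 : 2 * q = c * (q - 1) := Nat.eq_of_mul_eq_mul_left (by omega) e4
  rcases hc with rfl | rfl | rfl <;> omega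

/-- two classes of tori: the indices are `4` and the orders add up to `2q + 2` -/
theorem arith_two {q g0 y₁ y₂ c₁ c₂ a₁ a₂ : ℕ} (hq : 8 ≤ q) (hg0 : 0 < g0)
    (hc₁ : c₁ = 1 ∨ c₁ = 2 ∨ c₁ = 4) (hc₂ : c₂ = 1 ∨ c₂ = 2 ∨ c₂ = 4)
    (ha₁ : 5 ≤ a₁) (ha₂ : 5 ≤ a₂) (hN : a₁ * a₂ = q ^ 2 + 1)
    (h1 : y₁ * (c₁ * a₁) = g0 * (q ^ 2 + 1) * (a₁ - 1))
    (h2 : y₂ * (c₂ * a₂) = g0 * (q ^ 2 + 1) * (a₂ - 1))
    (h3 : 2 * (y₁ + y₂) = g0 * q * (q - 1)) :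
    c₁ = 4 ∧ c₂ = 4 ∧ a₁ + a₂ = 2 * q + 2 := by
  have e1 : y₁ * c₁ = g0 * (a₂ * (a₁ - 1)) := by
    apply Nat.eq_of_mul_eq_mul_right (show 0 < a₁ by omega)
    calc y₁ * c₁ * a₁ = y₁ * (c₁ * a₁) := by ring
      _ = g0 * (q ^ 2 + 1) * (a₁ - 1) := h1
      _ = g0 * (a₁ * a₂) * (a₁ - 1) := by rw [hN]
      _ = g0 * (a₂ * (a₁ - 1)) * a₁ := by ring
  have e2 : y₂ * c₂ = g0 * (a₁ * (a₂ - 1)) := by
    apply Nat.eq_of_mul_eq_mul_right (show 0 < a₂ by omega)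
    calc y₂ * c₂ * a₂ = y₂ * (c₂ * a₂) := by ring
      _ = g0 * (q ^ 2 + 1) * (a₂ - 1) := h2
      _ = g0 * (a₁ * a₂) * (a₂ - 1) := by rw [hN]
      _ = g0 * (a₁ * (a₂ - 1)) * a₂ := by ring
  set u₁ := a₂ * (a₁ - 1) with hu₁
  set u₂ := a₁ * (a₂ - 1) with hu₂
  have hu₁' : u₁ + a₂ = q ^ 2 + 1 := by
    rw [hu₁, ← hN]
    obtain ⟨k, rfl⟩ : ∃ k, a₁ = k + 1 := ⟨a₁ - 1, by omega⟩
    simp only [Nat.add_sub_cancel]; ring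
  have hu₂' : u₂ + a₁ = q ^ 2 + 1 := by
    rw [hu₂, ← hN]
    obtain ⟨k, rfl⟩ : ∃ k, a₂ = k + 1 := ⟨a₂ - 1, by omega⟩
    simp only [Nat.add_sub_cancel]; ring
  have e3 : g0 * (2 * c₂ * u₁ + 2 * c₁ * u₂) = g0 * (c₁ * c₂ * (q * (q - 1))) := by
    calc g0 * (2 * c₂ * u₁ + 2 * c₁ * u₂)
        = 2 * c₂ * (g0 * u₁) + 2 * c₁ * (g0 * u₂) := by ring
      _ = 2 * c₂ * (y₁ * c₁) + 2 * c₁ * (y₂ * c₂) := by rw [e1, e2]
      _ = c₁ * c₂ * (2 * (y₁ + y₂)) := by ring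
      _ = c₁ * c₂ * (g0 * q * (q - 1)) := by rw [h3]
      _ = g0 * (c₁ * c₂ * (q * (q - 1))) := by ring
  have e4 : 2 * c₂ * u₁ + 2 * c₁ * u₂ = c₁ * c₂ * (q * (q - 1)) := Nat.eq_of_mul_eq_mul_left hg0 e3
  set w := q * (q - 1) with hw
  have hw' : w + q = q ^ 2 := by
    rw [hw]
    obtain ⟨k, rfl⟩ : ∃ k, q = k + 1 := ⟨q - 1, by omega⟩
    simp only [Nat.add_sub_cancel]; ring
  have h5a₁ : 5 * a₁ ≤ q ^ 2 + 1 := by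
    rw [← hN]; nlinarith
  have h5a₂ : 5 * a₂ ≤ q ^ 2 + 1 := by
    rw [← hN]; nlinarith
  set Q := q ^ 2 with hQ
  have hQq : 8 * q ≤ Q := by rw [hQ]; nlinarith
  rcases hc₁ with rfl | rfl | rfl <;> rcases hc₂ with rfl | rfl | rfl <;>
    first
      | (refine ⟨rfl, rfl, ?_⟩; omega)
      | (exfalso; omega)

/-- three classes of tori are too many -/
theorem arith_three {q g0 y₁ y₂ y₃ c₁ c₂ c₃ a₁ a₂ a₃ : ℕ} (hq : 8 ≤ q) (hg0 : 0 < g0)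
    (hc₁ : c₁ ≤ 4) (hc₂ : c₂ ≤ 4) (hc₃ : c₃ ≤ 4)
    (ha₁ : 5 ≤ a₁) (ha₂ : 5 ≤ a₂) (ha₃ : 5 ≤ a₃)
    (h1 : y₁ * (c₁ * a₁) = g0 * (q ^ 2 + 1) * (a₁ - 1))
    (h2 : y₂ * (c₂ * a₂) = g0 * (q ^ 2 + 1) * (a₂ - 1))
    (h3 : y₃ * (c₃ * a₃) = g0 * (q ^ 2 + 1) * (a₃ - 1))
    (h4 : 2 * (y₁ + y₂ + y₃) ≤ g0 * q * (q - 1)) : False := by
  have key : ∀ y c a : ℕ, c ≤ 4 → 5 ≤ a → y * (c * a) = g0 * (q ^ 2 + 1) * (a - 1) →
      g0 * (q ^ 2 + 1) ≤ 5 * y := by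
    intro y c a hc ha h
    have h5 : 4 * a ≤ 5 * (a - 1) := by omega
    have e : g0 * (q ^ 2 + 1) * (4 * a) ≤ 5 * y * (4 * a) := by
      calc g0 * (q ^ 2 + 1) * (4 * a) ≤ g0 * (q ^ 2 + 1) * (5 * (a - 1)) :=
            Nat.mul_le_mul_left _ h5
        _ = 5 * (g0 * (q ^ 2 + 1) * (a - 1)) := by ring
        _ = 5 * (y * (c * a)) := by rw [h]
        _ ≤ 5 * (y * (4 * a)) := by
            apply Nat.mul_le_mul_left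
            apply Nat.mul_le_mul_left
            exact Nat.mul_le_mul_right _ hc
        _ = 5 * y * (4 * a) := by ring
    exact Nat.le_of_mul_le_mul_right e (by omega)
  have k1 := key y₁ c₁ a₁ hc₁ ha₁ h1
  have k2 := key y₂ c₂ a₂ hc₂ ha₂ h2
  have k3 := key y₃ c₃ a₃ hc₃ ha₃ h3
  set w := q * (q - 1) with hw
  have hw' : w + q = q ^ 2 := by
    rw [hw]
    obtain ⟨k, rfl⟩ : ∃ k, q = k + 1 := ⟨q - 1, by omega⟩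
    simp only [Nat.add_sub_cancel]; ring
  have h4' : 2 * (y₁ + y₂ + y₃) ≤ g0 * w := by rw [hw, ← mul_assoc]; exact h4
  have e : g0 * (6 * (q ^ 2 + 1)) ≤ g0 * (5 * w) := by
    calc g0 * (6 * (q ^ 2 + 1)) = 2 * (g0 * (q ^ 2 + 1) + g0 * (q ^ 2 + 1) + g0 * (q ^ 2 + 1)) := by
          ring
      _ ≤ 2 * (5 * y₁ + 5 * y₂ + 5 * y₃) := by omega
      _ = 5 * (2 * (y₁ + y₂ + y₃)) := by ring
      _ ≤ 5 * (g0 * w) := Nat.mul_le_mul_left _ h4'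
      _ = g0 * (5 * w) := by ring
  have := Nat.le_of_mul_le_mul_left e hg0
  omega

/-- solving for the two orders -/
theorem arith_solve {m a₁ a₂ : ℕ} (hN : a₁ * a₂ = (2 ^ (2 * m + 1)) ^ 2 + 1)
    (hs : a₁ + a₂ = 2 * 2 ^ (2 * m + 1) + 2) :
    (a₁ = 2 ^ (2 * m + 1) + 2 ^ (m + 1) + 1 ∧ a₂ = 2 ^ (2 * m + 1) - 2 ^ (m + 1) + 1) ∨
    (a₁ = 2 ^ (2 * m + 1) - 2 ^ (m + 1) + 1 ∧ a₂ = 2 ^ (2 * m + 1) + 2 ^ (m + 1) + 1) := by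
  set r : ℕ := 2 ^ m with hr
  have hq : 2 ^ (2 * m + 1) = 2 * r ^ 2 := by
    rw [hr, pow_succ, mul_comm 2 m, pow_mul]; ring
  have h2r : 2 ^ (m + 1) = 2 * r := by rw [hr, pow_succ]; ring
  rw [hq] at hN hs ⊢
  rw [h2r]
  have hr1 : 1 ≤ r := Nat.one_le_two_pow
  have hle : 2 * r ≤ 2 * r ^ 2 := by nlinarith
  have key : ((a₁ : ℤ) - a₂ - 4 * r) * ((a₁ : ℤ) - a₂ + 4 * r) = 0 := by
    have hN' : (a₁ : ℤ) * a₂ = (2 * (r : ℤ) ^ 2) ^ 2 + 1 := by exact_mod_cast hN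
    have hs' : (a₁ : ℤ) + a₂ = 2 * (2 * (r : ℤ) ^ 2) + 2 := by exact_mod_cast hs
    have : ((a₁ : ℤ) - a₂) ^ 2 = (4 * r) ^ 2 := by
      have : ((a₁ : ℤ) - a₂) ^ 2 = ((a₁ : ℤ) + a₂) ^ 2 - 4 * (a₁ * a₂) := by ring
      rw [this, hN', hs']; ring
    linear_combination this
  rcases mul_eq_zero.1 key with h | h
  · left
    have hs' : (a₁ : ℤ) + a₂ = 2 * (2 * (r : ℤ) ^ 2) + 2 := by exact_mod_cast hs
    have h1 : (a₁ : ℤ) = 2 * (r : ℤ) ^ 2 + 2 * r + 1 := by linarith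
    have h2 : (a₂ : ℤ) = 2 * (r : ℤ) ^ 2 - 2 * r + 1 := by linarith
    constructor
    · exact_mod_cast h1
    · have : (a₂ : ℤ) = ((2 * r ^ 2 - 2 * r + 1 : ℕ) : ℤ) := by
        rw [h2]; push_cast [Nat.cast_sub hle]; ring
      exact_mod_cast this
  · right
    have hs' : (a₁ : ℤ) + a₂ = 2 * (2 * (r : ℤ) ^ 2) + 2 := by exact_mod_cast hs
    have h1 : (a₁ : ℤ) = 2 * (r : ℤ) ^ 2 - 2 * r + 1 := by linarith
    have h2 : (a₂ : ℤ) = 2 * (r : ℤ) ^ 2 + 2 * r + 1 := by linarith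
    constructor
    · have : (a₁ : ℤ) = ((2 * r ^ 2 - 2 * r + 1 : ℕ) : ℤ) := by
        rw [h1]; push_cast [Nat.cast_sub hle]; ring
      exact_mod_cast this
    · exact_mod_cast h2

end Cfsg.Agent.Lib.Helper6_SzArith
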