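import Mathlib

/-!
# Counting fixed-point-free elements in a 2-transitive group where non-identity elements fix at most 2 points
(helper6)

For a finite group `G` acting 2-transitively on a finite set `Ω` with `|Ω| = n ≥ 2`, if every non-identity
element fixes at most two points, then `2 · #{fixed-point-free elements} + (n - 1)(n - 2) = |G|`.
Proof: Burnside's lemma for the actions on `Ω` and on `Fin 2 ↪ Ω`.
-/

set_option autoImplicit false

namespace Cfsg.Agent.Lib.Helper6_Burnside2

open MulAction

variable {G Ω : Type*} [Group G] [MulAction G Ω]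

/-- the embeddings fixed by `g` are the embeddings into the fixed points of `g` -/
noncomputable def fixedByEmbEquiv (g : G) (k : ℕ) :
    fixedBy (Fin k ↪ Ω) g ≃ (Fin k ↪ fixedBy Ω g) where
  toFun e := ⟨fun i => ⟨(e : Fin k ↪ Ω) i, by
      have h := e.2
      rw [mem_fixedBy] at h ⊢
      have := congrArg (fun f : Fin k ↪ Ω => f i) h
      simpa [Function.Embedding.smul_apply] using this⟩,
    fun i j hij => (e : Fin k ↪ Ω).injective (congrArg Subtype.val hij)⟩
  invFun e := ⟨⟨fun i => (e i : Ω), fun i j hij => e.injective (Subtype.ext hij)⟩, by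
      rw [mem_fixedBy]
      ext i
      rw [Function.Embedding.smul_apply]
      exact (e i).2⟩
  left_inv e := by
    apply Subtype.ext
    ext i
    rfl
  right_inv e := by
    ext i
    rfl

theorem sum_card_fixedBy_of_pretransitive [Fintype G] [Finite Ω] [Nonempty Ω]
    [IsPretransitive G Ω] :
    ∑ g : G, Nat.card (fixedBy Ω g) = Nat.card G := by
  classical
  haveI : Fintype Ω := Fintype.ofFinite Ω
  haveI : ∀ g : G, Fintype (fixedBy Ω g) := fun g => Fintype.ofFinite _
  haveI : Fintype (Quotient (orbitRel G Ω)) := Fintype.ofFinite _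
  have h := sum_card_fixedBy_eq_card_orbits_mul_card_group G Ω
  have h1 : Fintype.card (Quotient (orbitRel G Ω)) = 1 := by
    rw [Fintype.card_eq_one_iff]
    obtain ⟨a⟩ := ‹Nonempty Ω›
    refine ⟨Quotient.mk'' a, fun y => ?_⟩
    haveI := (pretransitive_iff_subsingleton_quotient G Ω).1 inferInstance
    exact Subsingleton.elim _ _
  rw [h1, one_mul] at h
  rw [Nat.card_eq_fintype_card, ← h]
  apply Finset.sum_congr rfl
  intro g _
  rw [Nat.card_eq_fintype_card]

/-- the counting formula -/
theorem two_mul_card_fpf [Finite G] [Finite Ω] (h2 : IsMultiplyPretransitive G Ω 2)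
    (hn : 2 ≤ Nat.card Ω)
    (h3 : ∀ g : G, g ≠ 1 → Nat.card (fixedBy Ω g) ≤ 2) :
    (2 * Nat.card {g : G // ∀ a : Ω, g • a ≠ a} : ℤ)
      = Nat.card G - ((Nat.card Ω : ℤ) - 1) * ((Nat.card Ω : ℤ) - 2) := by
  classical
  haveI : Fintype G := Fintype.ofFinite G
  haveI : Fintype Ω := Fintype.ofFinite Ω
  haveI : Nonempty Ω := by
    rw [← Finite.card_pos_iff]
    omega
  haveI : IsPretransitive G Ω := by
    haveI := h2
    exact isPretransitive_of_is_two_pretransitive (G := G) (α := Ω)
  haveI : Nonempty (Fin 2 ↪ Ω) := by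
    rw [Function.Embedding.nonempty_iff_card_le, Fintype.card_fin, Fintype.card_eq_nat_card]
    exact hn
  haveI : IsPretransitive G (Fin 2 ↪ Ω) := h2
  have hS1 := sum_card_fixedBy_of_pretransitive (G := G) (Ω := Ω)
  have hS2 := sum_card_fixedBy_of_pretransitive (G := G) (Ω := (Fin 2 ↪ Ω))
  set f : G → ℕ := fun g => Nat.card (fixedBy Ω g) with hf
  have hfix2 : ∀ g : G, Nat.card (fixedBy (Fin 2 ↪ Ω) g) = f g * (f g - 1) := by
    intro g
    rw [Nat.card_congr (fixedByEmbEquiv g 2)]
    haveI : Fintype (fixedBy Ω g) := Fintype.ofFinite _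
    rw [Nat.card_eq_fintype_card, Fintype.card_embedding_eq, Fintype.card_fin, hf]
    simp only [Nat.card_eq_fintype_card]
    rw [Nat.descFactorial_succ, Nat.descFactorial_one]
    ring_nf
  have hf1 : f 1 = Nat.card Ω := by
    rw [hf]
    simp only
    have : fixedBy Ω (1 : G) = Set.univ := by
      ext a; simp
    rw [this, Nat.card_coe_set_eq, Set.ncard_univ]
  -- the key pointwise identity
  have hpt : ∀ g : G, ((f g : ℤ) * ((f g : ℤ) - 1) - 2 * (f g : ℤ) + 2)
      = if g = 1 then ((Nat.card Ω : ℤ) - 1) * ((Nat.card Ω : ℤ) - 2)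
        else 2 * (if f g = 0 then 1 else 0) := by
    intro g
    by_cases hg : g = 1
    · rw [if_pos hg, hg, hf1]; ring
    · rw [if_neg hg]
      have hle : f g ≤ 2 := h3 g hg
      interval_cases h : f g <;> simp
  have hsum : ∑ g : G, ((f g : ℤ) * ((f g : ℤ) - 1) - 2 * (f g : ℤ) + 2) = Nat.card G := by
    have e1 : ∑ g : G, (f g : ℤ) = Nat.card G := by
      rw [← hS1]; push_cast; rfl
    have e2 : ∑ g : G, ((f g : ℤ) * ((f g : ℤ) - 1)) = Nat.card G := by
      rw [← hS2]
      push_cast
      apply Finset.sum_congr rfl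
      intro g _
      rw [hfix2 g]
      rcases Nat.eq_zero_or_pos (f g) with h0 | h0
      · rw [h0]; simp
      · rw [Nat.cast_mul, Nat.cast_sub h0]; simp
    rw [Finset.sum_add_distrib, Finset.sum_sub_distrib, e2, ← Finset.mul_sum, e1]
    simp only [Finset.sum_const, Finset.card_univ, nsmul_eq_mul]
    rw [Nat.card_eq_fintype_card]
    ring
  rw [← hsum, Finset.sum_congr rfl (fun g _ => hpt g)]
  rw [Finset.sum_ite, Finset.sum_const]
  have hfilt1 : (Finset.univ.filter fun g : G => g = 1).card = 1 := by
    rw [Finset.filter_eq' Finset.univ (1 : G)]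
    simp
  rw [hfilt1, one_smul, ← Finset.mul_sum]
  have hcount : (∑ g ∈ Finset.univ.filter (fun g : G => ¬ g = 1), (if f g = 0 then (1 : ℤ) else 0))
      = Nat.card {g : G // ∀ a : Ω, g • a ≠ a} := by
    rw [Finset.sum_boole, Finset.filter_filter]
    rw [Nat.card_eq_fintype_card, Fintype.card_subtype]
    congr 2
    ext g
    simp only [Finset.mem_filter, Finset.mem_univ, true_and]
    constructor
    · rintro ⟨-, h0⟩ a ha
      rw [hf] at h0
      simp only at h0
      rw [Nat.card_eq_zero] at h0
      rcases h0 with h0 | h0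
      · exact h0.false ⟨a, ha⟩
      · exact h0.false
    · intro h
      refine ⟨?_, ?_⟩
      · rintro rfl
        obtain ⟨a⟩ := ‹Nonempty Ω›
        exact h a (one_smul _ _)
      · rw [hf]
        simp only
        rw [Nat.card_eq_zero]
        left
        exact ⟨fun ⟨a, ha⟩ => h a ha⟩
  rw [hcount]
  ring

end Cfsg.Agent.Lib.Helper6_Burnside2
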