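import Mathlib
import Cfsg.Agent.Lib.Helper6_SzCent
import Cfsg.Agent.S0324
import Cfsg.Agent.S0331

/-!
# The tori of the Suzuki group: centralisers of fixed-point-free elements (helper6)

For `g ∈ Sz F m` without fixed points on the ovoid, `T = C(g)` is cyclic, consists (apart from `1`) of
fixed-point-free elements, is the centraliser of each of its non-identity elements, has order dividing `q² + 1`
and contains a Sylow `p`-subgroup of the whole group for every prime `p` dividing its order; two such centralisers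
whose orders share a prime divisor are conjugate.
-/

set_option autoImplicit false
open Cfsg

namespace Cfsg.Agent.Lib.Helper6_SzTori

open Cfsg.Agent.Helper37Sz Cfsg.Agent.Lib.Helper6_SzCent
open scoped Pointwise

variable {F : Type*} [Field F] [Fintype F] {m : ℕ}

/-- fixed-point-free on the ovoid -/
def Fpf (g : Cfsg.Sz F m) : Prop := ∀ a : Cfsg.suzukiOvoid F m, g • a ≠ a

theorem Fpf.ne_one {g : Cfsg.Sz F m} (hg : Fpf g) : g ≠ 1 := by
  rintro rfl
  exact hg (ptInf F m) (one_smul _ _)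

theorem card_sq_add_one_odd (hF : Fintype.card F = 2 ^ (2 * m + 1)) :
    ¬ 2 ∣ Fintype.card F ^ 2 + 1 := by
  intro h
  have hqeven : Even (Fintype.card F ^ 2) := by
    rw [hF, ← pow_mul]
    exact (Nat.even_pow.2 ⟨even_two, by omega⟩)
  exact (Nat.even_add_one).1 (even_iff_two_dvd.2 h) hqeven

theorem Fpf.odd_order (hm : 1 ≤ m) (hF : Fintype.card F = 2 ^ (2 * m + 1)) {g : Cfsg.Sz F m}
    (hg : Fpf g) : ¬ 2 ∣ orderOf g := fun h =>
  card_sq_add_one_odd hF (prime_dvd_of_no_fixed hm hF hg Nat.prime_two h)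

/-- an element of odd order fixing `a` by its square fixes `a` -/
theorem smul_eq_of_sq_smul_eq {g : Cfsg.Sz F m} (hodd : ¬ 2 ∣ orderOf g)
    {a : Cfsg.suzukiOvoid F m} (h : g • (g • a) = a) : g • a = a := by
  obtain ⟨j, hj⟩ : ∃ j, orderOf g = 2 * j + 1 := by
    have : orderOf g % 2 = 1 := by
      rcases Nat.mod_two_eq_zero_or_one (orderOf g) with h | h
      · exact absurd (Nat.dvd_of_mod_eq_zero h) hodd
      · exact h
    exact ⟨orderOf g / 2, by omega⟩
  have h1 : (g ^ 2) • a = a := by rw [pow_two, mul_smul, h]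
  have h3 : (g ^ 2) ^ (j + 1) • a = a := pow_smul_fixed h1 (j + 1)
  have h4 : (g ^ 2) ^ (j + 1) = g := by
    rw [← pow_mul]
    have : 2 * (j + 1) = orderOf g + 1 := by omega
    rw [this, pow_succ, pow_orderOf_eq_one, one_mul]
  rw [h4] at h3
  exact h3

/-- non-identity elements commuting with a fixed-point-free element are fixed-point-free -/
theorem Fpf.of_commute (hm : 1 ≤ m) (hF : Fintype.card F = 2 ^ (2 * m + 1)) {g y : Cfsg.Sz F m}
    (hg : Fpf g) (hy : y ≠ 1) (hgy : g * y = y * g) : Fpf y := by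
  have h2 : (2 : F) = 0 := two_eq_zero_of_card hF
  set S : F →+* F := sgHom F m h2 with hSd
  have hSdef : ∀ z, S z = z ^ 2 ^ (m + 1) := fun z => sgHom_apply m h2 z
  have hS : ∀ z, S (S z) = z ^ 2 := fun z => sgHom_sgHom hF h2 z
  intro a ha
  obtain ⟨-, hgg, -⟩ := swap_of_commute hm hF h2 hS hSdef hg hy hgy ha
  exact hg a (smul_eq_of_sq_smul_eq (hg.odd_order hm hF) hgg)

/-- the torus of a fixed-point-free element -/
abbrev torus (g : Cfsg.Sz F m) : Subgroup (Cfsg.Sz F m) :=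
  Subgroup.centralizer ({g} : Set (Cfsg.Sz F m))

theorem mem_torus_iff {g c : Cfsg.Sz F m} : c ∈ torus g ↔ c * g = g * c := by
  rw [Subgroup.mem_centralizer_iff]
  constructor
  · intro h
    exact (h g rfl).symm
  · intro h z hz
    rw [Set.mem_singleton_iff] at hz
    rw [hz]
    exact h.symm

theorem self_mem_torus (g : Cfsg.Sz F m) : g ∈ torus g := mem_torus_iff.2 rfl

theorem torus_comm (hm : 1 ≤ m) (hF : Fintype.card F = 2 ^ (2 * m + 1)) {g : Cfsg.Sz F m}
    (hg : Fpf g) {c c' : Cfsg.Sz F m} (hc : c ∈ torus g) (hc' : c' ∈ torus g) : c * c' = c' * c := by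
  haveI := isCyclic_centralizer_of_no_fixed hm hF hg
  have := IsCyclic.commGroup.mul_comm (⟨c, hc⟩ : torus g) ⟨c', hc'⟩
  exact congrArg Subtype.val this

/-- the torus is the centraliser of each of its non-identity elements -/
theorem torus_eq (hm : 1 ≤ m) (hF : Fintype.card F = 2 ^ (2 * m + 1)) {g y : Cfsg.Sz F m}
    (hg : Fpf g) (hy : y ∈ torus g) (hy1 : y ≠ 1) : torus y = torus g := by
  have hgy : g * y = y * g := (mem_torus_iff.1 hy).symm
  have hyf : Fpf y := hg.of_commute hm hF hy1 hgy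
  have hgy' : g ∈ torus y := mem_torus_iff.2 hgy
  ext c
  constructor
  · intro hc
    exact mem_torus_iff.2 (torus_comm hm hF hyf hc hgy')
  · intro hc
    exact mem_torus_iff.2 (torus_comm hm hF hg hc hy)

theorem Fpf.of_mem_torus (hm : 1 ≤ m) (hF : Fintype.card F = 2 ^ (2 * m + 1)) {g y : Cfsg.Sz F m}
    (hg : Fpf g) (hy : y ∈ torus g) (hy1 : y ≠ 1) : Fpf y :=
  hg.of_commute hm hF hy1 (mem_torus_iff.1 hy).symm

/-- conjugation of tori -/
theorem mem_torus_conj {g k c : Cfsg.Sz F m} : c ∈ torus (k * g * k⁻¹) ↔ k⁻¹ * c * k ∈ torus g := by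
  rw [mem_torus_iff, mem_torus_iff]
  constructor
  · intro h
    have e1 : k⁻¹ * c * k * g = k⁻¹ * (c * (k * g * k⁻¹)) * k := by group
    have e2 : g * (k⁻¹ * c * k) = k⁻¹ * ((k * g * k⁻¹) * c) * k := by group
    rw [e1, e2, h]
  · intro h
    have e1 : c * (k * g * k⁻¹) = k * (k⁻¹ * c * k * g) * k⁻¹ := by group
    have e2 : k * g * k⁻¹ * c = k * (g * (k⁻¹ * c * k)) * k⁻¹ := by group
    rw [e1, e2, h]

theorem Fpf.conj {g : Cfsg.Sz F m} (hg : Fpf g) (k : Cfsg.Sz F m) : Fpf (k * g * k⁻¹) := by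
  intro a ha
  apply hg (k⁻¹ • a)
  have e : g = k⁻¹ * (k * g * k⁻¹) * k := by group
  rw [e, mul_smul, mul_smul, smul_inv_smul, ha]

/-- every prime dividing the order of a torus divides `q² + 1` -/
theorem prime_dvd_of_dvd_card_torus (hm : 1 ≤ m) (hF : Fintype.card F = 2 ^ (2 * m + 1))
    {g : Cfsg.Sz F m} (hg : Fpf g) {p : ℕ} (hp : p.Prime) (hpd : p ∣ Nat.card (torus g)) :
    p ∣ Fintype.card F ^ 2 + 1 := by
  haveI : Fact p.Prime := ⟨hp⟩
  obtain ⟨y, hy⟩ := exists_prime_orderOf_dvd_card' p hpd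
  have hy1 : (y : Cfsg.Sz F m) ≠ 1 := by
    intro h
    have : y = 1 := Subtype.ext h
    rw [this, orderOf_one] at hy
    exact hp.one_lt.ne hy
  have hyf := hg.of_mem_torus hm hF y.2 hy1
  apply prime_dvd_of_no_fixed hm hF hyf hp
  rw [Subgroup.orderOf_coe, hy]

/-- the order of a torus divides `q² + 1` -/
theorem card_torus_dvd (hm : 1 ≤ m) (hF : Fintype.card F = 2 ^ (2 * m + 1))
    {g : Cfsg.Sz F m} (hg : Fpf g) : Nat.card (torus g) ∣ Fintype.card F ^ 2 + 1 := by
  have h1 : Nat.card (torus g) ∣ Nat.card (Cfsg.Sz F m) := Subgroup.card_subgroup_dvd_card _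
  rw [Cfsg.Agent.S0324.result hm hF, ← hF] at h1
  set q := Fintype.card F with hq
  have hq2 : 2 ≤ q := by
    rw [hF]
    calc 2 = 2 ^ 1 := by norm_num
      _ ≤ 2 ^ (2 * m + 1) := Nat.pow_le_pow_right (by norm_num) (by omega)
  have hcop : Nat.Coprime (Nat.card (torus g)) (q ^ 2 * (q - 1)) := by
    apply Nat.Coprime.symm
    rw [Nat.coprime_comm]
    apply Nat.coprime_of_dvd
    intro p hp hp1 hp2
    have hpq := prime_dvd_of_dvd_card_torus hm hF hg hp hp1
    rcases (Nat.Prime.dvd_mul hp).1 hp2 with h | h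
    · have h3 : p ∣ 1 := (Nat.dvd_add_right h).1 hpq
      exact hp.one_lt.ne' (Nat.dvd_one.1 h3)
    · -- p ∣ q - 1 and p ∣ q^2 + 1 give p ∣ 2
      have h3 : p ∣ (q - 1) * (q + 1) := Dvd.dvd.mul_right h _
      have h4 : (q - 1) * (q + 1) + 2 = q ^ 2 + 1 := by
        obtain ⟨k, hk⟩ : ∃ k, q = k + 1 := ⟨q - 1, by omega⟩
        rw [hk]
        simp only [Nat.add_sub_cancel]
        ring
      have h5 : p ∣ 2 := by
        rw [← h4] at hpq
        exact (Nat.dvd_add_right h3).1 hpq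
      have h6 : p = 2 := (Nat.prime_dvd_prime_iff_eq hp Nat.prime_two).1 h5
      rw [h6] at hpq
      exact card_sq_add_one_odd hF hpq
  have h7 : q ^ 2 * (q ^ 2 + 1) * (q - 1) = (q ^ 2 * (q - 1)) * (q ^ 2 + 1) := by ring
  rw [h7] at h1
  exact hcop.dvd_of_dvd_mul_left h1

/-- a Sylow subgroup meeting a torus nontrivially lies in it -/
theorem sylow_le_torus (hm : 1 ≤ m) (hF : Fintype.card F = 2 ^ (2 * m + 1))
    {g : Cfsg.Sz F m} (hg : Fpf g) {p : ℕ} [hp : Fact p.Prime] (P : Sylow p (Cfsg.Sz F m))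
    {y : Cfsg.Sz F m} (hyP : y ∈ P) (hyT : y ∈ torus g) (hy1 : y ≠ 1) :
    (P : Subgroup (Cfsg.Sz F m)) ≤ torus g := by
  have hp2 : p ≠ 2 := by
    intro h
    -- `y` is a non-identity 2-element, but tori have odd order
    have hyf := hg.of_mem_torus hm hF hyT hy1
    have hodd := hyf.odd_order hm hF
    obtain ⟨k, hk⟩ := (P.isPGroup' ⟨y, hyP⟩)
    have hk' : y ^ p ^ k = 1 := congrArg Subtype.val hk
    have hdvd : orderOf y ∣ p ^ k := orderOf_dvd_of_pow_eq_one hk'
    rw [h] at hdvd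
    obtain ⟨j, -, hj⟩ := (Nat.dvd_prime_pow Nat.prime_two).1 hdvd
    rcases Nat.eq_zero_or_pos j with h0 | h0
    · rw [h0, pow_zero] at hj
      exact hy1 (orderOf_eq_one_iff.1 hj)
    · apply hodd
      rw [hj]
      exact dvd_pow_self 2 h0.ne'
  haveI := Cfsg.Agent.S0331.result hm hF hp2 P
  rw [← torus_eq hm hF hg hyT hy1]
  intro c hc
  rw [mem_torus_iff]
  have := IsCyclic.commGroup.mul_comm (⟨c, hc⟩ : P) ⟨y, hyP⟩
  exact congrArg Subtype.val this

/-- an element of prime order `p` in a subgroup of order divisible by `p` -/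
theorem exists_mem_orderOf_eq {p : ℕ} (hp : p.Prime) (T : Subgroup (Cfsg.Sz F m))
    (hpd : p ∣ Nat.card T) : ∃ z : Cfsg.Sz F m, z ∈ T ∧ orderOf z = p ∧ z ≠ 1 := by
  haveI : Fact p.Prime := ⟨hp⟩
  obtain ⟨y, hy⟩ := exists_prime_orderOf_dvd_card' p hpd
  refine ⟨y, y.2, by rw [Subgroup.orderOf_coe, hy], ?_⟩
  intro h
  have : y = 1 := Subtype.ext h
  rw [this, orderOf_one] at hy
  exact hp.one_lt.ne hy

/-- two tori whose orders have a common prime divisor are conjugate -/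
theorem exists_conj_torus (hm : 1 ≤ m) (hF : Fintype.card F = 2 ^ (2 * m + 1))
    {g g' : Cfsg.Sz F m} (hg : Fpf g) (hg' : Fpf g') {p : ℕ} (hp : p.Prime)
    (hpd : p ∣ Nat.card (torus g)) (hpd' : p ∣ Nat.card (torus g')) :
    ∃ k : Cfsg.Sz F m, ∀ c, c ∈ torus g' ↔ k⁻¹ * c * k ∈ torus g := by
  haveI : Fact p.Prime := ⟨hp⟩
  obtain ⟨y, hyT, hy, hy1⟩ := exists_mem_orderOf_eq hp (torus g) hpd
  obtain ⟨y', hyT', hy', hy1'⟩ := exists_mem_orderOf_eq hp (torus g') hpd'
  -- Sylow subgroups containing `y`, `y'`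
  have hpg : IsPGroup p (Subgroup.zpowers y) := by
    apply IsPGroup.of_card (n := 1)
    rw [Nat.card_zpowers, hy, pow_one]
  have hpg' : IsPGroup p (Subgroup.zpowers y') := by
    apply IsPGroup.of_card (n := 1)
    rw [Nat.card_zpowers, hy', pow_one]
  obtain ⟨P, hP⟩ := hpg.exists_le_sylow
  obtain ⟨P', hP'⟩ := hpg'.exists_le_sylow
  have hyP : y ∈ P := hP (Subgroup.mem_zpowers _)
  have hyP' : y' ∈ P' := hP' (Subgroup.mem_zpowers _)
  obtain ⟨k, hk⟩ := MulAction.exists_smul_eq (Cfsg.Sz F m) P P'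
  -- `k y k⁻¹ ∈ P' ≤ torus g'`
  have hle' := sylow_le_torus hm hF hg' P' hyP' hyT' hy1'
  have hkP : k * y * k⁻¹ ∈ P' := by
    have hx : k * y * k⁻¹ ∈ (MulAut.conj k • (P : Subgroup (Cfsg.Sz F m))) := by
      rw [Subgroup.mem_smul_pointwise_iff_exists]
      exact ⟨y, hyP, by rw [MulAut.smul_def, MulAut.conj_apply]⟩
    have : (MulAut.conj k • (P : Subgroup (Cfsg.Sz F m))) = (P' : Subgroup (Cfsg.Sz F m)) := by
      rw [← hk]; rfl
    rw [this] at hx
    exact hx
  have hkT : k * y * k⁻¹ ∈ torus g' := hle' hkP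
  have hk1 : k * y * k⁻¹ ≠ 1 := by
    intro h
    apply hy1
    have e : y = k⁻¹ * (k * y * k⁻¹) * k := by group
    rw [e, h]; group
  have e1 : torus (k * y * k⁻¹) = torus g' := torus_eq hm hF hg' hkT hk1
  have e2 : torus y = torus g := torus_eq hm hF hg hyT hy1
  refine ⟨k, fun c => ?_⟩
  rw [← e1, ← e2]
  exact mem_torus_conj

end Cfsg.Agent.Lib.Helper6_SzTori
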