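import Mathlib

/-!
# Counting the conjugates of a self-centralising subgroup (helper6)

If `T ≤ G` (finite) is the centraliser of each of its non-identity elements, then the set `Y` of non-identity
elements of `G` conjugate into `T` satisfies `|Y| · |N_G(T)| = |G| · (|T| - 1)`.
-/

set_option autoImplicit false

namespace Cfsg.Agent.Lib.Helper6_TICount

variable {G : Type*} [Group G]

/-- `T` is the centraliser of each of its non-identity elements -/
def SelfCent (T : Subgroup G) : Prop :=
  ∀ t ∈ T, t ≠ 1 → Subgroup.centralizer ({t} : Set G) = T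

theorem mem_centralizer_singleton {t c : G} :
    c ∈ Subgroup.centralizer ({t} : Set G) ↔ c * t = t * c := by
  rw [Subgroup.mem_centralizer_iff]
  constructor
  · intro h
    exact (h t rfl).symm
  · intro h z hz
    rw [Set.mem_singleton_iff] at hz
    rw [hz]
    exact h.symm

/-- conjugating a non-identity element of `T` into `T` normalises `T` -/
theorem SelfCent.mem_normalizer {T : Subgroup G} (hT : SelfCent T) {n t : G} (ht : t ∈ T) (ht1 : t ≠ 1)
    (hn : n * t * n⁻¹ ∈ T) : n ∈ Subgroup.normalizer (T : Set G) := by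
  have hn1 : n * t * n⁻¹ ≠ 1 := by
    intro h
    apply ht1
    have e : t = n⁻¹ * (n * t * n⁻¹) * n := by group
    rw [e, h]; group
  have h1 := hT t ht ht1
  have h2 := hT _ hn hn1
  rw [Subgroup.mem_normalizer_iff]
  intro c
  have key : ∀ c : G, c ∈ T ↔ n * c * n⁻¹ ∈ T := by
    intro c
    constructor
    · intro hc
      rw [← h2, mem_centralizer_singleton]
      rw [← h1, mem_centralizer_singleton] at hc
      have e1 : n * c * n⁻¹ * (n * t * n⁻¹) = n * (c * t) * n⁻¹ := by group
      have e2 : n * t * n⁻¹ * (n * c * n⁻¹) = n * (t * c) * n⁻¹ := by group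
      rw [e1, e2, hc]
    · intro hc
      rw [← h1, mem_centralizer_singleton]
      rw [← h2, mem_centralizer_singleton] at hc
      have e1 : c * t = n⁻¹ * (n * c * n⁻¹ * (n * t * n⁻¹)) * n := by group
      have e2 : t * c = n⁻¹ * (n * t * n⁻¹ * (n * c * n⁻¹)) * n := by group
      rw [e1, e2, hc]
  exact key c

/-- the counting formula -/
theorem SelfCent.card_conj [Fintype G] [DecidableEq G] {T : Subgroup G} (hT : SelfCent T)
    [DecidablePred (· ∈ T)] [DecidablePred (· ∈ Subgroup.normalizer (T : Set G))]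
    [DecidablePred fun x : G => x ≠ 1 ∧ ∃ k : G, k⁻¹ * x * k ∈ T] :
    (Finset.univ.filter fun x : G => x ≠ 1 ∧ ∃ k : G, k⁻¹ * x * k ∈ T).card *
        (Finset.univ.filter fun n : G => n ∈ Subgroup.normalizer (T : Set G)).card
      = Fintype.card G * (Finset.univ.filter fun t : G => t ∈ T ∧ t ≠ 1).card := by
  classical
  set Y := Finset.univ.filter fun x : G => x ≠ 1 ∧ ∃ k : G, k⁻¹ * x * k ∈ T with hY
  set N := Finset.univ.filter fun n : G => n ∈ Subgroup.normalizer (T : Set G) with hN
  set A := Finset.univ.filter fun t : G => t ∈ T ∧ t ≠ 1 with hA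
  set s : Finset (G × G) := (Finset.univ : Finset G) ×ˢ A with hs
  let f : G × G → G := fun kt => kt.1 * kt.2 * kt.1⁻¹
  have hmaps : ∀ kt ∈ s, f kt ∈ Y := by
    rintro ⟨k, t⟩ hkt
    rw [hs, Finset.mem_product, hA, Finset.mem_filter] at hkt
    obtain ⟨-, -, ht, ht1⟩ := hkt
    rw [hY, Finset.mem_filter]
    refine ⟨Finset.mem_univ _, ?_, k, ?_⟩
    · intro h
      apply ht1
      have e : t = k⁻¹ * (k * t * k⁻¹) * k := by group
      rw [e]
      change k⁻¹ * (f (k, t)) * k = 1
      rw [h]; group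
    · change k⁻¹ * (k * t * k⁻¹) * k ∈ T
      have e : k⁻¹ * (k * t * k⁻¹) * k = t := by group
      rw [e]; exact ht
  have hcard := Finset.card_eq_sum_card_fiberwise hmaps
  rw [hs, Finset.card_product, Finset.card_univ] at hcard
  rw [hcard]
  have hfib : ∀ x ∈ Y, (s.filter fun kt => f kt = x).card = N.card := by
    intro x hx
    rw [hY, Finset.mem_filter] at hx
    obtain ⟨-, hx1, k₀, hk₀⟩ := hx
    set t₀ := k₀⁻¹ * x * k₀ with ht₀
    have ht₀1 : t₀ ≠ 1 := by
      intro h
      apply hx1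
      have e : x = k₀ * t₀ * k₀⁻¹ := by rw [ht₀]; group
      rw [e, h]; group
    have hx_eq : k₀ * t₀ * k₀⁻¹ = x := by rw [ht₀]; group
    symm
    apply Finset.card_bij (fun n _ => ((k₀ * n⁻¹, n * t₀ * n⁻¹) : G × G))
    · intro n hn
      rw [hN, Finset.mem_filter] at hn
      have hn' := hn.2
      rw [Subgroup.mem_normalizer_iff] at hn'
      rw [Finset.mem_filter, hs, Finset.mem_product, hA, Finset.mem_filter]
      refine ⟨⟨Finset.mem_univ _, Finset.mem_univ _, (hn' t₀).1 hk₀, ?_⟩, ?_⟩
      · intro h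
        apply ht₀1
        have h' : n * t₀ * n⁻¹ = 1 := h
        have e : t₀ = n⁻¹ * (n * t₀ * n⁻¹) * n := by group
        rw [e, h']; group
      · change k₀ * n⁻¹ * (n * t₀ * n⁻¹) * (k₀ * n⁻¹)⁻¹ = x
        rw [← hx_eq]; group
    · intro n _ n' _ h
      have h1 : k₀ * n⁻¹ = k₀ * n'⁻¹ := congrArg Prod.fst h
      exact inv_injective (mul_left_cancel h1)
    · rintro ⟨k, t⟩ hkt
      rw [Finset.mem_filter, hs, Finset.mem_product, hA, Finset.mem_filter] at hkt
      obtain ⟨⟨-, -, ht, ht1⟩, hfx⟩ := hkt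
      change k * t * k⁻¹ = x at hfx
      have hconj : (k⁻¹ * k₀) * t₀ * (k⁻¹ * k₀)⁻¹ = t := by
        have e : (k⁻¹ * k₀) * t₀ * (k⁻¹ * k₀)⁻¹ = k⁻¹ * (k₀ * t₀ * k₀⁻¹) * k := by group
        rw [e, hx_eq, ← hfx]; group
      have hnorm : k⁻¹ * k₀ ∈ Subgroup.normalizer (T : Set G) :=
        hT.mem_normalizer hk₀ ht₀1 (by rw [hconj]; exact ht)
      refine ⟨k⁻¹ * k₀, ?_, ?_⟩
      · rw [hN, Finset.mem_filter]
        exact ⟨Finset.mem_univ _, hnorm⟩
      · rw [hconj]
        congr 1
        group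
  rw [Finset.sum_congr rfl hfib, Finset.sum_const, smul_eq_mul]

/-- the counting formula, `Nat.card` form -/
theorem SelfCent.natCard_conj [Finite G] {T : Subgroup G} (hT : SelfCent T) :
    Nat.card {x : G // x ≠ 1 ∧ ∃ k : G, k⁻¹ * x * k ∈ T} *
        Nat.card (Subgroup.normalizer (T : Set G))
      = Nat.card G * (Nat.card T - 1) := by
  classical
  haveI : Fintype G := Fintype.ofFinite G
  have h := hT.card_conj
  rw [Nat.card_eq_fintype_card, Nat.card_eq_fintype_card, Nat.card_eq_fintype_card,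
    Nat.card_eq_fintype_card, Fintype.card_subtype, Fintype.card_subtype, Fintype.card_subtype]
  rw [h]
  congr 1
  have h1 : (Finset.univ.filter fun t : G => t ∈ T) =
      insert 1 (Finset.univ.filter fun t : G => t ∈ T ∧ t ≠ 1) := by
    ext t
    simp only [Finset.mem_filter, Finset.mem_univ, true_and, Finset.mem_insert]
    constructor
    · intro ht
      by_cases h1 : t = 1
      · exact Or.inl h1
      · exact Or.inr ⟨ht, h1⟩
    · rintro (rfl | ⟨ht, -⟩)
      · exact T.one_mem
      · exact ht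
  rw [h1, Finset.card_insert_of_notMem]
  · simp
  · simp

end Cfsg.Agent.Lib.Helper6_TICount
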