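import Mathlib
import Cfsg.Agent.Lib.Helper6_SzTori
import Cfsg.Agent.Lib.Helper6_TICount

/-!
# The normaliser of a torus of the Suzuki group has index at most 4 (helper6)

Linear algebra: the elements commuting with an irreducible endomorphism form a commutative domain, so a non-zero
polynomial over `F` has at most `natDegree` roots among them. Applied to the characteristic polynomial of a generator
`x` of a torus `T`, whose roots include all `N(T)`-conjugates of `x`.
-/

set_option autoImplicit false
open Cfsg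

namespace Cfsg.Agent.Lib.Helper6_SzNorm

open Cfsg.Agent.Lib.Helper99_Singer Polynomial

section LinAlg

variable {F V : Type*} [Field F] [AddCommGroup V] [Module F V]

/-- roots of a polynomial among the elements commuting with an irreducible endomorphism -/
theorem card_le_natDegree_of_commute_roots [FiniteDimensional F V] [Nontrivial V]
    (T : Module.End F V)
    (hirr : ∀ W : Submodule F V, (∀ w ∈ W, T w ∈ W) → W ≠ ⊥ → W = ⊤)
    (χ : F[X]) (hχ : χ ≠ 0) (Z : Finset (Module.End F V))
    (hZc : ∀ z ∈ Z, T * z = z * T) (hZr : ∀ z ∈ Z, aeval z χ = 0) :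
    Z.card ≤ χ.natDegree := by
  classical
  obtain ⟨v₀, hv₀⟩ := exists_ne (0 : V)
  obtain ⟨hcomm, hinj, hsurj⟩ := centAlg_structure T hirr v₀ hv₀
  set C := centAlg T with hC
  let instCR : CommRing C :=
    { (inferInstance : Ring C) with
      mul_comm := fun a b => Subtype.ext (hcomm a.1 a.2 b.1 b.2) }
  have hnt : Nontrivial C := by
    refine ⟨⟨0, 1, ?_⟩⟩
    intro h
    have h1 : (0 : Module.End F V) = 1 := congrArg Subtype.val h
    have := LinearMap.congr_fun h1 v₀
    simp at this
    exact hv₀ this.symm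
  have hnzd : NoZeroDivisors C := by
    refine ⟨fun {a b} hab => ?_⟩
    by_cases ha : a = 0
    · exact Or.inl ha
    · right
      have ha' : (a : Module.End F V) ≠ 0 := fun h => ha (Subtype.ext h)
      have hu := isUnit_of_mem_centAlg T hirr a.1 a.2 ha'
      have hab' : (a : Module.End F V) * (b : Module.End F V) = 0 :=
        congrArg Subtype.val hab
      apply Subtype.ext
      exact (hu.mul_right_eq_zero).mp hab'
  have hdom : IsDomain C := NoZeroDivisors.to_isDomain C
  -- the roots as elements of `C`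
  let φ : Module.End F V → C := fun z => if h : z ∈ C then ⟨z, h⟩ else 0
  have hφ : ∀ z ∈ Z, ((φ z : C) : Module.End F V) = z := by
    intro z hz
    have : z ∈ C := (mem_centAlg T z).2 (hZc z hz)
    simp only [φ, dif_pos this]
  set Z' : Finset C := Z.image φ with hZ'
  have hcard : Z'.card = Z.card := by
    apply Finset.card_image_of_injOn
    intro a ha b hb hab
    have ha' := hφ a ha
    have hb' := hφ b hb
    rw [← ha', ← hb', hab]
  have hmap : χ.map (algebraMap F C) ≠ 0 := by
    rw [Ne, Polynomial.map_eq_zero_iff (FaithfulSMul.algebraMap_injective F C)]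
    exact hχ
  have hsub : Z'.val ⊆ (χ.map (algebraMap F C)).roots := by
    intro c hc
    rw [Finset.mem_val, hZ', Finset.mem_image] at hc
    obtain ⟨z, hz, rfl⟩ := hc
    rw [Polynomial.mem_roots hmap, Polynomial.IsRoot.def, Polynomial.eval_map,
      ← Polynomial.aeval_def]
    apply Subtype.ext
    rw [Polynomial.aeval_subalgebra_coe, hφ z hz, hZr z hz]
    rfl
  have := Polynomial.card_le_degree_of_subset_roots hsub
  rw [hcard] at this
  exact this.trans (Polynomial.natDegree_map_le)

/-- evaluation of a polynomial at a conjugate -/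
theorem aeval_conj {A : Type*} [Ring A] [Algebra F A] (u v a : A) (hvu : v * u = 1) (p : F[X]) :
    aeval (u * a * v) p = u * aeval a p * v + (1 - u * v) * algebraMap F A (p.coeff 0) := by
  have hpow : ∀ i : ℕ, 0 < i → (u * a * v) ^ i = u * a ^ i * v := by
    intro i hi
    induction i with
    | zero => exact absurd hi (lt_irrefl 0)
    | succ i ih =>
      rcases Nat.eq_zero_or_pos i with h0 | h0
      · rw [h0]; simp
      · rw [pow_succ, ih h0, pow_succ]
        calc u * a ^ i * v * (u * a * v) = u * a ^ i * (v * u) * a * v := by noncomm_ring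
          _ = u * (a ^ i * a) * v := by rw [hvu]; noncomm_ring
  rw [aeval_eq_sum_range, aeval_eq_sum_range, Finset.mul_sum, Finset.sum_mul]
  rw [Finset.sum_range_succ', Finset.sum_range_succ' (fun i => u * (p.coeff i • a ^ i) * v)]
  have e1 : ∀ i ∈ Finset.range p.natDegree,
      p.coeff (i + 1) • (u * a * v) ^ (i + 1) = u * (p.coeff (i + 1) • a ^ (i + 1)) * v := by
    intro i _
    rw [hpow (i + 1) (Nat.succ_pos i), mul_smul_comm, smul_mul_assoc]
  rw [Finset.sum_congr rfl e1, pow_zero, pow_zero, Algebra.smul_def, mul_one, add_assoc]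
  congr 1
  have h1 : u * algebraMap F A (p.coeff 0) = algebraMap F A (p.coeff 0) * u :=
    (Algebra.commutes (p.coeff 0) u).symm
  have h2 : (u * v) * algebraMap F A (p.coeff 0) = algebraMap F A (p.coeff 0) * (u * v) :=
    (Algebra.commutes (p.coeff 0) (u * v)).symm
  rw [h1, sub_mul, one_mul, h2, mul_assoc]
  abel

end LinAlg

section Sz

open Cfsg.Agent.Helper37Sz Cfsg.Agent.Lib.Helper6_SzCent Cfsg.Agent.Lib.Helper6_SzTori
open Cfsg.Agent.Lib.Helper6_SzTorus Cfsg.Agent.Lib.Helper6_TICount

variable {F : Type*} [Field F] [Fintype F] {m : ℕ}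

/-- an element of odd prime order `p ∣ q² + 1` acts irreducibly on `F⁴` -/
theorem irreducible_rho {p : ℕ} [hp : Fact p.Prime] (hp2 : p ≠ 2)
    (hpq : p ∣ Fintype.card F ^ 2 + 1) (x : Cfsg.Sz F m) (hx : orderOf x = p) :
    ∀ W : Submodule F (Fin 4 → F), (∀ w ∈ W, rho F m x w ∈ W) → W ≠ ⊥ → W = ⊤ := by
  have hT : (rho F m x) ^ p = 1 := by
    rw [← map_pow, ← hx, pow_orderOf_eq_one, map_one]
  have hT1 : rho F m x ≠ 1 := by
    intro h
    have : x = 1 := rho_injective (by rw [h, map_one])
    rw [this, orderOf_one] at hx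
    exact hp.out.one_lt.ne hx
  have hi : orderOf ((Fintype.card F : ℕ) : ZMod p) = Module.finrank F (Fin 4 → F) := by
    rw [orderOf_zmod_eq_four hp2 hpq, Module.finrank_fin_fun]
  exact irreducible_of_ppd (rho F m x) hp.out hT hT1 hi

/-- tori are self-centralising -/
theorem selfCent_torus (hm : 1 ≤ m) (hF : Fintype.card F = 2 ^ (2 * m + 1)) {g : Cfsg.Sz F m}
    (hg : Fpf g) : SelfCent (torus g) := fun _ ht ht1 => torus_eq hm hF hg ht ht1

/-- the normaliser of a torus has index at most `4` -/
theorem card_normalizer_le (hm : 1 ≤ m) (hF : Fintype.card F = 2 ^ (2 * m + 1)) {g : Cfsg.Sz F m}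
    (hg : Fpf g) :
    Nat.card (Subgroup.normalizer (torus g : Set (Cfsg.Sz F m))) ≤ 4 * Nat.card (torus g) := by
  classical
  haveI : Fintype (Cfsg.Sz F m) := Fintype.ofFinite _
  haveI hcyc := isCyclic_centralizer_of_no_fixed hm hF hg
  obtain ⟨x, hx⟩ := IsCyclic.exists_generator (α := torus g)
  set x₀ : Cfsg.Sz F m := (x : Cfsg.Sz F m) with hx₀
  have hx₀T : x₀ ∈ torus g := x.2
  have hx₀1 : x₀ ≠ 1 := by
    intro h
    have hx1 : x = 1 := Subtype.ext h
    have hg1 := hx ⟨g, self_mem_torus g⟩
    rw [hx1, Subgroup.zpowers_one_eq_bot, Subgroup.mem_bot] at hg1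
    exact hg.ne_one (congrArg Subtype.val hg1)
  have hTx : torus x₀ = torus g := torus_eq hm hF hg hx₀T hx₀1
  have hx₀f : Fpf x₀ := hg.of_mem_torus hm hF hx₀T hx₀1
  -- an element of prime order in the torus
  have hn1 : orderOf x₀ ≠ 1 := fun h => hx₀1 (orderOf_eq_one_iff.1 h)
  have hn0 : orderOf x₀ ≠ 0 := (orderOf_pos x₀).ne'
  set p := (orderOf x₀).minFac with hp
  have hpp : p.Prime := Nat.minFac_prime hn1
  have hpg : p ∣ orderOf x₀ := Nat.minFac_dvd _
  have hpq := prime_dvd_of_no_fixed hm hF hx₀f hpp hpg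
  have hp2 : p ≠ 2 := by
    intro h
    rw [h] at hpq
    exact card_sq_add_one_odd hF hpq
  haveI : Fact p.Prime := ⟨hpp⟩
  set y := x₀ ^ (orderOf x₀ / p) with hy
  have hyo : orderOf y = p := orderOf_pow_orderOf_div hn0 hpg
  have hirr := irreducible_rho hp2 hpq y hyo
  have hyT : y ∈ torus g := (torus g).pow_mem hx₀T _
  -- the characteristic polynomial of `x₀`
  set χ : F[X] := (rho F m x₀).charpoly with hχ
  have hχ0 : χ ≠ 0 := (LinearMap.charpoly_monic _).ne_zero
  have hχdeg : χ.natDegree = 4 := by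
    rw [hχ, LinearMap.charpoly_natDegree, Module.finrank_fin_fun]
  have hCH : aeval (rho F m x₀) χ = 0 := LinearMap.aeval_self_charpoly _
  set N := Finset.univ.filter fun n : Cfsg.Sz F m =>
    n ∈ Subgroup.normalizer (torus g : Set (Cfsg.Sz F m)) with hN
  set Tf := Finset.univ.filter fun t : Cfsg.Sz F m => t ∈ torus g with hTf
  let f : Cfsg.Sz F m → Module.End F (Fin 4 → F) := fun n => rho F m (n * x₀ * n⁻¹)
  have hZ : (N.image f).card ≤ 4 := by
    refine (card_le_natDegree_of_commute_roots (rho F m y) hirr χ hχ0 (N.image f) ?_ ?_).trans_eq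
      hχdeg
    · intro z hz
      rw [Finset.mem_image] at hz
      obtain ⟨n, hn, rfl⟩ := hz
      rw [hN, Finset.mem_filter] at hn
      have hn' := (Subgroup.mem_normalizer_iff.1 hn.2 x₀).1 hx₀T
      have hc := torus_comm hm hF hg hyT hn'
      change rho F m y * rho F m (n * x₀ * n⁻¹) = rho F m (n * x₀ * n⁻¹) * rho F m y
      rw [← map_mul, ← map_mul, hc]
    · intro z hz
      rw [Finset.mem_image] at hz
      obtain ⟨n, hn, rfl⟩ := hz
      change aeval (rho F m (n * x₀ * n⁻¹)) χ = 0
      have hvu : rho F m n⁻¹ * rho F m n = 1 := by rw [← map_mul, inv_mul_cancel, map_one]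
      have huv : rho F m n * rho F m n⁻¹ = 1 := by rw [← map_mul, mul_inv_cancel, map_one]
      rw [map_mul, map_mul, aeval_conj _ _ _ hvu, hCH, huv]
      simp
  have hfib : ∀ a ∈ N.image f, (N.filter fun n => f n = a).card ≤ Tf.card := by
    intro a ha
    rw [Finset.mem_image] at ha
    obtain ⟨n₀, hn₀, rfl⟩ := ha
    apply Finset.card_le_card_of_injOn (fun n => n₀⁻¹ * n)
    · intro n hn
      rw [Finset.mem_coe, Finset.mem_filter] at hn
      have h1 : n * x₀ * n⁻¹ = n₀ * x₀ * n₀⁻¹ := rho_injective hn.2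
      rw [Finset.mem_coe, hTf, Finset.mem_filter]
      refine ⟨Finset.mem_univ _, ?_⟩
      rw [← hTx, mem_torus_iff]
      have e1 : n₀⁻¹ * n * x₀ = n₀⁻¹ * (n * x₀ * n⁻¹) * n := by group
      rw [e1, h1]; group
    · intro n _ n' _ h
      exact mul_left_cancel h
  have hmain := Finset.card_le_mul_card_image (f := f) N Tf.card hfib
  have e1 : Nat.card (Subgroup.normalizer (torus g : Set (Cfsg.Sz F m))) = N.card := by
    rw [Nat.card_eq_fintype_card, Fintype.card_subtype]
  have e2 : Nat.card (torus g) = Tf.card := by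
    rw [Nat.card_eq_fintype_card, Fintype.card_subtype]
  rw [e1, e2]
  calc N.card ≤ Tf.card * (N.image f).card := hmain
    _ ≤ Tf.card * 4 := Nat.mul_le_mul_left _ hZ
    _ = 4 * Tf.card := mul_comm _ _

end Sz

end Cfsg.Agent.Lib.Helper6_SzNorm
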