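import Mathlib
import Cfsg.Agent.Lib.Helper6_SzNorm
import Cfsg.Agent.Lib.Helper6_Burnside2
import Cfsg.Agent.S0327

/-!
# Counting with the tori of the Suzuki group (helper6)
-/

set_option autoImplicit false
open Cfsg

namespace Cfsg.Agent.Lib.Helper6_SzToriCount

open Cfsg.Agent.Helper37Sz Cfsg.Agent.Lib.Helper6_SzCent Cfsg.Agent.Lib.Helper6_SzTori
open Cfsg.Agent.Lib.Helper6_SzNorm Cfsg.Agent.Lib.Helper6_TICount

variable {F : Type*} [Field F] [Fintype F] {m : ℕ}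

theorem two_le_q (hm : 1 ≤ m) : 8 ≤ 2 ^ (2 * m + 1) := by
  calc 8 = 2 ^ 3 := by norm_num
    _ ≤ 2 ^ (2 * m + 1) := Nat.pow_le_pow_right (by norm_num) (by omega)

/-- the number of fixed-point-free elements -/
theorem two_mul_card_fpf (hm : 1 ≤ m) (hF : Fintype.card F = 2 ^ (2 * m + 1)) :
    2 * Nat.card {g : Cfsg.Sz F m // Fpf g}
      = (2 ^ (2 * m + 1)) ^ 2 * (2 ^ (2 * m + 1) - 1) * 2 ^ (2 * m + 1) * (2 ^ (2 * m + 1) - 1) := by
  classical
  have h2 : (2 : F) = 0 := two_eq_zero_of_card hF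
  set S : F →+* F := sgHom F m h2 with hSd
  have hSdef : ∀ z, S z = z ^ 2 ^ (m + 1) := fun z => sgHom_apply m h2 z
  have hS : ∀ z, S (S z) = z ^ 2 := fun z => sgHom_sgHom hF h2 z
  haveI : Finite (Cfsg.suzukiOvoid F m) := (Set.toFinite _).to_subtype
  have hZ := Cfsg.Agent.S0327.result hm hF
  have hcardΩ : Nat.card (Cfsg.suzukiOvoid F m) = (2 ^ (2 * m + 1)) ^ 2 + 1 := by
    rw [Cfsg.Agent.S0326.result, hF]
  have hq := two_le_q hm
  have h3 : ∀ g : Cfsg.Sz F m, g ≠ 1 →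
      Nat.card (MulAction.fixedBy (Cfsg.suzukiOvoid F m) g) ≤ 2 := by
    intro g hg
    by_contra hcon
    push Not at hcon
    haveI : Fintype (MulAction.fixedBy (Cfsg.suzukiOvoid F m) g) := Fintype.ofFinite _
    rw [Nat.card_eq_fintype_card, Fintype.two_lt_card_iff] at hcon
    obtain ⟨a, b, c, hab, hac, hbc⟩ := hcon
    apply hg
    exact three_pt_trivial hm hF h2 hS hSdef g (fun h => hab (Subtype.ext h))
      (fun h => hbc (Subtype.ext h)) (fun h => hac (Subtype.ext h)) a.2 b.2 c.2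
  have key := Cfsg.Agent.Lib.Helper6_Burnside2.two_mul_card_fpf (G := Cfsg.Sz F m)
    (Ω := Cfsg.suzukiOvoid F m) hZ.2.1 (by
      rw [hcardΩ]
      have : 1 ≤ (2 ^ (2 * m + 1)) ^ 2 := Nat.one_le_pow _ _ (by positivity)
      omega) h3
  rw [hcardΩ, Cfsg.Agent.S0324.result hm hF] at key
  set q : ℕ := 2 ^ (2 * m + 1) with hqd
  have e : (2 * Nat.card {g : Cfsg.Sz F m // Fpf g} : ℤ)
      = ((q ^ 2 * (q - 1) * q * (q - 1) : ℕ) : ℤ) := by
    have hq1 : 1 ≤ q := by omega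
    rw [show ({g : Cfsg.Sz F m // Fpf g}) = {g : Cfsg.Sz F m // ∀ a : Cfsg.suzukiOvoid F m, g • a ≠ a}
      from rfl, key]
    push_cast [Nat.cast_sub hq1]
    ring
  exact_mod_cast e

/-- the set of non-identity elements conjugate into the torus of `g` -/
def InY (g x : Cfsg.Sz F m) : Prop := x ≠ 1 ∧ ∃ k : Cfsg.Sz F m, k⁻¹ * x * k ∈ torus g

theorem card_torus_conj (g k : Cfsg.Sz F m) :
    Nat.card (torus (k * g * k⁻¹)) = Nat.card (torus g) := by
  apply Nat.card_congr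
  refine ⟨fun c => ⟨k⁻¹ * c * k, mem_torus_conj.1 c.2⟩, fun c => ⟨k * c * k⁻¹, ?_⟩, ?_, ?_⟩
  · rw [mem_torus_conj]
    have e : k⁻¹ * (k * (c : Cfsg.Sz F m) * k⁻¹) * k = c := by group
    rw [e]; exact c.2
  · intro c
    apply Subtype.ext
    show k * (k⁻¹ * (c : Cfsg.Sz F m) * k) * k⁻¹ = c
    group
  · intro c
    apply Subtype.ext
    show k⁻¹ * (k * (c : Cfsg.Sz F m) * k⁻¹) * k = c
    group

/-- elements of `Y(g)` are fixed-point-free with torus of the same order -/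
theorem InY.fpf (hm : 1 ≤ m) (hF : Fintype.card F = 2 ^ (2 * m + 1)) {g x : Cfsg.Sz F m}
    (hg : Fpf g) (hx : InY g x) : Fpf x ∧ Nat.card (torus x) = Nat.card (torus g) := by
  obtain ⟨hx1, k, hk⟩ := hx
  have ht1 : k⁻¹ * x * k ≠ 1 := by
    intro h
    apply hx1
    have e : x = k * (k⁻¹ * x * k) * k⁻¹ := by group
    rw [e, h]; group
  have htf := hg.of_mem_torus hm hF hk ht1
  have hte := torus_eq hm hF hg hk ht1
  have e : x = k * (k⁻¹ * x * k) * k⁻¹ := by group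
  constructor
  · rw [e]; exact htf.conj k
  · rw [e, card_torus_conj, hte]

/-- the counting formula for `Y(g)` -/
theorem card_InY (hm : 1 ≤ m) (hF : Fintype.card F = 2 ^ (2 * m + 1)) {g : Cfsg.Sz F m}
    (hg : Fpf g) :
    Nat.card {x : Cfsg.Sz F m // InY g x} *
        Nat.card (Subgroup.normalizer (torus g : Set (Cfsg.Sz F m)))
      = Nat.card (Cfsg.Sz F m) * (Nat.card (torus g) - 1) :=
  (selfCent_torus hm hF hg).natCard_conj

/-- a fixed-point-free element whose torus order shares a prime with that of `g` lies in `Y(g)` -/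
theorem inY_of_prime (hm : 1 ≤ m) (hF : Fintype.card F = 2 ^ (2 * m + 1)) {g x : Cfsg.Sz F m}
    (hg : Fpf g) (hx : Fpf x) {p : ℕ} (hp : p.Prime) (hpg : p ∣ Nat.card (torus g))
    (hpx : p ∣ Nat.card (torus x)) : InY g x := by
  obtain ⟨k, hk⟩ := exists_conj_torus hm hF hg hx hp hpg hpx
  exact ⟨hx.ne_one, k, (hk x).1 (self_mem_torus x)⟩

theorem three_not_dvd_q_sq_add_one (m : ℕ) : ¬ 3 ∣ (2 ^ (2 * m + 1)) ^ 2 + 1 := by
  have h1 : (2 ^ (2 * m + 1)) % 3 = 2 := by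
    have e : 2 ^ (2 * m + 1) = 4 ^ m * 2 := by rw [pow_succ, pow_mul]; norm_num
    rw [e, Nat.mul_mod, Nat.pow_mod]
    norm_num
  intro h
  have h2 : ((2 ^ (2 * m + 1)) ^ 2 + 1) % 3 = 2 := by
    rw [Nat.add_mod, Nat.pow_mod, h1]
  omega

theorem three_not_dvd_card (hm : 1 ≤ m) (hF : Fintype.card F = 2 ^ (2 * m + 1)) :
    ¬ 3 ∣ Nat.card (Cfsg.Sz F m) := by
  rw [Cfsg.Agent.S0324.result hm hF]
  have h1 : (2 ^ (2 * m + 1)) % 3 = 2 := by
    have e : 2 ^ (2 * m + 1) = 4 ^ m * 2 := by rw [pow_succ, pow_mul]; norm_num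
    rw [e, Nat.mul_mod, Nat.pow_mod]
    norm_num
  have hq := two_le_q hm
  set q : ℕ := 2 ^ (2 * m + 1) with hqd
  intro h
  have h2 : (q ^ 2 * (q ^ 2 + 1) * (q - 1)) % 3 = 2 := by
    have e1 : (q - 1) % 3 = 1 := by omega
    have e2 : (q ^ 2) % 3 = 1 := by rw [Nat.pow_mod, h1]
    have e3 : (q ^ 2 + 1) % 3 = 2 := by rw [Nat.add_mod, e2]
    rw [Nat.mul_mod, Nat.mul_mod (q ^ 2), e1, e2, e3]
  omega

/-- the order of a torus is at least 5 -/
theorem five_le_card_torus (hm : 1 ≤ m) (hF : Fintype.card F = 2 ^ (2 * m + 1)) {g : Cfsg.Sz F m}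
    (hg : Fpf g) : 5 ≤ Nat.card (torus g) := by
  have hdvd := card_torus_dvd hm hF hg
  rw [hF] at hdvd
  have h3 : ¬ 3 ∣ Nat.card (torus g) := fun h =>
    three_not_dvd_q_sq_add_one m (h.trans hdvd)
  have h2 : ¬ 2 ∣ Nat.card (torus g) := fun h => by
    have := card_sq_add_one_odd hF
    rw [hF] at this
    exact this (h.trans hdvd)
  have h1 : Nat.card (torus g) ≠ 1 := by
    intro h
    haveI : Subsingleton (torus g) := (Nat.card_eq_one_iff_unique.1 h).1
    have := Subsingleton.elim (⟨g, self_mem_torus g⟩ : torus g) 1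
    exact hg.ne_one (congrArg Subtype.val this)
  have h0 : Nat.card (torus g) ≠ 0 := Nat.card_pos.ne'
  by_contra hlt
  push Not at hlt
  interval_cases h : Nat.card (torus g) <;> simp_all

/-- the index of a torus in its normaliser is 1, 2 or 4 -/
theorem exists_index (hm : 1 ≤ m) (hF : Fintype.card F = 2 ^ (2 * m + 1)) {g : Cfsg.Sz F m}
    (hg : Fpf g) :
    ∃ c : ℕ, (c = 1 ∨ c = 2 ∨ c = 4) ∧
      Nat.card (Subgroup.normalizer (torus g : Set (Cfsg.Sz F m))) = c * Nat.card (torus g) := by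
  have hle : torus g ≤ Subgroup.normalizer (torus g : Set (Cfsg.Sz F m)) := Subgroup.le_normalizer
  obtain ⟨c, hc⟩ := Subgroup.card_dvd_of_le hle
  have hb := card_normalizer_le hm hF hg
  have hpos : 0 < Nat.card (torus g) := Nat.card_pos
  rw [hc] at hb
  have hc4 : c ≤ 4 := by
    have : Nat.card (torus g) * c ≤ Nat.card (torus g) * 4 := by rw [mul_comm _ 4]; exact hb
    exact Nat.le_of_mul_le_mul_left this hpos
  have hc0 : c ≠ 0 := by
    rintro rfl
    rw [mul_zero] at hc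
    exact Nat.card_pos.ne' hc
  have hc3 : c ≠ 3 := by
    rintro rfl
    apply three_not_dvd_card hm hF
    have h1 : Nat.card (Subgroup.normalizer (torus g : Set (Cfsg.Sz F m))) ∣
        Nat.card (Cfsg.Sz F m) := Subgroup.card_subgroup_dvd_card _
    exact (Dvd.intro_left _ hc.symm).trans h1
  refine ⟨c, ?_, by rw [hc, mul_comm]⟩
  interval_cases c <;> simp_all

/-- a non-identity element fixes at most two points -/
theorem card_fixed_le_two (hm : 1 ≤ m) (hF : Fintype.card F = 2 ^ (2 * m + 1)) {g : Cfsg.Sz F m}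
    (hg : g ≠ 1) : Nat.card {a : Cfsg.suzukiOvoid F m // g • a = a} ≤ 2 := by
  classical
  have h2 : (2 : F) = 0 := two_eq_zero_of_card hF
  set S : F →+* F := sgHom F m h2 with hSd
  have hSdef : ∀ z, S z = z ^ 2 ^ (m + 1) := fun z => sgHom_apply m h2 z
  have hS : ∀ z, S (S z) = z ^ 2 := fun z => sgHom_sgHom hF h2 z
  haveI : Finite (Cfsg.suzukiOvoid F m) := (Set.toFinite _).to_subtype
  by_contra hcon
  push Not at hcon
  haveI : Fintype {a : Cfsg.suzukiOvoid F m // g • a = a} := Fintype.ofFinite _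
  rw [Nat.card_eq_fintype_card, Fintype.two_lt_card_iff] at hcon
  obtain ⟨a, b, c, hab, hac, hbc⟩ := hcon
  apply hg
  exact three_pt_trivial hm hF h2 hS hSdef g (fun h => hab (Subtype.ext h))
    (fun h => hbc (Subtype.ext h)) (fun h => hac (Subtype.ext h)) a.2 b.2 c.2

/-- for every prime `p ∣ q² + 1` there is a fixed-point-free element of order `p` -/
theorem exists_fpf_orderOf (hm : 1 ≤ m) (hF : Fintype.card F = 2 ^ (2 * m + 1)) {p : ℕ}
    (hp : p.Prime) (hpN : p ∣ (2 ^ (2 * m + 1)) ^ 2 + 1) :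
    ∃ z : Cfsg.Sz F m, Fpf z ∧ orderOf z = p := by
  haveI : Fact p.Prime := ⟨hp⟩
  have hpG : p ∣ Nat.card (Cfsg.Sz F m) := by
    rw [Cfsg.Agent.S0324.result hm hF]
    exact Dvd.dvd.mul_right (Dvd.dvd.mul_left hpN _) _
  obtain ⟨z, hz⟩ := exists_prime_orderOf_dvd_card' p hpG
  refine ⟨z, ?_, hz⟩
  have hz1 : z ≠ 1 := by
    rintro rfl
    rw [orderOf_one] at hz
    exact hp.one_lt.ne hz
  have hzp : z ^ p = 1 := by rw [← hz, pow_orderOf_eq_one]
  have hmod := card_fixed_modEq hp z hzp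
  rw [hF] at hmod
  have hle := card_fixed_le_two hm hF hz1
  have hp2 : p ≠ 2 := by
    rintro rfl
    have := card_sq_add_one_odd hF
    rw [hF] at this
    exact this hpN
  have hp3 : 3 ≤ p := by
    have := hp.two_le
    omega
  have hdvd : p ∣ Nat.card {a : Cfsg.suzukiOvoid F m // z • a = a} := by
    have h0 : ((2 ^ (2 * m + 1)) ^ 2 + 1) % p = 0 := Nat.mod_eq_zero_of_dvd hpN
    unfold Nat.ModEq at hmod
    rw [h0] at hmod
    exact Nat.dvd_of_mod_eq_zero hmod.symm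
  have h0 : Nat.card {a : Cfsg.suzukiOvoid F m // z • a = a} = 0 := by
    by_contra hne
    have := Nat.le_of_dvd (Nat.pos_of_ne_zero hne) hdvd
    omega
  intro a ha
  haveI : Finite (Cfsg.suzukiOvoid F m) := (Set.toFinite _).to_subtype
  rw [Nat.card_eq_zero] at h0
  rcases h0 with h0 | h0
  · exact h0.false ⟨a, ha⟩
  · exact h0.false

/-- a torus contains full Sylow subgroups: `|T| · p` does not divide `q² + 1` for a prime `p ∣ |T|` -/
theorem not_mul_prime_dvd (hm : 1 ≤ m) (hF : Fintype.card F = 2 ^ (2 * m + 1)) {g : Cfsg.Sz F m}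
    (hg : Fpf g) {p : ℕ} (hp : p.Prime) (hpa : p ∣ Nat.card (torus g)) :
    ¬ (Nat.card (torus g) * p ∣ (2 ^ (2 * m + 1)) ^ 2 + 1) := by
  haveI : Fact p.Prime := ⟨hp⟩
  intro hdvd
  obtain ⟨y, hyT, hy, hy1⟩ := exists_mem_orderOf_eq hp (torus g) hpa
  have hpg : IsPGroup p (Subgroup.zpowers y) := by
    apply IsPGroup.of_card (n := 1)
    rw [Nat.card_zpowers, hy, pow_one]
  obtain ⟨P, hP⟩ := hpg.exists_le_sylow
  have hyP : y ∈ P := hP (Subgroup.mem_zpowers _)
  have hle := sylow_le_torus hm hF hg P hyP hyT hy1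
  have h1 : Nat.card P ∣ Nat.card (torus g) := Subgroup.card_dvd_of_le hle
  rw [P.card_eq_multiplicity] at h1
  have h2 : p ^ ((Nat.card (Cfsg.Sz F m)).factorization p + 1) ∣ Nat.card (Cfsg.Sz F m) := by
    rw [pow_succ]
    have h3 : p ^ (Nat.card (Cfsg.Sz F m)).factorization p * p ∣ (2 ^ (2 * m + 1)) ^ 2 + 1 :=
      (Nat.mul_dvd_mul_right h1 p).trans hdvd
    refine h3.trans ?_
    rw [Cfsg.Agent.S0324.result hm hF]
    exact Dvd.dvd.mul_right (Dvd.intro_left _ rfl) _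
  exact Nat.pow_succ_factorization_not_dvd Nat.card_pos.ne' hp h2

end Cfsg.Agent.Lib.Helper6_SzToriCount
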