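import Mathlib
import Cfsg.Agent.S0333

/-!
# Classification of the tori of the Suzuki group (helper6)

A refactoring of the proof of `S0333`: there are fixed-point-free `g₁, g₂` whose tori have orders `q + 2r + 1` and
`q - 2r + 1` and index `4` in their normalisers, and every fixed-point-free element is conjugate into one of them.
-/

set_option autoImplicit false
open Cfsg

namespace Cfsg.Agent.Lib.Helper6_SzToriClass

open Cfsg.Agent.Helper37Sz Cfsg.Agent.Lib.Helper6_SzCent Cfsg.Agent.Lib.Helper6_SzTori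
open Cfsg.Agent.Lib.Helper6_SzNorm Cfsg.Agent.Lib.Helper6_TICount Cfsg.Agent.Lib.Helper6_SzToriCount
open Cfsg.Agent.Lib.Helper6_SzArith Cfsg.Agent.S0333

variable {F : Type*} [Field F] [Fintype F] {m : ℕ}

theorem tori_classification (hm : 1 ≤ m) (hF : Fintype.card F = 2 ^ (2 * m + 1)) :
    ∃ g₁ g₂ : Cfsg.Sz F m, Fpf g₁ ∧ Fpf g₂ ∧
      Nat.card (torus g₁) = 2 ^ (2 * m + 1) + 2 ^ (m + 1) + 1 ∧
      Nat.card (torus g₂) = 2 ^ (2 * m + 1) - 2 ^ (m + 1) + 1 ∧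
      Nat.card (Subgroup.normalizer (torus g₁ : Set (Cfsg.Sz F m))) = 4 * Nat.card (torus g₁) ∧
      Nat.card (Subgroup.normalizer (torus g₂ : Set (Cfsg.Sz F m))) = 4 * Nat.card (torus g₂) ∧
      ∀ x : Cfsg.Sz F m, Fpf x → InY g₁ x ∨ InY g₂ x := by
  classical
  haveI : Fintype (Cfsg.Sz F m) := Fintype.ofFinite _
  have hq8 := two_le_q hm
  set q : ℕ := 2 ^ (2 * m + 1) with hq
  set g0 : ℕ := q ^ 2 * (q - 1) with hg0
  have hg0pos : 0 < g0 := by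
    rw [hg0]
    have : 0 < q - 1 := by omega
    positivity
  have hX := two_mul_card_fpf hm hF
  rw [← hq, ← hg0] at hX
  -- finset versions
  set Xf : Finset (Cfsg.Sz F m) := Finset.univ.filter fun g => Fpf g with hXf
  have hXcard : Nat.card {g : Cfsg.Sz F m // Fpf g} = Xf.card := by
    rw [Nat.card_eq_fintype_card, Fintype.card_subtype]
  let Yf : Cfsg.Sz F m → Finset (Cfsg.Sz F m) := fun g => Finset.univ.filter fun x => InY g x
  have hYcard : ∀ g : Cfsg.Sz F m, Nat.card {x : Cfsg.Sz F m // InY g x} = (Yf g).card := by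
    intro g
    rw [Nat.card_eq_fintype_card, Fintype.card_subtype]
  have hYsub : ∀ g : Cfsg.Sz F m, Fpf g → Yf g ⊆ Xf := by
    intro g hg x hx
    simp only [Yf, Finset.mem_filter, Finset.mem_univ, true_and] at hx
    rw [hXf, Finset.mem_filter]
    exact ⟨Finset.mem_univ _, (hx.fpf hm hF hg).1⟩
  have hYdisj : ∀ g g' : Cfsg.Sz F m, Fpf g → Fpf g' →
      Nat.Coprime (Nat.card (torus g)) (Nat.card (torus g')) → Disjoint (Yf g) (Yf g') := by
    intro g g' hg hg' hcop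
    rw [Finset.disjoint_left]
    intro x hx hx'
    simp only [Yf, Finset.mem_filter, Finset.mem_univ, true_and] at hx hx'
    have e1 := (hx.fpf hm hF hg).2
    have e2 := (hx'.fpf hm hF hg').2
    rw [← e1, ← e2] at hcop
    have h1 : Nat.card (torus x) = 1 := (Nat.coprime_self _).1 hcop
    have h5 := five_le_card_torus hm hF (hx.fpf hm hF hg).1
    omega
  -- covering
  have hcover : ∀ g g' : Cfsg.Sz F m, Fpf g → Fpf g' →
      (∀ p : ℕ, p.Prime → p ∣ q ^ 2 + 1 → p ∣ Nat.card (torus g) ∨ p ∣ Nat.card (torus g')) →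
      Xf ⊆ Yf g ∪ Yf g' := by
    intro g g' hg hg' hall x hx
    rw [hXf, Finset.mem_filter] at hx
    have hxf := hx.2
    have h5 := five_le_card_torus hm hF hxf
    obtain ⟨p, hp, hpx⟩ := Nat.exists_prime_and_dvd (show Nat.card (torus x) ≠ 1 by omega)
    have hpN := prime_dvd_of_dvd_card_torus hm hF hxf hp hpx
    rw [hF] at hpN
    rw [Finset.mem_union]
    rcases hall p hp hpN with h | h
    · left
      simp only [Yf, Finset.mem_filter, Finset.mem_univ, true_and]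
      exact inY_of_prime hm hF hg hxf hp h hpx
    · right
      simp only [Yf, Finset.mem_filter, Finset.mem_univ, true_and]
      exact inY_of_prime hm hF hg' hxf hp h hpx
  -- Step 1: a first torus
  have hXpos : 0 < Xf.card := by
    rw [← hXcard]
    have : 0 < g0 * q * (q - 1) := by
      have : 0 < q - 1 := by omega
      positivity
    omega
  obtain ⟨g₁, hg₁X⟩ := Finset.card_pos.1 hXpos
  have hg₁ : Fpf g₁ := by
    rw [hXf, Finset.mem_filter] at hg₁X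
    exact hg₁X.2
  set a₁ := Nat.card (torus g₁) with ha₁
  have ha₁5 := five_le_card_torus hm hF hg₁
  have ha₁N : a₁ ∣ q ^ 2 + 1 := by
    have := card_torus_dvd hm hF hg₁
    rwa [hF] at this
  obtain ⟨c₁, hc₁, hn₁, hrel₁⟩ := rel_InY hm hF hg₁
  rw [← hq, ← hg0, hYcard g₁, ← ha₁] at hrel₁
  -- Step 2: a₁ ≠ N
  have hne₁ : a₁ ≠ q ^ 2 + 1 := by
    intro hEq
    have hsub : Xf ⊆ Yf g₁ ∪ Yf g₁ := hcover g₁ g₁ hg₁ hg₁ (fun p _ hpN => by
      left; rw [← ha₁, hEq]; exact hpN)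
    rw [Finset.union_self] at hsub
    have heq : Xf = Yf g₁ := Finset.Subset.antisymm hsub (hYsub g₁ hg₁)
    rw [hXcard, heq] at hX
    rw [hEq, Nat.add_sub_cancel] at hrel₁
    exact arith_one hq8 hg0pos hc₁ hrel₁ hX
  -- Step 3: a second torus
  obtain ⟨d, hd⟩ := ha₁N
  have hd1 : d ≠ 1 := by
    rintro rfl
    rw [mul_one] at hd
    exact hne₁ hd.symm
  obtain ⟨p₂, hp₂, hp₂d⟩ := Nat.exists_prime_and_dvd hd1
  have hp₂N : p₂ ∣ q ^ 2 + 1 := by rw [hd]; exact Dvd.dvd.mul_left hp₂d _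
  have hp₂a₁ : ¬ p₂ ∣ a₁ := by
    intro h
    apply not_mul_prime_dvd hm hF hg₁ hp₂ h
    rw [← hq, ← ha₁, hd]
    exact Nat.mul_dvd_mul_left _ hp₂d
  obtain ⟨g₂, hg₂, ho₂⟩ := exists_fpf_orderOf hm hF hp₂ hp₂N
  set a₂ := Nat.card (torus g₂) with ha₂
  have hp₂a₂ : p₂ ∣ a₂ := by rw [← ho₂]; exact orderOf_dvd_card_torus g₂
  have ha₂5 := five_le_card_torus hm hF hg₂
  have ha₂N : a₂ ∣ q ^ 2 + 1 := by
    have := card_torus_dvd hm hF hg₂
    rwa [hF] at this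
  have hcop₁₂ : Nat.Coprime a₁ a₂ := coprime_of_prime_not_dvd hm hF hg₁ hg₂ hp₂a₂ hp₂a₁
  obtain ⟨c₂, hc₂, hn₂, hrel₂⟩ := rel_InY hm hF hg₂
  rw [← hq, ← hg0, hYcard g₂, ← ha₂] at hrel₂
  have hdisj₁₂ := hYdisj g₁ g₂ hg₁ hg₂ hcop₁₂
  -- Step 4: a₁ a₂ = N
  have hmulN : a₁ * a₂ ∣ q ^ 2 + 1 := hcop₁₂.mul_dvd_of_dvd_of_dvd ⟨d, hd⟩ ha₂N
  have hprod : a₁ * a₂ = q ^ 2 + 1 := by
    by_contra hne
    obtain ⟨d', hd'⟩ := hmulN
    have hd'1 : d' ≠ 1 := by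
      rintro rfl
      rw [mul_one] at hd'
      exact hne hd'.symm
    obtain ⟨p₃, hp₃, hp₃d⟩ := Nat.exists_prime_and_dvd hd'1
    have hp₃N : p₃ ∣ q ^ 2 + 1 := by rw [hd']; exact Dvd.dvd.mul_left hp₃d _
    have hp₃a₁ : ¬ p₃ ∣ a₁ := by
      intro h
      apply not_mul_prime_dvd hm hF hg₁ hp₃ h
      rw [← hq, ← ha₁, hd']
      have : a₁ * p₃ ∣ a₁ * (a₂ * d') :=
        Nat.mul_dvd_mul_left _ (Dvd.dvd.mul_left hp₃d _)
      rwa [← mul_assoc] at this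
    have hp₃a₂ : ¬ p₃ ∣ a₂ := by
      intro h
      apply not_mul_prime_dvd hm hF hg₂ hp₃ h
      rw [← hq, ← ha₂, hd']
      have : a₂ * p₃ ∣ a₂ * (a₁ * d') :=
        Nat.mul_dvd_mul_left _ (Dvd.dvd.mul_left hp₃d _)
      rw [← mul_assoc, mul_comm a₂ a₁] at this
      exact this
    obtain ⟨g₃, hg₃, ho₃⟩ := exists_fpf_orderOf hm hF hp₃ hp₃N
    set a₃ := Nat.card (torus g₃) with ha₃
    have hp₃a₃ : p₃ ∣ a₃ := by rw [← ho₃]; exact orderOf_dvd_card_torus g₃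
    have ha₃5 := five_le_card_torus hm hF hg₃
    have hcop₁₃ : Nat.Coprime a₁ a₃ := coprime_of_prime_not_dvd hm hF hg₁ hg₃ hp₃a₃ hp₃a₁
    have hcop₂₃ : Nat.Coprime a₂ a₃ := coprime_of_prime_not_dvd hm hF hg₂ hg₃ hp₃a₃ hp₃a₂
    obtain ⟨c₃, hc₃, hn₃, hrel₃⟩ := rel_InY hm hF hg₃
    rw [← hq, ← hg0, hYcard g₃, ← ha₃] at hrel₃
    have hdisj₁₃ := hYdisj g₁ g₃ hg₁ hg₃ hcop₁₃
    have hdisj₂₃ := hYdisj g₂ g₃ hg₂ hg₃ hcop₂₃
    have hsub : (Yf g₁ ∪ Yf g₂) ∪ Yf g₃ ⊆ Xf :=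
      Finset.union_subset (Finset.union_subset (hYsub g₁ hg₁) (hYsub g₂ hg₂)) (hYsub g₃ hg₃)
    have hcard := Finset.card_le_card hsub
    rw [Finset.card_union_of_disjoint (Finset.disjoint_union_left.2 ⟨hdisj₁₃, hdisj₂₃⟩),
      Finset.card_union_of_disjoint hdisj₁₂] at hcard
    have h4 : 2 * ((Yf g₁).card + (Yf g₂).card + (Yf g₃).card) ≤ g0 * q * (q - 1) := by
      rw [← hX, hXcard]; omega
    have hc₁4 : c₁ ≤ 4 := by rcases hc₁ with rfl | rfl | rfl <;> omega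
    have hc₂4 : c₂ ≤ 4 := by rcases hc₂ with rfl | rfl | rfl <;> omega
    have hc₃4 : c₃ ≤ 4 := by rcases hc₃ with rfl | rfl | rfl <;> omega
    exact arith_three hq8 hg0pos hc₁4 hc₂4 hc₃4 ha₁5 ha₂5 ha₃5 hrel₁ hrel₂ hrel₃ h4
  -- Step 5: the two classes exhaust
  have hsub : Xf ⊆ Yf g₁ ∪ Yf g₂ := hcover g₁ g₂ hg₁ hg₂ (fun p hp hpN => by
    rw [← hprod] at hpN
    exact (Nat.Prime.dvd_mul hp).1 hpN)
  have heq : Xf = Yf g₁ ∪ Yf g₂ :=
    Finset.Subset.antisymm hsub (Finset.union_subset (hYsub g₁ hg₁) (hYsub g₂ hg₂))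
  rw [hXcard, heq, Finset.card_union_of_disjoint hdisj₁₂] at hX
  obtain ⟨hc₁4, hc₂4, hsum⟩ := arith_two hq8 hg0pos hc₁ hc₂ ha₁5 ha₂5 hprod hrel₁ hrel₂ hX
  have hsolve := arith_solve (m := m) hprod hsum
  rw [hc₁4] at hn₁
  rw [hc₂4] at hn₂
  have hall : ∀ x : Cfsg.Sz F m, Fpf x → InY g₁ x ∨ InY g₂ x := by
    intro x hx
    have hxX : x ∈ Xf := by
      rw [hXf, Finset.mem_filter]
      exact ⟨Finset.mem_univ _, hx⟩
    have := hsub hxX
    rw [Finset.mem_union] at this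
    simp only [Yf, Finset.mem_filter, Finset.mem_univ, true_and] at this
    exact this
  rcases hsolve with ⟨e1, e2⟩ | ⟨e1, e2⟩
  · exact ⟨g₁, g₂, hg₁, hg₂, e1, e2, hn₁, hn₂, hall⟩
  · exact ⟨g₂, g₁, hg₂, hg₁, e2, e1, hn₂, hn₁, fun x hx => (hall x hx).symm⟩

/-- every torus has order `q + 2r + 1` or `q - 2r + 1` -/
theorem card_torus_cases (hm : 1 ≤ m) (hF : Fintype.card F = 2 ^ (2 * m + 1)) {x : Cfsg.Sz F m}
    (hx : Fpf x) :
    Nat.card (torus x) = 2 ^ (2 * m + 1) + 2 ^ (m + 1) + 1 ∨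
      Nat.card (torus x) = 2 ^ (2 * m + 1) - 2 ^ (m + 1) + 1 := by
  obtain ⟨g₁, g₂, hg₁, hg₂, e1, e2, -, -, hall⟩ := tori_classification hm hF
  rcases hall x hx with h | h
  · left
    rw [(h.fpf hm hF hg₁).2, e1]
  · right
    rw [(h.fpf hm hF hg₂).2, e2]

end Cfsg.Agent.Lib.Helper6_SzToriClass
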