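import Mathlib
import Cfsg.Agent.Lib.Helper6_SzToriClass
import Cfsg.Agent.Lib.Helper37_SzMax

/-!
# Pieces for the partition of the Suzuki group (helper6)

* two-point stabilisers are cyclic of order `q - 1` and contain the centralisers of their non-identity elements;
* a non-identity element lies in at most one Sylow 2-subgroup.
-/

set_option autoImplicit false
open Cfsg

namespace Cfsg.Agent.Lib.Helper6_SzPartition

open Cfsg.Agent.Helper37Sz Cfsg.Agent.Lib.Helper6_SzTori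

variable {F : Type*} [Field F] [Fintype F] {S : F →+* F} {m : ℕ}

/-- the two-point stabiliser -/
abbrev twoPt (a b : Cfsg.suzukiOvoid F m) : Subgroup (Cfsg.Sz F m) :=
  MulAction.stabilizer (Cfsg.Sz F m) a ⊓ MulAction.stabilizer (Cfsg.Sz F m) b

theorem mem_twoPt {a b : Cfsg.suzukiOvoid F m} {x : Cfsg.Sz F m} :
    x ∈ twoPt a b ↔ x • a = a ∧ x • b = b := by
  rw [Subgroup.mem_inf, MulAction.mem_stabilizer_iff, MulAction.mem_stabilizer_iff]

/-- the torus through `a, b` as the image of `Fˣ` -/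
noncomputable def torusHom (hS : ∀ z, S (S z) = z ^ 2) (hSdef : ∀ z, S z = z ^ 2 ^ (m + 1))
    (k : Cfsg.Sz F m) : Fˣ →* Cfsg.Sz F m where
  toFun t := k⁻¹ * hQ hS hSdef t * k
  map_one' := by rw [hQ_one]; group
  map_mul' t t' := by
    rw [← Cfsg.Agent.Lib.Helper6_SzCent.hQ_mul]; group

theorem torusHom_injective (hS : ∀ z, S (S z) = z ^ 2) (hSdef : ∀ z, S z = z ^ 2 ^ (m + 1))
    (k : Cfsg.Sz F m) : Function.Injective (torusHom hS hSdef k) := by
  intro t t' h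
  have h1 : k⁻¹ * hQ hS hSdef t * k = k⁻¹ * hQ hS hSdef t' * k := h
  exact Cfsg.Agent.Lib.Helper6_SzCent.hQ_injective hS hSdef
    (mul_left_cancel (mul_right_cancel h1))

theorem twoPt_eq_range (hm : 1 ≤ m) (hF : Fintype.card F = 2 ^ (2 * m + 1)) (h2 : (2 : F) = 0)
    (hS : ∀ z, S (S z) = z ^ 2) (hSdef : ∀ z, S z = z ^ 2 ^ (m + 1))
    {a b : Cfsg.suzukiOvoid F m} {k : Cfsg.Sz F m} (hka : k • a = ptInf F m)
    (hkb : k • b = ptAff hSdef 0 0) : twoPt a b = (torusHom hS hSdef k).range := by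
  ext x
  rw [mem_twoPt, MonoidHom.mem_range]
  constructor
  · rintro ⟨ha, hb⟩
    have h1 : (k * x * k⁻¹) • ptInf F m = ptInf F m := by
      rw [← hka, ← mul_smul, inv_mul_cancel_right, mul_smul, ha]
    have h0 : (k * x * k⁻¹) • ptAff hSdef 0 0 = ptAff hSdef 0 0 := by
      rw [← hkb, ← mul_smul, inv_mul_cancel_right, mul_smul, hb]
    obtain ⟨t, ht⟩ := fix_two_eq_hQ hm hF h2 hS hSdef h1 h0
    refine ⟨t, ?_⟩
    show k⁻¹ * hQ hS hSdef t * k = x
    rw [← ht]; group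
  · rintro ⟨t, rfl⟩
    have ha' : a = k⁻¹ • ptInf F m := by rw [← hka, inv_smul_smul]
    have hb' : b = k⁻¹ • ptAff hSdef 0 0 := by rw [← hkb, inv_smul_smul]
    constructor
    · show (k⁻¹ * hQ hS hSdef t * k) • a = a
      rw [mul_smul, hka, mul_smul, hQ_smul_ptInf, ← ha']
    · show (k⁻¹ * hQ hS hSdef t * k) • b = b
      rw [mul_smul, hkb, mul_smul, hQ_smul_ptAff, mul_zero, mul_zero, ← hb']

theorem isCyclic_twoPt (hm : 1 ≤ m) (hF : Fintype.card F = 2 ^ (2 * m + 1))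
    {a b : Cfsg.suzukiOvoid F m} (hab : a ≠ b) : IsCyclic (twoPt a b) := by
  have h2 : (2 : F) = 0 := two_eq_zero_of_card hF
  set S : F →+* F := sgHom F m h2 with hSd
  have hSdef : ∀ z, S z = z ^ 2 ^ (m + 1) := fun z => sgHom_apply m h2 z
  have hS : ∀ z, S (S z) = z ^ 2 := fun z => sgHom_sgHom hF h2 z
  obtain ⟨k, hka, hkb⟩ := exists_smul_pair h2 hS hSdef hab
  rw [twoPt_eq_range hm hF h2 hS hSdef hka hkb]
  exact isCyclic_of_surjective (torusHom hS hSdef k).rangeRestrict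
    (torusHom hS hSdef k).rangeRestrict_surjective

theorem card_twoPt (hm : 1 ≤ m) (hF : Fintype.card F = 2 ^ (2 * m + 1))
    {a b : Cfsg.suzukiOvoid F m} (hab : a ≠ b) : Nat.card (twoPt a b) = 2 ^ (2 * m + 1) - 1 := by
  have h2 : (2 : F) = 0 := two_eq_zero_of_card hF
  set S : F →+* F := sgHom F m h2 with hSd
  have hSdef : ∀ z, S z = z ^ 2 ^ (m + 1) := fun z => sgHom_apply m h2 z
  have hS : ∀ z, S (S z) = z ^ 2 := fun z => sgHom_sgHom hF h2 z
  obtain ⟨k, hka, hkb⟩ := exists_smul_pair h2 hS hSdef hab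
  rw [twoPt_eq_range hm hF h2 hS hSdef hka hkb]
  rw [← Nat.card_congr (MonoidHom.ofInjective (torusHom_injective hS hSdef k)).toEquiv,
    Nat.card_units, Nat.card_eq_fintype_card, hF]

/-- the centraliser of a non-identity element of a two-point stabiliser lies in it -/
theorem centralizer_le_twoPt (hm : 1 ≤ m) (hF : Fintype.card F = 2 ^ (2 * m + 1))
    {a b : Cfsg.suzukiOvoid F m} (hab : a ≠ b) {g : Cfsg.Sz F m} (hg : g ∈ twoPt a b)
    (hg1 : g ≠ 1) {c : Cfsg.Sz F m} (hc : c * g = g * c) : c ∈ twoPt a b := by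
  have h2 : (2 : F) = 0 := two_eq_zero_of_card hF
  set S : F →+* F := sgHom F m h2 with hSd
  have hSdef : ∀ z, S z = z ^ 2 ^ (m + 1) := fun z => sgHom_apply m h2 z
  have hS : ∀ z, S (S z) = z ^ 2 := fun z => sgHom_sgHom hF h2 z
  obtain ⟨k, hka, hkb⟩ := exists_smul_pair h2 hS hSdef hab
  have hrange := twoPt_eq_range hm hF h2 hS hSdef hka hkb
  rw [hrange] at hg ⊢
  obtain ⟨t, ht⟩ := hg
  have ht' : k⁻¹ * hQ hS hSdef t * k = g := ht
  have ht1 : t ≠ 1 := by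
    rintro rfl
    apply hg1
    rw [← ht', hQ_one]; group
  have hcomm : (k * c * k⁻¹) * hQ hS hSdef t = hQ hS hSdef t * (k * c * k⁻¹) := by
    have e : hQ hS hSdef t = k * g * k⁻¹ := by rw [← ht']; group
    rw [e]
    have e1 : k * c * k⁻¹ * (k * g * k⁻¹) = k * (c * g) * k⁻¹ := by group
    have e2 : k * g * k⁻¹ * (k * c * k⁻¹) = k * (g * c) * k⁻¹ := by group
    rw [e1, e2, hc]
  obtain ⟨s, hs⟩ := Cfsg.Agent.Lib.Helper6_SzCent.eq_hQ_of_commute hm hF h2 hS hSdef ht1 hcomm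
  refine ⟨s, ?_⟩
  show k⁻¹ * hQ hS hSdef s * k = c
  rw [← hs]; group

/-- membership in a Sylow 2-subgroup, in coordinates -/
theorem sylow_mem_iff (hm : 1 ≤ m) (hF : Fintype.card F = 2 ^ (2 * m + 1)) (h2 : (2 : F) = 0)
    (hS : ∀ z, S (S z) = z ^ 2) (hSdef : ∀ z, S z = z ^ 2 ^ (m + 1))
    (P : Sylow 2 (Cfsg.Sz F m)) :
    ∃ k : Cfsg.Sz F m, ∀ x : Cfsg.Sz F m, x ∈ P ↔ ∃ a b : F, x = k * uQ h2 hS hSdef a b * k⁻¹ := by
  obtain ⟨k, φ, hφ, hval, -⟩ := sylow_two_param hm hF h2 hS hSdef P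
  refine ⟨k, fun x => ⟨fun hx => ?_, ?_⟩⟩
  · obtain ⟨⟨a, b⟩, hab⟩ := hφ.2 ⟨x, hx⟩
    refine ⟨a, b, ?_⟩
    rw [← hval a b, hab]
  · rintro ⟨a, b, rfl⟩
    rw [← hval a b]
    exact (φ (a, b)).2

/-- a non-identity element lies in at most one Sylow 2-subgroup -/
theorem sylow_eq_of_mem (hm : 1 ≤ m) (hF : Fintype.card F = 2 ^ (2 * m + 1))
    (P P' : Sylow 2 (Cfsg.Sz F m)) {x : Cfsg.Sz F m} (hx1 : x ≠ 1) (hx : x ∈ P) (hx' : x ∈ P') :
    P = P' := by
  have h2 : (2 : F) = 0 := two_eq_zero_of_card hF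
  set S : F →+* F := sgHom F m h2 with hSd
  have hSdef : ∀ z, S z = z ^ 2 ^ (m + 1) := fun z => sgHom_apply m h2 z
  have hS : ∀ z, S (S z) = z ^ 2 := fun z => sgHom_sgHom hF h2 z
  obtain ⟨k, hk⟩ := sylow_mem_iff hm hF h2 hS hSdef P
  obtain ⟨k', hk'⟩ := sylow_mem_iff hm hF h2 hS hSdef P'
  obtain ⟨a, b, hab⟩ := (hk x).1 hx
  obtain ⟨a', b', hab'⟩ := (hk' x).1 hx'
  -- `x` fixes `k ∞` and `k' ∞`, and only one point
  have hne : ¬ (a = 0 ∧ b = 0) := by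
    rintro ⟨rfl, rfl⟩
    apply hx1
    rw [hab, Cfsg.Agent.Helper37Sz.uQ_zero]; group
  have hfix : x • (k • ptInf F m) = k • ptInf F m := by
    rw [hab, ← mul_smul, inv_mul_cancel_right, mul_smul, uQ_smul_ptInf]
  have hfix' : x • (k' • ptInf F m) = k' • ptInf F m := by
    rw [hab', ← mul_smul, inv_mul_cancel_right, mul_smul, uQ_smul_ptInf]
  have huniq : ∀ p : Cfsg.suzukiOvoid F m, x • p = p → p = k • ptInf F m := by
    intro p hp
    have h1 : uQ h2 hS hSdef a b • (k⁻¹ • p) = k⁻¹ • p := by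
      have e : uQ h2 hS hSdef a b = k⁻¹ * x * k := by rw [hab]; group
      rw [e, mul_smul, mul_smul, smul_inv_smul, hp]
    have := Cfsg.Agent.Lib.Helper6_SzCent.uQ_fix h2 hS hSdef hne _ h1
    rw [← this, smul_inv_smul]
  have hkk : (k⁻¹ * k') • ptInf F m = ptInf F m := by
    rw [mul_smul, huniq _ hfix', inv_smul_smul]
  -- `k⁻¹ k'` normalises `Q`
  apply Sylow.ext
  ext y
  show y ∈ P ↔ y ∈ P'
  rw [hk y, hk' y]
  constructor
  · rintro ⟨c, d, rfl⟩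
    have hinv : (k⁻¹ * k')⁻¹ • ptInf F m = ptInf F m := by
      rw [inv_smul_eq_iff, hkk]
    have := conj_mem_Qsub hm hF h2 hS hSdef hinv (uQ_mem_Qsub h2 hS hSdef c d)
    obtain ⟨c', d', hcd⟩ := exists_of_mem_Qsub h2 hS hSdef this
    refine ⟨c', d', ?_⟩
    rw [← hcd]; group
  · rintro ⟨c, d, rfl⟩
    have := conj_mem_Qsub hm hF h2 hS hSdef hkk (uQ_mem_Qsub h2 hS hSdef c d)
    obtain ⟨c', d', hcd⟩ := exists_of_mem_Qsub h2 hS hSdef this
    refine ⟨c', d', ?_⟩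
    rw [← hcd]; group

end Cfsg.Agent.Lib.Helper6_SzPartition
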