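import Mathlib
import Cfsg.Prelude.Def_KGroupFacts
import Cfsg.Agent.Lib.Helper66_Stem
import Cfsg.Agent.Lib.Helper66_StemTools
import Cfsg.Agent.Lib.Helper59_Stem
import Cfsg.Agent.Lib.Helper37_SzSylow
import Cfsg.Agent.Lib.Helper37_SzConj
import Cfsg.Agent.Lib.Helper37_SzZass
import Cfsg.Agent.Lib.Helper37_SzBridge
import Cfsg.Agent.Lib.Helper6_SzCent
import Cfsg.Agent.Lib.Helper6_SzPartition
import Cfsg.Agent.Lib.Helper6_SzToriClass
import Cfsg.Agent.Lib.Helper35_SzMult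
import Cfsg.Agent.S0324

/-!
# The Schur multiplier of `Sz(q)`, `q ≥ 32`, is trivial (helper35)
-/

set_option autoImplicit false
open Cfsg

namespace Cfsg.Agent.Lib.Helper35_SzMultMain

open scoped commutatorElement
open Cfsg.Agent.Helper37Sz Cfsg.Agent.Lib.Helper6_SzCent Cfsg.Agent.Lib.Helper6_SzTori
open Cfsg.Agent.Lib.Helper6_SzPartition Cfsg.Agent.Lib.Helper6_SzToriClass
open Cfsg.Agent.Lib.Helper66_StemTools Cfsg.Agent.Lib.Helper35_SzMult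

section Arith

/-- the arithmetic at the end -/
theorem arith (m : ℕ) (d : ℕ)
    (hA : d ∣ ((2 ^ (2 * m + 1)) ^ 2 + 1) * (2 ^ (2 * m + 1) - 1))
    (hB : d ∣ (2 ^ (2 * m + 1)) ^ 2 * ((2 ^ (2 * m + 1)) ^ 2 + 1))
    (hC1 : d ∣ (2 ^ (2 * m + 1)) ^ 2 * (2 ^ (2 * m + 1) - 1) *
      (2 ^ (2 * m + 1) - 2 ^ (m + 1) + 1))
    (hC2 : d ∣ (2 ^ (2 * m + 1)) ^ 2 * (2 ^ (2 * m + 1) - 1) *
      (2 ^ (2 * m + 1) + 2 ^ (m + 1) + 1)) : d = 1 := by
  set q := 2 ^ (2 * m + 1) with hq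
  set r := 2 ^ (m + 1) with hr
  have hq2 : 2 ≤ q := by
    calc 2 = 2 ^ 1 := by norm_num
      _ ≤ 2 ^ (2 * m + 1) := Nat.pow_le_pow_right (by norm_num) (by omega)
  have hrq : r ≤ q := Nat.pow_le_pow_right (by norm_num) (by omega)
  have hqeven : 2 ∣ q := by rw [hq]; exact dvd_pow_self 2 (by omega)
  -- `d` is odd
  have hAodd : Odd (((q ^ 2 + 1) * (q - 1))) := by
    apply Odd.mul
    · have : Even (q ^ 2) := (Nat.even_pow.2 ⟨even_iff_two_dvd.2 hqeven, by norm_num⟩)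
      exact this.add_one
    · rw [Nat.odd_iff]
      obtain ⟨j, hj⟩ := hqeven
      omega
  have hdodd : Odd d := by
    obtain ⟨e, he⟩ := hA
    rw [he] at hAodd
    exact (Nat.odd_mul.mp hAodd).1
  have hd2 : Nat.Coprime d 2 := Nat.coprime_two_right.mpr hdodd
  have hdq2 : Nat.Coprime d (q ^ 2) := by
    rw [hq, ← pow_mul]
    exact Nat.Coprime.pow_right _ hd2
  -- `d ∣ q² + 1`
  have h1 : d ∣ q ^ 2 + 1 := hdq2.dvd_of_dvd_mul_left hB
  -- `d` is coprime to `q - 1`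
  have hdq1 : Nat.Coprime d (q - 1) := by
    have h3 : Nat.gcd d (q - 1) ∣ 2 := by
      have ha : Nat.gcd d (q - 1) ∣ q ^ 2 + 1 := (Nat.gcd_dvd_left _ _).trans h1
      have hb : Nat.gcd d (q - 1) ∣ (q - 1) * (q + 1) :=
        Dvd.dvd.mul_right (Nat.gcd_dvd_right _ _) _
      have hc : q ^ 2 + 1 = (q - 1) * (q + 1) + 2 := by
        obtain ⟨j, hj⟩ : ∃ j, q = j + 1 := ⟨q - 1, by omega⟩
        rw [hj, Nat.add_sub_cancel]; ring
      rw [hc] at ha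
      exact (Nat.dvd_add_right hb).mp ha
    have h4 : Nat.Coprime (Nat.gcd d (q - 1)) 2 :=
      Nat.Coprime.coprime_dvd_left (Nat.gcd_dvd_left _ _) hd2
    have h5 : Nat.gcd d (q - 1) ∣ 1 := by
      have := h4.dvd_of_dvd_mul_right (show Nat.gcd d (q - 1) ∣ 1 * 2 by simpa using h3)
      exact this
    exact Nat.eq_one_of_dvd_one h5
  have hcop : Nat.Coprime d (q ^ 2 * (q - 1)) := Nat.Coprime.mul_right hdq2 hdq1
  have h6 : d ∣ q - r + 1 := hcop.dvd_of_dvd_mul_left hC1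
  have h7 : d ∣ q + r + 1 := hcop.dvd_of_dvd_mul_left hC2
  have h8 : d ∣ 2 * r := by
    have : q + r + 1 - (q - r + 1) = 2 * r := by omega
    rw [← this]
    exact Nat.dvd_sub h7 h6
  have h9 : Nat.Coprime d (2 * r) := by
    have : 2 * r = 2 ^ (m + 2) := by rw [hr]; ring
    rw [this]
    exact Nat.Coprime.pow_right _ hd2
  exact Nat.eq_one_of_dvd_one (by
    have := h9.dvd_of_dvd_mul_right (show d ∣ 1 * (2 * r) by simpa using h8)
    exact this)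

end Arith

section Main

variable {F : Type*} [Field F] [Fintype F] {S : F →+* F} {m : ℕ}

theorem hyp (hm : 2 ≤ m) (hF : Fintype.card F = 2 ^ (2 * m + 1)) (h2 : (2 : F) = 0)
    (hS : ∀ z, S (S z) = z ^ 2) (hSdef : ∀ z, S z = z ^ 2 ^ (m + 1))
    {Γ : Type*} [Group Γ] (σ : Γ →* Cfsg.Sz F m) (hs : Function.Surjective σ)
    (hc : σ.ker ≤ Subgroup.center Γ) :
    Hyp S m (uQ h2 hS hSdef) (hQ hS hSdef) σ where
  hm := hm
  hF := hF
  h2 := h2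
  hS := hS
  hSdef := hSdef
  hu := uQ_mul h2 hS hSdef
  hinj := by
    intro b hb
    have h1 : uSL S 0 b = uSL S 0 0 := by
      rw [uSL_zero]
      exact congrArg Subtype.val hb
    exact (uSL_injective h1).2
  hh := by
    intro t a b
    rw [mul_inv_eq_iff_eq_mul]
    apply Subtype.ext
    exact hSL_mul_uSL hS t a b
  hhc := hQ_comm hS hSdef
  hs := hs
  hc := hc

variable {Γ : Type*} [Group Γ] (σ : Γ →* Cfsg.Sz F m)

/-- the 2-part: transfer into the preimage of the Sylow 2-subgroup -/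
theorem pow_Q (hm : 2 ≤ m) (hF : Fintype.card F = 2 ^ (2 * m + 1)) (h2 : (2 : F) = 0)
    (hS : ∀ z, S (S z) = z ^ 2) (hSdef : ∀ z, S z = z ^ 2 ^ (m + 1))
    (hstem : IsStemExtension σ) (z : Γ) (hz : z ∈ σ.ker) :
    z ^ (Qsub h2 hS m).index = 1 := by
  obtain ⟨hs, hc, hd⟩ := hstem
  have H := hyp hm hF h2 hS hSdef σ hs hc
  obtain ⟨R, hR1, hR2⟩ := H.exists_R
  set Sh : Subgroup Γ := (Qsub h2 hS m).comap σ with hSh
  have hidx : Sh.index = (Qsub h2 hS m).index := Subgroup.index_comap_of_surjective _ hs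
  have : Sh.FiniteIndex := ⟨by rw [hidx]; exact Subgroup.FiniteIndex.index_ne_zero⟩
  obtain ⟨hmem, hcomm⟩ := pow_index_mem_commutator Sh z (hc hz) (hd hz)
  have hle : commutator Sh ≤ R.subgroupOf Sh := by
    rw [commutator_eq_closure, Subgroup.closure_le]
    rintro _ ⟨x, y, rfl⟩
    obtain ⟨a, b, hx⟩ := x.2
    obtain ⟨a', b', hy⟩ := y.2
    show ((⁅x, y⁆ : Sh) : Γ) ∈ R
    exact hR2 x y a b a' b' (Subtype.ext hx) (Subtype.ext hy)
  have h1 : z ^ Sh.index ∈ R := hle hcomm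
  have h3 : z ^ Sh.index ∈ R ⊓ σ.ker := ⟨h1, Subgroup.pow_mem _ hz _⟩
  rw [hR1, Subgroup.mem_bot, hidx] at h3
  exact h3

theorem q_facts (m : ℕ) : 2 ≤ 2 ^ (2 * m + 1) ∧ 2 ^ (m + 1) ≤ 2 ^ (2 * m + 1) ∧
    (2 ^ (2 * m + 1)) ^ 2 + 1 =
      (2 ^ (2 * m + 1) + 2 ^ (m + 1) + 1) * (2 ^ (2 * m + 1) - 2 ^ (m + 1) + 1) := by
  have hq2 : 2 ≤ 2 ^ (2 * m + 1) := by
    calc 2 = 2 ^ 1 := by norm_num
      _ ≤ 2 ^ (2 * m + 1) := Nat.pow_le_pow_right (by norm_num) (by omega)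
  have hrq : 2 ^ (m + 1) ≤ 2 ^ (2 * m + 1) := Nat.pow_le_pow_right (by norm_num) (by omega)
  refine ⟨hq2, hrq, ?_⟩
  have hr2 : 2 ^ (m + 1) * 2 ^ (m + 1) = 2 * 2 ^ (2 * m + 1) := by
    rw [← pow_add, ← pow_succ']
    congr 1
    omega
  obtain ⟨j, hj⟩ : ∃ j, 2 ^ (2 * m + 1) = 2 ^ (m + 1) + j := ⟨_, (Nat.add_sub_cancel' hrq).symm⟩
  have h1 : 2 ^ (2 * m + 1) - 2 ^ (m + 1) = j := by omega
  rw [h1]
  set q := 2 ^ (2 * m + 1)
  set r := 2 ^ (m + 1)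
  nlinarith

/-- the index of a subgroup of `Sz(q)` from its order -/
theorem index_of_card (hm : 1 ≤ m) (hF : Fintype.card F = 2 ^ (2 * m + 1))
    (T : Subgroup (Cfsg.Sz F m)) (c i : ℕ) (hc : 0 < c) (hT : Nat.card T = c)
    (hci : c * i = (2 ^ (2 * m + 1)) ^ 2 * ((2 ^ (2 * m + 1)) ^ 2 + 1) * (2 ^ (2 * m + 1) - 1)) :
    T.index = i := by
  have h1 := Subgroup.card_mul_index T
  rw [hT, Cfsg.Agent.S0324.result hm hF, ← hci] at h1
  exact Nat.eq_of_mul_eq_mul_left hc h1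

/-- every finite stem extension of `Sz(q)`, `q ≥ 32`, is an isomorphism -/
theorem ker_eq_bot (hm : 2 ≤ m) (hF : Fintype.card F = 2 ^ (2 * m + 1))
    (hstem : IsStemExtension σ) : σ.ker = ⊥ := by
  have hm1 : 1 ≤ m := by omega
  have h2 : (2 : F) = 0 := two_eq_zero_of_card hF
  set S : F →+* F := sgHom F m h2 with hSd
  have hSdef : ∀ z, S z = z ^ 2 ^ (m + 1) := fun z => sgHom_apply m h2 z
  have hS : ∀ z, S (S z) = z ^ 2 := fun z => sgHom_sgHom hF h2 z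
  obtain ⟨hq2, hrq, hfac⟩ := q_facts m
  rw [eq_bot_iff]
  intro z hz
  rw [Subgroup.mem_bot]
  have hst := hstem
  obtain ⟨hs, hc, hd⟩ := hstem
  -- the 2-part
  have hA : orderOf z ∣ ((2 ^ (2 * m + 1)) ^ 2 + 1) * (2 ^ (2 * m + 1) - 1) := by
    have h1 := pow_Q σ hm hF h2 hS hSdef hst z hz
    rw [index_of_card hm1 hF (Qsub h2 hS m) ((2 ^ (2 * m + 1)) ^ 2)
      (((2 ^ (2 * m + 1)) ^ 2 + 1) * (2 ^ (2 * m + 1) - 1)) (by positivity)
      (by rw [card_Qsub h2 hS hSdef, hF]) (by ring)] at h1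
    exact orderOf_dvd_of_pow_eq_one h1
  -- the split torus
  have hB : orderOf z ∣ (2 ^ (2 * m + 1)) ^ 2 * ((2 ^ (2 * m + 1)) ^ 2 + 1) := by
    have hne : ptInf F m ≠ ptAff hSdef 0 0 := (ptAff_ne_ptInf hSdef 0 0).symm
    haveI := isCyclic_twoPt hm1 hF hne
    have h1 := Cfsg.Agent.Lib.Helper59_Stem.ker_pow_index_eq_one σ hs hc hd
      (twoPt (ptInf F m) (ptAff hSdef 0 0)) z hz
    rw [index_of_card hm1 hF _ (2 ^ (2 * m + 1) - 1)
      ((2 ^ (2 * m + 1)) ^ 2 * ((2 ^ (2 * m + 1)) ^ 2 + 1)) (by omega)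
      (card_twoPt hm1 hF hne) (by ring)] at h1
    exact orderOf_dvd_of_pow_eq_one h1
  -- the two nonsplit tori
  obtain ⟨g₁, g₂, hg₁, hg₂, hc₁, hc₂, -⟩ := tori_classification hm1 hF
  have hC2 : orderOf z ∣ (2 ^ (2 * m + 1)) ^ 2 * (2 ^ (2 * m + 1) - 1) *
      (2 ^ (2 * m + 1) - 2 ^ (m + 1) + 1) := by
    haveI := isCyclic_centralizer_of_no_fixed hm1 hF hg₁
    have h1 := Cfsg.Agent.Lib.Helper59_Stem.ker_pow_index_eq_one σ hs hc hd (torus g₁) z hz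
    rw [index_of_card hm1 hF _ (2 ^ (2 * m + 1) + 2 ^ (m + 1) + 1)
      ((2 ^ (2 * m + 1)) ^ 2 * (2 ^ (2 * m + 1) - 1) * (2 ^ (2 * m + 1) - 2 ^ (m + 1) + 1))
      (by omega) hc₁ (by rw [hfac]; ring)] at h1
    exact orderOf_dvd_of_pow_eq_one h1
  have hC1 : orderOf z ∣ (2 ^ (2 * m + 1)) ^ 2 * (2 ^ (2 * m + 1) - 1) *
      (2 ^ (2 * m + 1) + 2 ^ (m + 1) + 1) := by
    haveI := isCyclic_centralizer_of_no_fixed hm1 hF hg₂
    have h1 := Cfsg.Agent.Lib.Helper59_Stem.ker_pow_index_eq_one σ hs hc hd (torus g₂) z hz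
    rw [index_of_card hm1 hF _ (2 ^ (2 * m + 1) - 2 ^ (m + 1) + 1)
      ((2 ^ (2 * m + 1)) ^ 2 * (2 ^ (2 * m + 1) - 1) * (2 ^ (2 * m + 1) + 2 ^ (m + 1) + 1))
      (by omega) hc₂ (by rw [hfac]; ring)] at h1
    exact orderOf_dvd_of_pow_eq_one h1
  exact orderOf_eq_one_iff.mp (arith m (orderOf z) hA hB hC2 hC1)

end Main

section Transport

variable {F : Type*} [Field F] [Fintype F] {m : ℕ}

/-- the Schur multiplier of `Sz(q)`, `q ≥ 32`, is trivial -/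
theorem hasCyclicSchurMultiplier_one (hm : 2 ≤ m) (hF : Fintype.card F = 2 ^ (2 * m + 1)) :
    Cfsg.HasCyclicSchurMultiplier ↥(Cfsg.Lie.Sz F (2 ^ (m + 1))) 1 := by
  have hm1 : 1 ≤ m := by omega
  let e : Cfsg.Lie.Sz F (2 ^ (m + 1)) ≃* Cfsg.Sz F m := (lieSzEquiv hm1 hF).symm
  haveI : Finite (Cfsg.Lie.Sz F (2 ^ (m + 1))) := Finite.of_equiv _ e.symm.toEquiv
  apply Cfsg.Agent.Lib.Helper66_Stem.hasCyclicSchurMultiplier_one
  intro Γ _ _ σ hσ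
  obtain ⟨hs, hc, hd⟩ := hσ
  have hker : (e.toMonoidHom.comp σ).ker = σ.ker := by
    ext x
    rw [MonoidHom.mem_ker, MonoidHom.mem_ker, MonoidHom.comp_apply]
    exact e.map_eq_one_iff
  have hστ : IsStemExtension (e.toMonoidHom.comp σ) := by
    refine ⟨e.surjective.comp hs, ?_, ?_⟩
    · rw [hker]; exact hc
    · rw [hker]; exact hd
  rw [← hker]
  exact ker_eq_bot (e.toMonoidHom.comp σ) hm hF hστ

end Transport

end Cfsg.Agent.Lib.Helper35_SzMultMain
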