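import Mathlib
import Cfsg.Prelude.Def_GeometricClasses
import Cfsg.Agent.Lib.Helper67_Tens2Defs

set_option autoImplicit false
set_option linter.unusedSectionVars false
set_option linter.unusedVariables false

/-!
# TENS2 package PAIR (helper35, for helper67): some `g ∈ M` has `g G0 ≠ G0` with
# `dim (G0 ∩ g G0) ≥ b - 2`, maximal.
-/

open Module
open Cfsg.Agent.Lib.Helper94_Symp Cfsg.Agent.Lib.Helper67_Tens2Defs

namespace Cfsg.Agent.Lib.Helper35_T2_PAIR

/-- the range of `1 ⊗ r_y - 1` lies in the span of `(y, 0)` and `(0, y)` -/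
theorem oE_refl_sub_mem {F B : Type*} [Field F] [AddCommGroup B] [Module F B]
    (β : LinearMap.BilinForm F B) (y : B) (x : B × B) :
    oE (reflE β y) x - x ∈ Submodule.span F ({((y, 0) : B × B), ((0, y) : B × B)} : Set (B × B)) := by
  have h : oE (reflE β y) x - x =
      (-(2 * β x.1 y * (β y y)⁻¹)) • ((y, 0) : B × B) + (-(2 * β x.2 y * (β y y)⁻¹)) • ((0, y) : B × B) := by
    ext
    · simp [oE_apply, reflE_apply]
    · simp [oE_apply, reflE_apply]
  rw [h]
  apply Submodule.add_mem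
  · exact Submodule.smul_mem _ _ (Submodule.subset_span (by simp))
  · exact Submodule.smul_mem _ _ (Submodule.subset_span (by simp))

/-- PAIR : then some `g ∈ M` has `g G0 ≠ G0` with `dim (G0 ∩ g G0) ≥ b - 2`, maximal -/
theorem pair {F B : Type*} [Field F] [AddCommGroup B] [Module F B]
    [FiniteDimensional F B] (β : LinearMap.BilinForm F B) (hs : ∀ u v, β u v = β v u)
    (hn : β.Nondegenerate) (h2 : (2 : F) ≠ 0)
    (M : Subgroup ((B × B) ≃ₗ[F] (B × B))) (hM : HypM β M)
    (g0 : (B × B) ≃ₗ[F] (B × B)) (hg0 : g0 ∈ M) (y : B) (hy : β y y ≠ 0)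
    (hns : ¬ ∀ x ∈ Lg g0, oE (reflE β y) x ∈ Lg g0) :
    ∃ g ∈ M, Lg g ≠ (G0 : Submodule F (B × B)) ∧ finrank F B ≤ finrank F (DI g) + 2 ∧
      ∀ g' ∈ M, Lg g' ≠ (G0 : Submodule F (B × B)) → finrank F (DI g') ≤ finrank F (DI g) := by
  classical
  set R : (B × B) ≃ₗ[F] (B × B) := oE (reflE β y) with hR
  have hRM : R ∈ M := hM.oE_mem _ (reflE_mem_isoGroup β hs y)
  set g1 : (B × B) ≃ₗ[F] (B × B) := g0⁻¹ * R * g0 with hg1
  have hg1M : g1 ∈ M := M.mul_mem (M.mul_mem (M.inv_mem hg0) hRM) hg0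
  have hg0g1 : ∀ x, g0 (g1 x) = R (g0 x) := by
    intro x
    rw [hg1, LinearEquiv.mul_apply, LinearEquiv.mul_apply, apply_inv_apply']
  -- (a)
  have ha : Lg g1 ≠ (G0 : Submodule F (B × B)) := by
    intro heq
    apply hns
    intro x hx
    obtain ⟨u, rfl⟩ := mem_Lg.mp hx
    have h1 : g1 (u, 0) ∈ Lg g1 := mem_Lg.mpr ⟨u, rfl⟩
    rw [heq, mem_G0] at h1
    rw [← hg0g1]
    refine mem_Lg.mpr ⟨(g1 (u, 0)).1, ?_⟩
    congr 1
    exact Prod.ext rfl h1.symm
  -- (b)
  have hb : finrank F B ≤ finrank F (DI g1) + 2 := by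
    set φ : B →ₗ[F] B × B :=
      ((R : (B × B) →ₗ[F] (B × B)) - LinearMap.id) ∘ₗ (g0 : (B × B) →ₗ[F] (B × B)) ∘ₗ LinearMap.inl F B B
      with hφ
    have hφa : ∀ u, φ u = R (g0 (u, 0)) - g0 (u, 0) := by
      intro u
      rfl
    have hrange : LinearMap.range φ ≤
        Submodule.span F ({((y, 0) : B × B), ((0, y) : B × B)} : Set (B × B)) := by
      rintro _ ⟨u, rfl⟩
      rw [hφa]
      exact oE_refl_sub_mem β y _
    have hr2 : finrank F (LinearMap.range φ) ≤ 2 := by
      have h1 := Submodule.finrank_mono hrange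
      have h3 : finrank F (Submodule.span F ({((y, 0) : B × B), ((0, y) : B × B)} : Set (B × B))) ≤ 2 := by
        have := finrank_span_le_card (R := F) ({((y, 0) : B × B), ((0, y) : B × B)} : Set (B × B))
        have hc : ({((y, 0) : B × B), ((0, y) : B × B)} : Set (B × B)).toFinset.card ≤ 2 := by
          have : ({((y, 0) : B × B), ((0, y) : B × B)} : Set (B × B)).toFinset =
              ({((y, 0) : B × B), ((0, y) : B × B)} : Finset (B × B)) := by
            ext z
            simp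
          rw [this]
          exact Finset.card_le_two
        omega
      omega
    have hker : LinearMap.ker φ ≤ DI g1 := by
      intro u hu
      rw [LinearMap.mem_ker, hφa, sub_eq_zero] at hu
      rw [mem_DI]
      refine mem_Lg.mpr ⟨u, ?_⟩
      have h1 : g0 (g1 (u, 0)) = g0 (u, 0) := by rw [hg0g1, hu]
      exact g0.injective h1
    have hrn := LinearMap.finrank_range_add_finrank_ker φ
    have hk := Submodule.finrank_mono hker
    omega
  -- (c)
  set P : ℕ → Prop := fun n =>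
    ∃ g' ∈ M, Lg g' ≠ (G0 : Submodule F (B × B)) ∧ finrank F (DI g') = n with hP
  have hle : ∀ g' : (B × B) ≃ₗ[F] (B × B), finrank F (DI g') ≤ finrank F B := fun g' =>
    Submodule.finrank_le _
  have hP1 : P (finrank F (DI g1)) := ⟨g1, hg1M, ha, rfl⟩
  have hspec := Nat.findGreatest_spec (P := P) (hle g1) hP1
  obtain ⟨g, hgM, hgne, hgn⟩ := hspec
  refine ⟨g, hgM, hgne, ?_, ?_⟩
  · have := Nat.le_findGreatest (P := P) (hle g1) hP1
    omega
  · intro g' hg'M hg'ne
    have := Nat.le_findGreatest (P := P) (hle g') ⟨g', hg'M, hg'ne, rfl⟩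
    omega

end Cfsg.Agent.Lib.Helper35_T2_PAIR
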