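import Mathlib
import Cfsg.Prelude.Def_GeometricClasses
import Cfsg.Agent.Lib.Helper67_Tens2Defs

set_option autoImplicit false
set_option linter.unusedSectionVars false
set_option linter.unusedVariables false

/-!
# TENS2 package SEMI, auxiliary form (helper35, for helper67): the statement of NEX is a hypothesis.
-/

open Module
open Cfsg.Agent.Lib.Helper94_Symp Cfsg.Agent.Lib.Helper67_Tens2Defs

namespace Cfsg.Agent.Lib.Helper35_T2_SEMIa

theorem finrank_G0 {F B : Type*} [Field F] [AddCommGroup B] [Module F B] [FiniteDimensional F B] :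
    finrank F (G0 : Submodule F (B × B)) = finrank F B := by
  have h : (G0 : Submodule F (B × B)) = LinearMap.range (LinearMap.inl F B B) := by
    ext x
    rw [mem_G0, LinearMap.mem_range]
    constructor
    · intro hx
      exact ⟨x.1, Prod.ext rfl hx.symm⟩
    · rintro ⟨u, rfl⟩
      rfl
  rw [h]
  exact LinearMap.finrank_range_of_inj LinearMap.inl_injective

/-- SEMI with the statement of NEX as a hypothesis -/
theorem semi_aux {F B : Type*} [Field F] [AddCommGroup B] [Module F B]
    [FiniteDimensional F B] (β : LinearMap.BilinForm F B) (hs : ∀ u v, β u v = β v u)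
    (hn : β.Nondegenerate) (h2 : (2 : F) ≠ 0) (h3 : 3 ≤ finrank F B)
    (hb4 : ¬ 4 ∣ finrank F B)
    (hNEX : ∀ h : (B × B) ≃ₗ[F] (B × B), h ∈ isoGroup (tf β) → IsKron2 h →
      (∀ x ∈ (G0 : Submodule F (B × B)), h x ∈ (G0 : Submodule F (B × B))) →
      (∀ x, h (h x) - h x = h x - x) →
      finrank F (LinearMap.ker (h.toLinearMap - LinearMap.id)) = finrank F B →
      ∃ c : F, h = ux (c • (LinearMap.id : B →ₗ[F] B)))
    (M : Subgroup ((B × B) ≃ₗ[F] (B × B))) (hM : HypM β M)
    (hST : ∀ h ∈ M, (∀ x ∈ (G0 : Submodule F (B × B)), h x ∈ (G0 : Submodule F (B × B))) →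
      IsKron2 h)
    (g : (B × B) ≃ₗ[F] (B × B)) (hg : g ∈ M) (c : F) (hc : c ≠ 0)
    (hstab : ∀ x ∈ Lg g, ux (c • (LinearMap.id : B →ₗ[F] B)) x ∈ Lg g) :
    Lg g = (G0 : Submodule F (B × B)) := by
  set u : (B × B) ≃ₗ[F] (B × B) := ux (c • (LinearMap.id : B →ₗ[F] B)) with hu
  set h : (B × B) ≃ₗ[F] (B × B) := g⁻¹ * u * g with hh
  have hhM : h ∈ M := M.mul_mem (M.mul_mem (M.inv_mem hg) (hM.ux_mem c)) hg
  have hha : ∀ x, h x = g⁻¹ (u (g x)) := fun x => rfl
  have hua : ∀ x : B × B, u x = (x.1 + c • x.2, x.2) := by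
    intro x
    rw [hu, ux_apply]
    rfl
  -- `u x = x ↔ x ∈ G0`
  have hufix : ∀ x : B × B, u x = x ↔ x ∈ (G0 : Submodule F (B × B)) := by
    intro x
    rw [hua, mem_G0]
    constructor
    · intro hx
      have h1 : x.1 + c • x.2 = x.1 := congrArg Prod.fst hx
      have h2' : c • x.2 = 0 := by
        have := add_left_cancel (a := x.1) (b := c • x.2) (c := 0) (by rw [add_zero]; exact h1)
        exact this
      exact (smul_eq_zero.mp h2').resolve_left hc
    · intro hx
      rw [hx, smul_zero, add_zero]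
      exact Prod.ext rfl hx.symm
  -- `h x = x ↔ g x ∈ G0`
  have hhfix : ∀ x : B × B, h x = x ↔ g x ∈ (G0 : Submodule F (B × B)) := by
    intro x
    rw [hha, ← hufix]
    constructor
    · intro hx
      have := congrArg g hx
      rwa [apply_inv_apply'] at this
    · intro hx
      rw [hx, inv_apply_apply']
  -- (1) `h` stabilises `G0`
  have h1 : ∀ x ∈ (G0 : Submodule F (B × B)), h x ∈ (G0 : Submodule F (B × B)) := by
    intro x hx
    have hgx : g x ∈ Lg g := by
      obtain ⟨u', hu'⟩ : ∃ u' : B, x = (u', 0) := ⟨x.1, Prod.ext rfl (mem_G0.mp hx)⟩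
      rw [hu']
      exact mem_Lg.mpr ⟨u', rfl⟩
    have := hstab (g x) hgx
    rw [mem_Lg'] at this
    rw [mem_G0, hha]
    exact this
  -- (4)
  have h4 : ∀ x, h (h x) - h x = h x - x := by
    intro x
    have hu2 : ∀ z : B × B, u (u z) - u z = u z - z := by
      intro z
      rw [hua (u z), hua z]
      ext
      · simp
      · simp
    rw [hha (h x), hha x, apply_inv_apply']
    have e1 : g⁻¹ (u (u (g x))) - g⁻¹ (u (g x)) = g⁻¹ (u (u (g x)) - u (g x)) := by rw [map_sub]
    have e2 : g⁻¹ (u (g x)) - x = g⁻¹ (u (g x) - g x) := by rw [map_sub, inv_apply_apply']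
    rw [e1, e2, hu2]
  -- (5)
  have hkerset : ∀ x : B × B, x ∈ LinearMap.ker (h.toLinearMap - LinearMap.id) ↔
      g x ∈ (G0 : Submodule F (B × B)) := by
    intro x
    rw [LinearMap.mem_ker, LinearMap.sub_apply, sub_eq_zero, LinearMap.id_apply, ← hhfix]
    rfl
  have hkereq : LinearMap.ker (h.toLinearMap - LinearMap.id) =
      (G0 : Submodule F (B × B)).comap g.toLinearMap := by
    ext x
    rw [hkerset]
    rfl
  have h5 : finrank F (LinearMap.ker (h.toLinearMap - LinearMap.id)) = finrank F B := by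
    rw [hkereq, ← finrank_G0 (F := F) (B := B)]
    have : (G0 : Submodule F (B × B)).comap g.toLinearMap = (G0 : Submodule F (B × B)).map g.symm.toLinearMap := by
      ext x
      rw [Submodule.mem_comap, Submodule.mem_map]
      constructor
      · intro hx
        exact ⟨g x, hx, g.symm_apply_apply x⟩
      · rintro ⟨y, hy, rfl⟩
        show g (g.symm y) ∈ _
        rw [g.apply_symm_apply]
        exact hy
    rw [this]
    exact LinearEquiv.finrank_map_eq g.symm _
  obtain ⟨c', hc'⟩ := hNEX h (hM.le hhM) (hST h hhM h1) h1 h4 h5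
  -- `c' ≠ 0`
  have hB : ∃ v : B, v ≠ 0 := by
    have : 0 < finrank F B := by omega
    have : Nontrivial B := Module.finrank_pos_iff.mp this
    exact exists_ne 0
  obtain ⟨v, hv⟩ := hB
  have hc'0 : c' ≠ 0 := by
    rintro rfl
    rw [zero_smul, ux_zero] at hc'
    -- `h = 1` so `u = 1`
    have h6 := (hhfix (g⁻¹ (0, v))).mp (by rw [hc']; rfl)
    rw [apply_inv_apply', mem_G0] at h6
    exact hv h6
  -- `h x = x ↔ x ∈ G0`
  have hhfix2 : ∀ x : B × B, h x = x ↔ x ∈ (G0 : Submodule F (B × B)) := by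
    intro x
    rw [hc', ux_apply, mem_G0]
    constructor
    · intro hx
      have h1' : x.1 + (c' • (LinearMap.id : B →ₗ[F] B)) x.2 = x.1 := congrArg Prod.fst hx
      rw [LinearMap.smul_apply, LinearMap.id_apply] at h1'
      have h2' : c' • x.2 = 0 := by
        have := add_left_cancel (a := x.1) (b := c' • x.2) (c := 0) (by rw [add_zero]; exact h1')
        exact this
      exact (smul_eq_zero.mp h2').resolve_left hc'0
    · intro hx
      rw [hx, map_zero, add_zero]
      exact Prod.ext rfl hx.symm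
  have hiff : ∀ x : B × B, g x ∈ (G0 : Submodule F (B × B)) ↔ x ∈ (G0 : Submodule F (B × B)) := by
    intro x
    rw [← hhfix, hhfix2]
  ext x
  constructor
  · intro hx
    obtain ⟨u', rfl⟩ := mem_Lg.mp hx
    rw [hiff]
    rfl
  · intro hx
    rw [mem_Lg']
    have h7 : g⁻¹ x ∈ (G0 : Submodule F (B × B)) := by
      rw [← hiff, apply_inv_apply']
      exact hx
    exact mem_G0.mp h7

end Cfsg.Agent.Lib.Helper35_T2_SEMIa
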