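import Mathlib
import Cfsg.Agent.Lib.Helper94_Symp
import Cfsg.Agent.Lib.Helper43_AltEven
import Cfsg.Agent.Lib.Helper67_Tens2Defs

/-!
# TENS2 package NEX (architect helper67, formaliser helper88)

A Kronecker isometry `h` of `(B × B, tf β)` stabilising `G0 = B × 0` with `(h - 1)² = 0` and
`dim ker (h - 1) = dim B` is `ux (c • 1)` when `4 ∤ dim B`.
-/

set_option autoImplicit false
set_option linter.unusedSectionVars false
set_option linter.unusedVariables false

open Module
open Cfsg.Agent.Lib.Helper94_Symp Cfsg.Agent.Lib.Helper67_Tens2Defs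

namespace Cfsg.Agent.Lib.Helper88_T2_NEX

/-- the rank of a map `N` with `β (N u) v = - β u (N v)` (`β` symmetric nondegenerate, `2 ≠ 0`)
is even: `finrank B - finrank (ker N)` is even -/
theorem even_corank_of_skew {F B : Type*} [Field F] [AddCommGroup B] [Module F B]
    [FiniteDimensional F B] (β : LinearMap.BilinForm F B) (hs : ∀ u v, β u v = β v u)
    (hn : β.Nondegenerate) (h2 : (2 : F) ≠ 0) (N : B →ₗ[F] B)
    (hN : ∀ u v, β (N u) v = - β u (N v)) :
    ∃ C : Submodule F B, IsCompl C (LinearMap.ker N) ∧ Even (finrank F C) := by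
  obtain ⟨C, hC⟩ := Submodule.exists_isCompl (LinearMap.ker N)
  refine ⟨C, hC.symm, ?_⟩
  -- the alternating form `a u v = β (N u) v` on `C`
  let a : LinearMap.BilinForm F C :=
    LinearMap.mk₂ F (fun x y => β (N x.1) y.1)
      (by intro x x' y; simp only [Submodule.coe_add, map_add, LinearMap.add_apply])
      (by intro c x y; simp only [Submodule.coe_smul, map_smul, LinearMap.smul_apply])
      (by intro x y y'; simp only [Submodule.coe_add, map_add])
      (by intro c x y; simp only [Submodule.coe_smul, map_smul])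
  have ha : ∀ x y : C, a x y = β (N x.1) y.1 := fun x y => rfl
  have halt : a.IsAlt := by
    intro x
    rw [ha]
    have h1 := hN x.1 x.1
    rw [hs x.1 (N x.1)] at h1
    have h3 : (2 : F) * β (N x.1) x.1 = 0 := by linear_combination h1
    rcases mul_eq_zero.mp h3 with h | h
    · exact absurd h h2
    · exact h
  have hskew : ∀ x y : C, a x y = - a y x := by
    intro x y
    rw [ha, ha, hN, hs]
  have hsepL : ∀ x : C, (∀ y : C, a x y = 0) → x = 0 := by
    intro x hx
    have h1 : ∀ w : B, β (N x.1) w = 0 := by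
      intro w
      have hw : w ∈ LinearMap.ker N ⊔ C := by rw [hC.sup_eq_top]; exact Submodule.mem_top
      obtain ⟨k, hk, v, hv, rfl⟩ := Submodule.mem_sup.mp hw
      rw [map_add]
      have e1 : β (N x.1) k = 0 := by
        rw [hN, LinearMap.mem_ker.mp hk, map_zero, neg_zero]
      have e2 : β (N x.1) v = 0 := hx ⟨v, hv⟩
      rw [e1, e2, add_zero]
    have h3 : N x.1 = 0 := hn.1 _ h1
    have h4 : x.1 ∈ LinearMap.ker N ⊓ C := ⟨LinearMap.mem_ker.mpr h3, x.2⟩
    rw [hC.inf_eq_bot] at h4
    exact Subtype.ext ((Submodule.mem_bot F).mp h4)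
  have hnd : a.Nondegenerate := by
    refine ⟨hsepL, ?_⟩
    intro y hy
    apply hsepL
    intro x
    rw [hskew, hy, neg_zero]
  exact Cfsg.Agent.Lib.Helper43_AltEven.even_finrank_of_alt (finrank F C) C a halt hnd rfl

/-- NEX : a Kronecker isometry `h` stabilising `G0` with `(h - 1)² = 0` and `rank (h - 1) = b` is
`ux (c • 1)` when `4 ∤ b` -/
theorem nex {F B : Type*} [Field F] [AddCommGroup B] [Module F B]
    [FiniteDimensional F B] (β : LinearMap.BilinForm F B) (hs : ∀ u v, β u v = β v u)
    (hn : β.Nondegenerate) (h2 : (2 : F) ≠ 0) (h3 : 3 ≤ finrank F B)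
    (hb4 : ¬ 4 ∣ finrank F B)
    (h : (B × B) ≃ₗ[F] (B × B)) (hiso : h ∈ isoGroup (tf β)) (hk : IsKron2 h)
    (h0 : ∀ x ∈ (G0 : Submodule F (B × B)), h x ∈ (G0 : Submodule F (B × B)))
    (hsq : ∀ x, h (h x) - h x = h x - x)
    (hrk : finrank F (LinearMap.ker (h.toLinearMap - LinearMap.id)) = finrank F B) :
    ∃ c : F, h = ux (c • (LinearMap.id : B →ₗ[F] B)) := by
  obtain ⟨p, Q, hpQ⟩ := hk
  -- a nonzero vector
  have hB : ∃ v : B, v ≠ 0 := by
    by_contra hcon
    have hcon' : ∀ v : B, v = 0 := fun v => by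
      by_contra hv
      exact hcon ⟨v, hv⟩
    have : finrank F B = 0 := by
      rw [finrank_zero_iff]
      exact ⟨fun a b => by rw [hcon' a, hcon' b]⟩
    omega
  obtain ⟨v0, hv0⟩ := hB
  -- `h (u, 0) = (p00 Q u, 0)`
  have h10 : ∀ u : B, p 1 0 • Q u = 0 := by
    intro u
    have := h0 (u, 0) rfl
    rw [mem_G0, hpQ] at this
    simpa using this
  have hu0 : ∀ u : B, h (u, 0) = (p 0 0 • Q u, 0) := by
    intro u
    rw [hpQ, map_zero, smul_zero, smul_zero, add_zero, add_zero, h10]
  have hp00 : p 0 0 ≠ 0 := by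
    intro hp
    have : h (v0, 0) = h 0 := by rw [hu0, hp, zero_smul, map_zero]; rfl
    have := h.injective this
    exact hv0 (congrArg Prod.fst this)
  -- normalise
  set Q0 : B →ₗ[F] B := p 0 0 • Q with hQ0
  set τ : F := p 0 1 * (p 0 0)⁻¹ with hτ
  set l : F := p 1 1 * (p 0 0)⁻¹ with hl
  have hQQ : ∀ u, Q u = (p 0 0)⁻¹ • Q0 u := by
    intro u
    rw [hQ0, LinearMap.smul_apply, smul_smul, inv_mul_cancel₀ hp00, one_smul]
  have hform : ∀ u u' : B, h (u, u') = (Q0 u + τ • Q0 u', l • Q0 u') := by
    intro u u'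
    have e : ((u, u') : B × B) = (u, 0) + (0, u') := by simp
    rw [e, map_add, hu0, hpQ, map_zero, smul_zero, smul_zero, zero_add, zero_add, hQQ u',
      smul_smul, smul_smul]
    simp only [Prod.mk_add_mk, zero_add]
    rfl
  -- `(Q0 - 1)² = 0`
  have hA : ∀ u : B, Q0 (Q0 u) - Q0 u = Q0 u - u := by
    intro u
    have := congrArg Prod.fst (hsq (u, 0))
    simp only [hform, map_zero, smul_zero, add_zero, Prod.fst_sub] at this
    exact this
  -- second component on `(0, u')`
  have hBq : ∀ u' : B, l • Q0 (l • Q0 u') - l • Q0 u' = l • Q0 u' - u' := by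
    intro u'
    have := congrArg Prod.snd (hsq (0, u'))
    simp only [hform, map_zero, zero_add, Prod.snd_sub] at this
    exact this
  have hCq : ∀ u' : B, Q0 (τ • Q0 u') + τ • Q0 (l • Q0 u') - τ • Q0 u' = τ • Q0 u' := by
    intro u'
    have := congrArg Prod.fst (hsq (0, u'))
    simp only [hform, map_zero, zero_add, Prod.fst_sub, sub_zero] at this
    exact this
  have hQ0sq : ∀ u : B, Q0 (Q0 u) = (2 : F) • Q0 u - u := by
    intro u
    have := hA u
    rw [two_smul]
    have e : Q0 (Q0 u) = (Q0 (Q0 u) - Q0 u) + Q0 u := by abel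
    rw [e, this]; abel
  -- `l = 1`
  have hl1 : l = 1 := by
    by_contra hne
    -- `(l - 1)(2 l Q0 - (l + 1)) = 0`
    have key : ∀ u' : B, (2 * l) • Q0 u' = (l + 1) • u' := by
      intro u'
      have e := hBq u'
      rw [map_smul, hQ0sq, smul_smul] at e
      have e' : (l - 1) • ((2 * l) • Q0 u' - (l + 1) • u') = 0 := by
        linear_combination (norm := module) e
      rcases smul_eq_zero.mp e' with h | h
      · exact absurd (sub_eq_zero.mp h) hne
      · exact sub_eq_zero.mp h
    have hl0 : l ≠ 0 := by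
      intro hl0
      have := hBq v0
      rw [hl0] at this
      simp only [zero_smul, map_zero, sub_zero, zero_sub] at this
      exact hv0 (neg_eq_zero.mp this.symm)
    have h2l : (2 * l : F) ≠ 0 := mul_ne_zero h2 hl0
    set μ : F := (l + 1) * (2 * l)⁻¹ with hμ
    have hsc : ∀ u : B, Q0 u = μ • u := by
      intro u
      have := congrArg (fun x => (2 * l)⁻¹ • x) (key u)
      simp only [smul_smul] at this
      rw [inv_mul_cancel₀ h2l, one_smul] at this
      rw [this, hμ, mul_comm]
    have hμ1 : (μ - 1) * (μ - 1) = 0 := by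
      have := hA v0
      rw [hsc, hsc, smul_smul] at this
      have e : ((μ - 1) * (μ - 1)) • v0 = 0 := by
        have : (μ * μ) • v0 - μ • v0 - (μ • v0 - v0) = 0 := by rw [this]; abel
        rw [← this]
        module
      rcases smul_eq_zero.mp e with h | h
      · exact h
      · exact absurd h hv0
    have hμ1' : μ = 1 := by
      rcases mul_eq_zero.mp hμ1 with h | h <;> exact sub_eq_zero.mp h
    apply hne
    have : (l + 1) * (2 * l)⁻¹ = 1 := by rw [← hμ]; exact hμ1'
    field_simp at this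
    linear_combination -this
  -- `Q0` is an isometry
  have hQiso : ∀ u u' : B, β (Q0 u) (Q0 u') = β u u' := by
    intro u u'
    have := hiso (u, 0) (0, u')
    simp only [hform, tf_apply, map_zero, smul_zero, add_zero, zero_add, LinearMap.zero_apply,
      sub_zero, hl1, one_smul, map_smul] at this
    simpa using this
  have hQinj : ∀ u : B, Q0 u = 0 → u = 0 := by
    intro u hu
    apply hn.1
    intro w
    rw [← hQiso, hu, map_zero, LinearMap.zero_apply]
  -- `τ = 0` or `Q0 = 1`
  have hdich : τ = 0 ∨ ∀ u : B, Q0 u = u := by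
    by_cases hτ0 : τ = 0
    · left; exact hτ0
    right
    intro u
    have := hCq u
    rw [hl1, one_smul, map_smul, hQ0sq] at this
    have e : ((2 : F) * τ) • (Q0 u - u) = 0 := by
      have h5 : τ • ((2 : F) • Q0 u - u) + τ • ((2 : F) • Q0 u - u) - τ • Q0 u - τ • Q0 u = 0 := by
        rw [this]; abel
      rw [← h5]
      module
    rcases smul_eq_zero.mp e with h | h
    · exact absurd h (mul_ne_zero h2 hτ0)
    · exact sub_eq_zero.mp h
  rcases hdich with hτ0 | hQ1
  swap
  · refine ⟨τ, ?_⟩
    apply LinearEquiv.ext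
    rintro ⟨u, u'⟩
    rw [hform, hQ1, hQ1, hl1, one_smul, ux_apply]
    simp
  -- the case `τ = 0`: `h = Q0 × Q0`
  by_cases hQ1 : ∀ u : B, Q0 u = u
  · refine ⟨0, ?_⟩
    apply LinearEquiv.ext
    rintro ⟨u, u'⟩
    rw [hform, hQ1, hQ1, hl1, one_smul, hτ0, zero_smul, add_zero, ux_apply]
    simp
  exfalso
  set N : B →ₗ[F] B := Q0 - LinearMap.id with hN
  have hNN : ∀ u : B, N (N u) = 0 := by
    intro u
    simp only [hN, LinearMap.sub_apply, LinearMap.id_apply, map_sub]
    rw [hQ0sq, two_smul]; abel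
  have hQN : ∀ u : B, Q0 u = u + N u := by
    intro u
    simp only [hN, LinearMap.sub_apply, LinearMap.id_apply]; abel
  -- skewness
  have hsk1 : ∀ u v : B, β u (N v) + β (N u) v + β (N u) (N v) = 0 := by
    intro u v
    have := hQiso u v
    rw [hQN, hQN] at this
    simp only [map_add, LinearMap.add_apply] at this
    linear_combination this
  have hNN0 : ∀ u v : B, β (N u) (N v) = 0 := by
    intro u v
    have e1 := hsk1 u (N v)
    simp only [hNN, map_zero, zero_add, add_zero] at e1
    exact e1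
  have hskew : ∀ u v : B, β (N u) v = - β u (N v) := by
    intro u v
    have := hsk1 u v
    rw [hNN0, add_zero] at this
    linear_combination this
  obtain ⟨C, hC, hev⟩ := even_corank_of_skew β hs hn h2 N hskew
  -- dimension count
  have hmemK : ∀ x : B × B, x ∈ LinearMap.ker (h.toLinearMap - LinearMap.id) ↔
      N x.1 = 0 ∧ N x.2 = 0 := by
    rintro ⟨u, u'⟩
    rw [LinearMap.mem_ker]
    simp only [LinearMap.sub_apply, LinearEquiv.coe_coe, LinearMap.id_apply]
    rw [hform, hl1, one_smul, hτ0, zero_smul, add_zero]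
    simp only [hN, LinearMap.sub_apply, LinearMap.id_apply]
    constructor
    · intro hx
      exact ⟨by simpa using congrArg Prod.fst hx, by simpa using congrArg Prod.snd hx⟩
    · rintro ⟨h5, h6⟩
      ext
      · simpa using h5
      · simpa using h6
  have hker : finrank F (LinearMap.ker (h.toLinearMap - LinearMap.id)) =
      finrank F (LinearMap.ker N) + finrank F (LinearMap.ker N) := by
    rw [← Module.finrank_prod]
    apply LinearEquiv.finrank_eq
    let f : ↥(LinearMap.ker (h.toLinearMap - LinearMap.id)) →ₗ[F]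
        (↥(LinearMap.ker N) × ↥(LinearMap.ker N)) :=
      { toFun := fun x => (⟨x.1.1, LinearMap.mem_ker.mpr ((hmemK x.1).mp x.2).1⟩,
          ⟨x.1.2, LinearMap.mem_ker.mpr ((hmemK x.1).mp x.2).2⟩)
        map_add' := fun x y => rfl
        map_smul' := fun c x => rfl }
    refine LinearEquiv.ofBijective f ⟨?_, ?_⟩
    · intro x y hxy
      apply Subtype.ext
      have e1 : (x.1.1 : B) = y.1.1 := congrArg (fun z => (z.1 : B)) hxy
      have e2 : (x.1.2 : B) = y.1.2 := congrArg (fun z => (z.2 : B)) hxy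
      exact Prod.ext e1 e2
    · rintro ⟨⟨a, ha⟩, ⟨b, hb⟩⟩
      exact ⟨⟨(a, b), (hmemK (a, b)).mpr ⟨LinearMap.mem_ker.mp ha, LinearMap.mem_ker.mp hb⟩⟩, rfl⟩
  have hcompl := Submodule.finrank_add_eq_of_isCompl hC
  obtain ⟨r, hr⟩ := hev
  apply hb4
  refine ⟨r, ?_⟩
  omega

end Cfsg.Agent.Lib.Helper88_T2_NEX
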