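import Mathlib
import Cfsg.Prelude.Def_GeometricClasses
import Cfsg.Agent.Lib.Helper67_Tens2Defs
import Cfsg.Agent.Lib.Helper35_T2_SEMIa
import Cfsg.Agent.Lib.Helper88_T2_NEX

set_option autoImplicit false
set_option linter.unusedSectionVars false
set_option linter.unusedVariables false

/-!
# TENS2 package SEMI (helper35, for helper67): if `ux (c • 1)`, `c ≠ 0`, stabilises `g G0` (`g ∈ M`) then
# `g G0 = G0`.  Uses NEX (helper88).
-/

open Module
open Cfsg.Agent.Lib.Helper94_Symp Cfsg.Agent.Lib.Helper67_Tens2Defs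

namespace Cfsg.Agent.Lib.Helper35_T2_SEMI

/-- SEMI : if `ux (c • 1)`, `c ≠ 0`, stabilises `g G0` (`g ∈ M`) then `g G0 = G0` -/
theorem semi {F B : Type*} [Field F] [AddCommGroup B] [Module F B]
    [FiniteDimensional F B] (β : LinearMap.BilinForm F B) (hs : ∀ u v, β u v = β v u)
    (hn : β.Nondegenerate) (h2 : (2 : F) ≠ 0) (h3 : 3 ≤ finrank F B)
    (hb4 : ¬ 4 ∣ finrank F B)
    (M : Subgroup ((B × B) ≃ₗ[F] (B × B))) (hM : HypM β M)
    (hST : ∀ h ∈ M, (∀ x ∈ (G0 : Submodule F (B × B)), h x ∈ (G0 : Submodule F (B × B))) →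
      IsKron2 h)
    (g : (B × B) ≃ₗ[F] (B × B)) (hg : g ∈ M) (c : F) (hc : c ≠ 0)
    (hstab : ∀ x ∈ Lg g, ux (c • (LinearMap.id : B →ₗ[F] B)) x ∈ Lg g) :
    Lg g = (G0 : Submodule F (B × B)) :=
  Cfsg.Agent.Lib.Helper35_T2_SEMIa.semi_aux β hs hn h2 h3 hb4
    (fun h hiso hk h0 hsq hrk => Cfsg.Agent.Lib.Helper88_T2_NEX.nex β hs hn h2 h3 hb4 h hiso hk h0 hsq hrk)
    M hM hST g hg c hc hstab

end Cfsg.Agent.Lib.Helper35_T2_SEMI
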