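import Mathlib
import Cfsg.Agent.Lib.Helper61_F9

/-!
# Helper61_PSL29Table

An explicit table of a homomorphism `SL₂(F9) → Sym(6)` with kernel `{±1}` (image `A₆`), with the
finite verifications (`decide +kernel`) used by `S0254`.
-/

set_option autoImplicit false

namespace Cfsg.Agent.Lib.Helper61_PSL29Table

open Cfsg.Agent.Lib.Helper61_F9

/-- Table (permutations of `Fin 6` coded in base 6; `0` off `SL₂`). -/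
def tbl : List (List (List (List ℕ))) := [[[[0,0,0,0,0,0,0,0,0],[0,0,0,0,0,0,0,0,0],[0,0,0,0,0,0,0,0,0],[0,0,0,0,0,0,0,0,0],[0,0,0,0,0,0,0,0,0],[0,0,0,0,0,0,0,0,0],[0,0,0,0,0,0,0,0,0],[0,0,0,0,0,0,0,0,0],[0,0,0,0,0,0,0,0,0]],[[0,0,0,0,0,0,0,0,0],[44605,23005,34885,44550,22950,34830,44505,22905,34785],[0,0,0,0,0,0,0,0,0],[0,0,0,0,0,0,0,0,0],[0,0,0,0,0,0,0,0,0],[0,0,0,0,0,0,0,0,0],[0,0,0,0,0,0,0,0,0],[0,0,0,0,0,0,0,0,0],[0,0,0,0,0,0,0,0,0]],[[0,0,0,0,0,0,0,0,0],[0,0,0,0,0,0,0,0,0],[44605,34885,23005,44505,34785,22905,44550,34830,22950],[0,0,0,0,0,0,0,0,0],[0,0,0,0,0,0,0,0,0],[0,0,0,0,0,0,0,0,0],[0,0,0,0,0,0,0,0,0],[0,0,0,0,0,0,0,0,0],[0,0,0,0,0,0,0,0,0]],[[0,0,0,0,0,0,0,0,0],[0,0,0,0,0,0,0,0,0],[0,0,0,0,0,0,0,0,0],[0,0,0,0,0,0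,0,0,0],[0,0,0,0,0,0,0,0,0],[0,0,0,0,0,0,0,0,0],[38130,38035,38055,42450,42355,42375,21930,21835,21855],[0,0,0,0,0,0,0,0,0],[0,0,0,0,0,0,0,0,0]],[[0,0,0,0,0,0,0,0,0],[0,0,0,0,0,0,0,0,0],[0,0,0,0,0,0,0,0,0],[0,0,0,0,0,0,0,0,0],[0,0,0,0,0,0,0,0,0],[2045,23740,11840,11860,2120,23645,23720,11765,2140],[0,0,0,0,0,0,0,0,0],[0,0,0,0,0,0,0,0,0],[0,0,0,0,0,0,0,0,0]],[[0,0,0,0,0,0,0,0,0],[0,0,0,0,0,0,0,0,0],[0,0,0,0,0,0,0,0,0],[0,0,0,0,0,0,0,0,0],[8530,4265,24830,4310,24730,8585,24785,8630,4210],[0,0,0,0,0,0,0,0,0],[0,0,0,0,0,0,0,0,0],[0,0,0,0,0,0,0,0,0],[0,0,0,0,0,0,0,0,0]],[[0,0,0,0,0,0,0,0,0],[0,0,0,0,0,0,0,0,0],[0,0,0,0,0,0,0,0,0],[38130,38055,38035,21930,21855,21835,42450,42375,42355],[0,0,0,0,0,0,0,0,0],[0,0,0,0,0,0,0,0,0],[0,0,0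,0,0,0,0,0,0],[0,0,0,0,0,0,0,0,0],[0,0,0,0,0,0,0,0,0]],[[0,0,0,0,0,0,0,0,0],[0,0,0,0,0,0,0,0,0],[0,0,0,0,0,0,0,0,0],[0,0,0,0,0,0,0,0,0],[0,0,0,0,0,0,0,0,0],[0,0,0,0,0,0,0,0,0],[0,0,0,0,0,0,0,0,0],[0,0,0,0,0,0,0,0,0],[8530,24830,4265,24785,4210,8630,4310,8585,24730]],[[0,0,0,0,0,0,0,0,0],[0,0,0,0,0,0,0,0,0],[0,0,0,0,0,0,0,0,0],[0,0,0,0,0,0,0,0,0],[0,0,0,0,0,0,0,0,0],[0,0,0,0,0,0,0,0,0],[0,0,0,0,0,0,0,0,0],[2045,11840,23740,23720,2140,11765,11860,23645,2120],[0,0,0,0,0,0,0,0,0]]],[[[0,0,38305,0,0,0,0,0,0],[0,0,42265,0,0,0,0,0,0],[0,0,21565,0,0,0,0,0,0],[0,0,37890,0,0,0,0,0,0],[0,0,41850,0,0,0,0,0,0],[0,0,21150,0,0,0,0,0,0],[0,0,37665,0,0,0,0,0,0],[0,0,41625,0,0,0,0,0,0],[0,0,20925,0,0,0,0,0,0]],[[0,0,29665,0,0,0,0,0,0],[30385,0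,0,0,0,0,0,0,0],[0,26965,0,0,0,0,0,0,0],[0,0,0,0,0,14130,0,0,0],[0,0,0,14850,0,0,0,0,0],[0,0,0,0,11430,0,0,0,0],[0,0,0,0,0,0,0,0,6345],[0,0,0,0,0,0,7065,0,0],[0,0,0,0,0,0,0,3645,0]],[[0,0,43705,0,0,0,0,0,0],[0,20665,0,0,0,0,0,0,0],[35605,0,0,0,0,0,0,0,0],[0,0,0,0,0,0,0,0,41130],[0,0,0,0,0,0,0,18090,0],[0,0,0,0,0,0,33030,0,0],[0,0,0,0,0,39825,0,0,0],[0,0,0,0,16785,0,0,0,0],[0,0,0,31725,0,0,0,0,0]],[[0,0,38280,0,0,0,0,0,0],[0,0,0,0,0,42180,0,0,0],[0,0,0,0,0,0,0,0,21450],[0,37815,0,0,0,0,0,0,0],[0,0,0,0,41715,0,0,0,0],[0,0,0,0,0,0,0,20985,0],[37705,0,0,0,0,0,0,0,0],[0,0,0,41605,0,0,0,0,0],[0,0,0,0,0,0,20875,0,0]],[[0,0,29640,0,0,0,0,0,0],[0,0,0,30300,0,0,0,0,0],[0,0,0,0,0,0,0,26850,0],[0,0,0,0,14055,0,0,0,0],[0,0,0,0,0,0,0,0,147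15],[11265,0,0,0,0,0,0,0,0],[0,0,0,0,0,0,6385,0,0],[0,7045,0,0,0,0,0,0,0],[0,0,0,0,0,3595,0,0,0]],[[0,0,43680,0,0,0,0,0,0],[0,0,0,0,20580,0,0,0,0],[0,0,0,0,0,0,35490,0,0],[0,0,0,0,0,0,0,41055,0],[17955,0,0,0,0,0,0,0,0],[0,0,0,0,0,32865,0,0,0],[0,0,0,39865,0,0,0,0,0],[0,0,0,0,0,0,0,0,16765],[0,31675,0,0,0,0,0,0,0]],[[0,0,38240,0,0,0,0,0,0],[0,0,0,0,0,0,0,0,42130],[0,0,0,0,0,21395,0,0,0],[37910,0,0,0,0,0,0,0,0],[0,0,0,0,0,0,41800,0,0],[0,0,0,21065,0,0,0,0,0],[0,37640,0,0,0,0,0,0,0],[0,0,0,0,0,0,0,41530,0],[0,0,0,0,20795,0,0,0,0]],[[0,0,29600,0,0,0,0,0,0],[0,0,0,0,0,0,30250,0,0],[0,0,0,0,26795,0,0,0,0],[0,0,0,14150,0,0,0,0,0],[0,14800,0,0,0,0,0,0,0],[0,0,0,0,0,0,0,0,11345],[0,0,0,0,0,0,0,6320,0],[0,0,0,0,0,6970,0,0,0],[3515,0,0,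0,0,0,0,0,0]],[[0,0,43640,0,0,0,0,0,0],[0,0,0,0,0,0,0,20530,0],[0,0,0,35435,0,0,0,0,0],[0,0,0,0,0,0,41150,0,0],[0,0,0,0,0,18040,0,0,0],[0,32945,0,0,0,0,0,0,0],[0,0,0,0,39800,0,0,0,0],[16690,0,0,0,0,0,0,0,0],[0,0,0,0,0,0,0,0,31595]]],[[[0,38305,0,0,0,0,0,0,0],[0,21565,0,0,0,0,0,0,0],[0,42265,0,0,0,0,0,0,0],[0,37665,0,0,0,0,0,0,0],[0,20925,0,0,0,0,0,0,0],[0,41625,0,0,0,0,0,0,0],[0,37890,0,0,0,0,0,0,0],[0,21150,0,0,0,0,0,0,0],[0,41850,0,0,0,0,0,0,0]],[[0,43705,0,0,0,0,0,0,0],[35605,0,0,0,0,0,0,0,0],[0,0,20665,0,0,0,0,0,0],[0,0,0,0,0,0,0,39825,0],[0,0,0,0,0,0,31725,0,0],[0,0,0,0,0,0,0,0,16785],[0,0,0,0,41130,0,0,0,0],[0,0,0,33030,0,0,0,0,0],[0,0,0,0,0,18090,0,0,0]],[[0,29665,0,0,0,0,0,0,0],[0,0,26965,0,0,0,0,0,0],[30385,0,0,0,0,0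,0,0,0],[0,0,0,0,6345,0,0,0,0],[0,0,0,0,0,3645,0,0,0],[0,0,0,7065,0,0,0,0,0],[0,0,0,0,0,0,0,14130,0],[0,0,0,0,0,0,0,0,11430],[0,0,0,0,0,0,14850,0,0]],[[0,38240,0,0,0,0,0,0,0],[0,0,0,0,0,0,0,21395,0],[0,0,0,0,42130,0,0,0,0],[0,0,37640,0,0,0,0,0,0],[0,0,0,0,0,0,0,0,20795],[0,0,0,0,0,41530,0,0,0],[37910,0,0,0,0,0,0,0,0],[0,0,0,0,0,0,21065,0,0],[0,0,0,41800,0,0,0,0,0]],[[0,43640,0,0,0,0,0,0,0],[0,0,0,0,0,0,35435,0,0],[0,0,0,0,0,20530,0,0,0],[0,0,0,0,0,0,0,0,39800],[0,0,0,0,31595,0,0,0,0],[16690,0,0,0,0,0,0,0,0],[0,0,0,41150,0,0,0,0,0],[0,0,32945,0,0,0,0,0,0],[0,0,0,0,0,0,0,18040,0]],[[0,29600,0,0,0,0,0,0,0],[0,0,0,0,0,0,0,0,26795],[0,0,0,30250,0,0,0,0,0],[0,0,0,0,0,6320,0,0,0],[3515,0,0,0,0,0,0,0,0],[0,0,0,0,0,0,0,6970,0],[0,0,0,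0,0,0,14150,0,0],[0,0,0,0,11345,0,0,0,0],[0,0,14800,0,0,0,0,0,0]],[[0,38280,0,0,0,0,0,0,0],[0,0,0,0,21450,0,0,0,0],[0,0,0,0,0,0,0,42180,0],[37705,0,0,0,0,0,0,0,0],[0,0,0,20875,0,0,0,0,0],[0,0,0,0,0,0,41605,0,0],[0,0,37815,0,0,0,0,0,0],[0,0,0,0,0,20985,0,0,0],[0,0,0,0,0,0,0,0,41715]],[[0,43680,0,0,0,0,0,0,0],[0,0,0,35490,0,0,0,0,0],[0,0,0,0,0,0,0,0,20580],[0,0,0,0,0,0,39865,0,0],[0,0,31675,0,0,0,0,0,0],[0,0,0,0,16765,0,0,0,0],[0,0,0,0,0,41055,0,0,0],[0,0,0,0,0,0,0,32865,0],[17955,0,0,0,0,0,0,0,0]],[[0,29640,0,0,0,0,0,0,0],[0,0,0,0,0,26850,0,0,0],[0,0,0,0,0,0,30300,0,0],[0,0,0,6385,0,0,0,0,0],[0,0,0,0,0,0,0,3595,0],[0,0,7045,0,0,0,0,0,0],[0,0,0,0,0,0,0,0,14055],[11265,0,0,0,0,0,0,0,0],[0,0,0,0,14715,0,0,0,0]]],[[[0,0,0,44790,0,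0,0,0,0],[0,0,0,44155,0,0,0,0,0],[0,0,0,44355,0,0,0,0,0],[0,0,0,22830,0,0,0,0,0],[0,0,0,22195,0,0,0,0,0],[0,0,0,22395,0,0,0,0,0],[0,0,0,34530,0,0,0,0,0],[0,0,0,33895,0,0,0,0,0],[0,0,0,34095,0,0,0,0,0]],[[0,0,0,44750,0,0,0,0,0],[44180,0,0,0,0,0,0,0,0],[0,0,0,0,0,0,44300,0,0],[0,0,0,0,22720,0,0,0,0],[0,22150,0,0,0,0,0,0,0],[0,0,0,0,0,0,0,22270,0],[0,0,0,0,0,34385,0,0,0],[0,0,33815,0,0,0,0,0,0],[0,0,0,0,0,0,0,0,33935]],[[0,0,0,44725,0,0,0,0,0],[0,0,0,0,0,0,44115,0,0],[44400,0,0,0,0,0,0,0,0],[0,0,0,0,0,22705,0,0,0],[0,0,0,0,0,0,0,0,22095],[0,0,22380,0,0,0,0,0,0],[0,0,0,0,34375,0,0,0,0],[0,0,0,0,0,0,0,33765,0],[0,34050,0,0,0,0,0,0,0]],[[0,0,0,30750,0,0,0,0,0],[0,0,0,0,7435,0,0,0,0],[0,0,0,0,0,15195,0,0,0],[0,0,0,0,0,0,27150,0,0],[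0,0,0,0,0,0,0,3835,0],[0,0,0,0,0,0,0,0,11595],[29130,0,0,0,0,0,0,0,0],[0,5815,0,0,0,0,0,0,0],[0,0,13575,0,0,0,0,0,0]],[[0,0,0,30710,0,0,0,0,0],[0,7460,0,0,0,0,0,0,0],[0,0,0,0,0,0,0,0,15140],[0,0,0,0,0,0,0,27040,0],[0,0,0,0,0,3790,0,0,0],[11470,0,0,0,0,0,0,0,0],[0,0,28985,0,0,0,0,0,0],[0,0,0,0,0,0,5735,0,0],[0,0,0,0,13415,0,0,0,0]],[[0,0,0,30685,0,0,0,0,0],[0,0,0,0,0,0,0,7395,0],[0,0,15240,0,0,0,0,0,0],[0,0,0,0,0,0,0,0,27025],[3735,0,0,0,0,0,0,0,0],[0,0,0,0,11580,0,0,0,0],[0,28975,0,0,0,0,0,0,0],[0,0,0,0,0,5685,0,0,0],[0,0,0,0,0,0,13530,0,0]],[[0,0,0,36150,0,0,0,0,0],[0,0,0,0,0,32275,0,0,0],[0,0,0,0,33555,0,0,0,0],[43350,0,0,0,0,0,0,0,0],[0,0,39475,0,0,0,0,0,0],[0,40755,0,0,0,0,0,0,0],[0,0,0,0,0,0,20490,0,0],[0,0,0,0,0,0,0,0,1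6615],[0,0,0,0,0,0,0,17895,0]],[[0,0,0,36110,0,0,0,0,0],[0,0,32300,0,0,0,0,0,0],[0,0,0,0,0,0,0,33500,0],[0,43240,0,0,0,0,0,0,0],[0,0,0,0,0,0,39430,0,0],[0,0,0,0,0,40630,0,0,0],[0,0,0,0,0,0,0,0,20345],[0,0,0,0,16535,0,0,0,0],[17735,0,0,0,0,0,0,0,0]],[[0,0,0,36085,0,0,0,0,0],[0,0,0,0,0,0,0,0,32235],[0,33600,0,0,0,0,0,0,0],[0,0,43225,0,0,0,0,0,0],[0,0,0,0,39375,0,0,0,0],[0,0,0,0,0,0,40740,0,0],[0,0,0,0,0,0,0,20335,0],[16485,0,0,0,0,0,0,0,0],[0,0,0,0,0,17850,0,0,0]]],[[[0,0,0,0,0,0,0,8345,0],[0,0,0,0,0,0,0,5020,0],[0,0,0,0,0,0,0,25520,0],[0,0,0,0,0,0,0,25720,0],[0,0,0,0,0,0,0,8780,0],[0,0,0,0,0,0,0,4385,0],[0,0,0,0,0,0,0,4820,0],[0,0,0,0,0,0,0,25085,0],[0,0,0,0,0,0,0,8980,0]],[[0,0,0,0,0,0,0,3010,0],[29960,0,0,0,0,0,0,0,0],[0,0,0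,0,0,13685,0,0,0],[0,0,0,15050,0,0,0,0,0],[0,0,0,0,0,0,0,0,5495],[0,26110,0,0,0,0,0,0,0],[0,0,28595,0,0,0,0,0,0],[0,0,0,0,11200,0,0,0,0],[0,0,0,0,0,0,6860,0,0]],[[0,0,0,0,0,0,0,17025,0],[0,0,0,0,0,39625,0,0,0],[35400,0,0,0,0,0,0,0,0],[0,0,43080,0,0,0,0,0,0],[0,0,0,0,0,0,32595,0,0],[0,0,0,0,16375,0,0,0,0],[0,0,0,31945,0,0,0,0,0],[0,19830,0,0,0,0,0,0,0],[0,0,0,0,0,0,0,0,40275]],[[0,0,0,0,0,0,0,2985,0],[0,0,0,29905,0,0,0,0,0],[0,0,13800,0,0,0,0,0,0],[0,0,0,0,0,15000,0,0,0],[0,5595,0,0,0,0,0,0,0],[0,0,0,0,0,0,26095,0,0],[28705,0,0,0,0,0,0,0,0],[0,0,0,0,0,0,0,0,11190],[0,0,0,0,6795,0,0,0,0]],[[0,0,0,0,0,0,0,16985,0],[0,0,0,0,0,0,0,0,39580],[0,0,0,0,0,0,35240,0,0],[0,43000,0,0,0,0,0,0,0],[0,0,32540,0,0,0,0,0,0],[16265,0,0,0,0,0,0,0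,0],[0,0,0,0,31820,0,0,0,0],[0,0,0,0,0,19685,0,0,0],[0,0,0,40300,0,0,0,0,0]],[[0,0,0,0,0,0,0,8410,0],[0,5120,0,0,0,0,0,0,0],[0,0,0,0,25565,0,0,0,0],[0,0,0,0,0,0,25850,0,0],[8735,0,0,0,0,0,0,0,0],[0,0,0,4510,0,0,0,0,0],[0,0,0,0,0,0,0,0,4835],[0,0,25240,0,0,0,0,0,0],[0,0,0,0,0,9020,0,0,0]],[[0,0,0,0,0,0,0,17050,0],[0,0,39680,0,0,0,0,0,0],[0,0,0,35285,0,0,0,0,0],[43130,0,0,0,0,0,0,0,0],[0,0,0,0,32495,0,0,0,0],[0,0,0,0,0,0,0,0,16390],[0,0,0,0,0,31835,0,0,0],[0,0,0,0,0,0,19840,0,0],[0,40340,0,0,0,0,0,0,0]],[[0,0,0,0,0,0,0,8385,0],[0,0,0,0,5065,0,0,0,0],[0,25680,0,0,0,0,0,0,0],[0,0,0,0,0,0,0,0,25800],[0,0,0,0,0,8835,0,0,0],[0,0,4495,0,0,0,0,0,0],[0,0,0,0,0,0,4945,0,0],[0,0,0,25230,0,0,0,0,0],[8955,0,0,0,0,0,0,0,0]],[[0,0,0,0,0,0,0,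2945,0],[0,0,0,0,0,0,29860,0,0],[0,0,0,0,0,0,0,0,13640],[0,0,0,0,14920,0,0,0,0],[0,0,0,5540,0,0,0,0,0],[0,0,0,0,0,25985,0,0,0],[0,28580,0,0,0,0,0,0,0],[11045,0,0,0,0,0,0,0,0],[0,0,6820,0,0,0,0,0,0]]],[[[0,0,0,0,0,0,0,0,1870],[0,0,0,0,0,0,0,0,24245],[0,0,0,0,0,0,0,0,12770],[0,0,0,0,0,0,0,0,24470],[0,0,0,0,0,0,0,0,12130],[0,0,0,0,0,0,0,0,2285],[0,0,0,0,0,0,0,0,12545],[0,0,0,0,0,0,0,0,2510],[0,0,0,0,0,0,0,0,23830]],[[0,0,0,0,0,0,0,0,15935],[35180,0,0,0,0,0,0,0,0],[0,0,0,0,40900,0,0,0,0],[0,42850,0,0,0,0,0,0,0],[0,0,0,0,0,17645,0,0,0],[0,0,0,0,0,0,31520,0,0],[0,0,0,33230,0,0,0,0,0],[0,0,0,0,0,0,0,39190,0],[0,0,19595,0,0,0,0,0,0]],[[0,0,0,0,0,0,0,0,10575],[0,0,0,0,5935,0,0,0,0],[30180,0,0,0,0,0,0,0,0],[0,0,0,7285,0,0,0,0,0],[0,0,2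6340,0,0,0,0,0,0],[0,0,0,0,0,0,0,13065,0],[0,28830,0,0,0,0,0,0,0],[0,0,0,0,0,0,14415,0,0],[0,0,0,0,0,3445,0,0,0]],[[0,0,0,0,0,0,0,0,10535],[0,6020,0,0,0,0,0,0,0],[0,0,0,30100,0,0,0,0,0],[0,0,0,0,7210,0,0,0,0],[0,0,0,0,0,0,26285,0,0],[0,0,13160,0,0,0,0,0,0],[28910,0,0,0,0,0,0,0,0],[0,0,0,0,0,14350,0,0,0],[0,0,0,0,0,0,0,3395,0]],[[0,0,0,0,0,0,0,0,1935],[0,0,0,0,0,24295,0,0,0],[0,0,12900,0,0,0,0,0,0],[0,0,0,0,0,0,24565,0,0],[0,0,0,12300,0,0,0,0,0],[2265,0,0,0,0,0,0,0,0],[0,0,0,0,0,0,0,12630,0],[0,0,0,0,2535,0,0,0,0],[0,23965,0,0,0,0,0,0,0]],[[0,0,0,0,0,0,0,0,15910],[0,0,0,0,0,0,35045,0,0],[0,0,0,0,0,0,0,40850,0],[0,0,42830,0,0,0,0,0,0],[17530,0,0,0,0,0,0,0,0],[0,31445,0,0,0,0,0,0,0],[0,0,0,0,0,33065,0,0,0],[0,0,0,39230,0,0,0,0,0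],[0,0,0,0,19510,0,0,0,0]],[[0,0,0,0,0,0,0,0,15975],[0,0,0,35095,0,0,0,0,0],[0,40980,0,0,0,0,0,0,0],[42925,0,0,0,0,0,0,0,0],[0,0,0,0,0,0,0,17700,0],[0,0,0,0,0,31425,0,0,0],[0,0,0,0,33150,0,0,0,0],[0,0,39255,0,0,0,0,0,0],[0,0,0,0,0,0,19645,0,0]],[[0,0,0,0,0,0,0,0,10510],[0,0,0,0,0,0,0,5885,0],[0,0,0,0,0,0,30050,0,0],[0,0,0,0,0,7190,0,0,0],[0,0,0,0,26170,0,0,0,0],[0,0,0,13085,0,0,0,0,0],[0,0,28745,0,0,0,0,0,0],[0,14390,0,0,0,0,0,0,0],[3310,0,0,0,0,0,0,0,0]],[[0,0,0,0,0,0,0,0,1895],[0,0,24380,0,0,0,0,0,0],[0,0,0,0,0,12820,0,0,0],[0,0,0,0,0,0,0,24490,0],[0,12245,0,0,0,0,0,0,0],[0,0,0,0,2360,0,0,0,0],[0,0,0,0,0,0,12710,0,0],[2470,0,0,0,0,0,0,0,0],[0,0,0,23915,0,0,0,0,0]]],[[[0,0,0,0,0,0,44790,0,0],[0,0,0,0,0,0,44355,0,0],[0,0,0,0,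0,0,44155,0,0],[0,0,0,0,0,0,34530,0,0],[0,0,0,0,0,0,34095,0,0],[0,0,0,0,0,0,33895,0,0],[0,0,0,0,0,0,22830,0,0],[0,0,0,0,0,0,22395,0,0],[0,0,0,0,0,0,22195,0,0]],[[0,0,0,0,0,0,44725,0,0],[44400,0,0,0,0,0,0,0,0],[0,0,0,44115,0,0,0,0,0],[0,0,0,0,0,0,0,0,34375],[0,0,34050,0,0,0,0,0,0],[0,0,0,0,0,33765,0,0,0],[0,0,0,0,0,0,0,22705,0],[0,22380,0,0,0,0,0,0,0],[0,0,0,0,22095,0,0,0,0]],[[0,0,0,0,0,0,44750,0,0],[0,0,0,44300,0,0,0,0,0],[44180,0,0,0,0,0,0,0,0],[0,0,0,0,0,0,0,34385,0],[0,0,0,0,33935,0,0,0,0],[0,33815,0,0,0,0,0,0,0],[0,0,0,0,0,0,0,0,22720],[0,0,0,0,0,22270,0,0,0],[0,0,22150,0,0,0,0,0,0]],[[0,0,0,0,0,0,36150,0,0],[0,0,0,0,0,0,0,0,33555],[0,0,0,0,0,0,0,32275,0],[0,0,0,20490,0,0,0,0,0],[0,0,0,0,0,17895,0,0,0],[0,0,0,0,16615,0,0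,0,0],[43350,0,0,0,0,0,0,0,0],[0,0,40755,0,0,0,0,0,0],[0,39475,0,0,0,0,0,0,0]],[[0,0,0,0,0,0,36085,0,0],[0,0,33600,0,0,0,0,0,0],[0,0,0,0,32235,0,0,0,0],[0,0,0,0,0,20335,0,0,0],[0,0,0,0,0,0,0,17850,0],[16485,0,0,0,0,0,0,0,0],[0,43225,0,0,0,0,0,0,0],[0,0,0,40740,0,0,0,0,0],[0,0,0,0,0,0,0,0,39375]],[[0,0,0,0,0,0,36110,0,0],[0,0,0,0,0,33500,0,0,0],[0,32300,0,0,0,0,0,0,0],[0,0,0,0,20345,0,0,0,0],[17735,0,0,0,0,0,0,0,0],[0,0,0,0,0,0,0,0,16535],[0,0,43240,0,0,0,0,0,0],[0,0,0,0,0,0,0,40630,0],[0,0,0,39430,0,0,0,0,0]],[[0,0,0,0,0,0,30750,0,0],[0,0,0,0,0,0,0,15195,0],[0,0,0,0,0,0,0,0,7435],[29130,0,0,0,0,0,0,0,0],[0,13575,0,0,0,0,0,0,0],[0,0,5815,0,0,0,0,0,0],[0,0,0,27150,0,0,0,0,0],[0,0,0,0,11595,0,0,0,0],[0,0,0,0,0,3835,0,0,0]],[[0,0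,0,0,0,0,30685,0,0],[0,15240,0,0,0,0,0,0,0],[0,0,0,0,0,7395,0,0,0],[0,0,28975,0,0,0,0,0,0],[0,0,0,13530,0,0,0,0,0],[0,0,0,0,0,0,0,5685,0],[0,0,0,0,27025,0,0,0,0],[0,0,0,0,0,0,0,0,11580],[3735,0,0,0,0,0,0,0,0]],[[0,0,0,0,0,0,30710,0,0],[0,0,0,0,15140,0,0,0,0],[0,0,7460,0,0,0,0,0,0],[0,28985,0,0,0,0,0,0,0],[0,0,0,0,0,0,0,0,13415],[0,0,0,5735,0,0,0,0,0],[0,0,0,0,0,27040,0,0,0],[11470,0,0,0,0,0,0,0,0],[0,0,0,0,0,0,0,3790,0]]],[[[0,0,0,0,1870,0,0,0,0],[0,0,0,0,12770,0,0,0,0],[0,0,0,0,24245,0,0,0,0],[0,0,0,0,12545,0,0,0,0],[0,0,0,0,23830,0,0,0,0],[0,0,0,0,2510,0,0,0,0],[0,0,0,0,24470,0,0,0,0],[0,0,0,0,2285,0,0,0,0],[0,0,0,0,12130,0,0,0,0]],[[0,0,0,0,10575,0,0,0,0],[30180,0,0,0,0,0,0,0,0],[0,0,0,0,0,0,0,0,5935],[0,0,28830,0,0,0,0,0,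0],[0,0,0,0,0,0,0,3445,0],[0,0,0,14415,0,0,0,0,0],[0,0,0,0,0,0,7285,0,0],[0,0,0,0,0,13065,0,0,0],[0,26340,0,0,0,0,0,0,0]],[[0,0,0,0,15935,0,0,0,0],[0,0,0,0,0,0,0,0,40900],[35180,0,0,0,0,0,0,0,0],[0,0,0,0,0,0,33230,0,0],[0,19595,0,0,0,0,0,0,0],[0,0,0,0,0,39190,0,0,0],[0,0,42850,0,0,0,0,0,0],[0,0,0,31520,0,0,0,0,0],[0,0,0,0,0,0,0,17645,0]],[[0,0,0,0,15975,0,0,0,0],[0,0,40980,0,0,0,0,0,0],[0,0,0,0,0,0,35095,0,0],[0,0,0,0,0,0,0,0,33150],[0,0,0,19645,0,0,0,0,0],[0,39255,0,0,0,0,0,0,0],[42925,0,0,0,0,0,0,0,0],[0,0,0,0,0,0,0,31425,0],[0,0,0,0,0,17700,0,0,0]],[[0,0,0,0,1895,0,0,0,0],[0,0,0,0,0,0,0,12820,0],[0,24380,0,0,0,0,0,0,0],[0,0,0,12710,0,0,0,0,0],[0,0,0,0,0,0,23915,0,0],[2470,0,0,0,0,0,0,0,0],[0,0,0,0,0,24490,0,0,0],[0,0,0,0,0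,0,0,0,2360],[0,0,12245,0,0,0,0,0,0]],[[0,0,0,0,10510,0,0,0,0],[0,0,0,30050,0,0,0,0,0],[0,0,0,0,0,5885,0,0,0],[0,28745,0,0,0,0,0,0,0],[3310,0,0,0,0,0,0,0,0],[0,0,14390,0,0,0,0,0,0],[0,0,0,0,0,0,0,7190,0],[0,0,0,0,0,0,13085,0,0],[0,0,0,0,0,0,0,0,26170]],[[0,0,0,0,10535,0,0,0,0],[0,0,0,0,0,0,30100,0,0],[0,0,6020,0,0,0,0,0,0],[28910,0,0,0,0,0,0,0,0],[0,0,0,0,0,3395,0,0,0],[0,0,0,0,0,0,0,14350,0],[0,0,0,0,0,0,0,0,7210],[0,13160,0,0,0,0,0,0,0],[0,0,0,26285,0,0,0,0,0]],[[0,0,0,0,15910,0,0,0,0],[0,0,0,0,0,40850,0,0,0],[0,0,0,35045,0,0,0,0,0],[0,0,0,0,0,0,0,33065,0],[0,0,0,0,0,0,0,0,19510],[0,0,0,0,0,0,39230,0,0],[0,42830,0,0,0,0,0,0,0],[0,0,31445,0,0,0,0,0,0],[17530,0,0,0,0,0,0,0,0]],[[0,0,0,0,1935,0,0,0,0],[0,12900,0,0,0,0,0,0,0],[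0,0,0,0,0,0,0,24295,0],[0,0,0,0,0,12630,0,0,0],[0,0,23965,0,0,0,0,0,0],[0,0,0,0,0,0,0,0,2535],[0,0,0,24565,0,0,0,0,0],[2265,0,0,0,0,0,0,0,0],[0,0,0,0,0,0,12300,0,0]]],[[[0,0,0,0,0,8345,0,0,0],[0,0,0,0,0,25520,0,0,0],[0,0,0,0,0,5020,0,0,0],[0,0,0,0,0,4820,0,0,0],[0,0,0,0,0,8980,0,0,0],[0,0,0,0,0,25085,0,0,0],[0,0,0,0,0,25720,0,0,0],[0,0,0,0,0,4385,0,0,0],[0,0,0,0,0,8780,0,0,0]],[[0,0,0,0,0,17025,0,0,0],[35400,0,0,0,0,0,0,0,0],[0,0,0,0,0,0,0,39625,0],[0,0,0,0,0,0,31945,0,0],[0,0,0,0,40275,0,0,0,0],[0,0,19830,0,0,0,0,0,0],[0,43080,0,0,0,0,0,0,0],[0,0,0,0,0,0,0,0,16375],[0,0,0,32595,0,0,0,0,0]],[[0,0,0,0,0,3010,0,0,0],[0,0,0,0,0,0,0,13685,0],[29960,0,0,0,0,0,0,0,0],[0,28595,0,0,0,0,0,0,0],[0,0,0,6860,0,0,0,0,0],[0,0,0,0,0,0,0,0,1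1200],[0,0,0,0,0,0,15050,0,0],[0,0,26110,0,0,0,0,0,0],[0,0,0,0,5495,0,0,0,0]],[[0,0,0,0,0,17050,0,0,0],[0,0,0,0,0,0,35285,0,0],[0,39680,0,0,0,0,0,0,0],[0,0,0,0,0,0,0,31835,0],[0,0,40340,0,0,0,0,0,0],[0,0,0,19840,0,0,0,0,0],[43130,0,0,0,0,0,0,0,0],[0,0,0,0,16390,0,0,0,0],[0,0,0,0,0,0,0,0,32495]],[[0,0,0,0,0,2945,0,0,0],[0,0,0,0,13640,0,0,0,0],[0,0,0,29860,0,0,0,0,0],[0,0,28580,0,0,0,0,0,0],[0,6820,0,0,0,0,0,0,0],[11045,0,0,0,0,0,0,0,0],[0,0,0,0,0,0,0,0,14920],[0,0,0,0,0,0,0,25985,0],[0,0,0,0,0,0,5540,0,0]],[[0,0,0,0,0,8385,0,0,0],[0,0,25680,0,0,0,0,0,0],[0,0,0,0,0,0,0,0,5065],[0,0,0,4945,0,0,0,0,0],[8955,0,0,0,0,0,0,0,0],[0,0,0,0,0,0,25230,0,0],[0,0,0,0,25800,0,0,0,0],[0,4495,0,0,0,0,0,0,0],[0,0,0,0,0,0,0,8835,0]],[[0,0,0,0,0,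2985,0,0,0],[0,13800,0,0,0,0,0,0,0],[0,0,0,0,0,0,29905,0,0],[28705,0,0,0,0,0,0,0,0],[0,0,0,0,0,0,0,0,6795],[0,0,0,0,11190,0,0,0,0],[0,0,0,0,0,0,0,15000,0],[0,0,0,26095,0,0,0,0,0],[0,0,5595,0,0,0,0,0,0]],[[0,0,0,0,0,8410,0,0,0],[0,0,0,0,0,0,0,0,25565],[0,0,5120,0,0,0,0,0,0],[0,0,0,0,4835,0,0,0,0],[0,0,0,0,0,0,0,9020,0],[0,25240,0,0,0,0,0,0,0],[0,0,0,25850,0,0,0,0,0],[0,0,0,0,0,0,4510,0,0],[8735,0,0,0,0,0,0,0,0]],[[0,0,0,0,0,16985,0,0,0],[0,0,0,35240,0,0,0,0,0],[0,0,0,0,39580,0,0,0,0],[0,0,0,0,0,0,0,0,31820],[0,0,0,0,0,0,40300,0,0],[0,0,0,0,0,0,0,19685,0],[0,0,43000,0,0,0,0,0,0],[16265,0,0,0,0,0,0,0,0],[0,32540,0,0,0,0,0,0,0]]]]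

def look (a b c d : F9) : ℕ :=
  (((tbl.getD a.idx []).getD b.idx []).getD c.idx []).getD d.idx 0

/-- The `i`-th base-6 digit. -/
def dig (n : ℕ) (i : Fin 6) : Fin 6 := ⟨(n / 6 ^ i.val) % 6, Nat.mod_lt _ (by norm_num)⟩

theorem look_one : look 1 0 0 1 = 44790 := by decide +kernel

theorem look_neg_one : look (-1) 0 0 (-1) = 44790 := by decide +kernel

theorem dig_one : ∀ i, dig 44790 i = i := by decide +kernel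

set_option maxRecDepth 100000 in
theorem inv_check : ∀ a b c d : F9, a * d - b * c = 1 →
    ∀ i, dig (look d (-b) (-c) a) (dig (look a b c d) i) = i := by
  decide +kernel

set_option maxRecDepth 100000 in
theorem gen_check : ∀ a b c d : F9, a * d - b * c = 1 → ∀ x : F9,
    (∀ i, dig (look a (a * x + b) c (c * x + d)) i = dig (look a b c d) (dig (look 1 x 0 1) i)) ∧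
    (∀ i, dig (look (a + b * x) b (c + d * x) d) i = dig (look a b c d) (dig (look 1 0 x 1) i)) := by
  decide +kernel

set_option maxRecDepth 100000 in
theorem ker_check : ∀ a b c d : F9, a * d - b * c = 1 → (∀ i, dig (look a b c d) i = i) →
    (a = 1 ∧ b = 0 ∧ c = 0 ∧ d = 1) ∨ (a = -1 ∧ b = 0 ∧ c = 0 ∧ d = -1) := by
  decide +kernel

set_option maxRecDepth 100000 in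
theorem cube_check : ∀ x : F9, ∀ i,
    dig (look 1 x 0 1) (dig (look 1 x 0 1) (dig (look 1 x 0 1) i)) = i ∧
    dig (look 1 0 x 1) (dig (look 1 0 x 1) (dig (look 1 0 x 1) i)) = i := by
  decide +kernel

set_option maxRecDepth 100000 in
theorem decomp : ∀ a b c d : F9, a * d - b * c = 1 → c ≠ 0 →
    ∃ x y : F9, 1 + x * c = a ∧ (1 + x * c) * y + x = b ∧ c * y + 1 = d := by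
  decide +kernel

theorem sq_eq_one9 : ∀ r : F9, r ^ 2 = 1 → r = 1 ∨ r = -1 := by decide +kernel

end Cfsg.Agent.Lib.Helper61_PSL29Table
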