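import Mathlib
import Cfsg.Prelude.Def_KGroupFacts
import Cfsg.Agent.Lib.Helper27_HexAut
import Cfsg.Agent.Lib.Helper61_F4
import Cfsg.Agent.S1611
import Cfsg.Agent.S0254

set_option autoImplicit false
open Cfsg

/-! A stem extension of `SL₂(9)` with nontrivial kernel: the pullback of `SL₂(9) → A₆` with the
monomial automorphism group `3.A₆` of the hexacode (helper35). -/

namespace Cfsg.Agent.Lib.Helper35_ThreeA6

open Cfsg.Agent.Lib.Helper27_Hexacode Cfsg.Agent.Lib.Helper27_HexAut Cfsg.Agent.Lib.Helper61_F4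
open Matrix
open scoped MatrixGroups commutatorElement

abbrev K := F4

def om : K := F4.mk 0 1

theorem om_eq : om ^ 2 + om + 1 = 0 := by decide

/-- the unit `ω` -/
def omU : Kˣ := ⟨om, om * om, by decide, by decide⟩

theorem units_cases (u : Kˣ) : u = 1 ∨ u = omU ∨ u = omU * omU := by
  have h : ∀ x : K, x = 0 ∨ x = 1 ∨ x = om ∨ x = om * om := by decide
  rcases h (u : K) with h | h | h | h
  · exact absurd h u.ne_zero
  · left; exact Units.ext h
  · right; left; exact Units.ext h
  · right; right; exact Units.ext h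

/-- the full monomial group -/
abbrev Mon :=
  (Fin 6 → Kˣ) ⋊[mulAutArrow (G := Equiv.Perm (Fin 6)) (A := Fin 6) (M := Kˣ)] Equiv.Perm (Fin 6)

instance instFiniteMon : Finite Mon := Finite.of_equiv _ SemidirectProduct.equivProd.symm

def gx : Mon := ⟨![1, 1, 1, 1, omU, omU * omU], Equiv.swap 0 1 * Equiv.swap 0 2⟩
def gy : Mon := ⟨![1, omU * omU, omU, omU, omU, omU], Equiv.swap 3 4 * Equiv.swap 3 5⟩
def gz : Mon := ⟨fun _ => omU * omU, 1⟩

theorem comm_xy : ⁅gx, gy⁆ = gz := by
  apply SemidirectProduct.ext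
  · show (⁅gx, gy⁆).left = fun _ => omU * omU
    decide +kernel
  · show (⁅gx, gy⁆).right = 1
    decide +kernel

theorem gz_pow_three : gz ^ 3 = 1 := by
  apply SemidirectProduct.ext
  · show (gz ^ 3).left = fun _ => 1
    decide +kernel
  · show (gz ^ 3).right = 1
    decide +kernel

theorem gz_sq : gz ^ 2 = ⟨fun _ => omU, 1⟩ := by
  apply SemidirectProduct.ext
  · show (gz ^ 2).left = fun _ => omU
    decide +kernel
  · show (gz ^ 2).right = 1
    decide +kernel

theorem gz_ne_one : gz ≠ 1 := by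
  intro h
  have h1 : gz.left 0 = (1 : Mon).left 0 := by rw [h]
  revert h1
  decide +kernel

/-- scalars are central -/
theorem scalar_mem_center (u : Kˣ) : (⟨fun _ => u, 1⟩ : Mon) ∈ Subgroup.center Mon := by
  rw [Subgroup.mem_center_iff]
  intro g
  apply SemidirectProduct.ext
  · funext i
    simp only [SemidirectProduct.mul_left, Pi.mul_apply, mulAutArrow_apply_apply, map_one,
      MulAut.one_apply]
    exact mul_comm _ _
  · simp

/-- the automorphism group of the hexacode inside the monomial group -/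
def H3 : Subgroup Mon where
  carrier := {m | Pres om m.right m.left}
  one_mem' := pres_one om
  mul_mem' := by
    intro a b ha hb
    exact pres_mul ha hb
  inv_mem' := by
    intro a ha
    exact pres_inv ha

theorem mem_H3 (m : Mon) : m ∈ H3 ↔ Pres om m.right m.left := Iff.rfl

theorem card_K : Fintype.card K = 4 := F4.card

theorem gx_mem : gx ∈ H3 := by
  rw [mem_H3]
  refine (pres_iff_cPres card_K om_eq _ _ ![E4.o, E4.o, E4.o, E4.o, E4.w, E4.v] ?_).2 ?_
  · decide +kernel
  · decide +kernel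

theorem gy_mem : gy ∈ H3 := by
  rw [mem_H3]
  refine (pres_iff_cPres card_K om_eq _ _ ![E4.o, E4.v, E4.w, E4.w, E4.w, E4.w] ?_).2 ?_
  · decide +kernel
  · decide +kernel

/-- elements of `H3` with trivial permutation part are scalars -/
theorem eq_scalar_of_right_eq_one (m : Mon) (hm : m ∈ H3) (h1 : m.right = 1) :
    m = 1 ∨ m = gz ∨ m = gz ^ 2 := by
  rw [mem_H3, h1] at hm
  have hc := diag_const card_K om_eq m.left hm
  have hm' : m = ⟨fun _ => m.left 0, 1⟩ := by
    apply SemidirectProduct.ext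
    · funext i; exact hc i 0
    · exact h1
  rcases units_cases (m.left 0) with h | h | h
  · left; rw [hm', h]; rfl
  · right; right; rw [hm', h, gz_sq]
  · right; left; rw [hm', h]; rfl

section pullback

variable {F : Type*} [Field F]

/-- elements of the centre of `SL₂` square to one -/
theorem sq_eq_one_of_mem_center (s : SL(2, F)) (hs : s ∈ Subgroup.center SL(2, F)) : s * s = 1 := by
  rw [Matrix.SpecialLinearGroup.mem_center_iff] at hs
  obtain ⟨r, hr, hrs⟩ := hs
  rw [Fintype.card_fin] at hr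
  apply Subtype.ext
  rw [Matrix.SpecialLinearGroup.coe_mul, ← hrs, Matrix.SpecialLinearGroup.coe_one,
    ← (Matrix.scalar (Fin 2)).map_mul, ← pow_two, hr, map_one]

variable (e : Matrix.ProjectiveSpecialLinearGroup (Fin 2) F ≃* alternatingGroup (Fin 6))

/-- the homomorphism `SL₂(9) → A₆ ≤ S₆` -/
noncomputable def rho : SL(2, F) →* Equiv.Perm (Fin 6) :=
  (alternatingGroup (Fin 6)).subtype.comp
    (e.toMonoidHom.comp (QuotientGroup.mk' (Subgroup.center SL(2, F))))

theorem rho_mem (s : SL(2, F)) : rho e s ∈ alternatingGroup (Fin 6) :=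
  (e (QuotientGroup.mk' (Subgroup.center SL(2, F)) s)).2

theorem rho_surj (g : Equiv.Perm (Fin 6)) (hg : g ∈ alternatingGroup (Fin 6)) :
    ∃ s : SL(2, F), rho e s = g := by
  obtain ⟨q, hq⟩ := e.surjective ⟨g, hg⟩
  obtain ⟨s, hs⟩ := QuotientGroup.mk'_surjective (Subgroup.center SL(2, F)) q
  refine ⟨s, ?_⟩
  show ((e (QuotientGroup.mk' (Subgroup.center SL(2, F)) s) : alternatingGroup (Fin 6)) :
    Equiv.Perm (Fin 6)) = g
  rw [hs, hq]

theorem sq_eq_one_of_rho_eq_one (s : SL(2, F)) (hs : rho e s = 1) : s * s = 1 := by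
  apply sq_eq_one_of_mem_center
  have h1 : e (QuotientGroup.mk' (Subgroup.center SL(2, F)) s) = 1 := Subtype.ext hs
  rw [EmbeddingLike.map_eq_one_iff] at h1
  rwa [QuotientGroup.mk'_apply, QuotientGroup.eq_one_iff] at h1

/-- the pullback -/
noncomputable def PBs : Subgroup (SL(2, F) × Mon) :=
  (H3.comap (MonoidHom.snd SL(2, F) Mon)) ⊓
    ((rho e).comp (MonoidHom.fst SL(2, F) Mon)).eqLocus
      ((SemidirectProduct.rightHom).comp (MonoidHom.snd SL(2, F) Mon))

theorem mem_PBs (p : SL(2, F) × Mon) : p ∈ PBs e ↔ p.2 ∈ H3 ∧ rho e p.1 = p.2.right := Iff.rfl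

/-- the projection to `SL₂(9)` -/
noncomputable def p1 : PBs e →* SL(2, F) := (MonoidHom.fst SL(2, F) Mon).comp (PBs e).subtype

theorem p1_apply (x : PBs e) : p1 e x = x.1.1 := rfl

theorem p1_surjective : Function.Surjective (p1 e) := by
  intro s
  have h1 : rho e s ∈ Cfsg.Agent.S1611.permParts om := by
    rw [Cfsg.Agent.S1611.permParts_eq card_K om_eq]
    exact rho_mem e s
  obtain ⟨c, hc⟩ := h1
  exact ⟨⟨(s, ⟨c, rho e s⟩), ⟨hc, rfl⟩⟩, rfl⟩

theorem ker_p1_cases (x : PBs e) (hx : x ∈ (p1 e).ker) :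
    x.1 = (1, 1) ∨ x.1 = (1, gz) ∨ x.1 = (1, gz ^ 2) := by
  have h1 : x.1.1 = 1 := hx
  obtain ⟨h2, h3⟩ := (mem_PBs e x.1).mp x.2
  rw [h1, map_one] at h3
  rcases eq_scalar_of_right_eq_one x.1.2 h2 h3.symm with h | h | h
  · left; exact Prod.ext h1 h
  · right; left; exact Prod.ext h1 h
  · right; right; exact Prod.ext h1 h

theorem gz_mem_center : gz ∈ Subgroup.center Mon := scalar_mem_center _

theorem ker_p1_le_center : (p1 e).ker ≤ Subgroup.center (PBs e) := by
  intro x hx
  rw [Subgroup.mem_center_iff]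
  intro g
  apply Subtype.ext
  have hz := Subgroup.mem_center_iff.mp gz_mem_center
  have hz2 := Subgroup.mem_center_iff.mp (Subgroup.pow_mem _ gz_mem_center 2)
  rcases ker_p1_cases e x hx with h | h | h
  · apply Prod.ext
    · simp [h]
    · simp [h]
  · apply Prod.ext
    · simp [h]
    · simp only [Subgroup.coe_mul, Prod.snd_mul, h]
      exact hz _
  · apply Prod.ext
    · simp [h]
    · simp only [Subgroup.coe_mul, Prod.snd_mul, h]
      exact hz2 _

/-- a nontrivial element of the kernel lying in the commutator subgroup -/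
theorem exists_W : ∃ W : PBs e, W ∈ commutator (PBs e) ∧ W.1 = (1, gz) := by
  have hgx : gx.right ∈ alternatingGroup (Fin 6) := by
    rw [Equiv.Perm.mem_alternatingGroup]
    decide +kernel
  have hgy : gy.right ∈ alternatingGroup (Fin 6) := by
    rw [Equiv.Perm.mem_alternatingGroup]
    decide +kernel
  obtain ⟨s, hs⟩ := rho_surj e _ hgx
  obtain ⟨t, ht⟩ := rho_surj e _ hgy
  let X : PBs e := ⟨(s, gx), ⟨gx_mem, hs⟩⟩
  let Y : PBs e := ⟨(t, gy), ⟨gy_mem, ht⟩⟩
  refine ⟨⁅X, Y⁆ ^ 4, Subgroup.pow_mem _ (Subgroup.commutator_mem_commutator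
    (Subgroup.mem_top X) (Subgroup.mem_top Y)) 4, ?_⟩
  have h1 : (⁅X, Y⁆).1 = (⁅s, t⁆, gz) := by
    rw [← comm_xy]
    rfl
  have h2 : rho e ⁅s, t⁆ = 1 := by
    rw [map_commutatorElement, hs, ht, commutatorElement_eq_one_iff_mul_comm]
    decide +kernel
  have h3 := sq_eq_one_of_rho_eq_one e _ h2
  have h4 : ((⁅X, Y⁆ ^ 4 : PBs e) : SL(2, F) × Mon) = ((⁅X, Y⁆ : PBs e) : SL(2, F) × Mon) ^ 4 := rfl
  rw [h4, h1]
  apply Prod.ext
  · show ⁅s, t⁆ ^ 4 = 1
    have : ∀ w : SL(2, F), w ^ 4 = (w * w) * (w * w) := fun w => by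
      rw [show (4 : ℕ) = 2 + 2 from rfl, pow_add, pow_two]
    rw [this, h3, one_mul]
  · show gz ^ 4 = gz
    rw [pow_succ, gz_pow_three, one_mul]

theorem ker_p1_le_commutator : (p1 e).ker ≤ commutator (PBs e) := by
  intro x hx
  obtain ⟨W, hW, hW1⟩ := exists_W e
  rcases ker_p1_cases e x hx with h | h | h
  · have : x = 1 := Subtype.ext h
    rw [this]; exact Subgroup.one_mem _
  · have : x = W := Subtype.ext (h.trans hW1.symm)
    rw [this]; exact hW
  · have : x = W ^ 2 := by
      apply Subtype.ext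
      rw [h]
      show _ = (W : SL(2, F) × Mon) ^ 2
      rw [hW1]
      apply Prod.ext
      · simp
      · rfl
    rw [this]; exact Subgroup.pow_mem _ hW 2

theorem isStemExtension_p1 : IsStemExtension (p1 e) :=
  ⟨p1_surjective e, ker_p1_le_center e, ker_p1_le_commutator e⟩

theorem ker_p1_ne_bot : (p1 e).ker ≠ ⊥ := by
  intro h
  obtain ⟨W, _, hW1⟩ := exists_W e
  have h1 : W ∈ (p1 e).ker := by
    rw [MonoidHom.mem_ker, p1_apply, hW1]
  rw [h, Subgroup.mem_bot] at h1
  have h2 : (W : SL(2, F) × Mon).2 = 1 := by rw [h1]; rfl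
  rw [hW1] at h2
  exact gz_ne_one h2

end pullback

end Cfsg.Agent.Lib.Helper35_ThreeA6
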