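/-
Steinberg's presentation (helper81), abstract part 6: over a finite field the relations (R3) hold in every group
with (R1), (R2) that maps to the Chevalley group matching the generators.  The rank one relation
`n_p(a) X_p(u) n_p(a)⁻¹ = X_{-p}(-a⁻² u)` is lifted from the Chevalley group, the rank one theory of Helper5 gives
`h_p(ab) = h_p(a) h_p(b)` for the fundamental roots, and the elements `n_p(1)` transport it to all roots.
-/
import Mathlib
import Cfsg.Agent.Lib.Helper81_StTorus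
import Cfsg.Agent.Lib.Helper81_StEta
import Cfsg.Agent.Lib.Helper18_ChevCent
import Cfsg.Agent.Lib.Helper5_SteinbergD

set_option autoImplicit false
set_option linter.unusedSectionVars false
set_option linter.unusedVariables false

namespace Cfsg.Agent.Lib.Helper81_StR3

open Cfsg Cfsg.Lie Cfsg.Agent.Lib.Helper18_ChevFast Cfsg.Agent.Lib.Helper18_ChevEngine
  Cfsg.Agent.Lib.Helper18_ChevR1 Cfsg.Agent.Lib.Helper18_ChevN Cfsg.Agent.Lib.Helper18_ChevR4
  Cfsg.Agent.Lib.Helper18_ChevSimple Cfsg.Agent.Lib.Helper18_ChevSimple2 Cfsg.Agent.Lib.Helper18_ChevFacts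
  Cfsg.Agent.Lib.Helper18_ChevWeyl Cfsg.Agent.Lib.Helper18_ChevDiag Cfsg.Agent.Lib.Helper18_ChevCar
  Cfsg.Agent.Lib.Helper18_ChevTorus Cfsg.Agent.Lib.Helper18_ChevGL Cfsg.Agent.Lib.Helper18_ChevComm
  Cfsg.Agent.Lib.Helper18_ChevComm2 Cfsg.Agent.Lib.Helper18_MatTri Cfsg.Agent.Lib.Helper18_ChevTri
  Cfsg.Agent.Lib.Helper18_ChevBorel Cfsg.Agent.Lib.Helper18_ChevAdd Cfsg.Agent.Lib.Helper18_ChevUni
  Cfsg.Agent.Lib.Helper18_ChevBN Cfsg.Agent.Lib.Helper18_ChevMono Cfsg.Agent.Lib.Helper18_ChevBNPair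
  Cfsg.Agent.Lib.Helper18_ChevLevi Cfsg.Agent.Lib.Helper18_ChevSimp Cfsg.Agent.Lib.Helper18_ChevBruhat
  Cfsg.Agent.Lib.Helper18_ChevCent
  Cfsg.Agent.Lib.Helper81_StUniq Cfsg.Agent.Lib.Helper81_StAbs Cfsg.Agent.Lib.Helper81_StL37
  Cfsg.Agent.Lib.Helper81_StBruhat Cfsg.Agent.Lib.Helper81_StTorus Cfsg.Agent.Lib.Helper81_StEta
  Cfsg.Agent.Lib.Helper5_SteinbergA

variable {D : ChevalleyDatum} {Ns : List NData} {F : Type*} [Field F] {Γ : Type*} [Group Γ]
variable {wl : List ℤ} {ws : List (List ℤ)} {sc : ℤ} {X : ℕ → F → Γ}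

/-! ### The rank one relation in the Chevalley group -/

theorem hGL_conj (c : DCert D Ns) (tc : TCert D) (i : ℕ) (hi : i < D.rank) (a : F) (ha : a ≠ 0) (r : ℕ)
    (hr : r < D.nroots) (t : F) :
    hGL c (D.simple i) a * xGL c r t * (hGL c (D.simple i) a)⁻¹ = xGL c r (a ^ D.cartan i r * t) := by
  rw [mul_inv_eq_iff_eq_mul]
  apply Units.ext
  rw [Units.val_mul, Units.val_mul, xGL_coe, xGL_coe, hGL_coe, hMat_all c tc _ (c.ncert i hi).simple_lt a ha]
  have hchar : IsChar D (fun s => a ^ D.cartan i s) := (tc.carCompat c).isChar i hi a ha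
  have h1 := diag_conj hchar r hr t
  have h2 : diagMat D (fun s => a ^ cartanR D (D.simple i) s) = diagMat D (fun s => a ^ D.cartan i s) :=
    diagMat_congr (fun s _ => by rw [tc.cartanR_simple i hi s])
  rw [h2]
  exact h1

theorem nrGL_conj_pos (c : DCert D Ns) (tc : TCert D) (ec : EtaCert D Ns) (i : ℕ) (hi : i < D.rank) (a : F)
    (ha : a ≠ 0) (u : F) :
    nrGL c (D.simple i) a * xGL c (D.simple i) u * (nrGL c (D.simple i) a)⁻¹ =
      xGL c (D.neg (D.simple i)) (-(a⁻¹ ^ 2 * u)) := by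
  have hp := (c.ncert i hi).simple_lt
  have hnp := DCert.neg_lt c _ hp
  rw [nrGL_eq c i hi]
  have e1 : hGL c (D.simple i) a * nGL c i * xGL c (D.simple i) u * (hGL c (D.simple i) a * nGL c i)⁻¹ =
      hGL c (D.simple i) a * (nGL c i * xGL c (D.simple i) u * (nGL c i)⁻¹) * (hGL c (D.simple i) a)⁻¹ := by
    group
  rw [e1, nGL_conj c i hi _ hp, reflectRoot_simple, hGL_conj c tc i hi a ha _ hnp, (ec i hi).1,
    (tc.carCompat c).neg _ hp i hi, (ec i hi).2]
  congr 1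
  rw [zpow_neg, Int.cast_neg, Int.cast_one, inv_pow]
  have : a ^ (2 : ℤ) = a ^ 2 := zpow_ofNat a 2
  rw [this]
  ring

/-! ### The rank one relations in `Γ` -/

/-- `n_p(a) X_p(u) n_p(a)⁻¹ = X_{-p}(-a⁻² u)` and `n_p(a) X_{-p}(u) n_p(a)⁻¹ = X_p(-a² u)`. -/
theorem nB_conj (c : DCert D Ns) (tc : TCert D) (ac : ACert D wl ws sc) (hA : CertA D) {bs : List BData}
    (hB : CertB D bs) (hX : StGrp D X) {π : Γ →* GL D.Idx F} (hπ : IsLift c X π) (ec : EtaCert D Ns) (i : ℕ)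
    (hi : i < D.rank) (a : F) (ha : a ≠ 0) :
    (∀ u : F, nB D X i a * X (D.simple i) u * (nB D X i a)⁻¹ = X (D.neg (D.simple i)) (-(a⁻¹ ^ 2 * u))) ∧
    (∀ u : F, nB D X i a * X (D.neg (D.simple i)) u * (nB D X i a)⁻¹ = X (D.simple i) (-(a ^ 2 * u))) := by
  have hp := (c.ncert i hi).simple_lt
  have hnp := DCert.neg_lt c _ hp
  obtain ⟨-, -, e, he, h1, h2⟩ := monoAct_nB c tc ac hA hB hX hπ i hi a ha (D.simple i) hp
  rw [reflectRoot_simple] at h1 h2
  rw [neg_neg_root c tc ac _ hp] at h2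
  have h3 := congrArg π (h1 1)
  rw [map_mul, map_mul, map_inv, map_nB c hπ i hi, hπ _ hp, hπ _ hnp, nrGL_conj_pos c tc ec i hi a ha] at h3
  have h4 : D.x F (D.neg (D.simple i)) (-(a⁻¹ ^ 2 * 1)) = D.x F (D.neg (D.simple i)) (e * 1) := by
    rw [← xGL_coe c, ← xGL_coe c, h3]
  have h5 := xGL_param_inj c tc ac _ hnp _ _ h4
  rw [mul_one, mul_one] at h5
  constructor
  · intro u
    rw [h1 u, ← h5, neg_mul]
  · intro u
    rw [h2 u, ← h5]
    congr 1
    rw [inv_neg, inv_pow, inv_inv, neg_mul]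

/-- The pair of opposite root subgroups of the `i`-th fundamental root. -/
def X1 (D : ChevalleyDatum) (X : ℕ → F → Γ) (i : ℕ) : Bool → F → Γ
  | true, t => X (D.simple i) t
  | false, t => X (D.neg (D.simple i)) t

/-- `n_p(s) = X_{-p}(-s⁻¹) X_p(s) X_{-p}(-s⁻¹)`. -/
theorem nB_eq_neg (c : DCert D Ns) (tc : TCert D) (ac : ACert D wl ws sc) (hA : CertA D) {bs : List BData}
    (hB : CertB D bs) (hX : StGrp D X) {π : Γ →* GL D.Idx F} (hπ : IsLift c X π) (ec : EtaCert D Ns) (i : ℕ)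
    (hi : i < D.rank) (s : F) (hs : s ≠ 0) :
    nB D X i s = X (D.neg (D.simple i)) (-s⁻¹) * X (D.simple i) s * X (D.neg (D.simple i)) (-s⁻¹) := by
  obtain ⟨h1, h2⟩ := nB_conj c tc ac hA hB hX hπ ec i hi s hs
  have e1 : nB D X i s = nB D X i s * nB D X i s * (nB D X i s)⁻¹ := by group
  have e2 : nB D X i s * (X (D.simple i) s * X (D.neg (D.simple i)) (-s⁻¹) * X (D.simple i) s) * (nB D X i s)⁻¹ =
      (nB D X i s * X (D.simple i) s * (nB D X i s)⁻¹) *
        (nB D X i s * X (D.neg (D.simple i)) (-s⁻¹) * (nB D X i s)⁻¹) *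
        (nB D X i s * X (D.simple i) s * (nB D X i s)⁻¹) := by group
  have e3 : -(s⁻¹ ^ 2 * s) = -s⁻¹ := by field_simp
  have e4 : -(s ^ 2 * -s⁻¹) = s := by field_simp
  calc nB D X i s = nB D X i s * nB D X i s * (nB D X i s)⁻¹ := e1
    _ = nB D X i s * (X (D.simple i) s * X (D.neg (D.simple i)) (-s⁻¹) * X (D.simple i) s) * (nB D X i s)⁻¹ := by
      rw [← nB_eq]
    _ = _ := by rw [e2, h1, h2, e3, e4]

theorem rel_X1 (c : DCert D Ns) (tc : TCert D) (ac : ACert D wl ws sc) (hA : CertA D) {bs : List BData}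
    (hB : CertB D bs) (hX : StGrp D X) {π : Γ →* GL D.Idx F} (hπ : IsLift c X π) (ec : EtaCert D Ns) (i : ℕ)
    (hi : i < D.rank) : Rel (X1 D X i) where
  add := by
    have hp := (c.ncert i hi).simple_lt
    have hnp := DCert.neg_lt c _ hp
    intro b t u
    cases b
    · exact hX.add _ hnp t u
    · exact hX.add _ hp t u
  conj := by
    intro b t u ht
    cases b
    · show (X (D.neg (D.simple i)) t * X (D.simple i) (-t⁻¹) * X (D.neg (D.simple i)) t) *
        X (D.neg (D.simple i)) u * (X (D.neg (D.simple i)) t * X (D.simple i) (-t⁻¹) * X (D.neg (D.simple i)) t)⁻¹ =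
          X (D.simple i) (-(t⁻¹ ^ 2 * u))
      have hs : -t⁻¹ ≠ 0 := neg_ne_zero.mpr (inv_ne_zero ht)
      have e := nB_eq_neg c tc ac hA hB hX hπ ec i hi (-t⁻¹) hs
      rw [inv_neg, inv_inv, neg_neg] at e
      rw [← e, (nB_conj c tc ac hA hB hX hπ ec i hi (-t⁻¹) hs).2 u, neg_sq]
    · show (X (D.simple i) t * X (D.neg (D.simple i)) (-t⁻¹) * X (D.simple i) t) *
        X (D.simple i) u * (X (D.simple i) t * X (D.neg (D.simple i)) (-t⁻¹) * X (D.simple i) t)⁻¹ =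
          X (D.neg (D.simple i)) (-(t⁻¹ ^ 2 * u))
      rw [← nB_eq]
      exact (nB_conj c tc ac hA hB hX hπ ec i hi t ht).1 u

theorem X1_mem_L1 (X : ℕ → F → Γ) (i : ℕ) (b : Bool) (t : F) : X1 D X i b t ∈ L1 D X i := by
  cases b
  · exact Subgroup.subset_closure ⟨t, Or.inr rfl⟩
  · exact Subgroup.subset_closure ⟨t, Or.inl rfl⟩

/-- The pair of opposite root subgroups inside the rank one subgroup. -/
def X1' (D : ChevalleyDatum) (X : ℕ → F → Γ) (i : ℕ) (b : Bool) (t : F) : ↥(L1 D X i) :=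
  ⟨X1 D X i b t, X1_mem_L1 X i b t⟩

theorem rel_X1' {i : ℕ} (h : Rel (X1 D X i)) : Rel (X1' D X i) where
  add := fun b t u => Subtype.ext (h.add b t u)
  conj := fun b t u ht => Subtype.ext (h.conj b t u ht)

theorem gen_X1' (X : ℕ → F → Γ) (i : ℕ) : Helper5_SteinbergA.Gen (X1' D X i) := by
  unfold Helper5_SteinbergA.Gen
  have h1 : (Set.range fun p : Bool × F => X1' D X i p.1 p.2) =
      ((↑) : ↥(L1 D X i) → Γ) ⁻¹' {y | ∃ t : F, y = X (D.simple i) t ∨ y = X (D.neg (D.simple i)) t} := by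
    ext y
    constructor
    · rintro ⟨⟨b, t⟩, rfl⟩
      cases b
      · exact ⟨t, Or.inr rfl⟩
      · exact ⟨t, Or.inl rfl⟩
    · rintro ⟨t, h | h⟩
      · exact ⟨(true, t), Subtype.ext h.symm⟩
      · exact ⟨(false, t), Subtype.ext h.symm⟩
  rw [h1]
  exact Subgroup.closure_closure_coe_preimage

theorem coe_hh_X1' (c : DCert D Ns) (hX : StGrp D X) (i : ℕ) (hi : i < D.rank) (t : F) :
    ((hh (X1' D X i) t : ↥(L1 D X i)) : Γ) = hBar D X i t := by
  rw [hB_eq, ← nB_inv c hX i hi 1, nB_eq, nB_eq]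
  rfl

/-- Over a finite field, (R3) holds for the fundamental roots. -/
theorem r3_simple [Finite F] (c : DCert D Ns) (tc : TCert D) (ac : ACert D wl ws sc) (hA : CertA D)
    {bs : List BData} (hB : CertB D bs) (hX : StGrp D X) {π : Γ →* GL D.Idx F} (hπ : IsLift c X π)
    (ec : EtaCert D Ns) (i : ℕ) (hi : i < D.rank) (a b : F) (ha : a ≠ 0) (hb : b ≠ 0) :
    hBar D X i a * hBar D X i b = hBar D X i (a * b) := by
  have hrel := rel_X1' (rel_X1 c tc ac hA hB hX hπ ec i hi)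
  have := hrel.hh_mul (gen_X1' X i) ha hb
  rw [← coe_hh_X1' c hX i hi, ← coe_hh_X1' c hX i hi, ← coe_hh_X1' c hX i hi, this]
  rfl

/-! ### Transport to all roots -/

/-- The element `n_r(a)` of `Γ`. -/
def nR (D : ChevalleyDatum) (X : ℕ → F → Γ) (r : ℕ) (a : F) : Γ := wordP X (D.nWord r a)

/-- The element `h_r(a)` of `Γ`. -/
def hR (D : ChevalleyDatum) (X : ℕ → F → Γ) (r : ℕ) (a : F) : Γ := wordP X (D.hWord r a)

theorem nR_eq (X : ℕ → F → Γ) (r : ℕ) (a : F) : nR D X r a = X r a * X (D.neg r) (-a⁻¹) * X r a := by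
  unfold nR ChevalleyDatum.nWord wordP
  simp [mul_assoc]

theorem hR_eq (X : ℕ → F → Γ) (r : ℕ) (a : F) : hR D X r a = nR D X r a * nR D X r (-1) := by
  unfold hR nR ChevalleyDatum.hWord
  rw [wordP_append]

theorem nR_inv (c : DCert D Ns) (hX : StGrp D X) (r : ℕ) (hr : r < D.nroots) (a : F) :
    (nR D X r a)⁻¹ = nR D X r (-a) := by
  have hnr := DCert.neg_lt c _ hr
  rw [nR_eq, nR_eq, mul_inv_rev, mul_inv_rev, hX.inv _ hr, hX.inv _ hnr, neg_neg, inv_neg, neg_neg, mul_assoc]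

theorem hR_eq' (c : DCert D Ns) (hX : StGrp D X) (r : ℕ) (hr : r < D.nroots) (a : F) :
    hR D X r a = nR D X r a * (nR D X r 1)⁻¹ := by
  rw [hR_eq, nR_inv c hX r hr]

theorem hR_one (c : DCert D Ns) (hX : StGrp D X) (r : ℕ) (hr : r < D.nroots) : hR D X r 1 = 1 := by
  rw [hR_eq' c hX r hr, mul_inv_cancel]

theorem conj_nR {y : Γ} {σ : ℕ → ℕ} (hy : MonoAct D X y σ) (r : ℕ) (hr : r < D.nroots) :
    ∃ e : F, e ≠ 0 ∧ ∀ b : F, y * nR D X r b * y⁻¹ = nR D X (σ r) (e * b) := by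
  obtain ⟨-, -, e, he, h1, h2⟩ := hy r hr
  refine ⟨e, he, fun b => ?_⟩
  rw [nR_eq, nR_eq]
  have : y * (X r b * X (D.neg r) (-b⁻¹) * X r b) * y⁻¹ =
      (y * X r b * y⁻¹) * (y * X (D.neg r) (-b⁻¹) * y⁻¹) * (y * X r b * y⁻¹) := by
    group
  rw [this, h1, h2]
  congr 3
  rw [mul_inv, mul_neg]

/-- (R3) at the root `r`. -/
def R3At (D : ChevalleyDatum) (X : ℕ → F → Γ) (r : ℕ) : Prop :=
  ∀ a b : F, a ≠ 0 → b ≠ 0 → hR D X r a * hR D X r b = hR D X r (a * b)

/-- An element acting monomially on the root elements transports (R3). -/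
theorem R3At.transport (c : DCert D Ns) (hX : StGrp D X) {y : Γ} {σ : ℕ → ℕ} (hy : MonoAct D X y σ) {r : ℕ}
    (hr : r < D.nroots) (h : R3At D X r) : R3At D X (σ r) := by
  have hσr : σ r < D.nroots := (hy r hr).1
  obtain ⟨e, he, hconj⟩ := conj_nR hy r hr
  -- the conjugate of `h_r`
  have hψmul : ∀ a b : F, a ≠ 0 → b ≠ 0 →
      (y * hR D X r a * y⁻¹) * (y * hR D X r b * y⁻¹) = y * hR D X r (a * b) * y⁻¹ := by
    intro a b ha hb
    rw [← h a b ha hb]
    group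
  have hψ1 : y * hR D X r 1 * y⁻¹ = 1 := by
    rw [hR_one c hX r hr]
    group
  have key : ∀ t : F, y * hR D X r t * y⁻¹ = hR D X (σ r) (e * t) * (hR D X (σ r) e)⁻¹ := by
    intro t
    rw [hR_eq' c hX r hr, hR_eq' c hX _ hσr, hR_eq' c hX _ hσr]
    have e1 : y * (nR D X r t * (nR D X r 1)⁻¹) * y⁻¹ = (y * nR D X r t * y⁻¹) * (y * nR D X r 1 * y⁻¹)⁻¹ := by
      group
    rw [e1, hconj, hconj, mul_one]
    group
  have he1 : e⁻¹ ≠ 0 := inv_ne_zero he
  -- `h_{σ r}(e) = ψ(e)`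
  have h2 : hR D X (σ r) e = y * hR D X r e * y⁻¹ := by
    have h3 := key e⁻¹
    rw [mul_inv_cancel₀ he, hR_one c hX _ hσr, one_mul] at h3
    have h4 := hψmul e⁻¹ e he1 he
    rw [inv_mul_cancel₀ he, hψ1, h3] at h4
    exact (inv_mul_eq_one.mp h4)
  -- `h_{σ r} = ψ` on the non-zero elements
  have h5 : ∀ s : F, s ≠ 0 → hR D X (σ r) s = y * hR D X r s * y⁻¹ := by
    intro s hs
    have h6 := key (e⁻¹ * s)
    rw [← mul_assoc, mul_inv_cancel₀ he, one_mul] at h6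
    have h7 : hR D X (σ r) s = (y * hR D X r (e⁻¹ * s) * y⁻¹) * hR D X (σ r) e := by
      rw [h6]
      group
    rw [h7, h2, hψmul _ _ (mul_ne_zero he1 hs) he]
    congr 3
    field_simp
  intro a b ha hb
  rw [h5 a ha, h5 b hb, h5 _ (mul_ne_zero ha hb), hψmul a b ha hb]

/-- Over a finite field, (R3) holds for all roots. -/
theorem r3_all [Finite F] (c : DCert D Ns) (tc : TCert D) (ac : ACert D wl ws sc) (hA : CertA D)
    {bs : List BData} (hB : CertB D bs) (hX : StGrp D X) {π : Γ →* GL D.Idx F} (hπ : IsLift c X π)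
    (ec : EtaCert D Ns) : ∀ r < D.nroots, R3At D X r := by
  apply c.root_induction
  · intro i hi a b ha hb
    exact r3_simple c tc ac hA hB hX hπ ec i hi a b ha hb
  · intro i hi s hs h
    exact h.transport c hX (monoAct_nB c tc ac hA hB hX hπ i hi 1 one_ne_zero) hs

end Cfsg.Agent.Lib.Helper81_StR3
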