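/-
Universal central extension (helper81), part B: the elements `h_r(a)` of a group with (R1), (R2) mapping to the
Chevalley group act on the root elements by the scalars `a ^ ⟨s, r⟩`.
-/
import Mathlib
import Cfsg.Agent.Lib.Helper81_StR3
import Cfsg.Agent.Lib.Helper81_UceA
import Cfsg.Agent.Lib.Helper18_ChevAutG

set_option autoImplicit false
set_option linter.unusedSectionVars false
set_option linter.unusedVariables false

namespace Cfsg.Agent.Lib.Helper81_UceB

open Cfsg Cfsg.Lie Cfsg.Agent.Lib.Helper18_ChevFast Cfsg.Agent.Lib.Helper18_ChevEngine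
  Cfsg.Agent.Lib.Helper18_ChevR1 Cfsg.Agent.Lib.Helper18_ChevN Cfsg.Agent.Lib.Helper18_ChevR4
  Cfsg.Agent.Lib.Helper18_ChevSimple Cfsg.Agent.Lib.Helper18_ChevSimple2 Cfsg.Agent.Lib.Helper18_ChevFacts
  Cfsg.Agent.Lib.Helper18_ChevWeyl Cfsg.Agent.Lib.Helper18_ChevDiag Cfsg.Agent.Lib.Helper18_ChevCar
  Cfsg.Agent.Lib.Helper18_ChevTorus Cfsg.Agent.Lib.Helper18_ChevGL Cfsg.Agent.Lib.Helper18_ChevComm
  Cfsg.Agent.Lib.Helper18_ChevComm2 Cfsg.Agent.Lib.Helper18_MatTri Cfsg.Agent.Lib.Helper18_ChevTri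
  Cfsg.Agent.Lib.Helper18_ChevBorel Cfsg.Agent.Lib.Helper18_ChevAdd Cfsg.Agent.Lib.Helper18_ChevUni
  Cfsg.Agent.Lib.Helper18_ChevBN Cfsg.Agent.Lib.Helper18_ChevMono Cfsg.Agent.Lib.Helper18_ChevBNPair
  Cfsg.Agent.Lib.Helper18_ChevLevi Cfsg.Agent.Lib.Helper18_ChevSimp Cfsg.Agent.Lib.Helper18_ChevBruhat
  Cfsg.Agent.Lib.Helper18_ChevCent Cfsg.Agent.Lib.Helper18_ChevAutG
  Cfsg.Agent.Lib.Helper81_StUniq Cfsg.Agent.Lib.Helper81_StAbs Cfsg.Agent.Lib.Helper81_StL37
  Cfsg.Agent.Lib.Helper81_StBruhat Cfsg.Agent.Lib.Helper81_StTorus Cfsg.Agent.Lib.Helper81_StEta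
  Cfsg.Agent.Lib.Helper81_StR3

variable {D : ChevalleyDatum} {Ns : List NData} {F : Type*} [Field F] {Γ : Type*} [Group Γ]
variable {wl : List ℤ} {ws : List (List ℤ)} {sc : ℤ} {X : ℕ → F → Γ}

/-! ### Toral action -/

/-- `k` acts on the root elements by the scalars `χ`. -/
def TorAct (D : ChevalleyDatum) (X : ℕ → F → Γ) (k : Γ) (χ : ℕ → F) : Prop :=
  ∀ r < D.nroots, χ r ≠ 0 ∧ ∀ t : F, k * X r t * k⁻¹ = X r (χ r * t)

theorem TorAct.mul {k k' : Γ} {χ χ' : ℕ → F} (h : TorAct D X k χ) (h' : TorAct D X k' χ') :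
    TorAct D X (k * k') (fun r => χ r * χ' r) := by
  intro r hr
  refine ⟨mul_ne_zero (h r hr).1 (h' r hr).1, fun t => ?_⟩
  have : k * k' * X r t * (k * k')⁻¹ = k * (k' * X r t * k'⁻¹) * k⁻¹ := by group
  rw [this, (h' r hr).2, (h r hr).2, mul_assoc]

theorem TorAct.inv {k : Γ} {χ : ℕ → F} (h : TorAct D X k χ) : TorAct D X k⁻¹ (fun r => (χ r)⁻¹) := by
  intro r hr
  refine ⟨inv_ne_zero (h r hr).1, fun t => ?_⟩
  have := (h r hr).2 ((χ r)⁻¹ * t)
  rw [← mul_assoc, mul_inv_cancel₀ (h r hr).1, one_mul] at this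
  rw [← this]
  group

theorem TorAct.congr {k : Γ} {χ χ' : ℕ → F} (h : TorAct D X k χ) (hχ : ∀ r < D.nroots, χ' r = χ r) :
    TorAct D X k χ' := by
  intro r hr
  rw [hχ r hr]
  exact h r hr

/-- An element acting on the root elements by scalars, whose image is a diagonal matrix, acts by the character of
that matrix. -/
theorem torAct_of_map (c : DCert D Ns) (tc : TCert D) (ac : ACert D wl ws sc) {π : Γ →* GL D.Idx F}
    (hπ : IsLift c X π) {k : Γ} (hk : MonoAct D X k id) {χ : ℕ → F} (hχ : IsChar D χ)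
    (hmap : ((π k : GL D.Idx F) : Matrix D.Idx D.Idx F) = diagMat D χ) : TorAct D X k χ := by
  intro r hr
  refine ⟨hχ.ne_zero r hr, fun t => ?_⟩
  obtain ⟨-, -, e, he, h1, -⟩ := hk r hr
  have h3 := congrArg π (h1 1)
  rw [map_mul, map_mul, map_inv, hπ _ hr, id, hπ _ hr, mul_inv_eq_iff_eq_mul] at h3
  have h4 := congrArg (fun g : GL D.Idx F => (g : Matrix D.Idx D.Idx F)) h3
  simp only [Units.val_mul, xGL_coe] at h4
  rw [hmap, diag_conj hχ r hr] at h4
  have hdet : IsUnit (diagMat D χ) := by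
    rw [← hmap]
    exact (π k).isUnit
  have h5 : D.x F r (χ r * 1) = D.x F r (e * 1) := hdet.mul_left_injective h4
  have h6 := xGL_param_inj c tc ac r hr _ _ h5
  rw [mul_one, mul_one] at h6
  rw [h1 t, id, h6]

/-! ### The elements `h_r(a)` -/

theorem cartanR_eq_grRoot (r s : ℕ) : cartanR D r s = grRoot D (corL D r) s := by
  unfold cartanR grRoot corL
  apply Finset.sum_congr rfl
  intro j hj
  rw [Finset.mem_range] at hj
  congr 1
  rw [List.getD_eq_getElem?_getD, List.getElem?_map, List.getElem?_range hj]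
  rfl

theorem isChar_cartanR (c : DCert D Ns) (tc : TCert D) (r : ℕ) (a : F) (ha : a ≠ 0) :
    IsChar D (fun s => a ^ cartanR D r s) := by
  have := isChar_zpow_grading (isGrading_w c tc (corL D r)) a ha
  have e : (fun s => a ^ cartanR D r s) = fun s => a ^ grRoot D (corL D r) s := by
    funext s
    rw [cartanR_eq_grRoot]
  rw [e]
  exact this

/-- Conjugating an element of `IdAct` by an element acting monomially. -/
theorem idAct_conj (c : DCert D Ns) {y : Γ} {σ σ' : ℕ → ℕ} (hy : MonoAct D X y σ) (hy' : MonoAct D X y⁻¹ σ')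
    (hσ : ∀ r < D.nroots, σ (σ' r) = r) {h : Γ} (hh : h ∈ IdAct D X) : y * h * y⁻¹ ∈ IdAct D X := by
  have hneg : ∀ r < D.nroots, D.neg r < D.nroots := fun r hr => DCert.neg_lt c r hr
  constructor
  · exact ((hy.mul hh.1).mul hy').congr hneg (fun r hr => (hσ r hr).symm)
  · have : (y * h * y⁻¹)⁻¹ = y * h⁻¹ * y⁻¹ := by group
    rw [this]
    exact ((hy.mul hh.2).mul hy').congr hneg (fun r hr => (hσ r hr).symm)

/-- The elements `h_r(a)` act on the root elements by scalars. -/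
theorem hR_mem_IdAct (c : DCert D Ns) (tc : TCert D) (ac : ACert D wl ws sc) (hA : CertA D) {bs : List BData}
    (hB : CertB D bs) (hX : StGrp D X) {π : Γ →* GL D.Idx F} (hπ : IsLift c X π) :
    ∀ r < D.nroots, ∀ a : F, a ≠ 0 → hR D X r a ∈ IdAct D X := by
  apply c.root_induction
  · intro i hi a ha
    exact HB_le_IdAct c tc ac hA hB hX hπ (hB_mem_HB (X := X) hi ha)
  · intro i hi s hs h a ha
    have hy := monoAct_nB c tc ac hA hB hX hπ i hi 1 one_ne_zero
    have hy' : MonoAct D X (nB D X i 1)⁻¹ (D.reflectRoot i) := by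
      rw [nB_inv c hX i hi]
      exact monoAct_nB c tc ac hA hB hX hπ i hi (-1) (by simp)
    set y := nB D X i 1 with hydef
    set σ := D.reflectRoot i with hσdef
    have hσs : σ s < D.nroots := c.reflect_lt i hi s hs
    obtain ⟨e, he, hconj⟩ := conj_nR hy s hs
    have key : ∀ t : F, y * hR D X s t * y⁻¹ = hR D X (σ s) (e * t) * (hR D X (σ s) e)⁻¹ := by
      intro t
      rw [hR_eq' c hX s hs, hR_eq' c hX _ hσs, hR_eq' c hX _ hσs]
      have e1 : y * (nR D X s t * (nR D X s 1)⁻¹) * y⁻¹ = (y * nR D X s t * y⁻¹) * (y * nR D X s 1 * y⁻¹)⁻¹ := by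
        group
      rw [e1, hconj, hconj, mul_one]
      group
    have hcj : ∀ t : F, t ≠ 0 → y * hR D X s t * y⁻¹ ∈ IdAct D X := fun t ht =>
      idAct_conj c hy hy' (fun r hr => c.reflect_reflect i hi r hr) (h t ht)
    have he1 : e⁻¹ ≠ 0 := inv_ne_zero he
    have h2 : hR D X (σ s) e ∈ IdAct D X := by
      have h3 := key e⁻¹
      rw [mul_inv_cancel₀ he, hR_one c hX _ hσs, one_mul] at h3
      have := Subgroup.inv_mem _ (hcj e⁻¹ he1)
      rwa [h3, inv_inv] at this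
    have h4 := key (e⁻¹ * a)
    rw [← mul_assoc, mul_inv_cancel₀ he, one_mul] at h4
    have h5 : hR D X (σ s) a = (y * hR D X s (e⁻¹ * a) * y⁻¹) * hR D X (σ s) e := by
      rw [h4]
      group
    rw [h5]
    exact Subgroup.mul_mem _ (hcj _ (mul_ne_zero he1 ha)) h2

/-- `h_r(a) X_s(t) h_r(a)⁻¹ = X_s(a ^ ⟨s, r⟩ t)`. -/
theorem torAct_hR (c : DCert D Ns) (tc : TCert D) (ac : ACert D wl ws sc) (hA : CertA D) {bs : List BData}
    (hB : CertB D bs) (hX : StGrp D X) {π : Γ →* GL D.Idx F} (hπ : IsLift c X π) (r : ℕ) (hr : r < D.nroots)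
    (a : F) (ha : a ≠ 0) : TorAct D X (hR D X r a) (fun s => a ^ cartanR D r s) := by
  apply torAct_of_map c tc ac hπ (hR_mem_IdAct c tc ac hA hB hX hπ r hr a ha).1 (isChar_cartanR c tc r a ha)
  have : π (hR D X r a) = hGL c r a := by
    unfold hR hGL
    apply map_wordP_lift c hπ
    intro p hp
    have hnr := DCert.neg_lt c _ hr
    unfold ChevalleyDatum.hWord ChevalleyDatum.nWord at hp
    simp only [List.cons_append, List.nil_append, List.mem_cons, List.not_mem_nil, or_false] at hp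
    rcases hp with rfl | rfl | rfl | rfl | rfl | rfl
    · exact hr
    · exact hnr
    · exact hr
    · exact hr
    · exact hnr
    · exact hr
  rw [this, hGL_coe, hMat_all c tc r hr a ha]

end Cfsg.Agent.Lib.Helper81_UceB
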