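/-
Universal central extension (helper81), part C: canonical lifts of the root elements to a central extension of a
group with (R1), (R2); they are additive and equivariant for the toral elements.
-/
import Mathlib
import Cfsg.Agent.Lib.Helper81_UceB

set_option autoImplicit false
set_option linter.unusedSectionVars false
set_option linter.unusedVariables false

namespace Cfsg.Agent.Lib.Helper81_UceC

open Cfsg Cfsg.Lie Cfsg.Agent.Lib.Helper18_ChevFast Cfsg.Agent.Lib.Helper18_ChevEngine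
  Cfsg.Agent.Lib.Helper18_ChevR1 Cfsg.Agent.Lib.Helper18_ChevN Cfsg.Agent.Lib.Helper18_ChevR4
  Cfsg.Agent.Lib.Helper18_ChevSimple Cfsg.Agent.Lib.Helper18_ChevSimple2 Cfsg.Agent.Lib.Helper18_ChevFacts
  Cfsg.Agent.Lib.Helper18_ChevWeyl Cfsg.Agent.Lib.Helper18_ChevDiag Cfsg.Agent.Lib.Helper18_ChevCar
  Cfsg.Agent.Lib.Helper18_ChevTorus Cfsg.Agent.Lib.Helper18_ChevGL Cfsg.Agent.Lib.Helper18_ChevComm
  Cfsg.Agent.Lib.Helper18_ChevComm2 Cfsg.Agent.Lib.Helper18_MatTri Cfsg.Agent.Lib.Helper18_ChevTri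
  Cfsg.Agent.Lib.Helper18_ChevBorel Cfsg.Agent.Lib.Helper18_ChevAdd Cfsg.Agent.Lib.Helper18_ChevUni
  Cfsg.Agent.Lib.Helper18_ChevBN Cfsg.Agent.Lib.Helper18_ChevMono Cfsg.Agent.Lib.Helper18_ChevBNPair
  Cfsg.Agent.Lib.Helper18_ChevLevi Cfsg.Agent.Lib.Helper18_ChevSimp Cfsg.Agent.Lib.Helper18_ChevBruhat
  Cfsg.Agent.Lib.Helper18_ChevCent Cfsg.Agent.Lib.Helper18_ChevAutG
  Cfsg.Agent.Lib.Helper81_StUniq Cfsg.Agent.Lib.Helper81_StAbs Cfsg.Agent.Lib.Helper81_StL37
  Cfsg.Agent.Lib.Helper81_StBruhat Cfsg.Agent.Lib.Helper81_StTorus Cfsg.Agent.Lib.Helper81_StEta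
  Cfsg.Agent.Lib.Helper81_StR3 Cfsg.Agent.Lib.Helper81_UceA Cfsg.Agent.Lib.Helper81_UceB

variable {D : ChevalleyDatum} {Ns : List NData} {F : Type*} [Field F] {Γ : Type*} [Group Γ]
variable {wl : List ℤ} {ws : List (List ℤ)} {sc : ℤ} {bs : List BData} {X : ℕ → F → Γ} {π : Γ →* GL D.Idx F}
variable {E : Type*} [Group E] {ψ : E →* Γ}

/-- The hypotheses on a group with (R1), (R2) that maps to the Chevalley group. -/
structure Ctx (D : ChevalleyDatum) (Ns : List NData) (wl : List ℤ) (ws : List (List ℤ)) (sc : ℤ)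
    (bs : List BData) (X : ℕ → F → Γ) (π : Γ →* GL D.Idx F) : Prop where
  c : DCert D Ns
  tc : TCert D
  ac : ACert D wl ws sc
  hA : CertA D
  hB : CertB D bs
  hX : StGrp D X
  hπ : IsLift c X π
  gen : Gen D X
  car : ∀ r < D.nroots, cartanR D r r = 2

theorem Ctx.torAct_hR (C : Ctx D Ns wl ws sc bs X π) (r : ℕ) (hr : r < D.nroots) (a : F) (ha : a ≠ 0) :
    TorAct D X (hR D X r a) (fun s => a ^ cartanR D r s) :=
  Cfsg.Agent.Lib.Helper81_UceB.torAct_hR C.c C.tc C.ac C.hA C.hB C.hX C.hπ r hr a ha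

/-- An element commuting with the root elements is central. -/
theorem Ctx.mem_center (C : Ctx D Ns wl ws sc bs X π) {z : Γ}
    (hz : ∀ r < D.nroots, ∀ t : F, z * X r t = X r t * z) : z ∈ Subgroup.center Γ := by
  have h1 : Subgroup.closure {y | ∃ r < D.nroots, ∃ t : F, y = X r t} ≤ Subgroup.centralizer {z} := by
    rw [Subgroup.closure_le]
    rintro y ⟨r, hr, t, rfl⟩
    rw [SetLike.mem_coe, Subgroup.mem_centralizer_iff]
    intro w hw
    rw [Set.mem_singleton_iff] at hw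
    rw [hw]
    exact hz r hr t
  rw [C.gen] at h1
  rw [Subgroup.mem_center_iff]
  intro g
  have := h1 (Subgroup.mem_top g)
  rw [Subgroup.mem_centralizer_iff] at this
  exact (this z rfl).symm

/-! ### Elements whose lifts commute with the lifts of the root elements of a root -/

/-- The lifts of `g` commute with the lifts of the `X r t`. -/
def LiftComm (ψ : E →* Γ) (X : ℕ → F → Γ) (g : Γ) (r : ℕ) : Prop :=
  ∀ (a x : E) (t : F), ψ a = g → ψ x = X r t → a * x = x * a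

theorem liftComm_one (hψ : CExt ψ) (r : ℕ) : LiftComm ψ X (1 : Γ) r := by
  intro a x t ha hx
  exact hψ.comm_of_ker ha x

theorem LiftComm.mul (hψ : CExt ψ) {g g' : Γ} {r : ℕ} (h : LiftComm ψ X g r) (h' : LiftComm ψ X g' r) :
    LiftComm ψ X (g * g') r := by
  intro a x t ha hx
  obtain ⟨b, hb⟩ := hψ.surj g
  obtain ⟨b', hb'⟩ := hψ.surj g'
  obtain ⟨z, hz, rfl⟩ := hψ.exists_mul_of_eq (a := b * b') (a' := a) (by rw [map_mul, hb, hb', ha])
  have h1 := h b x t hb hx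
  have h2 := h' b' x t hb' hx
  have h3 := hψ.comm_of_ker hz x
  calc b * b' * z * x = b * b' * (z * x) := by group
    _ = b * b' * (x * z) := by rw [h3]
    _ = b * (b' * x) * z := by group
    _ = b * (x * b') * z := by rw [h2]
    _ = (b * x) * b' * z := by group
    _ = (x * b) * b' * z := by rw [h1]
    _ = x * (b * b' * z) := by group

theorem LiftComm.inv (hψ : CExt ψ) {g : Γ} {r : ℕ} (h : LiftComm ψ X g r) : LiftComm ψ X g⁻¹ r := by
  intro a x t ha hx
  have h1 := h a⁻¹ x t (by rw [map_inv, ha, inv_inv]) hx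
  calc a * x = a * (x * a⁻¹) * a := by group
    _ = a * (a⁻¹ * x) * a := by rw [h1]
    _ = x * a := by group

/-- The elements with `LiftComm` form a subgroup. -/
def liftCommSub (hψ : CExt ψ) (X : ℕ → F → Γ) (r : ℕ) : Subgroup Γ where
  carrier := {g | LiftComm ψ X g r}
  one_mem' := liftComm_one hψ r
  mul_mem' := fun h h' => h.mul hψ h'
  inv_mem' := fun h => h.inv hψ

/-- If `g` commutes with the `X r s` and is fixed by a toral element moving `X r`, then the lifts of `g` commute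
with the lifts of the `X r s`. -/
theorem liftComm_of_tor (hψ : CExt ψ) (hX : StGrp D X) {g : Γ} {r : ℕ} (hr : r < D.nroots)
    (hg : ∀ s : F, g * X r s = X r s * g) {k : Γ} {χ : ℕ → F} (hk : TorAct D X k χ) (hχ : χ r ≠ 1)
    (hkg : k * g * k⁻¹ = g) : LiftComm ψ X g r := by
  intro a x t ha hx
  set L : F → E := fun s => Function.surjInv hψ.surj (X r s) with hLdef
  have hL : ∀ s, ψ (L s) = X r s := fun s => Function.surjInv_eq hψ.surj _
  set d : F → E := fun s => a * L s * a⁻¹ * (L s)⁻¹ with hddef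
  have hker : ∀ s, ψ (d s) = 1 := by
    intro s
    simp only [hddef, map_mul, map_inv, ha, hL]
    rw [hg s]
    group
  have hcen : ∀ s e, d s * e = e * d s := fun s e => hψ.comm_of_ker (hker s) e
  have hadd : ∀ s s', d (s + s') = d s * d s' := by
    intro s s'
    have e1 : a * L (s + s') * a⁻¹ * (L (s + s'))⁻¹ = a * (L s * L s') * a⁻¹ * (L s * L s')⁻¹ :=
      hψ.commutator_eq rfl (by rw [map_mul, hL, hL, hL, hX.add r hr])
    have e2 : a * (L s * L s') * a⁻¹ * (L s * L s')⁻¹ = d s * (L s * d s' * (L s)⁻¹) := by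
      simp only [hddef]
      group
    have e3 : L s * d s' * (L s)⁻¹ = d s' := by
      rw [← hcen s' (L s)]
      group
    show a * L (s + s') * a⁻¹ * (L (s + s'))⁻¹ = d s * d s'
    rw [e1, e2, e3]
  have hinv : ∀ s, d (χ r * s) = d s := by
    intro s
    obtain ⟨kh, hkh⟩ := hψ.surj k
    have e1 : kh * d s * kh⁻¹ = d s := by
      rw [← hcen s kh]
      group
    have e2 : kh * d s * kh⁻¹ =
        (kh * a * kh⁻¹) * (kh * L s * kh⁻¹) * (kh * a * kh⁻¹)⁻¹ * (kh * L s * kh⁻¹)⁻¹ := by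
      simp only [hddef]
      group
    have e3 : (kh * a * kh⁻¹) * (kh * L s * kh⁻¹) * (kh * a * kh⁻¹)⁻¹ * (kh * L s * kh⁻¹)⁻¹ =
        a * L (χ r * s) * a⁻¹ * (L (χ r * s))⁻¹ := by
      apply hψ.commutator_eq
      · rw [map_mul, map_mul, map_inv, hkh, ha, hkg]
      · rw [map_mul, map_mul, map_inv, hkh, hL, hL, (hk r hr).2]
    rw [← e1, e2, e3]
  have h1 := eq_one_of_add_of_scale d hadd hχ hinv t
  have h2 : a * x * a⁻¹ * x⁻¹ = d t := hψ.commutator_eq rfl (by rw [hx, hL])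
  rw [h1] at h2
  calc a * x = (a * x * a⁻¹ * x⁻¹) * x * a := by group
    _ = x * a := by rw [h2, one_mul]

/-- Over a field with more than four elements: if the toral elements induce all scalars on `X r`, the lifts of the
`X r t` commute. -/
theorem liftComm_self_of_tor (hψ : CExt ψ) (hX : StGrp D X) (hK : ∃ s : Finset F, 4 < s.card) {r : ℕ}
    (hr : r < D.nroots) (htor : ∀ ρ : F, ρ ≠ 0 → ∃ (k : Γ) (χ : ℕ → F), TorAct D X k χ ∧ χ r = ρ) (t : F) :
    LiftComm ψ X (X r t) r := by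
  set L : F → E := fun s => Function.surjInv hψ.surj (X r s) with hLdef
  have hL : ∀ s, ψ (L s) = X r s := fun s => Function.surjInv_eq hψ.surj _
  set f : F → F → E := fun t u => L t * L u * (L t)⁻¹ * (L u)⁻¹ with hfdef
  have hcomm : ∀ t u : F, X r t * X r u = X r u * X r t := by
    intro t u
    rw [hX.add r hr, hX.add r hr, add_comm]
  have hker : ∀ t u, ψ (f t u) = 1 := by
    intro t u
    simp only [hfdef, map_mul, map_inv, hL]
    rw [hcomm t u]
    group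
  have hcen : ∀ t u e, f t u * e = e * f t u := fun t u e => hψ.comm_of_ker (hker t u) e
  have hfl : ∀ t t' u, f (t + t') u = f t u * f t' u := by
    intro t t' u
    have e1 : L (t + t') * L u * (L (t + t'))⁻¹ * (L u)⁻¹ = (L t * L t') * L u * (L t * L t')⁻¹ * (L u)⁻¹ :=
      hψ.commutator_eq (by rw [map_mul, hL, hL, hL, hX.add r hr]) rfl
    have e2 : (L t * L t') * L u * (L t * L t')⁻¹ * (L u)⁻¹ = L t * f t' u * (L t)⁻¹ * f t u := by
      simp only [hfdef]
      group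
    have e3 : L t * f t' u * (L t)⁻¹ = f t' u := by
      rw [← hcen t' u (L t)]
      group
    show L (t + t') * L u * (L (t + t'))⁻¹ * (L u)⁻¹ = f t u * f t' u
    rw [e1, e2, e3, hcen]
  have hfr : ∀ t u u', f t (u + u') = f t u * f t u' := by
    intro t u u'
    have e1 : L t * L (u + u') * (L t)⁻¹ * (L (u + u'))⁻¹ = L t * (L u * L u') * (L t)⁻¹ * (L u * L u')⁻¹ :=
      hψ.commutator_eq rfl (by rw [map_mul, hL, hL, hL, hX.add r hr])
    have e2 : L t * (L u * L u') * (L t)⁻¹ * (L u * L u')⁻¹ = f t u * (L u * f t u' * (L u)⁻¹) := by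
      simp only [hfdef]
      group
    have e3 : L u * f t u' * (L u)⁻¹ = f t u' := by
      rw [← hcen t u' (L u)]
      group
    show L t * L (u + u') * (L t)⁻¹ * (L (u + u'))⁻¹ = f t u * f t u'
    rw [e1, e2, e3]
  have hinv : ∀ ρ : F, ρ ≠ 0 → ∀ t u, f (ρ * t) (ρ * u) = f t u := by
    intro ρ hρ t u
    obtain ⟨k, χ, hk, hχ⟩ := htor ρ hρ
    obtain ⟨kh, hkh⟩ := hψ.surj k
    have e1 : kh * f t u * kh⁻¹ = f t u := by
      rw [← hcen t u kh]
      group
    have e2 : kh * f t u * kh⁻¹ =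
        (kh * L t * kh⁻¹) * (kh * L u * kh⁻¹) * (kh * L t * kh⁻¹)⁻¹ * (kh * L u * kh⁻¹)⁻¹ := by
      simp only [hfdef]
      group
    have e3 : (kh * L t * kh⁻¹) * (kh * L u * kh⁻¹) * (kh * L t * kh⁻¹)⁻¹ * (kh * L u * kh⁻¹)⁻¹ =
        L (ρ * t) * L (ρ * u) * (L (ρ * t))⁻¹ * (L (ρ * u))⁻¹ := by
      apply hψ.commutator_eq
      · rw [map_mul, map_mul, map_inv, hkh, hL, hL, (hk r hr).2, hχ]
      · rw [map_mul, map_mul, map_inv, hkh, hL, hL, (hk r hr).2, hχ]
    rw [← e1, e2, e3]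
  intro a x u ha hx
  have h1 := eq_one_of_biadd_of_scale hK f hfl hfr hinv t u
  have h2 : a * x * a⁻¹ * x⁻¹ = f t u := hψ.commutator_eq (by rw [ha, hL]) (by rw [hx, hL])
  rw [h1] at h2
  calc a * x = (a * x * a⁻¹ * x⁻¹) * x * a := by group
    _ = x * a := by rw [h2, one_mul]

/-! ### The canonical lifts -/

/-- The canonical lift of `X r t`: the commutator of lifts of `h_r(v)` and `X r ((v² - 1)⁻¹ t)`. -/
noncomputable def Y (D : ChevalleyDatum) (X : ℕ → F → Γ) (hs : Function.Surjective ψ) (v : F) (r : ℕ) (t : F) : E :=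
  Function.surjInv hs (hR D X r v) * Function.surjInv hs (X r ((v ^ 2 - 1)⁻¹ * t)) *
    (Function.surjInv hs (hR D X r v))⁻¹ * (Function.surjInv hs (X r ((v ^ 2 - 1)⁻¹ * t)))⁻¹

theorem Y_eq (hψ : CExt ψ) (v : F) (r : ℕ) (t : F) {a x : E} (ha : ψ a = hR D X r v)
    (hx : ψ x = X r ((v ^ 2 - 1)⁻¹ * t)) : Y D X hψ.surj v r t = a * x * a⁻¹ * x⁻¹ :=
  hψ.commutator_eq ((Function.surjInv_eq hψ.surj _).trans ha.symm) ((Function.surjInv_eq hψ.surj _).trans hx.symm)

theorem Ctx.hR_conj (C : Ctx D Ns wl ws sc bs X π) {v : F} (hv0 : v ≠ 0) (r : ℕ) (hr : r < D.nroots) (t : F) :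
    hR D X r v * X r t * (hR D X r v)⁻¹ = X r (v ^ 2 * t) := by
  have := ((C.torAct_hR r hr v hv0) r hr).2 t
  beta_reduce at this
  rw [C.car r hr] at this
  rw [this]
  congr 2
  exact zpow_ofNat v 2

theorem map_Y (C : Ctx D Ns wl ws sc bs X π) (hψ : CExt ψ) {v : F} (hv0 : v ≠ 0) (hv2 : v ^ 2 ≠ 1) (r : ℕ)
    (hr : r < D.nroots) (t : F) : ψ (Y D X hψ.surj v r t) = X r t := by
  have hne : v ^ 2 - 1 ≠ 0 := sub_ne_zero.mpr hv2
  unfold Y
  simp only [map_mul, map_inv, Function.surjInv_eq]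
  rw [C.hR_conj hv0 r hr, C.hX.inv r hr, C.hX.add r hr]
  congr 1
  field_simp
  ring

/-- The lifts of a central element commute with the lifts of the root elements. -/
theorem liftComm_center (C : Ctx D Ns wl ws sc bs X π) (hψ : CExt ψ) {v : F} (hv0 : v ≠ 0) (hv2 : v ^ 2 ≠ 1)
    {z : Γ} (hz : z ∈ Subgroup.center Γ) (r : ℕ) (hr : r < D.nroots) : LiftComm ψ X z r := by
  rw [Subgroup.mem_center_iff] at hz
  apply liftComm_of_tor hψ C.hX hr (fun s => (hz _).symm) (C.torAct_hR r hr v hv0)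
  · show v ^ cartanR D r r ≠ 1
    rw [C.car r hr]
    have : v ^ (2 : ℤ) = v ^ 2 := zpow_ofNat v 2
    rw [this]
    exact hv2
  · rw [hz, mul_inv_cancel_right]

/-- The canonical lifts are equivariant for the toral elements. -/
theorem Y_conj (C : Ctx D Ns wl ws sc bs X π) (hψ : CExt ψ) {v : F} (hv0 : v ≠ 0) (hv2 : v ^ 2 ≠ 1)
    {k : Γ} {χ : ℕ → F} (hk : TorAct D X k χ) {kh : E} (hkh : ψ kh = k) (r : ℕ) (hr : r < D.nroots) (t : F) :
    kh * Y D X hψ.surj v r t * kh⁻¹ = Y D X hψ.surj v r (χ r * t) := by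
  set a := Function.surjInv hψ.surj (hR D X r v) with hadef
  set x := Function.surjInv hψ.surj (X r ((v ^ 2 - 1)⁻¹ * t)) with hxdef
  have ha : ψ a = hR D X r v := Function.surjInv_eq hψ.surj _
  have hx : ψ x = X r ((v ^ 2 - 1)⁻¹ * t) := Function.surjInv_eq hψ.surj _
  have hY : Y D X hψ.surj v r t = a * x * a⁻¹ * x⁻¹ := rfl
  set x' := kh * x * kh⁻¹ with hx'def
  set zh := a⁻¹ * (kh * a * kh⁻¹) with hzhdef
  have hx' : ψ x' = X r ((v ^ 2 - 1)⁻¹ * (χ r * t)) := by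
    rw [hx'def, map_mul, map_mul, map_inv, hkh, hx, (hk r hr).2]
    congr 1
    ring
  -- the image of `zh` is central
  have hT := C.torAct_hR r hr v hv0
  have hzT : TorAct D X (ψ zh) (fun s => (v ^ cartanR D r s)⁻¹ * (χ s * v ^ cartanR D r s * (χ s)⁻¹)) := by
    have : ψ zh = (hR D X r v)⁻¹ * (k * hR D X r v * k⁻¹) := by
      rw [hzhdef, map_mul, map_inv, map_mul, map_mul, map_inv, ha, hkh]
    rw [this]
    exact hT.inv.mul ((hk.mul hT).mul hk.inv)
  have hzc : ψ zh ∈ Subgroup.center Γ := by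
    apply C.mem_center
    intro s hs u
    have h1 := (hzT s hs).2 u
    beta_reduce at h1
    have h2 : (v ^ cartanR D r s)⁻¹ * (χ s * v ^ cartanR D r s * (χ s)⁻¹) = 1 := by
      have h3 := (hT s hs).1
      have h4 := (hk s hs).1
      field_simp
    rw [h2, one_mul] at h1
    calc ψ zh * X s u = (ψ zh * X s u * (ψ zh)⁻¹) * ψ zh := by group
      _ = X s u * ψ zh := by rw [h1]
  have hcomm := liftComm_center C hψ hv0 hv2 hzc r hr zh x' _ rfl hx'
  have e1 : kh * (a * x * a⁻¹ * x⁻¹) * kh⁻¹ = a * (zh * x') * zh⁻¹ * a⁻¹ * x'⁻¹ := by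
    simp only [hx'def, hzhdef]
    group
  rw [hY, e1, hcomm, Y_eq hψ v r (χ r * t) ha hx']
  group

/-- The canonical lifts are additive, if the lifts of the `X r t` commute. -/
theorem Y_add (C : Ctx D Ns wl ws sc bs X π) (hψ : CExt ψ) {v : F} (hv0 : v ≠ 0) (hv2 : v ^ 2 ≠ 1) (r : ℕ)
    (hr : r < D.nroots) (hself : ∀ t : F, LiftComm ψ X (X r t) r) (t u : F) :
    Y D X hψ.surj v r t * Y D X hψ.surj v r u = Y D X hψ.surj v r (t + u) := by
  set a := Function.surjInv hψ.surj (hR D X r v) with hadef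
  set x := Function.surjInv hψ.surj (X r ((v ^ 2 - 1)⁻¹ * t)) with hxdef
  set y := Function.surjInv hψ.surj (X r ((v ^ 2 - 1)⁻¹ * u)) with hydef
  have ha : ψ a = hR D X r v := Function.surjInv_eq hψ.surj _
  have hx : ψ x = X r ((v ^ 2 - 1)⁻¹ * t) := Function.surjInv_eq hψ.surj _
  have hy : ψ y = X r ((v ^ 2 - 1)⁻¹ * u) := Function.surjInv_eq hψ.surj _
  have hYt : Y D X hψ.surj v r t = a * x * a⁻¹ * x⁻¹ := rfl
  have hYu : Y D X hψ.surj v r u = a * y * a⁻¹ * y⁻¹ := rfl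
  have hxy : ψ (x * y) = X r ((v ^ 2 - 1)⁻¹ * (t + u)) := by
    rw [map_mul, hx, hy, C.hX.add r hr, mul_add]
  have hcomm := hself _ x (Y D X hψ.surj v r u) u hx (map_Y C hψ hv0 hv2 r hr u)
  rw [Y_eq hψ v r (t + u) ha hxy]
  have e1 : a * (x * y) * a⁻¹ * (x * y)⁻¹ = (a * x * a⁻¹ * x⁻¹) * (x * (a * y * a⁻¹ * y⁻¹)) * x⁻¹ := by group
  rw [e1, ← hYt, ← hYu, hcomm]
  group

theorem Y_zero (C : Ctx D Ns wl ws sc bs X π) (hψ : CExt ψ) {v : F} (hv0 : v ≠ 0) (hv2 : v ^ 2 ≠ 1) (r : ℕ)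
    (hr : r < D.nroots) (hself : ∀ t : F, LiftComm ψ X (X r t) r) : Y D X hψ.surj v r 0 = 1 := by
  have := Y_add C hψ hv0 hv2 r hr hself 0 0
  rw [add_zero] at this
  exact mul_eq_left.mp this

end Cfsg.Agent.Lib.Helper81_UceC
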