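/-
Universal central extension (helper81), part D: products of root elements over a list of roots ordered by an
additive function, when (R1), (R2) are known only for the roots of the list.
-/
import Mathlib
import Cfsg.Agent.Lib.Helper81_StAbs

set_option autoImplicit false
set_option linter.unusedSectionVars false
set_option linter.unusedVariables false

namespace Cfsg.Agent.Lib.Helper81_UceD

open Cfsg Cfsg.Lie Cfsg.Agent.Lib.Helper18_ChevFast Cfsg.Agent.Lib.Helper18_ChevEngine
  Cfsg.Agent.Lib.Helper18_ChevR1 Cfsg.Agent.Lib.Helper18_ChevN Cfsg.Agent.Lib.Helper18_ChevR4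
  Cfsg.Agent.Lib.Helper18_ChevSimple Cfsg.Agent.Lib.Helper18_ChevSimple2 Cfsg.Agent.Lib.Helper18_ChevFacts
  Cfsg.Agent.Lib.Helper18_ChevWeyl Cfsg.Agent.Lib.Helper18_ChevDiag Cfsg.Agent.Lib.Helper18_ChevCar
  Cfsg.Agent.Lib.Helper18_ChevTorus Cfsg.Agent.Lib.Helper18_ChevGL Cfsg.Agent.Lib.Helper18_ChevComm
  Cfsg.Agent.Lib.Helper18_ChevComm2 Cfsg.Agent.Lib.Helper18_MatTri Cfsg.Agent.Lib.Helper18_ChevTri
  Cfsg.Agent.Lib.Helper18_ChevBorel Cfsg.Agent.Lib.Helper18_ChevAdd Cfsg.Agent.Lib.Helper18_ChevUni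
  Cfsg.Agent.Lib.Helper81_StUniq Cfsg.Agent.Lib.Helper81_StAbs

variable {D : ChevalleyDatum} {F : Type*} [Field F] {E : Type*} [Group E] {Z : ℕ → F → E}

/-- (R1) for the roots of a list and (R2) for the pairs of distinct roots of the list. -/
structure PartGrp (D : ChevalleyDatum) (Z : ℕ → F → E) (L : List ℕ) : Prop where
  add : ∀ r ∈ L, ∀ t u : F, Z r t * Z r u = Z r (t + u)
  comm : ∀ r ∈ L, ∀ s ∈ L, s ≠ r → ∀ t u : F,
    (Z s u)⁻¹ * (Z r t)⁻¹ * Z s u * Z r t = wordP Z (D.commWord F r s t u)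

namespace PartGrp

variable {L : List ℕ}

theorem zero (hZ : PartGrp D Z L) (r : ℕ) (hr : r ∈ L) : Z r 0 = 1 := by
  have := hZ.add r hr 0 0
  rw [add_zero] at this
  exact mul_eq_left.mp this

theorem inv (hZ : PartGrp D Z L) (r : ℕ) (hr : r ∈ L) (t : F) : (Z r t)⁻¹ = Z r (-t) := by
  rw [inv_eq_iff_mul_eq_one, hZ.add r hr, add_neg_cancel, hZ.zero r hr]

theorem conj (hZ : PartGrp D Z L) {r s : ℕ} (hr : r ∈ L) (hs : s ∈ L) (h1 : s ≠ r) (t u : F) :
    (Z r t)⁻¹ * Z s u * Z r t = Z s u * wordP Z (D.commWord F r s t u) := by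
  rw [← hZ.comm r hr s hs h1 t u]
  group

theorem conj_mem (hZ : PartGrp D Z L) {r s : ℕ} (hr : r ∈ L) (hs : s ∈ L) (h1 : s ≠ r) (K : Subgroup E)
    (hsK : ∀ u : F, Z s u ∈ K) (hk : ∀ k ∈ D.commTerms r s, ∀ a : F, Z k.1 a ∈ K) (t u : F) :
    (Z r t)⁻¹ * Z s u * Z r t ∈ K := by
  rw [hZ.conj hr hs h1]
  apply Subgroup.mul_mem _ (hsK u)
  apply wordP_mem
  intro p hp
  unfold ChevalleyDatum.commWord at hp
  rw [List.mem_map] at hp
  obtain ⟨k, hk', rfl⟩ := hp
  exact hk k hk' _

theorem mono (hZ : PartGrp D Z L) {L' : List ℕ} (h : ∀ r ∈ L', r ∈ L) : PartGrp D Z L' where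
  add := fun r hr => hZ.add r (h r hr)
  comm := fun r hr s hs => hZ.comm r (h r hr) s (h s hs)

end PartGrp

/-- Every element of the group generated by the root elements of a list is a product of root elements in the order
of the list, if the relations hold on the list. -/
theorem exists_word_of_glist' (hrows : RowsOK D) (hin : chainInRange D = true)
    {g : ℕ → ℤ} (hg : IsGrading D g) :
    ∀ (L : List ℕ), PartGrp D Z L → GList D g L → ∀ y ∈ Subgroup.closure (lGens Z L),
      ∃ t : ℕ → F, y = wordP Z (L.map fun r => (r, t r))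
  | [], _, _, y, hy => by
    have : lGens Z ([] : List ℕ) = ∅ := by
      ext y
      simp [lGens]
    rw [this, Subgroup.closure_empty, Subgroup.mem_bot] at hy
    exact ⟨fun _ => 0, by rw [hy, List.map_nil, wordP_nil]⟩
  | r :: L, hZ, hcl, y, hy => by
    have ih := exists_word_of_glist' hrows hin hg L (hZ.mono fun x hx => List.mem_cons_of_mem _ hx)
      (hcl.tail hrows hin hg)
    have hrL : ∀ b ∈ L, g r ≤ g b := (List.pairwise_cons.mp hcl.sorted).1
    have hrnot : r ∉ L := (List.nodup_cons.mp hcl.nodup).1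
    have hrm : r ∈ r :: L := by simp
    have hrlt := hcl.lt r hrm
    have hrpos := hcl.pos r hrm
    have key : ∀ (t : F), ∀ z ∈ lGens Z L, (Z r t)⁻¹ * z * Z r t ∈ Subgroup.closure (lGens Z L) := by
      intro t z hz
      obtain ⟨b, hb, u, rfl⟩ := hz
      have hb' : b ∈ r :: L := List.mem_cons_of_mem _ hb
      have hbr : b ≠ r := by
        rintro rfl
        exact hrnot hb
      have hblt := hcl.lt b hb'
      have hbpos := hcl.pos b hb'
      apply hZ.conj_mem hrm hb' hbr
      · intro u'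
        exact Subgroup.subset_closure ⟨b, hb, u', rfl⟩
      · intro k hk a
        have h1 := hcl.closed r hrm b hb' (Ne.symm hbr) k hk
        obtain ⟨-, hi, hj, hgk⟩ := commTerms_grading hrows hin hg r b hrlt hblt k hk
        have h4 : k.1 ∈ L := by
          rcases List.mem_cons.mp h1 with h | h
          · exfalso
            rw [h] at hgk
            have h5 : (1 : ℤ) ≤ (k.2.2.1 : ℤ) := by exact_mod_cast hi
            have h6 : (1 : ℤ) ≤ (k.2.2.2 : ℤ) := by exact_mod_cast hj
            nlinarith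
          · exact h
        exact Subgroup.subset_closure ⟨k.1, h4, a, rfl⟩
    have hnorm : ∀ t : F, Z r t ∈ Subgroup.normalizer (Subgroup.closure (lGens Z L) : Set E) := by
      intro t
      apply mem_normalizer_closure
      · intro z hz
        have := key (-t) z hz
        rwa [← hZ.inv r hrm, inv_inv] at this
      · intro z hz
        exact key t z hz
    have hconj : ∀ (t : F), ∀ z ∈ Subgroup.closure (lGens Z L),
        (Z r t)⁻¹ * z * Z r t ∈ Subgroup.closure (lGens Z L) := by
      intro t z hz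
      have h1 := hnorm (-t)
      rw [← hZ.inv r hrm] at h1
      have := (Subgroup.mem_normalizer_iff.mp h1 z).mp hz
      rwa [inv_inv] at this
    have hprod : ∃ (t0 : F), ∃ z ∈ Subgroup.closure (lGens Z L), y = Z r t0 * z := by
      induction hy using Subgroup.closure_induction with
      | mem y hy =>
        obtain ⟨s, hs, t, rfl⟩ := hy
        rcases List.mem_cons.mp hs with rfl | hs
        · exact ⟨t, 1, Subgroup.one_mem _, by rw [mul_one]⟩
        · refine ⟨0, Z s t, Subgroup.subset_closure ⟨s, hs, t, rfl⟩, by rw [hZ.zero r hrm, one_mul]⟩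
      | one => exact ⟨0, 1, Subgroup.one_mem _, by rw [hZ.zero r hrm, one_mul]⟩
      | mul a b _ _ iha ihb =>
        obtain ⟨t1, y1, hy1, rfl⟩ := iha
        obtain ⟨t2, y2, hy2, rfl⟩ := ihb
        refine ⟨t1 + t2, ((Z r t2)⁻¹ * y1 * Z r t2) * y2,
          Subgroup.mul_mem _ (hconj t2 y1 hy1) hy2, ?_⟩
        rw [← hZ.add r hrm]
        group
      | inv a _ iha =>
        obtain ⟨t1, y1, hy1, rfl⟩ := iha
        refine ⟨-t1, (Z r (-t1))⁻¹ * y1⁻¹ * Z r (-t1), hconj (-t1) _ (Subgroup.inv_mem _ hy1), ?_⟩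
        rw [← hZ.inv r hrm]
        group
    obtain ⟨t0, z, hz, rfl⟩ := hprod
    obtain ⟨t', rfl⟩ := ih z hz
    refine ⟨Function.update t' r t0, ?_⟩
    rw [List.map_cons, wordP_cons]
    simp only [Function.update_self]
    congr 2
    apply List.map_congr_left
    intro b hb
    have : b ≠ r := by
      rintro rfl
      exact hrnot hb
    rw [Function.update_of_ne this]

end Cfsg.Agent.Lib.Helper81_UceD
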