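/-
Universal central extension (helper81), part F: from the numerical certificates on the root pairings to the toral
elements separating two roots, the additive functions positive on two roots, and the commuting of the lifts of a
root subgroup.
-/
import Mathlib
import Cfsg.Agent.Lib.Helper81_UceE

set_option autoImplicit false
set_option linter.unusedSectionVars false
set_option linter.unusedVariables false

namespace Cfsg.Agent.Lib.Helper81_UceF

open Cfsg Cfsg.Lie Cfsg.Agent.Lib.Helper18_ChevFast Cfsg.Agent.Lib.Helper18_ChevEngine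
  Cfsg.Agent.Lib.Helper18_ChevR1 Cfsg.Agent.Lib.Helper18_ChevN Cfsg.Agent.Lib.Helper18_ChevR4
  Cfsg.Agent.Lib.Helper18_ChevSimple Cfsg.Agent.Lib.Helper18_ChevSimple2 Cfsg.Agent.Lib.Helper18_ChevFacts
  Cfsg.Agent.Lib.Helper18_ChevWeyl Cfsg.Agent.Lib.Helper18_ChevDiag Cfsg.Agent.Lib.Helper18_ChevCar
  Cfsg.Agent.Lib.Helper18_ChevTorus Cfsg.Agent.Lib.Helper18_ChevGL Cfsg.Agent.Lib.Helper18_ChevComm
  Cfsg.Agent.Lib.Helper18_ChevComm2 Cfsg.Agent.Lib.Helper18_MatTri Cfsg.Agent.Lib.Helper18_ChevTri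
  Cfsg.Agent.Lib.Helper18_ChevBorel Cfsg.Agent.Lib.Helper18_ChevAdd Cfsg.Agent.Lib.Helper18_ChevUni
  Cfsg.Agent.Lib.Helper18_ChevBN Cfsg.Agent.Lib.Helper18_ChevMono Cfsg.Agent.Lib.Helper18_ChevBNPair
  Cfsg.Agent.Lib.Helper18_ChevLevi Cfsg.Agent.Lib.Helper18_ChevSimp Cfsg.Agent.Lib.Helper18_ChevBruhat
  Cfsg.Agent.Lib.Helper18_ChevCent Cfsg.Agent.Lib.Helper18_ChevAutG
  Cfsg.Agent.Lib.Helper81_StUniq Cfsg.Agent.Lib.Helper81_StAbs Cfsg.Agent.Lib.Helper81_StL37
  Cfsg.Agent.Lib.Helper81_StBruhat Cfsg.Agent.Lib.Helper81_StTorus Cfsg.Agent.Lib.Helper81_StEta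
  Cfsg.Agent.Lib.Helper81_StR3 Cfsg.Agent.Lib.Helper81_UceA Cfsg.Agent.Lib.Helper81_UceB
  Cfsg.Agent.Lib.Helper81_UceC Cfsg.Agent.Lib.Helper81_UceD Cfsg.Agent.Lib.Helper81_UceE

variable {D : ChevalleyDatum} {Ns : List NData} {F : Type*} [Field F] {Γ : Type*} [Group Γ]
variable {wl : List ℤ} {ws : List (List ℤ)} {sc : ℤ} {bs : List BData} {X : ℕ → F → Γ} {π : Γ →* GL D.Idx F}
variable {E : Type*} [Group E] {ψ : E →* Γ}

/-! ### The certificate on the pairings -/

/-- List version of `cartanR`, for computations. -/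
def cartanL (D : ChevalleyDatum) (r s : ℕ) : ℤ := ((List.range D.rank).map fun j => cor D r j * D.cartan j s).sum

theorem cartanL_eq (r s : ℕ) : cartanL D r s = cartanR D r s := by
  unfold cartanL cartanR
  rw [Cfsg.Agent.Lib.Helper18_ChevTri.sum_range_eq_list]

/-- The condition on the pairings `p = ⟨s, r⟩`, `q = ⟨r, s⟩` of two roots `s ≠ ±r`. -/
def PairCond (p q : ℤ) : Prop :=
  (p = 0 ∧ q = 0) ∨ (p = 1 ∧ 1 ≤ q ∧ q ≤ 3) ∨ (p = -1 ∧ -3 ≤ q ∧ q ≤ -1) ∨ (q = 1 ∧ 1 ≤ p ∧ p ≤ 3) ∨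
    (q = -1 ∧ -3 ≤ p ∧ p ≤ -1)

instance (p q : ℤ) : Decidable (PairCond p q) := by
  unfold PairCond
  infer_instance

theorem PairCond.symm {p q : ℤ} (h : PairCond p q) : PairCond q p := by
  unfold PairCond at h ⊢
  omega

theorem PairCond.mul_le {p q : ℤ} (h : PairCond p q) : p * q ≤ 3 := by
  unfold PairCond at h
  rcases h with ⟨h1, h2⟩ | ⟨h1, h2, h3⟩ | ⟨h1, h2, h3⟩ | ⟨h1, h2, h3⟩ | ⟨h1, h2, h3⟩ <;> subst h1 <;> omega

/-- The check at the root `r`: `⟨r, r⟩ = 2` and the condition for the pairs `(r, s)` with `s < r`. -/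
def certPAt (D : ChevalleyDatum) (r : ℕ) : Bool :=
  decide (cartanL D r r = 2) &&
    (List.range r).all fun s => decide (s = D.neg r) || decide (PairCond (cartanL D r s) (cartanL D s r))

/-- The certificate on the pairings of the roots. -/
structure PCert (D : ChevalleyDatum) : Prop where
  at_ : ∀ r < D.nroots, certPAt D r = true

theorem PCert.car (h : PCert D) (r : ℕ) (hr : r < D.nroots) : cartanR D r r = 2 := by
  have := h.at_ r hr
  unfold certPAt at this
  rw [Bool.and_eq_true, decide_eq_true_eq, cartanL_eq] at this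
  exact this.1

theorem PCert.pair (h : PCert D) (c : DCert D Ns) (tc : TCert D) (ac : ACert D wl ws sc) (r s : ℕ)
    (hr : r < D.nroots) (hs : s < D.nroots) (h1 : s ≠ r) (h2 : s ≠ D.neg r) :
    PairCond (cartanR D r s) (cartanR D s r) := by
  have key : ∀ a b, a < D.nroots → b < a → b ≠ D.neg a → PairCond (cartanR D a b) (cartanR D b a) := by
    intro a b ha hba hne
    have := h.at_ a ha
    unfold certPAt at this
    rw [Bool.and_eq_true, List.all_eq_true] at this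
    have h3 := this.2 b (List.mem_range.mpr hba)
    rw [Bool.or_eq_true, decide_eq_true_eq, decide_eq_true_eq, cartanL_eq, cartanL_eq] at h3
    rcases h3 with h3 | h3
    · exact absurd h3 hne
    · exact h3
  rcases Nat.lt_or_gt_of_ne h1 with h3 | h3
  · exact key r s hr h3 h2
  · apply PairCond.symm
    apply key s r hs h3
    intro h4
    apply h2
    rw [h4, neg_neg_root c tc ac s hs]

theorem pCert_of_all (h : (List.range D.nroots).all (certPAt D) = true) : PCert D := by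
  constructor
  intro r hr
  rw [List.all_eq_true] at h
  exact h r (List.mem_range.mpr hr)

theorem certPAt_of_range' {lo len : ℕ} (h : (List.range' lo len).all (certPAt D) = true) (r : ℕ) (h1 : lo ≤ r)
    (h2 : r < lo + len) : certPAt D r = true := by
  rw [List.all_eq_true] at h
  apply h r
  rw [List.mem_range'_1]
  exact ⟨h1, h2⟩

/-! ### Additive functions positive on two roots -/

/-- Weights of an additive function positive on `r` and `s`. -/
def wPair (D : ChevalleyDatum) (r s : ℕ) : List ℤ :=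
  (List.range D.rank).map fun j => (2 - cartanR D s r) * cor D r j + (2 - cartanR D r s) * cor D s j

theorem grRoot_wPair (r s x : ℕ) :
    grRoot D (wPair D r s) x = (2 - cartanR D s r) * cartanR D r x + (2 - cartanR D r s) * cartanR D s x := by
  unfold grRoot wPair
  rw [show cartanR D r x = ∑ j ∈ Finset.range D.rank, cor D r j * D.cartan j x from rfl,
    show cartanR D s x = ∑ j ∈ Finset.range D.rank, cor D s j * D.cartan j x from rfl,
    Finset.mul_sum, Finset.mul_sum, ← Finset.sum_add_distrib]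
  apply Finset.sum_congr rfl
  intro j hj
  rw [Finset.mem_range] at hj
  rw [List.getD_eq_getElem?_getD, List.getElem?_map, List.getElem?_range hj]
  simp only [Option.map_some, Option.getD_some]
  ring

theorem exists_grading (h : PCert D) (c : DCert D Ns) (tc : TCert D) (ac : ACert D wl ws sc) (r s : ℕ)
    (hr : r < D.nroots) (hs : s < D.nroots) (h1 : s ≠ r) (h2 : s ≠ D.neg r) :
    ∃ wg : List ℤ, 1 ≤ grRoot D wg r ∧ 1 ≤ grRoot D wg s := by
  have hp := (h.pair c tc ac r s hr hs h1 h2).mul_le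
  refine ⟨wPair D r s, ?_, ?_⟩
  · rw [grRoot_wPair, h.car r hr]
    nlinarith
  · rw [grRoot_wPair, h.car s hs]
    nlinarith

/-! ### Separation -/

theorem zpow_ne_one_of_natAbs {a : F} (n : ℤ) (hn : a ^ n.natAbs ≠ 1) : a ^ n ≠ 1 := by
  rcases Int.natAbs_eq n with h | h
  · rw [h, zpow_natCast]
    exact hn
  · rw [h, zpow_neg, zpow_natCast]
    intro h'
    exact hn (inv_eq_one.mp h')

/-- If `⟨s, r⟩ = ±1`, a toral element moves `X r` and fixes `X s`. -/
theorem sep_of (C : Ctx D Ns wl ws sc bs X π) (hK : ∃ s : Finset F, 4 < s.card) (r s : ℕ) (hr : r < D.nroots)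
    (hs : s < D.nroots) {p q : ℤ} (hp : cartanR D r s = p) (hq : cartanR D s r = q) (hpp : p = 1 ∨ p = -1)
    (hN : 0 < (q - 4 * p).natAbs ∧ (q - 4 * p).natAbs ≤ 3) :
    ∃ (k : Γ) (χ : ℕ → F), TorAct D X k χ ∧ χ r ≠ 1 ∧ χ s = 1 := by
  obtain ⟨a, ha0, haN⟩ := exists_pow_ne_one hK _ hN.1 hN.2
  have hb0 : a ^ (-2 * p) ≠ 0 := zpow_ne_zero _ ha0
  refine ⟨hR D X r (a ^ (-2 * p)) * hR D X s a, _, (C.torAct_hR r hr _ hb0).mul (C.torAct_hR s hs a ha0), ?_, ?_⟩
  · show (a ^ (-2 * p)) ^ cartanR D r r * a ^ cartanR D s r ≠ 1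
    rw [C.car r hr, hq, ← zpow_mul, ← zpow_add₀ ha0]
    apply zpow_ne_one_of_natAbs
    have : -2 * p * 2 + q = q - 4 * p := by ring
    rw [this]
    exact haN
  · show (a ^ (-2 * p)) ^ cartanR D r s * a ^ cartanR D s s = 1
    rw [C.car s hs, hp, ← zpow_mul, ← zpow_add₀ ha0]
    have : -2 * p * p + 2 = 0 := by
      rcases hpp with rfl | rfl <;> norm_num
    rw [this, zpow_zero]

theorem sep_all (C : Ctx D Ns wl ws sc bs X π) (h : PCert D) (hK : ∃ s : Finset F, 4 < s.card) :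
    ∀ r < D.nroots, ∀ s < D.nroots, s ≠ r → s ≠ D.neg r → Sep D X r s := by
  intro r hr s hs h1 h2
  have hpc := h.pair C.c C.tc C.ac r s hr hs h1 h2
  unfold PairCond at hpc
  rcases hpc with ⟨hp, hq⟩ | ⟨hp, hq1, hq2⟩ | ⟨hp, hq1, hq2⟩ | ⟨hq, hp1, hp2⟩ | ⟨hq, hp1, hp2⟩
  · obtain ⟨a, ha0, ha2⟩ := exists_pow_ne_one hK 2 (by norm_num) (by norm_num)
    refine ⟨hR D X r a, _, C.torAct_hR r hr a ha0, Or.inl ⟨?_, ?_⟩⟩
    · show a ^ cartanR D r r ≠ 1
      rw [C.car r hr]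
      have : a ^ (2 : ℤ) = a ^ 2 := zpow_ofNat a 2
      rw [this]
      exact ha2
    · show a ^ cartanR D r s = 1
      rw [hp, zpow_zero]
  · obtain ⟨k, χ, hk, h3, h4⟩ := sep_of C hK r s hr hs hp rfl (Or.inl rfl) (by omega)
    exact ⟨k, χ, hk, Or.inl ⟨h3, h4⟩⟩
  · obtain ⟨k, χ, hk, h3, h4⟩ := sep_of C hK r s hr hs hp rfl (Or.inr rfl) (by omega)
    exact ⟨k, χ, hk, Or.inl ⟨h3, h4⟩⟩
  · obtain ⟨k, χ, hk, h3, h4⟩ := sep_of C hK s r hs hr hq rfl (Or.inl rfl) (by omega)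
    exact ⟨k, χ, hk, Or.inr ⟨h4, h3⟩⟩
  · obtain ⟨k, χ, hk, h3, h4⟩ := sep_of C hK s r hs hr hq rfl (Or.inr rfl) (by omega)
    exact ⟨k, χ, hk, Or.inr ⟨h4, h3⟩⟩

/-! ### The lifts of a root subgroup commute -/

/-- Some root `γ` has pairing `⟨r, γ⟩ = ±1`. -/
def SelfA (D : ChevalleyDatum) (r : ℕ) : Prop := ∃ γ < D.nroots, cartanR D γ r = 1 ∨ cartanR D γ r = -1

theorem liftComm_self_A (C : Ctx D Ns wl ws sc bs X π) (hψ : CExt ψ) (hK : ∃ s : Finset F, 4 < s.card) {r : ℕ}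
    (hr : r < D.nroots) (h : SelfA D r) (t : F) : LiftComm ψ X (X r t) r := by
  apply liftComm_self_of_tor hψ C.hX hK hr
  intro ρ hρ
  obtain ⟨γ, hγ, h1 | h1⟩ := h
  · refine ⟨hR D X γ ρ, _, C.torAct_hR γ hγ ρ hρ, ?_⟩
    show ρ ^ cartanR D γ r = ρ
    rw [h1, zpow_one]
  · refine ⟨hR D X γ ρ⁻¹, _, C.torAct_hR γ hγ ρ⁻¹ (inv_ne_zero hρ), ?_⟩
    show ρ⁻¹ ^ cartanR D γ r = ρ
    rw [h1, zpow_neg, zpow_one, inv_inv]

/-- The lifts of two commuting root subgroups separated by a toral element commute. -/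
theorem liftComm_of_sep (C : Ctx D Ns wl ws sc bs X π) (hψ : CExt ψ) {r x : ℕ} (hr : r < D.nroots)
    (hx : x < D.nroots) (hxr : x ≠ r) (hxn : x ≠ D.neg r) (hcomm : D.commTerms r x = [])
    (hsep : Sep D X r x) (u : F) : LiftComm ψ X (X x u) r := by
  have hc : ∀ t u : F, X x u * X r t = X r t * X x u := by
    intro t u
    have := C.hX.comm r x hr hx hxr hxn t u
    unfold ChevalleyDatum.commWord at this
    rw [hcomm, List.map_nil, wordP_nil] at this
    calc X x u * X r t = X r t * X x u * ((X x u)⁻¹ * (X r t)⁻¹ * X x u * X r t) := by group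
      _ = X r t * X x u := by rw [this, mul_one]
  obtain ⟨k, χ, hk, ⟨h1, h2⟩ | ⟨h1, h2⟩⟩ := hsep
  · apply liftComm_of_tor hψ C.hX hr (fun s => hc s u) hk h1
    rw [(hk x hx).2, h2, one_mul]
  · intro a y t ha hy
    have : LiftComm ψ X (X r t) x := by
      apply liftComm_of_tor hψ C.hX hx (fun s => (hc t s).symm) hk h2
      rw [(hk r hr).2, h1, one_mul]
    exact (this y a u hy ha).symm

/-- The root elements of `r` are products of root elements of roots commuting with `r`. -/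
def SelfB (D : ChevalleyDatum) (r : ℕ) : Prop :=
  ∃ γ δ k1 : ℕ, ∃ c1 c2 : ℤ, γ < D.nroots ∧ δ < D.nroots ∧ k1 < D.nroots ∧ δ ≠ γ ∧ δ ≠ D.neg γ ∧
    D.commTerms γ δ = [(k1, c1, 1, 1), (r, c2, 1, 2)] ∧ (c2 = 1 ∨ c2 = -1) ∧
    ∀ x ∈ [γ, δ, k1], x ≠ r ∧ x ≠ D.neg r ∧ D.commTerms r x = []

theorem liftComm_self_B (C : Ctx D Ns wl ws sc bs X π) (hψ : CExt ψ)
    (hsep : ∀ r < D.nroots, ∀ s < D.nroots, s ≠ r → s ≠ D.neg r → Sep D X r s) {r : ℕ}
    (hr : r < D.nroots) (h : SelfB D r) (t : F) : LiftComm ψ X (X r t) r := by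
  obtain ⟨γ, δ, k1, c1, c2, hγ, hδ, hk1, h1, h2, hterms, hc2, hall⟩ := h
  have hmem : ∀ x ∈ [γ, δ, k1], x < D.nroots → ∀ u : F, X x u ∈ liftCommSub hψ X r := by
    intro x hx hxlt u
    obtain ⟨h3, h4, h5⟩ := hall x hx
    exact liftComm_of_sep C hψ hr hxlt h3 h4 h5 (hsep r hr x hxlt h3 h4) u
  have hrel := C.hX.comm γ δ hγ hδ h1 h2 (-(c2 : F) * t) 1
  unfold ChevalleyDatum.commWord at hrel
  rw [hterms] at hrel
  simp only [List.map_cons, List.map_nil, wordP_cons, wordP_nil, mul_one, pow_one, one_pow] at hrel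
  have hc : (c2 : F) * - (-(c2 : F) * t) = t := by
    rcases hc2 with rfl | rfl <;> simp
  rw [hc] at hrel
  have hX : X r t = (X k1 ((c1 : F) * - (-(c2 : F) * t)))⁻¹ *
      ((X δ 1)⁻¹ * (X γ (-(c2 : F) * t))⁻¹ * X δ 1 * X γ (-(c2 : F) * t)) := by
    rw [hrel]
    group
  show X r t ∈ liftCommSub hψ X r
  rw [hX]
  have mγ := hmem γ (by simp) hγ
  have mδ := hmem δ (by simp) hδ
  have mk := hmem k1 (by simp) hk1
  exact Subgroup.mul_mem _ (Subgroup.inv_mem _ (mk _))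
    (Subgroup.mul_mem _ (Subgroup.mul_mem _ (Subgroup.mul_mem _ (Subgroup.inv_mem _ (mδ _))
      (Subgroup.inv_mem _ (mγ _))) (mδ _)) (mγ _))

/-- The certificate for the commuting of the lifts of the root subgroups. -/
def SelfCert (D : ChevalleyDatum) : Prop := ∀ r < D.nroots, SelfA D r ∨ SelfB D r

/-- List version of `SelfA`. -/
def selfAOK (D : ChevalleyDatum) (r : ℕ) : Bool :=
  (List.range D.nroots).any fun γ => decide (cartanL D γ r = 1) || decide (cartanL D γ r = -1)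

theorem selfA_of_ok {r : ℕ} (h : selfAOK D r = true) : SelfA D r := by
  unfold selfAOK at h
  rw [List.any_eq_true] at h
  obtain ⟨γ, hγ, h1⟩ := h
  rw [Bool.or_eq_true, decide_eq_true_eq, decide_eq_true_eq, cartanL_eq] at h1
  exact ⟨γ, List.mem_range.mp hγ, h1⟩

theorem selfCert_of_all (h : (List.range D.nroots).all (selfAOK D) = true) : SelfCert D := by
  intro r hr
  rw [List.all_eq_true] at h
  exact Or.inl (selfA_of_ok (h r (List.mem_range.mpr hr)))

/-! ### The system of canonical lifts -/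

theorem liftSys_Y (C : Ctx D Ns wl ws sc bs X π) (hψ : CExt ψ) (hP : PCert D) (hS : SelfCert D)
    (hK : ∃ s : Finset F, 4 < s.card) {v : F} (hv0 : v ≠ 0) (hv2 : v ^ 2 ≠ 1) :
    LiftSys D X ψ (Y D X hψ.surj v) := by
  have hsep := sep_all C hP hK
  have hself : ∀ r < D.nroots, ∀ t : F, LiftComm ψ X (X r t) r := by
    intro r hr t
    rcases hS r hr with h | h
    · exact liftComm_self_A C hψ hK hr h t
    · exact liftComm_self_B C hψ hsep hr h t
  exact
    { ext := hψ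
      map := fun r hr t => map_Y C hψ hv0 hv2 r hr t
      add := fun r hr t u => Y_add C hψ hv0 hv2 r hr (hself r hr) t u
      conj := fun k χ hk kh hkh r hr t => Y_conj C hψ hv0 hv2 hk hkh r hr t }

/-- The canonical lifts satisfy (R1), (R2). -/
theorem stGrp_Y (C : Ctx D Ns wl ws sc bs X π) (hψ : CExt ψ) (hP : PCert D) (hS : SelfCert D)
    (hK : ∃ s : Finset F, 4 < s.card) {v : F} (hv0 : v ≠ 0) (hv2 : v ^ 2 ≠ 1) :
    StGrp D (Y D X hψ.surj v) :=
  stGrp_of_liftSys C (liftSys_Y C hψ hP hS hK hv0 hv2) (sep_all C hP hK)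
    (fun r hr s hs h1 h2 => exists_grading hP C.c C.tc C.ac r s hr hs h1 h2)

end Cfsg.Agent.Lib.Helper81_UceF
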