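/-
Universal central extension (helper81), part G: the induction of part E with a weaker hypothesis (for each pair of
roots either a separating toral element or the relation itself), and the canonical lifts of part F with the
separation and the self-commutation as hypotheses (for small fields).
-/
import Mathlib
import Cfsg.Agent.Lib.Helper81_UceF

set_option autoImplicit false
set_option linter.unusedSectionVars false
set_option linter.unusedVariables false

namespace Cfsg.Agent.Lib.Helper81_UceG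

open Cfsg Cfsg.Lie Cfsg.Agent.Lib.Helper18_ChevFast Cfsg.Agent.Lib.Helper18_ChevEngine
  Cfsg.Agent.Lib.Helper18_ChevR1 Cfsg.Agent.Lib.Helper18_ChevN Cfsg.Agent.Lib.Helper18_ChevR4
  Cfsg.Agent.Lib.Helper18_ChevSimple Cfsg.Agent.Lib.Helper18_ChevSimple2 Cfsg.Agent.Lib.Helper18_ChevFacts
  Cfsg.Agent.Lib.Helper18_ChevWeyl Cfsg.Agent.Lib.Helper18_ChevDiag Cfsg.Agent.Lib.Helper18_ChevCar
  Cfsg.Agent.Lib.Helper18_ChevTorus Cfsg.Agent.Lib.Helper18_ChevGL Cfsg.Agent.Lib.Helper18_ChevComm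
  Cfsg.Agent.Lib.Helper18_ChevComm2 Cfsg.Agent.Lib.Helper18_MatTri Cfsg.Agent.Lib.Helper18_ChevTri
  Cfsg.Agent.Lib.Helper18_ChevBorel Cfsg.Agent.Lib.Helper18_ChevAdd Cfsg.Agent.Lib.Helper18_ChevUni
  Cfsg.Agent.Lib.Helper18_ChevBN Cfsg.Agent.Lib.Helper18_ChevMono Cfsg.Agent.Lib.Helper18_ChevBNPair
  Cfsg.Agent.Lib.Helper18_ChevLevi Cfsg.Agent.Lib.Helper18_ChevSimp Cfsg.Agent.Lib.Helper18_ChevBruhat
  Cfsg.Agent.Lib.Helper18_ChevCent Cfsg.Agent.Lib.Helper18_ChevAutG
  Cfsg.Agent.Lib.Helper81_StUniq Cfsg.Agent.Lib.Helper81_StAbs Cfsg.Agent.Lib.Helper81_StL37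
  Cfsg.Agent.Lib.Helper81_StBruhat Cfsg.Agent.Lib.Helper81_StTorus Cfsg.Agent.Lib.Helper81_StEta
  Cfsg.Agent.Lib.Helper81_StR3 Cfsg.Agent.Lib.Helper81_UceA Cfsg.Agent.Lib.Helper81_UceB
  Cfsg.Agent.Lib.Helper81_UceC Cfsg.Agent.Lib.Helper81_UceD
  Cfsg.Agent.Lib.Helper81_UceE Cfsg.Agent.Lib.Helper81_UceF

variable {D : ChevalleyDatum} {Ns : List NData} {F : Type*} [Field F] {Γ : Type*} [Group Γ]
variable {wl : List ℤ} {ws : List (List ℤ)} {sc : ℤ} {bs : List BData} {X : ℕ → F → Γ} {π : Γ →* GL D.Idx F}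
variable {E : Type*} [Group E] {ψ : E →* Γ} {Z : ℕ → F → E}

theorem relB_step' (C : Ctx D Ns wl ws sc bs X π) (S : LiftSys D X ψ Z)
    (hsep : ∀ r < D.nroots, ∀ s < D.nroots, s ≠ r → s ≠ D.neg r → Sep D X r s ∨ RelB D Z r s) (wg : List ℤ) (r s : ℕ)
    (hr : r < D.nroots) (hs : s < D.nroots) (hsr : s ≠ r) (hgr : 1 ≤ grRoot D wg r) (hgs : 1 ≤ grRoot D wg s)
    (IH : ∀ a b, a < D.nroots → b < D.nroots → b ≠ a → 1 ≤ grRoot D wg a → 1 ≤ grRoot D wg b →
      grRoot D wg r + grRoot D wg s < grRoot D wg a + grRoot D wg b → RelB D Z a b) : RelB D Z r s := by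
  intro t u
  have hg := isGrading_w C.c C.tc wg
  generalize hgdef : grRoot D wg = g at hg hgr hgs IH
  generalize hm : g r + g s = m at IH
  have hm2 : 2 ≤ m := by omega
  have hLmem : ∀ k, k ∈ (fullList D g).filter (fun k => decide (m ≤ g k)) ↔ (k < D.nroots ∧ 1 ≤ g k) ∧ m ≤ g k := by
    intro k
    rw [List.mem_filter, mem_fullList, decide_eq_true_eq]
  generalize hLdef : (fullList D g).filter (fun k => decide (m ≤ g k)) = L at hLmem
  have hfull := glist_fullList C.c.rows C.ac.in_range hg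
  have hterms : ∀ a b, a < D.nroots → b < D.nroots → 1 ≤ g a → 1 ≤ g b → m ≤ g a + g b →
      ∀ k ∈ D.commTerms a b, k.1 ∈ L := by
    intro a b ha hb hga hgb hmab k hk
    obtain ⟨hk1, hi, hj, hgk⟩ := commTerms_grading C.c.rows C.ac.in_range hg a b ha hb k hk
    rw [hLmem]
    have h5 : (1 : ℤ) ≤ (k.2.2.1 : ℤ) := by exact_mod_cast hi
    have h6 : (1 : ℤ) ≤ (k.2.2.2 : ℤ) := by exact_mod_cast hj
    have h7 : g a ≤ (k.2.2.1 : ℤ) * g a := by nlinarith
    have h8 : g b ≤ (k.2.2.2 : ℤ) * g b := by nlinarith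
    refine ⟨⟨hk1, ?_⟩, ?_⟩ <;> rw [hgk] <;> omega
  have hGL : GList D g L :=
    { nodup := by rw [← hLdef]; exact hfull.nodup.filter _
      sorted := by rw [← hLdef]; exact hfull.sorted.filter _
      lt := fun a ha => ((hLmem a).mp ha).1.1
      pos := fun a ha => ((hLmem a).mp ha).1.2
      closed := by
        intro a ha b hb hab k hk
        obtain ⟨⟨ha1, ha2⟩, ha3⟩ := (hLmem a).mp ha
        obtain ⟨⟨hb1, hb2⟩, hb3⟩ := (hLmem b).mp hb
        exact hterms a b ha1 hb1 ha2 hb2 (by omega) k hk }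
  have hPG : PartGrp D Z L :=
    { add := fun a ha => S.add a ((hLmem a).mp ha).1.1
      comm := by
        intro a ha b hb hba
        obtain ⟨⟨ha1, ha2⟩, ha3⟩ := (hLmem a).mp ha
        obtain ⟨⟨hb1, hb2⟩, hb3⟩ := (hLmem b).mp hb
        exact IH a b ha1 hb1 hba ha2 hb2 (by omega) }
  have hU : ∀ e ∈ Subgroup.closure (lGens Z L), ψ e = 1 → e = 1 := by
    intro e he h1
    rw [← hgdef] at hGL
    exact eq_one_of_mem_closure C S wg hGL hPG e he h1
  generalize hYL : Subgroup.closure (lGens Z L) = YL at hU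
  have hgenL : ∀ k ∈ L, ∀ a : F, Z k a ∈ YL := by
    intro k hk a
    rw [← hYL]
    exact Subgroup.subset_closure ⟨k, hk, a, rfl⟩
  have hword : ∀ a b, a < D.nroots → b < D.nroots → 1 ≤ g a → 1 ≤ g b → m ≤ g a + g b →
      ∀ t u : F, wordP Z (D.commWord F a b t u) ∈ YL := by
    intro a b ha hb hga hgb hmab t u
    apply wordP_mem
    intro p hp
    unfold ChevalleyDatum.commWord at hp
    rw [List.mem_map] at hp
    obtain ⟨k, hk', rfl⟩ := hp
    exact hgenL _ (hterms a b ha hb hga hgb hmab k hk') _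
  have hcx : ∀ x, x < D.nroots → 1 ≤ g x → g x < m → ∀ t' : F, ∀ e ∈ YL, (Z x t')⁻¹ * e * Z x t' ∈ YL := by
    intro x hx hgx hxm t' e he
    rw [← hYL] at he ⊢
    have := conj_mem_closure (lGens Z L) (Z x t')⁻¹ ?_ e he
    · rwa [inv_inv] at this
    · rintro y ⟨k, hk, a, rfl⟩
      rw [inv_inv, hYL]
      obtain ⟨⟨hk1, hk2⟩, hk3⟩ := (hLmem k).mp hk
      have hkx : k ≠ x := by
        rintro rfl
        omega
      have hrel := IH x k hx hk1 hkx hgx hk2 (by omega) t' a
      have : (Z x t')⁻¹ * Z k a * Z x t' = Z k a * wordP Z (D.commWord F x k t' a) := by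
        rw [← hrel]
        group
      rw [this]
      exact Subgroup.mul_mem _ (hgenL k hk a) (hword x k hx hk1 hgx hk2 (by omega) t' a)
  have hsneg : s ≠ D.neg r := by
    intro h
    have := hg.neg r hr
    rw [h] at hgs
    unfold ChevalleyDatum.neg at hgs
    omega
  generalize hlhsdef : (fun t u : F => (Z s u)⁻¹ * (Z r t)⁻¹ * Z s u * Z r t) = lhs
  generalize hRdef : (fun t u : F => wordP Z (D.commWord F r s t u)) = R
  have hlhs_eq : ∀ t u, lhs t u = (Z s u)⁻¹ * (Z r t)⁻¹ * Z s u * Z r t := by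
    intro t u
    rw [← hlhsdef]
  have hR_eq : ∀ t u, R t u = wordP Z (D.commWord F r s t u) := by
    intro t u
    rw [← hRdef]
  have hRmem : ∀ t u, R t u ∈ YL := by
    intro t u
    rw [hR_eq]
    exact hword r s hr hs hgr hgs (by omega) t u
  have hzker : ∀ t u, ψ (lhs t u * (R t u)⁻¹) = 1 := by
    intro t u
    have h1 : ψ (lhs t u) = wordP X (D.commWord F r s t u) := by
      rw [hlhs_eq]
      simp only [map_mul, map_inv, S.map r hr, S.map s hs]
      exact C.hX.comm r s hr hs hsr hsneg t u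
    have h2 : ψ (R t u) = wordP X (D.commWord F r s t u) := by
      rw [hR_eq]
      apply S.map_wordP
      intro p hp
      unfold ChevalleyDatum.commWord at hp
      rw [List.mem_map] at hp
      obtain ⟨k, hk', rfl⟩ := hp
      exact (commTerms_grading C.c.rows C.ac.in_range hg r s hr hs k hk').1
    rw [map_mul, map_inv, h1, h2, mul_inv_cancel]
  generalize hzdef : (fun t u : F => lhs t u * (R t u)⁻¹) = z
  have hz_eq : ∀ t u, z t u = lhs t u * (R t u)⁻¹ := by
    intro t u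
    rw [← hzdef]
  have hzk : ∀ t u, ψ (z t u) = 1 := by
    intro t u
    rw [hz_eq]
    exact hzker t u
  have hzc : ∀ t u e, z t u * e = e * z t u := fun t u e => S.ext.comm_of_ker (hzk t u) e
  have hlhs : ∀ t u, lhs t u = z t u * R t u := by
    intro t u
    rw [hz_eq]
    group
  have haddt : ∀ t t' u, z (t + t') u = z t u * z t' u := by
    intro t t' u
    have e1 : lhs (t + t') u = lhs t' u * ((Z r t')⁻¹ * lhs t u * Z r t') := by
      rw [hlhs_eq, hlhs_eq, hlhs_eq, ← S.add r hr t t']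
      group
    rw [hlhs, hlhs t' u, hlhs t u] at e1
    have e2 := central_alg1 (z t' u) (z t u) (z (t + t') u) (R t' u) (R t u) (R (t + t') u) (Z r t') (hzc t' u)
      (hzc t u) e1
    have hW : R t' u * ((Z r t')⁻¹ * R t u * Z r t') ∈ YL :=
      Subgroup.mul_mem _ (hRmem t' u) (hcx r hr hgr (by omega) t' _ (hRmem t u))
    have e3 := hU _ (Subgroup.mul_mem _ (hRmem (t + t') u) (Subgroup.inv_mem _ hW))
      (by rw [e2, map_mul, map_inv, map_mul, hzk, hzk, hzk]; simp)
    rw [e3] at e2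
    have e4 := inv_mul_eq_one.mp e2.symm
    rw [e4, hzc]
  have haddu : ∀ t u u', z t (u + u') = z t u * z t u' := by
    intro t u u'
    have e1 : lhs t (u + u') = ((Z s u')⁻¹ * lhs t u * Z s u') * lhs t u' := by
      rw [hlhs_eq, hlhs_eq, hlhs_eq, ← S.add s hs u u']
      group
    rw [hlhs, hlhs t u, hlhs t u'] at e1
    have e2 := central_alg2 (z t u) (z t u') (z t (u + u')) (R t u) (R t u') (R t (u + u')) (Z s u') (hzc t u)
      (hzc t u') e1
    have hW : ((Z s u')⁻¹ * R t u * Z s u') * R t u' ∈ YL :=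
      Subgroup.mul_mem _ (hcx s hs hgs (by omega) u' _ (hRmem t u)) (hRmem t u')
    have e3 := hU _ (Subgroup.mul_mem _ (hRmem t (u + u')) (Subgroup.inv_mem _ hW))
      (by rw [e2, map_mul, map_inv, map_mul, hzk, hzk, hzk]; simp)
    rw [e3] at e2
    exact inv_mul_eq_one.mp e2.symm
  have hinv : ∀ (k : Γ) (χ : ℕ → F), TorAct D X k χ → ∀ t u, z (χ r * t) (χ s * u) = z t u := by
    intro k χ hk t u
    obtain ⟨kh, hkh⟩ := S.ext.surj k
    have e1 : kh * lhs t u * kh⁻¹ = lhs (χ r * t) (χ s * u) := by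
      rw [hlhs_eq, hlhs_eq, ← S.conj k χ hk kh hkh r hr, ← S.conj k χ hk kh hkh s hs]
      group
    rw [hlhs t u, hlhs (χ r * t) (χ s * u)] at e1
    have e2 := central_alg3 (z t u) (z (χ r * t) (χ s * u)) (R t u) (R (χ r * t) (χ s * u)) kh (hzc t u) e1
    have hkR : kh * R t u * kh⁻¹ ∈ YL := by
      have hR1 := hRmem t u
      rw [← hYL] at hR1 ⊢
      apply conj_mem_closure (lGens Z L) kh _ _ hR1
      rintro y ⟨k', hk', a, rfl⟩
      rw [S.conj k χ hk kh hkh k' ((hLmem k').mp hk').1.1, hYL]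
      exact hgenL k' hk' _
    have e3 := hU _ (Subgroup.mul_mem _ (hRmem _ _) (Subgroup.inv_mem _ hkR))
      (by rw [e2, map_mul, map_inv, hzk, hzk]; simp)
    rw [e3] at e2
    exact inv_mul_eq_one.mp e2.symm
  rcases hsep r hr s hs hsr hsneg with ⟨k, χ, hk, hχ⟩ | hrel
  swap
  · exact hrel t u
  have hz1 : z t u = 1 := by
    rcases hχ with ⟨h1, h2⟩ | ⟨h1, h2⟩
    · apply eq_one_of_add_of_scale (fun t => z t u) (fun a b => haddt a b u) h1
      intro t'
      have := hinv k χ hk t' u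
      rwa [h2, one_mul] at this
    · apply eq_one_of_add_of_scale (fun u => z t u) (fun a b => haddu t a b) h2
      intro u'
      have := hinv k χ hk t u'
      rwa [h1, one_mul] at this
  have := hlhs t u
  rw [hz1, one_mul, hlhs_eq, hR_eq] at this
  exact this

/-- The commutator relations for the pairs of roots on which an additive function is positive. -/
theorem relB' (C : Ctx D Ns wl ws sc bs X π) (S : LiftSys D X ψ Z)
    (hsep : ∀ r < D.nroots, ∀ s < D.nroots, s ≠ r → s ≠ D.neg r → Sep D X r s ∨ RelB D Z r s) (wg : List ℤ) :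
    ∀ r s, r < D.nroots → s < D.nroots → s ≠ r → 1 ≤ grRoot D wg r → 1 ≤ grRoot D wg s → RelB D Z r s := by
  have hbound : ∀ r < D.nroots, grRoot D wg r ≤ ((∑ r ∈ Finset.range D.nroots, (grRoot D wg r).natAbs : ℕ) : ℤ) := by
    intro r hr
    have h1 : (grRoot D wg r).natAbs ≤ ∑ r ∈ Finset.range D.nroots, (grRoot D wg r).natAbs :=
      Finset.single_le_sum (f := fun r => (grRoot D wg r).natAbs) (fun _ _ => Nat.zero_le _)
        (Finset.mem_range.mpr hr)
    have h2 : grRoot D wg r ≤ (grRoot D wg r).natAbs := Int.le_natAbs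
    omega
  generalize (∑ r ∈ Finset.range D.nroots, (grRoot D wg r).natAbs : ℕ) = B at hbound
  have key : ∀ n : ℕ, ∀ r s, r < D.nroots → s < D.nroots → s ≠ r → 1 ≤ grRoot D wg r → 1 ≤ grRoot D wg s →
      (2 * (B : ℤ) - (grRoot D wg r + grRoot D wg s)).toNat = n → RelB D Z r s := by
    intro n
    induction n using Nat.strong_induction_on with
    | _ n ih =>
      intro r s hr hs hsr hgr hgs hn
      apply relB_step' C S hsep wg r s hr hs hsr hgr hgs
      intro a b ha hb hba hga hgb hlt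
      apply ih _ _ a b ha hb hba hga hgb rfl
      have := hbound r hr
      have := hbound s hs
      have := hbound a ha
      have := hbound b hb
      omega
  intro r s hr hs hsr hgr hgs
  exact key _ r s hr hs hsr hgr hgs rfl

/-- A system of additive, equivariant lifts satisfies (R1), (R2). -/
theorem stGrp_of_liftSys' (C : Ctx D Ns wl ws sc bs X π) (S : LiftSys D X ψ Z)
    (hsep : ∀ r < D.nroots, ∀ s < D.nroots, s ≠ r → s ≠ D.neg r → Sep D X r s ∨ RelB D Z r s)
    (hgrade : ∀ r < D.nroots, ∀ s < D.nroots, s ≠ r → s ≠ D.neg r →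
      ∃ wg : List ℤ, 1 ≤ grRoot D wg r ∧ 1 ≤ grRoot D wg s) : StGrp D Z where
  add := S.add
  comm := by
    intro r s hr hs h1 h2 t u
    obtain ⟨wg, h3, h4⟩ := hgrade r hr s hs h1 h2
    exact relB' C S hsep wg r s hr hs h1 h3 h4 t u

/-! ### The canonical lifts, with the separation and the self-commutation as hypotheses -/

theorem liftSys_Y' (C : Ctx D Ns wl ws sc bs X π) (hψ : CExt ψ)
    (hself : ∀ r < D.nroots, ∀ t : F, LiftComm ψ X (X r t) r) {v : F} (hv0 : v ≠ 0) (hv2 : v ^ 2 ≠ 1) :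
    LiftSys D X ψ (Y D X hψ.surj v) :=
  { ext := hψ
    map := fun r hr t => map_Y C hψ hv0 hv2 r hr t
    add := fun r hr t u => Y_add C hψ hv0 hv2 r hr (hself r hr) t u
    conj := fun k χ hk kh hkh r hr t => Y_conj C hψ hv0 hv2 hk hkh r hr t }

/-- The canonical lifts satisfy (R1), (R2), if every pair of roots is separated by a toral element or satisfies its
relation, and the lifts of each root subgroup commute. -/
theorem stGrp_Y' (C : Ctx D Ns wl ws sc bs X π) (hψ : CExt ψ) (hP : PCert D)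
    (hself : ∀ r < D.nroots, ∀ t : F, LiftComm ψ X (X r t) r) {v : F} (hv0 : v ≠ 0) (hv2 : v ^ 2 ≠ 1)
    (hsep : ∀ r < D.nroots, ∀ s < D.nroots, s ≠ r → s ≠ D.neg r →
      Sep D X r s ∨ RelB D (Y D X hψ.surj v) r s) :
    StGrp D (Y D X hψ.surj v) :=
  stGrp_of_liftSys' C (liftSys_Y' C hψ hself hv0 hv2) hsep
    (fun r hr s hs h1 h2 => exists_grading hP C.c C.tc C.ac r s hr hs h1 h2)

end Cfsg.Agent.Lib.Helper81_UceG
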