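/-
Universal central extension (helper81): the certificates on the root pairings for the types G2, B2, D4, F4, E6 and
the certificates for the commuting of the lifts of the root subgroups for all seven types.
-/
import Mathlib
import Cfsg.Agent.Lib.Helper81_UceF

set_option autoImplicit false
set_option maxRecDepth 100000

namespace Cfsg.Agent.Lib.Helper81_UceCertA

open Cfsg Cfsg.Lie Cfsg.Agent.Lib.Helper81_UceF

theorem pCert_G2 : PCert chevG2 := pCert_of_all (by decide +kernel)
theorem pCert_B2 : PCert chevB2 := pCert_of_all (by decide +kernel)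
theorem pCert_D4 : PCert chevD4 := pCert_of_all (by decide +kernel)
theorem pCert_F4 : PCert chevF4 := pCert_of_all (by decide +kernel)
theorem pCert_E6 : PCert chevE6 := pCert_of_all (by decide +kernel)

theorem selfCert_G2 : SelfCert chevG2 := selfCert_of_all (by decide +kernel)
theorem selfCert_D4 : SelfCert chevD4 := selfCert_of_all (by decide +kernel)
theorem selfCert_F4 : SelfCert chevF4 := selfCert_of_all (by decide +kernel)
theorem selfCert_E6 : SelfCert chevE6 := selfCert_of_all (by decide +kernel)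
theorem selfCert_E7 : SelfCert chevE7 := selfCert_of_all (by decide +kernel)
theorem selfCert_E8 : SelfCert chevE8 := selfCert_of_all (by decide +kernel)

theorem selfB_B2 (r γ δ k1 : ℕ) (c1 c2 : ℤ)
    (h : decide (γ < chevB2.nroots ∧ δ < chevB2.nroots ∧ k1 < chevB2.nroots ∧ δ ≠ γ ∧ δ ≠ chevB2.neg γ ∧
      chevB2.commTerms γ δ = [(k1, c1, 1, 1), (r, c2, 1, 2)] ∧ (c2 = 1 ∨ c2 = -1) ∧
      ∀ x ∈ [γ, δ, k1], x ≠ r ∧ x ≠ chevB2.neg r ∧ chevB2.commTerms r x = []) = true) : SelfB chevB2 r := by
  rw [decide_eq_true_eq] at h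
  exact ⟨γ, δ, k1, c1, c2, h⟩

theorem selfCert_B2 : SelfCert chevB2 := by
  intro r hr
  have hr8 : r < 8 := hr
  interval_cases r
  · exact Or.inr (selfB_B2 0 3 2 1 (-1) (-1) (by decide +kernel))
  · exact Or.inl (selfA_of_ok (by decide +kernel))
  · exact Or.inl (selfA_of_ok (by decide +kernel))
  · exact Or.inr (selfB_B2 3 0 5 1 1 (-1) (by decide +kernel))
  · exact Or.inr (selfB_B2 4 0 6 2 (-1) 1 (by decide +kernel))
  · exact Or.inl (selfA_of_ok (by decide +kernel))
  · exact Or.inl (selfA_of_ok (by decide +kernel))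
  · exact Or.inr (selfB_B2 7 3 6 5 1 1 (by decide +kernel))

end Cfsg.Agent.Lib.Helper81_UceCertA
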