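/-
Universal central extension (helper81): the certificate on the root pairings for the type E8, roots 208 to 240.
-/
import Mathlib
import Cfsg.Agent.Lib.Helper81_UceF

set_option autoImplicit false
set_option maxRecDepth 100000

namespace Cfsg.Agent.Lib.Helper81_UceCertE8C3

open Cfsg Cfsg.Lie Cfsg.Agent.Lib.Helper81_UceF

theorem chunk : (List.range' 208 32).all (certPAt chevE8) = true := by decide +kernel

end Cfsg.Agent.Lib.Helper81_UceCertE8C3
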