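/-
Universal central extension (helper81): the certificate on the root pairings for the type E8.
-/
import Mathlib
import Cfsg.Agent.Lib.Helper81_UceCertE8C0
import Cfsg.Agent.Lib.Helper81_UceCertE8C1
import Cfsg.Agent.Lib.Helper81_UceCertE8C2
import Cfsg.Agent.Lib.Helper81_UceCertE8C3

set_option autoImplicit false

namespace Cfsg.Agent.Lib.Helper81_UceCertE8

open Cfsg Cfsg.Lie Cfsg.Agent.Lib.Helper81_UceF

theorem pCert_E8 : PCert chevE8 := by
  constructor
  intro r hr
  have hr' : r < 240 := hr
  by_cases h1 : r < 120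
  · exact certPAt_of_range' Cfsg.Agent.Lib.Helper81_UceCertE8C0.chunk r (by omega) (by omega)
  by_cases h2 : r < 170
  · exact certPAt_of_range' Cfsg.Agent.Lib.Helper81_UceCertE8C1.chunk r (by omega) (by omega)
  by_cases h3 : r < 208
  · exact certPAt_of_range' Cfsg.Agent.Lib.Helper81_UceCertE8C2.chunk r (by omega) (by omega)
  · exact certPAt_of_range' Cfsg.Agent.Lib.Helper81_UceCertE8C3.chunk r (by omega) (by omega)

end Cfsg.Agent.Lib.Helper81_UceCertE8
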