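/-
Universal central extension (helper81), main part: over a field with more than four elements, every central
extension of the group presented by Steinberg's relators (R1), (R2) (types G2, B2, D4, F4, E6, E7, E8) splits, and
homomorphisms from that group lift uniquely along central extensions (Steinberg, Lectures on Chevalley groups,
Theorem 10).
-/
import Mathlib
import Cfsg.Agent.Lib.Helper81_UceF
import Cfsg.Agent.Lib.Helper81_UceCertA
import Cfsg.Agent.Lib.Helper81_UceCertE7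
import Cfsg.Agent.Lib.Helper81_UceCertE8
import Cfsg.Agent.Lib.Helper81_StMain
import Cfsg.Agent.Lib.Helper81_StCerts

set_option autoImplicit false
set_option linter.unusedSectionVars false
set_option linter.unusedVariables false

namespace Cfsg.Agent.Lib.Helper81_UceMain

open Cfsg Cfsg.Lie Cfsg.Agent.Lib.Helper18_ChevFast Cfsg.Agent.Lib.Helper18_ChevEngine
  Cfsg.Agent.Lib.Helper18_ChevR1 Cfsg.Agent.Lib.Helper18_ChevN Cfsg.Agent.Lib.Helper18_ChevR4
  Cfsg.Agent.Lib.Helper18_ChevSimple Cfsg.Agent.Lib.Helper18_ChevSimple2 Cfsg.Agent.Lib.Helper18_ChevFacts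
  Cfsg.Agent.Lib.Helper18_ChevWeyl Cfsg.Agent.Lib.Helper18_ChevDiag Cfsg.Agent.Lib.Helper18_ChevCar
  Cfsg.Agent.Lib.Helper18_ChevTorus Cfsg.Agent.Lib.Helper18_ChevGL Cfsg.Agent.Lib.Helper18_ChevComm
  Cfsg.Agent.Lib.Helper18_ChevComm2 Cfsg.Agent.Lib.Helper18_MatTri Cfsg.Agent.Lib.Helper18_ChevTri
  Cfsg.Agent.Lib.Helper18_ChevBorel Cfsg.Agent.Lib.Helper18_ChevAdd Cfsg.Agent.Lib.Helper18_ChevUni
  Cfsg.Agent.Lib.Helper81_StUniq Cfsg.Agent.Lib.Helper81_StAbs Cfsg.Agent.Lib.Helper81_StL37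
  Cfsg.Agent.Lib.Helper81_StBruhat Cfsg.Agent.Lib.Helper81_StTorus
  Cfsg.Agent.Lib.Helper81_StR3 Cfsg.Agent.Lib.Helper81_StMain Cfsg.Agent.Lib.Helper81_UceA
  Cfsg.Agent.Lib.Helper81_UceB Cfsg.Agent.Lib.Helper81_UceC Cfsg.Agent.Lib.Helper81_UceD
  Cfsg.Agent.Lib.Helper81_UceE

variable {D : ChevalleyDatum} {Ns : List NData} {F : Type*} [Field F]
variable {wl : List ℤ} {ws : List (List ℤ)} {sc : ℤ}

theorem pCert_of_mem (D : ChevalleyDatum)
    (hD : D ∈ [chevG2, chevB2, chevD4, chevF4, chevE6, chevE7, chevE8]) :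
    Cfsg.Agent.Lib.Helper81_UceF.PCert D ∧ Cfsg.Agent.Lib.Helper81_UceF.SelfCert D := by
  simp only [List.mem_cons, List.not_mem_nil, or_false] at hD
  rcases hD with rfl | rfl | rfl | rfl | rfl | rfl | rfl
  · exact ⟨Cfsg.Agent.Lib.Helper81_UceCertA.pCert_G2, Cfsg.Agent.Lib.Helper81_UceCertA.selfCert_G2⟩
  · exact ⟨Cfsg.Agent.Lib.Helper81_UceCertA.pCert_B2, Cfsg.Agent.Lib.Helper81_UceCertA.selfCert_B2⟩
  · exact ⟨Cfsg.Agent.Lib.Helper81_UceCertA.pCert_D4, Cfsg.Agent.Lib.Helper81_UceCertA.selfCert_D4⟩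
  · exact ⟨Cfsg.Agent.Lib.Helper81_UceCertA.pCert_F4, Cfsg.Agent.Lib.Helper81_UceCertA.selfCert_F4⟩
  · exact ⟨Cfsg.Agent.Lib.Helper81_UceCertA.pCert_E6, Cfsg.Agent.Lib.Helper81_UceCertA.selfCert_E6⟩
  · exact ⟨Cfsg.Agent.Lib.Helper81_UceCertE7.pCert_E7, Cfsg.Agent.Lib.Helper81_UceCertA.selfCert_E7⟩
  · exact ⟨Cfsg.Agent.Lib.Helper81_UceCertE8.pCert_E8, Cfsg.Agent.Lib.Helper81_UceCertA.selfCert_E8⟩

/-- A group with elements satisfying (R1), (R2) is an image of the presented group. -/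
theorem exists_hom_of_stGrp {G : Type*} [Group G] (c : DCert D Ns) (tc : TCert D) (ac : ACert D wl ws sc)
    {Z : ℕ → F → G} (hZ : StGrp D Z) :
    ∃ s : D.SteinbergCover F →* G, ∀ r < D.nroots, ∀ t : F, s (pGen D (D.steinbergRelsAB F) r t) = Z r t := by
  set f : Fin D.nroots × F → G := fun p => Z p.1 p.2 with hf
  have hX : ∀ r < D.nroots, ∀ t : F, FreeGroup.lift f (D.stX r t) = Z r t := by
    intro r hr t
    unfold ChevalleyDatum.stX
    rw [dif_pos hr, FreeGroup.lift_apply_of]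
  have hW : ∀ w : List (ℕ × F), (∀ p ∈ w, p.1 < D.nroots) → FreeGroup.lift f (D.stWord w) = wordP Z w := by
    intro w hw
    unfold ChevalleyDatum.stWord wordP
    rw [map_list_prod, List.map_map]
    congr 1
    apply List.map_congr_left
    intro p hp
    exact hX p.1 (hw p hp) p.2
  have hrel : ∀ g ∈ D.steinbergRelsAB F, FreeGroup.lift f g = 1 := by
    rintro g (⟨r, t₁, t₂, hr, rfl⟩ | ⟨r, s, t, u, hr, hs, h1, h2, rfl⟩)
    · rw [map_mul, map_mul, map_inv, hX r hr, hX r hr, hX r hr, hZ.add r hr, mul_inv_cancel]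
    · have hin : ∀ p ∈ D.commWord F r s t u, p.1 < D.nroots := by
        intro p hp
        unfold ChevalleyDatum.commWord at hp
        rw [List.mem_map] at hp
        obtain ⟨k, hk, rfl⟩ := hp
        exact (commTerms_grading c.rows ac.in_range (isGrading_w c tc []) r s hr hs k hk).1
      rw [map_mul, map_mul, map_mul, map_mul, map_inv, map_inv, map_inv, hX r hr, hX s hs, hW _ hin,
        hZ.comm r s hr hs h1 h2, mul_inv_cancel]
  refine ⟨PresentedGroup.toGroup hrel, ?_⟩
  intro r hr t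
  unfold pGen ChevalleyDatum.stX
  rw [dif_pos hr]
  exact PresentedGroup.toGroup.of hrel

theorem of_eq_pGen (rels : Set (FreeGroup (Fin D.nroots × F))) (x : Fin D.nroots × F) :
    (PresentedGroup.of x : PresentedGroup rels) = pGen D rels x.1 x.2 := by
  unfold pGen ChevalleyDatum.stX
  rw [dif_pos x.1.2]
  rfl

/-- The context of the presented group. -/
theorem exists_ctx (D : ChevalleyDatum)
    (hD : D ∈ [chevG2, chevB2, chevD4, chevF4, chevE6, chevE7, chevE8]) :
    ∃ (Ns : List NData) (wl : List ℤ) (ws : List (List ℤ)) (sc : ℤ) (bs : List BData)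
      (π : D.SteinbergCover F →* GL D.Idx F), Ctx D Ns wl ws sc bs (pGen D (D.steinbergRelsAB F)) π := by
  obtain ⟨Ns, w, d, Ts, hT, K, base, stepT, wl, ws, sc, c, tc, gc, pc, ac⟩ :=
    Cfsg.Agent.Lib.Helper18_ChevData5.exists_cert5 D hD
  obtain ⟨hA, bs, hB⟩ := Cfsg.Agent.Lib.Helper81_StCerts.exists_certAB D hD
  have h := lift_relsAB (F := F) c (r2All_of_mem D hD)
  exact ⟨Ns, wl, ws, sc, bs, toGL c h,
    { c := c, tc := tc, ac := ac, hA := hA, hB := hB, hX := stGrp_pGen (fun _ hg => hg), hπ := isLift_toGL c h,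
      gen := gen_pGen, car := (pCert_of_mem D hD).1.car }⟩

/-- Every central extension of the presented group splits. -/
theorem exists_section (D : ChevalleyDatum)
    (hD : D ∈ [chevG2, chevB2, chevD4, chevF4, chevE6, chevE7, chevE8]) (hK : ∃ s : Finset F, 4 < s.card)
    {E : Type*} [Group E] (ψ : E →* D.SteinbergCover F) (hψ : CExt ψ) :
    ∃ s : D.SteinbergCover F →* E, ψ.comp s = MonoidHom.id _ := by
  obtain ⟨Ns, wl, ws, sc, bs, π, C⟩ := exists_ctx (F := F) D hD
  obtain ⟨hP, hS⟩ := pCert_of_mem D hD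
  obtain ⟨v, hv0, hv2⟩ := exists_pow_ne_one hK 2 (by norm_num) (by norm_num)
  have hY := Cfsg.Agent.Lib.Helper81_UceF.stGrp_Y C hψ hP hS hK hv0 hv2
  obtain ⟨s, hs⟩ := exists_hom_of_stGrp C.c C.tc C.ac hY
  refine ⟨s, ?_⟩
  apply PresentedGroup.ext
  intro x
  rw [MonoidHom.comp_apply, of_eq_pGen, hs x.1 x.1.2 x.2, map_Y C hψ hv0 hv2 x.1 x.1.2 x.2]
  rfl

/-- The pullback of a central extension. -/
def pullback {Δ E G₁ : Type*} [Group Δ] [Group E] [Group G₁] (π₁ : E →* G₁) (σ : Δ →* G₁) : Subgroup (E × Δ) where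
  carrier := {p | π₁ p.1 = σ p.2}
  one_mem' := by
    show π₁ (1 : E × Δ).1 = σ (1 : E × Δ).2
    simp
  mul_mem' := by
    intro a b ha hb
    show π₁ (a * b).1 = σ (a * b).2
    rw [Prod.fst_mul, Prod.snd_mul, map_mul, map_mul, ha, hb]
  inv_mem' := by
    intro a ha
    show π₁ (a⁻¹).1 = σ (a⁻¹).2
    rw [Prod.fst_inv, Prod.snd_inv, map_inv, map_inv, ha]

/-- Steinberg's Theorem 10: homomorphisms from the group presented by (R1), (R2) lift uniquely along central
extensions, over a field with more than four elements. -/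
theorem exists_unique_lift (D : ChevalleyDatum)
    (hD : D ∈ [chevG2, chevB2, chevD4, chevF4, chevE6, chevE7, chevE8]) (hK : ∃ s : Finset F, 4 < s.card)
    {G₁ E : Type*} [Group G₁] [Group E] (π₁ : E →* G₁) (hπ : Function.Surjective π₁)
    (hc : π₁.ker ≤ Subgroup.center E) (σ : D.SteinbergCover F →* G₁) :
    ∃! τ : D.SteinbergCover F →* E, π₁.comp τ = σ := by
  have hπ₁ : CExt π₁ := ⟨hπ, hc⟩
  -- existence
  set P := pullback π₁ σ with hPdef
  set ψ : P →* D.SteinbergCover F := (MonoidHom.snd E (D.SteinbergCover F)).comp P.subtype with hψdef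
  have hψ : CExt ψ := by
    constructor
    · intro x
      obtain ⟨e, he⟩ := hπ (σ x)
      exact ⟨⟨(e, x), he⟩, rfl⟩
    · rintro ⟨⟨e, x⟩, hp⟩ hker
      have hx : x = 1 := hker
      subst hx
      have he : e ∈ Subgroup.center E := by
        apply hc
        rw [MonoidHom.mem_ker]
        have : π₁ e = σ 1 := hp
        rw [this, map_one]
      rw [Subgroup.mem_center_iff] at he ⊢
      rintro ⟨⟨e', x'⟩, hp'⟩
      apply Subtype.ext
      show (e' * e, x' * 1) = (e * e', 1 * x')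
      rw [he e', mul_one, one_mul]
  obtain ⟨s, hs⟩ := exists_section D hD hK ψ hψ
  refine ⟨(MonoidHom.fst E (D.SteinbergCover F)).comp (P.subtype.comp s), ?_, ?_⟩
  · apply MonoidHom.ext
    intro x
    have h1 : π₁ (s x).1.1 = σ (s x).1.2 := (s x).2
    have h2 : (s x).1.2 = x := DFunLike.congr_fun hs x
    rw [h2] at h1
    exact h1
  · -- uniqueness
    intro τ hτ
    obtain ⟨Ns, wl, ws, sc, bs, π, C⟩ := exists_ctx (F := F) D hD
    obtain ⟨v, hv0, hv2⟩ := exists_pow_ne_one hK 2 (by norm_num) (by norm_num)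
    have hne : v ^ 2 - 1 ≠ 0 := sub_ne_zero.mpr hv2
    have key : ∀ (τ' : D.SteinbergCover F →* E), π₁.comp τ' = σ → ∀ x, τ x = τ' x := by
      intro τ' hτ' x
      have hx : x ∈ Subgroup.closure {y | ∃ r < D.nroots, ∃ t : F, y = pGen D (D.steinbergRelsAB F) r t} := by
        rw [C.gen]
        exact Subgroup.mem_top x
      induction hx using Subgroup.closure_induction with
      | mem y hy =>
        obtain ⟨r, hr, t, rfl⟩ := hy
        set X := pGen D (D.steinbergRelsAB F) with hXdef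
        have hgen : X r t = hR D X r v * X r ((v ^ 2 - 1)⁻¹ * t) * (hR D X r v)⁻¹ * (X r ((v ^ 2 - 1)⁻¹ * t))⁻¹ := by
          rw [C.hR_conj hv0 r hr, C.hX.inv r hr, C.hX.add r hr]
          congr 1
          field_simp
          ring
        rw [hgen, map_mul, map_mul, map_mul, map_inv, map_inv, map_mul, map_mul, map_mul, map_inv, map_inv]
        apply hπ₁.commutator_eq
        · have h1 := DFunLike.congr_fun hτ (hR D X r v)
          have h2 := DFunLike.congr_fun hτ' (hR D X r v)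
          rw [MonoidHom.comp_apply] at h1 h2
          rw [h1, h2]
        · have h1 := DFunLike.congr_fun hτ (X r ((v ^ 2 - 1)⁻¹ * t))
          have h2 := DFunLike.congr_fun hτ' (X r ((v ^ 2 - 1)⁻¹ * t))
          rw [MonoidHom.comp_apply] at h1 h2
          rw [h1, h2]
      | one => rw [map_one, map_one]
      | mul a b _ _ iha ihb => rw [map_mul, map_mul, iha, ihb]
      | inv a _ iha => rw [map_inv, map_inv, iha]
    apply MonoidHom.ext
    intro x
    apply key
    apply MonoidHom.ext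
    intro y
    have h1 : π₁ (s y).1.1 = σ (s y).1.2 := (s y).2
    have h2 : (s y).1.2 = y := DFunLike.congr_fun hs y
    rw [h2] at h1
    exact h1

end Cfsg.Agent.Lib.Helper81_UceMain
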