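/-
Universal central extension (helper81), small fields, part 1: over a field with an element `v ≠ 0`, `v² ≠ 1` (that is,
with at least four elements) two roots `s ≠ ±r` of type B2 or D4 are separated by a toral element `h_g(v)` with `g`
orthogonal to `s` and not to `r`; the lifts of the root subgroups commute (type D4: a root element is a commutator of
root elements commuting with it; type B2, characteristic 2: the same for the long roots, and for a short root `r = γ + δ`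
the orthogonal short root `δ` commutes with `r` because `2 = 0`).  Consequence: every central extension of the group
presented by (R1), (R2) of type D4 (at least four elements) or B2 (characteristic 2, at least four elements) splits.
-/
import Mathlib
import Cfsg.Agent.Lib.Helper81_UceG
import Cfsg.Agent.Lib.Helper81_UceMain

set_option autoImplicit false
set_option linter.unusedSectionVars false
set_option linter.unusedVariables false
set_option maxRecDepth 100000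

namespace Cfsg.Agent.Lib.Helper81_S2400_F4

open Cfsg Cfsg.Lie Cfsg.Agent.Lib.Helper18_ChevFast Cfsg.Agent.Lib.Helper18_ChevEngine
  Cfsg.Agent.Lib.Helper18_ChevR1 Cfsg.Agent.Lib.Helper18_ChevN Cfsg.Agent.Lib.Helper18_ChevR4
  Cfsg.Agent.Lib.Helper18_ChevSimple Cfsg.Agent.Lib.Helper18_ChevSimple2 Cfsg.Agent.Lib.Helper18_ChevFacts
  Cfsg.Agent.Lib.Helper18_ChevWeyl Cfsg.Agent.Lib.Helper18_ChevDiag Cfsg.Agent.Lib.Helper18_ChevCar
  Cfsg.Agent.Lib.Helper18_ChevTorus Cfsg.Agent.Lib.Helper18_ChevGL Cfsg.Agent.Lib.Helper18_ChevComm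
  Cfsg.Agent.Lib.Helper18_ChevComm2 Cfsg.Agent.Lib.Helper18_MatTri Cfsg.Agent.Lib.Helper18_ChevTri
  Cfsg.Agent.Lib.Helper18_ChevBorel Cfsg.Agent.Lib.Helper18_ChevAdd Cfsg.Agent.Lib.Helper18_ChevUni
  Cfsg.Agent.Lib.Helper81_StUniq Cfsg.Agent.Lib.Helper81_StAbs Cfsg.Agent.Lib.Helper81_StL37
  Cfsg.Agent.Lib.Helper81_StBruhat Cfsg.Agent.Lib.Helper81_StTorus
  Cfsg.Agent.Lib.Helper81_StR3 Cfsg.Agent.Lib.Helper81_StMain Cfsg.Agent.Lib.Helper81_UceA
  Cfsg.Agent.Lib.Helper81_UceB Cfsg.Agent.Lib.Helper81_UceC Cfsg.Agent.Lib.Helper81_UceD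
  Cfsg.Agent.Lib.Helper81_UceE Cfsg.Agent.Lib.Helper81_UceF Cfsg.Agent.Lib.Helper81_UceG
  Cfsg.Agent.Lib.Helper81_UceMain

variable {D : ChevalleyDatum} {Ns : List NData} {F : Type*} [Field F] {Γ : Type*} [Group Γ]
variable {wl : List ℤ} {ws : List (List ℤ)} {sc : ℤ} {bs : List BData} {X : ℕ → F → Γ} {π : Γ →* GL D.Idx F}
variable {E : Type*} [Group E] {ψ : E →* Γ}

/-! ### Separation by a toral element of an orthogonal root -/

theorem zpow_ne_one_of_small {v : F} (hv0 : v ≠ 0) (hv2 : v ^ 2 ≠ 1) {n : ℤ}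
    (hn : n = 1 ∨ n = -1 ∨ n = 2 ∨ n = -2) : v ^ n ≠ 1 := by
  have hv1 : v ≠ 1 := by
    rintro rfl
    exact hv2 (one_pow 2)
  rcases hn with rfl | rfl | rfl | rfl
  · rwa [zpow_one]
  · rw [zpow_neg, zpow_one]
    intro h
    exact hv1 (inv_eq_one.mp h)
  · have : v ^ (2 : ℤ) = v ^ 2 := zpow_ofNat v 2
    rwa [this]
  · have : v ^ (2 : ℤ) = v ^ 2 := zpow_ofNat v 2
    rw [zpow_neg, this]
    intro h
    exact hv2 (inv_eq_one.mp h)

/-- Some root `g` is orthogonal to `s` and has pairing `±1`, `±2` with `r`. -/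
def sepOrthOK (D : ChevalleyDatum) (r s : ℕ) : Bool :=
  (List.range D.nroots).any fun g => decide (cartanL D g s = 0) &&
    (decide (cartanL D g r = 1) || decide (cartanL D g r = -1) || decide (cartanL D g r = 2) ||
      decide (cartanL D g r = -2))

theorem sep_of_orthOK (C : Ctx D Ns wl ws sc bs X π) {v : F} (hv0 : v ≠ 0) (hv2 : v ^ 2 ≠ 1) {r s : ℕ}
    (h : sepOrthOK D r s = true) : Sep D X r s := by
  unfold sepOrthOK at h
  rw [List.any_eq_true] at h
  obtain ⟨g, hg, h1⟩ := h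
  rw [Bool.and_eq_true, decide_eq_true_eq, cartanL_eq] at h1
  obtain ⟨h1, h2⟩ := h1
  simp only [Bool.or_eq_true, decide_eq_true_eq, cartanL_eq] at h2
  have hg' : g < D.nroots := List.mem_range.mp hg
  refine ⟨hR D X g v, _, C.torAct_hR g hg' v hv0, Or.inl ⟨?_, ?_⟩⟩
  · show v ^ cartanR D g r ≠ 1
    apply zpow_ne_one_of_small hv0 hv2
    tauto
  · show v ^ cartanR D g s = 1
    rw [h1, zpow_zero]

/-- The certificate: all pairs `s ≠ ±r` are separated by an orthogonal root. -/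
def sepCertOK (D : ChevalleyDatum) : Bool :=
  (List.range D.nroots).all fun r => (List.range D.nroots).all fun s =>
    decide (s = r) || decide (s = D.neg r) || sepOrthOK D r s

theorem sep_all_of_cert (C : Ctx D Ns wl ws sc bs X π) {v : F} (hv0 : v ≠ 0) (hv2 : v ^ 2 ≠ 1)
    (h : sepCertOK D = true) :
    ∀ r < D.nroots, ∀ s < D.nroots, s ≠ r → s ≠ D.neg r → Sep D X r s := by
  intro r hr s hs h1 h2
  unfold sepCertOK at h
  rw [List.all_eq_true] at h
  have h3 := h r (List.mem_range.mpr hr)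
  rw [List.all_eq_true] at h3
  have h4 := h3 s (List.mem_range.mpr hs)
  simp only [Bool.or_eq_true, decide_eq_true_eq] at h4
  rcases h4 with (h4 | h4) | h4
  · exact absurd h4 h1
  · exact absurd h4 h2
  · exact sep_of_orthOK C hv0 hv2 h4

theorem sepCert_B2 : sepCertOK chevB2 = true := by decide +kernel

theorem sepCert_D4 : sepCertOK chevD4 = true := by decide +kernel

/-! ### A root element which is a commutator of root elements commuting with it -/

/-- `X r` is the commutator of `X γ` and `X δ`, and `γ`, `δ` commute with `r`. -/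
def SelfC (D : ChevalleyDatum) (r : ℕ) : Prop :=
  ∃ γ δ : ℕ, ∃ c : ℤ, γ < D.nroots ∧ δ < D.nroots ∧ δ ≠ γ ∧ δ ≠ D.neg γ ∧
    D.commTerms γ δ = [(r, c, 1, 1)] ∧ (c = 1 ∨ c = -1) ∧
    ∀ x ∈ [γ, δ], x ≠ r ∧ x ≠ D.neg r ∧ D.commTerms r x = []

theorem liftComm_self_C (C : Ctx D Ns wl ws sc bs X π) (hψ : CExt ψ)
    (hsep : ∀ r < D.nroots, ∀ s < D.nroots, s ≠ r → s ≠ D.neg r → Sep D X r s) {r : ℕ}
    (hr : r < D.nroots) (h : SelfC D r) (t : F) : LiftComm ψ X (X r t) r := by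
  obtain ⟨γ, δ, c, hγ, hδ, h1, h2, hterms, hc, hall⟩ := h
  have hmem : ∀ x ∈ [γ, δ], x < D.nroots → ∀ u : F, X x u ∈ liftCommSub hψ X r := by
    intro x hx hxlt u
    obtain ⟨h3, h4, h5⟩ := hall x hx
    exact liftComm_of_sep C hψ hr hxlt h3 h4 h5 (hsep r hr x hxlt h3 h4) u
  have hrel := C.hX.comm γ δ hγ hδ h1 h2 (-(c : F) * t) 1
  unfold ChevalleyDatum.commWord at hrel
  rw [hterms] at hrel
  simp only [List.map_cons, List.map_nil, wordP_cons, wordP_nil, mul_one, pow_one, one_pow] at hrel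
  have hc' : (c : F) * - (-(c : F) * t) = t := by
    rcases hc with rfl | rfl <;> simp
  rw [hc'] at hrel
  show X r t ∈ liftCommSub hψ X r
  rw [← hrel]
  have mγ := hmem γ (by simp) hγ
  have mδ := hmem δ (by simp) hδ
  exact Subgroup.mul_mem _ (Subgroup.mul_mem _ (Subgroup.mul_mem _ (Subgroup.inv_mem _ (mδ _))
      (Subgroup.inv_mem _ (mγ _))) (mδ _)) (mγ _)

/-- List version of `SelfC`. -/
def selfCOK (D : ChevalleyDatum) (r : ℕ) : Bool :=
  (List.range D.nroots).any fun γ => (List.range D.nroots).any fun δ =>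
    decide (δ ≠ γ ∧ δ ≠ D.neg γ ∧ (D.commTerms γ δ = [(r, 1, 1, 1)] ∨ D.commTerms γ δ = [(r, -1, 1, 1)]) ∧
      ∀ x ∈ [γ, δ], x ≠ r ∧ x ≠ D.neg r ∧ D.commTerms r x = [])

theorem selfC_of_ok {r : ℕ} (h : selfCOK D r = true) : SelfC D r := by
  unfold selfCOK at h
  rw [List.any_eq_true] at h
  obtain ⟨γ, hγ, h1⟩ := h
  rw [List.any_eq_true] at h1
  obtain ⟨δ, hδ, h2⟩ := h1
  rw [decide_eq_true_eq] at h2
  obtain ⟨h3, h4, h5, h6⟩ := h2
  rcases h5 with h5 | h5
  · exact ⟨γ, δ, 1, List.mem_range.mp hγ, List.mem_range.mp hδ, h3, h4, h5, Or.inl rfl, h6⟩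
  · exact ⟨γ, δ, -1, List.mem_range.mp hγ, List.mem_range.mp hδ, h3, h4, h5, Or.inr rfl, h6⟩

theorem selfC_D4 : (List.range chevD4.nroots).all (selfCOK chevD4) = true := by decide +kernel

/-! ### Type B2 in characteristic 2 -/

/-- `r = γ + δ` with `γ` long, `δ` short and orthogonal to `r`; `γ` and `γ + 2δ` commute with `r`. -/
def SelfD (D : ChevalleyDatum) (r : ℕ) : Prop :=
  ∃ γ δ k2 k3 : ℕ, ∃ c1 c2 c3 : ℤ, γ < D.nroots ∧ δ < D.nroots ∧ k2 < D.nroots ∧ k3 < D.nroots ∧ δ ≠ γ ∧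
    δ ≠ D.neg γ ∧ D.commTerms γ δ = [(r, c1, 1, 1), (k2, c2, 1, 2)] ∧ (c1 = 1 ∨ c1 = -1) ∧
    (∀ x ∈ [γ, k2], x ≠ r ∧ x ≠ D.neg r ∧ D.commTerms r x = []) ∧ δ ≠ r ∧ δ ≠ D.neg r ∧
    D.commTerms r δ = [(k3, c3, 1, 1)] ∧ (c3 = 2 ∨ c3 = -2) ∧ cartanL D r δ = 0

theorem liftComm_self_D (C : Ctx D Ns wl ws sc bs X π) (hψ : CExt ψ) (h2F : (2 : F) = 0) {v : F} (hv0 : v ≠ 0)
    (hv2 : v ^ 2 ≠ 1)
    (hsep : ∀ r < D.nroots, ∀ s < D.nroots, s ≠ r → s ≠ D.neg r → Sep D X r s) {r : ℕ}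
    (hr : r < D.nroots) (h : SelfD D r) (t : F) : LiftComm ψ X (X r t) r := by
  obtain ⟨γ, δ, k2, k3, c1, c2, c3, hγ, hδ, hk2, hk3, h1, h2, hterms, hc1, hall, hδr, hδn, hterms3, hc3, hcar⟩ := h
  have hmem : ∀ x ∈ [γ, k2], x < D.nroots → ∀ u : F, X x u ∈ liftCommSub hψ X r := by
    intro x hx hxlt u
    obtain ⟨h3, h4, h5⟩ := hall x hx
    exact liftComm_of_sep C hψ hr hxlt h3 h4 h5 (hsep r hr x hxlt h3 h4) u
  -- `X δ u` commutes with `X r s` since `2 = 0`
  have hc3F : (c3 : F) = 0 := by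
    rcases hc3 with rfl | rfl
    · push_cast
      exact h2F
    · push_cast
      rw [h2F, neg_zero]
  have hcomm : ∀ (u s : F), X δ u * X r s = X r s * X δ u := by
    intro u s
    have := C.hX.comm r δ hr hδ hδr hδn s u
    unfold ChevalleyDatum.commWord at this
    rw [hterms3] at this
    simp only [List.map_cons, List.map_nil, wordP_cons, wordP_nil, mul_one, pow_one] at this
    rw [hc3F, zero_mul, zero_mul, C.hX.zero k3 hk3] at this
    calc X δ u * X r s = X r s * X δ u * ((X δ u)⁻¹ * (X r s)⁻¹ * X δ u * X r s) := by group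
      _ = X r s * X δ u := by rw [this, mul_one]
  have mδ : ∀ u : F, X δ u ∈ liftCommSub hψ X r := by
    intro u
    have hT := C.torAct_hR r hr v hv0
    apply liftComm_of_tor hψ C.hX hr (hcomm u) hT
    · show v ^ cartanR D r r ≠ 1
      rw [C.car r hr]
      exact zpow_ne_one_of_small hv0 hv2 (Or.inr (Or.inr (Or.inl rfl)))
    · have := (hT δ hδ).2 u
      beta_reduce at this
      rw [← cartanL_eq, hcar, zpow_zero, one_mul] at this
      exact this
  have hrel := C.hX.comm γ δ hγ hδ h1 h2 (-(c1 : F) * t) 1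
  unfold ChevalleyDatum.commWord at hrel
  rw [hterms] at hrel
  simp only [List.map_cons, List.map_nil, wordP_cons, wordP_nil, mul_one, pow_one, one_pow] at hrel
  have hc' : (c1 : F) * - (-(c1 : F) * t) = t := by
    rcases hc1 with rfl | rfl <;> simp
  rw [hc'] at hrel
  have hX : X r t = ((X δ 1)⁻¹ * (X γ (-(c1 : F) * t))⁻¹ * X δ 1 * X γ (-(c1 : F) * t)) *
      (X k2 ((c2 : F) * - (-(c1 : F) * t)))⁻¹ := by
    rw [hrel]
    group
  show X r t ∈ liftCommSub hψ X r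
  rw [hX]
  have mγ := hmem γ (by simp) hγ
  have mk := hmem k2 (by simp) hk2
  exact Subgroup.mul_mem _ (Subgroup.mul_mem _ (Subgroup.mul_mem _ (Subgroup.mul_mem _ (Subgroup.inv_mem _ (mδ _))
      (Subgroup.inv_mem _ (mγ _))) (mδ _)) (mγ _)) (Subgroup.inv_mem _ (mk _))

/-- List version of `SelfD`. -/
def selfDOK (D : ChevalleyDatum) (r : ℕ) : Bool :=
  (List.range D.nroots).any fun γ => (List.range D.nroots).any fun δ =>
    match D.commTerms γ δ, D.commTerms r δ with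
    | [(r', c1, 1, 1), (k2, _, 1, 2)], [(k3, c3, 1, 1)] =>
      decide (r' = r ∧ k2 < D.nroots ∧ k3 < D.nroots ∧ δ ≠ γ ∧ δ ≠ D.neg γ ∧ (c1 = 1 ∨ c1 = -1) ∧
        (∀ x ∈ [γ, k2], x ≠ r ∧ x ≠ D.neg r ∧ D.commTerms r x = []) ∧ δ ≠ r ∧ δ ≠ D.neg r ∧
        (c3 = 2 ∨ c3 = -2) ∧ cartanL D r δ = 0)
    | _, _ => false

theorem selfD_of_ok {r : ℕ} (h : selfDOK D r = true) : SelfD D r := by
  unfold selfDOK at h
  rw [List.any_eq_true] at h
  obtain ⟨γ, hγ, h1⟩ := h
  rw [List.any_eq_true] at h1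
  obtain ⟨δ, hδ, h2⟩ := h1
  split at h2
  · rename_i r' c1 k2 c2 k3 c3 heq1 heq2
    rw [decide_eq_true_eq] at h2
    obtain ⟨rfl, h3, h4, h5, h6, h7, h8, h9, h10, h11, h12⟩ := h2
    exact ⟨γ, δ, k2, k3, c1, c2, c3, List.mem_range.mp hγ, List.mem_range.mp hδ, h3, h4, h5, h6, heq1, h7, h8, h9,
      h10, heq2, h11, h12⟩
  · exact absurd h2 (by simp)

/-! ### The lifts of the root subgroups commute -/

theorem hself_D4 {X : ℕ → F → Γ} {π : Γ →* GL chevD4.Idx F} (C : Ctx chevD4 Ns wl ws sc bs X π) (hψ : CExt ψ)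
    {v : F} (hv0 : v ≠ 0) (hv2 : v ^ 2 ≠ 1) :
    ∀ r < chevD4.nroots, ∀ t : F, LiftComm ψ X (X r t) r := by
  intro r hr t
  have h := selfC_D4
  rw [List.all_eq_true] at h
  exact liftComm_self_C C hψ (sep_all_of_cert C hv0 hv2 sepCert_D4) hr
    (selfC_of_ok (h r (List.mem_range.mpr hr))) t

theorem selfD_B2_1 : selfDOK chevB2 1 = true := by decide +kernel
theorem selfD_B2_2 : selfDOK chevB2 2 = true := by decide +kernel
theorem selfD_B2_5 : selfDOK chevB2 5 = true := by decide +kernel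
theorem selfD_B2_6 : selfDOK chevB2 6 = true := by decide +kernel

theorem hself_B2 {X : ℕ → F → Γ} {π : Γ →* GL chevB2.Idx F} (C : Ctx chevB2 Ns wl ws sc bs X π) (hψ : CExt ψ)
    (h2F : (2 : F) = 0) {v : F} (hv0 : v ≠ 0) (hv2 : v ^ 2 ≠ 1) :
    ∀ r < chevB2.nroots, ∀ t : F, LiftComm ψ X (X r t) r := by
  intro r hr t
  have hsep := sep_all_of_cert C hv0 hv2 sepCert_B2
  have hr8 : r < 8 := hr
  interval_cases r
  · exact liftComm_self_B C hψ hsep hr
      (Cfsg.Agent.Lib.Helper81_UceCertA.selfB_B2 0 3 2 1 (-1) (-1) (by decide +kernel)) t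
  · exact liftComm_self_D C hψ h2F hv0 hv2 hsep hr (selfD_of_ok selfD_B2_1) t
  · exact liftComm_self_D C hψ h2F hv0 hv2 hsep hr (selfD_of_ok selfD_B2_2) t
  · exact liftComm_self_B C hψ hsep hr
      (Cfsg.Agent.Lib.Helper81_UceCertA.selfB_B2 3 0 5 1 1 (-1) (by decide +kernel)) t
  · exact liftComm_self_B C hψ hsep hr
      (Cfsg.Agent.Lib.Helper81_UceCertA.selfB_B2 4 0 6 2 (-1) 1 (by decide +kernel)) t
  · exact liftComm_self_D C hψ h2F hv0 hv2 hsep hr (selfD_of_ok selfD_B2_5) t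
  · exact liftComm_self_D C hψ h2F hv0 hv2 hsep hr (selfD_of_ok selfD_B2_6) t
  · exact liftComm_self_B C hψ hsep hr
      (Cfsg.Agent.Lib.Helper81_UceCertA.selfB_B2 7 3 6 5 1 1 (by decide +kernel)) t

/-! ### Central extensions split -/

/-- From the separation certificate and the commuting of the lifts of the root subgroups: every central extension of
the presented group splits. -/
theorem exists_section_of (D : ChevalleyDatum)
    (hD : D ∈ [chevG2, chevB2, chevD4, chevF4, chevE6, chevE7, chevE8]) (hcert : sepCertOK D = true)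
    {v : F} (hv0 : v ≠ 0) (hv2 : v ^ 2 ≠ 1) {E : Type*} [Group E] (ψ : E →* D.SteinbergCover F) (hψ : CExt ψ)
    (hself : ∀ {Ns : List NData} {wl : List ℤ} {ws : List (List ℤ)} {sc : ℤ} {bs : List BData}
      {π : D.SteinbergCover F →* GL D.Idx F}, Ctx D Ns wl ws sc bs (pGen D (D.steinbergRelsAB F)) π →
      ∀ r < D.nroots, ∀ t : F, LiftComm ψ (pGen D (D.steinbergRelsAB F)) (pGen D (D.steinbergRelsAB F) r t) r) :
    ∃ s : D.SteinbergCover F →* E, ψ.comp s = MonoidHom.id _ := by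
  obtain ⟨Ns, wl, ws, sc, bs, π, C⟩ := exists_ctx (F := F) D hD
  obtain ⟨hP, -⟩ := pCert_of_mem D hD
  have hY := stGrp_Y' C hψ hP (hself C) hv0 hv2
    (fun r hr s hs h1 h2 => Or.inl (sep_all_of_cert C hv0 hv2 hcert r hr s hs h1 h2))
  obtain ⟨s, hs⟩ := exists_hom_of_stGrp C.c C.tc C.ac hY
  refine ⟨s, ?_⟩
  apply PresentedGroup.ext
  intro x
  rw [MonoidHom.comp_apply, of_eq_pGen, hs x.1 x.1.2 x.2, map_Y C hψ hv0 hv2 x.1 x.1.2 x.2]
  rfl

/-- Type D4, at least four elements. -/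
theorem exists_section_D4 {v : F} (hv0 : v ≠ 0) (hv2 : v ^ 2 ≠ 1) {E : Type*} [Group E]
    (ψ : E →* chevD4.SteinbergCover F) (hψ : CExt ψ) :
    ∃ s : chevD4.SteinbergCover F →* E, ψ.comp s = MonoidHom.id _ :=
  exists_section_of chevD4 (by simp) sepCert_D4 hv0 hv2 ψ hψ (fun C => hself_D4 C hψ hv0 hv2)

/-- Type B2, characteristic 2, at least four elements. -/
theorem exists_section_B2 (h2F : (2 : F) = 0) {v : F} (hv0 : v ≠ 0) (hv2 : v ^ 2 ≠ 1) {E : Type*} [Group E]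
    (ψ : E →* chevB2.SteinbergCover F) (hψ : CExt ψ) :
    ∃ s : chevB2.SteinbergCover F →* E, ψ.comp s = MonoidHom.id _ :=
  exists_section_of chevB2 (by simp) sepCert_B2 hv0 hv2 ψ hψ (fun C => hself_B2 C hψ h2F hv0 hv2)

/-- A field with four elements has characteristic 2 and an element `v ≠ 0` with `v² ≠ 1`. -/
theorem four_facts [Fintype F] (hF : Fintype.card F = 4) : (2 : F) = 0 ∧ ∃ v : F, v ≠ 0 ∧ v ^ 2 ≠ 1 := by
  classical
  have h2 : (2 : F) = 0 := by
    obtain ⟨p, hp⟩ := CharP.exists F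
    haveI := hp
    obtain ⟨n, hpp, hn⟩ := FiniteField.card F p
    rw [hF] at hn
    have hp2 : p = 2 := by
      have h1 : p ∣ 4 := by
        rw [hn]
        exact dvd_pow_self p n.ne_zero
      have h2 : p ∣ 2 ^ 2 := by norm_num; exact h1
      exact (Nat.prime_dvd_prime_iff_eq hpp Nat.prime_two).mp (hpp.dvd_of_dvd_pow h2)
    subst hp2
    exact_mod_cast CharP.cast_eq_zero F 2
  refine ⟨h2, ?_⟩
  have hcard : ({0, 1} : Finset F).card < Fintype.card F := by
    have := Finset.card_le_two (a := (0 : F)) (b := 1)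
    omega
  obtain ⟨v, -, hv⟩ := Finset.exists_mem_notMem_of_card_lt_card (s := ({0, 1} : Finset F)) (t := Finset.univ)
    (by rw [Finset.card_univ]; exact hcard)
  simp only [Finset.mem_insert, Finset.mem_singleton, not_or] at hv
  refine ⟨v, hv.1, ?_⟩
  intro h
  have h3 : (v - 1) ^ 2 = 0 := by
    have : (v - 1) ^ 2 = v ^ 2 - 2 * v + 1 := by ring
    rw [this, h, h2, zero_mul, sub_zero]
    have : (1 : F) + 1 = 2 := by norm_num
    rw [this, h2]
  exact hv.2 (sub_eq_zero.mp ((pow_eq_zero_iff (n := 2) (by norm_num)).mp h3))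

end Cfsg.Agent.Lib.Helper81_S2400_F4
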