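import Mathlib
import Cfsg.Agent.Lib.Helper81_S2400_F4
import Cfsg.Agent.Lib.Helper26_S2400_TWODEC

set_option autoImplicit false
set_option linter.unusedSectionVars false
set_option linter.unusedVariables false
set_option maxRecDepth 100000

/-!
# Characteristic three: pairs of commuting roots not separated by a toral element (helper35, for S2103 / S2400)

Over a field with `3 = 0` the toral elements `h_g(-1)` act on the root elements by the signs `(-1) ^ ⟨s, g⟩`.  Two roots
`r`, `s` are separated if some `g` has pairings of different parity with them (`sep3OK`).  For a commuting pair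
`(r, x)` which is not separated (the orthogonal pairs of `D4`, the orthogonal long pairs of `F4`) the lifts of the
root elements commute by Milnor's trick with two decompositions (`Helper26_S2400_TWODEC.TWODEC`), applied to roots
`p, q, y, q'` with `p + q = r`, `p + x = y`, `y + q' = r`, `q' + x = q` found by a Boolean certificate (`twoDecOK`).
The result is the hypothesis `Sep ∨ RelB` of `Helper81_UceG.stGrp_of_liftSys'` for any system of lifts.
-/

namespace Cfsg.Agent.Lib.Helper35_Uce3C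

open Cfsg Cfsg.Lie Cfsg.Agent.Lib.Helper18_ChevFast Cfsg.Agent.Lib.Helper18_ChevEngine
  Cfsg.Agent.Lib.Helper18_ChevR1 Cfsg.Agent.Lib.Helper18_ChevN Cfsg.Agent.Lib.Helper18_ChevR4
  Cfsg.Agent.Lib.Helper18_ChevSimple Cfsg.Agent.Lib.Helper18_ChevSimple2 Cfsg.Agent.Lib.Helper18_ChevFacts
  Cfsg.Agent.Lib.Helper18_ChevWeyl Cfsg.Agent.Lib.Helper18_ChevDiag Cfsg.Agent.Lib.Helper18_ChevCar
  Cfsg.Agent.Lib.Helper18_ChevTorus Cfsg.Agent.Lib.Helper18_ChevGL Cfsg.Agent.Lib.Helper18_ChevComm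
  Cfsg.Agent.Lib.Helper18_ChevComm2 Cfsg.Agent.Lib.Helper18_MatTri Cfsg.Agent.Lib.Helper18_ChevTri
  Cfsg.Agent.Lib.Helper18_ChevBorel Cfsg.Agent.Lib.Helper18_ChevAdd Cfsg.Agent.Lib.Helper18_ChevUni
  Cfsg.Agent.Lib.Helper81_StUniq Cfsg.Agent.Lib.Helper81_StAbs Cfsg.Agent.Lib.Helper81_StL37
  Cfsg.Agent.Lib.Helper81_StBruhat Cfsg.Agent.Lib.Helper81_StTorus
  Cfsg.Agent.Lib.Helper81_StR3 Cfsg.Agent.Lib.Helper81_StMain Cfsg.Agent.Lib.Helper81_UceA
  Cfsg.Agent.Lib.Helper81_UceB Cfsg.Agent.Lib.Helper81_UceC Cfsg.Agent.Lib.Helper81_UceD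
  Cfsg.Agent.Lib.Helper81_UceE Cfsg.Agent.Lib.Helper81_UceF Cfsg.Agent.Lib.Helper81_UceG
  Cfsg.Agent.Lib.Helper81_UceMain

variable {D : ChevalleyDatum} {Ns : List NData} {F : Type*} [Field F] {Γ : Type*} [Group Γ]
variable {wl : List ℤ} {ws : List (List ℤ)} {sc : ℤ} {bs : List BData} {X : ℕ → F → Γ} {π : Γ →* GL D.Idx F}
variable {E : Type*} [Group E] {ψ : E →* Γ} {Z : ℕ → F → E}

/-! ### Separation by `h_g(-1)` -/

theorem neg_one_ne_one (h3 : (3 : F) = 0) : (-1 : F) ≠ 1 := by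
  intro h
  have h2 : (2 : F) = 0 := by
    have : (2 : F) = 1 - (-1) := by norm_num
    rw [this, h, sub_self]
  have : (1 : F) = 0 := by
    have h1 : (1 : F) = 3 - 2 := by norm_num
    rw [h1, h3, h2, sub_zero]
  exact one_ne_zero this

theorem neg_one_zpow_of_odd {n : ℤ} (h : n % 2 = 1) : ((-1 : F)) ^ n = -1 := by
  have : Odd n := Int.odd_iff.mpr h
  exact this.neg_one_zpow

theorem neg_one_zpow_of_even {n : ℤ} (h : n % 2 = 0) : ((-1 : F)) ^ n = 1 := by
  have : Even n := Int.even_iff.mpr h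
  exact this.neg_one_zpow

/-- Some root `g` has pairings of different parity with `r` and `s`. -/
def sep3OK (D : ChevalleyDatum) (r s : ℕ) : Bool :=
  (List.range D.nroots).any fun g =>
    (decide (cartanL D g r % 2 = 1) && decide (cartanL D g s % 2 = 0)) ||
    (decide (cartanL D g r % 2 = 0) && decide (cartanL D g s % 2 = 1))

theorem sep_of_sep3OK (C : Ctx D Ns wl ws sc bs X π) (h3 : (3 : F) = 0) {r s : ℕ}
    (h : sep3OK D r s = true) : Sep D X r s := by
  unfold sep3OK at h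
  rw [List.any_eq_true] at h
  obtain ⟨g, hg, h1⟩ := h
  have hg' : g < D.nroots := List.mem_range.mp hg
  have hne : (-1 : F) ≠ 0 := by simp
  simp only [Bool.or_eq_true, Bool.and_eq_true, decide_eq_true_eq, cartanL_eq] at h1
  refine ⟨hR D X g (-1), _, C.torAct_hR g hg' (-1) hne, ?_⟩
  rcases h1 with ⟨h1, h2⟩ | ⟨h1, h2⟩
  · left
    refine ⟨?_, ?_⟩
    · show (-1 : F) ^ cartanR D g r ≠ 1
      rw [neg_one_zpow_of_odd h1]
      exact neg_one_ne_one h3
    · show (-1 : F) ^ cartanR D g s = 1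
      exact neg_one_zpow_of_even h2
  · right
    refine ⟨?_, ?_⟩
    · show (-1 : F) ^ cartanR D g r = 1
      exact neg_one_zpow_of_even h1
    · show (-1 : F) ^ cartanR D g s ≠ 1
      rw [neg_one_zpow_of_odd h2]
      exact neg_one_ne_one h3

/-! ### Commuting pairs -/

/-- `s ≠ ±r`, the root elements of `r` and `s` commute, and `r`, `s` are separated. -/
def commSepOK (D : ChevalleyDatum) (r s : ℕ) : Bool :=
  decide (s ≠ r) && decide (s ≠ D.neg r) && decide (D.commTerms r s = []) && sep3OK D r s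

theorem liftComm_of_commSepOK (C : Ctx D Ns wl ws sc bs X π) (hψ : CExt ψ) (h3 : (3 : F) = 0) {r s : ℕ}
    (hr : r < D.nroots) (hs : s < D.nroots) (h : commSepOK D r s = true) (u : F) :
    LiftComm ψ X (X s u) r := by
  unfold commSepOK at h
  simp only [Bool.and_eq_true, decide_eq_true_eq] at h
  obtain ⟨⟨⟨h1, h2⟩, h4⟩, h5⟩ := h
  exact liftComm_of_sep C hψ hr hs h1 h2 h4 (sep_of_sep3OK C h3 h5) u

/-- A single commutator term `[(k, c, 1, 1)]` with `c = ±1`. -/
def singleOK (D : ChevalleyDatum) (a b k : ℕ) : Bool :=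
  decide (b ≠ a) && decide (b ≠ D.neg a) &&
    (decide (D.commTerms a b = [(k, 1, 1, 1)]) || decide (D.commTerms a b = [(k, -1, 1, 1)]))

/-- The sign of the single commutator term. -/
def sgn (D : ChevalleyDatum) (a b : ℕ) : ℤ := ((D.commTerms a b).head?.map fun c => c.2.1).getD 0

theorem single_rel (hX : StGrp D X) {a b k : ℕ} (ha : a < D.nroots) (hb : b < D.nroots)
    (h : singleOK D a b k = true) :
    (sgn D a b = 1 ∨ sgn D a b = -1) ∧
    ∀ t u : F, (X b u)⁻¹ * (X a t)⁻¹ * X b u * X a t = X k (((sgn D a b : ℤ) : F) * (-t) * u) := by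
  unfold singleOK at h
  simp only [Bool.and_eq_true, Bool.or_eq_true, decide_eq_true_eq] at h
  obtain ⟨⟨h1, h2⟩, h3⟩ := h
  have hrel := hX.comm a b ha hb h1 h2
  unfold ChevalleyDatum.commWord at hrel
  rcases h3 with h3 | h3
  · have hs : sgn D a b = 1 := by
      unfold sgn
      rw [h3]
      rfl
    refine ⟨Or.inl hs, fun t u => ?_⟩
    rw [hrel, h3, hs]
    simp only [List.map_cons, List.map_nil, wordP_cons, wordP_nil, mul_one, pow_one]
  · have hs : sgn D a b = -1 := by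
      unfold sgn
      rw [h3]
      rfl
    refine ⟨Or.inr hs, fun t u => ?_⟩
    rw [hrel, h3, hs]
    simp only [List.map_cons, List.map_nil, wordP_cons, wordP_nil, mul_one, pow_one]

/-! ### The two decompositions -/

/-- The certificate for the pair `(r, x)` with the auxiliary roots `p, q, y, q'`. -/
def twoDecOK (D : ChevalleyDatum) (r x : ℕ) (w : ℕ × ℕ × ℕ × ℕ) : Bool :=
  let p := w.1
  let q := w.2.1
  let y := w.2.2.1
  let q' := w.2.2.2
  decide (p < D.nroots) && decide (q < D.nroots) && decide (y < D.nroots) && decide (q' < D.nroots) &&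
  singleOK D p q r && singleOK D p x y && singleOK D y q' r && singleOK D q' x q &&
  decide (sgn D p q * sgn D p x + sgn D y q' * sgn D q' x = 0) &&
  decide (q ≠ y) && decide (q ≠ D.neg y) && decide (D.commTerms y q = []) &&
  commSepOK D q x && commSepOK D r y && commSepOK D y x && commSepOK D r q

theorem liftComm_of_twoDecOK (C : Ctx D Ns wl ws sc bs X π) (hψ : CExt ψ) (h3 : (3 : F) = 0) {r x : ℕ}
    (hr : r < D.nroots) (hx : x < D.nroots) {w : ℕ × ℕ × ℕ × ℕ} (h : twoDecOK D r x w = true) (u : F) :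
    LiftComm ψ X (X x u) r := by
  obtain ⟨p, q, y, q'⟩ := w
  unfold twoDecOK at h
  simp only [Bool.and_eq_true, decide_eq_true_eq] at h
  obtain ⟨⟨⟨⟨⟨⟨⟨⟨⟨⟨⟨⟨⟨⟨⟨hp, hq⟩, hy⟩, hq'⟩, s1⟩, s2⟩, s3⟩, s4⟩, hsign⟩, n1⟩, n2⟩, hyq⟩, k1⟩, k2⟩, k3⟩, k4⟩ := h
  obtain ⟨hc1, T1⟩ := single_rel (F := F) C.hX hp hq s1
  obtain ⟨hc2, T2⟩ := single_rel (F := F) C.hX hp hx s2
  obtain ⟨hc3, T3⟩ := single_rel (F := F) C.hX hy hq' s3
  obtain ⟨hc4, T4⟩ := single_rel (F := F) C.hX hq' hx s4
  have cast : ∀ {c : ℤ}, (c = 1 ∨ c = -1) → (((c : ℤ) : F) = 1 ∨ ((c : ℤ) : F) = -1) := by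
    intro c hc
    rcases hc with rfl | rfl
    · left; simp
    · right; simp
  have hsignF : ((sgn D p q : ℤ) : F) * ((sgn D p x : ℤ) : F) + ((sgn D y q' : ℤ) : F) * ((sgn D q' x : ℤ) : F)
      = 0 := by
    have := congrArg (fun z : ℤ => (z : F)) hsign
    simpa using this
  have hcomm : ∀ t u : F, X y t * X q u = X q u * X y t := by
    intro t u
    have := C.hX.comm y q hy hq n1 n2 t u
    unfold ChevalleyDatum.commWord at this
    rw [hyq, List.map_nil, wordP_nil] at this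
    symm
    calc X q u * X y t = X y t * X q u * ((X q u)⁻¹ * (X y t)⁻¹ * X q u * X y t) := by group
      _ = X y t * X q u := by rw [this, mul_one]
  have L := Cfsg.Agent.Lib.Helper26_S2400_TWODEC.TWODEC h3 hψ (X r) (X x) (X p) (X q) (X y) (X q')
    (fun t u => (C.hX.add y hy t u).symm) (fun t u => (C.hX.add q hq t u).symm)
    _ _ _ _ (cast hc1) (cast hc2) (cast hc3) (cast hc4) hsignF T1 T2 T3 T4 hcomm
    (fun a b t u ha hb => liftComm_of_commSepOK C hψ h3 hq hx k1 t a b u ha hb)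
    (fun a b t u ha hb => liftComm_of_commSepOK C hψ h3 hr hy k2 t a b u ha hb)
    (fun a b t u ha hb => liftComm_of_commSepOK C hψ h3 hy hx k3 t a b u ha hb)
    (fun a b t u ha hb => liftComm_of_commSepOK C hψ h3 hr hq k4 t a b u ha hb)
  intro a b t ha hb
  exact L a b u t ha hb

/-! ### The hypothesis `Sep ∨ RelB` -/

/-- The commutator relation of a commuting pair, from the commuting of the lifts. -/
theorem relB_of_liftComm (S : LiftSys D X ψ Z) {r s : ℕ} (hr : r < D.nroots) (hs : s < D.nroots)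
    (hcomm : D.commTerms r s = []) (h : ∀ u : F, LiftComm ψ X (X s u) r) : RelB D Z r s := by
  intro t u
  unfold ChevalleyDatum.commWord
  rw [hcomm, List.map_nil, wordP_nil]
  have := h u (Z s u) (Z r t) t (S.map s hs u) (S.map r hr t)
  calc (Z s u)⁻¹ * (Z r t)⁻¹ * Z s u * Z r t = (Z s u)⁻¹ * (Z r t)⁻¹ * (Z s u * Z r t) := by group
    _ = (Z s u)⁻¹ * (Z r t)⁻¹ * (Z r t * Z s u) := by rw [this]
    _ = 1 := by group

/-- The certificate for the pair `(r, s)`: separated, or commuting with two decompositions. -/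
def pairOK (D : ChevalleyDatum) (wit : ℕ → ℕ → ℕ × ℕ × ℕ × ℕ) (r s : ℕ) : Bool :=
  sep3OK D r s || (decide (D.commTerms r s = []) && twoDecOK D r s (wit r s))

theorem sep_or_relB_of_pairOK (C : Ctx D Ns wl ws sc bs X π) (S : LiftSys D X ψ Z) (h3 : (3 : F) = 0)
    {wit : ℕ → ℕ → ℕ × ℕ × ℕ × ℕ} {r s : ℕ} (hr : r < D.nroots) (hs : s < D.nroots)
    (h : pairOK D wit r s = true) : Sep D X r s ∨ RelB D Z r s := by
  unfold pairOK at h
  rw [Bool.or_eq_true] at h
  rcases h with h | h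
  · exact Or.inl (sep_of_sep3OK C h3 h)
  · rw [Bool.and_eq_true, decide_eq_true_eq] at h
    exact Or.inr (relB_of_liftComm S hr hs h.1 (fun u => liftComm_of_twoDecOK C S.ext h3 hr hs h.2 u))

/-- The row of the certificate at the root `r`. -/
def rowOK (D : ChevalleyDatum) (wit : ℕ → ℕ → ℕ × ℕ × ℕ × ℕ) (r : ℕ) : Bool :=
  (List.range D.nroots).all fun s => decide (s = r) || decide (s = D.neg r) || pairOK D wit r s

theorem sep_or_relB_of_rows (C : Ctx D Ns wl ws sc bs X π) (S : LiftSys D X ψ Z) (h3 : (3 : F) = 0)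
    {wit : ℕ → ℕ → ℕ × ℕ × ℕ × ℕ} (h : ∀ r < D.nroots, rowOK D wit r = true) :
    ∀ r < D.nroots, ∀ s < D.nroots, s ≠ r → s ≠ D.neg r → Sep D X r s ∨ RelB D Z r s := by
  intro r hr s hs h1 h2
  have h4 := h r hr
  unfold rowOK at h4
  rw [List.all_eq_true] at h4
  have h5 := h4 s (List.mem_range.mpr hs)
  simp only [Bool.or_eq_true, decide_eq_true_eq] at h5
  rcases h5 with (h5 | h5) | h5
  · exact absurd h5 h1
  · exact absurd h5 h2
  · exact sep_or_relB_of_pairOK C S h3 hr hs h5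

theorem rows_of_all {wit : ℕ → ℕ → ℕ × ℕ × ℕ × ℕ}
    (h : (List.range D.nroots).all (rowOK D wit) = true) : ∀ r < D.nroots, rowOK D wit r = true := by
  intro r hr
  rw [List.all_eq_true] at h
  exact h r (List.mem_range.mpr hr)

end Cfsg.Agent.Lib.Helper35_Uce3C
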