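import Mathlib
import Cfsg.Agent.Lib.Helper35_Uce3C

set_option autoImplicit false
set_option maxRecDepth 100000

/-!
# Characteristic three, type D4: the certificate `Sep ∨ two decompositions` for all pairs of roots (helper35)
Generated by scratch/f4/gen3c.py.
-/

namespace Cfsg.Agent.Lib.Helper35_Uce3CertD4

open Cfsg Cfsg.Lie Cfsg.Agent.Lib.Helper35_Uce3C

/-- the auxiliary roots `(p, q, y, q')` for the pairs which are not separated -/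
def tbl : Array (Array (ℕ × ℕ × ℕ × ℕ)) := #[
  #[(0, 0, 0, 0), (0, 0, 0, 0), (0, 0, 0, 0), (0, 0, 0, 0), (0, 0, 0, 0), (6, 4, 1, 9), (0, 0, 0, 0), (0, 0, 0, 0), (0, 0, 0, 0), (0, 0, 0, 0), (3, 7, 1, 9), (2, 8, 1, 9), (1, 9, 2, 8), (1, 9, 3, 7), (0, 0, 0, 0), (0, 0, 0, 0), (0, 0, 0, 0), (0, 0, 0, 0), (1, 9, 6, 4), (0, 0, 0, 0), (0, 0, 0, 0), (0, 0, 0, 0), (0, 0, 0, 0), (0, 0, 0, 0)],
  #[(0, 0, 0, 0), (0, 0, 0, 0), (0, 0, 0, 0), (0, 0, 0, 0), (6, 5, 0, 14), (0, 0, 0, 0), (0, 0, 0, 0), (3, 10, 0, 14), (2, 11, 0, 14), (0, 0, 0, 0), (0, 0, 0, 0), (0, 0, 0, 0), (0, 0, 0, 0), (0, 0, 0, 0), (0, 0, 0, 0), (0, 14, 2, 11), (0, 14, 3, 10), (0, 0, 0, 0), (0, 0, 0, 0), (0, 14, 6, 5), (0, 0, 0, 0), (0, 0, 0, 0), (0, 0, 0, 0), (0, 0, 0, 0)],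
  #[(0, 0, 0, 0), (0, 0, 0, 0), (0, 0, 0, 0), (7, 5, 0, 15), (0, 0, 0, 0), (0, 0, 0, 0), (4, 10, 0, 15), (0, 0, 0, 0), (0, 0, 0, 0), (1, 12, 0, 15), (0, 0, 0, 0), (0, 0, 0, 0), (0, 0, 0, 0), (0, 0, 0, 0), (0, 15, 1, 12), (0, 0, 0, 0), (0, 0, 0, 0), (0, 15, 4, 10), (0, 0, 0, 0), (0, 0, 0, 0), (0, 15, 7, 5), (0, 0, 0, 0), (0, 0, 0, 0), (0, 0, 0, 0)],
  #[(0, 0, 0, 0), (0, 0, 0, 0), (8, 5, 0, 16), (0, 0, 0, 0), (0, 0, 0, 0), (0, 0, 0, 0), (4, 11, 0, 16), (0, 0, 0, 0), (0, 0, 0, 0), (1, 13, 0, 16), (0, 0, 0, 0), (0, 0, 0, 0), (0, 0, 0, 0), (0, 0, 0, 0), (0, 16, 1, 13), (0, 0, 0, 0), (0, 0, 0, 0), (0, 16, 4, 11), (0, 0, 0, 0), (0, 0, 0, 0), (0, 0, 0, 0), (0, 16, 8, 5), (0, 0, 0, 0), (0, 0, 0, 0)],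
  #[(0, 0, 0, 0), (9, 5, 0, 17), (0, 0, 0, 0), (0, 0, 0, 0), (0, 0, 0, 0), (0, 0, 0, 0), (0, 0, 0, 0), (3, 12, 0, 17), (2, 13, 0, 17), (0, 0, 0, 0), (0, 0, 0, 0), (0, 0, 0, 0), (0, 0, 0, 0), (0, 0, 0, 0), (0, 0, 0, 0), (0, 17, 2, 13), (0, 17, 3, 12), (0, 0, 0, 0), (0, 0, 0, 0), (0, 0, 0, 0), (0, 0, 0, 0), (0, 0, 0, 0), (0, 17, 9, 5), (0, 0, 0, 0)],
  #[(14, 4, 1, 17), (0, 0, 0, 0), (0, 0, 0, 0), (0, 0, 0, 0), (0, 0, 0, 0), (0, 0, 0, 0), (0, 0, 0, 0), (0, 0, 0, 0), (0, 0, 0, 0), (0, 0, 0, 0), (3, 15, 1, 17), (2, 16, 1, 17), (1, 17, 2, 16), (1, 17, 3, 15), (0, 0, 0, 0), (0, 0, 0, 0), (0, 0, 0, 0), (0, 0, 0, 0), (0, 0, 0, 0), (0, 0, 0, 0), (0, 0, 0, 0), (0, 0, 0, 0), (0, 0, 0, 0), (1, 17, 14, 4)],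
  #[(0, 0, 0, 0), (0, 0, 0, 0), (8, 10, 0, 19), (7, 11, 0, 19), (0, 0, 0, 0), (0, 0, 0, 0), (0, 0, 0, 0), (0, 0, 0, 0), (0, 0, 0, 0), (1, 18, 0, 19), (0, 0, 0, 0), (0, 0, 0, 0), (0, 0, 0, 0), (0, 0, 0, 0), (0, 19, 1, 18), (0, 0, 0, 0), (0, 0, 0, 0), (0, 0, 0, 0), (0, 0, 0, 0), (0, 0, 0, 0), (0, 19, 7, 11), (0, 19, 8, 10), (0, 0, 0, 0), (0, 0, 0, 0)],
  #[(0, 0, 0, 0), (9, 10, 0, 20), (0, 0, 0, 0), (0, 0, 0, 0), (6, 12, 0, 20), (0, 0, 0, 0), (0, 0, 0, 0), (0, 0, 0, 0), (2, 18, 0, 20), (0, 0, 0, 0), (0, 0, 0, 0), (0, 0, 0, 0), (0, 0, 0, 0), (0, 0, 0, 0), (0, 0, 0, 0), (0, 20, 2, 18), (0, 0, 0, 0), (0, 0, 0, 0), (0, 0, 0, 0), (0, 20, 6, 12), (0, 0, 0, 0), (0, 0, 0, 0), (0, 20, 9, 10), (0, 0, 0, 0)],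
  #[(0, 0, 0, 0), (9, 11, 0, 21), (0, 0, 0, 0), (0, 0, 0, 0), (6, 13, 0, 21), (0, 0, 0, 0), (0, 0, 0, 0), (3, 18, 0, 21), (0, 0, 0, 0), (0, 0, 0, 0), (0, 0, 0, 0), (0, 0, 0, 0), (0, 0, 0, 0), (0, 0, 0, 0), (0, 0, 0, 0), (0, 0, 0, 0), (0, 21, 3, 18), (0, 0, 0, 0), (0, 0, 0, 0), (0, 21, 6, 13), (0, 0, 0, 0), (0, 0, 0, 0), (0, 21, 9, 11), (0, 0, 0, 0)],
  #[(0, 0, 0, 0), (0, 0, 0, 0), (8, 12, 0, 22), (7, 13, 0, 22), (0, 0, 0, 0), (0, 0, 0, 0), (4, 18, 0, 22), (0, 0, 0, 0), (0, 0, 0, 0), (0, 0, 0, 0), (0, 0, 0, 0), (0, 0, 0, 0), (0, 0, 0, 0), (0, 0, 0, 0), (0, 0, 0, 0), (0, 0, 0, 0), (0, 0, 0, 0), (0, 22, 4, 18), (0, 0, 0, 0), (0, 0, 0, 0), (0, 22, 7, 13), (0, 22, 8, 12), (0, 0, 0, 0), (0, 0, 0, 0)],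
  #[(14, 7, 1, 20), (0, 0, 0, 0), (0, 0, 0, 0), (0, 0, 0, 0), (0, 0, 0, 0), (6, 15, 1, 20), (0, 0, 0, 0), (0, 0, 0, 0), (0, 0, 0, 0), (0, 0, 0, 0), (0, 0, 0, 0), (2, 19, 1, 20), (1, 20, 2, 19), (0, 0, 0, 0), (0, 0, 0, 0), (0, 0, 0, 0), (0, 0, 0, 0), (0, 0, 0, 0), (1, 20, 6, 15), (0, 0, 0, 0), (0, 0, 0, 0), (0, 0, 0, 0), (0, 0, 0, 0), (1, 20, 14, 7)],
  #[(14, 8, 1, 21), (0, 0, 0, 0), (0, 0, 0, 0), (0, 0, 0, 0), (0, 0, 0, 0), (6, 16, 1, 21), (0, 0, 0, 0), (0, 0, 0, 0), (0, 0, 0, 0), (0, 0, 0, 0), (3, 19, 1, 21), (0, 0, 0, 0), (0, 0, 0, 0), (1, 21, 3, 19), (0, 0, 0, 0), (0, 0, 0, 0), (0, 0, 0, 0), (0, 0, 0, 0), (1, 21, 6, 16), (0, 0, 0, 0), (0, 0, 0, 0), (0, 0, 0, 0), (0, 0, 0, 0), (1, 21, 14, 8)],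
  #[(15, 9, 2, 22), (0, 0, 0, 0), (0, 0, 0, 0), (0, 0, 0, 0), (0, 0, 0, 0), (7, 17, 2, 22), (0, 0, 0, 0), (0, 0, 0, 0), (0, 0, 0, 0), (0, 0, 0, 0), (4, 20, 2, 22), (0, 0, 0, 0), (0, 0, 0, 0), (2, 22, 4, 20), (0, 0, 0, 0), (0, 0, 0, 0), (0, 0, 0, 0), (0, 0, 0, 0), (2, 22, 7, 17), (0, 0, 0, 0), (0, 0, 0, 0), (0, 0, 0, 0), (0, 0, 0, 0), (2, 22, 15, 9)],
  #[(16, 9, 3, 22), (0, 0, 0, 0), (0, 0, 0, 0), (0, 0, 0, 0), (0, 0, 0, 0), (8, 17, 3, 22), (0, 0, 0, 0), (0, 0, 0, 0), (0, 0, 0, 0), (0, 0, 0, 0), (0, 0, 0, 0), (4, 21, 3, 22), (3, 22, 4, 21), (0, 0, 0, 0), (0, 0, 0, 0), (0, 0, 0, 0), (0, 0, 0, 0), (0, 0, 0, 0), (3, 22, 8, 17), (0, 0, 0, 0), (0, 0, 0, 0), (0, 0, 0, 0), (0, 0, 0, 0), (3, 22, 16, 9)],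
  #[(0, 0, 0, 0), (0, 0, 0, 0), (11, 15, 1, 23), (10, 16, 1, 23), (0, 0, 0, 0), (0, 0, 0, 0), (5, 19, 1, 23), (0, 0, 0, 0), (0, 0, 0, 0), (0, 0, 0, 0), (0, 0, 0, 0), (0, 0, 0, 0), (0, 0, 0, 0), (0, 0, 0, 0), (0, 0, 0, 0), (0, 0, 0, 0), (0, 0, 0, 0), (1, 23, 5, 19), (0, 0, 0, 0), (0, 0, 0, 0), (1, 23, 10, 16), (1, 23, 11, 15), (0, 0, 0, 0), (0, 0, 0, 0)],
  #[(0, 0, 0, 0), (12, 14, 2, 23), (0, 0, 0, 0), (0, 0, 0, 0), (10, 17, 2, 23), (0, 0, 0, 0), (0, 0, 0, 0), (5, 20, 2, 23), (0, 0, 0, 0), (0, 0, 0, 0), (0, 0, 0, 0), (0, 0, 0, 0), (0, 0, 0, 0), (0, 0, 0, 0), (0, 0, 0, 0), (0, 0, 0, 0), (2, 23, 5, 20), (0, 0, 0, 0), (0, 0, 0, 0), (2, 23, 10, 17), (0, 0, 0, 0), (0, 0, 0, 0), (2, 23, 12, 14), (0, 0, 0, 0)],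
  #[(0, 0, 0, 0), (13, 14, 3, 23), (0, 0, 0, 0), (0, 0, 0, 0), (11, 17, 3, 23), (0, 0, 0, 0), (0, 0, 0, 0), (0, 0, 0, 0), (5, 21, 3, 23), (0, 0, 0, 0), (0, 0, 0, 0), (0, 0, 0, 0), (0, 0, 0, 0), (0, 0, 0, 0), (0, 0, 0, 0), (3, 23, 5, 21), (0, 0, 0, 0), (0, 0, 0, 0), (0, 0, 0, 0), (3, 23, 11, 17), (0, 0, 0, 0), (0, 0, 0, 0), (3, 23, 13, 14), (0, 0, 0, 0)],
  #[(0, 0, 0, 0), (0, 0, 0, 0), (13, 15, 4, 23), (12, 16, 4, 23), (0, 0, 0, 0), (0, 0, 0, 0), (0, 0, 0, 0), (0, 0, 0, 0), (0, 0, 0, 0), (5, 22, 4, 23), (0, 0, 0, 0), (0, 0, 0, 0), (0, 0, 0, 0), (0, 0, 0, 0), (4, 23, 5, 22), (0, 0, 0, 0), (0, 0, 0, 0), (0, 0, 0, 0), (0, 0, 0, 0), (0, 0, 0, 0), (4, 23, 12, 16), (4, 23, 13, 15), (0, 0, 0, 0), (0, 0, 0, 0)],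
  #[(19, 9, 6, 22), (0, 0, 0, 0), (0, 0, 0, 0), (0, 0, 0, 0), (0, 0, 0, 0), (0, 0, 0, 0), (0, 0, 0, 0), (0, 0, 0, 0), (0, 0, 0, 0), (0, 0, 0, 0), (8, 20, 6, 22), (7, 21, 6, 22), (6, 22, 7, 21), (6, 22, 8, 20), (0, 0, 0, 0), (0, 0, 0, 0), (0, 0, 0, 0), (0, 0, 0, 0), (0, 0, 0, 0), (0, 0, 0, 0), (0, 0, 0, 0), (0, 0, 0, 0), (0, 0, 0, 0), (6, 22, 19, 9)],
  #[(0, 0, 0, 0), (18, 14, 6, 23), (0, 0, 0, 0), (0, 0, 0, 0), (0, 0, 0, 0), (0, 0, 0, 0), (0, 0, 0, 0), (11, 20, 6, 23), (10, 21, 6, 23), (0, 0, 0, 0), (0, 0, 0, 0), (0, 0, 0, 0), (0, 0, 0, 0), (0, 0, 0, 0), (0, 0, 0, 0), (6, 23, 10, 21), (6, 23, 11, 20), (0, 0, 0, 0), (0, 0, 0, 0), (0, 0, 0, 0), (0, 0, 0, 0), (0, 0, 0, 0), (6, 23, 18, 14), (0, 0, 0, 0)],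
  #[(0, 0, 0, 0), (0, 0, 0, 0), (18, 15, 7, 23), (0, 0, 0, 0), (0, 0, 0, 0), (0, 0, 0, 0), (12, 19, 7, 23), (0, 0, 0, 0), (0, 0, 0, 0), (10, 22, 7, 23), (0, 0, 0, 0), (0, 0, 0, 0), (0, 0, 0, 0), (0, 0, 0, 0), (7, 23, 10, 22), (0, 0, 0, 0), (0, 0, 0, 0), (7, 23, 12, 19), (0, 0, 0, 0), (0, 0, 0, 0), (0, 0, 0, 0), (7, 23, 18, 15), (0, 0, 0, 0), (0, 0, 0, 0)],
  #[(0, 0, 0, 0), (0, 0, 0, 0), (0, 0, 0, 0), (18, 16, 8, 23), (0, 0, 0, 0), (0, 0, 0, 0), (13, 19, 8, 23), (0, 0, 0, 0), (0, 0, 0, 0), (11, 22, 8, 23), (0, 0, 0, 0), (0, 0, 0, 0), (0, 0, 0, 0), (0, 0, 0, 0), (8, 23, 11, 22), (0, 0, 0, 0), (0, 0, 0, 0), (8, 23, 13, 19), (0, 0, 0, 0), (0, 0, 0, 0), (8, 23, 18, 16), (0, 0, 0, 0), (0, 0, 0, 0), (0, 0, 0, 0)],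
  #[(0, 0, 0, 0), (0, 0, 0, 0), (0, 0, 0, 0), (0, 0, 0, 0), (18, 17, 9, 23), (0, 0, 0, 0), (0, 0, 0, 0), (13, 20, 9, 23), (12, 21, 9, 23), (0, 0, 0, 0), (0, 0, 0, 0), (0, 0, 0, 0), (0, 0, 0, 0), (0, 0, 0, 0), (0, 0, 0, 0), (9, 23, 12, 21), (9, 23, 13, 20), (0, 0, 0, 0), (0, 0, 0, 0), (9, 23, 18, 17), (0, 0, 0, 0), (0, 0, 0, 0), (0, 0, 0, 0), (0, 0, 0, 0)],
  #[(0, 0, 0, 0), (0, 0, 0, 0), (0, 0, 0, 0), (0, 0, 0, 0), (0, 0, 0, 0), (19, 17, 14, 22), (0, 0, 0, 0), (0, 0, 0, 0), (0, 0, 0, 0), (0, 0, 0, 0), (16, 20, 14, 22), (15, 21, 14, 22), (14, 22, 15, 21), (14, 22, 16, 20), (0, 0, 0, 0), (0, 0, 0, 0), (0, 0, 0, 0), (0, 0, 0, 0), (14, 22, 19, 17), (0, 0, 0, 0), (0, 0, 0, 0), (0, 0, 0, 0), (0, 0, 0, 0), (0, 0, 0, 0)]]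

/-- the witness function -/
def wit (r s : ℕ) : ℕ × ℕ × ℕ × ℕ := (tbl.getD r #[]).getD s (0, 0, 0, 0)

theorem row0 : rowOK chevD4 wit 0 = true := by decide +kernel
theorem row1 : rowOK chevD4 wit 1 = true := by decide +kernel
theorem row2 : rowOK chevD4 wit 2 = true := by decide +kernel
theorem row3 : rowOK chevD4 wit 3 = true := by decide +kernel
theorem row4 : rowOK chevD4 wit 4 = true := by decide +kernel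
theorem row5 : rowOK chevD4 wit 5 = true := by decide +kernel
theorem row6 : rowOK chevD4 wit 6 = true := by decide +kernel
theorem row7 : rowOK chevD4 wit 7 = true := by decide +kernel
theorem row8 : rowOK chevD4 wit 8 = true := by decide +kernel
theorem row9 : rowOK chevD4 wit 9 = true := by decide +kernel
theorem row10 : rowOK chevD4 wit 10 = true := by decide +kernel
theorem row11 : rowOK chevD4 wit 11 = true := by decide +kernel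
theorem row12 : rowOK chevD4 wit 12 = true := by decide +kernel
theorem row13 : rowOK chevD4 wit 13 = true := by decide +kernel
theorem row14 : rowOK chevD4 wit 14 = true := by decide +kernel
theorem row15 : rowOK chevD4 wit 15 = true := by decide +kernel
theorem row16 : rowOK chevD4 wit 16 = true := by decide +kernel
theorem row17 : rowOK chevD4 wit 17 = true := by decide +kernel
theorem row18 : rowOK chevD4 wit 18 = true := by decide +kernel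
theorem row19 : rowOK chevD4 wit 19 = true := by decide +kernel
theorem row20 : rowOK chevD4 wit 20 = true := by decide +kernel
theorem row21 : rowOK chevD4 wit 21 = true := by decide +kernel
theorem row22 : rowOK chevD4 wit 22 = true := by decide +kernel
theorem row23 : rowOK chevD4 wit 23 = true := by decide +kernel

theorem rows : ∀ r < chevD4.nroots, rowOK chevD4 wit r = true := by
  intro r hr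
  have hr' : r < 24 := hr
  interval_cases r
  · exact row0
  · exact row1
  · exact row2
  · exact row3
  · exact row4
  · exact row5
  · exact row6
  · exact row7
  · exact row8
  · exact row9
  · exact row10
  · exact row11
  · exact row12
  · exact row13
  · exact row14
  · exact row15
  · exact row16
  · exact row17
  · exact row18
  · exact row19
  · exact row20
  · exact row21
  · exact row22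
  · exact row23

end Cfsg.Agent.Lib.Helper35_Uce3CertD4
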