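import Mathlib
import Cfsg.Agent.Lib.Helper1_MinNormal

set_option autoImplicit false

/-!
# Piece W10 of Ward's theorem S3796 (helper35, for helper87)

`exists_unique_minimal`: in a minimal counterexample there is a unique minimal normal subgroup of `Γ` below
`N`, and it is elementary abelian.
-/

namespace Cfsg.Agent.Lib.Helper35_WardW10

/-- the lower central series is monotone in the subgroup -/
theorem lowerCentralSeries_le_of_le {Γ : Type*} [Group Γ] {H K : Subgroup Γ} (h : H ≤ K) (n : ℕ) :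
    H.lowerCentralSeries n ≤ K.lowerCentralSeries n := by
  induction n with
  | zero => exact h
  | succ n ih =>
    rw [Subgroup.lowerCentralSeries_succ, Subgroup.lowerCentralSeries_succ]
    exact Subgroup.commutator_mono ih h

/-- W10: the unique minimal normal subgroup below `N` in a minimal counterexample. -/
theorem exists_unique_minimal {Γ : Type*} [Group Γ] [Finite Γ] (N : Subgroup Γ) [N.Normal]
    (hsolv : Group.IsSolvable N) (hN : N ≠ ⊥)
    (hquot : ∀ M : Subgroup Γ, M.Normal → M ≠ ⊥ → M ≤ N →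
      ∃ k c, (N.lowerCentralSeries k).lowerCentralSeries c ≤ M)
    (hnot : ¬ ∃ k c, (N.lowerCentralSeries k).lowerCentralSeries c = ⊥) :
    ∃ V : Subgroup Γ, V.Normal ∧ V ≤ N ∧ V ≠ ⊥ ∧ (∀ v ∈ V, ∀ w ∈ V, v * w = w * v) ∧
      (∃ r : ℕ, r.Prime ∧ ∀ v ∈ V, v ^ r = 1) ∧
      ∀ M : Subgroup Γ, M.Normal → M ≠ ⊥ → M ≤ N → V ≤ M := by
  obtain ⟨V, -, hVmin⟩ :=
    Finite.exists_le_minimal (p := fun K : Subgroup Γ => K.Normal ∧ K ≤ N ∧ K ≠ ⊥) (a := N)
      ⟨inferInstance, le_rfl, hN⟩
  obtain ⟨hV1, hV2, hV3⟩ := hVmin.prop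
  have hVsolv : Group.IsSolvable V :=
    Group.isSolvable_of_isSolvable_injective (f := Subgroup.inclusion hV2)
      (Subgroup.inclusion_injective hV2)
  have hmin : ∀ K : Subgroup Γ, K.Normal → K ≤ V → K = ⊥ ∨ K = V := by
    intro K hK1 hK2
    by_cases hK : K = ⊥
    · exact Or.inl hK
    · exact Or.inr (le_antisymm hK2 (hVmin.le_of_le ⟨hK1, hK2.trans hV2, hK⟩ hK2))
  obtain ⟨h1, r, hr, h2⟩ :=
    Cfsg.Agent.Lib.Helper1_MinNormal.elementary_abelian_of_minimal V hVsolv hV3 hmin
  refine ⟨V, hV1, hV2, hV3, ?_, ⟨r, hr, h2⟩, ?_⟩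
  · intro v hv w hw
    exact congrArg Subtype.val (h1.is_comm.comm (⟨v, hv⟩ : ↥V) ⟨w, hw⟩)
  · intro M hMn hM1 hMN
    by_contra hVM
    have hinf : V ⊓ M = ⊥ := by
      rcases hmin (V ⊓ M) inferInstance inf_le_left with h | h
      · exact h
      · exact absurd (h ▸ inf_le_right : V ≤ M) hVM
    obtain ⟨k, c, hkc⟩ := hquot V hV1 hV3 hV2
    obtain ⟨k', c', hkc'⟩ := hquot M hMn hM1 hMN
    apply hnot
    refine ⟨max k k', max c c', ?_⟩
    rw [eq_bot_iff, ← hinf]
    apply le_inf
    · refine le_trans ?_ hkc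
      refine le_trans (Subgroup.lowerCentralSeries_antitone _ (le_max_left c c')) ?_
      exact lowerCentralSeries_le_of_le (Subgroup.lowerCentralSeries_antitone _ (le_max_left k k')) c
    · refine le_trans ?_ hkc'
      refine le_trans (Subgroup.lowerCentralSeries_antitone _ (le_max_right c c')) ?_
      exact lowerCentralSeries_le_of_le (Subgroup.lowerCentralSeries_antitone _ (le_max_right k k')) c'

end Cfsg.Agent.Lib.Helper35_WardW10
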