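import Mathlib
import Cfsg.Agent.Lib.Helper1_Thompson
import Cfsg.Agent.Lib.Helper32_Nilpotent
import Cfsg.Agent.Lib.Helper87_WardBasic

set_option autoImplicit false

/-!
# Piece W11 of Ward's theorem S3796 (helper35, for helper87)

`commute_in_centralizer`: if `A` (elementary abelian of order `p ^ 2`) acts fixed-point-freely on the normal
subgroup `N`, then for `1 ≠ b ∈ A` the group `C_N(b)` is nilpotent (Thompson), stated elementwise.
-/

namespace Cfsg.Agent.Lib.Helper35_WardW11

open Cfsg.Agent.Lib.Helper1_FPFAut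

universe u

theorem conj_iterate {Γ : Type*} [Group Γ] (a x : Γ) (n : ℕ) :
    ((MulAut.conj a)^[n]) x = a ^ n * x * (a ^ n)⁻¹ := by
  induction n with
  | zero => simp
  | succ n ih =>
    rw [Function.iterate_succ_apply', ih, MulAut.conj_apply, pow_succ']
    group

/-- W11: `C_N(b)` is nilpotent via Thompson's theorem, stated elementwise. -/
theorem commute_in_centralizer {Γ : Type u} [Group Γ] [Finite Γ] (p : ℕ) (hp : p.Prime)
    (N A : Subgroup Γ) [N.Normal]
    (hAc : ∀ a ∈ A, ∀ b ∈ A, a * b = b * a) (hAp : ∀ a ∈ A, a ^ p = 1)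
    (hcard : Nat.card A = p ^ 2)
    (hfpf : ∀ g ∈ N, (∀ a ∈ A, a * g = g * a) → g = 1)
    (b : Γ) (hb : b ∈ A) (hb1 : b ≠ 1) (q r : ℕ) (hq : q.Prime) (hr : r.Prime) (hqr : q ≠ r)
    (x y : Γ) (hx : x ∈ N) (hy : y ∈ N) (hxb : x * b = b * x) (hyb : y * b = b * y)
    (hxq : ∃ n, x ^ q ^ n = 1) (hyr : ∃ n, y ^ r ^ n = 1) : x * y = y * x := by
  have : Fact p.Prime := ⟨hp⟩
  -- an element `a ∈ A` outside `⟨b⟩`
  obtain ⟨a, ha, hab⟩ : ∃ a ∈ A, a ∉ Subgroup.zpowers b := by
    by_contra hcon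
    have hle : A ≤ Subgroup.zpowers b := by
      intro a ha
      by_contra h
      exact hcon ⟨a, ha, h⟩
    have h1 : Nat.card A ≤ Nat.card (Subgroup.zpowers b) :=
      Nat.le_of_dvd Nat.card_pos (Subgroup.card_dvd_of_le hle)
    have hord : orderOf b = p := orderOf_eq_prime (hAp b hb) hb1
    rw [Nat.card_zpowers, hord, hcard] at h1
    have : p < p ^ 2 := by
      rw [pow_two]
      exact lt_mul_self hp.one_lt
    omega
  set C : Subgroup Γ := N ⊓ Subgroup.centralizer ({b} : Set Γ) with hCdef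
  have hmemC : ∀ c : Γ, c ∈ C ↔ c ∈ N ∧ c * b = b * c := by
    intro c
    rw [hCdef, Subgroup.mem_inf, Subgroup.mem_centralizer_singleton_iff]
  have hab' : a * b = b * a := hAc a ha b hb
  have hCinv : C.map (MulAut.conj a).toMonoidHom = C := by
    apply map_eq_of_forall_mem
    intro c hc
    obtain ⟨hcN, hcb⟩ := (hmemC c).mp hc
    rw [hmemC]
    refine ⟨?_, ?_⟩
    · show a * c * a⁻¹ ∈ N
      exact (inferInstance : N.Normal).conj_mem c hcN a
    · show a * c * a⁻¹ * b = b * (a * c * a⁻¹)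
      have h1 : a⁻¹ * b = b * a⁻¹ := by
        have : b = a⁻¹ * (a * b) := by group
        calc a⁻¹ * b = a⁻¹ * b * a * a⁻¹ := by group
          _ = a⁻¹ * (b * a) * a⁻¹ := by group
          _ = a⁻¹ * (a * b) * a⁻¹ := by rw [hab']
          _ = b * a⁻¹ := by group
      calc a * c * a⁻¹ * b = a * c * (a⁻¹ * b) := by group
        _ = a * c * (b * a⁻¹) := by rw [h1]
        _ = a * (c * b) * a⁻¹ := by group
        _ = a * (b * c) * a⁻¹ := by rw [hcb]
        _ = (a * b) * c * a⁻¹ := by group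
        _ = (b * a) * c * a⁻¹ := by rw [hab']
        _ = b * (a * c * a⁻¹) := by group
  set φ := restrictAut (MulAut.conj a) C hCinv with hφ
  have hFPF : FPF p φ := by
    constructor
    · intro c hc
      have h1 : a * (c : Γ) * a⁻¹ = c := by
        have := congrArg Subtype.val hc
        rwa [hφ, restrictAut_coe] at this
      have hca : a * (c : Γ) = c * a := by
        calc a * (c : Γ) = (a * c * a⁻¹) * a := by group
          _ = c * a := by rw [h1]
      obtain ⟨hcN, hcb⟩ := (hmemC c).mp c.2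
      apply Subtype.ext
      apply hfpf c hcN
      intro z hz
      obtain ⟨i, j, -, -, rfl⟩ := Cfsg.Agent.Lib.Helper87_WardBasic.exists_pow_mul_pow A p hp hAc hAp
        hcard ha hb hb1 hab z hz
      have h2 : Commute a (c : Γ) := hca
      have h3 : Commute b (c : Γ) := hcb.symm
      exact ((h2.pow_left i).mul_left (h3.pow_left j)).eq
    · intro c
      apply Subtype.ext
      rw [hφ, restrictAut_iterate, conj_iterate, hAp a ha]
      simp
  have hnil : Group.IsNilpotent ↥C := Cfsg.Agent.Lib.Helper1_Thompson.thompson hp φ hFPF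
  have hxC : x ∈ C := (hmemC x).mpr ⟨hx, hxb⟩
  have hyC : y ∈ C := (hmemC y).mpr ⟨hy, hyb⟩
  obtain ⟨n, hn⟩ := hxq
  obtain ⟨m, hm⟩ := hyr
  have hcomm := Cfsg.Agent.Lib.Helper32_Nilpotent.commute_of_coprime_pow_eq_one ↥C
    (⟨x, hxC⟩ : ↥C) ⟨y, hyC⟩ (q ^ n) (r ^ m) (Subtype.ext (by simpa using hn))
    (Subtype.ext (by simpa using hm))
    (Nat.Coprime.pow n m ((Nat.coprime_primes hq hr).mpr hqr))
  exact congrArg Subtype.val hcomm.eq

end Cfsg.Agent.Lib.Helper35_WardW11
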