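import Mathlib
import Cfsg.Agent.Lib.Helper24_CoprimeAction

set_option autoImplicit false

/-!
# Pieces W5 and W4 of Ward's theorem S3796 (helper35, for helper87)

`coprime_of_fpf`: a `p`-group `A` acting fixed-point-freely by conjugation on a normal subgroup `N` has
order prime to `|N|`.  `quotient_step`: the induction step to `Γ ⧸ M`.
-/

namespace Cfsg.Agent.Lib.Helper35_WardW4

universe u

/-- the conjugation action of a subgroup `A` on a normal subgroup `N` -/
@[reducible] def conjActOn {Γ : Type*} [Group Γ] (N A : Subgroup Γ) [hN : N.Normal] : MulAction ↥A ↥N where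
  smul a n := ⟨(a : Γ) * n * (a : Γ)⁻¹, hN.conj_mem n n.2 a⟩
  one_smul n := Subtype.ext (by show (1 : Γ) * n * (1 : Γ)⁻¹ = n; simp)
  mul_smul a b n := Subtype.ext (by
    show ((a : Γ) * b) * n * ((a : Γ) * b)⁻¹ = a * (b * n * (b : Γ)⁻¹) * (a : Γ)⁻¹
    simp [mul_assoc])

/-- W5: `A` acts on `N` by conjugation with the single fixed point `1`, so `|N| ≡ 1 mod p`. -/
theorem coprime_of_fpf {Γ : Type*} [Group Γ] [Finite Γ] (p : ℕ) (hp : p.Prime) (N A : Subgroup Γ)
    [N.Normal] (hA : IsPGroup p A)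
    (hfpf : ∀ g ∈ N, (∀ a ∈ A, a * g = g * a) → g = 1) :
    (Nat.card A).Coprime (Nat.card N) := by
  have : Fact p.Prime := ⟨hp⟩
  let _ : MulAction ↥A ↥N := conjActOn N A
  have hsmul : ∀ (a : ↥A) (n : ↥N), ((a • n : ↥N) : Γ) = (a : Γ) * n * (a : Γ)⁻¹ := fun _ _ => rfl
  have hfix : MulAction.fixedPoints ↥A ↥N = {1} := by
    ext n
    rw [MulAction.mem_fixedPoints, Set.mem_singleton_iff]
    constructor
    · intro h
      apply Subtype.ext
      apply hfpf n n.2
      intro a ha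
      have h1 := congrArg Subtype.val (h ⟨a, ha⟩)
      rw [hsmul] at h1
      have h2 : a * (n : Γ) = (a * n * a⁻¹) * a := by group
      rw [h2]
      exact congrArg (· * a) h1
    · rintro rfl a
      apply Subtype.ext
      rw [hsmul]
      simp
  have h1 := hA.card_modEq_card_fixedPoints ↥N
  rw [hfix] at h1
  have hone : Nat.card ↑({1} : Set ↥N) = 1 := Nat.card_unique
  rw [hone] at h1
  obtain ⟨k, hk⟩ := IsPGroup.iff_card.mp hA
  rw [hk]
  apply Nat.Coprime.pow_left
  rw [Nat.Prime.coprime_iff_not_dvd hp]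
  intro hd
  have h2 : Nat.card ↥N % p = 0 := Nat.mod_eq_zero_of_dvd hd
  have h3 : Nat.card ↥N % p = 1 % p := h1
  rw [h2, Nat.mod_eq_of_lt hp.one_lt] at h3
  exact zero_ne_one h3

theorem card_lt_of_surjective_not_injective {α β : Type*} [Finite α] (f : α → β)
    (h : Function.Surjective f) (h' : ¬ Function.Injective f) : Nat.card β < Nat.card α := by
  have : Finite β := Finite.of_surjective f h
  have := Fintype.ofFinite α
  have := Fintype.ofFinite β
  rw [Nat.card_eq_fintype_card, Nat.card_eq_fintype_card]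
  exact Fintype.card_lt_of_surjective_not_injective f h h'

/-- W4: the induction step to `Γ ⧸ M`. -/
theorem quotient_step {Γ : Type u} [Group Γ] [Finite Γ] (p : ℕ) (hp : p.Prime)
    (N A M : Subgroup Γ) [N.Normal] [M.Normal] (hMN : M ≤ N) (hM : M ≠ ⊥)
    (hsolv : Group.IsSolvable N)
    (hAc : ∀ a ∈ A, ∀ b ∈ A, a * b = b * a) (hAp : ∀ a ∈ A, a ^ p = 1)
    (hcard : Nat.card A = p ^ 2)
    (hfpf : ∀ g ∈ N, (∀ a ∈ A, a * g = g * a) → g = 1)
    (ih : ∀ (Γ' : Type u) [Group Γ'] [Finite Γ'] (N' A' : Subgroup Γ') [N'.Normal],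
      Nat.card N' < Nat.card N → Group.IsSolvable N' → (∀ a ∈ A', ∀ b ∈ A', a * b = b * a) →
      (∀ a ∈ A', a ^ p = 1) → Nat.card A' = p ^ 2 →
      (∀ g ∈ N', (∀ a ∈ A', a * g = g * a) → g = 1) →
      ∃ k c, (N'.lowerCentralSeries k).lowerCentralSeries c = ⊥) :
    ∃ k c, (N.lowerCentralSeries k).lowerCentralSeries c ≤ M := by
  have : Fact p.Prime := ⟨hp⟩
  set π := QuotientGroup.mk' M with hπ
  have hπs : Function.Surjective π := QuotientGroup.mk'_surjective M
  have hker : π.ker = M := QuotientGroup.ker_mk' M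
  have hN'n : (N.map π).Normal := Subgroup.Normal.map inferInstance π hπs
  -- `A` is a `p`-group
  have hAp' : IsPGroup p A := IsPGroup.of_card (n := 2) hcard
  have hcop : (Nat.card A).Coprime (Nat.card N) := coprime_of_fpf p hp N A hAp' hfpf
  have hcopM : (Nat.card A).Coprime (Nat.card M) :=
    Nat.Coprime.coprime_dvd_right (Subgroup.card_dvd_of_le hMN) hcop
  -- `A ⊓ M = ⊥`
  have hAM : A ⊓ M = ⊥ := by
    rw [inf_comm]
    exact (Subgroup.disjoint_of_coprime_natCard hcopM.symm).eq_bot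
  -- cardinalities
  have hcardN : Nat.card ↥(N.map π) < Nat.card ↥N := by
    apply card_lt_of_surjective_not_injective (π.subgroupMap N) (π.subgroupMap_surjective N)
    intro hinj
    obtain ⟨m, hm1⟩ := (Subgroup.ne_bot_iff_exists_ne_one).mp hM
    have h1 : π.subgroupMap N ⟨m, hMN m.2⟩ = π.subgroupMap N 1 := by
      apply Subtype.ext
      show π (m : Γ) = π 1
      rw [map_one]
      exact (QuotientGroup.eq_one_iff _).mpr m.2
    have h2 := hinj h1
    have h3 : (m : Γ) = 1 := congrArg Subtype.val h2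
    exact hm1 (Subtype.ext h3)
  have hcardA : Nat.card ↥(A.map π) = p ^ 2 := by
    rw [← hcard]
    symm
    apply Nat.card_congr
    refine Equiv.ofBijective (π.subgroupMap A) ⟨?_, π.subgroupMap_surjective A⟩
    rw [injective_iff_map_eq_one]
    intro a ha
    have h1 : π (a : Γ) = 1 := congrArg Subtype.val ha
    have h2 : (a : Γ) ∈ M := (QuotientGroup.eq_one_iff _).mp h1
    have h3 : (a : Γ) ∈ A ⊓ M := ⟨a.2, h2⟩
    rw [hAM, Subgroup.mem_bot] at h3
    exact Subtype.ext h3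
  have hsolv' : Group.IsSolvable ↥(N.map π) :=
    Group.isSolvable_of_surjective (π.subgroupMap_surjective N)
  have hAc' : ∀ a ∈ A.map π, ∀ b ∈ A.map π, a * b = b * a := by
    rintro _ ⟨a, ha, rfl⟩ _ ⟨b, hb, rfl⟩
    rw [← map_mul, ← map_mul, hAc a ha b hb]
  have hAp'' : ∀ a ∈ A.map π, a ^ p = 1 := by
    rintro _ ⟨a, ha, rfl⟩
    rw [← map_pow, hAp a ha, map_one]
  have hfpf' : ∀ g ∈ N.map π, (∀ a ∈ A.map π, a * g = g * a) → g = 1 := by
    rintro _ ⟨x, hx, rfl⟩ hcomm
    have hfix : ∀ a ∈ A, x⁻¹ * (a * x * a⁻¹) ∈ M := by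
      intro a ha
      rw [← QuotientGroup.eq_one_iff, ← QuotientGroup.mk'_apply, ← hπ]
      have h1 := hcomm (π a) ⟨a, ha, rfl⟩
      rw [map_mul, map_mul, map_mul, map_inv, map_inv, h1]
      group
    obtain ⟨d, hd, hdc⟩ := Cfsg.Agent.Lib.Helper24_CoprimeAction.exists_fixed_in_coset A M
      (by rw [Subgroup.normalizer_eq_top]; exact le_top) hcopM
      (Or.inl (Group.isSolvable_of_comm (fun a b => Subtype.ext (hAc a a.2 b b.2)))) x hfix
    have h1 : x * d = 1 := hfpf (x * d) (mul_mem hx (hMN hd)) hdc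
    have h2 : x = d⁻¹ := eq_inv_of_mul_eq_one_left h1
    show π x = 1
    rw [hπ, QuotientGroup.mk'_apply, QuotientGroup.eq_one_iff, h2]
    exact inv_mem hd
  obtain ⟨k, c, hkc⟩ := ih (Γ ⧸ M) (N.map π) (A.map π) hcardN hsolv' hAc' hAp'' hcardA hfpf'
  refine ⟨k, c, ?_⟩
  rw [← Subgroup.map_lowerCentralSeries, ← Subgroup.map_lowerCentralSeries,
    Subgroup.map_eq_bot_iff, hker] at hkc
  exact hkc

end Cfsg.Agent.Lib.Helper35_WardW4
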