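/-
helper35: Ward theorem S3796 (owner helper87), piece W12: existence of a minimal non-commuting
`A`-invariant pair `(Q₁, S₁)`.
-/
import Mathlib
import Cfsg.Agent.Lib.Helper87_WardLin
import Cfsg.Agent.Lib.Helper87_WardBasic
import Cfsg.Agent.Lib.Helper24_CoprimeAction
import Cfsg.Agent.Lib.Helper35_WardW11
import Cfsg.Agent.Lib.Helper35_WardW4

set_option autoImplicit false
universe u

namespace Cfsg.Agent.Lib.Helper35_WardW12

/-- A subgroup all of whose elements map `H` into itself by conjugation normalizes `H`. -/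
theorem le_normalizer_of_forall {Γ : Type*} [Group Γ] (T H : Subgroup Γ)
    (h : ∀ t ∈ T, ∀ x ∈ H, t * x * t⁻¹ ∈ H) : T ≤ Subgroup.normalizer (H : Set Γ) := by
  intro t ht
  rw [Subgroup.mem_normalizer_iff]
  intro x
  refine ⟨h t ht x, fun hx => ?_⟩
  have := h t⁻¹ (T.inv_mem ht) _ hx
  simpa [mul_assoc] using this

/-- The subgroup generated by the commutators `[x, b]`, `x ∈ Q`, is invariant under everything
that commutes with `b` and normalizes `Q`. -/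
theorem conj_mem_closure_comm {Γ : Type*} [Group Γ] (Q : Subgroup Γ) (b t : Γ)
    (htb : t * b = b * t) (htQ : ∀ x ∈ Q, t * x * t⁻¹ ∈ Q) (z : Γ)
    (hz : z ∈ Subgroup.closure {z | ∃ x ∈ Q, z = x * b * x⁻¹ * b⁻¹}) :
    t * z * t⁻¹ ∈ Subgroup.closure {z | ∃ x ∈ Q, z = x * b * x⁻¹ * b⁻¹} := by
  induction hz using Subgroup.closure_induction with
  | mem z hz =>
    obtain ⟨x, hx, rfl⟩ := hz
    apply Subgroup.subset_closure
    refine ⟨t * x * t⁻¹, htQ x hx, ?_⟩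
    have h1 : t⁻¹ * b = b * t⁻¹ := by
      have : t⁻¹ * (t * b) * t⁻¹ = t⁻¹ * (b * t) * t⁻¹ := by rw [htb]
      simpa [mul_assoc] using this.symm
    have h2 : t⁻¹ * b⁻¹ = b⁻¹ * t⁻¹ := by
      have : (t * b)⁻¹ = (b * t)⁻¹ := by rw [htb]
      simpa [mul_inv_rev] using this.symm
    calc t * (x * b * x⁻¹ * b⁻¹) * t⁻¹
        = t * x * b * x⁻¹ * (b⁻¹ * t⁻¹) := by simp only [mul_assoc]
      _ = t * x * b * x⁻¹ * (t⁻¹ * b⁻¹) := by rw [h2]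
      _ = t * x * (b * t⁻¹) * (t * x⁻¹ * t⁻¹) * b⁻¹ := by simp [mul_assoc]
      _ = t * x * (t⁻¹ * b) * (t * x⁻¹ * t⁻¹) * b⁻¹ := by rw [h1]
      _ = t * x * t⁻¹ * b * (t * x * t⁻¹)⁻¹ * b⁻¹ := by simp [mul_assoc]
  | one => simp
  | mul y z _ _ hy hz =>
    have : t * (y * z) * t⁻¹ = (t * y * t⁻¹) * (t * z * t⁻¹) := by simp [mul_assoc]
    rw [this]
    exact Subgroup.mul_mem _ hy hz
  | inv y _ hy =>
    have : t * y⁻¹ * t⁻¹ = (t * y * t⁻¹)⁻¹ := by simp [mul_assoc]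
    rw [this]
    exact Subgroup.inv_mem _ hy

/-- `[x, b ^ n] ∈ ⟨[y, b] : y ∈ Q⟩` for `x ∈ Q` when `b` normalizes `Q`. -/
theorem comm_pow_mem_closure {Γ : Type*} [Group Γ] (Q : Subgroup Γ) (b : Γ)
    (hbQ : ∀ x ∈ Q, b * x * b⁻¹ ∈ Q) (n : ℕ) :
    ∀ x ∈ Q, x * b ^ n * x⁻¹ * (b ^ n)⁻¹ ∈
      Subgroup.closure {z | ∃ x ∈ Q, z = x * b * x⁻¹ * b⁻¹} := by
  induction n with
  | zero => intro x _; simp
  | succ n ih =>
    intro x hx
    have hbn : ∀ m : ℕ, ∀ y ∈ Q, b ^ m * y * (b ^ m)⁻¹ ∈ Q := by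
      intro m
      induction m with
      | zero => intro y hy; simpa using hy
      | succ m ihm =>
        intro y hy
        have h1 := hbQ _ (ihm y hy)
        have : b ^ (m + 1) * y * (b ^ (m + 1))⁻¹ = b * (b ^ m * y * (b ^ m)⁻¹) * b⁻¹ := by
          rw [pow_succ']; simp [mul_assoc]
        rw [this]; exact h1
    have h1 := ih x hx
    have h2 : (b ^ n * x * (b ^ n)⁻¹) * b * (b ^ n * x * (b ^ n)⁻¹)⁻¹ * b⁻¹ ∈
        Subgroup.closure {z | ∃ x ∈ Q, z = x * b * x⁻¹ * b⁻¹} :=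
      Subgroup.subset_closure ⟨_, hbn n x hx, rfl⟩
    have hcomm : (b ^ n)⁻¹ * b = b * (b ^ n)⁻¹ := by
      rw [← inv_pow]
      exact ((Commute.refl b).inv_left.pow_left n).eq
    have : x * b ^ (n + 1) * x⁻¹ * (b ^ (n + 1))⁻¹ =
        (x * b ^ n * x⁻¹ * (b ^ n)⁻¹) *
          ((b ^ n * x * (b ^ n)⁻¹) * b * (b ^ n * x * (b ^ n)⁻¹)⁻¹ * b⁻¹) := by
      have e1 : b ^ (n + 1) = b ^ n * b := pow_succ b n
      have e2 : (b ^ (n + 1))⁻¹ = (b ^ n)⁻¹ * b⁻¹ := by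
        rw [pow_succ', mul_inv_rev]
      rw [e2]
      rw [e1]
      simp only [mul_assoc, mul_inv_rev, inv_inv, inv_mul_cancel_left]
      congr 2
      rw [← mul_assoc (b ^ n)⁻¹ b, hcomm, mul_assoc]
      simp
    rw [this]
    exact Subgroup.mul_mem _ h1 h2

/-- W12: a minimal non-commuting `A`-invariant pair. -/
theorem exists_min_pair {Γ : Type u} [Group Γ] [Finite Γ] (p : ℕ) (hp : p.Prime)
    (N A : Subgroup Γ) [N.Normal]
    (hAc : ∀ a ∈ A, ∀ b ∈ A, a * b = b * a) (hAp : ∀ a ∈ A, a ^ p = 1)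
    (hcard : Nat.card A = p ^ 2)
    (hfpf : ∀ g ∈ N, (∀ a ∈ A, a * g = g * a) → g = 1)
    (q s : ℕ) (hq : q.Prime) (hs : s.Prime) (hqs : q ≠ s)
    (Q S : Subgroup Γ) (hQN : Q ≤ N) (hSN : S ≤ N) (hQ : IsPGroup q Q) (hS : IsPGroup s S)
    (hAQ : A ≤ Subgroup.normalizer (Q : Set Γ)) (hAS : A ≤ Subgroup.normalizer (S : Set Γ))
    (hSQ : S ≤ Subgroup.normalizer (Q : Set Γ))
    (hne : ∃ x ∈ Q, ∃ g ∈ S, x * g ≠ g * x) :
    ∃ Q₁ S₁ : Subgroup Γ, Q₁ ≤ Q ∧ S₁ ≤ S ∧ A ≤ Subgroup.normalizer (Q₁ : Set Γ) ∧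
      A ≤ Subgroup.normalizer (S₁ : Set Γ) ∧ S₁ ≤ Subgroup.normalizer (Q₁ : Set Γ) ∧
      (∃ x ∈ Q₁, ∃ g ∈ S₁, x * g ≠ g * x) ∧
      ∃ b₀ ∈ A, b₀ ≠ 1 ∧ (∀ g ∈ S₁, g * b₀ = b₀ * g) ∧
        (∀ b ∈ A, b ∉ Subgroup.zpowers b₀ → ∀ g ∈ S₁, g * b = b * g → g = 1) ∧
        Q₁ ≤ Subgroup.closure {z | ∃ x ∈ Q₁, z = x * b₀ * x⁻¹ * b₀⁻¹} := by
  classical
  -- the predicate and a minimal pair
  let P : Subgroup Γ → Subgroup Γ → Prop := fun Q₁ S₁ =>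
    Q₁ ≤ Q ∧ S₁ ≤ S ∧ A ≤ Subgroup.normalizer (Q₁ : Set Γ) ∧
      A ≤ Subgroup.normalizer (S₁ : Set Γ) ∧ S₁ ≤ Subgroup.normalizer (Q₁ : Set Γ) ∧
      (∃ x ∈ Q₁, ∃ g ∈ S₁, x * g ≠ g * x)
  have hP0 : P Q S := ⟨le_rfl, le_rfl, hAQ, hAS, hSQ, hne⟩
  have hex : ∃ n, ∃ Q₁ S₁, P Q₁ S₁ ∧ Nat.card Q₁ + Nat.card S₁ = n := ⟨_, Q, S, hP0, rfl⟩
  obtain ⟨Q₁, S₁, hP1, hn⟩ := Nat.find_spec hex
  have hmin : ∀ Q₂ S₂, P Q₂ S₂ → Nat.card Q₁ + Nat.card S₁ ≤ Nat.card Q₂ + Nat.card S₂ := by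
    intro Q₂ S₂ h2
    rw [hn]
    exact Nat.find_min' hex ⟨Q₂, S₂, h2, rfl⟩
  obtain ⟨hQ₁Q, hS₁S, hAQ₁, hAS₁, hSQ₁, hne₁⟩ := hP1
  -- (a)
  have ha : ∀ S₂ : Subgroup Γ, S₂ ≤ S₁ → A ≤ Subgroup.normalizer (S₂ : Set Γ) →
      (∃ x ∈ Q₁, ∃ g ∈ S₂, x * g ≠ g * x) → S₂ = S₁ := by
    intro S₂ h21 hA2 hne2
    have := hmin Q₁ S₂ ⟨hQ₁Q, h21.trans hS₁S, hAQ₁, hA2, h21.trans hSQ₁, hne2⟩
    have hle : Nat.card S₁ ≤ Nat.card S₂ := by omega
    exact Subgroup.eq_of_le_of_card_ge h21 hle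
  -- (b)
  have hb : ∀ Q₂ : Subgroup Γ, Q₂ ≤ Q₁ → A ≤ Subgroup.normalizer (Q₂ : Set Γ) →
      S₁ ≤ Subgroup.normalizer (Q₂ : Set Γ) →
      (∃ x ∈ Q₂, ∃ g ∈ S₁, x * g ≠ g * x) → Q₂ = Q₁ := by
    intro Q₂ h21 hA2 hS2 hne2
    have := hmin Q₂ S₁ ⟨h21.trans hQ₁Q, hS₁S, hA2, hAS₁, hS2, hne2⟩
    have hle : Nat.card Q₁ ≤ Nat.card Q₂ := by omega
    exact Subgroup.eq_of_le_of_card_ge h21 hle
  -- (c) coprimality
  have hApg : IsPGroup p A := IsPGroup.of_card hcard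
  have hcop : (Nat.card A).Coprime (Nat.card N) :=
    Helper35_WardW4.coprime_of_fpf p hp N A hApg hfpf
  have hpN : ¬ p ∣ Nat.card N := by
    intro h
    rw [hcard] at hcop
    have h1 : p ∣ Nat.gcd (p ^ 2) (Nat.card N) := Nat.dvd_gcd (dvd_pow_self p two_ne_zero) h
    rw [Nat.Coprime] at hcop
    rw [hcop] at h1
    exact hp.one_lt.ne' (Nat.dvd_one.mp h1)
  have hpS₁ : ¬ p ∣ Nat.card S₁ :=
    fun h => hpN (h.trans (Subgroup.card_dvd_of_le (hS₁S.trans hSN)))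
  have hpQ₁ : ¬ p ∣ Nat.card Q₁ :=
    fun h => hpN (h.trans (Subgroup.card_dvd_of_le (hQ₁Q.trans hQN)))
  -- find `b₀`
  obtain ⟨b₀, hb₀A, hb₀1, d, hdS, hdb, hdT⟩ : ∃ b₀ ∈ A, b₀ ≠ 1 ∧ ∃ d ∈ S₁, d * b₀ = b₀ * d ∧
      d ∉ Subgroup.centralizer (Q₁ : Set Γ) := by
    by_contra hcon
    have hle : S₁ ≤ Subgroup.centralizer (Q₁ : Set Γ) := by
      refine Helper87_WardLin.gen_le hp S₁ A hAS₁ hAc hAp hcard hpS₁ _ ?_
      intro b hbA hb1 d hd hdb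
      by_contra hdT
      exact hcon ⟨b, hbA, hb1, d, hd, hdb, hdT⟩
    obtain ⟨x, hx, g, hg, hxg⟩ := hne₁
    exact hxg ((Subgroup.mem_centralizer_iff.mp (hle hg)) x hx)
  -- `b₀` centralizes `S₁`
  have hS₂ : S₁ ⊓ Subgroup.centralizer ({b₀} : Set Γ) = S₁ := by
    apply ha _ inf_le_left
    · apply le_normalizer_of_forall
      intro a haA g hg
      obtain ⟨hg1, hg2⟩ := Subgroup.mem_inf.mp hg
      rw [Subgroup.mem_centralizer_singleton_iff] at hg2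
      refine Subgroup.mem_inf.mpr ⟨(Subgroup.mem_normalizer_iff.mp (hAS₁ haA) g).mp hg1, ?_⟩
      rw [Subgroup.mem_centralizer_singleton_iff]
      have h1 : a * b₀ = b₀ * a := hAc a haA b₀ hb₀A
      have h2 : a⁻¹ * b₀ = b₀ * a⁻¹ := hAc a⁻¹ (A.inv_mem haA) b₀ hb₀A
      calc a * g * a⁻¹ * b₀ = a * g * (a⁻¹ * b₀) := by simp only [mul_assoc]
        _ = a * (g * b₀) * a⁻¹ := by rw [h2]; simp only [mul_assoc]
        _ = (a * b₀) * g * a⁻¹ := by rw [hg2]; simp only [mul_assoc]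
        _ = b₀ * (a * g * a⁻¹) := by rw [h1]; simp only [mul_assoc]
    · have : ∃ x ∈ Q₁, x * d ≠ d * x := by
        by_contra hcon
        push Not at hcon
        exact hdT (Subgroup.mem_centralizer_iff.mpr hcon)
      obtain ⟨x, hx, hxd⟩ := this
      exact ⟨x, hx, d, Subgroup.mem_inf.mpr
        ⟨hdS, Subgroup.mem_centralizer_singleton_iff.mpr hdb⟩, hxd⟩
  have hb₀S : ∀ g ∈ S₁, g * b₀ = b₀ * g := by
    intro g hg
    have : g ∈ S₁ ⊓ Subgroup.centralizer ({b₀} : Set Γ) := by rw [hS₂]; exact hg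
    exact Subgroup.mem_centralizer_singleton_iff.mp (Subgroup.mem_inf.mp this).2
  -- (d)
  have hd : ∀ b ∈ A, b ∉ Subgroup.zpowers b₀ → ∀ g ∈ S₁, g * b = b * g → g = 1 := by
    intro b hbA hbz g hg hgb
    apply hfpf g (hSN (hS₁S hg))
    intro a haA
    obtain ⟨i, j, _, _, rfl⟩ := Helper87_WardBasic.exists_pow_mul_pow A p hp hAc hAp hcard hbA hb₀A
      hb₀1 hbz a haA
    have h1 : Commute g b := hgb
    have h2 : Commute g b₀ := hb₀S g hg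
    exact (((h1.pow_right i).mul_right (h2.pow_right j)).eq).symm
  -- (e)
  set D : Subgroup Γ := Subgroup.closure {z | ∃ x ∈ Q₁, z = x * b₀ * x⁻¹ * b₀⁻¹} with hD
  set C : Subgroup Γ := Q₁ ⊓ Subgroup.centralizer ({b₀} : Set Γ) with hC
  set T₀ : Subgroup Γ := Subgroup.centralizer ({b₀} : Set Γ) ⊓ Subgroup.normalizer (Q₁ : Set Γ)
    with hT₀
  have hAT₀ : A ≤ T₀ := by
    intro a haA
    exact Subgroup.mem_inf.mpr
      ⟨Subgroup.mem_centralizer_singleton_iff.mpr (hAc a haA b₀ hb₀A), hAQ₁ haA⟩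
  have hST₀ : S₁ ≤ T₀ := by
    intro g hg
    exact Subgroup.mem_inf.mpr
      ⟨Subgroup.mem_centralizer_singleton_iff.mpr (hb₀S g hg), hSQ₁ hg⟩
  have hb₀Q : ∀ x ∈ Q₁, b₀ * x * b₀⁻¹ ∈ Q₁ := fun x hx =>
    (Subgroup.mem_normalizer_iff.mp (hAQ₁ hb₀A) x).mp hx
  have hDQ : D ≤ Q₁ := by
    rw [hD, Subgroup.closure_le]
    rintro z ⟨x, hx, rfl⟩
    have h1 : b₀ * x⁻¹ * b₀⁻¹ ∈ Q₁ := hb₀Q _ (Q₁.inv_mem hx)
    have : x * b₀ * x⁻¹ * b₀⁻¹ = x * (b₀ * x⁻¹ * b₀⁻¹) := by simp only [mul_assoc]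
    rw [this]
    exact Q₁.mul_mem hx h1
  have hT₀D : T₀ ≤ Subgroup.normalizer (D : Set Γ) := by
    apply le_normalizer_of_forall
    intro t ht z hz
    obtain ⟨ht1, ht2⟩ := Subgroup.mem_inf.mp ht
    exact conj_mem_closure_comm Q₁ b₀ t (Subgroup.mem_centralizer_singleton_iff.mp ht1)
      (fun x hx => (Subgroup.mem_normalizer_iff.mp ht2 x).mp hx) z hz
  have hT₀C : T₀ ≤ Subgroup.normalizer (C : Set Γ) := by
    apply le_normalizer_of_forall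
    intro t ht z hz
    obtain ⟨ht1, ht2⟩ := Subgroup.mem_inf.mp ht
    obtain ⟨hz1, hz2⟩ := Subgroup.mem_inf.mp hz
    refine Subgroup.mem_inf.mpr ⟨(Subgroup.mem_normalizer_iff.mp ht2 z).mp hz1, ?_⟩
    exact Subgroup.mul_mem _ (Subgroup.mul_mem _ ht1 hz2) (Subgroup.inv_mem _ ht1)
  -- the decomposition `Q₁ = D C`
  have hdecomp : ∀ k ∈ Q₁, ∃ d ∈ D, ∃ c ∈ C, k = d * c := by
    intro k hk
    have hzn : Subgroup.zpowers b₀ ≤ Subgroup.normalizer (Q₁ : Set Γ) := by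
      rw [Subgroup.zpowers_le]; exact hAQ₁ hb₀A
    have : Fact p.Prime := ⟨hp⟩
    have hord : orderOf b₀ = p := orderOf_eq_prime (hAp b₀ hb₀A) hb₀1
    have hcz : (Nat.card (Subgroup.zpowers b₀)).Coprime (Nat.card Q₁) := by
      rw [Nat.card_zpowers, hord]
      exact (Nat.Prime.coprime_iff_not_dvd hp).mpr hpQ₁
    have hsolv : Group.IsSolvable (Subgroup.zpowers b₀) := by
      apply Group.isSolvable_of_comm
      rintro ⟨a, ha⟩ ⟨b, hb⟩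
      obtain ⟨i, rfl⟩ := Subgroup.mem_zpowers_iff.mp ha
      obtain ⟨j, rfl⟩ := Subgroup.mem_zpowers_iff.mp hb
      apply Subtype.ext
      exact zpow_mul_comm b₀ i j
    obtain ⟨d', hd', c, hc, rfl⟩ := Helper24_CoprimeAction.coprime_decomp (Subgroup.zpowers b₀) Q₁
      hzn hcz (Or.inl hsolv) hk
    refine ⟨d', ?_, c, ?_, rfl⟩
    · have hle : ⁅Q₁, Subgroup.zpowers b₀⁆ ≤ D := by
        rw [Subgroup.commutator_le]
        intro x hx y hy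
        rw [← mem_powers_iff_mem_zpowers] at hy
        obtain ⟨n, rfl⟩ := hy
        rw [commutatorElement_def]
        exact comm_pow_mem_closure Q₁ b₀ hb₀Q n x hx
      exact hle hd'
    · obtain ⟨hc1, hc2⟩ := Subgroup.mem_inf.mp hc
      refine Subgroup.mem_inf.mpr ⟨hc1, ?_⟩
      rw [Subgroup.mem_centralizer_singleton_iff]
      exact ((Subgroup.mem_centralizer_iff.mp hc2) b₀ (Subgroup.mem_zpowers b₀)).symm
  have hDeq : D = Q₁ := by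
    by_contra hDne
    have hDcomm : ∀ x ∈ D, ∀ g ∈ S₁, x * g = g * x := by
      by_contra hcon
      push Not at hcon
      exact hDne (hb D hDQ (hAT₀.trans hT₀D) (hST₀.trans hT₀D) hcon)
    have hCeq : C = Q₁ := by
      by_contra hCne
      have hCcomm : ∀ x ∈ C, ∀ g ∈ S₁, x * g = g * x := by
        by_contra hcon
        push Not at hcon
        exact hCne (hb C inf_le_left (hAT₀.trans hT₀C) (hST₀.trans hT₀C) hcon)
      obtain ⟨x, hx, g, hg, hxg⟩ := hne₁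
      obtain ⟨d', hd', c, hc, rfl⟩ := hdecomp x hx
      apply hxg
      have h1 : Commute d' g := hDcomm d' hd' g hg
      have h2 : Commute c g := hCcomm c hc g hg
      exact (h1.mul_left h2).eq
    -- `b₀` centralizes both `Q₁` and `S₁`
    obtain ⟨x, hx, g, hg, hxg⟩ := hne₁
    apply hxg
    have hxb : x * b₀ = b₀ * x := by
      have : x ∈ C := by rw [hCeq]; exact hx
      exact Subgroup.mem_centralizer_singleton_iff.mp (Subgroup.mem_inf.mp this).2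
    have hxq : ∃ n, x ^ q ^ n = 1 := by
      obtain ⟨n, hn⟩ := hQ ⟨x, hQ₁Q hx⟩
      exact ⟨n, by simpa using congrArg Subtype.val hn⟩
    have hgs : ∃ n, g ^ s ^ n = 1 := by
      obtain ⟨n, hn⟩ := hS ⟨g, hS₁S hg⟩
      exact ⟨n, by simpa using congrArg Subtype.val hn⟩
    exact Helper35_WardW11.commute_in_centralizer p hp N A hAc hAp hcard hfpf b₀ hb₀A hb₀1 q s hq hs
      hqs x g (hQN (hQ₁Q hx)) (hSN (hS₁S hg)) hxb (hb₀S g hg) hxq hgs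
  exact ⟨Q₁, S₁, hQ₁Q, hS₁S, hAQ₁, hAS₁, hSQ₁, hne₁, b₀, hb₀A, hb₀1, hb₀S, hd, hDeq.ge⟩

end Cfsg.Agent.Lib.Helper35_WardW12
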