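import Mathlib

set_option autoImplicit false

/-!
Automorphisms of a finite group with a normal form of Bruhat type: up to an inner automorphism, an automorphism
preserves the subgroups `U` and `H`; it then maps the representatives of the distinguished cells into their cosets of
`H` and preserves the corresponding cell subgroups.
-/

namespace Cfsg.Agent.Lib.Helper36_CellAut

/-- A group with a normal form `u h n_i u'` of its elements, the cells being indexed by `ι`. -/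
structure CellData (Γ : Type*) [Group Γ] (ι : Type*) (p : ℕ) where
  U : Subgroup Γ
  H : Subgroup Γ
  nw : ι → Γ
  Uw : ι → Subgroup Γ
  cellOf : Γ → ι
  i1 : ι
  i0 : ι
  sylow : ∃ S : Sylow p Γ, (S : Subgroup Γ) = U
  Uw_le : ∀ i, Uw i ≤ U
  H_norm : ∀ h ∈ H, ∀ u ∈ U, h * u * h⁻¹ ∈ U
  H_normW : ∀ i, ∀ h ∈ H, ∀ u ∈ Uw i, h * u * h⁻¹ ∈ Uw i
  UH : ∀ x ∈ U, x ∈ H → x = 1
  cell_U_mul : ∀ u ∈ U, ∀ g, cellOf (u * g) = cellOf g
  cell_H_mul : ∀ h ∈ H, ∀ g, cellOf (h * g) = cellOf g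
  cell_mul_U : ∀ u ∈ U, ∀ g, cellOf (g * u) = cellOf g
  cell_mul_H : ∀ h ∈ H, ∀ g, cellOf (g * h) = cellOf g
  cell_nw : ∀ i, cellOf (nw i) = i
  nf : ∀ g, ∃ u ∈ U, ∃ h ∈ H, ∃ u' ∈ Uw (cellOf g), g = u * h * nw (cellOf g) * u'
  uniq : ∀ i, ∀ u ∈ U, ∀ h ∈ H, ∀ u' ∈ Uw i, ∀ v ∈ U, ∀ k ∈ H, ∀ v' ∈ Uw i,
    u * h * nw i * u' = v * k * nw i * v' → u = v ∧ h = k ∧ u' = v'
  nw_norm : ∀ i, ∀ h ∈ H, nw i * h * (nw i)⁻¹ ∈ H
  nw_norm' : ∀ i, ∀ h ∈ H, (nw i)⁻¹ * h * nw i ∈ H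
  nw_one : nw i1 ∈ H
  Uw_one : Uw i1 = ⊥
  Uw_top : Uw i0 = U
  Uw_bot : ∀ i, Uw i = ⊥ → i = i1
  cent : ∀ u ∈ U, (∀ h ∈ H, h * u * h⁻¹ = u) → u = 1

namespace CellData

variable {Γ : Type*} [Group Γ] {ι : Type*} {p : ℕ} (D : CellData Γ ι p)

/-- The subgroup `B = U H`. -/
def B : Subgroup Γ where
  carrier := {g | ∃ u ∈ D.U, ∃ h ∈ D.H, g = u * h}
  mul_mem' := by
    rintro _ _ ⟨u, hu, h, hh, rfl⟩ ⟨u', hu', h', hh', rfl⟩
    refine ⟨u * (h * u' * h⁻¹), D.U.mul_mem hu (D.H_norm h hh u' hu'), h * h', D.H.mul_mem hh hh', ?_⟩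
    group
  one_mem' := ⟨1, D.U.one_mem, 1, D.H.one_mem, by rw [mul_one]⟩
  inv_mem' := by
    rintro _ ⟨u, hu, h, hh, rfl⟩
    refine ⟨h⁻¹ * u⁻¹ * h⁻¹⁻¹, D.H_norm h⁻¹ (D.H.inv_mem hh) u⁻¹ (D.U.inv_mem hu), h⁻¹, D.H.inv_mem hh, ?_⟩
    group

theorem mem_B (g : Γ) : g ∈ D.B ↔ ∃ u ∈ D.U, ∃ h ∈ D.H, g = u * h := Iff.rfl

theorem U_le_B : D.U ≤ D.B := fun u hu => ⟨u, hu, 1, D.H.one_mem, by rw [mul_one]⟩

theorem H_le_B : D.H ≤ D.B := fun h hh => ⟨1, D.U.one_mem, h, hh, by rw [one_mul]⟩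

theorem cell_B_mul (b : Γ) (hb : b ∈ D.B) (g : Γ) : D.cellOf (b * g) = D.cellOf g := by
  obtain ⟨u, hu, h, hh, rfl⟩ := hb
  rw [mul_assoc, D.cell_U_mul u hu, D.cell_H_mul h hh]

theorem cell_mul_B (b : Γ) (hb : b ∈ D.B) (g : Γ) : D.cellOf (g * b) = D.cellOf g := by
  obtain ⟨u, hu, h, hh, rfl⟩ := hb
  rw [← mul_assoc, D.cell_mul_H h hh, D.cell_mul_U u hu]

theorem cell_one : D.cellOf 1 = D.i1 := by
  rw [← D.cell_mul_H _ D.nw_one 1, one_mul, D.cell_nw]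

/-- `B` is the first cell. -/
theorem mem_B_iff (g : Γ) : g ∈ D.B ↔ D.cellOf g = D.i1 := by
  constructor
  · intro hg
    rw [← mul_one g, D.cell_B_mul g hg, D.cell_one]
  · intro h
    obtain ⟨u, hu, k, hk, u', hu', e⟩ := D.nf g
    rw [h, D.Uw_one, Subgroup.mem_bot] at hu'
    rw [h, hu', mul_one, mul_assoc] at e
    exact ⟨u, hu, k * D.nw D.i1, D.H.mul_mem hk D.nw_one, e⟩

/-- The elements of a cell. -/
theorem cell_eq_iff (g : Γ) (i : ι) : D.cellOf g = i ↔ ∃ b ∈ D.B, ∃ b' ∈ D.B, g = b * D.nw i * b' := by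
  constructor
  · rintro rfl
    obtain ⟨u, hu, k, hk, u', hu', e⟩ := D.nf g
    exact ⟨u * k, ⟨u, hu, k, hk, rfl⟩, u', D.U_le_B (D.Uw_le _ hu'), e⟩
  · rintro ⟨b, hb, b', hb', rfl⟩
    rw [D.cell_mul_B b' hb', D.cell_B_mul b hb, D.cell_nw]

/-- A representative normalising `U` lies in the first cell. -/
theorem cell_of_norm (i : ι) (h : ∀ x ∈ D.U, D.nw i * x * (D.nw i)⁻¹ ∈ D.U) : i = D.i1 := by
  apply D.Uw_bot
  rw [eq_bot_iff]
  intro v hv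
  rw [Subgroup.mem_bot]
  have hvU := D.Uw_le i hv
  have e : (1 : Γ) * 1 * D.nw i * v = (D.nw i * v * (D.nw i)⁻¹) * 1 * D.nw i * 1 := by group
  exact (D.uniq i 1 D.U.one_mem 1 D.H.one_mem v hv _ (h v hvU) 1 D.H.one_mem 1 (D.Uw i).one_mem e).2.2

theorem B_conj_mem (b : Γ) (hb : b ∈ D.B) (x : Γ) (hx : x ∈ D.U) : b * x * b⁻¹ ∈ D.U := by
  obtain ⟨u, hu, h, hh, rfl⟩ := hb
  have e : u * h * x * (u * h)⁻¹ = u * (h * x * h⁻¹) * u⁻¹ := by group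
  rw [e]
  exact D.U.mul_mem (D.U.mul_mem hu (D.H_norm h hh x hx)) (D.U.inv_mem hu)

/-- The normaliser of `U` is `B`. -/
theorem mem_B_iff_norm (g : Γ) : g ∈ D.B ↔ ∀ x ∈ D.U, g * x * g⁻¹ ∈ D.U := by
  constructor
  · intro hg x hx
    exact D.B_conj_mem g hg x hx
  · intro h
    obtain ⟨u, hu, k, hk, u', hu', e⟩ := D.nf g
    have hu'U := D.Uw_le _ hu'
    have hi : D.cellOf g = D.i1 := by
      apply D.cell_of_norm
      intro x hx
      have e2 : D.nw (D.cellOf g) = (u * k)⁻¹ * g * u'⁻¹ := by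
        conv_rhs => rw [e]
        group
      have hb : u * k ∈ D.B := ⟨u, hu, k, hk, rfl⟩
      have h1 : u'⁻¹ * x * u'⁻¹⁻¹ ∈ D.U := D.U.mul_mem (D.U.mul_mem (D.U.inv_mem hu'U) hx) (D.U.inv_mem (D.U.inv_mem hu'U))
      have h2 := h _ h1
      have h3 := D.B_conj_mem _ (D.B.inv_mem hb) _ h2
      have e3 : D.nw (D.cellOf g) * x * (D.nw (D.cellOf g))⁻¹ =
          (u * k)⁻¹ * (g * (u'⁻¹ * x * u'⁻¹⁻¹) * g⁻¹) * (u * k)⁻¹⁻¹ := by
        rw [e2]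
        group
      rw [e3]
      exact h3
    exact (D.mem_B_iff g).mpr hi

/-- `H` is the intersection of `B` with a conjugate. -/
theorem mem_H_iff (x : Γ) : x ∈ D.H ↔ x ∈ D.B ∧ D.nw D.i0 * x * (D.nw D.i0)⁻¹ ∈ D.B := by
  constructor
  · intro hx
    exact ⟨D.H_le_B hx, D.H_le_B (D.nw_norm D.i0 x hx)⟩
  · rintro ⟨⟨u, hu, h, hh, rfl⟩, ⟨u', hu', h', hh', e⟩⟩
    have hv : h⁻¹ * u * h⁻¹⁻¹ ∈ D.Uw D.i0 := by
      rw [D.Uw_top]
      exact D.H_norm h⁻¹ (D.H.inv_mem hh) u hu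
    have e2 : (1 : Γ) * (D.nw D.i0 * h * (D.nw D.i0)⁻¹) * D.nw D.i0 * (h⁻¹ * u * h⁻¹⁻¹) =
        u' * h' * D.nw D.i0 * 1 := by
      calc (1 : Γ) * (D.nw D.i0 * h * (D.nw D.i0)⁻¹) * D.nw D.i0 * (h⁻¹ * u * h⁻¹⁻¹)
          = (D.nw D.i0 * (u * h) * (D.nw D.i0)⁻¹) * D.nw D.i0 := by group
        _ = u' * h' * D.nw D.i0 * 1 := by rw [e, mul_one]
    have h3 := (D.uniq D.i0 1 D.U.one_mem _ (D.nw_norm D.i0 h hh) _ hv u' hu' h' hh' 1 (D.Uw D.i0).one_mem e2).2.2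
    have h4 : u = 1 := by
      have e3 : u = h * (h⁻¹ * u * h⁻¹⁻¹) * h⁻¹ := by group
      rw [e3, h3]
      group
    rw [h4, one_mul]
    exact hh

/-- Every automorphism preserves `U` up to an inner automorphism. -/
theorem exists_conj_U [Finite Γ] [Fact p.Prime] (σ : MulAut Γ) :
    ∃ g : Γ, ∀ x : Γ, x ∈ D.U ↔ (MulAut.conj g * σ) x ∈ D.U := by
  obtain ⟨S, hS⟩ := D.sylow
  obtain ⟨g, hg⟩ := MulAction.exists_smul_eq Γ (σ • S) S
  refine ⟨g, ?_⟩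
  have h1 : (MulAut.conj g * σ) • S = S := by
    rw [mul_smul, ← Sylow.smul_def]
    exact hg
  have h2 : ∀ x : Γ, x ∈ D.U ↔ x ∈ S := by
    intro x
    rw [← hS]
    exact Iff.rfl
  intro x
  rw [h2, h2]
  have h3 : (MulAut.conj g * σ) x ∈ ((MulAut.conj g * σ) • S : Sylow p Γ) ↔ x ∈ S := by
    show (MulAut.conj g * σ) x ∈ (((MulAut.conj g * σ) • S : Sylow p Γ) : Subgroup Γ) ↔ x ∈ (S : Subgroup Γ)
    rw [Sylow.pointwise_smul_def, ← MulAut.smul_def]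
    exact Subgroup.smul_mem_pointwise_smul_iff
  rw [h1] at h3
  exact h3.symm

/-- An automorphism preserving `U` preserves `B`. -/
theorem B_iff_of_U (ψ : MulAut Γ) (h : ∀ x : Γ, x ∈ D.U ↔ ψ x ∈ D.U) (x : Γ) :
    x ∈ D.B ↔ ψ x ∈ D.B := by
  rw [D.mem_B_iff_norm, D.mem_B_iff_norm]
  constructor
  · intro hx z hz
    have hy : ψ.symm z ∈ D.U := by
      rw [h, MulEquiv.apply_symm_apply]
      exact hz
    have := (h _).mp (hx _ hy)
    rwa [map_mul, map_mul, map_inv, MulEquiv.apply_symm_apply] at this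
  · intro hx y hy
    rw [h, map_mul, map_mul, map_inv]
    exact hx _ ((h y).mp hy)

theorem symm_U (ψ : MulAut Γ) (h : ∀ x : Γ, x ∈ D.U ↔ ψ x ∈ D.U) (x : Γ) : x ∈ D.U ↔ ψ.symm x ∈ D.U := by
  rw [h (ψ.symm x), MulEquiv.apply_symm_apply]

/-- An automorphism preserving `U` permutes the cells. -/
theorem cell_map (ψ : MulAut Γ) (h : ∀ x : Γ, x ∈ D.U ↔ ψ x ∈ D.U) (g g' : Γ) (e : D.cellOf g = D.cellOf g') :
    D.cellOf (ψ g) = D.cellOf (ψ g') := by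
  obtain ⟨b, hb, b', hb', rfl⟩ := (D.cell_eq_iff g (D.cellOf g')).mp e
  obtain ⟨c, hc, c', hc', e2⟩ := (D.cell_eq_iff g' (D.cellOf g')).mp rfl
  have e3 : ψ g' = ψ c * ψ (D.nw (D.cellOf g')) * ψ c' := by
    conv_lhs => rw [e2]
    rw [map_mul, map_mul]
  rw [e3, map_mul, map_mul, D.cell_mul_B _ ((D.B_iff_of_U ψ h _).mp hb'), D.cell_B_mul _ ((D.B_iff_of_U ψ h _).mp hb),
    D.cell_mul_B _ ((D.B_iff_of_U ψ h _).mp hc'), D.cell_B_mul _ ((D.B_iff_of_U ψ h _).mp hc)]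

/-- The number of elements of a cell. -/
theorem card_cell (i : ι) :
    Nat.card {g : Γ // D.cellOf g = i} = Nat.card D.U * Nat.card D.H * Nat.card (D.Uw i) := by
  have hmem : ∀ a : (D.U × D.H) × D.Uw i, D.cellOf ((a.1.1 : Γ) * (a.1.2 : Γ) * D.nw i * (a.2 : Γ)) = i := by
    intro a
    exact (D.cell_eq_iff _ i).mpr ⟨_, ⟨a.1.1, a.1.1.2, a.1.2, a.1.2.2, rfl⟩, a.2, D.U_le_B (D.Uw_le i a.2.2), rfl⟩
  let f : (D.U × D.H) × D.Uw i → {g : Γ // D.cellOf g = i} := fun a => ⟨_, hmem a⟩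
  have hf : Function.Bijective f := by
    constructor
    · rintro ⟨⟨u, h⟩, u'⟩ ⟨⟨v, k⟩, v'⟩ e
      have e1 : (u : Γ) * (h : Γ) * D.nw i * (u' : Γ) = (v : Γ) * (k : Γ) * D.nw i * (v' : Γ) :=
        congrArg Subtype.val e
      obtain ⟨h1, h2, h3⟩ := D.uniq i _ u.2 _ h.2 _ u'.2 _ v.2 _ k.2 _ v'.2 e1
      have : u = v := Subtype.ext h1
      have : h = k := Subtype.ext h2
      have : u' = v' := Subtype.ext h3
      subst_vars
      rfl
    · rintro ⟨g, rfl⟩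
      obtain ⟨u, hu, k, hk, u', hu', e⟩ := D.nf g
      exact ⟨((⟨u, hu⟩, ⟨k, hk⟩), ⟨u', hu'⟩), Subtype.ext e.symm⟩
  rw [← Nat.card_congr (Equiv.ofBijective f hf), Nat.card_prod, Nat.card_prod]

/-- An automorphism preserving `U` preserves the orders of the cell subgroups. -/
theorem card_Uw_map [Finite Γ] (ψ : MulAut Γ) (h : ∀ x : Γ, x ∈ D.U ↔ ψ x ∈ D.U) (i : ι) :
    Nat.card (D.Uw (D.cellOf (ψ (D.nw i)))) = Nat.card (D.Uw i) := by
  set j := D.cellOf (ψ (D.nw i)) with hj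
  let e : {g : Γ // D.cellOf g = i} ≃ {g : Γ // D.cellOf g = j} :=
    { toFun := fun g => ⟨ψ g.1, by
        rw [hj]
        apply D.cell_map ψ h
        rw [g.2, D.cell_nw]⟩
      invFun := fun g => ⟨ψ.symm g.1, by
        have h1 := D.cell_map ψ.symm (D.symm_U ψ h) g.1 (ψ (D.nw i)) g.2
        rw [h1, MulEquiv.symm_apply_apply, D.cell_nw]⟩
      left_inv := fun g => Subtype.ext (MulEquiv.symm_apply_apply ψ g.1)
      right_inv := fun g => Subtype.ext (MulEquiv.apply_symm_apply ψ g.1) }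
  have h1 := Nat.card_congr e
  rw [D.card_cell, D.card_cell] at h1
  have hpos : 0 < Nat.card D.U * Nat.card D.H := Nat.mul_pos Nat.card_pos Nat.card_pos
  exact (Nat.eq_of_mul_eq_mul_left hpos h1).symm

/-- A cell whose cell subgroup is determined by its order. -/
def Special (i : ι) : Prop := ∀ j, Nat.card (D.Uw j) = Nat.card (D.Uw i) → j = i

theorem cell_map_special [Finite Γ] (ψ : MulAut Γ) (h : ∀ x : Γ, x ∈ D.U ↔ ψ x ∈ D.U) (i : ι) (hi : D.Special i) :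
    D.cellOf (ψ (D.nw i)) = i :=
  hi _ (D.card_Uw_map ψ h i)

/-- An automorphism preserving `U` and `H`. -/
def Good (ψ : MulAut Γ) : Prop :=
  (∀ x : Γ, x ∈ D.U ↔ ψ x ∈ D.U) ∧ (∀ x : Γ, x ∈ D.H ↔ ψ x ∈ D.H)

/-- Every automorphism preserves `U` and `H` up to an inner automorphism. -/
theorem exists_good [Finite Γ] [Fact p.Prime] (h0 : D.Special D.i0) (σ : MulAut Γ) :
    ∃ g : Γ, D.Good (MulAut.conj g * σ) := by
  obtain ⟨g1, h1⟩ := D.exists_conj_U σ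
  set ψ1 := MulAut.conj g1 * σ with hψ1
  have hc : D.cellOf (ψ1 (D.nw D.i0)) = D.i0 := D.cell_map_special ψ1 h1 D.i0 h0
  obtain ⟨u, hu, k, hk, u', hu', e⟩ := D.nf (ψ1 (D.nw D.i0))
  rw [hc] at e hu'
  have hu'U : u' ∈ D.U := D.Uw_le _ hu'
  refine ⟨u' * g1, ?_⟩
  rw [map_mul, mul_assoc, ← hψ1]
  set ψ2 := MulAut.conj u' * ψ1 with hψ2
  have hU2 : ∀ x : Γ, x ∈ D.U ↔ ψ2 x ∈ D.U := by
    intro x
    rw [hψ2, MulAut.mul_apply, MulAut.conj_apply, h1 x]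
    constructor
    · intro hx
      exact D.U.mul_mem (D.U.mul_mem hu'U hx) (D.U.inv_mem hu'U)
    · intro hx
      have := D.U.mul_mem (D.U.mul_mem (D.U.inv_mem hu'U) hx) hu'U
      have e2 : u'⁻¹ * (u' * ψ1 x * u'⁻¹) * u' = ψ1 x := by group
      rwa [e2] at this
  refine ⟨hU2, ?_⟩
  intro x
  have e3 : ψ2 (D.nw D.i0) = (u' * u * k) * D.nw D.i0 := by
    rw [hψ2, MulAut.mul_apply, MulAut.conj_apply, e]
    group
  have hb : u' * u * k ∈ D.B := D.B.mul_mem (D.B.mul_mem (D.U_le_B hu'U) (D.U_le_B hu)) (D.H_le_B hk)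
  rw [D.mem_H_iff, D.mem_H_iff, ← D.B_iff_of_U ψ2 hU2 x, D.B_iff_of_U ψ2 hU2 (D.nw D.i0 * x * (D.nw D.i0)⁻¹), map_mul,
    map_mul, map_inv, e3]
  have e4 : (u' * u * k) * D.nw D.i0 * ψ2 x * ((u' * u * k) * D.nw D.i0)⁻¹ =
      (u' * u * k) * (D.nw D.i0 * ψ2 x * (D.nw D.i0)⁻¹) * (u' * u * k)⁻¹ := by
    group
  rw [e4]
  constructor
  · rintro ⟨ha, hb2⟩
    refine ⟨ha, ?_⟩
    have := D.B.mul_mem (D.B.mul_mem (D.B.inv_mem hb) hb2) hb
    have e5 : (u' * u * k)⁻¹ * ((u' * u * k) * (D.nw D.i0 * ψ2 x * (D.nw D.i0)⁻¹) * (u' * u * k)⁻¹) * (u' * u * k) =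
        D.nw D.i0 * ψ2 x * (D.nw D.i0)⁻¹ := by group
    rwa [e5] at this
  · rintro ⟨ha, hb2⟩
    exact ⟨ha, D.B.mul_mem (D.B.mul_mem hb hb2) (D.B.inv_mem hb)⟩

/-- An element normalising `H` is the product of an element of `H` and the representative of its cell. -/
theorem eq_of_norm_H (g : Γ) (hg : ∀ x : Γ, x ∈ D.H ↔ g * x * g⁻¹ ∈ D.H) :
    ∃ h ∈ D.H, g = h * D.nw (D.cellOf g) := by
  obtain ⟨u, hu, k, hk, u', hu', e⟩ := D.nf g
  set i := D.cellOf g with hi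
  set n := D.nw i with hn
  have key : ∀ h ∈ D.H, g * h * g⁻¹ * u * (g * h * g⁻¹)⁻¹ = u ∧ h⁻¹ * u' * h⁻¹⁻¹ = u' := by
    intro h hh
    have hk' : g * h * g⁻¹ ∈ D.H := (hg h).mp hh
    have e1 : u * (k * (n * h * n⁻¹)) * n * (h⁻¹ * u' * h⁻¹⁻¹) =
        (g * h * g⁻¹ * u * (g * h * g⁻¹)⁻¹) * (g * h * g⁻¹ * k) * n * u' := by
      have e2 : u * (k * (n * h * n⁻¹)) * n * (h⁻¹ * u' * h⁻¹⁻¹) = (u * k * n * u') * h := by group
      have e3 : (g * h * g⁻¹ * u * (g * h * g⁻¹)⁻¹) * (g * h * g⁻¹ * k) * n * u' =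
          g * h * g⁻¹ * (u * k * n * u') := by group
      rw [e2, e3, ← e]
      group
    obtain ⟨h1, -, h3⟩ := D.uniq i u hu _ (D.H.mul_mem hk (D.nw_norm i h hh)) _
      (D.H_normW i h⁻¹ (D.H.inv_mem hh) u' hu') _ (D.H_norm _ hk' u hu) _ (D.H.mul_mem hk' hk) u' hu' e1
    exact ⟨h1.symm, h3⟩
  have hu'1 : u' = 1 := by
    apply D.cent u' (D.Uw_le i hu')
    intro h hh
    have := (key h⁻¹ (D.H.inv_mem hh)).2
    rwa [inv_inv] at this
  have hu1 : u = 1 := by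
    apply D.cent u hu
    intro h hh
    have hx : g⁻¹ * h * g ∈ D.H := by
      rw [hg]
      have e4 : g * (g⁻¹ * h * g) * g⁻¹ = h := by group
      rw [e4]
      exact hh
    have := (key _ hx).1
    have e5 : g * (g⁻¹ * h * g) * g⁻¹ = h := by group
    rwa [e5] at this
  refine ⟨k, hk, ?_⟩
  rw [e, hu1, hu'1, one_mul, mul_one]

/-- An automorphism preserving `U` and `H` maps the representative of a special cell into its coset of `H`. -/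
theorem good_nw [Finite Γ] (ψ : MulAut Γ) (hψ : D.Good ψ) (i : ι) (hi : D.Special i) :
    ∃ h ∈ D.H, ψ (D.nw i) = h * D.nw i := by
  have h1 : ∀ x : Γ, x ∈ D.H ↔ ψ (D.nw i) * x * (ψ (D.nw i))⁻¹ ∈ D.H := by
    intro x
    have e : ψ (D.nw i) * x * (ψ (D.nw i))⁻¹ = ψ (D.nw i * ψ.symm x * (D.nw i)⁻¹) := by
      rw [map_mul, map_mul, map_inv, MulEquiv.apply_symm_apply]
    rw [e, ← hψ.2]
    constructor
    · intro hx
      apply D.nw_norm
      rw [hψ.2, MulEquiv.apply_symm_apply]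
      exact hx
    · intro hx
      have h2 := D.nw_norm' i _ hx
      have e2 : (D.nw i)⁻¹ * (D.nw i * ψ.symm x * (D.nw i)⁻¹) * D.nw i = ψ.symm x := by group
      rw [e2, hψ.2, MulEquiv.apply_symm_apply] at h2
      exact h2
  obtain ⟨h, hh, e⟩ := D.eq_of_norm_H _ h1
  rw [D.cell_map_special ψ hψ.1 i hi] at e
  exact ⟨h, hh, e⟩

/-- An element normalising `U` and `H` lies in `H`. -/
theorem mem_H_of_norm (c : Γ) (hU : ∀ x ∈ D.U, c * x * c⁻¹ ∈ D.U) (hH : ∀ x : Γ, x ∈ D.H ↔ c * x * c⁻¹ ∈ D.H) :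
    c ∈ D.H := by
  have hB : c ∈ D.B := (D.mem_B_iff_norm c).mpr hU
  obtain ⟨h, hh, e⟩ := D.eq_of_norm_H c hH
  rw [(D.mem_B_iff c).mp hB] at e
  rw [e]
  exact D.H.mul_mem hh D.nw_one

/-- A cell subgroup which is the intersection of `U` with a conjugate of `U`. -/
def IsRoot (i : ι) : Prop :=
  ∀ x : Γ, x ∈ D.Uw i ↔ x ∈ D.U ∧ (D.nw D.i0)⁻¹ * (D.nw i * x * (D.nw i)⁻¹) * D.nw D.i0 ∈ D.U

/-- An automorphism preserving `U` and `H` preserves the cell subgroups of this kind. -/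
theorem good_root [Finite Γ] (ψ : MulAut Γ) (hψ : D.Good ψ) (h0 : D.Special D.i0) (i : ι) (hi : D.Special i)
    (hr : D.IsRoot i) (x : Γ) : x ∈ D.Uw i ↔ ψ x ∈ D.Uw i := by
  obtain ⟨k0, hk0, e0⟩ := D.good_nw ψ hψ D.i0 h0
  obtain ⟨k, hk, e⟩ := D.good_nw ψ hψ i hi
  rw [hr x, hr (ψ x), ← hψ.1 x, hψ.1 ((D.nw D.i0)⁻¹ * (D.nw i * x * (D.nw i)⁻¹) * D.nw D.i0)]
  simp only [map_mul, map_inv, e0, e]
  set n0 := D.nw D.i0
  set n := D.nw i
  set y := n0⁻¹ * (n * ψ x * n⁻¹) * n0 with hy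
  set c := n0⁻¹ * (k0⁻¹ * k) * n0 with hc
  have hcH : c ∈ D.H := D.nw_norm' D.i0 _ (D.H.mul_mem (D.H.inv_mem hk0) hk)
  have e2 : (k0 * n0)⁻¹ * (k * n * ψ x * (k * n)⁻¹) * (k0 * n0) = c * y * c⁻¹ := by
    rw [hc, hy]
    group
  rw [e2]
  constructor
  · rintro ⟨h1, h2⟩
    refine ⟨h1, ?_⟩
    have := D.H_norm c⁻¹ (D.H.inv_mem hcH) _ h2
    have e3 : c⁻¹ * (c * y * c⁻¹) * c⁻¹⁻¹ = y := by group
    rwa [e3] at this
  · rintro ⟨h1, h2⟩
    exact ⟨h1, D.H_norm c hcH y h2⟩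

/-- A non-trivial element of a cell subgroup is not conjugated into `B` by the representative. -/
theorem conj_not_mem_B (i : ι) (z : Γ) (hz : z ∈ D.Uw i) (h : D.nw i * z * (D.nw i)⁻¹ ∈ D.B) : z = 1 := by
  obtain ⟨u, hu, k, hk, e⟩ := h
  have e2 : (1 : Γ) * 1 * D.nw i * z = u * k * D.nw i * 1 := by
    rw [← e]
    group
  exact (D.uniq i 1 D.U.one_mem 1 D.H.one_mem z hz u hu k hk 1 (D.Uw i).one_mem e2).2.2

/-- An automorphism preserving `U` and `H` which is the identity on a cell subgroup is the identity on the opposite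
subgroup. -/
theorem good_neg [Finite Γ] (ψ : MulAut Γ) (hψ : D.Good ψ) (i : ι) (hi : D.Special i)
    (hconj : ∀ x ∈ D.Uw i, x ≠ 1 → D.cellOf (D.nw i * x * (D.nw i)⁻¹) = i)
    (hid : ∀ x ∈ D.Uw i, ψ x = x) (x : Γ) (hx : x ∈ D.Uw i) :
    ψ (D.nw i * x * (D.nw i)⁻¹) = D.nw i * x * (D.nw i)⁻¹ := by
  by_cases hx1 : x = 1
  · rw [hx1, mul_one, mul_inv_cancel, map_one]
  obtain ⟨k, hk, e⟩ := D.good_nw ψ hψ i hi
  set n := D.nw i with hn
  -- `ψ n = n k'`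
  set k' := n⁻¹ * k * n with hk'
  have hk'H : k' ∈ D.H := D.nw_norm' i k hk
  have e1 : ψ n = n * k' := by
    rw [e, hk']
    group
  set x' := k' * x * k'⁻¹ with hx'
  have hx'W : x' ∈ D.Uw i := D.H_normW i k' hk'H x hx
  have e2 : ψ (n * x * n⁻¹) = n * x' * n⁻¹ := by
    rw [map_mul, map_mul, map_inv, e1, hid x hx, hx']
    group
  have hx'1 : x' ≠ 1 := by
    intro h
    apply hx1
    have e3 : x = k'⁻¹ * x' * k' := by
      rw [hx']
      group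
    rw [e3, h]
    group
  -- the normal forms
  obtain ⟨a, ha, c, hc, b, hb, e4⟩ := D.nf (n * x * n⁻¹)
  rw [hconj x hx hx1] at e4 hb
  obtain ⟨a', ha', c', hc', b', hb', e5⟩ := D.nf (n * x' * n⁻¹)
  rw [hconj x' hx'W hx'1] at e5 hb'
  have e6 : ψ a * (ψ c * k) * n * b = a' * c' * n * b' := by
    rw [← e5, ← e2, e4, map_mul, map_mul, map_mul, e, hid b hb]
    group
  obtain ⟨-, -, h3⟩ := D.uniq i _ ((hψ.1 a).mp ha) _ (D.H.mul_mem ((hψ.2 c).mp hc) hk) b hb a' ha' c' hc' b' hb' e6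
  -- the same last component: the elements agree
  have h4 : x * x'⁻¹ = 1 := by
    apply D.conj_not_mem_B i _ ((D.Uw i).mul_mem hx ((D.Uw i).inv_mem hx'W))
    have e7 : D.nw i * (x * x'⁻¹) * (D.nw i)⁻¹ = (n * x * n⁻¹) * (n * x' * n⁻¹)⁻¹ := by
      rw [← hn]
      group
    rw [e7, e4, e5, ← h3]
    have e8 : (a * c * n * b) * (a' * c' * n * b)⁻¹ = (a * c) * (a' * c')⁻¹ := by group
    rw [e8]
    exact D.B.mul_mem ⟨a, ha, c, hc, rfl⟩ (D.B.inv_mem ⟨a', ha', c', hc', rfl⟩)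
  have h5 : x = x' := mul_inv_eq_one.mp h4
  rw [e2, ← h5]

theorem good_mul (ψ φ : MulAut Γ) (hψ : D.Good ψ) (hφ : D.Good φ) : D.Good (ψ * φ) := by
  constructor
  · intro x
    rw [MulAut.mul_apply, ← hψ.1, ← hφ.1]
  · intro x
    rw [MulAut.mul_apply, ← hψ.2, ← hφ.2]

theorem good_inv (ψ : MulAut Γ) (hψ : D.Good ψ) : D.Good ψ⁻¹ := by
  constructor
  · intro x
    rw [hψ.1 (ψ⁻¹ x), MulAut.apply_inv_self]
  · intro x
    rw [hψ.2 (ψ⁻¹ x), MulAut.apply_inv_self]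

theorem good_conj (h : Γ) (hh : h ∈ D.H) : D.Good (MulAut.conj h) := by
  constructor
  · intro x
    rw [MulAut.conj_apply]
    constructor
    · intro hx
      exact D.H_norm h hh x hx
    · intro hx
      have := D.H_norm h⁻¹ (D.H.inv_mem hh) _ hx
      have e : h⁻¹ * (h * x * h⁻¹) * h⁻¹⁻¹ = x := by group
      rwa [e] at this
  · intro x
    rw [MulAut.conj_apply]
    constructor
    · intro hx
      exact D.H.mul_mem (D.H.mul_mem hh hx) (D.H.inv_mem hh)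
    · intro hx
      have := D.H.mul_mem (D.H.mul_mem (D.H.inv_mem hh) hx) hh
      have e : h⁻¹ * (h * x * h⁻¹) * h = x := by group
      rwa [e] at this

/-- An automorphism which is the identity on a set is the identity on the subgroup generated by the set. -/
theorem fix_closure (ψ : MulAut Γ) (S : Set Γ) (h : ∀ g ∈ S, ψ g = g) (g : Γ) (hg : g ∈ Subgroup.closure S) :
    ψ g = g := by
  induction hg using Subgroup.closure_induction with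
  | mem x hx => exact h x hx
  | one => exact map_one ψ
  | mul a b _ _ ha hb => rw [map_mul, ha, hb]
  | inv a _ ha => rw [map_inv, ha]

/-- A criterion for a cell subgroup to be the intersection of `U` with a conjugate of `U`. -/
theorem isRoot_of (i : ι)
    (h : ∀ u ∈ D.Uw i, (D.nw D.i0)⁻¹ * (D.nw i * u * (D.nw i)⁻¹) * D.nw D.i0 ∈ D.U) : D.IsRoot i := by
  intro x
  constructor
  · intro hx
    exact ⟨D.Uw_le i hx, h x hx⟩
  · rintro ⟨hxU, hy⟩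
    set n0 := D.nw D.i0 with hn0
    set n := D.nw i with hn
    have hc : D.cellOf (n * x) = i := by
      rw [D.cell_mul_U x hxU, hn, D.cell_nw]
    obtain ⟨u0, hu0, k, hk, u, hu, e⟩ := D.nf (n * x)
    rw [hc] at e hu
    have hy' := h u hu
    -- the element `w = y y'⁻¹` of `U` is conjugated into `B` by `n0`
    set w := (n0⁻¹ * (n * x * n⁻¹) * n0) * (n0⁻¹ * (n * u * n⁻¹) * n0)⁻¹ with hw
    have hwU : w ∈ D.Uw D.i0 := by
      rw [D.Uw_top]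
      exact D.U.mul_mem hy (D.U.inv_mem hy')
    have e2 : (1 : Γ) * 1 * n0 * w = u0 * k * n0 * 1 := by
      have e3 : n0 * w = (n * x) * u⁻¹ * n⁻¹ * n0 := by
        rw [hw]
        group
      rw [one_mul, one_mul, mul_one, e3, e, ← hn]
      group
    have h3 := (D.uniq D.i0 1 D.U.one_mem 1 D.H.one_mem w hwU u0 hu0 k hk 1 (D.Uw D.i0).one_mem e2).2.2
    have h4 : x = u := by
      have e4 : x * u⁻¹ = n⁻¹ * (n0 * w * n0⁻¹) * n := by
        rw [hw]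
        group
      rw [h3] at e4
      have e5 : x * u⁻¹ = 1 := by
        rw [e4]
        group
      exact mul_inv_eq_one.mp e5
    rw [h4]
    exact hu

end CellData

end Cfsg.Agent.Lib.Helper36_CellAut
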