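import Cfsg.Agent.Lib.Helper36_CellAut2

set_option autoImplicit false

/-!
Automorphisms of a finite group with a normal form of Bruhat type, third version: the cells of the distinguished
representatives need not be determined by the orders of their cell subgroups; it is enough that the automorphisms
in question map the representative into its cell. The permutation of the cells induced by an automorphism preserving
`U` is compatible with the products of two distinguished representatives.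
-/

namespace Cfsg.Agent.Lib.Helper36_CellAut3

open Cfsg.Agent.Lib.Helper36_CellAut2 Cfsg.Agent.Lib.Helper36_CellAut2.CellCore

variable {Γ : Type*} [Group Γ] {ι : Type*} {p : ℕ} (D : CellCore Γ ι p)

/-- A good automorphism mapping the representative of a cell of the kind above into its cell maps it into its coset
of `H`. -/
theorem good_nw2 [Finite Γ] (ψ : MulAut Γ) (hψ : D.Good ψ) (i : ι)
    (hc : D.cellOf (ψ (D.nw i)) = i) (hr : D.IsRoot i)
    (hconj : ∀ x ∈ D.Uw i, x ≠ 1 → D.cellOf (D.nw i * x * (D.nw i)⁻¹) = i)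
    (hsq : D.nw i * D.nw i ∈ D.H)
    (hopp : ∃ h ∈ D.H, D.nw D.i0 * D.nw i * (D.nw D.i0)⁻¹ = h * D.nw i) :
    ∃ k ∈ D.H, ψ (D.nw i) = k * D.nw i := by
  obtain ⟨k0, hk0, e0⟩ := hψ.2.2
  set n0 := D.nw D.i0 with hn0
  set n := D.nw i with hn
  obtain ⟨u, hu, k, hk, x, hx, e⟩ := D.nf (ψ n)
  rw [hc] at e hx
  -- the last component is trivial
  have hx1 : x = 1 := by
    by_contra hne
    -- `x k0 = k0 x1`
    set x1 := k0⁻¹ * x * k0⁻¹⁻¹ with hx1def
    have hx1W : x1 ∈ D.Uw i := D.H_normW i _ (D.H.inv_mem hk0) x hx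
    have hx1ne : x1 ≠ 1 := by
      intro h
      apply hne
      have e2 : x = k0 * x1 * k0⁻¹ := by
        rw [hx1def]
        group
      rw [e2, h]
      group
    obtain ⟨a, ha, c, hcH, b, hb, e3⟩ := D.nf (n * x1 * n⁻¹)
    rw [hconj x1 hx1W hx1ne] at e3 hb
    have hb' := D.root_conj i hr hsq b hb
    have e4 : u * k * n * x * (k0 * n0) =
        (u * k * (n * k0 * n⁻¹) * a * c) * ((n * n) * n0) * ((n * n0)⁻¹ * b * (n * n0)) := by
      have e5 : u * k * n * x * (k0 * n0) = u * k * (n * k0 * n⁻¹) * (n * x1 * n⁻¹) * n * n0 := by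
        rw [hx1def]
        group
      rw [e5, e3, ← hn]
      group
    -- the image of `n n0` lies in the last cell
    have hcj : D.cellOf (ψ (n * n0)) = D.i0 := by
      rw [map_mul, e0, e, e4, D.cell_mul_U _ hb', D.cell_B_mul _ (D.B.mul_mem (D.B.mul_mem (D.B.mul_mem
        (D.B.mul_mem (D.U_le_B hu) (D.H_le_B hk)) (D.H_le_B (D.nw_norm i k0 hk0))) (D.U_le_B ha)) (D.H_le_B hcH)),
        D.cell_H_mul _ hsq, D.cell_nw]
    -- so `n n0` lies in the last cell, which is impossible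
    have hlast : D.cellOf (n * n0) = D.i0 := by
      have hinv := D.good_inv ψ hψ
      obtain ⟨k1, hk1, e1⟩ := hinv.2.2
      have h1 := D.cell_map ψ⁻¹ hinv.1 (ψ (n * n0)) (D.nw D.i0) (by rw [hcj, D.cell_nw])
      rw [MulAut.inv_apply_self, e1, D.cell_H_mul _ hk1, D.cell_nw] at h1
      exact h1
    obtain ⟨b1, hb1, b2, hb2, e6⟩ := (D.cell_eq_iff (n * n0) D.i0).mp hlast
    have h7 := D.root_conj i hr hsq x1 hx1W
    rw [← hn, ← hn0, e6] at h7
    have hz : b1⁻¹ * x1 * b1⁻¹⁻¹ ∈ D.U := D.B_conj_mem _ (D.B.inv_mem hb1) x1 (D.Uw_le i hx1W)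
    have h8 : n0⁻¹ * (b1⁻¹ * x1 * b1⁻¹⁻¹) * n0 ∈ D.U := by
      have := D.B_conj_mem _ hb2 _ h7
      have e9 : b2 * ((b1 * n0 * b2)⁻¹ * x1 * (b1 * n0 * b2)) * b2⁻¹ = n0⁻¹ * (b1⁻¹ * x1 * b1⁻¹⁻¹) * n0 := by group
      rwa [e9] at this
    have h9 := D.eq_one_of_conj_n0 _ hz h8
    apply hx1ne
    have e10 : x1 = b1 * (b1⁻¹ * x1 * b1⁻¹⁻¹) * b1⁻¹ := by group
    rw [e10, h9]
    group
  rw [hx1, mul_one] at e
  -- `ψ n = b n` with `b` in `B`; then `b` lies in `H`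
  obtain ⟨hs, hsH, es⟩ := hopp
  refine ⟨u * k, ?_, by rw [e]⟩
  rw [D.mem_H_iff]
  refine ⟨⟨u, hu, k, hk, rfl⟩, ?_⟩
  have h1 : ψ (n0 * n * n0⁻¹) = ψ hs * ψ n := by rw [es, map_mul]
  rw [map_mul, map_mul, map_inv, e0, e] at h1
  have e2 : n0 * (u * k) * n0⁻¹ = k0⁻¹ * (k0 * n0 * (u * k * n) * (k0 * n0)⁻¹) * k0 * (n0 * n * n0⁻¹)⁻¹ := by group
  rw [e2, h1, es]
  have e3 : k0⁻¹ * (ψ hs * (u * k * n)) * k0 * (hs * n)⁻¹ =
      k0⁻¹ * ψ hs * (u * k) * (n * k0 * n⁻¹) * hs⁻¹ := by group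
  rw [e3]
  have hB := D.H_le_B
  exact D.B.mul_mem (D.B.mul_mem (D.B.mul_mem (D.B.mul_mem (hB (D.H.inv_mem hk0))
    (hB ((hψ.2.1 _).mp hsH))) ⟨u, hu, k, hk, rfl⟩) (hB (D.nw_norm i k0 hk0))) (hB (D.H.inv_mem hsH))

/-- The hypotheses on a cell used for the good automorphisms, second version. -/
structure RootCell' (i : ι) : Prop where
  fix : ∀ ψ : MulAut Γ, D.Good ψ → D.cellOf (ψ (D.nw i)) = i
  root : D.IsRoot i
  conj : ∀ x ∈ D.Uw i, x ≠ 1 → D.cellOf (D.nw i * x * (D.nw i)⁻¹) = i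
  sq : D.nw i * D.nw i ∈ D.H
  opp : ∃ h ∈ D.H, D.nw D.i0 * D.nw i * (D.nw D.i0)⁻¹ = h * D.nw i

theorem RootCell'.nw [Finite Γ] {i : ι} (R : RootCell' D i) (ψ : MulAut Γ) (hψ : D.Good ψ) :
    ∃ k ∈ D.H, ψ (D.nw i) = k * D.nw i :=
  good_nw2 D ψ hψ i (R.fix ψ hψ) R.root R.conj R.sq R.opp

/-- A good automorphism preserves the cell subgroups of this kind. -/
theorem good_root2 [Finite Γ] (ψ : MulAut Γ) (hψ : D.Good ψ) (i : ι) (R : RootCell' D i) (x : Γ) :
    x ∈ D.Uw i ↔ ψ x ∈ D.Uw i := by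
  obtain ⟨k0, hk0, e0⟩ := hψ.2.2
  obtain ⟨k, hk, e⟩ := RootCell'.nw D R ψ hψ
  have hr := R.root
  rw [hr x, hr (ψ x), ← hψ.1 x, hψ.1 ((D.nw D.i0)⁻¹ * (D.nw i * x * (D.nw i)⁻¹) * D.nw D.i0)]
  simp only [map_mul, map_inv, e0, e]
  set n0 := D.nw D.i0
  set n := D.nw i
  set y := n0⁻¹ * (n * ψ x * n⁻¹) * n0 with hy
  set c := n0⁻¹ * (k0⁻¹ * k) * n0 with hc
  have hcH : c ∈ D.H := D.nw_norm' D.i0 _ (D.H.mul_mem (D.H.inv_mem hk0) hk)
  have e2 : (k0 * n0)⁻¹ * (k * n * ψ x * (k * n)⁻¹) * (k0 * n0) = c * y * c⁻¹ := by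
    rw [hc, hy]
    group
  rw [e2]
  constructor
  · rintro ⟨h1, h2⟩
    refine ⟨h1, ?_⟩
    have := D.H_norm c⁻¹ (D.H.inv_mem hcH) _ h2
    have e3 : c⁻¹ * (c * y * c⁻¹) * c⁻¹⁻¹ = y := by group
    rwa [e3] at this
  · rintro ⟨h1, h2⟩
    exact ⟨h1, D.H_norm c hcH y h2⟩

/-- A good automorphism which is the identity on a cell subgroup of this kind is the identity on the opposite
subgroup. -/
theorem good_neg2 [Finite Γ] (ψ : MulAut Γ) (hψ : D.Good ψ) (i : ι) (R : RootCell' D i)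
    (hid : ∀ x ∈ D.Uw i, ψ x = x) (x : Γ) (hx : x ∈ D.Uw i) :
    ψ (D.nw i * x * (D.nw i)⁻¹) = D.nw i * x * (D.nw i)⁻¹ := by
  by_cases hx1 : x = 1
  · rw [hx1, mul_one, mul_inv_cancel, map_one]
  obtain ⟨k, hk, e⟩ := RootCell'.nw D R ψ hψ
  have hconj := R.conj
  set n := D.nw i with hn
  -- `ψ n = n k'`
  set k' := n⁻¹ * k * n with hk'
  have hk'H : k' ∈ D.H := D.nw_norm' i k hk
  have e1 : ψ n = n * k' := by
    rw [e, hk']
    group
  set x' := k' * x * k'⁻¹ with hx'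
  have hx'W : x' ∈ D.Uw i := D.H_normW i k' hk'H x hx
  have e2 : ψ (n * x * n⁻¹) = n * x' * n⁻¹ := by
    rw [map_mul, map_mul, map_inv, e1, hid x hx, hx']
    group
  have hx'1 : x' ≠ 1 := by
    intro h
    apply hx1
    have e3 : x = k'⁻¹ * x' * k' := by
      rw [hx']
      group
    rw [e3, h]
    group
  -- the normal forms
  obtain ⟨a, ha, c, hc, b, hb, e4⟩ := D.nf (n * x * n⁻¹)
  rw [hconj x hx hx1] at e4 hb
  obtain ⟨a', ha', c', hc', b', hb', e5⟩ := D.nf (n * x' * n⁻¹)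
  rw [hconj x' hx'W hx'1] at e5 hb'
  have e6 : ψ a * (ψ c * k) * n * b = a' * c' * n * b' := by
    rw [← e5, ← e2, e4, map_mul, map_mul, map_mul, e, hid b hb]
    group
  obtain ⟨-, -, h3⟩ := D.uniq i _ ((hψ.1 a).mp ha) _ (D.H.mul_mem ((hψ.2.1 c).mp hc) hk) b hb a' ha' c' hc' b' hb' e6
  -- the same last component: the elements agree
  have h4 : x * x'⁻¹ = 1 := by
    apply D.conj_not_mem_B i _ ((D.Uw i).mul_mem hx ((D.Uw i).inv_mem hx'W))
    have e7 : D.nw i * (x * x'⁻¹) * (D.nw i)⁻¹ = (n * x * n⁻¹) * (n * x' * n⁻¹)⁻¹ := by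
      rw [← hn]
      group
    rw [e7, e4, e5, ← h3]
    have e8 : (a * c * n * b) * (a' * c' * n * b)⁻¹ = (a * c) * (a' * c')⁻¹ := by group
    rw [e8]
    exact D.B.mul_mem ⟨a, ha, c, hc, rfl⟩ (D.B.inv_mem ⟨a', ha', c', hc', rfl⟩)
  have h5 : x = x' := mul_inv_eq_one.mp h4
  rw [e2, ← h5]

/-! ### the permutation of the cells -/

/-- The permutation of the cells induced by an automorphism. -/
def star (ψ : MulAut Γ) (i : ι) : ι := D.cellOf (ψ (D.nw i))

theorem star_inv (ψ : MulAut Γ) (h : ∀ x : Γ, x ∈ D.U ↔ ψ x ∈ D.U) (i : ι) : star D ψ⁻¹ (star D ψ i) = i := by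
  unfold star
  have hinv : ∀ x : Γ, x ∈ D.U ↔ ψ⁻¹ x ∈ D.U := by
    intro x
    rw [h (ψ⁻¹ x), MulAut.apply_inv_self]
  have h1 := D.cell_map ψ⁻¹ hinv (D.nw (D.cellOf (ψ (D.nw i)))) (ψ (D.nw i)) (by rw [D.cell_nw])
  rw [h1, MulAut.inv_apply_self, D.cell_nw]

theorem star_injective (ψ : MulAut Γ) (h : ∀ x : Γ, x ∈ D.U ↔ ψ x ∈ D.U) : Function.Injective (star D ψ) := by
  intro i j e
  rw [← star_inv D ψ h i, ← star_inv D ψ h j, e]

theorem card_star [Finite Γ] (ψ : MulAut Γ) (h : ∀ x : Γ, x ∈ D.U ↔ ψ x ∈ D.U) (i : ι) :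
    Nat.card (D.Uw (star D ψ i)) = Nat.card (D.Uw i) := D.card_Uw_map ψ h i

/-- The image of an element of a cell lies in the image of the cell. -/
theorem cell_star (ψ : MulAut Γ) (h : ∀ x : Γ, x ∈ D.U ↔ ψ x ∈ D.U) (g : Γ) :
    D.cellOf (ψ g) = star D ψ (D.cellOf g) := by
  unfold star
  exact D.cell_map ψ h g (D.nw (D.cellOf g)) (by rw [D.cell_nw])

section mul

variable [Group ι] (hmul : ∀ x y : ι, D.cellOf (D.nw x * D.nw y) = x * y)

/-- The condition on the products of double cosets. -/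
def UnionAx (s : ι) : Prop :=
  ∀ b ∈ D.B, ∀ i : ι, D.cellOf (D.nw s * b * D.nw i) = s * i ∨ D.cellOf (D.nw s * b * D.nw i) = i

/-- The product of the double cosets of two distinct distinguished representatives is a double coset. -/
theorem cell_mul_gen (s t : ι) (hs : UnionAx D s) (ht : UnionAx D t) (hst : s ≠ t) (hs1 : s ≠ 1) (htt : t * t = 1)
    (hsq : D.nw t * D.nw t ∈ D.H) (b : Γ) (hb : b ∈ D.B) : D.cellOf (D.nw s * b * D.nw t) = s * t := by
  rcases hs b hb t with h | h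
  · exact h
  exfalso
  obtain ⟨b1, hb1, b2, hb2, e⟩ := (D.cell_eq_iff _ t).mp h
  set h' := (D.nw t * D.nw t)⁻¹ with hh'
  have hh'H : h' ∈ D.H := D.H.inv_mem hsq
  have e2 : D.nw s = b1 * (D.nw t * (b2 * h') * D.nw t) * b⁻¹ := by
    have e3 : D.nw s = (D.nw s * b * D.nw t) * (D.nw t)⁻¹ * b⁻¹ := by group
    rw [e3, e, hh']
    group
  have h3 : D.cellOf (D.nw s) = D.cellOf (D.nw t * (b2 * h') * D.nw t) := by
    conv_lhs => rw [e2]
    rw [D.cell_mul_B _ (D.B.inv_mem hb), D.cell_B_mul _ hb1]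
  rw [D.cell_nw] at h3
  rcases ht (b2 * h') (D.B.mul_mem hb2 (D.H_le_B hh'H)) t with h4 | h4
  · rw [h4, htt] at h3
    exact hs1 h3
  · rw [h4] at h3
    exact hst h3

include hmul in
/-- The permutation of the cells induced by an automorphism preserving `U` is compatible with the product of two
distinguished cells whose images are distinct distinguished cells. -/
theorem star_mul (ψ : MulAut Γ) (h : ∀ x : Γ, x ∈ D.U ↔ ψ x ∈ D.U) (s t : ι)
    (hs : UnionAx D (star D ψ s)) (ht : UnionAx D (star D ψ t)) (hst : star D ψ s ≠ star D ψ t)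
    (hs1 : star D ψ s ≠ 1) (htt : star D ψ t * star D ψ t = 1)
    (hsq : D.nw (star D ψ t) * D.nw (star D ψ t) ∈ D.H) :
    star D ψ (s * t) = star D ψ s * star D ψ t := by
  have e1 : star D ψ (s * t) = D.cellOf (ψ (D.nw s * D.nw t)) := by
    rw [cell_star D ψ h, hmul]
  rw [e1, map_mul]
  obtain ⟨b1, hb1, b2, hb2, e2⟩ := (D.cell_eq_iff (ψ (D.nw s)) (star D ψ s)).mp rfl
  obtain ⟨b3, hb3, b4, hb4, e3⟩ := (D.cell_eq_iff (ψ (D.nw t)) (star D ψ t)).mp rfl
  have e4 : ψ (D.nw s) * ψ (D.nw t) = b1 * (D.nw (star D ψ s) * (b2 * b3) * D.nw (star D ψ t)) * b4 := by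
    rw [e2, e3]
    group
  rw [e4, D.cell_mul_B _ hb4, D.cell_B_mul _ hb1]
  exact cell_mul_gen D _ _ hs ht hst hs1 htt hsq _ (D.B.mul_mem hb2 hb3)

end mul

section f4

variable [Group ι] [Finite Γ] (hmul : ∀ x y : ι, D.cellOf (D.nw x * D.nw y) = x * y)

/-- The properties of a distinguished generator. -/
def IsGen (x : ι) : Prop := UnionAx D x ∧ x ≠ 1 ∧ x * x = 1 ∧ D.nw x * D.nw x ∈ D.H

omit [Finite Γ] in
include hmul in
theorem star_mul' (ψ : MulAut Γ) (h : ∀ x : Γ, x ∈ D.U ↔ ψ x ∈ D.U) (s t : ι) (hs : IsGen D (star D ψ s))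
    (ht : IsGen D (star D ψ t)) (hst : star D ψ s ≠ star D ψ t) :
    star D ψ (s * t) = star D ψ s * star D ψ t :=
  star_mul D hmul ψ h s t hs.1 ht.1 hst hs.2.1 ht.2.2.1 ht.2.2.2

include hmul in
/-- The permutation of the cells induced by an automorphism preserving `U` fixes the four distinguished cells of a
group of type `F₄` with two sizes of distinguished cell subgroups. -/
theorem star_fix_f4 (a0 a1 a2 a3 : ι) (g0 : IsGen D a0) (g1 : IsGen D a1) (g2 : IsGen D a2) (g3 : IsGen D a3)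
    (n01 : a0 ≠ a1) (n23 : a2 ≠ a3) (hcard : Nat.card (D.Uw a0) ≠ Nat.card (D.Uw a2))
    (c1 : ∀ j, Nat.card (D.Uw j) = Nat.card (D.Uw a0) → j = a0 ∨ j = a1)
    (c1' : Nat.card (D.Uw a1) = Nat.card (D.Uw a0))
    (c2 : ∀ j, Nat.card (D.Uw j) = Nat.card (D.Uw a2) → j = a2 ∨ j = a3 ∨ j = a0 * a1 ∨ j = a1 * a0)
    (c2' : Nat.card (D.Uw a3) = Nat.card (D.Uw a2))
    (d1 : a2 ≠ a0 * a1) (d2 : a2 ≠ a1 * a0) (d3 : a3 ≠ a0 * a1) (d4 : a3 ≠ a1 * a0)
    (k02 : a0 * a2 = a2 * a0) (k03 : a0 * a3 = a3 * a0) (k12 : a1 * a2 = a2 * a1) (n13 : a1 * a3 ≠ a3 * a1)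
    (ψ : MulAut Γ) (h : ∀ x : Γ, x ∈ D.U ↔ ψ x ∈ D.U) :
    star D ψ a0 = a0 ∧ star D ψ a1 = a1 ∧ star D ψ a2 = a2 ∧ star D ψ a3 = a3 := by
  set S := star D ψ with hS
  have inj : Function.Injective S := star_injective D ψ h
  have card : ∀ i, Nat.card (D.Uw (S i)) = Nat.card (D.Uw i) := card_star D ψ h
  -- the two short generators are permuted
  have h0 : S a0 = a0 ∨ S a0 = a1 := c1 _ (card a0)
  have h1 : S a1 = a0 ∨ S a1 = a1 := c1 _ ((card a1).trans c1')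
  have hne01 : S a0 ≠ S a1 := fun e => n01 (inj e)
  have hG0 : IsGen D (S a0) := by rcases h0 with e | e <;> rw [e] <;> assumption
  have hG1 : IsGen D (S a1) := by rcases h1 with e | e <;> rw [e] <;> assumption
  have m01 : S (a0 * a1) = S a0 * S a1 := star_mul' D hmul ψ h a0 a1 hG0 hG1 hne01
  have m10 : S (a1 * a0) = S a1 * S a0 := star_mul' D hmul ψ h a1 a0 hG1 hG0 hne01.symm
  -- the two products are permuted
  have hp : (S (a0 * a1) = a0 * a1 ∧ S (a1 * a0) = a1 * a0) ∨ (S (a0 * a1) = a1 * a0 ∧ S (a1 * a0) = a0 * a1) := by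
    rcases h0 with e0 | e0 <;> rcases h1 with e1 | e1
    · exact absurd (e0.trans e1.symm) hne01
    · left
      rw [m01, m10, e0, e1]
      exact ⟨rfl, rfl⟩
    · right
      rw [m01, m10, e0, e1]
      exact ⟨rfl, rfl⟩
    · exact absurd (e0.trans e1.symm) hne01
  -- the two long generators are permuted
  have hlong : ∀ x, (x = a2 ∨ x = a3) → Nat.card (D.Uw x) = Nat.card (D.Uw a2) → x ≠ a0 * a1 → x ≠ a1 * a0 →
      S x = a2 ∨ S x = a3 := by
    intro x _ hc hx1 hx2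
    rcases c2 _ ((card x).trans hc) with e | e | e | e
    · exact Or.inl e
    · exact Or.inr e
    · exfalso
      rcases hp with ⟨e1, -⟩ | ⟨-, e2⟩
      · exact hx1 (inj (e.trans e1.symm))
      · exact hx2 (inj (e.trans e2.symm))
    · exfalso
      rcases hp with ⟨-, e2⟩ | ⟨e1, -⟩
      · exact hx2 (inj (e.trans e2.symm))
      · exact hx1 (inj (e.trans e1.symm))
  have h2 : S a2 = a2 ∨ S a2 = a3 := hlong a2 (Or.inl rfl) rfl d1 d2
  have h3 : S a3 = a2 ∨ S a3 = a3 := hlong a3 (Or.inr rfl) c2' d3 d4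
  have hne23 : S a2 ≠ S a3 := fun e => n23 (inj e)
  have hG2 : IsGen D (S a2) := by rcases h2 with e | e <;> rw [e] <;> assumption
  have hG3 : IsGen D (S a3) := by rcases h3 with e | e <;> rw [e] <;> assumption
  -- commuting generators have commuting images
  have key : ∀ s t, IsGen D (S s) → IsGen D (S t) → S s ≠ S t → s * t = t * s → S s * S t = S t * S s := by
    intro s t hs ht hst hc
    rw [← star_mul' D hmul ψ h s t hs ht hst, ← star_mul' D hmul ψ h t s ht hs hst.symm, hc]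
  have hne (s t : ι) (hst : s ≠ t) : S s ≠ S t := fun e => hst (inj e)
  have ncard : ∀ s t, Nat.card (D.Uw s) = Nat.card (D.Uw a0) → Nat.card (D.Uw t) = Nat.card (D.Uw a2) → s ≠ t := by
    intro s t hs ht e
    apply hcard
    rw [← hs, ← ht, e]
  have n02 : a0 ≠ a2 := ncard a0 a2 rfl rfl
  have n03 : a0 ≠ a3 := ncard a0 a3 rfl c2'
  have n12 : a1 ≠ a2 := ncard a1 a2 c1' rfl
  have e0 : S a0 = a0 := by
    rcases h0 with e | e
    · exact e
    · exfalso
      have k2 := key a0 a2 hG0 hG2 (hne _ _ n02) k02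
      have k3 := key a0 a3 hG0 hG3 (hne _ _ n03) k03
      rw [e] at k2 k3
      rcases h2 with e2 | e2
      · rcases h3 with e3 | e3
        · exact hne23 (e2.trans e3.symm)
        · rw [e3] at k3
          exact n13 k3
      · rw [e2] at k2
        exact n13 k2
  have e1 : S a1 = a1 := by
    rcases h1 with e | e
    · exact absurd (e0.trans e.symm) hne01
    · exact e
  have e2 : S a2 = a2 := by
    rcases h2 with e | e
    · exact e
    · exfalso
      have k := key a1 a2 hG1 hG2 (hne _ _ n12) k12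
      rw [e1, e] at k
      exact n13 k
  have e3 : S a3 = a3 := by
    rcases h3 with e | e
    · exact absurd (e2.trans e.symm) hne23
    · exact e
  exact ⟨e0, e1, e2, e3⟩

end f4

end Cfsg.Agent.Lib.Helper36_CellAut3
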