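import Cfsg.Agent.Lib.Helper36_CellAut3
import Cfsg.Prelude.Def_KGroupFacts

set_option autoImplicit false

/-!
The automorphisms of a group with a normal form of Bruhat type and a chain of distinguished cell subgroups: the first
one is parametrised by the additive group of a field on which `H` acts through all the scalars; each of the following
ones has a distinguished non-trivial element whose conjugates under the subgroup generated by the preceding cell
subgroup and its opposite are all its non-trivial elements; a family of automorphisms (the diagonal automorphisms)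
acts simply transitively on the tuples made of a scalar and of non-trivial elements of the following cell subgroups.
Then the product of the order of the outer automorphism group and of the order of `H` is the product of the number of
diagonal automorphisms and of the order of the automorphism group of the field.
-/

namespace Cfsg.Agent.Lib.Helper36_ChainOutAlg

open Cfsg.Agent.Lib.Helper36_CellAut2 Cfsg.Agent.Lib.Helper36_CellAut2.CellCore Cfsg.Agent.Lib.Helper36_CellAut3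

/-- The data. -/
structure ChainData (Γ K ι T : Type*) [Group Γ] [Field K] (p : ℕ) where
  C : CellCore Γ ι p
  special0 : C.Special C.i0
  sq0 : C.nw C.i0 * C.nw C.i0 ∈ C.H
  k : ℕ
  I : ℕ → ι
  root : ∀ m ≤ k, RootCell' C (I m)
  xB : K → Γ
  mem_UwB : ∀ g : Γ, g ∈ C.Uw (I 0) ↔ ∃ t : K, g = xB t
  xB_add : ∀ s t : K, xB (s + t) = xB s * xB t
  xB_inj : ∀ s t : K, xB s = xB t → s = t
  actB : ∀ h ∈ C.H, ∃ β : Kˣ, ∀ t : K, h * xB t * h⁻¹ = xB ((β : K) * t)
  surjB : ∀ β : Kˣ, ∃ h ∈ C.H, ∀ t : K, h * xB t * h⁻¹ = xB ((β : K) * t)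
  e : ℕ → Γ
  e_mem : ∀ m, 1 ≤ m → m ≤ k → e m ∈ C.Uw (I m)
  e_ne : ∀ m, 1 ≤ m → m ≤ k → e m ≠ 1
  trans : ∀ m, 1 ≤ m → m ≤ k → ∀ y ∈ C.Uw (I m), y ≠ 1 →
    ∃ g ∈ Subgroup.closure ({g : Γ | g ∈ C.Uw (I (m - 1))} ∪
      {g : Γ | ∃ x ∈ C.Uw (I (m - 1)), g = C.nw (I (m - 1)) * x * (C.nw (I (m - 1)))⁻¹}), g * e m * g⁻¹ = y
  gen : Subgroup.closure ({g : Γ | ∃ m ≤ k, g ∈ C.Uw (I m)} ∪
    {g : Γ | ∃ m ≤ k, ∃ x ∈ C.Uw (I m), g = C.nw (I m) * x * (C.nw (I m))⁻¹}) = ⊤
  δ : T → MulAut Γ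
  good_δ : ∀ c : T, C.Good (δ c)
  δ_xB : ∀ c : T, ∃ b : Kˣ, ∀ t : K, δ c (xB t) = xB ((b : K) * t)
  δ_surj : ∀ (b : Kˣ) (y : ℕ → Γ), (∀ m, 1 ≤ m → m ≤ k → y m ∈ C.Uw (I m) ∧ y m ≠ 1) →
    ∃ c : T, (∀ t : K, δ c (xB t) = xB ((b : K) * t)) ∧ ∀ m, 1 ≤ m → m ≤ k → δ c (e m) = y m
  δ_inj : ∀ c c' : T, (∀ t : K, δ c (xB t) = δ c' (xB t)) → (∀ m, 1 ≤ m → m ≤ k → δ c (e m) = δ c' (e m)) → c = c'
  fa : (K ≃+* K) →* MulAut Γ
  fa_xB : ∀ (τ : K ≃+* K) (t : K), fa τ (xB t) = xB (τ t)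
  fa_U : ∀ (τ : K ≃+* K), ∀ x ∈ C.U, fa τ x ∈ C.U
  fa_H : ∀ (τ : K ≃+* K), ∀ x ∈ C.H, fa τ x ∈ C.H
  fa_n0 : ∀ (τ : K ≃+* K), ∃ k ∈ C.H, fa τ (C.nw C.i0) = k * C.nw C.i0
  fa_e : ∀ (τ : K ≃+* K) (m : ℕ), 1 ≤ m → m ≤ k → fa τ (e m) = e m
  center : ∀ h ∈ C.H, (∀ g : Γ, h * g * h⁻¹ = g) → h = 1

namespace ChainData

variable {Γ K ι T : Type*} [Group Γ] [Field K] {p : ℕ} (D : ChainData Γ K ι T p)

theorem xB_zero : D.xB 0 = 1 := by
  have h := D.xB_add 0 0
  rw [add_zero] at h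
  exact mul_eq_left.mp h.symm

theorem mem_UwB' (t : K) : D.xB t ∈ D.C.Uw (D.I 0) := (D.mem_UwB _).mpr ⟨t, rfl⟩

theorem xB_one_ne : D.xB 1 ≠ 1 := by
  intro h
  rw [← D.xB_zero] at h
  exact one_ne_zero (D.xB_inj _ _ h)

section good

variable [Finite Γ] (ψ : MulAut Γ) (hψ : D.C.Good ψ)

include hψ in
theorem exists_fB (t : K) : ∃ s : K, ψ (D.xB t) = D.xB s :=
  (D.mem_UwB _).mp ((good_root2 D.C ψ hψ (D.I 0) (D.root 0 (Nat.zero_le _)) _).mp (D.mem_UwB' t))

include hψ in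
/-- A good automorphism fixing a chosen element of the first cell subgroup acts on this subgroup as an automorphism
of the field. -/
theorem exists_tau (h1 : ψ (D.xB 1) = D.xB 1) : ∃ τ : K ≃+* K, ∀ t : K, ψ (D.xB t) = D.xB (τ t) := by
  choose f hf using D.exists_fB ψ hψ
  have f_add : ∀ s t : K, f (s + t) = f s + f t := by
    intro s t
    apply D.xB_inj
    rw [← hf, D.xB_add, map_mul, hf, hf, D.xB_add]
  have f_one : f 1 = 1 := by
    apply D.xB_inj
    rw [← hf, h1]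
  have f_zero : f 0 = 0 := by
    have := f_add 0 0
    rw [add_zero] at this
    exact left_eq_add.mp this
  have f_unit : ∀ (l : Kˣ) (t : K), f ((l : K) * t) = f (l : K) * f t := by
    intro l t
    obtain ⟨h, hh, e1⟩ := D.surjB l
    obtain ⟨β, e2⟩ := D.actB (ψ h) ((hψ.2.1 h).mp hh)
    have key : ∀ s : K, f ((l : K) * s) = (β : K) * f s := by
      intro s
      apply D.xB_inj
      have h3 := congrArg ψ (e1 s)
      rw [map_mul, map_mul, map_inv, hf, hf, e2] at h3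
      exact h3.symm
    have h4 := key 1
    rw [mul_one, f_one, mul_one] at h4
    rw [key t, h4]
  have f_mul : ∀ s t : K, f (s * t) = f s * f t := by
    intro s t
    by_cases hs : s = 0
    · rw [hs, zero_mul, f_zero, zero_mul]
    · exact f_unit (Units.mk0 s hs) t
  have f_inj : Function.Injective f := by
    intro s t e
    apply D.xB_inj
    apply ψ.injective
    rw [hf, hf, e]
  have f_surj : Function.Surjective f := by
    intro s
    obtain ⟨s', hs'⟩ := D.exists_fB ψ⁻¹ (D.C.good_inv ψ hψ) s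
    refine ⟨s', ?_⟩
    apply D.xB_inj
    rw [← hf, ← hs', MulAut.apply_inv_self]
  let g : K →+* K :=
    { toFun := f
      map_one' := f_one
      map_mul' := f_mul
      map_zero' := f_zero
      map_add' := f_add }
  exact ⟨RingEquiv.ofBijective g ⟨f_inj, f_surj⟩, fun t => hf t⟩

omit [Finite Γ] in
/-- The automorphisms induced by the automorphisms of the field are good. -/
theorem good_fa (τ : K ≃+* K) : D.C.Good (D.fa τ) := by
  have e : ∀ x : Γ, D.fa τ⁻¹ (D.fa τ x) = x := by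
    intro x
    rw [← MulAut.mul_apply, ← map_mul, inv_mul_cancel, map_one, MulAut.one_apply]
  refine ⟨?_, ?_, D.fa_n0 τ⟩
  · intro x
    constructor
    · exact D.fa_U τ x
    · intro hx
      have := D.fa_U τ⁻¹ _ hx
      rwa [e] at this
  · intro x
    constructor
    · exact D.fa_H τ x
    · intro hx
      have := D.fa_H τ⁻¹ _ hx
      rwa [e] at this

end good

section rigid

variable [Finite Γ] (ψ : MulAut Γ) (hψ : D.C.Good ψ) (hB : ∀ t : K, ψ (D.xB t) = D.xB t)
  (he : ∀ m, 1 ≤ m → m ≤ D.k → ψ (D.e m) = D.e m)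

include hψ hB he in
/-- A good automorphism which is the identity on the first cell subgroup and fixes the distinguished elements of the
following ones is the identity on all the distinguished cell subgroups. -/
theorem fix_pos : ∀ m, m ≤ D.k → ∀ x ∈ D.C.Uw (D.I m), ψ x = x := by
  intro m
  induction m with
  | zero =>
    intro _ x hx
    obtain ⟨s, rfl⟩ := (D.mem_UwB x).mp hx
    exact hB s
  | succ m ih =>
    intro hm y hy
    by_cases hy1 : y = 1
    · rw [hy1, map_one]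
    have ih' := ih (Nat.le_of_succ_le hm)
    obtain ⟨g, hg, e⟩ := D.trans (m + 1) (Nat.succ_le_succ (Nat.zero_le m)) hm y hy hy1
    rw [Nat.add_sub_cancel] at hg
    have hfix : ψ g = g := by
      apply CellCore.fix_closure ψ _ _ _ hg
      rintro z (hz | ⟨x, hx, rfl⟩)
      · exact ih' z hz
      · exact good_neg2 D.C ψ hψ (D.I m) (D.root m (Nat.le_of_succ_le hm)) ih' x hx
    rw [← e, map_mul, map_mul, map_inv, hfix, he (m + 1) (Nat.succ_le_succ (Nat.zero_le m)) hm]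

include hψ hB he in
/-- Such an automorphism is the identity. -/
theorem eq_one : ψ = 1 := by
  apply MulEquiv.ext
  intro g
  rw [MulAut.one_apply]
  have hg : g ∈ Subgroup.closure ({g : Γ | ∃ m ≤ D.k, g ∈ D.C.Uw (D.I m)} ∪
      {g : Γ | ∃ m ≤ D.k, ∃ x ∈ D.C.Uw (D.I m), g = D.C.nw (D.I m) * x * (D.C.nw (D.I m))⁻¹}) := by
    rw [D.gen]
    exact Subgroup.mem_top g
  apply CellCore.fix_closure ψ _ _ _ hg
  rintro x (⟨m, hm, hx⟩ | ⟨m, hm, y, hy, rfl⟩)
  · exact D.fix_pos ψ hψ hB he m hm x hx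
  · exact good_neg2 D.C ψ hψ (D.I m) (D.root m hm) (D.fix_pos ψ hψ hB he m hm) y hy

end rigid

/-- Every good automorphism is the product of a diagonal automorphism and an automorphism induced by an automorphism
of the field. -/
theorem good_decomp [Finite Γ] (ψ : MulAut Γ) (hψ : D.C.Good ψ) : ∃ (c : T) (τ : K ≃+* K), ψ = D.δ c * D.fa τ := by
  obtain ⟨b, hb⟩ := D.exists_fB ψ hψ 1
  have hb0 : b ≠ 0 := by
    intro h
    rw [h, D.xB_zero] at hb
    apply D.xB_one_ne
    rw [← map_one ψ] at hb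
    exact ψ.injective hb
  have hy : ∀ m, 1 ≤ m → m ≤ D.k → ψ (D.e m) ∈ D.C.Uw (D.I m) ∧ ψ (D.e m) ≠ 1 := by
    intro m h1 hm
    refine ⟨(good_root2 D.C ψ hψ (D.I m) (D.root m hm) _).mp (D.e_mem m h1 hm), ?_⟩
    intro hcon
    apply D.e_ne m h1 hm
    rw [← map_one ψ] at hcon
    exact ψ.injective hcon
  obtain ⟨c, hc1, hc2⟩ := D.δ_surj (Units.mk0 b hb0) (fun m => ψ (D.e m)) hy
  set ψ1 := (D.δ c)⁻¹ * ψ with hψ1
  have h1 : D.C.Good ψ1 := D.C.good_mul _ _ (D.C.good_inv _ (D.good_δ c)) hψ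
  have e1 : ψ1 (D.xB 1) = D.xB 1 := by
    rw [hψ1, MulAut.mul_apply, hb]
    have := hc1 1
    rw [mul_one, Units.val_mk0] at this
    rw [← this, MulAut.inv_apply_self]
  have e1' : ∀ m, 1 ≤ m → m ≤ D.k → ψ1 (D.e m) = D.e m := by
    intro m h1 hm
    rw [hψ1, MulAut.mul_apply, ← hc2 m h1 hm, MulAut.inv_apply_self]
  obtain ⟨τ, hτ⟩ := D.exists_tau ψ1 h1 e1
  set ψ2 := ψ1 * (D.fa τ)⁻¹ with hψ2
  have h2 : D.C.Good ψ2 := D.C.good_mul _ _ h1 (D.C.good_inv _ (D.good_fa τ))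
  have einv : (D.fa τ)⁻¹ = D.fa τ⁻¹ := (map_inv D.fa τ).symm
  have hB2 : ∀ t : K, ψ2 (D.xB t) = D.xB t := by
    intro t
    rw [hψ2, MulAut.mul_apply, einv, D.fa_xB, hτ]
    congr 1
    show τ (τ⁻¹ t) = t
    rw [← RingAut.mul_apply, mul_inv_cancel, RingAut.one_apply]
  have he2 : ∀ m, 1 ≤ m → m ≤ D.k → ψ2 (D.e m) = D.e m := by
    intro m h1 hm
    rw [hψ2, MulAut.mul_apply, einv, D.fa_e _ m h1 hm, e1' m h1 hm]
  have h3 := D.eq_one ψ2 h2 hB2 he2
  refine ⟨c, τ, ?_⟩
  have e4 : ψ1 = D.fa τ := mul_inv_eq_one.mp h3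
  rw [← e4, hψ1, ← mul_assoc, mul_inv_cancel, one_mul]

/-- The decomposition is unique. -/
theorem decomp_unique (c c' : T) (τ τ' : K ≃+* K) (h : D.δ c * D.fa τ = D.δ c' * D.fa τ') : c = c' ∧ τ = τ' := by
  obtain ⟨b, hb⟩ := D.δ_xB c
  obtain ⟨b', hb'⟩ := D.δ_xB c'
  have key : ∀ t : K, (b : K) * τ t = (b' : K) * τ' t := by
    intro t
    apply D.xB_inj
    have := congrArg (fun φ : MulAut Γ => φ (D.xB t)) h
    simp only [MulAut.mul_apply, D.fa_xB, hb, hb'] at this
    exact this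
  have hbb : b = b' := by
    have := key 1
    rw [map_one, map_one, mul_one, mul_one] at this
    exact Units.ext this
  have hττ : τ = τ' := by
    ext t
    have := key t
    rw [hbb] at this
    exact mul_left_cancel₀ b'.ne_zero this
  refine ⟨?_, hττ⟩
  rw [hττ] at h
  have h2 : D.δ c = D.δ c' := mul_right_cancel h
  exact D.δ_inj c c' (fun t => by rw [h2]) (fun m _ _ => by rw [h2])

/-- The subgroup of the good automorphisms. -/
def goodSubgroup : Subgroup (MulAut Γ) where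
  carrier := {ψ | D.C.Good ψ}
  mul_mem' := fun ha hb => D.C.good_mul _ _ ha hb
  one_mem' := by
    have := D.C.good_conj 1 D.C.H.one_mem
    rwa [map_one] at this
  inv_mem' := fun ha => D.C.good_inv _ ha

theorem mem_goodSubgroup (ψ : MulAut Γ) : ψ ∈ D.goodSubgroup ↔ D.C.Good ψ := Iff.rfl

/-- The number of good automorphisms. -/
theorem card_good [Finite Γ] : Nat.card D.goodSubgroup = Nat.card T * Nat.card (K ≃+* K) := by
  rw [← Nat.card_prod]
  symm
  let Ψ : T × (K ≃+* K) → D.goodSubgroup := fun a =>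
    ⟨D.δ a.1 * D.fa a.2, D.C.good_mul _ _ (D.good_δ a.1) (D.good_fa a.2)⟩
  have hΨ : Function.Bijective Ψ := by
    constructor
    · rintro ⟨c, τ⟩ ⟨c', τ'⟩ h
      have h2 : D.δ c * D.fa τ = D.δ c' * D.fa τ' := congrArg Subtype.val h
      obtain ⟨h3, h4⟩ := D.decomp_unique c c' τ τ' h2
      rw [h3, h4]
    · rintro ⟨ψ, hψ⟩
      obtain ⟨c, τ, e⟩ := D.good_decomp ψ hψ
      exact ⟨(c, τ), Subtype.ext e.symm⟩
  exact Nat.card_congr (Equiv.ofBijective Ψ hΨ)

/-- The homomorphism from the good automorphisms to the outer automorphism group. -/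
def toOut : D.goodSubgroup →* Cfsg.Out Γ := (QuotientGroup.mk' (Cfsg.Inn Γ)).comp D.goodSubgroup.subtype

theorem toOut_surjective [Finite Γ] [Fact p.Prime] : Function.Surjective D.toOut := by
  intro o
  obtain ⟨σ, rfl⟩ := QuotientGroup.mk_surjective o
  obtain ⟨g, hg⟩ := D.C.exists_good D.special0 D.sq0 σ
  refine ⟨⟨MulAut.conj g * σ, hg⟩, ?_⟩
  show (QuotientGroup.mk (MulAut.conj g * σ) : Cfsg.Out Γ) = QuotientGroup.mk σ
  rw [QuotientGroup.mk_mul]
  have : (QuotientGroup.mk (MulAut.conj g) : Cfsg.Out Γ) = 1 := (QuotientGroup.eq_one_iff _).2 ⟨g, rfl⟩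
  rw [this, one_mul]

/-- The kernel consists of the inner automorphisms of the elements of `H`. -/
theorem card_ker : Nat.card D.toOut.ker = Nat.card D.C.H := by
  symm
  have hmem : ∀ h : D.C.H, (⟨MulAut.conj (h : Γ), D.C.good_conj h h.2⟩ : D.goodSubgroup) ∈ D.toOut.ker := by
    intro h
    rw [MonoidHom.mem_ker]
    exact (QuotientGroup.eq_one_iff _).2 ⟨h, rfl⟩
  let Ψ : D.C.H → D.toOut.ker := fun h => ⟨_, hmem h⟩
  have hΨ : Function.Bijective Ψ := by
    constructor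
    · intro h h' e
      have e2 : MulAut.conj (h : Γ) = MulAut.conj (h' : Γ) := congrArg (fun x => x.1.1) e
      have h3 : (h' : Γ)⁻¹ * h = 1 := by
        apply D.center _ (D.C.H.mul_mem (D.C.H.inv_mem h'.2) h.2)
        intro g
        have := congrArg (fun φ : MulAut Γ => φ g) e2
        simp only [MulAut.conj_apply] at this
        calc (h' : Γ)⁻¹ * h * g * ((h' : Γ)⁻¹ * h)⁻¹ = (h' : Γ)⁻¹ * (h * g * (h : Γ)⁻¹) * h' := by group
          _ = g := by rw [this]; group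
      apply Subtype.ext
      exact (inv_mul_eq_one.mp h3).symm
    · rintro ⟨⟨ψ, hψ⟩, hk⟩
      rw [MonoidHom.mem_ker] at hk
      have h1 : ψ ∈ Cfsg.Inn Γ := (QuotientGroup.eq_one_iff _).1 hk
      obtain ⟨c, hc⟩ := h1
      have hg : D.C.Good (MulAut.conj c) := by rw [hc]; exact hψ
      refine ⟨⟨c, D.C.mem_H_of_good c hg⟩, ?_⟩
      apply Subtype.ext
      apply Subtype.ext
      exact hc
  exact Nat.card_congr (Equiv.ofBijective Ψ hΨ)

/-- The order of the outer automorphism group. -/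
theorem card_out [Finite Γ] [Fact p.Prime] :
    Nat.card (Cfsg.Out Γ) * Nat.card D.C.H = Nat.card T * Nat.card (K ≃+* K) := by
  rw [← D.card_good, ← D.card_ker, ← Subgroup.card_mul_index D.toOut.ker, Subgroup.index_ker,
    MonoidHom.range_eq_top.mpr D.toOut_surjective, Subgroup.card_top, mul_comm]

end ChainData

end Cfsg.Agent.Lib.Helper36_ChainOutAlg
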