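import Cfsg.Agent.Lib.Helper36_ChevCoo

set_option autoImplicit false

/-!
Additivity of root elements: `x_r(t) x_r(u) = x_r(t + u)`, from the relations `E_j E_k = C(j+k, j) E_{j+k}`
between the coefficient matrices. Three of them (`E₁² = 2E₂`, `E₁E₂ = 3E₃`, `E₁E₃ = 0`) are checked on the
tables by the kernel; the other six follow over `ℤ`.
-/

namespace Cfsg.Agent.Lib.Helper36_ChevAdd

open Cfsg Cfsg.Lie Cfsg.Agent.Lib.Helper36_ChevSparse Cfsg.Agent.Lib.Helper36_ChevCoeff
  Cfsg.Agent.Lib.Helper36_ChevCoo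

variable (D : ChevalleyDatum)

/-- The three basic relations between the coefficient matrices of `x_r(t)`. -/
def addCheck (r : ℕ) : Bool :=
  cooEq (cmul (dim D) (Ecoo D r 1) (Ecoo D r 1)) (csmul 2 (Ecoo D r 2)) &&
  cooEq (cmul (dim D) (Ecoo D r 1) (Ecoo D r 2)) (csmul 3 (Ecoo D r 3)) &&
  cooEq (cmul (dim D) (Ecoo D r 1) (Ecoo D r 3)) []

/-- The additivity relations hold for all roots. -/
def AddOK : Prop := ∀ r < D.nroots, addCheck D r = true

instance : Decidable (AddOK D) := by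
  unfold AddOK
  infer_instance

/-- The additivity relations hold for the roots `r` with `a ≤ r < b` (for checking in several pieces). -/
def AddOKRange (a b : ℕ) : Prop := ∀ r < b, a ≤ r → addCheck D r = true

instance (a b : ℕ) : Decidable (AddOKRange D a b) := by
  unfold AddOKRange
  infer_instance

theorem addOKRange_trans {a b c : ℕ} (h1 : AddOKRange D a b) (h2 : AddOKRange D b c) : AddOKRange D a c := by
  intro r hr har
  by_cases h : r < b
  · exact h1 r h har
  · exact h2 r hr (by omega)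

theorem addOK_of_range (h : AddOKRange D 0 D.nroots) : AddOK D := fun r hr => h r hr (Nat.zero_le r)

/-- The integer coefficient matrices. -/
def EZ (r k : ℕ) : Matrix D.Idx D.Idx ℤ := toMatZ D (Ecol D r k)

theorem EZ_eq_coo (r k : ℕ) : EZ D r k = toMatZc D (Ecoo D r k) := (toMatZc_Ecoo D r k).symm

theorem two_smul_cancel {M N : Matrix D.Idx D.Idx ℤ} (c : ℤ) (hc : c ≠ 0) (h : c • M = c • N) : M = N := by
  ext i j
  have := congrFun (congrFun h i) j
  simp only [Matrix.smul_apply, smul_eq_mul] at this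
  exact mul_left_cancel₀ hc this

/-- All nine relations over `ℤ`. -/
theorem EZ_relations (r : ℕ) (h : addCheck D r = true) :
    EZ D r 1 * EZ D r 1 = (2 : ℤ) • EZ D r 2 ∧ EZ D r 1 * EZ D r 2 = (3 : ℤ) • EZ D r 3 ∧
    EZ D r 2 * EZ D r 1 = (3 : ℤ) • EZ D r 3 ∧ EZ D r 1 * EZ D r 3 = 0 ∧ EZ D r 3 * EZ D r 1 = 0 ∧
    EZ D r 2 * EZ D r 2 = 0 ∧ EZ D r 2 * EZ D r 3 = 0 ∧ EZ D r 3 * EZ D r 2 = 0 ∧ EZ D r 3 * EZ D r 3 = 0 := by
  unfold addCheck at h
  simp only [Bool.and_eq_true] at h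
  obtain ⟨⟨h11, h12⟩, h13⟩ := h
  have e11 : EZ D r 1 * EZ D r 1 = (2 : ℤ) • EZ D r 2 := by
    have := toMatZc_eq_of_cooEq D _ _ h11
    rwa [toMatZc_mul, toMatZc_csmul, ← EZ_eq_coo, ← EZ_eq_coo] at this
  have e12 : EZ D r 1 * EZ D r 2 = (3 : ℤ) • EZ D r 3 := by
    have := toMatZc_eq_of_cooEq D _ _ h12
    rwa [toMatZc_mul, toMatZc_csmul, ← EZ_eq_coo, ← EZ_eq_coo, ← EZ_eq_coo] at this
  have e13 : EZ D r 1 * EZ D r 3 = 0 := by
    have := toMatZc_eq_of_cooEq D _ _ h13
    rwa [toMatZc_mul, toMatZc_nil, ← EZ_eq_coo, ← EZ_eq_coo] at this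
  set A := EZ D r 1
  set B := EZ D r 2
  set C := EZ D r 3
  -- E2 E1 = 3 E3
  have e21 : B * A = (3 : ℤ) • C := by
    apply two_smul_cancel D 2 (by norm_num)
    calc (2 : ℤ) • (B * A) = ((2 : ℤ) • B) * A := by rw [Matrix.smul_mul]
      _ = A * A * A := by rw [e11]
      _ = A * (A * A) := by rw [Matrix.mul_assoc]
      _ = (2 : ℤ) • (A * B) := by rw [e11, Matrix.mul_smul]
      _ = (2 : ℤ) • ((3 : ℤ) • C) := by rw [e12]
  have e22 : B * B = 0 := by
    apply two_smul_cancel D 2 (by norm_num)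
    calc (2 : ℤ) • (B * B) = ((2 : ℤ) • B) * B := by rw [Matrix.smul_mul]
      _ = A * A * B := by rw [e11]
      _ = A * (A * B) := by rw [Matrix.mul_assoc]
      _ = (3 : ℤ) • (A * C) := by rw [e12, Matrix.mul_smul]
      _ = (2 : ℤ) • 0 := by rw [e13]; simp
  have e31 : C * A = 0 := by
    apply two_smul_cancel D 3 (by norm_num)
    calc (3 : ℤ) • (C * A) = ((3 : ℤ) • C) * A := by rw [Matrix.smul_mul]
      _ = A * B * A := by rw [e12]
      _ = A * (B * A) := by rw [Matrix.mul_assoc]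
      _ = (3 : ℤ) • (A * C) := by rw [e21, Matrix.mul_smul]
      _ = (3 : ℤ) • 0 := by rw [e13]
  have e32 : C * B = 0 := by
    apply two_smul_cancel D 3 (by norm_num)
    calc (3 : ℤ) • (C * B) = ((3 : ℤ) • C) * B := by rw [Matrix.smul_mul]
      _ = A * B * B := by rw [e12]
      _ = A * (B * B) := by rw [Matrix.mul_assoc]
      _ = (3 : ℤ) • 0 := by rw [e22]; simp
  have e23 : B * C = 0 := by
    apply two_smul_cancel D 3 (by norm_num)
    calc (3 : ℤ) • (B * C) = B * ((3 : ℤ) • C) := by rw [Matrix.mul_smul]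
      _ = B * (A * B) := by rw [e12]
      _ = (B * A) * B := by rw [Matrix.mul_assoc]
      _ = (3 : ℤ) • (C * B) := by rw [e21, Matrix.smul_mul]
      _ = (3 : ℤ) • 0 := by rw [e32]
  have e33 : C * C = 0 := by
    apply two_smul_cancel D 3 (by norm_num)
    calc (3 : ℤ) • (C * C) = ((3 : ℤ) • C) * C := by rw [Matrix.smul_mul]
      _ = A * B * C := by rw [e12]
      _ = A * (B * C) := by rw [Matrix.mul_assoc]
      _ = (3 : ℤ) • 0 := by rw [e23]; simp
  exact ⟨e11, e12, e21, e13, e31, e22, e23, e32, e33⟩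

theorem EmatF_eq (F : Type*) [Field F] (r k : ℕ) :
    EmatF D F r k = (EZ D r k).map (Int.castRingHom F) := rfl

theorem EmatF_mul (F : Type*) [Field F] (r j k : ℕ) (c : ℤ) (m : ℕ)
    (h : EZ D r j * EZ D r k = c • EZ D r m) :
    EmatF D F r j * EmatF D F r k = (c : F) • EmatF D F r m := by
  rw [EmatF_eq, EmatF_eq, EmatF_eq, ← Matrix.map_mul, h]
  ext i j
  simp only [Matrix.map_apply, Matrix.smul_apply, smul_eq_mul, map_mul, eq_intCast]

theorem EmatF_mul_zero (F : Type*) [Field F] (r j k : ℕ)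
    (h : EZ D r j * EZ D r k = 0) :
    EmatF D F r j * EmatF D F r k = 0 := by
  rw [EmatF_eq, EmatF_eq, ← Matrix.map_mul, h]
  ext i j
  simp

theorem xMat_add (hlen : ChainLenOK D) (hadd : AddOK D) (F : Type*) [Field F] (r : Fin D.nroots) (t u : F) :
    D.xMat F r t * D.xMat F r u = D.xMat F r (t + u) := by
  obtain ⟨h11, h12, h21, h13, h31, h22, h23, h32, h33⟩ := EZ_relations D r.val (hadd r.val r.isLt)
  have e11 := EmatF_mul D F r.val 1 1 2 2 h11
  have e12 := EmatF_mul D F r.val 1 2 3 3 h12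
  have e21 := EmatF_mul D F r.val 2 1 3 3 h21
  have e13 := EmatF_mul_zero D F r.val 1 3 h13
  have e31 := EmatF_mul_zero D F r.val 3 1 h31
  have e22 := EmatF_mul_zero D F r.val 2 2 h22
  have e23 := EmatF_mul_zero D F r.val 2 3 h23
  have e32 := EmatF_mul_zero D F r.val 3 2 h32
  have e33 := EmatF_mul_zero D F r.val 3 3 h33
  rw [xMat_eq D hlen, xMat_eq D hlen, xMat_eq D hlen]
  simp only [add_mul, mul_add, Matrix.smul_mul, Matrix.mul_smul, one_mul, mul_one, e11, e12, e21, e13, e31, e22,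
    e23, e32, e33, smul_zero, add_zero, smul_smul]
  module

/-- `x_r(t) x_r(u) = x_r(t + u)` for root indices given as natural numbers (also out of range). -/
theorem x_add (hlen : ChainLenOK D) (hadd : AddOK D) (F : Type*) [Field F] (r : ℕ) (t u : F) :
    D.x F r t * D.x F r u = D.x F r (t + u) := by
  unfold ChevalleyDatum.x
  split_ifs with h
  · exact xMat_add D hlen hadd F ⟨r, h⟩ t u
  · simp

theorem xMat_zero (hlen : ChainLenOK D) (F : Type*) [Field F] (r : Fin D.nroots) : D.xMat F r 0 = 1 := by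
  rw [xMat_eq D hlen]
  simp

theorem x_zero (hlen : ChainLenOK D) (F : Type*) [Field F] (r : ℕ) : D.x F r 0 = 1 := by
  unfold ChevalleyDatum.x
  split_ifs with h
  · exact xMat_zero D hlen F ⟨r, h⟩
  · rfl

/-- The root element `x_r(t)` as an element of the general linear group. -/
noncomputable def xGL (hlen : ChainLenOK D) (hadd : AddOK D) (F : Type*) [Field F] (r : ℕ) (t : F) : GL D.Idx F where
  val := D.x F r t
  inv := D.x F r (-t)
  val_inv := by rw [x_add D hlen hadd, add_neg_cancel, x_zero D hlen]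
  inv_val := by rw [x_add D hlen hadd, neg_add_cancel, x_zero D hlen]

theorem xGL_coe (hlen : ChainLenOK D) (hadd : AddOK D) (F : Type*) [Field F] (r : ℕ) (t : F) :
    ((xGL D hlen hadd F r t : GL D.Idx F) : Matrix D.Idx D.Idx F) = D.x F r t := rfl

end Cfsg.Agent.Lib.Helper36_ChevAdd
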