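import Cfsg.Agent.Lib.Helper36_ChevTables
import Cfsg.Agent.Lib.Helper36_ChevAdd
import Cfsg.Prelude.Def_ChevStructure

set_option autoImplicit false

/-!
Triangularity of the root elements with respect to a grading of the Chevalley basis by a height function:
`x_r(t) - 1` raises the grade strictly when `r` is a root on which the height is positive.
-/

namespace Cfsg.Agent.Lib.Helper36_ChevTri

open Cfsg Cfsg.Lie Cfsg.Agent.Lib.Helper36_ChevTables Cfsg.Agent.Lib.Helper36_ChevCoeff
  Cfsg.Agent.Lib.Helper36_ChevAdd

variable (D : ChevalleyDatum)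

/-- The grading of the basis: `0` on the `h_{p_i}` and the height on the root vectors. -/
def grade (ht : ℕ → ℤ) : D.Idx → ℤ := Sum.elim (fun _ => 0) (fun s => ht s.val)

section
variable (F : Type*) [Field F]

/-- Strictly triangular: the entry at `(row, col)` vanishes unless the grade of `row` is strictly larger. -/
def Tri (b : D.Idx → ℤ) (M : Matrix D.Idx D.Idx F) : Prop := ∀ row col, b row ≤ b col → M row col = 0

/-- Weakly triangular: the entry at `(row, col)` vanishes if the grade of `row` is strictly smaller. -/
def WTri (b : D.Idx → ℤ) (M : Matrix D.Idx D.Idx F) : Prop := ∀ row col, b row < b col → M row col = 0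

variable {D F}
variable {b : D.Idx → ℤ}

theorem Tri.wtri {M : Matrix D.Idx D.Idx F} (h : Tri D F b M) : WTri D F b M :=
  fun row col hlt => h row col (le_of_lt hlt)

theorem Tri.add {M N : Matrix D.Idx D.Idx F} (hM : Tri D F b M) (hN : Tri D F b N) : Tri D F b (M + N) := by
  intro row col h
  rw [Matrix.add_apply, hM row col h, hN row col h, add_zero]

theorem Tri.mul_wtri {M N : Matrix D.Idx D.Idx F} (hM : Tri D F b M) (hN : WTri D F b N) : Tri D F b (M * N) := by
  intro row col h
  rw [Matrix.mul_apply]
  apply Finset.sum_eq_zero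
  intro k _
  by_cases hk : b row ≤ b k
  · rw [hM row k hk, zero_mul]
  · rw [hN k col (by omega), mul_zero]

theorem WTri.mul_tri {M N : Matrix D.Idx D.Idx F} (hM : WTri D F b M) (hN : Tri D F b N) : Tri D F b (M * N) := by
  intro row col h
  rw [Matrix.mul_apply]
  apply Finset.sum_eq_zero
  intro k _
  by_cases hk : b row < b k
  · rw [hM row k hk, zero_mul]
  · rw [hN k col (by omega), mul_zero]

theorem WTri.mul {M N : Matrix D.Idx D.Idx F} (hM : WTri D F b M) (hN : WTri D F b N) : WTri D F b (M * N) := by
  intro row col h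
  rw [Matrix.mul_apply]
  apply Finset.sum_eq_zero
  intro k _
  by_cases hk : b row < b k
  · rw [hM row k hk, zero_mul]
  · rw [hN k col (by omega), mul_zero]

theorem wtri_diagonal (d : D.Idx → F) : WTri D F b (Matrix.diagonal d) := by
  intro row col h
  rw [Matrix.diagonal_apply_ne]
  rintro rfl
  exact lt_irrefl _ h

theorem wtri_one : WTri D F b (1 : Matrix D.Idx D.Idx F) := by
  rw [← Matrix.diagonal_one]
  exact wtri_diagonal _

/-- `1 + strictly triangular` is weakly triangular. -/
theorem wtri_of_sub_one {M : Matrix D.Idx D.Idx F} (h : Tri D F b (M - 1)) : WTri D F b M := by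
  have : M = (M - 1) + 1 := by abel
  rw [this]
  intro row col hlt
  rw [Matrix.add_apply, h row col (le_of_lt hlt), wtri_one row col hlt, add_zero]

/-- Products of unitriangular matrices are unitriangular. -/
theorem tri_mul_sub_one {M N : Matrix D.Idx D.Idx F} (hM : Tri D F b (M - 1)) (hN : Tri D F b (N - 1)) :
    Tri D F b (M * N - 1) := by
  have : M * N - 1 = (M - 1) * N + (N - 1) := by
    rw [sub_mul, one_mul]
    abel
  rw [this]
  exact (hM.mul_wtri (wtri_of_sub_one hN)).add hN

theorem tri_one_sub_one : Tri D F b ((1 : Matrix D.Idx D.Idx F) - 1) := by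
  intro row col _
  rw [sub_self]
  rfl

/-- A matrix that is both diagonal and unitriangular is the identity. -/
theorem eq_one_of_tri_of_diagonal {M : Matrix D.Idx D.Idx F} (h : Tri D F b (M - 1)) (d : D.Idx → F)
    (hd : M = Matrix.diagonal d) : M = 1 := by
  ext row col
  by_cases hrc : row = col
  · subst hrc
    have := h row row le_rfl
    rw [Matrix.sub_apply, sub_eq_zero] at this
    exact this
  · rw [hd, Matrix.diagonal_apply_ne _ hrc, Matrix.one_apply_ne hrc]

/-- A matrix that is weakly upper triangular and lower unitriangular is the identity. -/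
theorem eq_one_of_wtri_of_tri_neg {M : Matrix D.Idx D.Idx F} (h1 : WTri D F b M)
    (h2 : Tri D F (fun x => - b x) (M - 1)) : M = 1 := by
  ext row col
  by_cases hlt : b row < b col
  · rw [h1 row col hlt, Matrix.one_apply_ne]
    rintro rfl
    exact lt_irrefl _ hlt
  · have := h2 row col (by simp only [neg_le_neg_iff]; omega)
    rw [Matrix.sub_apply, sub_eq_zero] at this
    exact this

end

/-! ### the root elements -/

/-- The root `r` raises the height `ht`: `ht r > 0 > ht (-r)` and the height increases along the `r`-chains. -/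
def Raises (ht : ℕ → ℤ) (r : ℕ) : Prop :=
  0 < ht r ∧ ht (D.neg r) < 0 ∧ ∀ e ∈ (D.chain.getD r #[]).toList, ∀ q ∈ e.2.toList, ht e.1 < ht q.1

instance (ht : ℕ → ℤ) (r : ℕ) : Decidable (Raises D ht r) := by
  unfold Raises
  infer_instance

theorem chainCoeff_eq_nil (ht : ℕ → ℤ) (r s u : ℕ) (h : Raises D ht r) (hle : ht u ≤ ht s) :
    D.chainCoeff r s u = [] := by
  rw [List.eq_nil_iff_forall_not_mem]
  intro km hkm
  obtain ⟨e, he, hes, x, -, hx, hxu⟩ := mem_chainCoeff D r s u km hkm
  have hmem : x ∈ e.2.toList := List.mem_of_getElem? hx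
  have := h.2.2 e he x hmem
  rw [hes, hxu] at this
  omega

section
variable (F : Type*) [Field F]

/-- `x_r(t) - 1` is strictly triangular for the grading by a height that `r` raises. -/
theorem xMat_sub_one_tri (ht : ℕ → ℤ) (r : Fin D.nroots) (h : Raises D ht r.val) (t : F) :
    Tri D F (grade D ht) (D.xMat F r t - 1) := by
  intro row col hle
  rw [Matrix.sub_apply, sub_eq_zero]
  obtain ⟨h1, h2, -⟩ := id h
  rcases col with i | s
  · rcases row with i' | u
    · simp [ChevalleyDatum.xMat, Matrix.one_apply]
    · simp only [ChevalleyDatum.xMat, Matrix.of_apply]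
      have hur : u ≠ r := by
        rintro rfl
        simp only [grade, Sum.elim_inr, Sum.elim_inl] at hle
        omega
      rw [if_neg hur, Matrix.one_apply_ne (by simp)]
  · simp only [ChevalleyDatum.xMat, Matrix.of_apply]
    by_cases hsr : s = r
    · simp only [hsr, if_true]
      rcases row with i' | u
      · rw [Matrix.one_apply_ne (by simp)]
      · subst hsr
        simp [Matrix.one_apply]
    · simp only [if_neg hsr]
      by_cases hsn : s.val = D.negIdx.getD r.val 0
      · simp only [if_pos hsn]
        have hs : ht s.val < 0 := by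
          have : s.val = D.neg r.val := hsn
          rw [this]; exact h2
        rcases row with i' | u
        · simp only [grade, Sum.elim_inr, Sum.elim_inl] at hle
          omega
        · simp only [grade, Sum.elim_inr] at hle
          by_cases hus : u = s
          · subst hus; simp
          · have hur : u ≠ r := by
              rintro rfl
              omega
            simp only [if_neg hus, if_neg hur]
            rw [Matrix.one_apply_ne]
            intro hc
            exact hus (Sum.inr.inj hc)
      · simp only [if_neg hsn]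
        rcases row with i' | u
        · rw [Matrix.one_apply_ne (by simp)]
        · simp only [grade, Sum.elim_inr] at hle
          dsimp only
          rw [chainCoeff_eq_nil D ht r.val s.val u.val h hle, List.map_nil, List.sum_nil, add_zero,
            Matrix.one_apply]
          simp only [Sum.inr.injEq]

theorem x_sub_one_tri (ht : ℕ → ℤ) (r : ℕ) (hr : r < D.nroots) (h : Raises D ht r) (t : F) :
    Tri D F (grade D ht) (D.x F r t - 1) := by
  unfold ChevalleyDatum.x
  rw [dif_pos hr]
  exact xMat_sub_one_tri D F ht ⟨r, hr⟩ h t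

end


/-! ### the height table and the unipotent subgroups -/

/-- The height function from a literal table (with an offset). -/
def htOf (tbl : List ℕ) (off : ℕ) : ℕ → ℤ := fun s => (tbl.getD s 0 : ℤ) - off

/-- The check for the root `r`: positive roots raise the height, negative roots lower it, every root is positive or
negative, and the height is bounded by `M`. -/
def htCheck (tbl : List ℕ) (off M : ℕ) (r : ℕ) : Prop :=
  (D.IsPosRoot r → Raises D (htOf tbl off) r) ∧ (D.IsNegRoot r → Raises D (fun s => - htOf tbl off s) r) ∧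
  (D.IsPosRoot r ∨ D.IsNegRoot r) ∧ htOf tbl off r ≤ M ∧ -(M : ℤ) ≤ htOf tbl off r

instance (tbl : List ℕ) (off M : ℕ) (r : ℕ) : Decidable (htCheck D tbl off M r) := by
  unfold htCheck
  infer_instance

/-- The check for the roots `a ≤ r < b`. -/
def HtRange (tbl : List ℕ) (off M a b : ℕ) : Prop := ∀ r < b, a ≤ r → htCheck D tbl off M r

instance (tbl : List ℕ) (off M a b : ℕ) : Decidable (HtRange D tbl off M a b) := by
  unfold HtRange
  infer_instance

theorem htRange_trans (tbl : List ℕ) (off M : ℕ) {a b c : ℕ} (h1 : HtRange D tbl off M a b)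
    (h2 : HtRange D tbl off M b c) : HtRange D tbl off M a c := by
  intro r hr har
  by_cases h : r < b
  · exact h1 r h har
  · exact h2 r hr (Nat.le_of_not_lt h)

/-- The fundamental roots are positive and their negatives are negative. -/
def SimplePos : Prop := ∀ i < D.rank, D.IsPosRoot (D.simple i) ∧ D.IsNegRoot (D.neg (D.simple i))

instance : Decidable (SimplePos D) := by
  unfold SimplePos
  infer_instance

/-- All the checks on a height table. -/
structure HtOK (tbl : List ℕ) (off M : ℕ) : Prop where
  range : HtRange D tbl off M 0 D.nroots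
  simple : SimplePos D
  bound : 2 * M + 1 ≤ D.rank + D.nroots

theorem grade_neg (ht : ℕ → ℤ) : grade D (fun s => - ht s) = fun x => - grade D ht x := by
  funext x
  rcases x with i | s
  · simp [grade]
  · simp [grade]

section
variable (F : Type*) [Field F] (hlen : ChainLenOK D) (hadd : AddOK D)

include hlen hadd in
theorem x_mul_x_neg (r : ℕ) (t : F) : D.x F r t * D.x F r (-t) = 1 := by
  rw [x_add D hlen hadd F, add_neg_cancel, x_zero D hlen F]

include hlen hadd in
/-- The inverse of an invertible matrix equal to `x_r(t)` is `x_r(-t)`. -/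
theorem inv_eq_x_neg (g : GL D.Idx F) (r : ℕ) (t : F) (hg : (g : Matrix D.Idx D.Idx F) = D.x F r t) :
    ((g⁻¹ : GL D.Idx F) : Matrix D.Idx D.Idx F) = D.x F r (-t) := by
  have h1 : (g : Matrix D.Idx D.Idx F) * D.x F r (-t) = 1 := by
    rw [hg]
    exact x_mul_x_neg D F hlen hadd r t
  calc ((g⁻¹ : GL D.Idx F) : Matrix D.Idx D.Idx F)
      = ((g⁻¹ : GL D.Idx F) : Matrix D.Idx D.Idx F) * ((g : Matrix D.Idx D.Idx F) * D.x F r (-t)) := by
        rw [h1, mul_one]
    _ = (((g⁻¹ : GL D.Idx F) : Matrix D.Idx D.Idx F) * (g : Matrix D.Idx D.Idx F)) * D.x F r (-t) := by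
        rw [mul_assoc]
    _ = D.x F r (-t) := by rw [Units.inv_mul, one_mul]

include hlen hadd in
/-- The elements of a subgroup generated by root elements of roots raising the height are unitriangular. -/
theorem closure_tri (ht : ℕ → ℤ) (P : ℕ → Prop) (hP : ∀ r, P r → r < D.nroots ∧ Raises D ht r) (g : GL D.Idx F)
    (hg : g ∈ Subgroup.closure {g : GL D.Idx F | ∃ (r : ℕ) (t : F), P r ∧ (g : Matrix D.Idx D.Idx F) = D.x F r t}) :
    Tri D F (grade D ht) ((g : Matrix D.Idx D.Idx F) - 1) := by
  induction hg using Subgroup.closure_induction'' with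
  | mem x hx =>
    obtain ⟨r, t, hr, hx⟩ := hx
    rw [hx]
    exact x_sub_one_tri D F ht r (hP r hr).1 (hP r hr).2 t
  | inv_mem x hx =>
    obtain ⟨r, t, hr, hx⟩ := hx
    rw [inv_eq_x_neg D F hlen hadd x r t hx]
    exact x_sub_one_tri D F ht r (hP r hr).1 (hP r hr).2 (-t)
  | one => exact tri_one_sub_one
  | mul x y _ _ hx hy =>
    rw [Units.val_mul]
    exact tri_mul_sub_one hx hy

include hlen hadd in
theorem pos_tri (tbl : List ℕ) (off M : ℕ) (hht : HtOK D tbl off M) (g : GL D.Idx F)
    (hg : g ∈ D.posUnipotent F) :
    Tri D F (grade D (htOf tbl off)) ((g : Matrix D.Idx D.Idx F) - 1) :=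
  closure_tri D F hlen hadd (htOf tbl off) D.IsPosRoot
    (fun r hr => ⟨hr.1, (hht.range r hr.1 (Nat.zero_le _)).1 hr⟩) g hg

include hlen hadd in
theorem neg_tri (tbl : List ℕ) (off M : ℕ) (hht : HtOK D tbl off M) (g : GL D.Idx F)
    (hg : g ∈ D.negUnipotent F) :
    Tri D F (fun x => - grade D (htOf tbl off) x) ((g : Matrix D.Idx D.Idx F) - 1) := by
  rw [← grade_neg]
  exact closure_tri D F hlen hadd (fun s => - htOf tbl off s) D.IsNegRoot
    (fun r hr => ⟨hr.1, (hht.range r hr.1 (Nat.zero_le _)).2.1 hr⟩) g hg

end

end Cfsg.Agent.Lib.Helper36_ChevTri
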