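import Cfsg.Agent.Lib.Helper36_ChevTorus
import Cfsg.Agent.Lib.Helper36_ChevTri

set_option autoImplicit false

/-!
The subgroups `U`, `V`, `H`, `B`, `N` of a Chevalley group: `H` normalises the subgroups generated by root elements,
`U ∩ H = 1`, `B ∩ V = 1`, `B ∩ VH = H`, and `B`, `N` generate the group. Generic statements, from the bundled table
facts `Facts` and a checked height table `HtOK`.
-/

namespace Cfsg.Agent.Lib.Helper36_ChevBorel

open Cfsg Cfsg.Lie Cfsg.Agent.Lib.Helper36_ChevCoeff Cfsg.Agent.Lib.Helper36_ChevAdd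
  Cfsg.Agent.Lib.Helper36_ChevWeyl Cfsg.Agent.Lib.Helper36_ChevGen Cfsg.Agent.Lib.Helper36_ChevHAll
  Cfsg.Agent.Lib.Helper36_ChevHConj Cfsg.Agent.Lib.Helper36_ChevTables Cfsg.Agent.Lib.Helper36_ChevTorus
  Cfsg.Agent.Lib.Helper36_ChevTri

variable (D : ChevalleyDatum) (F : Type*) [Field F]

/-- The subgroup generated by the root elements of the roots satisfying `P`. -/
def rootClosure (P : ℕ → Prop) : Subgroup (GL D.Idx F) :=
  Subgroup.closure {g | ∃ (r : ℕ) (t : F), P r ∧ (g : Matrix D.Idx D.Idx F) = D.x F r t}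

theorem posUnipotent_eq : D.posUnipotent F = rootClosure D F D.IsPosRoot := rfl

theorem negUnipotent_eq : D.negUnipotent F = rootClosure D F D.IsNegRoot := rfl

/-- `diag(chi u) x_r(t) diag(chi u)⁻¹ = x_r(chi u r · t)`. -/
theorem torus_conj_x (hf : Facts D F) (hchain : ChainOK D) (u : ℕ → Fˣ) (r : ℕ) (hr : r < D.nroots) (t : F) :
    D.charDiag F (chi D F u) * D.x F r t * D.charDiag F (chi D F u)⁻¹ = D.x F r ((chi D F u r : F) * t) := by
  have key := Cfsg.Agent.S2157.conj_xMat D hchain (chi D F u) (isRootCharacter_chi D F hf.hca u) ⟨r, hr⟩ t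
  have hx : ∀ c : F, D.x F r c = D.xMat F ⟨r, hr⟩ c := by
    intro c
    unfold ChevalleyDatum.x
    rw [dif_pos hr]
  rw [hx, hx]
  exact key

theorem conj_mem_rootClosure (hf : Facts D F) (hchain : ChainOK D) (P : ℕ → Prop) (hP : ∀ r, P r → r < D.nroots)
    (u : ℕ → Fˣ) (n : GL D.Idx F) (hn : n ∈ rootClosure D F P) :
    torusGL D F (chi D F u) * n * (torusGL D F (chi D F u))⁻¹ ∈ rootClosure D F P := by
  unfold rootClosure at hn
  induction hn using Subgroup.closure_induction with
  | mem x hx =>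
    obtain ⟨r, t, hr, hx⟩ := hx
    apply Subgroup.subset_closure
    refine ⟨r, (chi D F u r : F) * t, hr, ?_⟩
    rw [Units.val_mul, Units.val_mul, torusGL_inv, torusGL_coe, torusGL_coe, hx]
    exact torus_conj_x D F hf hchain u r (hP r hr) t
  | one =>
    rw [mul_one, mul_inv_cancel]
    exact one_mem _
  | mul x y _ _ hx hy =>
    have : torusGL D F (chi D F u) * (x * y) * (torusGL D F (chi D F u))⁻¹ =
        (torusGL D F (chi D F u) * x * (torusGL D F (chi D F u))⁻¹) *
        (torusGL D F (chi D F u) * y * (torusGL D F (chi D F u))⁻¹) := by group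
    rw [this]
    exact mul_mem hx hy
  | inv x _ hx =>
    have : torusGL D F (chi D F u) * x⁻¹ * (torusGL D F (chi D F u))⁻¹ =
        (torusGL D F (chi D F u) * x * (torusGL D F (chi D F u))⁻¹)⁻¹ := by group
    rw [this]
    exact inv_mem hx

/-- The diagonal subgroup normalises every subgroup generated by root elements. -/
theorem diag_le_normalizer (hf : Facts D F) (hchain : ChainOK D) (P : ℕ → Prop) (hP : ∀ r, P r → r < D.nroots) :
    D.diagonalSubgroup F ≤ Subgroup.normalizer (rootClosure D F P : Set (GL D.Idx F)) := by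
  intro h hh
  obtain ⟨u, rfl⟩ := (hf.mem_diag h).mp hh
  rw [Subgroup.mem_normalizer_iff]
  intro n
  constructor
  · exact conj_mem_rootClosure D F hf hchain P hP u n
  · intro hn
    have := conj_mem_rootClosure D F hf hchain P hP u⁻¹ _ hn
    rw [chi_inv, ← torusGL_inv] at this
    have e : (torusGL D F (chi D F u))⁻¹ * (torusGL D F (chi D F u) * n * (torusGL D F (chi D F u))⁻¹) *
        ((torusGL D F (chi D F u))⁻¹)⁻¹ = n := by group
    rw [e] at this
    exact this

section
variable (tbl : List ℕ) (off M : ℕ)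

/-- `U ∩ H = 1`. -/
theorem pos_inf_diag (hf : Facts D F) (hht : HtOK D tbl off M) : D.posUnipotent F ⊓ D.diagonalSubgroup F = ⊥ := by
  rw [Subgroup.eq_bot_iff_forall]
  intro x hx
  obtain ⟨hx1, hx2⟩ := Subgroup.mem_inf.mp hx
  obtain ⟨u, rfl⟩ := (hf.mem_diag x).mp hx2
  have htri := pos_tri D F hf.hlen hf.hadd tbl off M hht _ hx1
  apply Units.ext
  exact eq_one_of_tri_of_diagonal htri _ rfl

/-- The elements of `B = UH` are weakly triangular. -/
theorem borel_wtri (hf : Facts D F) (hchain : ChainOK D) (hht : HtOK D tbl off M) (g : GL D.Idx F)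
    (hg : g ∈ D.borelSubgroup F) : WTri D F (grade D (htOf tbl off)) (g : Matrix D.Idx D.Idx F) := by
  have hnorm : D.diagonalSubgroup F ≤ Subgroup.normalizer (D.posUnipotent F : Set (GL D.Idx F)) :=
    diag_le_normalizer D F hf hchain D.IsPosRoot (fun r hr => hr.1)
  have hcoe := Subgroup.coe_mul_of_right_le_normalizer_left (D.posUnipotent F) (D.diagonalSubgroup F) hnorm
  have hg' : g ∈ ((D.posUnipotent F ⊔ D.diagonalSubgroup F : Subgroup (GL D.Idx F)) : Set (GL D.Idx F)) := hg
  rw [hcoe] at hg'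
  obtain ⟨x, hx, y, hy, rfl⟩ := Set.mem_mul.mp hg'
  obtain ⟨u, rfl⟩ := (hf.mem_diag y).mp hy
  rw [Units.val_mul]
  exact (wtri_of_sub_one (pos_tri D F hf.hlen hf.hadd tbl off M hht x hx)).mul (wtri_diagonal _)

/-- `B ∩ V = 1`. -/
theorem borel_inf_neg (hf : Facts D F) (hchain : ChainOK D) (hht : HtOK D tbl off M) :
    D.borelSubgroup F ⊓ D.negUnipotent F = ⊥ := by
  rw [Subgroup.eq_bot_iff_forall]
  intro x hx
  obtain ⟨hx1, hx2⟩ := Subgroup.mem_inf.mp hx
  apply Units.ext
  exact eq_one_of_wtri_of_tri_neg (borel_wtri D F tbl off M hf hchain hht x hx1)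
    (neg_tri D F hf.hlen hf.hadd tbl off M hht x hx2)

/-- `B ∩ VH = H`. -/
theorem borel_inf_negBorel (hf : Facts D F) (hchain : ChainOK D) (hht : HtOK D tbl off M) :
    D.borelSubgroup F ⊓ (D.negUnipotent F ⊔ D.diagonalSubgroup F) = D.diagonalSubgroup F := by
  apply le_antisymm
  · intro g hg
    obtain ⟨hg1, hg2⟩ := Subgroup.mem_inf.mp hg
    have hnorm : D.diagonalSubgroup F ≤ Subgroup.normalizer (D.negUnipotent F : Set (GL D.Idx F)) :=
      diag_le_normalizer D F hf hchain D.IsNegRoot (fun r hr => hr.1)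
    have hcoe := Subgroup.coe_mul_of_right_le_normalizer_left (D.negUnipotent F) (D.diagonalSubgroup F) hnorm
    have hg' : g ∈ ((D.negUnipotent F ⊔ D.diagonalSubgroup F : Subgroup (GL D.Idx F)) : Set (GL D.Idx F)) := hg2
    rw [hcoe] at hg'
    obtain ⟨x, hx, y, hy, rfl⟩ := Set.mem_mul.mp hg'
    have hyB : y ∈ D.borelSubgroup F := (le_sup_right : D.diagonalSubgroup F ≤ D.borelSubgroup F) hy
    have hxB : x ∈ D.borelSubgroup F := by
      have : x = (x * y) * y⁻¹ := by group
      rw [this]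
      exact mul_mem hg1 (inv_mem hyB)
    have hx1 : x = 1 := by
      have hmem : x ∈ D.borelSubgroup F ⊓ D.negUnipotent F := Subgroup.mem_inf.mpr ⟨hxB, hx⟩
      rw [borel_inf_neg D F tbl off M hf hchain hht] at hmem
      exact Subgroup.mem_bot.mp hmem
    rw [hx1, one_mul]
    exact hy
  · exact le_inf le_sup_right le_sup_right

end

/-! ### words in root elements lie in the group -/

section
variable (hlen : ChainLenOK D) (hadd : AddOK D)

theorem xGL_mem_group (r : ℕ) (t : F) : xGL D hlen hadd F r t ∈ D.group F := by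
  by_cases hr : r < D.nroots
  · apply Subgroup.subset_closure
    refine ⟨⟨r, hr⟩, t, ?_⟩
    rw [xGL_coe]
    unfold ChevalleyDatum.x
    rw [dif_pos hr]
  · have : xGL D hlen hadd F r t = 1 := by
      apply Units.ext
      rw [xGL_coe]
      unfold ChevalleyDatum.x
      rw [dif_neg hr]
      rfl
    rw [this]
    exact one_mem _

include hlen hadd in
/-- An invertible matrix that is the matrix of a word in root elements lies in the group. -/
theorem word_mem_group (w : List (ℕ × F)) : ∀ (g : GL D.Idx F), (g : Matrix D.Idx D.Idx F) = D.wordMat F w →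
    g ∈ D.group F := by
  induction w with
  | nil =>
    intro g hg
    have : g = 1 := by
      apply Units.ext
      rw [hg]
      rfl
    rw [this]
    exact one_mem _
  | cons p w ih =>
    intro g hg
    have e : g = xGL D hlen hadd F p.1 p.2 * ((xGL D hlen hadd F p.1 p.2)⁻¹ * g) := by group
    rw [e]
    refine mul_mem (xGL_mem_group D F hlen hadd p.1 p.2) (ih _ ?_)
    have h1 : D.wordMat F (p :: w) = D.x F p.1 p.2 * D.wordMat F w := by
      unfold ChevalleyDatum.wordMat
      rw [List.map_cons, List.prod_cons]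
    rw [Units.val_mul, hg, h1, ← mul_assoc, ← xGL_coe D hlen hadd F p.1 p.2, Units.inv_mul, one_mul]

end

/-- `U ≤ G`, `H ≤ G`, `N ≤ G`. -/
theorem subgroups_le (hf : Facts D F) :
    D.posUnipotent F ≤ D.group F ∧ D.negUnipotent F ≤ D.group F ∧ D.diagonalSubgroup F ≤ D.group F ∧
      D.monomialSubgroup F ≤ D.group F := by
  have hU : ∀ P : ℕ → Prop, rootClosure D F P ≤ D.group F := by
    intro P
    unfold rootClosure
    rw [Subgroup.closure_le]
    rintro g ⟨r, t, -, hg⟩
    apply word_mem_group D F hf.hlen hf.hadd [(r, t)] g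
    rw [hg]
    unfold ChevalleyDatum.wordMat
    simp
  have hH : D.diagonalSubgroup F ≤ D.group F := by
    unfold ChevalleyDatum.diagonalSubgroup
    rw [Subgroup.closure_le]
    rintro g ⟨r, t, -, -, hg⟩
    exact word_mem_group D F hf.hlen hf.hadd _ g hg
  refine ⟨hU _, hU _, hH, ?_⟩
  unfold ChevalleyDatum.monomialSubgroup
  apply sup_le hH
  rw [Subgroup.closure_le]
  rintro g ⟨r, -, hg⟩
  exact word_mem_group D F hf.hlen hf.hadd _ g hg

/-- `B ≤ G`, `N ≤ G` and `B ⊔ N = G`. -/
theorem borel_sup_monomial (hf : Facts D F) (hpos : SimplePos D) :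
    D.borelSubgroup F ≤ D.group F ∧ D.monomialSubgroup F ≤ D.group F ∧
      D.borelSubgroup F ⊔ D.monomialSubgroup F = D.group F := by
  obtain ⟨hU, -, hH, hN⟩ := subgroups_le D F hf
  have hB : D.borelSubgroup F ≤ D.group F := sup_le hU hH
  refine ⟨hB, hN, le_antisymm (sup_le hB hN) ?_⟩
  rw [hf.group_eq]
  unfold fundSubgroup
  rw [Subgroup.closure_le]
  rintro g ⟨i, hi, t, hg | hg⟩
  · -- `x_{p_i}(t) ∈ U`
    apply (le_sup_left : D.borelSubgroup F ≤ _)
    apply (le_sup_left : D.posUnipotent F ≤ D.borelSubgroup F)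
    exact Subgroup.subset_closure ⟨D.simple i, t, (hpos i hi).1, hg⟩
  · -- `x_{-p_i}(t) = n_i x_{p_i}(η t) n_i⁻¹`
    obtain ⟨η, hη, -, hconj⟩ := hf.fund_conj i hi i hi
    have hrefl : D.reflectRoot i (D.simple i) = D.neg (D.simple i) := by
      unfold ChevalleyDatum.reflectRoot
      simp
    have hηη : (η : F) * ((η : F) * t) = t := by
      rcases hη with h | h <;> rw [h] <;> simp
    have heq : g = nGL D hf.hlen hf.hadd F i * xGL D hf.hlen hf.hadd F (D.simple i) ((η : F) * t) *
        (nGL D hf.hlen hf.hadd F i)⁻¹ := by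
      rw [eq_mul_inv_iff_mul_eq]
      apply Units.ext
      rw [Units.val_mul, Units.val_mul, xGL_coe, nGL_coe, hconj, hrefl, hηη, hg]
    rw [heq]
    have hn : nGL D hf.hlen hf.hadd F i ∈ D.borelSubgroup F ⊔ D.monomialSubgroup F := by
      apply (le_sup_right : D.monomialSubgroup F ≤ _)
      apply (le_sup_right : _ ≤ D.monomialSubgroup F)
      exact Subgroup.subset_closure ⟨D.simple i, (hf.hsimple i hi).1, nGL_coe D hf.hlen hf.hadd F i⟩
    have hx : xGL D hf.hlen hf.hadd F (D.simple i) ((η : F) * t) ∈ D.borelSubgroup F ⊔ D.monomialSubgroup F := by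
      apply (le_sup_left : D.borelSubgroup F ≤ _)
      apply (le_sup_left : D.posUnipotent F ≤ D.borelSubgroup F)
      exact Subgroup.subset_closure ⟨D.simple i, (η : F) * t, (hpos i hi).1, xGL_coe D hf.hlen hf.hadd F _ _⟩
    exact mul_mem (mul_mem hn hx) (inv_mem hn)

end Cfsg.Agent.Lib.Helper36_ChevBorel
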