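import Cfsg.Agent.Lib.Helper36_ChevSparse

set_option autoImplicit false

/-!
The root elements of a Chevalley datum as polynomials in `t` with integer matrix coefficients:
`x_r(t) = 1 + t E_{r,1} + t² E_{r,2} + t³ E_{r,3}`, the `E_{r,k}` being sparse integer matrices read off the tables.
-/

namespace Cfsg.Agent.Lib.Helper36_ChevCoeff

open Cfsg Cfsg.Lie Cfsg.Agent.Lib.Helper36_ChevSparse

variable (D : ChevalleyDatum)

/-- Entries of the chain part of column `e_s` of the `k`-th coefficient matrix of `x_r(t)`. -/
def chainCol (r s k : ℕ) : SVec :=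
  (((D.chain.getD r #[]).toList.filter (fun e => e.1 = s)).flatMap fun e =>
    ((e.2.toList.zipIdx).filter (fun q => q.2 + 1 = k)).map fun q => (D.rank + q.1.1, q.1.2))

/-- Column `c` of the `k`-th coefficient matrix `E_{r,k}` (`k ≥ 1`) of `x_r(t)`. -/
def Ecol (r k : ℕ) : SMat := fun c =>
  if c < D.rank then (if k = 1 then [(D.rank + r, - ((D.cartanSR.getD c #[]).getD r 0))] else [])
  else if c - D.rank = r then []
  else if c - D.rank = D.negIdx.getD r 0 then
    (if k = 1 then (List.range D.rank).map fun i => (i, (D.coroot.getD r #[]).getD i 0)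
     else if k = 2 then [(D.rank + r, -1)] else [])
  else chainCol D r (c - D.rank) k

/-- All chains in the table have length at most 3. -/
def ChainLenOK : Prop :=
  ∀ r < D.nroots, ∀ e ∈ (D.chain.getD r #[]).toList, e.2.toList.length ≤ 3

instance : Decidable (ChainLenOK D) := by
  unfold ChainLenOK
  infer_instance

theorem sum_filter_map {α β : Type*} (Z : List α) (P : α → Bool) (g : α → β) (φ : β → ℤ) :
    (((Z.filter P).map g).map φ).sum = (Z.map fun q => if P q then φ (g q) else 0).sum := by
  induction Z with
  | nil => rfl
  | cons q Z ih =>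
    by_cases h : P q = true
    · rw [List.filter_cons_of_pos h]
      simp only [List.map_cons, List.sum_cons, ih, h, if_true]
    · rw [List.filter_cons_of_neg h]
      simp only [List.map_cons, List.sum_cons, ih, h]
      simp

theorem coeffAt_flatMap {α : Type*} (L : List α) (f : α → SVec) (j : ℕ) :
    coeffAt (L.flatMap f) j = (L.map fun e => coeffAt (f e) j).sum := by
  induction L with
  | nil => rfl
  | cons e L ih =>
    rw [List.flatMap_cons, coeffAt_append, ih, List.map_cons, List.sum_cons]

theorem sum_flatMap {α β : Type*} (L : List α) (f : α → List β) (φ : β → ℤ) :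
    ((L.flatMap f).map φ).sum = (L.map fun e => ((f e).map φ).sum).sum := by
  induction L with
  | nil => rfl
  | cons e L ih =>
    rw [List.flatMap_cons, List.map_append, List.sum_append, ih, List.map_cons, List.sum_cons]

/-- The coefficient of `e_u` in the chain column is the sum of the `M` with exponent `k` in `chainCoeff`. -/
theorem coeffAt_chainCol (r s k u : ℕ) :
    coeffAt (chainCol D r s k) (D.rank + u) =
      ((D.chainCoeff r s u).map fun km => if km.1 = k then km.2 else 0).sum := by
  unfold chainCol ChevalleyDatum.chainCoeff
  rw [coeffAt_flatMap, sum_flatMap]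
  congr 1
  apply List.map_congr_left
  intro e _
  unfold coeffAt
  rw [sum_filter_map, sum_filter_map]
  congr 1
  apply List.map_congr_left
  intro q _
  by_cases h1 : q.2 + 1 = k <;> by_cases h2 : q.1.1 = u <;> simp [h1, h2]

theorem coeffAt_chainCol_lt (r s k i : ℕ) (hi : i < D.rank) :
    coeffAt (chainCol D r s k) i = 0 := by
  apply coeffAt_eq_zero
  intro p hp
  unfold chainCol at hp
  rw [List.mem_flatMap] at hp
  obtain ⟨e, _, hp⟩ := hp
  rw [List.mem_map] at hp
  obtain ⟨q, _, rfl⟩ := hp
  simp only
  omega

theorem coeffAt_range_map (n : ℕ) (f : ℕ → ℤ) (j : ℕ) :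
    coeffAt ((List.range n).map fun i => (i, f i)) j = if j < n then f j else 0 := by
  induction n with
  | zero => simp
  | succ n ih =>
    rw [List.range_succ, List.map_append, coeffAt_append, ih]
    simp only [List.map_cons, List.map_nil, coeffAt_cons, coeffAt_nil, add_zero]
    by_cases h1 : j < n
    · have h2 : ¬ n = j := by omega
      have h3 : j < n + 1 := by omega
      simp [h1, h2, h3]
    · by_cases h2 : n = j
      · subst h2; simp
      · have h3 : ¬ j < n + 1 := by omega
        simp [h1, h2, h3]

/-- exponents in `chainCoeff` are between 1 and 3 -/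
theorem chainCoeff_exp (hlen : ChainLenOK D) (r : ℕ) (hr : r < D.nroots) (s u : ℕ) (km : ℕ × ℤ)
    (h : km ∈ D.chainCoeff r s u) : km.1 = 1 ∨ km.1 = 2 ∨ km.1 = 3 := by
  unfold ChevalleyDatum.chainCoeff at h
  rw [List.mem_flatMap] at h
  obtain ⟨e, he, hkm⟩ := h
  rw [List.mem_filter] at he
  rw [List.mem_map] at hkm
  obtain ⟨q, hq, rfl⟩ := hkm
  rw [List.mem_filter] at hq
  have hq' : (q.1, q.2) ∈ e.2.toList.zipIdx := hq.1
  rw [List.mem_zipIdx_iff_getElem?] at hq'
  have hlt := (List.getElem?_eq_some_iff.mp hq').1
  have := hlen r hr e he.1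
  simp only
  omega

theorem coeffAt_singleton (a : ℕ) (c : ℤ) (j : ℕ) : coeffAt [(a, c)] j = if a = j then c else 0 := by
  simp [coeffAt_cons]

/-! ### the entries of the coefficient matrices -/

/-- column `h_i` -/
theorem Ecol_inl (r k : ℕ) (i : Fin D.rank) :
    Ecol D r k (code D (Sum.inl i)) =
      if k = 1 then [(D.rank + r, - ((D.cartanSR.getD i.val #[]).getD r 0))] else [] := by
  unfold Ecol
  rw [if_pos (show code D (Sum.inl i) < D.rank from i.isLt)]
  rfl

theorem Ecol_inr (r k : ℕ) (s : Fin D.nroots) :
    Ecol D r k (code D (Sum.inr s)) =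
      if s.val = r then []
      else if s.val = D.negIdx.getD r 0 then
        (if k = 1 then (List.range D.rank).map fun i => (i, (D.coroot.getD r #[]).getD i 0)
         else if k = 2 then [(D.rank + r, -1)] else [])
      else chainCol D r s.val k := by
  unfold Ecol
  have hs : ¬ code D (Sum.inr s) < D.rank := by simp only [code]; omega
  have hs' : code D (Sum.inr s) - D.rank = s.val := by simp only [code]; omega
  rw [if_neg hs, hs']

/-- The `k`-th coefficient matrix of `x_r(t)` over `F`. -/
noncomputable def EmatF (F : Type*) [Field F] (r k : ℕ) : Matrix D.Idx D.Idx F :=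
  (toMatZ D (Ecol D r k)).map (Int.cast : ℤ → F)

theorem EmatF_apply (F : Type*) [Field F] (r k : ℕ) (row col : D.Idx) :
    EmatF D F r k row col = ((coeffAt (Ecol D r k (code D col)) (code D row) : ℤ) : F) := rfl

theorem sum_chain_pow {F : Type*} [Field F] (L : List (ℕ × ℤ)) (t : F)
    (hexp : ∀ km ∈ L, km.1 = 1 ∨ km.1 = 2 ∨ km.1 = 3) :
    (L.map fun km => ((km.2 : ℤ) : F) * t ^ km.1).sum =
      t * (((L.map fun km => if km.1 = 1 then km.2 else 0).sum : ℤ) : F) +
      t ^ 2 * (((L.map fun km => if km.1 = 2 then km.2 else 0).sum : ℤ) : F) +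
      t ^ 3 * (((L.map fun km => if km.1 = 3 then km.2 else 0).sum : ℤ) : F) := by
  induction L with
  | nil => simp
  | cons km L ih =>
    have ih' := ih (fun km' h => hexp km' (List.mem_cons_of_mem _ h))
    simp only [List.map_cons, List.sum_cons, Int.cast_add]
    rw [ih']
    rcases hexp km List.mem_cons_self with h | h | h <;> simp [h] <;> ring

theorem code_inl (i : Fin D.rank) : code D (Sum.inl i) = i.val := rfl
theorem code_inr (r : Fin D.nroots) : code D (Sum.inr r) = D.rank + r.val := rfl

theorem xMat_eq (hlen : ChainLenOK D) (F : Type*) [Field F] (r : Fin D.nroots) (t : F) :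
    D.xMat F r t = 1 + t • EmatF D F r.val 1 + t ^ 2 • EmatF D F r.val 2 + t ^ 3 • EmatF D F r.val 3 := by
  ext row col
  simp only [Matrix.add_apply, Matrix.smul_apply, smul_eq_mul, EmatF_apply, ChevalleyDatum.xMat, Matrix.of_apply,
    Matrix.one_apply]
  rcases col with i | s
  · simp only [Ecol_inl, if_true, OfNat.ofNat_ne_one, if_false, coeffAt_nil, Int.cast_zero, mul_zero, add_zero,
      show (3 : ℕ) ≠ 1 by omega]
    generalize (D.cartanSR.getD i.val #[]).getD r.val 0 = A
    rw [coeffAt_singleton]
    rcases row with i' | u
    · have hne : ¬ (D.rank + r.val = code D (Sum.inl i')) := by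
        have := i'.isLt; rw [code_inl]; omega
      rw [if_neg hne]
      simp only [Int.cast_zero, mul_zero, add_zero]
      by_cases hii : i' = i
      · subst hii; simp
      · have : (Sum.inl i' : D.Idx) ≠ Sum.inl i := fun h => hii (Sum.inl.inj h)
        rw [if_neg hii, if_neg this]
    · have hne : (Sum.inr u : D.Idx) ≠ Sum.inl i := by simp
      rw [if_neg hne, zero_add]
      dsimp only
      by_cases hur : u = r
      · subst hur
        rw [if_pos rfl, if_pos (code_inr D u).symm]
        push_cast
        ring
      · have : ¬ (D.rank + r.val = code D (Sum.inr u)) := by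
          rw [code_inr]; intro h; apply hur; ext; omega
        rw [if_neg hur, if_neg this]
        simp
  · simp only [Ecol_inr]
    by_cases h1 : s = r
    · have h1' : s.val = r.val := by rw [h1]
      simp only [if_pos h1', coeffAt_nil, Int.cast_zero, mul_zero, add_zero, if_pos h1]
      rcases row with i' | u
      · have : (Sum.inl i' : D.Idx) ≠ Sum.inr s := by simp
        rw [if_neg this]
      · by_cases hur : u = r
        · subst hur; subst h1; simp
        · have : (Sum.inr u : D.Idx) ≠ Sum.inr s := fun h => hur ((Sum.inr.inj h).trans h1)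
          simp only [if_neg hur, if_neg this]
    · have h1' : ¬ s.val = r.val := fun h => h1 (Fin.ext h)
      simp only [if_neg h1', if_neg h1]
      by_cases h2 : s.val = D.negIdx.getD r.val 0
      · simp only [if_pos h2, if_true, OfNat.ofNat_ne_one, if_false, show (3 : ℕ) ≠ 1 by omega,
          show (3 : ℕ) ≠ 2 by omega, coeffAt_nil, Int.cast_zero, mul_zero, add_zero]
        rw [coeffAt_range_map, coeffAt_singleton]
        generalize D.coroot.getD r.val #[] = cr
        rcases row with i' | u
        · have hi' := i'.isLt
          have hne : ¬ (D.rank + r.val = code D (Sum.inl i')) := by rw [code_inl]; omega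
          have hlt : code D (Sum.inl i') < D.rank := hi'
          rw [if_neg hne, if_pos hlt]
          have : (Sum.inl i' : D.Idx) ≠ Sum.inr s := by simp
          simp only [if_neg this, code_inl, Int.cast_zero, mul_zero, add_zero, zero_add]
          ring
        · have hlt : ¬ code D (Sum.inr u) < D.rank := by rw [code_inr]; omega
          rw [if_neg hlt]
          simp only [Int.cast_zero, mul_zero, add_zero]
          by_cases hus : u = s
          · subst hus
            have : ¬ (D.rank + r.val = code D (Sum.inr u)) := by rw [code_inr]; omega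
            simp only [if_true, if_neg this, Int.cast_zero, mul_zero, add_zero]
          · have hne2 : (Sum.inr u : D.Idx) ≠ Sum.inr s := fun h => hus (Sum.inr.inj h)
            simp only [if_neg hus, if_neg hne2]
            by_cases hur : u = r
            · subst hur
              simp only [if_true, if_pos (code_inr D u).symm]
              push_cast
              ring
            · have : ¬ (D.rank + r.val = code D (Sum.inr u)) := by
                rw [code_inr]; intro h; apply hur; ext; omega
              simp only [if_neg hur, if_neg this, Int.cast_zero, mul_zero, add_zero]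
      · simp only [if_neg h2]
        rcases row with i' | u
        · have : (Sum.inl i' : D.Idx) ≠ Sum.inr s := by simp
          simp [code_inl, coeffAt_chainCol_lt D _ _ _ _ i'.isLt, this]
        · simp only [code_inr, coeffAt_chainCol]
          have hδ : (if (Sum.inr u : D.Idx) = Sum.inr s then (1 : F) else 0) = if u = s then 1 else 0 := by
            by_cases hus : u = s
            · subst hus; simp
            · have : (Sum.inr u : D.Idx) ≠ Sum.inr s := fun h => hus (Sum.inr.inj h)
              simp [hus, this]
          rw [hδ, add_assoc, add_assoc]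
          congr 1
          rw [sum_chain_pow _ t (chainCoeff_exp D hlen r.val r.isLt s.val u.val)]
          ring

end Cfsg.Agent.Lib.Helper36_ChevCoeff
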