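import Cfsg.Agent.Lib.Helper36_ChevPoly2

set_option autoImplicit false

/-!
The commutator formula `x_s(u) x_r(t) = x_r(t) x_s(u) ∏ x_{ir+js}(C (-t)^i u^j)` for a pair of roots, from a check on
the tables (an identity between matrices with entries polynomials in `t` and `u`).
-/

namespace Cfsg.Agent.Lib.Helper36_ChevComm

open Cfsg Cfsg.Lie Cfsg.Agent.Lib.Helper36_ChevSparse Cfsg.Agent.Lib.Helper36_ChevCoeff
  Cfsg.Agent.Lib.Helper36_ChevCoo Cfsg.Agent.Lib.Helper36_ChevAdd Cfsg.Agent.Lib.Helper36_ChevIdx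
  Cfsg.Agent.Lib.Helper36_ChevLaurent Cfsg.Agent.Lib.Helper36_ChevH Cfsg.Agent.Lib.Helper36_ChevPoly2

variable (D : ChevalleyDatum)

/-- The commutator formula for the pair `(r, s)` over `F`. -/
def CFpair (F : Type*) [Field F] (r s : ℕ) : Prop :=
  ∀ t u : F, D.x F s u * D.x F r t = D.x F r t * D.x F s u * D.wordMat F (D.commWord F r s t u)

/-- `x_k(c (t^i u^j)) - 1` as a polynomial matrix. -/
def XPgen (k : ℕ) (c : ℤ) (i j : ℕ) : PCoo :=
  pclean [((i, j), csmul c (Ecoo D k 1)), ((2 * i, 2 * j), csmul (c ^ 2) (Ecoo D k 2)),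
    ((3 * i, 3 * j), csmul (c ^ 3) (Ecoo D k 3))]

theorem evalP_XPgen (hlen : ChainLenOK D) (F : Type*) [Field F] (k : ℕ) (hk : k < D.nroots) (c : ℤ) (i j : ℕ)
    (t u : F) : 1 + evalP D F (XPgen D k c i j) t u = D.x F k ((c : F) * (t ^ i * u ^ j)) := by
  rw [x_eq D hlen F k hk]
  unfold XPgen
  rw [evalP_pclean]
  simp only [evalP_cons, evalP_nil, castMat_Ecoo, castMat_csmul, add_zero, smul_smul]
  have e2 : t ^ (2 * i) * u ^ (2 * j) * ((c ^ 2 : ℤ) : F) = ((c : F) * (t ^ i * u ^ j)) ^ 2 := by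
    push_cast
    ring
  have e3 : t ^ (3 * i) * u ^ (3 * j) * ((c ^ 3 : ℤ) : F) = ((c : F) * (t ^ i * u ^ j)) ^ 3 := by
    push_cast
    ring
  have e1 : t ^ i * u ^ j * (c : F) = (c : F) * (t ^ i * u ^ j) := by ring
  rw [e1, e2, e3]
  abel

/-- The polynomial matrix of a term of the commutator formula. -/
def XPterm (c : ℕ × ℤ × ℕ × ℕ) : PCoo := XPgen D c.1 (c.2.1 * (-1) ^ c.2.2.1) c.2.2.1 c.2.2.2

theorem evalP_XPterm (hlen : ChainLenOK D) (F : Type*) [Field F] (c : ℕ × ℤ × ℕ × ℕ) (hk : c.1 < D.nroots)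
    (t u : F) :
    1 + evalP D F (XPterm D c) t u = D.x F c.1 ((c.2.1 : F) * (-t) ^ c.2.2.1 * u ^ c.2.2.2) := by
  unfold XPterm
  rw [evalP_XPgen D hlen F c.1 hk]
  congr 1
  push_cast
  rw [neg_pow t]
  ring

/-- The right-hand side, folding over the terms. -/
def rhsFold (T : List (ℕ × ℤ × ℕ × ℕ)) (acc : PCoo) : PCoo := T.foldl (fun a c => pmul1 D a (XPterm D c)) acc

theorem evalP_rhsFold (hlen : ChainLenOK D) (F : Type*) [Field F] (t u : F) :
    ∀ (T : List (ℕ × ℤ × ℕ × ℕ)) (acc : PCoo), (∀ c ∈ T, c.1 < D.nroots) →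
      1 + evalP D F (rhsFold D T acc) t u = (1 + evalP D F acc t u) *
        D.wordMat F (T.map fun c => (c.1, (c.2.1 : F) * (-t) ^ c.2.2.1 * u ^ c.2.2.2)) := by
  intro T
  induction T with
  | nil =>
    intro acc _
    simp [rhsFold, ChevalleyDatum.wordMat]
  | cons c T ih =>
    intro acc h
    have e : rhsFold D (c :: T) acc = rhsFold D T (pmul1 D acc (XPterm D c)) := rfl
    rw [e, ih _ (fun c' hc' => h c' (List.mem_cons_of_mem _ hc')), evalP_pmul1,
      evalP_XPterm D hlen F c (h c List.mem_cons_self)]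
    unfold ChevalleyDatum.wordMat
    rw [List.map_cons, List.map_cons, List.prod_cons, mul_assoc]

/-- The check of the commutator formula for the pair `(r, s)`. -/
def cfDirect (r s : ℕ) : Bool :=
  ((D.commTerms r s).all fun c => decide (c.1 < D.nroots)) &&
  peq (dim D) (pmul1 D (XPgen D s 1 0 1) (XPgen D r 1 1 0))
    (rhsFold D (D.commTerms r s) (pmul1 D (XPgen D r 1 1 0) (XPgen D s 1 0 1)))

theorem cfpair_of_direct (hlen : ChainLenOK D) (F : Type*) [Field F] (r s : ℕ) (hr : r < D.nroots)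
    (hs : s < D.nroots) (h : cfDirect D r s = true) : CFpair D F r s := by
  unfold cfDirect at h
  rw [Bool.and_eq_true, List.all_eq_true] at h
  obtain ⟨h1, h2⟩ := h
  have h1' : ∀ c ∈ D.commTerms r s, c.1 < D.nroots := fun c hc => of_decide_eq_true (h1 c hc)
  intro t u
  have key := evalP_eq_of_peq D F (dim D) _ _ h2 t u
  have hL := evalP_pmul1 D F (XPgen D s 1 0 1) (XPgen D r 1 1 0) t u
  have hR := evalP_rhsFold D hlen F t u (D.commTerms r s) (pmul1 D (XPgen D r 1 1 0) (XPgen D s 1 0 1)) h1'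
  rw [evalP_pmul1] at hR
  have xr := evalP_XPgen D hlen F r hr 1 1 0 t u
  have xs := evalP_XPgen D hlen F s hs 1 0 1 t u
  simp only [Int.cast_one, one_mul, pow_zero, pow_one, mul_one] at xr xs
  rw [xr, xs] at hL hR
  unfold ChevalleyDatum.commWord
  rw [← hL, ← hR, key]

end Cfsg.Agent.Lib.Helper36_ChevComm
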