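import Cfsg.Agent.Lib.Helper36_ChevComm
import Cfsg.Agent.Lib.Helper36_ChevBorel

set_option autoImplicit false

/-!
Consequences of the commutator formula for subgroups generated by root elements: a root element normalises the
subgroup generated by the root elements of a set of roots closed under the terms of the formula.
-/

namespace Cfsg.Agent.Lib.Helper36_ChevCommU

open Cfsg Cfsg.Lie Cfsg.Agent.Lib.Helper36_ChevCoeff Cfsg.Agent.Lib.Helper36_ChevAdd
  Cfsg.Agent.Lib.Helper36_ChevComm Cfsg.Agent.Lib.Helper36_ChevBorel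

variable (D : ChevalleyDatum) (F : Type*) [Field F]

/-- The commutator formula for all pairs of roots `s ≠ ±r`. -/
def CFAll : Prop := ∀ r s, r < D.nroots → s < D.nroots → s ≠ r → s ≠ D.neg r → CFpair D F r s

variable (hlen : ChainLenOK D) (hadd : AddOK D)

/-- The matrix of a word in root elements as an element of the general linear group. -/
noncomputable def wordXGL (W : List (ℕ × F)) : GL D.Idx F := (W.map fun p => xGL D hlen hadd F p.1 p.2).prod

theorem wordXGL_nil : wordXGL D F hlen hadd [] = 1 := rfl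

theorem wordXGL_cons (p : ℕ × F) (W : List (ℕ × F)) :
    wordXGL D F hlen hadd (p :: W) = xGL D hlen hadd F p.1 p.2 * wordXGL D F hlen hadd W := by
  unfold wordXGL
  rw [List.map_cons, List.prod_cons]

theorem wordXGL_coe (W : List (ℕ × F)) :
    ((wordXGL D F hlen hadd W : GL D.Idx F) : Matrix D.Idx D.Idx F) = D.wordMat F W := by
  induction W with
  | nil => rfl
  | cons p W ih =>
    rw [wordXGL_cons, Units.val_mul, ih, xGL_coe]
    unfold ChevalleyDatum.wordMat
    rw [List.map_cons, List.prod_cons]

theorem xGL_mem_rootClosure (P : ℕ → Prop) (r : ℕ) (hr : P r) (t : F) :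
    xGL D hlen hadd F r t ∈ rootClosure D F P :=
  Subgroup.subset_closure ⟨r, t, hr, rfl⟩

theorem wordXGL_mem (P : ℕ → Prop) (W : List (ℕ × F)) (h : ∀ p ∈ W, P p.1) :
    wordXGL D F hlen hadd W ∈ rootClosure D F P := by
  unfold wordXGL
  apply Subgroup.list_prod_mem
  intro x hx
  rw [List.mem_map] at hx
  obtain ⟨p, hp, rfl⟩ := hx
  exact xGL_mem_rootClosure D F hlen hadd P p.1 (h p hp) p.2

theorem xGL_inv (r : ℕ) (t : F) : (xGL D hlen hadd F r t)⁻¹ = xGL D hlen hadd F r (-t) := by
  apply Units.ext
  rfl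

theorem xGL_mul (r : ℕ) (t u : F) :
    xGL D hlen hadd F r t * xGL D hlen hadd F r u = xGL D hlen hadd F r (t + u) := by
  apply Units.ext
  rw [Units.val_mul, xGL_coe, xGL_coe, xGL_coe, x_add D hlen hadd]

theorem xGL_zero (r : ℕ) : xGL D hlen hadd F r 0 = 1 := by
  apply Units.ext
  rw [xGL_coe, x_zero D hlen]
  rfl

theorem eq_xGL (g : GL D.Idx F) (r : ℕ) (t : F) (h : (g : Matrix D.Idx D.Idx F) = D.x F r t) :
    g = xGL D hlen hadd F r t := Units.ext h

/-- The conjugate of a root element by another one, from the commutator formula. -/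
theorem conj_xGL (hcf : CFAll D F) (r s : ℕ) (hr : r < D.nroots) (hs : s < D.nroots) (hsr : s ≠ r)
    (hsn : s ≠ D.neg r) (t u : F) :
    (xGL D hlen hadd F r t)⁻¹ * xGL D hlen hadd F s u * xGL D hlen hadd F r t =
      xGL D hlen hadd F s u * wordXGL D F hlen hadd (D.commWord F r s t u) := by
  have key : xGL D hlen hadd F s u * xGL D hlen hadd F r t =
      xGL D hlen hadd F r t * xGL D hlen hadd F s u * wordXGL D F hlen hadd (D.commWord F r s t u) := by
    apply Units.ext
    simp only [Units.val_mul, xGL_coe, wordXGL_coe]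
    exact hcf r s hr hs hsr hsn t u
  rw [mul_assoc, key]
  group

/-- A root element conjugates the subgroup generated by the root elements of a set of roots closed under the terms
of the commutator formula into itself. -/
theorem conj_mem (hcf : CFAll D F) (P : ℕ → Prop) (hP : ∀ s, P s → s < D.nroots) (r : ℕ) (hr : r < D.nroots)
    (hterms : ∀ s, P s → s ≠ r ∧ s ≠ D.neg r ∧ ∀ c ∈ D.commTerms r s, P c.1) (t : F) (g : GL D.Idx F)
    (hg : g ∈ rootClosure D F P) :
    (xGL D hlen hadd F r t)⁻¹ * g * xGL D hlen hadd F r t ∈ rootClosure D F P := by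
  unfold rootClosure at hg
  induction hg using Subgroup.closure_induction with
  | mem x hx =>
    obtain ⟨s, u, hs, hx⟩ := hx
    rw [eq_xGL D F hlen hadd x s u hx]
    obtain ⟨h1, h2, h3⟩ := hterms s hs
    rw [conj_xGL D F hlen hadd hcf r s hr (hP s hs) h1 h2]
    apply Subgroup.mul_mem
    · exact xGL_mem_rootClosure D F hlen hadd P s hs u
    · apply wordXGL_mem
      intro p hp
      unfold ChevalleyDatum.commWord at hp
      rw [List.mem_map] at hp
      obtain ⟨c, hc, rfl⟩ := hp
      exact h3 c hc
  | one =>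
    have : (xGL D hlen hadd F r t)⁻¹ * 1 * xGL D hlen hadd F r t = 1 := by group
    rw [this]
    exact Subgroup.one_mem _
  | mul x y _ _ hx hy =>
    have : (xGL D hlen hadd F r t)⁻¹ * (x * y) * xGL D hlen hadd F r t =
        ((xGL D hlen hadd F r t)⁻¹ * x * xGL D hlen hadd F r t) *
          ((xGL D hlen hadd F r t)⁻¹ * y * xGL D hlen hadd F r t) := by group
    rw [this]
    exact Subgroup.mul_mem _ hx hy
  | inv x _ hx =>
    have : (xGL D hlen hadd F r t)⁻¹ * x⁻¹ * xGL D hlen hadd F r t =
        ((xGL D hlen hadd F r t)⁻¹ * x * xGL D hlen hadd F r t)⁻¹ := by group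
    rw [this]
    exact Subgroup.inv_mem _ hx

/-- A root element normalises the subgroup generated by the root elements of a set of roots closed under the terms
of the commutator formula. -/
theorem xGL_mem_normalizer (hcf : CFAll D F) (P : ℕ → Prop) (hP : ∀ s, P s → s < D.nroots) (r : ℕ)
    (hr : r < D.nroots) (hterms : ∀ s, P s → s ≠ r ∧ s ≠ D.neg r ∧ ∀ c ∈ D.commTerms r s, P c.1) (t : F) :
    xGL D hlen hadd F r t ∈ Subgroup.normalizer (rootClosure D F P : Set (GL D.Idx F)) := by
  rw [Subgroup.mem_normalizer_iff]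
  intro n
  constructor
  · intro hn
    have := conj_mem D F hlen hadd hcf P hP r hr hterms (-t) n hn
    rw [← xGL_inv, inv_inv] at this
    exact this
  · intro hn
    have := conj_mem D F hlen hadd hcf P hP r hr hterms t _ hn
    have e : (xGL D hlen hadd F r t)⁻¹ * (xGL D hlen hadd F r t * n * (xGL D hlen hadd F r t)⁻¹) *
        xGL D hlen hadd F r t = n := by group
    rw [e] at this
    exact this

/-- The root subgroup `X_r` consists of the elements `x_r(t)`. -/
theorem mem_rootSubgroup (r : ℕ) (g : GL D.Idx F) :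
    g ∈ D.rootSubgroup F r ↔ ∃ t : F, g = xGL D hlen hadd F r t := by
  constructor
  · intro hg
    unfold ChevalleyDatum.rootSubgroup at hg
    induction hg using Subgroup.closure_induction with
    | mem x hx =>
      obtain ⟨t, hx⟩ := hx
      exact ⟨t, eq_xGL D F hlen hadd x r t hx⟩
    | one => exact ⟨0, (xGL_zero D F hlen hadd r).symm⟩
    | mul x y _ _ hx hy =>
      obtain ⟨t, rfl⟩ := hx
      obtain ⟨u, rfl⟩ := hy
      exact ⟨t + u, xGL_mul D F hlen hadd r t u⟩
    | inv x _ hx =>
      obtain ⟨t, rfl⟩ := hx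
      exact ⟨-t, xGL_inv D F hlen hadd r t⟩
  · rintro ⟨t, rfl⟩
    exact Subgroup.subset_closure ⟨t, rfl⟩

include hlen hadd in
/-- The root subgroup `X_r` normalises the subgroup generated by the root elements of a set of roots closed under the
terms of the commutator formula. -/
theorem rootSubgroup_le_normalizer (hcf : CFAll D F) (P : ℕ → Prop) (hP : ∀ s, P s → s < D.nroots) (r : ℕ)
    (hr : r < D.nroots) (hterms : ∀ s, P s → s ≠ r ∧ s ≠ D.neg r ∧ ∀ c ∈ D.commTerms r s, P c.1) :
    D.rootSubgroup F r ≤ Subgroup.normalizer (rootClosure D F P : Set (GL D.Idx F)) := by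
  intro g hg
  obtain ⟨t, rfl⟩ := (mem_rootSubgroup D F hlen hadd r g).mp hg
  exact xGL_mem_normalizer D F hlen hadd hcf P hP r hr hterms t

end Cfsg.Agent.Lib.Helper36_ChevCommU
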