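import Cfsg.Agent.Lib.Helper36_ChevGen

set_option autoImplicit false

/-!
The relation `n_i x_s(t) = x_{w_i s}(η t) n_i` for all pairs `(i, s)` with a table of the signs `η`, and the
monomial form of the matrix of `n_i` read off its literal table.
-/

namespace Cfsg.Agent.Lib.Helper36_ChevConj

open Cfsg Cfsg.Lie Cfsg.Agent.Lib.Helper36_ChevSparse Cfsg.Agent.Lib.Helper36_ChevCoeff
  Cfsg.Agent.Lib.Helper36_ChevCoo Cfsg.Agent.Lib.Helper36_ChevAdd Cfsg.Agent.Lib.Helper36_ChevWeyl
  Cfsg.Agent.Lib.Helper36_ChevIdx Cfsg.Agent.Lib.Helper36_ChevGen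

variable (D : ChevalleyDatum)

/-- The check of `n_i x_s(t) = x_{w_i s}(η_s t) n_i` for the roots `a ≤ s < b`, with the signs `η_s` from a list. -/
def EtaRange (k : ℕ) (Nl : NLits) (i : ℕ) (etas : List ℤ) (a b : ℕ) : Prop :=
  ∀ s < b, a ≤ s → pairCheck D k Nl (i, s, etas.getD s 0) = true

instance (k : ℕ) (Nl : NLits) (i : ℕ) (etas : List ℤ) (a b : ℕ) : Decidable (EtaRange D k Nl i etas a b) := by
  unfold EtaRange
  infer_instance

theorem etaRange_trans (k : ℕ) (Nl : NLits) (i : ℕ) (etas : List ℤ) {a b c : ℕ}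
    (h1 : EtaRange D k Nl i etas a b) (h2 : EtaRange D k Nl i etas b c) : EtaRange D k Nl i etas a c := by
  intro s hs has
  by_cases h : s < b
  · exact h1 s h has
  · exact h2 s hs (Nat.le_of_not_lt h)

/-- The check for all pairs, with a table of signs (one list for each `i`). -/
def EtaTableOK (k : ℕ) (Nl : NLits) (tbl : List (List ℤ)) : Prop :=
  ∀ i < D.rank, EtaRange D k Nl i (tbl.getD i []) 0 D.nroots

/-- From the table check: `n_i x_s(t) = x_{w_i s}(η t) n_i` with `η` the table entry. -/
theorem nMat_mul_x_of_table (hlen : ChainLenOK D) (hadd : AddOK D) (hsimple : SimpleOK D) (Nl : NLits)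
    (hNl : NLitOK D Nl) (F : Type*) [Field F] (k : ℕ) (tbl : List (List ℤ)) (htbl : EtaTableOK D k Nl tbl)
    (i s : ℕ) (hi : i < D.rank) (hs : s < D.nroots) :
    D.reflectRoot i s < D.nroots ∧ ((tbl.getD i []).getD s 0 = 1 ∨ (tbl.getD i []).getD s 0 = -1) ∧ ∀ t : F,
      D.nMat F (D.simple i) 1 * D.x F s t =
        D.x F (D.reflectRoot i s) ((((tbl.getD i []).getD s 0 : ℤ) : F) * t) * D.nMat F (D.simple i) 1 :=
  nMat_mul_x_of_pairCheck D hlen hadd hsimple Nl hNl F k (i, s, (tbl.getD i []).getD s 0) hi hs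
    (htbl i hi s hs (Nat.zero_le _))

/-! ### the monomial form of `n_i` -/

/-- The check that the literal table (by columns) of `n_i` has the monomial form: on the `h`-part it is the
reflection `h_j ↦ h_j - A_{j, p_i} h_i`, and it sends `e_s` to `η_s e_{w_i s}`. -/
def monoCheck (i : ℕ) (Nc : Idxd) (etas : List ℤ) : Bool :=
  ((List.range D.rank).all fun j => (List.range (dim D)).all fun a =>
      coeffAt (Nc.getD j []) a ==
        (if a < D.rank then (if a = j then 1 else 0) - (if a = i then D.cartan j (D.simple i) else 0) else 0)) &&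
  ((List.range D.nroots).all fun s => Nc.getD (D.rank + s) [] == [(D.rank + D.reflectRoot i s, etas.getD s 0)])

/-- The expected integer matrix of `n_i`. -/
def monoMatZ (i : ℕ) (η : ℕ → ℤ) : Matrix D.Idx D.Idx ℤ :=
  Matrix.of (fun (row col : D.Idx) =>
    Sum.elim
      (fun j' : Fin D.rank => Sum.elim
        (fun j : Fin D.rank => (if j' = j then (1 : ℤ) else 0) - (if (j' : ℕ) = i then D.cartan j (D.simple i) else 0))
        (fun _ => (0 : ℤ)) col)
      (fun s' : Fin D.nroots => Sum.elim
        (fun _ => (0 : ℤ))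
        (fun s : Fin D.nroots => if (s' : ℕ) = D.reflectRoot i s then η s else 0) col)
      row)

theorem toMatZc_of_monoCheck (i : ℕ) (Nc : Idxd) (etas : List ℤ) (h : monoCheck D i Nc etas = true) :
    toMatZc D (colsToCoo Nc) = monoMatZ D i (fun s => etas.getD s 0) := by
  unfold monoCheck at h
  rw [Bool.and_eq_true, List.all_eq_true, List.all_eq_true] at h
  obtain ⟨h1, h2⟩ := h
  ext row col
  unfold toMatZc monoMatZ
  simp only [Matrix.of_apply]
  rw [entry_colsToCoo]
  rcases col with j | s
  · have hj := h1 j.val (List.mem_range.mpr j.isLt)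
    rw [List.all_eq_true] at hj
    have hrow := hj (code D row) (List.mem_range.mpr (code_lt D row))
    rw [beq_iff_eq] at hrow
    have hcj : code D (Sum.inl j) = j.val := rfl
    rw [hcj, hrow]
    rcases row with j' | s'
    · have hc : code D (Sum.inl j') = j'.val := rfl
      simp only [hc, Sum.elim_inl, Fin.is_lt, if_true, Fin.ext_iff]
    · have hc : code D (Sum.inr s') = D.rank + s'.val := rfl
      have : ¬ (D.rank + s'.val < D.rank) := by omega
      simp only [hc, Sum.elim_inl, Sum.elim_inr, this, if_false]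
  · have hs := h2 s.val (List.mem_range.mpr s.isLt)
    rw [beq_iff_eq] at hs
    have hcs : code D (Sum.inr s) = D.rank + s.val := rfl
    rw [hcs, hs, coeffAt_cons, coeffAt_nil, add_zero]
    rcases row with j' | s'
    · have hc : code D (Sum.inl j') = j'.val := rfl
      have : ¬ (D.rank + D.reflectRoot i s.val = j'.val) := by have := j'.isLt; omega
      simp only [hc, Sum.elim_inl, Sum.elim_inr, this, if_false]
    · have hc : code D (Sum.inr s') = D.rank + s'.val := rfl
      simp only [hc, Sum.elim_inr]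
      by_cases hc' : (s' : ℕ) = D.reflectRoot i s
      · rw [if_pos hc', if_pos (by omega)]
      · rw [if_neg hc', if_neg (by omega)]

/-- The matrix of `n_i` over a field has the monomial form given by the checked table. -/
theorem nMat_eq_mono (hlen : ChainLenOK D) (hsimple : SimpleOK D) (F : Type*) [Field F] (i : ℕ) (hi : i < D.rank)
    (Nc Nr : Idxd) (hN : NLitGood D i Nc Nr) (etas : List ℤ) (h : monoCheck D i Nc etas = true) :
    D.nMat F (D.simple i) 1 = Matrix.of (fun (row col : D.Idx) =>
        Sum.elim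
          (fun j' : Fin D.rank => Sum.elim
            (fun j : Fin D.rank => (if j' = j then (1 : F) else 0) -
              (if (j' : ℕ) = i then ((D.cartan j (D.simple i) : ℤ) : F) else 0))
            (fun _ => (0 : F)) col)
          (fun s' : Fin D.nroots => Sum.elim
            (fun _ => (0 : F))
            (fun s : Fin D.nroots => if (s' : ℕ) = D.reflectRoot i s then ((etas.getD s 0 : ℤ) : F) else 0) col)
          row) := by
  rw [nMat_eq D hlen hsimple F i hi, hN.2.2.1, toMatZc_of_monoCheck D i Nc etas h]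
  ext row col
  unfold monoMatZ
  rcases row with j' | s' <;> rcases col with j | s <;>
    simp only [Matrix.map_apply, Matrix.of_apply, Sum.elim_inl, Sum.elim_inr, eq_intCast, Int.cast_sub,
      Int.cast_ite, Int.cast_one, Int.cast_zero]

/-- The properties of the signs of `n_i`, as a check on the tables. -/
def etaPropsCheck (i : ℕ) (etas : List ℤ) : Bool :=
  ((List.range D.nroots).all fun s => etas.getD s 0 == 1 || etas.getD s 0 == -1) &&
  (etas.getD (D.simple i) 0 == -1) && (etas.getD (D.neg (D.simple i)) 0 == -1) &&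
  ((List.range D.nroots).all fun s =>
    (etas.getD s 0 * etas.getD (D.reflectRoot i s) 0 == (-1) ^ (D.cartan i s).natAbs) &&
    (etas.getD s 0 * etas.getD (D.neg s) 0 == 1))

theorem etaProps_of_check (i : ℕ) (etas : List ℤ) (h : etaPropsCheck D i etas = true) :
    (∀ s < D.nroots, etas.getD s 0 = 1 ∨ etas.getD s 0 = -1) ∧ etas.getD (D.simple i) 0 = -1 ∧
      etas.getD (D.neg (D.simple i)) 0 = -1 ∧
      (∀ s < D.nroots, etas.getD s 0 * etas.getD (D.reflectRoot i s) 0 = (-1) ^ (D.cartan i s).natAbs ∧
        etas.getD s 0 * etas.getD (D.neg s) 0 = 1) := by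
  unfold etaPropsCheck at h
  simp only [Bool.and_eq_true, List.all_eq_true, List.mem_range, Bool.or_eq_true, beq_iff_eq] at h
  obtain ⟨⟨⟨h1, h2⟩, h3⟩, h4⟩ := h
  exact ⟨h1, h2, h3, h4⟩

end Cfsg.Agent.Lib.Helper36_ChevConj
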