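import Cfsg.Agent.Lib.Helper36_ChevCoeff

set_option autoImplicit false

/-!
Sparse integer matrices in coordinate form (lists of (row, column, value)), with a sound product and a sound
equality check; the coefficient matrices `E_{r,k}` of the root elements in this form.
This form is much cheaper for kernel evaluation than the column form of `Helper36_ChevSparse`.
-/

namespace Cfsg.Agent.Lib.Helper36_ChevCoo

open Cfsg Cfsg.Lie Cfsg.Agent.Lib.Helper36_ChevSparse Cfsg.Agent.Lib.Helper36_ChevCoeff

/-- A sparse matrix in coordinate form: (row, column, value); repeated positions add up. -/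
abbrev Coo := List (ℕ × ℕ × ℤ)

/-- The entry at position `(i, j)`. -/
def entry (A : Coo) (i j : ℕ) : ℤ := (A.map fun p => if p.1 = i ∧ p.2.1 = j then p.2.2 else 0).sum

@[simp] theorem entry_nil (i j : ℕ) : entry [] i j = 0 := rfl

theorem entry_cons (p : ℕ × ℕ × ℤ) (A : Coo) (i j : ℕ) :
    entry (p :: A) i j = (if p.1 = i ∧ p.2.1 = j then p.2.2 else 0) + entry A i j := by
  simp [entry]

theorem entry_append (A B : Coo) (i j : ℕ) : entry (A ++ B) i j = entry A i j + entry B i j := by
  simp [entry]

theorem entry_flatMap {α : Type*} (L : List α) (f : α → Coo) (i j : ℕ) :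
    entry (L.flatMap f) i j = (L.map fun e => entry (f e) i j).sum := by
  induction L with
  | nil => rfl
  | cons e L ih => rw [List.flatMap_cons, entry_append, ih, List.map_cons, List.sum_cons]

theorem entry_eq_zero (A : Coo) (i j : ℕ) (h : ∀ p ∈ A, ¬ (p.1 = i ∧ p.2.1 = j)) : entry A i j = 0 := by
  induction A with
  | nil => rfl
  | cons p A ih =>
    rw [entry_cons, ih (fun q hq => h q (List.mem_cons_of_mem _ hq)), if_neg (h p List.mem_cons_self)]
    rfl

/-- Product: join on the inner index, which must be below `N`. -/
def cmul (N : ℕ) (A B : Coo) : Coo :=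
  A.flatMap fun a => B.flatMap fun b =>
    if a.2.1 = b.1 ∧ a.2.1 < N then [(a.1, b.2.1, a.2.2 * b.2.2)] else []

theorem entry_cmul_single (N : ℕ) (a : ℕ × ℕ × ℤ) (B : Coo) (i j : ℕ) :
    entry (B.flatMap fun b => if a.2.1 = b.1 ∧ a.2.1 < N then [(a.1, b.2.1, a.2.2 * b.2.2)] else []) i j =
      ∑ k ∈ Finset.range N, (if a.1 = i ∧ a.2.1 = k then a.2.2 else 0) * entry B k j := by
  rw [entry_flatMap]
  induction B with
  | nil => simp
  | cons b B ihB =>
    rw [List.map_cons, List.sum_cons, ihB]
    simp only [entry_cons, mul_add, Finset.sum_add_distrib]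
    congr 1
    by_cases h : a.2.1 = b.1 ∧ a.2.1 < N
    · rw [if_pos h, entry_cons, entry_nil, add_zero]
      rw [Finset.sum_eq_single a.2.1]
      · by_cases h1 : a.1 = i <;> by_cases h2 : b.2.1 = j <;> simp [h1, h2, h.1.symm]
      · intro k _ hk
        have : ¬ (a.1 = i ∧ a.2.1 = k) := fun hh => hk hh.2.symm
        rw [if_neg this, zero_mul]
      · intro hN
        exact absurd (Finset.mem_range.mpr h.2) hN
    · rw [if_neg h, entry_nil]
      symm
      apply Finset.sum_eq_zero
      intro k hk
      rw [Finset.mem_range] at hk
      by_cases h1 : a.1 = i ∧ a.2.1 = k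
      · by_cases h2 : b.1 = k ∧ b.2.1 = j
        · exfalso; apply h; exact ⟨h1.2.trans h2.1.symm, h1.2 ▸ hk⟩
        · rw [if_neg h2, mul_zero]
      · rw [if_neg h1, zero_mul]

theorem entry_cmul (N : ℕ) (A B : Coo) (i j : ℕ) :
    entry (cmul N A B) i j = ∑ k ∈ Finset.range N, entry A i k * entry B k j := by
  unfold cmul
  rw [entry_flatMap]
  induction A with
  | nil => simp
  | cons a A ih =>
    rw [List.map_cons, List.sum_cons, ih]
    simp only [entry_cons, add_mul, Finset.sum_add_distrib]
    congr 1
    exact entry_cmul_single N a B i j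

/-- Equality check of sparse matrices (as functions position ↦ entry). -/
def cooEq (A B : Coo) : Bool := (A ++ B).all fun p => entry A p.1 p.2.1 == entry B p.1 p.2.1

theorem cooEq_sound (A B : Coo) (h : cooEq A B = true) (i j : ℕ) : entry A i j = entry B i j := by
  unfold cooEq at h
  rw [List.all_eq_true] at h
  by_cases hi : ∃ p ∈ A ++ B, p.1 = i ∧ p.2.1 = j
  · obtain ⟨p, hp, rfl, rfl⟩ := hi
    simpa using h p hp
  · simp only [not_exists, not_and] at hi
    rw [entry_eq_zero A i j (fun p hp hh => hi p (List.mem_append_left _ hp) hh.1 hh.2),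
      entry_eq_zero B i j (fun p hp hh => hi p (List.mem_append_right _ hp) hh.1 hh.2)]

/-- Scalar multiple. -/
def csmul (c : ℤ) (A : Coo) : Coo := A.map fun p => (p.1, p.2.1, c * p.2.2)

theorem entry_csmul (c : ℤ) (A : Coo) (i j : ℕ) : entry (csmul c A) i j = c * entry A i j := by
  induction A with
  | nil => simp [csmul]
  | cons p A ih =>
    have : csmul c (p :: A) = (p.1, p.2.1, c * p.2.2) :: csmul c A := rfl
    rw [this, entry_cons, entry_cons, ih, mul_add]
    congr 1
    split_ifs <;> simp

/-- The identity matrix of size `N`. -/
def cone (N : ℕ) : Coo := (List.range N).map fun c => (c, c, 1)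

theorem entry_cone (N : ℕ) (i j : ℕ) : entry (cone N) i j = if i = j ∧ i < N then 1 else 0 := by
  unfold cone
  induction N with
  | zero => simp
  | succ N ih =>
    rw [List.range_succ, List.map_append, entry_append, ih]
    simp only [List.map_cons, List.map_nil, entry_cons, entry_nil, add_zero]
    by_cases h1 : i = j
    · subst h1
      by_cases h2 : i < N
      · have : ¬ N = i := by omega
        have h3 : i < N + 1 := by omega
        simp [h2, this, h3]
      · by_cases h3 : N = i
        · subst h3; simp
        · have : ¬ i < N + 1 := by omega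
          simp [h2, h3, this]
    · have : ¬ (N = i ∧ N = j) := fun hh => h1 (hh.1.symm.trans hh.2)
      simp [h1, this]

/-! ### dense evaluation -/

variable (D : ChevalleyDatum)

/-- The dense integer matrix of a sparse matrix in coordinate form. -/
def toMatZc (A : Coo) : Matrix D.Idx D.Idx ℤ :=
  Matrix.of fun row col => entry A (code D row) (code D col)

theorem sum_code (f : ℕ → ℤ) : (∑ x : D.Idx, f (code D x)) = ∑ k ∈ Finset.range (dim D), f k := by
  have h1 : (∑ x : D.Idx, f (code D x)) = ∑ x : D.Idx, ∑ k ∈ Finset.range (dim D), if k = code D x then f k else 0 := by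
    apply Finset.sum_congr rfl
    intro x _
    rw [Finset.sum_ite_eq' (Finset.range (dim D)) (code D x) f, if_pos (Finset.mem_range.mpr (code_lt D x))]
  rw [h1, Finset.sum_comm]
  apply Finset.sum_congr rfl
  intro k hk
  rw [Finset.mem_range] at hk
  have := sum_code_eq D k (fun _ => f k)
  simp only [if_pos hk] at this
  exact this

theorem toMatZc_mul (A B : Coo) : toMatZc D (cmul (dim D) A B) = toMatZc D A * toMatZc D B := by
  ext row col
  simp only [toMatZc, Matrix.of_apply, Matrix.mul_apply, entry_cmul]
  exact (sum_code D (fun k => entry A (code D row) k * entry B k (code D col))).symm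

theorem toMatZc_eq_of_cooEq (A B : Coo) (h : cooEq A B = true) : toMatZc D A = toMatZc D B := by
  ext row col
  simp only [toMatZc, Matrix.of_apply]
  exact cooEq_sound A B h _ _

theorem toMatZc_csmul (c : ℤ) (A : Coo) : toMatZc D (csmul c A) = c • toMatZc D A := by
  ext row col
  simp [toMatZc, entry_csmul]

theorem toMatZc_append (A B : Coo) : toMatZc D (A ++ B) = toMatZc D A + toMatZc D B := by
  ext row col
  simp [toMatZc, entry_append]

theorem toMatZc_nil : toMatZc D [] = 0 := by
  ext row col
  simp [toMatZc]

theorem toMatZc_cone : toMatZc D (cone (dim D)) = 1 := by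
  ext row col
  simp only [toMatZc, Matrix.of_apply, entry_cone, Matrix.one_apply]
  by_cases h : row = col
  · subst h; simp [code_lt D row]
  · have : ¬ code D row = code D col := fun h' => h (code_injective D h')
    simp [h, this]

/-! ### the coefficient matrices in coordinate form -/

/-- The `k`-th coefficient matrix `E_{r,k}` (`k ≥ 1`) of `x_r(t)` in coordinate form, read off the tables in one pass. -/
def Ecoo (r k : ℕ) : Coo :=
  (if k = 1 then (List.range D.rank).map fun c => (D.rank + r, c, - ((D.cartanSR.getD c #[]).getD r 0)) else []) ++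
  ((if D.negIdx.getD r 0 = r then []
    else if k = 1 then
      (List.range D.rank).map fun i => (i, D.rank + D.negIdx.getD r 0, (D.coroot.getD r #[]).getD i 0)
    else if k = 2 then [(D.rank + r, D.rank + D.negIdx.getD r 0, -1)] else []) ++
  ((D.chain.getD r #[]).toList.flatMap fun e =>
    if e.1 = r ∨ e.1 = D.negIdx.getD r 0 then []
    else ((e.2.toList.zipIdx).filter (fun q => q.2 + 1 = k)).map fun q => (D.rank + q.1.1, D.rank + e.1, q.1.2)))

theorem entry_range_map_col (n a : ℕ) (f : ℕ → ℤ) (i j : ℕ) :
    entry ((List.range n).map fun c => (a, c, f c)) i j = if j < n ∧ a = i then f j else 0 := by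
  induction n with
  | zero => simp
  | succ n ih =>
    rw [List.range_succ, List.map_append, entry_append, ih]
    simp only [List.map_cons, List.map_nil, entry_cons, entry_nil, add_zero]
    by_cases ha : a = i
    · by_cases h1 : j < n
      · have h2 : ¬ n = j := by omega
        have h3 : j < n + 1 := by omega
        simp [ha, h1, h2, h3]
      · by_cases h2 : n = j
        · subst h2; simp [ha]
        · have h3 : ¬ j < n + 1 := by omega
          simp [ha, h1, h2, h3]
    · simp [ha]

theorem entry_range_map_row (n b : ℕ) (g : ℕ → ℤ) (i j : ℕ) :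
    entry ((List.range n).map fun c => (c, b, g c)) i j = if i < n ∧ b = j then g i else 0 := by
  induction n with
  | zero => simp
  | succ n ih =>
    rw [List.range_succ, List.map_append, entry_append, ih]
    simp only [List.map_cons, List.map_nil, entry_cons, entry_nil, add_zero]
    by_cases hb : b = j
    · by_cases h1 : i < n
      · have h2 : ¬ n = i := by omega
        have h3 : i < n + 1 := by omega
        simp [hb, h1, h2, h3]
      · by_cases h2 : n = i
        · subst h2; simp [hb]
        · have h3 : ¬ i < n + 1 := by omega
          simp [hb, h1, h2, h3]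
    · simp [hb]

theorem entry_singleton (a b : ℕ) (c : ℤ) (i j : ℕ) :
    entry [(a, b, c)] i j = if a = i ∧ b = j then c else 0 := by
  simp [entry_cons]

/-- the chain part of `Ecoo` -/
def chainCoo (r k : ℕ) : Coo :=
  (D.chain.getD r #[]).toList.flatMap fun e =>
    if e.1 = r ∨ e.1 = D.negIdx.getD r 0 then []
    else ((e.2.toList.zipIdx).filter (fun q => q.2 + 1 = k)).map fun q => (D.rank + q.1.1, D.rank + e.1, q.1.2)

theorem entry_chainCoo_lt (r k i j : ℕ) (hj : j < D.rank) : entry (chainCoo D r k) i j = 0 := by
  apply entry_eq_zero
  intro p hp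
  unfold chainCoo at hp
  rw [List.mem_flatMap] at hp
  obtain ⟨e, _, hp⟩ := hp
  split_ifs at hp
  · simp at hp
  · rw [List.mem_map] at hp
    obtain ⟨q, _, rfl⟩ := hp
    simp only
    omega

theorem entry_chainCoo_special (r k i s : ℕ) (hs : s = r ∨ s = D.negIdx.getD r 0) :
    entry (chainCoo D r k) i (D.rank + s) = 0 := by
  apply entry_eq_zero
  intro p hp
  unfold chainCoo at hp
  rw [List.mem_flatMap] at hp
  obtain ⟨e, _, hp⟩ := hp
  split_ifs at hp with he
  · simp at hp
  · rw [List.mem_map] at hp
    obtain ⟨q, _, rfl⟩ := hp
    simp only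
    intro hh
    apply he
    have : e.1 = s := by omega
    rw [this]; exact hs

theorem entry_chainCoo (r k i s : ℕ) (hs1 : s ≠ r) (hs2 : s ≠ D.negIdx.getD r 0) :
    entry (chainCoo D r k) i (D.rank + s) = coeffAt (chainCol D r s k) i := by
  unfold chainCoo chainCol
  rw [entry_flatMap, coeffAt_flatMap]
  generalize (D.chain.getD r #[]).toList = L
  induction L with
  | nil => rfl
  | cons e L ih =>
    rw [List.map_cons, List.sum_cons, ih]
    by_cases hes : e.1 = s
    · have hdec : List.filter (fun e : ℕ × Array (ℕ × ℤ) => decide (e.1 = s)) (e :: L) =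
          e :: List.filter (fun e : ℕ × Array (ℕ × ℤ) => decide (e.1 = s)) L := by
        simp [List.filter_cons, hes]
      rw [hdec, List.map_cons, List.sum_cons]
      congr 1
      have hg : ¬ (e.1 = r ∨ e.1 = D.negIdx.getD r 0) := by
        rw [hes]; exact fun h => h.elim hs1 hs2
      rw [if_neg hg]
      unfold entry coeffAt
      rw [List.map_map, List.map_map]
      congr 1
      apply List.map_congr_left
      intro q _
      simp only [Function.comp, hes]
      by_cases hq : D.rank + q.1.1 = i <;> simp [hq]
    · have hdec : List.filter (fun e : ℕ × Array (ℕ × ℤ) => decide (e.1 = s)) (e :: L) =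
          List.filter (fun e : ℕ × Array (ℕ × ℤ) => decide (e.1 = s)) L := by
        simp [List.filter_cons, hes]
      rw [hdec]
      have : entry (if e.1 = r ∨ e.1 = D.negIdx.getD r 0 then []
          else ((e.2.toList.zipIdx).filter (fun q => q.2 + 1 = k)).map fun q => (D.rank + q.1.1, D.rank + e.1, q.1.2))
          i (D.rank + s) = 0 := by
        apply entry_eq_zero
        intro p hp
        split_ifs at hp
        · simp at hp
        · rw [List.mem_map] at hp
          obtain ⟨q, _, rfl⟩ := hp
          simp only
          intro hh
          apply hes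
          omega
      rw [this, zero_add]

theorem Ecoo_eq (r k : ℕ) : Ecoo D r k =
    (if k = 1 then (List.range D.rank).map fun c => (D.rank + r, c, - ((D.cartanSR.getD c #[]).getD r 0)) else []) ++
    ((if D.negIdx.getD r 0 = r then []
      else if k = 1 then
        (List.range D.rank).map fun i => (i, D.rank + D.negIdx.getD r 0, (D.coroot.getD r #[]).getD i 0)
      else if k = 2 then [(D.rank + r, D.rank + D.negIdx.getD r 0, -1)] else []) ++ chainCoo D r k) := rfl

/-- The coordinate form agrees with the column form. -/
theorem entry_Ecoo (r k i j : ℕ) : entry (Ecoo D r k) i j = coeffAt (Ecol D r k j) i := by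
  rw [Ecoo_eq, entry_append, entry_append]
  unfold Ecol
  by_cases hj : j < D.rank
  · rw [if_pos hj, entry_chainCoo_lt D r k i j hj, add_zero]
    have h2 : entry (if D.negIdx.getD r 0 = r then []
        else if k = 1 then
          (List.range D.rank).map fun i => (i, D.rank + D.negIdx.getD r 0, (D.coroot.getD r #[]).getD i 0)
        else if k = 2 then [(D.rank + r, D.rank + D.negIdx.getD r 0, -1)] else []) i j = 0 := by
      apply entry_eq_zero
      intro p hp
      split_ifs at hp
      · simp at hp
      · rw [List.mem_map] at hp
        obtain ⟨c, _, rfl⟩ := hp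
        simp only; omega
      · simp only [List.mem_cons, List.not_mem_nil, or_false] at hp
        subst hp
        simp only; omega
      · simp at hp
    rw [h2, add_zero]
    by_cases hk : k = 1
    · rw [if_pos hk, if_pos hk, entry_range_map_col, coeffAt_singleton]
      simp [hj]
    · rw [if_neg hk, if_neg hk]; rfl
  · rw [if_neg hj]
    have hjs : j = D.rank + (j - D.rank) := by omega
    have h1 : entry (if k = 1 then (List.range D.rank).map fun c =>
        (D.rank + r, c, - ((D.cartanSR.getD c #[]).getD r 0)) else []) i j = 0 := by
      apply entry_eq_zero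
      intro p hp
      split_ifs at hp
      · rw [List.mem_map] at hp
        obtain ⟨c, hc, rfl⟩ := hp
        rw [List.mem_range] at hc
        simp only; omega
      · simp at hp
    rw [h1, zero_add]
    generalize j - D.rank = s at hjs
    subst hjs
    by_cases hsr : s = r
    · rw [if_pos hsr, entry_chainCoo_special D r k i s (Or.inl hsr), add_zero]
      apply entry_eq_zero
      intro p hp
      split_ifs at hp with hn
      · simp at hp
      · rw [List.mem_map] at hp
        obtain ⟨c, _, rfl⟩ := hp
        simp only; omega
      · simp only [List.mem_cons, List.not_mem_nil, or_false] at hp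
        subst hp
        simp only; omega
      · simp at hp
    · rw [if_neg hsr]
      by_cases hsn : s = D.negIdx.getD r 0
      · rw [if_pos hsn, entry_chainCoo_special D r k i s (Or.inr hsn), add_zero]
        have hn : ¬ D.negIdx.getD r 0 = r := by rw [← hsn]; exact hsr
        rw [if_neg hn]
        by_cases hk : k = 1
        · rw [if_pos hk, if_pos hk, entry_range_map_row, coeffAt_range_map]
          simp [hsn]
        · rw [if_neg hk, if_neg hk]
          by_cases hk2 : k = 2
          · rw [if_pos hk2, if_pos hk2, entry_singleton, coeffAt_singleton]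
            simp [hsn]
          · rw [if_neg hk2, if_neg hk2]; rfl
      · rw [if_neg hsn, entry_chainCoo D r k i s hsr hsn]
        have h2 : entry (if D.negIdx.getD r 0 = r then []
            else if k = 1 then
              (List.range D.rank).map fun i => (i, D.rank + D.negIdx.getD r 0, (D.coroot.getD r #[]).getD i 0)
            else if k = 2 then [(D.rank + r, D.rank + D.negIdx.getD r 0, -1)] else []) i (D.rank + s) = 0 := by
          apply entry_eq_zero
          intro p hp
          split_ifs at hp
          · simp at hp
          · rw [List.mem_map] at hp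
            obtain ⟨c, _, rfl⟩ := hp
            simp only; omega
          · simp only [List.mem_cons, List.not_mem_nil, or_false] at hp
            subst hp
            simp only; omega
          · simp at hp
        rw [h2, zero_add]

theorem toMatZc_Ecoo (r k : ℕ) : toMatZc D (Ecoo D r k) = toMatZ D (Ecol D r k) := by
  ext row col
  simp only [toMatZc, toMatZ, Matrix.of_apply, entry_Ecoo]

end Cfsg.Agent.Lib.Helper36_ChevCoo
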