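import Cfsg.Agent.Lib.Helper36_WeylLit

set_option autoImplicit false
set_option Elab.async false

/-! Type B2: the reflections, the negation and the positivity of the roots as literal tables. Generated file. -/

namespace Cfsg.Agent.Lib.Helper36_ChevDataB2Lit

open Cfsg.Agent.Lib.Helper36_WeylLit

/-- The tables. -/
def lit : RootLit where
  n := 8
  rank := 2
  refl := [289921455100330243, 505817143170892288]
  neg := 283686952306183
  pos := 72340172821233664

theorem wf : lit.WF := by decide +kernel

end Cfsg.Agent.Lib.Helper36_ChevDataB2Lit
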