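import Cfsg.Agent.Lib.Helper36_ChevDataB2Lit

set_option autoImplicit false
set_option Elab.async false
set_option maxRecDepth 100000

/-! Type B2, step 0 of the chain of parabolic subgroups: nodes [0, 1] to nodes [1], with the minimal coset
representatives. Generated file. -/

namespace Cfsg.Agent.Lib.Helper36_ChevDataB2Wc0

open Cfsg.Agent.Lib.Helper36_WeylLit Cfsg.Agent.Lib.Helper36_WeylLit.RootLit Cfsg.Agent.Lib.Helper36_ChevDataB2Lit

/-- The step. -/
def step : Step where
  J := [0, 1]
  J' := [1]
  V := [
    ⟨0, 0, [], 506097522914230528⟩,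
    ⟨0, 0, [0], 289921455100330243⟩,
    ⟨1, 1, [1, 0], 217581286574129668⟩,
    ⟨2, 0, [0, 1, 0], 564066695644423⟩]
  cert := [
    [(1, none), (0, some 1)],
    [(0, none), (2, none)],
    [(3, none), (1, none)],
    [(2, none), (3, some 1)]]
  T := [5, 6]
  R := [4]
  lens := [0, 1, 2, 3]

theorem stepOK : lit.StepOK step where
  hJ := by decide +kernel
  hJ' := by decide +kernel
  hne := by decide +kernel
  entries := by decide +kernel
  certs := by decide +kernel
  hT := by decide +kernel
  hTnd := by decide +kernel
  hTstab := by decide +kernel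
  hTnodup := by decide +kernel
  hR := by decide +kernel
  hRstab := by decide +kernel
  hRpos := by decide +kernel
  hlens := by decide +kernel

end Cfsg.Agent.Lib.Helper36_ChevDataB2Wc0
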