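import Cfsg.Agent.Lib.Helper36_ChevDataB2Lit

set_option autoImplicit false
set_option Elab.async false
set_option maxRecDepth 100000

/-! Type B2, step 1 of the chain of parabolic subgroups: nodes [1] to nodes [], with the minimal coset
representatives. Generated file. -/

namespace Cfsg.Agent.Lib.Helper36_ChevDataB2Wc1

open Cfsg.Agent.Lib.Helper36_WeylLit Cfsg.Agent.Lib.Helper36_WeylLit.RootLit Cfsg.Agent.Lib.Helper36_ChevDataB2Lit

/-- The step. -/
def step : Step where
  J := [1]
  J' := []
  V := [
    ⟨0, 0, [], 506097522914230528⟩,
    ⟨0, 1, [1], 505817143170892288⟩]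
  cert := [
    [(1, none)],
    [(0, none)]]
  T := [4]
  R := []
  lens := [0, 1]

theorem stepOK : lit.StepOK step where
  hJ := by decide +kernel
  hJ' := by decide +kernel
  hne := by decide +kernel
  entries := by decide +kernel
  certs := by decide +kernel
  hT := by decide +kernel
  hTnd := by decide +kernel
  hTstab := by decide +kernel
  hTnodup := by decide +kernel
  hR := by decide +kernel
  hRstab := by decide +kernel
  hRpos := by decide +kernel
  hlens := by decide +kernel

end Cfsg.Agent.Lib.Helper36_ChevDataB2Wc1
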