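import Cfsg.Agent.Lib.Helper36_ChevGraph
import Cfsg.Agent.Lib.Helper36_ChevDataD4

set_option autoImplicit false
set_option Elab.async false

/-! Graph automorphisms of the Chevalley group of type D4 on all root elements: table checks and the result. Generated file. -/

namespace Cfsg.Agent.Lib.Helper36_ChevDataD4Graph

open Cfsg Cfsg.Lie Cfsg.Agent.Lib.Helper36_ChevSparse Cfsg.Agent.Lib.Helper36_ChevCoeff
  Cfsg.Agent.Lib.Helper36_ChevCoo Cfsg.Agent.Lib.Helper36_ChevAdd Cfsg.Agent.Lib.Helper36_ChevIdx
  Cfsg.Agent.Lib.Helper36_ChevWeyl Cfsg.Agent.Lib.Helper36_ChevGen Cfsg.Agent.Lib.Helper36_ChevGraph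
  Cfsg.Agent.Lib.Helper36_ChevDataD4

theorem conj0 : ConjRange chevD4 12 nLits 0 0 24 := by decide +kernel

theorem conj1 : ConjRange chevD4 12 nLits 1 0 24 := by decide +kernel

theorem conj2 : ConjRange chevD4 12 nLits 2 0 24 := by decide +kernel

theorem conj3 : ConjRange chevD4 12 nLits 3 0 24 := by decide +kernel

theorem allConjOK : AllConjOK chevD4 12 nLits := by
  intro i hi
  have h : chevD4.rank = 4 := rfl
  rw [h] at hi
  interval_cases i
  · exact conj0
  · exact conj1
  · exact conj2
  · exact conj3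

theorem permOK : ∀ π : Equiv.Perm (Fin chevD4.rank), chevD4.IsDiagramSymmetry π → PermOK chevD4 π := by
  decide +kernel

/-- Type D4: an automorphism permuting the fundamental root elements as the symmetry `π` of the diagram does sends
every root element `x_r(t)` to `x_{π r}(± t)`. -/
theorem graph_signs (F : Type*) [Field F] (π : Equiv.Perm (Fin chevD4.rank)) (hπ : chevD4.IsDiagramSymmetry π)
    (φ : ↥(chevD4.group F) ≃* ↥(chevD4.group F)) (hφ : PermutesFund chevD4 F π φ) (r : ℕ) (hr : r < chevD4.nroots) :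
    GoodPhi chevD4 F π φ r :=
  goodPhi_all chevD4 lenOK addOK simpleOK nLits nLitOK F 12 π φ allConjOK (permOK π hπ) hφ tree reachOK r hr

end Cfsg.Agent.Lib.Helper36_ChevDataD4Graph
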