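import Cfsg.Agent.Lib.Helper36_WeylLit

set_option autoImplicit false
set_option Elab.async false

/-! Type D4: the reflections, the negation and the positivity of the roots as literal tables. Generated file. -/

namespace Cfsg.Agent.Lib.Helper36_ChevDataD4Lit

open Cfsg.Agent.Lib.Helper36_WeylLit

/-- The tables. -/
def lit : RootLit where
  n := 24
  rank := 4
  refl := [565592643864087472290204273757603651193062799363369534976, 541649279090809664310305499994679834166397163664360734721, 565881119482020990812274433957960368099339668429056770816, 565978018496368764364970633948976412520310965285293195776]
  neg := 96533667595335344311200144916688449305687896108635671
  pos := 24616085236810512799356036953444855896423886693609766912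

theorem wf : lit.WF := by decide +kernel

end Cfsg.Agent.Lib.Helper36_ChevDataD4Lit
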