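import Cfsg.Agent.Lib.Helper36_ChevOrder
import Cfsg.Agent.Lib.Helper36_ChevDataD4Lit
import Cfsg.Agent.Lib.Helper36_ChevDataD4W0

set_option autoImplicit false
set_option Elab.async false

/-! Type D4: the literal root tables agree with the datum. Generated file. -/

namespace Cfsg.Agent.Lib.Helper36_ChevDataD4LitOK

open Cfsg Cfsg.Lie Cfsg.Agent.Lib.Helper36_ChevW0 Cfsg.Agent.Lib.Helper36_WeylLit
  Cfsg.Agent.Lib.Helper36_WeylLit.RootLit Cfsg.Agent.Lib.Helper36_ChevOrder Cfsg.Agent.Lib.Helper36_ChevDataD4Lit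

theorem reflEq : ∀ i < chevD4.rank, ∀ s < chevD4.nroots, lit.r i s = tblRefl Cfsg.Agent.Lib.Helper36_ChevDataD4W0.reflTbl i s := by
  decide +kernel

theorem litOK : LitOK chevD4 lit where
  hn := by decide +kernel
  hrank := by decide +kernel
  hr := by
    intro i hi s hs
    rw [← Cfsg.Agent.Lib.Helper36_ChevDataD4W0.w0OK.tblOK i hi s hs (Nat.zero_le _)]
    exact reflEq i hi s hs
  hpos := by decide +kernel
  hneg := by decide +kernel

theorem noZero : NoZero chevD4 := by decide +kernel

end Cfsg.Agent.Lib.Helper36_ChevDataD4LitOK
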