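import Cfsg.Agent.Lib.Helper36_ChevDataD4Lit

set_option autoImplicit false
set_option Elab.async false
set_option maxRecDepth 100000

/-! Type D4, step 0 of the chain of parabolic subgroups: nodes [0, 1, 2, 3] to nodes [1, 2, 3], with the minimal coset
representatives. Generated file. -/

namespace Cfsg.Agent.Lib.Helper36_ChevDataD4Wc0

open Cfsg.Agent.Lib.Helper36_WeylLit Cfsg.Agent.Lib.Helper36_WeylLit.RootLit Cfsg.Agent.Lib.Helper36_ChevDataD4Lit

/-- The step. -/
def step : Step where
  J := [0, 1, 2, 3]
  J' := [1, 2, 3]
  V := [
    ⟨0, 0, [], 566073426779046459040877649791461066728553822781039575296⟩,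
    ⟨0, 0, [0], 565592643864087472290204273757603651193062799363369534976⟩,
    ⟨1, 1, [1, 0], 541071588363903700943283858585254758103210847676006008321⟩,
    ⟨2, 2, [2, 1, 0], 491839046668866967525129721356063660621451894724370434051⟩,
    ⟨2, 3, [3, 1, 0], 516455877271512432647930780239236669359234506711202662146⟩,
    ⟨3, 3, [3, 2, 1, 0], 467223335576475699229776643010045571877475553759567087876⟩,
    ⟨5, 1, [1, 3, 2, 1, 0], 442223375248316117244176840918139260137695490883323956741⟩,
    ⟨6, 0, [0, 1, 3, 2, 1, 0], 122983519833541283103520991599571938277842329370686198546⟩]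
  cert := [
    [(1, none), (0, some 1), (0, some 2), (0, some 3)],
    [(0, none), (2, none), (1, some 2), (1, some 3)],
    [(2, some 1), (1, none), (3, none), (4, none)],
    [(3, some 1), (3, some 2), (2, none), (5, none)],
    [(4, some 1), (4, some 3), (5, none), (2, none)],
    [(5, some 1), (6, none), (4, none), (3, none)],
    [(7, none), (5, none), (6, some 3), (6, some 2)],
    [(6, none), (7, some 1), (7, some 3), (7, some 2)]]
  T := [18, 19, 20, 21, 22, 23]
  R := [12, 13, 14, 15, 16, 17]
  lens := [0, 1, 2, 3, 3, 4, 5, 6]

theorem stepOK : lit.StepOK step where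
  hJ := by decide +kernel
  hJ' := by decide +kernel
  hne := by decide +kernel
  entries := by decide +kernel
  certs := by decide +kernel
  hT := by decide +kernel
  hTnd := by decide +kernel
  hTstab := by decide +kernel
  hTnodup := by decide +kernel
  hR := by decide +kernel
  hRstab := by decide +kernel
  hRpos := by decide +kernel
  hlens := by decide +kernel

end Cfsg.Agent.Lib.Helper36_ChevDataD4Wc0
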