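import Cfsg.Agent.Lib.Helper36_ChevDataD4Lit

set_option autoImplicit false
set_option Elab.async false
set_option maxRecDepth 100000

/-! Type D4, step 1 of the chain of parabolic subgroups: nodes [1, 2, 3] to nodes [1, 3], with the minimal coset
representatives. Generated file. -/

namespace Cfsg.Agent.Lib.Helper36_ChevDataD4Wc1

open Cfsg.Agent.Lib.Helper36_WeylLit Cfsg.Agent.Lib.Helper36_WeylLit.RootLit Cfsg.Agent.Lib.Helper36_ChevDataD4Lit

/-- The step. -/
def step : Step where
  J := [1, 2, 3]
  J' := [1, 3]
  V := [
    ⟨0, 0, [], 566073426779046459040877649791461066728553822781039575296⟩,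
    ⟨0, 2, [2], 565881119482020990812274433957960368099339668429056770816⟩,
    ⟨1, 1, [1, 2], 541360818145271287405210002820587615059322471851766383361⟩,
    ⟨2, 3, [3, 1, 2], 516745108525844151679953876806063355221564466780040397826⟩]
  cert := [
    [(0, some 1), (1, none), (0, some 3)],
    [(2, none), (0, none), (1, some 3)],
    [(1, none), (2, some 1), (3, none)],
    [(3, some 3), (3, some 1), (2, none)]]
  T := [13, 16, 17]
  R := [12, 14, 15]
  lens := [0, 1, 2, 3]

theorem stepOK : lit.StepOK step where
  hJ := by decide +kernel
  hJ' := by decide +kernel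
  hne := by decide +kernel
  entries := by decide +kernel
  certs := by decide +kernel
  hT := by decide +kernel
  hTnd := by decide +kernel
  hTstab := by decide +kernel
  hTnodup := by decide +kernel
  hR := by decide +kernel
  hRstab := by decide +kernel
  hRpos := by decide +kernel
  hlens := by decide +kernel

end Cfsg.Agent.Lib.Helper36_ChevDataD4Wc1
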