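import Cfsg.Agent.Lib.Helper36_ChevDataD4Lit

set_option autoImplicit false
set_option Elab.async false
set_option maxRecDepth 100000

/-! Type D4, step 3 of the chain of parabolic subgroups: nodes [3] to nodes [], with the minimal coset
representatives. Generated file. -/

namespace Cfsg.Agent.Lib.Helper36_ChevDataD4Wc3

open Cfsg.Agent.Lib.Helper36_WeylLit Cfsg.Agent.Lib.Helper36_WeylLit.RootLit Cfsg.Agent.Lib.Helper36_ChevDataD4Lit

/-- The step. -/
def step : Step where
  J := [3]
  J' := []
  V := [
    ⟨0, 0, [], 566073426779046459040877649791461066728553822781039575296⟩,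
    ⟨0, 3, [3], 565978018496368764364970633948976412520310965285293195776⟩]
  cert := [
    [(1, none)],
    [(0, none)]]
  T := [12]
  R := []
  lens := [0, 1]

theorem stepOK : lit.StepOK step where
  hJ := by decide +kernel
  hJ' := by decide +kernel
  hne := by decide +kernel
  entries := by decide +kernel
  certs := by decide +kernel
  hT := by decide +kernel
  hTnd := by decide +kernel
  hTstab := by decide +kernel
  hTnodup := by decide +kernel
  hR := by decide +kernel
  hRstab := by decide +kernel
  hRpos := by decide +kernel
  hlens := by decide +kernel

end Cfsg.Agent.Lib.Helper36_ChevDataD4Wc3
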