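import Cfsg.Agent.Lib.Helper36_ChevGraph
import Cfsg.Agent.Lib.Helper36_ChevDataE6

set_option autoImplicit false
set_option Elab.async false

/-! Type E6: the relation `n_i x_s(t) = x_{w_i s}(± t) n_i` for i = 0, 1 and all roots s. Generated file. -/

namespace Cfsg.Agent.Lib.Helper36_ChevDataE6C0

open Cfsg Cfsg.Lie Cfsg.Agent.Lib.Helper36_ChevSparse Cfsg.Agent.Lib.Helper36_ChevCoeff
  Cfsg.Agent.Lib.Helper36_ChevCoo Cfsg.Agent.Lib.Helper36_ChevAdd Cfsg.Agent.Lib.Helper36_ChevIdx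
  Cfsg.Agent.Lib.Helper36_ChevWeyl Cfsg.Agent.Lib.Helper36_ChevGen Cfsg.Agent.Lib.Helper36_ChevGraph
  Cfsg.Agent.Lib.Helper36_ChevDataE6

theorem conj0_0_24 : ConjRange chevE6 12 nLits 0 0 24 := by decide +kernel

theorem conj0_24_48 : ConjRange chevE6 12 nLits 0 24 48 := by decide +kernel

theorem conj0_48_72 : ConjRange chevE6 12 nLits 0 48 72 := by decide +kernel

theorem conj0 : ConjRange chevE6 12 nLits 0 0 72 :=
  conjRange_trans chevE6 12 nLits 0 (conjRange_trans chevE6 12 nLits 0 conj0_0_24 conj0_24_48) conj0_48_72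

theorem conj1_0_24 : ConjRange chevE6 12 nLits 1 0 24 := by decide +kernel

theorem conj1_24_48 : ConjRange chevE6 12 nLits 1 24 48 := by decide +kernel

theorem conj1_48_72 : ConjRange chevE6 12 nLits 1 48 72 := by decide +kernel

theorem conj1 : ConjRange chevE6 12 nLits 1 0 72 :=
  conjRange_trans chevE6 12 nLits 1 (conjRange_trans chevE6 12 nLits 1 conj1_0_24 conj1_24_48) conj1_48_72

end Cfsg.Agent.Lib.Helper36_ChevDataE6C0
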