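import Cfsg.Agent.Lib.Helper36_ChevGraph
import Cfsg.Agent.Lib.Helper36_ChevDataE6

set_option autoImplicit false
set_option Elab.async false

/-! Type E6: the relation `n_i x_s(t) = x_{w_i s}(± t) n_i` for i = 4, 5 and all roots s. Generated file. -/

namespace Cfsg.Agent.Lib.Helper36_ChevDataE6C2

open Cfsg Cfsg.Lie Cfsg.Agent.Lib.Helper36_ChevSparse Cfsg.Agent.Lib.Helper36_ChevCoeff
  Cfsg.Agent.Lib.Helper36_ChevCoo Cfsg.Agent.Lib.Helper36_ChevAdd Cfsg.Agent.Lib.Helper36_ChevIdx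
  Cfsg.Agent.Lib.Helper36_ChevWeyl Cfsg.Agent.Lib.Helper36_ChevGen Cfsg.Agent.Lib.Helper36_ChevGraph
  Cfsg.Agent.Lib.Helper36_ChevDataE6

theorem conj4_0_24 : ConjRange chevE6 12 nLits 4 0 24 := by decide +kernel

theorem conj4_24_48 : ConjRange chevE6 12 nLits 4 24 48 := by decide +kernel

theorem conj4_48_72 : ConjRange chevE6 12 nLits 4 48 72 := by decide +kernel

theorem conj4 : ConjRange chevE6 12 nLits 4 0 72 :=
  conjRange_trans chevE6 12 nLits 4 (conjRange_trans chevE6 12 nLits 4 conj4_0_24 conj4_24_48) conj4_48_72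

theorem conj5_0_24 : ConjRange chevE6 12 nLits 5 0 24 := by decide +kernel

theorem conj5_24_48 : ConjRange chevE6 12 nLits 5 24 48 := by decide +kernel

theorem conj5_48_72 : ConjRange chevE6 12 nLits 5 48 72 := by decide +kernel

theorem conj5 : ConjRange chevE6 12 nLits 5 0 72 :=
  conjRange_trans chevE6 12 nLits 5 (conjRange_trans chevE6 12 nLits 5 conj5_0_24 conj5_24_48) conj5_48_72

end Cfsg.Agent.Lib.Helper36_ChevDataE6C2
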