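import Cfsg.Agent.Lib.Helper36_ChevGraph
import Cfsg.Prelude.Def_ChevE6

set_option autoImplicit false
set_option Elab.async false

/-! Type E6: the symmetries of the diagram and their compatibility with the tables. Generated file. -/

namespace Cfsg.Agent.Lib.Helper36_ChevDataE6Perm

open Cfsg Cfsg.Lie Cfsg.Agent.Lib.Helper36_ChevSparse Cfsg.Agent.Lib.Helper36_ChevCoeff
  Cfsg.Agent.Lib.Helper36_ChevCoo Cfsg.Agent.Lib.Helper36_ChevAdd Cfsg.Agent.Lib.Helper36_ChevIdx
  Cfsg.Agent.Lib.Helper36_ChevWeyl Cfsg.Agent.Lib.Helper36_ChevGen Cfsg.Agent.Lib.Helper36_ChevGraph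

/-- The non-trivial symmetry of the diagram of type E6. -/
def flip : Equiv.Perm (Fin chevE6.rank) :=
  Equiv.swap (⟨0, by decide⟩ : Fin chevE6.rank) ⟨5, by decide⟩ * Equiv.swap (⟨2, by decide⟩ : Fin chevE6.rank) ⟨4, by decide⟩

theorem classify : ∀ π : Equiv.Perm (Fin chevE6.rank), chevE6.IsDiagramSymmetry π → π = 1 ∨ π = flip := by
  decide +kernel

theorem permOK_one : PermOK chevE6 (1 : Equiv.Perm (Fin chevE6.rank)) := by decide +kernel

theorem permOK_flip : PermOK chevE6 flip := by decide +kernel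

theorem permOK (π : Equiv.Perm (Fin chevE6.rank)) (hπ : chevE6.IsDiagramSymmetry π) : PermOK chevE6 π := by
  rcases classify π hπ with rfl | rfl
  · exact permOK_one
  · exact permOK_flip

end Cfsg.Agent.Lib.Helper36_ChevDataE6Perm
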