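import Cfsg.Agent.Lib.Helper36_ChevDataE6C0
import Cfsg.Agent.Lib.Helper36_ChevDataE6C1
import Cfsg.Agent.Lib.Helper36_ChevDataE6C2
import Cfsg.Agent.Lib.Helper36_ChevDataE6Perm

set_option autoImplicit false


/-! Graph automorphisms of the Chevalley group of type E6 on all root elements. Generated file. -/

namespace Cfsg.Agent.Lib.Helper36_ChevDataE6Graph

open Cfsg Cfsg.Lie Cfsg.Agent.Lib.Helper36_ChevSparse Cfsg.Agent.Lib.Helper36_ChevCoeff
  Cfsg.Agent.Lib.Helper36_ChevCoo Cfsg.Agent.Lib.Helper36_ChevAdd Cfsg.Agent.Lib.Helper36_ChevIdx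
  Cfsg.Agent.Lib.Helper36_ChevWeyl Cfsg.Agent.Lib.Helper36_ChevGen Cfsg.Agent.Lib.Helper36_ChevGraph
  Cfsg.Agent.Lib.Helper36_ChevDataE6

theorem allConjOK : AllConjOK chevE6 12 nLits := by
  intro i hi
  have h : chevE6.rank = 6 := rfl
  rw [h] at hi
  interval_cases i
  · exact Helper36_ChevDataE6C0.conj0
  · exact Helper36_ChevDataE6C0.conj1
  · exact Helper36_ChevDataE6C1.conj2
  · exact Helper36_ChevDataE6C1.conj3
  · exact Helper36_ChevDataE6C2.conj4
  · exact Helper36_ChevDataE6C2.conj5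

/-- Type E6: an automorphism permuting the fundamental root elements as the symmetry `π` of the diagram does sends
every root element `x_r(t)` to `x_{π r}(± t)`. -/
theorem graph_signs (F : Type*) [Field F] (π : Equiv.Perm (Fin chevE6.rank)) (hπ : chevE6.IsDiagramSymmetry π)
    (φ : ↥(chevE6.group F) ≃* ↥(chevE6.group F)) (hφ : PermutesFund chevE6 F π φ) (r : ℕ) (hr : r < chevE6.nroots) :
    GoodPhi chevE6 F π φ r :=
  goodPhi_all chevE6 lenOK addOK simpleOK nLits nLitOK F 12 π φ allConjOK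
    (Helper36_ChevDataE6Perm.permOK π hπ) hφ tree reachOK r hr

end Cfsg.Agent.Lib.Helper36_ChevDataE6Graph
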