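import Cfsg.Agent.Lib.Helper36_ChevDataE6Lit

set_option autoImplicit false
set_option Elab.async false
set_option maxRecDepth 100000

/-! Type E6, step 1 of the chain of parabolic subgroups: nodes [1, 2, 3, 4, 5] to nodes [1, 2, 3, 4], with the minimal coset
representatives. Generated file. -/

namespace Cfsg.Agent.Lib.Helper36_ChevDataE6Wc1

open Cfsg.Agent.Lib.Helper36_WeylLit Cfsg.Agent.Lib.Helper36_WeylLit.RootLit Cfsg.Agent.Lib.Helper36_ChevDataE6Lit

/-- The step. -/
def step : Step where
  J := [1, 2, 3, 4, 5]
  J' := [1, 2, 3, 4]
  V := [
    ⟨0, 0, [], 68860739535087804454153596932559672870373209444495796229207190580635315083870094936584515568054503444700903398640464230674619186175923474129218848011759691072083798584852736⟩,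
    ⟨0, 5, [5], 68860739477726650154684651250440147524905899556371060941805998667168077050675229181777609482453672249988869994526207384147299178654162362870440666247900439482662894518272256⟩,
    ⟨1, 4, [4, 5], 68860724735909995204520841634226761575894190318403251737442972729014515811185719674202625265719871647035201886275281244262938744027543441754963733846900366831998408402862336⟩,
    ⟨2, 3, [3, 4, 5], 68856950773708355099897517101129046299153003267563348633885590126051517695470148163604281347443185831405901910757844111984294431607479433243560657667464569662933092255597056⟩,
    ⟨3, 1, [1, 3, 4, 5], 67890816393176339823795735848349162507268001516910868877451028211203571980423026342177511612341085221051969845133243982181669936746214835891213974218497735532091138145190401⟩,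
    ⟨3, 2, [2, 3, 4, 5], 68845584487553434928168369701691566759469515438457194336893429942260918316816332122295228349550119143985808323124040489204006739814590103236300237362285003990229010056873216⟩,
    ⟨4, 2, [2, 1, 3, 4, 5], 67879450107021419652066588448911682967581663383189928054812474297819193499024390832981867599517289828431353143201524424721481372487945774346544829431706889740276948663665921⟩,
    ⟨6, 3, [3, 2, 1, 3, 4, 5], 66913286127013468020650542369324479123021802011175668638476066772969703748778937695040541660547406090453901086788069664567720212774264698041818310360239186922692667765163266⟩,
    ⟨7, 4, [4, 3, 2, 1, 3, 4, 5], 65943377726248231890572923663655931654658573993218682890107597556606469676356152616784528540598667929814986940894556034118872427093166916322005126407123838549571833508136451⟩,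
    ⟨8, 5, [5, 4, 3, 2, 1, 3, 4, 5], 64973454641027495109800441023893523582756636143630959136869149221462774005398175387232674847586379912310406287882086653395120063520908711568765066063153414488699270056183556⟩]
  cert := [
    [(0, some 1), (0, some 2), (0, some 3), (0, some 4), (1, none)],
    [(1, some 1), (1, some 2), (1, some 3), (2, none), (0, none)],
    [(2, some 1), (2, some 2), (3, none), (1, none), (2, some 4)],
    [(4, none), (5, none), (2, none), (3, some 3), (3, some 4)],
    [(3, none), (6, none), (4, some 1), (4, some 3), (4, some 4)],
    [(6, none), (3, none), (5, some 2), (5, some 3), (5, some 4)],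
    [(5, none), (4, none), (7, none), (6, some 3), (6, some 4)],
    [(7, some 2), (7, some 1), (6, none), (8, none), (7, some 4)],
    [(8, some 2), (8, some 1), (8, some 3), (7, none), (9, none)],
    [(9, some 2), (9, some 1), (9, some 3), (9, some 4), (8, none)]]
  T := [36, 38, 41, 45, 49, 52, 54, 55]
  R := [37, 39, 40, 42, 43, 44, 46, 47, 48, 50, 51, 53]
  lens := [0, 1, 2, 3, 4, 4, 5, 6, 7, 8]

theorem stepOK : lit.StepOK step where
  hJ := by decide +kernel
  hJ' := by decide +kernel
  hne := by decide +kernel
  entries := by decide +kernel
  certs := by decide +kernel
  hT := by decide +kernel
  hTnd := by decide +kernel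
  hTstab := by decide +kernel
  hTnodup := by decide +kernel
  hR := by decide +kernel
  hRstab := by decide +kernel
  hRpos := by decide +kernel
  hlens := by decide +kernel

end Cfsg.Agent.Lib.Helper36_ChevDataE6Wc1
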