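import Cfsg.Agent.Lib.Helper36_ChevDataE6Lit

set_option autoImplicit false
set_option Elab.async false
set_option maxRecDepth 100000

/-! Type E6, step 2 of the chain of parabolic subgroups: nodes [1, 2, 3, 4] to nodes [2, 3, 4], with the minimal coset
representatives. Generated file. -/

namespace Cfsg.Agent.Lib.Helper36_ChevDataE6Wc2

open Cfsg.Agent.Lib.Helper36_WeylLit Cfsg.Agent.Lib.Helper36_WeylLit.RootLit Cfsg.Agent.Lib.Helper36_ChevDataE6Lit

/-- The step. -/
def step : Step where
  J := [1, 2, 3, 4]
  J' := [2, 3, 4]
  V := [
    ⟨0, 0, [], 68860739535087804454153596932559672870373209444495796229207190580635315083870094936584515568054503444700903398640464230674619186175923474129218848011759691072083798584852736⟩,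
    ⟨0, 1, [1], 67898379116758311409174261616388753868225998791303625563428882050626415270252589797741478371984307561973422256644613195820774439032392954730690482532434882508821640184463361⟩,
    ⟨1, 3, [3, 1], 66932259478044711890533054053833686902885781095349477362187133220192043064948140997423104460762749410410289992403434828488233522530186973930933149653915422876476988633186306⟩,
    ⟨2, 2, [2, 3, 1], 64033856162351277434672808942653189734878618509666449044368543092714410320216265190185166385109402365878426395895921010463175396598766649471294489543136349187207945298968581⟩,
    ⟨2, 4, [4, 3, 1], 65966125154875615167003620549298271043934935646421018876232776050804663233705114482439974988764462348651982245301809890647176210040804572472694995705223560590659078022299651⟩,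
    ⟨3, 4, [4, 2, 3, 1], 63067721839182180711143375438117773875927773060737990558414185923327030488973238675202036913111115304120118648794296072622118084109384248013056335594444486901390034688081926⟩,
    ⟨5, 3, [3, 4, 2, 3, 1], 61135438335182945064992928207616709659860702680906169483685200757760291298580281287683064456716262390906934250996238287473477698995130040067760830387015376771968576495157256⟩,
    ⟨6, 1, [1, 3, 4, 2, 3, 1], 58233261229820342655871392239888122728319935626114948672511631735051953655514436084425176755450760689456056394541316481191251606301301570812632021143090960871723493471944971⟩]
  cert := [
    [(1, none), (0, some 2), (0, some 3), (0, some 4)],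
    [(0, none), (1, some 2), (2, none), (1, some 4)],
    [(2, some 3), (3, none), (1, none), (4, none)],
    [(3, some 3), (2, none), (3, some 2), (5, none)],
    [(4, some 3), (5, none), (4, some 4), (2, none)],
    [(5, some 3), (4, none), (6, none), (3, none)],
    [(7, none), (6, some 4), (5, none), (6, some 2)],
    [(6, none), (7, some 4), (7, some 3), (7, some 2)]]
  T := [46, 47, 48, 50, 51, 53]
  R := [37, 39, 40, 42, 43, 44]
  lens := [0, 1, 2, 3, 3, 4, 5, 6]

theorem stepOK : lit.StepOK step where
  hJ := by decide +kernel
  hJ' := by decide +kernel
  hne := by decide +kernel
  entries := by decide +kernel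
  certs := by decide +kernel
  hT := by decide +kernel
  hTnd := by decide +kernel
  hTstab := by decide +kernel
  hTnodup := by decide +kernel
  hR := by decide +kernel
  hRstab := by decide +kernel
  hRpos := by decide +kernel
  hlens := by decide +kernel

end Cfsg.Agent.Lib.Helper36_ChevDataE6Wc2
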