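import Cfsg.Agent.Lib.Helper36_ChevDataE6Lit

set_option autoImplicit false
set_option Elab.async false
set_option maxRecDepth 100000

/-! Type E6, step 3 of the chain of parabolic subgroups: nodes [2, 3, 4] to nodes [3, 4], with the minimal coset
representatives. Generated file. -/

namespace Cfsg.Agent.Lib.Helper36_ChevDataE6Wc3

open Cfsg.Agent.Lib.Helper36_WeylLit Cfsg.Agent.Lib.Helper36_WeylLit.RootLit Cfsg.Agent.Lib.Helper36_ChevDataE6Lit

/-- The step. -/
def step : Step where
  J := [2, 3, 4]
  J' := [3, 4]
  V := [
    ⟨0, 0, [], 68860739535087804454153596932559672870373209444495796229207190580635315083870094936584515568054503444700903398640464230674619186175923474129218848011759691072083798584852736⟩,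
    ⟨0, 2, [2], 68860695135535158216797058934368584078938789528211777354868258615236502524939434476014300653026239562496047166733737140692285179851664431971808751874688785261135318011412736⟩,
    ⟨1, 3, [3, 2], 68856921057489130849890324732878889770018775990781486464836665669743972493495178981995368028195660638024191505326398926778349063617440026429602733656793312561820312875106816⟩,
    ⟨2, 4, [4, 3, 2], 68853132352798645092116221279771422902532154264480176760411242526499234434469268290997018570036030620990167522865301794158368538946919845419822096398481486820413881767559936⟩]
  cert := [
    [(1, none), (0, some 3), (0, some 4)],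
    [(0, none), (2, none), (1, some 4)],
    [(2, some 3), (1, none), (3, none)],
    [(3, some 3), (3, some 4), (2, none)]]
  T := [42, 43, 44]
  R := [37, 39, 40]
  lens := [0, 1, 2, 3]

theorem stepOK : lit.StepOK step where
  hJ := by decide +kernel
  hJ' := by decide +kernel
  hne := by decide +kernel
  entries := by decide +kernel
  certs := by decide +kernel
  hT := by decide +kernel
  hTnd := by decide +kernel
  hTstab := by decide +kernel
  hTnodup := by decide +kernel
  hR := by decide +kernel
  hRstab := by decide +kernel
  hRpos := by decide +kernel
  hlens := by decide +kernel

end Cfsg.Agent.Lib.Helper36_ChevDataE6Wc3
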