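import Cfsg.Agent.Lib.Helper36_ChevDataE6Lit

set_option autoImplicit false
set_option Elab.async false
set_option maxRecDepth 100000

/-! Type E6, step 4 of the chain of parabolic subgroups: nodes [3, 4] to nodes [4], with the minimal coset
representatives. Generated file. -/

namespace Cfsg.Agent.Lib.Helper36_ChevDataE6Wc4

open Cfsg.Agent.Lib.Helper36_WeylLit Cfsg.Agent.Lib.Helper36_WeylLit.RootLit Cfsg.Agent.Lib.Helper36_ChevDataE6Lit

/-- The step. -/
def step : Step where
  J := [3, 4]
  J' := [4]
  V := [
    ⟨0, 0, [], 68860739535087804454153596932559672870373209444495796229207190580635315083870094936584515568054503444700903398640464230674619186175923474129218848011759691072083798584852736⟩,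
    ⟨0, 3, [3], 68856980314703697980439144254334973515401028023823060939175680109056393390696631820261994746199928716884708600540244424635743493790229057459399689936210111163618278074548736⟩,
    ⟨1, 4, [4, 3], 68853206409864094301783886800624536368621796066536262252914948296810495803957805428781503176398872928352915302629126638923266893307774591594425130794137721043979546050757376⟩]
  cert := [
    [(1, none), (0, some 4)],
    [(0, none), (2, none)],
    [(2, some 4), (1, none)]]
  T := [39, 40]
  R := [37]
  lens := [0, 1, 2]

theorem stepOK : lit.StepOK step where
  hJ := by decide +kernel
  hJ' := by decide +kernel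
  hne := by decide +kernel
  entries := by decide +kernel
  certs := by decide +kernel
  hT := by decide +kernel
  hTnd := by decide +kernel
  hTstab := by decide +kernel
  hTnodup := by decide +kernel
  hR := by decide +kernel
  hRstab := by decide +kernel
  hRpos := by decide +kernel
  hlens := by decide +kernel

end Cfsg.Agent.Lib.Helper36_ChevDataE6Wc4
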