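import Cfsg.Agent.Lib.Helper36_ChevHAll
import Cfsg.Agent.Lib.Helper36_ChevDataE7EtaTbl

set_option autoImplicit false
set_option Elab.async false

/-! Type E7: conjugation data for `n_i` and the fundamental roots, i in [0, 1, 2, 3]. Generated file. -/

namespace Cfsg.Agent.Lib.Helper36_ChevDataE7HA0

open Cfsg Cfsg.Lie Cfsg.Agent.Lib.Helper36_ChevSparse Cfsg.Agent.Lib.Helper36_ChevCoeff
  Cfsg.Agent.Lib.Helper36_ChevCoo Cfsg.Agent.Lib.Helper36_ChevAdd Cfsg.Agent.Lib.Helper36_ChevIdx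
  Cfsg.Agent.Lib.Helper36_ChevWeyl Cfsg.Agent.Lib.Helper36_ChevGen Cfsg.Agent.Lib.Helper36_ChevConj Cfsg.Agent.Lib.Helper36_ChevH
  Cfsg.Agent.Lib.Helper36_ChevHAll
  Cfsg.Agent.Lib.Helper36_ChevDataE7Lits Cfsg.Agent.Lib.Helper36_ChevDataE7EtaTbl

theorem fund0 : FundRow chevE7 nLits 12 0 (etaTable.getD 0 []) := by decide +kernel

theorem fund1 : FundRow chevE7 nLits 12 1 (etaTable.getD 1 []) := by decide +kernel

theorem fund2 : FundRow chevE7 nLits 12 2 (etaTable.getD 2 []) := by decide +kernel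

theorem fund3 : FundRow chevE7 nLits 12 3 (etaTable.getD 3 []) := by decide +kernel

end Cfsg.Agent.Lib.Helper36_ChevDataE7HA0
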