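import Cfsg.Agent.Lib.Helper36_ChevHOrder
import Cfsg.Agent.Lib.Helper36_ChevDataE7T

set_option autoImplicit false


/-! Type E7: induction over the roots, and a diagonalisation of the Cartan matrix by unimodular integer matrices; the order of the diagonal subgroup. Generated file. -/

namespace Cfsg.Agent.Lib.Helper36_ChevDataE7HO

open Cfsg Cfsg.Lie Cfsg.Agent.Lib.Helper36_ChevSparse Cfsg.Agent.Lib.Helper36_ChevCoeff
  Cfsg.Agent.Lib.Helper36_ChevCoo Cfsg.Agent.Lib.Helper36_ChevAdd Cfsg.Agent.Lib.Helper36_ChevIdx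
  Cfsg.Agent.Lib.Helper36_ChevWeyl Cfsg.Agent.Lib.Helper36_ChevGen Cfsg.Agent.Lib.Helper36_ChevConj Cfsg.Agent.Lib.Helper36_ChevH
  Cfsg.Agent.Lib.Helper36_ChevHAll Cfsg.Agent.Lib.Helper36_ChevTorus Cfsg.Agent.Lib.Helper36_ChevHOrder

open Matrix

theorem rootInd : RootInd chevE7 :=
  rootInd_of_tree chevE7 Helper36_ChevDataE7.nLits 12 Helper36_ChevDataE7.simpleOK Helper36_ChevDataE7RC.reflCartanOK Helper36_ChevDataE7EtaTbl.etaTable Helper36_ChevDataE7HA.fundOK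
    Helper36_ChevDataE7.tree Helper36_ChevDataE7.pairsOK Helper36_ChevDataE7HA.treeSym Helper36_ChevDataE7.reachOK

def matP : Matrix (Fin chevE7.rank) (Fin chevE7.rank) ℤ := !![-1, 0, 0, 0, 0, 0, 0; 0, -1, 0, 0, 0, 0, 0; 1, -2, 0, -1, 0, 0, 0; 2, -3, 0, -2, -1, 0, 0; 3, -4, 0, -3, -2, -1, 0; -2, 1, -1, 0, 0, 0, 0; -4, -1, -4, -4, -3, -2, -1]

def matP' : Matrix (Fin chevE7.rank) (Fin chevE7.rank) ℤ := !![-1, 0, 0, 0, 0, 0, 0; 0, -1, 0, 0, 0, 0, 0; 2, -1, 0, 0, 0, -1, 0; -1, 2, -1, 0, 0, 0, 0; 0, -1, 2, -1, 0, 0, 0; 0, 0, -1, 2, -1, 0, 0; 0, 0, 0, -1, 2, 4, -1]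

def matQ : Matrix (Fin chevE7.rank) (Fin chevE7.rank) ℤ := !![0, 0, 0, 0, 0, 1, -2; 0, 0, 0, 0, 0, 2, -3; 1, 0, 0, 0, 0, 2, -4; 0, 1, 0, 0, 0, 4, -6; 0, 0, 1, 0, 0, 4, -5; 0, 0, 0, 1, 0, 4, -4; 0, 0, 0, 0, 1, 4, -3]

def matQ' : Matrix (Fin chevE7.rank) (Fin chevE7.rank) ℤ := !![-2, 0, 1, 0, 0, 0, 0; 0, -2, 0, 1, 0, 0, 0; 2, -3, 0, 0, 1, 0, 0; 4, -4, 0, 0, 0, 1, 0; 6, -5, 0, 0, 0, 0, 1; -3, 2, 0, 0, 0, 0, 0; -2, 1, 0, 0, 0, 0, 0]

def diagD : Fin chevE7.rank → ℕ := ![1, 1, 1, 1, 1, 1, 2]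

theorem snf1 : matP * cartanMat chevE7 * matQ = Matrix.diagonal (fun k => (diagD k : ℤ)) := by decide +kernel

theorem snf2 : matP * matP' = 1 := by decide +kernel

theorem snf3 : matP' * matP = 1 := by decide +kernel

theorem snf4 : matQ * matQ' = 1 := by decide +kernel

/-- Type E7: the order of the diagonal subgroup, times the order of the kernel of `u ↦ diag(chi u)`. -/
theorem card_diag (F : Type*) [Field F] [Fintype F] :
    (∏ k, (Fintype.card F - 1).gcd (diagD k)) * Nat.card (chevE7.diagonalSubgroup F) =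
      (Fintype.card F - 1) ^ chevE7.rank := by
  have h := card_ker_mul_card_diag chevE7 F (Helper36_ChevDataE7T.facts F) rootInd
  rw [card_ker_zact matP matP' matQ matQ' (cartanMat chevE7) diagD snf1 snf2 snf3 snf4] at h
  have hc : Nat.card Fˣ = Fintype.card F - 1 := by
    classical
    rw [Nat.card_eq_fintype_card, Fintype.card_units]
  rw [hc] at h
  exact h

end Cfsg.Agent.Lib.Helper36_ChevDataE7HO
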