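import Cfsg.Agent.Lib.Helper36_WeylLit

set_option autoImplicit false
set_option Elab.async false

/-! Type E7: the reflections, the negation and the positivity of the roots as literal tables. Generated file. -/

namespace Cfsg.Agent.Lib.Helper36_ChevDataE7Lit

open Cfsg.Agent.Lib.Helper36_WeylLit

/-- The tables. -/
def lit : RootLit where
  n := 126
  rank := 7
  refl := [1333922837158942011638783835004871262489243524474933806757983325204324354148955901128787715251435855896924984706939979518567157242719197682064722754383056752064764745714105188869695029532754693822593611899134007025978423511653352929402726346889239349767349520011297160997758072428838116713298751769411585, 1344596064861142540599490890337037530396506312014796134457654209860766914474355053533424106448304668641750238146235616625298608967855065371567541345205591130313893835021149335810105157533873267793712369235831381486269171621811991934200833355141336107082133768387345013012537819798176998924533019780972800, 1344554375120106414798065960470017614978713755228414151433370668601621092779175356141058506517844188051958962228323355573505999256791464453714183605373019334854214694897010135565448054736646733569358624734534287147711832887250382219472046131816456686545071408428738776743299531196152165404305104465625600, 1344595904565267213246157475033494803249157207063324738659324389841659715695283955303815316936280329696179597506512307998177941509827115356010016869474657504041538202575428963476748087995021914745714269311908081227369626699231579603641239181490320192525717933280632587761748264543583905599801831599571200, 1344596066789662372468730772808347860477161005122219541718508235419833626106302450745862748198090247695116521795627890666608206327119702733434927280617614040672948193304917070539624301444895806139576218160085363566180297830617521222446695171034178763232251478019132116438882014609021606895640681331687680,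 1344596067423351416207557940869874944091727118574762836469837882638712679846178606418228818601986310217411887451905765776107214182568852020646749836716948362818007050784749838543502259798351210584973756022172436114146241694089563918431059909805690131092344135313086916729119604848859188691072391118455040, 1344596067425826764034662734529601288506926453046107113143229300984890479501381833876110010911357495579068344096520604677306938752775870105507180309928942299606468867262391627195069014991692130646454801374407591002787052249416073179196764677152311158875352053765052537485552134445183160720605330624610560]
  neg := 42184729479382458156523923500093881353897675016780715648688981072327546188078992288851793152913208716749594197138578329449889918206417900063238013981127799304994222996616734060250597445535824872291522808630217571638554047896256585853846662825001585638296444418112338253303653008889993741335250304125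
  pos := 10757106017242526829913600492523939745243907129279082490415690173443524277960143033657207253992868222771146520270337474009721929142636564516125693565187383433558913772882678122480964146311888415874586594488424176211401720877300430204973517367523582900454165142516524838372245336464069320554789782683648

theorem wf : lit.WF := by decide +kernel

end Cfsg.Agent.Lib.Helper36_ChevDataE7Lit
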