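import Cfsg.Agent.Lib.Helper36_ChevDataE7Lit

set_option autoImplicit false
set_option Elab.async false
set_option maxRecDepth 100000

/-! Type E7, step 4 of the chain of parabolic subgroups: nodes [2, 3, 4] to nodes [3, 4], with the minimal coset
representatives. Generated file. -/

namespace Cfsg.Agent.Lib.Helper36_ChevDataE7Wc4

open Cfsg.Agent.Lib.Helper36_WeylLit Cfsg.Agent.Lib.Helper36_WeylLit.RootLit Cfsg.Agent.Lib.Helper36_ChevDataE7Lit

/-- The step. -/
def step : Step where
  J := [2, 3, 4]
  J' := [3, 4]
  V := [
    ⟨0, 0, [], 1344596067425836471281043537641992374274134493484868530586312582699368207198829800214862054955955614637676565439595045672885791252911364146615648457634467475047385863794161781436427542979008881979419998002279554878407271722645282417505508530884100540635060869382912669485800636005359660511319768193696000⟩,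
    ⟨0, 2, [2], 1344554375120106414798065960470017614978713755228414151433370668601621092779175356141058506517844188051958962228323355573505999256791464453714183605373019334854214694897010135565448054736646733569358624734534287147711832887250382219472046131816456686545071408428738776743299531196152165404305104465625600⟩,
    ⟨1, 3, [3, 2], 1344512519953807100280202320793819537134571238363718173662982032889601235875022297732837317314109069466576644081016059048603661995862911109417030503276173756647409989985601894344371820252201623967114881988786452880697566999450701022199895232615230826577783990925004367853483583417938675617988548793271040⟩,
    ⟨2, 4, [4, 3, 2], 1344470664151333686951189926114770559400794026481363456232006543676561207206836243194366253747996925017255796043991961338458331722632851417586474783949599800202784385878360026891353369494013621224647617465125322683965375958506964747857806152086819076098403906048434862843048101175463161628115767803315200⟩]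
  cert := [
    [(1, none), (0, some 3), (0, some 4)],
    [(0, none), (2, none), (1, some 4)],
    [(2, some 3), (1, none), (3, none)],
    [(3, some 3), (3, some 4), (2, none)]]
  T := [73, 74, 75]
  R := [66, 69, 70]
  lens := [0, 1, 2, 3]

theorem stepOK : lit.StepOK step where
  hJ := by decide +kernel
  hJ' := by decide +kernel
  hne := by decide +kernel
  entries := by decide +kernel
  certs := by decide +kernel
  hT := by decide +kernel
  hTnd := by decide +kernel
  hTstab := by decide +kernel
  hTnodup := by decide +kernel
  hR := by decide +kernel
  hRstab := by decide +kernel
  hRpos := by decide +kernel
  hlens := by decide +kernel

end Cfsg.Agent.Lib.Helper36_ChevDataE7Wc4
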