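import Cfsg.Agent.Lib.Helper36_ChevDataE7Lit

set_option autoImplicit false
set_option Elab.async false
set_option maxRecDepth 100000

/-! Type E7, step 5 of the chain of parabolic subgroups: nodes [3, 4] to nodes [4], with the minimal coset
representatives. Generated file. -/

namespace Cfsg.Agent.Lib.Helper36_ChevDataE7Wc5

open Cfsg.Agent.Lib.Helper36_WeylLit Cfsg.Agent.Lib.Helper36_WeylLit.RootLit Cfsg.Agent.Lib.Helper36_ChevDataE7Lit

/-- The step. -/
def step : Step where
  J := [3, 4]
  J' := [4]
  V := [
    ⟨0, 0, [], 1344596067425836471281043537641992374274134493484868530586312582699368207198829800214862054955955614637676565439595045672885791252911364146615648457634467475047385863794161781436427542979008881979419998002279554878407271722645282417505508530884100540635060869382912669485800636005359660511319768193696000⟩,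
    ⟨0, 3, [3], 1344595904565267213246157475033494803249157207063324738659324389841659715695283955303815316936280329696179597506512307998177941509827115356010016869474657504041538202575428963476748087995021914745714269311908081227369626699231579603641239181490320192525717933280632587761748264543583905599801831599571200⟩,
    ⟨1, 4, [4, 3], 1344595741068523856400122657352765937783255066296698469536299271409350219565920973777073894622003697158580241778986309680448308200747572178884953050962813822400675763306608370892509310859762368075765821731680999525843426863824485465985877574862964003440238539597615274708883821028103571934183680775553280⟩]
  cert := [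
    [(1, none), (0, some 4)],
    [(0, none), (2, none)],
    [(2, some 4), (1, none)]]
  T := [69, 70]
  R := [66]
  lens := [0, 1, 2]

theorem stepOK : lit.StepOK step where
  hJ := by decide +kernel
  hJ' := by decide +kernel
  hne := by decide +kernel
  entries := by decide +kernel
  certs := by decide +kernel
  hT := by decide +kernel
  hTnd := by decide +kernel
  hTstab := by decide +kernel
  hTnodup := by decide +kernel
  hR := by decide +kernel
  hRstab := by decide +kernel
  hRpos := by decide +kernel
  hlens := by decide +kernel

end Cfsg.Agent.Lib.Helper36_ChevDataE7Wc5
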