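import Cfsg.Agent.Lib.Helper36_ChevDataE7Lit

set_option autoImplicit false
set_option Elab.async false
set_option maxRecDepth 100000

/-! Type E7, step 6 of the chain of parabolic subgroups: nodes [4] to nodes [], with the minimal coset
representatives. Generated file. -/

namespace Cfsg.Agent.Lib.Helper36_ChevDataE7Wc6

open Cfsg.Agent.Lib.Helper36_WeylLit Cfsg.Agent.Lib.Helper36_WeylLit.RootLit Cfsg.Agent.Lib.Helper36_ChevDataE7Lit

/-- The step. -/
def step : Step where
  J := [4]
  J' := []
  V := [
    ⟨0, 0, [], 1344596067425836471281043537641992374274134493484868530586312582699368207198829800214862054955955614637676565439595045672885791252911364146615648457634467475047385863794161781436427542979008881979419998002279554878407271722645282417505508530884100540635060869382912669485800636005359660511319768193696000⟩,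
    ⟨0, 4, [4], 1344596066789662372468730772808347860477161005122219541718508235419833626106302450745862748198090247695116521795627890666608206327119702733434927280617614040672948193304917070539624301444895806139576218160085363566180297830617521222446695171034178763232251478019132116438882014609021606895640681331687680⟩]
  cert := [
    [(1, none)],
    [(0, none)]]
  T := [66]
  R := []
  lens := [0, 1]

theorem stepOK : lit.StepOK step where
  hJ := by decide +kernel
  hJ' := by decide +kernel
  hne := by decide +kernel
  entries := by decide +kernel
  certs := by decide +kernel
  hT := by decide +kernel
  hTnd := by decide +kernel
  hTstab := by decide +kernel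
  hTnodup := by decide +kernel
  hR := by decide +kernel
  hRstab := by decide +kernel
  hRpos := by decide +kernel
  hlens := by decide +kernel

end Cfsg.Agent.Lib.Helper36_ChevDataE7Wc6
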