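import Cfsg.Agent.Lib.Helper36_WeylPoin
import Cfsg.Agent.Lib.Helper36_ChevDataE7Wc0
import Cfsg.Agent.Lib.Helper36_ChevDataE7Wc1
import Cfsg.Agent.Lib.Helper36_ChevDataE7Wc2
import Cfsg.Agent.Lib.Helper36_ChevDataE7Wc3
import Cfsg.Agent.Lib.Helper36_ChevDataE7Wc4
import Cfsg.Agent.Lib.Helper36_ChevDataE7Wc5
import Cfsg.Agent.Lib.Helper36_ChevDataE7Wc6

set_option autoImplicit false
set_option Elab.async false

/-! Type E7: the chain of parabolic subgroups and the product form of the sum of `q ^ l(w)` over the Weyl group.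
Generated file. -/

namespace Cfsg.Agent.Lib.Helper36_ChevDataE7Wc

open Cfsg.Agent.Lib.Helper36_WeylChain Cfsg.Agent.Lib.Helper36_WeylLit Cfsg.Agent.Lib.Helper36_WeylLit.RootLit
  Cfsg.Agent.Lib.Helper36_WeylPoin Cfsg.Agent.Lib.Helper36_PolyList Cfsg.Agent.Lib.Helper36_ChevDataE7Lit

/-- The steps. -/
def steps : List Step := [Cfsg.Agent.Lib.Helper36_ChevDataE7Wc0.step, Cfsg.Agent.Lib.Helper36_ChevDataE7Wc1.step, Cfsg.Agent.Lib.Helper36_ChevDataE7Wc2.step, Cfsg.Agent.Lib.Helper36_ChevDataE7Wc3.step, Cfsg.Agent.Lib.Helper36_ChevDataE7Wc4.step, Cfsg.Agent.Lib.Helper36_ChevDataE7Wc5.step, Cfsg.Agent.Lib.Helper36_ChevDataE7Wc6.step]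

theorem chainOK : ChainOK lit steps [0, 1, 2, 3, 4, 5, 6] :=
  ⟨rfl, Cfsg.Agent.Lib.Helper36_ChevDataE7Wc0.stepOK, ⟨rfl, Cfsg.Agent.Lib.Helper36_ChevDataE7Wc1.stepOK, ⟨rfl, Cfsg.Agent.Lib.Helper36_ChevDataE7Wc2.stepOK, ⟨rfl, Cfsg.Agent.Lib.Helper36_ChevDataE7Wc3.stepOK, ⟨rfl, Cfsg.Agent.Lib.Helper36_ChevDataE7Wc4.stepOK, ⟨rfl, Cfsg.Agent.Lib.Helper36_ChevDataE7Wc5.stepOK, ⟨rfl, Cfsg.Agent.Lib.Helper36_ChevDataE7Wc6.stepOK, rfl⟩⟩⟩⟩⟩⟩⟩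

theorem polyOK : peq (pprod (List.replicate 7 [-1, 1] ++ steps.map (fun st => hist st.lens)))
    (pprod (([2, 6, 8, 10, 12, 14, 18] : List ℕ).map (fun d => padd (mono d) [-1]))) = true := by decide +kernel

/-- `(q - 1)^l ∑_w q^l(w) = ∏ (q^d - 1)`. -/
theorem poin (q : ℕ) (hq : 1 ≤ q) :
    (q - 1) ^ 7 * pSum (inv lit.Pos) q (lit.W wf [0, 1, 2, 3, 4, 5, 6]) =
      (([2, 6, 8, 10, 12, 14, 18] : List ℕ).map (fun d => q ^ d - 1)).prod :=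
  poincare lit wf steps _ chainOK _ 7 polyOK q hq

end Cfsg.Agent.Lib.Helper36_ChevDataE7Wc
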