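import Cfsg.Agent.Lib.Helper36_ChevH
import Cfsg.Agent.Lib.Helper36_ChevDataE8Lits

set_option autoImplicit false
set_option Elab.async false

/-! Type E8: the table checks for `n_p(c)` and `h_p(c)`, `p = p_i`, i in [0]. Generated file. -/

namespace Cfsg.Agent.Lib.Helper36_ChevDataE8H0

open Cfsg Cfsg.Lie Cfsg.Agent.Lib.Helper36_ChevSparse Cfsg.Agent.Lib.Helper36_ChevCoeff
  Cfsg.Agent.Lib.Helper36_ChevCoo Cfsg.Agent.Lib.Helper36_ChevAdd Cfsg.Agent.Lib.Helper36_ChevIdx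
  Cfsg.Agent.Lib.Helper36_ChevWeyl Cfsg.Agent.Lib.Helper36_ChevGen Cfsg.Agent.Lib.Helper36_ChevH
  Cfsg.Agent.Lib.Helper36_ChevDataE8Lits

theorem nchk0 : nCheck chevE8 12 0 Nc0 = true := by decide +kernel

theorem hchk0 : hCheck chevE8 12 0 Nc0 = true := by decide +kernel

end Cfsg.Agent.Lib.Helper36_ChevDataE8H0
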