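import Cfsg.Agent.Lib.Helper36_ChevDataE8Lits

set_option autoImplicit false
set_option Elab.async false

/-! Check of the literal matrices of `n_i` for i in [0, 1], type E8. Generated file. -/

namespace Cfsg.Agent.Lib.Helper36_ChevDataE8N0

open Cfsg Cfsg.Lie Cfsg.Agent.Lib.Helper36_ChevSparse Cfsg.Agent.Lib.Helper36_ChevCoeff
  Cfsg.Agent.Lib.Helper36_ChevCoo Cfsg.Agent.Lib.Helper36_ChevAdd Cfsg.Agent.Lib.Helper36_ChevIdx
  Cfsg.Agent.Lib.Helper36_ChevWeyl Cfsg.Agent.Lib.Helper36_ChevGen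

/-- Literal table: the matrix of `x_{p_i}(1)` by columns, `i = 0`. -/
def X1c0 : Idxd :=
  [[(0, 1), (170, -2)], [(1, 1)], [(2, 1), (170, 1)], [(3, 1)], [(4, 1)], [(5, 1)], [(6, 1)], [(7, 1)], [(8, 1)], [(9, 1)], [(10, 1)], [(11, 1)], [(12, 1)], [(13, 1)], [(14, 1), (22, -1)], [(15, 1)], [(16, 1), (23, -1)], [(17, 1), (24, -1)], [(18, 1), (25, -1)], [(19, 1), (26, -1)], [(20, 1), (27, -1)], [(21, 1), (28, -1)], [(22, 1)], [(23, 1)], [(24, 1)], [(25, 1)], [(26, 1)], [(27, 1)], [(28, 1)], [(29, 1)], [(30, 1)], [(31, 1)], [(32, 1)], [(33, 1)], [(34, 1)], [(35, 1)], [(36, 1)], [(37, 1)], [(38, 1)], [(39, 1)], [(40, 1)], [(41, 1)], [(42, 1)], [(43, 1)], [(44, 1)], [(45, 1)], [(46, 1)], [(47, 1)], [(48, 1)], [(49, 1)], [(50, 1)], [(51, 1)], [(52, 1)], [(53, 1)], [(54, 1)], [(55, 1)], [(56, 1)], [(57, 1)], [(58, 1)], [(59, 1)], [(60, 1)], [(61, 1)], [(62, 1)], [(63, 1)], [(64, 1), (86,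 1)], [(65, 1), (87, 1)], [(66, 1), (88, 1)], [(67, 1), (89, 1)], [(68, 1), (90, 1)], [(69, 1), (91, 1)], [(70, 1), (92, 1)], [(71, 1), (93, 1)], [(72, 1), (94, 1)], [(73, 1), (95, 1)], [(74, 1), (96, 1)], [(75, 1), (97, 1)], [(76, 1), (98, 1)], [(77, 1), (99, 1)], [(78, 1), (100, 1)], [(79, 1), (107, 1)], [(80, 1), (108, 1)], [(81, 1), (109, 1)], [(82, 1), (110, 1)], [(83, 1), (111, 1)], [(84, 1), (112, 1)], [(0, 1), (85, 1), (170, -1)], [(86, 1)], [(87, 1)], [(88, 1)], [(89, 1)], [(90, 1)], [(91, 1)], [(92, 1)], [(93, 1)], [(94, 1)], [(95, 1)], [(96, 1)], [(97, 1)], [(98, 1)], [(99, 1)], [(100, 1)], [(101, 1)], [(102, 1)], [(103, 1)], [(104, 1)], [(105, 1)], [(106, 1)], [(107, 1)], [(108, 1)], [(109, 1)], [(110, 1)], [(111, 1)], [(112, 1)], [(113, 1)], [(114, 1)], [(115, 1)], [(116, 1)], [(117, 1)], [(118, 1)], [(119, 1)], [(120, 1)], [(121, 1)], [(122, 1)], [(123, 1)], [(124,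 1)], [(125, 1)], [(126, 1)], [(127, 1)], [(128, 1)], [(129, 1)], [(130, 1)], [(131, 1)], [(132, 1)], [(133, 1)], [(134, 1)], [(135, 1)], [(136, 1)], [(137, 1)], [(138, 1)], [(139, 1)], [(140, 1)], [(141, 1)], [(142, 1)], [(143, 1), (171, -1)], [(144, 1), (172, -1)], [(145, 1), (173, -1)], [(146, 1), (174, -1)], [(147, 1), (175, -1)], [(148, 1), (176, -1)], [(149, 1)], [(150, 1)], [(151, 1)], [(152, 1)], [(153, 1)], [(154, 1)], [(155, 1), (177, -1)], [(156, 1), (178, -1)], [(157, 1), (179, -1)], [(158, 1), (180, -1)], [(159, 1), (181, -1)], [(160, 1), (182, -1)], [(161, 1), (183, -1)], [(162, 1), (184, -1)], [(163, 1), (185, -1)], [(164, 1), (186, -1)], [(165, 1), (187, -1)], [(166, 1), (188, -1)], [(167, 1), (189, -1)], [(168, 1), (190, -1)], [(169, 1), (191, -1)], [(170, 1)], [(171, 1)], [(172, 1)], [(173, 1)], [(174, 1)], [(175, 1)], [(176, 1)], [(177, 1)], [(178, 1)], [(179,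 1)], [(180, 1)], [(181, 1)], [(182, 1)], [(183, 1)], [(184, 1)], [(185, 1)], [(186, 1)], [(187, 1)], [(188, 1)], [(189, 1)], [(190, 1)], [(191, 1)], [(192, 1)], [(193, 1)], [(194, 1)], [(195, 1)], [(196, 1)], [(197, 1)], [(198, 1)], [(199, 1)], [(200, 1)], [(201, 1)], [(202, 1)], [(203, 1)], [(204, 1)], [(205, 1)], [(206, 1)], [(207, 1)], [(208, 1)], [(209, 1)], [(210, 1)], [(211, 1)], [(212, 1)], [(213, 1)], [(214, 1)], [(215, 1)], [(216, 1)], [(217, 1)], [(218, 1)], [(219, 1)], [(220, 1)], [(221, 1)], [(222, 1)], [(223, 1)], [(224, 1)], [(225, 1)], [(226, 1)], [(227, 1), (234, 1)], [(228, 1), (235, 1)], [(229, 1), (236, 1)], [(230, 1), (237, 1)], [(231, 1), (238, 1)], [(232, 1), (239, 1)], [(233, 1), (241, 1)], [(234, 1)], [(235, 1)], [(236, 1)], [(237, 1)], [(238, 1)], [(239, 1)], [(240, 1)], [(241, 1)], [(242, 1)], [(243, 1)], [(244, 1)], [(245, 1)], [(246, 1)], [(247, 1)]]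

/-- Literal table: the matrix of `x_{-p_i}(-1)` by columns, `i = 0`. -/
def X2c0 : Idxd :=
  [[(0, 1), (85, -2)], [(1, 1)], [(2, 1), (85, 1)], [(3, 1)], [(4, 1)], [(5, 1)], [(6, 1)], [(7, 1)], [(8, 1)], [(9, 1)], [(10, 1)], [(11, 1)], [(12, 1)], [(13, 1)], [(14, 1)], [(15, 1)], [(16, 1)], [(17, 1)], [(18, 1)], [(19, 1)], [(20, 1)], [(21, 1)], [(14, 1), (22, 1)], [(16, 1), (23, 1)], [(17, 1), (24, 1)], [(18, 1), (25, 1)], [(19, 1), (26, 1)], [(20, 1), (27, 1)], [(21, 1), (28, 1)], [(29, 1)], [(30, 1)], [(31, 1)], [(32, 1)], [(33, 1)], [(34, 1)], [(35, 1)], [(36, 1)], [(37, 1)], [(38, 1)], [(39, 1)], [(40, 1)], [(41, 1)], [(42, 1)], [(43, 1)], [(44, 1)], [(45, 1)], [(46, 1)], [(47, 1)], [(48, 1)], [(49, 1)], [(50, 1)], [(51, 1)], [(52, 1)], [(53, 1)], [(54, 1)], [(55, 1)], [(56, 1)], [(57, 1)], [(58, 1)], [(59, 1)], [(60, 1)], [(61, 1)], [(62, 1)], [(63, 1)], [(64, 1)], [(65, 1)],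 [(66, 1)], [(67, 1)], [(68, 1)], [(69, 1)], [(70, 1)], [(71, 1)], [(72, 1)], [(73, 1)], [(74, 1)], [(75, 1)], [(76, 1)], [(77, 1)], [(78, 1)], [(79, 1)], [(80, 1)], [(81, 1)], [(82, 1)], [(83, 1)], [(84, 1)], [(85, 1)], [(64, -1), (86, 1)], [(65, -1), (87, 1)], [(66, -1), (88, 1)], [(67, -1), (89, 1)], [(68, -1), (90, 1)], [(69, -1), (91, 1)], [(70, -1), (92, 1)], [(71, -1), (93, 1)], [(72, -1), (94, 1)], [(73, -1), (95, 1)], [(74, -1), (96, 1)], [(75, -1), (97, 1)], [(76, -1), (98, 1)], [(77, -1), (99, 1)], [(78, -1), (100, 1)], [(101, 1)], [(102, 1)], [(103, 1)], [(104, 1)], [(105, 1)], [(106, 1)], [(79, -1), (107, 1)], [(80, -1), (108, 1)], [(81, -1), (109, 1)], [(82, -1), (110, 1)], [(83, -1), (111, 1)], [(84, -1), (112, 1)], [(113, 1)], [(114, 1)], [(115, 1)], [(116, 1)], [(117, 1)], [(118, 1)], [(119, 1)], [(120, 1)], [(121, 1)], [(122, 1)], [(123, 1)], [(124, 1)], [(125,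 1)], [(126, 1)], [(127, 1)], [(128, 1)], [(129, 1)], [(130, 1)], [(131, 1)], [(132, 1)], [(133, 1)], [(134, 1)], [(135, 1)], [(136, 1)], [(137, 1)], [(138, 1)], [(139, 1)], [(140, 1)], [(141, 1)], [(142, 1)], [(143, 1)], [(144, 1)], [(145, 1)], [(146, 1)], [(147, 1)], [(148, 1)], [(149, 1)], [(150, 1)], [(151, 1)], [(152, 1)], [(153, 1)], [(154, 1)], [(155, 1)], [(156, 1)], [(157, 1)], [(158, 1)], [(159, 1)], [(160, 1)], [(161, 1)], [(162, 1)], [(163, 1)], [(164, 1)], [(165, 1)], [(166, 1)], [(167, 1)], [(168, 1)], [(169, 1)], [(0, 1), (85, -1), (170, 1)], [(143, 1), (171, 1)], [(144, 1), (172, 1)], [(145, 1), (173, 1)], [(146, 1), (174, 1)], [(147, 1), (175, 1)], [(148, 1), (176, 1)], [(155, 1), (177, 1)], [(156, 1), (178, 1)], [(157, 1), (179, 1)], [(158, 1), (180, 1)], [(159, 1), (181, 1)], [(160, 1), (182, 1)], [(161, 1), (183, 1)], [(162, 1), (184, 1)], [(163, 1), (185, 1)],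 [(164, 1), (186, 1)], [(165, 1), (187, 1)], [(166, 1), (188, 1)], [(167, 1), (189, 1)], [(168, 1), (190, 1)], [(169, 1), (191, 1)], [(192, 1)], [(193, 1)], [(194, 1)], [(195, 1)], [(196, 1)], [(197, 1)], [(198, 1)], [(199, 1)], [(200, 1)], [(201, 1)], [(202, 1)], [(203, 1)], [(204, 1)], [(205, 1)], [(206, 1)], [(207, 1)], [(208, 1)], [(209, 1)], [(210, 1)], [(211, 1)], [(212, 1)], [(213, 1)], [(214, 1)], [(215, 1)], [(216, 1)], [(217, 1)], [(218, 1)], [(219, 1)], [(220, 1)], [(221, 1)], [(222, 1)], [(223, 1)], [(224, 1)], [(225, 1)], [(226, 1)], [(227, 1)], [(228, 1)], [(229, 1)], [(230, 1)], [(231, 1)], [(232, 1)], [(233, 1)], [(227, -1), (234, 1)], [(228, -1), (235, 1)], [(229, -1), (236, 1)], [(230, -1), (237, 1)], [(231, -1), (238, 1)], [(232, -1), (239, 1)], [(240, 1)], [(233, -1), (241, 1)], [(242, 1)], [(243, 1)], [(244, 1)], [(245, 1)], [(246, 1)], [(247, 1)]]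

theorem nLit0 : NLitGood chevE8 0 Helper36_ChevDataE8Lits.Nc0 Helper36_ChevDataE8Lits.Nr0 :=
  nLitGood_of_check2 chevE8 12 0 X1c0 X2c0 Helper36_ChevDataE8Lits.Nc0 Helper36_ChevDataE8Lits.Nr0 (by decide +kernel)

/-- Literal table: the matrix of `x_{p_i}(1)` by columns, `i = 1`. -/
def X1c1 : Idxd :=
  [[(0, 1)], [(1, 1), (149, -2)], [(2, 1)], [(3, 1), (149, 1)], [(4, 1)], [(5, 1)], [(6, 1)], [(7, 1)], [(8, 1)], [(9, 1)], [(10, 1)], [(11, 1)], [(12, 1)], [(13, 1), (15, -1)], [(14, 1), (16, -1)], [(15, 1)], [(16, 1)], [(17, 1)], [(18, 1)], [(19, 1)], [(20, 1)], [(21, 1)], [(22, 1), (23, -1)], [(23, 1)], [(24, 1)], [(25, 1)], [(26, 1)], [(27, 1)], [(28, 1)], [(29, 1)], [(30, 1)], [(31, 1)], [(32, 1)], [(33, 1)], [(34, 1), (44, -1)], [(35, 1), (45, -1)], [(36, 1), (46, -1)], [(37, 1), (47, -1)], [(38, 1), (48, -1)], [(39, 1), (49, -1)], [(40, 1), (50, -1)], [(41, 1), (51, -1)], [(42,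 1), (52, -1)], [(43, 1), (53, -1)], [(44, 1)], [(45, 1)], [(46, 1)], [(47, 1)], [(48, 1)], [(49, 1)], [(50, 1)], [(51, 1)], [(52, 1)], [(53, 1)], [(54, 1)], [(55, 1)], [(56, 1)], [(57, 1)], [(58, 1)], [(59, 1)], [(60, 1)], [(61, 1)], [(62, 1)], [(63, 1)], [(64, 1)], [(65, 1)], [(66, 1)], [(67, 1)], [(68, 1)], [(69, 1)], [(70, 1)], [(71, 1)], [(72, 1)], [(73, 1)], [(74, 1), (79, -1)], [(75, 1), (80, -1)], [(76, 1), (81, -1)], [(77, 1), (82, -1)], [(78, 1), (83, -1)], [(79, 1)], [(80, 1)], [(81, 1)], [(82, 1)], [(83, 1)], [(84, 1)], [(85, 1)], [(86, 1)], [(87, 1)], [(88, 1)], [(89, 1)], [(90, 1)], [(91, 1)], [(92, 1)], [(93, 1)], [(94, 1)], [(95, 1)], [(96, 1), (107, -1)], [(97, 1), (108, -1)], [(98, 1), (109, -1)], [(99, 1), (110, -1)], [(100, 1), (111, -1)], [(101, 1), (113, 1)], [(102, 1), (114, 1)], [(103, 1), (115, 1)], [(104, 1), (116, 1)], [(105, 1), (117, 1)], [(1, 1), (106,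 1), (149, -1)], [(107, 1)], [(108, 1)], [(109, 1)], [(110, 1)], [(111, 1)], [(112, 1)], [(113, 1)], [(114, 1)], [(115, 1)], [(116, 1)], [(117, 1)], [(118, 1)], [(119, 1)], [(120, 1)], [(121, 1)], [(122, 1)], [(123, 1)], [(124, 1)], [(125, 1)], [(126, 1)], [(127, 1)], [(128, 1)], [(129, 1)], [(130, 1)], [(131, 1)], [(132, 1)], [(133, 1)], [(134, 1)], [(135, 1)], [(136, 1)], [(137, 1)], [(138, 1), (150, -1)], [(139, 1), (151, -1)], [(140, 1), (152, -1)], [(141, 1), (153, -1)], [(142, 1), (154, -1)], [(143, 1)], [(144, 1), (155, 1)], [(145, 1), (156, 1)], [(146, 1), (157, 1)], [(147, 1), (158, 1)], [(148, 1), (159, 1)], [(149, 1)], [(150, 1)], [(151, 1)], [(152, 1)], [(153, 1)], [(154, 1)], [(155, 1)], [(156, 1)], [(157, 1)], [(158, 1)], [(159, 1)], [(160, 1)], [(161, 1)], [(162, 1)], [(163, 1)], [(164, 1)], [(165, 1)], [(166, 1)], [(167, 1)], [(168, 1)], [(169, 1)], [(170, 1)], [(171,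 1)], [(172, 1), (177, 1)], [(173, 1), (178, 1)], [(174, 1), (179, 1)], [(175, 1), (180, 1)], [(176, 1), (181, 1)], [(177, 1)], [(178, 1)], [(179, 1)], [(180, 1)], [(181, 1)], [(182, 1)], [(183, 1)], [(184, 1)], [(185, 1)], [(186, 1)], [(187, 1)], [(188, 1)], [(189, 1)], [(190, 1)], [(191, 1)], [(192, 1)], [(193, 1)], [(194, 1)], [(195, 1)], [(196, 1)], [(197, 1)], [(198, 1)], [(199, 1)], [(200, 1)], [(201, 1)], [(202, 1), (212, 1)], [(203, 1), (213, 1)], [(204, 1), (214, 1)], [(205, 1), (215, 1)], [(206, 1), (216, 1)], [(207, 1), (217, 1)], [(208, 1), (218, 1)], [(209, 1), (219, 1)], [(210, 1), (220, 1)], [(211, 1), (221, 1)], [(212, 1)], [(213, 1)], [(214, 1)], [(215, 1)], [(216, 1)], [(217, 1)], [(218, 1)], [(219, 1)], [(220, 1)], [(221, 1)], [(222, 1)], [(223, 1)], [(224, 1)], [(225, 1)], [(226, 1)], [(227, 1)], [(228, 1)], [(229, 1)], [(230, 1)], [(231, 1)], [(232, 1), (233,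 1)], [(233, 1)], [(234, 1)], [(235, 1)], [(236, 1)], [(237, 1)], [(238, 1)], [(239, 1), (241, 1)], [(240, 1), (242, 1)], [(241, 1)], [(242, 1)], [(243, 1)], [(244, 1)], [(245, 1)], [(246, 1)], [(247, 1)]]

/-- Literal table: the matrix of `x_{-p_i}(-1)` by columns, `i = 1`. -/
def X2c1 : Idxd :=
  [[(0, 1)], [(1, 1), (106, -2)], [(2, 1)], [(3, 1), (106, 1)], [(4, 1)], [(5, 1)], [(6, 1)], [(7, 1)], [(8, 1)], [(9, 1)], [(10, 1)], [(11, 1)], [(12, 1)], [(13, 1)], [(14, 1)], [(13, 1), (15, 1)], [(14, 1), (16, 1)], [(17, 1)], [(18, 1)], [(19, 1)], [(20, 1)], [(21, 1)], [(22, 1)], [(22, 1), (23, 1)], [(24, 1)], [(25, 1)], [(26, 1)], [(27, 1)], [(28, 1)], [(29, 1)], [(30, 1)], [(31, 1)], [(32, 1)], [(33, 1)], [(34, 1)], [(35, 1)], [(36, 1)], [(37, 1)], [(38, 1)], [(39, 1)], [(40, 1)], [(41, 1)], [(42, 1)], [(43, 1)], [(34, 1), (44, 1)], [(35, 1), (45, 1)], [(36, 1), (46, 1)], [(37, 1),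 (47, 1)], [(38, 1), (48, 1)], [(39, 1), (49, 1)], [(40, 1), (50, 1)], [(41, 1), (51, 1)], [(42, 1), (52, 1)], [(43, 1), (53, 1)], [(54, 1)], [(55, 1)], [(56, 1)], [(57, 1)], [(58, 1)], [(59, 1)], [(60, 1)], [(61, 1)], [(62, 1)], [(63, 1)], [(64, 1)], [(65, 1)], [(66, 1)], [(67, 1)], [(68, 1)], [(69, 1)], [(70, 1)], [(71, 1)], [(72, 1)], [(73, 1)], [(74, 1)], [(75, 1)], [(76, 1)], [(77, 1)], [(78, 1)], [(74, 1), (79, 1)], [(75, 1), (80, 1)], [(76, 1), (81, 1)], [(77, 1), (82, 1)], [(78, 1), (83, 1)], [(84, 1)], [(85, 1)], [(86, 1)], [(87, 1)], [(88, 1)], [(89, 1)], [(90, 1)], [(91, 1)], [(92, 1)], [(93, 1)], [(94, 1)], [(95, 1)], [(96, 1)], [(97, 1)], [(98, 1)], [(99, 1)], [(100, 1)], [(101, 1)], [(102, 1)], [(103, 1)], [(104, 1)], [(105, 1)], [(106, 1)], [(96, 1), (107, 1)], [(97, 1), (108, 1)], [(98, 1), (109, 1)], [(99, 1), (110, 1)], [(100, 1), (111, 1)], [(112, 1)], [(101, -1),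 (113, 1)], [(102, -1), (114, 1)], [(103, -1), (115, 1)], [(104, -1), (116, 1)], [(105, -1), (117, 1)], [(118, 1)], [(119, 1)], [(120, 1)], [(121, 1)], [(122, 1)], [(123, 1)], [(124, 1)], [(125, 1)], [(126, 1)], [(127, 1)], [(128, 1)], [(129, 1)], [(130, 1)], [(131, 1)], [(132, 1)], [(133, 1)], [(134, 1)], [(135, 1)], [(136, 1)], [(137, 1)], [(138, 1)], [(139, 1)], [(140, 1)], [(141, 1)], [(142, 1)], [(143, 1)], [(144, 1)], [(145, 1)], [(146, 1)], [(147, 1)], [(148, 1)], [(1, 1), (106, -1), (149, 1)], [(138, 1), (150, 1)], [(139, 1), (151, 1)], [(140, 1), (152, 1)], [(141, 1), (153, 1)], [(142, 1), (154, 1)], [(144, -1), (155, 1)], [(145, -1), (156, 1)], [(146, -1), (157, 1)], [(147, -1), (158, 1)], [(148, -1), (159, 1)], [(160, 1)], [(161, 1)], [(162, 1)], [(163, 1)], [(164, 1)], [(165, 1)], [(166, 1)], [(167, 1)], [(168, 1)], [(169, 1)], [(170, 1)], [(171, 1)], [(172, 1)], [(173,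 1)], [(174, 1)], [(175, 1)], [(176, 1)], [(172, -1), (177, 1)], [(173, -1), (178, 1)], [(174, -1), (179, 1)], [(175, -1), (180, 1)], [(176, -1), (181, 1)], [(182, 1)], [(183, 1)], [(184, 1)], [(185, 1)], [(186, 1)], [(187, 1)], [(188, 1)], [(189, 1)], [(190, 1)], [(191, 1)], [(192, 1)], [(193, 1)], [(194, 1)], [(195, 1)], [(196, 1)], [(197, 1)], [(198, 1)], [(199, 1)], [(200, 1)], [(201, 1)], [(202, 1)], [(203, 1)], [(204, 1)], [(205, 1)], [(206, 1)], [(207, 1)], [(208, 1)], [(209, 1)], [(210, 1)], [(211, 1)], [(202, -1), (212, 1)], [(203, -1), (213, 1)], [(204, -1), (214, 1)], [(205, -1), (215, 1)], [(206, -1), (216, 1)], [(207, -1), (217, 1)], [(208, -1), (218, 1)], [(209, -1), (219, 1)], [(210, -1), (220, 1)], [(211, -1), (221, 1)], [(222, 1)], [(223, 1)], [(224, 1)], [(225, 1)], [(226, 1)], [(227, 1)], [(228, 1)], [(229, 1)], [(230, 1)], [(231, 1)], [(232, 1)], [(232, -1), (233,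 1)], [(234, 1)], [(235, 1)], [(236, 1)], [(237, 1)], [(238, 1)], [(239, 1)], [(240, 1)], [(239, -1), (241, 1)], [(240, -1), (242, 1)], [(243, 1)], [(244, 1)], [(245, 1)], [(246, 1)], [(247, 1)]]

theorem nLit1 : NLitGood chevE8 1 Helper36_ChevDataE8Lits.Nc1 Helper36_ChevDataE8Lits.Nr1 :=
  nLitGood_of_check2 chevE8 12 1 X1c1 X2c1 Helper36_ChevDataE8Lits.Nc1 Helper36_ChevDataE8Lits.Nr1 (by decide +kernel)

end Cfsg.Agent.Lib.Helper36_ChevDataE8N0
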