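import Cfsg.Agent.Lib.Helper36_ChevDataE8N0
import Cfsg.Agent.Lib.Helper36_ChevDataE8N1
import Cfsg.Agent.Lib.Helper36_ChevDataE8N2
import Cfsg.Agent.Lib.Helper36_ChevDataE8N3

set_option autoImplicit false


/-! Type E8: the literal matrices of all `n_i` are correct (assembled from the pieces). Generated file. -/

namespace Cfsg.Agent.Lib.Helper36_ChevDataE8NL

open Cfsg Cfsg.Lie Cfsg.Agent.Lib.Helper36_ChevSparse Cfsg.Agent.Lib.Helper36_ChevCoeff
  Cfsg.Agent.Lib.Helper36_ChevCoo Cfsg.Agent.Lib.Helper36_ChevAdd Cfsg.Agent.Lib.Helper36_ChevIdx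
  Cfsg.Agent.Lib.Helper36_ChevWeyl Cfsg.Agent.Lib.Helper36_ChevGen

theorem nLitOK : NLitOK chevE8 Helper36_ChevDataE8Lits.nLits := by
  intro i hi
  have h : chevE8.rank = 8 := rfl
  rw [h] at hi
  interval_cases i
  · exact Helper36_ChevDataE8N0.nLit0
  · exact Helper36_ChevDataE8N0.nLit1
  · exact Helper36_ChevDataE8N1.nLit2
  · exact Helper36_ChevDataE8N1.nLit3
  · exact Helper36_ChevDataE8N2.nLit4
  · exact Helper36_ChevDataE8N2.nLit5
  · exact Helper36_ChevDataE8N3.nLit6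
  · exact Helper36_ChevDataE8N3.nLit7

end Cfsg.Agent.Lib.Helper36_ChevDataE8NL
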