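import Cfsg.Agent.Lib.Helper36_ChevParab
import Cfsg.Agent.Lib.Helper36_ChevDataE8Ht

set_option autoImplicit false
set_option Elab.async false

/-! Type E8: every negative root other than the `-p_j` is sent to a higher negative root with smaller support by a fundamental reflection in its support (table check). Generated file. -/

namespace Cfsg.Agent.Lib.Helper36_ChevDataE8Par

open Cfsg Cfsg.Lie Cfsg.Agent.Lib.Helper36_ChevTri Cfsg.Agent.Lib.Helper36_ChevParab
  Cfsg.Agent.Lib.Helper36_ChevDataE8Ht

theorem par_0_40 : ParabRange chevE8 htN 30 0 40 := by decide +kernel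

theorem par_40_80 : ParabRange chevE8 htN 30 40 80 := by decide +kernel

theorem par_80_120 : ParabRange chevE8 htN 30 80 120 := by decide +kernel

theorem par_120_160 : ParabRange chevE8 htN 30 120 160 := by decide +kernel

theorem par_160_200 : ParabRange chevE8 htN 30 160 200 := by decide +kernel

theorem par_200_240 : ParabRange chevE8 htN 30 200 240 := by decide +kernel

theorem negSimpleSupp : NegSimpleSupp chevE8 := by decide +kernel

theorem parabOK : ParabOK chevE8 htN 30 := ⟨parabRange_trans chevE8 htN 30 (parabRange_trans chevE8 htN 30 (parabRange_trans chevE8 htN 30 (parabRange_trans chevE8 htN 30 (parabRange_trans chevE8 htN 30 (par_0_40) par_40_80) par_80_120) par_120_160) par_160_200) par_200_240, negSimpleSupp⟩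

end Cfsg.Agent.Lib.Helper36_ChevDataE8Par
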