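import Cfsg.Agent.Lib.Helper36_ChevDataE8Lit

set_option autoImplicit false
set_option Elab.async false
set_option maxRecDepth 100000

/-! Type E8, step 5 of the chain of parabolic subgroups: nodes [2, 3, 4] to nodes [3, 4], with the minimal coset
representatives. Generated file. -/

namespace Cfsg.Agent.Lib.Helper36_ChevDataE8Wc5

open Cfsg.Agent.Lib.Helper36_WeylLit Cfsg.Agent.Lib.Helper36_WeylLit.RootLit Cfsg.Agent.Lib.Helper36_ChevDataE8Lit

/-- The step. -/
def step : Step where
  J := [2, 3, 4]
  J' := [3, 4]
  V := [
    ⟨0, 0, [], 89010710832726081258207695087766453073629556791391768623964036641463781225319539999760816729146042662139856895288843475399930256946480439637739066162892605185881182929479613401054641107877698757969107253890245589956613359210320374917877731592014193402259949946128396956633072395924321534420469800531052439094200570155767733681287974668223750225911458588254329781695355120139947893117782091808445735451721969873827358875130945132543972207753132841710629753731791564795525546105515388187074320385850351897433657374125069562887084093570600870309738545236627213837110175471922970880⟩,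
    ⟨0, 2, [2], 89010710832725745165782235459872475154280622121245305451935284189796891986609553508120115617800247381425903506913793501621740144058856426409726296520870105944088071210077208036158123281336922507974837557012631125147342853176418750825867691433342788636856825459490268921107323757655376441022236038140059219790486132896388440655383746867478063393865412376222232171226315736044435218013124881770230153482484127468225324367815592321859374033917761553313348740424564716417650837788186550135374827969386553419933334973793356178552598849513931315254120302644802431154599699746591473920⟩,
    ⟨1, 3, [3, 2], 89010710832639370725260083314868401815021887209321858897009219825693352176501014521756020157993670039882394539904870914392776544175407906683343806598995487580797223245746561721827088549312601594923095637804234304304904478753154899671805912025996749475147164258032272179126100672757595553024446832354152110134075430308568110190381627019936337733595563039564293632049423496087528718055131319513213023513048491939341681714029187428254178169917722183718889287818310380356206325749612460721663695758765763195926671379633986169826601863641165849403800355608901592493859976093769007360⟩,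
    ⟨2, 4, [4, 3, 2], 89010710810527179177112853712428917658015504231578472774837618221442889066355075519898485362215938701769362603899726957205546104061930941292048805349510789546640512525217021354758471473645059238136482983224579626184291904746837980580464311683596868960203159792372299420641897070495445473209470597914698955328154516234171205449587771672464442852992991215371507148571807209344026746395254937226488960738294643704986262045346131003426090520650110663101618467824237643983546921582204880528718508019665198416537565878135090143970984918608528763813569297104013348616890050960102129920⟩]
  cert := [
    [(1, none), (0, some 3), (0, some 4)],
    [(0, none), (2, none), (1, some 4)],
    [(2, some 3), (1, none), (3, none)],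
    [(3, some 3), (3, some 4), (2, none)]]
  T := [135, 136, 137]
  R := [126, 130, 131]
  lens := [0, 1, 2, 3]

theorem stepOK : lit.StepOK step where
  hJ := by decide +kernel
  hJ' := by decide +kernel
  hne := by decide +kernel
  entries := by decide +kernel
  certs := by decide +kernel
  hT := by decide +kernel
  hTnd := by decide +kernel
  hTstab := by decide +kernel
  hTnodup := by decide +kernel
  hR := by decide +kernel
  hRstab := by decide +kernel
  hRpos := by decide +kernel
  hlens := by decide +kernel

end Cfsg.Agent.Lib.Helper36_ChevDataE8Wc5
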