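import Cfsg.Agent.Lib.Helper36_ChevDataE8Lit

set_option autoImplicit false
set_option Elab.async false
set_option maxRecDepth 100000

/-! Type E8, step 6 of the chain of parabolic subgroups: nodes [3, 4] to nodes [4], with the minimal coset
representatives. Generated file. -/

namespace Cfsg.Agent.Lib.Helper36_ChevDataE8Wc6

open Cfsg.Agent.Lib.Helper36_WeylLit Cfsg.Agent.Lib.Helper36_WeylLit.RootLit Cfsg.Agent.Lib.Helper36_ChevDataE8Lit

/-- The step. -/
def step : Step where
  J := [3, 4]
  J' := [4]
  V := [
    ⟨0, 0, [], 89010710832726081258207695087766453073629556791391768623964036641463781225319539999760816729146042662139856895288843475399930256946480439637739066162892605185881182929479613401054641107877698757969107253890245589956613359210320374917877731592014193402259949946128396956633072395924321534420469800531052439094200570155767733681287974668223750225911458588254329781695355120139947893117782091808445735451721969873827358875130945132543972207753132841710629753731791564795525546105515388187074320385850351897433657374125069562887084093570600870309738545236627213837110175471922970880⟩,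
    ⟨0, 3, [3], 89010710832640042910111002570656357653715391413141566596331023776964856083669365258548140478906507872628955595684419254834843229232697776527642939107948214787375489097164882990093468904723498389665687901900427190291264427804358237891932228052664145351264877813819956450891804972988388003365098856358027288215824823748769396133189946047224742087238448032137898031788973343765419247008549016964559503462021292736161599259527505720347129268890925678250880711178934622972084815217513580310228965341853079554683461698062554884656178636540855221896711318667953180723757473301824405760⟩,
    ⟨1, 4, [4, 3], 89010710810528187454389232596110851416053565176410514183083684365145120795099671696859258321963965559289973041761364362679558649136862879674475667407104395397650677011490514918773104997300326636324520404819866056030672899640877819261746329730462968452763003117488805804440060301123372928431123612947824875115021141595436977080213033051887286901912289819405695353447944443271942662053387245568935987102570066521029370135782173747149894015265345699526240696142290747577625746862481895814375574246032939943137675621087775724935207257839272597462376331586134711190723176712248623360⟩]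
  cert := [
    [(1, none), (0, some 4)],
    [(0, none), (2, none)],
    [(2, some 4), (1, none)]]
  T := [130, 131]
  R := [126]
  lens := [0, 1, 2]

theorem stepOK : lit.StepOK step where
  hJ := by decide +kernel
  hJ' := by decide +kernel
  hne := by decide +kernel
  entries := by decide +kernel
  certs := by decide +kernel
  hT := by decide +kernel
  hTnd := by decide +kernel
  hTstab := by decide +kernel
  hTnodup := by decide +kernel
  hR := by decide +kernel
  hRstab := by decide +kernel
  hRpos := by decide +kernel
  hlens := by decide +kernel

end Cfsg.Agent.Lib.Helper36_ChevDataE8Wc6
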