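import Cfsg.Agent.Lib.Helper36_ChevDataE8Lit

set_option autoImplicit false
set_option Elab.async false
set_option maxRecDepth 100000

/-! Type E8, step 7 of the chain of parabolic subgroups: nodes [4] to nodes [], with the minimal coset
representatives. Generated file. -/

namespace Cfsg.Agent.Lib.Helper36_ChevDataE8Wc7

open Cfsg.Agent.Lib.Helper36_WeylLit Cfsg.Agent.Lib.Helper36_WeylLit.RootLit Cfsg.Agent.Lib.Helper36_ChevDataE8Lit

/-- The step. -/
def step : Step where
  J := [4]
  J' := []
  V := [
    ⟨0, 0, [], 89010710832726081258207695087766453073629556791391768623964036641463781225319539999760816729146042662139856895288843475399930256946480439637739066162892605185881182929479613401054641107877698757969107253890245589956613359210320374917877731592014193402259949946128396956633072395924321534420469800531052439094200570155767733681287974668223750225911458588254329781695355120139947893117782091808445735451721969873827358875130945132543972207753132841710629753731791564795525546105515388187074320385850351897433657374125069562887084093570600870309738545236627213837110175471922970880⟩,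
    ⟨0, 4, [4], 89010710810700264150582617630331042255881895932910918226714852776874391712560822123306201324846964430844654021744796813142187524010757855487702572916830330127298365693899458709456758086075824036756691770046586241064145029133056116495308293743993175776525086010282095515927038476928213975218102397351640852387061258815504561004829092548212349860608510285292324260881662547262759342960965261517043933646963449207241238405678966067672724730749373320049762418207315511506201541333274614526630211416916896943463791273270459031700074181856090797289197533059447945620264098913323188480⟩]
  cert := [
    [(1, none)],
    [(0, none)]]
  T := [126]
  R := []
  lens := [0, 1]

theorem stepOK : lit.StepOK step where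
  hJ := by decide +kernel
  hJ' := by decide +kernel
  hne := by decide +kernel
  entries := by decide +kernel
  certs := by decide +kernel
  hT := by decide +kernel
  hTnd := by decide +kernel
  hTstab := by decide +kernel
  hTnodup := by decide +kernel
  hR := by decide +kernel
  hRstab := by decide +kernel
  hRpos := by decide +kernel
  hlens := by decide +kernel

end Cfsg.Agent.Lib.Helper36_ChevDataE8Wc7
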