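import Cfsg.Agent.Lib.Helper36_ChevParab
import Cfsg.Agent.Lib.Helper36_ChevDataF4Ht

set_option autoImplicit false
set_option Elab.async false

/-! Type F4: every negative root other than the `-p_j` is sent to a higher negative root with smaller support by a fundamental reflection in its support (table check). Generated file. -/

namespace Cfsg.Agent.Lib.Helper36_ChevDataF4Par

open Cfsg Cfsg.Lie Cfsg.Agent.Lib.Helper36_ChevTri Cfsg.Agent.Lib.Helper36_ChevParab
  Cfsg.Agent.Lib.Helper36_ChevDataF4Ht

theorem par_0_48 : ParabRange chevF4 htN 30 0 48 := by decide +kernel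

theorem negSimpleSupp : NegSimpleSupp chevF4 := by decide +kernel

theorem parabOK : ParabOK chevF4 htN 30 := ⟨par_0_48, negSimpleSupp⟩

end Cfsg.Agent.Lib.Helper36_ChevDataF4Par
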