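import Cfsg.Agent.Lib.Helper36_ChevConj
import Cfsg.Agent.Lib.Helper36_ChevDataG2

set_option autoImplicit false
set_option Elab.async false

/-! Type G2: the relation `n_i x_s(t) = x_{w_i s}(η t) n_i` for all pairs with the table of signs, and the monomial form of `n_i`. Generated file. -/

namespace Cfsg.Agent.Lib.Helper36_ChevDataG2Eta

open Cfsg Cfsg.Lie Cfsg.Agent.Lib.Helper36_ChevSparse Cfsg.Agent.Lib.Helper36_ChevCoeff
  Cfsg.Agent.Lib.Helper36_ChevCoo Cfsg.Agent.Lib.Helper36_ChevAdd Cfsg.Agent.Lib.Helper36_ChevIdx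
  Cfsg.Agent.Lib.Helper36_ChevWeyl Cfsg.Agent.Lib.Helper36_ChevGen Cfsg.Agent.Lib.Helper36_ChevConj
  Cfsg.Agent.Lib.Helper36_ChevDataG2

/-- The signs `η_{i,s}` in `n_i x_s(t) = x_{w_i s}(η_{i,s} t) n_i`, one list for each `i`. -/
def etaTable : List (List ℤ) :=
  [[1, -1, -1, 1, -1, 1, 1, -1, 1, -1, -1, 1],
   [-1, 1, 1, -1, 1, -1, -1, 1, -1, 1, 1, -1]]

theorem eta0_0_12 : EtaRange chevG2 12 nLits 0 (etaTable.getD 0 []) 0 12 := by decide +kernel

theorem eta0 : EtaRange chevG2 12 nLits 0 (etaTable.getD 0 []) 0 12 := eta0_0_12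

theorem mono0 : monoCheck chevG2 0 Nc0 (etaTable.getD 0 []) = true := by decide +kernel

theorem etaProps0 : etaPropsCheck chevG2 0 (etaTable.getD 0 []) = true := by decide +kernel

theorem eta1_0_12 : EtaRange chevG2 12 nLits 1 (etaTable.getD 1 []) 0 12 := by decide +kernel

theorem eta1 : EtaRange chevG2 12 nLits 1 (etaTable.getD 1 []) 0 12 := eta1_0_12

theorem mono1 : monoCheck chevG2 1 Nc1 (etaTable.getD 1 []) = true := by decide +kernel

theorem etaProps1 : etaPropsCheck chevG2 1 (etaTable.getD 1 []) = true := by decide +kernel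

theorem etaTableOK : EtaTableOK chevG2 12 nLits etaTable := by
  intro i hi
  have h : chevG2.rank = 2 := rfl
  rw [h] at hi
  interval_cases i
  · exact eta0
  · exact eta1

theorem monoOK : ∀ i < chevG2.rank, monoCheck chevG2 i (nLits.getD i ([], [])).1 (etaTable.getD i []) = true ∧
    etaPropsCheck chevG2 i (etaTable.getD i []) = true := by
  intro i hi
  have h : chevG2.rank = 2 := rfl
  rw [h] at hi
  interval_cases i
  · exact ⟨mono0, etaProps0⟩
  · exact ⟨mono1, etaProps1⟩

end Cfsg.Agent.Lib.Helper36_ChevDataG2Eta
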