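import Cfsg.Agent.Lib.Helper36_ChevTorus
import Cfsg.Agent.Lib.Helper36_ChevDataG2CA

set_option autoImplicit false
set_option Elab.async false

/-! Type G2: the fundamental reflections are involutions on the root indices and act on the Cartan integers by `A_{p_j, w_i s} = A_{p_j, s} - A_{p_i, s} A_{p_j, p_i}` (table check). Generated file. -/

namespace Cfsg.Agent.Lib.Helper36_ChevDataG2RC

open Cfsg Cfsg.Lie Cfsg.Agent.Lib.Helper36_ChevHConj Cfsg.Agent.Lib.Helper36_ChevTorus
  Cfsg.Agent.Lib.Helper36_ChevDataG2CA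

theorem rc0_0_12 : ReflCartanRange chevG2 cartTbl 0 0 12 := by decide +kernel

theorem rc0 : ReflCartanRange chevG2 cartTbl 0 0 12 := rc0_0_12

theorem rc1_0_12 : ReflCartanRange chevG2 cartTbl 1 0 12 := by decide +kernel

theorem rc1 : ReflCartanRange chevG2 cartTbl 1 0 12 := rc1_0_12

theorem reflCartanOK : ReflCartanOK chevG2 := by
  refine ⟨cartTbl, tblOK, ?_⟩
  intro i hi
  have h : chevG2.rank = 2 := rfl
  rw [h] at hi
  interval_cases i
  · exact rc0
  · exact rc1

end Cfsg.Agent.Lib.Helper36_ChevDataG2RC
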