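import Cfsg.Agent.Lib.Helper36_WeylLit

set_option autoImplicit false
set_option Elab.async false

/-! Type G2: the reflections, the negation and the positivity of the roots as literal tables. Generated file. -/

namespace Cfsg.Agent.Lib.Helper36_ChevDataG2Lit

open Cfsg.Agent.Lib.Helper36_WeylLit

/-- The tables. -/
def lit : RootLit where
  n := 12
  rank := 2
  refl := [3411626608196089407097472256, 3108190913232640688152248321]
  neg := 1218426182456967898401291
  pos := 310698676526525710268891136

theorem wf : lit.WF := by decide +kernel

end Cfsg.Agent.Lib.Helper36_ChevDataG2Lit
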