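import Cfsg.Agent.Lib.Helper36_ChevPerf
import Cfsg.Prelude.Def_ChevG2

set_option autoImplicit false
set_option Elab.async false

/-! Type G2: for each root a fundamental coroot pairing with it to `±1` or `±2`, and a list of steps `(r, a, b)` in
which the commutator formula for `(a, b)` starts with the root element of `r`. Generated file. -/

namespace Cfsg.Agent.Lib.Helper36_ChevDataG2Perf

open Cfsg Cfsg.Lie Cfsg.Agent.Lib.Helper36_ChevPerf

/-- The fundamental coroots. -/
def tor : List ℕ :=
  [1, 1, 0, 0, 1, 1, 1, 1, 0, 0, 1, 1]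

/-- The steps. -/
def steps : List (ℕ × ℕ × ℕ) :=
  [(0, 1, 5), (1, 0, 6), (2, 3, 4), (3, 4, 5), (4, 3, 6), (5, 0, 10), (6, 1, 11), (7, 2, 10), (8, 2, 11), (10, 5, 11), (11, 6, 10), (9, 7, 8)]

theorem torOK : TorOK chevG2 tor := by decide +kernel

theorem perfOK : perfCheck chevG2 true steps = true := by decide +kernel

end Cfsg.Agent.Lib.Helper36_ChevDataG2Perf
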