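import Cfsg.Agent.Lib.Helper36_ChevDataG2Lit

set_option autoImplicit false
set_option Elab.async false
set_option maxRecDepth 100000

/-! Type G2, step 0 of the chain of parabolic subgroups: nodes [0, 1] to nodes [1], with the minimal coset
representatives. Generated file. -/

namespace Cfsg.Agent.Lib.Helper36_ChevDataG2Wc0

open Cfsg.Agent.Lib.Helper36_WeylLit Cfsg.Agent.Lib.Helper36_WeylLit.RootLit Cfsg.Agent.Lib.Helper36_ChevDataG2Lit

/-- The step. -/
def step : Step where
  J := [0, 1]
  J' := [1]
  V := [
    ⟨0, 0, [], 3416467015609337987117220096⟩,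
    ⟨0, 0, [0], 3411626608196089407097472256⟩,
    ⟨1, 1, [1, 0], 3100927950116869625274959361⟩,
    ⟨2, 0, [0, 1, 0], 1858138021934780561305831941⟩,
    ⟨3, 1, [1, 0, 1, 0], 1547439345480313544603339526⟩,
    ⟨4, 0, [0, 1, 0, 1, 0], 309494528559154266863373066⟩]
  cert := [
    [(1, none), (0, some 1)],
    [(0, none), (2, none)],
    [(3, none), (1, none)],
    [(2, none), (4, none)],
    [(5, none), (3, none)],
    [(4, none), (5, some 1)]]
  T := [7, 8]
  R := [6]
  lens := [0, 1, 2, 3, 4, 5]

theorem stepOK : lit.StepOK step where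
  hJ := by decide +kernel
  hJ' := by decide +kernel
  hne := by decide +kernel
  entries := by decide +kernel
  certs := by decide +kernel
  hT := by decide +kernel
  hTnd := by decide +kernel
  hTstab := by decide +kernel
  hTnodup := by decide +kernel
  hR := by decide +kernel
  hRstab := by decide +kernel
  hRpos := by decide +kernel
  hlens := by decide +kernel

end Cfsg.Agent.Lib.Helper36_ChevDataG2Wc0
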