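import Cfsg.Agent.Lib.Helper36_WeylPoin
import Cfsg.Agent.Lib.Helper36_ChevDataG2Wc0
import Cfsg.Agent.Lib.Helper36_ChevDataG2Wc1

set_option autoImplicit false
set_option Elab.async false

/-! Type G2: the chain of parabolic subgroups and the product form of the sum of `q ^ l(w)` over the Weyl group.
Generated file. -/

namespace Cfsg.Agent.Lib.Helper36_ChevDataG2Wc

open Cfsg.Agent.Lib.Helper36_WeylChain Cfsg.Agent.Lib.Helper36_WeylLit Cfsg.Agent.Lib.Helper36_WeylLit.RootLit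
  Cfsg.Agent.Lib.Helper36_WeylPoin Cfsg.Agent.Lib.Helper36_PolyList Cfsg.Agent.Lib.Helper36_ChevDataG2Lit

/-- The steps. -/
def steps : List Step := [Cfsg.Agent.Lib.Helper36_ChevDataG2Wc0.step, Cfsg.Agent.Lib.Helper36_ChevDataG2Wc1.step]

theorem chainOK : ChainOK lit steps [0, 1] :=
  ⟨rfl, Cfsg.Agent.Lib.Helper36_ChevDataG2Wc0.stepOK, ⟨rfl, Cfsg.Agent.Lib.Helper36_ChevDataG2Wc1.stepOK, rfl⟩⟩

theorem polyOK : peq (pprod (List.replicate 2 [-1, 1] ++ steps.map (fun st => hist st.lens)))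
    (pprod (([2, 6] : List ℕ).map (fun d => padd (mono d) [-1]))) = true := by decide +kernel

/-- `(q - 1)^l ∑_w q^l(w) = ∏ (q^d - 1)`. -/
theorem poin (q : ℕ) (hq : 1 ≤ q) :
    (q - 1) ^ 2 * pSum (inv lit.Pos) q (lit.W wf [0, 1]) =
      (([2, 6] : List ℕ).map (fun d => q ^ d - 1)).prod :=
  poincare lit wf steps _ chainOK _ 2 polyOK q hq

end Cfsg.Agent.Lib.Helper36_ChevDataG2Wc
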