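import Cfsg.Agent.Lib.Helper36_ChevGen
import Cfsg.Prelude.Def_ChevAutomorphisms

set_option autoImplicit false

/-!
Graph automorphisms of a Chevalley group on all root elements: if an automorphism `φ` permutes the fundamental root
elements `x_{±p_i}(t)` as a permutation `π` of the nodes does, then `φ (x_r(t)) = x_{π r}(± t)` for every root `r`.
The hypotheses on the datum are checks on the tables: the relation `n_i x_s(t) = x_{w_i s}(± t) n_i` for all
pairs `(i, s)`, and the compatibility of `π` on root indices with the fundamental reflections.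
-/

namespace Cfsg.Agent.Lib.Helper36_ChevGraph

open Cfsg Cfsg.Lie Cfsg.Agent.Lib.Helper36_ChevSparse Cfsg.Agent.Lib.Helper36_ChevCoeff
  Cfsg.Agent.Lib.Helper36_ChevAdd Cfsg.Agent.Lib.Helper36_ChevWeyl Cfsg.Agent.Lib.Helper36_ChevIdx
  Cfsg.Agent.Lib.Helper36_ChevGen

variable (D : ChevalleyDatum)

/-- The conjugation check for the fundamental reflection `i` and all roots `s` with `a ≤ s < b`. -/
def ConjRange (k : ℕ) (Nl : NLits) (i a b : ℕ) : Prop := ∀ s < b, a ≤ s → conjCheck D k Nl i s = true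

instance (k : ℕ) (Nl : NLits) (i a b : ℕ) : Decidable (ConjRange D k Nl i a b) := by
  unfold ConjRange
  infer_instance

theorem conjRange_trans (k : ℕ) (Nl : NLits) (i : ℕ) {a b c : ℕ} (h1 : ConjRange D k Nl i a b)
    (h2 : ConjRange D k Nl i b c) : ConjRange D k Nl i a c := by
  intro s hs has
  by_cases h : s < b
  · exact h1 s h has
  · exact h2 s hs (Nat.le_of_not_lt h)

/-- The conjugation check for all pairs `(i, s)`. -/
def AllConjOK (k : ℕ) (Nl : NLits) : Prop := ∀ i < D.rank, ConjRange D k Nl i 0 D.nroots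

/-- Compatibility of a permutation of the nodes with the tables: the induced map on root indices sends `±p_i` to
`±p_{π i}`, stays within the root indices, and commutes with the fundamental reflections. -/
def PermOK (π : Equiv.Perm (Fin D.rank)) : Prop :=
  (∀ i : Fin D.rank, D.permRoot π (D.simple i) = D.simple (π i) ∧
    D.permRoot π (D.neg (D.simple i)) = D.neg (D.simple (π i))) ∧
  (∀ s : Fin D.nroots, D.permRoot π s < D.nroots) ∧
  (∀ i : Fin D.rank, ∀ s : Fin D.nroots, D.reflectRoot (π i) (D.permRoot π s) = D.permRoot π (D.reflectRoot i s))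

instance (π : Equiv.Perm (Fin D.rank)) : Decidable (PermOK D π) := by
  unfold PermOK
  infer_instance

/-- Decidability of being a symmetry of the diagram. -/
instance decidableIsDiagramSymmetry (π : Equiv.Perm (Fin D.rank)) : Decidable (D.IsDiagramSymmetry π) := by
  unfold ChevalleyDatum.IsDiagramSymmetry
  infer_instance

section
variable (hlen : ChainLenOK D) (hadd : AddOK D) (hsimple : SimpleOK D) (Nl : NLits) (hNl : NLitOK D Nl)
  (F : Type*) [Field F] (k : ℕ)

theorem xGL_mem_group (r : ℕ) (hr : r < D.nroots) (t : F) : xGL D hlen hadd F r t ∈ D.group F := by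
  apply Subgroup.subset_closure
  refine ⟨⟨r, hr⟩, t, ?_⟩
  rw [xGL_coe]
  unfold ChevalleyDatum.x
  rw [dif_pos hr]

/-- The root element `x_r(t)` as an element of the Chevalley group. -/
noncomputable def xG (r : ℕ) (hr : r < D.nroots) (t : F) : ↥(D.group F) :=
  ⟨xGL D hlen hadd F r t, xGL_mem_group D hlen hadd F r hr t⟩

theorem xG_coe (r : ℕ) (hr : r < D.nroots) (t : F) :
    (((xG D hlen hadd F r hr t : ↥(D.group F)) : GL D.Idx F) : Matrix D.Idx D.Idx F) = D.x F r t := by
  unfold xG
  rw [xGL_coe]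

/-- The element `n_i = x_{p_i}(1) x_{-p_i}(-1) x_{p_i}(1)` of the Chevalley group. -/
noncomputable def nG (i : ℕ) (hi : i < D.rank) : ↥(D.group F) :=
  xG D hlen hadd F (D.simple i) (hsimple i hi).1 1 *
    (xG D hlen hadd F (D.neg (D.simple i)) (hsimple i hi).2 (-1) * xG D hlen hadd F (D.simple i) (hsimple i hi).1 1)

theorem nMat_eq_prod (r : ℕ) :
    D.nMat F r 1 = D.x F r 1 * (D.x F (D.neg r) (-1) * D.x F r 1) := by
  unfold ChevalleyDatum.nMat ChevalleyDatum.nWord ChevalleyDatum.wordMat
  simp only [List.map_cons, List.map_nil, List.prod_cons, List.prod_nil, mul_one, inv_one]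

theorem nG_coe (i : ℕ) (hi : i < D.rank) :
    (((nG D hlen hadd hsimple F i hi : ↥(D.group F)) : GL D.Idx F) : Matrix D.Idx D.Idx F) =
      D.nMat F (D.simple i) 1 := by
  unfold nG
  rw [nMat_eq_prod]
  simp only [Subgroup.coe_mul, Units.val_mul, xG_coe]

variable (π : Equiv.Perm (Fin D.rank)) (φ : ↥(D.group F) ≃* ↥(D.group F))

/-- The hypothesis on `φ`: it permutes the fundamental root elements as `π` does. -/
def PermutesFund : Prop :=
  ∀ (g : ↥(D.group F)) (i : Fin D.rank) (t : F),
      (((g : GL D.Idx F) : Matrix D.Idx D.Idx F) = D.x F (D.simple i) t →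
        ((φ g : GL D.Idx F) : Matrix D.Idx D.Idx F) = D.x F (D.simple (π i)) t) ∧
      (((g : GL D.Idx F) : Matrix D.Idx D.Idx F) = D.x F (D.neg (D.simple i)) t →
        ((φ g : GL D.Idx F) : Matrix D.Idx D.Idx F) = D.x F (D.neg (D.simple (π i))) t)

include hlen hadd hsimple in
theorem phi_nG (hφ : PermutesFund D F π φ) (i : Fin D.rank) :
    (((φ (nG D hlen hadd hsimple F i i.isLt) : ↥(D.group F)) : GL D.Idx F) : Matrix D.Idx D.Idx F) =
      D.nMat F (D.simple (π i)) 1 := by
  unfold nG
  rw [map_mul, map_mul, nMat_eq_prod]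
  simp only [Subgroup.coe_mul, Units.val_mul]
  have h1 := (hφ (xG D hlen hadd F (D.simple i) (hsimple i i.isLt).1 1) i 1).1 (xG_coe D hlen hadd F _ _ _)
  have h2 := (hφ (xG D hlen hadd F (D.neg (D.simple i)) (hsimple i i.isLt).2 (-1)) i (-1)).2
    (xG_coe D hlen hadd F _ _ _)
  rw [h1, h2]

/-- The root `r` is a root index and `φ` sends `x_r(t)` to `x_{π r}(ε t)` for a sign `ε`. -/
def GoodPhi (r : ℕ) : Prop :=
  r < D.nroots ∧ ∃ ε : F, (ε = 1 ∨ ε = -1) ∧ ∀ (g : ↥(D.group F)) (t : F),
      ((g : GL D.Idx F) : Matrix D.Idx D.Idx F) = D.x F r t →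
        ((φ g : GL D.Idx F) : Matrix D.Idx D.Idx F) = D.x F (D.permRoot π r) (ε * t)

include hsimple in
theorem goodPhi_init (hπ : PermOK D π) (hφ : PermutesFund D F π φ) :
    ∀ r ∈ initReached D, GoodPhi D F π φ r := by
  intro r hr
  unfold initReached at hr
  rw [List.mem_flatMap] at hr
  obtain ⟨i, hi, hr⟩ := hr
  rw [List.mem_range] at hi
  simp only [List.mem_cons, List.not_mem_nil, or_false] at hr
  obtain ⟨h1, h2⟩ := hsimple i hi
  obtain ⟨e1, e2⟩ := hπ.1 ⟨i, hi⟩
  rcases hr with rfl | rfl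
  · refine ⟨h1, 1, Or.inl rfl, fun g t hg => ?_⟩
    rw [one_mul]
    have := (hφ g ⟨i, hi⟩ t).1 hg
    rw [this]
    exact congrArg (fun z => D.x F z t) e1.symm
  · refine ⟨h2, 1, Or.inl rfl, fun g t hg => ?_⟩
    rw [one_mul]
    have := (hφ g ⟨i, hi⟩ t).2 hg
    rw [this]
    exact congrArg (fun z => D.x F z t) e2.symm

include hlen hadd hsimple hNl in
theorem goodPhi_step (hall : AllConjOK D k Nl) (hπ : PermOK D π) (hφ : PermutesFund D F π φ)
    (i : ℕ) (hi : i < D.rank) (s : ℕ) (hs : GoodPhi D F π φ s) :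
    GoodPhi D F π φ (D.reflectRoot i s) := by
  obtain ⟨hslt, εs, hεs, hsφ⟩ := hs
  -- the relation for `(i, s)`
  have hc1 : conjCheck D k Nl i s = true := hall i hi s hslt (Nat.zero_le _)
  have hr' : D.reflectRoot i s < D.nroots := by
    unfold conjCheck at hc1
    rw [Bool.and_eq_true, decide_eq_true_eq] at hc1
    exact hc1.1
  obtain ⟨η, hη, hrel⟩ := nMat_mul_x D hlen hadd hsimple Nl hNl F k i s hi hslt hc1
  -- the relation for `(π i, π s)`
  have hπs : D.permRoot π s < D.nroots := hπ.2.1 ⟨s, hslt⟩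
  have hc2 : conjCheck D k Nl (π ⟨i, hi⟩) (D.permRoot π s) = true :=
    hall _ (π ⟨i, hi⟩).isLt _ hπs (Nat.zero_le _)
  obtain ⟨η', hη', hrel'⟩ := nMat_mul_x D hlen hadd hsimple Nl hNl F k _ _ (π ⟨i, hi⟩).isLt hπs hc2
  have hcomm : D.reflectRoot (π ⟨i, hi⟩) (D.permRoot π s) = D.permRoot π (D.reflectRoot i s) :=
    hπ.2.2 ⟨i, hi⟩ ⟨s, hslt⟩
  refine ⟨hr', (η' : F) * εs * (η : F), ?_, fun g t hg => ?_⟩
  · rcases hη with h | h <;> rcases hη' with h' | h' <;> rcases hεs with h'' | h'' <;> rw [h, h', h''] <;> simp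
  · -- the elements of the group
    have hηη : (η : F) * ((η : F) * t) = t := by
      rcases hη with h | h <;> rw [h] <;> simp
    set gs := xG D hlen hadd F s hslt ((η : F) * t) with hgs
    set ni := nG D hlen hadd hsimple F i hi with hni
    have hprod : ni * gs = g * ni := by
      apply Subtype.ext
      apply Units.ext
      simp only [Subgroup.coe_mul, Units.val_mul]
      rw [nG_coe, xG_coe, hg, hrel, hηη]
    have hφprod : φ ni * φ gs = φ g * φ ni := by rw [← map_mul, ← map_mul, hprod]
    have hφprod' : (((φ ni : ↥(D.group F)) : GL D.Idx F) : Matrix D.Idx D.Idx F) *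
        (((φ gs : ↥(D.group F)) : GL D.Idx F) : Matrix D.Idx D.Idx F) =
        (((φ g : ↥(D.group F)) : GL D.Idx F) : Matrix D.Idx D.Idx F) *
        (((φ ni : ↥(D.group F)) : GL D.Idx F) : Matrix D.Idx D.Idx F) := by
      have := congrArg (fun z : ↥(D.group F) => ((z : GL D.Idx F) : Matrix D.Idx D.Idx F)) hφprod
      simpa only [Subgroup.coe_mul, Units.val_mul] using this
    have h1 : (((φ ni : ↥(D.group F)) : GL D.Idx F) : Matrix D.Idx D.Idx F) =
        D.nMat F (D.simple (π ⟨i, hi⟩)) 1 := phi_nG D hlen hadd hsimple F π φ hφ ⟨i, hi⟩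
    have h2 : (((φ gs : ↥(D.group F)) : GL D.Idx F) : Matrix D.Idx D.Idx F) =
        D.x F (D.permRoot π s) (εs * ((η : F) * t)) := hsφ gs _ (xG_coe D hlen hadd F _ _ _)
    rw [h2] at hφprod'
    have hunit : IsUnit (((φ ni : ↥(D.group F)) : GL D.Idx F) : Matrix D.Idx D.Idx F) :=
      ⟨(φ ni : GL D.Idx F), rfl⟩
    have e : D.x F (D.permRoot π (D.reflectRoot i s)) ((η' : F) * (εs * ((η : F) * t))) *
        (((φ ni : ↥(D.group F)) : GL D.Idx F) : Matrix D.Idx D.Idx F) =
        (((φ g : ↥(D.group F)) : GL D.Idx F) : Matrix D.Idx D.Idx F) *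
        (((φ ni : ↥(D.group F)) : GL D.Idx F) : Matrix D.Idx D.Idx F) := by
      rw [← hφprod', h1, hrel', hcomm]
    have := hunit.mul_left_injective e
    rw [← this]
    congr 1
    ring

include hlen hadd hsimple hNl in
theorem goodPhi_run (hall : AllConjOK D k Nl) (hπ : PermOK D π) (hφ : PermutesFund D F π φ)
    (T : List (ℕ × ℕ × ℤ)) : ∀ (R R' : List ℕ), (∀ r ∈ R, GoodPhi D F π φ r) →
    reachRun D T R = some R' → ∀ r ∈ R', GoodPhi D F π φ r := by
  induction T with
  | nil =>
    intro R R' hR h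
    simp only [reachRun, Option.some.injEq] at h
    subst h
    exact hR
  | cons p T ih =>
    intro R R' hR h
    simp only [reachRun] at h
    cases hstep : reachStep D R p with
    | none => rw [hstep] at h; simp at h
    | some R1 =>
      rw [hstep] at h
      refine ih R1 R' ?_ h
      unfold reachStep at hstep
      split_ifs at hstep with hc
      obtain ⟨hi, hmem⟩ := hc
      simp only [Option.some.injEq] at hstep
      subst hstep
      intro r hr
      rw [List.mem_cons] at hr
      rcases hr with rfl | hr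
      · exact goodPhi_step D hlen hadd hsimple Nl hNl F k π φ hall hπ hφ p.1 hi p.2.1 (hR _ hmem)
      · exact hR r hr

include hlen hadd hsimple hNl in
/-- If `φ` permutes the fundamental root elements as `π` does, then `φ (x_r(t)) = x_{π r}(± t)` for every root. -/
theorem goodPhi_all (hall : AllConjOK D k Nl) (hπ : PermOK D π) (hφ : PermutesFund D F π φ)
    (T : List (ℕ × ℕ × ℤ)) (hreach : reachCheck D T = true) (r : ℕ) (hr : r < D.nroots) :
    GoodPhi D F π φ r := by
  unfold reachCheck at hreach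
  cases hrun : reachRun D T (initReached D) with
  | none => rw [hrun] at hreach; simp at hreach
  | some R =>
    rw [hrun] at hreach
    simp only [List.all_eq_true, List.mem_range] at hreach
    have hmem : r ∈ R := by simpa using hreach r hr
    exact goodPhi_run D hlen hadd hsimple Nl hNl F k π φ hall hπ hφ T _ R
      (goodPhi_init D hsimple F π φ hπ hφ) hrun r hmem

end

end Cfsg.Agent.Lib.Helper36_ChevGraph
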