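import Cfsg.Agent.Lib.Helper36_ChevCoo

set_option autoImplicit false

/-!
Cheaper kernel computations with sparse matrices: normal forms (for equality checks) and matrices stored by
columns or by rows as indexed lists (for products by lookup).
-/

namespace Cfsg.Agent.Lib.Helper36_ChevIdx

open Cfsg Cfsg.Lie Cfsg.Agent.Lib.Helper36_ChevSparse Cfsg.Agent.Lib.Helper36_ChevCoeff
  Cfsg.Agent.Lib.Helper36_ChevCoo

/-- Insert a triple into a list sorted by position, adding values at equal positions. -/
def ins (p : ℕ × ℕ × ℤ) : Coo → Coo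
  | [] => [p]
  | q :: L =>
    bif (Nat.beq p.1 q.1 && Nat.beq p.2.1 q.2.1) then (p.1, p.2.1, p.2.2 + q.2.2) :: L
    else bif (Nat.blt p.1 q.1 || (Nat.beq p.1 q.1 && Nat.blt p.2.1 q.2.1)) then p :: q :: L
    else q :: ins p L

theorem entry_ins (p : ℕ × ℕ × ℤ) (L : Coo) (i j : ℕ) :
    entry (ins p L) i j = entry [p] i j + entry L i j := by
  induction L with
  | nil => simp [ins]
  | cons q L ih =>
    unfold ins
    by_cases h1 : (Nat.beq p.1 q.1 && Nat.beq p.2.1 q.2.1) = true
    · rw [h1, cond_true]
      rw [Bool.and_eq_true] at h1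
      have h1 : p.1 = q.1 ∧ p.2.1 = q.2.1 := ⟨Nat.eq_of_beq_eq_true h1.1, Nat.eq_of_beq_eq_true h1.2⟩
      simp only [entry_cons, entry_nil, add_zero]
      by_cases h2 : p.1 = i ∧ p.2.1 = j
      · have h3 : q.1 = i ∧ q.2.1 = j := ⟨h1.1 ▸ h2.1, h1.2 ▸ h2.2⟩
        rw [if_pos h2, if_pos h2, if_pos h3]; ring
      · have h3 : ¬ (q.1 = i ∧ q.2.1 = j) := fun h => h2 ⟨h1.1.symm ▸ h.1, h1.2.symm ▸ h.2⟩
        rw [if_neg h2, if_neg h2, if_neg h3]; ring
    · rw [Bool.not_eq_true] at h1
      rw [h1, cond_false]
      by_cases h2 : (Nat.blt p.1 q.1 || (Nat.beq p.1 q.1 && Nat.blt p.2.1 q.2.1)) = true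
      · rw [h2, cond_true]
        simp only [entry_cons, entry_nil, add_zero]
      · rw [Bool.not_eq_true] at h2
        rw [h2, cond_false, entry_cons, ih, entry_cons, entry_cons, entry_nil]
        ring

/-- Normal form: sorted by position, values at equal positions added. -/
def norm (A : Coo) : Coo := A.foldr ins []

theorem entry_norm (A : Coo) (i j : ℕ) : entry (norm A) i j = entry A i j := by
  induction A with
  | nil => rfl
  | cons p A ih =>
    have : norm (p :: A) = ins p (norm A) := rfl
    rw [this, entry_ins, ih, entry_cons, entry_cons, entry_nil, add_zero]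

/-- Remove the entries with value zero. -/
def dropZeros (A : Coo) : Coo := A.filter fun p => p.2.2 != 0

theorem entry_dropZeros (A : Coo) (i j : ℕ) : entry (dropZeros A) i j = entry A i j := by
  induction A with
  | nil => rfl
  | cons p A ih =>
    unfold dropZeros at ih ⊢
    by_cases h : p.2.2 = 0
    · have hf : List.filter (fun p : ℕ × ℕ × ℤ => p.2.2 != 0) (p :: A) =
          List.filter (fun p : ℕ × ℕ × ℤ => p.2.2 != 0) A := by simp [h]
      rw [hf, entry_cons, ih, h]; simp
    · have hf : List.filter (fun p : ℕ × ℕ × ℤ => p.2.2 != 0) (p :: A) =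
          p :: List.filter (fun p : ℕ × ℕ × ℤ => p.2.2 != 0) A := by simp [h]
      rw [hf, entry_cons, entry_cons, ih]

/-- Equality check through normal forms. -/
def normEq (A B : Coo) : Bool := dropZeros (norm A) == dropZeros (norm B)

theorem normEq_sound (A B : Coo) (h : normEq A B = true) (i j : ℕ) : entry A i j = entry B i j := by
  unfold normEq at h
  have h' : dropZeros (norm A) = dropZeros (norm B) := by simpa using h
  rw [← entry_norm A, ← entry_norm B, ← entry_dropZeros (norm A), ← entry_dropZeros (norm B), h']

/-! ### merge sort (bottom-up, with fuel) and the faster normal form -/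

/-- Position order: by row, then by column. -/
def posLe (a b : ℕ × ℕ × ℤ) : Bool := Nat.blt a.1 b.1 || (Nat.beq a.1 b.1 && Nat.ble a.2.1 b.2.1)

/-- Merge two lists (sorted by position); when the fuel runs out the rest is appended. -/
def mergeFuel : ℕ → Coo → Coo → Coo
  | 0, A, B => A ++ B
  | _ + 1, [], B => B
  | _ + 1, A, [] => A
  | f + 1, a :: A, b :: B =>
    bif posLe a b then a :: mergeFuel f A (b :: B) else b :: mergeFuel f (a :: A) B

theorem entry_mergeFuel (f : ℕ) : ∀ (A B : Coo) (i j : ℕ),
    entry (mergeFuel f A B) i j = entry A i j + entry B i j := by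
  induction f with
  | zero => intro A B i j; simp [mergeFuel, entry_append]
  | succ f ih =>
    intro A B i j
    cases A with
    | nil => simp [mergeFuel]
    | cons a A =>
      cases B with
      | nil => simp [mergeFuel]
      | cons b B =>
        simp only [mergeFuel]
        cases posLe a b
        · simp only [cond_false, entry_cons, ih]; ring
        · simp only [cond_true, entry_cons, ih]; ring

/-- Merge adjacent pairs of lists. -/
def mergePairs (f : ℕ) : List Coo → List Coo
  | A :: B :: rest => mergeFuel f A B :: mergePairs f rest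
  | l => l

/-- The total entry of a list of matrices. -/
def entryLL (LL : List Coo) (i j : ℕ) : ℤ := (LL.map fun A => entry A i j).sum

theorem entryLL_mergePairs (f : ℕ) : ∀ (LL : List Coo) (i j : ℕ),
    entryLL (mergePairs f LL) i j = entryLL LL i j
  | [], i, j => rfl
  | [A], i, j => rfl
  | A :: B :: rest, i, j => by
    simp only [mergePairs, entryLL, List.map_cons, List.sum_cons, entry_mergeFuel]
    have := entryLL_mergePairs f rest i j
    unfold entryLL at this
    rw [this]; ring

/-- Iterate `mergePairs`. -/
def mergeIter (f : ℕ) : ℕ → List Coo → List Coo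
  | 0, LL => LL
  | k + 1, LL => mergeIter f k (mergePairs f LL)

theorem entryLL_mergeIter (f : ℕ) : ∀ (k : ℕ) (LL : List Coo) (i j : ℕ),
    entryLL (mergeIter f k LL) i j = entryLL LL i j
  | 0, LL, i, j => rfl
  | k + 1, LL, i, j => by
    simp only [mergeIter]
    rw [entryLL_mergeIter f k, entryLL_mergePairs]

theorem entry_flatten (LL : List Coo) (i j : ℕ) : entry LL.flatten i j = entryLL LL i j := by
  induction LL with
  | nil => rfl
  | cons A LL ih =>
    rw [List.flatten_cons, entry_append, ih]
    simp [entryLL]

/-- Merge sort by position (`k` rounds of merging, fuel `f` for each merge). -/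
def msort (f k : ℕ) (A : Coo) : Coo := (mergeIter f k (A.map fun a => [a])).flatten

theorem entry_msort (f k : ℕ) (A : Coo) (i j : ℕ) : entry (msort f k A) i j = entry A i j := by
  unfold msort
  rw [entry_flatten, entryLL_mergeIter]
  induction A with
  | nil => rfl
  | cons a A ih =>
    simp only [entryLL, List.map_cons, List.sum_cons] at ih ⊢
    rw [ih, entry_cons, entry_cons, entry_nil, add_zero]

/-- Add up adjacent entries at the same position. -/
def combineAux (cur : ℕ × ℕ × ℤ) : Coo → Coo
  | [] => [cur]
  | b :: L =>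
    bif (Nat.beq cur.1 b.1 && Nat.beq cur.2.1 b.2.1) then combineAux (cur.1, cur.2.1, cur.2.2 + b.2.2) L
    else cur :: combineAux b L

theorem entry_combineAux : ∀ (L : Coo) (cur : ℕ × ℕ × ℤ) (i j : ℕ),
    entry (combineAux cur L) i j = entry [cur] i j + entry L i j
  | [], cur, i, j => by simp [combineAux]
  | b :: L, cur, i, j => by
    simp only [combineAux]
    by_cases h1 : (Nat.beq cur.1 b.1 && Nat.beq cur.2.1 b.2.1) = true
    · rw [h1, cond_true, entry_combineAux L]
      rw [Bool.and_eq_true] at h1
      have h1 : cur.1 = b.1 ∧ cur.2.1 = b.2.1 := ⟨Nat.eq_of_beq_eq_true h1.1, Nat.eq_of_beq_eq_true h1.2⟩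
      simp only [entry_cons, entry_nil, add_zero]
      by_cases h2 : cur.1 = i ∧ cur.2.1 = j
      · have h3 : b.1 = i ∧ b.2.1 = j := ⟨h1.1 ▸ h2.1, h1.2 ▸ h2.2⟩
        rw [if_pos h2, if_pos h2, if_pos h3]; ring
      · have h3 : ¬ (b.1 = i ∧ b.2.1 = j) := fun h => h2 ⟨h1.1.symm ▸ h.1, h1.2.symm ▸ h.2⟩
        rw [if_neg h2, if_neg h2, if_neg h3]; ring
    · rw [Bool.not_eq_true] at h1
      rw [h1, cond_false, entry_cons, entry_combineAux L]
      simp only [entry_cons, entry_nil, add_zero]

/-- Add up adjacent entries at the same position. -/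
def combine : Coo → Coo
  | [] => []
  | a :: L => combineAux a L

theorem entry_combine (A : Coo) (i j : ℕ) : entry (combine A) i j = entry A i j := by
  cases A with
  | nil => rfl
  | cons a L => simp only [combine, entry_combineAux, entry_cons, entry_nil, add_zero]

/-- The faster normal form: merge sort (with `k` rounds), then adding up equal positions and dropping zeros. -/
def norm2 (k : ℕ) (A : Coo) : Coo := dropZeros (combine (msort (A.length) k A))

theorem entry_norm2 (k : ℕ) (A : Coo) (i j : ℕ) : entry (norm2 k A) i j = entry A i j := by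
  unfold norm2
  rw [entry_dropZeros, entry_combine, entry_msort]

/-- Equality check through the faster normal forms (`k` rounds of merging: `2 ^ k` should be at least the
lengths for the check to succeed, but it is sound for any `k`). -/
def normEq2 (k : ℕ) (A B : Coo) : Bool := norm2 k A == norm2 k B

theorem normEq2_sound (k : ℕ) (A B : Coo) (h : normEq2 k A B = true) (i j : ℕ) : entry A i j = entry B i j := by
  unfold normEq2 at h
  have h' : norm2 k A = norm2 k B := by simpa using h
  rw [← entry_norm2 k A, ← entry_norm2 k B, h']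

/-! ### matrices stored by columns or by rows -/

/-- An indexed sparse matrix: the `k`-th element lists the entries (index, value) of column (or row) `k`. -/
abbrev Idxd := List (List (ℕ × ℤ))

/-- Coordinate form of a matrix stored by columns (first column has index `off`). -/
def colsToCooAux : ℕ → Idxd → Coo
  | _, [] => []
  | off, v :: L => (v.map fun q => (q.1, off, q.2)) ++ colsToCooAux (off + 1) L

/-- Coordinate form of a matrix stored by columns. -/
def colsToCoo (Nc : Idxd) : Coo := colsToCooAux 0 Nc

/-- Coordinate form of a matrix stored by rows (first row has index `off`). -/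
def rowsToCooAux : ℕ → Idxd → Coo
  | _, [] => []
  | off, v :: L => (v.map fun q => (off, q.1, q.2)) ++ rowsToCooAux (off + 1) L

/-- Coordinate form of a matrix stored by rows. -/
def rowsToCoo (Nr : Idxd) : Coo := rowsToCooAux 0 Nr

theorem entry_map_col (v : List (ℕ × ℤ)) (c i j : ℕ) :
    entry (v.map fun q => (q.1, c, q.2)) i j = if c = j then coeffAt v i else 0 := by
  induction v with
  | nil => simp
  | cons q v ih =>
    rw [List.map_cons, entry_cons, ih, coeffAt_cons]
    by_cases h : c = j
    · by_cases h2 : q.1 = i <;> simp [h, h2]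
    · simp [h]

theorem entry_map_row (v : List (ℕ × ℤ)) (r i j : ℕ) :
    entry (v.map fun q => (r, q.1, q.2)) i j = if r = i then coeffAt v j else 0 := by
  induction v with
  | nil => simp
  | cons q v ih =>
    rw [List.map_cons, entry_cons, ih, coeffAt_cons]
    by_cases h : r = i
    · by_cases h2 : q.1 = j <;> simp [h, h2]
    · simp [h]

theorem entry_colsToCooAux (Nc : Idxd) : ∀ (off i j : ℕ),
    entry (colsToCooAux off Nc) i j = if off ≤ j then coeffAt (Nc.getD (j - off) []) i else 0 := by
  induction Nc with
  | nil => intro off i j; simp [colsToCooAux]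
  | cons v L ih =>
    intro off i j
    rw [colsToCooAux, entry_append, entry_map_col, ih]
    by_cases h1 : off = j
    · subst h1; simp
    · by_cases h2 : off ≤ j
      · have h3 : off + 1 ≤ j := by omega
        have h4 : j - off = (j - (off + 1)) + 1 := by omega
        rw [if_neg h1, if_pos h2, if_pos h3, h4, List.getD_cons_succ, zero_add]
      · have h3 : ¬ off + 1 ≤ j := by omega
        rw [if_neg h1, if_neg h2, if_neg h3, zero_add]

theorem entry_colsToCoo (Nc : Idxd) (i j : ℕ) : entry (colsToCoo Nc) i j = coeffAt (Nc.getD j []) i := by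
  unfold colsToCoo
  rw [entry_colsToCooAux]; simp

theorem entry_rowsToCooAux (Nr : Idxd) : ∀ (off i j : ℕ),
    entry (rowsToCooAux off Nr) i j = if off ≤ i then coeffAt (Nr.getD (i - off) []) j else 0 := by
  induction Nr with
  | nil => intro off i j; simp [rowsToCooAux]
  | cons v L ih =>
    intro off i j
    rw [rowsToCooAux, entry_append, entry_map_row, ih]
    by_cases h1 : off = i
    · subst h1; simp
    · by_cases h2 : off ≤ i
      · have h3 : off + 1 ≤ i := by omega
        have h4 : i - off = (i - (off + 1)) + 1 := by omega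
        rw [if_neg h1, if_pos h2, if_pos h3, h4, List.getD_cons_succ, zero_add]
      · have h3 : ¬ off + 1 ≤ i := by omega
        rw [if_neg h1, if_neg h2, if_neg h3, zero_add]

theorem entry_rowsToCoo (Nr : Idxd) (i j : ℕ) : entry (rowsToCoo Nr) i j = coeffAt (Nr.getD i []) j := by
  unfold rowsToCoo
  rw [entry_rowsToCooAux]; simp

/-- `N * E`, the matrix `N` stored by columns. -/
def mulColsLeft (Nc : Idxd) (E : Coo) : Coo :=
  E.flatMap fun t => (Nc.getD t.1 []).map fun q => (q.1, t.2.1, q.2 * t.2.2)

/-- `E * N`, the matrix `N` stored by rows. -/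
def mulRowsRight (E : Coo) (Nr : Idxd) : Coo :=
  E.flatMap fun t => (Nr.getD t.2.1 []).map fun q => (t.1, q.1, t.2.2 * q.2)

theorem coeffAt_getD_of_le (Nc : Idxd) (k i : ℕ) (h : Nc.length ≤ k) : coeffAt (Nc.getD k []) i = 0 := by
  rw [List.getD_eq_default _ _ h]; rfl

theorem entry_mulColsLeft (N : ℕ) (Nc : Idxd) (hN : Nc.length ≤ N) (E : Coo) (i j : ℕ) :
    entry (mulColsLeft Nc E) i j = ∑ k ∈ Finset.range N, entry (colsToCoo Nc) i k * entry E k j := by
  unfold mulColsLeft
  rw [entry_flatMap]
  induction E with
  | nil => simp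
  | cons t E ih =>
    rw [List.map_cons, List.sum_cons, ih]
    simp only [entry_cons, mul_add, Finset.sum_add_distrib]
    congr 1
    have h1 : entry ((Nc.getD t.1 []).map fun q => (q.1, t.2.1, q.2 * t.2.2)) i j =
        if t.2.1 = j then coeffAt (Nc.getD t.1 []) i * t.2.2 else 0 := by
      generalize Nc.getD t.1 [] = v
      induction v with
      | nil => simp
      | cons q v ihv =>
        rw [List.map_cons, entry_cons, ihv, coeffAt_cons]
        by_cases h : t.2.1 = j
        · by_cases h2 : q.1 = i <;> simp [h, h2, add_mul]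
        · simp [h]
    rw [h1]
    by_cases hk : t.1 < N
    · rw [Finset.sum_eq_single t.1]
      · rw [entry_colsToCoo]
        by_cases h : t.2.1 = j <;> simp [h]
      · intro k _ hkt
        have : ¬ (t.1 = k ∧ t.2.1 = j) := fun hh => hkt hh.1.symm
        rw [if_neg this, mul_zero]
      · intro hh; exact absurd (Finset.mem_range.mpr hk) hh
    · rw [coeffAt_getD_of_le Nc t.1 i (by omega), zero_mul]
      simp only [ite_self]
      symm
      apply Finset.sum_eq_zero
      intro k hk'
      rw [Finset.mem_range] at hk'
      have : ¬ (t.1 = k ∧ t.2.1 = j) := fun hh => hk (hh.1 ▸ hk')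
      rw [if_neg this, mul_zero]

theorem entry_mulRowsRight (N : ℕ) (Nr : Idxd) (hN : Nr.length ≤ N) (E : Coo) (i j : ℕ) :
    entry (mulRowsRight E Nr) i j = ∑ k ∈ Finset.range N, entry E i k * entry (rowsToCoo Nr) k j := by
  unfold mulRowsRight
  rw [entry_flatMap]
  induction E with
  | nil => simp
  | cons t E ih =>
    rw [List.map_cons, List.sum_cons, ih]
    simp only [entry_cons, add_mul, Finset.sum_add_distrib]
    congr 1
    have h1 : entry ((Nr.getD t.2.1 []).map fun q => (t.1, q.1, t.2.2 * q.2)) i j =
        if t.1 = i then t.2.2 * coeffAt (Nr.getD t.2.1 []) j else 0 := by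
      generalize Nr.getD t.2.1 [] = v
      induction v with
      | nil => simp
      | cons q v ihv =>
        rw [List.map_cons, entry_cons, ihv, coeffAt_cons]
        by_cases h : t.1 = i
        · by_cases h2 : q.1 = j <;> simp [h, h2, mul_add]
        · simp [h]
    rw [h1]
    by_cases hk : t.2.1 < N
    · rw [Finset.sum_eq_single t.2.1]
      · rw [entry_rowsToCoo]
        by_cases h : t.1 = i <;> simp [h]
      · intro k _ hkt
        have : ¬ (t.1 = i ∧ t.2.1 = k) := fun hh => hkt hh.2.symm
        rw [if_neg this, zero_mul]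
      · intro hh; exact absurd (Finset.mem_range.mpr hk) hh
    · rw [coeffAt_getD_of_le Nr t.2.1 j (by omega), mul_zero]
      simp only [ite_self]
      symm
      apply Finset.sum_eq_zero
      intro k hk'
      rw [Finset.mem_range] at hk'
      have : ¬ (t.1 = i ∧ t.2.1 = k) := fun hh => hk (hh.2 ▸ hk')
      rw [if_neg this, zero_mul]

/-! ### dense versions -/

variable (D : ChevalleyDatum)

theorem toMatZc_eq_of_normEq (A B : Coo) (h : normEq A B = true) : toMatZc D A = toMatZc D B := by
  ext row col
  simp only [toMatZc, Matrix.of_apply]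
  exact normEq_sound A B h _ _

theorem toMatZc_eq_of_normEq2 (k : ℕ) (A B : Coo) (h : normEq2 k A B = true) : toMatZc D A = toMatZc D B := by
  ext row col
  simp only [toMatZc, Matrix.of_apply]
  exact normEq2_sound k A B h _ _

theorem toMatZc_mulColsLeft (Nc : Idxd) (hN : Nc.length ≤ dim D) (E : Coo) :
    toMatZc D (mulColsLeft Nc E) = toMatZc D (colsToCoo Nc) * toMatZc D E := by
  ext row col
  simp only [toMatZc, Matrix.of_apply, Matrix.mul_apply, entry_mulColsLeft (dim D) Nc hN]
  exact (sum_code D (fun k => entry (colsToCoo Nc) (code D row) k * entry E k (code D col))).symm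

theorem toMatZc_mulRowsRight (Nr : Idxd) (hN : Nr.length ≤ dim D) (E : Coo) :
    toMatZc D (mulRowsRight E Nr) = toMatZc D E * toMatZc D (rowsToCoo Nr) := by
  ext row col
  simp only [toMatZc, Matrix.of_apply, Matrix.mul_apply, entry_mulRowsRight (dim D) Nr hN]
  exact (sum_code D (fun k => entry E (code D row) k * entry (rowsToCoo Nr) k (code D col))).symm

end Cfsg.Agent.Lib.Helper36_ChevIdx
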