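import Cfsg.Agent.Lib.Helper36_ChevAdd
import Cfsg.Agent.Lib.Helper36_ChevIdx

set_option autoImplicit false

/-!
The elements `n_i = n_{p_i}(1)` of a Chevalley datum as sparse integer matrices, the relation
`n_i x_s(t) = x_{w_i s}(η t) n_i` (checked on the tables for given pairs `(i, s)`, with the matrix of `n_i`
supplied as a literal table stored by columns and by rows, itself checked against the product of root elements).
-/

namespace Cfsg.Agent.Lib.Helper36_ChevWeyl

open Cfsg Cfsg.Lie Cfsg.Agent.Lib.Helper36_ChevSparse Cfsg.Agent.Lib.Helper36_ChevCoeff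
  Cfsg.Agent.Lib.Helper36_ChevCoo Cfsg.Agent.Lib.Helper36_ChevAdd Cfsg.Agent.Lib.Helper36_ChevIdx

variable (D : ChevalleyDatum)

/-- `x_r(c)` for an integer `c`, as a sparse integer matrix. -/
def Xcoo (r : ℕ) (c : ℤ) : Coo :=
  cone (dim D) ++ (csmul c (Ecoo D r 1) ++ (csmul (c ^ 2) (Ecoo D r 2) ++ csmul (c ^ 3) (Ecoo D r 3)))

theorem toMatZc_Xcoo (r : ℕ) (c : ℤ) :
    toMatZc D (Xcoo D r c) = 1 + c • EZ D r 1 + c ^ 2 • EZ D r 2 + c ^ 3 • EZ D r 3 := by
  unfold Xcoo
  rw [toMatZc_append, toMatZc_append, toMatZc_append, toMatZc_cone, toMatZc_csmul, toMatZc_csmul, toMatZc_csmul,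
    ← EZ_eq_coo, ← EZ_eq_coo, ← EZ_eq_coo]
  abel

theorem x_intCast (hlen : ChainLenOK D) (F : Type*) [Field F] (r : ℕ) (hr : r < D.nroots) (c : ℤ) :
    D.x F r (c : F) = (toMatZc D (Xcoo D r c)).map (Int.castRingHom F) := by
  unfold ChevalleyDatum.x
  rw [dif_pos hr, xMat_eq D hlen, toMatZc_Xcoo]
  simp only [EmatF_eq]
  ext i j
  simp only [Matrix.add_apply, Matrix.smul_apply, Matrix.map_apply, Matrix.one_apply, smul_eq_mul, map_add,
    map_mul, map_pow, eq_intCast, Int.cast_ite, Int.cast_one, Int.cast_zero]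

/-- The fundamental root `p_i` and its negative are root indices. -/
def SimpleOK : Prop := ∀ i < D.rank, D.simple i < D.nroots ∧ D.neg (D.simple i) < D.nroots

instance : Decidable (SimpleOK D) := by
  unfold SimpleOK
  infer_instance

/-- `n_i = x_{p_i}(1) x_{-p_i}(-1) x_{p_i}(1)` as a sparse integer matrix. -/
def Ncoo (i : ℕ) : Coo :=
  cmul (dim D) (Xcoo D (D.simple i) 1) (cmul (dim D) (Xcoo D (D.neg (D.simple i)) (-1)) (Xcoo D (D.simple i) 1))

/-- The integer matrix of `n_i`. -/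
def NZ (i : ℕ) : Matrix D.Idx D.Idx ℤ := toMatZc D (Ncoo D i)

theorem nMat_eq (hlen : ChainLenOK D) (hs : SimpleOK D) (F : Type*) [Field F] (i : ℕ) (hi : i < D.rank) :
    D.nMat F (D.simple i) 1 = (NZ D i).map (Int.castRingHom F) := by
  obtain ⟨h1, h2⟩ := hs i hi
  unfold ChevalleyDatum.nMat ChevalleyDatum.nWord ChevalleyDatum.wordMat NZ Ncoo
  simp only [List.map_cons, List.map_nil, List.prod_cons, List.prod_nil, mul_one, inv_one]
  rw [toMatZc_mul, toMatZc_mul, Matrix.map_mul, Matrix.map_mul]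
  have e1 := x_intCast D hlen F (D.simple i) h1 1
  have e2 := x_intCast D hlen F (D.neg (D.simple i)) h2 (-1)
  simp only [Int.cast_one, Int.cast_neg] at e1 e2
  rw [e1, e2]

/-- Literal tables for the `n_i`: for each `i` the matrix stored by columns and by rows. -/
abbrev NLits := List (Idxd × Idxd)

/-- The literal tables `Nc` (by columns) and `Nr` (by rows) both represent the matrix of `n_i`. -/
def NLitGood (i : ℕ) (Nc Nr : Idxd) : Prop :=
  Nc.length ≤ dim D ∧ Nr.length ≤ dim D ∧ NZ D i = toMatZc D (colsToCoo Nc) ∧ NZ D i = toMatZc D (rowsToCoo Nr)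

/-- The literal tables for `n_i` are correct: sizes, agreement with the product of root elements, and agreement
of the two storage forms. (Direct form of the check: the product is computed naively.) -/
def nLitCheck (i : ℕ) (Nc Nr : Idxd) : Bool :=
  decide (Nc.length ≤ dim D) && decide (Nr.length ≤ dim D) &&
    normEq (Ncoo D i) (colsToCoo Nc) && normEq (colsToCoo Nc) (rowsToCoo Nr)

theorem nLitGood_of_check (i : ℕ) (Nc Nr : Idxd) (hN : nLitCheck D i Nc Nr = true) : NLitGood D i Nc Nr := by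
  unfold nLitCheck at hN
  simp only [Bool.and_eq_true, decide_eq_true_eq] at hN
  obtain ⟨⟨⟨hc, hr⟩, h1⟩, h2⟩ := hN
  have e1 : NZ D i = toMatZc D (colsToCoo Nc) := toMatZc_eq_of_normEq D _ _ h1
  exact ⟨hc, hr, e1, e1.trans (toMatZc_eq_of_normEq D _ _ h2)⟩

/-- The faster form of the check of the literal tables for `n_i`: literal tables (by columns) `X1c` of `x_{p_i}(1)`
and `X2c` of `x_{-p_i}(-1)` are supplied as well and the products are computed with these; `k` is the number of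
merging rounds in the comparisons. -/
def nLitCheck2 (k i : ℕ) (X1c X2c Nc Nr : Idxd) : Bool :=
  decide (X1c.length ≤ dim D) && decide (X2c.length ≤ dim D) &&
    decide (Nc.length ≤ dim D) && decide (Nr.length ≤ dim D) &&
    normEq2 k (Xcoo D (D.simple i) 1) (colsToCoo X1c) &&
    normEq2 k (Xcoo D (D.neg (D.simple i)) (-1)) (colsToCoo X2c) &&
    normEq2 k (mulColsLeft X1c (mulColsLeft X2c (colsToCoo X1c))) (colsToCoo Nc) &&
    normEq2 k (colsToCoo Nc) (rowsToCoo Nr)

theorem nLitGood_of_check2 (k i : ℕ) (X1c X2c Nc Nr : Idxd) (hN : nLitCheck2 D k i X1c X2c Nc Nr = true) :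
    NLitGood D i Nc Nr := by
  unfold nLitCheck2 at hN
  simp only [Bool.and_eq_true, decide_eq_true_eq] at hN
  obtain ⟨⟨⟨⟨⟨⟨⟨hx1, hx2⟩, hc⟩, hr⟩, h1⟩, h2⟩, h3⟩, h4⟩ := hN
  have e1 := toMatZc_eq_of_normEq2 D k _ _ h1
  have e2 := toMatZc_eq_of_normEq2 D k _ _ h2
  have e3 := toMatZc_eq_of_normEq2 D k _ _ h3
  have e4 := toMatZc_eq_of_normEq2 D k _ _ h4
  rw [toMatZc_mulColsLeft D X1c hx1, toMatZc_mulColsLeft D X2c hx2] at e3
  have e5 : NZ D i = toMatZc D (colsToCoo Nc) := by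
    unfold NZ Ncoo
    rw [toMatZc_mul, toMatZc_mul, e1, e2, e3]
  exact ⟨hc, hr, e5, e5.trans e4⟩

/-- All literal tables are correct. -/
def NLitOK (Nl : NLits) : Prop :=
  ∀ i < D.rank, NLitGood D i (Nl.getD i ([], [])).1 (Nl.getD i ([], [])).2

/-- The check of `n_i E_{s,1} = η E_{w_i s,1} n_i` with the literal tables (`k` merging rounds in the comparison). -/
def conjCheckEta (k : ℕ) (Nc Nr : Idxd) (i s : ℕ) (η : ℤ) : Bool :=
  normEq2 k (mulColsLeft Nc (Ecoo D s 1)) (csmul η (mulRowsRight (Ecoo D (D.reflectRoot i s) 1) Nr))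

/-- The check for the pair `(i, s)`: `w_i s` is a root index and the relation holds with a sign. -/
def conjCheck (k : ℕ) (Nl : NLits) (i s : ℕ) : Bool :=
  decide (D.reflectRoot i s < D.nroots) &&
    (conjCheckEta D k (Nl.getD i ([], [])).1 (Nl.getD i ([], [])).2 i s 1 ||
      conjCheckEta D k (Nl.getD i ([], [])).1 (Nl.getD i ([], [])).2 i s (-1))

theorem NZ_E1 (k : ℕ) (Nc Nr : Idxd) (i s : ℕ) (η : ℤ) (hN : NLitGood D i Nc Nr)
    (h : conjCheckEta D k Nc Nr i s η = true) :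
    NZ D i * EZ D s 1 = η • (EZ D (D.reflectRoot i s) 1 * NZ D i) := by
  obtain ⟨hc, hr, e1, e2⟩ := hN
  have := toMatZc_eq_of_normEq2 D k _ _ h
  rw [toMatZc_mulColsLeft D Nc hc, toMatZc_csmul, toMatZc_mulRowsRight D Nr hr, ← EZ_eq_coo, ← EZ_eq_coo, ← e1,
    ← e2] at this
  exact this

/-- The three relations `n_i E_{s,k} = η^k E_{w_i s,k} n_i` over `ℤ`. -/
theorem NZ_relations (i s : ℕ) (η : ℤ)
    (e1 : NZ D i * EZ D s 1 = η • (EZ D (D.reflectRoot i s) 1 * NZ D i))
    (hs : addCheck D s = true) (hs' : addCheck D (D.reflectRoot i s) = true) :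
    NZ D i * EZ D s 2 = η ^ 2 • (EZ D (D.reflectRoot i s) 2 * NZ D i) ∧
    NZ D i * EZ D s 3 = η ^ 3 • (EZ D (D.reflectRoot i s) 3 * NZ D i) := by
  obtain ⟨a11, a12, -⟩ := EZ_relations D s hs
  obtain ⟨b11, b12, -⟩ := EZ_relations D (D.reflectRoot i s) hs'
  set N := NZ D i
  set A1 := EZ D s 1
  set A2 := EZ D s 2
  set A3 := EZ D s 3
  set B1 := EZ D (D.reflectRoot i s) 1
  set B2 := EZ D (D.reflectRoot i s) 2
  set B3 := EZ D (D.reflectRoot i s) 3
  have e2 : N * A2 = η ^ 2 • (B2 * N) := by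
    apply two_smul_cancel D 2 (by norm_num)
    calc (2 : ℤ) • (N * A2) = N * ((2 : ℤ) • A2) := by rw [Matrix.mul_smul]
      _ = N * A1 * A1 := by rw [← a11, Matrix.mul_assoc]
      _ = η • (B1 * (N * A1)) := by conv_lhs => rw [e1, Matrix.smul_mul, Matrix.mul_assoc]
      _ = η • (B1 * (η • (B1 * N))) := by rw [e1]
      _ = (η * η) • (B1 * B1 * N) := by rw [Matrix.mul_smul, smul_smul, Matrix.mul_assoc]
      _ = (2 : ℤ) • (η ^ 2 • (B2 * N)) := by
        rw [b11, Matrix.smul_mul, smul_smul, smul_smul]; congr 1; ring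
  have e3 : N * A3 = η ^ 3 • (B3 * N) := by
    apply two_smul_cancel D 3 (by norm_num)
    calc (3 : ℤ) • (N * A3) = N * ((3 : ℤ) • A3) := by rw [Matrix.mul_smul]
      _ = N * A1 * A2 := by rw [← a12, Matrix.mul_assoc]
      _ = η • (B1 * (N * A2)) := by conv_lhs => rw [e1, Matrix.smul_mul, Matrix.mul_assoc]
      _ = η • (B1 * (η ^ 2 • (B2 * N))) := by rw [e2]
      _ = (η * η ^ 2) • (B1 * B2 * N) := by rw [Matrix.mul_smul, smul_smul, Matrix.mul_assoc]
      _ = (3 : ℤ) • (η ^ 3 • (B3 * N)) := by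
        rw [b12, Matrix.smul_mul, smul_smul, smul_smul]; congr 1; ring
  exact ⟨e2, e3⟩

theorem map_relation (F : Type*) [Field F] {N A B : Matrix D.Idx D.Idx ℤ} {c : ℤ}
    (h : N * A = c • (B * N)) :
    N.map (Int.castRingHom F) * A.map (Int.castRingHom F) =
      (c : F) • (B.map (Int.castRingHom F) * N.map (Int.castRingHom F)) := by
  rw [← Matrix.map_mul, ← Matrix.map_mul, h]
  ext i j
  simp only [Matrix.map_apply, Matrix.smul_apply, smul_eq_mul, map_mul, eq_intCast]

/-- `n_i x_s(t) = x_{w_i s}(η t) n_i` over any field, from the relation between the coefficient matrices. -/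
theorem nMat_mul_x_of_rel (hlen : ChainLenOK D) (hadd : AddOK D) (hsimple : SimpleOK D) (F : Type*) [Field F]
    (i s : ℕ) (hi : i < D.rank) (hs : s < D.nroots) (hs' : D.reflectRoot i s < D.nroots) (η : ℤ)
    (e1 : NZ D i * EZ D s 1 = η • (EZ D (D.reflectRoot i s) 1 * NZ D i)) (t : F) :
    D.nMat F (D.simple i) 1 * D.x F s t =
      D.x F (D.reflectRoot i s) ((η : F) * t) * D.nMat F (D.simple i) 1 := by
  obtain ⟨e2, e3⟩ := NZ_relations D i s η e1 (hadd s hs) (hadd _ hs')
  have f1 := map_relation D F e1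
  have f2 := map_relation D F e2
  have f3 := map_relation D F e3
  rw [nMat_eq D hlen hsimple F i hi]
  unfold ChevalleyDatum.x
  rw [dif_pos hs, dif_pos hs', xMat_eq D hlen, xMat_eq D hlen]
  simp only [EmatF_eq] at f1 f2 f3 ⊢
  simp only [mul_add, add_mul, Matrix.mul_smul, Matrix.smul_mul, mul_one, one_mul, f1, f2, f3, smul_smul]
  push_cast
  congr 1
  · congr 1
    · congr 1
      congr 1
      ring
    · congr 1
      ring
  · congr 1
    ring

/-- `n_i x_s(t) = x_{w_i s}(η t) n_i` over any field, from the check. -/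
theorem nMat_mul_x (hlen : ChainLenOK D) (hadd : AddOK D) (hsimple : SimpleOK D) (Nl : NLits) (hNl : NLitOK D Nl)
    (F : Type*) [Field F] (k : ℕ)
    (i s : ℕ) (hi : i < D.rank) (hs : s < D.nroots) (h : conjCheck D k Nl i s = true) :
    ∃ η : ℤ, (η = 1 ∨ η = -1) ∧ ∀ t : F,
      D.nMat F (D.simple i) 1 * D.x F s t = D.x F (D.reflectRoot i s) ((η : F) * t) * D.nMat F (D.simple i) 1 := by
  unfold conjCheck at h
  rw [Bool.and_eq_true, Bool.or_eq_true, decide_eq_true_eq] at h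
  obtain ⟨hs', h⟩ := h
  rcases h with h | h
  · exact ⟨1, Or.inl rfl, nMat_mul_x_of_rel D hlen hadd hsimple F i s hi hs hs' 1
      (NZ_E1 D k _ _ i s 1 (hNl i hi) h)⟩
  · exact ⟨-1, Or.inr rfl, nMat_mul_x_of_rel D hlen hadd hsimple F i s hi hs hs' (-1)
      (NZ_E1 D k _ _ i s (-1) (hNl i hi) h)⟩

end Cfsg.Agent.Lib.Helper36_ChevWeyl
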