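import Cfsg.Agent.Lib.Helper36_ChevLaurent
import Cfsg.Agent.Lib.Helper36_ChevWeyl

set_option autoImplicit false

/-!
The elements `n_p(c) = x_p(c) x_{-p}(-c⁻¹) x_p(c)` and `h_p(c) = n_p(c) n_p(-1)` for a fundamental root `p = p_i`:
`n_p(c) = n_p(1) · diag(c^{-A_{p,s}})` and `h_p(c) = diag(c^{A_{p,s}})`, from checks on the tables
(identities between matrices with Laurent polynomial entries).
-/

namespace Cfsg.Agent.Lib.Helper36_ChevH

open Cfsg Cfsg.Lie Cfsg.Agent.Lib.Helper36_ChevSparse Cfsg.Agent.Lib.Helper36_ChevCoeff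
  Cfsg.Agent.Lib.Helper36_ChevCoo Cfsg.Agent.Lib.Helper36_ChevAdd Cfsg.Agent.Lib.Helper36_ChevIdx
  Cfsg.Agent.Lib.Helper36_ChevWeyl Cfsg.Agent.Lib.Helper36_ChevLaurent

variable (D : ChevalleyDatum)

/-! ### casting -/

theorem castMat_csmul (F : Type*) [Field F] (s : ℤ) (A : Coo) : castMat D F (csmul s A) = (s : F) • castMat D F A := by
  unfold castMat
  rw [toMatZc_csmul]
  ext i j
  simp only [Matrix.map_apply, Matrix.smul_apply, smul_eq_mul, map_mul, eq_intCast]

theorem castMat_cone (F : Type*) [Field F] : castMat D F (cone (dim D)) = 1 := by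
  unfold castMat
  rw [toMatZc_cone]
  ext i j
  by_cases h : i = j
  · subst h; simp
  · simp [h]

theorem castMat_Ecoo (F : Type*) [Field F] (r k : ℕ) : castMat D F (Ecoo D r k) = EmatF D F r k := by
  unfold castMat
  rw [← EZ_eq_coo, EmatF_eq]

theorem castMat_apply (F : Type*) [Field F] (A : Coo) (row col : D.Idx) :
    castMat D F A row col = ((entry A (code D row) (code D col) : ℤ) : F) := rfl

/-! ### the root elements as Laurent polynomial matrices -/

/-- `x_r(c) - 1`. -/
def XLpos (r : ℕ) : LCoo := [(1, Ecoo D r 1), (2, Ecoo D r 2), (3, Ecoo D r 3)]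

/-- `x_r(-c) - 1`. -/
def XLneg (r : ℕ) : LCoo := [(1, csmul (-1) (Ecoo D r 1)), (2, Ecoo D r 2), (3, csmul (-1) (Ecoo D r 3))]

/-- `x_r(-c⁻¹) - 1`. -/
def XLinv (r : ℕ) : LCoo := [(-1, csmul (-1) (Ecoo D r 1)), (-2, Ecoo D r 2), (-3, csmul (-1) (Ecoo D r 3))]

theorem x_eq (hlen : ChainLenOK D) (F : Type*) [Field F] (r : ℕ) (hr : r < D.nroots) (t : F) :
    D.x F r t = 1 + t • EmatF D F r 1 + t ^ 2 • EmatF D F r 2 + t ^ 3 • EmatF D F r 3 := by
  unfold ChevalleyDatum.x
  rw [dif_pos hr, xMat_eq D hlen]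

theorem evalL_XLpos (hlen : ChainLenOK D) (F : Type*) [Field F] (r : ℕ) (hr : r < D.nroots) (c : F) :
    1 + evalL D F (XLpos D r) c = D.x F r c := by
  rw [x_eq D hlen F r hr]
  simp only [XLpos, evalL_cons, evalL_nil, castMat_Ecoo, add_zero]
  rw [zpow_one, show (2 : ℤ) = ((2 : ℕ) : ℤ) by rfl, zpow_natCast, show (3 : ℤ) = ((3 : ℕ) : ℤ) by rfl, zpow_natCast]
  abel

theorem evalL_XLneg (hlen : ChainLenOK D) (F : Type*) [Field F] (r : ℕ) (hr : r < D.nroots) (c : F) :
    1 + evalL D F (XLneg D r) c = D.x F r (-c) := by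
  rw [x_eq D hlen F r hr]
  simp only [XLneg, evalL_cons, evalL_nil, castMat_Ecoo, castMat_csmul, add_zero]
  rw [zpow_one, show (2 : ℤ) = ((2 : ℕ) : ℤ) by rfl, zpow_natCast, show (3 : ℤ) = ((3 : ℕ) : ℤ) by rfl, zpow_natCast]
  simp only [Int.cast_neg, Int.cast_one, neg_smul, one_smul, smul_neg, neg_sq, Odd.neg_pow (by decide : Odd 3)]
  abel

theorem evalL_XLinv (hlen : ChainLenOK D) (F : Type*) [Field F] (r : ℕ) (hr : r < D.nroots) (c : F) :
    1 + evalL D F (XLinv D r) c = D.x F r (-c⁻¹) := by
  rw [x_eq D hlen F r hr]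
  simp only [XLinv, evalL_cons, evalL_nil, castMat_Ecoo, castMat_csmul, add_zero]
  have e1 : c ^ (-1 : ℤ) = c⁻¹ := zpow_neg_one c
  have e2 : c ^ (-2 : ℤ) = (c⁻¹) ^ 2 := by
    rw [show (-2 : ℤ) = -((2 : ℕ) : ℤ) by rfl, zpow_neg, zpow_natCast, inv_pow]
  have e3 : c ^ (-3 : ℤ) = (c⁻¹) ^ 3 := by
    rw [show (-3 : ℤ) = -((3 : ℕ) : ℤ) by rfl, zpow_neg, zpow_natCast, inv_pow]
  rw [e1, e2, e3]
  simp only [Int.cast_neg, Int.cast_one, neg_smul, one_smul, smul_neg, neg_sq, Odd.neg_pow (by decide : Odd 3)]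
  abel

/-! ### the matrix `n_i · diag(c^{expo})` -/

/-- The exponent attached to the column with code `j` for the fundamental reflection `i`:
`0` on the `h`-part and `-A_{p_i, s}` on `e_s`. -/
def expo (i j : ℕ) : ℤ := if j < D.rank then 0 else - D.cartan i (j - D.rank)

/-- The exponents that may occur. -/
def expos : List ℤ := [-3, -2, -1, 0, 1, 2, 3]

/-- The columns of exponent `m` of a matrix. -/
def colPart (i : ℕ) (A : Coo) (m : ℤ) : Coo := A.filter fun e => expo D i e.2.1 == m

theorem entry_filter_col (A : Coo) (f : ℕ → Bool) (a b : ℕ) :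
    entry (A.filter fun e => f e.2.1) a b = if f b = true then entry A a b else 0 := by
  induction A with
  | nil => simp
  | cons e A ih =>
    by_cases he : f e.2.1 = true
    · have hf : (e :: A).filter (fun e => f e.2.1) = e :: A.filter (fun e => f e.2.1) := by
        simp [List.filter_cons, he]
      rw [hf, entry_cons, entry_cons, ih]
      by_cases hb : f b = true
      · rw [if_pos hb, if_pos hb]
      · rw [if_neg hb, if_neg hb]
        have : ¬ (e.1 = a ∧ e.2.1 = b) := fun h => hb (h.2 ▸ he)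
        rw [if_neg this, add_zero]
    · have hf : (e :: A).filter (fun e => f e.2.1) = A.filter (fun e => f e.2.1) := by
        simp [List.filter_cons, he]
      rw [hf, ih, entry_cons]
      by_cases hb : f b = true
      · rw [if_pos hb, if_pos hb]
        have : ¬ (e.1 = a ∧ e.2.1 = b) := fun h => he (h.2.symm ▸ hb)
        rw [if_neg this, zero_add]
      · rw [if_neg hb, if_neg hb]

/-- `A · diag(c^{expo})` as a Laurent polynomial matrix. -/
def NDL (i : ℕ) (A : Coo) : LCoo := (expos).map fun m => (m, colPart D i A m)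

/-- The diagonal matrix `diag(c^{expo})`. -/
def Dg (F : Type*) [Field F] (i : ℕ) (c : F) : Matrix D.Idx D.Idx F :=
  Matrix.diagonal fun col => c ^ expo D i (code D col)

/-- All columns that occur have their exponent in the list. -/
def exposOK (i : ℕ) (A : Coo) : Bool := A.all fun e => expos.contains (expo D i e.2.1)

theorem entry_eq_zero_of_expo (i : ℕ) (A : Coo) (h : exposOK D i A = true) (a b : ℕ)
    (hb : expo D i b ∉ expos) : entry A a b = 0 := by
  apply entry_eq_zero
  intro e he hc
  unfold exposOK at h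
  rw [List.all_eq_true] at h
  have := h e he
  rw [hc.2] at this
  exact hb (by simpa using this)

theorem evalL_NDL (F : Type*) [Field F] (i : ℕ) (A : Coo) (h : exposOK D i A = true) (c : F) :
    evalL D F (NDL D i A) c = castMat D F A * Dg D F i c := by
  ext row col
  unfold Dg
  rw [Matrix.mul_diagonal, castMat_apply]
  unfold NDL evalL
  rw [List.map_map]
  have hsum : ∀ (L : List ℤ), ((L.map ((fun p : ℤ × Coo => c ^ p.1 • castMat D F p.2) ∘ fun m => (m, colPart D i A m))).sum) row col =
      (L.map fun m => c ^ m * ((entry (colPart D i A m) (code D row) (code D col) : ℤ) : F)).sum := by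
    intro L
    induction L with
    | nil => simp
    | cons m L ih =>
      rw [List.map_cons, List.sum_cons, Matrix.add_apply, ih, List.map_cons, List.sum_cons]
      simp only [Function.comp, Matrix.smul_apply, castMat_apply, smul_eq_mul]
  rw [hsum]
  have hent : ∀ m : ℤ, entry (colPart D i A m) (code D row) (code D col) =
      if expo D i (code D col) = m then entry A (code D row) (code D col) else 0 := by
    intro m
    unfold colPart
    rw [entry_filter_col A (fun j => expo D i j == m)]
    simp only [beq_iff_eq]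
  simp only [hent]
  by_cases hmem : expo D i (code D col) ∈ expos
  · -- exactly one term survives
    unfold expos at hmem ⊢
    simp only [List.mem_cons, List.not_mem_nil, or_false] at hmem
    rcases hmem with h' | h' | h' | h' | h' | h' | h' <;> rw [h'] <;> simp <;> ring
  · rw [entry_eq_zero_of_expo D i A h _ _ hmem]
    simp

/-! ### the check and the main identities -/

/-- The exponents that may occur in the products. -/
def allExpos : List ℤ := [-6, -5, -4, -3, -2, -1, 0, 1, 2, 3, 4, 5, 6]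

/-- The check of `x_{-p}(-c⁻¹) x_p(c) = x_p(-c) N diag(c^{expo})` with the literal table of `N = n_i`. -/
def nCheck (n : ℕ) (i : ℕ) (Nc : Idxd) : Bool :=
  exposOK D i (colsToCoo Nc) &&
  leq n allExpos
    ([(0, cone (dim D))] ++ XLpos D (D.simple i) ++ XLinv D (D.neg (D.simple i)) ++
      lmul D (XLinv D (D.neg (D.simple i))) (XLpos D (D.simple i)))
    (NDL D i (colsToCoo Nc) ++ lmul D (XLneg D (D.simple i)) (NDL D i (colsToCoo Nc)))

/-- `n_p(c) = n_p(1) diag(c^{expo})` for the fundamental root `p = p_i` and `c ≠ 0`. -/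
theorem nMat_eq_mul_Dg (hlen : ChainLenOK D) (hadd : AddOK D) (hsimple : SimpleOK D) (F : Type*) [Field F]
    (n : ℕ) (i : ℕ) (hi : i < D.rank) (Nc Nr : Idxd) (hN : NLitGood D i Nc Nr) (hchk : nCheck D n i Nc = true)
    (c : F) (hc : c ≠ 0) :
    D.nMat F (D.simple i) c = D.nMat F (D.simple i) 1 * Dg D F i c := by
  obtain ⟨hp, hq⟩ := hsimple i hi
  unfold nCheck at hchk
  rw [Bool.and_eq_true] at hchk
  obtain ⟨hex, hleq⟩ := hchk
  have key := evalL_eq_of_leq D F n allExpos _ _ hleq c
  rw [evalL_append, evalL_append, evalL_append, evalL_append, evalL_lmul D F _ _ c hc, evalL_lmul D F _ _ c hc,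
    evalL_NDL D F i _ hex c, evalL_cons, evalL_nil, castMat_cone] at key
  simp only [zpow_zero, one_smul, add_zero] at key
  -- the two sides as products
  have hL : D.x F (D.neg (D.simple i)) (-c⁻¹) * D.x F (D.simple i) c =
      1 + evalL D F (XLpos D (D.simple i)) c + evalL D F (XLinv D (D.neg (D.simple i))) c +
        evalL D F (XLinv D (D.neg (D.simple i))) c * evalL D F (XLpos D (D.simple i)) c := by
    rw [← evalL_XLinv D hlen F _ hq c, ← evalL_XLpos D hlen F _ hp c]
    rw [add_mul, mul_add, mul_add, one_mul, mul_one, one_mul]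
    abel
  have hR : D.x F (D.simple i) (-c) * (castMat D F (colsToCoo Nc) * Dg D F i c) =
      castMat D F (colsToCoo Nc) * Dg D F i c +
        evalL D F (XLneg D (D.simple i)) c * (castMat D F (colsToCoo Nc) * Dg D F i c) := by
    rw [← evalL_XLneg D hlen F _ hp c, add_mul, one_mul]
  have hmain : D.x F (D.neg (D.simple i)) (-c⁻¹) * D.x F (D.simple i) c =
      D.x F (D.simple i) (-c) * (castMat D F (colsToCoo Nc) * Dg D F i c) := by
    rw [hL, hR, key]
  have hNF : castMat D F (colsToCoo Nc) = D.nMat F (D.simple i) 1 := by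
    rw [nMat_eq D hlen hsimple F i hi, hN.2.2.1]
    rfl
  have hn : D.nMat F (D.simple i) c =
      D.x F (D.simple i) c * (D.x F (D.neg (D.simple i)) (-c⁻¹) * D.x F (D.simple i) c) := by
    unfold ChevalleyDatum.nMat ChevalleyDatum.nWord ChevalleyDatum.wordMat
    simp only [List.map_cons, List.map_nil, List.prod_cons, List.prod_nil, mul_one]
  rw [hn, hmain, ← Matrix.mul_assoc, x_add D hlen hadd F, add_neg_cancel, x_zero D hlen F, Matrix.one_mul, hNF]

/-! ### `h_p(c)` is diagonal -/

/-- Negating the exponents amounts to evaluating at the inverse. -/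
theorem evalL_negExp (F : Type*) [Field F] (L : LCoo) (c : F) :
    evalL D F (L.map fun p => (-p.1, p.2)) c = evalL D F L c⁻¹ := by
  induction L with
  | nil => rfl
  | cons p L ih =>
    rw [List.map_cons, evalL_cons, evalL_cons, ih]
    simp only [zpow_neg, inv_zpow]

theorem entry_map_scale (A : Coo) (s : ℕ → ℤ) (a b : ℕ) :
    entry (A.map fun e => (e.1, e.2.1, e.2.2 * s e.2.1)) a b = entry A a b * s b := by
  induction A with
  | nil => simp
  | cons e A ih =>
    rw [List.map_cons, entry_cons, entry_cons, ih, add_mul]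
    congr 1
    by_cases h : e.1 = a ∧ e.2.1 = b
    · rw [if_pos h, if_pos h, h.2]
    · rw [if_neg h, if_neg h, zero_mul]

/-- The matrix `A · diag((-1)^{expo})`. -/
def signCols (i : ℕ) (A : Coo) : Coo := A.map fun e => (e.1, e.2.1, e.2.2 * (-1) ^ (expo D i e.2.1).natAbs)

theorem neg_one_zpow_eq (F : Type*) [Field F] (m : ℤ) : ((-1 : F)) ^ m = (((-1 : ℤ) ^ m.natAbs : ℤ) : F) := by
  push_cast
  rcases Int.natAbs_eq m with h | h
  · conv_lhs => rw [h]
    rw [zpow_natCast]
  · conv_lhs => rw [h]
    rw [zpow_neg, zpow_natCast, ← inv_pow, inv_neg, inv_one]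

theorem castMat_signCols (F : Type*) [Field F] (i : ℕ) (A : Coo) :
    castMat D F (signCols D i A) = castMat D F A * Dg D F i (-1) := by
  ext row col
  unfold Dg signCols
  rw [Matrix.mul_diagonal, castMat_apply, castMat_apply,
    entry_map_scale A (fun j => (-1) ^ (expo D i j).natAbs), neg_one_zpow_eq]
  push_cast
  rfl

/-- The check of `N diag(c^{expo}) N diag((-1)^{expo}) = diag(c^{-expo})` with the literal table of `N = n_i`. -/
def hCheck (n : ℕ) (i : ℕ) (Nc : Idxd) : Bool :=
  exposOK D i (cone (dim D)) &&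
  leq n allExpos (lmul D (NDL D i (colsToCoo Nc)) [(0, signCols D i (colsToCoo Nc))])
    ((NDL D i (cone (dim D))).map fun p => (-p.1, p.2))

theorem hMat_eq_mul (F : Type*) [Field F] (r : ℕ) (c : F) :
    D.hMat F r c = D.nMat F r c * D.nMat F r (-1) := by
  unfold ChevalleyDatum.hMat ChevalleyDatum.hWord ChevalleyDatum.nMat ChevalleyDatum.wordMat
  rw [List.map_append, List.prod_append]

/-- `h_p(c) = diag(c^{-expo})` for the fundamental root `p = p_i` and `c ≠ 0`. -/
theorem hMat_eq_Dg (hlen : ChainLenOK D) (hadd : AddOK D) (hsimple : SimpleOK D) (F : Type*) [Field F]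
    (n : ℕ) (i : ℕ) (hi : i < D.rank) (Nc Nr : Idxd) (hN : NLitGood D i Nc Nr) (hchk : nCheck D n i Nc = true)
    (hchk2 : hCheck D n i Nc = true) (c : F) (hc : c ≠ 0) :
    D.hMat F (D.simple i) c = Dg D F i c⁻¹ := by
  have hNF : castMat D F (colsToCoo Nc) = D.nMat F (D.simple i) 1 := by
    rw [nMat_eq D hlen hsimple F i hi, hN.2.2.1]
    rfl
  have hex : exposOK D i (colsToCoo Nc) = true := by
    unfold nCheck at hchk
    rw [Bool.and_eq_true] at hchk
    exact hchk.1
  unfold hCheck at hchk2
  rw [Bool.and_eq_true] at hchk2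
  obtain ⟨hex1, hleq⟩ := hchk2
  have key := evalL_eq_of_leq D F n allExpos _ _ hleq c
  rw [evalL_lmul D F _ _ c hc, evalL_negExp, evalL_NDL D F i _ hex c, evalL_NDL D F i _ hex1 c⁻¹, castMat_cone,
    Matrix.one_mul, evalL_cons, evalL_nil, zpow_zero, one_smul, add_zero, castMat_signCols, hNF] at key
  rw [hMat_eq_mul, nMat_eq_mul_Dg D hlen hadd hsimple F n i hi Nc Nr hN hchk c hc,
    nMat_eq_mul_Dg D hlen hadd hsimple F n i hi Nc Nr hN hchk (-1) (by simp), key]

/-- The diagonal matrix `diag(c^{-expo})` in the standard form. -/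
theorem Dg_inv_eq (F : Type*) [Field F] (i : ℕ) (c : F) :
    Dg D F i c⁻¹ = Matrix.diagonal (Sum.elim (fun _ => (1 : F)) (fun s : Fin D.nroots => c ^ (D.cartan i s))) := by
  unfold Dg
  congr 1
  funext col
  rcases col with j | s
  · have : expo D i (code D (Sum.inl j)) = 0 := by
      unfold expo
      rw [if_pos (by rw [code_inl]; exact j.isLt)]
    rw [this, zpow_zero]
    rfl
  · have : expo D i (code D (Sum.inr s)) = - D.cartan i s := by
      unfold expo
      rw [code_inr, if_neg (by omega), Nat.add_sub_cancel_left]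
    rw [this, inv_zpow, zpow_neg, inv_inv]
    rfl

end Cfsg.Agent.Lib.Helper36_ChevH
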