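import Cfsg.Agent.Lib.Helper36_ChevH
import Cfsg.Agent.S2157

set_option autoImplicit false

/-!
The function `s ↦ c^{A_{p_i, s}}` is a character of the root lattice (from a check on the tables), so that
`h_{p_i}(c) x_s(t) = x_s(c^{A_{p_i,s}} t) h_{p_i}(c)`.
-/

namespace Cfsg.Agent.Lib.Helper36_ChevHConj

open Cfsg Cfsg.Lie Cfsg.Agent.Lib.Helper36_ChevSparse Cfsg.Agent.Lib.Helper36_ChevCoeff
  Cfsg.Agent.Lib.Helper36_ChevAdd Cfsg.Agent.Lib.Helper36_ChevWeyl Cfsg.Agent.Lib.Helper36_ChevH
  Cfsg.Agent.Lib.Helper36_ChevTables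

variable (D : ChevalleyDatum)

/-- A literal table of the Cartan integers: for each root `s` the list of the `A_{p_i, s}`, `i < rank`; it is
checked against the rows of the table of the datum. -/
def CartTblOK (tbl : List (List ℤ)) : Prop :=
  tbl.length = D.nroots ∧ (∀ col ∈ tbl, col.length = D.rank) ∧
    ∀ i < D.rank, (tbl.map fun col => col.getD i 0) = (D.cartanSR.getD i #[]).toList

instance (tbl : List (List ℤ)) : Decidable (CartTblOK D tbl) := by
  unfold CartTblOK
  infer_instance

theorem toList_getD (a : Array ℤ) (s : ℕ) : a.toList.getD s 0 = a.getD s 0 := by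
  rcases a with ⟨l⟩
  simp [Array.getD, List.getD]
  split_ifs with h
  · simp [List.getElem?_eq_getElem h]
  · simp [List.getElem?_eq_none (by omega : l.length ≤ s)]

theorem tbl_getD (tbl : List (List ℤ)) (ht : CartTblOK D tbl) (s : ℕ) (i : ℕ) (hi : i < D.rank) :
    (tbl.getD s []).getD i 0 = D.cartan i s := by
  have h := ht.2.2 i hi
  have h2 : (tbl.map fun col => col.getD i 0).getD s 0 = (D.cartanSR.getD i #[]).toList.getD s 0 := by rw [h]
  have h3 : (tbl.map fun col => col.getD i 0).getD s 0 = (tbl.getD s []).getD i 0 := by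
    have := List.getD_map (l := tbl) (d := ([] : List ℤ)) (n := s) (f := fun col => col.getD i 0)
    simpa using this
  rw [← h3, h2, toList_getD]
  rfl

theorem tbl_length (tbl : List (List ℤ)) (ht : CartTblOK D tbl) (s : ℕ) (hs : s < D.nroots) :
    (tbl.getD s []).length = D.rank := by
  apply ht.2.1
  have : s < tbl.length := by rw [ht.1]; exact hs
  rw [List.getD_eq_getElem _ _ this]
  exact List.getElem_mem this

/-- The check, for the root `r`, that the Cartan integers `A_{p_i, ·}` change sign under `r ↦ -r` and are additive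
along the first step of every `r`-chain (computed with the literal table). -/
def cartanAddCheck (tbl : List (List ℤ)) (r : ℕ) : Bool :=
  decide (D.neg r < D.nroots) && (tbl.getD (D.neg r) [] == (tbl.getD r []).map fun a => -a) &&
  (D.chain.getD r #[]).toList.all fun e => match e.2.toList.head? with
    | some q => decide (q.1 < D.nroots) && decide (e.1 < D.nroots) &&
        (tbl.getD q.1 [] == List.zipWith (fun a b => a + b) (tbl.getD r []) (tbl.getD e.1 []))
    | none => true

/-- The check for the roots `a ≤ r < b`. -/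
def CartanAddRange (tbl : List (List ℤ)) (a b : ℕ) : Prop := ∀ r < b, a ≤ r → cartanAddCheck D tbl r = true

instance (tbl : List (List ℤ)) (a b : ℕ) : Decidable (CartanAddRange D tbl a b) := by
  unfold CartanAddRange
  infer_instance

theorem cartanAddRange_trans (tbl : List (List ℤ)) {a b c : ℕ} (h1 : CartanAddRange D tbl a b)
    (h2 : CartanAddRange D tbl b c) : CartanAddRange D tbl a c := by
  intro r hr har
  by_cases h : r < b
  · exact h1 r h har
  · exact h2 r hr (Nat.le_of_not_lt h)

/-- The check for all roots, with a correct table. -/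
def CartanAddOK : Prop := ∃ tbl : List (List ℤ), CartTblOK D tbl ∧ CartanAddRange D tbl 0 D.nroots

theorem cartan_neg (h : CartanAddOK D) (i : ℕ) (hi : i < D.rank) (r : ℕ) (hr : r < D.nroots) :
    D.cartan i (D.neg r) = - D.cartan i r := by
  obtain ⟨tbl, ht, h⟩ := h
  have := h r hr (Nat.zero_le _)
  unfold cartanAddCheck at this
  rw [Bool.and_eq_true, Bool.and_eq_true, decide_eq_true_eq, beq_iff_eq] at this
  obtain ⟨⟨_, h2⟩, -⟩ := this
  rw [← tbl_getD D tbl ht (D.neg r) i hi, h2, ← tbl_getD D tbl ht r i hi]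
  have := List.getD_map (l := tbl.getD r []) (d := (0 : ℤ)) (n := i) (f := fun a => -a)
  simpa using this

theorem cartan_add (h : CartanAddOK D) (i : ℕ) (hi : i < D.rank) (r s k : ℕ) (hr : r < D.nroots)
    (hk : D.chainRoot r s 1 = some k) : D.cartan i k = D.cartan i r + D.cartan i s := by
  obtain ⟨tbl, ht, h⟩ := h
  have := h r hr (Nat.zero_le _)
  unfold cartanAddCheck at this
  rw [Bool.and_eq_true] at this
  have h2 := this.2
  rw [List.all_eq_true] at h2
  unfold ChevalleyDatum.chainRoot ChevalleyDatum.chainEntry at hk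
  cases hf : (D.chain.getD r #[]).toList.find? (fun e => e.1 = s) with
  | none =>
    rw [hf] at hk
    simp at hk
  | some e =>
    rw [hf] at hk
    have hmem : e ∈ (D.chain.getD r #[]).toList := List.mem_of_find?_eq_some hf
    have hes : e.1 = s := by
      have := List.find?_some hf
      simpa using this
    have he := h2 e hmem
    simp only [Nat.sub_self] at hk
    cases hh : e.2.toList with
    | nil =>
      rw [hh] at hk
      simp at hk
    | cons q l =>
      rw [hh] at hk he
      simp only [List.getElem?_cons_zero, Option.map_some, Option.some.injEq] at hk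
      simp only [List.head?_cons, Bool.and_eq_true, decide_eq_true_eq, beq_iff_eq] at he
      obtain ⟨⟨hq, hes'⟩, he⟩ := he
      rw [hk] at hq he
      rw [hes] at hes' he
      rw [← tbl_getD D tbl ht k i hi, he, ← tbl_getD D tbl ht r i hi, ← tbl_getD D tbl ht s i hi]
      have l1 := tbl_length D tbl ht r hr
      have l2 := tbl_length D tbl ht s hes'
      have hi1 : i < (tbl.getD r []).length := by rw [l1]; exact hi
      have hi2 : i < (tbl.getD s []).length := by rw [l2]; exact hi
      have hi3 : i < (List.zipWith (fun a b => a + b) (tbl.getD r []) (tbl.getD s [])).length := by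
        rw [List.length_zipWith, l1, l2]; simpa using hi
      rw [List.getD_eq_getElem _ _ hi3, List.getD_eq_getElem _ _ hi1, List.getD_eq_getElem _ _ hi2,
        List.getElem_zipWith]

/-- `s ↦ c^{A_{p_i, s}}` is a character of the root lattice. -/
theorem isRootCharacter_cartan (h : CartanAddOK D) (F : Type*) [Field F] (i : ℕ) (hi : i < D.rank) (c : Fˣ) :
    D.IsRootCharacter (fun s => c ^ (D.cartan i s)) := by
  constructor
  · intro r hr
    simp only
    rw [cartan_neg D h i hi r hr, zpow_neg]
  · intro r s k hr _ hk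
    simp only
    rw [cartan_add D h i hi r s k hr hk, zpow_add]

theorem charDiag_mul_inv (F : Type*) [Field F] (χ : ℕ → Fˣ) :
    D.charDiag F (fun s => (χ s)⁻¹) * D.charDiag F χ = 1 := by
  unfold ChevalleyDatum.charDiag
  rw [Matrix.diagonal_mul_diagonal, ← Matrix.diagonal_one]
  congr 1
  funext col
  rcases col with j | s
  · simp
  · simp

/-- `h_{p_i}(c)` as the diagonal matrix of a character. -/
theorem Dg_inv_eq_charDiag (F : Type*) [Field F] (i : ℕ) (c : F) (hc : c ≠ 0) :
    Dg D F i c⁻¹ = D.charDiag F (fun s => (Units.mk0 c hc) ^ (D.cartan i s)) := by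
  rw [Dg_inv_eq]
  unfold ChevalleyDatum.charDiag
  congr 1
  funext col
  rcases col with j | s
  · rfl
  · simp

/-- `h_{p_i}(c) x_s(t) = x_s(c^{A_{p_i,s}} t) h_{p_i}(c)`, given that `h_{p_i}(c)` is the diagonal matrix. -/
theorem h_mul_x (hOK : ChainOK D) (h : CartanAddOK D) (F : Type*) [Field F] (i : ℕ) (hi : i < D.rank)
    (c : F) (hc : c ≠ 0) (hh : D.hMat F (D.simple i) c = Dg D F i c⁻¹) (s : ℕ) (hs : s < D.nroots) (t : F) :
    D.hMat F (D.simple i) c * D.x F s t = D.x F s (c ^ (D.cartan i s) * t) * D.hMat F (D.simple i) c := by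
  rw [hh, Dg_inv_eq_charDiag D F i c hc]
  set χ : ℕ → Fˣ := fun s => (Units.mk0 c hc) ^ (D.cartan i s) with hχdef
  have hχ : D.IsRootCharacter χ := isRootCharacter_cartan D h F i hi (Units.mk0 c hc)
  have key := Cfsg.Agent.S2157.conj_xMat D hOK χ hχ ⟨s, hs⟩ t
  have hx : ∀ u : F, D.x F s u = D.xMat F ⟨s, hs⟩ u := by
    intro u
    unfold ChevalleyDatum.x
    rw [dif_pos hs]
  rw [hx, hx]
  have hval : ((χ s : Fˣ) : F) = c ^ (D.cartan i s) := by
    simp [hχdef]
  rw [← hval, ← key, Matrix.mul_assoc, Matrix.mul_assoc, charDiag_mul_inv, Matrix.mul_one]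

end Cfsg.Agent.Lib.Helper36_ChevHConj
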