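import Cfsg.Agent.Lib.Helper36_ChevCore

set_option autoImplicit false

/-!
The commutator of `n_a` and `n_b` for two joined nodes of the diagram does not lie in `B = UH`; the diagram is
connected. Together these give the irreducibility of the `(B, N)`-pair of a Chevalley group.
-/

namespace Cfsg.Agent.Lib.Helper36_ChevIrr

open Cfsg Cfsg.Lie Cfsg.Agent.Lib.Helper36_ChevCoeff Cfsg.Agent.Lib.Helper36_ChevAdd
  Cfsg.Agent.Lib.Helper36_ChevWeyl Cfsg.Agent.Lib.Helper36_ChevGen Cfsg.Agent.Lib.Helper36_ChevHAll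
  Cfsg.Agent.Lib.Helper36_ChevHConj Cfsg.Agent.Lib.Helper36_ChevTables Cfsg.Agent.Lib.Helper36_ChevTorus
  Cfsg.Agent.Lib.Helper36_ChevTri Cfsg.Agent.Lib.Helper36_ChevBorel Cfsg.Agent.Lib.Helper36_ChevW0
  Cfsg.Agent.Lib.Helper36_ChevCore

variable (D : ChevalleyDatum)

/-! ### connectedness of a list of edges -/

/-- Run through the edges; each edge must start at a vertex reached so far and adds its end. -/
def spanRun : List (ℕ × ℕ × ℕ × ℕ) → List ℕ → List ℕ
  | [], reached => reached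
  | e :: es, reached => if e.1 ∈ reached then spanRun es (e.2.1 :: reached) else []

theorem span_const (P : ℕ → Prop) (es : List (ℕ × ℕ × ℕ × ℕ)) (h : ∀ e ∈ es, (P e.1 ↔ P e.2.1)) :
    ∀ reached : List ℕ, (∀ v ∈ reached, (P v ↔ P 0)) → ∀ v ∈ spanRun es reached, (P v ↔ P 0) := by
  induction es with
  | nil =>
    intro reached hr v hv
    exact hr v hv
  | cons e es ih =>
    intro reached hr v hv
    unfold spanRun at hv
    by_cases he : e.1 ∈ reached
    · rw [if_pos he] at hv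
      apply ih (fun e' he' => h e' (List.mem_cons_of_mem _ he')) (e.2.1 :: reached) ?_ v hv
      intro w hw
      rcases List.mem_cons.mp hw with rfl | hw
      · exact (h e List.mem_cons_self).symm.trans (hr _ he)
      · exact hr w hw
    · rw [if_neg he] at hv
      exact absurd hv List.not_mem_nil

theorem exists_crossing (P : ℕ → Prop) (es : List (ℕ × ℕ × ℕ × ℕ)) (n : ℕ)
    (hspan : ∀ v < n, v ∈ spanRun es [0]) (i j : ℕ) (hi : i < n) (hj : j < n) (hPi : P i) (hPj : ¬ P j) :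
    ∃ e ∈ es, (P e.1 ∧ ¬ P e.2.1) ∨ (P e.2.1 ∧ ¬ P e.1) := by
  by_contra hcon
  have h : ∀ e ∈ es, (P e.1 ↔ P e.2.1) := by
    intro e he
    constructor
    · intro h1
      by_contra h2
      exact hcon ⟨e, he, Or.inl ⟨h1, h2⟩⟩
    · intro h1
      by_contra h2
      exact hcon ⟨e, he, Or.inr ⟨h1, h2⟩⟩
  have h0 := span_const P es h [0] (fun v hv => by rw [List.mem_singleton.mp hv])
  exact hPj (((h0 j (hspan j hj)).trans (h0 i (hspan i hi)).symm).mpr hPi)

/-! ### the commutator of two of the `n_i` -/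

section
variable (F : Type*) [Field F] (hlen : ChainLenOK D) (hadd : AddOK D)

/-- The commutator `n_a n_b n_a⁻¹ n_b⁻¹`. -/
noncomputable def commN (a b : ℕ) : GL D.Idx F :=
  nGL D hlen hadd F a * nGL D hlen hadd F b * (nGL D hlen hadd F a)⁻¹ * (nGL D hlen hadd F b)⁻¹

theorem commN_conj (hc : AllConj D F) (hrc : ReflCartanOK D) (a b : ℕ) (ha : a < D.rank) (hb : b < D.rank)
    (s : ℕ) (hs : s < D.nroots) :
    ∃ η : ℤ, (η = 1 ∨ η = -1) ∧ ∀ t : F,
      commN D F hlen hadd a b * xGL D hlen hadd F s t * (commN D F hlen hadd a b)⁻¹ =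
        xGL D hlen hadd F
          (D.reflectRoot a (D.reflectRoot b (D.reflectRoot a (D.reflectRoot b s)))) ((η : F) * t) := by
  have hs1 : D.reflectRoot b s < D.nroots := reflect_lt D hrc b hb s hs
  have hs2 : D.reflectRoot a (D.reflectRoot b s) < D.nroots := reflect_lt D hrc a ha _ hs1
  have hs3 : D.reflectRoot b (D.reflectRoot a (D.reflectRoot b s)) < D.nroots := reflect_lt D hrc b hb _ hs2
  obtain ⟨η1, hη1, h1⟩ := nGL_inv_conj D F hlen hadd hc hrc b hb s hs
  obtain ⟨η2, hη2, h2⟩ := nGL_inv_conj D F hlen hadd hc hrc a ha _ hs1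
  obtain ⟨η3, hη3, h3⟩ := nGL_conj D F hlen hadd hc b hb _ hs2
  obtain ⟨η4, hη4, h4⟩ := nGL_conj D F hlen hadd hc a ha _ hs3
  refine ⟨η4 * (η3 * (η2 * η1)), ?_, fun t => ?_⟩
  · rcases hη1 with h | h <;> rcases hη2 with h' | h' <;> rcases hη3 with h'' | h'' <;>
      rcases hη4 with h''' | h''' <;> rw [h, h', h'', h'''] <;> simp
  · have e : ((η4 * (η3 * (η2 * η1)) : ℤ) : F) * t = (η4 : F) * ((η3 : F) * ((η2 : F) * ((η1 : F) * t))) := by
      push_cast
      ring
    rw [e, ← h4, ← h3, ← h2, ← h1]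
    unfold commN
    group

/-- If the word `s_a s_b s_a s_b` sends a positive root to a negative root then the commutator of `n_a` and `n_b`
is not in `B`. -/
theorem commN_not_mem (hf : Facts D F) (hchain : ChainOK D) (tbl : List ℕ) (off M : ℕ) (hht : HtOK D tbl off M)
    (hc : AllConj D F) (a b : ℕ) (ha : a < D.rank) (hb : b < D.rank) (s : ℕ) (hs : D.IsPosRoot s)
    (hneg : D.IsNegRoot (D.reflectRoot a (D.reflectRoot b (D.reflectRoot a (D.reflectRoot b s))))) :
    commN D F hf.hlen hf.hadd a b ∉ D.borelSubgroup F := by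
  intro hmem
  obtain ⟨η, hη, h⟩ := commN_conj D F hf.hlen hf.hadd hc hf.hrc a b ha hb s hs.1
  set r := D.reflectRoot a (D.reflectRoot b (D.reflectRoot a (D.reflectRoot b s))) with hr
  have hr' : r < D.nroots := hneg.1
  have hx : xGL D hf.hlen hf.hadd F s 1 ∈ D.borelSubgroup F := by
    apply (le_sup_left : D.posUnipotent F ≤ D.borelSubgroup F)
    exact Subgroup.subset_closure ⟨s, _, hs, rfl⟩
  have h1 : xGL D hf.hlen hf.hadd F r ((η : F) * 1) ∈ D.borelSubgroup F := by
    rw [← h 1]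
    exact mul_mem (mul_mem hmem hx) (inv_mem hmem)
  have h2 : xGL D hf.hlen hf.hadd F r ((η : F) * 1) ∈ D.negUnipotent F :=
    Subgroup.subset_closure ⟨r, _, hneg, rfl⟩
  have h3 : xGL D hf.hlen hf.hadd F r ((η : F) * 1) ∈ D.borelSubgroup F ⊓ D.negUnipotent F :=
    Subgroup.mem_inf.mpr ⟨h1, h2⟩
  rw [borel_inf_neg D F tbl off M hf hchain hht, Subgroup.mem_bot] at h3
  have h4 : D.x F r ((η : F) * 1) = 1 := by
    rw [← xGL_coe D hf.hlen hf.hadd F, h3]
    rfl
  have hnl : D.neg r < D.nroots := neg_lt_of_cartanAddOK D hf.hca r hr'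
  have hraise := (hht.range r hr' (Nat.zero_le _)).2.1 hneg
  have hne : D.neg r ≠ r := by
    intro hcon
    have h5 := hraise.1
    have h6 := hraise.2.1
    rw [hcon] at h6
    simp only at h5 h6
    omega
  have h7 := x_eq_one_imp D F r hr' hnl hne _ h4
  rw [mul_one] at h7
  rcases hη with h8 | h8 <;> rw [h8] at h7 <;> simp at h7

end

/-! ### the certificate -/

/-- The check for one edge `(a, b, s, s')`: `s_a s_b s_a s_b` sends the positive root `s` to a negative root and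
`s_b s_a s_b s_a` sends the positive root `s'` to a negative root. -/
def edgeCheck (rtbl : List (List ℕ)) (e : ℕ × ℕ × ℕ × ℕ) : Prop :=
  e.1 < D.rank ∧ e.2.1 < D.rank ∧ D.IsPosRoot e.2.2.1 ∧ D.IsPosRoot e.2.2.2 ∧
  D.IsNegRoot (tblRefl rtbl e.1 (tblRefl rtbl e.2.1 (tblRefl rtbl e.1 (tblRefl rtbl e.2.1 e.2.2.1)))) ∧
  D.IsNegRoot (tblRefl rtbl e.2.1 (tblRefl rtbl e.1 (tblRefl rtbl e.2.1 (tblRefl rtbl e.1 e.2.2.2))))

instance (rtbl : List (List ℕ)) (e : ℕ × ℕ × ℕ × ℕ) : Decidable (edgeCheck D rtbl e) := by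
  unfold edgeCheck
  infer_instance

/-- All the checks on a list of edges. -/
structure IrrOK (rtbl : List (List ℕ)) (es : List (ℕ × ℕ × ℕ × ℕ)) : Prop where
  edges : ∀ e ∈ es, edgeCheck D rtbl e
  span : ∀ v < D.rank, v ∈ spanRun es [0]

theorem tbl4 (hrc : ReflCartanOK D) (rtbl : List (List ℕ))
    (htbl : ∀ i < D.rank, ReflTblRange D rtbl i 0 D.nroots) (a b : ℕ) (ha : a < D.rank) (hb : b < D.rank)
    (s : ℕ) (hs : s < D.nroots) :
    tblRefl rtbl a (tblRefl rtbl b (tblRefl rtbl a (tblRefl rtbl b s))) =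
      D.reflectRoot a (D.reflectRoot b (D.reflectRoot a (D.reflectRoot b s))) := by
  have hs1 : D.reflectRoot b s < D.nroots := reflect_lt D hrc b hb s hs
  have hs2 : D.reflectRoot a (D.reflectRoot b s) < D.nroots := reflect_lt D hrc a ha _ hs1
  have hs3 : D.reflectRoot b (D.reflectRoot a (D.reflectRoot b s)) < D.nroots := reflect_lt D hrc b hb _ hs2
  rw [htbl b hb s hs (Nat.zero_le _), htbl a ha _ hs1 (Nat.zero_le _), htbl b hb _ hs2 (Nat.zero_le _),
    htbl a ha _ hs3 (Nat.zero_le _)]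

/-- The irreducibility statement on the level of the indices of the fundamental roots. -/
theorem irreducible_main (F : Type*) [Field F] (hf : Facts D F) (hchain : ChainOK D) (tbl : List ℕ) (off M : ℕ)
    (hht : HtOK D tbl off M) (hc : AllConj D F) (rtbl : List (List ℕ))
    (htbl : ∀ i < D.rank, ReflTblRange D rtbl i 0 D.nroots) (es : List (ℕ × ℕ × ℕ × ℕ)) (hes : IrrOK D rtbl es)
    (P : ℕ → Prop) (i j : ℕ) (hi : i < D.rank) (hj : j < D.rank) (hPi : P i) (hPj : ¬ P j) :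
    ∃ a < D.rank, ∃ b < D.rank, P a ∧ ¬ P b ∧ commN D F hf.hlen hf.hadd a b ∉ D.borelSubgroup F := by
  obtain ⟨e, he, hcross⟩ := exists_crossing P es D.rank hes.span i j hi hj hPi hPj
  obtain ⟨ha, hb, hs, hs', hn, hn'⟩ := hes.edges e he
  rcases hcross with ⟨h1, h2⟩ | ⟨h1, h2⟩
  · refine ⟨e.1, ha, e.2.1, hb, h1, h2, ?_⟩
    rw [tbl4 D hf.hrc rtbl htbl e.1 e.2.1 ha hb _ hs.1] at hn
    exact commN_not_mem D F hf hchain tbl off M hht hc e.1 e.2.1 ha hb _ hs hn
  · refine ⟨e.2.1, hb, e.1, ha, h1, h2, ?_⟩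
    rw [tbl4 D hf.hrc rtbl htbl e.2.1 e.1 hb ha _ hs'.1] at hn'
    exact commN_not_mem D F hf hchain tbl off M hht hc e.2.1 e.1 hb ha _ hs' hn'

end Cfsg.Agent.Lib.Helper36_ChevIrr
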