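import Cfsg.Agent.Lib.Helper36_ChevIdx

set_option autoImplicit false

/-!
Sparse integer matrices with Laurent polynomial entries in one variable, as lists of (exponent, matrix), with
evaluation at a non-zero element of a field, a sound product and a sound equality check.
-/

namespace Cfsg.Agent.Lib.Helper36_ChevLaurent

open Cfsg Cfsg.Lie Cfsg.Agent.Lib.Helper36_ChevSparse Cfsg.Agent.Lib.Helper36_ChevCoo
  Cfsg.Agent.Lib.Helper36_ChevIdx

variable (D : ChevalleyDatum)

/-- A matrix with Laurent polynomial entries: a list of (exponent, coefficient matrix). -/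
abbrev LCoo := List (ℤ × Coo)

/-- The integer matrix as a matrix over a field. -/
def castMat (F : Type*) [Field F] (A : Coo) : Matrix D.Idx D.Idx F := (toMatZc D A).map (Int.castRingHom F)

theorem castMat_append (F : Type*) [Field F] (A B : Coo) : castMat D F (A ++ B) = castMat D F A + castMat D F B := by
  unfold castMat
  rw [toMatZc_append]
  ext i j
  simp

theorem castMat_nil (F : Type*) [Field F] : castMat D F [] = 0 := by
  unfold castMat
  rw [toMatZc_nil]
  ext i j
  simp

theorem castMat_mul (F : Type*) [Field F] (A B : Coo) :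
    castMat D F (cmul (dim D) A B) = castMat D F A * castMat D F B := by
  unfold castMat
  rw [toMatZc_mul, Matrix.map_mul]

theorem castMat_eq_of_normEq2 (F : Type*) [Field F] (k : ℕ) (A B : Coo) (h : normEq2 k A B = true) :
    castMat D F A = castMat D F B := by
  unfold castMat
  rw [toMatZc_eq_of_normEq2 D k A B h]

/-- Evaluation at an element of a field. -/
def evalL (F : Type*) [Field F] (L : LCoo) (c : F) : Matrix D.Idx D.Idx F :=
  (L.map fun p => c ^ p.1 • castMat D F p.2).sum

theorem evalL_nil (F : Type*) [Field F] (c : F) : evalL D F [] c = 0 := rfl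

theorem evalL_cons (F : Type*) [Field F] (p : ℤ × Coo) (L : LCoo) (c : F) :
    evalL D F (p :: L) c = c ^ p.1 • castMat D F p.2 + evalL D F L c := by
  simp [evalL]

theorem evalL_append (F : Type*) [Field F] (L1 L2 : LCoo) (c : F) :
    evalL D F (L1 ++ L2) c = evalL D F L1 c + evalL D F L2 c := by
  simp [evalL]

/-- Product. -/
def lmul (L1 L2 : LCoo) : LCoo := L1.flatMap fun p => L2.map fun q => (p.1 + q.1, cmul (dim D) p.2 q.2)

theorem evalL_lmul_single (F : Type*) [Field F] (p : ℤ × Coo) (L2 : LCoo) (c : F) (hc : c ≠ 0) :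
    evalL D F (L2.map fun q => (p.1 + q.1, cmul (dim D) p.2 q.2)) c =
      (c ^ p.1 • castMat D F p.2) * evalL D F L2 c := by
  induction L2 with
  | nil => simp [evalL]
  | cons q L2 ih =>
    rw [List.map_cons, evalL_cons, evalL_cons, ih, mul_add]
    congr 1
    simp only
    rw [castMat_mul, zpow_add₀ hc, Matrix.smul_mul, Matrix.mul_smul, smul_smul]

theorem evalL_lmul (F : Type*) [Field F] (L1 L2 : LCoo) (c : F) (hc : c ≠ 0) :
    evalL D F (lmul D L1 L2) c = evalL D F L1 c * evalL D F L2 c := by
  induction L1 with
  | nil => simp [lmul, evalL]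
  | cons p L1 ih =>
    have : lmul D (p :: L1) L2 = (L2.map fun q => (p.1 + q.1, cmul (dim D) p.2 q.2)) ++ lmul D L1 L2 := by
      simp [lmul]
    rw [this, evalL_append, evalL_lmul_single D F p L2 c hc, ih, evalL_cons, add_mul]

/-- The coefficient matrix of a given exponent. -/
def collect (L : LCoo) (k : ℤ) : Coo := (L.filter fun p => p.1 == k).flatMap fun p => p.2

theorem collect_cons (p : ℤ × Coo) (L : LCoo) (k : ℤ) :
    collect (p :: L) k = if p.1 = k then p.2 ++ collect L k else collect L k := by
  unfold collect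
  by_cases h : p.1 = k
  · rw [if_pos h]
    simp [List.filter_cons, h]
  · rw [if_neg h]
    simp [List.filter_cons, h]

theorem evalL_eq_sum_collect (F : Type*) [Field F] (ks : Finset ℤ) (c : F) :
    ∀ (L : LCoo), (∀ p ∈ L, p.1 ∈ ks) → evalL D F L c = ∑ k ∈ ks, c ^ k • castMat D F (collect L k) := by
  intro L
  induction L with
  | nil =>
    intro _
    simp [evalL, collect, castMat_nil]
  | cons p L ih =>
    intro h
    rw [evalL_cons, ih (fun q hq => h q (List.mem_cons_of_mem _ hq))]
    have hp : p.1 ∈ ks := h p List.mem_cons_self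
    have : ∀ k ∈ ks, c ^ k • castMat D F (collect (p :: L) k) =
        (if p.1 = k then c ^ k • castMat D F p.2 else 0) + c ^ k • castMat D F (collect L k) := by
      intro k _
      rw [collect_cons]
      by_cases hk : p.1 = k
      · rw [if_pos hk, if_pos hk, castMat_append, smul_add]
      · rw [if_neg hk, if_neg hk, zero_add]
    rw [Finset.sum_congr rfl this, Finset.sum_add_distrib, Finset.sum_ite_eq ks p.1, if_pos hp]

/-- Equality check: all exponents lie in the list `ks`, and the coefficient matrices agree. -/
def leq (n : ℕ) (ks : List ℤ) (L1 L2 : LCoo) : Bool :=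
  ((L1 ++ L2).all fun p => ks.contains p.1) && ks.all fun k => normEq2 n (collect L1 k) (collect L2 k)

theorem evalL_eq_of_leq (F : Type*) [Field F] (n : ℕ) (ks : List ℤ) (L1 L2 : LCoo) (h : leq n ks L1 L2 = true)
    (c : F) : evalL D F L1 c = evalL D F L2 c := by
  unfold leq at h
  rw [Bool.and_eq_true, List.all_eq_true, List.all_eq_true] at h
  obtain ⟨h1, h2⟩ := h
  have m1 : ∀ p ∈ L1, p.1 ∈ ks.toFinset := by
    intro p hp
    have := h1 p (List.mem_append_left _ hp)
    simpa using this
  have m2 : ∀ p ∈ L2, p.1 ∈ ks.toFinset := by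
    intro p hp
    have := h1 p (List.mem_append_right _ hp)
    simpa using this
  rw [evalL_eq_sum_collect D F ks.toFinset c L1 m1, evalL_eq_sum_collect D F ks.toFinset c L2 m2]
  apply Finset.sum_congr rfl
  intro k hk
  rw [castMat_eq_of_normEq2 D F n _ _ (h2 k (List.mem_toFinset.mp hk))]

end Cfsg.Agent.Lib.Helper36_ChevLaurent
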