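import Cfsg.Agent.Lib.Helper36_ChevBorel

set_option autoImplicit false

/-!
The elements of the monomial subgroup `N` have a monomial block form (the span of the `h_{p_i}` is preserved and
every root vector goes to a multiple of a root vector); consequently `U ∩ N = 1` and `B ∩ N = H`.
-/

namespace Cfsg.Agent.Lib.Helper36_ChevMono

open Cfsg Cfsg.Lie Cfsg.Agent.Lib.Helper36_ChevSparse Cfsg.Agent.Lib.Helper36_ChevCoeff
  Cfsg.Agent.Lib.Helper36_ChevCoo Cfsg.Agent.Lib.Helper36_ChevAdd Cfsg.Agent.Lib.Helper36_ChevIdx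
  Cfsg.Agent.Lib.Helper36_ChevWeyl Cfsg.Agent.Lib.Helper36_ChevGen Cfsg.Agent.Lib.Helper36_ChevConj
  Cfsg.Agent.Lib.Helper36_ChevH Cfsg.Agent.Lib.Helper36_ChevHAll Cfsg.Agent.Lib.Helper36_ChevTorus
  Cfsg.Agent.Lib.Helper36_ChevTri Cfsg.Agent.Lib.Helper36_ChevBorel Cfsg.Agent.Lib.Helper36_ChevTables
  Cfsg.Agent.Lib.Helper36_ChevHConj

variable (D : ChevalleyDatum)

section
variable (F : Type*) [Field F]

/-- Monomial block form. -/
def Mono (M : Matrix D.Idx D.Idx F) : Prop :=
  (∀ (s : Fin D.nroots) (i : Fin D.rank), M (Sum.inr s) (Sum.inl i) = 0) ∧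
  (∀ (i : Fin D.rank) (s : Fin D.nroots), M (Sum.inl i) (Sum.inr s) = 0) ∧
  ∃ π : Fin D.nroots → Fin D.nroots, ∀ s s', M (Sum.inr s') (Sum.inr s) ≠ 0 → s' = π s

variable {D F}

theorem Mono.mul {M N : Matrix D.Idx D.Idx F} (hM : Mono D F M) (hN : Mono D F N) : Mono D F (M * N) := by
  obtain ⟨a1, b1, π1, c1⟩ := hM
  obtain ⟨a2, b2, π2, c2⟩ := hN
  refine ⟨?_, ?_, fun s => π1 (π2 s), ?_⟩
  · intro s i
    rw [Matrix.mul_apply, Fintype.sum_sum_type]
    have e1 : ∀ j : Fin D.rank, M (Sum.inr s) (Sum.inl j) * N (Sum.inl j) (Sum.inl i) = 0 := by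
      intro j; rw [a1, zero_mul]
    have e2 : ∀ t : Fin D.nroots, M (Sum.inr s) (Sum.inr t) * N (Sum.inr t) (Sum.inl i) = 0 := by
      intro t; rw [a2, mul_zero]
    simp only [e1, e2, Finset.sum_const_zero, add_zero]
  · intro i s
    rw [Matrix.mul_apply, Fintype.sum_sum_type]
    have e1 : ∀ j : Fin D.rank, M (Sum.inl i) (Sum.inl j) * N (Sum.inl j) (Sum.inr s) = 0 := by
      intro j; rw [b2, mul_zero]
    have e2 : ∀ t : Fin D.nroots, M (Sum.inl i) (Sum.inr t) * N (Sum.inr t) (Sum.inr s) = 0 := by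
      intro t; rw [b1, zero_mul]
    simp only [e1, e2, Finset.sum_const_zero, add_zero]
  · intro s s' hne
    rw [Matrix.mul_apply, Fintype.sum_sum_type] at hne
    have e1 : ∀ j : Fin D.rank, M (Sum.inr s') (Sum.inl j) * N (Sum.inl j) (Sum.inr s) = 0 := by
      intro j; rw [a1, zero_mul]
    simp only [e1, Finset.sum_const_zero, zero_add] at hne
    obtain ⟨t, -, ht⟩ := Finset.exists_ne_zero_of_sum_ne_zero hne
    have h1 : M (Sum.inr s') (Sum.inr t) ≠ 0 := left_ne_zero_of_mul ht
    have h2 : N (Sum.inr t) (Sum.inr s) ≠ 0 := right_ne_zero_of_mul ht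
    rw [c1 t s' h1, c2 s t h2]

theorem mono_diagonal (d : D.Idx → F) : Mono D F (Matrix.diagonal d) := by
  refine ⟨?_, ?_, fun s => s, ?_⟩
  · intro s i
    rw [Matrix.diagonal_apply_ne]
    simp
  · intro i s
    rw [Matrix.diagonal_apply_ne]
    simp
  · intro s s' hne
    by_contra h
    apply hne
    rw [Matrix.diagonal_apply_ne]
    intro hc
    exact h (Sum.inr.inj hc)

theorem mono_one : Mono D F (1 : Matrix D.Idx D.Idx F) := by
  rw [← Matrix.diagonal_one]
  exact mono_diagonal _

variable (D F)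

theorem mono_charDiag (χ : ℕ → Fˣ) : Mono D F (D.charDiag F χ) := by
  unfold ChevalleyDatum.charDiag
  exact mono_diagonal _

/-- A unitriangular matrix of monomial block form is the identity. -/
theorem eq_one_of_tri_of_mono {b : ℕ → ℤ} {M : Matrix D.Idx D.Idx F} (h1 : Tri D F (grade D b) (M - 1))
    (h2 : Mono D F M) : M = 1 := by
  obtain ⟨ha, hb, π, hc⟩ := h2
  have hdiag : ∀ s : Fin D.nroots, M (Sum.inr s) (Sum.inr s) = 1 := by
    intro s
    have := h1 (Sum.inr s) (Sum.inr s) le_rfl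
    rw [Matrix.sub_apply, Matrix.one_apply_eq, sub_eq_zero] at this
    exact this
  ext row col
  rcases row with i' | s' <;> rcases col with i | s
  · have := h1 (Sum.inl i') (Sum.inl i) (by simp [Helper36_ChevTri.grade])
    rw [Matrix.sub_apply, sub_eq_zero] at this
    exact this
  · rw [hb, Matrix.one_apply_ne (by simp)]
  · rw [ha, Matrix.one_apply_ne (by simp)]
  · by_cases hss : s' = s
    · subst hss
      rw [hdiag, Matrix.one_apply_eq]
    · rw [Matrix.one_apply_ne (by intro hc'; exact hss (Sum.inr.inj hc'))]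
      by_contra hne
      have e1 := hc s s' hne
      have e2 := hc s s (by rw [hdiag]; exact one_ne_zero)
      exact hss (e1.trans e2.symm)

/-- All `n_r(1)` and `n_r(-1)` have monomial block form. -/
def MonoFacts : Prop := ∀ r < D.nroots, Mono D F (D.nMat F r 1) ∧ Mono D F (D.nMat F r (-1))

end

section
variable (hlen : ChainLenOK D) (hadd : AddOK D) (hsimple : SimpleOK D) (Nl : NLits) (hNl : NLitOK D Nl)
  (F : Type*) [Field F] (k : ℕ)

include hlen hsimple hNl in
theorem mono_fund (hrc : ReflCartanOK D) (etaTbl : List (List ℤ)) (hmono : MonoOK D Nl etaTbl) (i : ℕ)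
    (hi : i < D.rank) : Mono D F (D.nMat F (D.simple i) 1) := by
  rw [nMat_eq_mono D hlen hsimple F i hi _ _ (hNl i hi) _ (hmono i hi)]
  refine ⟨?_, ?_, fun s => ⟨D.reflectRoot i s.val, reflect_lt D hrc i hi s.val s.isLt⟩, ?_⟩
  · intro s j
    simp only [Matrix.of_apply, Sum.elim_inl, Sum.elim_inr]
  · intro j s
    simp only [Matrix.of_apply, Sum.elim_inl, Sum.elim_inr]
  · intro s s' hne
    simp only [Matrix.of_apply, Sum.elim_inr] at hne
    by_contra hc
    apply hne
    rw [if_neg]
    intro h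
    exact hc (Fin.ext h)

include hlen hadd hsimple hNl in
theorem mono_fund_neg (hrc : ReflCartanOK D) (etaTbl : List (List ℤ)) (hmono : MonoOK D Nl etaTbl)
    (hfund : FundTorus D F) (i : ℕ) (hi : i < D.rank) : Mono D F (D.nMat F (D.simple i) (-1)) := by
  have e : D.nMat F (D.simple i) (-1) = D.hMat F (D.simple i) (-1) * D.nMat F (D.simple i) 1 := by
    rw [hMat_eq D F, Matrix.mul_assoc]
    have := nMat_neg_mul D hlen hadd F (D.simple i) 1
    rw [this, Matrix.mul_one]
  rw [e, hfund i hi (-1) (by simp)]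
  exact (mono_charDiag D F _).mul (mono_fund D hlen hsimple Nl hNl F hrc etaTbl hmono i hi)

include hlen hadd hsimple hNl in
theorem mono_step (hrc : ReflCartanOK D) (etaTbl : List (List ℤ)) (hmono : MonoOK D Nl etaTbl)
    (hfund : FundTorus D F) (i s : ℕ) (η : ℤ) (h : ConjPair D Nl k i s η)
    (hs : s < D.nroots ∧ Mono D F (D.nMat F s 1) ∧ Mono D F (D.nMat F s (-1))) :
    D.reflectRoot i s < D.nroots ∧ Mono D F (D.nMat F (D.reflectRoot i s) 1) ∧
      Mono D F (D.nMat F (D.reflectRoot i s) (-1)) := by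
  have hconj := fun c => nMat_conj D hlen hadd hsimple Nl hNl F k i s η h c
  obtain ⟨hr1, -, hη, -⟩ := hconj 1
  have hi : i < D.rank := h.1
  have hN1 := mono_fund D hlen hsimple Nl hNl F hrc etaTbl hmono i hi
  have hN2 := mono_fund_neg D hlen hadd hsimple Nl hNl F hrc etaTbl hmono hfund i hi
  have key : ∀ c : F, D.nMat F (D.reflectRoot i s) c =
      D.nMat F (D.simple i) 1 * D.nMat F s ((η : F) * c) * D.nMat F (D.simple i) (-1) := by
    intro c
    have e1 := (hconj ((η : F) * c)).2.2.2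
    have hηη : (η : F) * ((η : F) * c) = c := by
      rcases hη with h | h <;> rw [h] <;> simp
    rw [hηη] at e1
    rw [e1, Matrix.mul_assoc, nMat_mul_neg D hlen hadd F, Matrix.mul_one]
  have hcase : ∀ c : F, (c = 1 ∨ c = -1) → Mono D F (D.nMat F s ((η : F) * c)) := by
    intro c hc
    rcases hη with h | h <;> rcases hc with h' | h' <;> rw [h, h']
    · simpa using hs.2.1
    · simpa using hs.2.2
    · simpa using hs.2.2
    · simpa using hs.2.1
  refine ⟨hr1, ?_, ?_⟩
  · rw [key 1]
    exact (hN1.mul (hcase 1 (Or.inl rfl))).mul hN2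
  · rw [key (-1)]
    exact (hN1.mul (hcase (-1) (Or.inr rfl))).mul hN2

include hlen hadd hsimple hNl in
/-- All `n_r(±1)` have monomial block form (same hypotheses as `facts_mk`). -/
theorem monoFacts_mk (hca : CartanAddOK D) (hrc : ReflCartanOK D) (etaTbl : List (List ℤ))
    (hmono : MonoOK D Nl etaTbl) (n : ℕ) (hH : HChecks D Nl n) (tbl : List (List ℤ)) (hF : FundOK D Nl k tbl)
    (T : List (ℕ × ℕ × ℤ)) (hT : PairsOK D k Nl T) (hsym : treeSymCheck D T = true)
    (hreach : reachCheck D T = true) : MonoFacts D F := by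
  have hfund : FundTorus D F := fun j hj t ht => hMat_fund_eq D hlen hadd hsimple Nl hNl F n hH j hj t ht
  intro r hr
  have := tree_ind D Nl k (fun r => r < D.nroots ∧ Mono D F (D.nMat F r 1) ∧ Mono D F (D.nMat F r (-1)))
    (fun _ h => h.1)
    (fun j hj => ⟨(hsimple j hj).1, mono_fund D hlen hsimple Nl hNl F hrc etaTbl hmono j hj,
      mono_fund_neg D hlen hadd hsimple Nl hNl F hrc etaTbl hmono hfund j hj⟩)
    (fun i s η h hs => mono_step D hlen hadd hsimple Nl hNl F k hrc etaTbl hmono hfund i s η h hs)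
    tbl hF T hT hsym hreach r hr
  exact this.2

end

section
variable (F : Type*) [Field F]

/-- Every element of `N`, and its inverse, has monomial block form. -/
theorem mono_of_mem (hf : Facts D F) (hm : MonoFacts D F) (g : GL D.Idx F) (hg : g ∈ D.monomialSubgroup F) :
    Mono D F (g : Matrix D.Idx D.Idx F) := by
  -- the subgroup of the elements that, with their inverses, have monomial block form
  let S : Subgroup (GL D.Idx F) :=
    { carrier := {g | Mono D F (g : Matrix D.Idx D.Idx F) ∧ Mono D F ((g⁻¹ : GL D.Idx F) : Matrix D.Idx D.Idx F)}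
      mul_mem' := by
        intro a b ha hb
        refine ⟨?_, ?_⟩
        · rw [Units.val_mul]; exact ha.1.mul hb.1
        · rw [mul_inv_rev, Units.val_mul]; exact hb.2.mul ha.2
      one_mem' := by
        refine ⟨?_, ?_⟩
        · rw [Units.val_one]; exact mono_one
        · rw [inv_one, Units.val_one]; exact mono_one
      inv_mem' := by
        intro a ha
        exact ⟨ha.2, by rw [inv_inv]; exact ha.1⟩ }
  have hle : D.monomialSubgroup F ≤ S := by
    unfold ChevalleyDatum.monomialSubgroup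
    apply sup_le
    · intro h hh
      obtain ⟨u, rfl⟩ := (hf.mem_diag h).mp hh
      refine ⟨?_, ?_⟩
      · rw [torusGL_coe]; exact mono_charDiag D F _
      · rw [torusGL_inv, torusGL_coe]; exact mono_charDiag D F _
    · rw [Subgroup.closure_le]
      rintro x ⟨r, hr, hx⟩
      refine ⟨?_, ?_⟩
      · rw [hx]; exact (hm r hr).1
      · have : ((x⁻¹ : GL D.Idx F) : Matrix D.Idx D.Idx F) = D.nMat F r (-1) := by
          have h1 : (x : Matrix D.Idx D.Idx F) * D.nMat F r (-1) = 1 := by
            rw [hx]; exact nMat_mul_neg D hf.hlen hf.hadd F r 1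
          calc ((x⁻¹ : GL D.Idx F) : Matrix D.Idx D.Idx F)
              = ((x⁻¹ : GL D.Idx F) : Matrix D.Idx D.Idx F) * ((x : Matrix D.Idx D.Idx F) * D.nMat F r (-1)) := by
                rw [h1, mul_one]
            _ = (((x⁻¹ : GL D.Idx F) : Matrix D.Idx D.Idx F) * (x : Matrix D.Idx D.Idx F)) * D.nMat F r (-1) := by
                rw [mul_assoc]
            _ = D.nMat F r (-1) := by rw [Units.inv_mul, one_mul]
        rw [this]; exact (hm r hr).2
  exact (hle hg).1

variable (tbl : List ℕ) (off M : ℕ)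

/-- `U ∩ N = 1`. -/
theorem pos_inf_monomial (hf : Facts D F) (hm : MonoFacts D F) (hht : HtOK D tbl off M) :
    D.posUnipotent F ⊓ D.monomialSubgroup F = ⊥ := by
  rw [Subgroup.eq_bot_iff_forall]
  intro x hx
  obtain ⟨hx1, hx2⟩ := Subgroup.mem_inf.mp hx
  have htri := pos_tri D F hf.hlen hf.hadd tbl off M hht _ hx1
  apply Units.ext
  exact eq_one_of_tri_of_mono D F htri (mono_of_mem D F hf hm x hx2)

/-- `B ∩ N = H`. -/
theorem borel_inf_monomial (hf : Facts D F) (hchain : ChainOK D) (hm : MonoFacts D F) (hht : HtOK D tbl off M) :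
    D.borelSubgroup F ⊓ D.monomialSubgroup F = D.diagonalSubgroup F := by
  apply le_antisymm
  · intro g hg
    obtain ⟨hg1, hg2⟩ := Subgroup.mem_inf.mp hg
    have hnorm : D.diagonalSubgroup F ≤ Subgroup.normalizer (D.posUnipotent F : Set (GL D.Idx F)) :=
      diag_le_normalizer D F hf hchain D.IsPosRoot (fun r hr => hr.1)
    have hcoe := Subgroup.coe_mul_of_right_le_normalizer_left (D.posUnipotent F) (D.diagonalSubgroup F) hnorm
    have hg' : g ∈ ((D.posUnipotent F ⊔ D.diagonalSubgroup F : Subgroup (GL D.Idx F)) : Set (GL D.Idx F)) := hg1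
    rw [hcoe] at hg'
    obtain ⟨x, hx, y, hy, rfl⟩ := Set.mem_mul.mp hg'
    have hyN : y ∈ D.monomialSubgroup F := (le_sup_left : D.diagonalSubgroup F ≤ D.monomialSubgroup F) hy
    have hxN : x ∈ D.monomialSubgroup F := by
      have : x = (x * y) * y⁻¹ := by group
      rw [this]
      exact Subgroup.mul_mem _ hg2 (Subgroup.inv_mem _ hyN)
    have hx1 : x ∈ D.posUnipotent F ⊓ D.monomialSubgroup F := Subgroup.mem_inf.mpr ⟨hx, hxN⟩
    rw [pos_inf_monomial D F tbl off M hf hm hht, Subgroup.mem_bot] at hx1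
    show x * y ∈ D.diagonalSubgroup F
    rw [hx1, one_mul]
    exact hy
  · apply le_inf
    · exact (le_sup_right : D.diagonalSubgroup F ≤ D.borelSubgroup F)
    · exact (le_sup_left : D.diagonalSubgroup F ≤ D.monomialSubgroup F)

end

end Cfsg.Agent.Lib.Helper36_ChevMono
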