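import Cfsg.Agent.Lib.Helper36_WeylChain

set_option autoImplicit false

/-!
A root system given by literal tables (reflections, negation, positivity), its Weyl group as a group of permutations of
the root indices, and the certificate for one step of a chain of parabolic subgroups.
-/

namespace Cfsg.Agent.Lib.Helper36_WeylLit

open Cfsg.Agent.Lib.Helper36_WeylChain

/-- The `s`-th digit of `a` in base `256`. -/
def dig (a s : ℕ) : ℕ := (a >>> (8 * s)) &&& 255

/-- Literal tables; the lists of values are coded in base `256`. -/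
structure RootLit where
  n : ℕ
  rank : ℕ
  refl : List ℕ
  neg : ℕ
  pos : ℕ

namespace RootLit

variable (L : RootLit)

/-- The reflection `w_i` on the root index `s`. -/
def r (i s : ℕ) : ℕ := dig (L.refl.getD i 0) s

/-- The negative of a root. -/
def ng (s : ℕ) : ℕ := dig L.neg s

/-- Positivity. -/
def ps (s : ℕ) : Bool := dig L.pos s == 1

/-- Well-formedness of the tables. -/
def WF : Prop :=
  (∀ i < L.rank, ∀ s < L.n, L.r i s < L.n ∧ L.r i (L.r i s) = s ∧ L.r i (L.ng s) = L.ng (L.r i s)) ∧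
  (∀ s < L.n, L.ng s < L.n ∧ L.ng (L.ng s) = s ∧ L.ps (L.ng s) = (!L.ps s))

instance : Decidable L.WF := by
  unfold WF
  infer_instance

/-- The reflection as a function on `Fin n`. -/
def sFun (i : ℕ) (s : Fin L.n) : Fin L.n := if h : L.r i s < L.n then ⟨L.r i s, h⟩ else s

theorem sFun_val (h : L.WF) (i : ℕ) (hi : i < L.rank) (s : Fin L.n) : (L.sFun i s : ℕ) = L.r i s := by
  unfold sFun
  rw [dif_pos (h.1 i hi s s.2).1]

theorem sFun_invol (h : L.WF) (i : ℕ) (hi : i < L.rank) : Function.Involutive (L.sFun i) := by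
  intro s
  apply Fin.ext
  rw [sFun_val L h i hi, sFun_val L h i hi]
  exact (h.1 i hi s s.2).2.1

/-- The reflection as a permutation. -/
def sPerm (h : L.WF) (i : ℕ) : Equiv.Perm (Fin L.n) :=
  if hi : i < L.rank then (L.sFun_invol h i hi).toPerm else 1

theorem sPerm_val (h : L.WF) (i : ℕ) (hi : i < L.rank) (s : Fin L.n) : ((L.sPerm h i) s : ℕ) = L.r i s := by
  unfold sPerm
  rw [dif_pos hi]
  exact L.sFun_val h i hi s

theorem sPerm_mul_self (h : L.WF) (i : ℕ) : L.sPerm h i * L.sPerm h i = 1 := by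
  unfold sPerm
  by_cases hi : i < L.rank
  · rw [dif_pos hi]
    ext s
    rw [Equiv.Perm.mul_apply, Function.Involutive.coe_toPerm, L.sFun_invol h i hi s]
    rfl
  · rw [dif_neg hi, one_mul]

/-- The permutation of a word. -/
def wPerm (h : L.WF) (w : List ℕ) : Equiv.Perm (Fin L.n) := (w.map (L.sPerm h)).prod

theorem wPerm_nil (h : L.WF) : L.wPerm h [] = 1 := rfl

theorem wPerm_cons (h : L.WF) (i : ℕ) (w : List ℕ) : L.wPerm h (i :: w) = L.sPerm h i * L.wPerm h w := by
  unfold wPerm
  rw [List.map_cons, List.prod_cons]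

/-- The negation as a function on `Fin n`. -/
def negF (s : Fin L.n) : Fin L.n := if h : L.ng s < L.n then ⟨L.ng s, h⟩ else s

theorem negF_val (h : L.WF) (s : Fin L.n) : (L.negF s : ℕ) = L.ng s := by
  unfold negF
  rw [dif_pos (h.2 s s.2).1]

/-- The positive roots. -/
def Pos : Finset (Fin L.n) := Finset.univ.filter (fun s => L.ps s = true)

theorem mem_Pos (s : Fin L.n) : s ∈ L.Pos ↔ L.ps s = true := by
  unfold Pos
  rw [Finset.mem_filter]
  exact ⟨fun h => h.2, fun h => ⟨Finset.mem_univ _, h⟩⟩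

/-- The parabolic subgroup of a list of nodes. -/
def W (h : L.WF) (J : List ℕ) : Subgroup (Equiv.Perm (Fin L.n)) :=
  Subgroup.closure {g | ∃ i ∈ J, g = L.sPerm h i}

theorem W_nil (h : L.WF) : L.W h [] = ⊥ := by
  unfold W
  rw [Subgroup.closure_eq_bot_iff]
  rintro g ⟨i, hi, -⟩
  exact absurd hi List.not_mem_nil

theorem W_mono (h : L.WF) (J J' : List ℕ) (hJ : ∀ j ∈ J', j ∈ J) : L.W h J' ≤ L.W h J := by
  unfold W
  apply Subgroup.closure_mono
  rintro g ⟨i, hi, rfl⟩
  exact ⟨i, hJ i hi, rfl⟩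

/-- Induction over a parabolic subgroup by left multiplication with the generators. -/
theorem W_induction (h : L.WF) (J : List ℕ) (p : Equiv.Perm (Fin L.n) → Prop) (h1 : p 1)
    (hmul : ∀ i ∈ J, ∀ y, p y → p (L.sPerm h i * y)) (x : Equiv.Perm (Fin L.n)) (hx : x ∈ L.W h J) : p x := by
  unfold W at hx
  induction hx using Subgroup.closure_induction_left with
  | one => exact h1
  | mul_left s hs y _ ih =>
    obtain ⟨i, hi, rfl⟩ := hs
    exact hmul i hi y ih
  | inv_mul_cancel s hs y _ ih =>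
    obtain ⟨i, hi, rfl⟩ := hs
    have : (L.sPerm h i)⁻¹ = L.sPerm h i := inv_eq_of_mul_eq_one_left (L.sPerm_mul_self h i)
    rw [this]
    exact hmul i hi y ih

theorem wPerm_mem (h : L.WF) (J : List ℕ) (w : List ℕ) (hw : ∀ i ∈ w, i ∈ J) : L.wPerm h w ∈ L.W h J := by
  induction w with
  | nil => exact (L.W h J).one_mem
  | cons i w ih =>
    rw [wPerm_cons]
    exact (L.W h J).mul_mem (Subgroup.subset_closure ⟨i, hw i List.mem_cons_self, rfl⟩)
      (ih fun j hj => hw j (List.mem_cons_of_mem _ hj))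

/-- All elements of the Weyl group commute with the negation. -/
theorem W_neg (h : L.WF) (J : List ℕ) (hJ : ∀ i ∈ J, i < L.rank) (x : Equiv.Perm (Fin L.n)) (hx : x ∈ L.W h J)
    (s : Fin L.n) : x (L.negF s) = L.negF (x s) := by
  revert s
  refine L.W_induction h J (fun x => ∀ s, x (L.negF s) = L.negF (x s)) (fun s => rfl) ?_ x hx
  intro i hi y ih s
  rw [Equiv.Perm.mul_apply, Equiv.Perm.mul_apply, ih s]
  apply Fin.ext
  rw [L.sPerm_val h i (hJ i hi), L.negF_val h, L.negF_val h, L.sPerm_val h i (hJ i hi)]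
  exact (h.1 i (hJ i hi) (y s) (y s).2).2.2

theorem negF_negF (h : L.WF) (s : Fin L.n) : L.negF (L.negF s) = s := by
  apply Fin.ext
  rw [L.negF_val h, L.negF_val h]
  exact (h.2 s s.2).2.1

theorem mem_Pos_iff_neg (h : L.WF) (s : Fin L.n) : s ∈ L.Pos ↔ L.negF s ∉ L.Pos := by
  rw [L.mem_Pos, L.mem_Pos, L.negF_val h, (h.2 s s.2).2.2]
  cases L.ps s <;> simp


/-! ### the certificate for one step -/

/-- An entry of the list of coset representatives: parent, generator, word, images (coded in base `256`). -/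
structure Entry where
  par : ℕ
  gen : ℕ
  word : List ℕ
  img : ℕ

/-- One step `W_J = V W_J'` of the chain. -/
structure Step where
  J : List ℕ
  J' : List ℕ
  V : List Entry
  cert : List (List (ℕ × Option ℕ))
  T : List ℕ
  R : List ℕ
  lens : List ℕ

def Step.ent (st : Step) (k : ℕ) : Entry := st.V.getD k ⟨0, 0, [], 0⟩

def entryOK (st : Step) (k : ℕ) : Prop :=
  (k = 0 ∧ (st.ent k).word = [] ∧ ∀ s < L.n, dig (st.ent k).img s = s) ∨
  (0 < k ∧ (st.ent k).par < k ∧ (st.ent k).gen ∈ st.J ∧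
    (st.ent k).word = (st.ent k).gen :: (st.ent (st.ent k).par).word ∧
    ∀ s < L.n, dig (st.ent k).img s = L.r (st.ent k).gen (dig (st.ent (st.ent k).par).img s))

instance (st : Step) (k : ℕ) : Decidable (L.entryOK st k) := by
  unfold entryOK
  infer_instance

/-- The check of one certificate: `s_i v = v'` (`none`) or `s_i v = v s_j` (`some j`). -/
def certOne (st : Step) (img i : ℕ) (c : ℕ × Option ℕ) : Prop :=
  match c.2 with
  | none => c.1 < st.V.length ∧ ∀ s < L.n, L.r i (dig img s) = dig (st.ent c.1).img s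
  | some j => j ∈ st.J' ∧ ∀ s < L.n, L.r i (dig img s) = dig img (L.r j s)

instance (st : Step) (img i : ℕ) (c : ℕ × Option ℕ) : Decidable (L.certOne st img i c) := by
  unfold certOne
  split <;> infer_instance

def certOK (st : Step) (k a : ℕ) : Prop :=
  L.certOne st (st.ent k).img (st.J.getD a 0) ((st.cert.getD k []).getD a (0, none))

instance (st : Step) (k a : ℕ) : Decidable (L.certOK st k a) := by
  unfold certOK
  infer_instance

/-- The set `v(T)` coded as a sum of powers of two. -/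
def key (T : List ℕ) (img : ℕ) : ℕ := (T.map (fun t => 2 ^ dig img t)).sum

/-- The number of inversions from the images. -/
def invCount (img : ℕ) : ℕ :=
  ((List.range L.n).filter (fun s => L.ps s && !L.ps (dig img s))).length

/-- All the checks on a step. -/
structure StepOK (st : Step) : Prop where
  hJ : ∀ i ∈ st.J, i < L.rank
  hJ' : ∀ j ∈ st.J', j ∈ st.J
  hne : 0 < st.V.length
  entries : ∀ k < st.V.length, L.entryOK st k
  certs : ∀ k < st.V.length, ∀ a < st.J.length, L.certOK st k a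
  hT : ∀ t ∈ st.T, t < L.n
  hTnd : st.T.Nodup
  hTstab : ∀ j ∈ st.J', ∀ t ∈ st.T, L.r j t ∈ st.T
  hTnodup : (st.V.map (fun e => key st.T e.img)).Nodup
  hR : ∀ r ∈ st.R, r < L.n ∧ L.ps r = true
  hRstab : ∀ j ∈ st.J', ∀ s < L.n, L.ps s = true → s ∉ st.R → (L.ps (L.r j s) = true ∧ L.r j s ∉ st.R)
  hRpos : ∀ e ∈ st.V, ∀ r ∈ st.R, L.ps (dig e.img r) = true
  hlens : st.lens = st.V.map (fun e => L.invCount e.img)

theorem ent_mem (st : Step) (k : ℕ) (hk : k < st.V.length) : st.ent k ∈ st.V := by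
  unfold Step.ent
  rw [List.getD_eq_getElem _ _ hk]
  exact List.getElem_mem hk

theorem exists_ent (st : Step) (e : Entry) (he : e ∈ st.V) : ∃ k < st.V.length, st.ent k = e := by
  obtain ⟨k, hk, rfl⟩ := List.getElem_of_mem he
  refine ⟨k, hk, ?_⟩
  unfold Step.ent
  rw [List.getD_eq_getElem _ _ hk]

/-- The entries describe the permutations of their words. -/
theorem entry_spec (h : L.WF) (st : Step) (hst : L.StepOK st) (k : ℕ) (hk : k < st.V.length) :
    (∀ i ∈ (st.ent k).word, i ∈ st.J) ∧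
      ∀ s : Fin L.n, ((L.wPerm h (st.ent k).word) s : ℕ) = dig (st.ent k).img s := by
  induction k using Nat.strong_induction_on with
  | _ k ih =>
    rcases hst.entries k hk with ⟨-, hw, himg⟩ | ⟨-, hpar, hgen, hw, himg⟩
    · rw [hw]
      refine ⟨fun i hi => absurd hi List.not_mem_nil, fun s => ?_⟩
      rw [wPerm_nil, himg s s.2]
      rfl
    · obtain ⟨h1, h3⟩ := ih _ hpar (lt_trans hpar hk)
      rw [hw]
      refine ⟨?_, fun s => ?_⟩
      · intro i hi
        rcases List.mem_cons.mp hi with rfl | hi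
        · exact hgen
        · exact h1 i hi
      · rw [wPerm_cons, Equiv.Perm.mul_apply, L.sPerm_val h _ (hst.hJ _ hgen), h3 s, himg s s.2]

/-- The set of coset representatives. -/
def Vset (h : L.WF) (st : Step) : Finset (Equiv.Perm (Fin L.n)) :=
  (st.V.map (fun e => L.wPerm h e.word)).toFinset

theorem mem_Vset (h : L.WF) (st : Step) (v : Equiv.Perm (Fin L.n)) :
    v ∈ L.Vset h st ↔ ∃ k < st.V.length, v = L.wPerm h (st.ent k).word := by
  unfold Vset
  rw [List.mem_toFinset, List.mem_map]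
  constructor
  · rintro ⟨e, he, rfl⟩
    obtain ⟨k, hk, rfl⟩ := exists_ent st e he
    exact ⟨k, hk, rfl⟩
  · rintro ⟨k, hk, rfl⟩
    exact ⟨_, ent_mem st k hk, rfl⟩

theorem step_closure (h : L.WF) (st : Step) (hst : L.StepOK st) (i : ℕ) (hi : i ∈ st.J)
    (v : Equiv.Perm (Fin L.n)) (hv : v ∈ L.Vset h st) :
    ∃ v' ∈ L.Vset h st, ∃ u ∈ L.W h st.J', L.sPerm h i * v = v' * u := by
  obtain ⟨k, hk, rfl⟩ := (L.mem_Vset h st v).mp hv
  obtain ⟨a, ha, rfl⟩ := List.getElem_of_mem hi
  have hia : st.J.getD a 0 = st.J[a] := List.getD_eq_getElem _ _ ha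
  obtain ⟨-, hspec⟩ := L.entry_spec h st hst k hk
  have hc := hst.certs k hk a ha
  unfold certOK certOne at hc
  split at hc
  · obtain ⟨hc1, hc2⟩ := hc
    refine ⟨_, (L.mem_Vset h st _).mpr ⟨_, hc1, rfl⟩, 1, (L.W h st.J').one_mem, ?_⟩
    rw [mul_one]
    ext s
    obtain ⟨-, hspec'⟩ := L.entry_spec h st hst _ hc1
    rw [Equiv.Perm.mul_apply, L.sPerm_val h _ (hst.hJ _ hi), hspec s, hspec' s, ← hc2 s s.2, hia]
  · rename_i j hj
    obtain ⟨hc1, hc2⟩ := hc
    refine ⟨_, (L.mem_Vset h st _).mpr ⟨k, hk, rfl⟩, L.sPerm h j,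
      Subgroup.subset_closure ⟨j, hc1, rfl⟩, ?_⟩
    ext s
    have hj' : j < L.rank := hst.hJ j (hst.hJ' j hc1)
    rw [Equiv.Perm.mul_apply, Equiv.Perm.mul_apply, L.sPerm_val h _ (hst.hJ _ hi), hspec s, hspec,
      L.sPerm_val h j hj', ← hc2 s s.2, hia]

/-- The roots of `T` as a finite set. -/
def Tset (st : Step) : Finset (Fin L.n) := Finset.univ.filter (fun s => (s : ℕ) ∈ st.T)

/-- The elements of `W_J'` map `T` onto itself. -/
theorem image_Tset (h : L.WF) (st : Step) (hst : L.StepOK st) (u : Equiv.Perm (Fin L.n)) (hu : u ∈ L.W h st.J') :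
    (L.Tset st).image u = L.Tset st := by
  apply image_eq_of_maps
  refine L.W_induction h st.J' (fun u => ∀ r ∈ L.Tset st, u r ∈ L.Tset st) (fun r hr => hr) ?_ u hu
  intro j hj y ih r hr
  have h1 := ih r hr
  unfold Tset at h1 ⊢
  rw [Finset.mem_filter] at h1 ⊢
  refine ⟨Finset.mem_univ _, ?_⟩
  rw [Equiv.Perm.mul_apply, L.sPerm_val h j (hst.hJ j (hst.hJ' j hj))]
  exact hst.hTstab j hj _ h1.2

/-- The key of an entry is a function of the image of `T` under its permutation. -/
theorem key_eq (h : L.WF) (st : Step) (hst : L.StepOK st) (k : ℕ) (hk : k < st.V.length) :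
    key st.T (st.ent k).img = ∑ x ∈ (L.Tset st).image (L.wPerm h (st.ent k).word), 2 ^ (x : ℕ) := by
  rw [Finset.sum_image (fun a _ b _ e => (L.wPerm h (st.ent k).word).injective e)]
  unfold key
  have e1 : L.Tset st = (st.T.attach.map (fun t => (⟨t.1, hst.hT t.1 t.2⟩ : Fin L.n))).toFinset := by
    ext x
    unfold Tset
    rw [Finset.mem_filter, List.mem_toFinset, List.mem_map]
    constructor
    · rintro ⟨-, hx⟩
      exact ⟨⟨x, hx⟩, List.mem_attach _ _, rfl⟩
    · rintro ⟨t, -, rfl⟩
      exact ⟨Finset.mem_univ _, t.2⟩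
  have hnd : (st.T.attach.map (fun t => (⟨t.1, hst.hT t.1 t.2⟩ : Fin L.n))).Nodup := by
    apply List.Nodup.map
    · intro a b e
      exact Subtype.ext (Fin.mk.inj e)
    · exact List.nodup_attach.mpr hst.hTnd
  rw [e1, List.sum_toFinset _ hnd, List.map_map]
  have e2 : st.T.map (fun t => 2 ^ dig (st.ent k).img t) =
      st.T.attach.map (fun t => 2 ^ dig (st.ent k).img t.1) := by
    conv_lhs => rw [← List.attach_map_subtype_val st.T, List.map_map]
    rfl
  rw [e2]
  congr 1
  apply List.map_congr_left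
  intro t _
  show _ = 2 ^ ((L.wPerm h (st.ent k).word ⟨t.1, hst.hT t.1 t.2⟩ : Fin L.n) : ℕ)
  rw [(L.entry_spec h st hst k hk).2]

theorem step_uniq (h : L.WF) (st : Step) (hst : L.StepOK st)
    (k k' : ℕ) (hk : k < st.V.length) (hk' : k' < st.V.length)
    (u u' : Equiv.Perm (Fin L.n)) (hu : u ∈ L.W h st.J') (hu' : u' ∈ L.W h st.J')
    (e : L.wPerm h (st.ent k).word * u = L.wPerm h (st.ent k').word * u') : k = k' := by
  have himg : (L.Tset st).image (L.wPerm h (st.ent k).word) = (L.Tset st).image (L.wPerm h (st.ent k').word) := by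
    have h1 := congrArg (fun σ : Equiv.Perm (Fin L.n) => (L.Tset st).image σ) e
    simp only [Equiv.Perm.coe_mul, ← Finset.image_image] at h1
    rw [L.image_Tset h st hst u hu, L.image_Tset h st hst u' hu'] at h1
    exact h1
  have hkey : key st.T (st.ent k).img = key st.T (st.ent k').img := by
    rw [L.key_eq h st hst k hk, L.key_eq h st hst k' hk', himg]
  have hnd := hst.hTnodup
  rw [List.nodup_iff_injective_getElem] at hnd
  have hk1 : k < (st.V.map (fun e => key st.T e.img)).length := by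
    rw [List.length_map]; exact hk
  have hk1' : k' < (st.V.map (fun e => key st.T e.img)).length := by
    rw [List.length_map]; exact hk'
  have := @hnd ⟨k, hk1⟩ ⟨k', hk1'⟩ (by
    simp only [List.getElem_map]
    unfold Step.ent at hkey
    rw [List.getD_eq_getElem _ _ hk, List.getD_eq_getElem _ _ hk'] at hkey
    exact hkey)
  exact Fin.mk.inj this

theorem card_filter_fin (n : ℕ) (f : ℕ → Bool) :
    (Finset.univ.filter (fun s : Fin n => f s = true)).card = ((List.range n).filter f).length := by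
  have h1 : (Finset.univ.filter (fun s : Fin n => f s = true)).card =
      ((Finset.range n).filter (fun s => f s = true)).card := by
    apply Finset.card_bij (fun (s : Fin n) _ => (s : ℕ))
    · intro s hs
      rw [Finset.mem_filter] at hs ⊢
      exact ⟨Finset.mem_range.mpr s.2, hs.2⟩
    · intro a _ b _ e
      exact Fin.ext e
    · intro b hb
      rw [Finset.mem_filter, Finset.mem_range] at hb
      exact ⟨⟨b, hb.1⟩, by rw [Finset.mem_filter]; exact ⟨Finset.mem_univ _, hb.2⟩, rfl⟩
  rw [h1, Finset.card_def, Finset.filter_val, Finset.range_val, Multiset.range, Multiset.filter_coe,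
    Multiset.coe_card]
  congr 1
  apply List.filter_congr
  intro x _
  simp

/-- The number of inversions of a coset representative, from its images. -/
theorem inv_eq_invCount (h : L.WF) (st : Step) (hst : L.StepOK st) (k : ℕ) (hk : k < st.V.length) :
    inv L.Pos (L.wPerm h (st.ent k).word) = L.invCount (st.ent k).img := by
  unfold inv invCount
  rw [← card_filter_fin]
  congr 1
  ext s
  rw [Finset.mem_filter, Finset.mem_filter, L.mem_Pos, L.mem_Pos, (L.entry_spec h st hst k hk).2 s]
  constructor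
  · rintro ⟨h1, h2⟩
    refine ⟨Finset.mem_univ _, ?_⟩
    rw [h1]
    simpa using h2
  · rintro ⟨-, h1⟩
    rw [Bool.and_eq_true] at h1
    refine ⟨h1.1, ?_⟩
    simpa using h1.2

/-- The roots of `R` as a finite set. -/
def Rset (st : Step) : Finset (Fin L.n) := Finset.univ.filter (fun s => (s : ℕ) ∈ st.R)

theorem step_add (h : L.WF) (st : Step) (hst : L.StepOK st) (k : ℕ) (hk : k < st.V.length)
    (u : Equiv.Perm (Fin L.n)) (hu : u ∈ L.W h st.J') :
    inv L.Pos (L.wPerm h (st.ent k).word * u) = inv L.Pos (L.wPerm h (st.ent k).word) + inv L.Pos u := by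
  obtain ⟨hw, hspec⟩ := L.entry_spec h st hst k hk
  have hJ'r : ∀ j ∈ st.J', j < L.rank := fun j hj => hst.hJ j (hst.hJ' j hj)
  apply inv_mul L.negF L.Pos (L.Rset st)
  · intro s hs
    unfold Rset at hs
    rw [Finset.mem_filter] at hs
    rw [L.mem_Pos]
    exact (hst.hR _ hs.2).2
  · exact L.mem_Pos_iff_neg h
  · exact L.negF_negF h
  · exact L.W_neg h st.J hst.hJ _ (L.wPerm_mem h st.J _ hw)
  · exact L.W_neg h st.J' hJ'r u hu
  · refine L.W_induction h st.J' (fun u => ∀ r ∈ L.Pos, r ∉ L.Rset st → u r ∈ L.Pos ∧ u r ∉ L.Rset st)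
      (fun r hr hr' => ⟨hr, hr'⟩) ?_ u hu
    intro j hj y ih r hr hr'
    obtain ⟨h1, h2⟩ := ih r hr hr'
    rw [Equiv.Perm.mul_apply]
    rw [L.mem_Pos] at h1
    have h3 : ((y r : Fin L.n) : ℕ) ∉ st.R := by
      intro hc
      apply h2
      unfold Rset
      rw [Finset.mem_filter]
      exact ⟨Finset.mem_univ _, hc⟩
    obtain ⟨h4, h5⟩ := hst.hRstab j hj (y r) (y r).2 h1 h3
    constructor
    · rw [L.mem_Pos, L.sPerm_val h j (hJ'r j hj)]
      exact h4
    · unfold Rset
      rw [Finset.mem_filter, L.sPerm_val h j (hJ'r j hj)]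
      exact fun hc => h5 hc.2
  · intro r hr
    unfold Rset at hr
    rw [Finset.mem_filter] at hr
    rw [L.mem_Pos, hspec r]
    exact hst.hRpos _ (ent_mem st k hk) _ hr.2

/-- The permutations of the entries are pairwise distinct. -/
theorem nodup_V (h : L.WF) (st : Step) (hst : L.StepOK st) :
    (st.V.map (fun e => L.wPerm h e.word)).Nodup := by
  rw [List.nodup_iff_injective_getElem]
  rintro ⟨k, hk⟩ ⟨k', hk'⟩ e
  rw [List.length_map] at hk hk'
  simp only [List.getElem_map] at e
  have e' : L.wPerm h (st.ent k).word * 1 = L.wPerm h (st.ent k').word * 1 := by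
    unfold Step.ent
    rw [List.getD_eq_getElem _ _ hk, List.getD_eq_getElem _ _ hk', mul_one, mul_one]
    exact e
  exact Fin.ext (L.step_uniq h st hst k k' hk hk' 1 1 (L.W h st.J').one_mem (L.W h st.J').one_mem e')

/-- One step of the chain. -/
theorem pSum_stepLit (h : L.WF) (st : Step) (hst : L.StepOK st) (q : ℕ) :
    pSum (inv L.Pos) q (L.W h st.J) = (st.lens.map (fun d => q ^ d)).sum * pSum (inv L.Pos) q (L.W h st.J') := by
  have hsum : (∑ v ∈ L.Vset h st, q ^ inv L.Pos v) = (st.lens.map (fun d => q ^ d)).sum := by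
    unfold Vset
    rw [List.sum_toFinset _ (L.nodup_V h st hst), List.map_map, hst.hlens, List.map_map]
    congr 1
    apply List.map_congr_left
    intro e he
    obtain ⟨k, hk, rfl⟩ := exists_ent st e he
    show q ^ inv L.Pos (L.wPerm h (st.ent k).word) = q ^ L.invCount (st.ent k).img
    rw [L.inv_eq_invCount h st hst k hk]
  rw [← hsum]
  unfold W
  apply pSum_step (inv L.Pos) q {g | ∃ i ∈ st.J, g = L.sPerm h i}
  · rintro s ⟨i, -, rfl⟩
    exact L.sPerm_mul_self h i
  · exact L.W_mono h st.J st.J' hst.hJ'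
  · intro v hv
    obtain ⟨k, hk, rfl⟩ := (L.mem_Vset h st v).mp hv
    exact L.wPerm_mem h st.J _ (L.entry_spec h st hst k hk).1
  · rw [L.mem_Vset]
    refine ⟨0, hst.hne, ?_⟩
    rcases hst.entries 0 hst.hne with ⟨-, hw, -⟩ | ⟨h0, -⟩
    · rw [hw]
      rfl
    · exact absurd h0 (lt_irrefl 0)
  · rintro s ⟨i, hi, rfl⟩ v hv
    exact L.step_closure h st hst i hi v hv
  · intro v hv v' hv' u hu u' hu' e
    obtain ⟨k, hk, rfl⟩ := (L.mem_Vset h st v).mp hv
    obtain ⟨k', hk', rfl⟩ := (L.mem_Vset h st v').mp hv'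
    rw [L.step_uniq h st hst k k' hk hk' u u' hu hu' e]
  · intro v hv u hu
    obtain ⟨k, hk, rfl⟩ := (L.mem_Vset h st v).mp hv
    exact L.step_add h st hst k hk u hu

end RootLit

end Cfsg.Agent.Lib.Helper36_WeylLit
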