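import Cfsg.Agent.Lib.Helper36_ChevCommU
import Cfsg.Agent.Lib.Helper36_ChevCore
import Cfsg.Agent.Lib.Helper36_WeylLit

set_option autoImplicit false

/-!
The order of a Chevalley group over a finite field from the Bruhat normal form: the monomial group acts on the root
subgroups through the Weyl group (given by literal tables), the kernel of the action is `H`, the subgroup `U_w⁻` has
`q ^ l(w)` elements, and `|G| = |B| ∑_w q ^ l(w)`.
-/

namespace Cfsg.Agent.Lib.Helper36_ChevOrder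

open Cfsg Cfsg.Lie Cfsg.Agent.Lib.Helper36_ChevCoeff Cfsg.Agent.Lib.Helper36_ChevAdd
  Cfsg.Agent.Lib.Helper36_ChevWeyl Cfsg.Agent.Lib.Helper36_ChevGen Cfsg.Agent.Lib.Helper36_ChevTables
  Cfsg.Agent.Lib.Helper36_ChevTorus Cfsg.Agent.Lib.Helper36_ChevBorel Cfsg.Agent.Lib.Helper36_ChevW0
  Cfsg.Agent.Lib.Helper36_ChevCore Cfsg.Agent.Lib.Helper36_ChevCommU Cfsg.Agent.Lib.Helper36_WeylChain Cfsg.Agent.Lib.Helper36_WeylLit
  Cfsg.Agent.Lib.Helper36_WeylLit.RootLit

variable (D : ChevalleyDatum)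

/-- The literal tables describe the roots of the datum. -/
structure LitOK (L : RootLit) : Prop where
  hn : L.n = D.nroots
  hrank : L.rank = D.rank
  hr : ∀ i < D.rank, ∀ s < D.nroots, L.r i s = D.reflectRoot i s
  hpos : ∀ s < D.nroots, (L.ps s = true ↔ D.IsPosRoot s)
  hneg : ∀ s < D.nroots, (L.ps s = false ↔ D.IsNegRoot s)

/-- No root has all its coefficients equal to zero. -/
def NoZero : Prop := ∀ r < D.nroots, ¬ ∀ i < D.rank, (D.coroot.getD r #[]).getD i 0 = 0

instance : Decidable (NoZero D) := by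
  unfold NoZero
  infer_instance

section
variable (F : Type*) [Field F] (hf : Facts D F) (L : RootLit) (hwf : L.WF)

/-- The element `n` conjugates the root subgroup of `r` onto that of `σ r`, for all roots `r`. -/
def ActsAs (n : GL D.Idx F) (σ : Equiv.Perm (Fin L.n)) : Prop :=
  ∀ r : Fin L.n, ∃ c : Fˣ, ∀ t : F,
    n * xGL D hf.hlen hf.hadd F r t * n⁻¹ = xGL D hf.hlen hf.hadd F (σ r) ((c : F) * t)

theorem actsAs_one : ActsAs D F hf L 1 1 := by
  intro r
  refine ⟨1, fun t => ?_⟩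
  simp

theorem actsAs_mul {n n' : GL D.Idx F} {σ σ' : Equiv.Perm (Fin L.n)} (h1 : ActsAs D F hf L n σ)
    (h2 : ActsAs D F hf L n' σ') : ActsAs D F hf L (n * n') (σ * σ') := by
  intro r
  obtain ⟨c2, hc2⟩ := h2 r
  obtain ⟨c1, hc1⟩ := h1 (σ' r)
  refine ⟨c1 * c2, fun t => ?_⟩
  rw [Equiv.Perm.mul_apply, Units.val_mul, mul_assoc (c1 : F), ← hc1, ← hc2]
  group

theorem actsAs_inv {n : GL D.Idx F} {σ : Equiv.Perm (Fin L.n)} (h1 : ActsAs D F hf L n σ) :
    ActsAs D F hf L n⁻¹ σ⁻¹ := by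
  intro r
  obtain ⟨c, hc⟩ := h1 (σ⁻¹ r)
  refine ⟨c⁻¹, fun t => ?_⟩
  have := hc ((c⁻¹ : Fˣ) * t)
  rw [Equiv.apply_symm_apply σ r |> fun e => (show σ (σ⁻¹ r) = r from e), ← mul_assoc, ← Units.val_mul,
    mul_inv_cancel, Units.val_one, one_mul] at this
  rw [← this]
  group

/-- The elements of `H` act trivially. -/
theorem actsAs_diag (hchain : ChainOK D) (hl : LitOK D L) (h : GL D.Idx F) (hh : h ∈ D.diagonalSubgroup F) :
    ActsAs D F hf L h 1 := by
  obtain ⟨u, rfl⟩ := (hf.mem_diag h).mp hh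
  intro r
  have hr : (r : ℕ) < D.nroots := hl.hn ▸ r.2
  refine ⟨chi D F u r, fun t => ?_⟩
  apply Units.ext
  rw [Units.val_mul, Units.val_mul, torusGL_inv, torusGL_coe, torusGL_coe, xGL_coe, xGL_coe]
  exact torus_conj_x D F hf hchain u r hr t

/-- The `n_i` act as the fundamental reflections. -/
theorem actsAs_nGL (hc : AllConj D F) (hl : LitOK D L) (i : ℕ) (hi : i < D.rank) :
    ActsAs D F hf L (nGL D hf.hlen hf.hadd F i) (L.sPerm hwf i) := by
  intro r
  have hr : (r : ℕ) < D.nroots := hl.hn ▸ r.2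
  obtain ⟨η, hη, h⟩ := nGL_conj D F hf.hlen hf.hadd hc i hi r hr
  have hi' : i < L.rank := hl.hrank ▸ hi
  have hval : ((L.sPerm hwf i r : Fin L.n) : ℕ) = D.reflectRoot i r := by
    rw [L.sPerm_val hwf i hi', hl.hr i hi r hr]
  have hunit : IsUnit ((η : ℤ) : F) := by
    rcases hη with rfl | rfl <;> simp
  refine ⟨hunit.unit, fun t => ?_⟩
  rw [hval, IsUnit.unit_spec]
  exact h t

/-- The Weyl group: generated by all fundamental reflections. -/
def WAll : Subgroup (Equiv.Perm (Fin L.n)) := L.W hwf (List.range L.rank)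

theorem sPerm_mem_WAll (i : ℕ) (hi : i < L.rank) : L.sPerm hwf i ∈ WAll L hwf :=
  Subgroup.subset_closure ⟨i, List.mem_range.mpr hi, rfl⟩

/-- The monomial subgroup is generated by `H` and the `n_i`. -/
def NGen : Prop :=
  D.monomialSubgroup F = D.diagonalSubgroup F ⊔
    Subgroup.closure {g : GL D.Idx F | ∃ i < D.rank, (g : Matrix D.Idx D.Idx F) = D.nMat F (D.simple i) 1}

/-- Every element of `N` acts as an element of the Weyl group. -/
theorem exists_actsAs (hchain : ChainOK D) (hc : AllConj D F) (hl : LitOK D L) (hN : NGen D F) (n : GL D.Idx F)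
    (hn : n ∈ D.monomialSubgroup F) : ∃ σ ∈ WAll L hwf, ActsAs D F hf L n σ := by
  rw [hN, ← Subgroup.closure_eq (D.diagonalSubgroup F), ← Subgroup.closure_union] at hn
  induction hn using Subgroup.closure_induction with
  | mem g hg =>
    rcases hg with hg | ⟨i, hi, hg⟩
    · exact ⟨1, (WAll L hwf).one_mem, actsAs_diag D F hf L hchain hl g hg⟩
    · have : g = nGL D hf.hlen hf.hadd F i := Units.ext (by rw [hg, nGL_coe])
      rw [this]
      exact ⟨_, sPerm_mem_WAll L hwf i (hl.hrank ▸ hi), actsAs_nGL D F hf L hwf hc hl i hi⟩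
  | one => exact ⟨1, (WAll L hwf).one_mem, actsAs_one D F hf L⟩
  | mul a b _ _ iha ihb =>
    obtain ⟨σ, hσ, h1⟩ := iha
    obtain ⟨σ', hσ', h2⟩ := ihb
    exact ⟨σ * σ', (WAll L hwf).mul_mem hσ hσ', actsAs_mul D F hf L h1 h2⟩
  | inv a _ iha =>
    obtain ⟨σ, hσ, h1⟩ := iha
    exact ⟨σ⁻¹, (WAll L hwf).inv_mem hσ, actsAs_inv D F hf L h1⟩

/-- Every element of the Weyl group is the action of an element of `N`. -/
theorem exists_rep (hc : AllConj D F) (hl : LitOK D L) (σ : Equiv.Perm (Fin L.n)) (hσ : σ ∈ WAll L hwf) :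
    ∃ n ∈ D.monomialSubgroup F, ActsAs D F hf L n σ := by
  refine L.W_induction hwf (List.range L.rank) (fun σ => ∃ n ∈ D.monomialSubgroup F, ActsAs D F hf L n σ)
    ⟨1, (D.monomialSubgroup F).one_mem, actsAs_one D F hf L⟩ ?_ σ hσ
  intro i hi y ⟨n, hn, h1⟩
  have hi' : i < D.rank := hl.hrank ▸ List.mem_range.mp hi
  refine ⟨nGL D hf.hlen hf.hadd F i * n, (D.monomialSubgroup F).mul_mem ?_ hn,
    actsAs_mul D F hf L (actsAs_nGL D F hf L hwf hc hl i hi') h1⟩
  apply (le_sup_right : _ ≤ D.monomialSubgroup F)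
  exact Subgroup.subset_closure ⟨D.simple i, (hf.hsimple i hi').1, nGL_coe D hf.hlen hf.hadd F i⟩

/-- Distinct roots have distinct root elements. -/
def XInj : Prop :=
  ∀ r r' : ℕ, r < D.nroots → r' < D.nroots → ∀ a a' : F, a ≠ 0 → D.x F r a = D.x F r' a' → r' = r

/-- The action determines the permutation. -/
theorem actsAs_unique (hl : LitOK D L) (hx : XInj D F) {n : GL D.Idx F} {σ σ' : Equiv.Perm (Fin L.n)}
    (h1 : ActsAs D F hf L n σ) (h2 : ActsAs D F hf L n σ') : σ = σ' := by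
  ext r
  obtain ⟨c, hc⟩ := h1 r
  obtain ⟨c', hc'⟩ := h2 r
  have e : xGL D hf.hlen hf.hadd F (σ r) ((c : F) * 1) = xGL D hf.hlen hf.hadd F (σ' r) ((c' : F) * 1) := by
    rw [← hc 1, ← hc' 1]
  have e' := congrArg (fun g : GL D.Idx F => (g : Matrix D.Idx D.Idx F)) e
  simp only [xGL_coe] at e'
  have := hx (σ r) (σ' r) (hl.hn ▸ (σ r).2) (hl.hn ▸ (σ' r).2) _ _ (by simp) e'
  exact this.symm

/-- Conjugation maps the subgroup generated by the root elements of `P` into that of `Q`, if the permutation maps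
`P` into `Q`. -/
theorem conj_rootClosure (hl : LitOK D L) {n : GL D.Idx F} {σ : Equiv.Perm (Fin L.n)} (h1 : ActsAs D F hf L n σ)
    (P Q : ℕ → Prop) (hP : ∀ r, P r → r < D.nroots) (hPQ : ∀ r : Fin L.n, P r → Q (σ r)) (g : GL D.Idx F)
    (hg : g ∈ rootClosure D F P) : n * g * n⁻¹ ∈ rootClosure D F Q := by
  unfold rootClosure at hg
  induction hg using Subgroup.closure_induction with
  | mem g hg =>
    obtain ⟨r, t, hr, hg⟩ := hg
    have hg' : g = xGL D hf.hlen hf.hadd F r t := Units.ext hg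
    have hrn : r < L.n := hl.hn ▸ hP r hr
    obtain ⟨c, hc⟩ := h1 ⟨r, hrn⟩
    rw [hg', hc t]
    exact xGL_mem_rootClosure D F hf.hlen hf.hadd Q _ (hPQ ⟨r, hrn⟩ hr) _
  | one =>
    rw [mul_one, mul_inv_cancel]
    exact (rootClosure D F Q).one_mem
  | mul a b _ _ iha ihb =>
    have : n * (a * b) * n⁻¹ = (n * a * n⁻¹) * (n * b * n⁻¹) := by group
    rw [this]
    exact (rootClosure D F Q).mul_mem iha ihb
  | inv a _ iha =>
    have : n * a⁻¹ * n⁻¹ = (n * a * n⁻¹)⁻¹ := by group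
    rw [this]
    exact (rootClosure D F Q).inv_mem iha

/-- An element of `N` acting trivially on the roots lies in `H`. -/
theorem mem_diag_of_actsAs_one (hl : LitOK D L)
    (hNU : Subgroup.normalizer (D.posUnipotent F : Set (GL D.Idx F)) ⊓ D.group F = D.borelSubgroup F)
    (hBN : D.borelSubgroup F ⊓ D.monomialSubgroup F = D.diagonalSubgroup F) (n : GL D.Idx F)
    (hn : n ∈ D.monomialSubgroup F) (h1 : ActsAs D F hf L n 1) : n ∈ D.diagonalSubgroup F := by
  obtain ⟨-, -, -, hNG⟩ := subgroups_le D F hf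
  rw [← hBN]
  refine Subgroup.mem_inf.mpr ⟨?_, hn⟩
  rw [← hNU]
  refine Subgroup.mem_inf.mpr ⟨?_, hNG hn⟩
  rw [Subgroup.mem_normalizer_iff]
  have key : ∀ m : GL D.Idx F, ActsAs D F hf L m 1 → ∀ g ∈ D.posUnipotent F, m * g * m⁻¹ ∈ D.posUnipotent F := by
    intro m hm g hg
    rw [posUnipotent_eq] at hg ⊢
    exact conj_rootClosure D F hf L hl hm D.IsPosRoot D.IsPosRoot (fun r hr => hr.1) (fun r hr => hr) g hg
  intro g
  constructor
  · exact key n h1 g
  · intro hg
    have h2 : ActsAs D F hf L n⁻¹ 1 := by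
      have := actsAs_inv D F hf L h1
      rwa [_root_.inv_one] at this
    have := key n⁻¹ h2 _ hg
    rw [inv_inv] at this
    have e : n⁻¹ * (n * g * n⁻¹) * n = g := by group
    rwa [e] at this

/-! ### the subgroups `U_w⁻` -/

/-- The positive roots made negative by `σ`. -/
def SNeg (σ : Equiv.Perm (Fin L.n)) (r : ℕ) : Prop := D.IsPosRoot r ∧ ∃ h : r < L.n, L.ps (σ ⟨r, h⟩) = false

/-- The positive roots kept positive by `σ`. -/
def SPos (σ : Equiv.Perm (Fin L.n)) (r : ℕ) : Prop := D.IsPosRoot r ∧ ∃ h : r < L.n, L.ps (σ ⟨r, h⟩) = true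

/-- The subgroup `U_n⁻` as it appears in the normal form. -/
def Um (n : GL D.Idx F) : Subgroup (GL D.Idx F) :=
  Subgroup.closure {x : GL D.Idx F | ∃ (r : ℕ) (t : F), D.IsPosRoot r ∧
    (D.rootSubgroup F r).map (MulAut.conj n).toMonoidHom ≤ D.negUnipotent F ∧
    (x : Matrix D.Idx D.Idx F) = D.x F r t}

/-- `x_r(a) = 1` only for `a = 0`. -/
def XOne : Prop := ∀ r : ℕ, r < D.nroots → ∀ a : F, D.x F r a = 1 → a = 0

theorem Um_eq (hl : LitOK D L) (hUV : D.borelSubgroup F ⊓ D.negUnipotent F = ⊥) (hx1 : XOne D F)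
    {n : GL D.Idx F} {σ : Equiv.Perm (Fin L.n)} (h1 : ActsAs D F hf L n σ) :
    Um D F n = rootClosure D F (SNeg D L σ) := by
  unfold Um rootClosure
  congr 1
  ext x
  constructor
  · rintro ⟨r, t, hr, hle, hx⟩
    refine ⟨r, t, ⟨hr, hl.hn ▸ hr.1, ?_⟩, hx⟩
    by_contra hcon
    have hrn : r < L.n := hl.hn ▸ hr.1
    have hpos : L.ps (σ ⟨r, hrn⟩) = true := by
      cases h : L.ps (σ ⟨r, hrn⟩)
      · exact absurd h hcon
      · rfl
    obtain ⟨c, hc⟩ := h1 ⟨r, hrn⟩
    have hσr : ((σ ⟨r, hrn⟩ : Fin L.n) : ℕ) < D.nroots := hl.hn ▸ (σ ⟨r, hrn⟩).2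
    have hmemV : n * xGL D hf.hlen hf.hadd F r 1 * n⁻¹ ∈ D.negUnipotent F := by
      apply hle
      refine ⟨xGL D hf.hlen hf.hadd F r 1, Subgroup.subset_closure ⟨1, rfl⟩, ?_⟩
      show (MulAut.conj n) _ = _
      rw [MulAut.conj_apply]
    have hmemB : n * xGL D hf.hlen hf.hadd F r 1 * n⁻¹ ∈ D.borelSubgroup F := by
      rw [hc 1]
      apply (le_sup_left : D.posUnipotent F ≤ D.borelSubgroup F)
      exact Subgroup.subset_closure ⟨_, _, (hl.hpos _ hσr).mp hpos, rfl⟩
    have : n * xGL D hf.hlen hf.hadd F r 1 * n⁻¹ ∈ D.borelSubgroup F ⊓ D.negUnipotent F :=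
      Subgroup.mem_inf.mpr ⟨hmemB, hmemV⟩
    rw [hUV, Subgroup.mem_bot, hc 1] at this
    have h5 : D.x F (σ ⟨r, hrn⟩) ((c : F) * 1) = 1 := by
      rw [← xGL_coe D hf.hlen hf.hadd F, this]
      rfl
    have := hx1 _ hσr _ h5
    simp at this
  · rintro ⟨r, t, ⟨hr, hrn, hneg⟩, hx⟩
    refine ⟨r, t, hr, ?_, hx⟩
    unfold ChevalleyDatum.rootSubgroup
    rw [MonoidHom.map_closure, Subgroup.closure_le]
    rintro g ⟨y, ⟨t', hy⟩, rfl⟩
    have hy' : y = xGL D hf.hlen hf.hadd F r t' := Units.ext hy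
    obtain ⟨c, hc⟩ := h1 ⟨r, hrn⟩
    show (MulAut.conj n) y ∈ _
    rw [MulAut.conj_apply, hy', hc t']
    have hσr : ((σ ⟨r, hrn⟩ : Fin L.n) : ℕ) < D.nroots := hl.hn ▸ (σ ⟨r, hrn⟩).2
    exact Subgroup.subset_closure ⟨_, _, (hl.hneg _ hσr).mp hneg, rfl⟩

theorem inf_SNeg_SPos (hl : LitOK D L) (hUV : D.borelSubgroup F ⊓ D.negUnipotent F = ⊥)
    {n : GL D.Idx F} {σ : Equiv.Perm (Fin L.n)} (h1 : ActsAs D F hf L n σ) :
    rootClosure D F (SNeg D L σ) ⊓ rootClosure D F (SPos D L σ) = ⊥ := by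
  rw [Subgroup.eq_bot_iff_forall]
  intro x hx
  obtain ⟨hx1, hx2⟩ := Subgroup.mem_inf.mp hx
  have hV : n * x * n⁻¹ ∈ D.negUnipotent F := by
    rw [negUnipotent_eq]
    apply conj_rootClosure D F hf L hl h1 (SNeg D L σ) D.IsNegRoot (fun r hr => hr.1.1) ?_ x hx1
    rintro r ⟨-, h, hneg⟩
    exact (hl.hneg _ (hl.hn ▸ (σ r).2)).mp hneg
  have hB : n * x * n⁻¹ ∈ D.borelSubgroup F := by
    apply (le_sup_left : D.posUnipotent F ≤ D.borelSubgroup F)
    rw [posUnipotent_eq]
    apply conj_rootClosure D F hf L hl h1 (SPos D L σ) D.IsPosRoot (fun r hr => hr.1.1) ?_ x hx2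
    rintro r ⟨-, h, hpos⟩
    exact (hl.hpos _ (hl.hn ▸ (σ r).2)).mp hpos
  have : n * x * n⁻¹ ∈ D.borelSubgroup F ⊓ D.negUnipotent F := Subgroup.mem_inf.mpr ⟨hB, hV⟩
  rw [hUV, Subgroup.mem_bot] at this
  have e : x = n⁻¹ * (n * x * n⁻¹) * n := by group
  rw [e, this]
  group

/-- The uniqueness of the ordered product over the positive roots. -/
def OrdUnique : Prop :=
  ∀ g : GL D.Idx F, g ∈ D.posUnipotent F →
    ∃! t : ℕ → F, (∀ r, ¬ D.IsPosRoot r → t r = 0) ∧
      (g : Matrix D.Idx D.Idx F) = D.wordMat F (D.posRoots.map fun r => (r, t r))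

theorem wordXGL_mem' (P : ℕ → Prop) (W : List (ℕ × F)) (h : ∀ p ∈ W, P p.1 ∨ p.2 = 0) :
    wordXGL D F hf.hlen hf.hadd W ∈ rootClosure D F P := by
  induction W with
  | nil => exact (rootClosure D F P).one_mem
  | cons p W ih =>
    rw [wordXGL_cons]
    apply (rootClosure D F P).mul_mem _ (ih fun p' hp' => h p' (List.mem_cons_of_mem _ hp'))
    rcases h p List.mem_cons_self with hp | hp
    · exact xGL_mem_rootClosure D F hf.hlen hf.hadd P p.1 hp p.2
    · rw [hp, xGL_zero]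
      exact (rootClosure D F P).one_mem

open scoped Classical in
/-- The coefficient family attached to a function on the roots of `P`. -/
noncomputable def tOf (P : ℕ → Prop) (τ : {r : Fin L.n // P r} → F) (r : ℕ) : F :=
  if h : r < L.n ∧ P r then τ ⟨⟨r, h.1⟩, h.2⟩ else 0

include hf in
open scoped Classical in
/-- A subgroup generated by the root subgroups of `k` positive roots has at least `q ^ k` elements. -/
theorem le_card_rootClosure [Fintype F] (hord : OrdUnique D F) (P : ℕ → Prop) (hP : ∀ r, P r → D.IsPosRoot r) :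
    Fintype.card F ^ Fintype.card {r : Fin L.n // P r} ≤ Nat.card (rootClosure D F P) := by
  rw [← Fintype.card_fun, ← Nat.card_eq_fintype_card]
  have hmem : ∀ τ : {r : Fin L.n // P r} → F,
      wordXGL D F hf.hlen hf.hadd (D.posRoots.map fun r => (r, tOf F L P τ r)) ∈ rootClosure D F P := by
    intro τ
    apply wordXGL_mem' D F hf P
    intro p hp
    rw [List.mem_map] at hp
    obtain ⟨r, -, rfl⟩ := hp
    by_cases h : r < L.n ∧ P r
    · exact Or.inl h.2
    · right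
      show tOf F L P τ r = 0
      unfold tOf
      rw [dif_neg h]
  apply Nat.card_le_card_of_injective
    (fun τ => (⟨_, hmem τ⟩ : rootClosure D F P))
  intro τ τ' e
  have e1 : wordXGL D F hf.hlen hf.hadd (D.posRoots.map fun r => (r, tOf F L P τ r)) =
      wordXGL D F hf.hlen hf.hadd (D.posRoots.map fun r => (r, tOf F L P τ' r)) := congrArg Subtype.val e
  have hU : wordXGL D F hf.hlen hf.hadd (D.posRoots.map fun r => (r, tOf F L P τ r)) ∈ D.posUnipotent F := by
    rw [posUnipotent_eq]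
    have hle : rootClosure D F P ≤ rootClosure D F D.IsPosRoot := by
      unfold rootClosure
      apply Subgroup.closure_mono
      rintro g ⟨r, t, hr, hg⟩
      exact ⟨r, t, hP r hr, hg⟩
    exact hle (hmem τ)
  obtain ⟨t0, -, huniq⟩ := hord _ hU
  have hsupp : ∀ τ'' : {r : Fin L.n // P r} → F, ∀ r, ¬ D.IsPosRoot r → tOf F L P τ'' r = 0 := by
    intro τ'' r hr
    unfold tOf
    rw [dif_neg]
    exact fun h => hr (hP r h.2)
  have h1 := huniq (tOf F L P τ) ⟨hsupp τ, by rw [wordXGL_coe]⟩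
  have h2 := huniq (tOf F L P τ') ⟨hsupp τ', by rw [e1, wordXGL_coe]⟩
  funext r
  have h3 := congrFun (h1.trans h2.symm) (r.1 : ℕ)
  unfold tOf at h3
  rw [dif_pos ⟨r.1.2, r.2⟩, dif_pos ⟨r.1.2, r.2⟩] at h3
  exact h3

theorem rootClosure_le_pos (P : ℕ → Prop) (hP : ∀ r, P r → D.IsPosRoot r) :
    rootClosure D F P ≤ D.posUnipotent F := by
  rw [posUnipotent_eq]
  unfold rootClosure
  apply Subgroup.closure_mono
  rintro g ⟨r, t, hr, hg⟩
  exact ⟨r, t, hP r hr, hg⟩

/-- Two subgroups of `U` with trivial intersection: the product of the orders is at most the order of `U`. -/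
theorem card_mul_le [Finite F] (A B : Subgroup (GL D.Idx F)) (hA : A ≤ D.posUnipotent F) (hB : B ≤ D.posUnipotent F)
    (hAB : A ⊓ B = ⊥) : Nat.card A * Nat.card B ≤ Nat.card (D.posUnipotent F) := by
  rw [← Nat.card_prod]
  apply Nat.card_le_card_of_injective
    (fun p : A × B => (⟨(p.1 : GL D.Idx F) * (p.2 : GL D.Idx F),
      (D.posUnipotent F).mul_mem (hA p.1.2) (hB p.2.2)⟩ : D.posUnipotent F))
  intro p p' e
  have e1 : (p.1 : GL D.Idx F) * (p.2 : GL D.Idx F) = (p'.1 : GL D.Idx F) * (p'.2 : GL D.Idx F) :=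
    congrArg Subtype.val e
  exact Subgroup.mul_injective_of_disjoint (disjoint_iff.mpr hAB) e1

include hwf in
/-- Half of the roots are positive. -/
theorem two_mul_card_Pos : 2 * L.Pos.card = L.n := by
  have h1 : (Finset.univ \ L.Pos).card = L.Pos.card := by
    apply Finset.card_bij (fun r _ => L.negF r)
    · intro r hr
      rw [Finset.mem_sdiff] at hr
      by_contra hcon
      have := (L.mem_Pos_iff_neg hwf r).not.mp hr.2
      rw [not_not] at this
      exact hcon this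
    · intro a _ b _ e
      have := congrArg L.negF e
      rwa [L.negF_negF hwf, L.negF_negF hwf] at this
    · intro b hb
      refine ⟨L.negF b, ?_, L.negF_negF hwf b⟩
      rw [Finset.mem_sdiff]
      refine ⟨Finset.mem_univ _, ?_⟩
      rw [L.mem_Pos_iff_neg hwf, not_not, L.negF_negF hwf]
      exact hb
  have h2 := Finset.card_sdiff_add_card_eq_card (Finset.subset_univ L.Pos)
  rw [Finset.card_univ, Fintype.card_fin] at h2
  omega

open scoped Classical in
theorem card_SNeg (hl : LitOK D L) (σ : Equiv.Perm (Fin L.n)) :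
    Fintype.card {r : Fin L.n // SNeg D L σ r} = inv L.Pos σ := by
  unfold inv
  rw [Fintype.card_subtype]
  congr 1
  ext r
  rw [Finset.mem_filter, Finset.mem_filter, L.mem_Pos, L.mem_Pos]
  unfold SNeg
  constructor
  · rintro ⟨-, hr, _, hneg⟩
    refine ⟨(hl.hpos r (hl.hn ▸ r.2)).mpr hr, ?_⟩
    rw [hneg]
    simp
  · rintro ⟨hr, hneg⟩
    refine ⟨Finset.mem_univ _, (hl.hpos r (hl.hn ▸ r.2)).mp hr, r.2, ?_⟩
    simpa using hneg

open scoped Classical in
theorem card_SNeg_add_card_SPos (hl : LitOK D L) (σ : Equiv.Perm (Fin L.n)) :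
    Fintype.card {r : Fin L.n // SNeg D L σ r} + Fintype.card {r : Fin L.n // SPos D L σ r} = L.Pos.card := by
  rw [Fintype.card_subtype, Fintype.card_subtype, ← Finset.card_union_of_disjoint]
  · congr 1
    ext r
    rw [Finset.mem_union, Finset.mem_filter, Finset.mem_filter, L.mem_Pos]
    unfold SNeg SPos
    constructor
    · rintro (⟨-, hr, -⟩ | ⟨-, hr, -⟩) <;> exact (hl.hpos r (hl.hn ▸ r.2)).mpr hr
    · intro hr
      have hr' := (hl.hpos r (hl.hn ▸ r.2)).mp hr
      cases h : L.ps (σ r)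
      · exact Or.inl ⟨Finset.mem_univ _, hr', r.2, h⟩
      · exact Or.inr ⟨Finset.mem_univ _, hr', r.2, h⟩
  · rw [Finset.disjoint_left]
    intro r h1 h2
    rw [Finset.mem_filter] at h1 h2
    obtain ⟨-, -, _, h3⟩ := h1
    obtain ⟨-, -, _, h4⟩ := h2
    rw [h3] at h4
    exact Bool.false_ne_true h4

include hwf in
/-- `U_w⁻` has `q ^ l(w)` elements. -/
theorem card_SNeg_closure [Fintype F] (hl : LitOK D L) (hUV : D.borelSubgroup F ⊓ D.negUnipotent F = ⊥)
    (hord : OrdUnique D F) (hUcard : Nat.card (D.posUnipotent F) = Fintype.card F ^ (D.nroots / 2))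
    {n : GL D.Idx F} {σ : Equiv.Perm (Fin L.n)} (h1 : ActsAs D F hf L n σ) :
    Nat.card (rootClosure D F (SNeg D L σ)) = Fintype.card F ^ inv L.Pos σ := by
  classical
  have hq : 0 < Fintype.card F := Fintype.card_pos
  have ha := le_card_rootClosure D F hf L hord (SNeg D L σ) (fun r hr => hr.1)
  have hb := le_card_rootClosure D F hf L hord (SPos D L σ) (fun r hr => hr.1)
  have hab := card_mul_le D F _ _ (rootClosure_le_pos D F (SNeg D L σ) (fun r hr => hr.1))
    (rootClosure_le_pos D F (SPos D L σ) (fun r hr => hr.1)) (inf_SNeg_SPos D F hf L hl hUV h1)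
  have hsum := card_SNeg_add_card_SPos D L hl σ
  have h2 := two_mul_card_Pos L hwf
  have hN : D.nroots / 2 = Fintype.card {r : Fin L.n // SNeg D L σ r} +
      Fintype.card {r : Fin L.n // SPos D L σ r} := by
    rw [hsum, ← hl.hn]
    omega
  rw [hUcard, hN, pow_add] at hab
  rw [← card_SNeg D L hl σ]
  apply le_antisymm _ ha
  have h3 : Nat.card (rootClosure D F (SNeg D L σ)) *
      Fintype.card F ^ Fintype.card {r : Fin L.n // SPos D L σ r} ≤
      Fintype.card F ^ Fintype.card {r : Fin L.n // SNeg D L σ r} *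
      Fintype.card F ^ Fintype.card {r : Fin L.n // SPos D L σ r} :=
    le_trans (Nat.mul_le_mul_left _ hb) hab
  exact Nat.le_of_mul_le_mul_right h3 (pow_pos hq _)

/-! ### the count -/

/-- Existence of the normal form `g = b n u`. -/
def BruhatE : Prop :=
  ∀ g ∈ D.group F, ∃ b ∈ D.borelSubgroup F, ∃ n ∈ D.monomialSubgroup F, ∃ u ∈ Um D F n, g = b * n * u

/-- Uniqueness of the normal form. -/
def BruhatU : Prop :=
  ∀ (b b' n n' u u' : GL D.Idx F), b ∈ D.borelSubgroup F → b' ∈ D.borelSubgroup F →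
    n ∈ D.monomialSubgroup F → n' ∈ D.monomialSubgroup F → u ∈ Um D F n → u' ∈ Um D F n' →
    b * n * u = b' * n' * u' → n⁻¹ * n' ∈ D.diagonalSubgroup F ∧ (n = n' → b = b' ∧ u = u')

theorem Um_le_pos (n : GL D.Idx F) : Um D F n ≤ D.posUnipotent F := by
  unfold Um ChevalleyDatum.posUnipotent
  apply Subgroup.closure_mono
  rintro g ⟨r, t, hr, -, hg⟩
  exact ⟨r, t, hr, hg⟩

/-- A representative in `N` of an element of the Weyl group. -/
noncomputable def rep (hc : AllConj D F) (hl : LitOK D L) (σ : WAll L hwf) : GL D.Idx F :=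
  Classical.choose (exists_rep D F hf L hwf hc hl σ.1 σ.2)

theorem rep_mem (hc : AllConj D F) (hl : LitOK D L) (σ : WAll L hwf) :
    rep D F hf L hwf hc hl σ ∈ D.monomialSubgroup F :=
  (Classical.choose_spec (exists_rep D F hf L hwf hc hl σ.1 σ.2)).1

theorem rep_acts (hc : AllConj D F) (hl : LitOK D L) (σ : WAll L hwf) :
    ActsAs D F hf L (rep D F hf L hwf hc hl σ) σ.1 :=
  (Classical.choose_spec (exists_rep D F hf L hwf hc hl σ.1 σ.2)).2

/-- The parametrisation of the group by the normal form. -/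
noncomputable def param (hc : AllConj D F) (hl : LitOK D L)
    (x : Σ σ : WAll L hwf, ↥(D.borelSubgroup F) × ↥(Um D F (rep D F hf L hwf hc hl σ))) : D.group F :=
  ⟨(x.2.1 : GL D.Idx F) * rep D F hf L hwf hc hl x.1 * (x.2.2 : GL D.Idx F), by
    obtain ⟨hU, -, hH, hN⟩ := subgroups_le D F hf
    exact (D.group F).mul_mem ((D.group F).mul_mem (sup_le hU hH x.2.1.2) (hN (rep_mem D F hf L hwf hc hl x.1)))
      (hU (Um_le_pos D F _ x.2.2.2))⟩

theorem param_bijective (hchain : ChainOK D) (hc : AllConj D F) (hl : LitOK D L) (hN : NGen D F) (hx : XInj D F)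
    (hx1 : XOne D F) (hUV : D.borelSubgroup F ⊓ D.negUnipotent F = ⊥)
    (hNU : Subgroup.normalizer (D.posUnipotent F : Set (GL D.Idx F)) ⊓ D.group F = D.borelSubgroup F)
    (hBN : D.borelSubgroup F ⊓ D.monomialSubgroup F = D.diagonalSubgroup F)
    (hE : BruhatE D F) (hU : BruhatU D F) : Function.Bijective (param D F hf L hwf hc hl) := by
  constructor
  · rintro ⟨σ, b, u⟩ ⟨σ', b', u'⟩ e
    have e1 : (b : GL D.Idx F) * rep D F hf L hwf hc hl σ * (u : GL D.Idx F) =
        (b' : GL D.Idx F) * rep D F hf L hwf hc hl σ' * (u' : GL D.Idx F) := congrArg Subtype.val e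
    obtain ⟨h1, h2⟩ := hU _ _ _ _ _ _ b.2 b'.2 (rep_mem D F hf L hwf hc hl σ) (rep_mem D F hf L hwf hc hl σ')
      u.2 u'.2 e1
    have ha : ActsAs D F hf L ((rep D F hf L hwf hc hl σ)⁻¹ * rep D F hf L hwf hc hl σ') (σ.1⁻¹ * σ'.1) :=
      actsAs_mul D F hf L (actsAs_inv D F hf L (rep_acts D F hf L hwf hc hl σ)) (rep_acts D F hf L hwf hc hl σ')
    have hb := actsAs_diag D F hf L hchain hl _ h1
    have hσ : σ.1⁻¹ * σ'.1 = 1 := actsAs_unique D F hf L hl hx ha hb
    have hσσ : σ = σ' := Subtype.ext (inv_mul_eq_one.mp hσ)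
    subst hσσ
    obtain ⟨h3, h4⟩ := h2 rfl
    have : b = b' := Subtype.ext h3
    have : u = u' := Subtype.ext h4
    subst_vars
    rfl
  · rintro ⟨g, hg⟩
    obtain ⟨b, hb, n, hn, u, hu, rfl⟩ := hE g hg
    obtain ⟨σ, hσ, hact⟩ := exists_actsAs D F hf L hwf hchain hc hl hN n hn
    set m := rep D F hf L hwf hc hl ⟨σ, hσ⟩ with hm
    have hmN : m ∈ D.monomialSubgroup F := rep_mem D F hf L hwf hc hl ⟨σ, hσ⟩
    have hmact : ActsAs D F hf L m σ := rep_acts D F hf L hwf hc hl ⟨σ, hσ⟩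
    have h1 : ActsAs D F hf L (m⁻¹ * n) 1 := by
      have := actsAs_mul D F hf L (actsAs_inv D F hf L hmact) hact
      rwa [inv_mul_cancel] at this
    have hh : m⁻¹ * n ∈ D.diagonalSubgroup F :=
      mem_diag_of_actsAs_one D F hf L hl hNU hBN _ ((D.monomialSubgroup F).mul_mem
        ((D.monomialSubgroup F).inv_mem hmN) hn) h1
    have hh' : m * (m⁻¹ * n) * m⁻¹ ∈ D.diagonalSubgroup F :=
      (Subgroup.mem_normalizer_iff.mp (monomial_le_normalizer D F hf hmN) _).mp hh
    have hb' : b * (m * (m⁻¹ * n) * m⁻¹) ∈ D.borelSubgroup F :=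
      (D.borelSubgroup F).mul_mem hb ((le_sup_right : D.diagonalSubgroup F ≤ D.borelSubgroup F) hh')
    have hu' : u ∈ Um D F m := by
      rw [Um_eq D F hf L hl hUV hx1 hmact, ← Um_eq D F hf L hl hUV hx1 hact]
      exact hu
    refine ⟨⟨⟨σ, hσ⟩, ⟨_, hb'⟩, ⟨u, hu'⟩⟩, ?_⟩
    apply Subtype.ext
    show b * (m * (m⁻¹ * n) * m⁻¹) * m * u = b * n * u
    group

/-- `|B| = |U| |H|`. -/
theorem card_borel [Finite F]
    (hnorm : D.diagonalSubgroup F ≤ Subgroup.normalizer (D.posUnipotent F : Set (GL D.Idx F)))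
    (hUH : D.posUnipotent F ⊓ D.diagonalSubgroup F = ⊥) :
    Nat.card (D.borelSubgroup F) = Nat.card (D.posUnipotent F) * Nat.card (D.diagonalSubgroup F) := by
  rw [← Nat.card_prod]
  symm
  have hcoe := Subgroup.coe_mul_of_right_le_normalizer_left (D.posUnipotent F) (D.diagonalSubgroup F) hnorm
  apply Nat.card_congr
  refine Equiv.ofBijective (fun p : ↥(D.posUnipotent F) × ↥(D.diagonalSubgroup F) =>
    (⟨(p.1 : GL D.Idx F) * (p.2 : GL D.Idx F), (D.borelSubgroup F).mul_mem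
      ((le_sup_left : D.posUnipotent F ≤ D.borelSubgroup F) p.1.2)
      ((le_sup_right : D.diagonalSubgroup F ≤ D.borelSubgroup F) p.2.2)⟩ : D.borelSubgroup F)) ⟨?_, ?_⟩
  · intro p p' e
    have e1 : (p.1 : GL D.Idx F) * (p.2 : GL D.Idx F) = (p'.1 : GL D.Idx F) * (p'.2 : GL D.Idx F) :=
      congrArg Subtype.val e
    exact Subgroup.mul_injective_of_disjoint (disjoint_iff.mpr hUH) e1
  · rintro ⟨g, hg⟩
    have hg' : g ∈ ((D.posUnipotent F ⊔ D.diagonalSubgroup F : Subgroup (GL D.Idx F)) : Set (GL D.Idx F)) := hg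
    rw [hcoe] at hg'
    obtain ⟨x, hx, y, hy, rfl⟩ := Set.mem_mul.mp hg'
    exact ⟨(⟨x, hx⟩, ⟨y, hy⟩), rfl⟩

include hf in
open scoped Classical in
/-- The order of the group from the normal form. -/
theorem card_group [Fintype F] (hchain : ChainOK D) (hc : AllConj D F) (hl : LitOK D L) (hN : NGen D F)
    (hx : XInj D F) (hx1 : XOne D F) (hUV : D.borelSubgroup F ⊓ D.negUnipotent F = ⊥)
    (hNU : Subgroup.normalizer (D.posUnipotent F : Set (GL D.Idx F)) ⊓ D.group F = D.borelSubgroup F)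
    (hBN : D.borelSubgroup F ⊓ D.monomialSubgroup F = D.diagonalSubgroup F)
    (hE : BruhatE D F) (hU : BruhatU D F) (hord : OrdUnique D F)
    (hUcard : Nat.card (D.posUnipotent F) = Fintype.card F ^ (D.nroots / 2))
    (hnorm : D.diagonalSubgroup F ≤ Subgroup.normalizer (D.posUnipotent F : Set (GL D.Idx F)))
    (hUH : D.posUnipotent F ⊓ D.diagonalSubgroup F = ⊥) :
    Nat.card (D.group F) = Fintype.card F ^ (D.nroots / 2) * Nat.card (D.diagonalSubgroup F) *
      pSum (inv L.Pos) (Fintype.card F) (WAll L hwf) := by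
  have hbij := param_bijective D F hf L hwf hchain hc hl hN hx hx1 hUV hNU hBN hE hU
  letI : Fintype (WAll L hwf) := Fintype.ofFinite _
  rw [← Nat.card_congr (Equiv.ofBijective _ hbij), Nat.card_sigma]
  have hterm : ∀ σ : WAll L hwf,
      Nat.card (↥(D.borelSubgroup F) × ↥(Um D F (rep D F hf L hwf hc hl σ))) =
        Fintype.card F ^ (D.nroots / 2) * Nat.card (D.diagonalSubgroup F) * Fintype.card F ^ inv L.Pos σ.1 := by
    intro σ
    rw [Nat.card_prod, card_borel D F hnorm hUH, hUcard, Um_eq D F hf L hl hUV hx1 (rep_acts D F hf L hwf hc hl σ),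
      card_SNeg_closure D F hf L hwf hl hUV hord hUcard (rep_acts D F hf L hwf hc hl σ)]
  rw [Finset.sum_congr rfl (fun σ _ => hterm σ), ← Finset.mul_sum]
  congr 1
  unfold pSum
  rw [Finset.sum_subtype (p := fun x => x ∈ WAll L hwf) _ (fun x => by simp)]

end

end Cfsg.Agent.Lib.Helper36_ChevOrder
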