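import Cfsg.Agent.Lib.Helper36_ChevW0

set_option autoImplicit false

/-!
The standard parabolic subgroup `P_J` is generated by `H` and the root subgroups of the roots that are positive or
lie in the subsystem `Φ_J`.
-/

namespace Cfsg.Agent.Lib.Helper36_ChevParab

open Cfsg Cfsg.Lie Cfsg.Agent.Lib.Helper36_ChevCoeff Cfsg.Agent.Lib.Helper36_ChevAdd
  Cfsg.Agent.Lib.Helper36_ChevWeyl Cfsg.Agent.Lib.Helper36_ChevGen Cfsg.Agent.Lib.Helper36_ChevTorus
  Cfsg.Agent.Lib.Helper36_ChevTri Cfsg.Agent.Lib.Helper36_ChevBorel Cfsg.Agent.Lib.Helper36_ChevW0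

variable (D : ChevalleyDatum)

/-- The coefficient of the coroot of `r` on the `i`-th fundamental coroot. -/
def cor (r i : ℕ) : ℤ := (D.coroot.getD r #[]).getD i 0

/-- The check for the root `r`: if it is negative then either it is the negative of a fundamental root `p_j` (with
non-zero `j`-th coefficient), or some fundamental reflection `w_j` with `j` in the support of `r` sends it to a negative
root of larger height whose support is contained in that of `r`. -/
def parabCheck (tbl : List ℕ) (off : ℕ) (r : ℕ) : Prop :=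
  D.IsNegRoot r → (∃ j < D.rank, r = D.neg (D.simple j) ∧ cor D r j ≠ 0) ∨
    (∃ j < D.rank, cor D r j ≠ 0 ∧ D.IsNegRoot (D.reflectRoot j r) ∧
      htOf tbl off r < htOf tbl off (D.reflectRoot j r) ∧
      ∀ i < D.rank, cor D r i = 0 → cor D (D.reflectRoot j r) i = 0)

instance (tbl : List ℕ) (off : ℕ) (r : ℕ) : Decidable (parabCheck D tbl off r) := by
  unfold parabCheck
  infer_instance

def ParabRange (tbl : List ℕ) (off a b : ℕ) : Prop := ∀ r < b, a ≤ r → parabCheck D tbl off r

instance (tbl : List ℕ) (off a b : ℕ) : Decidable (ParabRange D tbl off a b) := by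
  unfold ParabRange
  infer_instance

theorem parabRange_trans (tbl : List ℕ) (off : ℕ) {a b c : ℕ} (h1 : ParabRange D tbl off a b)
    (h2 : ParabRange D tbl off b c) : ParabRange D tbl off a c := by
  intro r hr har
  by_cases h : r < b
  · exact h1 r h har
  · exact h2 r hr (Nat.le_of_not_lt h)

/-- The negatives of the fundamental roots have their coroot supported on one fundamental coroot. -/
def NegSimpleSupp : Prop := ∀ j < D.rank, ∀ i < D.rank, i ≠ j → cor D (D.neg (D.simple j)) i = 0

instance : Decidable (NegSimpleSupp D) := by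
  unfold NegSimpleSupp
  infer_instance

structure ParabOK (tbl : List ℕ) (off : ℕ) : Prop where
  range : ParabRange D tbl off 0 D.nroots
  supp : NegSimpleSupp D

section
variable (F : Type*) [Field F]

/-- The subgroup on the right-hand side. -/
def parabGen (J : Set ℕ) : Subgroup (GL D.Idx F) :=
  D.diagonalSubgroup F ⊔ Subgroup.closure {g : GL D.Idx F | ∃ (r : ℕ) (t : F),
    (D.IsPosRoot r ∨ D.InRootSub J r) ∧ (g : Matrix D.Idx D.Idx F) = D.x F r t}

variable (tbl : List ℕ) (off M : ℕ)

theorem nGL_mem_parabolic (hf : Facts D F) (J : Set ℕ) (j : ℕ) (hj : j < D.rank) (hjJ : j ∈ J) :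
    nGL D hf.hlen hf.hadd F j ∈ D.parabolicSubgroup F J := by
  apply (le_sup_right : _ ≤ D.parabolicSubgroup F J)
  exact Subgroup.subset_closure ⟨j, hjJ, hj, nGL_coe D hf.hlen hf.hadd F j⟩

theorem pos_mem_parabolic (hf : Facts D F) (J : Set ℕ) (r : ℕ) (hr : D.IsPosRoot r) (t : F) :
    xGL D hf.hlen hf.hadd F r t ∈ D.parabolicSubgroup F J := by
  apply (le_sup_left : D.borelSubgroup F ≤ D.parabolicSubgroup F J)
  apply (le_sup_left : D.posUnipotent F ≤ D.borelSubgroup F)
  exact Subgroup.subset_closure ⟨r, t, hr, rfl⟩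

/-- The root elements of the negative roots in `Φ_J` lie in `P_J`. -/
theorem neg_mem_parabolic (hf : Facts D F) (hc : AllConj D F) (hht : HtOK D tbl off M) (hpar : ParabOK D tbl off)
    (J : Set ℕ) : ∀ (m : ℕ) (r : ℕ), D.IsNegRoot r → D.InRootSub J r → - htOf tbl off r ≤ m → ∀ t : F,
      xGL D hf.hlen hf.hadd F r t ∈ D.parabolicSubgroup F J := by
  intro m
  induction m with
  | zero =>
    intro r hr _ hm t
    have := ((hht.range r hr.1 (Nat.zero_le _)).2.1 hr).1
    simp only at this
    simp only [Nat.cast_zero] at hm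
    omega
  | succ m ih =>
    intro r hr hJ hm t
    rcases hpar.range r hr.1 (Nat.zero_le _) hr with ⟨j, hj, rfl, hcj⟩ | ⟨j, hj, hcj, hneg, hlt, hsupp⟩
    · -- `r = -p_j`
      have hjJ : j ∈ J := by
        by_contra hn
        exact hcj (hJ.2 j hj hn)
      obtain ⟨η, hη, h⟩ := nGL_conj D F hf.hlen hf.hadd hc j hj (D.simple j) (hf.hsimple j hj).1
      have hrefl : D.reflectRoot j (D.simple j) = D.neg (D.simple j) := by
        unfold ChevalleyDatum.reflectRoot
        simp
      rw [hrefl] at h
      have hηη : (η : F) * ((η : F) * t) = t := by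
        rcases hη with h | h <;> rw [h] <;> simp
      have := h ((η : F) * t)
      rw [hηη] at this
      rw [← this]
      have hn := nGL_mem_parabolic D F hf J j hj hjJ
      exact mul_mem (mul_mem hn (pos_mem_parabolic D F hf J _ (hht.simple j hj).1 _)) (inv_mem hn)
    · -- reflect by `w_j`
      have hjJ : j ∈ J := by
        by_contra hn
        exact hcj (hJ.2 j hj hn)
      have hJ' : D.InRootSub J (D.reflectRoot j r) :=
        ⟨hneg.1, fun i hi hiJ => hsupp i hi (hJ.2 i hi hiJ)⟩
      have hm' : - htOf tbl off (D.reflectRoot j r) ≤ m := by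
        push_cast at hm
        omega
      have ih' := ih (D.reflectRoot j r) hneg hJ' hm'
      obtain ⟨η, hη, h⟩ := nGL_inv_conj D F hf.hlen hf.hadd hc hf.hrc j hj (D.reflectRoot j r) hneg.1
      rw [reflect_reflect D hf.hrc j hj r hr.1] at h
      have hηη : (η : F) * ((η : F) * t) = t := by
        rcases hη with h | h <;> rw [h] <;> simp
      have := h ((η : F) * t)
      rw [hηη] at this
      rw [← this]
      have hn := nGL_mem_parabolic D F hf J j hj hjJ
      exact mul_mem (mul_mem (inv_mem hn) (ih' _)) hn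

/-- `P_J` is generated by `H` and the root subgroups of the roots that are positive or in `Φ_J`. -/
theorem parabolic_eq (hf : Facts D F) (hc : AllConj D F) (hht : HtOK D tbl off M) (hpar : ParabOK D tbl off)
    (J : Set ℕ) : D.parabolicSubgroup F J = parabGen D F J := by
  apply le_antisymm
  · unfold ChevalleyDatum.parabolicSubgroup ChevalleyDatum.borelSubgroup parabGen
    refine sup_le (sup_le ?_ le_sup_left) ?_
    · refine le_trans ?_ le_sup_right
      unfold ChevalleyDatum.posUnipotent
      apply Subgroup.closure_mono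
      rintro g ⟨r, t, hr, hg⟩
      exact ⟨r, t, Or.inl hr, hg⟩
    · refine le_trans ?_ le_sup_right
      rw [Subgroup.closure_le]
      rintro g ⟨j, hjJ, hj, hg⟩
      have hg' : g = nGL D hf.hlen hf.hadd F j := Units.ext (hg.trans (nGL_coe D hf.hlen hf.hadd F j).symm)
      rw [hg']
      unfold nGL
      have hp : xGL D hf.hlen hf.hadd F (D.simple j) 1 ∈ Subgroup.closure {g : GL D.Idx F | ∃ (r : ℕ) (t : F),
          (D.IsPosRoot r ∨ D.InRootSub J r) ∧ (g : Matrix D.Idx D.Idx F) = D.x F r t} :=
        Subgroup.subset_closure ⟨_, _, Or.inl (hht.simple j hj).1, rfl⟩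
      have hn : xGL D hf.hlen hf.hadd F (D.neg (D.simple j)) (-1) ∈ Subgroup.closure {g : GL D.Idx F |
          ∃ (r : ℕ) (t : F), (D.IsPosRoot r ∨ D.InRootSub J r) ∧ (g : Matrix D.Idx D.Idx F) = D.x F r t} := by
        refine Subgroup.subset_closure ⟨_, _, Or.inr ⟨(hf.hsimple j hj).2, ?_⟩, rfl⟩
        intro i hi hiJ
        have hij : i ≠ j := by
          rintro rfl
          exact hiJ hjJ
        exact hpar.supp j hj i hi hij
      exact mul_mem hp (mul_mem hn hp)
  · unfold parabGen
    refine sup_le ?_ ?_
    · exact le_trans (le_sup_right : D.diagonalSubgroup F ≤ D.borelSubgroup F) le_sup_left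
    · rw [Subgroup.closure_le]
      rintro g ⟨r, t, hr, hg⟩
      have hg' : g = xGL D hf.hlen hf.hadd F r t := Units.ext hg
      rw [hg']
      rcases hr with hr | hr
      · exact pos_mem_parabolic D F hf J r hr t
      · rcases (hht.range r hr.1 (Nat.zero_le _)).2.2.1 with hp | hn
        · exact pos_mem_parabolic D F hf J r hp t
        · have hb : - htOf tbl off r ≤ ((- htOf tbl off r).toNat : ℤ) := Int.self_le_toNat _
          exact neg_mem_parabolic D F tbl off M hf hc hht hpar J _ r hn hr hb t

end

end Cfsg.Agent.Lib.Helper36_ChevParab
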