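import Cfsg.Agent.Lib.Helper36_ChevDataG2Par
import Cfsg.Agent.Lib.Helper36_ChevDataB2Par
import Cfsg.Agent.Lib.Helper36_ChevDataD4Par
import Cfsg.Agent.Lib.Helper36_ChevDataF4Par
import Cfsg.Agent.Lib.Helper36_ChevDataE6Par
import Cfsg.Agent.Lib.Helper36_ChevDataE7Par
import Cfsg.Agent.Lib.Helper36_ChevDataE8Par

set_option autoImplicit false

/-! The table checks for the parabolic subgroups, for the seven tabulated Chevalley data. -/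

namespace Cfsg.Agent.Lib.Helper36_ChevParabAll

open Cfsg Cfsg.Lie Cfsg.Agent.Lib.Helper36_ChevTri Cfsg.Agent.Lib.Helper36_ChevParab

theorem parabOK_of_mem (D : ChevalleyDatum)
    (hD : D ∈ [chevG2, chevB2, chevD4, chevF4, chevE6, chevE7, chevE8]) :
    ∃ (tbl : List ℕ) (off M : ℕ), HtOK D tbl off M ∧ ParabOK D tbl off := by
  simp only [List.mem_cons, List.not_mem_nil, or_false] at hD
  rcases hD with rfl | rfl | rfl | rfl | rfl | rfl | rfl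
  · exact ⟨_, _, _, Cfsg.Agent.Lib.Helper36_ChevDataG2Ht.htOK, Cfsg.Agent.Lib.Helper36_ChevDataG2Par.parabOK⟩
  · exact ⟨_, _, _, Cfsg.Agent.Lib.Helper36_ChevDataB2Ht.htOK, Cfsg.Agent.Lib.Helper36_ChevDataB2Par.parabOK⟩
  · exact ⟨_, _, _, Cfsg.Agent.Lib.Helper36_ChevDataD4Ht.htOK, Cfsg.Agent.Lib.Helper36_ChevDataD4Par.parabOK⟩
  · exact ⟨_, _, _, Cfsg.Agent.Lib.Helper36_ChevDataF4Ht.htOK, Cfsg.Agent.Lib.Helper36_ChevDataF4Par.parabOK⟩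
  · exact ⟨_, _, _, Cfsg.Agent.Lib.Helper36_ChevDataE6Ht.htOK, Cfsg.Agent.Lib.Helper36_ChevDataE6Par.parabOK⟩
  · exact ⟨_, _, _, Cfsg.Agent.Lib.Helper36_ChevDataE7Ht.htOK, Cfsg.Agent.Lib.Helper36_ChevDataE7Par.parabOK⟩
  · exact ⟨_, _, _, Cfsg.Agent.Lib.Helper36_ChevDataE8Ht.htOK, Cfsg.Agent.Lib.Helper36_ChevDataE8Par.parabOK⟩

end Cfsg.Agent.Lib.Helper36_ChevParabAll
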