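import Cfsg.Agent.Lib.Helper36_ChevCommU

set_option autoImplicit false

/-!
The Chevalley group is perfect: every root element is a product of commutators, either `[h, x_r(t)]` with `h` in the
diagonal subgroup (when the field has an element `l ≠ 0` with `l² ≠ 1`), or from the commutator formula along a
checked list of pairs of roots (for the fields with two or three elements).
-/

namespace Cfsg.Agent.Lib.Helper36_ChevPerf

open Cfsg Cfsg.Lie Cfsg.Agent.Lib.Helper36_ChevCoeff Cfsg.Agent.Lib.Helper36_ChevAdd
  Cfsg.Agent.Lib.Helper36_ChevComm Cfsg.Agent.Lib.Helper36_ChevBorel Cfsg.Agent.Lib.Helper36_ChevCommU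
  Cfsg.Agent.Lib.Helper36_ChevTorus Cfsg.Agent.Lib.Helper36_ChevTables Cfsg.Agent.Lib.Helper36_ChevWeyl

open scoped commutatorElement

variable (D : ChevalleyDatum)

/-! ### the torus argument -/

/-- The check for the root `r`: the fundamental coroot listed for `r` pairs with `r` to `±1` or `±2`. -/
def torCheck (tor : List ℕ) (r : ℕ) : Prop :=
  tor.getD r 0 < D.rank ∧ (D.cartan (tor.getD r 0) r = 1 ∨ D.cartan (tor.getD r 0) r = -1 ∨
    D.cartan (tor.getD r 0) r = 2 ∨ D.cartan (tor.getD r 0) r = -2)

instance (tor : List ℕ) (r : ℕ) : Decidable (torCheck D tor r) := by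
  unfold torCheck
  infer_instance

/-- The check for all roots. -/
def TorOK (tor : List ℕ) : Prop := ∀ r < D.nroots, torCheck D tor r

instance (tor : List ℕ) : Decidable (TorOK D tor) := by
  unfold TorOK
  infer_instance

section
variable (F : Type*) [Field F]

theorem xGL_mem_of_torus (hf : Facts D F) (hchain : ChainOK D) (tor : List ℕ) (htor : TorOK D tor) (l : F)
    (hl0 : l ≠ 0) (hl2 : l ^ 2 ≠ 1) (r : ℕ) (hr : r < D.nroots) (t : F) :
    xGL D hf.hlen hf.hadd F r t ∈ ⁅D.group F, D.group F⁆ := by
  obtain ⟨hj, hA⟩ := htor r hr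
  set j := tor.getD r 0 with hjdef
  set v : Fˣ := Units.mk0 l hl0 with hv
  set u : ℕ → Fˣ := Function.update 1 j v with hu
  have hχ : chi D F u r = v ^ (D.cartan j r) := chi_single D F j hj v r
  have hv2 : v ^ (2 : ℤ) ≠ 1 := by
    intro h
    apply hl2
    have := congrArg (fun x : Fˣ => (x : F)) h
    simpa [hv, zpow_ofNat] using this
  have hv1 : v ≠ 1 := by
    intro h
    apply hv2
    rw [h, one_zpow]
  have hc1 : chi D F u r ≠ 1 := by
    rw [hχ]
    rcases hA with h | h | h | h <;> rw [h]
    · rw [zpow_one]; exact hv1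
    · rw [zpow_neg_one]; intro h'; exact hv1 (inv_eq_one.mp h')
    · exact hv2
    · rw [zpow_neg]; intro h'; exact hv2 (inv_eq_one.mp h')
  set c : F := (chi D F u r : F) with hc
  have hc1' : c - 1 ≠ 0 := by
    intro h
    apply hc1
    apply Units.ext
    rw [Units.val_one]
    exact sub_eq_zero.mp h
  -- the torus element and its action
  have hH : torusGL D F (chi D F u) ∈ D.group F :=
    (subgroups_le D F hf).2.2.1 (torusGL_mem D F hf.hsimple hf.fundTorus u)
  have hconj : ∀ t' : F, torusGL D F (chi D F u) * xGL D hf.hlen hf.hadd F r t' * (torusGL D F (chi D F u))⁻¹ =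
      xGL D hf.hlen hf.hadd F r (c * t') := by
    intro t'
    apply Units.ext
    rw [Units.val_mul, Units.val_mul, torusGL_inv, torusGL_coe, torusGL_coe, xGL_coe, xGL_coe]
    exact torus_conj_x D F hf hchain u r hr t'
  have key : ⁅torusGL D F (chi D F u), xGL D hf.hlen hf.hadd F r (t / (c - 1))⁆ = xGL D hf.hlen hf.hadd F r t := by
    rw [commutatorElement_def, hconj, xGL_inv, xGL_mul]
    congr 1
    field_simp
    ring
  rw [← key]
  exact Subgroup.commutator_mem_commutator hH (xGL_mem_group D F hf.hlen hf.hadd r _)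

end

/-! ### the commutator argument -/

/-- The check of a step `(r, a, b)`: the first term of the commutator formula for `(a, b)` is `x_r(± t u)` (or
`x_r(± 2 t u)` if allowed) and the other terms are root elements of roots already dealt with. -/
def perfStep (allow2 : Bool) (done : List ℕ) (p : ℕ × ℕ × ℕ) : Bool :=
  decide (p.1 < D.nroots) && decide (p.2.1 < D.nroots) && decide (p.2.2 < D.nroots) && (p.2.2 != p.2.1) &&
  (p.2.2 != D.neg p.2.1) &&
  (match D.commTerms p.2.1 p.2.2 with
   | [] => false
   | c :: rest => (c.1 == p.1) && (c.2.2.1 == 1) && (c.2.2.2 == 1) &&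
       (c.2.1 == 1 || c.2.1 == -1 || (allow2 && (c.2.1 == 2 || c.2.1 == -2))) &&
       rest.all (fun c' => done.contains c'.1))

/-- Running the steps, collecting the roots dealt with. -/
def perfRun (allow2 : Bool) : List (ℕ × ℕ × ℕ) → List ℕ → Option (List ℕ)
  | [], done => some done
  | p :: T, done => if perfStep D allow2 done p then perfRun allow2 T (p.1 :: done) else none

/-- The steps deal with all roots. -/
def perfCheck (allow2 : Bool) (T : List (ℕ × ℕ × ℕ)) : Bool :=
  match perfRun D allow2 T [] with
  | some done => (List.range D.nroots).all fun r => done.contains r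
  | none => false

section
variable (F : Type*) [Field F] (hlen : ChainLenOK D) (hadd : AddOK D)

include hlen hadd in
theorem perfStep_sound (hcf : CFAll D F) (allow2 : Bool) (h2 : allow2 = true → (2 : F) ≠ 0) (done : List ℕ)
    (hdone : ∀ k ∈ done, ∀ v : F, xGL D hlen hadd F k v ∈ ⁅D.group F, D.group F⁆) (p : ℕ × ℕ × ℕ)
    (hp : perfStep D allow2 done p = true) (v : F) :
    xGL D hlen hadd F p.1 v ∈ ⁅D.group F, D.group F⁆ := by
  unfold perfStep at hp
  simp only [Bool.and_eq_true, decide_eq_true_eq, bne_iff_ne, ne_eq] at hp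
  obtain ⟨⟨⟨⟨⟨hr, ha⟩, hb⟩, hba⟩, hbn⟩, hm⟩ := hp
  cases hT : D.commTerms p.2.1 p.2.2 with
  | nil => rw [hT] at hm; exact absurd hm (by simp)
  | cons c rest =>
    rw [hT] at hm
    simp only [Bool.and_eq_true, beq_iff_eq, Bool.or_eq_true, List.all_eq_true] at hm
    obtain ⟨⟨⟨⟨hc1, hci⟩, hcj⟩, hC⟩, hrest⟩ := hm
    have hCne : ((c.2.1 : ℤ) : F) ≠ 0 := by
      rcases hC with (h | h) | ⟨ha2, h | h⟩
      · rw [h]; simp
      · rw [h]; simp
      · rw [h]; simpa using h2 ha2
      · rw [h]; simpa using h2 ha2
    -- the word of the formula is a commutator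
    have hW : ∀ t u : F, wordXGL D F hlen hadd (D.commWord F p.2.1 p.2.2 t u) ∈ ⁅D.group F, D.group F⁆ := by
      intro t u
      have e := conj_xGL D F hlen hadd hcf p.2.1 p.2.2 ha hb hba hbn t u
      have e' : wordXGL D F hlen hadd (D.commWord F p.2.1 p.2.2 t u) =
          ⁅(xGL D hlen hadd F p.2.2 u)⁻¹, (xGL D hlen hadd F p.2.1 t)⁻¹⁆ := by
        rw [commutatorElement_def, inv_inv, inv_inv]
        have : wordXGL D F hlen hadd (D.commWord F p.2.1 p.2.2 t u) =
            (xGL D hlen hadd F p.2.2 u)⁻¹ *
              ((xGL D hlen hadd F p.2.1 t)⁻¹ * xGL D hlen hadd F p.2.2 u * xGL D hlen hadd F p.2.1 t) := by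
          rw [e]
          group
        rw [this]
        group
      rw [e']
      exact Subgroup.commutator_mem_commutator (Subgroup.inv_mem _ (xGL_mem_group D F hlen hadd _ _))
        (Subgroup.inv_mem _ (xGL_mem_group D F hlen hadd _ _))
    -- split off the first term
    have hsplit : ∀ t u : F, D.commWord F p.2.1 p.2.2 t u =
        (c.1, (c.2.1 : F) * (-t) ^ c.2.2.1 * u ^ c.2.2.2) ::
          rest.map fun c => (c.1, (c.2.1 : F) * (-t) ^ c.2.2.1 * u ^ c.2.2.2) := by
      intro t u
      unfold ChevalleyDatum.commWord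
      rw [hT, List.map_cons]
    have hR : ∀ t u : F, wordXGL D F hlen hadd
        (rest.map fun c => (c.1, (c.2.1 : F) * (-t) ^ c.2.2.1 * u ^ c.2.2.2)) ∈ ⁅D.group F, D.group F⁆ := by
      intro t u
      unfold wordXGL
      apply Subgroup.list_prod_mem
      intro x hx
      rw [List.mem_map] at hx
      obtain ⟨q, hq, rfl⟩ := hx
      rw [List.mem_map] at hq
      obtain ⟨c', hc', rfl⟩ := hq
      apply hdone
      have := hrest c' hc'
      simpa using this
    have hfirst : ∀ t u : F, xGL D hlen hadd F c.1 ((c.2.1 : F) * (-t) ^ c.2.2.1 * u ^ c.2.2.2) ∈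
        ⁅D.group F, D.group F⁆ := by
      intro t u
      have h1 := hW t u
      rw [hsplit, wordXGL_cons] at h1
      have := Subgroup.mul_mem _ h1 (Subgroup.inv_mem _ (hR t u))
      rwa [mul_inv_cancel_right] at this
    have := hfirst (-1) (v / (c.2.1 : F))
    rw [hci, hcj, hc1] at this
    have e : ((c.2.1 : ℤ) : F) * (- (-1 : F)) ^ 1 * (v / (c.2.1 : F)) ^ 1 = v := by
      field_simp
    rw [e] at this
    exact this

include hlen hadd in
theorem perfRun_sound (hcf : CFAll D F) (allow2 : Bool) (h2 : allow2 = true → (2 : F) ≠ 0) :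
    ∀ (T : List (ℕ × ℕ × ℕ)) (done done' : List ℕ),
      (∀ k ∈ done, ∀ v : F, xGL D hlen hadd F k v ∈ ⁅D.group F, D.group F⁆) →
      perfRun D allow2 T done = some done' →
      ∀ k ∈ done', ∀ v : F, xGL D hlen hadd F k v ∈ ⁅D.group F, D.group F⁆ := by
  intro T
  induction T with
  | nil =>
    intro done done' hdone h
    simp only [perfRun, Option.some.injEq] at h
    rw [← h]
    exact hdone
  | cons p T ih =>
    intro done done' hdone h
    unfold perfRun at h
    by_cases hp : perfStep D allow2 done p = true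
    · rw [if_pos hp] at h
      apply ih (p.1 :: done) done' _ h
      intro k hk v
      rcases List.mem_cons.mp hk with rfl | hk
      · exact perfStep_sound D F hlen hadd hcf allow2 h2 done hdone p hp v
      · exact hdone k hk v
    · rw [if_neg hp] at h
      exact absurd h (by simp)

/-- The Chevalley group is perfect. -/
theorem perfect_main (hf : Facts D F) (hchain : ChainOK D) (hcf : CFAll D F) (tor : List ℕ) (htor : TorOK D tor)
    (allow2 : Bool) (T : List (ℕ × ℕ × ℕ)) (hT : perfCheck D allow2 T = true)
    (h2 : allow2 = true → ∃ a : F, a ≠ 0 ∧ a ≠ 1) : commutator ↥(D.group F) = ⊤ := by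
  have hall : ∀ r < D.nroots, ∀ t : F, xGL D hf.hlen hf.hadd F r t ∈ ⁅D.group F, D.group F⁆ := by
    by_cases hA : ∃ l : F, l ≠ 0 ∧ l ^ 2 ≠ 1
    · obtain ⟨l, hl0, hl2⟩ := hA
      intro r hr t
      exact xGL_mem_of_torus D F hf hchain tor htor l hl0 hl2 r hr t
    · simp only [not_exists, not_and, not_not] at hA
      have h2' : allow2 = true → (2 : F) ≠ 0 := by
        intro ha2
        obtain ⟨a, ha0, ha1⟩ := h2 ha2
        have hsq := hA a ha0
        intro h20
        apply ha1
        have h1 : (a - 1) * (a + 1) = 0 := by ring_nf; rw [hsq]; ring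
        rcases mul_eq_zero.mp h1 with h | h
        · exact sub_eq_zero.mp h
        · have : a = -1 := eq_neg_of_add_eq_zero_left h
          rw [this]
          have : (1 : F) + 1 = 0 := by rw [one_add_one_eq_two]; exact h20
          exact (eq_neg_of_add_eq_zero_left this).symm
      unfold perfCheck at hT
      cases hrun : perfRun D allow2 T [] with
      | none => rw [hrun] at hT; exact absurd hT (by simp)
      | some done =>
        rw [hrun] at hT
        simp only [List.all_eq_true, List.mem_range] at hT
        have hs := perfRun_sound D F hf.hlen hf.hadd hcf allow2 h2' T [] done (by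
          intro k hk; cases hk) hrun
        intro r hr t
        apply hs r _ t
        simpa using hT r hr
  have hle : D.group F ≤ ⁅D.group F, D.group F⁆ := by
    unfold ChevalleyDatum.group
    rw [Subgroup.closure_le]
    rintro g ⟨r, t, hg⟩
    have : g = xGL D hf.hlen hf.hadd F r.val t := by
      apply Units.ext
      rw [hg, xGL_coe]
      unfold ChevalleyDatum.x
      rw [dif_pos r.isLt]
    rw [this]
    exact hall r.val r.isLt t
  have heq : ⁅D.group F, D.group F⁆ = D.group F := le_antisymm (Subgroup.commutator_le_self _) hle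
  apply Subgroup.map_injective (D.group F).subtype_injective
  rw [Subgroup.map_subtype_commutator, heq, ← MonoidHom.range_eq_map, Subgroup.range_subtype]

end

end Cfsg.Agent.Lib.Helper36_ChevPerf
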