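import Cfsg.Agent.Lib.Helper36_ChevH

set_option autoImplicit false

/-!
Sparse integer matrices with entries polynomials in two variables, as lists of (pair of exponents, matrix), with
evaluation at two elements of a field, a sound product and a sound equality check.
-/

namespace Cfsg.Agent.Lib.Helper36_ChevPoly2

open Cfsg Cfsg.Lie Cfsg.Agent.Lib.Helper36_ChevSparse Cfsg.Agent.Lib.Helper36_ChevCoo
  Cfsg.Agent.Lib.Helper36_ChevIdx Cfsg.Agent.Lib.Helper36_ChevLaurent

variable (D : ChevalleyDatum)

/-- A matrix with entries polynomials in two variables: a list of ((exponent of t, exponent of u), coefficient matrix). -/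
abbrev PCoo := List ((ℕ × ℕ) × Coo)

/-- Evaluation at two elements of a field. -/
def evalP (F : Type*) [Field F] (L : PCoo) (t u : F) : Matrix D.Idx D.Idx F :=
  (L.map fun p => (t ^ p.1.1 * u ^ p.1.2) • castMat D F p.2).sum

theorem evalP_nil (F : Type*) [Field F] (t u : F) : evalP D F [] t u = 0 := rfl

theorem evalP_cons (F : Type*) [Field F] (p : (ℕ × ℕ) × Coo) (L : PCoo) (t u : F) :
    evalP D F (p :: L) t u = (t ^ p.1.1 * u ^ p.1.2) • castMat D F p.2 + evalP D F L t u := by
  simp [evalP]

theorem evalP_append (F : Type*) [Field F] (L1 L2 : PCoo) (t u : F) :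
    evalP D F (L1 ++ L2) t u = evalP D F L1 t u + evalP D F L2 t u := by
  simp [evalP]

/-- Dropping the terms with an empty coefficient matrix. -/
def pclean (L : PCoo) : PCoo := L.filter fun p => !p.2.isEmpty

theorem evalP_pclean (F : Type*) [Field F] (L : PCoo) (t u : F) : evalP D F (pclean L) t u = evalP D F L t u := by
  induction L with
  | nil => rfl
  | cons p L ih =>
    unfold pclean at ih ⊢
    by_cases h : p.2.isEmpty = true
    · have e : List.filter (fun p : (ℕ × ℕ) × Coo => !p.2.isEmpty) (p :: L) =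
          List.filter (fun p : (ℕ × ℕ) × Coo => !p.2.isEmpty) L := by
        apply List.filter_cons_of_neg
        simp [h]
      rw [e, evalP_cons, ih]
      have : p.2 = [] := List.isEmpty_iff.mp h
      rw [this, castMat_nil, smul_zero, zero_add]
    · have e : List.filter (fun p : (ℕ × ℕ) × Coo => !p.2.isEmpty) (p :: L) =
          p :: List.filter (fun p : (ℕ × ℕ) × Coo => !p.2.isEmpty) L := by
        apply List.filter_cons_of_pos
        simpa using h
      rw [e, evalP_cons, evalP_cons, ih]

/-- Product. -/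
def pmul (L1 L2 : PCoo) : PCoo :=
  L1.flatMap fun p => L2.map fun q => ((p.1.1 + q.1.1, p.1.2 + q.1.2), cmul (dim D) p.2 q.2)

theorem evalP_pmul_single (F : Type*) [Field F] (p : (ℕ × ℕ) × Coo) (L2 : PCoo) (t u : F) :
    evalP D F (L2.map fun q => ((p.1.1 + q.1.1, p.1.2 + q.1.2), cmul (dim D) p.2 q.2)) t u =
      ((t ^ p.1.1 * u ^ p.1.2) • castMat D F p.2) * evalP D F L2 t u := by
  induction L2 with
  | nil => simp [evalP]
  | cons q L2 ih =>
    rw [List.map_cons, evalP_cons, evalP_cons, ih, mul_add]
    congr 1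
    simp only
    rw [castMat_mul, pow_add, pow_add, Matrix.smul_mul, Matrix.mul_smul, smul_smul]
    congr 1
    ring

theorem evalP_pmul (F : Type*) [Field F] (L1 L2 : PCoo) (t u : F) :
    evalP D F (pmul D L1 L2) t u = evalP D F L1 t u * evalP D F L2 t u := by
  induction L1 with
  | nil => simp [pmul, evalP]
  | cons p L1 ih =>
    have : pmul D (p :: L1) L2 =
        (L2.map fun q => ((p.1.1 + q.1.1, p.1.2 + q.1.2), cmul (dim D) p.2 q.2)) ++ pmul D L1 L2 := by
      simp [pmul]
    rw [this, evalP_append, evalP_pmul_single D F p L2 t u, ih, evalP_cons, add_mul]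

/-- The product `(1 + L1)(1 + L2) - 1`. -/
def pmul1 (L1 L2 : PCoo) : PCoo := pclean (L1 ++ L2 ++ pmul D L1 L2)

theorem evalP_pmul1 (F : Type*) [Field F] (L1 L2 : PCoo) (t u : F) :
    1 + evalP D F (pmul1 D L1 L2) t u = (1 + evalP D F L1 t u) * (1 + evalP D F L2 t u) := by
  unfold pmul1
  rw [evalP_pclean, evalP_append, evalP_append, evalP_pmul]
  noncomm_ring

/-- The coefficient matrix of a given pair of exponents. -/
def pcollect (L : PCoo) (k : ℕ × ℕ) : Coo := (L.filter fun p => p.1 == k).flatMap fun p => p.2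

theorem pcollect_cons (p : (ℕ × ℕ) × Coo) (L : PCoo) (k : ℕ × ℕ) :
    pcollect (p :: L) k = if p.1 = k then p.2 ++ pcollect L k else pcollect L k := by
  unfold pcollect
  by_cases h : p.1 = k
  · rw [if_pos h]
    simp [h]
  · rw [if_neg h]
    simp [h]

theorem evalP_eq_sum_collect (F : Type*) [Field F] (ks : Finset (ℕ × ℕ)) (t u : F) :
    ∀ (L : PCoo), (∀ p ∈ L, p.1 ∈ ks) →
      evalP D F L t u = ∑ k ∈ ks, (t ^ k.1 * u ^ k.2) • castMat D F (pcollect L k) := by
  intro L
  induction L with
  | nil =>
    intro _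
    simp [evalP, pcollect, castMat_nil]
  | cons p L ih =>
    intro h
    rw [evalP_cons, ih (fun q hq => h q (List.mem_cons_of_mem _ hq))]
    have hp : p.1 ∈ ks := h p List.mem_cons_self
    have : ∀ k ∈ ks, (t ^ k.1 * u ^ k.2) • castMat D F (pcollect (p :: L) k) =
        (if p.1 = k then (t ^ k.1 * u ^ k.2) • castMat D F p.2 else 0) +
          (t ^ k.1 * u ^ k.2) • castMat D F (pcollect L k) := by
      intro k _
      rw [pcollect_cons]
      by_cases hk : p.1 = k
      · rw [if_pos hk, if_pos hk, castMat_append, smul_add]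
      · rw [if_neg hk, if_neg hk, zero_add]
    rw [Finset.sum_congr rfl this, Finset.sum_add_distrib, Finset.sum_ite_eq ks p.1, if_pos hp]

/-- The pairs of exponents that occur, without repetition. -/
def pkeys (L : PCoo) : List (ℕ × ℕ) := L.foldr (fun p acc => if acc.contains p.1 then acc else p.1 :: acc) []

theorem mem_pkeys (L : PCoo) : ∀ p ∈ L, p.1 ∈ pkeys L := by
  induction L with
  | nil => intro p hp; cases hp
  | cons q L ih =>
    intro p hp
    have e : pkeys (q :: L) = if (pkeys L).contains q.1 then pkeys L else q.1 :: pkeys L := rfl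
    rw [e]
    rcases List.mem_cons.mp hp with rfl | hp
    · by_cases h : (pkeys L).contains p.1 = true
      · rw [if_pos h]
        simpa using h
      · rw [if_neg h]
        exact List.mem_cons_self
    · by_cases h : (pkeys L).contains q.1 = true
      · rw [if_pos h]
        exact ih p hp
      · rw [if_neg h]
        exact List.mem_cons_of_mem _ (ih p hp)

/-- Equality check: the coefficient matrices agree for all the pairs of exponents that occur. -/
def peq (n : ℕ) (L1 L2 : PCoo) : Bool :=
  (pkeys (L1 ++ L2)).all fun k => normEq2 n (pcollect L1 k) (pcollect L2 k)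

theorem evalP_eq_of_peq (F : Type*) [Field F] (n : ℕ) (L1 L2 : PCoo) (h : peq n L1 L2 = true)
    (t u : F) : evalP D F L1 t u = evalP D F L2 t u := by
  unfold peq at h
  rw [List.all_eq_true] at h
  have m1 : ∀ p ∈ L1, p.1 ∈ (pkeys (L1 ++ L2)).toFinset := by
    intro p hp
    exact List.mem_toFinset.mpr (mem_pkeys _ p (List.mem_append_left _ hp))
  have m2 : ∀ p ∈ L2, p.1 ∈ (pkeys (L1 ++ L2)).toFinset := by
    intro p hp
    exact List.mem_toFinset.mpr (mem_pkeys _ p (List.mem_append_right _ hp))
  rw [evalP_eq_sum_collect D F _ t u L1 m1, evalP_eq_sum_collect D F _ t u L2 m2]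
  apply Finset.sum_congr rfl
  intro k hk
  rw [castMat_eq_of_normEq2 D F n _ _ (h k (List.mem_toFinset.mp hk))]

end Cfsg.Agent.Lib.Helper36_ChevPoly2
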