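import Cfsg.Agent.Lib.Helper36_ChevIrr
import Cfsg.Prelude.Def_LieExceptional

set_option autoImplicit false

/-!
Simplicity of a Chevalley group from its `(B, N)`-pair: the irreducibility of the pair, the group is not trivial, and
the assembly of the hypotheses of the simplicity criterion.
-/

namespace Cfsg.Agent.Lib.Helper36_ChevSimple

open Cfsg Cfsg.Lie Cfsg.Agent.Lib.Helper36_ChevCoeff Cfsg.Agent.Lib.Helper36_ChevAdd
  Cfsg.Agent.Lib.Helper36_ChevWeyl Cfsg.Agent.Lib.Helper36_ChevGen Cfsg.Agent.Lib.Helper36_ChevHAll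
  Cfsg.Agent.Lib.Helper36_ChevHConj Cfsg.Agent.Lib.Helper36_ChevTables Cfsg.Agent.Lib.Helper36_ChevTorus
  Cfsg.Agent.Lib.Helper36_ChevTri Cfsg.Agent.Lib.Helper36_ChevBorel Cfsg.Agent.Lib.Helper36_ChevW0
  Cfsg.Agent.Lib.Helper36_ChevCore Cfsg.Agent.Lib.Helper36_ChevIrr

variable (D : ChevalleyDatum) (F : Type*) [Field F]

theorem nGL_mem_group (hf : Facts D F) (i : ℕ) (hi : i < D.rank) : nGL D hf.hlen hf.hadd F i ∈ D.group F := by
  obtain ⟨-, -, -, hN⟩ := subgroups_le D F hf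
  apply hN
  apply (le_sup_right : _ ≤ D.monomialSubgroup F)
  exact Subgroup.subset_closure ⟨D.simple i, (hf.hsimple i hi).1, nGL_coe D hf.hlen hf.hadd F i⟩

/-- The group is not trivial. -/
theorem nontrivial_group (hf : Facts D F) (tbl : List ℕ) (off M : ℕ) (hht : HtOK D tbl off M) (hrank : 0 < D.rank) :
    Nontrivial ↥(D.group F) := by
  have hneg : D.IsNegRoot (D.neg (D.simple 0)) := (hht.simple 0 hrank).2
  generalize D.neg (D.simple 0) = r at hneg
  have hr' : r < D.nroots := hneg.1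
  have hnl : D.neg r < D.nroots := neg_lt_of_cartanAddOK D hf.hca r hr'
  have hraise := (hht.range r hr' (Nat.zero_le _)).2.1 hneg
  have hne : D.neg r ≠ r := by
    intro hcon
    have h5 := hraise.1
    have h6 := hraise.2.1
    rw [hcon] at h6
    simp only at h5 h6
    omega
  refine ⟨⟨⟨xGL D hf.hlen hf.hadd F r 1, xGL_mem_group D F hf.hlen hf.hadd r 1⟩, 1, ?_⟩⟩
  intro h
  have h1 : xGL D hf.hlen hf.hadd F r 1 = 1 := congrArg Subtype.val h
  have h4 : D.x F r 1 = 1 := by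
    rw [← xGL_coe D hf.hlen hf.hadd F, h1]
    rfl
  exact one_ne_zero (x_eq_one_imp D F r hr' hnl hne _ h4)

/-- The `(B, N)`-pair with `B = UH` and the `n_i` as distinguished representatives is irreducible. -/
theorem bn_irreducible (hf : Facts D F) (hchain : ChainOK D) (tbl : List ℕ) (off M : ℕ)
    (hht : HtOK D tbl off M) (hc : AllConj D F) (rtbl : List (List ℕ))
    (htbl : ∀ i < D.rank, ReflTblRange D rtbl i 0 D.nroots) (es : List (ℕ × ℕ × ℕ × ℕ)) (hes : IrrOK D rtbl es)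
    (P : Cfsg.BNPair ↥(D.group F)) (hB : P.B = (D.borelSubgroup F).subgroupOf (D.group F))
    (hS : P.S = {n : ↥(D.group F) | ∃ i < D.rank,
      ((n : GL D.Idx F) : Matrix D.Idx D.Idx F) = D.nMat F (D.simple i) 1}) :
    P.Irreducible := by
  intro J hJ hJne hcne
  have key : ∀ x ∈ P.S, ∃ i < D.rank, (x : GL D.Idx F) = nGL D hf.hlen hf.hadd F i := by
    intro x hx
    rw [hS] at hx
    obtain ⟨i, hi, hxi⟩ := hx
    refine ⟨i, hi, Units.ext ?_⟩
    rw [hxi, nGL_coe]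
  obtain ⟨x0, hx0⟩ := hJne
  obtain ⟨i, hi, hxi⟩ := key x0 (hJ hx0)
  obtain ⟨y0, hy0, hy0'⟩ := hcne
  obtain ⟨j, hj, hyj⟩ := key y0 hy0
  let Pred : ℕ → Prop := fun k => ∃ x ∈ J, (x : GL D.Idx F) = nGL D hf.hlen hf.hadd F k
  have hPi : Pred i := ⟨x0, hx0, hxi⟩
  have hPj : ¬ Pred j := by
    rintro ⟨x, hx, hxj⟩
    have : x = y0 := Subtype.ext (hxj.trans hyj.symm)
    exact hy0' (this ▸ hx)
  obtain ⟨a, ha, b, hb, ⟨x, hxJ, hxa⟩, hPb, hnot⟩ :=
    irreducible_main D F hf hchain tbl off M hht hc rtbl htbl es hes Pred i j hi hj hPi hPj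
  have hbS : (⟨nGL D hf.hlen hf.hadd F b, nGL_mem_group D F hf b hb⟩ : ↥(D.group F)) ∈ P.S := by
    rw [hS]
    exact ⟨b, hb, nGL_coe D hf.hlen hf.hadd F b⟩
  refine ⟨x, hxJ, ⟨nGL D hf.hlen hf.hadd F b, nGL_mem_group D F hf b hb⟩, ⟨hbS, fun h => hPb ⟨_, h, rfl⟩⟩, ?_⟩
  rw [hB, Subgroup.mem_subgroupOf]
  intro hmem
  apply hnot
  have e : ((x * ⟨nGL D hf.hlen hf.hadd F b, nGL_mem_group D F hf b hb⟩ * x⁻¹ *
      (⟨nGL D hf.hlen hf.hadd F b, nGL_mem_group D F hf b hb⟩ : ↥(D.group F))⁻¹ : ↥(D.group F)) :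
      GL D.Idx F) = commN D F hf.hlen hf.hadd a b := by
    unfold commN
    rw [Subgroup.coe_mul, Subgroup.coe_mul, Subgroup.coe_mul, Subgroup.coe_inv, Subgroup.coe_inv, hxa]
  rw [e] at hmem
  exact hmem

/-- The assembly: simplicity and non-commutativity from the criterion for `(B, N)`-pairs. -/
theorem simple_main (hf : Facts D F) (hchain : ChainOK D) (tbl : List ℕ) (off M : ℕ)
    (hht : HtOK D tbl off M) (hc : AllConj D F) (rtbl : List (List ℕ))
    (htbl : ∀ i < D.rank, ReflTblRange D rtbl i 0 D.nroots) (es : List (ℕ × ℕ × ℕ × ℕ)) (hes : IrrOK D rtbl es)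
    (hrank : 0 < D.rank)
    (P : Cfsg.BNPair ↥(D.group F)) (hB : P.B = (D.borelSubgroup F).subgroupOf (D.group F))
    (hS : P.S = {n : ↥(D.group F) | ∃ i < D.rank,
      ((n : GL D.Idx F) : Matrix D.Idx D.Idx F) = D.nMat F (D.simple i) 1})
    (hsolv : Group.IsSolvable ↥(D.borelSubgroup F)) (hperf : commutator ↥(D.group F) = ⊤)
    (hcore : ((D.borelSubgroup F).subgroupOf (D.group F)).normalCore = ⊥)
    (tits : Nontrivial ↥(D.group F) → ∀ P : Cfsg.BNPair ↥(D.group F), P.Irreducible → Group.IsSolvable P.B →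
      commutator ↥(D.group F) = ⊤ → P.B.normalCore = ⊥ → IsSimpleGroup ↥(D.group F)) :
    IsSimpleGroup ↥(D.group F) ∧ ¬ IsMulCommutative ↥(D.group F) := by
  have hnt : Nontrivial ↥(D.group F) := nontrivial_group D F hf tbl off M hht hrank
  have hirr := bn_irreducible D F hf hchain tbl off M hht hc rtbl htbl es hes P hB hS
  obtain ⟨hU, -, hH, -⟩ := subgroups_le D F hf
  have hBG : D.borelSubgroup F ≤ D.group F := sup_le hU hH
  have hsolv' : Group.IsSolvable P.B := by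
    rw [hB]
    exact Group.isSolvable_of_isSolvable_injective (f := (Subgroup.subgroupOfEquivOfLe hBG).toMonoidHom)
      (Subgroup.subgroupOfEquivOfLe hBG).injective
  have hcore' : P.B.normalCore = ⊥ := by rw [hB]; exact hcore
  refine ⟨tits hnt P hirr hsolv' hperf hcore', ?_⟩
  intro hcomm
  have hbot : commutator ↥(D.group F) = ⊥ := by
    rw [eq_bot_iff]
    unfold commutator
    rw [Subgroup.commutator_le]
    intro g₁ _ g₂ _
    rw [Subgroup.mem_bot, commutatorElement_def, hcomm.is_comm.comm g₁ g₂]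
    group
  rw [hbot] at hperf
  exact bot_ne_top hperf

end Cfsg.Agent.Lib.Helper36_ChevSimple
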