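import Cfsg.Prelude.Def_ChevStructure

set_option autoImplicit false

/-!
Sparse integer matrices indexed by natural-number codes, with a sound product and a sound
equality check, and their dense evaluation on the coordinate index set `D.Idx` of a Chevalley datum.
Everything computable here is meant to be evaluated by the kernel (`decide +kernel`).
-/

namespace Cfsg.Agent.Lib.Helper36_ChevSparse

open Cfsg Cfsg.Lie

/-- A sparse vector: a list of (index, coefficient); repeated indices add up. -/
abbrev SVec := List (ℕ × ℤ)

/-- A sparse matrix, given by its columns. -/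
abbrev SMat := ℕ → SVec

/-- The coefficient of index `i` in a sparse vector. -/
def coeffAt (v : SVec) (i : ℕ) : ℤ := (v.map fun p => if p.1 = i then p.2 else 0).sum

@[simp] theorem coeffAt_nil (i : ℕ) : coeffAt [] i = 0 := rfl

theorem coeffAt_cons (p : ℕ × ℤ) (v : SVec) (i : ℕ) :
    coeffAt (p :: v) i = (if p.1 = i then p.2 else 0) + coeffAt v i := by
  simp [coeffAt]

theorem coeffAt_append (v w : SVec) (i : ℕ) : coeffAt (v ++ w) i = coeffAt v i + coeffAt w i := by
  simp [coeffAt]

theorem coeffAt_eq_zero (v : SVec) (i : ℕ) (h : ∀ p ∈ v, p.1 ≠ i) : coeffAt v i = 0 := by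
  induction v with
  | nil => rfl
  | cons p v ih =>
    rw [coeffAt_cons, ih (fun q hq => h q (List.mem_cons_of_mem _ hq)), if_neg (h p List.mem_cons_self)]
    rfl

/-- Scalar multiple of a sparse vector. -/
def smul (c : ℤ) (v : SVec) : SVec := v.map fun p => (p.1, c * p.2)

theorem coeffAt_smul (c : ℤ) (v : SVec) (i : ℕ) : coeffAt (smul c v) i = c * coeffAt v i := by
  induction v with
  | nil => simp [smul]
  | cons p v ih =>
    have : smul c (p :: v) = (p.1, c * p.2) :: smul c v := rfl
    rw [this, coeffAt_cons, coeffAt_cons, ih, mul_add]
    congr 1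
    split_ifs <;> simp

/-- Matrix times sparse vector; indices `≥ N` of the vector are dropped. -/
def mulVec (N : ℕ) (A : SMat) (v : SVec) : SVec :=
  v.flatMap fun p => if p.1 < N then smul p.2 (A p.1) else []

/-- Product of sparse matrices (inner indices below `N`). -/
def mul (N : ℕ) (A B : SMat) : SMat := fun c => mulVec N A (B c)

theorem coeffAt_mulVec (N : ℕ) (A : SMat) (v : SVec) (i : ℕ) :
    coeffAt (mulVec N A v) i = (v.map fun p => if p.1 < N then p.2 * coeffAt (A p.1) i else 0).sum := by
  induction v with
  | nil => rfl
  | cons p v ih =>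
    have : mulVec N A (p :: v) = (if p.1 < N then smul p.2 (A p.1) else []) ++ mulVec N A v := rfl
    rw [this, coeffAt_append, ih, List.map_cons, List.sum_cons]
    congr 1
    split_ifs
    · exact coeffAt_smul _ _ _
    · rfl

/-- Equality check of sparse vectors (as functions index ↦ coefficient). -/
def vecEq (v w : SVec) : Bool := (v ++ w).all fun p => coeffAt v p.1 == coeffAt w p.1

theorem vecEq_sound (v w : SVec) (h : vecEq v w = true) (i : ℕ) : coeffAt v i = coeffAt w i := by
  unfold vecEq at h
  rw [List.all_eq_true] at h
  by_cases hi : ∃ p ∈ v ++ w, p.1 = i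
  · obtain ⟨p, hp, rfl⟩ := hi
    simpa using h p hp
  · simp only [not_exists, not_and] at hi
    rw [coeffAt_eq_zero v i (fun p hp => hi p (List.mem_append_left _ hp)),
      coeffAt_eq_zero w i (fun p hp => hi p (List.mem_append_right _ hp))]

/-- Equality check of the first `N` columns of two sparse matrices. -/
def matEq (N : ℕ) (A B : SMat) : Bool := (List.range N).all fun c => vecEq (A c) (B c)

theorem matEq_sound (N : ℕ) (A B : SMat) (h : matEq N A B = true) (c : ℕ) (hc : c < N) (i : ℕ) :
    coeffAt (A c) i = coeffAt (B c) i := by
  unfold matEq at h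
  rw [List.all_eq_true] at h
  exact vecEq_sound _ _ (h c (List.mem_range.mpr hc)) i

/-! ### dense evaluation -/

variable (D : ChevalleyDatum)

/-- The size of the coordinate index set. -/
def dim : ℕ := D.rank + D.nroots

/-- Natural-number code of a coordinate index: `h_{p_i} ↦ i`, `e_r ↦ rank + r`. -/
def code : D.Idx → ℕ
  | Sum.inl i => i.val
  | Sum.inr r => D.rank + r.val

theorem code_lt (x : D.Idx) : code D x < dim D := by
  rcases x with i | r
  · have := i.isLt; simp only [code, dim]; omega
  · have := r.isLt; simp only [code, dim]; omega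

theorem code_injective : Function.Injective (code D) := by
  intro x y h
  rcases x with i | r <;> rcases y with j | s
  · simp only [code] at h; exact congrArg Sum.inl (Fin.ext h)
  · simp only [code] at h; have := i.isLt; omega
  · simp only [code] at h; have := j.isLt; omega
  · simp only [code] at h; exact congrArg Sum.inr (Fin.ext (by omega))

/-- Decoding a code below `dim`. -/
def decode (k : ℕ) (hk : k < dim D) : D.Idx :=
  if h : k < D.rank then Sum.inl ⟨k, h⟩ else Sum.inr ⟨k - D.rank, by simp only [dim] at hk; omega⟩

theorem code_decode (k : ℕ) (hk : k < dim D) : code D (decode D k hk) = k := by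
  unfold decode
  split_ifs with h
  · rfl
  · simp only [code]; omega

/-- The dense integer matrix of a sparse matrix. -/
def toMatZ (A : SMat) : Matrix D.Idx D.Idx ℤ :=
  Matrix.of fun row col => coeffAt (A (code D col)) (code D row)

theorem sum_code_eq (k : ℕ) (f : ℕ → ℤ) :
    (∑ x : D.Idx, if k = code D x then f (code D x) else 0) = if k < dim D then f k else 0 := by
  split_ifs with hk
  · rw [Finset.sum_eq_single (decode D k hk)]
    · rw [code_decode, if_pos rfl]
    · intro x _ hx
      rw [if_neg]
      intro h
      apply hx
      apply code_injective D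
      rw [code_decode, h]
    · simp
  · apply Finset.sum_eq_zero
    intro x _
    rw [if_neg]
    intro h
    exact hk (h ▸ code_lt D x)

theorem toMatZ_mul (A B : SMat) : toMatZ D (mul (dim D) A B) = toMatZ D A * toMatZ D B := by
  ext row col
  simp only [toMatZ, Matrix.of_apply, Matrix.mul_apply, mul]
  rw [coeffAt_mulVec]
  generalize B (code D col) = v
  induction v with
  | nil => simp
  | cons p v ih =>
    rw [List.map_cons, List.sum_cons, ih]
    simp only [coeffAt_cons, mul_add, Finset.sum_add_distrib]
    congr 1
    have := sum_code_eq D p.1 (fun k => p.2 * coeffAt (A k) (code D row))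
    rw [← this]
    apply Finset.sum_congr rfl
    intro x _
    split_ifs <;> ring

theorem toMatZ_eq_of_matEq (A B : SMat) (h : matEq (dim D) A B = true) : toMatZ D A = toMatZ D B := by
  ext row col
  simp only [toMatZ, Matrix.of_apply]
  exact matEq_sound _ _ _ h _ (code_lt D col) _

/-- The identity as a sparse matrix. -/
def one : SMat := fun c => [(c, 1)]

theorem toMatZ_one : toMatZ D one = 1 := by
  ext row col
  simp only [toMatZ, Matrix.of_apply, one, coeffAt_cons, coeffAt_nil, add_zero, Matrix.one_apply]
  by_cases h : row = col
  · subst h; simp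
  · have : ¬ code D col = code D row := fun h' => h (code_injective D h'.symm)
    simp [h, this]

/-- The zero sparse matrix. -/
def zero : SMat := fun _ => []

theorem toMatZ_zero : toMatZ D zero = 0 := by
  ext row col
  simp [toMatZ, zero]

/-- Scalar multiple of a sparse matrix. -/
def msmul (c : ℤ) (A : SMat) : SMat := fun k => smul c (A k)

theorem toMatZ_msmul (c : ℤ) (A : SMat) : toMatZ D (msmul c A) = c • toMatZ D A := by
  ext row col
  simp [toMatZ, msmul, coeffAt_smul]

/-- Sum of sparse matrices. -/
def madd (A B : SMat) : SMat := fun k => A k ++ B k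

theorem toMatZ_madd (A B : SMat) : toMatZ D (madd A B) = toMatZ D A + toMatZ D B := by
  ext row col
  simp [toMatZ, madd, coeffAt_append]

end Cfsg.Agent.Lib.Helper36_ChevSparse
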