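import Cfsg.Agent.Lib.Helper36_ChevConj
import Cfsg.Agent.Lib.Helper36_ChevHAll
import Cfsg.Agent.Lib.Helper36_ChevHConj

set_option autoImplicit false

/-!
The diagonal subgroup as a group of diagonal matrices of characters: every `h_r(t)` is the diagonal matrix of the
character `s ↦ ∏_j u_j^{A_{p_j, s}}` for suitable units `u_j`; the elements `n_r(±1)` permute these matrices.
-/

namespace Cfsg.Agent.Lib.Helper36_ChevTorus

open Cfsg Cfsg.Lie Cfsg.Agent.Lib.Helper36_ChevSparse Cfsg.Agent.Lib.Helper36_ChevCoeff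
  Cfsg.Agent.Lib.Helper36_ChevCoo Cfsg.Agent.Lib.Helper36_ChevAdd Cfsg.Agent.Lib.Helper36_ChevIdx
  Cfsg.Agent.Lib.Helper36_ChevWeyl Cfsg.Agent.Lib.Helper36_ChevGen Cfsg.Agent.Lib.Helper36_ChevConj
  Cfsg.Agent.Lib.Helper36_ChevH Cfsg.Agent.Lib.Helper36_ChevHAll Cfsg.Agent.Lib.Helper36_ChevHConj
  Cfsg.Agent.Lib.Helper36_ChevTables

variable (D : ChevalleyDatum)

/-! ### the Cartan integers under a fundamental reflection -/

/-- The check for the pair `(i, s)`: `w_i s` is a root index, `w_i w_i s = s`, and the Cartan integers satisfy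
`A_{p_j, w_i s} = A_{p_j, s} - A_{p_i, s} A_{p_j, p_i}` for all `j` (computed with the literal table). -/
def reflCartanCheck (tbl : List (List ℤ)) (i s : ℕ) : Bool :=
  decide (D.reflectRoot i s < D.nroots) && decide (D.reflectRoot i (D.reflectRoot i s) = s) &&
  (tbl.getD (D.reflectRoot i s) [] ==
    List.zipWith (fun a b => a - (tbl.getD s []).getD i 0 * b) (tbl.getD s []) (tbl.getD (D.simple i) []))

/-- The check for the roots `a ≤ s < b`. -/
def ReflCartanRange (tbl : List (List ℤ)) (i a b : ℕ) : Prop := ∀ s < b, a ≤ s → reflCartanCheck D tbl i s = true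

instance (tbl : List (List ℤ)) (i a b : ℕ) : Decidable (ReflCartanRange D tbl i a b) := by
  unfold ReflCartanRange
  infer_instance

theorem reflCartanRange_trans (tbl : List (List ℤ)) (i : ℕ) {a b c : ℕ} (h1 : ReflCartanRange D tbl i a b)
    (h2 : ReflCartanRange D tbl i b c) : ReflCartanRange D tbl i a c := by
  intro r hr har
  by_cases h : r < b
  · exact h1 r h har
  · exact h2 r hr (Nat.le_of_not_lt h)

/-- The check for all pairs, with a correct table. -/
def ReflCartanOK : Prop :=
  ∃ tbl : List (List ℤ), CartTblOK D tbl ∧ ∀ i < D.rank, ReflCartanRange D tbl i 0 D.nroots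

theorem reflect_lt (h : ReflCartanOK D) (i : ℕ) (hi : i < D.rank) (s : ℕ) (hs : s < D.nroots) :
    D.reflectRoot i s < D.nroots := by
  obtain ⟨tbl, -, h2⟩ := h
  have := h2 i hi s hs (Nat.zero_le _)
  unfold reflCartanCheck at this
  simp only [Bool.and_eq_true, decide_eq_true_eq] at this
  exact this.1.1

theorem reflect_reflect (h : ReflCartanOK D) (i : ℕ) (hi : i < D.rank) (s : ℕ) (hs : s < D.nroots) :
    D.reflectRoot i (D.reflectRoot i s) = s := by
  obtain ⟨tbl, -, h2⟩ := h
  have := h2 i hi s hs (Nat.zero_le _)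
  unfold reflCartanCheck at this
  simp only [Bool.and_eq_true, decide_eq_true_eq] at this
  exact this.1.2

theorem cartan_reflect (h : ReflCartanOK D) (hsimple : SimpleOK D) (i j : ℕ) (hi : i < D.rank) (hj : j < D.rank)
    (s : ℕ) (hs : s < D.nroots) :
    D.cartan j (D.reflectRoot i s) = D.cartan j s - D.cartan i s * D.cartan j (D.simple i) := by
  obtain ⟨tbl, ht, h2⟩ := h
  have hc := h2 i hi s hs (Nat.zero_le _)
  unfold reflCartanCheck at hc
  simp only [Bool.and_eq_true, decide_eq_true_eq, beq_iff_eq] at hc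
  obtain ⟨-, e⟩ := hc
  have l1 : (tbl.getD s []).length = D.rank := tbl_length D tbl ht s hs
  have l2 : (tbl.getD (D.simple i) []).length = D.rank := tbl_length D tbl ht _ (hsimple i hi).1
  rw [← tbl_getD D tbl ht (D.reflectRoot i s) j hj, e, ← tbl_getD D tbl ht s j hj, ← tbl_getD D tbl ht s i hi,
    ← tbl_getD D tbl ht (D.simple i) j hj]
  have hj1 : j < (tbl.getD s []).length := by rw [l1]; exact hj
  have hj2 : j < (tbl.getD (D.simple i) []).length := by rw [l2]; exact hj
  have hj3 : j < (List.zipWith (fun a b => a - (tbl.getD s []).getD i 0 * b) (tbl.getD s [])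
      (tbl.getD (D.simple i) [])).length := by
    rw [List.length_zipWith, l1, l2]; simpa using hj
  rw [List.getD_eq_getElem _ _ hj3, List.getD_eq_getElem _ _ hj1, List.getD_eq_getElem _ _ hj2,
    List.getElem_zipWith]

/-! ### characters -/

section
variable (F : Type*) [Field F]

/-- The character `s ↦ ∏_j u_j^{A_{p_j, s}}` of the root lattice. -/
def chi (u : ℕ → Fˣ) : ℕ → Fˣ := fun s => ∏ j ∈ Finset.range D.rank, (u j) ^ (D.cartan j s)

theorem chi_mul (u v : ℕ → Fˣ) : chi D F (u * v) = chi D F u * chi D F v := by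
  funext s
  simp only [chi, Pi.mul_apply, mul_zpow, Finset.prod_mul_distrib]

theorem chi_one : chi D F 1 = 1 := by
  funext s
  simp only [chi, Pi.one_apply, one_zpow, Finset.prod_const_one]

theorem chi_inv (u : ℕ → Fˣ) : chi D F u⁻¹ = (chi D F u)⁻¹ := by
  funext s
  simp only [chi, Pi.inv_apply, inv_zpow, Finset.prod_inv_distrib]

theorem chi_congr (u v : ℕ → Fˣ) (h : ∀ j < D.rank, u j = v j) : chi D F u = chi D F v := by
  funext s
  unfold chi
  apply Finset.prod_congr rfl
  intro j hj
  rw [h j (Finset.mem_range.mp hj)]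

theorem chi_single (i : ℕ) (hi : i < D.rank) (v : Fˣ) (s : ℕ) :
    chi D F (Function.update 1 i v) s = v ^ (D.cartan i s) := by
  unfold chi
  rw [Finset.prod_eq_single i]
  · rw [Function.update_self]
  · intro j _ hji
    rw [Function.update_of_ne hji, Pi.one_apply, one_zpow]
  · intro h
    exact absurd (Finset.mem_range.mpr hi) h

theorem charDiag_mul (χ ψ : ℕ → Fˣ) : D.charDiag F χ * D.charDiag F ψ = D.charDiag F (χ * ψ) := by
  unfold ChevalleyDatum.charDiag
  rw [Matrix.diagonal_mul_diagonal]
  congr 1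
  funext col
  rcases col with j | s
  · simp
  · simp

theorem charDiag_one : D.charDiag F 1 = 1 := by
  unfold ChevalleyDatum.charDiag
  rw [← Matrix.diagonal_one]
  congr 1
  funext col
  rcases col with j | s
  · simp
  · simp

theorem charDiag_congr (χ ψ : ℕ → Fˣ) (h : ∀ s < D.nroots, χ s = ψ s) : D.charDiag F χ = D.charDiag F ψ := by
  unfold ChevalleyDatum.charDiag
  congr 1
  funext col
  rcases col with j | s
  · rfl
  · simp only [Sum.elim_inr]
    rw [h s.val s.isLt]

theorem charDiag_mul_inv' (χ : ℕ → Fˣ) : D.charDiag F χ * D.charDiag F χ⁻¹ = 1 := by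
  rw [charDiag_mul, mul_inv_cancel, charDiag_one]

theorem charDiag_inv_mul' (χ : ℕ → Fˣ) : D.charDiag F χ⁻¹ * D.charDiag F χ = 1 := by
  rw [charDiag_mul, inv_mul_cancel, charDiag_one]

/-- `chi u` is a character of the root lattice. -/
theorem isRootCharacter_chi (h : CartanAddOK D) (u : ℕ → Fˣ) : D.IsRootCharacter (chi D F u) := by
  constructor
  · intro r hr
    unfold chi
    rw [← Finset.prod_inv_distrib]
    apply Finset.prod_congr rfl
    intro j hj
    rw [cartan_neg D h j (Finset.mem_range.mp hj) r hr, zpow_neg]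
  · intro r s k hr _ hk
    unfold chi
    rw [← Finset.prod_mul_distrib]
    apply Finset.prod_congr rfl
    intro j hj
    rw [cartan_add D h j (Finset.mem_range.mp hj) r s k hr hk, zpow_add]

/-- The action of the reflection `w_i` on the parameters. -/
def reflU (i : ℕ) (u : ℕ → Fˣ) : ℕ → Fˣ :=
  u * Function.update (1 : ℕ → Fˣ) i (∏ j ∈ Finset.range D.rank, (u j) ^ (-(D.cartan j (D.simple i))))

theorem chi_reflect (h : ReflCartanOK D) (hsimple : SimpleOK D) (i : ℕ) (hi : i < D.rank) (u : ℕ → Fˣ)
    (s : ℕ) (hs : s < D.nroots) : chi D F u (D.reflectRoot i s) = chi D F (reflU D F i u) s := by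
  unfold reflU
  rw [chi_mul, Pi.mul_apply, chi_single D F i hi]
  unfold chi
  rw [← Finset.prod_zpow, ← Finset.prod_mul_distrib]
  apply Finset.prod_congr rfl
  intro j hj
  rw [cartan_reflect D h hsimple i j hi (Finset.mem_range.mp hj) s hs, ← zpow_mul, ← zpow_add]
  congr 1
  ring

end


/-! ### the fundamental `n_i` and diagonal matrices -/

section
variable (F : Type*) [Field F]

/-- `n_i diag(χ) = diag(χ ∘ w_i) n_i`, from the monomial form of `n_i`. -/
theorem n_mul_charDiag (hlen : ChainLenOK D) (hsimple : SimpleOK D) (hrc : ReflCartanOK D) (i : ℕ) (hi : i < D.rank)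
    (Nc Nr : Idxd) (hN : NLitGood D i Nc Nr) (etas : List ℤ) (hm : monoCheck D i Nc etas = true) (χ : ℕ → Fˣ) :
    D.nMat F (D.simple i) 1 * D.charDiag F χ =
      D.charDiag F (fun s => χ (D.reflectRoot i s)) * D.nMat F (D.simple i) 1 := by
  rw [nMat_eq_mono D hlen hsimple F i hi Nc Nr hN etas hm]
  unfold ChevalleyDatum.charDiag
  ext row col
  rw [Matrix.mul_diagonal, Matrix.diagonal_mul]
  rcases row with j' | s' <;> rcases col with j | s
  · simp only [Matrix.of_apply, Sum.elim_inl, mul_one, one_mul]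
  · simp only [Matrix.of_apply, Sum.elim_inl, Sum.elim_inr, zero_mul, mul_zero]
  · simp only [Matrix.of_apply, Sum.elim_inl, Sum.elim_inr, zero_mul, mul_zero]
  · simp only [Matrix.of_apply, Sum.elim_inr]
    by_cases h : (s' : ℕ) = D.reflectRoot i s
    · rw [if_pos h, h, reflect_reflect D hrc i hi s.val s.isLt, mul_comm]
    · rw [if_neg h, zero_mul, mul_zero]

end

/-! ### induction along the certificate -/

section
variable (Nl : NLits) (k : ℕ)

/-- Induction along the certificate: a property of roots that holds for the fundamental roots and is carried along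
the checked conjugations holds for all roots. -/
theorem tree_run (Q : ℕ → Prop) (hQ : ∀ r, Q r → r < D.nroots)
    (hstep : ∀ i s η, ConjPair D Nl k i s η → Q s → Q (D.reflectRoot i s))
    (T0 : List (ℕ × ℕ × ℤ)) (hT0 : PairsOK D k Nl T0) (hsym : treeSymCheck D T0 = true)
    (T : List (ℕ × ℕ × ℤ)) : (∀ p ∈ T, p ∈ T0) → ∀ (R R' : List ℕ), (∀ r ∈ R, Q r) →
    reachRun D T R = some R' → ∀ r ∈ R', Q r := by
  induction T with
  | nil =>
    intro _ R R' hR h
    simp only [reachRun, Option.some.injEq] at h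
    subst h
    exact hR
  | cons p T ih =>
    intro hsub R R' hR h
    simp only [reachRun] at h
    cases hstep' : reachStep D R p with
    | none => rw [hstep'] at h; simp at h
    | some R1 =>
      rw [hstep'] at h
      refine ih (fun q hq => hsub q (List.mem_cons_of_mem _ hq)) R1 R' ?_ h
      unfold reachStep at hstep'
      split_ifs at hstep' with hc
      obtain ⟨hi, hmem⟩ := hc
      simp only [Option.some.injEq] at hstep'
      subst hstep'
      intro r hr
      rw [List.mem_cons] at hr
      rcases hr with rfl | hr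
      · have hp0 : p ∈ T0 := hsub p List.mem_cons_self
        unfold treeSymCheck at hsym
        rw [List.all_eq_true] at hsym
        have hs := hsym p hp0
        simp only [Bool.and_eq_true, decide_eq_true_eq, List.contains_iff_mem] at hs
        obtain ⟨⟨hmem', hrefl⟩, hneg⟩ := hs
        have hgood := hR _ hmem
        have hcp : ConjPair D Nl k p.1 p.2.1 p.2.2 :=
          ⟨hi, hQ _ hgood, hneg, hT0 p hp0, hT0 _ hmem', hrefl⟩
        exact hstep p.1 p.2.1 p.2.2 hcp hgood
      · exact hR r hr

theorem tree_ind (Q : ℕ → Prop) (hQ : ∀ r, Q r → r < D.nroots) (hfund : ∀ j < D.rank, Q (D.simple j))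
    (hstep : ∀ i s η, ConjPair D Nl k i s η → Q s → Q (D.reflectRoot i s))
    (tbl : List (List ℤ)) (hF : FundOK D Nl k tbl)
    (T : List (ℕ × ℕ × ℤ)) (hT : PairsOK D k Nl T) (hsym : treeSymCheck D T = true)
    (hreach : reachCheck D T = true) (r : ℕ) (hr : r < D.nroots) : Q r := by
  have hinit : ∀ r ∈ initReached D, Q r := by
    intro r hr
    unfold initReached at hr
    rw [List.mem_flatMap] at hr
    obtain ⟨j, hj, hr⟩ := hr
    rw [List.mem_range] at hj
    simp only [List.mem_cons, List.not_mem_nil, or_false] at hr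
    rcases hr with rfl | rfl
    · exact hfund j hj
    · have hcp := hF j hj j hj
      have hstep' := hstep j (D.simple j) _ hcp (hfund j hj)
      have : D.reflectRoot j (D.simple j) = D.neg (D.simple j) := by
        unfold ChevalleyDatum.reflectRoot
        simp
      rw [this] at hstep'
      exact hstep'
  unfold reachCheck at hreach
  cases hrun : reachRun D T (initReached D) with
  | none => rw [hrun] at hreach; simp at hreach
  | some R =>
    rw [hrun] at hreach
    simp only [List.all_eq_true, List.mem_range] at hreach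
    have hmem : r ∈ R := by simpa using hreach r hr
    exact tree_run D Nl k Q hQ hstep T hT hsym T (fun _ h => h) _ R hinit hrun r hmem

end


/-! ### the diagonal subgroup and the monomial subgroup -/

section
variable (hlen : ChainLenOK D) (hadd : AddOK D) (hsimple : SimpleOK D) (Nl : NLits) (hNl : NLitOK D Nl)
  (F : Type*) [Field F] (k : ℕ)

/-- The monomial form of all `n_i`, from a table of signs. -/
def MonoOK (etaTbl : List (List ℤ)) : Prop :=
  ∀ i < D.rank, monoCheck D i (Nl.getD i ([], [])).1 (etaTbl.getD i []) = true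

include hlen hsimple hNl in
/-- `n_i diag(chi u) = diag(chi (reflU i u)) n_i`. -/
theorem n_mul_torus (hrc : ReflCartanOK D) (etaTbl : List (List ℤ)) (hmono : MonoOK D Nl etaTbl) (i : ℕ)
    (hi : i < D.rank) (u : ℕ → Fˣ) :
    D.nMat F (D.simple i) 1 * D.charDiag F (chi D F u) =
      D.charDiag F (chi D F (reflU D F i u)) * D.nMat F (D.simple i) 1 := by
  rw [n_mul_charDiag D F hlen hsimple hrc i hi _ _ (hNl i hi) _ (hmono i hi)]
  congr 1
  apply charDiag_congr
  intro s hs
  exact chi_reflect D F hrc hsimple i hi u s hs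

include hsimple in
/-- Reflecting twice gives the same character on the roots. -/
theorem charDiag_reflU_reflU (hrc : ReflCartanOK D) (i : ℕ) (hi : i < D.rank) (u : ℕ → Fˣ) :
    D.charDiag F (chi D F (reflU D F i (reflU D F i u))) = D.charDiag F (chi D F u) := by
  apply charDiag_congr
  intro s hs
  rw [← chi_reflect D F hrc hsimple i hi _ s hs,
    ← chi_reflect D F hrc hsimple i hi _ _ (reflect_lt D hrc i hi s hs), reflect_reflect D hrc i hi s hs]

include hlen hsimple hNl in
/-- `diag(chi u) n_i = n_i diag(chi (reflU i u))`. -/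
theorem torus_mul_n (hrc : ReflCartanOK D) (etaTbl : List (List ℤ)) (hmono : MonoOK D Nl etaTbl) (i : ℕ)
    (hi : i < D.rank) (u : ℕ → Fˣ) :
    D.charDiag F (chi D F u) * D.nMat F (D.simple i) 1 =
      D.nMat F (D.simple i) 1 * D.charDiag F (chi D F (reflU D F i u)) := by
  rw [n_mul_torus D hlen hsimple Nl hNl F hrc etaTbl hmono i hi, charDiag_reflU_reflU D hsimple F hrc i hi]

/-- The property of a root carried along the certificate: `GoodH`, and `h_r(t)` is the diagonal matrix of a
character `chi u`. -/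
def GoodT (r : ℕ) : Prop :=
  GoodH D F r ∧ ∀ t : F, t ≠ 0 → ∃ u : ℕ → Fˣ, D.hMat F r t = D.charDiag F (chi D F u)

include hlen hadd hsimple hNl in
/-- `h_{p_j}(t)` as the diagonal matrix of a character. -/
theorem hMat_fund_eq (n : ℕ) (hH : HChecks D Nl n) (j : ℕ) (hj : j < D.rank) (t : F) (ht : t ≠ 0) :
    D.hMat F (D.simple j) t = D.charDiag F (chi D F (Function.update 1 j (Units.mk0 t ht))) := by
  obtain ⟨h1, h2⟩ := hH j hj
  rw [hMat_eq_Dg D hlen hadd hsimple F n j hj _ _ (hNl j hj) h1 h2 t ht, Dg_inv_eq_charDiag D F j t ht]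
  apply charDiag_congr
  intro s _
  rw [chi_single D F j hj]

include hlen hadd hsimple hNl in
theorem goodT_fund (n : ℕ) (hH : HChecks D Nl n) (j : ℕ) (hj : j < D.rank) : GoodT D F (D.simple j) :=
  ⟨goodH_fund D hlen hadd hsimple Nl hNl F n hH j hj, fun t ht =>
    ⟨_, hMat_fund_eq D hlen hadd hsimple Nl hNl F n hH j hj t ht⟩⟩

include hlen hadd hsimple hNl in
theorem goodT_step (hrc : ReflCartanOK D) (etaTbl : List (List ℤ)) (hmono : MonoOK D Nl etaTbl)
    (i s : ℕ) (η : ℤ) (h : ConjPair D Nl k i s η) (hs : GoodT D F s) : GoodT D F (D.reflectRoot i s) := by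
  obtain ⟨hg, hh⟩ := goodH_step D hlen hadd hsimple Nl hNl F k i s η h hs.1
  refine ⟨hg, ?_⟩
  intro t ht
  obtain ⟨u, hu⟩ := hs.2 t ht
  have hi : i < D.rank := h.1
  refine ⟨reflU D F i u, ?_⟩
  have hunit : IsUnit (D.nMat F (D.simple i) 1) := ⟨nGL D hlen hadd F i, nGL_coe D hlen hadd F i⟩
  apply hunit.mul_left_injective
  show D.hMat F (D.reflectRoot i s) t * D.nMat F (D.simple i) 1 =
    D.charDiag F (chi D F (reflU D F i u)) * D.nMat F (D.simple i) 1
  rw [← hh t ht, hu, n_mul_torus D hlen hsimple Nl hNl F hrc etaTbl hmono i hi]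

include hlen hadd hsimple hNl in
/-- Every `h_r(t)` is the diagonal matrix of a character `chi u`. -/
theorem goodT_all (hrc : ReflCartanOK D) (etaTbl : List (List ℤ)) (hmono : MonoOK D Nl etaTbl)
    (n : ℕ) (hH : HChecks D Nl n) (tbl : List (List ℤ)) (hF : FundOK D Nl k tbl)
    (T : List (ℕ × ℕ × ℤ)) (hT : PairsOK D k Nl T) (hsym : treeSymCheck D T = true)
    (hreach : reachCheck D T = true) (r : ℕ) (hr : r < D.nroots) : GoodT D F r :=
  tree_ind D Nl k (GoodT D F) (fun _ h => h.1.1)
    (fun j hj => goodT_fund D hlen hadd hsimple Nl hNl F n hH j hj)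
    (fun i s η h hs => goodT_step D hlen hadd hsimple Nl hNl F k hrc etaTbl hmono i s η h hs)
    tbl hF T hT hsym hreach r hr

/-- The property of a root carried along the certificate: `n_r(±1)` permutes the diagonal matrices `diag(chi u)`. -/
def GoodN (r : ℕ) : Prop :=
  r < D.nroots ∧ ∀ c : F, (c = 1 ∨ c = -1) → ∀ u : ℕ → Fˣ, ∃ u' : ℕ → Fˣ,
    D.nMat F r c * D.charDiag F (chi D F u) = D.charDiag F (chi D F u') * D.nMat F r c

include hlen hadd hsimple hNl in
theorem goodN_fund (hrc : ReflCartanOK D) (etaTbl : List (List ℤ)) (hmono : MonoOK D Nl etaTbl)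
    (j : ℕ) (hj : j < D.rank) : GoodN D F (D.simple j) := by
  refine ⟨(hsimple j hj).1, ?_⟩
  intro c hc u
  refine ⟨reflU D F j u, ?_⟩
  rcases hc with rfl | rfl
  · exact n_mul_torus D hlen hsimple Nl hNl F hrc etaTbl hmono j hj u
  · have e := torus_mul_n D hlen hsimple Nl hNl F hrc etaTbl hmono j hj u
    calc D.nMat F (D.simple j) (-1) * D.charDiag F (chi D F u)
        = D.nMat F (D.simple j) (-1) * D.charDiag F (chi D F u) *
            (D.nMat F (D.simple j) 1 * D.nMat F (D.simple j) (-1)) := by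
          rw [nMat_mul_neg D hlen hadd F, Matrix.mul_one]
      _ = D.nMat F (D.simple j) (-1) * (D.charDiag F (chi D F u) * D.nMat F (D.simple j) 1) *
            D.nMat F (D.simple j) (-1) := by simp only [Matrix.mul_assoc]
      _ = (D.nMat F (D.simple j) (-1) * D.nMat F (D.simple j) 1) * D.charDiag F (chi D F (reflU D F j u)) *
            D.nMat F (D.simple j) (-1) := by rw [e]; simp only [Matrix.mul_assoc]
      _ = D.charDiag F (chi D F (reflU D F j u)) * D.nMat F (D.simple j) (-1) := by
          rw [nMat_neg_mul D hlen hadd F, Matrix.one_mul]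

include hlen hadd hsimple hNl in
theorem goodN_step (hrc : ReflCartanOK D) (etaTbl : List (List ℤ)) (hmono : MonoOK D Nl etaTbl)
    (i s : ℕ) (η : ℤ) (h : ConjPair D Nl k i s η) (hs : GoodN D F s) : GoodN D F (D.reflectRoot i s) := by
  have hconj := fun c => nMat_conj D hlen hadd hsimple Nl hNl F k i s η h c
  obtain ⟨hr1, -, hη, -⟩ := hconj 1
  have hi : i < D.rank := h.1
  refine ⟨hr1, ?_⟩
  intro c hc u
  have hηη : (η : F) * ((η : F) * c) = c := by
    rcases hη with h | h <;> rw [h] <;> simp
  have hηc : ((η : F) * c = 1 ∨ (η : F) * c = -1) := by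
    rcases hη with h | h <;> rcases hc with h' | h' <;> rw [h, h'] <;> simp
  have e1 := (hconj ((η : F) * c)).2.2.2
  rw [hηη] at e1
  -- e1 : N * n_s(η c) = n_{w s}(c) * N
  obtain ⟨u2, hu2⟩ := hs.2 _ hηc (reflU D F i u)
  refine ⟨reflU D F i u2, ?_⟩
  have hunit : IsUnit (D.nMat F (D.simple i) 1) := ⟨nGL D hlen hadd F i, nGL_coe D hlen hadd F i⟩
  apply hunit.mul_left_injective
  show D.nMat F (D.reflectRoot i s) c * D.charDiag F (chi D F u) * D.nMat F (D.simple i) 1 =
    D.charDiag F (chi D F (reflU D F i u2)) * D.nMat F (D.reflectRoot i s) c * D.nMat F (D.simple i) 1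
  rw [Matrix.mul_assoc, torus_mul_n D hlen hsimple Nl hNl F hrc etaTbl hmono i hi u, ← Matrix.mul_assoc, ← e1,
    Matrix.mul_assoc, hu2, ← Matrix.mul_assoc, n_mul_torus D hlen hsimple Nl hNl F hrc etaTbl hmono i hi u2,
    Matrix.mul_assoc, e1, Matrix.mul_assoc]

include hlen hadd hsimple hNl in
/-- Every `n_r(±1)` permutes the diagonal matrices `diag(chi u)`. -/
theorem goodN_all (hrc : ReflCartanOK D) (etaTbl : List (List ℤ)) (hmono : MonoOK D Nl etaTbl)
    (tbl : List (List ℤ)) (hF : FundOK D Nl k tbl)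
    (T : List (ℕ × ℕ × ℤ)) (hT : PairsOK D k Nl T) (hsym : treeSymCheck D T = true)
    (hreach : reachCheck D T = true) (r : ℕ) (hr : r < D.nroots) : GoodN D F r :=
  tree_ind D Nl k (GoodN D F) (fun _ h => h.1)
    (fun j hj => goodN_fund D hlen hadd hsimple Nl hNl F hrc etaTbl hmono j hj)
    (fun i s η h hs => goodN_step D hlen hadd hsimple Nl hNl F k hrc etaTbl hmono i s η h hs)
    tbl hF T hT hsym hreach r hr

end


/-! ### the diagonal subgroup as a group of diagonal matrices -/

section
variable (F : Type*) [Field F]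

/-- The diagonal matrix of a function to the units, as an invertible matrix. -/
def torusGL (χ : ℕ → Fˣ) : GL D.Idx F :=
  ⟨D.charDiag F χ, D.charDiag F χ⁻¹, charDiag_mul_inv' D F χ, charDiag_inv_mul' D F χ⟩

theorem torusGL_coe (χ : ℕ → Fˣ) : ((torusGL D F χ : GL D.Idx F) : Matrix D.Idx D.Idx F) = D.charDiag F χ := rfl

theorem torusGL_mul (χ ψ : ℕ → Fˣ) : torusGL D F (χ * ψ) = torusGL D F χ * torusGL D F ψ :=
  Units.ext (charDiag_mul D F χ ψ).symm

theorem torusGL_one : torusGL D F 1 = 1 := Units.ext (charDiag_one D F)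

theorem torusGL_inv (χ : ℕ → Fˣ) : (torusGL D F χ)⁻¹ = torusGL D F χ⁻¹ := by
  rw [inv_eq_iff_mul_eq_one, ← torusGL_mul, mul_inv_cancel, torusGL_one]

theorem eq_torusGL (g : GL D.Idx F) (χ : ℕ → Fˣ) (h : (g : Matrix D.Idx D.Idx F) = D.charDiag F χ) :
    g = torusGL D F χ := Units.ext h

theorem wordMat_append (a b : List (ℕ × F)) : D.wordMat F (a ++ b) = D.wordMat F a * D.wordMat F b := by
  unfold ChevalleyDatum.wordMat
  rw [List.map_append, List.prod_append]

/-- The hypothesis that the `h_{p_j}(t)` are the expected diagonal matrices. -/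
def FundTorus : Prop :=
  ∀ j < D.rank, ∀ (t : F) (ht : t ≠ 0),
    D.hMat F (D.simple j) t = D.charDiag F (chi D F (Function.update 1 j (Units.mk0 t ht)))

theorem wordMat_fund_range (hfund : FundTorus D F) (u : ℕ → Fˣ) (n : ℕ) (hn : n ≤ D.rank) :
    D.wordMat F ((List.range n).flatMap fun i => D.hWord (D.simple i) (u i : F)) =
      D.charDiag F (fun s => ∏ j ∈ Finset.range n, (u j) ^ (D.cartan j s)) := by
  induction n with
  | zero =>
    simp only [List.range_zero, List.flatMap_nil, Finset.range_zero, Finset.prod_empty]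
    exact (charDiag_one D F).symm
  | succ n ih =>
    rw [List.range_succ, List.flatMap_append, wordMat_append, ih (by omega)]
    simp only [List.flatMap_cons, List.flatMap_nil, List.append_nil]
    have h1 : D.wordMat F (D.hWord (D.simple n) (u n : F)) = D.hMat F (D.simple n) (u n : F) := rfl
    rw [h1, hfund n (by omega) (u n : F) (u n).ne_zero, charDiag_mul]
    apply charDiag_congr
    intro s _
    rw [Pi.mul_apply, chi_single D F n (by omega), Finset.prod_range_succ]
    congr 2
    exact Units.ext rfl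

/-- The product of the `h_{p_i}(u_i)` is `diag(chi u)`. -/
theorem wordMat_fund (hfund : FundTorus D F) (u : ℕ → Fˣ) :
    D.wordMat F ((List.range D.rank).flatMap fun i => D.hWord (D.simple i) (u i : F)) =
      D.charDiag F (chi D F u) :=
  wordMat_fund_range D F hfund u D.rank le_rfl

/-- `diag(chi u)` lies in the diagonal subgroup. -/
theorem torusGL_mem (hsimple : SimpleOK D) (hfund : FundTorus D F) (u : ℕ → Fˣ) :
    torusGL D F (chi D F u) ∈ D.diagonalSubgroup F := by
  have key : ∀ n ≤ D.rank, torusGL D F (fun s => ∏ j ∈ Finset.range n, (u j) ^ (D.cartan j s)) ∈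
      D.diagonalSubgroup F := by
    intro n
    induction n with
    | zero =>
      intro _
      simp only [Finset.range_zero, Finset.prod_empty]
      exact (torusGL_one D F) ▸ one_mem _
    | succ n ih =>
      intro hn
      have e : (fun s => ∏ j ∈ Finset.range (n + 1), (u j) ^ (D.cartan j s)) =
          (fun s => ∏ j ∈ Finset.range n, (u j) ^ (D.cartan j s)) * (fun s => (u n) ^ (D.cartan n s)) := by
        funext s
        rw [Pi.mul_apply, Finset.prod_range_succ]
      rw [e, torusGL_mul]
      refine mul_mem (ih (by omega)) ?_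
      apply Subgroup.subset_closure
      refine ⟨D.simple n, (u n : F), (hsimple n (by omega)).1, (u n).ne_zero, ?_⟩
      rw [torusGL_coe, hfund n (by omega) (u n : F) (u n).ne_zero]
      apply charDiag_congr
      intro s _
      rw [chi_single D F n (by omega)]
      congr 1
      exact Units.ext rfl
  exact key D.rank le_rfl

/-- The elements of the diagonal subgroup are exactly the `diag(chi u)`. -/
theorem mem_diagonal_iff (hsimple : SimpleOK D) (hfund : FundTorus D F)
    (hT : ∀ r < D.nroots, ∀ t : F, t ≠ 0 → ∃ u : ℕ → Fˣ, D.hMat F r t = D.charDiag F (chi D F u))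
    (g : GL D.Idx F) : g ∈ D.diagonalSubgroup F ↔ ∃ u : ℕ → Fˣ, g = torusGL D F (chi D F u) := by
  constructor
  · intro hg
    unfold ChevalleyDatum.diagonalSubgroup at hg
    induction hg using Subgroup.closure_induction'' with
    | mem x hx =>
      obtain ⟨r, t, hr, ht, hx⟩ := hx
      obtain ⟨u, hu⟩ := hT r hr t ht
      exact ⟨u, eq_torusGL D F x _ (hx.trans hu)⟩
    | inv_mem x hx =>
      obtain ⟨r, t, hr, ht, hx⟩ := hx
      obtain ⟨u, hu⟩ := hT r hr t ht
      refine ⟨u⁻¹, ?_⟩
      rw [eq_torusGL D F x _ (hx.trans hu), torusGL_inv, chi_inv]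
    | one => exact ⟨1, by rw [chi_one, torusGL_one]⟩
    | mul x y _ _ hx hy =>
      obtain ⟨u, rfl⟩ := hx
      obtain ⟨v, rfl⟩ := hy
      exact ⟨u * v, by rw [chi_mul, torusGL_mul]⟩
  · rintro ⟨u, rfl⟩
    exact torusGL_mem D F hsimple hfund u

end


/-! ### the facts about one datum, bundled -/

section
variable (F : Type*) [Field F]

/-- The facts about the datum `D` over the field `F` that come out of the table checks. -/
structure Facts : Prop where
  hlen : ChainLenOK D
  hadd : AddOK D
  hsimple : SimpleOK D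
  hca : CartanAddOK D
  hrc : ReflCartanOK D
  fundTorus : FundTorus D F
  mem_diag : ∀ g : GL D.Idx F, g ∈ D.diagonalSubgroup F ↔ ∃ u : ℕ → Fˣ, g = torusGL D F (chi D F u)
  goodN : ∀ r < D.nroots, GoodN D F r
  group_eq : D.group F = fundSubgroup D F
  fund_conj : ∀ i < D.rank, ∀ j < D.rank, ∃ η : ℤ, (η = 1 ∨ η = -1) ∧ D.reflectRoot i (D.simple j) < D.nroots ∧
    ∀ t : F, D.nMat F (D.simple i) 1 * D.x F (D.simple j) t =
      D.x F (D.reflectRoot i (D.simple j)) ((η : F) * t) * D.nMat F (D.simple i) 1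

theorem facts_mk (hlen : ChainLenOK D) (hadd : AddOK D) (hsimple : SimpleOK D) (Nl : NLits) (hNl : NLitOK D Nl)
    (k : ℕ) (hca : CartanAddOK D) (hrc : ReflCartanOK D) (etaTbl : List (List ℤ)) (hmono : MonoOK D Nl etaTbl)
    (n : ℕ) (hH : HChecks D Nl n) (tbl : List (List ℤ)) (hF : FundOK D Nl k tbl)
    (T : List (ℕ × ℕ × ℤ)) (hT : PairsOK D k Nl T) (hsym : treeSymCheck D T = true)
    (hreach : reachCheck D T = true) : Facts D F := by
  have hfund : FundTorus D F := fun j hj t ht => hMat_fund_eq D hlen hadd hsimple Nl hNl F n hH j hj t ht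
  have hT' := fun r hr => goodT_all D hlen hadd hsimple Nl hNl F k hrc etaTbl hmono n hH tbl hF T hT hsym hreach r hr
  refine ⟨hlen, hadd, hsimple, hca, hrc, hfund,
    fun g => mem_diagonal_iff D F hsimple hfund (fun r hr t ht => (hT' r hr).2 t ht) g,
    fun r hr => goodN_all D hlen hadd hsimple Nl hNl F k hrc etaTbl hmono tbl hF T hT hsym hreach r hr,
    group_eq_fundSubgroup D hlen hadd hsimple Nl hNl F k T hT hreach, ?_⟩
  intro i hi j hj
  have hcp := hF i hi j hj
  obtain ⟨h1, h2, h3⟩ := nMat_mul_x_of_pairCheck D hlen hadd hsimple Nl hNl F k (i, D.simple j, _) hi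
    (hsimple j hj).1 hcp.2.2.2.1
  exact ⟨_, h2, h1, h3⟩

end

end Cfsg.Agent.Lib.Helper36_ChevTorus
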