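import Cfsg.Agent.Lib.Helper36_ChevBorel

set_option autoImplicit false

/-!
Conjugation of root elements by products of the `n_i` along a word in the fundamental reflections; a word for the
longest element conjugates `U` onto `V`.
-/

namespace Cfsg.Agent.Lib.Helper36_ChevW0

open Cfsg Cfsg.Lie Cfsg.Agent.Lib.Helper36_ChevCoeff Cfsg.Agent.Lib.Helper36_ChevAdd
  Cfsg.Agent.Lib.Helper36_ChevWeyl Cfsg.Agent.Lib.Helper36_ChevGen Cfsg.Agent.Lib.Helper36_ChevConj
  Cfsg.Agent.Lib.Helper36_ChevTorus Cfsg.Agent.Lib.Helper36_ChevBorel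

variable (D : ChevalleyDatum)

/-! ### all pairs -/

section
variable (F : Type*) [Field F]

/-- `n_i x_s(t) = x_{w_i s}(± t) n_i` for all fundamental reflections and all roots. -/
def AllConj : Prop :=
  ∀ i < D.rank, ∀ s < D.nroots, D.reflectRoot i s < D.nroots ∧ ∃ η : ℤ, (η = 1 ∨ η = -1) ∧ ∀ t : F,
    D.nMat F (D.simple i) 1 * D.x F s t = D.x F (D.reflectRoot i s) ((η : F) * t) * D.nMat F (D.simple i) 1

theorem allConj_of_table (hlen : ChainLenOK D) (hadd : AddOK D) (hsimple : SimpleOK D) (Nl : NLits)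
    (hNl : NLitOK D Nl) (k : ℕ) (tbl : List (List ℤ)) (htbl : EtaTableOK D k Nl tbl) : AllConj D F := by
  intro i hi s hs
  obtain ⟨h1, h2, h3⟩ := nMat_mul_x_of_table D hlen hadd hsimple Nl hNl F k tbl htbl i s hi hs
  exact ⟨h1, _, h2, h3⟩

variable (hlen : ChainLenOK D) (hadd : AddOK D)

theorem nGL_conj (hc : AllConj D F) (i : ℕ) (hi : i < D.rank) (s : ℕ) (hs : s < D.nroots) :
    ∃ η : ℤ, (η = 1 ∨ η = -1) ∧ ∀ t : F,
      nGL D hlen hadd F i * xGL D hlen hadd F s t * (nGL D hlen hadd F i)⁻¹ =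
        xGL D hlen hadd F (D.reflectRoot i s) ((η : F) * t) := by
  obtain ⟨-, η, hη, h⟩ := hc i hi s hs
  refine ⟨η, hη, fun t => ?_⟩
  rw [mul_inv_eq_iff_eq_mul]
  apply Units.ext
  rw [Units.val_mul, Units.val_mul, xGL_coe, xGL_coe, nGL_coe, h]

theorem nGL_inv_conj (hc : AllConj D F) (hrc : ReflCartanOK D) (i : ℕ) (hi : i < D.rank) (s : ℕ)
    (hs : s < D.nroots) :
    ∃ η : ℤ, (η = 1 ∨ η = -1) ∧ ∀ t : F,
      (nGL D hlen hadd F i)⁻¹ * xGL D hlen hadd F s t * nGL D hlen hadd F i =
        xGL D hlen hadd F (D.reflectRoot i s) ((η : F) * t) := by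
  obtain ⟨η, hη, h⟩ := nGL_conj D F hlen hadd hc i hi (D.reflectRoot i s) (reflect_lt D hrc i hi s hs)
  rw [reflect_reflect D hrc i hi s hs] at h
  refine ⟨η, hη, fun t => ?_⟩
  have hηη : (η : F) * ((η : F) * t) = t := by
    rcases hη with h | h <;> rw [h] <;> simp
  have := h ((η : F) * t)
  rw [hηη] at this
  rw [← this]
  group

/-! ### words -/

/-- The action of a word in the fundamental reflections on the root indices. -/
def wordRefl (w : List ℕ) (s : ℕ) : ℕ := w.foldr (fun i s => D.reflectRoot i s) s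

/-- The product of the `n_i` along a word. -/
noncomputable def wordGL (w : List ℕ) : GL D.Idx F := (w.map (nGL D hlen hadd F)).prod

theorem wordRefl_lt (hrc : ReflCartanOK D) (w : List ℕ) (hw : ∀ i ∈ w, i < D.rank) (s : ℕ) (hs : s < D.nroots) :
    wordRefl D w s < D.nroots := by
  induction w with
  | nil => exact hs
  | cons i w ih =>
    unfold wordRefl
    rw [List.foldr_cons]
    exact reflect_lt D hrc i (hw i List.mem_cons_self) _ (ih (fun j hj => hw j (List.mem_cons_of_mem _ hj)))

theorem wordGL_conj (hc : AllConj D F) (hrc : ReflCartanOK D) (w : List ℕ) (hw : ∀ i ∈ w, i < D.rank) (s : ℕ)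
    (hs : s < D.nroots) :
    ∃ η : ℤ, (η = 1 ∨ η = -1) ∧ ∀ t : F,
      wordGL D F hlen hadd w * xGL D hlen hadd F s t * (wordGL D F hlen hadd w)⁻¹ =
        xGL D hlen hadd F (wordRefl D w s) ((η : F) * t) := by
  induction w with
  | nil =>
    refine ⟨1, Or.inl rfl, fun t => ?_⟩
    simp [wordGL, wordRefl]
  | cons i w ih =>
    have hw' : ∀ j ∈ w, j < D.rank := fun j hj => hw j (List.mem_cons_of_mem _ hj)
    obtain ⟨η1, hη1, h1⟩ := ih hw'
    obtain ⟨η2, hη2, h2⟩ := nGL_conj D F hlen hadd hc i (hw i List.mem_cons_self) (wordRefl D w s)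
      (wordRefl_lt D hrc w hw' s hs)
    refine ⟨η2 * η1, ?_, fun t => ?_⟩
    · rcases hη1 with h | h <;> rcases hη2 with h' | h' <;> rw [h, h'] <;> simp
    · have e : wordGL D F hlen hadd (i :: w) = nGL D hlen hadd F i * wordGL D F hlen hadd w := by
        unfold wordGL
        rw [List.map_cons, List.prod_cons]
      have e2 : wordRefl D (i :: w) s = D.reflectRoot i (wordRefl D w s) := by
        unfold wordRefl
        rw [List.foldr_cons]
      rw [e, e2, Int.cast_mul, mul_assoc (η2 : F) (η1 : F) t, ← h2, ← h1]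
      group

theorem wordGL_inv_conj (hc : AllConj D F) (hrc : ReflCartanOK D) (w : List ℕ) (hw : ∀ i ∈ w, i < D.rank) :
    ∀ s < D.nroots, ∃ η : ℤ, (η = 1 ∨ η = -1) ∧ ∀ t : F,
      (wordGL D F hlen hadd w)⁻¹ * xGL D hlen hadd F s t * wordGL D F hlen hadd w =
        xGL D hlen hadd F (wordRefl D w.reverse s) ((η : F) * t) := by
  induction w with
  | nil =>
    intro s _
    refine ⟨1, Or.inl rfl, fun t => ?_⟩
    simp [wordGL, wordRefl]
  | cons i w ih =>
    intro s hs
    have hw' : ∀ j ∈ w, j < D.rank := fun j hj => hw j (List.mem_cons_of_mem _ hj)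
    have hi : i < D.rank := hw i List.mem_cons_self
    obtain ⟨η2, hη2, h2⟩ := nGL_inv_conj D F hlen hadd hc hrc i hi s hs
    obtain ⟨η1, hη1, h1⟩ := ih hw' (D.reflectRoot i s) (reflect_lt D hrc i hi s hs)
    refine ⟨η1 * η2, ?_, fun t => ?_⟩
    · rcases hη1 with h | h <;> rcases hη2 with h' | h' <;> rw [h, h'] <;> simp
    · have e : wordGL D F hlen hadd (i :: w) = nGL D hlen hadd F i * wordGL D F hlen hadd w := by
        unfold wordGL
        rw [List.map_cons, List.prod_cons]
      have e2 : wordRefl D (i :: w).reverse s = wordRefl D w.reverse (D.reflectRoot i s) := by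
        unfold wordRefl
        rw [List.reverse_cons, List.foldr_append]
        rfl
      rw [e, e2, Int.cast_mul, mul_assoc (η1 : F) (η2 : F) t, ← h1, ← h2]
      group

theorem wordGL_mem_monomial (hsimple : SimpleOK D) (w : List ℕ) (hw : ∀ i ∈ w, i < D.rank) :
    wordGL D F hlen hadd w ∈ D.monomialSubgroup F := by
  unfold wordGL
  apply Subgroup.list_prod_mem
  intro x hx
  rw [List.mem_map] at hx
  obtain ⟨i, hi, rfl⟩ := hx
  apply (le_sup_right : _ ≤ D.monomialSubgroup F)
  exact Subgroup.subset_closure ⟨D.simple i, (hsimple i (hw i hi)).1, nGL_coe D hlen hadd F i⟩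

/-- If the word sends the roots with `P` to roots with `Q`, and its inverse sends `Q` to `P`, then conjugation by the
product of the `n_i` maps the subgroup generated by the root elements of `P` onto that of `Q`. -/
theorem map_conj_rootClosure (hc : AllConj D F) (hrc : ReflCartanOK D) (w : List ℕ) (hw : ∀ i ∈ w, i < D.rank)
    (P Q : ℕ → Prop) (hP : ∀ r, P r → r < D.nroots) (hQ : ∀ r, Q r → r < D.nroots)
    (h1 : ∀ r, P r → Q (wordRefl D w r)) (h2 : ∀ r, Q r → P (wordRefl D w.reverse r)) :
    (rootClosure D F P).map (MulAut.conj (wordGL D F hlen hadd w)).toMonoidHom = rootClosure D F Q := by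
  apply le_antisymm
  · unfold rootClosure
    rw [MonoidHom.map_closure, Subgroup.closure_le]
    rintro g ⟨x, ⟨r, t, hr, hx⟩, rfl⟩
    have hx' : x = xGL D hlen hadd F r t := Units.ext hx
    obtain ⟨η, -, h⟩ := wordGL_conj D F hlen hadd hc hrc w hw r (hP r hr)
    show (MulAut.conj (wordGL D F hlen hadd w)) x ∈ _
    rw [MulAut.conj_apply, hx', h t]
    exact Subgroup.subset_closure ⟨_, _, h1 r hr, rfl⟩
  · unfold rootClosure
    rw [Subgroup.closure_le]
    rintro g ⟨r, t, hr, hg⟩
    have hg' : g = xGL D hlen hadd F r t := Units.ext hg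
    obtain ⟨η, -, h⟩ := wordGL_inv_conj D F hlen hadd hc hrc w hw r (hQ r hr)
    rw [SetLike.mem_coe, Subgroup.mem_map]
    refine ⟨(wordGL D F hlen hadd w)⁻¹ * g * wordGL D F hlen hadd w, ?_, ?_⟩
    · rw [hg', h t]
      exact Subgroup.subset_closure ⟨_, _, h2 r hr, rfl⟩
    · show (MulAut.conj (wordGL D F hlen hadd w)) _ = g
      rw [MulAut.conj_apply]
      group

end

/-! ### evaluation with a literal table -/

/-- The reflection read off a literal table. -/
def tblRefl (tbl : List (List ℕ)) (i s : ℕ) : ℕ := (tbl.getD i []).getD s 0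

/-- The table agrees with `reflectRoot` for the roots `a ≤ s < b`. -/
def ReflTblRange (tbl : List (List ℕ)) (i a b : ℕ) : Prop := ∀ s < b, a ≤ s → tblRefl tbl i s = D.reflectRoot i s

instance (tbl : List (List ℕ)) (i a b : ℕ) : Decidable (ReflTblRange D tbl i a b) := by
  unfold ReflTblRange
  infer_instance

theorem reflTblRange_trans (tbl : List (List ℕ)) (i : ℕ) {a b c : ℕ} (h1 : ReflTblRange D tbl i a b)
    (h2 : ReflTblRange D tbl i b c) : ReflTblRange D tbl i a c := by
  intro r hr har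
  by_cases h : r < b
  · exact h1 r h har
  · exact h2 r hr (Nat.le_of_not_lt h)

/-- The action of a word, computed with the table. -/
def wordReflT (tbl : List (List ℕ)) (w : List ℕ) (s : ℕ) : ℕ := w.foldr (fun i s => tblRefl tbl i s) s

theorem wordReflT_eq (hrc : ReflCartanOK D) (tbl : List (List ℕ))
    (htbl : ∀ i < D.rank, ReflTblRange D tbl i 0 D.nroots) (w : List ℕ) (hw : ∀ i ∈ w, i < D.rank) (s : ℕ)
    (hs : s < D.nroots) : wordReflT tbl w s = wordRefl D w s := by
  induction w with
  | nil => rfl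
  | cons i w ih =>
    have hw' : ∀ j ∈ w, j < D.rank := fun j hj => hw j (List.mem_cons_of_mem _ hj)
    unfold wordReflT wordRefl
    rw [List.foldr_cons, List.foldr_cons]
    have e := ih hw'
    unfold wordReflT wordRefl at e
    rw [e]
    exact htbl i (hw i List.mem_cons_self) _ (wordRefl_lt D hrc w hw' s hs) (Nat.zero_le _)

/-- The check for the root `r`: the word sends positive roots to negative roots and its inverse sends negative roots
to positive roots. -/
def w0Check (tbl : List (List ℕ)) (w0 : List ℕ) (r : ℕ) : Prop :=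
  (D.IsPosRoot r → D.IsNegRoot (wordReflT tbl w0 r)) ∧ (D.IsNegRoot r → D.IsPosRoot (wordReflT tbl w0.reverse r))

instance (tbl : List (List ℕ)) (w0 : List ℕ) (r : ℕ) : Decidable (w0Check D tbl w0 r) := by
  unfold w0Check
  infer_instance

def W0Range (tbl : List (List ℕ)) (w0 : List ℕ) (a b : ℕ) : Prop := ∀ r < b, a ≤ r → w0Check D tbl w0 r

instance (tbl : List (List ℕ)) (w0 : List ℕ) (a b : ℕ) : Decidable (W0Range D tbl w0 a b) := by
  unfold W0Range
  infer_instance

theorem w0Range_trans (tbl : List (List ℕ)) (w0 : List ℕ) {a b c : ℕ} (h1 : W0Range D tbl w0 a b)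
    (h2 : W0Range D tbl w0 b c) : W0Range D tbl w0 a c := by
  intro r hr har
  by_cases h : r < b
  · exact h1 r h har
  · exact h2 r hr (Nat.le_of_not_lt h)

/-- All the checks on a word for the longest element. -/
structure W0OK (tbl : List (List ℕ)) (w0 : List ℕ) : Prop where
  tblOK : ∀ i < D.rank, ReflTblRange D tbl i 0 D.nroots
  wlt : ∀ i ∈ w0, i < D.rank
  range : W0Range D tbl w0 0 D.nroots

/-- Conjugation by the product of the `n_i` along the word maps `U` onto `V`. -/
theorem map_conj_pos (F : Type*) [Field F] (hlen : ChainLenOK D) (hadd : AddOK D) (hc : AllConj D F)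
    (hrc : ReflCartanOK D) (tbl : List (List ℕ)) (w0 : List ℕ) (h : W0OK D tbl w0) :
    (D.posUnipotent F).map (MulAut.conj (wordGL D F hlen hadd w0)).toMonoidHom = D.negUnipotent F := by
  rw [posUnipotent_eq, negUnipotent_eq]
  have hwr : ∀ i ∈ w0.reverse, i < D.rank := fun i hi => h.wlt i (List.mem_reverse.mp hi)
  apply map_conj_rootClosure D F hlen hadd hc hrc w0 h.wlt D.IsPosRoot D.IsNegRoot (fun r hr => hr.1)
    (fun r hr => hr.1)
  · intro r hr
    rw [← wordReflT_eq D hrc tbl h.tblOK w0 h.wlt r hr.1]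
    exact (h.range r hr.1 (Nat.zero_le _)).1 hr
  · intro r hr
    rw [← wordReflT_eq D hrc tbl h.tblOK w0.reverse hwr r hr.1]
    exact (h.range r hr.1 (Nat.zero_le _)).2 hr

end Cfsg.Agent.Lib.Helper36_ChevW0
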