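import Cfsg.Agent.Lib.Helper36_TwistH
import Cfsg.Agent.Lib.Helper36_TwistD4
import Cfsg.Agent.Lib.Helper36_ChevDataD4HO

set_option autoImplicit false
set_option linter.unusedSimpArgs false

/-!
The diagonal part of the twisted group of type `³D₄`.
-/

namespace Cfsg.Agent.Lib.Helper36_TwistHD4

open Cfsg Cfsg.Lie Cfsg.Agent.Lib.Helper18_ChevFast Cfsg.Agent.Lib.Helper18_ChevEngine
  Cfsg.Agent.Lib.Helper18_ChevN Cfsg.Agent.Lib.Helper18_ChevWeyl
  Cfsg.Agent.Lib.Helper18_ChevGL Cfsg.Agent.Lib.Helper18_ChevTri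
  Cfsg.Agent.Lib.Helper18_ChevAdd Cfsg.Agent.Lib.Helper18_ChevUni Cfsg.Agent.Lib.Helper18_ChevBN
  Cfsg.Agent.Lib.Helper36_TwistU Cfsg.Agent.Lib.Helper36_TwistW Cfsg.Agent.Lib.Helper36_TwistH
  Cfsg.Agent.Lib.Helper36_TwistTabD4 Cfsg.Agent.Lib.Helper36_TwistD4
  Cfsg.Agent.Lib.Helper36_ChevTorus Cfsg.Agent.Lib.Helper36_ChevHOrder

/-- The symmetry of the nodes. -/
def rho : Equiv.Perm (Fin chevD4.rank) :=
  (⟨![2, 1, 3, 0], ![3, 1, 0, 2], by decide, by decide⟩ : Equiv.Perm (Fin 4))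

theorem nodes : ∀ j : Fin chevD4.rank, NodeOK chevD4 pi eps j (rho j) := by decide +kernel

/-- Twice the inverse of the Cartan matrix. -/
def matB : Matrix (Fin chevD4.rank) (Fin chevD4.rank) ℤ :=
  !![2, 2, 1, 1; 2, 4, 2, 2; 1, 2, 2, 1; 1, 2, 1, 2]

theorem matB_spec : cartanMat chevD4 * matB = Matrix.diagonal (fun _ => ((2 : ℕ) : ℤ)) := by decide +kernel

/-- The nodes. -/
abbrev n0 : Fin chevD4.rank := (0 : Fin 4)
abbrev n1 : Fin chevD4.rank := (1 : Fin 4)
abbrev n2 : Fin chevD4.rank := (2 : Fin 4)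
abbrev n3 : Fin chevD4.rank := (3 : Fin 4)

theorem rho_vals : rho.symm n0 = n3 ∧ rho.symm n1 = n1 ∧ rho.symm n2 = n0 ∧ rho.symm n3 = n2 := by decide +kernel

/-- A function on the nodes from its four values. -/
def vec {A : Type*} (a0 a1 a2 a3 : A) : Fin chevD4.rank → A := (![a0, a1, a2, a3] : Fin 4 → A)

section
variable {A : Type*} (a0 a1 a2 a3 : A)
theorem vec_n0 : vec a0 a1 a2 a3 n0 = a0 := rfl
theorem vec_n1 : vec a0 a1 a2 a3 n1 = a1 := rfl
theorem vec_n2 : vec a0 a1 a2 a3 n2 = a2 := rfl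
theorem vec_n3 : vec a0 a1 a2 a3 n3 = a3 := rfl
end

theorem forall4' (P : Fin 4 → Prop) (h0 : P 0) (h1 : P 1) (h2 : P 2) (h3 : P 3) : ∀ k, P k := by
  intro k
  fin_cases k <;> assumption

theorem forall4 (P : Fin chevD4.rank → Prop) (h0 : P n0) (h1 : P n1) (h2 : P n2) (h3 : P n3) :
    ∀ k, P k := forall4' P h0 h1 h2 h3

theorem vec_eta {A : Type*} (u : Fin chevD4.rank → A) : u = vec (u n0) (u n1) (u n2) (u n3) := by
  funext k
  revert k
  apply forall4 <;> rfl

theorem decomp4' {A : Type*} [CommGroup A] (u : Fin 4 → A) :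
    u = Pi.mulSingle 1 (u 1) * (Pi.mulSingle 0 (u 0) * (Pi.mulSingle 2 (u 2) * Pi.mulSingle 3 (u 3))) := by
  funext k
  fin_cases k <;> simp [Pi.mulSingle_apply]

theorem decomp4 {A : Type*} [CommGroup A] (u : Fin chevD4.rank → A) :
    u = Pi.mulSingle n1 (u n1) * (Pi.mulSingle n0 (u n0) * (Pi.mulSingle n2 (u n2) * Pi.mulSingle n3 (u n3))) :=
  decomp4' u

def matC : Matrix (Fin chevD4.rank) (Fin chevD4.rank) ℤ :=
  !![2, -1, 0, 0; -1, 2, -1, -1; 0, -1, 2, 0; 0, -1, 0, 2]

theorem cartan_eq : cartanMat chevD4 = matC := by decide +kernel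

theorem zact4' {G : Type*} [CommGroup G] (M : Matrix (Fin chevD4.rank) (Fin chevD4.rank) ℤ) (u : Fin chevD4.rank → G)
    (k : Fin chevD4.rank) :
    zact M u k = u n0 ^ M n0 k * u n1 ^ M n1 k * u n2 ^ M n2 k * u n3 ^ M n3 k :=
  zact4 M u k

section

variable {K : Type*} [Field K] [Fintype K] {q : ℕ} (hK : Fintype.card K = q ^ 3)
  (f : K →+* K) (hf : ∀ x : K, f x = x ^ q)

include hK hf in
theorem f_f_f (x : K) : f (f (f x)) = x := by
  rw [hf, hf, hf, ← pow_mul, ← pow_mul]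
  have : q * (q * q) = q ^ 3 := by ring
  rw [this]
  exact Cfsg.Agent.Lib.Helper36_TwistF.pow_card' hK x

include hK hf in
theorem tau_tau_tau (u : Fin chevD4.rank → Kˣ) :
    tau chevD4 K rho f (tau chevD4 K rho f (tau chevD4 K rho f u)) = u := by
  have h3 : ∀ j : Fin chevD4.rank, rho.symm (rho.symm (rho.symm j)) = j := by decide +kernel
  funext k
  rw [tau_apply, tau_apply, tau_apply, h3]
  apply Units.ext
  exact f_f_f hK f hf _

include hK hf in
theorem lift (u : Fin chevD4.rank → Kˣ) (hu : u * (tau chevD4 K rho f u)⁻¹ ∈ (torusHom chevD4 K).ker) :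
    ∃ z ∈ (torusHom chevD4 K).ker, tau chevD4 K rho f (u * z) = u * z :=
  fix_lift3 (tau chevD4 K rho f) (torusHom chevD4 K).ker
    (tau_ker certs (twist f) (Helper36_ChevDataD4T.facts K) rho nodes) (tau_tau_tau hK f hf)
    (fun z hz => ker_exponent (Helper36_ChevDataD4T.facts K) Helper36_ChevDataD4HO.rootInd matB 2 matB_spec z hz) u hu

include hf in
theorem frob_neg_inv (t : K) : f (-t⁻¹) = -(f t)⁻¹ := by
  rw [map_neg, map_inv₀]

include hf in
/-- The element `h_j(t)` of the fixed node, with `t` in the small field. -/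
theorem single_part (t : Kˣ) (ht : (t : K) ^ q = t) :
    torusHom chevD4 K (Pi.mulSingle n1 t) ∈ twistedD4 K q := by
  obtain ⟨s0, s1, s2, s3, m0, m1, m2, m3⟩ := simples
  rw [torusHom_single chevD4 K (Helper36_ChevDataD4T.facts K) dc, hGL_eq, nT_eq, nT_eq,
    show ((n1 : Fin chevD4.rank) : ℕ) = 1 from rfl, s1, m1]
  have h1 : ∀ a : K, a ^ q = a → xGL dc 14 a ∈ twistedD4 K q := fun a ha => by
    rw [← wordGL_single]
    exact single_mem 14 (by simp [d4p2]) a ha
  have h2 : ∀ a : K, a ^ q = a → xGL dc 9 a ∈ twistedD4 K q := fun a ha => by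
    rw [← wordGL_single]
    exact single_mem 9 (by simp [d4m2]) a ha
  have h3 : ∀ a : K, a ^ q = a → (-a⁻¹) ^ q = -a⁻¹ := fun a ha => by
    rw [← hf, frob_neg_inv f hf, hf, ha]
  have hm1 : (-1 : K) ^ q = -1 := neg_one_pow f hf
  exact Subgroup.mul_mem _ (Subgroup.mul_mem _ (Subgroup.mul_mem _ (h1 _ ht) (h2 _ (h3 _ ht))) (h1 _ ht))
    (Subgroup.mul_mem _ (Subgroup.mul_mem _ (h1 _ hm1) (h2 _ (h3 _ hm1))) (h1 _ hm1))

include hf in
/-- The element `h_0(a) h_2(f a) h_3(f (f a))` of the three nodes permuted by the symmetry. -/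
theorem triple_part (a : Kˣ) :
    torusHom chevD4 K (Pi.mulSingle n0 a * (Pi.mulSingle n2 (Units.map (f : K →* K) a) *
      Pi.mulSingle n3 (Units.map (f : K →* K) (Units.map (f : K →* K) a)))) ∈ twistedD4 K q := by
  obtain ⟨s0, s1, s2, s3, m0, m1, m2, m3⟩ := simples
  have c02 := crossOK [0, 2, 3] (by decide) 0 (by decide) 2 (by decide) (by decide)
  have c03 := crossOK [0, 2, 3] (by decide) 0 (by decide) 3 (by decide) (by decide)
  have c23 := crossOK [0, 2, 3] (by decide) 2 (by decide) 3 (by decide) (by decide)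
  rw [map_mul, map_mul, torusHom_single chevD4 K (Helper36_ChevDataD4T.facts K) dc,
    torusHom_single chevD4 K (Helper36_ChevDataD4T.facts K) dc,
    torusHom_single chevD4 K (Helper36_ChevDataD4T.facts K) dc]
  have := hGL_three (K := K) certs (i := 0) (j := 2) (k := 3) c02 c03 c23
  rw [show ((n0 : Fin chevD4.rank) : ℕ) = 0 from rfl, show ((n2 : Fin chevD4.rank) : ℕ) = 2 from rfl,
    show ((n3 : Fin chevD4.rank) : ℕ) = 3 from rfl, this, nT_three certs c02 c03 c23, nT_three certs c02 c03 c23,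
    s0, s2, s3, m0, m2, m3]
  have h1 : ∀ a : K, xGL dc 18 a * (xGL dc 13 (f a) * xGL dc 12 (f (f a))) ∈ twistedD4 K q := fun a => by
    have := triple_mem f hf (d4p1, d4p3, d4p4) (by simp) a
    rwa [wordGL_cons, wordGL_cons, wordGL_cons, wordGL_nil, mul_one] at this
  have h2 : ∀ a : K, xGL dc 5 a * (xGL dc 10 (f a) * xGL dc 11 (f (f a))) ∈ twistedD4 K q := fun a => by
    have := triple_mem f hf (d4m1, d4m3, d4m4) (by simp) a
    rwa [wordGL_cons, wordGL_cons, wordGL_cons, wordGL_nil, mul_one] at this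
  have e1 : ((Units.map (f : K →* K) a : Kˣ) : K) = f a := rfl
  have e1' : ((Units.map (f : K →* K) (Units.map (f : K →* K) a) : Kˣ) : K) = f (f a) := rfl
  have e2 : (-(f (a : K))⁻¹) = f (-(a : K)⁻¹) := (frob_neg_inv f hf _).symm
  have e2' : (-(f (f (a : K)))⁻¹) = f (f (-(a : K)⁻¹)) := by
    rw [frob_neg_inv f hf, frob_neg_inv f hf]
  have e3 : (-1 : K) = f (-1) := by rw [map_neg, map_one]
  have e4 : (-(-1 : K)⁻¹) = f (-(-1 : K)⁻¹) := by
    rw [frob_neg_inv f hf, map_neg, map_one]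
  rw [e1, e1', e2, e2']
  refine Subgroup.mul_mem _ (Subgroup.mul_mem _ (Subgroup.mul_mem _ (h1 _) (h2 _)) (h1 _)) ?_
  have h5 : xGL dc 18 (-1 : K) * (xGL dc 13 (-1) * xGL dc 12 (-1)) ∈ twistedD4 K q := by
    have := h1 (-1)
    rwa [← e3, ← e3] at this
  have h6 : xGL dc 5 (-(-1 : K)⁻¹) * (xGL dc 10 (-(-1 : K)⁻¹) * xGL dc 11 (-(-1 : K)⁻¹)) ∈ twistedD4 K q := by
    have := h2 (-(-1 : K)⁻¹)
    rwa [← e4, ← e4] at this
  exact Subgroup.mul_mem _ (Subgroup.mul_mem _ h5 h6) h5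

include hf in
/-- The diagonal elements with fixed parameters lie in the twisted group. -/
theorem mem_of_fixed (u : Fin chevD4.rank → Kˣ) (hu : tau chevD4 K rho f u = u) :
    torusHom chevD4 K u ∈ twistedD4 K q := by
  obtain ⟨r0, r1, r2, r3⟩ := rho_vals
  have h1 : ((u n1 : Kˣ) : K) ^ q = u n1 := by
    have := congrFun hu n1
    rw [tau_apply, r1] at this
    rw [← hf]
    exact congrArg Units.val this
  have h2 : u n2 = Units.map (f : K →* K) (u n0) := by
    have := congrFun hu n2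
    rw [tau_apply, r2] at this
    exact this.symm
  have h3 : u n3 = Units.map (f : K →* K) (u n2) := by
    have := congrFun hu n3
    rw [tau_apply, r3] at this
    exact this.symm
  rw [decomp4 u, map_mul, h3, h2]
  exact Subgroup.mul_mem _ (single_part f hf _ h1) (triple_part f hf _)

include hK hf in
/-- The intersection of the diagonal subgroup with the twisted group, counted with the parameters. -/
theorem card_diag_aux :
    Nat.card {u : Fin chevD4.rank → Kˣ // tau chevD4 K rho f u = u ∧ u ∈ (torusHom chevD4 K).ker} *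
      Nat.card ↥(chevD4.diagonalSubgroup K ⊓ twistedD4 K q) =
      Nat.card {u : Fin chevD4.rank → Kˣ // tau chevD4 K rho f u = u} :=
  card_fixed_diag certs (twist f) (Helper36_ChevDataD4T.facts K) rho nodes (lift hK f hf) (twistedD4 K q)
    (fixed hK f hf) (mem_of_fixed f hf)

end

section
variable {K : Type*} [Field K] [Fintype K] {q : ℕ} (hK : Fintype.card K = q ^ 3)
  (f : K →+* K) (hf : ∀ x : K, f x = x ^ q)

include hK hf in
theorem tau_vec (a c : Kˣ) (hc : Units.map (f : K →* K) c = c) :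
    tau chevD4 K rho f (vec a c (Units.map (f : K →* K) a) (Units.map (f : K →* K) (Units.map (f : K →* K) a))) =
      vec a c (Units.map (f : K →* K) a) (Units.map (f : K →* K) (Units.map (f : K →* K) a)) := by
  have hfff : ∀ t : Kˣ, Units.map (f : K →* K) (Units.map (f : K →* K) (Units.map (f : K →* K) t)) = t := fun t =>
    Units.ext (f_f_f hK f hf t)
  obtain ⟨r0, r1, r2, r3⟩ := rho_vals
  funext k
  revert k
  apply forall4
  · rw [tau_apply, r0, vec_n3, vec_n0, hfff]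
  · rw [tau_apply, r1, vec_n1, hc]
  · rw [tau_apply, r2, vec_n0, vec_n2]
  · rw [tau_apply, r3, vec_n2, vec_n3]

include hK hf in
/-- The number of fixed parameters. -/
theorem card_T1 (hq : 1 ≤ q) :
    Nat.card {u : Fin chevD4.rank → Kˣ // tau chevD4 K rho f u = u} = (q - 1) * (q ^ 3 - 1) := by
  have hF := card_fixed_units hq hK f hf
  have hU : Nat.card Kˣ = q ^ 3 - 1 := by
    classical
    rw [Nat.card_eq_fintype_card, Fintype.card_units, hK]
  obtain ⟨r0, r1, r2, r3⟩ := rho_vals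
  let e : {u : Fin chevD4.rank → Kˣ // tau chevD4 K rho f u = u} ≃
      Kˣ × {t : Kˣ // Units.map (f : K →* K) t = t} :=
    { toFun := fun u => (u.1 n0, ⟨u.1 n1, by have := congrFun u.2 n1; rwa [tau_apply, r1] at this⟩)
      invFun := fun p => ⟨vec p.1 p.2.1 (Units.map (f : K →* K) p.1)
        (Units.map (f : K →* K) (Units.map (f : K →* K) p.1)), tau_vec hK f hf _ _ p.2.2⟩
      left_inv := fun u => by
        apply Subtype.ext
        show vec (u.1 n0) (u.1 n1) (Units.map (f : K →* K) (u.1 n0))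
          (Units.map (f : K →* K) (Units.map (f : K →* K) (u.1 n0))) = u.1
        have h2 : Units.map (f : K →* K) (u.1 n0) = u.1 n2 := by
          have := congrFun u.2 n2
          rwa [tau_apply, r2] at this
        have h3 : Units.map (f : K →* K) (u.1 n2) = u.1 n3 := by
          have := congrFun u.2 n3
          rwa [tau_apply, r3] at this
        rw [h2, h3]
        exact (vec_eta u.1).symm
      right_inv := fun p => rfl }
  rw [Nat.card_congr e, Nat.card_prod, hF, hU]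
  ring

include hK hf in
/-- The fixed parameters in the kernel are trivial. -/
theorem card_Z1 :
    Nat.card {u : Fin chevD4.rank → Kˣ // tau chevD4 K rho f u = u ∧ u ∈ (torusHom chevD4 K).ker} = 1 := by
  obtain ⟨r0, r1, r2, r3⟩ := rho_vals
  have hfu : ∀ t : Kˣ, Units.map (f : K →* K) t = t ^ q := fun t => by
    apply Units.ext
    rw [Units.val_pow_eq_pow_val, ← hf]
    rfl
  have hker := mem_ker_torusHom chevD4 K (Helper36_ChevDataD4T.facts K) Helper36_ChevDataD4HO.rootInd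
  have key : ∀ u : Fin chevD4.rank → Kˣ, tau chevD4 K rho f u = u → u ∈ (torusHom chevD4 K).ker → u = 1 := by
    intro u hu hk
    have he : ∀ k, u k ^ 2 = 1 := fun k => congrFun
      (ker_exponent (Helper36_ChevDataD4T.facts K) Helper36_ChevDataD4HO.rootInd matB 2 matB_spec u hk) k
    have hz := (hker u).mp hk
    rw [cartan_eq] at hz
    have k0 : u n0 ^ (2 : ℤ) * u n1 ^ (-1 : ℤ) * u n2 ^ (0 : ℤ) * u n3 ^ (0 : ℤ) = 1 :=
      (zact4' matC u n0).symm.trans (congrFun hz n0)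
    have k1 : u n0 ^ (-1 : ℤ) * u n1 ^ (2 : ℤ) * u n2 ^ (-1 : ℤ) * u n3 ^ (-1 : ℤ) = 1 :=
      (zact4' matC u n1).symm.trans (congrFun hz n1)
    have h2 : Units.map (f : K →* K) (u n0) = u n2 := by
      have := congrFun hu n2
      rwa [tau_apply, r2] at this
    have h3 : Units.map (f : K →* K) (u n2) = u n3 := by
      have := congrFun hu n3
      rwa [tau_apply, r3] at this
    have e0 : u n0 ^ (2 : ℤ) = 1 := by exact_mod_cast he n0
    have e1 : u n1 = 1 := by
      rw [e0, one_mul, zpow_zero, zpow_zero, mul_one, mul_one, zpow_neg, zpow_one, inv_eq_one] at k0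
      exact k0
    rw [e1, one_zpow, mul_one, ← mul_zpow, ← mul_zpow, zpow_neg, zpow_one, inv_eq_one, ← h3, ← h2, hfu, hfu,
      ← pow_mul] at k1
    have k1' : u n0 ^ (1 + q + q * q) = 1 := by
      rw [pow_add, pow_add, pow_one]
      exact k1
    have hodd : Nat.gcd (1 + q + q * q) 2 = 1 := by
      have h1 : Even (q * (q + 1)) := Nat.even_mul_succ_self q
      have h2 : Odd (1 + q + q * q) := by
        have : 1 + q + q * q = q * (q + 1) + 1 := by ring
        rw [this]
        exact h1.add_one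
      exact Nat.coprime_two_right.mpr h2
    have e00 : u n0 = 1 := by
      have := pow_gcd_eq_one.mpr ⟨k1', he n0⟩
      rwa [hodd, pow_one] at this
    rw [vec_eta u, e1, ← h3, ← h2, e00, map_one, map_one]
    funext k
    revert k
    apply forall4 <;> rfl
  rw [Nat.card_eq_one_iff_unique]
  exact ⟨⟨fun a b => Subtype.ext ((key a.1 a.2.1 a.2.2).trans (key b.1 b.2.1 b.2.2).symm)⟩,
    ⟨⟨1, map_one _, Subgroup.one_mem _⟩⟩⟩

include hK hf in
/-- `|H ∩ ³D₄(q)| = (q - 1)^2 (q^2 + q + 1)`. -/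
theorem card_diag' (hq : 1 ≤ q) :
    Nat.card ↥(chevD4.diagonalSubgroup K ⊓ twistedD4 K q) = (q - 1) ^ 2 * (q ^ 2 + q + 1) := by
  have h := card_diag_aux hK f hf
  rw [card_Z1 hK f hf, one_mul, card_T1 hK f hf hq] at h
  rw [h]
  have : q ^ 3 - 1 = (q - 1) * (q ^ 2 + q + 1) := by
    obtain ⟨m, rfl⟩ : ∃ m, q = m + 1 := ⟨q - 1, (Nat.sub_add_cancel hq).symm⟩
    simp only [Nat.add_sub_cancel]
    have : (m + 1) ^ 3 = m * ((m + 1) ^ 2 + (m + 1) + 1) + 1 := by ring
    rw [this, Nat.add_sub_cancel]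
  rw [this]
  ring

end

/-- `|H ∩ ³D₄(q)| = (q - 1)^2 (q^2 + q + 1)`. -/
theorem card_diag {K : Type*} [Field K] [Fintype K] {q : ℕ} (hq : IsPrimePow q) (hK : Fintype.card K = q ^ 3) :
    Nat.card ↥(chevD4.diagonalSubgroup K ⊓ twistedD4 K q) = (q - 1) ^ 2 * (q ^ 2 + q + 1) := by
  obtain ⟨f, hf⟩ := Cfsg.Agent.Lib.Helper36_TwistF.exists_frob hq hK
  exact card_diag' hK f hf hq.pos

end Cfsg.Agent.Lib.Helper36_TwistHD4
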