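import Cfsg.Agent.Lib.Helper36_TwistW
import Cfsg.Agent.Lib.Helper36_ChevDataD4AutA
import Cfsg.Agent.Lib.Helper18_ChevData5

set_option autoImplicit false
set_option Elab.async false

/-! Type D4: the tables of the twisted group (classes of positive roots under the symmetry, the chain of reflections
reaching every class from a fundamental one) and their checks. Generated file. -/

namespace Cfsg.Agent.Lib.Helper36_TwistTabD4

open Cfsg Cfsg.Lie Cfsg.Agent.Lib.Helper18_ChevTri Cfsg.Agent.Lib.Helper36_TwistU Cfsg.Agent.Lib.Helper36_TwistW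
  Cfsg.Agent.Lib.Helper36_ChevAut Cfsg.Agent.Lib.Helper36_ChevDataD4AutA

/-- The permutation of the roots. -/
def pi (r : ℕ) : ℕ := autData.pi.getD r 0

/-- The signs. -/
def eps (r : ℕ) : ℤ := autData.eps.getD r 0

/-- The weights of the height. -/
abbrev w : List ℤ := Cfsg.Agent.Lib.Helper18_ChevGCertD4.w

/-- The classes of positive roots: head and size, by increasing height. -/
def cls : List (ℕ × ℕ) := [(14, 1), (18, 3), (15, 3), (17, 3), (22, 1), (23, 1)]

/-- The fundamental classes. -/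
def baseCls : List (ℕ × ℕ) := [(14, 1), (18, 3)]

/-- The orbits of the fundamental roots and of their negatives. -/
def gens : List (ℕ × ℕ) := [(14, 1), (18, 3), (5, 3), (9, 1)]

/-- The orbits of the nodes. -/
def Js : List (List ℕ) := [[1], [0, 2, 3]]

/-- The chain: each class with the orbit of nodes whose reflections map it to an earlier class. -/
def steps : List (List ℕ × List ℕ) := [([15, 19, 16], [1]), ([17, 20, 21], [0, 2, 3]), ([22], [0, 2, 3]), ([23], [1])]

theorem posOK : ∀ r < chevD4.nroots, chevD4.IsPosRoot r →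
    chevD4.IsPosRoot (pi r) ∧ grL chevD4 w (pi r) = grL chevD4 w r := by decide +kernel

theorem injOK : (chevD4.posRoots.map pi).Nodup := by decide +kernel

theorem classesOK : ∀ p ∈ cls, (∀ r ∈ orbRoots pi p.2 p.1, chevD4.IsPosRoot r) ∧ (orbRoots pi p.2 p.1).Nodup ∧
    pi^[p.2] p.1 = p.1 ∧ 0 < p.2 ∧
    (∀ r ∈ orbRoots pi p.2 p.1, ∀ s ∈ orbRoots pi p.2 p.1, r ≠ s → chevD4.commTerms r s = []) ∧
    epsProd pi eps p.2 p.1 = 1 ∧ (p.2 = 1 ∨ p.2 = 3) := by decide +kernel

theorem gensOK : ∀ p ∈ gens, (∀ r ∈ orbRoots pi p.2 p.1, r < chevD4.nroots) ∧ (orbRoots pi p.2 p.1).Nodup ∧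
    pi^[p.2] p.1 = p.1 ∧ 0 < p.2 ∧
    (∀ r ∈ orbRoots pi p.2 p.1, ∀ s ∈ orbRoots pi p.2 p.1, r ≠ s →
      s ≠ chevD4.neg r ∧ chevD4.commTerms r s = []) ∧
    epsProd pi eps p.2 p.1 = 1 ∧ (p.2 = 1 ∨ p.2 = 3) := by decide +kernel

theorem nodupOK : (rootsOf pi cls).Nodup := by decide +kernel

theorem coverOK : ∀ r < chevD4.nroots, chevD4.IsPosRoot r → r ∈ rootsOf pi cls := by decide +kernel

theorem sortedOK : cls.Pairwise fun p q => grL chevD4 w p.1 ≤ grL chevD4 w q.1 := by decide +kernel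

theorem sizeOK : (cls.map fun p => p.2).sum = 12 := by decide +kernel

theorem chainOK : chainValid chevD4 (baseCls.map fun p => orbRoots pi p.2 p.1) steps = true := by decide +kernel

theorem stepsOK : ∀ st ∈ steps, st.2 ∈ Js := by decide +kernel

theorem reachOK : ∀ p ∈ cls, orbRoots pi p.2 p.1 ∈ chainOut (baseCls.map fun p => orbRoots pi p.2 p.1) steps := by
  decide +kernel

theorem baseOK : ∀ p ∈ baseCls, p ∈ cls ∧ p ∈ gens := by decide +kernel

theorem JsOK : ∀ J ∈ Js, ∀ i ∈ J, i < chevD4.rank := by decide +kernel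

theorem crossOK : ∀ J ∈ Js, ∀ i ∈ J, ∀ j ∈ J, i ≠ j →
    ∀ r ∈ [chevD4.simple i, chevD4.neg (chevD4.simple i)],
    ∀ s ∈ [chevD4.simple j, chevD4.neg (chevD4.simple j)],
      r < chevD4.nroots ∧ s < chevD4.nroots ∧ r ≠ s ∧ s ≠ chevD4.neg r ∧ chevD4.commTerms r s = [] := by
  decide +kernel

end Cfsg.Agent.Lib.Helper36_TwistTabD4
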