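import Cfsg.Agent.Lib.Helper36_TwistWeyl
import Cfsg.Agent.Lib.Helper36_TwistTabD4
import Cfsg.Agent.Lib.Helper36_ChevDataD4Lit

set_option autoImplicit false
set_option Elab.async false
set_option maxRecDepth 100000

/-! Type D4: the elements of the Weyl group commuting with the symmetry; tables and checks. Generated file. -/

namespace Cfsg.Agent.Lib.Helper36_TwistWeylD4

open Cfsg.Agent.Lib.Helper36_WeylChain Cfsg.Agent.Lib.Helper36_WeylLit Cfsg.Agent.Lib.Helper36_WeylLit.RootLit
  Cfsg.Agent.Lib.Helper36_WeylPoin Cfsg.Agent.Lib.Helper36_PolyList Cfsg.Agent.Lib.Helper36_TwistWeyl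
  Cfsg.Agent.Lib.Helper36_ChevDataD4Lit Cfsg.Agent.Lib.Helper36_TwistTabD4

/-- The symmetry on the nodes. -/
def rho (i : ℕ) : ℕ := ([2, 1, 3, 0] : List ℕ).getD i 0

/-- The inverse of the symmetry on the roots. -/
def pinv (s : ℕ) : ℕ := pi (pi s)

/-- The twisted reflections: the products of the fundamental reflections over the orbits of the nodes. -/
def refl' : List ℕ := [541649279090809664310305499994679834166397163664360734721, 565304928284384309385694042081618298355605787515640350976]

/-- The tables with the twisted reflections. -/
abbrev lit' : RootLit := twistLit lit refl' 2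

theorem wf' : lit'.WF := by decide +kernel

theorem permOK : ∀ s < lit.n, pi s < lit.n ∧ pinv s < lit.n ∧ pinv (pi s) = s ∧ pi (pinv s) = s := by decide +kernel

/-- The symmetry as a permutation of the root indices. -/
def piPerm : Equiv.Perm (Fin lit.n) := mkPerm lit pi pinv permOK

theorem piOK : PiOK lit piPerm pi rho where
  val := fun _ => rfl
  rho_lt := by decide +kernel
  conj := by decide +kernel
  pos := by decide +kernel

theorem piOK' : PiOK lit' piPerm pi id where
  val := fun _ => rfl
  rho_lt := fun _ h => h
  conj := by decide +kernel
  pos := by decide +kernel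

theorem JsOK' : ∀ a < 2, (∀ j ∈ Js.getD a [], j < lit.rank) ∧
    ∀ s < lit.n, lit'.r a s = evalWord lit (Js.getD a []) s := by decide +kernel

/-- Step 0 of the chain of stable parabolic subgroups. -/
def fstep0 : Step :=
  { J := [0, 1, 2, 3]
    J' := [0, 2, 3]
    V := [
    ⟨0, 0, [], 566073426779046459040877649791461066728553822781039575296⟩,
    ⟨0, 1, [1], 541649279090809664310305499994679834166397163664360734721⟩,
    ⟨1, 0, [0, 1], 419047757717606637246089078280482453795135669039884861446⟩,
    ⟨1, 2, [2, 1], 492608676417310608327317783208883148131756961284399300611⟩,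
    ⟨1, 3, [3, 1], 517129723119895175588394288273648390236729482356549812226⟩,
    ⟨2, 2, [2, 0, 1], 370007155044107581263101361494685767760495466659923427336⟩,
    ⟨2, 3, [3, 0, 1], 394528201746692148524177866559451009865467987732073938951⟩,
    ⟨3, 3, [3, 2, 1], 468089120446396119605406571487851704202089279976588378116⟩,
    ⟨5, 1, [1, 2, 0, 1], 296349717383369120429239138413080044699994458332364407051⟩,
    ⟨5, 3, [3, 2, 0, 1], 345487599073193092541190149773654323830827785352112504841⟩,
    ⟨6, 1, [1, 3, 0, 1], 320872627500541286625255227133907720161705595412062535946⟩,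
    ⟨7, 1, [1, 3, 2, 1], 443473410826968634747783487876239954772627561339727053061⟩,
    ⟨8, 3, [3, 1, 2, 0, 1], 271733632146580908375081652444414495428663547557737071116⟩,
    ⟨9, 1, [1, 3, 2, 0, 1], 222791048009146404784775307539918212002906241959839072526⟩,
    ⟨10, 2, [2, 1, 3, 0, 1], 247120528373110640783206702762171674681143947907870229261⟩,
    ⟨11, 0, [0, 1, 3, 2, 1], 124233555412193800607127638557672632912774399827089294866⟩,
    ⟨12, 1, [1, 3, 1, 2, 0, 1], 198174964233837616431271768996981250946253281443386753551⟩,
    ⟨13, 0, [0, 1, 3, 2, 0, 1], 99712499912010029260207223385323739822922448139725768211⟩,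
    ⟨13, 2, [2, 1, 3, 2, 0, 1], 173559624362862230863166232644197201798670540374316614416⟩,
    ⟨16, 0, [0, 1, 3, 1, 2, 0, 1], 75096416136701240906703684842386778766269487623273449236⟩,
    ⟨16, 2, [2, 1, 3, 1, 2, 0, 1], 148943540587553442509662694101260240742017579857864295441⟩,
    ⟨17, 2, [2, 0, 1, 3, 2, 0, 1], 50481076265725855338598148489602729618686746554203310101⟩,
    ⟨19, 2, [2, 0, 1, 3, 1, 2, 0, 1], 25864992490417066985094609946665768562033786037750991126⟩,
    ⟨22, 1, [1, 2, 0, 1, 3, 1, 2, 0, 1], 865032162257484999494807854759456822253723161507859991⟩]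
    cert := [
    [(0, some 0), (1, none), (0, some 2), (0, some 3)],
    [(2, none), (0, none), (3, none), (4, none)],
    [(1, none), (2, some 0), (5, none), (6, none)],
    [(5, none), (3, some 2), (1, none), (7, none)],
    [(6, none), (4, some 3), (7, none), (1, none)],
    [(3, none), (8, none), (2, none), (9, none)],
    [(4, none), (10, none), (9, none), (2, none)],
    [(9, none), (11, none), (4, none), (3, none)],
    [(8, some 2), (5, none), (8, some 0), (12, none)],
    [(7, none), (13, none), (6, none), (5, none)],
    [(10, some 3), (6, none), (14, none), (10, some 0)],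
    [(15, none), (7, none), (11, some 3), (11, some 2)],
    [(12, some 2), (16, none), (12, some 0), (8, none)],
    [(17, none), (9, none), (18, none), (16, none)],
    [(14, some 3), (18, none), (10, none), (14, some 0)],
    [(11, none), (17, none), (15, some 3), (15, some 2)],
    [(19, none), (12, none), (20, none), (13, none)],
    [(13, none), (15, none), (21, none), (19, none)],
    [(21, none), (14, none), (13, none), (20, none)],
    [(16, none), (19, some 2), (22, none), (17, none)],
    [(22, none), (20, some 0), (16, none), (18, none)],
    [(18, none), (21, some 3), (17, none), (22, none)],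
    [(20, none), (23, none), (19, none), (21, none)],
    [(23, some 0), (22, none), (23, some 2), (23, some 3)]]
    T := [14, 15, 16, 17, 19, 20, 21, 22, 23]
    R := [12, 13, 18]
    lens := [0, 1, 2, 2, 2, 3, 3, 3, 4, 4, 4, 4, 5, 5, 5, 5, 6, 6, 6, 7, 7, 7, 8, 9] }

theorem fstepOK0 : lit.StepOK fstep0 where
  hJ := by decide +kernel
  hJ' := by decide +kernel
  hne := by decide +kernel
  entries := by decide +kernel
  certs := by decide +kernel
  hT := by decide +kernel
  hTnd := by decide +kernel
  hTstab := by decide +kernel
  hTnodup := by decide +kernel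
  hR := by decide +kernel
  hRstab := by decide +kernel
  hRpos := by decide +kernel
  hlens := by decide +kernel

/-- The conjugates of the coset representatives. -/
def cj0 : List ℕ := [0, 1, 3, 4, 2, 7, 5, 6, 11, 9, 8, 10, 15, 13, 12, 14, 17, 18, 16, 21, 19, 20, 22, 23]

/-- The fixed coset representatives as words in the twisted reflections. -/
def ww0 : List (List ℕ) := [[], [0], [], [], [], [], [], [], [], [1, 0], [], [], [], [0, 1, 0], [], [], [], [], [], [], [], [], [1, 0, 1, 0], [0, 1, 0, 1, 0]]

theorem fixStepOK0 : FixStepOK lit lit' pi rho fstep0 cj0 ww0 where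
  stab := by decide +kernel
  conj := by decide +kernel
  word := by decide +kernel

/-- Step 1 of the chain of stable parabolic subgroups. -/
def fstep1 : Step :=
  { J := [0, 2, 3]
    J' := []
    V := [
    ⟨0, 0, [], 566073426779046459040877649791461066728553822781039575296⟩,
    ⟨0, 0, [0], 565592643864087472290204273757603651193062799363369534976⟩,
    ⟨0, 2, [2], 565881119482020990812274433957960368099339668429056770816⟩,
    ⟨0, 3, [3], 565978018496368764364970633948976412520310965285293195776⟩,
    ⟨1, 2, [2, 0], 565400336567062004061601057924102952563848645011386730496⟩,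
    ⟨1, 3, [3, 0], 565497235581409777614297257915118996984819941867623155456⟩,
    ⟨2, 3, [3, 2], 565785711199343296136367418115475713891096810933310391296⟩,
    ⟨4, 3, [3, 2, 0], 565304928284384309385694042081618298355605787515640350976⟩]
    cert := [
    [(1, none), (2, none), (3, none)],
    [(0, none), (4, none), (5, none)],
    [(4, none), (0, none), (6, none)],
    [(5, none), (6, none), (0, none)],
    [(2, none), (1, none), (7, none)],
    [(3, none), (7, none), (1, none)],
    [(7, none), (3, none), (2, none)],
    [(6, none), (5, none), (4, none)]]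
    T := [12, 13, 18]
    R := []
    lens := [0, 1, 1, 1, 2, 2, 2, 3] }

theorem fstepOK1 : lit.StepOK fstep1 where
  hJ := by decide +kernel
  hJ' := by decide +kernel
  hne := by decide +kernel
  entries := by decide +kernel
  certs := by decide +kernel
  hT := by decide +kernel
  hTnd := by decide +kernel
  hTstab := by decide +kernel
  hTnodup := by decide +kernel
  hR := by decide +kernel
  hRstab := by decide +kernel
  hRpos := by decide +kernel
  hlens := by decide +kernel

/-- The conjugates of the coset representatives. -/
def cj1 : List ℕ := [0, 2, 3, 1, 6, 4, 5, 7]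

/-- The fixed coset representatives as words in the twisted reflections. -/
def ww1 : List (List ℕ) := [[], [], [], [], [], [], [], [1]]

theorem fixStepOK1 : FixStepOK lit lit' pi rho fstep1 cj1 ww1 where
  stab := by decide +kernel
  conj := by decide +kernel
  word := by decide +kernel

theorem fixChainOK : FixChainOK lit lit' pi rho [(fstep0, cj0, ww0), (fstep1, cj1, ww1)] [0, 1, 2, 3] :=
  ⟨rfl, fstepOK0, fixStepOK0, ⟨rfl, fstepOK1, fixStepOK1, rfl⟩⟩

/-- Step 0 of the chain for the twisted reflections. -/
def tstep0 : Step :=
  { J := [0, 1]
    J' := [1]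
    V := [
    ⟨0, 0, [], 566073426779046459040877649791461066728553822781039575296⟩,
    ⟨0, 0, [0], 541649279090809664310305499994679834166397163664360734721⟩,
    ⟨1, 1, [1, 0], 345487599073193092541190149773654323830827785352112504841⟩,
    ⟨2, 0, [0, 1, 0], 222791048009146404784775307539918212002906241959839072526⟩,
    ⟨3, 1, [1, 0, 1, 0], 25864992490417066985094609946665768562033786037750991126⟩,
    ⟨4, 0, [0, 1, 0, 1, 0], 865032162257484999494807854759456822253723161507859991⟩]
    cert := [
    [(1, none), (0, some 1)],
    [(0, none), (2, none)],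
    [(3, none), (1, none)],
    [(2, none), (4, none)],
    [(5, none), (3, none)],
    [(4, none), (5, some 1)]]
    T := [14, 15, 16, 17, 19, 20, 21, 22, 23]
    R := [12, 13, 18]
    lens := [0, 1, 4, 5, 8, 9] }

theorem tstepOK0 : lit'.StepOK tstep0 where
  hJ := by decide +kernel
  hJ' := by decide +kernel
  hne := by decide +kernel
  entries := by decide +kernel
  certs := by decide +kernel
  hT := by decide +kernel
  hTnd := by decide +kernel
  hTstab := by decide +kernel
  hTnodup := by decide +kernel
  hR := by decide +kernel
  hRstab := by decide +kernel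
  hRpos := by decide +kernel
  hlens := by decide +kernel

/-- Step 1 of the chain for the twisted reflections. -/
def tstep1 : Step :=
  { J := [1]
    J' := []
    V := [
    ⟨0, 0, [], 566073426779046459040877649791461066728553822781039575296⟩,
    ⟨0, 1, [1], 565304928284384309385694042081618298355605787515640350976⟩]
    cert := [
    [(1, none)],
    [(0, none)]]
    T := [12, 13, 18]
    R := []
    lens := [0, 3] }

theorem tstepOK1 : lit'.StepOK tstep1 where
  hJ := by decide +kernel
  hJ' := by decide +kernel
  hne := by decide +kernel
  entries := by decide +kernel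
  certs := by decide +kernel
  hT := by decide +kernel
  hTnd := by decide +kernel
  hTstab := by decide +kernel
  hTnodup := by decide +kernel
  hR := by decide +kernel
  hRstab := by decide +kernel
  hRpos := by decide +kernel
  hlens := by decide +kernel

/-- The steps of the chain for the twisted reflections. -/
def tsteps : List Step := [tstep0, tstep1]

theorem tchainOK : ChainOK lit' tsteps [0, 1] :=
  ⟨rfl, tstepOK0, ⟨rfl, tstepOK1, rfl⟩⟩

theorem polyOK : peq (pprod (([[-1, 1], [-1, 1], [1, 1, 1]] : List (List ℤ)) ++ tsteps.map (fun st => hist st.lens)))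
    (pprod ([[-1, 0, 1], [-1, 0, 0, 0, 0, 0, 1], [1, 0, 0, 0, 1, 0, 0, 0, 1]] : List (List ℤ))) = true := by decide +kernel

end Cfsg.Agent.Lib.Helper36_TwistWeylD4
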