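import Cfsg.Agent.Lib.Helper36_TwistOrder
import Cfsg.Agent.Lib.Helper36_TwistD4
import Cfsg.Agent.Lib.Helper36_TwistHD4
import Cfsg.Agent.Lib.Helper36_TwistWeylD4
import Cfsg.Agent.Lib.Helper36_ChevOrderAll
import Cfsg.Agent.Lib.Helper36_ChevDataD4LitOK

set_option autoImplicit false

/-!
The order of the twisted group of type `²E₆`.
-/

namespace Cfsg.Agent.Lib.Helper36_TwistOrderD4

open Cfsg Cfsg.Lie Cfsg.Agent.Lib.Helper36_ChevTorus Cfsg.Agent.Lib.Helper36_ChevTorusAll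
  Cfsg.Agent.Lib.Helper36_ChevW0 Cfsg.Agent.Lib.Helper36_ChevW0All Cfsg.Agent.Lib.Helper36_ChevTables
  Cfsg.Agent.Lib.Helper36_ChevOrder Cfsg.Agent.Lib.Helper36_ChevOrderAll Cfsg.Agent.Lib.Helper36_WeylChain
  Cfsg.Agent.Lib.Helper36_WeylLit Cfsg.Agent.Lib.Helper36_WeylLit.RootLit
  Cfsg.Agent.Lib.Helper36_TwistU Cfsg.Agent.Lib.Helper36_TwistW Cfsg.Agent.Lib.Helper36_TwistWeyl
  Cfsg.Agent.Lib.Helper36_TwistOrder Cfsg.Agent.Lib.Helper36_TwistTabD4 Cfsg.Agent.Lib.Helper36_TwistD4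
  Cfsg.Agent.Lib.Helper36_TwistWeylD4 Cfsg.Agent.Lib.Helper36_ChevDataD4Lit Cfsg.Agent.Lib.Helper36_ChevDataD4LitOK
  Cfsg.Agent.Lib.Helper36_PolyList

theorem hD : chevD4 ∈ [chevG2, chevB2, chevD4, chevF4, chevE6, chevE7, chevE8] := by simp

theorem epsOK : ∀ r < chevD4.nroots, eps r = 1 ∨ eps r = -1 := by decide +kernel

theorem JsMem : ∀ a < 2, Js.getD a [] ∈ Js := by decide

section

variable {K : Type*} [Field K] [Fintype K] {q : ℕ} (hq : IsPrimePow q) (hK : Fintype.card K = q ^ 3)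
  (f : K →+* K) (hf : ∀ x : K, f x = x ^ q)

include hK hf in
/-- The hypotheses of the count. -/
theorem twData : TwData (facts_of_mem chevD4 hD K) lit wf (certs (K := K)) (σ := sig f) (pi := pi) (eps := eps)
    (f := f) piPerm Cfsg.Agent.Lib.Helper36_TwistWeylD4.rho (lit'.W wf' (List.range 2)) (twistedD4 K q) where
  T := twist f
  piok := piOK
  eps1 := epsOK
  fsurj := frob_surjective f
  sH := sigma_diag (facts_of_mem chevD4 hD K) certs (twist f) Cfsg.Agent.Lib.Helper36_TwistHD4.rho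
    Cfsg.Agent.Lib.Helper36_TwistHD4.nodes
  sN := sigma_mono (facts_of_mem chevD4 hD K) certs (twist f) Cfsg.Agent.Lib.Helper36_TwistHD4.rho
    Cfsg.Agent.Lib.Helper36_TwistHD4.nodes (nGen_of_mem chevD4 hD)
  G1fix := fixed hK f hf
  G1le := genSubgroup_le certs _
  Ufix := Ufix_of certs (twist f) clsOK (twistedD4 K q) (class_mem hK f hf)
  Hfix := Hfix_of (facts_of_mem chevD4 hD K) certs (twist f) Cfsg.Agent.Lib.Helper36_TwistHD4.rho
    Cfsg.Agent.Lib.Helper36_TwistHD4.nodes (twistedD4 K q) (Cfsg.Agent.Lib.Helper36_TwistHD4.lift hK f hf)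
    (Cfsg.Agent.Lib.Helper36_TwistHD4.mem_of_fixed f hf)
  W1le := W1_le wf refl' 2 wf' Js JsOK'
  W1comm := W1_comm refl' 2 wf' piOK'
  W1fix := fun x hx hfix => fixed_mem piOK wf refl' 2 wf' _ _ fixChainOK x hx hfix
  W1rep := W1rep_of (facts_of_mem chevD4 hD K) lit wf certs (allConj_of_mem chevD4 hD K) litOK refl' 2 wf' Js JsOK'
    (twistedD4 K q) (fun a ha => nJ_mem f hf _ (JsMem a ha))

end

/-- The sum of `q ^ l(x)` over the twisted Weyl group. -/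
theorem pSum_eq (q : ℕ) :
    ((q : ℤ) - 1) ^ 2 * ((q : ℤ) ^ 2 + (q : ℤ) + 1) * ((pSum (inv lit.Pos) q (lit'.W wf' (List.range 2)) : ℕ) : ℤ) =
      ((q : ℤ) ^ 2 - 1) * ((q : ℤ) ^ 6 - 1) * ((q : ℤ) ^ 8 + (q : ℤ) ^ 4 + 1) := by
  have h := pSum_poly lit' wf' tsteps [0, 1] tchainOK _ _ polyOK q
  have e : pSum (inv lit.Pos) q (lit'.W wf' (List.range 2)) = pSum (inv lit'.Pos) q (lit'.W wf' [0, 1]) := rfl
  rw [e]
  simp only [List.map_cons, List.map_nil, List.prod_cons, List.prod_nil, peval_cons, peval_nil] at h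
  linear_combination h

/-- `|³D₄(q)| = q ^ 12 (q ^ 2 - 1) (q ^ 6 - 1) (q ^ 8 + q ^ 4 + 1)`. -/
theorem card_twistedD4 {K : Type*} [Field K] [Fintype K] {q : ℕ} (hq : IsPrimePow q) (hK : Fintype.card K = q ^ 3) :
    Nat.card ↥(twistedD4 K q) = q ^ 12 * (q ^ 2 - 1) * (q ^ 6 - 1) * (q ^ 8 + q ^ 4 + 1) := by
  obtain ⟨f, hf⟩ := Cfsg.Agent.Lib.Helper36_TwistF.exists_frob hq hK
  have hq1 : 1 ≤ q := hq.pos
  have h1036 := Cfsg.Agent.S1036.result (F := K) chevD4 hD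
  have h1100 := Cfsg.Agent.S1100.result (F := K) chevD4 hD
  have hcard := card_twisted (facts_of_mem chevD4 hD K) (twData hK f hf) litOK (chainOK_of_mem chevD4 hD)
    (allConj_of_mem chevD4 hD K) (nGen_of_mem chevD4 hD) (xInj_of_mem chevD4 hD)
    (fun r hr a h => (Cfsg.Agent.S1024.result chevD4 hD r hr a).mp h)
    (Cfsg.Agent.S1037.result chevD4 hD).1 (normalizer_pos chevD4 hD noZero) (Cfsg.Agent.S1040.result chevD4 hD).2
    h1100.1 h1100.2 h1036.1 h1036.2 clsOK hq1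
    (fun p hp => by
      obtain ⟨-, -, -, -, -, h6, h7⟩ := classesOK p hp
      exact card_closes hq (by norm_num) hK hf p h6 h7)
  rw [hcard, card_U hq hK, Cfsg.Agent.Lib.Helper36_TwistHD4.card_diag hq hK]
  have hP := pSum_eq q
  have hpow : ∀ k : ℕ, 1 ≤ q ^ k := fun k => Nat.one_le_pow _ _ hq1
  apply Nat.cast_injective (R := ℤ)
  simp only [Nat.cast_mul, Nat.cast_pow, Nat.cast_add, Nat.cast_one, Nat.cast_sub (hpow _), Nat.cast_sub hq1]
  linear_combination (q : ℤ) ^ 12 * hP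

end Cfsg.Agent.Lib.Helper36_TwistOrderD4
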