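import Cfsg.Agent.Lib.Helper36_TwistBN
import Cfsg.Agent.Lib.Helper36_TwistOrderD4
import Cfsg.Agent.S1042

set_option autoImplicit false

/-!
The `(B, N)`-pair of the twisted group of type `²E₆`.
-/

namespace Cfsg.Agent.Lib.Helper36_TwistBND4

open Cfsg Cfsg.Lie Cfsg.Agent.Lib.Helper36_ChevTorus Cfsg.Agent.Lib.Helper36_ChevTorusAll
  Cfsg.Agent.Lib.Helper36_ChevW0 Cfsg.Agent.Lib.Helper36_ChevW0All Cfsg.Agent.Lib.Helper36_ChevTables
  Cfsg.Agent.Lib.Helper36_ChevOrder Cfsg.Agent.Lib.Helper36_ChevOrderAll Cfsg.Agent.Lib.Helper36_WeylChain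
  Cfsg.Agent.Lib.Helper36_WeylLit Cfsg.Agent.Lib.Helper36_WeylLit.RootLit
  Cfsg.Agent.Lib.Helper36_TwistU Cfsg.Agent.Lib.Helper36_TwistW Cfsg.Agent.Lib.Helper36_TwistWeyl
  Cfsg.Agent.Lib.Helper36_TwistOrder Cfsg.Agent.Lib.Helper36_TwistTabD4 Cfsg.Agent.Lib.Helper36_TwistD4
  Cfsg.Agent.Lib.Helper36_TwistWeylD4 Cfsg.Agent.Lib.Helper36_ChevDataD4Lit Cfsg.Agent.Lib.Helper36_ChevDataD4LitOK
  Cfsg.Agent.Lib.Helper36_TwistOrderD4 Cfsg.Agent.Lib.Helper36_TwistBN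

theorem distOK : ∀ a < 2, ∀ b < 2, (∀ s < lit.n, lit'.r a s = lit'.r b s) → a = b := by decide +kernel

theorem negOK : ∀ a < 2, ∃ s < lit.n, lit.ps s = true ∧ lit.ps (lit'.r a s) = false := by decide +kernel

theorem subOK : ∀ a < 2, ∀ I ∈ (Js.getD a []).sublists,
    (∀ s < lit.n, pi (evalWord lit I s) = evalWord lit I (pi s)) →
    (∀ s < lit.n, evalWord lit I s = s) ∨ (∀ s < lit.n, evalWord lit I s = evalWord lit (Js.getD a []) s) := by
  decide +kernel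

section

variable {K : Type*} [Field K] [Fintype K] {q : ℕ} (hq : IsPrimePow q) (hK : Fintype.card K = q ^ 3)
  (f : K →+* K) (hf : ∀ x : K, f x = x ^ q)

include hK hf in
theorem genData : GenData (facts_of_mem chevD4 hD K) (L := lit) (π := piPerm)
    (W1 := lit'.W wf' (List.range 2)) (G1 := twistedD4 K q) 2
    (fun a => nJ dc K (Js.getD a [])) (fun a => lit'.sPerm wf' a) :=
  genData_of (facts_of_mem chevD4 hD K) (twData hK f hf) litOK (allConj_of_mem chevD4 hD K) Js JsOK'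
    (fun a ha => nJ_mem f hf _ (JsMem a ha)) distOK negOK subOK

include hq hK in
/-- The `(B, N)`-pair of `²E₆(q)`. -/
theorem exists_bnPair : ∃ Q : Cfsg.BNPair ↥(twistedD4 K q),
    Q.B = (chevD4.borelSubgroup K ⊓ twistedD4 K q).subgroupOf (twistedD4 K q) ∧
    Q.N = (chevD4.monomialSubgroup K ⊓ twistedD4 K q).subgroupOf (twistedD4 K q) ∧
    Q.S = S1 (twistedD4 K q) 2 (fun a => nJ dc K (Js.getD a [])) := by
  obtain ⟨f, hf⟩ := Cfsg.Agent.Lib.Helper36_TwistF.exists_frob hq hK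
  obtain ⟨P, hPB, hPN, -⟩ := Cfsg.Agent.S1042.result (F := K) chevD4 hD
  have h1036 := Cfsg.Agent.S1036.result (F := K) chevD4 hD
  have h1100 := Cfsg.Agent.S1100.result (F := K) chevD4 hD
  exact Cfsg.Agent.Lib.Helper36_TwistBN.exists_bnPair (facts_of_mem chevD4 hD K) (twData hK f hf) litOK
    (chainOK_of_mem chevD4 hD)
    (allConj_of_mem chevD4 hD K) (nGen_of_mem chevD4 hD) (xInj_of_mem chevD4 hD)
    (fun r hr a h => (Cfsg.Agent.S1024.result chevD4 hD r hr a).mp h)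
    (Cfsg.Agent.S1037.result chevD4 hD).1 (normalizer_pos chevD4 hD noZero) (Cfsg.Agent.S1040.result chevD4 hD).2
    h1100.1 h1100.2 h1036.1 h1036.2 (genData hK f hf) P hPB hPN clsOK hq.two_le
    (fun p hp => by
      obtain ⟨-, -, -, -, -, h6, h7⟩ := classesOK p hp
      exact card_closes hq (by norm_num) hK hf p h6 h7)

end

end Cfsg.Agent.Lib.Helper36_TwistBND4
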