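import Cfsg.Agent.Lib.Helper36_E6OutCore
import Cfsg.Agent.Lib.Helper18_ChevFrob

set_option autoImplicit false
set_option maxRecDepth 100000

/-!
The automorphisms of the twisted group of type `²E₆` induced by the automorphisms of the field.
-/

namespace Cfsg.Agent.Lib.Helper36_E6OutFA

open Cfsg Cfsg.Lie Cfsg.Agent.Lib.Helper18_ChevFast Cfsg.Agent.Lib.Helper18_ChevEngine
  Cfsg.Agent.Lib.Helper18_ChevN Cfsg.Agent.Lib.Helper18_ChevWeyl
  Cfsg.Agent.Lib.Helper18_ChevGL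
  Cfsg.Agent.Lib.Helper36_ChevTorus Cfsg.Agent.Lib.Helper36_ChevBorel
  Cfsg.Agent.Lib.Helper36_ChevW0 Cfsg.Agent.Lib.Helper36_ChevW0All
  Cfsg.Agent.Lib.Helper36_ChevTables
  Cfsg.Agent.Lib.Helper36_ChevOrder Cfsg.Agent.Lib.Helper36_ChevOrderAll Cfsg.Agent.Lib.Helper36_WeylChain
  Cfsg.Agent.Lib.Helper36_WeylLit Cfsg.Agent.Lib.Helper36_WeylLit.RootLit
  Cfsg.Agent.Lib.Helper36_ChevDataE6Lit Cfsg.Agent.Lib.Helper36_ChevDataE6LitOK
  Cfsg.Agent.Lib.Helper36_TwistU Cfsg.Agent.Lib.Helper36_TwistW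
  Cfsg.Agent.Lib.Helper36_TwistWeyl Cfsg.Agent.Lib.Helper36_TwistWeylE6
  Cfsg.Agent.Lib.Helper36_TwistOrder Cfsg.Agent.Lib.Helper36_TwistTabE6 Cfsg.Agent.Lib.Helper36_TwistE6
  Cfsg.Agent.Lib.Helper36_TwistOrderE6 Cfsg.Agent.Lib.Helper36_TwistBNE6 Cfsg.Agent.Lib.Helper36_TwistCoreE6
  Cfsg.Agent.Lib.Helper36_TwistBN Cfsg.Agent.Lib.Helper36_TwistAbs Cfsg.Agent.Lib.Helper36_TwistAbsOrder
  Cfsg.Agent.Lib.Helper36_TwistCellCore Cfsg.Agent.Lib.Helper36_CellAut2 Cfsg.Agent.Lib.Helper36_CellAut3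
  Cfsg.Agent.Lib.Helper36_E6OutCells Cfsg.Agent.Lib.Helper36_E6OutWeyl Cfsg.Agent.Lib.Helper36_E6OutCore
  Cfsg.Agent.Lib.Helper18_ChevFrob

section fieldAut

variable {K : Type*} [Field K] [Fintype K] {q : ℕ} (hq : IsPrimePow q) (hK : Fintype.card K = q ^ 2)
  (f : K →+* K) (hf : ∀ x : K, f x = x ^ q)

omit [Fintype K] in
theorem mapGL_mem (τ : K →+* K) (g : GL chevE6.Idx K) (hg : g ∈ twistedE6 K q) :
    mapGL chevE6 τ g ∈ twistedE6 K q := by
  have hg' := hg
  unfold twistedE6 ChevalleyDatum.genSubgroup at hg'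
  apply mapGL_mem_of_closure τ _ _ _ g hg'
  rintro s ⟨w, hwS, hs⟩
  have e : s = wordGL dc w := Units.ext (hs.trans (wordGL_coe dc w).symm)
  rw [e, mapGL_wordGL]
  apply Subgroup.subset_closure
  refine ⟨_, ?_, wordGL_coe dc _⟩
  rcases hwS with ⟨t, ht, r, hr, rfl⟩ | ⟨t, rs, hrs, rfl⟩
  · exact Or.inl ⟨τ t, by rw [← map_pow, ht], r, hr, by simp⟩
  · exact Or.inr ⟨τ t, rs, hrs, by simp [map_pow]⟩

omit [Fintype K] in
theorem mapGL_symm (τ : K ≃+* K) (g : GL chevE6.Idx K) :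
    mapGL chevE6 (τ.symm : K →+* K) (mapGL chevE6 (τ : K →+* K) g) = g := by
  apply Units.ext
  ext i j
  rw [mapGL_coe, mapGL_coe]
  simp

omit [Fintype K] in
theorem mapGL_symm' (τ : K ≃+* K) (g : GL chevE6.Idx K) :
    mapGL chevE6 (τ : K →+* K) (mapGL chevE6 (τ.symm : K →+* K) g) = g := by
  apply Units.ext
  ext i j
  rw [mapGL_coe, mapGL_coe]
  simp

/-- The automorphism of the twisted group induced by an automorphism of the field. -/
noncomputable def faEquiv (K : Type*) [Field K] (q : ℕ) (τ : K ≃+* K) : MulAut ↥(twistedE6 K q) where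
  toFun x := ⟨mapGL chevE6 (τ : K →+* K) x, mapGL_mem _ x.1 x.2⟩
  invFun x := ⟨mapGL chevE6 (τ.symm : K →+* K) x, mapGL_mem _ x.1 x.2⟩
  left_inv x := Subtype.ext (mapGL_symm τ x.1)
  right_inv x := Subtype.ext (mapGL_symm' τ x.1)
  map_mul' x y := Subtype.ext (map_mul (mapGL chevE6 (τ : K →+* K)) x.1 y.1)

omit [Fintype K] in
theorem faEquiv_coe (τ : K ≃+* K) (x : ↥(twistedE6 K q)) :
    ((faEquiv K q τ x : ↥(twistedE6 K q)) : GL chevE6.Idx K) = mapGL chevE6 (τ : K →+* K) x := rfl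

/-- The homomorphism from the automorphisms of the field to the automorphisms of the twisted group. -/
noncomputable def fa (K : Type*) [Field K] (q : ℕ) : (K ≃+* K) →* MulAut ↥(twistedE6 K q) where
  toFun := faEquiv K q
  map_one' := by
    apply MulEquiv.ext
    intro x
    apply Subtype.ext
    rw [faEquiv_coe]
    apply Units.ext
    ext i j
    rw [mapGL_coe]
    rfl
  map_mul' τ τ' := by
    apply MulEquiv.ext
    intro x
    apply Subtype.ext
    rw [MulAut.mul_apply, faEquiv_coe, faEquiv_coe, faEquiv_coe]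
    apply Units.ext
    ext i j
    rw [mapGL_coe, mapGL_coe, mapGL_coe]
    rfl

omit [Fintype K] in
theorem fa_coe (τ : K ≃+* K) (x : ↥(twistedE6 K q)) :
    ((fa K q τ x : ↥(twistedE6 K q)) : GL chevE6.Idx K) = mapGL chevE6 (τ : K →+* K) x := rfl

include hf in
/-- The action on the elements of the simple classes. -/
theorem mapGL_yS (τ : K ≃+* K) (a : Fin 4) (t : K) :
    mapGL chevE6 (τ : K →+* K) (yS dc pi eps f (posCls a) t) = yS dc pi eps f (posCls a) (τ t) := by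
  have e1 : ∀ x : K, (τ : K →+* K) (f x) = f ((τ : K →+* K) x) := fun x => by rw [hf, map_pow, ← hf]
  fin_cases a
  · show mapGL chevE6 (τ : K →+* K) (yS dc pi eps f (46, 1) t) = yS dc pi eps f (46, 1) (τ t)
    rw [yS_single, yS_single, mapGL_wordGL]
    rfl
  · show mapGL chevE6 (τ : K →+* K) (yS dc pi eps f (39, 1) t) = yS dc pi eps f (39, 1) (τ t)
    rw [yS_single, yS_single, mapGL_wordGL]
    rfl
  · show mapGL chevE6 (τ : K →+* K) (yS dc pi eps f (56, 2) t) = yS dc pi eps f (56, 2) (τ t)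
    rw [yS_pair f 56 36 pi56, yS_pair f 56 36 pi56, mapGL_wordGL]
    simp only [List.map_cons, List.map_nil, e1]
    rfl
  · show mapGL chevE6 (τ : K →+* K) (yS dc pi eps f (42, 2) t) = yS dc pi eps f (42, 2) (τ t)
    rw [yS_pair f 42 37 pi42, yS_pair f 42 37 pi42, mapGL_wordGL]
    simp only [List.map_cons, List.map_nil, e1]
    rfl

omit [Fintype K] in
theorem fa_U (τ : K ≃+* K) (x : ↥(twistedE6 K q)) (hx : x ∈ U1 chevE6 K (twistedE6 K q)) :
    fa K q τ x ∈ U1 chevE6 K (twistedE6 K q) := by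
  rw [mem_U1] at hx ⊢
  exact mapGL_mem_pos dc (τ : K →+* K) x.1 hx

omit [Fintype K] in
theorem fa_H (τ : K ≃+* K) (x : ↥(twistedE6 K q)) (hx : x ∈ H1 chevE6 K (twistedE6 K q)) :
    fa K q τ x ∈ H1 chevE6 K (twistedE6 K q) := by
  rw [mem_H1] at hx ⊢
  exact mapGL_mem_diagonal dc (τ : K →+* K) x.1 hx

omit [Fintype K] in
theorem mapGL_nJ (τ : K →+* K) (J : List ℕ) : mapGL chevE6 τ (nJ dc K J) = nJ dc K J := by
  unfold nJ
  rw [map_list_prod, List.map_map]
  congr 1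
  apply List.map_congr_left
  intro i _
  exact mapGL_nGL dc τ i

omit [Fintype K] in
theorem mapGL_rep (τ : K →+* K) (n nW : GL chevE6.Idx K) (hn : n * nW⁻¹ ∈ chevE6.diagonalSubgroup K)
    (hW : mapGL chevE6 τ nW = nW) : mapGL chevE6 τ n * n⁻¹ ∈ chevE6.diagonalSubgroup K := by
  have e : n = n * nW⁻¹ * nW := by group
  have e2 : mapGL chevE6 τ n * n⁻¹ = mapGL chevE6 τ (n * nW⁻¹) * (n * nW⁻¹)⁻¹ := by
    conv_lhs => rw [e, map_mul, hW]
    group
  rw [e2]
  exact Subgroup.mul_mem _ (mapGL_mem_diagonal dc τ _ hn) (Subgroup.inv_mem _ hn)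

/-- The representative of a word in the generators given by the distinguished representatives. -/
noncomputable def nWord (K : Type*) [Field K] (w : List ℕ) : GL chevE6.Idx K :=
  (w.map fun a => nJ dc K (Js.getD a [])).prod

omit [Fintype K] in
theorem mapGL_nWord (τ : K →+* K) (w : List ℕ) : mapGL chevE6 τ (nWord K w) = nWord K w := by
  unfold nWord
  rw [map_list_prod, List.map_map]
  congr 1
  apply List.map_congr_left
  intro a _
  exact mapGL_nJ τ _

include hK hf in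
theorem nWord_spec (w : List ℕ) (hw : ∀ a ∈ w, a < 4) :
    nWord K w ∈ chevE6.monomialSubgroup K ∧ ActsAs chevE6 K (hfK K) lit (nWord K w) (lit'.wPerm wf' w) := by
  have Y := genData hK f hf
  induction w with
  | nil =>
    exact ⟨Subgroup.one_mem _, actsAs_one chevE6 K (hfK K) lit⟩
  | cons a w ih =>
    obtain ⟨h1, h2⟩ := ih (fun b hb => hw b (List.mem_cons_of_mem _ hb))
    have ha : a < 4 := hw a List.mem_cons_self
    have e : nWord K (a :: w) = nJ dc K (Js.getD a []) * nWord K w := by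
      unfold nWord
      rw [List.map_cons, List.prod_cons]
    rw [e, wPerm_cons]
    exact ⟨Subgroup.mul_mem _ (Y.sN a ha) h1, actsAs_mul chevE6 K (hfK K) lit (Y.act a ha) h2⟩

theorem fa_n0 (τ : K ≃+* K) : ∃ k ∈ H1 chevE6 K (twistedE6 K q),
    fa K q τ (nw1 (twAbs hK f hf) w0) = k * nw1 (twAbs hK f hf) w0 := by
  obtain ⟨hN, hact⟩ := nWord_spec hK f hf w0t w0t_lt
  have hd : rp (twAbs hK f hf) w0 * (nWord K w0t)⁻¹ ∈ chevE6.diagonalSubgroup K := by
    apply mem_diag_of_actsAs_one chevE6 K (hfK K) lit litOK hyps.hNU hyps.hBN _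
      (Subgroup.mul_mem _ (rp_N (twAbs hK f hf) w0) (Subgroup.inv_mem _ hN))
    have := actsAs_mul chevE6 K (hfK K) lit (rp_acts (twAbs hK f hf) w0) (actsAs_inv chevE6 K (hfK K) lit hact)
    rwa [w0_val, mul_inv_cancel] at this
  have hk := mapGL_rep (τ : K →+* K) _ _ hd (mapGL_nWord _ _)
  refine ⟨fa K q τ (nw1 (twAbs hK f hf) w0) * (nw1 (twAbs hK f hf) w0)⁻¹, ?_, by group⟩
  rw [mem_H1]
  exact hk

end fieldAut

end Cfsg.Agent.Lib.Helper36_E6OutFA
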