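import Cfsg.Agent.Lib.Helper36_TwistTabE6
import Cfsg.Agent.Lib.Helper36_TwistS
import Cfsg.Prelude.Def_LieTwisted

set_option autoImplicit false

/-!
The twisted group of type `²E₆` inside the Chevalley group of type `E₆` over a field with `q ^ 2` elements: it is fixed
by the twisting endomorphism, and it contains all fixed elements of `U`.
-/

namespace Cfsg.Agent.Lib.Helper36_TwistE6

open Cfsg Cfsg.Lie Cfsg.Agent.Lib.Helper18_ChevFast Cfsg.Agent.Lib.Helper18_ChevEngine
  Cfsg.Agent.Lib.Helper18_ChevN Cfsg.Agent.Lib.Helper18_ChevWeyl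
  Cfsg.Agent.Lib.Helper18_ChevGL Cfsg.Agent.Lib.Helper18_ChevTri
  Cfsg.Agent.Lib.Helper18_ChevAdd Cfsg.Agent.Lib.Helper18_ChevUni
  Cfsg.Agent.Lib.Helper36_TwistU Cfsg.Agent.Lib.Helper36_TwistW Cfsg.Agent.Lib.Helper36_TwistS
  Cfsg.Agent.Lib.Helper36_TwistTabE6 Cfsg.Agent.Lib.Helper36_ChevDataE6Aut

/-- The list of the elements `n_i` of the certificate. -/
abbrev Ns : List NData := Cfsg.Agent.Lib.Helper18_ChevDatumE6.Ns

/-- The certificate of the datum. -/
abbrev dc : DCert chevE6 Ns := Cfsg.Agent.Lib.Helper18_ChevDatumE6.dcert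

section

variable {K : Type*} [Field K]

theorem certs : Certs chevE6 Ns K Cfsg.Agent.Lib.Helper18_ChevACerts.wlE6 Cfsg.Agent.Lib.Helper18_ChevACerts.wsE6 3 w where
  c := dc
  tc := Cfsg.Agent.Lib.Helper18_ChevTCertE6.tcert
  ac := Cfsg.Agent.Lib.Helper18_ChevACerts.acertE6
  gc := Cfsg.Agent.Lib.Helper18_ChevGCertE6.gcert
  r2 := Cfsg.Agent.Lib.Helper18_ChevComm2.r2_all dc Cfsg.Agent.Lib.Helper18_ChevPCertE6.pcert

/-- The twisting endomorphism. -/
noncomputable def sig (f : K →+* K) : GL chevE6.Idx K →* GL chevE6.Idx K :=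
  sigma chevE6 K 12 autData matOK f

theorem twist (f : K →+* K) : Twist (K := K) dc w (sig f) pi eps f where
  sx := fun r hr t =>
    sigma_x chevE6 Cfsg.Agent.Lib.Helper36_ChevDataE6.lenOK Cfsg.Agent.Lib.Helper36_ChevDataE6.addOK K 12 autData
      matOK rangeOK dc f r hr t
  pos := fun r hr => (posOK r hr.1 hr).1
  ht := fun r hr => by
    rw [← grL_eq, ← grL_eq]
    exact (posOK r hr.1 hr).2
  inj := fun r s hr hs h =>
    List.inj_on_of_nodup_map injOK ((mem_posRoots r).mpr hr) ((mem_posRoots s).mpr hs) h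

theorem classOK (p : ℕ × ℕ) (hp : p ∈ cls) : ClassOK chevE6 pi p := by
  obtain ⟨h1, h2, h3, h4, h5, -, -⟩ := classesOK p hp
  exact ⟨h1, h2, h3, h4, h5⟩

theorem clsOK : ClsOK chevE6 w pi cls where
  each := classOK
  nodup := nodupOK
  cover := fun r hr => coverOK r hr.1 hr
  sorted := sortedOK

theorem orbOK (p : ℕ × ℕ) (hp : p ∈ gens) : OrbOK chevE6 pi p := by
  obtain ⟨h1, h2, h3, h4, h5, -, -⟩ := gensOK p hp
  exact ⟨h1, h2, h3, h4, h5⟩

end

section

variable {K : Type*} [Field K] [Fintype K] {q : ℕ} (hq : IsPrimePow q) (hK : Fintype.card K = q ^ 2)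
  (f : K →+* K) (hf : ∀ x : K, f x = x ^ q)

include hK hf in
theorem closes_pair (p : ℕ × ℕ) (hp : p ∈ gens) (h2 : p.2 = 2) (x : K) : Closes pi eps f p x := by
  rw [closes_iff p (gensOK p hp).2.2.2.2.2.1, h2, iterate_pow hf]
  exact Cfsg.Agent.Lib.Helper36_TwistF.pow_card' hK x

include hf in
theorem closes_single (p : ℕ × ℕ) (hp : p ∈ gens) (h1 : p.2 = 1) (x : K) : Closes pi eps f p x ↔ x ^ q = x := by
  rw [closes_iff p (gensOK p hp).2.2.2.2.2.1, h1, Function.iterate_one, hf]

theorem pi56 : pi 56 = 36 ∧ eps 56 = 1 := by decide +kernel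
theorem pi42 : pi 42 = 37 ∧ eps 42 = 1 := by decide +kernel
theorem pi15 : pi 15 = 35 ∧ eps 15 = 1 := by decide +kernel
theorem pi29 : pi 29 = 34 ∧ eps 29 = 1 := by decide +kernel

/-- The element of a pair of roots exchanged by the symmetry, as a word. -/
theorem yS_pair (r r' : ℕ) (h : pi r = r' ∧ eps r = 1) (x : K) :
    yS (K := K) dc pi eps f (r, 2) x = wordGL dc [(r, x), (r', f x)] := by
  unfold yS
  simp only [orbWord, stepL, h.1, h.2]
  simp

theorem yS_single (r : ℕ) (x : K) : yS (K := K) dc pi eps f (r, 1) x = wordGL dc [(r, x)] := by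
  unfold yS
  simp only [orbWord]

/-- A word over one of the four fixed roots `±p₂, ±p₄` with a parameter in the small field lies in the twisted group. -/
theorem single_mem (r : ℕ) (hr : r ∈ [e6p2, e6m2, e6p4, e6m4]) (t : K) (ht : t ^ q = t) :
    wordGL dc [(r, t)] ∈ twistedE6 K q := by
  apply Subgroup.subset_closure
  exact ⟨[(r, t)], Or.inl ⟨t, ht, r, hr, rfl⟩, wordGL_coe dc _⟩

theorem wordGL_single (r : ℕ) (t : K) : wordGL dc [(r, t)] = xGL dc r t := by
  rw [wordGL_cons, wordGL_nil, mul_one]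

include hf in
/-- A word over one of the four pairs lies in the twisted group. -/
theorem pair_mem (rs : ℕ × ℕ) (hrs : rs ∈ [(e6p1, e6p6), (e6m1, e6m6), (e6p3, e6p5), (e6m3, e6m5)]) (t : K) :
    wordGL dc [(rs.1, t), (rs.2, f t)] ∈ twistedE6 K q := by
  apply Subgroup.subset_closure
  refine ⟨[(rs.1, t), (rs.2, t ^ q)], Or.inr ⟨t, rs, hrs, rfl⟩, ?_⟩
  rw [wordGL_coe, hf]

include hK hf in
/-- The elements of the fundamental orbits lie in the twisted group. -/
theorem gen_mem (p : ℕ × ℕ) (hp : p ∈ gens) (x : K) (hx : Closes pi eps f p x) :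
    yS dc pi eps f p x ∈ twistedE6 K q := by
  have hp' := hp
  simp only [gens, List.mem_cons, List.not_mem_nil, or_false] at hp'
  rcases hp' with rfl | rfl | rfl | rfl | rfl | rfl | rfl | rfl
  · rw [yS_single]
    exact single_mem 39 (by simp [e6p4]) x ((closes_single f hf _ hp rfl x).mp hx)
  · rw [yS_pair f 42 37 pi42]
    exact pair_mem f hf (e6p3, e6p5) (by simp) x
  · rw [yS_single]
    exact single_mem 46 (by simp [e6p2]) x ((closes_single f hf _ hp rfl x).mp hx)
  · rw [yS_pair f 56 36 pi56]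
    exact pair_mem f hf (e6p1, e6p6) (by simp) x
  · rw [yS_pair f 15 35 pi15]
    exact pair_mem f hf (e6m1, e6m6) (by simp) x
  · rw [yS_pair f 29 34 pi29]
    exact pair_mem f hf (e6m3, e6m5) (by simp) x
  · rw [yS_single]
    exact single_mem 25 (by simp [e6m2]) x ((closes_single f hf _ hp rfl x).mp hx)
  · rw [yS_single]
    exact single_mem 32 (by simp [e6m4]) x ((closes_single f hf _ hp rfl x).mp hx)

include hK hf in
/-- The twisted group is fixed by the twisting endomorphism. -/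
theorem fixed (g : GL chevE6.Idx K) (hg : g ∈ twistedE6 K q) : sig f g = g := by
  have hle : twistedE6 K q ≤ (sig f).eqLocus (MonoidHom.id _) := by
    unfold twistedE6 ChevalleyDatum.genSubgroup
    rw [Subgroup.closure_le]
    rintro g ⟨wd, hwd, hg⟩
    rw [eq_wordGL dc hg]
    show sig f (wordGL dc wd) = wordGL dc wd
    rcases hwd with ⟨t, ht, r, hr, rfl⟩ | ⟨t, rs, hrs, rfl⟩
    · simp only [List.mem_cons, List.not_mem_nil, or_false] at hr
      have key : ∀ r' : ℕ, (r', 1) ∈ gens → r = r' → sig f (wordGL dc [(r, t)]) = wordGL dc [(r, t)] := by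
        rintro r' hmem rfl
        rw [← yS_single f]
        exact orb_fixed certs (twist f) _ (orbOK _ hmem) t ((closes_single f hf _ hmem rfl t).mpr ht)
      rcases hr with h | h | h | h
      · exact key 46 (by decide) h
      · exact key 25 (by decide) h
      · exact key 39 (by decide) h
      · exact key 32 (by decide) h
    · simp only [List.mem_cons, List.not_mem_nil, or_false] at hrs
      have key : ∀ r r' : ℕ, (r, 2) ∈ gens → (pi r = r' ∧ eps r = 1) → rs = (r, r') →
          sig f (wordGL dc [(rs.1, t), (rs.2, t ^ q)]) = wordGL dc [(rs.1, t), (rs.2, t ^ q)] := by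
        rintro r r' hmem hpi rfl
        rw [← hf, ← yS_pair f r r' hpi]
        exact orb_fixed certs (twist f) _ (orbOK _ hmem) t (closes_pair hK f hf _ hmem rfl t)
      rcases hrs with h | h | h | h
      · exact key 56 36 (by decide) pi56 h
      · exact key 15 35 (by decide) pi15 h
      · exact key 42 37 (by decide) pi42 h
      · exact key 29 34 (by decide) pi29 h
  exact hle hg

end

section

variable {K : Type*} [Field K] [Fintype K] {q : ℕ} (hq : IsPrimePow q) (hK : Fintype.card K = q ^ 2)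
  (f : K →+* K) (hf : ∀ x : K, f x = x ^ q)

include hf in
theorem neg_one_pow : (-1 : K) ^ q = -1 := by
  rw [← hf, map_neg, map_one]

theorem simples : chevE6.simple 0 = 56 ∧ chevE6.simple 1 = 46 ∧ chevE6.simple 2 = 42 ∧ chevE6.simple 3 = 39 ∧
    chevE6.simple 4 = 37 ∧ chevE6.simple 5 = 36 ∧ chevE6.neg 56 = 15 ∧ chevE6.neg 46 = 25 ∧ chevE6.neg 42 = 29 ∧
    chevE6.neg 39 = 32 ∧ chevE6.neg 37 = 34 ∧ chevE6.neg 36 = 35 := by decide +kernel

include hf in
/-- The elements `n_J` of the orbits of the nodes lie in the twisted group. -/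
theorem nJ_mem (J : List ℕ) (hJ : J ∈ Js) : nJ dc K J ∈ twistedE6 K q := by
  obtain ⟨s0, s1, s2, s3, s4, s5, n0, n1, n2, n3, n4, n5⟩ := simples
  have h1 : (1 : K) ^ q = 1 := one_pow q
  have hm := neg_one_pow f hf
  have hf1 : f 1 = 1 := map_one f
  have hfm : f (-1) = -1 := by rw [map_neg, map_one]
  simp only [Js, List.mem_cons, List.not_mem_nil, or_false] at hJ
  rcases hJ with rfl | rfl | rfl | rfl
  · rw [nJ_one, s1, n1, ← wordGL_single, ← wordGL_single (K := K) 25]
    exact Subgroup.mul_mem _ (Subgroup.mul_mem _ (single_mem 46 (by simp [e6p2]) 1 h1)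
      (single_mem 25 (by simp [e6m2]) (-1) hm)) (single_mem 46 (by simp [e6p2]) 1 h1)
  · rw [nJ_one, s3, n3, ← wordGL_single, ← wordGL_single (K := K) 32]
    exact Subgroup.mul_mem _ (Subgroup.mul_mem _ (single_mem 39 (by simp [e6p4]) 1 h1)
      (single_mem 32 (by simp [e6m4]) (-1) hm)) (single_mem 39 (by simp [e6p4]) 1 h1)
  · rw [nJ_two certs 0 5 (crossOK [0, 5] (by decide) 0 (by decide) 5 (by decide) (by decide)), s0, s5, n0, n5]
    have e1 : xGL dc 56 (1 : K) * xGL dc 36 1 = wordGL dc [(56, 1), (36, f 1)] := by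
      rw [wordGL_cons, wordGL_cons, wordGL_nil, mul_one, hf1]
    have e2 : xGL dc 15 (-1 : K) * xGL dc 35 (-1) = wordGL dc [(15, -1), (35, f (-1))] := by
      rw [wordGL_cons, wordGL_cons, wordGL_nil, mul_one, hfm]
    rw [e1, e2]
    exact Subgroup.mul_mem _ (Subgroup.mul_mem _ (pair_mem f hf (e6p1, e6p6) (by simp) 1)
      (pair_mem f hf (e6m1, e6m6) (by simp) (-1))) (pair_mem f hf (e6p1, e6p6) (by simp) 1)
  · rw [nJ_two certs 2 4 (crossOK [2, 4] (by decide) 2 (by decide) 4 (by decide) (by decide)), s2, s4, n2, n4]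
    have e1 : xGL dc 42 (1 : K) * xGL dc 37 1 = wordGL dc [(42, 1), (37, f 1)] := by
      rw [wordGL_cons, wordGL_cons, wordGL_nil, mul_one, hf1]
    have e2 : xGL dc 29 (-1 : K) * xGL dc 34 (-1) = wordGL dc [(29, -1), (34, f (-1))] := by
      rw [wordGL_cons, wordGL_cons, wordGL_nil, mul_one, hfm]
    rw [e1, e2]
    exact Subgroup.mul_mem _ (Subgroup.mul_mem _ (pair_mem f hf (e6p3, e6p5) (by simp) 1)
      (pair_mem f hf (e6m3, e6m5) (by simp) (-1))) (pair_mem f hf (e6p3, e6p5) (by simp) 1)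

include hK hf in
/-- The elements of all classes of positive roots lie in the twisted group. -/
theorem class_mem (p : ℕ × ℕ) (hp : p ∈ cls) (x : K) (hx : Closes pi eps f p x) :
    yS dc pi eps f p x ∈ twistedE6 K q := by
  have hgood := chain_good (σ := sig f) certs (twistedE6 K q) (fixed hK f hf) Js
    (fun J hJ => ⟨JsOK J hJ, nJ_mem f hf J hJ⟩) steps (baseCls.map fun p => orbRoots pi p.2 p.1) stepsOK
    (by
      intro S hS
      rw [List.mem_map] at hS
      obtain ⟨b, hb, rfl⟩ := hS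
      obtain ⟨hb1, hb2⟩ := baseOK b hb
      exact good_base certs (twist f) _ b (classOK b hb1) (fun x hx => gen_mem hK f hf b hb2 x hx))
    chainOK _ (reachOK p hp)
  exact yS_mem_of_good certs (twist f) _ p (classOK p hp) hgood x hx

include hq hK in
/-- `|U ∩ ²E₆(q)| = q ^ 36`. -/
theorem card_U : Nat.card ↥(chevE6.posUnipotent K ⊓ twistedE6 K q) = q ^ 36 := by
  obtain ⟨f, hf⟩ := Cfsg.Agent.Lib.Helper36_TwistF.exists_frob hq hK
  rw [main certs (twist f) clsOK (twistedE6 K q) (fixed hK f hf) (class_mem hK f hf)]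
  have h1 : (cls.map fun p => Nat.card {x : K // Closes pi eps f p x}) = cls.map fun p => q ^ p.2 := by
    apply List.map_congr_left
    intro p hp
    obtain ⟨-, -, -, -, -, h6, h7⟩ := classesOK p hp
    exact card_closes hq (by norm_num) hK hf p h6 h7
  rw [h1]
  have h2 : ∀ l : List (ℕ × ℕ), (l.map fun p => q ^ p.2).prod = q ^ (l.map fun p => p.2).sum := by
    intro l
    induction l with
    | nil => simp
    | cons a l ih => rw [List.map_cons, List.prod_cons, ih, List.map_cons, List.sum_cons, pow_add]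
  rw [h2, sizeOK]

end

end Cfsg.Agent.Lib.Helper36_TwistE6
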