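import Cfsg.Agent.Lib.Helper36_TwistH
import Cfsg.Agent.Lib.Helper36_TwistE6
import Cfsg.Agent.Lib.Helper36_ChevDataE6HO

set_option autoImplicit false
set_option linter.unusedSimpArgs false

/-!
The diagonal part of the twisted group of type `²E₆`.
-/

namespace Cfsg.Agent.Lib.Helper36_TwistHE6

open Cfsg Cfsg.Lie Cfsg.Agent.Lib.Helper18_ChevFast Cfsg.Agent.Lib.Helper18_ChevEngine
  Cfsg.Agent.Lib.Helper18_ChevN Cfsg.Agent.Lib.Helper18_ChevWeyl
  Cfsg.Agent.Lib.Helper18_ChevGL Cfsg.Agent.Lib.Helper18_ChevTri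
  Cfsg.Agent.Lib.Helper18_ChevAdd Cfsg.Agent.Lib.Helper18_ChevUni Cfsg.Agent.Lib.Helper18_ChevBN
  Cfsg.Agent.Lib.Helper36_TwistU Cfsg.Agent.Lib.Helper36_TwistW Cfsg.Agent.Lib.Helper36_TwistH
  Cfsg.Agent.Lib.Helper36_TwistTabE6 Cfsg.Agent.Lib.Helper36_TwistE6
  Cfsg.Agent.Lib.Helper36_ChevTorus Cfsg.Agent.Lib.Helper36_ChevHOrder

/-- The symmetry of the nodes. -/
def rho : Equiv.Perm (Fin chevE6.rank) :=
  (Equiv.swap (0 : Fin 6) 5 * Equiv.swap (2 : Fin 6) 4 : Equiv.Perm (Fin 6))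

theorem nodes : ∀ j : Fin chevE6.rank, NodeOK chevE6 pi eps j (rho j) := by decide +kernel

theorem rho_sq : ∀ j : Fin chevE6.rank, rho.symm j = rho j := by decide +kernel

theorem rho_rho : ∀ j : Fin chevE6.rank, rho (rho j) = j := by decide +kernel

/-- Three times the inverse of the Cartan matrix. -/
def matB : Matrix (Fin chevE6.rank) (Fin chevE6.rank) ℤ :=
  !![4, 3, 5, 6, 4, 2; 3, 6, 6, 9, 6, 3; 5, 6, 10, 12, 8, 4; 6, 9, 12, 18, 12, 6; 4, 6, 8, 12, 10, 5; 2, 3, 4, 6, 5, 4]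

theorem matB_spec : cartanMat chevE6 * matB = Matrix.diagonal (fun _ => ((3 : ℕ) : ℤ)) := by decide +kernel

section

variable {K : Type*} [Field K] [Fintype K] {q : ℕ} (hK : Fintype.card K = q ^ 2)
  (f : K →+* K) (hf : ∀ x : K, f x = x ^ q)

include hK hf in
theorem f_f (x : K) : f (f x) = x := by
  rw [hf, hf, ← pow_mul, ← pow_two]
  exact Cfsg.Agent.Lib.Helper36_TwistF.pow_card' hK x

include hK hf in
theorem tau_tau (u : Fin chevE6.rank → Kˣ) : tau chevE6 K rho f (tau chevE6 K rho f u) = u := by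
  funext k
  rw [tau_apply, tau_apply, rho_sq, rho_sq, rho_rho]
  apply Units.ext
  exact f_f hK f hf _

include hK hf in
theorem lift (u : Fin chevE6.rank → Kˣ) (hu : u * (tau chevE6 K rho f u)⁻¹ ∈ (torusHom chevE6 K).ker) :
    ∃ z ∈ (torusHom chevE6 K).ker, tau chevE6 K rho f (u * z) = u * z :=
  fix_lift2 (tau chevE6 K rho f) (torusHom chevE6 K).ker (tau_tau hK f hf)
    (fun z hz => ker_exponent (Helper36_ChevDataE6T.facts K) Helper36_ChevDataE6HO.rootInd matB 3 matB_spec z hz) u hu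

include hf in
theorem frob_neg_inv (t : K) : f (-t⁻¹) = -(f t)⁻¹ := by
  rw [map_neg, map_inv₀]

include hf in
/-- The element `h_j(t)` of a fixed node, with `t` in the small field. -/
theorem single_part (j : Fin chevE6.rank) (r r' : ℕ) (hr : chevE6.simple j = r ∧ chevE6.neg r = r')
    (hm : r ∈ [e6p2, e6m2, e6p4, e6m4]) (hm' : r' ∈ [e6p2, e6m2, e6p4, e6m4]) (t : Kˣ) (ht : (t : K) ^ q = t) :
    torusHom chevE6 K (Pi.mulSingle j t) ∈ twistedE6 K q := by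
  rw [torusHom_single chevE6 K (Helper36_ChevDataE6T.facts K) dc, hGL_eq, nT_eq, nT_eq, hr.1, hr.2]
  have h1 : ∀ a : K, a ^ q = a → xGL dc r a ∈ twistedE6 K q := fun a ha => by
    rw [← wordGL_single]
    exact single_mem r hm a ha
  have h2 : ∀ a : K, a ^ q = a → xGL dc r' a ∈ twistedE6 K q := fun a ha => by
    rw [← wordGL_single]
    exact single_mem r' hm' a ha
  have h3 : ∀ a : K, a ^ q = a → (-a⁻¹) ^ q = -a⁻¹ := fun a ha => by
    rw [← hf, frob_neg_inv f hf, hf, ha]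
  have hm1 : (-1 : K) ^ q = -1 := neg_one_pow f hf
  exact Subgroup.mul_mem _ (Subgroup.mul_mem _ (Subgroup.mul_mem _ (h1 _ ht) (h2 _ (h3 _ ht))) (h1 _ ht))
    (Subgroup.mul_mem _ (Subgroup.mul_mem _ (h1 _ hm1) (h2 _ (h3 _ hm1))) (h1 _ hm1))

include hf in
/-- The element `h_i(a) h_j(f a)` of a pair of nodes exchanged by the symmetry. -/
theorem pair_part (i j : Fin chevE6.rank) (hij : Cross chevE6 i j) (r s r' s' : ℕ)
    (hr : chevE6.simple i = r ∧ chevE6.simple j = s ∧ chevE6.neg r = r' ∧ chevE6.neg s = s')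
    (hm : (r, s) ∈ [(e6p1, e6p6), (e6m1, e6m6), (e6p3, e6p5), (e6m3, e6m5)])
    (hm' : (r', s') ∈ [(e6p1, e6p6), (e6m1, e6m6), (e6p3, e6p5), (e6m3, e6m5)]) (a : Kˣ) :
    torusHom chevE6 K (Pi.mulSingle i a * Pi.mulSingle j (Units.map (f : K →* K) a)) ∈ twistedE6 K q := by
  rw [map_mul, torusHom_single chevE6 K (Helper36_ChevDataE6T.facts K) dc,
    torusHom_single chevE6 K (Helper36_ChevDataE6T.facts K) dc, hGL_two certs hij, nT_two certs hij, nT_two certs hij,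
    hr.1, hr.2.1, hr.2.2.1, hr.2.2.2]
  have h1 : ∀ a : K, xGL dc r a * xGL dc s (f a) ∈ twistedE6 K q := fun a => by
    have := pair_mem f hf (r, s) hm a
    rwa [wordGL_cons, wordGL_cons, wordGL_nil, mul_one] at this
  have h2 : ∀ a : K, xGL dc r' a * xGL dc s' (f a) ∈ twistedE6 K q := fun a => by
    have := pair_mem f hf (r', s') hm' a
    rwa [wordGL_cons, wordGL_cons, wordGL_nil, mul_one] at this
  have e1 : ((Units.map (f : K →* K) a : Kˣ) : K) = f a := rfl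
  have e2 : (-(f (a : K))⁻¹) = f (-(a : K)⁻¹) := (frob_neg_inv f hf _).symm
  have e3 : (-1 : K) = f (-1) := by rw [map_neg, map_one]
  have e4 : (-(-1 : K)⁻¹) = f (-(-1 : K)⁻¹) := by
    rw [frob_neg_inv f hf, map_neg, map_one]
  rw [e1, e2]
  refine Subgroup.mul_mem _ (Subgroup.mul_mem _ (Subgroup.mul_mem _ (h1 _) (h2 _)) (h1 _)) ?_
  have h5 : xGL dc r (-1 : K) * xGL dc s (-1) ∈ twistedE6 K q := by
    have := h1 (-1)
    rwa [← e3] at this
  have h6 : xGL dc r' (-(-1 : K)⁻¹) * xGL dc s' (-(-1 : K)⁻¹) ∈ twistedE6 K q := by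
    have := h2 (-(-1 : K)⁻¹)
    rwa [← e4] at this
  exact Subgroup.mul_mem _ (Subgroup.mul_mem _ h5 h6) h5

end

/-- The nodes. -/
abbrev n0 : Fin chevE6.rank := (0 : Fin 6)
abbrev n1 : Fin chevE6.rank := (1 : Fin 6)
abbrev n2 : Fin chevE6.rank := (2 : Fin 6)
abbrev n3 : Fin chevE6.rank := (3 : Fin 6)
abbrev n4 : Fin chevE6.rank := (4 : Fin 6)
abbrev n5 : Fin chevE6.rank := (5 : Fin 6)

theorem rho_vals : rho.symm n0 = n5 ∧ rho.symm n1 = n1 ∧ rho.symm n2 = n4 ∧ rho.symm n3 = n3 ∧ rho.symm n4 = n2 ∧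
    rho.symm n5 = n0 := by decide +kernel

theorem decomp6' {A : Type*} [CommGroup A] (u : Fin 6 → A) :
    u = Pi.mulSingle 1 (u 1) * Pi.mulSingle 3 (u 3) * (Pi.mulSingle 0 (u 0) * Pi.mulSingle 5 (u 5)) *
      (Pi.mulSingle 2 (u 2) * Pi.mulSingle 4 (u 4)) := by
  funext k
  fin_cases k <;> simp [Pi.mulSingle_apply]

theorem decomp6 {A : Type*} [CommGroup A] (u : Fin chevE6.rank → A) :
    u = Pi.mulSingle n1 (u n1) * Pi.mulSingle n3 (u n3) * (Pi.mulSingle n0 (u n0) * Pi.mulSingle n5 (u n5)) *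
      (Pi.mulSingle n2 (u n2) * Pi.mulSingle n4 (u n4)) := decomp6' u

section

variable {K : Type*} [Field K] [Fintype K] {q : ℕ} (hK : Fintype.card K = q ^ 2)
  (f : K →+* K) (hf : ∀ x : K, f x = x ^ q)

include hf in
/-- The diagonal elements with fixed parameters lie in the twisted group. -/
theorem mem_of_fixed (u : Fin chevE6.rank → Kˣ) (hu : tau chevE6 K rho f u = u) :
    torusHom chevE6 K u ∈ twistedE6 K q := by
  obtain ⟨r0, r1, r2, r3, r4, r5⟩ := rho_vals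
  have h1 : ((u n1 : Kˣ) : K) ^ q = u n1 := by
    have := congrFun hu n1
    rw [tau_apply, r1] at this
    rw [← hf]
    exact congrArg Units.val this
  have h3 : ((u n3 : Kˣ) : K) ^ q = u n3 := by
    have := congrFun hu n3
    rw [tau_apply, r3] at this
    rw [← hf]
    exact congrArg Units.val this
  have h5 : u n5 = Units.map (f : K →* K) (u n0) := by
    have := congrFun hu n5
    rw [tau_apply, r5] at this
    exact this.symm
  have h4 : u n4 = Units.map (f : K →* K) (u n2) := by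
    have := congrFun hu n4
    rw [tau_apply, r4] at this
    exact this.symm
  obtain ⟨s0, s1, s2, s3, s4, s5, m0, m1, m2, m3, m4, m5⟩ := simples
  rw [decomp6 u, map_mul, map_mul, map_mul, h5, h4]
  refine Subgroup.mul_mem _ (Subgroup.mul_mem _ (Subgroup.mul_mem _ ?_ ?_) ?_) ?_
  · exact single_part f hf n1 46 25 ⟨s1, m1⟩ (by simp [e6p2]) (by simp [e6m2]) _ h1
  · exact single_part f hf n3 39 32 ⟨s3, m3⟩ (by simp [e6p4]) (by simp [e6m4]) _ h3
  · exact pair_part f hf n0 n5 (crossOK [0, 5] (by decide) 0 (by decide) 5 (by decide) (by decide)) 56 36 15 35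
      ⟨s0, s5, m0, m5⟩ (by simp [e6p1, e6p6]) (by simp [e6m1, e6m6]) _
  · exact pair_part f hf n2 n4 (crossOK [2, 4] (by decide) 2 (by decide) 4 (by decide) (by decide)) 42 37 29 34
      ⟨s2, s4, m2, m4⟩ (by simp [e6p3, e6p5]) (by simp [e6m3, e6m5]) _

include hK hf in
/-- The intersection of the diagonal subgroup with the twisted group, counted with the parameters. -/
theorem card_diag_aux :
    Nat.card {u : Fin chevE6.rank → Kˣ // tau chevE6 K rho f u = u ∧ u ∈ (torusHom chevE6 K).ker} *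
      Nat.card ↥(chevE6.diagonalSubgroup K ⊓ twistedE6 K q) =
      Nat.card {u : Fin chevE6.rank → Kˣ // tau chevE6 K rho f u = u} :=
  card_fixed_diag certs (twist f) (Helper36_ChevDataE6T.facts K) rho nodes (lift hK f hf) (twistedE6 K q)
    (fixed hK f hf) (mem_of_fixed f hf)

end

/-- A function on the nodes from its six values. -/
def vec {A : Type*} (a0 a1 a2 a3 a4 a5 : A) : Fin chevE6.rank → A := (![a0, a1, a2, a3, a4, a5] : Fin 6 → A)

section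
variable {A : Type*} (a0 a1 a2 a3 a4 a5 : A)
theorem vec_n0 : vec a0 a1 a2 a3 a4 a5 n0 = a0 := rfl
theorem vec_n1 : vec a0 a1 a2 a3 a4 a5 n1 = a1 := rfl
theorem vec_n2 : vec a0 a1 a2 a3 a4 a5 n2 = a2 := rfl
theorem vec_n3 : vec a0 a1 a2 a3 a4 a5 n3 = a3 := rfl
theorem vec_n4 : vec a0 a1 a2 a3 a4 a5 n4 = a4 := rfl
theorem vec_n5 : vec a0 a1 a2 a3 a4 a5 n5 = a5 := rfl
end

theorem forall6' (P : Fin 6 → Prop) (h0 : P 0) (h1 : P 1) (h2 : P 2) (h3 : P 3) (h4 : P 4) (h5 : P 5) : ∀ k, P k := by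
  intro k
  fin_cases k <;> assumption

theorem forall6 (P : Fin chevE6.rank → Prop) (h0 : P n0) (h1 : P n1) (h2 : P n2) (h3 : P n3) (h4 : P n4) (h5 : P n5) :
    ∀ k, P k := forall6' P h0 h1 h2 h3 h4 h5

theorem vec_eta {A : Type*} (u : Fin chevE6.rank → A) : u = vec (u n0) (u n1) (u n2) (u n3) (u n4) (u n5) := by
  funext k
  revert k
  apply forall6 <;> rfl

def matM : Matrix (Fin chevE6.rank) (Fin chevE6.rank) ℤ :=
  !![4, 1, -1, 2, 0, -2; 3, 2, 0, 3, 1, -1; 5, 2, 0, 4, 1, -2; 6, 3, 0, 6, 2, -2; 4, 2, 0, 4, 2, -1; 2, 1, 0, 2, 1, 0]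

def matR : Matrix (Fin chevE6.rank) (Fin chevE6.rank) ℤ :=
  !![3, 0, -2, 0, -1, -2; 0, 1, 0, 0, 0, 0; 0, 0, 1, 0, 0, 0; 0, 0, 0, 1, 0, 0; 0, 0, 0, 0, 1, 0; 0, 0, 0, 0, 0, 1]

def matC : Matrix (Fin chevE6.rank) (Fin chevE6.rank) ℤ :=
  !![2, 0, -1, 0, 0, 0; 0, 2, 0, -1, 0, 0; -1, 0, 2, -1, 0, 0; 0, -1, -1, 2, -1, 0; 0, 0, 0, -1, 2, -1; 0, 0, 0, 0, -1, 2]

theorem matM_spec : cartanMat chevE6 * matM = matR := by decide +kernel

theorem cartan_eq : cartanMat chevE6 = matC := by decide +kernel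

theorem zact6' {G : Type*} [CommGroup G] (M : Matrix (Fin chevE6.rank) (Fin chevE6.rank) ℤ) (u : Fin chevE6.rank → G)
    (k : Fin chevE6.rank) :
    zact M u k = u n0 ^ M n0 k * u n1 ^ M n1 k * u n2 ^ M n2 k * u n3 ^ M n3 k * u n4 ^ M n4 k * u n5 ^ M n5 k :=
  zact6 M u k

/-- The relations in the kernel of the parametrisation of the diagonal subgroup. -/
theorem rels {G : Type*} [CommGroup G] (u : Fin chevE6.rank → G) (h : zact (cartanMat chevE6) u = 1) :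
    u n0 ^ 3 = 1 ∧ u n1 = 1 ∧ u n2 = u n0 ^ 2 ∧ u n3 = 1 ∧ u n4 = u n0 ∧ u n5 = u n0 ^ 2 := by
  have hR : zact matR u = 1 := by rw [← matM_spec, ← zact_mul, h, zact_apply_one]
  have k0 : u n0 ^ (3 : ℤ) * u n1 ^ (0 : ℤ) * u n2 ^ (0 : ℤ) * u n3 ^ (0 : ℤ) * u n4 ^ (0 : ℤ) * u n5 ^ (0 : ℤ) = 1 :=
    (zact6' matR u n0).symm.trans (congrFun hR n0)
  have k1 : u n0 ^ (0 : ℤ) * u n1 ^ (1 : ℤ) * u n2 ^ (0 : ℤ) * u n3 ^ (0 : ℤ) * u n4 ^ (0 : ℤ) * u n5 ^ (0 : ℤ) = 1 :=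
    (zact6' matR u n1).symm.trans (congrFun hR n1)
  have k2 : u n0 ^ (-2 : ℤ) * u n1 ^ (0 : ℤ) * u n2 ^ (1 : ℤ) * u n3 ^ (0 : ℤ) * u n4 ^ (0 : ℤ) * u n5 ^ (0 : ℤ) = 1 :=
    (zact6' matR u n2).symm.trans (congrFun hR n2)
  have k3 : u n0 ^ (0 : ℤ) * u n1 ^ (0 : ℤ) * u n2 ^ (0 : ℤ) * u n3 ^ (1 : ℤ) * u n4 ^ (0 : ℤ) * u n5 ^ (0 : ℤ) = 1 :=
    (zact6' matR u n3).symm.trans (congrFun hR n3)
  have k4 : u n0 ^ (-1 : ℤ) * u n1 ^ (0 : ℤ) * u n2 ^ (0 : ℤ) * u n3 ^ (0 : ℤ) * u n4 ^ (1 : ℤ) * u n5 ^ (0 : ℤ) = 1 :=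
    (zact6' matR u n4).symm.trans (congrFun hR n4)
  have k5 : u n0 ^ (-2 : ℤ) * u n1 ^ (0 : ℤ) * u n2 ^ (0 : ℤ) * u n3 ^ (0 : ℤ) * u n4 ^ (0 : ℤ) * u n5 ^ (1 : ℤ) = 1 :=
    (zact6' matR u n5).symm.trans (congrFun hR n5)
  simp only [zpow_zero, mul_one, one_mul, zpow_one] at k0 k1 k2 k3 k4 k5
  refine ⟨by exact_mod_cast k0, k1, ?_, k3, ?_, ?_⟩
  · rw [zpow_neg, inv_mul_eq_one] at k2
    exact_mod_cast k2.symm
  · rw [zpow_neg, inv_mul_eq_one, zpow_one] at k4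
    exact k4.symm
  · rw [zpow_neg, inv_mul_eq_one] at k5
    exact_mod_cast k5.symm

/-- The elements of the kernel. -/
theorem ker_vec {G : Type*} [CommGroup G] (z : G) (hz : z ^ 3 = 1) :
    zact (cartanMat chevE6) (vec z 1 (z ^ 2) 1 z (z ^ 2)) = 1 := by
  rw [cartan_eq]
  funext k
  revert k
  apply forall6
  · refine (zact6' matC _ n0).trans ?_
    show z ^ (2 : ℤ) * 1 ^ (0 : ℤ) * (z ^ 2) ^ (-1 : ℤ) * 1 ^ (0 : ℤ) * z ^ (0 : ℤ) * (z ^ 2) ^ (0 : ℤ) = 1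
    simp only [zpow_zero, mul_one, one_mul, zpow_one, one_zpow]
    group
  · refine (zact6' matC _ n1).trans ?_
    show z ^ (0 : ℤ) * 1 ^ (2 : ℤ) * (z ^ 2) ^ (0 : ℤ) * 1 ^ (-1 : ℤ) * z ^ (0 : ℤ) * (z ^ 2) ^ (0 : ℤ) = 1
    simp only [zpow_zero, mul_one, one_mul, zpow_one, one_zpow]
  · refine (zact6' matC _ n2).trans ?_
    show z ^ (-1 : ℤ) * 1 ^ (0 : ℤ) * (z ^ 2) ^ (2 : ℤ) * 1 ^ (-1 : ℤ) * z ^ (0 : ℤ) * (z ^ 2) ^ (0 : ℤ) = 1
    simp only [zpow_zero, mul_one, one_mul, zpow_one, one_zpow]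
    have : z ^ (-1 : ℤ) * (z ^ 2) ^ (2 : ℤ) = z ^ 3 := by group
    rw [this, hz]
  · refine (zact6' matC _ n3).trans ?_
    show z ^ (0 : ℤ) * 1 ^ (-1 : ℤ) * (z ^ 2) ^ (-1 : ℤ) * 1 ^ (2 : ℤ) * z ^ (-1 : ℤ) * (z ^ 2) ^ (0 : ℤ) = 1
    simp only [zpow_zero, mul_one, one_mul, zpow_one, one_zpow]
    have : (z ^ 2) ^ (-1 : ℤ) * z ^ (-1 : ℤ) = (z ^ 3)⁻¹ := by group
    rw [this, hz, inv_one]
  · refine (zact6' matC _ n4).trans ?_
    show z ^ (0 : ℤ) * 1 ^ (0 : ℤ) * (z ^ 2) ^ (0 : ℤ) * 1 ^ (-1 : ℤ) * z ^ (2 : ℤ) * (z ^ 2) ^ (-1 : ℤ) = 1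
    simp only [zpow_zero, mul_one, one_mul, zpow_one, one_zpow]
    group
  · refine (zact6' matC _ n5).trans ?_
    show z ^ (0 : ℤ) * 1 ^ (0 : ℤ) * (z ^ 2) ^ (0 : ℤ) * 1 ^ (0 : ℤ) * z ^ (-1 : ℤ) * (z ^ 2) ^ (2 : ℤ) = 1
    simp only [zpow_zero, mul_one, one_mul, zpow_one, one_zpow]
    have : z ^ (-1 : ℤ) * (z ^ 2) ^ (2 : ℤ) = z ^ 3 := by group
    rw [this, hz]

section
variable {K : Type*} [Field K] [Fintype K] {q : ℕ} (hK : Fintype.card K = q ^ 2)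
  (f : K →+* K) (hf : ∀ x : K, f x = x ^ q)

include hK hf in
theorem tau_vec (a b c d : Kˣ) (hc : Units.map (f : K →* K) c = c) (hd : Units.map (f : K →* K) d = d) :
    tau chevE6 K rho f (vec a c b d (Units.map (f : K →* K) b) (Units.map (f : K →* K) a)) =
      vec a c b d (Units.map (f : K →* K) b) (Units.map (f : K →* K) a) := by
  have hff : ∀ t : Kˣ, Units.map (f : K →* K) (Units.map (f : K →* K) t) = t := fun t =>
    Units.ext (f_f hK f hf t)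
  obtain ⟨r0, r1, r2, r3, r4, r5⟩ := rho_vals
  funext k
  revert k
  apply forall6
  · rw [tau_apply, r0, vec_n5, vec_n0, hff]
  · rw [tau_apply, r1, vec_n1, hc]
  · rw [tau_apply, r2, vec_n4, vec_n2, hff]
  · rw [tau_apply, r3, vec_n3, hd]
  · rw [tau_apply, r4, vec_n2, vec_n4]
  · rw [tau_apply, r5, vec_n0, vec_n5]

include hK hf in
/-- The number of fixed parameters. -/
theorem card_T1 (hq : 1 ≤ q) :
    Nat.card {u : Fin chevE6.rank → Kˣ // tau chevE6 K rho f u = u} = (q - 1) ^ 2 * (q ^ 2 - 1) ^ 2 := by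
  have hF := card_fixed_units hq hK f hf
  have hU : Nat.card Kˣ = q ^ 2 - 1 := by
    classical
    rw [Nat.card_eq_fintype_card, Fintype.card_units, hK]
  obtain ⟨r0, r1, r2, r3, r4, r5⟩ := rho_vals
  let e : {u : Fin chevE6.rank → Kˣ // tau chevE6 K rho f u = u} ≃
      (Kˣ × Kˣ) × ({t : Kˣ // Units.map (f : K →* K) t = t} × {t : Kˣ // Units.map (f : K →* K) t = t}) :=
    { toFun := fun u => ((u.1 n0, u.1 n2),
        (⟨u.1 n1, by have := congrFun u.2 n1; rwa [tau_apply, r1] at this⟩,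
         ⟨u.1 n3, by have := congrFun u.2 n3; rwa [tau_apply, r3] at this⟩))
      invFun := fun p => ⟨vec p.1.1 p.2.1.1 p.1.2 p.2.2.1 (Units.map (f : K →* K) p.1.2)
        (Units.map (f : K →* K) p.1.1), tau_vec hK f hf _ _ _ _ p.2.1.2 p.2.2.2⟩
      left_inv := fun u => by
        apply Subtype.ext
        show vec (u.1 n0) (u.1 n1) (u.1 n2) (u.1 n3) (Units.map (f : K →* K) (u.1 n2))
          (Units.map (f : K →* K) (u.1 n0)) = u.1
        have h4 : Units.map (f : K →* K) (u.1 n2) = u.1 n4 := by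
          have := congrFun u.2 n4
          rwa [tau_apply, r4] at this
        have h5 : Units.map (f : K →* K) (u.1 n0) = u.1 n5 := by
          have := congrFun u.2 n5
          rwa [tau_apply, r5] at this
        rw [h4, h5]
        exact (vec_eta u.1).symm
      right_inv := fun p => rfl }
  rw [Nat.card_congr e, Nat.card_prod, Nat.card_prod, Nat.card_prod, hF, hU]
  ring

include hK hf in
/-- The number of fixed parameters in the kernel. -/
theorem card_Z1 :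
    Nat.card {u : Fin chevE6.rank → Kˣ // tau chevE6 K rho f u = u ∧ u ∈ (torusHom chevE6 K).ker} =
      Nat.gcd 3 (q + 1) := by
  have hU : Nat.card Kˣ = q ^ 2 - 1 := by
    classical
    rw [Nat.card_eq_fintype_card, Fintype.card_units, hK]
  have hdvd : Nat.gcd 3 (q + 1) ∣ Nat.card Kˣ := by
    rw [hU]
    refine dvd_trans (Nat.gcd_dvd_right 3 (q + 1)) ?_
    have : q ^ 2 - 1 = (q + 1) * (q - 1) := by
      rw [← Nat.sq_sub_sq, one_pow]
    rw [this]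
    exact dvd_mul_right _ _
  rw [← card_two_pows (G := Kˣ) 3 (q + 1) hdvd]
  obtain ⟨r0, r1, r2, r3, r4, r5⟩ := rho_vals
  have hfu : ∀ t : Kˣ, Units.map (f : K →* K) t = t ^ q := fun t => by
    apply Units.ext
    rw [Units.val_pow_eq_pow_val, ← hf]
    rfl
  have hker := mem_ker_torusHom chevE6 K (Helper36_ChevDataE6T.facts K) Helper36_ChevDataE6HO.rootInd
  apply Nat.card_congr
  refine
    { toFun := fun u => ⟨u.1 n0, ?_⟩
      invFun := fun z => ⟨vec z.1 1 (z.1 ^ 2) 1 z.1 (z.1 ^ 2), ?_, ?_⟩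
      left_inv := ?_
      right_inv := fun z => rfl }
  · obtain ⟨h0, h1, h2, h3, h4, h5⟩ := rels u.1 ((hker u.1).mp u.2.2)
    refine ⟨h0, ?_⟩
    have h5' : Units.map (f : K →* K) (u.1 n0) = u.1 n5 := by
      have := congrFun u.2.1 n5
      rwa [tau_apply, r5] at this
    rw [hfu, h5] at h5'
    rw [pow_succ, h5', ← pow_succ]
    exact h0
  · have hz3 := z.2.1
    have hzq : z.1 ^ q = z.1 ^ 2 := by
      have h1 := z.2.2
      rw [pow_succ] at h1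
      have h2 : z.1 ^ 2 * z.1 = 1 := by rw [← pow_succ]; exact hz3
      exact mul_right_cancel (h1.trans h2.symm)
    have hz4 : (z.1 ^ 2) ^ 2 = z.1 := by
      have : (z.1 ^ 2) ^ 2 = z.1 ^ 3 * z.1 := by group
      rw [this, hz3, one_mul]
    funext k
    revert k
    apply forall6
    · rw [tau_apply, r0, vec_n5, vec_n0, hfu, ← pow_mul, mul_comm, pow_mul, hzq, hz4]
    · rw [tau_apply, r1, vec_n1, map_one]
    · rw [tau_apply, r2, vec_n4, vec_n2, hfu, hzq]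
    · rw [tau_apply, r3, vec_n3, map_one]
    · rw [tau_apply, r4, vec_n2, vec_n4, hfu, ← pow_mul, mul_comm, pow_mul, hzq, hz4]
    · rw [tau_apply, r5, vec_n0, vec_n5, hfu, hzq]
  · rw [hker]
    exact ker_vec z.1 z.2.1
  · intro u
    apply Subtype.ext
    obtain ⟨h0, h1, h2, h3, h4, h5⟩ := rels u.1 ((hker u.1).mp u.2.2)
    show vec (u.1 n0) 1 (u.1 n0 ^ 2) 1 (u.1 n0) (u.1 n0 ^ 2) = u.1
    conv_rhs => rw [vec_eta u.1, h1, h2, h3, h4, h5]

include hK hf in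
/-- `gcd(3, q + 1) |H ∩ ²E₆(q)| = (q - 1)^4 (q + 1)^2`. -/
theorem card_diag' (hq : 1 ≤ q) :
    Nat.gcd 3 (q + 1) * Nat.card ↥(chevE6.diagonalSubgroup K ⊓ twistedE6 K q) = (q - 1) ^ 4 * (q + 1) ^ 2 := by
  rw [← card_Z1 hK f hf, card_diag_aux hK f hf, card_T1 hK f hf hq]
  have : q ^ 2 - 1 = (q + 1) * (q - 1) := by
    rw [← Nat.sq_sub_sq, one_pow]
  rw [this]
  ring

end

/-- `gcd(3, q + 1) |H ∩ ²E₆(q)| = (q - 1)^4 (q + 1)^2`. -/
theorem card_diag {K : Type*} [Field K] [Fintype K] {q : ℕ} (hq : IsPrimePow q) (hK : Fintype.card K = q ^ 2) :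
    Nat.gcd 3 (q + 1) * Nat.card ↥(chevE6.diagonalSubgroup K ⊓ twistedE6 K q) = (q - 1) ^ 4 * (q + 1) ^ 2 := by
  obtain ⟨f, hf⟩ := Cfsg.Agent.Lib.Helper36_TwistF.exists_frob hq hK
  exact card_diag' hK f hf hq.pos

end Cfsg.Agent.Lib.Helper36_TwistHE6
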