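import Cfsg.Agent.Lib.Helper36_TwistCore
import Cfsg.Agent.Lib.Helper36_TwistBNE6
import Cfsg.Agent.Lib.Helper36_ChevDataE6Ht

set_option autoImplicit false

/-!
The core of `B ∩ ²E₆(q)` in `²E₆(q)` is trivial.
-/

namespace Cfsg.Agent.Lib.Helper36_TwistCoreE6

open Cfsg Cfsg.Lie Cfsg.Agent.Lib.Helper36_ChevTorus Cfsg.Agent.Lib.Helper36_ChevTorusAll
  Cfsg.Agent.Lib.Helper36_ChevW0 Cfsg.Agent.Lib.Helper36_ChevW0All Cfsg.Agent.Lib.Helper36_ChevTables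
  Cfsg.Agent.Lib.Helper36_ChevOrder Cfsg.Agent.Lib.Helper36_ChevOrderAll Cfsg.Agent.Lib.Helper36_WeylChain
  Cfsg.Agent.Lib.Helper36_WeylLit Cfsg.Agent.Lib.Helper36_WeylLit.RootLit
  Cfsg.Agent.Lib.Helper36_TwistU Cfsg.Agent.Lib.Helper36_TwistW Cfsg.Agent.Lib.Helper36_TwistWeyl
  Cfsg.Agent.Lib.Helper36_TwistOrder Cfsg.Agent.Lib.Helper36_TwistTabE6 Cfsg.Agent.Lib.Helper36_TwistE6
  Cfsg.Agent.Lib.Helper36_TwistWeylE6 Cfsg.Agent.Lib.Helper36_ChevDataE6Lit Cfsg.Agent.Lib.Helper36_ChevDataE6LitOK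
  Cfsg.Agent.Lib.Helper36_TwistOrderE6 Cfsg.Agent.Lib.Helper36_TwistBN Cfsg.Agent.Lib.Helper36_TwistBNE6
  Cfsg.Agent.Lib.Helper36_TwistCore Cfsg.Agent.Lib.Helper36_ChevBorel

/-- A word for the longest element in the twisted reflections. -/
def w0t : List ℕ := [3, 2, 1, 3, 2, 0, 1, 3, 2, 0, 1, 3, 2, 0, 1, 3, 2, 0, 1, 3, 2, 0, 1, 0]

theorem w0tOK : (∀ a ∈ w0t, a < 4) ∧ ∀ s < lit.n, lit.ps s = true → lit.ps (evalWord lit' w0t s) = false := by
  decide +kernel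

/-- The core of `B ∩ ²E₆(q)` in `²E₆(q)` is trivial. -/
theorem core_bot {K : Type*} [Field K] [Fintype K] {q : ℕ} (hq : IsPrimePow q) (hK : Fintype.card K = q ^ 2) :
    ((chevE6.borelSubgroup K ⊓ twistedE6 K q).subgroupOf (twistedE6 K q)).normalCore = ⊥ := by
  obtain ⟨f, hf⟩ := Cfsg.Agent.Lib.Helper36_TwistF.exists_frob hq hK
  have h1036 := Cfsg.Agent.S1036.result (F := K) chevE6 hD
  have hF := facts_of_mem chevE6 hD K
  have X := twData hK f hf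
  have Y := genData hK f hf
  have hx0W : lit'.wPerm wf' w0t ∈ lit'.W wf' (List.range 4) :=
    lit'.wPerm_mem wf' _ _ (fun a ha => List.mem_range.mpr (w0tOK.1 a ha))
  obtain ⟨m, hmS, hmact⟩ := Y.rep _ hx0W
  have hmN : (m : GL chevE6.Idx K) ∈ chevE6.monomialSubgroup K := by
    have hle : Subgroup.closure (S1 (twistedE6 K q) 4 fun a => nJ dc K (Js.getD a [])) ≤
        (chevE6.monomialSubgroup K ⊓ twistedE6 K q).subgroupOf (twistedE6 K q) := by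
      rw [Subgroup.closure_le]
      rintro s ⟨a, ha, hs⟩
      rw [SetLike.mem_coe, Subgroup.mem_subgroupOf, hs]
      exact ⟨Y.sN a ha, Y.sG a ha⟩
    exact (Subgroup.mem_subgroupOf.mp (hle hmS)).1
  refine twisted_core hF X litOK (chainOK_of_mem chevE6 hD) h1036.1 h1036.2
    (borel_inf_negBorel chevE6 K _ _ _ hF (chainOK_of_mem chevE6 hD) Cfsg.Agent.Lib.Helper36_ChevDataE6Ht.htOK)
    hmN hmact ?_ m.2 clsOK ?_
  · intro r hr
    have h := w0tOK.2 r r.2 hr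
    rw [← wPerm_eval lit' wf' w0t w0tOK.1 r] at h
    exact h
  · intro p hp
    obtain ⟨-, -, -, -, -, h6, -⟩ := classesOK p hp
    refine ⟨1, one_ne_zero, ?_⟩
    rw [closes_iff p h6]
    exact Function.iterate_fixed (map_one f) _

end Cfsg.Agent.Lib.Helper36_TwistCoreE6
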