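import Cfsg.Agent.Lib.Helper36_TwistPerf
import Cfsg.Agent.Lib.Helper36_TwistHE6

set_option autoImplicit false
set_option linter.unusedSimpArgs false

/-!
The twisted group of type `²E₆` is perfect.
-/

namespace Cfsg.Agent.Lib.Helper36_TwistPerfE6

open Cfsg Cfsg.Lie Cfsg.Agent.Lib.Helper18_ChevFast Cfsg.Agent.Lib.Helper18_ChevEngine
  Cfsg.Agent.Lib.Helper18_ChevN Cfsg.Agent.Lib.Helper18_ChevWeyl
  Cfsg.Agent.Lib.Helper18_ChevGL Cfsg.Agent.Lib.Helper18_ChevTri
  Cfsg.Agent.Lib.Helper18_ChevAdd Cfsg.Agent.Lib.Helper18_ChevUni Cfsg.Agent.Lib.Helper18_ChevBN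
  Cfsg.Agent.Lib.Helper36_TwistU Cfsg.Agent.Lib.Helper36_TwistW Cfsg.Agent.Lib.Helper36_TwistH
  Cfsg.Agent.Lib.Helper36_TwistTabE6 Cfsg.Agent.Lib.Helper36_TwistE6 Cfsg.Agent.Lib.Helper36_TwistHE6
  Cfsg.Agent.Lib.Helper36_ChevTorus Cfsg.Agent.Lib.Helper36_ChevHOrder Cfsg.Agent.Lib.Helper36_ChevTables
  Cfsg.Agent.Lib.Helper36_TwistPerf

/-- The two classes the chain starts from. -/
def pBase : List (List ℕ) := [[47], [56, 36]]

/-- The chain reaching the classes of the generators. -/
def pSteps : List (List ℕ × List ℕ) :=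
  [([39], [1]), ([46], [3]), ([15, 35], [0, 5]), ([57, 38], [2, 4]), ([32], [3]), ([25], [1]), ([14, 33], [2, 4]),
    ([42, 37], [0, 5]), ([29, 34], [0, 5])]

theorem pChainOK : chainValid chevE6 pBase pSteps = true := by decide +kernel

theorem pStepsOK : ∀ st ∈ pSteps, st.2 ∈ Js := by decide +kernel

theorem pReachOK : ∀ S ∈ [[46], [25], [39], [32], [56, 36], [15, 35], [42, 37], [29, 34]],
    S ∈ chainOut pBase pSteps := by decide +kernel

theorem termsOK : chevE6.commTerms 39 46 = [(47, 1, 1, 1)] ∧ (39 < chevE6.nroots) ∧ (46 < chevE6.nroots) ∧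
    (46 ≠ chevE6.neg 39) := by decide +kernel

theorem memOK : ((47, 1) : ℕ × ℕ) ∈ cls ∧ ((56, 2) : ℕ × ℕ) ∈ cls ∧ ((56, 2) : ℕ × ℕ) ∈ gens := by decide +kernel

theorem orbOK' : orbRoots pi 1 47 = [47] ∧ orbRoots pi 2 56 = [56, 36] := by decide +kernel

theorem cartanOK : chevE6.cartan 0 56 = 2 ∧ chevE6.cartan 5 56 = 0 := by decide +kernel

/-- A unit whose square is not `1`, in a field with at least four elements. -/
theorem exists_sq_ne_one {K : Type*} [Field K] [Fintype K] (h : 4 ≤ Fintype.card K) :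
    ∃ a : Kˣ, ((a : K)) ^ 2 ≠ 1 := by
  by_contra hcon
  simp only [not_exists, not_not] at hcon
  have h1 : ∀ a : Kˣ, a ^ 2 = 1 := by
    intro a
    apply Units.ext
    rw [Units.val_pow_eq_pow_val, Units.val_one]
    exact hcon a
  have h2 : Monoid.exponent Kˣ ∣ 2 := Monoid.exponent_dvd_of_forall_pow_eq_one h1
  rw [IsCyclic.exponent_eq_card, Nat.card_units, Nat.card_eq_fintype_card] at h2
  have := Nat.le_of_dvd (by norm_num) h2
  omega

section

variable {K : Type*} [Field K] [Fintype K] {q : ℕ} (hq : IsPrimePow q) (hK : Fintype.card K = q ^ 2)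
  (f : K →+* K) (hf : ∀ x : K, f x = x ^ q)

include hq hK hf in
/-- The twisted group is contained in its derived subgroup. -/
theorem le_commutator : twistedE6 K q ≤ ⁅twistedE6 K q, twistedE6 K q⁆ := by
  have hfix := fixed hK f hf
  have hF := Helper36_ChevDataE6T.facts K
  obtain ⟨hterms, h39, h46, hneg⟩ := termsOK
  obtain ⟨hm47, hm56, hg56⟩ := memOK
  obtain ⟨ho47, ho56⟩ := orbOK'
  -- the class of the root `47`
  have hgood47 : Good dc (sig f) ⁅twistedE6 K q, twistedE6 K q⁆ [47] := by
    rw [← ho47]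
    apply good_comm certs (twist f) (twistedE6 K q) 39 46 47 h39 h46 (by decide) hneg hterms (classOK _ hm47)
    · intro x hx
      obtain ⟨-, -, -, -, -, h6, -⟩ := classesOK _ hm47
      rw [closes_iff _ h6, Function.iterate_one, hf] at hx
      rw [← wordGL_single]
      apply single_mem 39 (by simp [e6p4])
      rw [← hf, map_neg, hf, hx]
    · rw [← wordGL_single]
      exact single_mem 46 (by simp [e6p2]) 1 (one_pow q)
  -- the class of the roots `56, 36`
  have hgood56 : Good dc (sig f) ⁅twistedE6 K q, twistedE6 K q⁆ [56, 36] := by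
    have h4 : 4 ≤ Fintype.card K := by
      rw [hK]
      have := hq.two_le
      nlinarith
    obtain ⟨a, ha⟩ := exists_sq_ne_one h4
    obtain ⟨s0, s1, s2, s3, s4, s5, m0, m1, m2, m3, m4, m5⟩ := simples
    set u : Fin chevE6.rank → Kˣ := Pi.mulSingle n0 a * Pi.mulSingle n5 (Units.map (f : K →* K) a) with hu
    have hmem : torusHom chevE6 K u ∈ twistedE6 K q :=
      pair_part f hf n0 n5 (crossOK [0, 5] (by decide) 0 (by decide) 5 (by decide) (by decide)) 56 36 15 35
        ⟨s0, s5, m0, m5⟩ (by simp [e6p1, e6p6]) (by simp [e6m1, e6m6]) a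
    have hval : ((chi chevE6 K (ext chevE6 K u) 56 : Kˣ) : K) = (a : K) ^ 2 := by
      rw [hu, ext_mul, chi_mul, ext_mulSingle, ext_mulSingle, Pi.mul_apply,
        chi_single chevE6 K _ (by decide), chi_single chevE6 K _ (by decide)]
      rw [show ((n0 : Fin chevE6.rank) : ℕ) = 0 from rfl, show ((n5 : Fin chevE6.rank) : ℕ) = 5 from rfl,
        cartanOK.1, cartanOK.2]
      simp
    rw [← ho56]
    apply good_torus certs (twist f) chainOK_E6 (twistedE6 K q) (chi chevE6 K (ext chevE6 K u))
      (isRootCharacter_chi chevE6 K hF.hca _) (hfix _ hmem) hmem (56, 2) (classOK _ hm56)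
      (fun t => closes_pair hK f hf _ hg56 rfl t)
      (fun t => gen_mem hK f hf _ hg56 t (closes_pair hK f hf _ hg56 rfl t))
    rw [hval]
    exact ha
  -- all classes of the chain
  have hchain := chain_good' (σ := sig f) certs ⁅twistedE6 K q, twistedE6 K q⁆ Js
    (fun J hJ => ⟨JsOK J hJ, hfix _ (nJ_mem f hf J hJ),
      fun g hg => conj_mem_commutator (twistedE6 K q) _ g (nJ_mem f hf J hJ) hg⟩)
    pSteps pBase pStepsOK (by
      intro S hS
      simp only [pBase, List.mem_cons, List.not_mem_nil, or_false] at hS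
      rcases hS with rfl | rfl
      · exact hgood47
      · exact hgood56) pChainOK
  -- the generators
  have key : ∀ (S : List ℕ), S ∈ [[46], [25], [39], [32], [56, 36], [15, 35], [42, 37], [29, 34]] →
      ∀ wd : List (ℕ × K), (∀ l ∈ wd, l.1 ∈ S) → wordGL dc wd ∈ twistedE6 K q →
      wordGL dc wd ∈ ⁅twistedE6 K q, twistedE6 K q⁆ := by
    intro S hS wd hwd hmem
    exact hchain S (pReachOK S hS) _ (wordGL_mem_XS dc S wd hwd) (hfix _ hmem)
  intro g hg
  have hg' := hg
  unfold twistedE6 ChevalleyDatum.genSubgroup at hg'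
  induction hg' using Subgroup.closure_induction with
  | mem g hgen =>
    have hgG : g ∈ twistedE6 K q := Subgroup.subset_closure hgen
    obtain ⟨wd, hwd, hgw⟩ := hgen
    have e := eq_wordGL dc hgw
    rw [e] at hgG ⊢
    rcases hwd with ⟨t, ht, r, hr, rfl⟩ | ⟨t, rs, hrs, rfl⟩
    · simp only [List.mem_cons, List.not_mem_nil, or_false] at hr
      rcases hr with rfl | rfl | rfl | rfl
      · exact key [46] (by simp) _ (by simp [e6p2]) hgG
      · exact key [25] (by simp) _ (by simp [e6m2]) hgG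
      · exact key [39] (by simp) _ (by simp [e6p4]) hgG
      · exact key [32] (by simp) _ (by simp [e6m4]) hgG
    · simp only [List.mem_cons, List.not_mem_nil, or_false] at hrs
      rcases hrs with rfl | rfl | rfl | rfl
      · exact key [56, 36] (by simp) _ (by simp [e6p1, e6p6]) hgG
      · exact key [15, 35] (by simp) _ (by simp [e6m1, e6m6]) hgG
      · exact key [42, 37] (by simp) _ (by simp [e6p3, e6p5]) hgG
      · exact key [29, 34] (by simp) _ (by simp [e6m3, e6m5]) hgG
  | one => exact Subgroup.one_mem _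
  | mul a b _ _ iha ihb => exact Subgroup.mul_mem _ (iha (by assumption)) (ihb (by assumption))
  | inv a _ iha => exact Subgroup.inv_mem _ (iha (by assumption))

include hq hK in
/-- `²E₆(q)` is perfect. -/
theorem perfect : commutator ↥(twistedE6 K q) = ⊤ := by
  obtain ⟨f, hf⟩ := Cfsg.Agent.Lib.Helper36_TwistF.exists_frob hq hK
  have heq : ⁅twistedE6 K q, twistedE6 K q⁆ = twistedE6 K q :=
    le_antisymm (Subgroup.commutator_le_self _) (le_commutator hq hK f hf)
  apply Subgroup.map_injective (twistedE6 K q).subtype_injective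
  rw [Subgroup.map_subtype_commutator, heq, ← MonoidHom.range_eq_map, Subgroup.range_subtype]

end

end Cfsg.Agent.Lib.Helper36_TwistPerfE6
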