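import Cfsg.Agent.Lib.Helper36_E6OutDiag
import Cfsg.Agent.Lib.Helper36_E6OutFA
import Cfsg.Agent.Lib.Helper36_ChainOutAlg
import Cfsg.Agent.Lib.Helper36_TwistSimpleE6

set_option autoImplicit false
set_option maxRecDepth 100000

/-!
The outer automorphism group of the twisted group of type `²E₆` over the field with `q ^ 2` elements, `q = p ^ f`,
has order `2 gcd(3, q + 1) f`: the data of the abstract chain argument are verified for the concrete group.
-/

namespace Cfsg.Agent.Lib.Helper36_E6Out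

open Cfsg Cfsg.Lie Cfsg.Agent.Lib.Helper18_ChevFast Cfsg.Agent.Lib.Helper18_ChevEngine
  Cfsg.Agent.Lib.Helper18_ChevN Cfsg.Agent.Lib.Helper18_ChevWeyl
  Cfsg.Agent.Lib.Helper18_ChevGL
  Cfsg.Agent.Lib.Helper36_ChevTorus Cfsg.Agent.Lib.Helper36_ChevTorusAll Cfsg.Agent.Lib.Helper36_ChevBorel
  Cfsg.Agent.Lib.Helper36_ChevW0 Cfsg.Agent.Lib.Helper36_ChevW0All
  Cfsg.Agent.Lib.Helper36_ChevTables Cfsg.Agent.Lib.Helper36_ChevHOrder
  Cfsg.Agent.Lib.Helper36_ChevOrder Cfsg.Agent.Lib.Helper36_ChevOrderAll Cfsg.Agent.Lib.Helper36_WeylChain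
  Cfsg.Agent.Lib.Helper36_WeylLit Cfsg.Agent.Lib.Helper36_WeylLit.RootLit
  Cfsg.Agent.Lib.Helper36_ChevDataE6Lit Cfsg.Agent.Lib.Helper36_ChevDataE6LitOK
  Cfsg.Agent.Lib.Helper36_TwistU Cfsg.Agent.Lib.Helper36_TwistW Cfsg.Agent.Lib.Helper36_TwistH
  Cfsg.Agent.Lib.Helper36_TwistWeyl Cfsg.Agent.Lib.Helper36_TwistWeylE6
  Cfsg.Agent.Lib.Helper36_TwistOrder Cfsg.Agent.Lib.Helper36_TwistTabE6 Cfsg.Agent.Lib.Helper36_TwistE6
  Cfsg.Agent.Lib.Helper36_TwistOrderE6 Cfsg.Agent.Lib.Helper36_TwistBNE6 Cfsg.Agent.Lib.Helper36_TwistCoreE6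
  Cfsg.Agent.Lib.Helper36_TwistBN Cfsg.Agent.Lib.Helper36_TwistAbs Cfsg.Agent.Lib.Helper36_TwistAbsOrder
  Cfsg.Agent.Lib.Helper36_TwistCellCore Cfsg.Agent.Lib.Helper36_CellAut2 Cfsg.Agent.Lib.Helper36_CellAut3
  Cfsg.Agent.Lib.Helper36_E6OutCells Cfsg.Agent.Lib.Helper36_E6OutWeyl Cfsg.Agent.Lib.Helper36_E6OutCore
  Cfsg.Agent.Lib.Helper36_TwistHE6 Cfsg.Agent.Lib.Helper36_E6OutParam Cfsg.Agent.Lib.Helper36_E6OutTorus
  Cfsg.Agent.Lib.Helper36_E6OutGens Cfsg.Agent.Lib.Helper36_E6OutDg Cfsg.Agent.Lib.Helper36_E6OutDiag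
  Cfsg.Agent.Lib.Helper36_E6OutFA Cfsg.Agent.Lib.Helper36_ChainOutAlg Cfsg.Agent.Lib.Helper18_ChevFrob

section final

variable {K : Type*} [Field K] [Fintype K] {q : ℕ} (hq : IsPrimePow q) (hK : Fintype.card K = q ^ 2)
  (f : K →+* K) (hf : ∀ x : K, f x = x ^ q) {p : ℕ} [hp : Fact p.Prime] (hpq : p ∣ q)

/-- The order of the chain of the generators. -/
def Ich (m : ℕ) : Fin 4 :=
  match m with
  | 0 => 2
  | 1 => 3
  | 2 => 1
  | _ => 0

/-- The node of a generator whose parameter acts on its root subgroup. -/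
def node (i : Fin 4) : Fin chevE6.rank := (![n1, n3, n0, n2] : Fin 4 → Fin chevE6.rank) i

include hK hf in
/-- The action of the diagonal automorphisms on the root subgroups of the simple classes. -/
theorem dg_yS (c : That K f) (i : Fin 4) (t : K) :
    dg c.1 * yS dc pi eps f (posCls i) t * (dg c.1)⁻¹ =
      yS dc pi eps f (posCls i) ((c.1 (node i) : K) * t) := by
  fin_cases i
  · exact dg_yS46 f c.1 t
  · exact dg_yS39 f c.1 t
  · exact dg_yS56 hK f hf c.1 c.2 t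
  · exact dg_yS42 hK f hf c.1 c.2 t

theorem δ_xg (c : That K f) (i : Fin 4) (t : K) (ht : Closes pi eps f (posCls i) t) (y : ↥(twistedE6 K q)) (s : K)
    (ey : y.1 = yS dc pi eps f (posCls i) s) (hs : (c.1 (node i) : K) * t = s) :
    δ hK f hf c (xg hK f hf i t ht) = y := by
  apply Subtype.ext
  rw [δ_coe]
  show dg c.1 * yS dc pi eps f (posCls i) t * (dg c.1)⁻¹ = y.1
  rw [dg_yS hK f hf c i t, hs, ey]

/-- The diagonal automorphisms are good. -/
theorem good_δ (c : That K f) : (cellC hq hK f hf hpq).Good (δ hK f hf c) := by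
  refine ⟨?_, ?_, ?_⟩
  · intro x
    show x ∈ U1 chevE6 K (twistedE6 K q) ↔ δ hK f hf c x ∈ U1 chevE6 K (twistedE6 K q)
    rw [mem_U1, mem_U1, δ_coe]
    exact dg_pos_iff c.1 x.1
  · intro x
    show x ∈ H1 chevE6 K (twistedE6 K q) ↔ δ hK f hf c x ∈ H1 chevE6 K (twistedE6 K q)
    rw [mem_H1, mem_H1, δ_coe]
    exact dg_diag_iff c.1 x.1
  · refine ⟨δ hK f hf c (nw1 (twAbs hK f hf) w0) * (nw1 (twAbs hK f hf) w0)⁻¹, ?_, by
      show δ hK f hf c (nw1 (twAbs hK f hf) w0) =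
        δ hK f hf c (nw1 (twAbs hK f hf) w0) * (nw1 (twAbs hK f hf) w0)⁻¹ * nw1 (twAbs hK f hf) w0
      group⟩
    show _ ∈ H1 chevE6 K (twistedE6 K q)
    rw [mem_H1]
    exact dg_mono c.1 _ (rp_N (twAbs hK f hf) w0)

include hq hK in
/-- The centre of the twisted group is trivial. -/
theorem center_triv (h : ↥(twistedE6 K q)) (hc : ∀ g : ↥(twistedE6 K q), h * g * h⁻¹ = g) : h = 1 := by
  obtain ⟨hs, hnc⟩ := Cfsg.Agent.Lib.Helper36_TwistSimpleE6.simple hq hK
  have hmem : h ∈ Subgroup.center ↥(twistedE6 K q) := by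
    rw [Subgroup.mem_center_iff]
    intro g
    have := hc g
    rw [mul_inv_eq_iff_eq_mul] at this
    exact this.symm
  rcases hs.eq_bot_or_eq_top_of_normal (Subgroup.center _) inferInstance with e | e
  · rw [e] at hmem
    exact Subgroup.mem_bot.mp hmem
  · exfalso
    apply hnc
    refine ⟨⟨fun a b => ?_⟩⟩
    have ha : a ∈ Subgroup.center ↥(twistedE6 K q) := e ▸ Subgroup.mem_top a
    exact (Subgroup.mem_center_iff.mp ha b).symm

end final

section data

variable {K : Type*} [Field K] [Fintype K] {q : ℕ} (hq : IsPrimePow q) (hK : Fintype.card K = q ^ 2)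
  (f : K →+* K) (hf : ∀ x : K, f x = x ^ q) {p : ℕ} [hp : Fact p.Prime] (hpq : p ∣ q)

/-- A diagonal automorphism is determined on a root subgroup by the parameter of the node. -/
theorem node_eq (c c' : That K f) (i : Fin 4) (h : δ hK f hf c (eg hK f hf i) = δ hK f hf c' (eg hK f hf i)) :
    c.1 (node i) = c'.1 (node i) := by
  have h2 := congrArg Subtype.val h
  rw [δ_coe, δ_coe] at h2
  have h3 : dg c.1 * yS dc pi eps f (posCls i) 1 * (dg c.1)⁻¹ =
      dg c'.1 * yS dc pi eps f (posCls i) 1 * (dg c'.1)⁻¹ := h2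
  rw [dg_yS hK f hf c i 1, dg_yS hK f hf c' i 1, mul_one, mul_one] at h3
  exact Units.ext (yS_inj f i _ _ h3)

omit [Fintype K] in
theorem fixed_n5 (c : That K f) : c.1 n5 = Units.map (f : K →* K) (c.1 n0) := by
  have := congrFun c.2 n5
  rw [tau_apply, rho_vals.2.2.2.2.2] at this
  exact this.symm

omit [Fintype K] in
theorem fixed_n4 (c : That K f) : c.1 n4 = Units.map (f : K →* K) (c.1 n2) := by
  have := congrFun c.2 n4
  rw [tau_apply, rho_vals.2.2.2.2.1] at this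
  exact this.symm

/-- The data of the abstract chain argument. -/
noncomputable def chainData : ChainData ↥(twistedE6 K q) K W1 (That K f) p where
  C := cellC hq hK f hf hpq
  special0 := special_w0 hq hK f hf hpq
  sq0 := sq0 hq hK f hf hpq
  k := 3
  I := fun m => gW (Ich m)
  root := fun m _ => rootCell hq hK f hf hpq (Ich m)
  xB := xB hK f hf
  mem_UwB := mem_UwB hK f hf
  xB_add := xB_add hK f hf
  xB_inj := xB_inj hK f hf
  actB := actB hK f hf
  surjB := surjB hK f hf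
  e := fun m => eg hK f hf (Ich m)
  e_mem := fun m _ _ => eg_mem hK f hf (Ich m)
  e_ne := fun m _ _ => eg_ne hK f hf (Ich m)
  trans := by
    intro m h1 hm y hy hy1
    interval_cases m
    · exact trans23 hK f hf y hy hy1
    · exact trans31 hq hK f hf y hy hy1
    · exact trans10 hK f hf y hy hy1
  gen := by
    rw [eq_top_iff, ← gen_top hK f hf]
    apply Subgroup.closure_mono
    have hsurj : ∀ a : Fin 4, ∃ m ≤ 3, Ich m = a := by decide
    rintro g (⟨a, hg⟩ | ⟨a, y, hy, hg⟩)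
    · obtain ⟨m, hm, rfl⟩ := hsurj a
      exact Or.inl ⟨m, hm, hg⟩
    · obtain ⟨m, hm, rfl⟩ := hsurj a
      exact Or.inr ⟨m, hm, y, hy, hg⟩
  δ := δ hK f hf
  good_δ := good_δ hq hK f hf hpq
  δ_xB := fun c => ⟨c.1 n0, fun t => δ_xg hK f hf c 2 t _ _ _ rfl rfl⟩
  δ_surj := by
    intro b y hy
    obtain ⟨s1, -, e1⟩ := (mem_Uw_gen hK f hf 3 (y 1)).mp (hy 1 le_rfl (by norm_num)).1
    have hs1 : s1 ≠ 0 := param_ne_zero f 3 (y 1) (hy 1 le_rfl (by norm_num)).2 s1 e1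
    obtain ⟨s2, hc2, e2⟩ := (mem_Uw_gen hK f hf 1 (y 2)).mp (hy 2 (by norm_num) (by norm_num)).1
    have hs2 : s2 ≠ 0 := param_ne_zero f 1 (y 2) (hy 2 (by norm_num) (by norm_num)).2 s2 e2
    obtain ⟨s3, hc3, e3⟩ := (mem_Uw_gen hK f hf 0 (y 3)).mp (hy 3 (by norm_num) le_rfl).1
    have hs3 : s3 ≠ 0 := param_ne_zero f 0 (y 3) (hy 3 (by norm_num) le_rfl).2 s3 e3
    have hd : Units.map (f : K →* K) (Units.mk0 s2 hs2) = Units.mk0 s2 hs2 := by
      apply Units.ext
      show f s2 = s2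
      rw [hf, (closes1 f hf s2).mp hc2]
    have hc : Units.map (f : K →* K) (Units.mk0 s3 hs3) = Units.mk0 s3 hs3 := by
      apply Units.ext
      show f s3 = s3
      rw [hf, (closes0 f hf s3).mp hc3]
    refine ⟨⟨pr f b (Units.mk0 s1 hs1) (Units.mk0 s3 hs3) (Units.mk0 s2 hs2),
      tau_vec hK f hf b (Units.mk0 s1 hs1) (Units.mk0 s3 hs3) (Units.mk0 s2 hs2) hc hd⟩,
      fun t => δ_xg hK f hf _ 2 t _ _ _ rfl rfl, ?_⟩
    intro m h1 hm
    interval_cases m
    · exact δ_xg hK f hf _ 3 1 _ (y 1) s1 e1 (by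
        show ((Units.mk0 s1 hs1 : Kˣ) : K) * 1 = s1
        rw [Units.val_mk0, mul_one])
    · exact δ_xg hK f hf _ 1 1 _ (y 2) s2 e2 (by
        show ((Units.mk0 s2 hs2 : Kˣ) : K) * 1 = s2
        rw [Units.val_mk0, mul_one])
    · exact δ_xg hK f hf _ 0 1 _ (y 3) s3 e3 (by
        show ((Units.mk0 s3 hs3 : Kˣ) : K) * 1 = s3
        rw [Units.val_mk0, mul_one])
  δ_inj := by
    intro c c' h1 h2
    have e0 : c.1 n0 = c'.1 n0 := node_eq hK f hf c c' 2 (h1 1)
    have e2 : c.1 n2 = c'.1 n2 := node_eq hK f hf c c' 3 (h2 1 le_rfl (by norm_num))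
    have e3 : c.1 n3 = c'.1 n3 := node_eq hK f hf c c' 1 (h2 2 (by norm_num) (by norm_num))
    have e1 : c.1 n1 = c'.1 n1 := node_eq hK f hf c c' 0 (h2 3 (by norm_num) le_rfl)
    apply Subtype.ext
    funext k
    revert k
    apply forall6
    · exact e0
    · exact e1
    · exact e2
    · exact e3
    · rw [fixed_n4, fixed_n4, e2]
    · rw [fixed_n5, fixed_n5, e0]
  fa := fa K q
  fa_xB := fun τ t => Subtype.ext (mapGL_yS f hf τ 2 t)
  fa_U := fun τ x hx => fa_U τ x hx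
  fa_H := fun τ x hx => fa_H τ x hx
  fa_n0 := fun τ => fa_n0 hK f hf τ
  fa_e := by
    intro τ m _ _
    apply Subtype.ext
    show mapGL chevE6 (τ : K →+* K) (yS dc pi eps f (posCls (Ich m)) 1) = yS dc pi eps f (posCls (Ich m)) 1
    rw [mapGL_yS f hf τ (Ich m) 1, map_one]
  center := fun h _ hc => center_triv hq hK h hc

end data

section count

variable {K : Type*} [Field K] [Fintype K]

/-- The number of automorphisms of a finite field. -/
theorem card_ringAut (p e : ℕ) [Fact p.Prime] [CharP K p] (hK : Fintype.card K = p ^ e) :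
    Nat.card (K ≃+* K) = e := by
  letI : Algebra (ZMod p) K := ZMod.algebra K p
  have hrF : Module.finrank (ZMod p) K = e :=
    Nat.pow_right_injective (Fact.out : p.Prime).two_le (by
      show p ^ Module.finrank (ZMod p) K = p ^ e
      rw [FiniteField.pow_finrank_eq_card, hK])
  have hgal : Nat.card (K ≃ₐ[ZMod p] K) = e := by
    rw [IsGalois.card_aut_eq_finrank, hrF]
  have hcomm : ∀ (fe : K ≃+* K) (r : ZMod p), fe (algebraMap (ZMod p) K r) = algebraMap (ZMod p) K r := by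
    intro fe r
    exact RingHom.congr_fun
      (Subsingleton.elim ((fe : K →+* K).comp (algebraMap (ZMod p) K)) (algebraMap (ZMod p) K)) r
  let e' : (K ≃ₐ[ZMod p] K) ≃ (K ≃+* K) :=
    { toFun := fun σ => (σ : K ≃+* K)
      invFun := fun fe => AlgEquiv.ofRingEquiv (hcomm fe)
      left_inv := fun σ => by
        ext x
        rfl
      right_inv := fun fe => by
        ext x
        rfl }
  rw [← Nat.card_congr e', hgal]

theorem card_H1 {q : ℕ} (hq : IsPrimePow q) (hK : Fintype.card K = q ^ 2) :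
    Nat.gcd 3 (q + 1) * Nat.card (H1 chevE6 K (twistedE6 K q)) = (q - 1) ^ 4 * (q + 1) ^ 2 := by
  unfold H1
  rw [Nat.card_congr (Subgroup.subgroupOfEquivOfLe (inf_le_right : chevE6.diagonalSubgroup K ⊓ twistedE6 K q ≤
    twistedE6 K q)).toEquiv]
  exact card_diag hq hK

/-- The outer automorphism group of the twisted group of type `²E₆` over the field with `p ^ (2 e)` elements has
`2 gcd(3, p ^ e + 1) e` elements. -/
theorem card_out (p e : ℕ) [Fact p.Prime] [CharP K p] (hK : Fintype.card K = p ^ (2 * e)) (he : 1 ≤ e) :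
    Nat.card (Cfsg.Out ↥(twistedE6 K (p ^ e))) = 2 * Nat.gcd 3 (p ^ e + 1) * e := by
  have hp : p.Prime := Fact.out
  have hq : IsPrimePow (p ^ e) := ⟨p, e, Nat.prime_iff.mp hp, he, rfl⟩
  have hK' : Fintype.card K = (p ^ e) ^ 2 := by rw [hK, ← pow_mul, mul_comm]
  obtain ⟨f, hf⟩ := Cfsg.Agent.Lib.Helper36_TwistF.exists_frob hq hK'
  have hpq : p ∣ p ^ e := dvd_pow_self p (by omega)
  have h1 : Nat.card (Cfsg.Out ↥(twistedE6 K (p ^ e))) * Nat.card (H1 chevE6 K (twistedE6 K (p ^ e))) =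
      Nat.card (That K f) * Nat.card (K ≃+* K) := (chainData hq hK' f hf hpq).card_out
  have h3 : Nat.card (That K f) = (p ^ e - 1) ^ 2 * ((p ^ e) ^ 2 - 1) ^ 2 := card_T1 hK' f hf hq.pos
  have h4 := card_ringAut p (2 * e) hK
  have h5 := card_H1 hq hK'
  have hH : 0 < Nat.card (H1 chevE6 K (twistedE6 K (p ^ e))) := Nat.card_pos
  have h6 : (p ^ e) ^ 2 - 1 = (p ^ e + 1) * (p ^ e - 1) := by
    rw [← Nat.sq_sub_sq, one_pow]
  apply Nat.eq_of_mul_eq_mul_right hH
  rw [h1, h3, h4, h6]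
  calc (p ^ e - 1) ^ 2 * ((p ^ e + 1) * (p ^ e - 1)) ^ 2 * (2 * e)
      = ((p ^ e - 1) ^ 4 * (p ^ e + 1) ^ 2) * (2 * e) := by ring
    _ = (Nat.gcd 3 (p ^ e + 1) * Nat.card (H1 chevE6 K (twistedE6 K (p ^ e)))) * (2 * e) := by rw [h5]
    _ = 2 * Nat.gcd 3 (p ^ e + 1) * e * Nat.card (H1 chevE6 K (twistedE6 K (p ^ e))) := by ring

end count

end Cfsg.Agent.Lib.Helper36_E6Out
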