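import Cfsg.Agent.Lib.Helper36_TwistCellCore
import Cfsg.Agent.Lib.Helper36_TwistCoreE6
import Cfsg.Agent.Lib.Helper36_TwistPerfE6
import Cfsg.Agent.Lib.Helper36_TwistWeylHomE6

set_option autoImplicit false
set_option maxRecDepth 100000

/-!
The normal form of the elements of the twisted group of type `²E₆`: the hypotheses of the abstract normal form, the
orders of the cell subgroups, and the subgroup `U¹` as a Sylow subgroup.
-/

namespace Cfsg.Agent.Lib.Helper36_E6OutCells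

open Cfsg Cfsg.Lie Cfsg.Agent.Lib.Helper18_ChevFast Cfsg.Agent.Lib.Helper18_ChevEngine
  Cfsg.Agent.Lib.Helper18_ChevN Cfsg.Agent.Lib.Helper18_ChevWeyl
  Cfsg.Agent.Lib.Helper18_ChevGL Cfsg.Agent.Lib.Helper18_ChevTri
  Cfsg.Agent.Lib.Helper18_ChevAdd Cfsg.Agent.Lib.Helper18_ChevUni
  Cfsg.Agent.Lib.Helper36_ChevTorus Cfsg.Agent.Lib.Helper36_ChevTorusAll Cfsg.Agent.Lib.Helper36_ChevBorel
  Cfsg.Agent.Lib.Helper36_ChevW0 Cfsg.Agent.Lib.Helper36_ChevW0All
  Cfsg.Agent.Lib.Helper36_ChevTables Cfsg.Agent.Lib.Helper36_ChevHOrder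
  Cfsg.Agent.Lib.Helper36_ChevOrder Cfsg.Agent.Lib.Helper36_ChevOrderAll Cfsg.Agent.Lib.Helper36_WeylChain
  Cfsg.Agent.Lib.Helper36_WeylLit Cfsg.Agent.Lib.Helper36_WeylLit.RootLit
  Cfsg.Agent.Lib.Helper36_ChevDataE6Lit Cfsg.Agent.Lib.Helper36_ChevDataE6LitOK
  Cfsg.Agent.Lib.Helper36_TwistU Cfsg.Agent.Lib.Helper36_TwistW Cfsg.Agent.Lib.Helper36_TwistH
  Cfsg.Agent.Lib.Helper36_TwistWeyl Cfsg.Agent.Lib.Helper36_TwistWeylE6
  Cfsg.Agent.Lib.Helper36_TwistOrder Cfsg.Agent.Lib.Helper36_TwistTabE6 Cfsg.Agent.Lib.Helper36_TwistE6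
  Cfsg.Agent.Lib.Helper36_TwistOrderE6 Cfsg.Agent.Lib.Helper36_TwistBNE6 Cfsg.Agent.Lib.Helper36_TwistCoreE6
  Cfsg.Agent.Lib.Helper36_TwistBN Cfsg.Agent.Lib.Helper36_TwistAbs Cfsg.Agent.Lib.Helper36_TwistAbsOrder
  Cfsg.Agent.Lib.Helper36_TwistCellCore Cfsg.Agent.Lib.Helper36_CellAut2

/-- The twisted Weyl group. -/
abbrev W1 : Subgroup (Equiv.Perm (Fin lit.n)) := lit'.W wf' (List.range 4)

/-- The generators of the twisted Weyl group as elements of it. -/
def gW (a : Fin 4) : W1 := ⟨lit'.sPerm wf' a, Subgroup.subset_closure ⟨a, List.mem_range.mpr a.2, rfl⟩⟩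

theorem gW_val (a : Fin 4) : (gW a).1 = lit'.sPerm wf' a := rfl

/-- The simple classes: the generator `0` is the node `1` (root `46`), the generator `1` the node `3` (root `39`), the
generator `2` the nodes `0, 5` (roots `56, 36`), the generator `3` the nodes `2, 4` (roots `42, 37`). -/
def posCls (a : Fin 4) : ℕ × ℕ := (![(46, 1), (39, 1), (56, 2), (42, 2)] : Fin 4 → ℕ × ℕ) a

/-- The opposite classes. -/
def negCls (a : Fin 4) : ℕ × ℕ := (![(25, 1), (32, 1), (15, 2), (29, 2)] : Fin 4 → ℕ × ℕ) a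

theorem posCls_mem : ∀ a : Fin 4, posCls a ∈ cls ∧ posCls a ∈ gens := by decide

theorem negCls_mem : ∀ a : Fin 4, negCls a ∈ gens := by decide

section cells

variable {K : Type*} [Field K] [Fintype K] {q : ℕ} (hq : IsPrimePow q) (hK : Fintype.card K = q ^ 2)
  (f : K →+* K) (hf : ∀ x : K, f x = x ^ q)

/-- The facts on the ambient Chevalley group. -/
abbrev hfK (K : Type*) [Field K] : Facts chevE6 K := facts_of_mem chevE6 hD K

omit [Fintype K] in
theorem hyps : Hyps chevE6 K (hfK K) lit where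
  hl := litOK
  hchain := chainOK_of_mem chevE6 hD
  hc := allConj_of_mem chevE6 hD K
  hN := nGen_of_mem chevE6 hD
  hE := (Cfsg.Agent.S1100.result (F := K) chevE6 hD).1
  hx := xInj_of_mem chevE6 hD
  hx1 := fun r hr a h => (Cfsg.Agent.S1024.result chevE6 hD r hr a).mp h
  hU := (Cfsg.Agent.S1100.result (F := K) chevE6 hD).2
  hUH := (Cfsg.Agent.S1036.result (F := K) chevE6 hD).2
  hUV := (Cfsg.Agent.S1037.result chevE6 hD).1
  hNU := normalizer_pos chevE6 hD noZero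
  hBN := (Cfsg.Agent.S1040.result chevE6 hD).2
  hnorm := (Cfsg.Agent.S1036.result (F := K) chevE6 hD).1
  bn := by
    obtain ⟨P, hPB, hPN, -⟩ := Cfsg.Agent.S1042.result (F := K) chevE6 hD
    exact ⟨P, hPB, hPN⟩

include hK hf in
/-- The abstract normal form of the twisted group. -/
theorem twAbs : TwAbs (hfK K) lit wf piPerm W1 (twistedE6 K q) := twAbs_of_twData (twData hK f hf) hyps

include hq hK hf in
theorem cardCls : ∀ p ∈ cls, Nat.card {t : K // Closes pi eps f p t} = q ^ p.2 := by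
  intro p hp
  obtain ⟨-, -, -, -, -, h6, h7⟩ := classesOK p hp
  exact card_closes hq (by norm_num) hK hf p h6 h7

include hq in
/-- The orders of the cell subgroups. -/
theorem card_Uw (x : W1) : Nat.card (Uw1 (twAbs hK f hf) x) = q ^ inv lit.Pos x.1 :=
  card_Uw1 (twData hK f hf) hyps clsOK hq.pos (cardCls hq hK f hf) x

include hq in
/-- Two cell subgroups of the same order belong to elements with the same number of inversions. -/
theorem inv_eq_of_card (x y : W1)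
    (h : Nat.card (Uw1 (twAbs hK f hf) x) = Nat.card (Uw1 (twAbs hK f hf) y)) :
    inv lit.Pos x.1 = inv lit.Pos y.1 := by
  rw [card_Uw hq hK f hf, card_Uw hq hK f hf] at h
  exact Nat.pow_right_injective hq.two_le h

end cells

section core

variable {K : Type*} [Field K] [Fintype K] {q : ℕ} (hq : IsPrimePow q) (hK : Fintype.card K = q ^ 2)
  (f : K →+* K) (hf : ∀ x : K, f x = x ^ q) {p : ℕ} [hp : Fact p.Prime] (hpq : p ∣ q)

include hq hK in
theorem card_U1 : Nat.card (U1 chevE6 K (twistedE6 K q)) = q ^ 36 := by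
  unfold U1
  rw [Nat.card_congr (Subgroup.subgroupOfEquivOfLe (inf_le_right : chevE6.posUnipotent K ⊓ twistedE6 K q ≤
    twistedE6 K q)).toEquiv, card_U hq hK]

theorem not_dvd_pred {p n : ℕ} (hp : p.Prime) (h : p ∣ n) (hn : 1 ≤ n) : ¬ p ∣ n - 1 := by
  intro h2
  have h3 : p ∣ n - (n - 1) := Nat.dvd_sub h h2
  rw [Nat.sub_sub_self hn] at h3
  exact hp.one_lt.ne' (Nat.dvd_one.mp h3)

theorem not_dvd_succ {p n : ℕ} (hp : p.Prime) (h : p ∣ n) : ¬ p ∣ n + 1 := by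
  intro h2
  have h3 : p ∣ n + 1 - n := Nat.dvd_sub h2 h
  rw [Nat.add_sub_cancel_left] at h3
  exact hp.one_lt.ne' (Nat.dvd_one.mp h3)

include hq hK in
theorem index_U1_dvd : (U1 chevE6 K (twistedE6 K q)).index ∣
    (q ^ 2 - 1) * (q ^ 5 + 1) * (q ^ 6 - 1) * (q ^ 8 - 1) * (q ^ 9 + 1) * (q ^ 12 - 1) := by
  have h := (U1 chevE6 K (twistedE6 K q)).card_mul_index
  rw [card_U1 hq hK] at h
  have h2 := card_twistedE6 hq hK
  rw [← h] at h2
  have hpos : 0 < q ^ 36 := pow_pos hq.pos 36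
  refine ⟨Nat.gcd 3 (q + 1), ?_⟩
  apply Nat.eq_of_mul_eq_mul_left hpos
  have e : q ^ 36 * ((q ^ 2 - 1) * (q ^ 5 + 1) * (q ^ 6 - 1) * (q ^ 8 - 1) * (q ^ 9 + 1) * (q ^ 12 - 1)) =
      q ^ 36 * (q ^ 2 - 1) * (q ^ 5 + 1) * (q ^ 6 - 1) * (q ^ 8 - 1) * (q ^ 9 + 1) * (q ^ 12 - 1) := by
    simp only [mul_assoc]
  rw [e, ← h2]
  ring

include hq hK hpq in
theorem sylow_U1 : ∃ S : Sylow p ↥(twistedE6 K q), (S : Subgroup ↥(twistedE6 K q)) = U1 chevE6 K (twistedE6 K q) := by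
  obtain ⟨e, rfl⟩ : ∃ e, q = p ^ e := by
    obtain ⟨p', k, hp', hk, rfl⟩ := hq
    have hp'' : p'.Prime := Nat.prime_iff.mpr hp'
    have : p = p' := (Nat.prime_dvd_prime_iff_eq hp.out hp'').mp (hp.out.dvd_of_dvd_pow hpq)
    exact ⟨k, by rw [this]⟩
  have hPG : IsPGroup p ↥(U1 chevE6 K (twistedE6 K (p ^ e))) :=
    IsPGroup.of_card (n := e * 36) (by rw [card_U1 hq hK, pow_mul])
  have hq1 : ∀ k : ℕ, 1 ≤ (p ^ e) ^ k := fun k => Nat.one_le_pow _ _ hq.pos
  have hd : ∀ k : ℕ, 1 ≤ k → p ∣ (p ^ e) ^ k := fun k hk => Dvd.dvd.pow hpq (by omega)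
  have hidx : ¬ p ∣ (U1 chevE6 K (twistedE6 K (p ^ e))).index := by
    intro h
    have h := dvd_trans h (index_U1_dvd hq hK)
    rcases (Nat.Prime.dvd_mul hp.out).mp h with h | h
    · rcases (Nat.Prime.dvd_mul hp.out).mp h with h | h
      · rcases (Nat.Prime.dvd_mul hp.out).mp h with h | h
        · rcases (Nat.Prime.dvd_mul hp.out).mp h with h | h
          · rcases (Nat.Prime.dvd_mul hp.out).mp h with h | h
            · exact not_dvd_pred hp.out (hd 2 (by norm_num)) (hq1 2) h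
            · exact not_dvd_succ hp.out (hd 5 (by norm_num)) h
          · exact not_dvd_pred hp.out (hd 6 (by norm_num)) (hq1 6) h
        · exact not_dvd_pred hp.out (hd 8 (by norm_num)) (hq1 8) h
      · exact not_dvd_succ hp.out (hd 9 (by norm_num)) h
    · exact not_dvd_pred hp.out (hd 12 (by norm_num)) (hq1 12) h
  exact ⟨hPG.toSylow hidx, IsPGroup.toSylow_coe _ _⟩

end core

end Cfsg.Agent.Lib.Helper36_E6OutCells
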