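import Cfsg.Agent.Lib.Helper36_TwistWeylHomE6

set_option autoImplicit false
set_option maxRecDepth 100000

/-!
The elements of the twisted Weyl group of `²E₆` with at most two inversions, by factorisation along the chain of
parabolic subgroups.
-/

namespace Cfsg.Agent.Lib.Helper36_E6OutInv

open Cfsg Cfsg.Lie Cfsg.Agent.Lib.Helper36_WeylChain
  Cfsg.Agent.Lib.Helper36_WeylLit Cfsg.Agent.Lib.Helper36_WeylLit.RootLit Cfsg.Agent.Lib.Helper36_WeylPoin
  Cfsg.Agent.Lib.Helper36_TwistTabE6 Cfsg.Agent.Lib.Helper36_TwistE6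
  Cfsg.Agent.Lib.Helper36_TwistWeylE6 Cfsg.Agent.Lib.Helper36_ChevDataE6Lit Cfsg.Agent.Lib.Helper36_ChevDataE6LitOK
  Cfsg.Agent.Lib.Helper36_TwistWeylHomE6

section generic

variable (L : RootLit)

/-- The factorisation of an element of a parabolic subgroup along one step of the chain. -/
theorem step_factor (h : L.WF) (st : Step) (hst : L.StepOK st) (x : Equiv.Perm (Fin L.n)) (hx : x ∈ L.W h st.J) :
    ∃ k < st.V.length, ∃ u ∈ L.W h st.J', x = L.wPerm h (st.ent k).word * u ∧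
      inv L.Pos x = L.invCount (st.ent k).img + inv L.Pos u := by
  have h1 : (1 : Equiv.Perm (Fin L.n)) ∈ (L.Vset h st : Set (Equiv.Perm (Fin L.n))) := by
    rw [Finset.mem_coe, L.mem_Vset]
    refine ⟨0, hst.hne, ?_⟩
    rcases hst.entries 0 hst.hne with ⟨-, hw, -⟩ | ⟨h0, -⟩
    · rw [hw]
      rfl
    · exact absurd h0 (lt_irrefl 0)
  obtain ⟨v, hv, u, hu, e⟩ := exists_factor {g | ∃ i ∈ st.J, g = L.sPerm h i}
    (by
      rintro s ⟨i, -, rfl⟩
      exact L.sPerm_mul_self h i)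
    (L.W h st.J') (L.Vset h st : Set (Equiv.Perm (Fin L.n))) h1
    (by
      rintro s ⟨i, hi, rfl⟩ v hv
      obtain ⟨v', hv', u, hu, e⟩ := L.step_closure h st hst i hi v (Finset.mem_coe.mp hv)
      exact ⟨v', Finset.mem_coe.mpr hv', u, hu, e⟩) x hx
  obtain ⟨k, hk, rfl⟩ := (L.mem_Vset h st v).mp (Finset.mem_coe.mp hv)
  refine ⟨k, hk, u, hu, e, ?_⟩
  rw [e, L.step_add h st hst k hk u hu, L.inv_eq_invCount h st hst k hk]

/-- The words of the products of coset representatives along the chain with at most `b` inversions. -/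
def smallWords : List Step → ℕ → List (List ℕ × ℕ)
  | [], _ => [([], 0)]
  | st :: rest, b =>
    (st.V.filter (fun e => decide (L.invCount e.img ≤ b))).flatMap (fun e =>
      (smallWords rest (b - L.invCount e.img)).map (fun p => (e.word ++ p.1, L.invCount e.img + p.2)))

theorem wPerm_append (h : L.WF) (w w' : List ℕ) : L.wPerm h (w ++ w') = L.wPerm h w * L.wPerm h w' := by
  unfold wPerm
  rw [List.map_append, List.prod_append]

/-- Every element with at most `b` inversions is one of the listed products. -/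
theorem small_chain (h : L.WF) : ∀ (sts : List Step) (J0 : List ℕ), ChainOK L sts J0 →
    ∀ (b : ℕ) (x : Equiv.Perm (Fin L.n)), x ∈ L.W h J0 → inv L.Pos x ≤ b →
    ∃ p ∈ smallWords L sts b, x = L.wPerm h p.1 ∧ inv L.Pos x = p.2
  | [], J0, hc, b, x, hx, _ => by
    unfold ChainOK at hc
    subst hc
    rw [L.W_nil h, Subgroup.mem_bot] at hx
    subst hx
    exact ⟨([], 0), List.mem_singleton.mpr rfl, rfl, Cfsg.Agent.Lib.Helper36_WeylChain.inv_one _⟩
  | st :: rest, J0, hc, b, x, hx, hb => by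
    unfold ChainOK at hc
    obtain ⟨rfl, hst, hrest⟩ := hc
    obtain ⟨k, hk, u, hu, e, hinv⟩ := step_factor L h st hst x hx
    have hle : L.invCount (st.ent k).img ≤ b := by omega
    obtain ⟨p, hp, e2, hinv2⟩ := small_chain h rest st.J' hrest (b - L.invCount (st.ent k).img) u hu (by omega)
    refine ⟨((st.ent k).word ++ p.1, L.invCount (st.ent k).img + p.2), ?_, ?_, ?_⟩
    · unfold smallWords
      rw [List.mem_flatMap]
      exact ⟨st.ent k, List.mem_filter.mpr ⟨ent_mem st k hk, decide_eq_true hle⟩, List.mem_map.mpr ⟨p, hp, rfl⟩⟩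
    · rw [wPerm_append, ← e2]
      exact e
    · rw [hinv, hinv2]

end generic

theorem smallTab : smallWords lit' tsteps 2 =
    [([], 0), ([3], 2), ([1], 1), ([2], 2), ([0], 1), ([0, 1], 2), ([1, 0], 2)] := by
  decide +kernel

/-- The elements of the twisted Weyl group with at most two inversions. -/
theorem inv_le_two (x : Equiv.Perm (Fin lit.n)) (hx : x ∈ lit'.W wf' (List.range 4)) (h : inv lit.Pos x ≤ 2) :
    (x = 1 ∧ inv lit.Pos x = 0) ∨ (x = lit'.sPerm wf' 3 ∧ inv lit.Pos x = 2) ∨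
    (x = lit'.sPerm wf' 1 ∧ inv lit.Pos x = 1) ∨ (x = lit'.sPerm wf' 2 ∧ inv lit.Pos x = 2) ∨
    (x = lit'.sPerm wf' 0 ∧ inv lit.Pos x = 1) ∨ (x = lit'.sPerm wf' 0 * lit'.sPerm wf' 1 ∧ inv lit.Pos x = 2) ∨
    (x = lit'.sPerm wf' 1 * lit'.sPerm wf' 0 ∧ inv lit.Pos x = 2) := by
  have hx' : x ∈ lit'.W wf' [0, 1, 2, 3] := hx
  have h' : inv lit'.Pos x ≤ 2 := h
  obtain ⟨p, hp, e, hinv⟩ := small_chain lit' wf' tsteps [0, 1, 2, 3] tchainOK 2 x hx' h'
  have hinv' : inv lit.Pos x = p.2 := hinv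
  rw [smallTab] at hp
  simp only [List.mem_cons, List.not_mem_nil, or_false] at hp
  have e1 : ∀ a : ℕ, lit'.wPerm wf' [a] = lit'.sPerm wf' a := by
    intro a
    rw [wPerm_cons, wPerm_nil, mul_one]
  have e2 : ∀ a b : ℕ, lit'.wPerm wf' [a, b] = lit'.sPerm wf' a * lit'.sPerm wf' b := by
    intro a b
    rw [wPerm_cons, e1]
  rcases hp with rfl | rfl | rfl | rfl | rfl | rfl | rfl
  · exact Or.inl ⟨e, hinv'⟩
  · exact Or.inr (Or.inl ⟨e.trans (e1 3), hinv'⟩)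
  · exact Or.inr (Or.inr (Or.inl ⟨e.trans (e1 1), hinv'⟩))
  · exact Or.inr (Or.inr (Or.inr (Or.inl ⟨e.trans (e1 2), hinv'⟩)))
  · exact Or.inr (Or.inr (Or.inr (Or.inr (Or.inl ⟨e.trans (e1 0), hinv'⟩))))
  · exact Or.inr (Or.inr (Or.inr (Or.inr (Or.inr (Or.inl ⟨e.trans (e2 0 1), hinv'⟩)))))
  · exact Or.inr (Or.inr (Or.inr (Or.inr (Or.inr (Or.inr ⟨e.trans (e2 1 0), hinv'⟩)))))

theorem inv_zero (x : Equiv.Perm (Fin lit.n)) (hx : x ∈ lit'.W wf' (List.range 4)) (h : inv lit.Pos x = 0) :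
    x = 1 := by
  rcases inv_le_two x hx (by omega) with ⟨e, -⟩ | ⟨-, h2⟩ | ⟨-, h2⟩ | ⟨-, h2⟩ | ⟨-, h2⟩ | ⟨-, h2⟩ | ⟨-, h2⟩
  · exact e
  all_goals omega

theorem inv_one (x : Equiv.Perm (Fin lit.n)) (hx : x ∈ lit'.W wf' (List.range 4)) (h : inv lit.Pos x = 1) :
    x = lit'.sPerm wf' 0 ∨ x = lit'.sPerm wf' 1 := by
  rcases inv_le_two x hx (by omega) with ⟨-, h2⟩ | ⟨-, h2⟩ | ⟨e, -⟩ | ⟨-, h2⟩ | ⟨e, -⟩ | ⟨-, h2⟩ | ⟨-, h2⟩
  · omega
  · omega
  · exact Or.inr e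
  · omega
  · exact Or.inl e
  · omega
  · omega

theorem inv_two (x : Equiv.Perm (Fin lit.n)) (hx : x ∈ lit'.W wf' (List.range 4)) (h : inv lit.Pos x = 2) :
    x = lit'.sPerm wf' 2 ∨ x = lit'.sPerm wf' 3 ∨ x = lit'.sPerm wf' 0 * lit'.sPerm wf' 1 ∨
      x = lit'.sPerm wf' 1 * lit'.sPerm wf' 0 := by
  rcases inv_le_two x hx (by omega) with ⟨-, h2⟩ | ⟨e, -⟩ | ⟨-, h2⟩ | ⟨e, -⟩ | ⟨-, h2⟩ | ⟨e, -⟩ | ⟨e, -⟩
  · omega
  · exact Or.inr (Or.inl e)
  · omega
  · exact Or.inl e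
  · omega
  · exact Or.inr (Or.inr (Or.inl e))
  · exact Or.inr (Or.inr (Or.inr e))

end Cfsg.Agent.Lib.Helper36_E6OutInv
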