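import Cfsg.Agent.Lib.Helper36_TwistCellCore

set_option autoImplicit false

/-!
The product of the double coset of a distinguished representative and of an arbitrary double coset, for a group of
fixed elements of a Chevalley group, in the language of cells.
-/

namespace Cfsg.Agent.Lib.Helper36_TwistCellUnion

open Cfsg Cfsg.Lie Cfsg.Agent.Lib.Helper36_ChevCoeff Cfsg.Agent.Lib.Helper36_ChevAdd
  Cfsg.Agent.Lib.Helper36_ChevWeyl Cfsg.Agent.Lib.Helper36_ChevGen Cfsg.Agent.Lib.Helper36_ChevTables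
  Cfsg.Agent.Lib.Helper36_ChevTorus Cfsg.Agent.Lib.Helper36_ChevBorel Cfsg.Agent.Lib.Helper36_ChevW0
  Cfsg.Agent.Lib.Helper36_ChevCore Cfsg.Agent.Lib.Helper36_ChevCommU Cfsg.Agent.Lib.Helper36_WeylChain
  Cfsg.Agent.Lib.Helper36_WeylLit Cfsg.Agent.Lib.Helper36_WeylLit.RootLit Cfsg.Agent.Lib.Helper36_ChevOrder
  Cfsg.Agent.Lib.Helper36_TwistU Cfsg.Agent.Lib.Helper36_TwistW
  Cfsg.Agent.Lib.Helper36_TwistWeyl Cfsg.Agent.Lib.Helper36_TwistBN Cfsg.Agent.Lib.Helper36_TwistAbs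
  Cfsg.Agent.Lib.Helper36_TwistAbsOrder Cfsg.Agent.Lib.Helper36_CellAut2 Cfsg.Agent.Lib.Helper36_TwistOrder
  Cfsg.Agent.Lib.Helper18_ChevFast Cfsg.Agent.Lib.Helper18_ChevEngine Cfsg.Agent.Lib.Helper36_TwistCellCore

variable {D : ChevalleyDatum} {K : Type*} [Field K] {hf : Facts D K} {L : RootLit} {hwf : L.WF}
  {π : Equiv.Perm (Fin L.n)} {W1 : Subgroup (Equiv.Perm (Fin L.n))} {G1 : Subgroup (GL D.Idx K)}
  (A : TwAbs hf L hwf π W1 G1) (E : Hyps D K hf L)
  {k' : ℕ} {sg : ℕ → GL D.Idx K} {wa : ℕ → Equiv.Perm (Fin L.n)}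
  (Y : GenData hf (L := L) (π := π) (W1 := W1) (G1 := G1) k' sg wa)

include Y in
/-- The product of the double coset of a distinguished representative and of a double coset lies in the union of two
double cosets. -/
theorem union_cell (a : ℕ) (ha : a < k') (xa : W1) (hxa : xa.1 = wa a) (b : ↥G1)
    (hb : (b : GL D.Idx K) ∈ D.borelSubgroup K) (i : W1) :
    cellOf A E (nw1 A xa * b * nw1 A i) = xa * i ∨ cellOf A E (nw1 A xa * b * nw1 A i) = i := by
  obtain ⟨P, hPB, hPN⟩ := E.bn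
  have hHle : D.diagonalSubgroup K ≤ D.borelSubgroup K := le_sup_right
  have hsN : sg a ∈ D.monomialSubgroup K := Y.sN a ha
  have hsG : sg a ∈ G1 := Y.sG a ha
  have hsact : ActsAs D K hf L (sg a) (wa a) := Y.act a ha
  have hnact : ActsAs D K hf L (rp A xa) (wa a) := hxa ▸ rp_acts A xa
  have hh : (sg a)⁻¹ * rp A xa ∈ D.diagonalSubgroup K := by
    apply mem_diag_of_actsAs_one D K hf L E.hl E.hNU E.hBN _
      (Subgroup.mul_mem _ (Subgroup.inv_mem _ hsN) (rp_N A xa))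
    have := actsAs_mul D K hf L (actsAs_inv D K hf L hsact) hnact
    rwa [inv_mul_cancel] at this
  have hdG : (sg a)⁻¹ * rp A xa ∈ G1 := Subgroup.mul_mem _ (Subgroup.inv_mem _ hsG) (rp_G A xa)
  obtain ⟨b1, hb1, b2, hb2, e⟩ := Cfsg.Agent.Lib.Helper36_TwistAbs.twisted_union hf A E.hl E.hchain E.hx
    E.hBN Y P hPB hPN a ha (rp A i) (rp_N A i) (rp_G A i) ((sg a)⁻¹ * rp A xa * (b : GL D.Idx K))
    (Subgroup.mul_mem _ (hHle hh) hb) (Subgroup.mul_mem _ hdG b.2)
  have e0 : ((nw1 A xa * b * nw1 A i : ↥G1) : GL D.Idx K) =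
      sg a * ((sg a)⁻¹ * rp A xa * (b : GL D.Idx K)) * rp A i := by
    simp only [nw1, Subgroup.coe_mul]
    group
  rcases e with e | e
  · left
    have hh2 : sg a * rp A i * (rp A (xa * i))⁻¹ ∈ D.diagonalSubgroup K := by
      apply mem_diag_of_actsAs_one D K hf L E.hl E.hNU E.hBN _
        (Subgroup.mul_mem _ (Subgroup.mul_mem _ hsN (rp_N A i)) (Subgroup.inv_mem _ (rp_N A (xa * i))))
      have := actsAs_mul D K hf L (actsAs_mul D K hf L hsact (rp_acts A i))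
        (actsAs_inv D K hf L (rp_acts A (xa * i)))
      rwa [Subgroup.coe_mul, hxa, mul_inv_cancel] at this
    apply cellOf_eq A E _ (xa * i) (b1 * (sg a * rp A i * (rp A (xa * i))⁻¹)) b2
      (Subgroup.mul_mem _ hb1.1 (hHle hh2)) hb2.1
    rw [e0, e]
    group
  · right
    apply cellOf_eq A E _ i b1 b2 hb1.1 hb2.1
    rw [e0, e]

end Cfsg.Agent.Lib.Helper36_TwistCellUnion
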