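import Cfsg.Agent.Lib.Helper36_E6OutWeyl
import Cfsg.Agent.Lib.Helper36_CellAut3
import Cfsg.Agent.Lib.Helper36_TwistCellUnion
import Cfsg.Agent.Lib.Helper36_E6OutInv

set_option autoImplicit false
set_option maxRecDepth 100000

/-!
The normal form of the twisted group of type `²E₆` in the abstract sense, and the four distinguished cells: the good
automorphisms map the representatives of the generators of the twisted Weyl group into their cells.
-/

namespace Cfsg.Agent.Lib.Helper36_E6OutCore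

open Cfsg Cfsg.Lie Cfsg.Agent.Lib.Helper18_ChevFast Cfsg.Agent.Lib.Helper18_ChevEngine
  Cfsg.Agent.Lib.Helper36_ChevTorus Cfsg.Agent.Lib.Helper36_ChevBorel
  Cfsg.Agent.Lib.Helper36_ChevW0 Cfsg.Agent.Lib.Helper36_ChevW0All
  Cfsg.Agent.Lib.Helper36_ChevTables
  Cfsg.Agent.Lib.Helper36_ChevOrder Cfsg.Agent.Lib.Helper36_ChevOrderAll Cfsg.Agent.Lib.Helper36_WeylChain
  Cfsg.Agent.Lib.Helper36_WeylLit Cfsg.Agent.Lib.Helper36_WeylLit.RootLit
  Cfsg.Agent.Lib.Helper36_ChevDataE6Lit Cfsg.Agent.Lib.Helper36_ChevDataE6LitOK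
  Cfsg.Agent.Lib.Helper36_TwistU Cfsg.Agent.Lib.Helper36_TwistW
  Cfsg.Agent.Lib.Helper36_TwistWeyl Cfsg.Agent.Lib.Helper36_TwistWeylE6
  Cfsg.Agent.Lib.Helper36_TwistOrder Cfsg.Agent.Lib.Helper36_TwistTabE6 Cfsg.Agent.Lib.Helper36_TwistE6
  Cfsg.Agent.Lib.Helper36_TwistOrderE6 Cfsg.Agent.Lib.Helper36_TwistBNE6 Cfsg.Agent.Lib.Helper36_TwistCoreE6
  Cfsg.Agent.Lib.Helper36_TwistBN Cfsg.Agent.Lib.Helper36_TwistAbs Cfsg.Agent.Lib.Helper36_TwistAbsOrder
  Cfsg.Agent.Lib.Helper36_TwistCellCore Cfsg.Agent.Lib.Helper36_CellAut2 Cfsg.Agent.Lib.Helper36_CellAut3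
  Cfsg.Agent.Lib.Helper36_E6OutCells Cfsg.Agent.Lib.Helper36_E6OutWeyl Cfsg.Agent.Lib.Helper36_TwistCellUnion
  Cfsg.Agent.Lib.Helper36_E6OutInv

section core

variable {K : Type*} [Field K] [Fintype K] {q : ℕ} (hq : IsPrimePow q) (hK : Fintype.card K = q ^ 2)
  (f : K →+* K) (hf : ∀ x : K, f x = x ^ q) {p : ℕ} [hp : Fact p.Prime] (hpq : p ∣ q)

include hq in
theorem Uw1_bot (x : W1) (h : Uw1 (twAbs hK f hf) x = ⊥) : x = 1 := by
  have hc := card_Uw hq hK f hf x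
  rw [h, Subgroup.card_bot] at hc
  have h0 : inv lit.Pos x.1 = 0 := by
    by_contra hne
    have : 1 < q ^ inv lit.Pos x.1 := Nat.one_lt_pow hne hq.two_le
    omega
  exact Subtype.ext (inv_zero x.1 x.2 h0)

/-- The normal form of the twisted group in the abstract sense. -/
noncomputable def cellC : CellCore ↥(twistedE6 K q) W1 p :=
  cellCore (twAbs hK f hf) hyps p (sylow_U1 hq hK hpq) w0 (Uw1_top (twAbs hK f hf) hyps w0 sNeg_w0)
    (Uw1_bot hq hK f hf)

omit [Fintype K] in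
theorem w0_not_pos (r : Fin lit.n) (hr : r ∈ lit.Pos) : (w0 : W1).1 r ∉ lit.Pos := by
  rw [lit.mem_Pos] at hr ⊢
  show ¬ lit.ps (lit'.wPerm wf' w0t r) = true
  rw [wPerm_eval lit' wf' _ w0t_lt, w0_pos_tab r r.2 hr]
  simp

/-- An element of the twisted Weyl group mapping all the positive roots to negative roots is the longest element. -/
theorem eq_w0 (j : W1) (h : inv lit.Pos j.1 = lit.Pos.card) : j = w0 := by
  have hall : ∀ r ∈ lit.Pos, j.1 r ∉ lit.Pos := by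
    unfold inv at h
    exact fun r hr => Finset.filter_card_eq h r hr
  have hneg : ∀ s : Fin lit.n, s ∉ lit.Pos → j.1 s ∈ lit.Pos := by
    intro s hs
    have h1 : lit.negF s ∈ lit.Pos := by
      by_contra hcon
      exact hs ((lit.mem_Pos_iff_neg wf s).mpr hcon)
    have h2 := hall _ h1
    have h3 : j.1 (lit'.negF s) = lit'.negF (j.1 s) :=
      lit'.W_neg wf' (List.range 4) (fun i hi => List.mem_range.mp hi) j.1 j.2 s
    have h4 : j.1 (lit.negF s) = lit.negF (j.1 s) := h3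
    rw [h4] at h2
    exact (lit.mem_Pos_iff_neg wf _).mpr h2
  have h0 : inv lit.Pos (j * w0⁻¹ : W1).1 = 0 := by
    unfold inv
    rw [Finset.card_eq_zero, Finset.filter_eq_empty_iff]
    intro r hr
    rw [not_not, Subgroup.coe_mul, Subgroup.coe_inv, Equiv.Perm.mul_apply]
    apply hneg
    rw [w0_inv]
    exact w0_not_pos r hr
  have h1 := inv_zero _ (j * w0⁻¹ : W1).2 h0
  have h2 : j * w0⁻¹ = 1 := Subtype.ext h1
  exact mul_inv_eq_one.mp h2

theorem inv_w0 : inv lit.Pos (w0 : W1).1 = lit.Pos.card := by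
  unfold inv
  rw [Finset.filter_true_of_mem (fun r hr => w0_not_pos r hr)]

theorem special_w0 : (cellC hq hK f hf hpq).Special (cellC hq hK f hf hpq).i0 := by
  intro j h
  have h1 : inv lit.Pos j.1 = inv lit.Pos (w0 : W1).1 := inv_eq_of_card hq hK f hf j w0 h
  rw [inv_w0] at h1
  exact eq_w0 j h1

theorem isRootC (x : W1) : (cellC hq hK f hf hpq).IsRoot x :=
  isRoot1 (twAbs hK f hf) hyps p (sylow_U1 hq hK hpq) w0 (Uw1_top (twAbs hK f hf) hyps w0 sNeg_w0)
    (Uw1_bot hq hK f hf) w0_neg x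

theorem mem_B_borel (b : ↥(twistedE6 K q)) (hb : b ∈ (cellC hq hK f hf hpq).B) :
    (b : GL chevE6.Idx K) ∈ chevE6.borelSubgroup K := by
  obtain ⟨u, hu, h, hh, rfl⟩ := hb
  rw [Subgroup.coe_mul]
  exact Subgroup.mul_mem _ (U1_borel u hu) (H1_borel h hh)

theorem unionC (a : Fin 4) : UnionAx (cellC hq hK f hf hpq) (gW a) := by
  intro b hb i
  exact union_cell (twAbs hK f hf) hyps (genData hK f hf) a a.2 (gW a) rfl b (mem_B_borel hq hK f hf hpq b hb) i

theorem isGenC (a : Fin 4) : IsGen (cellC hq hK f hf hpq) (gW a) :=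
  ⟨unionC hq hK f hf hpq a, gW_ne_one a, gW_sq a, nw1_sq (twAbs hK f hf) hyps (gW a) (gW_sq' a)⟩

theorem card_gW (a : Fin 4) (n : ℕ) (h : inv lit.Pos (gW a).1 = n) :
    Nat.card ((cellC hq hK f hf hpq).Uw (gW a)) = q ^ n := by
  rw [← h]
  exact card_Uw hq hK f hf (gW a)

/-- The good automorphisms map the representatives of the generators into their cells. -/
theorem fixC (ψ : MulAut ↥(twistedE6 K q)) (hψ : ∀ x, x ∈ (cellC hq hK f hf hpq).U ↔ ψ x ∈ (cellC hq hK f hf hpq).U) :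
    star (cellC hq hK f hf hpq) ψ (gW 0) = gW 0 ∧ star (cellC hq hK f hf hpq) ψ (gW 1) = gW 1 ∧
      star (cellC hq hK f hf hpq) ψ (gW 2) = gW 2 ∧ star (cellC hq hK f hf hpq) ψ (gW 3) = gW 3 := by
  obtain ⟨i0, i1, i2, i3⟩ := Helper36_E6OutWeyl.inv_gens
  have c0 := card_gW hq hK f hf hpq 0 1 i0
  have c1 := card_gW hq hK f hf hpq 1 1 i1
  have c2 := card_gW hq hK f hf hpq 2 2 i2
  have c3 := card_gW hq hK f hf hpq 3 2 i3
  apply star_fix_f4 (cellC hq hK f hf hpq) (cellOf_nw_mul (twAbs hK f hf) hyps) (gW 0) (gW 1) (gW 2) (gW 3)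
    (isGenC hq hK f hf hpq 0) (isGenC hq hK f hf hpq 1) (isGenC hq hK f hf hpq 2) (isGenC hq hK f hf hpq 3)
    n01 n23 ?_ ?_ (c1.trans c0.symm) ?_ (c3.trans c2.symm) d1 d2 d3 d4 k02 k03 k12 n13 ψ hψ
  · rw [c0, c2]
    intro e
    have := Nat.pow_right_injective hq.two_le e
    omega
  · intro j hj
    have h1 : inv lit.Pos j.1 = 1 := (inv_eq_of_card hq hK f hf j (gW 0) hj).trans i0
    rcases inv_one j.1 j.2 h1 with e | e
    · exact Or.inl (Subtype.ext e)
    · exact Or.inr (Subtype.ext e)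
  · intro j hj
    have h1 : inv lit.Pos j.1 = 2 := (inv_eq_of_card hq hK f hf j (gW 2) hj).trans i2
    rcases inv_two j.1 j.2 h1 with e | e | e | e
    · exact Or.inl (Subtype.ext e)
    · exact Or.inr (Or.inl (Subtype.ext e))
    · exact Or.inr (Or.inr (Or.inl (Subtype.ext e)))
    · exact Or.inr (Or.inr (Or.inr (Subtype.ext e)))

theorem rootCell (a : Fin 4) : RootCell' (cellC hq hK f hf hpq) (gW a) where
  fix := by
    intro ψ hψ
    obtain ⟨h0, h1, h2, h3⟩ := fixC hq hK f hf hpq ψ hψ.1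
    fin_cases a
    · exact h0
    · exact h1
    · exact h2
    · exact h3
  root := isRootC hq hK f hf hpq (gW a)
  conj := fun x hx hx1 => conj_cell (twAbs hK f hf) hyps (genData hK f hf) a a.2 (gW a) rfl x hx hx1
  sq := nw1_sq (twAbs hK f hf) hyps (gW a) (gW_sq' a)
  opp := nw1_opp (twAbs hK f hf) hyps w0 (gW a) (w0_gW a)

theorem sq0 : (cellC hq hK f hf hpq).nw (cellC hq hK f hf hpq).i0 * (cellC hq hK f hf hpq).nw (cellC hq hK f hf hpq).i0 ∈
    (cellC hq hK f hf hpq).H :=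
  nw1_sq (twAbs hK f hf) hyps w0 w0_sq

end core

end Cfsg.Agent.Lib.Helper36_E6OutCore
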