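import Cfsg.Agent.Lib.Helper36_TwistHE6
import Cfsg.Agent.Lib.Helper36_TwistPerfE6
import Cfsg.Agent.Lib.Helper36_TwistOrderE6
import Cfsg.Agent.S1038

set_option autoImplicit false
set_option maxRecDepth 100000

/-!
Conjugation of the twisted group of type `²E₆` by the diagonal matrices of the characters of the root lattice with
fixed parameters (the diagonal automorphisms).
-/

namespace Cfsg.Agent.Lib.Helper36_E6OutDg

open Cfsg Cfsg.Lie Cfsg.Agent.Lib.Helper18_ChevFast Cfsg.Agent.Lib.Helper18_ChevEngine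
  Cfsg.Agent.Lib.Helper18_ChevN Cfsg.Agent.Lib.Helper18_ChevWeyl
  Cfsg.Agent.Lib.Helper18_ChevGL Cfsg.Agent.Lib.Helper18_ChevBN Cfsg.Agent.Lib.Helper18_ChevUni
  Cfsg.Agent.Lib.Helper36_ChevTorus Cfsg.Agent.Lib.Helper36_ChevTables
  Cfsg.Agent.Lib.Helper36_TwistU Cfsg.Agent.Lib.Helper36_TwistW Cfsg.Agent.Lib.Helper36_TwistH
  Cfsg.Agent.Lib.Helper36_TwistTabE6 Cfsg.Agent.Lib.Helper36_TwistE6 Cfsg.Agent.Lib.Helper36_TwistHE6
  Cfsg.Agent.Lib.Helper36_TwistOrderE6

/-- The coordinates of the coroots. -/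
def cr (r : ℕ) (j : ℕ) : ℤ := (chevE6.coroot.getD r #[]).getD j 0

theorem tabNeg : ∀ r < chevE6.nroots, ∀ j < chevE6.rank, cr (chevE6.neg r) j = - cr r j := by
  decide +kernel

theorem tabAdd : ∀ r < chevE6.nroots, ∀ s < chevE6.nroots, ∀ k ∈ chevE6.chainRoot r s 1,
    ∀ j < chevE6.rank, cr k j = cr r j + cr s j := by
  decide +kernel

theorem tabSimple : ∀ i < chevE6.rank, ∀ j < chevE6.rank, cr (chevE6.simple i) j = if j = i then 1 else 0 := by
  decide +kernel

variable {K : Type*} [Field K]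

/-- The character of the root lattice with the values `c j` on the simple roots (type `E₆` is simply laced: the
coordinates of a coroot are the coordinates of the root). -/
noncomputable def rchar (c : Fin chevE6.rank → Kˣ) (r : ℕ) : Kˣ :=
  ∏ j : Fin chevE6.rank, c j ^ ((chevE6.coroot.getD r #[]).getD j.val 0)

theorem rchar_isRoot (c : Fin chevE6.rank → Kˣ) : chevE6.IsRootCharacter (rchar c) := by
  constructor
  · intro r hr
    unfold rchar
    rw [← Finset.prod_inv_distrib]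
    apply Finset.prod_congr rfl
    intro j _
    rw [← zpow_neg]
    congr 1
    exact tabNeg r hr j j.2
  · intro r s k hr hs hk
    unfold rchar
    rw [← Finset.prod_mul_distrib]
    apply Finset.prod_congr rfl
    intro j _
    rw [← zpow_add]
    congr 1
    exact tabAdd r hr s hs k (Option.mem_def.mpr hk) j j.2

theorem rchar_mul (c c' : Fin chevE6.rank → Kˣ) : rchar (c * c') = rchar c * rchar c' := by
  funext r
  simp only [rchar, Pi.mul_apply, mul_zpow, Finset.prod_mul_distrib]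

theorem rchar_one : rchar (1 : Fin chevE6.rank → Kˣ) = 1 := by
  funext r
  simp only [rchar, Pi.one_apply, one_zpow, Finset.prod_const_one]

theorem rchar_simple (c : Fin chevE6.rank → Kˣ) (j : Fin chevE6.rank) : rchar c (chevE6.simple j) = c j := by
  unfold rchar
  rw [Finset.prod_eq_single j]
  · have := tabSimple j j.2 j j.2
    unfold cr at this
    rw [this, if_pos rfl, zpow_one]
  · intro i _ hij
    have := tabSimple j j.2 i i.2
    unfold cr at this
    rw [this, if_neg (fun h => hij (Fin.ext h)), zpow_zero]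
  · intro h
    exact absurd (Finset.mem_univ j) h

/-- The diagonal matrix of the character. -/
noncomputable def dg (c : Fin chevE6.rank → Kˣ) : GL chevE6.Idx K := torusGL chevE6 K (rchar c)

theorem dg_conj_x (c : Fin chevE6.rank → Kˣ) (r : ℕ) (hr : r < chevE6.nroots) (t : K) :
    dg c * xGL dc r t * (dg c)⁻¹ = xGL dc r ((rchar c r : K) * t) :=
  Cfsg.Agent.Lib.Helper36_TwistPerf.torus_conj_x dc chainOK_E6 (rchar c) (rchar_isRoot c) r hr t

theorem dg_pos (c : Fin chevE6.rank → Kˣ) (g : GL chevE6.Idx K) (hg : g ∈ chevE6.posUnipotent K) :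
    dg c * g * (dg c)⁻¹ ∈ chevE6.posUnipotent K := by
  have h1 : chevE6.posUnipotent K ≤ (chevE6.posUnipotent K).comap (MulAut.conj (dg c)).toMonoidHom := by
    unfold ChevalleyDatum.posUnipotent
    rw [Subgroup.closure_le]
    rintro x ⟨r, t, hr, hx⟩
    have e : x = xGL dc r t := Units.ext (hx.trans (xGL_coe dc r t).symm)
    simp only [Subgroup.coe_comap, Set.mem_preimage, MulEquiv.coe_toMonoidHom, MulAut.conj_apply, SetLike.mem_coe]
    rw [e, dg_conj_x c r hr.1 t]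
    exact Subgroup.subset_closure ⟨r, _, hr, xGL_coe dc r _⟩
  exact h1 hg

theorem dg_diag (c : Fin chevE6.rank → Kˣ) (g : GL chevE6.Idx K) (hg : g ∈ chevE6.diagonalSubgroup K) :
    dg c * g * (dg c)⁻¹ = g := by
  obtain ⟨u, rfl⟩ := ((Cfsg.Agent.Lib.Helper36_ChevDataE6T.facts K).mem_diag g).mp hg
  unfold dg
  rw [torusGL_inv, ← torusGL_mul, ← torusGL_mul, mul_inv_cancel_comm]

theorem nT_inv (r : ℕ) : (nT dc r (1 : K))⁻¹ = nT dc r (-1) := by
  rw [nT_eq, nT_eq, mul_inv_rev, mul_inv_rev, xGL_inv, xGL_inv, inv_one, neg_neg, mul_assoc]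
  have e : -(-1 : K)⁻¹ = 1 := by rw [inv_neg, inv_one, neg_neg]
  rw [e]

theorem dg_nT (c : Fin chevE6.rank → Kˣ) (r : ℕ) (hr : r < chevE6.nroots) :
    dg c * nT dc r (1 : K) * (dg c)⁻¹ = nT dc r (rchar c r : K) := by
  have hneg : chevE6.neg r < chevE6.nroots := Cfsg.Agent.Lib.Helper18_ChevTorus.DCert.neg_lt dc r hr
  have e : dg c * nT dc r (1 : K) * (dg c)⁻¹ =
      (dg c * xGL dc r 1 * (dg c)⁻¹) * (dg c * xGL dc (chevE6.neg r) (-(1 : K)⁻¹) * (dg c)⁻¹) *
        (dg c * xGL dc r 1 * (dg c)⁻¹) := by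
    rw [nT_eq]
    group
  rw [e, dg_conj_x c r hr, dg_conj_x c _ hneg, nT_eq, (rchar_isRoot c).1 r hr, mul_one, inv_one,
    Units.val_inv_eq_inv_val, mul_neg, mul_one]

theorem dg_mono (c : Fin chevE6.rank → Kˣ) (n : GL chevE6.Idx K) (hn : n ∈ chevE6.monomialSubgroup K) :
    dg c * n * (dg c)⁻¹ * n⁻¹ ∈ chevE6.diagonalSubgroup K := by
  have hnormal := Cfsg.Agent.S1038.result (F := K) chevE6 hD
  have hHN : chevE6.diagonalSubgroup K ≤ chevE6.monomialSubgroup K := le_sup_left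
  have hconj : ∀ a ∈ chevE6.monomialSubgroup K, ∀ h ∈ chevE6.diagonalSubgroup K,
      a * h * a⁻¹ ∈ chevE6.diagonalSubgroup K := by
    intro a ha h hh
    have := hnormal.conj_mem ⟨h, hHN hh⟩ (Subgroup.mem_subgroupOf.mpr hh) ⟨a, ha⟩
    exact Subgroup.mem_subgroupOf.mp this
  let S : Subgroup (GL chevE6.Idx K) :=
    { carrier := {a | a ∈ chevE6.monomialSubgroup K ∧ dg c * a * (dg c)⁻¹ * a⁻¹ ∈ chevE6.diagonalSubgroup K}
      one_mem' := ⟨Subgroup.one_mem _, by simp⟩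
      mul_mem' := by
        rintro a b ⟨ha, ha'⟩ ⟨hb, hb'⟩
        refine ⟨Subgroup.mul_mem _ ha hb, ?_⟩
        have e : dg c * (a * b) * (dg c)⁻¹ * (a * b)⁻¹ =
            (dg c * a * (dg c)⁻¹ * a⁻¹) * (a * (dg c * b * (dg c)⁻¹ * b⁻¹) * a⁻¹) := by group
        rw [e]
        exact Subgroup.mul_mem _ ha' (hconj a ha _ hb')
      inv_mem' := by
        rintro a ⟨ha, ha'⟩
        refine ⟨Subgroup.inv_mem _ ha, ?_⟩
        have e : dg c * a⁻¹ * (dg c)⁻¹ * a⁻¹⁻¹ = a⁻¹ * (dg c * a * (dg c)⁻¹ * a⁻¹)⁻¹ * a⁻¹⁻¹ := by group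
        rw [e]
        exact hconj _ (Subgroup.inv_mem _ ha) _ (Subgroup.inv_mem _ ha') }
  have hle : chevE6.monomialSubgroup K ≤ S := by
    unfold ChevalleyDatum.monomialSubgroup
    apply sup_le
    · intro h hh
      refine ⟨hHN hh, ?_⟩
      rw [dg_diag c h hh, mul_inv_cancel]
      exact Subgroup.one_mem _
    · rw [Subgroup.closure_le]
      rintro x ⟨r, hr, hx⟩
      have e : x = nT dc r (1 : K) := Units.ext (hx.trans (wordGL_coe dc _).symm)
      refine ⟨(le_sup_right : _ ≤ chevE6.monomialSubgroup K) (Subgroup.subset_closure ⟨r, hr, hx⟩), ?_⟩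
      rw [e, dg_nT c r hr, nT_inv, ← hGL_eq]
      exact hGL_mem dc r hr _ (Units.ne_zero _)
  exact (hle hn).2

theorem rchar_vals (c : Fin chevE6.rank → Kˣ) : rchar c 56 = c n0 ∧ rchar c 46 = c n1 ∧ rchar c 42 = c n2 ∧
    rchar c 39 = c n3 ∧ rchar c 37 = c n4 ∧ rchar c 36 = c n5 ∧ rchar c 15 = (c n0)⁻¹ ∧ rchar c 25 = (c n1)⁻¹ ∧
    rchar c 29 = (c n2)⁻¹ ∧ rchar c 32 = (c n3)⁻¹ ∧ rchar c 34 = (c n4)⁻¹ ∧ rchar c 35 = (c n5)⁻¹ := by
  obtain ⟨s0, s1, s2, s3, s4, s5, m0, m1, m2, m3, m4, m5⟩ := simples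
  have h0 := rchar_simple c n0
  have h1 := rchar_simple c n1
  have h2 := rchar_simple c n2
  have h3 := rchar_simple c n3
  have h4 := rchar_simple c n4
  have h5 := rchar_simple c n5
  rw [show ((n0 : Fin chevE6.rank) : ℕ) = 0 from rfl, s0] at h0
  rw [show ((n1 : Fin chevE6.rank) : ℕ) = 1 from rfl, s1] at h1
  rw [show ((n2 : Fin chevE6.rank) : ℕ) = 2 from rfl, s2] at h2
  rw [show ((n3 : Fin chevE6.rank) : ℕ) = 3 from rfl, s3] at h3
  rw [show ((n4 : Fin chevE6.rank) : ℕ) = 4 from rfl, s4] at h4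
  rw [show ((n5 : Fin chevE6.rank) : ℕ) = 5 from rfl, s5] at h5
  have hn := (rchar_isRoot c).1
  refine ⟨h0, h1, h2, h3, h4, h5, ?_, ?_, ?_, ?_, ?_, ?_⟩
  · rw [← m0, hn 56 (by decide), h0]
  · rw [← m1, hn 46 (by decide), h1]
  · rw [← m2, hn 42 (by decide), h2]
  · rw [← m3, hn 39 (by decide), h3]
  · rw [← m4, hn 37 (by decide), h4]
  · rw [← m5, hn 36 (by decide), h5]

section
variable [Fintype K] {q : ℕ} (hK : Fintype.card K = q ^ 2) (f : K →+* K) (hf : ∀ x : K, f x = x ^ q)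

omit [Fintype K] in
/-- The fixed parameters in terms of the coordinates. -/
theorem fixed_vals (c : Fin chevE6.rank → Kˣ) (hc : tau chevE6 K rho f c = c) :
    f (c n0 : K) = c n5 ∧ f (c n1 : K) = c n1 ∧ f (c n2 : K) = c n4 ∧ f (c n3 : K) = c n3 ∧
      f (c n4 : K) = c n2 ∧ f (c n5 : K) = c n0 := by
  obtain ⟨r0, r1, r2, r3, r4, r5⟩ := rho_vals
  have h0 := congrFun hc n0
  have h1 := congrFun hc n1
  have h2 := congrFun hc n2
  have h3 := congrFun hc n3
  have h4 := congrFun hc n4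
  have h5 := congrFun hc n5
  rw [tau_apply, r0] at h0
  rw [tau_apply, r1] at h1
  rw [tau_apply, r2] at h2
  rw [tau_apply, r3] at h3
  rw [tau_apply, r4] at h4
  rw [tau_apply, r5] at h5
  exact ⟨congrArg Units.val h5, congrArg Units.val h1, congrArg Units.val h4, congrArg Units.val h3,
    congrArg Units.val h2, congrArg Units.val h0⟩

theorem dg_single (c : Fin chevE6.rank → Kˣ) (r : ℕ) (hr : r < chevE6.nroots) (t : K) :
    dg c * wordGL dc [(r, t)] * (dg c)⁻¹ = wordGL dc [(r, (rchar c r : K) * t)] := by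
  rw [wordGL_single, wordGL_single, dg_conj_x c r hr]

theorem dg_pair (c : Fin chevE6.rank → Kˣ) (r r' : ℕ) (hr : r < chevE6.nroots) (hr' : r' < chevE6.nroots)
    (t t' : K) :
    dg c * wordGL dc [(r, t), (r', t')] * (dg c)⁻¹ =
      wordGL dc [(r, (rchar c r : K) * t), (r', (rchar c r' : K) * t')] := by
  rw [wordGL_cons, wordGL_single, wordGL_cons, wordGL_single, ← dg_conj_x c r hr, ← dg_conj_x c r' hr']
  group

include hK hf in
theorem dg_mem (c : Fin chevE6.rank → Kˣ) (hc : tau chevE6 K rho f c = c) (g : GL chevE6.Idx K)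
    (hg : g ∈ twistedE6 K q) : dg c * g * (dg c)⁻¹ ∈ twistedE6 K q := by
  obtain ⟨v0, v1, v2, v3, v4, v5, w0, w1, w2, w3, w4, w5⟩ := rchar_vals c
  obtain ⟨f0, f1, f2, f3, f4, f5⟩ := fixed_vals f c hc
  have finv : ∀ a b : Kˣ, f (a : K) = b → f ((a⁻¹ : Kˣ) : K) = ((b⁻¹ : Kˣ) : K) := by
    intro a b h
    rw [Units.val_inv_eq_inv_val, Units.val_inv_eq_inv_val, map_inv₀, h]
  have key : ∀ wd ∈ e6Words K q, dg c * wordGL dc wd * (dg c)⁻¹ ∈ twistedE6 K q := by
    rintro wd (⟨t, ht, r, hr, rfl⟩ | ⟨t, rs, hrs, rfl⟩)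
    · have hs : ∀ (r' : ℕ) (a : Kˣ), r' ∈ [e6p2, e6m2, e6p4, e6m4] → r' < chevE6.nroots → rchar c r' = a →
          f (a : K) = a → dg c * wordGL dc [(r', t)] * (dg c)⁻¹ ∈ twistedE6 K q := by
        intro r' a hr' hlt ha hfa
        rw [dg_single c r' hlt, ha]
        apply single_mem r' hr'
        rw [mul_pow, ht, ← hf, hfa]
      simp only [List.mem_cons, List.not_mem_nil, or_false] at hr
      rcases hr with rfl | rfl | rfl | rfl
      · exact hs e6p2 (c n1) (by simp) (by decide) v1 f1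
      · exact hs e6m2 (c n1)⁻¹ (by simp) (by decide) w1 (finv _ _ f1)
      · exact hs e6p4 (c n3) (by simp) (by decide) v3 f3
      · exact hs e6m4 (c n3)⁻¹ (by simp) (by decide) w3 (finv _ _ f3)
    · have hp : ∀ (rs' : ℕ × ℕ) (a b : Kˣ), rs' ∈ [(e6p1, e6p6), (e6m1, e6m6), (e6p3, e6p5), (e6m3, e6m5)] →
          rs'.1 < chevE6.nroots → rs'.2 < chevE6.nroots → rchar c rs'.1 = a → rchar c rs'.2 = b →
          f (a : K) = b → dg c * wordGL dc [(rs'.1, t), (rs'.2, t ^ q)] * (dg c)⁻¹ ∈ twistedE6 K q := by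
        intro rs' a b hrs' hlt1 hlt2 ha hb hfa
        rw [dg_pair c rs'.1 rs'.2 hlt1 hlt2, ha, hb]
        have e : (b : K) * t ^ q = f ((a : K) * t) := by rw [map_mul, hfa, hf t]
        rw [e]
        exact pair_mem f hf rs' hrs' _
      simp only [List.mem_cons, List.not_mem_nil, or_false] at hrs
      rcases hrs with rfl | rfl | rfl | rfl
      · exact hp (e6p1, e6p6) (c n0) (c n5) (by simp) (by decide) (by decide) v0 v5 f0
      · exact hp (e6m1, e6m6) (c n0)⁻¹ (c n5)⁻¹ (by simp) (by decide) (by decide) w0 w5 (finv _ _ f0)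
      · exact hp (e6p3, e6p5) (c n2) (c n4) (by simp) (by decide) (by decide) v2 v4 f2
      · exact hp (e6m3, e6m5) (c n2)⁻¹ (c n4)⁻¹ (by simp) (by decide) (by decide) w2 w4 (finv _ _ f2)
  have h1 : Subgroup.closure {g : GL chevE6.Idx K | ∃ w ∈ e6Words K q,
      (g : Matrix chevE6.Idx chevE6.Idx K) = chevE6.wordMat K w} ≤
      (twistedE6 K q).comap (MulAut.conj (dg c)).toMonoidHom := by
    rw [Subgroup.closure_le]
    rintro x ⟨wd, hwd, hx⟩
    have e : x = wordGL dc wd := Units.ext (hx.trans (wordGL_coe dc wd).symm)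
    simp only [Subgroup.coe_comap, Set.mem_preimage, MulEquiv.coe_toMonoidHom, MulAut.conj_apply, SetLike.mem_coe]
    rw [e]
    exact key wd hwd
  exact h1 hg

include hK hf in
theorem dg_yS56 (c : Fin chevE6.rank → Kˣ) (hc : tau chevE6 K rho f c = c) (t : K) :
    dg c * yS dc pi eps f (56, 2) t * (dg c)⁻¹ = yS dc pi eps f (56, 2) ((c n0 : K) * t) := by
  obtain ⟨v0, v1, v2, v3, v4, v5, -⟩ := rchar_vals c
  obtain ⟨f0, f1, f2, f3, f4, f5⟩ := fixed_vals f c hc
  rw [yS_pair f 56 36 pi56, yS_pair f 56 36 pi56, dg_pair c 56 36 (by decide) (by decide), v0, v5, map_mul, f0]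

include hK hf in
theorem dg_yS42 (c : Fin chevE6.rank → Kˣ) (hc : tau chevE6 K rho f c = c) (t : K) :
    dg c * yS dc pi eps f (42, 2) t * (dg c)⁻¹ = yS dc pi eps f (42, 2) ((c n2 : K) * t) := by
  obtain ⟨v0, v1, v2, v3, v4, v5, -⟩ := rchar_vals c
  obtain ⟨f0, f1, f2, f3, f4, f5⟩ := fixed_vals f c hc
  rw [yS_pair f 42 37 pi42, yS_pair f 42 37 pi42, dg_pair c 42 37 (by decide) (by decide), v2, v4, map_mul, f2]

theorem dg_yS39 (c : Fin chevE6.rank → Kˣ) (t : K) :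
    dg c * yS dc pi eps f (39, 1) t * (dg c)⁻¹ = yS dc pi eps f (39, 1) ((c n3 : K) * t) := by
  obtain ⟨v0, v1, v2, v3, v4, v5, -⟩ := rchar_vals c
  rw [yS_single, yS_single, dg_single c 39 (by decide), v3]

theorem dg_yS46 (c : Fin chevE6.rank → Kˣ) (t : K) :
    dg c * yS dc pi eps f (46, 1) t * (dg c)⁻¹ = yS dc pi eps f (46, 1) ((c n1 : K) * t) := by
  obtain ⟨v0, v1, v2, v3, v4, v5, -⟩ := rchar_vals c
  rw [yS_single, yS_single, dg_single c 46 (by decide), v1]

end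

end Cfsg.Agent.Lib.Helper36_E6OutDg
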