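import Cfsg.Agent.Lib.Helper36_E6OutGens
import Cfsg.Agent.Lib.Helper36_E6OutDg

set_option autoImplicit false
set_option maxRecDepth 100000

/-!
The diagonal automorphisms of the twisted group of type `²E₆`: the conjugations by the diagonal matrices of the
characters of the root lattice with fixed parameters.
-/

namespace Cfsg.Agent.Lib.Helper36_E6OutDiag

open Cfsg Cfsg.Lie Cfsg.Agent.Lib.Helper18_ChevFast Cfsg.Agent.Lib.Helper18_ChevEngine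
  Cfsg.Agent.Lib.Helper18_ChevN Cfsg.Agent.Lib.Helper18_ChevWeyl
  Cfsg.Agent.Lib.Helper18_ChevGL
  Cfsg.Agent.Lib.Helper36_ChevTorus Cfsg.Agent.Lib.Helper36_ChevTorusAll Cfsg.Agent.Lib.Helper36_ChevBorel
  Cfsg.Agent.Lib.Helper36_ChevW0 Cfsg.Agent.Lib.Helper36_ChevW0All
  Cfsg.Agent.Lib.Helper36_ChevTables Cfsg.Agent.Lib.Helper36_ChevHOrder
  Cfsg.Agent.Lib.Helper36_ChevOrder Cfsg.Agent.Lib.Helper36_ChevOrderAll Cfsg.Agent.Lib.Helper36_WeylChain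
  Cfsg.Agent.Lib.Helper36_WeylLit Cfsg.Agent.Lib.Helper36_WeylLit.RootLit
  Cfsg.Agent.Lib.Helper36_ChevDataE6Lit Cfsg.Agent.Lib.Helper36_ChevDataE6LitOK
  Cfsg.Agent.Lib.Helper36_TwistU Cfsg.Agent.Lib.Helper36_TwistW Cfsg.Agent.Lib.Helper36_TwistH
  Cfsg.Agent.Lib.Helper36_TwistWeyl Cfsg.Agent.Lib.Helper36_TwistWeylE6
  Cfsg.Agent.Lib.Helper36_TwistOrder Cfsg.Agent.Lib.Helper36_TwistTabE6 Cfsg.Agent.Lib.Helper36_TwistE6
  Cfsg.Agent.Lib.Helper36_TwistOrderE6 Cfsg.Agent.Lib.Helper36_TwistBNE6 Cfsg.Agent.Lib.Helper36_TwistCoreE6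
  Cfsg.Agent.Lib.Helper36_TwistBN Cfsg.Agent.Lib.Helper36_TwistAbs Cfsg.Agent.Lib.Helper36_TwistAbsOrder
  Cfsg.Agent.Lib.Helper36_TwistCellCore Cfsg.Agent.Lib.Helper36_CellAut2 Cfsg.Agent.Lib.Helper36_CellAut3
  Cfsg.Agent.Lib.Helper36_E6OutCells Cfsg.Agent.Lib.Helper36_E6OutWeyl Cfsg.Agent.Lib.Helper36_E6OutCore
  Cfsg.Agent.Lib.Helper36_TwistHE6 Cfsg.Agent.Lib.Helper36_E6OutParam Cfsg.Agent.Lib.Helper36_E6OutTorus
  Cfsg.Agent.Lib.Helper36_E6OutGens Cfsg.Agent.Lib.Helper36_E6OutDg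

section diag

variable {K : Type*} [Field K] [Fintype K] {q : ℕ} (hq : IsPrimePow q) (hK : Fintype.card K = q ^ 2)
  (f : K →+* K) (hf : ∀ x : K, f x = x ^ q)

/-- The fixed parameters. -/
abbrev That (K : Type*) [Field K] (f : K →+* K) : Type _ :=
  {c : Fin chevE6.rank → Kˣ // tau chevE6 K rho f c = c}

omit [Fintype K] in
theorem dg_inv (c : Fin chevE6.rank → Kˣ) : (dg c)⁻¹ = dg c⁻¹ := by
  unfold dg
  rw [torusGL_inv]
  congr 1
  have h := rchar_mul c c⁻¹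
  rw [mul_inv_cancel, rchar_one] at h
  exact (eq_inv_of_mul_eq_one_right h.symm).symm

omit [Fintype K] in
theorem tau_inv (c : Fin chevE6.rank → Kˣ) (hc : tau chevE6 K rho f c = c) : tau chevE6 K rho f c⁻¹ = c⁻¹ := by
  rw [map_inv, hc]

include hK hf in
theorem dg_mem' (c : Fin chevE6.rank → Kˣ) (hc : tau chevE6 K rho f c = c) (g : GL chevE6.Idx K)
    (hg : g ∈ twistedE6 K q) : (dg c)⁻¹ * g * dg c ∈ twistedE6 K q := by
  have h := dg_mem hK f hf c⁻¹ (tau_inv f c hc) g hg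
  rwa [← dg_inv, inv_inv] at h

/-- The diagonal automorphism of a fixed parameter. -/
noncomputable def δ (c : That K f) : MulAut ↥(twistedE6 K q) where
  toFun x := ⟨dg c.1 * x.1 * (dg c.1)⁻¹, dg_mem hK f hf c.1 c.2 x.1 x.2⟩
  invFun x := ⟨(dg c.1)⁻¹ * x.1 * dg c.1, dg_mem' hK f hf c.1 c.2 x.1 x.2⟩
  left_inv x := by
    apply Subtype.ext
    show (dg c.1)⁻¹ * (dg c.1 * x.1 * (dg c.1)⁻¹) * dg c.1 = x.1
    group
  right_inv x := by
    apply Subtype.ext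
    show dg c.1 * ((dg c.1)⁻¹ * x.1 * dg c.1) * (dg c.1)⁻¹ = x.1
    group
  map_mul' x y := by
    apply Subtype.ext
    show dg c.1 * (x.1 * y.1) * (dg c.1)⁻¹ = (dg c.1 * x.1 * (dg c.1)⁻¹) * (dg c.1 * y.1 * (dg c.1)⁻¹)
    group

theorem δ_coe (c : That K f) (x : ↥(twistedE6 K q)) :
    ((δ hK f hf c x : ↥(twistedE6 K q)) : GL chevE6.Idx K) = dg c.1 * x.1 * (dg c.1)⁻¹ := rfl

omit [Fintype K] in
theorem dg_pos_iff (c : Fin chevE6.rank → Kˣ) (g : GL chevE6.Idx K) :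
    g ∈ chevE6.posUnipotent K ↔ dg c * g * (dg c)⁻¹ ∈ chevE6.posUnipotent K := by
  constructor
  · exact dg_pos c g
  · intro h
    have h2 := dg_pos c⁻¹ _ h
    rw [← dg_inv] at h2
    have e : (dg c)⁻¹ * (dg c * g * (dg c)⁻¹) * (dg c)⁻¹⁻¹ = g := by group
    rwa [e] at h2

omit [Fintype K] in
theorem dg_diag_iff (c : Fin chevE6.rank → Kˣ) (g : GL chevE6.Idx K) :
    g ∈ chevE6.diagonalSubgroup K ↔ dg c * g * (dg c)⁻¹ ∈ chevE6.diagonalSubgroup K := by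
  constructor
  · intro h
    rw [dg_diag c g h]
    exact h
  · intro h
    have h2 := dg_diag c⁻¹ _ h
    rw [← dg_inv] at h2
    have e : (dg c)⁻¹ * (dg c * g * (dg c)⁻¹) * (dg c)⁻¹⁻¹ = g := by group
    rw [e] at h2
    rw [h2]
    exact h

end diag

end Cfsg.Agent.Lib.Helper36_E6OutDiag
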