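import Cfsg.Agent.Lib.Helper36_E6OutTorus

set_option autoImplicit false
set_option maxRecDepth 100000

/-!
The root subgroups of the four simple classes of the twisted group of type `²E₆`: the parametrisation of the first one
of the chain, and the transitivity of the subgroup generated by a root subgroup and its opposite on the non-trivial
elements of the next root subgroup of the chain.
-/

namespace Cfsg.Agent.Lib.Helper36_E6OutGens

open Cfsg Cfsg.Lie Cfsg.Agent.Lib.Helper18_ChevFast Cfsg.Agent.Lib.Helper18_ChevEngine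
  Cfsg.Agent.Lib.Helper18_ChevN Cfsg.Agent.Lib.Helper18_ChevWeyl
  Cfsg.Agent.Lib.Helper18_ChevGL Cfsg.Agent.Lib.Helper18_ChevTri Cfsg.Agent.Lib.Helper18_ChevAdd Cfsg.Agent.Lib.Helper18_ChevUni
  Cfsg.Agent.Lib.Helper36_ChevTorus Cfsg.Agent.Lib.Helper36_ChevTorusAll Cfsg.Agent.Lib.Helper36_ChevBorel
  Cfsg.Agent.Lib.Helper36_ChevW0 Cfsg.Agent.Lib.Helper36_ChevW0All
  Cfsg.Agent.Lib.Helper36_ChevTables Cfsg.Agent.Lib.Helper36_ChevHOrder
  Cfsg.Agent.Lib.Helper36_ChevOrder Cfsg.Agent.Lib.Helper36_ChevOrderAll Cfsg.Agent.Lib.Helper36_WeylChain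
  Cfsg.Agent.Lib.Helper36_WeylLit Cfsg.Agent.Lib.Helper36_WeylLit.RootLit
  Cfsg.Agent.Lib.Helper36_ChevDataE6Lit Cfsg.Agent.Lib.Helper36_ChevDataE6LitOK
  Cfsg.Agent.Lib.Helper36_TwistU Cfsg.Agent.Lib.Helper36_TwistW Cfsg.Agent.Lib.Helper36_TwistH
  Cfsg.Agent.Lib.Helper36_TwistWeyl Cfsg.Agent.Lib.Helper36_TwistWeylE6
  Cfsg.Agent.Lib.Helper36_TwistOrder Cfsg.Agent.Lib.Helper36_TwistTabE6 Cfsg.Agent.Lib.Helper36_TwistE6
  Cfsg.Agent.Lib.Helper36_TwistOrderE6 Cfsg.Agent.Lib.Helper36_TwistBNE6 Cfsg.Agent.Lib.Helper36_TwistCoreE6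
  Cfsg.Agent.Lib.Helper36_TwistBN Cfsg.Agent.Lib.Helper36_TwistAbs Cfsg.Agent.Lib.Helper36_TwistAbsOrder
  Cfsg.Agent.Lib.Helper36_TwistCellCore Cfsg.Agent.Lib.Helper36_CellAut2 Cfsg.Agent.Lib.Helper36_CellAut3
  Cfsg.Agent.Lib.Helper36_E6OutCells Cfsg.Agent.Lib.Helper36_E6OutWeyl Cfsg.Agent.Lib.Helper36_E6OutCore
  Cfsg.Agent.Lib.Helper36_TwistHE6 Cfsg.Agent.Lib.Helper36_E6OutParam Cfsg.Agent.Lib.Helper36_E6OutTorus

section arith

variable {K : Type*} [Field K] [Fintype K] {q : ℕ} (hq : IsPrimePow q) (hK : Fintype.card K = q ^ 2)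
  (f : K →+* K) (hf : ∀ x : K, f x = x ^ q)

include hf in
omit [Fintype K] in
theorem units_map (a : Kˣ) : Units.map (f : K →* K) a = a ^ q := by
  apply Units.ext
  rw [Units.val_pow_eq_pow_val, ← hf]
  rfl

include hf in
omit [Fintype K] in
theorem norm_eq (u : Kˣ) : u * Units.map (f : K →* K) u = u ^ (q + 1) := by
  rw [units_map f hf, pow_succ']

include hq hK in
/-- The norm to the fixed field is surjective. -/
theorem norm_surj (b : Kˣ) (hb : b ^ q = b) : ∃ u : Kˣ, u ^ (q + 1) = b := by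
  classical
  obtain ⟨g, hg⟩ := IsCyclic.exists_generator (α := Kˣ)
  obtain ⟨k, hk⟩ := Subgroup.mem_zpowers_iff.mp (hg b)
  have hq1 : 1 ≤ q := hq.pos
  have hord : (orderOf g : ℤ) = ((q : ℤ) - 1) * ((q : ℤ) + 1) := by
    rw [orderOf_eq_card_of_forall_mem_zpowers hg, Nat.card_eq_fintype_card, Fintype.card_units, hK,
      Nat.cast_sub (Nat.one_le_pow 2 q hq1)]
    push_cast
    ring
  have h1 : g ^ (k * ((q : ℤ) - 1)) = 1 := by
    rw [zpow_mul, hk, zpow_sub, zpow_natCast, zpow_one, hb, mul_inv_cancel]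
  have h2 : (orderOf g : ℤ) ∣ k * ((q : ℤ) - 1) := orderOf_dvd_iff_zpow_eq_one.mpr h1
  rw [hord, mul_comm k] at h2
  have hq2 : ((q : ℤ) - 1) ≠ 0 := by
    have := hq.two_le
    omega
  obtain ⟨j, hj⟩ := (mul_dvd_mul_iff_left hq2).mp h2
  refine ⟨g ^ j, ?_⟩
  rw [← zpow_natCast, ← zpow_mul, ← hk, hj]
  congr 1
  push_cast
  ring

end arith

section gens

variable {K : Type*} [Field K] [Fintype K] {q : ℕ} (hq : IsPrimePow q) (hK : Fintype.card K = q ^ 2)
  (f : K →+* K) (hf : ∀ x : K, f x = x ^ q)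

/-- The elements of the root subgroups of the simple classes. -/
noncomputable def xg (a : Fin 4) (t : K) (ht : Closes pi eps f (posCls a) t) : ↥(twistedE6 K q) :=
  ⟨yS dc pi eps f (posCls a) t, gen_mem hK f hf (posCls a) (posCls_mem a).2 t ht⟩

theorem xg_mem (a : Fin 4) (t : K) (ht : Closes pi eps f (posCls a) t) :
    xg hK f hf a t ht ∈ Uw1 (twAbs hK f hf) (gW a) :=
  (mem_Uw_gen hK f hf a _).mpr ⟨t, ht, rfl⟩

include hK hf in
theorem closes2 (t : K) : Closes pi eps f (posCls 2) t := closes_pair hK f hf _ (posCls_mem 2).2 rfl t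

include hK hf in
theorem closes3 (t : K) : Closes pi eps f (posCls 3) t := closes_pair hK f hf _ (posCls_mem 3).2 rfl t

include hf in
theorem closes0 (t : K) : Closes pi eps f (posCls 0) t ↔ t ^ q = t := closes_single f hf _ (posCls_mem 0).2 rfl t

include hf in
theorem closes1 (t : K) : Closes pi eps f (posCls 1) t ↔ t ^ q = t := closes_single f hf _ (posCls_mem 1).2 rfl t

/-- The elements of the first root subgroup of the chain. -/
noncomputable def xB (t : K) : ↥(twistedE6 K q) := xg hK f hf 2 t (closes2 hK f hf t)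

theorem mem_UwB (g : ↥(twistedE6 K q)) : g ∈ Uw1 (twAbs hK f hf) (gW 2) ↔ ∃ t : K, g = xB hK f hf t := by
  rw [mem_Uw_gen hK f hf 2]
  constructor
  · rintro ⟨t, -, e⟩
    exact ⟨t, Subtype.ext e⟩
  · rintro ⟨t, rfl⟩
    exact ⟨t, closes2 hK f hf t, rfl⟩

theorem xB_add (s t : K) : xB hK f hf (s + t) = xB hK f hf s * xB hK f hf t :=
  Subtype.ext (yS_add hK f hf 2 s t (closes2 hK f hf s) (closes2 hK f hf t))

theorem xB_inj (s t : K) (h : xB hK f hf s = xB hK f hf t) : s = t :=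
  yS_inj f 2 s t (congrArg Subtype.val h)

/-- The elements of `H¹` act on the first root subgroup of the chain through scalars. -/
theorem actB (h : ↥(twistedE6 K q)) (hh : h ∈ H1 chevE6 K (twistedE6 K q)) :
    ∃ β : Kˣ, ∀ t : K, h * xB hK f hf t * h⁻¹ = xB hK f hf ((β : K) * t) := by
  rw [mem_H1] at hh
  obtain ⟨u, hu⟩ := ((hfK K).mem_diag h.1).mp hh
  refine ⟨chi chevE6 K u 56, fun t => Subtype.ext ?_⟩
  show h.1 * yS dc pi eps f (posCls 2) t * h.1⁻¹ = yS dc pi eps f (posCls 2) _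
  rw [hu]
  exact torus_conj hK f hf u (hu ▸ h.2) (posCls 2) (posCls_mem 2).1 t (closes2 hK f hf t)

/-- Every scalar is induced on the first root subgroup of the chain by an element of `H¹`. -/
theorem surjB (β : Kˣ) : ∃ h ∈ H1 chevE6 K (twistedE6 K q),
    ∀ t : K, h * xB hK f hf t * h⁻¹ = xB hK f hf ((β : K) * t) := by
  refine ⟨hH hK f hf 1 β⁻¹ 1 1 (map_one _) (map_one _), hH_mem hK f hf _ _ _ _ _ _, fun t => Subtype.ext ?_⟩
  show (hH hK f hf 1 β⁻¹ 1 1 (map_one _) (map_one _)).1 * yS dc pi eps f (posCls 2) t *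
    ((hH hK f hf 1 β⁻¹ 1 1 (map_one _) (map_one _)).1)⁻¹ = yS dc pi eps f (posCls 2) _
  rw [hH_yS hK f hf 1 β⁻¹ 1 1 (map_one _) (map_one _) (posCls 2) (posCls_mem 2).1 t (closes2 hK f hf t)]
  have e : chi chevE6 K (ext chevE6 K (pr f 1 β⁻¹ 1 1)) (posCls 2).1 = β := by
    show chi chevE6 K (ext chevE6 K (pr f 1 β⁻¹ 1 1)) 56 = β
    rw [chi56, one_pow, one_mul, inv_inv]
  rw [e]

end gens

section sl2

variable {K : Type*} [Field K] [Fintype K] {q : ℕ} (hq : IsPrimePow q) (hK : Fintype.card K = q ^ 2)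
  (f : K →+* K) (hf : ∀ x : K, f x = x ^ q)

include hf in
/-- The element `h_i(a) h_j(f a)` of a pair of nodes exchanged by the symmetry as a product of root elements. -/
theorem pair_eq (i j : Fin chevE6.rank) (hij : Cross chevE6 i j) (r s r' s' : ℕ)
    (hr : chevE6.simple i = r ∧ chevE6.simple j = s ∧ chevE6.neg r = r' ∧ chevE6.neg s = s') (a : Kˣ) :
    torusHom chevE6 K (Pi.mulSingle i a * Pi.mulSingle j (Units.map (f : K →* K) a)) =
      ((xGL dc r (a : K) * xGL dc s (f a)) * (xGL dc r' (-(a : K)⁻¹) * xGL dc s' (f (-(a : K)⁻¹))) *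
        (xGL dc r (a : K) * xGL dc s (f a))) *
      ((xGL dc r (-1) * xGL dc s (f (-1))) * (xGL dc r' (-(-1 : K)⁻¹) * xGL dc s' (f (-(-1 : K)⁻¹))) *
        (xGL dc r (-1) * xGL dc s (f (-1)))) := by
  rw [map_mul, torusHom_single chevE6 K (Helper36_ChevDataE6T.facts K) dc,
    torusHom_single chevE6 K (Helper36_ChevDataE6T.facts K) dc, hGL_two certs hij, nT_two certs hij, nT_two certs hij,
    hr.1, hr.2.1, hr.2.2.1, hr.2.2.2]
  have e1 : ((Units.map (f : K →* K) a : Kˣ) : K) = f a := rfl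
  have e2 : f (-(a : K)⁻¹) = -(f (a : K))⁻¹ := frob_neg_inv f hf _
  have e3 : f (-1 : K) = -1 := by rw [map_neg, map_one]
  have e4 : f (-(-1 : K)⁻¹) = -(-1 : K)⁻¹ := by rw [frob_neg_inv f hf, map_neg, map_one]
  rw [e1, e2, e3, e4]

omit [Fintype K] in
/-- The element `h_j(t)` of a fixed node as a product of root elements. -/
theorem single_eq (j : Fin chevE6.rank) (r r' : ℕ) (hr : chevE6.simple j = r ∧ chevE6.neg r = r') (t : Kˣ) :
    torusHom chevE6 K (Pi.mulSingle j t) =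
      (xGL dc r (t : K) * xGL dc r' (-(t : K)⁻¹) * xGL dc r (t : K)) *
        (xGL dc r (-1) * xGL dc r' (-(-1 : K)⁻¹) * xGL dc r (-1)) := by
  rw [torusHom_single chevE6 K (Helper36_ChevDataE6T.facts K) dc, hGL_eq, nT_eq, nT_eq, hr.1, hr.2]

end sl2

section trans

variable {K : Type*} [Field K] [Fintype K] {q : ℕ} (hq : IsPrimePow q) (hK : Fintype.card K = q ^ 2)
  (f : K →+* K) (hf : ∀ x : K, f x = x ^ q)

/-- The generating set of the subgroup generated by a root subgroup and its opposite. -/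
def LSet (a : Fin 4) : Set ↥(twistedE6 K q) :=
  {g | g ∈ Uw1 (twAbs hK f hf) (gW a)} ∪
    {g | ∃ x ∈ Uw1 (twAbs hK f hf) (gW a), g = nw1 (twAbs hK f hf) (gW a) * x * (nw1 (twAbs hK f hf) (gW a))⁻¹}

/-- An element which is a product of elements of a simple class and of its opposite as in the formula for the
elements of the diagonal subgroup lies in the subgroup generated by the root subgroup and its opposite. -/
theorem torus_mem_L (a : Fin 4) (h : ↥(twistedE6 K q)) (u : K)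
    (c1 : Closes pi eps f (posCls a) u) (c2 : Closes pi eps f (negCls a) (-u⁻¹))
    (c3 : Closes pi eps f (posCls a) (-1)) (c4 : Closes pi eps f (negCls a) (-(-1 : K)⁻¹))
    (e : h.1 = (yS dc pi eps f (posCls a) u * yS dc pi eps f (negCls a) (-u⁻¹) * yS dc pi eps f (posCls a) u) *
      (yS dc pi eps f (posCls a) (-1) * yS dc pi eps f (negCls a) (-(-1 : K)⁻¹) * yS dc pi eps f (posCls a) (-1))) :
    h ∈ Subgroup.closure (LSet hK f hf a) := by
  have hP : ∀ (t : K) (ht : Closes pi eps f (posCls a) t), xg hK f hf a t ht ∈ Subgroup.closure (LSet hK f hf a) :=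
    fun t ht => Subgroup.subset_closure (Or.inl (xg_mem hK f hf a t ht))
  have hN : ∀ (t : K) (ht : Closes pi eps f (negCls a) t),
      (⟨yS dc pi eps f (negCls a) t, gen_mem hK f hf (negCls a) (negCls_mem a) t ht⟩ : ↥(twistedE6 K q)) ∈
        Subgroup.closure (LSet hK f hf a) := by
    intro t ht
    obtain ⟨y, hy, e2⟩ := neg_gen hK f hf a t ht ⟨_, gen_mem hK f hf (negCls a) (negCls_mem a) t ht⟩ rfl
    exact Subgroup.subset_closure (Or.inr ⟨y, hy, e2⟩)
  have e' : h = (xg hK f hf a u c1 * ⟨_, gen_mem hK f hf (negCls a) (negCls_mem a) _ c2⟩ * xg hK f hf a u c1) *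
      (xg hK f hf a (-1) c3 * ⟨_, gen_mem hK f hf (negCls a) (negCls_mem a) _ c4⟩ * xg hK f hf a (-1) c3) :=
    Subtype.ext e
  rw [e']
  exact Subgroup.mul_mem _ (Subgroup.mul_mem _ (Subgroup.mul_mem _ (hP _ c1) (hN _ c2)) (hP _ c1))
    (Subgroup.mul_mem _ (Subgroup.mul_mem _ (hP _ c3) (hN _ c4)) (hP _ c3))

end trans

section trans2

variable {K : Type*} [Field K] [Fintype K] {q : ℕ} (hq : IsPrimePow q) (hK : Fintype.card K = q ^ 2)
  (f : K →+* K) (hf : ∀ x : K, f x = x ^ q)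

omit [Fintype K] in
theorem pr_decomp (a b c d : Kˣ) : pr f a b c d =
    Pi.mulSingle n1 c * Pi.mulSingle n3 d * (Pi.mulSingle n0 a * Pi.mulSingle n5 (Units.map (f : K →* K) a)) *
      (Pi.mulSingle n2 b * Pi.mulSingle n4 (Units.map (f : K →* K) b)) :=
  decomp6 (pr f a b c d)

omit [Fintype K] in
theorem pr_a (u : Kˣ) : pr f u 1 1 1 = Pi.mulSingle n0 u * Pi.mulSingle n5 (Units.map (f : K →* K) u) := by
  rw [pr_decomp]
  simp only [map_one, Pi.mulSingle_one, one_mul, mul_one]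

omit [Fintype K] in
theorem pr_b (u : Kˣ) : pr f 1 u 1 1 = Pi.mulSingle n2 u * Pi.mulSingle n4 (Units.map (f : K →* K) u) := by
  rw [pr_decomp]
  simp only [map_one, Pi.mulSingle_one, one_mul, mul_one]

omit [Fintype K] in
theorem pr_d (u : Kˣ) : pr f 1 1 1 u = Pi.mulSingle n3 u := by
  rw [pr_decomp]
  simp only [map_one, Pi.mulSingle_one, one_mul, mul_one]

theorem yS_pair' (r r' : ℕ) (h : pi r = r' ∧ eps r = 1) (x : K) :
    yS (K := K) dc pi eps f (r, 2) x = xGL dc r x * xGL dc r' (f x) := by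
  rw [yS_pair f r r' h, wordGL_cons, wordGL_cons, wordGL_nil, mul_one]

theorem yS_single' (r : ℕ) (x : K) : yS (K := K) dc pi eps f (r, 1) x = xGL dc r x := by
  rw [yS_single, wordGL_single]

include hK hf in
theorem closesN2 (t : K) : Closes pi eps f (negCls 2) t := closes_pair hK f hf _ (negCls_mem 2) rfl t

include hK hf in
theorem closesN3 (t : K) : Closes pi eps f (negCls 3) t := closes_pair hK f hf _ (negCls_mem 3) rfl t

include hf in
theorem closesN1 (t : K) : Closes pi eps f (negCls 1) t ↔ t ^ q = t := closes_single f hf _ (negCls_mem 1) rfl t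

/-- The elements `h_0(u) h_5(f u)` lie in the subgroup generated by the root subgroup of the generator `2` and its
opposite. -/
theorem HL2 (u : Kˣ) : hH hK f hf u 1 1 1 (map_one _) (map_one _) ∈ Subgroup.closure (LSet hK f hf 2) := by
  obtain ⟨s0, s1, s2, s3, s4, s5, m0, m1, m2, m3, m4, m5⟩ := simples
  apply torus_mem_L hK f hf 2 _ (u : K) (closes2 hK f hf _) (closesN2 hK f hf _) (closes2 hK f hf _)
    (closesN2 hK f hf _)
  show torusHom chevE6 K (pr f u 1 1 1) = _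
  rw [pr_a, pair_eq f hf n0 n5 (crossOK [0, 5] (by decide) 0 (by decide) 5 (by decide) (by decide)) 56 36 15 35
    ⟨s0, s5, m0, m5⟩ u]
  show _ = (yS dc pi eps f (56, 2) (u : K) * yS dc pi eps f (15, 2) (-(u : K)⁻¹) * yS dc pi eps f (56, 2) (u : K)) *
    (yS dc pi eps f (56, 2) (-1) * yS dc pi eps f (15, 2) (-(-1 : K)⁻¹) * yS dc pi eps f (56, 2) (-1))
  rw [yS_pair' f 56 36 pi56, yS_pair' f 56 36 pi56, yS_pair' f 15 35 pi15, yS_pair' f 15 35 pi15]

/-- The elements `h_2(u) h_4(f u)` lie in the subgroup generated by the root subgroup of the generator `3` and its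
opposite. -/
theorem HL3 (u : Kˣ) : hH hK f hf 1 u 1 1 (map_one _) (map_one _) ∈ Subgroup.closure (LSet hK f hf 3) := by
  obtain ⟨s0, s1, s2, s3, s4, s5, m0, m1, m2, m3, m4, m5⟩ := simples
  apply torus_mem_L hK f hf 3 _ (u : K) (closes3 hK f hf _) (closesN3 hK f hf _) (closes3 hK f hf _)
    (closesN3 hK f hf _)
  show torusHom chevE6 K (pr f 1 u 1 1) = _
  rw [pr_b, pair_eq f hf n2 n4 (crossOK [2, 4] (by decide) 2 (by decide) 4 (by decide) (by decide)) 42 37 29 34
    ⟨s2, s4, m2, m4⟩ u]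
  show _ = (yS dc pi eps f (42, 2) (u : K) * yS dc pi eps f (29, 2) (-(u : K)⁻¹) * yS dc pi eps f (42, 2) (u : K)) *
    (yS dc pi eps f (42, 2) (-1) * yS dc pi eps f (29, 2) (-(-1 : K)⁻¹) * yS dc pi eps f (42, 2) (-1))
  rw [yS_pair' f 42 37 pi42, yS_pair' f 42 37 pi42, yS_pair' f 29 34 pi29, yS_pair' f 29 34 pi29]

/-- The elements `h_3(u)` with `u` in the small field lie in the subgroup generated by the root subgroup of the
generator `1` and its opposite. -/
theorem HL1 (u : Kˣ) (hu : Units.map (f : K →* K) u = u) :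
    hH hK f hf 1 1 1 u (map_one _) hu ∈ Subgroup.closure (LSet hK f hf 1) := by
  obtain ⟨s0, s1, s2, s3, s4, s5, m0, m1, m2, m3, m4, m5⟩ := simples
  have huq : (u : K) ^ q = u := by
    rw [← hf]
    exact congrArg Units.val hu
  have h1 : (-1 : K) ^ q = -1 := neg_one_pow f hf
  have h2 : ∀ a : K, a ^ q = a → (-a⁻¹) ^ q = -a⁻¹ := fun a ha => by
    rw [← hf, frob_neg_inv f hf, hf, ha]
  apply torus_mem_L hK f hf 1 _ (u : K) ((closes1 f hf _).mpr huq) ((closesN1 f hf _).mpr (h2 _ huq))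
    ((closes1 f hf _).mpr h1) ((closesN1 f hf _).mpr (h2 _ h1))
  show torusHom chevE6 K (pr f 1 1 1 u) = _
  rw [pr_d, single_eq n3 39 32 ⟨s3, m3⟩ u]
  show _ = (yS dc pi eps f (39, 1) (u : K) * yS dc pi eps f (32, 1) (-(u : K)⁻¹) * yS dc pi eps f (39, 1) (u : K)) *
    (yS dc pi eps f (39, 1) (-1) * yS dc pi eps f (32, 1) (-(-1 : K)⁻¹) * yS dc pi eps f (39, 1) (-1))
  rw [yS_single', yS_single', yS_single', yS_single']

end trans2

section trans3

variable {K : Type*} [Field K] [Fintype K] {q : ℕ} (hq : IsPrimePow q) (hK : Fintype.card K = q ^ 2)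
  (f : K →+* K) (hf : ∀ x : K, f x = x ^ q)

/-- The conjugate of an element of a root subgroup by a fixed element of the diagonal subgroup. -/
theorem conj_xg (a b c d : Kˣ) (hc : Units.map (f : K →* K) c = c) (hd : Units.map (f : K →* K) d = d)
    (i : Fin 4) (t : K) (ht : Closes pi eps f (posCls i) t) (β : Kˣ)
    (hβ : chi chevE6 K (ext chevE6 K (pr f a b c d)) (posCls i).1 = β) (y : ↥(twistedE6 K q)) (s : K)
    (ey : y.1 = yS dc pi eps f (posCls i) s) (hs : (β : K) * t = s) :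
    hH hK f hf a b c d hc hd * xg hK f hf i t ht * (hH hK f hf a b c d hc hd)⁻¹ = y := by
  apply Subtype.ext
  show (hH hK f hf a b c d hc hd).1 * yS dc pi eps f (posCls i) t * ((hH hK f hf a b c d hc hd).1)⁻¹ = y.1
  rw [hH_yS hK f hf a b c d hc hd (posCls i) (posCls_mem i).1 t ht, hβ, hs, ey]

theorem param_ne_zero (i : Fin 4) (y : ↥(twistedE6 K q)) (hy1 : y ≠ 1) (s : K)
    (ey : y.1 = yS dc pi eps f (posCls i) s) : s ≠ 0 := by
  rintro rfl
  apply hy1
  apply Subtype.ext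
  rw [ey, yS_zero f i]
  rfl

include hK hf in
theorem one_closes (i : Fin 4) : Closes pi eps f (posCls i) (1 : K) := by
  fin_cases i
  · exact (closes0 f hf 1).mpr (one_pow q)
  · exact (closes1 f hf 1).mpr (one_pow q)
  · exact closes2 hK f hf 1
  · exact closes3 hK f hf 1

/-- The distinguished elements of the root subgroups. -/
noncomputable def eg (i : Fin 4) : ↥(twistedE6 K q) := xg hK f hf i 1 (one_closes hK f hf i)

theorem eg_mem (i : Fin 4) : eg hK f hf i ∈ Uw1 (twAbs hK f hf) (gW i) := xg_mem hK f hf i 1 _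

theorem eg_ne (i : Fin 4) : eg hK f hf i ≠ 1 := by
  intro h
  have h2 : yS dc pi eps f (posCls i) (1 : K) = yS dc pi eps f (posCls i) 0 := by
    rw [yS_zero f i]
    exact congrArg Subtype.val h
  exact one_ne_zero (yS_inj f i _ _ h2)

/-- The subgroup generated by the root subgroup of the generator `2` and its opposite is transitive on the
non-trivial elements of the root subgroup of the generator `3`. -/
theorem trans23 (y : ↥(twistedE6 K q)) (hy : y ∈ Uw1 (twAbs hK f hf) (gW 3)) (hy1 : y ≠ 1) :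
    ∃ g ∈ Subgroup.closure (LSet hK f hf 2), g * eg hK f hf 3 * g⁻¹ = y := by
  obtain ⟨s, -, ey⟩ := (mem_Uw_gen hK f hf 3 y).mp hy
  have hs0 : s ≠ 0 := param_ne_zero f 3 y hy1 s ey
  refine ⟨hH hK f hf (Units.mk0 s hs0)⁻¹ 1 1 1 (map_one _) (map_one _), HL2 hK f hf _, ?_⟩
  apply conj_xg hK f hf _ 1 1 1 _ _ 3 1 _ (Units.mk0 s hs0) ?_ y s ey (by rw [Units.val_mk0, mul_one])
  show chi chevE6 K (ext chevE6 K (pr f (Units.mk0 s hs0)⁻¹ 1 1 1)) 42 = _
  rw [chi42, one_pow, mul_one, _root_.inv_one, mul_one, inv_inv]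

include hq in
/-- The subgroup generated by the root subgroup of the generator `3` and its opposite is transitive on the
non-trivial elements of the root subgroup of the generator `1`. -/
theorem trans31 (y : ↥(twistedE6 K q)) (hy : y ∈ Uw1 (twAbs hK f hf) (gW 1)) (hy1 : y ≠ 1) :
    ∃ g ∈ Subgroup.closure (LSet hK f hf 3), g * eg hK f hf 1 * g⁻¹ = y := by
  obtain ⟨s, hs, ey⟩ := (mem_Uw_gen hK f hf 1 y).mp hy
  have hs0 : s ≠ 0 := param_ne_zero f 1 y hy1 s ey
  have hsq : s ^ q = s := (closes1 f hf s).mp hs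
  set b : Kˣ := (Units.mk0 s hs0)⁻¹ with hb
  have hbq : b ^ q = b := by
    rw [hb, inv_pow]
    congr 1
    apply Units.ext
    rw [Units.val_pow_eq_pow_val, Units.val_mk0, hsq]
  obtain ⟨u, hu⟩ := norm_surj hq hK b hbq
  refine ⟨hH hK f hf 1 u 1 1 (map_one _) (map_one _), HL3 hK f hf _, ?_⟩
  apply conj_xg hK f hf 1 u 1 1 _ _ 1 1 _ (Units.mk0 s hs0) ?_ y s ey (by rw [Units.val_mk0, mul_one])
  show chi chevE6 K (ext chevE6 K (pr f 1 u 1 1)) 39 = _
  rw [chi39, _root_.inv_one, one_mul, one_pow, mul_one, ← mul_inv, norm_eq f hf, hu, hb, inv_inv]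

/-- The subgroup generated by the root subgroup of the generator `1` and its opposite is transitive on the
non-trivial elements of the root subgroup of the generator `0`. -/
theorem trans10 (y : ↥(twistedE6 K q)) (hy : y ∈ Uw1 (twAbs hK f hf) (gW 0)) (hy1 : y ≠ 1) :
    ∃ g ∈ Subgroup.closure (LSet hK f hf 1), g * eg hK f hf 0 * g⁻¹ = y := by
  obtain ⟨s, hs, ey⟩ := (mem_Uw_gen hK f hf 0 y).mp hy
  have hs0 : s ≠ 0 := param_ne_zero f 0 y hy1 s ey
  have hsq : s ^ q = s := (closes0 f hf s).mp hs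
  have hd : Units.map (f : K →* K) (Units.mk0 s hs0)⁻¹ = (Units.mk0 s hs0)⁻¹ := by
    rw [map_inv]
    congr 1
    apply Units.ext
    show f s = s
    rw [hf, hsq]
  refine ⟨hH hK f hf 1 1 1 (Units.mk0 s hs0)⁻¹ (map_one _) hd, HL1 hK f hf _ hd, ?_⟩
  apply conj_xg hK f hf 1 1 1 _ _ _ 0 1 _ (Units.mk0 s hs0) ?_ y s ey (by rw [Units.val_mk0, mul_one])
  show chi chevE6 K (ext chevE6 K (pr f 1 1 1 (Units.mk0 s hs0)⁻¹)) 46 = _
  rw [chi46, one_pow, one_mul, inv_inv]

end trans3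

end Cfsg.Agent.Lib.Helper36_E6OutGens
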