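import Cfsg.Agent.Lib.Helper36_E6OutCells

set_option autoImplicit false
set_option maxRecDepth 100000

/-!
The cell subgroups of the four generators of the twisted Weyl group of `²E₆(q)` are the root subgroups of the four
simple classes, the root subgroups of the opposite classes are their conjugates by the representatives, and these
subgroups generate the twisted group.
-/

namespace Cfsg.Agent.Lib.Helper36_E6OutParam

open Cfsg Cfsg.Lie Cfsg.Agent.Lib.Helper18_ChevFast Cfsg.Agent.Lib.Helper18_ChevEngine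
  Cfsg.Agent.Lib.Helper18_ChevN Cfsg.Agent.Lib.Helper18_ChevWeyl
  Cfsg.Agent.Lib.Helper18_ChevGL Cfsg.Agent.Lib.Helper18_ChevTri
  Cfsg.Agent.Lib.Helper18_ChevAdd Cfsg.Agent.Lib.Helper18_ChevUni
  Cfsg.Agent.Lib.Helper36_ChevTorus Cfsg.Agent.Lib.Helper36_ChevTorusAll Cfsg.Agent.Lib.Helper36_ChevBorel
  Cfsg.Agent.Lib.Helper36_ChevW0 Cfsg.Agent.Lib.Helper36_ChevW0All
  Cfsg.Agent.Lib.Helper36_ChevTables Cfsg.Agent.Lib.Helper36_ChevHOrder
  Cfsg.Agent.Lib.Helper36_ChevOrder Cfsg.Agent.Lib.Helper36_ChevOrderAll Cfsg.Agent.Lib.Helper36_WeylChain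
  Cfsg.Agent.Lib.Helper36_WeylLit Cfsg.Agent.Lib.Helper36_WeylLit.RootLit
  Cfsg.Agent.Lib.Helper36_ChevDataE6Lit Cfsg.Agent.Lib.Helper36_ChevDataE6LitOK
  Cfsg.Agent.Lib.Helper36_TwistU Cfsg.Agent.Lib.Helper36_TwistW Cfsg.Agent.Lib.Helper36_TwistH
  Cfsg.Agent.Lib.Helper36_TwistWeyl Cfsg.Agent.Lib.Helper36_TwistWeylE6
  Cfsg.Agent.Lib.Helper36_TwistOrder Cfsg.Agent.Lib.Helper36_TwistTabE6 Cfsg.Agent.Lib.Helper36_TwistE6
  Cfsg.Agent.Lib.Helper36_TwistOrderE6 Cfsg.Agent.Lib.Helper36_TwistBNE6 Cfsg.Agent.Lib.Helper36_TwistCoreE6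
  Cfsg.Agent.Lib.Helper36_TwistBN Cfsg.Agent.Lib.Helper36_TwistAbs Cfsg.Agent.Lib.Helper36_TwistAbsOrder
  Cfsg.Agent.Lib.Helper36_TwistCellCore Cfsg.Agent.Lib.Helper36_CellAut2 Cfsg.Agent.Lib.Helper36_E6OutCells

section tables

theorem posTab : ∀ a : Fin 4, ∀ r < lit.n, lit.ps r = true → lit.ps (lit'.r a r) = false →
    r ∈ orbRoots pi (posCls a).2 (posCls a).1 := by
  decide +kernel

theorem posHead : ∀ a : Fin 4, (posCls a).1 < lit.n ∧ lit.ps (posCls a).1 = true ∧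
    lit.ps (lit'.r a (posCls a).1) = false := by
  decide +kernel

theorem negTab : ∀ a : Fin 4, ∀ r ∈ orbRoots pi (negCls a).2 (negCls a).1,
    r < chevE6.nroots ∧ lit'.r a r < lit.n ∧ lit.ps (lit'.r a r) = true ∧
      lit.ps (lit'.r a (lit'.r a r)) = false := by
  decide +kernel

end tables

section

variable {K : Type*} [Field K] [Fintype K] {q : ℕ} (hq : IsPrimePow q) (hK : Fintype.card K = q ^ 2)
  (f : K →+* K) (hf : ∀ x : K, f x = x ^ q)

omit [Fintype K] in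
/-- The subgroup of the roots satisfying a condition lies in the subgroup of the roots of a list. -/
theorem rootClosure_le_XS (P : ℕ → Prop) (S : List ℕ) (h : ∀ r, P r → r ∈ S) :
    rootClosure chevE6 K P ≤ XS dc K S := by
  unfold rootClosure XS
  apply Subgroup.closure_mono
  rintro g ⟨r, t, hr, hg⟩
  exact ⟨r, h r hr, t, Units.ext (hg.trans (xGL_coe dc r t).symm)⟩

omit [Fintype K] in
theorem wordGL_mem_closure (P : ℕ → Prop) (wd : List (ℕ × K)) (h : ∀ l ∈ wd, P l.1) :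
    wordGL dc wd ∈ rootClosure chevE6 K P := by
  apply wordGL_mem
  intro l hl
  rw [← xGL_eq (hfK K) certs]
  exact Cfsg.Agent.Lib.Helper36_ChevCommU.xGL_mem_rootClosure chevE6 K (hfK K).hlen (hfK K).hadd P _ (h l hl) _

/-- The roots made negative by a generator of the fixed subgroup of the Weyl group. -/
theorem sNeg_gen (a : ℕ) (ha : a < 4) (r : ℕ) :
    SNeg chevE6 lit (lit'.sPerm wf' a) r ↔ chevE6.IsPosRoot r ∧ ∃ _ : r < lit.n, lit.ps (lit'.r a r) = false := by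
  unfold SNeg
  constructor
  · rintro ⟨h1, h2, h3⟩
    refine ⟨h1, h2, ?_⟩
    rw [← lit'.sPerm_val wf' a ha ⟨r, h2⟩]
    exact h3
  · rintro ⟨h1, h2, h3⟩
    refine ⟨h1, h2, ?_⟩
    rw [← lit'.sPerm_val wf' a ha ⟨r, h2⟩] at h3
    exact h3

theorem sNeg_of (a : ℕ) (ha : a < 4) (r : ℕ) (hr : r < lit.n) (h1 : lit.ps r = true)
    (h2 : lit.ps (lit'.r a r) = false) : SNeg chevE6 lit (lit'.sPerm wf' a) r :=
  (sNeg_gen a ha r).mpr ⟨(litOK.hpos r (litOK.hn ▸ hr)).mp h1, hr, h2⟩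

theorem sNeg_mem (a : Fin 4) (r : ℕ) (h : SNeg chevE6 lit (gW a).1 r) :
    r ∈ orbRoots pi (posCls a).2 (posCls a).1 := by
  rw [gW_val, sNeg_gen a a.2] at h
  obtain ⟨h1, h2, h3⟩ := h
  exact posTab a r h2 ((litOK.hpos r h1.1).mpr h1) h3

/-- The cell subgroup of a generator is the root subgroup of its class. -/
theorem mem_Uw_gen (a : Fin 4) (g : ↥(twistedE6 K q)) :
    g ∈ Uw1 (twAbs hK f hf) (gW a) ↔
      ∃ t : K, Closes pi eps f (posCls a) t ∧ g.1 = yS dc pi eps f (posCls a) t := by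
  rw [mem_Uw1 (twAbs hK f hf) hyps]
  constructor
  · intro h
    have h2 : g.1 ∈ XS dc K (orbRoots pi (posCls a).2 (posCls a).1) :=
      rootClosure_le_XS _ _ (sNeg_mem a) h
    obtain ⟨x, hx, e⟩ := fixed_class certs (twist f) (posCls a) (classOK _ (posCls_mem a).1) g.1 h2
      (fixed hK f hf g.1 g.2)
    exact ⟨x, hx, e⟩
  · rintro ⟨t, -, e⟩
    rw [e]
    apply yS_mem_closure (C := certs) (hfK K) _ (posCls a)
    intro m
    apply SNeg_iter (hfK K) (twData hK f hf) litOK _ (gW a).2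
    rw [gW_val]
    exact sNeg_of a a.2 _ (posHead a).1 (posHead a).2.1 (posHead a).2.2

/-- The conjugate of an element of the subgroup of a set of negative roots by the inverse of the representative lies
in the cell subgroup. -/
theorem conj_neg_mem (a : Fin 4) (P : ℕ → Prop)
    (hP : ∀ r, P r → r < chevE6.nroots)
    (hPQ : ∀ r, P r → SNeg chevE6 lit (lit'.sPerm wf' a) (lit'.r a r))
    (g : ↥(twistedE6 K q)) (hg : g.1 ∈ rootClosure chevE6 K P) :
    ∃ y ∈ Uw1 (twAbs hK f hf) (gW a), g = nw1 (twAbs hK f hf) (gW a) * y * (nw1 (twAbs hK f hf) (gW a))⁻¹ := by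
  refine ⟨(nw1 (twAbs hK f hf) (gW a))⁻¹ * g * nw1 (twAbs hK f hf) (gW a), ?_, by group⟩
  rw [mem_Uw1 (twAbs hK f hf) hyps, gW_val]
  have hinv : ((gW a).1)⁻¹ = lit'.sPerm wf' a := by
    rw [gW_val]
    exact inv_eq_iff_mul_eq_one.mpr (lit'.sPerm_mul_self wf' a)
  have hact : ActsAs chevE6 K (hfK K) lit (rp (twAbs hK f hf) (gW a))⁻¹ (lit'.sPerm wf' a) :=
    hinv ▸ actsAs_inv chevE6 K (hfK K) lit (rp_acts (twAbs hK f hf) (gW a))
  have h := conj_rootClosure chevE6 K (hfK K) lit litOK hact P (SNeg chevE6 lit (lit'.sPerm wf' a)) hP (by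
    intro r hr
    rw [lit'.sPerm_val wf' a a.2]
    exact hPQ r hr) g.1 hg
  have e : (((nw1 (twAbs hK f hf) (gW a))⁻¹ * g * nw1 (twAbs hK f hf) (gW a) : ↥(twistedE6 K q)) :
      GL chevE6.Idx K) =
      (rp (twAbs hK f hf) (gW a))⁻¹ * g.1 * ((rp (twAbs hK f hf) (gW a))⁻¹)⁻¹ := by
    simp only [nw1, Subgroup.coe_mul, Subgroup.coe_inv, inv_inv]
  rw [e]
  exact h

/-- The elements of the opposite class are the conjugates of the elements of the cell subgroup by the
representative. -/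
theorem neg_gen (a : Fin 4) (t : K) (ht : Closes pi eps f (negCls a) t) (g : ↥(twistedE6 K q))
    (hg : g.1 = yS dc pi eps f (negCls a) t) :
    ∃ y ∈ Uw1 (twAbs hK f hf) (gW a), g = nw1 (twAbs hK f hf) (gW a) * y * (nw1 (twAbs hK f hf) (gW a))⁻¹ := by
  apply conj_neg_mem hK f hf a (fun r => r ∈ orbRoots pi (negCls a).2 (negCls a).1)
  · intro r hr
    exact (negTab a r hr).1
  · intro r hr
    obtain ⟨-, h2, h3, h4⟩ := negTab a r hr
    exact sNeg_of a a.2 _ h2 h3 h4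
  · rw [hg]
    unfold yS
    apply wordGL_mem_closure
    intro l hl
    exact orbWord_mem_fst _ _ l hl

include hK hf in
theorem yS_add (a : Fin 4) (s t : K) (hs : Closes pi eps f (posCls a) s)
    (ht : Closes pi eps f (posCls a) t) :
    yS dc pi eps f (posCls a) (s + t) = yS dc pi eps f (posCls a) s * yS dc pi eps f (posCls a) t :=
  ((Cfsg.Agent.Lib.Helper36_TwistPerf.yS_mul certs (twist f) (posCls a) (classOK _ (posCls_mem a).1) s t hs ht).2).symm

omit [Fintype K] in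
theorem yS_inj (a : Fin 4) (s t : K) (h : yS dc pi eps f (posCls a) s = yS dc pi eps f (posCls a) t) :
    s = t := by
  have h3 := congrArg (fun g => tOf dc g (posCls a).1) h
  beta_reduce at h3
  rw [yS_tOf_head certs (twist f) (posCls a) (classOK _ (posCls_mem a).1),
    yS_tOf_head certs (twist f) (posCls a) (classOK _ (posCls_mem a).1)] at h3
  exact h3

theorem yS_zero (a : Fin 4) : yS dc pi eps f (posCls a) (0 : K) = 1 := by
  fin_cases a
  · show yS dc pi eps f (46, 1) (0 : K) = 1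
    rw [yS_single, wordGL_single, Cfsg.Agent.Lib.Helper18_ChevUni.xGL_zero]
  · show yS dc pi eps f (39, 1) (0 : K) = 1
    rw [yS_single, wordGL_single, Cfsg.Agent.Lib.Helper18_ChevUni.xGL_zero]
  · show yS dc pi eps f (56, 2) (0 : K) = 1
    rw [yS_pair f 56 36 pi56, wordGL_cons, wordGL_single, map_zero, Cfsg.Agent.Lib.Helper18_ChevUni.xGL_zero,
      Cfsg.Agent.Lib.Helper18_ChevUni.xGL_zero, mul_one]
  · show yS dc pi eps f (42, 2) (0 : K) = 1
    rw [yS_pair f 42 37 pi42, wordGL_cons, wordGL_single, map_zero, Cfsg.Agent.Lib.Helper18_ChevUni.xGL_zero,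
      Cfsg.Agent.Lib.Helper18_ChevUni.xGL_zero, mul_one]

/-- The twisted group is generated by the root subgroups of the simple classes and of their opposites. -/
theorem gen_top : Subgroup.closure
    ({g : ↥(twistedE6 K q) | ∃ a : Fin 4, g ∈ Uw1 (twAbs hK f hf) (gW a)} ∪
     {g : ↥(twistedE6 K q) | ∃ a : Fin 4, ∃ y ∈ Uw1 (twAbs hK f hf) (gW a),
        g = nw1 (twAbs hK f hf) (gW a) * y * (nw1 (twAbs hK f hf) (gW a))⁻¹}) = ⊤ := by
  rw [eq_top_iff]
  have key : twistedE6 K q ≤ (Subgroup.closure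
      ({g : ↥(twistedE6 K q) | ∃ a : Fin 4, g ∈ Uw1 (twAbs hK f hf) (gW a)} ∪
       {g : ↥(twistedE6 K q) | ∃ a : Fin 4, ∃ y ∈ Uw1 (twAbs hK f hf) (gW a),
          g = nw1 (twAbs hK f hf) (gW a) * y * (nw1 (twAbs hK f hf) (gW a))⁻¹})).map (Subgroup.subtype _) := by
    unfold twistedE6 ChevalleyDatum.genSubgroup
    rw [Subgroup.closure_le]
    rintro g ⟨w, hwS, hgw⟩
    have hgG : g ∈ twistedE6 K q := Subgroup.subset_closure ⟨w, hwS, hgw⟩
    have e : g = wordGL dc w := Units.ext (hgw.trans (wordGL_coe dc w).symm)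
    rw [e] at hgG ⊢
    refine ⟨⟨wordGL dc w, hgG⟩, Subgroup.subset_closure ?_, rfl⟩
    have hpos : ∀ (a : Fin 4) (t : K) (g : ↥(twistedE6 K q)), Closes pi eps f (posCls a) t →
        g.1 = yS dc pi eps f (posCls a) t →
        g ∈ ({g : ↥(twistedE6 K q) | ∃ a : Fin 4, g ∈ Uw1 (twAbs hK f hf) (gW a)} ∪
          {g : ↥(twistedE6 K q) | ∃ a : Fin 4, ∃ y ∈ Uw1 (twAbs hK f hf) (gW a),
            g = nw1 (twAbs hK f hf) (gW a) * y * (nw1 (twAbs hK f hf) (gW a))⁻¹}) :=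
      fun a t g ht hg => Or.inl ⟨a, (mem_Uw_gen hK f hf a g).mpr ⟨t, ht, hg⟩⟩
    have hneg : ∀ (a : Fin 4) (t : K) (g : ↥(twistedE6 K q)), Closes pi eps f (negCls a) t →
        g.1 = yS dc pi eps f (negCls a) t →
        g ∈ ({g : ↥(twistedE6 K q) | ∃ a : Fin 4, g ∈ Uw1 (twAbs hK f hf) (gW a)} ∪
          {g : ↥(twistedE6 K q) | ∃ a : Fin 4, ∃ y ∈ Uw1 (twAbs hK f hf) (gW a),
            g = nw1 (twAbs hK f hf) (gW a) * y * (nw1 (twAbs hK f hf) (gW a))⁻¹}) :=
      fun a t g ht hg => Or.inr ⟨a, neg_gen hK f hf a t ht g hg⟩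
    rcases hwS with ⟨t, ht, r, hr, rfl⟩ | ⟨t, rs, hrs, rfl⟩
    · simp only [List.mem_cons, List.not_mem_nil, or_false] at hr
      rcases hr with rfl | rfl | rfl | rfl
      · exact hpos 0 t _ ((closes_single f hf _ (posCls_mem 0).2 rfl t).mpr ht) (yS_single f 46 t).symm
      · exact hneg 0 t _ ((closes_single f hf _ (negCls_mem 0) rfl t).mpr ht) (yS_single f 25 t).symm
      · exact hpos 1 t _ ((closes_single f hf _ (posCls_mem 1).2 rfl t).mpr ht) (yS_single f 39 t).symm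
      · exact hneg 1 t _ ((closes_single f hf _ (negCls_mem 1) rfl t).mpr ht) (yS_single f 32 t).symm
    · simp only [List.mem_cons, List.not_mem_nil, or_false] at hrs
      have e1 : t ^ q = f t := (hf t).symm
      rcases hrs with rfl | rfl | rfl | rfl
      · refine hpos 2 t _ (closes_pair hK f hf _ (posCls_mem 2).2 rfl t) ?_
        show wordGL dc [(e6p1, t), (e6p6, t ^ q)] = yS dc pi eps f (56, 2) t
        rw [yS_pair f 56 36 pi56, e1]
        rfl
      · refine hneg 2 t _ (closes_pair hK f hf _ (negCls_mem 2) rfl t) ?_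
        show wordGL dc [(e6m1, t), (e6m6, t ^ q)] = yS dc pi eps f (15, 2) t
        rw [yS_pair f 15 35 pi15, e1]
        rfl
      · refine hpos 3 t _ (closes_pair hK f hf _ (posCls_mem 3).2 rfl t) ?_
        show wordGL dc [(e6p3, t), (e6p5, t ^ q)] = yS dc pi eps f (42, 2) t
        rw [yS_pair f 42 37 pi42, e1]
        rfl
      · refine hneg 3 t _ (closes_pair hK f hf _ (negCls_mem 3) rfl t) ?_
        show wordGL dc [(e6m3, t), (e6m5, t ^ q)] = yS dc pi eps f (29, 2) t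
        rw [yS_pair f 29 34 pi29, e1]
        rfl
  intro x _
  obtain ⟨y, hy, e⟩ := key x.2
  have : y = x := Subtype.ext e
  rw [← this]
  exact hy

end

end Cfsg.Agent.Lib.Helper36_E6OutParam
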