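import Cfsg.Agent.Lib.Helper36_E6OutCore
import Cfsg.Agent.Lib.Helper36_E6OutParam

set_option autoImplicit false
set_option maxRecDepth 100000

/-!
The action of the fixed elements of the diagonal subgroup of the twisted group of type `²E₆` on the root subgroups of
the four simple classes.
-/

namespace Cfsg.Agent.Lib.Helper36_E6OutTorus

open Cfsg Cfsg.Lie Cfsg.Agent.Lib.Helper18_ChevFast Cfsg.Agent.Lib.Helper18_ChevEngine
  Cfsg.Agent.Lib.Helper18_ChevN Cfsg.Agent.Lib.Helper18_ChevWeyl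
  Cfsg.Agent.Lib.Helper18_ChevGL
  Cfsg.Agent.Lib.Helper36_ChevTorus Cfsg.Agent.Lib.Helper36_ChevTorusAll Cfsg.Agent.Lib.Helper36_ChevBorel
  Cfsg.Agent.Lib.Helper36_ChevW0 Cfsg.Agent.Lib.Helper36_ChevW0All
  Cfsg.Agent.Lib.Helper36_ChevTables Cfsg.Agent.Lib.Helper36_ChevHOrder
  Cfsg.Agent.Lib.Helper36_ChevOrder Cfsg.Agent.Lib.Helper36_ChevOrderAll Cfsg.Agent.Lib.Helper36_WeylChain
  Cfsg.Agent.Lib.Helper36_WeylLit Cfsg.Agent.Lib.Helper36_WeylLit.RootLit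
  Cfsg.Agent.Lib.Helper36_ChevDataE6Lit Cfsg.Agent.Lib.Helper36_ChevDataE6LitOK
  Cfsg.Agent.Lib.Helper36_TwistU Cfsg.Agent.Lib.Helper36_TwistW Cfsg.Agent.Lib.Helper36_TwistH
  Cfsg.Agent.Lib.Helper36_TwistWeyl Cfsg.Agent.Lib.Helper36_TwistWeylE6
  Cfsg.Agent.Lib.Helper36_TwistOrder Cfsg.Agent.Lib.Helper36_TwistTabE6 Cfsg.Agent.Lib.Helper36_TwistE6
  Cfsg.Agent.Lib.Helper36_TwistOrderE6 Cfsg.Agent.Lib.Helper36_TwistBNE6 Cfsg.Agent.Lib.Helper36_TwistCoreE6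
  Cfsg.Agent.Lib.Helper36_TwistBN Cfsg.Agent.Lib.Helper36_TwistAbs Cfsg.Agent.Lib.Helper36_TwistAbsOrder
  Cfsg.Agent.Lib.Helper36_TwistCellCore Cfsg.Agent.Lib.Helper36_CellAut2 Cfsg.Agent.Lib.Helper36_CellAut3
  Cfsg.Agent.Lib.Helper36_E6OutCells Cfsg.Agent.Lib.Helper36_E6OutWeyl Cfsg.Agent.Lib.Helper36_E6OutCore
  Cfsg.Agent.Lib.Helper36_TwistHE6 Cfsg.Agent.Lib.Helper36_E6OutParam

section torus

variable {K : Type*} [Field K] [Fintype K] {q : ℕ} (hq : IsPrimePow q) (hK : Fintype.card K = q ^ 2)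
  (f : K →+* K) (hf : ∀ x : K, f x = x ^ q)

omit [Fintype K] in
/-- The values of a character, written out. -/
theorem chi_six (u : ℕ → Kˣ) (s : ℕ) :
    chi chevE6 K u s = u 0 ^ chevE6.cartan 0 s * u 1 ^ chevE6.cartan 1 s * u 2 ^ chevE6.cartan 2 s *
      u 3 ^ chevE6.cartan 3 s * u 4 ^ chevE6.cartan 4 s * u 5 ^ chevE6.cartan 5 s := by
  unfold chi
  show ∏ j ∈ Finset.range 6, _ = _
  rw [Finset.prod_range_succ, Finset.prod_range_succ, Finset.prod_range_succ, Finset.prod_range_succ,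
    Finset.prod_range_succ, Finset.prod_range_one]

theorem cartanTab :
    (chevE6.cartan 0 56 = 2 ∧ chevE6.cartan 1 56 = 0 ∧ chevE6.cartan 2 56 = -1 ∧ chevE6.cartan 3 56 = 0 ∧
      chevE6.cartan 4 56 = 0 ∧ chevE6.cartan 5 56 = 0) ∧
    (chevE6.cartan 0 42 = -1 ∧ chevE6.cartan 1 42 = 0 ∧ chevE6.cartan 2 42 = 2 ∧ chevE6.cartan 3 42 = -1 ∧
      chevE6.cartan 4 42 = 0 ∧ chevE6.cartan 5 42 = 0) ∧
    (chevE6.cartan 0 39 = 0 ∧ chevE6.cartan 1 39 = -1 ∧ chevE6.cartan 2 39 = -1 ∧ chevE6.cartan 3 39 = 2 ∧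
      chevE6.cartan 4 39 = -1 ∧ chevE6.cartan 5 39 = 0) ∧
    (chevE6.cartan 0 46 = 0 ∧ chevE6.cartan 1 46 = 2 ∧ chevE6.cartan 2 46 = 0 ∧ chevE6.cartan 3 46 = -1 ∧
      chevE6.cartan 4 46 = 0 ∧ chevE6.cartan 5 46 = 0) := by decide +kernel

/-- The parameters of the fixed elements of the diagonal subgroup. -/
def pr (f : K →+* K) (a b c d : Kˣ) : Fin chevE6.rank → Kˣ :=
  vec a c b d (Units.map (f : K →* K) b) (Units.map (f : K →* K) a)

omit [Fintype K] in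
theorem chi_pr (a b c d : Kˣ) (s : ℕ) :
    chi chevE6 K (ext chevE6 K (pr f a b c d)) s = a ^ chevE6.cartan 0 s * c ^ chevE6.cartan 1 s *
      b ^ chevE6.cartan 2 s * d ^ chevE6.cartan 3 s * (Units.map (f : K →* K) b) ^ chevE6.cartan 4 s *
      (Units.map (f : K →* K) a) ^ chevE6.cartan 5 s := by
  rw [chi_six]
  rfl

omit [Fintype K] in
theorem chi56 (a b c d : Kˣ) : chi chevE6 K (ext chevE6 K (pr f a b c d)) 56 = a ^ 2 * b⁻¹ := by
  obtain ⟨⟨c0, c1, c2, c3, c4, c5⟩, -⟩ := cartanTab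
  rw [chi_pr, c0, c1, c2, c3, c4, c5]
  simp only [zpow_zero, mul_one, zpow_neg, zpow_one]
  rfl

omit [Fintype K] in
theorem chi42 (a b c d : Kˣ) : chi chevE6 K (ext chevE6 K (pr f a b c d)) 42 = a⁻¹ * b ^ 2 * d⁻¹ := by
  obtain ⟨-, ⟨c0, c1, c2, c3, c4, c5⟩, -⟩ := cartanTab
  rw [chi_pr, c0, c1, c2, c3, c4, c5]
  simp only [zpow_zero, mul_one, zpow_neg, zpow_one]
  rfl

omit [Fintype K] in
theorem chi39 (a b c d : Kˣ) : chi chevE6 K (ext chevE6 K (pr f a b c d)) 39 =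
    c⁻¹ * b⁻¹ * d ^ 2 * (Units.map (f : K →* K) b)⁻¹ := by
  obtain ⟨-, -, ⟨c0, c1, c2, c3, c4, c5⟩, -⟩ := cartanTab
  rw [chi_pr, c0, c1, c2, c3, c4, c5]
  simp only [zpow_zero, mul_one, one_mul, zpow_neg, zpow_one]
  rfl

omit [Fintype K] in
theorem chi46 (a b c d : Kˣ) : chi chevE6 K (ext chevE6 K (pr f a b c d)) 46 = c ^ 2 * d⁻¹ := by
  obtain ⟨-, -, -, ⟨c0, c1, c2, c3, c4, c5⟩⟩ := cartanTab
  rw [chi_pr, c0, c1, c2, c3, c4, c5]
  simp only [zpow_zero, mul_one, one_mul, zpow_neg, zpow_one]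
  rfl

include hK hf in
theorem pr_mem (a b c d : Kˣ) (hc : Units.map (f : K →* K) c = c) (hd : Units.map (f : K →* K) d = d) :
    torusHom chevE6 K (pr f a b c d) ∈ twistedE6 K q :=
  mem_of_fixed f hf _ (tau_vec hK f hf a b c d hc hd)

omit [Fintype K] in
theorem torusHom_mem (u : Fin chevE6.rank → Kˣ) : torusHom chevE6 K u ∈ chevE6.diagonalSubgroup K := by
  rw [← range_torusHom chevE6 K (hfK K)]
  exact ⟨u, rfl⟩

/-- The fixed elements of the diagonal subgroup. -/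
noncomputable def hH (a b c d : Kˣ) (hc : Units.map (f : K →* K) c = c) (hd : Units.map (f : K →* K) d = d) :
    ↥(twistedE6 K q) :=
  ⟨torusHom chevE6 K (pr f a b c d), pr_mem hK f hf a b c d hc hd⟩

theorem hH_mem (a b c d : Kˣ) (hc : Units.map (f : K →* K) c = c) (hd : Units.map (f : K →* K) d = d) :
    hH hK f hf a b c d hc hd ∈ H1 chevE6 K (twistedE6 K q) :=
  (mem_H1 _).mpr (torusHom_mem _)

include hK hf in
/-- Conjugation of the elements of a class by a fixed element of the diagonal subgroup. -/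
theorem torus_conj (χ : ℕ → Kˣ) (hG : torusGL chevE6 K (chi chevE6 K χ) ∈ twistedE6 K q) (p : ℕ × ℕ) (hp : p ∈ cls)
    (t : K) (ht : Closes pi eps f p t) :
    torusGL chevE6 K (chi chevE6 K χ) * yS dc pi eps f p t * (torusGL chevE6 K (chi chevE6 K χ))⁻¹ =
      yS dc pi eps f p ((chi chevE6 K χ p.1 : K) * t) :=
  (Cfsg.Agent.Lib.Helper36_TwistPerf.torus_conj_yS certs (twist f) chainOK_E6 _
    (isRootCharacter_chi chevE6 K (hfK K).hca χ) (fixed hK f hf _ hG) p (classOK p hp) t ht).2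

include hK hf in
/-- The action of the fixed elements of the diagonal subgroup on a class. -/
theorem hH_yS (a b c d : Kˣ) (hc : Units.map (f : K →* K) c = c) (hd : Units.map (f : K →* K) d = d)
    (p : ℕ × ℕ) (hp : p ∈ cls) (t : K) (ht : Closes pi eps f p t) :
    (hH hK f hf a b c d hc hd).1 * yS dc pi eps f p t * ((hH hK f hf a b c d hc hd).1)⁻¹ =
      yS dc pi eps f p ((chi chevE6 K (ext chevE6 K (pr f a b c d)) p.1 : K) * t) := by
  show torusHom chevE6 K (pr f a b c d) * yS dc pi eps f p t * (torusHom chevE6 K (pr f a b c d))⁻¹ = _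
  have eH : torusHom chevE6 K (pr f a b c d) = torusGL chevE6 K (chi chevE6 K (ext chevE6 K (pr f a b c d))) := rfl
  rw [eH]
  exact torus_conj hK f hf _ (eH ▸ pr_mem hK f hf a b c d hc hd) p hp t ht

end torus

end Cfsg.Agent.Lib.Helper36_E6OutTorus
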