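import Cfsg.Agent.Lib.Helper36_E6OutCells

set_option autoImplicit false
set_option maxRecDepth 100000

/-!
The twisted Weyl group of `²E₆(q)`: the longest element and the relations between the four generators used for the
automorphisms.
-/

namespace Cfsg.Agent.Lib.Helper36_E6OutWeyl

open Cfsg Cfsg.Lie
  Cfsg.Agent.Lib.Helper36_ChevW0 Cfsg.Agent.Lib.Helper36_ChevW0All
  Cfsg.Agent.Lib.Helper36_ChevTables
  Cfsg.Agent.Lib.Helper36_ChevOrder Cfsg.Agent.Lib.Helper36_ChevOrderAll Cfsg.Agent.Lib.Helper36_WeylChain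
  Cfsg.Agent.Lib.Helper36_WeylLit Cfsg.Agent.Lib.Helper36_WeylLit.RootLit
  Cfsg.Agent.Lib.Helper36_ChevDataE6Lit Cfsg.Agent.Lib.Helper36_ChevDataE6LitOK
  Cfsg.Agent.Lib.Helper36_TwistU Cfsg.Agent.Lib.Helper36_TwistW
  Cfsg.Agent.Lib.Helper36_TwistWeyl Cfsg.Agent.Lib.Helper36_TwistWeylE6
  Cfsg.Agent.Lib.Helper36_TwistOrder Cfsg.Agent.Lib.Helper36_TwistTabE6 Cfsg.Agent.Lib.Helper36_TwistE6
  Cfsg.Agent.Lib.Helper36_TwistOrderE6 Cfsg.Agent.Lib.Helper36_TwistBNE6 Cfsg.Agent.Lib.Helper36_TwistCoreE6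
  Cfsg.Agent.Lib.Helper36_E6OutCells

theorem w0t_lt : ∀ a ∈ w0t, a < 4 := w0tOK.1

/-- The longest element. -/
def w0 : W1 := ⟨lit'.wPerm wf' w0t, lit'.wPerm_mem wf' _ _ (fun a ha => List.mem_range.mpr (w0t_lt a ha))⟩

theorem w0_val : (w0 : W1).1 = lit'.wPerm wf' w0t := rfl

theorem wPerm_single (a : ℕ) : lit'.wPerm wf' [a] = lit'.sPerm wf' a := by
  rw [wPerm_cons, wPerm_nil, mul_one]

theorem wPerm_append (a b : List ℕ) : lit'.wPerm wf' (a ++ b) = lit'.wPerm wf' a * lit'.wPerm wf' b := by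
  unfold RootLit.wPerm
  rw [List.map_append, List.prod_append]

theorem wPerm_ext (a b : List ℕ) (ha : ∀ x ∈ a, x < 4) (hb : ∀ x ∈ b, x < 4)
    (h : ∀ s < lit.n, evalWord lit' a s = evalWord lit' b s) : lit'.wPerm wf' a = lit'.wPerm wf' b := by
  ext s
  rw [wPerm_eval lit' wf' a ha, wPerm_eval lit' wf' b hb]
  exact h s s.2

theorem wPerm_ne (a b : List ℕ) (ha : ∀ x ∈ a, x < 4) (hb : ∀ x ∈ b, x < 4)
    (h : ∃ s < lit.n, evalWord lit' a s ≠ evalWord lit' b s) : lit'.wPerm wf' a ≠ lit'.wPerm wf' b := by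
  obtain ⟨s, hs, hne⟩ := h
  intro e
  apply hne
  have := congrArg (fun x : Equiv.Perm (Fin lit.n) => ((x ⟨s, hs⟩ : Fin lit.n) : ℕ)) e
  simp only [wPerm_eval lit' wf' a ha, wPerm_eval lit' wf' b hb] at this
  exact this

theorem w0_sq_tab : ∀ s < lit.n, evalWord lit' (w0t ++ w0t) s = s := by decide +kernel

theorem w0_comm_tab : ∀ a < 4, ∀ s < lit.n, evalWord lit' (w0t ++ [a]) s = evalWord lit' ([a] ++ w0t) s := by
  decide +kernel

theorem commTab : (∀ s < lit.n, evalWord lit' [0, 2] s = evalWord lit' [2, 0] s) ∧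
    (∀ s < lit.n, evalWord lit' [0, 3] s = evalWord lit' [3, 0] s) ∧
    (∀ s < lit.n, evalWord lit' [1, 2] s = evalWord lit' [2, 1] s) ∧
    (∃ s < lit.n, evalWord lit' [1, 3] s ≠ evalWord lit' [3, 1] s) := by decide +kernel

theorem distTab : (∃ s < lit.n, evalWord lit' [0] s ≠ evalWord lit' [1] s) ∧
    (∃ s < lit.n, evalWord lit' [2] s ≠ evalWord lit' [3] s) ∧
    (∃ s < lit.n, evalWord lit' [2] s ≠ evalWord lit' [0, 1] s) ∧
    (∃ s < lit.n, evalWord lit' [2] s ≠ evalWord lit' [1, 0] s) ∧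
    (∃ s < lit.n, evalWord lit' [3] s ≠ evalWord lit' [0, 1] s) ∧
    (∃ s < lit.n, evalWord lit' [3] s ≠ evalWord lit' [1, 0] s) ∧
    (∀ a < 4, ∃ s < lit.n, evalWord lit' [a] s ≠ evalWord lit' [] s) := by decide +kernel

theorem w0_pos_tab : ∀ r < lit.n, lit.ps r = true → lit.ps (evalWord lit' w0t r) = false := w0tOK.2

theorem w0_neg_tab : ∀ r < lit.n, lit.ps r = false → lit.ps (evalWord lit' w0t r) = true := by
  decide +kernel

theorem w0_sq : (w0 : W1).1 * (w0 : W1).1 = 1 := by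
  show lit'.wPerm wf' w0t * lit'.wPerm wf' w0t = 1
  rw [← wPerm_append, ← wPerm_nil lit' wf']
  apply wPerm_ext _ _ _ (by decide) w0_sq_tab
  intro x hx
  rcases List.mem_append.mp hx with h | h <;> exact w0t_lt x h

theorem w0_inv : (w0 : W1).1⁻¹ = (w0 : W1).1 := by
  rw [inv_eq_iff_mul_eq_one]
  exact w0_sq

theorem mem_single_lt (a : Fin 4) : ∀ x ∈ [(a : ℕ)], x < 4 := by
  intro x hx
  rw [List.mem_singleton] at hx
  rw [hx]
  exact a.2

/-- The longest element is central. -/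
theorem w0_gW (a : Fin 4) : (w0 : W1).1 * (gW a).1 * (w0 : W1).1⁻¹ = (gW a).1 := by
  rw [mul_inv_eq_iff_eq_mul]
  show lit'.wPerm wf' w0t * lit'.sPerm wf' a = lit'.sPerm wf' a * lit'.wPerm wf' w0t
  rw [← wPerm_single, ← wPerm_append, ← wPerm_append]
  apply wPerm_ext _ _ _ _ (w0_comm_tab a a.2)
  · intro x hx
    rcases List.mem_append.mp hx with h | h
    · exact w0t_lt x h
    · exact mem_single_lt a x h
  · intro x hx
    rcases List.mem_append.mp hx with h | h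
    · exact mem_single_lt a x h
    · exact w0t_lt x h

/-- The cell subgroup of the longest element is the whole of `U`. -/
theorem sNeg_w0 : SNeg chevE6 lit (w0 : W1).1 = chevE6.IsPosRoot := by
  funext r
  apply propext
  constructor
  · exact fun h => h.1
  · intro h
    have hr : r < lit.n := litOK.hn ▸ h.1
    refine ⟨h, hr, ?_⟩
    show lit.ps (lit'.wPerm wf' w0t ⟨r, hr⟩) = false
    rw [wPerm_eval lit' wf' _ w0t_lt]
    exact w0_pos_tab r hr ((litOK.hpos r (litOK.hn ▸ hr)).mpr h)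

theorem w0_neg (s : Fin lit.n) (hs : lit.ps s = false) : lit.ps ((w0 : W1).1⁻¹ s) = true := by
  rw [w0_inv]
  show lit.ps (lit'.wPerm wf' w0t s) = true
  rw [wPerm_eval lit' wf' _ w0t_lt]
  exact w0_neg_tab s s.2 hs

theorem gW_sq (a : Fin 4) : gW a * gW a = 1 := Subtype.ext (lit'.sPerm_mul_self wf' a)

theorem gW_sq' (a : Fin 4) : (gW a).1 * (gW a).1 = 1 := lit'.sPerm_mul_self wf' a

theorem gW_ne_one (a : Fin 4) : gW a ≠ 1 := by
  intro e
  have e2 : lit'.wPerm wf' [(a : ℕ)] = lit'.wPerm wf' [] := by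
    rw [wPerm_single, wPerm_nil]
    exact congrArg Subtype.val e
  exact wPerm_ne _ _ (mem_single_lt a) (by decide) (distTab.2.2.2.2.2.2 a a.2) e2

theorem gW_pair (a b : Fin 4) : (gW a * gW b : W1).1 = lit'.wPerm wf' [(a : ℕ), (b : ℕ)] := by
  rw [wPerm_cons, wPerm_single]
  rfl

theorem comm_of_tab (a b : Fin 4) (h : ∀ s < lit.n, evalWord lit' [(a : ℕ), (b : ℕ)] s = evalWord lit' [(b : ℕ), (a : ℕ)] s) :
    gW a * gW b = gW b * gW a := by
  apply Subtype.ext
  rw [gW_pair, gW_pair]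
  apply wPerm_ext _ _ _ _ h
  · intro x hx
    simp only [List.mem_cons, List.not_mem_nil, or_false] at hx
    rcases hx with rfl | rfl
    · exact a.2
    · exact b.2
  · intro x hx
    simp only [List.mem_cons, List.not_mem_nil, or_false] at hx
    rcases hx with rfl | rfl
    · exact b.2
    · exact a.2

theorem k02 : gW 0 * gW 2 = gW 2 * gW 0 := comm_of_tab 0 2 commTab.1

theorem k03 : gW 0 * gW 3 = gW 3 * gW 0 := comm_of_tab 0 3 commTab.2.1

theorem k12 : gW 1 * gW 2 = gW 2 * gW 1 := comm_of_tab 1 2 commTab.2.2.1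

theorem n13 : gW 1 * gW 3 ≠ gW 3 * gW 1 := by
  intro e
  have e2 := congrArg Subtype.val e
  rw [gW_pair, gW_pair] at e2
  exact wPerm_ne _ _ (by decide) (by decide) commTab.2.2.2 e2

theorem n01 : gW 0 ≠ gW 1 := by
  intro e
  have e2 : lit'.wPerm wf' [0] = lit'.wPerm wf' [1] := by
    rw [wPerm_single, wPerm_single]
    exact congrArg Subtype.val e
  exact wPerm_ne _ _ (by decide) (by decide) distTab.1 e2

theorem n23 : gW 2 ≠ gW 3 := by
  intro e
  have e2 : lit'.wPerm wf' [2] = lit'.wPerm wf' [3] := by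
    rw [wPerm_single, wPerm_single]
    exact congrArg Subtype.val e
  exact wPerm_ne _ _ (by decide) (by decide) distTab.2.1 e2

theorem d1 : gW 2 ≠ gW 0 * gW 1 := by
  intro e
  have e2 : lit'.wPerm wf' [2] = lit'.wPerm wf' [0, 1] := by
    rw [wPerm_single]
    exact (congrArg Subtype.val e).trans (gW_pair 0 1)
  exact wPerm_ne _ _ (by decide) (by decide) distTab.2.2.1 e2

theorem d2 : gW 2 ≠ gW 1 * gW 0 := by
  intro e
  have e2 : lit'.wPerm wf' [2] = lit'.wPerm wf' [1, 0] := by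
    rw [wPerm_single]
    exact (congrArg Subtype.val e).trans (gW_pair 1 0)
  exact wPerm_ne _ _ (by decide) (by decide) distTab.2.2.2.1 e2

theorem d3 : gW 3 ≠ gW 0 * gW 1 := by
  intro e
  have e2 : lit'.wPerm wf' [3] = lit'.wPerm wf' [0, 1] := by
    rw [wPerm_single]
    exact (congrArg Subtype.val e).trans (gW_pair 0 1)
  exact wPerm_ne _ _ (by decide) (by decide) distTab.2.2.2.2.1 e2

theorem d4 : gW 3 ≠ gW 1 * gW 0 := by
  intro e
  have e2 : lit'.wPerm wf' [3] = lit'.wPerm wf' [1, 0] := by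
    rw [wPerm_single]
    exact (congrArg Subtype.val e).trans (gW_pair 1 0)
  exact wPerm_ne _ _ (by decide) (by decide) distTab.2.2.2.2.2.1 e2

/-- The numbers of inversions of the generators. -/
theorem inv_gens : inv lit.Pos (gW 0).1 = 1 ∧ inv lit.Pos (gW 1).1 = 1 ∧ inv lit.Pos (gW 2).1 = 2 ∧
    inv lit.Pos (gW 3).1 = 2 := by
  decide +kernel

end Cfsg.Agent.Lib.Helper36_E6OutWeyl
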