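import Cfsg.Agent.Lib.Helper36_TwistGenU
import Cfsg.Agent.Lib.Helper18_ChevData5
import Cfsg.Agent.Lib.Helper68_EA2
import Cfsg.Agent.S2326

set_option autoImplicit false

/-!
S4625, package CHEV: in a Chevalley group of one of the tabulated types over a finite field of characteristic `2`, the
squares of the elements of a Sylow `2`-subgroup lie in its derived subgroup: the Sylow subgroup `U` is generated by the
positive root elements, which are involutions.
-/

namespace Cfsg.Agent.Lib.Helper36_EA2_CHEV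

open Cfsg Cfsg.Lie Cfsg.Agent.Lib.Helper18_ChevGL Cfsg.Agent.Lib.Helper18_ChevUni
  Cfsg.Agent.Lib.Helper36_TwistGenU Cfsg.Agent.Lib.Helper68_EA2

theorem ea2_chev7 {F : Type*} [Field F] [Fintype F] [CharP F 2] (D : Cfsg.Lie.ChevalleyDatum)
    (hD : D ∈ [Cfsg.Lie.chevG2, Cfsg.Lie.chevB2, Cfsg.Lie.chevD4, Cfsg.Lie.chevF4, Cfsg.Lie.chevE6,
      Cfsg.Lie.chevE7, Cfsg.Lie.chevE8]) : EA2 ↥(D.group F) := by
  obtain ⟨Ns, w, d, Ts, hT, K, base, stepT, wl, ws, sc, c, tc, gc, pc, ac⟩ :=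
    Cfsg.Agent.Lib.Helper18_ChevData5.exists_cert5 D hD
  haveI : Fact (Nat.Prime 2) := ⟨Nat.prime_two⟩
  obtain ⟨Q, hQ⟩ := Cfsg.Agent.S2326.result (F := F) 2 D hD
  apply ea2_of_sylow Q
  rw [hQ]
  set S0 : Set (GL D.Idx F) := {g | ∃ (r : ℕ) (t : F), D.IsPosRoot r ∧ (g : Matrix D.Idx D.Idx F) = D.x F r t}
    with hS0
  have hUG := posUnipotent_le_group (F := F) c
  have hS0G : S0 ⊆ D.group F := fun g hg => hUG (Subgroup.subset_closure hg)
  have hgen : Subgroup.closure {s : D.group F | s.1 ∈ S0} = (D.posUnipotent F).subgroupOf (D.group F) := by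
    apply le_antisymm
    · rw [Subgroup.closure_le]
      intro s hs
      rw [SetLike.mem_coe, Subgroup.mem_subgroupOf]
      exact Subgroup.subset_closure hs
    · intro x hx
      rw [Subgroup.mem_subgroupOf] at hx
      obtain ⟨h, hx'⟩ := closure_subtype (D.group F) S0 hS0G x.1 hx
      exact hx'
  apply sqComm_of_gen _ _ hgen
  rintro s ⟨r, t, hr, hs⟩
  have h1 : s ^ 2 = 1 := by
    apply Subtype.ext
    show s.1 ^ 2 = 1
    rw [eq_xGL c hs, pow_two, xGL_mul, CharTwo.add_self_eq_zero, xGL_zero]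
  rw [h1]
  exact Subgroup.one_mem _

theorem ea2_chev {F : Type*} [Field F] [Fintype F] [CharP F 2] (D : Cfsg.Lie.ChevalleyDatum)
    (hD : D ∈ [Cfsg.Lie.chevG2, Cfsg.Lie.chevF4, Cfsg.Lie.chevE6, Cfsg.Lie.chevE7, Cfsg.Lie.chevE8]) :
    EA2 ↥(D.group F) := by
  apply ea2_chev7 D
  simp only [List.mem_cons, List.not_mem_nil, or_false] at hD ⊢
  tauto

end Cfsg.Agent.Lib.Helper36_EA2_CHEV
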