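import Cfsg.Agent.Lib.Helper37_SzAutB
import Cfsg.Agent.Lib.Helper37_SzBridge
import Cfsg.Agent.Lib.Helper68_EA2

set_option autoImplicit false

/-!
S4625, package SZ: in the Suzuki group `Sz(q)`, `q = 2 ^ (2 m + 1) ≥ 8`, the squares of the elements of a Sylow
`2`-subgroup are commutators of elements of this subgroup.  The Sylow subgroup is isomorphic to the explicit Suzuki
`2`-group `SG T` on `F × F` (as in `Cfsg.Agent.S2556`), where `(a, b) ^ 2 = (0, T a * a)` and
`⁅(k a, 0), (k, 0)⁆ = (0, k T k (T a + a))`, and `k ↦ k T k` is a bijection of `F`.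
-/

namespace Cfsg.Agent.Lib.Helper36_EA2_SZ

open Cfsg Cfsg.Agent.Helper37Sz Cfsg.Agent.Helper37SzAut Cfsg.Agent.Lib.Helper68_EA2
open scoped commutatorElement

section model

variable {F : Type*} [Field F] {T : F →+* F}

theorem sq_eq (h2 : (2 : F) = 0) (p : SG T) : p ^ 2 = ⟨0, T p.a * p.a⟩ := by
  have h : ∀ x : F, x + x = 0 := fun x => by rw [← two_mul, h2, zero_mul]
  rw [pow_two]
  apply SG.ext
  · simp only [SG.mul_a]
    exact h _
  · simp only [SG.mul_b]
    rw [h, zero_add]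

theorem comm_eq (h2 : (2 : F) = 0) (a c : F) :
    ⁅(⟨a, 0⟩ : SG T), (⟨c, 0⟩ : SG T)⁆ = ⟨0, T a * c + a * T c⟩ := by
  have h : ∀ x : F, x + x = 0 := fun x => by rw [← two_mul, h2, zero_mul]
  have hneg : ∀ x : F, -x = x := fun x => by
    rw [neg_eq_iff_add_eq_zero]
    exact h x
  rw [commutatorElement_def]
  apply SG.ext
  · simp only [SG.mul_a, SG.inv_a, hneg]
    linear_combination h a + h c
  · simp only [SG.mul_b, SG.mul_a, SG.inv_a, SG.inv_b, hneg, map_add, add_zero, zero_add]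
    linear_combination h (T a * a) + h (T c * c) + h (T a * c)
  
end model

section field

variable {F : Type*} [Field F] [Fintype F] {T : F →+* F}

/-- `k ↦ k * T k` is a bijection of `F`. -/
theorem surj_kT (N : ℕ) (hN : 1 ≤ N) (hTdef : ∀ z, T z = z ^ N) (hT : ∀ z, T (T z) = z ^ 2) :
    Function.Surjective fun k : F => k * T k := by
  apply Finite.injective_iff_surjective.mp
  have key : ∀ k : F, k ≠ 0 → (k * T k) ^ (N - 1) * k = k ^ 2 := by
    intro k hk
    have e1 : k * T k = k ^ (N + 1) := by rw [hTdef, pow_succ']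
    have e2 : (k ^ (N + 1)) ^ (N - 1) * k = (k ^ N) ^ N := by
      rw [← pow_mul, ← pow_mul, ← pow_succ]
      congr 1
      have : (N + 1) * (N - 1) + 1 = N * N := by
        zify [hN]
        ring
      exact this
    rw [e1, e2, ← hTdef, ← hTdef, hT]
  intro k l hkl
  simp only at hkl
  by_cases hk : k = 0
  · subst hk
    rw [zero_mul] at hkl
    rcases mul_eq_zero.mp hkl.symm with h | h
    · exact h.symm
    · exact ((map_eq_zero T).mp h).symm
  · have hl : l ≠ 0 := by
      rintro rfl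
      rw [zero_mul] at hkl
      rcases mul_eq_zero.mp hkl with h | h
      · exact hk h
      · exact hk ((map_eq_zero T).mp h)
    have h1 := key k hk
    have h2 := key l hl
    rw [hkl] at h1
    have h3 : ((l * T l) ^ (N - 1)) * k = k * k := by rw [h1, sq]
    have h4 : ((l * T l) ^ (N - 1)) * l = l * l := by rw [h2, sq]
    have h5 : (l * T l) ^ (N - 1) = k := mul_right_cancel₀ hk h3
    have h6 : (l * T l) ^ (N - 1) = l := mul_right_cancel₀ hl h4
    rw [← h5, h6]

/-- there is an element not fixed by `T` -/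
theorem exists_T_ne (hT : ∀ z, T (T z) = z ^ 2) (hcard : 2 < Fintype.card F) : ∃ a : F, T a + a ≠ 0 := by
  obtain ⟨x, y, z, hxy, hxz, hyz⟩ := Fintype.two_lt_card_iff.mp hcard
  have h01 : ∃ a : F, a ≠ 0 ∧ a ≠ 1 := by
    by_cases hx0 : x = 0
    · by_cases hy1 : y = 1
      · refine ⟨z, ?_, ?_⟩
        · rw [← hx0]; exact hxz.symm
        · rw [← hy1]; exact hyz.symm
      · exact ⟨y, by rw [← hx0]; exact hxy.symm, hy1⟩
    · by_cases hx1 : x = 1
      · by_cases hy0 : y = 0
        · refine ⟨z, ?_, ?_⟩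
          · rw [← hy0]; exact hyz.symm
          · rw [← hx1]; exact hxz.symm
        · exact ⟨y, hy0, by rw [← hx1]; exact hxy.symm⟩
      · exact ⟨x, hx0, hx1⟩
  obtain ⟨a, ha0, ha1⟩ := h01
  refine ⟨a, fun h => ?_⟩
  -- `T a = -a`, so `a ^ 2 = T (T a) = T (-a) = a`
  have e1 : T a = -a := eq_neg_of_add_eq_zero_left h
  have e2 : a ^ 2 = a := by
    rw [← hT, e1, map_neg, e1, neg_neg]
  have e3 : a * (a - 1) = 0 := by
    rw [mul_sub, mul_one, ← sq, e2, sub_self]
  rcases mul_eq_zero.mp e3 with h | h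
  · exact ha0 h
  · exact ha1 (sub_eq_zero.mp h)

/-- In the Suzuki `2`-group every square is a commutator. -/
theorem sq_mem_commutator (h2 : (2 : F) = 0) (N : ℕ) (hN : 1 ≤ N) (hTdef : ∀ z, T z = z ^ N)
    (hT : ∀ z, T (T z) = z ^ 2) (hcard : 2 < Fintype.card F) (p : SG T) : ∃ u v : SG T, p ^ 2 = ⁅u, v⁆ := by
  obtain ⟨a0, ha0⟩ := exists_T_ne hT hcard
  obtain ⟨k, hk⟩ := surj_kT N hN hTdef hT ((T p.a * p.a) / (T a0 + a0))
  simp only at hk
  refine ⟨⟨k * a0, 0⟩, ⟨k, 0⟩, ?_⟩
  rw [sq_eq h2, comm_eq h2]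
  apply SG.ext
  · rfl
  · show T p.a * p.a = T (k * a0) * k + k * a0 * T k
    rw [map_mul]
    have : T k * T a0 * k + k * a0 * T k = (k * T k) * (T a0 + a0) := by ring
    rw [this, hk, div_mul_cancel₀ _ ha0]

end field

/-- **SZ** -/
theorem ea2_suzuki {F : Type*} [Field F] [Fintype F] (m : ℕ) (hm : 1 ≤ m)
    (hF : Fintype.card F = 2 ^ (2 * m + 1)) : EA2 ↥(Cfsg.Lie.Sz F (2 ^ (m + 1))) := by
  intro P x
  have h2 := two_eq_zero_of_card hF
  set T := sgHom F m h2 with hTd
  have hTdef : ∀ z, T z = z ^ 2 ^ (m + 1) := fun z => sgHom_apply m h2 z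
  have hT : ∀ z, T (T z) = z ^ 2 := fun z => sgHom_sgHom hF h2 z
  -- transfer the Sylow subgroup to the ovoid model
  let e := lieSzEquiv hm hF
  let P' : Sylow 2 (Cfsg.Sz F m) :=
    P.comapOfInjective e.toMonoidHom e.injective (by
      intro x _
      exact ⟨e.symm x, e.apply_symm_apply x⟩)
  have hP' : ((P' : Subgroup (Cfsg.Sz F m))).map e.toMonoidHom
      = (P : Subgroup (Cfsg.Lie.Sz F (2 ^ (m + 1)))) := by
    show ((P : Subgroup (Cfsg.Lie.Sz F (2 ^ (m + 1)))).comap e.toMonoidHom).map e.toMonoidHom = _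
    exact Subgroup.map_comap_eq_self_of_surjective e.surjective _
  let e1 : (P' : Subgroup (Cfsg.Sz F m)) ≃* (P : Subgroup (Cfsg.Lie.Sz F (2 ^ (m + 1)))) :=
    (e.subgroupMap (P' : Subgroup (Cfsg.Sz F m))).trans (MulEquiv.subgroupCongr hP')
  obtain ⟨g, φ, hφ, -, hmul⟩ := sylow_two_param hm hF h2 hT hTdef P'
  -- the isomorphism with `SG T`
  let ψ : SG T →* (P' : Subgroup (Cfsg.Sz F m)) :=
    { toFun := fun p => φ (p.a, p.b)
      map_one' := by
        have := hmul 0 0 0 0
        simp only [add_zero, map_zero, mul_zero] at this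
        exact mul_eq_left.1 this
      map_mul' := fun p q => (hmul p.a p.b q.a q.b).symm }
  have hψ : Function.Bijective ψ := by
    constructor
    · intro p q h
      have := hφ.1 h
      simp only [Prod.mk.injEq] at this
      exact SG.ext this.1 this.2
    · intro y
      obtain ⟨⟨a, b⟩, hab⟩ := hφ.2 y
      exact ⟨⟨a, b⟩, hab⟩
  let e2 : SG T ≃* (P' : Subgroup (Cfsg.Sz F m)) := MulEquiv.ofBijective ψ hψ
  let E : ↥(P : Subgroup (Cfsg.Lie.Sz F (2 ^ (m + 1)))) ≃* SG T := e1.symm.trans e2.symm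
  have hcard : 2 < Fintype.card F := by
    rw [hF]
    calc 2 < 2 ^ 3 := by norm_num
      _ ≤ 2 ^ (2 * m + 1) := Nat.pow_le_pow_right (by norm_num) (by omega)
  obtain ⟨u, v, huv⟩ := sq_mem_commutator h2 (2 ^ (m + 1)) Nat.one_le_two_pow hTdef hT hcard (E x)
  have hx : x ^ 2 = ⁅E.symm u, E.symm v⁆ := by
    apply E.injective
    rw [map_pow, huv, map_commutatorElement, E.apply_symm_apply, E.apply_symm_apply]
  rw [hx, commutator_def]
  exact Subgroup.commutator_mem_commutator (Subgroup.mem_top _) (Subgroup.mem_top _)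

end Cfsg.Agent.Lib.Helper36_EA2_SZ
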