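import Cfsg.Agent.Lib.Helper36_TwistGenU
import Cfsg.Agent.Lib.Helper36_D4Out
import Cfsg.Agent.Lib.Helper68_EA2

set_option autoImplicit false
set_option maxRecDepth 100000

/-!
S4625, package TD4: in the twisted group of type `³D₄` over a field of characteristic `2`, the squares of the elements
of a Sylow `2`-subgroup lie in its derived subgroup: the Sylow subgroup `U¹` is generated by the elements of the
classes of roots, which are involutions.
-/

namespace Cfsg.Agent.Lib.Helper36_EA2_TD4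

open Cfsg Cfsg.Lie Cfsg.Agent.Lib.Helper18_ChevGL Cfsg.Agent.Lib.Helper18_ChevUni
  Cfsg.Agent.Lib.Helper36_TwistU Cfsg.Agent.Lib.Helper36_TwistW
  Cfsg.Agent.Lib.Helper36_TwistTabD4 Cfsg.Agent.Lib.Helper36_TwistD4
  Cfsg.Agent.Lib.Helper36_TwistCellCore Cfsg.Agent.Lib.Helper36_D4Out
  Cfsg.Agent.Lib.Helper36_TwistGenU Cfsg.Agent.Lib.Helper68_EA2

theorem ea2_twistedD4 {K : Type*} [Field K] [Fintype K] [CharP K 2] (q : ℕ) (hq : IsPrimePow q)
    (hK : Fintype.card K = q ^ 3) : EA2 ↥(Cfsg.Lie.twistedD4 K q) := by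
  obtain ⟨f, hf⟩ := Cfsg.Agent.Lib.Helper36_TwistF.exists_frob hq hK
  have h2q : 2 ∣ q := by
    have h1 : (2 : ℕ) ∣ Fintype.card K := by
      have h2 : ((Fintype.card K : ℕ) : K) = 0 := Nat.cast_card_eq_zero K
      exact (CharP.cast_eq_zero_iff K 2 _).mp h2
    rw [hK] at h1
    exact Nat.Prime.dvd_of_dvd_pow Nat.prime_two h1
  haveI : Fact (Nat.Prime 2) := ⟨Nat.prime_two⟩
  obtain ⟨Q, hQ⟩ := sylow_U1 hq hK (p := 2) h2q
  apply ea2_of_sylow Q
  rw [hQ]
  have hgen := closure_eq_U1 certs (twist f) clsOK (twistedD4 K q) (fun g hg => fixed hK f hf g hg)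
    (by
      rintro g ⟨p, hp, t, ht, rfl⟩
      exact class_mem hK f hf p hp t ht)
  apply sqComm_of_gen (U1 chevD4 K (twistedD4 K q)) _ hgen
  intro s hs
  have h1 : s ^ 2 = 1 := by
    apply Subtype.ext
    rw [pow_two]
    exact classElt_sq certs (twist f) clsOK s.1 hs
  rw [h1]
  exact Subgroup.one_mem _

end Cfsg.Agent.Lib.Helper36_EA2_TD4
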