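import Cfsg.Agent.Lib.Helper36_TwistGenBN
import Cfsg.Agent.Lib.Helper36_F4Setup
import Cfsg.Agent.Lib.Helper18_TwistF4G
import Cfsg.Agent.S1042

set_option autoImplicit false
set_option maxRecDepth 100000

/-!
The `(B, N)`-pair of the twisted group of type `²F₄`.
-/

namespace Cfsg.Agent.Lib.Helper36_F4BN

open Cfsg Cfsg.Lie Cfsg.Agent.Lib.Helper18_ChevFast Cfsg.Agent.Lib.Helper18_ChevEngine
  Cfsg.Agent.Lib.Helper18_ChevN Cfsg.Agent.Lib.Helper18_ChevWeyl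
  Cfsg.Agent.Lib.Helper18_ChevGL Cfsg.Agent.Lib.Helper18_ChevTri
  Cfsg.Agent.Lib.Helper18_ChevAdd Cfsg.Agent.Lib.Helper18_ChevUni
  Cfsg.Agent.Lib.Helper36_ChevTorus Cfsg.Agent.Lib.Helper36_ChevBorel
  Cfsg.Agent.Lib.Helper36_ChevTables
  Cfsg.Agent.Lib.Helper36_ChevOrder Cfsg.Agent.Lib.Helper36_WeylChain
  Cfsg.Agent.Lib.Helper36_WeylLit Cfsg.Agent.Lib.Helper36_WeylLit.RootLit
  Cfsg.Agent.Lib.Helper36_ChevDataF4Lit Cfsg.Agent.Lib.Helper36_ChevDataF4LitOK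
  Cfsg.Agent.Lib.Helper36_TwistGen Cfsg.Agent.Lib.Helper36_TwistWeyl Cfsg.Agent.Lib.Helper36_TwistWeylF4
  Cfsg.Agent.Lib.Helper36_TwistU Cfsg.Agent.Lib.Helper36_TwistW Cfsg.Agent.Lib.Helper36_TwistOrder
  Cfsg.Agent.Lib.Helper36_TwistBN Cfsg.Agent.Lib.Helper36_TwistAbs Cfsg.Agent.Lib.Helper36_TwistGenBN
  Cfsg.Agent.Lib.Helper36_F4Setup

theorem distOK : ∀ a < 2, ∀ b < 2, (∀ s < lit.n, lit'.r a s = lit'.r b s) → a = b := by decide +kernel

theorem negOK : ∀ a < 2, ∃ s < lit.n, lit.ps s = true ∧ lit.ps (lit'.r a s) = false := by decide +kernel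

theorem subOK : ∀ a < 2, ∀ I ∈ (Js.getD a []).sublists,
    (∀ s < lit.n, pi (evalWord lit I s) = evalWord lit I (pi s)) →
    (∀ s < lit.n, evalWord lit I s = s) ∨ (∀ s < lit.n, evalWord lit I s = evalWord lit (Js.getD a []) s) := by
  decide +kernel

theorem JsRank : ∀ a < 2, ∀ j ∈ Js.getD a [], j < chevF4.rank := by decide +kernel

/-- The roots of the two base classes are made negative by the twisted reflections. -/
theorem baseNeg : lit.ps (lit'.r 0 33) = false ∧ lit.ps (lit'.r 0 24) = false ∧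
    lit.ps (lit'.r 1 28) = false ∧ lit.ps (lit'.r 1 30) = false ∧
    chevF4.IsPosRoot 33 ∧ chevF4.IsPosRoot 24 ∧ chevF4.IsPosRoot 28 ∧ chevF4.IsPosRoot 30 := by decide +kernel

section

variable {K : Type*} [Field K]

/-- The distinguished elements of `N`. -/
def sgF (K : Type*) [Field K] (a : ℕ) : GL chevF4.Idx K := nJ dc K (Js.getD a [])

theorem sgF_N (a : ℕ) (ha : a < 2) : sgF K a ∈ chevF4.monomialSubgroup K :=
  nJ_mem_mono (hfK K) (certs K) _ (JsRank a ha)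

theorem sgF_act (a : ℕ) (ha : a < 2) : ActsAs chevF4 K (hfK K) lit (sgF K a) (lit'.sPerm wf' a) := by
  rw [sPerm_twist wf refl' 2 wf' Js JsOK' a ha]
  exact actsAs_nJ (hfK K) lit wf (certs K) (hc K) litOK _ (JsRank a ha)

theorem hW1fix : ∀ x ∈ WAll lit wf, piPerm * x * piPerm⁻¹ = x → x ∈ lit'.W wf' (List.range 2) := by
  intro x hx hfix
  exact fixed_mem piOK wf refl' 2 wf' _ _ fixChainOK x hx hfix

end

section

variable {K : Type*} [Field K] [Fintype K] {m : ℕ} (hK : Fintype.card K = 2 ^ (2 * m + 1))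

include hK in
theorem sgF_mem (a : ℕ) (ha : a < 2) : sgF K a ∈ twistedF4 K (2 ^ m) := by
  have := Cfsg.Agent.Lib.Helper18_TwistF4A.charP_two hK
  have hnil : nJ dc K [] = 1 := by unfold nJ; simp
  interval_cases a
  · have h := Cfsg.Agent.Lib.Helper18_TwistF4B.n1F4_mem (K := K) (m := m) dc
    unfold Cfsg.Agent.Lib.Helper18_TwistF4B.n1F4 at h
    rw [Subgroup.coe_mul, Cfsg.Agent.Lib.Helper18_ChevAutJ.nG_coe, Cfsg.Agent.Lib.Helper18_ChevAutJ.nG_coe] at h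
    show nJ dc K [0, 3] ∈ _
    rw [nJ_cons, nJ_cons, hnil, mul_one]
    exact h
  · have h := Cfsg.Agent.Lib.Helper18_TwistF4B.n2F4_mem (K := K) (m := m) dc
    unfold Cfsg.Agent.Lib.Helper18_TwistF4B.n2F4 at h
    rw [Subgroup.coe_mul, Subgroup.coe_mul, Cfsg.Agent.Lib.Helper18_ChevAutJ.nG_coe, Cfsg.Agent.Lib.Helper18_ChevAutJ.nG_coe] at h
    show nJ dc K [1, 2, 1, 2] ∈ _
    rw [nJ_cons, nJ_cons, nJ_cons, nJ_cons, hnil, mul_one, ← mul_assoc, ← mul_assoc]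
    rw [mul_assoc (nGL dc 1 * nGL dc 2)]
    exact h

include hK in
theorem hHfix [CharP K 2] (h : GL chevF4.Idx K) (hh : h ∈ chevF4.diagonalSubgroup K)
    (hσ : sgm (Cfsg.Agent.Lib.Helper18_TwistF4E.sigF4 K m).toMonoidHom h = h) : h ∈ twistedF4 K (2 ^ m) :=
  Cfsg.Agent.Lib.Helper18_TwistF4H.fixed_diag_mem hK (Cfsg.Agent.Lib.Helper18_TwistF4E.sigF4_spec hK) h hh hσ

include hK in
/-- The abstract normal form of the elements of the twisted group. -/
theorem twAbs : TwAbs (hfK K) lit wf piPerm (lit'.W wf' (List.range 2)) (twistedF4 K (2 ^ m)) := by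
  have := Cfsg.Agent.Lib.Helper18_TwistF4A.charP_two hK
  exact twAbs_of (hfK K) (Cfsg.Agent.Lib.Helper18_TwistF4G.twGen' hK) litOK hchain (hc K) (hN K) (hx K) (hx1 K)
    (hUV K) (hNU K) (hBN K) (hE K) (hU K) (hnorm K) (hUH K) (hHfix hK) Js JsOK'
    (W1_comm refl' 2 wf' piOK') hW1fix sgF_N (sgF_mem hK) sgF_act

include hK in
/-- The data of the distinguished generators. -/
theorem genData : GenData (hfK K) (L := lit) (π := piPerm) (W1 := lit'.W wf' (List.range 2))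
    (G1 := twistedF4 K (2 ^ m)) 2 (sgF K) (fun a => lit'.sPerm wf' a) := by
  have := Cfsg.Agent.Lib.Helper18_TwistF4A.charP_two hK
  exact genData_of' (hfK K) (certs K) (Cfsg.Agent.Lib.Helper18_TwistF4G.twGen' hK) litOK (hc K) (hNU K) (hBN K)
    Js JsOK' sgF_N (sgF_mem hK) sgF_act distOK negOK subOK

end

end Cfsg.Agent.Lib.Helper36_F4BN
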