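import Cfsg.Agent.Lib.Helper36_TwistBN

set_option autoImplicit false

/-!
The intersection of the conjugates of `B ∩ G¹` in a twisted group `G¹` is trivial.
-/

namespace Cfsg.Agent.Lib.Helper36_TwistCore

open Cfsg Cfsg.Lie Cfsg.Agent.Lib.Helper36_ChevCoeff Cfsg.Agent.Lib.Helper36_ChevAdd
  Cfsg.Agent.Lib.Helper36_ChevWeyl Cfsg.Agent.Lib.Helper36_ChevGen Cfsg.Agent.Lib.Helper36_ChevTables
  Cfsg.Agent.Lib.Helper36_ChevTorus Cfsg.Agent.Lib.Helper36_ChevBorel Cfsg.Agent.Lib.Helper36_ChevW0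
  Cfsg.Agent.Lib.Helper36_ChevCore Cfsg.Agent.Lib.Helper36_ChevCommU Cfsg.Agent.Lib.Helper36_WeylChain
  Cfsg.Agent.Lib.Helper36_WeylLit Cfsg.Agent.Lib.Helper36_WeylLit.RootLit Cfsg.Agent.Lib.Helper36_ChevOrder
  Cfsg.Agent.Lib.Helper36_TwistU Cfsg.Agent.Lib.Helper36_TwistW Cfsg.Agent.Lib.Helper36_TwistC
  Cfsg.Agent.Lib.Helper36_TwistWeyl Cfsg.Agent.Lib.Helper36_TwistH Cfsg.Agent.Lib.Helper36_ChevHOrder
  Cfsg.Agent.Lib.Helper36_TwistOrder Cfsg.Agent.Lib.Helper36_TwistBN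
  Cfsg.Agent.Lib.Helper18_ChevFast Cfsg.Agent.Lib.Helper18_ChevEngine Cfsg.Agent.Lib.Helper18_ChevUni
  Cfsg.Agent.Lib.Helper18_ChevFacts

section

variable {K : Type*} [Field K] {pi : ℕ → ℕ} {eps : ℕ → ℤ} {f : K →+* K}

/-- The letters of an orbit word with a non-zero first parameter have non-zero parameters. -/
theorem orbWord_ne_zero (N : ℕ) (heps : ∀ r < N, eps r = 1 ∨ eps r = -1) (n : ℕ) : ∀ q : ℕ × K, q.2 ≠ 0 →
    (∀ r ∈ orbRoots pi n q.1, r < N) → ∀ l ∈ orbWord pi eps f n q, l.2 ≠ 0 := by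
  induction n with
  | zero =>
    intro q _ _ l hl
    simp [orbWord] at hl
  | succ n ih =>
    intro q hq hr l hl
    rw [orbWord, List.mem_cons] at hl
    rcases hl with rfl | hl
    · exact hq
    · have hq1 : q.1 < N := hr q.1 (by rw [orbRoots]; exact List.mem_cons_self)
      apply ih (stepL pi eps f q) ?_ ?_ l hl
      · unfold stepL
        have hfq : f q.2 ≠ 0 := by
          rw [Ne, map_eq_zero]
          exact hq
        rcases heps q.1 hq1 with h | h <;> rw [h] <;> simpa using hfq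
      · intro r hr'
        apply hr
        rw [orbRoots]
        exact List.mem_cons_of_mem _ hr'

/-- In a word with distinct roots, the sum of the parameters at the root of a letter is the parameter of the letter. -/
theorem sum_ite_nodup : ∀ (wd : List (ℕ × K)), (wd.map Prod.fst).Nodup → ∀ l ∈ wd,
    (wd.map fun l' => if l'.1 = l.1 then l'.2 else 0).sum = l.2
  | [], _, l, hl => absurd hl List.not_mem_nil
  | a :: wd, hnd, l, hl => by
    rw [List.map_cons, List.nodup_cons] at hnd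
    rw [List.map_cons, List.sum_cons]
    rcases List.mem_cons.mp hl with rfl | hl'
    · rw [if_pos rfl]
      have : (wd.map fun l' => if l'.1 = l.1 then l'.2 else 0).sum = 0 := by
        apply List.sum_eq_zero
        intro y hy
        rw [List.mem_map] at hy
        obtain ⟨l', hl', rfl⟩ := hy
        rw [if_neg]
        intro h
        exact hnd.1 (h ▸ List.mem_map_of_mem hl')
      rw [this, add_zero]
    · rw [if_neg, zero_add, sum_ite_nodup wd hnd.2 l hl']
      intro h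
      exact hnd.1 (h ▸ List.mem_map_of_mem hl')

end

section

variable {D : ChevalleyDatum} {K : Type*} [Field K] (hf : Facts D K) {L : RootLit} {hwf : L.WF}
  {Ns : List Cfsg.Agent.Lib.Helper18_ChevN.NData} {wl : List ℤ} {ws : List (List ℤ)} {sc : ℤ} {w : List ℤ}
  {C : Certs D Ns K wl ws sc w}
  {σ : GL D.Idx K →* GL D.Idx K} {pi : ℕ → ℕ} {eps : ℕ → ℤ} {f : K →+* K}
  {π : Equiv.Perm (Fin L.n)} {rhoN : ℕ → ℕ} {W1 : Subgroup (Equiv.Perm (Fin L.n))}
  {G1 : Subgroup (GL D.Idx K)}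
  (X : TwData hf L hwf C (σ := σ) (pi := pi) (eps := eps) (f := f) π rhoN W1 G1) (hl : LitOK D L)

include X in
/-- The parameters of the element of a class at the roots of the class do not vanish. -/
theorem yS_tOf_ne_zero (p : ℕ × ℕ) (hp : ClassOK D pi p) (t : K) (ht : t ≠ 0) (s : ℕ)
    (hs : s ∈ orbRoots pi p.2 p.1) : tOf C.c (yS C.c pi eps f p t) s ≠ 0 := by
  have hspos := hp.pos s hs
  rw [yS_tOf C X.T p hp t s hspos (ht_orb C X.T p hp s hs)]
  rw [← orbWord_fst (eps := eps) (f := f) p.2 (p.1, t), List.mem_map] at hs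
  obtain ⟨l, hl, rfl⟩ := hs
  have hnd : ((orbWord pi eps f p.2 (p.1, t)).map Prod.fst).Nodup := by
    rw [orbWord_fst]
    exact hp.nodup
  rw [sum_ite_nodup _ hnd l hl]
  exact orbWord_ne_zero D.nroots X.eps1 p.2 (p.1, t) ht (fun r hr => (hp.pos r hr).1) l hl

variable (hchain : ChainOK D)
  (hnorm : D.diagonalSubgroup K ≤ Subgroup.normalizer (D.posUnipotent K : Set (GL D.Idx K)))
  (hUH : D.posUnipotent K ⊓ D.diagonalSubgroup K = ⊥)
  (hBVH : D.borelSubgroup K ⊓ (D.negUnipotent K ⊔ D.diagonalSubgroup K) = D.diagonalSubgroup K)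
  {n0 : GL D.Idx K} (hn0 : n0 ∈ D.monomialSubgroup K) {x0 : Equiv.Perm (Fin L.n)}
  (hact0 : ActsAs D K hf L n0 x0) (hx0 : ∀ r : Fin L.n, L.ps r = true → L.ps (x0 r) = false)

include hl hnorm hBVH hn0 hact0 hx0 in
/-- An element of `B` whose conjugate under the longest element lies in `B` lies in `H`. -/
theorem mem_diag_of_conj (k : GL D.Idx K) (hkB : k ∈ D.borelSubgroup K) (hk0 : n0⁻¹ * k * n0 ∈ D.borelSubgroup K) :
    k ∈ D.diagonalSubgroup K := by
  have hcoe := Subgroup.coe_mul_of_right_le_normalizer_left (D.posUnipotent K) (D.diagonalSubgroup K) hnorm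
  have hk0' : n0⁻¹ * k * n0 ∈
      ((D.posUnipotent K ⊔ D.diagonalSubgroup K : Subgroup (GL D.Idx K)) : Set (GL D.Idx K)) := hk0
  rw [hcoe] at hk0'
  obtain ⟨u, hu, h, hh, e⟩ := Set.mem_mul.mp hk0'
  have e' : k = (n0 * u * n0⁻¹) * (n0 * h * n0⁻¹) := by
    have : (n0 * u * n0⁻¹) * (n0 * h * n0⁻¹) = n0 * (u * h) * n0⁻¹ := by group
    rw [this, e]
    group
  have hV : n0 * u * n0⁻¹ ∈ D.negUnipotent K := by
    rw [negUnipotent_eq]
    rw [SetLike.mem_coe, posUnipotent_eq] at hu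
    apply conj_rootClosure D K hf L hl hact0 D.IsPosRoot D.IsNegRoot (fun r hr => hr.1) ?_ u hu
    intro r hr
    have hr' : ((r : Fin L.n) : ℕ) < D.nroots := hl.hn ▸ r.2
    exact (hl.hneg _ (hl.hn ▸ (x0 r).2)).mp (hx0 r ((hl.hpos _ hr').mpr hr))
  have hH : n0 * h * n0⁻¹ ∈ D.diagonalSubgroup K :=
    (Subgroup.mem_normalizer_iff.mp (monomial_le_normalizer D K hf hn0) _).mp hh
  rw [← hBVH]
  refine Subgroup.mem_inf.mpr ⟨hkB, ?_⟩
  rw [e']
  exact Subgroup.mul_mem _ (Subgroup.mem_sup_left hV) (Subgroup.mem_sup_right hH)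

include X hl hchain hnorm hUH hBVH hn0 hact0 hx0 in
/-- The core of `B ∩ G¹` in `G¹` is trivial. -/
theorem twisted_core (hn0G : n0 ∈ G1) {cls : List (ℕ × ℕ)} (hcls : ClsOK D w pi cls)
    (hne : ∀ p ∈ cls, ∃ t : K, t ≠ 0 ∧ Closes pi eps f p t) :
    ((D.borelSubgroup K ⊓ G1).subgroupOf G1).normalCore = ⊥ := by
  set B1 : Subgroup ↥G1 := (D.borelSubgroup K ⊓ G1).subgroupOf G1 with hB1
  have hnormal : B1.normalCore.Normal := Subgroup.normalCore_normal B1
  have hM : ∀ k ∈ B1.normalCore, ∀ g : ↥G1, ((g * k * g⁻¹ : ↥G1) : GL D.Idx K) ∈ D.borelSubgroup K := by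
    intro k hk g
    have h1 := Subgroup.normalCore_le B1 (hnormal.conj_mem k hk g)
    rw [hB1, Subgroup.mem_subgroupOf] at h1
    exact h1.1
  have hMH : ∀ k ∈ B1.normalCore, (k : GL D.Idx K) ∈ D.diagonalSubgroup K := by
    intro k hk
    apply mem_diag_of_conj hf hl hnorm hBVH hn0 hact0 hx0
    · have := hM k hk 1
      simpa using this
    · have := hM k hk ⟨n0⁻¹, G1.inv_mem hn0G⟩
      simpa using this
  rw [Subgroup.eq_bot_iff_forall]
  intro k hk
  -- `k` commutes with the elements of `U ∩ G¹`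
  have hcomm : ∀ y ∈ D.posUnipotent K, y ∈ G1 → y * (k : GL D.Idx K) = (k : GL D.Idx K) * y := by
    intro y hyU hyG
    have h1 : (⟨y, hyG⟩ : ↥G1) * k * (⟨y, hyG⟩ : ↥G1)⁻¹ * k⁻¹ ∈ B1.normalCore :=
      Subgroup.mul_mem _ (hnormal.conj_mem k hk _) (Subgroup.inv_mem _ hk)
    have h2 : y * (k : GL D.Idx K) * y⁻¹ * (k : GL D.Idx K)⁻¹ ∈ D.diagonalSubgroup K := hMH _ h1
    have h3 : y * (k : GL D.Idx K) * y⁻¹ * (k : GL D.Idx K)⁻¹ ∈ D.posUnipotent K := by
      have e : y * (k : GL D.Idx K) * y⁻¹ * (k : GL D.Idx K)⁻¹ =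
          y * ((k : GL D.Idx K) * y⁻¹ * (k : GL D.Idx K)⁻¹) := by group
      rw [e]
      exact Subgroup.mul_mem _ hyU ((Subgroup.mem_normalizer_iff.mp (hnorm (hMH k hk)) _).mp
        (Subgroup.inv_mem _ hyU))
    have h4 : y * (k : GL D.Idx K) * y⁻¹ * (k : GL D.Idx K)⁻¹ ∈ D.posUnipotent K ⊓ D.diagonalSubgroup K :=
      Subgroup.mem_inf.mpr ⟨h3, h2⟩
    rw [hUH, Subgroup.mem_bot] at h4
    have e : y * (k : GL D.Idx K) = (y * (k : GL D.Idx K) * y⁻¹ * (k : GL D.Idx K)⁻¹) * ((k : GL D.Idx K) * y) := by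
      group
    rw [e, h4, one_mul]
  obtain ⟨u, hu⟩ := (hf.mem_diag (k : GL D.Idx K)).mp (hMH k hk)
  -- the character is trivial on the negatives of the positive roots
  have hpos : ∀ s, D.IsPosRoot s → chi D K u (D.neg s) = 1 := by
    intro s hs
    have hsm := hcls.cover s hs
    unfold rootsOf at hsm
    rw [List.mem_flatMap] at hsm
    obtain ⟨p, hp, hsp⟩ := hsm
    have hpc := hcls.each p hp
    obtain ⟨t, ht0, htc⟩ := hne p hp
    have hyU := yS_mem C X.T p hpc t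
    have hyG : yS C.c pi eps f p t ∈ G1 := X.Ufix _ hyU (yS_fixed C X.T p hpc t htc)
    have e := hcomm _ hyU hyG
    have hns := Cfsg.Agent.Lib.Helper18_ChevTorus.DCert.neg_lt C.c s hs.1
    have hp1 : D.IsPosRoot p.1 := hpc.pos _ (head_mem p hpc)
    have hcoord : ∀ i : Fin D.rank,
        ((yS C.c pi eps f p t : GL D.Idx K) : Matrix D.Idx D.Idx K) (Sum.inl i) (Sum.inr ⟨D.neg s, hns⟩) =
          ((cor D s i : ℤ) : K) * tOf C.c (yS C.c pi eps f p t) s := fun i =>
      coord C _ hyU _ (ht_pos C p.1 hp1) (yS_raises C X.T p hpc t) s hs (ht_orb C X.T p hpc s hsp) i hns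
    have hne0 := yS_tOf_ne_zero hf X p hpc t ht0 s hsp
    have hzero : tOf C.c (yS C.c pi eps f p t) s * ((chi D K u (D.neg s) : K) - 1) = 0 := by
      apply eq_zero_of_cor_mul C.ac s hs.1
      intro i hi
      have e1 := congrArg (fun g : GL D.Idx K => (g : Matrix D.Idx D.Idx K) (Sum.inl ⟨i, hi⟩)
        (Sum.inr ⟨D.neg s, hns⟩)) e
      simp only [Units.val_mul, hu, torusGL_coe, ChevalleyDatum.charDiag, Matrix.mul_diagonal,
        Matrix.diagonal_mul, Sum.elim_inl, Sum.elim_inr, one_mul] at e1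
      rw [hcoord ⟨i, hi⟩] at e1
      linear_combination e1
    rcases mul_eq_zero.mp hzero with h | h
    · exact absurd h hne0
    · apply Units.ext
      rw [Units.val_one]
      exact sub_eq_zero.mp h
  have hall : ∀ r < D.nroots, chi D K u r = 1 := by
    intro r hr
    rcases C.ac.posOrNeg r hr with hp | hn
    · have h1 := hpos r hp
      rw [(isRootCharacter_chi D K hf.hca u).1 r hr, inv_eq_one] at h1
      exact h1
    · have h1 := hpos _ (neg_isPos C.c C.tc C.ac r hn)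
      rwa [neg_neg_root C.c C.tc C.ac r hr] at h1
  apply Subtype.ext
  show (k : GL D.Idx K) = 1
  rw [hu]
  apply Units.ext
  rw [torusGL_coe, Units.val_one, charDiag_congr D K (chi D K u) 1 (fun s hs => by rw [hall s hs]; rfl)]
  exact charDiag_one D K

end

end Cfsg.Agent.Lib.Helper36_TwistCore
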