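import Cfsg.Agent.Lib.Helper36_F4Tor
import Cfsg.Agent.Lib.Helper36_TwistCore
import Cfsg.Agent.Lib.Helper36_ChevDataF4Ht

set_option autoImplicit false
set_option maxRecDepth 100000

/-!
Type `²F₄`: the normal core of `B¹` in the twisted group is trivial.
-/

namespace Cfsg.Agent.Lib.Helper36_F4Core

open Cfsg Cfsg.Lie Cfsg.Agent.Lib.Helper18_ChevFast Cfsg.Agent.Lib.Helper18_ChevEngine
  Cfsg.Agent.Lib.Helper18_ChevN Cfsg.Agent.Lib.Helper18_ChevWeyl
  Cfsg.Agent.Lib.Helper18_ChevGL Cfsg.Agent.Lib.Helper18_ChevTri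
  Cfsg.Agent.Lib.Helper18_ChevAdd Cfsg.Agent.Lib.Helper18_ChevUni
  Cfsg.Agent.Lib.Helper36_ChevTorus Cfsg.Agent.Lib.Helper36_ChevBorel
  Cfsg.Agent.Lib.Helper36_ChevTables
  Cfsg.Agent.Lib.Helper36_ChevOrder Cfsg.Agent.Lib.Helper36_WeylChain
  Cfsg.Agent.Lib.Helper36_WeylLit Cfsg.Agent.Lib.Helper36_WeylLit.RootLit
  Cfsg.Agent.Lib.Helper36_ChevDataF4Lit Cfsg.Agent.Lib.Helper36_ChevDataF4LitOK
  Cfsg.Agent.Lib.Helper36_TwistGen Cfsg.Agent.Lib.Helper36_TwistWeyl Cfsg.Agent.Lib.Helper36_TwistWeylF4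
  Cfsg.Agent.Lib.Helper36_F4Setup Cfsg.Agent.Lib.Helper36_F4BN Cfsg.Agent.Lib.Helper36_F4U
  Cfsg.Agent.Lib.Helper36_F4Order Cfsg.Agent.Lib.Helper36_F4Cell Cfsg.Agent.Lib.Helper36_F4Tor
  Cfsg.Agent.Lib.Helper18_TwistF4C Cfsg.Agent.Lib.Helper18_TwistF4D

section

variable {K : Type*} [Field K]

/-- The parameters of the first test element. -/
def sA : Fin 12 → K := fun i => if i = 2 ∨ i = 4 ∨ i = 8 ∨ i = 10 then 0 else 1

/-- The parameters of the second test element. -/
def sB : Fin 12 → K := fun i => if i = 2 ∨ i = 4 ∨ i = 8 ∨ i = 10 then 1 else 0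

/-- Every positive root has parameter `1` in one of the two test elements. -/
theorem test_cover (m : ℕ) : ∀ r ∈ LF4, parF4 m (sA (K := K)) r = 1 ∨ parF4 m (sB (K := K)) r = 1 := by
  have z1 : (0 : K) ^ 2 ^ m = 0 := zero_pow (by positivity)
  have z2 : (0 : K) ^ (2 ^ m + 1) = 0 := zero_pow (Nat.succ_ne_zero _)
  intro r hr
  unfold LF4 at hr
  simp only [List.mem_cons, List.not_mem_nil, or_false] at hr
  rcases hr with rfl | rfl | rfl | rfl | rfl | rfl | rfl | rfl | rfl | rfl | rfl | rfl | rfl | rfl | rfl | rfl | rfl | rfl | rfl | rfl | rfl | rfl | rfl | rfl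
  · exact Or.inl (by simp [parF4, sA, z1, z2])
  · exact Or.inl (by simp [parF4, sA, z1, z2])
  · exact Or.inl (by simp [parF4, sA, z1, z2])
  · exact Or.inl (by simp [parF4, sA, z1, z2])
  · exact Or.inl (by simp [parF4, sA, z1, z2])
  · exact Or.inr (by simp [parF4, sB, z1, z2])
  · exact Or.inl (by simp [parF4, sA, z1, z2])
  · exact Or.inl (by simp [parF4, sA, z1, z2])
  · exact Or.inl (by simp [parF4, sA, z1, z2])
  · exact Or.inr (by simp [parF4, sB, z1, z2])
  · exact Or.inl (by simp [parF4, sA, z1, z2])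
  · exact Or.inl (by simp [parF4, sA, z1, z2])
  · exact Or.inl (by simp [parF4, sA, z1, z2])
  · exact Or.inl (by simp [parF4, sA, z1, z2])
  · exact Or.inl (by simp [parF4, sA, z1, z2])
  · exact Or.inl (by simp [parF4, sA, z1, z2])
  · exact Or.inl (by simp [parF4, sA, z1, z2])
  · exact Or.inr (by simp [parF4, sB, z1, z2])
  · exact Or.inl (by simp [parF4, sA, z1, z2])
  · exact Or.inl (by simp [parF4, sA, z1, z2])
  · exact Or.inl (by simp [parF4, sA, z1, z2])
  · exact Or.inr (by simp [parF4, sB, z1, z2])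
  · exact Or.inl (by simp [parF4, sA, z1, z2])
  · exact Or.inl (by simp [parF4, sA, z1, z2])

/-- The longest element makes all positive roots negative. -/
theorem hx0 : ∀ r : Fin lit.n, lit.ps r = true → lit.ps (lit'.wPerm wf' chainA r) = false := by
  intro r hr
  rw [wPerm_eval lit' wf' chainA (by decide)]
  exact w0A r r.2 hr

end

section

variable {K : Type*} [Field K] [Fintype K] {m : ℕ} (hK : Fintype.card K = 2 ^ (2 * m + 1))

include hK in
/-- A diagonal element of the twisted group which centralises `U¹` is trivial. -/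
theorem cent_trivial (k : GL chevF4.Idx K) (hk : k ∈ chevF4.diagonalSubgroup K)
    (hcomm : ∀ y ∈ chevF4.posUnipotent K, y ∈ twistedF4 K (2 ^ m) → y * k = k * y) : k = 1 := by
  obtain ⟨u, hu⟩ := ((hfK K).mem_diag k).mp hk
  have hχ := isRootCharacter_chi chevF4 K (hfK K).hca u
  have hfix : ∀ s : Fin 12 → K, torusGL chevF4 K (chi chevF4 K u) * uPar m s * (torusGL chevF4 K (chi chevF4 K u))⁻¹ =
      uPar m s := by
    intro s
    have hU : uPar m s ∈ chevF4.posUnipotent K := by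
      rw [posUnipotent_eq]
      exact uPar_mem_closure m s _ (fun r hr => Or.inl ((LF4_pos r).mp hr))
    have := hcomm _ hU (uPar_mem hK s)
    rw [← hu, ← this]
    group
  have hpos : ∀ r, chevF4.IsPosRoot r → chi chevF4 K u r = 1 := by
    intro r hr
    have hrL := (LF4_pos r).mpr hr
    by_contra hne
    rcases test_cover (K := K) m r hrL with h1 | h1
    · have h2 := fixed_params _ hχ m _ (hfix sA) r hrL
      have h3 := eq_zero_of_mul_eq _ _ hne h2
      rw [h1] at h3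
      exact one_ne_zero h3
    · have h2 := fixed_params _ hχ m _ (hfix sB) r hrL
      have h3 := eq_zero_of_mul_eq _ _ hne h2
      rw [h1] at h3
      exact one_ne_zero h3
  have hall : ∀ r < chevF4.nroots, chi chevF4 K u r = 1 := by
    intro r hr
    rcases (certs K).ac.posOrNeg r hr with hp | hn
    · exact hpos r hp
    · have h1 := hpos _ (neg_isPos dc (certs K).tc (certs K).ac r hn)
      rw [hχ.1 r hr, inv_eq_one] at h1
      exact h1
  rw [hu]
  apply Units.ext
  rw [torusGL_coe, Units.val_one, charDiag_congr chevF4 K (chi chevF4 K u) 1 (fun s hs => by rw [hall s hs]; rfl)]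
  exact charDiag_one chevF4 K

include hK in
/-- The normal core of `B¹` is trivial. -/
theorem core_trivial :
    ((chevF4.borelSubgroup K ⊓ twistedF4 K (2 ^ m)).subgroupOf (twistedF4 K (2 ^ m))).normalCore = ⊥ := by
  set G1 := twistedF4 K (2 ^ m) with hG1
  set B1 : Subgroup ↥G1 := (chevF4.borelSubgroup K ⊓ G1).subgroupOf G1 with hB1
  have hnormal : B1.normalCore.Normal := Subgroup.normalCore_normal B1
  have hn0N : nW (sgF K) chainA ∈ chevF4.monomialSubgroup K := nW_mem _ sgF_N chainA (by decide)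
  have hn0G : nW (sgF K) chainA ∈ G1 := nW_mem _ (sgF_mem hK) chainA (by decide)
  have hact0 := nW_acts (K := K) (sg := sgF K) sgF_act chainA (by decide)
  have hBVH := borel_inf_negBorel chevF4 K _ _ _ (hfK K) hchain Cfsg.Agent.Lib.Helper36_ChevDataF4Ht.htOK
  have hM : ∀ k ∈ B1.normalCore, ∀ g : ↥G1, ((g * k * g⁻¹ : ↥G1) : GL chevF4.Idx K) ∈ chevF4.borelSubgroup K := by
    intro k hk g
    have h1 := Subgroup.normalCore_le B1 (hnormal.conj_mem k hk g)
    rw [hB1, Subgroup.mem_subgroupOf] at h1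
    exact h1.1
  have hMH : ∀ k ∈ B1.normalCore, (k : GL chevF4.Idx K) ∈ chevF4.diagonalSubgroup K := by
    intro k hk
    apply Cfsg.Agent.Lib.Helper36_TwistCore.mem_diag_of_conj (hfK K) litOK (hnorm K) hBVH hn0N hact0 hx0
    · have := hM k hk 1
      simpa using this
    · have := hM k hk ⟨(nW (sgF K) chainA)⁻¹, G1.inv_mem hn0G⟩
      simpa using this
  rw [Subgroup.eq_bot_iff_forall]
  intro k hk
  have hcomm : ∀ y ∈ chevF4.posUnipotent K, y ∈ G1 → y * (k : GL chevF4.Idx K) = (k : GL chevF4.Idx K) * y := by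
    intro y hyU hyG
    have h1 : (⟨y, hyG⟩ : ↥G1) * k * (⟨y, hyG⟩ : ↥G1)⁻¹ * k⁻¹ ∈ B1.normalCore :=
      Subgroup.mul_mem _ (hnormal.conj_mem k hk _) (Subgroup.inv_mem _ hk)
    have h2 : y * (k : GL chevF4.Idx K) * y⁻¹ * (k : GL chevF4.Idx K)⁻¹ ∈ chevF4.diagonalSubgroup K := hMH _ h1
    have h3 : y * (k : GL chevF4.Idx K) * y⁻¹ * (k : GL chevF4.Idx K)⁻¹ ∈ chevF4.posUnipotent K := by
      have e : y * (k : GL chevF4.Idx K) * y⁻¹ * (k : GL chevF4.Idx K)⁻¹ =
          y * ((k : GL chevF4.Idx K) * y⁻¹ * (k : GL chevF4.Idx K)⁻¹) := by group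
      rw [e]
      exact Subgroup.mul_mem _ hyU ((Subgroup.mem_normalizer_iff.mp (hnorm K (hMH k hk)) _).mp
        (Subgroup.inv_mem _ hyU))
    have h4 : y * (k : GL chevF4.Idx K) * y⁻¹ * (k : GL chevF4.Idx K)⁻¹ ∈
        chevF4.posUnipotent K ⊓ chevF4.diagonalSubgroup K := Subgroup.mem_inf.mpr ⟨h3, h2⟩
    rw [hUH K, Subgroup.mem_bot] at h4
    have e : y * (k : GL chevF4.Idx K) =
        (y * (k : GL chevF4.Idx K) * y⁻¹ * (k : GL chevF4.Idx K)⁻¹) * ((k : GL chevF4.Idx K) * y) := by group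
    rw [e, h4, one_mul]
  apply Subtype.ext
  exact cent_trivial hK _ (hMH k hk) hcomm

end

end Cfsg.Agent.Lib.Helper36_F4Core
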