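import Cfsg.Agent.Lib.Helper36_CellAut
import Cfsg.Prelude.Def_KGroupFacts

set_option autoImplicit false

/-!
The automorphisms of a group with a normal form of Bruhat type of rank two in characteristic 2, with one abelian and
one non-abelian distinguished cell subgroup, as in the twisted groups of type `²F₄`: every automorphism is the product
of an inner one and one induced by an automorphism of the field.
-/

namespace Cfsg.Agent.Lib.Helper36_F4OutAlg

open Cfsg.Agent.Lib.Helper36_CellAut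

/-- The data: the normal form, the parametrisations of the two distinguished cell subgroups and of `H`, the action of
`H`, and the automorphisms induced by the automorphisms of the field. -/
structure F4Data (Γ K ι : Type*) [Group Γ] [Field K] where
  C : CellData Γ ι 2
  θ : K →+* K
  two : (2 : K) = 0
  iA : ι
  iB : ι
  xA : K → Γ
  xB : K → K → Γ
  hH : Kˣ → Kˣ → Γ
  chiA : Kˣ → Kˣ → Kˣ
  chiB : Kˣ → Kˣ → Kˣ
  special0 : C.Special C.i0
  specialA : C.Special iA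
  specialB : C.Special iB
  rootA : C.IsRoot iA
  rootB : C.IsRoot iB
  conjA : ∀ x ∈ C.Uw iA, x ≠ 1 → C.cellOf (C.nw iA * x * (C.nw iA)⁻¹) = iA
  conjB : ∀ x ∈ C.Uw iB, x ≠ 1 → C.cellOf (C.nw iB * x * (C.nw iB)⁻¹) = iB
  mem_UwA : ∀ g : Γ, g ∈ C.Uw iA ↔ ∃ t : K, g = xA t
  mem_UwB : ∀ g : Γ, g ∈ C.Uw iB ↔ ∃ t w : K, g = xB t w
  mem_H : ∀ g : Γ, g ∈ C.H ↔ ∃ ν κ : Kˣ, g = hH ν κ
  xA_add : ∀ s t : K, xA (s + t) = xA s * xA t
  xA_inj : ∀ s t : K, xA s = xA t → s = t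
  xB_mul : ∀ t w t' w' : K, xB t w * xB t' w' = xB (t + t') (w + w' + t * (θ t') ^ 2)
  xB_inj : ∀ t w t' w' : K, xB t w = xB t' w' → t = t' ∧ w = w'
  hH_xA : ∀ (ν κ : Kˣ) (t : K), hH ν κ * xA t * (hH ν κ)⁻¹ = xA ((chiA ν κ : K) * t)
  hH_xB : ∀ (ν κ : Kˣ) (t w : K), hH ν κ * xB t w * (hH ν κ)⁻¹ =
    xB ((chiB ν κ : K) * t) ((chiB ν κ : K) * (θ (chiB ν κ : K)) ^ 2 * w)
  surj : ∀ α β : Kˣ, ∃ ν κ : Kˣ, chiA ν κ = α ∧ chiB ν κ = β
  surjB : ∀ l : Kˣ, ∃ ν : Kˣ, chiB ν 1 = l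
  HA_mem : ∀ ν : Kˣ, hH ν 1 ∈ Subgroup.closure ({g : Γ | ∃ t : K, g = xA t} ∪
    {g : Γ | ∃ t : K, g = C.nw iA * xA t * (C.nw iA)⁻¹})
  gen : Subgroup.closure ({g : Γ | ∃ t : K, g = xA t} ∪ {g : Γ | ∃ t : K, g = C.nw iA * xA t * (C.nw iA)⁻¹} ∪
    {g : Γ | ∃ t w : K, g = xB t w} ∪ {g : Γ | ∃ t w : K, g = C.nw iB * xB t w * (C.nw iB)⁻¹}) = ⊤
  pow_surj : ∀ w : K, ∃ t : K, t * (θ t) ^ 2 = w
  hex : ∃ l : K, (θ l) ^ 2 ≠ l
  fa : (K ≃+* K) →* MulAut Γ
  fa_xA : ∀ (τ : K ≃+* K) (t : K), fa τ (xA t) = xA (τ t)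
  fa_xB : ∀ (τ : K ≃+* K) (t w : K), fa τ (xB t w) = xB (τ t) (τ w)
  fa_U : ∀ (τ : K ≃+* K), ∀ x ∈ C.U, fa τ x ∈ C.U
  fa_H : ∀ (τ : K ≃+* K), ∀ x ∈ C.H, fa τ x ∈ C.H

namespace F4Data

variable {Γ K ι : Type*} [Group Γ] [Field K] (D : F4Data Γ K ι)

theorem xA_zero : D.xA 0 = 1 := by
  have h := D.xA_add 0 0
  rw [add_zero] at h
  exact mul_eq_left.mp h.symm

theorem xB_zero : D.xB 0 0 = 1 := by
  have h := D.xB_mul 0 0 0 0
  simp only [add_zero, map_zero, ne_eq, OfNat.ofNat_ne_zero, not_false_eq_true, zero_pow, mul_zero] at h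
  exact mul_eq_left.mp h

theorem xB_split (t w : K) : D.xB t w = D.xB t 0 * D.xB 0 w := by
  rw [D.xB_mul]
  simp only [add_zero, zero_add, map_zero, ne_eq, OfNat.ofNat_ne_zero, not_false_eq_true, zero_pow, mul_zero]

include D in
theorem add_self (t : K) : t + t = 0 := by
  have h := D.two
  linear_combination t * h

theorem xB_sq (t w : K) : D.xB t w * D.xB t w = D.xB 0 (t * (D.θ t) ^ 2) := by
  rw [D.xB_mul, D.add_self, D.add_self, zero_add]

theorem theta_eq_zero (t : K) (h : D.θ t = 0) : t = 0 := by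
  rw [← map_zero D.θ] at h
  exact D.θ.injective h

/-- An element of the second cell subgroup whose square is trivial. -/
theorem xB_sq_eq_one (t w : K) (h : D.xB t w * D.xB t w = 1) : t = 0 := by
  rw [D.xB_sq, ← D.xB_zero] at h
  have h1 := (D.xB_inj _ _ _ _ h).2
  rcases mul_eq_zero.mp h1 with h2 | h2
  · exact h2
  · exact D.theta_eq_zero t (pow_eq_zero_iff (two_ne_zero) |>.mp h2)

theorem mem_UwA' (t : K) : D.xA t ∈ D.C.Uw D.iA := (D.mem_UwA _).mpr ⟨t, rfl⟩

theorem mem_UwB' (t w : K) : D.xB t w ∈ D.C.Uw D.iB := (D.mem_UwB _).mpr ⟨t, w, rfl⟩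

theorem mem_H' (ν κ : Kˣ) : D.hH ν κ ∈ D.C.H := (D.mem_H _).mpr ⟨ν, κ, rfl⟩

section good

variable [Finite Γ] (ψ : MulAut Γ) (hψ : D.C.Good ψ)

include hψ in
theorem exists_fA (t : K) : ∃ s : K, ψ (D.xA t) = D.xA s :=
  (D.mem_UwA _).mp ((D.C.good_root ψ hψ D.special0 D.iA D.specialA D.rootA _).mp (D.mem_UwA' t))

include hψ in
theorem exists_fB (t w : K) : ∃ t' w' : K, ψ (D.xB t w) = D.xB t' w' :=
  (D.mem_UwB _).mp ((D.C.good_root ψ hψ D.special0 D.iB D.specialB D.rootB _).mp (D.mem_UwB' t w))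

omit [Finite Γ] in
include hψ in
theorem exists_fH (ν κ : Kˣ) : ∃ ν' κ' : Kˣ, ψ (D.hH ν κ) = D.hH ν' κ' :=
  (D.mem_H _).mp ((hψ.2 _).mp (D.mem_H' ν κ))

end good

section norm

variable [Finite Γ] (ψ : MulAut Γ) (hψ : D.C.Good ψ)

omit [Finite Γ] in
theorem xA_one_ne : D.xA 1 ≠ 1 := by
  intro h
  rw [← D.xA_zero] at h
  exact one_ne_zero (D.xA_inj _ _ h)

omit [Finite Γ] in
theorem xB_one_sq_ne : D.xB 1 0 * D.xB 1 0 ≠ 1 := by
  intro h
  exact one_ne_zero (D.xB_sq_eq_one 1 0 h)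

include hψ in
/-- Up to an inner automorphism given by an element of `H`, an automorphism preserving `U` and `H` fixes the first
coordinates of two chosen elements. -/
theorem exists_norm : ∃ h ∈ D.C.H, (MulAut.conj h * ψ) (D.xA 1) = D.xA 1 ∧
    ∃ c : K, (MulAut.conj h * ψ) (D.xB 1 0) = D.xB 1 c := by
  obtain ⟨a, ha⟩ := D.exists_fA ψ hψ 1
  obtain ⟨b, c, hbc⟩ := D.exists_fB ψ hψ 1 0
  have ha0 : a ≠ 0 := by
    intro h
    rw [h, D.xA_zero] at ha
    apply D.xA_one_ne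
    rw [← map_one ψ] at ha
    exact ψ.injective ha
  have hb0 : b ≠ 0 := by
    intro h
    apply D.xB_one_sq_ne
    have h1 : ψ (D.xB 1 0 * D.xB 1 0) = 1 := by
      rw [map_mul, hbc, h, D.xB_sq, zero_mul, D.xB_zero]
    rw [← map_one ψ] at h1
    exact ψ.injective h1
  obtain ⟨ν, κ, h1, h2⟩ := D.surj (Units.mk0 a ha0)⁻¹ (Units.mk0 b hb0)⁻¹
  refine ⟨D.hH ν κ, D.mem_H' ν κ, ?_, ?_⟩
  · rw [MulAut.mul_apply, MulAut.conj_apply, ha, D.hH_xA, h1]
    congr 1
    rw [Units.val_inv_eq_inv_val, Units.val_mk0, inv_mul_cancel₀ ha0]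
  · refine ⟨(D.chiB ν κ : K) * (D.θ (D.chiB ν κ : K)) ^ 2 * c, ?_⟩
    rw [MulAut.mul_apply, MulAut.conj_apply, hbc, D.hH_xB]
    congr 1
    rw [h2, Units.val_inv_eq_inv_val, Units.val_mk0, inv_mul_cancel₀ hb0]

include hψ in
/-- An automorphism preserving `U` and `H` and fixing a chosen element of the first cell subgroup acts on this subgroup
as an automorphism of the field. -/
theorem exists_tau (h1 : ψ (D.xA 1) = D.xA 1) : ∃ τ : K ≃+* K, ∀ t : K, ψ (D.xA t) = D.xA (τ t) := by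
  choose f hf using D.exists_fA ψ hψ
  have f_add : ∀ s t : K, f (s + t) = f s + f t := by
    intro s t
    apply D.xA_inj
    rw [← hf, D.xA_add, map_mul, hf, hf, D.xA_add]
  have f_one : f 1 = 1 := by
    apply D.xA_inj
    rw [← hf, h1]
  have f_zero : f 0 = 0 := by
    have := f_add 0 0
    rw [add_zero] at this
    exact left_eq_add.mp this
  have f_unit : ∀ (l : Kˣ) (t : K), f ((l : K) * t) = f (l : K) * f t := by
    intro l t
    obtain ⟨ν, κ, e1, -⟩ := D.surj l 1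
    obtain ⟨ν', κ', e2⟩ := D.exists_fH ψ hψ ν κ
    have key : ∀ s : K, f ((l : K) * s) = (D.chiA ν' κ' : K) * f s := by
      intro s
      apply D.xA_inj
      have h3 := congrArg ψ (D.hH_xA ν κ s)
      rw [map_mul, map_mul, map_inv, e2, hf, hf, D.hH_xA, e1] at h3
      exact h3.symm
    have h4 := key 1
    rw [mul_one, f_one, mul_one] at h4
    rw [key t, h4]
  have f_mul : ∀ s t : K, f (s * t) = f s * f t := by
    intro s t
    by_cases hs : s = 0
    · rw [hs, zero_mul, f_zero, zero_mul]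
    · exact f_unit (Units.mk0 s hs) t
  have f_inj : Function.Injective f := by
    intro s t e
    apply D.xA_inj
    apply ψ.injective
    rw [hf, hf, e]
  have f_surj : Function.Surjective f := by
    intro s
    obtain ⟨s', hs'⟩ := D.exists_fA ψ⁻¹ (D.C.good_inv ψ hψ) s
    refine ⟨s', ?_⟩
    apply D.xA_inj
    rw [← hf, ← hs', MulAut.apply_inv_self]
  let g : K →+* K :=
    { toFun := f
      map_one' := f_one
      map_mul' := f_mul
      map_zero' := f_zero
      map_add' := f_add }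
  exact ⟨RingEquiv.ofBijective g ⟨f_inj, f_surj⟩, fun t => hf t⟩

omit [Finite Γ] in
/-- The automorphisms induced by the automorphisms of the field preserve `U` and `H`. -/
theorem good_fa (τ : K ≃+* K) : D.C.Good (D.fa τ) := by
  have e : ∀ x : Γ, D.fa τ⁻¹ (D.fa τ x) = x := by
    intro x
    rw [← MulAut.mul_apply, ← map_mul, inv_mul_cancel, map_one, MulAut.one_apply]
  constructor
  · intro x
    constructor
    · exact D.fa_U τ x
    · intro hx
      have := D.fa_U τ⁻¹ _ hx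
      rwa [e] at this
  · intro x
    constructor
    · exact D.fa_H τ x
    · intro hx
      have := D.fa_H τ⁻¹ _ hx
      rwa [e] at this

end norm

section rigid

variable [Finite Γ] (ψ : MulAut Γ) (hψ : D.C.Good ψ) (hA : ∀ t : K, ψ (D.xA t) = D.xA t)

include hψ hA in
theorem fix_negA (t : K) :
    ψ (D.C.nw D.iA * D.xA t * (D.C.nw D.iA)⁻¹) = D.C.nw D.iA * D.xA t * (D.C.nw D.iA)⁻¹ := by
  apply D.C.good_neg ψ hψ D.iA D.specialA D.conjA _ _ (D.mem_UwA' t)
  intro x hx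
  obtain ⟨s, rfl⟩ := (D.mem_UwA x).mp hx
  exact hA s

include hψ hA in
theorem fix_HA (ν : Kˣ) : ψ (D.hH ν 1) = D.hH ν 1 := by
  apply CellData.fix_closure ψ _ _ _ (D.HA_mem ν)
  rintro g (⟨t, rfl⟩ | ⟨t, rfl⟩)
  · exact hA t
  · exact D.fix_negA ψ hψ hA t

include hψ hA in
/-- An automorphism preserving `U` and `H` which is the identity on the first cell subgroup and fixes the first
coordinate of a chosen element of the second cell subgroup is the identity on the second cell subgroup. -/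
theorem fix_B (hB : ∃ c : K, ψ (D.xB 1 0) = D.xB 1 c) (t w : K) : ψ (D.xB t w) = D.xB t w := by
  choose F G hFG using D.exists_fB ψ hψ
  have h2 := D.two
  -- the action of the torus
  have torus : ∀ (l : Kˣ) (t w : K), F ((l : K) * t) ((l : K) * (D.θ (l : K)) ^ 2 * w) = (l : K) * F t w ∧
      G ((l : K) * t) ((l : K) * (D.θ (l : K)) ^ 2 * w) = (l : K) * (D.θ (l : K)) ^ 2 * G t w := by
    intro l t w
    obtain ⟨ν, e1⟩ := D.surjB l
    have h3 := congrArg ψ (D.hH_xB ν 1 t w)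
    rw [map_mul, map_mul, map_inv, D.fix_HA ψ hψ hA ν, hFG, hFG, D.hH_xB, e1] at h3
    obtain ⟨h4, h5⟩ := D.xB_inj _ _ _ _ h3
    exact ⟨h4.symm, h5.symm⟩
  -- the first coordinate
  have F0 : ∀ w : K, F 0 w = 0 := by
    intro w
    apply D.xB_sq_eq_one (F 0 w) (G 0 w)
    rw [← hFG, ← map_mul, D.xB_sq, zero_mul, D.xB_zero, map_one]
  have Fsplit : ∀ t w : K, F t w = F t 0 := by
    intro t w
    have h3 := congrArg ψ (D.xB_split t w)
    rw [map_mul, hFG, hFG, hFG, D.xB_mul, F0, add_zero] at h3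
    exact (D.xB_inj _ _ _ _ h3).1
  have F1 : F 1 0 = 1 := by
    obtain ⟨c, hc⟩ := hB
    rw [hFG] at hc
    exact (D.xB_inj _ _ _ _ hc).1
  have Fid : ∀ t w : K, F t w = t := by
    intro t w
    rw [Fsplit]
    by_cases ht : t = 0
    · rw [ht, F0]
    · have := (torus (Units.mk0 t ht) 1 0).1
      rw [Units.val_mk0, mul_one, mul_zero, F1, mul_one] at this
      exact this
  -- the second coordinate on the centre
  have G0 : ∀ w : K, G 0 w = w := by
    intro w
    obtain ⟨s, rfl⟩ := D.pow_surj w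
    have h3 := congrArg ψ (D.xB_sq s 0)
    rw [map_mul, hFG, hFG, D.xB_sq, Fid, Fid] at h3
    exact ((D.xB_inj _ _ _ _ h3).2).symm
  have Gsplit : ∀ t w : K, G t w = G t 0 + w := by
    intro t w
    have h3 := congrArg ψ (D.xB_split t w)
    rw [map_mul, hFG, hFG, hFG, D.xB_mul] at h3
    simp only [Fid, G0, map_zero] at h3
    have h4 := (D.xB_inj _ _ _ _ h3).2
    rw [h4]
    ring
  have d_add : ∀ t t' : K, G (t + t') 0 = G t 0 + G t' 0 := by
    intro t t'
    have h3 := congrArg ψ (D.xB_mul t 0 t' 0)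
    rw [map_mul, hFG, hFG, hFG, D.xB_mul, Fid, Fid, Fid, Gsplit (t + t')] at h3
    have h4 := (D.xB_inj _ _ _ _ h3).2
    have h5 : G (t + t') 0 = G t 0 + G t' 0 + t * (D.θ t') ^ 2 - (0 + 0 + t * (D.θ t') ^ 2) := by
      rw [h4]
      ring
    rw [h5]
    ring
  have d_zero : G 0 0 = 0 := by
    have := d_add 0 0
    rw [add_zero] at this
    exact left_eq_add.mp this
  have d_unit : ∀ l : Kˣ, G (l : K) 0 = (l : K) * (D.θ (l : K)) ^ 2 * G 1 0 := by
    intro l
    have := (torus l 1 0).2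
    rw [mul_one, mul_zero] at this
    exact this
  -- the remaining coordinate vanishes
  have d_one : G 1 0 = 0 := by
    obtain ⟨l, hl⟩ := D.hex
    have hl0 : l ≠ 0 := by
      intro h
      apply hl
      rw [h, map_zero]
      ring
    have hl1 : 1 + l ≠ 0 := by
      intro h
      apply hl
      have e : l = 1 := by linear_combination h - h2
      rw [e, map_one]
      ring
    have e1 := d_unit (Units.mk0 l hl0)
    have e2 := d_unit (Units.mk0 (1 + l) hl1)
    rw [Units.val_mk0] at e1 e2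
    rw [d_add, e1, map_add, map_one] at e2
    have e3 : ((D.θ l) ^ 2 - l) * G 1 0 = 0 := by
      linear_combination (-1 : K) * e2 - ((l + D.θ l + l * D.θ l) * G 1 0) * h2
    rcases mul_eq_zero.mp e3 with h | h
    · exact absurd (sub_eq_zero.mp h) hl
    · exact h
  have Gid : ∀ t w : K, G t w = w := by
    intro t w
    rw [Gsplit]
    by_cases ht : t = 0
    · rw [ht, d_zero, zero_add]
    · have := d_unit (Units.mk0 t ht)
      rw [Units.val_mk0, d_one, mul_zero] at this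
      rw [this, zero_add]
  rw [hFG, Fid, Gid]

include hψ hA in
theorem fix_negB (hB : ∃ c : K, ψ (D.xB 1 0) = D.xB 1 c) (t w : K) :
    ψ (D.C.nw D.iB * D.xB t w * (D.C.nw D.iB)⁻¹) = D.C.nw D.iB * D.xB t w * (D.C.nw D.iB)⁻¹ := by
  apply D.C.good_neg ψ hψ D.iB D.specialB D.conjB _ _ (D.mem_UwB' t w)
  intro x hx
  obtain ⟨s, v, rfl⟩ := (D.mem_UwB x).mp hx
  exact D.fix_B ψ hψ hA hB s v

include hψ hA in
/-- An automorphism preserving `U` and `H` which is the identity on the first cell subgroup and fixes the first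
coordinate of a chosen element of the second cell subgroup is the identity. -/
theorem eq_one (hB : ∃ c : K, ψ (D.xB 1 0) = D.xB 1 c) : ψ = 1 := by
  apply MulEquiv.ext
  intro g
  rw [MulAut.one_apply]
  have hg : g ∈ Subgroup.closure ({g : Γ | ∃ t : K, g = D.xA t} ∪
      {g : Γ | ∃ t : K, g = D.C.nw D.iA * D.xA t * (D.C.nw D.iA)⁻¹} ∪
      {g : Γ | ∃ t w : K, g = D.xB t w} ∪ {g : Γ | ∃ t w : K, g = D.C.nw D.iB * D.xB t w * (D.C.nw D.iB)⁻¹}) := by
    rw [D.gen]
    exact Subgroup.mem_top g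
  apply CellData.fix_closure ψ _ _ _ hg
  rintro x (((⟨t, rfl⟩ | ⟨t, rfl⟩) | ⟨t, w, rfl⟩) | ⟨t, w, rfl⟩)
  · exact hA t
  · exact D.fix_negA ψ hψ hA t
  · exact D.fix_B ψ hψ hA hB t w
  · exact D.fix_negB ψ hψ hA hB t w

end rigid

/-- Every automorphism is the product of an inner automorphism and an automorphism induced by an automorphism of the
field. -/
theorem aut_decomp [Finite Γ] (σ : MulAut Γ) : ∃ (g : Γ) (τ : K ≃+* K), σ = MulAut.conj g * D.fa τ := by
  have : Fact (Nat.Prime 2) := ⟨Nat.prime_two⟩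
  obtain ⟨g1, h1⟩ := D.C.exists_good D.special0 σ
  set ψ1 := MulAut.conj g1 * σ with hψ1
  obtain ⟨h, hh, e1, c, e2⟩ := D.exists_norm ψ1 h1
  set ψ2 := MulAut.conj h * ψ1 with hψ2
  have h2 : D.C.Good ψ2 := D.C.good_mul _ _ (D.C.good_conj h hh) h1
  obtain ⟨τ, hτ⟩ := D.exists_tau ψ2 h2 e1
  set ψ3 := ψ2 * (D.fa τ)⁻¹ with hψ3
  have h3 : D.C.Good ψ3 := D.C.good_mul _ _ h2 (D.C.good_inv _ (D.good_fa τ))
  have einv : (D.fa τ)⁻¹ = D.fa τ⁻¹ := (map_inv D.fa τ).symm
  have hA : ∀ t : K, ψ3 (D.xA t) = D.xA t := by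
    intro t
    rw [hψ3, MulAut.mul_apply, einv, D.fa_xA, hτ]
    congr 1
    show τ (τ⁻¹ t) = t
    rw [← RingAut.mul_apply, mul_inv_cancel, RingAut.one_apply]
  have hB : ∃ c' : K, ψ3 (D.xB 1 0) = D.xB 1 c' := by
    refine ⟨c, ?_⟩
    rw [hψ3, MulAut.mul_apply, einv, D.fa_xB, map_one, map_zero, e2]
  have h4 := D.eq_one ψ3 h3 hA hB
  have h5 : ψ2 = D.fa τ := by
    have : ψ2 = ψ3 * D.fa τ := by
      rw [hψ3, inv_mul_cancel_right]
    rw [this, h4, one_mul]
  refine ⟨(h * g1)⁻¹, τ, ?_⟩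
  rw [← h5, hψ2, hψ1, ← mul_assoc, ← mul_assoc, ← map_mul, ← map_mul]
  have e3 : (h * g1)⁻¹ * h * g1 = 1 := by group
  rw [e3, map_one, one_mul]

/-- An automorphism of the field inducing an inner automorphism is trivial. -/
theorem fa_inner [Finite Γ] (τ : K ≃+* K) (c : Γ) (h : D.fa τ = MulAut.conj c) (x : K) : τ x = x := by
  have hc : ∀ y : Γ, c * y * c⁻¹ = D.fa τ y := by
    intro y
    rw [h, MulAut.conj_apply]
  have hg := D.good_fa τ
  have hcH : c ∈ D.C.H := by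
    apply D.C.mem_H_of_norm c
    · intro y hy
      rw [hc]
      exact (hg.1 y).mp hy
    · intro y
      rw [hc]
      exact hg.2 y
  obtain ⟨ν, κ, rfl⟩ := (D.mem_H c).mp hcH
  have h1 := hc (D.xA x)
  have h2 := hc (D.xA 1)
  rw [D.hH_xA, D.fa_xA] at h1 h2
  have h3 := D.xA_inj _ _ h1
  have h4 := D.xA_inj _ _ h2
  rw [map_one, mul_one] at h4
  rw [h4, one_mul] at h3
  exact h3.symm

include D in
/-- The outer automorphism group is in bijection with the automorphism group of the field. -/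
theorem card_out [Finite Γ] : Nat.card (Cfsg.Out Γ) = Nat.card (K ≃+* K) := by
  symm
  let Ψ : (K ≃+* K) → Cfsg.Out Γ := fun τ => QuotientGroup.mk (D.fa τ)
  have hΨ : Function.Bijective Ψ := by
    constructor
    · intro τ τ' h
      have h1 : (D.fa τ)⁻¹ * D.fa τ' ∈ Cfsg.Inn Γ := QuotientGroup.eq.1 h
      obtain ⟨c, hc⟩ := h1
      have h2 : D.fa (τ⁻¹ * τ') = MulAut.conj c := by
        rw [map_mul, map_inv, hc]
      ext x
      have h3 := D.fa_inner _ c h2 x
      rw [RingAut.mul_apply] at h3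
      have h4 : τ (τ⁻¹ (τ' x)) = τ' x := by
        rw [← RingAut.mul_apply, mul_inv_cancel, RingAut.one_apply]
      rw [← h4, h3]
    · intro o
      obtain ⟨σ, rfl⟩ := QuotientGroup.mk_surjective o
      obtain ⟨g, τ, h⟩ := D.aut_decomp σ
      refine ⟨τ, ?_⟩
      show (QuotientGroup.mk (D.fa τ) : Cfsg.Out Γ) = QuotientGroup.mk σ
      rw [h, QuotientGroup.mk_mul]
      have : (QuotientGroup.mk (MulAut.conj g) : Cfsg.Out Γ) = 1 :=
        (QuotientGroup.eq_one_iff _).2 ⟨g, rfl⟩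
      rw [this, one_mul]
  exact Nat.card_congr (Equiv.ofBijective Ψ hΨ)

end F4Data

end Cfsg.Agent.Lib.Helper36_F4OutAlg
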