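import Cfsg.Agent.Lib.Helper36_F4Perf
import Cfsg.Agent.Lib.Helper36_F4Core
import Cfsg.Agent.Lib.Helper36_F4Pair
import Cfsg.Agent.Lib.Helper36_TwistSimple
import Cfsg.Agent.S1050

set_option autoImplicit false
set_option maxRecDepth 100000

/-!
Type `²F₄`: the twisted group over a field with more than two elements is simple.
-/

namespace Cfsg.Agent.Lib.Helper36_F4Simple

open Cfsg Cfsg.Lie
  Cfsg.Agent.Lib.Helper36_ChevTorus Cfsg.Agent.Lib.Helper36_ChevBorel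
  Cfsg.Agent.Lib.Helper36_ChevTables
  Cfsg.Agent.Lib.Helper36_ChevOrder Cfsg.Agent.Lib.Helper36_WeylChain
  Cfsg.Agent.Lib.Helper36_WeylLit Cfsg.Agent.Lib.Helper36_WeylLit.RootLit
  Cfsg.Agent.Lib.Helper36_ChevDataF4Lit Cfsg.Agent.Lib.Helper36_ChevDataF4LitOK
  Cfsg.Agent.Lib.Helper36_TwistGen Cfsg.Agent.Lib.Helper36_TwistWeyl Cfsg.Agent.Lib.Helper36_TwistWeylF4
  Cfsg.Agent.Lib.Helper36_TwistBN Cfsg.Agent.Lib.Helper36_TwistSimple
  Cfsg.Agent.Lib.Helper36_F4Setup Cfsg.Agent.Lib.Helper36_F4BN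

theorem ne_comm_tab : ∃ s < lit.n, lit'.r 0 (lit'.r 1 s) ≠ lit'.r 1 (lit'.r 0 s) := by decide +kernel

theorem rank_tab : 0 < lit'.rank ∧ 1 < lit'.rank := by decide

section

variable {K : Type*} [Field K] [Fintype K] {m : ℕ} (hK : Fintype.card K = 2 ^ (2 * m + 1))

include hK in
/-- Simplicity and non-commutativity from the criterion for `(B, N)`-pairs. -/
theorem simple (hm : 1 ≤ m) :
    IsSimpleGroup ↥(twistedF4 K (2 ^ m)) ∧ ¬ IsMulCommutative ↥(twistedF4 K (2 ^ m)) := by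
  obtain ⟨Q, hQB, -, hQS⟩ := Cfsg.Agent.Lib.Helper36_F4Pair.exists_bnPair hK
  obtain ⟨s, hs, hne⟩ := ne_comm_tab
  refine twisted_simple (hfK K) litOK hchain (hx K) (hBN K) (genData hK) Q hQB hQS [(0, 1)] ?_ conn2 (by decide)
    (Cfsg.Agent.S1050.result chevF4 hD) (Cfsg.Agent.Lib.Helper36_F4Perf.perfect hK hm)
    (Cfsg.Agent.Lib.Helper36_F4Core.core_trivial hK)
  intro e he
  simp only [List.mem_cons, List.not_mem_nil, or_false] at he
  subst he
  exact ⟨by decide, by decide, sPerm_ne_comm lit' wf' 0 1 rank_tab.1 rank_tab.2 s hs hne⟩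

end

end Cfsg.Agent.Lib.Helper36_F4Simple
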