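import Cfsg.Agent.Lib.Helper36_F4Order
import Cfsg.Agent.Lib.Helper36_TwistPerf

set_option autoImplicit false
set_option maxRecDepth 100000

/-!
Type `²F₄`: conjugation of the parametrised elements of the unipotent subgroup by diagonal elements, and the
parametrisations of the fixed subgroups of the two distinguished cell subgroups.
-/

namespace Cfsg.Agent.Lib.Helper36_F4Tor

open Cfsg Cfsg.Lie Cfsg.Agent.Lib.Helper18_ChevFast Cfsg.Agent.Lib.Helper18_ChevEngine
  Cfsg.Agent.Lib.Helper18_ChevN Cfsg.Agent.Lib.Helper18_ChevWeyl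
  Cfsg.Agent.Lib.Helper18_ChevGL Cfsg.Agent.Lib.Helper18_ChevTri
  Cfsg.Agent.Lib.Helper18_ChevAdd Cfsg.Agent.Lib.Helper18_ChevUni
  Cfsg.Agent.Lib.Helper36_ChevTorus Cfsg.Agent.Lib.Helper36_ChevBorel
  Cfsg.Agent.Lib.Helper36_ChevTables
  Cfsg.Agent.Lib.Helper36_ChevOrder Cfsg.Agent.Lib.Helper36_WeylChain
  Cfsg.Agent.Lib.Helper36_WeylLit Cfsg.Agent.Lib.Helper36_WeylLit.RootLit
  Cfsg.Agent.Lib.Helper36_ChevDataF4Lit Cfsg.Agent.Lib.Helper36_ChevDataF4LitOK
  Cfsg.Agent.Lib.Helper36_TwistGen Cfsg.Agent.Lib.Helper36_TwistWeyl Cfsg.Agent.Lib.Helper36_TwistWeylF4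
  Cfsg.Agent.Lib.Helper36_F4Setup Cfsg.Agent.Lib.Helper36_F4BN Cfsg.Agent.Lib.Helper36_F4U
  Cfsg.Agent.Lib.Helper36_F4Order Cfsg.Agent.Lib.Helper36_F4Cell
  Cfsg.Agent.Lib.Helper18_TwistF4C Cfsg.Agent.Lib.Helper18_TwistF4D

section

variable {K : Type*} [Field K]

/-- Conjugation of a word by the diagonal element of a character. -/
theorem torus_conj_word (χ : ℕ → Kˣ) (hχ : chevF4.IsRootCharacter χ) : ∀ w : List (ℕ × K),
    (∀ p ∈ w, p.1 < chevF4.nroots) →
    torusGL chevF4 K χ * wordGL dc w * (torusGL chevF4 K χ)⁻¹ =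
      wordGL dc (w.map fun p => (p.1, (χ p.1 : K) * p.2))
  | [], _ => by
    rw [List.map_nil, wordGL_nil, mul_one, mul_inv_cancel]
  | p :: w, h => by
    rw [List.map_cons, wordGL_cons, wordGL_cons,
      ← torus_conj_word χ hχ w (fun q hq => h q (List.mem_cons_of_mem _ hq)),
      ← Cfsg.Agent.Lib.Helper36_TwistPerf.torus_conj_x dc hchain χ hχ p.1 (h p List.mem_cons_self) p.2]
    group

/-- The parameters of a parametrised element which commutes with the diagonal element of a character. -/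
theorem fixed_params (χ : ℕ → Kˣ) (hχ : chevF4.IsRootCharacter χ) (m : ℕ) (s : Fin 12 → K)
    (h : torusGL chevF4 K χ * uPar m s * (torusGL chevF4 K χ)⁻¹ = uPar m s) :
    ∀ r ∈ LF4, (χ r : K) * parF4 m s r = parF4 m s r := by
  unfold uPar at h
  rw [torus_conj_word χ hχ _ (by
    intro p hp
    rw [List.mem_map] at hp
    obtain ⟨r, hr, rfl⟩ := hp
    exact ((LF4_pos r).mp hr).1), List.map_map] at h
  have h2 := congrArg (fun g : GL chevF4.Idx K => (g : Matrix chevF4.Idx chevF4.Idx K)) h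
  simp only [wordGL_coe] at h2
  exact unique_word dc (certs K).tc (certs K).ac LF4 LF4_nodup (fun s hs => (LF4_pos s).mp hs)
    (fun r => (χ r : K) * parF4 m s r) (parF4 m s) h2

/-- A parameter fixed by a non-trivial scalar vanishes. -/
theorem eq_zero_of_mul_eq (c : Kˣ) (x : K) (hc1 : c ≠ 1) (hx : (c : K) * x = x) : x = 0 := by
  have h2 : ((c : K) - 1) * x = 0 := by rw [sub_mul, hx, one_mul, sub_self]
  rcases mul_eq_zero.mp h2 with h3 | h3
  · exfalso
    apply hc1
    apply Units.ext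
    rw [Units.val_one]
    exact sub_eq_zero.mp h3
  · exact h3

end

section

variable {K : Type*} [Field K] [Fintype K] {m : ℕ} (hK : Fintype.card K = 2 ^ (2 * m + 1))

/-- The fixed subgroups of the distinguished cell subgroups. -/
abbrev Xa (K : Type*) [Field K] (m a : ℕ) : Subgroup (GL chevF4.Idx K) :=
  rootClosure chevF4 K (SNeg chevF4 lit (lit'.sPerm wf' a)) ⊓ twistedF4 K (2 ^ m)

include hK in
/-- The parametrisation of the first subgroup. -/
theorem exists_par0 (g : GL chevF4.Idx K) (hg : g ∈ Xa K m 0) : ∃ t : K, g = uPar m (s0 t) := by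
  let f : K → ↥(Xa K m 0) := fun t => ⟨uPar m (s0 t), ⟨s0_closure m t, uPar_mem hK _⟩⟩
  have hinj : Function.Injective f := by
    intro t t' e
    have e1 : uPar m (s0 t) = uPar m (s0 t') := congrArg Subtype.val e
    have e2 := congrFun (uPar_inj m _ _ e1) 0
    simpa [s0] using e2
  have hbij : Function.Bijective f := by
    rw [Nat.bijective_iff_injective_and_card]
    refine ⟨hinj, ?_⟩
    rw [(base_card hK).1, Nat.card_eq_fintype_card, hK]
  obtain ⟨t, ht⟩ := hbij.2 ⟨g, hg⟩
  exact ⟨t, (congrArg Subtype.val ht).symm⟩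

include hK in
/-- The parametrisation of the second subgroup. -/
theorem exists_par1 (g : GL chevF4.Idx K) (hg : g ∈ Xa K m 1) : ∃ t u : K, g = uPar m (s1 t u) := by
  let f : K × K → ↥(Xa K m 1) := fun p => ⟨uPar m (s1 p.1 p.2), ⟨s1_closure m p.1 p.2, uPar_mem hK _⟩⟩
  have hinj : Function.Injective f := by
    rintro ⟨t, u⟩ ⟨t', u'⟩ e
    have e1 : uPar m (s1 t u) = uPar m (s1 t' u') := congrArg Subtype.val e
    have e2 := uPar_inj m _ _ e1
    have e3 := congrFun e2 1
    have e4 := congrFun e2 2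
    simp [s1] at e3 e4
    rw [e3, e4]
  have hbij : Function.Bijective f := by
    rw [Nat.bijective_iff_injective_and_card]
    refine ⟨hinj, ?_⟩
    rw [(base_card hK).2, Nat.card_prod, Nat.card_eq_fintype_card, hK, sq]
  obtain ⟨⟨t, u⟩, ht⟩ := hbij.2 ⟨g, hg⟩
  exact ⟨t, u, (congrArg Subtype.val ht).symm⟩

include hK in
/-- A diagonal element whose character is not trivial at the long root of the first class has no fixed element in the
first subgroup other than the identity. -/
theorem fpf0 (χ : ℕ → Kˣ) (hχ : chevF4.IsRootCharacter χ) (h24 : χ 24 ≠ 1) (z : GL chevF4.Idx K)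
    (hz : z ∈ Xa K m 0) (hfix : torusGL chevF4 K χ * z * (torusGL chevF4 K χ)⁻¹ = z) : z = 1 := by
  have key : ∀ g ∈ Xa K m 0, torusGL chevF4 K χ * g * (torusGL chevF4 K χ)⁻¹ = g → g = uPar m (s0 (0 : K)) := by
    intro g hg hfg
    obtain ⟨t, rfl⟩ := exists_par0 hK g hg
    have h1 := fixed_params χ hχ m _ hfg 24 (by decide)
    have h2 : parF4 m (s0 t) 24 = t := by simp [parF4, s0]
    rw [h2] at h1
    rw [eq_zero_of_mul_eq _ _ h24 h1]
  rw [key z hz hfix, ← key 1 (Subgroup.one_mem _) (by rw [mul_one, mul_inv_cancel])]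

include hK in
/-- A diagonal element whose character is not trivial at the two long roots of the second class has no fixed element
in the second subgroup other than the identity. -/
theorem fpf1 (χ : ℕ → Kˣ) (hχ : chevF4.IsRootCharacter χ) (h25 : χ 25 ≠ 1) (h30 : χ 30 ≠ 1) (z : GL chevF4.Idx K)
    (hz : z ∈ Xa K m 1) (hfix : torusGL chevF4 K χ * z * (torusGL chevF4 K χ)⁻¹ = z) : z = 1 := by
  have key : ∀ g ∈ Xa K m 1, torusGL chevF4 K χ * g * (torusGL chevF4 K χ)⁻¹ = g →
      g = uPar m (s1 (0 : K) 0) := by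
    intro g hg hfg
    obtain ⟨t, u, rfl⟩ := exists_par1 hK g hg
    have h1 := fixed_params χ hχ m _ hfg 25 (by decide)
    have h2 : parF4 m (s1 t u) 25 = t := by simp [parF4, s1]
    have h3 := fixed_params χ hχ m _ hfg 30 (by decide)
    have h4 : parF4 m (s1 t u) 30 = u := by simp [parF4, s1]
    rw [h2] at h1
    rw [h4] at h3
    rw [eq_zero_of_mul_eq _ _ h25 h1, eq_zero_of_mul_eq _ _ h30 h3]
  rw [key z hz hfix, ← key 1 (Subgroup.one_mem _) (by rw [mul_one, mul_inv_cancel])]

end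

end Cfsg.Agent.Lib.Helper36_F4Tor
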