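import Cfsg.Agent.Lib.Helper36_F4BN
import Cfsg.Agent.Lib.Helper18_TwistF4D

set_option autoImplicit false
set_option maxRecDepth 100000

/-!
Type `²F₄`: the parametrised elements of the unipotent subgroup of the twisted group, and those of the cell subgroups of
the two distinguished elements of the Weyl group.
-/

namespace Cfsg.Agent.Lib.Helper36_F4U

open Cfsg Cfsg.Lie Cfsg.Agent.Lib.Helper18_ChevFast Cfsg.Agent.Lib.Helper18_ChevEngine
  Cfsg.Agent.Lib.Helper18_ChevN Cfsg.Agent.Lib.Helper18_ChevWeyl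
  Cfsg.Agent.Lib.Helper18_ChevGL Cfsg.Agent.Lib.Helper18_ChevTri
  Cfsg.Agent.Lib.Helper18_ChevAdd Cfsg.Agent.Lib.Helper18_ChevUni
  Cfsg.Agent.Lib.Helper36_ChevTorus Cfsg.Agent.Lib.Helper36_ChevBorel
  Cfsg.Agent.Lib.Helper36_ChevTables
  Cfsg.Agent.Lib.Helper36_ChevOrder Cfsg.Agent.Lib.Helper36_WeylChain
  Cfsg.Agent.Lib.Helper36_WeylLit Cfsg.Agent.Lib.Helper36_WeylLit.RootLit
  Cfsg.Agent.Lib.Helper36_ChevDataF4Lit Cfsg.Agent.Lib.Helper36_ChevDataF4LitOK
  Cfsg.Agent.Lib.Helper36_TwistGen Cfsg.Agent.Lib.Helper36_TwistWeyl Cfsg.Agent.Lib.Helper36_TwistWeylF4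
  Cfsg.Agent.Lib.Helper36_F4Setup Cfsg.Agent.Lib.Helper36_F4BN
  Cfsg.Agent.Lib.Helper18_TwistF4C Cfsg.Agent.Lib.Helper18_TwistF4D

section

variable {K : Type*} [Field K]

/-- A word over a set of roots lies in the subgroup generated by the root subgroups of the set. -/
theorem wordGL_mem_closure (P : ℕ → Prop) : ∀ w : List (ℕ × K), (∀ p ∈ w, P p.1 ∨ p.2 = 0) →
    wordGL dc w ∈ rootClosure chevF4 K P
  | [], _ => by
    rw [wordGL_nil]
    exact Subgroup.one_mem _
  | p :: w, h => by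
    rw [wordGL_cons]
    apply Subgroup.mul_mem
    · rcases h p List.mem_cons_self with hp | hp
      · exact Subgroup.subset_closure ⟨p.1, p.2, hp, Cfsg.Agent.Lib.Helper18_ChevGL.xGL_coe dc p.1 p.2⟩
      · rw [hp, Cfsg.Agent.Lib.Helper18_ChevUni.xGL_zero]
        exact Subgroup.one_mem _
    · exact wordGL_mem_closure P w (fun q hq => h q (List.mem_cons_of_mem _ hq))

/-- The parametrised elements of the unipotent subgroup of the twisted group. -/
def uPar (m : ℕ) (s : Fin 12 → K) : GL chevF4.Idx K := wordGL dc (LF4.map fun r => (r, parF4 m s r))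

theorem uPar_inj (m : ℕ) (s s' : Fin 12 → K) (h : uPar m s = uPar m s') : s = s' := by
  have h2 := congrArg (fun g : GL chevF4.Idx K => (g : Matrix chevF4.Idx chevF4.Idx K)) h
  unfold uPar at h2
  simp only [wordGL_coe] at h2
  exact parF4_injective s s' (unique_word dc (certs K).tc (certs K).ac LF4 LF4_nodup
    (fun s hs => (LF4_pos s).mp hs) _ _ h2)

theorem uPar_mem_closure (m : ℕ) (s : Fin 12 → K) (P : ℕ → Prop) (h : ∀ r ∈ LF4, P r ∨ parF4 m s r = 0) :
    uPar m s ∈ rootClosure chevF4 K P := by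
  apply wordGL_mem_closure
  intro p hp
  rw [List.mem_map] at hp
  obtain ⟨r, hr, rfl⟩ := hp
  exact h r hr

end

section

variable {K : Type*} [Field K] [Fintype K] {m : ℕ} (hK : Fintype.card K = 2 ^ (2 * m + 1))

include hK in
theorem uPar_mem (s : Fin 12 → K) : uPar m s ∈ twistedF4 K (2 ^ m) := by
  have := Cfsg.Agent.Lib.Helper18_TwistF4A.charP_two hK
  exact mem_of_ok dc (certs K).r2 hK (Cfsg.Agent.Lib.Helper18_TwistF4E.sigF4_spec hK) _ (allOK_parF4 s)

end

end Cfsg.Agent.Lib.Helper36_F4U
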