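import Mathlib

set_option autoImplicit false

/-!
Generic lemmas for the generation of a group of Lie type by two elements (a diagonal element `h` and the product of a
root element and a representative of a Coxeter element): sums of two squares in finite fields, the commutator of `h`
with a conjugate of a diagonal element, and the filling of a root subgroup from one non-trivial element.
-/

namespace Cfsg.Agent.Lib.Helper36_Gen2

/-- Every element of a finite field is a sum of two squares. -/
theorem exists_sq_add_sq {K : Type*} [Field K] [Fintype K] (x : K) : ∃ a b : K, a ^ 2 + b ^ 2 = x := by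
  classical
  by_cases h2 : Fintype.card K % 2 = 0
  · have hc : ringChar K = 2 := FiniteField.even_card_iff_char_two.mpr h2
    obtain ⟨a, ha⟩ := FiniteField.isSquare_of_char_two hc x
    exact ⟨a, 0, by rw [ha]; ring⟩
  · have h1 : Fintype.card K % 2 = 1 := by omega
    obtain ⟨a, b, hab⟩ := FiniteField.exists_root_sum_quadratic (f := (Polynomial.X : Polynomial K) ^ 2)
      (g := (Polynomial.X : Polynomial K) ^ 2 - Polynomial.C x) (Polynomial.degree_X_pow 2)
      (Polynomial.degree_X_pow_sub_C (by decide) _) h1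
    refine ⟨a, b, ?_⟩
    simp only [Polynomial.eval_pow, Polynomial.eval_X, Polynomial.eval_sub, Polynomial.eval_C] at hab
    linear_combination hab

section

variable {Γ K : Type*} [Group Γ] [Field K] (X : K → Γ) (hadd : ∀ s t : K, X (s + t) = X s * X t)

include hadd in
theorem X_zero : X 0 = 1 := by
  have := hadd 0 0
  rw [add_zero] at this
  exact (mul_eq_left).mp this.symm

include hadd in
theorem X_neg (t : K) : X (-t) = (X t)⁻¹ := by
  rw [eq_inv_iff_mul_eq_one, ← hadd, neg_add_cancel, X_zero X hadd]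

include hadd in
/-- The commutator of a diagonal element `h` and the conjugate by `X 1` of a diagonal element `h'`. -/
theorem trick (h h' : Γ) (hc : Commute h h') (κ κ' : K) (hh : ∀ t, h * X t * h⁻¹ = X (κ * t))
    (hh' : h' * X 1 * h'⁻¹ = X κ') :
    h * (X 1 * h' * (X 1)⁻¹) * h⁻¹ * (X 1 * h' * (X 1)⁻¹)⁻¹ = X ((κ - 1) * (1 - κ')) := by
  have e1 : X 1 * h' * (X 1)⁻¹ = X (1 - κ') * h' := by
    rw [sub_eq_add_neg, hadd, X_neg X hadd, ← hh']
    group
  have e2 : h * (X (1 - κ') * h') * h⁻¹ = X (κ * (1 - κ')) * h' := by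
    rw [← hh]
    have : h * h' = h' * h := hc.eq
    calc h * (X (1 - κ') * h') * h⁻¹ = h * X (1 - κ') * h⁻¹ * (h * h') * h⁻¹ := by group
      _ = h * X (1 - κ') * h⁻¹ * (h' * h) * h⁻¹ := by rw [this]
      _ = h * X (1 - κ') * h⁻¹ * h' := by group
  rw [e1, e2]
  have e3 : (κ - 1) * (1 - κ') = κ * (1 - κ') + -(1 - κ') := by ring
  rw [e3, hadd, X_neg X hadd]
  group

end

section

variable {Γ K : Type*} [Group Γ] [Field K] [Fintype K] (X : K → Γ) (hadd : ∀ s t : K, X (s + t) = X s * X t)

include hadd in
/-- A root subgroup is filled by one non-trivial element and a diagonal element acting through the square of a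
generator of the multiplicative group. -/
theorem fill (G1 : Subgroup Γ) (h : Γ) (hG : h ∈ G1) (r : Kˣ) (hr : ∀ u : Kˣ, u ∈ Submonoid.powers r)
    (hh : ∀ t, h * X t * h⁻¹ = X ((r : K) ^ 2 * t)) (d : K) (hd : d ≠ 0) (hX : X d ∈ G1) (t : K) : X t ∈ G1 := by
  have hpow : ∀ k : ℕ, ∀ t : K, X t ∈ G1 → X (((r : K) ^ k) ^ 2 * t) ∈ G1 := by
    intro k
    induction k with
    | zero => intro t ht; simpa using ht
    | succ k ih =>
      intro t ht
      have h1 := ih t ht
      have h2 : X ((r : K) ^ 2 * (((r : K) ^ k) ^ 2 * t)) ∈ G1 := by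
        rw [← hh]
        exact G1.mul_mem (G1.mul_mem hG h1) (G1.inv_mem hG)
      have e : ((r : K) ^ (k + 1)) ^ 2 * t = (r : K) ^ 2 * (((r : K) ^ k) ^ 2 * t) := by ring
      rw [e]
      exact h2
  have hsq : ∀ u t : K, X t ∈ G1 → X (u ^ 2 * t) ∈ G1 := by
    intro u t ht
    by_cases hu : u = 0
    · rw [hu, zero_pow two_ne_zero, zero_mul, X_zero X hadd]
      exact G1.one_mem
    · obtain ⟨k, hk⟩ := hr (Units.mk0 u hu)
      have : u = (r : K) ^ k := by
        have := congrArg Units.val hk
        simpa using this.symm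
      rw [this]
      exact hpow k t ht
  obtain ⟨a, b, hab⟩ := exists_sq_add_sq (t / d)
  have e : t = a ^ 2 * d + b ^ 2 * d := by
    rw [← add_mul, hab, div_mul_cancel₀ _ hd]
  rw [e, hadd]
  exact G1.mul_mem (hsq a d hX) (hsq b d hX)

end

end Cfsg.Agent.Lib.Helper36_Gen2
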