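import Cfsg.Agent.Lib.Helper36_GraphPoly

set_option autoImplicit false

/-!
The exceptional graph automorphisms of the Chevalley groups of types `G₂` (characteristic 3), `B₂` and `F₄`
(characteristic 2), on matrices: the matrices of the group leave a subspace `I` invariant, and the pair of actions on `I`
and on the quotient is transformed by exchanging the two blocks with a twist by two ring homomorphisms.
-/

namespace Cfsg.Agent.Lib.Helper36_GraphAut

open Cfsg Cfsg.Lie Cfsg.Agent.Lib.Helper36_GraphPoly

/-- The tables of a graph automorphism: the characteristic, a bound for the exponents, the block of each index (by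
code), the pairing of the indices, the permutation of the roots, and the power attached to each root. -/
structure GData where
  p : ℕ
  B : ℕ
  shC : ℕ → Bool
  pmC : ℕ → ℕ
  rho : ℕ → ℕ
  lam : ℕ → ℕ

variable (D : ChevalleyDatum) (G : GData)

/-- The checks on the tables. -/
structure GOK : Prop where
  pm : ∀ c < D.rank + D.nroots, G.pmC c < D.rank + D.nroots ∧ G.pmC (G.pmC c) = c ∧ G.shC (G.pmC c) = !G.shC c ∧
    (c < D.rank ↔ G.pmC c < D.rank)
  rho : ∀ r < D.nroots, G.rho r < D.nroots ∧ G.rho (G.rho r) = r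
  tri : ∀ r < D.nroots, ∀ ci < D.rank + D.nroots, ∀ cj < D.rank + D.nroots, G.shC ci = false → G.shC cj = true →
    polyEq G.p G.B (entryPoly D r ci cj) [] = true
  key : ∀ r < D.nroots, ∀ ci < D.rank + D.nroots, ∀ cj < D.rank + D.nroots, G.shC ci = G.shC cj →
    polyEq G.p G.B (scaleExp (if G.shC ci = true then 1 else G.p) (entryPoly D r (G.pmC ci) (G.pmC cj)))
      (scaleExp (G.lam r) (entryPoly D (G.rho r) ci cj)) = true

theorem code_lt (i : D.Idx) : code D i < D.rank + D.nroots := by
  rcases i with i | s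
  · show i.val < _
    have := i.2
    omega
  · show D.rank + s.val < _
    have := s.2
    omega

theorem code_injective : Function.Injective (code D) := by
  intro i j h
  rcases i with i | s <;> rcases j with j | s'
  · exact congrArg Sum.inl (Fin.ext h)
  · exfalso
    have h' : i.val = D.rank + s'.val := h
    have := i.2
    omega
  · exfalso
    have h' : D.rank + s.val = j.val := h
    have := j.2
    omega
  · have h' : D.rank + s.val = D.rank + s'.val := h
    exact congrArg Sum.inr (Fin.ext (by omega))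

/-- The index with a given code. -/
def decodeIdx (c : ℕ) (d : D.Idx) : D.Idx :=
  if h : c < D.rank then Sum.inl ⟨c, h⟩
  else if h' : c - D.rank < D.nroots then Sum.inr ⟨c - D.rank, h'⟩ else d

theorem code_decodeIdx (c : ℕ) (hc : c < D.rank + D.nroots) (d : D.Idx) : code D (decodeIdx D c d) = c := by
  unfold decodeIdx
  by_cases h : c < D.rank
  · rw [dif_pos h]
    rfl
  · have h' : c - D.rank < D.nroots := by omega
    rw [dif_neg h, dif_pos h']
    show D.rank + (c - D.rank) = c
    omega

/-- The block of an index. -/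
def sh (i : D.Idx) : Bool := G.shC (code D i)

/-- The partner of an index. -/
def pm (i : D.Idx) : D.Idx := decodeIdx D (G.pmC (code D i)) i

variable {D G} (hG : GOK D G)

include hG in
theorem code_pm (i : D.Idx) : code D (pm D G i) = G.pmC (code D i) :=
  code_decodeIdx D _ (hG.pm _ (code_lt D i)).1 i

include hG in
theorem pm_pm (i : D.Idx) : pm D G (pm D G i) = i := by
  apply code_injective D
  rw [code_pm hG, code_pm hG, (hG.pm _ (code_lt D i)).2.1]

include hG in
theorem sh_pm (i : D.Idx) : sh D G (pm D G i) = !sh D G i := by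
  unfold sh
  rw [code_pm hG, (hG.pm _ (code_lt D i)).2.2.1]

/-- The pairing as a permutation of the indices. -/
def pmEquiv : D.Idx ≃ D.Idx where
  toFun := pm D G
  invFun := pm D G
  left_inv := pm_pm hG
  right_inv := pm_pm hG

section matrices

variable {K : Type*} [Field K] (f1 f2 : K →+* K)

/-- The matrices leaving the subspace invariant. -/
def Tri (D : ChevalleyDatum) (G : GData) (M : Matrix D.Idx D.Idx K) : Prop :=
  ∀ i j, sh D G i = false → sh D G j = true → M i j = 0

/-- The two diagonal blocks of a matrix. -/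
def dl (D : ChevalleyDatum) (G : GData) (M : Matrix D.Idx D.Idx K) : Matrix D.Idx D.Idx K :=
  Matrix.of fun i j => if sh D G i = sh D G j then M i j else 0

/-- The two diagonal blocks exchanged and twisted. -/
def ta (D : ChevalleyDatum) (G : GData) (M : Matrix D.Idx D.Idx K) : Matrix D.Idx D.Idx K :=
  Matrix.of fun i j => if sh D G i = sh D G j then
    (if sh D G i = true then f1 (M (pm D G i) (pm D G j)) else f2 (M (pm D G i) (pm D G j))) else 0

theorem tri_one : Tri D G (1 : Matrix D.Idx D.Idx K) := by
  intro i j hi hj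
  rw [Matrix.one_apply_ne]
  rintro rfl
  rw [hi] at hj
  exact Bool.noConfusion hj

theorem tri_mul {M M' : Matrix D.Idx D.Idx K} (h : Tri D G M) (h' : Tri D G M') : Tri D G (M * M') := by
  intro i j hi hj
  rw [Matrix.mul_apply]
  apply Finset.sum_eq_zero
  intro k _
  cases hk : sh D G k
  · rw [h' k j hk hj, mul_zero]
  · rw [h i k hi hk, zero_mul]

theorem dl_one : dl D G (1 : Matrix D.Idx D.Idx K) = 1 := by
  ext i j
  unfold dl
  rw [Matrix.of_apply]
  by_cases h : i = j
  · subst h
    simp
  · rw [Matrix.one_apply_ne h]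
    simp

theorem dl_mul {M M' : Matrix D.Idx D.Idx K} (h : Tri D G M) (h' : Tri D G M') :
    dl D G (M * M') = dl D G M * dl D G M' := by
  ext i j
  unfold dl
  rw [Matrix.of_apply, Matrix.mul_apply, Matrix.mul_apply]
  simp only [Matrix.of_apply]
  by_cases hij : sh D G i = sh D G j
  · rw [if_pos hij]
    apply Finset.sum_congr rfl
    intro k _
    by_cases hk : sh D G i = sh D G k
    · rw [if_pos hk, if_pos (hk.symm.trans hij)]
    · rw [if_neg hk, zero_mul]
      cases hi : sh D G i
      · have hk' : sh D G k = true := by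
          rw [hi] at hk
          cases hkk : sh D G k
          · exact absurd hkk.symm hk
          · rfl
        rw [h i k hi hk', zero_mul]
      · have hk' : sh D G k = false := by
          rw [hi] at hk
          cases hkk : sh D G k
          · rfl
          · exact absurd hkk.symm hk
        rw [h' k j hk' (hij ▸ hi), mul_zero]
  · rw [if_neg hij]
    symm
    apply Finset.sum_eq_zero
    intro k _
    by_cases hk : sh D G i = sh D G k
    · rw [if_neg (fun e => hij (hk.trans e)), mul_zero]
    · rw [if_neg hk, zero_mul]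

include hG in
theorem ta_one : ta f1 f2 D G (1 : Matrix D.Idx D.Idx K) = 1 := by
  ext i j
  unfold ta
  rw [Matrix.of_apply]
  by_cases h : i = j
  · subst h
    simp
  · rw [Matrix.one_apply_ne h]
    have h' : pm D G i ≠ pm D G j := fun e => h ((pmEquiv hG).injective e)
    rw [Matrix.one_apply_ne h']
    simp

include hG in
theorem ta_mul {M M' : Matrix D.Idx D.Idx K} (h : Tri D G M) (h' : Tri D G M') :
    ta f1 f2 D G (M * M') = ta f1 f2 D G M * ta f1 f2 D G M' := by
  ext i j
  unfold ta
  rw [Matrix.of_apply]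
  conv_rhs => rw [Matrix.mul_apply]
  simp only [Matrix.of_apply]
  by_cases hij : sh D G i = sh D G j
  · rw [if_pos hij]
    have key : ∀ f : K →+* K, f ((M * M') (pm D G i) (pm D G j)) =
        ∑ k, (if sh D G i = sh D G k then f (M (pm D G i) (pm D G k)) * f (M' (pm D G k) (pm D G j)) else 0) := by
      intro f
      rw [Matrix.mul_apply, map_sum, ← Equiv.sum_comp (pmEquiv hG)]
      apply Finset.sum_congr rfl
      intro k _
      show f (M (pm D G i) (pm D G k) * M' (pm D G k) (pm D G j)) = _
      by_cases hk : sh D G i = sh D G k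
      · rw [if_pos hk, map_mul]
      · rw [if_neg hk]
        cases hi : sh D G i
        · -- `i` in the second block: its partner in the first, the partner of `k` in the second
          have hk' : sh D G k = true := by
            rw [hi] at hk
            cases hkk : sh D G k
            · exact absurd hkk.symm hk
            · rfl
          have h1 : sh D G (pm D G k) = false := by rw [sh_pm hG, hk']; rfl
          have h2 : sh D G (pm D G j) = true := by rw [sh_pm hG, ← hij, hi]; rfl
          rw [h' _ _ h1 h2, mul_zero, map_zero]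
        · have hk' : sh D G k = false := by
            rw [hi] at hk
            cases hkk : sh D G k
            · rfl
            · exact absurd hkk.symm hk
          have h1 : sh D G (pm D G k) = true := by rw [sh_pm hG, hk']; rfl
          have h2 : sh D G (pm D G i) = false := by rw [sh_pm hG, hi]; rfl
          rw [h _ _ h2 h1, zero_mul, map_zero]
    rcases Bool.eq_false_or_eq_true (sh D G i) with hi | hi
    · rw [if_pos hi, key f1]
      apply Finset.sum_congr rfl
      intro k _
      by_cases hk : sh D G i = sh D G k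
      · have hk3 : sh D G k = true := hk ▸ hi
        rw [if_pos hk, if_pos hk, if_pos hi, if_pos (hk.symm.trans hij), if_pos hk3]
      · rw [if_neg hk, if_neg hk, zero_mul]
    · have hi' : ¬ (sh D G i = true) := by rw [hi]; exact Bool.false_ne_true
      rw [if_neg hi', key f2]
      apply Finset.sum_congr rfl
      intro k _
      by_cases hk : sh D G i = sh D G k
      · have hk3 : ¬ (sh D G k = true) := hk ▸ hi'
        rw [if_pos hk, if_pos hk, if_neg hi', if_pos (hk.symm.trans hij), if_neg hk3]
      · rw [if_neg hk, if_neg hk, zero_mul]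
  · rw [if_neg hij]
    symm
    apply Finset.sum_eq_zero
    intro k _
    by_cases hk : sh D G i = sh D G k
    · rw [if_neg (fun e => hij (hk.trans e)), mul_zero]
    · rw [if_neg hk, zero_mul]

end matrices

section roots

variable {K : Type*} [Field K] (f1 f2 : K →+* K) [CharP K G.p] (hf : ∀ x : K, f2 x = (f1 x) ^ G.p)

include hG in
/-- The root elements leave the subspace invariant. -/
theorem tri_x (r : Fin D.nroots) (t : K) : Tri D G (D.xMat K r t) := by
  intro i j hi hj
  rw [xMat_entry, evalP_eq_of_polyEq K G.p G.B _ [] (hG.tri r r.2 _ (code_lt D i) _ (code_lt D j) hi hj)]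
  rfl

include hG hf in
/-- The image of a root element. -/
theorem ta_x (r : Fin D.nroots) (t : K) :
    ta f1 f2 D G (D.xMat K r t) = dl D G (D.xMat K ⟨G.rho r, (hG.rho r r.2).1⟩ ((f1 t) ^ G.lam r)) := by
  ext i j
  unfold ta dl
  rw [Matrix.of_apply, Matrix.of_apply]
  by_cases hij : sh D G i = sh D G j
  · rw [if_pos hij, if_pos hij, xMat_entry, xMat_entry, code_pm hG, code_pm hG]
    have hkey := hG.key r r.2 _ (code_lt D i) _ (code_lt D j) hij
    have e := evalP_eq_of_polyEq K G.p G.B _ _ hkey (f1 t)
    rw [evalP_scaleExp, evalP_scaleExp] at e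
    show _ = evalP K (entryPoly D (G.rho r) (code D i) (code D j)) (f1 t ^ G.lam r)
    rw [← e]
    by_cases hi : sh D G i = true
    · have hi' : G.shC (code D i) = true := hi
      rw [if_pos hi, if_pos hi', map_evalP, pow_one]
    · have hi' : ¬ (G.shC (code D i) = true) := hi
      rw [if_neg hi, if_neg hi', map_evalP, hf]
  · rw [if_neg hij, if_neg hij]

end roots

section group

variable {K : Type*} [Field K] (f1 f2 : K →+* K) [CharP K G.p] (hf : ∀ x : K, f2 x = (f1 x) ^ G.p)
  (hinv : ∀ (r : Fin D.nroots) (t : K), D.xMat K r t * D.xMat K r (-t) = 1)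

/-- The root elements in the general linear group. -/
def xU (r : Fin D.nroots) (t : K) : GL D.Idx K where
  val := D.xMat K r t
  inv := D.xMat K r (-t)
  val_inv := hinv r t
  inv_val := by
    have := hinv r (-t)
    rwa [neg_neg] at this

theorem xU_mem (r : Fin D.nroots) (t : K) : xU hinv r t ∈ D.group K :=
  Subgroup.subset_closure ⟨r, t, rfl⟩

include hinv in
/-- Induction over the group with the root elements as generators, without inverses. -/
theorem group_ind (P : GL D.Idx K → Prop) (h1 : P 1)
    (hx : ∀ (r : Fin D.nroots) (t : K), P (xU hinv r t))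
    (hmul : ∀ a b, P a → P b → P (a * b)) : ∀ g ∈ D.group K, P g := by
  intro g hg
  have key : P g ∧ P g⁻¹ := by
    unfold ChevalleyDatum.group at hg
    induction hg using Subgroup.closure_induction with
    | mem g hg =>
      obtain ⟨r, t, hg⟩ := hg
      have e1 : g = xU hinv r t := Units.ext hg
      have e2 : g⁻¹ = xU hinv r (-t) := by
        rw [e1]
        apply Units.ext
        rfl
      rw [e2, e1]
      exact ⟨hx r t, hx r (-t)⟩
    | one =>
      rw [inv_one]
      exact ⟨h1, h1⟩
    | mul a b _ _ iha ihb =>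
      rw [mul_inv_rev]
      exact ⟨hmul _ _ iha.1 ihb.1, hmul _ _ ihb.2 iha.2⟩
    | inv a _ iha => 
      rw [inv_inv]
      exact ⟨iha.2, iha.1⟩
  exact key.1

include hG hinv in
theorem group_tri (g : GL D.Idx K) (hg : g ∈ D.group K) : Tri D G (g : Matrix D.Idx D.Idx K) := by
  refine group_ind hinv (fun g => Tri D G (g : Matrix D.Idx D.Idx K)) tri_one ?_ ?_ g hg
  · intro r t
    exact tri_x hG r t
  · intro a b ha hb
    rw [Units.val_mul]
    exact tri_mul ha hb

include hG hf hinv in
theorem group_ta (g : GL D.Idx K) (hg : g ∈ D.group K) :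
    ∃ g' ∈ D.group K, dl D G (g' : Matrix D.Idx D.Idx K) = ta f1 f2 D G (g : Matrix D.Idx D.Idx K) := by
  refine group_ind hinv (fun g => Tri D G (g : Matrix D.Idx D.Idx K) ∧ ∃ g' ∈ D.group K,
    dl D G (g' : Matrix D.Idx D.Idx K) = ta f1 f2 D G (g : Matrix D.Idx D.Idx K)) ?_ ?_ ?_ g hg |>.2
  · refine ⟨tri_one, 1, Subgroup.one_mem _, ?_⟩
    rw [Units.val_one, dl_one, ta_one hG]
  · intro r t
    refine ⟨tri_x hG r t, xU hinv ⟨G.rho r, (hG.rho r r.2).1⟩ ((f1 t) ^ G.lam r), xU_mem hinv _ _, ?_⟩
    exact (ta_x hG f1 f2 hf r t).symm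
  · rintro a b ⟨ha, a', ha', ea⟩ ⟨hb, b', hb', eb⟩
    refine ⟨?_, a' * b', Subgroup.mul_mem _ ha' hb', ?_⟩
    · rw [Units.val_mul]
      exact tri_mul ha hb
    · rw [Units.val_mul, Units.val_mul, dl_mul (group_tri hG hinv a' ha') (group_tri hG hinv b' hb'), ea, eb,
        ta_mul hG f1 f2 ha hb]

/-- The diagonal blocks, as a homomorphism on the group. -/
def dlHom : ↥(D.group K) →* Matrix D.Idx D.Idx K where
  toFun g := dl D G ((g : GL D.Idx K) : Matrix D.Idx D.Idx K)
  map_one' := dl_one
  map_mul' a b := by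
    show dl D G (((a * b : ↥(D.group K)) : GL D.Idx K) : Matrix D.Idx D.Idx K) = _
    rw [Subgroup.coe_mul, Units.val_mul]
    exact dl_mul (group_tri hG hinv _ a.2) (group_tri hG hinv _ b.2)

variable (hsimple : IsSimpleGroup ↥(D.group K))
  (hne : ∃ g ∈ D.group K, dl D G ((g : GL D.Idx K) : Matrix D.Idx D.Idx K) ≠ 1)

include hG hinv hsimple hne in
/-- The diagonal blocks determine the element of the group. -/
theorem dl_injective (a b : GL D.Idx K) (ha : a ∈ D.group K) (hb : b ∈ D.group K)
    (h : dl D G (a : Matrix D.Idx D.Idx K) = dl D G (b : Matrix D.Idx D.Idx K)) : a = b := by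
  have hker : (dlHom hG hinv).ker = ⊥ := by
    rcases (MonoidHom.normal_ker (dlHom hG hinv)).eq_bot_or_eq_top with h1 | h1
    · exact h1
    · exfalso
      obtain ⟨g, hg, hgne⟩ := hne
      apply hgne
      have : (⟨g, hg⟩ : ↥(D.group K)) ∈ (dlHom hG hinv).ker := by
        rw [h1]
        exact Subgroup.mem_top _
      exact (MonoidHom.mem_ker).mp this
  have h2 : (⟨a, ha⟩ : ↥(D.group K)) * (⟨b, hb⟩ : ↥(D.group K))⁻¹ ∈ (dlHom hG hinv).ker := by
    rw [MonoidHom.mem_ker, map_mul]
    have e1 : dlHom hG hinv ⟨a, ha⟩ = dlHom hG hinv ⟨b, hb⟩ := h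
    rw [e1, ← map_mul, mul_inv_cancel, map_one]
  rw [hker, Subgroup.mem_bot, mul_inv_eq_one] at h2
  exact congrArg (fun z : ↥(D.group K) => (z : GL D.Idx K)) h2

include hG hf hinv in
theorem exists_image (g : ↥(D.group K)) : ∃ g' : ↥(D.group K),
    dl D G ((g' : GL D.Idx K) : Matrix D.Idx D.Idx K) = ta f1 f2 D G ((g : GL D.Idx K) : Matrix D.Idx D.Idx K) := by
  obtain ⟨g', hg', e⟩ := group_ta hG f1 f2 hf hinv g g.2
  exact ⟨⟨g', hg'⟩, e⟩

/-- The endomorphism of the group. -/
noncomputable def sigma : ↥(D.group K) →* ↥(D.group K) where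
  toFun g := (exists_image hG f1 f2 hf hinv g).choose
  map_one' := by
    apply Subtype.ext
    apply dl_injective hG hinv hsimple hne _ _ (Subtype.prop _) (Subgroup.one_mem _)
    rw [(exists_image hG f1 f2 hf hinv 1).choose_spec]
    show ta f1 f2 D G ((1 : GL D.Idx K) : Matrix D.Idx D.Idx K) = dl D G ((1 : GL D.Idx K) : Matrix D.Idx D.Idx K)
    rw [Units.val_one, ta_one hG, dl_one]
  map_mul' a b := by
    apply Subtype.ext
    apply dl_injective hG hinv hsimple hne _ _ (Subtype.prop _) (Subtype.prop _)
    rw [(exists_image hG f1 f2 hf hinv (a * b)).choose_spec, Subgroup.coe_mul, Units.val_mul, Subgroup.coe_mul,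
      Units.val_mul, dl_mul (group_tri hG hinv _ (Subtype.prop _)) (group_tri hG hinv _ (Subtype.prop _)),
      (exists_image hG f1 f2 hf hinv a).choose_spec, (exists_image hG f1 f2 hf hinv b).choose_spec,
      ta_mul hG f1 f2 (group_tri hG hinv _ a.2) (group_tri hG hinv _ b.2)]

theorem sigma_spec (g : ↥(D.group K)) :
    dl D G (((sigma hG f1 f2 hf hinv hsimple hne g : ↥(D.group K)) : GL D.Idx K) : Matrix D.Idx D.Idx K) =
      ta f1 f2 D G ((g : GL D.Idx K) : Matrix D.Idx D.Idx K) :=
  (exists_image hG f1 f2 hf hinv g).choose_spec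

/-- The image of a root element under the endomorphism. -/
theorem sigma_x (g : ↥(D.group K)) (r : Fin D.nroots) (t : K)
    (hg : ((g : GL D.Idx K) : Matrix D.Idx D.Idx K) = D.xMat K r t) :
    (((sigma hG f1 f2 hf hinv hsimple hne g : ↥(D.group K)) : GL D.Idx K) : Matrix D.Idx D.Idx K) =
      D.xMat K ⟨G.rho r, (hG.rho r r.2).1⟩ ((f1 t) ^ G.lam r) := by
  have h1 := sigma_spec hG f1 f2 hf hinv hsimple hne g
  rw [hg, ta_x hG f1 f2 hf r t] at h1
  have h2 := dl_injective hG hinv hsimple hne _ (xU hinv ⟨G.rho r, (hG.rho r r.2).1⟩ ((f1 t) ^ G.lam r))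
    (Subtype.prop _) (xU_mem hinv _ _) h1
  rw [h2]
  rfl

include hG in
/-- The endomorphism is injective. -/
theorem sigma_injective (hx1 : ∃ r : Fin D.nroots, D.xMat K ⟨G.rho r, (hG.rho r r.2).1⟩ 1 ≠ 1) :
    Function.Injective (sigma hG f1 f2 hf hinv hsimple hne) := by
  rw [← MonoidHom.ker_eq_bot_iff]
  rcases (MonoidHom.normal_ker (sigma hG f1 f2 hf hinv hsimple hne)).eq_bot_or_eq_top with h1 | h1
  · exact h1
  · exfalso
    obtain ⟨r, hr⟩ := hx1
    apply hr
    have h2 : (⟨xU hinv r 1, xU_mem hinv r 1⟩ : ↥(D.group K)) ∈ (sigma hG f1 f2 hf hinv hsimple hne).ker := by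
      rw [h1]
      exact Subgroup.mem_top _
    rw [MonoidHom.mem_ker] at h2
    have h3 := sigma_x hG f1 f2 hf hinv hsimple hne ⟨xU hinv r 1, xU_mem hinv r 1⟩ r 1 rfl
    rw [h2, map_one, one_pow] at h3
    exact h3.symm

include hG in
/-- The endomorphism is surjective when the parameters of the root elements are reached. -/
theorem sigma_surjective (hpar : ∀ r < D.nroots, ∀ v : K, ∃ t : K, (f1 t) ^ G.lam r = v) :
    Function.Surjective (sigma hG f1 f2 hf hinv hsimple hne) := by
  have key : ∀ g ∈ D.group K, ∃ g0 : ↥(D.group K),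
      ((sigma hG f1 f2 hf hinv hsimple hne g0 : ↥(D.group K)) : GL D.Idx K) = g := by
    intro g hg
    unfold ChevalleyDatum.group at hg
    induction hg using Subgroup.closure_induction with
    | mem g hg =>
      obtain ⟨s, v, hg⟩ := hg
      obtain ⟨hs1, hs2⟩ := hG.rho s s.2
      obtain ⟨t, ht⟩ := hpar (G.rho s) hs1 v
      refine ⟨⟨xU hinv ⟨G.rho s, hs1⟩ t, xU_mem hinv _ t⟩, ?_⟩
      apply Units.ext
      rw [sigma_x hG f1 f2 hf hinv hsimple hne _ ⟨G.rho s, hs1⟩ t rfl, hg]
      simp only [ht, hs2]
    | one => exact ⟨1, by rw [map_one]; rfl⟩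
    | mul a b _ _ iha ihb =>
      obtain ⟨a0, ha0⟩ := iha
      obtain ⟨b0, hb0⟩ := ihb
      exact ⟨a0 * b0, by rw [map_mul, Subgroup.coe_mul, ha0, hb0]⟩
    | inv a _ iha =>
      obtain ⟨a0, ha0⟩ := iha
      exact ⟨a0⁻¹, by rw [map_inv, Subgroup.coe_inv, ha0]⟩
  intro g
  obtain ⟨g0, hg0⟩ := key g g.2
  exact ⟨g0, Subtype.ext hg0⟩

end group

end Cfsg.Agent.Lib.Helper36_GraphAut
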