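import Cfsg.Agent.Lib.Helper36_GraphAut
import Cfsg.Prelude.Def_ChevG2

set_option autoImplicit false
set_option Elab.async false

/-! Type G2: the tables of the exceptional graph automorphism in characteristic 3 and their checks. Generated file. -/

namespace Cfsg.Agent.Lib.Helper36_GraphAutG2

open Cfsg Cfsg.Lie Cfsg.Agent.Lib.Helper36_GraphPoly Cfsg.Agent.Lib.Helper36_GraphAut

/-- The tables. -/
def gdata : GData where
  p := 3
  B := 10
  shC := fun c => ([true, false, false, false, true, true, true, false, false, true, true, true, false, false] : List Bool).getD c false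
  pmC := fun c => ([1, 0, 4, 5, 2, 3, 7, 6, 9, 8, 12, 13, 10, 11] : List ℕ).getD c 0
  rho := fun r => ([2, 3, 0, 1, 5, 4, 7, 6, 10, 11, 8, 9] : List ℕ).getD r 0
  lam := fun r => ([1, 1, 3, 3, 3, 1, 1, 3, 3, 3, 1, 1] : List ℕ).getD r 0

theorem pmOK : ∀ c < chevG2.rank + chevG2.nroots, gdata.pmC c < chevG2.rank + chevG2.nroots ∧
    gdata.pmC (gdata.pmC c) = c ∧ gdata.shC (gdata.pmC c) = !gdata.shC c ∧
    (c < chevG2.rank ↔ gdata.pmC c < chevG2.rank) := by decide +kernel

theorem rhoOK : ∀ r < chevG2.nroots, gdata.rho r < chevG2.nroots ∧ gdata.rho (gdata.rho r) = r := by decide +kernel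

theorem triOK : ∀ r < chevG2.nroots, ∀ ci < chevG2.rank + chevG2.nroots, ∀ cj < chevG2.rank + chevG2.nroots,
    gdata.shC ci = false → gdata.shC cj = true →
    polyEq gdata.p gdata.B (entryPoly chevG2 r ci cj) [] = true := by decide +kernel

theorem keyOK : ∀ r < chevG2.nroots, ∀ ci < chevG2.rank + chevG2.nroots, ∀ cj < chevG2.rank + chevG2.nroots,
    gdata.shC ci = gdata.shC cj →
    polyEq gdata.p gdata.B (scaleExp (if gdata.shC ci = true then 1 else gdata.p)
      (entryPoly chevG2 r (gdata.pmC ci) (gdata.pmC cj)))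
      (scaleExp (gdata.lam r) (entryPoly chevG2 (gdata.rho r) ci cj)) = true := by decide +kernel

theorem gok : GOK chevG2 gdata := ⟨pmOK, rhoOK, triOK, keyOK⟩

end Cfsg.Agent.Lib.Helper36_GraphAutG2
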