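import Cfsg.Agent.Lib.Helper36_GraphAutG2
import Cfsg.Agent.Lib.Helper36_ChevSimpleAll
import Cfsg.Agent.Lib.Helper36_ChevDataG2

set_option autoImplicit false

/-!
The exceptional endomorphisms of the Chevalley group of type `G₂` in characteristic 3:
`x_r(t) ↦ x_{ρ r}(f(t) ^ λ(r))` for a ring endomorphism `f` of the field, `λ(r) = 3` for the short roots and `1` for the
long roots.
-/

namespace Cfsg.Agent.Lib.Helper36_GraphAutG2Main

open Cfsg Cfsg.Lie Cfsg.Agent.Lib.Helper36_GraphPoly Cfsg.Agent.Lib.Helper36_GraphAut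
  Cfsg.Agent.Lib.Helper36_GraphAutG2 Cfsg.Agent.Lib.Helper36_ChevAdd Cfsg.Agent.Lib.Helper36_ChevCoeff

section

variable {K : Type*} [Field K] [CharP K 3]

instance charInst : CharP K gdata.p := inferInstanceAs (CharP K 3)

theorem hinv (r : Fin chevG2.nroots) (t : K) : chevG2.xMat K r t * chevG2.xMat K r (-t) = 1 := by
  rw [xMat_add chevG2 Cfsg.Agent.Lib.Helper36_ChevDataG2.lenOK Cfsg.Agent.Lib.Helper36_ChevDataG2.addOK,
    add_neg_cancel, xMat_zero chevG2 Cfsg.Agent.Lib.Helper36_ChevDataG2.lenOK]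

theorem two_ne_zero' : (2 : K) ≠ 0 := by
  intro h
  have h1 : ((2 : ℕ) : K) = 0 := by exact_mod_cast h
  rw [CharP.cast_eq_zero_iff K 3] at h1
  omega

theorem hsimple : IsSimpleGroup ↥(chevG2.group K) := by
  refine (Cfsg.Agent.Lib.Helper36_ChevSimpleAll.simple_of_mem (F := K) chevG2 (by simp) (fun _ => ⟨-1, ?_, ?_⟩)).1
  · exact neg_ne_zero.mpr one_ne_zero
  · intro h
    apply two_ne_zero' (K := K)
    have : (2 : K) = 1 - (-1) := by ring
    rw [this, h, sub_self]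

theorem polyOK : entryPoly chevG2 7 (2 + 7) (2 + 4) = [(2, -1)] ∧ gdata.shC (2 + 7) = true ∧ gdata.shC (2 + 4) = true ∧
    entryPoly chevG2 6 (2 + 6) (2 + 5) = [(2, -1)] := by decide +kernel

theorem hne : ∃ g ∈ chevG2.group K, dl chevG2 gdata ((g : GL chevG2.Idx K) : Matrix chevG2.Idx chevG2.Idx K) ≠ 1 := by
  refine ⟨xU hinv ⟨7, by decide⟩ 1, xU_mem hinv _ _, ?_⟩
  intro h
  have h1 := congrFun (congrFun h (Sum.inr ⟨7, by decide⟩)) (Sum.inr ⟨4, by decide⟩)
  unfold dl at h1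
  rw [Matrix.of_apply, Matrix.one_apply_ne (by decide)] at h1
  have h2 : sh chevG2 gdata (Sum.inr ⟨7, by decide⟩) = sh chevG2 gdata (Sum.inr ⟨4, by decide⟩) := by
    show gdata.shC (2 + 7) = gdata.shC (2 + 4)
    rw [polyOK.2.1, polyOK.2.2.1]
  rw [if_pos h2] at h1
  have h3 : ((xU (K := K) hinv ⟨7, by decide⟩ 1 : GL chevG2.Idx K) : Matrix chevG2.Idx chevG2.Idx K) =
      chevG2.xMat K ⟨7, by decide⟩ 1 := rfl
  rw [h3, xMat_entry] at h1
  have h4 : entryPoly chevG2 (⟨7, by decide⟩ : Fin chevG2.nroots).val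
      (code chevG2 (Sum.inr ⟨7, by decide⟩)) (code chevG2 (Sum.inr ⟨4, by decide⟩)) = [(2, -1)] := polyOK.1
  rw [h4] at h1
  simp [evalP] at h1

variable (f1 : K →+* K)

/-- The second ring homomorphism: the first followed by the cube. -/
noncomputable def f2 : K →+* K := (frobenius K 3).comp f1

theorem hf (x : K) : f2 f1 x = (f1 x) ^ gdata.p := by
  show frobenius K 3 (f1 x) = _
  rw [frobenius_def]
  rfl

/-- The endomorphism `x_r(t) ↦ x_{ρ r}(f(t) ^ λ(r))` of the Chevalley group. -/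
noncomputable def sig : ↥(chevG2.group K) →* ↥(chevG2.group K) :=
  sigma gok f1 (f2 f1) (hf f1) hinv hsimple hne

theorem x_eq (r : ℕ) (hr : r < chevG2.nroots) (t : K) : chevG2.x K r t = chevG2.xMat K ⟨r, hr⟩ t := by
  unfold ChevalleyDatum.x
  rw [dif_pos hr]

/-- The image of a root element. -/
theorem sig_x (g : ↥(chevG2.group K)) (r : ℕ) (hr : r < chevG2.nroots) (t : K)
    (hg : ((g : GL chevG2.Idx K) : Matrix chevG2.Idx chevG2.Idx K) = chevG2.x K r t) :
    (((sig f1 g : ↥(chevG2.group K)) : GL chevG2.Idx K) : Matrix chevG2.Idx chevG2.Idx K) =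
      chevG2.x K (gdata.rho r) ((f1 t) ^ gdata.lam r) := by
  rw [x_eq r hr] at hg
  rw [x_eq _ (gok.rho r hr).1]
  exact sigma_x gok f1 (f2 f1) (hf f1) hinv hsimple hne g ⟨r, hr⟩ t hg

theorem sig_injective : Function.Injective (sig f1) := by
  apply sigma_injective gok f1 (f2 f1) (hf f1) hinv hsimple hne
  refine ⟨⟨7, by decide⟩, ?_⟩
  intro h
  have h1 := congrFun (congrFun h (Sum.inr ⟨6, by decide⟩)) (Sum.inr ⟨5, by decide⟩)
  rw [Matrix.one_apply_ne (by decide), xMat_entry] at h1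
  have h4 : entryPoly chevG2 (⟨gdata.rho (⟨7, by decide⟩ : Fin chevG2.nroots).val,
      (gok.rho _ (⟨7, by decide⟩ : Fin chevG2.nroots).2).1⟩ : Fin chevG2.nroots).val
      (code chevG2 (Sum.inr ⟨6, by decide⟩)) (code chevG2 (Sum.inr ⟨5, by decide⟩)) = [(2, -1)] := polyOK.2.2.2
  rw [h4] at h1
  simp [evalP] at h1

theorem lamOK : ∀ r < chevG2.nroots, gdata.lam r = 1 ∨ gdata.lam r = 3 := by decide +kernel

theorem sig_surjective (hsurj : Function.Surjective f1) (hperf : ∀ x : K, ∃ y : K, y ^ 3 = x) :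
    Function.Surjective (sig f1) := by
  apply sigma_surjective gok f1 (f2 f1) (hf f1) hinv hsimple hne
  intro r hr v
  rcases lamOK r hr with h | h
  · obtain ⟨t, ht⟩ := hsurj v
    exact ⟨t, by rw [h, pow_one, ht]⟩
  · obtain ⟨y, hy⟩ := hperf v
    obtain ⟨t, ht⟩ := hsurj y
    exact ⟨t, by rw [h, ht, hy]⟩

end

end Cfsg.Agent.Lib.Helper36_GraphAutG2Main
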