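import Cfsg.Prelude.Def_ChevWords

set_option autoImplicit false

/-!
The entries of the matrices `x_r(t)` as polynomials in `t` with integer coefficients, given by lists of pairs (exponent,
coefficient), and a decidable comparison of such polynomials modulo a prime.
-/

namespace Cfsg.Agent.Lib.Helper36_GraphPoly

open Cfsg Cfsg.Lie

/-! ### Polynomials as lists -/

section

variable (F : Type*) [Field F]

/-- The value of a polynomial given as a list of pairs (exponent, coefficient). -/
def evalP (L : List (ℕ × ℤ)) (t : F) : F := (L.map fun km => ((km.2 : ℤ) : F) * t ^ km.1).sum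

/-- The coefficient at an exponent. -/
def coefAt (L : List (ℕ × ℤ)) (d : ℕ) : ℤ := (L.map fun km => if km.1 = d then km.2 else 0).sum

/-- Multiplication of the exponents by `m`. -/
def scaleExp (m : ℕ) (L : List (ℕ × ℤ)) : List (ℕ × ℤ) := L.map fun km => (km.1 * m, km.2)

theorem evalP_nil (t : F) : evalP F [] t = 0 := rfl

theorem evalP_cons (a : ℕ × ℤ) (L : List (ℕ × ℤ)) (t : F) :
    evalP F (a :: L) t = ((a.2 : ℤ) : F) * t ^ a.1 + evalP F L t := by
  unfold evalP
  rw [List.map_cons, List.sum_cons]

theorem evalP_append (L L' : List (ℕ × ℤ)) (t : F) : evalP F (L ++ L') t = evalP F L t + evalP F L' t := by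
  unfold evalP
  rw [List.map_append, List.sum_append]

theorem evalP_scaleExp (m : ℕ) (L : List (ℕ × ℤ)) (t : F) : evalP F (scaleExp m L) t = evalP F L (t ^ m) := by
  induction L with
  | nil => rfl
  | cons a L ih =>
    rw [scaleExp, List.map_cons, evalP_cons, evalP_cons, ← scaleExp, ih, pow_mul, ← pow_mul, ← pow_mul, mul_comm m]

/-- The value as a sum over the exponents. -/
theorem evalP_eq_sum (B : ℕ) (L : List (ℕ × ℤ)) (hB : ∀ km ∈ L, km.1 < B) (t : F) :
    evalP F L t = ∑ d ∈ Finset.range B, ((coefAt L d : ℤ) : F) * t ^ d := by
  induction L with
  | nil =>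
    rw [evalP_nil]
    symm
    apply Finset.sum_eq_zero
    intro d _
    simp [coefAt]
  | cons a L ih =>
    rw [evalP_cons, ih (fun km hkm => hB km (List.mem_cons_of_mem _ hkm))]
    have h1 : ∀ d, coefAt (a :: L) d = (if a.1 = d then a.2 else 0) + coefAt L d := by
      intro d
      unfold coefAt
      rw [List.map_cons, List.sum_cons]
    simp only [h1]
    have h2 : ∀ d, (((if a.1 = d then a.2 else 0) + coefAt L d : ℤ) : F) * t ^ d =
        (if a.1 = d then ((a.2 : ℤ) : F) * t ^ a.1 else 0) + ((coefAt L d : ℤ) : F) * t ^ d := by
      intro d
      split_ifs with h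
      · subst h
        push_cast
        ring
      · push_cast
        ring
    simp only [h2]
    rw [Finset.sum_add_distrib, Finset.sum_ite_eq, if_pos (Finset.mem_range.mpr (hB a List.mem_cons_self))]

/-- The image of the value under a ring homomorphism. -/
theorem map_evalP (f : F →+* F) (L : List (ℕ × ℤ)) (t : F) : f (evalP F L t) = evalP F L (f t) := by
  induction L with
  | nil => simp [evalP]
  | cons a L ih => rw [evalP_cons, evalP_cons, map_add, map_mul, map_pow, map_intCast, ih]

/-- Two polynomials with exponents below `B` are congruent modulo `p`. -/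
def polyEq (p B : ℕ) (L L' : List (ℕ × ℤ)) : Bool :=
  L.all (fun km => decide (km.1 < B)) && L'.all (fun km => decide (km.1 < B)) &&
    (List.range B).all fun d => decide ((coefAt L d - coefAt L' d) % (p : ℤ) = 0)

theorem evalP_eq_of_polyEq (p : ℕ) [CharP F p] (B : ℕ) (L L' : List (ℕ × ℤ)) (h : polyEq p B L L' = true) (t : F) :
    evalP F L t = evalP F L' t := by
  unfold polyEq at h
  rw [Bool.and_eq_true, Bool.and_eq_true, List.all_eq_true, List.all_eq_true, List.all_eq_true] at h
  obtain ⟨⟨h1, h2⟩, h3⟩ := h
  rw [evalP_eq_sum F B L (fun km hkm => of_decide_eq_true (h1 km hkm)),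
    evalP_eq_sum F B L' (fun km hkm => of_decide_eq_true (h2 km hkm))]
  apply Finset.sum_congr rfl
  intro d hd
  have h4 := of_decide_eq_true (h3 d (List.mem_range.mpr (Finset.mem_range.mp hd)))
  have h5 : ((coefAt L d - coefAt L' d : ℤ) : F) = 0 := by
    rw [CharP.intCast_eq_zero_iff F p]
    exact Int.dvd_of_emod_eq_zero h4
  have h6 : ((coefAt L d : ℤ) : F) = ((coefAt L' d : ℤ) : F) := by
    rw [Int.cast_sub] at h5
    exact sub_eq_zero.mp h5
  rw [h6]

end

/-! ### The entries of the root elements -/

section

variable (D : ChevalleyDatum)

/-- The code of an index. -/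
def code : D.Idx → ℕ
  | Sum.inl i => i.val
  | Sum.inr s => D.rank + s.val

/-- The entry of `x_r(t)` at the indices with the codes `ci`, `cj`, as a polynomial in `t`. -/
def entryPoly (r ci cj : ℕ) : List (ℕ × ℤ) :=
  if cj < D.rank then
    if ci < D.rank then (if ci = cj then [(0, 1)] else [])
    else if ci - D.rank = r then [(1, - ((D.cartanSR.getD cj #[]).getD r 0))] else []
  else
    if cj - D.rank = r then
      (if ci < D.rank then [] else if ci - D.rank = r then [(0, 1)] else [])
    else if cj - D.rank = D.negIdx.getD r 0 then
      (if ci < D.rank then [(1, (D.coroot.getD r #[]).getD ci 0)]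
       else if ci - D.rank = cj - D.rank then [(0, 1)] else if ci - D.rank = r then [(2, -1)] else [])
    else
      (if ci < D.rank then []
       else (if ci - D.rank = cj - D.rank then [(0, 1)] else []) ++ D.chainCoeff r (cj - D.rank) (ci - D.rank))

variable (F : Type*) [Field F]

theorem xMat_entry (r : Fin D.nroots) (t : F) (row col : D.Idx) :
    D.xMat F r t row col = evalP F (entryPoly D r.val (code D row) (code D col)) t := by
  unfold ChevalleyDatum.xMat
  rw [Matrix.of_apply]
  rcases col with i | s
  · rcases row with i' | u
    · show _ = evalP F (entryPoly D r.val i'.val i.val) t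
      unfold entryPoly
      rw [if_pos i.2, if_pos i'.2]
      by_cases h : i' = i
      · subst h
        simp [evalP]
      · have h' : i'.val ≠ i.val := fun e => h (Fin.ext e)
        simp only [if_neg h, if_neg h']
        rfl
    · show _ = evalP F (entryPoly D r.val (D.rank + u.val) i.val) t
      have hu : ¬ (D.rank + u.val < D.rank) := by omega
      unfold entryPoly
      rw [if_pos i.2, if_neg hu, Nat.add_sub_cancel_left]
      by_cases h : u = r
      · subst h
        simp [evalP]
      · have h' : u.val ≠ r.val := fun e => h (Fin.ext e)
        simp only [if_neg h, if_neg h']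
        rfl
  · have hs : ¬ (D.rank + s.val < D.rank) := by omega
    by_cases h1 : s = r
    · subst h1
      rcases row with i' | u
      · show _ = evalP F (entryPoly D s.val i'.val (D.rank + s.val)) t
        unfold entryPoly
        rw [if_neg hs, Nat.add_sub_cancel_left, if_pos rfl, if_pos i'.2]
        simp [evalP]
      · show _ = evalP F (entryPoly D s.val (D.rank + u.val) (D.rank + s.val)) t
        have hu : ¬ (D.rank + u.val < D.rank) := by omega
        unfold entryPoly
        rw [if_neg hs, Nat.add_sub_cancel_left, if_pos rfl, if_neg hu, Nat.add_sub_cancel_left]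
        by_cases h : u = s
        · subst h
          simp [evalP]
        · have h' : u.val ≠ s.val := fun e => h (Fin.ext e)
          simp only [if_neg h, if_neg h', if_true]
          rfl
    · have h1' : s.val ≠ r.val := fun e => h1 (Fin.ext e)
      by_cases h2 : s.val = D.negIdx.getD r.val 0
      · rcases row with i' | u
        · show _ = evalP F (entryPoly D r.val i'.val (D.rank + s.val)) t
          unfold entryPoly
          rw [if_neg hs, Nat.add_sub_cancel_left, if_neg h1', if_pos h2, if_pos i'.2]
          simp only [if_neg h1, if_pos h2]
          simp [evalP]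
        · show _ = evalP F (entryPoly D r.val (D.rank + u.val) (D.rank + s.val)) t
          have hu : ¬ (D.rank + u.val < D.rank) := by omega
          unfold entryPoly
          rw [if_neg hs, Nat.add_sub_cancel_left, if_neg h1', if_pos h2, if_neg hu, Nat.add_sub_cancel_left]
          simp only [if_neg h1, if_pos h2]
          by_cases h : u = s
          · subst h
            simp [evalP]
          · have h' : u.val ≠ s.val := fun e => h (Fin.ext e)
            simp only [if_neg h, if_neg h']
            by_cases h3 : u = r
            · subst h3
              simp [evalP]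
            · have h3' : u.val ≠ r.val := fun e => h3 (Fin.ext e)
              simp only [if_neg h3, if_neg h3']
              rfl
      · rcases row with i' | u
        · show _ = evalP F (entryPoly D r.val i'.val (D.rank + s.val)) t
          unfold entryPoly
          rw [if_neg hs, Nat.add_sub_cancel_left, if_neg h1', if_neg h2, if_pos i'.2]
          simp only [if_neg h1, if_neg h2]
          rfl
        · show _ = evalP F (entryPoly D r.val (D.rank + u.val) (D.rank + s.val)) t
          have hu : ¬ (D.rank + u.val < D.rank) := by omega
          unfold entryPoly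
          rw [if_neg hs, Nat.add_sub_cancel_left, if_neg h1', if_neg h2, if_neg hu, Nat.add_sub_cancel_left]
          simp only [if_neg h1, if_neg h2]
          rw [evalP_append]
          congr 1
          by_cases h : u = s
          · subst h
            simp [evalP]
          · have h' : u.val ≠ s.val := fun e => h (Fin.ext e)
            simp only [if_neg h, if_neg h']
            rfl

end

end Cfsg.Agent.Lib.Helper36_GraphPoly
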