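import Mathlib

set_option autoImplicit false

/-!
The algebra of the fixed elements of the unipotent subgroup of a group of type `G₂` in characteristic 3 under the
exceptional twisted endomorphism, in an abstract group with six families of root elements.
-/

namespace Cfsg.Agent.Lib.Helper36_ReeAlg

/-- Six families of root elements `A, Bb, X1, X2, X3, X4` (for the roots `a, b, a+b, 2a+b, 3a+b, 3a+2b`) with the
commutator relation between the first two, the last four commuting, and an endomorphism exchanging them in pairs. -/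
structure ReeSys (Γ K : Type*) [Group Γ] [Field K] where
  A : K → Γ
  Bb : K → Γ
  X1 : K → Γ
  X2 : K → Γ
  X3 : K → Γ
  X4 : K → Γ
  ε : K
  θ : K →+* K
  σ : Γ →* Γ
  hε : ε * ε = 1
  hθε : θ ε = ε
  hθ : ∀ x : K, (θ (θ x)) ^ 3 = x
  cube_add : ∀ x y : K, (x + y) ^ 3 = x ^ 3 + y ^ 3
  A_add : ∀ s t : K, A (s + t) = A s * A t
  B_add : ∀ s t : K, Bb (s + t) = Bb s * Bb t
  X1_add : ∀ s t : K, X1 (s + t) = X1 s * X1 t
  X2_add : ∀ s t : K, X2 (s + t) = X2 s * X2 t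
  X3_add : ∀ s t : K, X3 (s + t) = X3 s * X3 t
  X4_add : ∀ s t : K, X4 (s + t) = X4 s * X4 t
  c12 : ∀ s t : K, Commute (X1 s) (X2 t)
  c13 : ∀ s t : K, Commute (X1 s) (X3 t)
  c14 : ∀ s t : K, Commute (X1 s) (X4 t)
  c23 : ∀ s t : K, Commute (X2 s) (X3 t)
  c24 : ∀ s t : K, Commute (X2 s) (X4 t)
  c34 : ∀ s t : K, Commute (X3 s) (X4 t)
  rel : ∀ t u : K, Bb u * A t =
    A t * Bb u * (X1 (ε * t * u) * X2 (t ^ 2 * u) * X3 (-(ε * t ^ 3 * u)) * X4 (-(t ^ 3 * u ^ 2)))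
  σA : ∀ t : K, σ (A t) = Bb ((θ t) ^ 3)
  σB : ∀ t : K, σ (Bb t) = A (θ t)
  σX1 : ∀ t : K, σ (X1 t) = X3 ((θ t) ^ 3)
  σX3 : ∀ t : K, σ (X3 t) = X1 (θ t)
  σX2 : ∀ t : K, σ (X2 t) = X4 ((θ t) ^ 3)
  σX4 : ∀ t : K, σ (X4 t) = X2 (θ t)

namespace ReeSys

variable {Γ K : Type*} [Group Γ] [Field K] (S : ReeSys Γ K)

/-- The product of the last four root elements. -/
def M (c1 c2 c3 c4 : K) : Γ := S.X1 c1 * S.X2 c2 * S.X3 c3 * S.X4 c4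

/-- The normal form. -/
def N (t6 t7 c1 c2 c3 c4 : K) : Γ := S.Bb t6 * S.A t7 * S.M c1 c2 c3 c4

/-- The fixed elements. -/
def W (t u v : K) : Γ :=
  S.A (S.ε * S.θ t) * S.Bb (S.ε * t) *
    S.M (S.ε * (S.θ t * t + S.θ u)) (S.ε * ((S.θ t) ^ 2 * t + S.θ v)) (S.ε * u) (S.ε * v)

theorem M_mul (c1 c2 c3 c4 d1 d2 d3 d4 : K) :
    S.M c1 c2 c3 c4 * S.M d1 d2 d3 d4 = S.M (c1 + d1) (c2 + d2) (c3 + d3) (c4 + d4) := by
  unfold M
  rw [S.X1_add, S.X2_add, S.X3_add, S.X4_add]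
  have h12 := (S.c12 d1 c2).eq
  have h13 := (S.c13 d1 c3).eq
  have h14 := (S.c14 d1 c4).eq
  have h23 := (S.c23 d2 c3).eq
  have h24 := (S.c24 d2 c4).eq
  have h34 := (S.c34 d3 c4).eq
  calc S.X1 c1 * S.X2 c2 * S.X3 c3 * S.X4 c4 * (S.X1 d1 * S.X2 d2 * S.X3 d3 * S.X4 d4)
      = S.X1 c1 * S.X2 c2 * S.X3 c3 * (S.X4 c4 * S.X1 d1) * S.X2 d2 * S.X3 d3 * S.X4 d4 := by group
    _ = S.X1 c1 * S.X2 c2 * (S.X3 c3 * S.X1 d1) * S.X4 c4 * S.X2 d2 * S.X3 d3 * S.X4 d4 := by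
      rw [← h14]; group
    _ = S.X1 c1 * (S.X2 c2 * S.X1 d1) * S.X3 c3 * S.X4 c4 * S.X2 d2 * S.X3 d3 * S.X4 d4 := by
      rw [← h13]; group
    _ = S.X1 c1 * S.X1 d1 * S.X2 c2 * S.X3 c3 * (S.X4 c4 * S.X2 d2) * S.X3 d3 * S.X4 d4 := by
      rw [← h12]; group
    _ = S.X1 c1 * S.X1 d1 * S.X2 c2 * (S.X3 c3 * S.X2 d2) * S.X4 c4 * S.X3 d3 * S.X4 d4 := by
      rw [← h24]; group
    _ = S.X1 c1 * S.X1 d1 * S.X2 c2 * S.X2 d2 * S.X3 c3 * (S.X4 c4 * S.X3 d3) * S.X4 d4 := by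
      rw [← h23]; group
    _ = S.X1 c1 * S.X1 d1 * (S.X2 c2 * S.X2 d2) * (S.X3 c3 * S.X3 d3) * (S.X4 c4 * S.X4 d4) := by
      rw [← h34]; group

theorem X1_zero : S.X1 0 = 1 := by
  have := S.X1_add 0 0
  rw [add_zero] at this
  exact (mul_eq_left.mp this.symm)

theorem X2_zero : S.X2 0 = 1 := by
  have := S.X2_add 0 0
  rw [add_zero] at this
  exact (mul_eq_left.mp this.symm)

theorem X3_zero : S.X3 0 = 1 := by
  have := S.X3_add 0 0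
  rw [add_zero] at this
  exact (mul_eq_left.mp this.symm)

theorem X4_zero : S.X4 0 = 1 := by
  have := S.X4_add 0 0
  rw [add_zero] at this
  exact (mul_eq_left.mp this.symm)

theorem M_zero : S.M 0 0 0 0 = 1 := by
  unfold M
  rw [S.X1_zero, S.X2_zero, S.X3_zero, S.X4_zero]
  group

theorem M_inv (c1 c2 c3 c4 : K) : (S.M c1 c2 c3 c4)⁻¹ = S.M (-c1) (-c2) (-c3) (-c4) := by
  rw [inv_eq_iff_mul_eq_one, S.M_mul]
  simp only [add_neg_cancel]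
  exact S.M_zero

/-- Exchanging the first two root elements. -/
theorem swapAB (r s : K) : S.A r * S.Bb s =
    S.Bb s * S.A r * S.M (-(S.ε * r * s)) (-(r ^ 2 * s)) (S.ε * r ^ 3 * s) (r ^ 3 * s ^ 2) := by
  have h := S.rel r s
  have e : S.M (-(S.ε * r * s)) (-(r ^ 2 * s)) (S.ε * r ^ 3 * s) (r ^ 3 * s ^ 2) =
      (S.X1 (S.ε * r * s) * S.X2 (r ^ 2 * s) * S.X3 (-(S.ε * r ^ 3 * s)) * S.X4 (-(r ^ 3 * s ^ 2)))⁻¹ := by
    have := S.M_inv (S.ε * r * s) (r ^ 2 * s) (-(S.ε * r ^ 3 * s)) (-(r ^ 3 * s ^ 2))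
    rw [neg_neg, neg_neg] at this
    exact this.symm
  rw [e, h]
  group

theorem A_mul_B_mul_M (r s a1 a2 a3 a4 : K) : S.A r * S.Bb s * S.M a1 a2 a3 a4 =
    S.N s r (a1 - S.ε * r * s) (a2 - r ^ 2 * s) (a3 + S.ε * r ^ 3 * s) (a4 + r ^ 3 * s ^ 2) := by
  unfold N
  rw [S.swapAB, mul_assoc (S.Bb s * S.A r), S.M_mul]
  congr 2 <;> ring

/-- The image of the product of the last four root elements. -/
theorem sigma_M (c1 c2 c3 c4 : K) :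
    S.σ (S.M c1 c2 c3 c4) = S.M (S.θ c3) (S.θ c4) ((S.θ c1) ^ 3) ((S.θ c2) ^ 3) := by
  have h1 : S.M (S.θ c3) (S.θ c4) ((S.θ c1) ^ 3) ((S.θ c2) ^ 3) =
      S.M 0 0 ((S.θ c1) ^ 3) 0 * S.M 0 0 0 ((S.θ c2) ^ 3) * S.M (S.θ c3) 0 0 0 * S.M 0 (S.θ c4) 0 0 := by
    rw [S.M_mul, S.M_mul, S.M_mul]
    congr 1 <;> ring
  rw [h1]
  unfold M
  rw [map_mul, map_mul, map_mul, S.σX1, S.σX2, S.σX3, S.σX4, S.X1_zero, S.X2_zero, S.X3_zero, S.X4_zero]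
  group

/-- The image of the normal form. -/
theorem sigma_N (t6 t7 c1 c2 c3 c4 : K) : S.σ (S.N t6 t7 c1 c2 c3 c4) =
    S.N ((S.θ t7) ^ 3) (S.θ t6) (S.θ c3 - S.ε * S.θ t6 * (S.θ t7) ^ 3) (S.θ c4 - (S.θ t6) ^ 2 * (S.θ t7) ^ 3)
      ((S.θ c1) ^ 3 + S.ε * (S.θ t6) ^ 3 * (S.θ t7) ^ 3) ((S.θ c2) ^ 3 + (S.θ t6) ^ 3 * ((S.θ t7) ^ 3) ^ 2) := by
  unfold N
  rw [map_mul, map_mul, S.σB, S.σA, S.sigma_M]
  exact S.A_mul_B_mul_M _ _ _ _ _ _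

theorem eps_cases : S.ε = 1 ∨ S.ε = -1 := by
  have h := S.hε
  have : (S.ε - 1) * (S.ε + 1) = 0 := by linear_combination h
  rcases mul_eq_zero.mp this with h1 | h1
  · left
    exact sub_eq_zero.mp h1
  · right
    exact eq_neg_of_add_eq_zero_left h1

/-- The fixed elements in normal form. -/
theorem W_eq_N (t u v : K) : S.W t u v =
    S.N (S.ε * t) (S.ε * S.θ t) (S.ε * S.θ u) (S.ε * S.θ v) (S.ε * ((S.θ t) ^ 3 * t + u))
      (S.ε * ((S.θ t) ^ 3 * t ^ 2 + v)) := by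
  unfold W
  rw [S.A_mul_B_mul_M]
  congr 1 <;> rcases S.eps_cases with h | h <;> rw [h] <;> ring

/-- The elements `W t u v` are fixed. -/
theorem sigma_W (t u v : K) : S.σ (S.W t u v) = S.W t u v := by
  rw [S.W_eq_N, S.sigma_N]
  have ht := S.hθ t
  have hu := S.hθ u
  have hv := S.hθ v
  simp only [map_mul, map_add, map_pow, S.hθε, mul_pow, S.cube_add, ht, hu, hv]
  congr 1 <;> rcases S.eps_cases with h | h <;> rw [h] <;> ring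

/-- A fixed element in normal form is one of the elements `W t u v`. -/
theorem fixed_N (hinj : ∀ t6 t7 c1 c2 c3 c4 t6' t7' c1' c2' c3' c4' : K,
      S.N t6 t7 c1 c2 c3 c4 = S.N t6' t7' c1' c2' c3' c4' →
        t6 = t6' ∧ t7 = t7' ∧ c1 = c1' ∧ c2 = c2' ∧ c3 = c3' ∧ c4 = c4')
    (t6 t7 c1 c2 c3 c4 : K) (hfix : S.σ (S.N t6 t7 c1 c2 c3 c4) = S.N t6 t7 c1 c2 c3 c4) :
    S.N t6 t7 c1 c2 c3 c4 =
      S.W (S.ε * t6) (S.ε * c3 - (S.θ (S.ε * t6)) ^ 3 * (S.ε * t6))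
        (S.ε * c4 - (S.θ (S.ε * t6)) ^ 3 * (S.ε * t6) ^ 2) := by
  rw [S.sigma_N] at hfix
  obtain ⟨e6, e7, e1, e2, -, -⟩ := hinj _ _ _ _ _ _ _ _ _ _ _ _ hfix
  rw [S.W_eq_N]
  have hθ7 : S.θ t7 = S.θ (S.θ t6) := by rw [← e7]
  have hc6 := S.hθ t6
  rw [hθ7, hc6] at e1 e2
  simp only [map_mul, map_sub, map_pow, S.hθε, mul_pow, hc6]
  rw [← e7, ← e1, ← e2]
  congr 1 <;> rcases S.eps_cases with h | h <;> rw [h] <;> ring

end ReeSys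

end Cfsg.Agent.Lib.Helper36_ReeAlg
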