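import Cfsg.Agent.Lib.Helper36_ReeTw

set_option autoImplicit false

/-!
The normal form of the fixed elements of the exceptional endomorphism of the Chevalley group of type `G₂` over a field
with `3 ^ (2 m + 1)` elements: a fixed element lies in `B`, or it is a product `u₀ h₀ m₀ u` with `u₀, u` in the twisted
group, `h₀` a fixed element of `H` and `m₀` a fixed monomial element of the twisted group acting as `-1`.
-/

namespace Cfsg.Agent.Lib.Helper36_ReeBruhat

open Cfsg Cfsg.Lie Cfsg.Agent.Lib.Helper18_ChevFast Cfsg.Agent.Lib.Helper18_ChevEngine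
  Cfsg.Agent.Lib.Helper18_ChevN Cfsg.Agent.Lib.Helper18_ChevWeyl
  Cfsg.Agent.Lib.Helper18_ChevGL Cfsg.Agent.Lib.Helper18_ChevTri
  Cfsg.Agent.Lib.Helper18_ChevAdd Cfsg.Agent.Lib.Helper18_ChevUni Cfsg.Agent.Lib.Helper18_ChevComm
  Cfsg.Agent.Lib.Helper36_TwistU Cfsg.Agent.Lib.Helper36_TwistW
  Cfsg.Agent.Lib.Helper36_GraphAut Cfsg.Agent.Lib.Helper36_GraphAutG2 Cfsg.Agent.Lib.Helper36_GraphAutG2Main
  Cfsg.Agent.Lib.Helper36_ReeAlg Cfsg.Agent.Lib.Helper36_ReeSetup Cfsg.Agent.Lib.Helper36_ReeFix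
  Cfsg.Agent.Lib.Helper36_TwistGen Cfsg.Agent.Lib.Helper36_TwistWeyl
  Cfsg.Agent.Lib.Helper36_ChevTorus Cfsg.Agent.Lib.Helper36_ChevTorusAll
  Cfsg.Agent.Lib.Helper36_ChevW0 Cfsg.Agent.Lib.Helper36_ChevW0All Cfsg.Agent.Lib.Helper36_ChevTables
  Cfsg.Agent.Lib.Helper36_ChevOrder Cfsg.Agent.Lib.Helper36_ChevOrderAll Cfsg.Agent.Lib.Helper36_WeylChain
  Cfsg.Agent.Lib.Helper36_WeylLit Cfsg.Agent.Lib.Helper36_WeylLit.RootLit
  Cfsg.Agent.Lib.Helper36_ChevDataG2Lit Cfsg.Agent.Lib.Helper36_ChevDataG2LitOK Cfsg.Agent.Lib.Helper36_ReeTw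
  Cfsg.Agent.Lib.Helper36_ChevBorel

theorem ngOK : ∀ s < lit.n, lit.ng s < lit.n ∧ lit.ng s < lit.n ∧ lit.ng (lit.ng s) = s ∧ lit.ng (lit.ng s) = s := by
  decide +kernel

/-- The element `-1` of the Weyl group as a permutation of the root indices. -/
def w0Perm : Equiv.Perm (Fin lit.n) := mkPerm lit lit.ng lit.ng ngOK

theorem w0Perm_val (s : Fin lit.n) : (w0Perm s : ℕ) = lit.ng s := rfl

theorem w0Perm_ne_one : w0Perm ≠ 1 := by
  intro h
  have := congrArg (fun x : Equiv.Perm (Fin lit.n) => ((x ⟨0, by decide⟩ : Fin lit.n) : ℕ)) h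
  revert this
  decide +kernel

theorem w0Perm_mul_self : w0Perm * w0Perm = 1 := by
  ext s
  rw [Equiv.Perm.mul_apply, w0Perm_val, w0Perm_val]
  exact (ngOK s s.2).2.2.1

theorem fixed_weyl' (x : Equiv.Perm (Fin lit.n)) (hx : x ∈ WAll lit wf) (hfix : piPerm * x * piPerm⁻¹ = x) :
    x = 1 ∨ x = w0Perm := by
  rcases fixed_weyl x hx hfix with h | h
  · exact Or.inl h
  · right
    ext s
    rw [h s, w0Perm_val]

/-- All positive roots are made negative by `-1`. -/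
theorem sNeg_w0 (r : ℕ) : SNeg chevG2 lit w0Perm r ↔ chevG2.IsPosRoot r := by
  constructor
  · exact fun h => h.1
  · intro h
    have hr : r < lit.n := h.1
    refine ⟨h, hr, ?_⟩
    have h1 : lit.ps (w0Perm ⟨r, hr⟩) = (!lit.ps r) := (wf.2 r hr).2.2
    rw [h1, (litOK.hpos r h.1).mpr h]
    rfl

section

variable {K : Type*} [Field K] [Fintype K] [CharP K 3] {m : ℕ} (hK : Fintype.card K = 3 ^ (2 * m + 1))

/-- The facts on the ambient group. -/
theorem hfK (K : Type*) [Field K] : Facts chevG2 K := facts_of_mem chevG2 hD K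

theorem hx1 (K : Type*) [Field K] : XOne chevG2 K := fun r hr a h => (Cfsg.Agent.S1024.result chevG2 hD r hr a).mp h

omit [Fintype K] [CharP K 3] in
theorem Um_w0 {n : GL chevG2.Idx K} (h : ActsAs chevG2 K (hfK K) lit n w0Perm) : Um chevG2 K n = chevG2.posUnipotent K := by
  rw [Um_eq chevG2 K (hfK K) lit litOK (Cfsg.Agent.S1037.result chevG2 hD).1 (hx1 K) h, posUnipotent_eq]
  unfold rootClosure
  congr 1
  ext g
  constructor
  · rintro ⟨r, t, hr, hg⟩
    exact ⟨r, t, (sNeg_w0 r).mp hr, hg⟩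
  · rintro ⟨r, t, hr, hg⟩
    exact ⟨r, t, (sNeg_w0 r).mpr hr, hg⟩

include hK in
/-- The normal form of a fixed element. -/
theorem normal_form' (g : GL chevG2.Idx K) (hg : g ∈ chevG2.group K) (hσ : sgm (sig (theta K m)) g = g) :
    ∃ x ∈ WAll lit wf, piPerm * x * piPerm⁻¹ = x ∧ ∃ u0 ∈ chevG2.posUnipotent K ⊓ twistedG2 K (3 ^ m),
      ∃ n ∈ chevG2.monomialSubgroup K, sgm (sig (theta K m)) n = n ∧ ActsAs chevG2 K (hfK K) lit n x ∧
        ∃ u ∈ Um chevG2 K n ⊓ twistedG2 K (3 ^ m), g = u0 * n * u := by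
  have h1100 := Cfsg.Agent.S1100.result (F := K) chevG2 hD
  have h1036 := Cfsg.Agent.S1036.result (F := K) chevG2 hD
  exact exists_normal_form' (hfK K) (twGen hK) litOK (chainOK_of_mem chevG2 hD) (allConj_of_mem chevG2 hD K)
    (nGen_of_mem chevG2 hD) (xInj_of_mem chevG2 hD) (hx1 K) (Cfsg.Agent.S1037.result chevG2 hD).1
    (Cfsg.Agent.S1040.result chevG2 hD).2 h1100.1 h1100.2 h1036.1 h1036.2 g hg hσ

include hK in
/-- The normal form of a fixed element with respect to a given fixed monomial element. -/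
theorem normal_form (g : GL chevG2.Idx K) (hg : g ∈ chevG2.group K) (hσ : sgm (sig (theta K m)) g = g) :
    ∃ x ∈ WAll lit wf, piPerm * x * piPerm⁻¹ = x ∧ ∀ n ∈ chevG2.monomialSubgroup K, sgm (sig (theta K m)) n = n →
      ActsAs chevG2 K (hfK K) lit n x →
        ∃ u0 ∈ chevG2.posUnipotent K ⊓ twistedG2 K (3 ^ m), ∃ h0 ∈ chevG2.diagonalSubgroup K,
          sgm (sig (theta K m)) h0 = h0 ∧ ∃ u ∈ Um chevG2 K n ⊓ twistedG2 K (3 ^ m), g = u0 * h0 * n * u := by
  have h1100 := Cfsg.Agent.S1100.result (F := K) chevG2 hD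
  have h1036 := Cfsg.Agent.S1036.result (F := K) chevG2 hD
  exact exists_normal_form (hfK K) (twGen hK) litOK (chainOK_of_mem chevG2 hD) (allConj_of_mem chevG2 hD K)
    (nGen_of_mem chevG2 hD) (xInj_of_mem chevG2 hD) (hx1 K) (Cfsg.Agent.S1037.result chevG2 hD).1
    (normalizer_pos chevG2 hD noZero) (Cfsg.Agent.S1040.result chevG2 hD).2 h1100.1 h1100.2 h1036.1 h1036.2 g hg hσ

include hK in
theorem sgm_fix (g : GL chevG2.Idx K) (hg : g ∈ twistedG2 K (3 ^ m)) : sgm (sig (theta K m)) g = g :=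
  (twGen hK).G1fix g hg

/-- An element of the second kind of the generators. -/
noncomputable def g0 : GL chevG2.Idx K := (((negSys hK).W 0 0 1 : ↥(chevG2.group K)) : GL chevG2.Idx K)

theorem g0_mem : g0 hK ∈ twistedG2 K (3 ^ m) := W_neg_mem hK 0 0 1

theorem negRoots : ∀ r < 6, chevG2.IsNegRoot r := by decide +kernel

omit [Fintype K] [CharP K 3] in
theorem xGL_mem_neg (r : ℕ) (hr : r < 6) (t : K) : xGL dc r t ∈ chevG2.negUnipotent K :=
  Subgroup.subset_closure ⟨r, t, negRoots r hr, rfl⟩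

theorem g0_memV : g0 hK ∈ chevG2.negUnipotent K := by
  unfold g0 ReeSys.W ReeSys.M
  simp only [Subgroup.coe_mul]
  have h : ∀ r < 6, ∀ t : K, ((xG r t : ↥(chevG2.group K)) : GL chevG2.Idx K) ∈ chevG2.negUnipotent K :=
    fun r hr t => xGL_mem_neg r hr t
  exact Subgroup.mul_mem _ (Subgroup.mul_mem _ (h 4 (by decide) _) (h 5 (by decide) _))
    (Subgroup.mul_mem _ (Subgroup.mul_mem _ (Subgroup.mul_mem _ (h 3 (by decide) _) (h 2 (by decide) _))
      (h 1 (by decide) _)) (h 0 (by decide) _))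

theorem g0_ne_one : g0 hK ≠ 1 := by
  intro h
  unfold g0 ReeSys.W ReeSys.M at h
  have hθ0 : (negSys hK).θ 0 = 0 := map_zero _
  have hθ1 : (negSys hK).θ 1 = 1 := map_one _
  simp only [hθ0, hθ1, mul_zero, add_zero, zero_add, mul_one, ne_eq, OfNat.ofNat_ne_zero,
    not_false_eq_true, zero_pow] at h
  have hA : (negSys hK).A 0 = 1 := xG_zero 4
  have hB : (negSys hK).Bb 0 = 1 := xG_zero 5
  have h1 : (negSys hK).X1 0 = 1 := xG_zero 3
  have h3 : (negSys hK).X3 0 = 1 := xG_zero 1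
  rw [hA, hB, h1, h3] at h
  simp only [one_mul, mul_one] at h
  have he : (negSys hK).ε = -1 := by
    show (((-1 : ℤ) : K)) = -1
    simp
  rw [he] at h
  have h2 : xGL (F := K) dc 2 (-1) * xGL dc 0 (-1) = 1 := h
  have h4 : xGL (F := K) dc 2 (-1) = xGL dc 0 1 := by
    rw [mul_eq_one_iff_eq_inv, xGL_inv, neg_neg] at h2
    exact h2
  have h5 := congrArg (fun g : GL chevG2.Idx K => (g : Matrix chevG2.Idx chevG2.Idx K)) h4
  simp only [xGL_coe] at h5
  have := xInj_of_mem (F := K) chevG2 hD 2 0 (by decide) (by decide) (-1) 1 (by simp) h5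
  omega

include hK in
/-- A monomial element of the twisted group acting as `-1`. -/
theorem exists_m0 : ∃ m0 ∈ chevG2.monomialSubgroup K, m0 ∈ twistedG2 K (3 ^ m) ∧
    ActsAs chevG2 K (hfK K) lit m0 w0Perm := by
  obtain ⟨x, hxW, hfix, u0, hu0, n, hn, -, hact, u, hu, e⟩ := normal_form' hK (g0 hK)
    ((twGen hK).G1le (g0_mem hK)) (sgm_fix hK _ (g0_mem hK))
  rcases fixed_weyl' x hxW hfix with rfl | rfl
  · exfalso
    have hnH : n ∈ chevG2.diagonalSubgroup K :=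
      mem_diag_of_actsAs_one chevG2 K (hfK K) lit litOK (normalizer_pos chevG2 hD noZero)
        (Cfsg.Agent.S1040.result chevG2 hD).2 n hn hact
    have hB : g0 hK ∈ chevG2.borelSubgroup K := by
      rw [e]
      exact Subgroup.mul_mem _ (Subgroup.mul_mem _
        ((le_sup_left : chevG2.posUnipotent K ≤ chevG2.borelSubgroup K) hu0.1)
        ((le_sup_right : chevG2.diagonalSubgroup K ≤ chevG2.borelSubgroup K) hnH))
        ((le_sup_left : chevG2.posUnipotent K ≤ chevG2.borelSubgroup K) (Um_le_pos chevG2 K n hu.1))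
    have h2 : g0 hK ∈ chevG2.borelSubgroup K ⊓ chevG2.negUnipotent K := ⟨hB, g0_memV hK⟩
    rw [(Cfsg.Agent.S1037.result chevG2 hD).1, Subgroup.mem_bot] at h2
    exact g0_ne_one hK h2
  · refine ⟨n, hn, ?_, hact⟩
    have e2 : n = u0⁻¹ * g0 hK * u⁻¹ := by
      rw [e]
      group
    rw [e2]
    exact Subgroup.mul_mem _ (Subgroup.mul_mem _ (Subgroup.inv_mem _ hu0.2) (g0_mem hK)) (Subgroup.inv_mem _ hu.2)

/-- The chosen monomial element of the twisted group acting as `-1`. -/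
noncomputable def m0 : GL chevG2.Idx K := (exists_m0 hK).choose

theorem m0_mono : m0 hK ∈ chevG2.monomialSubgroup K := (exists_m0 hK).choose_spec.1

theorem m0_mem : m0 hK ∈ twistedG2 K (3 ^ m) := (exists_m0 hK).choose_spec.2.1

theorem m0_acts : ActsAs chevG2 K (hfK K) lit (m0 hK) w0Perm := (exists_m0 hK).choose_spec.2.2

omit [Fintype K] [CharP K 3] in
theorem Um_one : Um chevG2 K (1 : GL chevG2.Idx K) = ⊥ := by
  rw [Um_eq chevG2 K (hfK K) lit litOK (Cfsg.Agent.S1037.result chevG2 hD).1 (hx1 K)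
    (actsAs_one chevG2 K (hfK K) lit)]
  unfold rootClosure
  rw [Subgroup.closure_eq_bot_iff]
  rintro g ⟨r, t, hr, -⟩
  exfalso
  obtain ⟨hpos, hlt, hps⟩ := hr
  rw [Equiv.Perm.one_apply, (litOK.hpos r hpos.1).mpr hpos] at hps
  exact absurd hps (by decide)

include hK in
/-- A fixed element lies in `B`, with fixed components, or in the big cell, with fixed components. -/
theorem fixed_cases (g : GL chevG2.Idx K) (hg : g ∈ chevG2.group K) (hσ : sgm (sig (theta K m)) g = g) :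
    (∃ u0 ∈ chevG2.posUnipotent K ⊓ twistedG2 K (3 ^ m), ∃ h0 ∈ chevG2.diagonalSubgroup K,
      sgm (sig (theta K m)) h0 = h0 ∧ g = u0 * h0) ∨
    (∃ u0 ∈ chevG2.posUnipotent K ⊓ twistedG2 K (3 ^ m), ∃ h0 ∈ chevG2.diagonalSubgroup K,
      sgm (sig (theta K m)) h0 = h0 ∧ ∃ u ∈ chevG2.posUnipotent K ⊓ twistedG2 K (3 ^ m),
        g = u0 * h0 * m0 hK * u) := by
  obtain ⟨x, hxW, hfix, hnf⟩ := normal_form hK g hg hσ
  rcases fixed_weyl' x hxW hfix with rfl | rfl
  · left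
    obtain ⟨u0, hu0, h0, hh0, hh0fix, u, hu, e⟩ := hnf 1 (Subgroup.one_mem _) (sgm_one _)
      (actsAs_one chevG2 K (hfK K) lit)
    have hu1 : u = 1 := by
      have h1 : u ∈ Um chevG2 K (1 : GL chevG2.Idx K) := hu.1
      rw [Um_one] at h1
      exact Subgroup.mem_bot.mp h1
    refine ⟨u0, hu0, h0, hh0, hh0fix, ?_⟩
    rw [e, hu1, mul_one, mul_one]
  · right
    obtain ⟨u0, hu0, h0, hh0, hh0fix, u, hu, e⟩ := hnf (m0 hK) (m0_mono hK) (sgm_fix hK _ (m0_mem hK)) (m0_acts hK)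
    rw [Um_w0 (m0_acts hK)] at hu
    exact ⟨u0, hu0, h0, hh0, hh0fix, u, hu, e⟩

end

end Cfsg.Agent.Lib.Helper36_ReeBruhat
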