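import Cfsg.Agent.Lib.Helper36_ReePerf
import Cfsg.Agent.S1036

set_option autoImplicit false

/-!
The normal core of `B¹` in the twisted group of type `²G₂` is trivial.
-/

namespace Cfsg.Agent.Lib.Helper36_ReeCore

open Cfsg Cfsg.Lie Cfsg.Agent.Lib.Helper18_ChevFast Cfsg.Agent.Lib.Helper18_ChevEngine
  Cfsg.Agent.Lib.Helper18_ChevN Cfsg.Agent.Lib.Helper18_ChevWeyl
  Cfsg.Agent.Lib.Helper18_ChevGL Cfsg.Agent.Lib.Helper18_ChevTri
  Cfsg.Agent.Lib.Helper18_ChevAdd Cfsg.Agent.Lib.Helper18_ChevUni Cfsg.Agent.Lib.Helper18_ChevComm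
  Cfsg.Agent.Lib.Helper36_TwistU Cfsg.Agent.Lib.Helper36_TwistW
  Cfsg.Agent.Lib.Helper36_GraphAut Cfsg.Agent.Lib.Helper36_GraphAutG2 Cfsg.Agent.Lib.Helper36_GraphAutG2Main
  Cfsg.Agent.Lib.Helper36_ReeAlg Cfsg.Agent.Lib.Helper36_ReeSetup Cfsg.Agent.Lib.Helper36_ReeFix
  Cfsg.Agent.Lib.Helper36_TwistGen Cfsg.Agent.Lib.Helper36_TwistWeyl
  Cfsg.Agent.Lib.Helper36_ChevTorus Cfsg.Agent.Lib.Helper36_ChevTorusAll
  Cfsg.Agent.Lib.Helper36_ChevW0 Cfsg.Agent.Lib.Helper36_ChevW0All Cfsg.Agent.Lib.Helper36_ChevTables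
  Cfsg.Agent.Lib.Helper36_ChevOrder Cfsg.Agent.Lib.Helper36_ChevOrderAll Cfsg.Agent.Lib.Helper36_WeylChain
  Cfsg.Agent.Lib.Helper36_WeylLit Cfsg.Agent.Lib.Helper36_WeylLit.RootLit
  Cfsg.Agent.Lib.Helper36_ChevDataG2Lit Cfsg.Agent.Lib.Helper36_ChevDataG2LitOK Cfsg.Agent.Lib.Helper36_ReeTw
  Cfsg.Agent.Lib.Helper36_ChevBorel Cfsg.Agent.Lib.Helper36_ChevCore Cfsg.Agent.Lib.Helper36_ReeBruhat
  Cfsg.Agent.Lib.Helper36_ReeEntry Cfsg.Agent.Lib.Helper36_ReeH Cfsg.Agent.Lib.Helper36_ReeOrder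
  Cfsg.Agent.Lib.Helper36_ReeN Cfsg.Agent.Lib.Helper36_ReeBN Cfsg.Agent.Lib.Helper36_ReePerf

section

variable {K : Type*} [Field K] [Fintype K] [CharP K 3] {m : ℕ} (hK : Fintype.card K = 3 ^ (2 * m + 1))

include hK in
/-- A fixed torus element which centralises `U¹` is trivial. -/
theorem cent_U_trivial (μ : Kˣ)
    (hc : ∀ w ∈ chevG2.posUnipotent K ⊓ twistedG2 K (3 ^ m), hfix K m μ * w * (hfix K m μ)⁻¹ = w) : μ = 1 := by
  have hχ : chevG2.IsRootCharacter (chi chevG2 K (uu K m μ)) := isRootCharacter_chi chevG2 K (hfK K).hca _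
  have he : (posSys hK).ε = 1 := by
    show (((1 : ℤ) : K)) = 1
    simp
  have h1 := hc _ ((mem_U_inf hK _).mpr ⟨0, 0, 1, rfl⟩)
  rw [(posSys hK).W_eq_N] at h1
  have h1' : torusGL chevG2 K (chi chevG2 K (uu K m μ)) * _ * (torusGL chevG2 K (chi chevG2 K (uu K m μ)))⁻¹ = _ := h1
  rw [conj_N hK _ hχ] at h1'
  obtain ⟨-, -, -, h9, -, -⟩ := N_inj hK _ _ _ _ _ _ _ _ _ _ _ _ (Subtype.ext h1')
  have hθ1 : (posSys hK).θ 1 = 1 := map_one _
  rw [he, hθ1, one_mul, mul_one] at h9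
  have h0 : uu K m μ 0 = Units.map (theta K m : K →* K) μ := by
    unfold uu
    rw [if_pos rfl]
  rw [chi_two, h0, cartanOK2.2.2.2.2.1, cartanOK2.2.2.2.2.2.1, zpow_one, zpow_zero, mul_one] at h9
  apply Units.ext
  have h2 : theta K m (μ : K) = theta K m 1 := by
    rw [map_one]
    exact h9
  exact (theta K m).injective h2

include hK in
/-- The elements of the normal core of `B¹` lie in `H`. -/
theorem core_le_diag (c : ↥(twistedG2 K (3 ^ m)))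
    (hc : c ∈ ((chevG2.borelSubgroup K ⊓ twistedG2 K (3 ^ m)).subgroupOf (twistedG2 K (3 ^ m))).normalCore) :
    (c : GL chevG2.Idx K) ∈ chevG2.diagonalSubgroup K := by
  have hBle : chevG2.posUnipotent K ≤ chevG2.borelSubgroup K := le_sup_left
  have hHle : chevG2.diagonalSubgroup K ≤ chevG2.borelSubgroup K := le_sup_right
  have hBN := (Cfsg.Agent.S1040.result (F := K) chevG2 hD).2
  have hUV := (Cfsg.Agent.S1037.result (F := K) chevG2 hD).1
  have memB : ∀ g : ↥(twistedG2 K (3 ^ m)),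
      g ∈ (chevG2.borelSubgroup K ⊓ twistedG2 K (3 ^ m)).subgroupOf (twistedG2 K (3 ^ m)) ↔
        (g : GL chevG2.Idx K) ∈ chevG2.borelSubgroup K := by
    intro g
    rw [Subgroup.mem_subgroupOf, Subgroup.mem_inf]
    exact ⟨fun h => h.1, fun h => ⟨h, g.2⟩⟩
  have h1 : (c : GL chevG2.Idx K) ∈ chevG2.borelSubgroup K := by
    have := hc 1
    rw [one_mul, _root_.inv_one, mul_one] at this
    exact (memB _).mp this
  have h2 : m0 hK * (c : GL chevG2.Idx K) * (m0 hK)⁻¹ ∈ chevG2.borelSubgroup K :=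
    (memB _).mp (hc ⟨m0 hK, m0_mem hK⟩)
  rcases mem_cases hK _ c.2 with ⟨u0, hu0, h0, hh0, e⟩ | ⟨u0, hu0, h0, hh0, u, hu, e⟩
  · have h3 : m0 hK * h0 * (m0 hK)⁻¹ ∈ chevG2.diagonalSubgroup K :=
      (Subgroup.mem_normalizer_iff.mp (monomial_le_normalizer chevG2 K (hfK K) (m0_mono hK)) _).mp hh0.1
    have h4 : m0 hK * u0 * (m0 hK)⁻¹ ∈ chevG2.borelSubgroup K ⊓ chevG2.negUnipotent K := by
      refine ⟨?_, m0_conj_U hK u0 hu0.1⟩
      have e2 : m0 hK * u0 * (m0 hK)⁻¹ = m0 hK * (c : GL chevG2.Idx K) * (m0 hK)⁻¹ * (m0 hK * h0 * (m0 hK)⁻¹)⁻¹ := by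
        rw [e]
        group
      rw [e2]
      exact Subgroup.mul_mem _ h2 (Subgroup.inv_mem _ (hHle h3))
    rw [hUV, Subgroup.mem_bot] at h4
    have h5 : u0 = 1 := by
      have e3 : u0 = (m0 hK)⁻¹ * (m0 hK * u0 * (m0 hK)⁻¹) * m0 hK := by group
      rw [e3, h4]
      group
    rw [e, h5, one_mul]
    exact hh0.1
  · exfalso
    apply m0_not_diag hK
    rw [← hBN]
    refine ⟨?_, m0_mono hK⟩
    have e2 : m0 hK = h0⁻¹ * u0⁻¹ * (c : GL chevG2.Idx K) * u⁻¹ := by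
      rw [e]
      group
    rw [e2]
    exact Subgroup.mul_mem _ (Subgroup.mul_mem _ (Subgroup.mul_mem _ (Subgroup.inv_mem _ (hHle hh0.1))
      (Subgroup.inv_mem _ (hBle hu0.1))) h1) (Subgroup.inv_mem _ (hBle hu.1))

include hK in
/-- The normal core of `B¹` is trivial. -/
theorem core_trivial :
    ((chevG2.borelSubgroup K ⊓ twistedG2 K (3 ^ m)).subgroupOf (twistedG2 K (3 ^ m))).normalCore = ⊥ := by
  have hUH := (Cfsg.Agent.S1036.result (F := K) chevG2 hD).2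
  rw [eq_bot_iff]
  intro c hc
  rw [Subgroup.mem_bot]
  have hcH := core_le_diag hK c hc
  obtain ⟨μ, hμ⟩ := fixed_diag (m := m) _ hcH (sgm_fix hK _ c.2)
  have hcent : ∀ w ∈ chevG2.posUnipotent K ⊓ twistedG2 K (3 ^ m), hfix K m μ * w * (hfix K m μ)⁻¹ = w := by
    intro w hw
    rw [← hμ]
    -- the conjugate of `c` by `w` lies in the core, so in `H`
    have h1 : (⟨w, hw.2⟩ : ↥(twistedG2 K (3 ^ m))) * c * (⟨w, hw.2⟩ : ↥(twistedG2 K (3 ^ m)))⁻¹ ∈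
        ((chevG2.borelSubgroup K ⊓ twistedG2 K (3 ^ m)).subgroupOf (twistedG2 K (3 ^ m))).normalCore :=
      (Subgroup.normalCore_normal _).conj_mem c hc _
    have h2 : w * (c : GL chevG2.Idx K) * w⁻¹ ∈ chevG2.diagonalSubgroup K := core_le_diag hK _ h1
    have h3 : w * ((c : GL chevG2.Idx K) * w⁻¹ * (c : GL chevG2.Idx K)⁻¹) ∈
        chevG2.posUnipotent K ⊓ chevG2.diagonalSubgroup K := by
      constructor
      · refine Subgroup.mul_mem _ hw.1 ?_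
        exact diag_conj_U _ hcH _ (Subgroup.inv_mem _ hw.1)
      · have e : w * ((c : GL chevG2.Idx K) * w⁻¹ * (c : GL chevG2.Idx K)⁻¹) =
            w * (c : GL chevG2.Idx K) * w⁻¹ * (c : GL chevG2.Idx K)⁻¹ := by group
        rw [e]
        exact Subgroup.mul_mem _ h2 (Subgroup.inv_mem _ hcH)
    rw [hUH, Subgroup.mem_bot] at h3
    have h4 : (c : GL chevG2.Idx K) * w⁻¹ * (c : GL chevG2.Idx K)⁻¹ = w⁻¹ := by
      have := congrArg (fun x => w⁻¹ * x) h3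
      simpa [mul_assoc] using this
    have h5 := congrArg (fun x => x⁻¹) h4
    simp only [mul_inv_rev, inv_inv] at h5
    rw [← mul_assoc] at h5
    exact h5
  have h6 := cent_U_trivial hK μ hcent
  apply Subtype.ext
  rw [hμ, h6, map_one]
  rfl

end

end Cfsg.Agent.Lib.Helper36_ReeCore
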