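import Cfsg.Agent.Lib.Helper36_ReeAlg

set_option autoImplicit false

/-!
The product and the cube of elements in normal form in a system of root elements of type `G₂` in characteristic 3,
from the remaining commutator relations.
-/

namespace Cfsg.Agent.Lib.Helper36_ReeCubeAlg

open Cfsg.Agent.Lib.Helper36_ReeAlg

/-- The remaining commutator relations of the six families of root elements. -/
structure ReeRel {Γ K : Type*} [Group Γ] [Field K] (S : ReeSys Γ K) (κ lam : K) : Prop where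
  three : (3 : K) = 0
  a1 : ∀ t c : K, S.X1 c * S.A t = S.A t * S.X1 c * S.X2 (κ * t * c)
  a2 : ∀ t c : K, Commute (S.A t) (S.X2 c)
  a3 : ∀ t c : K, Commute (S.A t) (S.X3 c)
  a4 : ∀ t c : K, Commute (S.A t) (S.X4 c)
  b1 : ∀ u c : K, Commute (S.Bb u) (S.X1 c)
  b2 : ∀ u c : K, Commute (S.Bb u) (S.X2 c)
  b3 : ∀ u c : K, S.X3 c * S.Bb u = S.Bb u * S.X3 c * S.X4 (lam * u * c)
  b4 : ∀ u c : K, Commute (S.Bb u) (S.X4 c)

variable {Γ K : Type*} [Group Γ] [Field K] {S : ReeSys Γ K} {κ lam : K} (R : ReeRel S κ lam)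

include R in
theorem MA (c1 c2 c3 c4 r : K) (z : Γ) :
    S.M c1 c2 c3 c4 * (S.A r * z) = S.A r * (S.M c1 (c2 + κ * r * c1) c3 c4 * z) := by
  have h4 : ∀ y : Γ, S.X4 c4 * (S.A r * y) = S.A r * (S.X4 c4 * y) := by
    intro y
    rw [← mul_assoc, ← (R.a4 r c4).eq, mul_assoc]
  have h3 : ∀ y : Γ, S.X3 c3 * (S.A r * y) = S.A r * (S.X3 c3 * y) := by
    intro y
    rw [← mul_assoc, ← (R.a3 r c3).eq, mul_assoc]
  have h2 : ∀ y : Γ, S.X2 c2 * (S.A r * y) = S.A r * (S.X2 c2 * y) := by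
    intro y
    rw [← mul_assoc, ← (R.a2 r c2).eq, mul_assoc]
  have h1 : ∀ y : Γ, S.X1 c1 * (S.A r * y) = S.A r * (S.X1 c1 * (S.X2 (κ * r * c1) * y)) := by
    intro y
    rw [← mul_assoc, R.a1 r c1]
    simp only [mul_assoc]
  have e : S.X2 (c2 + κ * r * c1) = S.X2 (κ * r * c1) * S.X2 c2 := by
    rw [← S.X2_add, add_comm]
  unfold ReeSys.M
  rw [e]
  simp only [mul_assoc]
  rw [h4, h3, h2, h1]
  simp only [mul_assoc]

include R in
theorem MB (c1 c2 c3 c4 s : K) (z : Γ) :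
    S.M c1 c2 c3 c4 * (S.Bb s * z) = S.Bb s * (S.M c1 c2 c3 (c4 + lam * s * c3) * z) := by
  have h4 : ∀ y : Γ, S.X4 c4 * (S.Bb s * y) = S.Bb s * (S.X4 c4 * y) := by
    intro y
    rw [← mul_assoc, ← (R.b4 s c4).eq, mul_assoc]
  have h3 : ∀ y : Γ, S.X3 c3 * (S.Bb s * y) = S.Bb s * (S.X3 c3 * (S.X4 (lam * s * c3) * y)) := by
    intro y
    rw [← mul_assoc, R.b3 s c3]
    simp only [mul_assoc]
  have h2 : ∀ y : Γ, S.X2 c2 * (S.Bb s * y) = S.Bb s * (S.X2 c2 * y) := by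
    intro y
    rw [← mul_assoc, ← (R.b2 s c2).eq, mul_assoc]
  have h1 : ∀ y : Γ, S.X1 c1 * (S.Bb s * y) = S.Bb s * (S.X1 c1 * y) := by
    intro y
    rw [← mul_assoc, ← (R.b1 s c1).eq, mul_assoc]
  have e : S.X4 (c4 + lam * s * c3) = S.X4 (lam * s * c3) * S.X4 c4 := by
    rw [← S.X4_add, add_comm]
  unfold ReeSys.M
  rw [e]
  simp only [mul_assoc]
  rw [h4, h3, h2, h1]
  simp only [mul_assoc]

include R in
/-- The product of two elements in normal form. -/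
theorem N_mul (s r c1 c2 c3 c4 s' r' d1 d2 d3 d4 : K) :
    S.N s r c1 c2 c3 c4 * S.N s' r' d1 d2 d3 d4 =
      S.N (s + s') (r + r') (-(S.ε * r * s') + c1 + d1)
        (-(r ^ 2 * s') + κ * r' * (-(S.ε * r * s')) + c2 + κ * r' * c1 + d2)
        (S.ε * r ^ 3 * s' + c3 + d3) (r ^ 3 * s' ^ 2 + c4 + lam * s' * c3 + d4) := by
  have hsw : ∀ z : Γ, S.A r * (S.Bb s' * z) =
      S.Bb s' * (S.A r * (S.M (-(S.ε * r * s')) (-(r ^ 2 * s')) (S.ε * r ^ 3 * s') (r ^ 3 * s' ^ 2) * z)) := by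
    intro z
    rw [← mul_assoc, S.swapAB]
    simp only [mul_assoc]
  unfold ReeSys.N
  simp only [mul_assoc]
  rw [MB R, MA R, hsw, MA R, ← mul_assoc (S.Bb s), ← S.B_add, ← mul_assoc (S.A r), ← S.A_add, S.M_mul, S.M_mul]
  congr 3 <;> ring

include R in
/-- The cube of an element in normal form. -/
theorem N_cube (s r c1 c2 c3 c4 : K) :
    (S.N s r c1 c2 c3 c4) ^ 3 = S.N 0 0 0 ((1 - κ * S.ε) * r ^ 2 * s) 0 (lam * S.ε * r ^ 3 * s ^ 2) := by
  have h3 := R.three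
  rw [pow_succ, pow_succ, pow_one, N_mul R, N_mul R]
  congr 1
  · linear_combination s * h3
  · linear_combination r * h3
  · linear_combination (c1 - S.ε * r * s) * h3
  · linear_combination (c2 + κ * r * c1 - 2 * r ^ 2 * s - κ * S.ε * r ^ 2 * s) * h3
  · linear_combination (c3 + 3 * S.ε * r ^ 3 * s) * h3
  · linear_combination (c4 + lam * s * c3 + 3 * r ^ 3 * s ^ 2) * h3

theorem N_zero : S.N 0 0 0 0 0 0 = 1 := by
  unfold ReeSys.N
  have hA : S.A 0 = 1 := by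
    have := S.A_add 0 0
    rw [add_zero] at this
    exact (mul_eq_left.mp this.symm)
  have hB : S.Bb 0 = 1 := by
    have := S.B_add 0 0
    rw [add_zero] at this
    exact (mul_eq_left.mp this.symm)
  rw [hA, hB, S.M_zero]
  group

include R in
/-- The cube of a fixed element. -/
theorem W_cube (t u v : K) :
    (S.W t u v) ^ 3 = S.N 0 0 0 ((1 - κ * S.ε) * (S.ε * S.θ t) ^ 2 * (S.ε * t)) 0
      (lam * S.ε * (S.ε * S.θ t) ^ 3 * (S.ε * t) ^ 2) := by
  rw [S.W_eq_N, N_cube R]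

end Cfsg.Agent.Lib.Helper36_ReeCubeAlg
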