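import Cfsg.Agent.Lib.Helper36_ReeSetup

set_option autoImplicit false

namespace Cfsg.Agent.Lib.Helper36_ReeFix

open Cfsg Cfsg.Lie Cfsg.Agent.Lib.Helper18_ChevFast Cfsg.Agent.Lib.Helper18_ChevEngine
  Cfsg.Agent.Lib.Helper18_ChevN Cfsg.Agent.Lib.Helper18_ChevWeyl
  Cfsg.Agent.Lib.Helper18_ChevGL Cfsg.Agent.Lib.Helper18_ChevTri
  Cfsg.Agent.Lib.Helper18_ChevAdd Cfsg.Agent.Lib.Helper18_ChevUni Cfsg.Agent.Lib.Helper18_ChevComm
  Cfsg.Agent.Lib.Helper36_TwistU Cfsg.Agent.Lib.Helper36_TwistW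
  Cfsg.Agent.Lib.Helper36_GraphAut Cfsg.Agent.Lib.Helper36_GraphAutG2 Cfsg.Agent.Lib.Helper36_GraphAutG2Main
  Cfsg.Agent.Lib.Helper36_ReeAlg Cfsg.Agent.Lib.Helper36_ReeSetup

theorem charP3 {K : Type*} [Field K] [Fintype K] {m : ℕ} (hK : Fintype.card K = 3 ^ (2 * m + 1)) : CharP K 3 := by
  have : Fact (Nat.Prime 3) := ⟨Nat.prime_three⟩
  exact charP_of_card_eq_prime_pow hK

section

variable {K : Type*} [Field K] [Fintype K] [CharP K 3] {m : ℕ} (hK : Fintype.card K = 3 ^ (2 * m + 1))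

instance fact3 : Fact (Nat.Prime 3) := ⟨Nat.prime_three⟩

/-- The field endomorphism `x ↦ x ^ (3 ^ m)`. -/
noncomputable def theta (K : Type*) [Field K] [CharP K 3] (m : ℕ) : K →+* K := iterateFrobenius K 3 m

omit [Fintype K] in
theorem theta_apply (x : K) : theta K m x = x ^ 3 ^ m := iterateFrobenius_def 3 m x

include hK in
theorem theta_theta (x : K) : (theta K m (theta K m x)) ^ 3 = x := by
  rw [theta_apply, theta_apply, ← pow_mul, ← pow_mul]
  have e : 3 ^ m * (3 ^ m * 3) = 3 ^ (2 * m + 1) := by ring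
  rw [e, ← hK]
  exact FiniteField.pow_card x

/-- The system of the positive roots. -/
noncomputable def posSys : ReeSys ↥(chevG2.group K) K := mkSys posOK (theta K m) (theta_theta hK)

/-- The system of the negative roots. -/
noncomputable def negSys : ReeSys ↥(chevG2.group K) K := mkSys negOK (theta K m) (theta_theta hK)

theorem reeU_eq (t u v : K) : chevG2.wordMat K (reeWordU (3 ^ m) t u v) =
    ((((posSys hK).W t u v : ↥(chevG2.group K)) : GL chevG2.Idx K) : Matrix chevG2.Idx chevG2.Idx K) := by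
  unfold ReeSys.W ReeSys.M
  simp only [Subgroup.coe_mul, Units.val_mul]
  show _ = chevG2.x K 7 _ * chevG2.x K 6 _ * (chevG2.x K 8 _ * chevG2.x K 9 _ * chevG2.x K 10 _ * chevG2.x K 11 _)
  unfold reeWordU ChevalleyDatum.wordMat
  simp only [List.map_cons, List.map_nil, List.prod_cons, List.prod_nil, mul_one, mul_assoc]
  have he : (posSys hK).ε = 1 := by
    show (((1 : ℤ) : K)) = 1
    simp
  have hθ : ∀ x, (posSys hK).θ x = x ^ 3 ^ m := fun x => theta_apply x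
  rw [he, hθ, hθ, hθ]
  simp only [one_mul]
  have e1 : t ^ (3 ^ m + 1) = t ^ 3 ^ m * t := pow_succ _ _
  have e2 : t ^ (2 * 3 ^ m + 1) = (t ^ 3 ^ m) ^ 2 * t := by rw [pow_succ, mul_comm 2, pow_mul]
  rw [e1, e2]
  rfl

theorem reeV_eq (t u v : K) : chevG2.wordMat K (reeWordV (3 ^ m) t u v) =
    ((((negSys hK).W t u v : ↥(chevG2.group K)) : GL chevG2.Idx K) : Matrix chevG2.Idx chevG2.Idx K) := by
  unfold ReeSys.W ReeSys.M
  simp only [Subgroup.coe_mul, Units.val_mul]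
  show _ = chevG2.x K 4 _ * chevG2.x K 5 _ * (chevG2.x K 3 _ * chevG2.x K 2 _ * chevG2.x K 1 _ * chevG2.x K 0 _)
  unfold reeWordV reeWordU ChevalleyDatum.negWord ChevalleyDatum.wordMat
  simp only [List.map_cons, List.map_nil, List.prod_cons, List.prod_nil, mul_one, mul_assoc]
  have he : (negSys hK).ε = -1 := by
    show (((-1 : ℤ) : K)) = -1
    simp
  have hθ : ∀ x, (negSys hK).θ x = x ^ 3 ^ m := fun x => theta_apply x
  rw [he, hθ, hθ, hθ]
  simp only [neg_one_mul]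
  have e1 : t ^ (3 ^ m + 1) = t ^ 3 ^ m * t := pow_succ _ _
  have e2 : t ^ (2 * 3 ^ m + 1) = (t ^ 3 ^ m) ^ 2 * t := by rw [pow_succ, mul_comm 2, pow_mul]
  rw [e1, e2]
  rfl

/-- The fixed elements of the endomorphism, as a subgroup of the general linear group. -/
noncomputable def fixGL (K : Type*) [Field K] [CharP K 3] (m : ℕ) : Subgroup (GL chevG2.Idx K) :=
  ((sig (theta K m)).eqLocus (MonoidHom.id _)).map (chevG2.group K).subtype

omit [Fintype K] in
theorem mem_fixGL (g : GL chevG2.Idx K) :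
    g ∈ fixGL K m ↔ ∃ h : g ∈ chevG2.group K, sig (theta K m) ⟨g, h⟩ = ⟨g, h⟩ := by
  unfold fixGL
  rw [Subgroup.mem_map]
  constructor
  · rintro ⟨x, hx, rfl⟩
    exact ⟨x.2, hx⟩
  · rintro ⟨h, hx⟩
    exact ⟨⟨g, h⟩, hx, rfl⟩

omit [Fintype K] in
theorem fixGL_le : fixGL K m ≤ chevG2.group K := by
  intro g hg
  exact ((mem_fixGL g).mp hg).1

theorem W_pos_fix (t u v : K) : (((posSys hK).W t u v : ↥(chevG2.group K)) : GL chevG2.Idx K) ∈ fixGL K m :=
  (mem_fixGL _).mpr ⟨Subtype.prop _, (posSys hK).sigma_W t u v⟩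

theorem W_neg_fix (t u v : K) : (((negSys hK).W t u v : ↥(chevG2.group K)) : GL chevG2.Idx K) ∈ fixGL K m :=
  (mem_fixGL _).mpr ⟨Subtype.prop _, (negSys hK).sigma_W t u v⟩

include hK in
/-- The twisted group consists of fixed elements. -/
theorem twisted_le_fix : twistedG2 K (3 ^ m) ≤ fixGL K m := by
  unfold twistedG2 ChevalleyDatum.genSubgroup
  rw [Subgroup.closure_le]
  rintro g ⟨w, ⟨t, u, v, hw | hw⟩, hg⟩
  · rw [hw, reeU_eq hK] at hg
    rw [Units.ext hg]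
    exact W_pos_fix hK t u v
  · rw [hw, reeV_eq hK] at hg
    rw [Units.ext hg]
    exact W_neg_fix hK t u v

theorem W_pos_mem (t u v : K) :
    (((posSys hK).W t u v : ↥(chevG2.group K)) : GL chevG2.Idx K) ∈ twistedG2 K (3 ^ m) :=
  Subgroup.subset_closure ⟨_, ⟨t, u, v, Or.inl rfl⟩, (reeU_eq hK t u v).symm⟩

theorem W_neg_mem (t u v : K) :
    (((negSys hK).W t u v : ↥(chevG2.group K)) : GL chevG2.Idx K) ∈ twistedG2 K (3 ^ m) :=
  Subgroup.subset_closure ⟨_, ⟨t, u, v, Or.inr rfl⟩, (reeV_eq hK t u v).symm⟩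

theorem posRoots_eq : chevG2.posRoots = [6, 7, 8, 9, 10, 11] := by decide +kernel

/-- The normal form of the system of the positive roots is the normal form of `U`. -/
theorem N_eq_pw (t : ℕ → K) :
    (((posSys hK).N (t 6) (t 7) (t 8) (t 9) (t 10) (t 11) : ↥(chevG2.group K)) : GL chevG2.Idx K) =
      wordGL dc (pw chevG2 t) := by
  unfold pw
  rw [posRoots_eq]
  unfold ReeSys.N ReeSys.M wordGL
  simp only [List.map_cons, List.map_nil, List.prod_cons, List.prod_nil, mul_one, Subgroup.coe_mul]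
  show xGL dc 6 _ * xGL dc 7 _ * (xGL dc 8 _ * xGL dc 9 _ * xGL dc 10 _ * xGL dc 11 _) = _
  simp only [mul_assoc]

/-- The parameters as a function of the root. -/
def tf (t6 t7 c1 c2 c3 c4 : K) : ℕ → K := fun r =>
  if r = 6 then t6 else if r = 7 then t7 else if r = 8 then c1 else if r = 9 then c2 else if r = 10 then c3 else c4

theorem N_inj (t6 t7 c1 c2 c3 c4 t6' t7' c1' c2' c3' c4' : K)
    (h : (posSys hK).N t6 t7 c1 c2 c3 c4 = (posSys hK).N t6' t7' c1' c2' c3' c4') :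
    t6 = t6' ∧ t7 = t7' ∧ c1 = c1' ∧ c2 = c2' ∧ c3 = c3' ∧ c4 = c4' := by
  have h1 := N_eq_pw hK (tf t6 t7 c1 c2 c3 c4)
  have h2 := N_eq_pw hK (tf t6' t7' c1' c2' c3' c4')
  have e : wordGL dc (pw chevG2 (tf t6 t7 c1 c2 c3 c4)) = wordGL dc (pw chevG2 (tf t6' t7' c1' c2' c3' c4')) := by
    rw [← h1, ← h2]
    exact congrArg _ h
  have key : ∀ r, chevG2.IsPosRoot r → tf t6 t7 c1 c2 c3 c4 r = tf t6' t7' c1' c2' c3' c4' r := by
    intro r hr
    have C := certs (K := K)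
    rw [← tOf_eq C.c C.tc C.ac C.r2 (tf t6 t7 c1 c2 c3 c4) r hr, e, tOf_eq C.c C.tc C.ac C.r2 _ r hr]
  have hp : ∀ r ∈ [6, 7, 8, 9, 10, 11], chevG2.IsPosRoot r := by
    intro r hr
    rw [← posRoots_eq] at hr
    exact (mem_posRoots r).mp hr
  exact ⟨key 6 (hp 6 (by simp)), key 7 (hp 7 (by simp)), key 8 (hp 8 (by simp)), key 9 (hp 9 (by simp)),
    key 10 (hp 10 (by simp)), key 11 (hp 11 (by simp))⟩

/-- The fixed elements of `U` are the elements of the first kind of the generators. -/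
theorem U_fix (g : GL chevG2.Idx K) (hg : g ∈ chevG2.posUnipotent K) (hfix : g ∈ fixGL K m) :
    ∃ t u v : K, g = (((posSys hK).W t u v : ↥(chevG2.group K)) : GL chevG2.Idx K) := by
  obtain ⟨hgG, hσ⟩ := (mem_fixGL g).mp hfix
  have hspec := spec (certs (K := K)) g hg
  rw [← N_eq_pw hK] at hspec
  have hσ' : (posSys hK).σ ((posSys hK).N (tOf dc g 6) (tOf dc g 7) (tOf dc g 8) (tOf dc g 9) (tOf dc g 10)
      (tOf dc g 11)) = (posSys hK).N (tOf dc g 6) (tOf dc g 7) (tOf dc g 8) (tOf dc g 9) (tOf dc g 10)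
      (tOf dc g 11) := by
    have e : (⟨g, hgG⟩ : ↥(chevG2.group K)) = (posSys hK).N (tOf dc g 6) (tOf dc g 7) (tOf dc g 8) (tOf dc g 9)
        (tOf dc g 10) (tOf dc g 11) := Subtype.ext hspec
    rw [← e]
    exact hσ
  have := (posSys hK).fixed_N (N_inj hK) _ _ _ _ _ _ hσ'
  exact ⟨_, _, _, by rw [hspec, this]⟩

theorem W_pos_memU (t u v : K) :
    (((posSys hK).W t u v : ↥(chevG2.group K)) : GL chevG2.Idx K) ∈ chevG2.posUnipotent K := by
  rw [(posSys hK).W_eq_N]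
  have h := N_eq_pw hK (tf ((posSys hK).ε * t) ((posSys hK).ε * (posSys hK).θ t) ((posSys hK).ε * (posSys hK).θ u)
    ((posSys hK).ε * (posSys hK).θ v) ((posSys hK).ε * (((posSys hK).θ t) ^ 3 * t + u))
    ((posSys hK).ε * (((posSys hK).θ t) ^ 3 * t ^ 2 + v)))
  have e : ∀ a b c d e f : K, (posSys hK).N a b c d e f =
      (posSys hK).N (tf a b c d e f 6) (tf a b c d e f 7) (tf a b c d e f 8) (tf a b c d e f 9)
        (tf a b c d e f 10) (tf a b c d e f 11) := fun _ _ _ _ _ _ => rfl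
  rw [e, h]
  apply wordGL_mem_posUnipotent
  intro p hp
  unfold pw at hp
  rw [List.mem_map] at hp
  obtain ⟨s, hs, rfl⟩ := hp
  exact (mem_posRoots s).mp hs

theorem W_pos_inj (t u v t' u' v' : K) (h : (posSys hK).W t u v = (posSys hK).W t' u' v') :
    t = t' ∧ u = u' ∧ v = v' := by
  rw [(posSys hK).W_eq_N, (posSys hK).W_eq_N] at h
  obtain ⟨h1, -, -, -, h5, h6⟩ := N_inj hK _ _ _ _ _ _ _ _ _ _ _ _ h
  have he : (posSys hK).ε = 1 := by
    show (((1 : ℤ) : K)) = 1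
    simp
  rw [he, one_mul, one_mul] at h1 h5 h6
  subst h1
  exact ⟨rfl, add_left_cancel h5, add_left_cancel h6⟩

/-- The elements of the twisted group in `U`. -/
theorem mem_U_inf (g : GL chevG2.Idx K) : g ∈ chevG2.posUnipotent K ⊓ twistedG2 K (3 ^ m) ↔
    ∃ t u v : K, g = (((posSys hK).W t u v : ↥(chevG2.group K)) : GL chevG2.Idx K) := by
  constructor
  · rintro ⟨h1, h2⟩
    exact U_fix hK g h1 (twisted_le_fix hK h2)
  · rintro ⟨t, u, v, rfl⟩
    exact ⟨W_pos_memU hK t u v, W_pos_mem hK t u v⟩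

include hK in
/-- The number of elements of the twisted group in `U`. -/
theorem card_U_inf : Nat.card ↥(chevG2.posUnipotent K ⊓ twistedG2 K (3 ^ m)) = (3 ^ (2 * m + 1)) ^ 3 := by
  have hbij : Function.Bijective (fun p : K × K × K =>
      (⟨(((posSys hK).W p.1 p.2.1 p.2.2 : ↥(chevG2.group K)) : GL chevG2.Idx K),
        (mem_U_inf hK _).mpr ⟨_, _, _, rfl⟩⟩ : ↥(chevG2.posUnipotent K ⊓ twistedG2 K (3 ^ m)))) := by
    constructor
    · rintro ⟨t, u, v⟩ ⟨t', u', v'⟩ h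
      have h1 := congrArg Subtype.val h
      have h2 : (posSys hK).W t u v = (posSys hK).W t' u' v' := Subtype.ext h1
      obtain ⟨rfl, rfl, rfl⟩ := W_pos_inj hK _ _ _ _ _ _ h2
      rfl
    · rintro ⟨g, hg⟩
      obtain ⟨t, u, v, rfl⟩ := (mem_U_inf hK g).mp hg
      exact ⟨(t, u, v), rfl⟩
  rw [← Nat.card_congr (Equiv.ofBijective _ hbij), Nat.card_prod, Nat.card_prod, Nat.card_eq_fintype_card, hK]
  ring

end

end Cfsg.Agent.Lib.Helper36_ReeFix
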