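import Cfsg.Agent.Lib.Helper36_ReeOrder

set_option autoImplicit false

/-!
The subgroup `N¹ = N ∩ G¹` of the twisted group of type `²G₂`: its elements act on the roots as `1` or `-1`, and this
gives a homomorphism onto the group of order 2 with kernel `H¹`.
-/

namespace Cfsg.Agent.Lib.Helper36_ReeN

open Cfsg Cfsg.Lie Cfsg.Agent.Lib.Helper18_ChevFast Cfsg.Agent.Lib.Helper18_ChevEngine
  Cfsg.Agent.Lib.Helper18_ChevN Cfsg.Agent.Lib.Helper18_ChevWeyl
  Cfsg.Agent.Lib.Helper18_ChevGL Cfsg.Agent.Lib.Helper18_ChevTri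
  Cfsg.Agent.Lib.Helper18_ChevAdd Cfsg.Agent.Lib.Helper18_ChevUni Cfsg.Agent.Lib.Helper18_ChevComm
  Cfsg.Agent.Lib.Helper36_TwistU Cfsg.Agent.Lib.Helper36_TwistW
  Cfsg.Agent.Lib.Helper36_GraphAut Cfsg.Agent.Lib.Helper36_GraphAutG2 Cfsg.Agent.Lib.Helper36_GraphAutG2Main
  Cfsg.Agent.Lib.Helper36_ReeAlg Cfsg.Agent.Lib.Helper36_ReeSetup Cfsg.Agent.Lib.Helper36_ReeFix
  Cfsg.Agent.Lib.Helper36_TwistGen Cfsg.Agent.Lib.Helper36_TwistWeyl
  Cfsg.Agent.Lib.Helper36_ChevTorus Cfsg.Agent.Lib.Helper36_ChevTorusAll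
  Cfsg.Agent.Lib.Helper36_ChevW0 Cfsg.Agent.Lib.Helper36_ChevW0All Cfsg.Agent.Lib.Helper36_ChevTables
  Cfsg.Agent.Lib.Helper36_ChevOrder Cfsg.Agent.Lib.Helper36_ChevOrderAll Cfsg.Agent.Lib.Helper36_WeylChain
  Cfsg.Agent.Lib.Helper36_WeylLit Cfsg.Agent.Lib.Helper36_WeylLit.RootLit
  Cfsg.Agent.Lib.Helper36_ChevDataG2Lit Cfsg.Agent.Lib.Helper36_ChevDataG2LitOK Cfsg.Agent.Lib.Helper36_ReeTw
  Cfsg.Agent.Lib.Helper36_ChevBorel Cfsg.Agent.Lib.Helper36_ReeBruhat Cfsg.Agent.Lib.Helper36_ReeEntry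
  Cfsg.Agent.Lib.Helper36_ReeH Cfsg.Agent.Lib.Helper36_ReeOrder

section

variable {K : Type*} [Field K] [Fintype K] [CharP K 3] {m : ℕ} (hK : Fintype.card K = 3 ^ (2 * m + 1))

include hK in
/-- A monomial element of the twisted group acts as `1` or `-1`; it acts as `1` exactly if it lies in `H`. -/
theorem mono_acts (n : GL chevG2.Idx K) (hn : n ∈ chevG2.monomialSubgroup K) (hnG : n ∈ twistedG2 K (3 ^ m)) :
    ∃ x : Equiv.Perm (Fin lit.n), (x = 1 ∨ x = w0Perm) ∧ ActsAs chevG2 K (hfK K) lit n x ∧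
      (n ∈ chevG2.diagonalSubgroup K ↔ x = 1) := by
  obtain ⟨x, hxW, hact⟩ := exists_actsAs chevG2 K (hfK K) lit wf (chainOK_of_mem chevG2 hD)
    (allConj_of_mem chevG2 hD K) litOK (nGen_of_mem chevG2 hD) n hn
  have hact' := actsAs_sigma (hfK K) (twGen hK) litOK (monomial_le_group dc hn) hxW hact
  rw [sgm_fix hK n hnG] at hact'
  have hfix := actsAs_unique chevG2 K (hfK K) lit litOK (xInj_of_mem chevG2 hD) hact' hact
  refine ⟨x, fixed_weyl' x hxW hfix, hact, ?_, ?_⟩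
  · intro h
    have h1 := actsAs_diag chevG2 K (hfK K) lit (chainOK_of_mem chevG2 hD) litOK _ h
    exact actsAs_unique chevG2 K (hfK K) lit litOK (xInj_of_mem chevG2 hD) hact h1
  · intro h
    rw [h] at hact
    exact mem_diag_of_actsAs_one chevG2 K (hfK K) lit litOK (normalizer_pos chevG2 hD noZero)
      (Cfsg.Agent.S1040.result chevG2 hD).2 n hn hact

include hK in
/-- The product of two monomial elements of the twisted group lies in `H` exactly if both or none of them do. -/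
theorem mul_mem_diag_iff (n n' : GL chevG2.Idx K) (hn : n ∈ chevG2.monomialSubgroup K ⊓ twistedG2 K (3 ^ m))
    (hn' : n' ∈ chevG2.monomialSubgroup K ⊓ twistedG2 K (3 ^ m)) :
    n * n' ∈ chevG2.diagonalSubgroup K ↔ (n ∈ chevG2.diagonalSubgroup K ↔ n' ∈ chevG2.diagonalSubgroup K) := by
  obtain ⟨x, hx, hact, hiff⟩ := mono_acts hK n hn.1 hn.2
  obtain ⟨x', hx', hact', hiff'⟩ := mono_acts hK n' hn'.1 hn'.2
  obtain ⟨y, hy, hacty, hiffy⟩ := mono_acts hK (n * n') (Subgroup.mul_mem _ hn.1 hn'.1) (Subgroup.mul_mem _ hn.2 hn'.2)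
  have hyx : y = x * x' := actsAs_unique chevG2 K (hfK K) lit litOK (xInj_of_mem chevG2 hD) hacty
    (actsAs_mul chevG2 K (hfK K) lit hact hact')
  rw [hiff, hiff', hiffy, hyx]
  rcases hx with rfl | rfl <;> rcases hx' with rfl | rfl
  · simp
  · simp [w0Perm_ne_one]
  · simp [w0Perm_ne_one]
  · simp [w0Perm_ne_one, w0Perm_mul_self]

open Classical in
/-- The homomorphism from `N¹` onto the group of order 2. -/
noncomputable def signHom :
    ↥(chevG2.monomialSubgroup K ⊓ twistedG2 K (3 ^ m)) →* Multiplicative (ZMod 2) :=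
  MonoidHom.mk' (fun n => if (n : GL chevG2.Idx K) ∈ chevG2.diagonalSubgroup K then 1 else Multiplicative.ofAdd 1)
    (by
      intro a b
      have h := mul_mem_diag_iff hK a.1 b.1 a.2 b.2
      by_cases ha : (a : GL chevG2.Idx K) ∈ chevG2.diagonalSubgroup K <;>
        by_cases hb : (b : GL chevG2.Idx K) ∈ chevG2.diagonalSubgroup K
      · have hab : ((a * b : ↥(chevG2.monomialSubgroup K ⊓ twistedG2 K (3 ^ m))) : GL chevG2.Idx K) ∈
            chevG2.diagonalSubgroup K := h.mpr ⟨fun _ => hb, fun _ => ha⟩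
        simp only [ha, hb, hab, if_true, mul_one]
      · have hab : ((a * b : ↥(chevG2.monomialSubgroup K ⊓ twistedG2 K (3 ^ m))) : GL chevG2.Idx K) ∉
            chevG2.diagonalSubgroup K := fun hh => hb ((h.mp hh).mp ha)
        simp only [ha, hb, hab, if_true, if_false, one_mul]
      · have hab : ((a * b : ↥(chevG2.monomialSubgroup K ⊓ twistedG2 K (3 ^ m))) : GL chevG2.Idx K) ∉
            chevG2.diagonalSubgroup K := fun hh => ha ((h.mp hh).mpr hb)
        simp only [ha, hb, hab, if_true, if_false, mul_one]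
      · have hab : ((a * b : ↥(chevG2.monomialSubgroup K ⊓ twistedG2 K (3 ^ m))) : GL chevG2.Idx K) ∈
            chevG2.diagonalSubgroup K := h.mpr ⟨fun hh => absurd hh ha, fun hh => absurd hh hb⟩
        simp only [ha, hb, hab, if_true, if_false]
        decide)

open Classical in
theorem signHom_apply (n : ↥(chevG2.monomialSubgroup K ⊓ twistedG2 K (3 ^ m))) :
    signHom hK n = if (n : GL chevG2.Idx K) ∈ chevG2.diagonalSubgroup K then 1 else Multiplicative.ofAdd 1 := rfl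

theorem signHom_surjective : Function.Surjective (signHom hK) := by
  have hall : ∀ y : Multiplicative (ZMod 2), y = 1 ∨ y = Multiplicative.ofAdd 1 := by decide
  intro y
  rcases hall y with rfl | rfl
  · exact ⟨1, map_one _⟩
  · refine ⟨⟨m0 hK, m0_mono hK, m0_mem hK⟩, ?_⟩
    rw [signHom_apply, if_neg (m0_not_diag hK)]

theorem signHom_ker : (signHom hK).ker = (chevG2.diagonalSubgroup K ⊓ twistedG2 K (3 ^ m)).subgroupOf
    (chevG2.monomialSubgroup K ⊓ twistedG2 K (3 ^ m)) := by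
  ext n
  rw [MonoidHom.mem_ker, signHom_apply, Subgroup.mem_subgroupOf]
  have hne : (Multiplicative.ofAdd 1 : Multiplicative (ZMod 2)) ≠ 1 := by decide
  constructor
  · intro h
    by_cases hn : (n : GL chevG2.Idx K) ∈ chevG2.diagonalSubgroup K
    · exact ⟨hn, n.2.2⟩
    · rw [if_neg hn] at h
      exact absurd h hne
  · intro h
    have h1 : (n : GL chevG2.Idx K) ∈ chevG2.diagonalSubgroup K := h.1
    rw [if_pos h1]

end

end Cfsg.Agent.Lib.Helper36_ReeN
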