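import Cfsg.Agent.Lib.Helper36_ReePerf

set_option autoImplicit false

/-!
The elements of odd order of `H¹` in the twisted group of type `²G₂`.
-/

namespace Cfsg.Agent.Lib.Helper36_ReeOdd

open Cfsg Cfsg.Lie Cfsg.Agent.Lib.Helper36_ReeFix Cfsg.Agent.Lib.Helper36_ReeBruhat
  Cfsg.Agent.Lib.Helper36_ReeH Cfsg.Agent.Lib.Helper36_ReePerf

section

variable {K : Type*} [Field K] [Fintype K] [CharP K 3] {m : ℕ} (hK : Fintype.card K = 3 ^ (2 * m + 1))

include hK in
/-- The units of odd order are the squares. -/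
theorem odd_iff_sq (μ : Kˣ) : Odd (orderOf μ) ↔ μ ∈ (powMonoidHom 2 : Kˣ →* Kˣ).range := by
  constructor
  · rintro ⟨k, hk⟩
    refine ⟨μ ^ (k + 1), ?_⟩
    rw [powMonoidHom_apply, ← pow_mul]
    have e : (k + 1) * 2 = orderOf μ + 1 := by rw [hk]; ring
    rw [e, pow_succ, pow_orderOf_eq_one, one_mul]
  · rintro ⟨ν, rfl⟩
    rw [powMonoidHom_apply]
    have hodd := odd_half (K := K) hK
    have h1 : (ν ^ 2) ^ (Fintype.card K / 2) = 1 := by
      rw [← pow_mul]
      have hq : Odd (Fintype.card K) := by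
        rw [hK]
        exact Odd.pow (by decide)
      obtain ⟨j, hj⟩ := hq
      have e : 2 * (Fintype.card K / 2) = Fintype.card K - 1 := by omega
      rw [e]
      apply Units.ext
      rw [Units.val_pow_eq_pow_val, Units.val_one]
      exact FiniteField.pow_card_sub_one_eq_one (ν : K) ν.ne_zero
    exact Odd.of_dvd_nat hodd (orderOf_dvd_of_pow_eq_one h1)

omit [Fintype K] in
/-- The kernel of the squaring map has two elements. -/
theorem card_ker_sq : Nat.card ↥(powMonoidHom 2 : Kˣ →* Kˣ).ker = 2 := by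
  have h3 : (3 : K) = 0 := Cfsg.Agent.Lib.Helper36_ReeSetup.three_eq_zero
  have hne : (-1 : Kˣ) ≠ 1 := by
    intro h
    have h1 : ((-1 : Kˣ) : K) = 1 := by rw [h]; rfl
    rw [Units.val_neg, Units.val_one] at h1
    have h2 : (1 : K) = 0 := by linear_combination h3 + h1
    exact one_ne_zero h2
  have hmem : (-1 : Kˣ) ∈ (powMonoidHom 2 : Kˣ →* Kˣ).ker := by
    rw [MonoidHom.mem_ker, powMonoidHom_apply]
    exact neg_one_sq
  rw [Nat.card_eq_two_iff' (1 : ↥(powMonoidHom 2 : Kˣ →* Kˣ).ker)]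
  refine ⟨⟨-1, hmem⟩, ?_, ?_⟩
  · intro h
    exact hne (congrArg Subtype.val h)
  · rintro ⟨y, hy⟩ hy1
    apply Subtype.ext
    rw [MonoidHom.mem_ker, powMonoidHom_apply] at hy
    have h1 : ((y : K) - 1) * ((y : K) + 1) = 0 := by
      have : ((y ^ 2 : Kˣ) : K) = 1 := by rw [hy]; rfl
      rw [Units.val_pow_eq_pow_val] at this
      linear_combination this
    rcases mul_eq_zero.mp h1 with h2 | h2
    · exfalso
      apply hy1
      apply Subtype.ext
      apply Units.ext
      exact sub_eq_zero.mp h2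
    · apply Units.ext
      rw [Units.val_neg, Units.val_one]
      exact eq_neg_of_add_eq_zero_left h2

include hK in
/-- The number of units of odd order. -/
theorem card_odd_units : 2 * Nat.card {μ : Kˣ // Odd (orderOf μ)} = 3 ^ (2 * m + 1) - 1 := by
  have h1 : Nat.card {μ : Kˣ // Odd (orderOf μ)} = Nat.card ↥(powMonoidHom 2 : Kˣ →* Kˣ).range := by
    apply Nat.card_congr
    exact Equiv.subtypeEquivRight (fun μ => odd_iff_sq hK μ)
  have h2 := Subgroup.card_mul_index (powMonoidHom 2 : Kˣ →* Kˣ).ker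
  have h3 : Nat.card K = 3 ^ (2 * m + 1) := by rw [Nat.card_eq_fintype_card, hK]
  rw [Subgroup.index_ker, card_ker_sq, Nat.card_units, h3] at h2
  rw [h1, h2]

include hK in
/-- The elements of odd order of `H¹`. -/
theorem card_odd : 2 * Nat.card {h : ↥(chevG2.diagonalSubgroup K ⊓ twistedG2 K (3 ^ m)) // Odd (orderOf h)} =
    3 ^ (2 * m + 1) - 1 := by
  rw [← card_odd_units hK]
  congr 1
  let e : Kˣ ≃* ↥(chevG2.diagonalSubgroup K ⊓ twistedG2 K (3 ^ m)) :=
    (MonoidHom.ofInjective (hfix_injective (K := K) (m := m))).trans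
      (MulEquiv.subgroupCongr (diag_inf_eq (K := K) (m := m) hK).symm)
  apply Nat.card_congr
  symm
  refine e.toEquiv.subtypeEquiv ?_
  intro μ
  have : orderOf (e μ) = orderOf μ := e.orderOf_eq μ
  show Odd (orderOf μ) ↔ Odd (orderOf (e μ))
  rw [this]

include hK in
/-- A non-identity element of odd order of `H¹` centralises no non-identity element of `U¹`. -/
theorem cent_odd (h : GL chevG2.Idx K) (hh : h ∈ chevG2.diagonalSubgroup K ⊓ twistedG2 K (3 ^ m)) (h1 : h ≠ 1)
    (hodd : Odd (orderOf h)) :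
    (chevG2.posUnipotent K ⊓ twistedG2 K (3 ^ m)) ⊓ Subgroup.centralizer {h} = ⊥ := by
  rw [diag_inf_eq hK] at hh
  obtain ⟨μ, rfl⟩ := hh
  have hord : orderOf (hfix K m μ) = orderOf μ := orderOf_injective (hfix K m) hfix_injective μ
  rw [hord] at hodd
  have hμ : μ ^ 2 ≠ 1 := by
    intro h2
    have h3 : orderOf μ ∣ 2 := orderOf_dvd_of_pow_eq_one h2
    have h4 : orderOf μ = 1 := by
      rcases (Nat.dvd_prime Nat.prime_two).mp h3 with h5 | h5
      · exact h5
      · exfalso
        rw [h5] at hodd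
        exact absurd hodd (by decide)
    apply h1
    rw [orderOf_eq_one_iff.mp h4, map_one]
  rw [eq_bot_iff]
  rintro w ⟨hw, hc⟩
  rw [Subgroup.mem_bot]
  have hc' := Subgroup.mem_centralizer_iff.mp hc (hfix K m μ) rfl
  apply cent_trivial hK μ hμ w hw
  rw [hc']
  group

end

end Cfsg.Agent.Lib.Helper36_ReeOdd
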