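import Cfsg.Agent.Lib.Helper36_ReeH

set_option autoImplicit false

/-!
The order of the twisted group of type `²G₂` from the normal form: the group is the disjoint union of `U¹ H¹` and
`U¹ H¹ m₀ U¹`.
-/

namespace Cfsg.Agent.Lib.Helper36_ReeOrder

open Cfsg Cfsg.Lie Cfsg.Agent.Lib.Helper18_ChevFast Cfsg.Agent.Lib.Helper18_ChevEngine
  Cfsg.Agent.Lib.Helper18_ChevN Cfsg.Agent.Lib.Helper18_ChevWeyl
  Cfsg.Agent.Lib.Helper18_ChevGL Cfsg.Agent.Lib.Helper18_ChevTri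
  Cfsg.Agent.Lib.Helper18_ChevAdd Cfsg.Agent.Lib.Helper18_ChevUni Cfsg.Agent.Lib.Helper18_ChevComm
  Cfsg.Agent.Lib.Helper36_TwistU Cfsg.Agent.Lib.Helper36_TwistW
  Cfsg.Agent.Lib.Helper36_GraphAut Cfsg.Agent.Lib.Helper36_GraphAutG2 Cfsg.Agent.Lib.Helper36_GraphAutG2Main
  Cfsg.Agent.Lib.Helper36_ReeAlg Cfsg.Agent.Lib.Helper36_ReeSetup Cfsg.Agent.Lib.Helper36_ReeFix
  Cfsg.Agent.Lib.Helper36_TwistGen Cfsg.Agent.Lib.Helper36_TwistWeyl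
  Cfsg.Agent.Lib.Helper36_ChevTorus Cfsg.Agent.Lib.Helper36_ChevTorusAll
  Cfsg.Agent.Lib.Helper36_ChevW0 Cfsg.Agent.Lib.Helper36_ChevW0All Cfsg.Agent.Lib.Helper36_ChevTables
  Cfsg.Agent.Lib.Helper36_ChevOrder Cfsg.Agent.Lib.Helper36_ChevOrderAll Cfsg.Agent.Lib.Helper36_WeylChain
  Cfsg.Agent.Lib.Helper36_WeylLit Cfsg.Agent.Lib.Helper36_WeylLit.RootLit
  Cfsg.Agent.Lib.Helper36_ChevDataG2Lit Cfsg.Agent.Lib.Helper36_ChevDataG2LitOK Cfsg.Agent.Lib.Helper36_ReeTw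
  Cfsg.Agent.Lib.Helper36_ChevBorel Cfsg.Agent.Lib.Helper36_ReeBruhat Cfsg.Agent.Lib.Helper36_ReeEntry
  Cfsg.Agent.Lib.Helper36_ReeH

section

variable {K : Type*} [Field K] [Fintype K] [CharP K 3] {m : ℕ} (hK : Fintype.card K = 3 ^ (2 * m + 1))

/-- The chosen monomial element does not lie in `H`. -/
theorem m0_not_diag : m0 hK ∉ chevG2.diagonalSubgroup K := by
  intro h
  have h1 := actsAs_diag chevG2 K (hfK K) lit (chainOK_of_mem chevG2 hD) litOK _ h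
  have h2 := actsAs_unique chevG2 K (hfK K) lit litOK (xInj_of_mem chevG2 hD) (m0_acts hK) h1
  exact w0Perm_ne_one h2

include hK in
/-- The elements of the twisted group: the two cells. -/
theorem mem_cases (g : GL chevG2.Idx K) (hg : g ∈ twistedG2 K (3 ^ m)) :
    (∃ u0 ∈ chevG2.posUnipotent K ⊓ twistedG2 K (3 ^ m), ∃ h0 ∈ chevG2.diagonalSubgroup K ⊓ twistedG2 K (3 ^ m),
      g = u0 * h0) ∨
    (∃ u0 ∈ chevG2.posUnipotent K ⊓ twistedG2 K (3 ^ m), ∃ h0 ∈ chevG2.diagonalSubgroup K ⊓ twistedG2 K (3 ^ m),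
      ∃ u ∈ chevG2.posUnipotent K ⊓ twistedG2 K (3 ^ m), g = u0 * h0 * m0 hK * u) := by
  rcases fixed_cases hK g ((twGen hK).G1le hg) (sgm_fix hK g hg) with
    ⟨u0, hu0, h0, hh0, hfix, e⟩ | ⟨u0, hu0, h0, hh0, hfix, u, hu, e⟩
  · exact Or.inl ⟨u0, hu0, h0, ⟨hh0, fixed_diag_mem hK h0 hh0 hfix⟩, e⟩
  · exact Or.inr ⟨u0, hu0, h0, ⟨hh0, fixed_diag_mem hK h0 hh0 hfix⟩, u, hu, e⟩

/-- The parametrisation of the twisted group by the normal form. -/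
noncomputable def param :
    (↥(chevG2.posUnipotent K ⊓ twistedG2 K (3 ^ m)) × ↥(chevG2.diagonalSubgroup K ⊓ twistedG2 K (3 ^ m))) ⊕
    ((↥(chevG2.posUnipotent K ⊓ twistedG2 K (3 ^ m)) × ↥(chevG2.diagonalSubgroup K ⊓ twistedG2 K (3 ^ m))) ×
      ↥(chevG2.posUnipotent K ⊓ twistedG2 K (3 ^ m))) → ↥(twistedG2 K (3 ^ m))
  | Sum.inl a => ⟨(a.1 : GL chevG2.Idx K) * (a.2 : GL chevG2.Idx K), Subgroup.mul_mem _ a.1.2.2 a.2.2.2⟩
  | Sum.inr a => ⟨(a.1.1 : GL chevG2.Idx K) * (a.1.2 : GL chevG2.Idx K) * m0 hK * (a.2 : GL chevG2.Idx K),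
      Subgroup.mul_mem _ (Subgroup.mul_mem _ (Subgroup.mul_mem _ a.1.1.2.2 a.1.2.2.2) (m0_mem hK)) a.2.2.2⟩

theorem param_bijective : Function.Bijective (param hK) := by
  have h1100 := Cfsg.Agent.S1100.result (F := K) chevG2 hD
  have h1036 := Cfsg.Agent.S1036.result (F := K) chevG2 hD
  have hU := h1100.2
  have hUH := h1036.2
  have hb : ∀ (u0 : ↥(chevG2.posUnipotent K ⊓ twistedG2 K (3 ^ m)))
      (h0 : ↥(chevG2.diagonalSubgroup K ⊓ twistedG2 K (3 ^ m))),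
      (u0 : GL chevG2.Idx K) * (h0 : GL chevG2.Idx K) ∈ chevG2.borelSubgroup K := fun u0 h0 =>
    Subgroup.mul_mem _ ((le_sup_left : chevG2.posUnipotent K ≤ chevG2.borelSubgroup K) u0.2.1)
      ((le_sup_right : chevG2.diagonalSubgroup K ≤ chevG2.borelSubgroup K) h0.2.1)
  have hinjB : ∀ (u0 u0' : ↥(chevG2.posUnipotent K ⊓ twistedG2 K (3 ^ m)))
      (h0 h0' : ↥(chevG2.diagonalSubgroup K ⊓ twistedG2 K (3 ^ m))),
      (u0 : GL chevG2.Idx K) * (h0 : GL chevG2.Idx K) = (u0' : GL chevG2.Idx K) * (h0' : GL chevG2.Idx K) →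
        u0 = u0' ∧ h0 = h0' := by
    intro u0 u0' h0 h0' e
    have h5 := @Subgroup.mul_injective_of_disjoint _ _ (chevG2.posUnipotent K) (chevG2.diagonalSubgroup K)
      (disjoint_iff.mpr hUH) (⟨u0.1, u0.2.1⟩, ⟨h0.1, h0.2.1⟩) (⟨u0'.1, u0'.2.1⟩, ⟨h0'.1, h0'.2.1⟩) e
    have h6 : (u0 : GL chevG2.Idx K) = u0' :=
      congrArg (fun z : ↥(chevG2.posUnipotent K) × ↥(chevG2.diagonalSubgroup K) => (z.1 : GL chevG2.Idx K)) h5
    have h7 : (h0 : GL chevG2.Idx K) = h0' :=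
      congrArg (fun z : ↥(chevG2.posUnipotent K) × ↥(chevG2.diagonalSubgroup K) => (z.2 : GL chevG2.Idx K)) h5
    exact ⟨Subtype.ext h6, Subtype.ext h7⟩
  have hUm1 : (1 : GL chevG2.Idx K) ∈ Um chevG2 K (1 : GL chevG2.Idx K) := Subgroup.one_mem _
  have hUm0 : ∀ u : ↥(chevG2.posUnipotent K ⊓ twistedG2 K (3 ^ m)), (u : GL chevG2.Idx K) ∈ Um chevG2 K (m0 hK) := by
    intro u
    rw [Um_w0 (m0_acts hK)]
    exact u.2.1
  constructor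
  · rintro (⟨u0, h0⟩ | ⟨⟨u0, h0⟩, u⟩) (⟨u0', h0'⟩ | ⟨⟨u0', h0'⟩, u'⟩) e
    · have e1 : (u0 : GL chevG2.Idx K) * (h0 : GL chevG2.Idx K) = (u0' : GL chevG2.Idx K) * (h0' : GL chevG2.Idx K) :=
        congrArg Subtype.val e
      obtain ⟨rfl, rfl⟩ := hinjB _ _ _ _ e1
      rfl
    · exfalso
      have e1 : (u0 : GL chevG2.Idx K) * (h0 : GL chevG2.Idx K) * 1 * 1 =
          (u0' : GL chevG2.Idx K) * (h0' : GL chevG2.Idx K) * m0 hK * (u' : GL chevG2.Idx K) := by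
        rw [mul_one, mul_one]
        exact congrArg Subtype.val e
      obtain ⟨h2, -⟩ := hU _ _ _ _ _ _ (hb u0 h0) (hb u0' h0') (Subgroup.one_mem _) (m0_mono hK) hUm1 (hUm0 u') e1
      rw [_root_.inv_one, one_mul] at h2
      exact m0_not_diag hK h2
    · exfalso
      have e1 : (u0' : GL chevG2.Idx K) * (h0' : GL chevG2.Idx K) * 1 * 1 =
          (u0 : GL chevG2.Idx K) * (h0 : GL chevG2.Idx K) * m0 hK * (u : GL chevG2.Idx K) := by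
        rw [mul_one, mul_one]
        exact (congrArg Subtype.val e).symm
      obtain ⟨h2, -⟩ := hU _ _ _ _ _ _ (hb u0' h0') (hb u0 h0) (Subgroup.one_mem _) (m0_mono hK) hUm1 (hUm0 u) e1
      rw [_root_.inv_one, one_mul] at h2
      exact m0_not_diag hK h2
    · have e1 : (u0 : GL chevG2.Idx K) * (h0 : GL chevG2.Idx K) * m0 hK * (u : GL chevG2.Idx K) =
          (u0' : GL chevG2.Idx K) * (h0' : GL chevG2.Idx K) * m0 hK * (u' : GL chevG2.Idx K) :=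
        congrArg Subtype.val e
      obtain ⟨-, h2⟩ := hU _ _ _ _ _ _ (hb u0 h0) (hb u0' h0') (m0_mono hK) (m0_mono hK) (hUm0 u) (hUm0 u') e1
      obtain ⟨h3, h4⟩ := h2 rfl
      obtain ⟨rfl, rfl⟩ := hinjB _ _ _ _ h3
      have : u = u' := Subtype.ext h4
      subst this
      rfl
  · rintro ⟨g, hg⟩
    rcases mem_cases hK g hg with ⟨u0, hu0, h0, hh0, e⟩ | ⟨u0, hu0, h0, hh0, u, hu, e⟩
    · exact ⟨Sum.inl (⟨u0, hu0⟩, ⟨h0, hh0⟩), Subtype.ext e.symm⟩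
    · exact ⟨Sum.inr ((⟨u0, hu0⟩, ⟨h0, hh0⟩), ⟨u, hu⟩), Subtype.ext e.symm⟩

include hK in
/-- `|²G₂(q)| = q ^ 3 (q - 1) (q ^ 3 + 1)`. -/
theorem card_twistedG2 : Nat.card ↥(twistedG2 K (3 ^ m)) =
    (3 ^ (2 * m + 1)) ^ 3 * (3 ^ (2 * m + 1) - 1) * ((3 ^ (2 * m + 1)) ^ 3 + 1) := by
  rw [← Nat.card_congr (Equiv.ofBijective _ (param_bijective hK)), Nat.card_sum, Nat.card_prod, Nat.card_prod,
    Nat.card_prod, card_U_inf hK, card_diag_inf hK]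
  ring

end

end Cfsg.Agent.Lib.Helper36_ReeOrder
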