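import Mathlib
import Cfsg.Prelude.Def_KGroupFacts

set_option autoImplicit false

/-!
The automorphisms of a group of Ree type in characteristic 3, given by an explicit normal form: every automorphism is
the product of an inner one and one induced by an automorphism of the field.
-/

namespace Cfsg.Agent.Lib.Helper36_ReeOutAlg

/-- The data of a group of Ree type over a finite field `K` of characteristic 3: the elements `wU t u v` of a Sylow
3-subgroup with their product, the torus `hH μ` with its action, a further element `n`, the two cells of the normal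
form and its uniqueness, and the automorphisms induced by the automorphisms of the field. -/
structure ReeData (Γ K : Type*) [Group Γ] [Field K] where
  θ : K →+* K
  hθθ : ∀ x : K, (θ (θ x)) ^ 3 = x
  three : (3 : K) = 0
  wU : K → K → K → Γ
  hH : Kˣ →* Γ
  n : Γ
  wU_mul : ∀ t u v t' u' v' : K, wU t u v * wU t' u' v' =
    wU (t + t') (u + u' - t * (θ t') ^ 3) (v + v' - t' * u + t * t' * (θ t') ^ 3 - t ^ 2 * (θ t') ^ 3)
  wU_inj : ∀ t u v t' u' v' : K, wU t u v = wU t' u' v' → t = t' ∧ u = u' ∧ v = v'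
  hH_inj : Function.Injective hH
  conj : ∀ (μ : Kˣ) (t u v : K), hH μ * wU t u v * (hH μ)⁻¹ =
    wU ((μ : K) ^ 2 * ((θ (μ : K)) ^ 3)⁻¹ * t) ((θ (μ : K)) ^ 3 * (μ : K)⁻¹ * u) ((μ : K) * v)
  n_conj : ∀ μ : Kˣ, n * hH μ * n⁻¹ = hH μ⁻¹
  cases : ∀ g : Γ, (∃ (t u v : K) (μ : Kˣ), g = wU t u v * hH μ) ∨
    (∃ (t u v : K) (μ : Kˣ) (t' u' v' : K), g = wU t u v * hH μ * n * wU t' u' v')
  uniq : ∀ (t u v : K) (μ : Kˣ) (t' u' v' s x y : K) (ν : Kˣ) (s' x' y' : K),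
    wU t u v * hH μ * n * wU t' u' v' = wU s x y * hH ν * n * wU s' x' y' →
      (t = s ∧ u = x ∧ v = y) ∧ μ = ν ∧ (t' = s' ∧ u' = x' ∧ v' = y')
  disj : ∀ (t u v : K) (μ : Kˣ) (s x y : K) (ν : Kˣ) (s' x' y' : K),
    wU t u v * hH μ ≠ wU s x y * hH ν * n * wU s' x' y'
  UH : ∀ (t u v : K) (μ : Kˣ), wU t u v = hH μ → μ = 1
  sylow : ∃ S : Sylow 3 Γ, ∀ x : Γ, x ∈ S ↔ ∃ t u v : K, x = wU t u v
  fa : (K ≃+* K) →* MulAut Γ
  fa_wU : ∀ (τ : K ≃+* K) (t u v : K), fa τ (wU t u v) = wU (τ t) (τ u) (τ v)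
  fa_hH : ∀ (τ : K ≃+* K) (μ : Kˣ), fa τ (hH μ) = hH (Units.map (τ : K →* K) μ)

namespace ReeData

variable {Γ K : Type*} [Group Γ] [Field K] (D : ReeData Γ K)

theorem wU_zero : D.wU 0 0 0 = 1 := by
  have h := D.wU_mul 0 0 0 0 0 0
  simp only [add_zero, map_zero, ne_eq, OfNat.ofNat_ne_zero, not_false_eq_true, zero_pow, mul_zero,
    sub_zero] at h
  exact mul_eq_left.mp h

theorem wU_eq_one (t u v : K) : D.wU t u v = 1 ↔ t = 0 ∧ u = 0 ∧ v = 0 := by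
  constructor
  · intro h
    rw [← D.wU_zero] at h
    exact D.wU_inj _ _ _ _ _ _ h
  · rintro ⟨rfl, rfl, rfl⟩
    exact D.wU_zero

theorem wU_inv (t u v : K) :
    (D.wU t u v)⁻¹ = D.wU (-t) (-u - t * (D.θ t) ^ 3) (-v - t * u + t ^ 2 * (D.θ t) ^ 3) := by
  rw [inv_eq_iff_mul_eq_one, D.wU_mul, D.wU_eq_one]
  have h3 := D.three
  refine ⟨by ring, ?_, ?_⟩
  · simp only [map_neg]
    ring
  · simp only [map_neg]
    linear_combination (t ^ 2 * (D.θ t) ^ 3) * h3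

/-- The set `U`. -/
def U : Set Γ := {x | ∃ t u v : K, x = D.wU t u v}

/-- The set `H`. -/
def H : Set Γ := {x | ∃ μ : Kˣ, x = D.hH μ}

theorem cube (t u v : K) : (D.wU t u v) ^ 3 = D.wU 0 0 (-(t ^ 2 * (D.θ t) ^ 3)) := by
  have h3 := D.three
  rw [pow_succ, pow_succ, pow_one, D.wU_mul, D.wU_mul]
  congr 1
  · linear_combination t * h3
  · linear_combination (u - t * (D.θ t) ^ 3) * h3
  · linear_combination (v - t * u) * h3

/-- `U` as a subgroup. -/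
def Usub : Subgroup Γ where
  carrier := {x | ∃ t u v : K, x = D.wU t u v}
  mul_mem' := by
    rintro _ _ ⟨t, u, v, rfl⟩ ⟨t', u', v', rfl⟩
    exact ⟨_, _, _, D.wU_mul t u v t' u' v'⟩
  one_mem' := ⟨0, 0, 0, D.wU_zero.symm⟩
  inv_mem' := by
    rintro _ ⟨t, u, v, rfl⟩
    exact ⟨_, _, _, D.wU_inv t u v⟩

theorem mem_Usub (x : Γ) : x ∈ D.Usub ↔ ∃ t u v : K, x = D.wU t u v := Iff.rfl

theorem wU_mem (t u v : K) : D.wU t u v ∈ D.Usub := ⟨t, u, v, rfl⟩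

/-- The first cell. -/
def B : Set Γ := {x | ∃ (t u v : K) (μ : Kˣ), x = D.wU t u v * D.hH μ}

theorem conj' (μ : Kˣ) (t u v : K) : D.hH μ * D.wU t u v =
    D.wU ((μ : K) ^ 2 * ((D.θ (μ : K)) ^ 3)⁻¹ * t) ((D.θ (μ : K)) ^ 3 * (μ : K)⁻¹ * u) ((μ : K) * v) * D.hH μ := by
  rw [← D.conj μ t u v]
  group

theorem hH_conj_mem (μ : Kˣ) (x : Γ) (hx : x ∈ D.Usub) : D.hH μ * x * (D.hH μ)⁻¹ ∈ D.Usub := by
  obtain ⟨t, u, v, rfl⟩ := hx
  rw [D.conj]
  exact D.wU_mem _ _ _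

theorem hH_conj_mem' (μ : Kˣ) (x : Γ) (hx : x ∈ D.Usub) : (D.hH μ)⁻¹ * x * D.hH μ ∈ D.Usub := by
  have := D.hH_conj_mem μ⁻¹ x hx
  rwa [map_inv, inv_inv] at this

theorem n_mul_hH (μ : Kˣ) : D.n * D.hH μ = D.hH μ⁻¹ * D.n := by
  rw [← D.n_conj μ]
  group

theorem B_mul_mem (x y : Γ) (hx : x ∈ D.B) (hy : y ∈ D.B) : x * y ∈ D.B := by
  obtain ⟨t, u, v, μ, rfl⟩ := hx
  obtain ⟨t', u', v', μ', rfl⟩ := hy
  have key : D.wU t u v * D.hH μ * (D.wU t' u' v' * D.hH μ') =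
      D.wU t u v * D.wU ((μ : K) ^ 2 * ((D.θ (μ : K)) ^ 3)⁻¹ * t') ((D.θ (μ : K)) ^ 3 * (μ : K)⁻¹ * u')
        ((μ : K) * v') * D.hH (μ * μ') := by
    rw [mul_assoc, ← mul_assoc (D.hH μ), D.conj', map_mul]
    simp only [mul_assoc]
  rw [key, D.wU_mul]
  exact ⟨_, _, _, _, rfl⟩

theorem hH_mem_B (μ : Kˣ) : D.hH μ ∈ D.B := ⟨0, 0, 0, μ, by rw [D.wU_zero, one_mul]⟩

theorem wU_mem_B (t u v : K) : D.wU t u v ∈ D.B := ⟨t, u, v, 1, by rw [map_one, mul_one]⟩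

theorem B_inv_mem (x : Γ) (hx : x ∈ D.B) : x⁻¹ ∈ D.B := by
  obtain ⟨t, u, v, μ, rfl⟩ := hx
  rw [mul_inv_rev, ← map_inv, D.wU_inv]
  exact D.B_mul_mem _ _ (D.hH_mem_B _) (D.wU_mem_B _ _ _)

/-- `B` as a subgroup. -/
def Bsub : Subgroup Γ where
  carrier := D.B
  mul_mem' := fun hx hy => D.B_mul_mem _ _ hx hy
  one_mem' := ⟨0, 0, 0, 1, by rw [D.wU_zero, map_one, mul_one]⟩
  inv_mem' := fun hx => D.B_inv_mem _ hx

theorem mem_Bsub (x : Γ) : x ∈ D.Bsub ↔ ∃ (t u v : K) (μ : Kˣ), x = D.wU t u v * D.hH μ := Iff.rfl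

theorem n_not_mem_B : D.n ∉ D.Bsub := by
  rintro ⟨t, u, v, μ, h⟩
  apply D.disj t u v μ 0 0 0 1 0 0 0
  rw [← h, D.wU_zero, map_one, one_mul, one_mul, mul_one]

theorem Usub_le_Bsub : D.Usub ≤ D.Bsub := by
  rintro _ ⟨t, u, v, rfl⟩
  exact D.wU_mem_B t u v

/-- `H` as a subgroup. -/
def Hsub : Subgroup Γ := D.hH.range

theorem mem_Hsub (x : Γ) : x ∈ D.Hsub ↔ ∃ μ : Kˣ, D.hH μ = x := MonoidHom.mem_range

theorem Hsub_le_Bsub : D.Hsub ≤ D.Bsub := by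
  rintro _ ⟨μ, rfl⟩
  exact D.hH_mem_B μ

/-- `U` is normal in `B`. -/
theorem B_conj_mem (g x : Γ) (hg : g ∈ D.Bsub) (hx : x ∈ D.Usub) : g * x * g⁻¹ ∈ D.Usub := by
  obtain ⟨t, u, v, μ, rfl⟩ := hg
  have e : D.wU t u v * D.hH μ * x * (D.wU t u v * D.hH μ)⁻¹ =
      D.wU t u v * (D.hH μ * x * (D.hH μ)⁻¹) * (D.wU t u v)⁻¹ := by group
  rw [e]
  exact D.Usub.mul_mem (D.Usub.mul_mem (D.wU_mem _ _ _) (D.hH_conj_mem μ x hx)) (D.Usub.inv_mem (D.wU_mem _ _ _))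

/-- An element of `U` whose conjugate under `n` lies in `U` is trivial. -/
theorem n_conj_trivial (x y : Γ) (hx : x ∈ D.Usub) (hy : y ∈ D.Usub) (h : D.n * x = y * D.n) : x = 1 := by
  obtain ⟨a, b, c, rfl⟩ := hx
  obtain ⟨a', b', c', rfl⟩ := hy
  have e : D.wU 0 0 0 * D.hH 1 * D.n * D.wU a b c = D.wU a' b' c' * D.hH 1 * D.n * D.wU 0 0 0 := by
    rw [D.wU_zero, map_one, one_mul, one_mul, mul_one, mul_one, h]
  obtain ⟨-, -, h1, h2, h3⟩ := D.uniq _ _ _ _ _ _ _ _ _ _ _ _ _ _ e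
  rw [h1, h2, h3, D.wU_zero]

/-- An element of the second cell conjugates no non-trivial element of `U` into `U`. -/
theorem cell_conj_trivial (u0 u1 : Γ) (hu0 : u0 ∈ D.Usub) (hu1 : u1 ∈ D.Usub) (μ : Kˣ) (x : Γ) (hx : x ∈ D.Usub)
    (h : (u0 * D.hH μ * D.n * u1) * x * (u0 * D.hH μ * D.n * u1)⁻¹ ∈ D.Usub) : x = 1 := by
  have h1 : u1 * x * u1⁻¹ ∈ D.Usub := D.Usub.mul_mem (D.Usub.mul_mem hu1 hx) (D.Usub.inv_mem hu1)
  have h2 : (D.hH μ)⁻¹ * (u0⁻¹ * ((u0 * D.hH μ * D.n * u1) * x * (u0 * D.hH μ * D.n * u1)⁻¹) * u0) * D.hH μ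
      ∈ D.Usub :=
    D.hH_conj_mem' μ _ (D.Usub.mul_mem (D.Usub.mul_mem (D.Usub.inv_mem hu0) h) hu0)
  have e : D.n * (u1 * x * u1⁻¹) =
      ((D.hH μ)⁻¹ * (u0⁻¹ * ((u0 * D.hH μ * D.n * u1) * x * (u0 * D.hH μ * D.n * u1)⁻¹) * u0) * D.hH μ) * D.n := by
    group
  have h3 := D.n_conj_trivial _ _ h1 h2 e
  have e2 : x = u1⁻¹ * (u1 * x * u1⁻¹) * u1 := by group
  rw [e2, h3]
  group

theorem wU_one_ne : D.wU 1 0 0 ≠ 1 := by
  intro h
  exact one_ne_zero ((D.wU_eq_one _ _ _).mp h).1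

/-- The normaliser of `U` is `B`. -/
theorem mem_Bsub_iff (g : Γ) : g ∈ D.Bsub ↔ ∀ x ∈ D.Usub, g * x * g⁻¹ ∈ D.Usub := by
  constructor
  · intro hg x hx
    exact D.B_conj_mem g x hg hx
  · intro h
    rcases D.cases g with ⟨t, u, v, μ, rfl⟩ | ⟨t, u, v, μ, t', u', v', rfl⟩
    · exact ⟨t, u, v, μ, rfl⟩
    · exfalso
      exact D.wU_one_ne (D.cell_conj_trivial _ _ (D.wU_mem t u v) (D.wU_mem t' u' v') μ _ (D.wU_mem 1 0 0)
        (h _ (D.wU_mem 1 0 0)))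

/-- `H` is the intersection of `B` with a conjugate. -/
theorem mem_Hsub_iff (x : Γ) : x ∈ D.Hsub ↔ x ∈ D.Bsub ∧ D.n * x * D.n⁻¹ ∈ D.Bsub := by
  constructor
  · rintro ⟨μ, rfl⟩
    refine ⟨D.hH_mem_B μ, ?_⟩
    rw [D.n_conj]
    exact D.hH_mem_B _
  · rintro ⟨⟨t, u, v, μ, rfl⟩, ⟨t', u', v', μ', h⟩⟩
    -- `n u = u' h'' n`
    have e : D.wU 0 0 0 * D.hH 1 * D.n * D.wU t u v = D.wU t' u' v' * D.hH (μ' * μ) * D.n * D.wU 0 0 0 := by
      have e1 : D.n * D.hH μ⁻¹ = D.hH μ * D.n := by rw [D.n_mul_hH, inv_inv]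
      rw [D.wU_zero, map_one, one_mul, one_mul, mul_one, map_mul]
      calc D.n * D.wU t u v = (D.n * (D.wU t u v * D.hH μ) * D.n⁻¹) * (D.n * D.hH μ⁻¹) := by
            rw [map_inv]; group
        _ = D.wU t' u' v' * (D.hH μ' * D.hH μ) * D.n := by
            rw [h, e1]; group
    obtain ⟨-, -, h1, h2, h3⟩ := D.uniq _ _ _ _ _ _ _ _ _ _ _ _ _ _ e
    rw [h1, h2, h3, D.wU_zero, one_mul]
    exact ⟨μ, rfl⟩

/-- An automorphism preserving `U` and `H`. -/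
def Good (ψ : MulAut Γ) : Prop :=
  (∀ x : Γ, x ∈ D.Usub ↔ ψ x ∈ D.Usub) ∧ (∀ x : Γ, x ∈ D.Hsub ↔ ψ x ∈ D.Hsub)

/-- Every automorphism preserves `U` up to an inner automorphism. -/
theorem exists_conj_U [Finite Γ] (σ : MulAut Γ) :
    ∃ g : Γ, ∀ x : Γ, x ∈ D.Usub ↔ (MulAut.conj g * σ) x ∈ D.Usub := by
  have : Fact (Nat.Prime 3) := ⟨Nat.prime_three⟩
  obtain ⟨S, hS⟩ := D.sylow
  obtain ⟨g, hg⟩ := MulAction.exists_smul_eq Γ (σ • S) S
  refine ⟨g, ?_⟩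
  have h1 : (MulAut.conj g * σ) • S = S := by
    rw [mul_smul, ← Sylow.smul_def]
    exact hg
  have h2 : ∀ x : Γ, x ∈ D.Usub ↔ x ∈ S := fun x => (hS x).symm
  intro x
  rw [h2, h2]
  have h3 : (MulAut.conj g * σ) x ∈ ((MulAut.conj g * σ) • S : Sylow 3 Γ) ↔ x ∈ S := by
    show (MulAut.conj g * σ) x ∈ (((MulAut.conj g * σ) • S : Sylow 3 Γ) : Subgroup Γ) ↔ x ∈ (S : Subgroup Γ)
    rw [Sylow.pointwise_smul_def, ← MulAut.smul_def]
    exact Subgroup.smul_mem_pointwise_smul_iff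
  rw [h1] at h3
  exact h3.symm

/-- An automorphism preserving `U` preserves `B`. -/
theorem B_iff_of_U (ψ : MulAut Γ) (h : ∀ x : Γ, x ∈ D.Usub ↔ ψ x ∈ D.Usub) (x : Γ) :
    x ∈ D.Bsub ↔ ψ x ∈ D.Bsub := by
  rw [D.mem_Bsub_iff, D.mem_Bsub_iff]
  constructor
  · intro hx z hz
    have hy : ψ.symm z ∈ D.Usub := by
      rw [h, MulEquiv.apply_symm_apply]
      exact hz
    have := (h _).mp (hx _ hy)
    rwa [map_mul, map_mul, map_inv, MulEquiv.apply_symm_apply] at this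
  · intro hx y hy
    rw [h, map_mul, map_mul, map_inv]
    exact hx _ ((h y).mp hy)

/-- Every automorphism preserves `U` and `H` up to an inner automorphism. -/
theorem exists_good [Finite Γ] (σ : MulAut Γ) : ∃ g : Γ, D.Good (MulAut.conj g * σ) := by
  obtain ⟨g1, h1⟩ := D.exists_conj_U σ
  set ψ1 := MulAut.conj g1 * σ with hψ1
  have hn : ψ1 D.n ∉ D.Bsub := fun h => D.n_not_mem_B ((D.B_iff_of_U ψ1 h1 _).mpr h)
  rcases D.cases (ψ1 D.n) with ⟨t, u, v, μ, e⟩ | ⟨t, u, v, μ, t', u', v', e⟩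
  · exact absurd ⟨t, u, v, μ, e⟩ hn
  · refine ⟨D.wU t' u' v' * g1, ?_⟩
    rw [map_mul, mul_assoc, ← hψ1]
    set ψ2 := MulAut.conj (D.wU t' u' v') * ψ1 with hψ2
    have hU2 : ∀ x : Γ, x ∈ D.Usub ↔ ψ2 x ∈ D.Usub := by
      intro x
      rw [hψ2, MulAut.mul_apply, MulAut.conj_apply, h1 x]
      constructor
      · intro hx
        exact D.Usub.mul_mem (D.Usub.mul_mem (D.wU_mem _ _ _) hx) (D.Usub.inv_mem (D.wU_mem _ _ _))
      · intro hx
        have := D.Usub.mul_mem (D.Usub.mul_mem (D.Usub.inv_mem (D.wU_mem t' u' v')) hx) (D.wU_mem t' u' v')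
        have e2 : (D.wU t' u' v')⁻¹ * (D.wU t' u' v' * ψ1 x * (D.wU t' u' v')⁻¹) * D.wU t' u' v' = ψ1 x := by group
        rwa [e2] at this
    refine ⟨hU2, ?_⟩
    intro x
    have e3 : ψ2 D.n = (D.wU t' u' v' * D.wU t u v * D.hH μ) * D.n := by
      rw [hψ2, MulAut.mul_apply, MulAut.conj_apply, e]
      group
    have hb : D.wU t' u' v' * D.wU t u v * D.hH μ ∈ D.Bsub :=
      D.Bsub.mul_mem (D.Bsub.mul_mem (D.wU_mem_B _ _ _) (D.wU_mem_B _ _ _)) (D.hH_mem_B _)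
    rw [D.mem_Hsub_iff, D.mem_Hsub_iff, ← D.B_iff_of_U ψ2 hU2 x, D.B_iff_of_U ψ2 hU2 (D.n * x * D.n⁻¹), map_mul,
      map_mul, map_inv, e3]
    have e4 : (D.wU t' u' v' * D.wU t u v * D.hH μ) * D.n * ψ2 x * ((D.wU t' u' v' * D.wU t u v * D.hH μ) * D.n)⁻¹ =
        (D.wU t' u' v' * D.wU t u v * D.hH μ) * (D.n * ψ2 x * D.n⁻¹) * (D.wU t' u' v' * D.wU t u v * D.hH μ)⁻¹ := by
      group
    rw [e4]
    constructor
    · rintro ⟨ha, hb2⟩
      refine ⟨ha, ?_⟩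
      have := D.Bsub.mul_mem (D.Bsub.mul_mem (D.Bsub.inv_mem hb) hb2) hb
      have e5 : (D.wU t' u' v' * D.wU t u v * D.hH μ)⁻¹ * ((D.wU t' u' v' * D.wU t u v * D.hH μ) *
          (D.n * ψ2 x * D.n⁻¹) * (D.wU t' u' v' * D.wU t u v * D.hH μ)⁻¹) * (D.wU t' u' v' * D.wU t u v * D.hH μ) =
          D.n * ψ2 x * D.n⁻¹ := by group
      rwa [e5] at this
    · rintro ⟨ha, hb2⟩
      exact ⟨ha, D.Bsub.mul_mem (D.Bsub.mul_mem hb hb2) (D.Bsub.inv_mem hb)⟩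

/-- The character of the torus on the first coordinate. -/
def ca (μ : Kˣ) : K := (μ : K) ^ 2 * ((D.θ (μ : K)) ^ 3)⁻¹

/-- The character of the torus on the second coordinate. -/
def cb (μ : Kˣ) : K := (D.θ (μ : K)) ^ 3 * (μ : K)⁻¹

theorem conj_eq (μ : Kˣ) (t u v : K) : D.hH μ * D.wU t u v * (D.hH μ)⁻¹ =
    D.wU (D.ca μ * t) (D.cb μ * u) ((μ : K) * v) := D.conj μ t u v

theorem theta_ne_zero (μ : Kˣ) : D.θ (μ : K) ≠ 0 := by
  intro h
  have := D.hθθ (μ : K)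
  rw [h, map_zero] at this
  exact μ.ne_zero (by rw [← this]; ring)

theorem ca_ne_zero (μ : Kˣ) : D.ca μ ≠ 0 := by
  unfold ca
  exact mul_ne_zero (pow_ne_zero _ μ.ne_zero) (inv_ne_zero (pow_ne_zero _ (D.theta_ne_zero μ)))

theorem ca_mul (μ ν : Kˣ) : D.ca (μ * ν) = D.ca μ * D.ca ν := by
  unfold ca
  rw [Units.val_mul, map_mul, mul_pow, mul_pow, mul_inv]
  ring

theorem ca_one : D.ca 1 = 1 := by
  unfold ca
  simp

theorem ca_eq_one (μ : Kˣ) (h : D.ca μ = 1) : μ = 1 := by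
  unfold ca at h
  have hθ := D.theta_ne_zero μ
  have h1 : (μ : K) ^ 2 = (D.θ (μ : K)) ^ 3 := by
    field_simp at h
    exact h
  have h2 : (D.θ (μ : K)) ^ 2 = (μ : K) := by
    have := congrArg D.θ h1
    rw [map_pow, map_pow, D.hθθ] at this
    exact this
  have h3 : (μ : K) ^ 4 = (μ : K) ^ 3 := by
    calc (μ : K) ^ 4 = ((μ : K) ^ 2) ^ 2 := by ring
      _ = ((D.θ (μ : K)) ^ 2) ^ 3 := by rw [h1]; ring
      _ = (μ : K) ^ 3 := by rw [h2]
  apply Units.ext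
  have h4 : (μ : K) ^ 3 * ((μ : K) - 1) = 0 := by linear_combination h3
  rcases mul_eq_zero.mp h4 with h5 | h5
  · exact absurd h5 (pow_ne_zero _ μ.ne_zero)
  · rw [Units.val_one]
    exact sub_eq_zero.mp h5

theorem ca_injective : Function.Injective D.ca := by
  intro μ ν h
  have h1 : D.ca (μ * ν⁻¹) = 1 := by
    have h2 := D.ca_mul (μ * ν⁻¹) ν
    rw [inv_mul_cancel_right, h] at h2
    exact (mul_eq_right₀ (D.ca_ne_zero ν)).mp h2.symm
  have := D.ca_eq_one _ h1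
  rwa [mul_inv_eq_one] at this

theorem cb_eq_one (μ : Kˣ) (h : D.cb μ = 1) : μ ^ 2 = 1 := by
  unfold cb at h
  have h1 : (D.θ (μ : K)) ^ 3 = (μ : K) := by
    have := μ.ne_zero
    field_simp at h
    exact h
  have h2 : (μ : K) = D.θ (μ : K) := by
    have := congrArg D.θ h1
    rw [map_pow, D.hθθ] at this
    exact this
  have h3 : (μ : K) ^ 3 = (μ : K) := by
    rw [← h2] at h1
    exact h1
  apply Units.ext
  rw [Units.val_pow_eq_pow_val, Units.val_one]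
  have h4 : (μ : K) * ((μ : K) ^ 2 - 1) = 0 := by linear_combination h3
  rcases mul_eq_zero.mp h4 with h5 | h5
  · exact absurd h5 μ.ne_zero
  · exact sub_eq_zero.mp h5

/-- A torus element with parameter not of square one centralises no non-trivial element of `U`. -/
theorem cent_trivial (ν : Kˣ) (hν : ν ^ 2 ≠ 1) (x : Γ) (hx : x ∈ D.Usub)
    (h : D.hH ν * x * (D.hH ν)⁻¹ = x) : x = 1 := by
  obtain ⟨t, u, v, rfl⟩ := hx
  rw [D.conj_eq] at h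
  obtain ⟨h1, h2, h3⟩ := D.wU_inj _ _ _ _ _ _ h
  have hν1 : ν ≠ 1 := by
    rintro rfl
    exact hν (one_pow 2)
  have key : ∀ c x : K, c ≠ 1 → c * x = x → x = 0 := by
    intro c x hc hx
    have h4 : (c - 1) * x = 0 := by linear_combination hx
    rcases mul_eq_zero.mp h4 with h5 | h5
    · exact absurd (sub_eq_zero.mp h5) hc
    · exact h5
  have ht : t = 0 := key _ _ (fun h => hν1 (D.ca_eq_one ν h)) h1
  have hu : u = 0 := key _ _ (fun h => hν (D.cb_eq_one ν h)) h2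
  have hv : v = 0 := key _ _ (fun h => hν1 (Units.ext (by rw [h, Units.val_one]))) h3
  rw [ht, hu, hv, D.wU_zero]

/-- An automorphism preserving `U` and `H` maps `n` into `H n`. -/
theorem good_n (ψ : MulAut Γ) (hψ : D.Good ψ) (ν : Kˣ) (hν : ν ^ 2 ≠ 1) : ∃ μ : Kˣ, ψ D.n = D.hH μ * D.n := by
  have hn : ψ D.n ∉ D.Bsub := fun h => D.n_not_mem_B ((D.B_iff_of_U ψ hψ.1 _).mpr h)
  rcases D.cases (ψ D.n) with ⟨t, u, v, μ, e⟩ | ⟨t, u, v, μ, t', u', v', e⟩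
  · exact absurd ⟨t, u, v, μ, e⟩ hn
  · -- a preimage of `hH ν`
    obtain ⟨ν1, hν1⟩ : ∃ ν1 : Kˣ, ψ (D.hH ν1) = D.hH ν := by
      have h1 : ψ.symm (D.hH ν) ∈ D.Hsub := by
        rw [hψ.2, MulEquiv.apply_symm_apply]
        exact ⟨ν, rfl⟩
      obtain ⟨ν1, h2⟩ := h1
      exact ⟨ν1, by rw [h2, MulEquiv.apply_symm_apply]⟩
    obtain ⟨ν2, hν2⟩ : ∃ ν2 : Kˣ, ψ (D.hH ν1⁻¹) = D.hH ν2 := by
      have h1 : ψ (D.hH ν1⁻¹) ∈ D.Hsub := (hψ.2 _).mp ⟨ν1⁻¹, rfl⟩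
      obtain ⟨ν2, h2⟩ := h1
      exact ⟨ν2, h2.symm⟩
    have h3 : ψ D.n * D.hH ν = D.hH ν2 * ψ D.n := by
      have := congrArg ψ (D.n_mul_hH ν1)
      rwa [map_mul, map_mul, hν1, hν2] at this
    rw [e] at h3
    have e1 : D.wU t u v * D.hH μ * D.n * D.wU t' u' v' * D.hH ν =
        D.wU t u v * D.hH (μ * ν⁻¹) * D.n * D.wU (D.ca ν⁻¹ * t') (D.cb ν⁻¹ * u') (((ν⁻¹ : Kˣ) : K) * v') := by
      have k : D.hH ν⁻¹ * D.n * D.hH ν⁻¹ = D.n := by
        rw [mul_assoc, D.n_mul_hH, inv_inv, ← mul_assoc, ← map_mul, inv_mul_cancel, map_one, one_mul]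
      rw [← D.conj_eq, map_mul]
      calc D.wU t u v * D.hH μ * D.n * D.wU t' u' v' * D.hH ν
          = D.wU t u v * D.hH μ * (D.hH ν⁻¹ * D.n * D.hH ν⁻¹) * D.wU t' u' v' * D.hH ν := by rw [k]
        _ = D.wU t u v * (D.hH μ * D.hH ν⁻¹) * D.n * (D.hH ν⁻¹ * D.wU t' u' v' * (D.hH ν⁻¹)⁻¹) := by
          rw [map_inv]; group
    have e2 : D.hH ν2 * (D.wU t u v * D.hH μ * D.n * D.wU t' u' v') =
        D.wU (D.ca ν2 * t) (D.cb ν2 * u) ((ν2 : K) * v) * D.hH (ν2 * μ) * D.n * D.wU t' u' v' := by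
      rw [← D.conj_eq, map_mul]
      group
    rw [e1, e2] at h3
    obtain ⟨⟨a1, a2, a3⟩, a4, b1, b2, b3⟩ := D.uniq _ _ _ _ _ _ _ _ _ _ _ _ _ _ h3
    have hν2' : ν2 = ν⁻¹ := by
      have : μ * ν⁻¹ = μ * ν2 := by rw [a4, mul_comm]
      exact (mul_left_cancel this).symm
    have hνi : (ν⁻¹) ^ 2 ≠ 1 := by
      rw [inv_pow]
      intro h
      exact hν (inv_eq_one.mp h)
    have c0 : D.wU t u v = 1 := by
      apply D.cent_trivial ν⁻¹ hνi _ (D.wU_mem t u v)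
      rw [D.conj_eq, ← hν2', ← a1, ← a2, ← a3]
    have c1 : D.wU t' u' v' = 1 := by
      apply D.cent_trivial ν⁻¹ hνi _ (D.wU_mem t' u' v')
      rw [D.conj_eq, b1, b2, b3]
    refine ⟨μ, ?_⟩
    rw [e, c0, c1, one_mul, mul_one]

/-- An automorphism preserving `U`, `H` and the first coordinate fixes `H` pointwise. -/
theorem good_hH (ψ : MulAut Γ) (hψ : D.Good ψ) (hf : ∀ t : K, ∃ u v : K, ψ (D.wU t 0 0) = D.wU t u v) (μ : Kˣ) :
    ψ (D.hH μ) = D.hH μ := by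
  obtain ⟨ρ, hρ⟩ : ∃ ρ : Kˣ, ψ (D.hH μ) = D.hH ρ := by
    obtain ⟨ρ, h⟩ := (hψ.2 _).mp ⟨μ, rfl⟩
    exact ⟨ρ, h.symm⟩
  obtain ⟨u, v, hx⟩ := hf 1
  obtain ⟨u', v', hx'⟩ := hf (D.ca μ)
  have h1 := congrArg ψ (D.conj_eq μ 1 0 0)
  rw [map_mul, map_mul, map_inv, hρ, hx, D.conj_eq, mul_one, mul_one, mul_zero, mul_zero, hx'] at h1
  obtain ⟨h2, -, -⟩ := D.wU_inj _ _ _ _ _ _ h1
  rw [hρ, D.ca_injective h2]

theorem theta_eq_zero (t : K) (h : D.θ t = 0) : t = 0 := by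
  have := D.hθθ t
  rw [h, map_zero] at this
  rw [← this]; ring

/-- An element of `U` of order dividing three has first coordinate zero. -/
theorem cube_eq_one (t u v : K) (h : (D.wU t u v) ^ 3 = 1) : t = 0 := by
  rw [D.cube, D.wU_eq_one] at h
  have h1 : t ^ 2 * (D.θ t) ^ 3 = 0 := by linear_combination -h.2.2
  rcases mul_eq_zero.mp h1 with h2 | h2
  · exact pow_eq_zero_iff (two_ne_zero) |>.mp h2
  · exact D.theta_eq_zero t (pow_eq_zero_iff (three_ne_zero) |>.mp h2)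

/-- The image of an element with first coordinate zero has first coordinate zero. -/
theorem good_first_zero (ψ : MulAut Γ) (hψ : D.Good ψ) (u v : K) : ∃ u' v' : K, ψ (D.wU 0 u v) = D.wU 0 u' v' := by
  obtain ⟨t', u', v', h⟩ := (hψ.1 _).mp (D.wU_mem 0 u v)
  have h1 : (D.wU 0 u v) ^ 3 = 1 := by
    rw [D.cube]
    simp [D.wU_zero]
  have h2 : (D.wU t' u' v') ^ 3 = 1 := by rw [← h, ← map_pow, h1, map_one]
  have h3 := D.cube_eq_one _ _ _ h2
  exact ⟨u', v', by rw [h, h3]⟩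

theorem central (v t' u' v' : K) : D.wU 0 0 v * D.wU t' u' v' = D.wU t' u' v' * D.wU 0 0 v := by
  rw [D.wU_mul, D.wU_mul]
  simp only [map_zero]
  congr 1 <;> ring

/-- An automorphism preserving `U`, `H` and the first coordinate fixes the centre of `U` pointwise. -/
theorem good_center (ψ : MulAut Γ) (hψ : D.Good ψ) (hf : ∀ t : K, ∃ u v : K, ψ (D.wU t 0 0) = D.wU t u v) (v : K) :
    ψ (D.wU 0 0 v) = D.wU 0 0 v := by
  have h3 := D.three
  have hd : ∀ v : K, ∃ d : K, ψ (D.wU 0 0 v) = D.wU 0 0 d := by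
    intro v
    obtain ⟨u', v', h⟩ := D.good_first_zero ψ hψ 0 v
    have hy : ψ.symm (D.wU 1 0 0) ∈ D.Usub := by
      rw [hψ.1, MulEquiv.apply_symm_apply]
      exact D.wU_mem _ _ _
    obtain ⟨a, b, c, hy'⟩ := hy
    have h1 := congrArg ψ (D.central v a b c)
    rw [map_mul, map_mul, ← hy', MulEquiv.apply_symm_apply, h, D.wU_mul, D.wU_mul] at h1
    obtain ⟨-, -, h2⟩ := D.wU_inj _ _ _ _ _ _ h1
    simp only [map_zero, map_one] at h2
    have hu : u' = 0 := by linear_combination -h2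
    exact ⟨v', by rw [h, hu]⟩
  choose d hd using hd
  have hmul : ∀ (μ : Kˣ) (v : K), d ((μ : K) * v) = (μ : K) * d v := by
    intro μ v
    have h1 := congrArg ψ (D.conj_eq μ 0 0 v)
    rw [map_mul, map_mul, map_inv, D.good_hH ψ hψ hf, hd, D.conj_eq, mul_zero, mul_zero, hd] at h1
    obtain ⟨-, -, h2⟩ := D.wU_inj _ _ _ _ _ _ h1
    exact h2.symm
  have hneg : d (-1) = -1 := by
    obtain ⟨a, b, hx⟩ := hf 1
    have h1 := congrArg ψ (D.cube 1 0 0)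
    rw [map_pow, hx, D.cube, map_one, one_pow, one_pow, mul_one, hd] at h1
    exact ((D.wU_inj _ _ _ _ _ _ h1).2.2).symm
  rw [hd]
  by_cases hv : v = 0
  · have h1 : ψ (D.wU 0 0 0) = D.wU 0 0 0 := by rw [D.wU_zero, map_one]
    rw [hv, ← hd, h1]
  · have hv' : -v ≠ 0 := neg_ne_zero.mpr hv
    have h1 := hmul (Units.mk0 (-v) hv') (-1)
    rw [Units.val_mk0, hneg] at h1
    have e : -v * -1 = v := by ring
    rw [e] at h1
    rw [h1]

include D in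
theorem two_ne : (2 : K) ≠ 0 := by
  intro h
  have h3 := D.three
  have : (1 : K) = 0 := by linear_combination h3 - h
  exact one_ne_zero this

theorem theta_neg_one : D.θ (-1 : K) = -1 := by
  rw [map_neg, map_one]

theorem cb_neg_one : D.cb (-1 : Kˣ) = 1 := by
  unfold cb
  rw [Units.val_neg, Units.val_one, D.theta_neg_one]
  norm_num

theorem ca_neg_one : D.ca (-1 : Kˣ) = -1 := by
  unfold ca
  rw [Units.val_neg, Units.val_one, D.theta_neg_one]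
  norm_num

/-- An automorphism preserving `U`, `H` and the first coordinate fixes the elements `wU 0 u 0`. -/
theorem good_second (ψ : MulAut Γ) (hψ : D.Good ψ) (hf : ∀ t : K, ∃ u v : K, ψ (D.wU t 0 0) = D.wU t u v) (u : K) :
    ψ (D.wU 0 u 0) = D.wU 0 u 0 := by
  obtain ⟨a', c', h⟩ := D.good_first_zero ψ hψ u 0
  -- the third coordinate vanishes
  have hc : c' = 0 := by
    have h1 := congrArg ψ (D.conj_eq (-1) 0 u 0)
    rw [map_mul, map_mul, map_inv, D.good_hH ψ hψ hf, h, D.conj_eq, D.cb_neg_one, one_mul, one_mul, mul_zero,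
      mul_zero, h] at h1
    obtain ⟨-, -, h2⟩ := D.wU_inj _ _ _ _ _ _ h1
    rw [Units.val_neg, Units.val_one] at h2
    have h4 : (2 : K) * c' = 0 := by linear_combination -h2
    rcases mul_eq_zero.mp h4 with h5 | h5
    · exact absurd h5 D.two_ne
    · exact h5
  -- the second coordinate is fixed
  obtain ⟨α, β, hx⟩ := hf 1
  have e1 : D.wU 0 u 0 * D.wU 1 0 0 = D.wU 1 0 0 * D.wU 0 u 0 * D.wU 0 0 (-u) := by
    rw [D.wU_mul, D.wU_mul, D.wU_mul]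
    simp only [map_zero, map_one]
    congr 1 <;> ring
  have h1 := congrArg ψ e1
  rw [map_mul, map_mul, map_mul, h, hx, D.good_center ψ hψ hf, hc, D.wU_mul, D.wU_mul, D.wU_mul] at h1
  obtain ⟨-, -, h2⟩ := D.wU_inj _ _ _ _ _ _ h1
  simp only [map_zero, map_one] at h2
  have ha : a' = u := by linear_combination -h2
  rw [h, hc, ha]

theorem wU_split (u v : K) : D.wU 0 u 0 * D.wU 0 0 v = D.wU 0 u v := by
  rw [D.wU_mul]
  simp only [map_zero]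
  congr 1 <;> ring

theorem good_second' (ψ : MulAut Γ) (hψ : D.Good ψ) (hf : ∀ t : K, ∃ u v : K, ψ (D.wU t 0 0) = D.wU t u v)
    (u v : K) : ψ (D.wU 0 u v) = D.wU 0 u v := by
  rw [← D.wU_split, map_mul, D.good_second ψ hψ hf, D.good_center ψ hψ hf]

theorem ca_surjective [Finite K] (l : K) (hl : l ≠ 0) : ∃ μ : Kˣ, D.ca μ = l := by
  let f : Kˣ → Kˣ := fun μ => Units.mk0 (D.ca μ) (D.ca_ne_zero μ)
  have hinj : Function.Injective f := by
    intro μ ν h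
    apply D.ca_injective
    have := congrArg Units.val h
    simpa [f] using this
  obtain ⟨μ, hμ⟩ := (Finite.injective_iff_surjective.mp hinj) (Units.mk0 l hl)
  refine ⟨μ, ?_⟩
  have := congrArg Units.val hμ
  simpa [f] using this

include D in
theorem cube_add (x y : K) : (x + y) ^ 3 = x ^ 3 + y ^ 3 := by
  have h3 := D.three
  linear_combination (x ^ 2 * y + x * y ^ 2) * h3

/-- An automorphism preserving `U`, `H` and the first coordinate fixes `U` pointwise. -/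
theorem good_first [Finite K] (hex : ∃ μ : K, μ ≠ 0 ∧ μ + 1 ≠ 0 ∧ (D.θ μ) ^ 3 ≠ μ)
    (ψ : MulAut Γ) (hψ : D.Good ψ) (hf : ∀ t : K, ∃ u v : K, ψ (D.wU t 0 0) = D.wU t u v) (t : K) :
    ψ (D.wU t 0 0) = D.wU t 0 0 := by
  have hf0 := hf
  choose α β hαβ using hf
  -- additivity
  have hadd : ∀ t t' : K, α (t + t') = α t + α t' ∧ β (t + t') = β t + β t' - t' * α t := by
    intro t t'
    have e1 : D.wU t 0 0 * D.wU t' 0 0 =
        D.wU (t + t') 0 0 * D.wU 0 (-(t * (D.θ t') ^ 3)) (t * t' * (D.θ t') ^ 3 - t ^ 2 * (D.θ t') ^ 3) := by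
      rw [D.wU_mul, D.wU_mul]
      simp only [map_zero]
      congr 1 <;> ring
    have h1 := congrArg ψ e1
    rw [map_mul, map_mul, hαβ, hαβ, hαβ, D.good_second' ψ hψ hf0, D.wU_mul, D.wU_mul] at h1
    obtain ⟨-, h2, h3⟩ := D.wU_inj _ _ _ _ _ _ h1
    simp only [map_zero] at h2 h3
    exact ⟨by linear_combination -h2, by linear_combination -h3⟩
  -- equivariance
  have heq : ∀ (μ : Kˣ) (t : K), α (D.ca μ * t) = D.cb μ * α t ∧ β (D.ca μ * t) = (μ : K) * β t := by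
    intro μ t
    have h1 := congrArg ψ (D.conj_eq μ t 0 0)
    rw [map_mul, map_mul, map_inv, D.good_hH ψ hψ hf0, hαβ, D.conj_eq, mul_zero, mul_zero, hαβ] at h1
    obtain ⟨-, h2, h3⟩ := D.wU_inj _ _ _ _ _ _ h1
    exact ⟨h2.symm, h3.symm⟩
  have hα0 : α 0 = 0 := by
    have := (hadd 0 0).1
    rw [add_zero] at this
    linear_combination -this
  have hα : ∀ t : K, α t = 0 := by
    intro t
    have h1 := (heq (-1) t).1
    rw [D.ca_neg_one, D.cb_neg_one, one_mul, neg_one_mul] at h1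
    have h2 := (hadd t (-t)).1
    rw [add_neg_cancel, hα0, h1] at h2
    have h4 : (2 : K) * α t = 0 := by linear_combination -h2
    rcases mul_eq_zero.mp h4 with h5 | h5
    · exact absurd h5 D.two_ne
    · exact h5
  have hβadd : ∀ t t' : K, β (t + t') = β t + β t' := by
    intro t t'
    have := (hadd t t').2
    rw [hα, mul_zero, sub_zero] at this
    exact this
  have hβ0 : β 0 = 0 := by
    have := hβadd 0 0
    rw [add_zero] at this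
    linear_combination -this
  have hβneg : ∀ t : K, β (-t) = -β t := by
    intro t
    have := hβadd t (-t)
    rw [add_neg_cancel, hβ0] at this
    linear_combination -this
  have hβ : ∀ t : K, β t = 0 := by
    by_contra hne
    obtain ⟨t0, ht0⟩ := not_forall.mp hne
    have key : ∀ μ μ' μ'' : Kˣ, (μ : K) + (μ' : K) = (μ'' : K) → D.ca μ + D.ca μ' = D.ca μ'' := by
      intro μ μ' μ'' hs
      by_contra hne
      have hl : D.ca μ + D.ca μ' - D.ca μ'' ≠ 0 := fun h => hne (by linear_combination h)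
      obtain ⟨ν, hν⟩ := D.ca_surjective _ hl
      have h1 : β ((D.ca μ + D.ca μ' - D.ca μ'') * t0) = 0 := by
        have e : (D.ca μ + D.ca μ' - D.ca μ'') * t0 = D.ca μ * t0 + D.ca μ' * t0 + -(D.ca μ'' * t0) := by ring
        rw [e, hβadd, hβadd, hβneg, (heq μ t0).2, (heq μ' t0).2, (heq μ'' t0).2, ← hs]
        ring
      rw [← hν, (heq ν t0).2] at h1
      rcases mul_eq_zero.mp h1 with h2 | h2
      · exact ν.ne_zero h2
      · exact ht0 h2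
    obtain ⟨μ, hμ0, hμ1, hμ⟩ := hex
    have h1 := key (Units.mk0 μ hμ0) 1 (Units.mk0 (μ + 1) hμ1) (by simp)
    rw [D.ca_one] at h1
    unfold ca at h1
    rw [Units.val_mk0, Units.val_mk0, map_add, map_one, D.cube_add, one_pow] at h1
    have hy : (D.θ μ) ^ 3 ≠ 0 := pow_ne_zero _ (fun h => hμ0 (D.theta_eq_zero μ h))
    have hy1 : (D.θ μ) ^ 3 + 1 ≠ 0 := by
      intro h
      apply hμ1
      apply D.theta_eq_zero
      have e : (D.θ (μ + 1)) ^ 3 = 0 := by rw [map_add, map_one, D.cube_add, one_pow, h]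
      exact pow_eq_zero_iff (three_ne_zero) |>.mp e
    have h2' : (μ ^ 2 + (D.θ μ) ^ 3) * ((D.θ μ) ^ 3 + 1) = (μ + 1) ^ 2 * (D.θ μ) ^ 3 := by
      have e1 : μ ^ 2 + (D.θ μ) ^ 3 = (μ ^ 2 * ((D.θ μ) ^ 3)⁻¹ + 1) * (D.θ μ) ^ 3 := by
        rw [add_mul, one_mul, mul_assoc, inv_mul_cancel₀ hy, mul_one]
      rw [e1, h1, mul_assoc, mul_assoc, mul_comm ((D.θ μ) ^ 3) ((D.θ μ) ^ 3 + 1), ← mul_assoc (((D.θ μ) ^ 3 + 1)⁻¹),
        inv_mul_cancel₀ hy1, one_mul]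
    have h2 : (μ - (D.θ μ) ^ 3) ^ 2 = 0 := by linear_combination h2'
    exact hμ (sub_eq_zero.mp (pow_eq_zero_iff (two_ne_zero) |>.mp h2)).symm
  rw [hαβ, hα, hβ]

theorem wU_split' (t u v : K) : D.wU t 0 0 * D.wU 0 u v = D.wU t u v := by
  rw [D.wU_mul]
  simp only [map_zero]
  congr 1 <;> ring

/-- An automorphism preserving `U`, `H` and the first coordinate is trivial. -/
theorem good_eq_one [Finite K] (hex : ∃ μ : K, μ ≠ 0 ∧ μ + 1 ≠ 0 ∧ (D.θ μ) ^ 3 ≠ μ) (hreg : ∃ ν : Kˣ, ν ^ 2 ≠ 1)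
    (ψ : MulAut Γ) (hψ : D.Good ψ) (hf : ∀ t : K, ∃ u v : K, ψ (D.wU t 0 0) = D.wU t u v) : ψ = 1 := by
  have hU : ∀ t u v : K, ψ (D.wU t u v) = D.wU t u v := by
    intro t u v
    rw [← D.wU_split', map_mul, D.good_first hex ψ hψ hf, D.good_second' ψ hψ hf]
  have hH : ∀ μ : Kˣ, ψ (D.hH μ) = D.hH μ := D.good_hH ψ hψ hf
  obtain ⟨ν, hν⟩ := hreg
  obtain ⟨μ0, hn⟩ := D.good_n ψ hψ ν hν
  have hμ0 : μ0 = 1 := by
    rcases D.cases (D.n * D.wU 1 0 0 * D.n⁻¹) with ⟨a, b, c, μ, e⟩ | ⟨a, b, c, μ, a', b', c', e⟩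
    · exfalso
      have e1 : D.wU 0 0 0 * D.hH 1 * D.n * D.wU 1 0 0 = D.wU a b c * D.hH μ * D.n * D.wU 0 0 0 := by
        rw [D.wU_zero, map_one, one_mul, one_mul, mul_one, ← e]
        group
      obtain ⟨-, -, h1, -, -⟩ := D.uniq _ _ _ _ _ _ _ _ _ _ _ _ _ _ e1
      exact one_ne_zero h1
    · have h1 := congrArg ψ e
      rw [map_mul, map_mul, map_mul, map_mul, map_mul, map_inv, hU, hU, hU, hH, hn] at h1
      have k : D.n * (D.hH μ0)⁻¹ = D.hH μ0 * D.n := by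
        rw [← map_inv, D.n_mul_hH, inv_inv]
      have e2 : D.hH μ0 * D.n * D.wU 1 0 0 * (D.hH μ0 * D.n)⁻¹ =
          D.wU (D.ca μ0 * a) (D.cb μ0 * b) ((μ0 : K) * c) * D.hH (μ0 * μ * μ0) * D.n *
            D.wU (D.ca μ0 * a') (D.cb μ0 * b') ((μ0 : K) * c') := by
        rw [← D.conj_eq, ← D.conj_eq, map_mul, map_mul]
        calc D.hH μ0 * D.n * D.wU 1 0 0 * (D.hH μ0 * D.n)⁻¹
            = D.hH μ0 * (D.n * D.wU 1 0 0 * D.n⁻¹) * (D.hH μ0)⁻¹ := by group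
          _ = D.hH μ0 * D.wU a b c * D.hH μ * (D.n * (D.hH μ0)⁻¹) * (D.hH μ0 * D.wU a' b' c' * (D.hH μ0)⁻¹) := by
            rw [e]; group
          _ = D.hH μ0 * D.wU a b c * (D.hH μ0)⁻¹ * (D.hH μ0 * D.hH μ * D.hH μ0) * D.n *
              (D.hH μ0 * D.wU a' b' c' * (D.hH μ0)⁻¹) := by
            rw [k]; group
      have e3 : D.wU a b c * D.hH μ * (D.hH μ0 * D.n) * D.wU a' b' c' =
          D.wU a b c * D.hH (μ * μ0) * D.n * D.wU a' b' c' := by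
        rw [map_mul]; group
      rw [e2, e3] at h1
      obtain ⟨-, h2, -⟩ := D.uniq _ _ _ _ _ _ _ _ _ _ _ _ _ _ h1
      have : μ0 * (μ * μ0) = 1 * (μ * μ0) := by rw [one_mul, ← mul_assoc]; exact h2
      exact mul_right_cancel this
  rw [hμ0, map_one, one_mul] at hn
  ext g
  rw [MulAut.one_apply]
  rcases D.cases g with ⟨t, u, v, μ, rfl⟩ | ⟨t, u, v, μ, t', u', v', rfl⟩
  · rw [map_mul, hU, hH]
  · rw [map_mul, map_mul, map_mul, hU, hU, hH, hn]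

theorem Good.mul {ψ φ : MulAut Γ} (hψ : D.Good ψ) (hφ : D.Good φ) : D.Good (ψ * φ) := by
  refine ⟨fun x => ?_, fun x => ?_⟩
  · rw [MulAut.mul_apply, ← hψ.1, ← hφ.1]
  · rw [MulAut.mul_apply, ← hψ.2, ← hφ.2]

theorem Good.inv {ψ : MulAut Γ} (hψ : D.Good ψ) : D.Good ψ⁻¹ := by
  refine ⟨fun x => ?_, fun x => ?_⟩
  · rw [hψ.1 (ψ⁻¹ x), MulAut.apply_inv_self]
  · rw [hψ.2 (ψ⁻¹ x), MulAut.apply_inv_self]

theorem good_fa (τ : K ≃+* K) : D.Good (D.fa τ) := by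
  have h1 : ∀ (τ : K ≃+* K) (x : Γ), x ∈ D.Usub → D.fa τ x ∈ D.Usub := by
    rintro τ _ ⟨t, u, v, rfl⟩
    rw [D.fa_wU]
    exact D.wU_mem _ _ _
  have h2 : ∀ (τ : K ≃+* K) (x : Γ), x ∈ D.Hsub → D.fa τ x ∈ D.Hsub := by
    rintro τ _ ⟨μ, rfl⟩
    rw [D.fa_hH]
    exact ⟨_, rfl⟩
  have e : ∀ x : Γ, D.fa τ⁻¹ (D.fa τ x) = x := by
    intro x
    rw [← MulAut.mul_apply, ← map_mul, inv_mul_cancel, map_one, MulAut.one_apply]
  refine ⟨fun x => ⟨h1 τ x, fun h => ?_⟩, fun x => ⟨h2 τ x, fun h => ?_⟩⟩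
  · rw [← e x]
    exact h1 _ _ h
  · rw [← e x]
    exact h2 _ _ h

theorem good_conj_hH (μ : Kˣ) : D.Good (MulAut.conj (D.hH μ)) := by
  refine ⟨fun x => ⟨fun h => ?_, fun h => ?_⟩, fun x => ⟨fun h => ?_, fun h => ?_⟩⟩
  · rw [MulAut.conj_apply]
    exact D.hH_conj_mem μ x h
  · rw [MulAut.conj_apply] at h
    have := D.hH_conj_mem' μ _ h
    have e : (D.hH μ)⁻¹ * (D.hH μ * x * (D.hH μ)⁻¹) * D.hH μ = x := by group
    rwa [e] at this
  · rw [MulAut.conj_apply]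
    exact D.Hsub.mul_mem (D.Hsub.mul_mem ⟨μ, rfl⟩ h) (D.Hsub.inv_mem ⟨μ, rfl⟩)
  · rw [MulAut.conj_apply] at h
    have := D.Hsub.mul_mem (D.Hsub.mul_mem (D.Hsub.inv_mem ⟨μ, rfl⟩) h) ⟨μ, rfl⟩
    have e : (D.hH μ)⁻¹ * (D.hH μ * x * (D.hH μ)⁻¹) * D.hH μ = x := by group
    rwa [e] at this

/-- The semilinear normalisation: after composing with a field automorphism and a torus element, the first coordinate
is preserved. -/
theorem exists_first [Finite K] (ψ : MulAut Γ) (hψ : D.Good ψ) : ∃ (τ : K ≃+* K) (μ0 : Kˣ),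
    ∀ t : K, ∃ u v : K, (MulAut.conj (D.hH μ0) * ψ * (D.fa τ)⁻¹) (D.wU t 0 0) = D.wU t u v := by
  have hex : ∀ t : K, ∃ a b c : K, ψ (D.wU t 0 0) = D.wU a b c := fun t => (hψ.1 _).mp (D.wU_mem t 0 0)
  choose f f2 f3 hf using hex
  have hρ : ∀ μ : Kˣ, ∃ ρ : Kˣ, ψ (D.hH μ) = D.hH ρ := by
    intro μ
    obtain ⟨ρ, h⟩ := (hψ.2 _).mp ⟨μ, rfl⟩
    exact ⟨ρ, h.symm⟩
  choose ρ hρ using hρ
  have hadd : ∀ t t' : K, f (t + t') = f t + f t' := by
    intro t t'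
    have e1 : D.wU t 0 0 * D.wU t' 0 0 =
        D.wU (t + t') 0 0 * D.wU 0 (-(t * (D.θ t') ^ 3)) (t * t' * (D.θ t') ^ 3 - t ^ 2 * (D.θ t') ^ 3) := by
      rw [D.wU_mul, D.wU_mul]
      simp only [map_zero]
      congr 1 <;> ring
    obtain ⟨u', v', h0⟩ := D.good_first_zero ψ hψ (-(t * (D.θ t') ^ 3)) (t * t' * (D.θ t') ^ 3 - t ^ 2 * (D.θ t') ^ 3)
    have h1 := congrArg ψ e1
    rw [map_mul, map_mul, hf, hf, hf, h0, D.wU_mul, D.wU_mul] at h1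
    obtain ⟨h2, -, -⟩ := D.wU_inj _ _ _ _ _ _ h1
    rw [add_zero] at h2
    exact h2.symm
  have hf0 : f 0 = 0 := by
    have := hadd 0 0
    rw [add_zero] at this
    linear_combination -this
  have hinj : ∀ t : K, f t = 0 → t = 0 := by
    intro t ht
    have h1 : (ψ (D.wU t 0 0)) ^ 3 = 1 := by
      rw [hf, ht, D.cube]
      simp [D.wU_zero]
    rw [← map_pow] at h1
    have h2 : (D.wU t 0 0) ^ 3 = 1 := by
      apply ψ.injective
      rw [h1, map_one]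
    exact D.cube_eq_one _ _ _ h2
  have heq : ∀ (μ : Kˣ) (t : K), f (D.ca μ * t) = D.ca (ρ μ) * f t := by
    intro μ t
    have h1 := congrArg ψ (D.conj_eq μ t 0 0)
    rw [map_mul, map_mul, map_inv, hρ, hf, D.conj_eq, mul_zero, mul_zero, hf] at h1
    exact ((D.wU_inj _ _ _ _ _ _ h1).1).symm
  have hc : f 1 ≠ 0 := fun h => one_ne_zero (hinj 1 h)
  -- the multiplicativity
  have hmul : ∀ l t : K, f (l * t) * f 1 = f l * f t := by
    intro l t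
    by_cases hl : l = 0
    · rw [hl, zero_mul, hf0, zero_mul, zero_mul]
    · obtain ⟨μ, hμ⟩ := D.ca_surjective l hl
      have h1 := heq μ t
      have h2 := heq μ 1
      rw [mul_one] at h2
      rw [hμ] at h1 h2
      rw [h1, h2]
      ring
  let τ0 : K →+* K :=
    { toFun := fun t => f t * (f 1)⁻¹
      map_one' := mul_inv_cancel₀ hc
      map_mul' := by
        intro x y
        show f (x * y) * (f 1)⁻¹ = f x * (f 1)⁻¹ * (f y * (f 1)⁻¹)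
        have := hmul x y
        field_simp
        linear_combination this
      map_zero' := by
        show f 0 * (f 1)⁻¹ = 0
        rw [hf0, zero_mul]
      map_add' := by
        intro x y
        show f (x + y) * (f 1)⁻¹ = f x * (f 1)⁻¹ + f y * (f 1)⁻¹
        rw [hadd, add_mul] }
  have hτ0 : ∀ t : K, τ0 t = f t * (f 1)⁻¹ := fun t => rfl
  have hbij : Function.Bijective τ0 := ⟨τ0.injective, Finite.injective_iff_surjective.mp τ0.injective⟩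
  let τ : K ≃+* K := RingEquiv.ofBijective τ0 hbij
  have hτ : ∀ t : K, τ t = f t * (f 1)⁻¹ := fun t => rfl
  obtain ⟨μ0, hμ0⟩ := D.ca_surjective (f 1)⁻¹ (inv_ne_zero hc)
  refine ⟨τ, μ0, ?_⟩
  intro t
  have e1 : (D.fa τ)⁻¹ (D.wU t 0 0) = D.wU (τ.symm t) 0 0 := by
    have e0 : D.fa τ (D.wU (τ.symm t) 0 0) = D.wU t 0 0 := by
      rw [D.fa_wU, map_zero, RingEquiv.apply_symm_apply]
    rw [← e0, MulAut.inv_apply_self]
  rw [MulAut.mul_apply, MulAut.mul_apply, e1, hf, MulAut.conj_apply, D.conj_eq]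
  have e2 : D.ca μ0 * f (τ.symm t) = t := by
    have := hτ (τ.symm t)
    rw [RingEquiv.apply_symm_apply] at this
    rw [hμ0, mul_comm]
    exact this.symm
  rw [e2]
  exact ⟨_, _, rfl⟩

/-- Every automorphism is the product of an inner automorphism and a field automorphism. -/
theorem aut_decomp [Finite Γ] [Finite K] (hex : ∃ μ : K, μ ≠ 0 ∧ μ + 1 ≠ 0 ∧ (D.θ μ) ^ 3 ≠ μ)
    (hreg : ∃ ν : Kˣ, ν ^ 2 ≠ 1) (σ : MulAut Γ) : ∃ (g : Γ) (τ : K ≃+* K), σ = MulAut.conj g * D.fa τ := by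
  obtain ⟨g1, h1⟩ := D.exists_good σ
  obtain ⟨τ, μ0, h2⟩ := D.exists_first _ h1
  have hg : D.Good (MulAut.conj (D.hH μ0) * (MulAut.conj g1 * σ) * (D.fa τ)⁻¹) :=
    ReeData.Good.mul D (ReeData.Good.mul D (D.good_conj_hH μ0) h1) (ReeData.Good.inv D (D.good_fa τ))
  have h3 := D.good_eq_one hex hreg _ hg h2
  refine ⟨(D.hH μ0 * g1)⁻¹, τ, ?_⟩
  have h4 : MulAut.conj (D.hH μ0) * (MulAut.conj g1 * σ) = D.fa τ := by
    rw [mul_inv_eq_one] at h3
    exact h3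
  rw [← h4, map_inv, map_mul]
  group

theorem B_uniq (t u v : K) (μ : Kˣ) (t' u' v' : K) (μ' : Kˣ)
    (h : D.wU t u v * D.hH μ = D.wU t' u' v' * D.hH μ') : D.wU t u v = D.wU t' u' v' ∧ μ = μ' := by
  have h1 : (D.wU t' u' v')⁻¹ * D.wU t u v = D.hH (μ' * μ⁻¹) := by
    rw [map_mul, map_inv, eq_mul_inv_iff_mul_eq, mul_assoc, h]
    group
  obtain ⟨a, b, c, h2⟩ := D.Usub.mul_mem (D.Usub.inv_mem (D.wU_mem t' u' v')) (D.wU_mem t u v)
  rw [h2] at h1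
  have h3 := D.UH _ _ _ _ h1
  have h4 : μ = μ' := (mul_inv_eq_one.mp h3).symm
  refine ⟨?_, h4⟩
  rw [h4] at h
  exact mul_right_cancel h

/-- A field automorphism which is inner is trivial. -/
theorem fa_inner (hreg : ∃ ν : Kˣ, ν ^ 2 ≠ 1) (τ : K ≃+* K) (c : Γ) (h : D.fa τ = MulAut.conj c) (x : K) :
    τ x = x := by
  have hc : ∀ y : Γ, c * y * c⁻¹ = D.fa τ y := by
    intro y
    rw [h, MulAut.conj_apply]
  have hB : c ∈ D.Bsub := by
    rw [D.mem_Bsub_iff]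
    intro y hy
    rw [hc]
    exact ((D.good_fa τ).1 y).mp hy
  obtain ⟨a, b, d, μ, rfl⟩ := hB
  obtain ⟨ν, hν⟩ := hreg
  -- the unipotent part is trivial
  have hw : D.wU a b d = 1 := by
    apply D.cent_trivial ν hν _ (D.wU_mem a b d)
    have h1 := hc (D.hH ν)
    rw [D.fa_hH] at h1
    have h2 : D.wU a b d * D.hH ν = D.wU (D.ca (Units.map (τ : K →* K) ν) * a) (D.cb (Units.map (τ : K →* K) ν) * b)
        (((Units.map (τ : K →* K) ν : Kˣ) : K) * d) * D.hH (Units.map (τ : K →* K) ν) := by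
      rw [← D.conj_eq, ← h1]
      have e : D.hH μ * D.hH ν * (D.hH μ)⁻¹ = D.hH ν := by
        rw [← map_mul, ← map_inv, ← map_mul, mul_comm, inv_mul_cancel_left]
      calc D.wU a b d * D.hH ν = D.wU a b d * (D.hH μ * D.hH ν * (D.hH μ)⁻¹) := by rw [e]
        _ = _ := by group
    obtain ⟨h3, h4⟩ := D.B_uniq _ _ _ _ _ _ _ _ h2
    rw [D.conj_eq, h4]
    exact h3.symm
  rw [hw, one_mul] at hc
  have h1 := hc (D.wU x 0 0)
  have h2 := hc (D.wU 1 0 0)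
  rw [D.conj_eq, D.fa_wU] at h1 h2
  obtain ⟨h3, -, -⟩ := D.wU_inj _ _ _ _ _ _ h1
  obtain ⟨h4, -, -⟩ := D.wU_inj _ _ _ _ _ _ h2
  rw [map_one, mul_one] at h4
  rw [h4, one_mul] at h3
  exact h3.symm

/-- The outer automorphism group is in bijection with the automorphism group of the field. -/
theorem card_out [Finite Γ] [Finite K] (hex : ∃ μ : K, μ ≠ 0 ∧ μ + 1 ≠ 0 ∧ (D.θ μ) ^ 3 ≠ μ)
    (hreg : ∃ ν : Kˣ, ν ^ 2 ≠ 1) : Nat.card (Cfsg.Out Γ) = Nat.card (K ≃+* K) := by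
  symm
  let Ψ : (K ≃+* K) → Cfsg.Out Γ := fun τ => QuotientGroup.mk (D.fa τ)
  have hΨ : Function.Bijective Ψ := by
    constructor
    · intro τ τ' h
      have h1 : (D.fa τ)⁻¹ * D.fa τ' ∈ Cfsg.Inn Γ := QuotientGroup.eq.1 h
      obtain ⟨c, hc⟩ := h1
      have h2 : D.fa (τ⁻¹ * τ') = MulAut.conj c := by
        rw [map_mul, map_inv, hc]
      ext x
      have h3 := D.fa_inner hreg _ c h2 x
      rw [RingAut.mul_apply] at h3
      have h4 : τ (τ⁻¹ (τ' x)) = τ' x := by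
        rw [← RingAut.mul_apply, mul_inv_cancel, RingAut.one_apply]
      rw [← h4, h3]
    · intro o
      obtain ⟨σ, rfl⟩ := QuotientGroup.mk_surjective o
      obtain ⟨g, τ, h⟩ := D.aut_decomp hex hreg σ
      refine ⟨τ, ?_⟩
      show (QuotientGroup.mk (D.fa τ) : Cfsg.Out Γ) = QuotientGroup.mk σ
      rw [h, QuotientGroup.mk_mul]
      have : (QuotientGroup.mk (MulAut.conj g) : Cfsg.Out Γ) = 1 :=
        (QuotientGroup.eq_one_iff _).2 ⟨g, rfl⟩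
      rw [this, one_mul]
  exact Nat.card_congr (Equiv.ofBijective Ψ hΨ)

end ReeData

end Cfsg.Agent.Lib.Helper36_ReeOutAlg
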