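import Cfsg.Agent.Lib.Helper36_GraphAutG2Main
import Cfsg.Agent.Lib.Helper36_ReeAlg
import Cfsg.Agent.Lib.Helper36_TwistW
import Cfsg.Agent.Lib.Helper18_ChevDatumG2
import Cfsg.Agent.Lib.Helper18_ChevTCertG2
import Cfsg.Agent.Lib.Helper18_ChevACerts
import Cfsg.Agent.Lib.Helper18_ChevGCertG2
import Cfsg.Agent.Lib.Helper18_ChevPCertG2
import Cfsg.Agent.Lib.Helper18_ChevComm2
import Cfsg.Prelude.Def_LieTwisted

set_option autoImplicit false

/-!
The set-up for the twisted groups of type `²G₂`: the root elements of the Chevalley group of type `G₂` in characteristic 3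
as elements of the group, the exceptional endomorphism, and the two systems of root elements (positive and negative)
to which the algebra of the fixed elements applies.
-/

namespace Cfsg.Agent.Lib.Helper36_ReeSetup

open Cfsg Cfsg.Lie Cfsg.Agent.Lib.Helper18_ChevFast Cfsg.Agent.Lib.Helper18_ChevEngine
  Cfsg.Agent.Lib.Helper18_ChevN Cfsg.Agent.Lib.Helper18_ChevWeyl
  Cfsg.Agent.Lib.Helper18_ChevGL Cfsg.Agent.Lib.Helper18_ChevTri
  Cfsg.Agent.Lib.Helper18_ChevAdd Cfsg.Agent.Lib.Helper18_ChevUni Cfsg.Agent.Lib.Helper18_ChevComm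
  Cfsg.Agent.Lib.Helper36_TwistU Cfsg.Agent.Lib.Helper36_TwistW
  Cfsg.Agent.Lib.Helper36_GraphAut Cfsg.Agent.Lib.Helper36_GraphAutG2 Cfsg.Agent.Lib.Helper36_GraphAutG2Main
  Cfsg.Agent.Lib.Helper36_ReeAlg

/-- The list of the elements `n_i` of the certificate. -/
abbrev Ns : List NData := Cfsg.Agent.Lib.Helper18_ChevDatumG2.Ns

/-- The certificate of the datum. -/
abbrev dc : DCert chevG2 Ns := Cfsg.Agent.Lib.Helper18_ChevDatumG2.dcert

/-- The weights of the grading. -/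
abbrev gw : List ℤ := Cfsg.Agent.Lib.Helper18_ChevGCertG2.w

section

variable {K : Type*} [Field K]

theorem certs : Certs chevG2 Ns K Cfsg.Agent.Lib.Helper18_ChevACerts.wlG2 Cfsg.Agent.Lib.Helper18_ChevACerts.wsG2 1 gw where
  c := dc
  tc := Cfsg.Agent.Lib.Helper18_ChevTCertG2.tcert
  ac := Cfsg.Agent.Lib.Helper18_ChevACerts.acertG2
  gc := Cfsg.Agent.Lib.Helper18_ChevGCertG2.gcert
  r2 := Cfsg.Agent.Lib.Helper18_ChevComm2.r2_all dc Cfsg.Agent.Lib.Helper18_ChevPCertG2.pcert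

/-- The root elements as elements of the Chevalley group. -/
def xG (r : ℕ) (t : K) : ↥(chevG2.group K) := ⟨xGL dc r t, xGL_mem_group dc r t⟩

theorem xG_coe (r : ℕ) (t : K) : ((xG r t : ↥(chevG2.group K)) : GL chevG2.Idx K) = xGL dc r t := rfl

theorem xG_mat (r : ℕ) (t : K) :
    (((xG r t : ↥(chevG2.group K)) : GL chevG2.Idx K) : Matrix chevG2.Idx chevG2.Idx K) = chevG2.x K r t := rfl

theorem xG_add (r : ℕ) (s t : K) : xG r (s + t) = xG r s * xG r t := by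
  apply Subtype.ext
  rw [Subgroup.coe_mul, xG_coe, xG_coe, xG_coe, xGL_mul]

theorem xG_zero (r : ℕ) : xG r (0 : K) = 1 := by
  apply Subtype.ext
  rw [xG_coe, xGL_zero]
  rfl

theorem xG_comm (r s : ℕ) (hr : r < chevG2.nroots) (hs : s < chevG2.nroots) (hne : r ≠ s) (hsn : s ≠ chevG2.neg r)
    (h : chevG2.commTerms r s = []) (a b : K) : Commute (xG r a) (xG s b) := by
  have := comm_of_terms' (certs (K := K)) r s hr hs hne hsn h a b
  unfold Commute SemiconjBy at this ⊢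
  apply Subtype.ext
  rw [Subgroup.coe_mul, Subgroup.coe_mul, xG_coe, xG_coe]
  exact this

end

section

variable {K : Type*} [Field K] [CharP K 3]

theorem three_eq_zero : (3 : K) = 0 := by
  have h1 : ((3 : ℕ) : K) = 0 := (CharP.cast_eq_zero_iff K 3 3).mpr (dvd_refl 3)
  exact_mod_cast h1

/-- Commutation of two root elements whose commutator has a coefficient divisible by 3. -/
theorem xG_comm3 (r s k : ℕ) (c : ℤ) (hr : r < chevG2.nroots) (hs : s < chevG2.nroots) (hne : r ≠ s)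
    (hsn : s ≠ chevG2.neg r) (h : chevG2.commTerms r s = [(k, 3 * c, 1, 1)]) (a b : K) :
    Commute (xG r a) (xG s b) := by
  have h2 := (certs (K := K)).r2 r s hr hs (fun h => hne h.symm) hsn a b
  rw [commWord_eq, h] at h2
  have h3 : chevG2.wordMat K (termWord a b [(k, 3 * c, 1, 1)]) = 1 := by
    unfold termWord ChevalleyDatum.wordMat
    have e : (((3 * c : ℤ) : K)) = 0 := by
      push_cast
      rw [three_eq_zero, zero_mul]
    simp only [List.map_cons, List.map_nil, List.prod_cons, List.prod_nil, mul_one, e, zero_mul]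
    have := xGL_zero (F := K) dc k
    have h4 := congrArg (fun g : GL chevG2.Idx K => (g : Matrix chevG2.Idx chevG2.Idx K)) this
    simpa using h4
  rw [h3, mul_one] at h2
  unfold Commute SemiconjBy
  apply Subtype.ext
  apply Units.ext
  rw [Subgroup.coe_mul, Subgroup.coe_mul, Units.val_mul, Units.val_mul, xG_mat, xG_mat]
  exact h2.symm

theorem cube_add (x y : K) : (x + y) ^ 3 = x ^ 3 + y ^ 3 := by
  have : Fact (Nat.Prime 3) := ⟨Nat.prime_three⟩
  exact add_pow_char x y 3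

/-- The image of a root element under the endomorphism. -/
theorem sig_xG (f1 : K →+* K) (r : ℕ) (hr : r < chevG2.nroots) (t : K) :
    sig f1 (xG r t) = xG (gdata.rho r) ((f1 t) ^ gdata.lam r) := by
  apply Subtype.ext
  apply Units.ext
  rw [sig_x f1 (xG r t) r hr t (xG_mat r t), xG_mat]

/-- The hypotheses on the six roots of one of the two systems. -/
structure RootsOK (a b x1 x2 x3 x4 : ℕ) (e : ℤ) : Prop where
  lt : a < 12 ∧ b < 12 ∧ x1 < 12 ∧ x2 < 12 ∧ x3 < 12 ∧ x4 < 12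
  ne : b ≠ a ∧ b ≠ chevG2.neg a
  terms : chevG2.commTerms a b = [(x1, -e, 1, 1), (x2, 1, 2, 1), (x3, e, 3, 1), (x4, 1, 3, 2)]
  c12 : x1 ≠ x2 ∧ x2 ≠ chevG2.neg x1 ∧ chevG2.commTerms x1 x2 = [(x4, 3 * e, 1, 1)]
  c13 : x1 ≠ x3 ∧ x3 ≠ chevG2.neg x1 ∧ chevG2.commTerms x1 x3 = []
  c14 : x1 ≠ x4 ∧ x4 ≠ chevG2.neg x1 ∧ chevG2.commTerms x1 x4 = []
  c23 : x2 ≠ x3 ∧ x3 ≠ chevG2.neg x2 ∧ chevG2.commTerms x2 x3 = []
  c24 : x2 ≠ x4 ∧ x4 ≠ chevG2.neg x2 ∧ chevG2.commTerms x2 x4 = []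
  c34 : x3 ≠ x4 ∧ x4 ≠ chevG2.neg x3 ∧ chevG2.commTerms x3 x4 = []
  rho : gdata.rho a = b ∧ gdata.rho b = a ∧ gdata.rho x1 = x3 ∧ gdata.rho x3 = x1 ∧ gdata.rho x2 = x4 ∧
    gdata.rho x4 = x2
  lam : gdata.lam a = 3 ∧ gdata.lam b = 1 ∧ gdata.lam x1 = 3 ∧ gdata.lam x3 = 1 ∧ gdata.lam x2 = 3 ∧
    gdata.lam x4 = 1
  eps : e = 1 ∨ e = -1

theorem posOK : RootsOK 7 6 8 9 10 11 1 := by
  constructor <;> decide +kernel

theorem negOK : RootsOK 4 5 3 2 1 0 (-1) := by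
  constructor <;> decide +kernel

/-- The system of root elements of six roots. -/
noncomputable def mkSys {a b x1 x2 x3 x4 : ℕ} {e : ℤ} (h : RootsOK a b x1 x2 x3 x4 e) (θ : K →+* K)
    (hθ : ∀ x : K, (θ (θ x)) ^ 3 = x) : ReeSys ↥(chevG2.group K) K where
  A := xG a
  Bb := xG b
  X1 := xG x1
  X2 := xG x2
  X3 := xG x3
  X4 := xG x4
  ε := ((e : ℤ) : K)
  θ := θ
  σ := sig θ
  hε := by rcases h.eps with h1 | h1 <;> rw [h1] <;> simp
  hθε := by rw [map_intCast]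
  hθ := hθ
  cube_add := cube_add
  A_add := xG_add a
  B_add := xG_add b
  X1_add := xG_add x1
  X2_add := xG_add x2
  X3_add := xG_add x3
  X4_add := xG_add x4
  c12 := xG_comm3 x1 x2 x4 e h.lt.2.2.1 h.lt.2.2.2.1 h.c12.1 h.c12.2.1 h.c12.2.2
  c13 := xG_comm x1 x3 h.lt.2.2.1 h.lt.2.2.2.2.1 h.c13.1 h.c13.2.1 h.c13.2.2
  c14 := xG_comm x1 x4 h.lt.2.2.1 h.lt.2.2.2.2.2 h.c14.1 h.c14.2.1 h.c14.2.2
  c23 := xG_comm x2 x3 h.lt.2.2.2.1 h.lt.2.2.2.2.1 h.c23.1 h.c23.2.1 h.c23.2.2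
  c24 := xG_comm x2 x4 h.lt.2.2.2.1 h.lt.2.2.2.2.2 h.c24.1 h.c24.2.1 h.c24.2.2
  c34 := xG_comm x3 x4 h.lt.2.2.2.2.1 h.lt.2.2.2.2.2 h.c34.1 h.c34.2.1 h.c34.2.2
  rel := by
    intro t u
    have h2 := (certs (K := K)).r2 a b h.lt.1 h.lt.2.1 h.ne.1 h.ne.2 t u
    rw [commWord_eq, h.terms] at h2
    apply Subtype.ext
    apply Units.ext
    simp only [Subgroup.coe_mul, Units.val_mul, xG_mat]
    rw [h2]
    congr 1
    unfold termWord ChevalleyDatum.wordMat
    simp only [List.map_cons, List.map_nil, List.prod_cons, List.prod_nil, mul_one]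
    rw [← mul_assoc, ← mul_assoc]
    congr 1
    · congr 1
      · congr 1
        · congr 1
          push_cast
          ring
        · congr 1
          push_cast
          ring
      · congr 1
        ring
    · congr 1
      simp only [Int.cast_one]
      ring
  σA := by
    intro t
    rw [sig_xG θ a h.lt.1, h.rho.1, h.lam.1]
  σB := by
    intro t
    rw [sig_xG θ b h.lt.2.1, h.rho.2.1, h.lam.2.1, pow_one]
  σX1 := by
    intro t
    rw [sig_xG θ x1 h.lt.2.2.1, h.rho.2.2.1, h.lam.2.2.1]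
  σX3 := by
    intro t
    rw [sig_xG θ x3 h.lt.2.2.2.2.1, h.rho.2.2.2.1, h.lam.2.2.2.1, pow_one]
  σX2 := by
    intro t
    rw [sig_xG θ x2 h.lt.2.2.2.1, h.rho.2.2.2.2.1, h.lam.2.2.2.2.1]
  σX4 := by
    intro t
    rw [sig_xG θ x4 h.lt.2.2.2.2.2, h.rho.2.2.2.2.2, h.lam.2.2.2.2.2, pow_one]

end

end Cfsg.Agent.Lib.Helper36_ReeSetup
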