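import Cfsg.Agent.Lib.Helper36_ReeOdd
import Cfsg.Agent.Lib.Helper36_ReeSylow

set_option autoImplicit false

/-!
The stabilisers of three points in the action of the twisted group of type `²G₂` on the cosets of `B¹`.
-/

namespace Cfsg.Agent.Lib.Helper36_ReeStab

open Cfsg Cfsg.Lie Cfsg.Agent.Lib.Helper36_ReeFix Cfsg.Agent.Lib.Helper36_ReeBruhat
  Cfsg.Agent.Lib.Helper36_ReeH Cfsg.Agent.Lib.Helper36_ReePerf Cfsg.Agent.Lib.Helper36_ReeOrder
  Cfsg.Agent.Lib.Helper36_ReeBN Cfsg.Agent.Lib.Helper36_ChevBorel Cfsg.Agent.Lib.Helper36_ChevTables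
  Cfsg.Agent.Lib.Helper36_ReeTw Cfsg.Agent.Lib.Helper36_ReeSylow Cfsg.Agent.Lib.Helper36_ReeOdd
  Cfsg.Agent.Lib.Helper36_ChevCore Cfsg.Agent.Lib.Helper36_ChevTorus Cfsg.Agent.Lib.Helper36_ReeAlg

theorem cartanOK3 : chevG2.cartan 0 8 = -1 ∧ chevG2.cartan 1 8 = 1 ∧ chevG2.cartan 0 10 = 3 ∧
    chevG2.cartan 1 10 = -1 := by decide +kernel

section

variable {K : Type*} [Field K] [Fintype K] [CharP K 3] {m : ℕ} (hK : Fintype.card K = 3 ^ (2 * m + 1))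

/-- Conjugation with the inverse of the chosen monomial element preserves `H`. -/
theorem m0_inv_conj_H (h : GL chevG2.Idx K) (hh : h ∈ chevG2.diagonalSubgroup K) :
    (m0 hK)⁻¹ * h * m0 hK ∈ chevG2.diagonalSubgroup K := by
  have h1 := monomial_le_normalizer chevG2 K (hfK K) (Subgroup.inv_mem _ (m0_mono hK))
  have h2 := (Subgroup.mem_normalizer_iff.mp h1 h).mp hh
  rw [inv_inv] at h2
  exact h2

/-- An element of `U` whose conjugate under the inverse of the chosen monomial element lies in `B` is trivial. -/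
theorem U_conj_trivial (y : GL chevG2.Idx K) (hy : y ∈ chevG2.posUnipotent K)
    (hB : (m0 hK)⁻¹ * y * m0 hK ∈ chevG2.borelSubgroup K) : y = 1 := by
  have hHle : chevG2.diagonalSubgroup K ≤ chevG2.borelSubgroup K := le_sup_right
  have hUV := (Cfsg.Agent.S1037.result (F := K) chevG2 hD).1
  have hd := hHle (m0_sq hK)
  have h1 : m0 hK * y * (m0 hK)⁻¹ ∈ chevG2.borelSubgroup K ⊓ chevG2.negUnipotent K := by
    refine ⟨?_, m0_conj_U hK y hy⟩
    have e : m0 hK * y * (m0 hK)⁻¹ = (m0 hK * m0 hK) * ((m0 hK)⁻¹ * y * m0 hK) * (m0 hK * m0 hK)⁻¹ := by group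
    rw [e]
    exact Subgroup.mul_mem _ (Subgroup.mul_mem _ hd hB) (Subgroup.inv_mem _ hd)
  rw [hUV, Subgroup.mem_bot] at h1
  have e : y = (m0 hK)⁻¹ * (m0 hK * y * (m0 hK)⁻¹) * m0 hK := by group
  rw [e, h1]
  group

include hK in
/-- An element of the twisted group in `B` whose conjugate under the chosen monomial element lies in `B` lies in
`H`. -/
theorem diag_of_conj (c : GL chevG2.Idx K) (hc : c ∈ twistedG2 K (3 ^ m)) (h1 : c ∈ chevG2.borelSubgroup K)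
    (h2 : m0 hK * c * (m0 hK)⁻¹ ∈ chevG2.borelSubgroup K) : c ∈ chevG2.diagonalSubgroup K := by
  have hBle : chevG2.posUnipotent K ≤ chevG2.borelSubgroup K := le_sup_left
  have hHle : chevG2.diagonalSubgroup K ≤ chevG2.borelSubgroup K := le_sup_right
  have hBN := (Cfsg.Agent.S1040.result (F := K) chevG2 hD).2
  have hUV := (Cfsg.Agent.S1037.result (F := K) chevG2 hD).1
  rcases mem_cases hK _ hc with ⟨u0, hu0, h0, hh0, e⟩ | ⟨u0, hu0, h0, hh0, u, hu, e⟩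
  · have h3 : m0 hK * h0 * (m0 hK)⁻¹ ∈ chevG2.diagonalSubgroup K :=
      (Subgroup.mem_normalizer_iff.mp (monomial_le_normalizer chevG2 K (hfK K) (m0_mono hK)) _).mp hh0.1
    have h4 : m0 hK * u0 * (m0 hK)⁻¹ ∈ chevG2.borelSubgroup K ⊓ chevG2.negUnipotent K := by
      refine ⟨?_, m0_conj_U hK u0 hu0.1⟩
      have e2 : m0 hK * u0 * (m0 hK)⁻¹ = m0 hK * c * (m0 hK)⁻¹ * (m0 hK * h0 * (m0 hK)⁻¹)⁻¹ := by
        rw [e]
        group
      rw [e2]
      exact Subgroup.mul_mem _ h2 (Subgroup.inv_mem _ (hHle h3))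
    rw [hUV, Subgroup.mem_bot] at h4
    have h5 : u0 = 1 := by
      have e3 : u0 = (m0 hK)⁻¹ * (m0 hK * u0 * (m0 hK)⁻¹) * m0 hK := by group
      rw [e3, h4]
      group
    rw [e, h5, one_mul]
    exact hh0.1
  · exfalso
    apply m0_not_diag hK
    rw [← hBN]
    refine ⟨?_, m0_mono hK⟩
    have e2 : m0 hK = h0⁻¹ * u0⁻¹ * c * u⁻¹ := by
      rw [e]
      group
    rw [e2]
    exact Subgroup.mul_mem _ (Subgroup.mul_mem _ (Subgroup.mul_mem _ (Subgroup.inv_mem _ (hHle hh0.1))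
      (Subgroup.inv_mem _ (hBle hu0.1))) h1) (Subgroup.inv_mem _ (hBle hu.1))

include hK in
/-- An element fixing the three standard points is a fixed torus element with a parameter of square one. -/
theorem fix_three (g : GL chevG2.Idx K) (hg : g ∈ twistedG2 K (3 ^ m)) (w : GL chevG2.Idx K)
    (hw : w ∈ chevG2.posUnipotent K ⊓ twistedG2 K (3 ^ m)) (hw1 : w ≠ 1)
    (h1 : g ∈ chevG2.borelSubgroup K) (h2 : (m0 hK)⁻¹ * g * m0 hK ∈ chevG2.borelSubgroup K)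
    (h3 : (w * m0 hK)⁻¹ * g * (w * m0 hK) ∈ chevG2.borelSubgroup K) :
    ∃ μ : Kˣ, g = hfix K m μ ∧ μ ^ 2 = 1 := by
  have hHle : chevG2.diagonalSubgroup K ≤ chevG2.borelSubgroup K := le_sup_right
  -- `g` lies in `H`
  have hc : (m0 hK)⁻¹ * g * m0 hK ∈ chevG2.diagonalSubgroup K := by
    apply diag_of_conj hK _ (Subgroup.mul_mem _ (Subgroup.mul_mem _ (Subgroup.inv_mem _ (m0_mem hK)) hg) (m0_mem hK)) h2
    have e : m0 hK * ((m0 hK)⁻¹ * g * m0 hK) * (m0 hK)⁻¹ = g := by group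
    rw [e]
    exact h1
  have hgH : g ∈ chevG2.diagonalSubgroup K := by
    have h4 := (Subgroup.mem_normalizer_iff.mp (monomial_le_normalizer chevG2 K (hfK K) (m0_mono hK)) _).mp hc
    have e : m0 hK * ((m0 hK)⁻¹ * g * m0 hK) * (m0 hK)⁻¹ = g := by group
    rw [e] at h4
    exact h4
  obtain ⟨μ, hμ⟩ := fixed_diag (m := m) g hgH (sgm_fix hK g hg)
  refine ⟨μ, hμ, ?_⟩
  by_contra hne
  apply hw1
  apply cent_trivial hK μ hne w hw
  rw [← hμ]
  -- `g w g⁻¹ = w`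
  have hy : w⁻¹ * (g * w * g⁻¹) ∈ chevG2.posUnipotent K :=
    Subgroup.mul_mem _ (Subgroup.inv_mem _ hw.1) (diag_conj_U g hgH w hw.1)
  have h5 := U_conj_trivial hK _ hy (by
    have e : (m0 hK)⁻¹ * (w⁻¹ * (g * w * g⁻¹)) * m0 hK =
        ((w * m0 hK)⁻¹ * g * (w * m0 hK)) * ((m0 hK)⁻¹ * g * m0 hK)⁻¹ := by group
    rw [e]
    exact Subgroup.mul_mem _ h3 (Subgroup.inv_mem _ h2))
  calc g * w * g⁻¹ = w * (w⁻¹ * (g * w * g⁻¹)) := by group
    _ = w := by rw [h5, mul_one]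

include hK in
/-- Three distinct points can be moved to the three standard points. -/
theorem normalize (a b c : GL chevG2.Idx K) (ha : a ∈ twistedG2 K (3 ^ m)) (hb : b ∈ twistedG2 K (3 ^ m))
    (hc : c ∈ twistedG2 K (3 ^ m)) (hab : a⁻¹ * b ∉ chevG2.borelSubgroup K)
    (hac : a⁻¹ * c ∉ chevG2.borelSubgroup K) (hbc : b⁻¹ * c ∉ chevG2.borelSubgroup K) :
    ∃ d ∈ twistedG2 K (3 ^ m), ∃ w ∈ chevG2.posUnipotent K ⊓ twistedG2 K (3 ^ m), w ≠ 1 ∧
      d * a ∈ chevG2.borelSubgroup K ∧ (m0 hK)⁻¹ * (d * b) ∈ chevG2.borelSubgroup K ∧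
      (w * m0 hK)⁻¹ * (d * c) ∈ chevG2.borelSubgroup K := by
  have hBle : chevG2.posUnipotent K ≤ chevG2.borelSubgroup K := le_sup_left
  have hHle : chevG2.diagonalSubgroup K ≤ chevG2.borelSubgroup K := le_sup_right
  rcases mem_cases hK _ (Subgroup.mul_mem _ (Subgroup.inv_mem _ ha) hb) with
    ⟨u0, hu0, h0, hh0, e⟩ | ⟨u0, hu0, h0, hh0, u, hu, e⟩
  · exfalso
    apply hab
    rw [e]
    exact Subgroup.mul_mem _ (hBle hu0.1) (hHle hh0.1)
  have hd : u0⁻¹ * a⁻¹ ∈ twistedG2 K (3 ^ m) :=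
    Subgroup.mul_mem _ (Subgroup.inv_mem _ hu0.2) (Subgroup.inv_mem _ ha)
  have hdb : u0⁻¹ * a⁻¹ * b = h0 * m0 hK * u := by
    rw [mul_assoc, e]
    group
  have hdc : u0⁻¹ * a⁻¹ * c ∉ chevG2.borelSubgroup K := by
    intro h
    apply hac
    have e2 : a⁻¹ * c = u0 * (u0⁻¹ * a⁻¹ * c) := by group
    rw [e2]
    exact Subgroup.mul_mem _ (hBle hu0.1) h
  rcases mem_cases hK _ (Subgroup.mul_mem _ hd hc) with
    ⟨u1, hu1, h1, hh1, e1⟩ | ⟨u1, hu1, h1, hh1, u', hu', e1⟩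
  · exfalso
    apply hdc
    rw [e1]
    exact Subgroup.mul_mem _ (hBle hu1.1) (hHle hh1.1)
  refine ⟨u0⁻¹ * a⁻¹, hd, u1, hu1, ?_, ?_, ?_, ?_⟩
  · rintro rfl
    apply hbc
    have e2 : b⁻¹ * c = (u0⁻¹ * a⁻¹ * b)⁻¹ * (u0⁻¹ * a⁻¹ * c) := by group
    rw [e2, hdb, e1]
    have e3 : (h0 * m0 hK * u)⁻¹ * (1 * h1 * m0 hK * u') = u⁻¹ * ((m0 hK)⁻¹ * (h0⁻¹ * h1) * m0 hK) * u' := by group
    rw [e3]
    exact Subgroup.mul_mem _ (Subgroup.mul_mem _ (Subgroup.inv_mem _ (hBle hu.1))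
      (hHle (m0_inv_conj_H hK _ (Subgroup.mul_mem _ (Subgroup.inv_mem _ hh0.1) hh1.1)))) (hBle hu'.1)
  · have e2 : u0⁻¹ * a⁻¹ * a = u0⁻¹ := by group
    rw [e2]
    exact Subgroup.inv_mem _ (hBle hu0.1)
  · rw [hdb]
    have e2 : (m0 hK)⁻¹ * (h0 * m0 hK * u) = ((m0 hK)⁻¹ * h0 * m0 hK) * u := by group
    rw [e2]
    exact Subgroup.mul_mem _ (hHle (m0_inv_conj_H hK _ hh0.1)) (hBle hu.1)
  · rw [e1]
    have e2 : (u1 * m0 hK)⁻¹ * (u1 * h1 * m0 hK * u') = ((m0 hK)⁻¹ * h1 * m0 hK) * u' := by group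
    rw [e2]
    exact Subgroup.mul_mem _ (hHle (m0_inv_conj_H hK _ hh1.1)) (hBle hu'.1)

/-- The fixed torus element of parameter `-1` centralises the fixed element of `U` of parameters `0, 1, 0`. -/
theorem conj_W010 : hfix K m (-1) * (((posSys hK).W 0 1 0 : ↥(chevG2.group K)) : GL chevG2.Idx K) *
    (hfix K m (-1))⁻¹ = (((posSys hK).W 0 1 0 : ↥(chevG2.group K)) : GL chevG2.Idx K) := by
  have hχ : chevG2.IsRootCharacter (chi chevG2 K (uu K m (-1))) := isRootCharacter_chi chevG2 K (hfK K).hca _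
  have he : (posSys hK).ε = 1 := by
    show (((1 : ℤ) : K)) = 1
    simp
  have h0 : uu K m (-1) 0 = -1 := by
    unfold uu
    rw [if_pos rfl]
    apply Units.ext
    simp
  have h1 : uu K m (-1) 1 = -1 := by
    unfold uu
    rw [if_neg (by decide)]
  have e8 : chi chevG2 K (uu K m (-1)) 8 = 1 := by
    rw [chi_two, h0, h1, cartanOK3.1, cartanOK3.2.1]
    simp
  have e10 : chi chevG2 K (uu K m (-1)) 10 = 1 := by
    rw [chi_two, h0, h1, cartanOK3.2.2.1, cartanOK3.2.2.2]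
    have : (-1 : Kˣ) ^ (3 : ℤ) = -1 := by
      have : (-1 : Kˣ) ^ (3 : ℤ) = (-1 : Kˣ) ^ (3 : ℕ) := by norm_cast
      rw [this]
      exact Odd.neg_one_pow (by decide)
    rw [this]
    simp
  rw [(posSys hK).W_eq_N]
  show torusGL chevG2 K (chi chevG2 K (uu K m (-1))) * _ * (torusGL chevG2 K (chi chevG2 K (uu K m (-1))))⁻¹ = _
  rw [conj_N hK _ hχ, e8, e10]
  simp only [map_zero, mul_zero, Units.val_one, one_mul]
  have z : ((0 : K) ^ 3 * 0 ^ 2 + 0) = 0 := by ring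
  rw [z, mul_zero, mul_zero]

end

section

variable {K : Type*} [Field K] [Fintype K] [CharP K 3] {m : ℕ} (hK : Fintype.card K = 3 ^ (2 * m + 1))

omit [Fintype K] [CharP K 3] in
/-- The stabiliser of a coset of `B¹`. -/
theorem mem_stab (g a : ↥(twistedG2 K (3 ^ m))) :
    g ∈ MulAction.stabilizer ↥(twistedG2 K (3 ^ m))
      (QuotientGroup.mk a : ↥(twistedG2 K (3 ^ m)) ⧸
        ((chevG2.borelSubgroup K ⊓ twistedG2 K (3 ^ m))).subgroupOf (twistedG2 K (3 ^ m))) ↔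
    (a : GL chevG2.Idx K)⁻¹ * (g : GL chevG2.Idx K) * (a : GL chevG2.Idx K) ∈ chevG2.borelSubgroup K := by
  rw [MulAction.mem_stabilizer_iff, MulAction.Quotient.smul_mk, smul_eq_mul, eq_comm, QuotientGroup.eq,
    Subgroup.mem_subgroupOf, Subgroup.mem_inf]
  have e : ((a⁻¹ * (g * a) : ↥(twistedG2 K (3 ^ m))) : GL chevG2.Idx K) =
      (a : GL chevG2.Idx K)⁻¹ * (g : GL chevG2.Idx K) * (a : GL chevG2.Idx K) := by
    rw [Subgroup.coe_mul, Subgroup.coe_mul, Subgroup.coe_inv, mul_assoc]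
  rw [e]
  exact ⟨fun h => h.1, fun h => ⟨h, by rw [← e]; exact Subtype.prop _⟩⟩

omit [Fintype K] [CharP K 3] in
/-- Two cosets of `B¹` are different when the quotient of the representatives does not lie in `B`. -/
theorem mk_ne_iff (a b : ↥(twistedG2 K (3 ^ m))) :
    (QuotientGroup.mk a : ↥(twistedG2 K (3 ^ m)) ⧸
        ((chevG2.borelSubgroup K ⊓ twistedG2 K (3 ^ m))).subgroupOf (twistedG2 K (3 ^ m))) ≠ QuotientGroup.mk b ↔
    (a : GL chevG2.Idx K)⁻¹ * (b : GL chevG2.Idx K) ∉ chevG2.borelSubgroup K := by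
  rw [Ne, QuotientGroup.eq, Subgroup.mem_subgroupOf, Subgroup.mem_inf]
  have e : ((a⁻¹ * b : ↥(twistedG2 K (3 ^ m))) : GL chevG2.Idx K) =
      (a : GL chevG2.Idx K)⁻¹ * (b : GL chevG2.Idx K) := rfl
  rw [e]
  constructor
  · intro h h2
    exact h ⟨h2, by rw [← e]; exact Subtype.prop _⟩
  · intro h h2
    exact h h2.1

include hK in
/-- The stabiliser of three distinct cosets of `B¹` has at most two elements. -/
theorem card_stab_le (x y z : ↥(twistedG2 K (3 ^ m)) ⧸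
      ((chevG2.borelSubgroup K ⊓ twistedG2 K (3 ^ m))).subgroupOf (twistedG2 K (3 ^ m)))
    (hxy : x ≠ y) (hxz : x ≠ z) (hyz : y ≠ z) :
    Nat.card ↥(MulAction.stabilizer ↥(twistedG2 K (3 ^ m)) x ⊓ MulAction.stabilizer ↥(twistedG2 K (3 ^ m)) y ⊓
      MulAction.stabilizer ↥(twistedG2 K (3 ^ m)) z) ≤ 2 := by
  obtain ⟨a, rfl⟩ := QuotientGroup.mk_surjective x
  obtain ⟨b, rfl⟩ := QuotientGroup.mk_surjective y
  obtain ⟨c, rfl⟩ := QuotientGroup.mk_surjective z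
  rw [mk_ne_iff] at hxy hxz hyz
  obtain ⟨d, hd, w, hw, hw1, hda, hdb, hdc⟩ := normalize hK a b c a.2 b.2 c.2 hxy hxz hyz
  have key : ∀ g : ↥(MulAction.stabilizer ↥(twistedG2 K (3 ^ m)) (QuotientGroup.mk a : ↥(twistedG2 K (3 ^ m)) ⧸
        ((chevG2.borelSubgroup K ⊓ twistedG2 K (3 ^ m))).subgroupOf (twistedG2 K (3 ^ m))) ⊓
      MulAction.stabilizer ↥(twistedG2 K (3 ^ m)) (QuotientGroup.mk b : ↥(twistedG2 K (3 ^ m)) ⧸
        ((chevG2.borelSubgroup K ⊓ twistedG2 K (3 ^ m))).subgroupOf (twistedG2 K (3 ^ m))) ⊓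
      MulAction.stabilizer ↥(twistedG2 K (3 ^ m)) (QuotientGroup.mk c : ↥(twistedG2 K (3 ^ m)) ⧸
        ((chevG2.borelSubgroup K ⊓ twistedG2 K (3 ^ m))).subgroupOf (twistedG2 K (3 ^ m)))),
      ∃ μ : Kˣ, d * ((g : ↥(twistedG2 K (3 ^ m))) : GL chevG2.Idx K) * d⁻¹ = hfix K m μ ∧ μ ^ 2 = 1 := by
    rintro ⟨g, hg⟩
    obtain ⟨hg12, hg3⟩ := Subgroup.mem_inf.mp hg
    obtain ⟨hg1, hg2⟩ := Subgroup.mem_inf.mp hg12
    rw [mem_stab] at hg1 hg2 hg3
    apply fix_three hK _ (Subgroup.mul_mem _ (Subgroup.mul_mem _ hd g.2) (Subgroup.inv_mem _ hd)) w hw hw1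
    · have e : d * (g : GL chevG2.Idx K) * d⁻¹ = (d * (a : GL chevG2.Idx K)) *
          ((a : GL chevG2.Idx K)⁻¹ * (g : GL chevG2.Idx K) * (a : GL chevG2.Idx K)) *
          (d * (a : GL chevG2.Idx K))⁻¹ := by group
      rw [e]
      exact Subgroup.mul_mem _ (Subgroup.mul_mem _ hda hg1) (Subgroup.inv_mem _ hda)
    · have e : (m0 hK)⁻¹ * (d * (g : GL chevG2.Idx K) * d⁻¹) * m0 hK = ((m0 hK)⁻¹ * (d * (b : GL chevG2.Idx K))) *
          ((b : GL chevG2.Idx K)⁻¹ * (g : GL chevG2.Idx K) * (b : GL chevG2.Idx K)) *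
          ((m0 hK)⁻¹ * (d * (b : GL chevG2.Idx K)))⁻¹ := by group
      rw [e]
      exact Subgroup.mul_mem _ (Subgroup.mul_mem _ hdb hg2) (Subgroup.inv_mem _ hdb)
    · have e : (w * m0 hK)⁻¹ * (d * (g : GL chevG2.Idx K) * d⁻¹) * (w * m0 hK) =
          ((w * m0 hK)⁻¹ * (d * (c : GL chevG2.Idx K))) *
          ((c : GL chevG2.Idx K)⁻¹ * (g : GL chevG2.Idx K) * (c : GL chevG2.Idx K)) *
          ((w * m0 hK)⁻¹ * (d * (c : GL chevG2.Idx K)))⁻¹ := by group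
      rw [e]
      exact Subgroup.mul_mem _ (Subgroup.mul_mem _ hdc hg3) (Subgroup.inv_mem _ hdc)
  choose f hf using key
  have hinj : Function.Injective (fun g => (⟨f g, by
      rw [MonoidHom.mem_ker, powMonoidHom_apply]
      exact (hf g).2⟩ : ↥(powMonoidHom 2 : Kˣ →* Kˣ).ker)) := by
    intro g1 g2 h
    have h1 : f g1 = f g2 := congrArg Subtype.val h
    have h2 := (hf g1).1
    rw [h1, ← (hf g2).1] at h2
    have h3 : ((g1 : ↥(twistedG2 K (3 ^ m))) : GL chevG2.Idx K) = ((g2 : ↥(twistedG2 K (3 ^ m))) : GL chevG2.Idx K) := by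
      have := congrArg (fun x => d⁻¹ * x * d) h2
      simpa [mul_assoc] using this
    exact Subtype.ext (Subtype.ext h3)
  have := Nat.card_le_card_of_injective _ hinj
  rw [card_ker_sq] at this
  exact this

include hK in
/-- Some stabiliser of three distinct cosets of `B¹` has exactly two elements. -/
theorem exists_card_stab : ∃ x y z : ↥(twistedG2 K (3 ^ m)) ⧸
      ((chevG2.borelSubgroup K ⊓ twistedG2 K (3 ^ m))).subgroupOf (twistedG2 K (3 ^ m)),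
    x ≠ y ∧ x ≠ z ∧ y ≠ z ∧
    Nat.card ↥(MulAction.stabilizer ↥(twistedG2 K (3 ^ m)) x ⊓ MulAction.stabilizer ↥(twistedG2 K (3 ^ m)) y ⊓
      MulAction.stabilizer ↥(twistedG2 K (3 ^ m)) z) = 2 := by
  have hBle : chevG2.posUnipotent K ≤ chevG2.borelSubgroup K := le_sup_left
  have hHle : chevG2.diagonalSubgroup K ≤ chevG2.borelSubgroup K := le_sup_right
  have hBN := (Cfsg.Agent.S1040.result (F := K) chevG2 hD).2
  set w0 : GL chevG2.Idx K := (((posSys hK).W 0 1 0 : ↥(chevG2.group K)) : GL chevG2.Idx K) with hw0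
  have hw0U : w0 ∈ chevG2.posUnipotent K ⊓ twistedG2 K (3 ^ m) := (mem_U_inf hK _).mpr ⟨0, 1, 0, rfl⟩
  have hw01 : w0 ≠ 1 := by
    intro h
    have h2 : (posSys hK).W 0 1 0 = (posSys hK).W 0 0 0 := by
      rw [W_pos_zero]
      exact Subtype.ext h
    exact one_ne_zero (W_pos_inj hK _ _ _ _ _ _ h2).2.1
  have hm0B : m0 hK ∉ chevG2.borelSubgroup K := by
    intro h
    apply m0_not_diag hK
    rw [← hBN]
    exact ⟨h, m0_mono hK⟩
  have hxy : (1 : GL chevG2.Idx K)⁻¹ * m0 hK ∉ chevG2.borelSubgroup K := by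
    rw [_root_.inv_one, one_mul]
    exact hm0B
  have hxz : (1 : GL chevG2.Idx K)⁻¹ * (w0 * m0 hK) ∉ chevG2.borelSubgroup K := by
    rw [_root_.inv_one, one_mul]
    intro h
    apply hm0B
    have e : m0 hK = w0⁻¹ * (w0 * m0 hK) := by group
    rw [e]
    exact Subgroup.mul_mem _ (Subgroup.inv_mem _ (hBle hw0U.1)) h
  have hyz : (m0 hK)⁻¹ * (w0 * m0 hK) ∉ chevG2.borelSubgroup K := by
    intro h
    apply hw01
    apply U_conj_trivial hK w0 hw0U.1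
    rw [mul_assoc]
    exact h
  refine ⟨QuotientGroup.mk 1, QuotientGroup.mk ⟨m0 hK, m0_mem hK⟩,
    QuotientGroup.mk ⟨w0 * m0 hK, Subgroup.mul_mem _ hw0U.2 (m0_mem hK)⟩,
    (mk_ne_iff _ _).mpr hxy, (mk_ne_iff _ _).mpr hxz, (mk_ne_iff _ _).mpr hyz, ?_⟩
  apply le_antisymm (card_stab_le hK _ _ _ ((mk_ne_iff _ _).mpr hxy) ((mk_ne_iff _ _).mpr hxz)
    ((mk_ne_iff _ _).mpr hyz))
  rw [Nat.succ_le_iff, Subgroup.one_lt_card_iff_ne_bot]
  intro hbot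
  have hmem : (⟨hfix K m (-1), hfix_mem hK (-1)⟩ : ↥(twistedG2 K (3 ^ m))) ∈
      (MulAction.stabilizer ↥(twistedG2 K (3 ^ m)) (QuotientGroup.mk 1 : ↥(twistedG2 K (3 ^ m)) ⧸
        ((chevG2.borelSubgroup K ⊓ twistedG2 K (3 ^ m))).subgroupOf (twistedG2 K (3 ^ m))) ⊓
      MulAction.stabilizer ↥(twistedG2 K (3 ^ m)) (QuotientGroup.mk ⟨m0 hK, m0_mem hK⟩ : ↥(twistedG2 K (3 ^ m)) ⧸
        ((chevG2.borelSubgroup K ⊓ twistedG2 K (3 ^ m))).subgroupOf (twistedG2 K (3 ^ m))) ⊓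
      MulAction.stabilizer ↥(twistedG2 K (3 ^ m))
        (QuotientGroup.mk ⟨w0 * m0 hK, Subgroup.mul_mem _ hw0U.2 (m0_mem hK)⟩ : ↥(twistedG2 K (3 ^ m)) ⧸
        ((chevG2.borelSubgroup K ⊓ twistedG2 K (3 ^ m))).subgroupOf (twistedG2 K (3 ^ m)))) := by
    refine Subgroup.mem_inf.mpr ⟨Subgroup.mem_inf.mpr ⟨?_, ?_⟩, ?_⟩
    · rw [mem_stab]
      show (1 : GL chevG2.Idx K)⁻¹ * hfix K m (-1) * 1 ∈ _
      rw [_root_.inv_one, one_mul, mul_one]
      exact hHle (hfix_mem_diag _)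
    · rw [mem_stab]
      exact hHle (m0_inv_conj_H hK _ (hfix_mem_diag _))
    · rw [mem_stab]
      show (w0 * m0 hK)⁻¹ * hfix K m (-1) * (w0 * m0 hK) ∈ _
      have e : (w0 * m0 hK)⁻¹ * hfix K m (-1) * (w0 * m0 hK) =
          (m0 hK)⁻¹ * (w0⁻¹ * (hfix K m (-1) * w0 * (hfix K m (-1))⁻¹)) * m0 hK *
            ((m0 hK)⁻¹ * hfix K m (-1) * m0 hK) := by group
      rw [e, conj_W010 hK, inv_mul_cancel, mul_one, inv_mul_cancel, one_mul]
      exact hHle (m0_inv_conj_H hK _ (hfix_mem_diag _))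
  rw [hbot, Subgroup.mem_bot] at hmem
  have h1 : hfix K m (-1) = 1 := congrArg Subtype.val hmem
  have h2 : (-1 : Kˣ) = 1 := hfix_injective (h1.trans (map_one _).symm)
  have h3 : ((-1 : Kˣ) : K) = 1 := by rw [h2]; rfl
  rw [Units.val_neg, Units.val_one] at h3
  have h4 : (3 : K) = 0 := Cfsg.Agent.Lib.Helper36_ReeSetup.three_eq_zero
  have h5 : (1 : K) = 0 := by linear_combination h4 + h3
  exact one_ne_zero h5

end

end Cfsg.Agent.Lib.Helper36_ReeStab
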