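import Cfsg.Agent.Lib.Helper36_ReeFix
import Cfsg.Agent.Lib.Helper36_TwistGen
import Cfsg.Agent.Lib.Helper36_TwistWeyl
import Cfsg.Agent.Lib.Helper36_ChevOrderAll
import Cfsg.Agent.Lib.Helper36_ChevDataG2LitOK

set_option autoImplicit false

/-!
The hypotheses of the normal form of the fixed elements, for the exceptional endomorphism of the Chevalley group of type
`G₂` over a field with `3 ^ (2 m + 1)` elements.
-/

namespace Cfsg.Agent.Lib.Helper36_ReeTw

open Cfsg Cfsg.Lie Cfsg.Agent.Lib.Helper18_ChevFast Cfsg.Agent.Lib.Helper18_ChevEngine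
  Cfsg.Agent.Lib.Helper18_ChevN Cfsg.Agent.Lib.Helper18_ChevWeyl
  Cfsg.Agent.Lib.Helper18_ChevGL Cfsg.Agent.Lib.Helper18_ChevTri
  Cfsg.Agent.Lib.Helper18_ChevAdd Cfsg.Agent.Lib.Helper18_ChevUni Cfsg.Agent.Lib.Helper18_ChevComm
  Cfsg.Agent.Lib.Helper36_TwistU Cfsg.Agent.Lib.Helper36_TwistW
  Cfsg.Agent.Lib.Helper36_GraphAut Cfsg.Agent.Lib.Helper36_GraphAutG2 Cfsg.Agent.Lib.Helper36_GraphAutG2Main
  Cfsg.Agent.Lib.Helper36_ReeAlg Cfsg.Agent.Lib.Helper36_ReeSetup Cfsg.Agent.Lib.Helper36_ReeFix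
  Cfsg.Agent.Lib.Helper36_TwistGen Cfsg.Agent.Lib.Helper36_TwistWeyl
  Cfsg.Agent.Lib.Helper36_ChevTorus Cfsg.Agent.Lib.Helper36_ChevTorusAll
  Cfsg.Agent.Lib.Helper36_ChevW0 Cfsg.Agent.Lib.Helper36_ChevW0All Cfsg.Agent.Lib.Helper36_ChevTables
  Cfsg.Agent.Lib.Helper36_ChevOrder Cfsg.Agent.Lib.Helper36_ChevOrderAll Cfsg.Agent.Lib.Helper36_WeylChain
  Cfsg.Agent.Lib.Helper36_WeylLit Cfsg.Agent.Lib.Helper36_WeylLit.RootLit
  Cfsg.Agent.Lib.Helper36_ChevDataG2Lit Cfsg.Agent.Lib.Helper36_ChevDataG2LitOK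

theorem hD : chevG2 ∈ [chevG2, chevB2, chevD4, chevF4, chevE6, chevE7, chevE8] := by simp

theorem rhoOK : ∀ s < lit.n, gdata.rho s < lit.n ∧ gdata.rho s < lit.n ∧ gdata.rho (gdata.rho s) = s ∧
    gdata.rho (gdata.rho s) = s := by decide +kernel

/-- The symmetry as a permutation of the root indices. -/
def piPerm : Equiv.Perm (Fin lit.n) := mkPerm lit gdata.rho gdata.rho rhoOK

theorem piPerm_val (s : Fin lit.n) : (piPerm s : ℕ) = gdata.rho s := rfl

theorem tblOK : (∀ r, chevG2.IsPosRoot r → chevG2.IsPosRoot (gdata.rho r)) ∧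
    (∀ s < lit.n, lit.ps (gdata.rho s) = lit.ps s) ∧
    (∀ i < 2, ∀ s < 12, gdata.lam (lit.r i s) = gdata.lam s) ∧
    (∀ r < 12, gdata.rho (chevG2.neg r) = chevG2.neg (gdata.rho r) ∧ gdata.lam (chevG2.neg r) = gdata.lam r ∧
      gdata.rho r < 12 ∧ chevG2.neg r < 12) := by
  refine ⟨?_, by decide +kernel, by decide +kernel, by decide +kernel⟩
  intro r hr
  have h1 : r < 12 := hr.1
  have : ∀ r < 12, chevG2.IsPosRoot r → chevG2.IsPosRoot (gdata.rho r) := by decide +kernel
  exact this r h1 hr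

section

variable {K : Type*} [Field K] [Fintype K] [CharP K 3] {m : ℕ}

/-- The ring endomorphism acting on the parameter of the root element of a root. -/
noncomputable def frK (K : Type*) [Field K] [CharP K 3] (m : ℕ) (r : ℕ) : K →+* K :=
  if gdata.lam r = 1 then theta K m else f2 (theta K m)

omit [Fintype K] in
theorem frK_apply (r : ℕ) (hr : r < 12) (t : K) : frK K m r t = (theta K m t) ^ gdata.lam r := by
  unfold frK
  rcases lamOK r hr with h | h
  · rw [if_pos h, h, pow_one]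
  · rw [if_neg (by rw [h]; decide), h]
    exact hf (theta K m) t

theorem frK_surjective (r : ℕ) : Function.Surjective (frK K m r) :=
  Finite.surjective_of_injective (RingHom.injective _)

omit [Fintype K] [CharP K 3] in
/-- The two versions of the root elements in the general linear group coincide. -/
theorem xGL_eq (r : ℕ) (t : K) :
    Cfsg.Agent.Lib.Helper36_ChevAdd.xGL chevG2 (facts_of_mem chevG2 hD K).hlen (facts_of_mem chevG2 hD K).hadd K r t =
      xGL dc r t := by
  apply Units.ext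
  rfl

omit [Fintype K] in
theorem sgm_xGL (r : ℕ) (hr : r < 12) (t : K) :
    sgm (sig (theta K m)) (xGL dc r t) = xGL dc (gdata.rho r) (frK K m r t) := by
  rw [sgm_of_mem _ (xGL_mem_group dc r t), frK_apply r hr]
  have := sig_xG (theta K m) r hr t
  exact congrArg Subtype.val this

/-- The image of a letter of a word. -/
noncomputable def stepW (K : Type*) [Field K] [CharP K 3] (m : ℕ) (p : ℕ × K) : ℕ × K :=
  (gdata.rho p.1, frK K m p.1 p.2)

omit [Fintype K] in
theorem sgm_word : ∀ (w : List (ℕ × K)), (∀ p ∈ w, p.1 < 12) →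
    sgm (sig (theta K m)) (wordGL dc w) = wordGL dc (w.map (stepW K m))
  | [], _ => by
    rw [List.map_nil, wordGL_nil]
    exact sgm_one _
  | p :: w, h => by
    rw [List.map_cons, wordGL_cons, wordGL_cons, sgm_mul _ (xGL_mem_group dc _ _) (wordGL_mem_group dc w),
      sgm_xGL p.1 (h p List.mem_cons_self), sgm_word w (fun q hq => h q (List.mem_cons_of_mem _ hq))]
    rfl

omit [Fintype K] in
theorem sgm_nWord (r : ℕ) (hr : r < 12) (t : K) :
    sgm (sig (theta K m)) (wordGL dc (chevG2.nWord r t)) = wordGL dc (chevG2.nWord (gdata.rho r) (frK K m r t)) := by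
  obtain ⟨h1, h2, h3, h4⟩ := tblOK.2.2.2 r hr
  rw [sgm_word]
  · unfold ChevalleyDatum.nWord stepW
    have e : frK K m (chevG2.neg r) = frK K m r := by
      unfold frK
      rw [h2]
    simp only [List.map_cons, List.map_nil, h1, e, map_neg, map_inv₀]
  · intro p hp
    unfold ChevalleyDatum.nWord at hp
    simp only [List.mem_cons, List.not_mem_nil, or_false] at hp
    rcases hp with rfl | rfl | rfl
    · exact hr
    · exact h4
    · exact hr

omit [Fintype K] in
theorem sgm_hWord (r : ℕ) (hr : r < 12) (t : K) :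
    sgm (sig (theta K m)) (wordGL dc (chevG2.hWord r t)) = wordGL dc (chevG2.hWord (gdata.rho r) (frK K m r t)) := by
  unfold ChevalleyDatum.hWord
  rw [Cfsg.Agent.Lib.Helper36_TwistU.wordGL_append, Cfsg.Agent.Lib.Helper36_TwistU.wordGL_append,
    sgm_mul _ (wordGL_mem_group dc _) (wordGL_mem_group dc _), sgm_nWord r hr, sgm_nWord r hr, map_neg, map_one]

omit [Fintype K] in
theorem sgm_diag (g : GL chevG2.Idx K) (hg : g ∈ chevG2.diagonalSubgroup K) :
    sgm (sig (theta K m)) g ∈ chevG2.diagonalSubgroup K := by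
  unfold ChevalleyDatum.diagonalSubgroup at hg
  refine sgm_closure _ _ ?_ _ ?_ g hg
  · rintro g ⟨r, t, -, -, hg⟩
    rw [eq_wordGL dc (w := chevG2.hWord r t) hg]
    exact wordGL_mem_group dc _
  · rintro g ⟨r, t, hr, ht, hg⟩
    rw [eq_wordGL dc (w := chevG2.hWord r t) hg, sgm_hWord r hr]
    apply Subgroup.subset_closure
    refine ⟨gdata.rho r, frK K m r t, (tblOK.2.2.2 r hr).2.2.1, ?_, wordGL_coe dc _⟩
    rw [Ne, map_eq_zero]
    exact ht

omit [Fintype K] in
theorem sgm_mono (g : GL chevG2.Idx K) (hg : g ∈ chevG2.monomialSubgroup K) :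
    sgm (sig (theta K m)) g ∈ chevG2.monomialSubgroup K := by
  unfold ChevalleyDatum.monomialSubgroup at hg
  rw [Subgroup.sup_eq_closure] at hg
  refine sgm_closure _ _ ?_ _ ?_ g hg
  · rintro g (hg | hg)
    · exact diagonal_le_group dc hg
    · have : Subgroup.closure {g : GL chevG2.Idx K | ∃ r : ℕ, r < chevG2.nroots ∧
          (g : Matrix chevG2.Idx chevG2.Idx K) = chevG2.nMat K r 1} ≤ chevG2.group K := by
        rw [Subgroup.closure_le]
        rintro g ⟨r, -, hg⟩
        rw [eq_wordGL dc (w := chevG2.nWord r 1) hg]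
        exact wordGL_mem_group dc _
      exact this hg
  · rintro g (hg | hg)
    · exact (le_sup_left : chevG2.diagonalSubgroup K ≤ chevG2.monomialSubgroup K) (sgm_diag g hg)
    · apply (le_sup_right : _ ≤ chevG2.monomialSubgroup K)
      refine sgm_closure _ _ ?_ _ ?_ g hg
      · rintro g ⟨r, -, hg⟩
        rw [eq_wordGL dc (w := chevG2.nWord r 1) hg]
        exact wordGL_mem_group dc _
      · rintro g ⟨r, hr, hg⟩
        rw [eq_wordGL dc (w := chevG2.nWord r 1) hg, sgm_nWord r hr, map_one]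
        exact Subgroup.subset_closure ⟨gdata.rho r, (tblOK.2.2.2 r hr).2.2.1, wordGL_coe dc _⟩

end

/-- The words of the twelve elements of the Weyl group. -/
def Wl : List (List ℕ) :=
  [[], [0], [1], [0, 1], [1, 0], [0, 1, 0], [1, 0, 1], [0, 1, 0, 1], [1, 0, 1, 0], [0, 1, 0, 1, 0], [1, 0, 1, 0, 1],
    [0, 1, 0, 1, 0, 1]]

theorem WlOK : (∀ w ∈ Wl, ∀ a ∈ w, a < lit.rank) ∧
    (∀ w ∈ Wl, ∀ j < 2, ∃ w' ∈ Wl, ∀ s < 12, evalWord lit (j :: w) s = evalWord lit w' s) ∧
    (∀ w ∈ Wl, (∀ s < 12, gdata.rho (evalWord lit w s) = evalWord lit w (gdata.rho s)) →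
      (∀ s < 12, evalWord lit w s = s) ∨ (∀ s < 12, evalWord lit w s = lit.ng s)) := by
  refine ⟨by decide +kernel, by decide +kernel, by decide +kernel⟩

/-- The elements of the Weyl group are given by the twelve words. -/
theorem exists_word (x : Equiv.Perm (Fin lit.n)) (hx : x ∈ WAll lit wf) : ∃ w ∈ Wl, x = lit.wPerm wf w := by
  refine lit.W_induction wf (List.range lit.rank) (fun x => ∃ w ∈ Wl, x = lit.wPerm wf w) ?_ ?_ x hx
  · exact ⟨[], by decide, rfl⟩
  · rintro j hj y ⟨w, hw, rfl⟩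
    have hj2 : j < 2 := List.mem_range.mp hj
    obtain ⟨w', hw', h⟩ := WlOK.2.1 w hw j hj2
    refine ⟨w', hw', ?_⟩
    rw [← wPerm_cons]
    ext s
    rw [wPerm_eval lit wf _ (fun a ha => ?_) s, wPerm_eval lit wf _ (WlOK.1 w' hw') s]
    · exact h s s.2
    · rcases List.mem_cons.mp ha with rfl | ha
      · exact hj2
      · exact WlOK.1 w hw a ha

/-- The elements of the Weyl group that commute with the symmetry are `1` and `-1`. -/
theorem fixed_weyl (x : Equiv.Perm (Fin lit.n)) (hx : x ∈ WAll lit wf) (hfix : piPerm * x * piPerm⁻¹ = x) :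
    x = 1 ∨ ∀ s : Fin lit.n, (x s : ℕ) = lit.ng s := by
  obtain ⟨w, hw, rfl⟩ := exists_word x hx
  have hcomm : ∀ s < 12, gdata.rho (evalWord lit w s) = evalWord lit w (gdata.rho s) := by
    intro s hs
    have hs' : s < lit.n := hs
    have h0 : piPerm * lit.wPerm wf w = lit.wPerm wf w * piPerm := by
      rw [← mul_inv_eq_iff_eq_mul, hfix]
    have h1 : (piPerm * lit.wPerm wf w) ⟨s, hs'⟩ = (lit.wPerm wf w * piPerm) ⟨s, hs'⟩ := by
      rw [h0]
    rw [Equiv.Perm.mul_apply, Equiv.Perm.mul_apply] at h1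
    have h2 := congrArg Fin.val h1
    rw [piPerm_val, wPerm_eval lit wf _ (WlOK.1 w hw), wPerm_eval lit wf _ (WlOK.1 w hw), piPerm_val] at h2
    exact h2
  rcases WlOK.2.2 w hw hcomm with h | h
  · left
    ext s
    rw [wPerm_eval lit wf _ (WlOK.1 w hw), h s s.2]
    rfl
  · right
    intro s
    rw [wPerm_eval lit wf _ (WlOK.1 w hw), h s s.2]

/-- The elements of the Weyl group preserve the lengths of the roots. -/
theorem lam_weyl (x : Equiv.Perm (Fin lit.n)) (hx : x ∈ WAll lit wf) (s : Fin lit.n) :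
    gdata.lam (x s) = gdata.lam s := by
  refine lit.W_induction wf (List.range lit.rank) (fun x => ∀ s : Fin lit.n, gdata.lam (x s) = gdata.lam s)
    ?_ ?_ x hx s
  · intro s
    rfl
  · intro j hj y ih s
    have hj2 : j < 2 := List.mem_range.mp hj
    rw [Equiv.Perm.mul_apply, lit.sPerm_val wf j hj2, tblOK.2.2.1 j hj2 _ (y s).2, ih s]

section

variable {K : Type*} [Field K] [Fintype K] [CharP K 3] {m : ℕ} (hK : Fintype.card K = 3 ^ (2 * m + 1))

include hK in
/-- The hypotheses of the normal form. -/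
theorem twGen : TwGen (facts_of_mem chevG2 hD K) lit wf (sig (theta K m)) gdata.rho (frK K m) piPerm
    (twistedG2 K (3 ^ m)) where
  sx := fun r hr t => by rw [xGL_eq, xGL_eq, sgm_xGL r hr]
  fsurj := fun r _ => frK_surjective r
  pos := tblOK.1
  val := piPerm_val
  ps := tblOK.2.1
  frW := fun x hx r => by
    unfold frK
    rw [lam_weyl x hx r]
  sH := sgm_diag
  sN := sgm_mono
  G1fix := fun g hg => by
    obtain ⟨h1, h2⟩ := (mem_fixGL g).mp (twisted_le_fix hK hg)
    rw [sgm_of_mem _ h1, h2]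
  G1le := (twisted_le_fix hK).trans fixGL_le
  Ufix := fun g hg hfix => by
    have hgG : g ∈ chevG2.group K := posUnipotent_le_group dc hg
    have h1 : g ∈ fixGL K m := by
      rw [mem_fixGL]
      refine ⟨hgG, Subtype.ext ?_⟩
      rw [sgm_of_mem _ hgG] at hfix
      exact hfix
    obtain ⟨t, u, v, rfl⟩ := U_fix hK g hg h1
    exact W_pos_mem hK t u v

end

end Cfsg.Agent.Lib.Helper36_ReeTw
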