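/-
S2547 market (architect helper68), package R2L: (R2) for long roots in `Ω_{2m+1}(q)`.
-/
import Mathlib
import Cfsg.Agent.Lib.Helper68_StOoDefs

set_option autoImplicit false
set_option linter.unusedSectionVars false

namespace Cfsg.Agent.Lib.Helper36_StOo_R2L

open Matrix Cfsg.Agent.Lib.Helper68_MatGrp Cfsg.Agent.Lib.Helper68_StOoDefs

variable {m : ℕ} {F : Type*} [Field F] [Fintype F] [NeZero (2 : F)]

/-- off-diagonal entries of `lxM` -/
theorem lxM_off (a c : I m) (t : F) (x y : I m) (hxy : x ≠ y)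
    (h1 : ¬ (x = a ∧ y = c)) (h2 : ¬ (x = op c ∧ y = op a)) : lxM a c t x y = 0 := by
  unfold lxM
  rw [Matrix.sub_apply, Matrix.add_apply, Matrix.one_apply_ne hxy, Matrix.single_apply,
    Matrix.single_apply]
  have e1 : ¬ (a = x ∧ c = y) := fun e => h1 ⟨e.1.symm, e.2.symm⟩
  have e2 : ¬ (op c = x ∧ op a = y) := fun e => h2 ⟨e.1.symm, e.2.symm⟩
  rw [if_neg e1, if_neg e2, add_zero, sub_zero]

/-- conjugation by a monomial element into `B` -/
theorem conj_mem_Boo {n : GO m F} {σ : Equiv.Perm (I m)} (hn : IsMono (φ m F) n σ) (g : GO m F)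
    (h : ∀ a b, ht m b < ht m a → φ m F g (σ a) (σ b) = 0) : n⁻¹ * g * n ∈ Boo m F := by
  rw [mem_Boo]
  intro a b hab
  rw [hn.conj_apply g a b, h a b hab, mul_zero, zero_mul]

theorem ht_op_lt {a b : I m} (h : ht m a < ht m b) : ht m (op b) < ht m (op a) := by
  rw [ht_op, ht_op]
  have := ht_le a
  have := ht_le b
  omega

/-- the general step -/
theorem r2L_key (n : GO m F) (σ : Equiv.Perm (I m)) (hn : IsMono (φ m F) n σ)
    (hsw : ∀ a, σ (op a) = op (σ a)) (x y : I m) (hxy : LxOK x y) (a₁ b₁ : I m)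
    (h1 : σ a₁ = x) (h2 : σ b₁ = y) (hlt : ht m a₁ < ht m b₁) (t : F) :
    n⁻¹ * lx x y t * n ∈ Boo m F := by
  have h3 : σ (op a₁) = op x := by rw [hsw, h1]
  have h4 : σ (op b₁) = op y := by rw [hsw, h2]
  apply conj_mem_Boo hn
  intro a b hab
  have hab' : σ a ≠ σ b := by
    intro h
    have := σ.injective h
    rw [this] at hab
    exact lt_irrefl _ hab
  rw [lx_val hxy]
  apply lxM_off _ _ _ _ _ hab'
  · rintro ⟨e1, e2⟩
    have ea : a = a₁ := σ.injective (e1.trans h1.symm)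
    have eb : b = b₁ := σ.injective (e2.trans h2.symm)
    rw [ea, eb] at hab
    omega
  · rintro ⟨e1, e2⟩
    have ea : a = op b₁ := σ.injective (e1.trans h4.symm)
    have eb : b = op a₁ := σ.injective (e2.trans h3.symm)
    rw [ea, eb] at hab
    have := ht_op_lt hlt
    omega

theorem r2L (i k : Fin m) (hik : i ≠ k) (n : GO m F) (σ : Equiv.Perm (I m))
    (hn : IsMono (φ m F) n σ) (hsw : ∀ a, σ (op a) = op (σ a)) :
    (∀ t : F, n⁻¹ * lx (ie i) (ie k) t * n ∈ Boo m F) ∨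
      (∀ t : F, n⁻¹ * lx (ie k) (ie i) t * n ∈ Boo m F) := by
  have hσa : σ (σ⁻¹ (ie i)) = ie i := by simp
  have hσb : σ (σ⁻¹ (ie k)) = ie k := by simp
  have hne : σ⁻¹ (ie i) ≠ σ⁻¹ (ie k) := by
    intro h
    have : (ie i : I m) = ie k := σ⁻¹.injective h
    exact hik (ie_injective this)
  rcases lt_or_gt_of_ne (fun h => hne (ht_injective m h)) with hlt | hlt
  · left
    exact r2L_key n σ hn hsw _ _ (lxOK_ie hik) _ _ hσa hσb hlt
  · right
    exact r2L_key n σ hn hsw _ _ (lxOK_ie hik.symm) _ _ hσb hσa hlt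

end Cfsg.Agent.Lib.Helper36_StOo_R2L
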