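/-
S2547 market (architect helper68), package R2S: (R2) for short roots in `Ω_{2m+1}(q)`.
-/
import Mathlib
import Cfsg.Agent.Lib.Helper68_StOoDefs

set_option autoImplicit false
set_option linter.unusedSectionVars false

namespace Cfsg.Agent.Lib.Helper36_StOo_R2S

open Matrix Cfsg.Agent.Lib.Helper68_MatGrp Cfsg.Agent.Lib.Helper68_StOoDefs

variable {m : ℕ} {F : Type*} [Field F] [Fintype F] [NeZero (2 : F)]

/-- off-diagonal entries of `sxM` -/
theorem sxM_off (a : I m) (t : F) (x y : I m) (hxy : x ≠ y)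
    (h1 : ¬ (x = z0 ∧ y = op a)) (h2 : ¬ (x = a ∧ y = z0)) (h3 : ¬ (x = a ∧ y = op a)) :
    sxM a t x y = 0 := by
  unfold sxM
  rw [Matrix.sub_apply, Matrix.sub_apply, Matrix.add_apply, Matrix.one_apply_ne hxy,
    Matrix.single_apply, Matrix.single_apply, Matrix.single_apply]
  have e1 : ¬ (z0 = x ∧ op a = y) := fun e => h1 ⟨e.1.symm, e.2.symm⟩
  have e2 : ¬ (a = x ∧ z0 = y) := fun e => h2 ⟨e.1.symm, e.2.symm⟩
  have e3 : ¬ (a = x ∧ op a = y) := fun e => h3 ⟨e.1.symm, e.2.symm⟩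
  rw [if_neg e1, if_neg e2, if_neg e3, add_zero, sub_zero, sub_zero]

/-- conjugation by a monomial element into `B` -/
theorem conj_mem_Boo {n : GO m F} {σ : Equiv.Perm (I m)} (hn : IsMono (φ m F) n σ) (g : GO m F)
    (h : ∀ a b, ht m b < ht m a → φ m F g (σ a) (σ b) = 0) : n⁻¹ * g * n ∈ Boo m F := by
  rw [mem_Boo]
  intro a b hab
  rw [hn.conj_apply g a b, h a b hab, mul_zero, zero_mul]

/-- the general step -/
theorem r2S_key (n : GO m F) (σ : Equiv.Perm (I m)) (hn : IsMono (φ m F) n σ)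
    (hsw : ∀ a, σ (op a) = op (σ a)) (hz : σ z0 = z0) (x : I m) (hx : x ≠ z0) (a₁ : I m)
    (h1 : σ a₁ = x) (hlt : ht m a₁ < m) (t : F) :
    n⁻¹ * sx x t * n ∈ Boo m F := by
  have h3 : σ (op a₁) = op x := by rw [hsw, h1]
  have hop : ht m (op a₁) = 2 * m - ht m a₁ := ht_op a₁
  apply conj_mem_Boo hn
  intro a b hab
  have hab' : σ a ≠ σ b := by
    intro h
    have := σ.injective h
    rw [this] at hab
    exact lt_irrefl _ hab
  rw [sx_val hx]
  apply sxM_off _ _ _ _ hab'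
  · rintro ⟨e1, e2⟩
    have ea : a = z0 := σ.injective (e1.trans hz.symm)
    have eb : b = op a₁ := σ.injective (e2.trans h3.symm)
    rw [ea, eb, ht_z0] at hab
    omega
  · rintro ⟨e1, e2⟩
    have ea : a = a₁ := σ.injective (e1.trans h1.symm)
    have eb : b = z0 := σ.injective (e2.trans hz.symm)
    rw [ea, eb, ht_z0] at hab
    omega
  · rintro ⟨e1, e2⟩
    have ea : a = a₁ := σ.injective (e1.trans h1.symm)
    have eb : b = op a₁ := σ.injective (e2.trans h3.symm)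
    rw [ea, eb] at hab
    omega

theorem r2S (i : Fin m) (n : GO m F) (σ : Equiv.Perm (I m))
    (hn : IsMono (φ m F) n σ) (hsw : ∀ a, σ (op a) = op (σ a)) :
    (∀ t : F, n⁻¹ * sx (ie i) t * n ∈ Boo m F) ∨ (∀ t : F, n⁻¹ * sx (jf i) t * n ∈ Boo m F) := by
  have hz : σ z0 = z0 := by
    have h := hsw z0
    rw [op_z0] at h
    exact op_eq_self_iff.mp h.symm
  have hσa : σ (σ⁻¹ (ie i)) = ie i := by simp
  have hne : σ⁻¹ (ie i) ≠ z0 := by
    intro h
    rw [h, hz] at hσa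
    exact ie_ne_z0 i hσa.symm
  have hne' : ht m (σ⁻¹ (ie i)) ≠ m := by
    intro h
    apply hne
    apply ht_injective m
    rw [h, ht_z0]
  rcases lt_or_gt_of_ne hne' with hlt | hlt
  · left
    exact r2S_key n σ hn hsw hz _ (ie_ne_z0 i) _ hσa hlt
  · right
    have h1 : σ (op (σ⁻¹ (ie i))) = jf i := by rw [hsw, hσa, op_ie]
    have h2 : ht m (op (σ⁻¹ (ie i))) < m := by
      rw [ht_op]
      have := ht_le (σ⁻¹ (ie i))
      omega
    exact r2S_key n σ hn hsw hz _ (jf_ne_z0 i) _ h1 h2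

end Cfsg.Agent.Lib.Helper36_StOo_R2S
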