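import Cfsg.Agent.Lib.Helper36_TD4Struct
import Cfsg.Agent.Lib.Helper18_TD4Struct
import Cfsg.Agent.Lib.Helper23_TD4Defs

set_option autoImplicit false
set_option maxRecDepth 100000

/-!
The configuration of root elements of the twisted group of type `³D₄` over the field with `q ^ 3` elements (S2342):
the structure `TD4Config (FF f) K ↥(twistedD4 K q)`, assembled from the elements of `Helper36_TD4Struct` and the
commutator relations of `Helper18_TD4Struct`.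
-/

namespace Cfsg.Agent.Lib.Helper36_TD4Cfg

open Cfsg Cfsg.Lie Cfsg.Agent.Lib.Helper18_ChevGL Cfsg.Agent.Lib.Helper18_ChevUni
  Cfsg.Agent.Lib.Helper36_TwistU Cfsg.Agent.Lib.Helper36_TwistW
  Cfsg.Agent.Lib.Helper36_TwistTabD4 Cfsg.Agent.Lib.Helper36_TwistD4
  Cfsg.Agent.Lib.Helper23_TD4Field Cfsg.Agent.Lib.Helper23_TD4Defs
  Cfsg.Agent.Lib.Helper36_TD4Torus Cfsg.Agent.Lib.Helper36_TD4Struct

variable {K : Type*} [Field K] [Fintype K] {q : ℕ} (hK : Fintype.card K = q ^ 3)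
  (f : K →+* K) (hf : ∀ x : K, f x = x ^ q)

include hK hf in
theorem r_mem (u v : K) : v * f u + u * f (f v) + f (f u) * f v ∈ FF f := by
  rw [mem_FF]
  simp only [map_add, map_mul, f_f_f hK f hf]
  ring

/-- The configuration. -/
noncomputable def cfg : TD4Config (FF f) K ↥(twistedD4 K q) where
  z := zG hK f hf
  e := eG hK f hf
  b := bG hK f hf
  bm := bmG hK f hf
  a := aG hK f hf
  y1 := y1G hK f hf
  y2 := y2G hK f hf
  hF := hFG hK f hf
  h0 := h0G hK f hf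
  na := naG f hf
  Tr := TrF hK f hf
  N := NF hK f hf
  k1 := k1 f (r0 hK f hf)
  k2 := k2 f (r0 hK f hf)
  c1 := 1
  c2 := 1
  c3 := 1
  c4 := 1
  c5 := -1
  c6 := 1
  c7 := 1
  c1_ne := one_ne_zero
  c2_ne := one_ne_zero
  c3_ne := one_ne_zero
  c4_ne := one_ne_zero
  c5_ne := neg_ne_zero.mpr one_ne_zero
  c6_ne := one_ne_zero
  c7_ne := one_ne_zero
  k1_ne := k1_r0_ne hK f hf
  z_add := zG_add hK f hf
  e_add := eG_add hK f hf
  b_add := bG_add hK f hf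
  bm_add := bmG_add hK f hf
  a_add := aG_add hK f hf
  y1_add := y1G_add hK f hf
  y2_add := y2G_add hK f hf
  z_e s t := Subtype.ext (Cfsg.Agent.Lib.Helper18_TD4Struct.z_e (s : K) (t : K))
  z_b s t := Subtype.ext (Cfsg.Agent.Lib.Helper18_TD4Struct.z_b (s : K) (t : K))
  z_y1 s u := Subtype.ext (Cfsg.Agent.Lib.Helper18_TD4Struct.z_y1 f (s : K) u)
  z_y2 s u := Subtype.ext (Cfsg.Agent.Lib.Helper18_TD4Struct.z_y2 f (s : K) u)
  z_a s u := Subtype.ext (Cfsg.Agent.Lib.Helper18_TD4Struct.z_a f (s : K) u)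
  e_y1 s u := Subtype.ext (Cfsg.Agent.Lib.Helper18_TD4Struct.e_y1 f (s : K) u)
  e_y2 s u := Subtype.ext (Cfsg.Agent.Lib.Helper18_TD4Struct.e_y2 f (s : K) u)
  e_a s u := Subtype.ext (Cfsg.Agent.Lib.Helper18_TD4Struct.e_a f (s : K) u)
  e_bm s t := Subtype.ext (Cfsg.Agent.Lib.Helper18_TD4Struct.e_bm (s : K) (t : K))
  b_y1 s u := ⟨0, Subtype.ext (by
    show xGL dc 14 (s : K) * yS dc pi eps f (15, 3) u =
      yS dc pi eps f (15, 3) u * xGL dc 14 (s : K) * xGL dc 23 ((0 : FF f) : K)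
    rw [ZeroMemClass.coe_zero, xGL_zero, mul_one]
    exact Cfsg.Agent.Lib.Helper18_TD4Struct.b_y1 f (s : K) u)⟩
  b_y2 s u := ⟨0, Subtype.ext (by
    show xGL dc 14 (s : K) * yS dc pi eps f (17, 3) u =
      yS dc pi eps f (17, 3) u * xGL dc 14 (s : K) * xGL dc 23 ((0 : FF f) : K)
    rw [ZeroMemClass.coe_zero, xGL_zero, mul_one]
    exact Cfsg.Agent.Lib.Helper18_TD4Struct.b_y2 f (s : K) u)⟩
  y1_y2 u v := ⟨⟨_, r_mem hK f hf u v⟩, Subtype.ext (Cfsg.Agent.Lib.Helper18_TD4Struct.y1_y2 f u v)⟩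
  b_e s t := Subtype.ext (by
    show xGL dc 14 (s : K) * xGL dc 22 (t : K) * (xGL dc 14 (s : K))⁻¹ =
      xGL dc 22 (t : K) * xGL dc 23 (((1 * s * t : FF f) : FF f) : K)
    rw [one_mul]
    exact Cfsg.Agent.Lib.Helper18_TD4Struct.b_e (s : K) (t : K))
  bm_z s t := Subtype.ext (by
    show xGL dc 9 (s : K) * xGL dc 23 (t : K) * (xGL dc 9 (s : K))⁻¹ =
      xGL dc 23 (t : K) * xGL dc 22 (((1 * s * t : FF f) : FF f) : K)
    rw [one_mul]
    exact Cfsg.Agent.Lib.Helper18_TD4Struct.bm_z (s : K) (t : K))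
  a_y2 t u := Subtype.ext (by
    show (yS dc pi eps f (18, 3) t)⁻¹ * yS dc pi eps f (17, 3) u * yS dc pi eps f (18, 3) t =
      yS dc pi eps f (17, 3) u * xGL dc 22 (((1 * TrF hK f hf (t * u) : FF f) : FF f) : K)
    rw [one_mul, coe_TrF, map_mul, map_mul]
    exact Cfsg.Agent.Lib.Helper18_TD4Struct.a_y2 f t u)
  a_b t s := ⟨-(f (f t)) * (s : K), f t * f (f t) * (s : K), NF hK f hf t * s ^ 2, Subtype.ext (by
    show (yS dc pi eps f (18, 3) t)⁻¹ * xGL dc 14 (s : K) * yS dc pi eps f (18, 3) t =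
      xGL dc 14 (s : K) * yS dc pi eps f (15, 3) (-(f (f t)) * (s : K)) *
        yS dc pi eps f (17, 3) (f t * f (f t) * (s : K)) *
        xGL dc 22 (((1 * NF hK f hf t * s : FF f) : FF f) : K) * xGL dc 23 (((NF hK f hf t * s ^ 2 : FF f) : FF f) : K)
    rw [one_mul]
    exact Cfsg.Agent.Lib.Helper18_TD4Struct.a_b f (f_f_f hK f hf) t (s : K) s.2)⟩
  hF_e := hFG_e hK f hf
  hF_z := hFG_z hK f hf
  hF_b := hFG_b hK f hf
  h0_e := h0G_e hK f hf
  h0_z := h0G_z hK f hf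
  h0_y1 := h0G_y1 hK f hf
  h0_y2 := h0G_y2 hK f hf
  na_b := naG_b hK f hf
  na_e := naG_e hK f hf
  na_z := naG_z hK f hf
  Tr_nondeg := TrF_nondeg hK f hf
  N_zero := NF_zero hK f hf
  N_surj := NF_surj hK f hf

theorem cfg_z_one_ne : (cfg hK f hf).z 1 ≠ 1 := zG_one_ne hK f hf

end Cfsg.Agent.Lib.Helper36_TD4Cfg
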