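import Cfsg.Agent.Lib.Helper36_TD4Cfg
import Cfsg.Agent.Lib.Helper36_Gen2
import Cfsg.Agent.Lib.Helper36_ChevCore

set_option autoImplicit false
set_option maxRecDepth 100000

/-!
The twisted group of type `³D₄` over the field with `q ^ 3` elements is generated by two elements (S2407): the
diagonal element `hT r` of a generator `r` of the multiplicative group, and the product of the root element `x_a(1)` of
the short fundamental root and the representative `n_b n_a` of a Coxeter element.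
-/

namespace Cfsg.Agent.Lib.Helper36_TD4Gen2

open Cfsg Cfsg.Lie Cfsg.Agent.Lib.Helper18_ChevFast Cfsg.Agent.Lib.Helper18_ChevEngine
  Cfsg.Agent.Lib.Helper18_ChevN Cfsg.Agent.Lib.Helper18_ChevWeyl
  Cfsg.Agent.Lib.Helper18_ChevGL Cfsg.Agent.Lib.Helper18_ChevTri
  Cfsg.Agent.Lib.Helper18_ChevAdd Cfsg.Agent.Lib.Helper18_ChevUni
  Cfsg.Agent.Lib.Helper36_ChevTorus Cfsg.Agent.Lib.Helper36_ChevTorusAll Cfsg.Agent.Lib.Helper36_ChevBorel
  Cfsg.Agent.Lib.Helper36_ChevTables Cfsg.Agent.Lib.Helper36_ChevHOrder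
  Cfsg.Agent.Lib.Helper36_TwistU Cfsg.Agent.Lib.Helper36_TwistW Cfsg.Agent.Lib.Helper36_TwistH
  Cfsg.Agent.Lib.Helper36_TwistTabD4 Cfsg.Agent.Lib.Helper36_TwistD4
  Cfsg.Agent.Lib.Helper36_D4Out Cfsg.Agent.Lib.Helper23_TD4Field Cfsg.Agent.Lib.Helper36_TD4Torus
  Cfsg.Agent.Lib.Helper36_TD4Struct Cfsg.Agent.Lib.Helper36_Gen2

section generic

variable {D : ChevalleyDatum} {Ns : List NData} {K : Type*} [Field K]
variable {wl : List ℤ} {ws : List (List ℤ)} {sc : ℤ} {w : List ℤ}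
variable (C : Certs D Ns K wl ws sc w)

include C in
/-- Conjugation of a root subgroup by `n_J`, with a sign that does not depend on the parameter. -/
theorem nJ_conj_unif (J : List ℕ) (hJ : ∀ i ∈ J, i < D.rank) (s : ℕ) (hs : s < D.nroots) :
    ∃ η : K, η ≠ 0 ∧ ∀ t : K, nJ C.c K J * xGL C.c s t * (nJ C.c K J)⁻¹ = xGL C.c (reflJ D J s) (η * t) := by
  induction J with
  | nil =>
    refine ⟨1, one_ne_zero, fun t => ?_⟩
    simp [nJ, reflJ]
  | cons i J ih =>
    obtain ⟨η, hη0, hη⟩ := ih (fun j hj => hJ j (List.mem_cons_of_mem _ hj))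
    have hlt := reflJ_lt C J (fun j hj => hJ j (List.mem_cons_of_mem _ hj)) s hs
    have hi := hJ i (by simp)
    have hne : ((etaZ Ns i (reflJ D J s) : ℤ) : K) ≠ 0 := by
      have := eta_cast_sq (F := K) (C.c.etaZ_pm i hi _ hlt)
      intro h0
      rw [h0, mul_zero] at this
      exact zero_ne_one this
    refine ⟨((etaZ Ns i (reflJ D J s) : ℤ) : K) * η, mul_ne_zero hne hη0, fun t => ?_⟩
    rw [nJ_cons, reflJ_cons, mul_assoc _ η t, ← nGL_conj C.c i hi _ hlt, ← hη]
    group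

end generic


section d4

variable {K : Type*} [Field K] [Fintype K] {q : ℕ} (hK : Fintype.card K = q ^ 3)
  (f : K →+* K) (hf : ∀ x : K, f x = x ^ q)

/-- The nodes of a Coxeter element, in the order of the product `n_b n_a`. -/
def J4 : List ℕ := [1, 0, 2, 3]

theorem J4_lt : ∀ i ∈ J4, i < chevD4.rank := by decide +kernel

theorem tab4 : reflJ chevD4 J4 17 = 18 ∧ (17 : ℕ) < chevD4.nroots ∧ (18 : ℕ) < chevD4.nroots ∧
    chevD4.neg 18 < chevD4.nroots ∧ chevD4.neg 18 ≠ 18 := by decide +kernel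

/-- The chain of the classes of short roots. -/
def stepsS : List (List ℕ × List ℕ) :=
  [([17, 20, 21], J4), ([15, 19, 16], J4), ([5, 10, 11], J4), ([6, 3, 2], J4), ([8, 4, 7], J4)]

/-- The chain of the long roots. -/
def stepsL : List (List ℕ × List ℕ) := [([23], J4), ([14], J4), ([1], J4), ([0], J4), ([9], J4)]

theorem chainS : chainValid chevD4 [[18, 13, 12]] stepsS = true := by decide +kernel

theorem chainL : chainValid chevD4 [[22]] stepsL = true := by decide +kernel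

theorem orbTab : orbRoots pi 3 18 = [18, 13, 12] ∧ orbRoots pi 3 17 = [17, 20, 21] ∧ orbRoots pi 1 22 = [22] := by
  decide +kernel

include hf in
theorem omega_mem : nJ dc K J4 ∈ twistedD4 K q := by
  have h1 : nJ dc K [1] ∈ twistedD4 K q := nJ_mem f hf [1] (by simp [Js])
  have h3 : nJ dc K [0, 2, 3] ∈ twistedD4 K q := nJ_mem f hf [0, 2, 3] (by simp [Js])
  have e : nJ dc K J4 = nJ dc K [1] * nJ dc K [0, 2, 3] := by
    unfold J4 nJ
    simp only [List.map_cons, List.map_nil, List.prod_cons, List.prod_nil, mul_one]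
  rw [e]
  exact mul_mem h1 h3

omit [Fintype K] in
theorem omega_mono : nJ dc K J4 ∈ chevD4.monomialSubgroup K := by
  unfold nJ
  apply Subgroup.list_prod_mem
  intro g hg
  rw [List.mem_map] at hg
  obtain ⟨i, hi, rfl⟩ := hg
  exact nGL_mem_monomial dc i (J4_lt i hi)

omit [Fintype K] in
theorem xGL18_inj (a b : K) (h : xGL dc 18 a = xGL dc 18 b) : a = b := by
  obtain ⟨-, -, l18, ln, hne⟩ := tab4
  have h1 : xGL dc 18 (a + -b) = 1 := by
    rw [← xGL_mul, h, xGL_mul, add_neg_cancel, xGL_zero]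
  have h2 : chevD4.x K 18 (a + -b) = 1 := by
    rw [← xGL_coe dc, h1]
    rfl
  have := Cfsg.Agent.Lib.Helper36_ChevCore.x_eq_one_imp chevD4 K 18 l18 ln hne _ h2
  linear_combination this


omit [Fintype K] in
include hf in
/-- The scalar `k2 r` of a generator `r` is not one. -/
theorem k2_ne (r : Kˣ) (hord : orderOf r = (q - 1) * (q ^ 2 + q + 1)) (h2 : 2 ≤ q) : k2 f r ≠ 1 := by
  intro h
  unfold k2 at h
  rw [hf, hf, ← pow_mul] at h
  have hr0 : (r : K) ≠ 0 := r.ne_zero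
  have h1 : (r : K) ^ (q ^ 2 + q - 1) = 1 := by
    have e : (r : K) ^ (q ^ 2 + q - 1) * (r : K) = (r : K) := by
      rw [← pow_succ, Nat.sub_add_cancel (by nlinarith), pow_add, sq]
      field_simp at h
      linear_combination h
    exact mul_right_cancel₀ hr0 (e.trans (one_mul _).symm)
  have h3 : r ^ (q ^ 2 + q - 1) = 1 := Units.ext (by rw [Units.val_pow_eq_pow_val, h1, Units.val_one])
  have h4 := orderOf_dvd_of_pow_eq_one h3
  rw [hord] at h4
  have h5 := Nat.le_of_dvd (by have : 0 < q ^ 2 := by positivity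
                               omega) h4
  obtain ⟨k, rfl⟩ : ∃ k, q = k + 2 := ⟨q - 2, by omega⟩
  have e1 : (k + 2 - 1) * ((k + 2) ^ 2 + (k + 2) + 1) = (k + 1) * ((k + 2) ^ 2 + (k + 2) + 1) := by
    congr 1
  rw [e1] at h5
  have e2 : (k + 2) ^ 2 + (k + 2) - 1 = (k + 2) ^ 2 + (k + 1) := by omega
  rw [e2] at h5
  nlinarith

omit [Fintype K] in
/-- The square of a generator is not one. -/
theorem sq_ne (r : Kˣ) (hord : orderOf r = (q - 1) * (q ^ 2 + q + 1)) (h2 : 2 ≤ q) : (r : K) ^ 2 ≠ 1 := by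
  intro h
  have h3 : r ^ 2 = 1 := Units.ext (by rw [Units.val_pow_eq_pow_val, h, Units.val_one])
  have h4 := orderOf_dvd_of_pow_eq_one h3
  rw [hord] at h4
  have h5 := Nat.le_of_dvd (by norm_num) h4
  obtain ⟨k, rfl⟩ : ∃ k, q = k + 2 := ⟨q - 2, by omega⟩
  have e1 : (k + 2 - 1) * ((k + 2) ^ 2 + (k + 2) + 1) = (k + 1) * ((k + 2) ^ 2 + (k + 2) + 1) := by
    congr 1
  rw [e1] at h5
  nlinarith


/-- The commutator of `hT r` and its conjugate by `x_a(1) n_b n_a` is a non-trivial element of the root subgroup of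
the short fundamental root. -/
theorem step_A (r : Kˣ) (G1 : Subgroup (GL chevD4.Idx K))
    (hh : (hT hK f hf r).1 ∈ G1) (hb : yS dc pi eps f (18, 3) 1 * nJ dc K J4 ∈ G1) :
    yS dc pi eps f (18, 3) (((r : K) ^ 2 - 1) * (1 - k2 f r)) ∈ G1 := by
  set h := (hT hK f hf r).1 with hh_def
  set ω := nJ dc K J4 with hω
  set X : K → GL chevD4.Idx K := fun t => yS dc pi eps f (18, 3) t with hX
  have hadd : ∀ s t, X (s + t) = X s * X t := fun s t => congrArg Subtype.val (aG_add hK f hf s t)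
  have hωG : ω ∈ twistedD4 K q := omega_mem f hf
  set h' := ω * h * ω⁻¹ with hh'
  have hdiag : h ∈ chevD4.diagonalSubgroup K := torusHom_mem _
  have hdiag' : h' ∈ chevD4.diagonalSubgroup K :=
    ((Subgroup.mem_normalizer_iff).mp
      (Cfsg.Agent.Lib.Helper36_ChevCore.monomial_le_normalizer chevD4 K (hfK K) omega_mono) h).mp hdiag
  obtain ⟨u, hu⟩ := ((hfK K).mem_diag h').mp hdiag'
  obtain ⟨u0, hu0⟩ := ((hfK K).mem_diag h).mp hdiag
  have hcomm : Commute h h' := by
    rw [hu, hu0]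
    show _ * _ = _ * _
    rw [← torusGL_mul, ← torusGL_mul, mul_comm]
  have hG' : torusGL chevD4 K (chi chevD4 K u) ∈ twistedD4 K q := by
    rw [← hu]
    exact mul_mem (mul_mem hωG (hT hK f hf r).2) (inv_mem hωG)
  have hX' : h' * X 1 * h'⁻¹ = X ((chi chevD4 K u 18 : Kˣ) : K) := by
    have := torus_conj hK f hf u hG' (18, 3) clsTab.2.1 1 (closesB hK f hf 1)
    rw [mul_one] at this
    rw [hu]
    exact this
  have hβ : ((chi chevD4 K u 18 : Kˣ) : K) = k2 f r := by
    obtain ⟨t1, l17, l18, -, -⟩ := tab4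
    obtain ⟨η, hη0, hη⟩ := nJ_conj_unif (K := K) certs J4 J4_lt 17 l17
    rw [t1] at hη
    have e1 : h' * xGL dc 18 (η * 1) * h'⁻¹ = xGL dc 18 (((chi chevD4 K u 18 : Kˣ) : K) * (η * 1)) := by
      rw [hu]
      exact Cfsg.Agent.Lib.Helper36_TwistPerf.torus_conj_x dc chainOK_D4 _
        (isRootCharacter_chi chevD4 K (hfK K).hca u) 18 l18 _
    have e2 : h' * xGL dc 18 (η * 1) * h'⁻¹ = xGL dc 18 (η * (k2 f r * 1)) := by
      have c1 : ω * xGL dc 17 1 * ω⁻¹ = xGL dc 18 (η * 1) := hη 1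
      have c2 : ω * xGL dc 17 (k2 f r * 1) * ω⁻¹ = xGL dc 18 (η * (k2 f r * 1)) := hη _
      have c3 : h * xGL dc 17 1 * h⁻¹ = xGL dc 17 (k2 f r * 1) := by
        rw [← chi17 f r]
        exact hT_conj_x hK f hf r 17 l17 1
      rw [← c1, ← c2, ← c3, hh']
      group
    have e3 := xGL18_inj _ _ (e1.symm.trans e2)
    rw [mul_one, mul_one, mul_comm] at e3
    exact mul_left_cancel₀ hη0 e3
  rw [hβ] at hX'
  have hκ : ∀ t, h * X t * h⁻¹ = X ((r : K) ^ 2 * t) := fun t => hT_a hK f hf r t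
  have hg := trick X hadd h h' hcomm ((r : K) ^ 2) (k2 f r) hκ hX'
  have hbh : X 1 * h' * (X 1)⁻¹ ∈ G1 := by
    have : X 1 * h' * (X 1)⁻¹ = (X 1 * ω) * h * (X 1 * ω)⁻¹ := by
      rw [hh']
      group
    rw [this]
    exact G1.mul_mem (G1.mul_mem hb hh) (G1.inv_mem hb)
  show X _ ∈ G1
  rw [← hg]
  exact G1.mul_mem (G1.mul_mem (G1.mul_mem hh hbh) (G1.inv_mem hh)) (G1.inv_mem hbh)


include hK hf in
/-- The trace to the fixed field is surjective. -/
theorem TrF_surj (s : FF f) : ∃ t u : K, TrF hK f hf (t * u) = s := by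
  obtain ⟨u0, hu0⟩ := TrF_nondeg hK f hf 1 one_ne_zero
  rw [one_mul] at hu0
  refine ⟨((s * (TrF hK f hf u0)⁻¹ : FF f) : K), u0, ?_⟩
  have e : ((s * (TrF hK f hf u0)⁻¹ : FF f) : K) * u0 = (s * (TrF hK f hf u0)⁻¹ : FF f) • u0 := rfl
  rw [e, map_smul, smul_eq_mul, mul_assoc, inv_mul_cancel₀ hu0, mul_one]

/-- A subgroup of the twisted group that contains the two generators contains the twisted group. -/
theorem le_of_mem (r : Kˣ) (hr : ∀ u : Kˣ, u ∈ Submonoid.powers r) (hord : orderOf r = (q - 1) * (q ^ 2 + q + 1))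
    (G1 : Subgroup (GL chevD4.Idx K)) (hle : G1 ≤ twistedD4 K q)
    (hh : (hT hK f hf r).1 ∈ G1) (hb : yS dc pi eps f (18, 3) 1 * nJ dc K J4 ∈ G1) : twistedD4 K q ≤ G1 := by
  have h2q : 2 ≤ q := one_lt_q hK
  obtain ⟨o18, o17, o22⟩ := orbTab
  have hfix : ∀ g ∈ G1, sig f g = g := fun g hg => fixed hK f hf g (hle hg)
  set X : K → GL chevD4.Idx K := fun t => yS dc pi eps f (18, 3) t with hX
  have hadd : ∀ s t, X (s + t) = X s * X t := fun s t => congrArg Subtype.val (aG_add hK f hf s t)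
  have hκ : ∀ t, (hT hK f hf r).1 * X t * ((hT hK f hf r).1)⁻¹ = X ((r : K) ^ 2 * t) := fun t => hT_a hK f hf r t
  have hd0 : ((r : K) ^ 2 - 1) * (1 - k2 f r) ≠ 0 :=
    mul_ne_zero (sub_ne_zero.mpr (sq_ne r hord h2q)) (sub_ne_zero.mpr (k2_ne f hf r hord h2q).symm)
  have hXall : ∀ t, X t ∈ G1 := fill X hadd G1 _ hh r hr hκ _ hd0 (step_A hK f hf r G1 hh hb)
  have hωG1 : nJ dc K J4 ∈ G1 := by
    have : nJ dc K J4 = (X 1)⁻¹ * (X 1 * nJ dc K J4) := by group
    rw [this]
    exact G1.mul_mem (G1.inv_mem (hXall 1)) hb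
  have hJs : ∀ J ∈ [J4], (∀ i ∈ J, i < chevD4.rank) ∧ nJ dc K J ∈ G1 := by
    intro J hJ
    rw [List.mem_singleton] at hJ
    subst hJ
    exact ⟨J4_lt, hωG1⟩
  have hgoodA : Good dc (sig f) G1 [18, 13, 12] := by
    have := good_base certs (twist f) G1 (18, 3) (classOK _ clsTab.2.1) (fun x _ => hXall x)
    rw [o18] at this
    exact this
  have hshort := chain_good (σ := sig f) certs G1 hfix [J4] hJs stepsS [[18, 13, 12]] (by decide)
    (by
      intro S hS
      rw [List.mem_singleton] at hS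
      subst hS
      exact hgoodA) chainS
  have hy2 : ∀ u : K, yS dc pi eps f (17, 3) u ∈ G1 := by
    intro u
    apply yS_mem_of_good certs (twist f) G1 (17, 3) (classOK _ clsTab.2.2.2.1) _ u (closes17 hK f hf u)
    rw [o17]
    exact hshort [17, 20, 21] (by decide)
  have he : ∀ s : FF f, xGL dc 22 (s : K) ∈ G1 := by
    intro s
    obtain ⟨t, u, htu⟩ := TrF_surj hK f hf s
    have h1 := (Cfsg.Agent.Lib.Helper36_TD4Cfg.cfg hK f hf).a_y2 t u
    have h2 : (aG hK f hf t)⁻¹ * y2G hK f hf u * aG hK f hf t = y2G hK f hf u * eG hK f hf (1 * TrF hK f hf (t * u)) := h1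
    rw [one_mul, htu] at h2
    have h3 := congrArg Subtype.val h2
    have h4 : (X t)⁻¹ * yS dc pi eps f (17, 3) u * X t = yS dc pi eps f (17, 3) u * xGL dc 22 (s : K) := h3
    have h5 : xGL dc 22 (s : K) = (yS dc pi eps f (17, 3) u)⁻¹ * ((X t)⁻¹ * yS dc pi eps f (17, 3) u * X t) := by
      rw [h4]
      group
    rw [h5]
    exact G1.mul_mem (G1.inv_mem (hy2 u))
      (G1.mul_mem (G1.mul_mem (G1.inv_mem (hXall t)) (hy2 u)) (hXall t))
  have hgoodE : Good dc (sig f) G1 [22] := by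
    have := good_base certs (twist f) G1 (22, 1) (classOK _ clsTab.2.2.2.2.1) (fun x hx => by
      rw [yS1]
      have hx' : ((eps 22 : ℤ) : K) * f x = x := hx
      rw [epsTab.2.2.1, Int.cast_one, one_mul] at hx'
      exact he ⟨x, hx'⟩)
    rw [o22] at this
    exact this
  have hlong := chain_good (σ := sig f) certs G1 hfix [J4] hJs stepsL [[22]] (by decide)
    (by
      intro S hS
      rw [List.mem_singleton] at hS
      subst hS
      exact hgoodE) chainL
  have g14 : Good dc (sig f) G1 [14] := hlong [14] (by decide)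
  have g9 : Good dc (sig f) G1 [9] := hlong [9] (by decide)
  have g5 : Good dc (sig f) G1 [5, 10, 11] := hshort [5, 10, 11] (by decide)
  -- the generators
  intro g hg
  have hgfix : ∀ g ∈ twistedD4 K q, sig f g = g := fixed hK f hf
  revert g
  show twistedD4 K q ≤ G1
  unfold twistedD4 ChevalleyDatum.genSubgroup
  rw [Subgroup.closure_le]
  rintro g ⟨wd, hwd, hg⟩
  have hgG : g ∈ twistedD4 K q := Subgroup.subset_closure ⟨wd, hwd, hg⟩
  have hσ := hgfix g hgG
  rw [eq_wordGL dc hg] at hσ ⊢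
  rcases hwd with ⟨t, ht, r', hr', rfl⟩ | ⟨t, rs, hrs, rfl⟩
  · simp only [List.mem_cons, List.not_mem_nil, or_false] at hr'
    rcases hr' with rfl | rfl
    · exact g14 _ (wordGL_mem_XS dc [14] _ (by simp [d4p2])) hσ
    · exact g9 _ (wordGL_mem_XS dc [9] _ (by simp [d4m2])) hσ
  · simp only [List.mem_cons, List.not_mem_nil, or_false] at hrs
    rcases hrs with rfl | rfl
    · exact hgoodA _ (wordGL_mem_XS dc [18, 13, 12] _ (by simp [d4p1, d4p3, d4p4])) hσ
    · exact g5 _ (wordGL_mem_XS dc [5, 10, 11] _ (by simp [d4m1, d4m3, d4m4])) hσ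


include hK in
/-- The twisted group of type `³D₄` is generated by two elements. -/
theorem two_generated (hq : IsPrimePow q) :
    ∃ a b : ↥(twistedD4 K q), Subgroup.closure ({a, b} : Set ↥(twistedD4 K q)) = ⊤ := by
  obtain ⟨f, hf⟩ := Cfsg.Agent.Lib.Helper36_TwistF.exists_frob hq hK
  obtain ⟨r, hr, hord⟩ := exists_gen hK
  set a : ↥(twistedD4 K q) := hT hK f hf r with ha
  set b : ↥(twistedD4 K q) := aG hK f hf 1 * ⟨nJ dc K J4, omega_mem f hf⟩ with hb
  refine ⟨a, b, ?_⟩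
  set H := Subgroup.closure ({a, b} : Set ↥(twistedD4 K q)) with hH
  have hle : H.map (twistedD4 K q).subtype ≤ twistedD4 K q := by
    rintro g ⟨x, -, rfl⟩
    exact x.2
  have h1 : (hT hK f hf r).1 ∈ H.map (twistedD4 K q).subtype :=
    ⟨a, Subgroup.subset_closure (by simp), rfl⟩
  have h2 : yS dc pi eps f (18, 3) 1 * nJ dc K J4 ∈ H.map (twistedD4 K q).subtype :=
    ⟨b, Subgroup.subset_closure (by simp), rfl⟩
  have h3 := le_of_mem hK f hf r hr hord _ hle h1 h2
  rw [eq_top_iff]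
  intro x _
  obtain ⟨y, hy, hxy⟩ := h3 x.2
  have : y = x := Subtype.ext hxy
  rw [← this]
  exact hy

end d4

end Cfsg.Agent.Lib.Helper36_TD4Gen2
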