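import Cfsg.Agent.Lib.Helper36_TwistBN
import Cfsg.Agent.Lib.Helper36_TwistGen

set_option autoImplicit false

/-!
The `(B, N)`-pair of a group of fixed elements of a Chevalley group, from an abstract form of the normal form of its
elements (so that it applies to a twisting endomorphism of any kind).
-/

namespace Cfsg.Agent.Lib.Helper36_TwistAbs

open Cfsg Cfsg.Lie Cfsg.Agent.Lib.Helper36_ChevCoeff Cfsg.Agent.Lib.Helper36_ChevAdd
  Cfsg.Agent.Lib.Helper36_ChevWeyl Cfsg.Agent.Lib.Helper36_ChevGen Cfsg.Agent.Lib.Helper36_ChevTables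
  Cfsg.Agent.Lib.Helper36_ChevTorus Cfsg.Agent.Lib.Helper36_ChevBorel Cfsg.Agent.Lib.Helper36_ChevW0
  Cfsg.Agent.Lib.Helper36_ChevCore Cfsg.Agent.Lib.Helper36_ChevCommU Cfsg.Agent.Lib.Helper36_WeylChain
  Cfsg.Agent.Lib.Helper36_WeylLit Cfsg.Agent.Lib.Helper36_WeylLit.RootLit Cfsg.Agent.Lib.Helper36_ChevOrder
  Cfsg.Agent.Lib.Helper36_TwistU Cfsg.Agent.Lib.Helper36_TwistW
  Cfsg.Agent.Lib.Helper36_TwistWeyl Cfsg.Agent.Lib.Helper36_TwistBN
  Cfsg.Agent.Lib.Helper18_ChevFast Cfsg.Agent.Lib.Helper18_ChevEngine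

section

variable {D : ChevalleyDatum} {K : Type*} [Field K] (hf : Facts D K) (L : RootLit) (hwf : L.WF)

/-- The abstract form of the normal form of the elements of a subgroup `G1`: the subgroup `W1` of the Weyl group has
representatives in `G1`, the elements of `N` in `G1` act as elements of `W1`, and every element of `G1` has a normal form
with all components in `G1`. -/
structure TwAbs (π : Equiv.Perm (Fin L.n)) (W1 : Subgroup (Equiv.Perm (Fin L.n))) (G1 : Subgroup (GL D.Idx K)) :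
    Prop where
  G1le : G1 ≤ D.group K
  W1le : W1 ≤ WAll L hwf
  W1comm : ∀ x ∈ W1, π * x * π⁻¹ = x
  W1fix : ∀ x ∈ WAll L hwf, π * x * π⁻¹ = x → x ∈ W1
  W1rep : ∀ x ∈ W1, ∃ m ∈ D.monomialSubgroup K, m ∈ G1 ∧ ActsAs D K hf L m x
  weyl : ∀ n ∈ D.monomialSubgroup K, n ∈ G1 → ∃ x ∈ W1, ActsAs D K hf L n x
  nf : ∀ g ∈ G1, ∃ x ∈ W1, ∀ m ∈ D.monomialSubgroup K, m ∈ G1 → ActsAs D K hf L m x →
    ∃ u0 ∈ D.posUnipotent K ⊓ G1, ∃ h0 ∈ D.diagonalSubgroup K ⊓ G1, ∃ u ∈ Um D K m ⊓ G1, g = u0 * h0 * m * u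

variable {L hwf} {π : Equiv.Perm (Fin L.n)} {W1 : Subgroup (Equiv.Perm (Fin L.n))} {G1 : Subgroup (GL D.Idx K)}
  (A : TwAbs hf L hwf π W1 G1) (hl : LitOK D L)
  (hchain : ChainOK D) (hx : XInj D K) (hx1 : XOne D K)
  (hUV : D.borelSubgroup K ⊓ D.negUnipotent K = ⊥)
  (hNU : Subgroup.normalizer (D.posUnipotent K : Set (GL D.Idx K)) ⊓ D.group K = D.borelSubgroup K)
  (hBN : D.borelSubgroup K ⊓ D.monomialSubgroup K = D.diagonalSubgroup K)

variable {k' : ℕ} {sg : ℕ → GL D.Idx K} {wa : ℕ → Equiv.Perm (Fin L.n)}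
  (Y : GenData hf (L := L) (π := π) (W1 := W1) (G1 := G1) k' sg wa)
  (P : Cfsg.BNPair ↥(D.group K))
  (hPB : P.B = (D.borelSubgroup K).subgroupOf (D.group K))
  (hPN : P.N = (D.monomialSubgroup K).subgroupOf (D.group K))

include A hl hchain hx hBN Y P hPB hPN in
/-- The double coset condition in the subgroup. -/
theorem twisted_union (a : ℕ) (ha : a < k') (n : GL D.Idx K) (hn : n ∈ D.monomialSubgroup K) (hnG : n ∈ G1)
    (b : GL D.Idx K) (hb : b ∈ D.borelSubgroup K) (hbG : b ∈ G1) :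
    ∃ b1 ∈ D.borelSubgroup K ⊓ G1, ∃ b2 ∈ D.borelSubgroup K ⊓ G1,
      sg a * b * n = b1 * (sg a * n) * b2 ∨ sg a * b * n = b1 * n * b2 := by
  have hgG : sg a * b * n ∈ G1 := G1.mul_mem (G1.mul_mem (Y.sG a ha) hbG) hnG
  obtain ⟨x, hxW, hactn⟩ := A.weyl n hn hnG
  obtain ⟨y, hy, nI, hnI, hactI, c1, hc1, c2, hc2, e⟩ := Y.union a ha n hn b hb
  obtain ⟨x', hx'W, hnf⟩ := A.nf _ hgG
  obtain ⟨m, hmN, hmG, hmact⟩ := A.W1rep x' hx'W
  obtain ⟨u0, hu0, h0, hh0, u, hu, e2⟩ := hnf m hmN hmG hmact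
  have hBle : D.posUnipotent K ≤ D.borelSubgroup K := le_sup_left
  have hHle : D.diagonalSubgroup K ≤ D.borelSubgroup K := le_sup_right
  -- the Weyl element of the product
  have hd : m⁻¹ * (nI * n) ∈ D.diagonalSubgroup K := by
    have e3 : (u0 * h0) * m * u = c1 * (nI * n) * c2 := by rw [← e2, e]
    exact ambient_unique hf P hPB hPN hBN hmN (Subgroup.mul_mem _ hnI hn)
      (Subgroup.mul_mem _ (hBle hu0.1) (hHle hh0.1)) (hBle (Um_le_pos D K m hu.1)) hc1 hc2 e3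
  have hx'eq : x' = y * x := by
    have h1 := actsAs_mul D K hf L (actsAs_inv D K hf L hmact) (actsAs_mul D K hf L hactI hactn)
    have h2 := actsAs_diag D K hf L hchain hl _ hd
    have := actsAs_unique D K hf L hl hx h1 h2
    exact inv_mul_eq_one.mp this
  have hyfix : π * y * π⁻¹ = y := by
    have h1 := A.W1comm x' hx'W
    have h2 := A.W1comm x hxW
    have hy' : y = x' * x⁻¹ := by rw [hx'eq]; group
    rw [hy']
    have : π * (x' * x⁻¹) * π⁻¹ = (π * x' * π⁻¹) * (π * x * π⁻¹)⁻¹ := by group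
    rw [this, h1, h2]
  have key : ∀ m' : GL D.Idx K, m' ∈ D.monomialSubgroup K → m' ∈ G1 → ActsAs D K hf L m' x' →
      ∃ b1 ∈ D.borelSubgroup K ⊓ G1, ∃ b2 ∈ D.borelSubgroup K ⊓ G1, sg a * b * n = b1 * m' * b2 := by
    intro m' hm'N hm'G hm'act
    obtain ⟨v0, hv0, k0, hk0, v, hv, e4⟩ := hnf m' hm'N hm'G hm'act
    exact ⟨v0 * k0, ⟨Subgroup.mul_mem _ (hBle hv0.1) (hHle hk0.1), G1.mul_mem hv0.2 hk0.2⟩, v,
      ⟨hBle (Um_le_pos D K m' hv.1), hv.2⟩, e4⟩
  rcases hy hyfix with h1 | h1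
  · rw [h1, one_mul] at hx'eq
    obtain ⟨b1, hb1, b2, hb2, e5⟩ := key n hn hnG (hx'eq ▸ hactn)
    exact ⟨b1, hb1, b2, hb2, Or.inr e5⟩
  · rw [h1] at hx'eq
    obtain ⟨b1, hb1, b2, hb2, e5⟩ := key (sg a * n) (Subgroup.mul_mem _ (Y.sN a ha) hn)
      (G1.mul_mem (Y.sG a ha) hnG) (hx'eq ▸ actsAs_mul D K hf L (Y.act a ha) hactn)
    exact ⟨b1, hb1, b2, hb2, Or.inl e5⟩

include hl hx1 hUV hNU hBN Y in
/-- An element of `B` in the subgroup that is not normalised into `B` by the distinguished element, from a non-identity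
element of the cell subgroup. -/
theorem conj_not_mem (a : ℕ) (ha : a < k') (b : GL D.Idx K) (hb : b ∈ Um D K (sg a)) (hb1 : b ≠ 1) :
    sg a * b * sg a ∉ D.borelSubgroup K := by
  have hHle : D.diagonalSubgroup K ≤ D.borelSubgroup K := le_sup_right
  intro hmem
  have hsq := sq_mem_diag hf hl hNU hBN Y a ha
  have hB : sg a * b * (sg a)⁻¹ ∈ D.borelSubgroup K := by
    have e : sg a * b * (sg a)⁻¹ = (sg a * b * sg a) * (sg a * sg a)⁻¹ := by group
    rw [e]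
    exact Subgroup.mul_mem _ hmem (Subgroup.inv_mem _ (hHle hsq))
  have hb' := hb
  rw [Um_eq D K hf L hl hUV hx1 (Y.act a ha)] at hb'
  have hV : sg a * b * (sg a)⁻¹ ∈ D.negUnipotent K := by
    rw [negUnipotent_eq]
    apply conj_rootClosure D K hf L hl (Y.act a ha) (SNeg D L (wa a)) D.IsNegRoot (fun r hr => hr.1.1) ?_ b hb'
    rintro r ⟨-, h, hneg⟩
    exact (hl.hneg _ (hl.hn ▸ (wa a r).2)).mp hneg
  have h3 : sg a * b * (sg a)⁻¹ ∈ D.borelSubgroup K ⊓ D.negUnipotent K := Subgroup.mem_inf.mpr ⟨hB, hV⟩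
  rw [hUV, Subgroup.mem_bot] at h3
  apply hb1
  have e : b = (sg a)⁻¹ * (sg a * b * (sg a)⁻¹) * sg a := by group
  rw [e, h3]
  group

include A hl hchain hx hx1 hUV hNU hBN Y P hPB hPN in
/-- The `(B, N)`-pair of the subgroup. -/
theorem exists_bnPair (hcell : ∀ a < k', ∃ b ∈ Um D K (sg a) ⊓ G1, b ≠ 1) :
    ∃ Q : Cfsg.BNPair ↥G1, Q.B = (D.borelSubgroup K ⊓ G1).subgroupOf G1 ∧
      Q.N = (D.monomialSubgroup K ⊓ G1).subgroupOf G1 ∧ Q.S = S1 G1 k' sg := by
  have hBle : D.posUnipotent K ≤ D.borelSubgroup K := le_sup_left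
  have hHle : D.diagonalSubgroup K ≤ D.borelSubgroup K := le_sup_right
  have hHN : D.diagonalSubgroup K ≤ D.monomialSubgroup K := le_sup_left
  have memB : ∀ g : ↥G1, g ∈ (D.borelSubgroup K ⊓ G1).subgroupOf G1 ↔ (g : GL D.Idx K) ∈ D.borelSubgroup K := by
    intro g
    rw [Subgroup.mem_subgroupOf, Subgroup.mem_inf]
    exact ⟨fun h => h.1, fun h => ⟨h, g.2⟩⟩
  have memN : ∀ g : ↥G1, g ∈ (D.monomialSubgroup K ⊓ G1).subgroupOf G1 ↔
      (g : GL D.Idx K) ∈ D.monomialSubgroup K := by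
    intro g
    rw [Subgroup.mem_subgroupOf, Subgroup.mem_inf]
    exact ⟨fun h => h.1, fun h => ⟨h, g.2⟩⟩
  refine ⟨{ B := (D.borelSubgroup K ⊓ G1).subgroupOf G1
            N := (D.monomialSubgroup K ⊓ G1).subgroupOf G1
            S := S1 G1 k' sg
            sup_eq_top := ?_
            conj_mem := ?_
            subset := ?_
            sq_mem := ?_
            inj := ?_
            closure_sup := ?_
            mul_mem_union := ?_
            conj_ne := ?_ }, rfl, rfl, rfl⟩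
  · -- `B` and `N` generate
    rw [eq_top_iff]
    rintro ⟨g, hg⟩ -
    obtain ⟨x, hxW, hnf⟩ := A.nf g hg
    obtain ⟨m, hmN, hmG, hmact⟩ := A.W1rep x hxW
    obtain ⟨u0, hu0, h0, hh0, u, hu, e⟩ := hnf m hmN hmG hmact
    have e' : (⟨g, hg⟩ : ↥G1) = ⟨u0, hu0.2⟩ * ⟨h0, hh0.2⟩ * ⟨m, hmG⟩ * ⟨u, hu.2⟩ := Subtype.ext e
    rw [e']
    refine Subgroup.mul_mem _ (Subgroup.mul_mem _ (Subgroup.mul_mem _ ?_ ?_) ?_) ?_
    · exact Subgroup.mem_sup_left ((memB _).mpr (hBle hu0.1))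
    · exact Subgroup.mem_sup_left ((memB _).mpr (hHle hh0.1))
    · exact Subgroup.mem_sup_right ((memN _).mpr hmN)
    · exact Subgroup.mem_sup_left ((memB _).mpr (hBle (Um_le_pos D K m hu.1)))
  · -- `B ⊓ N` is normal in `N`
    intro n hn t ht
    rw [memN] at hn
    obtain ⟨ht1, ht2⟩ := Subgroup.mem_inf.mp ht
    rw [memB] at ht1 ⊢
    rw [memN] at ht2
    have htH : (t : GL D.Idx K) ∈ D.diagonalSubgroup K := by
      rw [← hBN]
      exact Subgroup.mem_inf.mpr ⟨ht1, ht2⟩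
    apply hHle
    exact (Subgroup.mem_normalizer_iff.mp (monomial_le_normalizer D K hf hn) _).mp htH
  · -- the distinguished elements lie in `N`
    rintro s ⟨a, ha, hs⟩
    rw [SetLike.mem_coe, memN, hs]
    exact Y.sN a ha
  · -- squares
    rintro s ⟨a, ha, hs⟩
    rw [memB]
    show (s : GL D.Idx K) * (s : GL D.Idx K) ∈ _
    rw [hs]
    exact hHle (sq_mem_diag hf hl hNU hBN Y a ha)
  · -- injectivity
    rintro s ⟨a, ha, hs⟩ s' ⟨b, hb, hs'⟩ hmem
    rw [memB] at hmem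
    have hmem' : (sg a)⁻¹ * sg b ∈ D.borelSubgroup K := by
      rw [← hs, ← hs']
      exact hmem
    have hd : (sg a)⁻¹ * sg b ∈ D.diagonalSubgroup K := by
      rw [← hBN]
      exact Subgroup.mem_inf.mpr ⟨hmem', Subgroup.mul_mem _ (Subgroup.inv_mem _ (Y.sN a ha)) (Y.sN b hb)⟩
    have h1 := actsAs_mul D K hf L (actsAs_inv D K hf L (Y.act a ha)) (Y.act b hb)
    have h2 := actsAs_diag D K hf L hchain hl _ hd
    have h3 := actsAs_unique D K hf L hl hx h1 h2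
    have hab : a = b := Y.inj a ha b hb (inv_mul_eq_one.mp h3)
    apply Subtype.ext
    rw [hs, hs', hab]
  · -- generation of `N`
    apply le_antisymm
    · apply sup_le
      · rw [Subgroup.closure_le]
        rintro s ⟨a, ha, hs⟩
        rw [SetLike.mem_coe, memN, hs]
        exact Y.sN a ha
      · exact inf_le_right
    · intro n hn
      rw [memN] at hn
      obtain ⟨x, hxW, hact⟩ := A.weyl _ hn n.2
      obtain ⟨m, hmS, hmact⟩ := Y.rep x hxW
      have hmN : (m : GL D.Idx K) ∈ D.monomialSubgroup K := by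
        have hle : Subgroup.closure (S1 G1 k' sg) ≤ (D.monomialSubgroup K ⊓ G1).subgroupOf G1 := by
          rw [Subgroup.closure_le]
          rintro s ⟨a, ha, hs⟩
          rw [SetLike.mem_coe, memN, hs]
          exact Y.sN a ha
        exact (memN m).mp (hle hmS)
      have hd := diag_of_same hf hl hNU hBN hmN hn hmact hact
      have e : n = m * (m⁻¹ * n) := by group
      rw [e]
      refine Subgroup.mul_mem _ (Subgroup.mem_sup_left hmS) (Subgroup.mem_sup_right ?_)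
      refine Subgroup.mem_inf.mpr ⟨(memB _).mpr (hHle hd), (memN _).mpr (hHN hd)⟩
  · -- the double coset condition
    rintro s ⟨a, ha, hs⟩ n hn b hb
    rw [memN] at hn
    rw [memB] at hb
    obtain ⟨b1, hb1, b2, hb2, e⟩ := twisted_union hf A hl hchain hx hBN Y P hPB hPN a ha n hn n.2 b hb b.2
    rcases e with e | e
    · left
      rw [DoubleCoset.mem_doubleCoset]
      refine ⟨⟨b1, hb1.2⟩, (memB _).mpr hb1.1, ⟨b2, hb2.2⟩, (memB _).mpr hb2.1, ?_⟩
      apply Subtype.ext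
      show (s : GL D.Idx K) * b * n = b1 * ((s : GL D.Idx K) * n) * b2
      rw [hs]
      exact e
    · right
      rw [DoubleCoset.mem_doubleCoset]
      refine ⟨⟨b1, hb1.2⟩, (memB _).mpr hb1.1, ⟨b2, hb2.2⟩, (memB _).mpr hb2.1, ?_⟩
      apply Subtype.ext
      show (s : GL D.Idx K) * b * n = b1 * n * b2
      rw [hs]
      exact e
  · -- `s B s ≠ B`
    rintro s ⟨a, ha, hs⟩ heq
    obtain ⟨b, hb, hb1⟩ := hcell a ha
    have hnot := conj_not_mem hf hl hx1 hUV hNU hBN Y a ha b hb.1 hb1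
    have h1 : s * ⟨b, hb.2⟩ * s ∈ (fun b : ↥G1 => s * b * s) ''
        (((D.borelSubgroup K ⊓ G1).subgroupOf G1 : Subgroup ↥G1) : Set ↥G1) :=
      ⟨⟨b, hb.2⟩, (memB _).mpr (hBle (Um_le_pos D K _ hb.1)), rfl⟩
    rw [heq, SetLike.mem_coe, memB] at h1
    apply hnot
    rw [← hs]
    exact h1

end

end Cfsg.Agent.Lib.Helper36_TwistAbs
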