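import Cfsg.Agent.Lib.Helper36_TwistOrder
import Cfsg.Agent.Lib.Helper6_BNPair
import Cfsg.Agent.Lib.Helper18_ChevBNPair

set_option autoImplicit false

/-!
The `(B, N)`-pair of a twisted group: the intersections of the twisted group with `B` and `N`, and the elements `n_J`
of the orbits of the nodes.
-/

namespace Cfsg.Agent.Lib.Helper36_TwistBN

open Cfsg Cfsg.Lie Cfsg.Agent.Lib.Helper36_ChevCoeff Cfsg.Agent.Lib.Helper36_ChevAdd
  Cfsg.Agent.Lib.Helper36_ChevWeyl Cfsg.Agent.Lib.Helper36_ChevGen Cfsg.Agent.Lib.Helper36_ChevTables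
  Cfsg.Agent.Lib.Helper36_ChevTorus Cfsg.Agent.Lib.Helper36_ChevBorel Cfsg.Agent.Lib.Helper36_ChevW0
  Cfsg.Agent.Lib.Helper36_ChevCore Cfsg.Agent.Lib.Helper36_ChevCommU Cfsg.Agent.Lib.Helper36_WeylChain
  Cfsg.Agent.Lib.Helper36_WeylLit Cfsg.Agent.Lib.Helper36_WeylLit.RootLit Cfsg.Agent.Lib.Helper36_ChevOrder
  Cfsg.Agent.Lib.Helper36_TwistU Cfsg.Agent.Lib.Helper36_TwistW Cfsg.Agent.Lib.Helper36_TwistC
  Cfsg.Agent.Lib.Helper36_TwistWeyl Cfsg.Agent.Lib.Helper36_TwistH Cfsg.Agent.Lib.Helper36_ChevHOrder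
  Cfsg.Agent.Lib.Helper36_TwistOrder
  Cfsg.Agent.Lib.Helper18_ChevFast Cfsg.Agent.Lib.Helper18_ChevEngine

section

variable {D : ChevalleyDatum} {K : Type*} [Field K] (hf : Facts D K) {L : RootLit} {hwf : L.WF}
  {Ns : List Cfsg.Agent.Lib.Helper18_ChevN.NData} {wl : List ℤ} {ws : List (List ℤ)} {sc : ℤ} {w : List ℤ}
  {C : Certs D Ns K wl ws sc w}
  {σ : GL D.Idx K →* GL D.Idx K} {pi : ℕ → ℕ} {eps : ℕ → ℤ} {f : K →+* K}
  {π : Equiv.Perm (Fin L.n)} {rhoN : ℕ → ℕ} {W1 : Subgroup (Equiv.Perm (Fin L.n))}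
  {G1 : Subgroup (GL D.Idx K)}
  (X : TwData hf L hwf C (σ := σ) (pi := pi) (eps := eps) (f := f) π rhoN W1 G1) (hl : LitOK D L)
  (hchain : ChainOK D) (hc : AllConj D K) (hN : NGen D K) (hx : XInj D K) (hx1 : XOne D K)
  (hUV : D.borelSubgroup K ⊓ D.negUnipotent K = ⊥)
  (hNU : Subgroup.normalizer (D.posUnipotent K : Set (GL D.Idx K)) ⊓ D.group K = D.borelSubgroup K)
  (hBN : D.borelSubgroup K ⊓ D.monomialSubgroup K = D.diagonalSubgroup K)
  (hE : BruhatE D K) (hU : BruhatU D K)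
  (hnorm : D.diagonalSubgroup K ≤ Subgroup.normalizer (D.posUnipotent K : Set (GL D.Idx K)))
  (hUH : D.posUnipotent K ⊓ D.diagonalSubgroup K = ⊥)

include X hl hchain hc hN hx in
/-- An element of `N` in the twisted group acts as an element of the twisted Weyl group. -/
theorem fixed_weyl (n : GL D.Idx K) (hn : n ∈ D.monomialSubgroup K) (hnG : n ∈ G1) :
    ∃ x ∈ W1, ActsAs D K hf L n x := by
  obtain ⟨x, hxW, hact⟩ := exists_actsAs D K hf L hwf hchain hc hl hN n hn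
  have hact' := actsAs_sigma hf X hl hact
  rw [X.G1fix n hnG] at hact'
  have := actsAs_unique D K hf L hl hx hact hact'
  exact ⟨x, X.W1fix x hxW this.symm, hact⟩

include hl hNU hBN in
/-- Two elements of `N` with the same action differ by an element of `H`. -/
theorem diag_of_same {m n : GL D.Idx K} (hm : m ∈ D.monomialSubgroup K) (hn : n ∈ D.monomialSubgroup K)
    {x : Equiv.Perm (Fin L.n)} (h1 : ActsAs D K hf L m x) (h2 : ActsAs D K hf L n x) :
    m⁻¹ * n ∈ D.diagonalSubgroup K := by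
  have h := actsAs_mul D K hf L (actsAs_inv D K hf L h1) h2
  rw [inv_mul_cancel] at h
  exact mem_diag_of_actsAs_one D K hf L hl hNU hBN _
    ((D.monomialSubgroup K).mul_mem ((D.monomialSubgroup K).inv_mem hm) hn) h

include hf in
/-- Uniqueness of the double coset of an element of `N`, from the `(B, N)`-pair of the ambient group. -/
theorem ambient_unique (P : Cfsg.BNPair ↥(D.group K))
    (hPB : P.B = (D.borelSubgroup K).subgroupOf (D.group K))
    (hPN : P.N = (D.monomialSubgroup K).subgroupOf (D.group K))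
    (hBN : D.borelSubgroup K ⊓ D.monomialSubgroup K = D.diagonalSubgroup K)
    {n n' b1 b2 b3 b4 : GL D.Idx K} (hn : n ∈ D.monomialSubgroup K) (hn' : n' ∈ D.monomialSubgroup K)
    (hb1 : b1 ∈ D.borelSubgroup K) (hb2 : b2 ∈ D.borelSubgroup K) (hb3 : b3 ∈ D.borelSubgroup K)
    (hb4 : b4 ∈ D.borelSubgroup K) (e : b1 * n * b2 = b3 * n' * b4) : n⁻¹ * n' ∈ D.diagonalSubgroup K := by
  obtain ⟨hUG, -, hHG, hNG⟩ := subgroups_le D K hf
  have hBG : D.borelSubgroup K ≤ D.group K := sup_le hUG hHG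
  let nG : P.N := ⟨⟨n, hNG hn⟩, by rw [hPN, Subgroup.mem_subgroupOf]; exact hn⟩
  let nG' : P.N := ⟨⟨n', hNG hn'⟩, by rw [hPN, Subgroup.mem_subgroupOf]; exact hn'⟩
  have hmem : (nG' : ↥(D.group K)) ∈ Cfsg.Agent.Lib.Helper6_BNPair.C P (nG : ↥(D.group K)) := by
    rw [Cfsg.Agent.Lib.Helper6_BNPair.mem_C]
    refine ⟨⟨b3⁻¹ * b1, hBG (Subgroup.mul_mem _ (Subgroup.inv_mem _ hb3) hb1)⟩, ?_,
      ⟨b2 * b4⁻¹, hBG (Subgroup.mul_mem _ hb2 (Subgroup.inv_mem _ hb4))⟩, ?_, ?_⟩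
    · rw [hPB, Subgroup.mem_subgroupOf]
      exact Subgroup.mul_mem _ (Subgroup.inv_mem _ hb3) hb1
    · rw [hPB, Subgroup.mem_subgroupOf]
      exact Subgroup.mul_mem _ hb2 (Subgroup.inv_mem _ hb4)
    · apply Subtype.ext
      show n' = b3⁻¹ * b1 * n * (b2 * b4⁻¹)
      have : b3⁻¹ * b1 * n * (b2 * b4⁻¹) = b3⁻¹ * (b1 * n * b2) * b4⁻¹ := by group
      rw [this, e]
      group
  have h1 := Cfsg.Agent.Lib.Helper6_BNPair.C_eq_of_mem P hmem
  have h2 := (Cfsg.Agent.Lib.Helper6_BNPair.C_eq_iff' P).mp h1.symm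
  rw [hPB, Subgroup.mem_subgroupOf] at h2
  rw [← hBN]
  exact Subgroup.mem_inf.mpr ⟨h2, Subgroup.mul_mem _ (Subgroup.inv_mem _ hn) hn'⟩

include hf in
/-- Multiplying an element `b n` by the product of the `n_j` over a list of nodes: the result lies in the double coset
of `n_I n` for a sublist `I`. -/
theorem nJ_mul_mem (J : List ℕ) (hJ : ∀ j ∈ J, j < D.rank) (n : GL D.Idx K) (hn : n ∈ D.monomialSubgroup K)
    (b : GL D.Idx K) (hb : b ∈ D.borelSubgroup K) :
    ∃ I : List ℕ, I.Sublist J ∧ ∃ b1 ∈ D.borelSubgroup K, ∃ b2 ∈ D.borelSubgroup K,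
      nJ C.c K J * b * n = b1 * (nJ C.c K I * n) * b2 := by
  induction J with
  | nil =>
    refine ⟨[], List.Sublist.refl _, b, hb, 1, Subgroup.one_mem _, ?_⟩
    have : nJ C.c K [] = 1 := by unfold nJ; simp
    rw [this]
    group
  | cons i J ih =>
    obtain ⟨I, hI, b1, hb1, b2, hb2, e⟩ := ih (fun j hj => hJ j (List.mem_cons_of_mem _ hj))
    have hIr : ∀ j ∈ I, j < D.rank := fun j hj => hJ j (List.mem_cons_of_mem _ (hI.subset hj))
    have hnI : nJ C.c K I * n ∈ D.monomialSubgroup K :=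
      Subgroup.mul_mem _ (nJ_mem_mono hf C I hIr) hn
    have hu := Cfsg.Agent.Lib.Helper18_ChevBNPair.nGL_mul_mem_union C.c C.tc C.ac C.r2 i (hJ i List.mem_cons_self)
      (nJ C.c K I * n) hnI b1 hb1
    have e2 : nJ C.c K (i :: J) * b * n = Cfsg.Agent.Lib.Helper18_ChevGL.nGL C.c i * b1 * (nJ C.c K I * n) * b2 := by
      rw [nJ_cons]
      have : Cfsg.Agent.Lib.Helper18_ChevGL.nGL C.c i * nJ C.c K J * b * n =
          Cfsg.Agent.Lib.Helper18_ChevGL.nGL C.c i * (nJ C.c K J * b * n) := by group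
      rw [this, e]
      group
    rcases hu with hu | hu
    · obtain ⟨c1, hc1, c2, hc2, e3⟩ := DoubleCoset.mem_doubleCoset.mp hu
      refine ⟨i :: I, hI.cons₂ i, c1, hc1, c2 * b2, Subgroup.mul_mem _ hc2 hb2, ?_⟩
      rw [e2, e3, nJ_cons]
      group
    · obtain ⟨c1, hc1, c2, hc2, e3⟩ := DoubleCoset.mem_doubleCoset.mp hu
      refine ⟨I, hI.cons i, c1, hc1, c2 * b2, Subgroup.mul_mem _ hc2 hb2, ?_⟩
      rw [e2, e3]
      group

/-- The distinguished elements of the twisted group, as a subset of it. -/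
def S1 (G1 : Subgroup (GL D.Idx K)) (k' : ℕ) (sg : ℕ → GL D.Idx K) : Set ↥G1 :=
  {s | ∃ a < k', (s : GL D.Idx K) = sg a}

/-- The data of the distinguished generators: the elements `sg a` of `N` in the twisted group act as the involutions
`wa a`, which generate the twisted Weyl group. -/
structure GenData (k' : ℕ) (sg : ℕ → GL D.Idx K) (wa : ℕ → Equiv.Perm (Fin L.n)) : Prop where
  sN : ∀ a < k', sg a ∈ D.monomialSubgroup K
  sG : ∀ a < k', sg a ∈ G1
  act : ∀ a < k', ActsAs D K hf L (sg a) (wa a)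
  sq : ∀ a < k', wa a * wa a = 1
  inj : ∀ a < k', ∀ b < k', wa a = wa b → a = b
  ne : ∀ a < k', 1 ≤ inv L.Pos (wa a)
  wW : ∀ a < k', wa a ∈ W1
  rep : ∀ x ∈ W1, ∃ m : ↥G1, m ∈ Subgroup.closure (S1 G1 k' sg) ∧ ActsAs D K hf L (m : GL D.Idx K) x
  union : ∀ a < k', ∀ n ∈ D.monomialSubgroup K, ∀ b ∈ D.borelSubgroup K,
    ∃ y : Equiv.Perm (Fin L.n), (π * y * π⁻¹ = y → y = 1 ∨ y = wa a) ∧
      ∃ nI ∈ D.monomialSubgroup K, ActsAs D K hf L nI y ∧
        ∃ b1 ∈ D.borelSubgroup K, ∃ b2 ∈ D.borelSubgroup K, sg a * b * n = b1 * (nI * n) * b2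

variable {k' : ℕ} {sg : ℕ → GL D.Idx K} {wa : ℕ → Equiv.Perm (Fin L.n)}
  (Y : GenData hf (L := L) (π := π) (W1 := W1) (G1 := G1) k' sg wa)
  (P : Cfsg.BNPair ↥(D.group K))
  (hPB : P.B = (D.borelSubgroup K).subgroupOf (D.group K))
  (hPN : P.N = (D.monomialSubgroup K).subgroupOf (D.group K))

include X hl hchain hc hN hx hx1 hUV hNU hBN hE hU hnorm hUH Y P hPB hPN in
/-- The double coset condition in the twisted group. -/
theorem twisted_union (a : ℕ) (ha : a < k') (n : GL D.Idx K) (hn : n ∈ D.monomialSubgroup K) (hnG : n ∈ G1)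
    (b : GL D.Idx K) (hb : b ∈ D.borelSubgroup K) (hbG : b ∈ G1) :
    ∃ b1 ∈ D.borelSubgroup K ⊓ G1, ∃ b2 ∈ D.borelSubgroup K ⊓ G1,
      sg a * b * n = b1 * (sg a * n) * b2 ∨ sg a * b * n = b1 * n * b2 := by
  have hgG : sg a * b * n ∈ G1 := G1.mul_mem (G1.mul_mem (Y.sG a ha) hbG) hnG
  obtain ⟨x, hxW, hactn⟩ := fixed_weyl hf X hl hchain hc hN hx n hn hnG
  obtain ⟨y, hy, nI, hnI, hactI, c1, hc1, c2, hc2, e⟩ := Y.union a ha n hn b hb
  obtain ⟨x', hx'W, hnf⟩ := exists_normal_form hf X hl hchain hc hN hx hx1 hUV hNU hBN hE hU hnorm hUH _ hgG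
  obtain ⟨m, hmN, hmG, hmact⟩ := X.W1rep x' hx'W
  obtain ⟨u0, hu0, h0, hh0, u, hu, e2⟩ := hnf m hmN hmG hmact
  have hBle : D.posUnipotent K ≤ D.borelSubgroup K := le_sup_left
  have hHle : D.diagonalSubgroup K ≤ D.borelSubgroup K := le_sup_right
  -- the Weyl element of the product
  have hd : m⁻¹ * (nI * n) ∈ D.diagonalSubgroup K := by
    have e3 : (u0 * h0) * m * u = c1 * (nI * n) * c2 := by rw [← e2, e]
    exact ambient_unique hf P hPB hPN hBN hmN (Subgroup.mul_mem _ hnI hn)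
      (Subgroup.mul_mem _ (hBle hu0.1) (hHle hh0.1)) (hBle (Um_le_pos D K m hu.1)) hc1 hc2 e3
  have hx'eq : x' = y * x := by
    have h1 := actsAs_mul D K hf L (actsAs_inv D K hf L hmact) (actsAs_mul D K hf L hactI hactn)
    have h2 := actsAs_diag D K hf L hchain hl _ hd
    have := actsAs_unique D K hf L hl hx h1 h2
    exact inv_mul_eq_one.mp this
  have hyfix : π * y * π⁻¹ = y := by
    have h1 := X.W1comm x' hx'W
    have h2 := X.W1comm x hxW
    have hy' : y = x' * x⁻¹ := by rw [hx'eq]; group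
    rw [hy']
    have : π * (x' * x⁻¹) * π⁻¹ = (π * x' * π⁻¹) * (π * x * π⁻¹)⁻¹ := by group
    rw [this, h1, h2]
  have key : ∀ m' : GL D.Idx K, m' ∈ D.monomialSubgroup K → m' ∈ G1 → ActsAs D K hf L m' x' →
      ∃ b1 ∈ D.borelSubgroup K ⊓ G1, ∃ b2 ∈ D.borelSubgroup K ⊓ G1, sg a * b * n = b1 * m' * b2 := by
    intro m' hm'N hm'G hm'act
    obtain ⟨v0, hv0, k0, hk0, v, hv, e4⟩ := hnf m' hm'N hm'G hm'act
    exact ⟨v0 * k0, ⟨Subgroup.mul_mem _ (hBle hv0.1) (hHle hk0.1), G1.mul_mem hv0.2 hk0.2⟩, v,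
      ⟨hBle (Um_le_pos D K m' hv.1), hv.2⟩, e4⟩
  rcases hy hyfix with h1 | h1
  · rw [h1, one_mul] at hx'eq
    obtain ⟨b1, hb1, b2, hb2, e5⟩ := key n hn hnG (hx'eq ▸ hactn)
    exact ⟨b1, hb1, b2, hb2, Or.inr e5⟩
  · rw [h1] at hx'eq
    obtain ⟨b1, hb1, b2, hb2, e5⟩ := key (sg a * n) (Subgroup.mul_mem _ (Y.sN a ha) hn)
      (G1.mul_mem (Y.sG a ha) hnG) (hx'eq ▸ actsAs_mul D K hf L (Y.act a ha) hactn)
    exact ⟨b1, hb1, b2, hb2, Or.inl e5⟩

include hl hNU hBN Y in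
theorem sq_mem_diag (a : ℕ) (ha : a < k') : sg a * sg a ∈ D.diagonalSubgroup K := by
  have h := actsAs_mul D K hf L (Y.act a ha) (Y.act a ha)
  rw [Y.sq a ha] at h
  exact mem_diag_of_actsAs_one D K hf L hl hNU hBN _ (Subgroup.mul_mem _ (Y.sN a ha) (Y.sN a ha)) h

include X hl hx1 hUV hNU hBN Y in
/-- An element of `B` in the twisted group that is not normalised into `B` by the distinguished element. -/
theorem exists_conj_not_mem [Finite K] {cls : List (ℕ × ℕ)} (hcls : ClsOK D w pi cls) {q : ℕ} (hq : 2 ≤ q)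
    (hcard : ∀ p ∈ cls, Nat.card {t : K // Closes pi eps f p t} = q ^ p.2) (a : ℕ) (ha : a < k') :
    ∃ b ∈ D.borelSubgroup K ⊓ G1, sg a * b * sg a ∉ D.borelSubgroup K := by
  have hcardU := card_Um_fixed hf X hl hx1 hUV hcls (by omega : 0 < q) hcard (wa a) (Y.wW a ha) (sg a) (Y.act a ha)
  have h2 : 1 < Nat.card ↥(Um D K (sg a) ⊓ G1) := by
    rw [hcardU]
    calc 1 < q := hq
      _ = q ^ 1 := (pow_one q).symm
      _ ≤ q ^ inv L.Pos (wa a) := Nat.pow_le_pow_right (by omega) (Y.ne a ha)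
  haveI : Finite ↥(Um D K (sg a) ⊓ G1) := Nat.finite_of_card_ne_zero (by omega)
  haveI : Nontrivial ↥(Um D K (sg a) ⊓ G1) := Finite.one_lt_card_iff_nontrivial.mp h2
  obtain ⟨⟨b, hb⟩, hbne⟩ := exists_ne (1 : ↥(Um D K (sg a) ⊓ G1))
  have hBle : D.posUnipotent K ≤ D.borelSubgroup K := le_sup_left
  have hHle : D.diagonalSubgroup K ≤ D.borelSubgroup K := le_sup_right
  refine ⟨b, ⟨hBle (Um_le_pos D K _ hb.1), hb.2⟩, ?_⟩
  intro hmem
  have hsq := sq_mem_diag hf hl hNU hBN Y a ha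
  have hB : sg a * b * (sg a)⁻¹ ∈ D.borelSubgroup K := by
    have e : sg a * b * (sg a)⁻¹ = (sg a * b * sg a) * (sg a * sg a)⁻¹ := by group
    rw [e]
    exact Subgroup.mul_mem _ hmem (Subgroup.inv_mem _ (hHle hsq))
  have hb1 := hb.1
  rw [Um_eq D K hf L hl hUV hx1 (Y.act a ha)] at hb1
  have hV : sg a * b * (sg a)⁻¹ ∈ D.negUnipotent K := by
    rw [negUnipotent_eq]
    apply conj_rootClosure D K hf L hl (Y.act a ha) (SNeg D L (wa a)) D.IsNegRoot (fun r hr => hr.1.1) ?_ b hb1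
    rintro r ⟨-, h, hneg⟩
    exact (hl.hneg _ (hl.hn ▸ (wa a r).2)).mp hneg
  have h3 : sg a * b * (sg a)⁻¹ ∈ D.borelSubgroup K ⊓ D.negUnipotent K := Subgroup.mem_inf.mpr ⟨hB, hV⟩
  rw [hUV, Subgroup.mem_bot] at h3
  apply hbne
  apply Subtype.ext
  show b = 1
  have e : b = (sg a)⁻¹ * (sg a * b * (sg a)⁻¹) * sg a := by group
  rw [e, h3]
  group

include X hl hchain hc hN hx hx1 hUV hNU hBN hE hU hnorm hUH Y P hPB hPN in
/-- The `(B, N)`-pair of the twisted group. -/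
theorem exists_bnPair [Finite K] {cls : List (ℕ × ℕ)} (hcls : ClsOK D w pi cls) {q : ℕ} (hq : 2 ≤ q)
    (hcard : ∀ p ∈ cls, Nat.card {t : K // Closes pi eps f p t} = q ^ p.2) :
    ∃ Q : Cfsg.BNPair ↥G1, Q.B = (D.borelSubgroup K ⊓ G1).subgroupOf G1 ∧
      Q.N = (D.monomialSubgroup K ⊓ G1).subgroupOf G1 ∧ Q.S = S1 G1 k' sg := by
  have hBle : D.posUnipotent K ≤ D.borelSubgroup K := le_sup_left
  have hHle : D.diagonalSubgroup K ≤ D.borelSubgroup K := le_sup_right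
  have hHN : D.diagonalSubgroup K ≤ D.monomialSubgroup K := le_sup_left
  have memB : ∀ g : ↥G1, g ∈ (D.borelSubgroup K ⊓ G1).subgroupOf G1 ↔ (g : GL D.Idx K) ∈ D.borelSubgroup K := by
    intro g
    rw [Subgroup.mem_subgroupOf, Subgroup.mem_inf]
    exact ⟨fun h => h.1, fun h => ⟨h, g.2⟩⟩
  have memN : ∀ g : ↥G1, g ∈ (D.monomialSubgroup K ⊓ G1).subgroupOf G1 ↔
      (g : GL D.Idx K) ∈ D.monomialSubgroup K := by
    intro g
    rw [Subgroup.mem_subgroupOf, Subgroup.mem_inf]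
    exact ⟨fun h => h.1, fun h => ⟨h, g.2⟩⟩
  refine ⟨{ B := (D.borelSubgroup K ⊓ G1).subgroupOf G1
            N := (D.monomialSubgroup K ⊓ G1).subgroupOf G1
            S := S1 G1 k' sg
            sup_eq_top := ?_
            conj_mem := ?_
            subset := ?_
            sq_mem := ?_
            inj := ?_
            closure_sup := ?_
            mul_mem_union := ?_
            conj_ne := ?_ }, rfl, rfl, rfl⟩
  · -- `B` and `N` generate
    rw [eq_top_iff]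
    rintro ⟨g, hg⟩ -
    obtain ⟨x, hxW, hnf⟩ := exists_normal_form hf X hl hchain hc hN hx hx1 hUV hNU hBN hE hU hnorm hUH g hg
    obtain ⟨m, hmN, hmG, hmact⟩ := X.W1rep x hxW
    obtain ⟨u0, hu0, h0, hh0, u, hu, e⟩ := hnf m hmN hmG hmact
    have e' : (⟨g, hg⟩ : ↥G1) = ⟨u0, hu0.2⟩ * ⟨h0, hh0.2⟩ * ⟨m, hmG⟩ * ⟨u, hu.2⟩ := Subtype.ext e
    rw [e']
    refine Subgroup.mul_mem _ (Subgroup.mul_mem _ (Subgroup.mul_mem _ ?_ ?_) ?_) ?_
    · exact Subgroup.mem_sup_left ((memB _).mpr (hBle hu0.1))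
    · exact Subgroup.mem_sup_left ((memB _).mpr (hHle hh0.1))
    · exact Subgroup.mem_sup_right ((memN _).mpr hmN)
    · exact Subgroup.mem_sup_left ((memB _).mpr (hBle (Um_le_pos D K m hu.1)))
  · -- `B ⊓ N` is normal in `N`
    intro n hn t ht
    rw [memN] at hn
    obtain ⟨ht1, ht2⟩ := Subgroup.mem_inf.mp ht
    rw [memB] at ht1 ⊢
    rw [memN] at ht2
    have htH : (t : GL D.Idx K) ∈ D.diagonalSubgroup K := by
      rw [← hBN]
      exact Subgroup.mem_inf.mpr ⟨ht1, ht2⟩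
    apply hHle
    exact (Subgroup.mem_normalizer_iff.mp (monomial_le_normalizer D K hf hn) _).mp htH
  · -- the distinguished elements lie in `N`
    rintro s ⟨a, ha, hs⟩
    rw [SetLike.mem_coe, memN, hs]
    exact Y.sN a ha
  · -- squares
    rintro s ⟨a, ha, hs⟩
    rw [memB]
    show (s : GL D.Idx K) * (s : GL D.Idx K) ∈ _
    rw [hs]
    exact hHle (sq_mem_diag hf hl hNU hBN Y a ha)
  · -- injectivity
    rintro s ⟨a, ha, hs⟩ s' ⟨b, hb, hs'⟩ hmem
    rw [memB] at hmem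
    have hmem' : (sg a)⁻¹ * sg b ∈ D.borelSubgroup K := by
      rw [← hs, ← hs']
      exact hmem
    have hd : (sg a)⁻¹ * sg b ∈ D.diagonalSubgroup K := by
      rw [← hBN]
      exact Subgroup.mem_inf.mpr ⟨hmem', Subgroup.mul_mem _ (Subgroup.inv_mem _ (Y.sN a ha)) (Y.sN b hb)⟩
    have h1 := actsAs_mul D K hf L (actsAs_inv D K hf L (Y.act a ha)) (Y.act b hb)
    have h2 := actsAs_diag D K hf L hchain hl _ hd
    have h3 := actsAs_unique D K hf L hl hx h1 h2
    have hab : a = b := Y.inj a ha b hb (inv_mul_eq_one.mp h3)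
    apply Subtype.ext
    rw [hs, hs', hab]
  · -- generation of `N`
    apply le_antisymm
    · apply sup_le
      · rw [Subgroup.closure_le]
        rintro s ⟨a, ha, hs⟩
        rw [SetLike.mem_coe, memN, hs]
        exact Y.sN a ha
      · exact inf_le_right
    · intro n hn
      rw [memN] at hn
      obtain ⟨x, hxW, hact⟩ := fixed_weyl hf X hl hchain hc hN hx _ hn n.2
      obtain ⟨m, hmS, hmact⟩ := Y.rep x hxW
      have hmN : (m : GL D.Idx K) ∈ D.monomialSubgroup K := by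
        have hle : Subgroup.closure (S1 G1 k' sg) ≤ (D.monomialSubgroup K ⊓ G1).subgroupOf G1 := by
          rw [Subgroup.closure_le]
          rintro s ⟨a, ha, hs⟩
          rw [SetLike.mem_coe, memN, hs]
          exact Y.sN a ha
        exact (memN m).mp (hle hmS)
      have hd := diag_of_same hf hl hNU hBN hmN hn hmact hact
      have e : n = m * (m⁻¹ * n) := by group
      rw [e]
      refine Subgroup.mul_mem _ (Subgroup.mem_sup_left hmS) (Subgroup.mem_sup_right ?_)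
      refine Subgroup.mem_inf.mpr ⟨(memB _).mpr (hHle hd), (memN _).mpr (hHN hd)⟩
  · -- the double coset condition
    rintro s ⟨a, ha, hs⟩ n hn b hb
    rw [memN] at hn
    rw [memB] at hb
    obtain ⟨b1, hb1, b2, hb2, e⟩ := twisted_union hf X hl hchain hc hN hx hx1 hUV hNU hBN hE hU hnorm hUH Y P hPB hPN
      a ha n hn n.2 b hb b.2
    rcases e with e | e
    · left
      rw [DoubleCoset.mem_doubleCoset]
      refine ⟨⟨b1, hb1.2⟩, (memB _).mpr hb1.1, ⟨b2, hb2.2⟩, (memB _).mpr hb2.1, ?_⟩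
      apply Subtype.ext
      show (s : GL D.Idx K) * b * n = b1 * ((s : GL D.Idx K) * n) * b2
      rw [hs]
      exact e
    · right
      rw [DoubleCoset.mem_doubleCoset]
      refine ⟨⟨b1, hb1.2⟩, (memB _).mpr hb1.1, ⟨b2, hb2.2⟩, (memB _).mpr hb2.1, ?_⟩
      apply Subtype.ext
      show (s : GL D.Idx K) * b * n = b1 * n * b2
      rw [hs]
      exact e
  · -- `s B s ≠ B`
    rintro s ⟨a, ha, hs⟩ heq
    obtain ⟨b, hb, hnot⟩ := exists_conj_not_mem hf X hl hx1 hUV hNU hBN Y hcls hq hcard a ha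
    have h1 : s * ⟨b, hb.2⟩ * s ∈ (fun b : ↥G1 => s * b * s) ''
        (((D.borelSubgroup K ⊓ G1).subgroupOf G1 : Subgroup ↥G1) : Set ↥G1) :=
      ⟨⟨b, hb.2⟩, (memB _).mpr hb.1, rfl⟩
    rw [heq, SetLike.mem_coe, memB] at h1
    apply hnot
    rw [← hs]
    exact h1

end

/-! ### the data of the generators from the orbits of the nodes -/

section gen

variable {D : ChevalleyDatum} {K : Type*} [Field K] (hf : Facts D K) {L : RootLit} {hwf : L.WF}
  {Ns : List Cfsg.Agent.Lib.Helper18_ChevN.NData} {wl : List ℤ} {ws : List (List ℤ)} {sc : ℤ} {w : List ℤ}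
  {C : Certs D Ns K wl ws sc w}
  {σ : GL D.Idx K →* GL D.Idx K} {pi : ℕ → ℕ} {eps : ℕ → ℤ} {f : K →+* K}
  {π : Equiv.Perm (Fin L.n)} {rhoN : ℕ → ℕ} {G1 : Subgroup (GL D.Idx K)}
  {refl' : List ℕ} {k' : ℕ} {h' : (twistLit L refl' k').WF}
  (X : TwData hf L hwf C (σ := σ) (pi := pi) (eps := eps) (f := f) π rhoN
    ((twistLit L refl' k').W h' (List.range k')) G1) (hl : LitOK D L) (hc : AllConj D K)
  (Js : List (List ℕ))
  (hJs : ∀ a < k', (∀ j ∈ Js.getD a [], j < L.rank) ∧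
    ∀ s < L.n, (twistLit L refl' k').r a s = evalWord L (Js.getD a []) s)
  (hmem : ∀ a < k', nJ C.c K (Js.getD a []) ∈ G1)
  (hdist : ∀ a < k', ∀ b < k', (∀ s < L.n, (twistLit L refl' k').r a s = (twistLit L refl' k').r b s) → a = b)
  (hneg : ∀ a < k', ∃ s < L.n, L.ps s = true ∧ L.ps ((twistLit L refl' k').r a s) = false)
  (hsub : ∀ a < k', ∀ I ∈ (Js.getD a []).sublists, (∀ s < L.n, pi (evalWord L I s) = evalWord L I (pi s)) →
    (∀ s < L.n, evalWord L I s = s) ∨ (∀ s < L.n, evalWord L I s = evalWord L (Js.getD a []) s))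

include X hl hc hJs hmem hdist hneg hsub in
theorem genData_of : GenData hf (L := L) (π := π) (W1 := (twistLit L refl' k').W h' (List.range k')) (G1 := G1) k'
    (fun a => nJ C.c K (Js.getD a [])) (fun a => (twistLit L refl' k').sPerm h' a) := by
  have hJr : ∀ a < k', ∀ j ∈ Js.getD a [], j < D.rank := fun a ha j hj => hl.hrank ▸ (hJs a ha).1 j hj
  have hact : ∀ a < k', ActsAs D K hf L (nJ C.c K (Js.getD a [])) ((twistLit L refl' k').sPerm h' a) := by
    intro a ha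
    rw [sPerm_twist hwf refl' k' h' Js hJs a ha]
    exact actsAs_nJ hf L hwf C hc hl _ (hJr a ha)
  refine ⟨fun a ha => nJ_mem_mono hf C _ (hJr a ha), hmem, hact,
    fun a _ => (twistLit L refl' k').sPerm_mul_self h' a, ?_, ?_, ?_, ?_, ?_⟩
  · -- injectivity
    intro a ha b hb e
    apply hdist a ha b hb
    intro s hs
    have e1 : ((((twistLit L refl' k').sPerm h' a) ⟨s, hs⟩ : Fin L.n) : ℕ) =
        ((((twistLit L refl' k').sPerm h' b) ⟨s, hs⟩ : Fin L.n) : ℕ) := by rw [e]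
    rw [(twistLit L refl' k').sPerm_val h' a ha, (twistLit L refl' k').sPerm_val h' b hb] at e1
    exact e1
  · -- a positive root made negative
    intro a ha
    obtain ⟨s, hs, hp, hn⟩ := hneg a ha
    unfold inv
    rw [Nat.one_le_iff_ne_zero, Ne, Finset.card_eq_zero, ← Ne, ← Finset.nonempty_iff_ne_empty]
    refine ⟨⟨s, hs⟩, ?_⟩
    rw [Finset.mem_filter, L.mem_Pos, L.mem_Pos]
    refine ⟨hp, ?_⟩
    have hv : (((twistLit L refl' k').sPerm h' a ⟨s, hs⟩ : Fin L.n) : ℕ) = (twistLit L refl' k').r a s :=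
      (twistLit L refl' k').sPerm_val h' a ha ⟨s, hs⟩
    rw [hv, hn]
    simp
  · intro a ha
    exact Subgroup.subset_closure ⟨a, List.mem_range.mpr ha, rfl⟩
  · -- representatives in the closure of the distinguished elements
    intro x hx
    refine (twistLit L refl' k').W_induction h' (List.range k')
      (fun x => ∃ m : ↥G1, m ∈ Subgroup.closure (S1 G1 k' fun a => nJ C.c K (Js.getD a [])) ∧
        ActsAs D K hf L (m : GL D.Idx K) x)
      ⟨1, Subgroup.one_mem _, actsAs_one D K hf L⟩ ?_ x hx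
    intro a ha y ⟨m, hm, hmact⟩
    have ha' := List.mem_range.mp ha
    refine ⟨⟨nJ C.c K (Js.getD a []), hmem a ha'⟩ * m,
      Subgroup.mul_mem _ (Subgroup.subset_closure ⟨a, ha', rfl⟩) hm, ?_⟩
    exact actsAs_mul D K hf L (hact a ha') hmact
  · -- the double coset condition in the ambient group
    intro a ha n hn b hb
    obtain ⟨I, hI, b1, hb1, b2, hb2, e⟩ := nJ_mul_mem hf (C := C) (Js.getD a []) (hJr a ha) n hn b hb
    have hIr : ∀ j ∈ I, j < D.rank := fun j hj => hJr a ha j (hI.subset hj)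
    have hIr' : ∀ j ∈ I, j < L.rank := fun j hj => (hJs a ha).1 j (hI.subset hj)
    refine ⟨L.wPerm hwf I, ?_, nJ C.c K I, nJ_mem_mono hf C I hIr, actsAs_nJ hf L hwf C hc hl I hIr,
      b1, hb1, b2, hb2, e⟩
    intro hfix
    have h1 : ∀ s < L.n, pi (evalWord L I s) = evalWord L I (pi s) := by
      intro s hs
      have e1 : (((π * L.wPerm hwf I * π⁻¹) (π ⟨s, hs⟩) : Fin L.n) : ℕ) =
          ((L.wPerm hwf I (π ⟨s, hs⟩) : Fin L.n) : ℕ) := by rw [hfix]
      rw [Equiv.Perm.mul_apply, Equiv.Perm.mul_apply, Equiv.Perm.inv_def, Equiv.symm_apply_apply,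
        X.piok.val, wPerm_eval L hwf I hIr', wPerm_eval L hwf I hIr', X.piok.val] at e1
      exact e1
    rcases hsub a ha I (List.mem_sublists.mpr hI) h1 with h2 | h2
    · left
      ext s
      rw [wPerm_eval L hwf I hIr', h2 s s.2]
      rfl
    · right
      rw [sPerm_twist hwf refl' k' h' Js hJs a ha]
      ext s
      rw [wPerm_eval L hwf I hIr', wPerm_eval L hwf _ (hJs a ha).1, h2 s s.2]

end gen

end Cfsg.Agent.Lib.Helper36_TwistBN
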