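import Cfsg.Agent.Lib.Helper36_TwistAbs

set_option autoImplicit false

/-!
From the hypotheses on a twisting endomorphism given on the group only to the abstract normal form of the fixed
elements and to the data of the distinguished generators of the group of fixed elements.
-/

namespace Cfsg.Agent.Lib.Helper36_TwistGenBN

open Cfsg Cfsg.Lie Cfsg.Agent.Lib.Helper36_ChevCoeff Cfsg.Agent.Lib.Helper36_ChevAdd
  Cfsg.Agent.Lib.Helper36_ChevWeyl Cfsg.Agent.Lib.Helper36_ChevGen Cfsg.Agent.Lib.Helper36_ChevTables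
  Cfsg.Agent.Lib.Helper36_ChevTorus Cfsg.Agent.Lib.Helper36_ChevBorel Cfsg.Agent.Lib.Helper36_ChevW0
  Cfsg.Agent.Lib.Helper36_ChevCore Cfsg.Agent.Lib.Helper36_ChevCommU Cfsg.Agent.Lib.Helper36_WeylChain
  Cfsg.Agent.Lib.Helper36_WeylLit Cfsg.Agent.Lib.Helper36_WeylLit.RootLit Cfsg.Agent.Lib.Helper36_ChevOrder
  Cfsg.Agent.Lib.Helper36_TwistU Cfsg.Agent.Lib.Helper36_TwistW
  Cfsg.Agent.Lib.Helper36_TwistWeyl Cfsg.Agent.Lib.Helper36_TwistBN Cfsg.Agent.Lib.Helper36_TwistOrder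
  Cfsg.Agent.Lib.Helper36_TwistGen Cfsg.Agent.Lib.Helper36_TwistAbs
  Cfsg.Agent.Lib.Helper18_ChevFast Cfsg.Agent.Lib.Helper18_ChevEngine

section

variable {D : ChevalleyDatum} {K : Type*} [Field K] (hf : Facts D K) {L : RootLit} {hwf : L.WF}
  {Ns : List Cfsg.Agent.Lib.Helper18_ChevN.NData} {wl : List ℤ} {ws : List (List ℤ)} {sc : ℤ} {w : List ℤ}
  (C : Certs D Ns K wl ws sc w)
  {σ : ↥(D.group K) →* ↥(D.group K)} {pi : ℕ → ℕ} {fr : ℕ → K →+* K} {π : Equiv.Perm (Fin L.n)}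
  {G1 : Subgroup (GL D.Idx K)} (X : TwGen hf L hwf σ pi fr π G1) (hl : LitOK D L)
  (hchain : ChainOK D) (hc : AllConj D K) (hN : NGen D K) (hx : XInj D K) (hx1 : XOne D K)
  (hUV : D.borelSubgroup K ⊓ D.negUnipotent K = ⊥)
  (hNU : Subgroup.normalizer (D.posUnipotent K : Set (GL D.Idx K)) ⊓ D.group K = D.borelSubgroup K)
  (hBN : D.borelSubgroup K ⊓ D.monomialSubgroup K = D.diagonalSubgroup K)
  (hE : BruhatE D K) (hU : BruhatU D K)
  (hnorm : D.diagonalSubgroup K ≤ Subgroup.normalizer (D.posUnipotent K : Set (GL D.Idx K)))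
  (hUH : D.posUnipotent K ⊓ D.diagonalSubgroup K = ⊥)
  (hHfix : ∀ h ∈ D.diagonalSubgroup K, sgm σ h = h → h ∈ G1)
  {refl' : List ℕ} {k' : ℕ} {h' : (twistLit L refl' k').WF}
  (Js : List (List ℕ))
  (hJs : ∀ a < k', (∀ j ∈ Js.getD a [], j < L.rank) ∧
    ∀ s < L.n, (twistLit L refl' k').r a s = evalWord L (Js.getD a []) s)
  (hW1comm : ∀ x ∈ (twistLit L refl' k').W h' (List.range k'), π * x * π⁻¹ = x)
  (hW1fix : ∀ x ∈ WAll L hwf, π * x * π⁻¹ = x → x ∈ (twistLit L refl' k').W h' (List.range k'))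
  {sg : ℕ → GL D.Idx K} (hsgN : ∀ a < k', sg a ∈ D.monomialSubgroup K) (hsgG : ∀ a < k', sg a ∈ G1)
  (hsgact : ∀ a < k', ActsAs D K hf L (sg a) ((twistLit L refl' k').sPerm h' a))

include X hl hchain hc hN hx hW1fix in
/-- An element of `N` in the subgroup acts as a fixed element of the Weyl group. -/
theorem fixed_weyl (n : GL D.Idx K) (hn : n ∈ D.monomialSubgroup K) (hnG : n ∈ G1) :
    ∃ x ∈ (twistLit L refl' k').W h' (List.range k'), ActsAs D K hf L n x := by
  obtain ⟨-, -, -, hNG⟩ := subgroups_le D K hf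
  obtain ⟨x, hxW, hact⟩ := exists_actsAs D K hf L hwf hchain hc hl hN n hn
  have hact' := actsAs_sigma hf X hl (hNG hn) hxW hact
  rw [X.G1fix n hnG] at hact'
  have := actsAs_unique D K hf L hl hx hact hact'
  exact ⟨x, hW1fix x hxW this.symm, hact⟩

include hsgN hsgG hsgact in
/-- Representatives in the subgroup of the fixed elements of the Weyl group. -/
theorem exists_rep (x : Equiv.Perm (Fin L.n)) (hx' : x ∈ (twistLit L refl' k').W h' (List.range k')) :
    ∃ m : ↥G1, m ∈ Subgroup.closure (S1 G1 k' sg) ∧ (m : GL D.Idx K) ∈ D.monomialSubgroup K ∧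
      ActsAs D K hf L (m : GL D.Idx K) x := by
  refine (twistLit L refl' k').W_induction h' (List.range k')
    (fun x => ∃ m : ↥G1, m ∈ Subgroup.closure (S1 G1 k' sg) ∧ (m : GL D.Idx K) ∈ D.monomialSubgroup K ∧
      ActsAs D K hf L (m : GL D.Idx K) x)
    ⟨1, Subgroup.one_mem _, Subgroup.one_mem _, actsAs_one D K hf L⟩ ?_ x hx'
  intro a ha y ⟨m, hm, hmN, hmact⟩
  have ha' := List.mem_range.mp ha
  refine ⟨⟨sg a, hsgG a ha'⟩ * m, Subgroup.mul_mem _ (Subgroup.subset_closure ⟨a, ha', rfl⟩) hm,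
    Subgroup.mul_mem _ (hsgN a ha') hmN, ?_⟩
  exact actsAs_mul D K hf L (hsgact a ha') hmact

include X hl hchain hc hN hx hx1 hUV hNU hBN hE hU hnorm hUH hHfix hJs hW1comm hW1fix hsgN hsgG hsgact in
/-- The abstract normal form of the fixed elements. -/
theorem twAbs_of : TwAbs hf L hwf π ((twistLit L refl' k').W h' (List.range k')) G1 := by
  have h1 : (twistLit L refl' k').W h' (List.range k') ≤ WAll L hwf := by
    unfold WAll
    exact W1_le hwf refl' k' h' Js hJs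
  have h2 : ∀ x ∈ (twistLit L refl' k').W h' (List.range k'), ∃ m ∈ D.monomialSubgroup K, m ∈ G1 ∧
      ActsAs D K hf L m x := by
    intro x hx'
    obtain ⟨m, -, hmN, hmact⟩ := exists_rep hf hsgN hsgG hsgact x hx'
    exact ⟨m, hmN, m.2, hmact⟩
  have h3 : ∀ n ∈ D.monomialSubgroup K, n ∈ G1 → ∃ x ∈ (twistLit L refl' k').W h' (List.range k'),
      ActsAs D K hf L n x := fixed_weyl hf X hl hchain hc hN hx hW1fix
  have h4 : ∀ g ∈ G1, ∃ x ∈ (twistLit L refl' k').W h' (List.range k'), ∀ m ∈ D.monomialSubgroup K, m ∈ G1 →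
      ActsAs D K hf L m x → ∃ u0 ∈ D.posUnipotent K ⊓ G1, ∃ h0 ∈ D.diagonalSubgroup K ⊓ G1,
        ∃ u ∈ Um D K m ⊓ G1, g = u0 * h0 * m * u := by
    intro g hg
    obtain ⟨x, hxW, hxfix, hnf⟩ := exists_normal_form hf X hl hchain hc hN hx hx1 hUV hNU hBN hE hU hnorm hUH g
      (X.G1le hg) (X.G1fix g hg)
    refine ⟨x, hW1fix x hxW hxfix, ?_⟩
    intro m hmN hmG hmact
    obtain ⟨u0, hu0, h0, hh0, hh0fix, u, hu, e⟩ := hnf m hmN (X.G1fix m hmG) hmact
    exact ⟨u0, hu0, h0, ⟨hh0, hHfix h0 hh0 hh0fix⟩, u, hu, e⟩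
  exact ⟨X.G1le, h1, hW1comm, hW1fix, h2, h3, h4⟩

variable
  (hdist : ∀ a < k', ∀ b < k', (∀ s < L.n, (twistLit L refl' k').r a s = (twistLit L refl' k').r b s) → a = b)
  (hneg : ∀ a < k', ∃ s < L.n, L.ps s = true ∧ L.ps ((twistLit L refl' k').r a s) = false)
  (hsub : ∀ a < k', ∀ I ∈ (Js.getD a []).sublists, (∀ s < L.n, pi (evalWord L I s) = evalWord L I (pi s)) →
    (∀ s < L.n, evalWord L I s = s) ∨ (∀ s < L.n, evalWord L I s = evalWord L (Js.getD a []) s))

include C X hl hc hNU hBN hJs hsgN hsgG hsgact hdist hneg hsub in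
/-- The data of the distinguished generators. -/
theorem genData_of' : GenData hf (L := L) (π := π) (W1 := (twistLit L refl' k').W h' (List.range k')) (G1 := G1) k'
    sg (fun a => (twistLit L refl' k').sPerm h' a) := by
  have hJr : ∀ a < k', ∀ j ∈ Js.getD a [], j < D.rank := fun a ha j hj => hl.hrank ▸ (hJs a ha).1 j hj
  have hactJ : ∀ a < k', ActsAs D K hf L (nJ C.c K (Js.getD a [])) ((twistLit L refl' k').sPerm h' a) := by
    intro a ha
    rw [sPerm_twist hwf refl' k' h' Js hJs a ha]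
    exact actsAs_nJ hf L hwf C hc hl _ (hJr a ha)
  refine ⟨hsgN, hsgG, hsgact, fun a _ => (twistLit L refl' k').sPerm_mul_self h' a, ?_, ?_, ?_, ?_, ?_⟩
  · -- injectivity
    intro a ha b hb e
    apply hdist a ha b hb
    intro s hs
    have e1 : ((((twistLit L refl' k').sPerm h' a) ⟨s, hs⟩ : Fin L.n) : ℕ) =
        ((((twistLit L refl' k').sPerm h' b) ⟨s, hs⟩ : Fin L.n) : ℕ) := by rw [e]
    rw [(twistLit L refl' k').sPerm_val h' a ha, (twistLit L refl' k').sPerm_val h' b hb] at e1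
    exact e1
  · -- a positive root made negative
    intro a ha
    obtain ⟨s, hs, hp, hn⟩ := hneg a ha
    unfold inv
    rw [Nat.one_le_iff_ne_zero, Ne, Finset.card_eq_zero, ← Ne, ← Finset.nonempty_iff_ne_empty]
    refine ⟨⟨s, hs⟩, ?_⟩
    rw [Finset.mem_filter, L.mem_Pos, L.mem_Pos]
    refine ⟨hp, ?_⟩
    have hv : (((twistLit L refl' k').sPerm h' a ⟨s, hs⟩ : Fin L.n) : ℕ) = (twistLit L refl' k').r a s :=
      (twistLit L refl' k').sPerm_val h' a ha ⟨s, hs⟩
    rw [hv, hn]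
    simp
  · intro a ha
    exact Subgroup.subset_closure ⟨a, List.mem_range.mpr ha, rfl⟩
  · -- representatives in the closure of the distinguished elements
    intro x hx'
    obtain ⟨m, hm, -, hmact⟩ := exists_rep hf hsgN hsgG hsgact x hx'
    exact ⟨m, hm, hmact⟩
  · -- the double coset condition in the ambient group
    intro a ha n hn b hb
    have hJN := nJ_mem_mono hf C _ (hJr a ha)
    have hd : (nJ C.c K (Js.getD a []))⁻¹ * sg a ∈ D.diagonalSubgroup K :=
      diag_of_same hf hl hNU hBN hJN (hsgN a ha) (hactJ a ha) (hsgact a ha)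
    have hb' : (nJ C.c K (Js.getD a []))⁻¹ * sg a * b ∈ D.borelSubgroup K :=
      Subgroup.mul_mem _ ((le_sup_right : D.diagonalSubgroup K ≤ D.borelSubgroup K) hd) hb
    obtain ⟨I, hI, b1, hb1, b2, hb2, e⟩ := nJ_mul_mem hf (C := C) (Js.getD a []) (hJr a ha) n hn _ hb'
    have e' : sg a * b * n = b1 * (nJ C.c K I * n) * b2 := by
      rw [← e]
      group
    have hIr : ∀ j ∈ I, j < D.rank := fun j hj => hJr a ha j (hI.subset hj)
    have hIr' : ∀ j ∈ I, j < L.rank := fun j hj => (hJs a ha).1 j (hI.subset hj)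
    refine ⟨L.wPerm hwf I, ?_, nJ C.c K I, nJ_mem_mono hf C I hIr, actsAs_nJ hf L hwf C hc hl I hIr,
      b1, hb1, b2, hb2, e'⟩
    intro hfix
    have h1 : ∀ s < L.n, pi (evalWord L I s) = evalWord L I (pi s) := by
      intro s hs
      have e1 : (((π * L.wPerm hwf I * π⁻¹) (π ⟨s, hs⟩) : Fin L.n) : ℕ) =
          ((L.wPerm hwf I (π ⟨s, hs⟩) : Fin L.n) : ℕ) := by rw [hfix]
      rw [Equiv.Perm.mul_apply, Equiv.Perm.mul_apply, Equiv.Perm.inv_def, Equiv.symm_apply_apply,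
        X.val, wPerm_eval L hwf I hIr', wPerm_eval L hwf I hIr', X.val] at e1
      exact e1
    rcases hsub a ha I (List.mem_sublists.mpr hI) h1 with h2 | h2
    · left
      ext s
      rw [wPerm_eval L hwf I hIr', h2 s s.2]
      rfl
    · right
      rw [sPerm_twist hwf refl' k' h' Js hJs a ha]
      ext s
      rw [wPerm_eval L hwf I hIr', wPerm_eval L hwf _ (hJs a ha).1, h2 s s.2]

end

end Cfsg.Agent.Lib.Helper36_TwistGenBN
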