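import Cfsg.Agent.Lib.Helper36_TwistPerf

set_option autoImplicit false

/-!
The fixed elements of the unipotent subgroup `U` under a twisting automorphism are products of the elements of the
classes of roots: peeling off the classes one by one.  In characteristic `2` the elements of the classes are
involutions.
-/

namespace Cfsg.Agent.Lib.Helper36_TwistGenU

open Cfsg Cfsg.Lie Cfsg.Agent.Lib.Helper18_ChevFast Cfsg.Agent.Lib.Helper18_ChevEngine
  Cfsg.Agent.Lib.Helper18_ChevR1 Cfsg.Agent.Lib.Helper18_ChevN Cfsg.Agent.Lib.Helper18_ChevR4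
  Cfsg.Agent.Lib.Helper18_ChevSimple Cfsg.Agent.Lib.Helper18_ChevSimple2 Cfsg.Agent.Lib.Helper18_ChevFacts
  Cfsg.Agent.Lib.Helper18_ChevWeyl Cfsg.Agent.Lib.Helper18_ChevDiag Cfsg.Agent.Lib.Helper18_ChevCar
  Cfsg.Agent.Lib.Helper18_ChevTorus Cfsg.Agent.Lib.Helper18_ChevGL Cfsg.Agent.Lib.Helper18_ChevComm
  Cfsg.Agent.Lib.Helper18_ChevComm2 Cfsg.Agent.Lib.Helper18_MatTri Cfsg.Agent.Lib.Helper18_ChevTri
  Cfsg.Agent.Lib.Helper18_ChevBorel Cfsg.Agent.Lib.Helper18_ChevAdd Cfsg.Agent.Lib.Helper18_ChevUni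
  Cfsg.Agent.Lib.Helper36_TwistU Cfsg.Agent.Lib.Helper36_TwistW Cfsg.Agent.Lib.Helper36_TwistPerf

variable {D : ChevalleyDatum} {Ns : List NData} {K : Type*} [Field K]
variable {wl : List ℤ} {ws : List (List ℤ)} {sc : ℤ} {w : List ℤ}

/-- The elements of the classes of a list, with admissible parameters. -/
def classElts (c : DCert D Ns) (pi : ℕ → ℕ) (eps : ℕ → ℤ) (f : K →+* K) (cls : List (ℕ × ℕ)) :
    Set (GL D.Idx K) :=
  {g | ∃ p ∈ cls, ∃ t : K, Closes pi eps f p t ∧ g = yS c pi eps f p t}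

variable (C : Certs D Ns K wl ws sc w) {σ : GL D.Idx K →* GL D.Idx K} {pi : ℕ → ℕ} {eps : ℕ → ℤ} {f : K →+* K}
  (T : Twist C.c w σ pi eps f)

include T in
/-- A fixed element of `U` whose parameters on an initial segment of the classes vanish is a product of class
elements. -/
theorem mem_closure_of_Zset {cls : List (ℕ × ℕ)} (hc : ClsOK D w pi cls) :
    ∀ (post pre : List (ℕ × ℕ)), cls = pre ++ post → ∀ g ∈ Zset C.c σ (rootsOf pi pre),
      g ∈ Subgroup.closure (classElts C.c pi eps f cls)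
  | [], pre, h, g, hg => by
    have h1 : g = 1 := by
      apply eq_one_of_tOf C g hg.1
      intro r hr
      apply hg.2.2 r
      have := hc.cover r hr
      rw [h, List.append_nil] at this
      exact this
    rw [h1]
    exact Subgroup.one_mem _
  | p :: post, pre, h, g, hg => by
    obtain ⟨hcl, hz⟩ := decomp C T hc h g hg
    have hpc : p ∈ cls := by rw [h]; simp
    have ih := mem_closure_of_Zset hc post (pre ++ [p]) (by rw [h]; simp) _ hz
    have e : g = yS C.c pi eps f p (tOf C.c g p.1) * ((yS C.c pi eps f p (tOf C.c g p.1))⁻¹ * g) := by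
      rw [mul_inv_cancel_left]
    rw [e]
    exact Subgroup.mul_mem _ (Subgroup.subset_closure ⟨p, hpc, _, hcl, rfl⟩) ih

include T in
/-- Every fixed element of `U` is a product of class elements. -/
theorem mem_closure_of_fixed {cls : List (ℕ × ℕ)} (hc : ClsOK D w pi cls) (g : GL D.Idx K)
    (hg : g ∈ D.posUnipotent K) (hσ : σ g = g) : g ∈ Subgroup.closure (classElts C.c pi eps f cls) :=
  mem_closure_of_Zset C T hc cls [] rfl g ⟨hg, hσ, fun r hr => by simp [rootsOf] at hr⟩

include T in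
/-- In characteristic `2` the class elements are involutions. -/
theorem classElt_sq [CharP K 2] {cls : List (ℕ × ℕ)} (hc : ClsOK D w pi cls) (g : GL D.Idx K)
    (hg : g ∈ classElts C.c pi eps f cls) : g * g = 1 := by
  obtain ⟨p, hp, t, ht, rfl⟩ := hg
  rw [(yS_mul C T p (hc.each p hp) t t ht ht).2, CharTwo.add_self_eq_zero]
  unfold yS
  have : ∀ (n : ℕ) (r : ℕ), wordGL C.c (orbWord pi eps f n (r, (0 : K))) = 1 := by
    intro n
    induction n with
    | zero => intro r; rfl
    | succ n ih =>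
      intro r
      have hs : stepL pi eps f (r, (0 : K)) = (pi r, 0) := by simp [stepL]
      rw [orbWord, hs, wordGL_cons, ih, mul_one]
      exact xGL_zero C.c r
  exact this _ _

/-- The closure of a subset of a subgroup, inside the subgroup. -/
theorem closure_subtype {G : Type*} [Group G] (H : Subgroup G) (S : Set G) (hS : S ⊆ H) (g : G)
    (hg : g ∈ Subgroup.closure S) : ∃ h : g ∈ H, (⟨g, h⟩ : H) ∈ Subgroup.closure {s : H | s.1 ∈ S} := by
  induction hg using Subgroup.closure_induction with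
  | mem s hs => exact ⟨hS hs, Subgroup.subset_closure hs⟩
  | one => exact ⟨H.one_mem, Subgroup.one_mem _⟩
  | mul a b _ _ iha ihb =>
    obtain ⟨ha, ha'⟩ := iha
    obtain ⟨hb, hb'⟩ := ihb
    exact ⟨H.mul_mem ha hb, Subgroup.mul_mem _ ha' hb'⟩
  | inv a _ iha =>
    obtain ⟨ha, ha'⟩ := iha
    exact ⟨H.inv_mem ha, Subgroup.inv_mem _ ha'⟩

include T in
/-- The fixed elements of `U` in a subgroup `G1` of fixed elements which contains the class elements: generation inside
the subgroup. -/
theorem closure_eq_U1 {cls : List (ℕ × ℕ)} (hc : ClsOK D w pi cls) (G1 : Subgroup (GL D.Idx K))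
    (hfix : ∀ g ∈ G1, σ g = g) (hmem : ∀ g ∈ classElts C.c pi eps f cls, g ∈ G1) :
    Subgroup.closure {s : G1 | s.1 ∈ classElts C.c pi eps f cls} = (D.posUnipotent K ⊓ G1).subgroupOf G1 := by
  apply le_antisymm
  · rw [Subgroup.closure_le]
    rintro s ⟨p, hp, t, ht, hs⟩
    rw [SetLike.mem_coe, Subgroup.mem_subgroupOf]
    refine ⟨?_, s.2⟩
    show s.1 ∈ D.posUnipotent K
    rw [hs]
    exact yS_mem C T p (hc.each p hp) t
  · intro x hx
    rw [Subgroup.mem_subgroupOf] at hx
    obtain ⟨h, hx'⟩ := closure_subtype G1 _ hmem x.1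
      (mem_closure_of_fixed C T hc x.1 hx.1 (hfix x.1 x.2))
    exact hx'

end Cfsg.Agent.Lib.Helper36_TwistGenU
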