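import Cfsg.Agent.Lib.Helper36_TwistSimple
import Cfsg.Agent.Lib.Helper36_TwistPerfD4
import Cfsg.Agent.Lib.Helper36_TwistCoreD4
import Cfsg.Agent.S1050

set_option autoImplicit false

/-!
The twisted group of type `³D₄` is simple.
-/

namespace Cfsg.Agent.Lib.Helper36_TwistSimpleD4

open Cfsg Cfsg.Lie Cfsg.Agent.Lib.Helper36_ChevTorus Cfsg.Agent.Lib.Helper36_ChevTorusAll
  Cfsg.Agent.Lib.Helper36_ChevW0 Cfsg.Agent.Lib.Helper36_ChevW0All Cfsg.Agent.Lib.Helper36_ChevTables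
  Cfsg.Agent.Lib.Helper36_ChevOrder Cfsg.Agent.Lib.Helper36_ChevOrderAll Cfsg.Agent.Lib.Helper36_WeylChain
  Cfsg.Agent.Lib.Helper36_WeylLit Cfsg.Agent.Lib.Helper36_WeylLit.RootLit
  Cfsg.Agent.Lib.Helper36_TwistU Cfsg.Agent.Lib.Helper36_TwistW Cfsg.Agent.Lib.Helper36_TwistWeyl
  Cfsg.Agent.Lib.Helper36_TwistOrder Cfsg.Agent.Lib.Helper36_TwistTabD4 Cfsg.Agent.Lib.Helper36_TwistD4
  Cfsg.Agent.Lib.Helper36_TwistWeylD4 Cfsg.Agent.Lib.Helper36_ChevDataD4Lit Cfsg.Agent.Lib.Helper36_ChevDataD4LitOK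
  Cfsg.Agent.Lib.Helper36_TwistOrderD4 Cfsg.Agent.Lib.Helper36_TwistBN Cfsg.Agent.Lib.Helper36_TwistBND4
  Cfsg.Agent.Lib.Helper36_TwistSimple

theorem edgeOK : ∀ e ∈ [((0 : ℕ), (1 : ℕ))], e.1 < lit'.rank ∧ e.2 < lit'.rank ∧
    ∃ s < lit'.n, lit'.r e.1 (lit'.r e.2 s) ≠ lit'.r e.2 (lit'.r e.1 s) := by decide +kernel

/-- `³D₄(q)` is simple and not commutative. -/
theorem simple {K : Type*} [Field K] [Fintype K] {q : ℕ} (hq : IsPrimePow q) (hK : Fintype.card K = q ^ 3) :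
    IsSimpleGroup ↥(twistedD4 K q) ∧ ¬ IsMulCommutative ↥(twistedD4 K q) := by
  obtain ⟨f, hf⟩ := Cfsg.Agent.Lib.Helper36_TwistF.exists_frob hq hK
  obtain ⟨Q, hQB, -, hQS⟩ := Cfsg.Agent.Lib.Helper36_TwistBND4.exists_bnPair (K := K) hq hK
  refine twisted_simple (facts_of_mem chevD4 hD K) litOK (chainOK_of_mem chevD4 hD) (xInj_of_mem chevD4 hD)
    (Cfsg.Agent.S1040.result chevD4 hD).2 (genData hK f hf) Q hQB hQS [(0, 1)] ?_ conn2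
    (by norm_num) (Cfsg.Agent.S1050.result chevD4 hD) (Cfsg.Agent.Lib.Helper36_TwistPerfD4.perfect hq hK)
    (Cfsg.Agent.Lib.Helper36_TwistCoreD4.core_bot hq hK)
  intro e he
  obtain ⟨h1, h2, s, hs, hne⟩ := edgeOK e he
  exact ⟨h1, h2, sPerm_ne_comm lit' wf' e.1 e.2 h1 h2 s hs hne⟩

end Cfsg.Agent.Lib.Helper36_TwistSimpleD4
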