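import Cfsg.Agent.Lib.Helper36_TwistW
import Cfsg.Agent.Lib.Helper36_ChevDataE6Aut
import Cfsg.Agent.Lib.Helper18_ChevData5

set_option autoImplicit false
set_option Elab.async false

/-! Type E6: the tables of the twisted group (classes of positive roots under the symmetry, the chain of reflections
reaching every class from a fundamental one) and their checks. Generated file. -/

namespace Cfsg.Agent.Lib.Helper36_TwistTabE6

open Cfsg Cfsg.Lie Cfsg.Agent.Lib.Helper18_ChevTri Cfsg.Agent.Lib.Helper36_TwistU Cfsg.Agent.Lib.Helper36_TwistW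
  Cfsg.Agent.Lib.Helper36_ChevAut Cfsg.Agent.Lib.Helper36_ChevDataE6Aut

/-- The permutation of the roots. -/
def pi (r : ℕ) : ℕ := autData.pi.getD r 0

/-- The signs. -/
def eps (r : ℕ) : ℤ := autData.eps.getD r 0

/-- The weights of the height. -/
abbrev w : List ℤ := Cfsg.Agent.Lib.Helper18_ChevGCertE6.w

/-- The classes of positive roots: head and size, by increasing height. -/
def cls : List (ℕ × ℕ) := [(39, 1), (42, 2), (46, 1), (56, 2), (38, 2), (40, 2), (47, 1), (41, 2), (44, 1), (48, 2), (45, 2), (49, 2), (51, 1), (52, 2), (53, 1), (60, 1), (54, 2), (63, 1), (55, 2), (65, 1), (66, 2), (69, 1), (70, 1), (71, 1)]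

/-- The fundamental classes. -/
def baseCls : List (ℕ × ℕ) := [(39, 1), (42, 2), (46, 1), (56, 2)]

/-- The orbits of the fundamental roots and of their negatives. -/
def gens : List (ℕ × ℕ) := [(39, 1), (42, 2), (46, 1), (56, 2), (15, 2), (29, 2), (25, 1), (32, 1)]

/-- The orbits of the nodes. -/
def Js : List (List ℕ) := [[1], [3], [0, 5], [2, 4]]

/-- The chain: each class with the orbit of nodes whose reflections map it to an earlier class. -/
def steps : List (List ℕ × List ℕ) := [([38, 57], [0, 5]), ([40, 43], [3]), ([47], [1]), ([41, 58], [3]), ([44], [2, 4]), ([48, 50], [1]), ([45, 59], [2, 4]), ([49, 61], [1]), ([51], [1]), ([52, 62], [1]), ([53], [3]), ([60], [0, 5]), ([54, 64], [3]), ([63], [1]), ([55, 67], [2, 4]), ([65], [3]), ([66, 68], [0, 5]), ([69], [2, 4]), ([70], [3]), ([71], [1])]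

theorem posOK : ∀ r < chevE6.nroots, chevE6.IsPosRoot r →
    chevE6.IsPosRoot (pi r) ∧ grL chevE6 w (pi r) = grL chevE6 w r := by decide +kernel

theorem injOK : (chevE6.posRoots.map pi).Nodup := by decide +kernel

theorem classesOK : ∀ p ∈ cls, (∀ r ∈ orbRoots pi p.2 p.1, chevE6.IsPosRoot r) ∧ (orbRoots pi p.2 p.1).Nodup ∧
    pi^[p.2] p.1 = p.1 ∧ 0 < p.2 ∧
    (∀ r ∈ orbRoots pi p.2 p.1, ∀ s ∈ orbRoots pi p.2 p.1, r ≠ s → chevE6.commTerms r s = []) ∧
    epsProd pi eps p.2 p.1 = 1 ∧ (p.2 = 1 ∨ p.2 = 2) := by decide +kernel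

theorem gensOK : ∀ p ∈ gens, (∀ r ∈ orbRoots pi p.2 p.1, r < chevE6.nroots) ∧ (orbRoots pi p.2 p.1).Nodup ∧
    pi^[p.2] p.1 = p.1 ∧ 0 < p.2 ∧
    (∀ r ∈ orbRoots pi p.2 p.1, ∀ s ∈ orbRoots pi p.2 p.1, r ≠ s →
      s ≠ chevE6.neg r ∧ chevE6.commTerms r s = []) ∧
    epsProd pi eps p.2 p.1 = 1 ∧ (p.2 = 1 ∨ p.2 = 2) := by decide +kernel

theorem nodupOK : (rootsOf pi cls).Nodup := by decide +kernel

theorem coverOK : ∀ r < chevE6.nroots, chevE6.IsPosRoot r → r ∈ rootsOf pi cls := by decide +kernel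

theorem sortedOK : cls.Pairwise fun p q => grL chevE6 w p.1 ≤ grL chevE6 w q.1 := by decide +kernel

theorem sizeOK : (cls.map fun p => p.2).sum = 36 := by decide +kernel

theorem chainOK : chainValid chevE6 (baseCls.map fun p => orbRoots pi p.2 p.1) steps = true := by decide +kernel

theorem stepsOK : ∀ st ∈ steps, st.2 ∈ Js := by decide +kernel

theorem reachOK : ∀ p ∈ cls, orbRoots pi p.2 p.1 ∈ chainOut (baseCls.map fun p => orbRoots pi p.2 p.1) steps := by
  decide +kernel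

theorem baseOK : ∀ p ∈ baseCls, p ∈ cls ∧ p ∈ gens := by decide +kernel

theorem JsOK : ∀ J ∈ Js, ∀ i ∈ J, i < chevE6.rank := by decide +kernel

theorem crossOK : ∀ J ∈ Js, ∀ i ∈ J, ∀ j ∈ J, i ≠ j →
    ∀ r ∈ [chevE6.simple i, chevE6.neg (chevE6.simple i)],
    ∀ s ∈ [chevE6.simple j, chevE6.neg (chevE6.simple j)],
      r < chevE6.nroots ∧ s < chevE6.nroots ∧ r ≠ s ∧ s ≠ chevE6.neg r ∧ chevE6.commTerms r s = [] := by
  decide +kernel

end Cfsg.Agent.Lib.Helper36_TwistTabE6
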