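import Cfsg.Agent.Lib.Helper36_TwistWeylHom
import Cfsg.Agent.Lib.Helper36_TwistBND4
import Cfsg.Agent.S1092

set_option autoImplicit false

/-!
The twisted Weyl group of `²E₆(q)` is the Coxeter group of type `G₂`.
-/

namespace Cfsg.Agent.Lib.Helper36_TwistWeylHomD4

open Cfsg Cfsg.Lie Cfsg.Agent.Lib.Helper36_ChevTorus Cfsg.Agent.Lib.Helper36_ChevTorusAll
  Cfsg.Agent.Lib.Helper36_ChevW0 Cfsg.Agent.Lib.Helper36_ChevW0All Cfsg.Agent.Lib.Helper36_ChevTables
  Cfsg.Agent.Lib.Helper36_ChevOrder Cfsg.Agent.Lib.Helper36_ChevOrderAll Cfsg.Agent.Lib.Helper36_WeylChain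
  Cfsg.Agent.Lib.Helper36_WeylLit Cfsg.Agent.Lib.Helper36_WeylLit.RootLit Cfsg.Agent.Lib.Helper36_WeylPoin
  Cfsg.Agent.Lib.Helper36_TwistU Cfsg.Agent.Lib.Helper36_TwistW Cfsg.Agent.Lib.Helper36_TwistWeyl
  Cfsg.Agent.Lib.Helper36_TwistOrder Cfsg.Agent.Lib.Helper36_TwistTabD4 Cfsg.Agent.Lib.Helper36_TwistD4
  Cfsg.Agent.Lib.Helper36_TwistWeylD4 Cfsg.Agent.Lib.Helper36_ChevDataD4Lit Cfsg.Agent.Lib.Helper36_ChevDataD4LitOK
  Cfsg.Agent.Lib.Helper36_TwistOrderD4 Cfsg.Agent.Lib.Helper36_TwistBN Cfsg.Agent.Lib.Helper36_TwistBND4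
  Cfsg.Agent.Lib.Helper36_TwistWeylHom

/-- The twisted reflection of a node of the diagram of type `G₂`. -/
def nodeOf : Fin 2 → ℕ := ![0, 1]

theorem nodeOK : (∀ i : Fin 2, nodeOf i < 2) ∧ ∀ a < 2, ∃ i : Fin 2, nodeOf i = a := by decide

theorem relOK : ∀ i j : Fin 2, ∀ s < lit.n,
    evalWord lit' (List.flatten (List.replicate (CoxeterMatrix.G₂.M i j) [nodeOf i, nodeOf j])) s = s := by
  decide +kernel

theorem cardOK : (tsteps.map (fun st => (st.lens.map (fun d => 1 ^ d)).sum)).prod = 12 := by decide +kernel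

theorem card_W1 : Nat.card ↥(lit'.W wf' (List.range 2)) = 12 := by
  rw [← pSum_one (inv lit'.Pos)]
  have h := pSum_chain lit' wf' tsteps [0, 1] tchainOK 1
  rw [cardOK] at h
  exact h

theorem pow_eq_wPerm (a b : ℕ) (m : ℕ) :
    (lit'.sPerm wf' a * lit'.sPerm wf' b) ^ m = lit'.wPerm wf' (List.flatten (List.replicate m [a, b])) := by
  induction m with
  | zero => rfl
  | succ m ih =>
    rw [pow_succ', ih, List.replicate_succ, List.flatten_cons]
    show _ = lit'.wPerm wf' (a :: b :: (List.replicate m [a, b]).flatten)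
    rw [wPerm_cons, wPerm_cons, mul_assoc]

theorem instFinite : Finite (CoxeterMatrix.G₂).Group := by
  apply Nat.finite_of_card_ne_zero
  rw [Cfsg.Agent.S1092.result (⟨⟨2, CoxeterMatrix.G₂⟩, 12⟩) (by simp)]
  norm_num

/-- The twisted Weyl group is the Coxeter group of type `G₂`. -/
theorem exists_equiv : Nonempty ((CoxeterMatrix.G₂).Group ≃* ↥(lit'.W wf' (List.range 2))) := by
  haveI := instFinite
  apply exists_coxeter_equiv CoxeterMatrix.G₂ _ (fun i => lit'.sPerm wf' (nodeOf i))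
  · intro i
    exact Subgroup.subset_closure ⟨nodeOf i, List.mem_range.mpr (nodeOK.1 i), rfl⟩
  · intro i j
    rw [pow_eq_wPerm]
    ext s
    rw [wPerm_eval lit' wf' _ ?_ s, relOK i j s s.2]
    · rfl
    · intro a ha
      rw [List.mem_flatten] at ha
      obtain ⟨l, hl, hal⟩ := ha
      rw [List.eq_of_mem_replicate hl] at hal
      simp only [List.mem_cons, List.not_mem_nil, or_false] at hal
      rcases hal with rfl | rfl
      · exact nodeOK.1 i
      · exact nodeOK.1 j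
  · unfold W
    rw [Subgroup.closure_le]
    rintro g ⟨a, ha, rfl⟩
    obtain ⟨i, hi⟩ := nodeOK.2 a (List.mem_range.mp ha)
    apply Subgroup.subset_closure
    exact ⟨i, by show lit'.sPerm wf' (nodeOf i) = _; rw [hi]⟩
  · rw [card_W1, Cfsg.Agent.S1092.result (⟨⟨2, CoxeterMatrix.G₂⟩, 12⟩) (by simp)]

/-- The homomorphism from `N¹` onto the Coxeter group of type `G₂` with kernel `H¹`. -/
theorem exists_hom {K : Type*} [Field K] [Fintype K] {q : ℕ} (hq : IsPrimePow q) (hK : Fintype.card K = q ^ 3) :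
    ∃ φ : ↥(chevD4.monomialSubgroup K ⊓ twistedD4 K q) →* (CoxeterMatrix.G₂).Group, Function.Surjective φ ∧
      φ.ker = (chevD4.diagonalSubgroup K ⊓ twistedD4 K q).subgroupOf (chevD4.monomialSubgroup K ⊓ twistedD4 K q) := by
  obtain ⟨f, hf⟩ := Cfsg.Agent.Lib.Helper36_TwistF.exists_frob hq hK
  obtain ⟨e⟩ := exists_equiv
  have hF := facts_of_mem chevD4 hD K
  have X := twData hK f hf
  set ψ := weylHom hF X litOK (chainOK_of_mem chevD4 hD) (allConj_of_mem chevD4 hD K) (nGen_of_mem chevD4 hD)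
    (xInj_of_mem chevD4 hD) with hψ
  refine ⟨e.symm.toMonoidHom.comp ψ, ?_, ?_⟩
  · exact e.symm.surjective.comp (weylHom_surjective hF X litOK _ _ _ _)
  · rw [← weylHom_ker hF X litOK (chainOK_of_mem chevD4 hD) (allConj_of_mem chevD4 hD K) (nGen_of_mem chevD4 hD)
      (xInj_of_mem chevD4 hD) (normalizer_pos chevD4 hD noZero) (Cfsg.Agent.S1040.result chevD4 hD).2]
    ext n
    rw [MonoidHom.mem_ker, MonoidHom.mem_ker, MonoidHom.comp_apply]
    exact e.symm.map_eq_one_iff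

end Cfsg.Agent.Lib.Helper36_TwistWeylHomD4
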