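import Mathlib

set_option autoImplicit false

/-!
Counting a finite group along a chain of subgroups with a length function that is additive on a set of coset
representatives; and the additivity of the number of inversions for permutations of a set with a sign.
-/

namespace Cfsg.Agent.Lib.Helper36_WeylChain

/-! ### factorisation along a set of coset representatives -/

section
variable {Γ : Type*} [Group Γ]

/-- If left multiplication by the generators of `K` maps `V K'` into itself then `K = V K'`. -/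
theorem exists_factor (S : Set Γ) (hS : ∀ s ∈ S, s * s = 1) (K' : Subgroup Γ) (V : Set Γ) (h1 : (1 : Γ) ∈ V)
    (hstep : ∀ s ∈ S, ∀ v ∈ V, ∃ v' ∈ V, ∃ u ∈ K', s * v = v' * u) (x : Γ) (hx : x ∈ Subgroup.closure S) :
    ∃ v ∈ V, ∃ u ∈ K', x = v * u := by
  have key : ∀ x ∈ Subgroup.closure S, ∀ v ∈ V, ∀ u ∈ K',
      (∃ v' ∈ V, ∃ u' ∈ K', x * (v * u) = v' * u') ∧ (∃ v' ∈ V, ∃ u' ∈ K', x⁻¹ * (v * u) = v' * u') := by
    intro x hx
    induction hx using Subgroup.closure_induction with
    | mem s hs =>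
      intro v hv u hu
      have hsinv : s⁻¹ = s := inv_eq_of_mul_eq_one_left (hS s hs)
      obtain ⟨v', hv', u', hu', e⟩ := hstep s hs v hv
      have : ∃ v'' ∈ V, ∃ u'' ∈ K', s * (v * u) = v'' * u'' :=
        ⟨v', hv', u' * u, K'.mul_mem hu' hu, by rw [← mul_assoc, e, mul_assoc]⟩
      refine ⟨this, ?_⟩
      rw [hsinv]
      exact this
    | one =>
      intro v hv u hu
      exact ⟨⟨v, hv, u, hu, by rw [one_mul]⟩, ⟨v, hv, u, hu, by rw [inv_one, one_mul]⟩⟩
    | mul a b _ _ iha ihb =>
      intro v hv u hu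
      constructor
      · obtain ⟨v1, hv1, u1, hu1, e1⟩ := (ihb v hv u hu).1
        obtain ⟨v2, hv2, u2, hu2, e2⟩ := (iha v1 hv1 u1 hu1).1
        exact ⟨v2, hv2, u2, hu2, by rw [mul_assoc, e1, e2]⟩
      · obtain ⟨v1, hv1, u1, hu1, e1⟩ := (iha v hv u hu).2
        obtain ⟨v2, hv2, u2, hu2, e2⟩ := (ihb v1 hv1 u1 hu1).2
        exact ⟨v2, hv2, u2, hu2, by rw [mul_inv_rev, mul_assoc, e1, e2]⟩
    | inv a _ iha =>
      intro v hv u hu
      refine ⟨(iha v hv u hu).2, ?_⟩
      rw [inv_inv]
      exact (iha v hv u hu).1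
  obtain ⟨v, hv, u, hu, e⟩ := (key x hx 1 h1 1 K'.one_mem).1
  exact ⟨v, hv, u, hu, by rw [← e, mul_one, mul_one]⟩

variable [Fintype Γ]

open scoped Classical

/-- The sum of `q ^ len x` over a subgroup. -/
noncomputable def pSum (len : Γ → ℕ) (q : ℕ) (K : Subgroup Γ) : ℕ :=
  ∑ x ∈ Finset.univ.filter (fun x => x ∈ K), q ^ len x

theorem pSum_bot (len : Γ → ℕ) (q : ℕ) (h1 : len 1 = 0) : pSum len q (⊥ : Subgroup Γ) = 1 := by
  unfold pSum
  have : Finset.univ.filter (fun x : Γ => x ∈ (⊥ : Subgroup Γ)) = {1} := by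
    ext x
    simp [Subgroup.mem_bot]
  rw [this, Finset.sum_singleton, h1, pow_zero]

/-- One step of the chain. -/
theorem pSum_step (len : Γ → ℕ) (q : ℕ) (S : Set Γ) (hS : ∀ s ∈ S, s * s = 1) (K' : Subgroup Γ)
    (hK' : K' ≤ Subgroup.closure S) (V : Finset Γ) (hV : ∀ v ∈ V, v ∈ Subgroup.closure S) (h1 : (1 : Γ) ∈ V)
    (hstep : ∀ s ∈ S, ∀ v ∈ V, ∃ v' ∈ V, ∃ u ∈ K', s * v = v' * u)
    (huniq : ∀ v ∈ V, ∀ v' ∈ V, ∀ u ∈ K', ∀ u' ∈ K', v * u = v' * u' → v = v')
    (hadd : ∀ v ∈ V, ∀ u ∈ K', len (v * u) = len v + len u) :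
    pSum len q (Subgroup.closure S) = (∑ v ∈ V, q ^ len v) * pSum len q K' := by
  unfold pSum
  rw [Finset.sum_mul_sum, ← Finset.sum_product']
  symm
  apply Finset.sum_bij (fun (p : Γ × Γ) _ => p.1 * p.2)
  · intro p hp
    rw [Finset.mem_product, Finset.mem_filter] at hp
    rw [Finset.mem_filter]
    exact ⟨Finset.mem_univ _, (Subgroup.closure S).mul_mem (hV _ hp.1) (hK' hp.2.2)⟩
  · intro p hp p' hp' e
    rw [Finset.mem_product, Finset.mem_filter] at hp hp'
    have hv := huniq p.1 hp.1 p'.1 hp'.1 p.2 hp.2.2 p'.2 hp'.2.2 e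
    have hu : p.2 = p'.2 := by
      rw [hv] at e
      exact mul_left_cancel e
    exact Prod.ext hv hu
  · intro x hx
    rw [Finset.mem_filter] at hx
    obtain ⟨v, hv, u, hu, e⟩ := exists_factor S hS K' (V : Set Γ) (by exact_mod_cast h1)
      (fun s hs v hv => by
        obtain ⟨v', hv', u, hu, e⟩ := hstep s hs v (by exact_mod_cast hv)
        exact ⟨v', by exact_mod_cast hv', u, hu, e⟩) x hx.2
    refine ⟨(v, u), ?_, e.symm⟩
    rw [Finset.mem_product, Finset.mem_filter]
    exact ⟨by exact_mod_cast hv, Finset.mem_univ _, hu⟩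
  · intro p hp
    rw [Finset.mem_product, Finset.mem_filter] at hp
    rw [hadd p.1 hp.1 p.2 hp.2.2, pow_add]

end

/-! ### inversions -/

section
variable {X : Type*} [DecidableEq X]

/-- The number of elements of `P` that the permutation moves out of `P`. -/
def inv (P : Finset X) (σ : Equiv.Perm X) : ℕ := (P.filter (fun r => σ r ∉ P)).card

theorem inv_one (P : Finset X) : inv P (1 : Equiv.Perm X) = 0 := by
  unfold inv
  rw [Finset.card_eq_zero, Finset.filter_eq_empty_iff]
  intro r hr
  simpa using hr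

/-- A permutation mapping a finite set into itself maps it onto itself. -/
theorem image_eq_of_maps (A : Finset X) (u : Equiv.Perm X) (h : ∀ r ∈ A, u r ∈ A) : A.image u = A := by
  apply Finset.eq_of_subset_of_card_le
  · intro x hx
    obtain ⟨r, hr, rfl⟩ := Finset.mem_image.mp hx
    exact h r hr
  · rw [Finset.card_image_of_injective _ u.injective]

theorem mem_of_maps (A : Finset X) (u : Equiv.Perm X) (h : ∀ r ∈ A, u r ∈ A) (r : X) (hr : u r ∈ A) : r ∈ A := by
  have := image_eq_of_maps A u h
  rw [← this] at hr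
  obtain ⟨r', hr', e⟩ := Finset.mem_image.mp hr
  rwa [← u.injective e]

/-- Additivity of the number of inversions: `P` the positive elements, `neg` the sign change, `R ⊆ P`; if `u` preserves
`P \ R` and `v` maps `R` into `P` (both commuting with `neg`), then `inv (v u) = inv v + inv u`. -/
theorem inv_mul (neg : X → X) (P R : Finset X) (hR : R ⊆ P) (hnegP : ∀ r, r ∈ P ↔ neg r ∉ P)
    (hnn : ∀ r, neg (neg r) = r) (v u : Equiv.Perm X) (hvn : ∀ r, v (neg r) = neg (v r))
    (hun : ∀ r, u (neg r) = neg (u r)) (hu : ∀ r ∈ P, r ∉ R → u r ∈ P ∧ u r ∉ R) (hv : ∀ r ∈ R, v r ∈ P) :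
    inv P (v * u) = inv P v + inv P u := by
  -- `u` preserves `A = P \ R`
  set A : Finset X := P \ R with hA
  have huA : ∀ r ∈ A, u r ∈ A := by
    intro r hr
    rw [hA, Finset.mem_sdiff] at hr ⊢
    exact hu r hr.1 hr.2
  have huA' : ∀ r, u r ∈ A → r ∈ A := mem_of_maps A u huA
  -- `u` maps `R` into `R ∪ neg R`
  have huR : ∀ r ∈ R, u r ∈ R ∨ (neg (u r) ∈ R) := by
    intro r hr
    by_cases hp : u r ∈ P
    · left
      by_contra hnr
      have : r ∈ A := huA' r (by rw [hA, Finset.mem_sdiff]; exact ⟨hp, hnr⟩)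
      rw [hA, Finset.mem_sdiff] at this
      exact this.2 hr
    · right
      have hp' : neg (u r) ∈ P := by
        by_contra hcon
        have := (hnegP (neg (u r))).not.mp hcon
        rw [not_not, hnn] at this
        exact hp this
      by_contra hnr
      have h1 : neg (u r) ∈ A := by rw [hA, Finset.mem_sdiff]; exact ⟨hp', hnr⟩
      rw [← hun] at h1
      have h2 := huA' _ h1
      rw [hA, Finset.mem_sdiff] at h2
      have h3 : neg r ∉ P := (hnegP r).mp (hR hr)
      exact h3 h2.1
  -- split the three counts over `A` and `R`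
  have hsplit : ∀ σ : Equiv.Perm X, inv P σ =
      (A.filter (fun r => σ r ∉ P)).card + (R.filter (fun r => σ r ∉ P)).card := by
    intro σ
    unfold inv
    have hPAR : P = A ∪ R := by
      rw [hA]
      exact (Finset.sdiff_union_of_subset hR).symm
    rw [hPAR, Finset.filter_union, Finset.card_union_of_disjoint]
    rw [Finset.disjoint_left]
    intro x hx hx'
    rw [Finset.mem_filter] at hx hx'
    rw [hA, Finset.mem_sdiff] at hx
    exact hx.1.2 hx'.1
  rw [hsplit (v * u), hsplit v, hsplit u]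
  have h1 : (A.filter (fun r => (v * u) r ∉ P)).card = (A.filter (fun r => v r ∉ P)).card := by
    have himg : A.image u = A := image_eq_of_maps A u huA
    have : (A.filter (fun r => v r ∉ P)) = (A.filter (fun r => (v * u) r ∉ P)).image u := by
      ext x
      rw [Finset.mem_filter, Finset.mem_image]
      constructor
      · rintro ⟨hxA, hx⟩
        rw [← himg] at hxA
        obtain ⟨r, hr, rfl⟩ := Finset.mem_image.mp hxA
        exact ⟨r, Finset.mem_filter.mpr ⟨hr, hx⟩, rfl⟩
      · rintro ⟨r, hr, rfl⟩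
        rw [Finset.mem_filter] at hr
        exact ⟨huA r hr.1, hr.2⟩
    rw [this, Finset.card_image_of_injective _ u.injective]
  have h2 : (R.filter (fun r => v r ∉ P)).card = 0 := by
    rw [Finset.card_eq_zero, Finset.filter_eq_empty_iff]
    intro r hr
    rw [not_not]
    exact hv r hr
  have h3 : (A.filter (fun r => u r ∉ P)).card = 0 := by
    rw [Finset.card_eq_zero, Finset.filter_eq_empty_iff]
    intro r hr
    rw [not_not]
    have := huA r hr
    rw [hA, Finset.mem_sdiff] at this
    exact this.1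
  have h4 : R.filter (fun r => (v * u) r ∉ P) = R.filter (fun r => u r ∉ P) := by
    apply Finset.filter_congr
    intro r hr
    rw [Equiv.Perm.mul_apply]
    rcases huR r hr with h | h
    · constructor
      · intro hc
        exact absurd (hv _ h) hc
      · intro hc
        exact absurd (hR h) hc
    · have e : u r = neg (neg (u r)) := (hnn _).symm
      constructor
      · intro _
        rw [e]
        exact (hnegP _).mp (hR h)
      · intro _
        rw [e, hvn]
        exact (hnegP _).mp (hv _ h)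
  rw [h1, h2, h3, h4]
  ring

end

end Cfsg.Agent.Lib.Helper36_WeylChain
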