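import Mathlib
import Cfsg.Prelude.Def_Involutions

/-!
# S2202 (Suzuki): finite groups whose involution centralizers are abelian — common definitions

Architect file (helper37).  Notation used by all `AbInv` packages:

* `AbCent G`      : every involution of `G` has an abelian centralizer (hypothesis (H));
* `nrm T`, `cen T` : normalizer / centralizer of a Sylow 2-subgroup `T`;
* `twoPt T u`     : `N(T) ∩ u N(T) u⁻¹`, the two-point stabilizer;
* `Invol T`       : the type of involutions of `T`;
* `TIHyp T`       : every odd-order `a ≠ 1` of `C(T)` has `C_G(a) ≤ N(T)`            (hypothesis (TI));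
* `Dich T`        : every odd-order `a` of `C(T)` has `C_G(a) ≤ N(T)` or `a ∈ Z(G)`  (hypothesis (DICH));
* `oddCenter G`   : the odd-order elements of `Z(G)`.
-/

set_option autoImplicit false

namespace Cfsg.Agent.Lib.Helper37_AbInv

variable {G : Type*} [Group G]

/-- Hypothesis (H): involution centralizers are abelian (the hypothesis of S2202, verbatim). -/
def AbCent (G : Type*) [Group G] : Prop :=
  ∀ t : G, orderOf t = 2 → IsMulCommutative ↥(Subgroup.centralizer ({t} : Set G))

/-- The normalizer of a Sylow 2-subgroup. -/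
abbrev nrm (T : Sylow 2 G) : Subgroup G := Subgroup.normalizer ((T : Subgroup G) : Set G)

/-- The centralizer of a Sylow 2-subgroup. -/
abbrev cen (T : Sylow 2 G) : Subgroup G := Subgroup.centralizer ((T : Subgroup G) : Set G)

/-- The two-point stabilizer `N(T) ∩ u N(T) u⁻¹` (same term as `Helper21_BSW.twoPt`). -/
abbrev twoPt (T : Sylow 2 G) (u : G) : Subgroup G :=
  Subgroup.normalizer ((T : Subgroup G) : Set G) ⊓
    (Subgroup.normalizer ((T : Subgroup G) : Set G)).map (MulAut.conj u).toMonoidHom

/-- The involutions of `T`. -/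
abbrev Invol (T : Sylow 2 G) : Type _ := {t : G // orderOf t = 2 ∧ t ∈ T}

/-- Hypothesis (TI). -/
def TIHyp (T : Sylow 2 G) : Prop :=
  ∀ a : G, a ∈ cen T → Odd (orderOf a) → a ≠ 1 → Subgroup.centralizer ({a} : Set G) ≤ nrm T

/-- Hypothesis (DICH). -/
def Dich (T : Sylow 2 G) : Prop :=
  ∀ a : G, a ∈ cen T → Odd (orderOf a) →
    Subgroup.centralizer ({a} : Set G) ≤ nrm T ∨ a ∈ Subgroup.center G

/-- The odd part of the centre. -/
def oddCenter (G : Type*) [Group G] : Subgroup G where
  carrier := {a | a ∈ Subgroup.center G ∧ Odd (orderOf a)}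
  one_mem' := ⟨Subgroup.one_mem _, by rw [orderOf_one]; exact odd_one⟩
  mul_mem' := by
    rintro a b ⟨ha, hao⟩ ⟨hb, hbo⟩
    refine ⟨Subgroup.mul_mem _ ha hb, ?_⟩
    have hcomm : Commute a b := (Subgroup.mem_center_iff.mp ha b).symm
    have hdvd : orderOf (a * b) ∣ orderOf a * orderOf b := hcomm.orderOf_mul_dvd_mul_orderOf
    exact Odd.of_dvd_nat (hao.mul hbo) hdvd
  inv_mem' := by
    rintro a ⟨ha, hao⟩
    exact ⟨Subgroup.inv_mem _ ha, by rw [orderOf_inv]; exact hao⟩

theorem mem_oddCenter {a : G} : a ∈ oddCenter G ↔ a ∈ Subgroup.center G ∧ Odd (orderOf a) :=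
  Iff.rfl

theorem oddCenter_le_center : oddCenter G ≤ Subgroup.center G := fun _ h => h.1

instance oddCenter_normal : (oddCenter G).Normal where
  conj_mem a ha g := by
    have h1 : g * a * g⁻¹ = a := by
      have := Subgroup.mem_center_iff.mp ha.1 g
      rw [this]; group
    rw [h1]; exact ha

end Cfsg.Agent.Lib.Helper37_AbInv
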