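import Cfsg.Agent.Lib.Helper37_AbInv_L3

/-!
# S2202 package AB-4 (A1-A3): under (TI) the two-point stabilizer meets `C(T)` trivially
(statements fixed by the architect helper37; proofs by helper31).  See the paper proof (findings,
helper37), steps (A1), (A2) [the key injection `D⁻ → B \ 1`, `x ↦ x b x⁻¹`], (A3).
-/

set_option autoImplicit false
open Cfsg

namespace Cfsg.Agent.Lib.Helper37_AbInv

variable {G : Type*} [Group G] [Finite G]

omit [Finite G] in
theorem a2_not_isCyclic_smul (g : G) (T : Sylow 2 G) (hnc : ¬ IsCyclic (T : Subgroup G)) :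
    ¬ IsCyclic ((g • T : Sylow 2 G) : Subgroup G) := by
  intro h
  apply hnc
  have e : ↥(T : Subgroup G) ≃* ↥((g • T : Sylow 2 G) : Subgroup G) :=
    (T : Subgroup G).equivMapOfInjective (MulAut.conj g).toMonoidHom (MulAut.conj g).injective
  exact isCyclic_of_surjective e.symm e.symm.surjective

omit [Finite G] in
theorem a2_not_normal_smul (g : G) (T : Sylow 2 G) (hnn : ¬ (T : Subgroup G).Normal) :
    ¬ ((g • T : Sylow 2 G) : Subgroup G).Normal := by
  intro h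
  apply hnn
  have h1 : g⁻¹ • (g • T) = g • T := Sylow.smul_eq_of_normal
  rw [inv_smul_smul] at h1
  rw [h1]; exact h

omit [Finite G] in
/-- an element with `i * i = 1`, `i ≠ 1` is an involution -/
theorem a2_orderOf_eq_two {i : G} (h1 : i * i = 1) (h2 : i ≠ 1) : orderOf i = 2 := by
  apply orderOf_eq_prime
  · rw [pow_two]; exact h1
  · exact h2

omit [Finite G] in
/-- an element of odd order whose square is one is trivial -/
theorem a2_eq_one_of_sq_of_odd {w : G} (h1 : w * w = 1) (h2 : Odd (orderOf w)) : w = 1 := by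
  have hdvd : orderOf w ∣ 2 := by
    apply orderOf_dvd_of_pow_eq_one
    rw [pow_two]; exact h1
  have h3 : orderOf w = 1 := by
    rcases (Nat.dvd_prime Nat.prime_two).mp hdvd with h | h
    · exact h
    · rw [h] at h2; exact absurd h2 (by decide)
  exact orderOf_eq_one_iff.mp h3

section A2
variable (hab : AbCent G) (T : Sylow 2 G) (hnc : ¬ IsCyclic (T : Subgroup G))
  (hnn : ¬ (T : Subgroup G).Normal) (hTI : TIHyp T) {u : G} (hu : orderOf u = 2)
  (huN : u ∉ nrm T)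

include hab hnc hnn hTI in
/-- (A1): an odd-order `f ≠ 1` commuting with two involutions forces them into one Sylow
2-subgroup, i.e. they commute. -/
theorem commute_of_common_odd_centralizer {i j f : G} (hi : orderOf i = 2) (hj : orderOf j = 2)
    (hf : f ≠ 1) (hfo : Odd (orderOf f)) (hfi : f * i = i * f) (hfj : f * j = j * f) :
    i * j = j * i := by
  have hzp : IsPGroup 2 (Subgroup.zpowers i) := by
    apply IsPGroup.of_card (n := 1)
    rw [Nat.card_zpowers, hi, pow_one]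
  obtain ⟨P, hP⟩ := hzp.exists_le_sylow
  have hiP : i ∈ P := hP (Subgroup.mem_zpowers i)
  obtain ⟨g, rfl⟩ := MulAction.exists_smul_eq G T P
  have hTI' : TIHyp (g • T) := tiHyp_smul T g hTI
  have hC : Subgroup.centralizer ({i} : Set G) = cen (g • T) :=
    centralizer_invol_eq hab (g • T) hi hiP
  have hfC : f ∈ cen (g • T) := by
    rw [← hC, Subgroup.mem_centralizer_singleton_iff]; exact hfi
  have hle := hTI' f hfC hfo hf
  have hjN : j ∈ nrm (g • T) := hle (by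
    rw [Subgroup.mem_centralizer_singleton_iff]; exact hfj.symm)
  have hjP : j ∈ g • T := invol_mem_of_mem_nrm (g • T) hj hjN
  exact commute_of_mem_sylow hab (g • T) hiP hjP

include hab hnc hnn hTI hu huN in
/-- `B ∩ B' = 1`: if `c ∈ D ∩ C(T)` and `u c u⁻¹ ∈ C(T)` then `c = 1`. -/
theorem a2_eq_one_of_conj_mem_cen {c : G} (hcD : c ∈ twoPt T u) (hcC : c ∈ cen T)
    (hconj : u * c * u⁻¹ ∈ cen T) : c = 1 := by
  by_contra hc1
  obtain ⟨t, ht2, htT⟩ := exists_invol_mem T hnc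
  set f := u * c * u⁻¹ with hf
  have hf1 : f ≠ 1 := by
    intro h
    apply hc1
    have : c = u⁻¹ * f * u := by rw [hf]; group
    rw [this, h]; group
  have hfD : f ∈ twoPt T u := conj_mem_twoPt T hu hcD
  have hodd : Odd (Nat.card ↥(twoPt T u)) := odd_card_twoPt hab T hnc hnn huN
  have hfo : Odd (orderOf f) :=
    Odd.of_dvd_nat hodd (Subgroup.orderOf_dvd_natCard _ hfD)
  have hft : f * t = t * f := by
    have := (Subgroup.mem_centralizer_iff.mp hconj) t htT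
    exact this.symm
  have hct : c * t = t * c := by
    have := (Subgroup.mem_centralizer_iff.mp hcC) t htT
    exact this.symm
  have hfj : f * (u * t * u⁻¹) = (u * t * u⁻¹) * f := by
    rw [hf]
    calc u * c * u⁻¹ * (u * t * u⁻¹) = u * (c * t) * u⁻¹ := by group
      _ = u * (t * c) * u⁻¹ := by rw [hct]
      _ = u * t * u⁻¹ * (u * c * u⁻¹) := by group
  have hj2 : orderOf (u * t * u⁻¹) = 2 := by
    rw [← ht2]
    exact orderOf_injective (MulAut.conj u).toMonoidHom (MulAut.conj u).injective t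
  have hcomm := commute_of_common_odd_centralizer hab T hnc hnn hTI ht2 hj2 hf1 hfo hft hfj
  -- `j = u t u⁻¹` lies in `C(t) = C(T) ≤ N(T)`, hence in `T`
  have hjC : u * t * u⁻¹ ∈ cen T := by
    rw [← centralizer_invol_eq hab T ht2 htT, Subgroup.mem_centralizer_singleton_iff]
    exact hcomm.symm
  have hjT : u * t * u⁻¹ ∈ T := invol_mem_of_mem_nrm T hj2 (cen_le_nrm T hjC)
  have hjP : u * t * u⁻¹ ∈ (u • T : Sylow 2 G) := by
    show u * t * u⁻¹ ∈ ((u • T : Sylow 2 G) : Subgroup G)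
    rw [Sylow.coe_subgroup_smul]
    exact Subgroup.smul_mem_pointwise_smul t (MulAut.conj u) _ htT
  have heq : (u • T : Sylow 2 G) = T := sylow_eq_of_invol_mem hab T hj2 hjT hjP
  exact huN (Sylow.smul_eq_iff_mem_normalizer.mp heq)

omit [Finite G] in
/-- `N(T)` normalizes `C(T)`. -/
theorem a2_conj_mem_cen {m c : G} (hm : m ∈ nrm T) (hc : c ∈ cen T) : m * c * m⁻¹ ∈ cen T := by
  rw [Subgroup.mem_centralizer_iff]
  intro t ht
  have ht' : m⁻¹ * t * m ∈ (T : Subgroup G) := by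
    have := (Subgroup.mem_normalizer_iff''.mp hm t).mp ht
    exact this
  have h1 := (Subgroup.mem_centralizer_iff.mp hc) _ ht'
  calc t * (m * c * m⁻¹) = m * ((m⁻¹ * t * m) * c) * m⁻¹ := by group
    _ = m * (c * (m⁻¹ * t * m)) * m⁻¹ := by rw [h1]
    _ = m * c * m⁻¹ * t := by group

omit [Finite G] in
/-- `D` normalizes `B = D ∩ C(T)`. -/
theorem a2_conj_mem_B {d c : G} (hd : d ∈ twoPt T u) (hcD : c ∈ twoPt T u) (hcC : c ∈ cen T) :
    d * c * d⁻¹ ∈ twoPt T u ∧ d * c * d⁻¹ ∈ cen T :=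
  ⟨Subgroup.mul_mem _ (Subgroup.mul_mem _ hd hcD) (Subgroup.inv_mem _ hd),
    a2_conj_mem_cen T hd.1 hcC⟩

include hab hnc hnn hTI hu huN in
/-- `[B, B'] = 1`. -/
theorem a2_commute_B_B' {c c' : G} (hcD : c ∈ twoPt T u) (hcC : c ∈ cen T)
    (hc'D : c' ∈ twoPt T u) (hc'C : c' ∈ cen T) :
    c * (u * c' * u⁻¹) = (u * c' * u⁻¹) * c := by
  have huu : u * u = 1 := by rw [← pow_two, ← hu, pow_orderOf_eq_one]
  have huinv : u⁻¹ = u := inv_eq_of_mul_eq_one_right huu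
  -- `k' = (u c u⁻¹) c' (u c u⁻¹)⁻¹ c'⁻¹ ∈ B`, and `u k' u⁻¹ = c (u c' u⁻¹) c⁻¹ (u c' u⁻¹)⁻¹ ∈ B`
  have hucD : u * c * u⁻¹ ∈ twoPt T u := conj_mem_twoPt T hu hcD
  have huc'D : u * c' * u⁻¹ ∈ twoPt T u := conj_mem_twoPt T hu hc'D
  have h1 := a2_conj_mem_B T hucD hc'D hc'C
  have hk'D : (u * c * u⁻¹) * c' * (u * c * u⁻¹)⁻¹ * c'⁻¹ ∈ twoPt T u :=
    Subgroup.mul_mem _ h1.1 (Subgroup.inv_mem _ hc'D)
  have hk'C : (u * c * u⁻¹) * c' * (u * c * u⁻¹)⁻¹ * c'⁻¹ ∈ cen T :=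
    Subgroup.mul_mem _ h1.2 (Subgroup.inv_mem _ hc'C)
  have h2 := a2_conj_mem_B T huc'D (Subgroup.inv_mem _ hcD) (Subgroup.inv_mem _ hcC)
  have hkC : c * ((u * c' * u⁻¹) * c⁻¹ * (u * c' * u⁻¹)⁻¹) ∈ cen T :=
    Subgroup.mul_mem _ hcC h2.2
  have hkeq : u * ((u * c * u⁻¹) * c' * (u * c * u⁻¹)⁻¹ * c'⁻¹) * u⁻¹ =
      c * ((u * c' * u⁻¹) * c⁻¹ * (u * c' * u⁻¹)⁻¹) := by
    have e1 : u * ((u * c * u⁻¹) * c' * (u * c * u⁻¹)⁻¹ * c'⁻¹) * u⁻¹ =
        (u * u) * c * (u⁻¹ * c' * u) * c⁻¹ * (u⁻¹ * u⁻¹) * (u * c'⁻¹ * u⁻¹) := by group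
    have huu' : u⁻¹ * u⁻¹ = 1 := by rw [← mul_inv_rev, huu, inv_one]
    have hconj : u⁻¹ * c' * u = u * c' * u⁻¹ := by rw [huinv]
    rw [e1, huu, huu', hconj]
    group
  have hk'1 := a2_eq_one_of_conj_mem_cen hab T hnc hnn hTI hu huN hk'D hk'C (by rw [hkeq]; exact hkC)
  rw [hk'1, mul_one, mul_inv_cancel] at hkeq
  -- `1 = c (u c' u⁻¹) c⁻¹ (u c' u⁻¹)⁻¹`
  have : c * (u * c' * u⁻¹) = (c * ((u * c' * u⁻¹) * c⁻¹ * (u * c' * u⁻¹)⁻¹)) * ((u * c' * u⁻¹) * c) := by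
    group
  rw [this, ← hkeq, one_mul]

include hab hnc hnn hTI hu huN in
/-- for `x ∈ D⁻`, `i = u x` is an involution centralizing `f = b (u (x b x⁻¹) u⁻¹)`. -/
theorem a2_key {b x : G} (hbD : b ∈ twoPt T u) (hbC : b ∈ cen T) (hx : x ∈ twoPt T u)
    (hxi : u * x * u⁻¹ = x⁻¹) :
    orderOf (u * x) = 2 ∧
      (b * (u * (x * b * x⁻¹) * u⁻¹)) * (u * x) = (u * x) * (b * (u * (x * b * x⁻¹) * u⁻¹)) := by
  have huu : u * u = 1 := by rw [← pow_two, ← hu, pow_orderOf_eq_one]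
  have hux : u * x = x⁻¹ * u := by
    calc u * x = (u * x * u⁻¹) * u := by group
      _ = x⁻¹ * u := by rw [hxi]
  have hii : (u * x) * (u * x) = 1 := by
    calc (u * x) * (u * x) = (x⁻¹ * u) * (u * x) := congrArg (· * (u * x)) hux
      _ = x⁻¹ * (u * u) * x := by group
      _ = 1 := by rw [huu]; group
  have hi1 : u * x ≠ 1 := by
    intro h
    apply huN
    have : u = x⁻¹ := eq_inv_of_mul_eq_one_left h
    rw [this]
    exact Subgroup.inv_mem _ hx.1
  refine ⟨a2_orderOf_eq_two hii hi1, ?_⟩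
  set bs := u * (x * b * x⁻¹) * u⁻¹ with hbs
  have hc' := a2_conj_mem_B T hx hbD hbC
  have hcomm : b * bs = bs * b :=
    a2_commute_B_B' hab T hnc hnn hTI hu huN hbD hbC hc'.1 hc'.2
  have h1 : (u * x) * b * (u * x)⁻¹ = bs := by rw [hbs]; group
  have hinv : (u * x)⁻¹ = u * x := inv_eq_of_mul_eq_one_right hii
  have h2 : (u * x) * bs * (u * x)⁻¹ = b := by
    rw [← h1]
    calc (u * x) * ((u * x) * b * (u * x)⁻¹) * (u * x)⁻¹
        = ((u * x) * (u * x)) * b * ((u * x) * (u * x))⁻¹ := by group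
      _ = b := by rw [hii]; group
  have h3 : (u * x) * (b * bs) * (u * x)⁻¹ = b * bs := by
    calc (u * x) * (b * bs) * (u * x)⁻¹
        = ((u * x) * b * (u * x)⁻¹) * ((u * x) * bs * (u * x)⁻¹) := by group
      _ = bs * b := by rw [h1, h2]
      _ = b * bs := hcomm.symm
  calc (b * bs) * (u * x) = ((u * x) * (b * bs) * (u * x)⁻¹) * (u * x) := by rw [h3]
    _ = (u * x) * (b * bs) := by group

include hab hnc hnn hTI hu huN in
/-- (A2): `D ∩ C(T) = 1`. -/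
theorem twoPt_inf_cen_eq_bot : twoPt T u ⊓ cen T = ⊥ := by
  classical
  by_contra hB
  obtain ⟨⟨b, hbB⟩, hb1⟩ := Subgroup.ne_bot_iff_exists_ne_one.mp hB
  have hb1' : b ≠ 1 := fun h => hb1 (Subtype.ext h)
  have hbD : b ∈ twoPt T u := hbB.1
  have hbC : b ∈ cen T := hbB.2
  have huu : u * u = 1 := by rw [← pow_two, ← hu, pow_orderOf_eq_one]
  have hodd : Odd (Nat.card ↥(twoPt T u)) := odd_card_twoPt hab T hnc hnn huN
  have hoddel : ∀ d ∈ twoPt T u, Odd (orderOf d) := fun d hd =>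
    Odd.of_dvd_nat hodd (Subgroup.orderOf_dvd_natCard _ hd)
  -- (i) `|B|² ≤ |D|`
  have hcard1 : Nat.card ↥(twoPt T u ⊓ cen T) * Nat.card ↥(twoPt T u ⊓ cen T) ≤
      Nat.card ↥(twoPt T u) := by
    rw [← Nat.card_prod]
    let φ : ↥(twoPt T u ⊓ cen T) × ↥(twoPt T u ⊓ cen T) → ↥(twoPt T u) := fun p =>
      ⟨(p.1 : G) * (u * (p.2 : G) * u⁻¹),
        Subgroup.mul_mem _ p.1.2.1 (conj_mem_twoPt T hu p.2.2.1)⟩
    apply Nat.card_le_card_of_injective φ
    rintro ⟨⟨c₁, hc₁⟩, ⟨c₁', hc₁'⟩⟩ ⟨⟨c₂, hc₂⟩, ⟨c₂', hc₂'⟩⟩ heq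
    have heq' : c₁ * (u * c₁' * u⁻¹) = c₂ * (u * c₂' * u⁻¹) := congrArg Subtype.val heq
    have hk : u * (c₂' * c₁'⁻¹) * u⁻¹ = c₂⁻¹ * c₁ := by
      have e1 : u * (c₂' * c₁'⁻¹) * u⁻¹ = c₂⁻¹ * (c₂ * (u * c₂' * u⁻¹)) * (u * c₁' * u⁻¹)⁻¹ := by
        group
      rw [e1, ← heq']
      group
    have hk'D : c₂' * c₁'⁻¹ ∈ twoPt T u := Subgroup.mul_mem _ hc₂'.1 (Subgroup.inv_mem _ hc₁'.1)
    have hk'C : c₂' * c₁'⁻¹ ∈ cen T := Subgroup.mul_mem _ hc₂'.2 (Subgroup.inv_mem _ hc₁'.2)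
    have hk1 := a2_eq_one_of_conj_mem_cen hab T hnc hnn hTI hu huN hk'D hk'C (by
      rw [hk]; exact Subgroup.mul_mem _ (Subgroup.inv_mem _ hc₂.2) hc₁.2)
    have hc' : c₂' = c₁' := mul_inv_eq_one.mp hk1
    subst hc'
    have hc : c₁ = c₂ := mul_right_cancel heq'
    subst hc
    rfl
  -- (ii), (iii)
  have hcard2 := card_twoPt hab T hnc hnn hu huN
  have hcard3 := card_inverted hab T hnc hnn hu huN
  -- (iv) the injection `D⁻ → B \ 1`
  have hcard4 : Nat.card {d : G // d ∈ twoPt T u ∧ u * d * u⁻¹ = d⁻¹} <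
      Nat.card ↥(twoPt T u ⊓ cen T) := by
    let ψ : {d : G // d ∈ twoPt T u ∧ u * d * u⁻¹ = d⁻¹} → ↥(twoPt T u ⊓ cen T) := fun x =>
      ⟨(x : G) * b * (x : G)⁻¹, a2_conj_mem_B T x.2.1 hbD hbC⟩
    have hψ : Function.Injective ψ := by
      rintro ⟨x, hx, hxi⟩ ⟨y, hy, hyi⟩ heq
      have heq' : x * b * x⁻¹ = y * b * y⁻¹ := congrArg Subtype.val heq
      obtain ⟨hi2, hfi⟩ := a2_key hab T hnc hnn hTI hu huN hbD hbC hx hxi
      obtain ⟨hj2, hfj⟩ := a2_key hab T hnc hnn hTI hu huN hbD hbC hy hyi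
      rw [← heq'] at hfj
      have hc' := a2_conj_mem_B T hx hbD hbC
      have hbsD : u * (x * b * x⁻¹) * u⁻¹ ∈ twoPt T u := conj_mem_twoPt T hu hc'.1
      have hfD : b * (u * (x * b * x⁻¹) * u⁻¹) ∈ twoPt T u := Subgroup.mul_mem _ hbD hbsD
      have hf1 : b * (u * (x * b * x⁻¹) * u⁻¹) ≠ 1 := by
        intro h
        have hbs : u * (x * b * x⁻¹) * u⁻¹ = b⁻¹ := (eq_inv_of_mul_eq_one_right h)
        have hc1 := a2_eq_one_of_conj_mem_cen hab T hnc hnn hTI hu huN hc'.1 hc'.2 (by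
          rw [hbs]; exact Subgroup.inv_mem _ hbC)
        apply hb1'
        have : b = x⁻¹ * (x * b * x⁻¹) * x := by group
        rw [this, hc1]; group
      have hcomm := commute_of_common_odd_centralizer hab T hnc hnn hTI hi2 hj2 hf1
        (hoddel _ hfD) hfi hfj
      -- `i j = x⁻¹ y`
      have hux : u * x = x⁻¹ * u := by
        calc u * x = (u * x * u⁻¹) * u := by group
          _ = x⁻¹ * u := by rw [hxi]
      have hij : (u * x) * (u * y) = x⁻¹ * y := by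
        calc (u * x) * (u * y) = (x⁻¹ * u) * (u * y) := congrArg (· * (u * y)) hux
          _ = x⁻¹ * (u * u) * y := by group
          _ = x⁻¹ * y := by rw [huu]; group
      have hii : (u * x) * (u * x) = 1 := by
        rw [← pow_two, ← hi2, pow_orderOf_eq_one]
      have hjj : (u * y) * (u * y) = 1 := by
        rw [← pow_two, ← hj2, pow_orderOf_eq_one]
      have hsq : (x⁻¹ * y) * (x⁻¹ * y) = 1 := by
        rw [← hij]
        calc (u * x) * (u * y) * ((u * x) * (u * y))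
            = (u * x) * ((u * y) * (u * x)) * (u * y) := by group
          _ = (u * x) * ((u * x) * (u * y)) * (u * y) := by rw [hcomm]
          _ = ((u * x) * (u * x)) * ((u * y) * (u * y)) := by group
          _ = 1 := by rw [hii, hjj, one_mul]
      have hwD : x⁻¹ * y ∈ twoPt T u := Subgroup.mul_mem _ (Subgroup.inv_mem _ hx) hy
      have hw1 := a2_eq_one_of_sq_of_odd hsq (hoddel _ hwD)
      have hxy : x = y := by
        have := inv_mul_eq_one.mp hw1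
        exact this
      subst hxy
      rfl
    have hnot : (1 : ↥(twoPt T u ⊓ cen T)) ∉ Set.range ψ := by
      rintro ⟨⟨x, hx, hxi⟩, h⟩
      have h' : x * b * x⁻¹ = 1 := congrArg Subtype.val h
      apply hb1'
      have : b = x⁻¹ * (x * b * x⁻¹) * x := by group
      rw [this, h']; group
    haveI := Fintype.ofFinite ↥(twoPt T u ⊓ cen T)
    haveI := Fintype.ofFinite {d : G // d ∈ twoPt T u ∧ u * d * u⁻¹ = d⁻¹}
    have := Fintype.card_lt_of_injective_of_notMem ψ hψ hnot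
    rwa [← Nat.card_eq_fintype_card, ← Nat.card_eq_fintype_card] at this
  -- contradiction
  rw [hcard2] at hcard1
  rw [hcard3] at hcard4
  have hpos : 0 < Nat.card ↥(twoPt T u ⊓ cen T) := Nat.card_pos
  have := Nat.le_of_mul_le_mul_right hcard1 hpos
  omega

include hab hnc hnn hTI hu huN in
/-- (A3): `|D| = #Inv(T)`. -/
theorem card_twoPt_eq : Nat.card ↥(twoPt T u) = Nat.card (Invol T) := by
  have h := card_twoPt hab T hnc hnn hu huN
  rw [twoPt_inf_cen_eq_bot hab T hnc hnn hTI hu huN, Subgroup.card_bot, mul_one] at h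
  exact h

include hab hnc hnn hTI hu huN in
/-- (A3): `u` inverts `D`. -/
theorem conj_eq_inv_of_mem_twoPt {d : G} (hd : d ∈ twoPt T u) : u * d * u⁻¹ = d⁻¹ := by
  have h1 := card_inverted hab T hnc hnn hu huN
  have h2 := card_twoPt_eq hab T hnc hnn hTI hu huN
  let ι : {d : G // d ∈ twoPt T u ∧ u * d * u⁻¹ = d⁻¹} → ↥(twoPt T u) := fun x => ⟨x.1, x.2.1⟩
  have hι : Function.Injective ι := by
    rintro ⟨x, hx⟩ ⟨y, hy⟩ h
    have : x = y := congrArg Subtype.val h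
    subst this
    rfl
  have hbij : Function.Bijective ι :=
    hι.bijective_of_nat_card_le (by rw [h1, h2])
  obtain ⟨⟨x, hx, hxi⟩, hxe⟩ := hbij.2 ⟨d, hd⟩
  have : x = d := congrArg Subtype.val hxe
  rw [← this]
  exact hxi

include hab hnc hnn hTI hu huN in
/-- (A3): `D` is abelian. -/
theorem commute_of_mem_twoPt {d e : G} (hd : d ∈ twoPt T u) (he : e ∈ twoPt T u) :
    d * e = e * d := by
  have h1 := conj_eq_inv_of_mem_twoPt hab T hnc hnn hTI hu huN hd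
  have h2 := conj_eq_inv_of_mem_twoPt hab T hnc hnn hTI hu huN he
  have h3 := conj_eq_inv_of_mem_twoPt hab T hnc hnn hTI hu huN (Subgroup.mul_mem _ hd he)
  have h4 : u * (d * e) * u⁻¹ = (u * d * u⁻¹) * (u * e * u⁻¹) := by group
  rw [h4, h1, h2, mul_inv_rev] at h3
  -- `d⁻¹ e⁻¹ = e⁻¹ d⁻¹`
  have h5 : (d⁻¹ * e⁻¹)⁻¹ = (e⁻¹ * d⁻¹)⁻¹ := congrArg (·⁻¹) h3
  rw [mul_inv_rev, mul_inv_rev, inv_inv, inv_inv] at h5
  exact h5.symm

end A2

end Cfsg.Agent.Lib.Helper37_AbInv
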