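import Cfsg.Agent.Lib.Helper37_AbInv_Zass
import Cfsg.Agent.Lib.Helper21_BSW
import Cfsg.Agent.Lib.Helper21_BSW3
import Cfsg.Agent.S0885

/-!
# S2202 package AB-5c (A7): THEOREM A.  Under (H), (N), (TI) the group satisfies helper21's `CIT`
(statement fixed by the architect helper37; proof by helper59).  Apply the LANDED
`Cfsg.Agent.S0885.result` (Feit) to `Ω := G ⧸ N(T)`, `H := C(T)` (abelian), `h := |C(T)|`,
`e := #Inv(T)` (odd, `= |D|`): `|C(T)| - 1 ≤ 2·#Inv(T)`.  The elements of `T` of order `≤ 2` form a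
subgroup `Ω₁` of order `#Inv(T) + 1` dividing `|C(T)| < 2 (#Inv(T) + 1)`: `C(T) = Ω₁`.
Then every involution centralizer is `C(P)` for a conjugate `P` of `T`.
-/

set_option autoImplicit false
open Cfsg

namespace Cfsg.Agent.Lib.Helper37_AbInv

variable {G : Type*} [Group G] [Finite G]

/-- the elements of order at most two of an (abelian) Sylow 2-subgroup -/
def omegaOne (hab : AbCent G) (T : Sylow 2 G) : Subgroup G where
  carrier := {a | a ∈ T ∧ a ^ 2 = 1}
  one_mem' := ⟨Subgroup.one_mem _, one_pow 2⟩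
  mul_mem' := by
    rintro a b ⟨ha, ha2⟩ ⟨hb, hb2⟩
    refine ⟨Subgroup.mul_mem _ ha hb, ?_⟩
    have hc : Commute a b := commute_of_mem_sylow hab T ha hb
    rw [hc.mul_pow, ha2, hb2, one_mul]
  inv_mem' := by
    rintro a ⟨ha, ha2⟩
    exact ⟨Subgroup.inv_mem _ ha, by rw [inv_pow, ha2, inv_one]⟩

theorem card_omegaOne (hab : AbCent G) (T : Sylow 2 G) :
    Nat.card ↥(omegaOne hab T) = Nat.card (Invol T) + 1 := by
  classical
  have h1 := Cfsg.Agent.Lib.Helper21_BSW.card_subtype_ne_one ↥(omegaOne hab T)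
  have hpos : 0 < Nat.card ↥(omegaOne hab T) := Nat.card_pos
  have e : Invol T ≃ {x : ↥(omegaOne hab T) // x ≠ 1} :=
    { toFun := fun t => ⟨⟨t.1, t.2.2, (orderOf_eq_prime_iff.1 t.2.1).1⟩, by
        intro h
        exact (orderOf_eq_prime_iff.1 t.2.1).2 (congrArg Subtype.val h)⟩
      invFun := fun x => ⟨x.1.1, orderOf_eq_prime_iff.2 ⟨x.1.2.2, by
        intro h
        exact x.2 (Subtype.ext h)⟩, x.1.2.1⟩
      left_inv := fun t => rfl
      right_inv := fun x => rfl }
  rw [Nat.card_congr e, h1]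
  omega

/-- all elements of `C(T)` have order at most two -/
theorem sq_eq_one_of_mem_cen (hab : AbCent G) (T : Sylow 2 G) (hnc : ¬ IsCyclic (T : Subgroup G))
    (hnn : ¬ (T : Subgroup G).Normal) (hTI : TIHyp T) {c : G} (hc : c ∈ cen T) : c ^ 2 = 1 := by
  classical
  obtain ⟨u, hu, huN⟩ := exists_invol_not_mem_nrm hab T hnc hnn
  have hZ := isZassenhausGroup hab T hnc hnn hTI
  let _ : Fintype (G ⧸ nrm T) := Fintype.ofFinite _
  have hne : (QuotientGroup.mk 1 : G ⧸ nrm T) ≠ QuotientGroup.mk u := by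
    intro h
    rw [QuotientGroup.eq, inv_one, one_mul] at h
    exact huN h
  have hcardΩ : Fintype.card (G ⧸ nrm T) = Nat.card ↥(cen T) + 1 := by
    rw [← Nat.card_eq_fintype_card]
    exact card_quotient_nrm hab T hnc hnn hTI
  have he : Nat.card ↥(MulAction.stabilizer G (QuotientGroup.mk 1 : G ⧸ nrm T) ⊓
      MulAction.stabilizer G (QuotientGroup.mk u : G ⧸ nrm T) : Subgroup G) =
      Nat.card (Invol T) := by
    rw [stabilizer_inf_stabilizer T u]
    exact card_twoPt_eq hab T hnc hnn hTI hu huN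
  have hodd : Odd (Nat.card (Invol T)) := by
    rw [← card_twoPt_eq hab T hnc hnn hTI hu huN]
    exact odd_card_twoPt hab T hnc hnn huN
  have hHa : cen T ≤ MulAction.stabilizer G (QuotientGroup.mk 1 : G ⧸ nrm T) := by
    have : MulAction.stabilizer G (QuotientGroup.mk 1 : G ⧸ nrm T) = nrm T :=
      MulAction.stabilizer_quotient (nrm T)
    rw [this]
    exact cen_le_nrm T
  have hHfix : ∀ x ∈ cen T, x ≠ 1 → ∀ y : G ⧸ nrm T, x • y = y →
      y = (QuotientGroup.mk 1 : G ⧸ nrm T) := by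
    intro x hx hx1 y hxy
    by_contra hy
    obtain ⟨c₀, -, huniq⟩ := existsUnique_cen_smul hab T hnc hnn hTI hy hy
    have h1 := huniq x ⟨hx, hxy⟩
    have h2 := huniq 1 ⟨Subgroup.one_mem _, one_smul _ _⟩
    exact hx1 (h1.trans h2.symm)
  have hmain := Cfsg.Agent.S0885.result hZ hne (Nat.card ↥(cen T)) (Nat.card (Invol T)) hcardΩ he
    hodd (cen T) hHa hcardΩ.symm hHfix
  have hbound : Nat.card ↥(cen T) - 1 ≤ 2 * Nat.card (Invol T) := by
    rcases hmain with h | ⟨-, ⟨x, y, hxy⟩, -⟩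
    · exact h
    · exfalso
      apply hxy
      apply Subtype.ext
      exact commute_of_mem_cen hab T hnc x.2 y.2
  -- `Ω₁ ≤ T ≤ C(T)` and `|C(T)| < 2 |Ω₁|`
  have hle1 : omegaOne hab T ≤ cen T := fun a ha => sylow_le_cen hab T ha.1
  have hdvd : Nat.card ↥(omegaOne hab T) ∣ Nat.card ↥(cen T) := Subgroup.card_dvd_of_le hle1
  have hcardO := card_omegaOne hab T
  have heq : Nat.card ↥(omegaOne hab T) = Nat.card ↥(cen T) := by
    obtain ⟨k, hk⟩ := hdvd
    have hpos : 0 < Nat.card ↥(cen T) := Nat.card_pos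
    have hk1 : k = 1 := by
      rcases k with _ | _ | k
      · rw [mul_zero] at hk; omega
      · rfl
      · exfalso
        have : Nat.card ↥(omegaOne hab T) * (k + 1 + 1) ≥ Nat.card ↥(omegaOne hab T) * 2 :=
          Nat.mul_le_mul_left _ (by omega)
        omega
    rw [hk, hk1, mul_one]
  have htop : omegaOne hab T = cen T := Subgroup.eq_of_le_of_card_ge hle1 (le_of_eq heq.symm)
  have hc' : c ∈ omegaOne hab T := by rw [htop]; exact hc
  exact hc'.2

/-- THEOREM A. -/
theorem cit_of_tiHyp (hab : AbCent G) (T : Sylow 2 G) (hnc : ¬ IsCyclic (T : Subgroup G))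
    (hnn : ¬ (T : Subgroup G).Normal) (hTI : TIHyp T) : Cfsg.Agent.Lib.Helper21_BSW.CIT G := by
  intro t ht
  refine ⟨hab t ht, ?_⟩
  intro c hc
  -- a Sylow 2-subgroup containing `t`
  have hp : IsPGroup 2 (Subgroup.zpowers t) := by
    rw [IsPGroup.iff_card, Nat.card_zpowers, ht]
    exact ⟨1, (pow_one 2).symm⟩
  obtain ⟨P, hP⟩ := hp.exists_le_sylow
  have htP : t ∈ P := hP (Subgroup.mem_zpowers t)
  obtain ⟨g, rfl⟩ := MulAction.exists_smul_eq G T P
  have hnc' := Cfsg.Agent.Lib.Helper21_BSW.not_isCyclic_smul g T hnc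
  have hnn' := Cfsg.Agent.Lib.Helper21_BSW.not_normal_smul g T hnn
  have hTI' := tiHyp_smul T g hTI
  have hcen := centralizer_invol_eq hab (g • T) ht htP
  rw [hcen] at hc
  exact sq_eq_one_of_mem_cen hab (g • T) hnc' hnn' hTI' hc

end Cfsg.Agent.Lib.Helper37_AbInv
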