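import Cfsg.Agent.Lib.Helper37_AbInv_Quot
import Cfsg.Agent.Lib.Helper37_AbInv_CIT
import Cfsg.Agent.Lib.Helper21_BSW8

/-!
# S2202 package AB-7: THEOREM B, consequences for `G` of `CIT (G ⧸ oddCenter G)`
(statements fixed by the architect helper37; proofs by helper5).
`Gb := G ⧸ oddCenter G` satisfies (H), (N), (TI) by AB-6, hence `CIT Gb` by AB-5c
(`cit_of_tiHyp`), hence all of helper21's BSW results hold for `Gb` and `Tbar T`:
`Helper21_BSW.card_normalizer` (`|N(T̄)| = |T̄|(|T̄|-1)`), `exists_mulEquiv_SL`, `regData`/`Fld`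
(the two-point stabilizer embeds in the units of a field, so it is cyclic), `sq_eq_one_of_mem`,
`centralizer_eq`.  Everything is pulled back along `G → Gb` with AB-6 (`cen_Tbar`, `nrm_Tbar`,
`card_Tbar`).
-/

set_option autoImplicit false
open Cfsg

namespace Cfsg.Agent.Lib.Helper37_AbInv

variable {G : Type*} [Group G] [Finite G]

section B
variable (hab : AbCent G) (T : Sylow 2 G) (hnc : ¬ IsCyclic (T : Subgroup G))
  (hnn : ¬ (T : Subgroup G).Normal) (hD : Dich T)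

include hab hnc hnn hD in
theorem cit_quotient : Cfsg.Agent.Lib.Helper21_BSW.CIT (G ⧸ oddCenter G) :=
  cit_of_tiHyp (abCent_quotient hab) (Tbar T) (not_isCyclic_Tbar T hnc) (not_normal_Tbar T hnn)
    (tiHyp_Tbar hab T hnc hnn hD)

include hab hnc hnn hD in
/-- `Q = K`: odd-order elements of `C(T)` are central. -/
theorem odd_cen_mem_center {a : G} (ha : a ∈ cen T) (hodd : Odd (orderOf a)) :
    a ∈ Subgroup.center G := by
  have hC := cit_quotient hab T hnc hnn hD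
  obtain ⟨s, hs, hsT⟩ := Cfsg.Agent.Lib.Helper21_BSW.exists_involution_mem_sylow (Tbar T)
    (not_isCyclic_Tbar T hnc) hC
  have h1 : (QuotientGroup.mk a : G ⧸ oddCenter G) ∈ cen (Tbar T) := by
    rw [cen_Tbar hab T hnc]
    exact ⟨a, ha, rfl⟩
  have h2 : (QuotientGroup.mk a : G ⧸ oddCenter G) ∈
      Subgroup.centralizer ({s} : Set (G ⧸ oddCenter G)) := by
    rw [Subgroup.mem_centralizer_singleton_iff]
    exact ((Subgroup.mem_centralizer_iff.mp h1) s hsT).symm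
  rw [Cfsg.Agent.Lib.Helper21_BSW.centralizer_eq hC (Tbar T) hs hsT] at h2
  have h3 : (QuotientGroup.mk a : G ⧸ oddCenter G) ^ 2 = 1 :=
    Cfsg.Agent.Lib.Helper21_BSW.sq_eq_one_of_mem hC (Tbar T) h2
  have h4 : a ^ 2 ∈ oddCenter G := by
    rw [← QuotientGroup.eq_one_iff, QuotientGroup.mk_pow]
    exact h3
  obtain ⟨r, hr⟩ := hodd
  have h5 : a = (a ^ 2) ^ (r + 1) := by
    rw [← pow_mul]
    have : 2 * (r + 1) = orderOf a + 1 := by omega
    rw [this, pow_succ, pow_orderOf_eq_one, one_mul]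
  rw [h5]
  exact Subgroup.pow_mem _ h4.1 _

include hab hnc hnn hD in
/-- `T` is elementary abelian. -/
theorem sq_eq_one_of_mem_sylow {a : G} (ha : a ∈ T) : a ^ 2 = 1 := by
  have hC := cit_quotient hab T hnc hnn hD
  have h1 : (QuotientGroup.mk a : G ⧸ oddCenter G) ∈ (Tbar T : Sylow 2 (G ⧸ oddCenter G)) :=
    (q6_mem_Tbar T).mpr ⟨a, ha, rfl⟩
  have h3 : (QuotientGroup.mk a : G ⧸ oddCenter G) ^ 2 = 1 :=
    Cfsg.Agent.Lib.Helper21_BSW.sq_eq_one_of_mem hC (Tbar T) h1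
  have h4 : a ^ 2 ∈ oddCenter G := by
    rw [← QuotientGroup.eq_one_iff, QuotientGroup.mk_pow]
    exact h3
  obtain ⟨m, hm⟩ := q6_pow_two_of_mem T ha
  have h5 : (a ^ 2) ^ 2 ^ m = 1 := by
    rw [← pow_mul, mul_comm, pow_mul, hm, one_pow]
  exact q6_eq_one_of_pow_two_of_odd h4.2 h5

omit [Finite G] in
theorem b7_oddCenter_le_nrm (T : Sylow 2 G) : oddCenter G ≤ nrm T := by
  intro k hk
  rw [Subgroup.mem_normalizer_iff]
  intro t
  have h1 : k * t * k⁻¹ = t := by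
    have := Subgroup.mem_center_iff.mp hk.1 t
    rw [← this]; group
  rw [h1]

theorem b7_two_le_card (T : Sylow 2 G) (hnc : ¬ IsCyclic (T : Subgroup G)) :
    2 ≤ Nat.card ↥(T : Subgroup G) := by
  by_contra h
  apply hnc
  have h1 : Nat.card ↥(T : Subgroup G) = 1 := by
    have : 0 < Nat.card ↥(T : Subgroup G) := Nat.card_pos
    omega
  have : Subsingleton ↥(T : Subgroup G) := (Nat.card_eq_one_iff_unique.mp h1).1
  infer_instance

include hab hnc hnn hD in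
/-- `|G : N(T)| = |T| + 1`. -/
theorem index_nrm : (nrm T).index = Nat.card ↥(T : Subgroup G) + 1 := by
  classical
  have hC := cit_quotient hab T hnc hnn hD
  have hncb := not_isCyclic_Tbar T hnc
  have hnnb := not_normal_Tbar T hnn
  obtain ⟨F, hF, hFin, hcard, ⟨e⟩⟩ :=
    Cfsg.Agent.Lib.Helper21_BSW.exists_mulEquiv_SL hC (Tbar T) hncb hnnb
  obtain ⟨u, hu, huH⟩ :=
    Cfsg.Agent.Lib.Helper21_BSW.exists_involution_not_mem_nrm hC (Tbar T) hncb hnnb
  have hN := Cfsg.Agent.Lib.Helper21_BSW.card_normalizer (Tbar T) hncb hnnb hC huH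
  have hq : Nat.card ↥((Tbar T : Sylow 2 (G ⧸ oddCenter G)) : Subgroup (G ⧸ oddCenter G)) =
      Nat.card ↥(T : Subgroup G) := card_Tbar T
  have hG : Nat.card (G ⧸ oddCenter G) =
      Nat.card ↥(T : Subgroup G) * (Nat.card ↥(T : Subgroup G) ^ 2 - 1) := by
    rw [Nat.card_congr e.toEquiv, Cfsg.Agent.S2301.card_SL2, hcard, hq]
  have hidx : (nrm (Tbar T)).index = (nrm T).index := by
    rw [nrm_Tbar T]
    apply Subgroup.index_map_eq _ (QuotientGroup.mk'_surjective _)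
    rw [QuotientGroup.ker_mk']
    exact b7_oddCenter_le_nrm T
  have h1 := (nrm (Tbar T)).index_mul_card
  rw [hidx, hG] at h1
  have hN' : Nat.card ↥(nrm (Tbar T)) =
      Nat.card ↥(T : Subgroup G) * (Nat.card ↥(T : Subgroup G) - 1) := by
    rw [← hq]; exact hN
  rw [hN'] at h1
  have h2 := b7_two_le_card T hnc
  obtain ⟨k, hk⟩ : ∃ k, Nat.card ↥(T : Subgroup G) = k + 2 := ⟨_, (Nat.sub_add_cancel h2).symm⟩
  rw [hk] at h1 ⊢
  have h3 : (k + 2) ^ 2 - 1 = (k + 1) * (k + 3) := by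
    apply Nat.sub_eq_of_eq_add
    ring
  have h4 : k + 2 - 1 = k + 1 := by omega
  rw [h3, h4] at h1
  have h5 : (nrm T).index * ((k + 2) * (k + 1)) = (k + 3) * ((k + 2) * (k + 1)) := by
    rw [h1]; ring
  have h6 := Nat.eq_of_mul_eq_mul_right (by positivity) h5
  omega

include hab hnc hnn hD in
/-- `G ⧸ oddCenter G ≅ SL(2, F)`, `char F = 2`. -/
theorem quotient_mulEquiv_SL : ∃ (F : Type) (_ : Field F) (_ : Fintype F),
    CharP F 2 ∧ Nonempty ((G ⧸ oddCenter G) ≃* Matrix.SpecialLinearGroup (Fin 2) F) := by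
  classical
  have hC := cit_quotient hab T hnc hnn hD
  have hncb := not_isCyclic_Tbar T hnc
  have hnnb := not_normal_Tbar T hnn
  obtain ⟨F, hF, hFin, hcard, he⟩ :=
    Cfsg.Agent.Lib.Helper21_BSW.exists_mulEquiv_SL hC (Tbar T) hncb hnnb
  refine ⟨F, hF, hFin, ?_, he⟩
  obtain ⟨p, hp⟩ := CharP.exists F
  haveI := hp
  obtain ⟨n, hpp, hn⟩ := FiniteField.card F p
  have : Fact (Nat.Prime 2) := ⟨Nat.prime_two⟩
  obtain ⟨m, hm⟩ := IsPGroup.iff_card.mp
    ((Tbar T : Sylow 2 (G ⧸ oddCenter G)).isPGroup')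
  rw [hcard, hm] at hn
  have h1 : p ∣ 2 ^ m := by
    rw [hn]
    exact dvd_pow_self p n.ne_zero
  have h2 : p = 2 := (Nat.prime_dvd_prime_iff_eq hpp Nat.prime_two).1 (hpp.dvd_of_dvd_pow h1)
  subst h2
  exact hp

/-- Under `CIT` the two-point stabilizer is cyclic: it embeds in the multiplicative group of the
field `Fld` attached to its regular action on `T`. -/
theorem b7_isCyclic_twoPt {H : Type*} [Group H] [Finite H]
    (hC : Cfsg.Agent.Lib.Helper21_BSW.CIT H) (P : Sylow 2 H)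
    (hncP : ¬ IsCyclic (P : Subgroup H)) (hnnP : ¬ (P : Subgroup H).Normal) {u : H}
    (hu : orderOf u = 2) (huH : u ∉ Cfsg.Agent.Lib.Helper21_BSW.nrm P) :
    IsCyclic ↥(Cfsg.Agent.Lib.Helper21_BSW.twoPt P u) := by
  classical
  obtain ⟨s, hs, hsP⟩ := Cfsg.Agent.Lib.Helper21_BSW.exists_involution_mem_sylow P hncP hC
  let S := Cfsg.Agent.Lib.Helper21_BSW.regData hC P hncP hnnP hu huH hs hsP
  let f : ↥(Cfsg.Agent.Lib.Helper21_BSW.twoPt P u) →* Cfsg.Agent.Lib.Helper21_RegField.Fld S :=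
    { toFun := fun d => Cfsg.Agent.Lib.Helper21_RegField.Fld.ofD d
      map_one' := by
        apply Cfsg.Agent.Lib.Helper21_RegField.Fld.ext'
        show S.act 1 S.e = S.e
        exact S.act_one _
      map_mul' := fun d d' => by
        apply Cfsg.Agent.Lib.Helper21_RegField.Fld.ext'
        rw [Cfsg.Agent.Lib.Helper21_RegField.Fld.ofD_mul_val]
        show S.act (d * d') S.e = S.act d (S.act d' S.e)
        exact S.act_mul _ _ _ }
  have hf : Function.Injective f := by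
    intro d d' h
    have h1 : S.act d S.e = S.act d' S.e :=
      congrArg Cfsg.Agent.Lib.Helper21_RegField.Fld.val h
    have h2 : S.act (d'⁻¹ * d) S.e = S.e := by
      rw [S.act_mul, h1, S.act_inv_act]
    have h3 := S.free _ _ S.he h2
    exact (inv_mul_eq_one.mp h3).symm
  exact isCyclic_of_subgroup_isDomain f hf

include hab hnc hnn hD in
/-- a generator of `N(T)` modulo `T · oddCenter G`. -/
theorem b7_exists_generator : ∃ g ∈ nrm T, ∀ x ∈ nrm T,
    ∃ i : ℤ, ∃ t ∈ T, ∃ k ∈ oddCenter G, x = g ^ i * t * k := by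
  have hC := cit_quotient hab T hnc hnn hD
  have hncb := not_isCyclic_Tbar T hnc
  have hnnb := not_normal_Tbar T hnn
  obtain ⟨u, hu, huH⟩ :=
    Cfsg.Agent.Lib.Helper21_BSW.exists_involution_not_mem_nrm hC (Tbar T) hncb hnnb
  have hcyc := b7_isCyclic_twoPt hC (Tbar T) hncb hnnb hu huH
  obtain ⟨γ, hγ⟩ := hcyc.exists_generator
  -- lift the generator to `N(T)`
  have hγN : (γ : G ⧸ oddCenter G) ∈ nrm (Tbar T) := (Subgroup.mem_inf.mp γ.2).1
  rw [nrm_Tbar T] at hγN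
  obtain ⟨g, hg, hgγ⟩ := hγN
  refine ⟨g, hg, ?_⟩
  intro x hx
  have hxb : (QuotientGroup.mk x : G ⧸ oddCenter G) ∈ nrm (Tbar T) := by
    rw [nrm_Tbar T]
    exact ⟨x, hx, rfl⟩
  obtain ⟨d, hd, tb, htb, hdt⟩ :=
    Cfsg.Agent.Lib.Helper21_BSW.exists_mul_of_mem_normalizer (Tbar T) hncb hnnb hC huH hxb
  obtain ⟨i, hi⟩ := Subgroup.mem_zpowers_iff.mp (hγ ⟨d, hd⟩)
  obtain ⟨t, ht, rfl⟩ := (q6_mem_Tbar T).mp htb
  have hd' : d = (QuotientGroup.mk (g ^ i) : G ⧸ oddCenter G) := by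
    have h1 : ((γ ^ i : ↥(Cfsg.Agent.Lib.Helper21_BSW.twoPt (Tbar T) u)) : G ⧸ oddCenter G) = d := by
      rw [hi]
    rw [← h1, Subgroup.coe_zpow, ← hgγ]
    rfl
  have h2 : (QuotientGroup.mk x : G ⧸ oddCenter G) = QuotientGroup.mk (g ^ i * t) := by
    rw [hdt, hd']
    rfl
  obtain ⟨k, hk, hxk⟩ := q6_mk_eq_iff.mp h2
  exact ⟨i, t, ht, k, hk, hxk⟩

include hab hnc hnn hD in
/-- `N(T)/T` is abelian. -/
theorem commutator_mem_sylow {x y : G} (hx : x ∈ nrm T) (hy : y ∈ nrm T) :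
    x * y * x⁻¹ * y⁻¹ ∈ T := by
  obtain ⟨g, hg, hgen⟩ := b7_exists_generator hab T hnc hnn hD
  -- the quotient `N(T) ⧸ T`
  have key : ∀ x ∈ nrm T, ∀ y ∈ nrm T, ∀ hx : x ∈ nrm T, ∀ hy : y ∈ nrm T,
      (QuotientGroup.mk (⟨x, hx⟩ : ↥(nrm T)) : ↥(nrm T) ⧸ (T : Subgroup G).subgroupOf (nrm T)) *
        QuotientGroup.mk (⟨y, hy⟩ : ↥(nrm T)) =
      QuotientGroup.mk (⟨y, hy⟩ : ↥(nrm T)) * QuotientGroup.mk (⟨x, hx⟩ : ↥(nrm T)) := by
    intro x _ y _ hx hy
    obtain ⟨i, t, ht, k, hk, rfl⟩ := hgen x hx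
    obtain ⟨j, t', ht', k', hk', rfl⟩ := hgen y hy
    have hkN : k ∈ nrm T := b7_oddCenter_le_nrm T hk
    have hkN' : k' ∈ nrm T := b7_oddCenter_le_nrm T hk'
    have htN : t ∈ nrm T := Subgroup.le_normalizer ht
    have htN' : t' ∈ nrm T := Subgroup.le_normalizer ht'
    have e1 : (⟨g ^ i * t * k, hx⟩ : ↥(nrm T)) =
        (⟨g, hg⟩ : ↥(nrm T)) ^ i * ⟨t, htN⟩ * ⟨k, hkN⟩ := by
      apply Subtype.ext
      simp
    have e2 : (⟨g ^ j * t' * k', hy⟩ : ↥(nrm T)) =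
        (⟨g, hg⟩ : ↥(nrm T)) ^ j * ⟨t', htN'⟩ * ⟨k', hkN'⟩ := by
      apply Subtype.ext
      simp
    have ht1 : (QuotientGroup.mk (⟨t, htN⟩ : ↥(nrm T)) :
        ↥(nrm T) ⧸ (T : Subgroup G).subgroupOf (nrm T)) = 1 := by
      rw [QuotientGroup.eq_one_iff, Subgroup.mem_subgroupOf]
      exact ht
    have ht1' : (QuotientGroup.mk (⟨t', htN'⟩ : ↥(nrm T)) :
        ↥(nrm T) ⧸ (T : Subgroup G).subgroupOf (nrm T)) = 1 := by
      rw [QuotientGroup.eq_one_iff, Subgroup.mem_subgroupOf]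
      exact ht'
    -- images of central elements are central
    have hcen : ∀ (k : G) (hk : k ∈ oddCenter G) (hkN : k ∈ nrm T)
        (q : ↥(nrm T) ⧸ (T : Subgroup G).subgroupOf (nrm T)),
        Commute (QuotientGroup.mk (⟨k, hkN⟩ : ↥(nrm T))) q := by
      intro k hk hkN q
      obtain ⟨z, rfl⟩ := QuotientGroup.mk_surjective q
      show (QuotientGroup.mk (⟨k, hkN⟩ : ↥(nrm T)) :
        ↥(nrm T) ⧸ (T : Subgroup G).subgroupOf (nrm T)) * QuotientGroup.mk z =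
        QuotientGroup.mk z * QuotientGroup.mk (⟨k, hkN⟩ : ↥(nrm T))
      rw [← QuotientGroup.mk_mul, ← QuotientGroup.mk_mul]
      congr 1
      apply Subtype.ext
      exact q6_comm_of_mem hk z
    rw [e1, e2]
    simp only [QuotientGroup.mk_mul, QuotientGroup.mk_zpow, ht1, ht1', mul_one]
    have c1 := hcen k hk hkN
    have c2 := hcen k' hk' hkN'
    set γ := (QuotientGroup.mk (⟨g, hg⟩ : ↥(nrm T)) :
        ↥(nrm T) ⧸ (T : Subgroup G).subgroupOf (nrm T))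
    have c3 : Commute (γ ^ i) (γ ^ j) := Commute.zpow_zpow_self γ i j
    exact ((c3.mul_right (c2 (γ ^ i)).symm).mul_left (c1 _)).eq
  have h1 := key x hx y hy hx hy
  have h2 : (QuotientGroup.mk ((⟨x, hx⟩ : ↥(nrm T)) * ⟨y, hy⟩ * (⟨x, hx⟩ : ↥(nrm T))⁻¹ *
      (⟨y, hy⟩ : ↥(nrm T))⁻¹) : ↥(nrm T) ⧸ (T : Subgroup G).subgroupOf (nrm T)) = 1 := by
    rw [QuotientGroup.mk_mul, QuotientGroup.mk_mul, QuotientGroup.mk_mul, QuotientGroup.mk_inv,
      QuotientGroup.mk_inv, h1]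
    group
  rw [QuotientGroup.eq_one_iff, Subgroup.mem_subgroupOf] at h2
  exact h2

end B

end Cfsg.Agent.Lib.Helper37_AbInv
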