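import Cfsg.Agent.Lib.Helper37_AbInvDefs
import Cfsg.Agent.Lib.Helper21_StronglyEmbedded
import Cfsg.Agent.Lib.Helper54_TwoGroups

/-!
# S2202 package AB-1 (L1): structure of a group with abelian involution centralizers
Statements fixed by the architect helper37; proofs by helper64.
-/

set_option autoImplicit false
set_option linter.unusedSectionVars false
set_option linter.style.haveILetI false
set_option warn.classDefReducibility false
open Cfsg
open scoped Pointwise

namespace Cfsg.Agent.Lib.Helper37_AbInv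

variable {G : Type*} [Group G] [Finite G]

section L1aux

omit [Finite G] in
/-- membership in a conjugate Sylow subgroup -/
theorem l1_mem_smul_iff (T : Sylow 2 G) (g x : G) :
    x ∈ (g • T : Sylow 2 G) ↔ g⁻¹ * x * g ∈ T := by
  have h : ((g • T : Sylow 2 G) : Subgroup G) = MulAut.conj g • (T : Subgroup G) :=
    Sylow.coe_subgroup_smul
  show x ∈ ((g • T : Sylow 2 G) : Subgroup G) ↔ _
  rw [h, Subgroup.mem_pointwise_smul_iff_inv_smul_mem]
  rw [MulAut.smul_def, MulAut.conj_inv_apply]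
  rfl

omit [Finite G] in
theorem l1_conj_mem_smul (T : Sylow 2 G) (g : G) {x : G} (hx : x ∈ T) :
    g * x * g⁻¹ ∈ (g • T : Sylow 2 G) := by
  rw [l1_mem_smul_iff]
  have : g⁻¹ * (g * x * g⁻¹) * g = x := by group
  rw [this]; exact hx

/-- a central involution of a nontrivial Sylow 2-subgroup -/
theorem l1_exists_central_invol (T : Sylow 2 G) (hTnt : Nontrivial (T : Subgroup G)) :
    ∃ t : G, orderOf t = 2 ∧ t ∈ T ∧ ∀ y ∈ T, y * t = t * y := by
  have : Fact (Nat.Prime 2) := ⟨Nat.prime_two⟩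
  have hT2 : IsPGroup 2 (T : Subgroup G) := T.isPGroup'
  have hcnt : Nontrivial (Subgroup.center (T : Subgroup G)) := hT2.center_nontrivial
  have hc2 : IsPGroup 2 (Subgroup.center (T : Subgroup G)) := hT2.to_subgroup _
  obtain ⟨k, hk, hcard⟩ := (hc2.nontrivial_iff_card).mp hcnt
  have hdvd : 2 ∣ Nat.card (Subgroup.center (T : Subgroup G)) := by
    rw [hcard]; exact dvd_pow_self 2 (by omega)
  obtain ⟨x, hx⟩ := exists_prime_orderOf_dvd_card' 2 hdvd
  refine ⟨((x : (T : Subgroup G)) : G), ?_, (x : (T : Subgroup G)).2, ?_⟩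
  · rw [Subgroup.orderOf_coe, Subgroup.orderOf_coe]; exact hx
  · intro y hy
    have := Subgroup.mem_center_iff.mp x.2 ⟨y, hy⟩
    exact congrArg Subtype.val this

/-- a `2`-subgroup normalizing `T` lies in `T` -/
theorem l1_le_of_isPGroup_of_le_nrm (T : Sylow 2 G) (H : Subgroup G) (hH : IsPGroup 2 H)
    (hle : H ≤ nrm T) : H ≤ T := by
  have hT2 : IsPGroup 2 (T : Subgroup G) := T.isPGroup'
  have hsup : IsPGroup 2 (H ⊔ (T : Subgroup G) : Subgroup G) :=
    hH.to_sup_of_normal_right' hT2 hle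
  have := T.is_maximal' hsup le_sup_right
  rw [← this]
  exact le_sup_left

end L1aux

section L1
variable (hab : AbCent G) (T : Sylow 2 G) (hnc : ¬ IsCyclic (T : Subgroup G))
  (hnn : ¬ (T : Subgroup G).Normal)

include hab in
/-- A Sylow 2-subgroup is abelian. -/
theorem commute_of_mem_sylow {a b : G} (ha : a ∈ T) (hb : b ∈ T) : a * b = b * a := by
  by_cases hTnt : Nontrivial (T : Subgroup G)
  · obtain ⟨t, ht2, htT, htc⟩ := l1_exists_central_invol T hTnt
    have hcomm := hab t ht2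
    have hmem : ∀ y ∈ T, y ∈ Subgroup.centralizer ({t} : Set G) := by
      intro y hy
      rw [Subgroup.mem_centralizer_iff]
      intro z hz
      rw [Set.mem_singleton_iff] at hz
      subst hz
      exact (htc y hy).symm
    have := hcomm.is_comm.comm ⟨a, hmem a ha⟩ ⟨b, hmem b hb⟩
    exact congrArg Subtype.val this
  · rw [not_nontrivial_iff_subsingleton] at hTnt
    have : (⟨a, ha⟩ : (T : Subgroup G)) = 1 := Subsingleton.elim _ _
    have ha1 : a = 1 := congrArg Subtype.val this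
    rw [ha1, one_mul, mul_one]

include hab in
/-- `C_G(t) = C_G(T)` for every involution `t` of `T`. -/
theorem centralizer_invol_eq {t : G} (ht : orderOf t = 2) (htT : t ∈ T) :
    Subgroup.centralizer ({t} : Set G) = cen T := by
  apply le_antisymm
  · intro c hc
    rw [Subgroup.mem_centralizer_iff]
    intro y hy
    have hyc : y ∈ Subgroup.centralizer ({t} : Set G) := by
      rw [Subgroup.mem_centralizer_iff]
      intro z hz
      rw [Set.mem_singleton_iff] at hz
      subst hz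
      exact commute_of_mem_sylow hab T htT hy
    have := (hab t ht).is_comm.comm ⟨y, hyc⟩ ⟨c, hc⟩
    exact congrArg Subtype.val this
  · apply Subgroup.centralizer_le
    intro z hz
    rw [Set.mem_singleton_iff] at hz
    subst hz
    exact htT

include hab in
theorem sylow_le_cen : (T : Subgroup G) ≤ cen T := by
  intro y hy
  rw [Subgroup.mem_centralizer_iff]
  intro z hz
  exact commute_of_mem_sylow hab T hz hy

omit [Finite G] in
theorem cen_le_nrm : cen T ≤ nrm T :=
  Subgroup.centralizer_le_normalizer _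

include hnc in
theorem exists_invol_mem : ∃ t : G, orderOf t = 2 ∧ t ∈ T := by
  have : Fact (Nat.Prime 2) := ⟨Nat.prime_two⟩
  have hT2 : IsPGroup 2 (T : Subgroup G) := T.isPGroup'
  have hTnt : Nontrivial (T : Subgroup G) := by
    by_contra h
    rw [not_nontrivial_iff_subsingleton] at h
    exact hnc (isCyclic_of_subsingleton)
  obtain ⟨t, ht, htT, -⟩ := l1_exists_central_invol T hTnt
  exact ⟨t, ht, htT⟩

include hab hnc in
/-- `C_G(T)` is abelian. -/
theorem commute_of_mem_cen {a b : G} (ha : a ∈ cen T) (hb : b ∈ cen T) : a * b = b * a := by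
  obtain ⟨t, ht, htT⟩ := exists_invol_mem T hnc
  rw [← centralizer_invol_eq hab T ht htT] at ha hb
  have := (hab t ht).is_comm.comm ⟨a, ha⟩ ⟨b, hb⟩
  exact congrArg Subtype.val this

include hab in
/-- `T` is the only Sylow 2-subgroup containing a given involution of `T`. -/
theorem sylow_eq_of_invol_mem {P : Sylow 2 G} {t : G} (ht : orderOf t = 2) (htT : t ∈ T)
    (htP : t ∈ P) : P = T := by
  have hP2 : IsPGroup 2 (P : Subgroup G) := P.isPGroup'
  have hT2 : IsPGroup 2 (T : Subgroup G) := T.isPGroup'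
  have h1 : (P : Subgroup G) ≤ nrm T := by
    refine le_trans ?_ (cen_le_nrm T)
    rw [← centralizer_invol_eq hab T ht htT, centralizer_invol_eq hab P ht htP]
    exact sylow_le_cen hab P
  have hPT : (P : Subgroup G) ≤ T := l1_le_of_isPGroup_of_le_nrm T P hP2 h1
  have := P.is_maximal' hT2 hPT
  exact Sylow.ext this.symm

/-- Involutions of `N(T)` lie in `T`. -/
theorem invol_mem_of_mem_nrm {t : G} (ht : orderOf t = 2) (h : t ∈ nrm T) : t ∈ T := by
  have hz2 : IsPGroup 2 (Subgroup.zpowers t) := by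
    apply IsPGroup.of_card (n := 1)
    rw [Nat.card_zpowers, ht, pow_one]
  have hle : Subgroup.zpowers t ≤ nrm T := Subgroup.zpowers_le.mpr h
  exact l1_le_of_isPGroup_of_le_nrm T _ hz2 hle (Subgroup.mem_zpowers t)

/-- 2-elements of `N(T)` lie in `T`. -/
theorem mem_sylow_of_mem_nrm_of_isPGroup {a : G} (ha : a ∈ nrm T) (h2 : ∃ k : ℕ, a ^ 2 ^ k = 1) :
    a ∈ T := by
  obtain ⟨k, hk⟩ := h2
  have hz2 : IsPGroup 2 (Subgroup.zpowers a) := by
    rintro ⟨y, hy⟩
    refine ⟨k, ?_⟩
    apply Subtype.ext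
    rw [Subgroup.mem_zpowers_iff] at hy
    obtain ⟨j, rfl⟩ := hy
    show (a ^ j) ^ 2 ^ k = 1
    rw [← zpow_natCast, ← zpow_mul, mul_comm, zpow_mul, zpow_natCast, hk, one_zpow]
  have hle : Subgroup.zpowers a ≤ nrm T := Subgroup.zpowers_le.mpr ha
  exact l1_le_of_isPGroup_of_le_nrm T _ hz2 hle (Subgroup.mem_zpowers a)

/-- A conjugate of `T` inside `N(T)` is `T`. -/
theorem mem_nrm_of_smul_le {g : G} (h : ((g • T : Sylow 2 G) : Subgroup G) ≤ nrm T) :
    g ∈ nrm T := by
  have hT2 : IsPGroup 2 (T : Subgroup G) := T.isPGroup'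
  have hle : ((g • T : Sylow 2 G) : Subgroup G) ≤ T :=
    l1_le_of_isPGroup_of_le_nrm T _ (g • T : Sylow 2 G).isPGroup' h
  have := (g • T : Sylow 2 G).is_maximal' hT2 hle
  have heq : g • T = T := Sylow.ext this.symm
  exact Sylow.smul_eq_iff_mem_normalizer.1 heq

include hab hnc hnn in
theorem stronglyEmbedded_nrm : IsStronglyEmbedded (nrm T) := by
  have : Fact (Nat.Prime 2) := ⟨Nat.prime_two⟩
  have hT2 : IsPGroup 2 (T : Subgroup G) := T.isPGroup'
  refine ⟨?_, ?_, ?_⟩
  · intro h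
    exact hnn (Subgroup.normalizer_eq_top_iff.mp h)
  · obtain ⟨t, ht, htT⟩ := exists_invol_mem T hnc
    have h1 : 2 ∣ Nat.card (T : Subgroup G) := by
      have := orderOf_dvd_natCard (⟨t, htT⟩ : (T : Subgroup G))
      rwa [Subgroup.orderOf_mk, ht] at this
    have h2 : Nat.card (T : Subgroup G) ∣ Nat.card (nrm T) :=
      Subgroup.card_dvd_of_le Subgroup.le_normalizer
    exact even_iff_two_dvd.mpr (h1.trans h2)
  · intro g hg
    by_contra hodd
    rw [Nat.not_odd_iff_even, even_iff_two_dvd] at hodd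
    obtain ⟨w, hw⟩ := exists_prime_orderOf_dvd_card' 2 hodd
    obtain ⟨u, hudef⟩ : ∃ u : G, u = (w : G) := ⟨_, rfl⟩
    have huN : u ∈ nrm T := by rw [hudef]; exact w.2.1
    have huNg : u ∈ (nrm T).map (MulAut.conj g).toMonoidHom := by
      rw [hudef]; exact w.2.2
    have hu2 : orderOf u = 2 := by
      rw [hudef, Subgroup.orderOf_coe]; exact hw
    have huT : u ∈ T := invol_mem_of_mem_nrm T hu2 huN
    obtain ⟨v, hvN, hvu⟩ := huNg
    have hvu' : g * v * g⁻¹ = u := by simpa [MulAut.conj_apply] using hvu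
    have hv2 : orderOf v = 2 := by
      have hsc : SemiconjBy g v u := by
        show g * v = u * g
        rw [← hvu']; group
      rw [hsc.orderOf_eq, hu2]
    have hvT : v ∈ T := invol_mem_of_mem_nrm T hv2 hvN
    have huP : u ∈ (g • T : Sylow 2 G) := by
      rw [← hvu']; exact l1_conj_mem_smul T g hvT
    have heq : g • T = T := sylow_eq_of_invol_mem hab T hu2 huT huP
    exact hg (Sylow.smul_eq_iff_mem_normalizer.1 heq)

include hab hnc hnn in
theorem exists_invol_not_mem_nrm : ∃ u : G, orderOf u = 2 ∧ u ∉ nrm T := by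
  obtain ⟨t, ht, htT⟩ := exists_invol_mem T hnc
  obtain ⟨g, hg⟩ : ∃ g : G, g ∉ nrm T := by
    by_contra h
    push Not at h
    apply hnn
    rw [← Subgroup.normalizer_eq_top_iff]
    exact (Subgroup.eq_top_iff' _).2 h
  refine ⟨g * t * g⁻¹, Cfsg.Agent.Lib.Helper21_StronglyEmbedded.orderOf_conj_eq_two ht g, ?_⟩
  intro hu
  have hu2 := Cfsg.Agent.Lib.Helper21_StronglyEmbedded.orderOf_conj_eq_two ht g
  have huT : g * t * g⁻¹ ∈ T := invol_mem_of_mem_nrm T hu2 hu
  have heq : g • T = T := sylow_eq_of_invol_mem hab T hu2 huT (l1_conj_mem_smul T g htT)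
  exact hg (Sylow.smul_eq_iff_mem_normalizer.1 heq)

include hab hnc hnn in
/-- `N(T)` is transitive on the involutions of `T`. -/
theorem exists_nrm_conj {s t : G} (hs : orderOf s = 2) (hsT : s ∈ T) (ht : orderOf t = 2)
    (htT : t ∈ T) : ∃ m ∈ nrm T, m * s * m⁻¹ = t := by
  have hse := stronglyEmbedded_nrm hab T hnc hnn
  have hconj := Cfsg.Agent.Lib.Helper21_StronglyEmbedded.isConj_of_involutions hse hs ht
  obtain ⟨g, hg⟩ := isConj_iff.1 hconj
  refine ⟨g, ?_, hg⟩
  have htP : t ∈ (g • T : Sylow 2 G) := by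
    rw [← hg]; exact l1_conj_mem_smul T g hsT
  have heq : g • T = T := sylow_eq_of_invol_mem hab T ht htT htP
  exact Sylow.smul_eq_iff_mem_normalizer.1 heq

omit [Finite G] in
/-- the conjugation action of `N(T)` on the involutions of `T` -/
def l1_involAct : MulAction ↥(nrm T) (Invol T) where
  smul m t := ⟨(m : G) * t.1 * (m : G)⁻¹,
    Cfsg.Agent.Lib.Helper21_StronglyEmbedded.orderOf_conj_eq_two t.2.1 _,
    (Subgroup.mem_normalizer_iff.1 m.2 _).1 t.2.2⟩
  one_smul t := by
    apply Subtype.ext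
    show ((1 : ↥(nrm T)) : G) * t.1 * ((1 : ↥(nrm T)) : G)⁻¹ = t.1
    simp
  mul_smul a b t := by
    apply Subtype.ext
    show ((a * b : ↥(nrm T)) : G) * t.1 * ((a * b : ↥(nrm T)) : G)⁻¹ =
      (a : G) * ((b : G) * t.1 * (b : G)⁻¹) * (a : G)⁻¹
    rw [Subgroup.coe_mul]
    group

include hab hnc hnn in
/-- `|N(T)| = |C(T)| · #Inv(T)`. -/
theorem card_nrm : Nat.card ↥(nrm T) = Nat.card ↥(cen T) * Nat.card (Invol T) := by
  classical
  letI := l1_involAct T
  have hsmul : ∀ (m : ↥(nrm T)) (t : Invol T), ((m • t : Invol T) : G) = (m : G) * t.1 * (m : G)⁻¹ :=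
    fun _ _ => rfl
  obtain ⟨t₀, ht₀, ht₀T⟩ := exists_invol_mem T hnc
  set x₀ : Invol T := ⟨t₀, ht₀, ht₀T⟩ with hx₀
  have horb : MulAction.orbit ↥(nrm T) x₀ = Set.univ := by
    rw [Set.eq_univ_iff_forall]
    intro t
    obtain ⟨m, hm, hmt⟩ := exists_nrm_conj hab T hnc hnn ht₀ ht₀T t.2.1 t.2.2
    exact ⟨⟨m, hm⟩, Subtype.ext hmt⟩
  have hstab : MulAction.stabilizer ↥(nrm T) x₀ = (cen T).subgroupOf (nrm T) := by
    ext m
    rw [MulAction.mem_stabilizer_iff, Subgroup.mem_subgroupOf,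
      ← centralizer_invol_eq hab T ht₀ ht₀T, Subgroup.mem_centralizer_iff]
    constructor
    · intro h z hz
      rw [Set.mem_singleton_iff] at hz
      rw [hz]
      have h1 := congrArg Subtype.val h
      rw [hsmul] at h1
      have h2 : (m : G) * t₀ * (m : G)⁻¹ = t₀ := h1
      calc t₀ * (m : G) = ((m : G) * t₀ * (m : G)⁻¹) * (m : G) := by rw [h2]
        _ = (m : G) * t₀ := by group
    · intro h
      apply Subtype.ext
      rw [hsmul]
      have h1 := h t₀ rfl
      show (m : G) * t₀ * (m : G)⁻¹ = t₀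
      rw [← h1]; group
  have hidx := MulAction.index_stabilizer ↥(nrm T) x₀
  rw [horb, Set.ncard_univ] at hidx
  have hcm := Subgroup.card_mul_index (MulAction.stabilizer ↥(nrm T) x₀)
  rw [hidx, hstab] at hcm
  rw [← hcm, Nat.card_congr (Subgroup.subgroupOfEquivOfLe (cen_le_nrm T)).toEquiv]

include hab hnc in
/-- A non-cyclic abelian 2-group has at least three involutions. -/
theorem three_le_card_invol : 3 ≤ Nat.card (Invol T) := by
  classical
  have hT2 : IsPGroup 2 (T : Subgroup G) := T.isPGroup'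
  letI : CommGroup (T : Subgroup G) :=
    { (inferInstance : Group (T : Subgroup G)) with
      mul_comm := fun a b => Subtype.ext (commute_of_mem_sylow hab T a.2 b.2) }
  have hex : ∃ a b : (T : Subgroup G), a ^ 2 = 1 ∧ b ^ 2 = 1 ∧ a ≠ 1 ∧ b ≠ 1 ∧ a ≠ b := by
    by_contra hcon
    apply hnc
    apply Cfsg.Agent.Lib.Helper54_TwoGroups.isCyclic_of_unique_involution hT2
    intro a b ha hb ha1 hb1
    by_contra hab'
    exact hcon ⟨a, b, ha, hb, ha1, hb1, hab'⟩
  obtain ⟨a, b, ha, hb, ha1, hb1, hne⟩ := hex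
  have hoa : orderOf (a : G) = 2 := by
    rw [Subgroup.orderOf_coe]; exact orderOf_eq_prime ha ha1
  have hob : orderOf (b : G) = 2 := by
    rw [Subgroup.orderOf_coe]; exact orderOf_eq_prime hb hb1
  have hab1 : a * b ≠ 1 := by
    intro h
    apply hne
    have : a = b⁻¹ := eq_inv_of_mul_eq_one_left h
    rw [this]
    have hb' : b * b = 1 := by rw [← pow_two]; exact hb
    exact inv_eq_of_mul_eq_one_left hb'
  have hab2 : (a * b) ^ 2 = 1 := by rw [mul_pow, ha, hb, one_mul]
  have hoab : orderOf ((a * b : (T : Subgroup G)) : G) = 2 := by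
    rw [Subgroup.orderOf_coe]; exact orderOf_eq_prime hab2 hab1
  have : Fintype (Invol T) := Fintype.ofFinite _
  obtain ⟨x1, hx1⟩ : ∃ x1 : Invol T, (x1 : G) = a := ⟨⟨a, hoa, a.2⟩, rfl⟩
  obtain ⟨x2, hx2⟩ : ∃ x2 : Invol T, (x2 : G) = b := ⟨⟨b, hob, b.2⟩, rfl⟩
  obtain ⟨x3, hx3⟩ : ∃ x3 : Invol T, (x3 : G) = ((a * b : (T : Subgroup G)) : G) :=
    ⟨⟨((a * b : (T : Subgroup G)) : G), hoab, (a * b).2⟩, rfl⟩
  have h12 : x1 ≠ x2 := by
    intro h
    apply hne
    apply Subtype.ext
    rw [← hx1, ← hx2, h]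
  have h13 : x1 ≠ x3 := by
    intro h
    apply hb1
    have h' : (a : G) = ((a * b : (T : Subgroup G)) : G) := by rw [← hx1, ← hx3, h]
    have h'' : a = a * b := Subtype.ext h'
    exact mul_eq_left.1 h''.symm
  have h23 : x2 ≠ x3 := by
    intro h
    apply ha1
    have h' : (b : G) = ((a * b : (T : Subgroup G)) : G) := by rw [← hx2, ← hx3, h]
    have h'' : b = a * b := Subtype.ext h'
    exact mul_eq_right.1 h''.symm
  have hcard : ({x1, x2, x3} : Finset (Invol T)).card = 3 :=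
    Finset.card_eq_three.2 ⟨x1, x2, x3, h12, h13, h23, rfl⟩
  rw [Nat.card_eq_fintype_card, ← hcard]
  exact Finset.card_le_univ _

omit [Finite G] in
/-- Transport of the hypotheses to a conjugate Sylow subgroup (see also
`Helper21_BSW.not_isCyclic_smul`, `not_normal_smul`). -/
theorem tiHyp_smul (g : G) (h : TIHyp T) : TIHyp (g • T) := by
  intro a ha hodd ha1
  -- conjugate back
  have hmem : ∀ x : G, x ∈ (g • T : Sylow 2 G) ↔ g⁻¹ * x * g ∈ T := l1_mem_smul_iff T g
  have ha' : g⁻¹ * a * g ∈ cen T := by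
    rw [Subgroup.mem_centralizer_iff]
    intro y hy
    have hy' : g * y * g⁻¹ ∈ (g • T : Sylow 2 G) := l1_conj_mem_smul T g hy
    have := (Subgroup.mem_centralizer_iff.1 ha) (g * y * g⁻¹) hy'
    calc y * (g⁻¹ * a * g) = g⁻¹ * ((g * y * g⁻¹) * a) * g := by group
      _ = g⁻¹ * (a * (g * y * g⁻¹)) * g := by rw [this]
      _ = g⁻¹ * a * g * y := by group
  have hodd' : Odd (orderOf (g⁻¹ * a * g)) := by
    have hsc : SemiconjBy g⁻¹ a (g⁻¹ * a * g) := by
      show g⁻¹ * a = g⁻¹ * a * g * g⁻¹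
      group
    rw [← hsc.orderOf_eq]; exact hodd
  have hne' : g⁻¹ * a * g ≠ 1 := by
    intro h1
    apply ha1
    have : a = g * (g⁻¹ * a * g) * g⁻¹ := by group
    rw [this, h1]; group
  have hle := h (g⁻¹ * a * g) ha' hodd' hne'
  intro c hc
  -- `g⁻¹ c g` centralizes `g⁻¹ a g`
  have hc' : g⁻¹ * c * g ∈ Subgroup.centralizer ({g⁻¹ * a * g} : Set G) := by
    rw [Subgroup.mem_centralizer_iff]
    intro z hz
    rw [Set.mem_singleton_iff] at hz
    subst hz
    have := (Subgroup.mem_centralizer_iff.1 hc) a rfl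
    calc g⁻¹ * a * g * (g⁻¹ * c * g) = g⁻¹ * (a * c) * g := by group
      _ = g⁻¹ * (c * a) * g := by rw [this]
      _ = g⁻¹ * c * g * (g⁻¹ * a * g) := by group
  have hn := hle hc'
  rw [Subgroup.mem_normalizer_iff] at hn ⊢
  intro x
  show x ∈ (g • T : Sylow 2 G) ↔ c * x * c⁻¹ ∈ (g • T : Sylow 2 G)
  rw [hmem, hmem]
  have h3 : g⁻¹ * x * g ∈ T ↔ g⁻¹ * c * g * (g⁻¹ * x * g) * (g⁻¹ * c * g)⁻¹ ∈ T :=
    hn (g⁻¹ * x * g)
  have e : g⁻¹ * c * g * (g⁻¹ * x * g) * (g⁻¹ * c * g)⁻¹ = g⁻¹ * (c * x * c⁻¹) * g := by group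
  rw [e] at h3
  exact h3

end L1

end Cfsg.Agent.Lib.Helper37_AbInv
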