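import Cfsg.Agent.Lib.Helper37_AbInv_L1

/-!
# S2202 package AB-2 (L2): the dichotomy `C_G(a) ≤ N(T)` or `N(T) ≤ C_G(a)`
Statement fixed by the architect helper37; proofs by helper10.
Proof: `H := C_G(a) ⊇ C_G(T) ⊇ T`.  If `T` is normal in `H` then `H ≤ N(T)`.  Otherwise apply
AB-1 (`card_nrm`) inside the group `↥H` to the Sylow subgroup `T.subtype …`:
`|N_H(T)| = |C_H(T)|·#Inv(T)` and `C_H(T) = C_G(T)`, so `N_H(T) = N_G(T)`.
-/

set_option autoImplicit false
open Cfsg

namespace Cfsg.Agent.Lib.Helper37_AbInv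

variable {G : Type*} [Group G] [Finite G]

/-- (H) passes to subgroups. -/
theorem abCent_subgroup (hab : AbCent G) (H : Subgroup G) : AbCent ↥H := by
  intro t ht
  have ht' : orderOf (t : G) = 2 := by rw [Subgroup.orderOf_coe]; exact ht
  have hc := isMulCommutative_iff.mp (hab (t : G) ht')
  rw [isMulCommutative_iff]
  rintro ⟨a, ha⟩ ⟨b, hb⟩
  have haG : (a : G) ∈ Subgroup.centralizer ({(t : G)} : Set G) := by
    rw [Subgroup.mem_centralizer_iff]
    intro x hx
    rw [Set.mem_singleton_iff] at hx
    subst hx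
    have := (Subgroup.mem_centralizer_iff.mp ha) t rfl
    exact congrArg Subtype.val this
  have hbG : (b : G) ∈ Subgroup.centralizer ({(t : G)} : Set G) := by
    rw [Subgroup.mem_centralizer_iff]
    intro x hx
    rw [Set.mem_singleton_iff] at hx
    subst hx
    have := (Subgroup.mem_centralizer_iff.mp hb) t rfl
    exact congrArg Subtype.val this
  have h := hc ⟨(a : G), haG⟩ ⟨(b : G), hbG⟩
  have h' : (a : G) * (b : G) = (b : G) * (a : G) := congrArg Subtype.val h
  apply Subtype.ext
  apply Subtype.ext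
  exact h'

omit [Finite G] in
/-- Membership in the restricted Sylow subgroup. -/
theorem l2_mem_subtype (T : Sylow 2 G) {H : Subgroup G} (hTH : (T : Subgroup G) ≤ H) (x : ↥H) :
    x ∈ T.subtype hTH ↔ (x : G) ∈ T := Iff.rfl

omit [Finite G] in
/-- The centralizer of the restricted Sylow subgroup is the restricted centralizer. -/
theorem l2_cen_subtype (T : Sylow 2 G) {H : Subgroup G} (hTH : (T : Subgroup G) ≤ H) :
    cen (T.subtype hTH) = (cen T).subgroupOf H := by
  ext x
  rw [Subgroup.mem_subgroupOf, Subgroup.mem_centralizer_iff, Subgroup.mem_centralizer_iff]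
  constructor
  · intro h g hg
    have := h ⟨g, hTH hg⟩ hg
    exact congrArg Subtype.val this
  · intro h y hy
    apply Subtype.ext
    exact h (y : G) hy

omit [Finite G] in
/-- The normalizer of the restricted Sylow subgroup is the restricted normalizer. -/
theorem l2_nrm_subtype (T : Sylow 2 G) {H : Subgroup G} (hTH : (T : Subgroup G) ≤ H) :
    nrm (T.subtype hTH) = (nrm T).subgroupOf H :=
  (Subgroup.subgroupOf_normalizer_eq hTH).symm

omit [Finite G] in
/-- The involutions of the restricted Sylow subgroup. -/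
noncomputable def l2_involEquiv (T : Sylow 2 G) {H : Subgroup G} (hTH : (T : Subgroup G) ≤ H) :
    Invol (T.subtype hTH) ≃ Invol T where
  toFun t := ⟨(t.1 : G), by rw [Subgroup.orderOf_coe]; exact t.2.1, t.2.2⟩
  invFun t := ⟨⟨t.1, hTH t.2.2⟩, by rw [← Subgroup.orderOf_coe]; exact t.2.1, t.2.2⟩
  left_inv _ := rfl
  right_inv _ := rfl

theorem dichotomy (hab : AbCent G) (T : Sylow 2 G) (hnc : ¬ IsCyclic (T : Subgroup G))
    (hnn : ¬ (T : Subgroup G).Normal) {a : G} (ha : a ∈ cen T) (hodd : Odd (orderOf a)) :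
    Subgroup.centralizer ({a} : Set G) ≤ nrm T ∨ nrm T ≤ Subgroup.centralizer ({a} : Set G) := by
  set H : Subgroup G := Subgroup.centralizer ({a} : Set G) with hH
  have hTH : (T : Subgroup G) ≤ H := by
    intro x hx
    rw [hH, Subgroup.mem_centralizer_iff]
    intro y hy
    rw [Set.mem_singleton_iff] at hy
    subst hy
    exact ((Subgroup.mem_centralizer_iff.mp ha) x hx).symm
  have hCH : cen T ≤ H := by
    intro c hc
    rw [hH, Subgroup.mem_centralizer_iff]
    intro y hy
    rw [Set.mem_singleton_iff] at hy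
    subst hy
    exact commute_of_mem_cen hab T hnc ha hc
  by_cases hN : ((T.subtype hTH : Sylow 2 ↥H) : Subgroup ↥H).Normal
  · left
    rw [Sylow.coe_subtype] at hN
    exact (Subgroup.normal_subgroupOf_iff_le_normalizer hTH).mp hN
  · right
    have hncH : ¬ IsCyclic ((T.subtype hTH : Sylow 2 ↥H) : Subgroup ↥H) := by
      intro hcyc
      apply hnc
      rw [Sylow.coe_subtype] at hcyc
      exact isCyclic_of_surjective (Subgroup.subgroupOfEquivOfLe hTH)
        (Subgroup.subgroupOfEquivOfLe hTH).surjective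
    have h1 := card_nrm (abCent_subgroup hab H) (T.subtype hTH) hncH hN
    have h2 := card_nrm hab T hnc hnn
    rw [l2_nrm_subtype, l2_cen_subtype, Nat.card_congr (l2_involEquiv T hTH),
      Nat.card_congr (Subgroup.subgroupOfEquivOfLe hCH).toEquiv, ← h2,
      ← Subgroup.inf_subgroupOf_right,
      Nat.card_congr (Subgroup.subgroupOfEquivOfLe
        (inf_le_right : nrm T ⊓ H ≤ H)).toEquiv] at h1
    have h3 : nrm T ⊓ H = nrm T := Subgroup.eq_of_le_of_card_ge inf_le_left h1.ge
    rw [← h3]
    exact inf_le_right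

end Cfsg.Agent.Lib.Helper37_AbInv
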