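import Cfsg.Agent.Lib.Helper37_AbInv_L1
import Cfsg.Agent.Lib.Helper21_SECount

/-!
# S2202 package AB-3 (L3): the two-point stabilizer `D = N(T) ∩ u N(T) u⁻¹`
Statements fixed by the architect helper37; proofs by helper10.
Uses `Helper21_StronglyEmbedded.exists_mem_inf_conj` (= S1225) and `Helper21_SECount.card_invol_map`
(= S1224) for the strongly embedded subgroup `N(T)` (AB-1 `stronglyEmbedded_nrm`).
-/

set_option autoImplicit false
open Cfsg

namespace Cfsg.Agent.Lib.Helper37_AbInv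

variable {G : Type*} [Group G] [Finite G]

section L3
variable (hab : AbCent G) (T : Sylow 2 G) (hnc : ¬ IsCyclic (T : Subgroup G))
  (hnn : ¬ (T : Subgroup G).Normal) {u : G} (hu : orderOf u = 2) (huN : u ∉ nrm T)

omit [Finite G] in
/-- `T ≤ N(T)`. -/
theorem l3_sylow_le_nrm : (T : Subgroup G) ≤ nrm T := Subgroup.le_normalizer

include hab hnc hnn huN in
theorem odd_card_twoPt : Odd (Nat.card ↥(twoPt T u)) :=
  (stronglyEmbedded_nrm hab T hnc hnn).2.2 u huN

omit [Finite G] in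
include hu in
/-- `u` normalizes `D`. -/
theorem conj_mem_twoPt {d : G} (hd : d ∈ twoPt T u) : u * d * u⁻¹ ∈ twoPt T u := by
  have hinv : u⁻¹ = u := Helper21_StronglyEmbedded.inv_eq_self_of_orderOf_eq_two hu
  obtain ⟨h1, h2⟩ := Subgroup.mem_inf.mp hd
  rw [Helper21_StronglyEmbedded.mem_map_conj_iff] at h2
  refine Subgroup.mem_inf.mpr ⟨?_, ?_⟩
  · rw [hinv]
    rw [hinv] at h2
    exact h2
  · rw [Helper21_StronglyEmbedded.mem_map_conj_iff]
    have : u⁻¹ * (u * d * u⁻¹) * u = d := by group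
    rw [this]
    exact h1

include hab hnc hnn hu huN in
/-- S1225: `D` is transitive on the involutions of `T`. -/
theorem exists_twoPt_conj {s t : G} (hs : orderOf s = 2) (hsT : s ∈ T) (ht : orderOf t = 2)
    (htT : t ∈ T) : ∃ d ∈ twoPt T u, d * s * d⁻¹ = t :=
  Helper21_StronglyEmbedded.exists_mem_inf_conj (stronglyEmbedded_nrm hab T hnc hnn) huN hs
    (l3_sylow_le_nrm T hsT) ht (l3_sylow_le_nrm T htT)

omit [Finite G] in
/-- Conjugation by an element of `N(T)` preserves `T`. -/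
theorem l3_conj_mem_sylow {m t : G} (hm : m ∈ nrm T) (ht : t ∈ T) : m * t * m⁻¹ ∈ T :=
  (Subgroup.mem_normalizer_iff.mp hm t).mp ht

include hab hnc hnn hu huN in
/-- `N(T) = D · C(T)`. -/
theorem exists_twoPt_mul_cen {m : G} (hm : m ∈ nrm T) :
    ∃ d ∈ twoPt T u, ∃ c ∈ cen T, m = d * c := by
  obtain ⟨t₀, ht₀, ht₀T⟩ := exists_invol_mem T hnc
  have h2 : orderOf (m * t₀ * m⁻¹) = 2 := Helper21_StronglyEmbedded.orderOf_conj_eq_two ht₀ m
  have h3 : m * t₀ * m⁻¹ ∈ T := l3_conj_mem_sylow T hm ht₀T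
  obtain ⟨d, hd, hdc⟩ := exists_twoPt_conj hab T hnc hnn hu huN ht₀ ht₀T h2 h3
  refine ⟨d, hd, d⁻¹ * m, ?_, by group⟩
  rw [← centralizer_invol_eq hab T ht₀ ht₀T, Subgroup.mem_centralizer_iff]
  intro x hx
  rw [Set.mem_singleton_iff] at hx
  subst hx
  -- x * (d⁻¹ m) = (d⁻¹ m) * x
  have : d⁻¹ * (d * x * d⁻¹) * d = d⁻¹ * (m * x * m⁻¹) * d := by rw [hdc]
  have h4 : x = d⁻¹ * m * x * m⁻¹ * d := by
    calc x = d⁻¹ * (d * x * d⁻¹) * d := by group
      _ = d⁻¹ * (m * x * m⁻¹) * d := this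
      _ = d⁻¹ * m * x * m⁻¹ * d := by group
  calc x * (d⁻¹ * m) = (d⁻¹ * m * x * m⁻¹ * d) * (d⁻¹ * m) := by rw [← h4]
    _ = d⁻¹ * m * x := by group

include hab hnc hnn hu huN in
/-- `|D| = #Inv(T) · |D ∩ C(T)|`. -/
theorem card_twoPt :
    Nat.card ↥(twoPt T u) = Nat.card (Invol T) * Nat.card ↥(twoPt T u ⊓ cen T) := by
  obtain ⟨t₀, ht₀, ht₀T⟩ := exists_invol_mem T hnc
  have hC : Subgroup.centralizer ({t₀} : Set G) = cen T := centralizer_invol_eq hab T ht₀ ht₀T
  -- the orbit map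
  let f : ↥(twoPt T u) → Invol T := fun d =>
    ⟨(d : G) * t₀ * (d : G)⁻¹, Helper21_StronglyEmbedded.orderOf_conj_eq_two ht₀ _,
      l3_conj_mem_sylow T d.2.1 ht₀T⟩
  have hsurj : ∀ t : Invol T, ∃ d : ↥(twoPt T u), f d = t := by
    rintro ⟨t, ht, htT⟩
    obtain ⟨d, hd, hdc⟩ := exists_twoPt_conj hab T hnc hnn hu huN ht₀ ht₀T ht htT
    exact ⟨⟨d, hd⟩, Subtype.ext hdc⟩
  choose g hg using hsurj
  have hfval : ∀ d : ↥(twoPt T u), ((f d : Invol T) : G) = (d : G) * t₀ * (d : G)⁻¹ := fun _ => rfl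
  have hcomm : ∀ k : G, k ∈ cen T → k * t₀ = t₀ * k := by
    intro k hk
    rw [← hC, Subgroup.mem_centralizer_iff] at hk
    exact (hk t₀ rfl).symm
  have key : ∀ d : ↥(twoPt T u), ((g (f d))⁻¹ * d : ↥(twoPt T u)).1 ∈ twoPt T u ⊓ cen T := by
    intro d
    refine Subgroup.mem_inf.mpr ⟨((g (f d))⁻¹ * d).2, ?_⟩
    rw [← hC, Subgroup.mem_centralizer_iff]
    intro x hx
    rw [Set.mem_singleton_iff] at hx
    subst hx
    have h1 : ((g (f d) : ↥(twoPt T u)) : G) * x * ((g (f d) : ↥(twoPt T u)) : G)⁻¹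
        = (d : G) * x * (d : G)⁻¹ := by
      rw [← hfval, ← hfval, hg]
    set a : G := ((g (f d) : ↥(twoPt T u)) : G) with ha
    have h2 : x = a⁻¹ * ((d : G) * x * (d : G)⁻¹) * a := by
      rw [← h1]; group
    have hval : (((g (f d))⁻¹ * d : ↥(twoPt T u)) : G) = a⁻¹ * (d : G) := by
      simp [ha]
    rw [hval]
    calc x * (a⁻¹ * (d : G)) = (a⁻¹ * ((d : G) * x * (d : G)⁻¹) * a) * (a⁻¹ * (d : G)) := by
          rw [← h2]
      _ = a⁻¹ * (d : G) * x := by group
  let e : ↥(twoPt T u) ≃ Invol T × ↥(twoPt T u ⊓ cen T) :=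
    { toFun := fun d => (f d, ⟨((g (f d))⁻¹ * d : ↥(twoPt T u)).1, key d⟩)
      invFun := fun p => g p.1 * ⟨p.2.1, (Subgroup.mem_inf.mp p.2.2).1⟩
      left_inv := by
        intro d
        apply Subtype.ext
        simp
      right_inv := by
        rintro ⟨t, k, hk⟩
        have hk1 : k ∈ twoPt T u := (Subgroup.mem_inf.mp hk).1
        have hk2 : k ∈ cen T := (Subgroup.mem_inf.mp hk).2
        have hfk : f (g t * ⟨k, hk1⟩) = t := by
          have h5 : f (g t * ⟨k, hk1⟩) = f (g t) := by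
            apply Subtype.ext
            rw [hfval, hfval]
            have : ((g t * ⟨k, hk1⟩ : ↥(twoPt T u)) : G) = (g t : G) * k := rfl
            rw [this]
            have hk' := hcomm k hk2
            calc (g t : G) * k * t₀ * ((g t : G) * k)⁻¹
                = (g t : G) * (k * t₀) * k⁻¹ * (g t : G)⁻¹ := by group
              _ = (g t : G) * (t₀ * k) * k⁻¹ * (g t : G)⁻¹ := by rw [hk']
              _ = (g t : G) * t₀ * (g t : G)⁻¹ := by group
          rw [h5, hg]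
        apply Prod.ext
        · exact hfk
        · apply Subtype.ext
          simp only [hfk]
          simp }
  rw [Nat.card_congr e, Nat.card_prod]

include hab hnc hnn hu huN in
/-- S1224: exactly `#Inv(T)` elements of `D` are inverted by `u`. -/
theorem card_inverted :
    Nat.card {d : G // d ∈ twoPt T u ∧ u * d * u⁻¹ = d⁻¹} = Nat.card (Invol T) := by
  have hSE := stronglyEmbedded_nrm hab T hnc hnn
  have hinv : u⁻¹ = u := Helper21_StronglyEmbedded.inv_eq_self_of_orderOf_eq_two hu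
  have huu : u * u = 1 := Helper21_StronglyEmbedded.sq_eq_one_of_orderOf_eq_two hu
  have h1 := Helper21_SECount.card_invol_map hSE (QuotientGroup.mk 1 : G ⧸ nrm T)
    (QuotientGroup.mk u)
  -- involutions of `N(T)` are the involutions of `T`
  let e2 : {t : G // orderOf t = 2 ∧ t ∈ nrm T} ≃ Invol T :=
    { toFun := fun t => ⟨t.1, t.2.1, invol_mem_of_mem_nrm T t.2.1 t.2.2⟩
      invFun := fun t => ⟨t.1, t.2.1, l3_sylow_le_nrm T t.2.2⟩
      left_inv := fun _ => rfl
      right_inv := fun _ => rfl }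
  have hmk : ∀ i : G, i • (QuotientGroup.mk 1 : G ⧸ nrm T) = QuotientGroup.mk u ↔
      i⁻¹ * u ∈ nrm T := by
    intro i
    rw [MulAction.Quotient.smul_mk, smul_eq_mul, mul_one, QuotientGroup.eq]
  have hto : ∀ d : G, d ∈ twoPt T u → u * d * u⁻¹ = d⁻¹ →
      orderOf (u * d) = 2 ∧ (u * d) • (QuotientGroup.mk 1 : G ⧸ nrm T) = QuotientGroup.mk u := by
    intro d hd hdu
    have hdM : d ∈ nrm T := (Subgroup.mem_inf.mp hd).1
    have hsq : (u * d) * (u * d) = 1 := by
      have : u * d * u = d⁻¹ := by rw [← hdu, hinv]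
      calc (u * d) * (u * d) = (u * d * u) * d := by group
        _ = 1 := by rw [this]; group
    have hmem : (u * d)⁻¹ * u ∈ nrm T := by
      have : (u * d)⁻¹ * u = d⁻¹ := by group
      rw [this]
      exact Subgroup.inv_mem _ hdM
    refine ⟨?_, (hmk _).mpr hmem⟩
    refine orderOf_eq_prime (by rw [pow_two]; exact hsq) ?_
    intro h
    apply huN
    have : u = d⁻¹ := by
      have h6 : u⁻¹ = d := by
        rw [inv_eq_iff_mul_eq_one]; exact h
      rw [← h6, inv_inv]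
    rw [this]
    exact Subgroup.inv_mem _ hdM
  have hfrom : ∀ i : G, orderOf i = 2 →
      i • (QuotientGroup.mk 1 : G ⧸ nrm T) = QuotientGroup.mk u →
      u * i ∈ twoPt T u ∧ u * (u * i) * u⁻¹ = (u * i)⁻¹ := by
    intro i hi him
    have hii : i⁻¹ = i := Helper21_StronglyEmbedded.inv_eq_self_of_orderOf_eq_two hi
    have him' : i⁻¹ * u ∈ nrm T := (hmk i).mp him
    refine ⟨Subgroup.mem_inf.mpr ⟨?_, ?_⟩, ?_⟩
    · have : u * i = (i⁻¹ * u)⁻¹ := by rw [mul_inv_rev, inv_inv, hinv]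
      rw [this]
      exact Subgroup.inv_mem _ him'
    · rw [Helper21_StronglyEmbedded.mem_map_conj_iff]
      have : u⁻¹ * (u * i) * u = i⁻¹ * u := by rw [hii]; group
      rw [this]
      exact him'
    · rw [mul_inv_rev, hii, hinv, ← mul_assoc, huu, one_mul]
  let e1 : {d : G // d ∈ twoPt T u ∧ u * d * u⁻¹ = d⁻¹} ≃
      {i : G // orderOf i = 2 ∧ i • (QuotientGroup.mk 1 : G ⧸ nrm T) = QuotientGroup.mk u} :=
    { toFun := fun d => ⟨u * d.1, hto d.1 d.2.1 d.2.2⟩
      invFun := fun i => ⟨u * i.1, hfrom i.1 i.2.1 i.2.2⟩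
      left_inv := by
        rintro ⟨d, hd⟩
        apply Subtype.ext
        show u * (u * d) = d
        rw [← mul_assoc, huu, one_mul]
      right_inv := by
        rintro ⟨i, hi⟩
        apply Subtype.ext
        show u * (u * i) = i
        rw [← mul_assoc, huu, one_mul] }
  rw [Nat.card_congr e1, h1, Nat.card_congr e2]

include hab hnc hnn hu huN in
/-- Elements of `D ∩ C(T)` have odd order, and `D ∩ T = ⊥`. -/
theorem eq_one_of_mem_twoPt_of_mem_sylow {x : G} (hx : x ∈ twoPt T u) (hxT : x ∈ T) : x = 1 := by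
  have hodd := odd_card_twoPt hab T hnc hnn huN (u := u)
  obtain ⟨k, hk⟩ := T.isPGroup' ⟨x, hxT⟩
  have hk' : x ^ 2 ^ k = 1 := by
    have := congrArg Subtype.val hk
    simpa using this
  have h1 : orderOf x ∣ 2 ^ k := orderOf_dvd_of_pow_eq_one hk'
  have h2 : orderOf x ∣ Nat.card ↥(twoPt T u) := by
    have := orderOf_dvd_natCard (⟨x, hx⟩ : ↥(twoPt T u))
    rwa [Subgroup.orderOf_mk] at this
  have hcop : Nat.Coprime (2 ^ k) (Nat.card ↥(twoPt T u)) :=
    Nat.Coprime.pow_left k (Nat.coprime_two_left.mpr hodd)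
  have h3 : orderOf x ∣ 1 := by
    have := Nat.dvd_gcd h1 h2
    rwa [hcop] at this
  exact orderOf_eq_one_iff.mp (Nat.dvd_one.mp h3)

end L3

end Cfsg.Agent.Lib.Helper37_AbInv
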