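import Cfsg.Agent.Lib.Helper21_BSW8

/-!
# S2202, Lemma N: a CIT group has no odd-order subgroup transitive on its involutions

If the centralizers of involutions of `G` are elementary abelian 2-groups and a Sylow 2-subgroup is
neither cyclic nor normal, then no subgroup `Y` of odd order conjugates every involution of `G` to
every other one.  (Used in THEOREM D of the proof of S2202; built on helper21's BSW library.)
-/

set_option autoImplicit false
open Cfsg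

namespace Cfsg.Agent.Lib.Helper37_AbInv

open Cfsg.Agent.Lib.Helper21_BSW Cfsg.Agent.Lib.Helper21_StronglyEmbedded

variable {G : Type*} [Group G] [Finite G]

/-- If `y` conjugates an involution of `T` to an element of `P`, then `y • T = P`. -/
theorem smul_eq_of_conj_invol (hC : CIT G) {T P : Sylow 2 G} {s t y : G} (hs : orderOf s = 2)
    (hsT : s ∈ T) (htP : t ∈ P) (h : y * s * y⁻¹ = t) : y • T = P := by
  have ht : orderOf t = 2 := h ▸ orderOf_conj_eq_two hs y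
  have hmem : t ∈ ((y • T : Sylow 2 G) : Subgroup G) := by
    rw [coe_smul_sylow]
    exact ⟨s, hsT, by simpa [MulAut.conj_apply] using h⟩
  apply Sylow.ext
  rw [← centralizer_eq hC (y • T) ht hmem, ← centralizer_eq hC P ht htP]

omit [Finite G] in
/-- In a finite group an element is a power of its square when its order is odd. -/
theorem mem_of_sq_mem_of_odd {H : Subgroup G} {y : G} (hodd : Odd (orderOf y))
    (h : y * y ∈ H) : y ∈ H := by
  obtain ⟨k, hk⟩ := hodd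
  have h1 : y = (y * y) ^ (k + 1) := by
    rw [← pow_two, ← pow_mul]
    have : 2 * (k + 1) = orderOf y + 1 := by omega
    rw [this, pow_succ, pow_orderOf_eq_one, one_mul]
  rw [h1]
  exact H.pow_mem h _

omit [Finite G] in
theorem odd_orderOf_of_mem_of_odd_card {Y : Subgroup G} (hY : Odd (Nat.card ↥Y)) {y : G}
    (hy : y ∈ Y) : Odd (orderOf y) := by
  have h2 : orderOf y ∣ Nat.card ↥Y := by
    have := orderOf_dvd_natCard (⟨y, hy⟩ : ↥Y)
    rwa [Subgroup.orderOf_mk] at this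
  exact Odd.of_dvd_nat hY h2

/-- **Lemma N.** -/
theorem no_odd_transitive (hC : CIT G) (T : Sylow 2 G) (hnc : ¬ IsCyclic (T : Subgroup G))
    (hnn : ¬ (T : Subgroup G).Normal) (Y : Subgroup G) (hY : Odd (Nat.card ↥Y))
    (htr : ∀ s t : G, orderOf s = 2 → orderOf t = 2 → ∃ y ∈ Y, y * s * y⁻¹ = t) : False := by
  -- elements of `Y ∩ T` are trivial
  have hYT : ∀ x : G, x ∈ Y → x ∈ T → x = 1 := fun x hxY hxT =>
    eq_one_of_sq_of_odd_card hY hxY (sq_eq_one_of_mem hC T hxT)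
  obtain ⟨e, he, heT⟩ := exists_involution_mem_sylow T hnc hC
  have he1 : e ≠ 1 := by
    intro h; rw [h, orderOf_one] at he; norm_num at he
  -- a second involution `e'` of `T`
  obtain ⟨e', he'T, he'1, he'e⟩ : ∃ e' : G, e' ∈ T ∧ e' ≠ 1 ∧ e' ≠ e := by
    by_contra hcon
    push Not at hcon
    apply hnc
    have hle : (T : Subgroup G) ≤ Subgroup.zpowers e := by
      intro x hx
      by_cases hx1 : x = 1
      · rw [hx1]; exact Subgroup.one_mem _
      · rw [hcon x hx hx1]; exact Subgroup.mem_zpowers e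
    have hle' : Subgroup.zpowers e ≤ (T : Subgroup G) := Subgroup.zpowers_le.mpr heT
    have heq : (T : Subgroup G) = Subgroup.zpowers e := le_antisymm hle hle'
    rw [heq]
    infer_instance
  have he' : orderOf e' = 2 := orderOf_eq_two_of_mem hC T he'T he'1
  -- `y₀ ∈ Y ∩ N(T)`, nontrivial
  obtain ⟨y₀, hy₀Y, hy₀e⟩ := htr e e' he he'
  have hy₀T : y₀ • T = T := smul_eq_of_conj_invol hC he heT he'T hy₀e
  have hy₀N : y₀ ∈ nrm T := Sylow.smul_eq_iff_mem_normalizer.mp hy₀T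
  have hy₀1 : y₀ ≠ 1 := by
    intro h
    rw [h] at hy₀e
    apply he'e
    rw [← hy₀e]; group
  -- an involution `u₀ ∉ N(T)` and the decomposition `y₀ = d t`
  obtain ⟨u₀, hu₀, hu₀N⟩ := exists_involution_not_mem_nrm hC T hnc hnn
  obtain ⟨d, hd, t, ht, hy₀dt⟩ := exists_mul_of_mem_normalizer T hnc hnn hC hu₀N hy₀N
  have hdN : d ∈ nrm T := (Subgroup.mem_inf.mp hd).1
  have hd1 : d ≠ 1 := by
    intro h
    rw [h, one_mul] at hy₀dt
    exact hy₀1 (hYT y₀ hy₀Y (hy₀dt ▸ ht))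
  -- the map `t' ↦ d⁻¹ t' d t'⁻¹` is a bijection of `T`
  have hmemf : ∀ t' : ↥(T : Subgroup G), d⁻¹ * t'.1 * d * t'.1⁻¹ ∈ (T : Subgroup G) := by
    intro t'
    have h1 : d⁻¹ * t'.1 * d⁻¹⁻¹ ∈ (T : Subgroup G) :=
      (Subgroup.mem_normalizer_iff.mp ((nrm T).inv_mem hdN) t'.1).mp t'.2
    rw [inv_inv] at h1
    exact (T : Subgroup G).mul_mem h1 ((T : Subgroup G).inv_mem t'.2)
  let f : ↥(T : Subgroup G) → ↥(T : Subgroup G) := fun t' => ⟨d⁻¹ * t'.1 * d * t'.1⁻¹, hmemf t'⟩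
  have hfinj : Function.Injective f := by
    intro t₁ t₂ h
    have h' : d⁻¹ * t₁.1 * d * t₁.1⁻¹ = d⁻¹ * t₂.1 * d * t₂.1⁻¹ := congrArg Subtype.val h
    -- `x = t₂⁻¹ t₁` commutes with `d`
    have hx : (t₂.1⁻¹ * t₁.1) * d = d * (t₂.1⁻¹ * t₁.1) := by
      have h1 : t₁.1 * d * t₁.1⁻¹ = t₂.1 * d * t₂.1⁻¹ := by
        calc t₁.1 * d * t₁.1⁻¹ = d * (d⁻¹ * t₁.1 * d * t₁.1⁻¹) := by group
          _ = d * (d⁻¹ * t₂.1 * d * t₂.1⁻¹) := by rw [h']
          _ = t₂.1 * d * t₂.1⁻¹ := by group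
      calc (t₂.1⁻¹ * t₁.1) * d = t₂.1⁻¹ * (t₁.1 * d * t₁.1⁻¹) * t₁.1 := by group
        _ = t₂.1⁻¹ * (t₂.1 * d * t₂.1⁻¹) * t₁.1 := by rw [h1]
        _ = d * (t₂.1⁻¹ * t₁.1) := by group
    have hxT : t₂.1⁻¹ * t₁.1 ∈ T := (T : Subgroup G).mul_mem ((T : Subgroup G).inv_mem t₂.2) t₁.2
    by_cases hx1 : t₂.1⁻¹ * t₁.1 = 1
    · apply Subtype.ext
      calc t₁.1 = t₂.1 * (t₂.1⁻¹ * t₁.1) := by group
        _ = t₂.1 := by rw [hx1, mul_one]
    · exfalso
      have hx2 : orderOf (t₂.1⁻¹ * t₁.1) = 2 := orderOf_eq_two_of_mem hC T hxT hx1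
      have hdc : d ∈ Subgroup.centralizer ({t₂.1⁻¹ * t₁.1} : Set G) := by
        rw [Subgroup.mem_centralizer_iff]
        intro z hz
        rw [Set.mem_singleton_iff] at hz
        subst hz
        exact hx
      rw [centralizer_eq hC T hx2 hxT] at hdc
      exact hd1 (eq_one_of_mem_twoPt_of_mem T hnc hnn hC hu₀N hd hdc)
  have hfsurj : Function.Surjective f := Finite.injective_iff_surjective.mp hfinj
  obtain ⟨⟨t', ht'T⟩, ht'⟩ := hfsurj ⟨t, ht⟩
  have ht'eq : d⁻¹ * t' * d * t'⁻¹ = t := congrArg Subtype.val ht'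
  -- `y₀ = t' d t'⁻¹` normalizes `P := t' • (u₀ • T)`
  have hy₀conj : y₀ = t' * d * t'⁻¹ := by
    rw [hy₀dt, ← ht'eq]; group
  obtain ⟨P, hP⟩ : ∃ P : Sylow 2 G, P = t' • (u₀ • T) := ⟨_, rfl⟩
  have hPT : P ≠ T := by
    intro h
    have h0 : t' • (u₀ • T) = T := hP.symm.trans h
    have h1 : u₀ • T = t'⁻¹ • T := eq_inv_smul_iff.mpr h0
    have h2 : t'⁻¹ • T = T :=
      Sylow.smul_eq_iff_mem_normalizer.mpr ((nrm T).inv_mem (Subgroup.le_normalizer ht'T))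
    exact hu₀N (Sylow.smul_eq_iff_mem_normalizer.mp (h1.trans h2))
  have hdu : d • (u₀ • T) = u₀ • T := by
    have := (Subgroup.mem_inf.mp hd).2
    rw [← normalizer_smul_sylow] at this
    exact Sylow.smul_eq_iff_mem_normalizer.mpr this
  have hy₀P : y₀ • P = P := by
    rw [hP, hy₀conj, ← mul_smul]
    have : t' * d * t'⁻¹ * t' = t' * d := by group
    rw [this, mul_smul, hdu]
  have hy₀NP : y₀ ∈ nrm P := Sylow.smul_eq_iff_mem_normalizer.mp hy₀P
  -- an involution `u` with `u • T = P`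
  obtain ⟨g, hg⟩ := MulAction.exists_smul_eq G T P
  have hPnc : ¬ IsCyclic (P : Subgroup G) := hg ▸ not_isCyclic_smul g T hnc
  obtain ⟨u, hu, huT⟩ := exists_involution_smul_eq hC T P hnc hPnc (Ne.symm hPT)
  have huN : u ∉ nrm T := not_mem_nrm_of_smul_ne (huT ▸ hPT)
  have hDeq : twoPt T u = nrm T ⊓ nrm P := by rw [twoPt_eq_inf, huT]
  have hy₀D : y₀ ∈ twoPt T u := by rw [hDeq]; exact Subgroup.mem_inf.mpr ⟨hy₀N, hy₀NP⟩
  have hinv : ∀ x ∈ twoPt T u, u * x * u⁻¹ = x⁻¹ := fun x hx =>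
    conj_eq_inv_of_mem_twoPt T hnc hnn hC hu huN hx
  -- every element of `Y ∩ N(T)` lies in `D`
  have hY₁D : ∀ y : G, y ∈ Y → y ∈ nrm T → y ∈ twoPt T u := by
    intro y hyY hyN
    -- `y` commutes with `y₀`
    obtain ⟨d₁, hd₁, t₁, ht₁, hyd₁t₁⟩ := exists_mul_of_mem_normalizer T hnc hnn hC huN hyN
    have hd₁N : d₁ ∈ nrm T := (Subgroup.mem_inf.mp hd₁).1
    have hd₁y₀ : d₁ * y₀ = y₀ * d₁ := commute_of_inverted hinv hd₁ hy₀D
    have hw : t₁ * (y₀ * t₁⁻¹ * y₀⁻¹) ∈ (T : Subgroup G) :=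
      (T : Subgroup G).mul_mem ht₁
        ((Subgroup.mem_normalizer_iff.mp hy₀N t₁⁻¹).mp ((T : Subgroup G).inv_mem ht₁))
    have hc : y * y₀ * y⁻¹ * y₀⁻¹ = d₁ * (t₁ * (y₀ * t₁⁻¹ * y₀⁻¹)) * d₁⁻¹ := by
      rw [hyd₁t₁]
      calc d₁ * t₁ * y₀ * (d₁ * t₁)⁻¹ * y₀⁻¹
          = d₁ * (t₁ * (y₀ * t₁⁻¹ * y₀⁻¹)) * (y₀ * d₁⁻¹ * y₀⁻¹) := by group
        _ = d₁ * (t₁ * (y₀ * t₁⁻¹ * y₀⁻¹)) * (d₁⁻¹ * (d₁ * y₀) * d₁⁻¹ * y₀⁻¹) := by group
        _ = d₁ * (t₁ * (y₀ * t₁⁻¹ * y₀⁻¹)) * (d₁⁻¹ * (y₀ * d₁) * d₁⁻¹ * y₀⁻¹) := by rw [hd₁y₀]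
        _ = d₁ * (t₁ * (y₀ * t₁⁻¹ * y₀⁻¹)) * d₁⁻¹ := by group
    have hcT : y * y₀ * y⁻¹ * y₀⁻¹ ∈ T := by
      rw [hc]
      exact (Subgroup.mem_normalizer_iff.mp hd₁N _).mp hw
    have hcY : y * y₀ * y⁻¹ * y₀⁻¹ ∈ Y :=
      Y.mul_mem (Y.mul_mem (Y.mul_mem hyY hy₀Y) (Y.inv_mem hyY)) (Y.inv_mem hy₀Y)
    have hc1 := hYT _ hcY hcT
    have hcomm : y * y₀ = y₀ * y := by
      calc y * y₀ = (y * y₀ * y⁻¹ * y₀⁻¹) * y₀ * y := by group
        _ = y₀ * y := by rw [hc1, one_mul]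
    -- so `y₀` normalizes `y • P`
    have hy₀yP : y₀ • (y • P) = y • P := by
      rw [← mul_smul, ← hcomm, mul_smul, hy₀P]
    have hyP : y • P = P := by
      by_contra hne
      have hyPT : y • P ≠ T := by
        intro h
        apply hPT
        have h1 : P = y⁻¹ • T := by rw [← h, inv_smul_smul]
        rw [h1]
        exact Sylow.smul_eq_iff_mem_normalizer.mpr ((nrm T).inv_mem hyN)
      exact hy₀1 (eq_one_of_three_fixed hC T P (y • P) hnc hnn (Ne.symm hPT) (Ne.symm hyPT)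
        (Ne.symm hne) hy₀N hy₀NP (Sylow.smul_eq_iff_mem_normalizer.mp hy₀yP))
    rw [hDeq]
    exact Subgroup.mem_inf.mpr ⟨hyN, Sylow.smul_eq_iff_mem_normalizer.mp hyP⟩
  -- `D ≤ Y`
  have hDY : ∀ x ∈ twoPt T u, x ∈ Y := by
    intro x hx
    have hxN : x ∈ nrm T := (Subgroup.mem_inf.mp hx).1
    have hxeT : x * e * x⁻¹ ∈ T := (Subgroup.mem_normalizer_iff.mp hxN e).mp heT
    have hxe2 : orderOf (x * e * x⁻¹) = 2 := orderOf_conj_eq_two he x
    obtain ⟨y, hyY, hye⟩ := htr e (x * e * x⁻¹) he hxe2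
    have hyT : y • T = T := smul_eq_of_conj_invol hC he heT hxeT hye
    have hyD : y ∈ twoPt T u := hY₁D y hyY (Sylow.smul_eq_iff_mem_normalizer.mp hyT)
    have hzD : x⁻¹ * y ∈ twoPt T u := (twoPt T u).mul_mem ((twoPt T u).inv_mem hx) hyD
    have hzc : x⁻¹ * y ∈ Subgroup.centralizer ({e} : Set G) := by
      rw [Subgroup.mem_centralizer_iff]
      intro z hz
      rw [Set.mem_singleton_iff] at hz
      subst hz
      calc z * (x⁻¹ * y) = x⁻¹ * (x * z * x⁻¹) * y := by group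
        _ = x⁻¹ * (y * z * y⁻¹) * y := by rw [hye]
        _ = x⁻¹ * y * z := by group
    rw [centralizer_eq hC T he heT] at hzc
    have hz1 := eq_one_of_mem_twoPt_of_mem T hnc hnn hC huN hzD hzc
    have : x = y := by
      calc x = y * (x⁻¹ * y)⁻¹ := by group
        _ = y := by rw [hz1, inv_one, mul_one]
    rw [this]; exact hyY
  -- `y ∈ Y` with `y • T = P`
  obtain ⟨e₂, he₂, he₂P⟩ := exists_involution_mem_sylow P hPnc hC
  obtain ⟨y, hyY, hye⟩ := htr e e₂ he he₂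
  have hyTP : y • T = P := smul_eq_of_conj_invol hC he heT he₂P hye
  -- `D ≤ N(y • P)`
  have hDyP : twoPt T u ≤ nrm (y • P) := by
    intro x hx
    have hxY : x ∈ Y := hDY x hx
    have hxP : x ∈ nrm P := by
      have := hx; rw [hDeq] at this; exact (Subgroup.mem_inf.mp this).2
    -- `y⁻¹ x y ∈ Y ∩ N(T)`
    have h1 : (y⁻¹ * x * y) • T = T := by
      rw [mul_smul, mul_smul, hyTP, Sylow.smul_eq_iff_mem_normalizer.mpr hxP, ← hyTP,
        inv_smul_smul]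
    have h2 : y⁻¹ * x * y ∈ twoPt T u :=
      hY₁D _ (Y.mul_mem (Y.mul_mem (Y.inv_mem hyY) hxY) hyY)
        (Sylow.smul_eq_iff_mem_normalizer.mp h1)
    have h3 : y⁻¹ * x * y ∈ nrm P := by
      rw [hDeq] at h2; exact (Subgroup.mem_inf.mp h2).2
    have h4 : (y⁻¹ * x * y) • P = P := Sylow.smul_eq_iff_mem_normalizer.mpr h3
    apply Sylow.smul_eq_iff_mem_normalizer.mp
    have : x • (y • P) = y • ((y⁻¹ * x * y) • P) := by
      rw [← mul_smul, ← mul_smul]; congr 1; group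
    rw [this, h4]
  rcases eq_or_eq_of_twoPt_le hC T hnc hnn hu huN (y • P) hDyP with h | h
  · -- `y • P = T`: then `y² ∈ N(T)`, so `y ∈ N(T)`
    have h1 : (y * y) • T = T := by rw [mul_smul, hyTP, h]
    have h2 : y * y ∈ nrm T := Sylow.smul_eq_iff_mem_normalizer.mp h1
    have h3 : y ∈ nrm T := mem_of_sq_mem_of_odd (odd_orderOf_of_mem_of_odd_card hY hyY) h2
    exact hPT (hyTP ▸ Sylow.smul_eq_iff_mem_normalizer.mpr h3)
  · -- `y • P = P = y • T`
    rw [huT] at h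
    have : y • P = y • T := h.trans hyTP.symm
    exact hPT (smul_left_cancel y this)

end Cfsg.Agent.Lib.Helper37_AbInv
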