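import Cfsg.Agent.Lib.Helper37_AbInv_L1

/-!
# S2202 package AB-9, first half (helper59 for the architect helper37)
If `a ∈ C(T)` and `N(T) ≤ C_G(a) ≠ G`, then `H := C_G(a)` is strongly embedded in `G` and some
involution lies outside `H`.
(1) every involution of `H` is `H`-conjugate into `T`, `N(T) ≤ H` is transitive on `Inv(T)`, so any
two involutions of `H` are `H`-conjugate; `C_G(t) ≤ H` for every involution `t` of `H`.
(2) `g ∉ H`, `t ∈ H ∩ gHg⁻¹` an involution: `g⁻¹tg` and `t` are `H`-conjugate, so `g ∈ H C_G(t) ≤ H`.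
(3) if all involutions were in `H`, every Sylow 2-subgroup would be an `H`-conjugate of `T` and
`G = H N(T) = H`.
-/

set_option autoImplicit false
open Cfsg
open scoped Pointwise

namespace Cfsg.Agent.Lib.Helper37_AbInv

variable {G : Type*} [Group G] [Finite G]

/-- an involution of a subgroup `H ≥ T` is `H`-conjugate into `T` -/
theorem secent_conj_into_sylow (T : Sylow 2 G) {H : Subgroup G} (hTH : (T : Subgroup G) ≤ H)
    {t : G} (ht : orderOf t = 2) (htH : t ∈ H) : ∃ h ∈ H, h * t * h⁻¹ ∈ T := by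
  have : Fact (Nat.Prime 2) := ⟨Nat.prime_two⟩
  have hp : IsPGroup 2 (Subgroup.zpowers (⟨t, htH⟩ : ↥H)) := by
    rw [IsPGroup.iff_card, Nat.card_zpowers, Subgroup.orderOf_mk, ht]
    exact ⟨1, (pow_one 2).symm⟩
  obtain ⟨Q, hQ⟩ := hp.exists_le_sylow
  obtain ⟨h, hh⟩ := MulAction.exists_smul_eq ↥H Q (T.subtype hTH)
  have htQ : (⟨t, htH⟩ : ↥H) ∈ Q := hQ (Subgroup.mem_zpowers _)
  have h1 : h * (⟨t, htH⟩ : ↥H) * h⁻¹ ∈ (h • Q : Sylow 2 ↥H) := by
    have h2 : ((h • Q : Sylow 2 ↥H) : Subgroup ↥H) = MulAut.conj h • (Q : Subgroup ↥H) :=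
      Sylow.coe_subgroup_smul
    show _ ∈ ((h • Q : Sylow 2 ↥H) : Subgroup ↥H)
    rw [h2, Subgroup.mem_pointwise_smul_iff_inv_smul_mem, MulAut.smul_def, MulAut.conj_inv_apply]
    have : h⁻¹ * (h * (⟨t, htH⟩ : ↥H) * h⁻¹) * h = ⟨t, htH⟩ := by group
    rw [this]
    exact htQ
  rw [hh] at h1
  exact ⟨h.1, h.2, h1⟩

theorem stronglyEmbedded_centralizer (hab : AbCent G) (T : Sylow 2 G)
    (hnc : ¬ IsCyclic (T : Subgroup G)) (hnn : ¬ (T : Subgroup G).Normal) {a : G}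
    (ha : a ∈ cen T) (hM : nrm T ≤ Subgroup.centralizer ({a} : Set G))
    (hne : Subgroup.centralizer ({a} : Set G) ≠ ⊤) :
    Cfsg.IsStronglyEmbedded (Subgroup.centralizer ({a} : Set G)) ∧
      ∃ v : G, orderOf v = 2 ∧ v ∉ Subgroup.centralizer ({a} : Set G) := by
  classical
  have : Fact (Nat.Prime 2) := ⟨Nat.prime_two⟩
  set H : Subgroup G := Subgroup.centralizer ({a} : Set G) with hH
  have hTN : (T : Subgroup G) ≤ nrm T := Subgroup.le_normalizer
  have hTH : (T : Subgroup G) ≤ H := hTN.trans hM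
  have hCH : cen T ≤ H := (cen_le_nrm T).trans hM
  have _ha := ha
  -- conjugating an involution
  have hconjord : ∀ (g t : G), orderOf t = 2 → orderOf (g * t * g⁻¹) = 2 := by
    intro g t ht
    exact Cfsg.Agent.Lib.Helper21_StronglyEmbedded.orderOf_conj_eq_two ht g
  -- (1') any two involutions of `H` are `H`-conjugate
  have hconj : ∀ s t : G, orderOf s = 2 → s ∈ H → orderOf t = 2 → t ∈ H →
      ∃ h ∈ H, h * s * h⁻¹ = t := by
    intro s t hs hsH ht htH
    obtain ⟨h₁, hh₁, hs₁⟩ := secent_conj_into_sylow T hTH hs hsH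
    obtain ⟨h₂, hh₂, ht₁⟩ := secent_conj_into_sylow T hTH ht htH
    obtain ⟨m, hm, hmeq⟩ := exists_nrm_conj hab T hnc hnn (hconjord h₁ s hs) hs₁
      (hconjord h₂ t ht) ht₁
    refine ⟨h₂⁻¹ * m * h₁, H.mul_mem (H.mul_mem (H.inv_mem hh₂) (hM hm)) hh₁, ?_⟩
    have : h₂⁻¹ * m * h₁ * s * (h₂⁻¹ * m * h₁)⁻¹ = h₂⁻¹ * (m * (h₁ * s * h₁⁻¹) * m⁻¹) * h₂ := by
      group
    rw [this, hmeq]
    group
  -- (1'') `C_G(t) ≤ H` for every involution `t` of `H`
  have hcent : ∀ t : G, orderOf t = 2 → t ∈ H → Subgroup.centralizer ({t} : Set G) ≤ H := by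
    intro t ht htH x hx
    obtain ⟨h, hh, ht₁⟩ := secent_conj_into_sylow T hTH ht htH
    have hcen := centralizer_invol_eq hab T (hconjord h t ht) ht₁
    have hx' : h * x * h⁻¹ ∈ Subgroup.centralizer ({h * t * h⁻¹} : Set G) := by
      rw [Subgroup.mem_centralizer_singleton_iff] at hx ⊢
      have : h * x * h⁻¹ * (h * t * h⁻¹) = h * (x * t) * h⁻¹ := by group
      rw [this, hx]
      group
    rw [hcen] at hx'
    have h3 := hCH hx'
    have h4 := H.mul_mem (H.mul_mem (H.inv_mem hh) h3) hh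
    have : h⁻¹ * (h * x * h⁻¹) * h = x := by group
    rwa [this] at h4
  obtain ⟨t₀, ht₀, ht₀T⟩ := exists_invol_mem T hnc
  refine ⟨⟨hne, ?_, ?_⟩, ?_⟩
  · -- `|H|` is even
    exact even_iff_two_dvd.2
      (Cfsg.Agent.Lib.Helper21_StronglyEmbedded.two_dvd_card_of_mem ht₀ (hTH ht₀T))
  · -- (2)
    intro g hg
    by_contra hodd
    rw [Nat.not_odd_iff_even, even_iff_two_dvd] at hodd
    obtain ⟨x, hx⟩ := exists_prime_orderOf_dvd_card' 2 hodd
    have hx2 : orderOf (x : G) = 2 := by rw [Subgroup.orderOf_coe]; exact hx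
    obtain ⟨hxH, hxg⟩ := Subgroup.mem_inf.1 x.2
    obtain ⟨s, hsH, hsx⟩ := Subgroup.mem_map.1 hxg
    have hsx' : g * s * g⁻¹ = (x : G) := hsx
    have hs2 : orderOf s = 2 := by
      have h5 := hconjord g⁻¹ (x : G) hx2
      rw [inv_inv, ← hsx'] at h5
      have : g⁻¹ * (g * s * g⁻¹) * g = s := by group
      rwa [this] at h5
    obtain ⟨h, hh, hhs⟩ := hconj s (x : G) hs2 hsH hx2 hxH
    have hcs : h⁻¹ * g ∈ Subgroup.centralizer ({s} : Set G) := by
      rw [Subgroup.mem_centralizer_singleton_iff]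
      have h6 : h * s * h⁻¹ = g * s * g⁻¹ := hhs.trans hsx'.symm
      have h7 : s = h⁻¹ * (g * s * g⁻¹) * h := by rw [← h6]; group
      calc h⁻¹ * g * s = h⁻¹ * (g * s * g⁻¹) * h * (h⁻¹ * g) := by group
        _ = s * (h⁻¹ * g) := by rw [← h7]
    have h8 := hcent s hs2 hsH hcs
    have h9 := H.mul_mem hh h8
    rw [mul_inv_cancel_left] at h9
    exact hg h9
  · -- (3)
    by_contra hall
    push Not at hall
    apply hne
    rw [eq_top_iff]
    intro g _
    have hmem : g * t₀ * g⁻¹ ∈ (g • T : Sylow 2 G) := l1_conj_mem_smul T g ht₀T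
    have ht' : orderOf (g * t₀ * g⁻¹) = 2 := hconjord g t₀ ht₀
    have ht'H : g * t₀ * g⁻¹ ∈ H := hall _ ht'
    obtain ⟨h, hh, hhT⟩ := secent_conj_into_sylow T hTH ht' ht'H
    have hmem2 : h * (g * t₀ * g⁻¹) * h⁻¹ ∈ ((h * g) • T : Sylow 2 G) := by
      have : h * (g * t₀ * g⁻¹) * h⁻¹ = (h * g) * t₀ * (h * g)⁻¹ := by group
      rw [this]
      exact l1_conj_mem_smul T (h * g) ht₀T
    have heq : (h * g) • T = T :=
      sylow_eq_of_invol_mem hab T (hconjord h _ ht') hhT hmem2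
    have hN : h * g ∈ nrm T := Sylow.smul_eq_iff_mem_normalizer.1 heq
    have h10 := H.mul_mem (H.inv_mem hh) (hM hN)
    rwa [inv_mul_cancel_left] at h10

end Cfsg.Agent.Lib.Helper37_AbInv
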