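import Cfsg.Agent.Lib.Helper37_AbInv_L2
import Cfsg.Agent.Lib.Helper37_AbInv_B
import Cfsg.Agent.Lib.Helper37_AbInv_NoOdd
import Cfsg.Agent.Lib.Helper37_AbInv_SEcent

/-!
# S2202 package AB-9: THEOREM D, (DICH) always holds

Strong induction on `Nat.card G` over all groups of one universe.  If `a ∈ C(T)` has odd order and
`N(T) < H := C_G(a) < G`, then `H` is strongly embedded in `G` (`stronglyEmbedded_centralizer`), so by
S1225 the odd-order subgroup `Y = H ∩ vHv⁻¹` conjugates any involution of `H` to any other one.  By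
induction `H` satisfies (DICH), so `↥H ⧸ oddCenter ↥H` is a `CIT` group (`cit_quotient`); the image
of `Y` there contradicts Lemma N (`no_odd_transitive`).
-/

set_option autoImplicit false
open Cfsg

namespace Cfsg.Agent.Lib.Helper37_AbInv

open Cfsg.Agent.Lib.Helper21_StronglyEmbedded

universe u

theorem dich_aux : ∀ n : ℕ, ∀ (G : Type u) [Group G] [Finite G], Nat.card G = n → AbCent G →
    ∀ T : Sylow 2 G, ¬ IsCyclic (T : Subgroup G) → ¬ (T : Subgroup G).Normal → Dich T := by
  intro n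
  induction n using Nat.strong_induction_on with
  | _ n ih =>
  intro G _ _ hcard hab T hnc hnn a ha hodd
  rcases dichotomy hab T hnc hnn ha hodd with h | h
  · exact Or.inl h
  by_cases hHtop : Subgroup.centralizer ({a} : Set G) = ⊤
  · right
    rw [Subgroup.mem_center_iff]
    intro g
    have hg : g ∈ Subgroup.centralizer ({a} : Set G) := by rw [hHtop]; exact Subgroup.mem_top g
    exact (Subgroup.mem_centralizer_iff.mp hg a rfl).symm
  by_cases hHM : Subgroup.centralizer ({a} : Set G) ≤ nrm T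
  · exact Or.inl hHM
  exfalso
  obtain ⟨H, hH⟩ : ∃ H : Subgroup G, H = Subgroup.centralizer ({a} : Set G) := ⟨_, rfl⟩
  rw [← hH] at h hHtop hHM
  have hTH : (T : Subgroup G) ≤ H := Subgroup.le_normalizer.trans h
  -- the hypotheses for the group `↥H`
  have habH : AbCent ↥H := abCent_subgroup hab H
  have hncH : ¬ IsCyclic ↥((T.subtype hTH : Sylow 2 ↥H) : Subgroup ↥H) := by
    intro hc
    apply hnc
    have e : ↥((T : Subgroup G).subgroupOf H) ≃* ↥(T : Subgroup G) :=
      Subgroup.subgroupOfEquivOfLe hTH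
    have hc' : IsCyclic ↥((T : Subgroup G).subgroupOf H) := hc
    exact isCyclic_of_surjective e e.surjective
  have hnnH : ¬ ((T.subtype hTH : Sylow 2 ↥H) : Subgroup ↥H).Normal := by
    intro hN
    apply hHM
    have hN' : ((T : Subgroup G).subgroupOf H).Normal := hN
    exact (Subgroup.normal_subgroupOf_iff_le_normalizer hTH).mp hN'
  have hcardH : Nat.card ↥H < n := by
    rw [← hcard]
    by_contra hge
    exact hHtop (Subgroup.eq_top_of_le_card H (not_lt.mp hge))
  have hDH : Dich (T.subtype hTH) := ih (Nat.card ↥H) hcardH ↥H rfl habH _ hncH hnnH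
  have hCIT := cit_quotient habH (T.subtype hTH) hncH hnnH hDH
  -- `H` is strongly embedded
  obtain ⟨hSE, v, hv, hvH⟩ := stronglyEmbedded_centralizer hab T hnc hnn ha (hH ▸ h) (hH ▸ hHtop)
  rw [← hH] at hSE hvH
  have hYodd : Odd (Nat.card ↥(H ⊓ H.map (MulAut.conj v).toMonoidHom)) := hSE.2.2 v hvH
  -- the image of `Y` in `↥H ⧸ oddCenter ↥H`
  let Yb : Subgroup (↥H ⧸ oddCenter ↥H) :=
    ((H ⊓ H.map (MulAut.conj v).toMonoidHom).subgroupOf H).map (QuotientGroup.mk' (oddCenter ↥H))
  have hYbodd : Odd (Nat.card ↥Yb) := by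
    have h1 : Nat.card ↥Yb ∣ Nat.card ↥((H ⊓ H.map (MulAut.conj v).toMonoidHom).subgroupOf H) :=
      Subgroup.card_map_dvd _ _
    have h2 : Nat.card ↥((H ⊓ H.map (MulAut.conj v).toMonoidHom).subgroupOf H)
        = Nat.card ↥(H ⊓ H.map (MulAut.conj v).toMonoidHom) :=
      Nat.card_congr (Subgroup.subgroupOfEquivOfLe inf_le_left).toEquiv
    rw [h2] at h1
    exact Odd.of_dvd_nat hYodd h1
  have htr : ∀ s t : ↥H ⧸ oddCenter ↥H, orderOf s = 2 → orderOf t = 2 →
      ∃ y ∈ Yb, y * s * y⁻¹ = t := by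
    intro s t hs ht
    obtain ⟨s', hs', rfl⟩ := exists_invol_lift hs
    obtain ⟨t', ht', rfl⟩ := exists_invol_lift ht
    have hs'G : orderOf (s' : G) = 2 := by rw [Subgroup.orderOf_coe]; exact hs'
    have ht'G : orderOf (t' : G) = 2 := by rw [Subgroup.orderOf_coe]; exact ht'
    obtain ⟨d, hd, hds⟩ := exists_mem_inf_conj hSE hvH hs'G s'.2 ht'G t'.2
    refine ⟨QuotientGroup.mk (⟨d, hd.1⟩ : ↥H), ?_, ?_⟩
    · exact Subgroup.mem_map_of_mem _ (Subgroup.mem_subgroupOf.mpr hd)
    · rw [← QuotientGroup.mk_inv, ← QuotientGroup.mk_mul, ← QuotientGroup.mk_mul]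
      congr 1
      exact Subtype.ext hds
  exact no_odd_transitive hCIT (Tbar (T.subtype hTH)) (not_isCyclic_Tbar _ hncH)
    (not_normal_Tbar _ hnnH) Yb hYbodd htr

variable {G : Type*} [Group G] [Finite G]

/-- THEOREM D: every odd-order `a ∈ C(T)` has `C_G(a) ≤ N(T)` or is central. -/
theorem dich_of_abCent (hab : AbCent G) (T : Sylow 2 G) (hnc : ¬ IsCyclic (T : Subgroup G))
    (hnn : ¬ (T : Subgroup G).Normal) : Dich T :=
  dich_aux (Nat.card G) G rfl hab T hnc hnn

end Cfsg.Agent.Lib.Helper37_AbInv
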