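import Cfsg.Agent.Lib.Helper37_AbInv_L1

/-!
# S2202 package AB-6: the quotient `G ⧸ oddCenter G` inherits (H), (N) and turns (DICH) into (TI)
(statements fixed by the architect helper37; proofs by helper31).  Paper proof: THEOREM B.
`K := oddCenter G` is central of odd order.  Involutions of `G ⧸ K` lift to involutions
(`t := g ^ |K|`), `C_{G/K}(t̄) = image of C_G(t)` (`x t x⁻¹ = t k`, `k ∈ K` ⟹ `k² = 1` ⟹ `k = 1`).
-/

set_option autoImplicit false
open Cfsg

namespace Cfsg.Agent.Lib.Helper37_AbInv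

variable {G : Type*} [Group G] [Finite G]

/-- The image of `T` in `G ⧸ oddCenter G`, as a Sylow subgroup. -/
noncomputable abbrev Tbar (T : Sylow 2 G) : Sylow 2 (G ⧸ oddCenter G) :=
  T.mapSurjective (QuotientGroup.mk'_surjective (oddCenter G))

omit [Finite G] in
/-- an element of odd order killed by a power of two is trivial -/
theorem q6_eq_one_of_pow_two_of_odd {k : G} (hodd : Odd (orderOf k)) {m : ℕ}
    (hk : k ^ 2 ^ m = 1) : k = 1 := by
  have hdvd : orderOf k ∣ 2 ^ m := orderOf_dvd_of_pow_eq_one hk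
  have hcop : Nat.Coprime (orderOf k) (2 ^ m) := Nat.Coprime.pow_right m hodd.coprime_two_right
  exact orderOf_eq_one_iff.mp (hcop.eq_one_of_dvd hdvd)

omit [Finite G] in
theorem q6_comm_of_mem {k : G} (hk : k ∈ oddCenter G) (x : G) : k * x = x * k :=
  (Subgroup.mem_center_iff.mp hk.1 x).symm

omit [Finite G] in
/-- `mk x = mk y` iff `x = y * k` with `k ∈ K`. -/
theorem q6_mk_eq_iff {x y : G} :
    (QuotientGroup.mk x : G ⧸ oddCenter G) = QuotientGroup.mk y ↔ ∃ k ∈ oddCenter G, x = y * k := by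
  rw [QuotientGroup.eq]
  constructor
  · intro h
    refine ⟨(x⁻¹ * y)⁻¹, Subgroup.inv_mem _ h, ?_⟩
    group
  · rintro ⟨k, hk, rfl⟩
    have : (y * k)⁻¹ * y = k⁻¹ := by group
    rw [this]
    exact Subgroup.inv_mem _ hk

/-- membership in `T̄` -/
theorem q6_mem_Tbar (T : Sylow 2 G) {xb : G ⧸ oddCenter G} :
    xb ∈ (Tbar T : Sylow 2 (G ⧸ oddCenter G)) ↔
      ∃ t ∈ T, (QuotientGroup.mk t : G ⧸ oddCenter G) = xb := by
  show xb ∈ ((Tbar T : Sylow 2 (G ⧸ oddCenter G)) : Subgroup (G ⧸ oddCenter G)) ↔ _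
  rw [Sylow.coe_mapSurjective, Subgroup.mem_map]
  rfl

section Quot
variable (hab : AbCent G) (T : Sylow 2 G) (hnc : ¬ IsCyclic (T : Subgroup G))
  (hnn : ¬ (T : Subgroup G).Normal)

theorem odd_card_oddCenter : Odd (Nat.card ↥(oddCenter G)) := by
  by_contra hne
  rw [Nat.not_odd_iff_even, even_iff_two_dvd] at hne
  have : Fact (Nat.Prime 2) := ⟨Nat.prime_two⟩
  obtain ⟨a, ha⟩ := exists_prime_orderOf_dvd_card' 2 hne
  have h1 : orderOf (a : G) = 2 := by rw [Subgroup.orderOf_coe]; exact ha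
  have h2 : Odd (orderOf (a : G)) := a.2.2
  rw [h1] at h2
  exact absurd h2 (by decide)

/-- if `t k` is a `2`-element with `t` a `2`-element commuting with `k ∈ K`, then `k = 1` -/
theorem q6_eq_one_of_two_elements {t k : G} {m n : ℕ} (hk : k ∈ oddCenter G)
    (ht : t ^ 2 ^ m = 1) (htk : (t * k) ^ 2 ^ n = 1) : k = 1 := by
  have hcomm : Commute t k := (q6_comm_of_mem hk t).symm
  have h1 : (t * k) ^ 2 ^ (m + n) = 1 := by
    rw [pow_add, mul_comm, pow_mul, htk, one_pow]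
  have h2 : t ^ 2 ^ (m + n) = 1 := by rw [pow_add, pow_mul, ht, one_pow]
  rw [hcomm.mul_pow, h2, one_mul] at h1
  exact q6_eq_one_of_pow_two_of_odd hk.2 h1

/-- elements of `T` are `2`-elements -/
theorem q6_pow_two_of_mem (T : Sylow 2 G) {t : G} (ht : t ∈ T) : ∃ m : ℕ, t ^ 2 ^ m = 1 := by
  obtain ⟨m, hm⟩ := T.isPGroup' ⟨t, ht⟩
  exact ⟨m, by simpa using congrArg Subtype.val hm⟩

/-- if a `2`-element `x` maps into `T̄` then `x ∈ T` -/
theorem q6_mem_of_mk_mem (T : Sylow 2 G) {x : G} {n : ℕ} (hx : x ^ 2 ^ n = 1)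
    (h : (QuotientGroup.mk x : G ⧸ oddCenter G) ∈ (Tbar T : Sylow 2 (G ⧸ oddCenter G))) :
    x ∈ T := by
  obtain ⟨t, ht, hte⟩ := (q6_mem_Tbar T).mp h
  obtain ⟨k, hk, hxk⟩ := q6_mk_eq_iff.mp hte.symm
  obtain ⟨m, hm⟩ := q6_pow_two_of_mem T ht
  have hk1 : k = 1 := q6_eq_one_of_two_elements hk hm (by rw [← hxk]; exact hx)
  rw [hxk, hk1, mul_one]
  exact ht

/-- `T → T̄` is injective (`T ∩ K = 1`). -/
theorem card_Tbar : Nat.card ↥((Tbar T : Sylow 2 (G ⧸ oddCenter G)) : Subgroup (G ⧸ oddCenter G))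
    = Nat.card ↥(T : Subgroup G) := by
  have : Fact (Nat.Prime 2) := ⟨Nat.prime_two⟩
  rw [Sylow.card_eq_multiplicity, Sylow.card_eq_multiplicity]
  congr 1
  have h1 : Nat.card G = Nat.card (G ⧸ oddCenter G) * Nat.card (oddCenter G) :=
    Subgroup.card_eq_card_quotient_mul_card_subgroup _
  have hodd := odd_card_oddCenter (G := G)
  have h2 : (Nat.card (oddCenter G)).factorization 2 = 0 := by
    apply Nat.factorization_eq_zero_of_not_dvd
    intro hdvd
    exact (Nat.not_even_iff_odd.mpr hodd) (even_iff_two_dvd.mpr hdvd)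
  rw [h1, Nat.factorization_mul Nat.card_pos.ne' Nat.card_pos.ne', Finsupp.add_apply, h2, add_zero]

/-- Every involution of the quotient is the image of an involution. -/
theorem exists_invol_lift {tb : G ⧸ oddCenter G} (ht : orderOf tb = 2) :
    ∃ t : G, orderOf t = 2 ∧ (QuotientGroup.mk t : G ⧸ oddCenter G) = tb := by
  obtain ⟨g, rfl⟩ := QuotientGroup.mk_surjective tb
  have hodd := odd_card_oddCenter (G := G)
  obtain ⟨r, hr⟩ := hodd
  set n := Nat.card (oddCenter G) with hn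
  have htb2 : (QuotientGroup.mk g : G ⧸ oddCenter G) ^ 2 = 1 := by
    rw [← ht, pow_orderOf_eq_one]
  have hg2 : g ^ 2 ∈ oddCenter G := by
    rw [← QuotientGroup.eq_one_iff, QuotientGroup.mk_pow]
    exact htb2
  have hg2n : (g ^ 2) ^ n = 1 :=
    orderOf_dvd_iff_pow_eq_one.mp (Subgroup.orderOf_dvd_natCard (oddCenter G) hg2)
  refine ⟨g ^ n, ?_, ?_⟩
  · apply orderOf_eq_prime
    · rw [← pow_mul, mul_comm, pow_mul]; exact hg2n
    · intro h1
      have h2 : (QuotientGroup.mk g : G ⧸ oddCenter G) ^ n = 1 := by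
        rw [← QuotientGroup.mk_pow, h1]; rfl
      rw [hr, pow_succ, pow_mul, htb2, one_pow, one_mul] at h2
      rw [h2, orderOf_one] at ht
      exact absurd ht (by decide)
  · rw [QuotientGroup.mk_pow, hr, pow_succ, pow_mul, htb2, one_pow, one_mul]

/-- `C_{G/K}(t̄)` is the image of `C_G(t)`. -/
theorem centralizer_mk_invol {t : G} (ht : orderOf t = 2) :
    Subgroup.centralizer ({(QuotientGroup.mk t : G ⧸ oddCenter G)} : Set (G ⧸ oddCenter G)) =
      (Subgroup.centralizer ({t} : Set G)).map (QuotientGroup.mk' (oddCenter G)) := by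
  ext xb
  rw [Subgroup.mem_centralizer_singleton_iff, Subgroup.mem_map]
  constructor
  · intro h
    obtain ⟨x, rfl⟩ := QuotientGroup.mk_surjective xb
    refine ⟨x, ?_, rfl⟩
    rw [Subgroup.mem_centralizer_singleton_iff]
    have h' : (QuotientGroup.mk (x * t) : G ⧸ oddCenter G) = QuotientGroup.mk (t * x) := h
    obtain ⟨k, hk, hxk⟩ := q6_mk_eq_iff.mp h'
    -- `x t = t x k`, so `x t x⁻¹ = t k`
    have h1 : x * t * x⁻¹ = t * k := by
      have hkx := q6_comm_of_mem hk x⁻¹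
      calc x * t * x⁻¹ = (t * x * k) * x⁻¹ := by rw [hxk]
        _ = t * x * (k * x⁻¹) := by group
        _ = t * x * (x⁻¹ * k) := by rw [hkx]
        _ = t * k := by group
    have htt : t ^ 2 ^ 1 = 1 := by rw [pow_one, ← ht, pow_orderOf_eq_one]
    have h2 : (t * k) ^ 2 ^ 1 = 1 := by
      rw [← h1, conj_pow, htt, mul_one, mul_inv_cancel]
    have hk1 := q6_eq_one_of_two_elements hk htt h2
    rw [hxk, hk1, mul_one]
  · rintro ⟨x, hx, rfl⟩
    rw [Subgroup.mem_centralizer_singleton_iff] at hx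
    show (QuotientGroup.mk (x * t) : G ⧸ oddCenter G) = QuotientGroup.mk (t * x)
    rw [hx]

include hab in
theorem abCent_quotient : AbCent (G ⧸ oddCenter G) := by
  intro tb htb
  obtain ⟨t, ht, rfl⟩ := exists_invol_lift htb
  rw [centralizer_mk_invol ht]
  have := hab t ht
  infer_instance

include hnc in
theorem not_isCyclic_Tbar :
    ¬ IsCyclic ↥((Tbar T : Sylow 2 (G ⧸ oddCenter G)) : Subgroup (G ⧸ oddCenter G)) := by
  intro hcyc
  apply hnc
  -- the restriction of `mk'` to `T` is a bijection onto `T̄`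
  let f : ↥(T : Subgroup G) →* ↥((T : Subgroup G).map (QuotientGroup.mk' (oddCenter G))) :=
    (QuotientGroup.mk' (oddCenter G)).subgroupMap (T : Subgroup G)
  have hsurj : Function.Surjective f :=
    (QuotientGroup.mk' (oddCenter G)).subgroupMap_surjective (T : Subgroup G)
  have hcard : Nat.card ↥((T : Subgroup G).map (QuotientGroup.mk' (oddCenter G))) =
      Nat.card ↥(T : Subgroup G) := card_Tbar T
  have hbij : Function.Bijective f := hsurj.bijective_of_nat_card_le (by rw [hcard])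
  let e : ↥(T : Subgroup G) ≃* ↥((T : Subgroup G).map (QuotientGroup.mk' (oddCenter G))) :=
    MulEquiv.ofBijective f hbij
  have : IsCyclic ↥((T : Subgroup G).map (QuotientGroup.mk' (oddCenter G))) := hcyc
  exact isCyclic_of_surjective e.symm e.symm.surjective

include hnn in
theorem not_normal_Tbar :
    ¬ ((Tbar T : Sylow 2 (G ⧸ oddCenter G)) : Subgroup (G ⧸ oddCenter G)).Normal := by
  intro hN
  apply hnn
  constructor
  intro t ht g
  obtain ⟨m, hm⟩ := q6_pow_two_of_mem T ht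
  have h2 : (g * t * g⁻¹) ^ 2 ^ m = 1 := by rw [conj_pow, hm, mul_one, mul_inv_cancel]
  apply q6_mem_of_mk_mem T h2
  have h3 : (QuotientGroup.mk t : G ⧸ oddCenter G) ∈ (Tbar T : Sylow 2 (G ⧸ oddCenter G)) :=
    (q6_mem_Tbar T).mpr ⟨t, ht, rfl⟩
  have := hN.conj_mem _ h3 (QuotientGroup.mk g)
  exact this

include hab hnc in
theorem cen_Tbar : cen (Tbar T) = (cen T).map (QuotientGroup.mk' (oddCenter G)) := by
  apply le_antisymm
  · intro xb hxb
    obtain ⟨t, ht2, htT⟩ := exists_invol_mem T hnc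
    have hmem : xb ∈ Subgroup.centralizer
        ({(QuotientGroup.mk t : G ⧸ oddCenter G)} : Set (G ⧸ oddCenter G)) := by
      rw [Subgroup.mem_centralizer_singleton_iff]
      have := (Subgroup.mem_centralizer_iff.mp hxb) (QuotientGroup.mk t)
        ((q6_mem_Tbar T).mpr ⟨t, htT, rfl⟩)
      exact this.symm
    rw [centralizer_mk_invol ht2, centralizer_invol_eq hab T ht2 htT] at hmem
    exact hmem
  · rintro xb ⟨x, hx, rfl⟩
    rw [Subgroup.mem_centralizer_iff]
    intro tb htb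
    obtain ⟨t, ht, rfl⟩ := (q6_mem_Tbar T).mp htb
    have := (Subgroup.mem_centralizer_iff.mp hx) t ht
    show (QuotientGroup.mk (t * x) : G ⧸ oddCenter G) = QuotientGroup.mk (x * t)
    rw [this]

theorem nrm_Tbar : nrm (Tbar T) = (nrm T).map (QuotientGroup.mk' (oddCenter G)) := by
  apply le_antisymm
  · intro xb hxb
    obtain ⟨x, rfl⟩ := QuotientGroup.mk_surjective xb
    refine ⟨x, ?_, rfl⟩
    apply Subgroup.mem_normalizer_fintype
    intro t ht
    obtain ⟨m, hm⟩ := q6_pow_two_of_mem T ht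
    have h2 : (x * t * x⁻¹) ^ 2 ^ m = 1 := by rw [conj_pow, hm, mul_one, mul_inv_cancel]
    apply q6_mem_of_mk_mem T h2
    have h3 : (QuotientGroup.mk t : G ⧸ oddCenter G) ∈ (Tbar T : Sylow 2 (G ⧸ oddCenter G)) :=
      (q6_mem_Tbar T).mpr ⟨t, ht, rfl⟩
    have := (Subgroup.mem_normalizer_iff.mp hxb (QuotientGroup.mk t)).mp h3
    exact this
  · rintro xb ⟨x, hx, rfl⟩
    apply Subgroup.mem_normalizer_fintype
    intro tb htb
    obtain ⟨t, ht, rfl⟩ := (q6_mem_Tbar T).mp htb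
    have h1 : x * t * x⁻¹ ∈ (T : Subgroup G) := (Subgroup.mem_normalizer_iff.mp hx t).mp ht
    exact (q6_mem_Tbar T).mpr ⟨x * t * x⁻¹, h1, rfl⟩

include hab hnc hnn in
/-- (DICH) for `G` gives (TI) for `G ⧸ K`. -/
theorem tiHyp_Tbar (hD : Dich T) : TIHyp (Tbar T) := by
  intro ab hab' hodd hne
  rw [cen_Tbar hab T hnc] at hab'
  obtain ⟨a, haC, rfl⟩ := hab'
  -- `a` has odd order
  have hoddK := odd_card_oddCenter (G := G)
  have haodd : Odd (orderOf a) := by
    have h1 : a ^ orderOf (QuotientGroup.mk a : G ⧸ oddCenter G) ∈ oddCenter G := by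
      rw [← QuotientGroup.eq_one_iff, QuotientGroup.mk_pow, pow_orderOf_eq_one]
    have h2 : (a ^ orderOf (QuotientGroup.mk a : G ⧸ oddCenter G)) ^ Nat.card (oddCenter G) = 1 :=
      orderOf_dvd_iff_pow_eq_one.mp (Subgroup.orderOf_dvd_natCard (oddCenter G) h1)
    rw [← pow_mul] at h2
    exact Odd.of_dvd_nat (hodd.mul hoddK) (orderOf_dvd_of_pow_eq_one h2)
  have hanc : a ∉ Subgroup.center G := by
    intro hc
    apply hne
    exact (QuotientGroup.eq_one_iff a).mpr ⟨hc, haodd⟩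
  have hle : Subgroup.centralizer ({a} : Set G) ≤ nrm T := by
    rcases hD a haC haodd with h | h
    · exact h
    · exact absurd h hanc
  intro xb hxb
  obtain ⟨g, rfl⟩ := QuotientGroup.mk_surjective xb
  rw [nrm_Tbar T]
  refine ⟨g, ?_, rfl⟩
  -- `g a g⁻¹ = a k`
  rw [Subgroup.mem_centralizer_singleton_iff] at hxb
  have hxb' : (QuotientGroup.mk (g * a) : G ⧸ oddCenter G) = QuotientGroup.mk (a * g) := hxb
  obtain ⟨k, hk, hgk⟩ := q6_mk_eq_iff.mp hxb'
  -- `g⁻¹ a g = a k⁻¹`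
  have hconj : g⁻¹ * a * g = a * k⁻¹ := by
    have hkg := q6_comm_of_mem hk g
    have h1 : a * g = g * a * k⁻¹ := by rw [hgk]; group
    have hk' := q6_comm_of_mem (Subgroup.inv_mem _ hk) g
    calc g⁻¹ * a * g = g⁻¹ * (a * g) := by group
      _ = g⁻¹ * (g * a * k⁻¹) := by rw [h1]
      _ = a * k⁻¹ := by group
  apply mem_nrm_of_smul_le T
  intro y hy
  -- `y = g t g⁻¹`, `t ∈ T`
  have hy' : y ∈ ((g • T : Sylow 2 G) : Subgroup G) := hy
  rw [Sylow.coe_subgroup_smul] at hy'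
  obtain ⟨t, ht, rfl⟩ := (Subgroup.mem_smul_pointwise_iff_exists _ _ _).mp hy'
  apply hle
  rw [Subgroup.mem_centralizer_singleton_iff]
  have hta : t * a = a * t := (Subgroup.mem_centralizer_iff.mp haC) t ht
  have htk := q6_comm_of_mem (Subgroup.inv_mem _ hk) t
  show (g * t * g⁻¹) * a = a * (g * t * g⁻¹)
  have hgk' : g * (a * k⁻¹) * g⁻¹ = a := by
    rw [← hconj]; group
  calc (g * t * g⁻¹) * a = g * (t * (g⁻¹ * a * g)) * g⁻¹ := by group
    _ = g * (t * (a * k⁻¹)) * g⁻¹ := by rw [hconj]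
    _ = g * ((a * k⁻¹) * t) * g⁻¹ := by
        congr 2
        calc t * (a * k⁻¹) = (t * a) * k⁻¹ := by group
          _ = (a * t) * k⁻¹ := by rw [hta]
          _ = a * (t * k⁻¹) := by group
          _ = a * (k⁻¹ * t) := by rw [htk]
          _ = (a * k⁻¹) * t := by group
    _ = (g * (a * k⁻¹) * g⁻¹) * (g * t * g⁻¹) := by group
    _ = a * (g * t * g⁻¹) := by rw [hgk']

end Quot

end Cfsg.Agent.Lib.Helper37_AbInv
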