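import Cfsg.Agent.Lib.Helper37_AbInv_L3

/-!
# S2202 package AB-8: THEOREM C, the splitting `G = X × oddCenter G`
(statements fixed by the architect helper37; proofs by helper7).  Paper proof: THEOREM C (BN-pair
computation): `X := S D₁ ∪ S D₁ u S` with `D₁ := {d ∈ D | u d u⁻¹ = d⁻¹}` is a subgroup complementing
the central subgroup `K := oddCenter G`.
-/

set_option autoImplicit false
open Cfsg

namespace Cfsg.Agent.Lib.Helper37_AbInv

variable {G : Type*} [Group G]

/-! ### the easy half: a complement of a central subgroup gives a direct product -/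

/-- A complement of a central subgroup gives a direct product decomposition. -/
theorem nonempty_mulEquiv_prod_of_complement {X : Subgroup G} (h1 : X ⊓ oddCenter G = ⊥)
    (h2 : X ⊔ oddCenter G = ⊤) :
    Nonempty (G ≃* (G ⧸ oddCenter G) × ↥(oddCenter G)) := by
  classical
  have hcen : ∀ (k : ↥(oddCenter G)) (g : G), g * (k : G) = (k : G) * g :=
    fun k g => Subgroup.mem_center_iff.mp k.2.1 g
  have hdec : ∀ g : G, ∃ x ∈ X, ∃ k ∈ oddCenter G, x * k = g := by
    intro g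
    have hg : g ∈ ((X ⊔ oddCenter G : Subgroup G) : Set G) := by rw [h2]; trivial
    rw [Subgroup.mul_normal X (oddCenter G)] at hg
    obtain ⟨x, hx, k, hk, hxk⟩ := Set.mem_mul.mp hg
    exact ⟨x, hx, k, hk, hxk⟩
  have htriv : ∀ z : G, z ∈ X → z ∈ oddCenter G → z = 1 := by
    intro z hzX hzK
    have : z ∈ X ⊓ oddCenter G := Subgroup.mem_inf.mpr ⟨hzX, hzK⟩
    rw [h1] at this
    exact Subgroup.mem_bot.mp this
  let ψ : ↥X × ↥(oddCenter G) →* G :=
    { toFun := fun p => (p.1 : G) * (p.2 : G)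
      map_one' := by simp
      map_mul' := by
        rintro ⟨x, k⟩ ⟨x', k'⟩
        show ((x * x' : ↥X) : G) * ((k * k' : ↥(oddCenter G)) : G) = (x : G) * (k : G) * ((x' : G) * (k' : G))
        rw [Subgroup.coe_mul, Subgroup.coe_mul]
        have := hcen k (x' : G)
        calc (x : G) * x' * (k * k') = x * (x' * k) * k' := by group
          _ = x * (k * x') * k' := by rw [this]
          _ = x * k * (x' * k') := by group }
  have hinj : Function.Injective ψ := by
    rintro ⟨x, k⟩ ⟨x', k'⟩ h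
    have h' : (x : G) * (k : G) = (x' : G) * (k' : G) := h
    have hz : (x' : G)⁻¹ * (x : G) = (k' : G) * (k : G)⁻¹ := by
      have : (x : G) = x' * k' * (k : G)⁻¹ := by rw [← h']; group
      rw [this]; group
    have hz1 : (x' : G)⁻¹ * (x : G) = 1 :=
      htriv _ (X.mul_mem (X.inv_mem x'.2) x.2) (by rw [hz]; exact (oddCenter G).mul_mem k'.2 ((oddCenter G).inv_mem k.2))
    have hxx : (x : G) = x' := by
      have := congrArg (fun t => (x' : G) * t) hz1
      simpa using this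
    have hkk : (k : G) = k' := by
      rw [hxx] at h'
      exact mul_left_cancel h'
    exact Prod.ext (Subtype.ext hxx) (Subtype.ext hkk)
  have hsurj : Function.Surjective ψ := by
    intro g
    obtain ⟨x, hx, k, hk, hxk⟩ := hdec g
    exact ⟨(⟨x, hx⟩, ⟨k, hk⟩), hxk⟩
  let e1 : ↥X × ↥(oddCenter G) ≃* G := MulEquiv.ofBijective ψ ⟨hinj, hsurj⟩
  let θ : ↥X →* G ⧸ oddCenter G := (QuotientGroup.mk' (oddCenter G)).comp X.subtype
  have hθ : Function.Bijective θ := by
    constructor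
    · intro x x' h
      have h' : ((x : G) : G ⧸ oddCenter G) = ((x' : G) : G ⧸ oddCenter G) := h
      rw [QuotientGroup.eq] at h'
      have hz1 := htriv _ (X.mul_mem (X.inv_mem x.2) x'.2) h'
      apply Subtype.ext
      have := congrArg (fun t => (x : G) * t) hz1
      simpa using this.symm
    · intro q
      obtain ⟨g, rfl⟩ := QuotientGroup.mk_surjective q
      obtain ⟨x, hx, k, hk, hxk⟩ := hdec g
      refine ⟨⟨x, hx⟩, ?_⟩
      show ((x : G) : G ⧸ oddCenter G) = (g : G ⧸ oddCenter G)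
      rw [QuotientGroup.eq, ← hxk]
      have : x⁻¹ * (x * k) = k := by group
      rw [this]; exact hk
  let e2 : ↥X ≃* G ⧸ oddCenter G := MulEquiv.ofBijective θ hθ
  exact ⟨e1.symm.trans (MulEquiv.prodCongr e2 (MulEquiv.refl _))⟩


/-! ### the BN-pair computation -/

section split

variable [Finite G]

/-- `T` acts semiregularly on the cosets of `N(T)` other than `N(T)` itself. -/
theorem split_semireg (hab : AbCent G) (T : Sylow 2 G) (hel : ∀ a : G, a ∈ T → a ^ 2 = 1)
    {g s : G} (hg : g ∉ nrm T) (hs : s ∈ T) (hsg : g⁻¹ * s * g ∈ nrm T) : s = 1 := by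
  by_contra hne
  have hord : orderOf s = 2 := orderOf_eq_prime (hel s hs) hne
  have h2 : (g⁻¹ * s * g) ^ 2 = 1 := by
    have : (g⁻¹ * s * g) ^ 2 = g⁻¹ * s ^ 2 * g := by rw [pow_two, pow_two]; group
    rw [this, hel s hs]; group
  have hne' : g⁻¹ * s * g ≠ 1 := by
    intro h; apply hne
    have : s = g * (g⁻¹ * s * g) * g⁻¹ := by group
    rw [this, h]; group
  have hmem : g⁻¹ * s * g ∈ T := invol_mem_of_mem_nrm T (orderOf_eq_prime h2 hne') hsg
  have hsP : s ∈ (g • T : Sylow 2 G) := by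
    show s ∈ ((g • T : Sylow 2 G) : Subgroup G)
    rw [Sylow.coe_subgroup_smul, Subgroup.mem_pointwise_smul_iff_inv_smul_mem]
    have h3 : (MulAut.conj g)⁻¹ • s = g⁻¹ * s * g := by simp [MulAut.smul_def]
    rw [h3]; exact hmem
  have hPT : (g • T : Sylow 2 G) = T := sylow_eq_of_invol_mem hab T hord hs hsP
  apply hg
  apply mem_nrm_of_smul_le T
  rw [hPT]
  exact Subgroup.le_normalizer

/-- `G = N(T) ∪ T u N(T)`. -/
theorem split_cover (hab : AbCent G) (T : Sylow 2 G) (hel : ∀ a : G, a ∈ T → a ^ 2 = 1)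
    (hidx : (nrm T).index = Nat.card ↥(T : Subgroup G) + 1) {u : G} (huN : u ∉ nrm T)
    {g : G} (hg : g ∉ nrm T) : ∃ s ∈ T, ∃ m ∈ nrm T, g = s * u * m := by
  classical
  have hTM : (T : Subgroup G) ≤ nrm T := Subgroup.le_normalizer
  let f : Option ↥(T : Subgroup G) → G ⧸ nrm T := fun o =>
    match o with
    | none => ((1 : G) : G ⧸ nrm T)
    | some s => (((s : G) * u : G) : G ⧸ nrm T)
  have hf : Function.Injective f := by
    intro a b hab'
    cases a with
    | none =>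
      cases b with
      | none => rfl
      | some s =>
        exfalso
        have h1 : ((1 : G) : G ⧸ nrm T) = (((s : G) * u : G) : G ⧸ nrm T) := hab'
        rw [QuotientGroup.eq] at h1
        apply huN
        have h3 : u = (s : G)⁻¹ * ((1 : G)⁻¹ * ((s : G) * u)) := by group
        rw [h3]
        exact (nrm T).mul_mem ((nrm T).inv_mem (hTM s.2)) h1
    | some s =>
      cases b with
      | none =>
        exfalso
        have h1 : (((s : G) * u : G) : G ⧸ nrm T) = ((1 : G) : G ⧸ nrm T) := hab'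
        rw [QuotientGroup.eq] at h1
        apply huN
        have h3 : u = (s : G)⁻¹ * (((s : G) * u)⁻¹ * 1)⁻¹ := by group
        rw [h3]
        exact (nrm T).mul_mem ((nrm T).inv_mem (hTM s.2)) ((nrm T).inv_mem h1)
      | some s' =>
        have h1 : (((s : G) * u : G) : G ⧸ nrm T) = (((s' : G) * u : G) : G ⧸ nrm T) := hab'
        rw [QuotientGroup.eq] at h1
        have h3 : u⁻¹ * ((s : G)⁻¹ * (s' : G)) * u ∈ nrm T := by
          have : u⁻¹ * ((s : G)⁻¹ * (s' : G)) * u = ((s : G) * u)⁻¹ * ((s' : G) * u) := by group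
          rw [this]; exact h1
        have h4 := split_semireg hab T hel huN ((T : Subgroup G).mul_mem ((T : Subgroup G).inv_mem s.2) s'.2) h3
        have h5 : (s : G) = s' := by
          have := congrArg (fun t => (s : G) * t) h4
          simpa using this.symm
        exact congrArg some (Subtype.ext h5)
  have hcard : Nat.card (G ⧸ nrm T) ≤ Nat.card (Option ↥(T : Subgroup G)) := by
    rw [Finite.card_option, ← Subgroup.index_eq_card, hidx]
  obtain ⟨o, ho⟩ := (hf.bijective_of_nat_card_le hcard).2 ((g : G) : G ⧸ nrm T)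
  cases o with
  | none =>
    exfalso
    have h1 : ((1 : G) : G ⧸ nrm T) = ((g : G) : G ⧸ nrm T) := ho
    rw [QuotientGroup.eq] at h1
    apply hg
    have : g = (1 : G)⁻¹ * g := by group
    rw [this]; exact h1
  | some s =>
    have h1 : (((s : G) * u : G) : G ⧸ nrm T) = ((g : G) : G ⧸ nrm T) := ho
    rw [QuotientGroup.eq] at h1
    refine ⟨s, s.2, _, h1, ?_⟩
    group

/-- `C(T) = T · oddCenter G` when the odd-order elements of `C(T)` are central. -/
theorem split_cen_decomp (T : Sylow 2 G)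
    (hQ : ∀ a : G, a ∈ cen T → Odd (orderOf a) → a ∈ Subgroup.center G) {c : G} (hc : c ∈ cen T) :
    ∃ s ∈ T, ∃ k ∈ oddCenter G, c = s * k := by
  have hn0 : orderOf c ≠ 0 := (orderOf_pos c).ne'
  obtain ⟨e, m, hm, hn⟩ := Nat.exists_eq_two_pow_mul_odd hn0
  have hcop : Nat.Coprime (2 ^ e) m := Nat.Coprime.pow_left e (Nat.coprime_two_left.mpr hm)
  have hbez := Int.gcd_eq_gcd_ab ((2 ^ e : ℕ) : ℤ) (m : ℤ)
  rw [Int.gcd_natCast_natCast, hcop.gcd_eq_one, Nat.cast_one] at hbez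
  set A : ℤ := Int.gcdA ((2 ^ e : ℕ) : ℤ) (m : ℤ) with hA
  set B : ℤ := Int.gcdB ((2 ^ e : ℕ) : ℤ) (m : ℤ) with hB
  set k : G := c ^ (((2 ^ e : ℕ) : ℤ) * A) with hk
  set s : G := c ^ ((m : ℤ) * B) with hs
  have hcs : c = s * k := by
    rw [hs, hk, ← zpow_add]
    have : (m : ℤ) * B + ((2 ^ e : ℕ) : ℤ) * A = 1 := by rw [hbez]; ring
    rw [this, zpow_one]
  have hkm : k ^ m = 1 := by
    rw [hk, ← zpow_natCast, ← zpow_mul]
    have : ((2 ^ e : ℕ) : ℤ) * A * (m : ℤ) = ((orderOf c : ℕ) : ℤ) * A := by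
      rw [hn]; push_cast; ring
    rw [this, zpow_mul, zpow_natCast, pow_orderOf_eq_one, one_zpow]
  have hse : s ^ (2 ^ e) = 1 := by
    rw [hs, ← zpow_natCast, ← zpow_mul]
    have : (m : ℤ) * B * ((2 ^ e : ℕ) : ℤ) = ((orderOf c : ℕ) : ℤ) * B := by
      rw [hn]; push_cast; ring
    rw [this, zpow_mul, zpow_natCast, pow_orderOf_eq_one, one_zpow]
  have hkC : k ∈ cen T := (cen T).zpow_mem hc _
  have hsC : s ∈ cen T := (cen T).zpow_mem hc _
  have hkodd : Odd (orderOf k) := Odd.of_dvd_nat hm (orderOf_dvd_of_pow_eq_one hkm)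
  refine ⟨s, mem_sylow_of_mem_nrm_of_isPGroup T (cen_le_nrm T hsC) ⟨e, hse⟩, k,
    ⟨hQ k hkC hkodd, hkodd⟩, hcs⟩

/-- The two-point stabilizer is abelian when `N(T)/T` is. -/
theorem split_twoPt_comm (hab : AbCent G) (T : Sylow 2 G) (hnc : ¬ IsCyclic (T : Subgroup G))
    (hnn : ¬ (T : Subgroup G).Normal)
    (hcomm : ∀ x y : G, x ∈ nrm T → y ∈ nrm T → x * y * x⁻¹ * y⁻¹ ∈ T)
    {u : G} (hu : orderOf u = 2) (huN : u ∉ nrm T) {x y : G} (hx : x ∈ twoPt T u)
    (hy : y ∈ twoPt T u) : x * y = y * x := by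
  have h1 : x * y * x⁻¹ * y⁻¹ ∈ T :=
    hcomm x y (Subgroup.mem_inf.mp hx).1 (Subgroup.mem_inf.mp hy).1
  have h2 : x * y * x⁻¹ * y⁻¹ ∈ twoPt T u :=
    (twoPt T u).mul_mem ((twoPt T u).mul_mem ((twoPt T u).mul_mem hx hy) ((twoPt T u).inv_mem hx))
      ((twoPt T u).inv_mem hy)
  have h3 := eq_one_of_mem_twoPt_of_mem_sylow hab T hnc hnn hu huN h2 h1
  have h4 : x * y = (x * y * x⁻¹ * y⁻¹) * (y * x) := by group
  rw [h4, h3, one_mul]

/-- Elements of the two-point stabilizer centralized by `u` lie in `oddCenter G`. -/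
theorem split_fixed_mem (hab : AbCent G) (T : Sylow 2 G) (hnc : ¬ IsCyclic (T : Subgroup G))
    (hnn : ¬ (T : Subgroup G).Normal)
    (hQ : ∀ a : G, a ∈ cen T → Odd (orderOf a) → a ∈ Subgroup.center G)
    {u : G} (hu : orderOf u = 2) (huN : u ∉ nrm T) {a : G} (ha : a ∈ twoPt T u)
    (hfix : u * a * u⁻¹ = a) : a ∈ oddCenter G := by
  have hodd : Odd (orderOf a) :=
    Odd.of_dvd_nat (odd_card_twoPt hab T hnc hnn huN) (Subgroup.orderOf_dvd_natCard _ ha)
  -- a Sylow 2-subgroup containing `u`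
  have hpg : IsPGroup 2 (Subgroup.zpowers u) :=
    IsPGroup.of_card (n := 1) (by rw [Nat.card_zpowers, hu, pow_one])
  obtain ⟨P, hP⟩ := hpg.exists_le_sylow
  have huP : u ∈ P := hP (Subgroup.mem_zpowers u)
  have hcP : Subgroup.centralizer ({u} : Set G) = cen P := centralizer_invol_eq hab P hu huP
  have haP : a ∈ cen P := by
    rw [← hcP, Subgroup.mem_centralizer_iff]
    intro h hh
    rw [Set.mem_singleton_iff] at hh
    subst hh
    have : h * a = (h * a * h⁻¹) * h := by group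
    rw [this, hfix]
  obtain ⟨g, hg⟩ := MulAction.exists_smul_eq G T P
  have hconj : g⁻¹ * a * g ∈ cen T := by
    rw [Subgroup.mem_centralizer_iff]
    intro t ht
    have htP : g * t * g⁻¹ ∈ (P : Subgroup G) := by
      rw [← hg, Sylow.coe_subgroup_smul, Subgroup.mem_pointwise_smul_iff_inv_smul_mem]
      have h3 : (MulAut.conj g)⁻¹ • (g * t * g⁻¹) = t := by
        rw [MulAut.smul_def, MulAut.conj_inv_apply]; group
      rw [h3]; exact ht
    have h4 := (Subgroup.mem_centralizer_iff.mp haP) _ htP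
    calc t * (g⁻¹ * a * g) = g⁻¹ * ((g * t * g⁻¹) * a) * g := by group
      _ = g⁻¹ * (a * (g * t * g⁻¹)) * g := by rw [h4]
      _ = g⁻¹ * a * g * t := by group
  have hoc : orderOf (g⁻¹ * a * g) = orderOf a := by
    have h5 : g⁻¹ * a * g = (MulAut.conj g⁻¹) a := by rw [MulAut.conj_apply, inv_inv]
    rw [h5, MulEquiv.orderOf_eq]
  have hcen : g⁻¹ * a * g ∈ Subgroup.center G := hQ _ hconj (by rw [hoc]; exact hodd)
  have hcen' : a ∈ Subgroup.center G := by
    have h6 := (inferInstance : (Subgroup.center G).Normal).conj_mem _ hcen g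
    have h7 : g * (g⁻¹ * a * g) * g⁻¹ = a := by group
    rwa [h7] at h6
  exact ⟨hcen', hodd⟩

/-- The two-point stabilizer is the product of its `u`-fixed and its `u`-inverted elements. -/
theorem split_twoPt_decomp (hab : AbCent G) (T : Sylow 2 G) (hnc : ¬ IsCyclic (T : Subgroup G))
    (hnn : ¬ (T : Subgroup G).Normal)
    (hcomm : ∀ x y : G, x ∈ nrm T → y ∈ nrm T → x * y * x⁻¹ * y⁻¹ ∈ T)
    {u : G} (hu : orderOf u = 2) (huN : u ∉ nrm T) {d : G} (hd : d ∈ twoPt T u) :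
    ∃ a ∈ twoPt T u, ∃ b ∈ twoPt T u, u * a * u⁻¹ = a ∧ u * b * u⁻¹ = b⁻¹ ∧ d = a * b := by
  have hC : ∀ {x y : G}, x ∈ twoPt T u → y ∈ twoPt T u → Commute x y :=
    fun hx hy => split_twoPt_comm hab T hnc hnn hcomm hu huN hx hy
  have huu : u * u = 1 := by rw [← pow_two, ← hu, pow_orderOf_eq_one]
  have hinv : u⁻¹ = u := inv_eq_of_mul_eq_one_right huu
  obtain ⟨h, hh⟩ : ∃ h, Nat.card ↥(twoPt T u) + 1 = 2 * h := by
    obtain ⟨r, hr⟩ := odd_card_twoPt hab T hnc hnn huN
    exact ⟨r + 1, by omega⟩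
  have hpow : ∀ {x : G}, x ∈ twoPt T u → x ^ (2 * h) = x := by
    intro x hx
    rw [← hh, pow_succ]
    have : x ^ Nat.card ↥(twoPt T u) = 1 :=
      orderOf_dvd_iff_pow_eq_one.mp (Subgroup.orderOf_dvd_natCard _ hx)
    rw [this, one_mul]
  set d' : G := u * d * u⁻¹ with hd'
  have hd'D : d' ∈ twoPt T u := conj_mem_twoPt T hu hd
  have hd'' : u * d' * u⁻¹ = d := by
    rw [hd', hinv]
    calc u * (u * d * u) * u = (u * u) * d * (u * u) := by group
      _ = d := by rw [huu]; group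
  have hdd' : Commute d d' := hC hd hd'D
  refine ⟨(d * d') ^ h, (twoPt T u).pow_mem ((twoPt T u).mul_mem hd hd'D) h,
    (d * d'⁻¹) ^ h, (twoPt T u).pow_mem ((twoPt T u).mul_mem hd ((twoPt T u).inv_mem hd'D)) h, ?_, ?_, ?_⟩
  · rw [← conj_pow]
    have : u * (d * d') * u⁻¹ = (u * d * u⁻¹) * (u * d' * u⁻¹) := by group
    rw [this, hd'', ← hd', hdd'.eq]
  · rw [← conj_pow, ← inv_pow]
    have : u * (d * d'⁻¹) * u⁻¹ = (u * d * u⁻¹) * (u * d' * u⁻¹)⁻¹ := by group
    rw [this, hd'', ← hd']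
    congr 1
    group
  · have hc2 : Commute (d * d') (d * d'⁻¹) :=
      hC ((twoPt T u).mul_mem hd hd'D) ((twoPt T u).mul_mem hd ((twoPt T u).inv_mem hd'D))
    rw [← hc2.mul_pow]
    have : d * d' * (d * d'⁻¹) = d ^ 2 := by
      calc d * d' * (d * d'⁻¹) = d * (d' * d) * d'⁻¹ := by group
        _ = d * (d * d') * d'⁻¹ := by rw [hdd'.eq]
        _ = d ^ 2 := by rw [pow_two]; group
    rw [this, ← pow_mul, hpow hd]

/-- `N(T) = T · D₁ · oddCenter G`. -/
theorem split_nrm_decomp (hab : AbCent G) (T : Sylow 2 G) (hnc : ¬ IsCyclic (T : Subgroup G))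
    (hnn : ¬ (T : Subgroup G).Normal)
    (hQ : ∀ a : G, a ∈ cen T → Odd (orderOf a) → a ∈ Subgroup.center G)
    (hcomm : ∀ x y : G, x ∈ nrm T → y ∈ nrm T → x * y * x⁻¹ * y⁻¹ ∈ T)
    {u : G} (hu : orderOf u = 2) (huN : u ∉ nrm T) {m : G} (hm : m ∈ nrm T) :
    ∃ s ∈ T, ∃ b ∈ twoPt T u, u * b * u⁻¹ = b⁻¹ ∧ ∃ k ∈ oddCenter G, m = s * b * k := by
  obtain ⟨d, hd, c, hc, hmdc⟩ := exists_twoPt_mul_cen hab T hnc hnn hu huN hm
  obtain ⟨a, ha, b, hb, hfa, hfb, hdab⟩ := split_twoPt_decomp hab T hnc hnn hcomm hu huN hd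
  obtain ⟨s, hs, k', hk', hcsk⟩ := split_cen_decomp T hQ hc
  have haK : a ∈ oddCenter G := split_fixed_mem hab T hnc hnn hQ hu huN ha hfa
  have hbN : b ∈ nrm T := (Subgroup.mem_inf.mp hb).1
  have hbs : b * s * b⁻¹ ∈ T := (Subgroup.mem_normalizer_iff.mp hbN s).mp hs
  refine ⟨b * s * b⁻¹, hbs, b, hb, hfb, a * k', (oddCenter G).mul_mem haK hk', ?_⟩
  have hac : ∀ g : G, g * a = a * g := fun g => Subgroup.mem_center_iff.mp haK.1 g
  rw [hmdc, hdab, hcsk]
  calc a * b * (s * k') = (b * s) * a * k' := by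
        rw [hac (b * s)]; group
    _ = b * s * b⁻¹ * b * (a * k') := by group

/-- The key computation: `u s u ∈ T D₁ u T` for `s ∈ T`, `s ≠ 1`. -/
theorem split_key (hab : AbCent G) (T : Sylow 2 G) (hnc : ¬ IsCyclic (T : Subgroup G))
    (hnn : ¬ (T : Subgroup G).Normal)
    (hQ : ∀ a : G, a ∈ cen T → Odd (orderOf a) → a ∈ Subgroup.center G)
    (hel : ∀ a : G, a ∈ T → a ^ 2 = 1)
    (hidx : (nrm T).index = Nat.card ↥(T : Subgroup G) + 1)
    (hcomm : ∀ x y : G, x ∈ nrm T → y ∈ nrm T → x * y * x⁻¹ * y⁻¹ ∈ T)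
    {u : G} (hu : orderOf u = 2) (huN : u ∉ nrm T) {s : G} (hs : s ∈ T) (hs1 : s ≠ 1) :
    ∃ s1 ∈ T, ∃ d ∈ twoPt T u, u * d * u⁻¹ = d⁻¹ ∧ ∃ s2 ∈ T, u * s * u = s1 * d * u * s2 := by
  have huu : u * u = 1 := by rw [← pow_two, ← hu, pow_orderOf_eq_one]
  have hinv : u⁻¹ = u := inv_eq_of_mul_eq_one_right huu
  have hTM : (T : Subgroup G) ≤ nrm T := Subgroup.le_normalizer
  have hss : s * s = 1 := by rw [← pow_two]; exact hel s hs
  -- `u s u ∉ N(T)`
  have hgN : u * s * u ∉ nrm T := by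
    intro h
    apply hs1
    apply split_semireg hab T hel huN hs
    rw [hinv]; exact h
  have hgN' : (u * s * u)⁻¹ ∉ nrm T := fun h => hgN (by simpa using (nrm T).inv_mem h)
  obtain ⟨s', hs', m, hm, hgm⟩ := split_cover hab T hel hidx huN hgN'
  obtain ⟨s1, hs1T, d, hd, hdinv, k, hk, hmk⟩ :=
    split_nrm_decomp hab T hnc hnn hQ hcomm hu huN ((nrm T).inv_mem hm)
  obtain ⟨s2, hs2⟩ : ∃ s2 : G, s2 = s'⁻¹ := ⟨_, rfl⟩
  have hs2T : s2 ∈ T := by rw [hs2]; exact (T : Subgroup G).inv_mem hs'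
  have hg : u * s * u = s1 * d * k * u * s2 := by
    have h1 : u * s * u = ((u * s * u)⁻¹)⁻¹ := (inv_inv _).symm
    rw [h1, hgm, mul_inv_rev, mul_inv_rev, hmk, hinv, hs2]
    group
  have hgg : (u * s * u) * (u * s * u) = 1 := by
    calc (u * s * u) * (u * s * u) = u * s * (u * u) * s * u := by group
      _ = u * (s * s) * u := by rw [huu]; group
      _ = 1 := by rw [hss, mul_one, huu]
  have hkc : ∀ g : G, g * k = k * g := fun g => Subgroup.mem_center_iff.mp hk.1 g
  have hku : u * k * u⁻¹ = k := by rw [hkc u]; group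
  set r : G := s2 * s1 with hr
  have hrT : r ∈ T := (T : Subgroup G).mul_mem hs2T hs1T
  have hw : (r * d * k * u) * (r * d * k * u) = 1 := by
    have h1 : (r * d * k * u) * (r * d * k * u) =
        s2 * ((s1 * d * k * u * s2) * (s1 * d * k * u * s2)) * s2⁻¹ := by rw [hr]; group
    rw [h1, ← hg, hgg]; group
  have hdN : d ∈ nrm T := (Subgroup.mem_inf.mp hd).1
  have hkN : k ∈ nrm T := by
    apply cen_le_nrm T
    rw [Subgroup.mem_centralizer_iff]
    intro t _
    exact hkc t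
  -- `r = 1`
  have hr1 : r = 1 := by
    apply split_semireg hab T hel huN hrT
    have hB : u * r * d * k * u = (r * d * k)⁻¹ := by
      have : (r * d * k) * (u * r * d * k * u) = 1 := by rw [← hw]; group
      exact eq_inv_of_mul_eq_one_right this
    have hA : u * r * d * k * u = (u * r * u⁻¹) * (u * d * u⁻¹) * (u * k * u⁻¹) * (u * u) := by group
    rw [hA, hdinv, hku, huu, mul_one] at hB
    have hC : u * r * u⁻¹ = (r * d * k)⁻¹ * k⁻¹ * d := by
      calc u * r * u⁻¹ = (u * r * u⁻¹ * d⁻¹ * k) * k⁻¹ * d := by group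
        _ = _ := by rw [hB]
    have hD : u⁻¹ * r * u = u * r * u⁻¹ := by rw [hinv]
    rw [hD, hC]
    exact (nrm T).mul_mem ((nrm T).mul_mem ((nrm T).inv_mem
      ((nrm T).mul_mem ((nrm T).mul_mem (hTM hrT) hdN) hkN)) ((nrm T).inv_mem hkN)) hdN
  -- `k = 1`
  have hk1 : k = 1 := by
    rw [hr1, one_mul] at hw
    have h1 : (d * k * u) * (d * k * u) = d * k * ((u * d * u⁻¹) * (u * k * u⁻¹) * (u * u)) := by group
    rw [h1, hdinv, hku, huu, mul_one] at hw
    have h2 : k * k = 1 := by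
      calc k * k = d * (d⁻¹ * k) * k := by group
        _ = d * (k * d⁻¹) * k := by rw [hkc d⁻¹]
        _ = d * k * (d⁻¹ * k) := by group
        _ = 1 := hw
    have h3 : orderOf k ∣ 2 := orderOf_dvd_of_pow_eq_one (by rw [pow_two]; exact h2)
    have h4 : orderOf k = 1 := by
      rcases (Nat.dvd_prime Nat.prime_two).mp h3 with h | h
      · exact h
      · exfalso
        have := hk.2
        rw [h] at this
        exact (by decide : ¬ Odd 2) this
    exact orderOf_eq_one_iff.mp h4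
  refine ⟨s1, hs1T, d, hd, hdinv, s2, hs2T, ?_⟩
  rw [hg, hk1, mul_one]

omit [Finite G] in
/-- an element of odd order with square one is trivial -/
theorem split_eq_one_of_sq_of_odd {z : G} (h2 : z ^ 2 = 1) (hodd : Odd (orderOf z)) : z = 1 := by
  have h3 : orderOf z ∣ 2 := orderOf_dvd_of_pow_eq_one h2
  have h4 : orderOf z = 1 := by
    rcases (Nat.dvd_prime Nat.prime_two).mp h3 with h | h
    · exact h
    · exfalso
      rw [h] at hodd
      exact (by decide : ¬ Odd 2) hodd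
  exact orderOf_eq_one_iff.mp h4

/-- A complement `X` of `oddCenter G`. -/
theorem exists_complement_oddCenter (hab : AbCent G) (T : Sylow 2 G)
    (hnc : ¬ IsCyclic (T : Subgroup G)) (hnn : ¬ (T : Subgroup G).Normal)
    (hQ : ∀ a : G, a ∈ cen T → Odd (orderOf a) → a ∈ Subgroup.center G)
    (hel : ∀ a : G, a ∈ T → a ^ 2 = 1)
    (hidx : (nrm T).index = Nat.card ↥(T : Subgroup G) + 1)
    (hcomm : ∀ x y : G, x ∈ nrm T → y ∈ nrm T → x * y * x⁻¹ * y⁻¹ ∈ T) :
    ∃ X : Subgroup G, X ⊓ oddCenter G = ⊥ ∧ X ⊔ oddCenter G = ⊤ := by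
  classical
  obtain ⟨u, hu, huN⟩ := exists_invol_not_mem_nrm hab T hnc hnn
  have huu : u * u = 1 := by rw [← pow_two, ← hu, pow_orderOf_eq_one]
  have hinv : u⁻¹ = u := inv_eq_of_mul_eq_one_right huu
  have hDc : ∀ {x y : G}, x ∈ twoPt T u → y ∈ twoPt T u → x * y = y * x :=
    fun hx hy => split_twoPt_comm hab T hnc hnn hcomm hu huN hx hy
  -- the inverted part `D₁` of the two-point stabilizer
  let D1 : Subgroup G :=
    { carrier := {d | d ∈ twoPt T u ∧ u * d * u⁻¹ = d⁻¹}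
      one_mem' := ⟨one_mem _, by group⟩
      mul_mem' := by
        rintro a b ⟨ha, ha'⟩ ⟨hb, hb'⟩
        refine ⟨mul_mem ha hb, ?_⟩
        have : u * (a * b) * u⁻¹ = (u * a * u⁻¹) * (u * b * u⁻¹) := by group
        rw [this, ha', hb', hDc ha hb, mul_inv_rev]
      inv_mem' := by
        rintro a ⟨ha, ha'⟩
        refine ⟨inv_mem ha, ?_⟩
        have : u * a⁻¹ * u⁻¹ = (u * a * u⁻¹)⁻¹ := by group
        rw [this, ha'] }
  have hD1N : ∀ d ∈ D1, d ∈ nrm T := fun d hd => (Subgroup.mem_inf.mp hd.1).1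
  have hconjT : ∀ d ∈ D1, ∀ s ∈ T, d * s * d⁻¹ ∈ T :=
    fun d hd s hs => (Subgroup.mem_normalizer_iff.mp (hD1N d hd) s).mp hs
  have hconjT' : ∀ d ∈ D1, ∀ s ∈ T, d⁻¹ * s * d ∈ T := by
    intro d hd s hs
    have := hconjT d⁻¹ (D1.inv_mem hd) s hs
    rwa [inv_inv] at this
  have hud : ∀ d ∈ D1, u * d = d⁻¹ * u := by
    intro d hd
    have := hd.2
    calc u * d = (u * d * u⁻¹) * u := by group
      _ = d⁻¹ * u := by rw [this]
  let gens : Set G := {y | y ∈ T ∨ y ∈ D1 ∨ y = u}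
  let X : Subgroup G := Subgroup.closure gens
  let X0 : Set G := {x | (∃ s ∈ T, ∃ d ∈ D1, x = s * d) ∨
    (∃ s ∈ T, ∃ d ∈ D1, ∃ s' ∈ T, x = s * d * u * s')}
  have hstep : ∀ x ∈ X0, ∀ y ∈ gens, x * y ∈ X0 := by
    rintro x hx y hy
    rcases hx with ⟨s, hs, d, hd, rfl⟩ | ⟨s, hs, d, hd, s'', hs'', rfl⟩
    · rcases hy with hy | hy | hy
      · left
        exact ⟨s * (d * y * d⁻¹), (T : Subgroup G).mul_mem hs (hconjT d hd y hy), d, hd, by group⟩
      · left
        exact ⟨s, hs, d * y, D1.mul_mem hd hy, by group⟩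
      · right
        subst hy
        exact ⟨s, hs, d, hd, 1, (T : Subgroup G).one_mem, by group⟩
    · rcases hy with hy | hy | hy
      · right
        exact ⟨s, hs, d, hd, s'' * y, (T : Subgroup G).mul_mem hs'' hy, by group⟩
      · right
        refine ⟨s, hs, d * y⁻¹, D1.mul_mem hd (D1.inv_mem hy), y⁻¹ * s'' * y,
          hconjT' y hy s'' hs'', ?_⟩
        calc s * d * u * s'' * y = s * d * (u * y) * (y⁻¹ * s'' * y) := by group
          _ = s * d * (y⁻¹ * u) * (y⁻¹ * s'' * y) := by rw [hud y hy]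
          _ = s * (d * y⁻¹) * u * (y⁻¹ * s'' * y) := by group
      · subst hy
        by_cases h1 : s'' = 1
        · left
          subst h1
          refine ⟨s, hs, d, hd, ?_⟩
          calc s * d * y * 1 * y = s * d * (y * y) := by group
            _ = s * d := by rw [huu, mul_one]
        · right
          obtain ⟨s1, hs1, d1, hd1, hd1inv, s2, hs2, hkey⟩ :=
            split_key hab T hnc hnn hQ hel hidx hcomm hu huN hs'' h1
          refine ⟨s * (d * s1 * d⁻¹), (T : Subgroup G).mul_mem hs (hconjT d hd s1 hs1), d * d1,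
            D1.mul_mem hd ⟨hd1, hd1inv⟩, s2, hs2, ?_⟩
          calc s * d * y * s'' * y = s * d * (y * s'' * y) := by group
            _ = s * d * (s1 * d1 * y * s2) := by rw [hkey]
            _ = s * (d * s1 * d⁻¹) * (d * d1) * y * s2 := by group
  have hginv : ∀ y ∈ gens, y⁻¹ ∈ gens := by
    rintro y (hy | hy | hy)
    · left; exact (T : Subgroup G).inv_mem hy
    · right; left; exact D1.inv_mem hy
    · right; right; rw [hy, hinv]
  have hXX0 : ∀ x ∈ X, x ∈ X0 := by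
    intro x hx
    refine Subgroup.closure_induction_right (p := fun x _ => x ∈ X0) ?_ ?_ ?_ hx
    · left; exact ⟨1, (T : Subgroup G).one_mem, 1, D1.one_mem, by group⟩
    · intro x _ y hy ih
      exact hstep x ih y hy
    · intro x _ y hy ih
      exact hstep x ih y⁻¹ (hginv y hy)
  -- `X ⊔ K = ⊤`
  have hTX : ∀ s ∈ T, s ∈ X := fun s hs => Subgroup.subset_closure (Or.inl hs)
  have hD1X : ∀ d ∈ D1, d ∈ X := fun d hd => Subgroup.subset_closure (Or.inr (Or.inl hd))
  have huX : u ∈ X := Subgroup.subset_closure (Or.inr (Or.inr rfl))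
  have hMXK : ∀ m ∈ nrm T, m ∈ X ⊔ oddCenter G := by
    intro m hm
    obtain ⟨s, hs, b, hb, hbinv, k, hk, rfl⟩ :=
      split_nrm_decomp hab T hnc hnn hQ hcomm hu huN hm
    exact Subgroup.mul_mem_sup (X.mul_mem (hTX s hs) (hD1X b ⟨hb, hbinv⟩)) hk
  have htop : X ⊔ oddCenter G = ⊤ := by
    rw [eq_top_iff]
    intro g _
    by_cases hg : g ∈ nrm T
    · exact hMXK g hg
    · have hg' : g⁻¹ ∉ nrm T := fun h => hg (by simpa using (nrm T).inv_mem h)
      obtain ⟨s, hs, m, hm, hgm⟩ := split_cover hab T hel hidx huN hg'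
      have h2 : g = m⁻¹ * (u⁻¹ * s⁻¹) := by
        have h1 : g = (g⁻¹)⁻¹ := (inv_inv g).symm
        rw [h1, hgm]; group
      rw [h2]
      exact (X ⊔ oddCenter G).mul_mem (hMXK _ ((nrm T).inv_mem hm))
        (Subgroup.mem_sup_left (X.mul_mem (X.inv_mem huX) (X.inv_mem (hTX s hs))))
  -- counting
  have hcardD1 : Nat.card ↥D1 = Nat.card (Invol T) := by
    rw [← card_inverted hab T hnc hnn hu huN]
    exact Nat.card_congr (Equiv.subtypeEquivRight (fun d => Iff.rfl))
  let F : (↥(T : Subgroup G) × ↥D1) ⊕ (↥(T : Subgroup G) × ↥D1 × ↥(T : Subgroup G)) → G :=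
    fun p => match p with
    | Sum.inl (s, d) => (s : G) * (d : G)
    | Sum.inr (s, d, s') => (s : G) * (d : G) * u * (s' : G)
  have hFsurj : ∀ x : ↥X, ∃ p, F p = (x : G) := by
    intro x
    rcases hXX0 x x.2 with ⟨s, hs, d, hd, h⟩ | ⟨s, hs, d, hd, s', hs', h⟩
    · exact ⟨Sum.inl (⟨s, hs⟩, ⟨d, hd⟩), h.symm⟩
    · exact ⟨Sum.inr (⟨s, hs⟩, ⟨d, hd⟩, ⟨s', hs'⟩), h.symm⟩
  choose ι hι using hFsurj
  have hιinj : Function.Injective ι := by
    intro x y hxy
    apply Subtype.ext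
    rw [← hι x, ← hι y, hxy]
  have hcardX : Nat.card ↥X ≤ Nat.card ↥(T : Subgroup G) * Nat.card (Invol T) +
      Nat.card ↥(T : Subgroup G) * (Nat.card (Invol T) * Nat.card ↥(T : Subgroup G)) := by
    have := Nat.card_le_card_of_injective ι hιinj
    rwa [Nat.card_sum, Nat.card_prod, Nat.card_prod, Nat.card_prod, hcardD1] at this
  have hTK : Nat.card ↥(T : Subgroup G) * Nat.card ↥(oddCenter G) ≤ Nat.card ↥(cen T) := by
    rw [← Nat.card_prod]
    have hKC : ∀ k ∈ oddCenter G, k ∈ cen T := by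
      intro k hk
      rw [Subgroup.mem_centralizer_iff]
      intro t _
      exact Subgroup.mem_center_iff.mp hk.1 t
    let j : ↥(T : Subgroup G) × ↥(oddCenter G) → ↥(cen T) := fun p =>
      ⟨(p.1 : G) * (p.2 : G), (cen T).mul_mem (sylow_le_cen hab T p.1.2) (hKC _ p.2.2)⟩
    apply Nat.card_le_card_of_injective j
    rintro ⟨s, k⟩ ⟨s', k'⟩ h
    have h' : (s : G) * (k : G) = (s' : G) * (k' : G) := congrArg Subtype.val h
    have hz : (s' : G)⁻¹ * (s : G) = (k' : G) * (k : G)⁻¹ := by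
      have : (s : G) = s' * k' * (k : G)⁻¹ := by rw [← h']; group
      rw [this]; group
    have hzT : (s' : G)⁻¹ * (s : G) ∈ T := (T : Subgroup G).mul_mem ((T : Subgroup G).inv_mem s'.2) s.2
    have hzK : (s' : G)⁻¹ * (s : G) ∈ oddCenter G := by
      rw [hz]; exact (oddCenter G).mul_mem k'.2 ((oddCenter G).inv_mem k.2)
    have hz1 : (s' : G)⁻¹ * (s : G) = 1 := split_eq_one_of_sq_of_odd (hel _ hzT) hzK.2
    have hss : (s : G) = s' := by
      have := congrArg (fun t => (s' : G) * t) hz1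
      simpa using this
    have hkk : (k : G) = k' := by
      rw [hss] at h'
      exact mul_left_cancel h'
    exact Prod.ext (Subtype.ext hss) (Subtype.ext hkk)
  have hG : Nat.card G =
      Nat.card ↥(cen T) * Nat.card (Invol T) * (Nat.card ↥(T : Subgroup G) + 1) := by
    rw [← Subgroup.card_mul_index (nrm T), hidx, card_nrm hab T hnc hnn]
  let φ : ↥X × ↥(oddCenter G) → G := fun p => (p.1 : G) * (p.2 : G)
  have hφsurj : Function.Surjective φ := by
    intro g
    have hg : g ∈ ((X ⊔ oddCenter G : Subgroup G) : Set G) := by rw [htop]; trivial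
    rw [Subgroup.mul_normal X (oddCenter G)] at hg
    obtain ⟨x, hx, k, hk, hxk⟩ := Set.mem_mul.mp hg
    exact ⟨(⟨x, hx⟩, ⟨k, hk⟩), hxk⟩
  have hle : Nat.card (↥X × ↥(oddCenter G)) ≤ Nat.card G := by
    rw [Nat.card_prod, hG]
    calc Nat.card ↥X * Nat.card ↥(oddCenter G)
        ≤ (Nat.card ↥(T : Subgroup G) * Nat.card (Invol T) +
            Nat.card ↥(T : Subgroup G) * (Nat.card (Invol T) * Nat.card ↥(T : Subgroup G))) *
            Nat.card ↥(oddCenter G) := Nat.mul_le_mul_right _ hcardX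
      _ = (Nat.card ↥(T : Subgroup G) * Nat.card ↥(oddCenter G)) * Nat.card (Invol T) *
            (Nat.card ↥(T : Subgroup G) + 1) := by ring
      _ ≤ Nat.card ↥(cen T) * Nat.card (Invol T) * (Nat.card ↥(T : Subgroup G) + 1) :=
          Nat.mul_le_mul_right _ (Nat.mul_le_mul_right _ hTK)
  have hφbij := hφsurj.bijective_of_nat_card_le hle
  refine ⟨X, ?_, htop⟩
  rw [eq_bot_iff]
  intro z hz
  obtain ⟨hzX, hzK⟩ := Subgroup.mem_inf.mp hz
  have h1 : φ (⟨z, hzX⟩, 1) = φ (1, ⟨z, hzK⟩) := by simp [φ]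
  have h2 := hφbij.1 h1
  have h3 := congrArg (fun p => ((p.1 : ↥X) : G)) h2
  rw [Subgroup.mem_bot]
  simpa using h3

end split

end Cfsg.Agent.Lib.Helper37_AbInv
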