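import Cfsg.Agent.Lib.Helper37_AbInv_A2
import Cfsg.Agent.Lib.Helper21_BSW4
import Cfsg.Prelude.Def_LieExceptional

/-!
# S2202 package AB-5 (A4-A6): under (TI), `G` is a Zassenhaus group on `G ⧸ N(T)`

Statements fixed by the architect helper37; proofs by helper87.  Paper proof steps (A4) Bender's
trick, (A5) orbit counting with the two-point stabilizer, (A6) no regular normal subgroup
(three involutions of `T` act without fixed points, hence each inverts).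
-/

set_option autoImplicit false
open Cfsg

namespace Cfsg.Agent.Lib.Helper37_AbInv

open Cfsg.Agent.Lib.Helper21_StronglyEmbedded

/-- A finite group acting freely on a finite type: the order divides the cardinality. -/
theorem zass_card_dvd_card_of_free {D X : Type*} [Group D] [Finite D] [MulAction D X] [Finite X]
    (hfree : ∀ (d : D) (x : X), d • x = x → d = 1) : Nat.card D ∣ Nat.card X := by
  classical
  have : Fintype (Quotient (MulAction.orbitRel D X)) := Fintype.ofFinite _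
  rw [Nat.card_congr (MulAction.selfEquivSigmaOrbitsQuotientStabilizer D X), Nat.card_sigma]
  refine Finset.dvd_sum fun ω _ => ?_
  have hstab : MulAction.stabilizer D ω.out = ⊥ := by
    rw [eq_bot_iff]
    intro d hd
    exact Subgroup.mem_bot.mpr (hfree d _ (MulAction.mem_stabilizer_iff.mp hd))
  rw [hstab, ← Subgroup.index_eq_card, Subgroup.index_bot]

/-- A finite subgroup acting freely on an invariant finite set: the order divides the size. -/
theorem zass_card_dvd_ncard_of_free {Γ Ω : Type*} [Group Γ] [MulAction Γ Ω] (D : Subgroup Γ)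
    [Finite D] (Y : Set Ω) (hfin : Y.Finite) (hinv : ∀ d ∈ D, ∀ y ∈ Y, d • y ∈ Y)
    (hfree : ∀ d ∈ D, ∀ y ∈ Y, d • y = y → d = 1) : Nat.card D ∣ Y.ncard := by
  let S : SubMulAction D Ω := { carrier := Y, smul_mem' := fun d y hy => hinv d.1 d.2 y hy }
  have : Finite ↥S := hfin.to_subtype
  have h := zass_card_dvd_card_of_free (D := ↥D) (X := ↥S) (fun d x hdx => by
    have h1 : (d : Γ) • (x : Ω) = x := congrArg Subtype.val hdx
    exact Subtype.ext (hfree d.1 d.2 x.1 x.2 h1))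
  rwa [show Nat.card ↥S = Y.ncard from Nat.card_coe_set_eq Y] at h

variable {G : Type*} [Group G] [Finite G]

section Zass
variable (hab : AbCent G) (T : Sylow 2 G) (hnc : ¬ IsCyclic (T : Subgroup G))
  (hnn : ¬ (T : Subgroup G).Normal) (hTI : TIHyp T)

omit [Finite G] in
/-- `N(T)` normalizes `C(T)`. -/
theorem zass_conj_mem_cen {x c : G} (hx : x ∈ nrm T) (hc : c ∈ cen T) : x * c * x⁻¹ ∈ cen T := by
  rw [Subgroup.mem_centralizer_iff]
  intro t ht
  have ht' : x⁻¹ * t * x ∈ (T : Subgroup G) := (Subgroup.mem_normalizer_iff''.mp hx t).mp ht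
  have h := (Subgroup.mem_centralizer_iff.mp hc) _ ht'
  calc t * (x * c * x⁻¹) = x * ((x⁻¹ * t * x) * c) * x⁻¹ := by group
    _ = x * (c * (x⁻¹ * t * x)) * x⁻¹ := by rw [h]
    _ = x * c * x⁻¹ * t := by group

include hab hnc hnn in
/-- Two distinct cosets of `N(T)` are swapped by an involution. -/
theorem zass_exists_invol_swap {x y : G ⧸ nrm T} (hxy : x ≠ y) :
    ∃ w : G, orderOf w = 2 ∧ w • x = y ∧ w • y = x := by
  have hH := stronglyEmbedded_nrm hab T hnc hnn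
  obtain ⟨t, ht, htT⟩ := exists_invol_mem T hnc
  have htN : t ∈ nrm T := Subgroup.le_normalizer htT
  induction x using QuotientGroup.induction_on with
  | H a =>
    induction y using QuotientGroup.induction_on with
    | H b =>
      have hs : orderOf (a * t * a⁻¹) = 2 := orderOf_conj_eq_two ht a
      have hr : orderOf (b * t * b⁻¹) = 2 := orderOf_conj_eq_two ht b
      obtain ⟨w, hw, -, h1, h2⟩ := exists_involution_conj_of_ne hH hs hr (conj_smul_mk htN a)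
        (conj_smul_mk htN b) hxy
      exact ⟨w, hw, h1, h2⟩

include hab hnc hnn in
/-- A coset other than the base point is `u N(T)` for an involution `u ∉ N(T)`. -/
theorem zass_exists_invol_mk {x : G ⧸ nrm T} (hx : x ≠ QuotientGroup.mk 1) :
    ∃ u : G, orderOf u = 2 ∧ u ∉ nrm T ∧ x = QuotientGroup.mk u := by
  obtain ⟨u, hu, h1, -⟩ := zass_exists_invol_swap hab T hnc hnn (Ne.symm hx)
  have hxu : x = QuotientGroup.mk u := by
    rw [← h1, MulAction.Quotient.smul_mk, smul_eq_mul, mul_one]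
  refine ⟨u, hu, ?_, hxu⟩
  intro huN
  apply hx
  rw [← h1]
  exact smul_mk_one_eq_iff.mpr huN

include hab hnc hnn in
/-- Two distinct Sylow 2-subgroups are swapped by an involution. -/
theorem zass_exists_invol_swap_sylow {P P' : Sylow 2 G} (hne : P ≠ P') :
    ∃ w : G, orderOf w = 2 ∧ w • P = P' ∧ w • P' = P := by
  have : Fact (Nat.Prime 2) := ⟨Nat.prime_two⟩
  obtain ⟨g, rfl⟩ := MulAction.exists_smul_eq G T P
  obtain ⟨g', rfl⟩ := MulAction.exists_smul_eq G T P'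
  have hne' : (QuotientGroup.mk g : G ⧸ nrm T) ≠ QuotientGroup.mk g' := by
    intro h
    apply hne
    have h' := congrArg (Helper21_BSW.sylOf T) h
    rwa [Helper21_BSW.sylOf_mk, Helper21_BSW.sylOf_mk] at h'
  obtain ⟨w, hw, h1, h2⟩ := zass_exists_invol_swap hab T hnc hnn hne'
  refine ⟨w, hw, ?_, ?_⟩
  · have h' := congrArg (Helper21_BSW.sylOf T) h1
    rwa [Helper21_BSW.sylOf_smul, Helper21_BSW.sylOf_mk, Helper21_BSW.sylOf_mk] at h'
  · have h' := congrArg (Helper21_BSW.sylOf T) h2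
    rwa [Helper21_BSW.sylOf_smul, Helper21_BSW.sylOf_mk, Helper21_BSW.sylOf_mk] at h'

omit [Finite G] in
theorem zass_twoPt_eq_inf (w : G) : twoPt T w = nrm T ⊓ nrm (w • T) :=
  Helper21_BSW.twoPt_eq_inf T w

include hab hnc hnn hTI in
/-- (A3) in Sylow form: an involution moving `T` inverts `N(T) ∩ N(w T)`. -/
theorem zass_conj_eq_inv {w x : G} (hw : orderOf w = 2) (hwP : w • T ≠ T)
    (hx1 : x ∈ nrm T) (hx2 : x ∈ nrm (w • T)) : w * x * w⁻¹ = x⁻¹ := by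
  have hwN : w ∉ nrm T := Helper21_BSW.not_mem_nrm_of_smul_ne hwP
  have hxD : x ∈ twoPt T w := by
    rw [zass_twoPt_eq_inf]; exact ⟨hx1, hx2⟩
  exact conj_eq_inv_of_mem_twoPt hab T hnc hnn hTI hw hwN hxD

include hab hnc hnn hTI in
/-- (A4): an element normalizing three distinct Sylow 2-subgroups is trivial. -/
theorem eq_one_of_three_fixed {P₁ P₂ P₃ : Sylow 2 G} (h12 : P₁ ≠ P₂) (h13 : P₁ ≠ P₃)
    (h23 : P₂ ≠ P₃) {x : G} (h1 : x ∈ nrm P₁) (h2 : x ∈ nrm P₂) (h3 : x ∈ nrm P₃) : x = 1 := by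
  have : Fact (Nat.Prime 2) := ⟨Nat.prime_two⟩
  obtain ⟨g₁, hg₁⟩ := MulAction.exists_smul_eq G T P₁
  obtain ⟨g₂, hg₂⟩ := MulAction.exists_smul_eq G T P₂
  have hnc1 : ¬ IsCyclic (P₁ : Subgroup G) := hg₁ ▸ Helper21_BSW.not_isCyclic_smul g₁ T hnc
  have hnn1 : ¬ (P₁ : Subgroup G).Normal := hg₁ ▸ Helper21_BSW.not_normal_smul g₁ T hnn
  have hTI1 : TIHyp P₁ := hg₁ ▸ tiHyp_smul T g₁ hTI
  have hnc2 : ¬ IsCyclic (P₂ : Subgroup G) := hg₂ ▸ Helper21_BSW.not_isCyclic_smul g₂ T hnc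
  have hnn2 : ¬ (P₂ : Subgroup G).Normal := hg₂ ▸ Helper21_BSW.not_normal_smul g₂ T hnn
  have hTI2 : TIHyp P₂ := hg₂ ▸ tiHyp_smul T g₂ hTI
  obtain ⟨u₃, hu₃, hu₃a, hu₃b⟩ := zass_exists_invol_swap_sylow hab T hnc hnn h12
  obtain ⟨u₂, hu₂, hu₂a, hu₂b⟩ := zass_exists_invol_swap_sylow hab T hnc hnn h13
  obtain ⟨u₁, hu₁, hu₁a, hu₁b⟩ := zass_exists_invol_swap_sylow hab T hnc hnn h23
  have hi3 : u₃ * x * u₃⁻¹ = x⁻¹ :=
    zass_conj_eq_inv hab P₁ hnc1 hnn1 hTI1 hu₃ (by rw [hu₃a]; exact h12.symm) h1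
      (by rw [hu₃a]; exact h2)
  have hi2 : u₂ * x * u₂⁻¹ = x⁻¹ :=
    zass_conj_eq_inv hab P₁ hnc1 hnn1 hTI1 hu₂ (by rw [hu₂a]; exact h13.symm) h1
      (by rw [hu₂a]; exact h3)
  have hi1 : u₁ * x * u₁⁻¹ = x⁻¹ :=
    zass_conj_eq_inv hab P₂ hnc2 hnn2 hTI2 hu₁ (by rw [hu₁a]; exact h23.symm) h2
      (by rw [hu₁a]; exact h3)
  have hn : u₁ * u₂ * u₃ ∈ nrm P₂ := by
    apply Sylow.smul_eq_iff_mem_normalizer.mp
    rw [mul_smul, mul_smul, hu₃b, hu₂a, hu₁b]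
  have hnx : (u₁ * u₂ * u₃) * x * (u₁ * u₂ * u₃)⁻¹ = x⁻¹ := by
    calc (u₁ * u₂ * u₃) * x * (u₁ * u₂ * u₃)⁻¹
        = u₁ * (u₂ * (u₃ * x * u₃⁻¹) * u₂⁻¹) * u₁⁻¹ := by group
      _ = u₁ * (u₂ * x * u₂⁻¹)⁻¹ * u₁⁻¹ := by rw [hi3]; group
      _ = u₁ * x * u₁⁻¹ := by rw [hi2, inv_inv]
      _ = x⁻¹ := hi1
  have hu₁N : u₁ ∉ nrm P₂ :=
    Helper21_BSW.not_mem_nrm_of_smul_ne (by rw [hu₁a]; exact h23.symm)
  obtain ⟨d, hd, c, hc, hndc⟩ := exists_twoPt_mul_cen hab P₂ hnc2 hnn2 hu₁ hu₁N hn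
  have hxD : x ∈ twoPt P₂ u₁ := by
    rw [zass_twoPt_eq_inf, hu₁a]; exact ⟨h2, h3⟩
  have hdx : d * x = x * d := commute_of_mem_twoPt hab P₂ hnc2 hnn2 hTI2 hu₁ hu₁N hd hxD
  have hc' : c = d⁻¹ * (u₁ * u₂ * u₃) := by rw [hndc]; group
  have hdx' : d⁻¹ * x * d = x := by rw [mul_assoc, ← hdx]; group
  have hcx : c * x * c⁻¹ = x⁻¹ := by
    calc c * x * c⁻¹ = d⁻¹ * ((u₁ * u₂ * u₃) * x * (u₁ * u₂ * u₃)⁻¹) * d := by rw [hc']; group
      _ = d⁻¹ * x⁻¹ * d := by rw [hnx]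
      _ = (d⁻¹ * x * d)⁻¹ := by group
      _ = x⁻¹ := by rw [hdx']
  have hsqC : x⁻¹ * x⁻¹ ∈ cen P₂ := by
    have h4 : x * c⁻¹ * x⁻¹ ∈ cen P₂ := zass_conj_mem_cen P₂ h2 ((cen P₂).inv_mem hc)
    have h5 : c * (x * c⁻¹ * x⁻¹) = x⁻¹ * x⁻¹ := by
      calc c * (x * c⁻¹ * x⁻¹) = (c * x * c⁻¹) * x⁻¹ := by group
        _ = x⁻¹ * x⁻¹ := by rw [hcx]
    rw [← h5]; exact (cen P₂).mul_mem hc h4
  have hsqD : x⁻¹ * x⁻¹ ∈ twoPt P₂ u₁ :=
    (twoPt P₂ u₁).mul_mem ((twoPt P₂ u₁).inv_mem hxD) ((twoPt P₂ u₁).inv_mem hxD)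
  have hbot := twoPt_inf_cen_eq_bot hab P₂ hnc2 hnn2 hTI2 hu₁ hu₁N
  have hsq1 : x⁻¹ * x⁻¹ = 1 := by
    have hmem : x⁻¹ * x⁻¹ ∈ twoPt P₂ u₁ ⊓ cen P₂ := ⟨hsqD, hsqC⟩
    rw [hbot] at hmem
    exact Subgroup.mem_bot.mp hmem
  have hsq : x ^ 2 ^ 1 = 1 := by
    have h6 : (x⁻¹ * x⁻¹)⁻¹ = 1 := by rw [hsq1, inv_one]
    rw [pow_one, pow_two]
    simpa using h6
  have hxP : x ∈ P₂ := mem_sylow_of_mem_nrm_of_isPGroup P₂ h2 ⟨1, hsq⟩
  exact eq_one_of_mem_twoPt_of_mem_sylow hab P₂ hnc2 hnn2 hu₁ hu₁N hxD hxP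

include hab hnc hnn hTI in
/-- (A4) on cosets. -/
theorem eq_one_of_three_fixed' {x : G} {a b c : G ⧸ nrm T} (hab' : a ≠ b) (hbc : b ≠ c)
    (hac : a ≠ c) (ha : x • a = a) (hb : x • b = b) (hc : x • c = c) : x = 1 := by
  have hinj := Helper21_BSW.sylOf_injective T
  have key : ∀ z : G ⧸ nrm T, x • z = z → x ∈ nrm (Helper21_BSW.sylOf T z) := by
    intro z hz
    apply Sylow.smul_eq_iff_mem_normalizer.mp
    rw [← Helper21_BSW.sylOf_smul, hz]
  exact eq_one_of_three_fixed hab T hnc hnn hTI (fun h => hab' (hinj h)) (fun h => hac (hinj h))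
    (fun h => hbc (hinj h)) (key a ha) (key b hb) (key c hc)

include hab hnc hnn hTI in
/-- `C(T)` acts freely off the base point. -/
theorem zass_cen_free {c : G} (hc : c ∈ cen T) {x : G ⧸ nrm T} (hx : x ≠ QuotientGroup.mk 1)
    (hcx : c • x = x) : c = 1 := by
  obtain ⟨u, hu, huN, hxu⟩ := zass_exists_invol_mk hab T hnc hnn hx
  have hcD : c ∈ twoPt T u := by
    refine ⟨cen_le_nrm T hc, ?_⟩
    rw [hxu] at hcx
    exact smul_mk_eq_mk_iff'.mp hcx
  have hbot := twoPt_inf_cen_eq_bot hab T hnc hnn hTI hu huN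
  have hmem : c ∈ twoPt T u ⊓ cen T := ⟨hcD, hc⟩
  rw [hbot] at hmem
  exact Subgroup.mem_bot.mp hmem

include hab hnc hnn in
/-- Off the base point, the `N(T)`-orbits are `C(T)`-orbits. -/
theorem zass_nrm_smul_eq_cen_smul {m : G} (hm : m ∈ nrm T) {x : G ⧸ nrm T}
    (hx : x ≠ QuotientGroup.mk 1) : ∃ c ∈ cen T, m • x = c • x := by
  obtain ⟨u, hu, huN, hxu⟩ := zass_exists_invol_mk hab T hnc hnn hx
  obtain ⟨d, hd, c, hc, hmdc⟩ := exists_twoPt_mul_cen hab T hnc hnn hu huN ((nrm T).inv_mem hm)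
  have hm' : m = c⁻¹ * d⁻¹ := by
    have : m = (m⁻¹)⁻¹ := (inv_inv m).symm
    rw [this, hmdc]; group
  have hdfix : d⁻¹ • x = x := by
    rw [hxu]
    exact smul_mk_eq_mk_iff'.mpr ((twoPt T u).inv_mem hd).2
  refine ⟨c⁻¹, (cen T).inv_mem hc, ?_⟩
  rw [hm', mul_smul, hdfix]

/-- The `C(T)`-orbit of a point, as a set. -/
def zassOrb (T : Sylow 2 G) (w : G ⧸ nrm T) : Set (G ⧸ nrm T) :=
  Set.range (fun c : ↥(cen T) => (c : G) • w)

omit [Finite G] in
theorem mem_zassOrb {w z : G ⧸ nrm T} : z ∈ zassOrb T w ↔ ∃ c ∈ cen T, c • w = z := by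
  constructor
  · rintro ⟨c, rfl⟩
    exact ⟨c.1, c.2, rfl⟩
  · rintro ⟨c, hc, rfl⟩
    exact ⟨⟨c, hc⟩, rfl⟩

include hab hnc hnn hTI in
theorem zass_ncard_zassOrb {w : G ⧸ nrm T} (hw : w ≠ QuotientGroup.mk 1) :
    (zassOrb T w).ncard = Nat.card ↥(cen T) := by
  have hinj : Function.Injective (fun c : ↥(cen T) => (c : G) • w) := by
    intro c₁ c₂ h
    have h1 : ((c₂ : G)⁻¹ * (c₁ : G)) • w = w := by
      have h' : (c₁ : G) • w = (c₂ : G) • w := h
      rw [mul_smul, h', inv_smul_smul]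
    have h2 := zass_cen_free hab T hnc hnn hTI
      ((cen T).mul_mem ((cen T).inv_mem c₂.2) c₁.2) hw h1
    apply Subtype.ext
    calc (c₁ : G) = (c₂ : G) * ((c₂ : G)⁻¹ * (c₁ : G)) := by group
      _ = c₂ := by rw [h2, mul_one]
  rw [zassOrb, ← Set.image_univ, Set.ncard_image_of_injective _ hinj, Set.ncard_univ]

omit [Finite G] in
theorem zass_base_notMem_zassOrb {w : G ⧸ nrm T} (hw : w ≠ QuotientGroup.mk 1) :
    (QuotientGroup.mk 1 : G ⧸ nrm T) ∉ zassOrb T w := by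
  rw [mem_zassOrb]
  rintro ⟨c, hc, hcw⟩
  apply hw
  have h1 : c⁻¹ • (QuotientGroup.mk 1 : G ⧸ nrm T) = QuotientGroup.mk 1 :=
    smul_mk_one_eq_iff.mpr ((nrm T).inv_mem (cen_le_nrm T hc))
  rw [← h1, ← hcw, inv_smul_smul]

include hab hnc hnn in
theorem zass_nrm_smul_mem_zassOrb {w : G ⧸ nrm T} (hw : w ≠ QuotientGroup.mk 1) {m : G}
    (hm : m ∈ nrm T) {z : G ⧸ nrm T} (hz : z ∈ zassOrb T w) : m • z ∈ zassOrb T w := by
  rw [mem_zassOrb] at hz ⊢
  obtain ⟨c, hc, rfl⟩ := hz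
  obtain ⟨c', hc', h⟩ := zass_nrm_smul_eq_cen_smul hab T hnc hnn
    ((nrm T).mul_mem hm (cen_le_nrm T hc)) hw
  exact ⟨c', hc', by rw [← h, mul_smul]⟩

include hab hnc hnn hTI in
/-- `C(T)` is transitive off the base point. -/
theorem zass_cen_trans {x y : G ⧸ nrm T} (hx : x ≠ QuotientGroup.mk 1)
    (hy : y ≠ QuotientGroup.mk 1) : ∃ c ∈ cen T, c • x = y := by
  by_contra hno
  obtain ⟨u, hu, huN, hxu⟩ := zass_exists_invol_mk hab T hnc hnn hx
  have hDle : ∀ d ∈ twoPt T u, d ∈ nrm T := fun d hd => hd.1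
  have hDα : ∀ d ∈ twoPt T u, d • (QuotientGroup.mk 1 : G ⧸ nrm T) = QuotientGroup.mk 1 :=
    fun d hd => smul_mk_one_eq_iff.mpr hd.1
  have hDx : ∀ d ∈ twoPt T u, d • x = x := fun d hd => by
    rw [hxu]; exact smul_mk_eq_mk_iff'.mpr hd.2
  have hαx : (QuotientGroup.mk 1 : G ⧸ nrm T) ≠ x := Ne.symm hx
  -- `x` is not in the orbit of `y`
  have hxy : x ∉ zassOrb T y := by
    rw [mem_zassOrb]
    rintro ⟨c, hc, hcy⟩
    exact hno ⟨c⁻¹, (cen T).inv_mem hc, by rw [← hcy, inv_smul_smul]⟩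
  -- first divisibility
  have hdvd2 : Nat.card ↥(twoPt T u) ∣ Nat.card ↥(cen T) := by
    rw [← zass_ncard_zassOrb hab T hnc hnn hTI hy]
    refine zass_card_dvd_ncard_of_free (twoPt T u) (zassOrb T y) (Set.toFinite _)
      (fun d hd z hz => zass_nrm_smul_mem_zassOrb hab T hnc hnn hy (hDle d hd) hz) ?_
    intro d hd z hz hdz
    have hzα : (QuotientGroup.mk 1 : G ⧸ nrm T) ≠ z := fun h =>
      zass_base_notMem_zassOrb T hy (h ▸ hz)
    have hzx : x ≠ z := fun h => hxy (h ▸ hz)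
    exact eq_one_of_three_fixed' hab T hnc hnn hTI hαx hzx hzα (hDα d hd) (hDx d hd) hdz
  -- second divisibility
  have hdvd1 : Nat.card ↥(twoPt T u) ∣ Nat.card ↥(cen T) - 1 := by
    have hxmem : x ∈ zassOrb T x := (mem_zassOrb T).mpr ⟨1, (cen T).one_mem, one_smul _ _⟩
    rw [← zass_ncard_zassOrb hab T hnc hnn hTI hx, ← Set.ncard_sdiff_singleton_of_mem hxmem]
    refine zass_card_dvd_ncard_of_free (twoPt T u) (zassOrb T x \ {x}) (Set.toFinite _) ?_ ?_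
    · intro d hd z hz
      refine ⟨zass_nrm_smul_mem_zassOrb hab T hnc hnn hx (hDle d hd) hz.1, ?_⟩
      intro h
      rw [Set.mem_singleton_iff] at h
      apply hz.2
      rw [Set.mem_singleton_iff]
      have h' : d • z = d • x := by rw [h, hDx d hd]
      exact MulAction.injective d h'
    · intro d hd z hz hdz
      have hzα : (QuotientGroup.mk 1 : G ⧸ nrm T) ≠ z := fun h =>
        zass_base_notMem_zassOrb T hx (h ▸ hz.1)
      have hzx : x ≠ z := fun h => hz.2 (by rw [Set.mem_singleton_iff]; exact h.symm)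
      exact eq_one_of_three_fixed' hab T hnc hnn hTI hαx hzx hzα (hDα d hd) (hDx d hd) hdz
  have he := card_twoPt_eq hab T hnc hnn hTI hu huN
  have h3 := three_le_card_invol hab T hnc
  have hCpos : 0 < Nat.card ↥(cen T) := Nat.card_pos
  have h1 : Nat.card ↥(twoPt T u) ∣ 1 := by
    have := Nat.dvd_sub hdvd2 hdvd1
    have h4 : Nat.card ↥(cen T) - (Nat.card ↥(cen T) - 1) = 1 := by omega
    rwa [h4] at this
  have h5 := Nat.le_of_dvd Nat.one_pos h1
  omega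

include hab hnc hnn hTI in
/-- (A5): `C(T)` acts regularly on `G ⧸ N(T)` minus the base point. -/
theorem existsUnique_cen_smul {x y : G ⧸ nrm T} (hx : x ≠ QuotientGroup.mk 1)
    (hy : y ≠ QuotientGroup.mk 1) : ∃! c : G, c ∈ cen T ∧ c • x = y := by
  obtain ⟨c, hc, hcx⟩ := zass_cen_trans hab T hnc hnn hTI hx hy
  refine ⟨c, ⟨hc, hcx⟩, ?_⟩
  rintro c' ⟨hc', hcx'⟩
  have h1 : (c⁻¹ * c') • x = x := by rw [mul_smul, hcx', ← hcx, inv_smul_smul]
  have h2 := zass_cen_free hab T hnc hnn hTI ((cen T).mul_mem ((cen T).inv_mem hc) hc') hx h1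
  calc c' = c * (c⁻¹ * c') := by group
    _ = c := by rw [h2, mul_one]

include hab hnc hnn hTI in
theorem card_quotient_nrm : Nat.card (G ⧸ nrm T) = Nat.card ↥(cen T) + 1 := by
  obtain ⟨u, hu, huN⟩ := exists_invol_not_mem_nrm hab T hnc hnn
  have hx : (QuotientGroup.mk u : G ⧸ nrm T) ≠ QuotientGroup.mk 1 := (mk_one_ne_mk huN).symm
  have huniv : (Set.univ : Set (G ⧸ nrm T))
      = insert (QuotientGroup.mk 1) (zassOrb T (QuotientGroup.mk u)) := by
    ext z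
    simp only [Set.mem_univ, Set.mem_insert_iff, true_iff]
    by_cases hz : z = QuotientGroup.mk 1
    · exact Or.inl hz
    · right
      rw [mem_zassOrb]
      exact zass_cen_trans hab T hnc hnn hTI hx hz
  rw [← Set.ncard_univ, huniv,
    Set.ncard_insert_of_notMem (zass_base_notMem_zassOrb T hx) (Set.toFinite _),
    zass_ncard_zassOrb hab T hnc hnn hTI hx]

omit [Finite G] in
theorem zass_exists_smul_eq_one (a : G ⧸ nrm T) :
    ∃ g : G, g • a = (QuotientGroup.mk 1 : G ⧸ nrm T) := by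
  induction a using QuotientGroup.induction_on with
  | H k =>
    refine ⟨k⁻¹, ?_⟩
    rw [MulAction.Quotient.smul_mk, smul_eq_mul, inv_mul_cancel]

include hab hnc hnn hTI in
theorem zass_two_trans : MulAction.IsMultiplyPretransitive G (G ⧸ nrm T) 2 := by
  rw [MulAction.is_two_pretransitive_iff]
  intro a b c d hab' hcd
  obtain ⟨g₁, hg₁⟩ := zass_exists_smul_eq_one T a
  obtain ⟨g₂, hg₂⟩ := zass_exists_smul_eq_one T c
  have hb' : g₁ • b ≠ (QuotientGroup.mk 1 : G ⧸ nrm T) := by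
    rw [← hg₁]
    intro h
    exact hab' (MulAction.injective g₁ h).symm
  have hd' : g₂ • d ≠ (QuotientGroup.mk 1 : G ⧸ nrm T) := by
    rw [← hg₂]
    intro h
    exact hcd (MulAction.injective g₂ h).symm
  obtain ⟨c₀, hc₀, hc₀b⟩ := zass_cen_trans hab T hnc hnn hTI hb' hd'
  have hc₀N : c₀ ∈ nrm T := cen_le_nrm T hc₀
  refine ⟨g₂⁻¹ * c₀ * g₁, ?_, ?_⟩
  · rw [mul_smul, mul_smul, hg₁, smul_mk_one_eq_iff.mpr hc₀N, ← hg₂, inv_smul_smul]
  · rw [mul_smul, mul_smul, hc₀b, inv_smul_smul]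

include hab hnc hnn hTI in
/-- Three distinct points: the base point, `u N(T)` and `t u N(T)`. -/
theorem zass_exists_three : ∃ a b c : G ⧸ nrm T, a ≠ b ∧ b ≠ c ∧ a ≠ c := by
  obtain ⟨u, hu, huN⟩ := exists_invol_not_mem_nrm hab T hnc hnn
  obtain ⟨t, ht, htT⟩ := exists_invol_mem T hnc
  have hx : (QuotientGroup.mk u : G ⧸ nrm T) ≠ QuotientGroup.mk 1 := (mk_one_ne_mk huN).symm
  have htC : t ∈ cen T := sylow_le_cen hab T htT
  have ht1 : t ≠ 1 := by
    rintro rfl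
    rw [orderOf_one] at ht
    omega
  refine ⟨QuotientGroup.mk 1, QuotientGroup.mk u, t • (QuotientGroup.mk u : G ⧸ nrm T),
    hx.symm, ?_, ?_⟩
  · intro h
    exact ht1 (zass_cen_free hab T hnc hnn hTI htC hx h.symm)
  · intro h
    apply hx
    have h1 : t⁻¹ • (QuotientGroup.mk 1 : G ⧸ nrm T) = QuotientGroup.mk 1 :=
      smul_mk_one_eq_iff.mpr ((nrm T).inv_mem (cen_le_nrm T htC))
    rw [← h1, h, inv_smul_smul]

include hab hnc in
/-- A normal subgroup meeting `N(T)` trivially is trivial. -/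
theorem zass_eq_one_of_normal {N : Subgroup G} (hN : N.Normal)
    (hNM : ∀ y ∈ N, y ∈ nrm T → y = 1) {n : G} (hn : n ∈ N) : n = 1 := by
  -- involutions of `T` act without fixed points on `N`
  have hfpf : ∀ t : G, orderOf t = 2 → t ∈ T → ∀ y ∈ N, t * y * t⁻¹ = y → y = 1 := by
    intro t ht htT y hy hty
    apply hNM y hy
    apply cen_le_nrm T
    rw [← centralizer_invol_eq hab T ht htT, Subgroup.mem_centralizer_iff]
    intro z hz
    rw [Set.mem_singleton_iff] at hz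
    subst hz
    calc z * y = (z * y * z⁻¹) * z := by group
      _ = y * z := by rw [hty]
  -- hence they invert `N`
  have hinv : ∀ t : G, orderOf t = 2 → t ∈ T → ∀ y ∈ N, t * y * t⁻¹ = y⁻¹ := by
    intro t ht htT y hy
    have htt : t * t = 1 := sq_eq_one_of_orderOf_eq_two ht
    have htinv : t⁻¹ = t := Helper21_StronglyEmbedded.inv_eq_self_of_orderOf_eq_two ht
    let φ : ↥N → ↥N := fun z =>
      ⟨(z : G)⁻¹ * (t * (z : G) * t⁻¹), N.mul_mem (N.inv_mem z.2) (hN.conj_mem z z.2 t)⟩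
    have hφinj : Function.Injective φ := by
      intro z₁ z₂ h
      have h1 : (z₁ : G)⁻¹ * (t * (z₁ : G) * t⁻¹) = (z₂ : G)⁻¹ * (t * (z₂ : G) * t⁻¹) :=
        congrArg Subtype.val h
      have h2 : t * ((z₂ : G) * (z₁ : G)⁻¹) * t⁻¹ = (z₂ : G) * (z₁ : G)⁻¹ := by
        calc t * ((z₂ : G) * (z₁ : G)⁻¹) * t⁻¹
            = (z₂ : G) * ((z₂ : G)⁻¹ * (t * (z₂ : G) * t⁻¹)) *
                ((z₁ : G)⁻¹ * (t * (z₁ : G) * t⁻¹))⁻¹ * (z₁ : G)⁻¹ := by group
          _ = (z₂ : G) * (z₁ : G)⁻¹ := by rw [h1]; group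
      have h3 := hfpf t ht htT _ (N.mul_mem z₂.2 (N.inv_mem z₁.2)) h2
      apply Subtype.ext
      calc (z₁ : G) = ((z₂ : G) * (z₁ : G)⁻¹)⁻¹ * (z₂ : G) := by group
        _ = z₂ := by rw [h3, inv_one, one_mul]
    have hφsurj : Function.Surjective φ := Finite.surjective_of_injective hφinj
    obtain ⟨z, hz⟩ := hφsurj ⟨y, hy⟩
    have hz' : (z : G)⁻¹ * (t * (z : G) * t⁻¹) = y := congrArg Subtype.val hz
    rw [← hz', htinv]
    calc t * ((z : G)⁻¹ * (t * (z : G) * t)) * t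
        = t * (z : G)⁻¹ * t * (z : G) * (t * t) := by group
      _ = t * (z : G)⁻¹ * t * (z : G) := by rw [htt, mul_one]
      _ = t⁻¹ * (z : G)⁻¹ * t⁻¹ * (z : G) := by rw [htinv]
      _ = ((z : G)⁻¹ * (t * (z : G) * t))⁻¹ := by group
  -- two distinct involutions of `T`
  have h3 := three_le_card_invol hab T hnc
  have : Finite (Invol T) := Nat.finite_of_card_ne_zero (by omega)
  have hnt : Nontrivial (Invol T) := Finite.one_lt_card_iff_nontrivial.mp (by omega)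
  obtain ⟨t₁, t₂, h12⟩ := hnt.exists_pair_ne
  have ht₁ := t₁.2.1
  have ht₂ := t₂.2.1
  have ht₁T : (t₁ : G) ∈ T := t₁.2.2
  have ht₂T : (t₂ : G) ∈ T := t₂.2.2
  have hcomm : (t₁ : G) * t₂ = t₂ * t₁ := commute_of_mem_sylow hab T ht₁T ht₂T
  have hsq₁ : (t₁ : G) * t₁ = 1 := sq_eq_one_of_orderOf_eq_two ht₁
  have hsq₂ : (t₂ : G) * t₂ = 1 := sq_eq_one_of_orderOf_eq_two ht₂
  have hprod2 : orderOf ((t₁ : G) * t₂) = 2 := by
    have : Fact (Nat.Prime 2) := ⟨Nat.prime_two⟩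
    apply orderOf_eq_prime
    · rw [pow_two]
      calc (t₁ : G) * t₂ * (t₁ * t₂) = t₁ * (t₂ * t₁) * t₂ := by group
        _ = t₁ * (t₁ * t₂) * t₂ := by rw [hcomm]
        _ = (t₁ * t₁) * (t₂ * t₂) := by group
        _ = 1 := by rw [hsq₁, hsq₂, mul_one]
    · intro h
      apply h12
      apply Subtype.ext
      have h4 : (t₁ : G) = (t₂ : G)⁻¹ := eq_inv_of_mul_eq_one_left h
      rw [h4, Helper21_StronglyEmbedded.inv_eq_self_of_orderOf_eq_two ht₂]
  have hprodT : (t₁ : G) * t₂ ∈ T := (T : Subgroup G).mul_mem ht₁T ht₂T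
  apply hfpf _ hprod2 hprodT n hn
  calc (t₁ : G) * t₂ * n * ((t₁ : G) * t₂)⁻¹ = t₁ * (t₂ * n * (t₂ : G)⁻¹) * (t₁ : G)⁻¹ := by group
    _ = t₁ * n⁻¹ * (t₁ : G)⁻¹ := by rw [hinv t₂ ht₂ ht₂T n hn]
    _ = (t₁ * n * (t₁ : G)⁻¹)⁻¹ := by group
    _ = n := by rw [hinv t₁ ht₁ ht₁T n hn, inv_inv]

include hab hnc hnn hTI in
/-- (A6). -/
theorem isZassenhausGroup : Cfsg.IsZassenhausGroup G (G ⧸ nrm T) := by
  obtain ⟨a₀, b₀, c₀, hab₀, hbc₀, hac₀⟩ := zass_exists_three hab T hnc hnn hTI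
  refine ⟨⟨?_⟩, zass_two_trans hab T hnc hnn hTI, ?_, ?_, ?_⟩
  · -- faithful
    intro g₁ g₂ h
    have hfix : ∀ z : G ⧸ nrm T, (g₂⁻¹ * g₁) • z = z := by
      intro z
      rw [mul_smul, h z, inv_smul_smul]
    have h1 := eq_one_of_three_fixed' hab T hnc hnn hTI hab₀ hbc₀ hac₀ (hfix a₀) (hfix b₀)
      (hfix c₀)
    calc g₁ = g₂ * (g₂⁻¹ * g₁) := by group
      _ = g₂ := by rw [h1, mul_one]
  · -- three points
    intro g a b c hab' hbc hac ha hb hc
    exact eq_one_of_three_fixed' hab T hnc hnn hTI hab' hbc hac ha hb hc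
  · -- a nontrivial two-point stabilizer
    obtain ⟨u, hu, huN⟩ := exists_invol_not_mem_nrm hab T hnc hnn
    have he := card_twoPt_eq hab T hnc hnn hTI hu huN
    have h3 := three_le_card_invol hab T hnc
    have hnt : Nontrivial ↥(twoPt T u) := Finite.one_lt_card_iff_nontrivial.mp (by omega)
    obtain ⟨d, hd⟩ := exists_ne (1 : ↥(twoPt T u))
    refine ⟨(d : G), fun h => hd (Subtype.ext h), QuotientGroup.mk 1, QuotientGroup.mk u,
      mk_one_ne_mk huN, smul_mk_one_eq_iff.mpr d.2.1, smul_mk_eq_mk_iff'.mpr d.2.2⟩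
  · -- no regular normal subgroup
    intro N hN htrans
    by_contra hall
    have hstab : ∀ a : G ⧸ nrm T, MulAction.stabilizer ↥N a = ⊥ := fun a => by
      by_contra h
      exact hall ⟨a, h⟩
    have hNM : ∀ y ∈ N, y ∈ nrm T → y = 1 := by
      intro y hy hyM
      have hmem : (⟨y, hy⟩ : ↥N) ∈ MulAction.stabilizer ↥N (QuotientGroup.mk 1 : G ⧸ nrm T) := by
        rw [MulAction.mem_stabilizer_iff]
        exact smul_mk_one_eq_iff.mpr hyM
      rw [hstab] at hmem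
      exact congrArg Subtype.val (Subgroup.mem_bot.mp hmem)
    obtain ⟨y, hy⟩ := htrans.exists_smul_eq a₀ b₀
    have hy1 : (y : G) = 1 := zass_eq_one_of_normal hab T hnc hN hNM y.2
    apply hab₀
    have hy' : (y : G) • a₀ = b₀ := hy
    rw [← hy', hy1, one_smul]

omit [Finite G] in
/-- The stabilizer of the pair `(N(T), u N(T))` is `twoPt T u`. -/
theorem stabilizer_inf_stabilizer (u : G) :
    (MulAction.stabilizer G (QuotientGroup.mk 1 : G ⧸ nrm T) ⊓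
      MulAction.stabilizer G (QuotientGroup.mk u : G ⧸ nrm T) : Subgroup G) = twoPt T u := by
  ext g
  rw [Subgroup.mem_inf, MulAction.mem_stabilizer_iff, MulAction.mem_stabilizer_iff,
    smul_mk_one_eq_iff, smul_mk_eq_mk_iff']
  exact Iff.rfl

end Zass

end Cfsg.Agent.Lib.Helper37_AbInv
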