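import Mathlib

/-!
# Nilpotent covers (helper37)

`eq_of_nilpotent_of_mem` : a nilpotent subgroup containing a generator of a cyclic subgroup `T`
such that `T` contains the centraliser of each of its non-identity elements equals `T`.

`no_nilpotent_minimal_cover` : if a finite group has a family `𝒯` of such subgroups, each
contained in a member of a smaller family `ℬ` of proper subgroups, then no cover of the group by
nilpotent proper subgroups has minimal cardinality among all covers by proper subgroups.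
-/

set_option autoImplicit false

namespace Cfsg.Agent.Lib.Helper37_Cover

variable {G : Type*} [Group G]

/-- a nilpotent subgroup containing the generator `x` of the "self-centralising" cyclic subgroup
`T` is `T` itself -/
theorem eq_of_nilpotent_of_mem (T : Subgroup G) (x : G) (hx : x ∈ T) (hx1 : x ≠ 1)
    (hgen : ∀ y ∈ T, y ∈ Subgroup.zpowers x)
    (hcent : ∀ g ∈ T, g ≠ 1 → ∀ c : G, c * g = g * c → c ∈ T)
    (A : Subgroup G) (hA : Group.IsNilpotent A) (hxA : x ∈ A) : A = T := by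
  have hnt : Nontrivial A := ⟨⟨⟨x, hxA⟩, 1, fun h => hx1 (congrArg Subtype.val h)⟩⟩
  have hcen := Group.IsNilpotent.center_ne_bot (G := A)
  obtain ⟨⟨⟨z, hzA⟩, hzc⟩, hz1⟩ := (Subgroup.ne_bot_iff_exists_ne_one).1 hcen
  have hzne : (z : G) ≠ 1 := by
    intro h
    apply hz1
    apply Subtype.ext
    apply Subtype.ext
    exact h
  -- `z` commutes with every element of `A`
  have hcomm : ∀ a : G, a ∈ A → a * (z : G) = (z : G) * a := by
    intro a ha
    have := (Subgroup.mem_center_iff.1 hzc) ⟨a, ha⟩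
    exact congrArg Subtype.val this
  -- hence `z ∈ T`
  have hzT : (z : G) ∈ T := hcent x hx hx1 z (hcomm x hxA).symm
  apply le_antisymm
  · intro a ha
    exact hcent z hzT hzne a (hcomm a ha)
  · intro y hy
    obtain ⟨k, rfl⟩ := Subgroup.mem_zpowers_iff.1 (hgen y hy)
    exact A.zpow_mem hxA k

/-- no nilpotent cover is minimal -/
theorem no_nilpotent_minimal_cover [DecidableEq (Subgroup G)] (𝒯 ℬ : Finset (Subgroup G))
    (hb : ∀ T ∈ 𝒯, ∃ x : G, ∀ A : Subgroup G, Group.IsNilpotent A → x ∈ A → A = T)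
    (hc : ∀ T ∈ 𝒯, ∃ B ∈ ℬ, T ≤ B) (hd : ∀ B ∈ ℬ, B ≠ ⊤) (he : ℬ.card < 𝒯.card) :
    ¬ ∃ 𝓐 : Finset (Subgroup G), ((∀ A ∈ 𝓐, A ≠ ⊤) ∧ (∀ g : G, ∃ A ∈ 𝓐, g ∈ A)) ∧
      (∀ 𝓑 : Finset (Subgroup G), (∀ A ∈ 𝓑, A ≠ ⊤) ∧ (∀ g : G, ∃ A ∈ 𝓑, g ∈ A) →
        𝓐.card ≤ 𝓑.card) ∧ (∀ A ∈ 𝓐, Group.IsNilpotent ↥A) := by
  rintro ⟨𝓐, ⟨hproper, hcover⟩, hmin, hnil⟩
  -- every member of `𝒯` belongs to the cover
  have hsub : 𝒯 ⊆ 𝓐 := by
    intro T hT
    obtain ⟨x, hx⟩ := hb T hT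
    obtain ⟨A, hA, hxA⟩ := hcover x
    rw [← hx A (hnil A hA) hxA]
    exact hA
  -- the smaller cover
  have h𝓑 := hmin ((𝓐 \ 𝒯) ∪ ℬ) ⟨?_, ?_⟩
  · have h1 : ((𝓐 \ 𝒯) ∪ ℬ).card ≤ (𝓐 \ 𝒯).card + ℬ.card := Finset.card_union_le _ _
    have h3 : (𝓐 \ 𝒯).card = 𝓐.card - 𝒯.card := Finset.card_sdiff_of_subset hsub
    have h4 : 𝒯.card ≤ 𝓐.card := Finset.card_le_card hsub
    omega
  · intro A hA
    rcases Finset.mem_union.1 hA with h | h
    · exact hproper A (Finset.mem_sdiff.1 h).1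
    · exact hd A h
  · intro g
    obtain ⟨A, hA, hgA⟩ := hcover g
    by_cases hAT : A ∈ 𝒯
    · obtain ⟨B, hB, hAB⟩ := hc A hAT
      exact ⟨B, Finset.mem_union_right _ hB, hAB hgA⟩
    · exact ⟨A, Finset.mem_union_left _ (Finset.mem_sdiff.2 ⟨hA, hAT⟩), hgA⟩

end Cfsg.Agent.Lib.Helper37_Cover
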