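import Mathlib

/-!
# Nilpotent covers, second part (helper37)

`no_cover_of_pair` : if two elements `x₁ x₂` lie in no common nilpotent subgroup, while every
nilpotent subgroup containing one of them lies in a fixed proper subgroup `B`, then the group has
no nilpotent minimal cover.

`central_of_prime_order` / `mem_zpowers_of_prime_order` : in a nilpotent subgroup `A` of a finite
group whose order is not divisible by `p ^ 2`, an element `x ∈ A` of order `p` is central in `A`
and generates the only subgroup of order `p` of `A`.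

`no_cover_of_prime` : the resulting criterion.
-/

set_option autoImplicit false

namespace Cfsg.Agent.Lib.Helper37_Cover2

variable {G : Type*} [Group G]

/-- the statement "`G` has a nilpotent minimal cover" -/
def HasNilMinCover (G : Type*) [Group G] : Prop :=
  ∃ 𝓐 : Finset (Subgroup G), ((∀ A ∈ 𝓐, A ≠ ⊤) ∧ (∀ g : G, ∃ A ∈ 𝓐, g ∈ A)) ∧
    (∀ 𝓑 : Finset (Subgroup G), (∀ A ∈ 𝓑, A ≠ ⊤) ∧ (∀ g : G, ∃ A ∈ 𝓑, g ∈ A) →
      𝓐.card ≤ 𝓑.card) ∧ (∀ A ∈ 𝓐, Group.IsNilpotent ↥A)

theorem no_cover_of_pair (x₁ x₂ : G) (B : Subgroup G) (hB : B ≠ ⊤)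
    (h1 : ∀ A : Subgroup G, Group.IsNilpotent A → x₁ ∈ A → x₂ ∈ A → False)
    (h2 : ∀ A : Subgroup G, Group.IsNilpotent A → (x₁ ∈ A ∨ x₂ ∈ A) → A ≤ B) :
    ¬ HasNilMinCover G := by
  classical
  rintro ⟨𝓐, ⟨hproper, hcover⟩, hmin, hnil⟩
  obtain ⟨A₁, hA₁, hx₁⟩ := hcover x₁
  obtain ⟨A₂, hA₂, hx₂⟩ := hcover x₂
  have hne : A₁ ≠ A₂ := by
    rintro rfl
    exact h1 A₁ (hnil A₁ hA₁) hx₁ hx₂
  set 𝒮 := 𝓐.filter (fun A => A ≤ B) with h𝒮
  have hsub : 𝒮 ⊆ 𝓐 := Finset.filter_subset _ _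
  have h2le : 2 ≤ 𝒮.card := by
    have hs : ({A₁, A₂} : Finset (Subgroup G)) ⊆ 𝒮 := by
      intro A hA
      rcases Finset.mem_insert.1 hA with rfl | hA
      · exact Finset.mem_filter.2 ⟨hA₁, h2 _ (hnil _ hA₁) (Or.inl hx₁)⟩
      · rw [Finset.mem_singleton] at hA
        subst hA
        exact Finset.mem_filter.2 ⟨hA₂, h2 _ (hnil _ hA₂) (Or.inr hx₂)⟩
    have := Finset.card_le_card hs
    rwa [Finset.card_pair hne] at this
  have h𝓑 := hmin ((𝓐 \ 𝒮) ∪ {B}) ⟨?_, ?_⟩
  · have h1' : ((𝓐 \ 𝒮) ∪ {B}).card ≤ (𝓐 \ 𝒮).card + ({B} : Finset (Subgroup G)).card :=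
      Finset.card_union_le _ _
    have h3 : (𝓐 \ 𝒮).card = 𝓐.card - 𝒮.card := Finset.card_sdiff_of_subset hsub
    have h4 : 𝒮.card ≤ 𝓐.card := Finset.card_le_card hsub
    rw [Finset.card_singleton] at h1'
    omega
  · intro A hA
    rcases Finset.mem_union.1 hA with h | h
    · exact hproper A (Finset.mem_sdiff.1 h).1
    · rw [Finset.mem_singleton] at h
      rw [h]
      exact hB
  · intro g
    obtain ⟨A, hA, hgA⟩ := hcover g
    by_cases hAB : A ≤ B
    · exact ⟨B, Finset.mem_union_right _ (Finset.mem_singleton_self B), hAB hgA⟩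
    · refine ⟨A, Finset.mem_union_left _ (Finset.mem_sdiff.2 ⟨hA, ?_⟩), hgA⟩
      intro h
      exact hAB (Finset.mem_filter.1 h).2

section prime

variable [Finite G] {p : ℕ} [hp : Fact p.Prime]

/-- In a finite nilpotent group `A` with `p ^ 2 ∤ |A|`, the subgroup generated by an element of
order `p` contains all elements of order `p`. -/
theorem mem_zpowers_of_orderOf_eq {A : Type*} [Group A] [Finite A] (hA : Group.IsNilpotent A)
    (hp2 : ¬ p ^ 2 ∣ Nat.card A) (x y : A) (hx : orderOf x = p) (hy : orderOf y = p) :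
    y ∈ Subgroup.zpowers x := by
  have hPx : IsPGroup p (Subgroup.zpowers x) := by
    rw [IsPGroup.iff_card]
    exact ⟨1, by rw [Nat.card_zpowers, hx, pow_one]⟩
  have hPy : IsPGroup p (Subgroup.zpowers y) := by
    rw [IsPGroup.iff_card]
    exact ⟨1, by rw [Nat.card_zpowers, hy, pow_one]⟩
  obtain ⟨Q, hQ⟩ := hPx.exists_le_sylow
  have hQn : (Q : Subgroup A).Normal :=
    (Group.isNilpotent_of_finite_tfae (G := A)).out 0 3 rfl rfl |>.mp hA p hp Q
  obtain ⟨k, hk⟩ := IsPGroup.iff_card.1 Q.2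
  have hk1 : k ≤ 1 := by
    by_contra hk2
    rw [not_le] at hk2
    apply hp2
    have : p ^ 2 ∣ p ^ k := pow_dvd_pow p hk2
    exact this.trans (hk ▸ Subgroup.card_subgroup_dvd_card (Q : Subgroup A))
  have hcard : Nat.card (Q : Subgroup A) ≤ Nat.card (Subgroup.zpowers x) := by
    rw [hk, Nat.card_zpowers, hx]
    calc p ^ k ≤ p ^ 1 := Nat.pow_le_pow_right hp.out.pos hk1
      _ = p := pow_one p
  have hQeq : Subgroup.zpowers x = (Q : Subgroup A) :=
    Subgroup.eq_of_le_of_card_ge hQ hcard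
  obtain ⟨Q', hQ'⟩ := hPy.exists_le_sylow
  have := Sylow.unique_of_normal Q hQn
  have : Q' = Q := Subsingleton.elim _ _
  rw [hQeq, ← this]
  exact hQ' (Subgroup.mem_zpowers y)

/-- In a finite nilpotent group `A` with `p ^ 2 ∤ |A|`, an element of order `p` is central. -/
theorem commute_of_orderOf_eq {A : Type*} [Group A] [Finite A] (hA : Group.IsNilpotent A)
    (hp2 : ¬ p ^ 2 ∣ Nat.card A) (x : A) (hx : orderOf x = p) (a : A) : a * x = x * a := by
  obtain ⟨N, hN⟩ := hA.nilpotent'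
  classical
  have hex : ∃ n, x ∈ Subgroup.upperCentralSeries A n := ⟨N, by rw [hN]; trivial⟩
  have hx1 : x ≠ 1 := by
    intro h
    rw [h, orderOf_one] at hx
    exact hp.out.one_lt.ne hx
  obtain ⟨m, hm⟩ : ∃ m, Nat.find hex = m + 1 := by
    rcases h : Nat.find hex with _ | m
    · exfalso
      have := Nat.find_spec hex
      rw [h, Subgroup.upperCentralSeries_zero, Subgroup.mem_bot] at this
      exact hx1 this
    · exact ⟨m, rfl⟩
  have hxm : x ∈ Subgroup.upperCentralSeries A (m + 1) := hm ▸ Nat.find_spec hex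
  have hxm' : x ∉ Subgroup.upperCentralSeries A m := Nat.find_min hex (by omega)
  have hc := (Subgroup.mem_upperCentralSeries_succ_iff).1 hxm a
  -- the commutator has order dividing `p`
  set c := x * a * x⁻¹ * a⁻¹ with hcdef
  have hconj : orderOf (a * x⁻¹ * a⁻¹) = p := by
    have : a * x⁻¹ * a⁻¹ = MulAut.conj a x⁻¹ := by simp [MulAut.conj_apply]
    rw [this, MulEquiv.orderOf_eq, orderOf_inv, hx]
  have hmem : a * x⁻¹ * a⁻¹ ∈ Subgroup.zpowers x :=
    mem_zpowers_of_orderOf_eq hA hp2 x _ hx hconj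
  have hcz : c ∈ Subgroup.zpowers x := by
    have : c = x * (a * x⁻¹ * a⁻¹) := by simp only [hcdef]; group
    rw [this]
    exact Subgroup.mul_mem _ (Subgroup.mem_zpowers x) hmem
  by_cases hc1 : c = 1
  · have : x * a = a * x := by
      have h := hc1
      simp only [hcdef] at h
      have h2 : x * a * x⁻¹ = a := by
        rw [mul_inv_eq_one] at h
        exact h
      rw [mul_inv_eq_iff_eq_mul] at h2
      exact h2
    exact this.symm
  · exfalso
    apply hxm'
    -- `x` is a power of `c`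
    have hcardz : Nat.card (Subgroup.zpowers x) = p := by rw [Nat.card_zpowers, hx]
    have htop := zpowers_eq_top_of_prime_card (G := Subgroup.zpowers x) hcardz
      (g := ⟨c, hcz⟩) (by
        intro h
        apply hc1
        exact congrArg Subtype.val h)
    have hxin : (⟨x, Subgroup.mem_zpowers x⟩ : Subgroup.zpowers x) ∈
        Subgroup.zpowers (⟨c, hcz⟩ : Subgroup.zpowers x) := by
      rw [htop]; trivial
    obtain ⟨j, hj⟩ := Subgroup.mem_zpowers_iff.1 hxin
    have hj' : c ^ j = x := by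
      have := congrArg Subtype.val hj
      simpa using this
    rw [← hj']
    exact Subgroup.zpow_mem _ hc j

/-- criterion: two non-commuting elements of prime order `p`, `p ^ 2 ∤ |G|`, whose centralisers
lie in one proper subgroup. -/
theorem no_cover_of_prime (hp2 : ¬ p ^ 2 ∣ Nat.card G) (x₁ x₂ : G) (h₁ : orderOf x₁ = p)
    (h₂ : orderOf x₂ = p) (hne : x₁ * x₂ ≠ x₂ * x₁) (B : Subgroup G) (hB : B ≠ ⊤)
    (hB1 : ∀ g : G, g * x₁ = x₁ * g → g ∈ B) (hB2 : ∀ g : G, g * x₂ = x₂ * g → g ∈ B) :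
    ¬ HasNilMinCover G := by
  have hp2A : ∀ A : Subgroup G, ¬ p ^ 2 ∣ Nat.card A := fun A h =>
    hp2 (h.trans (Subgroup.card_subgroup_dvd_card A))
  have hord : ∀ (A : Subgroup G) (x : G) (hx : x ∈ A), orderOf x = p →
      orderOf (⟨x, hx⟩ : A) = p := by
    intro A x hx h
    rw [← h]
    exact (Subgroup.orderOf_mk x hx)
  apply no_cover_of_pair x₁ x₂ B hB
  · intro A hA hx₁ hx₂
    apply hne
    have := commute_of_orderOf_eq hA (hp2A A) ⟨x₂, hx₂⟩ (hord A x₂ hx₂ h₂) ⟨x₁, hx₁⟩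
    exact congrArg Subtype.val this
  · intro A hA hx a ha
    rcases hx with hx | hx
    · apply hB1
      have := commute_of_orderOf_eq hA (hp2A A) ⟨x₁, hx⟩ (hord A x₁ hx h₁) ⟨a, ha⟩
      exact congrArg Subtype.val this
    · apply hB2
      have := commute_of_orderOf_eq hA (hp2A A) ⟨x₂, hx⟩ (hord A x₂ hx h₂) ⟨a, ha⟩
      exact congrArg Subtype.val this

end prime

end Cfsg.Agent.Lib.Helper37_Cover2
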