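import Mathlib
import Cfsg.Agent.Lib.Helper37_Cover2

/-!
# Nilpotent covers, third part (helper37)

`no_cover_of_family` : a family `x : ι → G` of elements, no two of which lie in a common nilpotent
subgroup, such that every nilpotent subgroup containing some `x i` is covered (as a set) by a
family `ℬ` of fewer than `|ι|` proper subgroups: then `G` has no nilpotent minimal cover.

`hasNilMinCover_of_mulEquiv` : transfer along a group isomorphism.
-/

set_option autoImplicit false

namespace Cfsg.Agent.Lib.Helper37_Cover3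

open Cfsg.Agent.Lib.Helper37_Cover2

variable {G : Type*} [Group G]

theorem no_cover_of_family {ι : Type*} [Fintype ι] (x : ι → G) (ℬ : Finset (Subgroup G))
    (hℬ : ∀ B ∈ ℬ, B ≠ ⊤)
    (h1 : ∀ A : Subgroup G, Group.IsNilpotent A → ∀ i j, x i ∈ A → x j ∈ A → i = j)
    (h2 : ∀ A : Subgroup G, Group.IsNilpotent A → ∀ i, x i ∈ A → ∀ g ∈ A, ∃ B ∈ ℬ, g ∈ B)
    (h3 : ℬ.card < Fintype.card ι) : ¬ HasNilMinCover G := by
  classical
  rintro ⟨𝓐, ⟨hproper, hcover⟩, hmin, hnil⟩
  set 𝒮 := 𝓐.filter (fun A => ∃ i, x i ∈ A) with h𝒮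
  have hsub : 𝒮 ⊆ 𝓐 := Finset.filter_subset _ _
  choose f hf hxf using fun i => hcover (x i)
  have hinj : Function.Injective f := by
    intro i j hij
    exact h1 (f i) (hnil _ (hf i)) i j (hxf i) (hij ▸ hxf j)
  have hcard : Fintype.card ι ≤ 𝒮.card := by
    have : (Finset.univ.image f) ⊆ 𝒮 := by
      intro A hA
      obtain ⟨i, _, rfl⟩ := Finset.mem_image.1 hA
      exact Finset.mem_filter.2 ⟨hf i, i, hxf i⟩
    have h := Finset.card_le_card this
    rwa [Finset.card_image_of_injective _ hinj, Finset.card_univ] at h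
  have h𝓑 := hmin ((𝓐 \ 𝒮) ∪ ℬ) ⟨?_, ?_⟩
  · have h1' : ((𝓐 \ 𝒮) ∪ ℬ).card ≤ (𝓐 \ 𝒮).card + ℬ.card := Finset.card_union_le _ _
    have h3' : (𝓐 \ 𝒮).card = 𝓐.card - 𝒮.card := Finset.card_sdiff_of_subset hsub
    have h4 : 𝒮.card ≤ 𝓐.card := Finset.card_le_card hsub
    omega
  · intro A hA
    rcases Finset.mem_union.1 hA with h | h
    · exact hproper A (Finset.mem_sdiff.1 h).1
    · exact hℬ A h
  · intro g
    obtain ⟨A, hA, hgA⟩ := hcover g
    by_cases hAS : A ∈ 𝒮
    · obtain ⟨i, hi⟩ := (Finset.mem_filter.1 hAS).2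
      obtain ⟨B, hB, hgB⟩ := h2 A (hnil A hA) i hi g hgA
      exact ⟨B, Finset.mem_union_right _ hB, hgB⟩
    · exact ⟨A, Finset.mem_union_left _ (Finset.mem_sdiff.2 ⟨hA, hAS⟩), hgA⟩

/-- transfer of nilpotent minimal covers along an isomorphism -/
theorem hasNilMinCover_of_mulEquiv {H : Type*} [Group H] (e : G ≃* H) (h : HasNilMinCover G) :
    HasNilMinCover H := by
  classical
  obtain ⟨𝓐, ⟨hproper, hcover⟩, hmin, hnil⟩ := h
  have hmapinj : Function.Injective (fun A : Subgroup G => A.map e.toMonoidHom) :=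
    Subgroup.map_injective e.injective
  have hcomapinj : Function.Injective (fun B : Subgroup H => B.comap e.toMonoidHom) :=
    Subgroup.comap_injective e.surjective
  refine ⟨𝓐.image (fun A => A.map e.toMonoidHom), ⟨?_, ?_⟩, ?_, ?_⟩
  · intro B hB
    obtain ⟨A, hA, rfl⟩ := Finset.mem_image.1 hB
    intro htop
    apply hproper A hA
    rw [eq_top_iff]
    intro g _
    have : e g ∈ A.map e.toMonoidHom := by rw [htop]; trivial
    obtain ⟨a, ha, hag⟩ := Subgroup.mem_map.1 this
    have : a = g := e.injective hag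
    rwa [← this]
  · intro g
    obtain ⟨A, hA, hgA⟩ := hcover (e.symm g)
    refine ⟨A.map e.toMonoidHom, Finset.mem_image_of_mem _ hA, ?_⟩
    exact Subgroup.mem_map.2 ⟨e.symm g, hgA, e.apply_symm_apply g⟩
  · intro 𝓑 h𝓑
    have := hmin (𝓑.image (fun B => B.comap e.toMonoidHom)) ⟨?_, ?_⟩
    · rw [Finset.card_image_of_injective _ hmapinj]
      rw [Finset.card_image_of_injective _ hcomapinj] at this
      exact this
    · intro A hA
      obtain ⟨B, hB, rfl⟩ := Finset.mem_image.1 hA
      intro htop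
      apply h𝓑.1 B hB
      rw [eq_top_iff]
      intro g _
      have : e.symm g ∈ B.comap e.toMonoidHom := by rw [htop]; trivial
      rw [Subgroup.mem_comap] at this
      simpa using this
    · intro g
      obtain ⟨B, hB, hgB⟩ := h𝓑.2 (e g)
      exact ⟨B.comap e.toMonoidHom, Finset.mem_image_of_mem _ hB, hgB⟩
  · intro B hB
    obtain ⟨A, hA, rfl⟩ := Finset.mem_image.1 hB
    have := hnil A hA
    exact (Group.isNilpotent_congr (A.equivMapOfInjective e.toMonoidHom e.injective)).1 this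

end Cfsg.Agent.Lib.Helper37_Cover3
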