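import Mathlib

/-
Helper37_FixAvg: the number of fixed points is not constant on a product of two nontrivial
conjugacy classes of A_n (n >= 5); averaging argument over A_n.
-/
open Equiv Finset

namespace Cfsg.Agent.Lib.Helper37_FixAvg

/-- fibres of a map out of a finite group that are permuted transitively by left translation
all have the same size -/
lemma card_fiber_mul {G Y : Type*} [Group G] [Fintype G] [DecidableEq Y] (t : Finset Y)
    (φ : G → Y) (hmem : ∀ g, φ g ∈ t)
    (htr : ∀ x ∈ t, ∀ y ∈ t, ∃ k : G, ∀ g, φ g = x → φ (k * g) = y) {y : Y} (hy : y ∈ t) :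
    (univ.filter fun g => φ g = y).card * t.card = Fintype.card G := by
  classical
  have hle : ∀ x ∈ t, ∀ y ∈ t, (univ.filter fun g => φ g = x).card ≤
      (univ.filter fun g => φ g = y).card := by
    intro x hx y hy
    obtain ⟨k, hk⟩ := htr x hx y hy
    apply Finset.card_le_card_of_injOn (fun g => k * g)
    · intro g hg
      simp only [mem_coe, mem_filter, mem_univ, true_and] at hg ⊢
      exact hk g hg
    · intro g _ g' _ h
      exact mul_left_cancel h
  have heq : ∀ x ∈ t, (univ.filter fun g => φ g = x).card = (univ.filter fun g => φ g = y).card :=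
    fun x hx => le_antisymm (hle x hx y hy) (hle y hy x hx)
  have h1 : (univ : Finset G).card = ∑ b ∈ t, (univ.filter fun g => φ g = b).card :=
    Finset.card_eq_sum_card_fiberwise (fun g _ => hmem g)
  rw [← Finset.card_univ, h1, Finset.sum_congr rfl heq, Finset.sum_const, smul_eq_mul, mul_comm]

lemma exists_two_not_mem {n : ℕ} (s : Finset (Fin n)) (hs : s.card + 2 ≤ n) :
    ∃ x y : Fin n, x ≠ y ∧ x ∉ s ∧ y ∉ s := by
  have h1 : 1 < sᶜ.card := by
    rw [Finset.card_compl, Fintype.card_fin]; omega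
  obtain ⟨x, hx, y, hy, hxy⟩ := Finset.one_lt_card.mp h1
  exact ⟨x, y, hxy, by simpa using hx, by simpa using hy⟩

/-- parity fix by precomposition -/
lemma exists_alt_of_swap {n : ℕ} (P : Perm (Fin n) → Prop) (h₀ : Perm (Fin n)) {x y : Fin n}
    (hxy : x ≠ y) (h1 : P h₀) (h2 : P (h₀ * swap x y)) :
    ∃ h : Perm (Fin n), h ∈ alternatingGroup (Fin n) ∧ P h := by
  rcases Int.units_eq_one_or (Perm.sign h₀) with h | h
  · exact ⟨h₀, by simpa [Perm.mem_alternatingGroup] using h, h1⟩
  · refine ⟨h₀ * swap x y, ?_, h2⟩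
    simp [Perm.mem_alternatingGroup, h, Perm.sign_swap hxy]

/-- parity fix by postcomposition -/
lemma exists_alt_of_swap' {n : ℕ} (P : Perm (Fin n) → Prop) (h₀ : Perm (Fin n)) {x y : Fin n}
    (hxy : x ≠ y) (h1 : P h₀) (h2 : P (swap x y * h₀)) :
    ∃ h : Perm (Fin n), h ∈ alternatingGroup (Fin n) ∧ P h := by
  rcases Int.units_eq_one_or (Perm.sign h₀) with h | h
  · exact ⟨h₀, by simpa [Perm.mem_alternatingGroup] using h, h1⟩
  · refine ⟨swap x y * h₀, ?_, h2⟩
    simp [Perm.mem_alternatingGroup, h, Perm.sign_swap hxy]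

lemma exists_alt_extending {n : ℕ} {ι : Type*} [Fintype ι] (f g : ι → Fin n)
    (hf : Function.Injective f) (hg : Function.Injective g)
    (hcard : Fintype.card ι + 2 ≤ n) :
    ∃ h : Perm (Fin n), h ∈ alternatingGroup (Fin n) ∧ ∀ i, h (f i) = g i := by
  classical
  obtain ⟨h₀, hh₀⟩ := Equiv.Perm.exists_extending_pair f g hf hg
  obtain ⟨x, y, hxy, hx, hy⟩ := exists_two_not_mem (univ.image f)
    (by rw [Finset.card_image_of_injective _ hf, Finset.card_univ]; exact hcard)
  refine exists_alt_of_swap (fun h => ∀ i, h (f i) = g i) h₀ hxy hh₀ ?_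
  intro i
  have h1 : f i ≠ x := fun h => hx (by rw [← h]; exact mem_image_of_mem f (mem_univ i))
  have h2 : f i ≠ y := fun h => hy (by rw [← h]; exact mem_image_of_mem f (mem_univ i))
  simp [Perm.mul_apply, swap_apply_of_ne_of_ne h1 h2, hh₀ i]

lemma alt_trans₂ {n : ℕ} (hn : 4 ≤ n) {w w' z z' : Fin n} (hw : w ≠ w') (hz : z ≠ z') :
    ∃ g : Perm (Fin n), g ∈ alternatingGroup (Fin n) ∧ g w = z ∧ g w' = z' := by
  obtain ⟨h, hh, hf⟩ := exists_alt_extending (ι := Fin 2) ![w, w'] ![z, z']
    (by intro i j h; fin_cases i <;> fin_cases j <;> simp_all)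
    (by intro i j h; fin_cases i <;> fin_cases j <;> simp_all) (by simpa using hn)
  exact ⟨h, hh, by simpa using hf 0, by simpa using hf 1⟩

lemma alt_trans₁ {n : ℕ} (hn : 3 ≤ n) (w z : Fin n) :
    ∃ g : Perm (Fin n), g ∈ alternatingGroup (Fin n) ∧ g w = z := by
  obtain ⟨h, hh, hf⟩ := exists_alt_extending (ι := Fin 1) ![w] ![z]
    (by intro i j h; fin_cases i; fin_cases j; rfl)
    (by intro i j h; fin_cases i; fin_cases j; rfl) (by simpa using hn)
  exact ⟨h, hh, by simpa using hf 0⟩


variable {n : ℕ}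

/-- number of fixed points -/
def fx (x : Perm (Fin n)) : ℕ := (univ.filter fun z => x z = z).card

local notation "An" => alternatingGroup (Fin n)

lemma count₁ (hn : 3 ≤ n) (w z : Fin n) :
    (univ.filter fun h : An => (h : Perm (Fin n)) w = z).card * n = Fintype.card An := by
  have := card_fiber_mul (G := An) (univ : Finset (Fin n)) (fun h => (h : Perm (Fin n)) w)
    (fun _ => mem_univ _)
    (by
      intro x _ y _
      obtain ⟨k, hk, hkx⟩ := alt_trans₁ hn x y
      refine ⟨⟨k, hk⟩, fun g hg => ?_⟩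
      simp only [Subgroup.coe_mul, Perm.mul_apply]
      rw [hg]; exact hkx) (mem_univ z)
  simpa using this

lemma count₂ (hn : 4 ≤ n) {w w' z z' : Fin n} (hw : w ≠ w') (hz : z ≠ z') :
    (univ.filter fun h : An => (h : Perm (Fin n)) w = z ∧ (h : Perm (Fin n)) w' = z').card
      * (n * (n - 1)) = Fintype.card An := by
  have := card_fiber_mul (G := An) ((univ : Finset (Fin n)).offDiag)
    (fun h => ((h : Perm (Fin n)) w, (h : Perm (Fin n)) w'))
    (fun h => by simpa using hw)
    (by
      rintro ⟨x, x'⟩ hx ⟨y, y'⟩ hy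
      simp only [mem_offDiag, mem_univ, true_and] at hx hy
      obtain ⟨k, hk, hkx, hkx'⟩ := alt_trans₂ hn hx hy
      refine ⟨⟨k, hk⟩, fun g hg => ?_⟩
      simp only [Prod.mk.injEq] at hg
      simp only [Subgroup.coe_mul, Perm.mul_apply, Prod.mk.injEq]
      rw [hg.1, hg.2]; exact ⟨hkx, hkx'⟩) (y := (z, z')) (by simpa using hz)
  rw [Finset.offDiag_card, Finset.card_univ, Fintype.card_fin] at this
  rw [← this]
  congr 1
  · congr 1
    ext h
    simp
  · cases n with
    | zero => rfl
    | succ m => simp [Nat.mul_succ]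


lemma fx_mul_conj (a b h : Perm (Fin n)) :
    fx (a * (h * b * h⁻¹)) = (univ.filter fun w => a (h (b w)) = h w).card := by
  unfold fx
  symm
  apply Finset.card_bij (fun w _ => h w)
  · intro w hw
    simp only [mem_filter, mem_univ, true_and] at hw ⊢
    simp [Perm.mul_apply, hw]
  · intro w _ w' _ hww
    exact h.injective hww
  · intro z hz
    simp only [mem_filter, mem_univ, true_and] at hz
    refine ⟨h⁻¹ z, ?_, by simp⟩
    simp only [mem_filter, mem_univ, true_and]
    simpa [Perm.mul_apply] using hz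

lemma card_moved (a : Perm (Fin n)) : (univ.filter fun z => a z ≠ z).card = n - fx a := by
  have := Finset.card_filter_add_card_filter_not (s := (univ : Finset (Fin n))) (fun z => a z = z)
  rw [Finset.card_univ, Fintype.card_fin] at this
  unfold fx
  show (univ.filter fun z => ¬ a z = z).card = _
  omega

lemma fx_le (a : Perm (Fin n)) : fx a ≤ n := by
  unfold fx
  calc _ ≤ (univ : Finset (Fin n)).card := Finset.card_filter_le _ _
    _ = n := by simp

lemma count_fixed (hn : 3 ≤ n) (a : Perm (Fin n)) (w : Fin n) :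
    (univ.filter fun h : An => a ((h : Perm (Fin n)) w) = (h : Perm (Fin n)) w).card * n
      = fx a * Fintype.card An := by
  classical
  set s := univ.filter fun h : An => a ((h : Perm (Fin n)) w) = (h : Perm (Fin n)) w with hs
  have h1 : s.card = ∑ z ∈ univ.filter (fun z => a z = z),
      (s.filter fun h : An => (h : Perm (Fin n)) w = z).card :=
    Finset.card_eq_sum_card_fiberwise (s := s) (t := univ.filter (fun z => a z = z))
      (f := fun h : An => (h : Perm (Fin n)) w) (fun h hh => by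
      simp only [hs, Finset.mem_coe, mem_filter, mem_univ, true_and] at hh ⊢
      exact hh)
  have h2 : ∀ z ∈ univ.filter (fun z => a z = z),
      (s.filter fun h : An => (h : Perm (Fin n)) w = z).card * n = Fintype.card An := by
    intro z hz
    simp only [mem_filter, mem_univ, true_and] at hz
    rw [← count₁ hn w z]
    congr 2
    ext h
    simp only [hs, mem_filter, mem_univ, true_and]
    constructor
    · exact fun hh => hh.2
    · intro hh
      exact ⟨by rw [hh, hz], hh⟩
  rw [h1, Finset.sum_mul, Finset.sum_congr rfl h2, Finset.sum_const, smul_eq_mul]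
  rfl

lemma count_moved (hn : 4 ≤ n) (a : Perm (Fin n)) {w w' : Fin n} (hw : w' ≠ w) :
    (univ.filter fun h : An => a ((h : Perm (Fin n)) w') = (h : Perm (Fin n)) w).card
      * (n * (n - 1)) = (n - fx a) * Fintype.card An := by
  classical
  set s := univ.filter fun h : An => a ((h : Perm (Fin n)) w') = (h : Perm (Fin n)) w with hs
  have h1 : s.card = ∑ z ∈ univ.filter (fun z => a z ≠ z),
      (s.filter fun h : An => (h : Perm (Fin n)) w' = z).card :=
    Finset.card_eq_sum_card_fiberwise (s := s) (t := univ.filter (fun z => a z ≠ z))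
      (f := fun h : An => (h : Perm (Fin n)) w') (fun h hh => by
      simp only [hs, Finset.mem_coe, mem_filter, mem_univ, true_and] at hh ⊢
      rw [hh]
      intro h3
      exact hw ((h : Perm (Fin n)).injective h3.symm))
  have h2 : ∀ z ∈ univ.filter (fun z => a z ≠ z),
      (s.filter fun h : An => (h : Perm (Fin n)) w' = z).card * (n * (n - 1)) = Fintype.card An := by
    intro z hz
    simp only [mem_filter, mem_univ, true_and] at hz
    rw [← count₂ hn hw (Ne.symm hz)]
    congr 2
    ext h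
    simp only [hs, mem_filter, mem_univ, true_and]
    constructor
    · rintro ⟨h3, h4⟩
      exact ⟨h4, by rw [← h3, h4]⟩
    · rintro ⟨h3, h4⟩
      exact ⟨by rw [h3, h4], h3⟩
  rw [h1, Finset.sum_mul, Finset.sum_congr rfl h2, Finset.sum_const, smul_eq_mul, card_moved]

/-- the averaging identity -/
lemma sum_fx (hn : 4 ≤ n) (a b : Perm (Fin n)) :
    (∑ h : An, fx (a * ((h : Perm (Fin n)) * b * (h : Perm (Fin n))⁻¹))) * (n * (n - 1)) =
      Fintype.card An * (fx a * fx b * (n - 1) + (n - fx a) * (n - fx b)) := by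
  classical
  have h1 : (∑ h : An, fx (a * ((h : Perm (Fin n)) * b * (h : Perm (Fin n))⁻¹))) =
      ∑ w : Fin n, (univ.filter fun h : An =>
        a ((h : Perm (Fin n)) (b w)) = (h : Perm (Fin n)) w).card := by
    simp_rw [fx_mul_conj, Finset.card_filter]
    exact Finset.sum_comm
  rw [h1, Finset.sum_mul]
  rw [← Finset.sum_filter_add_sum_filter_not univ (fun w => b w = w)]
  have e1 : ∀ w ∈ univ.filter (fun w => b w = w),
      (univ.filter fun h : An => a ((h : Perm (Fin n)) (b w)) = (h : Perm (Fin n)) w).card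
        * (n * (n - 1)) = fx a * Fintype.card An * (n - 1) := by
    intro w hw
    simp only [mem_filter, mem_univ, true_and] at hw
    rw [hw, ← mul_assoc, count_fixed (by omega) a w]
  have e2 : ∀ w ∈ univ.filter (fun w => ¬ b w = w),
      (univ.filter fun h : An => a ((h : Perm (Fin n)) (b w)) = (h : Perm (Fin n)) w).card
        * (n * (n - 1)) = (n - fx a) * Fintype.card An := by
    intro w hw
    simp only [mem_filter, mem_univ, true_and] at hw
    exact count_moved hn a hw
  rw [Finset.sum_congr rfl e1, Finset.sum_congr rfl e2, Finset.sum_const, Finset.sum_const,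
    smul_eq_mul, smul_eq_mul, card_moved b]
  change fx b * _ + _ = _
  ring


/-- extend a map by two extra values -/
def ext2 {α β : Type*} (φ : α → β) (u v : β) : Option (Option α) → β
  | none => u
  | some none => v
  | some (some x) => φ x

lemma ext2_injective {α β : Type*} {φ : α → β} (hφ : Function.Injective φ) {u v : β} (huv : u ≠ v)
    (hu : ∀ x, φ x ≠ u) (hv : ∀ x, φ x ≠ v) : Function.Injective (ext2 φ u v) := by
  rintro (_ | _ | x) (_ | _ | y) h
  · rfl
  · exact absurd h huv
  · exact absurd h.symm (hu y)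
  · exact absurd h.symm huv
  · rfl
  · exact absurd h.symm (hv y)
  · exact absurd h (hu x)
  · exact absurd h (hv x)
  · exact congrArg _ (congrArg _ (hφ h))

lemma exists_moved {a : Perm (Fin n)} (ha : a ≠ 1) : ∃ z, a z ≠ z := by
  by_contra hcon
  push Not at hcon
  exact ha (Equiv.ext hcon)

/-- a conjugate with many fixed points of the product -/
lemma exists_big (hn : 5 ≤ n) (a b : Perm (Fin n)) (ha : a ≠ 1) (hb : b ≠ 1) :
    ∃ h : Perm (Fin n), h ∈ An ∧ min (fx a) (fx b) + 1 ≤ fx (a * (h * b * h⁻¹)) := by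
  classical
  obtain ⟨z₀, hz₀⟩ := exists_moved ha
  obtain ⟨w₀, hw₀⟩ := exists_moved hb
  set γ := min (fx a) (fx b) with hγ
  obtain ⟨Ta, hTa, hTac⟩ := Finset.exists_subset_card_eq
    (s := univ.filter fun z => a z = z) (n := γ) (min_le_left _ _)
  obtain ⟨Tb, hTb, hTbc⟩ := Finset.exists_subset_card_eq
    (s := univ.filter fun z => b z = z) (n := γ) (min_le_right _ _)
  have hTa' : ∀ t ∈ Ta, a t = t := fun t ht => by simpa using hTa ht
  have hTb' : ∀ t ∈ Tb, b t = t := fun t ht => by simpa using hTb ht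
  have hw₀T : w₀ ∉ Tb := fun h => hw₀ (hTb' _ h)
  have hbw₀T : b w₀ ∉ Tb := fun h => hw₀ (b.injective (hTb' _ h))
  have haz₀T : a z₀ ∉ Ta := fun h => hz₀ (a.injective (hTa' _ h))
  have hz₀T : z₀ ∉ Ta := fun h => hz₀ (hTa' _ h)
  let e : Tb ≃ Ta := Fintype.equivOfCardEq (by simp [hTac, hTbc])
  let f : Option (Option Tb) → Fin n := ext2 (fun t => t.1) w₀ (b w₀)
  let g : Option (Option Tb) → Fin n := ext2 (fun t => (e t).1) (a z₀) z₀
  have hf : Function.Injective f :=
    ext2_injective Subtype.val_injective (Ne.symm hw₀)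
      (fun t h => hw₀T (h ▸ t.2)) (fun t h => hbw₀T (h ▸ t.2))
  have hg : Function.Injective g :=
    ext2_injective (fun t t' h => e.injective (Subtype.ext h)) hz₀
      (fun t h => haz₀T (h ▸ (e t).2)) (fun t h => hz₀T (h ▸ (e t).2))
  obtain ⟨h₀, hh₀⟩ := Equiv.Perm.exists_extending_pair f g hf hg
  let P : Perm (Fin n) → Prop := fun h =>
    (∀ t ∈ Tb, a (h t) = h t) ∧ h w₀ = a z₀ ∧ h (b w₀) = z₀
  have hP₀ : P h₀ := by
    refine ⟨fun t ht => ?_, ?_, ?_⟩
    · have := hh₀ (some (some ⟨t, ht⟩))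
      simp only [f, g, ext2] at this
      rw [this]
      exact hTa' _ (e ⟨t, ht⟩).2
    · simpa [f, g, ext2] using hh₀ none
    · simpa [f, g, ext2] using hh₀ (some none)
  have hfin : ∀ h, P h → γ + 1 ≤ fx (a * (h * b * h⁻¹)) := by
    rintro h ⟨h1, h2, h3⟩
    rw [fx_mul_conj]
    have hsub : insert w₀ Tb ⊆ univ.filter fun w => a (h (b w)) = h w := by
      intro w hw
      simp only [mem_filter, mem_univ, true_and]
      rcases Finset.mem_insert.mp hw with rfl | hw
      · rw [h3, h2]
      · rw [hTb' w hw]; exact h1 w hw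
    calc γ + 1 = (insert w₀ Tb).card := by rw [Finset.card_insert_of_notMem hw₀T, hTbc]
      _ ≤ _ := Finset.card_le_card hsub
  suffices ∃ h : Perm (Fin n), h ∈ An ∧ P h by
    obtain ⟨h, hh, hP⟩ := this
    exact ⟨h, hh, hfin h hP⟩
  -- parity fix
  by_cases h2 : 2 ≤ γ
  · obtain ⟨x, hx, y, hy, hxy⟩ := Finset.one_lt_card.mp (by rw [hTbc]; exact h2 : 1 < Tb.card)
    refine exists_alt_of_swap P h₀ hxy hP₀ ?_
    refine ⟨fun t ht => ?_, ?_, ?_⟩
    · have : swap x y t ∈ Tb := by
        by_cases htx : t = x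
        · subst htx; simpa using hy
        · by_cases hty : t = y
          · subst hty; simpa using hx
          · rwa [swap_apply_of_ne_of_ne htx hty]
      simpa [Perm.mul_apply] using hP₀.1 _ this
    · have h1 : w₀ ≠ x := fun h => hw₀T (h ▸ hx)
      have h2 : w₀ ≠ y := fun h => hw₀T (h ▸ hy)
      simpa [Perm.mul_apply, swap_apply_of_ne_of_ne h1 h2] using hP₀.2.1
    · have h1 : b w₀ ≠ x := fun h => hbw₀T (h ▸ hx)
      have h2 : b w₀ ≠ y := fun h => hbw₀T (h ▸ hy)
      simpa [Perm.mul_apply, swap_apply_of_ne_of_ne h1 h2] using hP₀.2.2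
  · obtain ⟨x, y, hxy, hx, hy⟩ := exists_two_not_mem (insert w₀ (insert (b w₀) Tb)) (by
      have := Finset.card_insert_le w₀ (insert (b w₀) Tb)
      have := Finset.card_insert_le (b w₀) Tb
      omega)
    simp only [Finset.mem_insert, not_or] at hx hy
    refine exists_alt_of_swap P h₀ hxy hP₀ ?_
    refine ⟨fun t ht => ?_, ?_, ?_⟩
    · have h1 : t ≠ x := fun h => hx.2.2 (h ▸ ht)
      have h2 : t ≠ y := fun h => hy.2.2 (h ▸ ht)
      simpa [Perm.mul_apply, swap_apply_of_ne_of_ne h1 h2] using hP₀.1 t ht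
    · simpa [Perm.mul_apply, swap_apply_of_ne_of_ne (Ne.symm hx.1) (Ne.symm hy.1)] using hP₀.2.1
    · simpa [Perm.mul_apply, swap_apply_of_ne_of_ne (Ne.symm hx.2.1) (Ne.symm hy.2.1)]
        using hP₀.2.2


/-- two aligned pairs -/
lemma exists_two (hn : 5 ≤ n) (a b : Perm (Fin n))
    (ha : 4 ≤ (univ.filter fun z => a z ≠ z).card)
    (hb : 4 ≤ (univ.filter fun w => b w ≠ w).card) :
    ∃ h : Perm (Fin n), h ∈ An ∧ 2 ≤ fx (a * (h * b * h⁻¹)) := by
  classical
  have hfin : ∀ h : Perm (Fin n), (∃ w w', w ≠ w' ∧ a (h (b w)) = h w ∧ a (h (b w')) = h w') →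
      2 ≤ fx (a * (h * b * h⁻¹)) := by
    rintro h ⟨w, w', hww, h1, h2⟩
    rw [fx_mul_conj]
    exact Finset.one_lt_card.mpr ⟨w, by simpa using h1, w', by simpa using h2, hww⟩
  by_cases hc : (∃ w, b (b w) ≠ w) ∧ (∃ z, a (a z) ≠ z)
  · -- three points
    obtain ⟨⟨w, hw⟩, ⟨z, hz⟩⟩ := hc
    have hw1 : b w ≠ w := fun h => hw (by rw [h, h])
    have hw2 : b (b w) ≠ b w := fun h => hw1 (b.injective h)
    have hz1 : a z ≠ z := fun h => hz (by rw [h, h])
    have hz2 : a (a z) ≠ a z := fun h => hz1 (a.injective h)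
    obtain ⟨h, hh, hf⟩ := exists_alt_extending (ι := Option (Option (Fin 1)))
      (ext2 (fun _ => b (b w)) w (b w)) (ext2 (fun _ => z) (a (a z)) (a z))
      (ext2_injective (fun i j _ => Subsingleton.elim i j) (Ne.symm hw1) (fun _ => hw)
        (fun _ => hw2))
      (ext2_injective (fun i j _ => Subsingleton.elim i j) hz2 (fun _ => Ne.symm hz)
        (fun _ => Ne.symm hz1)) (by simp; omega)
    have e1 : h w = a (a z) := by simpa [ext2] using hf none
    have e2 : h (b w) = a z := by simpa [ext2] using hf (some none)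
    have e3 : h (b (b w)) = z := by simpa [ext2] using hf (some (some 0))
    exact ⟨h, hh, hfin h ⟨w, b w, Ne.symm hw1, by rw [e2, e1], by rw [e3, e2]⟩⟩
  · -- four points
    have hc' : (∀ w, b (b w) = w) ∨ (∀ z, a (a z) = z) := by
      by_contra hcon
      push Not at hcon
      exact hc hcon
    -- choose points
    obtain ⟨w₁, hw₁⟩ : ∃ w, b w ≠ w := by
      obtain ⟨w, hw⟩ := Finset.card_pos.mp (by omega : 0 < (univ.filter fun w => b w ≠ w).card)
      exact ⟨w, by simpa using hw⟩
    obtain ⟨w₂, hw₂, hw₂'⟩ := Finset.exists_mem_notMem_of_card_lt_card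
      (s := {w₁, b w₁, b⁻¹ w₁}) (t := univ.filter fun w => b w ≠ w) (by
        have := Finset.card_le_three (a := w₁) (b := b w₁) (c := b⁻¹ w₁)
        omega)
    simp only [mem_filter, mem_univ, true_and] at hw₂
    simp only [Finset.mem_insert, Finset.mem_singleton, not_or] at hw₂'
    obtain ⟨z₁, hz₁⟩ : ∃ z, a z ≠ z := by
      obtain ⟨z, hz⟩ := Finset.card_pos.mp (by omega : 0 < (univ.filter fun z => a z ≠ z).card)
      exact ⟨z, by simpa using hz⟩
    obtain ⟨z₂, hz₂, hz₂'⟩ := Finset.exists_mem_notMem_of_card_lt_card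
      (s := {z₁, a z₁, a⁻¹ z₁}) (t := univ.filter fun z => a z ≠ z) (by
        have := Finset.card_le_three (a := z₁) (b := a z₁) (c := a⁻¹ z₁)
        omega)
    simp only [mem_filter, mem_univ, true_and] at hz₂
    simp only [Finset.mem_insert, Finset.mem_singleton, not_or] at hz₂'
    have hbw₂1 : b w₂ ≠ w₁ := fun h => hw₂'.2.2 (by rw [← h]; simp)
    have hbw₂2 : b w₂ ≠ b w₁ := fun h => hw₂'.1 (b.injective h)
    have haz₂1 : a z₂ ≠ z₁ := fun h => hz₂'.2.2 (by rw [← h]; simp)
    have haz₂2 : a z₂ ≠ a z₁ := fun h => hz₂'.1 (a.injective h)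
    -- the permutation
    let f : Option (Option (Fin 2)) → Fin n := ext2 ![w₂, b w₂] w₁ (b w₁)
    let g : Option (Option (Fin 2)) → Fin n := ext2 ![a z₂, z₂] (a z₁) z₁
    have hf : Function.Injective f := by
      refine ext2_injective ?_ (Ne.symm hw₁) ?_ ?_
      · intro i j h
        fin_cases i <;> fin_cases j
        · rfl
        · exact absurd (show w₂ = b w₂ from h).symm hw₂
        · exact absurd (show b w₂ = w₂ from h) hw₂
        · rfl
      · intro i; fin_cases i
        · exact hw₂'.1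
        · exact hbw₂1
      · intro i; fin_cases i
        · exact hw₂'.2.1
        · exact hbw₂2
    have hg : Function.Injective g := by
      refine ext2_injective ?_ hz₁ ?_ ?_
      · intro i j h
        fin_cases i <;> fin_cases j
        · rfl
        · exact absurd (show a z₂ = z₂ from h) hz₂
        · exact absurd (show z₂ = a z₂ from h).symm hz₂
        · rfl
      · intro i; fin_cases i
        · exact haz₂2
        · exact hz₂'.2.1
      · intro i; fin_cases i
        · exact haz₂1
        · exact hz₂'.1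
    obtain ⟨h₀, hh₀⟩ := Equiv.Perm.exists_extending_pair f g hf hg
    have e1 : h₀ w₁ = a z₁ := by simpa [f, g, ext2] using hh₀ none
    have e2 : h₀ (b w₁) = z₁ := by simpa [f, g, ext2] using hh₀ (some none)
    have e3 : h₀ w₂ = a z₂ := by simpa [f, g, ext2] using hh₀ (some (some 0))
    have e4 : h₀ (b w₂) = z₂ := by simpa [f, g, ext2] using hh₀ (some (some 1))
    rcases hc' with hb2 | ha2
    · -- b is an involution: precompose with swap w₁ (b w₁)
      let P : Perm (Fin n) → Prop := fun h =>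
        (a (h (b w₁)) = h w₁ ∨ a (h w₁) = h (b w₁)) ∧ a (h (b w₂)) = h w₂
      have hP : ∃ h : Perm (Fin n), h ∈ An ∧ P h := by
        refine exists_alt_of_swap P h₀ (Ne.symm hw₁) ⟨Or.inl (by rw [e2, e1]), by rw [e4, e3]⟩ ?_
        refine ⟨Or.inr ?_, ?_⟩
        · simp [Perm.mul_apply, e1, e2]
        · have h1 : w₂ ≠ w₁ := hw₂'.1
          have h2 : w₂ ≠ b w₁ := hw₂'.2.1
          simp [Perm.mul_apply, swap_apply_of_ne_of_ne h1 h2,
            swap_apply_of_ne_of_ne hbw₂1 hbw₂2, e3, e4]
      obtain ⟨h, hh, hP1 | hP1, hP2⟩ := hP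
      · exact ⟨h, hh, hfin h ⟨w₁, w₂, Ne.symm hw₂'.1, hP1, hP2⟩⟩
      · exact ⟨h, hh, hfin h ⟨b w₁, w₂, Ne.symm hw₂'.2.1, by rw [hb2]; exact hP1, hP2⟩⟩
    · -- a is an involution: postcompose with swap z₁ (a z₁)
      let P : Perm (Fin n) → Prop := fun h => a (h (b w₁)) = h w₁ ∧ a (h (b w₂)) = h w₂
      have hP : ∃ h : Perm (Fin n), h ∈ An ∧ P h := by
        refine exists_alt_of_swap' P h₀ (Ne.symm hz₁) ⟨by rw [e2, e1], by rw [e4, e3]⟩ ?_
        refine ⟨?_, ?_⟩
        · simp [Perm.mul_apply, e1, e2, ha2]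
        · have h1 : z₂ ≠ z₁ := hz₂'.1
          have h2 : z₂ ≠ a z₁ := hz₂'.2.1
          simp [Perm.mul_apply, swap_apply_of_ne_of_ne h1 h2,
            swap_apply_of_ne_of_ne haz₂1 haz₂2, e3, e4]
      obtain ⟨h, hh, hP1, hP2⟩ := hP
      exact ⟨h, hh, hfin h ⟨w₁, w₂, Ne.symm hw₂'.1, hP1, hP2⟩⟩


lemma fx_add_two_le {a : Perm (Fin n)} (ha : a ≠ 1) : fx a + 2 ≤ n := by
  have h1 := Equiv.Perm.two_le_card_support_of_ne_one ha
  have h2 : a.support = univ.filter fun z => a z ≠ z := by
    ext z; simp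
  rw [h2, card_moved] at h1
  have := fx_le a
  omega

lemma arith_int (N A B f : ℤ) (hN : 5 ≤ N) (hA : 0 ≤ A) (hAB : A ≤ B) (hB : B + 2 ≤ N)
    (hf : A + 1 ≤ f)
    (heq : f * (N * (N - 1)) = A * B * (N - 1) + (N - A) * (N - B)) : A = 0 ∧ B = 1 ∧ f = 1 := by
  have h0 : 0 ≤ N * (N - 1) := by nlinarith
  have h1 : (A + 1) * (N * (N - 1)) ≤ f * (N * (N - 1)) := mul_le_mul_of_nonneg_right hf h0
  have h2 : N * (A * (N - B) + B - 1) ≤ 0 := by
    have : N * (A * (N - B) + B - 1) =
        (A + 1) * (N * (N - 1)) - (A * B * (N - 1) + (N - A) * (N - B)) := by ring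
    rw [this]; linarith
  have h3 : A * (N - B) + B - 1 ≤ 0 := by
    by_contra h
    push Not at h
    have := mul_pos (by linarith : (0 : ℤ) < N) h
    linarith
  have hA0 : A = 0 := by
    by_contra hne
    have h4 : 1 ≤ A := by omega
    have h5 : N - B ≤ A * (N - B) := by nlinarith
    linarith
  subst hA0
  have hB1 : B ≤ 1 := by linarith
  have hB0 : B ≠ 0 := by
    rintro rfl
    -- f * (N (N-1)) = N * N
    have h6 : N * (f * (N - 1) - N) = 0 := by linarith [heq]
    have h7 : f * (N - 1) = N := by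
      rcases mul_eq_zero.mp h6 with h | h
      · omega
      · linarith
    have h8 : 1 ≤ f := by linarith
    rcases eq_or_lt_of_le h8 with h9 | h9
    · rw [← h9] at h7; linarith
    · have : 2 * (N - 1) ≤ f * (N - 1) := by nlinarith
      linarith
  have hB' : B = 1 := by omega
  subst hB'
  refine ⟨rfl, rfl, ?_⟩
  have h6 : (f - 1) * (N * (N - 1)) = 0 := by linarith [heq]
  rcases mul_eq_zero.mp h6 with h | h
  · linarith
  · nlinarith

lemma arith_nat {n A B f : ℕ} (hn : 5 ≤ n) (hA : A + 2 ≤ n) (hB : B + 2 ≤ n) (hAB : A ≤ B)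
    (hf : A + 1 ≤ f)
    (heq : f * (n * (n - 1)) = A * B * (n - 1) + (n - A) * (n - B)) : A = 0 ∧ B = 1 ∧ f = 1 := by
  zify [show 1 ≤ n by omega, show A ≤ n by omega, show B ≤ n by omega] at heq
  have := arith_int n A B f (by exact_mod_cast hn) (by positivity) (by exact_mod_cast hAB)
    (by exact_mod_cast hB) (by exact_mod_cast hf) heq
  exact_mod_cast this

theorem not_const (hn : 5 ≤ n) (a b : Perm (Fin n)) (ha : a ≠ 1) (hb : b ≠ 1) :
    ∃ h₁ h₂ : Perm (Fin n), h₁ ∈ An ∧ h₂ ∈ An ∧
      fx (a * (h₁ * b * h₁⁻¹)) ≠ fx (a * (h₂ * b * h₂⁻¹)) := by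
  classical
  by_contra hcon
  push Not at hcon
  set f := fx (a * b) with hf
  have hall : ∀ h : Perm (Fin n), h ∈ An → fx (a * (h * b * h⁻¹)) = f := by
    intro h hh
    have := hcon h 1 hh (Subgroup.one_mem _)
    simpa using this
  have hsum := sum_fx (by omega : 4 ≤ n) a b
  rw [Finset.sum_congr rfl (fun (h : An) _ => hall (h : Perm (Fin n)) h.property),
    Finset.sum_const, smul_eq_mul, Finset.card_univ, mul_assoc] at hsum
  have hpos : 0 < Fintype.card An := Fintype.card_pos
  have heq : f * (n * (n - 1)) = fx a * fx b * (n - 1) + (n - fx a) * (n - fx b) :=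
    Nat.eq_of_mul_eq_mul_left hpos hsum
  obtain ⟨h, hh, hbig⟩ := exists_big hn a b ha hb
  rw [hall h hh] at hbig
  have hA := fx_add_two_le ha
  have hB := fx_add_two_le hb
  have hcase : (fx a = 0 ∧ fx b = 1 ∧ f = 1) ∨ (fx b = 0 ∧ fx a = 1 ∧ f = 1) := by
    rcases le_total (fx a) (fx b) with hAB | hAB
    · left
      rw [min_eq_left hAB] at hbig
      exact arith_nat hn hA hB hAB hbig heq
    · right
      rw [min_eq_right hAB] at hbig
      refine arith_nat hn hB hA hAB hbig ?_
      rw [heq]; ring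
  have hma : 4 ≤ (univ.filter fun z => a z ≠ z).card := by
    rw [card_moved]; rcases hcase with h | h <;> omega
  have hmb : 4 ≤ (univ.filter fun z => b z ≠ z).card := by
    rw [card_moved]; rcases hcase with h | h <;> omega
  obtain ⟨h', hh', h2⟩ := exists_two hn a b hma hmb
  rw [hall h' hh'] at h2
  rcases hcase with h | h <;> omega

end Cfsg.Agent.Lib.Helper37_FixAvg
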