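import Mathlib
import Cfsg.Agent.Lib.Helper32_OFDefs
import Cfsg.Agent.Lib.Helper32_OFRoot
import Cfsg.Agent.Lib.Helper31_OF_API
import Cfsg.Agent.Lib.Helper94_OrthVec
import Cfsg.Agent.Lib.Helper94_OrthNondeg
import Cfsg.Agent.Lib.Helper80_GrowDefs

set_option autoImplicit false
set_option linter.unusedSimpArgs false
set_option linter.unusedVariables false
set_option linter.unusedSectionVars false

/-!
GROW market (architect helper80), package GROW-SPAN: the subspace `V_S ∩ u^⊥` is spanned by the vectors
`u_j e_i - u_i e_j` (`i, j` in the support of `u`) and the `e_k` (`k ∈ S` outside the support).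
-/

namespace Cfsg.Agent.Lib.Helper60_GROW_SPAN

open Module Cfsg.Agent.Lib.Helper94_Symp Cfsg.Agent.Lib.Helper94_OrthSmall
  Cfsg.Agent.Lib.Helper94_OrthSiegel Cfsg.Agent.Lib.Helper94_OrthSiegel2
  Cfsg.Agent.Lib.Helper94_OrthNondeg Cfsg.Agent.Lib.Helper94_OrthVec
  Cfsg.Agent.Lib.Helper32_OFDefs Cfsg.Agent.Lib.Helper32_OFRoot
  Cfsg.Agent.Lib.Helper80_GrowDefs

variable {F V : Type*} [Field F] [AddCommGroup V] [Module F V]
variable {Q : V → F} {B : LinearMap.BilinForm F V}
variable {ι : Type*} [Fintype ι] [DecidableEq ι] {c : F} {e : ι → V}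
variable {L : Subgroup (V ≃ₗ[F] V)}

/-- a space with an orthogonal frame is finite-dimensional -/
theorem finiteDimensional_of_OFr (fr : OFr Q B c e) : FiniteDimensional F V := by
  have hspan : Submodule.span F (Set.range e) = ⊤ := by
    rw [eq_top_iff]
    intro v _
    rw [fr.exp v]
    exact Submodule.sum_mem _ (fun i _ => Submodule.smul_mem _ _ (Submodule.subset_span ⟨i, rfl⟩))
  exact Module.finite_def.mpr (hspan ▸ Submodule.fg_span (Set.finite_range e))

/-- GROW-SPAN. -/
theorem inZ_of_span (hC : GCtx Q B c e L) {u : V} (hu : Q u = 0) (S : Finset ι)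
    (hJ : ∀ i, B u (e i) ≠ 0 → i ∈ S)
    (h1 : ∀ i j, i ≠ j → B u (e i) ≠ 0 → B u (e j) ≠ 0 →
      InZ Q B L u (co B c e u j • e i - co B c e u i • e j))
    (h2 : ∀ k ∈ S, B u (e k) = 0 → InZ Q B L u (e k)) :
    ∀ y ∈ VS B e S, B u y = 0 → InZ Q B L u y := by
  classical
  intro y hyS huy
  have fr := hC.fr
  have : Finite F := Nat.finite_of_card_ne_zero hC.hp.ne_zero
  have : FiniteDimensional F V := finiteDimensional_of_OFr fr
  have hQs := fr.hQs
  have hQp := fr.hQp
  have h2c : (2 * c : F) ≠ 0 := fr.two_c
  -- coordinates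
  obtain ⟨a, ha⟩ : ∃ a : ι → F, a = fun i => co B c e u i := ⟨_, rfl⟩
  obtain ⟨b, hb⟩ : ∃ b : ι → F, b = fun i => co B c e y i := ⟨_, rfl⟩
  have haB : ∀ i, B u (e i) = 2 * c * a i := by
    intro i
    rw [ha]
    show B u (e i) = 2 * c * ((2 * c)⁻¹ * B u (e i))
    rw [← mul_assoc, mul_inv_cancel₀ h2c, one_mul]
  have hbB : ∀ i, B y (e i) = 2 * c * b i := by
    intro i
    rw [hb]
    show B y (e i) = 2 * c * ((2 * c)⁻¹ * B y (e i))
    rw [← mul_assoc, mul_inv_cancel₀ h2c, one_mul]
  have ha0 : ∀ i, a i = 0 ↔ B u (e i) = 0 := by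
    intro i
    rw [haB i]
    constructor
    · intro h
      rw [h, mul_zero]
    · intro h
      exact (mul_eq_zero.mp h).resolve_left h2c
  have hbS : ∀ i, i ∉ S → b i = 0 := by
    intro i hi
    have := hyS i hi
    rw [hbB i] at this
    exact (mul_eq_zero.mp this).resolve_left h2c
  have hsum : ∑ i, a i * b i = 0 := by
    have h := fr.B_eq u y
    rw [huy] at h
    have h' : (2 * c) * ∑ i, a i * b i = 0 := by
      rw [ha, hb]
      exact h.symm
    exact (mul_eq_zero.mp h').resolve_left h2c
  have hz0 : InZ Q B L u 0 := InZ_zero hQs hQp hu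
  -- the case where `u` has no non-zero coordinate is covered by taking any `j0`
  by_cases hex : ∃ j0, a j0 ≠ 0
  · obtain ⟨j0, hj0⟩ := hex
    obtain ⟨t, ht⟩ : ∃ t : ι → V, t = fun i =>
        if a i = 0 then b i • e i else (b i / a j0) • (a j0 • e i - a i • e j0) := ⟨_, rfl⟩
    have htZ : ∀ i ∈ Finset.univ.erase j0, InZ Q B L u (t i) := by
      intro i hi
      have hij0 : i ≠ j0 := Finset.ne_of_mem_erase hi
      rw [ht]
      show InZ Q B L u (if a i = 0 then b i • e i else (b i / a j0) • (a j0 • e i - a i • e j0))
      split_ifs with hai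
      · by_cases hiS : i ∈ S
        · exact InZ_smul (b i) (h2 i hiS ((ha0 i).mp hai))
        · rw [hbS i hiS, zero_smul]
          exact hz0
      · have h := h1 i j0 hij0 (fun hh => hai ((ha0 i).mpr hh)) (fun hh => hj0 ((ha0 j0).mpr hh))
        have h' : InZ Q B L u (a j0 • e i - a i • e j0) := by
          rw [ha]
          exact h
        exact InZ_smul _ h'
    have hy' : InZ Q B L u (∑ i ∈ Finset.univ.erase j0, t i) :=
      Finset.sum_induction t (InZ Q B L u) (fun x x' hx hx' => InZ_add hQs hQp hu hx hx') hz0 htZ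
    have heq : y = ∑ i ∈ Finset.univ.erase j0, t i := by
      apply fr.ext
      intro k
      rw [map_sum, LinearMap.sum_apply]
      have hterm : ∀ i, B (t i) (e k) =
          if a i = 0 then b i * (if i = k then 2 * c else 0)
          else (b i / a j0) * (a j0 * (if i = k then 2 * c else 0) -
            a i * (if j0 = k then 2 * c else 0)) := by
        intro i
        rw [ht]
        show B (if a i = 0 then b i • e i else (b i / a j0) • (a j0 • e i - a i • e j0)) (e k) = _
        split_ifs <;>
          simp only [map_smul, map_sub, LinearMap.smul_apply, LinearMap.sub_apply, smul_eq_mul,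
            fr.Bee', if_true, if_false] <;> simp_all
      simp only [hterm]
      by_cases hk : k = j0
      · subst hk
        have h3 : ∀ i ∈ Finset.univ.erase k,
            (if a i = 0 then b i * (if i = k then 2 * c else 0)
            else (b i / a k) * (a k * (if i = k then 2 * c else 0) -
              a i * (if k = k then 2 * c else 0))) = -(2 * c / a k) * (a i * b i) := by
          intro i hi
          have hik : i ≠ k := Finset.ne_of_mem_erase hi
          rw [if_neg hik, if_pos rfl]
          split_ifs with hai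
          · rw [hai]; ring
          · field_simp
            ring
        rw [Finset.sum_congr rfl h3, ← Finset.mul_sum]
        have h4 : a k * b k + ∑ i ∈ Finset.univ.erase k, a i * b i = 0 := by
          rw [Finset.add_sum_erase Finset.univ (fun i => a i * b i) (Finset.mem_univ k)]
          exact hsum
        have h5 : ∑ i ∈ Finset.univ.erase k, a i * b i = -(a k * b k) := by
          linear_combination h4
        rw [h5, hbB k]
        field_simp
      · rw [Finset.sum_eq_single k]
        · rw [if_pos rfl, if_neg (Ne.symm hk), hbB k]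
          split_ifs with hak
          · ring
          · field_simp
            ring
        · intro i _ hik
          rw [if_neg hik, if_neg (Ne.symm hk)]
          split_ifs <;> ring
        · intro hkn
          exact absurd (Finset.mem_erase.mpr ⟨hk, Finset.mem_univ k⟩) hkn
    rw [heq]
    exact hy'
  · push Not at hex
    have hy' : InZ Q B L u (∑ i, b i • e i) := by
      apply Finset.sum_induction _ (InZ Q B L u) (fun x x' hx hx' => InZ_add hQs hQp hu hx hx') hz0
      intro i _
      by_cases hiS : i ∈ S
      · exact InZ_smul (b i) (h2 i hiS ((ha0 i).mp (hex i)))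
      · rw [hbS i hiS, zero_smul]
        exact hz0
    have heq : y = ∑ i, b i • e i := by
      rw [hb]
      exact fr.exp' y
    rw [heq]
    exact hy'

end Cfsg.Agent.Lib.Helper60_GROW_SPAN
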