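import Mathlib
import Cfsg.Agent.Lib.Helper32_OFDefs
import Cfsg.Agent.Lib.Helper32_OFRoot
import Cfsg.Agent.Lib.Helper31_OF_API
import Cfsg.Agent.Lib.Helper94_OrthVec
import Cfsg.Agent.Lib.Helper94_OrthNondeg
import Cfsg.Agent.Lib.Helper80_GrowDefs

set_option autoImplicit false
set_option linter.unusedSimpArgs false
set_option linter.unusedVariables false
set_option linter.unusedSectionVars false

/-!
GROW market (helper80 architect), package **GROW-WEYL**: the action of the Weyl element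
`weyl Q B u u1 z t = x(t) y(s) x(t)` (three Siegel elements).  (helper88)
-/

namespace Cfsg.Agent.Lib.Helper88_GROW_WEYL

open Module Cfsg.Agent.Lib.Helper94_Symp Cfsg.Agent.Lib.Helper94_OrthSmall
  Cfsg.Agent.Lib.Helper94_OrthSiegel Cfsg.Agent.Lib.Helper94_OrthSiegel2
  Cfsg.Agent.Lib.Helper94_OrthNondeg Cfsg.Agent.Lib.Helper94_OrthVec
  Cfsg.Agent.Lib.Helper32_OFDefs Cfsg.Agent.Lib.Helper32_OFRoot
  Cfsg.Agent.Lib.Helper80_GrowDefs

variable {F V : Type*} [Field F] [AddCommGroup V] [Module F V]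
variable {Q : V → F} {B : LinearMap.BilinForm F V}
variable {ι : Type*} [Fintype ι] [DecidableEq ι] {c : F} {e : ι → V}
variable {L : Subgroup (V ≃ₗ[F] V)}

/-- The Siegel element `sieg u (t • z)` in coordinates. -/
lemma sieg_smul_apply (hQs : ∀ (a : F) (v : V), Q (a • v) = a * a * Q v)
    (hQp : ∀ u v : V, Q (u + v) = Q u + Q v + B u v) {u z : V} (hu : Q u = 0)
    (huz : B u z = 0) (t : F) (x : V) :
    sieg Q B u (t • z) x =
      x + (t * B x u) • z - (t * B x z) • u - (t * t * Q z * B x u) • u := by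
  have h : B u (t • z) = 0 := by rw [map_smul, huz, smul_zero]
  rw [sieg_apply Q B hQs hQp hu h, hQs, map_smul, smul_eq_mul]
  module

/-- **GROW-WEYL** -/
theorem weyl_spec (hQs : ∀ (a : F) (v : V), Q (a • v) = a * a * Q v)
    (hQp : ∀ u v : V, Q (u + v) = Q u + Q v + B u v) {u u1 z : V} (hu : Q u = 0)
    (hu1 : Q u1 = 0) (hb : B u u1 ≠ 0) (huz : B u z = 0) (hu1z : B u1 z = 0) (hq : Q z ≠ 0)
    {t : F} (ht : t ≠ 0) :
    weyl Q B u u1 z t u = (-(B u u1 * Q z * t * t)⁻¹) • u1 ∧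
    weyl Q B u u1 z t u1 = (-(B u u1 * Q z * t * t)) • u ∧
    weyl Q B u u1 z t z = -z ∧
    (∀ r, B r u = 0 → B r u1 = 0 → B r z = 0 → weyl Q B u u1 z t r = r) ∧
    weyl Q B u u1 z t ∈ oG Q := by
  have hsymm := B_symm Q B hQp
  have hUU : B u u = 0 := by rw [B_self Q B hQs hQp, hu, mul_zero]
  have hU1U1 : B u1 u1 = 0 := by rw [B_self Q B hQs hQp, hu1, mul_zero]
  have hu1u : B u1 u = B u u1 := hsymm u1 u
  have hzu : B z u = 0 := by rw [hsymm, huz]
  have hzu1 : B z u1 = 0 := by rw [hsymm, hu1z]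
  have hzz : B z z = 2 * Q z := B_self Q B hQs hQp z
  have hne : B u u1 * Q z * t ≠ 0 := mul_ne_zero (mul_ne_zero hb hq) ht
  set s : F := (B u u1 * Q z * t)⁻¹ with hsdef
  have hs : B u u1 * Q z * t * s = 1 := mul_inv_cancel₀ hne
  have hinv : (B u u1 * Q z * t * t)⁻¹ = B u u1 * Q z * s * s := by
    apply inv_eq_of_mul_eq_one_left
    linear_combination (B u u1 * Q z * t * s + 1) * hs
  have hX := sieg_smul_apply hQs hQp hu huz t
  have hY := sieg_smul_apply hQs hQp hu1 hu1z s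
  have hw : ∀ x, weyl Q B u u1 z t x =
      sieg Q B u (t • z) (sieg Q B u1 (s • z) (sieg Q B u (t • z) x)) := by
    intro x
    unfold weyl
    rw [LinearEquiv.mul_apply, LinearEquiv.mul_apply]
  refine ⟨?_, ?_, ?_, ?_, ?_⟩
  · rw [hw, hinv, hX u, hY, hX]
    simp only [map_add, map_sub, map_smul, LinearMap.add_apply, LinearMap.sub_apply,
      LinearMap.smul_apply, smul_eq_mul, hUU, hU1U1, hu1u, huz, hzu, hu1z, hzu1, hzz, mul_zero,
      zero_mul, sub_zero, add_zero, zero_smul]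
    linear_combination (norm := module)
      ((B u u1 * Q z * t * s - 1) * hs) • u + (-(B u u1 * s) * hs) • z
  · rw [hw, hX u1, hY, hX]
    simp only [map_add, map_sub, map_smul, LinearMap.add_apply, LinearMap.sub_apply,
      LinearMap.smul_apply, smul_eq_mul, hUU, hU1U1, hu1u, huz, hzu, hu1z, hzu1, hzz, mul_zero,
      zero_mul, sub_zero, add_zero, zero_smul]
    linear_combination (norm := module)
      (((B u u1 * Q z * t * s) - 1) * hs) • u1 + ((B u u1 * t * ((B u u1 * Q z * t * s) - 2)) * hs) • z +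
        ((B u u1 * Q z * t * t * (3 - (B u u1 * Q z * t * s))) * hs) • u
  · rw [hw, hX z, hY, hX]
    simp only [map_add, map_sub, map_smul, LinearMap.add_apply, LinearMap.sub_apply,
      LinearMap.smul_apply, smul_eq_mul, hUU, hU1U1, hu1u, huz, hzu, hu1z, hzu1, hzz, mul_zero,
      zero_mul, sub_zero, add_zero, zero_smul]
    linear_combination (norm := module)
      ((2 * ((B u u1 * Q z * t * s) - 1)) * hs) • z + ((2 * t * Q z * (2 - (B u u1 * Q z * t * s))) * hs) • u +
        ((2 * s * Q z) * hs) • u1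
  · intro r hru hru1 hrz
    rw [hw, hX r, hru, hrz]
    simp only [mul_zero, zero_smul, add_zero, sub_zero]
    rw [hY r, hru1, hrz]
    simp only [mul_zero, zero_smul, add_zero, sub_zero]
    rw [hX r, hru, hrz]
    simp only [mul_zero, zero_smul, add_zero, sub_zero]
  · unfold weyl
    have h1 : sieg Q B u (t • z) ∈ oG Q :=
      sieg_mem_oG Q B hQs hQp hu (by rw [map_smul, huz, smul_zero])
    have h2 : sieg Q B u1 ((B u u1 * Q z * t)⁻¹ • z) ∈ oG Q :=
      sieg_mem_oG Q B hQs hQp hu1 (by rw [map_smul, hu1z, smul_zero])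
    exact (oG Q).mul_mem ((oG Q).mul_mem h1 h2) h1

end Cfsg.Agent.Lib.Helper88_GROW_WEYL
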