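import Mathlib
import Cfsg.Agent.Lib.Helper32_OFDefs
import Cfsg.Agent.Lib.Helper32_OFRoot
import Cfsg.Agent.Lib.Helper94_OrthNondeg
import Cfsg.Agent.Lib.Helper80_GrowDefs
import Cfsg.Agent.Lib.Helper88_GROW_WEYL

set_option autoImplicit false
set_option linter.unusedSimpArgs false
set_option linter.unusedVariables false
set_option linter.unusedSectionVars false

/-!
GROW package GROW-C2 (helper65, architect helper80): THE KEY LEMMA `c2`.

Route (direct, GROW-BOREL is not needed): the diagonal elements `m_i = ε_i * weyl u (ε_i u) z_i t`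
have the closed form `mF` (`diag_formula`, `exists_diag`, `exists_mi`; uses GROW-WEYL of helper88),
and `m_j⁻¹ * m_i = sieg u y` for the explicit
`y = -((κ+1)/a_i) e_i + ((κ+1)/a_j) e_j + γ z` (`big_identity`, a polynomial identity checked by
`match_scalars`/`field_simp`/`ring`); then `inZ_of_mem` (prime field).
-/

namespace Cfsg.Agent.Lib.Helper65_GROW_C2

open Module Cfsg.Agent.Lib.Helper94_Symp Cfsg.Agent.Lib.Helper94_OrthSmall
  Cfsg.Agent.Lib.Helper94_OrthSiegel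
  Cfsg.Agent.Lib.Helper94_OrthNondeg
  Cfsg.Agent.Lib.Helper32_OFDefs Cfsg.Agent.Lib.Helper32_OFRoot
  Cfsg.Agent.Lib.Helper80_GrowDefs

variable {F V : Type*} [Field F] [AddCommGroup V] [Module F V]
variable {Q : V → F} {B : LinearMap.BilinForm F V}

/-- a linear map acting diagonally on `u, u1` (a hyperbolic pair up to scaling), by `-1` on the
nonsingular vector `z0` orthogonal to them and trivially on the orthogonal complement, in closed
form. -/
lemma diag_formula (hsymm : ∀ x y : V, B x y = B y x) (h2 : (2 : F) ≠ 0) {u u1 z0 : V}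
    (huu : B u u = 0) (hu1u1 : B u1 u1 = 0) (hb : B u u1 ≠ 0) (huz : B u z0 = 0)
    (hu1z : B u1 z0 = 0) {q : F} (hq : q ≠ 0) (hzz : B z0 z0 = 2 * q) (m : V →ₗ[F] V) (a a1 : F)
    (hmu : m u = a • u) (hmu1 : m u1 = a1 • u1) (hmz : m z0 = -z0)
    (hmr : ∀ r, B r u = 0 → B r u1 = 0 → B r z0 = 0 → m r = r) (x : V) :
    m x = x + ((a - 1) * (B x u1 / B u u1)) • u + ((a1 - 1) * (B x u / B u u1)) • u1
      - (B x z0 / q) • z0 := by
  set β := B u u1 with hβ
  set r : V := x - (B x u1 / β) • u - (B x u / β) • u1 - (B x z0 / (2 * q)) • z0 with hr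
  have hu1u : B u1 u = β := hsymm u1 u
  have hzu : B z0 u = 0 := by rw [hsymm, huz]
  have hzu1 : B z0 u1 = 0 := by rw [hsymm, hu1z]
  have h1 : B r u = 0 := by
    simp only [hr, map_sub, map_smul, LinearMap.sub_apply, LinearMap.smul_apply, smul_eq_mul, huu,
      hu1u, hzu]
    field_simp
    ring
  have h2' : B r u1 = 0 := by
    simp only [hr, map_sub, map_smul, LinearMap.sub_apply, LinearMap.smul_apply, smul_eq_mul,
      hu1u1, ← hβ, hzu1]
    field_simp
    ring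
  have h3 : B r z0 = 0 := by
    simp only [hr, map_sub, map_smul, LinearMap.sub_apply, LinearMap.smul_apply, smul_eq_mul,
      huz, hu1z, hzz]
    field_simp
    ring
  have hmr' := hmr r h1 h2' h3
  have hx : x = r + (B x u1 / β) • u + (B x u / β) • u1 + (B x z0 / (2 * q)) • z0 := by
    rw [hr]; abel
  have hmx : m x = r + (B x u1 / β) • (a • u) + (B x u / β) • (a1 • u1)
      + (B x z0 / (2 * q)) • (-z0) := by
    conv_lhs => rw [hx]
    simp only [map_add, map_smul, hmr', hmu, hmu1, hmz]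
  rw [hmx, hr]
  match_scalars <;> field_simp <;> ring


/-- `InZ_map` without finiteness assumptions -/
lemma inZ_map' (hQs : ∀ (a : F) (v : V), Q (a • v) = a * a * Q v)
    (hQp : ∀ u v : V, Q (u + v) = Q u + Q v + B u v) {M : Subgroup (V ≃ₗ[F] V)} {g : V ≃ₗ[F] V}
    (hgM : g ∈ M) (hgO : g ∈ oG Q) {w z : V} (hw : Q w = 0) (h : InZ Q B M w z) :
    InZ Q B M (g w) (g z) := by
  refine ⟨by rw [oG_B Q B hQp hgO, h.1], fun t => ?_⟩
  have h1 := conj_sieg Q B hQs hQp hgO hw (z := t • z) (by rw [map_smul, h.1, smul_zero])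
  rw [map_smul] at h1
  rw [← h1]
  exact M.mul_mem (M.mul_mem hgM (h.2 t)) (M.inv_mem hgM)

/-- the statement of GROW-WEYL (helper88), as a hypothesis -/
def WeylSpec (Q : V → F) (B : LinearMap.BilinForm F V) : Prop :=
  ∀ (u u1 z : V) (t : F), Q u = 0 → Q u1 = 0 → B u u1 ≠ 0 → B u z = 0 → B u1 z = 0 → Q z ≠ 0 →
    t ≠ 0 →
    weyl Q B u u1 z t u = (-(B u u1 * Q z * t * t)⁻¹) • u1 ∧
    weyl Q B u u1 z t u1 = (-(B u u1 * Q z * t * t)) • u ∧
    weyl Q B u u1 z t z = -z ∧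
    (∀ r, B r u = 0 → B r u1 = 0 → B r z = 0 → weyl Q B u u1 z t r = r) ∧
    weyl Q B u u1 z t ∈ oG Q

/-- the diagonal element `m = ε * weyl u (ε u) z0 t` of `L`, in closed form, with its inverse. -/
lemma exists_diag (hQs : ∀ (a : F) (v : V), Q (a • v) = a * a * Q v)
    (hQp : ∀ u v : V, Q (u + v) = Q u + Q v + B u v) (h2 : (2 : F) ≠ 0) (hW : WeylSpec Q B)
    {L : Subgroup (V ≃ₗ[F] V)} {u z0 : V} (hu : Q u = 0) (hz0 : InZ Q B L u z0) (hq : Q z0 ≠ 0)
    {ε : V ≃ₗ[F] V} (hεL : ε ∈ L) (hεO : ε ∈ oG Q) (hεε : ∀ v, ε (ε v) = v) (hεz : ε z0 = z0)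
    (hb : B u (ε u) ≠ 0) (hεr : ∀ r, B r u = 0 → B r (ε u) = 0 → ε r = r) {t : F} (ht : t ≠ 0) :
    ∃ m ∈ L,
      (∀ x, m x = x + ((-(B u (ε u) * Q z0 * t * t)⁻¹ - 1) * (B x (ε u) / B u (ε u))) • u
        + ((-(B u (ε u) * Q z0 * t * t) - 1) * (B x u / B u (ε u))) • ε u
        - (B x z0 / Q z0) • z0) ∧
      (∀ x, m⁻¹ x = x + ((-(B u (ε u) * Q z0 * t * t) - 1) * (B x (ε u) / B u (ε u))) • u
        + ((-(B u (ε u) * Q z0 * t * t)⁻¹ - 1) * (B x u / B u (ε u))) • ε u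
        - (B x z0 / Q z0) • z0) := by
  have hsymm : ∀ x y : V, B x y = B y x := B_symm Q B hQp
  have huu : B u u = 0 := by rw [B_self Q B hQs hQp, hu, mul_zero]
  have hu1 : Q (ε u) = 0 := by rw [hεO, hu]
  have hu1u1 : B (ε u) (ε u) = 0 := by rw [B_self Q B hQs hQp, hu1, mul_zero]
  have huz : B u z0 = 0 := hz0.1
  have hu1z : B (ε u) z0 = 0 := by
    have := oG_B Q B hQp hεO u z0
    rw [hεz] at this
    rw [this, huz]
  have hzz : B z0 z0 = 2 * Q z0 := B_self Q B hQs hQp z0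
  have hz1 : InZ Q B L (ε u) z0 := by
    have := inZ_map' hQs hQp hεL hεO hu hz0
    rwa [hεz] at this
  set κ := B u (ε u) * Q z0 * t * t with hκ
  have hκ0 : κ ≠ 0 := mul_ne_zero (mul_ne_zero (mul_ne_zero hb hq) ht) ht
  obtain ⟨hn1, hn2, hn3, hn4, hn5⟩ := hW u (ε u) z0 t hu hu1 hb huz hu1z hq ht
  set n := weyl Q B u (ε u) z0 t with hn
  have hnL : n ∈ L := weyl_mem hz0 hz1 t
  have hmu : (ε * n) u = (-κ⁻¹) • u := by
    rw [LinearEquiv.mul_apply, hn1, map_smul, hεε]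
  have hmu1 : (ε * n) (ε u) = (-κ) • ε u := by
    rw [LinearEquiv.mul_apply, hn2, map_smul]
  have hmz : (ε * n) z0 = -z0 := by
    rw [LinearEquiv.mul_apply, hn3, map_neg, hεz]
  have hmr : ∀ r, B r u = 0 → B r (ε u) = 0 → B r z0 = 0 → (ε * n) r = r := by
    intro r h1 h2 h3
    rw [LinearEquiv.mul_apply, hn4 r h1 h2 h3, hεr r h1 h2]
  refine ⟨ε * n, L.mul_mem hεL hnL, ?_, ?_⟩
  · intro x
    have := diag_formula hsymm h2 huu hu1u1 hb huz hu1z hq hzz (ε * n : V ≃ₗ[F] V).toLinearMap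
      (-κ⁻¹) (-κ) hmu hmu1 hmz hmr x
    simpa using this
  · intro x
    have hiu : (ε * n)⁻¹ u = (-κ) • u := by
      have : u = (ε * n) ((-κ) • u) := by
        rw [map_smul, hmu, smul_smul]
        have : -κ * -κ⁻¹ = 1 := by field_simp
        rw [this, one_smul]
      conv_lhs => rw [this]
      rw [inv_apply_apply']
    have hiu1 : (ε * n)⁻¹ (ε u) = (-κ⁻¹) • ε u := by
      have : ε u = (ε * n) ((-κ⁻¹) • ε u) := by
        rw [map_smul, hmu1, smul_smul]
        have : -κ⁻¹ * -κ = 1 := by field_simp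
        rw [this, one_smul]
      conv_lhs => rw [this]
      rw [inv_apply_apply']
    have hiz : (ε * n)⁻¹ z0 = -z0 := by
      have : z0 = (ε * n) (-z0) := by rw [map_neg, hmz, neg_neg]
      conv_lhs => rw [this]
      rw [inv_apply_apply']
    have hir : ∀ r, B r u = 0 → B r (ε u) = 0 → B r z0 = 0 → (ε * n)⁻¹ r = r := by
      intro r h1 h2 h3
      conv_lhs => rw [← hmr r h1 h2 h3]
      rw [inv_apply_apply']
    have := diag_formula hsymm h2 huu hu1u1 hb huz hu1z hq hzz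
      ((ε * n)⁻¹ : V ≃ₗ[F] V).toLinearMap (-κ) (-κ⁻¹) hiu hiu1 hiz hir x
    simpa using this

/-- the closed form of the diagonal element `m_i` -/
def mF (B : LinearMap.BilinForm F V) (c q κ : F) (u z ei : V) (x : V) : V :=
  x + ((-κ⁻¹ - 1) * ((B x u - c⁻¹ * B u ei * B x ei) / (-(c⁻¹ * B u ei * B u ei)))) • u
    + ((-κ - 1) * (B x u / (-(c⁻¹ * B u ei * B u ei)))) • (u - (c⁻¹ * B u ei) • ei)
    - ((B x z - B z ei / B u ei * B x u) / q) • (z - (B z ei / B u ei) • u)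

lemma big_identity {x u ei ej z : V} {c q κ ai aj bi bj : F} (h2 : (2 : F) ≠ 0) (hc : c ≠ 0)
    (hq : q ≠ 0) (hκ : κ ≠ 0) (hai : ai ≠ 0) (haj : aj ≠ 0)
    (huu : B u u = 0) (hui : B u ei = ai) (hiu : B ei u = ai) (huj : B u ej = aj)
    (hzi : B z ei = bi) (hzj : B z ej = bj) (hzu : B z u = 0) (huz : B u z = 0)
    (hij : B ei ej = 0) (hiz : B ei z = bi) (hzz : B z z = 2 * q) :
    mF B c q κ⁻¹ u z ej (mF B c q κ u z ei x) =
      x + B x u • ((-((κ + 1) / ai)) • ei + ((κ + 1) / aj) • ej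
          + (κ * (bi * aj - bj * ai) / (q * ai * aj)) • z)
        - ((-((κ + 1) / ai)) * B x ei + ((κ + 1) / aj) * B x ej
          + (κ * (bi * aj - bj * ai) / (q * ai * aj)) * B x z) • u
        - (((-((κ + 1) / ai)) ^ 2 * c + ((κ + 1) / aj) ^ 2 * c
            + (κ * (bi * aj - bj * ai) / (q * ai * aj)) ^ 2 * q
            + (-((κ + 1) / ai)) * (κ * (bi * aj - bj * ai) / (q * ai * aj)) * bi
            + ((κ + 1) / aj) * (κ * (bi * aj - bj * ai) / (q * ai * aj)) * bj) * B x u) • u := by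
  unfold mF
  simp only [map_add, map_sub, map_smul, LinearMap.add_apply, LinearMap.sub_apply,
    LinearMap.smul_apply, smul_eq_mul, huu, hui, hiu, huj, hzi, hzj, hzu, huz, hij, hiz, hzz,
    inv_inv]
  match_scalars <;> field_simp <;> ring


variable {ι : Type*} [Fintype ι] [DecidableEq ι] {c : F} {e : ι → V}
variable {L : Subgroup (V ≃ₗ[F] V)}

lemma inZ_add' (hQs : ∀ (a : F) (v : V), Q (a • v) = a * a * Q v)
    (hQp : ∀ u v : V, Q (u + v) = Q u + Q v + B u v) {M : Subgroup (V ≃ₗ[F] V)} {w z z' : V}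
    (hw : Q w = 0) (h1 : InZ Q B M w z) (h2 : InZ Q B M w z') : InZ Q B M w (z + z') := by
  refine ⟨by rw [map_add, h1.1, h2.1, add_zero], fun t => ?_⟩
  rw [smul_add, ← sieg_mul Q B hQs hQp hw (by rw [map_smul, h1.1, smul_zero])
    (by rw [map_smul, h2.1, smul_zero])]
  exact M.mul_mem (h1.2 t) (h2.2 t)

lemma inZ_smul' {M : Subgroup (V ≃ₗ[F] V)} {w z : V} (a : F) (h1 : InZ Q B M w z) :
    InZ Q B M w (a • z) := by
  refine ⟨by rw [map_smul, h1.1, smul_zero], fun t => ?_⟩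
  rw [smul_smul]
  exact h1.2 (t * a)

lemma inZ_sub' (hQs : ∀ (a : F) (v : V), Q (a • v) = a * a * Q v)
    (hQp : ∀ u v : V, Q (u + v) = Q u + Q v + B u v) {M : Subgroup (V ≃ₗ[F] V)} {w z z' : V}
    (hw : Q w = 0) (h1 : InZ Q B M w z) (h2 : InZ Q B M w z') : InZ Q B M w (z - z') := by
  have := inZ_add' hQs hQp hw h1 (inZ_smul' (-1 : F) h2)
  rwa [neg_one_smul, ← sub_eq_add_neg] at this

/-- the diagonal element `m_i = ε_i * weyl u (ε_i u) z_i t` of `L` and its inverse in closed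
form. -/
lemma exists_mi (hC : GCtx Q B c e L) (hW : WeylSpec Q B) {u z : V} (hu : Q u = 0)
    (hz : InZ Q B L u z) (hq : Q z ≠ 0) (i : ι) (hui : B u (e i) ≠ 0) {t : F} (ht : t ≠ 0) :
    ∃ m ∈ L,
      (∀ x, m x = mF B c (Q z) (-(c⁻¹ * B u (e i) * B u (e i)) * Q z * t * t) u z (e i) x) ∧
      (∀ x, m⁻¹ x =
        mF B c (Q z) (-(c⁻¹ * B u (e i) * B u (e i)) * Q z * t * t)⁻¹ u z (e i) x) := by
  have fr := hC.fr
  have hQs := fr.hQs
  have hQp := fr.hQp
  have hsymm : ∀ x y : V, B x y = B y x := fr.symm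
  have c0 := fr.c0
  have huu : B u u = 0 := by rw [B_self Q B hQs hQp, hu, mul_zero]
  have hεv : ∀ v, zJ B c e {i} v = v - (c⁻¹ * B v (e i)) • e i := by
    intro v
    rw [fr.zJ_apply, Finset.sum_singleton]
  have hεε : ∀ v, zJ B c e {i} (zJ B c e {i} v) = v := by
    intro v
    have := LinearEquiv.congr_fun (fr.zJ_mul_self {i}) v
    simpa using this
  have hz0 : InZ Q B L u (z - (B z (e i) / B u (e i)) • u) := by
    refine ⟨by rw [map_sub, map_smul, hz.1, huu, smul_zero, sub_zero], fun s => ?_⟩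
    have h1 : s • (z - (B z (e i) / B u (e i)) • u) =
        s • z + (-(s * (B z (e i) / B u (e i)))) • u := by module
    rw [h1, sieg_add_smul Q B hQs hQp hu (by rw [map_smul, hz.1, smul_zero])]
    exact hz.2 s
  have hQz0 : Q (z - (B z (e i) / B u (e i)) • u) = Q z := by
    have h1 : z - (B z (e i) / B u (e i)) • u = z + (-(B z (e i) / B u (e i))) • u := by module
    rw [h1, Q_add_smul Q B hQs hQp, hu, hsymm z u, hz.1]
    ring
  have hBz0 : B (z - (B z (e i) / B u (e i)) • u) (e i) = 0 := by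
    rw [map_sub, map_smul, LinearMap.sub_apply, LinearMap.smul_apply, smul_eq_mul,
      div_mul_cancel₀ _ hui, sub_self]
  have hεz : zJ B c e {i} (z - (B z (e i) / B u (e i)) • u) = z - (B z (e i) / B u (e i)) • u := by
    rw [hεv, hBz0, mul_zero, zero_smul, sub_zero]
  have hεu : zJ B c e {i} u = u - (c⁻¹ * B u (e i)) • e i := hεv u
  have hb : B u (zJ B c e {i} u) = -(c⁻¹ * B u (e i) * B u (e i)) := by
    rw [hεu, map_sub, map_smul, huu, smul_eq_mul]
    ring
  have hb0 : B u (zJ B c e {i} u) ≠ 0 := by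
    rw [hb]
    exact neg_ne_zero.mpr (mul_ne_zero (mul_ne_zero (inv_ne_zero c0) hui) hui)
  have hεr : ∀ r, B r u = 0 → B r (zJ B c e {i} u) = 0 → zJ B c e {i} r = r := by
    intro r h1 h2
    rw [hεu, map_sub, map_smul, h1, smul_eq_mul, zero_sub, neg_eq_zero] at h2
    have h3 : B r (e i) = 0 :=
      (mul_eq_zero.mp h2).resolve_left (mul_ne_zero (inv_ne_zero c0) hui)
    rw [hεv, h3, mul_zero, zero_smul, sub_zero]
  have hq0 : Q (z - (B z (e i) / B u (e i)) • u) ≠ 0 := by rw [hQz0]; exact hq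
  obtain ⟨m, hmL, hm1, hm2⟩ := exists_diag hQs hQp fr.h2 hW hu hz0 hq0 (hC.hz i)
    (fr.zJ_mem_oG {i}) hεε hεz hb0 hεr ht
  refine ⟨m, hmL, fun x => ?_, fun x => ?_⟩
  · rw [hm1 x]
    unfold mF
    rw [hb, hQz0, hεu]
    simp only [map_sub, map_smul, smul_eq_mul]
  · rw [hm2 x]
    unfold mF
    rw [hb, hQz0, hεu]
    simp only [map_sub, map_smul, smul_eq_mul, inv_inv]

/-- GROW-C2 with the statement of GROW-WEYL as a hypothesis. -/
theorem c2_of (hW : WeylSpec Q B) (hC : GCtx Q B c e L) {u z : V} (hu : Q u = 0)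
    (hz : InZ Q B L u z) (hq : Q z ≠ 0)
    {i j : ι} (hij : i ≠ j) (hui : B u (e i) ≠ 0) (huj : B u (e j) ≠ 0) {t : F} (ht : t ≠ 0)
    (hk : 4 * c * Q z * (co B c e u i) ^ 2 * t ^ 2 ≠ 1) :
    InZ Q B L u (co B c e u j • e i - co B c e u i • e j) := by
  have fr := hC.fr
  have hQs := fr.hQs
  have hQp := fr.hQp
  have hsymm : ∀ x y : V, B x y = B y x := fr.symm
  have c0 := fr.c0
  have h2 := fr.h2
  have huu : B u u = 0 := by rw [B_self Q B hQs hQp, hu, mul_zero]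
  have htj : t * B u (e i) / B u (e j) ≠ 0 := div_ne_zero (mul_ne_zero ht hui) huj
  obtain ⟨mi, hmiL, hmi, -⟩ := exists_mi hC hW hu hz hq i hui ht
  obtain ⟨mj, hmjL, -, hmj⟩ := exists_mi hC hW hu hz hq j huj htj
  have hκj : -(c⁻¹ * B u (e j) * B u (e j)) * Q z * (t * B u (e i) / B u (e j)) *
      (t * B u (e i) / B u (e j)) = -(c⁻¹ * B u (e i) * B u (e i)) * Q z * t * t := by
    field_simp
  rw [hκj] at hmj
  set ai := B u (e i) with hai
  set aj := B u (e j) with haj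
  set bi := B z (e i) with hbi
  set bj := B z (e j) with hbj
  set q := Q z with hqd
  set κ := -(c⁻¹ * ai * ai) * q * t * t with hκ
  have hκ0 : κ ≠ 0 := by
    rw [hκ]
    exact mul_ne_zero (mul_ne_zero (mul_ne_zero (neg_ne_zero.mpr
      (mul_ne_zero (mul_ne_zero (inv_ne_zero c0) hui) hui)) hq) ht) ht
  have hκ1 : κ + 1 ≠ 0 := by
    intro h
    apply hk
    unfold co
    rw [← hai]
    have h3 : κ = -1 := by linear_combination h
    rw [hκ] at h3
    field_simp at h3 ⊢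
    linear_combination (-4 : F) * h3
  set γ := κ * (bi * aj - bj * ai) / (q * ai * aj) with hγ
  set y : V := (-((κ + 1) / ai)) • e i + ((κ + 1) / aj) • e j + γ • z with hy
  have hei : B (e i) (e i) = 2 * c := fr.Bee i
  have hej : B (e j) (e j) = 2 * c := fr.Bee j
  have heij : B (e i) (e j) = 0 := fr.orth i j hij
  have heji : B (e j) (e i) = 0 := fr.orth j i (Ne.symm hij)
  have hzz : B z z = 2 * q := B_self Q B hQs hQp z
  have huy : B u y = 0 := by
    simp only [hy, map_add, map_smul, smul_eq_mul, hz.1, ← hai, ← haj]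
    field_simp
    ring
  have hQy : Q y = (-((κ + 1) / ai)) ^ 2 * c + ((κ + 1) / aj) ^ 2 * c + γ ^ 2 * q
      + (-((κ + 1) / ai)) * γ * bi + ((κ + 1) / aj) * γ * bj := by
    have h1 : B y y = 2 * Q y := B_self Q B hQs hQp y
    have h3 : B y y = 2 * ((-((κ + 1) / ai)) ^ 2 * c + ((κ + 1) / aj) ^ 2 * c + γ ^ 2 * q
      + (-((κ + 1) / ai)) * γ * bi + ((κ + 1) / aj) * γ * bj) := by
      simp only [hy, map_add, map_smul, LinearMap.add_apply, LinearMap.smul_apply, smul_eq_mul,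
        hei, hej, heij, heji, hzz, hsymm (e i) z, hsymm (e j) z, ← hbi, ← hbj]
      ring
    rw [h1] at h3
    exact mul_left_cancel₀ h2 h3
  have hcc : mj⁻¹ * mi = sieg Q B u y := by
    ext x
    rw [LinearEquiv.mul_apply, hmi, hmj, sieg_apply Q B hQs hQp hu huy, hQy,
      big_identity (B := B) (ai := ai) (aj := aj) (bi := bi) (bj := bj) h2 c0 hq hκ0 hui huj huu
        rfl (hsymm (e i) u) rfl rfl rfl (by rw [hsymm, hz.1]) hz.1 heij (hsymm (e i) z) hzz]
    simp only [hy, map_add, map_smul, smul_eq_mul]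
    match_scalars <;> ring
  have hyL : sieg Q B u y ∈ L := by
    rw [← hcc]
    exact L.mul_mem (L.inv_mem hmjL) hmiL
  have : Finite F := Nat.finite_of_card_ne_zero hC.hp.ne_zero
  have hyZ : InZ Q B L u y := inZ_of_mem hQs hQp hC.hp hu huy hyL
  have hT : co B c e u j • e i - co B c e u i • e j =
      (-((2 * c)⁻¹ * ai * aj / (κ + 1))) • (y - γ • z) := by
    unfold co
    rw [hy, ← hai, ← haj]
    match_scalars <;> field_simp <;> ring
  rw [hT]
  exact inZ_smul' _ (inZ_sub' hQs hQp hu hyZ (inZ_smul' γ hz))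

/-- the statement of GROW-WEYL holds (helper88) -/
lemma weylSpec_of (hQs : ∀ (a : F) (v : V), Q (a • v) = a * a * Q v)
    (hQp : ∀ u v : V, Q (u + v) = Q u + Q v + B u v) : WeylSpec Q B :=
  fun u u1 z t hu hu1 hb huz hu1z hq ht =>
    Cfsg.Agent.Lib.Helper88_GROW_WEYL.weyl_spec hQs hQp hu hu1 hb huz hu1z hq ht

/-- **GROW-C2** (XL; the heart). -/
theorem c2 (hC : GCtx Q B c e L) {u z : V} (hu : Q u = 0) (hz : InZ Q B L u z) (hq : Q z ≠ 0)
    {i j : ι} (hij : i ≠ j) (hui : B u (e i) ≠ 0) (huj : B u (e j) ≠ 0) {t : F} (ht : t ≠ 0)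
    (hk : 4 * c * Q z * (co B c e u i) ^ 2 * t ^ 2 ≠ 1) :
    InZ Q B L u (co B c e u j • e i - co B c e u i • e j) :=
  c2_of (weylSpec_of hC.fr.hQs hC.fr.hQp) hC hu hz hq hij hui huj ht hk

end Cfsg.Agent.Lib.Helper65_GROW_C2
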