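import Cfsg.Agent.Lib.Helper37_GROW_ENDaux
import Cfsg.Agent.Lib.Helper65_GROW_C2
import Cfsg.Agent.Lib.Helper60_GROW_SPAN

/-!
# GROW-END (helper80's GROW market), verbatim package statement

`grow_end` is `Helper37_GROW_ENDaux.grow_end_of` with its two hypotheses discharged by
`Helper65_GROW_C2.c2` and `Helper60_GROW_SPAN.inZ_of_span`.
-/

set_option autoImplicit false
set_option linter.unusedSimpArgs false
set_option linter.unusedVariables false
set_option linter.unusedSectionVars false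

namespace Cfsg.Agent.Lib.Helper37_GROW_END

open Module Cfsg.Agent.Lib.Helper94_Symp Cfsg.Agent.Lib.Helper94_OrthSmall
  Cfsg.Agent.Lib.Helper94_OrthSiegel Cfsg.Agent.Lib.Helper94_OrthSiegel2
  Cfsg.Agent.Lib.Helper94_OrthNondeg Cfsg.Agent.Lib.Helper94_OrthVec
  Cfsg.Agent.Lib.Helper32_OFDefs Cfsg.Agent.Lib.Helper32_OFRoot
  Cfsg.Agent.Lib.Helper80_GrowDefs

variable {F V : Type*} [Field F] [AddCommGroup V] [Module F V]
variable {Q : V → F} {B : LinearMap.BilinForm F V}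
variable {ι : Type*} [Fintype ι] [DecidableEq ι] {c : F} {e : ι → V}
variable {L : Subgroup (V ≃ₗ[F] V)}

theorem grow_end (hC : GCtx Q B c e L) {w : V} (hw : Q w = 0)
    (hw0 : w ≠ 0) {k : ι} (hwk : B w (e k) = 0) (h : InZ Q B L w (e k))
    {k' k'' : ι} (hkk' : k ≠ k') (hkk'' : k ≠ k'') (hk'k'' : k' ≠ k'') (hwk' : B w (e k') = 0)
    (hwk'' : B w (e k'') = 0) :
    ∀ u z, Q u = 0 → B u z = 0 → sieg Q B u z ∈ L :=
  Cfsg.Agent.Lib.Helper37_GROW_ENDaux.grow_end_of hC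
    (fun hu hz hq _ _ hij hui huj _ ht hk =>
      Cfsg.Agent.Lib.Helper65_GROW_C2.c2 hC hu hz hq hij hui huj ht hk)
    (fun hu S hJ h1 h2 => Cfsg.Agent.Lib.Helper60_GROW_SPAN.inZ_of_span hC hu S hJ h1 h2)
    hw hw0 hwk h hkk' hkk'' hk'k'' hwk' hwk''

end Cfsg.Agent.Lib.Helper37_GROW_END
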