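import Mathlib
import Cfsg.Agent.Lib.Helper32_OFDefs
import Cfsg.Agent.Lib.Helper32_OFRoot
import Cfsg.Agent.Lib.Helper31_OF_API
import Cfsg.Agent.Lib.Helper94_OrthVec
import Cfsg.Agent.Lib.Helper94_OrthNondeg
import Cfsg.Agent.Lib.Helper80_GrowDefs

set_option autoImplicit false
set_option linter.unusedSimpArgs false
set_option linter.unusedVariables false
set_option linter.unusedSectionVars false

/-!
GROW-END (orthogonal frames, rows S5679 + S5696), hypothesis form: the statements of GROW-C2 and GROW-SPAN are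
hypotheses `hC2`, `hSPAN`.
-/

namespace Cfsg.Agent.Lib.Helper37_GROW_ENDaux

open Module Cfsg.Agent.Lib.Helper94_Symp Cfsg.Agent.Lib.Helper94_OrthSmall
  Cfsg.Agent.Lib.Helper94_OrthSiegel Cfsg.Agent.Lib.Helper94_OrthSiegel2
  Cfsg.Agent.Lib.Helper94_OrthNondeg Cfsg.Agent.Lib.Helper94_OrthVec
  Cfsg.Agent.Lib.Helper32_OFDefs Cfsg.Agent.Lib.Helper32_OFRoot
  Cfsg.Agent.Lib.Helper80_GrowDefs

variable {F V : Type*} [Field F] [AddCommGroup V] [Module F V]
variable {Q : V → F} {B : LinearMap.BilinForm F V}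
variable {ι : Type*} [Fintype ι] [DecidableEq ι] {c : F} {e : ι → V}
variable {L : Subgroup (V ≃ₗ[F] V)}

/-- a space with an orthogonal frame is finite-dimensional -/
theorem finiteDimensional_of_OFr (hfr : OFr Q B c e) : FiniteDimensional F V := by
  rw [FiniteDimensional, Module.finite_def, Submodule.fg_def]
  refine ⟨Set.range e, Set.finite_range e, ?_⟩
  rw [eq_top_iff]
  intro v _
  rw [hfr.exp v]
  exact Submodule.sum_mem _ fun i _ => Submodule.smul_mem _ _ (Submodule.subset_span ⟨i, rfl⟩)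

/-- a linear map fixing the frame vectors outside `{a, b, d}` fixes every vector whose coordinates at `a, b, d`
vanish -/
theorem fix_of_zero_coords (hfr : OFr Q B c e) {τ : V ≃ₗ[F] V} {a b d : ι}
    (hτ : ∀ i, i ≠ a → i ≠ b → i ≠ d → τ (e i) = e i) {w : V} (ha : B w (e a) = 0) (hb : B w (e b) = 0)
    (hd : B w (e d) = 0) : τ w = w := by
  conv_lhs => rw [hfr.exp w]
  conv_rhs => rw [hfr.exp w]
  rw [map_sum]
  refine Finset.sum_congr rfl fun i _ => ?_
  rw [map_smul]
  by_cases hia : i = a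
  · rw [hia, ha, mul_zero, zero_smul, zero_smul]
  by_cases hib : i = b
  · rw [hib, hb, mul_zero, zero_smul, zero_smul]
  by_cases hid : i = d
  · rw [hid, hd, mul_zero, zero_smul, zero_smul]
  rw [hτ i hia hib hid]

/-- a field of prime order in which `3 = 0` has three elements, so its non-zero elements have square one -/
theorem sq_eq_one_of_three [Finite F] (hp : (Nat.card F).Prime) (h3 : (3 : F) = 0) {x : F} (hx : x ≠ 0) :
    x ^ 2 = 1 := by
  classical
  have := Fintype.ofFinite F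
  have hcard : Nat.card F = Fintype.card F := Nat.card_eq_fintype_card
  -- the characteristic is `3`
  obtain ⟨r, hr⟩ := CharP.exists F
  have h3' : ((3 : ℕ) : F) = 0 := by exact_mod_cast h3
  have hr3 : r ∣ 3 := (CharP.cast_eq_zero_iff F r 3).mp h3'
  have hr1 : r ≠ 1 := CharP.char_ne_one F r
  have hr' : r = 3 := by
    rcases (Nat.dvd_prime Nat.prime_three).mp hr3 with h | h
    · exact absurd h hr1
    · exact h
  subst hr'
  have hdvd : 3 ∣ Fintype.card F := by
    have h0 : ((Fintype.card F : ℕ) : F) = 0 := Nat.cast_card_eq_zero F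
    exact (CharP.cast_eq_zero_iff F 3 _).mp h0
  have hc3 : Fintype.card F = 3 := by
    rw [hcard] at hp
    exact ((Nat.prime_dvd_prime_iff_eq Nat.prime_three hp).mp hdvd).symm
  have := FiniteField.pow_card_sub_one_eq_one x hx
  rwa [hc3] at this

/-- GROW-END with the statements of GROW-C2 and GROW-SPAN as hypotheses. -/
theorem grow_end_of (hC : GCtx Q B c e L)
    (hC2 : ∀ {u z : V}, Q u = 0 → InZ Q B L u z → Q z ≠ 0 → ∀ {i j : ι}, i ≠ j → B u (e i) ≠ 0 →
      B u (e j) ≠ 0 → ∀ {t : F}, t ≠ 0 → 4 * c * Q z * (co B c e u i) ^ 2 * t ^ 2 ≠ 1 →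
      InZ Q B L u (co B c e u j • e i - co B c e u i • e j))
    (hSPAN : ∀ {u : V}, Q u = 0 → ∀ S : Finset ι, (∀ i, B u (e i) ≠ 0 → i ∈ S) →
      (∀ i j, i ≠ j → B u (e i) ≠ 0 → B u (e j) ≠ 0 →
        InZ Q B L u (co B c e u j • e i - co B c e u i • e j)) →
      (∀ k ∈ S, B u (e k) = 0 → InZ Q B L u (e k)) → ∀ y ∈ VS B e S, B u y = 0 → InZ Q B L u y)
    {w : V} (hw : Q w = 0)
    (hw0 : w ≠ 0) {k : ι} (hwk : B w (e k) = 0) (h : InZ Q B L w (e k))
    {k' k'' : ι} (hkk' : k ≠ k') (hkk'' : k ≠ k'') (hk'k'' : k' ≠ k'') (hwk' : B w (e k') = 0)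
    (hwk'' : B w (e k'') = 0) :
    ∀ u z, Q u = 0 → B u z = 0 → sieg Q B u z ∈ L := by
  have hfr := hC.fr
  have hQs := hfr.hQs
  have hQp := hfr.hQp
  have hfin : Finite F := Nat.finite_of_card_ne_zero hC.hp.ne_zero
  have hFD := finiteDimensional_of_OFr hfr
  -- (1) every zero coordinate of `w` gives an element of `Z_w`
  have h1 : ∀ l, B w (e l) = 0 → InZ Q B L w (e l) := by
    intro l hl
    by_cases hlk : l = k
    · rw [hlk]; exact h
    obtain ⟨d, hdk, hdl, hwd⟩ : ∃ d, d ≠ k ∧ d ≠ l ∧ B w (e d) = 0 := by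
      by_cases hlk' : l = k'
      · exact ⟨k'', hkk''.symm, by rw [hlk']; exact hk'k''.symm, hwk''⟩
      · exact ⟨k', hkk'.symm, fun h => hlk' h.symm, hwk'⟩
    obtain ⟨τ, hτL, hτ1, hτ2, hτ3, hτfix⟩ := hC.h3 k l d (Ne.symm hlk) hdk.symm hdl.symm
    have hτw : τ w = w := fix_of_zero_coords hfr hτfix hwk hl hwd
    have := InZ_map hQs hQp hτL (hC.hLO hτL) hw h
    rwa [hτw, hτ1] at this
  -- (2) `z' = e k + e k'`
  have hQz' : Q (e k + e k') = 2 * c := by
    rw [hQp, hfr.Qe, hfr.Qe, hfr.orth k k' hkk']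
    ring
  have hz' : InZ Q B L w (e k + e k') := InZ_add hQs hQp hw h (h1 k' hwk')
  have hQz'0 : Q (e k + e k') ≠ 0 := by rw [hQz']; exact hfr.two_c
  -- (3) GROW-C2
  have h3 : ∀ i j, i ≠ j → B w (e i) ≠ 0 → B w (e j) ≠ 0 →
      InZ Q B L w (co B c e w j • e i - co B c e w i • e j) := by
    intro i j hij hi hj
    have hcoi : co B c e w i ≠ 0 := by
      unfold co
      exact mul_ne_zero (inv_ne_zero hfr.two_c) hi
    by_cases hx : 4 * c * Q (e k + e k') * (co B c e w i) ^ 2 * (1 : F) ^ 2 ≠ 1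
    · exact hC2 hw hz' hQz'0 hij hi hj one_ne_zero hx
    · rw [not_not, one_pow, mul_one] at hx
      by_cases h30 : (3 : F) = 0
      · exfalso
        have hc2 : c ^ 2 = 1 := sq_eq_one_of_three hC.hp h30 hfr.c0
        have hw2 : (co B c e w i) ^ 2 = 1 := sq_eq_one_of_three hC.hp h30 hcoi
        rw [hQz', hw2, mul_one] at hx
        have : (8 : F) * c ^ 2 = 1 := by rw [← hx]; ring
        rw [hc2, mul_one] at this
        have h81 : (8 : F) - 1 = 0 := by rw [this]; ring
        have h7 : (8 : F) - 1 = 2 * 3 + 1 := by ring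
        rw [h7, h30, mul_zero, zero_add] at h81
        exact one_ne_zero h81
      · have h2 : (2 : F) ≠ 0 := hfr.h2
        refine hC2 hw hz' hQz'0 hij hi hj h2 ?_
        rw [hx, one_mul]
        intro h4
        apply h30
        have : (3 : F) = 2 ^ 2 - 1 := by ring
        rw [this, h4, sub_self]
  -- (4) GROW-SPAN
  have hS := hSPAN hw Finset.univ (fun i _ => Finset.mem_univ i) h3 (fun l _ hl => h1 l hl)
  have full : ∀ y, B w y = 0 → sieg Q B w y ∈ L := by
    intro y hy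
    have := (hS y (fun i hi => absurd (Finset.mem_univ i) hi) hy).2 1
    rwa [one_smul] at this
  -- (5) the same at `ε_i w`
  obtain ⟨i, hi⟩ : ∃ i, B w (e i) ≠ 0 := by
    by_contra hne0
    have hne : ∀ i, B w (e i) = 0 := fun i => by_contra fun h => hne0 ⟨i, h⟩
    apply hw0
    apply hfr.ext
    intro i
    rw [hne i]
    simp
  have hεL : zJ B c e {i} ∈ L := hC.hz i
  have hεO : zJ B c e {i} ∈ oG Q := hfr.zJ_mem_oG {i}
  have hw2 : Q (zJ B c e {i} w) = 0 := by rw [hεO, hw]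
  have full2 : ∀ z, B (zJ B c e {i} w) z = 0 → sieg Q B (zJ B c e {i} w) z ∈ L := by
    intro z hz
    have h4 : B w ((zJ B c e {i})⁻¹ z) = 0 := by
      rw [← oG_B Q B hQp hεO, apply_inv_apply']
      exact hz
    have h5 := conj_sieg Q B hQs hQp hεO hw h4
    rw [apply_inv_apply'] at h5
    rw [← h5]
    exact L.mul_mem (L.mul_mem hεL (full _ h4)) (L.inv_mem hεL)
  have h12 : B w (zJ B c e {i} w) ≠ 0 := by
    rw [hfr.zJ_apply, Finset.sum_singleton, map_sub, map_smul, B_self Q B hQs hQp, hw, mul_zero,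
      zero_sub, smul_eq_mul, neg_ne_zero]
    exact mul_ne_zero (mul_ne_zero (inv_ne_zero hfr.c0) hi) hi
  exact all_of_pair Q B hQs hQp hfr.nondeg L hC.hLO ⟨hw, full⟩ ⟨hw2, full2⟩ h12

end Cfsg.Agent.Lib.Helper37_GROW_ENDaux
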