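import Mathlib
import Cfsg.Agent.Lib.Helper32_OFDefs
import Cfsg.Agent.Lib.Helper32_OFRoot
import Cfsg.Agent.Lib.Helper31_OF_API
import Cfsg.Agent.Lib.Helper94_OrthVec
import Cfsg.Agent.Lib.Helper94_OrthNondeg
import Cfsg.Agent.Lib.Helper80_GrowDefs
import Cfsg.Agent.Lib.Helper37_GROW_ENDaux

set_option autoImplicit false
set_option linter.unusedSimpArgs false
set_option linter.unusedVariables false
set_option linter.unusedSectionVars false

/-!
GROW-TOR3 (orthogonal frames, rows S5679 + S5696), hypothesis form: the statement of GROW-WEYL is the hypothesis `hW`.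
-/

namespace Cfsg.Agent.Lib.Helper37_GROW_TOR3aux

open Module Cfsg.Agent.Lib.Helper94_Symp Cfsg.Agent.Lib.Helper94_OrthSmall
  Cfsg.Agent.Lib.Helper94_OrthSiegel Cfsg.Agent.Lib.Helper94_OrthSiegel2
  Cfsg.Agent.Lib.Helper94_OrthNondeg Cfsg.Agent.Lib.Helper94_OrthVec
  Cfsg.Agent.Lib.Helper32_OFDefs Cfsg.Agent.Lib.Helper32_OFRoot
  Cfsg.Agent.Lib.Helper80_GrowDefs

variable {F V : Type*} [Field F] [AddCommGroup V] [Module F V]
variable {Q : V → F} {B : LinearMap.BilinForm F V}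
variable {ι : Type*} [Fintype ι] [DecidableEq ι] {c : F} {e : ι → V}
variable {L : Subgroup (V ≃ₗ[F] V)}

/-- GROW-TOR3 with the statement of GROW-WEYL as a hypothesis. -/
theorem tor3_of (hC : GCtx Q B c e L)
    (hW : ∀ {u u1 z : V}, Q u = 0 → Q u1 = 0 → B u u1 ≠ 0 → B u z = 0 → B u1 z = 0 → Q z ≠ 0 →
      ∀ {t : F}, t ≠ 0 →
      weyl Q B u u1 z t u = (-(B u u1 * Q z * t * t)⁻¹) • u1 ∧
      weyl Q B u u1 z t u1 = (-(B u u1 * Q z * t * t)) • u ∧
      weyl Q B u u1 z t z = -z ∧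
      (∀ r, B r u = 0 → B r u1 = 0 → B r z = 0 → weyl Q B u u1 z t r = r) ∧
      weyl Q B u u1 z t ∈ oG Q)
    (h16 : (16 : F) ≠ 1) {a b d k : ι} (hab : a ≠ b)
    (hak : a ≠ k) (hbk : b ≠ k) (had : a ≠ d) (hbd : b ≠ d) (hkd : k ≠ d)
    (h1 : SgOn Q B L (VS B e {a, b, k})) (h2 : SgOn Q B L (VS B e {a, b, d})) (va vb : F)
    (hv : va ^ 2 + vb ^ 2 = -1) : InZ Q B L (va • e a + vb • e b + e d) (e k) := by
  have hfr := hC.fr
  have hQs := hfr.hQs
  have hQp := hfr.hQp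
  have hBe := hfr.Bee'
  have hfin : Finite F := Nat.finite_of_card_ne_zero hC.hp.ne_zero
  have hFD := Cfsg.Agent.Lib.Helper37_GROW_ENDaux.finiteDimensional_of_OFr hfr
  have h2F : (2 : F) ≠ 0 := hfr.h2
  have hc0 : c ≠ 0 := hfr.c0
  have h4F : (4 : F) ≠ 0 := by
    have : (4 : F) = 2 * 2 := by norm_num
    rw [this]
    exact mul_ne_zero h2F h2F
  -- the vectors
  obtain ⟨v, hvdef⟩ : ∃ v : V, v = va • e a + vb • e b := ⟨_, rfl⟩
  obtain ⟨v', hv'def⟩ : ∃ v' : V, v' = vb • e a - va • e b := ⟨_, rfl⟩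
  obtain ⟨wp, hwpdef⟩ : ∃ wp : V, wp = e k + v' := ⟨_, rfl⟩
  obtain ⟨wm, hwmdef⟩ : ∃ wm : V, wm = e k - v' := ⟨_, rfl⟩
  obtain ⟨w, hwdef⟩ : ∃ w : V, w = v + e d := ⟨_, rfl⟩
  -- coordinates
  have Bv : ∀ i, B v (e i) = va * (if a = i then 2 * c else 0) + vb * (if b = i then 2 * c else 0) := by
    intro i
    rw [hvdef]
    simp only [map_add, map_smul, LinearMap.add_apply, LinearMap.smul_apply, smul_eq_mul, hBe]
  have Bv' : ∀ i, B v' (e i) = vb * (if a = i then 2 * c else 0) - va * (if b = i then 2 * c else 0) := by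
    intro i
    rw [hv'def]
    simp only [map_sub, map_smul, LinearMap.sub_apply, LinearMap.smul_apply, smul_eq_mul, hBe]
  have hsymm := hfr.symm
  -- values of the forms
  have Bvv' : B v v' = 0 := by
    rw [hv'def, map_sub, map_smul, map_smul, Bv, Bv, if_pos rfl, if_neg hab.symm, if_neg hab, if_pos rfl]
    simp only [smul_eq_mul]
    ring
  have Bvk : B v (e k) = 0 := by rw [Bv, if_neg hak, if_neg hbk]; ring
  have Bv'k : B v' (e k) = 0 := by rw [Bv', if_neg hak, if_neg hbk]; ring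
  have Bvd : B v (e d) = 0 := by rw [Bv, if_neg had, if_neg hbd]; ring
  have Bv'd : B v' (e d) = 0 := by rw [Bv', if_neg had, if_neg hbd]; ring
  have Bkd : B (e k) (e d) = 0 := hfr.orth k d hkd
  have Bv'v' : B v' v' = -(2 * c) := by
    have e1 : B v' v' = vb * B v' (e a) - va * B v' (e b) := by
      have e0 : B v' v' = B v' (vb • e a - va • e b) := by rw [← hv'def]
      rw [e0, map_sub, map_smul, map_smul]
      simp only [smul_eq_mul]
    rw [e1, Bv', Bv', if_pos rfl, if_neg hab.symm, if_neg hab, if_pos rfl]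
    linear_combination (2 * c) * hv
  have Bvv : B v v = -(2 * c) := by
    have e1 : B v v = va * B v (e a) + vb * B v (e b) := by
      have e0 : B v v = B v (va • e a + vb • e b) := by rw [← hvdef]
      rw [e0, map_add, map_smul, map_smul]
      simp only [smul_eq_mul]
    rw [e1, Bv, Bv, if_pos rfl, if_neg hab.symm, if_neg hab, if_pos rfl]
    linear_combination (2 * c) * hv
  have Qv : Q v = -c := by
    have := B_self Q B hQs hQp v
    rw [Bvv] at this
    have h3 : (2 : F) * Q v = 2 * (-c) := by rw [← this]; ring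
    exact mul_left_cancel₀ h2F h3
  have Qv' : Q v' = -c := by
    have := B_self Q B hQs hQp v'
    rw [Bv'v'] at this
    have h3 : (2 : F) * Q v' = 2 * (-c) := by rw [← this]; ring
    exact mul_left_cancel₀ h2F h3
  have Bkv' : B (e k) v' = 0 := by rw [hsymm]; exact Bv'k
  have Qwp : Q wp = 0 := by
    rw [hwpdef, hQp, hfr.Qe, Qv', Bkv']
    ring
  have Qwm : Q wm = 0 := by
    have : wm = e k + (-1 : F) • v' := by rw [hwmdef]; module
    rw [this, hQp, hQs, hfr.Qe, Qv', map_smul, Bkv']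
    simp only [smul_eq_mul]
    ring
  have Bwpwm : B wp wm = 4 * c := by
    rw [hwpdef, hwmdef]
    simp only [map_add, map_sub, LinearMap.add_apply, LinearMap.sub_apply, Bkv', hsymm v' (e k), Bv'v',
      hfr.Bee k]
    ring
  have Bwpv : B wp v = 0 := by
    rw [hwpdef, map_add, LinearMap.add_apply, hsymm (e k) v, Bvk, hsymm v' v, Bvv', add_zero]
  have Bwmv : B wm v = 0 := by
    rw [hwmdef, map_sub, LinearMap.sub_apply, hsymm (e k) v, Bvk, hsymm v' v, Bvv', sub_zero]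
  have Qw : Q w = 0 := by
    rw [hwdef, hQp, Qv, hfr.Qe, Bvd]
    ring
  have Bwv' : B w v' = 0 := by
    rw [hwdef, map_add, LinearMap.add_apply, Bvv', hsymm (e d) v', Bv'd, add_zero]
  -- membership in the coordinate subspaces
  have memabk : ∀ x : V, (∀ i, i ≠ a → i ≠ b → i ≠ k → B x (e i) = 0) → x ∈ VS B e {a, b, k} := by
    intro x hx
    rw [mem_VS]
    intro i hi
    simp only [Finset.mem_insert, Finset.mem_singleton, not_or] at hi
    exact hx i hi.1 hi.2.1 hi.2.2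
  have memabd : ∀ x : V, (∀ i, i ≠ a → i ≠ b → i ≠ d → B x (e i) = 0) → x ∈ VS B e {a, b, d} := by
    intro x hx
    rw [mem_VS]
    intro i hi
    simp only [Finset.mem_insert, Finset.mem_singleton, not_or] at hi
    exact hx i hi.1 hi.2.1 hi.2.2
  have Bv0 : ∀ i, i ≠ a → i ≠ b → B v (e i) = 0 := by
    intro i hia hib
    rw [Bv, if_neg (Ne.symm hia), if_neg (Ne.symm hib)]; ring
  have Bv'0 : ∀ i, i ≠ a → i ≠ b → B v' (e i) = 0 := by
    intro i hia hib
    rw [Bv', if_neg (Ne.symm hia), if_neg (Ne.symm hib)]; ring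
  have hv_abk : v ∈ VS B e {a, b, k} := memabk v fun i hia hib _ => Bv0 i hia hib
  have hwp_abk : wp ∈ VS B e {a, b, k} := by
    apply memabk
    intro i hia hib hik
    rw [hwpdef, map_add, LinearMap.add_apply, Bv'0 i hia hib, hfr.orth k i (Ne.symm hik), add_zero]
  have hwm_abk : wm ∈ VS B e {a, b, k} := by
    apply memabk
    intro i hia hib hik
    rw [hwmdef, map_sub, LinearMap.sub_apply, Bv'0 i hia hib, hfr.orth k i (Ne.symm hik), sub_zero]
  have hw_abd : w ∈ VS B e {a, b, d} := by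
    apply memabd
    intro i hia hib hid
    rw [hwdef, map_add, LinearMap.add_apply, Bv0 i hia hib, hfr.orth d i (Ne.symm hid), add_zero]
  have hv'_abd : v' ∈ VS B e {a, b, d} := memabd v' fun i hia hib _ => Bv'0 i hia hib
  -- the root groups
  have hZp : InZ Q B L wp v :=
    ⟨Bwpv, fun s => h1 wp hwp_abk (s • v) (Submodule.smul_mem _ _ hv_abk) Qwp
      (by rw [map_smul, Bwpv, smul_zero])⟩
  have hZm : InZ Q B L wm v :=
    ⟨Bwmv, fun s => h1 wm hwm_abk (s • v) (Submodule.smul_mem _ _ hv_abk) Qwm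
      (by rw [map_smul, Bwmv, smul_zero])⟩
  have hZw : InZ Q B L w v' :=
    ⟨Bwv', fun s => h2 w hw_abd (s • v') (Submodule.smul_mem _ _ hv'_abd) Qw
      (by rw [map_smul, Bwv', smul_zero])⟩
  -- the Weyl elements
  have hβ : B wp wm ≠ 0 := by rw [Bwpwm]; exact mul_ne_zero h4F hc0
  have hq : Q v ≠ 0 := by rw [Qv]; exact neg_ne_zero.mpr hc0
  obtain ⟨n1p, n1m, n1v, n1r, n1O⟩ := hW Qwp Qwm hβ Bwpv Bwmv hq (t := 1) one_ne_zero
  obtain ⟨n2p, n2m, n2v, n2r, n2O⟩ := hW Qwp Qwm hβ Bwpv Bwmv hq (t := 2) h2F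
  have n1L : weyl Q B wp wm v 1 ∈ L := weyl_mem hZp hZm 1
  have n2L : weyl Q B wp wm v 2 ∈ L := weyl_mem hZp hZm 2
  rw [Bwpwm, Qv] at n1p n1m n2p n2m
  obtain ⟨n1, hn1⟩ : ∃ n1 : V ≃ₗ[F] V, n1 = weyl Q B wp wm v 1 := ⟨_, rfl⟩
  obtain ⟨n2, hn2⟩ : ∃ n2 : V ≃ₗ[F] V, n2 = weyl Q B wp wm v 2 := ⟨_, rfl⟩
  rw [← hn1] at n1p n1m n1v n1r n1O n1L
  rw [← hn2] at n2p n2m n2v n2r n2O n2L
  have hκ1 : (4 * c * -c * 1 * 1 : F) = -(4 * c * c) := by ring
  have hκ2 : (4 * c * -c * 2 * 2 : F) = -(16 * c * c) := by ring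
  rw [hκ1] at n1p n1m
  rw [hκ2] at n2p n2m
  rw [inv_neg, neg_neg] at n1p n2p
  rw [neg_neg] at n1m n2m
  have hcc : (4 * c * c : F) ≠ 0 := mul_ne_zero (mul_ne_zero h4F hc0) hc0
  have h16F : (16 : F) ≠ 0 := by
    have : (16 : F) = 4 * 4 := by norm_num
    rw [this]
    exact mul_ne_zero h4F h4F
  have hcc2 : (16 * c * c : F) ≠ 0 := mul_ne_zero (mul_ne_zero h16F hc0) hc0
  -- the inverse of `n1`
  have i1p : n1⁻¹ wp = (4 * c * c)⁻¹ • wm := by
    apply n1.injective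
    rw [apply_inv_apply', map_smul, n1m, smul_smul, inv_mul_cancel₀ hcc, one_smul]
  have i1m : n1⁻¹ wm = (4 * c * c) • wp := by
    apply n1.injective
    rw [apply_inv_apply', map_smul, n1p, smul_smul, mul_inv_cancel₀ hcc, one_smul]
  have i1v : n1⁻¹ v = -v := by
    apply n1.injective
    rw [apply_inv_apply', map_neg, n1v, neg_neg]
  have i1d : n1⁻¹ (e d) = e d := by
    apply n1.injective
    rw [apply_inv_apply', n1r]
    · rw [hwpdef, map_add, hfr.orth d k hkd.symm, hsymm, Bv'd, add_zero]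
    · rw [hwmdef, map_sub, hfr.orth d k hkd.symm, hsymm (e d) v', Bv'd, sub_zero]
    · rw [hsymm, Bvd]
  -- the torus element
  obtain ⟨g, hg⟩ : ∃ g : V ≃ₗ[F] V, g = n2 * n1⁻¹ := ⟨_, rfl⟩
  have gL : g ∈ L := by rw [hg]; exact L.mul_mem n2L (L.inv_mem n1L)
  have gO : g ∈ oG Q := hC.hLO gL
  have gp : g wp = (4 : F) • wp := by
    rw [hg, LinearEquiv.mul_apply, i1p, map_smul, n2m, smul_smul]
    congr 1
    field_simp
    ring
  have gm : g wm = (4 : F)⁻¹ • wm := by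
    rw [hg, LinearEquiv.mul_apply, i1m, map_smul, n2p, smul_smul]
    congr 1
    field_simp
    ring
  have gv : g v = v := by
    rw [hg, LinearEquiv.mul_apply, i1v, map_neg, n2v, neg_neg]
  have gd : g (e d) = e d := by
    rw [hg, LinearEquiv.mul_apply, i1d, n2r]
    · rw [hwpdef, map_add, hfr.orth d k hkd.symm, hsymm, Bv'd, add_zero]
    · rw [hwmdef, map_sub, hfr.orth d k hkd.symm, hsymm (e d) v', Bv'd, sub_zero]
    · rw [hsymm, Bvd]
  have gw : g w = w := by rw [hwdef, map_add, gv, gd]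
  have hv'2 : v' = (2 : F)⁻¹ • (wp - wm) := by
    rw [hwpdef, hwmdef]
    have : e k + v' - (e k - v') = (2 : F) • v' := by module
    rw [this, smul_smul, inv_mul_cancel₀ h2F, one_smul]
  have gv' : g v' = ((4 + 4⁻¹) / 2 : F) • v' + ((4 - 4⁻¹) / 2 : F) • e k := by
    conv_lhs => rw [hv'2]
    rw [map_smul, map_sub, gp, gm, hwpdef, hwmdef]
    match_scalars <;> field_simp <;> ring
  -- conclusion
  have hZ1 : InZ Q B L w (g v') := by
    have := InZ_map hQs hQp gL gO Qw hZw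
    rwa [gw] at this
  have hZ2 : InZ Q B L w (((4 - 4⁻¹) / 2 : F) • e k) := by
    have := InZ_sub hQs hQp Qw hZ1 (InZ_smul ((4 + 4⁻¹) / 2 : F) hZw)
    rwa [gv', add_sub_cancel_left] at this
  have hα : ((4 - 4⁻¹) / 2 : F) ≠ 0 := by
    apply div_ne_zero _ h2F
    intro h0
    apply h16
    have h5 : (4 : F) = 4⁻¹ := sub_eq_zero.mp h0
    have h6 : (4 : F) * 4 = 1 := by
      nth_rewrite 2 [h5]
      exact mul_inv_cancel₀ h4F
    rw [← h6]; norm_num
  have hZ3 := InZ_smul (((4 - 4⁻¹) / 2 : F))⁻¹ hZ2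
  rw [smul_smul, inv_mul_cancel₀ hα, one_smul] at hZ3
  have hwfin : va • e a + vb • e b + e d = w := by rw [hwdef, hvdef]
  rw [hwfin]
  exact hZ3

end Cfsg.Agent.Lib.Helper37_GROW_TOR3aux
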