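import Mathlib
import Cfsg.Agent.Lib.Helper32_OFDefs
import Cfsg.Agent.Lib.Helper32_OFRoot
import Cfsg.Agent.Lib.Helper31_OF_API
import Cfsg.Agent.Lib.Helper94_OrthVec
import Cfsg.Agent.Lib.Helper94_OrthNondeg
import Cfsg.Agent.Lib.Helper80_GrowDefs
import Cfsg.Agent.Lib.Helper37_GROW_TOR3aux
import Cfsg.Agent.Lib.Helper88_GROW_WEYL

set_option autoImplicit false
set_option linter.unusedSimpArgs false
set_option linter.unusedVariables false
set_option linter.unusedSectionVars false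

/-!
GROW-TOR3 (orthogonal frames, rows S5679 + S5696): the torus trick in a coordinate 3-space.
-/

namespace Cfsg.Agent.Lib.Helper37_GROW_TOR3

open Module Cfsg.Agent.Lib.Helper94_Symp Cfsg.Agent.Lib.Helper94_OrthSmall
  Cfsg.Agent.Lib.Helper94_OrthSiegel Cfsg.Agent.Lib.Helper94_OrthSiegel2
  Cfsg.Agent.Lib.Helper94_OrthNondeg Cfsg.Agent.Lib.Helper94_OrthVec
  Cfsg.Agent.Lib.Helper32_OFDefs Cfsg.Agent.Lib.Helper32_OFRoot
  Cfsg.Agent.Lib.Helper80_GrowDefs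

variable {F V : Type*} [Field F] [AddCommGroup V] [Module F V]
variable {Q : V → F} {B : LinearMap.BilinForm F V}
variable {ι : Type*} [Fintype ι] [DecidableEq ι] {c : F} {e : ι → V}
variable {L : Subgroup (V ≃ₗ[F] V)}

theorem tor3 (hC : GCtx Q B c e L) (h16 : (16 : F) ≠ 1) {a b d k : ι} (hab : a ≠ b)
    (hak : a ≠ k) (hbk : b ≠ k) (had : a ≠ d) (hbd : b ≠ d) (hkd : k ≠ d)
    (h1 : SgOn Q B L (VS B e {a, b, k})) (h2 : SgOn Q B L (VS B e {a, b, d})) (va vb : F)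
    (hv : va ^ 2 + vb ^ 2 = -1) : InZ Q B L (va • e a + vb • e b + e d) (e k) :=
  Cfsg.Agent.Lib.Helper37_GROW_TOR3aux.tor3_of hC
    (fun hu hu1 hb huz hu1z hq _ ht =>
      Cfsg.Agent.Lib.Helper88_GROW_WEYL.weyl_spec hC.fr.hQs hC.fr.hQp hu hu1 hb huz hu1z hq ht)
    h16 hab hak hbk had hbd hkd h1 h2 va vb hv

end Cfsg.Agent.Lib.Helper37_GROW_TOR3
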