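import Cfsg.Agent.Lib.Helper37_InvCentDefs
import Cfsg.Agent.Lib.Helper79_ReeInv_CONJV
import Cfsg.Agent.Lib.Helper52_ReeInv_SYLCONJ
import Cfsg.Agent.Lib.Helper65_ReeInv_THOMPSON

set_option autoImplicit false

/-!
In the abstract setting of `Helper37_InvCentDefs` (a finite group `G` without subgroups of index 2, of order not divisible
by 16, in which `C(a) = ⟨a⟩ × L` with `L` having a self-centralising four-group `V` with `|N_L(V)| = 12`), all involutions
are conjugate.
-/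

namespace Cfsg.Agent.Lib.Helper37_InvConj

open Cfsg.Agent.Lib.Helper37_InvCentDefs

variable {G : Type*} [Group G] [Finite G]

theorem involution_conj {a : G} {L V : Subgroup G} (h : Hyp a L V) (hG : ∀ H : Subgroup G, H.index ≠ 2)
    (h16 : ¬ 16 ∣ Nat.card G) (t : G) (ht : orderOf t = 2) : ∃ g : G, g * a * g⁻¹ = t := by
  have : Fact (Nat.Prime 2) := ⟨Nat.prime_two⟩
  have hconj := Cfsg.Agent.Lib.Helper79_ReeInv_CONJV.conj_in_V h
  have h7 := Cfsg.Agent.Lib.Helper65_ReeInv_THOMPSON.conj_to_a h hG h16 hconj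
  have hp : IsPGroup 2 (Subgroup.zpowers t) := by
    apply IsPGroup.of_card (n := 1)
    rw [Nat.card_zpowers, ht, pow_one]
  obtain ⟨P, hP⟩ := hp.exists_le_sylow
  obtain ⟨g, hg⟩ := Cfsg.Agent.Lib.Helper52_ReeInv_SYLCONJ.exists_conj (Sgp a V) h.card_Sgp h16 P
  have ht1 : t ≠ 1 := by
    intro h1
    rw [h1, orderOf_one] at ht
    omega
  have hmem : g⁻¹ * t * g ∈ Sgp a V := (hg t).mp (hP (Subgroup.mem_zpowers t))
  have hne : g⁻¹ * t * g ≠ 1 := by
    intro h1
    apply ht1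
    calc t = g * (g⁻¹ * t * g) * g⁻¹ := by group
      _ = 1 := by rw [h1]; group
  obtain ⟨n, -, hn⟩ := h7 _ hmem hne
  refine ⟨g * n, ?_⟩
  calc g * n * a * (g * n)⁻¹ = g * (n * a * n⁻¹) * g⁻¹ := by group
    _ = t := by rw [hn]; group

end Cfsg.Agent.Lib.Helper37_InvConj
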