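import Mathlib
import Cfsg.Agent.Lib.Helper37_KWBasic
import Cfsg.Agent.S0559
import Cfsg.Agent.S0561
import Cfsg.Agent.S0562
import Cfsg.Agent.S0566
import Cfsg.Agent.Lib.Helper3_CharBurnside

/-!
# Kegel–Wielandt: generation lemmas in a minimal simple counterexample (helper37)
-/

set_option autoImplicit false
set_option linter.unusedSectionVars false

namespace Cfsg.Agent.Lib.Helper37_KW

open Cfsg.Agent.Lib.Helper34_Sylow
open Pointwise

universe u

variable {G : Type u} [Group G] [Finite G]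

theorem card_subgroupOf_of_le {H N : Subgroup G} (h : H ≤ N) :
    Nat.card (H.subgroupOf N) = Nat.card H :=
  Nat.card_congr (Subgroup.subgroupOfEquivOfLe h).toEquiv

/-- cardinality of a factorized subgroup -/
theorem card_of_fac_in {N A₁ B₁ : Subgroup G} (hA : A₁ ≤ N) (hB : B₁ ≤ N)
    (hd : A₁ ⊓ B₁ = ⊥) (fac : ∀ h ∈ N, ∃ a ∈ A₁, ∃ b ∈ B₁, h = a * b) :
    Nat.card A₁ * Nat.card B₁ = Nat.card N := by
  have h1 : Fac (A₁.subgroupOf N) (B₁.subgroupOf N) := by
    intro g
    obtain ⟨a, ha, b, hb, e⟩ := fac g.1 g.2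
    exact ⟨⟨a, hA ha⟩, Subgroup.mem_subgroupOf.mpr ha, ⟨b, hB hb⟩, Subgroup.mem_subgroupOf.mpr hb,
      Subtype.ext e⟩
  have h2 : A₁.subgroupOf N ⊓ B₁.subgroupOf N = ⊥ := by
    rw [eq_bot_iff]
    rintro x ⟨hx1, hx2⟩
    rw [Subgroup.mem_bot]
    have : x.1 ∈ A₁ ⊓ B₁ := ⟨Subgroup.mem_subgroupOf.mp hx1, Subgroup.mem_subgroupOf.mp hx2⟩
    rw [hd, Subgroup.mem_bot] at this
    exact Subtype.ext this
  have := h1.card_eq h2
  rwa [card_subgroupOf_of_le hA, card_subgroupOf_of_le hB] at this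

/-- Hall property of the `p`-part of a factor inside a factorized subgroup. -/
theorem sy_hall_in {N A₁ B₁ : Subgroup G} (hA : A₁ ≤ N) (hB : B₁ ≤ N)
    (cop : (Nat.card A₁).Coprime (Nat.card B₁))
    (fac : ∀ h ∈ N, ∃ a ∈ A₁, ∃ b ∈ B₁, h = a * b) (p : ℕ) [Fact p.Prime] :
    (Nat.card ((sy p A₁).subgroupOf N)).Coprime ((sy p A₁).subgroupOf N).index := by
  have hle : sy p A₁ ≤ N := le_trans (sy_le p A₁) hA
  have hc : Nat.card ((sy p A₁).subgroupOf N) = p ^ (Nat.card A₁).factorization p := by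
    rw [card_subgroupOf_of_le hle, card_sy]
  have hN := card_of_fac_in hA hB (inf_eq_bot_of_coprime' cop) fac
  have hmul := ((sy p A₁).subgroupOf N).card_mul_index
  rw [hc, ← hN] at hmul
  by_cases hp : p ∣ Nat.card A₁
  · have hpB : ¬ p ∣ Nat.card B₁ := by
      intro hd
      have h1 : p ∣ Nat.gcd (Nat.card A₁) (Nat.card B₁) := Nat.dvd_gcd hp hd
      rw [cop] at h1
      exact (Nat.Prime.one_lt Fact.out).ne' (Nat.dvd_one.mp h1)
    have hsplit := Nat.ordProj_mul_ordCompl_eq_self (Nat.card A₁) p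
    have hidx : ((sy p A₁).subgroupOf N).index = (Nat.card A₁ / p ^ (Nat.card A₁).factorization p)
        * Nat.card B₁ := by
      have hpos : 0 < p ^ (Nat.card A₁).factorization p := pow_pos (Nat.Prime.pos Fact.out) _
      apply Nat.eq_of_mul_eq_mul_left hpos
      rw [hmul, ← mul_assoc, hsplit]
    rw [hc, hidx]
    apply Nat.Coprime.pow_left
    apply Nat.Coprime.mul_right
    · exact Nat.coprime_ordCompl Fact.out Nat.card_pos.ne'
    · exact (Nat.Prime.coprime_iff_not_dvd Fact.out).mpr hpB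
  · rw [hc, Nat.factorization_eq_zero_of_not_dvd hp, pow_zero]
    exact Nat.coprime_one_left _

/-- Wielandt's lemma (S0561) inside a solvable factorized subgroup: the `p`-part of one factor
permutes with the `q`-part of the other. -/
theorem perm_in {N A₁ B₁ : Subgroup G} (hsol : Group.IsSolvable N) (hA : A₁ ≤ N) (hB : B₁ ≤ N)
    (nA : Group.IsNilpotent A₁) (nB : Group.IsNilpotent B₁)
    (cop : (Nat.card A₁).Coprime (Nat.card B₁))
    (fac : ∀ h ∈ N, ∃ a ∈ A₁, ∃ b ∈ B₁, h = a * b) (p q : ℕ) [Fact p.Prime] [Fact q.Prime] :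
    ∃ T : Subgroup G, T ≤ N ∧ (T : Set G) = (sy p A₁ : Set G) * (sy q B₁ : Set G) := by
  have hfac' : ∀ h ∈ N, ∃ b ∈ B₁, ∃ a ∈ A₁, h = b * a := by
    intro h hh
    obtain ⟨a, ha, b, hb, e⟩ := fac h⁻¹ (N.inv_mem hh)
    refine ⟨b⁻¹, B₁.inv_mem hb, a⁻¹, A₁.inv_mem ha, ?_⟩
    rw [← mul_inv_rev, ← e, inv_inv]
  have hPle : sy p A₁ ≤ N := le_trans (sy_le p A₁) hA
  have hQle : sy q B₁ ≤ N := le_trans (sy_le q B₁) hB
  obtain ⟨S, hS⟩ := Cfsg.Agent.S0561.result (G := N) (A₁.subgroupOf N) (B₁.subgroupOf N)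
    ((sy p A₁).subgroupOf N) ((sy q B₁).subgroupOf N)
    (by
      intro g
      obtain ⟨a, ha, b, hb, e⟩ := fac g.1 g.2
      exact ⟨⟨a, hA ha⟩, Subgroup.mem_subgroupOf.mpr ha, ⟨b, hB hb⟩,
        Subgroup.mem_subgroupOf.mpr hb, Subtype.ext e⟩)
    (by
      intro x hx
      rw [Subgroup.mem_subgroupOf] at hx ⊢
      exact sy_le p A₁ hx)
    (by
      constructor
      intro n hn g
      rw [Subgroup.mem_subgroupOf, Subgroup.mem_subgroupOf] at hn ⊢
      exact sy_conj_mem nA (Subgroup.mem_subgroupOf.mp g.2) hn)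
    (by
      intro x hx
      rw [Subgroup.mem_subgroupOf] at hx ⊢
      exact sy_le q B₁ hx)
    (by
      constructor
      intro n hn g
      rw [Subgroup.mem_subgroupOf, Subgroup.mem_subgroupOf] at hn ⊢
      exact sy_conj_mem nB (Subgroup.mem_subgroupOf.mp g.2) hn)
    (sy_hall_in hA hB cop fac p)
    (sy_hall_in hB hA cop.symm hfac' q) 1 1
  rw [map_one, one_smul, one_smul] at hS
  refine ⟨S.map N.subtype, ?_, ?_⟩
  · rintro _ ⟨x, -, rfl⟩
    exact x.2
  · ext x
    constructor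
    · rintro ⟨y, hy, rfl⟩
      have : y ∈ (S : Set N) := hy
      rw [hS] at this
      obtain ⟨a, ha, b, hb, rfl⟩ := this
      exact ⟨a.1, Subgroup.mem_subgroupOf.mp ha, b.1, Subgroup.mem_subgroupOf.mp hb, rfl⟩
    · rintro ⟨a, ha, b, hb, rfl⟩
      have : (⟨a, hPle ha⟩ * ⟨b, hQle hb⟩ : N) ∈ (S : Set N) := by
        rw [hS]
        exact ⟨⟨a, hPle ha⟩, Subgroup.mem_subgroupOf.mpr ha, ⟨b, hQle hb⟩,
          Subgroup.mem_subgroupOf.mpr hb, rfl⟩
      exact ⟨_, this, rfl⟩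

theorem le_of_set_eq {T P Q : Subgroup G} (hT : (T : Set G) = (P : Set G) * (Q : Set G)) :
    P ≤ T ∧ Q ≤ T := by
  constructor
  · intro x hx
    have : x ∈ (T : Set G) := by rw [hT]; exact ⟨x, hx, 1, Q.one_mem, mul_one x⟩
    exact this
  · intro x hx
    have : x ∈ (T : Set G) := by rw [hT]; exact ⟨1, P.one_mem, x, hx, one_mul x⟩
    exact this

theorem card_of_set_eq {T P Q : Subgroup G} (hT : (T : Set G) = (P : Set G) * (Q : Set G))
    (hd : P ⊓ Q = ⊥) : Nat.card P * Nat.card Q = Nat.card T := by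
  obtain ⟨h1, h2⟩ := le_of_set_eq hT
  apply card_of_fac_in h1 h2 hd
  intro t ht
  have : t ∈ (T : Set G) := ht
  rw [hT] at this
  obtain ⟨a, ha, b, hb, e⟩ := this
  exact ⟨a, ha, b, hb, e.symm⟩

theorem mem_normalizer_of_commute {U : Subgroup G} {y : G} (h : ∀ u ∈ U, y * u = u * y) :
    y ∈ Subgroup.normalizer (U : Set G) := by
  rw [Subgroup.mem_normalizer_iff]
  intro u
  constructor
  · intro hu
    have : y * u * y⁻¹ = u := by rw [h u hu]; group
    rw [this]; exact hu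
  · intro hw
    have h1 := h _ hw
    have : u = y * u * y⁻¹ := by
      have h2 : y * u = (y * u * y⁻¹) * y := by group
      have h3 : y * u = y * (y * u * y⁻¹) := by rw [h1]; exact h2
      exact mul_left_cancel h3
    rw [this]; exact hw

theorem prime_eq_of_dvd_pq {s p q a b : ℕ} (hs : s.Prime) (hp : p.Prime) (hq : q.Prime)
    (h : s ∣ p ^ a * q ^ b) : s = p ∨ s = q := by
  rcases (Nat.Prime.dvd_mul hs).mp h with h1 | h1
  · left; exact (Nat.prime_dvd_prime_iff_eq hs hp).mp (hs.dvd_of_dvd_pow h1)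
  · right; exact (Nat.prime_dvd_prime_iff_eq hs hq).mp (hs.dvd_of_dvd_pow h1)

/-- a nontrivial `s`-subgroup of `T` where `|T| = p^a q^b` forces `s ∈ {p,q}` -/
theorem prime_of_pgroup_le {s p q : ℕ} (hs : s.Prime) [Fact p.Prime] [Fact q.Prime]
    {U T P Q : Subgroup G} (hU : IsPGroup s U) (hU1 : U ≠ ⊥) (hUT : U ≤ T)
    (hT : (T : Set G) = (P : Set G) * (Q : Set G)) (hd : P ⊓ Q = ⊥) (hP : IsPGroup p P)
    (hQ : IsPGroup q Q) : s = p ∨ s = q := by
  have := Fact.mk hs
  obtain ⟨a, ha⟩ := IsPGroup.iff_card.mp hP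
  obtain ⟨b, hb⟩ := IsPGroup.iff_card.mp hQ
  obtain ⟨k, hk⟩ := IsPGroup.iff_card.mp hU
  have hk0 : k ≠ 0 := by
    rintro rfl
    rw [pow_zero] at hk
    exact hU1 (Subgroup.card_eq_one.mp hk)
  have h1 : Nat.card U ∣ Nat.card T := Subgroup.card_dvd_of_le hUT
  rw [← card_of_set_eq hT hd, ha, hb, hk] at h1
  exact prime_eq_of_dvd_pq hs Fact.out Fact.out (dvd_trans (dvd_pow_self s hk0) h1)

/-- hypotheses on a factorization -/
structure Hyp (A B : Subgroup G) : Prop where
  nilA : Group.IsNilpotent A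
  nilB : Group.IsNilpotent B
  cop : (Nat.card A).Coprime (Nat.card B)
  fac : Fac A B

namespace Hyp

variable {A B : Subgroup G}

theorem symm (h : Hyp A B) : Hyp B A := ⟨h.nilB, h.nilA, h.cop.symm, h.fac.symm⟩

theorem inf_eq_bot (h : Hyp A B) : A ⊓ B = ⊥ := inf_eq_bot_of_coprime' h.cop

theorem card_eq (h : Hyp A B) : Nat.card A * Nat.card B = Nat.card G :=
  h.fac.card_eq h.inf_eq_bot

theorem index_eq (h : Hyp A B) : A.index = Nat.card B := by
  have h1 := A.card_mul_index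
  rw [← h.card_eq] at h1
  exact Nat.eq_of_mul_eq_mul_left Nat.card_pos h1

theorem hallA (h : Hyp A B) : (Nat.card A).Coprime A.index := by
  rw [h.index_eq]; exact h.cop

theorem hallB (h : Hyp A B) : (Nat.card B).Coprime B.index := h.symm.hallA

theorem cjL (h : Hyp A B) (g : G) : Hyp (cj g A) B := by
  refine ⟨nilpotent_cj g h.nilA, h.nilB, by rw [card_cj]; exact h.cop, ?_⟩
  exact (Cfsg.Agent.S0559.result A B (cj g A) B h.fac ⟨g, rfl⟩ ⟨1, by rw [map_one, one_smul]⟩).1

theorem cjR (h : Hyp A B) (g : G) : Hyp A (cj g B) := (h.symm.cjL g).symm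

end Hyp

/-- a minimal simple counterexample -/
structure Ctx (G : Type u) [Group G] [Finite G] : Prop where
  simple : IsSimpleGroup G
  nonab : ¬ ∀ a b : G, a * b = b * a
  ih : IH G

namespace Ctx

variable (c : Ctx G)
include c

theorem normal_eq {N : Subgroup G} (hN : N.Normal) : N = ⊥ ∨ N = ⊤ :=
  have := c.simple
  hN.eq_bot_or_eq_top

theorem eq_of_normalizer_top {U : Subgroup G} (h : Subgroup.normalizer (U : Set G) = ⊤) :
    U = ⊥ ∨ U = ⊤ :=
  c.normal_eq (Subgroup.normalizer_eq_top_iff.mp h)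

theorem not_solvable : ¬ Group.IsSolvable G := by
  intro h
  have := c.simple
  exact c.nonab (IsSimpleGroup.comm_iff_isSolvable.mpr h)

theorem ne_top {A B : Subgroup G} (h : Hyp A B) : A ≠ ⊤ := by
  intro hA
  apply c.not_solvable
  have h1 : Group.IsNilpotent (⊤ : Subgroup G) := hA ▸ h.nilA
  have h2 : Group.IsNilpotent G :=
    Group.nilpotent_of_mulEquiv (Subgroup.topEquiv (G := G))
  infer_instance

theorem ne_bot {A B : Subgroup G} (h : Hyp A B) : A ≠ ⊥ := by
  intro hA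
  apply c.ne_top h.symm
  rw [eq_top_iff]
  intro g _
  obtain ⟨a, ha, b, hb, e⟩ := h.fac g
  rw [hA, Subgroup.mem_bot] at ha
  rw [e, ha, one_mul]
  exact hb

/-- `K ∋ z`, `B ≤ K`, `A ≤ C(z)`, `G = AB` force `K = G`. -/
theorem principle {A B K : Subgroup G} (h : Fac A B) {z : G} (hz1 : z ≠ 1) (hzK : z ∈ K)
    (hA : ∀ a ∈ A, z * a = a * z) (hB : B ≤ K) : K = ⊤ := by
  have h1 : Subgroup.normalClosure {z} ≤ K := by
    rw [Subgroup.normalClosure, Subgroup.closure_le]
    intro x hx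
    rw [Group.mem_conjugatesOfSet_iff] at hx
    obtain ⟨w, hw, hc⟩ := hx
    rw [Set.mem_singleton_iff] at hw
    subst hw
    rw [isConj_iff] at hc
    obtain ⟨g, rfl⟩ := hc
    obtain ⟨b, hb, a, ha, e⟩ := h.symm g
    have : g * w * g⁻¹ = b * w * b⁻¹ := by
      rw [e]
      have := hA a ha
      calc b * a * w * (b * a)⁻¹ = b * (a * w) * a⁻¹ * b⁻¹ := by group
        _ = b * (w * a) * a⁻¹ * b⁻¹ := by rw [this]
        _ = b * w * b⁻¹ := by group
    rw [SetLike.mem_coe, this]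
    exact K.mul_mem (K.mul_mem (hB hb) hzK) (K.inv_mem (hB hb))
  rcases c.normal_eq (Subgroup.normalClosure_normal (s := {z})) with h2 | h2
  · exfalso
    apply hz1
    have : z ∈ Subgroup.normalClosure {z} := Subgroup.subset_normalClosure (Set.mem_singleton z)
    rwa [h2, Subgroup.mem_bot] at this
  · rw [eq_top_iff, ← h2]; exact h1

/-- Burnside: neither factor has prime power order. -/
theorem two_primes {A B : Subgroup G} (h : Hyp A B) {p : ℕ} (hp : p.Prime)
    (_hpA : p ∣ Nat.card A) : ∃ t : ℕ, t.Prime ∧ t ∣ Nat.card A ∧ t ≠ p := by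
  by_contra hcon
  push Not at hcon
  have hpow : Nat.card A = p ^ (Nat.card A).primeFactorsList.length :=
    Nat.eq_prime_pow_of_unique_prime_dvd Nat.card_pos.ne' (fun {d} hd hdv => hcon d hd hdv)
  have hB1 : Nat.card B ≠ 1 := by
    intro h1
    exact c.ne_bot h.symm (Subgroup.card_eq_one.mp h1)
  obtain ⟨q, hq, hqB⟩ := Nat.exists_prime_and_dvd hB1
  have : Fact q.Prime := ⟨hq⟩
  obtain ⟨y, -, hyo, hyc⟩ := exists_central_prime h.nilB hqB
  have hy1 : y ≠ 1 := by
    intro h1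
    rw [h1, orderOf_one] at hyo
    exact hq.one_lt.ne hyo
  have hle : B ≤ Subgroup.centralizer {y} := by
    intro b hb
    rw [Subgroup.mem_centralizer_singleton_iff]
    exact (hyc b hb).symm
  have hdvd : (Subgroup.centralizer ({y} : Set G)).index ∣ p ^ (Nat.card A).primeFactorsList.length := by
    rw [← hpow, ← h.symm.index_eq]
    exact Subgroup.index_dvd_of_le hle
  obtain ⟨j, -, hj⟩ := (Nat.dvd_prime_pow hp).mp hdvd
  have := c.simple
  have := Fintype.ofFinite G
  have hprime := Cfsg.Agent.Lib.Helper3_CharBurnside.prime_card_of_simple_of_prime_power_class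
    p j hp y hy1 hj
  have : Fact (Nat.card G).Prime := ⟨hprime⟩
  have hcyc : IsCyclic G := isCyclic_of_prime_card (p := Nat.card G) rfl
  exact c.nonab (fun a b => Std.Commutative.comm a b)

/-- Key lemma: if `A0 ⊔ B0` is proper (with `A0 ⊴ A`, `B0 ⊴ B`) then its normalizer `N` is a
proper solvable factorized subgroup, and the `p`-part of `N ⊓ A` permutes with the `q`-part of
`N ⊓ B`. -/
theorem proper_join {A B : Subgroup G} (h : Hyp A B) {A0 B0 : Subgroup G} (hA0 : A0 ≤ A)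
    (hB0 : B0 ≤ B) (hnA : ∀ a ∈ A, ∀ x ∈ A0, a * x * a⁻¹ ∈ A0)
    (hnB : ∀ b ∈ B, ∀ x ∈ B0, b * x * b⁻¹ ∈ B0) (hne1 : A0 ⊔ B0 ≠ ⊥) (hne : A0 ⊔ B0 ≠ ⊤)
    (p q : ℕ) [Fact p.Prime] [Fact q.Prime] :
    ∃ N T : Subgroup G, N = Subgroup.normalizer ((A0 ⊔ B0 : Subgroup G) : Set G) ∧ N ≠ ⊤ ∧
      Group.IsSolvable N ∧ T ≤ N ∧
      (T : Set G) = (sy p (N ⊓ A) : Set G) * (sy q (N ⊓ B) : Set G) := by
  obtain ⟨N, hN⟩ : ∃ N : Subgroup G, N = Subgroup.normalizer ((A0 ⊔ B0 : Subgroup G) : Set G) :=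
    ⟨_, rfl⟩
  have hNtop : N ≠ ⊤ := by
    intro ht
    rw [hN] at ht
    rcases c.eq_of_normalizer_top ht with h1 | h1
    · exact hne1 h1
    · exact hne h1
  have hfac := Cfsg.Agent.S0562.result A B A0 B0 h.fac hA0
    (by
      constructor
      intro n hn g
      rw [Subgroup.mem_subgroupOf] at hn ⊢
      exact hnA g g.2 n hn) hB0
    (by
      constructor
      intro n hn g
      rw [Subgroup.mem_subgroupOf] at hn ⊢
      exact hnB g g.2 n hn)
  rw [← hN] at hfac
  have hcop : (Nat.card (N ⊓ A : Subgroup G)).Coprime (Nat.card (N ⊓ B : Subgroup G)) :=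
    Nat.Coprime.coprime_dvd_left (Subgroup.card_dvd_of_le inf_le_right)
      (Nat.Coprime.coprime_dvd_right (Subgroup.card_dvd_of_le inf_le_right) h.cop)
  have hsol : Group.IsSolvable N :=
    c.ih.solvable_of_fac hNtop inf_le_left inf_le_left (nilpotent_of_le inf_le_right h.nilA)
      (nilpotent_of_le inf_le_right h.nilB) hcop hfac
  obtain ⟨T, hTN, hT⟩ := perm_in hsol inf_le_left inf_le_left
    (nilpotent_of_le inf_le_right h.nilA) (nilpotent_of_le inf_le_right h.nilB) hcop hfac p q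
  exact ⟨N, T, hN, hNtop, hsol, hTN, hT⟩

omit c in
theorem sy_inf_eq {A N : Subgroup G} (hA : Group.IsNilpotent A) {p : ℕ} [Fact p.Prime]
    (hle : sy p A ≤ N) : sy p (N ⊓ A) = sy p A := by
  ext x
  rw [mem_sy (nilpotent_of_le inf_le_right hA), mem_sy hA]
  constructor
  · rintro ⟨⟨-, h2⟩, h3⟩
    exact ⟨h2, h3⟩
  · rintro ⟨h2, h3⟩
    exact ⟨⟨hle ((mem_sy hA).mpr ⟨h2, h3⟩), h2⟩, h3⟩

/-- Step 4: any Sylow subgroup of `A` and any Sylow subgroup of `B` generate `G`. -/
theorem step4 {A B : Subgroup G} (h : Hyp A B) {p q : ℕ} [Fact p.Prime] [Fact q.Prime]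
    (hp : p ∣ Nat.card A) (hq : q ∣ Nat.card B) : sy p A ⊔ sy q B = ⊤ := by
  by_contra hne
  have hP1 : sy p A ≠ ⊥ := sy_ne_bot hp
  have hQ1 : sy q B ≠ ⊥ := sy_ne_bot hq
  have hne1 : sy p A ⊔ sy q B ≠ ⊥ := by
    intro h0
    apply hP1
    rw [eq_bot_iff, ← h0]
    exact le_sup_left
  obtain ⟨N, T, hN, hNtop, -, hTN, hT⟩ := c.proper_join h (sy_le p A) (sy_le q B)
    (fun a ha x hx => sy_conj_mem h.nilA ha hx) (fun b hb x hx => sy_conj_mem h.nilB hb hx)
    hne1 hne p q
  have hleN : sy p A ⊔ sy q B ≤ N := by rw [hN]; exact Subgroup.le_normalizer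
  rw [sy_inf_eq h.nilA (le_trans le_sup_left hleN),
    sy_inf_eq h.nilB (le_trans le_sup_right hleN)] at hT
  have hTtop : T ≠ ⊤ := by
    intro ht
    apply hNtop
    rw [eq_top_iff, ← ht]
    exact hTN
  have hkegel : ∀ x : G, ∃ S : Subgroup G, S ≠ ⊤ ∧
      (S : Set G) = (sy p A : Set G) * ((MulAut.conj x • sy q B : Subgroup G) : Set G) := by
    intro x
    obtain ⟨a, ha, b, hb, e⟩ := h.fac x
    refine ⟨cj a T, ?_, ?_⟩
    · intro ht
      apply hTtop
      have := cj_inv_cj a T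
      rw [ht] at this
      rw [← this]
      ext y
      simp only [Subgroup.mem_top, iff_true]
      rw [mem_cj]
      trivial
    · ext y
      rw [SetLike.mem_coe, mem_cj, ← SetLike.mem_coe, hT]
      constructor
      · rintro ⟨u, hu, v, hv, huv⟩
        refine ⟨a * u * a⁻¹, sy_conj_mem h.nilA ha hu, a * v * a⁻¹, ?_, ?_⟩
        · rw [SetLike.mem_coe, ← cj_eq_smul, mem_cj, e]
          have : (a * b)⁻¹ * (a * v * a⁻¹) * (a * b) = b⁻¹ * v * b⁻¹⁻¹ := by group
          rw [this]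
          exact sy_conj_mem h.nilB (B.inv_mem hb) hv
        · simp only at huv
          have : y = a * (a⁻¹ * y * a) * a⁻¹ := by group
          rw [this, ← huv]; group
      · rintro ⟨u, hu, w, hw, huw⟩
        rw [SetLike.mem_coe, ← cj_eq_smul, mem_cj, e] at hw
        have hw' : a⁻¹ * w * a ∈ sy q B := by
          have := sy_conj_mem h.nilB hb hw
          have e2 : b * ((a * b)⁻¹ * w * (a * b)) * b⁻¹ = a⁻¹ * w * a := by group
          rwa [e2] at this
        refine ⟨a⁻¹ * u * a, ?_, a⁻¹ * w * a, hw', ?_⟩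
        · have := sy_conj_mem h.nilA (A.inv_mem ha) hu
          rwa [inv_inv] at this
        · simp only at huw
          rw [← huw]; group
  obtain ⟨N', hN'n, hN't, hor⟩ := Cfsg.Agent.S0566.result (sy p A) (sy q B) hP1 hQ1 hkegel
  rcases c.normal_eq hN'n with h0 | h0
  · rcases hor with h1 | h1
    · exact hP1 (by rw [eq_bot_iff, ← h0]; exact h1)
    · exact hQ1 (by rw [eq_bot_iff, ← h0]; exact h1)
  · exact hN't h0

omit c in
theorem le_sy_of_pgroup {A A0 : Subgroup G} (hA : Group.IsNilpotent A) {p : ℕ} [Fact p.Prime]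
    (hle : A0 ≤ A) (hp : IsPGroup p A0) : A0 ≤ sy p A := by
  intro x hx
  rw [mem_sy hA]
  refine ⟨hle hx, ?_⟩
  obtain ⟨k, hk⟩ := hp ⟨x, hx⟩
  exact ⟨k, by simpa using congrArg Subtype.val hk⟩

omit c in
theorem dvd_card_of_pgroup {A A0 : Subgroup G} {p : ℕ} [Fact p.Prime]
    (hle : A0 ≤ A) (hp : IsPGroup p A0) (h1 : A0 ≠ ⊥) : p ∣ Nat.card A := by
  obtain ⟨k, hk⟩ := IsPGroup.iff_card.mp hp
  have hk0 : k ≠ 0 := by
    rintro rfl
    rw [pow_zero] at hk
    exact h1 (Subgroup.card_eq_one.mp hk)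
  have h2 : Nat.card A0 ∣ Nat.card A := Subgroup.card_dvd_of_le hle
  rw [hk] at h2
  exact dvd_trans (dvd_pow_self p hk0) h2

/-- Step 5: a nontrivial central `p`-subgroup of `A` and a Sylow subgroup of `B` generate `G`. -/
theorem step5 {A B : Subgroup G} (h : Hyp A B) {p q : ℕ} [Fact p.Prime] [Fact q.Prime]
    (hq : q ∣ Nat.card B) {A0 : Subgroup G} (hA0 : A0 ≤ A) (hA0p : IsPGroup p A0)
    (hA01 : A0 ≠ ⊥) (hc : ∀ x ∈ A0, ∀ a ∈ A, x * a = a * x) : A0 ⊔ sy q B = ⊤ := by
  by_contra hne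
  have hpA : p ∣ Nat.card A := dvd_card_of_pgroup hA0 hA0p hA01
  have hne1 : A0 ⊔ sy q B ≠ ⊥ := by
    intro h0
    apply hA01
    rw [eq_bot_iff, ← h0]
    exact le_sup_left
  obtain ⟨N, T, hN, hNtop, hsolN, hTN, hT⟩ := c.proper_join h hA0 (sy_le q B)
    (fun a ha x hx => by
      have := hc x hx a ha
      have e : a * x * a⁻¹ = x := by rw [← this]; group
      rw [e]; exact hx)
    (fun b hb x hx => sy_conj_mem h.nilB hb hx) hne1 hne p q
  have hleN : A0 ⊔ sy q B ≤ N := by rw [hN]; exact Subgroup.le_normalizer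
  rw [sy_inf_eq h.nilB (le_trans le_sup_right hleN)] at hT
  obtain ⟨hPT, hQT⟩ := le_of_set_eq hT
  have hA0T : A0 ≤ T := by
    refine le_trans ?_ hPT
    exact le_sy_of_pgroup (nilpotent_of_le inf_le_right h.nilA)
      (le_inf (le_trans le_sup_left hleN) hA0) hA0p
  have hDT : A0 ⊔ sy q B ≤ T := sup_le hA0T hQT
  have hDsol : Group.IsSolvable (A0 ⊔ sy q B : Subgroup G) :=
    Group.isSolvable_of_isSolvable_injective (f := Subgroup.inclusion hleN)
      (Subgroup.inclusion_injective hleN)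
  obtain ⟨s, U, hs, hUD, hU1, hUs, hDU⟩ := exists_normal_pgroup_of_solvable hDsol hne1
  have hd : sy p (N ⊓ A) ⊓ sy q B = ⊥ := by
    rw [eq_bot_iff, ← h.inf_eq_bot]
    exact inf_le_inf (le_trans (sy_le p _) inf_le_right) (sy_le q B)
  have hUtop : U ≠ ⊤ := by
    intro ht
    apply hne
    rw [eq_top_iff, ← ht]
    exact hUD
  obtain ⟨⟨z, hz⟩, hz1'⟩ := (Subgroup.ne_bot_iff_exists_ne_one).mp hA01
  have hz1 : z ≠ 1 := fun h => hz1' (Subtype.ext h)
  rcases prime_of_pgroup_le hs hUs hU1 (le_trans hUD hDT) hT hd (sy_isPGroup p _)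
    (sy_isPGroup q B) with hsp | hsq
  · -- `U` is a `p`-group
    have hUp : IsPGroup p U := hsp ▸ hUs
    obtain ⟨g, hg⟩ := exists_le_cj_sy h.hallA hpA hUp
    rw [cj_sy h.nilA] at hg
    obtain ⟨t, ht, htA, htp⟩ := c.two_primes h (Fact.out : p.Prime) hpA
    have : Fact t.Prime := ⟨ht⟩
    have h4 := c.step4 (h.cjL g) (p := t) (q := q) (by rw [card_cj]; exact htA) hq
    have hK : Subgroup.normalizer (U : Set G) = ⊤ := by
      rw [eq_top_iff, ← h4]
      apply sup_le
      · intro y hy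
        apply mem_normalizer_of_commute
        intro u hu
        exact commute_sy htp (nilpotent_cj g h.nilA) hy (hg hu)
      · exact le_trans le_sup_right hDU
    rcases c.eq_of_normalizer_top hK with h0 | h0
    · exact hU1 h0
    · exact hUtop h0
  · -- `U` is a `q`-group
    have hUq : IsPGroup q U := hsq ▸ hUs
    have hUQ : U ≤ sy q B := by
      have hsup : IsPGroup q (U ⊔ sy q B : Subgroup G) :=
        IsPGroup.to_sup_of_normal_left' hUq (sy_isPGroup q B) (le_trans le_sup_right hDU)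
      have := (sySylow h.hallB hq).is_maximal' hsup (by rw [coe_sySylow]; exact le_sup_right)
      rw [coe_sySylow] at this
      rw [← this]
      exact le_sup_left
    have hBK : B ≤ Subgroup.normalizer (U : Set G) := by
      apply le_of_sy_le h.nilB
      intro r _
      by_cases hr : r = q
      · subst hr
        exact le_trans le_sup_right hDU
      · intro y hy
        apply mem_normalizer_of_commute
        intro u hu
        exact commute_sy hr h.nilB hy (hUQ hu)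
    have hK := c.principle h.fac hz1 (hDU (le_sup_left (a := A0) hz)) (hc z hz) hBK
    rcases c.eq_of_normalizer_top hK with h0 | h0
    · exact hU1 h0
    · exact hUtop h0

/-- Step 6: nontrivial central `p`- and `q`-subgroups of `A` and `B` generate `G`. -/
theorem step6 {A B : Subgroup G} (h : Hyp A B) {p q : ℕ} [Fact p.Prime] [Fact q.Prime]
    {A0 B0 : Subgroup G} (hA0 : A0 ≤ A) (hA0p : IsPGroup p A0) (hA01 : A0 ≠ ⊥)
    (hcA : ∀ x ∈ A0, ∀ a ∈ A, x * a = a * x) (hB0 : B0 ≤ B) (hB0q : IsPGroup q B0)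
    (hB01 : B0 ≠ ⊥) (hcB : ∀ y ∈ B0, ∀ b ∈ B, y * b = b * y) : A0 ⊔ B0 = ⊤ := by
  by_contra hne
  have hpA : p ∣ Nat.card A := dvd_card_of_pgroup hA0 hA0p hA01
  have hqB : q ∣ Nat.card B := dvd_card_of_pgroup hB0 hB0q hB01
  have hne1 : A0 ⊔ B0 ≠ ⊥ := by
    intro h0
    apply hA01
    rw [eq_bot_iff, ← h0]
    exact le_sup_left
  obtain ⟨N, T, hN, hNtop, hsolN, hTN, hT⟩ := c.proper_join h hA0 hB0
    (fun a ha x hx => by
      have := hcA x hx a ha
      have e : a * x * a⁻¹ = x := by rw [← this]; group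
      rw [e]; exact hx)
    (fun b hb x hx => by
      have := hcB x hx b hb
      have e : b * x * b⁻¹ = x := by rw [← this]; group
      rw [e]; exact hx) hne1 hne p q
  have hleN : A0 ⊔ B0 ≤ N := by rw [hN]; exact Subgroup.le_normalizer
  obtain ⟨hPT, hQT⟩ := le_of_set_eq hT
  have hA0T : A0 ≤ T := by
    refine le_trans ?_ hPT
    exact le_sy_of_pgroup (nilpotent_of_le inf_le_right h.nilA)
      (le_inf (le_trans le_sup_left hleN) hA0) hA0p
  have hB0T : B0 ≤ T := by
    refine le_trans ?_ hQT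
    exact le_sy_of_pgroup (nilpotent_of_le inf_le_right h.nilB)
      (le_inf (le_trans le_sup_right hleN) hB0) hB0q
  have hDT : A0 ⊔ B0 ≤ T := sup_le hA0T hB0T
  have hDsol : Group.IsSolvable (A0 ⊔ B0 : Subgroup G) :=
    Group.isSolvable_of_isSolvable_injective (f := Subgroup.inclusion hleN)
      (Subgroup.inclusion_injective hleN)
  obtain ⟨s, U, hs, hUD, hU1, hUs, hDU⟩ := exists_normal_pgroup_of_solvable hDsol hne1
  have hd : sy p (N ⊓ A) ⊓ sy q (N ⊓ B) = ⊥ := by
    rw [eq_bot_iff, ← h.inf_eq_bot]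
    exact inf_le_inf (le_trans (sy_le p _) inf_le_right) (le_trans (sy_le q _) inf_le_right)
  have hUtop : U ≠ ⊤ := by
    intro ht
    apply hne
    rw [eq_top_iff, ← ht]
    exact hUD
  rcases prime_of_pgroup_le hs hUs hU1 (le_trans hUD hDT) hT hd (sy_isPGroup p _)
    (sy_isPGroup q _) with hsp | hsq
  · -- `U` is a `p`-group
    have hUp : IsPGroup p U := hsp ▸ hUs
    obtain ⟨g, hg⟩ := exists_le_cj_sy h.hallA hpA hUp
    rw [cj_sy h.nilA] at hg
    obtain ⟨t, ht, htA, htp⟩ := c.two_primes h (Fact.out : p.Prime) hpA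
    have : Fact t.Prime := ⟨ht⟩
    have h5 := c.step5 (h.cjL g).symm (p := q) (q := t) (by rw [card_cj]; exact htA)
      hB0 hB0q hB01 hcB
    have hK : Subgroup.normalizer (U : Set G) = ⊤ := by
      rw [eq_top_iff, ← h5]
      apply sup_le
      · exact le_trans le_sup_right hDU
      · intro y hy
        apply mem_normalizer_of_commute
        intro u hu
        exact commute_sy htp (nilpotent_cj g h.nilA) hy (hg hu)
    rcases c.eq_of_normalizer_top hK with h0 | h0
    · exact hU1 h0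
    · exact hUtop h0
  · -- `U` is a `q`-group
    have hUq : IsPGroup q U := hsq ▸ hUs
    obtain ⟨g, hg⟩ := exists_le_cj_sy h.hallB hqB hUq
    rw [cj_sy h.nilB] at hg
    obtain ⟨t, ht, htB, htq⟩ := c.two_primes h.symm (Fact.out : q.Prime) hqB
    have : Fact t.Prime := ⟨ht⟩
    have h5 := c.step5 (h.cjR g) (p := p) (q := t) (by rw [card_cj]; exact htB)
      hA0 hA0p hA01 hcA
    have hK : Subgroup.normalizer (U : Set G) = ⊤ := by
      rw [eq_top_iff, ← h5]
      apply sup_le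
      · exact le_trans le_sup_left hDU
      · intro y hy
        apply mem_normalizer_of_commute
        intro u hu
        exact commute_sy htq (nilpotent_cj g h.nilB) hy (hg hu)
    rcases c.eq_of_normalizer_top hK with h0 | h0
    · exact hU1 h0
    · exact hUtop h0

end Ctx

end Cfsg.Agent.Lib.Helper37_KW
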