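import Mathlib
import Cfsg.Agent.Lib.Helper37_KWGen

/-!
# Kegel–Wielandt: local structure of a minimal simple counterexample (helper37)

Centralizers of central elements of the factors, signalizer property, control of fusion.
-/

set_option autoImplicit false
set_option linter.unusedSectionVars false

namespace Cfsg.Agent.Lib.Helper37_KW

open Cfsg.Agent.Lib.Helper34_Sylow
open Pointwise

universe u

variable {G : Type u} [Group G] [Finite G]

/-- `z ∈ Z(A)#` -/
def IsCen (A : Subgroup G) (z : G) : Prop := z ∈ A ∧ z ≠ 1 ∧ ∀ a ∈ A, z * a = a * z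

theorem IsCen.pow {A : Subgroup G} {z : G} (h : IsCen A z) (n : ℕ) (hn : z ^ n ≠ 1) :
    IsCen A (z ^ n) :=
  ⟨A.pow_mem h.1 n, hn, fun a ha => ((show Commute z a from h.2.2 a ha).pow_left n).eq⟩

/-- a nontrivial element has a power of prime order -/
theorem exists_prime_order_pow {z : G} (hz : z ≠ 1) :
    ∃ (p : ℕ) (n : ℕ), p.Prime ∧ orderOf (z ^ n) = p := by
  have h1 : orderOf z ≠ 1 := by
    intro h
    exact hz (orderOf_eq_one_iff.mp h)
  obtain ⟨p, hp, hd⟩ := Nat.exists_prime_and_dvd h1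
  refine ⟨p, orderOf z / p, hp, ?_⟩
  exact orderOf_pow_orderOf_div (orderOf_pos z).ne' hd

theorem IsCen.exists_prime {A : Subgroup G} {z : G} (h : IsCen A z) :
    ∃ (p : ℕ) (n : ℕ), p.Prime ∧ orderOf (z ^ n) = p ∧ IsCen A (z ^ n) := by
  obtain ⟨p, n, hp, ho⟩ := exists_prime_order_pow h.2.1
  refine ⟨p, n, hp, ho, h.pow n ?_⟩
  intro h1
  rw [h1, orderOf_one] at ho
  exact hp.one_lt.ne ho

theorem zpowers_isPGroup {x : G} {p : ℕ} [Fact p.Prime] (ho : orderOf x = p) :
    IsPGroup p (Subgroup.zpowers x) := by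
  apply IsPGroup.of_card (n := 1)
  rw [Nat.card_zpowers, ho, pow_one]

theorem zpowers_ne_bot {x : G} (hx : x ≠ 1) : Subgroup.zpowers x ≠ ⊥ := by
  intro h
  apply hx
  have : x ∈ Subgroup.zpowers x := Subgroup.mem_zpowers x
  rwa [h, Subgroup.mem_bot] at this

theorem IsCen.zpowers_le {A : Subgroup G} {z : G} (h : IsCen A z) : Subgroup.zpowers z ≤ A :=
  (Subgroup.zpowers_le).mpr h.1

theorem IsCen.zpowers_comm {A : Subgroup G} {z : G} (h : IsCen A z) :
    ∀ w ∈ Subgroup.zpowers z, ∀ a ∈ A, w * a = a * w := by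
  intro w hw a ha
  obtain ⟨k, rfl⟩ := Subgroup.mem_zpowers_iff.mp hw
  exact ((show Commute z a from h.2.2 a ha).zpow_left k).eq

theorem exists_isCen_prime {A : Subgroup G} (hA : Group.IsNilpotent A) {p : ℕ} [Fact p.Prime]
    (hp : p ∣ Nat.card A) : ∃ z, IsCen A z ∧ orderOf z = p ∧ z ∈ sy p A := by
  obtain ⟨z, hz, ho, hc⟩ := exists_central_prime hA hp
  refine ⟨z, ⟨sy_le p A hz, ?_, hc⟩, ho, hz⟩
  intro h1
  rw [h1, orderOf_one] at ho
  exact (Nat.Prime.one_lt Fact.out).ne ho

theorem mem_cz {x w : G} : w ∈ Subgroup.centralizer ({x} : Set G) ↔ x * w = w * x := by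
  rw [Subgroup.mem_centralizer_singleton_iff]
  exact eq_comm

theorem centralizer_conj_singleton (g x : G) :
    Subgroup.centralizer ({g * x * g⁻¹} : Set G) = cj g (Subgroup.centralizer ({x} : Set G)) := by
  ext w
  rw [mem_cj, mem_cz, mem_cz]
  constructor
  · intro h
    calc x * (g⁻¹ * w * g) = g⁻¹ * ((g * x * g⁻¹) * w) * g := by group
      _ = g⁻¹ * (w * (g * x * g⁻¹)) * g := by rw [h]
      _ = g⁻¹ * w * g * x := by group
  · intro h
    calc g * x * g⁻¹ * w = g * (x * (g⁻¹ * w * g)) * g⁻¹ := by group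
      _ = g * ((g⁻¹ * w * g) * x) * g⁻¹ := by rw [h]
      _ = w * (g * x * g⁻¹) := by group

namespace Ctx

variable (c : Ctx G)
include c

/-- `C_G(z) = A` for `z ∈ Z(A)#`. -/
theorem centralizer_eq {A B : Subgroup G} (h : Hyp A B) {z : G} (hz : IsCen A z) :
    Subgroup.centralizer ({z} : Set G) = A := by
  apply le_antisymm
  · obtain ⟨p, n, hp, ho, hx⟩ := hz.exists_prime
    have : Fact p.Prime := ⟨hp⟩
    have hle : Subgroup.centralizer ({z} : Set G) ≤ Subgroup.centralizer ({z ^ n} : Set G) := by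
      intro w hw
      rw [mem_cz] at hw ⊢
      exact ((show Commute z w from hw).pow_left n).eq
    refine le_trans hle ?_
    set x := z ^ n with hxdef
    -- `Y = C_B(x)` is trivial
    have hB1 : Nat.card B ≠ 1 := fun h1 => c.ne_bot h.symm (Subgroup.card_eq_one.mp h1)
    obtain ⟨q, hq, hqB⟩ := Nat.exists_prime_and_dvd hB1
    have : Fact q.Prime := ⟨hq⟩
    obtain ⟨y, hy, hyo, -⟩ := exists_isCen_prime h.nilB hqB
    have h6 := c.step6 h hx.zpowers_le (zpowers_isPGroup ho) (zpowers_ne_bot hx.2.1)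
      hx.zpowers_comm hy.zpowers_le (zpowers_isPGroup hyo) (zpowers_ne_bot hy.2.1) hy.zpowers_comm
    have hY : B ⊓ Subgroup.centralizer ({x} : Set G) = ⊥ := by
      have hK : Subgroup.normalizer ((B ⊓ Subgroup.centralizer ({x} : Set G) : Subgroup G) : Set G)
          = ⊤ := by
        rw [eq_top_iff, ← h6]
        apply sup_le
        · rw [Subgroup.zpowers_le]
          apply mem_normalizer_of_commute
          intro u hu
          exact mem_cz.mp hu.2
        · rw [Subgroup.zpowers_le]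
          apply mem_normalizer_of_commute
          intro u hu
          exact hy.2.2 u hu.1
      rcases c.eq_of_normalizer_top hK with h0 | h0
      · exact h0
      · exfalso
        apply c.ne_top h.symm
        rw [eq_top_iff, ← h0]
        exact inf_le_left
    intro w hw
    obtain ⟨a, ha, b, hb, e⟩ := h.fac w
    have hbY : b ∈ B ⊓ Subgroup.centralizer ({x} : Set G) := by
      refine ⟨hb, ?_⟩
      have hac : a ∈ Subgroup.centralizer ({x} : Set G) := by
        rw [mem_cz]
        exact hx.2.2 a ha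
      have : b = a⁻¹ * w := by rw [e]; group
      rw [this]
      exact Subgroup.mul_mem _ (Subgroup.inv_mem _ hac) hw
    rw [hY, Subgroup.mem_bot] at hbY
    rw [e, hbY, mul_one]
    exact ha
  · intro a ha
    rw [mem_cz]
    exact hz.2.2 a ha

/-- `z ∈ Z(A)#` normalizes no nontrivial subgroup of a conjugate of `B`. -/
theorem not_normalizes {A B : Subgroup G} (h : Hyp A B) {z : G} (hz : IsCen A z) (k : G)
    {N' : Subgroup G} (hN : N' ≤ cj k B) (hN1 : N' ≠ ⊥) :
    z ∉ Subgroup.normalizer (N' : Set G) := by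
  intro hzN
  obtain ⟨p, n, hp, ho, hx⟩ := hz.exists_prime
  have : Fact p.Prime := ⟨hp⟩
  have h' := h.cjR k
  have hB1 : Nat.card (cj k B) ≠ 1 := fun h1 => c.ne_bot h'.symm (Subgroup.card_eq_one.mp h1)
  obtain ⟨q, hq, hqB⟩ := Nat.exists_prime_and_dvd hB1
  have : Fact q.Prime := ⟨hq⟩
  obtain ⟨y, hy, hyo, -⟩ := exists_isCen_prime h'.nilB hqB
  have h6 := c.step6 h' hx.zpowers_le (zpowers_isPGroup ho) (zpowers_ne_bot hx.2.1)
    hx.zpowers_comm hy.zpowers_le (zpowers_isPGroup hyo) (zpowers_ne_bot hy.2.1) hy.zpowers_comm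
  have hK : Subgroup.normalizer (N' : Set G) = ⊤ := by
    rw [eq_top_iff, ← h6]
    apply sup_le
    · rw [Subgroup.zpowers_le]
      exact Subgroup.pow_mem _ hzN n
    · rw [Subgroup.zpowers_le]
      apply mem_normalizer_of_commute
      intro u hu
      exact hy.2.2 u (hN hu)
  rcases c.eq_of_normalizer_top hK with h0 | h0
  · exact hN1 h0
  · apply c.ne_top h'.symm
    rw [eq_top_iff, ← h0]
    exact hN

omit c in
theorem mem_normalizer_of_cj_eq {A : Subgroup G} {g : G} (h : cj g A = A) :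
    g ∈ Subgroup.normalizer (A : Set G) := by
  rw [Subgroup.mem_normalizer_iff]
  intro a
  constructor
  · intro ha
    rw [← h]
    exact conj_mem_cj ha
  · intro ha
    rw [← h, mem_cj] at ha
    have e : g⁻¹ * (g * a * g⁻¹) * g = a := by group
    rwa [e] at ha

omit c in
theorem cj_eq_of_mem_normalizer {A : Subgroup G} {g : G}
    (h : g ∈ Subgroup.normalizer (A : Set G)) : cj g A = A :=
  cj_eq_self_of_mem_normalizer h

/-- control of fusion: if a conjugate of `z ∈ Z(A)#` by `g` lies in `A` then `g ∈ N_G(A)`. -/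
theorem mem_normalizer_of_conj_mem {A B : Subgroup G} (h : Hyp A B) {z g : G} (hz : IsCen A z)
    (hg : g * z * g⁻¹ ∈ A) : g ∈ Subgroup.normalizer (A : Set G) := by
  obtain ⟨p, n, hp, ho, hx⟩ := hz.exists_prime
  have : Fact p.Prime := ⟨hp⟩
  set x := z ^ n with hxdef
  have hgx : g * x * g⁻¹ ∈ A := by
    rw [hxdef, ← pow_conj_eq]
    exact A.pow_mem hg n
  have hxp : x ^ p = 1 := by rw [← ho]; exact pow_orderOf_eq_one x
  have hz'p : g * x * g⁻¹ ∈ sy p A := by
    rw [mem_sy h.nilA]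
    refine ⟨hgx, 1, ?_⟩
    rw [pow_one, pow_conj_eq, hxp]; group
  have hCz' : Subgroup.centralizer ({g * x * g⁻¹} : Set G) = cj g A := by
    rw [centralizer_conj_singleton, c.centralizer_eq h hx]
  have hpA : p ∣ Nat.card A :=
    dvd_card_of_pgroup hx.zpowers_le (zpowers_isPGroup ho) (zpowers_ne_bot hx.2.1)
  obtain ⟨t, ht, htA, htp⟩ := c.two_primes h hp hpA
  have : Fact t.Prime := ⟨ht⟩
  obtain ⟨w, hw, hwo, -⟩ := exists_isCen_prime h.nilA htA
  have hxg : x ∈ cj g A := by
    rw [← hCz', mem_cz]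
    exact (hx.2.2 _ hgx).symm
  have hw'A : g * w * g⁻¹ ∈ A := by
    rw [← c.centralizer_eq h hx, mem_cz]
    have h1 := hw.2.2 _ (mem_cj.mp hxg)
    calc x * (g * w * g⁻¹) = g * ((g⁻¹ * x * g) * w) * g⁻¹ := by group
      _ = g * (w * (g⁻¹ * x * g)) * g⁻¹ := by rw [h1]
      _ = g * w * g⁻¹ * x := by group
  have hwt : w ^ t = 1 := by rw [← hwo]; exact pow_orderOf_eq_one w
  have hw't : g * w * g⁻¹ ∈ sy t A := by
    rw [mem_sy h.nilA]
    refine ⟨hw'A, 1, ?_⟩
    rw [pow_one, pow_conj_eq, hwt]; group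
  have hCw' : Subgroup.centralizer ({g * w * g⁻¹} : Set G) = cj g A := by
    rw [centralizer_conj_singleton, c.centralizer_eq h hw]
  have hle : A ≤ cj g A := by
    apply le_of_sy_le h.nilA
    intro r _ y hy
    by_cases hr : r = p
    · subst hr
      rw [← hCw', mem_cz]
      exact commute_sy htp h.nilA hw't hy
    · rw [← hCz', mem_cz]
      exact commute_sy (Ne.symm hr) h.nilA hz'p hy
  have heq : A = cj g A := Subgroup.eq_of_le_of_card_ge hle (by rw [card_cj])
  exact mem_normalizer_of_cj_eq heq.symm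

omit c in
theorem sy_ne_bot_dvd {p : ℕ} [Fact p.Prime] {A : Subgroup G} (h : sy p A ≠ ⊥) :
    p ∣ Nat.card A := by
  by_contra hp
  apply h
  apply Subgroup.card_eq_one.mp
  rw [card_sy, Nat.factorization_eq_zero_of_not_dvd hp, pow_zero]

omit c in
/-- factorization of the centralizer of an element of `A` normalizing `B` -/
theorem fac_centralizer {A B : Subgroup G} (h : Hyp A B) {v : G} (hvA : v ∈ A)
    (hvN : v ∈ Subgroup.normalizer (B : Set G)) :
    ∀ g ∈ Subgroup.centralizer ({v} : Set G), ∃ a ∈ A ⊓ Subgroup.centralizer ({v} : Set G),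
      ∃ b ∈ B ⊓ Subgroup.centralizer ({v} : Set G), g = a * b := by
  intro g hg
  rw [mem_cz] at hg
  obtain ⟨a, ha, b, hb, e⟩ := h.fac g
  have hb' : v⁻¹ * b * v ∈ B := by
    have := (Subgroup.mem_normalizer_iff.mp (Subgroup.inv_mem _ hvN) b).mp hb
    rwa [inv_inv] at this
  have hkey : a⁻¹ * (v⁻¹ * a * v) = b * (v⁻¹ * b * v)⁻¹ := by
    have h1 : v⁻¹ * (a * b) * v = a * b := by
      rw [← e]
      calc v⁻¹ * g * v = v⁻¹ * (g * v) := by group
        _ = v⁻¹ * (v * g) := by rw [hg]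
        _ = g := by group
    have h2 : (v⁻¹ * a * v) * (v⁻¹ * b * v) = a * b := by rw [← h1]; group
    calc a⁻¹ * (v⁻¹ * a * v) = a⁻¹ * ((v⁻¹ * a * v) * (v⁻¹ * b * v)) * (v⁻¹ * b * v)⁻¹ := by group
      _ = a⁻¹ * (a * b) * (v⁻¹ * b * v)⁻¹ := by rw [h2]
      _ = b * (v⁻¹ * b * v)⁻¹ := by group
  have hmem : a⁻¹ * (v⁻¹ * a * v) ∈ A ⊓ B := by
    refine ⟨A.mul_mem (A.inv_mem ha) (A.mul_mem (A.mul_mem (A.inv_mem hvA) ha) hvA), ?_⟩
    rw [hkey]
    exact B.mul_mem hb (B.inv_mem hb')
  rw [h.inf_eq_bot, Subgroup.mem_bot] at hmem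
  have hav : v * a = a * v := by
    have : v⁻¹ * a * v = a := by
      have := congrArg (fun t => a * t) hmem
      simpa [mul_assoc] using this
    calc v * a = v * (v⁻¹ * a * v) := by rw [this]
      _ = a * v := by group
  have hbv : v * b = b * v := by
    have h3 : b * (v⁻¹ * b * v)⁻¹ = 1 := by rw [← hkey]; exact hmem
    have : v⁻¹ * b * v = b := by
      have := mul_eq_one_iff_eq_inv.mp h3
      rw [inv_inv] at this
      exact this.symm
    calc v * b = v * (v⁻¹ * b * v) := by rw [this]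
      _ = b * v := by group
  exact ⟨a, ⟨ha, mem_cz.mpr hav⟩, b, ⟨hb, mem_cz.mpr hbv⟩, e⟩

/-- L8 for elements of prime order. -/
theorem centralizer_le_normalizer_prime {A B : Subgroup G} (h : Hyp A B) {v : G} {p : ℕ}
    [Fact p.Prime] (hvA : v ∈ A) (ho : orderOf v = p)
    (hvN : v ∈ Subgroup.normalizer (B : Set G)) :
    Subgroup.centralizer ({v} : Set G) ≤ Subgroup.normalizer (A : Set G) := by
  have hv1 : v ≠ 1 := by
    intro h1
    rw [h1, orderOf_one] at ho
    exact (Nat.Prime.one_lt Fact.out).ne ho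
  obtain ⟨H, hH⟩ : ∃ H : Subgroup G, H = Subgroup.centralizer ({v} : Set G) := ⟨_, rfl⟩
  have hfac := fac_centralizer h hvA hvN
  rw [← hH] at hfac ⊢
  have hHtop : H ≠ ⊤ := by
    intro ht
    have hK : Subgroup.normalizer ((Subgroup.zpowers v : Subgroup G) : Set G) = ⊤ := by
      rw [eq_top_iff]
      intro y _
      apply mem_normalizer_of_commute
      intro u hu
      obtain ⟨k, rfl⟩ := Subgroup.mem_zpowers_iff.mp hu
      have hy : y ∈ H := by rw [ht]; trivial
      rw [hH, mem_cz] at hy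
      exact ((show Commute v y from hy).zpow_left k).eq.symm
    rcases c.eq_of_normalizer_top hK with h0 | h0
    · exact zpowers_ne_bot hv1 h0
    · apply c.ne_top h
      rw [eq_top_iff, ← h0, Subgroup.zpowers_le]
      exact hvA
  have hcop : (Nat.card (A ⊓ H : Subgroup G)).Coprime (Nat.card (B ⊓ H : Subgroup G)) :=
    Nat.Coprime.coprime_dvd_left (Subgroup.card_dvd_of_le inf_le_left)
      (Nat.Coprime.coprime_dvd_right (Subgroup.card_dvd_of_le inf_le_left) h.cop)
  have nA' : Group.IsNilpotent (A ⊓ H : Subgroup G) := nilpotent_of_le inf_le_left h.nilA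
  have nB' : Group.IsNilpotent (B ⊓ H : Subgroup G) := nilpotent_of_le inf_le_left h.nilB
  have hsol : Group.IsSolvable H :=
    c.ih.solvable_of_fac hHtop inf_le_right inf_le_right nA' nB' hcop hfac
  have hvp : v ∈ sy p A := by
    rw [mem_sy h.nilA]
    exact ⟨hvA, 1, by rw [pow_one, ← ho]; exact pow_orderOf_eq_one v⟩
  have hpA : p ∣ Nat.card A := sy_ne_bot_dvd (fun h0 => hv1 (by
    have := hvp; rwa [h0, Subgroup.mem_bot] at this))
  obtain ⟨t, ht, htA, htp⟩ := c.two_primes h (Fact.out : p.Prime) hpA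
  have : Fact t.Prime := ⟨ht⟩
  have hsytH : sy t A ≤ H := by
    intro y hy
    rw [hH, mem_cz]
    exact commute_sy (Ne.symm htp) h.nilA hvp hy
  have hsyt : sy t (A ⊓ H) = sy t A := by
    rw [inf_comm]; exact sy_inf_eq h.nilA hsytH
  obtain ⟨z, hz, hzo, hzt⟩ := exists_isCen_prime h.nilA htA
  -- the Hall subgroup `C_B(v)` normalizes `A`
  have hBH : B ⊓ H ≤ Subgroup.normalizer (A : Set G) := by
    apply le_of_sy_le nB'
    intro q _
    by_cases hq0 : sy q (B ⊓ H) = ⊥
    · rw [hq0]; exact bot_le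
    have hqB : q ∣ Nat.card B :=
      dvd_trans (sy_ne_bot_dvd hq0) (Subgroup.card_dvd_of_le inf_le_left)
    obtain ⟨T, hTH, hT⟩ := perm_in hsol inf_le_right inf_le_right nA' nB' hcop hfac t q
    rw [hsyt] at hT
    obtain ⟨hPT, hQT⟩ := le_of_set_eq hT
    refine le_trans hQT ?_
    have hTsol : Group.IsSolvable T :=
      Group.isSolvable_of_isSolvable_injective (f := Subgroup.inclusion hTH)
        (Subgroup.inclusion_injective hTH)
    have hT1 : T ≠ ⊥ := by
      intro h0
      apply sy_ne_bot htA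
      rw [eq_bot_iff, ← h0]
      exact hPT
    obtain ⟨s, U, hs, hUT, hU1, hUs, hTU⟩ := exists_normal_pgroup_of_solvable hTsol hT1
    have hd : sy t A ⊓ sy q (B ⊓ H) = ⊥ := by
      rw [eq_bot_iff, ← h.inf_eq_bot]
      exact inf_le_inf (sy_le t A) (le_trans (sy_le q _) inf_le_left)
    rcases prime_of_pgroup_le hs hUs hU1 hUT hT hd (sy_isPGroup t _) (sy_isPGroup q _)
      with hst | hsq
    · -- `U` is a `t`-group inside `A_t`
      have hUt : IsPGroup t U := hst ▸ hUs
      have hUA : U ≤ sy t A := by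
        have hsup : IsPGroup t (U ⊔ sy t A : Subgroup G) :=
          IsPGroup.to_sup_of_normal_left' hUt (sy_isPGroup t A) (le_trans hPT hTU)
        have := (sySylow h.hallA htA).is_maximal' hsup (by rw [coe_sySylow]; exact le_sup_right)
        rw [coe_sySylow] at this
        rw [← this]
        exact le_sup_left
      obtain ⟨z', hz'U, hz'1, hz'c⟩ := exists_central_of_normal h.nilA hUA hU1
        (fun y hy u hu => (Subgroup.mem_normalizer_iff.mp (hTU (hPT hy)) u).mp hu)
      have hz'cen : IsCen A z' := ⟨sy_le t A (hUA hz'U), hz'1, hz'c⟩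
      intro y hy
      apply c.mem_normalizer_of_conj_mem h hz'cen
      exact sy_le t A (hUA ((Subgroup.mem_normalizer_iff.mp (hTU hy) z').mp hz'U))
    · -- `U` is a `q`-group: impossible
      exfalso
      have hUq : IsPGroup q U := hsq ▸ hUs
      obtain ⟨k, hk⟩ := exists_le_cj_sy h.hallB hqB hUq
      exact c.not_normalizes h hz k (le_trans hk (cj_mono (sy_le q B))) hU1 (hTU (hPT hzt))
  intro g hg
  obtain ⟨a, ha, b, hb, e⟩ := hfac g hg
  rw [e]
  exact Subgroup.mul_mem _ (Subgroup.le_normalizer ha.1) (hBH hb)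

/-- L8: for `1 ≠ v ∈ A ∩ N_G(B)`: `C_G(v) ≤ N_G(A)`. -/
theorem centralizer_le_normalizer {A B : Subgroup G} (h : Hyp A B) {v : G} (hvA : v ∈ A)
    (hv1 : v ≠ 1) (hvN : v ∈ Subgroup.normalizer (B : Set G)) :
    Subgroup.centralizer ({v} : Set G) ≤ Subgroup.normalizer (A : Set G) := by
  obtain ⟨p, n, hp, ho⟩ := exists_prime_order_pow hv1
  have : Fact p.Prime := ⟨hp⟩
  refine le_trans ?_ (c.centralizer_le_normalizer_prime h (A.pow_mem hvA n) ho
    (Subgroup.pow_mem _ hvN n))
  intro w hw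
  rw [mem_cz] at hw ⊢
  exact ((show Commute v w from hw).pow_left n).eq

end Ctx

end Cfsg.Agent.Lib.Helper37_KW
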