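import Mathlib
import Cfsg.Agent.Lib.Helper37_KWLoc
import Cfsg.Agent.S0558

/-!
# Kegel–Wielandt: the final contradiction in a minimal simple counterexample (helper37)

Wielandt's normal complement theorem (S0558) applied inside centralizers shows that the factors
are TI-subgroups; counting double cosets finishes.
-/

set_option autoImplicit false
set_option linter.unusedSectionVars false

namespace Cfsg.Agent.Lib.Helper37_KW

open Cfsg.Agent.Lib.Helper34_Sylow
open Pointwise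

universe u

variable {G : Type u} [Group G] [Finite G]

theorem mem_sy_subgroupOf {H A₁ : Subgroup G} (hA : Group.IsNilpotent A₁) {p : ℕ}
    [Fact p.Prime] (y : H) : y ∈ sy p (A₁.subgroupOf H) ↔ y.1 ∈ sy p (A₁ ⊓ H) := by
  have hn' : Group.IsNilpotent (A₁ ⊓ H : Subgroup G) := nilpotent_of_le inf_le_left hA
  have hn : Group.IsNilpotent (A₁.subgroupOf H) := by
    rw [Cfsg.Agent.S0581.nilpotent_map_subtype, Subgroup.subgroupOf_map_subtype]
    exact hn'
  rw [mem_sy hn, mem_sy hn', Subgroup.mem_subgroupOf]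
  constructor
  · rintro ⟨h1, k, hk⟩
    exact ⟨⟨h1, y.2⟩, k, by simpa using congrArg Subtype.val hk⟩
  · rintro ⟨h1, k, hk⟩
    exact ⟨h1.1, k, Subtype.ext (by simpa using hk)⟩

/-- Wielandt's normal complement theorem (S0558) for a nilpotent subgroup `A₁` of a subgroup `H`. -/
theorem wielandt_complement {H A₁ : Subgroup G} (hle : A₁ ≤ H) (hA : Group.IsNilpotent A₁)
    {r t : ℕ} (hr : r.Prime) (ht : t.Prime) (hrt : r ≠ t) (hrA : r ∣ Nat.card A₁)
    (htA : t ∣ Nat.card A₁)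
    (hnorm : ∀ p : ℕ, p.Prime → p ∣ Nat.card A₁ → ∀ y ∈ H,
      (∀ x ∈ sy p A₁, y * x * y⁻¹ ∈ sy p A₁) → y ∈ A₁) :
    ∃ K : Subgroup G, K ≤ H ∧ H ≤ Subgroup.normalizer (K : Set G) ∧ K ⊓ A₁ = ⊥ ∧
      Nat.card K * Nat.card A₁ = Nat.card H ∧ (Nat.card K).Coprime (Nat.card A₁) := by
  have hinf : A₁ ⊓ H = A₁ := inf_eq_left.mpr hle
  have hn : Group.IsNilpotent (A₁.subgroupOf H) := by
    rw [Cfsg.Agent.S0581.nilpotent_map_subtype, Subgroup.map_subgroupOf_eq_of_le hle]
    exact hA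
  have hcA : Nat.card (A₁.subgroupOf H) = Nat.card A₁ := card_subgroupOf_of_le hle
  have hmem : ∀ {p : ℕ} [Fact p.Prime] (y : H), y ∈ sy p (A₁.subgroupOf H) ↔ y.1 ∈ sy p A₁ := by
    intro p _ y
    rw [mem_sy_subgroupOf hA, hinf]
  have hnormeq : ∀ p : ℕ, p.Prime → p ∣ Nat.card (A₁.subgroupOf H) →
      Subgroup.normalizer ((sy p (A₁.subgroupOf H) : Subgroup H) : Set H) = A₁.subgroupOf H := by
    intro p hp hpd
    have : Fact p.Prime := ⟨hp⟩
    rw [hcA] at hpd
    apply le_antisymm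
    · intro y hy
      rw [Subgroup.mem_subgroupOf]
      apply hnorm p hp hpd y.1 y.2
      intro x hx
      have hxH : x ∈ H := hle (sy_le p A₁ hx)
      have h1 : (⟨x, hxH⟩ : H) ∈ sy p (A₁.subgroupOf H) := (hmem _).mpr hx
      have h2 := (Subgroup.mem_normalizer_iff.mp hy _).mp h1
      exact (hmem _).mp h2
    · intro y hy
      rw [Subgroup.mem_normalizer_iff]
      intro x
      constructor
      · intro hx
        exact sy_conj_mem hn hy hx
      · intro hx
        have := sy_conj_mem hn (Subgroup.inv_mem _ hy) hx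
        have e : y⁻¹ * (y * x * y⁻¹) * y⁻¹⁻¹ = x := by group
        rwa [e] at this
  obtain ⟨N, hNn, hNc⟩ := Cfsg.Agent.S0558.result (G := H) (A₁.subgroupOf H)
    (by
      intro p hp P hP
      have : Fact p.Prime := ⟨hp⟩
      obtain ⟨k, hk⟩ := IsPGroup.iff_card.mp P.isPGroup'
      rw [hP, hcA] at hk
      rw [hk] at hrA htA
      have h1 := (Nat.prime_dvd_prime_iff_eq hr hp).mp (hr.dvd_of_dvd_pow hrA)
      have h2 := (Nat.prime_dvd_prime_iff_eq ht hp).mp (ht.dvd_of_dvd_pow htA)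
      exact hrt (h1.trans h2.symm))
    (by
      intro p hp hpd P
      have : Fact p.Prime := ⟨hp⟩
      rw [sy_eq_of_sylow hn P]
      exact hnormeq p hp hpd)
  have hcard := hNc.card_mul_card
  rw [hcA] at hcard
  have hcK : Nat.card (N.map H.subtype) = Nat.card N :=
    Subgroup.card_map_of_injective H.subtype_injective
  refine ⟨N.map H.subtype, ?_, ?_, ?_, ?_, ?_⟩
  · rintro _ ⟨x, -, rfl⟩
    exact x.2
  · intro y hy
    rw [Subgroup.mem_normalizer_iff]
    intro x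
    constructor
    · rintro ⟨n, hn', rfl⟩
      exact ⟨⟨y, hy⟩ * n * ⟨y, hy⟩⁻¹, hNn.conj_mem n hn' ⟨y, hy⟩, rfl⟩
    · rintro ⟨n, hn', hxy⟩
      have h1 := hNn.conj_mem n hn' ⟨y, hy⟩⁻¹
      refine ⟨⟨y, hy⟩⁻¹ * n * ⟨y, hy⟩⁻¹⁻¹, h1, ?_⟩
      have h2 : (n : G) = y * x * y⁻¹ := hxy
      simp only [Subgroup.subtype_apply, Subgroup.coe_mul, Subgroup.coe_inv, inv_inv]
      rw [h2]; group
  · rw [eq_bot_iff]
    rintro x ⟨⟨n, hn', rfl⟩, hxA⟩
    have : n ∈ N ⊓ A₁.subgroupOf H := ⟨hn', Subgroup.mem_subgroupOf.mpr hxA⟩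
    rw [hNc.disjoint.eq_bot, Subgroup.mem_bot] at this
    rw [Subgroup.mem_bot, this]
    rfl
  · rw [hcK]; exact hcard
  · rw [hcK]
    apply Nat.coprime_of_dvd
    intro p hp hpN hpA
    have : Fact p.Prime := ⟨hp⟩
    have hpd : p ∣ Nat.card (A₁.subgroupOf H) := by rw [hcA]; exact hpA
    have hcs : Nat.card (sy p (A₁.subgroupOf H)) = p ^ (Nat.card A₁).factorization p := by
      rw [card_sy, hcA]
    have hdvd : p ^ ((Nat.card A₁).factorization p + 1) ∣ Nat.card H := by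
      rw [← hcard, pow_succ, mul_comm]
      exact Nat.mul_dvd_mul hpN (Nat.ordProj_dvd _ _)
    have h1 := Sylow.prime_pow_dvd_card_normalizer hdvd hcs
    rw [hnormeq p hp hpd, hcA] at h1
    exact Nat.pow_succ_factorization_not_dvd Nat.card_pos.ne' hp h1

theorem pow_mul_normalizer {A : Subgroup G} {a b : G} (ha : a ∈ A)
    (hb : b ∈ Subgroup.normalizer (A : Set G)) (n : ℕ) : ∃ a' ∈ A, (a * b) ^ n = a' * b ^ n := by
  induction n with
  | zero => exact ⟨1, A.one_mem, by simp⟩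
  | succ n ih =>
    obtain ⟨a', ha', e⟩ := ih
    have hbn : b ^ n ∈ Subgroup.normalizer (A : Set G) := Subgroup.pow_mem _ hb n
    have h1 : b ^ n * a * (b ^ n)⁻¹ ∈ A := (Subgroup.mem_normalizer_iff.mp hbn a).mp ha
    refine ⟨a' * (b ^ n * a * (b ^ n)⁻¹), A.mul_mem ha' h1, ?_⟩
    rw [pow_succ, e, pow_succ]; group

/-- an element of `N_G(A)` of order prime to `|B|` lies in `A` -/
theorem Hyp.mem_of_mem_normalizer {A B : Subgroup G} (h : Hyp A B) {m : G}
    (hm : m ∈ Subgroup.normalizer (A : Set G)) (ho : (orderOf m).Coprime (Nat.card B)) :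
    m ∈ A := by
  obtain ⟨a, ha, b, hb, e⟩ := h.fac.dedekind (Subgroup.le_normalizer (H := A)) m hm
  obtain ⟨a', ha', e'⟩ := pow_mul_normalizer ha hb.2 (orderOf m)
  rw [← e, pow_orderOf_eq_one] at e'
  have hbo : b ^ orderOf m ∈ A ⊓ B := by
    refine ⟨?_, B.pow_mem hb.1 _⟩
    have : b ^ orderOf m = a'⁻¹ := by
      have := congrArg (fun t => a'⁻¹ * t) e'
      simpa using this.symm
    rw [this]; exact A.inv_mem ha'
  rw [h.inf_eq_bot, Subgroup.mem_bot] at hbo
  have h1 : orderOf b ∣ orderOf m := orderOf_dvd_of_pow_eq_one hbo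
  have h2 : orderOf b ∣ Nat.card B := by
    have := orderOf_dvd_natCard (⟨b, hb.1⟩ : B)
    rwa [Subgroup.orderOf_mk] at this
  have h3 : orderOf b = 1 := Nat.eq_one_of_dvd_coprimes ho h1 h2
  rw [orderOf_eq_one_iff] at h3
  rw [e, h3, mul_one]
  exact ha

theorem card_sq_le_of_inf_cj {A : Subgroup G} {g : G} (h : A ⊓ cj g A = ⊥) :
    Nat.card A * Nat.card A ≤ Nat.card G := by
  rw [← Nat.card_prod]
  apply Nat.card_le_card_of_injective (fun ab : A × A => (ab.1 : G) * g * (ab.2 : G))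
  rintro ⟨a, b⟩ ⟨a', b'⟩ hab
  simp only at hab
  have hmem : (a' : G)⁻¹ * a ∈ A ⊓ cj g A := by
    refine Subgroup.mem_inf.mpr ⟨A.mul_mem (A.inv_mem a'.2) a.2, ?_⟩
    rw [mem_cj]
    have : g⁻¹ * ((a' : G)⁻¹ * a) * g = (b' : G) * (b : G)⁻¹ := by
      have h1 : (a : G) * g = a' * g * b' * (b : G)⁻¹ := by
        rw [← hab]; group
      calc g⁻¹ * ((a' : G)⁻¹ * a) * g = g⁻¹ * (a' : G)⁻¹ * ((a : G) * g) := by group
        _ = g⁻¹ * (a' : G)⁻¹ * (a' * g * b' * (b : G)⁻¹) := by rw [h1]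
        _ = (b' : G) * (b : G)⁻¹ := by group
    rw [this]
    exact A.mul_mem b'.2 (A.inv_mem b.2)
  rw [h, Subgroup.mem_bot] at hmem
  have haa : (a : G) = a' := by
    have := congrArg (fun t => (a' : G) * t) hmem
    simpa using this
  have hbb : (b : G) = b' := by
    rw [haa] at hab
    exact mul_left_cancel hab
  exact Prod.ext (Subtype.ext haa) (Subtype.ext hbb)

namespace Ctx

variable (c : Ctx G)
include c

/-- (i): if no `π'`-element of `N_G(A)` centralizes `d ∈ A` (of prime order) then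
`C_G(d) ≤ A`.  This is where Wielandt's normal complement theorem enters. -/
theorem centralizer_le_of_pi {A B : Subgroup G} (h : Hyp A B) {d : G} {r : ℕ} [Fact r.Prime]
    (hdA : d ∈ A) (ho : orderOf d = r)
    (hM : Subgroup.normalizer (A : Set G) ⊓ Subgroup.centralizer ({d} : Set G) ≤ A) :
    Subgroup.centralizer ({d} : Set G) ≤ A := by
  obtain ⟨H, hH⟩ : ∃ H : Subgroup G, H = Subgroup.centralizer ({d} : Set G) := ⟨_, rfl⟩
  rw [← hH] at hM ⊢
  have hd1 : d ≠ 1 := by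
    intro h1
    rw [h1, orderOf_one] at ho
    exact (Nat.Prime.one_lt Fact.out).ne ho
  have hdr : d ∈ sy r A := by
    rw [mem_sy h.nilA]
    exact ⟨hdA, 1, by rw [pow_one, ← ho]; exact pow_orderOf_eq_one d⟩
  have hdH : d ∈ H := by rw [hH, mem_cz]
  have hnA₁ : Group.IsNilpotent (A ⊓ H : Subgroup G) := nilpotent_of_le inf_le_left h.nilA
  -- central elements of `A` lie in `A ⊓ H`
  have hcenH : ∀ z, IsCen A z → z ∈ A ⊓ H := by
    intro z hz
    refine Subgroup.mem_inf.mpr ⟨hz.1, ?_⟩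
    rw [hH, mem_cz]
    exact (hz.2.2 d hdA).symm
  -- every prime dividing `|A|` divides `|A ⊓ H|`
  have hprimes : ∀ p : ℕ, p.Prime → p ∣ Nat.card A → p ∣ Nat.card (A ⊓ H : Subgroup G) := by
    intro p hp hpA
    have : Fact p.Prime := ⟨hp⟩
    obtain ⟨z, hz, hzo, -⟩ := exists_isCen_prime h.nilA hpA
    exact dvd_card_of_pgroup ((Subgroup.zpowers_le).mpr (hcenH z hz)) (zpowers_isPGroup hzo)
      (zpowers_ne_bot hz.2.1)
  have hrA : r ∣ Nat.card A := sy_ne_bot_dvd (fun h0 => hd1 (by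
    have := hdr; rwa [h0, Subgroup.mem_bot] at this))
  obtain ⟨t, ht, htA, htr⟩ := c.two_primes h (Fact.out : r.Prime) hrA
  obtain ⟨K, hKH, hHK, hKA, hcard, hcop⟩ := wielandt_complement (H := H) (A₁ := A ⊓ H)
    inf_le_right hnA₁ (Fact.out : r.Prime) ht (Ne.symm htr) (hprimes r Fact.out hrA)
    (hprimes t ht htA)
    (by
      intro p hp hpd y hy hnorm
      have : Fact p.Prime := ⟨hp⟩
      have hpA : p ∣ Nat.card A := dvd_trans hpd (Subgroup.card_dvd_of_le inf_le_left)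
      obtain ⟨z, hz, hzo, -⟩ := exists_isCen_prime h.nilA hpA
      have hzs : z ∈ sy p (A ⊓ H) := by
        rw [mem_sy hnA₁]
        exact ⟨hcenH z hz, 1, by rw [pow_one, ← hzo]; exact pow_orderOf_eq_one z⟩
      have h1 : y * z * y⁻¹ ∈ A := (Subgroup.mem_inf.mp (sy_le p _ (hnorm z hzs))).1
      have h2 := c.mem_normalizer_of_conj_mem h hz h1
      exact Subgroup.mem_inf.mpr ⟨hM (Subgroup.mem_inf.mpr ⟨h2, hy⟩), hy⟩)
  -- `K` is a `π'`-group, hence in a conjugate of `B`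
  have hKB : ∀ q : ℕ, q.Prime → q ∣ Nat.card K → q ∣ Nat.card B := by
    intro q hq hqK
    have h1 : q ∣ Nat.card A * Nat.card B := by
      rw [h.card_eq]
      exact dvd_trans hqK (Subgroup.card_dvd_of_le (le_top : K ≤ ⊤) |>.trans (by
        rw [Subgroup.card_top]))
    rcases (Nat.Prime.dvd_mul hq).mp h1 with h2 | h2
    · exfalso
      have h3 := hprimes q hq h2
      have h4 : q ∣ Nat.gcd (Nat.card K) (Nat.card (A ⊓ H : Subgroup G)) := Nat.dvd_gcd hqK h3
      rw [hcop] at h4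
      exact hq.one_lt.ne' (Nat.dvd_one.mp h4)
    · exact h2
  obtain ⟨k, hk⟩ := Cfsg.Agent.S0581.result B K h.nilB h.hallB hKB
  have hK1 : K = ⊥ := by
    by_contra hK1
    obtain ⟨z, hz, -, -⟩ := exists_isCen_prime h.nilA hrA
    exact c.not_normalizes h hz k hk hK1 (hHK (Subgroup.mem_inf.mp (hcenH z hz)).2)
  rw [hK1, Subgroup.card_bot, one_mul] at hcard
  have heq : A ⊓ H = H := Subgroup.eq_of_le_of_card_ge inf_le_right hcard.ge
  rw [← heq]
  exact inf_le_left

/-- for `d ∈ A` of prime order, `C_G(d) ≤ N_G(A)`. -/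
theorem centralizer_le_normalizer_of_mem {A B : Subgroup G} (h : Hyp A B) {d : G} {r : ℕ}
    [Fact r.Prime] (hdA : d ∈ A) (ho : orderOf d = r) :
    Subgroup.centralizer ({d} : Set G) ≤ Subgroup.normalizer (A : Set G) := by
  by_cases hM : Subgroup.normalizer (A : Set G) ⊓ Subgroup.centralizer ({d} : Set G) ≤ A
  · exact le_trans (c.centralizer_le_of_pi h hdA ho hM) Subgroup.le_normalizer
  obtain ⟨m, hm, hmA⟩ := SetLike.not_le_iff_exists.mp hM
  obtain ⟨hmN, hmC⟩ := Subgroup.mem_inf.mp hm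
  have hd1 : d ≠ 1 := by
    intro h1
    rw [h1, orderOf_one] at ho
    exact (Nat.Prime.one_lt Fact.out).ne ho
  have hn0 : Nat.card A ≠ 0 := Nat.card_pos.ne'
  -- the `π'`-part `u` of `m`
  have hu1 : m ^ Nat.card A ≠ 1 := by
    intro h1
    apply hmA
    apply h.mem_of_mem_normalizer hmN
    exact Nat.Coprime.coprime_dvd_left (orderOf_dvd_of_pow_eq_one h1) h.cop
  have huo : orderOf (m ^ Nat.card A) ∣ Nat.card B := by
    rw [orderOf_pow' m hn0]
    have h1 : orderOf m ∣ Nat.card A * Nat.card B := by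
      rw [h.card_eq]; exact orderOf_dvd_natCard m
    have h2 : Nat.gcd (orderOf m) (Nat.card A * Nat.card B) = orderOf m := Nat.gcd_eq_left h1
    rw [Nat.Coprime.gcd_mul _ h.cop] at h2
    have h3 : orderOf m / Nat.gcd (orderOf m) (Nat.card A) = Nat.gcd (orderOf m) (Nat.card B) := by
      apply Nat.div_eq_of_eq_mul_right (Nat.gcd_pos_of_pos_right _ Nat.card_pos)
      exact h2.symm
    rw [h3]
    exact Nat.gcd_dvd_right _ _
  obtain ⟨u, hu⟩ : ∃ u, u = m ^ Nat.card A := ⟨_, rfl⟩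
  rw [← hu] at hu1 huo
  have huN : u ∈ Subgroup.normalizer (A : Set G) := by rw [hu]; exact Subgroup.pow_mem _ hmN _
  have hud : d * u = u * d := by
    rw [hu]
    exact ((show Commute d m from mem_cz.mp hmC).pow_right _).eq
  obtain ⟨k, hk⟩ := Cfsg.Agent.S0581.result B (Subgroup.zpowers u) h.nilB h.hallB
    (by
      intro q _ hq
      rw [Nat.card_zpowers] at hq
      exact dvd_trans hq huo)
  have hku : k⁻¹ * u * k ∈ B := mem_cj.mp (hk (Subgroup.mem_zpowers u))
  obtain ⟨a, ha, b, hb, e⟩ := h.fac k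
  have hau : a⁻¹ * u * a ∈ B := by
    have : a⁻¹ * u * a = b * (k⁻¹ * u * k) * b⁻¹ := by rw [e]; group
    rw [this]
    exact B.mul_mem (B.mul_mem hb hku) (B.inv_mem hb)
  have haN : a ∈ Subgroup.normalizer (A : Set G) := Subgroup.le_normalizer ha
  have hu'N : a⁻¹ * u * a ∈ Subgroup.normalizer (A : Set G) :=
    Subgroup.mul_mem _ (Subgroup.mul_mem _ (Subgroup.inv_mem _ haN) huN) haN
  have hu'1 : a⁻¹ * u * a ≠ 1 := by
    intro h1
    apply hu1
    have : u = a * (a⁻¹ * u * a) * a⁻¹ := by group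
    rw [this, h1]; group
  have hd'A : a⁻¹ * d * a ∈ A := A.mul_mem (A.mul_mem (A.inv_mem ha) hdA) ha
  have hd'1 : a⁻¹ * d * a ≠ 1 := by
    intro h1
    apply hd1
    have : d = a * (a⁻¹ * d * a) * a⁻¹ := by group
    rw [this, h1]; group
  have hd'u' : a⁻¹ * d * a ∈ Subgroup.centralizer ({a⁻¹ * u * a} : Set G) := by
    rw [mem_cz]
    calc a⁻¹ * u * a * (a⁻¹ * d * a) = a⁻¹ * (u * d) * a := by group
      _ = a⁻¹ * (d * u) * a := by rw [hud]
      _ = a⁻¹ * d * a * (a⁻¹ * u * a) := by group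
  have hd'N : a⁻¹ * d * a ∈ Subgroup.normalizer (B : Set G) :=
    c.centralizer_le_normalizer h.symm hau hu'1 hu'N hd'u'
  have hCd' := c.centralizer_le_normalizer h hd'A hd'1 hd'N
  intro w hw
  have hw' : a⁻¹ * w * a ∈ Subgroup.centralizer ({a⁻¹ * d * a} : Set G) := by
    rw [mem_cz] at hw ⊢
    calc a⁻¹ * d * a * (a⁻¹ * w * a) = a⁻¹ * (d * w) * a := by group
      _ = a⁻¹ * (w * d) * a := by rw [hw]
      _ = a⁻¹ * w * a * (a⁻¹ * d * a) := by group
  have h1 := hCd' hw'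
  have : w = a * (a⁻¹ * w * a) * a⁻¹ := by group
  rw [this]
  exact Subgroup.mul_mem _ (Subgroup.mul_mem _ haN h1) (Subgroup.inv_mem _ haN)

/-- `A` is a TI-subgroup: `A ∩ A^g = 1` for `g ∉ N_G(A)`. -/
theorem inf_cj_eq_bot {A B : Subgroup G} (h : Hyp A B) {g : G}
    (hg : g ∉ Subgroup.normalizer (A : Set G)) : A ⊓ cj g A = ⊥ := by
  by_contra hne
  obtain ⟨⟨e, he⟩, he1'⟩ := (Subgroup.ne_bot_iff_exists_ne_one).mp hne
  have he1 : e ≠ 1 := fun h1 => he1' (Subtype.ext h1)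
  obtain ⟨r, n, hr, ho⟩ := exists_prime_order_pow he1
  have : Fact r.Prime := ⟨hr⟩
  have hd := Subgroup.pow_mem _ he n
  obtain ⟨hdA, hdgA⟩ := Subgroup.mem_inf.mp hd
  have hC := c.centralizer_le_normalizer_of_mem h hdA ho
  -- a central element of `A` of prime order
  have hA1 : Nat.card A ≠ 1 := fun h1 => c.ne_bot h (Subgroup.card_eq_one.mp h1)
  obtain ⟨p, hp, hpA⟩ := Nat.exists_prime_and_dvd hA1
  have : Fact p.Prime := ⟨hp⟩
  obtain ⟨z, hz, hzo, -⟩ := exists_isCen_prime h.nilA hpA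
  have hz'C : g * z * g⁻¹ ∈ Subgroup.centralizer ({e ^ n} : Set G) := by
    rw [mem_cz]
    have h1 := hz.2.2 _ (mem_cj.mp hdgA)
    calc e ^ n * (g * z * g⁻¹) = g * ((g⁻¹ * e ^ n * g) * z) * g⁻¹ := by group
      _ = g * (z * (g⁻¹ * e ^ n * g)) * g⁻¹ := by rw [h1]
      _ = g * z * g⁻¹ * e ^ n := by group
  have hz'A : g * z * g⁻¹ ∈ A := by
    apply h.mem_of_mem_normalizer (hC hz'C)
    rw [orderOf_conj' g z, hzo]
    have : p.Coprime (Nat.card B) := by
      rw [Nat.Prime.coprime_iff_not_dvd hp]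
      intro hpB
      have h1 : p ∣ Nat.gcd (Nat.card A) (Nat.card B) := Nat.dvd_gcd hpA hpB
      rw [h.cop] at h1
      exact hp.one_lt.ne' (Nat.dvd_one.mp h1)
    exact this
  exact hg (c.mem_normalizer_of_conj_mem h hz hz'A)

/-- There is no minimal simple counterexample. -/
theorem false_of_hyp {A B : Subgroup G} (h : Hyp A B) : False := by
  have key : ∀ {A B : Subgroup G}, Hyp A B → Nat.card A ≤ Nat.card B := by
    intro A B h
    have hN : Subgroup.normalizer (A : Set G) ≠ ⊤ := by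
      intro ht
      rcases c.eq_of_normalizer_top ht with h0 | h0
      · exact c.ne_bot h h0
      · exact c.ne_top h h0
    obtain ⟨g, -, hg⟩ := SetLike.exists_of_lt (lt_top_iff_ne_top.mpr hN)
    have h1 := card_sq_le_of_inf_cj (c.inf_cj_eq_bot h hg)
    rw [← h.card_eq] at h1
    exact Nat.le_of_mul_le_mul_left h1 Nat.card_pos
  have h1 := key h
  have h2 := key h.symm
  have h3 : Nat.card A = Nat.card B := le_antisymm h1 h2
  have h4 := h.cop
  rw [h3, Nat.coprime_self] at h4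
  rw [h4] at h3
  exact c.ne_bot h (Subgroup.card_eq_one.mp h3)

end Ctx

end Cfsg.Agent.Lib.Helper37_KW
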