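import Mathlib
import Cfsg.Agent.Lib.Helper37_KWFin

/-!
# Wielandt's theorem: a product of two nilpotent groups of coprime orders is solvable (helper37)
-/

set_option autoImplicit false
set_option linter.unusedSectionVars false

namespace Cfsg.Agent.Lib.Helper37_KW

open Cfsg.Agent.Lib.Helper34_Sylow
open Pointwise

universe u

/-- images of the factors in a quotient -/
theorem hyp_quotient {G : Type u} [Group G] [Finite G] {A B : Subgroup G} (h : Hyp A B)
    (N : Subgroup G) [N.Normal] :
    Hyp (A.map (QuotientGroup.mk' N)) (B.map (QuotientGroup.mk' N)) := by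
  have hA : Nat.card (A.map (QuotientGroup.mk' N)) ∣ Nat.card A :=
    Subgroup.card_dvd_of_surjective _ ((QuotientGroup.mk' N).subgroupMap_surjective A)
  have hB : Nat.card (B.map (QuotientGroup.mk' N)) ∣ Nat.card B :=
    Subgroup.card_dvd_of_surjective _ ((QuotientGroup.mk' N).subgroupMap_surjective B)
  refine ⟨?_, ?_, ?_, ?_⟩
  · have := h.nilA
    exact Group.nilpotent_of_surjective _ ((QuotientGroup.mk' N).subgroupMap_surjective A)
  · have := h.nilB
    exact Group.nilpotent_of_surjective _ ((QuotientGroup.mk' N).subgroupMap_surjective B)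
  · exact Nat.Coprime.coprime_dvd_left hA (Nat.Coprime.coprime_dvd_right hB h.cop)
  · intro x
    obtain ⟨g, rfl⟩ := QuotientGroup.mk'_surjective N x
    obtain ⟨a, ha, b, hb, e⟩ := h.fac g
    exact ⟨_, ⟨a, ha, rfl⟩, _, ⟨b, hb, rfl⟩, by rw [e, map_mul]⟩

theorem card_quotient_lt {G : Type u} [Group G] [Finite G] (N : Subgroup G) [N.Normal]
    (hN : N ≠ ⊥) : Nat.card (G ⧸ N) < Nat.card G := by
  have h1 : Nat.card (G ⧸ N) = N.index := rfl
  rw [h1, ← N.card_mul_index]
  have h2 : 1 < Nat.card N := by
    have : Nat.card N ≠ 1 := fun h => hN (Subgroup.card_eq_one.mp h)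
    have := Nat.card_pos (α := N)
    omega
  have h3 : 0 < N.index := Nat.pos_of_ne_zero Subgroup.index_ne_zero_of_finite
  nlinarith

/-- Wielandt's theorem. -/
theorem wielandt_aux : ∀ (n : ℕ) (G : Type u) [Group G] [Finite G], Nat.card G = n →
    ∀ A B : Subgroup G, Hyp A B → Group.IsSolvable G := by
  intro n
  induction n using Nat.strong_induction_on with
  | _ n ih =>
  intro G _ _ hn A B h
  have hIH : IH G := by
    intro K _ _ hlt A' B' nA nB cop fac
    exact ih (Nat.card K) (hn ▸ hlt) K rfl A' B' ⟨nA, nB, cop, fac⟩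
  by_cases hsimple : ∃ N : Subgroup G, N.Normal ∧ N ≠ ⊥ ∧ N ≠ ⊤
  · obtain ⟨N, hNn, hN1, hNt⟩ := hsimple
    -- the quotient is solvable
    have hq : Group.IsSolvable (G ⧸ N) :=
      ih (Nat.card (G ⧸ N)) (hn ▸ card_quotient_lt N hN1) (G ⧸ N) rfl _ _ (hyp_quotient h N)
    -- the factorizer of `N`
    obtain ⟨F, hF⟩ : ∃ F : Subgroup G, F = (A ⊔ N) ⊓ (B ⊔ N) := ⟨_, rfl⟩
    have hFtop : F ≠ ⊤ := by
      intro ht
      have hAN : A ⊔ N = ⊤ := by
        rw [eq_top_iff, ← ht, hF]; exact inf_le_left
      have hBN : B ⊔ N = ⊤ := by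
        rw [eq_top_iff, ← ht, hF]; exact inf_le_right
      have hmapA : A.map (QuotientGroup.mk' N) = ⊤ := by
        have := congrArg (Subgroup.map (QuotientGroup.mk' N)) hAN
        rw [Subgroup.map_sup, Subgroup.map_top_of_surjective _ (QuotientGroup.mk'_surjective N),
          QuotientGroup.map_mk'_self, sup_bot_eq] at this
        exact this
      have hmapB : B.map (QuotientGroup.mk' N) = ⊤ := by
        have := congrArg (Subgroup.map (QuotientGroup.mk' N)) hBN
        rw [Subgroup.map_sup, Subgroup.map_top_of_surjective _ (QuotientGroup.mk'_surjective N),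
          QuotientGroup.map_mk'_self, sup_bot_eq] at this
        exact this
      have hq' := (hyp_quotient h N).cop
      rw [hmapA, hmapB, Nat.coprime_self, Subgroup.card_top] at hq'
      have h1 : N.index = 1 := hq'
      exact hNt (Subgroup.index_eq_one.mp h1)
    have hfacF : ∀ x ∈ F, ∃ a ∈ A ⊓ (B ⊔ N), ∃ b ∈ B ⊓ (A ⊔ N), x = a * b := by
      intro x hx
      rw [hF] at hx
      obtain ⟨hx1, hx2⟩ := Subgroup.mem_inf.mp hx
      obtain ⟨a, ha, b, hb, e⟩ := h.fac x
      refine ⟨a, Subgroup.mem_inf.mpr ⟨ha, ?_⟩, b, Subgroup.mem_inf.mpr ⟨hb, ?_⟩, e⟩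
      · have : a = x * b⁻¹ := by rw [e]; group
        rw [this]
        exact Subgroup.mul_mem _ hx2 (Subgroup.inv_mem _ (Subgroup.mem_sup_left hb))
      · have : b = a⁻¹ * x := by rw [e]; group
        rw [this]
        exact Subgroup.mul_mem _ (Subgroup.inv_mem _ (Subgroup.mem_sup_left ha)) hx1
    have hA₁F : A ⊓ (B ⊔ N) ≤ F := by
      rw [hF]
      exact le_inf (le_trans inf_le_left le_sup_left) inf_le_right
    have hB₁F : B ⊓ (A ⊔ N) ≤ F := by
      rw [hF]
      exact le_inf inf_le_right (le_trans inf_le_left le_sup_left)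
    have hFsol : Group.IsSolvable F :=
      hIH.solvable_of_fac hFtop hA₁F hB₁F (nilpotent_of_le inf_le_left h.nilA)
        (nilpotent_of_le inf_le_left h.nilB)
        (Nat.Coprime.coprime_dvd_left (Subgroup.card_dvd_of_le inf_le_left)
          (Nat.Coprime.coprime_dvd_right (Subgroup.card_dvd_of_le inf_le_left) h.cop)) hfacF
    have hNF : N ≤ F := by
      rw [hF]; exact le_inf le_sup_right le_sup_right
    have hNsol : Group.IsSolvable N :=
      Group.isSolvable_of_isSolvable_injective (f := Subgroup.inclusion hNF)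
        (Subgroup.inclusion_injective hNF)
    exact (Group.isSolvable_iff_subgroup_quotient N).mpr ⟨hNsol, hq⟩
  · push Not at hsimple
    by_cases htriv : Subsingleton G
    · infer_instance
    rw [not_subsingleton_iff_nontrivial] at htriv
    have hs : IsSimpleGroup G := by
      refine ⟨fun N hN => ?_⟩
      by_contra hcon
      push Not at hcon
      exact hcon.2 (hsimple N hN hcon.1)
    by_cases hcomm : ∀ a b : G, a * b = b * a
    · let _ : CommGroup G := { ‹Group G› with mul_comm := hcomm }
      infer_instance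
    · exact ((Ctx.mk hs hcomm hIH).false_of_hyp h).elim

/-- **Wielandt**: a finite group which is the product of two nilpotent subgroups of coprime
orders is solvable. -/
theorem wielandt_solvable {G : Type u} [Group G] [Finite G] (A B : Subgroup G)
    (hA : Group.IsNilpotent A) (hB : Group.IsNilpotent B)
    (hcop : (Nat.card A).Coprime (Nat.card B)) (hAB : ∀ g : G, ∃ a ∈ A, ∃ b ∈ B, g = a * b) :
    Group.IsSolvable G :=
  wielandt_aux (Nat.card G) G rfl A B ⟨hA, hB, hcop, hAB⟩

end Cfsg.Agent.Lib.Helper37_KW
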