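import Mathlib
import Cfsg.Agent.Lib.Helper37_KWMain
import Cfsg.Agent.S0560
import Cfsg.Agent.S0066
import Cfsg.Agent.S4331
import Cfsg.Agent.Lib.Helper50_CD
import Cfsg.Agent.Lib.Helper22_Cores

/-!
# Kegel–Wielandt: reduction of the general case to the coprime case (helper37)

If `p` divides both `|A|` and `|B|` then `S = U^V ∩ V^U` (`U = A_p`, `V = B_p`) is subnormal
by Wielandt's criterion (S0066): `⟨S, S^g⟩` lies in the `p`-group `U^V (V^g)^(U^g)`.
-/

set_option autoImplicit false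
set_option linter.unusedSectionVars false

namespace Cfsg.Agent.Lib.Helper37_KW

open Cfsg.Agent.Lib.Helper34_Sylow
open Cfsg.Agent.S0566 (Perm perm_of_eq permSubgroup)
open Pointwise

universe u

variable {G : Type u} [Group G]

theorem perm_iSup_right {ι : Sort*} {X : Subgroup G} {Y : ι → Subgroup G}
    (h : ∀ i, Perm X (Y i)) : Perm X (⨆ i, Y i) := by
  intro k hk
  refine Subgroup.iSup_induction Y (C := fun k => ∀ a ∈ X, ∃ a' ∈ X, ∃ k' ∈ ⨆ i, Y i,
    k * a = a' * k') hk ?_ ?_ ?_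
  · intro i y hy a ha
    obtain ⟨a', ha', k', hk', e⟩ := h i y hy a ha
    exact ⟨a', ha', k', Subgroup.mem_iSup_of_mem i hk', e⟩
  · intro a ha
    exact ⟨a, ha, 1, Subgroup.one_mem _, by group⟩
  · intro x y hx hy a ha
    obtain ⟨a', ha', k', hk', e⟩ := hy a ha
    obtain ⟨a'', ha'', k'', hk'', e'⟩ := hx a' ha'
    refine ⟨a'', ha'', k'' * k', Subgroup.mul_mem _ hk'' hk', ?_⟩
    calc x * y * a = x * (y * a) := by group
      _ = x * (a' * k') := by rw [e]
      _ = (x * a') * k' := by group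
      _ = (a'' * k'') * k' := by rw [e']
      _ = a'' * (k'' * k') := by group

theorem perm_sup_coe {X Y : Subgroup G} (h : Perm X Y) :
    ((X ⊔ Y : Subgroup G) : Set G) = (X : Set G) * (Y : Set G) := by
  apply le_antisymm
  · have : X ⊔ Y ≤ permSubgroup X Y h := by
      apply sup_le
      · intro x hx
        exact ⟨x, hx, 1, Y.one_mem, mul_one x⟩
      · intro y hy
        exact ⟨1, X.one_mem, y, hy, one_mul y⟩
    exact this
  · rintro _ ⟨x, hx, y, hy, rfl⟩
    exact (X ⊔ Y).mul_mem (Subgroup.mem_sup_left hx) (Subgroup.mem_sup_right hy)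

theorem perm_symm {X Y : Subgroup G} (h : Perm X Y) : Perm Y X := by
  intro x hx y hy
  -- `x * y ∈ X * Y`, so its inverse `y⁻¹ * x⁻¹` is in the subgroup `X * Y`
  have h1 : (x * y)⁻¹⁻¹ ∈ permSubgroup X Y h :=
    Subgroup.inv_mem _ (Subgroup.inv_mem _ ⟨x, hx, y, hy, rfl⟩)
  rw [inv_inv] at h1
  -- we need `x * y = y' * x'`; use that `(x*y)⁻¹ = y⁻¹ x⁻¹` ... take inverse of an `X*Y` form
  have h2 : (x * y)⁻¹ ∈ permSubgroup X Y h := Subgroup.inv_mem _ ⟨x, hx, y, hy, rfl⟩
  obtain ⟨a, ha, b, hb, e⟩ := h2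
  refine ⟨b⁻¹, Y.inv_mem hb, a⁻¹, X.inv_mem ha, ?_⟩
  have e' : a * b = (x * y)⁻¹ := e
  calc x * y = ((x * y)⁻¹)⁻¹ := by rw [inv_inv]
    _ = (a * b)⁻¹ := by rw [e']
    _ = b⁻¹ * a⁻¹ := by rw [mul_inv_rev]

theorem perm_iSup_left {ι : Sort*} {X : ι → Subgroup G} {Y : Subgroup G}
    (h : ∀ i, Perm (X i) Y) : Perm (⨆ i, X i) Y :=
  perm_symm (perm_iSup_right (fun i => perm_symm (h i)))

theorem perm_isPGroup_sup [Finite G] {X Y : Subgroup G} (h : Perm X Y) {p : ℕ} [Fact p.Prime]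
    (hX : IsPGroup p X) (hY : IsPGroup p Y) : IsPGroup p (X ⊔ Y : Subgroup G) := by
  obtain ⟨a, ha⟩ := IsPGroup.iff_card.mp hX
  obtain ⟨b, hb⟩ := IsPGroup.iff_card.mp hY
  have h1 := Cfsg.Agent.Lib.Helper50_CD.card_sup_mul_card_inf_le_of_coe_sup_eq_mul X Y (perm_sup_coe h)
  rw [ha, hb, ← pow_add] at h1
  have h2 : Nat.card (X ⊔ Y : Subgroup G) ∣ p ^ (a + b) := Dvd.intro _ h1
  obtain ⟨k, -, hk⟩ := (Nat.dvd_prime_pow Fact.out).mp h2
  exact IsPGroup.of_card hk

variable [Finite G]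

theorem cj_set_mul (g : G) {T U V : Subgroup G} (h : (T : Set G) = (U : Set G) * (V : Set G)) :
    ((cj g T : Subgroup G) : Set G) = (cj g U : Set G) * (cj g V : Set G) := by
  ext w
  rw [SetLike.mem_coe, mem_cj, ← SetLike.mem_coe, h]
  constructor
  · rintro ⟨u, hu, v, hv, e⟩
    refine ⟨g * u * g⁻¹, conj_mem_cj hu, g * v * g⁻¹, conj_mem_cj hv, ?_⟩
    simp only at e
    have : w = g * (g⁻¹ * w * g) * g⁻¹ := by group
    rw [this, ← e]; group
  · rintro ⟨u, hu, v, hv, e⟩
    refine ⟨g⁻¹ * u * g, mem_cj.mp hu, g⁻¹ * v * g, mem_cj.mp hv, ?_⟩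
    simp only at e
    rw [← e]; group

/-- In `G = AB` with `A`, `B` nilpotent, all conjugates of `A_p` permute with all conjugates of
`B_p`, the products being `p`-groups. -/
theorem exists_perm_pgroup {A B : Subgroup G} (hA : Group.IsNilpotent A)
    (hB : Group.IsNilpotent B) (fac : Fac A B) (p : ℕ) [Fact p.Prime] (x y : G) :
    ∃ T : Subgroup G, (T : Set G) = (cj x (sy p A) : Set G) * (cj y (sy p B) : Set G) ∧
      IsPGroup p T := by
  obtain ⟨P, Q, R, hR⟩ := Cfsg.Agent.S0560.result A B fac p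
  rw [sy_eq_of_sylow hA P, sy_eq_of_sylow hB Q] at hR
  obtain ⟨g, hgA, hgB⟩ := (Cfsg.Agent.S0559.result A B (cj x A) (cj y B) fac ⟨x, rfl⟩ ⟨y, rfl⟩).2
  have h1 : cj x (sy p A) = cj g (sy p A) := by
    rw [cj_sy hA, cj_sy hA]
    have : cj x A = cj g A := hgA
    rw [this]
  have h2 : cj y (sy p B) = cj g (sy p B) := by
    rw [cj_sy hB, cj_sy hB]
    have : cj y B = cj g B := hgB
    rw [this]
  refine ⟨cj g (R : Subgroup G), ?_, isPGroup_cj R.isPGroup'⟩
  rw [h1, h2]
  exact cj_set_mul g hR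

/-- If `O_p(G) = 1` then `A_p` and `B_p` commute elementwise. -/
theorem commute_of_pCore_eq_bot {A B : Subgroup G} (hA : Group.IsNilpotent A)
    (hB : Group.IsNilpotent B) (fac : Fac A B) {p : ℕ} [Fact p.Prime]
    (hcore : Cfsg.pCore p G = ⊥) : ∀ u ∈ sy p A, ∀ v ∈ sy p B, u * v = v * u := by
  obtain ⟨U, hU⟩ : ∃ U : Subgroup G, U = sy p A := ⟨_, rfl⟩
  obtain ⟨V, hV⟩ : ∃ V : Subgroup G, V = sy p B := ⟨_, rfl⟩
  rw [← hU, ← hV]
  have hperm : ∀ x y : G, ∃ T : Subgroup G, (T : Set G) = (cj x U : Set G) * (cj y V : Set G) ∧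
      IsPGroup p T := by
    intro x y
    rw [hU, hV]
    exact exists_perm_pgroup hA hB fac p x y
  obtain ⟨T₀, hT₀, hT₀p⟩ := hperm 1 1
  rw [cj_one, cj_one] at hT₀
  obtain ⟨hUT, hVT⟩ := le_of_set_eq hT₀
  obtain ⟨J, hJ⟩ : ∃ J : Subgroup G, J = ⨆ v : V, cj (v : G) U := ⟨_, rfl⟩
  obtain ⟨L, hL⟩ : ∃ L : Subgroup G, L = ⨆ u : U, cj (u : G) V := ⟨_, rfl⟩
  have hJT : J ≤ T₀ := by
    rw [hJ]
    exact iSup_le (fun v => cj_le_of_mem hUT (hVT v.2))
  have hLT : L ≤ T₀ := by
    rw [hL]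
    exact iSup_le (fun u => cj_le_of_mem hVT (hUT u.2))
  have hUJ : U ≤ J := by
    rw [hJ]
    have := le_iSup (fun v : V => cj (v : G) U) (1 : V)
    simpa [cj_one] using this
  have hVL : V ≤ L := by
    rw [hL]
    have := le_iSup (fun u : U => cj (u : G) V) (1 : U)
    simpa [cj_one] using this
  have hSp : IsPGroup p (J ⊓ L : Subgroup G) := hT₀p.to_le (le_trans inf_le_left hJT)
  -- subnormality via Wielandt's criterion
  have hsn : (J ⊓ L : Subgroup G).IsSubnormal := by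
    apply Cfsg.Agent.S0066.result
    intro g
    have hcjL : cj g L = ⨆ u : U, cj (g * (u : G)) V := by
      rw [hL, cj, Subgroup.map_iSup]
      congr 1
      funext u
      exact (cj_mul g (u : G) V).symm
    have hpermJL : Perm J (cj g L) := by
      rw [hJ, hcjL]
      apply perm_iSup_left
      intro v
      apply perm_iSup_right
      intro u
      obtain ⟨T, hT, -⟩ := hperm (v : G) (g * (u : G))
      exact perm_of_eq hT
    have hW : IsPGroup p (J ⊔ cj g L : Subgroup G) :=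
      perm_isPGroup_sup hpermJL (hT₀p.to_le hJT) (isPGroup_cj (hT₀p.to_le hLT))
    have hle : (J ⊓ L) ⊔ MulAut.conj g • (J ⊓ L) ≤ J ⊔ cj g L := by
      apply sup_le_sup inf_le_left
      rw [← cj_eq_smul]
      exact cj_mono inf_le_right
    have hp' : IsPGroup p ((J ⊓ L) ⊔ MulAut.conj g • (J ⊓ L) : Subgroup G) := hW.to_le hle
    have : Group.IsNilpotent ((J ⊓ L) ⊔ MulAut.conj g • (J ⊓ L) : Subgroup G) := hp'.isNilpotent
    exact Cfsg.Agent.S4331.isSubnormal_of_isNilpotent _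
  have hS : J ⊓ L = ⊥ := by
    rw [eq_bot_iff, ← hcore]
    exact Cfsg.Agent.Lib.Helper22_Cores.le_pCore_of_isSubnormal p hsn hSp
  intro u hu v hv
  have hc : u * v * u⁻¹ * v⁻¹ ∈ J ⊓ L := by
    refine Subgroup.mem_inf.mpr ⟨?_, ?_⟩
    · have h1 : v * u⁻¹ * v⁻¹ ∈ J := by
        rw [hJ]
        exact Subgroup.mem_iSup_of_mem (⟨v, hv⟩ : V) (conj_mem_cj (U.inv_mem hu))
      have : u * v * u⁻¹ * v⁻¹ = u * (v * u⁻¹ * v⁻¹) := by group
      rw [this]
      exact J.mul_mem (hUJ hu) h1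
    · have h1 : u * v * u⁻¹ ∈ L := by
        rw [hL]
        exact Subgroup.mem_iSup_of_mem (⟨u, hu⟩ : U) (conj_mem_cj hv)
      exact L.mul_mem h1 (L.inv_mem (hVL hv))
  rw [hS, Subgroup.mem_bot] at hc
  calc u * v = (u * v * u⁻¹ * v⁻¹) * (v * u) := by group
    _ = v * u := by rw [hc, one_mul]

omit [Finite G] in
theorem fac_quotient {A B : Subgroup G} (fac : Fac A B) (N : Subgroup G) [N.Normal] :
    Fac (A.map (QuotientGroup.mk' N)) (B.map (QuotientGroup.mk' N)) := by
  intro x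
  obtain ⟨g, rfl⟩ := QuotientGroup.mk'_surjective N x
  obtain ⟨a, ha, b, hb, e⟩ := fac g
  exact ⟨_, ⟨a, ha, rfl⟩, _, ⟨b, hb, rfl⟩, by rw [e, map_mul]⟩

omit [Finite G] in
theorem nilpotent_map_quotient {A : Subgroup G} (hA : Group.IsNilpotent A) (N : Subgroup G)
    [N.Normal] : Group.IsNilpotent (A.map (QuotientGroup.mk' N)) :=
  Group.nilpotent_of_surjective _ ((QuotientGroup.mk' N).subgroupMap_surjective A)

/-- Kegel–Wielandt, by induction on the order. -/
theorem kw_aux : ∀ (n : ℕ) (G : Type u) [Group G] [Finite G], Nat.card G = n →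
    ∀ A B : Subgroup G, Group.IsNilpotent A → Group.IsNilpotent B → Fac A B →
      Group.IsSolvable G := by
  intro n
  induction n using Nat.strong_induction_on with
  | _ n ih =>
  intro G _ _ hn A B hA hB fac
  by_cases hcop : (Nat.card A).Coprime (Nat.card B)
  · exact wielandt_solvable A B hA hB hcop fac
  obtain ⟨p, hp, hpA, hpB⟩ := Nat.Prime.not_coprime_iff_dvd.mp hcop
  have : Fact p.Prime := ⟨hp⟩
  -- quotients by nontrivial normal subgroups are solvable
  have hquot : ∀ (N : Subgroup G) [N.Normal], N ≠ ⊥ → Group.IsSolvable (G ⧸ N) := by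
    intro N _ hN1
    exact ih (Nat.card (G ⧸ N)) (hn ▸ card_quotient_lt N hN1) (G ⧸ N) rfl _ _
      (nilpotent_map_quotient hA N) (nilpotent_map_quotient hB N) (fac_quotient fac N)
  by_cases hcore : Cfsg.pCore p G = ⊥
  · -- all conjugates of `A_p` commute with all conjugates of `B_p`
    have hα : ∀ x y : G, ∀ u ∈ cj x (sy p A), ∀ v ∈ cj y (sy p B), u * v = v * u := by
      intro x y u hu v hv
      have hfac' : Fac (cj x A) (cj y B) :=
        (Cfsg.Agent.S0559.result A B (cj x A) (cj y B) fac ⟨x, rfl⟩ ⟨y, rfl⟩).1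
      rw [cj_sy hA] at hu
      rw [cj_sy hB] at hv
      exact commute_of_pCore_eq_bot (nilpotent_cj x hA) (nilpotent_cj y hB) hfac' hcore u hu v hv
    have hconj : ∀ a ∈ Group.conjugatesOfSet ((sy p A : Subgroup G) : Set G),
        ∀ b ∈ Group.conjugatesOfSet ((sy p B : Subgroup G) : Set G), a * b = b * a := by
      intro a ha b hb
      rw [Group.mem_conjugatesOfSet_iff] at ha hb
      obtain ⟨u, hu, hua⟩ := ha
      obtain ⟨v, hv, hvb⟩ := hb
      rw [isConj_iff] at hua hvb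
      obtain ⟨x, rfl⟩ := hua
      obtain ⟨y, rfl⟩ := hvb
      exact hα x y _ (conj_mem_cj hu) _ (conj_mem_cj hv)
    have hβ : ∀ a ∈ Subgroup.normalClosure ((sy p A : Subgroup G) : Set G),
        ∀ b ∈ Subgroup.normalClosure ((sy p B : Subgroup G) : Set G), a * b = b * a := by
      have h1 : ∀ a ∈ Group.conjugatesOfSet ((sy p A : Subgroup G) : Set G),
          Subgroup.normalClosure ((sy p B : Subgroup G) : Set G) ≤
            Subgroup.centralizer ({a} : Set G) := by
        intro a ha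
        rw [Subgroup.normalClosure, Subgroup.closure_le]
        intro b hb
        rw [SetLike.mem_coe, mem_cz]
        exact hconj a ha b hb
      intro a ha b hb
      have h2 : Subgroup.normalClosure ((sy p A : Subgroup G) : Set G) ≤
          Subgroup.centralizer ({b} : Set G) := by
        rw [Subgroup.normalClosure, Subgroup.closure_le]
        intro a' ha'
        rw [SetLike.mem_coe, mem_cz]
        exact (mem_cz.mp (h1 a' ha' hb)).symm
      exact (mem_cz.mp (h2 ha)).symm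
    obtain ⟨X, hX⟩ : ∃ X : Subgroup G, X = Subgroup.normalClosure ((sy p A : Subgroup G) : Set G) :=
      ⟨_, rfl⟩
    obtain ⟨Y, hY⟩ : ∃ Y : Subgroup G, Y = Subgroup.normalClosure ((sy p B : Subgroup G) : Set G) :=
      ⟨_, rfl⟩
    rw [← hX, ← hY] at hβ
    have hXn : X.Normal := by rw [hX]; exact Subgroup.normalClosure_normal
    have hYn : Y.Normal := by rw [hY]; exact Subgroup.normalClosure_normal
    have hX1 : X ≠ ⊥ := by
      intro h0
      apply sy_ne_bot (p := p) hpA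
      rw [eq_bot_iff, ← h0, hX]
      exact Subgroup.le_normalClosure
    have hY1 : Y ≠ ⊥ := by
      intro h0
      apply sy_ne_bot (p := p) hpB
      rw [eq_bot_iff, ← h0, hY]
      exact Subgroup.le_normalClosure
    by_cases hN : X ⊓ Y = ⊥
    · -- `X` embeds in `G ⧸ Y`
      have hqY := hquot Y hY1
      have hqX := hquot X hX1
      have hinj : Function.Injective ((QuotientGroup.mk' Y).comp X.subtype) := by
        rw [injective_iff_map_eq_one]
        intro x hx
        rw [MonoidHom.comp_apply, QuotientGroup.mk'_apply, QuotientGroup.eq_one_iff] at hx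
        have : (x : G) ∈ X ⊓ Y := Subgroup.mem_inf.mpr ⟨x.2, hx⟩
        rw [hN, Subgroup.mem_bot] at this
        exact Subtype.ext this
      have hXsol : Group.IsSolvable X := Group.isSolvable_of_isSolvable_injective hinj
      exact (Group.isSolvable_iff_subgroup_quotient X).mpr ⟨hXsol, hqX⟩
    · have hq := hquot (X ⊓ Y) hN
      have hNsol : Group.IsSolvable (X ⊓ Y : Subgroup G) := by
        apply Group.isSolvable_of_comm
        intro a b
        apply Subtype.ext
        exact hβ a.1 (Subgroup.mem_inf.mp a.2).1 b.1 (Subgroup.mem_inf.mp b.2).2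
      exact (Group.isSolvable_iff_subgroup_quotient (X ⊓ Y)).mpr ⟨hNsol, hq⟩
  · have hn' : (Cfsg.pCore p G).Normal := Cfsg.Agent.Lib.Helper1_Cores.pCore_normal p
    have hq := hquot (Cfsg.pCore p G) hcore
    have hnil : Group.IsNilpotent (Cfsg.pCore p G) :=
      (Cfsg.Agent.Lib.Helper1_Cores.pCore_isPGroup p).isNilpotent
    have hsol : Group.IsSolvable (Cfsg.pCore p G) := inferInstance
    exact (Group.isSolvable_iff_subgroup_quotient (Cfsg.pCore p G)).mpr ⟨hsol, hq⟩

/-- **Kegel–Wielandt**: a finite group which is the product of two nilpotent subgroups is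
solvable. -/
theorem kegel_wielandt {G : Type u} [Group G] [Finite G] (A B : Subgroup G)
    (hA : Group.IsNilpotent A) (hB : Group.IsNilpotent B)
    (hAB : ∀ g : G, ∃ a ∈ A, ∃ b ∈ B, g = a * b) : Group.IsSolvable G :=
  kw_aux (Nat.card G) G rfl A B hA hB hAB

end Cfsg.Agent.Lib.Helper37_KW
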