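import Mathlib
import Cfsg.Agent.Lib.Helper37_KWKegel
import Cfsg.Agent.S0004

/-!
# Kegel: in `G = AB` with `A`, `B` nilpotent (not both `G`), a factor lies in a proper normal
subgroup (helper37)
-/

set_option autoImplicit false
set_option linter.unusedSectionVars false

namespace Cfsg.Agent.Lib.Helper37_KW

open Cfsg.Agent.Lib.Helper34_Sylow
open Pointwise

universe u

/-- In a finite nilpotent group a proper subgroup lies in a proper normal subgroup. -/
theorem exists_normal_of_nilpotent {G : Type u} [Group G] [Finite G] [Group.IsNilpotent G]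
    {B : Subgroup G} (hB : B ≠ ⊤) : ∃ N : Subgroup G, N.Normal ∧ N ≠ ⊤ ∧ B ≤ N := by
  rcases eq_top_or_exists_le_coatom B with h | ⟨M, hM, hBM⟩
  · exact (hB h).elim
  · have hnil : Group.IsNilpotent G := inferInstance
    have hn : ∀ H : Subgroup G, IsCoatom H → H.Normal :=
      ((Group.isNilpotent_of_finite_tfae (G := G)).out 0 2).mp hnil
    exact ⟨M, hn M hM, hM.1, hBM⟩

theorem mem_normalizer_of_conj_mem' {G : Type u} [Group G] {C X : Subgroup G}
    (h : ∀ x ∈ X, ∀ c ∈ C, x * c * x⁻¹ ∈ C) : X ≤ Subgroup.normalizer (C : Set G) := by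
  intro x hx
  rw [Subgroup.mem_normalizer_iff]
  intro c
  constructor
  · exact h x hx c
  · intro hc
    have := h x⁻¹ (X.inv_mem hx) _ hc
    have e : x⁻¹ * (x * c * x⁻¹) * x⁻¹⁻¹ = c := by group
    rwa [e] at this

theorem kegel_normal_aux : ∀ (n : ℕ) (G : Type u) [Group G] [Finite G], Nat.card G = n →
    ∀ A B : Subgroup G, Group.IsNilpotent A → Group.IsNilpotent B → Fac A B →
      (A ≠ ⊤ ∨ B ≠ ⊤) → ∃ N : Subgroup G, N.Normal ∧ N ≠ ⊤ ∧ (A ≤ N ∨ B ≤ N) := by
  intro n
  induction n using Nat.strong_induction_on with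
  | _ n ih =>
  intro G _ _ hn A B hA hB fac hne
  by_contra hcon
  push Not at hcon
  have hsol : Group.IsSolvable G := kegel_wielandt A B hA hB fac
  -- Step 0: neither factor is the whole group
  have step0 : ∀ X Y : Subgroup G, Group.IsNilpotent X → X = ⊤ → Y ≠ ⊤ →
      ∃ N : Subgroup G, N.Normal ∧ N ≠ ⊤ ∧ Y ≤ N := by
    intro X Y hX hXt hYt
    have h1 : Group.IsNilpotent (⊤ : Subgroup G) := hXt ▸ hX
    have h2 : Group.IsNilpotent G := Group.nilpotent_of_mulEquiv (Subgroup.topEquiv (G := G))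
    exact exists_normal_of_nilpotent hYt
  have hAtop : A ≠ ⊤ := by
    intro h
    obtain ⟨N, hNn, hNt, hBN⟩ := step0 A B hA h (hne.resolve_left (not_not.mpr h))
    exact (hcon N hNn hNt).2 hBN
  have hBtop : B ≠ ⊤ := by
    intro h
    obtain ⟨N, hNn, hNt, hAN⟩ := step0 B A hB h hAtop
    exact (hcon N hNn hNt).1 hAN
  -- Step 2: both factors cover every proper quotient
  have step2 : ∀ N' : Subgroup G, N'.Normal → N' ≠ ⊥ → A ⊔ N' = ⊤ ∧ B ⊔ N' = ⊤ := by
    intro N' hN'n hN'1
    by_contra h2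
    have hne' : A.map (QuotientGroup.mk' N') ≠ ⊤ ∨ B.map (QuotientGroup.mk' N') ≠ ⊤ := by
      by_contra h3
      push Not at h3
      apply h2
      constructor
      · have := congrArg (Subgroup.comap (QuotientGroup.mk' N')) h3.1
        rw [QuotientGroup.comap_map_mk', Subgroup.comap_top, sup_comm] at this
        exact this
      · have := congrArg (Subgroup.comap (QuotientGroup.mk' N')) h3.2
        rw [QuotientGroup.comap_map_mk', Subgroup.comap_top, sup_comm] at this
        exact this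
    obtain ⟨Nb, hNbn, hNbt, hor⟩ := ih (Nat.card (G ⧸ N')) (hn ▸ card_quotient_lt N' hN'1)
      (G ⧸ N') rfl _ _ (nilpotent_map_quotient hA N') (nilpotent_map_quotient hB N')
      (fac_quotient fac N') hne'
    have hc := hcon (Nb.comap (QuotientGroup.mk' N')) inferInstance (by
      intro ht
      apply hNbt
      apply Subgroup.comap_injective (QuotientGroup.mk'_surjective N')
      rw [ht, Subgroup.comap_top])
    rcases hor with h4 | h4
    · exact hc.1 (Subgroup.map_le_iff_le_comap.mp h4)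
    · exact hc.2 (Subgroup.map_le_iff_le_comap.mp h4)
  -- Step 1: a minimal normal subgroup
  have hG1 : (⊤ : Subgroup G) ≠ ⊥ := by
    intro h
    apply hAtop
    rw [h, eq_bot_iff, ← h]
    exact le_top
  obtain ⟨N, -, hNmin⟩ :=
    Finite.exists_le_minimal (p := fun K : Subgroup G => K.Normal ∧ K ≠ ⊥) (a := ⊤)
      ⟨inferInstance, hG1⟩
  obtain ⟨hNn, hN1⟩ := hNmin.prop
  have hmin : ∀ K : Subgroup G, K.Normal → K ≤ N → K = ⊥ ∨ K = N := by
    intro K hK1 hK2
    by_cases hK : K = ⊥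
    · exact Or.inl hK
    · exact Or.inr (le_antisymm hK2 (hNmin.le_of_le ⟨hK1, hK⟩ hK2))
  have hNsol : Group.IsSolvable N := inferInstance
  obtain ⟨hNcomm, r, hr, hexp⟩ :=
    Cfsg.Agent.Lib.Helper1_MinNormal.elementary_abelian_of_minimal N hNsol hN1 hmin
  have : Fact r.Prime := ⟨hr⟩
  have hNcomm' : ∀ x ∈ N, ∀ y ∈ N, x * y = y * x := by
    intro x hx y hy
    have := hNcomm.is_comm.comm (⟨x, hx⟩ : N) ⟨y, hy⟩
    exact congrArg Subtype.val this
  have hNr : IsPGroup r N := by
    intro x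
    refine ⟨1, ?_⟩
    rw [pow_one]
    exact Subtype.ext (by rw [Subgroup.coe_pow]; exact hexp x.1 x.2)
  obtain ⟨hAN, hBN⟩ := step2 N hNn hN1
  -- Step 3: the factors meet `N` trivially
  have step3 : ∀ X : Subgroup G, X ⊔ N = ⊤ → X ≠ ⊤ → X ⊓ N = ⊥ := by
    intro X hXN hXt
    have hnorm : Subgroup.normalizer ((X ⊓ N : Subgroup G) : Set G) = ⊤ := by
      rw [eq_top_iff, ← hXN]
      apply sup_le
      · apply mem_normalizer_of_conj_mem'
        intro x hx c hc
        obtain ⟨hc1, hc2⟩ := Subgroup.mem_inf.mp hc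
        exact Subgroup.mem_inf.mpr ⟨X.mul_mem (X.mul_mem hx hc1) (X.inv_mem hx),
          hNn.conj_mem c hc2 x⟩
      · intro y hy
        apply mem_normalizer_of_commute
        intro u hu
        exact hNcomm' y hy u (Subgroup.mem_inf.mp hu).2
    rcases hmin (X ⊓ N) (Subgroup.normalizer_eq_top_iff.mp hnorm) inf_le_right with h0 | h0
    · exact h0
    · exfalso
      apply hXt
      rw [← hXN]
      exact (sup_eq_left.mpr (h0 ▸ inf_le_left)).symm
  -- Step 4: the factors are `r'`-groups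
  have step4 : ∀ X : Subgroup G, Group.IsNilpotent X → X ⊔ N = ⊤ → X ≠ ⊤ →
      (∀ N' : Subgroup G, N'.Normal → N' ≠ ⊥ → X ⊔ N' = ⊤) → sy r X = ⊥ := by
    intro X hX hXN hXt hX2
    by_contra hs
    have hP : IsPGroup r (N ⊔ sy r X : Subgroup G) :=
      IsPGroup.to_sup_of_normal_left hNr (sy_isPGroup r X)
    have hNP : (N.subgroupOf (N ⊔ sy r X)).Normal := Subgroup.normal_subgroupOf
    have hNP1 : N.subgroupOf (N ⊔ sy r X) ≠ ⊥ := by
      intro h
      apply hN1
      rw [Subgroup.subgroupOf_eq_bot] at h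
      rw [eq_bot_iff]
      intro u hu
      have : u ∈ N ⊓ (N ⊔ sy r X) := Subgroup.mem_inf.mpr ⟨hu, Subgroup.mem_sup_left hu⟩
      rw [disjoint_iff.mp h] at this
      exact this
    obtain ⟨z, hzN, hzc, hz1⟩ :=
      Cfsg.Agent.Lib.Helper32_PGroup.exists_mem_center_of_normal hP (N.subgroupOf (N ⊔ sy r X)) hNP1
    obtain ⟨C, hC⟩ : ∃ C : Subgroup G,
        C = N ⊓ Subgroup.centralizer ((sy r X : Subgroup G) : Set G) := ⟨_, rfl⟩
    have hzC : (z : G) ∈ C := by
      rw [hC]
      refine Subgroup.mem_inf.mpr ⟨Subgroup.mem_subgroupOf.mp hzN, ?_⟩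
      rw [Subgroup.mem_centralizer_iff]
      intro y hy
      have := Subgroup.mem_center_iff.mp hzc ⟨y, Subgroup.mem_sup_right hy⟩
      exact congrArg Subtype.val this
    have hC1 : C ≠ ⊥ := by
      intro h0
      rw [h0, Subgroup.mem_bot] at hzC
      exact hz1 (Subtype.ext hzC)
    have hCnorm : Subgroup.normalizer (C : Set G) = ⊤ := by
      rw [eq_top_iff, ← hXN]
      apply sup_le
      · apply mem_normalizer_of_conj_mem'
        intro x hx c hc
        rw [hC] at hc ⊢
        obtain ⟨hc1, hc2⟩ := Subgroup.mem_inf.mp hc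
        refine Subgroup.mem_inf.mpr ⟨hNn.conj_mem c hc1 x, ?_⟩
        rw [Subgroup.mem_centralizer_iff] at hc2 ⊢
        intro y hy
        have hy' : x⁻¹ * y * x⁻¹⁻¹ ∈ sy r X := sy_conj_mem hX (X.inv_mem hx) hy
        have h1 := hc2 _ hy'
        rw [inv_inv] at h1
        calc y * (x * c * x⁻¹) = x * ((x⁻¹ * y * x) * c) * x⁻¹ := by group
          _ = x * (c * (x⁻¹ * y * x)) * x⁻¹ := by rw [h1]
          _ = x * c * x⁻¹ * y := by group
      · intro y hy
        apply mem_normalizer_of_commute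
        intro u hu
        rw [hC] at hu
        exact hNcomm' y hy u (Subgroup.mem_inf.mp hu).1
    have hCN : C = N := by
      rcases hmin C (Subgroup.normalizer_eq_top_iff.mp hCnorm) (hC ▸ inf_le_left) with h0 | h0
      · exact (hC1 h0).elim
      · exact h0
    have hNcent : ∀ y ∈ N, ∀ u ∈ sy r X, y * u = u * y := by
      intro y hy u hu
      rw [← hCN, hC] at hy
      have := (Subgroup.mem_centralizer_iff.mp (Subgroup.mem_inf.mp hy).2) u hu
      exact this.symm
    have hsn : Subgroup.normalizer ((sy r X : Subgroup G) : Set G) = ⊤ := by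
      rw [eq_top_iff, ← hXN]
      apply sup_le
      · apply mem_normalizer_of_conj_mem'
        intro x hx c hc
        exact sy_conj_mem hX hx hc
      · intro y hy
        apply mem_normalizer_of_commute
        intro u hu
        exact hNcent y hy u hu
    have h5 := hX2 (sy r X) (Subgroup.normalizer_eq_top_iff.mp hsn) hs
    apply hXt
    rw [← h5]
    exact (sup_eq_left.mpr (sy_le r X)).symm
  have hAr := step4 A hA hAN hAtop (fun N' h1 h2 => (step2 N' h1 h2).1)
  have hBr := step4 B hB hBN hBtop (fun N' h1 h2 => (step2 N' h1 h2).2)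
  have hrA : ¬ r ∣ Nat.card A := fun h => sy_ne_bot h hAr
  have hrB : ¬ r ∣ Nat.card B := fun h => sy_ne_bot h hBr
  -- Step 5: `A` and `B` are conjugate complements of `N`
  have hcard : ∀ X : Subgroup G, X ⊔ N = ⊤ → X ⊓ N = ⊥ → Nat.card X * Nat.card N = Nat.card G := by
    intro X hXN hXi
    have hc : Subgroup.IsComplement' X N := by
      apply Subgroup.isComplement'_of_disjoint_and_mul_eq_univ (disjoint_iff.mpr hXi)
      rw [← Subgroup.mul_normal X N, hXN]
      rfl
    exact hc.card_mul_card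
  have hcA := hcard A hAN (step3 A hAN hAtop)
  have hcB := hcard B hBN (step3 B hBN hBtop)
  obtain ⟨k, hk⟩ := IsPGroup.iff_card.mp hNr
  have hAB : Nat.card B = Nat.card A := by
    have : Nat.card B * Nat.card N = Nat.card A * Nat.card N := by rw [hcA, hcB]
    exact Nat.eq_of_mul_eq_mul_right Nat.card_pos this
  have hcop : (Nat.card A).Coprime (r ^ k) :=
    Nat.Coprime.pow_right k ((Nat.Prime.coprime_iff_not_dvd hr).mpr hrA).symm
  rw [hk] at hcA
  obtain ⟨g, hg⟩ := Cfsg.Agent.S0004.result (Nat.card A) (r ^ k) hcA.symm hcop A B rfl hAB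
  obtain ⟨a, ha, b, hb, e⟩ := fac g⁻¹
  rw [← hg, ← cj_eq_smul, mem_cj] at hb
  have hgA : g ∈ A := by
    have e2 : b = a⁻¹ * g⁻¹ := by rw [e]; group
    have h1 : g⁻¹ * b * g = g⁻¹ * a⁻¹ := by rw [e2]; group
    have : g = a⁻¹ * (g⁻¹ * b * g)⁻¹ := by rw [h1]; group
    rw [this]
    exact A.mul_mem (A.inv_mem ha) (A.inv_mem hb)
  have hBA : B = A := by
    rw [← hg, ← cj_eq_smul]
    exact cj_eq_self_of_mem hgA
  apply hAtop
  rw [eq_top_iff]
  intro x _
  obtain ⟨a', ha', b', hb', e'⟩ := fac x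
  rw [hBA] at hb'
  rw [e']
  exact A.mul_mem ha' hb'

/-- **Kegel**: if `G = AB` with `A`, `B` nilpotent and not both equal to `G`, then some proper
normal subgroup of `G` contains `A` or `B`. -/
theorem kegel_normal {G : Type u} [Group G] [Finite G] (A B : Subgroup G)
    (hA : Group.IsNilpotent A) (hB : Group.IsNilpotent B)
    (hAB : ∀ g : G, ∃ a ∈ A, ∃ b ∈ B, g = a * b) (hproper : A ≠ ⊤ ∨ B ≠ ⊤) :
    ∃ N : Subgroup G, N.Normal ∧ N ≠ ⊤ ∧ (A ≤ N ∨ B ≤ N) :=
  kegel_normal_aux (Nat.card G) G rfl A B hA hB hAB hproper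

end Cfsg.Agent.Lib.Helper37_KW
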