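import Mathlib

/-!
# Elementary algebra for `2 × 2` matrices commuting up to scalars (helper37)
-/

set_option autoImplicit false

namespace Cfsg.Agent.Lib.Helper37_PGL2Alg

open Matrix

variable {F : Type*} [Field F]

/-- the four entry equations of `M * N = μ • (N * M)` -/
theorem eq4 (M N : Matrix (Fin 2) (Fin 2) F) (μ : F) (h : M * N = μ • (N * M)) :
    (M 0 0 * N 0 0 + M 0 1 * N 1 0 = μ * (N 0 0 * M 0 0 + N 0 1 * M 1 0)) ∧
    (M 0 0 * N 0 1 + M 0 1 * N 1 1 = μ * (N 0 0 * M 0 1 + N 0 1 * M 1 1)) ∧
    (M 1 0 * N 0 0 + M 1 1 * N 1 0 = μ * (N 1 0 * M 0 0 + N 1 1 * M 1 0)) ∧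
    (M 1 0 * N 0 1 + M 1 1 * N 1 1 = μ * (N 1 0 * M 0 1 + N 1 1 * M 1 1)) := by
  refine ⟨?_, ?_, ?_, ?_⟩
  · have := congrFun (congrFun h 0) 0
    simpa [Matrix.mul_apply, Fin.sum_univ_two] using this
  · have := congrFun (congrFun h 0) 1
    simpa [Matrix.mul_apply, Fin.sum_univ_two] using this
  · have := congrFun (congrFun h 1) 0
    simpa [Matrix.mul_apply, Fin.sum_univ_two] using this
  · have := congrFun (congrFun h 1) 1
    simpa [Matrix.mul_apply, Fin.sum_univ_two] using this

/-- `z` commuting up to `μ` with the unipotent `[[1,1],[0,1]]` -/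
theorem unip_z {a b c d μ : F} (h1 : a + c = μ * a) (h2 : b + d = μ * (a + b)) (h3 : c = μ * c)
    (h4 : d = μ * (c + d)) (hdet : a * d - b * c ≠ 0) : c = 0 ∧ a = d := by
  by_cases hc : c = 0
  · subst hc
    refine ⟨rfl, ?_⟩
    have hd : d ≠ 0 := by
      intro hd
      apply hdet
      rw [hd]; ring
    have hμ : μ = 1 := by
      have : d * (1 - μ) = 0 := by linear_combination h4
      rcases mul_eq_zero.1 this with h | h
      · exact absurd h hd
      · exact (sub_eq_zero.1 h).symm
    subst hμ
    linear_combination -h2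
  · exfalso
    have hμ : μ = 1 := by
      have : c * (1 - μ) = 0 := by linear_combination h3
      rcases mul_eq_zero.1 this with h | h
      · exact absurd h hc
      · exact (sub_eq_zero.1 h).symm
    subst hμ
    apply hc
    linear_combination -h4

/-- `α` commuting up to `μ` with `[[a,b],[0,a]]`, `b ≠ 0` -/
theorem unip_α {a b p q r s μ : F} (ha : a ≠ 0) (hb : b ≠ 0) (h1 : p * a = μ * (a * p + b * r))
    (h2 : p * b + q * a = μ * (a * q + b * s)) (h3 : r * a = μ * (a * r))
    (_h4 : r * b + s * a = μ * (a * s)) (hdet : p * s - q * r ≠ 0) : r = 0 ∧ p = s := by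
  by_cases hr : r = 0
  · subst hr
    refine ⟨rfl, ?_⟩
    have hp : p ≠ 0 := by
      intro hp
      apply hdet
      rw [hp]; ring
    have hμ : μ = 1 := by
      have : (p * a) * (1 - μ) = 0 := by linear_combination h1
      rcases mul_eq_zero.1 this with h | h
      · exact absurd h (mul_ne_zero hp ha)
      · exact (sub_eq_zero.1 h).symm
    subst hμ
    have : b * (p - s) = 0 := by linear_combination h2
    rcases mul_eq_zero.1 this with h | h
    · exact absurd h hb
    · exact sub_eq_zero.1 h
  · exfalso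
    have hμ : μ = 1 := by
      have : (r * a) * (1 - μ) = 0 := by linear_combination h3
      rcases mul_eq_zero.1 this with h | h
      · exact absurd h (mul_ne_zero hr ha)
      · exact (sub_eq_zero.1 h).symm
    subst hμ
    have : b * r = 0 := by linear_combination -h1
    rcases mul_eq_zero.1 this with h | h
    · exact hb h
    · exact hr h

/-- `z` commuting up to `μ` with `diag(σ, τ)`, `σ τ = 1`, `σ ^ 2 ≠ 1` -/
theorem tor_z {a b c d σ τ μ : F} (hστ : σ * τ = 1) (hσ2 : σ ^ 2 ≠ 1)
    (h1 : σ * a = μ * (a * σ)) (h2 : σ * b = μ * (b * τ)) (h3 : τ * c = μ * (c * σ))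
    (h4 : τ * d = μ * (d * τ)) (hdet : a * d - b * c ≠ 0) :
    (b = 0 ∧ c = 0) ∨ (a = 0 ∧ d = 0 ∧ σ ^ 4 = 1) := by
  have hσ0 : σ ≠ 0 := left_ne_zero_of_mul_eq_one hστ
  have hτ0 : τ ≠ 0 := right_ne_zero_of_mul_eq_one hστ
  have hne : σ - τ ≠ 0 := by
    intro h
    apply hσ2
    have : σ = τ := sub_eq_zero.1 h
    rw [pow_two]
    nth_rewrite 2 [this]
    exact hστ
  by_cases hμ : μ = 1
  · subst hμ
    left
    constructor
    · have : b * (σ - τ) = 0 := by linear_combination h2
      rcases mul_eq_zero.1 this with h | h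
      · exact h
      · exact absurd h hne
    · have : c * (σ - τ) = 0 := by linear_combination -h3
      rcases mul_eq_zero.1 this with h | h
      · exact h
      · exact absurd h hne
  · right
    have hμ' : 1 - μ ≠ 0 := fun h => hμ (sub_eq_zero.1 h).symm
    have ha : a = 0 := by
      have : (σ * (1 - μ)) * a = 0 := by linear_combination h1
      rcases mul_eq_zero.1 this with h | h
      · exact absurd h (mul_ne_zero hσ0 hμ')
      · exact h
    have hd : d = 0 := by
      have : (τ * (1 - μ)) * d = 0 := by linear_combination h4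
      rcases mul_eq_zero.1 this with h | h
      · exact absurd h (mul_ne_zero hτ0 hμ')
      · exact h
    refine ⟨ha, hd, ?_⟩
    subst ha hd
    have hb : b ≠ 0 := by
      intro hb
      apply hdet
      rw [hb]; ring
    have hc : c ≠ 0 := by
      intro hc
      apply hdet
      rw [hc]; ring
    have e1 : σ = μ * τ := by
      have : b * (σ - μ * τ) = 0 := by linear_combination h2
      rcases mul_eq_zero.1 this with h | h
      · exact absurd h hb
      · exact sub_eq_zero.1 h
    have e2 : τ = μ * σ := by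
      have : c * (τ - μ * σ) = 0 := by linear_combination h3
      rcases mul_eq_zero.1 this with h | h
      · exact absurd h hc
      · exact sub_eq_zero.1 h
    -- `σ^2 = μ`, `μ^2 = 1`
    have e3 : σ ^ 2 = μ := by
      calc σ ^ 2 = σ * σ := pow_two σ
        _ = (μ * τ) * σ := by rw [← e1]
        _ = μ * (σ * τ) := by ring
        _ = μ := by rw [hστ, mul_one]
    have e4 : μ ^ 2 = 1 := by
      calc μ ^ 2 = μ * (μ * (σ * τ)) := by rw [hστ]; ring
        _ = (μ * τ) * (μ * σ) := by ring
        _ = σ * τ := by rw [← e1, ← e2]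
        _ = 1 := hστ
    calc σ ^ 4 = (σ ^ 2) ^ 2 := by ring
      _ = 1 := by rw [e3, e4]

/-- `α` commuting up to `μ` with `diag(a, d)`, `a ≠ d` -/
theorem diag_α {a d p q r s μ : F} (ha : a ≠ 0) (hd : d ≠ 0) (had : a ≠ d)
    (h1 : p * a = μ * (a * p)) (h2 : q * d = μ * (a * q)) (h3 : r * a = μ * (d * r))
    (h4 : s * d = μ * (d * s)) : (q = 0 ∧ r = 0) ∨ (p = 0 ∧ s = 0) := by
  by_cases hμ : μ = 1
  · subst hμ
    left
    have hne : d - a ≠ 0 := fun h => had (sub_eq_zero.1 h).symm
    constructor
    · have : q * (d - a) = 0 := by linear_combination h2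
      rcases mul_eq_zero.1 this with h | h
      · exact h
      · exact absurd h hne
    · have : r * (d - a) = 0 := by linear_combination -h3
      rcases mul_eq_zero.1 this with h | h
      · exact h
      · exact absurd h hne
  · right
    have hμ' : 1 - μ ≠ 0 := fun h => hμ (sub_eq_zero.1 h).symm
    constructor
    · have : (a * (1 - μ)) * p = 0 := by linear_combination h1
      rcases mul_eq_zero.1 this with h | h
      · exact absurd h (mul_ne_zero ha hμ')
      · exact h
    · have : (d * (1 - μ)) * s = 0 := by linear_combination h4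
      rcases mul_eq_zero.1 this with h | h
      · exact absurd h (mul_ne_zero hd hμ')
      · exact h

/-- `α` commuting up to `μ` with the antidiagonal matrix `[[0,β],[γ,0]]` -/
theorem anti_α {β γ p q r s μ : F} (hβ : β ≠ 0) (hγ : γ ≠ 0)
    (h1 : q * γ = μ * (β * r)) (h2 : p * β = μ * (β * s)) (h3 : s * γ = μ * (γ * p))
    (h4 : r * β = μ * (γ * q)) (hdet : p * s - q * r ≠ 0) :
    (p = s ∧ q * γ = β * r) ∨ (s = -p ∧ q * γ = -(β * r)) := by
  have e1 : p = μ * s := by
    have : β * (p - μ * s) = 0 := by linear_combination h2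
    rcases mul_eq_zero.1 this with h | h
    · exact absurd h hβ
    · exact sub_eq_zero.1 h
  have e2 : s = μ * p := by
    have : γ * (s - μ * p) = 0 := by linear_combination h3
    rcases mul_eq_zero.1 this with h | h
    · exact absurd h hγ
    · exact sub_eq_zero.1 h
  have hμ2 : μ ^ 2 = 1 := by
    by_contra hne
    have hne' : 1 - μ ^ 2 ≠ 0 := fun h => hne (sub_eq_zero.1 h).symm
    have hp : p = 0 := by
      have : (1 - μ ^ 2) * p = 0 := by
        have : p = μ * (μ * p) := by rw [← e2]; exact e1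
        linear_combination this
      rcases mul_eq_zero.1 this with h | h
      · exact absurd h hne'
      · exact h
    have hq : q = 0 := by
      have : ((1 - μ ^ 2) * γ) * q = 0 := by
        have e5 : β * (q * γ) = μ * β * (r * β) := by rw [h1]; ring
        rw [h4] at e5
        have : β * ((1 - μ ^ 2) * γ * q) = 0 := by linear_combination e5
        rcases mul_eq_zero.1 this with h | h
        · exact absurd h hβ
        · exact h
      rcases mul_eq_zero.1 this with h | h
      · exact absurd h (mul_ne_zero hne' hγ)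
      · exact h
    apply hdet
    rw [hp, hq]; ring
  have hμ : μ = 1 ∨ μ = -1 := by
    have : (μ - 1) * (μ + 1) = 0 := by linear_combination hμ2
    rcases mul_eq_zero.1 this with h | h
    · left; exact sub_eq_zero.1 h
    · right; exact eq_neg_of_add_eq_zero_left h
  rcases hμ with rfl | rfl
  · left
    exact ⟨by rw [e1, one_mul], by rw [h1, one_mul]⟩
  · right
    exact ⟨by rw [e2]; ring, by rw [h1]; ring⟩

/-- a `2 × 2` matrix with a root `c` of its characteristic polynomial has an eigenvector -/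
theorem exists_eigvec (α : Matrix (Fin 2) (Fin 2) F) (c : F)
    (h : (α 0 0 - c) * (α 1 1 - c) - α 0 1 * α 1 0 = 0) :
    ∃ v : Fin 2 → F, v ≠ 0 ∧ α *ᵥ v = c • v := by
  have hdet : (α - c • (1 : Matrix (Fin 2) (Fin 2) F)).det = 0 := by
    rw [Matrix.det_fin_two]
    simp only [Matrix.sub_apply, Matrix.smul_apply, Matrix.one_apply_eq, smul_eq_mul, mul_one]
    have h01 : (1 : Matrix (Fin 2) (Fin 2) F) 0 1 = 0 := Matrix.one_apply_ne (by decide)
    have h10 : (1 : Matrix (Fin 2) (Fin 2) F) 1 0 = 0 := Matrix.one_apply_ne (by decide)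
    rw [h01, h10, mul_zero, sub_zero, sub_zero]
    exact h
  obtain ⟨v, hv, hv0⟩ := exists_mulVec_eq_zero_iff.2 hdet
  refine ⟨v, hv, ?_⟩
  rw [sub_mulVec, smul_mulVec, one_mulVec] at hv0
  exact sub_eq_zero.1 hv0

/-- if `σ ^ (2 ^ k) = 1` and `σ ^ 2 ≠ 1` then `-1` is a square -/
theorem isSquare_neg_one_of_pow {σ : F} (hσ2 : σ ^ 2 ≠ 1) (h : ∃ k : ℕ, σ ^ (2 ^ k) = 1) :
    IsSquare (-1 : F) := by
  classical
  have hk0 := Nat.find_spec h
  have hmin := fun j (hj : j < Nat.find h) => Nat.find_min h hj
  set k₀ := Nat.find h with hk₀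
  have h2 : 2 ≤ k₀ := by
    by_contra hlt
    have : k₀ = 0 ∨ k₀ = 1 := by omega
    rcases this with h' | h'
    · rw [h'] at hk0
      apply hσ2
      simp only [pow_zero, pow_one] at hk0
      rw [hk0, one_pow]
    · rw [h'] at hk0
      apply hσ2
      simpa using hk0
  obtain ⟨j, hj⟩ : ∃ j, k₀ = j + 2 := ⟨k₀ - 2, by omega⟩
  set y := σ ^ (2 ^ (j + 1)) with hy
  have hy2 : y ^ 2 = 1 := by
    rw [hy, ← pow_mul, ← pow_succ, ← hj]
    exact hk0
  have hy1 : y ≠ 1 := hmin (j + 1) (by omega)
  have hyneg : y = -1 := by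
    have : (y - 1) * (y + 1) = 0 := by linear_combination hy2
    rcases mul_eq_zero.1 this with h' | h'
    · exact absurd (sub_eq_zero.1 h') hy1
    · exact eq_neg_of_add_eq_zero_left h'
  refine ⟨σ ^ (2 ^ j), ?_⟩
  rw [← hyneg, hy, ← pow_two, ← pow_mul, ← pow_succ]

end Cfsg.Agent.Lib.Helper37_PGL2Alg
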