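import Mathlib

/-!
# Block computations for `(m+1) × (m+1)` matrices (helper37)

Matrices indexed by `Fin m ⊕ Fin 1` are decomposed into an `m × m` block `blk`, a column `lcol`,
a row `lrow` and a corner entry `cor`.  For a matrix `S` acting transitively (through its powers)
on the nonzero vectors (`Sing S`, a "Singer cycle"), we analyse the matrices commuting up to
scalars with `x = S ⊕ δ`.
-/

set_option autoImplicit false

namespace Cfsg.Agent.Lib.Helper37_PGLBlock

open Matrix

set_option linter.unusedSectionVars false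

variable {F : Type*} [Field F] {m : ℕ}

/-- the index type -/
abbrev Idx (m : ℕ) := Fin m ⊕ Fin 1

/-- upper left block -/
def blk (M : Matrix (Idx m) (Idx m) F) : Matrix (Fin m) (Fin m) F :=
  fun i j => M (Sum.inl i) (Sum.inl j)

/-- last column -/
def lcol (M : Matrix (Idx m) (Idx m) F) : Fin m → F := fun i => M (Sum.inl i) (Sum.inr 0)

/-- last row -/
def lrow (M : Matrix (Idx m) (Idx m) F) : Fin m → F := fun j => M (Sum.inr 0) (Sum.inl j)

/-- corner entry -/
def cor (M : Matrix (Idx m) (Idx m) F) : F := M (Sum.inr 0) (Sum.inr 0)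

/-- assemble a matrix from its four parts -/
def asm (A : Matrix (Fin m) (Fin m) F) (b c : Fin m → F) (d : F) : Matrix (Idx m) (Idx m) F :=
  fun i j => Sum.elim (fun i' => Sum.elim (fun j' => A i' j') (fun _ => b i') j)
    (fun _ => Sum.elim (fun j' => c j') (fun _ => d) j) i

@[simp] theorem blk_asm (A : Matrix (Fin m) (Fin m) F) (b c : Fin m → F) (d : F) :
    blk (asm A b c d) = A := rfl

@[simp] theorem lcol_asm (A : Matrix (Fin m) (Fin m) F) (b c : Fin m → F) (d : F) :
    lcol (asm A b c d) = b := rfl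

@[simp] theorem lrow_asm (A : Matrix (Fin m) (Fin m) F) (b c : Fin m → F) (d : F) :
    lrow (asm A b c d) = c := rfl

@[simp] theorem cor_asm (A : Matrix (Fin m) (Fin m) F) (b c : Fin m → F) (d : F) :
    cor (asm A b c d) = d := rfl

theorem ext_parts {M N : Matrix (Idx m) (Idx m) F} (h1 : blk M = blk N) (h2 : lcol M = lcol N)
    (h3 : lrow M = lrow N) (h4 : cor M = cor N) : M = N := by
  ext i j
  rcases i with i | i <;> rcases j with j | j
  · exact congrFun (congrFun h1 i) j
  · have : j = 0 := Subsingleton.elim _ _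
    subst this
    exact congrFun h2 i
  · have : i = 0 := Subsingleton.elim _ _
    subst this
    exact congrFun h3 j
  · have : i = 0 := Subsingleton.elim _ _
    have : j = 0 := Subsingleton.elim _ _
    subst i j
    exact h4

theorem asm_parts (M : Matrix (Idx m) (Idx m) F) : asm (blk M) (lcol M) (lrow M) (cor M) = M :=
  ext_parts rfl rfl rfl rfl

theorem blk_mul (M N : Matrix (Idx m) (Idx m) F) :
    blk (M * N) = blk M * blk N + vecMulVec (lcol M) (lrow N) := by
  ext i j
  simp [blk, lcol, lrow, Matrix.mul_apply, Fintype.sum_sum_type, vecMulVec_apply]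

theorem lcol_mul (M N : Matrix (Idx m) (Idx m) F) :
    lcol (M * N) = blk M *ᵥ lcol N + cor N • lcol M := by
  ext i
  simp [blk, lcol, cor, Matrix.mul_apply, Fintype.sum_sum_type, mulVec, dotProduct, mul_comm]

theorem lrow_mul (M N : Matrix (Idx m) (Idx m) F) :
    lrow (M * N) = lrow M ᵥ* blk N + cor M • lrow N := by
  ext j
  simp [blk, lrow, cor, Matrix.mul_apply, Fintype.sum_sum_type, vecMul, dotProduct]

theorem cor_mul (M N : Matrix (Idx m) (Idx m) F) :
    cor (M * N) = lrow M ⬝ᵥ lcol N + cor M * cor N := by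
  simp [lrow, lcol, cor, Matrix.mul_apply, Fintype.sum_sum_type, dotProduct]

@[simp] theorem blk_smul (c : F) (M : Matrix (Idx m) (Idx m) F) : blk (c • M) = c • blk M := rfl

@[simp] theorem lcol_smul (c : F) (M : Matrix (Idx m) (Idx m) F) : lcol (c • M) = c • lcol M := rfl

@[simp] theorem lrow_smul (c : F) (M : Matrix (Idx m) (Idx m) F) : lrow (c • M) = c • lrow M := rfl

@[simp] theorem cor_smul (c : F) (M : Matrix (Idx m) (Idx m) F) : cor (c • M) = c * cor M := rfl

@[simp] theorem blk_one : blk (1 : Matrix (Idx m) (Idx m) F) = 1 := by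
  ext i j
  simp [blk, Matrix.one_apply]

@[simp] theorem lcol_one : lcol (1 : Matrix (Idx m) (Idx m) F) = 0 := by
  ext i
  simp [lcol]

@[simp] theorem lrow_one : lrow (1 : Matrix (Idx m) (Idx m) F) = 0 := by
  ext i
  simp [lrow]

@[simp] theorem cor_one : cor (1 : Matrix (Idx m) (Idx m) F) = 1 := by
  simp [cor]

/-- determinant of a matrix with zero last column -/
theorem det_of_col_zero (M : Matrix (Idx m) (Idx m) F) (h : lcol M = 0) :
    M.det = (blk M).det * cor M := by
  have : M = fromBlocks (blk M) (0 : Matrix (Fin m) (Fin 1) F)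
      (Matrix.of (fun (_ : Fin 1) j => lrow M j)) (Matrix.of (fun (_ : Fin 1) (_ : Fin 1) => cor M)) := by
    apply ext_parts
    · rfl
    · rw [h]; rfl
    · rfl
    · rfl
  conv_lhs => rw [this]
  rw [det_fromBlocks_zero₁₂]
  congr 1
  rw [det_unique]
  rfl


/-! ### Singer cycles -/

/-- the powers of `S` act transitively on nonzero vectors -/
def Sing (S : Matrix (Fin m) (Fin m) F) : Prop :=
  ∀ v w : Fin m → F, v ≠ 0 → w ≠ 0 → ∃ j : ℕ, w = (S ^ j) *ᵥ v

/-- Schur's lemma -/
theorem schur {S M : Matrix (Fin m) (Fin m) F} (hS : Sing S) (hc : M * S = S * M)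
    {v : Fin m → F} (hv : v ≠ 0) (h0 : M *ᵥ v = 0) : M = 0 := by
  apply Matrix.mulVec_injective
  funext w
  rw [Matrix.zero_mulVec]
  by_cases hw : w = 0
  · rw [hw, mulVec_zero]
  · obtain ⟨j, rfl⟩ := hS v w hv hw
    have hcj : M * S ^ j = S ^ j * M := Commute.pow_right (show Commute M S from hc) j
    rw [mulVec_mulVec, hcj, ← mulVec_mulVec, h0, mulVec_zero]

theorem commute_sub_smul (S : Matrix (Fin m) (Fin m) F) (Z : Matrix (Fin m) (Fin m) F)
    (h : Z * S = S * Z) (ν : F) : (Z - ν • 1) * S = S * (Z - ν • 1) := by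
  rw [sub_mul, mul_sub, h, Matrix.smul_mul, Matrix.mul_smul, one_mul, mul_one]

/-- a Singer cycle in dimension at least two has no eigenvector -/
theorem no_eig {S : Matrix (Fin m) (Fin m) F} (hS : Sing S) (hm : 2 ≤ m) {v : Fin m → F}
    (hv : v ≠ 0) (ν : F) (h : S *ᵥ v = ν • v) : False := by
  have hM : S - ν • 1 = 0 := by
    apply schur hS (commute_sub_smul S S rfl ν) hv
    rw [sub_mulVec, h, smul_mulVec, one_mulVec, sub_self]
  have hSν : S = ν • 1 := sub_eq_zero.1 hM
  have hpow : ∀ j : ℕ, (S ^ j) *ᵥ v = ν ^ j • v := by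
    intro j
    rw [hSν, smul_pow, one_pow, smul_mulVec, one_mulVec]
  let i₀ : Fin m := ⟨0, by omega⟩
  let i₁ : Fin m := ⟨1, by omega⟩
  have hne : i₀ ≠ i₁ := by
    intro h
    have := congrArg Fin.val h
    simp [i₀, i₁] at this
  have h0 : (Pi.single i₀ 1 : Fin m → F) ≠ 0 := by
    intro h
    have := congrFun h i₀
    simp at this
  have h1 : (Pi.single i₁ 1 : Fin m → F) ≠ 0 := by
    intro h
    have := congrFun h i₁
    simp at this
  obtain ⟨j, hj⟩ := hS v _ hv h0
  obtain ⟨j', hj'⟩ := hS v _ hv h1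
  rw [hpow] at hj hj'
  have e1 := congrFun hj i₀
  have e2 := congrFun hj i₁
  have e3 := congrFun hj' i₁
  simp only [Pi.single_eq_same, Pi.smul_apply, smul_eq_mul] at e1 e3
  rw [Pi.single_eq_of_ne hne.symm] at e2
  simp only [Pi.smul_apply, smul_eq_mul] at e2
  have hνj : ν ^ j ≠ 0 := by
    intro h
    rw [h, zero_mul] at e1
    exact one_ne_zero e1
  have hv1 : v i₁ = 0 := by
    rcases mul_eq_zero.1 e2.symm with h | h
    · exact absurd h hνj
    · exact h
  rw [hv1, mul_zero] at e3
  exact one_ne_zero e3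

/-- the element `x = S ⊕ δ` -/
def xMat (S : Matrix (Fin m) (Fin m) F) (δ : F) : Matrix (Idx m) (Idx m) F := asm S 0 0 δ

/-- analysis of a matrix commuting with `x` up to a scalar -/
theorem analysis_z {S : Matrix (Fin m) (Fin m) F} (hS : Sing S) (hm : 2 ≤ m) {δ : F}
    (hδ : δ ≠ 0) (z : Matrix (Idx m) (Idx m) F) (hz : z.det ≠ 0) (l : F)
    (h : xMat S δ * z = l • (z * xMat S δ)) :
    lcol z = 0 ∧ lrow z = 0 ∧ blk z * S = S * blk z ∧ cor z ≠ 0 ∧ (blk z).det ≠ 0 := by
  have hcol : lcol z = 0 := by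
    have := congrArg lcol h
    rw [lcol_mul, lcol_smul, lcol_mul] at this
    simp only [xMat, blk_asm, lcol_asm, cor_asm, smul_zero, add_zero, mulVec_zero, zero_add,
      smul_smul] at this
    by_contra hne
    exact no_eig hS hm hne _ this
  have hdet := det_of_col_zero z hcol
  have hcor : cor z ≠ 0 := by
    intro h0
    rw [h0, mul_zero] at hdet
    exact hz hdet
  have hblk : (blk z).det ≠ 0 := by
    intro h0
    rw [h0, zero_mul] at hdet
    exact hz hdet
  have hl : l = 1 := by
    have := congrArg cor h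
    rw [cor_mul, cor_smul, cor_mul] at this
    simp only [xMat, lrow_asm, lcol_asm, cor_asm, zero_dotProduct, dotProduct_zero, zero_add] at this
    have h2 : (1 - l) * (δ * cor z) = 0 := by linear_combination this
    rcases mul_eq_zero.1 h2 with h3 | h3
    · exact (sub_eq_zero.1 h3).symm
    · exact absurd h3 (mul_ne_zero hδ hcor)
  subst hl
  rw [one_smul] at h
  have hrow : lrow z = 0 := by
    have := congrArg lrow h
    rw [lrow_mul, lrow_mul] at this
    simp only [xMat, blk_asm, lrow_asm, cor_asm, zero_vecMul, zero_add, smul_zero, add_zero] at this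
    by_contra hne
    have h2 : lrow z ᵥ* (S - δ • 1) = 0 := by
      rw [vecMul_sub, ← this, vecMul_smul, vecMul_one, sub_self]
    have h3 : (S - δ • 1).det = 0 := exists_vecMul_eq_zero_iff.1 ⟨lrow z, hne, h2⟩
    obtain ⟨v, hv, hv0⟩ := exists_mulVec_eq_zero_iff.2 h3
    apply no_eig hS hm hv δ
    rw [sub_mulVec, smul_mulVec, one_mulVec] at hv0
    exact sub_eq_zero.1 hv0
  refine ⟨hcol, hrow, ?_, hcor, hblk⟩
  have := congrArg blk h
  rw [blk_mul, blk_mul] at this
  simp only [xMat, blk_asm, lcol_asm, lrow_asm, hcol, hrow] at this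
  have h0 : vecMulVec (0 : Fin m → F) (0 : Fin m → F) = 0 := by
    ext i j; simp [vecMulVec_apply]
  rw [h0, add_zero, add_zero] at this
  exact this.symm

/-- a nonzero vector orthogonal to a given one, in dimension at least two -/
theorem exists_orth (hm : 2 ≤ m) (c : Fin m → F) : ∃ u : Fin m → F, u ≠ 0 ∧ c ⬝ᵥ u = 0 := by
  let i₀ : Fin m := ⟨0, by omega⟩
  let i₁ : Fin m := ⟨1, by omega⟩
  have hne : i₀ ≠ i₁ := by
    intro h
    have := congrArg Fin.val h
    simp [i₀, i₁] at this
  by_cases h0 : c i₀ = 0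
  · refine ⟨Pi.single i₀ 1, ?_, ?_⟩
    · intro h
      have := congrFun h i₀
      simp at this
    · rw [dotProduct_single, h0, zero_mul]
  · refine ⟨c i₁ • Pi.single i₀ 1 - c i₀ • Pi.single i₁ 1, ?_, ?_⟩
    · intro h
      have := congrFun h i₁
      simp only [Pi.sub_apply, Pi.smul_apply, Pi.single_eq_same, smul_eq_mul, mul_one,
        Pi.zero_apply] at this
      rw [Pi.single_eq_of_ne hne.symm, mul_zero, zero_sub, neg_eq_zero] at this
      exact h0 this
    · rw [dotProduct_sub, dotProduct_smul, dotProduct_smul, dotProduct_single, dotProduct_single]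
      simp only [smul_eq_mul, mul_one]
      ring

/-- a matrix commuting up to a scalar with a block-diagonal non-scalar `z` (whose block commutes
with the Singer cycle) has zero last column -/
theorem analysis_α {S : Matrix (Fin m) (Fin m) F} (hS : Sing S) (hm : 2 ≤ m)
    (z : Matrix (Idx m) (Idx m) F) (hz1 : lcol z = 0) (hz2 : lrow z = 0)
    (hzc : blk z * S = S * blk z) (hcor : cor z ≠ 0) (hns : blk z ≠ cor z • 1)
    (α : Matrix (Idx m) (Idx m) F) (hα : α.det ≠ 0) (μ : F) (hμ : μ ≠ 0)
    (h : α * z = μ • (z * α)) : lcol α = 0 := by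
  by_contra hb
  have hc := congrArg lcol h
  rw [lcol_mul, lcol_smul, lcol_mul, hz1] at hc
  simp only [mulVec_zero, zero_add, smul_zero, add_zero] at hc
  -- `Z b = (μ⁻¹ ζ) b`
  set ν := μ⁻¹ * cor z with hν
  have hZb : blk z *ᵥ lcol α = ν • lcol α := by
    have : μ⁻¹ • (cor z • lcol α) = μ⁻¹ • (μ • blk z *ᵥ lcol α) := by rw [hc]
    rw [smul_smul, smul_smul, inv_mul_cancel₀ hμ, one_smul] at this
    exact this.symm
  have hM : blk z - ν • 1 = 0 := by
    apply schur hS (commute_sub_smul S (blk z) hzc ν) hb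
    rw [sub_mulVec, hZb, smul_mulVec, one_mulVec, sub_self]
  have hZ : blk z = ν • 1 := sub_eq_zero.1 hM
  have hνζ : ν ≠ cor z := by
    intro h'
    apply hns
    rw [hZ, h']
  have hμ1 : μ ≠ 1 := by
    intro h'
    apply hνζ
    rw [hν, h', inv_one, one_mul]
  have hν0 : ν ≠ 0 := mul_ne_zero (inv_ne_zero hμ) hcor
  -- the block of `α` vanishes
  have hblk : blk α = 0 := by
    have hb' := congrArg blk h
    rw [blk_mul, blk_smul, blk_mul, hz1, hz2, hZ] at hb'
    have h0 : ∀ w : Fin m → F, vecMulVec w (0 : Fin m → F) = 0 := by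
      intro w; ext i j; simp [vecMulVec_apply]
    have h0' : ∀ w : Fin m → F, vecMulVec (0 : Fin m → F) w = 0 := by
      intro w; ext i j; simp [vecMulVec_apply]
    rw [h0, h0', add_zero, add_zero, Matrix.mul_smul, Matrix.smul_mul, mul_one, one_mul,
      smul_smul] at hb'
    have h2 : (ν * (1 - μ)) • blk α = 0 := by
      rw [mul_sub, mul_one, sub_smul, mul_comm ν μ, ← hb', sub_self]
    rcases smul_eq_zero.1 h2 with h3 | h3
    · exfalso
      rcases mul_eq_zero.1 h3 with h4 | h4
      · exact hν0 h4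
      · exact hμ1 (sub_eq_zero.1 h4).symm
    · exact h3
  have hcorα : cor α = 0 := by
    have hc' := congrArg cor h
    rw [cor_mul, cor_smul, cor_mul, hz1, hz2] at hc'
    simp only [dotProduct_zero, zero_dotProduct, zero_add] at hc'
    have h2 : (1 - μ) * (cor z * cor α) = 0 := by linear_combination hc'
    rcases mul_eq_zero.1 h2 with h3 | h3
    · exact absurd (sub_eq_zero.1 h3).symm hμ1
    · rcases mul_eq_zero.1 h3 with h4 | h4
      · exact absurd h4 hcor
      · exact h4
  -- `α` is singular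
  obtain ⟨u, hu, hcu⟩ := exists_orth hm (lrow α)
  apply hα
  apply exists_mulVec_eq_zero_iff.1
  refine ⟨Sum.elim u (fun _ => 0), ?_, ?_⟩
  · intro h'
    apply hu
    funext i
    exact congrFun h' (Sum.inl i)
  · funext i
    rcases i with i | i
    · have : ∀ j, α (Sum.inl i) (Sum.inl j) = 0 := fun j => congrFun (congrFun hblk i) j
      simp [mulVec, dotProduct, Fintype.sum_sum_type, this]
    · have hi : i = 0 := Subsingleton.elim _ _
      subst hi
      have : ∑ j, α (Sum.inr 0) (Sum.inl j) * u j = 0 := hcu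
      simp [mulVec, dotProduct, Fintype.sum_sum_type, this]

/-- the unipotent matrix `u = 1 + (lrow r)` -/
def uMat (r : Fin m → F) : Matrix (Idx m) (Idx m) F := asm 1 0 r 1

theorem uMat_mul_uMat_neg (r : Fin m → F) : uMat r * uMat (-r) = 1 := by
  apply ext_parts
  · rw [blk_mul]
    simp only [uMat, blk_asm, lcol_asm, lrow_asm, blk_one, mul_one]
    have : vecMulVec (0 : Fin m → F) (-r) = 0 := by ext i j; simp [vecMulVec_apply]
    rw [this, add_zero]
  · rw [lcol_mul]
    simp [uMat]
  · rw [lrow_mul]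
    simp [uMat]
  · rw [cor_mul]
    simp [uMat]

theorem uMat_neg_mul_uMat (r : Fin m → F) : uMat (-r) * uMat r = 1 := by
  have := uMat_mul_uMat_neg (-r)
  rwa [neg_neg] at this

theorem det_uMat (r : Fin m → F) : (uMat r).det = 1 := by
  rw [det_of_col_zero _ (by simp [uMat])]
  simp [uMat]

/-- two block-diagonal matrices conjugate under `u` : the lrow of `u` vanishes -/
theorem analysis_pair {S : Matrix (Fin m) (Fin m) F} (hS : Sing S)
    (z z' : Matrix (Idx m) (Idx m) F) (hz1 : lcol z = 0) (hz2 : lrow z = 0) (hz2' : lrow z' = 0)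
    (hzc : blk z * S = S * blk z) (hns : blk z ≠ cor z • 1)
    (r : Fin m → F) (h : z * uMat r = uMat r * z') : r = 0 := by
  have hb := congrArg blk h
  rw [blk_mul, blk_mul, hz1] at hb
  simp only [uMat, blk_asm, lcol_asm, lrow_asm, mul_one, one_mul] at hb
  have h0' : ∀ w : Fin m → F, vecMulVec (0 : Fin m → F) w = 0 := by
    intro w; ext i j; simp [vecMulVec_apply]
  rw [h0', h0', add_zero, add_zero] at hb
  have hr := congrArg lrow h
  rw [lrow_mul, lrow_mul, hz2, hz2'] at hr
  simp only [uMat, blk_asm, lrow_asm, cor_asm, zero_vecMul, zero_add, smul_zero, add_zero] at hr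
  rw [← hb] at hr
  by_contra hne
  have h2 : r ᵥ* (blk z - cor z • 1) = 0 := by
    rw [vecMul_sub, ← hr, vecMul_smul, vecMul_one, sub_self]
  have h3 : (blk z - cor z • 1).det = 0 := exists_vecMul_eq_zero_iff.1 ⟨r, hne, h2⟩
  obtain ⟨v, hv, hv0⟩ := exists_mulVec_eq_zero_iff.2 h3
  apply hns
  exact sub_eq_zero.1 (schur hS (commute_sub_smul S (blk z) hzc (cor z)) hv hv0)

end Cfsg.Agent.Lib.Helper37_PGLBlock
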