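import Mathlib

/-!
# Nilpotent subgroups of subgroups of `PGL` (helper37)

For a subgroup `G` of `GL ι F ⧸ center` and a nontrivial nilpotent subgroup `A` of `G`, there is a
non-scalar matrix `z` (a lift of a central element of `A`) such that every lift `α` of an element
of `A` commutes with `z` up to a scalar: `α * z = μ • (z * α)`.
-/

set_option autoImplicit false

namespace Cfsg.Agent.Lib.Helper37_PGLNil

open Matrix

variable {ι : Type*} [Fintype ι] [DecidableEq ι] {F : Type*} [Field F]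

/-- the matrices lifting elements of a subgroup `A` of `G ≤ PGL` -/
def lifts (G : Subgroup (GL ι F ⧸ Subgroup.center (GL ι F))) (A : Subgroup ↥G) : Set (GL ι F) :=
  {α | ∃ h : (QuotientGroup.mk α : GL ι F ⧸ Subgroup.center (GL ι F)) ∈ G, (⟨_, h⟩ : ↥G) ∈ A}

theorem mem_lifts {G : Subgroup (GL ι F ⧸ Subgroup.center (GL ι F))} {A : Subgroup ↥G}
    {α : GL ι F} :
    α ∈ lifts G A ↔
      ∃ h : (QuotientGroup.mk α : GL ι F ⧸ Subgroup.center (GL ι F)) ∈ G, (⟨_, h⟩ : ↥G) ∈ A :=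
  Iff.rfl

theorem exists_lift {G : Subgroup (GL ι F ⧸ Subgroup.center (GL ι F))} {A : Subgroup ↥G}
    (a : ↥G) (ha : a ∈ A) : ∃ α : GL ι F, α ∈ lifts G A ∧ (QuotientGroup.mk α : GL ι F ⧸ _) = a.1 := by
  obtain ⟨α, hα⟩ := QuotientGroup.mk_surjective a.1
  refine ⟨α, ⟨by rw [hα]; exact a.2, ?_⟩, hα⟩
  have : (⟨QuotientGroup.mk α, by rw [hα]; exact a.2⟩ : ↥G) = a := Subtype.ext hα
  rw [this]
  exact ha

theorem mul_mem_lifts {G : Subgroup (GL ι F ⧸ Subgroup.center (GL ι F))} {A : Subgroup ↥G}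
    {α β : GL ι F} (hα : α ∈ lifts G A) (hβ : β ∈ lifts G A) : α * β ∈ lifts G A := by
  obtain ⟨h1, h1'⟩ := hα
  obtain ⟨h2, h2'⟩ := hβ
  refine ⟨by rw [QuotientGroup.mk_mul]; exact G.mul_mem h1 h2, ?_⟩
  have := A.mul_mem h1' h2'
  exact this

theorem inv_mem_lifts {G : Subgroup (GL ι F ⧸ Subgroup.center (GL ι F))} {A : Subgroup ↥G}
    {α : GL ι F} (hα : α ∈ lifts G A) : α⁻¹ ∈ lifts G A := by
  obtain ⟨h1, h1'⟩ := hα
  refine ⟨by rw [QuotientGroup.mk_inv]; exact G.inv_mem h1, ?_⟩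
  have := A.inv_mem h1'
  exact this

/-- scalar multiples of lifts are lifts -/
theorem scalar_mul_mem_lifts {G : Subgroup (GL ι F ⧸ Subgroup.center (GL ι F))} {A : Subgroup ↥G}
    {α : GL ι F} (hα : α ∈ lifts G A) (c : Fˣ) :
    Matrix.GeneralLinearGroup.scalar ι c * α ∈ lifts G A := by
  obtain ⟨h1, h1'⟩ := hα
  have hc : (QuotientGroup.mk (Matrix.GeneralLinearGroup.scalar ι c * α) :
      GL ι F ⧸ Subgroup.center (GL ι F)) = QuotientGroup.mk α := by
    rw [QuotientGroup.mk_mul]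
    have : (QuotientGroup.mk (Matrix.GeneralLinearGroup.scalar ι c) :
        GL ι F ⧸ Subgroup.center (GL ι F)) = 1 := by
      rw [QuotientGroup.eq_one_iff, Matrix.GeneralLinearGroup.center_eq_range_scalar]
      exact ⟨c, rfl⟩
    rw [this, one_mul]
  refine ⟨by rw [hc]; exact h1, ?_⟩
  convert h1' using 2

/-- the key lemma -/
theorem exists_central_lift {G : Subgroup (GL ι F ⧸ Subgroup.center (GL ι F))} {A : Subgroup ↥G}
    (hA : Group.IsNilpotent A) (hne : ∃ a ∈ A, a ≠ 1) :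
    ∃ z : GL ι F, z ∈ lifts G A ∧ z ∉ Subgroup.center (GL ι F) ∧
      ∀ α ∈ lifts G A, ∃ μ : Fˣ, (α : Matrix ι ι F) * (z : Matrix ι ι F) =
        (μ : F) • ((z : Matrix ι ι F) * (α : Matrix ι ι F)) := by
  obtain ⟨a, haA, ha1⟩ := hne
  have hnt : Nontrivial A := ⟨⟨⟨a, haA⟩, 1, fun h => ha1 (congrArg Subtype.val h)⟩⟩
  have hcen := Group.IsNilpotent.center_ne_bot (G := A)
  obtain ⟨⟨⟨ζ, hζA⟩, hζc⟩, hζ1⟩ := (Subgroup.ne_bot_iff_exists_ne_one).1 hcen
  have hζne : ζ ≠ 1 := by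
    intro h
    apply hζ1
    apply Subtype.ext
    apply Subtype.ext
    exact h
  have hcomm : ∀ b : ↥G, b ∈ A → b * ζ = ζ * b := by
    intro b hb
    have := (Subgroup.mem_center_iff.1 hζc) ⟨b, hb⟩
    exact congrArg Subtype.val this
  obtain ⟨z, hzl, hzζ⟩ := exists_lift ζ hζA
  refine ⟨z, hzl, ?_, ?_⟩
  · intro hz
    apply hζne
    apply Subtype.ext
    rw [← hzζ]
    exact (QuotientGroup.eq_one_iff z).2 hz
  · intro α hα
    obtain ⟨h1, h1'⟩ := hα
    have h2 := hcomm _ h1'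
    have h3 : (QuotientGroup.mk (α * z) : GL ι F ⧸ Subgroup.center (GL ι F)) =
        QuotientGroup.mk (z * α) := by
      have := congrArg Subtype.val h2
      simp only [Subgroup.coe_mul] at this
      rw [QuotientGroup.mk_mul, QuotientGroup.mk_mul, hzζ]
      exact this
    rw [QuotientGroup.eq] at h3
    rw [Matrix.GeneralLinearGroup.center_eq_range_scalar] at h3
    obtain ⟨c, hc⟩ := h3
    -- `(α z)⁻¹ (z α) = c`, so `z α = (α z) c`
    have h4 : z * α = (α * z) * Matrix.GeneralLinearGroup.scalar ι c := by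
      rw [hc]; group
    refine ⟨c⁻¹, ?_⟩
    have h5 := congrArg (fun g : GL ι F => (g : Matrix ι ι F)) h4
    simp only [Units.val_mul, Matrix.GeneralLinearGroup.coe_scalar] at h5
    rw [h5]
    have : ((α : Matrix ι ι F) * (z : Matrix ι ι F)) * (Matrix.scalar ι) (c : F) =
        (c : F) • ((α : Matrix ι ι F) * (z : Matrix ι ι F)) := by
      rw [Matrix.scalar_apply, ← Matrix.smul_one_eq_diagonal, Matrix.mul_smul, Matrix.mul_one]
    rw [this, smul_smul]
    have hcc : ((c⁻¹ : Fˣ) : F) * (c : F) = 1 := by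
      rw [← Units.val_mul, inv_mul_cancel, Units.val_one]
    rw [hcc, one_smul]


/-- commuting up to a scalar -/
def ScComm (α z : GL ι F) : Prop := α * z * α⁻¹ * z⁻¹ ∈ Subgroup.center (GL ι F)

theorem ScComm.conj {α z : GL ι F} (h : ScComm α z) (u : GL ι F) :
    ScComm (u⁻¹ * α * u) (u⁻¹ * z * u) := by
  unfold ScComm at h ⊢
  have h1 := (inferInstance : (Subgroup.center (GL ι F)).Normal).conj_mem _ h u⁻¹
  convert h1 using 1
  group

theorem ScComm.exists_smul {α z : GL ι F} (h : ScComm α z) :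
    ∃ μ : F, μ ≠ 0 ∧ (α : Matrix ι ι F) * (z : Matrix ι ι F) =
      μ • ((z : Matrix ι ι F) * (α : Matrix ι ι F)) := by
  unfold ScComm at h
  rw [Matrix.GeneralLinearGroup.center_eq_range_scalar] at h
  obtain ⟨c, hc⟩ := h
  have h4 : α * z = Matrix.GeneralLinearGroup.scalar ι c * (z * α) := by
    rw [hc]; group
  refine ⟨c, c.ne_zero, ?_⟩
  have h5 := congrArg (fun g : GL ι F => (g : Matrix ι ι F)) h4
  simp only [Units.val_mul, Matrix.GeneralLinearGroup.coe_scalar] at h5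
  rw [h5, Matrix.scalar_apply, ← Matrix.smul_one_eq_diagonal, Matrix.smul_mul, Matrix.one_mul]

theorem scComm_of_smul {α z : GL ι F} (μ : Fˣ)
    (h : (α : Matrix ι ι F) * (z : Matrix ι ι F) =
      (μ : F) • ((z : Matrix ι ι F) * (α : Matrix ι ι F))) : ScComm α z := by
  unfold ScComm
  rw [Matrix.GeneralLinearGroup.center_eq_range_scalar]
  refine ⟨μ, ?_⟩
  have h4 : α * z = Matrix.GeneralLinearGroup.scalar ι μ * (z * α) := by
    apply Units.ext
    simp only [Units.val_mul, Matrix.GeneralLinearGroup.coe_scalar]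
    rw [h, Matrix.scalar_apply, ← Matrix.smul_one_eq_diagonal, Matrix.smul_mul, Matrix.one_mul]
  calc Matrix.GeneralLinearGroup.scalar ι μ
      = (Matrix.GeneralLinearGroup.scalar ι μ * (z * α)) * α⁻¹ * z⁻¹ := by group
    _ = α * z * α⁻¹ * z⁻¹ := by rw [← h4]

/-- the key lemma, in terms of `ScComm` -/
theorem exists_central_lift' {G : Subgroup (GL ι F ⧸ Subgroup.center (GL ι F))} {A : Subgroup ↥G}
    (hA : Group.IsNilpotent A) (hne : ∃ a ∈ A, a ≠ 1) :
    ∃ z : GL ι F, z ∈ lifts G A ∧ z ∉ Subgroup.center (GL ι F) ∧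
      ∀ α ∈ lifts G A, ScComm α z := by
  obtain ⟨z, hz, hzc, h⟩ := exists_central_lift hA hne
  refine ⟨z, hz, hzc, fun α hα => ?_⟩
  obtain ⟨μ, hμ⟩ := h α hα
  exact scComm_of_smul μ hμ

end Cfsg.Agent.Lib.Helper37_PGLNil
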