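import Mathlib
import Cfsg.Agent.Lib.Helper37_PGLBlock

/-!
# Existence of Singer cycles (helper37)

`exists_sing` : over a finite field there is an invertible `m × m` matrix whose powers act
transitively on the nonzero vectors.
-/

set_option autoImplicit false

open Matrix Cfsg.Agent.Lib.Helper37_PGLBlock

namespace Cfsg.Agent.Lib.Helper37_Singer

variable {F : Type*} [Field F] [Fintype F]

theorem exists_sing (m : ℕ) (hm : 1 ≤ m) :
    ∃ S : Matrix (Fin m) (Fin m) F, Sing S ∧ S.det ≠ 0 := by
  classical
  obtain ⟨p, hp⟩ := CharP.exists F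
  have hpp : Fact p.Prime := ⟨CharP.char_is_prime F p⟩
  have : NeZero m := ⟨by omega⟩
  let K := FiniteField.Extension F p m
  let _ : Fintype K := Fintype.ofFinite K
  have hfin : Module.finrank F K = m := FiniteField.finrank_extension F p m
  obtain ⟨ω, hω⟩ := IsCyclic.exists_generator (α := Kˣ)
  let b : Module.Basis (Fin m) F K := Module.finBasisOfFinrankEq F K hfin
  refine ⟨Algebra.leftMulMatrix b (ω : K), ?_, ?_⟩
  · intro v w hv hw
    -- the corresponding field elements
    set κv : K := b.equivFun.symm v with hκv
    set κw : K := b.equivFun.symm w with hκw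
    have hv' : κv ≠ 0 := by
      intro h
      apply hv
      have := congrArg b.equivFun h
      rw [hκv, LinearEquiv.apply_symm_apply, map_zero] at this
      exact this
    have hw' : κw ≠ 0 := by
      intro h
      apply hw
      have := congrArg b.equivFun h
      rw [hκw, LinearEquiv.apply_symm_apply, map_zero] at this
      exact this
    -- the quotient as a power of `ω`
    let q : Kˣ := Units.mk0 κw hw' * (Units.mk0 κv hv')⁻¹
    have hq : q ∈ Subgroup.zpowers ω := hω q
    rw [← mem_powers_iff_mem_zpowers] at hq
    obtain ⟨j, hj⟩ := hq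
    replace hj : ω ^ j = q := hj
    refine ⟨j, ?_⟩
    have h1 : (ω : K) ^ j * κv = κw := by
      have : ((ω ^ j : Kˣ) : K) = κw * κv⁻¹ := by
        rw [hj]
        simp [q]
      rw [← Units.val_pow_eq_pow_val, this, mul_assoc, inv_mul_cancel₀ hv', mul_one]
    have h2 := Algebra.leftMulMatrix_mulVec_repr b ((ω : K) ^ j) κv
    rw [h1, map_pow] at h2
    have e1 : (b.repr κv : Fin m → F) = v := by
      have : b.equivFun κv = v := by rw [hκv, LinearEquiv.apply_symm_apply]
      exact this
    have e2 : (b.repr κw : Fin m → F) = w := by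
      have : b.equivFun κw = w := by rw [hκw, LinearEquiv.apply_symm_apply]
      exact this
    rw [e1, e2] at h2
    exact h2.symm
  · have hu : IsUnit (Algebra.leftMulMatrix b (ω : K)) :=
      (ω.isUnit).map (Algebra.leftMulMatrix b)
    have := (Matrix.isUnit_iff_isUnit_det _).1 hu
    exact this.ne_zero

end Cfsg.Agent.Lib.Helper37_Singer
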