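import Mathlib
import Cfsg.Agent.Lib.Helper37_Cover3
import Cfsg.Agent.Lib.Helper37_PGLNil
import Cfsg.Agent.Lib.Helper37_PGLBlock
import Cfsg.Agent.Lib.Helper37_Singer

/-!
# Groups between `PSL` and `PGL` in dimension `m + 1 ≥ 3` have no nilpotent minimal cover
(index type `Fin m ⊕ Fin 1`) (helper37)
-/

set_option autoImplicit false

namespace Cfsg.Agent.Lib.Helper37_PGLBig

open Matrix Cfsg.Agent.Lib.Helper37_Cover2 Cfsg.Agent.Lib.Helper37_Cover3
  Cfsg.Agent.Lib.Helper37_PGLNil Cfsg.Agent.Lib.Helper37_PGLBlock Cfsg.Agent.Lib.Helper37_Singer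

variable {F : Type*} [Field F] {m : ℕ}

theorem det_ne_zero_of_GL {ι : Type*} [Fintype ι] [DecidableEq ι] (α : GL ι F) :
    (α : Matrix ι ι F).det ≠ 0 :=
  ((Matrix.isUnit_iff_isUnit_det _).1 α.isUnit).ne_zero

/-- invertible matrices with zero last column -/
def colSub (m : ℕ) (F : Type*) [Field F] : Subgroup (GL (Idx m) F) where
  carrier := {α | lcol (α : Matrix (Idx m) (Idx m) F) = 0}
  one_mem' := by
    show lcol ((1 : GL (Idx m) F) : Matrix (Idx m) (Idx m) F) = 0
    rw [Units.val_one, lcol_one]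
  mul_mem' := by
    intro a b ha hb
    show lcol ((a * b : GL (Idx m) F) : Matrix (Idx m) (Idx m) F) = 0
    have ha' : lcol (a : Matrix (Idx m) (Idx m) F) = 0 := ha
    have hb' : lcol (b : Matrix (Idx m) (Idx m) F) = 0 := hb
    rw [Units.val_mul, lcol_mul, ha', hb', mulVec_zero, smul_zero, add_zero]
  inv_mem' := by
    intro a ha
    show lcol ((a⁻¹ : GL (Idx m) F) : Matrix (Idx m) (Idx m) F) = 0
    have ha' : lcol (a : Matrix (Idx m) (Idx m) F) = 0 := ha
    have h1 : (a : Matrix (Idx m) (Idx m) F) * ((a⁻¹ : GL (Idx m) F) : Matrix (Idx m) (Idx m) F)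
        = 1 := by rw [← Units.val_mul, mul_inv_cancel, Units.val_one]
    have h2 := congrArg lcol h1
    rw [lcol_mul, ha', smul_zero, add_zero, lcol_one] at h2
    have hdet := det_ne_zero_of_GL a
    rw [det_of_col_zero _ ha'] at hdet
    have hblk : (blk (a : Matrix (Idx m) (Idx m) F)).det ≠ 0 := left_ne_zero_of_mul hdet
    by_contra hne
    exact hblk (exists_mulVec_eq_zero_iff.1 ⟨_, hne, h2⟩)

theorem mem_colSub (α : GL (Idx m) F) :
    α ∈ colSub m F ↔ lcol (α : Matrix (Idx m) (Idx m) F) = 0 := Iff.rfl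

/-- data extracted from a non-central `z` commuting with `x` up to a scalar -/
theorem data_of_scComm {S : Matrix (Fin m) (Fin m) F} (hS : Sing S) (hm : 2 ≤ m) {δ : F}
    (hδ : δ ≠ 0) (x z : GL (Idx m) F) (hx : (x : Matrix (Idx m) (Idx m) F) = xMat S δ)
    (hzc : z ∉ Subgroup.center (GL (Idx m) F)) (h : ScComm x z) :
    lcol (z : Matrix (Idx m) (Idx m) F) = 0 ∧ lrow (z : Matrix (Idx m) (Idx m) F) = 0 ∧
      blk (z : Matrix (Idx m) (Idx m) F) * S = S * blk (z : Matrix (Idx m) (Idx m) F) ∧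
      cor (z : Matrix (Idx m) (Idx m) F) ≠ 0 ∧
      blk (z : Matrix (Idx m) (Idx m) F) ≠ cor (z : Matrix (Idx m) (Idx m) F) • 1 := by
  obtain ⟨μ, -, hμ⟩ := h.exists_smul
  rw [hx] at hμ
  obtain ⟨h1, h2, h3, h4, -⟩ := analysis_z hS hm hδ _ (det_ne_zero_of_GL z) μ hμ
  refine ⟨h1, h2, h3, h4, ?_⟩
  intro hns
  apply hzc
  rw [Matrix.GeneralLinearGroup.center_eq_range_scalar]
  refine ⟨Units.mk0 _ h4, ?_⟩
  apply Units.ext
  rw [Matrix.GeneralLinearGroup.coe_scalar, Units.val_mk0, Matrix.scalar_apply,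
    ← Matrix.smul_one_eq_diagonal]
  apply ext_parts
  · rw [blk_smul, blk_one, hns]
  · rw [lcol_smul, lcol_one, smul_zero, h1]
  · rw [lrow_smul, lrow_one, smul_zero, h2]
  · rw [cor_smul, cor_one, mul_one]

theorem col_of_scComm {S : Matrix (Fin m) (Fin m) F} (hS : Sing S) (hm : 2 ≤ m)
    (z : GL (Idx m) F)
    (hz : lcol (z : Matrix (Idx m) (Idx m) F) = 0 ∧ lrow (z : Matrix (Idx m) (Idx m) F) = 0 ∧
      blk (z : Matrix (Idx m) (Idx m) F) * S = S * blk (z : Matrix (Idx m) (Idx m) F) ∧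
      cor (z : Matrix (Idx m) (Idx m) F) ≠ 0 ∧
      blk (z : Matrix (Idx m) (Idx m) F) ≠ cor (z : Matrix (Idx m) (Idx m) F) • 1)
    (α : GL (Idx m) F) (h : ScComm α z) : α ∈ colSub m F := by
  obtain ⟨μ, hμ0, hμ⟩ := h.exists_smul
  obtain ⟨h1, h2, h3, h4, h5⟩ := hz
  exact analysis_α hS hm _ h1 h2 h3 h4 h5 _ (det_ne_zero_of_GL α) μ hμ0 hμ

section main

/-- the element of `G` represented by an element of `SL` -/
def slElt {ι : Type*} [Fintype ι] [DecidableEq ι]
    {G : Subgroup (GL ι F ⧸ Subgroup.center (GL ι F))}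
    (hG : ((Matrix.SpecialLinearGroup.toGL : Matrix.SpecialLinearGroup ι F →* GL ι F).range).map
      (QuotientGroup.mk' (Subgroup.center (GL ι F))) ≤ G) (g : Matrix.SpecialLinearGroup ι F) :
    ↥G :=
  ⟨QuotientGroup.mk (Matrix.SpecialLinearGroup.toGL g),
    hG ⟨Matrix.SpecialLinearGroup.toGL g, ⟨g, rfl⟩, rfl⟩⟩

theorem toGL_mem_lifts {ι : Type*} [Fintype ι] [DecidableEq ι]
    {G : Subgroup (GL ι F ⧸ Subgroup.center (GL ι F))}
    (hG : ((Matrix.SpecialLinearGroup.toGL : Matrix.SpecialLinearGroup ι F →* GL ι F).range).map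
      (QuotientGroup.mk' (Subgroup.center (GL ι F))) ≤ G) (g : Matrix.SpecialLinearGroup ι F)
    (A : Subgroup ↥G) (h : slElt hG g ∈ A) : Matrix.SpecialLinearGroup.toGL g ∈ lifts G A :=
  ⟨hG ⟨Matrix.SpecialLinearGroup.toGL g, ⟨g, rfl⟩, rfl⟩, h⟩

variable [Fintype F]

theorem no_cover_block (hm : 2 ≤ m)
    (G : Subgroup (GL (Idx m) F ⧸ Subgroup.center (GL (Idx m) F)))
    (hG : ((Matrix.SpecialLinearGroup.toGL :
      Matrix.SpecialLinearGroup (Idx m) F →* GL (Idx m) F).range).map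
      (QuotientGroup.mk' (Subgroup.center (GL (Idx m) F))) ≤ G) :
    ¬ HasNilMinCover ↥G := by
  classical
  obtain ⟨S, hS, hdetS⟩ := exists_sing (F := F) m (by omega)
  set δ : F := (S.det)⁻¹ with hδdef
  have hδ : δ ≠ 0 := inv_ne_zero hdetS
  -- the elements
  have hdetx : (xMat S δ).det = 1 := by
    rw [det_of_col_zero _ (by simp [xMat])]
    simp only [xMat, blk_asm, cor_asm]
    exact mul_inv_cancel₀ hdetS
  let xSL : Matrix.SpecialLinearGroup (Idx m) F := ⟨xMat S δ, hdetx⟩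
  let i₀ : Fin m := ⟨0, by omega⟩
  let r₀ : Fin m → F := Pi.single i₀ 1
  have hr₀ : r₀ ≠ 0 := by
    intro h
    have := congrFun h i₀
    simp [r₀] at this
  let uSL : Matrix.SpecialLinearGroup (Idx m) F := ⟨uMat r₀, det_uMat r₀⟩
  let x₁ : GL (Idx m) F := Matrix.SpecialLinearGroup.toGL xSL
  let u : GL (Idx m) F := Matrix.SpecialLinearGroup.toGL uSL
  have hx₁ : (x₁ : Matrix (Idx m) (Idx m) F) = xMat S δ := rfl
  have hu : (u : Matrix (Idx m) (Idx m) F) = uMat r₀ := rfl
  have hu_mem : u ∈ colSub m F := by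
    rw [mem_colSub, hu]; simp [uMat]
  -- the proper subgroup
  let BL : Subgroup ↥G :=
    ((colSub m F).map (QuotientGroup.mk' (Subgroup.center (GL (Idx m) F)))).comap G.subtype
  have hBL : BL ≠ ⊤ := by
    intro htop
    -- the transposed unipotent element is not in `BL`
    have hdetv : (asm (1 : Matrix (Fin m) (Fin m) F) r₀ 0 1).det = 1 := by
      rw [← det_transpose]
      have : (asm (1 : Matrix (Fin m) (Fin m) F) r₀ 0 1)ᵀ = uMat r₀ := by
        apply ext_parts
        · ext i j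
          simp [blk, asm, uMat, Matrix.transpose_apply, Matrix.one_apply, eq_comm]
        · rfl
        · rfl
        · rfl
      rw [this, det_uMat]
    let vSL : Matrix.SpecialLinearGroup (Idx m) F := ⟨asm 1 r₀ 0 1, hdetv⟩
    have hv : slElt hG vSL ∈ BL := by rw [htop]; trivial
    obtain ⟨α, hα, hαv⟩ := hv
    have h1 : (QuotientGroup.mk α : GL (Idx m) F ⧸ Subgroup.center (GL (Idx m) F)) =
        QuotientGroup.mk (Matrix.SpecialLinearGroup.toGL vSL) := hαv
    rw [QuotientGroup.eq, Matrix.GeneralLinearGroup.center_eq_range_scalar] at h1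
    obtain ⟨c, hc⟩ := h1
    have h2 : Matrix.SpecialLinearGroup.toGL vSL = α * Matrix.GeneralLinearGroup.scalar _ c := by
      rw [hc]; group
    have h3 := congrArg (fun g : GL (Idx m) F => lcol (g : Matrix (Idx m) (Idx m) F)) h2
    simp only [Units.val_mul, Matrix.GeneralLinearGroup.coe_scalar] at h3
    rw [lcol_mul, (mem_colSub α).1 hα, smul_zero, add_zero] at h3
    have h4 : lcol ((Matrix.scalar (Idx m)) (c : F)) = 0 := by
      rw [Matrix.scalar_apply, ← Matrix.smul_one_eq_diagonal, lcol_smul, lcol_one, smul_zero]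
    rw [h4, mulVec_zero] at h3
    exact hr₀ h3
  -- analysis of a nilpotent subgroup containing the class of `x₁`
  have key1 : ∀ A : Subgroup ↥G, Group.IsNilpotent A → slElt hG xSL ∈ A →
      ∃ z : GL (Idx m) F, z ∈ lifts G A ∧
        (lcol (z : Matrix (Idx m) (Idx m) F) = 0 ∧ lrow (z : Matrix (Idx m) (Idx m) F) = 0 ∧
        blk (z : Matrix (Idx m) (Idx m) F) * S = S * blk (z : Matrix (Idx m) (Idx m) F) ∧
        cor (z : Matrix (Idx m) (Idx m) F) ≠ 0 ∧
        blk (z : Matrix (Idx m) (Idx m) F) ≠ cor (z : Matrix (Idx m) (Idx m) F) • 1) ∧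
        ∀ α ∈ lifts G A, ScComm α z := by
    intro A hA hx
    have hne : ∃ a ∈ A, a ≠ 1 := by
      refine ⟨_, hx, ?_⟩
      intro h1
      have h2 : (QuotientGroup.mk x₁ : GL (Idx m) F ⧸ Subgroup.center (GL (Idx m) F)) = 1 :=
        congrArg Subtype.val h1
      rw [QuotientGroup.eq_one_iff, Matrix.GeneralLinearGroup.center_eq_range_scalar] at h2
      obtain ⟨c, hc⟩ := h2
      have h3 := congrArg (fun g : GL (Idx m) F => blk (g : Matrix (Idx m) (Idx m) F)) hc
      simp only [Matrix.GeneralLinearGroup.coe_scalar, hx₁] at h3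
      rw [Matrix.scalar_apply, ← Matrix.smul_one_eq_diagonal, blk_smul, blk_one] at h3
      simp only [xMat, blk_asm] at h3
      -- `S` would be scalar
      have hv : (Pi.single i₀ 1 : Fin m → F) ≠ 0 := hr₀
      apply no_eig hS hm hv (c : F)
      rw [← h3, smul_mulVec, one_mulVec]
    obtain ⟨z, hz, hzc, hcomm⟩ := exists_central_lift' hA hne
    refine ⟨z, hz, ?_, hcomm⟩
    exact data_of_scComm hS hm hδ x₁ z hx₁ hzc (hcomm _ (toGL_mem_lifts hG xSL A hx))
  -- the same for the conjugate `u x₁ u⁻¹`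
  have key2 : ∀ A : Subgroup ↥G, Group.IsNilpotent A → slElt hG (uSL * xSL * uSL⁻¹) ∈ A →
      ∃ z : GL (Idx m) F, z ∈ lifts G A ∧
        (lcol ((u⁻¹ * z * u : GL (Idx m) F) : Matrix (Idx m) (Idx m) F) = 0 ∧
        lrow ((u⁻¹ * z * u : GL (Idx m) F) : Matrix (Idx m) (Idx m) F) = 0 ∧
        blk ((u⁻¹ * z * u : GL (Idx m) F) : Matrix (Idx m) (Idx m) F) * S =
          S * blk ((u⁻¹ * z * u : GL (Idx m) F) : Matrix (Idx m) (Idx m) F) ∧
        cor ((u⁻¹ * z * u : GL (Idx m) F) : Matrix (Idx m) (Idx m) F) ≠ 0 ∧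
        blk ((u⁻¹ * z * u : GL (Idx m) F) : Matrix (Idx m) (Idx m) F) ≠
          cor ((u⁻¹ * z * u : GL (Idx m) F) : Matrix (Idx m) (Idx m) F) • 1) ∧
        ∀ α ∈ lifts G A, ScComm α z := by
    intro A hA hx
    have hxl := toGL_mem_lifts hG (uSL * xSL * uSL⁻¹) A hx
    have hx2 : Matrix.SpecialLinearGroup.toGL (uSL * xSL * uSL⁻¹) = u * x₁ * u⁻¹ := by
      simp only [map_mul, map_inv, x₁, u]
    have hne : ∃ a ∈ A, a ≠ 1 := by
      refine ⟨_, hx, ?_⟩
      intro h1
      have h2 : (QuotientGroup.mk (Matrix.SpecialLinearGroup.toGL (uSL * xSL * uSL⁻¹)) :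
          GL (Idx m) F ⧸ Subgroup.center (GL (Idx m) F)) = 1 := congrArg Subtype.val h1
      rw [QuotientGroup.eq_one_iff, hx2] at h2
      have h2' : x₁ ∈ Subgroup.center (GL (Idx m) F) := by
        have := (inferInstance : (Subgroup.center (GL (Idx m) F)).Normal).conj_mem _ h2 u⁻¹
        convert this using 1
        group
      rw [Matrix.GeneralLinearGroup.center_eq_range_scalar] at h2'
      obtain ⟨c, hc⟩ := h2'
      have h3 := congrArg (fun g : GL (Idx m) F => blk (g : Matrix (Idx m) (Idx m) F)) hc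
      simp only [Matrix.GeneralLinearGroup.coe_scalar, hx₁] at h3
      rw [Matrix.scalar_apply, ← Matrix.smul_one_eq_diagonal, blk_smul, blk_one] at h3
      simp only [xMat, blk_asm] at h3
      have hv : (Pi.single i₀ 1 : Fin m → F) ≠ 0 := hr₀
      apply no_eig hS hm hv (c : F)
      rw [← h3, smul_mulVec, one_mulVec]
    obtain ⟨z, hz, hzc, hcomm⟩ := exists_central_lift' hA hne
    refine ⟨z, hz, ?_, hcomm⟩
    have h1 := (hcomm _ hxl).conj u
    rw [hx2] at h1
    have h2 : u⁻¹ * (u * x₁ * u⁻¹) * u = x₁ := by group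
    rw [h2] at h1
    have hzc' : u⁻¹ * z * u ∉ Subgroup.center (GL (Idx m) F) := by
      intro h
      apply hzc
      have := (inferInstance : (Subgroup.center (GL (Idx m) F)).Normal).conj_mem _ h u
      convert this using 1
      group
    exact data_of_scComm hS hm hδ x₁ _ hx₁ hzc' h1
  apply no_cover_of_pair (slElt hG xSL) (slElt hG (uSL * xSL * uSL⁻¹)) BL hBL
  · -- no nilpotent subgroup contains both
    intro A hA h1 h2
    obtain ⟨z, hz, hzd, hcomm⟩ := key1 A hA h1
    obtain ⟨z', hz', hzd', hcomm'⟩ := key2 A hA h2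
    -- `z'` commutes with everything up to scalars; in particular `x₁` with `z'`
    have h3 := hcomm' _ (toGL_mem_lifts hG xSL A h1)
    have hzc' : z' ∉ Subgroup.center (GL (Idx m) F) := by
      intro h
      obtain ⟨-, -, -, h4, h5⟩ := hzd'
      have hcz : u⁻¹ * z' * u = z' := by
        have := (Subgroup.mem_center_iff.1 h) u
        calc u⁻¹ * z' * u = u⁻¹ * (z' * u) := by group
          _ = u⁻¹ * (u * z') := by rw [this]
          _ = z' := by group
      rw [hcz] at h4 h5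
      rw [Matrix.GeneralLinearGroup.center_eq_range_scalar] at h
      obtain ⟨c, hc⟩ := h
      apply h5
      rw [← hc, Matrix.GeneralLinearGroup.coe_scalar, Matrix.scalar_apply,
        ← Matrix.smul_one_eq_diagonal, blk_smul, blk_one, cor_smul, cor_one, mul_one]
    have hd := data_of_scComm hS hm hδ x₁ z' hx₁ hzc' h3
    obtain ⟨e1, e2, e3, e4, e5⟩ := hd
    obtain ⟨f1, f2, f3, f4, f5⟩ := hzd'
    have hconj : (z' : Matrix (Idx m) (Idx m) F) * uMat r₀ =
        uMat r₀ * ((u⁻¹ * z' * u : GL (Idx m) F) : Matrix (Idx m) (Idx m) F) := by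
      rw [← hu, ← Units.val_mul, ← Units.val_mul]
      congr 1
      group
    exact hr₀ (analysis_pair hS _ _ e1 e2 f2 e3 e5 r₀ hconj)
  · intro A hA hx a ha
    rcases hx with hx | hx
    · obtain ⟨z, hz, hzd, hcomm⟩ := key1 A hA hx
      obtain ⟨α, hα, hαa⟩ := exists_lift a ha
      have := col_of_scComm hS hm z hzd α (hcomm α hα)
      exact ⟨α, this, hαa⟩
    · obtain ⟨z, hz, hzd, hcomm⟩ := key2 A hA hx
      obtain ⟨α, hα, hαa⟩ := exists_lift a ha
      have h1 := col_of_scComm hS hm _ hzd _ ((hcomm α hα).conj u)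
      have h2 : α = u * (u⁻¹ * α * u) * u⁻¹ := by group
      have h3 : α ∈ colSub m F := by
        rw [h2]
        exact (colSub m F).mul_mem ((colSub m F).mul_mem hu_mem h1) ((colSub m F).inv_mem hu_mem)
      exact ⟨α, h3, hαa⟩

end main

end Cfsg.Agent.Lib.Helper37_PGLBig
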