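import Mathlib
import Cfsg.Agent.Lib.Helper37_Cover3
import Cfsg.Agent.Lib.Helper37_PGLNil
import Cfsg.Agent.Lib.Helper37_PGL2Alg
import Cfsg.Agent.Lib.Helper37_PGLBig

/-!
# Groups between `PSL₂(q)` and `PGL₂(q)`, `q ≥ 4`, have no nilpotent minimal cover (helper37)
-/

set_option autoImplicit false

open scoped commutatorElement

namespace Cfsg.Agent.Lib.Helper37_PGL2

open Matrix Cfsg.Agent.Lib.Helper37_Cover2 Cfsg.Agent.Lib.Helper37_Cover3
  Cfsg.Agent.Lib.Helper37_PGLNil Cfsg.Agent.Lib.Helper37_PGL2Alg Cfsg.Agent.Lib.Helper37_PGLBig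

variable {F : Type*} [Field F]

/-- in a nilpotent group, an element inverted by another one has order a power of two -/
theorem exists_pow_two_eq_one {H : Type*} [Group H] (hH : Group.IsNilpotent H) (ξ a : H)
    (h : a * ξ * a⁻¹ = ξ⁻¹) : ∃ k : ℕ, ξ ^ 2 ^ k = 1 := by
  have hconj : ∀ n : ℕ, a * ξ ^ n * a⁻¹ = (ξ ^ n)⁻¹ := by
    intro n
    have : a * ξ ^ n * a⁻¹ = (a * ξ * a⁻¹) ^ n := (conj_pow (a := a) (b := ξ) (i := n)).symm
    rw [this, h, inv_pow]
  have key : ∀ k : ℕ, ξ ^ 2 ^ k ∈ (⊤ : Subgroup H).lowerCentralSeries k := by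
    intro k
    induction k with
    | zero => simp
    | succ k ih =>
      rw [Subgroup.lowerCentralSeries_succ]
      have hmem : ⁅ξ ^ 2 ^ k, a⁆ ∈ ⁅(⊤ : Subgroup H).lowerCentralSeries k, (⊤ : Subgroup H)⁆ :=
        Subgroup.commutator_mem_commutator ih (Subgroup.mem_top a)
      have : ⁅ξ ^ 2 ^ k, a⁆ = ξ ^ 2 ^ (k + 1) := by
        rw [commutatorElement_def]
        have h1 : a * (ξ ^ 2 ^ k)⁻¹ * a⁻¹ = ξ ^ 2 ^ k := by
          have := hconj (2 ^ k)
          have h2 : a * (ξ ^ 2 ^ k)⁻¹ * a⁻¹ = (a * ξ ^ 2 ^ k * a⁻¹)⁻¹ := by group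
          rw [h2, this, inv_inv]
        calc ξ ^ 2 ^ k * a * (ξ ^ 2 ^ k)⁻¹ * a⁻¹ = ξ ^ 2 ^ k * (a * (ξ ^ 2 ^ k)⁻¹ * a⁻¹) := by group
          _ = ξ ^ 2 ^ k * ξ ^ 2 ^ k := by rw [h1]
          _ = ξ ^ 2 ^ (k + 1) := by rw [← pow_add]; congr 1; ring
      rw [← this]
      exact hmem
  obtain ⟨n, hn⟩ := (Subgroup.nilpotent_iff_lowerCentralSeries).1 hH
  refine ⟨n, ?_⟩
  have := key n
  rw [hn, Subgroup.mem_bot] at this
  exact this

/-! ### Explicit elements -/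

/-- the upper unipotent element -/
def uSL : Matrix.SpecialLinearGroup (Fin 2) F := ⟨!![1, 1; 0, 1], by simp [Matrix.det_fin_two]⟩

/-- the lower unipotent element -/
def lSL : Matrix.SpecialLinearGroup (Fin 2) F := ⟨!![1, 0; 1, 1], by simp [Matrix.det_fin_two]⟩

/-- upper unipotent elements -/
def uT (b : F) : Matrix.SpecialLinearGroup (Fin 2) F :=
  ⟨!![1, b; 0, 1], by simp [Matrix.det_fin_two]⟩

/-- diagonal element -/
def tSL (σ : Fˣ) : Matrix.SpecialLinearGroup (Fin 2) F :=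
  ⟨!![(σ : F), 0; 0, ((σ⁻¹ : Fˣ) : F)], by simp [Matrix.det_fin_two]⟩

/-- an element mapping `(1,0)` to `(t,1)` -/
def gSL (t : F) : Matrix.SpecialLinearGroup (Fin 2) F :=
  ⟨!![t, -1; 1, 0], by simp [Matrix.det_fin_two]⟩

/-- the points of the projective line -/
def pt : Option F → (Fin 2 → F)
  | none => ![1, 0]
  | some t => ![t, 1]

/-- elements of `SL₂` mapping `(1,0)` to the points -/
def gpt : Option F → Matrix.SpecialLinearGroup (Fin 2) F
  | none => 1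
  | some t => gSL t

/-- the linear form vanishing on the point -/
def dual : Option F → (Fin 2 → F) → F
  | none => fun w => w 1
  | some t => fun w => -w 0 + t * w 1

theorem pt_ne_zero (p : Option F) : pt p ≠ 0 := by
  rcases p with _ | t
  · intro h
    have := congrFun h 0
    simp [pt] at this
  · intro h
    have := congrFun h 1
    simp [pt] at this

theorem gpt_mulVec (p : Option F) :
    ((gpt p : Matrix.SpecialLinearGroup (Fin 2) F) : Matrix (Fin 2) (Fin 2) F) *ᵥ ![1, 0] = pt p := by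
  rcases p with _ | t
  · simp [gpt, pt]
  · funext i
    fin_cases i <;> simp [gpt, gSL, pt, Matrix.mulVec, dotProduct, Fin.sum_univ_two]

theorem gpt_inv_mulVec (p : Option F) (w : Fin 2 → F) :
    ((((gpt p)⁻¹ : Matrix.SpecialLinearGroup (Fin 2) F) : Matrix (Fin 2) (Fin 2) F) *ᵥ w) 1
      = dual p w := by
  rcases p with _ | t
  · simp [gpt, dual]
  · rw [gpt, Matrix.SpecialLinearGroup.SL2_inv_expl]
    simp [gSL, dual, Matrix.mulVec, dotProduct, Fin.sum_univ_two]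

theorem dual_pt (p p' : Option F) (h : dual p (pt p') = 0) : p = p' := by
  rcases p with _ | t <;> rcases p' with _ | t'
  · rfl
  · simp [dual, pt] at h
  · simp [dual, pt] at h
  · simp only [dual, pt, Matrix.cons_val_zero, Matrix.cons_val_one] at h
    have : t = t' := by linear_combination h
    rw [this]


/-! ### Unipotent analysis -/

/-- scalar times upper unipotent -/
def IsUZ (α : Matrix (Fin 2) (Fin 2) F) : Prop := α 1 0 = 0 ∧ α 0 0 = α 1 1

theorem det_GL2_ne_zero (z : GL (Fin 2) F) :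
    (z : Matrix (Fin 2) (Fin 2) F) 0 0 * (z : Matrix (Fin 2) (Fin 2) F) 1 1 -
      (z : Matrix (Fin 2) (Fin 2) F) 0 1 * (z : Matrix (Fin 2) (Fin 2) F) 1 0 ≠ 0 := by
  have := det_ne_zero_of_GL z
  rwa [Matrix.det_fin_two] at this

theorem isUZ_of_scComm_u (z : GL (Fin 2) F)
    (h : ScComm (Matrix.SpecialLinearGroup.toGL (uSL : Matrix.SpecialLinearGroup (Fin 2) F)) z) :
    IsUZ (z : Matrix (Fin 2) (Fin 2) F) := by
  obtain ⟨μ, -, hμ⟩ := h.exists_smul
  obtain ⟨h1, h2, h3, h4⟩ := eq4 _ _ μ hμ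
  have e00 : ((Matrix.SpecialLinearGroup.toGL (uSL : Matrix.SpecialLinearGroup (Fin 2) F) :
      GL (Fin 2) F) : Matrix (Fin 2) (Fin 2) F) 0 0 = 1 := rfl
  have e01 : ((Matrix.SpecialLinearGroup.toGL (uSL : Matrix.SpecialLinearGroup (Fin 2) F) :
      GL (Fin 2) F) : Matrix (Fin 2) (Fin 2) F) 0 1 = 1 := rfl
  have e10 : ((Matrix.SpecialLinearGroup.toGL (uSL : Matrix.SpecialLinearGroup (Fin 2) F) :
      GL (Fin 2) F) : Matrix (Fin 2) (Fin 2) F) 1 0 = 0 := rfl
  have e11 : ((Matrix.SpecialLinearGroup.toGL (uSL : Matrix.SpecialLinearGroup (Fin 2) F) :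
      GL (Fin 2) F) : Matrix (Fin 2) (Fin 2) F) 1 1 = 1 := rfl
  rw [e00, e01, e10] at h1
  rw [e00, e01, e11] at h2
  rw [e10, e11, e00] at h3
  rw [e10, e11, e01] at h4
  exact unip_z (a := (z : Matrix (Fin 2) (Fin 2) F) 0 0) (b := (z : Matrix (Fin 2) (Fin 2) F) 0 1)
    (c := (z : Matrix (Fin 2) (Fin 2) F) 1 0) (d := (z : Matrix (Fin 2) (Fin 2) F) 1 1) (μ := μ)
    (by linear_combination h1) (by linear_combination h2) (by linear_combination h3)
    (by linear_combination h4) (det_GL2_ne_zero z)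

theorem mem_center_of_entries (z : GL (Fin 2) F)
    (h01 : (z : Matrix (Fin 2) (Fin 2) F) 0 1 = 0) (h10 : (z : Matrix (Fin 2) (Fin 2) F) 1 0 = 0)
    (heq : (z : Matrix (Fin 2) (Fin 2) F) 0 0 = (z : Matrix (Fin 2) (Fin 2) F) 1 1) :
    z ∈ Subgroup.center (GL (Fin 2) F) := by
  rw [Matrix.GeneralLinearGroup.center_eq_range_scalar]
  have h0 : (z : Matrix (Fin 2) (Fin 2) F) 0 0 ≠ 0 := by
    intro h0
    apply det_GL2_ne_zero z
    rw [h0, h01]; ring
  refine ⟨Units.mk0 _ h0, ?_⟩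
  apply Units.ext
  rw [Matrix.GeneralLinearGroup.coe_scalar, Units.val_mk0, Matrix.scalar_apply]
  ext i j
  fin_cases i <;> fin_cases j
  · simp
  · simp [h01]
  · simp [h10]
  · simp [heq]

theorem isUZ_of_scComm_uz (z α : GL (Fin 2) F) (hz : IsUZ (z : Matrix (Fin 2) (Fin 2) F))
    (hzc : z ∉ Subgroup.center (GL (Fin 2) F)) (h : ScComm α z) :
    IsUZ (α : Matrix (Fin 2) (Fin 2) F) := by
  obtain ⟨μ, -, hμ⟩ := h.exists_smul
  obtain ⟨h1, h2, h3, h4⟩ := eq4 _ _ μ hμ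
  obtain ⟨hz10, hz00⟩ := hz
  have hdet := det_GL2_ne_zero z
  rw [hz10, mul_zero, sub_zero] at hdet
  have ha : (z : Matrix (Fin 2) (Fin 2) F) 1 1 ≠ 0 := right_ne_zero_of_mul hdet
  have hb : (z : Matrix (Fin 2) (Fin 2) F) 0 1 ≠ 0 := by
    intro hb
    exact hzc (mem_center_of_entries z hb hz10 hz00)
  rw [hz10, hz00] at h1
  rw [hz00] at h2
  rw [hz10, hz00] at h3
  rw [hz10] at h4
  exact unip_α (a := (z : Matrix (Fin 2) (Fin 2) F) 1 1) (b := (z : Matrix (Fin 2) (Fin 2) F) 0 1)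
    (p := (α : Matrix (Fin 2) (Fin 2) F) 0 0) (q := (α : Matrix (Fin 2) (Fin 2) F) 0 1)
    (r := (α : Matrix (Fin 2) (Fin 2) F) 1 0) (s := (α : Matrix (Fin 2) (Fin 2) F) 1 1) (μ := μ)
    ha hb (by linear_combination h1) (by linear_combination h2)
    (by linear_combination h3) (by linear_combination h4) (det_GL2_ne_zero α)

/-- the eigenvector of a conjugate of an element of `UZ` -/
theorem mulVec_of_isUZ (g α : GL (Fin 2) F)
    (h : IsUZ ((g⁻¹ * α * g : GL (Fin 2) F) : Matrix (Fin 2) (Fin 2) F)) :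
    (α : Matrix (Fin 2) (Fin 2) F) *ᵥ ((g : Matrix (Fin 2) (Fin 2) F) *ᵥ ![1, 0]) =
      ((g⁻¹ * α * g : GL (Fin 2) F) : Matrix (Fin 2) (Fin 2) F) 0 0 •
        ((g : Matrix (Fin 2) (Fin 2) F) *ᵥ ![1, 0]) := by
  set α' := g⁻¹ * α * g with hα'
  have h1 : α * g = g * α' := by rw [hα']; group
  have h2 : (α : Matrix (Fin 2) (Fin 2) F) * (g : Matrix (Fin 2) (Fin 2) F) =
      (g : Matrix (Fin 2) (Fin 2) F) * (α' : Matrix (Fin 2) (Fin 2) F) := by
    rw [← Units.val_mul, ← Units.val_mul, h1]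
  have h3 : (α' : Matrix (Fin 2) (Fin 2) F) *ᵥ ![1, 0] =
      (α' : Matrix (Fin 2) (Fin 2) F) 0 0 • ![1, 0] := by
    funext i
    fin_cases i
    · simp [Matrix.mulVec, dotProduct, Fin.sum_univ_two]
    · simp [Matrix.mulVec, dotProduct, Fin.sum_univ_two, h.1]
  rw [Matrix.mulVec_mulVec, h2, ← Matrix.mulVec_mulVec, h3, Matrix.mulVec_smul]

/-- an eigenvector of a non-central conjugate of an element of `UZ` -/
theorem eigvec_of_isUZ (g m : GL (Fin 2) F)
    (h : IsUZ ((g⁻¹ * m * g : GL (Fin 2) F) : Matrix (Fin 2) (Fin 2) F))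
    (hm : m ∉ Subgroup.center (GL (Fin 2) F)) (w : Fin 2 → F) (c : F)
    (hw : (m : Matrix (Fin 2) (Fin 2) F) *ᵥ w = c • w) :
    (((g⁻¹ : GL (Fin 2) F) : Matrix (Fin 2) (Fin 2) F) *ᵥ w) 1 = 0 := by
  set m' := g⁻¹ * m * g with hm'
  set w' := ((g⁻¹ : GL (Fin 2) F) : Matrix (Fin 2) (Fin 2) F) *ᵥ w with hw'
  have h1 : m' * g⁻¹ = g⁻¹ * m := by rw [hm']; group
  have h2 : (m' : Matrix (Fin 2) (Fin 2) F) * ((g⁻¹ : GL (Fin 2) F) : Matrix (Fin 2) (Fin 2) F) =
      ((g⁻¹ : GL (Fin 2) F) : Matrix (Fin 2) (Fin 2) F) * (m : Matrix (Fin 2) (Fin 2) F) := by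
    rw [← Units.val_mul, ← Units.val_mul, h1]
  have h3 : (m' : Matrix (Fin 2) (Fin 2) F) *ᵥ w' = c • w' := by
    rw [hw', Matrix.mulVec_mulVec, h2, ← Matrix.mulVec_mulVec, hw, Matrix.mulVec_smul]
  have hm'c : m' ∉ Subgroup.center (GL (Fin 2) F) := by
    intro hc
    apply hm
    have := (inferInstance : (Subgroup.center (GL (Fin 2) F)).Normal).conj_mem _ hc g
    convert this using 1
    rw [hm']; group
  have hb : (m' : Matrix (Fin 2) (Fin 2) F) 0 1 ≠ 0 := by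
    intro hb
    exact hm'c (mem_center_of_entries m' hb h.1 h.2)
  have e0 := congrFun h3 0
  have e1 := congrFun h3 1
  simp only [Matrix.mulVec, dotProduct, Fin.sum_univ_two, Pi.smul_apply, smul_eq_mul] at e0 e1
  rw [h.1, zero_mul, zero_add] at e1
  by_contra hne
  -- `a = c`
  have hac : (m' : Matrix (Fin 2) (Fin 2) F) 1 1 = c := by
    have : ((m' : Matrix (Fin 2) (Fin 2) F) 1 1 - c) * w' 1 = 0 := by linear_combination e1
    rcases mul_eq_zero.1 this with h' | h'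
    · exact sub_eq_zero.1 h'
    · exact absurd h' hne
  rw [h.2, hac] at e0
  have : (m' : Matrix (Fin 2) (Fin 2) F) 0 1 * w' 1 = 0 := by linear_combination e0
  rcases mul_eq_zero.1 this with h' | h'
  · exact hb h'
  · exact hne h'


/-! ### Group level: unipotent elements -/

section grp

variable {G : Subgroup (GL (Fin 2) F ⧸ Subgroup.center (GL (Fin 2) F))}
  (hG : ((Matrix.SpecialLinearGroup.toGL :
    Matrix.SpecialLinearGroup (Fin 2) F →* GL (Fin 2) F).range).map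
    (QuotientGroup.mk' (Subgroup.center (GL (Fin 2) F))) ≤ G)

theorem toGL_uSL_not_center :
    Matrix.SpecialLinearGroup.toGL (uSL : Matrix.SpecialLinearGroup (Fin 2) F) ∉
      Subgroup.center (GL (Fin 2) F) := by
  intro h
  rw [Matrix.GeneralLinearGroup.center_eq_range_scalar] at h
  obtain ⟨c, hc⟩ := h
  have h1 := congrArg (fun g : GL (Fin 2) F => (g : Matrix (Fin 2) (Fin 2) F) 0 1) hc
  simp only [Matrix.GeneralLinearGroup.coe_scalar, Matrix.scalar_apply] at h1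
  have h2 : ((Matrix.SpecialLinearGroup.toGL (uSL : Matrix.SpecialLinearGroup (Fin 2) F) :
      GL (Fin 2) F) : Matrix (Fin 2) (Fin 2) F) 0 1 = 1 := rfl
  rw [h2] at h1
  simp at h1

include hG in
theorem slElt_ne_one_of_not_center (h : Matrix.SpecialLinearGroup (Fin 2) F)
    (hh : Matrix.SpecialLinearGroup.toGL h ∉ Subgroup.center (GL (Fin 2) F)) :
    slElt hG h ≠ 1 := by
  intro h1
  apply hh
  have h2 : (QuotientGroup.mk (Matrix.SpecialLinearGroup.toGL h) :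
      GL (Fin 2) F ⧸ Subgroup.center (GL (Fin 2) F)) = 1 := congrArg Subtype.val h1
  exact (QuotientGroup.eq_one_iff _).1 h2

theorem unip_lemma (A : Subgroup ↥G) (hA : Group.IsNilpotent A)
    (g : Matrix.SpecialLinearGroup (Fin 2) F) (hx : slElt hG (g * uSL * g⁻¹) ∈ A) :
    ∃ z : GL (Fin 2) F, z ∈ lifts G A ∧ z ∉ Subgroup.center (GL (Fin 2) F) ∧
      IsUZ (((Matrix.SpecialLinearGroup.toGL g)⁻¹ * z * Matrix.SpecialLinearGroup.toGL g :
        GL (Fin 2) F) : Matrix (Fin 2) (Fin 2) F) ∧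
      ∀ α ∈ lifts G A, IsUZ (((Matrix.SpecialLinearGroup.toGL g)⁻¹ * α *
        Matrix.SpecialLinearGroup.toGL g : GL (Fin 2) F) : Matrix (Fin 2) (Fin 2) F) := by
  set γ : GL (Fin 2) F := Matrix.SpecialLinearGroup.toGL g with hγ
  set υ : GL (Fin 2) F := Matrix.SpecialLinearGroup.toGL (uSL : Matrix.SpecialLinearGroup (Fin 2) F)
    with hυ
  have hx2 : Matrix.SpecialLinearGroup.toGL (g * uSL * g⁻¹) = γ * υ * γ⁻¹ := by
    simp only [map_mul, map_inv, hγ, hυ]
  have hnc : Matrix.SpecialLinearGroup.toGL (g * uSL * g⁻¹) ∉ Subgroup.center (GL (Fin 2) F) := by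
    rw [hx2]
    intro h
    apply toGL_uSL_not_center (F := F)
    have := (inferInstance : (Subgroup.center (GL (Fin 2) F)).Normal).conj_mem _ h γ⁻¹
    have e : γ⁻¹ * (γ * υ * γ⁻¹) * γ⁻¹⁻¹ = υ := by group
    rw [e] at this
    exact this
  have hne : ∃ a ∈ A, a ≠ 1 := ⟨_, hx, slElt_ne_one_of_not_center hG _ hnc⟩
  obtain ⟨z, hz, hzc, hcomm⟩ := exists_central_lift' hA hne
  have hxl := toGL_mem_lifts hG (g * uSL * g⁻¹) A hx
  have h1 := (hcomm _ hxl).conj γ
  rw [hx2] at h1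
  have h2 : γ⁻¹ * (γ * υ * γ⁻¹) * γ = υ := by group
  rw [h2] at h1
  have hz' : IsUZ ((γ⁻¹ * z * γ : GL (Fin 2) F) : Matrix (Fin 2) (Fin 2) F) :=
    isUZ_of_scComm_u _ h1
  have hzc' : γ⁻¹ * z * γ ∉ Subgroup.center (GL (Fin 2) F) := by
    intro h
    apply hzc
    have := (inferInstance : (Subgroup.center (GL (Fin 2) F)).Normal).conj_mem _ h γ
    convert this using 1
    group
  refine ⟨z, hz, hzc, hz', fun α hα => ?_⟩
  exact isUZ_of_scComm_uz _ _ hz' hzc' ((hcomm α hα).conj γ)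

/-! ### Borel subgroups -/

/-- the stabiliser of the line spanned by `v` -/
def StabGL (v : Fin 2 → F) (hv : v ≠ 0) : Subgroup (GL (Fin 2) F) where
  carrier := {α | ∃ c : F, (α : Matrix (Fin 2) (Fin 2) F) *ᵥ v = c • v}
  one_mem' := ⟨1, by simp⟩
  mul_mem' := by
    rintro a b ⟨c₁, h₁⟩ ⟨c₂, h₂⟩
    refine ⟨c₂ * c₁, ?_⟩
    rw [Units.val_mul, ← Matrix.mulVec_mulVec, h₂, Matrix.mulVec_smul, h₁, smul_smul]
  inv_mem' := by
    rintro a ⟨c, h⟩
    have h1 : ((a⁻¹ : GL (Fin 2) F) : Matrix (Fin 2) (Fin 2) F) *ᵥ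
        ((a : Matrix (Fin 2) (Fin 2) F) *ᵥ v) = v := by
      rw [Matrix.mulVec_mulVec, ← Units.val_mul, inv_mul_cancel, Units.val_one, Matrix.one_mulVec]
    rw [h, Matrix.mulVec_smul] at h1
    have hc : c ≠ 0 := by
      intro hc
      rw [hc, zero_smul] at h1
      exact hv h1.symm
    refine ⟨c⁻¹, ?_⟩
    have : c⁻¹ • (c • (((a⁻¹ : GL (Fin 2) F) : Matrix (Fin 2) (Fin 2) F) *ᵥ v)) = c⁻¹ • v := by
      rw [h1]
    rwa [smul_smul, inv_mul_cancel₀ hc, one_smul] at this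

theorem mem_StabGL (v : Fin 2 → F) (hv : v ≠ 0) (α : GL (Fin 2) F) :
    α ∈ StabGL v hv ↔ ∃ c : F, (α : Matrix (Fin 2) (Fin 2) F) *ᵥ v = c • v := Iff.rfl

/-- the Borel subgroups of `G` -/
def Bor (G : Subgroup (GL (Fin 2) F ⧸ Subgroup.center (GL (Fin 2) F))) (p : Option F) :
    Subgroup ↥G :=
  ((StabGL (pt p) (pt_ne_zero p)).map
    (QuotientGroup.mk' (Subgroup.center (GL (Fin 2) F)))).comap G.subtype

theorem mem_Bor_of_lift (p : Option F) (a : ↥G) (α : GL (Fin 2) F)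
    (hα : (QuotientGroup.mk α : GL (Fin 2) F ⧸ Subgroup.center (GL (Fin 2) F)) = a.1)
    (h : α ∈ StabGL (pt p) (pt_ne_zero p)) : a ∈ Bor G p :=
  ⟨α, h, hα⟩

/-- an eigenvector gives a Borel subgroup -/
theorem exists_pt_of_eigvec (α : GL (Fin 2) F) (v : Fin 2 → F) (hv : v ≠ 0) (c : F)
    (h : (α : Matrix (Fin 2) (Fin 2) F) *ᵥ v = c • v) :
    ∃ p : Option F, α ∈ StabGL (pt p) (pt_ne_zero p) := by
  by_cases h1 : v 1 = 0
  · have h0 : v 0 ≠ 0 := by
      intro h0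
      apply hv
      funext i
      fin_cases i
      · exact h0
      · exact h1
    refine ⟨none, c, ?_⟩
    have : pt (none : Option F) = (v 0)⁻¹ • v := by
      funext i
      fin_cases i
      · simp [pt, h0]
      · simp [pt, h1]
    rw [this, Matrix.mulVec_smul, h, smul_comm]
  · refine ⟨some (v 0 / v 1), c, ?_⟩
    have : pt (some (v 0 / v 1)) = (v 1)⁻¹ • v := by
      funext i
      fin_cases i
      · simp [pt, div_eq_inv_mul]
      · simp [pt, h1]
    rw [this, Matrix.mulVec_smul, h, smul_comm]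

include hG in
theorem Bor_ne_top (p : Option F) : Bor G p ≠ ⊤ := by
  intro htop
  -- an element of `SL₂` moving the point
  have key : ∀ h : Matrix.SpecialLinearGroup (Fin 2) F,
      ∃ c : F, (h : Matrix (Fin 2) (Fin 2) F) *ᵥ pt p = c • pt p := by
    intro h
    have hv : slElt hG h ∈ Bor G p := by rw [htop]; trivial
    obtain ⟨α, ⟨c', hα⟩, hαv⟩ := hv
    have h1 : (QuotientGroup.mk α : GL (Fin 2) F ⧸ Subgroup.center (GL (Fin 2) F)) =
        QuotientGroup.mk (Matrix.SpecialLinearGroup.toGL h) := hαv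
    rw [QuotientGroup.eq, Matrix.GeneralLinearGroup.center_eq_range_scalar] at h1
    obtain ⟨c, hc⟩ := h1
    have h2 : Matrix.SpecialLinearGroup.toGL h = α * Matrix.GeneralLinearGroup.scalar _ c := by
      rw [hc]; group
    have h3 := congrArg (fun g : GL (Fin 2) F => (g : Matrix (Fin 2) (Fin 2) F)) h2
    simp only [Units.val_mul, Matrix.GeneralLinearGroup.coe_scalar] at h3
    refine ⟨c' * c, ?_⟩
    have h4 : (h : Matrix (Fin 2) (Fin 2) F) = (α : Matrix (Fin 2) (Fin 2) F) *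
        (Matrix.scalar (Fin 2)) (c : F) := h3
    rw [h4, ← Matrix.mulVec_mulVec, Matrix.scalar_apply, ← Matrix.smul_one_eq_diagonal,
      Matrix.smul_mulVec, Matrix.one_mulVec, Matrix.mulVec_smul, hα, smul_smul, mul_comm]
  rcases p with _ | t
  · obtain ⟨c, hc⟩ := key lSL
    have e0 := congrFun hc 0
    have e1 := congrFun hc 1
    simp [lSL, pt, Matrix.mulVec, dotProduct, Fin.sum_univ_two] at e0 e1
  · obtain ⟨c, hc⟩ := key uSL
    have e0 := congrFun hc 0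
    have e1 := congrFun hc 1
    simp [uSL, pt, Matrix.mulVec, dotProduct, Fin.sum_univ_two] at e0 e1
    rw [← e1, one_mul] at e0
    simp at e0


/-! ### The torus element -/

theorem tSL_mul (σ ρ : Fˣ) : tSL σ * tSL ρ = tSL (σ * ρ) := by
  apply Subtype.ext
  show (tSL σ).1 * (tSL ρ).1 = (tSL (σ * ρ)).1
  ext i j
  fin_cases i <;> fin_cases j <;> simp [tSL, Matrix.mul_apply, Fin.sum_univ_two, mul_comm]

theorem tSL_one : tSL (1 : Fˣ) = 1 := by
  apply Subtype.ext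
  show (tSL (1 : Fˣ)).1 = 1
  ext i j
  fin_cases i <;> fin_cases j <;> simp [tSL]

theorem tSL_pow (σ : Fˣ) (n : ℕ) : (tSL σ) ^ n = tSL (σ ^ n) := by
  induction n with
  | zero => rw [pow_zero, pow_zero, tSL_one]
  | succ n ih => rw [pow_succ, pow_succ, ih, tSL_mul]

theorem tSL_inv (σ : Fˣ) : (tSL σ)⁻¹ = tSL σ⁻¹ := by
  apply inv_eq_of_mul_eq_one_right
  rw [tSL_mul, mul_inv_cancel, tSL_one]

theorem toGL_tSL_not_center (σ : Fˣ) (hσ : (σ : F) ^ 2 ≠ 1) :
    Matrix.SpecialLinearGroup.toGL (tSL σ) ∉ Subgroup.center (GL (Fin 2) F) := by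
  intro h
  rw [Matrix.GeneralLinearGroup.center_eq_range_scalar] at h
  obtain ⟨c, hc⟩ := h
  have h0 := congrArg (fun g : GL (Fin 2) F => (g : Matrix (Fin 2) (Fin 2) F) 0 0) hc
  have h1 := congrArg (fun g : GL (Fin 2) F => (g : Matrix (Fin 2) (Fin 2) F) 1 1) hc
  simp only [Matrix.GeneralLinearGroup.coe_scalar, Matrix.scalar_apply] at h0 h1
  have e0 : ((Matrix.SpecialLinearGroup.toGL (tSL σ) : GL (Fin 2) F) :
      Matrix (Fin 2) (Fin 2) F) 0 0 = (σ : F) := rfl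
  have e1 : ((Matrix.SpecialLinearGroup.toGL (tSL σ) : GL (Fin 2) F) :
      Matrix (Fin 2) (Fin 2) F) 1 1 = ((σ⁻¹ : Fˣ) : F) := rfl
  rw [e0] at h0
  rw [e1] at h1
  simp only [Matrix.diagonal_apply_eq] at h0 h1
  apply hσ
  rw [pow_two]
  nth_rewrite 2 [← h0]
  rw [h1, ← Units.val_mul, mul_inv_cancel, Units.val_one]

/-- an antidiagonal lift inverts the torus element: then `-1` is a square -/
theorem isSquare_neg_one_of_anti (σ : Fˣ) (hσ : (σ : F) ^ 2 ≠ 1) (A : Subgroup ↥G)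
    (hA : Group.IsNilpotent A) (hx : slElt hG (tSL σ) ∈ A) (α : GL (Fin 2) F)
    (hα : α ∈ lifts G A) (h00 : (α : Matrix (Fin 2) (Fin 2) F) 0 0 = 0)
    (h11 : (α : Matrix (Fin 2) (Fin 2) F) 1 1 = 0) : IsSquare (-1 : F) := by
  set τ : GL (Fin 2) F := Matrix.SpecialLinearGroup.toGL (tSL σ) with hτ
  have hconj : α * τ * α⁻¹ = τ⁻¹ := by
    have h1 : α * τ = τ⁻¹ * α := by
      have e : τ⁻¹ = Matrix.SpecialLinearGroup.toGL (tSL σ⁻¹) := by
        rw [hτ, ← map_inv, tSL_inv]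
      rw [e]
      apply Units.ext
      rw [Units.val_mul, Units.val_mul]
      ext i j
      fin_cases i <;> fin_cases j
      · show ((α : Matrix (Fin 2) (Fin 2) F) * (tSL σ).1) 0 0 =
          ((tSL σ⁻¹).1 * (α : Matrix (Fin 2) (Fin 2) F)) 0 0
        simp [tSL, Matrix.mul_apply, Fin.sum_univ_two, h00]
      · show ((α : Matrix (Fin 2) (Fin 2) F) * (tSL σ).1) 0 1 =
          ((tSL σ⁻¹).1 * (α : Matrix (Fin 2) (Fin 2) F)) 0 1
        simp [tSL, Matrix.mul_apply, Fin.sum_univ_two, mul_comm]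
      · show ((α : Matrix (Fin 2) (Fin 2) F) * (tSL σ).1) 1 0 =
          ((tSL σ⁻¹).1 * (α : Matrix (Fin 2) (Fin 2) F)) 1 0
        simp [tSL, Matrix.mul_apply, Fin.sum_univ_two, mul_comm]
      · show ((α : Matrix (Fin 2) (Fin 2) F) * (tSL σ).1) 1 1 =
          ((tSL σ⁻¹).1 * (α : Matrix (Fin 2) (Fin 2) F)) 1 1
        simp [tSL, Matrix.mul_apply, Fin.sum_univ_two, h11]
    rw [h1]; group
  obtain ⟨hαG, hαA⟩ := hα
  let a : ↥A := ⟨⟨QuotientGroup.mk α, hαG⟩, hαA⟩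
  let ξ : ↥A := ⟨slElt hG (tSL σ), hx⟩
  have hinv : a * ξ * a⁻¹ = ξ⁻¹ := by
    apply Subtype.ext
    apply Subtype.ext
    show (QuotientGroup.mk α : GL (Fin 2) F ⧸ Subgroup.center (GL (Fin 2) F)) *
      QuotientGroup.mk τ * (QuotientGroup.mk α)⁻¹ = (QuotientGroup.mk τ)⁻¹
    rw [← QuotientGroup.mk_inv, ← QuotientGroup.mk_mul, ← QuotientGroup.mk_mul, hconj,
      QuotientGroup.mk_inv]
  obtain ⟨k, hk⟩ := exists_pow_two_eq_one hA ξ a hinv
  have hk' : (QuotientGroup.mk (τ ^ 2 ^ k) : GL (Fin 2) F ⧸ Subgroup.center (GL (Fin 2) F)) = 1 := by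
    have := congrArg (fun x : ↥A => ((x : ↥G) : GL (Fin 2) F ⧸ Subgroup.center (GL (Fin 2) F))) hk
    simpa [ξ, slElt] using this
  rw [QuotientGroup.eq_one_iff, Matrix.GeneralLinearGroup.center_eq_range_scalar] at hk'
  obtain ⟨c, hc⟩ := hk'
  have hpow : τ ^ 2 ^ k = Matrix.SpecialLinearGroup.toGL (tSL (σ ^ 2 ^ k)) := by
    rw [hτ, ← map_pow, tSL_pow]
  rw [hpow] at hc
  have h0 := congrArg (fun g : GL (Fin 2) F => (g : Matrix (Fin 2) (Fin 2) F) 0 0) hc
  have h1 := congrArg (fun g : GL (Fin 2) F => (g : Matrix (Fin 2) (Fin 2) F) 1 1) hc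
  simp only [Matrix.GeneralLinearGroup.coe_scalar, Matrix.scalar_apply] at h0 h1
  have e0 : ((Matrix.SpecialLinearGroup.toGL (tSL (σ ^ 2 ^ k)) : GL (Fin 2) F) :
      Matrix (Fin 2) (Fin 2) F) 0 0 = ((σ ^ 2 ^ k : Fˣ) : F) := rfl
  have e1 : ((Matrix.SpecialLinearGroup.toGL (tSL (σ ^ 2 ^ k)) : GL (Fin 2) F) :
      Matrix (Fin 2) (Fin 2) F) 1 1 = (((σ ^ 2 ^ k)⁻¹ : Fˣ) : F) := rfl
  rw [e0] at h0
  rw [e1] at h1
  simp only [Matrix.diagonal_apply_eq] at h0 h1
  apply isSquare_neg_one_of_pow hσ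
  refine ⟨k + 1, ?_⟩
  have : ((σ ^ 2 ^ k : Fˣ) : F) * ((σ ^ 2 ^ k : Fˣ) : F) = 1 := by
    nth_rewrite 2 [← h0]
    rw [h1, ← Units.val_mul, mul_inv_cancel, Units.val_one]
  rw [pow_succ, pow_mul, pow_two]
  rw [Units.val_pow_eq_pow_val] at this
  exact this


/-- every lift of an element of a nilpotent subgroup containing the torus element has an
eigenvector, provided the determinants of all lifts are squares -/
theorem torus_lemma (σ : Fˣ) (hσ : (σ : F) ^ 2 ≠ 1) (A : Subgroup ↥G)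
    (hA : Group.IsNilpotent A) (hx : slElt hG (tSL σ) ∈ A)
    (hsq : ∀ α ∈ lifts G A, ∃ κ : F, (α : Matrix (Fin 2) (Fin 2) F).det = κ ^ 2) :
    ∀ α ∈ lifts G A, ∃ v : Fin 2 → F, v ≠ 0 ∧ ∃ c : F,
      (α : Matrix (Fin 2) (Fin 2) F) *ᵥ v = c • v := by
  set τ : GL (Fin 2) F := Matrix.SpecialLinearGroup.toGL (tSL σ) with hτ
  have hτl : τ ∈ lifts G A := toGL_mem_lifts hG (tSL σ) A hx
  have hne : ∃ a ∈ A, a ≠ 1 :=
    ⟨_, hx, slElt_ne_one_of_not_center hG _ (toGL_tSL_not_center σ hσ)⟩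
  obtain ⟨z, hz, hzc, hcomm⟩ := exists_central_lift' hA hne
  obtain ⟨μ, -, hμ⟩ := (hcomm τ hτl).exists_smul
  obtain ⟨h1, h2, h3, h4⟩ := eq4 _ _ μ hμ
  have e00 : (τ : Matrix (Fin 2) (Fin 2) F) 0 0 = (σ : F) := rfl
  have e01 : (τ : Matrix (Fin 2) (Fin 2) F) 0 1 = 0 := rfl
  have e10 : (τ : Matrix (Fin 2) (Fin 2) F) 1 0 = 0 := rfl
  have e11 : (τ : Matrix (Fin 2) (Fin 2) F) 1 1 = ((σ⁻¹ : Fˣ) : F) := rfl
  rw [e00, e01, e10] at h1
  rw [e00, e01, e11] at h2
  rw [e10, e11, e00] at h3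
  rw [e10, e11, e01] at h4
  have hστ : (σ : F) * ((σ⁻¹ : Fˣ) : F) = 1 := by
    rw [← Units.val_mul, mul_inv_cancel, Units.val_one]
  have hcase := tor_z (a := (z : Matrix (Fin 2) (Fin 2) F) 0 0)
    (b := (z : Matrix (Fin 2) (Fin 2) F) 0 1) (c := (z : Matrix (Fin 2) (Fin 2) F) 1 0)
    (d := (z : Matrix (Fin 2) (Fin 2) F) 1 1) (σ := (σ : F)) (τ := ((σ⁻¹ : Fˣ) : F)) (μ := μ)
    hστ hσ (by linear_combination h1) (by linear_combination h2) (by linear_combination h3)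
    (by linear_combination h4) (det_GL2_ne_zero z)
  intro α hα
  obtain ⟨μ', -, hμ'⟩ := (hcomm α hα).exists_smul
  obtain ⟨k1, k2, k3, k4⟩ := eq4 _ _ μ' hμ'
  have hdetα := det_GL2_ne_zero α
  rcases hcase with ⟨hz01, hz10⟩ | ⟨hz00, hz11, hσ4⟩
  · -- `z` is diagonal
    have hdet := det_GL2_ne_zero z
    rw [hz01, zero_mul, sub_zero] at hdet
    have ha : (z : Matrix (Fin 2) (Fin 2) F) 0 0 ≠ 0 := left_ne_zero_of_mul hdet
    have hd : (z : Matrix (Fin 2) (Fin 2) F) 1 1 ≠ 0 := right_ne_zero_of_mul hdet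
    have had : (z : Matrix (Fin 2) (Fin 2) F) 0 0 ≠ (z : Matrix (Fin 2) (Fin 2) F) 1 1 :=
      fun h => hzc (mem_center_of_entries z hz01 hz10 h)
    rw [hz10, hz01] at k1
    rw [hz01] at k2
    rw [hz10] at k3
    rw [hz01, hz10] at k4
    have hc2 := diag_α (a := (z : Matrix (Fin 2) (Fin 2) F) 0 0)
      (d := (z : Matrix (Fin 2) (Fin 2) F) 1 1) (p := (α : Matrix (Fin 2) (Fin 2) F) 0 0)
      (q := (α : Matrix (Fin 2) (Fin 2) F) 0 1) (r := (α : Matrix (Fin 2) (Fin 2) F) 1 0)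
      (s := (α : Matrix (Fin 2) (Fin 2) F) 1 1) (μ := μ') ha hd had
      (by linear_combination k1) (by linear_combination k2) (by linear_combination k3)
      (by linear_combination k4)
    rcases hc2 with ⟨hq, hr⟩ | ⟨hp, hs⟩
    · obtain ⟨v, hv, hv'⟩ := exists_eigvec (α : Matrix (Fin 2) (Fin 2) F)
        ((α : Matrix (Fin 2) (Fin 2) F) 0 0) (by rw [hq, hr]; ring)
      exact ⟨v, hv, _, hv'⟩
    · obtain ⟨i, hi⟩ := isSquare_neg_one_of_anti hG σ hσ A hA hx α hα hp hs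
      obtain ⟨κ, hκ⟩ := hsq α hα
      rw [Matrix.det_fin_two, hp, hs] at hκ
      obtain ⟨v, hv, hv'⟩ := exists_eigvec (α : Matrix (Fin 2) (Fin 2) F) (i * κ) (by
        rw [hp, hs]
        have : (i * κ) ^ 2 = -(κ ^ 2) := by
          rw [mul_pow, pow_two i, ← hi]; ring
        linear_combination this + hκ)
      exact ⟨v, hv, _, hv'⟩
  · -- `z` is antidiagonal
    have hdet := det_GL2_ne_zero z
    rw [hz00, zero_mul, zero_sub, neg_ne_zero] at hdet
    have hβ : (z : Matrix (Fin 2) (Fin 2) F) 0 1 ≠ 0 := left_ne_zero_of_mul hdet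
    have hγ : (z : Matrix (Fin 2) (Fin 2) F) 1 0 ≠ 0 := right_ne_zero_of_mul hdet
    -- `σ ^ 2 = -1`
    have hσ2 : (σ : F) ^ 2 = -1 := by
      have : ((σ : F) ^ 2 - 1) * ((σ : F) ^ 2 + 1) = 0 := by linear_combination hσ4
      rcases mul_eq_zero.1 this with h | h
      · exact absurd (sub_eq_zero.1 h) hσ
      · exact eq_neg_of_add_eq_zero_left h
    obtain ⟨κz, hκz⟩ := hsq z hz
    rw [Matrix.det_fin_two, hz00, zero_mul, zero_sub] at hκz
    set ε := (σ : F) * κz with hε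
    have hε2 : ε ^ 2 = (z : Matrix (Fin 2) (Fin 2) F) 0 1 * (z : Matrix (Fin 2) (Fin 2) F) 1 0 := by
      rw [hε, mul_pow, hσ2]
      linear_combination hκz
    rw [hz00] at k1
    rw [hz11, hz00] at k2
    rw [hz00, hz11] at k3
    rw [hz11] at k4
    have hc2 := anti_α (β := (z : Matrix (Fin 2) (Fin 2) F) 0 1)
      (γ := (z : Matrix (Fin 2) (Fin 2) F) 1 0) (p := (α : Matrix (Fin 2) (Fin 2) F) 0 0)
      (q := (α : Matrix (Fin 2) (Fin 2) F) 0 1) (r := (α : Matrix (Fin 2) (Fin 2) F) 1 0)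
      (s := (α : Matrix (Fin 2) (Fin 2) F) 1 1) (μ := μ') hβ hγ
      (by linear_combination k1) (by linear_combination k2) (by linear_combination k3)
      (by linear_combination k4) hdetα
    rcases hc2 with ⟨hps, hqr⟩ | ⟨hps, hqr⟩
    · obtain ⟨v, hv, hv'⟩ := exists_eigvec (α : Matrix (Fin 2) (Fin 2) F)
        ((α : Matrix (Fin 2) (Fin 2) F) 0 0 +
          (α : Matrix (Fin 2) (Fin 2) F) 0 1 * ε / (z : Matrix (Fin 2) (Fin 2) F) 0 1) (by
        rw [← hps]
        field_simp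
        linear_combination ((α : Matrix (Fin 2) (Fin 2) F) 0 1) ^ 2 * hε2 +
          ((α : Matrix (Fin 2) (Fin 2) F) 0 1) * ((z : Matrix (Fin 2) (Fin 2) F) 0 1) * hqr)
      exact ⟨v, hv, _, hv'⟩
    · obtain ⟨κ, hκ⟩ := hsq α hα
      rw [Matrix.det_fin_two, hps] at hκ
      obtain ⟨v, hv, hv'⟩ := exists_eigvec (α : Matrix (Fin 2) (Fin 2) F) ((σ : F) * κ) (by
        rw [hps]
        have : ((σ : F) * κ) ^ 2 = -(κ ^ 2) := by rw [mul_pow, hσ2]; ring
        linear_combination this + hκ)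
      exact ⟨v, hv, _, hv'⟩


/-! ### The family -/

/-- the unipotent element fixing the point `p` -/
def unipElt (p : Option F) : Matrix.SpecialLinearGroup (Fin 2) F := gpt p * uSL * (gpt p)⁻¹

theorem unip_disjoint (A : Subgroup ↥G) (hA : Group.IsNilpotent A) (p p' : Option F)
    (hx : slElt hG (unipElt p) ∈ A) (hx' : slElt hG (unipElt p') ∈ A) : p = p' := by
  obtain ⟨-, -, -, -, hall⟩ := unip_lemma hG A hA (gpt p) hx
  obtain ⟨z', hz', hz'c, hz'u, -⟩ := unip_lemma hG A hA (gpt p') hx'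
  have h1 := mulVec_of_isUZ _ _ hz'u
  have h2 : ((Matrix.SpecialLinearGroup.toGL (gpt p') : GL (Fin 2) F) :
      Matrix (Fin 2) (Fin 2) F) *ᵥ ![1, 0] = pt p' := gpt_mulVec p'
  rw [h2] at h1
  have h3 := eigvec_of_isUZ _ _ (hall z' hz') hz'c (pt p') _ h1
  have h4 : (((Matrix.SpecialLinearGroup.toGL (gpt p))⁻¹ : GL (Fin 2) F) :
      Matrix (Fin 2) (Fin 2) F) = (((gpt p)⁻¹ : Matrix.SpecialLinearGroup (Fin 2) F) :
      Matrix (Fin 2) (Fin 2) F) := by
    rw [← map_inv]; rfl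
  rw [h4, gpt_inv_mulVec] at h3
  exact dual_pt p p' h3

theorem unip_torus_disjoint (σ : Fˣ) (hσ : (σ : F) ^ 2 ≠ 1) (A : Subgroup ↥G)
    (hA : Group.IsNilpotent A) (p : Option F) (hx : slElt hG (unipElt p) ∈ A)
    (ht : slElt hG (tSL σ) ∈ A) : False := by
  obtain ⟨-, -, -, -, hall⟩ := unip_lemma hG A hA (gpt p) hx
  set τ : GL (Fin 2) F := Matrix.SpecialLinearGroup.toGL (tSL σ) with hτ
  have hτl : τ ∈ lifts G A := toGL_mem_lifts hG (tSL σ) A ht
  have hτc := toGL_tSL_not_center σ hσ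
  have h4 : (((Matrix.SpecialLinearGroup.toGL (gpt p))⁻¹ : GL (Fin 2) F) :
      Matrix (Fin 2) (Fin 2) F) = (((gpt p)⁻¹ : Matrix.SpecialLinearGroup (Fin 2) F) :
      Matrix (Fin 2) (Fin 2) F) := by
    rw [← map_inv]; rfl
  have e00 : (τ : Matrix (Fin 2) (Fin 2) F) 0 0 = (σ : F) := rfl
  have e01 : (τ : Matrix (Fin 2) (Fin 2) F) 0 1 = 0 := rfl
  have e10 : (τ : Matrix (Fin 2) (Fin 2) F) 1 0 = 0 := rfl
  have e11 : (τ : Matrix (Fin 2) (Fin 2) F) 1 1 = ((σ⁻¹ : Fˣ) : F) := rfl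
  have e1 : (τ : Matrix (Fin 2) (Fin 2) F) *ᵥ ![1, 0] = (σ : F) • ![1, 0] := by
    funext i
    fin_cases i
    · simp [Matrix.mulVec, dotProduct, Fin.sum_univ_two, e00]
    · simp [Matrix.mulVec, dotProduct, Fin.sum_univ_two, e10]
  have e2 : (τ : Matrix (Fin 2) (Fin 2) F) *ᵥ ![0, 1] = ((σ⁻¹ : Fˣ) : F) • ![0, 1] := by
    funext i
    fin_cases i
    · simp [Matrix.mulVec, dotProduct, Fin.sum_univ_two, e01]
    · simp [Matrix.mulVec, dotProduct, Fin.sum_univ_two, e11]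
  have f1 := eigvec_of_isUZ _ _ (hall τ hτl) hτc _ _ e1
  have f2 := eigvec_of_isUZ _ _ (hall τ hτl) hτc _ _ e2
  rw [h4, gpt_inv_mulVec] at f1 f2
  rcases p with _ | t
  · simp [dual] at f2
  · simp [dual] at f1

theorem unip_mem_Bor (A : Subgroup ↥G) (hA : Group.IsNilpotent A) (p : Option F)
    (hx : slElt hG (unipElt p) ∈ A) (a : ↥G) (ha : a ∈ A) : a ∈ Bor G p := by
  obtain ⟨-, -, -, -, hall⟩ := unip_lemma hG A hA (gpt p) hx
  obtain ⟨α, hα, hαa⟩ := exists_lift a ha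
  have h1 := mulVec_of_isUZ _ _ (hall α hα)
  have h2 : ((Matrix.SpecialLinearGroup.toGL (gpt p) : GL (Fin 2) F) :
      Matrix (Fin 2) (Fin 2) F) *ᵥ ![1, 0] = pt p := gpt_mulVec p
  rw [h2] at h1
  exact mem_Bor_of_lift p a α hαa ⟨_, h1⟩

/-- the image of `SL₂` -/
def SLim (F : Type*) [Field F] : Subgroup (GL (Fin 2) F ⧸ Subgroup.center (GL (Fin 2) F)) :=
  ((Matrix.SpecialLinearGroup.toGL :
    Matrix.SpecialLinearGroup (Fin 2) F →* GL (Fin 2) F).range).map
    (QuotientGroup.mk' (Subgroup.center (GL (Fin 2) F)))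

theorem unip_mem_SLim (A : Subgroup ↥G) (hA : Group.IsNilpotent A) (p : Option F)
    (hx : slElt hG (unipElt p) ∈ A) (a : ↥G) (ha : a ∈ A) : a.1 ∈ SLim F := by
  obtain ⟨-, -, -, -, hall⟩ := unip_lemma hG A hA (gpt p) hx
  obtain ⟨α, hα, hαa⟩ := exists_lift a ha
  set γ : GL (Fin 2) F := Matrix.SpecialLinearGroup.toGL (gpt p) with hγ
  have hu := hall α hα
  set α' : GL (Fin 2) F := γ⁻¹ * α * γ with hα'
  have hdet := det_GL2_ne_zero α'
  rw [hu.1, mul_zero, sub_zero] at hdet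
  have ha0 : (α' : Matrix (Fin 2) (Fin 2) F) 0 0 ≠ 0 := left_ne_zero_of_mul hdet
  -- `α' = scalar a * uT (b / a)`
  have key : ∀ (a0 b0 : F) (h0 : a0 ≠ 0), (α' : Matrix (Fin 2) (Fin 2) F) 0 0 = a0 →
      (α' : Matrix (Fin 2) (Fin 2) F) 0 1 = b0 →
      α' = Matrix.GeneralLinearGroup.scalar (Fin 2) (Units.mk0 a0 h0) *
        Matrix.SpecialLinearGroup.toGL (uT (b0 / a0)) := by
    intro a0 b0 h0 e0 e1
    apply Units.ext
    have hR : ((Matrix.GeneralLinearGroup.scalar (Fin 2) (Units.mk0 a0 h0) *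
        Matrix.SpecialLinearGroup.toGL (uT (b0 / a0)) : GL (Fin 2) F) :
        Matrix (Fin 2) (Fin 2) F) = a0 • (uT (b0 / a0)).1 := by
      rw [Units.val_mul, Matrix.GeneralLinearGroup.coe_scalar, Units.val_mk0, Matrix.scalar_apply,
        ← Matrix.smul_one_eq_diagonal, Matrix.smul_mul, Matrix.one_mul]
      rfl
    rw [hR]
    ext i j
    fin_cases i <;> fin_cases j
    · show (α' : Matrix (Fin 2) (Fin 2) F) 0 0 = a0 • (uT (b0 / a0)).1 0 0
      simp [uT, e0]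
    · show (α' : Matrix (Fin 2) (Fin 2) F) 0 1 = a0 • (uT (b0 / a0)).1 0 1
      simp [uT, e1]
      field_simp
    · show (α' : Matrix (Fin 2) (Fin 2) F) 1 0 = a0 • (uT (b0 / a0)).1 1 0
      simp [uT, hu.1]
    · show (α' : Matrix (Fin 2) (Fin 2) F) 1 1 = a0 • (uT (b0 / a0)).1 1 1
      simp [uT, ← hu.2, e0]
  have h1 := key _ _ ha0 rfl rfl
  have h2 : α = γ * α' * γ⁻¹ := by rw [hα']; group
  rw [← hαa, h2, h1]
  set sc := Matrix.GeneralLinearGroup.scalar (Fin 2)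
    (Units.mk0 ((α' : Matrix (Fin 2) (Fin 2) F) 0 0) ha0) with hsc
  set w := uT ((α' : Matrix (Fin 2) (Fin 2) F) 0 1 / (α' : Matrix (Fin 2) (Fin 2) F) 0 0) with hw
  have hscc : sc ∈ Subgroup.center (GL (Fin 2) F) := by
    rw [Matrix.GeneralLinearGroup.center_eq_range_scalar]; exact ⟨_, rfl⟩
  refine ⟨Matrix.SpecialLinearGroup.toGL (gpt p * w * (gpt p)⁻¹), ⟨_, rfl⟩, ?_⟩
  show (QuotientGroup.mk (Matrix.SpecialLinearGroup.toGL (gpt p * w * (gpt p)⁻¹)) :
    GL (Fin 2) F ⧸ Subgroup.center (GL (Fin 2) F)) = QuotientGroup.mk (γ * (sc *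
      Matrix.SpecialLinearGroup.toGL w) * γ⁻¹)
  rw [QuotientGroup.eq]
  have : (Matrix.SpecialLinearGroup.toGL (gpt p * w * (gpt p)⁻¹))⁻¹ *
      (γ * (sc * Matrix.SpecialLinearGroup.toGL w) * γ⁻¹) = sc := by
    simp only [map_mul, map_inv, ← hγ]
    have hc := (Subgroup.mem_center_iff.1 hscc)
    calc (γ * Matrix.SpecialLinearGroup.toGL w * γ⁻¹)⁻¹ *
        (γ * (sc * Matrix.SpecialLinearGroup.toGL w) * γ⁻¹)
        = γ * (Matrix.SpecialLinearGroup.toGL w)⁻¹ * (γ⁻¹ * γ) * sc *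
          Matrix.SpecialLinearGroup.toGL w * γ⁻¹ := by group
      _ = γ * (Matrix.SpecialLinearGroup.toGL w)⁻¹ * sc *
          Matrix.SpecialLinearGroup.toGL w * γ⁻¹ := by rw [inv_mul_cancel, mul_one]
      _ = sc * (γ * (Matrix.SpecialLinearGroup.toGL w)⁻¹ *
          Matrix.SpecialLinearGroup.toGL w * γ⁻¹) := by
        rw [hc (γ * (Matrix.SpecialLinearGroup.toGL w)⁻¹)]; group
      _ = sc := by group
  rw [this]
  exact hscc


end grp

/-! ### The main theorem in dimension two -/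

section final

variable [Fintype F]

theorem exists_unit_sq_ne_one (hq : 4 ≤ Fintype.card F) : ∃ σ : Fˣ, (σ : F) ^ 2 ≠ 1 := by
  classical
  by_contra hall
  rw [not_exists] at hall
  have h1 : ∀ σ : Fˣ, σ = 1 ∨ σ = -1 := by
    intro σ
    have h := not_not.1 (hall σ)
    have : ((σ : F) - 1) * ((σ : F) + 1) = 0 := by linear_combination h
    rcases mul_eq_zero.1 this with h' | h'
    · left
      apply Units.ext
      rw [Units.val_one]
      exact sub_eq_zero.1 h'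
    · right
      apply Units.ext
      rw [Units.val_neg, Units.val_one]
      exact eq_neg_of_add_eq_zero_left h'
  have h2 : (Finset.univ : Finset Fˣ) ⊆ {1, -1} := by
    intro σ _
    rcases h1 σ with h | h
    · rw [h]; exact Finset.mem_insert_self _ _
    · rw [h]; exact Finset.mem_insert_of_mem (Finset.mem_singleton_self _)
  have h3 := Finset.card_le_card h2
  have h4 : ({1, -1} : Finset Fˣ).card ≤ 2 := Finset.card_le_two
  rw [Finset.card_univ, Fintype.card_units] at h3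
  omega

theorem no_cover_two (hq : 4 ≤ Fintype.card F)
    (G : Subgroup (GL (Fin 2) F ⧸ Subgroup.center (GL (Fin 2) F)))
    (hG : ((Matrix.SpecialLinearGroup.toGL :
      Matrix.SpecialLinearGroup (Fin 2) F →* GL (Fin 2) F).range).map
      (QuotientGroup.mk' (Subgroup.center (GL (Fin 2) F))) ≤ G) :
    ¬ HasNilMinCover ↥G := by
  classical
  by_cases hcase : G ≤ SLim F
  · -- `G` is the image of `SL₂`
    obtain ⟨σ, hσ⟩ := exists_unit_sq_ne_one (F := F) hq
    have hsq : ∀ A : Subgroup ↥G, ∀ α ∈ lifts G A,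
        ∃ κ : F, (α : Matrix (Fin 2) (Fin 2) F).det = κ ^ 2 := by
      intro A α hα
      obtain ⟨hαG, -⟩ := hα
      obtain ⟨_, ⟨g, rfl⟩, hg⟩ := hcase hαG
      have h1 : (QuotientGroup.mk (Matrix.SpecialLinearGroup.toGL g) :
          GL (Fin 2) F ⧸ Subgroup.center (GL (Fin 2) F)) = QuotientGroup.mk α := hg
      rw [QuotientGroup.eq, Matrix.GeneralLinearGroup.center_eq_range_scalar] at h1
      obtain ⟨c, hc⟩ := h1
      have h2 : α = Matrix.SpecialLinearGroup.toGL g * Matrix.GeneralLinearGroup.scalar _ c := by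
        rw [hc]; group
      refine ⟨c, ?_⟩
      rw [h2, Units.val_mul, Matrix.det_mul, Matrix.GeneralLinearGroup.coe_scalar,
        Matrix.scalar_apply, Matrix.det_diagonal]
      have : ((Matrix.SpecialLinearGroup.toGL g : GL (Fin 2) F) :
          Matrix (Fin 2) (Fin 2) F).det = 1 := g.2
      rw [this, one_mul, Finset.prod_const, Finset.card_univ, Fintype.card_fin]
    let fam : Option (Option F) → ↥G := fun i =>
      match i with
      | none => slElt hG (tSL σ)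
      | some p => slElt hG (unipElt p)
    let ℬ : Finset (Subgroup ↥G) := Finset.univ.image (Bor G)
    apply no_cover_of_family fam ℬ
    · intro B hB
      obtain ⟨p, -, rfl⟩ := Finset.mem_image.1 hB
      exact Bor_ne_top hG p
    · intro A hA i j hi hj
      rcases i with _ | p <;> rcases j with _ | p'
      · rfl
      · exact (unip_torus_disjoint hG σ hσ A hA p' hj hi).elim
      · exact (unip_torus_disjoint hG σ hσ A hA p hi hj).elim
      · rw [unip_disjoint hG A hA p p' hi hj]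
    · intro A hA i hi a ha
      rcases i with _ | p
      · obtain ⟨α, hα, hαa⟩ := exists_lift a ha
        obtain ⟨v, hv, c, hc⟩ := torus_lemma hG σ hσ A hA hi (hsq A) α hα
        obtain ⟨p, hp⟩ := exists_pt_of_eigvec α v hv c hc
        exact ⟨Bor G p, Finset.mem_image_of_mem _ (Finset.mem_univ p),
          mem_Bor_of_lift p a α hαa hp⟩
      · exact ⟨Bor G p, Finset.mem_image_of_mem _ (Finset.mem_univ p),
          unip_mem_Bor hG A hA p hi a ha⟩
    · calc ℬ.card ≤ (Finset.univ : Finset (Option F)).card := Finset.card_image_le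
        _ = Fintype.card F + 1 := by rw [Finset.card_univ, Fintype.card_option]
        _ < Fintype.card (Option (Option F)) := by
          rw [Fintype.card_option, Fintype.card_option]; omega
  · -- `G` is strictly larger
    let B : Subgroup ↥G := (SLim F).comap G.subtype
    have hB : B ≠ ⊤ := by
      intro htop
      apply hcase
      intro g hg
      have : (⟨g, hg⟩ : ↥G) ∈ B := by rw [htop]; trivial
      exact this
    apply no_cover_of_pair (slElt hG (unipElt none)) (slElt hG (unipElt (some 0))) B hB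
    · intro A hA h1 h2
      have := unip_disjoint hG A hA none (some 0) h1 h2
      exact absurd this (by simp)
    · intro A hA hx a ha
      rcases hx with hx | hx
      · exact unip_mem_SLim hG A hA none hx a ha
      · exact unip_mem_SLim hG A hA (some 0) hx a ha

end final

end Cfsg.Agent.Lib.Helper37_PGL2
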