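import Mathlib
import Cfsg.Agent.Lib.Helper37_Cover3

/-!
# Reindexing for the "no nilpotent minimal cover" statement on groups between `PSL` and `PGL`
(helper37)
-/

set_option autoImplicit false

namespace Cfsg.Agent.Lib.Helper37_PGLTransfer

open Matrix Cfsg.Agent.Lib.Helper37_Cover2 Cfsg.Agent.Lib.Helper37_Cover3

variable {F : Type*} [Field F]

theorem map_center_of_mulEquiv {H H' : Type*} [Group H] [Group H'] (Φ : H ≃* H') :
    (Subgroup.center H).map Φ.toMonoidHom = Subgroup.center H' := by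
  ext y
  constructor
  · rintro ⟨z, hz, rfl⟩
    rw [Subgroup.mem_center_iff]
    intro g'
    obtain ⟨g, rfl⟩ := Φ.surjective g'
    have := (Subgroup.mem_center_iff.1 hz) g
    show Φ g * Φ z = Φ z * Φ g
    rw [← map_mul, ← map_mul, this]
  · intro hy
    refine ⟨Φ.symm y, ?_, Φ.apply_symm_apply y⟩
    show Φ.symm y ∈ Subgroup.center H
    rw [Subgroup.mem_center_iff]
    intro g
    apply Φ.injective
    rw [map_mul, map_mul, Φ.apply_symm_apply]
    exact (Subgroup.mem_center_iff.1 hy) (Φ g)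

/-- the statement to be transferred -/
def NoCover (ι : Type*) [Fintype ι] [DecidableEq ι] (F : Type*) [Field F] : Prop :=
  ∀ G : Subgroup (GL ι F ⧸ Subgroup.center (GL ι F)),
    ((Matrix.SpecialLinearGroup.toGL : Matrix.SpecialLinearGroup ι F →* GL ι F).range).map
      (QuotientGroup.mk' (Subgroup.center (GL ι F))) ≤ G → ¬ HasNilMinCover ↥G

theorem noCover_of_equiv {ι κ : Type*} [Fintype ι] [DecidableEq ι] [Fintype κ] [DecidableEq κ]
    (e : ι ≃ κ) (h : NoCover κ F) : NoCover ι F := by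
  intro G hG hcov
  let φ : Matrix ι ι F ≃ₐ[F] Matrix κ κ F := Matrix.reindexAlgEquiv F F e
  let Φ : GL ι F ≃* GL κ F := Units.mapEquiv φ.toMulEquiv
  have hcenter : (Subgroup.center (GL ι F)).map Φ.toMonoidHom = Subgroup.center (GL κ F) :=
    map_center_of_mulEquiv Φ
  let Ψ : GL ι F ⧸ Subgroup.center (GL ι F) ≃* GL κ F ⧸ Subgroup.center (GL κ F) :=
    QuotientGroup.congr _ _ Φ hcenter
  let G' : Subgroup (GL κ F ⧸ Subgroup.center (GL κ F)) := G.map Ψ.toMonoidHom
  have hG' : ((Matrix.SpecialLinearGroup.toGL : Matrix.SpecialLinearGroup κ F →* GL κ F).range).map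
      (QuotientGroup.mk' (Subgroup.center (GL κ F))) ≤ G' := by
    rintro _ ⟨_, ⟨g', rfl⟩, rfl⟩
    have hdet : (Matrix.reindex e.symm e.symm (g' : Matrix κ κ F)).det = 1 := by
      rw [Matrix.det_reindex_self]
      exact g'.2
    let g : Matrix.SpecialLinearGroup ι F := ⟨_, hdet⟩
    have hΦ : Φ (Matrix.SpecialLinearGroup.toGL g) = Matrix.SpecialLinearGroup.toGL g' := by
      apply Units.ext
      show φ (Matrix.reindex e.symm e.symm (g' : Matrix κ κ F)) = (g' : Matrix κ κ F)
      ext i j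
      simp [φ, Matrix.coe_reindexAlgEquiv]
    refine ⟨QuotientGroup.mk (Matrix.SpecialLinearGroup.toGL g),
      hG ⟨_, ⟨g, rfl⟩, rfl⟩, ?_⟩
    show Ψ (QuotientGroup.mk (Matrix.SpecialLinearGroup.toGL g)) = _
    have : Ψ (QuotientGroup.mk (Matrix.SpecialLinearGroup.toGL g)) =
        QuotientGroup.mk (Φ (Matrix.SpecialLinearGroup.toGL g)) :=
      QuotientGroup.congr_mk _ _ Φ hcenter _
    rw [this, hΦ]
    rfl
  apply h G' hG'
  exact hasNilMinCover_of_mulEquiv (G.equivMapOfInjective Ψ.toMonoidHom Ψ.injective) hcov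

end Cfsg.Agent.Lib.Helper37_PGLTransfer
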