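import Mathlib

/-!
# A doubly transitive group whose point stabiliser normalises a subgroup acting regularly on the
remaining points (helper37)

Abstract set-up used to transport the structure of the Suzuki group to coset actions.
-/

set_option autoImplicit false

namespace Cfsg.Agent.Lib.Helper37_PointStab

variable {G Ω : Type*} [Group G] [MulAction G Ω]

/-- the normaliser of `Q` is the stabiliser of `ω` -/
theorem mem_normalizer_iff_fix (ω : Ω) (Q : Subgroup G)
    (hfix : ∀ q ∈ Q, q • ω = ω)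
    (hreg : ∀ p p' : Ω, p ≠ ω → p' ≠ ω → ∃! q : Q, (q : G) • p = p')
    (hnorm : ∀ x : G, x • ω = ω → ∀ q ∈ Q, x * q * x⁻¹ ∈ Q)
    {p₁ p₂ : Ω} (hp₁ : p₁ ≠ ω) (hp₂ : p₂ ≠ ω) (hp₁₂ : p₁ ≠ p₂) (x : G) :
    x ∈ Subgroup.normalizer (Q : Set G) ↔ x • ω = ω := by
  constructor
  · intro hx
    by_contra hxω
    rw [Subgroup.mem_normalizer_iff] at hx
    obtain ⟨q₀, hq₀, -⟩ := hreg p₁ p₂ hp₁ hp₂
    have hq' : x * (q₀ : G) * x⁻¹ ∈ Q := (hx q₀).1 q₀.2
    have hfix' : (x * (q₀ : G) * x⁻¹) • (x • ω) = x • ω := by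
      rw [← mul_smul, inv_mul_cancel_right, mul_smul, hfix q₀ q₀.2]
    obtain ⟨q₁, -, huniq⟩ := hreg (x • ω) (x • ω) hxω hxω
    have e1 : (⟨x * (q₀ : G) * x⁻¹, hq'⟩ : Q) = q₁ := huniq _ hfix'
    have e2 : (1 : Q) = q₁ := huniq _ (by simp)
    have e3 : x * (q₀ : G) * x⁻¹ = 1 := by
      have := congrArg Subtype.val (e1.trans e2.symm)
      simpa using this
    have e4 : (q₀ : G) = 1 := by
      have : (q₀ : G) = x⁻¹ * (x * (q₀ : G) * x⁻¹) * x := by group
      rw [this, e3]; group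
    apply hp₁₂
    rw [← hq₀, e4, one_smul]
  · intro hx
    rw [Subgroup.mem_normalizer_iff]
    intro h
    constructor
    · exact hnorm x hx h
    · intro hh
      have hx' : x⁻¹ • ω = ω := by rw [inv_smul_eq_iff, hx]
      have := hnorm x⁻¹ hx' _ hh
      have e : x⁻¹ * (x * h * x⁻¹) * x⁻¹⁻¹ = h := by group
      rwa [e] at this

variable (ω : Ω) (Q : Subgroup G)
  (hmem : ∀ x : G, x ∈ Subgroup.normalizer (Q : Set G) ↔ x • ω = ω)

include hmem

theorem mk_eq_iff (a b : G) :
    ((a : G ⧸ Subgroup.normalizer (Q : Set G)) = (b : G ⧸ Subgroup.normalizer (Q : Set G)))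
      ↔ a • ω = b • ω := by
  rw [QuotientGroup.eq, hmem, mul_smul, inv_smul_eq_iff]
  exact eq_comm

theorem two_transitive_quotient
    (h2t : ∀ a b c d : Ω, a ≠ b → c ≠ d → ∃ g : G, g • a = c ∧ g • b = d) :
    MulAction.IsMultiplyPretransitive G (G ⧸ Subgroup.normalizer (Q : Set G)) 2 := by
  rw [MulAction.is_two_pretransitive_iff]
  intro a b c d hab hcd
  induction a using QuotientGroup.induction_on with | H ga => ?_
  induction b using QuotientGroup.induction_on with | H gb => ?_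
  induction c using QuotientGroup.induction_on with | H gc => ?_
  induction d using QuotientGroup.induction_on with | H gd => ?_
  have hab' : ga • ω ≠ gb • ω := fun h => hab ((mk_eq_iff ω Q hmem ga gb).2 h)
  have hcd' : gc • ω ≠ gd • ω := fun h => hcd ((mk_eq_iff ω Q hmem gc gd).2 h)
  obtain ⟨g, h1, h2⟩ := h2t _ _ _ _ hab' hcd'
  refine ⟨g, ?_, ?_⟩
  · rw [MulAction.Quotient.smul_mk, mk_eq_iff ω Q hmem, smul_eq_mul, mul_smul, h1]
  · rw [MulAction.Quotient.smul_mk, mk_eq_iff ω Q hmem, smul_eq_mul, mul_smul, h2]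

theorem regular_quotient
    (hreg : ∀ p p' : Ω, p ≠ ω → p' ≠ ω → ∃! q : Q, (q : G) • p = p')
    (x y : G ⧸ Subgroup.normalizer (Q : Set G))
    (hx : x ≠ QuotientGroup.mk 1) (hy : y ≠ QuotientGroup.mk 1) :
    ∃! s : Q, (s : G) • x = y := by
  induction x using QuotientGroup.induction_on with | H gx => ?_
  induction y using QuotientGroup.induction_on with | H gy => ?_
  have hx' : gx • ω ≠ ω := fun h => hx ((mk_eq_iff ω Q hmem gx 1).2 (by rw [h, one_smul]))
  have hy' : gy • ω ≠ ω := fun h => hy ((mk_eq_iff ω Q hmem gy 1).2 (by rw [h, one_smul]))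
  obtain ⟨s, hs, huniq⟩ := hreg _ _ hx' hy'
  refine ⟨s, ?_, ?_⟩
  · show (s : G) • (gx : G ⧸ Subgroup.normalizer (Q : Set G)) = gy
    rw [MulAction.Quotient.smul_mk, mk_eq_iff ω Q hmem, smul_eq_mul, mul_smul, hs]
  · intro s' hs'
    apply huniq
    have hs'' : (s' : G) • (gx : G ⧸ Subgroup.normalizer (Q : Set G)) = gy := hs'
    rw [MulAction.Quotient.smul_mk, mk_eq_iff ω Q hmem, smul_eq_mul, mul_smul] at hs''
    exact hs''

theorem normalizer_eq_stabilizer :
    Subgroup.normalizer (Q : Set G) = MulAction.stabilizer G ω := by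
  ext x
  rw [hmem, MulAction.mem_stabilizer_iff]

theorem index_normalizer [MulAction.IsPretransitive G Ω] :
    (Subgroup.normalizer (Q : Set G)).index = Nat.card Ω := by
  rw [normalizer_eq_stabilizer ω Q hmem]
  exact MulAction.index_stabilizer_of_transitive G ω

end Cfsg.Agent.Lib.Helper37_PointStab
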