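import Cfsg.Agent.Lib.Helper37_Good
import Cfsg.Agent.S1152
import Cfsg.Agent.Lib.Helper36_ReeSimple

/-!
# S2787, assembly helpers: transport of "good Sylow 2-subgroups" and of `O_p = 1` along isomorphisms,
and the two facts for the small Ree groups (Sylow 2-subgroups elementary abelian, from S1152; no
nontrivial normal 3-subgroup, from simplicity).
-/

set_option autoImplicit false

namespace Cfsg.Agent.Lib.Helper37_QuadMain

open Cfsg.Agent.Lib.Helper37_Good

/-- Transport of goodness of the Sylow 2-subgroups along an isomorphism. -/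
theorem sylow_good_of_mulEquiv {X R : Type*} [Group X] [Finite X] [Group R] (e : X ≃* R)
    (h : ∀ S : Sylow 2 R, Good ↥(S : Subgroup R)) (S : Sylow 2 X) : Good ↥(S : Subgroup X) := by
  have : Fact (Nat.Prime 2) := ⟨Nat.prime_two⟩
  have h1 : Good ↥((S : Subgroup X).map e.toMonoidHom) :=
    h (Sylow.mapSurjective (f := e.toMonoidHom) e.surjective S)
  exact h1.of_injective ((e.toMonoidHom.subgroupMap (S : Subgroup X))) (by
    intro a b hab
    apply Subtype.ext
    apply e.injective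
    exact congrArg Subtype.val hab)

/-- Transport of `O_p = 1` along an isomorphism. -/
theorem pCore_eq_bot_of_mulEquiv {X R : Type*} [Group X] [Group R] (p : ℕ) (e : X ≃* R)
    (h : ∀ N : Subgroup R, N.Normal → IsPGroup p N → N = ⊥) : Cfsg.pCore p X = ⊥ := by
  unfold Cfsg.pCore
  rw [eq_bot_iff]
  apply sSup_le
  rintro N ⟨hN, hp⟩
  have h1 : N.map e.toMonoidHom = ⊥ :=
    h _ (hN.map e.toMonoidHom e.surjective) (hp.map e.toMonoidHom)
  intro x hx
  have h2 : e x ∈ N.map e.toMonoidHom := ⟨x, hx, rfl⟩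
  rw [h1, Subgroup.mem_bot] at h2
  rw [Subgroup.mem_bot]
  exact e.injective (h2.trans (map_one e).symm)

section ree

open Cfsg Cfsg.Lie Cfsg.Agent.Lib.Helper36_ReeFix Cfsg.Agent.Lib.Helper37_ReeCentDefs
  Cfsg.Agent.Lib.Helper37_ReeCentMain Cfsg.Agent.Lib.Helper36_ReeSimple

variable {K : Type*} [Field K] [Fintype K] [CharP K 3] {m : ℕ} (hK : Fintype.card K = 3 ^ (2 * m + 1))

include hK in
theorem ree_sylow_good (S : Sylow 2 ↥(twistedG2 K (3 ^ m))) : Good ↥(S : Subgroup ↥(twistedG2 K (3 ^ m))) := by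
  have h := (Cfsg.Agent.S1152.result hK ⟨aa K m, aa_mem hK⟩ aa_mem_diag (aa'_ne_one hK) (aa'_sq hK)).2 S
  apply good_of_sq_eq_one
  intro x
  apply Subtype.ext
  exact h.2 x x.2

include hK in
theorem ree_normal_pgroup (hm : 1 ≤ m) (N : Subgroup ↥(twistedG2 K (3 ^ m))) (hN : N.Normal) (hp : IsPGroup 3 N) :
    N = ⊥ := by
  have hs := (simple hK hm).1
  rcases hN.eq_bot_or_eq_top with h | h
  · exact h
  · exfalso
    have ha : (⟨aa K m, aa_mem hK⟩ : ↥(twistedG2 K (3 ^ m))) ∈ N := by rw [h]; exact Subgroup.mem_top _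
    obtain ⟨k, hk⟩ := hp ⟨_, ha⟩
    have h1 : (⟨aa K m, aa_mem hK⟩ : ↥(twistedG2 K (3 ^ m))) ^ 3 ^ k = 1 := congrArg Subtype.val hk
    have h2 : (⟨aa K m, aa_mem hK⟩ : ↥(twistedG2 K (3 ^ m))) ^ 2 = 1 := by
      rw [pow_two]
      exact aa'_sq hK
    have h3 : orderOf (⟨aa K m, aa_mem hK⟩ : ↥(twistedG2 K (3 ^ m))) ∣ Nat.gcd (3 ^ k) 2 :=
      Nat.dvd_gcd (orderOf_dvd_of_pow_eq_one h1) (orderOf_dvd_of_pow_eq_one h2)
    have h4 : Nat.gcd (3 ^ k) 2 = 1 := Nat.Coprime.pow_left k (by decide)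
    rw [h4, Nat.dvd_one, orderOf_eq_one_iff] at h3
    exact aa'_ne_one hK h3

end ree

end Cfsg.Agent.Lib.Helper37_QuadMain
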