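import Cfsg.Agent.Lib.Helper37_ReeCentDefs

set_option autoImplicit false

/-!
REE-TOR package NO3: in the twisted group of type `²G₂`, an element commuting with an element of order 3 lies in a conjugate
of `B¹ = U¹ H¹`, hence has order dividing `q³ (q - 1)`.
-/

namespace Cfsg.Agent.Lib.Helper37_ReeTor_NO3

open Cfsg Cfsg.Lie Cfsg.Agent.Lib.Helper36_ReeFix Cfsg.Agent.Lib.Helper36_ReeBruhat
  Cfsg.Agent.Lib.Helper36_ReeH Cfsg.Agent.Lib.Helper36_ReePerf Cfsg.Agent.Lib.Helper36_ReeOrder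
  Cfsg.Agent.Lib.Helper36_ReeBN Cfsg.Agent.Lib.Helper36_ReeSylow Cfsg.Agent.Lib.Helper36_ReeStab
  Cfsg.Agent.Lib.Helper36_ChevBorel Cfsg.Agent.Lib.Helper36_ChevTables Cfsg.Agent.Lib.Helper36_ReeTw
  Cfsg.Agent.Lib.Helper37_ReeCentDefs

open scoped Pointwise

section

variable {K : Type*} [Field K] [Fintype K] [CharP K 3] {m : ℕ} (hK : Fintype.card K = 3 ^ (2 * m + 1))

/-- The chosen monomial element does not lie in `B`. -/
theorem m0_not_borel : m0 hK ∉ chevG2.borelSubgroup K := by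
  have hBN := (Cfsg.Agent.S1040.result (F := K) chevG2 hD).2
  intro h
  apply m0_not_diag hK
  rw [← hBN]
  exact ⟨h, m0_mono hK⟩

include hK in
/-- An element of `B ⊓ G¹` has order dividing `(q - 1) q³`. -/
theorem pow_eq_one_of_mem_borel (x : GL chevG2.Idx K) (hx : x ∈ twistedG2 K (3 ^ m))
    (hxB : x ∈ chevG2.borelSubgroup K) : x ^ ((3 ^ (2 * m + 1) - 1) * (3 ^ (2 * m + 1)) ^ 3) = 1 := by
  have hBle : chevG2.posUnipotent K ≤ chevG2.borelSubgroup K := le_sup_left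
  have hHle : chevG2.diagonalSubgroup K ≤ chevG2.borelSubgroup K := le_sup_right
  rcases mem_cases hK x hx with ⟨u0, hu0, h0, hh0, e⟩ | ⟨u0, hu0, h0, hh0, u, hu, e⟩
  · -- powers
    have hpow : ∀ k : ℕ, ∃ u ∈ chevG2.posUnipotent K ⊓ twistedG2 K (3 ^ m), x ^ k = u * h0 ^ k := by
      intro k
      induction k with
      | zero => exact ⟨1, Subgroup.one_mem _, by simp⟩
      | succ k ih =>
        obtain ⟨u, hu, hk⟩ := ih
        have hh0k : h0 ^ k ∈ chevG2.diagonalSubgroup K ⊓ twistedG2 K (3 ^ m) := Subgroup.pow_mem _ hh0 k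
        refine ⟨u * (h0 ^ k * u0 * (h0 ^ k)⁻¹), Subgroup.mul_mem _ hu
          ⟨diag_conj_U _ hh0k.1 _ hu0.1,
            Subgroup.mul_mem _ (Subgroup.mul_mem _ hh0k.2 hu0.2) (Subgroup.inv_mem _ hh0k.2)⟩, ?_⟩
        rw [pow_succ, hk, pow_succ]
        nth_rewrite 1 [e]
        group
    obtain ⟨u, hu, hk⟩ := hpow (3 ^ (2 * m + 1) - 1)
    have h1 : h0 ^ (3 ^ (2 * m + 1) - 1) = 1 := by
      have := pow_card_eq_one' (G := ↥(chevG2.diagonalSubgroup K ⊓ twistedG2 K (3 ^ m))) (x := ⟨h0, hh0⟩)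
      rw [card_diag_inf hK] at this
      exact congrArg Subtype.val this
    have h2 : u ^ ((3 ^ (2 * m + 1)) ^ 3) = 1 := by
      have := pow_card_eq_one' (G := ↥(chevG2.posUnipotent K ⊓ twistedG2 K (3 ^ m))) (x := ⟨u, hu⟩)
      rw [card_U_inf hK] at this
      exact congrArg Subtype.val this
    rw [pow_mul, hk, h1, mul_one, h2]
  · exfalso
    apply m0_not_borel hK
    have e1 : m0 hK = h0⁻¹ * u0⁻¹ * x * u⁻¹ := by
      rw [e]
      group
    rw [e1]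
    exact Subgroup.mul_mem _ (Subgroup.mul_mem _ (Subgroup.mul_mem _ (Subgroup.inv_mem _ (hHle hh0.1))
      (Subgroup.inv_mem _ (hBle hu0.1))) hxB) (Subgroup.inv_mem _ (hBle hu.1))

include hK in
theorem no_three (x y : ↥(twistedG2 K (3 ^ m))) (hy : orderOf y = 3) (hxy : x * y = y * x) :
    x ^ ((3 ^ (2 * m + 1)) ^ 3 * (3 ^ (2 * m + 1) - 1)) = 1 := by
  have : Fact (Nat.Prime 3) := ⟨Nat.prime_three⟩
  have hp : IsPGroup 3 ↥((chevG2.posUnipotent K ⊓ twistedG2 K (3 ^ m)).subgroupOf (twistedG2 K (3 ^ m))) :=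
    IsPGroup.of_card (card_U1 hK)
  set S0 : Sylow 3 ↥(twistedG2 K (3 ^ m)) := hp.toSylow (index_U1 hK) with hS0
  have memS0 : ∀ x : ↥(twistedG2 K (3 ^ m)), x ∈ S0 ↔ (x : GL chevG2.Idx K) ∈ chevG2.posUnipotent K := by
    intro x
    rw [hS0, IsPGroup.mem_toSylow, Subgroup.mem_subgroupOf, Subgroup.mem_inf]
    exact ⟨fun h => h.1, fun h => ⟨h, x.2⟩⟩
  have memSmul : ∀ (a x : ↥(twistedG2 K (3 ^ m))), x ∈ ((a • S0 : Sylow 3 ↥(twistedG2 K (3 ^ m))) :
      Subgroup ↥(twistedG2 K (3 ^ m))) ↔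
      (a : GL chevG2.Idx K)⁻¹ * (x : GL chevG2.Idx K) * (a : GL chevG2.Idx K) ∈ chevG2.posUnipotent K := by
    intro a x
    rw [Sylow.coe_subgroup_smul, Subgroup.mem_pointwise_smul_iff_inv_smul_mem]
    have e : (MulAut.conj a)⁻¹ • x = a⁻¹ * x * a := by
      rw [MulAut.smul_def, ← map_inv, MulAut.conj_apply, inv_inv]
    rw [e]
    exact memS0 _
  -- `y` lies in a Sylow 3-subgroup
  have hpy : IsPGroup 3 (Subgroup.zpowers y) := by
    apply IsPGroup.of_card (n := 1)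
    rw [Nat.card_zpowers, hy, pow_one]
  obtain ⟨P, hP⟩ := hpy.exists_le_sylow
  obtain ⟨a, rfl⟩ := MulAction.exists_smul_eq ↥(twistedG2 K (3 ^ m)) S0 P
  have hw : (a : GL chevG2.Idx K)⁻¹ * (y : GL chevG2.Idx K) * (a : GL chevG2.Idx K) ∈ chevG2.posUnipotent K :=
    (memSmul a y).mp (hP (Subgroup.mem_zpowers y))
  have hy1 : y ≠ 1 := by
    intro h
    rw [h, orderOf_one] at hy
    omega
  have hw1 : (a : GL chevG2.Idx K)⁻¹ * (y : GL chevG2.Idx K) * (a : GL chevG2.Idx K) ≠ 1 := by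
    intro h
    apply hy1
    apply Subtype.ext
    calc (y : GL chevG2.Idx K) = (a : GL chevG2.Idx K) *
          ((a : GL chevG2.Idx K)⁻¹ * (y : GL chevG2.Idx K) * (a : GL chevG2.Idx K)) * (a : GL chevG2.Idx K)⁻¹ := by
          group
      _ = 1 := by rw [h]; group
  have hxy' : (x : GL chevG2.Idx K) * (y : GL chevG2.Idx K) = (y : GL chevG2.Idx K) * (x : GL chevG2.Idx K) := by
    have := congrArg Subtype.val hxy
    exact this
  -- the conjugate of `x` lies in `B`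
  have hx'G : (a : GL chevG2.Idx K)⁻¹ * (x : GL chevG2.Idx K) * (a : GL chevG2.Idx K) ∈ twistedG2 K (3 ^ m) :=
    Subgroup.mul_mem _ (Subgroup.mul_mem _ (Subgroup.inv_mem _ a.2) x.2) a.2
  have hx'B : (a : GL chevG2.Idx K)⁻¹ * (x : GL chevG2.Idx K) * (a : GL chevG2.Idx K) ∈ chevG2.borelSubgroup K := by
    by_contra hB
    apply hw1
    apply conj_U_trivial hK _ hx'G hB _ hw
    have e : (a : GL chevG2.Idx K)⁻¹ * (x : GL chevG2.Idx K) * (a : GL chevG2.Idx K) *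
        ((a : GL chevG2.Idx K)⁻¹ * (y : GL chevG2.Idx K) * (a : GL chevG2.Idx K)) *
        ((a : GL chevG2.Idx K)⁻¹ * (x : GL chevG2.Idx K) * (a : GL chevG2.Idx K))⁻¹ =
        (a : GL chevG2.Idx K)⁻¹ * ((x : GL chevG2.Idx K) * (y : GL chevG2.Idx K)) * (x : GL chevG2.Idx K)⁻¹ *
          (a : GL chevG2.Idx K) := by group
    rw [e, hxy']
    have e2 : (a : GL chevG2.Idx K)⁻¹ * ((y : GL chevG2.Idx K) * (x : GL chevG2.Idx K)) * (x : GL chevG2.Idx K)⁻¹ *
        (a : GL chevG2.Idx K) = (a : GL chevG2.Idx K)⁻¹ * (y : GL chevG2.Idx K) * (a : GL chevG2.Idx K) := by group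
    rw [e2]
    exact hw
  have hpow := pow_eq_one_of_mem_borel hK _ hx'G hx'B
  apply Subtype.ext
  rw [Subgroup.coe_pow, Subgroup.coe_one, mul_comm]
  have e : (x : GL chevG2.Idx K) = (a : GL chevG2.Idx K) *
      ((a : GL chevG2.Idx K)⁻¹ * (x : GL chevG2.Idx K) * (a : GL chevG2.Idx K)) * (a : GL chevG2.Idx K)⁻¹ := by group
  rw [e, conj_pow, hpow]
  group

end

end Cfsg.Agent.Lib.Helper37_ReeTor_NO3
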