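import Mathlib

set_option autoImplicit false

/-!
REE-TOR package SYLCONJP: if a subgroup `C` carries the full `p`-part of `|G|`, every element of order `p` is conjugate into `C`.
-/

namespace Cfsg.Agent.Lib.Helper37_ReeTor_SYLCONJP

theorem exists_conj_mem {G : Type*} [Group G] [Finite G] (p : ℕ) [Fact p.Prime] (C : Subgroup G)
    (hv : (Nat.card C).factorization p = (Nat.card G).factorization p) (x : G) (hx : orderOf x = p) :
    ∃ g : G, g * x * g⁻¹ ∈ C := by
  -- a Sylow `p`-subgroup of `C`, mapped to `G`, is a Sylow `p`-subgroup of `G`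
  obtain ⟨Q⟩ : Nonempty (Sylow p ↥C) := inferInstance
  have hQcard : Nat.card ((Q : Subgroup ↥C).map C.subtype) = p ^ (Nat.card G).factorization p := by
    rw [Nat.card_congr ((Q : Subgroup ↥C).equivMapOfInjective C.subtype C.subtype_injective).symm.toEquiv,
      Sylow.card_eq_multiplicity, hv]
  set Q' : Sylow p G := Sylow.ofCard ((Q : Subgroup ↥C).map C.subtype) hQcard with hQ'
  have hQ'C : (Q' : Subgroup G) ≤ C := by
    rw [hQ', Sylow.coe_ofCard]
    rintro y ⟨z, -, rfl⟩
    exact z.2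
  -- `x` lies in a Sylow `p`-subgroup
  have hp : IsPGroup p (Subgroup.zpowers x) := by
    apply IsPGroup.of_card (n := 1)
    rw [Nat.card_zpowers, hx, pow_one]
  obtain ⟨P, hP⟩ := hp.exists_le_sylow
  obtain ⟨g, hg⟩ := MulAction.exists_smul_eq G P Q'
  refine ⟨g, hQ'C ?_⟩
  rw [← hg, Sylow.coe_subgroup_smul, Subgroup.mem_pointwise_smul_iff_inv_smul_mem, MulAut.smul_def,
    ← map_inv, MulAut.conj_apply, inv_inv]
  have : g⁻¹ * (g * x * g⁻¹) * g = x := by group
  rw [this]
  exact hP (Subgroup.mem_zpowers x)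

end Cfsg.Agent.Lib.Helper37_ReeTor_SYLCONJP
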