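import Mathlib
import Cfsg.Agent.Lib.Helper35_PSL2Card

/-!
# REE-SYLP package CARDC (architect helper37): `|Z₂ × PSL₂(F)| = q (q² - 1)` for `q` odd
-/

set_option autoImplicit false

namespace Cfsg.Agent.Lib.Helper60_ReeSylP_CARDC

open Cfsg.Agent.Lib.Helper35_PSL2Card

/-- pure arithmetic: cancel `q - 1` -/
theorem arith_cancel (q s : ℕ) (hq : 1 < q) (h : s * (q - 1) = (q ^ 2 - 1) * (q ^ 2 - q)) :
    s = q * (q ^ 2 - 1) := by
  obtain ⟨k, rfl⟩ : ∃ k, q = k + 2 := ⟨q - 2, by omega⟩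
  have h1 : k + 2 - 1 = k + 1 := by omega
  have h2 : (k + 2) ^ 2 - (k + 2) = (k + 2) * (k + 1) := by
    have : (k + 2) ^ 2 = (k + 2) * (k + 1) + (k + 2) := by ring
    omega
  rw [h1, h2] at h
  have h3 : s * (k + 1) = ((k + 2) * ((k + 2) ^ 2 - 1)) * (k + 1) := by
    rw [h]; ring
  exact Nat.eq_of_mul_eq_mul_right (by omega) h3

theorem card_prod_psl2 {F : Type*} [Field F] [Fintype F] (h2 : (2 : F) ≠ 0) :
    Nat.card (Multiplicative (ZMod 2) × Matrix.ProjectiveSpecialLinearGroup (Fin 2) F) =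
      Fintype.card F * (Fintype.card F ^ 2 - 1) := by
  have hq : 1 < Fintype.card F := Fintype.one_lt_card
  have h1 := card_SL2_mul (F := F)
  have h3 := card_SL2_eq_card_PSL2_mul (F := F)
  rw [card_center_SL2, card_rootsOfUnity_two_of_ne h2] at h3
  have h4 := arith_cancel _ _ hq h1
  have hz : Nat.card (Multiplicative (ZMod 2)) = 2 := by
    rw [Nat.card_eq_fintype_card]
    rfl
  rw [Nat.card_prod, hz, ← h4, h3, mul_comm]

end Cfsg.Agent.Lib.Helper60_ReeSylP_CARDC
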