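import Cfsg.Agent.Lib.Helper37_ReeCentMain
import Cfsg.Agent.Lib.Helper37_ReeTorusCent
import Cfsg.Agent.Lib.Helper37_InvConj
import Cfsg.Agent.Lib.Helper10_ReeTor_ARITH59
import Cfsg.Agent.Lib.Helper10_ReeTor_PRODCENT
import Cfsg.Agent.Lib.Helper12_ReeTor_ABS2
import Cfsg.Agent.Lib.Helper12_ReeTor_TRANSPORT2
import Cfsg.Agent.Lib.Helper37_ReeTor_NO3
import Cfsg.Agent.Lib.Helper37_ReeTor_SYLCONJP
import Cfsg.Agent.Lib.Helper60_ReeSylP_CARDC
import Cfsg.Agent.Lib.Helper61_ReeTor_PSL2CENT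

set_option autoImplicit false

/-!
Assembly for S2359 (small Ree groups: centralisers of the cyclic subgroups of order `(q - 1)/2` and `(q + 1)/4`), from the
REE-TOR packages.
-/

namespace Cfsg.Agent.Lib.Helper37_ReeTorMain

open Cfsg.Agent.Lib.Helper10_ReeTor_ARITH59 Cfsg.Agent.Lib.Helper10_ReeTor_PRODCENT Cfsg.Agent.Lib.Helper12_ReeTor_ABS2
  Cfsg.Agent.Lib.Helper12_ReeTor_TRANSPORT2 Cfsg.Agent.Lib.Helper37_ReeTor_NO3 Cfsg.Agent.Lib.Helper37_ReeTor_SYLCONJP
  Cfsg.Agent.Lib.Helper60_ReeSylP_CARDC Cfsg.Agent.Lib.Helper61_ReeTor_PSL2CENT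
  Cfsg.Agent.Lib.Helper37_ReeCentMain

/-! ### Abstract lemmas -/

/-- If `x ∈ A ≤ H`, `H` is abelian and `C(x)` is abelian, then `C(A) = C(H) = C(x)`. -/
theorem centralizer_eq_of_mem {G : Type*} [Group G] (H A : Subgroup G) (hH : ∀ g ∈ H, ∀ k ∈ H, g * k = k * g)
    (hA : A ≤ H) (x : G) (hx : x ∈ A)
    (hc : ∀ g ∈ Subgroup.centralizer ({x} : Set G), ∀ k ∈ Subgroup.centralizer ({x} : Set G), g * k = k * g) :
    Subgroup.centralizer (A : Set G) = Subgroup.centralizer ({x} : Set G) ∧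
      Subgroup.centralizer (H : Set G) = Subgroup.centralizer ({x} : Set G) := by
  have h1 : Subgroup.centralizer (H : Set G) ≤ Subgroup.centralizer (A : Set G) :=
    Subgroup.centralizer_le (by exact_mod_cast hA)
  have h2 : Subgroup.centralizer (A : Set G) ≤ Subgroup.centralizer ({x} : Set G) :=
    Subgroup.centralizer_le (by simpa using hx)
  have h3 : Subgroup.centralizer ({x} : Set G) ≤ Subgroup.centralizer (H : Set G) := by
    intro g hg
    rw [Subgroup.mem_centralizer_iff]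
    intro k hk
    have hk' : k ∈ Subgroup.centralizer ({x} : Set G) := by
      rw [Subgroup.mem_centralizer_iff]
      intro y hy
      rw [Set.mem_singleton_iff] at hy
      rw [hy]
      exact hH x (hA hx) k hk
    exact hc k hk' g hg
  exact ⟨le_antisymm h2 (h3.trans h1), le_antisymm (h1.trans h2) h3⟩

theorem orderOf_conj' {G : Type*} [Group G] (g x : G) : orderOf (g * x * g⁻¹) = orderOf x := by
  have h : SemiconjBy g x (g * x * g⁻¹) := by
    unfold SemiconjBy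
    group
  exact (h.orderOf_eq g).symm

/-- A non-trivial subgroup of a group of odd order `n` contains an element of odd prime order `p ∣ n`. -/
theorem exists_prime_elt {G : Type*} [Group G] [Finite G] (H A : Subgroup G) (hA : A ≤ H) (hA1 : A ≠ ⊥) (n : ℕ)
    (hH : Nat.card H = n) (hn : n % 2 = 1) :
    ∃ p : ℕ, p.Prime ∧ p ≠ 2 ∧ p ∣ n ∧ ∃ x ∈ A, orderOf x = p := by
  have h1 : Nat.card A ≠ 1 := fun h => hA1 (Subgroup.card_eq_one.mp h)
  obtain ⟨p, hp, hpd⟩ := Nat.exists_prime_and_dvd h1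
  have hpn : p ∣ n := by
    rw [← hH]
    exact hpd.trans (Subgroup.card_dvd_of_le hA)
  have : Fact p.Prime := ⟨hp⟩
  obtain ⟨x, hx⟩ := exists_prime_orderOf_dvd_card' p hpd
  refine ⟨p, hp, ?_, hpn, (x : G), x.2, ?_⟩
  · rintro rfl
    omega
  · rw [Subgroup.orderOf_coe]
    exact hx

/-- Conjugation maps the centraliser of `x` onto the centraliser of `g x g⁻¹`. -/
def centConj {G : Type*} [Group G] (g x : G) :
    ↥(Subgroup.centralizer ({x} : Set G)) ≃* ↥(Subgroup.centralizer ({g * x * g⁻¹} : Set G)) where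
  toFun z := ⟨g * z * g⁻¹, by
    have hz := Subgroup.mem_centralizer_singleton_iff.mp z.2
    rw [Subgroup.mem_centralizer_singleton_iff]
    calc g * ↑z * g⁻¹ * (g * x * g⁻¹) = g * (↑z * x) * g⁻¹ := by group
      _ = g * (x * ↑z) * g⁻¹ := by rw [hz]
      _ = g * x * g⁻¹ * (g * ↑z * g⁻¹) := by group⟩
  invFun z := ⟨g⁻¹ * z * g, by
    have hz := Subgroup.mem_centralizer_singleton_iff.mp z.2
    rw [Subgroup.mem_centralizer_singleton_iff]
    calc g⁻¹ * ↑z * g * x = g⁻¹ * (↑z * (g * x * g⁻¹)) * g := by group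
      _ = g⁻¹ * ((g * x * g⁻¹) * ↑z) * g := by rw [hz]
      _ = x * (g⁻¹ * ↑z * g) := by group⟩
  left_inv z := by
    apply Subtype.ext
    show g⁻¹ * (g * ↑z * g⁻¹) * g = ↑z
    group
  right_inv z := by
    apply Subtype.ext
    show g * (g⁻¹ * ↑z * g) * g⁻¹ = ↑z
    group
  map_mul' z w := by
    apply Subtype.ext
    show g * (↑z * ↑w) * g⁻¹ = g * ↑z * g⁻¹ * (g * ↑w * g⁻¹)
    group


section ree

open Cfsg Cfsg.Lie Cfsg.Agent.Lib.Helper36_ReeFix Cfsg.Agent.Lib.Helper36_ReeBruhat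
  Cfsg.Agent.Lib.Helper36_ReeH Cfsg.Agent.Lib.Helper36_ReePerf Cfsg.Agent.Lib.Helper36_ReeOrder
  Cfsg.Agent.Lib.Helper36_ReeBN Cfsg.Agent.Lib.Helper36_ReeSylow Cfsg.Agent.Lib.Helper36_ReeStab
  Cfsg.Agent.Lib.Helper37_ReeCentDefs Cfsg.Agent.Lib.Helper37_ReeTorusCent

variable {K : Type*} [Field K] [Fintype K] [CharP K 3] {m : ℕ} (hK : Fintype.card K = 3 ^ (2 * m + 1))

/-- `H¹` as a subgroup of the twisted group. -/
def H1 (K : Type*) [Field K] (m : ℕ) : Subgroup ↥(twistedG2 K (3 ^ m)) :=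
  (chevG2.diagonalSubgroup K ⊓ twistedG2 K (3 ^ m)).subgroupOf (twistedG2 K (3 ^ m))

omit [Fintype K] [CharP K 3] in
theorem mem_H1 (z : ↥(twistedG2 K (3 ^ m))) :
    z ∈ H1 K m ↔ (z : GL chevG2.Idx K) ∈ chevG2.diagonalSubgroup K ⊓ twistedG2 K (3 ^ m) :=
  Subgroup.mem_subgroupOf

include hK in
theorem card_H1 : Nat.card ↥(H1 K m) = 3 ^ (2 * m + 1) - 1 := by
  unfold H1
  rw [Nat.card_congr (Subgroup.subgroupOfEquivOfLe (inf_le_right :
    chevG2.diagonalSubgroup K ⊓ twistedG2 K (3 ^ m) ≤ twistedG2 K (3 ^ m))).toEquiv, card_diag_inf hK]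

include hK in
theorem cyclic_H1 : IsCyclic ↥(H1 K m) := by
  have := cyclic_diag_inf hK
  exact isCyclic_of_surjective (Subgroup.subgroupOfEquivOfLe (inf_le_right :
    chevG2.diagonalSubgroup K ⊓ twistedG2 K (3 ^ m) ≤ twistedG2 K (3 ^ m))).symm (MulEquiv.surjective _)

include hK in
/-- The centraliser of an element of odd prime order `p ∣ q - 1` is cyclic of order `q - 1`. -/
theorem main1 (p : ℕ) (hp : p.Prime) (hp2 : p ≠ 2) (hd : p ∣ 3 ^ (2 * m + 1) - 1) (x : ↥(twistedG2 K (3 ^ m)))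
    (hx : orderOf x = p) :
    IsCyclic ↥(Subgroup.centralizer ({x} : Set ↥(twistedG2 K (3 ^ m)))) ∧
      Nat.card ↥(Subgroup.centralizer ({x} : Set ↥(twistedG2 K (3 ^ m)))) = 3 ^ (2 * m + 1) - 1 := by
  have : Fact p.Prime := ⟨hp⟩
  obtain ⟨g, hg⟩ := exists_conj_mem p (H1 K m)
    (by rw [card_H1 hK, card_twistedG2 hK, arith_minus m p hp hp2 hd]) x hx
  obtain ⟨x', hx'⟩ : ∃ x' : ↥(twistedG2 K (3 ^ m)), x' = g * x * g⁻¹ := ⟨_, rfl⟩
  rw [← hx'] at hg
  have hx'o : orderOf x' = p := by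
    rw [hx', ← hx]
    exact orderOf_conj' g x
  have hmem := (mem_H1 x').mp hg
  have hmem' := hmem
  rw [diag_inf_eq hK] at hmem'
  obtain ⟨μ, hμ⟩ := hmem'
  have hμ2 : μ ^ 2 ≠ 1 := by
    intro h
    have h1 : x' ^ 2 = 1 := by
      apply Subtype.ext
      rw [Subgroup.coe_pow, ← hμ, ← map_pow, h, map_one]
      rfl
    have h2 : p ∣ 2 := by
      rw [← hx'o]
      exact orderOf_dvd_of_pow_eq_one h1
    exact hp2 ((Nat.prime_dvd_prime_iff_eq hp Nat.prime_two).mp h2)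
  have hcent : Subgroup.centralizer ({x'} : Set ↥(twistedG2 K (3 ^ m))) = H1 K m := by
    ext z
    rw [Subgroup.mem_centralizer_singleton_iff, mem_H1]
    constructor
    · intro hz
      apply cent_hfix hK μ hμ2 _ z.2
      rw [hμ]
      have := congrArg Subtype.val hz
      rw [Subgroup.coe_mul, Subgroup.coe_mul] at this
      rw [← this]
      group
    · intro hz
      apply Subtype.ext
      rw [Subgroup.coe_mul, Subgroup.coe_mul, ← hμ]
      have := hfix_comm hK μ _ hz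
      calc (z : GL chevG2.Idx K) * hfix K m μ = (hfix K m μ * z * (hfix K m μ)⁻¹) * hfix K m μ := by rw [this]
        _ = hfix K m μ * z := by group
  have e := centConj g x
  rw [← hx', hcent] at e
  have := cyclic_H1 hK
  exact ⟨isCyclic_of_surjective e.symm (MulEquiv.surjective _), by rw [Nat.card_congr e.toEquiv, card_H1 hK]⟩


omit [Fintype K] in
theorem two_ne_zero' : (2 : K) ≠ 0 := by
  intro h0
  have h3 : ((2 : ℕ) : K) = 0 := by exact_mod_cast h0
  rw [CharP.cast_eq_zero_iff K 3] at h3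
  omega

include hK in
theorem odd_card : Odd (Fintype.card K) := by
  rw [hK]
  exact Odd.pow (by decide)

include hK in
/-- The centraliser of an element of odd prime order `p ∣ q + 1` is abelian of order `q + 1` without elements of order 4. -/
theorem main2 (hm : 1 ≤ m) (p : ℕ) (hp : p.Prime) (hp2 : p ≠ 2) (hd : p ∣ 3 ^ (2 * m + 1) + 1)
    (x : ↥(twistedG2 K (3 ^ m))) (hx : orderOf x = p) :
    (∀ g ∈ Subgroup.centralizer ({x} : Set ↥(twistedG2 K (3 ^ m))),
      ∀ k ∈ Subgroup.centralizer ({x} : Set ↥(twistedG2 K (3 ^ m))), g * k = k * g) ∧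
    Nat.card ↥(Subgroup.centralizer ({x} : Set ↥(twistedG2 K (3 ^ m)))) = 3 ^ (2 * m + 1) + 1 ∧
    ∀ z ∈ Subgroup.centralizer ({x} : Set ↥(twistedG2 K (3 ^ m))), orderOf z ≠ 4 := by
  have : Fact p.Prime := ⟨hp⟩
  obtain ⟨ψ⟩ := centralizer_aa hK
  obtain ⟨L, V, hyp⟩ := exists_hyp hK hm
  have harith := Cfsg.Agent.Lib.Helper8_ReeInv_ARITH.arith m
  have h16 : ¬ 16 ∣ Nat.card ↥(twistedG2 K (3 ^ m)) := by
    rw [card_twistedG2 hK]
    exact harith.1
  have hconj := Cfsg.Agent.Lib.Helper37_InvConj.involution_conj hyp (no_index_two hK hm) h16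
  obtain ⟨-, -, hodd2, h4n⟩ := arith59 m
  obtain ⟨hv, hnd, -⟩ := arith_plus m p hp hp2 hd
  obtain ⟨n, hn⟩ : ∃ n : ℕ, n = (3 ^ (2 * m + 1) + 1) / 4 := ⟨_, rfl⟩
  rw [← hn] at hodd2 h4n
  have hnodd : Odd n := Nat.odd_iff.mpr hodd2
  -- the centralisers of the elements of order `p` in `Z₂ × PSL₂(K)`
  have hQ : ∀ w : Multiplicative (ZMod 2) × Matrix.ProjectiveSpecialLinearGroup (Fin 2) K, orderOf w = p →
      (∀ g ∈ Subgroup.centralizer ({w} : Set (Multiplicative (ZMod 2) × Matrix.ProjectiveSpecialLinearGroup (Fin 2) K)),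
        ∀ k ∈ Subgroup.centralizer ({w} : Set (Multiplicative (ZMod 2) × Matrix.ProjectiveSpecialLinearGroup (Fin 2) K)),
          g * k = k * g) ∧
      Nat.card ↥(Subgroup.centralizer ({w} :
        Set (Multiplicative (ZMod 2) × Matrix.ProjectiveSpecialLinearGroup (Fin 2) K))) = 4 * n ∧
      ∀ z ∈ Subgroup.centralizer ({w} : Set (Multiplicative (ZMod 2) × Matrix.ProjectiveSpecialLinearGroup (Fin 2) K)),
        orderOf z ≠ 4 := by
    intro w hw
    have h1 : w.1 = 1 := by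
      have hwp : w ^ p = 1 := by rw [← hw]; exact pow_orderOf_eq_one w
      have h1p : w.1 ^ p = 1 := by
        have := congrArg Prod.fst hwp
        exact this
      have h12 : w.1 ^ 2 = 1 := by
        have : ∀ i : Multiplicative (ZMod 2), i ^ 2 = 1 := by decide
        exact this _
      have hcop : Nat.Coprime p 2 := (Nat.coprime_primes hp Nat.prime_two).mpr hp2
      have := orderOf_dvd_of_pow_eq_one h1p
      have h2 := orderOf_dvd_of_pow_eq_one h12
      have h3 : orderOf w.1 ∣ Nat.gcd p 2 := Nat.dvd_gcd this h2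
      rw [hcop] at h3
      exact orderOf_eq_one_iff.mp (Nat.dvd_one.mp h3)
    have hw2 : orderOf w.2 = p := by
      rw [← hw, Prod.orderOf, h1, orderOf_one, Nat.lcm_one_left]
    obtain ⟨hcyc, hcard⟩ := psl2_centralizer (F := K) (odd_card hK) p hp hp2 (by rw [hK]; exact hd) w.2 hw2
    have hcard' : Nat.card ↥(Subgroup.centralizer ({w.2} : Set (Matrix.ProjectiveSpecialLinearGroup (Fin 2) K))) =
        2 * n := by
      rw [hcard, hK]
      omega
    exact prod_centralizer w.2 n hnodd hcyc hcard' w rfl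
  -- an involution in `C(x)`
  have hcardC : Nat.card ↥(Subgroup.centralizer ({(⟨aa K m, aa_mem hK⟩ : ↥(twistedG2 K (3 ^ m)))} :
      Set ↥(twistedG2 K (3 ^ m)))) = 3 ^ (2 * m + 1) * ((3 ^ (2 * m + 1)) ^ 2 - 1) := by
    rw [Nat.card_congr ψ.toEquiv, card_prod_psl2 two_ne_zero', hK]
  obtain ⟨g, hg⟩ := exists_conj_mem p (Subgroup.centralizer ({(⟨aa K m, aa_mem hK⟩ : ↥(twistedG2 K (3 ^ m)))} :
      Set ↥(twistedG2 K (3 ^ m)))) (by rw [hcardC, card_twistedG2 hK, hv]) x hx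
  rw [Subgroup.mem_centralizer_singleton_iff] at hg
  obtain ⟨a', ha'⟩ : ∃ a' : ↥(twistedG2 K (3 ^ m)), a' = ⟨aa K m, aa_mem hK⟩ := ⟨_, rfl⟩
  rw [← ha'] at hg hconj ψ
  have hao : orderOf a' = 2 := by rw [ha']; exact hyp.ha
  have heo : orderOf (g⁻¹ * a' * g) = 2 := by
    have := orderOf_conj' g⁻¹ a'
    rw [inv_inv] at this
    rw [this, hao]
  have hex : g⁻¹ * a' * g * x = x * (g⁻¹ * a' * g) := by
    calc g⁻¹ * a' * g * x = g⁻¹ * (a' * (g * x * g⁻¹)) * g := by group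
      _ = g⁻¹ * (g * x * g⁻¹ * a') * g := by rw [hg]
      _ = x * (g⁻¹ * a' * g) := by group
  -- `3 ∤ |C(x)|`
  have h3 : ¬ 3 ∣ Nat.card ↥(Subgroup.centralizer ({x} : Set ↥(twistedG2 K (3 ^ m)))) := by
    intro h
    have : Fact (Nat.Prime 3) := ⟨Nat.prime_three⟩
    obtain ⟨y, hy⟩ := exists_prime_orderOf_dvd_card' 3 h
    have hy' : orderOf (y : ↥(twistedG2 K (3 ^ m))) = 3 := by rw [Subgroup.orderOf_coe]; exact hy
    have hxy : x * (y : ↥(twistedG2 K (3 ^ m))) = (y : ↥(twistedG2 K (3 ^ m))) * x :=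
      (Subgroup.mem_centralizer_singleton_iff.mp y.2).symm
    have h1 := no_three hK x y hy' hxy
    apply hnd
    rw [← hx]
    exact orderOf_dvd_of_pow_eq_one h1
  -- `8 ∤ |C(x)|`
  have h8 : ¬ 8 ∣ Nat.card ↥(Subgroup.centralizer ({x} : Set ↥(twistedG2 K (3 ^ m)))) := by
    intro h
    have : Fact (Nat.Prime 2) := ⟨Nat.prime_two⟩
    obtain ⟨S1, hS1⟩ := Sylow.exists_subgroup_card_pow_prime 2 (n := 3) (by norm_num; exact h)
    have hS8 : Nat.card ↥(S1.map (Subgroup.centralizer ({x} : Set ↥(twistedG2 K (3 ^ m)))).subtype) = 8 := by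
      rw [Nat.card_congr (S1.equivMapOfInjective _ (Subgroup.subtype_injective _)).symm.toEquiv, hS1]
      norm_num
    obtain ⟨P, hP⟩ := Cfsg.Agent.Lib.Helper65_ReeInv_THOMPSON.exists_sylow_eq _ hS8 h16
    have hcP := (sylow_two_normalizer hK hm P).1
    have hxS : x ∈ Subgroup.centralizer ((P : Subgroup ↥(twistedG2 K (3 ^ m))) : Set ↥(twistedG2 K (3 ^ m))) := by
      rw [Subgroup.mem_centralizer_iff]
      intro s hs
      rw [SetLike.mem_coe, hP] at hs
      obtain ⟨s1, -, rfl⟩ := hs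
      exact Subgroup.mem_centralizer_singleton_iff.mp s1.2
    rw [hcP, hP] at hxS
    have h1 : p ∣ 8 := by
      rw [← hx, ← hS8]
      exact Subgroup.orderOf_dvd_natCard _ hxS
    have h2 : p ∣ 2 := hp.dvd_of_dvd_pow (show p ∣ 2 ^ 3 by norm_num; exact h1)
    exact hp2 ((Nat.prime_dvd_prime_iff_eq hp Nat.prime_two).mp h2)
  have key := abs2 (Subgroup.centralizer ({x} : Set ↥(twistedG2 K (3 ^ m)))) n hnodd h3 h8
    ⟨g⁻¹ * a' * g, Subgroup.mem_centralizer_singleton_iff.mpr hex, heo⟩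
    (fun e he heo => transport_cent a' ψ p (4 * n) hQ hconj x hx e heo (Subgroup.mem_centralizer_singleton_iff.mp he))
  rw [h4n] at key
  exact key

end ree

end Cfsg.Agent.Lib.Helper37_ReeTorMain
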