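import Cfsg.Agent.Lib.Helper37_RHDefs
import Cfsg.Agent.Lib.Helper37_ReeTorMain

set_option autoImplicit false

/-!
# Helper37_RHBridge1: the action of the small Ree group on the cosets of `B¹` (REEHALL bridge, part 1)

The Borel subgroup `B¹ = U¹ H¹` has `q³ (q - 1)` elements, `Ω = G¹ / B¹` has `q³ + 1` points, the action is
2-transitive, the stabiliser of the two standard points is `H¹`, and the non-trivial elements of `U¹` fix only the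
standard point.
-/

namespace Cfsg.Agent.Lib.Helper37_RHBridge1

open Cfsg Cfsg.Lie Cfsg.Agent.Lib.Helper36_ReeFix Cfsg.Agent.Lib.Helper36_ReeBruhat
  Cfsg.Agent.Lib.Helper36_ReeH Cfsg.Agent.Lib.Helper36_ReePerf Cfsg.Agent.Lib.Helper36_ReeOrder
  Cfsg.Agent.Lib.Helper36_ReeBN Cfsg.Agent.Lib.Helper36_ReeSylow Cfsg.Agent.Lib.Helper36_ReeStab
  Cfsg.Agent.Lib.Helper36_ChevBorel Cfsg.Agent.Lib.Helper36_ChevTables Cfsg.Agent.Lib.Helper36_ReeTw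
  Cfsg.Agent.Lib.Helper37_ReeCentDefs Cfsg.Agent.Lib.Helper37_ReeTor_NO3 Cfsg.Agent.Lib.Helper37_ReeTorMain
  Cfsg.Agent.Lib.Helper37_RHDefs

open MulAction

variable {K : Type*} [Field K] [Fintype K] [CharP K 3] {m : ℕ} (hK : Fintype.card K = 3 ^ (2 * m + 1))

/-- `B¹` as a subgroup of the twisted group. -/
def B1 (K : Type*) [Field K] (m : ℕ) : Subgroup ↥(twistedG2 K (3 ^ m)) :=
  (chevG2.borelSubgroup K ⊓ twistedG2 K (3 ^ m)).subgroupOf (twistedG2 K (3 ^ m))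

/-- `U¹` as a subgroup of the twisted group. -/
def U1 (K : Type*) [Field K] (m : ℕ) : Subgroup ↥(twistedG2 K (3 ^ m)) :=
  (chevG2.posUnipotent K ⊓ twistedG2 K (3 ^ m)).subgroupOf (twistedG2 K (3 ^ m))

omit [Fintype K] [CharP K 3] in
theorem mem_B1 (z : ↥(twistedG2 K (3 ^ m))) :
    z ∈ B1 K m ↔ (z : GL chevG2.Idx K) ∈ chevG2.borelSubgroup K := by
  unfold B1
  rw [Subgroup.mem_subgroupOf, Subgroup.mem_inf]
  exact ⟨fun h => h.1, fun h => ⟨h, z.2⟩⟩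

omit [Fintype K] [CharP K 3] in
theorem mem_U1 (z : ↥(twistedG2 K (3 ^ m))) :
    z ∈ U1 K m ↔ (z : GL chevG2.Idx K) ∈ chevG2.posUnipotent K := by
  unfold U1
  rw [Subgroup.mem_subgroupOf, Subgroup.mem_inf]
  exact ⟨fun h => h.1, fun h => ⟨h, z.2⟩⟩

include hK in
/-- The elements of `B ∩ G¹` are the products `u h`. -/
theorem borel_cases (g : GL chevG2.Idx K) (hg : g ∈ twistedG2 K (3 ^ m)) (hB : g ∈ chevG2.borelSubgroup K) :
    ∃ u0 ∈ chevG2.posUnipotent K ⊓ twistedG2 K (3 ^ m), ∃ h0 ∈ chevG2.diagonalSubgroup K ⊓ twistedG2 K (3 ^ m),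
      g = u0 * h0 := by
  have hBle : chevG2.posUnipotent K ≤ chevG2.borelSubgroup K := le_sup_left
  have hHle : chevG2.diagonalSubgroup K ≤ chevG2.borelSubgroup K := le_sup_right
  rcases mem_cases hK g hg with ⟨u0, hu0, h0, hh0, e⟩ | ⟨u0, hu0, h0, hh0, u, hu, e⟩
  · exact ⟨u0, hu0, h0, hh0, e⟩
  · exfalso
    apply m0_not_borel hK
    have e2 : m0 hK = (u0 * h0)⁻¹ * g * u⁻¹ := by rw [e]; group
    rw [e2]
    exact Subgroup.mul_mem _ (Subgroup.mul_mem _ (Subgroup.inv_mem _ (Subgroup.mul_mem _ (hBle hu0.1) (hHle hh0.1))) hB)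
      (Subgroup.inv_mem _ (hBle hu.1))

include hK in
/-- `|B¹| = q³ (q - 1)`. -/
theorem card_B1 : Nat.card ↥(B1 K m) = (3 ^ (2 * m + 1)) ^ 3 * (3 ^ (2 * m + 1) - 1) := by
  have hUH := (Cfsg.Agent.S1036.result (F := K) chevG2 hD).2
  have hBle : chevG2.posUnipotent K ≤ chevG2.borelSubgroup K := le_sup_left
  have hHle : chevG2.diagonalSubgroup K ≤ chevG2.borelSubgroup K := le_sup_right
  let f : ↥(chevG2.posUnipotent K ⊓ twistedG2 K (3 ^ m)) × ↥(chevG2.diagonalSubgroup K ⊓ twistedG2 K (3 ^ m)) →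
      ↥(B1 K m) := fun a =>
    ⟨⟨(a.1 : GL chevG2.Idx K) * (a.2 : GL chevG2.Idx K), Subgroup.mul_mem _ a.1.2.2 a.2.2.2⟩,
      (mem_B1 _).mpr (Subgroup.mul_mem _ (hBle a.1.2.1) (hHle a.2.2.1))⟩
  have hf : Function.Bijective f := by
    constructor
    · rintro ⟨u0, h0⟩ ⟨u0', h0'⟩ e
      have e1 : (u0 : GL chevG2.Idx K) * (h0 : GL chevG2.Idx K) = (u0' : GL chevG2.Idx K) * (h0' : GL chevG2.Idx K) :=
        congrArg (fun z : ↥(B1 K m) => ((z : ↥(twistedG2 K (3 ^ m))) : GL chevG2.Idx K)) e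
      have h5 := @Subgroup.mul_injective_of_disjoint _ _ (chevG2.posUnipotent K) (chevG2.diagonalSubgroup K)
        (disjoint_iff.mpr hUH) (⟨u0.1, u0.2.1⟩, ⟨h0.1, h0.2.1⟩) (⟨u0'.1, u0'.2.1⟩, ⟨h0'.1, h0'.2.1⟩) e1
      have h6 : (u0 : GL chevG2.Idx K) = u0' :=
        congrArg (fun z : ↥(chevG2.posUnipotent K) × ↥(chevG2.diagonalSubgroup K) => (z.1 : GL chevG2.Idx K)) h5
      have h7 : (h0 : GL chevG2.Idx K) = h0' :=
        congrArg (fun z : ↥(chevG2.posUnipotent K) × ↥(chevG2.diagonalSubgroup K) => (z.2 : GL chevG2.Idx K)) h5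
      rw [Prod.mk.injEq]
      exact ⟨Subtype.ext h6, Subtype.ext h7⟩
    · rintro ⟨⟨g, hg⟩, hgB⟩
      obtain ⟨u0, hu0, h0, hh0, e⟩ := borel_cases hK g hg ((mem_B1 _).mp hgB)
      exact ⟨(⟨u0, hu0⟩, ⟨h0, hh0⟩), Subtype.ext (Subtype.ext e.symm)⟩
  rw [← Nat.card_congr (Equiv.ofBijective f hf), Nat.card_prod, card_U_inf hK, card_diag_inf hK]

include hK in
/-- `|Ω| = q³ + 1`. -/
theorem card_Om : Nat.card (↥(twistedG2 K (3 ^ m)) ⧸ B1 K m) = (3 ^ (2 * m + 1)) ^ 3 + 1 := by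
  have h1 := Subgroup.index_mul_card (B1 K m)
  rw [card_B1 hK, card_twistedG2 hK] at h1
  have h2 : (B1 K m).index = Nat.card (↥(twistedG2 K (3 ^ m)) ⧸ B1 K m) := rfl
  rw [← h2]
  have hpos : 0 < (3 ^ (2 * m + 1)) ^ 3 * (3 ^ (2 * m + 1) - 1) := by
    apply Nat.mul_pos (by positivity)
    have : 3 ^ 1 ≤ 3 ^ (2 * m + 1) := Nat.pow_le_pow_right (by norm_num) (by omega)
    omega
  apply Nat.eq_of_mul_eq_mul_right hpos
  rw [h1]
  ring

/-- The chosen monomial element as an element of the twisted group. -/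
noncomputable def m0' : ↥(twistedG2 K (3 ^ m)) := ⟨m0 hK, m0_mem hK⟩

include hK in
/-- Two distinct points can be moved to the two standard points. -/
theorem move_pair (x y : ↥(twistedG2 K (3 ^ m)) ⧸ B1 K m) (hxy : x ≠ y) :
    ∃ d : ↥(twistedG2 K (3 ^ m)), d • x = QuotientGroup.mk 1 ∧ d • y = QuotientGroup.mk (m0' hK) := by
  have hBle : chevG2.posUnipotent K ≤ chevG2.borelSubgroup K := le_sup_left
  have hHle : chevG2.diagonalSubgroup K ≤ chevG2.borelSubgroup K := le_sup_right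
  obtain ⟨a, rfl⟩ := QuotientGroup.mk_surjective x
  obtain ⟨b, rfl⟩ := QuotientGroup.mk_surjective y
  have hab : (a : GL chevG2.Idx K)⁻¹ * (b : GL chevG2.Idx K) ∉ chevG2.borelSubgroup K := by
    intro h
    apply hxy
    rw [QuotientGroup.eq, mem_B1]
    exact h
  rcases mem_cases hK _ (Subgroup.mul_mem _ (Subgroup.inv_mem _ a.2) b.2) with
    ⟨u0, hu0, h0, hh0, e⟩ | ⟨u0, hu0, h0, hh0, u, hu, e⟩
  · exfalso
    apply hab
    rw [e]
    exact Subgroup.mul_mem _ (hBle hu0.1) (hHle hh0.1)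
  refine ⟨⟨u0, hu0.2⟩⁻¹ * a⁻¹, ?_, ?_⟩
  · rw [MulAction.Quotient.smul_mk, smul_eq_mul, QuotientGroup.eq, mem_B1]
    have e2 : (((⟨u0, hu0.2⟩⁻¹ * a⁻¹ * a)⁻¹ * 1 : ↥(twistedG2 K (3 ^ m))) : GL chevG2.Idx K) = u0 := by
      simp
    rw [e2]
    exact hBle hu0.1
  · rw [MulAction.Quotient.smul_mk, smul_eq_mul, QuotientGroup.eq, mem_B1]
    have e2 : (((⟨u0, hu0.2⟩⁻¹ * a⁻¹ * b)⁻¹ * m0' hK : ↥(twistedG2 K (3 ^ m))) : GL chevG2.Idx K) =
        (((m0 hK)⁻¹ * h0 * m0 hK) * u)⁻¹ := by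
      have e3 : ((⟨u0, hu0.2⟩⁻¹ * a⁻¹ * b : ↥(twistedG2 K (3 ^ m))) : GL chevG2.Idx K) =
          u0⁻¹ * ((a : GL chevG2.Idx K)⁻¹ * (b : GL chevG2.Idx K)) := by
        simp [mul_assoc]
      rw [Subgroup.coe_mul, Subgroup.coe_inv, e3, e]
      show _ * m0 hK = _
      group
    rw [e2]
    exact Subgroup.inv_mem _ (Subgroup.mul_mem _ (hHle (m0_inv_conj_H hK _ hh0.1)) (hBle hu.1))

include hK in
/-- The action on the cosets of `B¹` is 2-transitive. -/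
theorem two_trans (x y x' y' : ↥(twistedG2 K (3 ^ m)) ⧸ B1 K m) (hxy : x ≠ y) (hxy' : x' ≠ y') :
    ∃ g : ↥(twistedG2 K (3 ^ m)), g • x = x' ∧ g • y = y' := by
  obtain ⟨d, hd1, hd2⟩ := move_pair hK x y hxy
  obtain ⟨d', hd1', hd2'⟩ := move_pair hK x' y' hxy'
  refine ⟨d'⁻¹ * d, ?_, ?_⟩
  · rw [mul_smul, hd1, ← hd1', inv_smul_smul]
  · rw [mul_smul, hd2, ← hd2', inv_smul_smul]

include hK in
/-- The stabiliser of the two standard points is `H¹`. -/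
theorem stab_two_eq : stabilizer ↥(twistedG2 K (3 ^ m)) (QuotientGroup.mk 1 : ↥(twistedG2 K (3 ^ m)) ⧸ B1 K m) ⊓
    stabilizer ↥(twistedG2 K (3 ^ m)) (QuotientGroup.mk (m0' hK) : ↥(twistedG2 K (3 ^ m)) ⧸ B1 K m) = H1 K m := by
  have hHle : chevG2.diagonalSubgroup K ≤ chevG2.borelSubgroup K := le_sup_right
  ext g
  rw [Subgroup.mem_inf]
  have e1 := mem_stab (K := K) (m := m) g 1
  have e2 := mem_stab (K := K) (m := m) g (m0' hK)
  unfold B1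
  rw [e1, e2, mem_H1]
  have c1 : ((1 : ↥(twistedG2 K (3 ^ m))) : GL chevG2.Idx K)⁻¹ * (g : GL chevG2.Idx K) *
      ((1 : ↥(twistedG2 K (3 ^ m))) : GL chevG2.Idx K) = g := by simp
  have c2 : ((m0' hK : ↥(twistedG2 K (3 ^ m))) : GL chevG2.Idx K) = m0 hK := rfl
  rw [c1, c2]
  constructor
  · rintro ⟨h1, h2⟩
    refine ⟨?_, g.2⟩
    have hc : (m0 hK)⁻¹ * (g : GL chevG2.Idx K) * m0 hK ∈ twistedG2 K (3 ^ m) :=
      Subgroup.mul_mem _ (Subgroup.mul_mem _ (Subgroup.inv_mem _ (m0_mem hK)) g.2) (m0_mem hK)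
    have h3 : m0 hK * ((m0 hK)⁻¹ * (g : GL chevG2.Idx K) * m0 hK) * (m0 hK)⁻¹ = g := by group
    have h4 := diag_of_conj hK _ hc h2 (by rw [h3]; exact h1)
    have h5 := (Subgroup.mem_normalizer_iff.mp (Cfsg.Agent.Lib.Helper36_ChevCore.monomial_le_normalizer chevG2 K (hfK K) (m0_mono hK)) _).mp h4
    rw [h3] at h5
    exact h5
  · rintro ⟨h1, -⟩
    exact ⟨hHle h1, hHle (m0_inv_conj_H hK _ h1)⟩

include hK in
theorem stab2 : ∃ x y : ↥(twistedG2 K (3 ^ m)) ⧸ B1 K m, x ≠ y ∧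
    IsCyclic ↥(stabilizer ↥(twistedG2 K (3 ^ m)) x ⊓ stabilizer ↥(twistedG2 K (3 ^ m)) y) ∧
    Nat.card ↥(stabilizer ↥(twistedG2 K (3 ^ m)) x ⊓ stabilizer ↥(twistedG2 K (3 ^ m)) y) = Q m - 1 := by
  refine ⟨QuotientGroup.mk 1, QuotientGroup.mk (m0' hK), ?_, ?_, ?_⟩
  · intro h
    rw [QuotientGroup.eq, mem_B1] at h
    apply m0_not_borel hK
    have : (((1 : ↥(twistedG2 K (3 ^ m)))⁻¹ * m0' hK : ↥(twistedG2 K (3 ^ m))) : GL chevG2.Idx K) = m0 hK := by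
      simp [m0']
    rw [this] at h
    exact h
  · rw [stab_two_eq hK]
    exact cyclic_H1 hK
  · rw [stab_two_eq hK]
    exact card_H1 hK

include hK in
/-- A 3-element of `B ⊓ G¹` lies in `U`. -/
theorem three_elt_borel (w : GL chevG2.Idx K) (hw : w ∈ twistedG2 K (3 ^ m)) (hwB : w ∈ chevG2.borelSubgroup K)
    (h3 : w ^ ((3 ^ (2 * m + 1)) ^ 3) = 1) : w ∈ chevG2.posUnipotent K := by
  have hUH := (Cfsg.Agent.S1036.result (F := K) chevG2 hD).2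
  obtain ⟨u0, hu0, h0, hh0, e⟩ := borel_cases hK w hw hwB
  have hpow : ∀ k : ℕ, ∃ u ∈ chevG2.posUnipotent K ⊓ twistedG2 K (3 ^ m), w ^ k = u * h0 ^ k := by
    intro k
    induction k with
    | zero => exact ⟨1, Subgroup.one_mem _, by simp⟩
    | succ k ih =>
      obtain ⟨u, hu, hk⟩ := ih
      have hh0k : h0 ^ k ∈ chevG2.diagonalSubgroup K ⊓ twistedG2 K (3 ^ m) := Subgroup.pow_mem _ hh0 k
      refine ⟨u * (h0 ^ k * u0 * (h0 ^ k)⁻¹), Subgroup.mul_mem _ hu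
        ⟨diag_conj_U _ hh0k.1 _ hu0.1,
          Subgroup.mul_mem _ (Subgroup.mul_mem _ hh0k.2 hu0.2) (Subgroup.inv_mem _ hh0k.2)⟩, ?_⟩
      rw [pow_succ, hk, pow_succ]
      nth_rewrite 1 [e]
      group
  obtain ⟨u, hu, hk⟩ := hpow ((3 ^ (2 * m + 1)) ^ 3)
  rw [h3] at hk
  -- `h0 ^ q³ ∈ U ⊓ H = ⊥`
  have h1 : h0 ^ ((3 ^ (2 * m + 1)) ^ 3) = 1 := by
    have h2 : h0 ^ ((3 ^ (2 * m + 1)) ^ 3) = u⁻¹ :=
      (eq_inv_of_mul_eq_one_right hk.symm)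
    have h4 : h0 ^ ((3 ^ (2 * m + 1)) ^ 3) ∈ chevG2.posUnipotent K ⊓ chevG2.diagonalSubgroup K :=
      ⟨by rw [h2]; exact Subgroup.inv_mem _ hu.1, Subgroup.pow_mem _ hh0.1 _⟩
    rw [hUH, Subgroup.mem_bot] at h4
    exact h4
  have h5 : h0 ^ (3 ^ (2 * m + 1) - 1) = 1 := by
    have := pow_card_eq_one' (G := ↥(chevG2.diagonalSubgroup K ⊓ twistedG2 K (3 ^ m))) (x := ⟨h0, hh0⟩)
    rw [card_diag_inf hK] at this
    exact congrArg Subtype.val this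
  have h6 : orderOf h0 ∣ Nat.gcd ((3 ^ (2 * m + 1)) ^ 3) (3 ^ (2 * m + 1) - 1) :=
    Nat.dvd_gcd (orderOf_dvd_of_pow_eq_one h1) (orderOf_dvd_of_pow_eq_one h5)
  have h7 : Nat.gcd ((3 ^ (2 * m + 1)) ^ 3) (3 ^ (2 * m + 1) - 1) = 1 := by
    apply Nat.Coprime.pow_left
    have hq : 1 ≤ 3 ^ (2 * m + 1) := Nat.one_le_pow _ _ (by norm_num)
    have : Nat.Coprime (3 ^ (2 * m + 1) - 1 + 1) (3 ^ (2 * m + 1) - 1) := by
      rw [Nat.coprime_self_add_left]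
      exact Nat.coprime_one_left _
    rwa [Nat.sub_add_cancel hq] at this
  rw [h7, Nat.dvd_one, orderOf_eq_one_iff] at h6
  rw [e, h6, mul_one]
  exact hu0.1

include hK in
theorem unip :
    Nat.card ↥(U1 K m) = (Q m) ^ 3 ∧
    U1 K m ≤ stabilizer ↥(twistedG2 K (3 ^ m)) (QuotientGroup.mk 1 : ↥(twistedG2 K (3 ^ m)) ⧸ B1 K m) ∧
    (∀ b ∈ stabilizer ↥(twistedG2 K (3 ^ m)) (QuotientGroup.mk 1 : ↥(twistedG2 K (3 ^ m)) ⧸ B1 K m),
      ∀ u ∈ U1 K m, b * u * b⁻¹ ∈ U1 K m) ∧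
    (∀ u ∈ U1 K m, u ≠ 1 → ∀ x : ↥(twistedG2 K (3 ^ m)) ⧸ B1 K m, u • x = x →
      x = (QuotientGroup.mk 1 : ↥(twistedG2 K (3 ^ m)) ⧸ B1 K m)) := by
  have hBle : chevG2.posUnipotent K ≤ chevG2.borelSubgroup K := le_sup_left
  have hst : ∀ g : ↥(twistedG2 K (3 ^ m)),
      g ∈ stabilizer ↥(twistedG2 K (3 ^ m)) (QuotientGroup.mk 1 : ↥(twistedG2 K (3 ^ m)) ⧸ B1 K m) ↔
        (g : GL chevG2.Idx K) ∈ chevG2.borelSubgroup K := by
    intro g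
    have e1 := mem_stab (K := K) (m := m) g 1
    unfold B1
    rw [e1]
    have c1 : ((1 : ↥(twistedG2 K (3 ^ m))) : GL chevG2.Idx K)⁻¹ * (g : GL chevG2.Idx K) *
        ((1 : ↥(twistedG2 K (3 ^ m))) : GL chevG2.Idx K) = g := by simp
    rw [c1]
  refine ⟨?_, ?_, ?_, ?_⟩
  · unfold U1
    rw [card_U1 hK, ← pow_mul, mul_comm]
  · intro u hu
    rw [hst]
    exact hBle ((mem_U1 u).mp hu)
  · intro b hb u hu
    rw [mem_U1] at hu ⊢
    rw [hst] at hb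
    exact (borel_conj_U _ hb _).mp hu
  · intro u hu hu1 x hx
    obtain ⟨a, rfl⟩ := QuotientGroup.mk_surjective x
    have h1 : (a : GL chevG2.Idx K)⁻¹ * (u : GL chevG2.Idx K) * (a : GL chevG2.Idx K) ∈ chevG2.borelSubgroup K := by
      have := (mem_stab (K := K) (m := m) u a).mp (by
        unfold B1 at hx
        exact MulAction.mem_stabilizer_iff.mpr hx)
      exact this
    rw [mem_U1] at hu
    -- the conjugate is a 3-element of `B`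
    have hG : (a : GL chevG2.Idx K)⁻¹ * (u : GL chevG2.Idx K) * (a : GL chevG2.Idx K) ∈ twistedG2 K (3 ^ m) :=
      Subgroup.mul_mem _ (Subgroup.mul_mem _ (Subgroup.inv_mem _ a.2) u.2) a.2
    have hu3 : (u : GL chevG2.Idx K) ^ ((3 ^ (2 * m + 1)) ^ 3) = 1 := by
      have := pow_card_eq_one' (G := ↥(chevG2.posUnipotent K ⊓ twistedG2 K (3 ^ m))) (x := ⟨u, ⟨hu, u.2⟩⟩)
      rw [card_U_inf hK] at this
      exact congrArg Subtype.val this
    have h3 : ((a : GL chevG2.Idx K)⁻¹ * (u : GL chevG2.Idx K) * (a : GL chevG2.Idx K)) ^ ((3 ^ (2 * m + 1)) ^ 3) = 1 := by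
      have e : (a : GL chevG2.Idx K)⁻¹ * (u : GL chevG2.Idx K) * (a : GL chevG2.Idx K) =
          (a : GL chevG2.Idx K)⁻¹ * (u : GL chevG2.Idx K) * ((a : GL chevG2.Idx K)⁻¹)⁻¹ := by rw [inv_inv]
      rw [e, conj_pow, hu3]
      group
    have hU := three_elt_borel hK _ hG h1 h3
    -- `a ∈ B`
    by_contra hne
    have haB : (a : GL chevG2.Idx K)⁻¹ ∉ chevG2.borelSubgroup K := by
      intro h
      apply hne
      rw [QuotientGroup.eq, mem_B1]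
      have : ((a⁻¹ * 1 : ↥(twistedG2 K (3 ^ m))) : GL chevG2.Idx K) = (a : GL chevG2.Idx K)⁻¹ := by simp
      rw [this]
      exact h
    apply hu1
    apply Subtype.ext
    apply conj_U_trivial hK _ (Subgroup.inv_mem _ a.2) haB _ hu
    rw [inv_inv]
    exact hU

end Cfsg.Agent.Lib.Helper37_RHBridge1
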