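import Cfsg.Agent.Lib.Helper37_RHBridge1
import Cfsg.Agent.Lib.Helper36_ReeCube
import Cfsg.Agent.S1153

set_option autoImplicit false

/-!
# Helper37_RHBridge2: the elements of `U¹` and the three-point stabilisers (REEHALL bridge, part 2)

The elements of `U¹` have order dividing 9, `q² - 1` of them have order 3, and the three-point stabilisers of the action
on the cosets of `B¹` have order at most 2.
-/

namespace Cfsg.Agent.Lib.Helper37_RHBridge2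

open Cfsg Cfsg.Lie Cfsg.Agent.Lib.Helper36_ReeFix Cfsg.Agent.Lib.Helper36_ReeCube Cfsg.Agent.Lib.Helper36_ReeCubeAlg
  Cfsg.Agent.Lib.Helper36_ReeSetup Cfsg.Agent.Lib.Helper36_ReeAlg
  Cfsg.Agent.Lib.Helper37_RHDefs Cfsg.Agent.Lib.Helper37_RHBridge1

open MulAction

variable {K : Type*} [Field K] [Fintype K] [CharP K 3] {m : ℕ} (hK : Fintype.card K = 3 ^ (2 * m + 1))

/-- The ninth power of a fixed element of `U` is trivial. -/
theorem W_pow_nine (t u v : K) : ((posSys hK).W t u v) ^ 9 = 1 := by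
  have e : (9 : ℕ) = 3 * 3 := rfl
  rw [e, pow_mul, W_cube (posRel hK), N_cube (posRel hK)]
  have z1 : ((1 : K) - 2 * (posSys hK).ε) * (0 : K) ^ 2 * 0 = 0 := by ring
  have z2 : (-1 : K) * (posSys hK).ε * (0 : K) ^ 3 * 0 ^ 2 = 0 := by ring
  rw [z1, z2]
  exact N_zero

include hK in
theorem pow_nine : ∀ u ∈ U1 K m, u ^ 9 = 1 := by
  intro u hu
  rw [mem_U1] at hu
  obtain ⟨t, a, b, e⟩ := (mem_U_inf hK _).mp ⟨hu, u.2⟩
  apply Subtype.ext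
  rw [Subgroup.coe_pow, e, ← Subgroup.coe_pow, W_pow_nine hK]
  rfl

include hK in
theorem card_three : Nat.card {u : ↥(U1 K m) // orderOf u = 3} = (Q m) ^ 2 - 1 := by
  rw [← card_order_three hK]
  have hle : chevG2.posUnipotent K ⊓ twistedG2 K (3 ^ m) ≤ twistedG2 K (3 ^ m) := inf_le_right
  let e : ↥(U1 K m) ≃* ↥(chevG2.posUnipotent K ⊓ twistedG2 K (3 ^ m)) := Subgroup.subgroupOfEquivOfLe hle
  exact Nat.card_congr (Equiv.subtypeEquiv e.toEquiv (fun u => by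
    show orderOf u = 3 ↔ orderOf (e u) = 3
    rw [e.orderOf_eq]))

include hK in
theorem unip_full : ∃ (o : ↥(twistedG2 K (3 ^ m)) ⧸ B1 K m) (U : Subgroup ↥(twistedG2 K (3 ^ m))),
    Nat.card U = (Q m) ^ 3 ∧ U ≤ stabilizer ↥(twistedG2 K (3 ^ m)) o ∧
    (∀ b ∈ stabilizer ↥(twistedG2 K (3 ^ m)) o, ∀ u ∈ U, b * u * b⁻¹ ∈ U) ∧
    (∀ u ∈ U, u ≠ 1 → ∀ x : ↥(twistedG2 K (3 ^ m)) ⧸ B1 K m, u • x = x → x = o) ∧ (∀ u ∈ U, u ^ 9 = 1) ∧
    Nat.card {u : U // orderOf u = 3} = (Q m) ^ 2 - 1 := by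
  obtain ⟨h1, h2, h3, h4⟩ := unip hK
  exact ⟨QuotientGroup.mk 1, U1 K m, h1, h2, h3, h4, pow_nine hK, card_three hK⟩

omit [CharP K 3] in
include hK in
theorem stab3_le : ∀ x y z : ↥(twistedG2 K (3 ^ m)) ⧸ B1 K m, x ≠ y → x ≠ z → y ≠ z →
    Nat.card ↥(stabilizer ↥(twistedG2 K (3 ^ m)) x ⊓ stabilizer ↥(twistedG2 K (3 ^ m)) y ⊓
      stabilizer ↥(twistedG2 K (3 ^ m)) z) ≤ 2 :=
  (Cfsg.Agent.S1153.result hK).1

omit [CharP K 3] in
include hK in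
theorem stab3_ex : ∃ x y z : ↥(twistedG2 K (3 ^ m)) ⧸ B1 K m, x ≠ y ∧ x ≠ z ∧ y ≠ z ∧
    Nat.card ↥(stabilizer ↥(twistedG2 K (3 ^ m)) x ⊓ stabilizer ↥(twistedG2 K (3 ^ m)) y ⊓
      stabilizer ↥(twistedG2 K (3 ^ m)) z) = 2 :=
  (Cfsg.Agent.S1153.result hK).2

end Cfsg.Agent.Lib.Helper37_RHBridge2
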