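import Mathlib

set_option autoImplicit false

/-!
# Helper37_RHInvolAbs: consequences of `C(a) ≃* Z₂ × P` (REEHALL bridge)

Let `a` be an involution of a group `G` with `ψ : C(a) ≃* Z₂ × P`, where the involutions of `P` have centralisers of
order `c ≠ |P|`.  Then `|C(a)| = 2 |P|`, the involutions `t ≠ a` of `C(a)` have `|C(a) ∩ C(t)| = 2 c`, and the
`3`-elements of `C(a)` have the exponent of those of `P`.
-/

namespace Cfsg.Agent.Lib.Helper37_RHInvolAbs

open Subgroup

theorem zmod2_cases : ∀ z : Multiplicative (ZMod 2), z = 1 ∨ z = Multiplicative.ofAdd 1 := by decide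

theorem zmod2_cube : ∀ z : Multiplicative (ZMod 2), z ^ 3 = z := by decide

theorem card_zmod2 : Nat.card (Multiplicative (ZMod 2)) = 2 := by
  rw [Nat.card_eq_fintype_card, Fintype.card_multiplicative, ZMod.card]

theorem zmod2_pow (z : Multiplicative (ZMod 2)) (k : ℕ) : z ^ 3 ^ k = z := by
  induction k with
  | zero => simp
  | succ k ih => rw [pow_succ, pow_mul, ih, zmod2_cube]

theorem mem_cent {G : Type*} [Group G] {x z : G} : z ∈ centralizer ({x} : Set G) ↔ x * z = z * x := by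
  rw [mem_centralizer_iff]
  constructor
  · intro h
    exact h x rfl
  · intro h y hy
    rw [Set.mem_singleton_iff] at hy
    rw [hy]
    exact h

theorem prod_cent {L : Type*} [Group L] (w : Multiplicative (ZMod 2) × L) :
    centralizer ({w} : Set (Multiplicative (ZMod 2) × L)) =
      (⊤ : Subgroup (Multiplicative (ZMod 2))).prod (centralizer ({w.2} : Set L)) := by
  ext z
  rw [mem_cent, Subgroup.mem_prod, mem_cent]
  constructor
  · intro h
    exact ⟨Subgroup.mem_top _, congrArg Prod.snd h⟩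
  · intro h
    apply Prod.ext
    · exact mul_comm _ _
    · exact h.2

variable {G : Type*} [Group G] {P : Type*} [Group P] (a : G)
  (ψ : ↥(centralizer ({a} : Set G)) ≃* Multiplicative (ZMod 2) × P)

include ψ in
/-- `|C(a)| = 2 |P|`. -/
theorem card_cent : Nat.card ↥(centralizer ({a} : Set G)) = 2 * Nat.card P := by
  rw [Nat.card_congr ψ.toEquiv, Nat.card_prod, card_zmod2]


include ψ in
/-- The `3`-elements of `C(a)`. -/
theorem three_elt (hP3 : ∀ (u : P) (k : ℕ), u ^ 3 ^ k = 1 → u ^ 3 = 1) :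
    ∀ u ∈ centralizer ({a} : Set G), ∀ k : ℕ, u ^ 3 ^ k = 1 → u ^ 3 = 1 := by
  intro u hu k hk
  have h1 : (⟨u, hu⟩ : ↥(centralizer ({a} : Set G))) ^ 3 ^ k = 1 := Subtype.ext hk
  have h2 : (ψ ⟨u, hu⟩) ^ 3 ^ k = 1 := by rw [← map_pow, h1, map_one]
  have h3 : (ψ ⟨u, hu⟩).1 ^ 3 ^ k = 1 := congrArg Prod.fst h2
  have h4 : (ψ ⟨u, hu⟩).2 ^ 3 ^ k = 1 := congrArg Prod.snd h2
  rw [zmod2_pow] at h3
  have h5 := hP3 _ k h4
  have h6 : (ψ ⟨u, hu⟩) ^ 3 = 1 := by
    apply Prod.ext
    · show (ψ ⟨u, hu⟩).1 ^ 3 = 1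
      rw [h3, one_pow]
    · exact h5
  have h7 : (⟨u, hu⟩ : ↥(centralizer ({a} : Set G))) ^ 3 = 1 := by
    apply ψ.injective
    rw [map_pow, h6, map_one]
  exact congrArg Subtype.val h7

include ψ in
/-- The centralisers of the involutions of `C(a)` other than `a`. -/
theorem card_cent_inf (ha : orderOf a = 2) (c : ℕ)
    (hP2 : ∀ l : P, orderOf l = 2 → Nat.card ↥(centralizer ({l} : Set P)) = c) (hc : Nat.card P ≠ c) :
    ∀ t ∈ centralizer ({a} : Set G), orderOf t = 2 → t ≠ a →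
      Nat.card ↥(centralizer ({a} : Set G) ⊓ centralizer ({t} : Set G)) = 2 * c := by
  have : Fact (Nat.Prime 2) := ⟨Nat.prime_two⟩
  intro t ht ht2 hta
  have haa : a ∈ centralizer ({a} : Set G) := mem_cent.mpr rfl
  have ha2 : a ^ 2 = 1 := by rw [← ha]; exact pow_orderOf_eq_one a
  have ha1 : a ≠ 1 := by
    intro h
    rw [h, orderOf_one] at ha
    omega
  have ht2' : t ^ 2 = 1 := by rw [← ht2]; exact pow_orderOf_eq_one t
  have ht1 : t ≠ 1 := by
    intro h
    rw [h, orderOf_one] at ht2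
    omega
  -- `ψ a = (z₀, 1)`
  have hl0 : (ψ ⟨a, haa⟩).2 = 1 := by
    by_contra hne
    have h1 : (ψ ⟨a, haa⟩) ^ 2 = 1 := by
      rw [← map_pow]
      have : (⟨a, haa⟩ : ↥(centralizer ({a} : Set G))) ^ 2 = 1 := Subtype.ext ha2
      rw [this, map_one]
    have h2 : (ψ ⟨a, haa⟩).2 ^ 2 = 1 := congrArg Prod.snd h1
    have h3 : orderOf (ψ ⟨a, haa⟩).2 = 2 := orderOf_eq_prime h2 hne
    have h4 := hP2 _ h3
    have h5 : centralizer ({(ψ ⟨a, haa⟩).2} : Set P) = ⊤ := by
      rw [eq_top_iff]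
      intro y _
      rw [mem_cent]
      -- `a` is central in `C(a)`
      have h6 : (⟨a, haa⟩ : ↥(centralizer ({a} : Set G))) * ψ.symm (1, y) = ψ.symm (1, y) * ⟨a, haa⟩ := by
        apply Subtype.ext
        exact mem_cent.mp (ψ.symm (1, y)).2
      have h7 := congrArg ψ h6
      rw [map_mul, map_mul, MulEquiv.apply_symm_apply] at h7
      exact congrArg Prod.snd h7
    rw [h5, Nat.card_congr (Subgroup.topEquiv (G := P)).toEquiv] at h4
    exact hc h4
  have hz0 : (ψ ⟨a, haa⟩).1 ≠ 1 := by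
    intro h
    apply ha1
    have : ψ ⟨a, haa⟩ = 1 := Prod.ext h hl0
    rw [← map_one ψ] at this
    exact congrArg Subtype.val (ψ.injective this)
  -- `ψ t = (z, l)` with `l` an involution
  have hl : (ψ ⟨t, ht⟩).2 ≠ 1 := by
    intro hl
    rcases zmod2_cases (ψ ⟨t, ht⟩).1 with hz | hz
    · apply ht1
      have : ψ ⟨t, ht⟩ = 1 := Prod.ext hz hl
      rw [← map_one ψ] at this
      exact congrArg Subtype.val (ψ.injective this)
    · apply hta
      rcases zmod2_cases (ψ ⟨a, haa⟩).1 with hz' | hz'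
      · exact absurd hz' hz0
      · have : ψ ⟨t, ht⟩ = ψ ⟨a, haa⟩ := Prod.ext (by rw [hz, hz']) (by rw [hl, hl0])
        exact congrArg Subtype.val (ψ.injective this)
  have hl2 : orderOf (ψ ⟨t, ht⟩).2 = 2 := by
    apply orderOf_eq_prime _ hl
    have h1 : (ψ ⟨t, ht⟩) ^ 2 = 1 := by
      rw [← map_pow]
      have : (⟨t, ht⟩ : ↥(centralizer ({a} : Set G))) ^ 2 = 1 := Subtype.ext ht2'
      rw [this, map_one]
    exact congrArg Prod.snd h1
  -- the three identifications
  have e1 : Nat.card ↥(centralizer ({a} : Set G) ⊓ centralizer ({t} : Set G)) =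
      Nat.card ↥(centralizer ({(⟨t, ht⟩ : ↥(centralizer ({a} : Set G)))} : Set ↥(centralizer ({a} : Set G)))) := by
    have hle : centralizer ({a} : Set G) ⊓ centralizer ({t} : Set G) ≤ centralizer ({a} : Set G) := inf_le_left
    rw [← Nat.card_congr (Subgroup.subgroupOfEquivOfLe hle).toEquiv]
    apply Nat.card_congr
    apply Equiv.subtypeEquiv (Equiv.refl _)
    intro x
    show x ∈ (centralizer ({a} : Set G) ⊓ centralizer ({t} : Set G)).subgroupOf (centralizer ({a} : Set G)) ↔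
      x ∈ centralizer ({(⟨t, ht⟩ : ↥(centralizer ({a} : Set G)))} : Set ↥(centralizer ({a} : Set G)))
    rw [Subgroup.mem_subgroupOf, Subgroup.mem_inf, mem_cent, mem_cent, mem_cent]
    constructor
    · rintro ⟨-, h⟩
      exact Subtype.ext h
    · intro h
      exact ⟨mem_cent.mp x.2, congrArg Subtype.val h⟩
  have e2 : Nat.card ↥(centralizer ({(⟨t, ht⟩ : ↥(centralizer ({a} : Set G)))} : Set ↥(centralizer ({a} : Set G)))) =
      Nat.card ↥(centralizer ({ψ ⟨t, ht⟩} : Set (Multiplicative (ZMod 2) × P))) := by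
    apply Nat.card_congr
    apply Equiv.subtypeEquiv ψ.toEquiv
    intro x
    show x ∈ centralizer ({(⟨t, ht⟩ : ↥(centralizer ({a} : Set G)))} : Set ↥(centralizer ({a} : Set G))) ↔
      ψ x ∈ centralizer ({ψ ⟨t, ht⟩} : Set (Multiplicative (ZMod 2) × P))
    rw [mem_cent, mem_cent, ← map_mul, ← map_mul]
    exact ⟨fun h => congrArg ψ h, fun h => ψ.injective h⟩
  rw [e1, e2, prod_cent, Nat.card_congr (Subgroup.prodEquiv _ _).toEquiv, Nat.card_prod,
    Nat.card_congr (Subgroup.topEquiv (G := Multiplicative (ZMod 2))).toEquiv, hP2 _ hl2, card_zmod2]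

end Cfsg.Agent.Lib.Helper37_RHInvolAbs
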