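import Cfsg.Agent.S2429

set_option autoImplicit false

/-!
PKG PSL2CENT of helper37's `reetor_packages` (for S2359): in `PSL₂(F)`, `|F| = q` odd, the centraliser of an element of odd
prime order `p ∣ q + 1` is cyclic of order `(q + 1)/2`.
-/

namespace Cfsg.Agent.Lib.Helper61_ReeTor_PSL2CENT

open Matrix Subgroup

/-- Conjugation is an isomorphism between the centralisers of `a` and of `g a g⁻¹`. -/
theorem cent_conj_equiv {G : Type*} [Group G] (a g : G) :
    Nonempty (↥(centralizer ({a} : Set G)) ≃* ↥(centralizer ({g * a * g⁻¹} : Set G))) := by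
  refine ⟨{ toFun := fun x => ⟨g * x * g⁻¹, ?_⟩
            invFun := fun x => ⟨g⁻¹ * x * g, ?_⟩
            left_inv := ?_
            right_inv := ?_
            map_mul' := ?_ }⟩
  · have hx := mem_centralizer_singleton_iff.mp x.2
    rw [mem_centralizer_singleton_iff]
    have e1 : g * (x : G) * g⁻¹ * (g * a * g⁻¹) = g * ((x : G) * a) * g⁻¹ := by group
    have e2 : g * a * g⁻¹ * (g * (x : G) * g⁻¹) = g * (a * (x : G)) * g⁻¹ := by group
    rw [e1, e2, hx]
  · have hx := mem_centralizer_singleton_iff.mp x.2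
    rw [mem_centralizer_singleton_iff]
    have e1 : g⁻¹ * (x : G) * g * a = g⁻¹ * ((x : G) * (g * a * g⁻¹)) * g := by group
    have e2 : a * (g⁻¹ * (x : G) * g) = g⁻¹ * ((g * a * g⁻¹) * (x : G)) * g := by group
    rw [e1, e2, hx]
  · intro x
    apply Subtype.ext
    show g⁻¹ * (g * (x : G) * g⁻¹) * g = x
    group
  · intro x
    apply Subtype.ext
    show g * (g⁻¹ * (x : G) * g) * g⁻¹ = x
    group
  · intro x y
    apply Subtype.ext
    show g * ((x : G) * (y : G)) * g⁻¹ = g * (x : G) * g⁻¹ * (g * (y : G) * g⁻¹)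
    group

variable {F : Type*} [Field F] [Fintype F]

theorem two_ne_zero_of_odd (hodd : Odd (Fintype.card F)) : (2 : F) ≠ 0 := by
  obtain ⟨k, hk⟩ := hodd
  have h := Nat.cast_card_eq_zero F
  rw [hk] at h
  push_cast at h
  intro h2
  rw [h2] at h
  simp at h

theorem neg_one_ne_one_of_odd (hodd : Odd (Fintype.card F)) : (-1 : F) ≠ 1 := by
  intro h
  apply two_ne_zero_of_odd hodd
  have : (2 : F) = 1 - (-1) := by ring
  rw [this, h, sub_self]

omit [Fintype F] in
/-- Central elements of `SL₂` square to one. -/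
theorem center_mul_self (z : SpecialLinearGroup (Fin 2) F)
    (hz : z ∈ center (SpecialLinearGroup (Fin 2) F)) : z * z = 1 := by
  obtain ⟨r, hr, hrz⟩ := Matrix.SpecialLinearGroup.mem_center_iff.mp hz
  have hr2 : r * r = 1 := by
    have : Fintype.card (Fin 2) = 2 := Fintype.card_fin 2
    rw [this, sq] at hr
    exact hr
  apply Subtype.ext
  rw [Matrix.SpecialLinearGroup.coe_mul, ← hrz, ← map_mul, hr2, map_one]
  rfl

theorem card_center (hodd : Odd (Fintype.card F)) :
    Nat.card ↥(center (SpecialLinearGroup (Fin 2) F)) = 2 := by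
  have e := Matrix.SpecialLinearGroup.center_equiv_rootsOfUnity' (n := Fin 2) (R := F) 0
  rw [Nat.card_congr e.toEquiv]
  have hprim : IsPrimitiveRoot (-1 : F) (Fintype.card (Fin 2)) := by
    have : Fintype.card (Fin 2) = 2 := Fintype.card_fin 2
    rw [this]
    refine IsPrimitiveRoot.mk_of_lt _ (by norm_num) (by norm_num) ?_
    intro l hl0 hl2
    have : l = 1 := by omega
    rw [this, pow_one]
    exact neg_one_ne_one_of_odd hodd
  rw [hprim.card_rootsOfUnity]
  exact Fintype.card_fin 2


theorem prime_cast_ne_zero (p : ℕ) (hd : p ∣ Fintype.card F + 1) : (p : F) ≠ 0 := by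
  obtain ⟨k, hk⟩ := hd
  have h0 := Nat.cast_card_eq_zero F
  have h : ((Fintype.card F + 1 : ℕ) : F) = 1 := by
    push_cast
    rw [h0, zero_add]
  rw [hk] at h
  push_cast at h
  intro hp0
  rw [hp0, zero_mul] at h
  exact zero_ne_one h

theorem coprime_sub_one (p : ℕ) (hp : p.Prime) (hp2 : p ≠ 2) (hd : p ∣ Fintype.card F + 1) :
    Nat.Coprime p (Fintype.card F - 1) := by
  rw [hp.coprime_iff_not_dvd]
  intro h
  have hq1 : 1 ≤ Fintype.card F := Fintype.card_pos
  have h2 : p ∣ 2 := by
    have e : Fintype.card F + 1 = (Fintype.card F - 1) + 2 := by omega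
    rw [e] at hd
    exact (Nat.dvd_add_right h).mp hd
  have := Nat.le_of_dvd (by norm_num) h2
  have := hp.two_le
  omega

/-- An element of `SL₂(F)` of odd prime order `p ∣ q + 1` has no eigenvector in `F²`. -/
theorem no_eigen (p : ℕ) (hp : p.Prime) (hp2 : p ≠ 2) (hd : p ∣ Fintype.card F + 1)
    (g : SpecialLinearGroup (Fin 2) F) (hg : g ^ p = 1) (hg1 : g ≠ 1) :
    ∀ (c : F) (v : Fin 2 → F), v ≠ 0 → (g : Matrix (Fin 2) (Fin 2) F).mulVec v ≠ c • v := by
  intro c v hv hcv
  apply hg1
  set M : Matrix (Fin 2) (Fin 2) F := (g : Matrix (Fin 2) (Fin 2) F) with hM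
  have hpow : ∀ k : ℕ, (M ^ k).mulVec v = c ^ k • v := by
    intro k
    induction k with
    | zero => simp
    | succ k ih =>
      rw [pow_succ, ← Matrix.mulVec_mulVec, hcv, Matrix.mulVec_smul, ih, smul_smul, pow_succ, mul_comm]
  have hMp : M ^ p = 1 := by
    have := congrArg (fun x : SpecialLinearGroup (Fin 2) F => (x : Matrix (Fin 2) (Fin 2) F)) hg
    simpa using this
  have hcp : c ^ p = 1 := by
    have h1 := hpow p
    rw [hMp, Matrix.one_mulVec] at h1
    obtain ⟨i, hi⟩ : ∃ i, v i ≠ 0 := by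
      by_contra h
      push Not at h
      exact hv (funext h)
    have h2 := congrFun h1 i
    simp only [Pi.smul_apply, smul_eq_mul] at h2
    have h3 : (c ^ p - 1) * v i = 0 := by rw [sub_mul, one_mul, ← h2, sub_self]
    rcases mul_eq_zero.mp h3 with h4 | h4
    · exact sub_eq_zero.mp h4
    · exact absurd h4 hi
  have hc0 : c ≠ 0 := by
    rintro rfl
    rw [zero_pow hp.ne_zero] at hcp
    exact zero_ne_one hcp
  have hcq : c ^ (Fintype.card F - 1) = 1 := FiniteField.pow_card_sub_one_eq_one c hc0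
  have hc1 : c = 1 := (pow_eq_one_iff_of_coprime (coprime_sub_one p hp hp2 hd)).mp ⟨hcp, hcq⟩
  rw [hc1, one_smul] at hcv
  set N : Matrix (Fin 2) (Fin 2) F := M - 1 with hN
  have hNv : N.mulVec v = 0 := by
    rw [hN, Matrix.sub_mulVec, hcv, Matrix.one_mulVec, sub_self]
  have hdetN : N.det = 0 := Matrix.exists_mulVec_eq_zero_iff.mp ⟨v, hv, hNv⟩
  have hdetM : M.det = 1 := g.2
  rw [Matrix.det_fin_two] at hdetN hdetM
  simp only [hN, Matrix.sub_apply, Matrix.one_apply_eq, Matrix.one_apply_ne, ne_eq, Fin.isValue,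
    zero_ne_one, one_ne_zero, not_false_eq_true, sub_zero] at hdetN
  have hNN : N * N = 0 := by
    ext i j
    fin_cases i <;> fin_cases j
    · simp only [hN, Matrix.mul_apply, Fin.sum_univ_two, Matrix.sub_apply, Matrix.one_apply_eq,
        Matrix.one_apply_ne, ne_eq, Fin.isValue, zero_ne_one, one_ne_zero, not_false_eq_true,
        sub_zero, Matrix.zero_apply, Fin.zero_eta, Fin.mk_one]
      linear_combination (M 0 0 - 1) * (hdetM - hdetN) - hdetN
    · simp only [hN, Matrix.mul_apply, Fin.sum_univ_two, Matrix.sub_apply, Matrix.one_apply_eq,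
        Matrix.one_apply_ne, ne_eq, Fin.isValue, zero_ne_one, one_ne_zero, not_false_eq_true,
        sub_zero, Matrix.zero_apply, Fin.zero_eta, Fin.mk_one]
      linear_combination (M 0 1) * (hdetM - hdetN)
    · simp only [hN, Matrix.mul_apply, Fin.sum_univ_two, Matrix.sub_apply, Matrix.one_apply_eq,
        Matrix.one_apply_ne, ne_eq, Fin.isValue, zero_ne_one, one_ne_zero, not_false_eq_true,
        sub_zero, Matrix.zero_apply, Fin.zero_eta, Fin.mk_one]
      linear_combination (M 1 0) * (hdetM - hdetN)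
    · simp only [hN, Matrix.mul_apply, Fin.sum_univ_two, Matrix.sub_apply, Matrix.one_apply_eq,
        Matrix.one_apply_ne, ne_eq, Fin.isValue, zero_ne_one, one_ne_zero, not_false_eq_true,
        sub_zero, Matrix.zero_apply, Fin.zero_eta, Fin.mk_one]
      linear_combination (M 1 1 - 1) * (hdetM - hdetN) - hdetN
  have hM1 : M = 1 + N := by rw [hN]; abel
  have hpowN : ∀ k : ℕ, M ^ k = 1 + (k : F) • N := by
    intro k
    induction k with
    | zero => simp
    | succ k ih =>
      rw [pow_succ, ih, hM1]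
      rw [add_mul, mul_add, mul_add, one_mul, mul_one, one_mul, smul_mul_assoc, hNN, smul_zero,
        add_zero, Nat.cast_succ, add_smul, one_smul]
      abel
  have hpN : (p : F) • N = 0 := by
    have := hpowN p
    rw [hMp] at this
    have h2 : (1 : Matrix (Fin 2) (Fin 2) F) + 0 = 1 + (p : F) • N := by rw [add_zero]; exact this
    exact (add_left_cancel h2).symm
  have hN0 : N = 0 := by
    rcases smul_eq_zero.mp hpN with h | h
    · exact absurd h (prime_cast_ne_zero p hd)
    · exact h
  apply Subtype.ext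
  show M = 1
  rw [hM1, hN0, add_zero]


end Cfsg.Agent.Lib.Helper61_ReeTor_PSL2CENT

namespace Cfsg.Agent.Lib.Helper61_ReeTor_PSL2CENT

open Matrix Subgroup

/-- PKG PSL2CENT. -/
theorem psl2_centralizer {F : Type*} [Field F] [Fintype F] (hodd : Odd (Fintype.card F)) (p : ℕ) (hp : p.Prime)
    (hp2 : p ≠ 2) (hd : p ∣ Fintype.card F + 1) (y : Matrix.ProjectiveSpecialLinearGroup (Fin 2) F)
    (hy : orderOf y = p) :
    IsCyclic ↥(Subgroup.centralizer ({y} : Set (Matrix.ProjectiveSpecialLinearGroup (Fin 2) F))) ∧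
      Nat.card ↥(Subgroup.centralizer ({y} : Set (Matrix.ProjectiveSpecialLinearGroup (Fin 2) F))) =
        (Fintype.card F + 1) / 2 := by
  classical
  set Z : Subgroup (Matrix.SpecialLinearGroup (Fin 2) F) :=
    center (Matrix.SpecialLinearGroup (Fin 2) F) with hZ
  let π : Matrix.SpecialLinearGroup (Fin 2) F →* Matrix.ProjectiveSpecialLinearGroup (Fin 2) F :=
    QuotientGroup.mk' Z
  have hπ1 : ∀ g, π g = 1 ↔ g ∈ Z := fun g => QuotientGroup.eq_one_iff g
  have hπsurj : Function.Surjective π := QuotientGroup.mk'_surjective Z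
  have hpodd : Odd p := hp.odd_of_ne_two hp2
  have hcop2 : Nat.Coprime 2 p := (Nat.coprime_primes Nat.prime_two hp).mpr (Ne.symm hp2)
  have key : ∀ z : Matrix.SpecialLinearGroup (Fin 2) F, z * z = 1 → z ^ p = 1 → z = 1 := by
    intro z h2 hpz
    exact (pow_eq_one_iff_of_coprime hcop2).mp ⟨by rw [sq]; exact h2, hpz⟩
  -- lift `y`
  obtain ⟨y0, hy0⟩ := hπsurj y
  have hyp : y ^ p = 1 := by rw [← hy]; exact pow_orderOf_eq_one y
  have hy1 : y ≠ 1 := by
    intro h
    rw [h, orderOf_one] at hy
    exact hp.ne_one hy.symm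
  have hy0p : y0 ^ p ∈ Z := by rw [← hπ1, map_pow, hy0, hyp]
  set yt := y0 ^ (p + 1) with hyt
  have hyt_π : π yt = y := by rw [hyt, map_pow, hy0, pow_succ, hyp, one_mul]
  have hytp : yt ^ p = 1 := by
    obtain ⟨k, hk⟩ := hpodd
    have h2 : p + 1 = 2 * (k + 1) := by omega
    rw [hyt, ← pow_mul, mul_comm, pow_mul, h2, pow_mul, sq, center_mul_self _ hy0p, one_pow]
  have hyt1 : yt ≠ 1 := by
    intro h
    rw [h, map_one] at hyt_π
    exact hy1 hyt_π.symm
  obtain ⟨T', hcyc, hcard, hcent, hcentg, hconj, -, -, -⟩ := Cfsg.Agent.S2429.result hodd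
  obtain ⟨h, hh⟩ := hconj yt (no_eigen p hp hp2 hd yt hytp hyt1)
  set t := h * yt * h⁻¹ with ht
  have htp : t ^ p = 1 := by rw [ht, conj_pow, hytp, mul_one, mul_inv_cancel]
  have ht1 : t ≠ 1 := by
    intro h1
    apply hyt1
    have e : yt = h⁻¹ * (h * yt * h⁻¹) * h := by group
    rw [e, ← ht, h1]
    group
  have htm1 : (t : Matrix (Fin 2) (Fin 2) F) ≠ 1 := fun h1 => ht1 (Subtype.ext h1)
  have htm2 : (t : Matrix (Fin 2) (Fin 2) F) ≠ -1 := by
    intro h1
    apply ht1
    apply key t _ htp
    apply Subtype.ext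
    rw [Matrix.SpecialLinearGroup.coe_mul, h1]
    simp
  have hCt : centralizer ({t} : Set (Matrix.SpecialLinearGroup (Fin 2) F)) = T' :=
    hcentg t hh htm1 htm2
  have hZT : Z ≤ T' := by
    rw [← hcent]
    exact center_le_centralizer _
  -- the centraliser of `π t`
  have hCπt : centralizer ({π t} : Set (Matrix.ProjectiveSpecialLinearGroup (Fin 2) F)) = T'.map π := by
    ext x
    constructor
    · intro hx
      obtain ⟨g, rfl⟩ := hπsurj x
      rw [mem_centralizer_singleton_iff] at hx
      have hz : g * t * g⁻¹ * t⁻¹ ∈ Z := by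
        rw [← hπ1]
        simp only [map_mul, map_inv]
        rw [hx]
        group
      set z := g * t * g⁻¹ * t⁻¹ with hzdef
      have hgt : g * t * g⁻¹ = z * t := by rw [hzdef]; group
      have hzc : Commute z t := (mem_center_iff.mp hz t).symm
      have hzp : z ^ p = 1 := by
        have h1 : (g * t * g⁻¹) ^ p = 1 := by rw [conj_pow, htp, mul_one, mul_inv_cancel]
        rw [hgt, hzc.mul_pow p, htp, mul_one] at h1
        exact h1
      have hz1 : z = 1 := key z (center_mul_self z hz) hzp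
      rw [hz1, one_mul] at hgt
      have hgT : g ∈ T' := by
        rw [← hCt, mem_centralizer_singleton_iff]
        have e : g * t = (g * t * g⁻¹) * g := by group
        rw [e, hgt]
      exact mem_map_of_mem π hgT
    · rintro ⟨g, hg, rfl⟩
      rw [mem_centralizer_singleton_iff]
      have hgt : g * t = t * g := by
        have hg' : g ∈ T' := hg
        rw [← hCt] at hg'
        exact mem_centralizer_singleton_iff.mp hg'
      rw [← map_mul, ← map_mul, hgt]
  -- the image of `T'`
  let f : ↥T' →* ↥(T'.map π) := π.subgroupMap T'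
  have hfsurj : Function.Surjective f := π.subgroupMap_surjective T'
  have hcycmap : IsCyclic ↥(T'.map π) := isCyclic_of_surjective f hfsurj
  have hker : f.ker = Z.subgroupOf T' := by
    ext x
    rw [MonoidHom.mem_ker, mem_subgroupOf, ← hπ1]
    constructor
    · intro h
      exact congrArg Subtype.val h
    · intro h
      exact Subtype.ext h
  have hcardker : Nat.card ↥f.ker = 2 := by
    rw [hker, Nat.card_congr (subgroupOfEquivOfLe hZT).toEquiv]
    exact card_center hodd
  have hcardmap : Nat.card ↥(T'.map π) = (Fintype.card F + 1) / 2 := by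
    have h1 := Subgroup.index_ker f
    have h2 := f.ker.index_mul_card
    have h3 : f.range = ⊤ := MonoidHom.range_eq_top.mpr hfsurj
    rw [hcardker, hcard, h1, h3, Subgroup.card_top] at h2
    omega
  -- transfer to `y`
  have hπt : π t = π h * y * (π h)⁻¹ := by rw [ht, map_mul, map_mul, map_inv, hyt_π]
  obtain ⟨e⟩ := cent_conj_equiv y (π h)
  have e' : ↥(centralizer ({y} : Set (Matrix.ProjectiveSpecialLinearGroup (Fin 2) F))) ≃* ↥(T'.map π) := by
    rw [← hCπt, hπt]
    exact e
  refine ⟨?_, ?_⟩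
  · exact isCyclic_of_surjective e'.symm e'.symm.surjective
  · rw [Nat.card_congr e'.toEquiv, hcardmap]

end Cfsg.Agent.Lib.Helper61_ReeTor_PSL2CENT
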