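import Mathlib

set_option autoImplicit false

namespace Cfsg.Agent.Lib.Helper41_SylowTorus

variable {G : Type*} [Group G]

/-- centralizer of a conjugate subgroup -/
theorem centralizer_map_conj (x : G) (K : Subgroup G) :
    Subgroup.centralizer ((K.map (MulAut.conj x).toMonoidHom : Subgroup G) : Set G) =
      (Subgroup.centralizer (K : Set G)).map (MulAut.conj x).toMonoidHom := by
  ext y
  rw [Subgroup.mem_centralizer_iff, Subgroup.mem_map]
  constructor
  · intro hy
    refine ⟨x⁻¹ * y * x, ?_, by simp [mul_assoc]⟩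
    rw [Subgroup.mem_centralizer_iff]
    intro k hk
    have h1 := hy (x * k * x⁻¹) ⟨k, hk, by simp⟩
    calc k * (x⁻¹ * y * x) = x⁻¹ * ((x * k * x⁻¹) * y) * x := by group
      _ = x⁻¹ * (y * (x * k * x⁻¹)) * x := by rw [h1]
      _ = x⁻¹ * y * x * k := by group
  · rintro ⟨c, hc, rfl⟩ h ⟨k, hk, rfl⟩
    rw [Subgroup.mem_centralizer_iff] at hc
    have h1 := hc k hk
    simp only [MulEquiv.coe_toMonoidHom, MulAut.conj_apply]
    calc x * k * x⁻¹ * (x * c * x⁻¹) = x * (k * c) * x⁻¹ := by group
      _ = x * (c * k) * x⁻¹ := by rw [h1]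
      _ = x * c * x⁻¹ * (x * k * x⁻¹) := by group

/-- normalizer of a conjugate subgroup -/
theorem normalizer_map_conj (x : G) (K : Subgroup G) :
    Subgroup.normalizer ((K.map (MulAut.conj x).toMonoidHom : Subgroup G) : Set G) =
      (Subgroup.normalizer (K : Set G)).map (MulAut.conj x).toMonoidHom :=
  (Subgroup.map_equiv_normalizer_eq K (MulAut.conj x)).symm

theorem card_map_conj (x : G) (K : Subgroup G) :
    Nat.card (K.map (MulAut.conj x).toMonoidHom) = Nat.card K :=
  Subgroup.card_map_of_injective (MulAut.conj x).injective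

theorem isCyclic_map_conj (x : G) (K : Subgroup G) [IsCyclic K] :
    IsCyclic (K.map (MulAut.conj x).toMonoidHom) :=
  isCyclic_of_surjective (K.equivMapOfInjective _ (MulAut.conj x).injective)
    (K.equivMapOfInjective _ (MulAut.conj x).injective).surjective

/-- Sylow `ℓ`-subgroups of `G` when an abelian subgroup `T` contains a full Sylow `ℓ`-subgroup and is
the centralizer of each of its elements of order `ℓ`: `C(P)` is a conjugate of `T` and `N(P)` is
the corresponding conjugate of `N(T)`. -/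
theorem sylow_centralizer_normalizer [Finite G] (T : Subgroup G) (ℓ : ℕ) [Fact ℓ.Prime]
    (hT : ∀ a ∈ T, ∀ b ∈ T, a * b = b * a)
    (hval : (Nat.card G).factorization ℓ = (Nat.card T).factorization ℓ)
    (hℓ : ℓ ∣ Nat.card T)
    (hC : ∀ g ∈ T, orderOf g = ℓ → Subgroup.centralizer ({g} : Set G) = T)
    (P : Sylow ℓ G) :
    ∃ x : G, Subgroup.centralizer ((P : Subgroup G) : Set G) = T.map (MulAut.conj x).toMonoidHom ∧
      Subgroup.normalizer ((P : Subgroup G) : Set G) =
        (Subgroup.normalizer (T : Set G)).map (MulAut.conj x).toMonoidHom := by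
  classical
  have hℓp : ℓ.Prime := Fact.out
  obtain ⟨Q⟩ : Nonempty (Sylow ℓ T) := Sylow.nonempty
  set Q' : Subgroup G := (Q : Subgroup T).map T.subtype with hQ'
  have hQ'T : Q' ≤ T := by
    rintro _ ⟨q, -, rfl⟩
    exact q.2
  have hQcard : Nat.card Q = ℓ ^ (Nat.card T).factorization ℓ := Q.card_eq_multiplicity
  have hQ'card : Nat.card Q' = ℓ ^ (Nat.card G).factorization ℓ := by
    rw [hQ', Subgroup.card_map_of_injective T.subtype_injective, hval]
    exact hQcard
  -- every `ℓ`-element of `T` lies in `Q'`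
  have hmemQ' : ∀ t ∈ T, ∀ k : ℕ, t ^ (ℓ ^ k) = 1 → t ∈ Q' := by
    intro t ht k htk
    have hnormal : (Subgroup.zpowers (⟨t, ht⟩ : T)).Normal := by
      refine ⟨fun n hn g => ?_⟩
      have : g * n * g⁻¹ = n := by
        apply Subtype.ext
        have := hT g g.2 n n.2
        simp only [Subgroup.coe_mul, Subgroup.coe_inv]
        rw [this, mul_inv_cancel_right]
      rw [this]; exact hn
    have hpg : IsPGroup ℓ (Subgroup.zpowers (⟨t, ht⟩ : T)) := by
      rintro ⟨y, hy⟩
      obtain ⟨i, rfl⟩ := Subgroup.mem_zpowers_iff.1 hy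
      refine ⟨k, ?_⟩
      apply Subtype.ext
      simp only [Subgroup.coe_pow, Subgroup.coe_one]
      apply Subtype.ext
      simp only [Subgroup.coe_pow, Subgroup.coe_zpow, Subgroup.coe_one]
      rw [← zpow_natCast, ← zpow_mul, mul_comm, zpow_mul, zpow_natCast, htk, one_zpow]
    have hle := hpg.le_sylow_of_normal Q
    exact ⟨⟨t, ht⟩, hle (Subgroup.mem_zpowers _), rfl⟩
  -- an element of order `ℓ` in `Q'`
  have hdvd : ℓ ∣ Nat.card Q' := by
    rw [hQ'card]
    apply dvd_pow_self
    intro h0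
    rw [hval] at h0
    have := (Nat.factorization_eq_zero_iff _ _).1 h0
    rcases this with h | h | h
    · exact h hℓp
    · exact h hℓ
    · exact Nat.card_pos.ne' h
  obtain ⟨g, hg⟩ := exists_prime_orderOf_dvd_card' (G := Q') ℓ hdvd
  have hgord : orderOf (g : G) = ℓ := by rw [Subgroup.orderOf_coe]; exact hg
  have hCQ' : Subgroup.centralizer (Q' : Set G) = T := by
    apply le_antisymm
    · rw [← hC (g : G) (hQ'T g.2) hgord]
      apply Subgroup.centralizer_le
      intro y hy
      rw [Set.mem_singleton_iff] at hy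
      rw [hy]; exact g.2
    · intro t ht
      rw [Subgroup.mem_centralizer_iff]
      intro q hq
      exact hT q (hQ'T hq) t ht
  have hQ'pow : ∀ q ∈ Q', ∃ k : ℕ, q ^ (ℓ ^ k) = 1 := by
    rintro _ ⟨q, hq, rfl⟩
    obtain ⟨k, hk⟩ := Q.isPGroup' ⟨q, hq⟩
    refine ⟨k, ?_⟩
    have := congrArg (fun y : Q => ((y : T) : G)) hk
    simpa using this
  have hNQ' : Subgroup.normalizer (Q' : Set G) = Subgroup.normalizer (T : Set G) := by
    apply le_antisymm
    · intro n hn
      apply Subgroup.mem_normalizer_fintype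
      intro t ht
      change t ∈ T at ht
      change n * t * n⁻¹ ∈ T
      rw [← hCQ', Subgroup.mem_centralizer_iff]
      intro q hq
      have hq' : n⁻¹ * q * n ∈ Q' := (Subgroup.mem_normalizer_iff''.1 hn q).1 hq
      have h1 : (n⁻¹ * q * n) * t = t * (n⁻¹ * q * n) := hT _ (hQ'T hq') t ht
      calc q * (n * t * n⁻¹) = n * ((n⁻¹ * q * n) * t) * n⁻¹ := by group
        _ = n * (t * (n⁻¹ * q * n)) * n⁻¹ := by rw [h1]
        _ = n * t * n⁻¹ * q := by group
    · intro n hn
      apply Subgroup.mem_normalizer_fintype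
      intro q hq
      change q ∈ Q' at hq
      change n * q * n⁻¹ ∈ Q'
      obtain ⟨k, hk⟩ := hQ'pow q hq
      have hT' : n * q * n⁻¹ ∈ T := (Subgroup.mem_normalizer_iff.1 hn q).1 (hQ'T hq)
      apply hmemQ' _ hT' k
      rw [conj_pow, hk, mul_one, mul_inv_cancel]
  -- conjugate to `P`
  obtain ⟨x, hx⟩ := MulAction.exists_smul_eq G (Sylow.ofCard Q' hQ'card) P
  have hP : (P : Subgroup G) = Q'.map (MulAut.conj x).toMonoidHom := by
    rw [← hx]; rfl
  refine ⟨x, ?_, ?_⟩
  · rw [hP, centralizer_map_conj, hCQ']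
  · rw [hP, normalizer_map_conj, hNQ']

end Cfsg.Agent.Lib.Helper41_SylowTorus
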