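import Mathlib
import Cfsg.Agent.S0809
import Cfsg.Agent.Lib.Helper35_PSL2Card
import Cfsg.Agent.Lib.Helper41_SL2Order4
import Cfsg.Agent.Lib.Helper61_ReeTor_PSL2CENT

/-!
# REEHALL package PSL2FACTS (architect helper37; formalised by helper43)

Three facts on `PSL₂(K)`, `|K| = q ≡ 3 (mod 4)`, `char K = 3`: the order, the centraliser of an
involution has order `q + 1`, and the `3`-elements have order dividing `3`.
-/

set_option autoImplicit false
set_option linter.unusedVariables false
set_option linter.unusedSectionVars false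

namespace Cfsg.Agent.Lib.Helper43_RH_PSL2FACTS

open Matrix Subgroup

/-- a nilpotent `2 × 2` matrix over a field squares to zero -/
theorem sq_eq_zero_of_isNilpotent {K : Type*} [Field K] (N : Matrix (Fin 2) (Fin 2) K)
    (hN : IsNilpotent N) : N * N = 0 := by
  obtain ⟨m, hm⟩ := hN
  have hm0 : m ≠ 0 := by
    rintro rfl
    rw [pow_zero] at hm
    exact one_ne_zero hm
  have htr : N.trace = 0 :=
    (Matrix.isNilpotent_trace_of_isNilpotent ⟨m, hm⟩).eq_zero
  have hdet : N.det = 0 := by
    have h1 : N.det ^ m = 0 := by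
      rw [← Matrix.det_pow, hm, Matrix.det_zero]
    exact pow_eq_zero_iff hm0 |>.1 h1
  have hCH : N * N = N.trace • N - N.det • (1 : Matrix (Fin 2) (Fin 2) K) := by
    rw [Matrix.trace_fin_two, Matrix.det_fin_two]
    ext i j
    fin_cases i <;> fin_cases j <;>
      simp [Matrix.mul_apply, Fin.sum_univ_two] <;> ring
  rw [hCH, htr, hdet, zero_smul, zero_smul, sub_zero]

/-- in characteristic `3` a `2 × 2` matrix of `3`-power order has order dividing `3` -/
theorem cube_eq_one_of_pow {K : Type*} [Field K] [CharP K 3] (M : Matrix (Fin 2) (Fin 2) K)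
    (k : ℕ) (h : M ^ 3 ^ k = 1) : M ^ 3 = 1 := by
  have : Fact (Nat.Prime 3) := ⟨by norm_num⟩
  have hN : (M - 1) ^ 3 ^ k = 0 := by
    rw [sub_pow_char_pow_of_commute 3 k (Commute.one_right M), h, one_pow, sub_self]
  have hNN : (M - 1) * (M - 1) = 0 := sq_eq_zero_of_isNilpotent _ ⟨3 ^ k, hN⟩
  have hM : M = 1 + (M - 1) := by abel
  rw [hM, add_pow_char_of_commute 3 (Commute.one_left (M - 1)), one_pow, pow_succ, pow_two, hNN,
    zero_mul, add_zero]

section facts

variable {K : Type*} [Field K] [Fintype K]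

theorem psl2_card (hq : Fintype.card K % 4 = 3) :
    2 * Nat.card (Matrix.ProjectiveSpecialLinearGroup (Fin 2) K) =
      Fintype.card K * ((Fintype.card K) ^ 2 - 1) := by
  have hodd : Odd (Fintype.card K) := Nat.odd_iff.2 (by omega)
  have h1 := Cfsg.Agent.Lib.Helper35_PSL2Card.card_SL2_mul (F := K)
  have h2 := Cfsg.Agent.Lib.Helper35_PSL2Card.card_SL2_eq_card_PSL2_mul (F := K)
  have h3 := Cfsg.Agent.Lib.Helper61_ReeTor_PSL2CENT.card_center (F := K) hodd
  rw [h3] at h2
  have hq3 : 3 ≤ Fintype.card K := by omega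
  have hpos : 0 < Fintype.card K - 1 := by omega
  have e : Fintype.card K ^ 2 - Fintype.card K = Fintype.card K * (Fintype.card K - 1) := by
    rw [Nat.mul_sub, mul_one, pow_two]
  rw [e, ← mul_assoc] at h1
  have h4 := Nat.eq_of_mul_eq_mul_right hpos h1
  rw [h2] at h4
  rw [mul_comm (Fintype.card K), ← h4, mul_comm]

theorem psl2_cent_invol (hq : Fintype.card K % 4 = 3)
    (l : Matrix.ProjectiveSpecialLinearGroup (Fin 2) K) (hl : orderOf l = 2) :
    Nat.card ↥(Subgroup.centralizer ({l} : Set (Matrix.ProjectiveSpecialLinearGroup (Fin 2) K))) =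
      Fintype.card K + 1 := by
  classical
  have hodd : Odd (Fintype.card K) := Nat.odd_iff.2 (by omega)
  have h2 : (2 : K) ≠ 0 := Cfsg.Agent.Lib.Helper61_ReeTor_PSL2CENT.two_ne_zero_of_odd hodd
  set Z : Subgroup (Matrix.SpecialLinearGroup (Fin 2) K) :=
    center (Matrix.SpecialLinearGroup (Fin 2) K) with hZ
  let π : Matrix.SpecialLinearGroup (Fin 2) K →* Matrix.ProjectiveSpecialLinearGroup (Fin 2) K :=
    QuotientGroup.mk' Z
  have hπ1 : ∀ g, π g = 1 ↔ g ∈ Z := fun g => QuotientGroup.eq_one_iff g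
  have hπsurj : Function.Surjective π := QuotientGroup.mk'_surjective Z
  have hl2 : l * l = 1 := by
    have := pow_orderOf_eq_one l
    rw [hl, pow_two] at this
    exact this
  have hl1 : l ≠ 1 := by
    intro h
    rw [h, orderOf_one] at hl
    omega
  obtain ⟨g, hg⟩ := hπsurj l
  have hggZ : g * g ∈ Z := by rw [← hπ1, map_mul, hg, hl2]
  have hgZ : g ∉ Z := by
    intro h
    rw [← hπ1, hg] at h
    exact hl1 h
  -- the elements of `Z`
  have hZelt : ∀ z ∈ Z, (z : Matrix (Fin 2) (Fin 2) K) = 1 ∨ (z : Matrix (Fin 2) (Fin 2) K) = -1 :=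
    fun z hz => Cfsg.Agent.Lib.Helper41_SL2Order4.coe_eq_one_or_neg_one_of_mul_self h2 z
      (Cfsg.Agent.Lib.Helper61_ReeTor_PSL2CENT.center_mul_self z hz)
  -- `g * g = -1`
  have hgg : (g : Matrix (Fin 2) (Fin 2) K) * (g : Matrix (Fin 2) (Fin 2) K) = -1 := by
    rcases hZelt _ hggZ with h | h
    · exfalso
      have h1 : g * g = 1 := Subtype.ext (by rw [h]; rfl)
      rcases Cfsg.Agent.Lib.Helper41_SL2Order4.coe_eq_one_or_neg_one_of_mul_self h2 g h1 with h' | h'
      · apply hgZ
        have : g = 1 := Subtype.ext (by rw [h']; rfl)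
        rw [this]
        exact Subgroup.one_mem _
      · apply hgZ
        -- `g = g⁻¹ * (g * g)`, hmm: use that `-1` is central
        rw [hZ, Subgroup.mem_center_iff]
        intro x
        apply Subtype.ext
        rw [Matrix.SpecialLinearGroup.coe_mul, Matrix.SpecialLinearGroup.coe_mul, h']
        simp
    · rw [← Matrix.SpecialLinearGroup.coe_mul]
      exact h
  have hgg1 : g * g ≠ 1 := by
    intro h
    have h' := congrArg (fun x : Matrix.SpecialLinearGroup (Fin 2) K =>
      (x : Matrix (Fin 2) (Fin 2) K)) h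
    simp only [Matrix.SpecialLinearGroup.coe_mul, Matrix.SpecialLinearGroup.coe_one] at h'
    rw [hgg] at h'
    have h00 := congrFun (congrFun h' 0) 0
    simp at h00
    apply h2
    have : (2 : K) = 1 - (-1) := by ring
    rw [this, h00, sub_self]
  have hg4 : g ^ 2 ^ 2 = 1 := by
    apply Subtype.ext
    have : g ^ 2 ^ 2 = (g * g) * (g * g) := by
      rw [show (2 : ℕ) ^ 2 = 2 + 2 by norm_num, pow_add, pow_two]
    rw [this, Matrix.SpecialLinearGroup.coe_mul, Matrix.SpecialLinearGroup.coe_mul, hgg]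
    simp
  have hord : orderOf g = 4 := by
    have := orderOf_eq_prime_pow (p := 2) (n := 1) (x := g)
      (by rw [pow_one, pow_two]; exact hgg1) hg4
    rw [this]
    norm_num
  set A : Subgroup (Matrix.SpecialLinearGroup (Fin 2) K) := Subgroup.zpowers g with hA
  have hAcard : Nat.card A = 4 := by rw [hA, Nat.card_zpowers, hord]
  have : Finite A := Nat.finite_of_card_ne_zero (by rw [hAcard]; norm_num)
  have hN := (Cfsg.Agent.S0809.result (F := K) (q := Fintype.card K) rfl hodd A hAcard).2.2.1 hq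
  -- `Z ≤ A`
  have hZA : ∀ z ∈ Z, z = 1 ∨ z = g * g := by
    intro z hz
    rcases hZelt z hz with h | h
    · left
      exact Subtype.ext (by rw [h]; rfl)
    · right
      apply Subtype.ext
      rw [Matrix.SpecialLinearGroup.coe_mul, hgg, h]
  have hggA : g * g ∈ A := Subgroup.mul_mem _ (Subgroup.mem_zpowers g) (Subgroup.mem_zpowers g)
  -- the preimage of the centraliser is the normaliser of `A`
  have hcomap : (Subgroup.centralizer ({l} : Set (Matrix.ProjectiveSpecialLinearGroup (Fin 2) K))).comap π =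
      Subgroup.normalizer (A : Set (Matrix.SpecialLinearGroup (Fin 2) K)) := by
    ext x
    rw [Subgroup.mem_comap, mem_centralizer_singleton_iff]
    constructor
    · intro hx
      have hz : x * g * x⁻¹ * g⁻¹ ∈ Z := by
        rw [← hπ1]
        simp only [map_mul, map_inv]
        rw [hg, hx]
        group
      have hconj : x * g * x⁻¹ ∈ A := by
        have e : x * g * x⁻¹ = (x * g * x⁻¹ * g⁻¹) * g := by group
        rw [e]
        rcases hZA _ hz with h | h
        · rw [h, one_mul]
          exact Subgroup.mem_zpowers g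
        · rw [h]
          exact Subgroup.mul_mem _ hggA (Subgroup.mem_zpowers g)
      apply Subgroup.mem_normalizer_fintype
      intro y hy
      change y ∈ Subgroup.zpowers g at hy
      change x * y * x⁻¹ ∈ Subgroup.zpowers g
      obtain ⟨k, rfl⟩ := Subgroup.mem_zpowers_iff.1 hy
      rw [← conj_zpow]
      exact Subgroup.zpow_mem _ hconj k
    · intro hx
      have hconj : x * g * x⁻¹ ∈ A :=
        (Subgroup.mem_normalizer_iff.1 hx g).1 (Subgroup.mem_zpowers g)
      obtain ⟨k, hk⟩ := Subgroup.mem_zpowers_iff.1 hconj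
      have hk' : l ^ k = π x * l * (π x)⁻¹ := by
        rw [← hg, ← map_zpow, hk, map_mul, map_mul, map_inv]
      have hmod : l ^ k = l ^ (k % 2) := by
        have := zpow_mod_orderOf l k
        rw [hl] at this
        exact_mod_cast this.symm
      rcases Int.emod_two_eq_zero_or_one k with h0 | h0
      · exfalso
        rw [hmod, h0, zpow_zero] at hk'
        apply hl1
        have : l = (π x)⁻¹ * (π x * l * (π x)⁻¹) * π x := by group
        rw [this, ← hk']
        group
      · rw [hmod, h0, zpow_one] at hk'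
        have e : π x * l = (π x * l * (π x)⁻¹) * π x := by group
        rw [e, ← hk']
  -- cardinalities
  have hidx := Subgroup.index_comap_of_surjective
    (Subgroup.centralizer ({l} : Set (Matrix.ProjectiveSpecialLinearGroup (Fin 2) K))) hπsurj
  have hc1 := Subgroup.card_mul_index
    ((Subgroup.centralizer ({l} : Set (Matrix.ProjectiveSpecialLinearGroup (Fin 2) K))).comap π)
  have hc2 := Subgroup.card_mul_index
    (Subgroup.centralizer ({l} : Set (Matrix.ProjectiveSpecialLinearGroup (Fin 2) K)))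
  have h5 := Cfsg.Agent.Lib.Helper35_PSL2Card.card_SL2_eq_card_PSL2_mul (F := K)
  have h6 := Cfsg.Agent.Lib.Helper61_ReeTor_PSL2CENT.card_center (F := K) hodd
  rw [h6] at h5
  rw [hidx, hcomap, hN] at hc1
  have hipos : 0 < (Subgroup.centralizer
      ({l} : Set (Matrix.ProjectiveSpecialLinearGroup (Fin 2) K))).index := by
    have : Finite (Matrix.ProjectiveSpecialLinearGroup (Fin 2) K) := by
      unfold Matrix.ProjectiveSpecialLinearGroup
      infer_instance
    exact Nat.pos_of_ne_zero Subgroup.index_ne_zero_of_finite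
  have h7 : 2 * (Fintype.card K + 1) * (Subgroup.centralizer
      ({l} : Set (Matrix.ProjectiveSpecialLinearGroup (Fin 2) K))).index =
      2 * (Nat.card ↥(Subgroup.centralizer
        ({l} : Set (Matrix.ProjectiveSpecialLinearGroup (Fin 2) K))) * (Subgroup.centralizer
      ({l} : Set (Matrix.ProjectiveSpecialLinearGroup (Fin 2) K))).index) := by
    rw [hc1, hc2, h5, mul_comm]
  have h8 := Nat.eq_of_mul_eq_mul_right hipos
    (show (2 * (Fintype.card K + 1)) * _ = (2 * Nat.card _) * _ by rw [h7]; ring)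
  omega

theorem psl2_three [CharP K 3] (u : Matrix.ProjectiveSpecialLinearGroup (Fin 2) K) (k : ℕ)
    (hu : u ^ 3 ^ k = 1) : u ^ 3 = 1 := by
  set Z : Subgroup (Matrix.SpecialLinearGroup (Fin 2) K) :=
    center (Matrix.SpecialLinearGroup (Fin 2) K) with hZ
  let π : Matrix.SpecialLinearGroup (Fin 2) K →* Matrix.ProjectiveSpecialLinearGroup (Fin 2) K :=
    QuotientGroup.mk' Z
  have hπ1 : ∀ g, π g = 1 ↔ g ∈ Z := fun g => QuotientGroup.eq_one_iff g
  have hπsurj : Function.Surjective π := QuotientGroup.mk'_surjective Z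
  obtain ⟨g, hg⟩ := hπsurj u
  have hzZ : g ^ 3 ^ k ∈ Z := by rw [← hπ1, map_pow, hg, hu]
  set z := g ^ 3 ^ k with hz
  have hzz : z * z = 1 := Cfsg.Agent.Lib.Helper61_ReeTor_PSL2CENT.center_mul_self z hzZ
  have hcomm : Commute g z := (Subgroup.mem_center_iff.1 hzZ) g
  have hodd : Odd (3 ^ k) := Odd.pow (by decide)
  obtain ⟨m, hm⟩ := hodd
  have hzpow : z ^ (3 ^ k + 1) = 1 := by
    have e : 3 ^ k + 1 = 2 * (m + 1) := by omega
    rw [e, pow_mul, pow_two, hzz, one_pow]
  have hg' : (g * z) ^ 3 ^ k = 1 := by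
    rw [hcomm.mul_pow, ← hz, ← pow_succ', hzpow]
  have hπg' : π (g * z) = u := by
    rw [map_mul, hg, (hπ1 z).2 hzZ, mul_one]
  have hM : ((g * z : Matrix.SpecialLinearGroup (Fin 2) K) : Matrix (Fin 2) (Fin 2) K) ^ 3 ^ k = 1 := by
    rw [← Matrix.SpecialLinearGroup.coe_pow, hg']
    rfl
  have h3 := cube_eq_one_of_pow _ k hM
  have h3' : (g * z) ^ 3 = 1 := by
    apply Subtype.ext
    rw [Matrix.SpecialLinearGroup.coe_pow, h3]
    rfl
  rw [← hπg', ← map_pow, h3', map_one]

end facts

theorem psl2_facts {K : Type*} [Field K] [Fintype K] [CharP K 3] (hq : Fintype.card K % 4 = 3) :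
    2 * Nat.card (Matrix.ProjectiveSpecialLinearGroup (Fin 2) K) =
      Fintype.card K * ((Fintype.card K) ^ 2 - 1) ∧
    (∀ l : Matrix.ProjectiveSpecialLinearGroup (Fin 2) K, orderOf l = 2 →
      Nat.card ↥(Subgroup.centralizer ({l} : Set (Matrix.ProjectiveSpecialLinearGroup (Fin 2) K))) =
        Fintype.card K + 1) ∧
    (∀ (u : Matrix.ProjectiveSpecialLinearGroup (Fin 2) K) (k : ℕ), u ^ 3 ^ k = 1 → u ^ 3 = 1) :=
  ⟨psl2_card hq, fun l hl => psl2_cent_invol hq l hl, fun u k hu => psl2_three u k hu⟩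

end Cfsg.Agent.Lib.Helper43_RH_PSL2FACTS
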