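import Cfsg.Agent.Lib.Helper37_RHDefs
import Cfsg.Agent.Lib.Helper37_RHInvolAbs
import Cfsg.Agent.Lib.Helper43_RH_PSL2FACTS
import Cfsg.Agent.Lib.Helper37_ReeCentMain
import Cfsg.Agent.Lib.Helper37_InvConj

set_option autoImplicit false

/-!
# Helper37_RHBridge3: the involutions of the small Ree group (REEHALL bridge, part 3)

One class of involutions, `|C(a)| = q (q² - 1)`, the involutions `t ≠ a` of `C(a)` have `|C(a) ∩ C(t)| = 2 (q + 1)`, and
the `3`-elements of `C(a)` have order dividing 3.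
-/

namespace Cfsg.Agent.Lib.Helper37_RHBridge3

open Cfsg Cfsg.Lie Cfsg.Agent.Lib.Helper36_ReeFix Cfsg.Agent.Lib.Helper36_ReeOrder
  Cfsg.Agent.Lib.Helper37_ReeCentDefs Cfsg.Agent.Lib.Helper37_ReeCentMain
  Cfsg.Agent.Lib.Helper37_RHDefs Cfsg.Agent.Lib.Helper37_RHInvolAbs

open Subgroup

variable {K : Type*} [Field K] [Fintype K] [CharP K 3] {m : ℕ} (hK : Fintype.card K = 3 ^ (2 * m + 1))

theorem q_mod_four (m : ℕ) : 3 ^ (2 * m + 1) % 4 = 3 := by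
  rw [pow_succ, pow_mul, Nat.mul_mod, Nat.pow_mod]
  norm_num

include hK in
theorem invol (hm : 1 ≤ m) : ∃ a : ↥(twistedG2 K (3 ^ m)), orderOf a = 2 ∧
    (∀ t : ↥(twistedG2 K (3 ^ m)), orderOf t = 2 → ∃ g : ↥(twistedG2 K (3 ^ m)), g * a * g⁻¹ = t) ∧
    Nat.card ↥(centralizer ({a} : Set ↥(twistedG2 K (3 ^ m)))) = Q m * ((Q m) ^ 2 - 1) ∧
    (∀ t ∈ centralizer ({a} : Set ↥(twistedG2 K (3 ^ m))), orderOf t = 2 → t ≠ a →
      Nat.card ↥(centralizer ({a} : Set ↥(twistedG2 K (3 ^ m))) ⊓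
        centralizer ({t} : Set ↥(twistedG2 K (3 ^ m)))) = 2 * (Q m + 1)) ∧
    (∀ u ∈ centralizer ({a} : Set ↥(twistedG2 K (3 ^ m))), ∀ k : ℕ, u ^ 3 ^ k = 1 → u ^ 3 = 1) := by
  have : Fact (Nat.Prime 2) := ⟨Nat.prime_two⟩
  have hq4 : Fintype.card K % 4 = 3 := by rw [hK]; exact q_mod_four m
  obtain ⟨hP1, hP2, hP3⟩ := Cfsg.Agent.Lib.Helper43_RH_PSL2FACTS.psl2_facts (K := K) hq4
  obtain ⟨ψ⟩ := centralizer_aa hK
  have ha : orderOf (⟨aa K m, aa_mem hK⟩ : ↥(twistedG2 K (3 ^ m))) = 2 := by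
    apply orderOf_eq_prime _ (aa'_ne_one hK)
    rw [pow_two]
    exact aa'_sq hK
  have hq3 : 3 ≤ Fintype.card K := by omega
  have hc : Nat.card (Matrix.ProjectiveSpecialLinearGroup (Fin 2) K) ≠ Fintype.card K + 1 := by
    intro h
    rw [h] at hP1
    obtain ⟨s, hs⟩ : ∃ s, s = Fintype.card K ^ 2 - 1 := ⟨_, rfl⟩
    have hs1 : s + 1 = Fintype.card K ^ 2 := by
      rw [hs]
      exact Nat.sub_add_cancel (Nat.one_le_pow _ _ (by omega))
    rw [← hs] at hP1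
    have hs8 : 8 ≤ s := by nlinarith
    have := Nat.mul_le_mul_left (Fintype.card K) hs8
    omega
  refine ⟨⟨aa K m, aa_mem hK⟩, ha, ?_, ?_, ?_, ?_⟩
  · obtain ⟨L, V, h⟩ := exists_hyp hK hm
    have harith := Cfsg.Agent.Lib.Helper8_ReeInv_ARITH.arith m
    have h16 : ¬ 16 ∣ Nat.card ↥(twistedG2 K (3 ^ m)) := by
      rw [card_twistedG2 hK]
      exact harith.1
    exact Cfsg.Agent.Lib.Helper37_InvConj.involution_conj h (no_index_two hK hm) h16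
  · rw [card_cent _ ψ, hP1, hK]
  · have := card_cent_inf _ ψ ha (Fintype.card K + 1) hP2 hc
    rw [hK] at this
    exact this
  · exact three_elt _ ψ hP3

end Cfsg.Agent.Lib.Helper37_RHBridge3
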