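import Mathlib

set_option autoImplicit false

/-!
# REE-SYLP package SUBSYL (helper41, for helper37's S1156 market)

If a subgroup `C` of a finite group `G` carries the full `p`-part of `|G|` and all `p`-subgroups of `C`
are cyclic, then all Sylow `p`-subgroups of `G` are cyclic.
-/

namespace Cfsg.Agent.Lib.Helper41_ReeSylP_SUBSYL

theorem sylow_cyclic_of_subgroup {G : Type*} [Group G] [Finite G] (p : ℕ) [Fact p.Prime] (C : Subgroup G)
    (hv : (Nat.card C).factorization p = (Nat.card G).factorization p)
    (hC : ∀ Q : Subgroup ↥C, IsPGroup p Q → IsCyclic Q) (P : Sylow p G) : IsCyclic (P : Subgroup G) := by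
  -- a Sylow `p`-subgroup of `C`
  obtain ⟨Q⟩ : Nonempty (Sylow p C) := inferInstance
  have hQc : IsCyclic (Q : Subgroup C) := hC Q Q.isPGroup'
  have hQcard : Nat.card (Q : Subgroup C) = p ^ (Nat.card G).factorization p := by
    rw [Sylow.card_eq_multiplicity, hv]
  -- its image in `G`
  let R : Subgroup G := (Q : Subgroup C).map C.subtype
  have hRcard : Nat.card R = p ^ (Nat.card G).factorization p := by
    rw [← hQcard]
    exact Subgroup.card_map_of_injective C.subtype_injective
  have hRc : IsCyclic R := by
    have hsurj : Function.Surjective ((C.subtype.subgroupMap (Q : Subgroup C))) :=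
      MonoidHom.subgroupMap_surjective _ _
    exact isCyclic_of_surjective _ hsurj
  let S : Sylow p G := Sylow.ofCard R hRcard
  have hSc : IsCyclic (S : Subgroup G) := hRc
  obtain ⟨g, hg⟩ := MulAction.exists_smul_eq G S P
  have e : (S : Subgroup G) ≃* ((g • S : Sylow p G) : Subgroup G) := Sylow.equivSMul S g
  rw [hg] at e
  exact isCyclic_of_surjective e.toMonoidHom e.surjective
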