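import Mathlib

/-!
# REE-SYLP package PARITH (architect helper37): arithmetic of `|²G₂(q)| = q³ (q - 1) (q³ + 1)`, `q = 3^(2m+1)`
-/

set_option autoImplicit false

namespace Cfsg.Agent.Lib.Helper60_ReeSylP_PARITH

/-- the arithmetic for a general `q ≥ 3` prime to `p`, `p` odd -/
theorem parith_aux (q p : ℕ) (hq : 3 ≤ q) (hpq : ¬ p ∣ q) (hp2 : ¬ p ∣ 2) :
    (¬ p ∣ q ^ 3 * (q - 1) * (q ^ 3 + 1)) ∨
    ((q ^ 3 * (q - 1) * (q ^ 3 + 1)).factorization p = (q - 1).factorization p) ∨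
    ((q ^ 3 * (q - 1) * (q ^ 3 + 1)).factorization p = (q * (q ^ 2 - 1)).factorization p) ∨
    (p ∣ q ^ 2 - q + 1) := by
  by_cases h4 : p ∣ q ^ 2 - q + 1
  · right; right; right; exact h4
  have hA : q ^ 3 + 1 = (q + 1) * (q ^ 2 - q + 1) := by
    obtain ⟨k, rfl⟩ : ∃ k, q = k + 3 := ⟨q - 3, by omega⟩
    have h1 : (k + 3) ^ 2 - (k + 3) = (k + 3) * (k + 2) := by
      have : (k + 3) ^ 2 = (k + 3) * (k + 2) + (k + 3) := by ring
      omega
    rw [h1]; ring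
  have hB : q ^ 2 - 1 = (q - 1) * (q + 1) := by
    obtain ⟨k, rfl⟩ : ∃ k, q = k + 3 := ⟨q - 3, by omega⟩
    have h1 : k + 3 - 1 = k + 2 := by omega
    rw [h1]
    have : (k + 3) ^ 2 = (k + 2) * (k + 3 + 1) + 1 := by ring
    omega
  have hq1 : q - 1 ≠ 0 := by omega
  have hq2 : q + 1 ≠ 0 := by omega
  have hq3 : q ^ 2 - q + 1 ≠ 0 := by omega
  have hq0 : q ≠ 0 := by omega
  have f0 : q.factorization p = 0 := Nat.factorization_eq_zero_of_not_dvd hpq
  have f3 : (q ^ 3).factorization p = 0 := by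
    rw [Nat.factorization_pow]; simp [f0]
  have f4 : (q ^ 2 - q + 1).factorization p = 0 := Nat.factorization_eq_zero_of_not_dvd h4
  have fN : (q ^ 3 * (q - 1) * (q ^ 3 + 1)).factorization p =
      (q - 1).factorization p + (q + 1).factorization p := by
    rw [hA, Nat.factorization_mul (mul_ne_zero (pow_ne_zero _ hq0) hq1) (mul_ne_zero hq2 hq3),
      Nat.factorization_mul (pow_ne_zero _ hq0) hq1, Nat.factorization_mul hq2 hq3]
    simp only [Finsupp.coe_add, Pi.add_apply, f3, f4, zero_add, add_zero]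
  by_cases h1 : p ∣ q - 1
  · right; left
    have h5 : ¬ p ∣ q + 1 := by
      intro h
      apply hp2
      have h6 : q + 1 = (q - 1) + 2 := by omega
      rw [h6] at h
      exact (Nat.dvd_add_right h1).mp h
    rw [fN, Nat.factorization_eq_zero_of_not_dvd h5, add_zero]
  · right; right; left
    rw [fN, hB, Nat.factorization_mul hq0 (mul_ne_zero hq1 hq2), Nat.factorization_mul hq1 hq2]
    simp [f0, Nat.factorization_eq_zero_of_not_dvd h1]

theorem parith (m p : ℕ) (hp : p.Prime) (h3 : 3 < p) :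
    (¬ p ∣ (3 ^ (2 * m + 1)) ^ 3 * (3 ^ (2 * m + 1) - 1) * ((3 ^ (2 * m + 1)) ^ 3 + 1)) ∨
    (((3 ^ (2 * m + 1)) ^ 3 * (3 ^ (2 * m + 1) - 1) * ((3 ^ (2 * m + 1)) ^ 3 + 1)).factorization p =
      (3 ^ (2 * m + 1) - 1).factorization p) ∨
    (((3 ^ (2 * m + 1)) ^ 3 * (3 ^ (2 * m + 1) - 1) * ((3 ^ (2 * m + 1)) ^ 3 + 1)).factorization p =
      (3 ^ (2 * m + 1) * ((3 ^ (2 * m + 1)) ^ 2 - 1)).factorization p) ∨
    (p ∣ (3 ^ (2 * m + 1)) ^ 2 - 3 ^ (2 * m + 1) + 1) := by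
  apply parith_aux
  · calc 3 = 3 ^ 1 := by norm_num
      _ ≤ 3 ^ (2 * m + 1) := Nat.pow_le_pow_right (by norm_num) (by omega)
  · intro h
    have h1 := hp.dvd_of_dvd_pow h
    have h2 := Nat.le_of_dvd (by norm_num) h1
    omega
  · intro h
    have h2 := Nat.le_of_dvd (by norm_num) h
    omega

end Cfsg.Agent.Lib.Helper60_ReeSylP_PARITH
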