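import Mathlib
import Cfsg.Agent.S0262

set_option autoImplicit false

/-!
Package REESYLP-PSL2SYL (architect helper37, row S1156): the `p`-subgroups of `Z₂ × PSL₂(F)` are cyclic for an odd
prime `p` different from the characteristic.

Route (shorter than the sketch): every Sylow `p`-subgroup of `PSL₂(F)` is the image of a Sylow `p`-subgroup of `SL₂(F)`
(`Sylow.mapSurjective_surjective`), hence cyclic by the landed `Cfsg.Agent.S0262.result`; a `p`-subgroup `Q` of
`Z₂ × PSL₂(F)` meets the kernel of the second projection trivially, so it embeds in a Sylow `p`-subgroup of `PSL₂(F)`.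
-/

namespace Cfsg.Agent.Lib.Helper99_ReeSylP_PSL2SYL

/-- Sylow `p`-subgroups of a quotient image of a group whose Sylow `p`-subgroups are cyclic are cyclic. -/
theorem sylow_cyclic_of_surjective {G G' : Type*} [Group G] [Group G'] [Finite G] (p : ℕ) [Fact p.Prime]
    (f : G →* G') (hf : Function.Surjective f) (h : ∀ P : Sylow p G, IsCyclic (P : Subgroup G))
    (S : Sylow p G') : IsCyclic (S : Subgroup G') := by
  obtain ⟨P, rfl⟩ := Sylow.mapSurjective_surjective hf p S
  have hP := h P
  rw [Sylow.coe_mapSurjective]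
  exact isCyclic_of_surjective (f.subgroupMap (P : Subgroup G)) (f.subgroupMap_surjective _)

/-- If all Sylow `p`-subgroups are cyclic, so are all `p`-subgroups. -/
theorem pgroup_cyclic_of_sylow_cyclic {G : Type*} [Group G] (p : ℕ) [Fact p.Prime]
    (h : ∀ P : Sylow p G, IsCyclic (P : Subgroup G)) (Q : Subgroup G) (hQ : IsPGroup p Q) : IsCyclic Q := by
  obtain ⟨S, hS⟩ := hQ.exists_le_sylow
  have := h S
  exact isCyclic_of_injective (Subgroup.inclusion hS) (Subgroup.inclusion_injective hS)

/-- A `p`-subgroup, `p` odd, of `Z₂ × H` embeds in `H` by the second projection. -/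
theorem snd_injective_on {H : Type*} [Group H] (p : ℕ) [Fact p.Prime] (hp2 : p ≠ 2)
    (Q : Subgroup (Multiplicative (ZMod 2) × H)) (hQ : IsPGroup p Q) :
    Function.Injective ((MonoidHom.snd (Multiplicative (ZMod 2)) H).subgroupMap Q) := by
  rw [injective_iff_map_eq_one]
  rintro ⟨⟨a, b⟩, hab⟩ h1
  have hb : b = 1 := by
    have := congrArg Subtype.val h1
    simpa using this
  subst hb
  obtain ⟨k, hk⟩ := hQ ⟨⟨a, 1⟩, hab⟩
  have hk' : a ^ (p ^ k) = 1 := by
    have := congrArg (fun x : Q => (x : Multiplicative (ZMod 2) × H).1) hk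
    simpa using this
  have h2 : a ^ 2 = 1 := by
    have : orderOf a ∣ 2 := by
      have := orderOf_dvd_natCard a
      simpa using this
    exact orderOf_dvd_iff_pow_eq_one.mp this
  have hcop : Nat.Coprime (p ^ k) 2 := by
    apply Nat.Coprime.pow_left
    exact (Nat.coprime_primes Fact.out Nat.prime_two).mpr hp2
  have ha : a = 1 := by
    have h3 : orderOf a ∣ Nat.gcd (p ^ k) 2 :=
      Nat.dvd_gcd (orderOf_dvd_of_pow_eq_one hk') (orderOf_dvd_of_pow_eq_one h2)
    rw [hcop] at h3
    exact orderOf_eq_one_iff.mp (Nat.dvd_one.mp h3)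
  subst ha
  rfl

theorem psl2_pgroup_cyclic {F : Type*} [Field F] [Fintype F] (p0 : ℕ) [Fact p0.Prime] [CharP F p0]
    (p : ℕ) [Fact p.Prime] (hp2 : p ≠ 2) (hp : p ≠ p0)
    (Q : Subgroup (Multiplicative (ZMod 2) × Matrix.ProjectiveSpecialLinearGroup (Fin 2) F))
    (hQ : IsPGroup p Q) : IsCyclic Q := by
  have hS : ∀ S : Sylow p (Matrix.ProjectiveSpecialLinearGroup (Fin 2) F),
      IsCyclic (S : Subgroup (Matrix.ProjectiveSpecialLinearGroup (Fin 2) F)) :=
    sylow_cyclic_of_surjective p
      (QuotientGroup.mk' (Subgroup.center (Matrix.SpecialLinearGroup (Fin 2) F)))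
      (QuotientGroup.mk'_surjective _)
      (fun P => Cfsg.Agent.S0262.result p0 p hp2 hp P)
  have hQ2 : IsPGroup p (Q.map (MonoidHom.snd (Multiplicative (ZMod 2))
      (Matrix.ProjectiveSpecialLinearGroup (Fin 2) F))) := hQ.map _
  have := pgroup_cyclic_of_sylow_cyclic p hS _ hQ2
  exact isCyclic_of_injective _ (snd_injective_on p hp2 Q hQ)

end Cfsg.Agent.Lib.Helper99_ReeSylP_PSL2SYL
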