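import Cfsg.Agent.Lib.Helper37_ReeCentMain
import Cfsg.Agent.Lib.Helper20_ReeSylP_EMB7
import Cfsg.Agent.Lib.Helper20_ReeSylP_GL7CYC
import Cfsg.Agent.Lib.Helper41_ReeSylP_SUBSYL
import Cfsg.Agent.Lib.Helper60_ReeSylP_CARDC
import Cfsg.Agent.Lib.Helper60_ReeSylP_PARITH
import Cfsg.Agent.Lib.Helper99_ReeSylP_PSL2SYL

set_option autoImplicit false

/-!
Assembly for S1156 (small Ree groups: the Sylow `p`-subgroups are cyclic for `p > 3`), from the REE-SYLP packages.
-/

namespace Cfsg.Agent.Lib.Helper37_ReeSylPMain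

open Cfsg.Agent.Lib.Helper20_ReeSylP_EMB7 Cfsg.Agent.Lib.Helper20_ReeSylP_GL7CYC Cfsg.Agent.Lib.Helper41_ReeSylP_SUBSYL
  Cfsg.Agent.Lib.Helper60_ReeSylP_CARDC Cfsg.Agent.Lib.Helper60_ReeSylP_PARITH Cfsg.Agent.Lib.Helper99_ReeSylP_PSL2SYL
  Cfsg.Agent.Lib.Helper37_ReeCentMain

section asm

open Cfsg Cfsg.Lie Cfsg.Agent.Lib.Helper36_ReeFix Cfsg.Agent.Lib.Helper36_ReeH Cfsg.Agent.Lib.Helper36_ReeOrder
  Cfsg.Agent.Lib.Helper37_ReeCentDefs Cfsg.Agent.Lib.Helper36_GraphAut
  Cfsg.Agent.Lib.Helper36_GraphAutG2 Cfsg.Agent.Lib.Helper36_GraphAutG2Main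

variable {K : Type*} [Field K] [Fintype K] [CharP K 3] {m : ℕ} (hK : Fintype.card K = 3 ^ (2 * m + 1))

include hK in
theorem sylp {p : ℕ} [Fact p.Prime] (hp : 3 < p) (P : Sylow p ↥(twistedG2 K (3 ^ m))) :
    IsCyclic (P : Subgroup ↥(twistedG2 K (3 ^ m))) := by
  have hpp : p.Prime := Fact.out
  have : Finite ↥(twistedG2 K (3 ^ m)) := inferInstance
  rcases parith m p hpp hp with h | h | h | h
  · have hcard : Nat.card (P : Subgroup ↥(twistedG2 K (3 ^ m))) = 1 := by
      rw [Sylow.card_eq_multiplicity, card_twistedG2 hK, Nat.factorization_eq_zero_of_not_dvd h, pow_zero]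
    have hsub : Subsingleton (P : Subgroup ↥(twistedG2 K (3 ^ m))) :=
      (Nat.card_eq_one_iff_unique.mp hcard).1
    exact isCyclic_of_subsingleton
  · apply sylow_cyclic_of_subgroup p
      ((chevG2.diagonalSubgroup K ⊓ twistedG2 K (3 ^ m)).subgroupOf (twistedG2 K (3 ^ m)))
    · rw [card_twistedG2 hK, h,
        Nat.card_congr (Subgroup.subgroupOfEquivOfLe (inf_le_right :
          chevG2.diagonalSubgroup K ⊓ twistedG2 K (3 ^ m) ≤ twistedG2 K (3 ^ m))).toEquiv,
        card_diag_inf hK]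
    · intro Q _
      have hcyc : IsCyclic ↥((chevG2.diagonalSubgroup K ⊓ twistedG2 K (3 ^ m)).subgroupOf (twistedG2 K (3 ^ m))) := by
        have := cyclic_diag_inf hK
        exact isCyclic_of_surjective (Subgroup.subgroupOfEquivOfLe (inf_le_right :
          chevG2.diagonalSubgroup K ⊓ twistedG2 K (3 ^ m) ≤ twistedG2 K (3 ^ m))).symm
          (MulEquiv.surjective _)
      infer_instance
  · obtain ⟨e⟩ := centralizer_aa hK
    have h2 : (2 : K) ≠ 0 := by
      intro h0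
      have h3 : ((2 : ℕ) : K) = 0 := by exact_mod_cast h0
      rw [CharP.cast_eq_zero_iff K 3] at h3
      omega
    apply sylow_cyclic_of_subgroup p (Subgroup.centralizer
      ({(⟨aa K m, aa_mem hK⟩ : ↥(twistedG2 K (3 ^ m)))} : Set ↥(twistedG2 K (3 ^ m))))
    · rw [card_twistedG2 hK, h, Nat.card_congr e.toEquiv, card_prod_psl2 h2, hK]
    · intro Q hQ
      have hinj : Function.Injective e.toMonoidHom := e.injective
      have hcyc := psl2_pgroup_cyclic 3 p (by omega) (by omega) (Q.map e.toMonoidHom) (hQ.map _)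
      exact isCyclic_of_surjective (Q.equivMapOfInjective e.toMonoidHom hinj).symm (MulEquiv.surjective _)
  · obtain ⟨f, hf⟩ := exists_emb7_of_simple (K := K) (m := m) Cfsg.Agent.Lib.Helper36_GraphAutG2Main.hsimple
    have h' : p ∣ Fintype.card K ^ 2 - Fintype.card K + 1 := by rw [hK]; exact h
    have hcyc := gl7_pgroup_cyclic card_short p (by omega) h'
      ((P : Subgroup ↥(twistedG2 K (3 ^ m))).map f) (P.isPGroup'.map f)
    exact isCyclic_of_surjective ((P : Subgroup ↥(twistedG2 K (3 ^ m))).equivMapOfInjective f hf).symm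
      (MulEquiv.surjective _)

end asm

end Cfsg.Agent.Lib.Helper37_ReeSylPMain
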