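import Mathlib

/-!
# REEHALL market (architect helper26), package FROB: Frobenius permutes the roots of a polynomial
over a finite field.
-/

set_option autoImplicit false

open Polynomial

namespace Cfsg.Agent.Lib.Helper71_RH_FROB

/-- Frobenius permutes the roots (in any extension) of a polynomial over a finite field. -/
theorem frob_root {K : Type*} [Field K] [Fintype K] {L : Type*} [Field L] [Algebra K L]
    (f : K[X]) (y : L) (hy : aeval y f = 0) : aeval (y ^ Fintype.card K) f = 0 := by
  rw [← Polynomial.expand_aeval, FiniteField.expand_card, map_pow, hy]
  exact zero_pow Fintype.card_ne_zero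

theorem frob_root_iter {K : Type*} [Field K] [Fintype K] {L : Type*} [Field L] [Algebra K L]
    (f : K[X]) (y : L) (hy : aeval y f = 0) (i : ℕ) :
    aeval (y ^ (Fintype.card K) ^ i) f = 0 := by
  induction i with
  | zero => rwa [pow_zero, pow_one]
  | succ i ih =>
    rw [pow_succ, pow_mul]
    exact frob_root f _ ih

end Cfsg.Agent.Lib.Helper71_RH_FROB
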