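import Mathlib
import Cfsg.Agent.Lib.Helper71_RH_ORD6
import Cfsg.Agent.Lib.Helper71_RH_FROB
import Cfsg.Agent.Lib.Helper25_RH_EIGP
import Cfsg.Agent.Lib.Helper25_RH_NONTRIV

set_option autoImplicit false

open Polynomial

namespace Cfsg.Agent.Lib.Helper92_RH_ROOTS


theorem charP_three {K : Type*} [Field K] [Fintype K] {m : ℕ}
    (hK : Fintype.card K = 3 ^ (2 * m + 1)) : CharP K 3 := by
  obtain ⟨n, hprime, hcard⟩ := FiniteField.card K (ringChar K)
  have h3 : ringChar K = 3 := by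
    have hdvd : ringChar K ∣ 3 ^ (2 * m + 1) := by
      rw [← hK, hcard]
      exact dvd_pow_self _ n.ne_zero
    have := (Nat.Prime.dvd_of_dvd_pow hprime hdvd)
    exact (Nat.prime_dvd_prime_iff_eq hprime Nat.prime_three).1 this
  rw [← h3]
  exact ringChar.charP K

theorem isUnit_pow_eq_pow_iff {M : Type*} [Monoid M] {x : M} (hx : IsUnit x) {n m : ℕ} :
    x ^ n = x ^ m ↔ n ≡ m [MOD orderOf x] := by
  obtain ⟨u, rfl⟩ := hx
  rw [orderOf_units, ← pow_eq_pow_iff_modEq]
  constructor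
  · intro h
    exact Units.ext (by simpa using h)
  · intro h
    have := congrArg Units.val h
    simpa using this

theorem pow_pow_inj {L : Type*} [Field L] {p q : ℕ} [Fact p.Prime] (lam : L)
    (hord : orderOf lam = p) (hq : orderOf ((q : ℕ) : ZMod p) = 6) {i j : ℕ} (hi : i < 6)
    (hj : j < 6) (h : lam ^ (q ^ i) = lam ^ (q ^ j)) : i = j := by
  have hp : p.Prime := Fact.out
  have hlamU : IsUnit lam := by
    apply IsUnit.of_pow_eq_one (n := p) _ hp.ne_zero
    rw [← hord]; exact pow_orderOf_eq_one lam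
  have h1 : q ^ i ≡ q ^ j [MOD p] := by
    rw [← hord]; exact (isUnit_pow_eq_pow_iff hlamU).1 h
  have h2 : ((q : ℕ) : ZMod p) ^ i = ((q : ℕ) : ZMod p) ^ j := by
    have := (ZMod.natCast_eq_natCast_iff _ _ _).2 h1
    push_cast at this
    exact this
  have hQU : IsUnit ((q : ℕ) : ZMod p) := by
    apply IsUnit.of_pow_eq_one (n := 6) _ (by norm_num)
    rw [← hq]; exact pow_orderOf_eq_one _
  have h3 : i ≡ j [MOD 6] := by
    rw [← hq]; exact (isUnit_pow_eq_pow_iff hQU).1 h2
  unfold Nat.ModEq at h3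
  rw [Nat.mod_eq_of_lt hi, Nat.mod_eq_of_lt hj] at h3
  exact h3

theorem roots_charpoly {K : Type*} [Field K] [Fintype K] {ι : Type*} [Fintype ι] [DecidableEq ι]
    (hι : Fintype.card ι = 7) {m p : ℕ} (hK : Fintype.card K = 3 ^ (2 * m + 1)) (hp : p.Prime)
    (hpN : p ∣ (3 ^ (2 * m + 1)) ^ 2 - 3 ^ (2 * m + 1) + 1)
    (x : Matrix ι ι K) (hx : x ^ p = 1) (hx1 : x ≠ 1) :
    ∃ lam : AlgebraicClosure K, lam ≠ 1 ∧ lam ^ p = 1 ∧
      (x.charpoly.map (algebraMap K (AlgebraicClosure K))).roots =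
        1 ::ₘ (Multiset.map (fun i : ℕ => lam ^ ((3 ^ (2 * m + 1)) ^ i)) (Multiset.range 6)) ∧
      (x.charpoly.map (algebraMap K (AlgebraicClosure K))).roots.Nodup := by
  classical
  have : Fact p.Prime := ⟨hp⟩
  have : CharP K 3 := charP_three hK
  obtain ⟨hp7, hord6⟩ := Helper71_RH_ORD6.prime_dvd_N hp hpN
  have hcop : Nat.Coprime p 3 := (Nat.coprime_primes hp Nat.prime_three).2 (by omega)
  obtain ⟨lam, hlam, hlam1⟩ :=
    Helper25_RH_NONTRIV.exists_root_ne_one (L := AlgebraicClosure K) x hcop hx hx1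
  have hlamp : lam ^ p = 1 := Helper25_RH_EIGP.root_pow_eq_one x hx lam hlam
  have hordlam : orderOf lam = p := orderOf_eq_prime hlamp hlam1
  refine ⟨lam, hlam1, hlamp, ?_⟩
  have hPmonic : (x.charpoly.map (algebraMap K (AlgebraicClosure K))).Monic :=
    (Matrix.charpoly_monic x).map _
  have hPdeg : (x.charpoly.map (algebraMap K (AlgebraicClosure K))).natDegree = 7 := by
    rw [(Matrix.charpoly_monic x).natDegree_map, Matrix.charpoly_natDegree_eq_dim, hι]
  have hPcard : Multiset.card (x.charpoly.map (algebraMap K (AlgebraicClosure K))).roots = 7 := by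
    rw [← hPdeg]
    exact IsAlgClosed.card_roots_eq_natDegree
  have hroot : ∀ y : AlgebraicClosure K, aeval y x.charpoly = 0 →
      y ∈ (x.charpoly.map (algebraMap K (AlgebraicClosure K))).roots := by
    intro y hy
    rw [Polynomial.mem_roots_map (Matrix.charpoly_monic x).ne_zero]
    rwa [← Polynomial.aeval_def]
  have hOnodup : (Multiset.map (fun i : ℕ => lam ^ ((3 ^ (2 * m + 1)) ^ i))
      (Multiset.range 6)).Nodup := by
    apply Multiset.Nodup.map_on _ (Multiset.nodup_range 6)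
    intro i hi j hj hij
    exact pow_pow_inj lam hordlam hord6 (Multiset.mem_range.1 hi) (Multiset.mem_range.1 hj) hij
  have hOsub : ∀ y ∈ (Multiset.map (fun i : ℕ => lam ^ ((3 ^ (2 * m + 1)) ^ i))
      (Multiset.range 6)), y ∈ (x.charpoly.map (algebraMap K (AlgebraicClosure K))).roots := by
    intro y hy
    obtain ⟨i, _, rfl⟩ := Multiset.mem_map.1 hy
    apply hroot
    have := Helper71_RH_FROB.frob_root_iter x.charpoly lam hlam i
    rwa [hK] at this
  have hOle := (Multiset.le_iff_subset hOnodup).2 hOsub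
  have hOcard : Multiset.card (Multiset.map (fun i : ℕ => lam ^ ((3 ^ (2 * m + 1)) ^ i))
      (Multiset.range 6)) = 6 := by simp
  obtain ⟨mu, hmu⟩ : ∃ mu, (x.charpoly.map (algebraMap K (AlgebraicClosure K))).roots -
      (Multiset.map (fun i : ℕ => lam ^ ((3 ^ (2 * m + 1)) ^ i)) (Multiset.range 6)) = {mu} := by
    apply Multiset.card_eq_one.1
    rw [Multiset.card_sub hOle, hPcard, hOcard]
  have hR : (x.charpoly.map (algebraMap K (AlgebraicClosure K))).roots =
      mu ::ₘ (Multiset.map (fun i : ℕ => lam ^ ((3 ^ (2 * m + 1)) ^ i)) (Multiset.range 6)) := by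
    have := tsub_add_cancel_of_le hOle
    rw [hmu] at this
    rw [← this, Multiset.singleton_add]
  -- the determinant
  have hdetx : x.det = 1 := by
    have h1 : x.det ^ p = 1 := by rw [← Matrix.det_pow, hx, Matrix.det_one]
    have hne : x.det ≠ 0 := by
      intro h0; rw [h0, zero_pow hp.ne_zero] at h1; exact zero_ne_one h1
    have h2 : x.det ^ (3 ^ (2 * m + 1) - 1) = 1 := by
      rw [← hK]; exact FiniteField.pow_card_sub_one_eq_one _ hne
    have hcop2 : Nat.Coprime p (3 ^ (2 * m + 1) - 1) := by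
      rw [Nat.coprime_comm]
      apply Nat.Coprime.symm
      rw [Nat.Prime.coprime_iff_not_dvd hp]
      intro hdvd
      have hq1 : 1 ≤ 3 ^ (2 * m + 1) := Nat.one_le_pow _ _ (by norm_num)
      have hN : (3 ^ (2 * m + 1)) ^ 2 - 3 ^ (2 * m + 1) + 1 =
          3 ^ (2 * m + 1) * (3 ^ (2 * m + 1) - 1) + 1 := by
        rw [Nat.mul_sub, mul_one, sq]
      rw [hN] at hpN
      have := (Nat.dvd_add_right (Dvd.dvd.mul_left hdvd _)).1 hpN
      exact hp.one_lt.ne' (Nat.dvd_one.1 this)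
    have : orderOf x.det ∣ Nat.gcd p (3 ^ (2 * m + 1) - 1) :=
      Nat.dvd_gcd (orderOf_dvd_of_pow_eq_one h1) (orderOf_dvd_of_pow_eq_one h2)
    rw [hcop2] at this
    exact orderOf_eq_one_iff.1 (Nat.dvd_one.1 this)
  have hdet : (x.map (algebraMap K (AlgebraicClosure K))).det =
      (x.charpoly.map (algebraMap K (AlgebraicClosure K))).roots.prod := by
    rw [Matrix.det_eq_prod_roots_charpoly, Matrix.charpoly_map]
  have hdet' : (x.map (algebraMap K (AlgebraicClosure K))).det = 1 := by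
    have : (x.map (algebraMap K (AlgebraicClosure K))).det =
        algebraMap K (AlgebraicClosure K) x.det := by
      rw [RingHom.map_det]; rfl
    rw [this, hdetx, map_one]
  have hOprod : (Multiset.map (fun i : ℕ => lam ^ ((3 ^ (2 * m + 1)) ^ i))
      (Multiset.range 6)).prod = 1 := by
    have : (Multiset.map (fun i : ℕ => lam ^ ((3 ^ (2 * m + 1)) ^ i)) (Multiset.range 6)).prod =
        ∏ i ∈ Finset.range 6, lam ^ ((3 ^ (2 * m + 1)) ^ i) := rfl
    rw [this, Finset.prod_pow_eq_pow_sum]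
    apply orderOf_dvd_iff_pow_eq_one.1
    rw [hordlam, ← ZMod.natCast_eq_zero_iff]
    push_cast
    have hQ6 : ((3 ^ (2 * m + 1) : ℕ) : ZMod p) ^ 6 = 1 := by
      rw [← hord6]; exact pow_orderOf_eq_one _
    have hQ1 : ((3 ^ (2 * m + 1) : ℕ) : ZMod p) ≠ 1 := by
      intro h; rw [h, orderOf_one] at hord6; omega
    have := mul_geom_sum ((3 ^ (2 * m + 1) : ℕ) : ZMod p) 6
    rw [hQ6, sub_self] at this
    have h0 := (mul_eq_zero.1 this).resolve_left (sub_ne_zero.2 hQ1)
    push_cast at h0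
    exact h0
  have hmu1 : mu = 1 := by
    rw [hdet, hR, Multiset.prod_cons, hOprod, mul_one] at hdet'
    exact hdet'
  rw [hmu1] at hR
  refine ⟨hR, ?_⟩
  rw [hR]
  refine Multiset.nodup_cons.2 ⟨?_, hOnodup⟩
  intro h1
  obtain ⟨i, _, hi⟩ := Multiset.mem_map.1 h1
  have hdvd : p ∣ (3 ^ (2 * m + 1)) ^ i := by
    rw [← hordlam]; exact orderOf_dvd_of_pow_eq_one hi
  have := hp.dvd_of_dvd_pow (hp.dvd_of_dvd_pow hdvd)
  have := (Nat.prime_dvd_prime_iff_eq hp Nat.prime_three).1 this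
  omega

end Cfsg.Agent.Lib.Helper92_RH_ROOTS
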