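import Mathlib
import Cfsg.Agent.Lib.Helper25_RH_EIGP
import Cfsg.Agent.Lib.Helper92_RH_ROOTS

set_option autoImplicit false

/-!
# REEHALL package GL7NORM (architect helper26): an element normalising `⟨x⟩`, `x` of prime order `p ∣ q² - q + 1` in
`GL₇(q)`, acts on it as a power of Frobenius.
-/

open Polynomial

namespace Cfsg.Agent.Lib.Helper50_RH_GL7NORM

/-- An element normalising `⟨x⟩` acts on it as a power of Frobenius. -/
theorem normalizer_pow {K : Type*} [Field K] [Fintype K] {ι : Type*} [Fintype ι] [DecidableEq ι]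
    (hι : Fintype.card ι = 7) {m p : ℕ} (hK : Fintype.card K = 3 ^ (2 * m + 1)) (hp : p.Prime)
    (hpN : p ∣ (3 ^ (2 * m + 1)) ^ 2 - 3 ^ (2 * m + 1) + 1)
    (x : Matrix ι ι K) (hx : x ^ p = 1) (hx1 : x ≠ 1)
    (g g' : Matrix ι ι K) (hgg' : g * g' = 1) (k : ℕ) (hk : g * x * g' = x ^ k) :
    ∃ i < 6, x ^ k = x ^ ((3 ^ (2 * m + 1)) ^ i) := by
  classical
  obtain ⟨lam, hlam1, hlamp, hroots, -⟩ := Cfsg.Agent.Lib.Helper92_RH_ROOTS.roots_charpoly hι hK hp hpN x hx hx1
  have hg'g : g' * g = 1 := mul_eq_one_comm.mp hgg'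
  -- charpoly (x ^ k) = charpoly x
  have hchar : (x ^ k).charpoly = x.charpoly := by
    rw [← hk, Matrix.charpoly_mul_comm, ← mul_assoc, hg'g, one_mul]
  -- lam is a root
  have hne : x.charpoly.map (algebraMap K (AlgebraicClosure K)) ≠ 0 :=
    Polynomial.map_ne_zero (Matrix.charpoly_monic x).ne_zero
  have hlam_root : aeval lam x.charpoly = 0 := by
    have h1 : lam ∈ (x.charpoly.map (algebraMap K (AlgebraicClosure K))).roots := by
      rw [hroots]
      apply Multiset.mem_cons_of_mem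
      rw [Multiset.mem_map]
      exact ⟨0, Multiset.mem_range.mpr (by norm_num), by simp⟩
    have h2 := (Polynomial.mem_roots hne).mp h1
    rwa [Polynomial.IsRoot.def, Polynomial.eval_map, ← Polynomial.aeval_def] at h2
  have hlamk := Cfsg.Agent.Lib.Helper25_RH_EIGP.root_pow (L := AlgebraicClosure K) x k lam hlam_root
  rw [hchar] at hlamk
  have hmem : lam ^ k ∈ (x.charpoly.map (algebraMap K (AlgebraicClosure K))).roots := by
    rw [Polynomial.mem_roots hne, Polynomial.IsRoot.def, Polynomial.eval_map, ← Polynomial.aeval_def]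
    exact hlamk
  rw [hroots, Multiset.mem_cons, Multiset.mem_map] at hmem
  have hfact : Fact p.Prime := ⟨hp⟩
  have hord : orderOf lam = p := orderOf_eq_prime hlamp hlam1
  have hlam0 : lam ≠ 0 := by
    intro h0
    rw [h0, zero_pow hp.ne_zero] at hlamp
    exact zero_ne_one hlamp
  rcases hmem with h1 | ⟨i, hi, hi2⟩
  · -- lam ^ k = 1: p ∣ k, x ^ k = 1, x = 1
    exfalso
    have hpk : p ∣ k := by rw [← hord]; exact orderOf_dvd_of_pow_eq_one h1
    obtain ⟨c, rfl⟩ := hpk
    have hxk : x ^ (p * c) = 1 := by rw [pow_mul, hx, one_pow]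
    rw [hxk] at hk
    apply hx1
    have : x = g' * (g * x * g') * g := by
      rw [← mul_assoc, ← mul_assoc, hg'g, one_mul, mul_assoc, hg'g, mul_one]
    rw [this, hk, mul_one, hg'g]
  · refine ⟨i, Multiset.mem_range.mp hi, ?_⟩
    have hmod : k ≡ (3 ^ (2 * m + 1)) ^ i [MOD p] := by
      have hu : (Units.mk0 lam hlam0) ^ k = (Units.mk0 lam hlam0) ^ ((3 ^ (2 * m + 1)) ^ i) := by
        apply Units.ext
        simpa using hi2.symm
      have hou : orderOf (Units.mk0 lam hlam0) = p := by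
        rw [← orderOf_units, Units.val_mk0, hord]
      rw [← hou]
      exact pow_eq_pow_iff_modEq.mp hu
    -- x ^ k = x ^ (q ^ i) since x ^ p = 1
    have hpow : ∀ a b : ℕ, a ≡ b [MOD p] → x ^ a = x ^ b := by
      intro a b hab
      have ha : x ^ a = x ^ (a % p) := by
        conv_lhs => rw [← Nat.div_add_mod a p, pow_add, pow_mul, hx, one_pow, one_mul]
      have hb : x ^ b = x ^ (b % p) := by
        conv_lhs => rw [← Nat.div_add_mod b p, pow_add, pow_mul, hx, one_pow, one_mul]
      rw [ha, hb, hab]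
    exact hpow _ _ hmod

end Cfsg.Agent.Lib.Helper50_RH_GL7NORM
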