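import Mathlib

set_option autoImplicit false

open Polynomial

/-!
REEHALL package CENTABS (helper89, for helper26's market): a square matrix whose characteristic polynomial has
`n` distinct roots has a commutative centraliser.
-/

namespace Cfsg.Agent.Lib.Helper89_RH_CENTABS

/-- An endomorphism commuting with `f` maps an eigenvector `b μ` of a basis of eigenvectors with distinct
eigenvalues to a multiple of itself. -/
theorem map_basis_eq_smul {L M I : Type*} [Field L] [AddCommGroup M] [Module L M] [Fintype I]
    [DecidableEq I] (b : Module.Basis I L M) (ev : I → L) (hev : Function.Injective ev)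
    (f G : M →ₗ[L] M) (hf : ∀ i, f (b i) = ev i • b i) (hG : ∀ w, G (f w) = f (G w)) (i : I) :
    G (b i) = b.coord i (G (b i)) • b i := by
  -- coordinates of `f w`
  have hcoord : ∀ (j : I) (w : M), b.coord j (f w) = ev j * b.coord j w := by
    intro j
    have : (b.coord j).comp f = ev j • b.coord j := by
      apply b.ext
      intro k
      rw [LinearMap.comp_apply, hf k, map_smul, LinearMap.smul_apply, smul_eq_mul, smul_eq_mul,
        Module.Basis.coord_apply, Module.Basis.repr_self, Finsupp.single_apply]
      split_ifs with h
      · rw [h]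
      · rw [mul_zero, mul_zero]
    intro w
    have h2 := LinearMap.congr_fun this w
    rw [LinearMap.comp_apply, LinearMap.smul_apply, smul_eq_mul] at h2
    exact h2
  set w := G (b i) with hw
  have hfw : f w = ev i • w := by
    rw [hw, ← hG, hf i, map_smul]
  have hzero : ∀ j, j ≠ i → b.coord j w = 0 := by
    intro j hji
    have h1 := hcoord j w
    rw [hfw, map_smul, smul_eq_mul] at h1
    have h2 : (ev i - ev j) * b.coord j w = 0 := by
      rw [sub_mul, h1, sub_self]
    rcases mul_eq_zero.mp h2 with h3 | h3
    · exact absurd (hev (sub_eq_zero.mp h3)) (fun e => hji e.symm)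
    · exact h3
  conv_lhs => rw [← b.sum_repr w]
  rw [Finset.sum_eq_single i]
  · rfl
  · intro j _ hji
    have := hzero j hji
    rw [Module.Basis.coord_apply] at this
    rw [this, zero_smul]
  · intro h
    exact absurd (Finset.mem_univ i) h

/-- A square matrix whose characteristic polynomial has `n` distinct roots has a commutative
centraliser. -/
theorem comm_of_nodup_roots {L : Type*} [Field L] {ι : Type*} [Fintype ι] [DecidableEq ι]
    (y : Matrix ι ι L) (hnd : y.charpoly.roots.Nodup)
    (hcard : Multiset.card y.charpoly.roots = Fintype.card ι)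
    (g h : Matrix ι ι L) (hg : g * y = y * g) (hh : h * y = y * h) : g * h = h * g := by
  classical
  rcases isEmpty_or_nonempty ι with hemp | hnon
  · exact Subsingleton.elim _ _
  set f : Module.End L (ι → L) := Matrix.toLin' y with hf
  -- index set: the roots
  let I := {μ : L // μ ∈ y.charpoly.roots.toFinset}
  have hI : Fintype.card I = Fintype.card ι := by
    rw [Fintype.card_coe, ← hcard, Multiset.toFinset_card_of_nodup hnd]
  -- eigenvectors
  have hev : ∀ μ : I, ∃ v : ι → L, f.HasEigenvector μ.1 v := by
    intro μ
    have hroot : y.charpoly.IsRoot μ.1 := by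
      have := μ.2
      rw [Multiset.mem_toFinset] at this
      exact (Polynomial.mem_roots'.mp this).2
    have : f.HasEigenvalue μ.1 := by
      rw [Module.End.hasEigenvalue_iff_isRoot_charpoly, hf, Matrix.charpoly_toLin']
      exact hroot
    exact this.exists_hasEigenvector
  choose v hv using hev
  have hli : LinearIndependent L v :=
    Module.End.eigenvectors_linearIndependent' f (fun μ : I => μ.1) Subtype.coe_injective v hv
  have hfr : Fintype.card I = Module.finrank L (ι → L) := by
    rw [hI, Module.finrank_fintype_fun_eq_card]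
  have hIne : Nonempty I := by
    rw [← Fintype.card_pos_iff, hI]
    exact Fintype.card_pos
  let b : Module.Basis I L (ι → L) := basisOfLinearIndependentOfCardEqFinrank hli hfr
  have hb : ∀ μ, b μ = v μ := fun μ => by
    simp only [b, coe_basisOfLinearIndependentOfCardEqFinrank]
  have hfb : ∀ μ : I, f (b μ) = μ.1 • b μ := fun μ => by
    rw [hb]
    exact (hv μ).apply_eq_smul
  -- the linear maps of `g`, `h`
  have comm_lin : ∀ k : Matrix ι ι L, k * y = y * k →
      ∀ w, Matrix.toLin' k (f w) = f (Matrix.toLin' k w) := by
    intro k hk w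
    rw [hf, ← LinearMap.comp_apply, ← LinearMap.comp_apply, ← Matrix.toLin'_mul,
      ← Matrix.toLin'_mul, hk]
  have hG := fun μ => map_basis_eq_smul b (fun μ : I => μ.1) Subtype.coe_injective f
    (Matrix.toLin' g) hfb (comm_lin g hg) μ
  have hH := fun μ => map_basis_eq_smul b (fun μ : I => μ.1) Subtype.coe_injective f
    (Matrix.toLin' h) hfb (comm_lin h hh) μ
  have key : Matrix.toLin' (g * h) = Matrix.toLin' (h * g) := by
    apply b.ext
    intro μ
    rw [Matrix.toLin'_mul, Matrix.toLin'_mul, LinearMap.comp_apply, LinearMap.comp_apply]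
    obtain ⟨cg, hcg⟩ : ∃ c : L, Matrix.toLin' g (b μ) = c • b μ := ⟨_, hG μ⟩
    obtain ⟨ch, hch⟩ : ∃ c : L, Matrix.toLin' h (b μ) = c • b μ := ⟨_, hH μ⟩
    rw [hch, map_smul, hcg, map_smul, hch, smul_smul, smul_smul, mul_comm]
  exact Matrix.toLin'.injective key

end Cfsg.Agent.Lib.Helper89_RH_CENTABS
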