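import Mathlib
import Cfsg.Agent.Lib.Helper92_RH_ROOTS
import Cfsg.Agent.Lib.Helper89_RH_CENTABS

/-!
REEHALL market (helper26), package GL7CENT: the centraliser in `M₇(q)` of an element of prime order
`p ∣ q² - q + 1` is commutative (ROOTS + CENTABS over the algebraic closure, then descent).
-/

set_option autoImplicit false

open Polynomial

namespace Cfsg.Agent.Lib.Helper95_RH_GL7CENT

/-- The centraliser in `M₇(q)` of an element of prime order `p ∣ q² - q + 1` is commutative. -/
theorem centralizer_comm {K : Type*} [Field K] [Fintype K] {ι : Type*} [Fintype ι] [DecidableEq ι]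
    (hι : Fintype.card ι = 7) {m p : ℕ} (hK : Fintype.card K = 3 ^ (2 * m + 1)) (hp : p.Prime)
    (hpN : p ∣ (3 ^ (2 * m + 1)) ^ 2 - 3 ^ (2 * m + 1) + 1)
    (x : Matrix ι ι K) (hx : x ^ p = 1) (hx1 : x ≠ 1)
    (g h : Matrix ι ι K) (hg : g * x = x * g) (hh : h * x = x * h) : g * h = h * g := by
  obtain ⟨lam, -, -, hroots, hnd⟩ :=
    Cfsg.Agent.Lib.Helper92_RH_ROOTS.roots_charpoly hι hK hp hpN x hx hx1
  set φ : K →+* AlgebraicClosure K := algebraMap K (AlgebraicClosure K) with hφ
  have hcp : (x.map φ).charpoly = x.charpoly.map φ := Matrix.charpoly_map x φ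
  have hnd' : (x.map φ).charpoly.roots.Nodup := by rw [hcp]; exact hnd
  have hcard : Multiset.card (x.map φ).charpoly.roots = Fintype.card ι := by
    rw [hcp, hroots, hι]
    simp
  have hg' : g.map φ * x.map φ = x.map φ * g.map φ := by
    rw [← Matrix.map_mul, ← Matrix.map_mul, hg]
  have hh' : h.map φ * x.map φ = x.map φ * h.map φ := by
    rw [← Matrix.map_mul, ← Matrix.map_mul, hh]
  have key := Cfsg.Agent.Lib.Helper89_RH_CENTABS.comm_of_nodup_roots (x.map φ) hnd' hcard
    (g.map φ) (h.map φ) hg' hh'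
  rw [← Matrix.map_mul, ← Matrix.map_mul] at key
  exact Matrix.map_injective (FaithfulSMul.algebraMap_injective K (AlgebraicClosure K)) key

end Cfsg.Agent.Lib.Helper95_RH_GL7CENT
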