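import Mathlib
import Cfsg.Agent.Lib.Helper95_RH_GL7CENT
import Cfsg.Agent.Lib.Helper50_RH_GL7NORM

set_option autoImplicit false

/-!
# REEHALL package GRP7A (architect helper26): group forms. In a group embedded in `GL₇(q)`, the centraliser of an
element `x` of prime order `p ∣ q² - q + 1` is abelian, and the sixth power of an element normalising `⟨x⟩`
centralises `x`.
-/

open Polynomial

namespace Cfsg.Agent.Lib.Helper50_RH_GRP7A

/-- `q ^ 6 ≡ 1` modulo a divisor of `q² - q + 1`. -/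
theorem pow_six_modEq {q p : ℕ} (hpN : p ∣ q ^ 2 - q + 1) : q ^ 6 ≡ 1 [MOD p] := by
  have hle : q ≤ q ^ 2 := by nlinarith [Nat.zero_le q]
  have h1 : (p : ℤ) ∣ ((q ^ 2 - q + 1 : ℕ) : ℤ) := Int.natCast_dvd_natCast.mpr hpN
  rw [Nat.cast_add, Nat.cast_sub hle] at h1
  push_cast at h1
  have h2 : ((q : ℤ) ^ 6 - 1) = ((q : ℤ) ^ 3 - 1) * ((q : ℤ) + 1) * ((q : ℤ) ^ 2 - q + 1) := by ring
  have h3 : (p : ℤ) ∣ (q : ℤ) ^ 6 - 1 := by rw [h2]; exact Dvd.dvd.mul_left h1 _
  have h4 : ((q ^ 6 : ℕ) : ℤ) ≡ ((1 : ℕ) : ℤ) [ZMOD (p : ℤ)] := by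
    push_cast
    exact (Int.modEq_iff_dvd.mpr (by simpa using (dvd_neg.mpr h3))).symm.symm
  exact Int.natCast_modEq_iff.mp h4

variable {K : Type*} [Field K] [Fintype K] {ι : Type*} [Fintype ι] [DecidableEq ι]

omit [Fintype K] in
/-- The matrix of `f x` for `x` of prime order `p`. -/
theorem mat_facts {p : ℕ} (hp : p.Prime) {G : Type*} [Group G] (f : G →* GL ι K)
    (hf : Function.Injective f) (x : G) (hx : orderOf x = p) :
    ((f x : GL ι K) : Matrix ι ι K) ^ p = 1 ∧ ((f x : GL ι K) : Matrix ι ι K) ≠ 1 := by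
  constructor
  · have h1 : x ^ p = 1 := by rw [← hx]; exact pow_orderOf_eq_one x
    have h2 : (f x) ^ p = 1 := by rw [← map_pow, h1, map_one]
    have h3 := congrArg (fun u : GL ι K => (u : Matrix ι ι K)) h2
    simpa using h3
  · intro h1
    have h2 : f x = 1 := Units.ext h1
    have h3 : x = 1 := hf (by rw [h2, map_one])
    rw [h3, orderOf_one] at hx
    exact hp.one_lt.ne hx

/-- Group form: in a group embedded in `GL₇(q)`, the centraliser of an element of prime order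
`p ∣ q² - q + 1` is abelian. -/
theorem centralizer_comm
    (hι : Fintype.card ι = 7) {m p : ℕ} (hK : Fintype.card K = 3 ^ (2 * m + 1)) (hp : p.Prime)
    (hpN : p ∣ (3 ^ (2 * m + 1)) ^ 2 - 3 ^ (2 * m + 1) + 1)
    {G : Type*} [Group G] (f : G →* GL ι K) (hf : Function.Injective f)
    (x : G) (hx : orderOf x = p) :
    ∀ g ∈ Subgroup.centralizer ({x} : Set G), ∀ k ∈ Subgroup.centralizer ({x} : Set G),
      g * k = k * g := by
  intro g hg k hk
  obtain ⟨hX, hX1⟩ := mat_facts hp f hf x hx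
  have hg' : g * x = x * g := Subgroup.mem_centralizer_singleton_iff.mp hg
  have hk' : k * x = x * k := Subgroup.mem_centralizer_singleton_iff.mp hk
  have toMat : ∀ a b : G, a * x = x * a →
      ((f a : GL ι K) : Matrix ι ι K) * ((f x : GL ι K) : Matrix ι ι K) =
        ((f x : GL ι K) : Matrix ι ι K) * ((f a : GL ι K) : Matrix ι ι K) := by
    intro a _ ha
    have h1 : f a * f x = f x * f a := by rw [← map_mul, ha, map_mul]
    have h2 := congrArg (fun u : GL ι K => (u : Matrix ι ι K)) h1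
    simpa using h2
  have h1 := Cfsg.Agent.Lib.Helper95_RH_GL7CENT.centralizer_comm hι hK hp hpN _ hX hX1 _ _ (toMat g g hg') (toMat k k hk')
  apply hf
  apply Units.ext
  rw [map_mul, map_mul]
  simpa using h1

/-- Group form: the sixth power of an element normalising `⟨x⟩` centralises `x`. -/
theorem pow_six_mem_centralizer
    (hι : Fintype.card ι = 7) {m p : ℕ} (hK : Fintype.card K = 3 ^ (2 * m + 1)) (hp : p.Prime)
    (hpN : p ∣ (3 ^ (2 * m + 1)) ^ 2 - 3 ^ (2 * m + 1) + 1)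
    {G : Type*} [Group G] (f : G →* GL ι K) (hf : Function.Injective f)
    (x : G) (hx : orderOf x = p) :
    ∀ g ∈ Subgroup.normalizer (Subgroup.zpowers x : Set G),
      g ^ 6 ∈ Subgroup.centralizer ({x} : Set G) := by
  intro g hg
  obtain ⟨hX, hX1⟩ := mat_facts hp f hf x hx
  have hxp : x ^ p = 1 := by rw [← hx]; exact pow_orderOf_eq_one x
  have hfin : IsOfFinOrder x := isOfFinOrder_iff_pow_eq_one.mpr ⟨p, hp.pos, hxp⟩
  -- g x g⁻¹ = x ^ k with k a natural number
  have h1 : g * x * g⁻¹ ∈ Subgroup.zpowers x :=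
    (Subgroup.mem_normalizer_iff.mp hg x).mp (Subgroup.mem_zpowers x)
  have h1' : g * x * g⁻¹ ∈ Submonoid.powers x := by
    have := hfin.powers_eq_zpowers
    rw [← SetLike.mem_coe, this]
    exact h1
  obtain ⟨k, hk⟩ := Submonoid.mem_powers_iff _ _ |>.mp h1'
  -- matrices
  have hGG' : ((f g : GL ι K) : Matrix ι ι K) * ((f g⁻¹ : GL ι K) : Matrix ι ι K) = 1 := by
    have h2 : f g * f g⁻¹ = 1 := by rw [← map_mul, mul_inv_cancel, map_one]
    have h3 := congrArg (fun u : GL ι K => (u : Matrix ι ι K)) h2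
    simpa using h3
  have hconj : ((f g : GL ι K) : Matrix ι ι K) * ((f x : GL ι K) : Matrix ι ι K) *
      ((f g⁻¹ : GL ι K) : Matrix ι ι K) = ((f x : GL ι K) : Matrix ι ι K) ^ k := by
    have h2 : f g * f x * f g⁻¹ = (f x) ^ k := by rw [← map_mul, ← map_mul, ← hk, map_pow]
    have h3 := congrArg (fun u : GL ι K => (u : Matrix ι ι K)) h2
    simpa using h3
  obtain ⟨i, -, hi⟩ := Cfsg.Agent.Lib.Helper50_RH_GL7NORM.normalizer_pow hι hK hp hpN _ hX hX1 _ _ hGG' k hconj
  -- back to the group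
  set e : ℕ := (3 ^ (2 * m + 1)) ^ i with he
  have hxe : g * x * g⁻¹ = x ^ e := by
    rw [← hk]
    apply hf
    apply Units.ext
    rw [map_pow, map_pow]
    simpa using hi
  -- iterate
  have hiter : ∀ n : ℕ, g ^ n * x * (g ^ n)⁻¹ = x ^ (e ^ n) := by
    intro n
    induction n with
    | zero => simp
    | succ n ih =>
      have h2 : g ^ (n + 1) * x * (g ^ (n + 1))⁻¹ = g * (g ^ n * x * (g ^ n)⁻¹) * g⁻¹ := by
        rw [pow_succ']
        group
      rw [h2, ih]
      have h3 : g * x ^ (e ^ n) * g⁻¹ = (g * x * g⁻¹) ^ (e ^ n) := by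
        rw [conj_pow]
      rw [h3, hxe, ← pow_mul, pow_succ, mul_comm]
  have h6 : e ^ 6 ≡ 1 [MOD p] := by
    have h2 : (3 ^ (2 * m + 1)) ^ 6 ≡ 1 [MOD p] := pow_six_modEq hpN
    have h3 : e ^ 6 = ((3 ^ (2 * m + 1)) ^ 6) ^ i := by
      rw [he, ← pow_mul, ← pow_mul (3 ^ (2 * m + 1)), mul_comm i 6]
    rw [h3]
    simpa using h2.pow i
  have hx6 : x ^ (e ^ 6) = x := by
    have h2 : x ^ (e ^ 6) = x ^ 1 := by
      rw [pow_eq_pow_iff_modEq, hx]
      exact h6
    rw [h2, pow_one]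
  rw [Subgroup.mem_centralizer_singleton_iff]
  have h7 := hiter 6
  rw [hx6] at h7
  have h8 : g ^ 6 * x = g ^ 6 * x * (g ^ 6)⁻¹ * g ^ 6 := by group
  rw [h8, h7]

end Cfsg.Agent.Lib.Helper50_RH_GRP7A
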