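import Mathlib

/-!
REEHALL market (helper26), package GRP7B, group-theoretic core (Mathlib only): if the sixth power of every
element of `N(⟨x⟩)` centralises `x` and `x` has prime order, then `|N(⟨x⟩)|` divides `6 |C(x)|`.
-/

set_option autoImplicit false

namespace Cfsg.Agent.Lib.Helper95_RH_GRP7Baux

/-- the centraliser of a cyclic subgroup is the centraliser of its generator -/
theorem centralizer_zpowers {G : Type*} [Group G] (x : G) :
    Subgroup.centralizer ((Subgroup.zpowers x : Subgroup G) : Set G) =
      Subgroup.centralizer ({x} : Set G) := by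
  rw [Subgroup.zpowers_eq_closure, Subgroup.centralizer_closure]

/-- a cyclic group in which all sixth powers are trivial has order dividing 6 -/
theorem card_dvd_six_of_cyclic {A : Type*} [Group A] [IsCyclic A] (h : ∀ a : A, a ^ 6 = 1) :
    Nat.card A ∣ 6 := by
  rw [← IsCyclic.exponent_eq_card]
  exact Monoid.exponent_dvd_of_forall_pow_eq_one h

/-- abstract form: if the sixth power of every element of `N(⟨x⟩)` centralises `x` and `x` has prime order,
then `|N(⟨x⟩)|` divides `6 |C(x)|`. -/
theorem card_normalizer_dvd_aux {G : Type*} [Group G] [Finite G] {p : ℕ} (hp : p.Prime)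
    (x : G) (hx : orderOf x = p)
    (h6 : ∀ g ∈ Subgroup.normalizer (Subgroup.zpowers x : Set G),
      g ^ 6 ∈ Subgroup.centralizer ({x} : Set G)) :
    Nat.card ↥(Subgroup.normalizer (Subgroup.zpowers x : Set G)) ∣
      6 * Nat.card ↥(Subgroup.centralizer ({x} : Set G)) := by
  set H : Subgroup G := Subgroup.zpowers x with hH
  set φ := H.normalizerMonoidHom with hφ
  have hker : φ.ker = (Subgroup.centralizer ({x} : Set G)).subgroupOf
      (Subgroup.normalizer (H : Set G)) := by
    rw [hφ, Subgroup.normalizerMonoidHom_ker, hH, centralizer_zpowers]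
  have hCN : Subgroup.centralizer ({x} : Set G) ≤ Subgroup.normalizer (H : Set G) := by
    rw [← centralizer_zpowers]
    exact Subgroup.centralizer_le_normalizer _
  have hcardker : Nat.card φ.ker = Nat.card ↥(Subgroup.centralizer ({x} : Set G)) := by
    rw [hker]
    exact Nat.card_congr (Subgroup.subgroupOfEquivOfLe hCN).toEquiv
  have hcardH : Nat.card H = p := by rw [hH, Nat.card_zpowers, hx]
  have : Fact (Nat.card H).Prime := ⟨by rw [hcardH]; exact hp⟩
  have : IsCyclic H := by rw [hH]; infer_instance
  have : IsCyclic (MulAut H) :=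
    isCyclic_of_surjective (IsCyclic.mulAutMulEquiv H).symm (IsCyclic.mulAutMulEquiv H).symm.surjective
  have hrange : Nat.card φ.range ∣ 6 := by
    apply card_dvd_six_of_cyclic
    rintro ⟨a, g, rfl⟩
    apply Subtype.ext
    show (φ g) ^ 6 = 1
    rw [← map_pow, ← MonoidHom.mem_ker, hker, Subgroup.mem_subgroupOf]
    exact h6 _ g.2
  have hidx : φ.ker.index = Nat.card φ.range := Subgroup.index_ker φ
  have hmul := Subgroup.card_mul_index φ.ker
  rw [hidx, hcardker] at hmul
  rw [← hmul, mul_comm]
  exact Nat.mul_dvd_mul_right hrange _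

end Cfsg.Agent.Lib.Helper95_RH_GRP7Baux
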