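import Cfsg.Agent.Lib.Helper37_RHBridge2
import Cfsg.Agent.Lib.Helper37_RHBridge3
import Cfsg.Agent.Lib.Helper37_ReeSylPMain
import Cfsg.Agent.Lib.Helper50_RH_GRP7A
import Cfsg.Agent.Lib.Helper95_RH_GRP7Baux

set_option autoImplicit false

/-!
# Helper37_RHBridge4: the small Ree group satisfies the hypotheses `RH` (REEHALL bridge, part 4)
-/

namespace Cfsg.Agent.Lib.Helper37_RHBridge4

open Cfsg Cfsg.Lie Cfsg.Agent.Lib.Helper36_ReeFix Cfsg.Agent.Lib.Helper36_ReeOrder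
  Cfsg.Agent.Lib.Helper37_ReeCentDefs Cfsg.Agent.Lib.Helper37_ReeCentMain
  Cfsg.Agent.Lib.Helper37_RHDefs Cfsg.Agent.Lib.Helper37_RHBridge1 Cfsg.Agent.Lib.Helper37_RHBridge2
  Cfsg.Agent.Lib.Helper37_RHBridge3 Cfsg.Agent.Lib.Helper20_ReeSylP_EMB7

open Subgroup MulAction

variable {K : Type*} [Field K] [Fintype K] [CharP K 3] {m : ℕ} (hK : Fintype.card K = 3 ^ (2 * m + 1))

include hK in
theorem syl2 (hm : 1 ≤ m) : ∀ S : Sylow 2 ↥(twistedG2 K (3 ^ m)), Nat.card S = 8 ∧ (∀ x ∈ S, x * x = 1) ∧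
    centralizer ((S : Subgroup ↥(twistedG2 K (3 ^ m))) : Set ↥(twistedG2 K (3 ^ m))) = S ∧
    Nat.card ↥(normalizer ((S : Subgroup ↥(twistedG2 K (3 ^ m))) : Set ↥(twistedG2 K (3 ^ m)))) = 168 := by
  intro S
  obtain ⟨e⟩ := centralizer_aa hK
  have harith := Cfsg.Agent.Lib.Helper8_ReeInv_ARITH.arith m
  have h16 : ¬ 16 ∣ Nat.card ↥(twistedG2 K (3 ^ m)) := by
    rw [card_twistedG2 hK]
    exact harith.1
  have hq : Fintype.card K % 8 = 3 ∨ Fintype.card K % 8 = 5 := by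
    left
    rw [hK]
    exact harith.2
  obtain ⟨h1, h2⟩ := Cfsg.Agent.Lib.Helper8_ReeInv_SYL2.sylow_of_iso hq _ e h16 S
  obtain ⟨h3, h4⟩ := sylow_two_normalizer hK hm S
  exact ⟨h1, h2, h3, h4⟩

include hK in
theorem gl7_cent : ∀ p : ℕ, p.Prime → p ∣ (Q m) ^ 2 - Q m + 1 → ∀ x : ↥(twistedG2 K (3 ^ m)), orderOf x = p →
    ∀ g ∈ centralizer ({x} : Set ↥(twistedG2 K (3 ^ m))), ∀ k ∈ centralizer ({x} : Set ↥(twistedG2 K (3 ^ m))),
      g * k = k * g := by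
  intro p hp hpN x hx
  obtain ⟨f, hf⟩ := exists_emb7_of_simple (K := K) (m := m) Cfsg.Agent.Lib.Helper36_GraphAutG2Main.hsimple
  exact Cfsg.Agent.Lib.Helper50_RH_GRP7A.centralizer_comm card_short hK hp hpN f hf x hx

include hK in
theorem gl7_norm : ∀ p : ℕ, p.Prime → p ∣ (Q m) ^ 2 - Q m + 1 → ∀ x : ↥(twistedG2 K (3 ^ m)), orderOf x = p →
    Nat.card ↥(normalizer ((zpowers x : Subgroup ↥(twistedG2 K (3 ^ m))) : Set ↥(twistedG2 K (3 ^ m)))) ∣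
      6 * Nat.card ↥(centralizer ({x} : Set ↥(twistedG2 K (3 ^ m)))) := by
  intro p hp hpN x hx
  obtain ⟨f, hf⟩ := exists_emb7_of_simple (K := K) (m := m) Cfsg.Agent.Lib.Helper36_GraphAutG2Main.hsimple
  exact Cfsg.Agent.Lib.Helper95_RH_GRP7Baux.card_normalizer_dvd_aux hp x hx
    (Cfsg.Agent.Lib.Helper50_RH_GRP7A.pow_six_mem_centralizer card_short hK hp hpN f hf x hx)

include hK in
/-- The small Ree group `²G₂(q)`, `q = 3 ^ (2 m + 1)`, `m ≥ 1`, acting on the cosets of `B¹`, satisfies `RH`. -/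
theorem rh_of_ree (hm : 1 ≤ m) : RH ↥(twistedG2 K (3 ^ m)) (↥(twistedG2 K (3 ^ m)) ⧸ B1 K m) m where
  hm := hm
  card_G := card_twistedG2 hK
  card_Ω := card_Om hK
  two_trans := two_trans hK
  stab3_le := stab3_le hK
  stab3_ex := stab3_ex hK
  unip := unip_full hK
  stab2 := stab2 hK
  invol := invol hK hm
  syl2 := syl2 hK hm
  sylp := fun _ _ hp P => Cfsg.Agent.Lib.Helper37_ReeSylPMain.sylp hK hp P
  main1 := fun p hp hp2 hd x hx => Cfsg.Agent.Lib.Helper37_ReeTorMain.main1 hK p hp hp2 hd x hx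
  main2 := fun p hp hp2 hd x hx => Cfsg.Agent.Lib.Helper37_ReeTorMain.main2 hK hm p hp hp2 hd x hx
  gl7_cent := gl7_cent hK
  gl7_norm := gl7_norm hK

end Cfsg.Agent.Lib.Helper37_RHBridge4
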