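import Mathlib
import Cfsg.Agent.Lib.Helper26_RHTorDefs
import Cfsg.Agent.Lib.Helper71_RH_ORD6
import Cfsg.Agent.Lib.Helper39_RH_TOR8Core
import Cfsg.Agent.Lib.Helper82_RH_TOR1
import Cfsg.Agent.Lib.Helper79_RH_TOR2
import Cfsg.Agent.Lib.Helper82_RH_TOR4
import Cfsg.Agent.Lib.Helper50_RH_TOR6B
import Cfsg.Agent.Lib.Helper26_RH_TOR7

/-!
# REEHALL market (architect helper26), package TOR8B: cyclic subgroups of the same order
dividing `a` or `b` are conjugate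
-/

set_option autoImplicit false

open Cfsg.Agent.Lib.Helper26_RHTorDefs

namespace Cfsg.Agent.Lib.Helper39_RH_TOR8B

open Cfsg.Agent.Lib.Helper39_RH_TOR8Core

/-- Abstract form of TOR8B. -/
theorem cyclic_conj_abs {G : Type*} [Group G] [Finite G] {N M a b : ℕ} (H : TorHyp G N M)
    (hab : Nat.Coprime a b) (hN : N = a * b)
    (h2 : ∀ C : Subgroup G, IsTorus N C → Nat.card ↥C = a ∨ Nat.card ↥C = b)
    {c : ℕ} (hc : c = a ∨ c = b) (d : ℕ) (hd : d ∣ c)
    (A B : Subgroup G) (hA : IsCyclic ↥A) (hB : IsCyclic ↥B) (hAd : Nat.card ↥A = d)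
    (hBd : Nat.card ↥B = d) : ∃ g : G, B = A.map (MulAut.conj g).toMonoidHom := by
  by_cases hd1 : d = 1
  · subst hd1
    refine ⟨1, ?_⟩
    rw [Subgroup.card_eq_one.mp hAd, Subgroup.card_eq_one.mp hBd, Subgroup.map_bot]
  -- generators
  obtain ⟨y, hy⟩ := IsCyclic.exists_ofOrder_eq_natCard (α := ↥A)
  obtain ⟨z, hz⟩ := IsCyclic.exists_ofOrder_eq_natCard (α := ↥B)
  rw [hAd] at hy
  rw [hBd] at hz
  have hy1 : (y : G) ≠ 1 := by
    intro h
    have : y = 1 := Subtype.ext h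
    rw [this, orderOf_one] at hy
    exact hd1 hy.symm
  have hz1 : (z : G) ≠ 1 := by
    intro h
    have : z = 1 := Subtype.ext h
    rw [this, orderOf_one] at hz
    exact hd1 hz.symm
  have hyo : orderOf (y : G) = d := by rw [Subgroup.orderOf_coe]; exact hy
  have hzo : orderOf (z : G) = d := by rw [Subgroup.orderOf_coe]; exact hz
  obtain ⟨hTy, hTyc⟩ := card_centralizer H hab hN h2 hc hy1 (hyo ▸ hd)
  obtain ⟨hTz, hTzc⟩ := card_centralizer H hab hN h2 hc hz1 (hzo ▸ hd)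
  -- `A ≤ C(y)` and `B ≤ C(z)` since tori are abelian
  have hAle : A ≤ Subgroup.centralizer ({(y : G)} : Set G) := by
    intro x hx
    rw [Subgroup.mem_centralizer_iff]
    intro w hw
    rw [Set.mem_singleton_iff.mp hw]
    have hcomm : Std.Commutative (α := ↥A) (· * ·) :=
      (IsCyclic.isMulCommutative (α := ↥A)).is_comm
    have := hcomm.comm y ⟨x, hx⟩
    exact congrArg Subtype.val this
  have hBle : B ≤ Subgroup.centralizer ({(z : G)} : Set G) := by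
    intro x hx
    rw [Subgroup.mem_centralizer_iff]
    intro w hw
    rw [Set.mem_singleton_iff.mp hw]
    have hcomm : Std.Commutative (α := ↥B) (· * ·) :=
      (IsCyclic.isMulCommutative (α := ↥B)).is_comm
    have := hcomm.comm z ⟨x, hx⟩
    exact congrArg Subtype.val this
  have hc1 : c ≠ 1 := by
    rintro rfl
    exact hd1 (Nat.dvd_one.mp hd)
  have hncop : ¬ Nat.Coprime (Nat.card ↥(Subgroup.centralizer ({(y : G)} : Set G)))
      (Nat.card ↥(Subgroup.centralizer ({(z : G)} : Set G))) := by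
    rw [hTyc, hTzc, Nat.coprime_self]
    exact hc1
  obtain ⟨g, hg⟩ := Helper82_RH_TOR4.conj_of_not_coprime H hTy hTz hncop
  refine ⟨g, ?_⟩
  haveI : IsCyclic ↥(Subgroup.centralizer ({(z : G)} : Set G)) := Helper79_RH_TOR2.isCyclic H hTz
  apply cyc_unique_le (Subgroup.centralizer ({(z : G)} : Set G)) _ _ hBle
  · rw [hg]
    exact Subgroup.map_mono hAle
  · rw [hBd]
    have : Nat.card ↥(A.map (MulAut.conj g).toMonoidHom) = Nat.card ↥A :=
      Nat.card_congr (A.equivMapOfInjective _ (MulAut.conj g).injective).toEquiv.symm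
    rw [this, hAd]

/-- Shape of S2358 (iii), (iv). -/
theorem cyclic_conj {G : Type*} [Group G] [Finite G] {m : ℕ} (hm : 1 ≤ m)
    (H : TorHyp G ((3 ^ (2 * m + 1)) ^ 2 - 3 ^ (2 * m + 1) + 1)
      ((3 ^ (2 * m + 1)) ^ 3 * (3 ^ (2 * m + 1) + 1) * (3 ^ (2 * m + 1) - 1)))
    (hT : 3 * Nat.card {g : G // g ≠ 1 ∧ orderOf g ∣ (3 ^ (2 * m + 1)) ^ 2 - 3 ^ (2 * m + 1) + 1} =
      (3 ^ (2 * m + 1)) ^ 4 * (3 ^ (2 * m + 1) + 1) * (3 ^ (2 * m + 1) - 1) *
        (3 ^ (2 * m + 1) - 2)) (d : ℕ)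
    (hd : d ∣ 3 ^ (2 * m + 1) - 3 ^ (m + 1) + 1 ∨ d ∣ 3 ^ (2 * m + 1) + 3 ^ (m + 1) + 1)
    (A B : Subgroup G) (hA : IsCyclic ↥A) (hB : IsCyclic ↥B) (hAd : Nat.card ↥A = d)
    (hBd : Nat.card ↥B = d) : ∃ g : G, B = A.map (MulAut.conj g).toMonoidHom := by
  obtain ⟨-, h2⟩ := Helper26_RH_TOR7.two_classes hm H hT
  rcases hd with hd | hd
  · exact cyclic_conj_abs H (Helper71_RH_ORD6.coprime_ab m) (Helper71_RH_ORD6.N_eq m) h2
      (Or.inl rfl) d hd A B hA hB hAd hBd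
  · exact cyclic_conj_abs H (Helper71_RH_ORD6.coprime_ab m) (Helper71_RH_ORD6.N_eq m) h2
      (Or.inr rfl) d hd A B hA hB hAd hBd

end Cfsg.Agent.Lib.Helper39_RH_TOR8B
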