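import Mathlib
import Cfsg.Agent.Lib.Helper26_RHTorDefs
import Cfsg.Agent.Lib.Helper71_RH_ORD6
import Cfsg.Agent.Lib.Helper39_RH_TOR8Core
import Cfsg.Agent.Lib.Helper82_RH_TOR1
import Cfsg.Agent.Lib.Helper79_RH_TOR2
import Cfsg.Agent.Lib.Helper82_RH_TOR4
import Cfsg.Agent.Lib.Helper50_RH_TOR6B
import Cfsg.Agent.Lib.Helper26_RH_TOR7

/-!
# REEHALL market (architect helper26), package TOR8D: the element orders dividing `N`
-/

set_option autoImplicit false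

open Cfsg.Agent.Lib.Helper26_RHTorDefs

namespace Cfsg.Agent.Lib.Helper39_RH_TOR8D

/-- Shape of S1159, the orders dividing `N`. -/
theorem order_dvd {G : Type*} [Group G] [Finite G] {m : ℕ} (hm : 1 ≤ m)
    (H : TorHyp G ((3 ^ (2 * m + 1)) ^ 2 - 3 ^ (2 * m + 1) + 1)
      ((3 ^ (2 * m + 1)) ^ 3 * (3 ^ (2 * m + 1) + 1) * (3 ^ (2 * m + 1) - 1)))
    (hT : 3 * Nat.card {g : G // g ≠ 1 ∧ orderOf g ∣ (3 ^ (2 * m + 1)) ^ 2 - 3 ^ (2 * m + 1) + 1} =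
      (3 ^ (2 * m + 1)) ^ 4 * (3 ^ (2 * m + 1) + 1) * (3 ^ (2 * m + 1) - 1) *
        (3 ^ (2 * m + 1) - 2)) (g : G)
    (hg : orderOf g ∣ (3 ^ (2 * m + 1)) ^ 2 - 3 ^ (2 * m + 1) + 1) :
    orderOf g ∣ 3 ^ (2 * m + 1) - 3 ^ (m + 1) + 1 ∨
      orderOf g ∣ 3 ^ (2 * m + 1) + 3 ^ (m + 1) + 1 := by
  obtain ⟨-, h2⟩ := Helper26_RH_TOR7.two_classes hm H hT
  by_cases hg1 : g = 1
  · left
    rw [hg1, orderOf_one]
    exact one_dvd _
  have hTor := Helper82_RH_TOR1.isTorus_centralizer H g hg1 hg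
  have hmem : g ∈ Subgroup.centralizer ({g} : Set G) := by
    rw [Subgroup.mem_centralizer_iff]
    intro x hx
    rw [Set.mem_singleton_iff.mp hx]
  have hdvd : orderOf g ∣ Nat.card ↥(Subgroup.centralizer ({g} : Set G)) := by
    have := orderOf_dvd_natCard (⟨g, hmem⟩ : ↥(Subgroup.centralizer ({g} : Set G)))
    rwa [Subgroup.orderOf_mk] at this
  rcases h2 _ hTor with h | h
  · left; rwa [h] at hdvd
  · right; rwa [h] at hdvd

theorem exists_order {G : Type*} [Group G] [Finite G] {m : ℕ} (hm : 1 ≤ m)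
    (H : TorHyp G ((3 ^ (2 * m + 1)) ^ 2 - 3 ^ (2 * m + 1) + 1)
      ((3 ^ (2 * m + 1)) ^ 3 * (3 ^ (2 * m + 1) + 1) * (3 ^ (2 * m + 1) - 1)))
    (hT : 3 * Nat.card {g : G // g ≠ 1 ∧ orderOf g ∣ (3 ^ (2 * m + 1)) ^ 2 - 3 ^ (2 * m + 1) + 1} =
      (3 ^ (2 * m + 1)) ^ 4 * (3 ^ (2 * m + 1) + 1) * (3 ^ (2 * m + 1) - 1) *
        (3 ^ (2 * m + 1) - 2)) (d : ℕ)
    (hd : d ∣ 3 ^ (2 * m + 1) - 3 ^ (m + 1) + 1 ∨ d ∣ 3 ^ (2 * m + 1) + 3 ^ (m + 1) + 1) :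
    ∃ g : G, orderOf g = d := by
  obtain ⟨h1, -⟩ := Helper26_RH_TOR7.two_classes hm H hT
  have key : ∀ c ∈ ({3 ^ (2 * m + 1) - 3 ^ (m + 1) + 1, 3 ^ (2 * m + 1) + 3 ^ (m + 1) + 1} : Set ℕ),
      d ∣ c → ∃ g : G, orderOf g = d := by
    intro c hc hdc
    obtain ⟨A, hA, hAc, -⟩ := h1 c hc
    haveI : IsCyclic ↥A := Helper79_RH_TOR2.isCyclic H hA
    obtain ⟨y, hy⟩ := IsCyclic.exists_ofOrder_eq_natCard (α := ↥A)
    rw [hAc] at hy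
    have hcpos : 0 < c := by
      rw [← hAc]; exact Nat.card_pos
    have hdpos : 0 < d := Nat.pos_of_dvd_of_pos hdc hcpos
    obtain ⟨e, he⟩ := hdc
    have hepos : 0 < e := by
      rcases Nat.eq_zero_or_pos e with h | h
      · rw [h, Nat.mul_zero] at he; omega
      · exact h
    refine ⟨((y ^ e : ↥A) : G), ?_⟩
    rw [Subgroup.orderOf_coe, orderOf_pow_of_dvd hepos.ne' (by rw [hy, he]; exact Dvd.intro_left _ rfl),
      hy, he]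
    exact Nat.mul_div_cancel _ hepos
  rcases hd with hd | hd
  · exact key _ (Or.inl rfl) hd
  · exact key _ (Or.inr rfl) hd

end Cfsg.Agent.Lib.Helper39_RH_TOR8D
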