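import Mathlib
import Cfsg.Agent.Lib.Helper37_RHDefs
import Cfsg.Agent.Lib.Helper31_RH_STAB2

/-!
# REEHALL package F2358, auxiliary form (architect helper37)

`f2358_of`: the statement of package F2358 (abstract S2358) with the statements of the packages
INH (`mem_stab2_of_order`), TORT (`exists_torT`), SIGCONJ (`sig_conj`) and TOR8B (`cyclic_conj`,
already applied to `torHyp h`, `card_pi h`) as hypotheses.  The verbatim wrapper is
`Helper42_RH_F2358.f2358`.
-/

set_option autoImplicit false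

namespace Cfsg.Agent.Lib.Helper42_RH_F2358aux

open MulAction Subgroup Cfsg.Agent.Lib.Helper37_RHDefs
open scoped Pointwise

variable {G : Type*} [Group G] [Finite G] {Ω : Type*} [MulAction G Ω] {m : ℕ}

/-- in a finite cyclic group a subgroup is determined by its order -/
theorem eq_of_card_eq_cyc {J : Type*} [Group J] [Finite J] [IsCyclic J] (H K : Subgroup J)
    (h : Nat.card H = Nat.card K) : H = K := by
  classical
  let _ : Fintype J := Fintype.ofFinite J
  have hn0 : 0 < Nat.card H := Nat.card_pos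
  have key : ∀ M : Subgroup J, Nat.card M = Nat.card H →
      (M : Set J).toFinset = Finset.univ.filter (fun a : J => a ^ Nat.card H = 1) := by
    intro M hM
    apply Finset.eq_of_subset_of_card_le
    · intro x hx
      simp only [Set.mem_toFinset, SetLike.mem_coe] at hx
      simp only [Finset.mem_filter, Finset.mem_univ, true_and]
      have := pow_card_eq_one' (G := M) (x := ⟨x, hx⟩)
      rw [hM] at this
      exact congrArg Subtype.val this
    · calc _ ≤ Nat.card H := IsCyclic.card_pow_eq_one_le hn0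
        _ = Nat.card M := hM.symm
        _ = _ := by
          rw [Set.toFinset_card, Nat.card_eq_fintype_card]
          rfl
  have h1 := key H rfl
  have h2 := key K h.symm
  have : (H : Set J) = (K : Set J) := Set.toFinset_inj.mp (h1.trans h2.symm)
  exact SetLike.coe_injective this

/-- two subgroups of the same order inside a cyclic subgroup coincide -/
theorem eq_of_le_cyc {T X X' : Subgroup G} (hT : IsCyclic ↥T)
    (hX : X ≤ T) (hX' : X' ≤ T) (h : Nat.card X = Nat.card X') : X = X' := by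
  have h1 : X.subgroupOf T = X'.subgroupOf T := by
    apply eq_of_card_eq_cyc
    rw [Nat.card_congr (Subgroup.subgroupOfEquivOfLe hX).toEquiv,
      Nat.card_congr (Subgroup.subgroupOfEquivOfLe hX').toEquiv, h]
  have h2 := Subgroup.subgroupOf_inj.mp h1
  rw [inf_eq_left.mpr hX, inf_eq_left.mpr hX'] at h2
  exact h2

omit [Finite G] in
/-- a cyclic subgroup is generated by one element -/
theorem exists_zpowers_eq {A : Subgroup G} (hA : IsCyclic ↥A) : ∃ a : G, A = zpowers a := by
  obtain ⟨⟨a, haA⟩, ha⟩ := hA.exists_generator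
  refine ⟨a, le_antisymm ?_ ((zpowers_le).mpr haA)⟩
  intro x hx
  obtain ⟨k, hk⟩ := mem_zpowers_iff.mp (ha ⟨x, hx⟩)
  exact mem_zpowers_iff.mpr ⟨k, by simpa using congrArg Subtype.val hk⟩

omit [Finite G] in
/-- the order of a conjugate subgroup -/
theorem card_map_conj (A : Subgroup G) (c : G) :
    Nat.card ↥(A.map (MulAut.conj c).toMonoidHom) = Nat.card ↥A :=
  Subgroup.card_map_of_injective (MulAut.conj c).injective

omit [Finite G] in
/-- composing conjugations -/
theorem map_conj_map_conj (A : Subgroup G) (c c' : G) :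
    (A.map (MulAut.conj c).toMonoidHom).map (MulAut.conj c').toMonoidHom =
      A.map (MulAut.conj (c' * c)).toMonoidHom := by
  rw [Subgroup.map_map]
  congr 1
  ext z
  simp [mul_assoc]

omit [Finite G] in
theorem map_conj_inv_map_conj (B : Subgroup G) (c : G) :
    (B.map (MulAut.conj c).toMonoidHom).map (MulAut.conj c⁻¹).toMonoidHom = B := by
  rw [map_conj_map_conj, inv_mul_cancel]
  ext z
  simp

/-- `q ≡ 3 (mod 4)` -/
theorem Q_mod_four (m : ℕ) : Q m % 4 = 3 := by
  have h9 : 9 ^ m % 4 = 1 := by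
    rw [Nat.pow_mod]
    norm_num
  have hQ : Q m = 3 * 9 ^ m := by
    show 3 ^ (2 * m + 1) = 3 * 9 ^ m
    rw [pow_succ, pow_mul]
    norm_num
    ring
  rw [hQ]
  omega

/-- The statement of package F2358 from those of INH, TORT, SIGCONJ and TOR8B. -/
theorem f2358_of (h : RH G Ω m)
    (hINH : ∀ g : G, orderOf g ∣ Q m - 1 → 2 < orderOf g →
      ∃ x y : Ω, x ≠ y ∧ g • x = x ∧ g • y = y)
    (hTORT : ∃ D T V : Subgroup G, TorT m D T V)
    (hSIG : ∀ D T V : Subgroup G, TorT m D T V → ∀ g : G, g ≠ 1 →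
      (∀ p : ℕ, p.Prime → p ∣ orderOf g → p ∣ (Q m + 1) / 4) → ∃ c : G, c * g * c⁻¹ ∈ T)
    (h8B : ∀ d : ℕ,
      (d ∣ 3 ^ (2 * m + 1) - 3 ^ (m + 1) + 1 ∨ d ∣ 3 ^ (2 * m + 1) + 3 ^ (m + 1) + 1) →
      ∀ A B : Subgroup G, IsCyclic ↥A → IsCyclic ↥B → Nat.card ↥A = d → Nat.card ↥B = d →
        ∃ g : G, B = A.map (MulAut.conj g).toMonoidHom)
    (d : ℕ)
    (hd : d ∣ (3 ^ (2 * m + 1) - 1) / 2 ∨ d ∣ (3 ^ (2 * m + 1) + 1) / 4 ∨
      d ∣ 3 ^ (2 * m + 1) - 3 ^ (m + 1) + 1 ∨ d ∣ 3 ^ (2 * m + 1) + 3 ^ (m + 1) + 1)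
    (A B : Subgroup G) (hA : IsCyclic A) (hB : IsCyclic B) (hAd : Nat.card A = d)
    (hBd : Nat.card B = d) :
    ∃ g : G, B = A.map (MulAut.conj g).toMonoidHom := by
  by_cases hd1 : d = 1
  · refine ⟨1, ?_⟩
    rw [hd1] at hAd hBd
    rw [Subgroup.card_eq_one.mp hAd, Subgroup.card_eq_one.mp hBd, Subgroup.map_bot]
  have hd0 : 0 < d := by
    rw [← hAd]
    exact Nat.card_pos
  have hd2 : 1 < d := by omega
  obtain ⟨a, rfl⟩ := exists_zpowers_eq hA
  obtain ⟨b, rfl⟩ := exists_zpowers_eq hB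
  have hoa : orderOf a = d := by rw [← hAd, Nat.card_zpowers]
  have hob : orderOf b = d := by rw [← hBd, Nat.card_zpowers]
  rcases hd with hd | hd | hd
  · -- `d ∣ (q - 1) / 2`
    have hQ4 := Q_mod_four m
    have hd' : d ∣ (Q m - 1) / 2 := hd
    have hodd : Odd ((Q m - 1) / 2) := by
      rw [Nat.odd_iff]
      omega
    have hdodd : Odd d := hodd.of_dvd_nat hd'
    have hd3 : 2 < d := by
      rcases hdodd with ⟨k, hk⟩
      omega
    have hdq : d ∣ Q m - 1 := by
      refine hd'.trans ⟨2, ?_⟩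
      omega
    obtain ⟨x, y, hxy, hax, hay⟩ := hINH a (hoa ▸ hdq) (hoa ▸ hd3)
    obtain ⟨x', y', hxy', hbx, hby⟩ := hINH b (hob ▸ hdq) (hob ▸ hd3)
    obtain ⟨c, hcx, hcy⟩ := h.two_trans x y x' y' hxy hxy'
    refine ⟨c, ?_⟩
    have hcyc := (Cfsg.Agent.Lib.Helper31_RH_STAB2.stab2_all h x' y' hxy').1
    have hBle : zpowers b ≤ stabilizer G x' ⊓ stabilizer G y' := by
      rw [zpowers_le]
      exact ⟨hbx, hby⟩
    have hAle : (zpowers a).map (MulAut.conj c).toMonoidHom ≤
        stabilizer G x' ⊓ stabilizer G y' := by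
      rw [MonoidHom.map_zpowers, zpowers_le]
      have hc1 : ∀ z : Ω, a • z = z → (c * a * c⁻¹) • (c • z) = c • z := by
        intro z hz
        rw [← mul_smul, mul_assoc, inv_mul_cancel, mul_one, mul_smul, hz]
      refine ⟨?_, ?_⟩
      · show (c * a * c⁻¹) • x' = x'
        rw [← hcx]
        exact hc1 x hax
      · show (c * a * c⁻¹) • y' = y'
        rw [← hcy]
        exact hc1 y hay
    refine eq_of_le_cyc hcyc hBle hAle ?_
    rw [card_map_conj, hAd, hBd]
  · -- `d ∣ (q + 1) / 4`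
    obtain ⟨D, T, V, hT⟩ := hTORT
    have hd' : d ∣ (Q m + 1) / 4 := hd
    have ha1 : a ≠ 1 := by
      rintro rfl
      rw [orderOf_one] at hoa
      omega
    have hb1 : b ≠ 1 := by
      rintro rfl
      rw [orderOf_one] at hob
      omega
    obtain ⟨c, hc⟩ := hSIG D T V hT a ha1 (fun p _ hpa => (hoa ▸ hpa).trans hd')
    obtain ⟨c', hc'⟩ := hSIG D T V hT b hb1 (fun p _ hpb => (hob ▸ hpb).trans hd')
    have hAle : (zpowers a).map (MulAut.conj c).toMonoidHom ≤ T := by
      rw [MonoidHom.map_zpowers, zpowers_le]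
      exact hc
    have hBle : (zpowers b).map (MulAut.conj c').toMonoidHom ≤ T := by
      rw [MonoidHom.map_zpowers, zpowers_le]
      exact hc'
    have hEq : (zpowers b).map (MulAut.conj c').toMonoidHom =
        (zpowers a).map (MulAut.conj c).toMonoidHom := by
      refine eq_of_le_cyc hT.cyc hBle hAle ?_
      rw [card_map_conj, card_map_conj, hAd, hBd]
    refine ⟨c'⁻¹ * c, ?_⟩
    rw [← map_conj_map_conj, ← hEq, map_conj_inv_map_conj]
  · exact h8B d hd _ _ hA hB hAd hBd

end Cfsg.Agent.Lib.Helper42_RH_F2358aux
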