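import Mathlib
import Cfsg.Agent.Lib.Helper37_RHDefs

/-!
# REEHALL package COUNT3 (architect helper37), auxiliary form

`card_order_three_aux` is `card_order_three` of `pending/helper37/REEHALL_packages.lean.txt` with the two
statements `three_elt`, `three_elt_mem` of the package SYL3 taken as hypotheses.
`card_eq_mul_of_unique_fix` is the underlying counting lemma.
-/

set_option autoImplicit false

namespace Cfsg.Agent.Lib.Helper41_RH_COUNT3aux

open MulAction Subgroup Cfsg.Agent.Lib.Helper37_RHDefs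
open scoped Pointwise

variable {G : Type*} [Group G] [Finite G] {Ω : Type*} [MulAction G Ω] {m : ℕ}

/-- Counting lemma: if every element with the conjugation invariant property `P` has a unique fixed point, the action
is transitive, and the elements with `P` fixing `o` are those of the subgroup `U` with `P`, then
`#{g | P g} = |Ω| · #{u ∈ U | P u}`. -/
theorem card_eq_mul_of_unique_fix [Finite Ω] (P : G → Prop) (o : Ω) (U : Subgroup G)
    (htr : ∀ x : Ω, ∃ c : G, c • o = x)
    (hPc : ∀ c g : G, P g → P (c * g * c⁻¹))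
    (hfix : ∀ g : G, P g → ∃! x : Ω, g • x = x)
    (hmem : ∀ g : G, P g → g • o = o → g ∈ U)
    (hUo : U ≤ stabilizer G o) :
    Nat.card {g : G // P g} = Nat.card Ω * Nat.card {u : U // P (u : G)} := by
  classical
  let _ : Fintype Ω := Fintype.ofFinite Ω
  -- pairs
  have e1 : {p : Ω × G // P p.2 ∧ p.2 • p.1 = p.1} ≃ {g : G // P g} := by
    refine Equiv.ofBijective (fun p => ⟨p.1.2, p.2.1⟩) ⟨?_, ?_⟩
    · rintro ⟨⟨x, g⟩, hP, hx⟩ ⟨⟨x', g'⟩, hP', hx'⟩ hEq
      have hg : g = g' := congrArg Subtype.val hEq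
      subst hg
      have hxx : x = x' := (hfix g hP).unique hx hx'
      subst hxx
      rfl
    · rintro ⟨g, hP⟩
      obtain ⟨x, hx, -⟩ := hfix g hP
      exact ⟨⟨(x, g), hP, hx⟩, rfl⟩
  have e2 : {p : Ω × G // P p.2 ∧ p.2 • p.1 = p.1} ≃ Σ x : Ω, {g : G // P g ∧ g • x = x} :=
    Equiv.subtypeProdEquivSigmaSubtype (fun (x : Ω) (g : G) => P g ∧ g • x = x)
  have hfib : ∀ x : Ω, Nat.card {g : G // P g ∧ g • x = x} = Nat.card {u : U // P (u : G)} := by
    intro x
    obtain ⟨c, hc⟩ := htr x
    refine Nat.card_congr ?_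
    refine
      { toFun := fun g => ⟨⟨c⁻¹ * g.1 * c, ?_⟩, ?_⟩
        invFun := fun u => ⟨c * (u.1 : G) * c⁻¹, ?_, ?_⟩
        left_inv := ?_
        right_inv := ?_ }
    · have h1 : P (c⁻¹ * g.1 * c) := by
        have := hPc c⁻¹ g.1 g.2.1
        rwa [inv_inv] at this
      apply hmem _ h1
      rw [mul_smul, mul_smul, hc, g.2.2, ← hc, inv_smul_smul]
    · have := hPc c⁻¹ g.1 g.2.1
      rwa [inv_inv] at this
    · exact hPc c _ u.2
    · have huo : (u.1 : G) • o = o := hUo u.1.2
      rw [mul_smul, mul_smul, ← hc, inv_smul_smul, huo]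
    · intro g
      apply Subtype.ext
      simp only
      group
    · intro u
      apply Subtype.ext
      apply Subtype.ext
      simp only
      group
  rw [← Nat.card_congr e1, Nat.card_congr e2, Nat.card_sigma]
  simp only [hfib]
  rw [Finset.sum_const, Finset.card_univ, smul_eq_mul, ← Nat.card_eq_fintype_card (α := Ω)]

theorem card_order_three_aux (h : RH G Ω m)
    (h3e : ∀ (g : G) (k : ℕ), g ^ 3 ^ k = 1 → g ≠ 1 → (∃! x : Ω, g • x = x) ∧ g ^ 9 = 1)
    (h3m : ∀ (o : Ω) (U : Subgroup G), Nat.card U = (Q m) ^ 3 → U ≤ stabilizer G o →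
      (∀ b ∈ stabilizer G o, ∀ u ∈ U, b * u * b⁻¹ ∈ U) →
      (∀ u ∈ U, u ≠ 1 → ∀ x : Ω, u • x = x → x = o) → ∀ (g : G) (k : ℕ), g ^ 3 ^ k = 1 → g • o = o →
      g ∈ U) :
    Nat.card {g : G // orderOf g = 3} = ((Q m) ^ 2 - 1) * ((Q m) ^ 3 + 1) ∧
    Nat.card {g : G // g ≠ 1 ∧ g ^ 9 = 1} = ((Q m) ^ 3 - 1) * ((Q m) ^ 3 + 1) := by
  classical
  obtain ⟨o, U, hUc, hUo, hUn, hUf, hU9, hU3⟩ := h.unip
  have : Finite Ω := by
    apply Nat.finite_of_card_ne_zero
    rw [h.card_Ω]
    positivity
  -- transitivity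
  have htr : ∀ x : Ω, ∃ c : G, c • o = x := by
    intro x
    by_cases hx : x = o
    · exact ⟨1, by rw [one_smul, hx]⟩
    · obtain ⟨g, hg, -⟩ := h.two_trans o x x o (Ne.symm hx) hx
      exact ⟨g, hg⟩
  constructor
  · have key := card_eq_mul_of_unique_fix (fun g : G => orderOf g = 3) o U htr
      (by
        intro c g hg
        have : orderOf (c * g * c⁻¹) = orderOf g := by
          have := (MulAut.conj c).orderOf_eq g
          rwa [MulAut.conj_apply] at this
        rw [this]; exact hg)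
      (by
        intro g hg
        have h1 : g ^ 3 ^ 1 = 1 := by rw [pow_one, ← hg]; exact pow_orderOf_eq_one g
        have h2 : g ≠ 1 := by
          rintro rfl
          rw [orderOf_one] at hg
          omega
        exact (h3e g 1 h1 h2).1)
      (by
        intro g hg hgo
        have h1 : g ^ 3 ^ 1 = 1 := by rw [pow_one, ← hg]; exact pow_orderOf_eq_one g
        exact h3m o U hUc hUo hUn hUf g 1 h1 hgo)
      hUo
    rw [key, h.card_Ω, mul_comm]
    congr 1
    rw [← hU3]
    refine Nat.card_congr (Equiv.subtypeEquivRight ?_)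
    intro u
    rw [Subgroup.orderOf_coe]
  · have key := card_eq_mul_of_unique_fix (fun g : G => g ≠ 1 ∧ g ^ 9 = 1) o U htr
      (by
        rintro c g ⟨hg1, hg9⟩
        refine ⟨?_, ?_⟩
        · intro h1
          apply hg1
          have : g = c⁻¹ * (c * g * c⁻¹) * c := by group
          rw [this, h1]
          group
        · rw [conj_pow, hg9]
          group)
      (by
        rintro g ⟨hg1, hg9⟩
        exact (h3e g 2 (by simpa using hg9) hg1).1)
      (by
        rintro g ⟨hg1, hg9⟩ hgo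
        exact h3m o U hUc hUo hUn hUf g 2 (by simpa using hg9) hgo)
      hUo
    rw [key, h.card_Ω, mul_comm]
    congr 1
    -- `#{u ∈ U | u ≠ 1 ∧ u ^ 9 = 1} = |U| - 1`
    have e3 : {u : U // (u : G) ≠ 1 ∧ (u : G) ^ 9 = 1} ≃ {u : U // u ≠ 1} := by
      refine Equiv.subtypeEquivRight ?_
      intro u
      constructor
      · rintro ⟨h1, -⟩ h2
        apply h1
        rw [h2]; rfl
      · intro h1
        refine ⟨fun h2 => h1 (Subtype.ext h2), hU9 u.1 u.2⟩
    rw [Nat.card_congr e3, ← hUc]
    let _ : Fintype U := Fintype.ofFinite U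
    rw [Nat.card_eq_fintype_card, Nat.card_eq_fintype_card, Fintype.card_subtype_compl,
      Fintype.card_subtype_eq]

end Cfsg.Agent.Lib.Helper41_RH_COUNT3aux
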