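import Mathlib
import Cfsg.Agent.Lib.Helper37_RHDefs
import Cfsg.Agent.Lib.Helper86_RH_SYL3
import Cfsg.Agent.Lib.Helper41_RH_COUNT3aux

/-!
# REEHALL package COUNT3 (architect helper37): `card_order_three`, verbatim

Statement of `pending/helper37/REEHALL_packages.lean.txt`.  Proof: `Helper41_RH_COUNT3aux.card_order_three_aux`
with `three_elt`, `three_elt_mem` of `Helper86_RH_SYL3`.
-/

set_option autoImplicit false

namespace Cfsg.Agent.Lib.Helper41_RH_COUNT3

open MulAction Subgroup Cfsg.Agent.Lib.Helper37_RHDefs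
open scoped Pointwise

variable {G : Type*} [Group G] [Finite G] {Ω : Type*} [MulAction G Ω] {m : ℕ}

/-- PK COUNT3.  The number of elements of order 3 and of non-trivial 3-elements. -/
theorem card_order_three (h : RH G Ω m) :
    Nat.card {g : G // orderOf g = 3} = ((Q m) ^ 2 - 1) * ((Q m) ^ 3 + 1) ∧
    Nat.card {g : G // g ≠ 1 ∧ g ^ 9 = 1} = ((Q m) ^ 3 - 1) * ((Q m) ^ 3 + 1) :=
  Cfsg.Agent.Lib.Helper41_RH_COUNT3aux.card_order_three_aux h
    (fun g k hg hg1 => Cfsg.Agent.Lib.Helper86_RH_SYL3.three_elt h g k hg hg1)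
    (fun o U hU hUo hUn hUf g k hg hgo =>
      Cfsg.Agent.Lib.Helper86_RH_SYL3.three_elt_mem h o U hU hUo hUn hUf g k hg hgo)

end Cfsg.Agent.Lib.Helper41_RH_COUNT3
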