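import Mathlib
import Cfsg.Agent.Lib.Helper37_RHDefs

/-!
# REEHALL package F2357A, auxiliary form (the inputs from INVCOUNT, COUNT3, ONEFIX, CARDPI as hypotheses)
-/

set_option autoImplicit false

namespace Cfsg.Agent.Lib.Helper47_RH_F2357Aaux

open MulAction Subgroup Cfsg.Agent.Lib.Helper37_RHDefs
open scoped Pointwise

/-- cardinality of a disjoint "or". -/
theorem card_or {α : Type*} [Finite α] (P R : α → Prop) (hdisj : ∀ a, P a → ¬ R a) :
    Nat.card {a // P a ∨ R a} = Nat.card {a // P a} + Nat.card {a // R a} := by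
  classical
  have hd : Disjoint P R := fun r hrp hrq a hra => hdisj a (hrp a hra) (hrq a hra)
  rw [Nat.card_congr (subtypeOrEquiv P R hd), Nat.card_sum]

/-- pure arithmetic: the three differences. -/
theorem arith_q (q N3 N6 N9 : ℕ) (hq : 1 ≤ q)
    (h3 : N3 = (q ^ 2 - 1) * (q ^ 3 + 1))
    (h39 : N3 + N9 = (q ^ 3 - 1) * (q ^ 3 + 1))
    (h369 : N3 + (N6 + N9) = (q ^ 3 + 1) * (2 * q ^ 3 - q ^ 2 - 1)) :
    N6 = q ^ 2 * (q - 1) * (q ^ 3 + 1) ∧ N9 = q ^ 2 * (q - 1) * (q ^ 3 + 1) := by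
  obtain ⟨k, rfl⟩ : ∃ k, q = k + 1 := ⟨q - 1, by omega⟩
  have e1 : (k + 1) ^ 2 - 1 = k ^ 2 + 2 * k := by
    have : (k + 1) ^ 2 = k ^ 2 + 2 * k + 1 := by ring
    omega
  have e2 : (k + 1) ^ 3 - 1 = k ^ 3 + 3 * k ^ 2 + 3 * k := by
    have : (k + 1) ^ 3 = k ^ 3 + 3 * k ^ 2 + 3 * k + 1 := by ring
    omega
  have e3 : 2 * (k + 1) ^ 3 - (k + 1) ^ 2 - 1 = 2 * k ^ 3 + 5 * k ^ 2 + 4 * k := by
    have a1 : (k + 1) ^ 3 = k ^ 3 + 3 * k ^ 2 + 3 * k + 1 := by ring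
    have a2 : (k + 1) ^ 2 = k ^ 2 + 2 * k + 1 := by ring
    omega
  rw [e1] at h3
  rw [e2] at h39
  rw [e3] at h369
  have e4 : k + 1 - 1 = k := by omega
  rw [e4]
  constructor
  · nlinarith [h3, h39, h369]
  · nlinarith [h3, h39, h369]

variable {G : Type*} [Group G] [Finite G] {Ω : Type*} [MulAction G Ω] {m : ℕ}

/-- F2357A with its five inputs (`card_invol`, `card_order_three`, `fixN_eq_one_iff`, `order_of_three_dvd`,
`card_fix_one.1`) as hypotheses. -/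
theorem f2357a_aux (m : ℕ)
    (h2 : Nat.card {g : G // orderOf g = 2} = (Q m) ^ 2 * ((Q m) ^ 2 - Q m + 1))
    (h3 : Nat.card {g : G // orderOf g = 3} = ((Q m) ^ 2 - 1) * ((Q m) ^ 3 + 1))
    (h39' : Nat.card {g : G // g ≠ 1 ∧ g ^ 9 = 1} = ((Q m) ^ 3 - 1) * ((Q m) ^ 3 + 1))
    (hfix : ∀ g : G, fixN Ω g = 1 ↔ 3 ∣ orderOf g)
    (hord : ∀ g : G, 3 ∣ orderOf g → orderOf g = 3 ∨ orderOf g = 6 ∨ orderOf g = 9)
    (h1fix : Nat.card {g : G // fixN Ω g = 1} = ((Q m) ^ 3 + 1) * (2 * (Q m) ^ 3 - (Q m) ^ 2 - 1)) :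
    Nat.card {g : G // orderOf g = 2} = (3 ^ (2 * m + 1)) ^ 2 * ((3 ^ (2 * m + 1)) ^ 2 - 3 ^ (2 * m + 1) + 1) ∧
    Nat.card {g : G // orderOf g = 3} = ((3 ^ (2 * m + 1)) ^ 2 - 1) * ((3 ^ (2 * m + 1)) ^ 3 + 1) ∧
    Nat.card {g : G // orderOf g = 6} =
      (3 ^ (2 * m + 1)) ^ 2 * (3 ^ (2 * m + 1) - 1) * ((3 ^ (2 * m + 1)) ^ 3 + 1) ∧
    Nat.card {g : G // orderOf g = 9} =
      (3 ^ (2 * m + 1)) ^ 2 * (3 ^ (2 * m + 1) - 1) * ((3 ^ (2 * m + 1)) ^ 3 + 1) := by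
  have hq1 : 1 ≤ Q m := Nat.one_le_pow _ _ (by norm_num)
  -- `{g ≠ 1, g^9 = 1} = {order 3} ⊔ {order 9}`
  have h39 : Nat.card {g : G // orderOf g = 3} + Nat.card {g : G // orderOf g = 9} =
      ((Q m) ^ 3 - 1) * ((Q m) ^ 3 + 1) := by
    rw [← h39', ← card_or (fun g : G => orderOf g = 3) (fun g : G => orderOf g = 9)
      (fun g h3 h9 => by rw [h3] at h9; omega)]
    refine Nat.card_congr (Equiv.subtypeEquivRight fun g => ?_)
    constructor
    · rintro (h | h)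
      · refine ⟨fun h1 => ?_, ?_⟩
        · rw [h1, orderOf_one] at h; omega
        · have : g ^ 9 = (g ^ 3) ^ 3 := by rw [← pow_mul]
          rw [this, ← h, pow_orderOf_eq_one, one_pow]
      · refine ⟨fun h1 => ?_, ?_⟩
        · rw [h1, orderOf_one] at h; omega
        · rw [← h, pow_orderOf_eq_one]
    · rintro ⟨h1, h9⟩
      have hd : orderOf g ∣ 3 ^ 2 := by
        have := orderOf_dvd_of_pow_eq_one h9
        norm_num
        exact this
      obtain ⟨k, hk, hk'⟩ := (Nat.dvd_prime_pow Nat.prime_three).1 hd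
      have hne : orderOf g ≠ 1 := fun h => h1 (orderOf_eq_one_iff.mp h)
      interval_cases k
      · simp at hk'; exact absurd hk' h1
      · left; simpa using hk'
      · right; simpa using hk'
  -- `{fixN = 1} = {order 3} ⊔ {order 6} ⊔ {order 9}`
  have h369 : Nat.card {g : G // orderOf g = 3} +
      (Nat.card {g : G // orderOf g = 6} + Nat.card {g : G // orderOf g = 9}) =
      ((Q m) ^ 3 + 1) * (2 * (Q m) ^ 3 - (Q m) ^ 2 - 1) := by
    rw [← h1fix, ← card_or (fun g : G => orderOf g = 6) (fun g : G => orderOf g = 9)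
      (fun g h6 h9 => by rw [h6] at h9; omega),
      ← card_or (fun g : G => orderOf g = 3) (fun g : G => orderOf g = 6 ∨ orderOf g = 9)
      (fun g h3 h69 => by rw [h3] at h69; omega)]
    refine Nat.card_congr (Equiv.subtypeEquivRight fun g => ?_)
    rw [hfix g]
    constructor
    · rintro (h | h | h) <;> rw [h] <;> norm_num
    · exact hord g
  obtain ⟨h6, h9⟩ := arith_q (Q m) _ _ _ hq1 h3 h39 h369
  exact ⟨h2, h3, h6, h9⟩

end Cfsg.Agent.Lib.Helper47_RH_F2357Aaux
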