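import Mathlib
import Cfsg.Agent.Lib.Helper37_RHDefs
import Cfsg.Agent.Lib.Helper55_RH_FIX2
import Cfsg.Agent.Lib.Helper31_RH_FIXINV
import Cfsg.Agent.Lib.Helper86_RH_SYL3

/-!
# REEHALL market (architect helper37), package ONEFIX

`g` has exactly one fixed point iff `3 ∣ orderOf g`; the orders divisible by 3 are 3, 6, 9.
Core (`no_prime_power`): if `g` has exactly one fixed point `x` and `d = s ^ k > 2`, `s ≠ 3` prime, divides `orderOf g`,
then `g ^ (orderOf g / d)` fixes a second point `y` (an `s`-group acting on `q ^ 3 + 1` points), its fixed points are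
`{x, y}` (FIX2), and `g` commutes with it, so `g` fixes `y`.
-/

set_option autoImplicit false

namespace Cfsg.Agent.Lib.Helper88_RH_ONEFIX

open MulAction Subgroup Cfsg.Agent.Lib.Helper37_RHDefs
open scoped Pointwise

variable {G : Type*} [Group G] [Finite G] {Ω : Type*} [MulAction G Ω] {m : ℕ}

omit [Finite G] in
theorem pow_smul_fixed (g : G) (x : Ω) (hx : g • x = x) (e : ℕ) : g ^ e • x = x := by
  induction e with
  | zero => rw [pow_zero, one_smul]
  | succ e ih => rw [pow_succ, mul_smul, hx, ih]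

omit [Finite G] in
theorem fixN_eq_one_iff_existsUnique (g : G) : fixN Ω g = 1 ↔ ∃! x : Ω, g • x = x := by
  unfold fixN
  rw [Nat.card_eq_one_iff_unique]
  constructor
  · rintro ⟨h1, ⟨⟨x, hx⟩⟩⟩
    refine ⟨x, hx, fun y hy => ?_⟩
    have := h1.elim ⟨y, hy⟩ ⟨x, hx⟩
    exact congrArg Subtype.val this
  · rintro ⟨x, hx, hu⟩
    refine ⟨⟨fun a b => ?_⟩, ⟨⟨x, hx⟩⟩⟩
    apply Subtype.ext
    rw [hu a.1 a.2, hu b.1 b.2]

/-- the core: an element with exactly one fixed point has no prime power `> 2`, prime to 3, dividing its order -/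
theorem no_prime_power (h : RH G Ω m) (g : G) (x : Ω) (hx : g • x = x)
    (huniq : ∀ y : Ω, g • y = y → y = x) (s k : ℕ) (hs : s.Prime) (hs3 : s ≠ 3) (hd2 : 2 < s ^ k)
    (hdn : s ^ k ∣ orderOf g) : False := by
  have : Fact s.Prime := ⟨hs⟩
  have hn0 : orderOf g ≠ 0 := (orderOf_pos g).ne'
  set d := s ^ k with hd
  set e := orderOf g / d with he
  set gd := g ^ e with hgd
  have hord : orderOf gd = d := orderOf_pow_orderOf_div hn0 hdn
  have hgd2 : gd * gd ≠ 1 := by
    intro e1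
    have : orderOf gd ∣ 2 := by
      apply orderOf_dvd_of_pow_eq_one
      rw [pow_two, e1]
    rw [hord] at this
    have := Nat.le_of_dvd (by norm_num) this
    omega
  have hgdx : gd • x = x := pow_smul_fixed g x hx e
  have : Finite Ω := Nat.finite_of_card_ne_zero (by rw [h.card_Ω]; positivity)
  -- a second fixed point of `gd`
  obtain ⟨y, hyx, hy⟩ : ∃ y : Ω, y ≠ x ∧ gd • y = y := by
    by_contra hcon
    push Not at hcon
    have hP : IsPGroup s ↥(zpowers gd) := by
      apply IsPGroup.of_card (n := k)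
      rw [Nat.card_zpowers, hord]
    have hmod := hP.card_modEq_card_fixedPoints Ω
    have hcard : Nat.card ↥(fixedPoints ↥(zpowers gd) Ω) = 1 := by
      rw [Nat.card_eq_one_iff_unique]
      have hmem : ∀ a : ↥(fixedPoints ↥(zpowers gd) Ω), a.1 = x := by
        intro a
        by_contra hax
        have h1 := a.2 ⟨gd, mem_zpowers gd⟩
        exact hcon a.1 hax h1
      refine ⟨⟨fun a b => ?_⟩, ⟨⟨x, ?_⟩⟩⟩
      · apply Subtype.ext
        rw [hmem a, hmem b]
      · rintro ⟨p, hp⟩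
        obtain ⟨j, rfl⟩ := mem_zpowers_iff.mp hp
        show gd ^ j • x = x
        have : gd ∈ stabilizer G x := hgdx
        exact (stabilizer G x).zpow_mem this j
    rw [hcard, h.card_Ω] at hmod
    -- `s ∣ q ^ 3`
    have hdvd : s ∣ (Q m) ^ 3 := by
      have := (Nat.modEq_iff_dvd' (Nat.le_add_left 1 _)).mp hmod.symm
      simpa using this
    have h3 : s ∣ 3 := by
      have := hs.dvd_of_dvd_pow hdvd
      exact hs.dvd_of_dvd_pow this
    exact hs3 ((Nat.prime_dvd_prime_iff_eq hs Nat.prime_three).mp h3)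
  have hfix := (Cfsg.Agent.Lib.Helper55_RH_FIX2.fixedBy_of_stab2 h x y hyx.symm gd hgdx hy hgd2).1
  have hcomm : gd * g = g * gd := by
    rw [hgd, ← pow_succ, ← pow_succ']
  have h1 : gd • (g • y) = g • y := by
    rw [← mul_smul, hcomm, mul_smul, hy]
  rcases (hfix _).mp h1 with h2 | h2
  · apply hyx
    apply MulAction.injective g
    show g • y = g • x
    rw [h2, hx]
  · exact hyx (huniq y h2)

/-- a number `r ≠ 0` all of whose prime-power divisors prime to 3 are at most 2 and which is prime to 3 is 1 or 2 -/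
theorem le_two_of_no_prime_power (r : ℕ) (hr0 : r ≠ 0) (hr3 : ¬ 3 ∣ r)
    (hno : ∀ s k : ℕ, s.Prime → s ≠ 3 → 2 < s ^ k → ¬ s ^ k ∣ r) : r = 1 ∨ r = 2 := by
  by_cases hex : ∃ s : ℕ, s.Prime ∧ s ∣ r ∧ s ≠ 2
  · obtain ⟨s, hs, hsr, hs2⟩ := hex
    exfalso
    have hs3 : s ≠ 3 := fun e => hr3 (e ▸ hsr)
    have : 2 < s ^ 1 := by
      rw [pow_one]
      have := hs.two_le
      omega
    exact hno s 1 hs hs3 this (by rwa [pow_one])
  · push Not at hex
    have hpow := Nat.eq_prime_pow_of_unique_prime_dvd (p := 2) hr0 (fun {d} hd hdr => hex d hd hdr)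
    set e := r.primeFactorsList.length with he
    rcases Nat.lt_or_ge e 2 with h2 | h2
    · interval_cases e
      · left; simpa using hpow
      · right; simpa using hpow
    · exfalso
      have h4 : 2 ^ 2 ∣ r := by
        rw [hpow]
        exact pow_dvd_pow 2 h2
      exact hno 2 2 Nat.prime_two (by norm_num) (by norm_num) h4

/-- PK ONEFIX, hypothesis form (`hfix3` is SYL3 `fix_of_three_dvd`) -/
theorem fixN_eq_one_iff_of (h : RH G Ω m)
    (hfix3 : ∀ g : G, 3 ∣ orderOf g → ∃! x : Ω, g • x = x) (g : G) :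
    fixN Ω g = 1 ↔ 3 ∣ orderOf g := by
  constructor
  · intro h1
    by_contra h3
    obtain ⟨x, hx, hu⟩ := (fixN_eq_one_iff_existsUnique g).mp h1
    have hn0 : orderOf g ≠ 0 := (orderOf_pos g).ne'
    have hr := le_two_of_no_prime_power (orderOf g) hn0 h3
      (fun s k hs hs3 hd2 hdn => no_prime_power h g x hx hu s k hs hs3 hd2 hdn)
    rcases hr with hr | hr
    · -- `g = 1` fixes every point
      rw [orderOf_eq_one_iff] at hr
      obtain ⟨a, b, hab, -⟩ := h.stab2
      have ha := hu a (by show g • a = a; rw [hr, one_smul])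
      have hb := hu b (by show g • b = b; rw [hr, one_smul])
      exact hab (ha.trans hb.symm)
    · have := (Cfsg.Agent.Lib.Helper31_RH_FIXINV.invol_fix h g g hr hr).2
      omega
  · intro h3
    exact (fixN_eq_one_iff_existsUnique g).mpr (hfix3 g h3)

/-- PK ONEFIX (second part), hypothesis form (`hthree` is SYL3 `three_elt`, `hfix3` is SYL3 `fix_of_three_dvd`) -/
theorem order_of_three_dvd_of (h : RH G Ω m)
    (hthree : ∀ (g : G) (k : ℕ), g ^ 3 ^ k = 1 → g ≠ 1 → (∃! x : Ω, g • x = x) ∧ g ^ 9 = 1)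
    (hfix3 : ∀ g : G, 3 ∣ orderOf g → ∃! x : Ω, g • x = x) (g : G) (hg : 3 ∣ orderOf g) :
    orderOf g = 3 ∨ orderOf g = 6 ∨ orderOf g = 9 := by
  obtain ⟨x, hx, hu⟩ := hfix3 g hg
  have hn0 : orderOf g ≠ 0 := (orderOf_pos g).ne'
  obtain ⟨a, r, hr3, hn⟩ := Nat.exists_eq_pow_mul_and_not_dvd hn0 3 (by norm_num)
  have hr0 : r ≠ 0 := by
    rintro rfl
    rw [mul_zero] at hn
    exact hn0 hn
  have hrn : r ∣ orderOf g := ⟨3 ^ a, by rw [hn, mul_comm]⟩
  -- `r ≤ 2`
  have hr := le_two_of_no_prime_power r hr0 hr3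
    (fun s k hs hs3 hd2 hdn => no_prime_power h g x hx hu s k hs hs3 hd2 (hdn.trans hrn))
  -- `1 ≤ a`
  have ha1 : 1 ≤ a := by
    by_contra h0
    have : a = 0 := by omega
    rw [this, pow_zero, one_mul] at hn
    exact hr3 (hn ▸ hg)
  -- `a ≤ 2`
  have ha2 : a ≤ 2 := by
    set u := g ^ r with hu'
    have hordu : orderOf u = 3 ^ a := by
      rw [hu', orderOf_pow_of_dvd hr0 hrn, hn, Nat.mul_div_cancel _ (Nat.pos_of_ne_zero hr0)]
    have hu1 : u ≠ 1 := by
      intro e
      rw [e, orderOf_one] at hordu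
      have : 3 ^ 1 ∣ 3 ^ a := pow_dvd_pow 3 ha1
      rw [← hordu] at this
      norm_num at this
    have hu3 : u ^ 3 ^ a = 1 := by rw [← hordu]; exact pow_orderOf_eq_one u
    have h9 := (hthree u a hu3 hu1).2
    have : orderOf u ∣ 9 := orderOf_dvd_of_pow_eq_one h9
    rw [hordu] at this
    have h92 : (9 : ℕ) = 3 ^ 2 := by norm_num
    rw [h92] at this
    exact (Nat.pow_dvd_pow_iff_le_right (by norm_num)).mp this
  -- the cases
  have hcases : orderOf g = 3 ∨ orderOf g = 9 ∨ orderOf g = 6 ∨ orderOf g = 18 := by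
    rcases hr with rfl | rfl <;> interval_cases a <;> simp [hn]
  rcases hcases with h' | h' | h' | h'
  · exact Or.inl h'
  · exact Or.inr (Or.inr h')
  · exact Or.inr (Or.inl h')
  · -- order 18 is impossible
    exfalso
    obtain ⟨a0, ha0, hconj, -, -, hcube⟩ := h.invol
    have ht : orderOf (g ^ 9) = 2 := by
      rw [orderOf_pow_of_dvd (by norm_num) (by rw [h']; norm_num), h']
    obtain ⟨c, hc⟩ := hconj (g ^ 9) ht
    have hu9 : orderOf (g ^ 2) = 9 := by
      rw [orderOf_pow_of_dvd (by norm_num) (by rw [h']; norm_num), h']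
    have hmem : c⁻¹ * g ^ 2 * c ∈ centralizer ({a0} : Set G) := by
      rw [mem_centralizer_iff]
      intro z hz
      rw [Set.mem_singleton_iff] at hz
      subst hz
      have ha0' : z = c⁻¹ * g ^ 9 * c := by rw [← hc]; group
      have hcm : g ^ 9 * g ^ 2 = g ^ 2 * g ^ 9 := by rw [← pow_add, ← pow_add]
      calc z * (c⁻¹ * g ^ 2 * c) = c⁻¹ * (g ^ 9 * g ^ 2) * c := by rw [ha0']; group
        _ = c⁻¹ * (g ^ 2 * g ^ 9) * c := by rw [hcm]
        _ = c⁻¹ * g ^ 2 * c * z := by rw [ha0']; group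
    have hpow : ∀ j : ℕ, (c⁻¹ * g ^ 2 * c) ^ j = c⁻¹ * (g ^ 2) ^ j * c := by
      intro j
      induction j with
      | zero => simp
      | succ j ih => rw [pow_succ, ih, pow_succ]; group
    have h9 : (c⁻¹ * g ^ 2 * c) ^ 3 ^ 2 = 1 := by
      rw [hpow]
      have : (g ^ 2) ^ 3 ^ 2 = 1 := by
        have := pow_orderOf_eq_one (g ^ 2)
        rw [hu9] at this
        exact this
      rw [this]; group
    have h3 := hcube _ hmem 2 h9
    rw [hpow] at h3
    have h3' : (g ^ 2) ^ 3 = 1 := by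
      have : c * (c⁻¹ * (g ^ 2) ^ 3 * c) * c⁻¹ = (g ^ 2) ^ 3 := by group
      rw [← this, h3]; group
    have := orderOf_dvd_of_pow_eq_one h3'
    rw [hu9] at this
    norm_num at this

/-- PK ONEFIX.  `g` has exactly one fixed point iff `3 ∣ orderOf g`. -/
theorem fixN_eq_one_iff (h : RH G Ω m) (g : G) : fixN Ω g = 1 ↔ 3 ∣ orderOf g :=
  fixN_eq_one_iff_of h (fun g hg => Cfsg.Agent.Lib.Helper86_RH_SYL3.fix_of_three_dvd h g hg) g

/-- PK ONEFIX (second part).  The orders divisible by 3 are 3, 6, 9. -/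
theorem order_of_three_dvd (h : RH G Ω m) (g : G) (hg : 3 ∣ orderOf g) :
    orderOf g = 3 ∨ orderOf g = 6 ∨ orderOf g = 9 :=
  order_of_three_dvd_of h (fun g k hg hg1 => Cfsg.Agent.Lib.Helper86_RH_SYL3.three_elt h g k hg hg1)
    (fun g hg => Cfsg.Agent.Lib.Helper86_RH_SYL3.fix_of_three_dvd h g hg) g hg

end Cfsg.Agent.Lib.Helper88_RH_ONEFIX
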