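import Mathlib
import Cfsg.Agent.Lib.Helper37_RHDefs
import Cfsg.Agent.Lib.Helper53_RH_INVCOUNT
import Cfsg.Agent.Lib.Helper41_RH_COUNT3
import Cfsg.Agent.Lib.Helper88_RH_ONEFIX
import Cfsg.Agent.Lib.Helper26_RH_CARDPIaux
import Cfsg.Agent.Lib.Helper47_RH_F2357Aaux

/-!
# REEHALL package F2357A: the numbers of elements of order 2, 3, 6, 9 (verbatim wrapper)
-/

set_option autoImplicit false

namespace Cfsg.Agent.Lib.Helper47_RH_F2357A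

open MulAction Subgroup Cfsg.Agent.Lib.Helper37_RHDefs
open scoped Pointwise

variable {G : Type*} [Group G] [Finite G] {Ω : Type*} [MulAction G Ω] {m : ℕ}

/-- PK F2357A.  The numbers of elements of order 2, 3, 6, 9. -/
theorem f2357a (h : RH G Ω m) :
    Nat.card {g : G // orderOf g = 2} = (3 ^ (2 * m + 1)) ^ 2 * ((3 ^ (2 * m + 1)) ^ 2 - 3 ^ (2 * m + 1) + 1) ∧
    Nat.card {g : G // orderOf g = 3} = ((3 ^ (2 * m + 1)) ^ 2 - 1) * ((3 ^ (2 * m + 1)) ^ 3 + 1) ∧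
    Nat.card {g : G // orderOf g = 6} =
      (3 ^ (2 * m + 1)) ^ 2 * (3 ^ (2 * m + 1) - 1) * ((3 ^ (2 * m + 1)) ^ 3 + 1) ∧
    Nat.card {g : G // orderOf g = 9} =
      (3 ^ (2 * m + 1)) ^ 2 * (3 ^ (2 * m + 1) - 1) * ((3 ^ (2 * m + 1)) ^ 3 + 1) :=
  Cfsg.Agent.Lib.Helper47_RH_F2357Aaux.f2357a_aux (Ω := Ω) m
    (Cfsg.Agent.Lib.Helper53_RH_INVCOUNT.card_invol h)
    (Cfsg.Agent.Lib.Helper41_RH_COUNT3.card_order_three h).1
    (Cfsg.Agent.Lib.Helper41_RH_COUNT3.card_order_three h).2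
    (Cfsg.Agent.Lib.Helper88_RH_ONEFIX.fixN_eq_one_iff h)
    (Cfsg.Agent.Lib.Helper88_RH_ONEFIX.order_of_three_dvd h)
    (Cfsg.Agent.Lib.Helper26_RH_CARDPIaux.card_fix_one h).1

end Cfsg.Agent.Lib.Helper47_RH_F2357A
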