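import Mathlib
import Cfsg.Agent.Lib.Helper37_RHDefs
import Cfsg.Agent.Lib.Helper10_RH_ARITH
import Cfsg.Agent.Lib.Helper60_RH_TORT
import Cfsg.Agent.Lib.Helper91_RH_SIGCONJ

/-!
# REEHALL package F2357C, auxiliary form (helper71, for helper37): the statement of NORMT
(`normalizer_torT`) is a hypothesis `hNORM`; TORT (helper60) and SIGCONJ (helper91) are used directly.
The final `f2357c h i hi hd` is
`f2357c_aux h (fun D T V hT A₀ hA hA1 => <NORMT>.normalizer_torT h D T V hT A₀ hA hA1) i hi hd`.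
-/

set_option autoImplicit false

namespace Cfsg.Agent.Lib.Helper71_RH_F2357Caux

open MulAction Subgroup Cfsg.Agent.Lib.Helper37_RHDefs
open scoped Pointwise

/-- double counting -/
theorem double_count {α β : Type*} [Fintype α] [Fintype β] (P : α → Prop) (r : α → β → Prop)
    (a b : ℕ) (h1 : ∀ x, P x → Nat.card {y : β // r x y} = a)
    (h2 : ∀ y, Nat.card {x : α // P x ∧ r x y} = b) :
    Nat.card {x : α // P x} * a = Nat.card β * b := by
  classical
  have key := Finset.sum_card_bipartiteAbove_eq_sum_card_bipartiteBelow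
    (s := Finset.univ.filter P) (t := (Finset.univ : Finset β)) r
  have e1 : ∀ x ∈ Finset.univ.filter P,
      ((Finset.univ : Finset β).bipartiteAbove r x).card = a := by
    intro x hx
    rw [← h1 x (Finset.mem_filter.mp hx).2, Nat.card_eq_fintype_card, Fintype.card_subtype]
    rfl
  have e2 : ∀ y ∈ (Finset.univ : Finset β),
      ((Finset.univ.filter P).bipartiteBelow r y).card = b := by
    intro y _
    rw [← h2 y, Nat.card_eq_fintype_card, Fintype.card_subtype]
    congr 1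
    ext x
    simp [Finset.bipartiteBelow]
  rw [Finset.sum_congr rfl e1, Finset.sum_congr rfl e2, Finset.sum_const, Finset.sum_const,
    smul_eq_mul, smul_eq_mul] at key
  rw [Nat.card_eq_fintype_card, Nat.card_eq_fintype_card, Fintype.card_subtype]
  exact key

variable {G : Type*} [Group G] {m : ℕ}

theorem orderOf_conj' (c g : G) : orderOf (c * g * c⁻¹) = orderOf g := by
  have := orderOf_injective (MulAut.conj c).toMonoidHom (MulAut.conj c).injective g
  simpa using this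

/-- for `1 ≠ t₀ ∈ T`: `n t₀ n⁻¹ ∈ T ↔ n ∈ N(T)` -/
theorem conj_mem_iff {D T V : Subgroup G} (hT : TorT m D T V)
    (hND : normalizer (D : Set G) = normalizer (T : Set G)) (t₀ : G) (ht₀ : t₀ ∈ T) (h1 : t₀ ≠ 1)
    (n : G) : n * t₀ * n⁻¹ ∈ T ↔ n ∈ normalizer (T : Set G) := by
  constructor
  · intro hn
    rw [← hND]
    have h1' : n * t₀ * n⁻¹ ≠ 1 := by
      intro h
      apply h1
      have : t₀ = n⁻¹ * (n * t₀ * n⁻¹) * n := by group
      rw [this, h]
      group
    have hc0 := hT.cent t₀ ht₀ h1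
    have hc1 := hT.cent _ hn h1'
    rw [mem_set_normalizer_iff]
    intro d
    rw [SetLike.mem_coe, SetLike.mem_coe]
    have ea : d ∈ D ↔ d ∈ centralizer ({t₀} : Set G) := by rw [hc0]
    have eb : n * d * n⁻¹ ∈ D ↔ n * d * n⁻¹ ∈ centralizer ({n * t₀ * n⁻¹} : Set G) := by
      rw [hc1]
    rw [ea, eb, mem_centralizer_singleton_iff, mem_centralizer_singleton_iff]
    constructor
    · intro hd
      have : n * d * n⁻¹ * (n * t₀ * n⁻¹) = n * (d * t₀) * n⁻¹ := by group
      rw [this, hd]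
      group
    · intro hd
      have e1 : d * t₀ = n⁻¹ * (n * d * n⁻¹ * (n * t₀ * n⁻¹)) * n := by group
      rw [e1, hd]
      group
  · intro hn
    exact (mem_set_normalizer_iff.mp hn t₀).mp ht₀

/-- the elements conjugating `x ≠ 1` into `T` form a coset of `N(T)` -/
theorem card_conj_into [Finite G] {D T V : Subgroup G} (hT : TorT m D T V)
    (hND : normalizer (D : Set G) = normalizer (T : Set G)) (x : G) (hx1 : x ≠ 1)
    (hx : ∃ c₀ : G, c₀ * x * c₀⁻¹ ∈ T) :
    Nat.card {c : G // c * x * c⁻¹ ∈ T} = Nat.card ↥(normalizer (T : Set G)) := by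
  obtain ⟨c₀, hc₀⟩ := hx
  have h1' : c₀ * x * c₀⁻¹ ≠ 1 := by
    intro h
    apply hx1
    have : x = c₀⁻¹ * (c₀ * x * c₀⁻¹) * c₀ := by group
    rw [this, h]
    group
  have key : ∀ c : G, c * x * c⁻¹ ∈ T ↔ c * c₀⁻¹ ∈ normalizer (T : Set G) := by
    intro c
    rw [← conj_mem_iff hT hND _ hc₀ h1']
    have : c * c₀⁻¹ * (c₀ * x * c₀⁻¹) * (c * c₀⁻¹)⁻¹ = c * x * c⁻¹ := by group
    rw [this]
  refine Nat.card_congr ⟨fun c => ⟨c.1 * c₀⁻¹, (key c.1).mp c.2⟩,
    fun n => ⟨n.1 * c₀, (key _).mpr (by simp)⟩, ?_, ?_⟩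
  · intro c
    ext
    simp
  · intro n
    ext
    simp

/-- the general count -/
theorem count_general [Finite G] {D T V : Subgroup G} (hT : TorT m D T V)
    (hND : normalizer (D : Set G) = normalizer (T : Set G))
    (P : G → Prop) (f : G → G)
    (hP : ∀ c g, P (c * g * c⁻¹) ↔ P g)
    (hf : ∀ c g, f (c * g * c⁻¹) = c * f g * c⁻¹)
    (hne : ∀ g, P g → f g ≠ 1)
    (hcj : ∀ g, P g → ∃ c₀ : G, c₀ * f g * c₀⁻¹ ∈ T) :
    Nat.card {g : G // P g} * Nat.card ↥(normalizer (T : Set G)) =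
      Nat.card G * Nat.card {g : G // P g ∧ f g ∈ T} := by
  have : Fintype G := Fintype.ofFinite G
  apply double_count P (fun g c => c * f g * c⁻¹ ∈ T)
  · intro g hg
    exact card_conj_into hT hND (f g) (hne g hg) (hcj g hg)
  · intro c
    refine Nat.card_congr ⟨fun g => ⟨c * g.1 * c⁻¹, (hP c g.1).mpr g.2.1, ?_⟩,
      fun g => ⟨c⁻¹ * g.1 * c, ?_, ?_⟩, ?_, ?_⟩
    · rw [hf]
      exact g.2.2
    · have := hP c⁻¹ g.1
      rw [inv_inv] at this
      exact this.mpr g.2.1
    · have e := hf c⁻¹ g.1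
      rw [inv_inv] at e
      rw [e]
      have : c * (c⁻¹ * f g.1 * c) * c⁻¹ = f g.1 := by group
      rw [this]
      exact g.2.2
    · intro g
      ext
      show c⁻¹ * (c * g.1 * c⁻¹) * c = g.1
      group
    · intro g
      ext
      show c * (c⁻¹ * g.1 * c) * c⁻¹ = g.1
      group

/-- the number of elements of order `i` of a cyclic subgroup -/
theorem card_order_in_cyclic [Finite G] (T : Subgroup G) (hc : IsCyclic T) (i : ℕ)
    (hi : i ∣ Nat.card T) : Nat.card {t : G // orderOf t = i ∧ t ∈ T} = Nat.totient i := by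
  classical
  have e : {t : G // orderOf t = i ∧ t ∈ T} ≃ {x : ↥T // orderOf x = i} :=
    ⟨fun t => ⟨⟨t.1, t.2.2⟩, by rw [← Subgroup.orderOf_coe]; exact t.2.1⟩,
     fun x => ⟨x.1.1, by rw [Subgroup.orderOf_coe]; exact x.2, x.1.2⟩,
     fun t => rfl, fun x => rfl⟩
  rw [Nat.card_congr e]
  have : Fintype ↥T := Fintype.ofFinite _
  rw [Nat.card_eq_fintype_card, Fintype.card_subtype]
  apply IsCyclic.card_orderOf_eq_totient
  rw [← Nat.card_eq_fintype_card]
  exact hi

/-- the number of non-identity elements of a subgroup -/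
theorem card_ne_one [Finite G] (V : Subgroup G) :
    Nat.card {v : G // v ∈ V ∧ v ≠ 1} = Nat.card V - 1 := by
  classical
  have e : {v : G // v ∈ V ∧ v ≠ 1} ≃ {x : ↥V // x ≠ 1} :=
    ⟨fun v => ⟨⟨v.1, v.2.1⟩, fun h => v.2.2 (congrArg Subtype.val h)⟩,
     fun x => ⟨x.1.1, x.1.2, fun h => x.2 (Subtype.ext h)⟩,
     fun t => rfl, fun x => rfl⟩
  rw [Nat.card_congr e]
  have : Fintype ↥V := Fintype.ofFinite _
  rw [Nat.card_eq_fintype_card, Nat.card_eq_fintype_card, Fintype.card_subtype,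
    Finset.filter_ne', Finset.card_erase_of_mem (Finset.mem_univ _), Finset.card_univ]

theorem pow_odd_of_sq {v : G} (hv : v * v = 1) {i : ℕ} (hi : Odd i) : v ^ i = v := by
  obtain ⟨k, rfl⟩ := hi
  rw [pow_succ, pow_mul, pow_two, hv, one_pow, one_mul]

theorem pow_even_of_sq {v : G} (hv : v * v = 1) {i : ℕ} (hi : Even i) : v ^ i = 1 := by
  obtain ⟨k, rfl⟩ := hi
  rw [← two_mul, pow_mul, pow_two, hv, one_pow]

/-- the bijection `{g : orderOf g = 2 i, g * g ∈ T} ≃ (V ∖ 1) × {t ∈ T : orderOf t = i}` -/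
theorem card_order_two_mul {D T V : Subgroup G} (hT : TorT m D T V) (i : ℕ) (hi : 1 < i)
    (hodd : Odd i) :
    Nat.card {g : G // orderOf g = 2 * i ∧ g * g ∈ T} =
      Nat.card {v : G // v ∈ V ∧ v ≠ 1} * Nat.card {t : G // orderOf t = i ∧ t ∈ T} := by
  rw [← Nat.card_prod]
  have hi0 : i ≠ 0 := by omega
  have hev : Even (i + 1) := by
    obtain ⟨k, rfl⟩ := hodd
    exact ⟨k + 1, by ring⟩
  -- forward map
  have hfw : ∀ g : G, orderOf g = 2 * i ∧ g * g ∈ T →
      (g ^ i ∈ V ∧ g ^ i ≠ 1) ∧ (orderOf (g ^ (i + 1)) = i ∧ g ^ (i + 1) ∈ T) := by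
    rintro g ⟨ho, hgT⟩
    have hgg1 : g * g ≠ 1 := by
      intro h
      have : orderOf g ∣ 2 := by
        apply orderOf_dvd_of_pow_eq_one
        rw [pow_two, h]
      rw [ho] at this
      have := Nat.le_of_dvd (by norm_num) this
      omega
    have hgD : g ∈ D := by
      rw [← hT.cent (g * g) hgT hgg1, mem_centralizer_singleton_iff]
      group
    have hpow : g ^ (2 * i) = 1 := by rw [← ho]; exact pow_orderOf_eq_one g
    have ho' : orderOf (g ^ (i + 1)) = i := by
      rw [orderOf_pow' g (by omega), ho]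
      have hcop : Nat.Coprime i (i + 1) := by simp
      have hg2 : Nat.gcd (2 * i) (i + 1) = 2 := by
        rw [Nat.Coprime.gcd_mul_right_cancel 2 hcop]
        exact Nat.gcd_eq_left (even_iff_two_dvd.mp hev)
      rw [hg2]
      omega
    refine ⟨⟨hT.mem_V _ (D.pow_mem hgD i) ?_, ?_⟩, ho', hT.mem_T _ (D.pow_mem hgD _) ?_⟩
    · rw [← pow_add, ← two_mul, hpow]
    · intro h
      have := orderOf_dvd_of_pow_eq_one h
      rw [ho] at this
      have := Nat.le_of_dvd (by omega) this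
      omega
    · rw [ho']
      exact hodd
  -- backward map
  have hbw : ∀ v t : G, (v ∈ V ∧ v ≠ 1) → (orderOf t = i ∧ t ∈ T) →
      (orderOf (v * t) = 2 * i ∧ (v * t) * (v * t) ∈ T) ∧ (v * t) ^ i = v ∧
        (v * t) ^ (i + 1) = t := by
    rintro v t ⟨hvV, hv1⟩ ⟨hot, htT⟩
    have hvv : v * v = 1 := hT.V_sq v hvV
    have hcomm : Commute v t := hT.comm v (hT.V_le hvV) t (hT.T_le htT)
    have hov : orderOf v = 2 := by
      apply orderOf_eq_prime
      · rw [pow_two, hvv]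
      · exact hv1
    have hti : t ^ i = 1 := by rw [← hot]; exact pow_orderOf_eq_one t
    refine ⟨⟨?_, ?_⟩, ?_, ?_⟩
    · rw [hcomm.orderOf_mul_eq_mul_orderOf_of_coprime, hov, hot]
      rw [hov, hot]
      exact (Nat.coprime_two_left).mpr hodd
    · have : v * t * (v * t) = t * t := by
        rw [mul_assoc, ← mul_assoc t v t, ← hcomm.eq, mul_assoc v t t, ← mul_assoc, hvv, one_mul]
      rw [this]
      exact T.mul_mem htT htT
    · rw [hcomm.mul_pow, hti, mul_one, pow_odd_of_sq hvv hodd]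
    · rw [hcomm.mul_pow, pow_even_of_sq hvv hev, one_mul, pow_succ, hti, one_mul]
  refine Nat.card_congr ⟨fun g => (⟨g.1 ^ i, (hfw g.1 g.2).1⟩, ⟨g.1 ^ (i + 1), (hfw g.1 g.2).2⟩),
    fun p => ⟨p.1.1 * p.2.1, (hbw p.1.1 p.2.1 p.1.2 p.2.2).1⟩, ?_, ?_⟩
  · intro g
    ext
    show g.1 ^ i * g.1 ^ (i + 1) = g.1
    have hpow : g.1 ^ (2 * i) = 1 := by
      have h := pow_orderOf_eq_one g.1
      rwa [g.2.1] at h
    rw [← pow_add, show i + (i + 1) = 2 * i + 1 by ring, pow_succ, hpow, one_mul]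
  · intro p
    have h := hbw p.1.1 p.2.1 p.1.2 p.2.2
    ext
    · exact h.2.1
    · exact h.2.2

/-- pure arithmetic: cancel `q + 1` -/
theorem cancel_arith (q A B n φ k : ℕ) (h3 : q ^ 3 + 1 = (q + 1) * B)
    (hcount : n * (6 * (q + 1)) = q ^ 3 * A * (q ^ 3 + 1) * (k * φ)) :
    6 * n = k * (φ * q ^ 3 * A * B) := by
  rw [h3] at hcount
  have hpos : 0 < q + 1 := Nat.succ_pos q
  apply Nat.eq_of_mul_eq_mul_right hpos
  calc 6 * n * (q + 1) = n * (6 * (q + 1)) := by ring
    _ = q ^ 3 * A * ((q + 1) * B) * (k * φ) := hcount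
    _ = k * (φ * q ^ 3 * A * B) * (q + 1) := by ring

variable [Finite G] {Ω : Type*} [MulAction G Ω]

/-- F2357C with the statement of NORMT as a hypothesis -/
theorem f2357c_aux (h : RH G Ω m)
    (hNORM : ∀ D T V : Subgroup G, TorT m D T V → ∀ A₀ : Subgroup G, A₀ ≤ T → A₀ ≠ ⊥ →
      normalizer (A₀ : Set G) = normalizer (V : Set G) ∧
      normalizer (D : Set G) = normalizer (V : Set G) ∧
      Nat.card ↥(normalizer (V : Set G)) = 6 * (Q m + 1))
    (i : ℕ) (hi : 1 < i) (hd : i ∣ (3 ^ (2 * m + 1) + 1) / 4) :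
    6 * Nat.card {g : G // orderOf g = i} =
        Nat.totient i * (3 ^ (2 * m + 1)) ^ 3 * (3 ^ (2 * m + 1) - 1) *
          ((3 ^ (2 * m + 1)) ^ 2 - 3 ^ (2 * m + 1) + 1) ∧
      2 * Nat.card {g : G // orderOf g = 2 * i} =
        Nat.totient i * (3 ^ (2 * m + 1)) ^ 3 * (3 ^ (2 * m + 1) - 1) *
          ((3 ^ (2 * m + 1)) ^ 2 - 3 ^ (2 * m + 1) + 1) := by
  obtain ⟨-, -, -, h4, hodd4, h7, -, -, -, h3, -, -, -, -⟩ :=
    Cfsg.Agent.Lib.Helper10_RH_ARITH.arith m h.hm
  obtain ⟨D, T, V, hT⟩ := Cfsg.Agent.Lib.Helper60_RH_TORT.exists_torT h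
  have hdQ : i ∣ (Q m + 1) / 4 := hd
  have hodd : Odd i := by
    have : Odd ((Q m + 1) / 4) := Nat.odd_iff.mpr hodd4
    exact Odd.of_dvd_nat this hdQ
  have hTne : T ≠ ⊥ := by
    intro hbot
    have hc := hT.card_T
    rw [hbot, Subgroup.card_bot] at hc
    omega
  obtain ⟨hNT, hND, hNV⟩ := hNORM D T V hT T le_rfl hTne
  have hND' : normalizer (D : Set G) = normalizer (T : Set G) := hND.trans hNT.symm
  have hcN : Nat.card ↥(normalizer (T : Set G)) = 6 * (Q m + 1) := by rw [hNT]; exact hNV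
  have hsig : ∀ x : G, orderOf x = i → x ≠ 1 ∧ ∃ c₀ : G, c₀ * x * c₀⁻¹ ∈ T := by
    intro x hx
    have hx1 : x ≠ 1 := by
      rintro rfl
      rw [orderOf_one] at hx
      omega
    refine ⟨hx1, Cfsg.Agent.Lib.Helper91_RH_SIGCONJ.sig_conj h D T V hT x hx1 ?_⟩
    intro p _ hpd
    rw [hx] at hpd
    exact hpd.trans hdQ
  have hdT : i ∣ Nat.card T := by rw [hT.card_T]; exact hdQ
  -- part 1
  have c1 := count_general hT hND' (fun g => orderOf g = i) (fun g => g)
    (fun c g => by rw [orderOf_conj']) (fun c g => rfl) (fun g hg => (hsig g hg).1)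
    (fun g hg => (hsig g hg).2)
  rw [hcN, h.card_G, card_order_in_cyclic T hT.cyc i hdT] at c1
  -- part 2
  have hsq : ∀ g : G, orderOf g = 2 * i → orderOf (g * g) = i := by
    intro g hg
    rw [← pow_two, orderOf_pow' g (by norm_num), hg]
    have : Nat.gcd (2 * i) 2 = 2 := Nat.gcd_eq_right (Dvd.intro _ rfl)
    rw [this]
    omega
  have c2 := count_general hT hND' (fun g => orderOf g = 2 * i) (fun g => g * g)
    (fun c g => by rw [orderOf_conj']) (fun c g => by group)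
    (fun g hg => (hsig (g * g) (hsq g hg)).1)
    (fun g hg => (hsig (g * g) (hsq g hg)).2)
  rw [hcN, h.card_G, card_order_two_mul hT i hi hodd, card_ne_one V, hT.card_V,
    card_order_in_cyclic T hT.cyc i hdT] at c2
  constructor
  · have c1' : Nat.card {g : G // orderOf g = i} * (6 * (Q m + 1)) =
        Q m ^ 3 * (Q m - 1) * (Q m ^ 3 + 1) * (1 * Nat.totient i) := by
      rw [one_mul]
      exact c1
    have := cancel_arith (Q m) (Q m - 1) ((Q m) ^ 2 - Q m + 1)
      (Nat.card {g : G // orderOf g = i}) (Nat.totient i) 1 h3 c1'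
    rw [one_mul] at this
    exact this
  · have := cancel_arith (Q m) (Q m - 1) ((Q m) ^ 2 - Q m + 1)
      (Nat.card {g : G // orderOf g = 2 * i}) (Nat.totient i) 3 h3 c2
    have h' : 3 * (2 * Nat.card {g : G // orderOf g = 2 * i}) =
        3 * (Nat.totient i * (Q m) ^ 3 * (Q m - 1) * ((Q m) ^ 2 - Q m + 1)) := by
      rw [← this]
      ring
    exact Nat.eq_of_mul_eq_mul_left (by norm_num) h'

end Cfsg.Agent.Lib.Helper71_RH_F2357Caux
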