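import Mathlib
import Cfsg.Agent.Lib.Helper37_RHDefs
import Cfsg.Agent.Lib.Helper26_RHTorDefs
import Cfsg.Agent.Lib.Helper10_RH_ARITH
import Cfsg.Agent.Lib.Helper60_RH_TORT
import Cfsg.Agent.Lib.Helper55_RH_FIX2
import Cfsg.Agent.Lib.Helper31_RH_STAB2
import Cfsg.Agent.Lib.Helper31_RH_FIXINV

/-!
# REEHALL market (architect helper37), package F1159, hypothesis form

The element orders of a group satisfying `RH` (abstract form of S1159): `f1159_of` is the whole argument, with the
statements of the packages NOFIX (`nofix_cases`), ONEFIX (`fixN_eq_one_iff`, `order_of_three_dvd`), F2357A (`f2357a`) and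
TOR8D (`order_dvd`, `exists_order`, applied to `torHyp h`, `card_pi h`) as hypotheses; it uses the landed packages ARITH,
TORT, FIX2, STAB2, FIXINV.
-/

set_option autoImplicit false

namespace Cfsg.Agent.Lib.Helper77_RH_F1159aux

open MulAction Subgroup Cfsg.Agent.Lib.Helper37_RHDefs Cfsg.Agent.Lib.Helper26_RHTorDefs
open Cfsg.Agent.Lib.Helper10_RH_ARITH Cfsg.Agent.Lib.Helper60_RH_TORT Cfsg.Agent.Lib.Helper55_RH_FIX2
  Cfsg.Agent.Lib.Helper31_RH_STAB2 Cfsg.Agent.Lib.Helper31_RH_FIXINV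
open scoped Pointwise

/-- Powers of an element realise every divisor of its order. -/
theorem exists_orderOf_of_dvd {G : Type*} [Group G] (g : G) (n d : ℕ) (hn : orderOf g = n)
    (hn0 : 0 < n) (hd : d ∣ n) : ∃ g' : G, orderOf g' = d := by
  obtain ⟨k, rfl⟩ := hd
  have hk0 : k ≠ 0 := by
    rintro rfl
    simp at hn0
  have hd0 : 0 < d := Nat.pos_of_ne_zero (by rintro rfl; simp at hn0)
  refine ⟨g ^ k, ?_⟩
  rw [orderOf_pow_of_dvd hk0 (by rw [hn]; exact Dvd.intro_left d rfl), hn]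
  exact Nat.mul_div_cancel d (Nat.pos_of_ne_zero hk0)

/-- A positive count gives an element. -/
theorem exists_of_card_pos {G : Type*} [Group G] (k c : ℕ)
    (hc : Nat.card {g : G // orderOf g = k} = c) (hpos : 0 < c) : ∃ g : G, orderOf g = k := by
  rw [← hc] at hpos
  obtain ⟨⟨g, hg⟩⟩ := (Nat.card_pos_iff.mp hpos).1
  exact ⟨g, hg⟩

variable {G : Type*} [Group G] [Finite G] {Ω : Type*} [MulAction G Ω] {m : ℕ}

/-- Elements of `σ`-type have order dividing `(q + 1) / 2`. -/
theorem orderOf_dvd_of_mem_D (h : RH G Ω m) (D T V : Subgroup G) (hT : TorT m D T V) (x : G)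
    (hx : x ∈ D) : orderOf x ∣ (Q m + 1) / 2 := by
  obtain ⟨-, -, -, h4, -⟩ := arith m h.hm
  set e := (Q m + 1) / 4 with he
  have h2e : (Q m + 1) / 2 = e + e := by omega
  have hx4 : x ^ (4 * e) = 1 := by
    have h1 : (⟨x, hx⟩ : ↥D) ^ Nat.card ↥D = 1 := pow_card_eq_one'
    have h2 := congrArg (Subtype.val) h1
    rw [Subgroup.coe_pow, Subgroup.coe_one, hT.card_D, ← h4] at h2
    exact h2
  set z := x ^ e with hz
  have hz4 : z ^ 2 ^ 2 = 1 := by
    rw [hz, ← pow_mul]
    have : e * 2 ^ 2 = 4 * e := by ring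
    rw [this, hx4]
  have hzp : IsPGroup 2 (Subgroup.zpowers z) := by
    rw [IsPGroup.iff_card]
    have hdvd : orderOf z ∣ 2 ^ 2 := orderOf_dvd_of_pow_eq_one hz4
    obtain ⟨k, -, hk⟩ := (Nat.dvd_prime_pow Nat.prime_two).mp hdvd
    exact ⟨k, by rw [Nat.card_zpowers, hk]⟩
  obtain ⟨S, hS⟩ := hzp.exists_le_sylow
  have hzS : z ∈ (S : Subgroup G) := hS (Subgroup.mem_zpowers z)
  have hzz : z * z = 1 := (h.syl2 S).2.1 z hzS
  rw [h2e]
  apply orderOf_dvd_of_pow_eq_one
  rw [pow_add]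
  exact hzz

/-- PK F1159, with the statements of NOFIX, ONEFIX, F2357A, TOR8D as hypotheses. -/
theorem f1159_of (h : RH G Ω m)
    (hNofix : ∀ D T V : Subgroup G, TorT m D T V → ∀ g : G, fixN Ω g = 0 → IsPi m g ∨ IsSig D V g)
    (hOne : ∀ g : G, fixN Ω g = 1 ↔ 3 ∣ orderOf g)
    (hThree : ∀ g : G, 3 ∣ orderOf g → orderOf g = 3 ∨ orderOf g = 6 ∨ orderOf g = 9)
    (hCounts :
      Nat.card {g : G // orderOf g = 2} =
        (3 ^ (2 * m + 1)) ^ 2 * ((3 ^ (2 * m + 1)) ^ 2 - 3 ^ (2 * m + 1) + 1) ∧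
      Nat.card {g : G // orderOf g = 3} = ((3 ^ (2 * m + 1)) ^ 2 - 1) * ((3 ^ (2 * m + 1)) ^ 3 + 1) ∧
      Nat.card {g : G // orderOf g = 6} =
        (3 ^ (2 * m + 1)) ^ 2 * (3 ^ (2 * m + 1) - 1) * ((3 ^ (2 * m + 1)) ^ 3 + 1) ∧
      Nat.card {g : G // orderOf g = 9} =
        (3 ^ (2 * m + 1)) ^ 2 * (3 ^ (2 * m + 1) - 1) * ((3 ^ (2 * m + 1)) ^ 3 + 1))
    (hOrd : ∀ g : G, orderOf g ∣ (3 ^ (2 * m + 1)) ^ 2 - 3 ^ (2 * m + 1) + 1 →
      orderOf g ∣ 3 ^ (2 * m + 1) - 3 ^ (m + 1) + 1 ∨ orderOf g ∣ 3 ^ (2 * m + 1) + 3 ^ (m + 1) + 1)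
    (hEx : ∀ d : ℕ, (d ∣ 3 ^ (2 * m + 1) - 3 ^ (m + 1) + 1 ∨ d ∣ 3 ^ (2 * m + 1) + 3 ^ (m + 1) + 1) →
      ∃ g : G, orderOf g = d)
    (d : ℕ) :
    (∃ g : G, orderOf g = d) ↔
      (d ∣ 6 ∨ d ∣ 9 ∨ d ∣ 3 ^ (2 * m + 1) - 1 ∨ d ∣ (3 ^ (2 * m + 1) + 1) / 2 ∨
        d ∣ 3 ^ (2 * m + 1) - 3 ^ (m + 1) + 1 ∨ d ∣ 3 ^ (2 * m + 1) + 3 ^ (m + 1) + 1) := by
  classical
  obtain ⟨hq27, -, -, h4, hodd, h7, -, -, -, -, -, -, -, -⟩ := arith m h.hm
  have hΩfin : Finite Ω := by
    apply Nat.finite_of_card_ne_zero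
    rw [h.card_Ω]
    positivity
  constructor
  · rintro ⟨g, rfl⟩
    rcases Nat.lt_or_ge (fixN Ω g) 3 with hlt | hge
    · have hcases : fixN Ω g = 0 ∨ fixN Ω g = 1 ∨ fixN Ω g = 2 := by omega
      rcases hcases with hfix | hfix | hfix
      · -- no fixed points
        obtain ⟨D, T, V, hT⟩ := exists_torT h
        rcases hNofix D T V hT g hfix with hpi | hsig
        · rcases hOrd g hpi.2 with h1 | h1
          · exact Or.inr (Or.inr (Or.inr (Or.inr (Or.inl h1))))
          · exact Or.inr (Or.inr (Or.inr (Or.inr (Or.inr h1))))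
        · obtain ⟨c, hcD, -⟩ := hsig
          have h1 := orderOf_dvd_of_mem_D h D T V hT _ hcD
          have h2 : orderOf (c * g * c⁻¹) = orderOf g := by
            have := orderOf_injective (MulAut.conj c).toMonoidHom (MulAut.conj c).injective g
            simpa using this
          rw [h2] at h1
          exact Or.inr (Or.inr (Or.inr (Or.inl h1)))
      · -- one fixed point
        have h3 := (hOne g).mp hfix
        rcases hThree g h3 with h1 | h1 | h1
        · exact Or.inl (by rw [h1]; norm_num)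
        · exact Or.inl (by rw [h1])
        · exact Or.inr (Or.inl (by rw [h1]))
      · -- two fixed points
        obtain ⟨-, x, y, hxy, hx, hy⟩ := (fixN_eq_two_iff h g).mp hfix
        have hgH : g ∈ stabilizer G x ⊓ stabilizer G y :=
          ⟨MulAction.mem_stabilizer_iff.mpr hx, MulAction.mem_stabilizer_iff.mpr hy⟩
        have h1 := Subgroup.orderOf_dvd_natCard _ hgH
        rw [(stab2_all h x y hxy).2] at h1
        exact Or.inr (Or.inr (Or.inl h1))
    · -- at least three fixed points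
      by_cases hg1 : g = 1
      · subst hg1
        exact Or.inl (by rw [orderOf_one]; norm_num)
      · have := Fintype.ofFinite ↥(MulAction.fixedBy Ω g)
        have hcard : 2 < Fintype.card ↥(MulAction.fixedBy Ω g) := by
          rw [← Nat.card_eq_fintype_card]
          exact hge
        obtain ⟨x, y, z, hxy, hxz, hyz⟩ := Fintype.two_lt_card_iff.mp hcard
        have h2 := invol_of_fix h g hg1 x y z (fun e => hxy (Subtype.ext e))
          (fun e => hxz (Subtype.ext e)) (fun e => hyz (Subtype.ext e)) x.2 y.2 z.2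
        exact Or.inl (by rw [h2]; norm_num)
  · -- existence
    obtain ⟨h2c, h3c, h6c, h9c⟩ := hCounts
    have hq27' : 27 ≤ 3 ^ (2 * m + 1) := hq27
    have hq2 : 27 * 27 ≤ (3 ^ (2 * m + 1)) ^ 2 := by nlinarith
    have hex2 : ∃ g : G, orderOf g = 2 := exists_of_card_pos 2 _ h2c (by positivity)
    have hex3 : ∃ g : G, orderOf g = 3 := by
      refine exists_of_card_pos 3 _ h3c (Nat.mul_pos ?_ (by positivity))
      omega
    have hex6 : ∃ g : G, orderOf g = 6 := by
      refine exists_of_card_pos 6 _ h6c (Nat.mul_pos (Nat.mul_pos (by positivity) ?_) (by positivity))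
      omega
    have hex9 : ∃ g : G, orderOf g = 9 := by
      refine exists_of_card_pos 9 _ h9c (Nat.mul_pos (Nat.mul_pos (by positivity) ?_) (by positivity))
      omega
    rintro (hd | hd | hd | hd | hd | hd)
    · have hle : d ≤ 6 := Nat.le_of_dvd (by norm_num) hd
      interval_cases d
      · simp at hd
      · exact ⟨1, orderOf_one⟩
      · exact hex2
      · exact hex3
      · norm_num at hd
      · norm_num at hd
      · exact hex6
    · have hle : d ≤ 9 := Nat.le_of_dvd (by norm_num) hd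
      interval_cases d
      · simp at hd
      · exact ⟨1, orderOf_one⟩
      · norm_num at hd
      · exact hex3
      · norm_num at hd
      · norm_num at hd
      · norm_num at hd
      · norm_num at hd
      · norm_num at hd
      · exact hex9
    · obtain ⟨x, y, -, hcyc, hcard⟩ := h.stab2
      obtain ⟨g, hg⟩ := hcyc.exists_ofOrder_eq_natCard
      rw [hcard] at hg
      have hg' : orderOf (g : G) = Q m - 1 := by rw [Subgroup.orderOf_coe, hg]
      exact exists_orderOf_of_dvd (g : G) _ d hg' (by omega) hd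
    · obtain ⟨D, T, V, hT⟩ := exists_torT h
      obtain ⟨t₀, ht₀⟩ := hT.cyc.exists_ofOrder_eq_natCard
      rw [hT.card_T] at ht₀
      have ht₀' : orderOf (t₀ : G) = (Q m + 1) / 4 := by rw [Subgroup.orderOf_coe, ht₀]
      have hVne : V ≠ ⊥ := by
        intro hb
        have := hT.card_V
        rw [hb, Subgroup.card_bot] at this
        omega
      obtain ⟨v, hvV, hv1⟩ : ∃ v : G, v ∈ V ∧ v ≠ 1 := by
        obtain ⟨v, hv⟩ := (Subgroup.ne_bot_iff_exists_ne_one).mp hVne
        exact ⟨(v : G), v.2, fun e => hv (Subtype.ext e)⟩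
      have hv2 : orderOf v = 2 := by
        apply orderOf_eq_prime
        · rw [pow_two]; exact hT.V_sq v hvV
        · exact hv1
      have hcomm : Commute v (t₀ : G) := hT.comm v (hT.V_le hvV) t₀ (hT.T_le t₀.2)
      have hcop : (orderOf v).Coprime (orderOf (t₀ : G)) := by
        rw [hv2, ht₀', Nat.coprime_two_left]
        exact Nat.odd_iff.mpr hodd
      have hord := hcomm.orderOf_mul_eq_mul_orderOf_of_coprime hcop
      rw [hv2, ht₀'] at hord
      have h2e : (Q m + 1) / 2 = 2 * ((Q m + 1) / 4) := by omega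
      exact exists_orderOf_of_dvd (v * (t₀ : G)) _ d (by rw [hord, ← h2e]) (by omega) hd
    · exact hEx d (Or.inl hd)
    · exact hEx d (Or.inr hd)

end Cfsg.Agent.Lib.Helper77_RH_F1159aux
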