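import Mathlib
import Cfsg.Agent.Lib.Helper37_RHDefs

/-!
# REEHALL package TORTCONJ (helper37's market `reehall_packages`)

Conjugates of torus data are torus data.
-/

set_option autoImplicit false

namespace Cfsg.Agent.Lib.Helper8_RH_TORTCONJ

open MulAction Subgroup Cfsg.Agent.Lib.Helper37_RHDefs

theorem mem_map_conj {G : Type*} [Group G] (H : Subgroup G) (c x : G) :
    x ∈ H.map (MulAut.conj c).toMonoidHom ↔ c⁻¹ * x * c ∈ H := by
  rw [Subgroup.mem_map]
  constructor
  · rintro ⟨y, hy, rfl⟩
    have : c⁻¹ * ((MulAut.conj c).toMonoidHom y) * c = y := by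
      simp [MulAut.conj_apply, mul_assoc]
    rw [this]; exact hy
  · intro h
    refine ⟨c⁻¹ * x * c, h, ?_⟩
    simp [MulAut.conj_apply, mul_assoc]

theorem conj_inj {G : Type*} [Group G] (c : G) :
    Function.Injective (MulAut.conj c).toMonoidHom := (MulAut.conj c).injective

theorem torT_conj {G : Type*} [Group G] {m : ℕ} {D T V : Subgroup G} (hT : TorT m D T V) (c : G) :
    TorT m (D.map (MulAut.conj c).toMonoidHom) (T.map (MulAut.conj c).toMonoidHom)
      (V.map (MulAut.conj c).toMonoidHom) := by
  have hmul : ∀ x y : G, c⁻¹ * (x * y) * c = (c⁻¹ * x * c) * (c⁻¹ * y * c) := by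
    intro x y; group
  refine
    { card_D := ?_
      comm := ?_
      T_le := Subgroup.map_mono hT.T_le
      V_le := Subgroup.map_mono hT.V_le
      cyc := ?_
      card_T := ?_
      card_V := ?_
      V_sq := ?_
      cent := ?_
      mem_V := ?_
      mem_T := ?_ }
  · rw [Subgroup.card_map_of_injective (conj_inj c)]; exact hT.card_D
  · intro g hg k hk
    rw [mem_map_conj] at hg hk
    have := hT.comm _ hg _ hk
    rw [← hmul, ← hmul] at this
    have h2 := congrArg (fun z => c * z * c⁻¹) this
    simpa [mul_assoc] using h2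
  · have := hT.cyc
    exact (T.equivMapOfInjective _ (conj_inj c)).isCyclic.mp this
  · rw [Subgroup.card_map_of_injective (conj_inj c)]; exact hT.card_T
  · rw [Subgroup.card_map_of_injective (conj_inj c)]; exact hT.card_V
  · intro v hv
    rw [mem_map_conj] at hv
    have := hT.V_sq _ hv
    rw [← hmul] at this
    have h2 := congrArg (fun z => c * z * c⁻¹) this
    simpa [mul_assoc] using h2
  · intro t ht ht1
    rw [mem_map_conj] at ht
    have ht1' : c⁻¹ * t * c ≠ 1 := by
      intro h
      apply ht1
      have h2 := congrArg (fun z => c * z * c⁻¹) h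
      simpa [mul_assoc] using h2
    have hc := hT.cent _ ht ht1'
    ext x
    rw [mem_map_conj, ← hc, Subgroup.mem_centralizer_singleton_iff,
      Subgroup.mem_centralizer_singleton_iff, ← hmul, ← hmul]
    constructor
    · intro h; rw [h]
    · intro h
      have h2 := congrArg (fun z => c * z * c⁻¹) h
      simpa [mul_assoc] using h2
  · intro d hd hdd
    rw [mem_map_conj] at hd ⊢
    apply hT.mem_V _ hd
    rw [← hmul, hdd]; group
  · intro d hd hodd
    rw [mem_map_conj] at hd ⊢
    apply hT.mem_T _ hd
    have : orderOf (c⁻¹ * d * c) = orderOf d := by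
      have := orderOf_injective (MulAut.conj c⁻¹).toMonoidHom (MulAut.conj c⁻¹).injective d
      simpa [MulAut.conj_apply] using this
    rw [this]; exact hodd

end Cfsg.Agent.Lib.Helper8_RH_TORTCONJ
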