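import Mathlib
import Cfsg.Agent.Lib.Helper37_RHDefs
import Cfsg.Agent.Lib.Helper26_RHTorDefs
import Cfsg.Agent.Lib.Helper10_RH_ARITH
import Cfsg.Agent.Lib.Helper60_RH_TORT
import Cfsg.Agent.Lib.Helper31_RH_STAB2
import Cfsg.Agent.Lib.Helper8_RH_TORTCONJ
import Cfsg.Agent.Lib.Helper86_RH_SYL3
import Cfsg.Agent.Lib.Helper88_RH_NORMH
import Cfsg.Agent.Lib.Helper91_RH_SIGCONJ
import Cfsg.Agent.Lib.Helper79_RH_TOR2
import Cfsg.Agent.Lib.Helper20_RH_TOR3
import Cfsg.Agent.Lib.Helper70_RH_SOLVNORMAL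

/-!
# REEHALL market (architect helper37), package F2361, hypothesis form

`f2361_of` is the whole argument with the statements of N4B (`four_conj`), NORMT (`normalizer_torT`), INH
(`mem_stab2_of_order`), TORHYP (`torHyp`) and TOR7 (`two_classes`, second part, applied) as hypotheses; it uses the landed
packages ARITH, TORT, STAB2, TORTCONJ, SYL3, NORMH, SIGCONJ, TOR2, TOR3, SOLVNORMAL.

Every solvable subgroup of a group satisfying `RH` normalises a Sylow 2-subgroup, a Sylow 3-subgroup, or a cyclic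
Hall subgroup of order `(q - 1) / 2`, `(q + 1) / 4`, `q - r + 1` or `q + r + 1` (abstract form of S2361).
-/

set_option autoImplicit false
set_option linter.unusedSectionVars false

namespace Cfsg.Agent.Lib.Helper77_RH_F2361aux

open MulAction Subgroup Cfsg.Agent.Lib.Helper37_RHDefs Cfsg.Agent.Lib.Helper26_RHTorDefs
open Cfsg.Agent.Lib.Helper10_RH_ARITH Cfsg.Agent.Lib.Helper60_RH_TORT Cfsg.Agent.Lib.Helper31_RH_STAB2
  Cfsg.Agent.Lib.Helper8_RH_TORTCONJ Cfsg.Agent.Lib.Helper86_RH_SYL3 Cfsg.Agent.Lib.Helper88_RH_NORMH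
  Cfsg.Agent.Lib.Helper91_RH_SIGCONJ Cfsg.Agent.Lib.Helper70_RH_SOLVNORMAL
open scoped Pointwise

variable {G : Type*} [Group G] [Finite G] {Ω : Type*} [MulAction G Ω] {m : ℕ}

/-- If `S` normalises `R` elementwise, then `S ≤ N(R)`. -/
theorem le_normalizer_of_conj {S R : Subgroup G} (hn : ∀ s ∈ S, ∀ x ∈ R, s * x * s⁻¹ ∈ R) :
    S ≤ normalizer (R : Set G) :=
  (Subgroup.le_normalizer_iff).mpr hn

/-- A subgroup of order `2 ^ k` lies in a Sylow 2-subgroup, so its elements square to `1`. -/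
theorem sq_of_card_two_pow (h : RH G Ω m) (R : Subgroup G) (k : ℕ) (hR : Nat.card R = 2 ^ k) :
    ∃ P : Sylow 2 G, R ≤ P ∧ ∀ v ∈ R, v * v = 1 := by
  have hp : IsPGroup 2 R := IsPGroup.of_card hR
  obtain ⟨P, hP⟩ := hp.exists_le_sylow
  exact ⟨P, hP, fun v hv => (h.syl2 P).2.1 v (hP hv)⟩

/-- the case of a normal subgroup of order 8 -/
theorem case_eight (h : RH G Ω m) (S R : Subgroup G)
    (hn : ∀ s ∈ S, ∀ x ∈ R, s * x * s⁻¹ ∈ R) (hR : Nat.card R = 8) :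
    ∃ A : Subgroup G, S ≤ normalizer (A : Set G) ∧ ∃ P : Sylow 2 G, A = P := by
  obtain ⟨P, hP, -⟩ := sq_of_card_two_pow h R 3 (by rw [hR]; norm_num)
  have hcard : Nat.card R = Nat.card (P : Subgroup G) := by rw [hR, (h.syl2 P).1]
  have heq : R = P := Subgroup.eq_of_le_of_card_ge hP (by rw [hcard])
  exact ⟨R, le_normalizer_of_conj hn, P, heq⟩

/-- the case `R = S` of order 2 -/
theorem case_two (h : RH G Ω m) (S : Subgroup G) (hS : Nat.card S = 2) :
    ∃ A : Subgroup G, S ≤ normalizer (A : Set G) ∧ ∃ P : Sylow 2 G, A = P := by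
  obtain ⟨P, hP, -⟩ := sq_of_card_two_pow h S 1 (by rw [hS]; norm_num)
  exact ⟨P, hP.trans Subgroup.le_normalizer, P, rfl⟩

/-- the case of a normal four-group -/
theorem case_four (h : RH G Ω m)
    (hFour : ∀ V V' : Subgroup G, Nat.card V = 4 → (∀ v ∈ V, v * v = 1) → Nat.card V' = 4 →
      (∀ v ∈ V', v * v = 1) → ∃ c : G, V' = V.map (MulAut.conj c).toMonoidHom)
    (hNormT : ∀ D T V : Subgroup G, TorT m D T V → ∀ A₀ : Subgroup G, A₀ ≤ T → A₀ ≠ ⊥ →
      normalizer (A₀ : Set G) = normalizer (V : Set G) ∧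
        normalizer (D : Set G) = normalizer (V : Set G) ∧
        Nat.card ↥(normalizer (V : Set G)) = 6 * (Q m + 1))
    (S R : Subgroup G)
    (hn : ∀ s ∈ S, ∀ x ∈ R, s * x * s⁻¹ ∈ R) (hR : Nat.card R = 4) :
    ∃ A : Subgroup G, S ≤ normalizer (A : Set G) ∧ IsCyclic A ∧ Nat.card A = (Q m + 1) / 4 := by
  obtain ⟨-, -, -, -, -, h7, -⟩ := arith m h.hm
  obtain ⟨P, -, hsq⟩ := sq_of_card_two_pow h R 2 (by rw [hR]; norm_num)
  obtain ⟨D, T, V, hT⟩ := exists_torT h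
  obtain ⟨c, hc⟩ := hFour V R hT.card_V hT.V_sq hR hsq
  have hT' := torT_conj hT c
  rw [← hc] at hT'
  set T' := T.map (MulAut.conj c).toMonoidHom with hT'def
  have hT'ne : T' ≠ ⊥ := by
    intro hb
    have := hT'.card_T
    rw [hb, Subgroup.card_bot] at this
    omega
  have hN := (hNormT _ T' R hT' T' le_rfl hT'ne).1
  refine ⟨T', ?_, hT'.cyc, hT'.card_T⟩
  rw [hN]
  exact le_normalizer_of_conj hn

/-- the case of a normal 3-subgroup -/
theorem case_three (h : RH G Ω m) (S R : Subgroup G)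
    (hn : ∀ s ∈ S, ∀ x ∈ R, s * x * s⁻¹ ∈ R) (hR1 : R ≠ ⊥) (hR : IsPGroup 3 R) :
    ∃ A : Subgroup G, S ≤ normalizer (A : Set G) ∧ ∃ P : Sylow 3 G, A = P := by
  classical
  have : Fact (Nat.Prime 3) := ⟨Nat.prime_three⟩
  have hΩfin : Finite Ω := by
    apply Nat.finite_of_card_ne_zero
    rw [h.card_Ω]
    positivity
  obtain ⟨o, U, hU, hUo, hUn, hUf, -, -⟩ := h.unip
  obtain ⟨P, hP⟩ := hR.exists_le_sylow
  -- `P` fixes a point
  have hmod := P.2.card_modEq_card_fixedPoints Ω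
  have hfp : (MulAction.fixedPoints ↥(P : Subgroup G) Ω).Nonempty := by
    by_contra hemp
    rw [Set.not_nonempty_iff_eq_empty] at hemp
    rw [hemp, h.card_Ω] at hmod
    have h0 : Nat.card ↥(∅ : Set Ω) = 0 := by simp
    rw [h0] at hmod
    have h3 : (Q m) ^ 3 % 3 = 0 := by
      have : Q m = 3 * 3 ^ (2 * m) := by
        show 3 ^ (2 * m + 1) = 3 * 3 ^ (2 * m)
        ring
      rw [this]
      ring_nf
      omega
    have := hmod
    unfold Nat.ModEq at this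
    omega
  obtain ⟨o', ho'⟩ := hfp
  have hPo' : ∀ g ∈ (P : Subgroup G), g • o' = o' := fun g hg => ho' ⟨g, hg⟩
  -- a non-trivial element of `R`
  obtain ⟨u, huR, hu1⟩ : ∃ u : G, u ∈ R ∧ u ≠ 1 := by
    obtain ⟨u, hu⟩ := (Subgroup.ne_bot_iff_exists_ne_one).mp hR1
    exact ⟨(u : G), u.2, fun e => hu (Subtype.ext e)⟩
  -- uniqueness of fixed points of non-trivial 3-elements
  have huniq : ∀ g ∈ R, g ≠ 1 → ∀ x : Ω, g • x = x → x = o' := by
    intro g hg hg1 x hx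
    obtain ⟨k, hk⟩ := (IsPGroup.iff_orderOf.mp P.2 ⟨g, hP hg⟩)
    have hgk : g ^ 3 ^ k = 1 := by
      have : orderOf g = 3 ^ k := by
        rw [← hk]; exact Subgroup.orderOf_coe ⟨g, hP hg⟩
      rw [← this]; exact pow_orderOf_eq_one g
    obtain ⟨⟨y, -, hy⟩, -⟩ := three_elt h g k hgk hg1
    rw [hy x hx, hy o' (hPo' g (hP hg))]
  -- `S` fixes `o'`
  have hSo' : ∀ s ∈ S, s • o' = o' := by
    intro s hs
    have h1 := hn s hs u huR
    have h2 : s * u * s⁻¹ ≠ 1 := by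
      intro e
      apply hu1
      have : u = s⁻¹ * (s * u * s⁻¹) * s := by group
      rw [this, e]; group
    apply huniq _ h1 h2
    rw [mul_smul, mul_smul, inv_smul_smul, hPo' u (hP huR)]
  -- move `o'` to `o`
  obtain ⟨c, hc⟩ : ∃ c : G, c • o' = o := by
    obtain ⟨-, -, -, -, -, -, -⟩ := arith m h.hm
    by_cases hoo : o' = o
    · exact ⟨1, by rw [one_smul, hoo]⟩
    · -- a second point different from both
      obtain ⟨g, hg, -⟩ := h.two_trans o' o o o' hoo (fun e => hoo e.symm)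
      exact ⟨g, hg⟩
  -- `c P c⁻¹ ≤ U`
  have hPU : ∀ g ∈ (P : Subgroup G), c * g * c⁻¹ ∈ U := by
    intro g hg
    obtain ⟨k, hk⟩ := (IsPGroup.iff_orderOf.mp P.2 ⟨g, hg⟩)
    have hgk : g ^ 3 ^ k = 1 := by
      have : orderOf g = 3 ^ k := by
        rw [← hk]; exact Subgroup.orderOf_coe ⟨g, hg⟩
      rw [← this]; exact pow_orderOf_eq_one g
    apply three_elt_mem h o U hU hUo hUn hUf (c * g * c⁻¹) k
    · rw [conj_pow, hgk]; group
    · rw [mul_smul, mul_smul, ← hc, inv_smul_smul, hPo' g hg]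
  -- `P = c⁻¹ U c`
  have hUp : IsPGroup 3 U := by
    apply IsPGroup.of_card (n := 3 * (2 * m + 1))
    rw [hU]
    show (3 ^ (2 * m + 1)) ^ 3 = 3 ^ (3 * (2 * m + 1))
    rw [← pow_mul]; ring_nf
  have hUp' : IsPGroup 3 (U.map (MulAut.conj c⁻¹).toMonoidHom) := hUp.map _
  have hle : (P : Subgroup G) ≤ U.map (MulAut.conj c⁻¹).toMonoidHom := by
    intro g hg
    refine ⟨c * g * c⁻¹, hPU g hg, ?_⟩
    simp only [MulEquiv.coe_toMonoidHom, MulAut.conj_apply, inv_inv]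
    group
  have hPeq : U.map (MulAut.conj c⁻¹).toMonoidHom = P := P.is_maximal' hUp' hle
  -- the stabiliser of `o'` normalises `P`
  refine ⟨P, ?_, P, rfl⟩
  apply le_normalizer_of_conj
  intro s hs g hg
  rw [← hPeq] at hg ⊢
  obtain ⟨u', hu', rfl⟩ := hg
  have hso : c * s * c⁻¹ ∈ stabilizer G o := by
    rw [MulAction.mem_stabilizer_iff, mul_smul, mul_smul, ← hc, inv_smul_smul, hSo' s hs]
  refine ⟨(c * s * c⁻¹) * u' * (c * s * c⁻¹)⁻¹, hUn _ hso u' hu', ?_⟩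
  simp only [MulEquiv.coe_toMonoidHom, MulAut.conj_apply, inv_inv]
  group

/-- the case of a normal `r`-subgroup, `r > 3` -/
theorem case_big (h : RH G Ω m)
    (hNormT : ∀ D T V : Subgroup G, TorT m D T V → ∀ A₀ : Subgroup G, A₀ ≤ T → A₀ ≠ ⊥ →
      normalizer (A₀ : Set G) = normalizer (V : Set G) ∧
        normalizer (D : Set G) = normalizer (V : Set G) ∧
        Nat.card ↥(normalizer (V : Set G)) = 6 * (Q m + 1))
    (hInH : ∀ g : G, orderOf g ∣ Q m - 1 → 2 < orderOf g →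
      ∃ x y : Ω, x ≠ y ∧ g • x = x ∧ g • y = y)
    (hH : TorHyp G ((3 ^ (2 * m + 1)) ^ 2 - 3 ^ (2 * m + 1) + 1)
      ((3 ^ (2 * m + 1)) ^ 3 * (3 ^ (2 * m + 1) + 1) * (3 ^ (2 * m + 1) - 1)))
    (hTwo : ∀ C : Subgroup G, IsTorus ((3 ^ (2 * m + 1)) ^ 2 - 3 ^ (2 * m + 1) + 1) C →
      Nat.card ↥C = 3 ^ (2 * m + 1) - 3 ^ (m + 1) + 1 ∨
      Nat.card ↥C = 3 ^ (2 * m + 1) + 3 ^ (m + 1) + 1)
    (S R : Subgroup G)
    (hn : ∀ s ∈ S, ∀ x ∈ R, s * x * s⁻¹ ∈ R) (hR1 : R ≠ ⊥) (r : ℕ) (hr : r.Prime) (hr2 : r ≠ 2)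
    (hr3 : r ≠ 3) (hR : IsPGroup r R) :
    ∃ A : Subgroup G, S ≤ normalizer (A : Set G) ∧ IsCyclic A ∧
      (Nat.card A = (3 ^ (2 * m + 1) - 1) / 2 ∨ Nat.card A = (3 ^ (2 * m + 1) + 1) / 4 ∨
        Nat.card A = 3 ^ (2 * m + 1) - 3 ^ (m + 1) + 1 ∨
        Nat.card A = 3 ^ (2 * m + 1) + 3 ^ (m + 1) + 1) := by
  classical
  have : Fact r.Prime := ⟨hr⟩
  obtain ⟨hq27, -, -, h4, hodd, h7, -, h2half, -, -, -, -, -, -⟩ := arith m h.hm
  have hr5 : 3 < r := by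
    have := hr.two_le
    omega
  -- `R` lies in a cyclic Sylow subgroup
  obtain ⟨P, hP⟩ := hR.exists_le_sylow
  have hPcyc : IsCyclic ↥(P : Subgroup G) := h.sylp r hr5 P
  -- an element of order `r`
  obtain ⟨g, hgR, hg⟩ : ∃ g : G, g ∈ R ∧ orderOf g = r := by
    obtain ⟨n, hn'⟩ := IsPGroup.iff_card.mp hR
    have hn0 : n ≠ 0 := by
      rintro rfl
      apply hR1
      rw [pow_zero] at hn'
      exact Subgroup.card_eq_one.mp hn'
    have hdvd : r ∣ Nat.card ↥R := by rw [hn']; exact dvd_pow_self r hn0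
    obtain ⟨x, hx⟩ := exists_prime_orderOf_dvd_card' r hdvd
    exact ⟨(x : G), x.2, by rw [Subgroup.orderOf_coe, hx]⟩
  have hg1 : g ≠ 1 := by
    rintro rfl
    rw [orderOf_one] at hg
    exact hr.one_lt.ne hg
  have hgg : g * g ≠ 1 := by
    intro e
    have : orderOf g ∣ 2 := orderOf_dvd_of_pow_eq_one (by rw [pow_two]; exact e)
    rw [hg] at this
    have := Nat.le_of_dvd (by norm_num) this
    omega
  -- `S` normalises `⟨g⟩`
  have hSg : S ≤ normalizer ((zpowers g : Subgroup G) : Set G) := by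
    apply le_normalizer_of_conj
    intro s hs x hx
    have hconj : s * g * s⁻¹ ∈ zpowers g := by
      have h1 : zpowers (s * g * s⁻¹) = zpowers g := by
        apply Cfsg.Agent.Lib.Helper20_RH_TOR3.eq_of_card_eq_of_le_cyclic (P := (P : Subgroup G))
        · rw [Subgroup.zpowers_le]; exact hP (hn s hs g hgR)
        · rw [Subgroup.zpowers_le]; exact hP hgR
        · rw [Nat.card_zpowers, Nat.card_zpowers]
          have := orderOf_injective (MulAut.conj s).toMonoidHom (MulAut.conj s).injective g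
          simpa using this
      rw [← h1]
      exact Subgroup.mem_zpowers _
    obtain ⟨k, rfl⟩ := Subgroup.mem_zpowers_iff.mp hx
    have : s * g ^ k * s⁻¹ = (s * g * s⁻¹) ^ k := by
      rw [conj_zpow]
    rw [this]
    exact Subgroup.zpow_mem _ hconj k
  have hgne : (zpowers g : Subgroup G) ≠ ⊥ := by
    intro hb
    apply hg1
    have : g ∈ (⊥ : Subgroup G) := by rw [← hb]; exact Subgroup.mem_zpowers g
    exact Subgroup.mem_bot.mp this
  -- `r` divides `|G|`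
  have hrG : r ∣ (Q m) ^ 3 * (Q m - 1) * ((Q m) ^ 3 + 1) := by
    rw [← h.card_G, ← hg]
    exact orderOf_dvd_natCard g
  obtain ⟨hp1, -, hp3, -, hp5⟩ := arith_primes m h.hm r hr
  by_cases hrq : r ∣ Q m * ((Q m) ^ 2 - 1)
  · rcases hp1 hrq with e | e | ⟨-, hd⟩ | ⟨-, hd⟩
    · exact absurd e hr2
    · exact absurd e hr3
    · -- `r ∣ q - 1`
      obtain ⟨x, y, hxy, hx, hy⟩ := hInH g (by rw [hg]; exact hd) (by rw [hg]; omega)
      obtain ⟨hcyc, hcard⟩ := stab2_all h x y hxy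
      obtain ⟨h₀, hh₀⟩ := hcyc.exists_ofOrder_eq_natCard
      rw [hcard] at hh₀
      have hh₀' : orderOf (h₀ : G) = Q m - 1 := by rw [Subgroup.orderOf_coe, hh₀]
      set a : G := (h₀ : G) ^ 2 with ha
      have haord : orderOf a = (Q m - 1) / 2 := by
        rw [ha, orderOf_pow_of_dvd (by norm_num) (by rw [hh₀']; exact ⟨_, h2half.symm⟩), hh₀']
      have haH : a ∈ stabilizer G x ⊓ stabilizer G y := Subgroup.pow_mem _ h₀.2 2
      have haa : a * a ≠ 1 := by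
        intro e
        have h1 : (h₀ : G) ^ 4 = 1 := by
          have : (h₀ : G) ^ 4 = a * a := by rw [ha, ← pow_add]
          rw [this, e]
        have := orderOf_dvd_of_pow_eq_one h1
        rw [hh₀'] at this
        have := Nat.le_of_dvd (by norm_num) this
        omega
      have hgH : g ∈ stabilizer G x ⊓ stabilizer G y :=
        ⟨MulAction.mem_stabilizer_iff.mpr hx, MulAction.mem_stabilizer_iff.mpr hy⟩
      have hN1 := (normalizer_of_le_stab2 h x y hxy (zpowers a)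
        ((Subgroup.zpowers_le).mpr haH) ⟨a, Subgroup.mem_zpowers a, haa⟩).1
      have hN2 := (normalizer_of_le_stab2 h x y hxy (zpowers g)
        ((Subgroup.zpowers_le).mpr hgH) ⟨g, Subgroup.mem_zpowers g, hgg⟩).1
      refine ⟨zpowers a, ?_, inferInstance, Or.inl ?_⟩
      · rw [hN1, ← hN2]; exact hSg
      · rw [Nat.card_zpowers, haord]
    · -- `r ∣ q + 1`
      obtain ⟨-, -, hd4, -⟩ := hp3 hr2 hd
      obtain ⟨D, T, V, hT⟩ := exists_torT h
      obtain ⟨c, hc⟩ := sig_conj h D T V hT g hg1 (by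
        intro p hp hpd
        rw [hg] at hpd
        rw [(Nat.prime_dvd_prime_iff_eq hp hr).mp hpd]
        exact hd4)
      have hT' := torT_conj hT c⁻¹
      set T' := T.map (MulAut.conj c⁻¹).toMonoidHom with hT'def
      have hgT' : g ∈ T' := by
        refine ⟨c * g * c⁻¹, hc, ?_⟩
        simp only [MulEquiv.coe_toMonoidHom, MulAut.conj_apply, inv_inv]
        group
      have hT'ne : T' ≠ ⊥ := by
        intro hb
        rw [hb] at hgT'
        exact hg1 (Subgroup.mem_bot.mp hgT')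
      have hN1 := (hNormT _ T' _ hT' (zpowers g) ((Subgroup.zpowers_le).mpr hgT') hgne).1
      have hN2 := (hNormT _ T' _ hT' T' le_rfl hT'ne).1
      refine ⟨T', ?_, hT'.cyc, Or.inr (Or.inl hT'.card_T)⟩
      rw [hN2, ← hN1]; exact hSg
  · -- `r ∣ q² - q + 1`
    have hrN : r ∣ (Q m) ^ 2 - Q m + 1 := hp5 hrG hrq
    have hC : IsTorus ((3 ^ (2 * m + 1)) ^ 2 - 3 ^ (2 * m + 1) + 1)
        (centralizer ({g} : Set G)) := ⟨r, g, hr, hrN, hg, rfl⟩
    have hcard := hTwo _ hC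
    have hcyc := Cfsg.Agent.Lib.Helper79_RH_TOR2.isCyclic hH hC
    have hgC : (zpowers g : Subgroup G) ≤ centralizer ({g} : Set G) := by
      rw [Subgroup.zpowers_le, Subgroup.mem_centralizer_singleton_iff]
    have hN := Cfsg.Agent.Lib.Helper20_RH_TOR3.normalizer_eq hH hC (zpowers g) hgC hgne
    refine ⟨centralizer ({g} : Set G), ?_, hcyc, Or.inr (Or.inr hcard)⟩
    rw [← hN]; exact hSg

/-- PK F2361, with the statements of N4B, NORMT, INH, TORHYP, TOR7 as hypotheses. -/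
theorem f2361_of (h : RH G Ω m)
    (hFour : ∀ V V' : Subgroup G, Nat.card V = 4 → (∀ v ∈ V, v * v = 1) → Nat.card V' = 4 →
      (∀ v ∈ V', v * v = 1) → ∃ c : G, V' = V.map (MulAut.conj c).toMonoidHom)
    (hNormT : ∀ D T V : Subgroup G, TorT m D T V → ∀ A₀ : Subgroup G, A₀ ≤ T → A₀ ≠ ⊥ →
      normalizer (A₀ : Set G) = normalizer (V : Set G) ∧
        normalizer (D : Set G) = normalizer (V : Set G) ∧
        Nat.card ↥(normalizer (V : Set G)) = 6 * (Q m + 1))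
    (hInH : ∀ g : G, orderOf g ∣ Q m - 1 → 2 < orderOf g →
      ∃ x y : Ω, x ≠ y ∧ g • x = x ∧ g • y = y)
    (hH : TorHyp G ((3 ^ (2 * m + 1)) ^ 2 - 3 ^ (2 * m + 1) + 1)
      ((3 ^ (2 * m + 1)) ^ 3 * (3 ^ (2 * m + 1) + 1) * (3 ^ (2 * m + 1) - 1)))
    (hTwo : ∀ C : Subgroup G, IsTorus ((3 ^ (2 * m + 1)) ^ 2 - 3 ^ (2 * m + 1) + 1) C →
      Nat.card ↥C = 3 ^ (2 * m + 1) - 3 ^ (m + 1) + 1 ∨
      Nat.card ↥C = 3 ^ (2 * m + 1) + 3 ^ (m + 1) + 1)
    (S : Subgroup G) (hS : Group.IsSolvable S) :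
    ∃ A : Subgroup G, S ≤ Subgroup.normalizer (A : Set G) ∧
      ((∃ P : Sylow 2 G, A = P) ∨ (∃ P : Sylow 3 G, A = P) ∨
       (IsCyclic A ∧ (Nat.card A = (3 ^ (2 * m + 1) - 1) / 2 ∨ Nat.card A = (3 ^ (2 * m + 1) + 1) / 4 ∨
          Nat.card A = 3 ^ (2 * m + 1) - 3 ^ (m + 1) + 1 ∨ Nat.card A = 3 ^ (2 * m + 1) + 3 ^ (m + 1) + 1))) := by
  by_cases hS1 : S = ⊥
  · obtain ⟨P⟩ : Nonempty (Sylow 2 G) := inferInstance
    exact ⟨P, by rw [hS1]; exact bot_le, Or.inl ⟨P, rfl⟩⟩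
  · obtain ⟨R, hRS, hR1, hn, hcase⟩ := exists_normal_sub h S hS hS1
    rcases hcase with ⟨r, hr, hr2, hRr⟩ | h4 | h8 | ⟨hRS', h2⟩
    · by_cases hr3 : r = 3
      · subst hr3
        obtain ⟨A, hA, hP⟩ := case_three h S R hn hR1 hRr
        exact ⟨A, hA, Or.inr (Or.inl hP)⟩
      · obtain ⟨A, hA, hcyc, hcard⟩ := case_big h hNormT hInH hH hTwo S R hn hR1 r hr hr2 hr3 hRr
        exact ⟨A, hA, Or.inr (Or.inr ⟨hcyc, hcard⟩)⟩
    · obtain ⟨A, hA, hcyc, hcard⟩ := case_four h hFour hNormT S R hn h4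
      exact ⟨A, hA, Or.inr (Or.inr ⟨hcyc, Or.inr (Or.inl hcard)⟩)⟩
    · obtain ⟨A, hA, hP⟩ := case_eight h S R hn h8
      exact ⟨A, hA, Or.inl hP⟩
    · rw [hRS'] at h2
      obtain ⟨A, hA, hP⟩ := case_two h S h2
      exact ⟨A, hA, Or.inl hP⟩

end Cfsg.Agent.Lib.Helper77_RH_F2361aux
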