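import Cfsg.Agent.Lib.Helper37_RHDefs
import Cfsg.Agent.Lib.Helper26_RHTorDefs
import Cfsg.Agent.Lib.Helper79_RH_TORHYPaux
import Cfsg.Agent.Lib.Helper92_RH_PICENT
import Cfsg.Agent.Lib.Helper92_RH_NOFIX
import Cfsg.Agent.Lib.Helper3_RH_NORMT
import Cfsg.Agent.Lib.Helper3_RH_SIGCOUNT
import Cfsg.Agent.Lib.Helper26_RH_CARDPIaux
import Cfsg.Agent.Lib.Helper26_RH_F1158aux
import Cfsg.Agent.Lib.Helper26_RH_F2357Daux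
import Cfsg.Agent.Lib.Helper26_RH_TOR7
import Cfsg.Agent.Lib.Helper39_RH_TOR8B
import Cfsg.Agent.Lib.Helper39_RH_TOR8C
import Cfsg.Agent.Lib.Helper39_RH_TOR8D
import Cfsg.Agent.Lib.Helper42_RH_F2358aux
import Cfsg.Agent.Lib.Helper47_RH_F2357A
import Cfsg.Agent.Lib.Helper29_RH_F2357B
import Cfsg.Agent.Lib.Helper71_RH_F2357Caux
import Cfsg.Agent.Lib.Helper77_RH_F1159aux
import Cfsg.Agent.Lib.Helper77_RH_F2361aux
import Cfsg.Agent.Lib.Helper57_RH_N4B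
import Cfsg.Agent.Lib.Helper60_RH_TORT
import Cfsg.Agent.Lib.Helper88_RH_ONEFIX
import Cfsg.Agent.Lib.Helper91_RH_INH
import Cfsg.Agent.Lib.Helper91_RH_SIGCONJ

set_option autoImplicit false

/-!
# Helper37_RHFinal: the assembly of the REEHALL packages (abstract forms of S1158, S1159, S2357, S2358, S2361)
-/

namespace Cfsg.Agent.Lib.Helper37_RHFinal

open MulAction Subgroup Cfsg.Agent.Lib.Helper37_RHDefs Cfsg.Agent.Lib.Helper26_RHTorDefs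

variable {G : Type*} [Group G] [Finite G] {Ω : Type*} [MulAction G Ω] {m : ℕ}

theorem torHyp (h : RH G Ω m) :
    TorHyp G ((3 ^ (2 * m + 1)) ^ 2 - 3 ^ (2 * m + 1) + 1)
      ((3 ^ (2 * m + 1)) ^ 3 * (3 ^ (2 * m + 1) + 1) * (3 ^ (2 * m + 1) - 1)) :=
  Cfsg.Agent.Lib.Helper79_RH_TORHYPaux.torHyp_of h (fun x hx g hg hg1 =>
    Cfsg.Agent.Lib.Helper92_RH_PICENT.cent_pi h x hx g hg hg1)

theorem card_pi (h : RH G Ω m) :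
    3 * Nat.card {g : G // g ≠ 1 ∧ orderOf g ∣ (3 ^ (2 * m + 1)) ^ 2 - 3 ^ (2 * m + 1) + 1} =
      (3 ^ (2 * m + 1)) ^ 4 * (3 ^ (2 * m + 1) + 1) * (3 ^ (2 * m + 1) - 1) * (3 ^ (2 * m + 1) - 2) :=
  Cfsg.Agent.Lib.Helper26_RH_CARDPIaux.card_pi_of h
    (fun D T V hT g hg => Cfsg.Agent.Lib.Helper92_RH_NOFIX.nofix_cases h D T V hT g hg)
    (fun g hg => Cfsg.Agent.Lib.Helper92_RH_NOFIX.nofix_of_pi h g hg)
    (fun D T V hT g hg => Cfsg.Agent.Lib.Helper92_RH_NOFIX.nofix_of_sig h D T V hT g hg)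
    (fun D T V hT => Cfsg.Agent.Lib.Helper3_RH_SIGCOUNT.card_sig h D T V hT)

theorem f1158 (h : RH G Ω m) :
    ∀ kn ∈ ({((3 ^ (2 * m + 1) - 1) / 2, 2 * (3 ^ (2 * m + 1) - 1)),
        ((3 ^ (2 * m + 1) + 1) / 4, 6 * (3 ^ (2 * m + 1) + 1)),
        (3 ^ (2 * m + 1) - 3 ^ (m + 1) + 1, 6 * (3 ^ (2 * m + 1) - 3 ^ (m + 1) + 1)),
        (3 ^ (2 * m + 1) + 3 ^ (m + 1) + 1, 6 * (3 ^ (2 * m + 1) + 3 ^ (m + 1) + 1))} : Set (ℕ × ℕ)),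
      ∃ A : Subgroup G, IsCyclic A ∧ Nat.card A = kn.1 ∧
        Nat.card (Subgroup.normalizer (A : Set G)) = kn.2 ∧
        ∀ A₀ : Subgroup G, A₀ ≤ A → A₀ ≠ ⊥ →
          Subgroup.normalizer (A₀ : Set G) = Subgroup.normalizer (A : Set G) :=
  Cfsg.Agent.Lib.Helper26_RH_F1158aux.f1158_of h
    (fun D T V hT A₀ hA hA1 => Cfsg.Agent.Lib.Helper3_RH_NORMT.normalizer_torT h D T V hT A₀ hA hA1)
    (torHyp h) (card_pi h)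

theorem f2357a (h : RH G Ω m) :
    Nat.card {g : G // orderOf g = 2} = (3 ^ (2 * m + 1)) ^ 2 * ((3 ^ (2 * m + 1)) ^ 2 - 3 ^ (2 * m + 1) + 1) ∧
    Nat.card {g : G // orderOf g = 3} = ((3 ^ (2 * m + 1)) ^ 2 - 1) * ((3 ^ (2 * m + 1)) ^ 3 + 1) ∧
    Nat.card {g : G // orderOf g = 6} =
      (3 ^ (2 * m + 1)) ^ 2 * (3 ^ (2 * m + 1) - 1) * ((3 ^ (2 * m + 1)) ^ 3 + 1) ∧
    Nat.card {g : G // orderOf g = 9} =
      (3 ^ (2 * m + 1)) ^ 2 * (3 ^ (2 * m + 1) - 1) * ((3 ^ (2 * m + 1)) ^ 3 + 1) :=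
  Cfsg.Agent.Lib.Helper47_RH_F2357A.f2357a h

theorem f1159 (h : RH G Ω m) (d : ℕ) :
    (∃ g : G, orderOf g = d) ↔
      (d ∣ 6 ∨ d ∣ 9 ∨ d ∣ 3 ^ (2 * m + 1) - 1 ∨ d ∣ (3 ^ (2 * m + 1) + 1) / 2 ∨
        d ∣ 3 ^ (2 * m + 1) - 3 ^ (m + 1) + 1 ∨ d ∣ 3 ^ (2 * m + 1) + 3 ^ (m + 1) + 1) :=
  Cfsg.Agent.Lib.Helper77_RH_F1159aux.f1159_of h
    (fun D T V hT g hg => Cfsg.Agent.Lib.Helper92_RH_NOFIX.nofix_cases h D T V hT g hg)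
    (fun g => Cfsg.Agent.Lib.Helper88_RH_ONEFIX.fixN_eq_one_iff h g)
    (fun g hg => Cfsg.Agent.Lib.Helper88_RH_ONEFIX.order_of_three_dvd h g hg)
    (f2357a h)
    (fun g hg => Cfsg.Agent.Lib.Helper39_RH_TOR8D.order_dvd h.hm (torHyp h) (card_pi h) g hg)
    (fun d hd => Cfsg.Agent.Lib.Helper39_RH_TOR8D.exists_order h.hm (torHyp h) (card_pi h) d hd) d

theorem f2357b (h : RH G Ω m) (i : ℕ) (hi : 2 < i) (hd : i ∣ 3 ^ (2 * m + 1) - 1) :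
    2 * Nat.card {g : G // orderOf g = i} =
      Nat.totient i * (3 ^ (2 * m + 1)) ^ 3 * ((3 ^ (2 * m + 1)) ^ 3 + 1) :=
  Cfsg.Agent.Lib.Helper29_RH_F2357B.f2357b h i hi hd

theorem f2357c (h : RH G Ω m) (i : ℕ) (hi : 1 < i) (hd : i ∣ (3 ^ (2 * m + 1) + 1) / 4) :
    6 * Nat.card {g : G // orderOf g = i} =
        Nat.totient i * (3 ^ (2 * m + 1)) ^ 3 * (3 ^ (2 * m + 1) - 1) *
          ((3 ^ (2 * m + 1)) ^ 2 - 3 ^ (2 * m + 1) + 1) ∧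
      2 * Nat.card {g : G // orderOf g = 2 * i} =
        Nat.totient i * (3 ^ (2 * m + 1)) ^ 3 * (3 ^ (2 * m + 1) - 1) *
          ((3 ^ (2 * m + 1)) ^ 2 - 3 ^ (2 * m + 1) + 1) :=
  Cfsg.Agent.Lib.Helper71_RH_F2357Caux.f2357c_aux h
    (fun D T V hT A₀ hA hA1 => Cfsg.Agent.Lib.Helper3_RH_NORMT.normalizer_torT h D T V hT A₀ hA hA1) i hi hd

theorem f2357d (h : RH G Ω m) :
    (∀ i : ℕ, 1 < i → i ∣ 3 ^ (2 * m + 1) - 3 ^ (m + 1) + 1 →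
      6 * Nat.card {g : G // orderOf g = i} =
        Nat.totient i * (3 ^ (2 * m + 1)) ^ 3 * ((3 ^ (2 * m + 1)) ^ 2 - 1) *
          (3 ^ (2 * m + 1) + 3 ^ (m + 1) + 1)) ∧
    (∀ i : ℕ, 1 < i → i ∣ 3 ^ (2 * m + 1) + 3 ^ (m + 1) + 1 →
      6 * Nat.card {g : G // orderOf g = i} =
        Nat.totient i * (3 ^ (2 * m + 1)) ^ 3 * ((3 ^ (2 * m + 1)) ^ 2 - 1) *
          (3 ^ (2 * m + 1) - 3 ^ (m + 1) + 1)) :=
  Cfsg.Agent.Lib.Helper26_RH_F2357Daux.f2357d_of h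
    (fun c hc i hi hic => Cfsg.Agent.Lib.Helper39_RH_TOR8C.card_order_eq h.hm (torHyp h) (card_pi h) c hc i hi hic)

theorem f2358 (h : RH G Ω m) (d : ℕ)
    (hd : d ∣ (3 ^ (2 * m + 1) - 1) / 2 ∨ d ∣ (3 ^ (2 * m + 1) + 1) / 4 ∨
      d ∣ 3 ^ (2 * m + 1) - 3 ^ (m + 1) + 1 ∨ d ∣ 3 ^ (2 * m + 1) + 3 ^ (m + 1) + 1)
    (A B : Subgroup G) (hA : IsCyclic A) (hB : IsCyclic B) (hAd : Nat.card A = d) (hBd : Nat.card B = d) :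
    ∃ g : G, B = A.map (MulAut.conj g).toMonoidHom :=
  Cfsg.Agent.Lib.Helper42_RH_F2358aux.f2358_of h
    (fun g hd hg => Cfsg.Agent.Lib.Helper91_RH_INH.mem_stab2_of_order h g hd hg)
    (Cfsg.Agent.Lib.Helper60_RH_TORT.exists_torT h)
    (fun D T V hT g hg1 hg => Cfsg.Agent.Lib.Helper91_RH_SIGCONJ.sig_conj h D T V hT g hg1 hg)
    (fun d hd A B hA hB hAd hBd =>
      Cfsg.Agent.Lib.Helper39_RH_TOR8B.cyclic_conj h.hm (torHyp h) (card_pi h) d hd A B hA hB hAd hBd)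
    d hd A B hA hB hAd hBd

theorem f2361 (h : RH G Ω m) (S : Subgroup G) (hS : Group.IsSolvable S) :
    ∃ A : Subgroup G, S ≤ Subgroup.normalizer (A : Set G) ∧
      ((∃ P : Sylow 2 G, A = P) ∨ (∃ P : Sylow 3 G, A = P) ∨
       (IsCyclic A ∧ (Nat.card A = (3 ^ (2 * m + 1) - 1) / 2 ∨ Nat.card A = (3 ^ (2 * m + 1) + 1) / 4 ∨
          Nat.card A = 3 ^ (2 * m + 1) - 3 ^ (m + 1) + 1 ∨ Nat.card A = 3 ^ (2 * m + 1) + 3 ^ (m + 1) + 1))) :=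
  Cfsg.Agent.Lib.Helper77_RH_F2361aux.f2361_of h
    (fun V V' hV4 hV2 hV'4 hV'2 => Cfsg.Agent.Lib.Helper57_RH_N4B.four_conj h V V' hV4 hV2 hV'4 hV'2)
    (fun D T V hT A₀ hA hA1 => Cfsg.Agent.Lib.Helper3_RH_NORMT.normalizer_torT h D T V hT A₀ hA hA1)
    (fun g hd hg => Cfsg.Agent.Lib.Helper91_RH_INH.mem_stab2_of_order h g hd hg)
    (torHyp h)
    (Cfsg.Agent.Lib.Helper26_RH_TOR7.two_classes h.hm (torHyp h) (card_pi h)).2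
    S hS

end Cfsg.Agent.Lib.Helper37_RHFinal
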