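import Cfsg.Agent.Lib.Helper36_ReeStab
import Cfsg.Agent.Lib.Helper37_SL2Bruhat

set_option autoImplicit false

/-!
The centraliser of the involution of `H¹` in the twisted group of type `²G₂`: notation for the fixed elements of `U` and
`V` as elements of the general linear group, the involution, and the hypotheses on the homomorphism from `SL₂`.
-/

namespace Cfsg.Agent.Lib.Helper37_ReeCentDefs

open Cfsg Cfsg.Lie Cfsg.Agent.Lib.Helper36_ReeFix Cfsg.Agent.Lib.Helper36_ReeBruhat
  Cfsg.Agent.Lib.Helper36_ReeH Cfsg.Agent.Lib.Helper36_ReePerf Cfsg.Agent.Lib.Helper36_ReeOrder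
  Cfsg.Agent.Lib.Helper36_ReeBN Cfsg.Agent.Lib.Helper36_ChevBorel Cfsg.Agent.Lib.Helper36_ChevTables
  Cfsg.Agent.Lib.Helper36_ReeTw Cfsg.Agent.Lib.Helper36_ReeSylow Cfsg.Agent.Lib.Helper36_ReeOdd
  Cfsg.Agent.Lib.Helper36_ChevCore Cfsg.Agent.Lib.Helper36_ChevTorus Cfsg.Agent.Lib.Helper36_ReeAlg
  Cfsg.Agent.Lib.Helper37_SL2Bruhat

section

variable {K : Type*} [Field K] [Fintype K] [CharP K 3] {m : ℕ} (hK : Fintype.card K = 3 ^ (2 * m + 1))

/-- The fixed elements of `U` (generators of the first kind), as elements of the general linear group. -/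
noncomputable def Wp (t u v : K) : GL chevG2.Idx K :=
  (((posSys hK).W t u v : ↥(chevG2.group K)) : GL chevG2.Idx K)

/-- The fixed elements of `V` (generators of the second kind), as elements of the general linear group. -/
noncomputable def Wn (t u v : K) : GL chevG2.Idx K :=
  (((negSys hK).W t u v : ↥(chevG2.group K)) : GL chevG2.Idx K)

/-- The involution of `H¹`. -/
noncomputable def aa (K : Type*) [Field K] [CharP K 3] (m : ℕ) : GL chevG2.Idx K := hfix K m (-1)

theorem Wp_mem (t u v : K) : Wp hK t u v ∈ twistedG2 K (3 ^ m) := W_pos_mem hK t u v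

theorem Wn_mem (t u v : K) : Wn hK t u v ∈ twistedG2 K (3 ^ m) := W_neg_mem hK t u v

theorem Wp_memU (t u v : K) : Wp hK t u v ∈ chevG2.posUnipotent K := W_pos_memU hK t u v

theorem Wn_memV (t u v : K) : Wn hK t u v ∈ chevG2.negUnipotent K := W_neg_memV hK t u v

theorem Wp_inj (t u v t' u' v' : K) (h : Wp hK t u v = Wp hK t' u' v') : t = t' ∧ u = u' ∧ v = v' :=
  W_pos_inj hK t u v t' u' v' (Subtype.ext h)

include hK in
theorem aa_mem : aa K m ∈ twistedG2 K (3 ^ m) := hfix_mem hK (-1)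

omit [Fintype K] in
theorem aa_mem_diag : aa K m ∈ chevG2.diagonalSubgroup K := hfix_mem_diag (-1)

omit [Fintype K] in
theorem aa_sq : aa K m * aa K m = 1 := by
  unfold aa
  rw [← map_mul]
  simp

/-- The hypotheses on the homomorphism `Φ : SL₂(K) → GL`: it maps the upper and lower unitriangular elements to the
fixed elements `W⁺(0, t, 0)` and `W⁻(0, -t, 0)`, the diagonal elements into `H`, the Weyl element into `N`, and `-1` to
`1`. -/
structure PhiOK (Φ : Matrix.SpecialLinearGroup (Fin 2) K →* GL chevG2.Idx K) : Prop where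
  hup : ∀ t : K, Φ (up t) = Wp hK 0 t 0
  hlo : ∀ t : K, Φ (lo t) = Wn hK 0 (-t) 0
  hdg : ∀ l : Kˣ, Φ (dg l) ∈ chevG2.diagonalSubgroup K
  hwe : Φ we ∈ chevG2.monomialSubgroup K
  hneg : Φ (dg (-1)) = 1

end

end Cfsg.Agent.Lib.Helper37_ReeCentDefs
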