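import Cfsg.Agent.Lib.Helper37_ReeCentDefs
import Cfsg.Agent.Lib.Helper37_ReeCent_KER

set_option autoImplicit false

/-!
REE-CENT package ANOTIN: the involution `aa` of `H¹` does not lie in the image of `Φ : SL₂(K) → G¹`.
-/

namespace Cfsg.Agent.Lib.Helper37_ReeCent_ANOTIN

open Cfsg Cfsg.Lie Cfsg.Agent.Lib.Helper36_ReeFix Cfsg.Agent.Lib.Helper36_ReeBruhat
  Cfsg.Agent.Lib.Helper36_ReeH Cfsg.Agent.Lib.Helper36_ReePerf Cfsg.Agent.Lib.Helper36_ReeOrder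
  Cfsg.Agent.Lib.Helper36_ReeBN Cfsg.Agent.Lib.Helper36_ChevBorel Cfsg.Agent.Lib.Helper36_ChevTables
  Cfsg.Agent.Lib.Helper36_ReeTw Cfsg.Agent.Lib.Helper36_ReeSylow Cfsg.Agent.Lib.Helper36_ReeOdd
  Cfsg.Agent.Lib.Helper36_ChevCore Cfsg.Agent.Lib.Helper36_ChevTorus Cfsg.Agent.Lib.Helper36_ReeAlg
  Cfsg.Agent.Lib.Helper36_ReeStab Cfsg.Agent.Lib.Helper36_ReeSetup
  Cfsg.Agent.Lib.Helper37_SL2Bruhat Cfsg.Agent.Lib.Helper37_ReeCentDefs Cfsg.Agent.Lib.Helper37_ReeCent_KER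

section

variable {K : Type*} [Field K] [Fintype K] [CharP K 3] {m : ℕ} (hK : Fintype.card K = 3 ^ (2 * m + 1))

theorem aa_not_mem (Φ : Matrix.SpecialLinearGroup (Fin 2) K →* GL chevG2.Idx K) (hΦ : PhiOK hK Φ)
    (hmem : ∀ g, Φ g ∈ twistedG2 K (3 ^ m)) (hwe : Φ we ∉ chevG2.diagonalSubgroup K) (hne : aa K m ≠ 1) :
    aa K m ∉ Φ.range := by
  rintro ⟨g, hg⟩
  have haaH : aa K m ∈ chevG2.diagonalSubgroup K ⊓ twistedG2 K (3 ^ m) := ⟨aa_mem_diag, aa_mem hK⟩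
  rcases bruhat g with ⟨t, l, rfl⟩ | ⟨t, l, s, rfl⟩
  · rw [map_mul, hΦ.hup] at hg
    obtain ⟨-, e2⟩ := small_cell_unique hK _ ⟨Wp_memU hK 0 t 0, Wp_mem hK 0 t 0⟩ _
      ⟨hΦ.hdg l, hmem _⟩ (aa K m) haaH hg
    have hW : aa K m * Wp hK 0 1 0 * (aa K m)⁻¹ = Wp hK 0 1 0 := conj_W010 hK
    have hl : Φ (up ((l : K) ^ 2 * 1)) = Φ (up 1) := by
      rw [← dg_conj_up, map_mul, map_mul, e2, map_inv, e2, hΦ.hup]
      exact hW
    rw [hΦ.hup, hΦ.hup] at hl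
    have hl2 : (l : K) ^ 2 * 1 = 1 := (Wp_inj hK _ _ _ _ _ _ hl).2.1
    rw [mul_one] at hl2
    have hl3 : (l : K) = 1 ∨ (l : K) = -1 := by
      have h3 : ((l : K) - 1) * ((l : K) + 1) = 0 := by linear_combination hl2
      rcases mul_eq_zero.mp h3 with h | h
      · left; exact sub_eq_zero.mp h
      · right; exact eq_neg_of_add_eq_zero_left h
    apply hne
    rw [← e2]
    rcases hl3 with h | h
    · have h4 : l = 1 := Units.ext h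
      rw [h4, dg_one, map_one]
    · have h4 : l = -1 := Units.ext (by rw [h]; simp)
      rw [h4]
      exact hΦ.hneg
  · obtain ⟨h0, hh0, e⟩ := Phi_big hK Φ hΦ hmem hwe t l s
    rw [e] at hg
    exact big_cell_ne hK _ ⟨Wp_memU hK 0 t 0, Wp_mem hK 0 t 0⟩ h0 hh0 _
      ⟨Wp_memU hK 0 s 0, Wp_mem hK 0 s 0⟩ (aa K m) haaH hg

end

end Cfsg.Agent.Lib.Helper37_ReeCent_ANOTIN
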