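import Cfsg.Agent.Lib.Helper36_ReeOut

set_option autoImplicit false

/-!
# Helper37_S2113_REE: the data of the small Ree group needed for its Schur multiplier (S2113)

The parametrisation `W(t,u,v)` of `U¹`, the torus elements `hfix μ`, and the involution `hfix (-1)`, as elements of
the twisted group, with the relations proved by helper36.
-/

namespace Cfsg.Agent.Lib.Helper37_S2113_REE

open Cfsg Cfsg.Lie Cfsg.Agent.Lib.Helper36_ReeFix Cfsg.Agent.Lib.Helper36_ReeH
  Cfsg.Agent.Lib.Helper36_ReeOut Cfsg.Agent.Lib.Helper36_ReeSylow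

variable {K : Type*} [Field K] [Fintype K] [CharP K 3] {m : ℕ}

/-- `x ↦ (θ x) ^ 3`. -/
noncomputable def sHom (K : Type*) [Field K] [CharP K 3] (m : ℕ) : K →+* K :=
  (frobenius K 3).comp (theta K m)

omit [Fintype K] in
theorem sHom_apply (x : K) : sHom K m x = (theta K m x) ^ 3 := rfl

theorem sHom_sHom (hK : Fintype.card K = 3 ^ (2 * m + 1)) (x : K) : sHom K m (sHom K m x) = x ^ 3 := by
  rw [sHom_apply, sHom_apply, map_pow, theta_theta hK]

/-- The data of `U¹` and `H¹`. -/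
theorem ree_data (hK : Fintype.card K = 3 ^ (2 * m + 1)) :
    ∃ (w : K → K → K → ↥(twistedG2 K (3 ^ m))) (h : Kˣ → ↥(twistedG2 K (3 ^ m)))
      (U : Subgroup ↥(twistedG2 K (3 ^ m))),
      (∀ t u v t' u' v' : K, w t u v * w t' u' v' =
        w (t + t') (u + u' - t * sHom K m t')
          (v + v' - t' * u + t * t' * sHom K m t' - t ^ 2 * sHom K m t')) ∧
      (∀ (μ : Kˣ) (t u v : K), h μ * w t u v * (h μ)⁻¹ =
        w ((μ : K) ^ 2 * (sHom K m μ)⁻¹ * t) (sHom K m μ * (μ : K)⁻¹ * u) ((μ : K) * v)) ∧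
      (∀ g, g ∈ U ↔ ∃ t u v : K, g = w t u v) ∧ ¬ 3 ∣ U.index := by
  refine ⟨fun t u v => ⟨(((posSys hK).W t u v : ↥(chevG2.group K)) : GL chevG2.Idx K), W_pos_mem hK t u v⟩,
    fun μ => ⟨hfix K m μ, hfix_mem hK μ⟩,
    (chevG2.posUnipotent K ⊓ twistedG2 K (3 ^ m)).subgroupOf (twistedG2 K (3 ^ m)), ?_, ?_, ?_, index_U1 hK⟩
  · intro t u v t' u' v'
    apply Subtype.ext
    have h1 := congrArg (fun g : ↥(chevG2.group K) => (g : GL chevG2.Idx K)) (W_mul hK t u v t' u' v')
    simpa [sHom_apply] using h1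
  · intro μ t u v
    apply Subtype.ext
    have h1 := hfix_conj hK μ t u v
    simpa [sHom_apply] using h1
  · intro g
    rw [Subgroup.mem_subgroupOf, mem_U_inf hK]
    constructor
    · rintro ⟨t, u, v, h1⟩
      exact ⟨t, u, v, Subtype.ext h1⟩
    · rintro ⟨t, u, v, h1⟩
      exact ⟨t, u, v, congrArg Subtype.val h1⟩

/-- The involution of `H¹`. -/
theorem ree_invol (hK : Fintype.card K = 3 ^ (2 * m + 1)) :
    ∃ a : ↥(twistedG2 K (3 ^ m)), (a : GL chevG2.Idx K) ∈ chevG2.diagonalSubgroup K ∧ a ≠ 1 ∧ a * a = 1 := by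
  refine ⟨⟨hfix K m (-1), hfix_mem hK (-1)⟩, hfix_mem_diag (-1), ?_, ?_⟩
  · intro h1
    have h2 : hfix K m (-1) = 1 := congrArg Subtype.val h1
    rw [← map_one (hfix K m)] at h2
    have h3 := hfix_injective h2
    have h4 : ((-1 : Kˣ) : K) = 1 := by rw [h3]; rfl
    have h5 : (2 : K) = 0 := by
      have : (-1 : K) = 1 := by simpa using h4
      linear_combination -this
    have h6 : (3 : K) = 0 := by
      have := CharP.cast_eq_zero K 3
      simpa using this
    have : (1 : K) = 0 := by linear_combination h6 - h5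
    exact one_ne_zero this
  · apply Subtype.ext
    show hfix K m (-1) * hfix K m (-1) = 1
    rw [← map_mul]
    simp

end Cfsg.Agent.Lib.Helper37_S2113_REE
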