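import Mathlib
import Cfsg.Prelude.Def_LieExceptional
import Cfsg.Agent.S0335

/-!
# Basic structure of the Suzuki group `Cfsg.Sz F m` (helper37)

Explicit elements `uSL a b` (the Sylow 2-subgroup), `hSL ζ` (the torus) and `wSL` (the inversion)
of the stabiliser of the Suzuki–Tits ovoid, their action on the ovoid, and the group laws.
-/

set_option autoImplicit false
open Cfsg

namespace Cfsg.Agent.Helper37Sz

open Cfsg.Agent.S0335 (sf sf_aniso sf_inv sf_collinear)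
open Matrix
open scoped Pointwise

section Alg

variable {F : Type*} [Field F]

/-- the `σ`-map `z ↦ z ^ 2 ^ (m+1)` as a ring hom, in characteristic 2 -/
noncomputable def sgHom (F : Type*) [Field F] (m : ℕ) (h2 : (2 : F) = 0) : F →+* F :=
  letI := CharTwo.of_one_ne_zero_of_two_eq_zero (R := F) one_ne_zero h2
  iterateFrobenius F 2 (m + 1)

theorem sgHom_apply (m : ℕ) (h2 : (2 : F) = 0) (z : F) : sgHom F m h2 z = z ^ 2 ^ (m + 1) := rfl

theorem two_eq_zero_of_card [Fintype F] {m : ℕ} (hF : Fintype.card F = 2 ^ (2 * m + 1)) :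
    (2 : F) = 0 := by
  have hcard : ((2 ^ (2 * m + 1) : ℕ) : F) = 0 := by
    rw [← hF]; exact FiniteField.cast_card_eq_zero F
  have : (2 : F) ^ (2 * m + 1) = 0 := by exact_mod_cast hcard
  exact (pow_eq_zero_iff (by omega)).1 this

theorem sgHom_sgHom [Fintype F] {m : ℕ} (hF : Fintype.card F = 2 ^ (2 * m + 1))
    (h2 : (2 : F) = 0) (z : F) : sgHom F m h2 (sgHom F m h2 z) = z ^ 2 := by
  rw [sgHom_apply, sgHom_apply, ← pow_mul]
  have : 2 ^ (m + 1) * 2 ^ (m + 1) = 2 ^ (2 * m + 1) * 2 := by ring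
  rw [this, pow_mul, ← hF, FiniteField.pow_card]

variable (S : F →+* F)

/-- the point at infinity -/
def pInf : Fin 4 → F := ![1, 0, 0, 0]

/-- the affine points of the ovoid -/
def pAff (x y : F) : Fin 4 → F := ![sf S x y, y, x, 1]

theorem pInf_ne_zero : (pInf : Fin 4 → F) ≠ 0 := by
  intro h
  have := congrFun h 0
  simp [pInf] at this

theorem pAff_ne_zero (x y : F) : pAff S x y ≠ 0 := by
  intro h
  have := congrFun h 3
  simp [pAff] at this

/-- the unipotent elements -/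
def uMat (a b : F) : Matrix (Fin 4) (Fin 4) F :=
  !![1, a, b + S a * a, sf S a b; 0, 1, S a, b; 0, 0, 1, a; 0, 0, 0, 1]

/-- the torus elements -/
def hMat (t : F) : Matrix (Fin 4) (Fin 4) F :=
  !![S t * t ^ 2, 0, 0, 0; 0, S t, 0, 0; 0, 0, (S t)⁻¹, 0; 0, 0, 0, (S t * t ^ 2)⁻¹]

/-- the inversion -/
def wMat : Matrix (Fin 4) (Fin 4) F :=
  !![0, 0, 0, 1; 0, 0, 1, 0; 0, 1, 0, 0; 1, 0, 0, 0]

variable {S}

theorem uMat_mulVec_pInf (a b : F) : uMat S a b *ᵥ pInf = pInf := by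
  ext i
  fin_cases i <;> simp [uMat, pInf, Matrix.mulVec, dotProduct, Fin.sum_univ_four]

theorem uMat_mulVec_pAff (h2 : (2 : F) = 0) (hS : ∀ z, S (S z) = z ^ 2) (a b x y : F) :
    uMat S a b *ᵥ pAff S x y = pAff S (x + a) (y + b + S a * x) := by
  ext i
  fin_cases i
  · simp only [uMat, pAff, sf, Matrix.mulVec, dotProduct, Fin.sum_univ_four, map_add, map_mul, hS]
    simp
    rw [← sub_eq_zero]
    ring_nf
    simp [h2]
  · simp [uMat, pAff, Matrix.mulVec, dotProduct, Fin.sum_univ_four]; ring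
  · simp [uMat, pAff, Matrix.mulVec, dotProduct, Fin.sum_univ_four]
  · simp [uMat, pAff, Matrix.mulVec, dotProduct, Fin.sum_univ_four]

theorem hMat_mulVec_pInf (t : F) : hMat S t *ᵥ pInf = (S t * t ^ 2) • pInf := by
  ext i
  fin_cases i <;> simp [hMat, pInf, Matrix.mulVec, dotProduct, Fin.sum_univ_four]

theorem hMat_mulVec_pAff (hS : ∀ z, S (S z) = z ^ 2) {t : F} (ht : t ≠ 0) (x y : F) :
    hMat S t *ᵥ pAff S x y = (S t * t ^ 2)⁻¹ • pAff S (t ^ 2 * x) (S t ^ 2 * t ^ 2 * y) := by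
  have hSt : S t ≠ 0 := by simpa using ht
  ext i
  fin_cases i
  · simp only [hMat, pAff, sf, Matrix.mulVec, dotProduct, Fin.sum_univ_four, map_mul, map_pow, hS]
    simp
    field_simp
  · simp [hMat, pAff, Matrix.mulVec, dotProduct, Fin.sum_univ_four]; field_simp
  · simp [hMat, pAff, Matrix.mulVec, dotProduct, Fin.sum_univ_four]; field_simp
  · simp [hMat, pAff, Matrix.mulVec, dotProduct, Fin.sum_univ_four]

theorem wMat_mulVec_pInf : (wMat : Matrix (Fin 4) (Fin 4) F) *ᵥ pInf = pAff S 0 0 := by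
  ext i
  fin_cases i <;> simp [wMat, pInf, pAff, sf, Matrix.mulVec, dotProduct, Fin.sum_univ_four]

theorem wMat_mulVec_pAff_zero : (wMat : Matrix (Fin 4) (Fin 4) F) *ᵥ pAff S 0 0 = pInf := by
  ext i
  fin_cases i <;> simp [wMat, pInf, pAff, sf, Matrix.mulVec, dotProduct, Fin.sum_univ_four]

theorem wMat_mulVec_pAff (h2 : (2 : F) = 0) (hS : ∀ z, S (S z) = z ^ 2) {x y : F}
    (hf : sf S x y ≠ 0) :
    (wMat : Matrix (Fin 4) (Fin 4) F) *ᵥ pAff S x y
      = sf S x y • pAff S (y / sf S x y) (x / sf S x y) := by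
  have hinv := sf_inv h2 hS hf
  ext i
  fin_cases i
  · simp only [wMat, pAff, Matrix.mulVec, dotProduct, Fin.sum_univ_four]
    simp
    rw [hinv]; field_simp
  · simp [wMat, pAff, Matrix.mulVec, dotProduct, Fin.sum_univ_four]; field_simp
  · simp [wMat, pAff, Matrix.mulVec, dotProduct, Fin.sum_univ_four]; field_simp
  · simp [wMat, pAff, Matrix.mulVec, dotProduct, Fin.sum_univ_four]

theorem uMat_mul (h2 : (2 : F) = 0) (hS : ∀ z, S (S z) = z ^ 2) (a b a' b' : F) :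
    uMat S a b * uMat S a' b' = uMat S (a + a') (b + b' + S a * a') := by
  ext i j
  fin_cases i <;> fin_cases j <;>
    simp [uMat, sf, Matrix.mul_apply, Fin.sum_univ_four, map_add, map_mul, hS] <;>
    (try rw [← sub_eq_zero]) <;> ring_nf <;> simp [h2]

theorem uMat_zero : uMat S 0 0 = 1 := by
  ext i j
  fin_cases i <;> fin_cases j <;> simp [uMat, sf]

theorem hMat_mul (t t' : F) : hMat S t * hMat S t' = hMat S (t * t') := by
  ext i j
  fin_cases i <;> fin_cases j <;>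
    simp [hMat, Matrix.mul_apply, Fin.sum_univ_four, map_mul, mul_pow] <;> ring

theorem hMat_one : hMat S 1 = 1 := by
  ext i j
  fin_cases i <;> fin_cases j <;> simp [hMat]

theorem wMat_mul_self : (wMat : Matrix (Fin 4) (Fin 4) F) * wMat = 1 := by
  ext i j
  fin_cases i <;> fin_cases j <;> simp [wMat, Matrix.mul_apply, Fin.sum_univ_four]

theorem det_uMat (a b : F) : (uMat S a b).det = 1 := by
  have h : (uMat S a b).BlockTriangular id := by
    intro i j hij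
    fin_cases i <;> fin_cases j <;> simp [uMat] at hij ⊢
  rw [Matrix.det_of_isUpperTriangular h]
  simp [Fin.prod_univ_four, uMat]

theorem det_hMat {t : F} (ht : t ≠ 0) : (hMat S t).det = 1 := by
  have hSt : S t ≠ 0 := by simpa using ht
  have h : (hMat S t).BlockTriangular id := by
    intro i j hij
    fin_cases i <;> fin_cases j <;> simp [hMat] at hij ⊢
  rw [Matrix.det_of_isUpperTriangular h]
  simp [Fin.prod_univ_four, hMat]
  field_simp

theorem det_wMat : (wMat : Matrix (Fin 4) (Fin 4) F).det = 1 := by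
  simp [wMat, Matrix.det_succ_row_zero, Fin.sum_univ_succ, Fin.succAbove]
  ring

end Alg

section Group

variable {F : Type*} [Field F] (S : F →+* F)

/-- the unipotent elements of the Suzuki group -/
def uSL (a b : F) : Matrix.SpecialLinearGroup (Fin 4) F := ⟨uMat S a b, det_uMat a b⟩

/-- the torus elements of the Suzuki group -/
def hSL (t : Fˣ) : Matrix.SpecialLinearGroup (Fin 4) F := ⟨hMat S t, det_hMat t.ne_zero⟩

/-- the inversion -/
def wSL : Matrix.SpecialLinearGroup (Fin 4) F := ⟨wMat, det_wMat⟩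

/-- the vector spans a point of the ovoid -/
def IsOv (v : Fin 4 → F) : Prop :=
  ∃ c : F, c ≠ 0 ∧ (v = c • pInf ∨ ∃ x y, v = c • pAff S x y)

variable {S}

theorem IsOv.ne_zero {v : Fin 4 → F} (h : IsOv S v) : v ≠ 0 := by
  obtain ⟨c, hc, h | ⟨x, y, h⟩⟩ := h
  · rw [h]; exact smul_ne_zero hc pInf_ne_zero
  · rw [h]; exact smul_ne_zero hc (pAff_ne_zero S x y)

theorem IsOv.smul {v : Fin 4 → F} (h : IsOv S v) {c : F} (hc : c ≠ 0) : IsOv S (c • v) := by
  obtain ⟨d, hd, h | ⟨x, y, h⟩⟩ := h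
  · exact ⟨c * d, mul_ne_zero hc hd, Or.inl (by rw [h, smul_smul])⟩
  · exact ⟨c * d, mul_ne_zero hc hd, Or.inr ⟨x, y, by rw [h, smul_smul]⟩⟩

theorem isOv_pInf : IsOv S (pInf : Fin 4 → F) := ⟨1, one_ne_zero, Or.inl (one_smul _ _).symm⟩

theorem isOv_pAff (x y : F) : IsOv S (pAff S x y) :=
  ⟨1, one_ne_zero, Or.inr ⟨x, y, (one_smul _ _).symm⟩⟩

theorem pAff_eq_pow {m : ℕ} (hSdef : ∀ z, S z = z ^ 2 ^ (m + 1)) (x y : F) :
    pAff S x y = ![x * y + x ^ (2 ^ (m + 1) + 2) + y ^ (2 ^ (m + 1)), y, x, 1] := by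
  unfold pAff sf
  rw [hSdef, hSdef, pow_add x]

theorem mk_mem_ovoid_iff {m : ℕ} (hSdef : ∀ z, S z = z ^ 2 ^ (m + 1)) (v : Fin 4 → F)
    (hv : v ≠ 0) : Projectivization.mk F v hv ∈ Cfsg.suzukiOvoid F m ↔ IsOv S v := by
  constructor
  · rintro ⟨v', hv', hvv', hshape⟩
    obtain ⟨a, ha⟩ := (Projectivization.mk_eq_mk_iff' F v v' hv hv').1 hvv'
    have ha0 : a ≠ 0 := by
      rintro rfl
      rw [zero_smul] at ha
      exact hv ha.symm
    rcases hshape with h | ⟨x, y, h⟩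
    · exact ⟨a, ha0, Or.inl (by rw [← ha, h]; rfl)⟩
    · exact ⟨a, ha0, Or.inr ⟨x, y, by rw [← ha, h, pAff_eq_pow hSdef]⟩⟩
  · rintro ⟨c, hc, h | ⟨x, y, h⟩⟩
    · refine ⟨pInf, pInf_ne_zero, ?_, Or.inl rfl⟩
      rw [Projectivization.mk_eq_mk_iff']
      exact ⟨c, h.symm⟩
    · refine ⟨pAff S x y, pAff_ne_zero S x y, ?_, Or.inr ⟨x, y, pAff_eq_pow hSdef x y⟩⟩
      rw [Projectivization.mk_eq_mk_iff']
      exact ⟨c, h.symm⟩

theorem mem_Sz_of [Finite F] {m : ℕ} (hSdef : ∀ z, S z = z ^ 2 ^ (m + 1))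
    (g : Matrix.SpecialLinearGroup (Fin 4) F)
    (h : ∀ v, IsOv S v → IsOv S ((g : Matrix (Fin 4) (Fin 4) F) *ᵥ v)) : g ∈ Cfsg.Sz F m := by
  have hfin : (Cfsg.suzukiOvoid F m).Finite := Set.toFinite _
  rw [MulAction.mem_stabilizer_set_iff_smul_set_subset hfin]
  rintro _ ⟨p, hp, rfl⟩
  induction p using Projectivization.ind with
  | h v hv =>
    rw [mk_mem_ovoid_iff hSdef] at hp
    have := h v hp
    show g • Projectivization.mk F v hv ∈ _
    rw [Projectivization.smul_mk, mk_mem_ovoid_iff hSdef]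
    exact this

theorem isOv_of_mem_Sz {m : ℕ} (hSdef : ∀ z, S z = z ^ 2 ^ (m + 1))
    {g : Matrix.SpecialLinearGroup (Fin 4) F} (hg : g ∈ Cfsg.Sz F m) {v : Fin 4 → F}
    (hv : IsOv S v) : IsOv S ((g : Matrix (Fin 4) (Fin 4) F) *ᵥ v) := by
  have h1 : g • Cfsg.suzukiOvoid F m = Cfsg.suzukiOvoid F m := MulAction.mem_stabilizer_iff.1 hg
  have h2 : Projectivization.mk F v hv.ne_zero ∈ Cfsg.suzukiOvoid F m :=
    (mk_mem_ovoid_iff hSdef v hv.ne_zero).2 hv
  have h3 : g • Projectivization.mk F v hv.ne_zero ∈ g • Cfsg.suzukiOvoid F m :=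
    Set.smul_mem_smul_set h2
  rw [h1, Projectivization.smul_mk, mk_mem_ovoid_iff hSdef] at h3
  exact h3

theorem uSL_mem [Finite F] {m : ℕ} (h2 : (2 : F) = 0) (hS : ∀ z, S (S z) = z ^ 2)
    (hSdef : ∀ z, S z = z ^ 2 ^ (m + 1)) (a b : F) : uSL S a b ∈ Cfsg.Sz F m := by
  apply mem_Sz_of hSdef
  rintro v ⟨c, hc, h | ⟨x, y, h⟩⟩
  · show IsOv S (uMat S a b *ᵥ v)
    rw [h, Matrix.mulVec_smul, uMat_mulVec_pInf]
    exact ⟨c, hc, Or.inl rfl⟩
  · show IsOv S (uMat S a b *ᵥ v)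
    rw [h, Matrix.mulVec_smul, uMat_mulVec_pAff h2 hS]
    exact ⟨c, hc, Or.inr ⟨_, _, rfl⟩⟩

theorem hSL_mem [Finite F] {m : ℕ} (hS : ∀ z, S (S z) = z ^ 2)
    (hSdef : ∀ z, S z = z ^ 2 ^ (m + 1)) (t : Fˣ) : hSL S t ∈ Cfsg.Sz F m := by
  have ht : (t : F) ≠ 0 := t.ne_zero
  have hSt : S (t : F) ≠ 0 := by simpa using ht
  have hne : S (t : F) * (t : F) ^ 2 ≠ 0 := mul_ne_zero hSt (pow_ne_zero _ ht)
  apply mem_Sz_of hSdef
  rintro v ⟨c, hc, h | ⟨x, y, h⟩⟩
  · show IsOv S (hMat S (t : F) *ᵥ v)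
    rw [h, Matrix.mulVec_smul, hMat_mulVec_pInf]
    exact (isOv_pInf.smul hne).smul hc
  · show IsOv S (hMat S (t : F) *ᵥ v)
    rw [h, Matrix.mulVec_smul, hMat_mulVec_pAff hS ht]
    exact ((isOv_pAff _ _).smul (inv_ne_zero hne)).smul hc

theorem wSL_mem [Finite F] {m : ℕ} (h2 : (2 : F) = 0) (hS : ∀ z, S (S z) = z ^ 2)
    (hSdef : ∀ z, S z = z ^ 2 ^ (m + 1)) : (wSL : Matrix.SpecialLinearGroup (Fin 4) F) ∈ Cfsg.Sz F m := by
  apply mem_Sz_of hSdef
  rintro v ⟨c, hc, h | ⟨x, y, h⟩⟩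
  · show IsOv S ((wMat : Matrix (Fin 4) (Fin 4) F) *ᵥ v)
    rw [h, Matrix.mulVec_smul, wMat_mulVec_pInf (S := S)]
    exact (isOv_pAff _ _).smul hc
  · show IsOv S ((wMat : Matrix (Fin 4) (Fin 4) F) *ᵥ v)
    rw [h, Matrix.mulVec_smul]
    by_cases hf : sf S x y = 0
    · obtain ⟨rfl, rfl⟩ := sf_aniso h2 hS hf
      rw [wMat_mulVec_pAff_zero]
      exact isOv_pInf.smul hc
    · rw [wMat_mulVec_pAff h2 hS hf]
      exact ((isOv_pAff _ _).smul hf).smul hc

end Group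

end Cfsg.Agent.Helper37Sz
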