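import Cfsg.Agent.Lib.Helper37_SzZass

/-!
# Simplicity of the Suzuki group (helper37)
-/

set_option autoImplicit false
open Cfsg

namespace Cfsg.Agent.Helper37Sz

open Cfsg.Agent.S0335 (sf sf_aniso sf_inv sf_collinear)
open Matrix
open scoped Pointwise

section Simple

variable {F : Type*} [Field F] [Fintype F] {S : F →+* F} {m : ℕ}

theorem St_mul_eq_one (hS : ∀ z, S (S z) = z ^ 2) {t : F} (ht : t ≠ 0) (h4 : S t * t = 1) :
    t = 1 := by
  have h5 : S (S t) * S t = 1 := by rw [← map_mul, h4, map_one]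
  rw [hS] at h5
  have hSt : S t ≠ 0 := by simpa using ht
  have : S t * (t * (t - 1)) = 0 := by linear_combination h5 - h4
  rcases mul_eq_zero.1 this with h | h
  · exact absurd h hSt
  · rcases mul_eq_zero.1 h with h | h
    · exact absurd h ht
    · linear_combination h

theorem hw_involution {t : F} (ht : t ≠ 0) :
    (hMat S t * wMat) * (hMat S t * wMat) = 1 := by
  have hSt : S t ≠ 0 := by simpa using ht
  ext i j
  fin_cases i <;> fin_cases j <;>
    simp [hMat, wMat, Matrix.mul_apply, Fin.sum_univ_four] <;> field_simp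

theorem hQ_mul_wQ_involution (h2 : (2 : F) = 0) (hS : ∀ z, S (S z) = z ^ 2)
    (hSdef : ∀ z, S z = z ^ 2 ^ (m + 1)) (t : Fˣ) :
    (hQ hS hSdef t * wQ h2 hS hSdef) * (hQ hS hSdef t * wQ h2 hS hSdef)
      = (1 : Cfsg.Sz F m) := by
  apply Subtype.ext
  apply Subtype.ext
  exact hw_involution t.ne_zero

theorem wQ_involution (h2 : (2 : F) = 0) (hS : ∀ z, S (S z) = z ^ 2)
    (hSdef : ∀ z, S z = z ^ 2 ^ (m + 1)) :
    wQ h2 hS hSdef * wQ h2 hS hSdef = (1 : Cfsg.Sz F m) :=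
  Subtype.ext wSL_mul_self

theorem uQ_zero (h2 : (2 : F) = 0) (hS : ∀ z, S (S z) = z ^ 2)
    (hSdef : ∀ z, S z = z ^ 2 ^ (m + 1)) : uQ (m := m) h2 hS hSdef 0 0 = 1 :=
  Subtype.ext uSL_zero

theorem uQ_inj (h2 : (2 : F) = 0) (hS : ∀ z, S (S z) = z ^ 2)
    (hSdef : ∀ z, S z = z ^ 2 ^ (m + 1)) {a b a' b' : F}
    (h : uQ (m := m) h2 hS hSdef a b = uQ h2 hS hSdef a' b') : a = a' ∧ b = b' :=
  uSL_injective (congrArg Subtype.val h)

theorem hQ_mul_uQ (h2 : (2 : F) = 0) (hS : ∀ z, S (S z) = z ^ 2)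
    (hSdef : ∀ z, S z = z ^ 2 ^ (m + 1)) (t : Fˣ) (a b : F) :
    hQ hS hSdef t * uQ h2 hS hSdef a b
      = uQ (m := m) h2 hS hSdef ((t : F) ^ 2 * a) (S (t : F) ^ 2 * (t : F) ^ 2 * b)
        * hQ hS hSdef t :=
  Subtype.ext (hSL_mul_uSL hS t a b)

/-- every involution of `Sz` is conjugate into the centre of `Q` -/
theorem involution_conj (hm : 1 ≤ m) (hF : Fintype.card F = 2 ^ (2 * m + 1)) (h2 : (2 : F) = 0)
    (hS : ∀ z, S (S z) = z ^ 2) (hSdef : ∀ z, S z = z ^ 2 ^ (m + 1)) {i : Cfsg.Sz F m}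
    (hi : i * i = 1) : ∃ (g : Cfsg.Sz F m) (b : F), i = g * uQ h2 hS hSdef 0 b * g⁻¹ := by
  have hp : IsPGroup 2 (Subgroup.zpowers i) := by
    intro x
    refine ⟨1, ?_⟩
    obtain ⟨x, k, rfl⟩ := x
    apply Subtype.ext
    show (i ^ k) ^ 2 ^ 1 = 1
    rw [pow_one, ← zpow_natCast, ← _root_.zpow_mul, mul_comm, _root_.zpow_mul, zpow_natCast,
      pow_two, hi, _root_.one_zpow]
  obtain ⟨P, hP⟩ := hp.exists_le_sylow
  obtain ⟨g, φ, hφ, hφval, -⟩ := sylow_two_param hm hF h2 hS hSdef P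
  obtain ⟨⟨a, b⟩, hab⟩ := hφ.2 ⟨i, hP (Subgroup.mem_zpowers i)⟩
  have hival : i = g * uQ h2 hS hSdef a b * g⁻¹ := by rw [← hφval a b, hab]
  have hsq : uQ h2 hS hSdef a b * uQ h2 hS hSdef a b = 1 := by
    have e1 : uQ h2 hS hSdef a b = g⁻¹ * i * g := by rw [hival]; group
    rw [e1]
    have : g⁻¹ * i * g * (g⁻¹ * i * g) = g⁻¹ * (i * i) * g := by group
    rw [this, hi]; group
  rw [uQ_mul, ← uQ_zero h2 hS hSdef] at hsq
  obtain ⟨-, e2⟩ := uQ_inj h2 hS hSdef hsq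
  have ha : a = 0 := by
    by_contra ha
    have hSa : S a ≠ 0 := by simpa using ha
    have : S a * a = 0 := by linear_combination e2 - b * h2
    rcases mul_eq_zero.1 this with h | h
    · exact hSa h
    · exact ha h
  subst ha
  exact ⟨g, b, hival⟩

/-- a nontrivial normal subgroup of `Sz` is everything -/
theorem normal_eq_top (hm : 1 ≤ m) (hF : Fintype.card F = 2 ^ (2 * m + 1)) (h2 : (2 : F) = 0)
    (hS : ∀ z, S (S z) = z ^ 2) (hSdef : ∀ z, S z = z ^ 2 ^ (m + 1))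
    (N : Subgroup (Cfsg.Sz F m)) (hN : N.Normal) (hne : N ≠ ⊥) : N = ⊤ := by
  have hq : 2 < Fintype.card F := by
    rw [hF]
    calc 2 = 2 ^ 1 := by norm_num
      _ < 2 ^ (2 * m + 1) := Nat.pow_lt_pow_right (by norm_num) (by omega)
  have hadd : ∀ x : F, x + x = 0 := fun x => by linear_combination x * h2
  have : CharP F 2 := CharTwo.of_one_ne_zero_of_two_eq_zero one_ne_zero h2
  obtain ⟨τ, hτ0, hτ⟩ := exists_S_ne hS hq
  have hτ1 : τ ≠ 1 := by
    rintro rfl
    exact hτ (map_one S)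
  have h01 : ptAff hSdef (0 : F) 0 ≠ ptAff hSdef 1 0 := by
    intro h
    exact zero_ne_one (ptAff_inj hSdef h).1
  have hthree : ∀ g : Cfsg.Sz F m, (∀ p : Cfsg.suzukiOvoid F m, g • p = p) → g = 1 := by
    intro g hg
    exact three_pt_trivial hm hF h2 hS hSdef g (ptAff_ne_ptInf hSdef 0 0).symm h01
      (ptAff_ne_ptInf hSdef 1 0).symm (hg _) (hg _) (hg _)
  -- Step 1: `N` is transitive
  obtain ⟨n₀, hn₀N, hn₀1⟩ : ∃ n ∈ N, n ≠ 1 := by
    by_contra hcon
    push Not at hcon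
    apply hne
    rw [eq_bot_iff]
    intro x hx
    rw [Subgroup.mem_bot]
    exact hcon x hx
  obtain ⟨p₀, hp₀⟩ : ∃ p : Cfsg.suzukiOvoid F m, n₀ • p ≠ p := by
    by_contra hcon
    push Not at hcon
    exact hn₀1 (hthree n₀ hcon)
  have htr : ∀ a : Cfsg.suzukiOvoid F m, ∃ n ∈ N, n • ptInf F m = a := by
    intro a
    by_cases ha : a = ptInf F m
    · exact ⟨1, N.one_mem, by rw [one_smul, ha]⟩
    · obtain ⟨g₁, h1a, h1b⟩ := exists_smul_pair h2 hS hSdef (Ne.symm hp₀)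
      obtain ⟨g₂, h2a, h2b⟩ := exists_smul_pair h2 hS hSdef (Ne.symm ha)
      refine ⟨(g₂⁻¹ * g₁) * n₀ * (g₂⁻¹ * g₁)⁻¹, hN.conj_mem n₀ hn₀N _, ?_⟩
      have e1 : (g₂⁻¹ * g₁)⁻¹ • ptInf F m = p₀ := by
        rw [_root_.mul_inv_rev, inv_inv, mul_smul, h2a, ← h1a, ← mul_smul, inv_mul_cancel,
          one_smul]
      rw [mul_smul, mul_smul, e1, mul_smul, h1b, ← h2b, ← mul_smul, inv_mul_cancel, one_smul]
  have htrans : MulAction.IsPretransitive N (Cfsg.suzukiOvoid F m) := by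
    constructor
    intro a b
    obtain ⟨na, hna, ha⟩ := htr a
    obtain ⟨nb, hnb, hb⟩ := htr b
    refine ⟨⟨nb * na⁻¹, N.mul_mem hnb (N.inv_mem hna)⟩, ?_⟩
    show (nb * na⁻¹) • a = b
    rw [← ha, ← mul_smul, inv_mul_cancel_right, hb]
  -- Step 2: a nonidentity element of `N` fixing `∞`
  obtain ⟨a₀, ha₀⟩ := no_regular_normal hm hF h2 hS hSdef N hN htrans
  obtain ⟨x, hxN, hx1, hxfix⟩ : ∃ x ∈ N, x ≠ 1 ∧ x • ptInf F m = ptInf F m := by
    obtain ⟨n, hn⟩ : ∃ n : N, n ∈ MulAction.stabilizer N a₀ ∧ n ≠ 1 := by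
      by_contra hcon
      push Not at hcon
      apply ha₀
      rw [eq_bot_iff]
      intro y hy
      rw [Subgroup.mem_bot]
      exact hcon y hy
    obtain ⟨k, hk, hka⟩ := htr a₀
    refine ⟨k⁻¹ * n * k, ?_, ?_, ?_⟩
    · have := hN.conj_mem n n.2 k⁻¹
      rwa [inv_inv] at this
    · intro h
      apply hn.2
      apply Subtype.ext
      have : (n : Cfsg.Sz F m) = k * (k⁻¹ * n * k) * k⁻¹ := by group
      rw [this, h]; simp
    · rw [mul_smul, mul_smul, hka]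
      have : (n : Cfsg.Sz F m) • a₀ = a₀ := MulAction.mem_stabilizer_iff.1 hn.1
      rw [this, ← hka, ← mul_smul, inv_mul_cancel, one_smul]
  -- Step 3: `N` contains some `uQ 0 d`, `d ≠ 0`
  rw [smul_ptInf_eq_ptInf_iff] at hxfix
  obtain ⟨c, hc⟩ := hxfix
  obtain ⟨a, b, t, hxval⟩ := stab_inf_struct hm hF h2 hS hSdef x.2 hc
  have hxval' : x = uQ h2 hS hSdef a b * hQ hS hSdef t := Subtype.ext hxval
  obtain ⟨d, hd0, hdN⟩ : ∃ d : F, d ≠ 0 ∧ uQ h2 hS hSdef 0 d ∈ N := by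
    by_cases ht : t = 1
    · -- `x = uQ a b`
      have hx' : x = uQ h2 hS hSdef a b := by
        rw [hxval', ht, hQ_one, mul_one]
      by_cases ha : a = 0
      · subst ha
        refine ⟨b, ?_, hx' ▸ hxN⟩
        rintro rfl
        exact hx1 (hx'.trans (uQ_zero h2 hS hSdef))
      · refine ⟨S a * a, ?_, ?_⟩
        · have hSa : S a ≠ 0 := by simpa using ha
          exact mul_ne_zero hSa ha
        · have : uQ (m := m) h2 hS hSdef 0 (S a * a) = x * x := by
            rw [hx', uQ_mul, hadd, hadd, zero_add]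
          rw [this]
          exact N.mul_mem hxN hxN
    · -- commutator with `uQ 0 1`
      refine ⟨S (t : F) ^ 2 * (t : F) ^ 2 + 1, ?_, ?_⟩
      · intro h
        apply ht
        have h3 : (S (t : F) * (t : F)) ^ 2 = 1 := by
          have : (S (t : F) * (t : F)) ^ 2 = -1 := by linear_combination h
          rw [this]; linear_combination -h2
        exact Units.ext (St_mul_eq_one hS t.ne_zero (unit_eq_one_of_sq h2 h3))
      · have e1 : x * uQ h2 hS hSdef 0 1 * x⁻¹ * (uQ h2 hS hSdef 0 1)⁻¹ ∈ N :=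
          N.mul_mem hxN (hN.conj_mem _ (N.inv_mem hxN) _) |> fun h => by
            have : x * uQ h2 hS hSdef 0 1 * x⁻¹ * (uQ h2 hS hSdef 0 1)⁻¹
                = x * (uQ h2 hS hSdef 0 1 * x⁻¹ * (uQ h2 hS hSdef 0 1)⁻¹) := by group
            rw [this]; exact h
        have e2 : x * uQ h2 hS hSdef 0 1
            = uQ h2 hS hSdef 0 (S (t : F) ^ 2 * (t : F) ^ 2) * x := by
          rw [hxval', mul_assoc, hQ_mul_uQ, ← mul_assoc (uQ h2 hS hSdef a b),
            ← mul_assoc (uQ h2 hS hSdef 0 _), uQ_mul, uQ_mul]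
          congr 2
          · ring
          · simp only [map_zero]; ring
        have e3 : x * uQ h2 hS hSdef 0 1 * x⁻¹ * (uQ h2 hS hSdef 0 1)⁻¹
            = uQ h2 hS hSdef 0 (S (t : F) ^ 2 * (t : F) ^ 2 + 1) := by
          rw [e2, mul_inv_cancel_right, mul_inv_eq_iff_eq_mul, uQ_mul, map_zero, zero_mul,
            add_zero, add_zero, add_assoc, hadd, add_zero]
        rw [← e3]; exact e1
  -- Step 4: `N` contains the centre of `Q`
  have hZ : ∀ c : F, uQ h2 hS hSdef 0 c ∈ N := by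
    intro c
    by_cases hc0 : c = 0
    · rw [hc0, uQ_zero]; exact N.one_mem
    · obtain ⟨s, hs⟩ := FiniteField.isSquare_of_char_two (ringChar.eq F 2) (c / d)
      have hs0 : s ≠ 0 := by
        rintro rfl
        rw [mul_zero] at hs
        exact div_ne_zero hc0 hd0 hs
      have hSs : S s ≠ 0 := by simpa using hs0
      set t' : Fˣ := Units.mk0 (S s / s) (div_ne_zero hSs hs0) with ht'
      have hts : S (t' : F) * (t' : F) = s := by
        show S (S s / s) * (S s / s) = s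
        rw [map_div₀, hS]
        field_simp
      have e1 : hQ hS hSdef t' * uQ h2 hS hSdef 0 d * (hQ hS hSdef t')⁻¹
          = uQ (m := m) h2 hS hSdef 0 c := by
        rw [hQ_mul_uQ, mul_inv_cancel_right]
        congr 1
        · rw [mul_zero]
        · have : S (t' : F) ^ 2 * (t' : F) ^ 2 = (S (t' : F) * (t' : F)) ^ 2 := by ring
          rw [this, hts, pow_two, ← hs]
          field_simp
      rw [← e1]
      exact hN.conj_mem _ hdN _
  -- Step 5: all involutions lie in `N`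
  have hinv : ∀ i : Cfsg.Sz F m, i * i = 1 → i ∈ N := by
    intro i hi
    obtain ⟨g, b, rfl⟩ := involution_conj hm hF h2 hS hSdef hi
    exact hN.conj_mem _ (hZ b) g
  have hT : ∀ t : Fˣ, hQ hS hSdef t ∈ N := by
    intro t
    have e1 : hQ (m := m) hS hSdef t
        = (hQ hS hSdef t * wQ h2 hS hSdef) * wQ h2 hS hSdef := by
      rw [mul_assoc, wQ_involution, mul_one]
    rw [e1]
    exact N.mul_mem (hinv _ (hQ_mul_wQ_involution h2 hS hSdef t)) (hinv _ (wQ_involution h2 hS hSdef))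
  -- Step 6: `Q ⊆ N`
  have hτ2 : τ ^ 2 + 1 ≠ 0 := by
    intro h
    apply hτ1
    have : τ ^ 2 = 1 := by
      have : τ ^ 2 = -1 := by linear_combination h
      rw [this]; linear_combination -h2
    exact unit_eq_one_of_sq h2 this
  have hQN : ∀ a' b' : F, uQ h2 hS hSdef a' b' ∈ N := by
    intro a' b'
    set a := a' / (τ ^ 2 + 1) with ha
    set tt : Fˣ := Units.mk0 τ hτ0 with htt
    have e1 : hQ hS hSdef tt * uQ h2 hS hSdef a 0 * (hQ hS hSdef tt)⁻¹ * (uQ h2 hS hSdef a 0)⁻¹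
        ∈ N := by
      have : hQ hS hSdef tt * uQ h2 hS hSdef a 0 * (hQ hS hSdef tt)⁻¹ * (uQ h2 hS hSdef a 0)⁻¹
          = hQ hS hSdef tt * (uQ h2 hS hSdef a 0 * (hQ hS hSdef tt)⁻¹ * (uQ h2 hS hSdef a 0)⁻¹) := by
        group
      rw [this]
      exact N.mul_mem (hT tt) (hN.conj_mem _ (N.inv_mem (hT tt)) _)
    have hinvu : (uQ (m := m) h2 hS hSdef a 0)⁻¹ = uQ h2 hS hSdef a (0 + S a * a) :=
      Subtype.ext (uSL_inv h2 hS a 0)
    rw [hQ_mul_uQ, mul_inv_cancel_right, hinvu, uQ_mul] at e1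
    have e2 : (tt : F) ^ 2 * a + a = a' := by
      show τ ^ 2 * a + a = a'
      rw [ha]; field_simp
    rw [e2] at e1
    -- adjust the second coordinate by a central element
    set b₀ := S (tt : F) ^ 2 * (tt : F) ^ 2 * 0 + (0 + S a * a) + S ((tt : F) ^ 2 * a) * a with hb₀
    have e3 : uQ (m := m) h2 hS hSdef a' b'
        = uQ h2 hS hSdef a' b₀ * uQ h2 hS hSdef 0 (b' + b₀) := by
      rw [uQ_mul, add_zero, mul_zero, add_zero]
      congr 1
      linear_combination -b₀ * h2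
    rw [e3]
    exact N.mul_mem e1 (hZ _)
  -- Step 7: conclusion
  rw [eq_top_iff]
  intro g _
  obtain ⟨n, hnN, hn⟩ := htr (g • ptInf F m)
  have hfix : (n⁻¹ * g) • ptInf F m = ptInf F m := by
    rw [mul_smul, ← hn, ← mul_smul, inv_mul_cancel, one_smul]
  rw [smul_ptInf_eq_ptInf_iff] at hfix
  obtain ⟨c', hc'⟩ := hfix
  obtain ⟨a', b', t', hval⟩ := stab_inf_struct hm hF h2 hS hSdef (n⁻¹ * g).2 hc'
  have hval' : n⁻¹ * g = uQ h2 hS hSdef a' b' * hQ hS hSdef t' := Subtype.ext hval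
  have : g = n * (n⁻¹ * g) := by group
  rw [this, hval']
  exact N.mul_mem hnN (N.mul_mem (hQN a' b') (hT t'))

end Simple

end Cfsg.Agent.Helper37Sz
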