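import Mathlib
import Cfsg.Agent.Lib.Helper6_TICount

/-!
# A counting lemma for groups partitioned by self-centralising, self-normalising subgroups (helper6)

If every non-identity element of a finite group `X` lies in a member of a family of subgroups, each of
which is the centraliser of each of its non-identity elements, is its own normaliser and has order at
least `3`, then every member of the family is the whole group.
-/

set_option autoImplicit false

namespace Cfsg.Agent.Lib.Helper6_PartCount

open Cfsg.Agent.Lib.Helper6_TICount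

variable {X : Type*} [Group X]

/-- the set of non-identity elements conjugate into `T` -/
def ConjInto (T : Subgroup X) (x : X) : Prop := x ≠ 1 ∧ ∃ k : X, k⁻¹ * x * k ∈ T

theorem conjInto_of_common {T T₂ : Subgroup X} (hT : SelfCent T) (hT₂ : SelfCent T₂) {z y : X}
    (hz : ConjInto T z) (hz₂ : ConjInto T₂ z) (hy : y ∈ T₂) (hy1 : y ≠ 1) : ConjInto T y := by
  obtain ⟨hz1, k, hk⟩ := hz
  obtain ⟨-, l, hl⟩ := hz₂
  have hk1 : k⁻¹ * z * k ≠ 1 := by
    intro h
    apply hz1
    have e : z = k * (k⁻¹ * z * k) * k⁻¹ := by group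
    rw [e, h]; group
  have hl1 : l⁻¹ * z * l ≠ 1 := by
    intro h
    apply hz1
    have e : z = l * (l⁻¹ * z * l) * l⁻¹ := by group
    rw [e, h]; group
  have h1 := hT _ hk hk1
  have h2 := hT₂ _ hl hl1
  refine ⟨hy1, l⁻¹ * k, ?_⟩
  rw [← h1, mem_centralizer_singleton]
  rw [← h2, mem_centralizer_singleton] at hy
  have e1 : (l⁻¹ * k)⁻¹ * y * (l⁻¹ * k) * (k⁻¹ * z * k) = k⁻¹ * l * (y * (l⁻¹ * z * l)) * l⁻¹ * k := by
    group
  have e2 : k⁻¹ * z * k * ((l⁻¹ * k)⁻¹ * y * (l⁻¹ * k)) = k⁻¹ * l * ((l⁻¹ * z * l) * y) * l⁻¹ * k := by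
    group
  rw [e1, e2, hy]

theorem eq_top_of_partition [Finite X] (𝒯 : Set (Subgroup X))
    (hsc : ∀ T ∈ 𝒯, SelfCent T)
    (hnorm : ∀ T ∈ 𝒯, Nat.card (Subgroup.normalizer (T : Set X)) = Nat.card T)
    (h3 : ∀ T ∈ 𝒯, 3 ≤ Nat.card T)
    (hcov : ∀ x : X, x ≠ 1 → ∃ T ∈ 𝒯, x ∈ T)
    {T : Subgroup X} (hT : T ∈ 𝒯) : T = ⊤ := by
  classical
  haveI : Fintype X := Fintype.ofFinite X
  by_contra hne
  -- the counting formula
  have hcount : ∀ U ∈ 𝒯, (Finset.univ.filter fun x : X => ConjInto U x).card * Nat.card U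
      = Fintype.card X * (Nat.card U - 1) := by
    intro U hU
    have h := (hsc U hU).natCard_conj
    rw [hnorm U hU, Nat.card_eq_fintype_card (α := X)] at h
    rw [← h]
    congr 1
    rw [Nat.card_eq_fintype_card, Fintype.card_subtype]
    apply Finset.card_bij (fun x _ => x)
    · intro x hx
      rw [Finset.mem_filter] at hx ⊢
      exact ⟨hx.1, hx.2⟩
    · intro a _ b _ hab
      exact hab
    · intro b hb
      rw [Finset.mem_filter] at hb
      exact ⟨b, by rw [Finset.mem_filter]; exact ⟨hb.1, hb.2⟩, rfl⟩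
  have hbig : ∀ U ∈ 𝒯, 2 * Fintype.card X ≤ 3 * (Finset.univ.filter fun x : X => ConjInto U x).card := by
    intro U hU
    have h := hcount U hU
    have ht := h3 U hU
    set a := (Finset.univ.filter fun x : X => ConjInto U x).card
    set t := Nat.card U
    set x := Fintype.card X
    obtain ⟨s, hs⟩ : ∃ s, t = s + 3 := ⟨t - 3, by omega⟩
    rw [hs] at h
    have h' : a * (s + 3) = x * (s + 2) := by
      simpa using h
    by_contra hlt
    push Not at hlt
    have h4 : 3 * (a * (s + 3)) < 2 * x * (s + 3) := by nlinarith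
    rw [h'] at h4
    nlinarith
  -- an element outside the conjugates of `T`
  have hex : ∃ y : X, y ≠ 1 ∧ ¬ ConjInto T y := by
    by_contra hall
    push Not at hall
    have hfilter : (Finset.univ.filter fun x : X => ConjInto T x) = Finset.univ.erase 1 := by
      ext x
      simp only [Finset.mem_filter, Finset.mem_univ, true_and, Finset.mem_erase, and_true]
      constructor
      · intro h
        exact h.1
      · intro h
        exact hall x h
    have h := hcount T hT
    rw [hfilter, Finset.card_erase_of_mem (Finset.mem_univ _), Finset.card_univ] at h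
    have ht := h3 T hT
    have hx : 0 < Fintype.card X := Fintype.card_pos
    have hle : Nat.card T ≤ Fintype.card X := by
      rw [← Nat.card_eq_fintype_card]
      exact Subgroup.card_le_card_group T
    apply hne
    apply (Subgroup.card_eq_iff_eq_top T).1
    rw [Nat.card_eq_fintype_card (α := X)]
    set t := Nat.card T
    set x := Fintype.card X
    obtain ⟨s, hs⟩ : ∃ s, t = s + 1 := ⟨t - 1, by omega⟩
    obtain ⟨u, hu⟩ : ∃ u, x = u + 1 := ⟨x - 1, by omega⟩
    rw [hs, hu] at h
    have h' : u * (s + 1) = (u + 1) * s := by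
      simpa using h
    rw [hs, hu]
    nlinarith
  obtain ⟨y, hy1, hyT⟩ := hex
  obtain ⟨T₂, hT₂, hyT₂⟩ := hcov y hy1
  have hdisj : Disjoint (Finset.univ.filter fun x : X => ConjInto T x)
      (Finset.univ.filter fun x : X => ConjInto T₂ x) := by
    rw [Finset.disjoint_left]
    intro z hz hz₂
    rw [Finset.mem_filter] at hz hz₂
    exact hyT (conjInto_of_common (hsc T hT) (hsc T₂ hT₂) hz.2 hz₂.2 hyT₂ hy1)
  have hsub : (Finset.univ.filter fun x : X => ConjInto T x) ∪
      (Finset.univ.filter fun x : X => ConjInto T₂ x) ⊆ Finset.univ.erase 1 := by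
    intro z hz
    rw [Finset.mem_union, Finset.mem_filter, Finset.mem_filter] at hz
    rw [Finset.mem_erase]
    rcases hz with hz | hz
    · exact ⟨hz.2.1, Finset.mem_univ _⟩
    · exact ⟨hz.2.1, Finset.mem_univ _⟩
  have hcard := Finset.card_le_card hsub
  rw [Finset.card_union_of_disjoint hdisj, Finset.card_erase_of_mem (Finset.mem_univ _),
    Finset.card_univ] at hcard
  have hb1 := hbig T hT
  have hb2 := hbig T₂ hT₂
  have hx : 0 < Fintype.card X := Fintype.card_pos
  omega

end Cfsg.Agent.Lib.Helper6_PartCount
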