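import Mathlib
import Cfsg.Agent.Lib.Helper6_SzPartition
import Cfsg.Agent.Lib.Helper6_SzCent
import Cfsg.Agent.Lib.Helper37_SzMax
import Cfsg.Agent.Lib.Helper37_SzSimple
import Cfsg.Agent.Lib.Helper37_SzTrans
import Cfsg.Agent.Lib.Helper37_SzZass
import Cfsg.Agent.Lib.Helper37_SzSylow

/-!
# Subgroups of the Suzuki group isomorphic to a smaller Suzuki group: normalisation (helper6)

An injective homomorphism `θ : Sz K k → Sz F m` can be conjugated so that the standard torus generator goes to a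
torus element, the inversion to the inversion and the standard unipotent group into the standard unipotent group.
-/

set_option autoImplicit false
open Cfsg

namespace Cfsg.Agent.Lib.Helper6_SzSubNorm

open Cfsg.Agent.Helper37Sz
open Cfsg.Agent.S0335 (sf)

section One

variable {F : Type*} [Field F] [Fintype F] {S : F →+* F} {m : ℕ}

/-- the Bruhat decomposition inside `Sz` -/
theorem decompQ (hm : 1 ≤ m) (hF : Fintype.card F = 2 ^ (2 * m + 1)) (h2 : (2 : F) = 0)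
    (hS : ∀ z, S (S z) = z ^ 2) (hSdef : ∀ z, S z = z ^ 2 ^ (m + 1)) (x : Cfsg.Sz F m) :
    (∃ (a b : F) (t : Fˣ), x = uQ h2 hS hSdef a b * hQ hS hSdef t) ∨
    (∃ (a b a' b' : F) (t : Fˣ), x = uQ h2 hS hSdef a b * wQ h2 hS hSdef
      * (uQ h2 hS hSdef a' b' * hQ hS hSdef t)) := by
  rcases Sz_decomp hm hF h2 hS hSdef x.2 with ⟨a, b, t, h⟩ | ⟨a, b, a', b', t, h⟩
  · exact Or.inl ⟨a, b, t, Subtype.ext h⟩
  · exact Or.inr ⟨a, b, a', b', t, Subtype.ext h⟩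

/-- the inversion on the affine points -/
theorem wQ_smul_ptAff (h2 : (2 : F) = 0) (hS : ∀ z, S (S z) = z ^ 2)
    (hSdef : ∀ z, S z = z ^ 2 ^ (m + 1)) {x y : F} (hf : sf S x y ≠ 0) :
    wQ h2 hS hSdef • ptAff hSdef x y = ptAff hSdef (y / sf S x y) (x / sf S x y) := by
  rw [smul_ptAff_eq_ptAff_iff]
  exact ⟨_, wMat_mulVec_pAff h2 hS hf⟩

/-- a generator of the multiplicative group -/
theorem exists_unit_generator (hF : Fintype.card F = 2 ^ (2 * m + 1)) :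
    ∃ t₀ : Fˣ, orderOf t₀ = 2 ^ (2 * m + 1) - 1 ∧ ∀ t : Fˣ, t ∈ Subgroup.zpowers t₀ := by
  obtain ⟨t₀, ht₀⟩ := IsCyclic.exists_generator (α := Fˣ)
  refine ⟨t₀, ?_, ht₀⟩
  rw [orderOf_eq_card_of_forall_mem_zpowers ht₀, Nat.card_units, Nat.card_eq_fintype_card, hF]

/-- the torus as a homomorphism -/
def hQHom (hS : ∀ z, S (S z) = z ^ 2) (hSdef : ∀ z, S z = z ^ 2 ^ (m + 1)) : Fˣ →* Cfsg.Sz F m where
  toFun := hQ hS hSdef
  map_one' := hQ_one hS hSdef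
  map_mul' t t' := (Cfsg.Agent.Helper37Sz.hQ_mul hS hSdef t t').symm

theorem orderOf_hQ (hS : ∀ z, S (S z) = z ^ 2) (hSdef : ∀ z, S z = z ^ 2 ^ (m + 1)) (t : Fˣ) :
    orderOf (hQ (m := m) hS hSdef t) = orderOf t :=
  orderOf_injective (hQHom hS hSdef) (Cfsg.Agent.Lib.Helper6_SzCent.hQ_injective hS hSdef) t

/-- the fixed points of a non-identity torus element -/
theorem hQ_fixed (h2 : (2 : F) = 0) (hS : ∀ z, S (S z) = z ^ 2)
    (hSdef : ∀ z, S z = z ^ 2 ^ (m + 1)) {t : Fˣ} (ht : t ≠ 1) (p : Cfsg.suzukiOvoid F m)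
    (hp : hQ hS hSdef t • p = p) : p = ptInf F m ∨ p = ptAff hSdef 0 0 := by
  rcases pt_cases hSdef p with rfl | ⟨x, y, rfl⟩
  · exact Or.inl rfl
  · right
    by_cases hxy : x = 0 ∧ y = 0
    · rw [hxy.1, hxy.2]
    · exact absurd (hQ_fix_third h2 hS hSdef hxy hp) ht

end One

section Two

variable {F : Type*} [Field F] [Fintype F] {SF : F →+* F} {m : ℕ}
variable {K : Type*} [Field K] [Fintype K] {SK : K →+* K} {k : ℕ}

/-- normal form of an embedding of a smaller Suzuki group -/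
theorem normalize (hm : 1 ≤ m) (hk : 1 ≤ k) (hF : Fintype.card F = 2 ^ (2 * m + 1))
    (h2F : (2 : F) = 0) (hSF : ∀ z, SF (SF z) = z ^ 2) (hSFdef : ∀ z, SF z = z ^ 2 ^ (m + 1))
    (h2K : (2 : K) = 0) (hSK : ∀ z, SK (SK z) = z ^ 2) (hSKdef : ∀ z, SK z = z ^ 2 ^ (k + 1))
    (θ : Cfsg.Sz K k →* Cfsg.Sz F m) (hθ : Function.Injective θ) (t₀ : Kˣ)
    (ht₀ : orderOf t₀ = 2 ^ (2 * k + 1) - 1) :
    ∃ (g : Cfsg.Sz F m) (τ : Fˣ),
      g * θ (hQ hSK hSKdef t₀) * g⁻¹ = hQ hSF hSFdef τ ∧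
      g * θ (wQ h2K hSK hSKdef) * g⁻¹ = wQ h2F hSF hSFdef ∧
      ∀ a b : K, ∃ a' b' : F, g * θ (uQ h2K hSK hSKdef a b) * g⁻¹ = uQ h2F hSF hSFdef a' b' := by
  classical
  -- the order of the torus generator
  have hs8 : 8 ≤ 2 ^ (2 * k + 1) := by
    calc 8 = 2 ^ 3 := by norm_num
      _ ≤ 2 ^ (2 * k + 1) := Nat.pow_le_pow_right (by norm_num) (by omega)
  set hK0 : Cfsg.Sz K k := hQ hSK hSKdef t₀ with hK0def
  set h : Cfsg.Sz F m := θ hK0 with hdef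
  have hord : orderOf h = 2 ^ (2 * k + 1) - 1 := by
    rw [hdef, orderOf_injective θ hθ, hK0def, orderOf_hQ, ht₀]
  have hpow_ne : ∀ n : ℕ, 0 < n → n < 7 → h ^ n ≠ 1 := by
    intro n hn0 hn7 hn
    have := Nat.le_of_dvd hn0 (orderOf_dvd_of_pow_eq_one hn)
    omega
  -- the image of the unipotent group is a 2-group
  set P₀ : Subgroup (Cfsg.Sz F m) := (Qsub h2K hSK k).map θ with hP₀
  have hQK : IsPGroup 2 (Qsub h2K hSK k) := by
    rintro ⟨x, hx⟩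
    obtain ⟨a, b, rfl⟩ := exists_of_mem_Qsub h2K hSK hSKdef hx
    refine ⟨2, ?_⟩
    apply Subtype.ext
    show uQ h2K hSK hSKdef a b ^ 2 ^ 2 = 1
    exact Cfsg.Agent.Lib.Helper6_SzCent.uQ_pow_four h2K hSK hSKdef a b
  have hP₀p : IsPGroup 2 P₀ := hQK.map θ
  obtain ⟨P, hP⟩ := hP₀p.exists_le_sylow
  obtain ⟨k₁, hk₁⟩ := Cfsg.Agent.Lib.Helper6_SzPartition.sylow_mem_iff hm hF h2F hSF hSFdef P
  have hmemP₀ : ∀ a b : K, θ (uQ h2K hSK hSKdef a b) ∈ P₀ :=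
    fun a b => Subgroup.mem_map_of_mem θ (uQ_mem_Qsub h2K hSK hSKdef a b)
  have hform : ∀ a b : K, ∃ a' b' : F,
      θ (uQ h2K hSK hSKdef a b) = k₁ * uQ h2F hSF hSFdef a' b' * k₁⁻¹ :=
    fun a b => (hk₁ _).1 (hP (hmemP₀ a b))
  -- a non-identity element of `P₀` and its unique fixed point
  set pa : Cfsg.suzukiOvoid F m := k₁ • ptInf F m with hpa
  have hfixonly : ∀ a b : K, ¬ (a = 0 ∧ b = 0) → ∀ p : Cfsg.suzukiOvoid F m,
      θ (uQ h2K hSK hSKdef a b) • p = p → p = pa := by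
    intro a b hab p hp
    obtain ⟨a', b', hab'⟩ := hform a b
    have hne : ¬ (a' = 0 ∧ b' = 0) := by
      rintro ⟨rfl, rfl⟩
      rw [uQ_zero, mul_one, mul_inv_cancel] at hab'
      have h1 : uQ h2K hSK hSKdef a b = uQ h2K hSK hSKdef 0 0 := by
        apply hθ
        rw [hab', uQ_zero, map_one]
      exact hab (uQ_inj h2K hSK hSKdef h1)
    have h1 : uQ h2F hSF hSFdef a' b' • (k₁⁻¹ • p) = k₁⁻¹ • p := by
      have e : uQ h2F hSF hSFdef a' b' = k₁⁻¹ * θ (uQ h2K hSK hSKdef a b) * k₁ := by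
        rw [hab']; group
      rw [e, mul_smul, mul_smul, smul_inv_smul, hp]
    have := Cfsg.Agent.Lib.Helper6_SzCent.uQ_fix h2F hSF hSFdef hne _ h1
    rw [hpa, ← this, smul_inv_smul]
  -- `h` fixes `pa`
  have hfix_pa : h • pa = pa := by
    have hconj : hK0 * uQ h2K hSK hSKdef 0 1 * hK0⁻¹
        = uQ h2K hSK hSKdef ((t₀ : K) ^ 2 * 0) (SK (t₀ : K) ^ 2 * (t₀ : K) ^ 2 * 1) := by
      rw [hK0def, hQ_mul_uQ, mul_inv_cancel_right]
    have hne : ¬ ((t₀ : K) ^ 2 * 0 = 0 ∧ SK (t₀ : K) ^ 2 * (t₀ : K) ^ 2 * 1 = 0) := by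
      rintro ⟨-, h0⟩
      have ht : (t₀ : K) ≠ 0 := t₀.ne_zero
      have hSt : SK (t₀ : K) ≠ 0 := by simpa using ht
      exact absurd h0 (by rw [mul_one]; exact mul_ne_zero (pow_ne_zero _ hSt) (pow_ne_zero _ ht))
    have hfix1 : θ (uQ h2K hSK hSKdef 0 1) • pa = pa := by
      obtain ⟨a', b', hab'⟩ := hform 0 1
      rw [hab', hpa, ← mul_smul, inv_mul_cancel_right, mul_smul, uQ_smul_ptInf]
    apply hfixonly _ _ hne
    rw [← hconj, map_mul, map_mul, map_inv, ← hdef, mul_smul, mul_smul, inv_smul_smul, hfix1]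
  -- a second fixed point
  have hex : ∃ pb : Cfsg.suzukiOvoid F m, pb ≠ pa ∧ h • pb = pb := by
    by_contra hne
    have huniq : ∀ b : Cfsg.suzukiOvoid F m, h • b = b → b = pa := by
      intro b hb
      by_contra hba
      exact hne ⟨b, hba, hb⟩
    exact hpow_ne 4 (by norm_num) (by norm_num)
      (Cfsg.Agent.Lib.Helper6_SzCent.pow_four_of_one_fixed hm hF h2F hSF hSFdef hfix_pa huniq rfl)
  obtain ⟨pb, hpba, hfix_pb⟩ := hex
  obtain ⟨k₀, hk₀a, hk₀b⟩ := exists_smul_pair h2F hSF hSFdef (Ne.symm hpba)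
  -- `h₁ = k₀ h k₀⁻¹` is a torus element
  have h1inf : (k₀ * h * k₀⁻¹) • ptInf F m = ptInf F m := by
    rw [← hk₀a, ← mul_smul, inv_mul_cancel_right, mul_smul, hfix_pa]
  have h1zero : (k₀ * h * k₀⁻¹) • ptAff hSFdef 0 0 = ptAff hSFdef 0 0 := by
    rw [← hk₀b, ← mul_smul, inv_mul_cancel_right, mul_smul, hfix_pb]
  obtain ⟨τ, hτ⟩ := fix_two_eq_hQ hm hF h2F hSF hSFdef h1inf h1zero
  have hτ1 : τ ≠ 1 := by
    rintro rfl
    rw [hQ_one] at hτ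
    have : h = 1 := by
      have e : h = k₀⁻¹ * (k₀ * h * k₀⁻¹) * k₀ := by group
      rw [e, hτ]; group
    exact hpow_ne 1 (by norm_num) (by norm_num) (by rw [pow_one, this])
  have hτsq : τ * τ ≠ 1 := by
    intro hsq
    have : h ^ 2 = 1 := by
      have e : h ^ 2 = k₀⁻¹ * ((k₀ * h * k₀⁻¹) * (k₀ * h * k₀⁻¹)) * k₀ := by rw [pow_two]; group
      rw [e, hτ, Cfsg.Agent.Helper37Sz.hQ_mul, hsq, hQ_one]; group
    exact hpow_ne 2 (by norm_num) (by norm_num) this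
  -- the image of the inversion
  set w₁ : Cfsg.Sz F m := k₀ * θ (wQ h2K hSK hSKdef) * k₀⁻¹ with hw₁
  have hrelK : wQ h2K hSK hSKdef * hK0 * (wQ h2K hSK hSKdef)⁻¹ = hK0⁻¹ := by
    rw [wQ_inv, hK0def, Cfsg.Agent.Lib.Helper6_SzCent.wQ_mul_hQ_mul_wQ,
      Cfsg.Agent.Helper37Sz.hQ_inv]
  have hrel : w₁ * hQ hSF hSFdef τ * w₁⁻¹ = (hQ hSF hSFdef τ)⁻¹ := by
    rw [← hτ, hw₁]
    have e : k₀ * θ (wQ h2K hSK hSKdef) * k₀⁻¹ * (k₀ * h * k₀⁻¹)
        * (k₀ * θ (wQ h2K hSK hSKdef) * k₀⁻¹)⁻¹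
        = k₀ * (θ (wQ h2K hSK hSKdef) * h * (θ (wQ h2K hSK hSKdef))⁻¹) * k₀⁻¹ := by group
    rw [e, hdef, ← map_inv, ← map_mul, ← map_mul, hrelK, map_inv]; group
  have hrel' : hQ hSF hSFdef τ * w₁ = w₁ * (hQ hSF hSFdef τ)⁻¹ := by
    have e : w₁ * (hQ hSF hSFdef τ)⁻¹ = w₁ * (hQ hSF hSFdef τ)⁻¹ * w₁⁻¹ * w₁ := by group
    have e2 : w₁ * (hQ hSF hSFdef τ)⁻¹ * w₁⁻¹ = (w₁ * hQ hSF hSFdef τ * w₁⁻¹)⁻¹ := by group
    rw [e, e2, hrel, inv_inv]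
  have hτinv_inf : (hQ hSF hSFdef τ)⁻¹ • ptInf F m = ptInf F m := by
    rw [inv_smul_eq_iff, hQ_smul_ptInf]
  have hτinv_zero : (hQ hSF hSFdef τ)⁻¹ • ptAff hSFdef 0 0 = ptAff hSFdef 0 0 := by
    rw [inv_smul_eq_iff, hQ_smul_ptAff, mul_zero, mul_zero]
  have hw_inf : hQ hSF hSFdef τ • (w₁ • ptInf F m) = w₁ • ptInf F m := by
    rw [← mul_smul, hrel', mul_smul, hτinv_inf]
  have hw_zero : hQ hSF hSFdef τ • (w₁ • ptAff hSFdef 0 0) = w₁ • ptAff hSFdef 0 0 := by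
    rw [← mul_smul, hrel', mul_smul, hτinv_zero]
  have hne_pts : w₁ • ptAff hSFdef 0 0 ≠ w₁ • ptInf F m := by
    intro he
    exact ptAff_ne_ptInf hSFdef 0 0 (MulAction.injective w₁ he)
  have hswap : w₁ • ptInf F m = ptAff hSFdef 0 0 ∧ w₁ • ptAff hSFdef 0 0 = ptInf F m := by
    rcases hQ_fixed h2F hSF hSFdef hτ1 _ hw_inf with h1 | h1
    · -- `w₁` fixes both points: contradiction
      exfalso
      have h0 : w₁ • ptAff hSFdef 0 0 = ptAff hSFdef 0 0 := by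
        rcases hQ_fixed h2F hSF hSFdef hτ1 _ hw_zero with h0 | h0
        · exact absurd (h0.trans h1.symm) hne_pts
        · exact h0
      obtain ⟨l, hl⟩ := fix_two_eq_hQ hm hF h2F hSF hSFdef h1 h0
      rw [hl, Cfsg.Agent.Helper37Sz.hQ_inv, Cfsg.Agent.Helper37Sz.hQ_inv,
        Cfsg.Agent.Helper37Sz.hQ_mul, Cfsg.Agent.Helper37Sz.hQ_mul] at hrel
      have := Cfsg.Agent.Lib.Helper6_SzCent.hQ_injective hSF hSFdef hrel
      apply hτsq
      have e : l * τ * l⁻¹ = τ := by rw [mul_comm l τ, mul_inv_cancel_right]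
      rw [e] at this
      calc τ * τ = τ * τ⁻¹ := by rw [← this]
        _ = 1 := mul_inv_cancel τ
    · refine ⟨h1, ?_⟩
      rcases hQ_fixed h2F hSF hSFdef hτ1 _ hw_zero with h0 | h0
      · exact h0
      · exact absurd (h0.trans h1.symm) hne_pts
  -- `w₁ = wQ * hQ l`
  have hwl : ∃ l : Fˣ, w₁ = wQ h2F hSF hSFdef * hQ hSF hSFdef l := by
    have e1 : (wQ h2F hSF hSFdef * w₁) • ptInf F m = ptInf F m := by
      rw [mul_smul, hswap.1, wQ_smul_ptAff_zero]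
    have e0 : (wQ h2F hSF hSFdef * w₁) • ptAff hSFdef 0 0 = ptAff hSFdef 0 0 := by
      rw [mul_smul, hswap.2, wQ_smul_ptInf]
    obtain ⟨l, hl⟩ := fix_two_eq_hQ hm hF h2F hSF hSFdef e1 e0
    refine ⟨l, ?_⟩
    rw [← hl, ← mul_assoc, wQ_involution, one_mul]
  obtain ⟨l, hl⟩ := hwl
  -- a square root of `l`
  obtain ⟨μ, hμ⟩ : ∃ μ : Fˣ, μ * μ = l := by
    have hcard : Nat.card Fˣ = 2 ^ (2 * m + 1) - 1 := by
      rw [Nat.card_units, Nat.card_eq_fintype_card, hF]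
    have hpow : l ^ (2 ^ (2 * m + 1) - 1) = 1 := by
      rw [← hcard]; exact pow_card_eq_one'
    refine ⟨l ^ (2 ^ (2 * m)), ?_⟩
    rw [← pow_add]
    have e : 2 ^ (2 * m) + 2 ^ (2 * m) = (2 ^ (2 * m + 1) - 1) + 1 := by
      have : 0 < 2 ^ (2 * m) := by positivity
      rw [pow_succ]; omega
    rw [e, pow_succ, hpow, one_mul]
  -- the conjugating element
  have hwh : ∀ t : Fˣ, hQ hSF hSFdef t * wQ h2F hSF hSFdef
      = wQ h2F hSF hSFdef * hQ hSF hSFdef t⁻¹ := by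
    intro t
    rw [← Cfsg.Agent.Lib.Helper6_SzCent.wQ_mul_hQ_mul_wQ h2F hSF hSFdef t, ← mul_assoc, ← mul_assoc,
      wQ_involution, one_mul]
  refine ⟨hQ hSF hSFdef μ * k₀, τ, ?_, ?_, ?_⟩
  · have e : hQ hSF hSFdef μ * k₀ * h * (hQ hSF hSFdef μ * k₀)⁻¹
        = hQ hSF hSFdef μ * (k₀ * h * k₀⁻¹) * (hQ hSF hSFdef μ)⁻¹ := by group
    rw [e, hτ, Cfsg.Agent.Helper37Sz.hQ_inv, Cfsg.Agent.Helper37Sz.hQ_mul,
      Cfsg.Agent.Helper37Sz.hQ_mul]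
    congr 1
    rw [mul_comm μ τ, mul_inv_cancel_right]
  · have e : hQ hSF hSFdef μ * k₀ * θ (wQ h2K hSK hSKdef) * (hQ hSF hSFdef μ * k₀)⁻¹
        = hQ hSF hSFdef μ * w₁ * (hQ hSF hSFdef μ)⁻¹ := by rw [hw₁]; group
    rw [e, hl, Cfsg.Agent.Helper37Sz.hQ_inv]
    have hone : μ⁻¹ * (l * μ⁻¹) = 1 := by rw [← hμ]; group
    calc hQ hSF hSFdef μ * (wQ h2F hSF hSFdef * hQ hSF hSFdef l) * hQ hSF hSFdef μ⁻¹
        = (hQ hSF hSFdef μ * wQ h2F hSF hSFdef) * (hQ hSF hSFdef l * hQ hSF hSFdef μ⁻¹) := by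
          simp only [mul_assoc]
      _ = wQ h2F hSF hSFdef * hQ hSF hSFdef μ⁻¹ * (hQ hSF hSFdef l * hQ hSF hSFdef μ⁻¹) := by
          rw [hwh]
      _ = wQ h2F hSF hSFdef * (hQ hSF hSFdef μ⁻¹ * (hQ hSF hSFdef l * hQ hSF hSFdef μ⁻¹)) := by
          simp only [mul_assoc]
      _ = wQ h2F hSF hSFdef := by
          rw [Cfsg.Agent.Helper37Sz.hQ_mul, Cfsg.Agent.Helper37Sz.hQ_mul, hone, hQ_one, mul_one]
  · intro a b
    obtain ⟨a', b', hab'⟩ := hform a b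
    have hfixinf : (hQ hSF hSFdef μ * k₀ * k₁) • ptInf F m = ptInf F m := by
      rw [mul_smul, ← hpa, mul_smul, hk₀a, hQ_smul_ptInf]
    have := conj_mem_Qsub hm hF h2F hSF hSFdef hfixinf (uQ_mem_Qsub h2F hSF hSFdef a' b')
    obtain ⟨c, d, hcd⟩ := exists_of_mem_Qsub h2F hSF hSFdef this
    refine ⟨c, d, ?_⟩
    rw [← hcd, hab']; group

end Two

end Cfsg.Agent.Lib.Helper6_SzSubNorm
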