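import Mathlib
import Cfsg.Agent.Lib.Helper37_SzMax
import Cfsg.Agent.Lib.Helper37_SzTrans
import Cfsg.Agent.Lib.Helper37_SzZass
import Cfsg.Agent.Lib.Helper37_SzBasic
import Cfsg.Agent.Lib.Helper37_SzStruct

/-!
# The subfield subgroups of the Suzuki group: the embedding (helper6)

For `|K| = 2^(2k+1)`, `|F| = 2^(2m+1)` with `2k+1 ∣ 2m+1`, a field embedding `K → F` is compatible with the Tits
endomorphisms and induces an injective homomorphism `Sz K k → Sz F m`.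
-/

set_option autoImplicit false
open Cfsg

namespace Cfsg.Agent.Lib.Helper6_SzSubfield

open Cfsg.Agent.Helper37Sz
open Cfsg.Agent.S0335 (sf)

variable {F : Type*} [Field F] [Fintype F] {m : ℕ} {K : Type*} [Field K] [Fintype K] {k : ℕ}

/-- a field embedding of the small field into the large one -/
theorem exists_ringHom (hF : Fintype.card F = 2 ^ (2 * m + 1)) (hK : Fintype.card K = 2 ^ (2 * k + 1))
    (hdiv : 2 * k + 1 ∣ 2 * m + 1) : Nonempty (K →+* F) := by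
  have h2F : (2 : F) = 0 := two_eq_zero_of_card hF
  have h2K : (2 : K) = 0 := two_eq_zero_of_card hK
  haveI : CharP F 2 := CharTwo.of_one_ne_zero_of_two_eq_zero one_ne_zero h2F
  haveI : CharP K 2 := CharTwo.of_one_ne_zero_of_two_eq_zero one_ne_zero h2K
  haveI : Fact (Nat.Prime 2) := ⟨Nat.prime_two⟩
  letI : Algebra (ZMod 2) K := ZMod.algebra K 2
  letI : Algebra (ZMod 2) F := ZMod.algebra F 2
  have hrK : Module.finrank (ZMod 2) K = 2 * k + 1 :=
    Nat.pow_right_injective (le_refl 2) (by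
      show 2 ^ Module.finrank (ZMod 2) K = 2 ^ (2 * k + 1)
      rw [FiniteField.pow_finrank_eq_card, hK])
  have hrF : Module.finrank (ZMod 2) F = 2 * m + 1 :=
    Nat.pow_right_injective (le_refl 2) (by
      show 2 ^ Module.finrank (ZMod 2) F = 2 ^ (2 * m + 1)
      rw [FiniteField.pow_finrank_eq_card, hF])
  obtain ⟨f⟩ := FiniteField.nonempty_algHom_of_finrank_dvd (F := ZMod 2) (K := K) (L := F)
    (by rw [hrK, hrF]; exact hdiv)
  exact ⟨f.toRingHom⟩

/-- `m = e (2k+1) + k` -/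
theorem exists_e (hdiv : 2 * k + 1 ∣ 2 * m + 1) : ∃ e : ℕ, m = e * (2 * k + 1) + k := by
  obtain ⟨d, hd⟩ := hdiv
  rcases Nat.even_or_odd' d with ⟨e, rfl | rfl⟩
  · exfalso
    have : 2 * m + 1 = 2 * ((2 * k + 1) * e) := by rw [hd]; ring
    omega
  · refine ⟨e, ?_⟩
    have : 2 * m + 1 = 2 * (e * (2 * k + 1) + k) + 1 := by rw [hd]; ring
    omega

/-- the Tits endomorphism of the large field restricts to the one of the small field -/
theorem pow_compat (hK : Fintype.card K = 2 ^ (2 * k + 1)) (hdiv : 2 * k + 1 ∣ 2 * m + 1) (x : K) :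
    x ^ 2 ^ (m + 1) = x ^ 2 ^ (k + 1) := by
  obtain ⟨e, he⟩ := exists_e hdiv
  have h1 : 2 ^ (m + 1) = (2 ^ (2 * k + 1)) ^ e * 2 ^ (k + 1) := by
    rw [he, ← pow_mul, ← pow_add]
    congr 1
    ring
  rw [h1, pow_mul, ← hK, FiniteField.pow_card_pow]

theorem sg_compat (hF : Fintype.card F = 2 ^ (2 * m + 1)) (hK : Fintype.card K = 2 ^ (2 * k + 1))
    (hdiv : 2 * k + 1 ∣ 2 * m + 1) (ι : K →+* F) (x : K) :
    ι (sgHom K k (two_eq_zero_of_card hK) x) = sgHom F m (two_eq_zero_of_card hF) (ι x) := by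
  rw [sgHom_apply, sgHom_apply, ← map_pow, pow_compat hK hdiv]

section Map

variable {SF : F →+* F} {SK : K →+* K} (ι : K →+* F)

theorem map_uSL (hc : ∀ x, ι (SK x) = SF (ι x)) (a b : K) :
    Matrix.SpecialLinearGroup.map ι (uSL SK a b) = uSL SF (ι a) (ι b) := by
  apply Subtype.ext
  rw [Matrix.SpecialLinearGroup.map_apply_coe]
  ext i j
  fin_cases i <;> fin_cases j <;> simp [uSL, uMat, sf, hc]

theorem map_hSL (hc : ∀ x, ι (SK x) = SF (ι x)) (t : Kˣ) :
    Matrix.SpecialLinearGroup.map ι (hSL SK t) = hSL SF (Units.map (ι : K →* F) t) := by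
  apply Subtype.ext
  rw [Matrix.SpecialLinearGroup.map_apply_coe]
  ext i j
  fin_cases i <;> fin_cases j <;> simp [hSL, hMat, hc]

theorem map_wSL :
    Matrix.SpecialLinearGroup.map ι (wSL : Matrix.SpecialLinearGroup (Fin 4) K) = wSL := by
  apply Subtype.ext
  rw [Matrix.SpecialLinearGroup.map_apply_coe]
  ext i j
  fin_cases i <;> fin_cases j <;> simp [wSL, wMat]

theorem map_injective : Function.Injective (Matrix.SpecialLinearGroup.map (n := Fin 4) ι) := by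
  intro g g' h
  apply Subtype.ext
  ext i j
  have h1 := congrArg (fun x : Matrix.SpecialLinearGroup (Fin 4) F =>
    (x : Matrix (Fin 4) (Fin 4) F) i j) h
  simp only [Matrix.SpecialLinearGroup.map_apply_coe, RingHom.mapMatrix_apply, Matrix.map_apply] at h1
  exact ι.injective h1

end Map

/-- the image of `Sz K k` lies in `Sz F m` -/
theorem map_mem (hm : 1 ≤ m) (hk : 1 ≤ k) (hF : Fintype.card F = 2 ^ (2 * m + 1))
    (hK : Fintype.card K = 2 ^ (2 * k + 1)) (hdiv : 2 * k + 1 ∣ 2 * m + 1) (ι : K →+* F)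
    {g : Matrix.SpecialLinearGroup (Fin 4) K} (hg : g ∈ Cfsg.Sz K k) :
    Matrix.SpecialLinearGroup.map ι g ∈ Cfsg.Sz F m := by
  have h2F : (2 : F) = 0 := two_eq_zero_of_card hF
  have h2K : (2 : K) = 0 := two_eq_zero_of_card hK
  have hSFdef : ∀ z, (sgHom F m h2F) z = z ^ 2 ^ (m + 1) := fun z => sgHom_apply m h2F z
  have hSF : ∀ z, (sgHom F m h2F) ((sgHom F m h2F) z) = z ^ 2 := fun z => sgHom_sgHom hF h2F z
  have hSKdef : ∀ z, (sgHom K k h2K) z = z ^ 2 ^ (k + 1) := fun z => sgHom_apply k h2K z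
  have hSK : ∀ z, (sgHom K k h2K) ((sgHom K k h2K) z) = z ^ 2 := fun z => sgHom_sgHom hK h2K z
  have hc : ∀ x, ι (sgHom K k h2K x) = sgHom F m h2F (ι x) := sg_compat hF hK hdiv ι
  have hu : ∀ a b : F, uSL (sgHom F m h2F) a b ∈ Cfsg.Sz F m := uSL_mem h2F hSF hSFdef
  have hh : ∀ t : Fˣ, hSL (sgHom F m h2F) t ∈ Cfsg.Sz F m := hSL_mem hSF hSFdef
  have hw : (wSL : Matrix.SpecialLinearGroup (Fin 4) F) ∈ Cfsg.Sz F m := wSL_mem h2F hSF hSFdef
  rcases Sz_decomp hk hK h2K hSK hSKdef hg with ⟨a, b, t, rfl⟩ | ⟨a, b, a', b', t, rfl⟩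
  · rw [map_mul, map_uSL ι hc, map_hSL ι hc]
    exact (Cfsg.Sz F m).mul_mem (hu _ _) (hh _)
  · rw [map_mul, map_mul, map_mul, map_uSL ι hc, map_uSL ι hc, map_hSL ι hc, map_wSL]
    exact (Cfsg.Sz F m).mul_mem ((Cfsg.Sz F m).mul_mem (hu _ _) hw)
      ((Cfsg.Sz F m).mul_mem (hu _ _) (hh _))

/-- the embedding `Sz K k → Sz F m` -/
noncomputable def szMap (hm : 1 ≤ m) (hk : 1 ≤ k) (hF : Fintype.card F = 2 ^ (2 * m + 1))
    (hK : Fintype.card K = 2 ^ (2 * k + 1)) (hdiv : 2 * k + 1 ∣ 2 * m + 1) (ι : K →+* F) :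
    Cfsg.Sz K k →* Cfsg.Sz F m :=
  MonoidHom.codRestrict ((Matrix.SpecialLinearGroup.map ι).comp (Cfsg.Sz K k).subtype) (Cfsg.Sz F m)
    (fun g => map_mem hm hk hF hK hdiv ι g.2)

theorem szMap_coe (hm : 1 ≤ m) (hk : 1 ≤ k) (hF : Fintype.card F = 2 ^ (2 * m + 1))
    (hK : Fintype.card K = 2 ^ (2 * k + 1)) (hdiv : 2 * k + 1 ∣ 2 * m + 1) (ι : K →+* F)
    (g : Cfsg.Sz K k) :
    ((szMap hm hk hF hK hdiv ι g : Cfsg.Sz F m) : Matrix.SpecialLinearGroup (Fin 4) F)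
      = Matrix.SpecialLinearGroup.map ι g := rfl

theorem szMap_injective (hm : 1 ≤ m) (hk : 1 ≤ k) (hF : Fintype.card F = 2 ^ (2 * m + 1))
    (hK : Fintype.card K = 2 ^ (2 * k + 1)) (hdiv : 2 * k + 1 ∣ 2 * m + 1) (ι : K →+* F) :
    Function.Injective (szMap hm hk hF hK hdiv ι) := by
  intro g g' h
  have h1 := congrArg (fun x : Cfsg.Sz F m => (x : Matrix.SpecialLinearGroup (Fin 4) F)) h
  simp only [szMap_coe] at h1
  exact Subtype.ext (map_injective ι h1)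

end Cfsg.Agent.Lib.Helper6_SzSubfield
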