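import Mathlib
import Cfsg.Agent.Lib.Helper6_SzSubNorm
import Cfsg.Agent.Lib.Helper6_SzSubfield
import Cfsg.Agent.Lib.Helper6_SzCent
import Cfsg.Agent.Lib.Helper37_SzMax
import Cfsg.Agent.Lib.Helper37_SzSimple
import Cfsg.Agent.Lib.Helper37_SzZass
import Cfsg.Agent.Lib.Helper37_SzSylow

/-!
# Subgroups of the Suzuki group isomorphic to a smaller Suzuki group: the algebra (helper6)

A normalised embedding `θ : Sz K k → Sz F m` (torus generator to a torus element, inversion to the inversion,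
unipotent group into the unipotent group) has the standard subfield subgroup inside its image.
-/

set_option autoImplicit false
open Cfsg

namespace Cfsg.Agent.Lib.Helper6_SzSubAlg

open Cfsg.Agent.Helper37Sz Cfsg.Agent.Lib.Helper6_SzSubNorm
open Cfsg.Agent.S0335 (sf)

variable {F : Type*} [Field F] [Fintype F] {SF : F →+* F} {m : ℕ}
variable {K : Type*} [Field K] [Fintype K] {SK : K →+* K} {k : ℕ}

/-- a normalised embedding -/
structure Normal (h2F : (2 : F) = 0) (hSF : ∀ z, SF (SF z) = z ^ 2)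
    (hSFdef : ∀ z, SF z = z ^ 2 ^ (m + 1)) (h2K : (2 : K) = 0) (hSK : ∀ z, SK (SK z) = z ^ 2)
    (hSKdef : ∀ z, SK z = z ^ 2 ^ (k + 1)) (ι : K →+* F) (θ : Cfsg.Sz K k →* Cfsg.Sz F m)
    (t₀ : Kˣ) (τ : Fˣ) : Prop where
  inj : Function.Injective θ
  compat : ∀ x, ι (SK x) = SF (ι x)
  gen : ∀ t : Kˣ, t ∈ Subgroup.zpowers t₀
  ord : orderOf t₀ = 2 ^ (2 * k + 1) - 1
  tor : θ (hQ hSK hSKdef t₀) = hQ hSF hSFdef τ
  inv : θ (wQ h2K hSK hSKdef) = wQ h2F hSF hSFdef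
  uni : ∀ a b : K, ∃ a' b' : F, θ (uQ h2K hSK hSKdef a b) = uQ h2F hSF hSFdef a' b'

variable {h2F : (2 : F) = 0} {hSF : ∀ z, SF (SF z) = z ^ 2} {hSFdef : ∀ z, SF z = z ^ 2 ^ (m + 1)}
variable {h2K : (2 : K) = 0} {hSK : ∀ z, SK (SK z) = z ^ 2} {hSKdef : ∀ z, SK z = z ^ 2 ^ (k + 1)}
variable {ι : K →+* F} {θ : Cfsg.Sz K k →* Cfsg.Sz F m} {t₀ : Kˣ} {τ : Fˣ}

theorem hQ_zpow (hS : ∀ z, SF (SF z) = z ^ 2) (hSdef : ∀ z, SF z = z ^ 2 ^ (m + 1)) (t : Fˣ) (i : ℤ) :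
    hQ (m := m) hS hSdef (t ^ i) = hQ hS hSdef t ^ i :=
  map_zpow (hQHom hS hSdef) t i

/-- torus elements go to torus elements -/
theorem theta_hQ (N : Normal h2F hSF hSFdef h2K hSK hSKdef ι θ t₀ τ) (t : Kˣ) :
    ∃ τ' : Fˣ, θ (hQ hSK hSKdef t) = hQ hSF hSFdef τ' := by
  obtain ⟨i, rfl⟩ := Subgroup.mem_zpowers_iff.1 (N.gen t)
  refine ⟨τ ^ i, ?_⟩
  rw [hQ_zpow, map_zpow, N.tor, hQ_zpow]

theorem orderOf_tau (N : Normal h2F hSF hSFdef h2K hSK hSKdef ι θ t₀ τ) :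
    orderOf τ = 2 ^ (2 * k + 1) - 1 := by
  rw [← orderOf_hQ hSF hSFdef, ← N.tor, orderOf_injective θ N.inj, orderOf_hQ, N.ord]

/-- the torus elements over the subfield are in the image -/
theorem hQ_iota (hK : Fintype.card K = 2 ^ (2 * k + 1))
    (N : Normal h2F hSF hSFdef h2K hSK hSKdef ι θ t₀ τ) (t : Kˣ) :
    ∃ t' : Kˣ, θ (hQ hSK hSKdef t') = hQ hSF hSFdef (Units.map (ι : K →* F) t) := by
  have hpos : 0 < 2 ^ (2 * k + 1) - 1 := by
    have : 2 ≤ 2 ^ (2 * k + 1) := by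
      calc 2 = 2 ^ 1 := by norm_num
        _ ≤ 2 ^ (2 * k + 1) := Nat.pow_le_pow_right (by norm_num) (by omega)
    omega
  haveI : NeZero (2 ^ (2 * k + 1) - 1) := ⟨by omega⟩
  have hprim : IsPrimitiveRoot τ (2 ^ (2 * k + 1) - 1) := by
    rw [← orderOf_tau N]; exact IsPrimitiveRoot.orderOf τ
  have hcard : Nat.card Kˣ = 2 ^ (2 * k + 1) - 1 := by
    rw [Nat.card_units, Nat.card_eq_fintype_card, hK]
  have hmem : Units.map (ι : K →* F) t ∈ rootsOfUnity (2 ^ (2 * k + 1) - 1) F := by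
    rw [mem_rootsOfUnity, ← map_pow, ← hcard, pow_card_eq_one', map_one]
  rw [← hprim.zpowers_eq] at hmem
  obtain ⟨i, hi⟩ := Subgroup.mem_zpowers_iff.1 hmem
  refine ⟨t₀ ^ i, ?_⟩
  rw [hQ_zpow, map_zpow, N.tor, ← hQ_zpow, hi]

/-- the image of the unipotent group -/
def Pim (h2K : (2 : K) = 0) (hSK : ∀ z, SK (SK z) = z ^ 2) (θ : Cfsg.Sz K k →* Cfsg.Sz F m) :
    Subgroup (Cfsg.Sz F m) := (Qsub h2K hSK k).map θ

theorem mem_Pim (hSKdef : ∀ z, SK z = z ^ 2 ^ (k + 1)) {x : Cfsg.Sz F m} :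
    x ∈ Pim h2K hSK θ ↔ ∃ a b : K, θ (uQ h2K hSK hSKdef a b) = x := by
  constructor
  · rintro ⟨u, hu, rfl⟩
    obtain ⟨a, b, rfl⟩ := exists_of_mem_Qsub h2K hSK hSKdef hu
    exact ⟨a, b, rfl⟩
  · rintro ⟨a, b, rfl⟩
    exact Subgroup.mem_map_of_mem θ (uQ_mem_Qsub h2K hSK hSKdef a b)

/-- the subfield torus normalises the image of the unipotent group -/
theorem conj_mem_Pim (hK : Fintype.card K = 2 ^ (2 * k + 1))
    (N : Normal h2F hSF hSFdef h2K hSK hSKdef ι θ t₀ τ) (t : Kˣ) {a b : F}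
    (hab : uQ h2F hSF hSFdef a b ∈ Pim h2K hSK θ) :
    uQ h2F hSF hSFdef ((ι t) ^ 2 * a) (SF (ι t) ^ 2 * (ι t) ^ 2 * b) ∈ Pim h2K hSK θ := by
  obtain ⟨t', ht'⟩ := hQ_iota hK N t
  obtain ⟨a₁, b₁, h1⟩ := (mem_Pim hSKdef).1 hab
  have h2 : hQ hSF hSFdef (Units.map (ι : K →* F) t) * uQ h2F hSF hSFdef a b
      * (hQ hSF hSFdef (Units.map (ι : K →* F) t))⁻¹
      = uQ h2F hSF hSFdef ((ι t) ^ 2 * a) (SF (ι t) ^ 2 * (ι t) ^ 2 * b) := by
    rw [hQ_mul_uQ, mul_inv_cancel_right]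
    rfl
  rw [← h2, ← ht', ← h1, ← map_inv, ← map_mul, ← map_mul, hQ_mul_uQ, mul_inv_cancel_right]
  exact (mem_Pim hSKdef).2 ⟨_, _, rfl⟩

/-- the central part of the image -/
def Bset (h2F : (2 : F) = 0) (hSF : ∀ z, SF (SF z) = z ^ 2) (hSFdef : ∀ z, SF z = z ^ 2 ^ (m + 1))
    (h2K : (2 : K) = 0) (hSK : ∀ z, SK (SK z) = z ^ 2) (θ : Cfsg.Sz K k →* Cfsg.Sz F m) : Set F :=
  {b | uQ h2F hSF hSFdef 0 b ∈ Pim h2K hSK θ}

theorem zero_mem_Bset : (0 : F) ∈ Bset h2F hSF hSFdef h2K hSK θ := by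
  show uQ h2F hSF hSFdef 0 0 ∈ Pim h2K hSK θ
  rw [uQ_zero]
  exact Subgroup.one_mem _

theorem add_mem_Bset {b b' : F} (hb : b ∈ Bset h2F hSF hSFdef h2K hSK θ)
    (hb' : b' ∈ Bset h2F hSF hSFdef h2K hSK θ) : b + b' ∈ Bset h2F hSF hSFdef h2K hSK θ := by
  have hb1 : uQ h2F hSF hSFdef 0 b ∈ Pim h2K hSK θ := hb
  have hb2 : uQ h2F hSF hSFdef 0 b' ∈ Pim h2K hSK θ := hb'
  have := Subgroup.mul_mem _ hb1 hb2
  rw [uQ_mul, add_zero, map_zero, zero_mul, add_zero] at this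
  exact this

/-- squares of elements of the image are central -/
theorem sq_mem_Bset {a b : F} (hab : uQ h2F hSF hSFdef a b ∈ Pim h2K hSK θ) :
    SF a * a ∈ Bset h2F hSF hSFdef h2K hSK θ := by
  have := Subgroup.mul_mem _ hab hab
  rw [uQ_mul] at this
  have e1 : a + a = 0 := by linear_combination a * h2F
  have e2 : b + b + SF a * a = SF a * a := by linear_combination b * h2F
  rw [e1, e2] at this
  exact this

/-- square roots in the small field -/
theorem exists_sqrt (hK : Fintype.card K = 2 ^ (2 * k + 1)) (c : K) : ∃ e : K, e ^ 2 = c := by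
  refine ⟨c ^ 2 ^ (2 * k), ?_⟩
  rw [← pow_mul, ← pow_succ, ← hK, FiniteField.pow_card]

/-- every non-zero element of the small field is a torus multiplier -/
theorem exists_mult (hK : Fintype.card K = 2 ^ (2 * k + 1)) (hSK : ∀ z, SK (SK z) = z ^ 2) {c : K}
    (hc : c ≠ 0) : ∃ t : Kˣ, SK (t : K) ^ 2 * (t : K) ^ 2 = c := by
  obtain ⟨e, he⟩ := exists_sqrt hK c
  have he0 : e ≠ 0 := by
    rintro rfl
    apply hc
    rw [← he]; ring
  have hSe : SK e ≠ 0 := by simpa using he0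
  refine ⟨Units.mk0 (SK e / e) (div_ne_zero hSe he0), ?_⟩
  rw [Units.val_mk0, map_div₀, hSK, ← he]
  field_simp

/-- the central part is stable under the subfield -/
theorem smul_mem_Bset (hK : Fintype.card K = 2 ^ (2 * k + 1))
    (N : Normal h2F hSF hSFdef h2K hSK hSKdef ι θ t₀ τ) (c : K) {b : F}
    (hb : b ∈ Bset h2F hSF hSFdef h2K hSK θ) : ι c * b ∈ Bset h2F hSF hSFdef h2K hSK θ := by
  by_cases hc : c = 0
  · rw [hc, map_zero, zero_mul]
    exact zero_mem_Bset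
  · obtain ⟨t, ht⟩ := exists_mult hK hSK hc
    have := conj_mem_Pim hK N t hb
    rw [mul_zero] at this
    have e : SF (ι (t : K)) ^ 2 * ι (t : K) ^ 2 = ι c := by
      rw [← ht, map_mul, map_pow, map_pow, N.compat]
    rw [e] at this
    exact this

/-- the key step: inversion -/
theorem inv_step (hk : 1 ≤ k) (hK : Fintype.card K = 2 ^ (2 * k + 1))
    (N : Normal h2F hSF hSFdef h2K hSK hSKdef ι θ t₀ τ) {b : F}
    (hb : b ∈ Bset h2F hSF hSFdef h2K hSK θ) (hb0 : b ≠ 0) :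
    uQ h2F hSF hSFdef (b / SF b) 0 ∈ Pim h2K hSK θ := by
  have hSb : SF b ≠ 0 := by simpa using hb0
  have hsf : sf SF 0 b = SF b := by simp [sf]
  have hsf0 : sf SF 0 b ≠ 0 := by rw [hsf]; exact hSb
  obtain ⟨a₁, b₁, h1⟩ := (mem_Pim hSKdef).1 hb
  -- the element `w u w` of the image
  set g : Cfsg.Sz F m := wQ h2F hSF hSFdef * uQ h2F hSF hSFdef 0 b * wQ h2F hSF hSFdef with hg
  have hginf : g • ptInf F m = ptAff hSFdef (b / SF b) 0 := by
    rw [hg, mul_smul, mul_smul, wQ_smul_ptInf, uQ_smul_ptAff, wQ_smul_ptAff h2F hSF hSFdef (by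
      simpa using hsf0)]
    simp [sf]
  have hgim : g = θ (wQ h2K hSK hSKdef * uQ h2K hSK hSKdef a₁ b₁ * wQ h2K hSK hSKdef) := by
    rw [map_mul, map_mul, N.inv, h1]
  rcases decompQ hk hK h2K hSK hSKdef
      (wQ h2K hSK hSKdef * uQ h2K hSK hSKdef a₁ b₁ * wQ h2K hSK hSKdef) with
    ⟨a, b', t, hx⟩ | ⟨a, b', a', b'', t, hx⟩
  · exfalso
    rw [hx, map_mul] at hgim
    obtain ⟨c, d, hcd⟩ := N.uni a b'
    obtain ⟨τ', hτ'⟩ := theta_hQ N t
    rw [hcd, hτ'] at hgim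
    rw [hgim, mul_smul, hQ_smul_ptInf, uQ_smul_ptInf] at hginf
    exact ptAff_ne_ptInf hSFdef _ _ hginf.symm
  · rw [hx, map_mul, map_mul, map_mul] at hgim
    obtain ⟨c, d, hcd⟩ := N.uni a b'
    obtain ⟨c', d', hcd'⟩ := N.uni a' b''
    obtain ⟨τ', hτ'⟩ := theta_hQ N t
    rw [hcd, hcd', hτ', N.inv] at hgim
    rw [hgim, mul_smul, mul_smul, mul_smul, hQ_smul_ptInf, uQ_smul_ptInf, wQ_smul_ptInf,
      uQ_smul_ptAff] at hginf
    obtain ⟨e1, e2⟩ := ptAff_inj hSFdef hginf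
    rw [zero_add] at e1
    rw [zero_add, mul_zero, add_zero] at e2
    rw [← e1, ← e2, ← hcd]
    exact (mem_Pim hSKdef).2 ⟨_, _, rfl⟩

/-- the central part is closed under inverses -/
theorem inv_mem_Bset (hk : 1 ≤ k) (hK : Fintype.card K = 2 ^ (2 * k + 1))
    (N : Normal h2F hSF hSFdef h2K hSK hSKdef ι θ t₀ τ) {b : F}
    (hb : b ∈ Bset h2F hSF hSFdef h2K hSK θ) : b⁻¹ ∈ Bset h2F hSF hSFdef h2K hSK θ := by
  by_cases hb0 : b = 0
  · rw [hb0, inv_zero]; exact zero_mem_Bset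
  · have hSb : SF b ≠ 0 := by simpa using hb0
    have := sq_mem_Bset (inv_step hk hK N hb hb0)
    have e : SF (b / SF b) * (b / SF b) = b⁻¹ := by
      rw [map_div₀, hSF]
      field_simp
    rw [e] at this
    exact this

/-- the central part has at most `|K|` elements -/
theorem card_Bset_le [DecidablePred (· ∈ Bset h2F hSF hSFdef h2K hSK θ)]
    (N : Normal h2F hSF hSFdef h2K hSK hSKdef ι θ t₀ τ) :
    (Finset.univ.filter (· ∈ Bset h2F hSF hSFdef h2K hSK θ)).card ≤ Fintype.card K := by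
  classical
  have h1 : (Finset.univ.filter (· ∈ Bset h2F hSF hSFdef h2K hSK θ)).card
      ≤ (Finset.univ.image (fun b₁ : K => θ (uQ h2K hSK hSKdef 0 b₁))).card := by
    apply Finset.card_le_card_of_injOn (fun b => uQ h2F hSF hSFdef 0 b)
    · intro b hb
      have hb' : b ∈ Bset h2F hSF hSFdef h2K hSK θ := by simpa using hb
      obtain ⟨a₁, b₁, h1⟩ := (mem_Pim hSKdef).1 hb'
      -- `a₁ = 0` because the element is an involution
      have hsq : θ (uQ h2K hSK hSKdef a₁ b₁ * uQ h2K hSK hSKdef a₁ b₁) = 1 := by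
        rw [map_mul, h1, uQ_mul, add_zero, map_zero, zero_mul, add_zero]
        have : b + b = 0 := by linear_combination b * h2F
        rw [this, uQ_zero]
      have hsq' : uQ h2K hSK hSKdef a₁ b₁ * uQ h2K hSK hSKdef a₁ b₁ = uQ h2K hSK hSKdef 0 0 := by
        apply N.inj
        rw [hsq, uQ_zero, map_one]
      rw [uQ_mul] at hsq'
      have h3 := (uQ_inj h2K hSK hSKdef hsq').2
      have e2 : b₁ + b₁ + SK a₁ * a₁ = SK a₁ * a₁ := by linear_combination b₁ * h2K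
      rw [e2] at h3
      have ha₁ : a₁ = 0 := by
        rcases mul_eq_zero.1 h3 with h | h
        · simpa using h
        · exact h
      rw [Finset.mem_coe, Finset.mem_image]
      refine ⟨b₁, Finset.mem_univ _, ?_⟩
      show θ (uQ h2K hSK hSKdef 0 b₁) = uQ h2F hSF hSFdef 0 b
      rw [← h1, ha₁]
    · intro b _ b' _ hbb'
      exact (uQ_inj h2F hSF hSFdef hbb').2
  exact h1.trans (Finset.card_image_le.trans (by rw [Finset.card_univ]))

/-- a non-zero element of the central part -/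
theorem exists_mem_Bset (N : Normal h2F hSF hSFdef h2K hSK hSKdef ι θ t₀ τ) :
    ∃ β : F, β ∈ Bset h2F hSF hSFdef h2K hSK θ ∧ β ≠ 0 := by
  obtain ⟨a', b', h1⟩ := N.uni 0 1
  have hsq : uQ h2F hSF hSFdef a' b' * uQ h2F hSF hSFdef a' b' = uQ h2F hSF hSFdef 0 0 := by
    rw [← h1, ← map_mul, uQ_mul, add_zero, map_zero, zero_mul, add_zero]
    have : (1 : K) + 1 = 0 := by linear_combination h2K
    rw [this, uQ_zero, uQ_zero, map_one]
  rw [uQ_mul] at hsq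
  have h3 := (uQ_inj h2F hSF hSFdef hsq).2
  have e2 : b' + b' + SF a' * a' = SF a' * a' := by linear_combination b' * h2F
  rw [e2] at h3
  have ha' : a' = 0 := by
    rcases mul_eq_zero.1 h3 with h | h
    · simpa using h
    · exact h
  subst ha'
  refine ⟨b', (mem_Pim hSKdef).2 ⟨0, 1, h1⟩, ?_⟩
  rintro rfl
  rw [uQ_zero] at h1
  have : uQ h2K hSK hSKdef 0 1 = uQ h2K hSK hSKdef 0 0 := by
    apply N.inj
    rw [h1, uQ_zero, map_one]
  exact one_ne_zero (uQ_inj h2K hSK hSKdef this).2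

/-- the central part contains the subfield -/
theorem iota_mem_Bset (hk : 1 ≤ k) (hK : Fintype.card K = 2 ^ (2 * k + 1))
    (N : Normal h2F hSF hSFdef h2K hSK hSKdef ι θ t₀ τ) (c : K) :
    ι c ∈ Bset h2F hSF hSFdef h2K hSK θ := by
  classical
  obtain ⟨β, hβ, hβ0⟩ := exists_mem_Bset N
  -- `B = ι(K) β`
  have hsub : Finset.univ.image (fun c : K => ι c * β)
      ⊆ Finset.univ.filter (· ∈ Bset h2F hSF hSFdef h2K hSK θ) := by
    intro x hx
    obtain ⟨c, -, rfl⟩ := Finset.mem_image.1 hx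
    rw [Finset.mem_filter]
    exact ⟨Finset.mem_univ _, smul_mem_Bset hK N c hβ⟩
  have hinj : Function.Injective (fun c : K => ι c * β) := by
    intro c c' h
    exact ι.injective (mul_right_cancel₀ hβ0 h)
  have hcard : (Finset.univ.filter (· ∈ Bset h2F hSF hSFdef h2K hSK θ)).card
      ≤ (Finset.univ.image (fun c : K => ι c * β)).card := by
    rw [Finset.card_image_of_injective _ hinj, Finset.card_univ]
    exact card_Bset_le N
  have heq := Finset.eq_of_subset_of_card_le hsub hcard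
  -- `β⁻¹ ∈ B`
  have hinv : β⁻¹ ∈ Finset.univ.filter (· ∈ Bset h2F hSF hSFdef h2K hSK θ) := by
    rw [Finset.mem_filter]
    exact ⟨Finset.mem_univ _, inv_mem_Bset hk hK N hβ⟩
  rw [← heq] at hinv
  obtain ⟨c₀, -, hc₀⟩ := Finset.mem_image.1 hinv
  have hc₀' : ι c₀ * β = β⁻¹ := hc₀
  have hc₀0 : c₀ ≠ 0 := by
    rintro rfl
    rw [map_zero, zero_mul] at hc₀'
    exact inv_ne_zero hβ0 hc₀'.symm
  -- `β² = ι (c₀⁻¹)`, so `β ∈ ι(K)`
  obtain ⟨e, he⟩ := exists_sqrt hK c₀⁻¹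
  have hβsq : β ^ 2 = ι e ^ 2 := by
    rw [← map_pow, he, map_inv₀]
    have hι : ι c₀ ≠ 0 := by simpa using hc₀0
    field_simp
    calc β ^ 2 * ι c₀ = β * (ι c₀ * β) := by ring
      _ = 1 := by rw [hc₀', mul_inv_cancel₀ hβ0]
  have hβe : β = ι e := by
    have h0 : (β - ι e) ^ 2 = 0 := by
      have : (β - ι e) ^ 2 = β ^ 2 - ι e ^ 2 - 2 * (β * ι e - ι e ^ 2) := by ring
      rw [this, hβsq, h2F]; ring
    exact sub_eq_zero.1 ((pow_eq_zero_iff two_ne_zero).1 h0)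
  have he0 : e ≠ 0 := by
    rintro rfl
    rw [map_zero] at hβe
    exact hβ0 hβe
  have := smul_mem_Bset hK N (c * e⁻¹) hβ
  rw [hβe, ← map_mul, inv_mul_cancel_right₀ he0] at this
  exact this

/-- the image contains the subfield unipotent elements -/
theorem uQ_iota_mem (hk : 1 ≤ k) (hK : Fintype.card K = 2 ^ (2 * k + 1))
    (N : Normal h2F hSF hSFdef h2K hSK hSKdef ι θ t₀ τ) (a b : K) :
    uQ h2F hSF hSFdef (ι a) (ι b) ∈ Pim h2K hSK θ := by
  have h1 : uQ h2F hSF hSFdef (ι a) 0 ∈ Pim h2K hSK θ := by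
    by_cases ha : a = 0
    · rw [ha, map_zero, uQ_zero]
      exact Subgroup.one_mem _
    · have hSa : SK a ≠ 0 := by simpa using ha
      set b₁ : K := (SK a * a)⁻¹ with hb₁
      have hb₁0 : b₁ ≠ 0 := inv_ne_zero (mul_ne_zero hSa ha)
      have hιb₁ : ι b₁ ≠ 0 := by simpa using hb₁0
      have := inv_step hk hK N (iota_mem_Bset hk hK N b₁) hιb₁
      have e : ι b₁ / SF (ι b₁) = ι a := by
        rw [← N.compat, ← map_div₀]
        congr 1
        rw [hb₁, map_inv₀, map_mul, hSK]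
        field_simp
      rw [e] at this
      exact this
  have h2 : uQ h2F hSF hSFdef 0 (ι b) ∈ Pim h2K hSK θ := iota_mem_Bset hk hK N b
  have := Subgroup.mul_mem _ h1 h2
  rw [uQ_mul, add_zero, zero_add, mul_zero, add_zero] at this
  exact this

end Cfsg.Agent.Lib.Helper6_SzSubAlg
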