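import Mathlib
import Cfsg.Agent.Lib.Helper6_PartCount
import Cfsg.Agent.Lib.Helper6_SzPartition
import Cfsg.Agent.Lib.Helper6_SzToriClass
import Cfsg.Agent.Lib.Helper6_SzToriCount
import Cfsg.Agent.Lib.Helper6_SzTori
import Cfsg.Agent.Lib.Helper6_SzCent
import Cfsg.Agent.Lib.Helper6_SzSubAlg
import Cfsg.Agent.Lib.Helper6_TICount
import Cfsg.Agent.Lib.Helper37_SzMax
import Cfsg.Agent.Lib.Helper37_SzSimple
import Cfsg.Agent.Lib.Helper37_SzZass
import Cfsg.Agent.Lib.Helper37_SzSylow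
import Cfsg.Agent.Lib.Helper37_SzBasic
import Cfsg.Agent.S0324
import Cfsg.Agent.S0326

/-!
# Transitive actions of the Suzuki groups of fixity two (helper6)

A transitive action of `Sz(q)` in which every non-identity element fixes at most two points, and some
fixes exactly two, is the action on the ovoid or the action on the cosets of a torus of order `q - 1`.
-/

set_option autoImplicit false
open Cfsg

namespace Cfsg.Agent.Lib.Helper6_SzFixity

open Cfsg.Agent.Helper37Sz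

theorem coprime_four_of_odd {n : ℕ} (h : ¬ 2 ∣ n) : Nat.Coprime n 4 := by
  have h2 : Nat.Coprime n 2 :=
    Nat.coprime_comm.1 ((Nat.Prime.coprime_iff_not_dvd Nat.prime_two).2 h)
  exact h2.pow_right 2

/-- the squaring trick: if `n` and `n²` conjugate the non-identity element `y` of the point stabiliser
into the point stabiliser, then `n²` fixes the point. -/
theorem sq_fix {G Ω : Type*} [Group G] [MulAction G Ω]
    (hfix : ∀ g : G, g ≠ 1 → ∀ a b c : Ω, g • a = a → g • b = b → g • c = c →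
      a = b ∨ a = c ∨ b = c)
    {α : Ω} {y y₁ y₂ n : G} (hy1 : y ≠ 1) (hy : y • α = α) (h1 : y₁ • α = α) (h2 : y₂ • α = α)
    (e1 : y * n = n * y₁) (e2 : y * (n * n) = (n * n) * y₂) : (n * n) • α = α := by
  have f1 : y • (n • α) = n • α := by rw [← mul_smul, e1, mul_smul, h1]
  have f2 : y • ((n * n) • α) = (n * n) • α := by rw [← mul_smul, e2, mul_smul, h2]
  rcases hfix y hy1 α (n • α) ((n * n) • α) hy f1 f2 with h | h | h
  · rw [mul_smul, ← h, ← h]
  · exact h.symm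
  · have h' : α = n • α := by
      have := congrArg (fun z => n⁻¹ • z) h
      simpa [mul_smul] using this
    rw [mul_smul, ← h', ← h']

/-- elements of odd order commuting with a non-identity element of the point stabiliser lie in it -/
theorem odd_commute_fix {G Ω : Type*} [Group G] [Finite G] [MulAction G Ω]
    (hfix : ∀ g : G, g ≠ 1 → ∀ a b c : Ω, g • a = a → g • b = b → g • c = c →
      a = b ∨ a = c ∨ b = c)
    {α : Ω} {x c : G} (hx1 : x ≠ 1) (hx : x • α = α) (hc : c * x = x * c) (hodd : ¬ 2 ∣ orderOf c) :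
    c • α = α := by
  obtain ⟨k, hk⟩ : ∃ k, orderOf c + 1 = 2 * k := by
    have : orderOf c % 2 = 1 := by omega
    exact ⟨(orderOf c + 1) / 2, by omega⟩
  have hcc : c ^ k * c ^ k = c := by
    rw [← pow_add, ← two_mul, ← hk, pow_succ, pow_orderOf_eq_one, one_mul]
  have hcomm : x * c ^ k = c ^ k * x := by
    have : Commute x c := hc.symm
    exact (this.pow_right k)
  have hcomm2 : x * (c ^ k * c ^ k) = (c ^ k * c ^ k) * x := by
    rw [hcc]; exact hc.symm
  have := sq_fix hfix hx1 hx hx hx hcomm hcomm2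
  rwa [hcc] at this

section Even

variable {F : Type*} [Field F] [Fintype F] {S : F →+* F} {m : ℕ}
variable {Ω : Type*} [MulAction (Cfsg.Sz F m) Ω]

theorem uQ_congr (h2 : (2 : F) = 0) (hS : ∀ z, S (S z) = z ^ 2)
    (hSdef : ∀ z, S z = z ^ 2 ^ (m + 1)) {a b a' b' : F} (ha : a = a') (hb : b = b') :
    uQ (m := m) h2 hS hSdef a b = uQ h2 hS hSdef a' b' := by rw [ha, hb]

theorem uQ_zero_comm (h2 : (2 : F) = 0) (hS : ∀ z, S (S z) = z ^ 2)
    (hSdef : ∀ z, S z = z ^ 2 ^ (m + 1)) (d a c : F) :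
    uQ (m := m) h2 hS hSdef 0 d * uQ h2 hS hSdef a c = uQ h2 hS hSdef a c * uQ h2 hS hSdef 0 d := by
  rw [uQ_mul, uQ_mul]
  apply uQ_congr
  · ring
  · rw [map_zero]; ring

/-- the centre of `Q` is normalised by the stabiliser of `∞` -/
theorem Z_comm_B (h2 : (2 : F) = 0) (hS : ∀ z, S (S z) = z ^ 2)
    (hSdef : ∀ z, S z = z ^ 2 ^ (m + 1)) (a c : F) (t : Fˣ) (d : F) :
    ∃ d' : F, uQ (m := m) h2 hS hSdef 0 d * (uQ h2 hS hSdef a c * hQ hS hSdef t)
      = (uQ h2 hS hSdef a c * hQ hS hSdef t) * uQ h2 hS hSdef 0 d' := by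
  have ht0 : (t : F) ≠ 0 := t.ne_zero
  have hSt0 : S (t : F) ≠ 0 := by simpa using ht0
  refine ⟨(S (t : F) ^ 2 * (t : F) ^ 2)⁻¹ * d, ?_⟩
  rw [mul_assoc (uQ h2 hS hSdef a c), hQ_mul_uQ, ← mul_assoc, ← mul_assoc, uQ_zero_comm]
  congr 2
  apply uQ_congr
  · ring
  · field_simp

theorem even_case (hm : 1 ≤ m) (hF : Fintype.card F = 2 ^ (2 * m + 1)) (h2 : (2 : F) = 0)
    (hS : ∀ z, S (S z) = z ^ 2) (hSdef : ∀ z, S z = z ^ 2 ^ (m + 1))
    (hfix : ∀ g : Cfsg.Sz F m, g ≠ 1 → ∀ a b c : Ω, g • a = a → g • b = b → g • c = c →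
      a = b ∨ a = c ∨ b = c)
    {α : Ω} {b : F} (hb : b ≠ 0) (hα : uQ (m := m) h2 hS hSdef 0 b • α = α) :
    ∀ g : Cfsg.Sz F m, g • ptInf F m = ptInf F m → g • α = α := by
  classical
  have hadd : ∀ x : F, x + x = 0 := fun x => by linear_combination x * h2
  have hne1 : ∀ d : F, d ≠ 0 → uQ (m := m) h2 hS hSdef 0 d ≠ 1 := by
    intro d hd h
    rw [← uQ_zero h2 hS hSdef] at h
    exact hd (uQ_inj h2 hS hSdef h).2
  -- step 1: the centre of `Q`
  have hZ : ∀ d : F, uQ (m := m) h2 hS hSdef 0 d • α = α := by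
    intro d
    by_cases hd : d = 0
    · rw [hd, uQ_zero, one_smul]
    have hSd : S d ≠ 0 := by simpa using hd
    set a := S d / d with ha
    have hnn : uQ (m := m) h2 hS hSdef a 0 * uQ h2 hS hSdef a 0 = uQ h2 hS hSdef 0 d := by
      rw [uQ_mul]
      apply uQ_congr
      · exact hadd a
      · rw [ha, map_div₀, hS]
        field_simp
        ring
    have := sq_fix hfix (hne1 b hb) hα hα hα (uQ_zero_comm h2 hS hSdef b a 0)
      (by rw [hnn]; exact uQ_zero_comm h2 hS hSdef b 0 d)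
    rwa [hnn] at this
  -- step 2: squares of elements of the stabiliser of `∞`
  have hsq : ∀ (a c : F) (t : Fˣ), ((uQ (m := m) h2 hS hSdef a c * hQ hS hSdef t) *
      (uQ h2 hS hSdef a c * hQ hS hSdef t)) • α = α := by
    intro a c t
    obtain ⟨d₁, hd₁⟩ := Z_comm_B (m := m) h2 hS hSdef a c t 1
    obtain ⟨d₂, hd₂⟩ := Z_comm_B (m := m) h2 hS hSdef a c t d₁
    refine sq_fix hfix (hne1 1 one_ne_zero) (hZ 1) (hZ d₁) (hZ d₂) hd₁ ?_
    rw [← mul_assoc, hd₁, mul_assoc, hd₂, ← mul_assoc]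
  -- step 3: the torus
  have hH : ∀ t : Fˣ, hQ (m := m) hS hSdef t • α = α := by
    intro t
    obtain ⟨e, he⟩ := Cfsg.Agent.Lib.Helper6_SzSubAlg.exists_sqrt hF (t : F)
    have he0 : e ≠ 0 := by
      rintro rfl
      apply t.ne_zero
      rw [← he]; ring
    have hs : (Units.mk0 e he0) * (Units.mk0 e he0) = t := by
      apply Units.ext
      rw [Units.val_mul, Units.val_mk0, ← he, sq]
    have := hsq 0 0 (Units.mk0 e he0)
    rw [uQ_zero, one_mul, Cfsg.Agent.Helper37Sz.hQ_mul, hs] at this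
    exact this
  -- step 4: the group `Q`
  have hQα : ∀ a c : F, uQ (m := m) h2 hS hSdef a c • α = α := by
    obtain ⟨t₀, ht₀⟩ : ∃ t₀ : Fˣ, t₀ ≠ 1 := by
      have hcard : 1 < Fintype.card Fˣ := by
        rw [Fintype.card_units, hF]
        have : 2 ^ 3 ≤ 2 ^ (2 * m + 1) := Nat.pow_le_pow_right (by norm_num) (by omega)
        omega
      exact Fintype.exists_ne_of_one_lt_card hcard 1
    have hτ1 : (t₀ : F) ^ 2 ≠ 1 := by
      intro h
      exact ht₀ (Units.ext (unit_eq_one_of_sq h2 h))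
    have hτ : 1 + (t₀ : F) ^ 2 ≠ 0 := by
      intro h
      apply hτ1
      have : (t₀ : F) ^ 2 = (1 + (t₀ : F) ^ 2) + 1 := by
        have := hadd 1
        linear_combination -this
      rw [this, h, zero_add]
    intro a c
    set a₀ := a / (1 + (t₀ : F) ^ 2) with ha₀
    have h1 := hsq a₀ 0 t₀
    have e1 : (uQ (m := m) h2 hS hSdef a₀ 0 * hQ hS hSdef t₀) * (uQ h2 hS hSdef a₀ 0 * hQ hS hSdef t₀)
        = uQ h2 hS hSdef a (S a₀ * ((t₀ : F) ^ 2 * a₀)) * hQ hS hSdef (t₀ * t₀) := by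
      rw [mul_assoc, ← mul_assoc (hQ hS hSdef t₀), hQ_mul_uQ, ← mul_assoc, ← mul_assoc, uQ_mul,
        mul_assoc, Cfsg.Agent.Helper37Sz.hQ_mul]
      congr 1
      apply uQ_congr
      · rw [ha₀]; field_simp
      · ring
    rw [e1, mul_smul, hH] at h1
    have e2 : uQ (m := m) h2 hS hSdef a c
        = uQ h2 hS hSdef a (S a₀ * ((t₀ : F) ^ 2 * a₀))
          * uQ h2 hS hSdef 0 (c + S a₀ * ((t₀ : F) ^ 2 * a₀)) := by
      rw [uQ_mul]
      apply uQ_congr
      · ring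
      · have := hadd (S a₀ * ((t₀ : F) ^ 2 * a₀))
        linear_combination -this
    rw [e2, mul_smul, hZ, h1]
  intro g hg
  obtain ⟨a, c, t, rfl⟩ := Cfsg.Agent.Lib.Helper6_SzCent.stab_inf hm hF h2 hS hSdef hg
  rw [mul_smul, hH, hQα]

end Even

section Odd

open Cfsg.Agent.Lib.Helper6_SzTori Cfsg.Agent.Lib.Helper6_SzToriCount
open Cfsg.Agent.Lib.Helper6_SzToriClass Cfsg.Agent.Lib.Helper6_SzPartition

/-- no involution in a point stabiliser: elements of point stabilisers have odd order -/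
theorem odd_of_no_inv {G Ω : Type*} [Group G] [Finite G] [MulAction G Ω]
    (hodd : ∀ (β : Ω) (i : G), i • β = β → i * i = 1 → i = 1) {x : G} {β : Ω} (hx : x • β = β) :
    ¬ 2 ∣ orderOf x := by
  rintro ⟨k, hk⟩
  have hpos : 0 < orderOf x := orderOf_pos x
  have hi : x ^ k * x ^ k = 1 := by
    rw [← pow_add, ← two_mul, ← hk, pow_orderOf_eq_one]
  have h1 := hodd β (x ^ k) (Cfsg.Agent.Lib.Helper6_SzCent.pow_smul_fixed hx k) hi
  have := orderOf_dvd_of_pow_eq_one h1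
  have hle := Nat.le_of_dvd (by omega) this
  omega

variable {F : Type*} [Field F] [Fintype F] {m : ℕ}
variable {Ω : Type*} [MulAction (Cfsg.Sz F m) Ω]

theorem no_fpf_aux [Finite Ω] (hm : 1 ≤ m) (hF : Fintype.card F = 2 ^ (2 * m + 1))
    (hfix : ∀ g : Cfsg.Sz F m, g ≠ 1 → ∀ a b c : Ω, g • a = a → g • b = b → g • c = c →
      a = b ∨ a = c ∨ b = c)
    (hodd : ∀ (β : Ω) (i : Cfsg.Sz F m), i • β = β → i * i = 1 → i = 1)
    {g : Cfsg.Sz F m} (hg : Fpf g)
    (hN : Nat.card (Subgroup.normalizer (torus g : Set (Cfsg.Sz F m))) = 4 * Nat.card (torus g))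
    {x : Cfsg.Sz F m} (hxT : x ∈ torus g) (hx1 : x ≠ 1) {α : Ω} (hx : x • α = α) : False := by
  classical
  have hT : ∀ t ∈ torus g, t • α = α := by
    intro t ht
    by_cases ht1 : t = 1
    · rw [ht1, one_smul]
    have htf : Fpf t := hg.of_mem_torus hm hF ht ht1
    exact odd_commute_fix hfix hx1 hx (torus_comm hm hF hg ht hxT) (htf.odd_order hm hF)
  set N := Subgroup.normalizer (torus g : Set (Cfsg.Sz F m)) with hNdef
  have horb : ∀ β ∈ MulAction.orbit N α, x • β = β := by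
    rintro β ⟨n, rfl⟩
    have hn : (n : Cfsg.Sz F m)⁻¹ * x * (n : Cfsg.Sz F m) ∈ torus g := by
      have := (Subgroup.mem_normalizer_iff.1 (N.inv_mem n.2) x).1 hxT
      simpa using this
    show x • ((n : Cfsg.Sz F m) • α) = (n : Cfsg.Sz F m) • α
    have e : x * (n : Cfsg.Sz F m)
        = (n : Cfsg.Sz F m) * ((n : Cfsg.Sz F m)⁻¹ * x * (n : Cfsg.Sz F m)) := by group
    rw [← mul_smul, e, mul_smul, hT _ hn]
  have hncard : (MulAction.orbit N α).ncard ≤ 2 := by
    by_contra hlt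
    push Not at hlt
    obtain ⟨a, b, c, ha, hb, hc, hab, hac, hbc⟩ := (Set.two_lt_ncard_iff (Set.toFinite _)).1 hlt
    rcases hfix x hx1 a b c (horb a ha) (horb b hb) (horb c hc) with h | h | h
    · exact hab h
    · exact hac h
    · exact hbc h
  have hidx := MulAction.index_stabilizer N α
  have hmul := Subgroup.card_mul_index (MulAction.stabilizer N α)
  have hoddS : ¬ 2 ∣ Nat.card (MulAction.stabilizer N α) := by
    intro h2
    haveI : Fact (Nat.Prime 2) := ⟨Nat.prime_two⟩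
    obtain ⟨s, hs⟩ := exists_prime_orderOf_dvd_card' 2 h2
    have hs2 : s ^ 2 = 1 := by rw [← hs]; exact pow_orderOf_eq_one s
    have hmul1 : ((s : N) : Cfsg.Sz F m) * ((s : N) : Cfsg.Sz F m) = 1 := by
      have := congrArg (fun z : MulAction.stabilizer N α => ((z : N) : Cfsg.Sz F m)) hs2
      simpa [pow_two] using this
    have hfixα : ((s : N) : Cfsg.Sz F m) • α = α := s.2
    have h1 := hodd α _ hfixα hmul1
    have hs1 : s = 1 := Subtype.ext (Subtype.ext h1)
    rw [hs1, orderOf_one] at hs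
    norm_num at hs
  have hdvd : Nat.card (MulAction.stabilizer N α) ∣ 4 * Nat.card (torus g) := by
    rw [← hN]
    exact Subgroup.card_subgroup_dvd_card _
  have hcop : Nat.Coprime (Nat.card (MulAction.stabilizer N α)) 4 := coprime_four_of_odd hoddS
  have hdvd' := hcop.dvd_of_dvd_mul_left hdvd
  have hle := Nat.le_of_dvd Nat.card_pos hdvd'
  rw [hidx, hN] at hmul
  have hTpos : 0 < Nat.card (torus g) := Nat.card_pos
  nlinarith

theorem no_fpf [Finite Ω] (hm : 1 ≤ m) (hF : Fintype.card F = 2 ^ (2 * m + 1))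
    (hfix : ∀ g : Cfsg.Sz F m, g ≠ 1 → ∀ a b c : Ω, g • a = a → g • b = b → g • c = c →
      a = b ∨ a = c ∨ b = c)
    (hodd : ∀ (β : Ω) (i : Cfsg.Sz F m), i • β = β → i * i = 1 → i = 1)
    {x : Cfsg.Sz F m} (hx1 : x ≠ 1) {α : Ω} (hx : x • α = α) : ¬ Fpf x := by
  intro hxf
  obtain ⟨g₁, g₂, hg₁, hg₂, -, -, hn₁, hn₂, hall⟩ := tori_classification hm hF
  have key : ∀ g : Cfsg.Sz F m, Fpf g →
      Nat.card (Subgroup.normalizer (torus g : Set (Cfsg.Sz F m))) = 4 * Nat.card (torus g) →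
      InY g x → False := by
    rintro g hg hN ⟨-, k, hk⟩
    have hx' : (k⁻¹ * x * k) • (k⁻¹ • α) = k⁻¹ • α := by
      rw [mul_smul, smul_inv_smul, mul_smul, hx]
    have hx'1 : k⁻¹ * x * k ≠ 1 := by
      intro h
      apply hx1
      have e : x = k * (k⁻¹ * x * k) * k⁻¹ := by group
      rw [e, h]; group
    exact no_fpf_aux hm hF hfix hodd hg hN hk hx'1 hx'
  rcases hall x hxf with h | h
  · exact key g₁ hg₁ hn₁ h
  · exact key g₂ hg₂ hn₂ h

/-- in the odd case every non-identity element of a point stabiliser lies in a two-point stabiliser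
of the ovoid which is contained in the point stabiliser -/
theorem exists_twoPt [Finite Ω] (hm : 1 ≤ m) (hF : Fintype.card F = 2 ^ (2 * m + 1))
    (hfix : ∀ g : Cfsg.Sz F m, g ≠ 1 → ∀ a b c : Ω, g • a = a → g • b = b → g • c = c →
      a = b ∨ a = c ∨ b = c)
    (hodd : ∀ (β : Ω) (i : Cfsg.Sz F m), i • β = β → i * i = 1 → i = 1)
    {x : Cfsg.Sz F m} (hx1 : x ≠ 1) {α : Ω} (hx : x • α = α) :
    ∃ a b : Cfsg.suzukiOvoid F m, a ≠ b ∧ x ∈ twoPt a b ∧ ∀ t ∈ twoPt a b, t • α = α := by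
  classical
  have h2 : (2 : F) = 0 := two_eq_zero_of_card hF
  have hSdef : ∀ z, (sgHom F m h2) z = z ^ 2 ^ (m + 1) := fun z => sgHom_apply m h2 z
  have hS : ∀ z, (sgHom F m h2) ((sgHom F m h2) z) = z ^ 2 := fun z => sgHom_sgHom hF h2 z
  have hnf := no_fpf hm hF hfix hodd hx1 hx
  have hoddx : ¬ 2 ∣ orderOf x := odd_of_no_inv hodd hx
  obtain ⟨a, ha⟩ : ∃ a : Cfsg.suzukiOvoid F m, x • a = a := by
    by_contra hne
    apply hnf
    intro a ha
    exact hne ⟨a, ha⟩
  obtain ⟨b, hba, hb⟩ : ∃ b : Cfsg.suzukiOvoid F m, b ≠ a ∧ x • b = b := by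
    by_contra hne
    have huniq : ∀ b : Cfsg.suzukiOvoid F m, x • b = b → b = a := by
      intro b hb
      by_contra hba
      exact hne ⟨b, hba, hb⟩
    have h4 := Cfsg.Agent.Lib.Helper6_SzCent.pow_four_of_one_fixed hm hF h2 hS hSdef ha huniq
      (rfl : x * x = x * x)
    have hd : orderOf x ∣ 4 := orderOf_dvd_of_pow_eq_one h4
    have hcop : Nat.Coprime (orderOf x) 4 := coprime_four_of_odd hoddx
    have h1 : orderOf x = 1 := Nat.Coprime.eq_one_of_dvd hcop hd
    exact hx1 (orderOf_eq_one_iff.1 h1)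
  have hab : a ≠ b := Ne.symm hba
  have hxT : x ∈ twoPt a b := mem_twoPt.2 ⟨ha, hb⟩
  refine ⟨a, b, hab, hxT, ?_⟩
  intro t ht
  haveI := isCyclic_twoPt hm hF hab
  have hcomm : t * x = x * t := by
    have := IsCyclic.commGroup.mul_comm (⟨t, ht⟩ : twoPt a b) ⟨x, hxT⟩
    exact congrArg Subtype.val this
  have htodd : ¬ 2 ∣ orderOf t := by
    intro h
    have h1 : orderOf (⟨t, ht⟩ : twoPt a b) ∣ Nat.card (twoPt a b) := orderOf_dvd_natCard _
    rw [card_twoPt hm hF hab, Subgroup.orderOf_mk] at h1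
    have h3 : 2 ∣ 2 ^ (2 * m + 1) - 1 := h.trans h1
    have h4 : 2 ∣ 2 ^ (2 * m + 1) := dvd_pow_self 2 (by omega)
    have h5 : 1 ≤ 2 ^ (2 * m + 1) := Nat.one_le_two_pow
    omega
  exact odd_commute_fix hfix hx1 hx hcomm htodd

/-- in the odd case a non-trivial point stabiliser is a two-point stabiliser of the ovoid -/
theorem stab_eq_twoPt [Finite Ω] (hm : 1 ≤ m) (hF : Fintype.card F = 2 ^ (2 * m + 1))
    (hfix : ∀ g : Cfsg.Sz F m, g ≠ 1 → ∀ a b c : Ω, g • a = a → g • b = b → g • c = c →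
      a = b ∨ a = c ∨ b = c)
    (hodd : ∀ (β : Ω) (i : Cfsg.Sz F m), i • β = β → i * i = 1 → i = 1)
    {x : Cfsg.Sz F m} (hx1 : x ≠ 1) {α : Ω} (hx : x • α = α) :
    ∃ a b : Cfsg.suzukiOvoid F m, a ≠ b ∧ ∀ y : Cfsg.Sz F m, y • α = α ↔ y ∈ twoPt a b := by
  classical
  have h2 : (2 : F) = 0 := two_eq_zero_of_card hF
  have hSdef : ∀ z, (sgHom F m h2) z = z ^ 2 ^ (m + 1) := fun z => sgHom_apply m h2 z
  have hS : ∀ z, (sgHom F m h2) ((sgHom F m h2) z) = z ^ 2 := fun z => sgHom_sgHom hF h2 z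
  have hq8 : 8 ≤ 2 ^ (2 * m + 1) := two_le_q hm
  set X := MulAction.stabilizer (Cfsg.Sz F m) α with hX
  let 𝒯 : Set (Subgroup X) := {T' | ∃ a b : Cfsg.suzukiOvoid F m, a ≠ b ∧ twoPt a b ≤ X ∧
    T' = (twoPt a b).subgroupOf X}
  have hsc : ∀ T' ∈ 𝒯, Cfsg.Agent.Lib.Helper6_TICount.SelfCent T' := by
    rintro T' ⟨a, b, hab, hle, rfl⟩ t ht ht1
    rw [Subgroup.mem_subgroupOf] at ht
    have ht1' : (t : Cfsg.Sz F m) ≠ 1 := fun h => ht1 (Subtype.ext h)
    ext c
    rw [Cfsg.Agent.Lib.Helper6_TICount.mem_centralizer_singleton, Subgroup.mem_subgroupOf]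
    constructor
    · intro hc
      have hc' : (c : Cfsg.Sz F m) * (t : Cfsg.Sz F m) = (t : Cfsg.Sz F m) * (c : Cfsg.Sz F m) :=
        congrArg Subtype.val hc
      exact centralizer_le_twoPt hm hF hab ht ht1' hc'
    · intro hc
      haveI := isCyclic_twoPt hm hF hab
      have := IsCyclic.commGroup.mul_comm (⟨(c : Cfsg.Sz F m), hc⟩ : twoPt a b) ⟨t, ht⟩
      have h' : (c : Cfsg.Sz F m) * (t : Cfsg.Sz F m) = (t : Cfsg.Sz F m) * (c : Cfsg.Sz F m) :=
        congrArg Subtype.val this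
      exact Subtype.ext h'
  have hnorm : ∀ T' ∈ 𝒯, Nat.card (Subgroup.normalizer (T' : Set X)) = Nat.card T' := by
    rintro T' ⟨a, b, hab, hle, rfl⟩
    have heq : Subgroup.normalizer (((twoPt a b).subgroupOf X : Subgroup X) : Set X)
        = (twoPt a b).subgroupOf X := by
      apply le_antisymm _ Subgroup.le_normalizer
      intro n hn
      rw [Subgroup.mem_subgroupOf]
      -- a non-identity element of the torus
      have hcard := card_twoPt hm hF hab
      have hne : twoPt a b ≠ ⊥ := by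
        intro h
        rw [h, Subgroup.card_bot] at hcard
        omega
      obtain ⟨⟨t, ht⟩, ht1⟩ := (Subgroup.ne_bot_iff_exists_ne_one).1 hne
      have ht1' : t ≠ 1 := fun h => ht1 (Subtype.ext h)
      obtain ⟨hta, htb⟩ := mem_twoPt.1 ht
      -- `n⁻¹ t n` lies in the torus
      have hconj : (n : Cfsg.Sz F m)⁻¹ * t * (n : Cfsg.Sz F m) ∈ twoPt a b := by
        have hn' := (Subgroup.mem_normalizer_iff.1
          ((Subgroup.normalizer (((twoPt a b).subgroupOf X : Subgroup X) : Set X)).inv_mem hn)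
          (⟨t, hle ht⟩ : X)).1 (by rw [Subgroup.mem_subgroupOf]; exact ht)
        rw [Subgroup.mem_subgroupOf] at hn'
        simpa using hn'
      obtain ⟨hca, hcb⟩ := mem_twoPt.1 hconj
      have hfixna : t • ((n : Cfsg.Sz F m) • a) = (n : Cfsg.Sz F m) • a := by
        have e : t * (n : Cfsg.Sz F m)
            = (n : Cfsg.Sz F m) * ((n : Cfsg.Sz F m)⁻¹ * t * (n : Cfsg.Sz F m)) := by group
        rw [← mul_smul, e, mul_smul, hca]
      have hfixnb : t • ((n : Cfsg.Sz F m) • b) = (n : Cfsg.Sz F m) • b := by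
        have e : t * (n : Cfsg.Sz F m)
            = (n : Cfsg.Sz F m) * ((n : Cfsg.Sz F m)⁻¹ * t * (n : Cfsg.Sz F m)) := by group
        rw [← mul_smul, e, mul_smul, hcb]
      have hmem : ∀ c : Cfsg.suzukiOvoid F m, t • c = c → c = a ∨ c = b := by
        intro c hc
        by_contra hcon
        push Not at hcon
        exact ht1' (three_pt_trivial hm hF h2 hS hSdef t hab (Ne.symm hcon.2) (Ne.symm hcon.1)
          hta htb hc)
      have hnodd : ¬ 2 ∣ orderOf (n : Cfsg.Sz F m) := odd_of_no_inv hodd n.2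
      have hnab : (n : Cfsg.Sz F m) • a ≠ (n : Cfsg.Sz F m) • b := fun h => hab (smul_left_cancel _ h)
      rcases hmem _ hfixna with h1 | h1
      · rcases hmem _ hfixnb with h3 | h3
        · exact absurd (h1.trans h3.symm) hnab
        · exact mem_twoPt.2 ⟨h1, h3⟩
      · rcases hmem _ hfixnb with h3 | h3
        · exfalso
          have h4 : (n : Cfsg.Sz F m) • ((n : Cfsg.Sz F m) • a) = a := by rw [h1, h3]
          have h5 := smul_eq_of_sq_smul_eq hnodd h4
          exact hab (h5.symm.trans h1)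
        · exact absurd (h1.trans h3.symm) hnab
    rw [heq]
  have hcard3 : ∀ T' ∈ 𝒯, 3 ≤ Nat.card T' := by
    rintro T' ⟨a, b, hab, hle, rfl⟩
    rw [Nat.card_congr (Subgroup.subgroupOfEquivOfLe hle).toEquiv, card_twoPt hm hF hab]
    omega
  have hcov : ∀ y : X, y ≠ 1 → ∃ T' ∈ 𝒯, y ∈ T' := by
    intro y hy1
    have hy1' : (y : Cfsg.Sz F m) ≠ 1 := fun h => hy1 (Subtype.ext h)
    obtain ⟨a, b, hab, hyT, hall⟩ := exists_twoPt hm hF hfix hodd hy1' y.2
    exact ⟨(twoPt a b).subgroupOf X, ⟨a, b, hab, fun t ht => hall t ht, rfl⟩,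
      by rw [Subgroup.mem_subgroupOf]; exact hyT⟩
  obtain ⟨a, b, hab, hxT, hall⟩ := exists_twoPt hm hF hfix hodd hx1 hx
  have hle : twoPt a b ≤ X := fun t ht => hall t ht
  have hTmem : (twoPt a b).subgroupOf X ∈ 𝒯 := ⟨a, b, hab, hle, rfl⟩
  have htop := Cfsg.Agent.Lib.Helper6_PartCount.eq_top_of_partition 𝒯 hsc hnorm hcard3 hcov hTmem
  rw [Subgroup.subgroupOf_eq_top] at htop
  refine ⟨a, b, hab, fun y => ⟨fun hy => htop hy, fun hy => hall y hy⟩⟩

end Odd

section Main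

open Cfsg.Agent.Lib.Helper6_SzPartition

variable {F : Type*} [Field F] [Fintype F] {S : F →+* F} {m : ℕ}

theorem ovoid_transitive (h2 : (2 : F) = 0) (hS : ∀ z, S (S z) = z ^ 2)
    (hSdef : ∀ z, S z = z ^ 2 ^ (m + 1)) (p q : Cfsg.suzukiOvoid F m) :
    ∃ g : Cfsg.Sz F m, g • p = q := by
  have key : ∀ p : Cfsg.suzukiOvoid F m, ∃ g : Cfsg.Sz F m, g • p = ptInf F m := by
    intro p
    by_cases hp : p = ptInf F m
    · exact ⟨1, by rw [one_smul, hp]⟩
    · obtain ⟨g, hg, -⟩ := exists_smul_pair h2 hS hSdef hp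
      exact ⟨g, hg⟩
  obtain ⟨g₁, hg₁⟩ := key p
  obtain ⟨g₂, hg₂⟩ := key q
  refine ⟨g₂⁻¹ * g₁, ?_⟩
  rw [mul_smul, hg₁, ← hg₂, inv_smul_smul]

theorem stab_inf_transitive (h2 : (2 : F) = 0) (hS : ∀ z, S (S z) = z ^ 2)
    (hSdef : ∀ z, S z = z ^ 2 ^ (m + 1)) {p q : Cfsg.suzukiOvoid F m} (hp : p ≠ ptInf F m)
    (hq : q ≠ ptInf F m) :
    ∃ g : Cfsg.Sz F m, g • ptInf F m = ptInf F m ∧ g • p = q := by
  obtain ⟨g₁, hg₁, hg₁'⟩ := exists_smul_pair h2 hS hSdef (Ne.symm hp)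
  obtain ⟨g₂, hg₂, hg₂'⟩ := exists_smul_pair h2 hS hSdef (Ne.symm hq)
  refine ⟨g₂⁻¹ * g₁, ?_, ?_⟩
  · rw [mul_smul, hg₁, inv_smul_eq_iff, hg₂]
  · rw [mul_smul, hg₁', ← hg₂', inv_smul_smul]

variable {Ω : Type*} [MulAction (Cfsg.Sz F m) Ω]

/-- the main theorem, for the Suzuki group itself, in elementary form -/
theorem main [Finite Ω] (hm : 1 ≤ m) (hF : Fintype.card F = 2 ^ (2 * m + 1))
    (htr : ∀ a b : Ω, ∃ g : Cfsg.Sz F m, g • a = b)
    (hfix : ∀ g : Cfsg.Sz F m, g ≠ 1 → ∀ a b c : Ω, g • a = a → g • b = b → g • c = c →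
      a = b ∨ a = c ∨ b = c)
    (hex : ∃ g : Cfsg.Sz F m, g ≠ 1 ∧ ∃ a b : Ω, a ≠ b ∧ g • a = a ∧ g • b = b) :
    (Nat.card Ω = (2 ^ (2 * m + 1)) ^ 2 + 1 ∧
      ∀ a b c d : Ω, a ≠ b → c ≠ d → ∃ g : Cfsg.Sz F m, g • a = c ∧ g • b = d) ∨
    (Nat.card Ω = (2 ^ (2 * m + 1)) ^ 2 * ((2 ^ (2 * m + 1)) ^ 2 + 1) ∧
      ∀ α : Ω, Nat.card (MulAction.stabilizer (Cfsg.Sz F m) α) = 2 ^ (2 * m + 1) - 1) := by
  classical
  have h2 : (2 : F) = 0 := two_eq_zero_of_card hF
  have hSdef : ∀ z, (sgHom F m h2) z = z ^ 2 ^ (m + 1) := fun z => sgHom_apply m h2 z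
  have hS : ∀ z, (sgHom F m h2) ((sgHom F m h2) z) = z ^ 2 := fun z => sgHom_sgHom hF h2 z
  have hq8 : 8 ≤ 2 ^ (2 * m + 1) := Cfsg.Agent.Lib.Helper6_SzToriCount.two_le_q hm
  obtain ⟨g₀, hg₀1, α₀, β₀, hαβ, hgα, hgβ⟩ := hex
  haveI : MulAction.IsPretransitive (Cfsg.Sz F m) Ω := ⟨htr⟩
  haveI : MulAction.IsPretransitive (Cfsg.Sz F m) (Cfsg.suzukiOvoid F m) :=
    ⟨ovoid_transitive h2 hS hSdef⟩
  have hidx : ∀ α : Ω, Nat.card (MulAction.stabilizer (Cfsg.Sz F m) α) * Nat.card Ω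
      = Nat.card (Cfsg.Sz F m) := by
    intro α
    rw [← MulAction.index_stabilizer_of_transitive (Cfsg.Sz F m) α]
    exact Subgroup.card_mul_index _
  by_cases hinv : ∃ (β : Ω) (i : Cfsg.Sz F m), i • β = β ∧ i * i = 1 ∧ i ≠ 1
  · -- the even case
    obtain ⟨β, i, hiβ, hii, hi1⟩ := hinv
    obtain ⟨k, b, hib⟩ := involution_conj hm hF h2 hS hSdef hii
    have hb : b ≠ 0 := by
      rintro rfl
      apply hi1
      rw [hib, uQ_zero]; group
    set α := k⁻¹ • β with hαdef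
    have hα : uQ (m := m) h2 hS hSdef 0 b • α = α := by
      have e : uQ (m := m) h2 hS hSdef 0 b = k⁻¹ * i * k := by rw [hib]; group
      rw [e, mul_smul, mul_smul, hαdef, smul_inv_smul, hiβ]
    have hB := even_case hm hF h2 hS hSdef hfix hb hα
    have hQle : Qsub h2 hS m ≤ MulAction.stabilizer (Cfsg.Sz F m) α := by
      intro q hq
      obtain ⟨a, c, rfl⟩ := exists_of_mem_Qsub h2 hS hSdef hq
      exact hB _ (uQ_smul_ptInf h2 hS hSdef a c)
    rcases overgroup_Q hm hF h2 hS hSdef (MulAction.stabilizer (Cfsg.Sz F m) α) hQle with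
      hfixinf | htop
    · have hstab : MulAction.stabilizer (Cfsg.Sz F m) α
          = MulAction.stabilizer (Cfsg.Sz F m) (ptInf F m) := by
        ext g
        rw [MulAction.mem_stabilizer_iff, MulAction.mem_stabilizer_iff]
        exact ⟨fun h => hfixinf g h, fun h => hB g h⟩
      left
      constructor
      · have h1 := MulAction.index_stabilizer_of_transitive (Cfsg.Sz F m) α
        have h3 := MulAction.index_stabilizer_of_transitive (Cfsg.Sz F m) (ptInf F m)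
        rw [hstab] at h1
        rw [← h1, h3, Cfsg.Agent.S0326.result, hF]
      · intro a b c d hab hcd
        obtain ⟨g₁, hg₁⟩ := htr α a
        obtain ⟨g₂, hg₂⟩ := htr α c
        obtain ⟨k₁, hk₁⟩ := htr α (g₁⁻¹ • b)
        obtain ⟨k₂, hk₂⟩ := htr α (g₂⁻¹ • d)
        have hk₁inf : k₁ • ptInf F m ≠ ptInf F m := by
          intro h
          have h' := hB k₁ h
          rw [h'] at hk₁
          apply hab
          rw [← hg₁, hk₁, smul_inv_smul]
        have hk₂inf : k₂ • ptInf F m ≠ ptInf F m := by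
          intro h
          have h' := hB k₂ h
          rw [h'] at hk₂
          apply hcd
          rw [← hg₂, hk₂, smul_inv_smul]
        obtain ⟨x, hxinf, hx⟩ := stab_inf_transitive h2 hS hSdef hk₁inf hk₂inf
        have hxα : x • α = α := hB x hxinf
        have h3 : (k₂⁻¹ * x * k₁) • α = α := by
          apply hB
          rw [mul_smul, mul_smul, hx, inv_smul_smul]
        have h4 : x • (k₁ • α) = k₂ • α := by
          rw [mul_smul, mul_smul, inv_smul_eq_iff] at h3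
          exact h3
        refine ⟨g₂ * x * g₁⁻¹, ?_, ?_⟩
        · rw [mul_smul, mul_smul, ← hg₁, inv_smul_smul, hxα, hg₂]
        · have hb' : g₁⁻¹ • b = k₁ • α := hk₁.symm
          rw [mul_smul, mul_smul, hb', h4, hk₂, smul_inv_smul]
    · exfalso
      obtain ⟨g₁, hg₁⟩ := htr α α₀
      obtain ⟨g₂, hg₂⟩ := htr α β₀
      have e1 : g₁ • α = α := by
        have : g₁ ∈ MulAction.stabilizer (Cfsg.Sz F m) α := by rw [htop]; exact Subgroup.mem_top _
        exact this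
      have e2 : g₂ • α = α := by
        have : g₂ ∈ MulAction.stabilizer (Cfsg.Sz F m) α := by rw [htop]; exact Subgroup.mem_top _
        exact this
      exact hαβ (by rw [← hg₁, ← hg₂, e1, e2])
  · -- the odd case
    have hodd : ∀ (β : Ω) (i : Cfsg.Sz F m), i • β = β → i * i = 1 → i = 1 := by
      intro β i h1 h3
      by_contra h
      exact hinv ⟨β, i, h1, h3, h⟩
    obtain ⟨a, b, hab, hstab⟩ := stab_eq_twoPt hm hF hfix hodd hg₀1 hgα
    right
    have hX : MulAction.stabilizer (Cfsg.Sz F m) α₀ = twoPt a b := by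
      ext y
      rw [MulAction.mem_stabilizer_iff]
      exact hstab y
    have hcardX : Nat.card (MulAction.stabilizer (Cfsg.Sz F m) α₀) = 2 ^ (2 * m + 1) - 1 := by
      rw [hX, card_twoPt hm hF hab]
    have hpos : 0 < 2 ^ (2 * m + 1) - 1 := by omega
    have hΩ : Nat.card Ω = (2 ^ (2 * m + 1)) ^ 2 * ((2 ^ (2 * m + 1)) ^ 2 + 1) := by
      have := hidx α₀
      rw [hcardX, Cfsg.Agent.S0324.result hm hF] at this
      apply Nat.eq_of_mul_eq_mul_left hpos
      rw [this]; ring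
    refine ⟨hΩ, fun α => ?_⟩
    have := hidx α
    rw [hΩ, Cfsg.Agent.S0324.result hm hF] at this
    have hpos2 : 0 < (2 ^ (2 * m + 1)) ^ 2 * ((2 ^ (2 * m + 1)) ^ 2 + 1) := by positivity
    apply Nat.eq_of_mul_eq_mul_right hpos2
    rw [this, mul_comm]

end Main

end Cfsg.Agent.Lib.Helper6_SzFixity
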