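import Cfsg.Agent.Lib.Helper37_SzCharDefs
import Cfsg.Agent.Lib.Helper6_SzSubNorm
import Cfsg.Agent.Lib.Helper6_SzFixity

/-!
# The concrete Suzuki data, part A: the Sylow 2-subgroup `Q`, its centre and its normaliser (helper37)
-/

set_option autoImplicit false
set_option linter.unusedSectionVars false
set_option linter.unusedVariables false

namespace Cfsg.Agent.Helper37SzChar

open Cfsg Cfsg.Agent.Helper37Sz
open Cfsg.Agent.Lib.Helper6_SzCent (stab_inf uQ_fix uQ_hQ_smul_ptInf uQ_hQ_smul_ptAff)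
open Cfsg.Agent.Lib.Helper6_SzFixity (uQ_congr uQ_zero_comm)

section A

variable {F : Type*} [Field F] [Fintype F] {S : F →+* F} {m : ℕ}

theorem mem_Qsub_iff_uQ (h2 : (2 : F) = 0) (hS : ∀ z, S (S z) = z ^ 2)
    (hSdef : ∀ z, S z = z ^ 2 ^ (m + 1)) (g : Cfsg.Sz F m) :
    g ∈ Qsub h2 hS m ↔ ∃ a b : F, g = uQ h2 hS hSdef a b := by
  rw [mem_Qsub]
  constructor
  · rintro ⟨a, b, h⟩
    exact ⟨a, b, Subtype.ext h⟩
  · rintro ⟨a, b, rfl⟩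
    exact ⟨a, b, rfl⟩

theorem uQ_mem_Qsub (h2 : (2 : F) = 0) (hS : ∀ z, S (S z) = z ^ 2)
    (hSdef : ∀ z, S z = z ^ 2 ^ (m + 1)) (a b : F) :
    uQ (m := m) h2 hS hSdef a b ∈ Qsub h2 hS m := ⟨a, b, rfl⟩

theorem uQ_eq_one_iff (h2 : (2 : F) = 0) (hS : ∀ z, S (S z) = z ^ 2)
    (hSdef : ∀ z, S z = z ^ 2 ^ (m + 1)) (a b : F) :
    uQ (m := m) h2 hS hSdef a b = 1 ↔ a = 0 ∧ b = 0 := by
  constructor
  · intro h
    rw [← uQ_zero h2 hS hSdef] at h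
    exact uQ_inj h2 hS hSdef h
  · rintro ⟨rfl, rfl⟩
    exact uQ_zero h2 hS hSdef

theorem uQ_inv' (h2 : (2 : F) = 0) (hS : ∀ z, S (S z) = z ^ 2)
    (hSdef : ∀ z, S z = z ^ 2 ^ (m + 1)) (a b : F) :
    (uQ (m := m) h2 hS hSdef a b)⁻¹ = uQ h2 hS hSdef a (b + S a * a) :=
  Subtype.ext (uSL_inv h2 hS a b)

/-- the stabiliser of `∞` -/
theorem smul_ptInf_iff (hm : 1 ≤ m) (hF : Fintype.card F = 2 ^ (2 * m + 1)) (h2 : (2 : F) = 0)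
    (hS : ∀ z, S (S z) = z ^ 2) (hSdef : ∀ z, S z = z ^ 2 ^ (m + 1)) (g : Cfsg.Sz F m) :
    g • ptInf F m = ptInf F m ↔ ∃ (a b : F) (t : Fˣ), g = uQ h2 hS hSdef a b * hQ hS hSdef t := by
  constructor
  · exact stab_inf hm hF h2 hS hSdef
  · rintro ⟨a, b, t, rfl⟩
    exact uQ_hQ_smul_ptInf h2 hS hSdef a b t

/-- conjugation by the torus preserves `Q` -/
theorem hQ_conj_uQ (h2 : (2 : F) = 0) (hS : ∀ z, S (S z) = z ^ 2)
    (hSdef : ∀ z, S z = z ^ 2 ^ (m + 1)) (t : Fˣ) (a b : F) :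
    hQ hS hSdef t * uQ h2 hS hSdef a b * (hQ hS hSdef t)⁻¹
      = uQ (m := m) h2 hS hSdef ((t : F) ^ 2 * a) (S (t : F) ^ 2 * (t : F) ^ 2 * b) := by
  rw [hQ_mul_uQ, mul_inv_cancel_right]

/-- the stabiliser of `∞` conjugates `Q` into itself -/
theorem conj_mem_Qsub_of_fix (hm : 1 ≤ m) (hF : Fintype.card F = 2 ^ (2 * m + 1)) (h2 : (2 : F) = 0)
    (hS : ∀ z, S (S z) = z ^ 2) (hSdef : ∀ z, S z = z ^ 2 ^ (m + 1)) {g : Cfsg.Sz F m}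
    (hg : g • ptInf F m = ptInf F m) {x : Cfsg.Sz F m} (hx : x ∈ Qsub h2 hS m) :
    g * x * g⁻¹ ∈ Qsub h2 hS m := by
  obtain ⟨a, b, t, rfl⟩ := (smul_ptInf_iff hm hF h2 hS hSdef g).1 hg
  obtain ⟨c, d, rfl⟩ := (mem_Qsub_iff_uQ h2 hS hSdef x).1 hx
  have e : uQ h2 hS hSdef a b * hQ hS hSdef t * uQ h2 hS hSdef c d
      * (uQ h2 hS hSdef a b * hQ hS hSdef t)⁻¹
      = uQ h2 hS hSdef a b * (hQ hS hSdef t * uQ h2 hS hSdef c d * (hQ hS hSdef t)⁻¹)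
        * (uQ h2 hS hSdef a b)⁻¹ := by group
  rw [e, hQ_conj_uQ]
  exact (Qsub h2 hS m).mul_mem ((Qsub h2 hS m).mul_mem (uQ_mem_Qsub h2 hS hSdef _ _)
    (uQ_mem_Qsub h2 hS hSdef _ _)) ((Qsub h2 hS m).inv_mem (uQ_mem_Qsub h2 hS hSdef _ _))

/-- a conjugate of a non-identity element of `Q` lying in `Q` forces the conjugating element to fix
`∞` -/
theorem fix_of_conj_mem_Qsub (h2 : (2 : F) = 0)
    (hS : ∀ z, S (S z) = z ^ 2) (hSdef : ∀ z, S z = z ^ 2 ^ (m + 1)) {g k : Cfsg.Sz F m}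
    (hk : k ∈ Qsub h2 hS m) (hk1 : k ≠ 1) (hgk : g * k * g⁻¹ ∈ Qsub h2 hS m) :
    g • ptInf F m = ptInf F m := by
  obtain ⟨c, d, rfl⟩ := (mem_Qsub_iff_uQ h2 hS hSdef k).1 hk
  obtain ⟨a, b, hab⟩ := (mem_Qsub_iff_uQ h2 hS hSdef _).1 hgk
  have hne : ¬ (a = 0 ∧ b = 0) := by
    intro h
    rw [← uQ_eq_one_iff h2 hS hSdef (m := m), ← hab] at h
    apply hk1
    have : uQ h2 hS hSdef c d = g⁻¹ * (g * uQ h2 hS hSdef c d * g⁻¹) * g := by group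
    rw [this, h]; group
  apply uQ_fix h2 hS hSdef hne
  rw [← hab, mul_smul, mul_smul, inv_smul_smul, uQ_smul_ptInf]

theorem mem_normalizer_Qsub_iff (hm : 1 ≤ m) (hF : Fintype.card F = 2 ^ (2 * m + 1))
    (h2 : (2 : F) = 0) (hS : ∀ z, S (S z) = z ^ 2) (hSdef : ∀ z, S z = z ^ 2 ^ (m + 1))
    (g : Cfsg.Sz F m) :
    g ∈ Subgroup.normalizer (Qsub h2 hS m : Set (Cfsg.Sz F m)) ↔ g • ptInf F m = ptInf F m := by
  constructor
  · intro hg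
    rw [Subgroup.mem_normalizer_iff] at hg
    have hk : uQ (m := m) h2 hS hSdef 1 0 ∈ Qsub h2 hS m := uQ_mem_Qsub h2 hS hSdef 1 0
    have hk1 : uQ (m := m) h2 hS hSdef 1 0 ≠ 1 := by
      rw [Ne, uQ_eq_one_iff]
      rintro ⟨h, -⟩
      exact one_ne_zero h
    exact fix_of_conj_mem_Qsub h2 hS hSdef hk hk1 ((hg _).1 hk)
  · intro hg
    rw [Subgroup.mem_normalizer_iff]
    intro x
    constructor
    · exact conj_mem_Qsub_of_fix hm hF h2 hS hSdef hg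
    · intro hx
      have hg' : g⁻¹ • ptInf F m = ptInf F m := by
        rw [inv_smul_eq_iff, hg]
      have := conj_mem_Qsub_of_fix hm hF h2 hS hSdef hg' hx
      have e : g⁻¹ * (g * x * g⁻¹) * g⁻¹⁻¹ = x := by group
      rwa [e] at this

theorem ti_Qsub (hm : 1 ≤ m) (hF : Fintype.card F = 2 ^ (2 * m + 1))
    (h2 : (2 : F) = 0) (hS : ∀ z, S (S z) = z ^ 2) (hSdef : ∀ z, S z = z ^ 2 ^ (m + 1))
    (g : Cfsg.Sz F m) (k : Cfsg.Sz F m) (hk : k ∈ Qsub h2 hS m) (hk1 : k ≠ 1)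
    (hgk : g * k * g⁻¹ ∈ Qsub h2 hS m) :
    g ∈ Subgroup.normalizer (Qsub h2 hS m : Set (Cfsg.Sz F m)) :=
  (mem_normalizer_Qsub_iff hm hF h2 hS hSdef g).2 (fix_of_conj_mem_Qsub h2 hS hSdef hk hk1 hgk)

theorem card_normalizer_Qsub (hm : 1 ≤ m) (hF : Fintype.card F = 2 ^ (2 * m + 1))
    (h2 : (2 : F) = 0) (hS : ∀ z, S (S z) = z ^ 2) (hSdef : ∀ z, S z = z ^ 2 ^ (m + 1)) :
    Nat.card (Subgroup.normalizer (Qsub h2 hS m : Set (Cfsg.Sz F m)))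
      = (2 ^ (2 * m + 1)) ^ 2 * (2 ^ (2 * m + 1) - 1) := by
  have hbij : Function.Bijective (fun x : F × F × Fˣ =>
      (⟨uQ h2 hS hSdef x.1 x.2.1 * hQ hS hSdef x.2.2,
        (mem_normalizer_Qsub_iff hm hF h2 hS hSdef _).2
          (uQ_hQ_smul_ptInf h2 hS hSdef _ _ _)⟩ :
        Subgroup.normalizer (Qsub h2 hS m : Set (Cfsg.Sz F m)))) := by
    constructor
    · rintro ⟨a, b, t⟩ ⟨a', b', t'⟩ h
      have h1 : uQ (m := m) h2 hS hSdef a b * hQ hS hSdef t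
          = uQ h2 hS hSdef a' b' * hQ hS hSdef t' := congrArg Subtype.val h
      have h3 : uSL S a b * hSL S t = uSL S a' b' * hSL S t' := congrArg Subtype.val h1
      obtain ⟨rfl, rfl, rfl⟩ := uh_injective h2 hS h3
      rfl
    · rintro ⟨g, hg⟩
      obtain ⟨a, b, t, rfl⟩ := (smul_ptInf_iff hm hF h2 hS hSdef g).1
        ((mem_normalizer_Qsub_iff hm hF h2 hS hSdef g).1 hg)
      exact ⟨(a, b, t), rfl⟩
  rw [← Nat.card_congr (Equiv.ofBijective _ hbij), Nat.card_prod, Nat.card_prod, Nat.card_units,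
    Nat.card_eq_fintype_card, hF]
  ring

/-! ### the centre of `Q` -/

/-- the centre `{u(0,b)}` of `Q` -/
def Zsub (h2 : (2 : F) = 0) (hS : ∀ z, S (S z) = z ^ 2) (hSdef : ∀ z, S z = z ^ 2 ^ (m + 1)) :
    Subgroup (Cfsg.Sz F m) where
  carrier := {g | ∃ b : F, g = uQ h2 hS hSdef 0 b}
  mul_mem' := by
    rintro g h ⟨b, rfl⟩ ⟨b', rfl⟩
    refine ⟨b + b', ?_⟩
    rw [uQ_mul]
    apply uQ_congr
    · ring
    · rw [map_zero]; ring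
  one_mem' := ⟨0, (uQ_zero h2 hS hSdef).symm⟩
  inv_mem' := by
    rintro g ⟨b, rfl⟩
    refine ⟨b, ?_⟩
    rw [uQ_inv']
    apply uQ_congr h2 hS hSdef rfl
    rw [map_zero]; ring

theorem mem_Zsub (h2 : (2 : F) = 0) (hS : ∀ z, S (S z) = z ^ 2)
    (hSdef : ∀ z, S z = z ^ 2 ^ (m + 1)) (g : Cfsg.Sz F m) :
    g ∈ Zsub h2 hS hSdef ↔ ∃ b : F, g = uQ h2 hS hSdef 0 b := Iff.rfl

theorem Zsub_le (h2 : (2 : F) = 0) (hS : ∀ z, S (S z) = z ^ 2)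
    (hSdef : ∀ z, S z = z ^ 2 ^ (m + 1)) : Zsub (m := m) h2 hS hSdef ≤ Qsub h2 hS m := by
  rintro g ⟨b, rfl⟩
  exact uQ_mem_Qsub h2 hS hSdef 0 b

theorem card_Zsub (h2 : (2 : F) = 0) (hS : ∀ z, S (S z) = z ^ 2)
    (hSdef : ∀ z, S z = z ^ 2 ^ (m + 1)) :
    Nat.card (Zsub (m := m) h2 hS hSdef) = Fintype.card F := by
  have hbij : Function.Bijective (fun b : F =>
      (⟨uQ h2 hS hSdef 0 b, ⟨b, rfl⟩⟩ : Zsub (m := m) h2 hS hSdef)) := by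
    constructor
    · intro b b' h
      exact (uQ_inj h2 hS hSdef (congrArg Subtype.val h)).2
    · rintro ⟨g, b, rfl⟩
      exact ⟨b, rfl⟩
  rw [← Nat.card_congr (Equiv.ofBijective _ hbij), Nat.card_eq_fintype_card]

theorem Zsub_central (h2 : (2 : F) = 0) (hS : ∀ z, S (S z) = z ^ 2)
    (hSdef : ∀ z, S z = z ^ 2 ^ (m + 1)) :
    ∀ z ∈ Zsub (m := m) h2 hS hSdef, ∀ x ∈ Qsub h2 hS m, z * x = x * z := by
  rintro z ⟨b, rfl⟩ x hx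
  obtain ⟨c, d, rfl⟩ := (mem_Qsub_iff_uQ h2 hS hSdef x).1 hx
  exact uQ_zero_comm h2 hS hSdef b c d

theorem Zsub_norm (hm : 1 ≤ m) (hF : Fintype.card F = 2 ^ (2 * m + 1))
    (h2 : (2 : F) = 0) (hS : ∀ z, S (S z) = z ^ 2) (hSdef : ∀ z, S z = z ^ 2 ^ (m + 1)) :
    ∀ n ∈ Subgroup.normalizer (Qsub h2 hS m : Set (Cfsg.Sz F m)),
      ∀ z ∈ Zsub (m := m) h2 hS hSdef, n * z * n⁻¹ ∈ Zsub h2 hS hSdef := by
  rintro n hn z ⟨d, rfl⟩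
  obtain ⟨a, b, t, rfl⟩ := (smul_ptInf_iff hm hF h2 hS hSdef n).1
    ((mem_normalizer_Qsub_iff hm hF h2 hS hSdef n).1 hn)
  have e : uQ h2 hS hSdef a b * hQ hS hSdef t * uQ h2 hS hSdef 0 d
      * (uQ h2 hS hSdef a b * hQ hS hSdef t)⁻¹
      = uQ h2 hS hSdef a b * (hQ hS hSdef t * uQ h2 hS hSdef 0 d * (hQ hS hSdef t)⁻¹)
        * (uQ h2 hS hSdef a b)⁻¹ := by group
  rw [e, hQ_conj_uQ, mul_zero, ← uQ_zero_comm, mul_inv_cancel_right]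
  exact ⟨_, rfl⟩

end A

end Cfsg.Agent.Helper37SzChar
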