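import Cfsg.Agent.Lib.Helper37_SzCharDataA

/-!
# The concrete Suzuki data, part B: the split torus `H` and its normaliser (helper37)
-/

set_option autoImplicit false
set_option linter.unusedSectionVars false
set_option linter.unusedVariables false

namespace Cfsg.Agent.Helper37SzChar

open Cfsg Cfsg.Agent.Helper37Sz
open Cfsg.Agent.Lib.Helper6_SzCent (stab_inf uQ_fix uQ_hQ_smul_ptInf uQ_hQ_smul_ptAff
  eq_hQ_of_commute hQ_comm hQ_injective wQ_mul_hQ_mul_wQ wQ_mul_self)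
open Cfsg.Agent.Lib.Helper6_SzSubNorm (hQHom hQ_fixed)

section B

variable {F : Type*} [Field F] [Fintype F] {S : F →+* F} {m : ℕ}

/-- the split torus -/
def Hsub (hS : ∀ z, S (S z) = z ^ 2) (hSdef : ∀ z, S z = z ^ 2 ^ (m + 1)) :
    Subgroup (Cfsg.Sz F m) := (hQHom hS hSdef).range

theorem mem_Hsub (hS : ∀ z, S (S z) = z ^ 2) (hSdef : ∀ z, S z = z ^ 2 ^ (m + 1))
    (g : Cfsg.Sz F m) : g ∈ Hsub hS hSdef ↔ ∃ t : Fˣ, g = hQ hS hSdef t := by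
  unfold Hsub
  rw [MonoidHom.mem_range]
  constructor
  · rintro ⟨t, rfl⟩
    exact ⟨t, rfl⟩
  · rintro ⟨t, rfl⟩
    exact ⟨t, rfl⟩

theorem hQ_mem_Hsub (hS : ∀ z, S (S z) = z ^ 2) (hSdef : ∀ z, S z = z ^ 2 ^ (m + 1)) (t : Fˣ) :
    hQ (m := m) hS hSdef t ∈ Hsub hS hSdef := (mem_Hsub hS hSdef _).2 ⟨t, rfl⟩

theorem card_Hsub (hF : Fintype.card F = 2 ^ (2 * m + 1))
    (hS : ∀ z, S (S z) = z ^ 2) (hSdef : ∀ z, S z = z ^ 2 ^ (m + 1)) :
    Nat.card (Hsub (m := m) hS hSdef) = 2 ^ (2 * m + 1) - 1 := by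
  unfold Hsub
  have hinj : Function.Injective (hQHom (m := m) hS hSdef) := hQ_injective hS hSdef
  rw [← Nat.card_congr (MonoidHom.ofInjective hinj).toEquiv, Nat.card_units,
    Nat.card_eq_fintype_card, hF]

theorem comm_Hsub (hS : ∀ z, S (S z) = z ^ 2) (hSdef : ∀ z, S z = z ^ 2 ^ (m + 1)) :
    ∀ a ∈ Hsub (m := m) hS hSdef, ∀ b ∈ Hsub (m := m) hS hSdef, a * b = b * a := by
  intro a ha b hb
  obtain ⟨t, rfl⟩ := (mem_Hsub hS hSdef a).1 ha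
  obtain ⟨s, rfl⟩ := (mem_Hsub hS hSdef b).1 hb
  exact hQ_comm hS hSdef t s

theorem hQ_eq_one_iff (hS : ∀ z, S (S z) = z ^ 2) (hSdef : ∀ z, S z = z ^ 2 ^ (m + 1)) (t : Fˣ) :
    hQ (m := m) hS hSdef t = 1 ↔ t = 1 := by
  constructor
  · intro h
    rw [← hQ_one hS hSdef] at h
    exact hQ_injective hS hSdef h
  · rintro rfl
    exact hQ_one hS hSdef

theorem cent_Hsub (hm : 1 ≤ m) (hF : Fintype.card F = 2 ^ (2 * m + 1)) (h2 : (2 : F) = 0)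
    (hS : ∀ z, S (S z) = z ^ 2) (hSdef : ∀ z, S z = z ^ 2 ^ (m + 1)) :
    ∀ k ∈ Hsub (m := m) hS hSdef, k ≠ 1 → ∀ g : Cfsg.Sz F m, g * k = k * g →
      g ∈ Hsub hS hSdef := by
  intro k hk hk1 g hg
  obtain ⟨t, rfl⟩ := (mem_Hsub hS hSdef k).1 hk
  have ht : t ≠ 1 := fun h => hk1 ((hQ_eq_one_iff hS hSdef t).2 h)
  obtain ⟨s, rfl⟩ := eq_hQ_of_commute hm hF h2 hS hSdef ht hg
  exact hQ_mem_Hsub hS hSdef s

theorem hQ_smul_zero (hS : ∀ z, S (S z) = z ^ 2) (hSdef : ∀ z, S z = z ^ 2 ^ (m + 1)) (t : Fˣ) :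
    hQ hS hSdef t • ptAff (m := m) hSdef 0 0 = ptAff hSdef 0 0 := by
  rw [hQ_smul_ptAff, mul_zero, mul_zero]

/-- an element preserving the pair `{∞, 0}` lies in `H ∪ wH` -/
theorem mem_of_pair (hm : 1 ≤ m) (hF : Fintype.card F = 2 ^ (2 * m + 1)) (h2 : (2 : F) = 0)
    (hS : ∀ z, S (S z) = z ^ 2) (hSdef : ∀ z, S z = z ^ 2 ^ (m + 1)) {g : Cfsg.Sz F m}
    (h1 : g • ptInf F m = ptInf F m ∨ g • ptInf F m = ptAff hSdef 0 0)
    (h0 : g • ptAff hSdef 0 0 = ptInf F m ∨ g • ptAff hSdef 0 0 = ptAff hSdef 0 0) :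
    (∃ t : Fˣ, g = hQ hS hSdef t) ∨ (∃ t : Fˣ, g = wQ h2 hS hSdef * hQ hS hSdef t) := by
  have hne : g • ptInf F m ≠ g • ptAff hSdef 0 0 := fun h =>
    ptAff_ne_ptInf hSdef 0 0 (MulAction.injective g h).symm
  rcases h1 with h1 | h1
  · rcases h0 with h0 | h0
    · exact absurd (h1.trans h0.symm) hne
    · exact Or.inl (fix_two_eq_hQ hm hF h2 hS hSdef h1 h0)
  · rcases h0 with h0 | h0
    · right
      have e1 : (wQ h2 hS hSdef * g) • ptInf F m = ptInf F m := by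
        rw [mul_smul, h1, wQ_smul_ptAff_zero]
      have e0 : (wQ h2 hS hSdef * g) • ptAff hSdef 0 0 = ptAff hSdef 0 0 := by
        rw [mul_smul, h0, wQ_smul_ptInf]
      obtain ⟨s, hs⟩ := fix_two_eq_hQ hm hF h2 hS hSdef e1 e0
      refine ⟨s, ?_⟩
      rw [← hs, ← mul_assoc, wQ_mul_self, one_mul]
    · exact absurd (h1.trans h0.symm) hne

theorem wQ_inv (h2 : (2 : F) = 0) (hS : ∀ z, S (S z) = z ^ 2)
    (hSdef : ∀ z, S z = z ^ 2 ^ (m + 1)) :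
    (wQ (m := m) h2 hS hSdef)⁻¹ = wQ h2 hS hSdef :=
  inv_eq_of_mul_eq_one_left (wQ_mul_self h2 hS hSdef)

theorem wQ_mem_normalizer (h2 : (2 : F) = 0) (hS : ∀ z, S (S z) = z ^ 2)
    (hSdef : ∀ z, S z = z ^ 2 ^ (m + 1)) :
    wQ (m := m) h2 hS hSdef ∈ Subgroup.normalizer (Hsub (m := m) hS hSdef : Set (Cfsg.Sz F m)) := by
  have key : ∀ x ∈ Hsub (m := m) hS hSdef,
      wQ h2 hS hSdef * x * (wQ h2 hS hSdef)⁻¹ ∈ Hsub (m := m) hS hSdef := by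
    intro x hx
    obtain ⟨t, rfl⟩ := (mem_Hsub hS hSdef x).1 hx
    rw [wQ_inv, wQ_mul_hQ_mul_wQ]
    exact hQ_mem_Hsub hS hSdef _
  rw [Subgroup.mem_normalizer_iff]
  intro x
  refine ⟨key x, fun hx => ?_⟩
  have := key _ hx
  have e : wQ h2 hS hSdef * (wQ h2 hS hSdef * x * (wQ h2 hS hSdef)⁻¹) * (wQ h2 hS hSdef)⁻¹ = x := by
    rw [wQ_inv]
    have hw := wQ_mul_self (m := m) h2 hS hSdef
    calc wQ h2 hS hSdef * (wQ h2 hS hSdef * x * wQ h2 hS hSdef) * wQ h2 hS hSdef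
        = (wQ h2 hS hSdef * wQ h2 hS hSdef) * x * (wQ h2 hS hSdef * wQ h2 hS hSdef) := by group
      _ = x := by rw [hw, one_mul, mul_one]
  rwa [e] at this

theorem mem_normalizer_Hsub_of (h2 : (2 : F) = 0) (hS : ∀ z, S (S z) = z ^ 2)
    (hSdef : ∀ z, S z = z ^ 2 ^ (m + 1)) {g : Cfsg.Sz F m}
    (hg : (∃ t : Fˣ, g = hQ hS hSdef t) ∨ (∃ t : Fˣ, g = wQ h2 hS hSdef * hQ hS hSdef t)) :
    g ∈ Subgroup.normalizer (Hsub (m := m) hS hSdef : Set (Cfsg.Sz F m)) := by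
  rcases hg with ⟨t, rfl⟩ | ⟨t, rfl⟩
  · exact Subgroup.le_normalizer (hQ_mem_Hsub hS hSdef t)
  · exact Subgroup.mul_mem _ (wQ_mem_normalizer h2 hS hSdef)
      (Subgroup.le_normalizer (hQ_mem_Hsub hS hSdef t))

/-- a conjugate of a non-identity element of `H` lying in `H` forces the conjugating element into
`H ∪ wH` -/
theorem pair_of_conj_mem_Hsub (hm : 1 ≤ m) (hF : Fintype.card F = 2 ^ (2 * m + 1)) (h2 : (2 : F) = 0)
    (hS : ∀ z, S (S z) = z ^ 2) (hSdef : ∀ z, S z = z ^ 2 ^ (m + 1)) {g k : Cfsg.Sz F m}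
    (hk : k ∈ Hsub (m := m) hS hSdef) (hk1 : k ≠ 1) (hgk : g * k * g⁻¹ ∈ Hsub (m := m) hS hSdef) :
    (∃ t : Fˣ, g = hQ hS hSdef t) ∨ (∃ t : Fˣ, g = wQ h2 hS hSdef * hQ hS hSdef t) := by
  obtain ⟨t, rfl⟩ := (mem_Hsub hS hSdef k).1 hk
  obtain ⟨s, hs⟩ := (mem_Hsub hS hSdef _).1 hgk
  have hs1 : s ≠ 1 := by
    rintro rfl
    rw [hQ_one] at hs
    apply hk1
    have : hQ hS hSdef t = g⁻¹ * (g * hQ hS hSdef t * g⁻¹) * g := by group
    rw [this, hs]; group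
  have f1 : hQ hS hSdef s • (g • ptInf F m) = g • ptInf F m := by
    rw [← hs, mul_smul, mul_smul, inv_smul_smul, hQ_smul_ptInf]
  have f0 : hQ hS hSdef s • (g • ptAff hSdef 0 0) = g • ptAff hSdef 0 0 := by
    rw [← hs, mul_smul, mul_smul, inv_smul_smul, hQ_smul_zero]
  exact mem_of_pair hm hF h2 hS hSdef (hQ_fixed h2 hS hSdef hs1 _ f1) (hQ_fixed h2 hS hSdef hs1 _ f0)

theorem ti_Hsub (hm : 1 ≤ m) (hF : Fintype.card F = 2 ^ (2 * m + 1)) (h2 : (2 : F) = 0)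
    (hS : ∀ z, S (S z) = z ^ 2) (hSdef : ∀ z, S z = z ^ 2 ^ (m + 1))
    (g : Cfsg.Sz F m) (k : Cfsg.Sz F m) (hk : k ∈ Hsub (m := m) hS hSdef) (hk1 : k ≠ 1)
    (hgk : g * k * g⁻¹ ∈ Hsub (m := m) hS hSdef) :
    g ∈ Subgroup.normalizer (Hsub (m := m) hS hSdef : Set (Cfsg.Sz F m)) :=
  mem_normalizer_Hsub_of h2 hS hSdef (pair_of_conj_mem_Hsub hm hF h2 hS hSdef hk hk1 hgk)

theorem exists_unit_ne_one (hm : 1 ≤ m) (hF : Fintype.card F = 2 ^ (2 * m + 1)) :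
    ∃ t : Fˣ, t ≠ 1 := by
  have h8 : 8 ≤ 2 ^ (2 * m + 1) := by
    calc 8 = 2 ^ 3 := by norm_num
      _ ≤ 2 ^ (2 * m + 1) := Nat.pow_le_pow_right (by norm_num) (by omega)
  have hc : Nat.card Fˣ = 2 ^ (2 * m + 1) - 1 := by
    rw [Nat.card_units, Nat.card_eq_fintype_card, hF]
  have : 1 < Nat.card Fˣ := by omega
  haveI : Nontrivial Fˣ := Finite.one_lt_card_iff_nontrivial.1 this
  exact exists_ne 1

theorem mem_normalizer_Hsub_iff (hm : 1 ≤ m) (hF : Fintype.card F = 2 ^ (2 * m + 1))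
    (h2 : (2 : F) = 0) (hS : ∀ z, S (S z) = z ^ 2) (hSdef : ∀ z, S z = z ^ 2 ^ (m + 1))
    (g : Cfsg.Sz F m) :
    g ∈ Subgroup.normalizer (Hsub (m := m) hS hSdef : Set (Cfsg.Sz F m)) ↔
      ((∃ t : Fˣ, g = hQ hS hSdef t) ∨ (∃ t : Fˣ, g = wQ h2 hS hSdef * hQ hS hSdef t)) := by
  constructor
  · intro hg
    obtain ⟨t, ht⟩ := exists_unit_ne_one hm hF
    rw [Subgroup.mem_normalizer_iff] at hg
    have hk : hQ (m := m) hS hSdef t ∈ Hsub hS hSdef := hQ_mem_Hsub hS hSdef t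
    have hk1 : hQ (m := m) hS hSdef t ≠ 1 := fun h => ht ((hQ_eq_one_iff hS hSdef t).1 h)
    exact pair_of_conj_mem_Hsub hm hF h2 hS hSdef hk hk1 ((hg _).1 hk)
  · exact mem_normalizer_Hsub_of h2 hS hSdef

theorem card_normalizer_Hsub (hm : 1 ≤ m) (hF : Fintype.card F = 2 ^ (2 * m + 1))
    (h2 : (2 : F) = 0) (hS : ∀ z, S (S z) = z ^ 2) (hSdef : ∀ z, S z = z ^ 2 ^ (m + 1)) :
    Nat.card (Subgroup.normalizer (Hsub (m := m) hS hSdef : Set (Cfsg.Sz F m)))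
      = 2 * (2 ^ (2 * m + 1) - 1) := by
  have hbij : Function.Bijective (fun x : Fˣ ⊕ Fˣ =>
      (⟨Sum.elim (fun t => hQ hS hSdef t) (fun t => wQ h2 hS hSdef * hQ hS hSdef t) x, by
        apply mem_normalizer_Hsub_of h2 hS hSdef
        rcases x with t | t
        · exact Or.inl ⟨t, rfl⟩
        · exact Or.inr ⟨t, rfl⟩⟩ :
        Subgroup.normalizer (Hsub (m := m) hS hSdef : Set (Cfsg.Sz F m)))) := by
    constructor
    · rintro (t | t) (t' | t') h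
      · have h1 : hQ (m := m) hS hSdef t = hQ hS hSdef t' := congrArg Subtype.val h
        rw [hQ_injective hS hSdef h1]
      · exfalso
        have h1 : hQ (m := m) hS hSdef t = wQ h2 hS hSdef * hQ hS hSdef t' :=
          congrArg Subtype.val h
        have e := congrArg (fun x : Cfsg.Sz F m => x • ptInf F m) h1
        simp only [mul_smul, hQ_smul_ptInf, wQ_smul_ptInf] at e
        exact ptAff_ne_ptInf hSdef 0 0 e.symm
      · exfalso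
        have h1 : wQ h2 hS hSdef * hQ hS hSdef t = hQ (m := m) hS hSdef t' :=
          congrArg Subtype.val h
        have e := congrArg (fun x : Cfsg.Sz F m => x • ptInf F m) h1
        simp only [mul_smul, hQ_smul_ptInf, wQ_smul_ptInf] at e
        exact ptAff_ne_ptInf hSdef 0 0 e
      · have h1 : wQ h2 hS hSdef * hQ (m := m) hS hSdef t = wQ h2 hS hSdef * hQ hS hSdef t' :=
          congrArg Subtype.val h
        rw [hQ_injective hS hSdef (mul_left_cancel h1)]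
    · rintro ⟨g, hg⟩
      rcases (mem_normalizer_Hsub_iff hm hF h2 hS hSdef g).1 hg with ⟨t, rfl⟩ | ⟨t, rfl⟩
      · exact ⟨Sum.inl t, rfl⟩
      · exact ⟨Sum.inr t, rfl⟩
  rw [← Nat.card_congr (Equiv.ofBijective _ hbij), Nat.card_sum, Nat.card_units,
    Nat.card_eq_fintype_card, hF]
  ring

end B

end Cfsg.Agent.Helper37SzChar
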