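import Cfsg.Agent.Lib.Helper37_SzCharDataB
import Cfsg.Agent.Lib.Helper6_SzToriClass

/-!
# The concrete Suzuki data, part C: the non-split tori and the covering of the elementary
subgroups (helper37)
-/

set_option autoImplicit false
set_option linter.unusedSectionVars false
set_option linter.unusedVariables false

namespace Cfsg.Agent.Helper37SzChar

open Cfsg Cfsg.Agent.Helper37Sz
open Cfsg.Agent.Lib.Helper6_SzCent (stab_inf uQ_fix uQ_hQ_smul_ptInf uQ_hQ_smul_ptAff
  eq_hQ_of_commute hQ_comm hQ_injective wQ_mul_hQ_mul_wQ wQ_mul_self exists_fixed_aff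
  smul_fixed_of_commute)
open Cfsg.Agent.Lib.Helper6_SzTori Cfsg.Agent.Lib.Helper6_SzToriCount

section C

variable {F : Type*} [Field F] [Fintype F] {S : F →+* F} {m : ℕ}

theorem cent_torus (hm : 1 ≤ m) (hF : Fintype.card F = 2 ^ (2 * m + 1)) {g : Cfsg.Sz F m}
    (hg : Fpf g) : ∀ k ∈ torus g, k ≠ 1 → ∀ x : Cfsg.Sz F m, x * k = k * x → x ∈ torus g := by
  intro k hk hk1 x hx
  rw [← torus_eq hm hF hg hk hk1]
  exact mem_torus_iff.2 hx

theorem ti_torus (hm : 1 ≤ m) (hF : Fintype.card F = 2 ^ (2 * m + 1)) {g : Cfsg.Sz F m}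
    (hg : Fpf g) : ∀ x : Cfsg.Sz F m, ∀ k ∈ torus g, k ≠ 1 → x * k * x⁻¹ ∈ torus g →
      x ∈ Subgroup.normalizer (torus g : Set (Cfsg.Sz F m)) := by
  intro x k hk hk1 hxk
  have hk1' : x * k * x⁻¹ ≠ 1 := by
    intro h
    apply hk1
    have : k = x⁻¹ * (x * k * x⁻¹) * x := by group
    rw [this, h]; group
  have e1 := torus_eq hm hF hg hk hk1
  have e2 := torus_eq hm hF hg hxk hk1'
  rw [Subgroup.mem_normalizer_iff]
  intro h
  have e3 : x * h * x⁻¹ ∈ torus (x * k * x⁻¹) ↔ x⁻¹ * (x * h * x⁻¹) * x ∈ torus k :=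
    mem_torus_conj
  have e4 : x⁻¹ * (x * h * x⁻¹) * x = h := by group
  rw [e4, e1, e2] at e3
  exact e3.symm

/-- a nontrivial elementary group contains a nontrivial central element -/
theorem exists_central_of_isElementary {G : Type*} [Group G] [Finite G] (E : Subgroup G) (p : ℕ)
    (hp : p.Prime) (hE : IsElementary p E) :
    (∀ e ∈ E, e = 1) ∨ ∃ y ∈ E, y ≠ 1 ∧ ∀ e ∈ E, e * y = y * e := by
  obtain ⟨x, hxc, -, k, hk⟩ := hE
  by_cases hx1 : x = 1
  · subst hx1
    rw [Subgroup.zpowers_one_eq_bot, Subgroup.index_bot] at hk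
    haveI : Fact p.Prime := ⟨hp⟩
    have hpg : IsPGroup p E := IsPGroup.of_card hk
    by_cases hnt : Nontrivial E
    · right
      haveI := hnt
      haveI := hpg.center_nontrivial
      obtain ⟨y, hy⟩ := exists_ne (1 : Subgroup.center E)
      refine ⟨((y : E) : G), (y : E).2, ?_, ?_⟩
      · intro h
        apply hy
        apply Subtype.ext
        apply Subtype.ext
        exact h
      · intro e he
        have := Subgroup.mem_center_iff.1 y.2 ⟨e, he⟩
        exact congrArg Subtype.val this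
    · left
      rw [not_nontrivial_iff_subsingleton] at hnt
      intro e he
      have := Subsingleton.elim (⟨e, he⟩ : E) 1
      exact congrArg Subtype.val this
  · right
    refine ⟨(x : G), x.2, ?_, ?_⟩
    · intro h
      apply hx1
      exact Subtype.ext h
    · intro e he
      have := Subgroup.mem_center_iff.1 hxc ⟨e, he⟩
      exact congrArg Subtype.val this

theorem conj_ne_one {G : Type*} [Group G] {k y : G} (hy : y ≠ 1) : k * y * k⁻¹ ≠ 1 := by
  intro h
  apply hy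
  have : y = k⁻¹ * (k * y * k⁻¹) * k := by group
  rw [this, h]; group

theorem conj_comm {G : Type*} [Group G] {k e y : G} (h : e * y = y * e) :
    (k * e * k⁻¹) * (k * y * k⁻¹) = (k * y * k⁻¹) * (k * e * k⁻¹) := by
  have e1 : (k * e * k⁻¹) * (k * y * k⁻¹) = k * (e * y) * k⁻¹ := by group
  have e2 : (k * y * k⁻¹) * (k * e * k⁻¹) = k * (y * e) * k⁻¹ := by group
  rw [e1, e2, h]

/-- the centraliser of a non-identity element is conjugate into `Q`, `H` or one of the two tori -/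
theorem centralizer_cover (hm : 1 ≤ m) (hF : Fintype.card F = 2 ^ (2 * m + 1)) (h2 : (2 : F) = 0)
    (hS : ∀ z, S (S z) = z ^ 2) (hSdef : ∀ z, S z = z ^ 2 ^ (m + 1)) {g₁ g₂ : Cfsg.Sz F m}
    (hg₁ : Fpf g₁) (hg₂ : Fpf g₂) (hall : ∀ x : Cfsg.Sz F m, Fpf x → InY g₁ x ∨ InY g₂ x)
    {y : Cfsg.Sz F m} (hy : y ≠ 1) :
    ∃ k : Cfsg.Sz F m,
      (∀ e : Cfsg.Sz F m, e * y = y * e → k * e * k⁻¹ ∈ Qsub h2 hS m) ∨
      (∀ e : Cfsg.Sz F m, e * y = y * e → k * e * k⁻¹ ∈ Hsub (m := m) hS hSdef) ∨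
      (∀ e : Cfsg.Sz F m, e * y = y * e → k * e * k⁻¹ ∈ torus g₁) ∨
      (∀ e : Cfsg.Sz F m, e * y = y * e → k * e * k⁻¹ ∈ torus g₂) := by
  by_cases hfpf : Fpf y
  · -- no fixed point
    have key : ∀ g : Cfsg.Sz F m, Fpf g → InY g y → ∃ k : Cfsg.Sz F m,
        ∀ e : Cfsg.Sz F m, e * y = y * e → k * e * k⁻¹ ∈ torus g := by
      intro g hg hY
      obtain ⟨-, k, hk⟩ := hY
      refine ⟨k⁻¹, fun e he => ?_⟩
      have hy' : k⁻¹ * y * k⁻¹⁻¹ ≠ 1 := conj_ne_one hy
      have hk' : k⁻¹ * y * k⁻¹⁻¹ ∈ torus g := by rw [inv_inv]; exact hk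
      exact cent_torus hm hF hg _ hk' hy' _ (conj_comm he)
    rcases hall y hfpf with h | h
    · obtain ⟨k, hk⟩ := key g₁ hg₁ h
      exact ⟨k, Or.inr (Or.inr (Or.inl hk))⟩
    · obtain ⟨k, hk⟩ := key g₂ hg₂ h
      exact ⟨k, Or.inr (Or.inr (Or.inr hk))⟩
  · unfold Fpf at hfpf
    push Not at hfpf
    obtain ⟨a, ha⟩ := hfpf
    by_cases htwo : ∃ b, b ≠ a ∧ y • b = b
    · -- two fixed points
      obtain ⟨b, hba, hb⟩ := htwo
      obtain ⟨k, hka, hkb⟩ := exists_smul_pair h2 hS hSdef (Ne.symm hba)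
      have h1 : (k * y * k⁻¹) • ptInf F m = ptInf F m := by
        rw [← hka, ← mul_smul, inv_mul_cancel_right, mul_smul, ha]
      have h0 : (k * y * k⁻¹) • ptAff hSdef 0 0 = ptAff hSdef 0 0 := by
        rw [← hkb, ← mul_smul, inv_mul_cancel_right, mul_smul, hb]
      obtain ⟨t, ht⟩ := fix_two_eq_hQ hm hF h2 hS hSdef h1 h0
      refine ⟨k, Or.inr (Or.inl fun e he => ?_)⟩
      have hmem : k * y * k⁻¹ ∈ Hsub (m := m) hS hSdef := by
        rw [ht]; exact hQ_mem_Hsub hS hSdef t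
      exact cent_Hsub hm hF h2 hS hSdef _ hmem (conj_ne_one hy) _ (conj_comm he)
    · -- exactly one fixed point
      push Not at htwo
      obtain ⟨k, hka⟩ : ∃ k : Cfsg.Sz F m, k • a = ptInf F m := by
        by_cases h : a = ptInf F m
        · exact ⟨1, by rw [one_smul, h]⟩
        · obtain ⟨k, hk, -⟩ := exists_smul_pair h2 hS hSdef h
          exact ⟨k, hk⟩
      set y' := k * y * k⁻¹ with hy'
      have h1 : y' • ptInf F m = ptInf F m := by
        rw [hy', ← hka, ← mul_smul, inv_mul_cancel_right, mul_smul, ha]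
      have huniq : ∀ p, y' • p = p → p = ptInf F m := by
        intro p hp
        have : y • (k⁻¹ • p) = k⁻¹ • p := by
          have e : y = k⁻¹ * y' * k := by rw [hy']; group
          rw [e, mul_smul, mul_smul, smul_inv_smul, hp]
        have h3 : k⁻¹ • p = a := by
          by_contra hne
          exact htwo _ hne this
        rw [← hka, ← h3, smul_inv_smul]
      refine ⟨k, Or.inl fun e he => ?_⟩
      set e' := k * e * k⁻¹ with he'
      have hcomm : e' * y' = y' * e' := conj_comm he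
      have hc1 : e' • ptInf F m = ptInf F m := huniq _ (smul_fixed_of_commute hcomm h1)
      obtain ⟨a', b', t, het⟩ := stab_inf hm hF h2 hS hSdef hc1
      by_cases ht : t = 1
      · rw [het, ht, hQ_one, mul_one]
        exact uQ_mem_Qsub h2 hS hSdef a' b'
      · exfalso
        obtain ⟨x, z, hxz⟩ := exists_fixed_aff h2 hS hSdef a' b' ht
        rw [← het] at hxz
        have hr := smul_fixed_of_commute hcomm.symm hxz
        have hr1 : y' • ptAff hSdef x z ≠ ptInf F m := by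
          intro h
          rw [← h1] at h
          exact ptAff_ne_ptInf hSdef x z (MulAction.injective y' h)
        have hr2 : y' • ptAff hSdef x z ≠ ptAff hSdef x z := fun h =>
          ptAff_ne_ptInf hSdef x z (huniq _ h)
        have h5 : e' = 1 := three_pt_trivial hm hF h2 hS hSdef e'
          (ptAff_ne_ptInf hSdef x z).symm (Ne.symm hr2) (Ne.symm hr1) hc1 hxz hr
        rw [h5] at het
        have h6 : uSL S 0 0 * hSL S 1 = uSL S a' b' * hSL S t := by
          have h7 : ((1 : Cfsg.Sz F m) : Matrix.SpecialLinearGroup (Fin 4) F)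
              = uSL S a' b' * hSL S t := congrArg Subtype.val het
          rw [← h7, uSL_zero, hSL_one, one_mul]
          rfl
        exact ht (uh_injective h2 hS h6).2.2.symm

theorem cover_Sz (hm : 1 ≤ m) (hF : Fintype.card F = 2 ^ (2 * m + 1)) (h2 : (2 : F) = 0)
    (hS : ∀ z, S (S z) = z ^ 2) (hSdef : ∀ z, S z = z ^ 2 ^ (m + 1)) {g₁ g₂ : Cfsg.Sz F m}
    (hg₁ : Fpf g₁) (hg₂ : Fpf g₂) (hall : ∀ x : Cfsg.Sz F m, Fpf x → InY g₁ x ∨ InY g₂ x)
    (E : Subgroup (Cfsg.Sz F m)) (p : ℕ) (hp : p.Prime) (hE : IsElementary p E) :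
    ∃ g : Cfsg.Sz F m,
      (∀ e ∈ E, g * e * g⁻¹ ∈ Qsub h2 hS m) ∨ (∀ e ∈ E, g * e * g⁻¹ ∈ Hsub (m := m) hS hSdef) ∨
      (∀ e ∈ E, g * e * g⁻¹ ∈ torus g₁) ∨ (∀ e ∈ E, g * e * g⁻¹ ∈ torus g₂) := by
  rcases exists_central_of_isElementary E p hp hE with h | ⟨y, hyE, hy1, hy⟩
  · refine ⟨1, Or.inl fun e he => ?_⟩
    rw [h e he]
    simp only [mul_one, inv_one]
    exact (Qsub h2 hS m).one_mem
  · obtain ⟨k, hk⟩ := centralizer_cover hm hF h2 hS hSdef hg₁ hg₂ hall hy1
    refine ⟨k, ?_⟩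
    rcases hk with hk | hk | hk | hk
    · exact Or.inl fun e he => hk e (hy e he)
    · exact Or.inr (Or.inl fun e he => hk e (hy e he))
    · exact Or.inr (Or.inr (Or.inl fun e he => hk e (hy e he)))
    · exact Or.inr (Or.inr (Or.inr fun e he => hk e (hy e he)))

end C

end Cfsg.Agent.Helper37SzChar
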