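import Mathlib
import Cfsg.Agent.Lib.Helper37_SzAutA

/-!
# Field lemmas for the class-square covering theorem in the Suzuki groups (helper37)

`F` a finite field of characteristic two, `S` an endomorphism with `S ∘ S` the squaring map,
`K₀ = {S t + t}` the trace-zero hyperplane.
* `mul_K0_stab` : only `c = 1` (and `0`) maps `K₀` into itself;
* `lemmaQ` : for `ε ≠ 0` there is `β ≠ 0` with `ε * (S β * β ^ 2) + β ∉ K₀`;
* `exists_semilinear` : `S d + c * d` takes every value `c ^ 2 * S c * k`, `k ∈ K₀`.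
-/

set_option autoImplicit false
set_option linter.unusedSectionVars false

namespace Cfsg.Agent.Helper37SzCov

open Cfsg.Agent.Helper37SzAut

variable {F : Type*} [Field F] [Finite F] {S : F →+* F}

omit [Finite F] in
theorem S_add_mem_K0 (x : F) : S x + x ∈ K0 S := ⟨x, rfl⟩

omit [Finite F] in
theorem one_not_mem_K0 (h2 : (2 : F) = 0) (hS : ∀ z, S (S z) = z ^ 2) : (1 : F) ∉ K0 S := by
  rintro ⟨z, hz⟩
  rw [trMap_apply] at hz
  have h1 : z ^ 2 + S z = 1 := by
    have := congrArg S hz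
    rw [map_add, hS, map_one] at this
    exact this
  have h3 : z * (z - 1) = 0 := by linear_combination h1 - hz
  rcases mul_eq_zero.1 h3 with h | h
  · rw [h, map_zero, add_zero] at hz
    exact zero_ne_one hz
  · have hz1 : z = 1 := by linear_combination h
    rw [hz1, map_one] at hz
    have := add_self_zero h2 (1 : F)
    rw [this] at hz
    exact zero_ne_one hz

omit [Finite F] in
theorem sq_add_mem_K0 (h2 : (2 : F) = 0) (hS : ∀ z, S (S z) = z ^ 2) (x : F) :
    x ^ 2 + x ∈ K0 S := by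
  have h1 : S (S x) + S x ∈ K0 S := S_add_mem_K0 (S x)
  have h3 := (K0 S).add_mem h1 (S_add_mem_K0 (S := S) x)
  rw [hS] at h3
  have e : x ^ 2 + S x + (S x + x) = x ^ 2 + x := by
    have := add_self_zero h2 (S x)
    linear_combination this
  rwa [e] at h3

/-- `x ≡ x ^ 2` modulo `K₀` -/
theorem sq_mem_K0_iff (h2 : (2 : F) = 0) (hS : ∀ z, S (S z) = z ^ 2) (x : F) :
    x ^ 2 ∈ K0 S ↔ x ∈ K0 S :=
  (add_mem_K0_iff h2 hS (x ^ 2) x).1 (sq_add_mem_K0 h2 hS x)

/-- `x ≡ S x` modulo `K₀` -/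
theorem S_mem_K0_iff (h2 : (2 : F) = 0) (hS : ∀ z, S (S z) = z ^ 2) (x : F) :
    S x ∈ K0 S ↔ x ∈ K0 S :=
  (add_mem_K0_iff h2 hS (S x) x).1 (S_add_mem_K0 x)

/-- every element of the nontrivial coset of `K₀` is `1 + k + S k` with `k ∈ K₀` -/
theorem exists_norm_form (h2 : (2 : F) = 0) (hS : ∀ z, S (S z) = z ^ 2) {n : F}
    (hn : n ∉ K0 S) : ∃ k ∈ K0 S, n = 1 + k + S k := by
  have h1 : n + 1 ∈ K0 S := by
    rw [add_mem_K0_iff h2 hS]
    exact ⟨fun h => absurd h hn, fun h => absurd h (one_not_mem_K0 h2 hS)⟩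
  obtain ⟨k0, hk0⟩ := h1
  rw [trMap_apply] at hk0
  have h11 := add_self_zero h2 (1 : F)
  by_cases hk : k0 ∈ K0 S
  · exact ⟨k0, hk, by linear_combination -hk0 - h11⟩
  · refine ⟨k0 + 1, ?_, ?_⟩
    · rw [add_mem_K0_iff h2 hS]
      exact ⟨fun h => absurd h hk, fun h => absurd h (one_not_mem_K0 h2 hS)⟩
    · rw [map_add, map_one]
      linear_combination -hk0 - 2 * h11

/-- only `1` stabilises the hyperplane `K₀` -/
theorem mul_K0_stab (h2 : (2 : F) = 0) (hS : ∀ z, S (S z) = z ^ 2) {c : F} (hc : c ≠ 0)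
    (h : ∀ k ∈ K0 S, c * k ∈ K0 S) : c = 1 := by
  -- multiplication by `c` is a bijection of `K₀`
  let f : K0 S → K0 S := fun k => ⟨c * k, h k k.2⟩
  have hf : Function.Injective f := by
    intro k k' hkk
    have : c * (k : F) = c * (k' : F) := congrArg Subtype.val hkk
    exact Subtype.ext (mul_left_cancel₀ hc this)
  have hfs : Function.Surjective f := Finite.injective_iff_surjective.mp hf
  have hall : ∀ x : F, (1 + c) * x ∈ K0 S := by
    intro x
    have e : (1 + c) * x = x + c * x := by ring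
    rw [e, add_mem_K0_iff h2 hS]
    constructor
    · intro hx
      exact h x hx
    · intro hx
      obtain ⟨k, hk⟩ := hfs ⟨c * x, hx⟩
      have : c * (k : F) = c * x := congrArg Subtype.val hk
      rw [← mul_left_cancel₀ hc this]
      exact k.2
  by_contra hc1
  have h1c : (1 + c) ≠ 0 := by
    intro h0
    apply hc1
    have := add_self_zero h2 (1 : F)
    linear_combination h0 - this
  apply K0_ne_top h2 hS (S := S)
  rw [eq_top_iff]
  intro y _
  have := hall ((1 + c)⁻¹ * y)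
  rwa [← mul_assoc, mul_inv_cancel₀ h1c, one_mul] at this

/-- the key existence lemma: the quadratic form `β ↦ ε β^{θ+2} + β` is not `K₀`-valued -/
theorem lemmaQ (h2 : (2 : F) = 0) (hS : ∀ z, S (S z) = z ^ 2) (hcard : ∃ β : F, β ≠ 0 ∧ β ≠ 1)
    {ε : F} (hε : ε ≠ 0) : ∃ β : F, β ≠ 0 ∧ ε * (S β * β ^ 2) + β ∉ K0 S := by
  by_contra hcon
  push Not at hcon
  have hφ : ∀ β : F, ε * (S β * β ^ 2) + β ∈ K0 S := by
    intro β
    by_cases hβ : β = 0
    · subst hβ
      simp only [map_zero, ne_eq, OfNat.ofNat_ne_zero, not_false_eq_true, zero_pow, mul_zero,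
        add_zero]
      exact (K0 S).zero_mem
    · exact hcon β hβ
  -- polarisation
  have hpol : ∀ β δ : F, ε * (S β * δ ^ 2 + S δ * β ^ 2) ∈ K0 S := by
    intro β δ
    have h1 := (K0 S).add_mem ((K0 S).add_mem (hφ (β + δ)) (hφ β)) (hφ δ)
    have e : ε * (S (β + δ) * (β + δ) ^ 2) + (β + δ) + (ε * (S β * β ^ 2) + β)
        + (ε * (S δ * δ ^ 2) + δ) = ε * (S β * δ ^ 2 + S δ * β ^ 2) := by
      rw [map_add]
      have e1 := add_self_zero h2 (ε * (S β * β ^ 2))
      have e2 := add_self_zero h2 (ε * (S δ * δ ^ 2))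
      have e3 := add_self_zero h2 β
      have e4 := add_self_zero h2 δ
      linear_combination e1 + e2 + e3 + e4 + (ε * (S β + S δ) * β * δ) * h2
    rwa [e] at h1
  -- `ε K₀ ⊆ K₀`
  have hε1 : ε = 1 := by
    apply mul_K0_stab h2 hS hε
    rintro k ⟨z, rfl⟩
    obtain ⟨β, rfl⟩ := S_surj (S := S) z
    have := hpol β 1
    rw [one_pow, mul_one, map_one, one_mul] at this
    rw [trMap_apply, hS]
    have e : ε * (β ^ 2 + S β) = ε * (S β + β ^ 2) := by ring
    rwa [e]
  subst hε1
  obtain ⟨β, hβ0, hβ1⟩ := hcard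
  have hSβ : S β ≠ 0 := by simpa using hβ0
  have hne : S β * β ^ 2 ≠ 0 := mul_ne_zero hSβ (pow_ne_zero 2 hβ0)
  have h1 : S β * β ^ 2 = 1 := by
    apply mul_K0_stab h2 hS hne
    rintro k ⟨z, rfl⟩
    obtain ⟨t, rfl⟩ := S_surj (S := S) z
    have := hpol β (β * t)
    rw [one_mul, map_mul] at this
    rw [trMap_apply, hS]
    have e : S β * β ^ 2 * (t ^ 2 + S t) = S β * (β * t) ^ 2 + S β * S t * β ^ 2 := by ring
    rwa [e]
  have h3 : (β * S β) ^ 2 = 1 := by
    have := congrArg S h1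
    rw [map_mul, hS, map_pow, map_one] at this
    linear_combination this
  have h4 : β * S β = 1 := by
    have : (β * S β - 1) ^ 2 = 0 := by
      have := add_self_zero h2 (β * S β)
      linear_combination h3 - this + h2
    have := pow_eq_zero_iff (two_ne_zero) |>.1 this
    linear_combination this
  apply hβ1
  have : β * (β * S β) = 1 := by linear_combination h1
  rw [h4, mul_one] at this
  exact this

/-- solvability of the semilinear equation `S d + c d = c² S(c) k` for `k ∈ K₀` -/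
theorem exists_semilinear (hS : ∀ z, S (S z) = z ^ 2) (c : F) {k : F} (hk : k ∈ K0 S) :
    ∃ d : F, S d + c * d = c ^ 2 * S c * k := by
  obtain ⟨δ, rfl⟩ := hk
  refine ⟨S c * c * δ, ?_⟩
  rw [trMap_apply, map_mul, map_mul, hS]
  ring

end Cfsg.Agent.Helper37SzCov
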