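import Cfsg.Agent.Lib.Helper37_SzCharDataA
import Cfsg.Agent.Lib.Helper37_SzCovA

/-!
# The concrete Suzuki data, part D: commutators in `Q` and the radical of a central character
(helper37)
-/

set_option autoImplicit false
set_option linter.unusedSectionVars false
set_option linter.unusedVariables false

namespace Cfsg.Agent.Helper37SzChar

open Cfsg Cfsg.Agent.Helper37Sz
open Cfsg.Agent.Helper37SzAut (K0 mem_K0 add_mem_K0_iff nrm_inj add_self_zero)
open Cfsg.Agent.Helper37SzCov (mul_K0_stab)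
open Cfsg.Agent.Lib.Helper6_SzFixity (uQ_congr)

section D

variable {F : Type*} [Field F] [Fintype F] {S : F →+* F} {m : ℕ}

/-- at most one nonzero `a` has all its commutator values `S a * c + S c * a` in a proper subgroup -/
theorem radical_unique (h2 : (2 : F) = 0) (hS : ∀ z, S (S z) = z ^ 2) (N : AddSubgroup F)
    (hN : N ≠ ⊤) {a a' : F} (ha : a ≠ 0) (ha' : a' ≠ 0)
    (hR : ∀ c : F, S a * c + S c * a ∈ N) (hR' : ∀ c : F, S a' * c + S c * a' ∈ N) : a = a' := by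
  -- `u K₀ ⊆ N` for `u = S a * a`
  have hu : ∀ k ∈ K0 S, S a * a * k ∈ N := by
    intro k hk
    obtain ⟨s, rfl⟩ := (mem_K0 k).1 hk
    have := hR (a * s)
    have e : S a * (a * s) + S (a * s) * a = S a * a * (S s + s) := by rw [map_mul]; ring
    rwa [e] at this
  have hu' : ∀ k ∈ K0 S, S a' * a' * k ∈ N := by
    intro k hk
    obtain ⟨s, rfl⟩ := (mem_K0 k).1 hk
    have := hR' (a' * s)
    have e : S a' * (a' * s) + S (a' * s) * a' = S a' * a' * (S s + s) := by rw [map_mul]; ring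
    rwa [e] at this
  have hSa : S a ≠ 0 := by simpa using ha
  have hSa' : S a' ≠ 0 := by simpa using ha'
  have hune : S a * a ≠ 0 := mul_ne_zero hSa ha
  have hune' : S a' * a' ≠ 0 := mul_ne_zero hSa' ha'
  have hstab : ∀ k ∈ K0 S, (S a' * a') * (S a * a)⁻¹ * k ∈ K0 S := by
    intro k hk
    by_contra hcon
    apply hN
    rw [eq_top_iff]
    intro x _
    by_cases hx : (S a * a)⁻¹ * x ∈ K0 S
    · have := hu _ hx
      rwa [← mul_assoc, mul_inv_cancel₀ hune, one_mul] at this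
    · have h3 : (S a * a)⁻¹ * x + (S a' * a') * (S a * a)⁻¹ * k ∈ K0 S := by
        rw [add_mem_K0_iff h2 hS]
        exact ⟨fun h => absurd h hx, fun h => absurd h hcon⟩
      have h4 := hu _ h3
      have h5 := hu' k hk
      have e : S a * a * ((S a * a)⁻¹ * x + (S a' * a') * (S a * a)⁻¹ * k)
          = x + S a' * a' * k := by
        field_simp
      rw [e] at h4
      have := N.sub_mem h4 h5
      rwa [add_sub_cancel_right] at this
  have hne : (S a' * a') * (S a * a)⁻¹ ≠ 0 := mul_ne_zero hune' (inv_ne_zero hune)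
  have h1 := mul_K0_stab h2 hS hne hstab
  have h3 : S a' * a' = S a * a := by
    field_simp at h1
    exact h1
  exact (nrm_inj hS h3).symm

/-- coordinates on `Q` -/
def cA (g : Cfsg.Sz F m) : F :=
  ((g : Matrix.SpecialLinearGroup (Fin 4) F) : Matrix (Fin 4) (Fin 4) F) 2 3

/-- coordinates on `Q` -/
def cB (g : Cfsg.Sz F m) : F :=
  ((g : Matrix.SpecialLinearGroup (Fin 4) F) : Matrix (Fin 4) (Fin 4) F) 1 3

theorem cA_uQ (h2 : (2 : F) = 0) (hS : ∀ z, S (S z) = z ^ 2)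
    (hSdef : ∀ z, S z = z ^ 2 ^ (m + 1)) (a b : F) : cA (uQ (m := m) h2 hS hSdef a b) = a := by
  show (uMat S a b) 2 3 = a
  simp [uMat]

theorem cB_uQ (h2 : (2 : F) = 0) (hS : ∀ z, S (S z) = z ^ 2)
    (hSdef : ∀ z, S z = z ^ 2 ^ (m + 1)) (a b : F) : cB (uQ (m := m) h2 hS hSdef a b) = b := by
  show (uMat S a b) 1 3 = b
  simp [uMat]

theorem eq_uQ_of_mem (h2 : (2 : F) = 0) (hS : ∀ z, S (S z) = z ^ 2)
    (hSdef : ∀ z, S z = z ^ 2 ^ (m + 1)) {g : Cfsg.Sz F m} (hg : g ∈ Qsub h2 hS m) :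
    g = uQ h2 hS hSdef (cA g) (cB g) := by
  obtain ⟨a, b, rfl⟩ := (mem_Qsub_iff_uQ h2 hS hSdef g).1 hg
  rw [cA_uQ, cB_uQ]

/-- the commutator formula in `Q` -/
theorem uQ_commutator (h2 : (2 : F) = 0) (hS : ∀ z, S (S z) = z ^ 2)
    (hSdef : ∀ z, S z = z ^ 2 ^ (m + 1)) (a b c d : F) :
    uQ (m := m) h2 hS hSdef a b * uQ h2 hS hSdef c d * (uQ h2 hS hSdef a b)⁻¹
      * (uQ h2 hS hSdef c d)⁻¹ = uQ h2 hS hSdef 0 (S a * c + S c * a) := by
  rw [uQ_inv', uQ_inv', uQ_mul, uQ_mul, uQ_mul]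
  apply uQ_congr
  · linear_combination (a + c) * h2
  · simp only [map_add]
    linear_combination (b + d + S a * a + S c * c + S a * c) * h2

theorem commutator_mem_Zsub (h2 : (2 : F) = 0) (hS : ∀ z, S (S z) = z ^ 2)
    (hSdef : ∀ z, S z = z ^ 2 ^ (m + 1)) (x y : Qsub h2 hS m) :
    x * y * x⁻¹ * y⁻¹ ∈ (Zsub (m := m) h2 hS hSdef).subgroupOf (Qsub h2 hS m) := by
  rw [Subgroup.mem_subgroupOf]
  obtain ⟨x, hx⟩ := x
  obtain ⟨y, hy⟩ := y
  obtain ⟨a, b, rfl⟩ := (mem_Qsub_iff_uQ h2 hS hSdef x).1 hx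
  obtain ⟨c, d, rfl⟩ := (mem_Qsub_iff_uQ h2 hS hSdef y).1 hy
  show uQ (m := m) h2 hS hSdef a b * uQ h2 hS hSdef c d * (uQ h2 hS hSdef a b)⁻¹
      * (uQ h2 hS hSdef c d)⁻¹ ∈ Zsub h2 hS hSdef
  rw [uQ_commutator]
  exact ⟨_, rfl⟩

/-- the radical of a nontrivial central character of `Q` has at most `2 q` elements -/
theorem hkey_Qsub (hF : Fintype.card F = 2 ^ (2 * m + 1)) (h2 : (2 : F) = 0)
    (hS : ∀ z, S (S z) = z ^ 2) (hSdef : ∀ z, S z = z ^ 2 ^ (m + 1))
    (hcomm : ∀ x y : Qsub h2 hS m,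
      x * y * x⁻¹ * y⁻¹ ∈ (Zsub (m := m) h2 hS hSdef).subgroupOf (Qsub h2 hS m))
    (ζ : ((Zsub (m := m) h2 hS hSdef).subgroupOf (Qsub h2 hS m)) →* ℂˣ) (hζ : ζ ≠ 1) :
    Nat.card {x : Qsub h2 hS m // ∀ y : Qsub h2 hS m, ζ ⟨x * y * x⁻¹ * y⁻¹, hcomm x y⟩ = 1}
      ≤ 2 * 2 ^ (2 * m + 1) := by
  classical
  -- the additive character
  let zz : F → ((Zsub (m := m) h2 hS hSdef).subgroupOf (Qsub h2 hS m)) := fun b =>
    ⟨⟨uQ h2 hS hSdef 0 b, uQ_mem_Qsub h2 hS hSdef 0 b⟩, Subgroup.mem_subgroupOf.2 ⟨b, rfl⟩⟩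
  have hzz_add : ∀ b b' : F, zz (b + b') = zz b * zz b' := by
    intro b b'
    apply Subtype.ext
    apply Subtype.ext
    show uQ (m := m) h2 hS hSdef 0 (b + b') = uQ h2 hS hSdef 0 b * uQ h2 hS hSdef 0 b'
    rw [uQ_mul]
    apply uQ_congr
    · ring
    · rw [map_zero]; ring
  have hzz_surj : ∀ z, ∃ b, z = zz b := by
    rintro ⟨⟨z, hzQ⟩, hz⟩
    obtain ⟨b, hb⟩ := Subgroup.mem_subgroupOf.1 hz
    refine ⟨b, ?_⟩
    apply Subtype.ext
    apply Subtype.ext
    exact hb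
  let N : AddSubgroup F :=
    { carrier := {b | ζ (zz b) = 1}
      zero_mem' := by
        show ζ (zz 0) = 1
        have : zz 0 = 1 := by
          apply Subtype.ext
          apply Subtype.ext
          exact uQ_zero h2 hS hSdef
        rw [this, map_one]
      add_mem' := by
        intro b b' hb hb'
        show ζ (zz (b + b')) = 1
        rw [hzz_add, map_mul, hb, hb', one_mul]
      neg_mem' := by
        intro b hb
        have : -b = b := by linear_combination -(b * h2)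
        show ζ (zz (-b)) = 1
        rw [this]; exact hb }
  have hN : N ≠ ⊤ := by
    intro h
    apply hζ
    ext z
    obtain ⟨b, rfl⟩ := hzz_surj z
    have : b ∈ N := by rw [h]; trivial
    have h1 : ζ (zz b) = 1 := this
    rw [h1]; rfl
  -- the radical condition in coordinates
  have hrad : ∀ x : Qsub h2 hS m,
      (∀ y : Qsub h2 hS m, ζ ⟨x * y * x⁻¹ * y⁻¹, hcomm x y⟩ = 1) →
      ∀ c : F, S (cA (x : Cfsg.Sz F m)) * c + S c * cA (x : Cfsg.Sz F m) ∈ N := by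
    intro x hx c
    set y : Qsub h2 hS m := ⟨uQ h2 hS hSdef c 0, uQ_mem_Qsub h2 hS hSdef c 0⟩ with hy
    have h1 := hx y
    have e1 : ((x * y * x⁻¹ * y⁻¹ : Qsub h2 hS m) : Cfsg.Sz F m)
        = uQ h2 hS hSdef 0 (S (cA (x : Cfsg.Sz F m)) * c + S c * cA (x : Cfsg.Sz F m)) := by
      rw [Subgroup.coe_mul, Subgroup.coe_mul, Subgroup.coe_mul, Subgroup.coe_inv, Subgroup.coe_inv]
      have e3 : (y : Cfsg.Sz F m) = uQ h2 hS hSdef c 0 := rfl
      rw [e3]
      conv_lhs => rw [eq_uQ_of_mem h2 hS hSdef x.2]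
      rw [uQ_commutator]
    have e : (⟨x * y * x⁻¹ * y⁻¹, hcomm x y⟩ :
        ((Zsub (m := m) h2 hS hSdef).subgroupOf (Qsub h2 hS m)))
        = zz (S (cA (x : Cfsg.Sz F m)) * c + S c * cA (x : Cfsg.Sz F m)) :=
      Subtype.ext (Subtype.ext e1)
    rw [e] at h1
    exact h1
  -- the injection into `Bool × F`
  let f : {x : Qsub h2 hS m // ∀ y : Qsub h2 hS m, ζ ⟨x * y * x⁻¹ * y⁻¹, hcomm x y⟩ = 1} →
      Bool × F := fun x => (decide (cA ((x : Qsub h2 hS m) : Cfsg.Sz F m) = 0),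
        cB ((x : Qsub h2 hS m) : Cfsg.Sz F m))
  have hf : Function.Injective f := by
    rintro ⟨x, hx⟩ ⟨x', hx'⟩ h
    have h1 : decide (cA (x : Cfsg.Sz F m) = 0) = decide (cA (x' : Cfsg.Sz F m) = 0) :=
      congrArg Prod.fst h
    have h3 : cB (x : Cfsg.Sz F m) = cB (x' : Cfsg.Sz F m) := congrArg Prod.snd h
    have hA : cA (x : Cfsg.Sz F m) = cA (x' : Cfsg.Sz F m) := by
      by_cases h0 : cA (x : Cfsg.Sz F m) = 0
      · have : cA (x' : Cfsg.Sz F m) = 0 := by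
          rw [decide_eq_true h0] at h1
          exact of_decide_eq_true h1.symm
        rw [h0, this]
      · have h0' : cA (x' : Cfsg.Sz F m) ≠ 0 := by
          intro h0'
          rw [decide_eq_true h0'] at h1
          exact h0 (of_decide_eq_true h1)
        exact radical_unique h2 hS N hN h0 h0' (hrad x hx) (hrad x' hx')
    apply Subtype.ext
    apply Subtype.ext
    rw [eq_uQ_of_mem h2 hS hSdef x.2, eq_uQ_of_mem h2 hS hSdef x'.2, hA, h3]
  have h5 := Nat.card_le_card_of_injective f hf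
  have h6 : Nat.card (Bool × F) = 2 * 2 ^ (2 * m + 1) := by
    rw [Nat.card_prod, Nat.card_eq_fintype_card (α := Bool), Fintype.card_bool,
      Nat.card_eq_fintype_card, hF]
  rw [h6] at h5
  exact h5

end D

end Cfsg.Agent.Helper37SzChar
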