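import Cfsg.Agent.Lib.Helper37_SzCharDataC
import Cfsg.Agent.Lib.Helper37_SzCharDataD

/-!
# The concrete Suzuki data, part E: `SzData (Cfsg.Sz F m) m` (helper37)

The field `tau` is an input here (`TauStatement`), it is PK-Q1 of the package list.
-/

set_option autoImplicit false
set_option linter.unusedSectionVars false
set_option linter.unusedVariables false

namespace Cfsg.Agent.Helper37SzChar

open scoped Classical
open Cfsg Cfsg.Agent.Helper37Sz
open Cfsg.Agent.Lib.Helper6_SzTori Cfsg.Agent.Lib.Helper6_SzToriCount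
open Cfsg.Agent.Lib.Helper6_SzToriClass

/-- the statement of PK-Q1 for a given group `P` -/
def TauStatement (P : Type*) [Group P] (m : ℕ) : Prop :=
  ∀ (Z : Subgroup P), Nat.card P = qq m ^ 2 → Nat.card Z = qq m →
    (∀ z ∈ Z, ∀ x : P, z * x = x * z) →
    ∀ (hcomm : ∀ x y : P, x * y * x⁻¹ * y⁻¹ ∈ Z),
    (∀ ζ : Z →* ℂˣ, ζ ≠ 1 →
      Nat.card {x : P // ∀ y : P, ζ ⟨x * y * x⁻¹ * y⁻¹, hcomm x y⟩ = 1} ≤ 2 * qq m) →
    IsGeneralizedCharacter P (fun x : P => if x = 1 then ((rr m * (qq m - 1) : ℕ) : ℂ)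
      else if x ∈ Z then -(rr m : ℂ) else 0)

section E

variable {F : Type*} [Field F] [Fintype F] {m : ℕ}

theorem nonempty_szData [Fintype (Cfsg.Sz F m)] (hm : 1 ≤ m)
    (hF : Fintype.card F = 2 ^ (2 * m + 1))
    (htau : ∀ (h2 : (2 : F) = 0) (S : F →+* F) (hS : ∀ z, S (S z) = z ^ 2),
      TauStatement (Qsub h2 hS m) m) :
    Nonempty (SzData (Cfsg.Sz F m) m) := by
  have h2 : (2 : F) = 0 := two_eq_zero_of_card hF
  set S : F →+* F := sgHom F m h2 with hSd
  have hSdef : ∀ z, S z = z ^ 2 ^ (m + 1) := fun z => sgHom_apply m h2 z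
  have hS : ∀ z, S (S z) = z ^ 2 := fun z => sgHom_sgHom hF h2 z
  obtain ⟨g₁, g₂, hg₁, hg₂, c1, c2, n1, n2, hall⟩ := tori_classification hm hF
  have hcardQ : Nat.card (Qsub h2 hS m) = qq m ^ 2 := by
    rw [card_Qsub h2 hS hSdef, hF]; rfl
  have hcardZ : Nat.card (Zsub (m := m) h2 hS hSdef) = qq m := by
    rw [card_Zsub h2 hS hSdef, hF]; rfl
  have hcardZ' : Nat.card ((Zsub (m := m) h2 hS hSdef).subgroupOf (Qsub h2 hS m)) = qq m := by
    rw [← hcardZ]
    exact Nat.card_congr (Subgroup.subgroupOfEquivOfLe (Zsub_le h2 hS hSdef)).toEquiv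
  have hZc' : ∀ z ∈ (Zsub (m := m) h2 hS hSdef).subgroupOf (Qsub h2 hS m),
      ∀ x : Qsub h2 hS m, z * x = x * z := by
    intro z hz x
    apply Subtype.ext
    exact Zsub_central h2 hS hSdef _ (Subgroup.mem_subgroupOf.1 hz) _ x.2
  have htau' := htau h2 S hS ((Zsub (m := m) h2 hS hSdef).subgroupOf (Qsub h2 hS m)) hcardQ hcardZ'
    hZc' (commutator_mem_Zsub h2 hS hSdef) (fun ζ hζ => by
      have := hkey_Qsub hF h2 hS hSdef (commutator_mem_Zsub h2 hS hSdef) ζ hζ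
      exact this)
  refine ⟨{
    Q := Qsub h2 hS m
    Zc := Zsub h2 hS hSdef
    H := Hsub hS hSdef
    A₁ := torus g₁
    A₂ := torus g₂
    hm := hm
    card_G := Cfsg.Agent.S0324.result hm hF
    card_Q := hcardQ
    card_Zc := hcardZ
    Zc_le := Zsub_le h2 hS hSdef
    card_H := card_Hsub hF hS hSdef
    card_A₁ := c1
    card_A₂ := c2
    card_NQ := card_normalizer_Qsub hm hF h2 hS hSdef
    card_NH := card_normalizer_Hsub hm hF h2 hS hSdef
    card_NA₁ := by rw [n1, c1]; rfl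
    card_NA₂ := by rw [n2, c2]; rfl
    ti_Q := ti_Qsub hm hF h2 hS hSdef
    ti_H := ti_Hsub hm hF h2 hS hSdef
    ti_A₁ := ti_torus hm hF hg₁
    ti_A₂ := ti_torus hm hF hg₂
    cover := cover_Sz hm hF h2 hS hSdef hg₁ hg₂ hall
    comm_H := comm_Hsub hS hSdef
    comm_A₁ := fun a ha b hb => torus_comm hm hF hg₁ ha hb
    comm_A₂ := fun a ha b hb => torus_comm hm hF hg₂ ha hb
    cent_H := cent_Hsub hm hF h2 hS hSdef
    cent_A₁ := cent_torus hm hF hg₁
    cent_A₂ := cent_torus hm hF hg₂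
    Zc_central := Zsub_central h2 hS hSdef
    Zc_norm := Zsub_norm hm hF h2 hS hSdef
    tau := ?_ }⟩
  convert htau' using 1
  funext x
  have e1 : ((x : Cfsg.Sz F m) = 1) ↔ x = 1 := by
    constructor
    · intro h; exact Subtype.ext h
    · intro h; rw [h]; rfl
  have e2 : ((x : Cfsg.Sz F m) ∈ Zsub (m := m) h2 hS hSdef) ↔
      x ∈ (Zsub (m := m) h2 hS hSdef).subgroupOf (Qsub h2 hS m) := Subgroup.mem_subgroupOf.symm
  by_cases h1 : x = 1
  · rw [if_pos h1, if_pos (e1.2 h1)]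
  · rw [if_neg h1, if_neg (fun h => h1 (e1.1 h))]
    by_cases hz : x ∈ (Zsub (m := m) h2 hS hSdef).subgroupOf (Qsub h2 hS m)
    · rw [if_pos hz, if_pos (e2.2 hz)]
    · rw [if_neg hz, if_neg (fun h => hz (e2.1 h))]

end E

end Cfsg.Agent.Helper37SzChar
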