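import Cfsg.Agent.Lib.Helper37_TISys

/-!
# Groups of Suzuki type: the group-theoretic data used for the character degrees (helper37)

* `qq m = 2^(2m+1)`, `rr m = 2^(m+1)` and their arithmetic;
* `SzData G m` : the data (four T.I. subgroups `Q, H, A₁, A₂`, orders, normalisers, covering of the
  elementary subgroups, the generalized character `τ` of `Q`);
* `SzData.toTISys` : the T.I. system on the index type `SzIdx`.
-/

set_option autoImplicit false

namespace Cfsg.Agent.Helper37SzChar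

/-- the index type of the four T.I. subgroups -/
inductive SzIdx
  | Q | H | A1 | A2
  deriving DecidableEq

instance : Fintype SzIdx :=
  ⟨{SzIdx.Q, SzIdx.H, SzIdx.A1, SzIdx.A2}, by intro x; cases x <;> simp⟩

theorem SzIdx.sum_eq {M : Type*} [AddCommMonoid M] (f : SzIdx → M) :
    ∑ i, f i = f SzIdx.Q + (f SzIdx.H + (f SzIdx.A1 + f SzIdx.A2)) := by
  show Finset.sum {SzIdx.Q, SzIdx.H, SzIdx.A1, SzIdx.A2} f = _
  rw [Finset.sum_insert (by decide), Finset.sum_insert (by decide), Finset.sum_insert (by decide),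
    Finset.sum_singleton]

open scoped ComplexConjugate Classical
open Cfsg Cfsg.Agent.Helper37TI

/-- `q = 2^(2m+1)` -/
def qq (m : ℕ) : ℕ := 2 ^ (2 * m + 1)

/-- `r = 2^(m+1)`, so that `r^2 = 2q` -/
def rr (m : ℕ) : ℕ := 2 ^ (m + 1)

/-! ### arithmetic of `q`, `r` -/

theorem rr_sq (m : ℕ) : rr m ^ 2 = 2 * qq m := by
  unfold rr qq
  rw [← pow_mul, show (m + 1) * 2 = (2 * m + 1) + 1 by ring, pow_succ]
  ring

theorem rr_le_qq (m : ℕ) : rr m ≤ qq m := by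
  unfold rr qq
  exact Nat.pow_le_pow_right (by norm_num) (by omega)

theorem qq_pos (m : ℕ) : 0 < qq m := by unfold qq; positivity

theorem two_le_qq (m : ℕ) : 2 ≤ qq m := by
  unfold qq
  calc 2 = 2 ^ 1 := by norm_num
    _ ≤ 2 ^ (2 * m + 1) := Nat.pow_le_pow_right (by norm_num) (by omega)

theorem eight_le_qq {m : ℕ} (hm : 1 ≤ m) : 8 ≤ qq m := by
  unfold qq
  calc 8 = 2 ^ 3 := by norm_num
    _ ≤ 2 ^ (2 * m + 1) := Nat.pow_le_pow_right (by norm_num) (by omega)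

theorem even_qq (m : ℕ) : Even (qq m) := by
  unfold qq
  rw [pow_succ]
  exact even_two.mul_left _

theorem even_rr (m : ℕ) : Even (rr m) := by
  unfold rr
  rw [pow_succ]
  exact even_two.mul_left _

/-- `(q + r + 1) (q - r + 1) = q^2 + 1` -/
theorem n1_mul_n2 (m : ℕ) : (qq m + rr m + 1) * (qq m - rr m + 1) = qq m ^ 2 + 1 := by
  have h1 := rr_le_qq m
  have h2 := rr_sq m
  obtain ⟨k, hk⟩ : ∃ k, qq m = rr m + k := ⟨qq m - rr m, by omega⟩
  rw [hk] at h2 ⊢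
  rw [Nat.add_sub_cancel_left]
  nlinarith

theorem odd_qq_sub_one (m : ℕ) : Odd (qq m - 1) := by
  have h := even_qq m
  have := two_le_qq m
  obtain ⟨k, hk⟩ := h
  exact ⟨k - 1, by omega⟩

theorem odd_n1 (m : ℕ) : Odd (qq m + rr m + 1) := by
  obtain ⟨a, ha⟩ := even_qq m
  obtain ⟨b, hb⟩ := even_rr m
  exact ⟨a + b, by omega⟩

theorem odd_n2 (m : ℕ) : Odd (qq m - rr m + 1) := by
  obtain ⟨a, ha⟩ := even_qq m
  obtain ⟨b, hb⟩ := even_rr m
  have := rr_le_qq m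
  exact ⟨a - b, by omega⟩

theorem coprime_qq_sq_of_odd (m : ℕ) {n : ℕ} (hn : Odd n) : Nat.Coprime (qq m ^ 2) n := by
  unfold qq
  rw [← pow_mul]
  apply Nat.Coprime.pow_left
  rw [Nat.coprime_two_left]
  exact hn

theorem coprime_sub_one_sq_add_one (m : ℕ) : Nat.Coprime (qq m - 1) (qq m ^ 2 + 1) := by
  have h2 := two_le_qq m
  obtain ⟨k, hk⟩ : ∃ k, qq m = k + 1 := ⟨qq m - 1, by omega⟩
  have hodd := odd_qq_sub_one m
  rw [hk] at hodd ⊢
  rw [Nat.add_sub_cancel] at hodd ⊢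
  have e : (k + 1) ^ 2 + 1 = k * (k + 2) + 2 := by ring
  rw [e, Nat.coprime_mul_left_add_right, Nat.coprime_two_right]
  exact hodd

theorem coprime_sub_one_n1 (m : ℕ) : Nat.Coprime (qq m - 1) (qq m + rr m + 1) :=
  Nat.Coprime.coprime_dvd_right ⟨_, (n1_mul_n2 m).symm⟩ (coprime_sub_one_sq_add_one m)

theorem coprime_sub_one_n2 (m : ℕ) : Nat.Coprime (qq m - 1) (qq m - rr m + 1) :=
  Nat.Coprime.coprime_dvd_right ⟨_, by rw [mul_comm]; exact (n1_mul_n2 m).symm⟩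
    (coprime_sub_one_sq_add_one m)

theorem coprime_n1_n2 (m : ℕ) : Nat.Coprime (qq m + rr m + 1) (qq m - rr m + 1) := by
  have h1 := rr_le_qq m
  have e : qq m + rr m + 1 = (qq m - rr m + 1) + 2 * rr m := by omega
  rw [e, Nat.coprime_self_add_left]
  have : 2 * rr m = 2 ^ (m + 2) := by unfold rr; ring
  rw [this]
  apply Nat.Coprime.pow_left
  rw [Nat.coprime_two_left]
  exact odd_n2 m

/-- The group-theoretic data of a group "of Suzuki type". -/
structure SzData (G : Type*) [Group G] [Fintype G] (m : ℕ) where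
  Q : Subgroup G
  Zc : Subgroup G
  H : Subgroup G
  A₁ : Subgroup G
  A₂ : Subgroup G
  hm : 1 ≤ m
  card_G : Nat.card G = qq m ^ 2 * (qq m ^ 2 + 1) * (qq m - 1)
  card_Q : Nat.card Q = qq m ^ 2
  card_Zc : Nat.card Zc = qq m
  Zc_le : Zc ≤ Q
  card_H : Nat.card H = qq m - 1
  card_A₁ : Nat.card A₁ = qq m + rr m + 1
  card_A₂ : Nat.card A₂ = qq m - rr m + 1
  card_NQ : Nat.card (Subgroup.normalizer (Q : Set G)) = qq m ^ 2 * (qq m - 1)
  card_NH : Nat.card (Subgroup.normalizer (H : Set G)) = 2 * (qq m - 1)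
  card_NA₁ : Nat.card (Subgroup.normalizer (A₁ : Set G)) = 4 * (qq m + rr m + 1)
  card_NA₂ : Nat.card (Subgroup.normalizer (A₂ : Set G)) = 4 * (qq m - rr m + 1)
  ti_Q : ∀ g : G, ∀ k ∈ Q, k ≠ 1 → g * k * g⁻¹ ∈ Q → g ∈ Subgroup.normalizer (Q : Set G)
  ti_H : ∀ g : G, ∀ k ∈ H, k ≠ 1 → g * k * g⁻¹ ∈ H → g ∈ Subgroup.normalizer (H : Set G)
  ti_A₁ : ∀ g : G, ∀ k ∈ A₁, k ≠ 1 → g * k * g⁻¹ ∈ A₁ → g ∈ Subgroup.normalizer (A₁ : Set G)
  ti_A₂ : ∀ g : G, ∀ k ∈ A₂, k ≠ 1 → g * k * g⁻¹ ∈ A₂ → g ∈ Subgroup.normalizer (A₂ : Set G)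
  cover : ∀ (E : Subgroup G) (p : ℕ), p.Prime → IsElementary p E → ∃ g : G,
    (∀ e ∈ E, g * e * g⁻¹ ∈ Q) ∨ (∀ e ∈ E, g * e * g⁻¹ ∈ H) ∨
    (∀ e ∈ E, g * e * g⁻¹ ∈ A₁) ∨ (∀ e ∈ E, g * e * g⁻¹ ∈ A₂)
  comm_H : ∀ a ∈ H, ∀ b ∈ H, a * b = b * a
  comm_A₁ : ∀ a ∈ A₁, ∀ b ∈ A₁, a * b = b * a
  comm_A₂ : ∀ a ∈ A₂, ∀ b ∈ A₂, a * b = b * a
  cent_H : ∀ k ∈ H, k ≠ 1 → ∀ g : G, g * k = k * g → g ∈ H
  cent_A₁ : ∀ k ∈ A₁, k ≠ 1 → ∀ g : G, g * k = k * g → g ∈ A₁
  cent_A₂ : ∀ k ∈ A₂, k ≠ 1 → ∀ g : G, g * k = k * g → g ∈ A₂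
  Zc_central : ∀ z ∈ Zc, ∀ x ∈ Q, z * x = x * z
  Zc_norm : ∀ n ∈ Subgroup.normalizer (Q : Set G), ∀ z ∈ Zc, n * z * n⁻¹ ∈ Zc
  tau : IsGeneralizedCharacter Q (fun x : Q => if (x : G) = 1 then ((rr m * (qq m - 1) : ℕ) : ℂ)
    else if (x : G) ∈ Zc then -(rr m : ℂ) else 0)

/-! ### the T.I. system of a group of Suzuki type -/

variable {G : Type*} [Group G] [Fintype G] {m : ℕ}

/-- the four subgroups -/
def SzData.sub (D : SzData G m) : SzIdx → Subgroup G
  | .Q => D.Q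
  | .H => D.H
  | .A1 => D.A₁
  | .A2 => D.A₂

theorem SzData.card_sub (D : SzData G m) (i : SzIdx) :
    Nat.card (D.sub i) = match i with
      | .Q => qq m ^ 2
      | .H => qq m - 1
      | .A1 => qq m + rr m + 1
      | .A2 => qq m - rr m + 1 := by
  cases i
  · exact D.card_Q
  · exact D.card_H
  · exact D.card_A₁
  · exact D.card_A₂

theorem SzData.coprime_sub (D : SzData G m) {i j : SzIdx} (hij : i ≠ j) :
    Nat.Coprime (Nat.card (D.sub i)) (Nat.card (D.sub j)) := by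
  rw [D.card_sub, D.card_sub]
  cases i <;> cases j <;> first
    | exact absurd rfl hij
    | exact coprime_qq_sq_of_odd m (odd_qq_sub_one m)
    | exact coprime_qq_sq_of_odd m (odd_n1 m)
    | exact coprime_qq_sq_of_odd m (odd_n2 m)
    | exact (coprime_qq_sq_of_odd m (odd_qq_sub_one m)).symm
    | exact (coprime_qq_sq_of_odd m (odd_n1 m)).symm
    | exact (coprime_qq_sq_of_odd m (odd_n2 m)).symm
    | exact coprime_sub_one_n1 m
    | exact coprime_sub_one_n2 m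
    | exact (coprime_sub_one_n1 m).symm
    | exact (coprime_sub_one_n2 m).symm
    | exact coprime_n1_n2 m
    | exact (coprime_n1_n2 m).symm

/-- the T.I. system -/
def SzData.toTISys (D : SzData G m) : TISys G SzIdx where
  K := D.sub
  ti := by
    intro i
    cases i
    · exact D.ti_Q
    · exact D.ti_H
    · exact D.ti_A₁
    · exact D.ti_A₂
  disj := by
    intro i j hij g k hk hk1 hgk
    have h1 : orderOf k ∣ Nat.card (D.sub i) := by
      have := orderOf_dvd_natCard (⟨k, hk⟩ : D.sub i)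
      rwa [Subgroup.orderOf_mk] at this
    have h2 : orderOf k ∣ Nat.card (D.sub j) := by
      have := orderOf_dvd_natCard (⟨g * k * g⁻¹, hgk⟩ : D.sub j)
      rw [Subgroup.orderOf_mk] at this
      have e : orderOf (g * k * g⁻¹) = orderOf k := by
        have := orderOf_injective (MulAut.conj g).toMonoidHom (MulAut.conj g).injective k
        simpa using this
      rwa [e] at this
    have h3 := Nat.eq_one_of_dvd_coprimes (D.coprime_sub hij) h1 h2
    exact hk1 (orderOf_eq_one_iff.1 h3)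
  cover := by
    intro E p hp hE
    obtain ⟨g, h | h | h | h⟩ := D.cover E p hp hE
    · exact ⟨.Q, g, h⟩
    · exact ⟨.H, g, h⟩
    · exact ⟨.A1, g, h⟩
    · exact ⟨.A2, g, h⟩

@[simp] theorem SzData.toTISys_K (D : SzData G m) (i : SzIdx) : D.toTISys.K i = D.sub i := rfl

end Cfsg.Agent.Helper37SzChar
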