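import Cfsg.Agent.Lib.Helper37_SzCharDefs
import Cfsg.Agent.Lib.Helper3_CharColumn
import Cfsg.Agent.Lib.Helper79_RealOdd
import Cfsg.Agent.Lib.Helper75_CharArith
import Cfsg.Agent.Lib.Helper80_CharBasic
import Cfsg.Prelude.Def_DegreeGraph

/-!
# S4775 package PK-C: completion of the character table of a Suzuki group by column orthogonality
(helper76; architecture helper37)
-/

set_option autoImplicit false
set_option linter.unusedSectionVars false
set_option linter.unusedVariables false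

namespace Cfsg.Agent.Lib.Helper76_SzChar_PKC

open scoped ComplexConjugate Classical
open Cfsg Cfsg.Agent.Helper37SzChar Cfsg.Agent.Helper37TI Cfsg.Agent.Lib.Helper3_CharColumn
  Cfsg.Agent.Lib.Helper3_CharBridge Cfsg.Agent.Lib.Helper75_CharArith

/-- A rational number that is an algebraic integer is an integer. -/
theorem int_of_integral_rat (x : ℚ) (h : IsIntegral ℤ ((x : ℂ))) : ∃ z : ℤ, x = z := by
  have h1 : ((x : ℂ)) = algebraMap ℚ ℂ x := rfl
  rw [h1] at h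
  have h2 : IsIntegral ℤ x := (isIntegral_algebraMap_iff (algebraMap ℚ ℂ).injective).mp h
  obtain ⟨y, hy⟩ := IsIntegrallyClosed.isIntegral_iff.mp h2
  exact ⟨y, hy.symm⟩

/-- a finite sum of terms `z * conj z` vanishes only if all terms vanish -/
theorem eq_zero_of_sum_mul_conj {ι : Type*} (s : Finset ι) (f : ι → ℂ)
    (h : ∑ i ∈ s, f i * conj (f i) = 0) : ∀ i ∈ s, f i = 0 := by
  have h1 : ∑ i ∈ s, f i * conj (f i) = ((∑ i ∈ s, Complex.normSq (f i) : ℝ) : ℂ) := by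
    rw [Complex.ofReal_sum]
    exact Finset.sum_congr rfl (fun i _ => Complex.mul_conj (f i))
  rw [h1, Complex.ofReal_eq_zero] at h
  intro i hi
  have h2 := (Finset.sum_eq_zero_iff_of_nonneg (fun i _ => Complex.normSq_nonneg (f i))).mp h i hi
  exact Complex.normSq_eq_zero.mp h2

theorem completion {G : Type*} [Group G] [Fintype G] (m : ℕ) (hm : 1 ≤ m)
    (hG : Nat.card G = qq m ^ 2 * (qq m ^ 2 + 1) * (qq m - 1))
    (H A : Subgroup G) (cardH : Nat.card H = qq m - 1) (hA1 : ∃ a ∈ A, a ≠ 1)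
    (hcH : ∀ h ∈ H, h ≠ 1 → Nat.card (Subgroup.centralizer ({h} : Set G)) = qq m - 1)
    (hcA : ∀ a ∈ A, a ≠ 1 → Nat.card (Subgroup.centralizer ({a} : Set G)) = qq m + rr m + 1)
    (𝒦 : Finset (IrrCharacter G))
    (h1 : ∑ χ ∈ 𝒦, ((χ : G → ℂ) 1) ^ 2 =
      (Nat.card G : ℂ) - (qq m : ℂ) * ((qq m : ℂ) - 1) ^ 2)
    (h2 : ∀ h ∈ H, h ≠ 1 →
      ∑ χ ∈ 𝒦, (χ : G → ℂ) h * conj ((χ : G → ℂ) h) = (qq m : ℂ) - 1)
    (h3 : ∀ a ∈ A, a ≠ 1 →
      ∑ χ ∈ 𝒦, (χ : G → ℂ) a * conj ((χ : G → ℂ) a) = (qq m : ℂ) + rr m - 1)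
    (h4 : ∀ a ∈ A, a ≠ 1 →
      ∑ χ ∈ 𝒦, (χ : G → ℂ) 1 * conj ((χ : G → ℂ) a) = -(((qq m : ℂ) - 1) * rr m)) :
    (∃ χ : IrrCharacter G, χ ∉ 𝒦) ∧
      ∀ χ : IrrCharacter G, χ ∉ 𝒦 → charDegree (χ : G → ℂ) = 2 ^ m * (qq m - 1) := by
  have hq8 : 8 ≤ qq m := eight_le_qq hm
  have hrq : rr m ^ 2 = 2 * qq m := rr_sq m
  have hqC : ((qq m - 1 : ℕ) : ℂ) = (qq m : ℂ) - 1 := by
    rw [Nat.cast_sub (by omega)]; simp
  have hq1ne : (qq m : ℂ) - 1 ≠ 0 := by
    rw [← hqC, Nat.cast_ne_zero]; omega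
  have hqne : (qq m : ℂ) ≠ 0 := by
    rw [Nat.cast_ne_zero]; omega
  set U : Finset (IrrCharacter G) := Finset.univ \ 𝒦 with hU
  have hmemU : ∀ χ : IrrCharacter G, χ ∈ U ↔ χ ∉ 𝒦 := by
    intro χ
    rw [hU, Finset.mem_sdiff]
    simp
  have hsplit : ∀ F : IrrCharacter G → ℂ, ∑ χ, F χ = ∑ χ ∈ 𝒦, F χ + ∑ χ ∈ U, F χ := by
    intro F
    rw [hU, add_comm, Finset.sum_sdiff (Finset.subset_univ _)]
  -- degrees
  have hdeg : ∀ χ : IrrCharacter G, ∃ n : ℕ, 0 < n ∧ (χ : G → ℂ) 1 = n :=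
    fun χ => irr_one_eq_natCast χ.2
  choose deg hdeg0 hdegeq using hdeg
  -- (1) the sum of the squares of the missing degrees
  have hU1 : ∑ χ ∈ U, ((χ : G → ℂ) 1) ^ 2 = (qq m : ℂ) * ((qq m : ℂ) - 1) ^ 2 := by
    have h0 := sum_sq_irr_one (G := G)
    rw [hsplit, h1] at h0
    linear_combination h0
  -- (2) the missing characters vanish on `H ∖ 1`
  have hvanH : ∀ χ ∈ U, ∀ h ∈ H, h ≠ 1 → (χ : G → ℂ) h = 0 := by
    intro χ hχ h hh hh1
    have hc := column_orthogonality_self h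
    rw [hsplit, h2 h hh hh1, hcH h hh hh1, hqC] at hc
    have hsum0 : ∑ χ ∈ U, (χ : G → ℂ) h * conj ((χ : G → ℂ) h) = 0 := by
      linear_combination hc
    exact eq_zero_of_sum_mul_conj U (fun χ => (χ : G → ℂ) h) hsum0 χ hχ
  -- (3) `q - 1` divides the missing degrees
  have : Fintype H := Fintype.ofFinite H
  have hdvd : ∀ χ ∈ U, ∃ n : ℕ, deg χ = (qq m - 1) * n := by
    intro χ hχ
    have hres : Cfsg.IsCharacter H (fun h : H => (χ : G → ℂ) h) :=
      isCharacter_restrict H (isCharacter_of_isIrrCharacter χ.2)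
    have hone : Cfsg.IsCharacter H (fun _ : H => (1 : ℂ)) :=
      isCharacter_of_isIrrCharacter (Cfsg.Agent.Lib.Helper80_CharBasic.isIrrCharacter_one H)
    obtain ⟨n, hn⟩ := classInner_isCharacter_nat hres hone
    refine ⟨n, ?_⟩
    unfold Cfsg.classInner at hn
    have hsum : ∑ g : H, (fun h : H => (χ : G → ℂ) h) g * conj ((fun _ : H => (1 : ℂ)) g) =
        (χ : G → ℂ) 1 := by
      rw [Finset.sum_eq_single (1 : H)]
      · simp
      · intro b _ hb
        have hb1 : (b : G) ≠ 1 := fun h0 => hb (Subtype.ext h0)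
        simp only [map_one, mul_one]
        exact hvanH χ hχ b.1 b.2 hb1
      · intro h0
        exact absurd (Finset.mem_univ _) h0
    rw [hsum, cardH, hqC, hdegeq] at hn
    have h5 : (deg χ : ℂ) = (((qq m - 1) * n : ℕ) : ℂ) := by
      rw [Nat.cast_mul, hqC]
      field_simp at hn
      linear_combination hn
    exact_mod_cast h5
  choose! d hd using hdvd
  have hd0 : ∀ χ ∈ U, 0 < d χ := by
    intro χ hχ
    have := hdeg0 χ
    rw [hd χ hχ] at this
    exact Nat.pos_of_mul_pos_left this |> fun h => by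
      rcases Nat.eq_zero_or_pos (d χ) with h0 | h0
      · rw [h0, mul_zero] at this; omega
      · exact h0
  have hχ1 : ∀ χ ∈ U, (χ : G → ℂ) 1 = ((qq m : ℂ) - 1) * (d χ : ℂ) := by
    intro χ hχ
    rw [hdegeq, hd χ hχ, Nat.cast_mul, hqC]
  -- (4) the sum of the squares of the `d`
  have hdsq : ∑ χ ∈ U, ((d χ : ℂ)) ^ 2 = (qq m : ℂ) := by
    have h0 : ∑ χ ∈ U, ((χ : G → ℂ) 1) ^ 2 = ((qq m : ℂ) - 1) ^ 2 * ∑ χ ∈ U, ((d χ : ℂ)) ^ 2 := by
      rw [Finset.mul_sum]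
      apply Finset.sum_congr rfl
      intro χ hχ
      rw [hχ1 χ hχ]
      ring
    rw [hU1] at h0
    have h6 : ((qq m : ℂ) - 1) ^ 2 ≠ 0 := pow_ne_zero _ hq1ne
    apply mul_left_cancel₀ h6
    rw [← h0]
    ring
  -- `U` is not empty
  have hUne : U.Nonempty := by
    by_contra hemp
    rw [Finset.not_nonempty_iff_eq_empty] at hemp
    rw [hemp, Finset.sum_empty] at hdsq
    exact hqne hdsq.symm
  -- (5) values on `A ∖ 1`
  obtain ⟨a, haA, ha1⟩ := hA1
  have hS2 : ∑ χ ∈ U, (χ : G → ℂ) a * conj ((χ : G → ℂ) a) = 2 := by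
    have hc := column_orthogonality_self a
    rw [hsplit, h3 a haA ha1, hcA a haA ha1] at hc
    push_cast at hc
    linear_combination hc
  have hnc : ¬ IsConj (1 : G) a := by
    intro hc
    exact ha1 (isConj_one_right.mp hc)
  have hS1 : ∑ χ ∈ U, (d χ : ℂ) * conj ((χ : G → ℂ) a) = (rr m : ℂ) := by
    have hc := column_orthogonality (1 : G) a
    rw [if_neg hnc, hsplit, h4 a haA ha1] at hc
    have h0 : ∑ χ ∈ U, (χ : G → ℂ) 1 * conj ((χ : G → ℂ) a) =
        ((qq m : ℂ) - 1) * ∑ χ ∈ U, (d χ : ℂ) * conj ((χ : G → ℂ) a) := by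
      rw [Finset.mul_sum]
      apply Finset.sum_congr rfl
      intro χ hχ
      rw [hχ1 χ hχ]
      ring
    rw [h0] at hc
    apply mul_left_cancel₀ hq1ne
    linear_combination hc
  have hS1' : ∑ χ ∈ U, (d χ : ℂ) * (χ : G → ℂ) a = (rr m : ℂ) := by
    have h0 := congrArg conj hS1
    rw [map_sum, Complex.conj_natCast] at h0
    rw [← h0]
    apply Finset.sum_congr rfl
    intro χ _
    rw [map_mul, Complex.conj_conj, Complex.conj_natCast]
  set c : ℂ := (rr m : ℂ) / (qq m : ℂ) with hc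
  have hcconj : conj c = c := by
    rw [hc, map_div₀, Complex.conj_natCast, Complex.conj_natCast]
  have hrqC : (rr m : ℂ) ^ 2 = 2 * (qq m : ℂ) := by exact_mod_cast hrq
  have hzero : ∑ χ ∈ U, ((χ : G → ℂ) a - c * d χ) * conj ((χ : G → ℂ) a - c * d χ) = 0 := by
    have hexp : ∀ χ ∈ U, ((χ : G → ℂ) a - c * d χ) * conj ((χ : G → ℂ) a - c * d χ) =
        (χ : G → ℂ) a * conj ((χ : G → ℂ) a) - c * ((d χ : ℂ) * conj ((χ : G → ℂ) a)) -
          c * ((d χ : ℂ) * (χ : G → ℂ) a) + c ^ 2 * (d χ : ℂ) ^ 2 := by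
      intro χ _
      rw [map_sub, map_mul, hcconj, Complex.conj_natCast]
      ring
    rw [Finset.sum_congr rfl hexp, Finset.sum_add_distrib, Finset.sum_sub_distrib,
      Finset.sum_sub_distrib, ← Finset.mul_sum, ← Finset.mul_sum, ← Finset.mul_sum, hS2, hS1,
      hS1', hdsq, hc]
    field_simp
    linear_combination (-1 : ℂ) * hrqC
  have hval : ∀ χ ∈ U, (χ : G → ℂ) a = c * d χ := by
    intro χ hχ
    have := eq_zero_of_sum_mul_conj U (fun χ => (χ : G → ℂ) a - c * d χ) hzero χ hχ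
    exact sub_eq_zero.mp this
  -- (6) integrality
  have hcpow : c = 1 / (2 : ℂ) ^ m := by
    rw [hc]
    unfold rr qq
    push_cast
    rw [div_eq_div_iff (pow_ne_zero _ two_ne_zero) (pow_ne_zero _ two_ne_zero)]
    rw [one_mul, ← pow_add]
    congr 1
    omega
  have hdiv2 : ∀ χ ∈ U, ∃ t : ℕ, d χ = 2 ^ m * t := by
    intro χ hχ
    have hint := Cfsg.Agent.Lib.Helper79_RealOdd.irr_isIntegral χ a
    rw [hval χ hχ, hcpow] at hint
    have hcast : (1 / (2 : ℂ) ^ m * (d χ : ℂ)) = (((d χ : ℚ) / 2 ^ m : ℚ) : ℂ) := by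
      push_cast
      ring
    rw [hcast] at hint
    obtain ⟨z, hz⟩ := int_of_integral_rat _ hint
    have h2m : ((2 : ℚ) ^ m) ≠ 0 := pow_ne_zero _ two_ne_zero
    have hz' : (d χ : ℚ) = 2 ^ m * z := by
      field_simp at hz
      rw [hz]
    have hz0 : 0 ≤ z := by
      by_contra hneg
      push Not at hneg
      have : (2 : ℚ) ^ m * z < 0 := mul_neg_of_pos_of_neg (by positivity) (by exact_mod_cast hneg)
      rw [← hz'] at this
      have : (0 : ℚ) ≤ d χ := Nat.cast_nonneg _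
      linarith
    obtain ⟨t, rfl⟩ := Int.eq_ofNat_of_zero_le hz0
    refine ⟨t, ?_⟩
    have : (d χ : ℚ) = ((2 ^ m * t : ℕ) : ℚ) := by
      rw [hz']; push_cast; ring
    exact_mod_cast this
  choose! t ht using hdiv2
  have ht0 : ∀ χ ∈ U, 1 ≤ t χ := by
    intro χ hχ
    have := hd0 χ hχ
    rw [ht χ hχ] at this
    rcases Nat.eq_zero_or_pos (t χ) with h0 | h0
    · rw [h0, mul_zero] at this; omega
    · exact h0
  -- the sum of the `t ^ 2` is `2`
  have htsq : ∑ χ ∈ U, (t χ) ^ 2 = 2 := by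
    have h0 : ∑ χ ∈ U, (d χ) ^ 2 = qq m := by
      have : ((∑ χ ∈ U, (d χ) ^ 2 : ℕ) : ℂ) = ((qq m : ℕ) : ℂ) := by
        rw [← hdsq]; push_cast; rfl
      exact_mod_cast this
    have h7 : ∑ χ ∈ U, (d χ) ^ 2 = 4 ^ m * ∑ χ ∈ U, (t χ) ^ 2 := by
      rw [Finset.mul_sum]
      apply Finset.sum_congr rfl
      intro χ hχ
      rw [ht χ hχ, mul_pow, ← pow_mul, mul_comm m 2, pow_mul]
      norm_num
    rw [h0] at h7
    have h8 : qq m = 4 ^ m * 2 := by
      unfold qq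
      rw [pow_succ, pow_mul]
      norm_num
    rw [h8] at h7
    exact (Nat.eq_of_mul_eq_mul_left (by positivity) h7).symm
  have htone : ∀ χ ∈ U, t χ = 1 := by
    intro χ hχ
    by_contra hne
    have h2le : 2 ≤ t χ := by have := ht0 χ hχ; omega
    have hle : (t χ) ^ 2 ≤ ∑ χ ∈ U, (t χ) ^ 2 :=
      Finset.single_le_sum (f := fun χ => (t χ) ^ 2) (fun _ _ => Nat.zero_le _) hχ
    rw [htsq] at hle
    nlinarith
  refine ⟨?_, ?_⟩
  · obtain ⟨χ, hχ⟩ := hUne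
    exact ⟨χ, (hmemU χ).mp hχ⟩
  · intro χ hχ
    have hχU : χ ∈ U := (hmemU χ).mpr hχ
    have h9 : (χ : G → ℂ) 1 = ((2 ^ m * (qq m - 1) : ℕ) : ℂ) := by
      rw [hdegeq, hd χ hχU, ht χ hχU, htone χ hχU]
      push_cast
      ring
    unfold charDegree
    rw [h9, Complex.natCast_re, Nat.floor_natCast]

end Cfsg.Agent.Lib.Helper76_SzChar_PKC
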