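import Cfsg.Agent.Lib.Helper37_SzCharDefs
import Cfsg.Agent.Lib.Helper57_HeightZero
import Cfsg.Agent.Lib.Helper76_GalConj

/-!
# S4775 package PK-Q1: `τ` is a generalized character of a Suzuki `2`-group
(helper76; architecture helper37)
-/

set_option autoImplicit false
set_option linter.unusedSectionVars false
set_option linter.unusedVariables false

namespace Cfsg.Agent.Lib.Helper76_SzChar_PKQ1

open scoped ComplexConjugate Classical
open Cfsg Cfsg.Agent.Helper37SzChar Cfsg.Agent.Helper37TI Cfsg.Agent.Lib.Helper76_GalConj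

section

variable {P : Type*} [Group P] [Fintype P]

/-- the central character of `ξ` on a central subgroup, as a homomorphism to the units -/
noncomputable def omega (Z : Subgroup P) (hZle : Z ≤ Subgroup.center P) (ξ : IrrCharacter P) :
    Z →* ℂˣ :=
  ((centralHom ξ).comp (Subgroup.inclusion hZle)).toHomUnits

theorem omega_apply (Z : Subgroup P) (hZle : Z ≤ Subgroup.center P) (ξ : IrrCharacter P)
    (z : Z) : ((omega Z hZle ξ z : ℂˣ) : ℂ) = (ξ : P → ℂ) z / (ξ : P → ℂ) 1 := rfl

theorem irr_eq_omega (Z : Subgroup P) (hZle : Z ≤ Subgroup.center P) (ξ : IrrCharacter P)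
    (z : Z) : (ξ : P → ℂ) z = (ξ : P → ℂ) 1 * ((omega Z hZle ξ z : ℂˣ) : ℂ) := by
  rw [omega_apply]
  have h0 := irr_one_ne_zero ξ
  field_simp

theorem normSq_le_deg_sq (ξ : IrrCharacter P) (x : P) :
    Complex.normSq ((ξ : P → ℂ) x) ≤ ((charDegree (ξ : P → ℂ) : ℝ)) ^ 2 := by
  have h1 := irr_one_eq_charDegree ξ
  obtain ⟨n, ρ, hρ, hχ⟩ := ξ.2
  have h2 := Cfsg.Agent.Lib.Helper3_CharEigen.norm_char_le ρ x
  have h3 : (ξ : P → ℂ) 1 = (Module.finrank ℂ (Fin n → ℂ) : ℂ) := by
    rw [← hχ, Representation.char_one]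
  rw [h1] at h3
  have h4 : charDegree (ξ : P → ℂ) = Module.finrank ℂ (Fin n → ℂ) := by exact_mod_cast h3
  rw [hχ] at h2
  rw [Complex.normSq_eq_norm_sq, h4]
  exact pow_le_pow_left₀ (norm_nonneg _) h2 2

end

theorem tau_isGeneralizedCharacter {P : Type*} [Group P] [Fintype P] (m : ℕ) (Z : Subgroup P)
    (hcardP : Nat.card P = qq m ^ 2) (hcardZ : Nat.card Z = qq m)
    (hZc : ∀ z ∈ Z, ∀ x : P, z * x = x * z)
    (hcomm : ∀ x y : P, x * y * x⁻¹ * y⁻¹ ∈ Z)
    (hkey : ∀ ζ : Z →* ℂˣ, ζ ≠ 1 →
      Nat.card {x : P // ∀ y : P, ζ ⟨x * y * x⁻¹ * y⁻¹, hcomm x y⟩ = 1} ≤ 2 * qq m) :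
    IsGeneralizedCharacter P (fun x : P => if x = 1 then ((rr m * (qq m - 1) : ℕ) : ℂ)
      else if x ∈ Z then -(rr m : ℂ) else 0) := by
  have hq2 : 2 ≤ qq m := two_le_qq m
  have hZle : Z ≤ Subgroup.center P := by
    intro z hz
    rw [Subgroup.mem_center_iff]
    intro x
    exact (hZc z hz x).symm
  have hqne : (qq m : ℂ) ≠ 0 := by
    rw [Nat.cast_ne_zero]; omega
  set τ : P → ℂ := fun x : P => if x = 1 then ((rr m * (qq m - 1) : ℕ) : ℂ)
      else if x ∈ Z then -(rr m : ℂ) else 0 with hτ
  -- a more convenient formula for `τ`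
  have hτ' : ∀ x : P, τ x = (if x ∈ Z then -(rr m : ℂ) else 0) +
      (if x = 1 then (rr m : ℂ) * (qq m : ℂ) else 0) := by
    intro x
    by_cases hx1 : x = 1
    · subst hx1
      simp only [hτ, if_true, Z.one_mem]
      rw [Nat.cast_mul, Nat.cast_sub (by omega)]
      push_cast
      ring
    · simp only [hτ, if_neg hx1, add_zero]
  apply Cfsg.Agent.Lib.Helper57_HeightZero.isGeneralizedCharacter_of_int
  · -- class function
    intro g h
    have hconjZ : ∀ x : P, h * x * h⁻¹ ∈ Z ↔ x ∈ Z := by
      intro x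
      constructor
      · intro hx
        have h1 : x = h⁻¹ * (h * x * h⁻¹) * h := by group
        rw [h1, ← hZc _ hx h⁻¹]
        have h2 : h * x * h⁻¹ * h⁻¹ * h = h * x * h⁻¹ := by group
        rw [h2]
        exact hx
      · intro hx
        rw [← hZc x hx h]
        have h2 : x * h * h⁻¹ = x := by group
        rw [h2]
        exact hx
    have hconj1 : h * g * h⁻¹ = 1 ↔ g = 1 := by
      constructor
      · intro h0
        have h1 : g = h⁻¹ * (h * g * h⁻¹) * h := by group
        rw [h1, h0]; group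
      · intro h0
        rw [h0]; group
    simp only [hτ, hconj1, hconjZ]
  · intro ξ
    set ω := omega Z hZle ξ with hω
    have hdeg := irr_one_eq_charDegree ξ
    set D := charDegree (ξ : P → ℂ) with hD
    -- the sum
    have hsum : ∑ x : P, τ x * conj ((ξ : P → ℂ) x) =
        -(rr m : ℂ) * (D : ℂ) * conj (∑ z : Z, ((ω z : ℂ))) + (rr m : ℂ) * (qq m : ℂ) * (D : ℂ) := by
      have h1 : ∀ x : P, τ x * conj ((ξ : P → ℂ) x) =
          (if x ∈ Z then -(rr m : ℂ) * conj ((ξ : P → ℂ) x) else 0) +
          (if x = 1 then (rr m : ℂ) * (qq m : ℂ) * conj ((ξ : P → ℂ) x) else 0) := by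
        intro x
        rw [hτ' x, add_mul]
        congr 1
        · split_ifs <;> simp
        · split_ifs <;> simp
      rw [Finset.sum_congr rfl (fun x _ => h1 x), Finset.sum_add_distrib]
      congr 1
      · have h2 : ∑ x : P, (if x ∈ Z then -(rr m : ℂ) * conj ((ξ : P → ℂ) x) else 0) =
            ∑ z : Z, -(rr m : ℂ) * conj ((ξ : P → ℂ) z) := by
          rw [← Finset.sum_filter]
          exact (Finset.sum_subtype (Finset.univ.filter (fun x : P => x ∈ Z))
            (by intro x; simp) (fun x => -(rr m : ℂ) * conj ((ξ : P → ℂ) x)))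
        rw [h2, map_sum, Finset.mul_sum]
        apply Finset.sum_congr rfl
        intro z _
        rw [irr_eq_omega Z hZle ξ z, hdeg, map_mul, Complex.conj_natCast]
        ring
      · rw [Finset.sum_ite_eq' Finset.univ (1 : P), if_pos (Finset.mem_univ _), hdeg,
          Complex.conj_natCast]
    have hcardPC : (Nat.card P : ℂ) = (qq m : ℂ) ^ 2 := by
      rw [hcardP]; push_cast; rfl
    have hcardZ' : Fintype.card Z = qq m := by rw [← Nat.card_eq_fintype_card, hcardZ]
    unfold Cfsg.classInner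
    rw [hsum, hcardPC]
    by_cases hω1 : ω = 1
    · -- trivial central character: multiplicity zero
      refine ⟨0, ?_⟩
      have h3 : ∑ z : Z, ((ω z : ℂ)) = (qq m : ℂ) := by
        rw [hω1]
        simp [hcardZ']
      rw [h3, Complex.conj_natCast]
      push_cast
      ring
    · -- nontrivial central character
      have h3 : ∑ z : Z, ((ω z : ℂ)) = 0 := by
        have hf : (Units.coeHom ℂ).comp ω ≠ 1 := by
          intro h0
          apply hω1
          ext z
          have := DFunLike.congr_fun h0 z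
          simpa using this
        exact sum_hom_units_eq_zero ((Units.coeHom ℂ).comp ω) hf
      rw [h3, map_zero, mul_zero, zero_add]
      -- `2 ^ m ∣ D`
      have h2P : IsPGroup 2 P := by
        apply IsPGroup.of_card (n := 2 * (2 * m + 1))
        rw [hcardP]
        unfold qq
        rw [← pow_mul]
        congr 1
        ring
      have : Fact (Nat.Prime 2) := ⟨Nat.prime_two⟩
      obtain ⟨j, hj⟩ := charDegree_eq_prime_pow 2 h2P ξ
      have hDj : D = 2 ^ j := hj
      -- vanishing off `R`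
      set R : Finset P := Finset.univ.filter
        (fun x : P => ∀ y : P, ω ⟨x * y * x⁻¹ * y⁻¹, hcomm x y⟩ = 1) with hR
      have hvan : ∀ x : P, x ∉ R → (ξ : P → ℂ) x = 0 := by
        intro x hx
        rw [hR, Finset.mem_filter] at hx
        push Not at hx
        obtain ⟨y, hy⟩ := hx (Finset.mem_univ x)
        set c : P := x * y * x⁻¹ * y⁻¹ with hc
        have hcZ : c ∈ Z := hcomm x y
        have hcinv : c⁻¹ ∈ Subgroup.center P := Subgroup.inv_mem _ (hZle hcZ)
        apply irr_eq_zero_of_conj_mul_central ξ hcinv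
        · have h4 : x * c⁻¹ = y * x * y⁻¹ := by
            rw [Subgroup.mem_center_iff.mp hcinv x, hc]; group
          rw [h4, Cfsg.Agent.Lib.Helper80_CharBasic.irr_conj]
        · intro hker
          rw [mem_kerC] at hker
          apply hy
          have h5 : (ξ : P → ℂ) c⁻¹ = (ξ : P → ℂ) 1 * ((ω ⟨c, hcZ⟩⁻¹ : ℂˣ) : ℂ) :=
            irr_eq_omega Z hZle ξ (⟨c, hcZ⟩⁻¹)
          rw [hker] at h5
          have h0 := irr_one_ne_zero ξ
          have h6 : ((ω ⟨c, hcZ⟩⁻¹ : ℂˣ) : ℂ) = 1 := by
            have : (ξ : P → ℂ) 1 * 1 = (ξ : P → ℂ) 1 * ((ω ⟨c, hcZ⟩⁻¹ : ℂˣ) : ℂ) := by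
              rw [mul_one]; exact h5
            exact (mul_left_cancel₀ h0 this).symm
          have h7 : ω ⟨c, hcZ⟩⁻¹ = 1 := Units.ext h6
          rw [map_inv, inv_eq_one] at h7
          exact h7
      have hRcard : R.card ≤ 2 * qq m := by
        have := hkey ω hω1
        rw [Nat.card_eq_fintype_card, Fintype.card_subtype] at this
        exact this
      -- the norm count
      have hns := sum_normSq ξ
      have h8 : ∑ x : P, Complex.normSq ((ξ : P → ℂ) x) =
          ∑ x ∈ R, Complex.normSq ((ξ : P → ℂ) x) := by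
        symm
        apply Finset.sum_subset (Finset.subset_univ R)
        intro x _ hx
        rw [hvan x hx, map_zero]
      have h9 : ∑ x ∈ R, Complex.normSq ((ξ : P → ℂ) x) ≤ (R.card : ℝ) * ((D : ℝ)) ^ 2 := by
        rw [← nsmul_eq_mul]
        exact Finset.sum_le_card_nsmul R _ _ (fun x _ => normSq_le_deg_sq ξ x)
      rw [h8] at hns
      rw [hns, hcardP] at h9
      have h10 : qq m ^ 2 ≤ 2 * qq m * D ^ 2 := by
        have h11 : ((qq m ^ 2 : ℕ) : ℝ) ≤ ((2 * qq m * D ^ 2 : ℕ) : ℝ) := by
          push_cast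
          calc ((qq m : ℝ)) ^ 2 ≤ (R.card : ℝ) * (D : ℝ) ^ 2 := by exact_mod_cast h9
            _ ≤ (2 * (qq m : ℝ)) * (D : ℝ) ^ 2 := by
              apply mul_le_mul_of_nonneg_right _ (sq_nonneg _)
              exact_mod_cast hRcard
        exact_mod_cast h11
      have h12 : qq m ≤ 2 * D ^ 2 := by
        have hqpos : 0 < qq m := qq_pos m
        have : qq m * qq m ≤ qq m * (2 * D ^ 2) := by
          calc qq m * qq m = qq m ^ 2 := (sq (qq m)).symm
            _ ≤ 2 * qq m * D ^ 2 := h10
            _ = qq m * (2 * D ^ 2) := by ring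
        exact Nat.le_of_mul_le_mul_left this hqpos
      have hmj : m ≤ j := by
        by_contra hlt
        push Not at hlt
        rw [hDj] at h12
        have h13 : qq m = 2 * 4 ^ m := by
          unfold qq
          rw [pow_succ, pow_mul]
          norm_num
          ring
        have h14 : (2 ^ j) ^ 2 = 4 ^ j := by
          rw [← pow_mul, mul_comm, pow_mul]; norm_num
        rw [h13, h14] at h12
        have h15 : 4 ^ m ≤ 4 ^ j := by omega
        have h16 : 4 ^ j < 4 ^ m := Nat.pow_lt_pow_right (by norm_num) hlt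
        omega
      obtain ⟨k, hk⟩ : ∃ k, j = m + k := ⟨j - m, by omega⟩
      refine ⟨(2 ^ k : ℕ), ?_⟩
      have hrq : (rr m : ℂ) * 2 ^ m = (qq m : ℂ) := by
        unfold rr qq
        push_cast
        rw [← pow_add]
        congr 1
        omega
      have hDk : (D : ℂ) = 2 ^ m * 2 ^ k := by
        rw [hDj, hk, pow_add]
        push_cast
        ring
      rw [hDk]
      push_cast
      field_simp
      exact hrq

end Cfsg.Agent.Lib.Helper76_SzChar_PKQ1
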