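import Cfsg.Agent.Lib.Helper37_SzCharDataE
import Cfsg.Agent.Lib.Helper76_SzChar_PKQ1
import Cfsg.Agent.Lib.Helper76_SzChar_PKC
import Cfsg.Agent.Lib.Helper17_SzChar_PKT1
import Cfsg.Agent.Lib.Helper17_SzChar_PKT3
import Cfsg.Agent.Lib.Helper21_SzChar_PKT2Xcore
import Cfsg.Agent.Lib.Helper21_SzChar_PKT2Ycore
import Cfsg.Agent.Lib.Helper21_SzChar_PKT2Zcore
import Cfsg.Agent.Lib.Helper25_SzChar_PKF
import Cfsg.Agent.Lib.Helper57_FrobNorm
import Cfsg.Prelude.Def_DegreeGraph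

/-!
# The character degrees of the Suzuki groups (helper37)

`charDegrees_eq` : a group with Suzuki data has
`cd = {1, q², q²+1, (q-1)(q-r+1), (q-1)(q+r+1), 2^m (q-1)}`;
`charDegrees_Sz` : this holds for `Cfsg.Sz F m`.
-/

set_option autoImplicit false
set_option linter.unusedSectionVars false
set_option linter.unusedVariables false

namespace Cfsg.Agent.Helper37SzChar

open scoped ComplexConjugate Classical
open Cfsg Cfsg.Agent.Helper37TI Cfsg.Agent.Helper37Sz

section Assembly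

variable {G : Type*} [Group G] [Fintype G] {m : ℕ}

theorem centralizer_eq_of_cent {K : Subgroup G} (hcomm : ∀ a ∈ K, ∀ b ∈ K, a * b = b * a)
    (hcent : ∀ k ∈ K, k ≠ 1 → ∀ g : G, g * k = k * g → g ∈ K) {k : G} (hk : k ∈ K) (hk1 : k ≠ 1) :
    Subgroup.centralizer ({k} : Set G) = K := by
  ext x
  rw [Subgroup.mem_centralizer_iff]
  constructor
  · intro h
    exact hcent k hk hk1 x (h k rfl).symm
  · intro hx y hy
    rw [Set.mem_singleton_iff] at hy
    rw [hy]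
    exact hcomm k hk x hx

theorem charDegrees_eq_of (Fam : Cfsg.Agent.Lib.Helper21_SzChar_PKT2Common.FamilyStmt G)
    (D : SzData G m) :
    Cfsg.charDegrees G = {1, qq m ^ 2, qq m ^ 2 + 1, (qq m - 1) * (qq m - rr m + 1),
      (qq m - 1) * (qq m + rr m + 1), 2 ^ m * (qq m - 1)} := by
  obtain ⟨𝒦, hdeg, hall, h1, h2, h3, h4⟩ := Cfsg.Agent.Lib.Helper17_SzChar_PKT3.known_chars_of D
    (Cfsg.Agent.Lib.Helper17_SzChar_PKT1.steinberg D)
    (Cfsg.Agent.Lib.Helper21_SzChar_PKT2Xcore.family_H_core Fam D)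
    (Cfsg.Agent.Lib.Helper21_SzChar_PKT2Ycore.family_A1_core Fam D)
    (Cfsg.Agent.Lib.Helper21_SzChar_PKT2Zcore.family_A2_core Fam D)
  have hA1 : ∃ a ∈ D.A₁, a ≠ 1 := by
    have hc : 1 < Nat.card D.A₁ := by
      rw [D.card_A₁]
      have := qq_pos m
      omega
    haveI : Nontrivial D.A₁ := Finite.one_lt_card_iff_nontrivial.1 hc
    obtain ⟨a, ha⟩ := exists_ne (1 : D.A₁)
    exact ⟨a, a.2, fun h => ha (Subtype.ext h)⟩
  have hcH : ∀ h ∈ D.H, h ≠ 1 → Nat.card (Subgroup.centralizer ({h} : Set G)) = qq m - 1 := by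
    intro h hh hh1
    rw [centralizer_eq_of_cent D.comm_H D.cent_H hh hh1, D.card_H]
  have hcA : ∀ a ∈ D.A₁, a ≠ 1 →
      Nat.card (Subgroup.centralizer ({a} : Set G)) = qq m + rr m + 1 := by
    intro a ha ha1
    rw [centralizer_eq_of_cent D.comm_A₁ D.cent_A₁ ha ha1, D.card_A₁]
  obtain ⟨⟨χ₀, hχ₀⟩, hrest⟩ := Cfsg.Agent.Lib.Helper76_SzChar_PKC.completion m D.hm D.card_G D.H D.A₁
    D.card_H hA1 hcH hcA 𝒦 h1 h2 h3 h4
  ext d
  constructor
  · rintro ⟨χ, rfl⟩
    by_cases hχ : χ ∈ 𝒦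
    · have := hdeg χ hχ
      simp only [Set.mem_insert_iff, Set.mem_singleton_iff] at this ⊢
      tauto
    · rw [hrest χ hχ]
      simp only [Set.mem_insert_iff, Set.mem_singleton_iff]
      tauto
  · intro hd
    simp only [Set.mem_insert_iff, Set.mem_singleton_iff] at hd
    have key : ∀ d' ∈ ({1, qq m ^ 2, qq m ^ 2 + 1,
        (qq m - 1) * (qq m - rr m + 1), (qq m - 1) * (qq m + rr m + 1)} : Set ℕ),
        d' ∈ Cfsg.charDegrees G := by
      intro d' hd'
      obtain ⟨χ, -, hχ⟩ := hall d' hd'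
      exact ⟨χ, hχ⟩
    rcases hd with rfl | rfl | rfl | rfl | rfl | rfl
    · exact key _ (by simp)
    · exact key _ (by simp)
    · exact key _ (by simp)
    · exact key _ (by simp)
    · exact key _ (by simp)
    · exact ⟨χ₀, hrest χ₀ hχ₀⟩

theorem charDegrees_eq (D : SzData G m) :
    Cfsg.charDegrees G = {1, qq m ^ 2, qq m ^ 2 + 1, (qq m - 1) * (qq m - rr m + 1),
      (qq m - 1) * (qq m + rr m + 1), 2 ^ m * (qq m - 1)} :=
  charDegrees_eq_of (fun S i hcomm hcent e he hK c hc ε hε hdiv bg hbg_inv hbg_one hbg_gen hnorm =>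
    Cfsg.Agent.Lib.Helper25_SzChar_PKF.family S i hcomm hcent e he hK c hc ε hε hdiv bg hbg_inv
      hbg_one hbg_gen hnorm) D

end Assembly

section Concrete

variable {F : Type*} [Field F] [Fintype F] {m : ℕ}

theorem charDegrees_Sz (hm : 1 ≤ m) (hF : Fintype.card F = 2 ^ (2 * m + 1)) :
    Cfsg.charDegrees (Cfsg.Sz F m) = {1, qq m ^ 2, qq m ^ 2 + 1, (qq m - 1) * (qq m - rr m + 1),
      (qq m - 1) * (qq m + rr m + 1), 2 ^ m * (qq m - 1)} := by
  haveI : Fintype (Cfsg.Sz F m) := Fintype.ofFinite _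
  obtain ⟨D⟩ := nonempty_szData (F := F) (m := m) hm hF (fun h2 S hS Z hP hZ hZc hcomm hkey => by
    haveI : Fintype (Qsub h2 hS m) := Fintype.ofFinite _
    exact Cfsg.Agent.Lib.Helper76_SzChar_PKQ1.tau_isGeneralizedCharacter m Z hP hZ hZc hcomm hkey)
  exact charDegrees_eq D

end Concrete

section Transport

variable {S : Type*} {T : Type*} [Group S] [Group T]

theorem charDegrees_subset_of_mulEquiv (e : S ≃* T) : Cfsg.charDegrees T ⊆ Cfsg.charDegrees S := by
  rintro d ⟨χ, rfl⟩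
  refine ⟨⟨fun x => (χ : T → ℂ) (e x),
    Cfsg.Agent.Lib.Helper57_FrobNorm.isIrrCharacter_comp_surjective e.toMonoidHom e.surjective
      χ.2⟩, ?_⟩
  unfold Cfsg.charDegree
  simp

theorem charDegrees_eq_of_mulEquiv (e : S ≃* T) : Cfsg.charDegrees S = Cfsg.charDegrees T :=
  Set.Subset.antisymm (charDegrees_subset_of_mulEquiv e.symm) (charDegrees_subset_of_mulEquiv e)

end Transport

end Cfsg.Agent.Helper37SzChar
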