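import Cfsg.Agent.Lib.Helper37_SzCharDefs

/-!
# S4775 package PK-G: the graph arithmetic for the degree set of `Sz(q)` (helper37)
-/

set_option autoImplicit false

namespace Cfsg.Agent.Lib.Helper37_SzChar_PKG

open Cfsg.Agent.Helper37SzChar

theorem prime_dvd_two_pow {p k : ℕ} (hp : p.Prime) (h : p ∣ 2 ^ k) : p = 2 :=
  (Nat.prime_dvd_prime_iff_eq hp Nat.prime_two).1 (hp.dvd_of_dvd_pow h)

theorem mul_dvd_of_ne {a b n : ℕ} (ha : a.Prime) (hb : b.Prime) (hab : a ≠ b) (h1 : a ∣ n)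
    (h2 : b ∣ n) : a * b ∣ n :=
  Nat.Coprime.mul_dvd_of_dvd_of_dvd ((Nat.coprime_primes ha hb).2 hab) h1 h2

theorem graph_sz (m : ℕ) (hm : 1 ≤ m) (D : Set ℕ)
    (hD : D = {1, qq m ^ 2, qq m ^ 2 + 1, (qq m - 1) * (qq m - rr m + 1),
      (qq m - 1) * (qq m + rr m + 1), 2 ^ m * (qq m - 1)}) :
    {p : ℕ | p.Prime ∧ ∃ d ∈ D, p ∣ d} =
      {p : ℕ | p.Prime ∧ (p = 2 ∨ p ∣ (qq m - 1) * (qq m ^ 2 + 1))} ∧
    ∀ a b : ℕ, (a ≠ b ∧ a.Prime ∧ b.Prime ∧ ∃ d ∈ D, a * b ∣ d) ↔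
      (a ≠ b ∧ a.Prime ∧ b.Prime ∧
        ((a ∣ (qq m - 1) * (qq m ^ 2 + 1) ∧ b ∣ (qq m - 1) * (qq m ^ 2 + 1)) ∨
          (a = 2 ∧ b ∣ qq m - 1) ∨ (b = 2 ∧ a ∣ qq m - 1))) := by
  have hn := n1_mul_n2 m
  set Q := qq m with hQ
  set x := Q - 1 with hx
  set n1 := Q + rr m + 1 with hn1
  set n2 := Q - rr m + 1 with hn2
  have hQ2 : Q ^ 2 = 2 ^ (2 * (2 * m + 1)) := by
    rw [hQ]; unfold qq; rw [← pow_mul, mul_comm]
  have hmemD : ∀ d, d ∈ D ↔ d = 1 ∨ d = Q ^ 2 ∨ d = Q ^ 2 + 1 ∨ d = x * n2 ∨ d = x * n1 ∨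
      d = 2 ^ m * x := by
    intro d
    rw [hD]
    simp only [Set.mem_insert_iff, Set.mem_singleton_iff]
  have h2m : 2 ∣ 2 ^ m := dvd_pow_self 2 (by omega)
  -- divisors of `N`
  have hN1 : x * n1 ∣ x * (Q ^ 2 + 1) := mul_dvd_mul_left x ⟨n2, hn.symm⟩
  have hN2 : x * n2 ∣ x * (Q ^ 2 + 1) := mul_dvd_mul_left x ⟨n1, by rw [mul_comm]; exact hn.symm⟩
  have hNcases : ∀ p : ℕ, p.Prime → p ∣ x * (Q ^ 2 + 1) → p ∣ x ∨ p ∣ n1 ∨ p ∣ n2 := by
    intro p hp h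
    rcases (Nat.Prime.dvd_mul hp).1 h with h | h
    · exact Or.inl h
    · rw [← hn] at h
      rcases (Nat.Prime.dvd_mul hp).1 h with h | h
      · exact Or.inr (Or.inl h)
      · exact Or.inr (Or.inr h)
  constructor
  · ext p
    simp only [Set.mem_ofPred_eq]
    constructor
    · rintro ⟨hp, d, hd, hpd⟩
      refine ⟨hp, ?_⟩
      rcases (hmemD d).1 hd with rfl | rfl | rfl | rfl | rfl | rfl
      · exact absurd (Nat.dvd_one.1 hpd) hp.ne_one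
      · rw [hQ2] at hpd
        exact Or.inl (prime_dvd_two_pow hp hpd)
      · exact Or.inr (dvd_mul_of_dvd_right hpd _)
      · exact Or.inr (dvd_trans hpd hN2)
      · exact Or.inr (dvd_trans hpd hN1)
      · rcases (Nat.Prime.dvd_mul hp).1 hpd with h | h
        · exact Or.inl (prime_dvd_two_pow hp h)
        · exact Or.inr (dvd_mul_of_dvd_left h _)
    · rintro ⟨hp, h | h⟩
      · refine ⟨hp, Q ^ 2, (hmemD _).2 (Or.inr (Or.inl rfl)), ?_⟩
        rw [h, hQ2]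
        exact dvd_pow_self 2 (by omega)
      · refine ⟨hp, ?_⟩
        rcases (Nat.Prime.dvd_mul hp).1 h with h | h
        · exact ⟨2 ^ m * x, (hmemD _).2 (by simp), dvd_mul_of_dvd_right h _⟩
        · exact ⟨Q ^ 2 + 1, (hmemD _).2 (by simp), h⟩
  · intro a b
    constructor
    · rintro ⟨hab, ha, hb, d, hd, habd⟩
      refine ⟨hab, ha, hb, ?_⟩
      have had : a ∣ d := dvd_trans (dvd_mul_right a b) habd
      have hbd : b ∣ d := dvd_trans (dvd_mul_left b a) habd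
      rcases (hmemD d).1 hd with rfl | rfl | rfl | rfl | rfl | rfl
      · exact absurd (Nat.dvd_one.1 had) ha.ne_one
      · rw [hQ2] at had hbd
        exact absurd ((prime_dvd_two_pow ha had).trans (prime_dvd_two_pow hb hbd).symm) hab
      · exact Or.inl ⟨dvd_mul_of_dvd_right had _, dvd_mul_of_dvd_right hbd _⟩
      · exact Or.inl ⟨dvd_trans had hN2, dvd_trans hbd hN2⟩
      · exact Or.inl ⟨dvd_trans had hN1, dvd_trans hbd hN1⟩
      · rcases (Nat.Prime.dvd_mul ha).1 had with h | h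
        · have ha2 := prime_dvd_two_pow ha h
          rcases (Nat.Prime.dvd_mul hb).1 hbd with h' | h'
          · exact absurd (ha2.trans (prime_dvd_two_pow hb h').symm) hab
          · exact Or.inr (Or.inl ⟨ha2, h'⟩)
        · rcases (Nat.Prime.dvd_mul hb).1 hbd with h' | h'
          · exact Or.inr (Or.inr ⟨prime_dvd_two_pow hb h', h⟩)
          · exact Or.inl ⟨dvd_mul_of_dvd_left h _, dvd_mul_of_dvd_left h' _⟩
    · rintro ⟨hab, ha, hb, h⟩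
      refine ⟨hab, ha, hb, ?_⟩
      rcases h with ⟨h1, h2⟩ | ⟨rfl, h⟩ | ⟨rfl, h⟩
      · have mQ : ∀ e, e ∣ Q ^ 2 + 1 → ∃ d ∈ D, e ∣ d := fun e he =>
          ⟨Q ^ 2 + 1, (hmemD _).2 (by simp), he⟩
        have m1 : ∀ e, e ∣ x * n1 → ∃ d ∈ D, e ∣ d := fun e he =>
          ⟨x * n1, (hmemD _).2 (by simp), he⟩
        have m2 : ∀ e, e ∣ x * n2 → ∃ d ∈ D, e ∣ d := fun e he =>
          ⟨x * n2, (hmemD _).2 (by simp), he⟩
        have mx : ∀ e, e ∣ x → ∃ d ∈ D, e ∣ d := fun e he =>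
          ⟨2 ^ m * x, (hmemD _).2 (by simp), dvd_mul_of_dvd_right he _⟩
        rcases hNcases a ha h1 with ha1 | ha1 | ha1 <;> rcases hNcases b hb h2 with hb1 | hb1 | hb1
        · exact mx _ (mul_dvd_of_ne ha hb hab ha1 hb1)
        · exact m1 _ (mul_dvd_mul ha1 hb1)
        · exact m2 _ (mul_dvd_mul ha1 hb1)
        · exact m1 _ (by rw [mul_comm a b]; exact mul_dvd_mul hb1 ha1)
        · exact mQ _ (by rw [← hn]; exact dvd_mul_of_dvd_left (mul_dvd_of_ne ha hb hab ha1 hb1) _)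
        · exact mQ _ (by rw [← hn]; exact mul_dvd_mul ha1 hb1)
        · exact m2 _ (by rw [mul_comm a b]; exact mul_dvd_mul hb1 ha1)
        · exact mQ _ (by rw [← hn, mul_comm a b]; exact mul_dvd_mul hb1 ha1)
        · exact mQ _ (by rw [← hn]; exact dvd_mul_of_dvd_right (mul_dvd_of_ne ha hb hab ha1 hb1) _)
      · exact ⟨2 ^ m * x, (hmemD _).2 (by simp), mul_dvd_mul h2m h⟩
      · exact ⟨2 ^ m * x, (hmemD _).2 (by simp), by rw [mul_comm a 2]; exact mul_dvd_mul h2m h⟩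

end Cfsg.Agent.Lib.Helper37_SzChar_PKG
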