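import Mathlib
import Cfsg.Agent.Lib.Helper37_SzBasic

/-!
# Trace computations in the Suzuki group (helper37)

Traces of the `4 × 4` matrices `w u(c,d)`, `u(a,b) w u(a',b') w`, `h(t) w u(0,d)` and
`w · u(a,b) h(t) w u(a,b)⁻¹`.
-/

set_option autoImplicit false
set_option linter.unusedSectionVars false
open Cfsg

namespace Cfsg.Agent.Helper37SzCov

open Cfsg.Agent.Helper37Sz
open Cfsg.Agent.S0335 (sf)
open Matrix

variable {F : Type*} [Field F] {S : F →+* F}

theorem uMat_mul_wMat (a b : F) :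
    uMat S a b * wMat = !![sf S a b, b + S a * a, a, 1; b, S a, 1, 0; a, 1, 0, 0; 1, 0, 0, 0] := by
  ext i j
  fin_cases i <;> fin_cases j <;> simp [uMat, wMat, Matrix.mul_apply, Fin.sum_univ_four]

theorem trace_w_u (c d : F) : Matrix.trace (wMat * uMat S c d) = S c + sf S c d := by
  rw [Matrix.trace_mul_comm, uMat_mul_wMat]
  simp [Matrix.trace, Fin.sum_univ_four]
  ring

theorem trace_uwuw (a b a' b' : F) :
    Matrix.trace (uMat S a b * wMat * (uMat S a' b' * wMat))
      = b * (S a' * a') + b' * (S a * a) + S a * S a' + sf S a b * sf S a' b'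
        + (b * b' + b * b') + (a * a' + a * a') + (1 + 1 + 1 + 1) := by
  rw [uMat_mul_wMat, uMat_mul_wMat]
  simp [Matrix.trace, Fin.sum_univ_four]
  ring

theorem trace_hwu {t : F} (d : F) :
    Matrix.trace (hMat S t * wMat * uMat S 0 d) = (S t * t ^ 2)⁻¹ * S d := by
  simp [Matrix.trace, Fin.sum_univ_four, hMat, wMat, uMat, sf]

theorem uhw_eq (a b t : F) :
    uMat S a b * hMat S t * wMat
      = !![sf S a b * (S t * t ^ 2)⁻¹, (b + S a * a) * (S t)⁻¹, a * S t, S t * t ^ 2;
           b * (S t * t ^ 2)⁻¹, S a * (S t)⁻¹, S t, 0;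
           a * (S t * t ^ 2)⁻¹, (S t)⁻¹, 0, 0;
           (S t * t ^ 2)⁻¹, 0, 0, 0] := by
  ext i j
  fin_cases i <;> fin_cases j <;> simp [uMat, hMat, wMat, Matrix.mul_apply, Fin.sum_univ_four]

/-- the trace of `w · (u h w u')` -/
theorem trace_case1 (a b b' t : F) :
    Matrix.trace (wMat * (uMat S a b * hMat S t * wMat * uMat S a b'))
      = (S t * t ^ 2)⁻¹ * (1 + a * a + b * (b' + S a * a) + sf S a b * sf S a b')
        + (S t)⁻¹ * (1 + S a * S a + (b + S a * a) * b')
        + S t * (1 + a * a) + S t * t ^ 2 := by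
  rw [Matrix.trace_mul_comm, Matrix.mul_assoc (uMat S a b * hMat S t * wMat), uMat_mul_wMat, uhw_eq]
  simp [Matrix.trace, Fin.sum_univ_four]
  ring

end Cfsg.Agent.Helper37SzCov
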