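import Cfsg.Agent.Lib.Helper37_SzOrd4
import Cfsg.Agent.Lib.Helper6_SzToriClass
import Cfsg.Agent.Lib.Helper46_SzInv
import Cfsg.Agent.Lib.Helper6_SzSubNorm
import Cfsg.Agent.Lib.Helper37_SzCovA
import Cfsg.Agent.Lib.Helper37_SzCovB

/-!
# Conjugacy classes of the Suzuki group via the trace (helper37)

* `trG` : the trace of an element of `Cfsg.Sz F m`;
* `prod_inv_conj` : a product of two involutions without common fixed point is conjugate to some
  `w u(0,d)`, `d ≠ 0`;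
* `classify` : every non-identity element is conjugate to some `w u(0,d)` (`d ≠ 0`), or to an
  involution `u(0,b)`, or to an element `u(a,b)` of order four;
* `conj_of_trG` : an element of trace `S e ≠ 0` is conjugate to `w u(0,e)`.
-/

set_option autoImplicit false
set_option linter.unusedSectionVars false
open Cfsg

namespace Cfsg.Agent.Helper37SzCov

open Cfsg.Agent.Helper37Sz Cfsg.Agent.Helper37SzAut Cfsg.Agent.Helper37SzSub
open Cfsg.Agent.Lib.Helper6_SzCent Cfsg.Agent.Lib.Helper6_SzTori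
open Cfsg.Agent.Lib.Helper6_SzToriClass Cfsg.Agent.Lib.Helper6_SzToriCount
open Cfsg.Agent.S0335 (sf sf_aniso)

variable {F : Type*} [Field F] [Fintype F] {S : F →+* F} {m : ℕ}

/-- the trace of an element of the Suzuki group -/
def trG (g : Cfsg.Sz F m) : F :=
  Matrix.trace ((g : Matrix.SpecialLinearGroup (Fin 4) F) : Matrix (Fin 4) (Fin 4) F)

theorem trG_mul_comm (a b : Cfsg.Sz F m) : trG (a * b) = trG (b * a) := by
  unfold trG
  rw [Subgroup.coe_mul, Subgroup.coe_mul, Matrix.SpecialLinearGroup.coe_mul,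
    Matrix.SpecialLinearGroup.coe_mul, Matrix.trace_mul_comm]

theorem trG_conj (k g : Cfsg.Sz F m) : trG (k * g * k⁻¹) = trG g := by
  rw [trG_mul_comm, ← mul_assoc, inv_mul_cancel, one_mul]

section Coord

variable (h2 : (2 : F) = 0) (hS : ∀ z, S (S z) = z ^ 2) (hSdef : ∀ z, S z = z ^ 2 ^ (m + 1))

theorem uQ_inv' (a b : F) :
    (uQ (m := m) h2 hS hSdef a b)⁻¹ = uQ h2 hS hSdef a (b + S a * a) :=
  Subtype.ext (uSL_inv h2 hS a b)

include h2 in
theorem trG_one : trG (1 : Cfsg.Sz F m) = 0 := by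
  unfold trG
  simp [Matrix.trace]
  linear_combination 2 * h2

theorem trG_uQ (a b : F) : trG (uQ (m := m) h2 hS hSdef a b) = 0 := by
  show Matrix.trace (uMat S a b) = 0
  simp [Matrix.trace, Fin.sum_univ_four, uMat]
  linear_combination 2 * h2

theorem trG_w_u (c d : F) :
    trG (wQ (m := m) h2 hS hSdef * uQ h2 hS hSdef c d) = S c + sf S c d := by
  show Matrix.trace (wMat * uMat S c d) = _
  exact trace_w_u c d

theorem trG_u_w (c d : F) :
    trG (uQ (m := m) h2 hS hSdef c d * wQ h2 hS hSdef) = S c + sf S c d := by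
  rw [trG_mul_comm, trG_w_u]

theorem trG_uwuw (a b a' b' : F) :
    trG (uQ (m := m) h2 hS hSdef a b * wQ h2 hS hSdef * (uQ h2 hS hSdef a' b' * wQ h2 hS hSdef))
      = b * (S a' * a') + b' * (S a * a) + S a * S a' + sf S a b * sf S a' b' := by
  show Matrix.trace (uMat S a b * wMat * (uMat S a' b' * wMat)) = _
  rw [trace_uwuw]
  linear_combination (b * b' + a * a' + 2) * h2

theorem trG_hwu (t : Fˣ) (d : F) :
    trG (hQ (m := m) hS hSdef t * wQ h2 hS hSdef * uQ h2 hS hSdef 0 d)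
      = (S (t : F) * (t : F) ^ 2)⁻¹ * S d := by
  show Matrix.trace (hMat S (t : F) * wMat * uMat S 0 d) = _
  exact trace_hwu d

theorem trG_case1 (a b b' : F) (t : Fˣ) :
    trG (wQ (m := m) h2 hS hSdef *
        (uQ h2 hS hSdef a b * hQ hS hSdef t * wQ h2 hS hSdef * uQ h2 hS hSdef a b'))
      = (S (t : F) * (t : F) ^ 2)⁻¹ * (1 + a * a + b * (b' + S a * a) + sf S a b * sf S a b')
        + (S (t : F))⁻¹ * (1 + S a * S a + (b + S a * a) * b')
        + S (t : F) * (1 + a * a) + S (t : F) * (t : F) ^ 2 := by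
  show Matrix.trace (wMat * (uMat S a b * hMat S (t : F) * wMat * uMat S a b')) = _
  exact trace_case1 a b b' t

/-- an involution not fixing `∞` is conjugate to `w` under the stabiliser of `∞` -/
theorem inv_conj_w (hm : 1 ≤ m) (hF : Fintype.card F = 2 ^ (2 * m + 1)) {i : Cfsg.Sz F m}
    (hi : i * i = 1) (hinf : i • ptInf F m ≠ ptInf F m) :
    ∃ n : Cfsg.Sz F m, n • ptInf F m = ptInf F m ∧ n * i * n⁻¹ = wQ h2 hS hSdef := by
  rcases Cfsg.Agent.Lib.Helper6_SzSubNorm.decompQ hm hF h2 hS hSdef i with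
    ⟨a, b, t, h⟩ | ⟨a, b, a', b', t, h⟩
  · exfalso
    apply hinf
    rw [h]
    exact uQ_hQ_smul_ptInf h2 hS hSdef a b t
  · set n1 : Cfsg.Sz F m := uQ h2 hS hSdef a' b' * hQ hS hSdef t with hn1
    have hn1inf : n1 • ptInf F m = ptInf F m := uQ_hQ_smul_ptInf h2 hS hSdef a' b' t
    obtain ⟨a3, b3, h3⟩ : ∃ a3 b3 : F, n1 * i * n1⁻¹
        = uQ h2 hS hSdef a3 b3 * hQ hS hSdef t * wQ h2 hS hSdef := by
      refine ⟨a' + (t : F) ^ 2 * a, b' + S (t : F) ^ 2 * (t : F) ^ 2 * b + S a' * ((t : F) ^ 2 * a), ?_⟩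
      rw [h]
      have e : n1 * (uQ h2 hS hSdef a b * wQ h2 hS hSdef * n1) * n1⁻¹
          = uQ h2 hS hSdef a' b' * (hQ hS hSdef t * uQ h2 hS hSdef a b) * wQ h2 hS hSdef := by
        rw [hn1]; group
      rw [e, hQ_mul_uQ, ← mul_assoc, uQ_mul]
    set i1 : Cfsg.Sz F m := n1 * i * n1⁻¹ with hi1
    have hi1sq : i1 * i1 = 1 := by
      rw [hi1]
      have : n1 * i * n1⁻¹ * (n1 * i * n1⁻¹) = n1 * (i * i) * n1⁻¹ := by group
      rw [this, hi]; group
    have hi1inf : i1 • ptInf F m = ptAff hSdef a3 b3 := by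
      rw [h3, mul_smul, wQ_smul_ptInf, uQ_hQ_smul_ptAff]
      congr 1 <;> ring
    have hi1back : i1 • ptAff hSdef a3 b3 = ptInf F m := by
      rw [← hi1inf, ← mul_smul, hi1sq, one_smul]
    by_cases hf : sf S a3 b3 = 0
    · obtain ⟨rfl, rfl⟩ := sf_aniso h2 hS hf
      rw [uQ_zero, one_mul] at h3
      obtain ⟨y, hy⟩ := exists_sq hS (t : F)
      have hy0 : y ≠ 0 := by
        rintro rfl
        rw [zero_pow two_ne_zero] at hy
        exact t.ne_zero hy.symm
      set t0 : Fˣ := Units.mk0 y hy0 with ht0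
      have ht0sq : t0⁻¹ * t * t0⁻¹ = 1 := by
        apply Units.ext
        simp only [Units.val_mul, Units.val_inv_eq_inv_val, ht0, Units.val_mk0, Units.val_one]
        rw [← hy]
        field_simp
      refine ⟨hQ hS hSdef t0⁻¹ * n1, ?_, ?_⟩
      · rw [mul_smul, hn1inf, hQ_smul_ptInf]
      · have e : hQ hS hSdef t0⁻¹ * n1 * i * (hQ hS hSdef t0⁻¹ * n1)⁻¹
            = hQ hS hSdef t0⁻¹ * i1 * (hQ hS hSdef t0⁻¹)⁻¹ := by
          rw [hi1]; group
        rw [e, h3, Cfsg.Agent.Lib.Helper6_SzCent.hQ_inv, inv_inv]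
        have e2 : wQ (m := m) h2 hS hSdef * hQ hS hSdef t0
            = hQ hS hSdef t0⁻¹ * wQ h2 hS hSdef := by
          rw [← wQ_mul_hQ_mul_wQ h2 hS hSdef t0, mul_assoc, mul_assoc, wQ_mul_self, mul_one]
        rw [mul_assoc, mul_assoc, e2, ← mul_assoc, ← mul_assoc,
          Cfsg.Agent.Lib.Helper6_SzCent.hQ_mul, Cfsg.Agent.Lib.Helper6_SzCent.hQ_mul, ht0sq, hQ_one,
          one_mul]
    · exfalso
      have h5 : i1 • ptAff hSdef a3 b3 ≠ ptInf F m := by
        rw [h3, mul_smul, Cfsg.Agent.Lib.Helper6_SzSubNorm.wQ_smul_ptAff h2 hS hSdef hf,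
          uQ_hQ_smul_ptAff]
        exact ptAff_ne_ptInf hSdef _ _
      exact h5 hi1back

/-- `u(0,c)` is central in `Q` -/
theorem uQ_central (a b c : F) :
    uQ (m := m) h2 hS hSdef a b * uQ h2 hS hSdef 0 c * (uQ h2 hS hSdef a b)⁻¹
      = uQ h2 hS hSdef 0 c := by
  rw [mul_inv_eq_iff_eq_mul, uQ_mul, uQ_mul]
  congr 1
  · ring
  · rw [map_zero]; ring

/-- a product of two involutions without a common fixed point is conjugate to some `w u(0,d)` -/
theorem prod_inv_conj (hm : 1 ≤ m) (hF : Fintype.card F = 2 ^ (2 * m + 1)) {i j : Cfsg.Sz F m}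
    (hi : i * i = 1) (hj : j * j = 1) (hj1 : j ≠ 1)
    (hno : ∀ p : Cfsg.suzukiOvoid F m, i • p = p → j • p ≠ p) :
    ∃ (k : Cfsg.Sz F m) (d : F), d ≠ 0 ∧
      i * j = k * (wQ h2 hS hSdef * uQ h2 hS hSdef 0 d) * k⁻¹ := by
  obtain ⟨g, b, hjb⟩ := involution_conj hm hF h2 hS hSdef hj
  have hb : b ≠ 0 := by
    rintro rfl
    apply hj1
    rw [hjb, uQ_zero]; group
  set i1 : Cfsg.Sz F m := g⁻¹ * i * g with hi1
  have hi1sq : i1 * i1 = 1 := by
    rw [hi1]
    have : g⁻¹ * i * g * (g⁻¹ * i * g) = g⁻¹ * (i * i) * g := by group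
    rw [this, hi]; group
  have hi1inf : i1 • ptInf F m ≠ ptInf F m := by
    intro h
    apply hno (g • ptInf F m)
    · have e : i = g * i1 * g⁻¹ := by rw [hi1]; group
      rw [e, ← mul_smul, inv_mul_cancel_right, mul_smul, h]
    · rw [hjb, ← mul_smul, inv_mul_cancel_right, mul_smul, uQ_smul_ptInf]
  obtain ⟨n, hn, hnw⟩ := inv_conj_w h2 hS hSdef hm hF hi1sq hi1inf
  obtain ⟨a', b', t, hnabt⟩ := stab_inf hm hF h2 hS hSdef hn
  have hconj : n * uQ h2 hS hSdef 0 b * n⁻¹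
      = uQ h2 hS hSdef 0 (S (t : F) ^ 2 * (t : F) ^ 2 * b) := by
    rw [hnabt]
    have e : uQ h2 hS hSdef a' b' * hQ hS hSdef t * uQ h2 hS hSdef 0 b
          * (uQ h2 hS hSdef a' b' * hQ hS hSdef t)⁻¹
        = uQ h2 hS hSdef a' b' * (hQ hS hSdef t * uQ h2 hS hSdef 0 b * (hQ hS hSdef t)⁻¹)
          * (uQ h2 hS hSdef a' b')⁻¹ := by group
    rw [e, hQ_conj_uQ, mul_zero, uQ_central]
  refine ⟨g * n⁻¹, S (t : F) ^ 2 * (t : F) ^ 2 * b, ?_, ?_⟩
  · have ht : (t : F) ≠ 0 := t.ne_zero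
    have hSt : S (t : F) ≠ 0 := by simp
    exact mul_ne_zero (mul_ne_zero (pow_ne_zero 2 hSt) (pow_ne_zero 2 ht)) hb
  · rw [← hnw, ← hconj, hjb, hi1]
    group

end Coord

/-- a fixed-point-free element is inverted by an involution -/
theorem exists_inverting (hm : 1 ≤ m) (hF : Fintype.card F = 2 ^ (2 * m + 1)) {x : Cfsg.Sz F m}
    (hx : Fpf x) : ∃ j : Cfsg.Sz F m, j * j = 1 ∧ j ≠ 1 ∧ j * x * j⁻¹ = x⁻¹ := by
  obtain ⟨g₁, g₂, hg₁, hg₂, -, -, hn₁, hn₂, hall⟩ := tori_classification hm hF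
  -- reduce to an element of a torus whose normaliser has order `4 |T|`
  suffices key : ∀ g : Cfsg.Sz F m, Fpf g →
      Nat.card (Subgroup.normalizer (torus g : Set (Cfsg.Sz F m))) = 4 * Nat.card (torus g) →
      ∀ y ∈ torus g, ∃ j : Cfsg.Sz F m, j * j = 1 ∧ j ≠ 1 ∧ j * y * j⁻¹ = y⁻¹ by
    have hconj : ∀ g : Cfsg.Sz F m, Fpf g →
        Nat.card (Subgroup.normalizer (torus g : Set (Cfsg.Sz F m))) = 4 * Nat.card (torus g) →
        InY g x → ∃ j : Cfsg.Sz F m, j * j = 1 ∧ j ≠ 1 ∧ j * x * j⁻¹ = x⁻¹ := by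
      intro g hg hN hY
      obtain ⟨-, k, hk⟩ := hY
      obtain ⟨j, hjj, hj1, hjy⟩ := key g hg hN _ hk
      refine ⟨k * j * k⁻¹, ?_, ?_, ?_⟩
      · have : k * j * k⁻¹ * (k * j * k⁻¹) = k * (j * j) * k⁻¹ := by group
        rw [this, hjj]; group
      · intro h
        apply hj1
        have e : j = k⁻¹ * (k * j * k⁻¹) * k := by group
        rw [e, h]; group
      · have e : k * j * k⁻¹ * x * (k * j * k⁻¹)⁻¹ = k * (j * (k⁻¹ * x * k) * j⁻¹) * k⁻¹ := by group
        rw [e, hjy]; group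
    rcases hall x hx with h | h
    · exact hconj g₁ hg₁ hn₁ h
    · exact hconj g₂ hg₂ hn₂ h
  intro g hg hN y hyT
  have hTodd : ¬ 2 ∣ Nat.card (torus g) := by
    intro h
    exact card_sq_add_one_odd hF (dvd_trans h (card_torus_dvd hm hF hg))
  have : Fact (Nat.Prime 2) := ⟨Nat.prime_two⟩
  have h2N : 2 ∣ Nat.card (Subgroup.normalizer (torus g : Set (Cfsg.Sz F m))) := by
    rw [hN]; exact dvd_mul_of_dvd_left (by norm_num) _
  obtain ⟨j', hj'⟩ := exists_prime_orderOf_dvd_card' 2 h2N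
  set j : Cfsg.Sz F m := (j' : Cfsg.Sz F m) with hj
  have hjo : orderOf j = 2 := by rw [hj, Subgroup.orderOf_coe]; exact hj'
  have hjj : j * j = 1 := by
    rw [← pow_two, ← hjo]; exact pow_orderOf_eq_one j
  have hj1 : j ≠ 1 := by
    intro h
    rw [h, orderOf_one] at hjo
    omega
  have hjinv : j⁻¹ = j := inv_eq_of_mul_eq_one_left hjj
  have hjN : ∀ c, c ∈ torus g → j * c * j⁻¹ ∈ torus g := by
    intro c hc
    exact (Subgroup.mem_normalizer_iff.mp j'.2 c).mp hc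
  have hfpf : ∀ c, c ∈ torus g → j * c * j⁻¹ = c → c = 1 := by
    intro c hc hcj
    by_contra hc1
    have hjc : j ∈ torus c := by
      rw [mem_torus_iff]
      have := congrArg (fun z => z * j) hcj
      simpa [mul_assoc] using this
    rw [torus_eq hm hF hg hc hc1] at hjc
    have h3 : orderOf (⟨j, hjc⟩ : torus g) ∣ Nat.card (torus g) := orderOf_dvd_natCard _
    rw [Subgroup.orderOf_mk, hjo] at h3
    exact hTodd h3
  refine ⟨j, hjj, hj1, ?_⟩
  have hw : y * (j * y * j⁻¹) ∈ torus g := (torus g).mul_mem hyT (hjN y hyT)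
  have hfix : j * (y * (j * y * j⁻¹)) * j⁻¹ = y * (j * y * j⁻¹) := by
    have h3 : j * (y * (j * y * j⁻¹)) * j⁻¹ = (j * y * j⁻¹) * y := by
      rw [hjinv]
      calc j * (y * (j * y * j)) * j = j * y * j * y * (j * j) := by group
        _ = j * y * j * y := by rw [hjj, mul_one]
    rw [h3]
    exact torus_comm hm hF hg (hjN y hyT) hyT
  have h4 := hfpf _ hw hfix
  exact (eq_inv_of_mul_eq_one_right h4)

section Coord2

variable (h2 : (2 : F) = 0) (hS : ∀ z, S (S z) = z ^ 2) (hSdef : ∀ z, S z = z ^ 2 ^ (m + 1))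

/-- the classification of the non-identity elements up to conjugacy -/
theorem classify (hm : 1 ≤ m) (hF : Fintype.card F = 2 ^ (2 * m + 1)) {g : Cfsg.Sz F m}
    (hg : g ≠ 1) :
    (∃ (k : Cfsg.Sz F m) (d : F), d ≠ 0 ∧
      g = k * (wQ h2 hS hSdef * uQ h2 hS hSdef 0 d) * k⁻¹) ∨
    (∃ (k : Cfsg.Sz F m) (b : F), b ≠ 0 ∧ g = k * uQ h2 hS hSdef 0 b * k⁻¹) ∨
    (∃ (k : Cfsg.Sz F m) (a b : F), a ≠ 0 ∧ g = k * uQ h2 hS hSdef a b * k⁻¹) := by
  by_cases hfp : Fpf g
  · -- fixed-point-free: a product of two involutions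
    left
    obtain ⟨j, hjj, hj1, hjg⟩ := exists_inverting hm hF hfp
    have hjinv : j⁻¹ = j := inv_eq_of_mul_eq_one_left hjj
    have hjg2 : (j * g) * (j * g) = 1 := by
      have : (j * g) * (j * g) = (j * g * j⁻¹) * g := by rw [hjinv]; group
      rw [this, hjg, inv_mul_cancel]
    have hjg1 : j * g ≠ 1 := by
      intro h
      have : g = j := by
        have := congrArg (fun z => j * z) h
        simp only [← mul_assoc, hjj, one_mul, mul_one] at this
        exact this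
      exact hfp.odd_order hm hF (by rw [this, orderOf_eq_prime (by rw [pow_two]; exact hjj) hj1])
    obtain ⟨k, d, hd, hk⟩ := prod_inv_conj h2 hS hSdef hm hF hjj hjg2 hjg1 (by
      intro p hp hp2
      apply hfp p
      have : g = j * (j * g) := by rw [← mul_assoc, hjj, one_mul]
      rw [this, mul_smul, hp2, hp])
    refine ⟨k, d, hd, ?_⟩
    rw [← hk, ← mul_assoc, hjj, one_mul]
  · -- `g` fixes a point
    unfold Fpf at hfp
    push Not at hfp
    obtain ⟨p, hp⟩ := hfp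
    obtain ⟨k0, hk0⟩ : ∃ k0 : Cfsg.Sz F m, k0 • p = ptInf F m := by
      rcases pt_cases hSdef p with rfl | ⟨x, y, rfl⟩
      · exact ⟨1, one_smul _ _⟩
      · obtain ⟨k, hk, -⟩ := exists_smul_pair h2 hS hSdef (ptAff_ne_ptInf hSdef x y)
        exact ⟨k, hk⟩
    set g' : Cfsg.Sz F m := k0 * g * k0⁻¹ with hg'
    have hg'inf : g' • ptInf F m = ptInf F m := by
      rw [hg', ← hk0, ← mul_smul, inv_mul_cancel_right, mul_smul, hp]
    have hgg' : g = k0⁻¹ * g' * k0⁻¹⁻¹ := by rw [hg']; group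
    have hg'1 : g' ≠ 1 := by
      intro h
      apply hg
      rw [hgg', h]; group
    obtain ⟨a, b, t, habt⟩ := stab_inf hm hF h2 hS hSdef hg'inf
    by_cases ht : t = 1
    · rw [ht, hQ_one, mul_one] at habt
      right
      by_cases ha : a = 0
      · left
        refine ⟨k0⁻¹, b, ?_, ?_⟩
        · rintro rfl
          apply hg'1
          rw [habt, ha, uQ_zero]
        · rw [hgg', habt, ha]
      · right
        exact ⟨k0⁻¹, a, b, ha, by rw [hgg', habt]⟩
    · left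
      obtain ⟨x, y, hxy⟩ := exists_fixed_aff h2 hS hSdef a b ht
      rw [← habt] at hxy
      obtain ⟨k1, hk1inf, hk1zero⟩ := exists_smul_pair h2 hS hSdef (ptAff_ne_ptInf hSdef x y).symm
      set g'' : Cfsg.Sz F m := k1 * g' * k1⁻¹ with hg''
      have h1 : g'' • ptInf F m = ptInf F m := by
        rw [hg'', ← hk1inf, ← mul_smul, inv_mul_cancel_right, mul_smul, hg'inf]
      have h0 : g'' • ptAff hSdef 0 0 = ptAff hSdef 0 0 := by
        rw [hg'', ← hk1zero, ← mul_smul, inv_mul_cancel_right, mul_smul, hxy]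
      obtain ⟨t', ht'⟩ := fix_two_eq_hQ hm hF h2 hS hSdef h1 h0
      have hg'g'' : g' = k1⁻¹ * g'' * k1⁻¹⁻¹ := by rw [hg'']; group
      have ht'1 : t' ≠ 1 := by
        rintro rfl
        apply hg'1
        rw [hg'g'', ht', hQ_one]; group
      have hwinv : (wQ (m := m) h2 hS hSdef)⁻¹ = wQ h2 hS hSdef :=
        inv_eq_of_mul_eq_one_left (wQ_mul_self h2 hS hSdef)
      have hjj : (wQ (m := m) h2 hS hSdef * hQ hS hSdef t')
          * (wQ h2 hS hSdef * hQ hS hSdef t') = 1 := by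
        have e : (wQ (m := m) h2 hS hSdef * hQ hS hSdef t') * (wQ h2 hS hSdef * hQ hS hSdef t')
            = (wQ h2 hS hSdef * hQ hS hSdef t' * wQ h2 hS hSdef) * hQ hS hSdef t' := by group
        rw [e, wQ_mul_hQ_mul_wQ, Cfsg.Agent.Lib.Helper6_SzCent.hQ_mul, inv_mul_cancel, hQ_one]
      have hj1 : wQ (m := m) h2 hS hSdef * hQ hS hSdef t' ≠ 1 := by
        intro h
        have h3 : (wQ (m := m) h2 hS hSdef * hQ hS hSdef t') • ptInf F m = ptInf F m := by
          rw [h, one_smul]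
        rw [mul_smul, hQ_smul_ptInf, wQ_smul_ptInf] at h3
        exact ptAff_ne_ptInf hSdef 0 0 h3
      obtain ⟨k, d, hd, hk⟩ := prod_inv_conj h2 hS hSdef hm hF (wQ_mul_self h2 hS hSdef) hjj hj1 (by
        intro q hq hq2
        have hq3 : hQ hS hSdef t' • q = q := by
          have := congrArg (fun z => wQ (m := m) h2 hS hSdef • z) hq2
          simp only [← mul_smul, ← mul_assoc, wQ_mul_self, one_mul] at this
          rw [this, hq]
        rcases pt_cases hSdef q with rfl | ⟨x', y', rfl⟩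
        · rw [wQ_smul_ptInf] at hq
          exact ptAff_ne_ptInf hSdef 0 0 hq
        · by_cases hxy' : x' = 0 ∧ y' = 0
          · obtain ⟨rfl, rfl⟩ := hxy'
            rw [wQ_smul_ptAff_zero] at hq
            exact ptAff_ne_ptInf hSdef 0 0 hq.symm
          · exact ht'1 (hQ_fix_third h2 hS hSdef hxy' hq3))
      rw [← mul_assoc, wQ_mul_self, one_mul] at hk
      refine ⟨k0⁻¹ * k1⁻¹ * k, d, hd, ?_⟩
      rw [hgg', hg'g'', ht', hk]
      group

theorem trG_std (d : F) :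
    trG (wQ (m := m) h2 hS hSdef * uQ h2 hS hSdef 0 d) = S d := by
  rw [trG_w_u]
  simp [sf]

/-- the trace determines the conjugacy class of the elements of non-zero trace -/
theorem conj_of_trG (hm : 1 ≤ m) (hF : Fintype.card F = 2 ^ (2 * m + 1)) {g : Cfsg.Sz F m} {e : F}
    (he : e ≠ 0) (htr : trG g = S e) :
    ∃ k : Cfsg.Sz F m, g = k * (wQ h2 hS hSdef * uQ h2 hS hSdef 0 e) * k⁻¹ := by
  have hSe : S e ≠ 0 := by simpa using he
  have hg : g ≠ 1 := by
    rintro rfl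
    rw [trG_one h2] at htr
    exact hSe htr.symm
  rcases classify h2 hS hSdef hm hF hg with ⟨k, d, -, hk⟩ | ⟨k, b, -, hk⟩ | ⟨k, a, b, -, hk⟩
  · rw [hk, trG_conj, trG_std] at htr
    have : d = e := S.injective htr
    subst this
    exact ⟨k, hk⟩
  · rw [hk, trG_conj, trG_uQ h2] at htr
    exact absurd htr.symm hSe
  · rw [hk, trG_conj, trG_uQ h2] at htr
    exact absurd htr.symm hSe

end Coord2

end Cfsg.Agent.Helper37SzCov
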