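import Cfsg.Agent.Lib.Helper37_SzCovC

/-!
# Squares of conjugacy classes in the Suzuki groups (helper37)

`InSq x g` : `g` is a product of two conjugates of `x`.  For `G = Cfsg.Sz F m`, `q ≥ 8`, every
element `x` of order greater than two has `InSq x g` for all `g ≠ 1` (`cover_main`).
-/

set_option autoImplicit false
set_option linter.unusedSectionVars false
open Cfsg

namespace Cfsg.Agent.Helper37SzCov

open Cfsg.Agent.Helper37Sz Cfsg.Agent.Helper37SzAut Cfsg.Agent.Helper37SzSub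
open Cfsg.Agent.Lib.Helper6_SzCent
open Cfsg.Agent.S0335 (sf sf_aniso)

section General

variable {G : Type*} [Group G]

/-- `g` is a product of two conjugates of `x` -/
def InSq (x g : G) : Prop := ∃ u v : G, g = (u * x * u⁻¹) * (v * x * v⁻¹)

theorem InSq.conj_right {x g : G} (h : InSq x g) (k : G) : InSq x (k * g * k⁻¹) := by
  obtain ⟨u, v, rfl⟩ := h
  exact ⟨k * u, k * v, by group⟩

theorem InSq.conj_left {x g : G} (h : InSq x g) (k : G) : InSq (k * x * k⁻¹) g := by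
  obtain ⟨u, v, rfl⟩ := h
  exact ⟨u * k⁻¹, v * k⁻¹, by group⟩

theorem InSq.inv {x g : G} (h : InSq x g) : InSq x⁻¹ g⁻¹ := by
  obtain ⟨u, v, rfl⟩ := h
  exact ⟨v, u, by group⟩

theorem InSq.of_conj {x A B : G} (hA : ∃ k : G, A = k * x * k⁻¹) (hB : ∃ k : G, B = k * x * k⁻¹) :
    InSq x (A * B) := by
  obtain ⟨u, rfl⟩ := hA
  obtain ⟨v, rfl⟩ := hB
  exact ⟨u, v, rfl⟩

theorem InSq.of_eq_conj {x g g' : G} (h : InSq x g') (hg : ∃ k : G, g = k * g' * k⁻¹) :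
    InSq x g := by
  obtain ⟨k, rfl⟩ := hg
  exact h.conj_right k

theorem conj_or_conj_inv_of_std {x y r : G}
    (hx : ∃ k : G, k * x * k⁻¹ = r ∨ k * x * k⁻¹ = r⁻¹)
    (hy : ∃ k : G, k * y * k⁻¹ = r ∨ k * y * k⁻¹ = r⁻¹) :
    (∃ g : G, x = g * y * g⁻¹) ∨ (∃ g : G, x = g * y⁻¹ * g⁻¹) := by
  obtain ⟨k, hk⟩ := hx
  obtain ⟨l, hl⟩ := hy
  have ex : x = k⁻¹ * (k * x * k⁻¹) * k := by group
  rcases hk with hk | hk <;> rcases hl with hl | hl
  · left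
    refine ⟨k⁻¹ * l, ?_⟩
    rw [ex, hk, ← hl]; group
  · right
    refine ⟨k⁻¹ * l, ?_⟩
    have : r = (l * y * l⁻¹)⁻¹ := by rw [hl, inv_inv]
    rw [ex, hk, this]; group
  · right
    refine ⟨k⁻¹ * l, ?_⟩
    rw [ex, hk, ← hl]; group
  · left
    refine ⟨k⁻¹ * l, ?_⟩
    rw [ex, hk, ← hl]; group

end General

variable {F : Type*} [Field F] [Fintype F] {S : F →+* F} {m : ℕ}

section Coord

variable (h2 : (2 : F) = 0) (hS : ∀ z, S (S z) = z ^ 2) (hSdef : ∀ z, S z = z ^ 2 ^ (m + 1))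

/-- `u(1,k)`, `k ∈ K₀`, is conjugate to `u(1,0)` -/
theorem uQ_one_conj {k : F} (hk : k ∈ K0 S) :
    ∃ g : Cfsg.Sz F m, uQ h2 hS hSdef 1 k = g * uQ h2 hS hSdef 1 0 * g⁻¹ := by
  obtain ⟨c, hc⟩ := hk
  rw [trMap_apply] at hc
  refine ⟨uQ h2 hS hSdef c 0, ?_⟩
  rw [uQ_conj_uQ_one, ← hc]
  congr 1
  ring

/-- `u(a,b)`, `a ≠ 0`, is conjugate to `u(1, b / (S a * a))` -/
theorem uQ_conj_norm {a : F} (ha : a ≠ 0) (b : F) :
    ∃ g : Cfsg.Sz F m, uQ h2 hS hSdef a b = g * uQ h2 hS hSdef 1 (b / (S a * a)) * g⁻¹ := by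
  obtain ⟨t, ht⟩ := exists_sq hS a
  have ht0 : t ≠ 0 := by
    rintro rfl
    rw [zero_pow two_ne_zero] at ht
    exact ha ht.symm
  have hSa : S a ≠ 0 := by simpa using ha
  refine ⟨hQ hS hSdef (Units.mk0 t ht0), ?_⟩
  rw [hQ_conj_uQ, Units.val_mk0, ht, mul_one]
  congr 1
  rw [← map_pow, ht]
  field_simp

/-- `u(1,κ)` with `κ ∉ K₀` is conjugate to `u(1,0)⁻¹` -/
theorem uQ_one_conj_inv {k : F} (hk : k ∉ K0 S) :
    ∃ g : Cfsg.Sz F m, uQ h2 hS hSdef 1 k = g * (uQ h2 hS hSdef 1 0)⁻¹ * g⁻¹ := by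
  have hK' : k + 1 ∈ K0 S := by
    rw [add_mem_K0_iff h2 hS]
    exact ⟨fun h => absurd h hk, fun h => absurd h (one_not_mem_K0 h2 hS)⟩
  obtain ⟨c, hc⟩ := hK'
  rw [trMap_apply] at hc
  refine ⟨uQ h2 hS hSdef c 0, ?_⟩
  rw [← uQ_one_one, uQ_conj_uQ_one]
  congr 1
  have := add_self_zero h2 (1 : F)
  linear_combination -hc - this

/-- source of order four, target an involution -/
theorem insq_four_inv {b0 : F} (hb0 : b0 ≠ 0) :
    InSq (uQ (m := m) h2 hS hSdef 1 0) (uQ h2 hS hSdef 0 b0) := by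
  have h1 : InSq (uQ (m := m) h2 hS hSdef 1 0) (uQ h2 hS hSdef 0 1) := by
    refine ⟨1, 1, ?_⟩
    rw [one_mul, inv_one, mul_one, uQ_mul]
    congr 1
    · exact (add_self_zero h2 1).symm
    · rw [map_one]; ring
  exact h1.of_eq_conj (Cfsg.Agent.Lib.Helper46_SzInv.exists_hQ_conj h2 hS hSdef 1 b0 one_ne_zero hb0)

/-- source of order four, targets of order four -/
theorem insq_four_four (hcard : ∃ β : F, β ≠ 0 ∧ β ≠ 1) :
    InSq (uQ (m := m) h2 hS hSdef 1 0) (uQ h2 hS hSdef 1 0) ∧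
      InSq (uQ (m := m) h2 hS hSdef 1 0) (uQ h2 hS hSdef 1 0)⁻¹ := by
  obtain ⟨t0, ht0, ht1⟩ := hcard
  have hadd : ∀ x : F, x + x = 0 := add_self_zero h2
  have h1t : 1 + t0 ≠ 0 := by
    intro h
    apply ht1
    linear_combination h - hadd 1
  set N : F := S (1 + t0) * (1 + t0) with hN
  have hN0 : N ≠ 0 := mul_ne_zero ((map_ne_zero S).2 h1t) h1t
  have hN1 : N ≠ 1 := by
    intro h
    have : 1 + t0 = 1 := nrm_inj hS (by rw [← hN, h, map_one, one_mul])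
    apply ht0
    linear_combination this
  -- products `u(1,k) u(t0,0)`
  have hprod : ∀ k ∈ K0 S, InSq (uQ (m := m) h2 hS hSdef 1 0) (uQ h2 hS hSdef 1 ((k + t0) / N)) := by
    intro k hk
    have hA := uQ_one_conj h2 hS hSdef (m := m) hk
    have hB : ∃ g : Cfsg.Sz F m, uQ h2 hS hSdef t0 0 = g * uQ h2 hS hSdef 1 0 * g⁻¹ := by
      obtain ⟨g, hg⟩ := uQ_conj_norm h2 hS hSdef (m := m) ht0 0
      rw [zero_div] at hg
      exact ⟨g, hg⟩
    have h3 := InSq.of_conj hA hB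
    rw [uQ_mul, map_one, one_mul, add_zero] at h3
    obtain ⟨g, hg⟩ := uQ_conj_norm h2 hS hSdef (m := m) h1t (k + t0)
    rw [← hN] at hg
    have : uQ (m := m) h2 hS hSdef 1 ((k + t0) / N)
        = g⁻¹ * uQ h2 hS hSdef (1 + t0) (k + t0) * g⁻¹⁻¹ := by
      rw [hg]; group
    exact h3.of_eq_conj ⟨g⁻¹, this⟩
  -- some `k₁ ∈ K₀` has `k₁ / N ∉ K₀`
  obtain ⟨k1, hk1, hk1N⟩ : ∃ k1 ∈ K0 S, k1 / N ∉ K0 S := by
    by_contra hcon
    push Not at hcon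
    apply hN1
    have : N⁻¹ = 1 := by
      apply mul_K0_stab h2 hS (inv_ne_zero hN0)
      intro k hk
      have := hcon k hk
      rwa [div_eq_inv_mul] at this
    rw [← inv_inv N, this, inv_one]
  have e0 : (0 + t0) / N = t0 / N := by rw [zero_add]
  have e1 : (k1 + t0) / N = k1 / N + t0 / N := by ring
  have p0 := hprod 0 (K0 S).zero_mem
  have p1 := hprod k1 hk1
  rw [e0] at p0
  rw [e1] at p1
  by_cases hK : t0 / N ∈ K0 S
  · have hK1 : k1 / N + t0 / N ∉ K0 S := by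
      rw [add_mem_K0_iff h2 hS]
      exact fun h => hk1N (h.2 hK)
    refine ⟨p0.of_eq_conj ?_, p1.of_eq_conj ?_⟩
    · obtain ⟨g, hg⟩ := uQ_one_conj h2 hS hSdef (m := m) hK
      exact ⟨g⁻¹, by rw [hg]; group⟩
    · obtain ⟨g, hg⟩ := uQ_one_conj_inv h2 hS hSdef (m := m) hK1
      exact ⟨g⁻¹, by rw [hg]; group⟩
  · have hK1 : k1 / N + t0 / N ∈ K0 S := by
      rw [add_mem_K0_iff h2 hS]
      exact ⟨fun h => absurd h hk1N, fun h => absurd h hK⟩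
    refine ⟨p1.of_eq_conj ?_, p0.of_eq_conj ?_⟩
    · obtain ⟨g, hg⟩ := uQ_one_conj h2 hS hSdef (m := m) hK1
      exact ⟨g⁻¹, by rw [hg]; group⟩
    · obtain ⟨g, hg⟩ := uQ_one_conj_inv h2 hS hSdef (m := m) hK
      exact ⟨g⁻¹, by rw [hg]; group⟩

/-- source of order four, target semisimple -/
theorem insq_four_ss (hm : 1 ≤ m) (hF : Fintype.card F = 2 ^ (2 * m + 1))
    (hcard : ∃ β : F, β ≠ 0 ∧ β ≠ 1) {d : F} (hd : d ≠ 0) :
    InSq (uQ (m := m) h2 hS hSdef 1 0) (wQ h2 hS hSdef * uQ h2 hS hSdef 0 d) := by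
  have hadd : ∀ x : F, x + x = 0 := add_self_zero h2
  obtain ⟨ε0, hε0⟩ := exists_sq hS (S d)
  have hSd : S d ≠ 0 := (map_ne_zero S).2 hd
  have hε00 : ε0 ≠ 0 := by
    rintro rfl
    rw [zero_pow two_ne_zero] at hε0
    exact hSd hε0.symm
  obtain ⟨β, hβ0, hβ⟩ := lemmaQ h2 hS hcard hε00
  have hSβ : S β ≠ 0 := (map_ne_zero S).2 hβ0
  set n : F := β ^ 2 + ε0 * (S β * β ^ 2) with hn
  have hnK : n ∉ K0 S := by
    intro h
    apply hβ
    have h1 := (K0 S).add_mem h (sq_add_mem_K0 h2 hS β)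
    have e : n + (β ^ 2 + β) = ε0 * (S β * β ^ 2) + β := by
      rw [hn]; linear_combination hadd (β ^ 2)
    rwa [e] at h1
  obtain ⟨k, hk, hnk⟩ := exists_norm_form h2 hS hnK
  set a' : F := (β ^ 2)⁻¹ with ha'
  have ha'0 : a' ≠ 0 := inv_ne_zero (pow_ne_zero 2 hβ0)
  have hSa'0 : S a' ≠ 0 := (map_ne_zero S).2 ha'0
  set b'' : F := S a' * a' * k with hb''
  have hA := uQ_one_conj h2 hS hSdef (m := m) hk
  have hwinv : (wQ (m := m) h2 hS hSdef)⁻¹ = wQ h2 hS hSdef :=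
    inv_eq_of_mul_eq_one_left (wQ_mul_self h2 hS hSdef)
  have hB : ∃ g : Cfsg.Sz F m, wQ h2 hS hSdef * uQ h2 hS hSdef a' b'' * wQ h2 hS hSdef
      = g * uQ h2 hS hSdef 1 0 * g⁻¹ := by
    obtain ⟨g1, hg1⟩ := uQ_conj_norm h2 hS hSdef (m := m) ha'0 b''
    have e : b'' / (S a' * a') = k := by
      rw [hb'']; field_simp
    rw [e] at hg1
    obtain ⟨g2, hg2⟩ := hA
    refine ⟨wQ h2 hS hSdef * g1 * g2, ?_⟩
    rw [hg1, hg2, mul_inv_rev, mul_inv_rev, hwinv]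
    group
  have h3 := InSq.of_conj hA hB
  have htr : trG (uQ (m := m) h2 hS hSdef 1 k
      * (wQ h2 hS hSdef * uQ h2 hS hSdef a' b'' * wQ h2 hS hSdef)) = S d := by
    have e : uQ (m := m) h2 hS hSdef 1 k
        * (wQ h2 hS hSdef * uQ h2 hS hSdef a' b'' * wQ h2 hS hSdef)
        = uQ h2 hS hSdef 1 k * wQ h2 hS hSdef * (uQ h2 hS hSdef a' b'' * wQ h2 hS hSdef) := by
      group
    rw [e, trG_uwuw]
    have hsf1 : sf S 1 k = n := by
      unfold sf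
      rw [map_one, hnk]; ring
    have hsf2 : sf S a' b'' = S a' * a' ^ 2 * n := by
      unfold sf
      rw [hb'', map_mul, map_mul, hS, hnk]; ring
    have han : a' * n = 1 + ε0 * S β := by
      rw [ha', hn]; field_simp
    have hSa' : S a' * S β ^ 2 = 1 := by
      rw [ha', map_inv₀, map_pow]; field_simp
    rw [hsf1, hsf2, map_one, ← hε0, hb'']
    linear_combination (k * S a' * a' + S a' + S a' * ε0 * S β) * h2 + ε0 ^ 2 * hSa'
      + (S a' * (a' * n + (1 + ε0 * S β))) * han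
  obtain ⟨k0, hk0⟩ := conj_of_trG h2 hS hSdef hm hF hd htr
  refine h3.of_eq_conj ⟨k0⁻¹, ?_⟩
  rw [hk0]; group

include h2 hS in
/-- the key consequence of `lemmaQ`: elements `w u(c,d')` of trace `S e` with `c ≠ 0` -/
theorem exists_cd (hcard : ∃ β : F, β ≠ 0 ∧ β ≠ 1) {e : F} (he : e ≠ 0) :
    ∃ c d' : F, c ≠ 0 ∧ S c + sf S c d' = S e := by
  have hadd : ∀ x : F, x + x = 0 := add_self_zero h2
  have hSe : S e ≠ 0 := (map_ne_zero S).2 he
  obtain ⟨γ, hγ0, hγ⟩ := lemmaQ h2 hS hcard hSe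
  have hSγ : S γ ≠ 0 := (map_ne_zero S).2 hγ0
  set c : F := γ⁻¹ with hc
  have hc0 : c ≠ 0 := inv_ne_zero hγ0
  have hkk : S e * (S γ * γ ^ 2) + γ ^ 2 + 1 ∈ K0 S := by
    have h1 : S e * (S γ * γ ^ 2) + γ ^ 2 ∉ K0 S := by
      intro h
      apply hγ
      have h3 := (K0 S).add_mem h (sq_add_mem_K0 h2 hS γ)
      have e1 : S e * (S γ * γ ^ 2) + γ ^ 2 + (γ ^ 2 + γ) = S e * (S γ * γ ^ 2) + γ := by
        linear_combination hadd (γ ^ 2)
      rwa [e1] at h3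
    rw [add_mem_K0_iff h2 hS]
    exact ⟨fun h => absurd h h1, fun h => absurd h (one_not_mem_K0 h2 hS)⟩
  obtain ⟨d', hd'⟩ := exists_semilinear hS c hkk
  refine ⟨c, d', hc0, ?_⟩
  have e2 : c ^ 2 * S c * (S e * (S γ * γ ^ 2) + γ ^ 2 + 1) = S e + S c + S c * c ^ 2 := by
    rw [hc, map_inv₀]; field_simp
  rw [e2] at hd'
  unfold sf
  linear_combination hd' + hadd (S c) + hadd (S c * c ^ 2)

/-- source semisimple, target an involution -/
theorem insq_ss_inv (hm : 1 ≤ m) (hF : Fintype.card F = 2 ^ (2 * m + 1))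
    (hcard : ∃ β : F, β ≠ 0 ∧ β ≠ 1) {e : F} (he : e ≠ 0) {b0 : F} (hb0 : b0 ≠ 0) :
    InSq (wQ (m := m) h2 hS hSdef * uQ h2 hS hSdef 0 e) (uQ h2 hS hSdef 0 b0) := by
  obtain ⟨c, d', hc0, hcd⟩ := exists_cd h2 hS hcard he
  have hA : trG (uQ (m := m) h2 hS hSdef c d' * wQ h2 hS hSdef) = S e := by
    rw [trG_u_w, hcd]
  have hB : trG (wQ (m := m) h2 hS hSdef * uQ h2 hS hSdef c d') = S e := by
    rw [trG_w_u, hcd]
  obtain ⟨k1, hk1⟩ := conj_of_trG h2 hS hSdef hm hF he hA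
  obtain ⟨k2, hk2⟩ := conj_of_trG h2 hS hSdef hm hF he hB
  have h3 := InSq.of_conj ⟨k1, hk1⟩ ⟨k2, hk2⟩
  have e1 : uQ (m := m) h2 hS hSdef c d' * wQ h2 hS hSdef * (wQ h2 hS hSdef * uQ h2 hS hSdef c d')
      = uQ h2 hS hSdef 0 (S c * c) := by
    have : uQ (m := m) h2 hS hSdef c d' * wQ h2 hS hSdef * (wQ h2 hS hSdef * uQ h2 hS hSdef c d')
        = uQ h2 hS hSdef c d' * (wQ h2 hS hSdef * wQ h2 hS hSdef) * uQ h2 hS hSdef c d' := by group
    rw [this, wQ_mul_self, mul_one, uQ_mul]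
    congr 1
    · exact add_self_zero h2 c
    · linear_combination add_self_zero h2 d'
  rw [e1] at h3
  have hSc : S c * c ≠ 0 := mul_ne_zero ((map_ne_zero S).2 hc0) hc0
  exact h3.of_eq_conj
    (Cfsg.Agent.Lib.Helper46_SzInv.exists_hQ_conj h2 hS hSdef (S c * c) b0 hSc hb0)

/-- source semisimple, target of order four -/
theorem insq_ss_four (hm : 1 ≤ m) (hF : Fintype.card F = 2 ^ (2 * m + 1))
    (hcard : ∃ β : F, β ≠ 0 ∧ β ≠ 1) {e : F} (he : e ≠ 0) {a0 : F} (ha0 : a0 ≠ 0) (b0 : F) :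
    InSq (wQ (m := m) h2 hS hSdef * uQ h2 hS hSdef 0 e) (uQ h2 hS hSdef a0 b0) := by
  have hadd : ∀ x : F, x + x = 0 := add_self_zero h2
  obtain ⟨c, d', hc0, hcd⟩ := exists_cd h2 hS hcard he
  -- the four factors
  have hA : trG (uQ (m := m) h2 hS hSdef 0 e * wQ h2 hS hSdef) = S e := by
    rw [trG_mul_comm, trG_std]
  have hB : trG (wQ (m := m) h2 hS hSdef * uQ h2 hS hSdef c d') = S e := by
    rw [trG_w_u, hcd]
  have hA' : trG (uQ (m := m) h2 hS hSdef c (d' + S c * c) * wQ h2 hS hSdef) = S e := by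
    rw [trG_u_w, ← hcd]
    unfold sf
    rw [map_add, map_mul, hS]
    linear_combination hadd (S c * c ^ 2)
  obtain ⟨k1, hk1⟩ := conj_of_trG h2 hS hSdef hm hF he hA
  obtain ⟨k2, hk2⟩ := conj_of_trG h2 hS hSdef hm hF he hB
  obtain ⟨k3, hk3⟩ := conj_of_trG h2 hS hSdef hm hF he hA'
  have h3 := InSq.of_conj ⟨k1, hk1⟩ ⟨k2, hk2⟩
  have h4 := InSq.of_conj ⟨k3, hk3⟩ ⟨1, by rw [one_mul, inv_one, mul_one]⟩
  have e1 : uQ (m := m) h2 hS hSdef 0 e * wQ h2 hS hSdef * (wQ h2 hS hSdef * uQ h2 hS hSdef c d')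
      = uQ h2 hS hSdef c (e + d') := by
    have : uQ (m := m) h2 hS hSdef 0 e * wQ h2 hS hSdef * (wQ h2 hS hSdef * uQ h2 hS hSdef c d')
        = uQ h2 hS hSdef 0 e * (wQ h2 hS hSdef * wQ h2 hS hSdef) * uQ h2 hS hSdef c d' := by group
    rw [this, wQ_mul_self, mul_one, uQ_mul]
    congr 1
    · ring
    · rw [map_zero]; ring
  have e2 : uQ (m := m) h2 hS hSdef c (d' + S c * c) * wQ h2 hS hSdef
        * (wQ h2 hS hSdef * uQ h2 hS hSdef 0 e)
      = (uQ h2 hS hSdef c (e + d'))⁻¹ := by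
    have : uQ (m := m) h2 hS hSdef c (d' + S c * c) * wQ h2 hS hSdef
          * (wQ h2 hS hSdef * uQ h2 hS hSdef 0 e)
        = uQ h2 hS hSdef c (d' + S c * c) * (wQ h2 hS hSdef * wQ h2 hS hSdef)
          * uQ h2 hS hSdef 0 e := by group
    rw [this, wQ_mul_self, mul_one, uQ_mul, uQ_inv']
    congr 1
    · ring
    · ring
  rw [e1] at h3
  rw [e2] at h4
  rcases conj_or_conj_inv_of_std (uQ_conj_std h2 hS hSdef (m := m) ha0 b0)
    (uQ_conj_std h2 hS hSdef (m := m) hc0 (e + d')) with h | h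
  · exact h3.of_eq_conj h
  · exact h4.of_eq_conj h

include h2 in
theorem sq_add4 (x1 x2 x3 x4 : F) :
    (x1 + x2 + x3 + x4) ^ 2 = x1 ^ 2 + x2 ^ 2 + x3 ^ 2 + x4 ^ 2 := by
  linear_combination (x1 * x2 + x1 * x3 + x1 * x4 + x2 * x3 + x2 * x4 + x3 * x4) * h2

include h2 in
theorem sq_add3 (x1 x2 x3 : F) :
    (x1 + x2 + x3) ^ 2 = x1 ^ 2 + x2 ^ 2 + x3 ^ 2 := by
  linear_combination (x1 * x2 + x1 * x3 + x2 * x3) * h2

include h2 in
theorem sq_add2 (x1 x2 : F) : (x1 + x2) ^ 2 = x1 ^ 2 + x2 ^ 2 := by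
  linear_combination (x1 * x2) * h2

/-- source semisimple, target semisimple -/
theorem insq_ss_ss (hm : 1 ≤ m) (hF : Fintype.card F = 2 ^ (2 * m + 1)) {e d : F} (he : e ≠ 0)
    (hd : d ≠ 0) :
    InSq (wQ (m := m) h2 hS hSdef * uQ h2 hS hSdef 0 e) (wQ h2 hS hSdef * uQ h2 hS hSdef 0 d) := by
  have hadd : ∀ x : F, x + x = 0 := add_self_zero h2
  have hSe : S e ≠ 0 := (map_ne_zero S).2 he
  -- the parameters
  obtain ⟨r0, hr0⟩ := exists_sq hS (d / e)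
  have hr00 : r0 ≠ 0 := by
    rintro rfl
    rw [zero_pow two_ne_zero] at hr0
    exact div_ne_zero hd he hr0.symm
  obtain ⟨p, hp⟩ := nrm_surj hS r0
  have hp0 : p ≠ 0 := by
    rintro rfl
    rw [map_zero, zero_mul] at hp
    exact hr00 hp.symm
  have hSp : S p ≠ 0 := (map_ne_zero S).2 hp0
  obtain ⟨ε, hε⟩ := exists_sq hS (S e)
  obtain ⟨t, htv⟩ : ∃ t : Fˣ, (t : F) = p ^ 2 := ⟨Units.mk0 (p ^ 2) (pow_ne_zero 2 hp0), rfl⟩
  obtain ⟨a, ha⟩ : ∃ a : F, a = 1 + p ^ 2 := ⟨_, rfl⟩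
  obtain ⟨L1, hL1⟩ : ∃ L1 : F, L1 = S p * p ^ 2 := ⟨_, rfl⟩
  obtain ⟨L2, hL2⟩ : ∃ L2 : F, L2 = S p := ⟨_, rfl⟩
  have hL10 : L1 ≠ 0 := by rw [hL1]; exact mul_ne_zero hSp (pow_ne_zero 2 hp0)
  have hL20 : L2 ≠ 0 := by rw [hL2]; exact hSp
  obtain ⟨q1, hq1⟩ : ∃ q1 : F, q1 = L1⁻¹ := ⟨_, rfl⟩
  obtain ⟨q2, hq2⟩ : ∃ q2 : F, q2 = L2⁻¹ := ⟨_, rfl⟩
  have hq1L : q1 * L1 = 1 := by rw [hq1]; exact inv_mul_cancel₀ hL10
  have hq21 : q2 = q1 * p ^ 2 := by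
    rw [hq1, hq2, hL1, hL2]; field_simp
  obtain ⟨R0, hR0⟩ : ∃ R0 : F, R0 = q1 * (1 + a + S a * a ^ 2) + q1 * p ^ 2 * (1 + S a + S a * a)
      + L2 * (1 + a) + L1 := ⟨_, rfl⟩
  obtain ⟨b, hb⟩ := S_surj (S := S) (L1 * (ε + R0))
  obtain ⟨b', hb'⟩ : ∃ b' : F, b' = b + S a * a := ⟨_, rfl⟩
  -- the involution `σ`
  obtain ⟨σ, hσ⟩ : ∃ σ : Cfsg.Sz F m, σ = uQ h2 hS hSdef a b * hQ hS hSdef t * wQ h2 hS hSdef
      * uQ h2 hS hSdef a b' := ⟨_, rfl⟩
  have hUinv : (uQ (m := m) h2 hS hSdef a b)⁻¹ = uQ h2 hS hSdef a b' := by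
    rw [hb']; exact uQ_inv' h2 hS hSdef a b
  have hσσ : σ * σ = 1 := by
    have e1 : σ * σ = uQ h2 hS hSdef a b * (hQ hS hSdef t
        * (wQ h2 hS hSdef * hQ hS hSdef t * wQ h2 hS hSdef)) * (uQ h2 hS hSdef a b)⁻¹ := by
      rw [hσ, ← hUinv]; group
    rw [e1, wQ_mul_hQ_mul_wQ, Cfsg.Agent.Lib.Helper6_SzCent.hQ_mul, mul_inv_cancel, hQ_one,
      mul_one, mul_inv_cancel]
  -- the trace of `σ u(0,d)`
  have hL1S : L1 = S r0 := by
    rw [← hp, map_mul, hS, hL1]; ring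
  have hB : trG (σ * uQ h2 hS hSdef 0 d) = S e := by
    have e1 : σ * uQ h2 hS hSdef 0 d = uQ h2 hS hSdef a b
        * (hQ hS hSdef t * wQ h2 hS hSdef * uQ h2 hS hSdef 0 d) * (uQ h2 hS hSdef a b)⁻¹ := by
      have hc := uQ_central h2 hS hSdef (m := m) a b' d
      rw [← hUinv, inv_inv] at hc
      have hc' : (uQ (m := m) h2 hS hSdef a b)⁻¹ * uQ h2 hS hSdef 0 d
          = uQ h2 hS hSdef 0 d * (uQ h2 hS hSdef a b)⁻¹ := by
        rw [eq_mul_inv_iff_mul_eq]; exact hc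
      rw [hσ, ← hUinv, mul_assoc, hc']; group
    rw [e1, trG_conj, trG_hwu, htv]
    have e2 : S (p ^ 2) * (p ^ 2) ^ 2 = L1 ^ 2 := by rw [map_pow, hL1]; ring
    have e3 : L1 ^ 2 = S d / S e := by
      rw [hL1S, ← map_pow, hr0, map_div₀]
    rw [e2, e3]
    have hSd : S d ≠ 0 := (map_ne_zero S).2 hd
    field_simp
  -- the trace of `w σ`
  have hA : trG (wQ h2 hS hSdef * σ) = S e := by
    rw [hσ, trG_case1, htv]
    have hbb : b' + S a * a = b := by rw [hb']; linear_combination hadd (S a * a)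
    have hff : sf S a b' = sf S a b := by
      rw [hb']; unfold sf
      rw [map_add, map_mul, hS]
      linear_combination hadd (S a * a ^ 2)
    have e2 : S (p ^ 2) * (p ^ 2) ^ 2 = L1 ^ 2 := by rw [map_pow, hL1]; ring
    have e4 : S (p ^ 2) = L2 ^ 2 := by rw [map_pow, hL2]
    rw [hbb, hff, e2, e4, ← inv_pow, ← inv_pow, ← hq1, ← hq2]
    -- `X = ε`
    have hX : q1 * (1 + a + b + sf S a b) + q2 * (1 + S a + b') + L2 * (1 + a) + L1 = ε := by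
      unfold sf
      rw [hb', hq21]
      have hq1b : q1 * S b = ε + R0 := by rw [hb, ← mul_assoc, hq1L, one_mul]
      linear_combination hq1b - hR0 + (q1 * b) * ha + (q1 * b + q1 * b * p ^ 2 + R0) * h2
    rw [← hε, ← hX, sq_add4 h2, mul_pow, mul_pow, mul_pow, sq_add4 h2, sq_add3 h2, sq_add2 h2]
    have hb'2 : (b + S a * a) * b' = b' ^ 2 := by rw [hb']; ring
    rw [hb'2]
    ring
  obtain ⟨k1, hk1⟩ := conj_of_trG h2 hS hSdef hm hF he hA
  obtain ⟨k2, hk2⟩ := conj_of_trG h2 hS hSdef hm hF he hB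
  have h3 := InSq.of_conj ⟨k1, hk1⟩ ⟨k2, hk2⟩
  have e5 : wQ h2 hS hSdef * σ * (σ * uQ h2 hS hSdef 0 d)
      = wQ h2 hS hSdef * uQ h2 hS hSdef 0 d := by
    have : wQ h2 hS hSdef * σ * (σ * uQ h2 hS hSdef 0 d)
        = wQ h2 hS hSdef * (σ * σ) * uQ h2 hS hSdef 0 d := by group
    rw [this, hσσ, mul_one]
  rwa [e5] at h3

end Coord

section Main

variable (h2 : (2 : F) = 0) (hS : ∀ z, S (S z) = z ^ 2) (hSdef : ∀ z, S z = z ^ 2 ^ (m + 1))

/-- the class of an element of order four squares to everything but the identity -/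
theorem insq_rho (hm : 1 ≤ m) (hF : Fintype.card F = 2 ^ (2 * m + 1))
    (hcard : ∃ β : F, β ≠ 0 ∧ β ≠ 1) {g : Cfsg.Sz F m} (hg : g ≠ 1) :
    InSq (uQ (m := m) h2 hS hSdef 1 0) g := by
  rcases classify h2 hS hSdef hm hF hg with ⟨k, d, hd, hk⟩ | ⟨k, b, hb, hk⟩ | ⟨k, a, b, ha, hk⟩
  · rw [hk]
    exact (insq_four_ss h2 hS hSdef hm hF hcard hd).conj_right k
  · rw [hk]
    exact (insq_four_inv h2 hS hSdef hb).conj_right k
  · rw [hk]
    apply InSq.conj_right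
    obtain ⟨h4, h4'⟩ := insq_four_four h2 hS hSdef (m := m) hcard
    obtain ⟨c, hc | hc⟩ := uQ_conj_std h2 hS hSdef (m := m) ha b
    · exact h4.of_eq_conj ⟨c⁻¹, by rw [← hc]; group⟩
    · exact h4'.of_eq_conj ⟨c⁻¹, by rw [← hc]; group⟩

/-- the class of a semisimple element squares to everything but the identity -/
theorem insq_ss (hm : 1 ≤ m) (hF : Fintype.card F = 2 ^ (2 * m + 1))
    (hcard : ∃ β : F, β ≠ 0 ∧ β ≠ 1) {e : F} (he : e ≠ 0) {g : Cfsg.Sz F m} (hg : g ≠ 1) :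
    InSq (wQ (m := m) h2 hS hSdef * uQ h2 hS hSdef 0 e) g := by
  rcases classify h2 hS hSdef hm hF hg with ⟨k, d, hd, hk⟩ | ⟨k, b, hb, hk⟩ | ⟨k, a, b, ha, hk⟩
  · rw [hk]
    exact (insq_ss_ss h2 hS hSdef hm hF he hd).conj_right k
  · rw [hk]
    exact (insq_ss_inv h2 hS hSdef hm hF hcard he hb).conj_right k
  · rw [hk]
    exact (insq_ss_four h2 hS hSdef hm hF hcard he ha b).conj_right k

end Main

/-- **Squares of classes in the Suzuki groups**: if `x` has order greater than two, every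
non-identity element is a product of two conjugates of `x`. -/
theorem cover_main (hm : 1 ≤ m) (hF : Fintype.card F = 2 ^ (2 * m + 1)) (x : Cfsg.Sz F m)
    (hx : 2 < orderOf x) (g : Cfsg.Sz F m) (hg : g ≠ 1) : InSq x g := by
  have h2 : (2 : F) = 0 := two_eq_zero_of_card hF
  have hSdef : ∀ z, (sgHom F m h2) z = z ^ 2 ^ (m + 1) := fun z => sgHom_apply m h2 z
  have hS : ∀ z, (sgHom F m h2) ((sgHom F m h2) z) = z ^ 2 := fun z => sgHom_sgHom hF h2 z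
  have hcard : ∃ β : F, β ≠ 0 ∧ β ≠ 1 := by
    classical
    have h3 : ({0, 1} : Finset F).card < (Finset.univ : Finset F).card := by
      rw [Finset.card_univ, hF]
      calc ({0, 1} : Finset F).card ≤ 2 := Finset.card_le_two
        _ < 2 ^ (2 * m + 1) := by
          calc 2 = 2 ^ 1 := (pow_one 2).symm
            _ < 2 ^ (2 * m + 1) := Nat.pow_lt_pow_right (by norm_num) (by omega)
    obtain ⟨β, -, hβ⟩ := Finset.exists_mem_notMem_of_card_lt_card h3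
    rw [Finset.mem_insert, Finset.mem_singleton] at hβ
    push Not at hβ
    exact ⟨β, hβ.1, hβ.2⟩
  have hx1 : x ≠ 1 := by
    rintro rfl
    rw [orderOf_one] at hx
    omega
  rcases classify h2 hS hSdef hm hF hx1 with ⟨k, e, he, hk⟩ | ⟨k, b, hb, hk⟩ | ⟨k, a, b, ha, hk⟩
  · rw [hk]
    exact (insq_ss h2 hS hSdef hm hF hcard he hg).conj_left k
  · exfalso
    have hsq : x ^ 2 = 1 := by
      rw [hk, pow_two]
      have e : k * uQ h2 hS hSdef 0 b * k⁻¹ * (k * uQ h2 hS hSdef 0 b * k⁻¹)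
          = k * (uQ h2 hS hSdef 0 b * uQ h2 hS hSdef 0 b) * k⁻¹ := by group
      rw [e, uQ_mul]
      have hbb : b + b + (sgHom F m h2) 0 * 0 = 0 := by
        rw [map_zero, mul_zero, add_zero]; exact add_self_zero h2 b
      rw [hbb, add_zero, uQ_zero]; group
    have := Nat.le_of_dvd (by norm_num) (orderOf_dvd_of_pow_eq_one hsq)
    omega
  · obtain ⟨c, hc | hc⟩ := uQ_conj_std h2 hS hSdef (m := m) ha b
    · have hxc : x = (k * c⁻¹) * uQ h2 hS hSdef 1 0 * (k * c⁻¹)⁻¹ := by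
        rw [hk, ← hc]; group
      rw [hxc]
      exact (insq_rho h2 hS hSdef hm hF hcard hg).conj_left _
    · have hxc : x = (k * c⁻¹) * (uQ h2 hS hSdef 1 0)⁻¹ * (k * c⁻¹)⁻¹ := by
        rw [hk, ← hc]; group
      rw [hxc]
      apply InSq.conj_left
      have hg' : g⁻¹ ≠ 1 := by
        intro h
        exact hg (inv_eq_one.1 h)
      have := (insq_rho h2 hS hSdef hm hF hcard hg').inv
      rwa [inv_inv] at this

end Cfsg.Agent.Helper37SzCov
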