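import Mathlib

/-!
# Generic Suzuki matrices over a polynomial ring and a ping-pong argument (helper37)

Over `F[X]` (`F` a field of characteristic two) we consider the upper unitriangular matrices
`PU a sa` (specialising to the root elements `uMat S a 0` of the Suzuki group when `sa = S a`) and
the antidiagonal matrix `PW`. The matrices `gen i = PU_i * PW * PU_i * PW`, with
`a_i = X^(i+1)`, `sa_i = X^(r(i+1))`, generate a free group: a nontrivial reduced word has an entry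
in the first row of positive degree. This is the input for "a law holds in only finitely many
Suzuki groups".
-/

set_option autoImplicit false

namespace Cfsg.Agent.Lib.Helper37_SzLaw

open Polynomial Matrix

section Deg

variable {F : Type*} [Field F]

theorem deg_mul_lt_of_lt_of_le {a b c : F[X]} {E : ℕ} (h1 : a.degree < b.degree)
    (h2 : c.degree ≤ (E : WithBot ℕ)) : (a * c).degree < b.degree + (E : WithBot ℕ) := by
  rw [degree_mul]
  calc a.degree + c.degree ≤ a.degree + (E : WithBot ℕ) := by gcongr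
    _ < b.degree + (E : WithBot ℕ) := WithBot.add_lt_add_right (WithBot.coe_ne_bot) h1

theorem deg_mul_lt_of_le_of_lt {a b c : F[X]} {E : ℕ} (h1 : a.degree ≤ b.degree) (hb : b ≠ 0)
    (h2 : c.degree < (E : WithBot ℕ)) : (a * c).degree < b.degree + (E : WithBot ℕ) := by
  rw [degree_mul]
  calc a.degree + c.degree ≤ b.degree + c.degree := by gcongr
    _ < b.degree + (E : WithBot ℕ) :=
      WithBot.add_lt_add_left (by rwa [Ne, degree_eq_bot]) h2

theorem deg_add_lt {a b : F[X]} {d : WithBot ℕ} (h1 : a.degree < d) (h2 : b.degree < d) :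
    (a + b).degree < d :=
  (degree_add_le a b).trans_lt (max_lt h1 h2)

theorem deg_add_le {a b : F[X]} {d : WithBot ℕ} (h1 : a.degree ≤ d) (h2 : b.degree ≤ d) :
    (a + b).degree ≤ d :=
  (degree_add_le a b).trans (max_le h1 h2)

end Deg

section TT

variable {R : Type*} [CommRing R]

/-- the upper unitriangular matrix with the given entries above the diagonal -/
def TT (p01 p02 p03 p12 p13 p23 : R) : Matrix (Fin 4) (Fin 4) R :=
  !![1, p01, p02, p03; 0, 1, p12, p13; 0, 0, 1, p23; 0, 0, 0, 1]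

/-- the antidiagonal matrix -/
def PW : Matrix (Fin 4) (Fin 4) R :=
  !![0, 0, 0, 1; 0, 0, 1, 0; 0, 1, 0, 0; 1, 0, 0, 0]

theorem vecMul_TT (ρ : Fin 4 → R) (p01 p02 p03 p12 p13 p23 : R) :
    ρ ᵥ* TT p01 p02 p03 p12 p13 p23 =
      ![ρ 0, ρ 0 * p01 + ρ 1, ρ 0 * p02 + ρ 1 * p12 + ρ 2,
        ρ 0 * p03 + ρ 1 * p13 + ρ 2 * p23 + ρ 3] := by
  ext j
  fin_cases j <;> simp [TT, Matrix.vecMul, dotProduct, Fin.sum_univ_four]

theorem vecMul_PW (ρ : Fin 4 → R) : ρ ᵥ* (PW : Matrix (Fin 4) (Fin 4) R) = ![ρ 3, ρ 2, ρ 1, ρ 0] := by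
  ext j
  fin_cases j <;> simp [PW, Matrix.vecMul, dotProduct, Fin.sum_univ_four]

theorem TT_mul (p01 p02 p03 p12 p13 p23 q01 q02 q03 q12 q13 q23 : R) :
    TT p01 p02 p03 p12 p13 p23 * TT q01 q02 q03 q12 q13 q23 =
      TT (p01 + q01) (p02 + p01 * q12 + q02) (p03 + p01 * q13 + p02 * q23 + q03)
        (p12 + q12) (p13 + p12 * q23 + q13) (p23 + q23) := by
  ext i j
  fin_cases i <;> fin_cases j <;> simp [TT, Matrix.mul_apply, Fin.sum_univ_four] <;> ring

theorem TT_zero : TT (0 : R) 0 0 0 0 0 = 1 := by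
  ext i j
  fin_cases i <;> fin_cases j <;> simp [TT]

theorem PW_mul_PW : (PW : Matrix (Fin 4) (Fin 4) R) * PW = 1 := by
  ext i j
  fin_cases i <;> fin_cases j <;> simp [PW, Matrix.mul_apply, Fin.sum_univ_four]

end TT

section Dom

variable {F : Type*} [Field F]

/-- the `k`-th coordinate of the row has strictly the largest degree -/
def Dom (k : Fin 4) (ρ : Fin 4 → F[X]) : Prop :=
  ∀ j, j ≠ k → (ρ j).degree < (ρ k).degree

theorem Dom.ne_zero {k : Fin 4} {ρ : Fin 4 → F[X]} (h : Dom k ρ) : ρ k ≠ 0 := by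
  intro h0
  obtain ⟨j, hj⟩ : ∃ j : Fin 4, j ≠ k := by
    by_cases hk : k = 0
    · exact ⟨1, by rw [hk]; decide⟩
    · exact ⟨0, fun h => hk h.symm⟩
  have := h j hj
  rw [h0, degree_zero] at this
  exact not_lt_bot this

/-- the entries of an upper unitriangular matrix are dominated by the top right one -/
structure UDom (E : ℕ) (p01 p02 p03 p12 p13 p23 : F[X]) : Prop where
  pos : 1 ≤ E
  h03 : p03.degree = (E : WithBot ℕ)
  h01 : p01.degree < (E : WithBot ℕ)
  h02 : p02.degree < (E : WithBot ℕ)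
  h12 : p12.degree < (E : WithBot ℕ)
  h13 : p13.degree ≤ (E : WithBot ℕ)
  h23 : p23.degree ≤ (E : WithBot ℕ)

theorem dom_TT {E : ℕ} {p01 p02 p03 p12 p13 p23 : F[X]} (h : UDom E p01 p02 p03 p12 p13 p23)
    {ρ : Fin 4 → F[X]} (hρ : Dom 0 ρ) :
    Dom 3 (ρ ᵥ* TT p01 p02 p03 p12 p13 p23) ∧
      ((ρ ᵥ* TT p01 p02 p03 p12 p13 p23) 3).degree = (ρ 0).degree + (E : WithBot ℕ) := by
  have h0 : ρ 0 ≠ 0 := hρ.ne_zero
  have h10 : (ρ 1).degree < (ρ 0).degree := hρ 1 (by decide)
  have h20 : (ρ 2).degree < (ρ 0).degree := hρ 2 (by decide)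
  have h30 : (ρ 3).degree < (ρ 0).degree := hρ 3 (by decide)
  have hE : ((0 : ℕ) : WithBot ℕ) < (E : WithBot ℕ) := by
    exact_mod_cast h.pos
  have hlt : ∀ {a : F[X]}, a.degree ≤ (ρ 0).degree → a.degree < (ρ 0).degree + (E : WithBot ℕ) := by
    intro a ha
    calc a.degree ≤ (ρ 0).degree := ha
      _ = (ρ 0).degree + ((0 : ℕ) : WithBot ℕ) := by simp
      _ < (ρ 0).degree + (E : WithBot ℕ) :=
        WithBot.add_lt_add_left (by rwa [Ne, degree_eq_bot]) hE
  have hmain : (ρ 0 * p03).degree = (ρ 0).degree + (E : WithBot ℕ) := by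
    rw [degree_mul, h.h03]
  have hrest : (ρ 1 * p13 + ρ 2 * p23 + ρ 3).degree < (ρ 0).degree + (E : WithBot ℕ) :=
    deg_add_lt (deg_add_lt (deg_mul_lt_of_lt_of_le h10 h.h13) (deg_mul_lt_of_lt_of_le h20 h.h23))
      (hlt h30.le)
  have h3 : (ρ 0 * p03 + ρ 1 * p13 + ρ 2 * p23 + ρ 3).degree = (ρ 0).degree + (E : WithBot ℕ) := by
    have : ρ 0 * p03 + ρ 1 * p13 + ρ 2 * p23 + ρ 3
        = ρ 0 * p03 + (ρ 1 * p13 + ρ 2 * p23 + ρ 3) := by ring
    rw [this, degree_add_eq_left_of_degree_lt (by rw [hmain]; exact hrest), hmain]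
  rw [vecMul_TT]
  refine ⟨?_, h3⟩
  intro j hj
  show _ < (ρ 0 * p03 + ρ 1 * p13 + ρ 2 * p23 + ρ 3).degree
  rw [h3]
  fin_cases j
  · exact hlt le_rfl
  · exact deg_add_lt (deg_mul_lt_of_le_of_lt le_rfl h0 h.h01) (hlt h10.le)
  · exact deg_add_lt (deg_add_lt (deg_mul_lt_of_le_of_lt le_rfl h0 h.h02)
      (deg_mul_lt_of_le_of_lt h10.le h0 h.h12)) (hlt h20.le)
  · exact absurd rfl hj

theorem dom_PW_of_three {ρ : Fin 4 → F[X]} (hρ : Dom 3 ρ) :
    Dom 0 (ρ ᵥ* (PW : Matrix (Fin 4) (Fin 4) F[X])) := by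
  rw [vecMul_PW]
  intro j hj
  fin_cases j
  · exact absurd rfl hj
  · exact hρ 2 (by decide)
  · exact hρ 1 (by decide)
  · exact hρ 0 (by decide)

end Dom

section Mono

variable {F : Type*} [Field F]

theorem deg_X_pow_lt {k E : ℕ} (h : k < E) : ((X : F[X]) ^ k).degree < (E : WithBot ℕ) := by
  rw [degree_X_pow]; exact_mod_cast h

theorem deg_X_pow_le {k E : ℕ} (h : k ≤ E) : ((X : F[X]) ^ k).degree ≤ (E : WithBot ℕ) := by
  rw [degree_X_pow]; exact_mod_cast h

theorem deg_zero_lt (E : ℕ) : (0 : F[X]).degree < (E : WithBot ℕ) := by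
  rw [degree_zero]; exact WithBot.bot_lt_coe E

/-- `PU`: entries `(a, sa a, sa a², sa, 0, a)` -/
theorem udom_PU {n P : ℕ} (hn : 1 ≤ n) :
    UDom (P + 2 * n) ((X : F[X]) ^ n) (X ^ P * X ^ n) (X ^ P * (X ^ n) ^ 2) (X ^ P) 0 (X ^ n) := by
  simp only [← pow_add, ← pow_mul]
  exact ⟨by omega, by rw [degree_X_pow]; congr 1; ring, deg_X_pow_lt (by omega),
    deg_X_pow_lt (by omega), deg_X_pow_lt (by omega), (deg_zero_lt _).le, deg_X_pow_le (by omega)⟩

/-- `PUinv`: entries `(a, 0, sa a², sa, sa a, a)` -/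
theorem udom_PUinv {n P : ℕ} (hn : 1 ≤ n) :
    UDom (P + 2 * n) ((X : F[X]) ^ n) 0 (X ^ P * (X ^ n) ^ 2) (X ^ P) (X ^ P * X ^ n) (X ^ n) := by
  simp only [← pow_add, ← pow_mul]
  exact ⟨by omega, by rw [degree_X_pow]; congr 1; ring, deg_X_pow_lt (by omega),
    deg_zero_lt _, deg_X_pow_lt (by omega), deg_X_pow_le (by omega), deg_X_pow_le (by omega)⟩

/-- `PU_i * PUinv_j` for `n < n'` -/
theorem udom_mul_inv_lt {n P n' P' : ℕ} (hn : 1 ≤ n) (hnn : n < n') (hP : P ≤ P') :
    UDom (P' + 2 * n') ((X : F[X]) ^ n + X ^ n') (X ^ P * X ^ n + X ^ n * X ^ P' + 0)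
      (X ^ P * (X ^ n) ^ 2 + X ^ n * (X ^ P' * X ^ n') + X ^ P * X ^ n * X ^ n'
        + X ^ P' * (X ^ n') ^ 2)
      (X ^ P + X ^ P') (0 + X ^ P * X ^ n' + X ^ P' * X ^ n') (X ^ n + X ^ n') := by
  simp only [← pow_add, ← pow_mul, add_zero, zero_add]
  refine ⟨by omega, ?_, ?_, ?_, ?_, ?_, ?_⟩
  · have : ((X : F[X]) ^ (P + n * 2) + X ^ (n + (P' + n')) + X ^ (P + n + n') + X ^ (P' + n' * 2))
        = X ^ (P' + n' * 2) + (X ^ (P + n * 2) + X ^ (n + (P' + n')) + X ^ (P + n + n')) := by ring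
    rw [this, degree_add_eq_left_of_degree_lt, degree_X_pow]
    · congr 1; ring
    · rw [degree_X_pow]
      exact deg_add_lt (deg_add_lt (deg_X_pow_lt (by omega)) (deg_X_pow_lt (by omega)))
        (deg_X_pow_lt (by omega))
  · exact deg_add_lt (deg_X_pow_lt (by omega)) (deg_X_pow_lt (by omega))
  · exact deg_add_lt (deg_X_pow_lt (by omega)) (deg_X_pow_lt (by omega))
  · exact deg_add_lt (deg_X_pow_lt (by omega)) (deg_X_pow_lt (by omega))
  · exact deg_add_le (deg_X_pow_le (by omega)) (deg_X_pow_le (by omega))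
  · exact deg_add_le (deg_X_pow_le (by omega)) (deg_X_pow_le (by omega))

/-- `PU_i * PUinv_j` for `n' < n` -/
theorem udom_mul_inv_gt {n P n' P' : ℕ} (hn : 1 ≤ n') (hnn : n' < n) (hP : P' ≤ P) :
    UDom (P + 2 * n) ((X : F[X]) ^ n + X ^ n') (X ^ P * X ^ n + X ^ n * X ^ P' + 0)
      (X ^ P * (X ^ n) ^ 2 + X ^ n * (X ^ P' * X ^ n') + X ^ P * X ^ n * X ^ n'
        + X ^ P' * (X ^ n') ^ 2)
      (X ^ P + X ^ P') (0 + X ^ P * X ^ n' + X ^ P' * X ^ n') (X ^ n + X ^ n') := by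
  simp only [← pow_add, ← pow_mul, add_zero, zero_add]
  refine ⟨by omega, ?_, ?_, ?_, ?_, ?_, ?_⟩
  · have : ((X : F[X]) ^ (P + n * 2) + X ^ (n + (P' + n')) + X ^ (P + n + n') + X ^ (P' + n' * 2))
        = X ^ (P + n * 2) + (X ^ (n + (P' + n')) + X ^ (P + n + n') + X ^ (P' + n' * 2)) := by ring
    rw [this, degree_add_eq_left_of_degree_lt, degree_X_pow]
    · congr 1; ring
    · rw [degree_X_pow]
      exact deg_add_lt (deg_add_lt (deg_X_pow_lt (by omega)) (deg_X_pow_lt (by omega)))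
        (deg_X_pow_lt (by omega))
  · exact deg_add_lt (deg_X_pow_lt (by omega)) (deg_X_pow_lt (by omega))
  · exact deg_add_lt (deg_X_pow_lt (by omega)) (deg_X_pow_lt (by omega))
  · exact deg_add_lt (deg_X_pow_lt (by omega)) (deg_X_pow_lt (by omega))
  · exact deg_add_le (deg_X_pow_le (by omega)) (deg_X_pow_le (by omega))
  · exact deg_add_le (deg_X_pow_le (by omega)) (deg_X_pow_le (by omega))

/-- `PUinv_i * PU_j` for `n < n'` -/
theorem udom_inv_mul_lt {n P n' P' : ℕ} (hn : 1 ≤ n) (hnn : n < n') (hP : P ≤ P') :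
    UDom (P' + 2 * n') ((X : F[X]) ^ n + X ^ n') (0 + X ^ n * X ^ P' + X ^ P' * X ^ n')
      (X ^ P * (X ^ n) ^ 2 + X ^ n * 0 + 0 * X ^ n' + X ^ P' * (X ^ n') ^ 2)
      (X ^ P + X ^ P') (X ^ P * X ^ n + X ^ P * X ^ n' + 0) (X ^ n + X ^ n') := by
  simp only [← pow_add, ← pow_mul, add_zero, zero_add, mul_zero, zero_mul]
  refine ⟨by omega, ?_, ?_, ?_, ?_, ?_, ?_⟩
  · rw [add_comm, degree_add_eq_left_of_degree_lt, degree_X_pow]
    · congr 1; ring
    · rw [degree_X_pow, degree_X_pow]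
      exact_mod_cast (by omega : P + n * 2 < P' + n' * 2)
  · exact deg_add_lt (deg_X_pow_lt (by omega)) (deg_X_pow_lt (by omega))
  · exact deg_add_lt (deg_X_pow_lt (by omega)) (deg_X_pow_lt (by omega))
  · exact deg_add_lt (deg_X_pow_lt (by omega)) (deg_X_pow_lt (by omega))
  · exact deg_add_le (deg_X_pow_le (by omega)) (deg_X_pow_le (by omega))
  · exact deg_add_le (deg_X_pow_le (by omega)) (deg_X_pow_le (by omega))

/-- `PUinv_i * PU_j` for `n' < n` -/
theorem udom_inv_mul_gt {n P n' P' : ℕ} (hn : 1 ≤ n') (hnn : n' < n) (hP : P' ≤ P) :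
    UDom (P + 2 * n) ((X : F[X]) ^ n + X ^ n') (0 + X ^ n * X ^ P' + X ^ P' * X ^ n')
      (X ^ P * (X ^ n) ^ 2 + X ^ n * 0 + 0 * X ^ n' + X ^ P' * (X ^ n') ^ 2)
      (X ^ P + X ^ P') (X ^ P * X ^ n + X ^ P * X ^ n' + 0) (X ^ n + X ^ n') := by
  simp only [← pow_add, ← pow_mul, add_zero, zero_add, mul_zero, zero_mul]
  refine ⟨by omega, ?_, ?_, ?_, ?_, ?_, ?_⟩
  · rw [degree_add_eq_left_of_degree_lt, degree_X_pow]
    · congr 1; ring
    · rw [degree_X_pow, degree_X_pow]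
      exact_mod_cast (by omega : P' + n' * 2 < P + n * 2)
  · exact deg_add_lt (deg_X_pow_lt (by omega)) (deg_X_pow_lt (by omega))
  · exact deg_add_lt (deg_X_pow_lt (by omega)) (deg_X_pow_lt (by omega))
  · exact deg_add_lt (deg_X_pow_lt (by omega)) (deg_X_pow_lt (by omega))
  · exact deg_add_le (deg_X_pow_le (by omega)) (deg_X_pow_le (by omega))
  · exact deg_add_le (deg_X_pow_le (by omega)) (deg_X_pow_le (by omega))

end Mono

section Gen

variable (F : Type*) [Field F] (r : ℕ)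

/-- the parameter `a_i = X^(i+1)` -/
noncomputable def pa (i : ℕ) : F[X] := X ^ (i + 1)

/-- the parameter `S a_i = X^(r (i+1))` -/
noncomputable def psa (i : ℕ) : F[X] := X ^ (r * (i + 1))

/-- the generic root element -/
noncomputable def PU (i : ℕ) : Matrix (Fin 4) (Fin 4) F[X] :=
  TT (pa F i) (psa F r i * pa F i) (psa F r i * pa F i ^ 2) (psa F r i) 0 (pa F i)

/-- the inverse of the generic root element -/
noncomputable def PUinv (i : ℕ) : Matrix (Fin 4) (Fin 4) F[X] :=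
  TT (pa F i) 0 (psa F r i * pa F i ^ 2) (psa F r i) (psa F r i * pa F i) (pa F i)

variable {F}

theorem two_eq_zero_poly (h2 : (2 : F) = 0) : (2 : F[X]) = 0 := by
  have : (2 : F[X]) = C (2 : F) := (C_ofNat 2).symm
  rw [this, h2, C_0]

theorem PU_mul_PUinv (h2 : (2 : F) = 0) (i : ℕ) : PU F r i * PUinv F r i = 1 := by
  have h2' := two_eq_zero_poly h2
  rw [PU, PUinv, TT_mul, ← TT_zero]
  congr 1
  · linear_combination pa F i * h2'
  · linear_combination (psa F r i * pa F i) * h2'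
  · linear_combination (psa F r i * pa F i ^ 2 + pa F i * psa F r i * pa F i) * h2'
  · linear_combination psa F r i * h2'
  · linear_combination (psa F r i * pa F i) * h2'
  · linear_combination pa F i * h2'

theorem PUinv_mul_PU (h2 : (2 : F) = 0) (i : ℕ) : PUinv F r i * PU F r i = 1 := by
  have h2' := two_eq_zero_poly h2
  rw [PU, PUinv, TT_mul, ← TT_zero]
  congr 1
  · linear_combination pa F i * h2'
  · linear_combination (psa F r i * pa F i) * h2'
  · linear_combination (psa F r i * pa F i ^ 2) * h2'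
  · linear_combination psa F r i * h2'
  · linear_combination (psa F r i * pa F i) * h2'
  · linear_combination pa F i * h2'

variable (F)

/-- the matrix of a letter `x_i^{±1}`, where `x_i = PU_i * PW * PU_i * PW` -/
noncomputable def letterMat (x : ℕ × Bool) : Matrix (Fin 4) (Fin 4) F[X] :=
  if x.2 then PU F r x.1 * PW * PU F r x.1 * PW else PW * PUinv F r x.1 * PW * PUinv F r x.1

variable {F}

theorem letterMat_mul_inv (h2 : (2 : F) = 0) (i : ℕ) :
    letterMat F r (i, true) * letterMat F r (i, false) = 1 := by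
  simp only [letterMat, if_true, Bool.false_eq_true, if_false]
  calc PU F r i * PW * PU F r i * PW * (PW * PUinv F r i * PW * PUinv F r i)
      = PU F r i * PW * PU F r i * (PW * PW) * PUinv F r i * PW * PUinv F r i := by
        simp only [Matrix.mul_assoc]
    _ = PU F r i * PW * (PU F r i * PUinv F r i) * PW * PUinv F r i := by
        rw [PW_mul_PW, Matrix.mul_one]; simp only [Matrix.mul_assoc]
    _ = PU F r i * (PW * PW) * PUinv F r i := by
        rw [PU_mul_PUinv r h2, Matrix.mul_one]; simp only [Matrix.mul_assoc]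
    _ = 1 := by rw [PW_mul_PW, Matrix.mul_one, PU_mul_PUinv r h2]

theorem letterMat_inv_mul (h2 : (2 : F) = 0) (i : ℕ) :
    letterMat F r (i, false) * letterMat F r (i, true) = 1 := by
  simp only [letterMat, if_true, Bool.false_eq_true, if_false]
  calc PW * PUinv F r i * PW * PUinv F r i * (PU F r i * PW * PU F r i * PW)
      = PW * PUinv F r i * PW * (PUinv F r i * PU F r i) * PW * PU F r i * PW := by
        simp only [Matrix.mul_assoc]
    _ = PW * PUinv F r i * (PW * PW) * PU F r i * PW := by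
        rw [PUinv_mul_PU r h2, Matrix.mul_one]; simp only [Matrix.mul_assoc]
    _ = PW * (PUinv F r i * PU F r i) * PW := by
        rw [PW_mul_PW, Matrix.mul_one]; simp only [Matrix.mul_assoc]
    _ = 1 := by rw [PUinv_mul_PU r h2, Matrix.mul_one, PW_mul_PW]

/-- the dominance exponent of the `i`-th root element -/
def EE (i : ℕ) : ℕ := r * (i + 1) + 2 * (i + 1)

theorem dom_PU {ρ : Fin 4 → F[X]} (i : ℕ) (hρ : Dom 0 ρ) :
    Dom 3 (ρ ᵥ* PU F r i) ∧ ((ρ ᵥ* PU F r i) 3).degree = (ρ 0).degree + (EE r i : WithBot ℕ) :=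
  dom_TT (udom_PU (P := r * (i + 1)) (by omega : 1 ≤ i + 1)) hρ

theorem dom_PUinv {ρ : Fin 4 → F[X]} (i : ℕ) (hρ : Dom 0 ρ) :
    Dom 3 (ρ ᵥ* PUinv F r i) ∧
      ((ρ ᵥ* PUinv F r i) 3).degree = (ρ 0).degree + (EE r i : WithBot ℕ) :=
  dom_TT (udom_PUinv (P := r * (i + 1)) (by omega : 1 ≤ i + 1)) hρ

theorem dom_PU_mul_PUinv {ρ : Fin 4 → F[X]} {i j : ℕ} (hij : i ≠ j) (hρ : Dom 0 ρ) :
    Dom 3 (ρ ᵥ* (PU F r i * PUinv F r j)) := by
  rw [PU, PUinv, TT_mul]
  rcases lt_or_gt_of_ne hij with h | h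
  · exact (dom_TT (udom_mul_inv_lt (n := i + 1) (n' := j + 1) (P := r * (i + 1))
      (P' := r * (j + 1)) (by omega) (by omega) (Nat.mul_le_mul_left _ (by omega))) hρ).1
  · exact (dom_TT (udom_mul_inv_gt (n := i + 1) (n' := j + 1) (P := r * (i + 1))
      (P' := r * (j + 1)) (by omega) (by omega) (Nat.mul_le_mul_left _ (by omega))) hρ).1

theorem dom_PUinv_mul_PU {ρ : Fin 4 → F[X]} {i j : ℕ} (hij : i ≠ j) (hρ : Dom 0 ρ) :
    Dom 3 (ρ ᵥ* (PUinv F r i * PU F r j)) := by
  rw [PU, PUinv, TT_mul]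
  rcases lt_or_gt_of_ne hij with h | h
  · exact (dom_TT (udom_inv_mul_lt (n := i + 1) (n' := j + 1) (P := r * (i + 1))
      (P' := r * (j + 1)) (by omega) (by omega) (Nat.mul_le_mul_left _ (by omega))) hρ).1
  · exact (dom_TT (udom_inv_mul_gt (n := i + 1) (n' := j + 1) (P := r * (i + 1))
      (P' := r * (j + 1)) (by omega) (by omega) (Nat.mul_le_mul_left _ (by omega))) hρ).1

variable (F)

/-- the invariant for the first row of a partial product, depending on the last letter -/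
def Inv : ℕ × Bool → (Fin 4 → F[X]) → Prop
  | (i, true), ρ => ∃ ρ' : Fin 4 → F[X], Dom 0 ρ' ∧ ρ = ρ' ᵥ* (PU F r i * PW)
  | (i, false), ρ => ∃ ρ' : Fin 4 → F[X], Dom 0 ρ' ∧ ρ = ρ' ᵥ* PUinv F r i

variable {F}

/-- the first row of the identity matrix -/
noncomputable def row0 : Fin 4 → F[X] := ![1, 0, 0, 0]

theorem dom_row0 : Dom 0 (row0 : Fin 4 → F[X]) := by
  intro j hj
  fin_cases j
  · exact absurd rfl hj
  all_goals simp [row0]

theorem inv_init (x : ℕ × Bool) : Inv F r x (row0 ᵥ* letterMat F r x) := by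
  rcases x with ⟨i, _ | _⟩
  · -- negative letter
    refine ⟨row0, dom_row0, ?_⟩
    simp only [letterMat, Bool.false_eq_true, if_false]
    have h1 : (row0 : Fin 4 → F[X]) ᵥ* (PW * PUinv F r i * PW) = row0 := by
      rw [← Matrix.vecMul_vecMul, ← Matrix.vecMul_vecMul, vecMul_PW, PUinv, vecMul_TT, vecMul_PW]
      simp [row0]
    rw [← Matrix.vecMul_vecMul, h1]
  · refine ⟨(row0 ᵥ* PU F r i) ᵥ* PW, dom_PW_of_three (dom_PU r i dom_row0).1, ?_⟩
    simp only [letterMat, if_true]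
    simp only [Matrix.vecMul_vecMul, Matrix.mul_assoc]

theorem inv_step (x y : ℕ × Bool) (hxy : x.1 = y.1 → x.2 = y.2) (ρ : Fin 4 → F[X])
    (h : Inv F r x ρ) : Inv F r y (ρ ᵥ* letterMat F r y) := by
  rcases x with ⟨i, _ | _⟩ <;> rcases y with ⟨j, _ | _⟩
  · -- inverse letter then inverse letter
    obtain ⟨ρ', hρ', rfl⟩ := h
    refine ⟨((ρ' ᵥ* PUinv F r i) ᵥ* PW ᵥ* PUinv F r j) ᵥ* PW, ?_, ?_⟩
    · exact dom_PW_of_three (dom_PUinv r j (dom_PW_of_three (dom_PUinv r i hρ').1)).1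
    · simp only [letterMat, Bool.false_eq_true, if_false]
      simp only [Matrix.vecMul_vecMul, Matrix.mul_assoc]
  · -- inverse letter then positive letter, `i ≠ j`
    have hij : i ≠ j := by
      intro h'
      have := hxy h'
      simp at this
    obtain ⟨ρ', hρ', rfl⟩ := h
    refine ⟨(ρ' ᵥ* (PUinv F r i * PU F r j)) ᵥ* PW, ?_, ?_⟩
    · exact dom_PW_of_three (dom_PUinv_mul_PU r hij hρ')
    · simp only [letterMat, if_true]
      simp only [Matrix.vecMul_vecMul, Matrix.mul_assoc]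
  · -- positive letter then inverse letter, `i ≠ j`
    have hij : i ≠ j := by
      intro h'
      have := hxy h'
      simp at this
    obtain ⟨ρ', hρ', rfl⟩ := h
    refine ⟨(ρ' ᵥ* (PU F r i * PUinv F r j)) ᵥ* PW, ?_, ?_⟩
    · exact dom_PW_of_three (dom_PU_mul_PUinv r hij hρ')
    · simp only [letterMat, Bool.false_eq_true, if_false]
      have hmat : PU F r i * PW * (PW * PUinv F r j * PW * PUinv F r j)
          = PU F r i * PUinv F r j * PW * PUinv F r j := by
        calc PU F r i * PW * (PW * PUinv F r j * PW * PUinv F r j)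
            = PU F r i * (PW * PW) * PUinv F r j * PW * PUinv F r j := by
              simp only [Matrix.mul_assoc]
          _ = PU F r i * PUinv F r j * PW * PUinv F r j := by rw [PW_mul_PW, Matrix.mul_one]
      rw [Matrix.vecMul_vecMul, Matrix.vecMul_vecMul, Matrix.vecMul_vecMul, hmat]
      simp only [Matrix.mul_assoc]
  · -- positive letter then positive letter
    obtain ⟨ρ', hρ', rfl⟩ := h
    refine ⟨((ρ' ᵥ* PU F r i) ᵥ* PW ᵥ* PU F r j) ᵥ* PW, ?_, ?_⟩
    · exact dom_PW_of_three (dom_PU r j (dom_PW_of_three (dom_PU r i hρ').1)).1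
    · simp only [letterMat, if_true]
      simp only [Matrix.vecMul_vecMul, Matrix.mul_assoc]

theorem deg_ge_of_dom {ρ : Fin 4 → F[X]} (hρ : Dom 0 ρ) (E : ℕ) (hE : 1 ≤ E) :
    ((1 : ℕ) : WithBot ℕ) ≤ (ρ 0).degree + (E : WithBot ℕ) := by
  have h0 : ρ 0 ≠ 0 := hρ.ne_zero
  rw [degree_eq_natDegree h0]
  exact_mod_cast (by omega : 1 ≤ (ρ 0).natDegree + E)

theorem inv_final (x : ℕ × Bool) (ρ : Fin 4 → F[X]) (h : Inv F r x ρ) :
    ∃ j : Fin 4, ((1 : ℕ) : WithBot ℕ) ≤ (ρ j).degree := by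
  rcases x with ⟨i, _ | _⟩
  · obtain ⟨ρ', hρ', rfl⟩ := h
    refine ⟨3, ?_⟩
    rw [(dom_PUinv r i hρ').2]
    exact deg_ge_of_dom hρ' _ (by unfold EE; omega)
  · obtain ⟨ρ', hρ', rfl⟩ := h
    refine ⟨0, ?_⟩
    rw [← Matrix.vecMul_vecMul, vecMul_PW]
    show _ ≤ ((ρ' ᵥ* PU F r i) 3).degree
    rw [(dom_PU r i hρ').2]
    exact deg_ge_of_dom hρ' _ (by unfold EE; omega)

theorem inv_foldl : ∀ (L : List (ℕ × Bool)) (x : ℕ × Bool) (ρ : Fin 4 → F[X]),
    FreeGroup.IsReduced (x :: L) → Inv F r x ρ →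
      ∃ y, Inv F r y (L.foldl (fun (ρ : Fin 4 → F[X]) x => ρ ᵥ* letterMat F r x) ρ)
  | [], x, ρ, _, h => ⟨x, h⟩
  | (y :: L), x, ρ, hred, h => by
    rw [FreeGroup.isReduced_cons_cons] at hred
    simp only [List.foldl_cons]
    exact inv_foldl L y (ρ ᵥ* letterMat F r y) hred.2 (inv_step r x y hred.1 ρ h)

theorem foldl_pos (L : List (ℕ × Bool)) (hL : FreeGroup.IsReduced L) (hne : L ≠ []) :
    ∃ j : Fin 4, ((1 : ℕ) : WithBot ℕ) ≤
      ((L.foldl (fun (ρ : Fin 4 → F[X]) x => ρ ᵥ* letterMat F r x) row0) j).degree := by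
  rcases L with _ | ⟨x, L⟩
  · exact absurd rfl hne
  · simp only [List.foldl_cons]
    obtain ⟨y, hy⟩ := inv_foldl (F := F) r L x _ hL (inv_init r x)
    exact inv_final r y _ hy

end Gen

section Bound

variable {F : Type*} [Field F] (r : ℕ)

/-- all entries have degree at most `d` -/
def EntLE (M : Matrix (Fin 4) (Fin 4) F[X]) (d : ℕ) : Prop := ∀ i j, (M i j).natDegree ≤ d

theorem EntLE.mul {A B : Matrix (Fin 4) (Fin 4) F[X]} {d1 d2 : ℕ} (hA : EntLE A d1)
    (hB : EntLE B d2) : EntLE (A * B) (d1 + d2) := by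
  intro i j
  rw [Matrix.mul_apply]
  apply natDegree_sum_le_of_forall_le
  intro k _
  exact natDegree_mul_le_of_le (hA i k) (hB k j)

theorem EntLE.mono {A : Matrix (Fin 4) (Fin 4) F[X]} {d1 d2 : ℕ} (hA : EntLE A d1)
    (h : d1 ≤ d2) : EntLE A d2 := fun i j => (hA i j).trans h

theorem entLE_one : EntLE (1 : Matrix (Fin 4) (Fin 4) F[X]) 0 := by
  intro i j
  by_cases h : i = j
  · subst h; simp
  · simp [h]

theorem entLE_PW : EntLE (PW : Matrix (Fin 4) (Fin 4) F[X]) 0 := by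
  intro i j
  fin_cases i <;> fin_cases j <;> simp [PW]

theorem entLE_PU (i : ℕ) : EntLE (PU F r i) (EE r i) := by
  intro a b
  fin_cases a <;> fin_cases b <;> simp [PU, TT, pa, psa] <;> (unfold EE; omega)

theorem entLE_PUinv (i : ℕ) : EntLE (PUinv F r i) (EE r i) := by
  intro a b
  fin_cases a <;> fin_cases b <;> simp [PUinv, TT, pa, psa] <;> (unfold EE; omega)

theorem entLE_letter (x : ℕ × Bool) : EntLE (letterMat F r x) (2 * EE r x.1) := by
  rcases x with ⟨i, _ | _⟩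
  · simp only [letterMat, Bool.false_eq_true, if_false]
    exact (((entLE_PW.mul (entLE_PUinv r i)).mul entLE_PW).mul (entLE_PUinv r i)).mono (by omega)
  · simp only [letterMat, if_true]
    exact ((((entLE_PU r i).mul entLE_PW).mul (entLE_PU r i)).mul entLE_PW).mono (by omega)

/-- the length bound of a word -/
def bound (L : List (ℕ × Bool)) : ℕ := (L.map (fun x => 2 * (x.1 + 1))).sum

theorem entLE_prod : ∀ L : List (ℕ × Bool),
    EntLE ((L.map (letterMat F r)).prod) ((r + 2) * bound L)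
  | [] => by simpa [bound] using entLE_one
  | (x :: L) => by
    rw [List.map_cons, List.prod_cons]
    refine ((entLE_letter r x).mul (entLE_prod L)).mono ?_
    simp only [bound, List.map_cons, List.sum_cons, EE]
    ring_nf
    exact le_refl _

theorem foldl_eq_vecMul : ∀ (L : List (ℕ × Bool)) (ρ : Fin 4 → F[X]),
    L.foldl (fun (ρ : Fin 4 → F[X]) x => ρ ᵥ* letterMat F r x) ρ
      = ρ ᵥ* (L.map (letterMat F r)).prod
  | [], ρ => by simp
  | (x :: L), ρ => by
    rw [List.foldl_cons, foldl_eq_vecMul L, List.map_cons, List.prod_cons, Matrix.vecMul_vecMul]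

theorem row0_vecMul (M : Matrix (Fin 4) (Fin 4) F[X]) : row0 ᵥ* M = M 0 := by
  ext j
  simp [row0, Matrix.vecMul, dotProduct, Fin.sum_univ_four]

/-- a nontrivial reduced word in the generic generators has, in its first row, an entry
differing from that of the identity, by a polynomial of small degree -/
theorem exists_entry_prod (L : List (ℕ × Bool)) (hL : FreeGroup.IsReduced L) (hne : L ≠ []) :
    ∃ j : Fin 4, ((L.map (letterMat F r)).prod 0 j - (1 : Matrix (Fin 4) (Fin 4) F[X]) 0 j) ≠ 0 ∧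
      ((L.map (letterMat F r)).prod 0 j - (1 : Matrix (Fin 4) (Fin 4) F[X]) 0 j).natDegree
        ≤ (r + 2) * bound L := by
  obtain ⟨j, hj⟩ := foldl_pos (F := F) r L hL hne
  rw [foldl_eq_vecMul, row0_vecMul] at hj
  refine ⟨j, ?_, ?_⟩
  · intro h0
    have hdeg : ((1 : Matrix (Fin 4) (Fin 4) F[X]) 0 j).degree ≤ ((0 : ℕ) : WithBot ℕ) := by
      by_cases h : (0 : Fin 4) = j
      · rw [← h, Matrix.one_apply_eq]; exact degree_one_le
      · rw [Matrix.one_apply_ne h, degree_zero]; exact bot_le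
    have hlt : ((1 : Matrix (Fin 4) (Fin 4) F[X]) 0 j).degree
        < ((L.map (letterMat F r)).prod 0 j).degree :=
      hdeg.trans_lt (lt_of_lt_of_le (by exact_mod_cast Nat.zero_lt_one) hj)
    have := degree_sub_eq_left_of_degree_lt hlt
    rw [h0, degree_zero] at this
    rw [← this] at hj
    exact absurd hj (by simp)
  · refine (natDegree_sub_le _ _).trans (max_le (entLE_prod r L 0 j) ?_)
    refine (entLE_one 0 j).trans (Nat.zero_le _)

end Bound

section Group

variable {F : Type*} [Field F] (r : ℕ) (h2 : (2 : F) = 0)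

/-- the generic generators, as units of the matrix ring over `F[X]` -/
noncomputable def gen (i : ℕ) : (Matrix (Fin 4) (Fin 4) F[X])ˣ :=
  ⟨letterMat F r (i, true), letterMat F r (i, false), letterMat_mul_inv r h2 i,
    letterMat_inv_mul r h2 i⟩

theorem gen_letter (x : ℕ × Bool) :
    ((cond x.2 (gen r h2 x.1) (gen r h2 x.1)⁻¹ : (Matrix (Fin 4) (Fin 4) F[X])ˣ) :
      Matrix (Fin 4) (Fin 4) F[X]) = letterMat F r x := by
  rcases x with ⟨i, _ | _⟩
  · rfl
  · rfl

theorem lift_gen_val (w : FreeGroup ℕ) :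
    ((FreeGroup.lift (gen r h2) w : (Matrix (Fin 4) (Fin 4) F[X])ˣ) :
      Matrix (Fin 4) (Fin 4) F[X]) = (w.toWord.map (letterMat F r)).prod := by
  conv_lhs => rw [← FreeGroup.mk_toWord (x := w), FreeGroup.lift_mk]
  rw [← Units.coeHom_apply, map_list_prod, List.map_map]
  congr 1
  apply List.map_congr_left
  intro x _
  exact gen_letter r h2 x

/-- a nontrivial word in the generic generators is not the identity: some entry of its first row
differs from the identity by a nonzero polynomial of degree at most `(r + 2) * bound` -/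
theorem exists_entry (w : FreeGroup ℕ) (hw : w ≠ 1) :
    ∃ j : Fin 4,
      (((FreeGroup.lift (gen r h2) w : (Matrix (Fin 4) (Fin 4) F[X])ˣ) :
          Matrix (Fin 4) (Fin 4) F[X]) 0 j - (1 : Matrix (Fin 4) (Fin 4) F[X]) 0 j) ≠ 0 ∧
      (((FreeGroup.lift (gen r h2) w : (Matrix (Fin 4) (Fin 4) F[X])ˣ) :
          Matrix (Fin 4) (Fin 4) F[X]) 0 j - (1 : Matrix (Fin 4) (Fin 4) F[X]) 0 j).natDegree
        ≤ (r + 2) * bound w.toWord := by
  rw [lift_gen_val]
  exact exists_entry_prod r w.toWord FreeGroup.isReduced_toWord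
    (fun h => hw (FreeGroup.toWord_eq_nil_iff.1 h))

end Group

end Cfsg.Agent.Lib.Helper37_SzLaw
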