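import Cfsg.Agent.Lib.Helper37_SzSubC
import Cfsg.Agent.Lib.Helper37_SzAutA

/-!
# Elements of order four and the normaliser of the split torus in the Suzuki group (helper37)

For `G = Cfsg.Sz F m`, `q = 2 ^ (2 * m + 1)`:
* `card_centralizer_of_orderOf_four` : the centraliser of an element of order four has order `2 q`;
* `conj_or_conj_inv_of_orderOf_four` : two elements of order four are conjugate, or one is conjugate
  to the inverse of the other;
* `card_normalizer_twoPt` : the normaliser of a two-point stabiliser has order `2 (q - 1)`.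
-/

set_option autoImplicit false
set_option linter.unusedSectionVars false
open Cfsg

namespace Cfsg.Agent.Helper37SzSub

open Cfsg.Agent.Helper37Sz Cfsg.Agent.Helper37SzAut
open Cfsg.Agent.Lib.Helper6_SzCent Cfsg.Agent.Lib.Helper6_SzFixity
open Cfsg.Agent.Lib.Helper6_SzPartition

section General

variable {G : Type*} [Group G]

theorem card_centralizer_conj (g v : G) :
    Nat.card (Subgroup.centralizer ({g * v * g⁻¹} : Set G))
      = Nat.card (Subgroup.centralizer ({v} : Set G)) := by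
  apply Nat.card_congr
  refine
    { toFun := fun y => ⟨g⁻¹ * (y : G) * g, ?_⟩
      invFun := fun y => ⟨g * (y : G) * g⁻¹, ?_⟩
      left_inv := fun y => by apply Subtype.ext; simp only; group
      right_inv := fun y => by apply Subtype.ext; simp only; group }
  · rw [Subgroup.mem_centralizer_singleton_iff]
    have h := Subgroup.mem_centralizer_singleton_iff.1 y.2
    have e1 : g⁻¹ * (y : G) * g * v = g⁻¹ * ((y : G) * (g * v * g⁻¹)) * g := by group
    have e2 : v * (g⁻¹ * (y : G) * g) = g⁻¹ * ((g * v * g⁻¹) * (y : G)) * g := by group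
    rw [e1, e2, h]
  · rw [Subgroup.mem_centralizer_singleton_iff]
    have h := Subgroup.mem_centralizer_singleton_iff.1 y.2
    have e1 : g * (y : G) * g⁻¹ * (g * v * g⁻¹) = g * ((y : G) * v) * g⁻¹ := by group
    have e2 : g * v * g⁻¹ * (g * (y : G) * g⁻¹) = g * (v * (y : G)) * g⁻¹ := by group
    rw [e1, e2, h]

theorem centralizer_inv (v : G) :
    Subgroup.centralizer ({v⁻¹} : Set G) = Subgroup.centralizer ({v} : Set G) := by
  ext y
  rw [Subgroup.mem_centralizer_singleton_iff, Subgroup.mem_centralizer_singleton_iff]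
  constructor
  · intro h
    have e : y * v = v * (v⁻¹ * y) * v := by group
    rw [e, ← h]; group
  · intro h
    have e : y * v⁻¹ = v⁻¹ * (v * y) * v⁻¹ := by group
    rw [e, ← h]; group

end General

variable {F : Type*} [Field F] [Fintype F] {S : F →+* F} {m : ℕ}

section Coord

variable (h2 : (2 : F) = 0) (hS : ∀ z, S (S z) = z ^ 2) (hSdef : ∀ z, S z = z ^ 2 ^ (m + 1))

/-- `u(1,1)` is the inverse of `u(1,0)` -/
theorem uQ_one_one : uQ (m := m) h2 hS hSdef 1 1 = (uQ h2 hS hSdef 1 0)⁻¹ := by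
  rw [eq_inv_iff_mul_eq_one, uQ_mul, ← uQ_zero h2 hS hSdef]
  congr 1
  · linear_combination h2
  · rw [map_one]; linear_combination h2

/-- conjugation inside `Q` -/
theorem uQ_conj_uQ_one (c b : F) :
    uQ h2 hS hSdef c 0 * uQ h2 hS hSdef 1 b * (uQ h2 hS hSdef c 0)⁻¹
      = uQ (m := m) h2 hS hSdef 1 (b + S c + c) := by
  rw [mul_inv_eq_iff_eq_mul, uQ_mul, uQ_mul]
  congr 1
  · ring
  · rw [map_one]
    have := add_self_zero h2 c
    linear_combination -this

/-- an element `u(a,b)`, `a ≠ 0`, is conjugate to `u(1,0)` or to its inverse -/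
theorem uQ_conj_std {a : F} (ha : a ≠ 0) (b : F) :
    ∃ k : Cfsg.Sz F m, k * uQ h2 hS hSdef a b * k⁻¹ = uQ h2 hS hSdef 1 0 ∨
      k * uQ h2 hS hSdef a b * k⁻¹ = (uQ h2 hS hSdef 1 0)⁻¹ := by
  obtain ⟨t, ht⟩ := exists_sq hS a⁻¹
  have ht0 : t ≠ 0 := by
    rintro rfl
    rw [zero_pow two_ne_zero] at ht
    exact inv_ne_zero ha ht.symm
  set b' := S t ^ 2 * t ^ 2 * b with hb'
  have h1 : hQ hS hSdef (Units.mk0 t ht0) * uQ h2 hS hSdef a b * (hQ hS hSdef (Units.mk0 t ht0))⁻¹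
      = uQ (m := m) h2 hS hSdef 1 b' := by
    rw [hQ_conj_uQ, Units.val_mk0, hb', ht, inv_mul_cancel₀ ha]
  by_cases hK : b' ∈ K0 S
  · obtain ⟨c, hc⟩ := hK
    rw [trMap_apply] at hc
    refine ⟨uQ h2 hS hSdef c 0 * hQ hS hSdef (Units.mk0 t ht0), Or.inl ?_⟩
    have e : uQ h2 hS hSdef c 0 * hQ hS hSdef (Units.mk0 t ht0) * uQ h2 hS hSdef a b
        * (uQ h2 hS hSdef c 0 * hQ hS hSdef (Units.mk0 t ht0))⁻¹
        = uQ h2 hS hSdef c 0 * (hQ hS hSdef (Units.mk0 t ht0) * uQ h2 hS hSdef a b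
          * (hQ hS hSdef (Units.mk0 t ht0))⁻¹) * (uQ h2 hS hSdef c 0)⁻¹ := by group
    rw [e, h1, uQ_conj_uQ_one]
    congr 1
    rw [← hc]
    have := add_self_zero h2 (S c + c)
    linear_combination this
  · have h1K : (1 : F) ∉ K0 S := by
      rintro ⟨z, hz⟩
      rw [trMap_apply] at hz
      apply S_ne_add_one h2 hS z
      have := add_self_zero h2 z
      linear_combination hz - this
    have hK' : b' + 1 ∈ K0 S := by
      rw [add_mem_K0_iff h2 hS]
      exact ⟨fun h => absurd h hK, fun h => absurd h h1K⟩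
    obtain ⟨c, hc⟩ := hK'
    rw [trMap_apply] at hc
    refine ⟨uQ h2 hS hSdef c 0 * hQ hS hSdef (Units.mk0 t ht0), Or.inr ?_⟩
    have e : uQ h2 hS hSdef c 0 * hQ hS hSdef (Units.mk0 t ht0) * uQ h2 hS hSdef a b
        * (uQ h2 hS hSdef c 0 * hQ hS hSdef (Units.mk0 t ht0))⁻¹
        = uQ h2 hS hSdef c 0 * (hQ hS hSdef (Units.mk0 t ht0) * uQ h2 hS hSdef a b
          * (hQ hS hSdef (Units.mk0 t ht0))⁻¹) * (uQ h2 hS hSdef c 0)⁻¹ := by group
    rw [e, h1, uQ_conj_uQ_one, ← uQ_one_one]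
    congr 1
    have := add_self_zero h2 b'
    linear_combination hc + this

/-- the centraliser of `u(1,0)` -/
theorem mem_centralizer_uQ_one (hm : 1 ≤ m) (hF : Fintype.card F = 2 ^ (2 * m + 1))
    (y : Cfsg.Sz F m) :
    y ∈ Subgroup.centralizer ({uQ h2 hS hSdef 1 0} : Set (Cfsg.Sz F m)) ↔
      ∃ d : F, y = uQ h2 hS hSdef 0 d ∨ y = uQ h2 hS hSdef 1 d := by
  rw [Subgroup.mem_centralizer_singleton_iff]
  constructor
  · intro h
    -- `y` fixes `∞`
    have hfix : y • ptInf F m = ptInf F m := by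
      apply uQ_fix h2 hS hSdef (a := 1) (b := 0) (by simp)
      have e : uQ h2 hS hSdef 1 0 • y • ptInf F m = (uQ h2 hS hSdef 1 0 * y) • ptInf F m :=
        (mul_smul _ _ _).symm
      rw [e, ← h, mul_smul, uQ_smul_ptInf]
    obtain ⟨a, c, t, rfl⟩ := stab_inf hm hF h2 hS hSdef hfix
    have h1 : uQ h2 hS hSdef a c * hQ hS hSdef t * uQ h2 hS hSdef 1 0
        = uQ h2 hS hSdef a c * uQ h2 hS hSdef ((t : F) ^ 2 * 1) (S (t : F) ^ 2 * (t : F) ^ 2 * 0)
          * hQ hS hSdef t := by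
      rw [mul_assoc, hQ_mul_uQ, ← mul_assoc]
    rw [h1, ← mul_assoc, uQ_mul, uQ_mul] at h
    have h3 := mul_right_cancel h
    obtain ⟨e1, e2⟩ := uQ_inj h2 hS hSdef h3
    have ht2 : (t : F) ^ 2 = 1 := by linear_combination e1
    have ht1 : (t : F) = 1 := unit_eq_one_of_sq h2 ht2
    have ht : t = 1 := Units.ext ht1
    rw [ht1, map_one] at e2
    have hSa : S a = a := by linear_combination e2
    have ha2 : a ^ 2 = a := by rw [← hS, hSa, hSa]
    have ha : a * (a - 1) = 0 := by linear_combination ha2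
    rw [ht, hQ_one, mul_one]
    rcases mul_eq_zero.1 ha with h | h
    · exact ⟨c, Or.inl (by rw [h])⟩
    · have : a = 1 := by linear_combination h
      exact ⟨c, Or.inr (by rw [this])⟩
  · rintro ⟨d, rfl | rfl⟩
    · rw [uQ_mul, uQ_mul]
      congr 1
      · ring
      · rw [map_zero, map_one]; ring
    · rw [uQ_mul, uQ_mul]
      congr 1
      rw [map_one]; ring

theorem card_centralizer_uQ_one (hm : 1 ≤ m) (hF : Fintype.card F = 2 ^ (2 * m + 1)) :
    Nat.card (Subgroup.centralizer ({uQ h2 hS hSdef 1 0} : Set (Cfsg.Sz F m)))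
      = 2 * 2 ^ (2 * m + 1) := by
  let f : Bool × F → Cfsg.Sz F m := fun x => uQ h2 hS hSdef (if x.1 then 1 else 0) x.2
  have hf : Function.Injective f := by
    rintro ⟨ε, d⟩ ⟨ε', d'⟩ h
    obtain ⟨e1, e2⟩ := uQ_inj h2 hS hSdef h
    simp only at e1 e2
    have : ε = ε' := by
      cases ε <;> cases ε' <;> simp at e1 ⊢
    rw [this, e2]
  have hrange : ((Subgroup.centralizer ({uQ h2 hS hSdef 1 0} : Set (Cfsg.Sz F m)) :
      Subgroup (Cfsg.Sz F m)) : Set (Cfsg.Sz F m)) = Set.range f := by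
    ext y
    rw [SetLike.mem_coe, mem_centralizer_uQ_one h2 hS hSdef hm hF, Set.mem_range]
    constructor
    · rintro ⟨d, rfl | rfl⟩
      · exact ⟨(false, d), rfl⟩
      · exact ⟨(true, d), rfl⟩
    · rintro ⟨⟨ε, d⟩, rfl⟩
      cases ε
      · exact ⟨d, Or.inl rfl⟩
      · exact ⟨d, Or.inr rfl⟩
  have e1 : Nat.card (Subgroup.centralizer ({uQ h2 hS hSdef 1 0} : Set (Cfsg.Sz F m)))
      = Nat.card (Set.range f) := Nat.card_congr (Equiv.setCongr hrange)
  rw [e1, Nat.card_range_of_injective hf, Nat.card_prod,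
    Nat.card_eq_fintype_card, Nat.card_eq_fintype_card, Fintype.card_bool, hF]

/-- an element of order four is conjugate to some `u(a,b)` with `a ≠ 0` -/
theorem exists_conj_uQ_of_orderOf_four (hm : 1 ≤ m) (hF : Fintype.card F = 2 ^ (2 * m + 1))
    {x : Cfsg.Sz F m} (hx : orderOf x = 4) :
    ∃ (g : Cfsg.Sz F m) (a b : F), a ≠ 0 ∧ x = g * uQ h2 hS hSdef a b * g⁻¹ := by
  have : Fact (Nat.Prime 2) := ⟨Nat.prime_two⟩
  have hp : IsPGroup 2 (Subgroup.zpowers x) := by
    apply IsPGroup.of_card (n := 2)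
    rw [Nat.card_zpowers, hx]
    norm_num
  obtain ⟨P, hP⟩ := hp.exists_le_sylow
  obtain ⟨g, φ, hφ, hφval, -⟩ := sylow_two_param hm hF h2 hS hSdef P
  obtain ⟨⟨a, b⟩, hab⟩ := hφ.2 ⟨x, hP (Subgroup.mem_zpowers x)⟩
  have hxval : x = g * uQ h2 hS hSdef a b * g⁻¹ := by
    rw [← hφval a b, hab]
  refine ⟨g, a, b, ?_, hxval⟩
  rintro rfl
  have hsq : x ^ 2 = 1 := by
    rw [hxval, pow_two]
    have e : g * uQ h2 hS hSdef 0 b * g⁻¹ * (g * uQ h2 hS hSdef 0 b * g⁻¹)
        = g * (uQ h2 hS hSdef 0 b * uQ h2 hS hSdef 0 b) * g⁻¹ := by group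
    rw [e, uQ_mul]
    have hb : b + b + S 0 * 0 = 0 := by
      rw [map_zero, mul_zero, add_zero]; exact add_self_zero h2 b
    rw [hb, add_zero, uQ_zero]; group
  have := orderOf_dvd_of_pow_eq_one hsq
  rw [hx] at this
  omega

end Coord

section Main

/-- an element of order four is conjugate to the standard one or to its inverse -/
theorem conj_std_of_orderOf_four (hm : 1 ≤ m) (hF : Fintype.card F = 2 ^ (2 * m + 1))
    (h2 : (2 : F) = 0) (hS : ∀ z, S (S z) = z ^ 2) (hSdef : ∀ z, S z = z ^ 2 ^ (m + 1))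
    {x : Cfsg.Sz F m} (hx : orderOf x = 4) :
    ∃ g : Cfsg.Sz F m, x = g * uQ h2 hS hSdef 1 0 * g⁻¹ ∨ x = g * (uQ h2 hS hSdef 1 0)⁻¹ * g⁻¹ := by
  obtain ⟨g, a, b, ha, rfl⟩ := exists_conj_uQ_of_orderOf_four h2 hS hSdef hm hF hx
  obtain ⟨k, hk | hk⟩ := uQ_conj_std h2 hS hSdef (m := m) ha b
  · refine ⟨g * k⁻¹, Or.inl ?_⟩
    rw [← hk]; group
  · refine ⟨g * k⁻¹, Or.inr ?_⟩
    rw [← hk]; group

/-- (H1) the centraliser of an element of order four has order `2 q` -/
theorem card_centralizer_of_orderOf_four (hm : 1 ≤ m) (hF : Fintype.card F = 2 ^ (2 * m + 1))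
    (x : Cfsg.Sz F m) (hx : orderOf x = 4) :
    Nat.card (Subgroup.centralizer ({x} : Set (Cfsg.Sz F m))) = 2 * 2 ^ (2 * m + 1) := by
  have h2 : (2 : F) = 0 := two_eq_zero_of_card hF
  have hSdef : ∀ z, (sgHom F m h2) z = z ^ 2 ^ (m + 1) := fun z => sgHom_apply m h2 z
  have hS : ∀ z, (sgHom F m h2) ((sgHom F m h2) z) = z ^ 2 := fun z => sgHom_sgHom hF h2 z
  obtain ⟨g, rfl | rfl⟩ := conj_std_of_orderOf_four hm hF h2 hS hSdef hx
  · rw [card_centralizer_conj, card_centralizer_uQ_one h2 hS hSdef hm hF]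
  · rw [card_centralizer_conj, centralizer_inv, card_centralizer_uQ_one h2 hS hSdef hm hF]

/-- (H2) two elements of order four are conjugate, or one is conjugate to the inverse of the
other -/
theorem conj_or_conj_inv_of_orderOf_four (hm : 1 ≤ m) (hF : Fintype.card F = 2 ^ (2 * m + 1))
    (x y : Cfsg.Sz F m) (hx : orderOf x = 4) (hy : orderOf y = 4) :
    ∃ g : Cfsg.Sz F m, y = g * x * g⁻¹ ∨ y = g * x⁻¹ * g⁻¹ := by
  have h2 : (2 : F) = 0 := two_eq_zero_of_card hF
  have hSdef : ∀ z, (sgHom F m h2) z = z ^ 2 ^ (m + 1) := fun z => sgHom_apply m h2 z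
  have hS : ∀ z, (sgHom F m h2) ((sgHom F m h2) z) = z ^ 2 := fun z => sgHom_sgHom hF h2 z
  obtain ⟨g₁, h1 | h1⟩ := conj_std_of_orderOf_four hm hF h2 hS hSdef hx
  · obtain ⟨g₂, h3 | h3⟩ := conj_std_of_orderOf_four hm hF h2 hS hSdef hy
    · refine ⟨g₂ * g₁⁻¹, Or.inl ?_⟩
      rw [h1, h3]; group
    · refine ⟨g₂ * g₁⁻¹, Or.inr ?_⟩
      rw [h1, h3]; group
  · obtain ⟨g₂, h3 | h3⟩ := conj_std_of_orderOf_four hm hF h2 hS hSdef hy
    · refine ⟨g₂ * g₁⁻¹, Or.inr ?_⟩
      rw [h1, h3]; group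
    · refine ⟨g₂ * g₁⁻¹, Or.inl ?_⟩
      rw [h1, h3]; group

/-- (H3) the normaliser of a two-point stabiliser has order `2 (q - 1)` -/
theorem card_normalizer_twoPt (hm : 1 ≤ m) (hF : Fintype.card F = 2 ^ (2 * m + 1))
    {a b : Cfsg.suzukiOvoid F m} (hab : a ≠ b) :
    Nat.card (Subgroup.normalizer ((twoPt a b : Subgroup (Cfsg.Sz F m)) : Set (Cfsg.Sz F m)))
      = 2 * (2 ^ (2 * m + 1) - 1) := by
  have h2 : (2 : F) = 0 := two_eq_zero_of_card hF
  have hSdef : ∀ z, (sgHom F m h2) z = z ^ 2 ^ (m + 1) := fun z => sgHom_apply m h2 z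
  have hS : ∀ z, (sgHom F m h2) ((sgHom F m h2) z) = z ^ 2 := fun z => sgHom_sgHom hF h2 z
  set K : Subgroup (Cfsg.Sz F m) := twoPt a b with hK
  set N : Subgroup (Cfsg.Sz F m) := Subgroup.normalizer (K : Set (Cfsg.Sz F m)) with hN
  have hcardK : Nat.card K = 2 ^ (2 * m + 1) - 1 := card_twoPt hm hF hab
  -- a non-identity element of `K`
  have hq : 2 ≤ 2 ^ (2 * m + 1) - 1 := by
    have : 2 ^ 3 ≤ 2 ^ (2 * m + 1) := Nat.pow_le_pow_right (by norm_num) (by omega)
    omega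
  obtain ⟨x, hx, hx1⟩ : ∃ x ∈ K, x ≠ 1 := by
    by_contra hcon
    push Not at hcon
    have : K = ⊥ := (Subgroup.eq_bot_iff_forall _).2 hcon
    rw [this, Subgroup.card_bot] at hcardK
    omega
  -- the fixed points of `x`
  have hfixx : ∀ c : Cfsg.suzukiOvoid F m, x • c = c → c = a ∨ c = b := by
    intro c hc
    by_contra hcon
    push Not at hcon
    exact hx1 (three_pt_trivial hm hF h2 hS hSdef x hab (Ne.symm hcon.2) (Ne.symm hcon.1)
      (mem_twoPt.1 hx).1 (mem_twoPt.1 hx).2 hc)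
  -- elements of the normaliser permute `{a, b}`
  have hperm : ∀ g ∈ N, (g • a = a ∧ g • b = b) ∨ (g • a = b ∧ g • b = a) := by
    intro g hg
    have hg' : g⁻¹ ∈ N := N.inv_mem hg
    have h1 : g⁻¹ * x * g⁻¹⁻¹ ∈ K := (Subgroup.mem_normalizer_iff.1 hg' x).1 hx
    rw [inv_inv] at h1
    obtain ⟨h3, h4⟩ := mem_twoPt.1 h1
    have h5 : x • (g • a) = g • a := by
      have := congrArg (fun c => g • c) h3
      simp only [← mul_smul] at this
      rw [← mul_smul]
      have e : g * (g⁻¹ * x * g) = x * g := by group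
      rwa [e] at this
    have h6 : x • (g • b) = g • b := by
      have := congrArg (fun c => g • c) h4
      simp only [← mul_smul] at this
      rw [← mul_smul]
      have e : g * (g⁻¹ * x * g) = x * g := by group
      rwa [e] at this
    have hne : g • a ≠ g • b := fun h => hab (MulAction.injective g h)
    rcases hfixx _ h5 with h7 | h7 <;> rcases hfixx _ h6 with h8 | h8
    · exact absurd (h7.trans h8.symm) hne
    · exact Or.inl ⟨h7, h8⟩
    · exact Or.inr ⟨h7, h8⟩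
    · exact absurd (h7.trans h8.symm) hne
  -- conversely
  have hmemN : ∀ g : Cfsg.Sz F m,
      ((g • a = a ∧ g • b = b) ∨ (g • a = b ∧ g • b = a)) → g ∈ N := by
    intro g hg
    have hginv : (g⁻¹ • a = a ∧ g⁻¹ • b = b) ∨ (g⁻¹ • a = b ∧ g⁻¹ • b = a) := by
      rcases hg with ⟨h1, h3⟩ | ⟨h1, h3⟩
      · exact Or.inl ⟨by rw [inv_smul_eq_iff, h1], by rw [inv_smul_eq_iff, h3]⟩
      · exact Or.inr ⟨by rw [inv_smul_eq_iff, h3], by rw [inv_smul_eq_iff, h1]⟩
    have key : ∀ g : Cfsg.Sz F m,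
        ((g⁻¹ • a = a ∧ g⁻¹ • b = b) ∨ (g⁻¹ • a = b ∧ g⁻¹ • b = a)) →
        ∀ y ∈ K, g * y * g⁻¹ ∈ K := by
      intro g hgi y hy
      obtain ⟨hya, hyb⟩ := mem_twoPt.1 hy
      rw [mem_twoPt]
      rcases hgi with ⟨h1, h3⟩ | ⟨h1, h3⟩
      · have h4 : g • a = a := (inv_smul_eq_iff.1 h1).symm
        have h5 : g • b = b := (inv_smul_eq_iff.1 h3).symm
        exact ⟨by rw [mul_smul, mul_smul, h1, hya, h4], by rw [mul_smul, mul_smul, h3, hyb, h5]⟩
      · have h4 : g • b = a := (inv_smul_eq_iff.1 h1).symm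
        have h5 : g • a = b := (inv_smul_eq_iff.1 h3).symm
        exact ⟨by rw [mul_smul, mul_smul, h1, hyb, h4], by rw [mul_smul, mul_smul, h3, hya, h5]⟩
    rw [hN, Subgroup.mem_normalizer_iff]
    intro y
    constructor
    · exact key g hginv y
    · intro hy
      have := key g⁻¹ (by rw [inv_inv]; exact hg) _ hy
      rw [inv_inv] at this
      have e : g⁻¹ * (g * y * g⁻¹) * g = y := by group
      rwa [e] at this
  -- `K ≤ N` with index two
  have hKN : K ≤ N := Subgroup.le_normalizer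
  obtain ⟨k, hka, hkb⟩ := exists_smul_pair h2 hS hSdef hab
  obtain ⟨k', hk'b, hk'a⟩ := exists_smul_pair h2 hS hSdef hab.symm
  -- an element swapping `a` and `b`
  set w : Cfsg.Sz F m := k'⁻¹ * k with hw
  have hwa : w • a = b := by
    rw [hw, mul_smul, hka, ← hk'b, inv_smul_smul]
  have hwb : w • b = a := by
    rw [hw, mul_smul, hkb, ← hk'a, inv_smul_smul]
  have hwN : w ∈ N := hmemN w (Or.inr ⟨hwa, hwb⟩)
  have hindex : (K.subgroupOf N).index = 2 := by
    rw [Subgroup.index_eq_two_iff]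
    refine ⟨⟨w, hwN⟩, ?_⟩
    rintro ⟨g, hg⟩
    simp only [Subgroup.mem_subgroupOf, Subgroup.coe_mul]
    rcases hperm g hg with ⟨h1, h3⟩ | ⟨h1, h3⟩
    · refine Or.inr ⟨mem_twoPt.2 ⟨h1, h3⟩, ?_⟩
      intro h
      have := (mem_twoPt.1 h).1
      rw [mul_smul, hwa, h3] at this
      exact hab this.symm
    · refine Or.inl ⟨mem_twoPt.2 ⟨by rw [mul_smul, hwa, h3], by rw [mul_smul, hwb, h1]⟩, ?_⟩
      intro h
      have := (mem_twoPt.1 h).1
      rw [h1] at this
      exact hab this.symm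
  have h5 := Subgroup.card_mul_index (K.subgroupOf N)
  rw [hindex, Nat.card_congr (Subgroup.subgroupOfEquivOfLe hKN).toEquiv, hcardK] at h5
  rw [← h5, mul_comm]

end Main

end Cfsg.Agent.Helper37SzSub
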