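import Cfsg.Agent.Lib.Helper37_SzMax
import Cfsg.Agent.Lib.Helper37_RepBound
import Cfsg.Agent.S2240

/-!
# Lower bound for the degree of a complex representation of the Suzuki group (helper37)

If `σ` is a complex representation of `Cfsg.Sz F m` (`|F| = q = 2^(2m+1)`) which is nontrivial on
the centre `Z` of the Sylow 2-subgroup `Q`, then `dim σ ≥ 2^m (q - 1)`:
a nontrivial weight `λ` of `Z` occurs, the torus permutes the weights freely, so `q - 1` weight
spaces of equal dimension occur, and each weight space is a `Q`-module whose character vanishes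
off a subgroup of order `2q`, hence has dimension at least `2^m`.
-/

set_option autoImplicit false
open Cfsg

namespace Cfsg.Agent.Helper37Sz

open Cfsg.Agent.S2240 (conj_uQ_zero uQ_zero_add uQ_zero_inv uQ_zero_ne_one)
open Cfsg.Agent.Lib.Helper37_RepBound
open Module

section Char

variable {F : Type*} [Field F] {S : F →+* F}

/-- an additive character with values `±1` -/
structure IsSignChar (lam : F → ℂ) : Prop where
  add : ∀ x y, lam (x + y) = lam x * lam y
  sign : ∀ x, lam x = 1 ∨ lam x = -1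

theorem IsSignChar.sq {lam : F → ℂ} (h : IsSignChar lam) (x : F) : lam x * lam x = 1 := by
  rcases h.sign x with h | h <;> rw [h] <;> norm_num

theorem IsSignChar.add_eq_one_iff {lam : F → ℂ} (h : IsSignChar lam) (x y : F) :
    lam (x + y) = 1 ↔ lam x = lam y := by
  rw [h.add]
  constructor
  · intro hxy
    calc lam x = lam x * (lam y * lam y) := by rw [h.sq, mul_one]
      _ = (lam x * lam y) * lam y := by ring
      _ = lam y := by rw [hxy, one_mul]
  · intro hxy
    rw [hxy, h.sq]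

theorem IsSignChar.add_self {lam : F → ℂ} (h : IsSignChar lam) (x : F) : lam (x + x) = 1 := by
  rw [h.add, h.sq]

/-- `x ↦ lam (x * ·)` is injective for a nontrivial sign character, in characteristic two -/
theorem IsSignChar.mul_inj (h2 : (2 : F) = 0) {lam : F → ℂ} (h : IsSignChar lam) {w : F}
    (hw : lam w ≠ 1) {x x' : F} (hxx : ∀ y, lam (x * y) = lam (x' * y)) : x = x' := by
  by_contra hne
  have hd : x + x' ≠ 0 := by
    intro h0
    apply hne
    have : x' + x' = 0 := by linear_combination x' * h2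
    linear_combination h0 - this
  apply hw
  have h1 : w = x * (w / (x + x')) + x' * (w / (x + x')) := by
    field_simp
  rw [h1, h.add_eq_one_iff]
  exact hxx _

/-- the radical of the commutator form twisted by a nontrivial sign character has at most one
nonzero element -/
theorem radical_unique (h2 : (2 : F) = 0) (hS : ∀ z, S (S z) = z ^ 2)
    (hsurj : Function.Surjective S) {lam : F → ℂ} (h : IsSignChar lam) {w : F}
    (hw : lam w ≠ 1) {a a' : F} (ha : a ≠ 0) (ha' : a' ≠ 0)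
    (hr : ∀ b, lam (S a * b + S b * a) = 1) (hr' : ∀ b, lam (S a' * b + S b * a') = 1) :
    a = a' := by
  -- `ε = a' / a` satisfies `ε ^ 2 = ε`
  obtain ⟨e, he⟩ : ∃ e, e = a' / a := ⟨_, rfl⟩
  have hea : a' = e * a := by rw [he]; field_simp
  have key : ∀ y, lam (e ^ 2 * y) = lam (e * y) := by
    intro y
    obtain ⟨b, hb⟩ := hsurj (y / a)
    have hy : y = a * S b := by rw [hb]; field_simp
    -- `lam (S a' b) = lam (a' S b)`
    have h1 : lam (S a' * b) = lam (S b * a') := (h.add_eq_one_iff _ _).1 (hr' b)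
    -- `lam (S a (S e b)) = lam (S (S e b) a)`
    have h3 : lam (S a * (S e * b)) = lam (S (S e * b) * a) :=
      (h.add_eq_one_iff _ _).1 (hr (S e * b))
    have e1 : S a' * b = S a * (S e * b) := by rw [hea, map_mul]; ring
    have e2 : S (S e * b) * a = e ^ 2 * y := by rw [map_mul, hS, hy]; ring
    have e3 : S b * a' = e * y := by rw [hea, hy]; ring
    rw [← e2, ← h3, ← e1, h1, e3]
  have hee : e ^ 2 = e := h.mul_inj h2 hw key
  have he0 : e ≠ 0 := by
    rw [he]; exact div_ne_zero ha' ha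
  have he1 : e = 1 := by
    have : e * (e - 1) = 0 := by linear_combination hee
    rcases mul_eq_zero.1 this with h | h
    · exact absurd h he0
    · linear_combination h
  rw [hea, he1, one_mul]

end Char

section Rep

variable {F : Type*} [Field F] [Fintype F] {S : F →+* F} {m : ℕ}
  {V : Type*} [AddCommGroup V] [Module ℂ V]

/-- the operators of the centre `Z = {uQ 0 c}` of `Q` -/
def zOp (h2 : (2 : F) = 0) (hS : ∀ z, S (S z) = z ^ 2) (hSdef : ∀ z, S z = z ^ 2 ^ (m + 1))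
    (σ : Representation ℂ (Cfsg.Sz F m) V) (c : F) : Module.End ℂ V :=
  σ (uQ h2 hS hSdef 0 c)

theorem zOp_add (h2 : (2 : F) = 0) (hS : ∀ z, S (S z) = z ^ 2)
    (hSdef : ∀ z, S z = z ^ 2 ^ (m + 1)) (σ : Representation ℂ (Cfsg.Sz F m) V) (c d : F) :
    zOp h2 hS hSdef σ (c + d) = zOp h2 hS hSdef σ c * zOp h2 hS hSdef σ d := by
  unfold zOp
  rw [← map_mul, uQ_zero_add]

theorem zOp_zero (h2 : (2 : F) = 0) (hS : ∀ z, S (S z) = z ^ 2)
    (hSdef : ∀ z, S z = z ^ 2 ^ (m + 1)) (σ : Representation ℂ (Cfsg.Sz F m) V) :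
    zOp h2 hS hSdef σ 0 = 1 := by
  unfold zOp
  rw [uQ_zero, map_one]

theorem zOp_comm (h2 : (2 : F) = 0) (hS : ∀ z, S (S z) = z ^ 2)
    (hSdef : ∀ z, S z = z ^ 2 ^ (m + 1)) (σ : Representation ℂ (Cfsg.Sz F m) V) (c d : F) :
    Commute (zOp h2 hS hSdef σ c) (zOp h2 hS hSdef σ d) := by
  show _ * _ = _ * _
  rw [← zOp_add, ← zOp_add, add_comm]

/-- `uQ 0 c * (hQ t)⁻¹ = (hQ t)⁻¹ * uQ 0 (μ c)` -/
theorem uQ_zero_mul_hQ_inv (h2 : (2 : F) = 0) (hS : ∀ z, S (S z) = z ^ 2)
    (hSdef : ∀ z, S z = z ^ 2 ^ (m + 1)) (t : Fˣ) (c : F) :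
    uQ h2 hS hSdef 0 c * (hQ hS hSdef t)⁻¹
      = (hQ (m := m) hS hSdef t)⁻¹ * uQ h2 hS hSdef 0 (S (t : F) ^ 2 * (t : F) ^ 2 * c) := by
  have h := hQ_mul_uQ (m := m) h2 hS hSdef t 0 c
  rw [mul_zero] at h
  rw [mul_inv_eq_iff_eq_mul, mul_assoc, eq_inv_mul_iff_mul_eq]
  exact h

/-- the torus element `(hQ t)⁻¹` maps the `lam`-weight space into the `lam (μ_t ·)`-weight space -/
theorem finrank_wt_le [FiniteDimensional ℂ V] (h2 : (2 : F) = 0) (hS : ∀ z, S (S z) = z ^ 2)
    (hSdef : ∀ z, S z = z ^ 2 ^ (m + 1)) (σ : Representation ℂ (Cfsg.Sz F m) V) (t : Fˣ)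
    (lam : F → ℂ) :
    finrank ℂ (wt (zOp h2 hS hSdef σ) lam) ≤
      finrank ℂ (wt (zOp h2 hS hSdef σ) (fun c => lam (S (t : F) ^ 2 * (t : F) ^ 2 * c))) := by
  have hmaps : ∀ v ∈ wt (zOp h2 hS hSdef σ) lam, σ (hQ hS hSdef t)⁻¹ v ∈
      wt (zOp h2 hS hSdef σ) (fun c => lam (S (t : F) ^ 2 * (t : F) ^ 2 * c)) := by
    intro v hv
    rw [mem_wt] at hv ⊢
    intro c
    have h1 : zOp h2 hS hSdef σ c (σ (hQ hS hSdef t)⁻¹ v)
        = σ (hQ hS hSdef t)⁻¹ (zOp h2 hS hSdef σ (S (t : F) ^ 2 * (t : F) ^ 2 * c) v) := by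
      unfold zOp
      rw [← Module.End.mul_apply, ← Module.End.mul_apply, ← map_mul, ← map_mul,
        uQ_zero_mul_hQ_inv]
    rw [h1, hv, map_smul]
  apply LinearMap.finrank_le_finrank_of_injective (f := (σ (hQ hS hSdef t)⁻¹).restrict hmaps)
  intro x y hxy
  have h1 : σ (hQ hS hSdef t)⁻¹ (x : V) = σ (hQ hS hSdef t)⁻¹ (y : V) := by
    have := congrArg Subtype.val hxy
    simp only [LinearMap.coe_restrict_apply] at this
    exact this
  have h3 := congrArg (σ (hQ hS hSdef t)) h1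
  rw [← Module.End.mul_apply, ← Module.End.mul_apply, ← map_mul, mul_inv_cancel, map_one] at h3
  exact Subtype.ext h3

/-- `t ↦ (S t * t) ^ 2` is injective on units -/
theorem mu_inj (h2 : (2 : F) = 0) (hS : ∀ z, S (S z) = z ^ 2) {t t' : Fˣ}
    (h : S (t : F) ^ 2 * (t : F) ^ 2 = S (t' : F) ^ 2 * (t' : F) ^ 2) : t = t' := by
  have ht : (t : F) ≠ 0 := t.ne_zero
  have ht' : (t' : F) ≠ 0 := t'.ne_zero
  have hSt' : S (t' : F) ≠ 0 := by simp
  have e1 : S (t : F) * t = S (t' : F) * t' := by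
    have : (S (t : F) * t - S (t' : F) * t') ^ 2 = 0 := by
      linear_combination h - (S (t : F) * t * (S (t' : F) * t') - (S (t' : F) * t') ^ 2) * h2
    have := pow_eq_zero_iff (two_ne_zero) |>.1 this
    linear_combination this
  have e2 : S ((t : F) / t') * ((t : F) / t') = 1 := by
    rw [map_div₀]
    field_simp
    linear_combination e1
  have e3 := St_mul_eq_one hS (div_ne_zero ht ht') e2
  apply Units.ext
  field_simp at e3
  exact e3

/-- the twisted characters `lam (μ_t ·)` are pairwise distinct -/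
theorem twist_injective (h2 : (2 : F) = 0) (hS : ∀ z, S (S z) = z ^ 2) {lam : F → ℂ}
    (h : IsSignChar lam) {w : F} (hw : lam w ≠ 1) :
    Function.Injective (fun (t : Fˣ) (c : F) => lam (S (t : F) ^ 2 * (t : F) ^ 2 * c)) := by
  intro t t' htt
  apply mu_inj h2 hS
  apply h.mul_inj h2 hw
  intro y
  exact congrFun htt y

/-- `(q - 1) * dim V_λ ≤ dim V` for a nontrivial weight `λ` of the centre of `Q` -/
theorem card_units_mul_finrank_wt_le [FiniteDimensional ℂ V] (h2 : (2 : F) = 0)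
    (hS : ∀ z, S (S z) = z ^ 2) (hSdef : ∀ z, S z = z ^ 2 ^ (m + 1))
    (σ : Representation ℂ (Cfsg.Sz F m) V) {lam : F → ℂ}
    (h : IsSignChar lam) {w : F} (hw : lam w ≠ 1) :
    (Fintype.card F - 1) * finrank ℂ (wt (zOp h2 hS hSdef σ) lam) ≤ finrank ℂ V := by
  classical
  rw [← Fintype.card_units]
  have hind := (wt_indep (zOp h2 hS hSdef σ) (zOp_comm h2 hS hSdef σ)).comp
    (twist_injective h2 hS h hw)
  have h1 := sum_finrank_le_of_iSupIndep hind Finset.univ
  refine le_trans ?_ h1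
  rw [← Finset.card_univ, ← smul_eq_mul, ← Finset.sum_const]
  apply Finset.sum_le_sum
  intro t _
  exact finrank_wt_le h2 hS hSdef σ t lam

/-- the weight spaces of `Z` are `Q`-invariant -/
theorem wt_invariant (h2 : (2 : F) = 0) (hS : ∀ z, S (S z) = z ^ 2)
    (hSdef : ∀ z, S z = z ^ 2 ^ (m + 1)) (σ : Representation ℂ (Cfsg.Sz F m) V) (lam : F → ℂ)
    (g : Qsub h2 hS m) :
    ∀ v ∈ wt (zOp h2 hS hSdef σ) lam, σ (g : Cfsg.Sz F m) v ∈ wt (zOp h2 hS hSdef σ) lam := by
  intro v hv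
  obtain ⟨a, b, hab⟩ := exists_of_mem_Qsub h2 hS hSdef g.2
  rw [mem_wt] at hv ⊢
  intro c
  have h1 : zOp h2 hS hSdef σ c (σ (g : Cfsg.Sz F m) v)
      = σ (g : Cfsg.Sz F m) (zOp h2 hS hSdef σ c v) := by
    have hcomm : uQ h2 hS hSdef 0 c * uQ (m := m) h2 hS hSdef a b
        = uQ h2 hS hSdef a b * uQ h2 hS hSdef 0 c := by
      rw [uQ_mul, uQ_mul]
      congr 1
      · ring
      · simp only [map_zero, zero_mul, mul_zero, add_zero]
        ring
    unfold zOp
    rw [← Module.End.mul_apply, ← Module.End.mul_apply, ← map_mul, ← map_mul, hab, hcomm]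
  rw [h1, hv, map_smul]

/-- the representation of `Q` on a weight space of `Z` -/
def wtRep (h2 : (2 : F) = 0) (hS : ∀ z, S (S z) = z ^ 2)
    (hSdef : ∀ z, S z = z ^ 2 ^ (m + 1)) (σ : Representation ℂ (Cfsg.Sz F m) V) (lam : F → ℂ) :
    Representation ℂ (Qsub h2 hS m) (wt (zOp h2 hS hSdef σ) lam) where
  toFun g := (σ (g : Cfsg.Sz F m)).restrict (wt_invariant h2 hS hSdef σ lam g)
  map_one' := by
    ext v
    simp
  map_mul' g g' := by
    ext v
    simp

theorem wtRep_apply (h2 : (2 : F) = 0) (hS : ∀ z, S (S z) = z ^ 2)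
    (hSdef : ∀ z, S z = z ^ 2 ^ (m + 1)) (σ : Representation ℂ (Cfsg.Sz F m) V) (lam : F → ℂ)
    (g : Qsub h2 hS m) (v : wt (zOp h2 hS hSdef σ) lam) :
    ((wtRep h2 hS hSdef σ lam g v : wt (zOp h2 hS hSdef σ) lam) : V)
      = σ (g : Cfsg.Sz F m) (v : V) := rfl

/-- central elements act by the scalar `lam` on the weight space -/
theorem wtRep_central (h2 : (2 : F) = 0) (hS : ∀ z, S (S z) = z ^ 2)
    (hSdef : ∀ z, S z = z ^ 2 ^ (m + 1)) (σ : Representation ℂ (Cfsg.Sz F m) V) (lam : F → ℂ)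
    (d : F) :
    wtRep h2 hS hSdef σ lam ⟨uQ h2 hS hSdef 0 d, uQ_mem_Qsub h2 hS hSdef 0 d⟩
      = lam d • (1 : Module.End ℂ (wt (zOp h2 hS hSdef σ) lam)) := by
  ext v
  rw [wtRep_apply]
  have hv := mem_wt.1 v.2 d
  simp only [LinearMap.smul_apply, Module.End.one_apply, Submodule.coe_smul]
  exact hv

/-- the character of `Q` on a weight space vanishes at `uQ a c` unless `a` is in the radical -/
theorem wtRep_char_eq_zero [FiniteDimensional ℂ V] (h2 : (2 : F) = 0)
    (hS : ∀ z, S (S z) = z ^ 2)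
    (hSdef : ∀ z, S z = z ^ 2 ^ (m + 1)) (σ : Representation ℂ (Cfsg.Sz F m) V) {lam : F → ℂ}
    (h : IsSignChar lam) (a c b : F) (hb : lam (S a * b + S b * a) ≠ 1) :
    (wtRep h2 hS hSdef σ lam).character
      ⟨uQ h2 hS hSdef a c, uQ_mem_Qsub h2 hS hSdef a c⟩ = 0 := by
  obtain ⟨d, hd⟩ : ∃ d, d = S a * b + S b * a := ⟨_, rfl⟩
  obtain ⟨g, hg⟩ : ∃ g : Qsub h2 hS m, g = ⟨uQ h2 hS hSdef a c, uQ_mem_Qsub h2 hS hSdef a c⟩ :=
    ⟨_, rfl⟩
  obtain ⟨x, hx⟩ : ∃ x : Qsub h2 hS m, x = ⟨uQ h2 hS hSdef b 0, uQ_mem_Qsub h2 hS hSdef b 0⟩ :=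
    ⟨_, rfl⟩
  obtain ⟨z, hz⟩ : ∃ z : Qsub h2 hS m, z = ⟨uQ h2 hS hSdef 0 d, uQ_mem_Qsub h2 hS hSdef 0 d⟩ :=
    ⟨_, rfl⟩
  have hconj : x * g * x⁻¹ = g * z := by
    rw [mul_inv_eq_iff_eq_mul]
    apply Subtype.ext
    rw [hx, hg, hz]
    show uQ h2 hS hSdef b 0 * uQ h2 hS hSdef a c
      = uQ h2 hS hSdef a c * uQ h2 hS hSdef 0 d * uQ h2 hS hSdef b 0
    rw [uQ_mul, uQ_mul, uQ_mul, hd]
    congr 1
    · ring
    · simp only [mul_zero, add_zero, zero_add]
      linear_combination (-(S a * b)) * h2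
  have h1 : (wtRep h2 hS hSdef σ lam).character (x * g * x⁻¹)
      = (wtRep h2 hS hSdef σ lam).character g := Representation.char_conj _ g x
  have h3 : (wtRep h2 hS hSdef σ lam).character (g * z)
      = lam d * (wtRep h2 hS hSdef σ lam).character g := by
    unfold Representation.character
    rw [map_mul, hz, wtRep_central, mul_smul_comm, mul_one, map_smul, smul_eq_mul]
  rw [hconj, h3] at h1
  rw [← hg]
  have hld : lam d = -1 := by
    rcases h.sign d with h' | h'
    · rw [hd] at h'; exact absurd h' hb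
    · exact h'
  rw [hld] at h1
  have : (2 : ℂ) * (wtRep h2 hS hSdef σ lam).character g = 0 := by linear_combination -h1
  rcases mul_eq_zero.1 this with h | h
  · norm_num at h
  · exact h

/-- a nonzero weight space of `Z` for a nontrivial weight has dimension at least `2 ^ m` -/
theorem two_pow_le_finrank_wt [FiniteDimensional ℂ V] (hF : Fintype.card F = 2 ^ (2 * m + 1))
    (h2 : (2 : F) = 0) (hS : ∀ z, S (S z) = z ^ 2)
    (hSdef : ∀ z, S z = z ^ 2 ^ (m + 1)) (σ : Representation ℂ (Cfsg.Sz F m) V) {lam : F → ℂ}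
    (h : IsSignChar lam) {w : F} (hw : lam w ≠ 1) (hne : wt (zOp h2 hS hSdef σ) lam ≠ ⊥) :
    2 ^ m ≤ finrank ℂ (wt (zOp h2 hS hSdef σ) lam) := by
  classical
  have hfin : Finite (Qsub h2 hS m) := inferInstance
  have := Fintype.ofFinite (Qsub h2 hS m)
  have hnt : Nontrivial (wt (zOp h2 hS hSdef σ) lam) := (Submodule.nontrivial_iff_ne_bot).2 hne
  have hsurj : Function.Surjective S := Finite.injective_iff_surjective.1 S.injective
  -- the radical
  let R : Finset F := Finset.univ.filter (fun a => ∀ b, lam (S a * b + S b * a) = 1)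
  have hR : R.card ≤ 2 := by
    by_cases hex : ∃ a₀ ∈ R, a₀ ≠ 0
    · obtain ⟨a₀, ha₀, ha₀0⟩ := hex
      have hsub : R ⊆ {0, a₀} := by
        intro a ha
        by_cases ha0 : a = 0
        · simp [ha0]
        · have h1 := (Finset.mem_filter.1 ha).2
          have h3 := (Finset.mem_filter.1 ha₀).2
          have := radical_unique h2 hS hsurj h hw ha0 ha₀0 h1 h3
          simp [this]
      exact (Finset.card_le_card hsub).trans Finset.card_le_two
    · push Not at hex
      have hsub : R ⊆ {0} := by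
        intro a ha
        simp [hex a ha]
      exact (Finset.card_le_card hsub).trans (by simp)
  -- the support
  let s : Finset (Qsub h2 hS m) := (R ×ˢ (Finset.univ : Finset F)).image
    (fun p => ⟨uQ h2 hS hSdef p.1 p.2, uQ_mem_Qsub h2 hS hSdef p.1 p.2⟩)
  have hs : ∀ g, g ∉ s → (wtRep h2 hS hSdef σ lam).character g = 0 := by
    intro g hg
    obtain ⟨a, c, hac⟩ := exists_of_mem_Qsub h2 hS hSdef g.2
    have hg' : g = ⟨uQ h2 hS hSdef a c, uQ_mem_Qsub h2 hS hSdef a c⟩ := Subtype.ext hac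
    have haR : a ∉ R := by
      intro haR
      apply hg
      rw [Finset.mem_image]
      exact ⟨(a, c), Finset.mem_product.2 ⟨haR, Finset.mem_univ c⟩, hg'.symm⟩
    have : ¬ ∀ b, lam (S a * b + S b * a) = 1 := fun hall =>
      haR (Finset.mem_filter.2 ⟨Finset.mem_univ a, hall⟩)
    push Not at this
    obtain ⟨b, hb⟩ := this
    rw [hg']
    exact wtRep_char_eq_zero h2 hS hSdef σ h a c b hb
  have hbound := card_le_of_support (wtRep h2 hS hSdef σ lam) s hs
  have hscard : s.card ≤ 2 * Fintype.card F := by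
    refine Finset.card_image_le.trans ?_
    rw [Finset.card_product, Finset.card_univ]
    exact Nat.mul_le_mul_right _ hR
  have hQcard : Fintype.card (Qsub h2 hS m) = Fintype.card F ^ 2 := by
    rw [← Nat.card_eq_fintype_card, card_Qsub h2 hS hSdef]
  rw [hQcard] at hbound
  -- arithmetic
  set d := finrank ℂ (wt (zOp h2 hS hSdef σ) lam) with hd
  have hq : (0 : ℝ) < (Fintype.card F : ℝ) := by exact_mod_cast Fintype.card_pos
  have h1 : ((Fintype.card F ^ 2 : ℕ) : ℝ) ≤ (2 * Fintype.card F : ℕ) * (d : ℝ) ^ 2 := by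
    refine hbound.trans ?_
    have : (s.card : ℝ) ≤ ((2 * Fintype.card F : ℕ) : ℝ) := by exact_mod_cast hscard
    exact mul_le_mul_of_nonneg_right this (by positivity)
  have h3 : (Fintype.card F : ℝ) ≤ 2 * (d : ℝ) ^ 2 := by
    push_cast at h1
    have : (Fintype.card F : ℝ) * (Fintype.card F : ℝ) ≤ (Fintype.card F : ℝ) * (2 * (d : ℝ) ^ 2) := by
      nlinarith
    exact le_of_mul_le_mul_left this hq
  have h4 : Fintype.card F ≤ 2 * d ^ 2 := by exact_mod_cast h3
  rw [hF] at h4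
  by_contra hlt
  push Not at hlt
  have h5 : d + 1 ≤ 2 ^ m := hlt
  have h6 : 2 ^ (2 * m + 1) = 2 * (2 ^ m * 2 ^ m) := by ring
  nlinarith

/-- a complex representation of `Sz(q)` which is nontrivial on the centre of `Q` has degree at
least `2 ^ m * (q - 1)` -/
theorem sz_rep_degree_bound [FiniteDimensional ℂ V] (hF : Fintype.card F = 2 ^ (2 * m + 1))
    (h2 : (2 : F) = 0) (hS : ∀ z, S (S z) = z ^ 2)
    (hSdef : ∀ z, S z = z ^ 2 ^ (m + 1)) (σ : Representation ℂ (Cfsg.Sz F m) V)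
    (hnt : σ (uQ h2 hS hSdef 0 1) ≠ 1) :
    2 ^ m * (2 ^ (2 * m + 1) - 1) ≤ finrank ℂ V := by
  have hchar : ∀ c : F, c + c = 0 := fun c => by linear_combination c * h2
  obtain ⟨lam, v, hv, hev, hsign, hadd, hl1⟩ :=
    exists_weight (zOp h2 hS hSdef σ) (zOp_add h2 hS hSdef σ) (zOp_zero h2 hS hSdef σ) hchar 1 hnt
  have hlam : IsSignChar lam := ⟨hadd, hsign⟩
  have hw : lam 1 ≠ 1 := by
    rw [hl1]; norm_num
  have hne : wt (zOp h2 hS hSdef σ) lam ≠ ⊥ := by
    intro hbot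
    have hmem : v ∈ wt (zOp h2 hS hSdef σ) lam := mem_wt.2 hev
    rw [hbot, Submodule.mem_bot] at hmem
    exact hv hmem
  have h1 := card_units_mul_finrank_wt_le h2 hS hSdef σ hlam hw
  have h3 := two_pow_le_finrank_wt hF h2 hS hSdef σ hlam hw hne
  rw [hF] at h1
  calc 2 ^ m * (2 ^ (2 * m + 1) - 1) = (2 ^ (2 * m + 1) - 1) * 2 ^ m := mul_comm _ _
    _ ≤ (2 ^ (2 * m + 1) - 1) * finrank ℂ (wt (zOp h2 hS hSdef σ) lam) :=
        Nat.mul_le_mul_left _ h3
    _ ≤ finrank ℂ V := h1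

end Rep

end Cfsg.Agent.Helper37Sz
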