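import Mathlib
import Cfsg.Agent.Lib.Helper6_SzFixity
import Cfsg.Agent.Lib.Helper6_SzSubNorm
import Cfsg.Agent.Lib.Helper6_SzSubfield
import Cfsg.Agent.S0331

/-!
# Subgroups of the Suzuki groups, part A: generalities (helper37)

The conclusion of Suzuki's subgroup theorem as a predicate `Concl`, its invariance under conjugation, and the
easy cases: subgroups fixing a point of the ovoid, `2`-subgroups, and subgroups having a non-trivial normal
subgroup of odd order.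
-/

set_option autoImplicit false
open Cfsg

namespace Cfsg.Agent.Helper37SzSub

open Cfsg.Agent.Helper37Sz Cfsg.Agent.Lib.Helper6_SzTori Cfsg.Agent.Lib.Helper6_SzPartition
open Cfsg.Agent.Lib.Helper6_SzToriClass Cfsg.Agent.Lib.Helper6_TICount
open scoped Pointwise

section Conj

variable {G : Type*} [Group G]

/-- the conjugate subgroup `g M g⁻¹` -/
abbrev cj (g : G) (M : Subgroup G) : Subgroup G := M.map (MulAut.conj g).toMonoidHom

theorem mem_cj {g x : G} {M : Subgroup G} : x ∈ cj g M ↔ g⁻¹ * x * g ∈ M := by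
  rw [Subgroup.mem_map_equiv, MulAut.conj_symm_apply]

theorem conj_mem_cj {g x : G} {M : Subgroup G} (hx : x ∈ M) : g * x * g⁻¹ ∈ cj g M := by
  rw [mem_cj]
  have : g⁻¹ * (g * x * g⁻¹) * g = x := by group
  rw [this]; exact hx

theorem le_normalizer_cj {g : G} {M H : Subgroup G}
    (h : cj g M ≤ Subgroup.normalizer (H : Set G)) :
    M ≤ Subgroup.normalizer ((cj g⁻¹ H : Subgroup G) : Set G) := by
  intro x hx
  have h1 := h (conj_mem_cj (g := g) hx)
  rw [Subgroup.mem_normalizer_iff] at h1 ⊢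
  intro y
  rw [mem_cj, mem_cj, inv_inv]
  rw [h1 (g * y * g⁻¹)]
  have : g * x * g⁻¹ * (g * y * g⁻¹) * (g * x * g⁻¹)⁻¹ = g * (x * y * x⁻¹) * g⁻¹ := by group
  rw [this]

theorem cj_cj_inv (g : G) (M : Subgroup G) : cj g⁻¹ (cj g M) = M := by
  ext x
  rw [mem_cj, mem_cj, inv_inv]
  have : g⁻¹ * (g * x * g⁻¹) * g = x := by group
  rw [this]

theorem cj_mono {g : G} {M N : Subgroup G} (h : M ≤ N) : cj g M ≤ cj g N :=
  Subgroup.map_mono h

/-- the conjugate is isomorphic -/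
noncomputable def cjEquiv (g : G) (M : Subgroup G) : M ≃* cj g M :=
  (MulAut.conj g).subgroupMap M

end Conj

section Concl

variable {F : Type*} [Field F] [Fintype F] {m : ℕ}

/-- the conclusion of Suzuki's theorem on subgroups -/
def Concl (M : Subgroup (Cfsg.Sz F m)) : Prop :=
  (∃ P : Sylow 2 (Cfsg.Sz F m),
    M ≤ Subgroup.normalizer ((P : Subgroup (Cfsg.Sz F m)) : Set (Cfsg.Sz F m))) ∨
  (∃ U : Subgroup (Cfsg.Sz F m), IsCyclic U ∧
    Nat.card U ∈ ({2 ^ (2 * m + 1) - 1, 2 ^ (2 * m + 1) + 2 ^ (m + 1) + 1,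
      2 ^ (2 * m + 1) - 2 ^ (m + 1) + 1} : Set ℕ) ∧
    M ≤ Subgroup.normalizer (U : Set (Cfsg.Sz F m))) ∨
  (∃ (K : Type) (_ : Field K) (_ : Fintype K) (k : ℕ), 1 ≤ k ∧ k < m ∧
    Fintype.card K = 2 ^ (2 * k + 1) ∧ 2 * k + 1 ∣ 2 * m + 1 ∧
    ∃ S : Subgroup (Cfsg.Sz F m), Nonempty (S ≃* Cfsg.Sz K k) ∧ M ≤ S)

/-- the conclusion is invariant under conjugation -/
theorem concl_of_cj (g : Cfsg.Sz F m) {M : Subgroup (Cfsg.Sz F m)} (h : Concl (cj g M)) :
    Concl M := by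
  rcases h with ⟨P, hP⟩ | ⟨U, hU, hcard, hUn⟩ | ⟨K, iK, jK, k, hk, hkm, hK, hdiv, S, ⟨e⟩, hS⟩
  · left
    refine ⟨g⁻¹ • P, ?_⟩
    have h1 := le_normalizer_cj hP
    have e1 : ((g⁻¹ • P : Sylow 2 (Cfsg.Sz F m)) : Subgroup (Cfsg.Sz F m))
        = cj g⁻¹ (P : Subgroup (Cfsg.Sz F m)) := by
      rw [Sylow.coe_subgroup_smul]
      rfl
    rw [e1]
    exact h1
  · right; left
    refine ⟨cj g⁻¹ U, ?_, ?_, le_normalizer_cj hUn⟩
    · exact isCyclic_of_surjective (cjEquiv g⁻¹ U) (cjEquiv g⁻¹ U).surjective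
    · rw [← Nat.card_congr (cjEquiv g⁻¹ U).toEquiv]
      exact hcard
  · right; right
    refine ⟨K, iK, jK, k, hk, hkm, hK, hdiv, cj g⁻¹ S, ⟨(cjEquiv g⁻¹ S).symm.trans e⟩, ?_⟩
    have := cj_mono (g := g⁻¹) hS
    rwa [cj_cj_inv] at this

end Concl

section OddCent

variable {F : Type*} [Field F] [Fintype F] {m : ℕ}

open Cfsg.Agent.Lib.Helper6_SzCent Cfsg.Agent.Lib.Helper6_SzFixity

/-- the list of torus orders -/
abbrev torusOrders (m : ℕ) : Set ℕ :=
  {2 ^ (2 * m + 1) - 1, 2 ^ (2 * m + 1) + 2 ^ (m + 1) + 1, 2 ^ (2 * m + 1) - 2 ^ (m + 1) + 1}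

/-- the centraliser of a non-identity element of a two-point stabiliser -/
theorem centralizer_eq_twoPt (hm : 1 ≤ m) (hF : Fintype.card F = 2 ^ (2 * m + 1))
    {a b : Cfsg.suzukiOvoid F m} (hab : a ≠ b) {g : Cfsg.Sz F m} (hg : g ∈ twoPt a b)
    (hg1 : g ≠ 1) : Subgroup.centralizer ({g} : Set (Cfsg.Sz F m)) = twoPt a b := by
  ext c
  rw [mem_centralizer_singleton]
  constructor
  · intro hc
    exact centralizer_le_twoPt hm hF hab hg hg1 hc
  · intro hc
    have := isCyclic_twoPt hm hF hab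
    have := IsCyclic.commGroup.mul_comm (⟨c, hc⟩ : twoPt a b) ⟨g, hg⟩
    exact congrArg Subtype.val this

/-- a non-identity element of odd order with a fixed point lies in a two-point stabiliser -/
theorem exists_twoPt_of_odd (hm : 1 ≤ m) (hF : Fintype.card F = 2 ^ (2 * m + 1))
    {x : Cfsg.Sz F m} (hx1 : x ≠ 1) (hodd : ¬ 2 ∣ orderOf x) {α : Cfsg.suzukiOvoid F m}
    (hα : x • α = α) : ∃ β : Cfsg.suzukiOvoid F m, α ≠ β ∧ x ∈ twoPt α β := by
  have h2 : (2 : F) = 0 := two_eq_zero_of_card hF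
  have hSdef : ∀ z, (sgHom F m h2) z = z ^ 2 ^ (m + 1) := fun z => sgHom_apply m h2 z
  have hS : ∀ z, (sgHom F m h2) ((sgHom F m h2) z) = z ^ 2 := fun z => sgHom_sgHom hF h2 z
  obtain ⟨g, hg⟩ := ovoid_transitive h2 hS hSdef α (ptInf F m)
  have hfix : (g * x * g⁻¹) • ptInf F m = ptInf F m := by
    rw [← hg, ← mul_smul, inv_mul_cancel_right, mul_smul, hα]
  obtain ⟨a, b, t, ht⟩ := stab_inf hm hF h2 hS hSdef hfix
  have ht1 : t ≠ 1 := by
    rintro rfl
    rw [hQ_one, mul_one] at ht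
    have h4 : (g * x * g⁻¹) ^ 4 = 1 := by rw [ht]; exact uQ_pow_four h2 hS hSdef a b
    have h5 : x ^ 4 = 1 := by
      have e : (g * x * g⁻¹) ^ 4 = g * x ^ 4 * g⁻¹ := conj_pow
      rw [e] at h4
      have : x ^ 4 = g⁻¹ * (g * x ^ 4 * g⁻¹) * g := by group
      rw [this, h4]; group
    have h6 : orderOf x ∣ 4 := orderOf_dvd_of_pow_eq_one h5
    have h7 : Nat.Coprime (orderOf x) 4 := coprime_four_of_odd hodd
    have h8 : orderOf x = 1 := Nat.eq_one_of_dvd_coprimes h7 dvd_rfl h6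
    exact hx1 (orderOf_eq_one_iff.1 h8)
  obtain ⟨x₀, y₀, hxy⟩ := exists_fixed_aff h2 hS hSdef a b ht1
  rw [← ht] at hxy
  refine ⟨g⁻¹ • ptAff hSdef x₀ y₀, ?_, ?_⟩
  · intro h
    have : g • α = ptAff hSdef x₀ y₀ := by rw [h, smul_inv_smul]
    rw [hg] at this
    exact ptAff_ne_ptInf hSdef x₀ y₀ this.symm
  · rw [mem_twoPt]
    refine ⟨hα, ?_⟩
    have e : x = g⁻¹ * (g * x * g⁻¹) * g := by group
    rw [e, mul_smul, mul_smul, smul_inv_smul, hxy]

/-- the centraliser of a non-identity element of odd order is a cyclic self-centralising torus -/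
theorem odd_selfCent (hm : 1 ≤ m) (hF : Fintype.card F = 2 ^ (2 * m + 1)) {x : Cfsg.Sz F m}
    (hx1 : x ≠ 1) (hodd : ¬ 2 ∣ orderOf x) :
    IsCyclic (Subgroup.centralizer ({x} : Set (Cfsg.Sz F m))) ∧
    Nat.card (Subgroup.centralizer ({x} : Set (Cfsg.Sz F m))) ∈ torusOrders m ∧
    SelfCent (Subgroup.centralizer ({x} : Set (Cfsg.Sz F m))) := by
  by_cases hf : Fpf x
  · refine ⟨isCyclic_centralizer_of_no_fixed hm hF hf, ?_,
      Cfsg.Agent.Lib.Helper6_SzNorm.selfCent_torus hm hF hf⟩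
    rcases card_torus_cases hm hF hf with h | h
    · right; left; exact h
    · right; right; exact h
  · unfold Fpf at hf
    push Not at hf
    obtain ⟨α, hα⟩ := hf
    obtain ⟨β, hαβ, hxT⟩ := exists_twoPt_of_odd hm hF hx1 hodd hα
    rw [centralizer_eq_twoPt hm hF hαβ hxT hx1]
    refine ⟨isCyclic_twoPt hm hF hαβ, ?_, ?_⟩
    · left; exact card_twoPt hm hF hαβ
    · intro t ht ht1
      exact centralizer_eq_twoPt hm hF hαβ ht ht1

end OddCent

section NormalOdd

open scoped commutatorElement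

variable {F : Type*} [Field F] [Fintype F] {m : ℕ}

theorem cj_eq_of_mem_normalizer {G : Type*} [Group G] {n : G} {X : Subgroup G}
    (hn : n ∈ Subgroup.normalizer (X : Set G)) : cj n X = X := by
  ext x
  rw [mem_cj]
  have h1 := (Subgroup.mem_normalizer_iff.1 hn) (n⁻¹ * x * n)
  rw [h1]
  have : n * (n⁻¹ * x * n) * n⁻¹ = x := by group
  rw [this]

theorem mem_normalizer_of_cj_eq {G : Type*} [Group G] {n : G} {X : Subgroup G}
    (h : cj n X = X) : n ∈ Subgroup.normalizer (X : Set G) := by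
  rw [Subgroup.mem_normalizer_iff]
  intro x
  constructor
  · intro hx
    rw [← h]
    exact conj_mem_cj hx
  · intro hx
    rw [← h, mem_cj] at hx
    have : n⁻¹ * (n * x * n⁻¹) * n = x := by group
    rwa [this] at hx

/-- a subgroup of odd order of the Suzuki group is a Z-group -/
theorem isZGroup_of_odd (hm : 1 ≤ m) (hF : Fintype.card F = 2 ^ (2 * m + 1))
    (X : Subgroup (Cfsg.Sz F m)) (hodd : ¬ 2 ∣ Nat.card X) : IsZGroup X := by
  refine ⟨fun p hp P => ?_⟩
  have : Fact p.Prime := ⟨hp⟩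
  by_cases hp2 : p = 2
  · subst hp2
    rcases P.2.card_eq_or_dvd with h | h
    · have : Subsingleton (P : Subgroup X) := (Nat.card_eq_one_iff_unique.1 h).1
      exact isCyclic_of_subsingleton
    · exact absurd (h.trans (Subgroup.card_subgroup_dvd_card _)) hodd
  · -- embed into a Sylow subgroup of the whole group
    have hPg : IsPGroup p ((P : Subgroup X).map X.subtype) := P.2.map _
    obtain ⟨P', hP'⟩ := hPg.exists_le_sylow
    have hcyc : IsCyclic P' := Cfsg.Agent.S0331.result hm hF hp2 P'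
    have h1 : IsCyclic ((P : Subgroup X).map X.subtype) := Subgroup.isCyclic_of_le hP'
    let e := (P : Subgroup X).equivMapOfInjective X.subtype X.subtype_injective
    exact isCyclic_of_surjective e.symm e.symm.surjective

/-- a subgroup normalising a non-trivial subgroup of odd order normalises a torus -/
theorem concl_of_normal_odd (hm : 1 ≤ m) (hF : Fintype.card F = 2 ^ (2 * m + 1))
    {M X : Subgroup (Cfsg.Sz F m)} (hX : X ≠ ⊥) (hodd : ¬ 2 ∣ Nat.card X)
    (hMX : M ≤ Subgroup.normalizer (X : Set (Cfsg.Sz F m))) : Concl M := by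
  -- a non-trivial abelian subgroup `Y ≤ X` normalised by `M`
  obtain ⟨Y, hYX, hY, hYab, hMY⟩ : ∃ Y : Subgroup (Cfsg.Sz F m), Y ≤ X ∧ Y ≠ ⊥ ∧
      (∀ a ∈ Y, ∀ b ∈ Y, a * b = b * a) ∧ ∀ n ∈ M, cj n Y = Y := by
    by_cases hc : ⁅X, X⁆ = ⊥
    · refine ⟨X, le_refl _, hX, ?_, fun n hn => cj_eq_of_mem_normalizer (hMX hn)⟩
      intro a ha b hb
      have h1 : ⁅a, b⁆ ∈ ⁅X, X⁆ := Subgroup.commutator_mem_commutator ha hb
      rw [hc, Subgroup.mem_bot, commutatorElement_def] at h1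
      have : a * b = (a * b * a⁻¹ * b⁻¹) * (b * a) := by group
      rw [this, h1, one_mul]
    · refine ⟨⁅X, X⁆, Subgroup.commutator_le.2 (fun g₁ h₁ g₂ h₂ =>
        X.mul_mem (X.mul_mem (X.mul_mem h₁ h₂) (X.inv_mem h₁)) (X.inv_mem h₂)), hc, ?_, ?_⟩
      · have hz := isZGroup_of_odd hm hF X hodd
        have h1 : IsCyclic (commutator X) := IsZGroup.isCyclic_commutator X
        have h2 : IsCyclic ((commutator X).map X.subtype) :=
          isCyclic_of_surjective ((commutator X).equivMapOfInjective X.subtype X.subtype_injective)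
            ((commutator X).equivMapOfInjective X.subtype X.subtype_injective).surjective
        rw [Subgroup.map_subtype_commutator] at h2
        intro a ha b hb
        have := IsCyclic.commGroup.mul_comm
          (⟨a, ha⟩ : ↥(⁅X, X⁆ : Subgroup (Cfsg.Sz F m))) ⟨b, hb⟩
        exact congrArg Subtype.val this
      · intro n hn
        show (⁅X, X⁆).map (MulAut.conj n).toMonoidHom = ⁅X, X⁆
        rw [Subgroup.map_commutator]
        have := cj_eq_of_mem_normalizer (hMX hn)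
        unfold cj at this
        rw [this]
  -- an element of `Y`
  obtain ⟨x, hxY, hx1⟩ : ∃ x ∈ Y, x ≠ 1 := by
    by_contra hcon
    push Not at hcon
    exact hY ((Subgroup.eq_bot_iff_forall _).2 hcon)
  have hxodd : ¬ 2 ∣ orderOf x := by
    intro h
    apply hodd
    have h1 := orderOf_dvd_natCard (⟨x, hYX hxY⟩ : X)
    rw [Subgroup.orderOf_mk] at h1
    exact h.trans h1
  obtain ⟨hcyc, hcard, hself⟩ := odd_selfCent hm hF hx1 hxodd
  right; left
  refine ⟨Subgroup.centralizer ({x} : Set (Cfsg.Sz F m)), hcyc, hcard, ?_⟩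
  intro n hn
  have hxT : x ∈ Subgroup.centralizer ({x} : Set (Cfsg.Sz F m)) :=
    mem_centralizer_singleton.2 rfl
  apply hself.mem_normalizer hxT hx1
  have h1 : n * x * n⁻¹ ∈ Y := by
    have := conj_mem_cj (g := n) hxY
    rwa [hMY n hn] at this
  rw [mem_centralizer_singleton]
  exact hYab _ h1 _ hxY

end NormalOdd

section Fix

variable {F : Type*} [Field F] [Fintype F] {m : ℕ}

open Cfsg.Agent.Lib.Helper6_SzCent Cfsg.Agent.Lib.Helper6_SzFixity

/-- a `2`-subgroup lies in a Sylow `2`-subgroup -/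
theorem concl_of_pgroup {M : Subgroup (Cfsg.Sz F m)} (hM : IsPGroup 2 M) : Concl M := by
  obtain ⟨P, hP⟩ := hM.exists_le_sylow
  exact Or.inl ⟨P, hP.trans Subgroup.le_normalizer⟩

/-- the standard Sylow `2`-subgroup -/
theorem exists_sylow_Qsub {S : F →+* F} (hm : 1 ≤ m) (hF : Fintype.card F = 2 ^ (2 * m + 1))
    (h2 : (2 : F) = 0) (hS : ∀ z, S (S z) = z ^ 2) (hSdef : ∀ z, S z = z ^ 2 ^ (m + 1)) :
    ∃ P : Sylow 2 (Cfsg.Sz F m), (P : Subgroup (Cfsg.Sz F m)) = Qsub h2 hS m := by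
  have hcard : Nat.card (Qsub h2 hS m) = 2 ^ (Nat.card (Cfsg.Sz F m)).factorization 2 := by
    rw [card_Qsub h2 hS hSdef, factorization_card_Sz hm hF, hF, ← pow_mul, mul_comm]
  exact ⟨Sylow.ofCard (Qsub h2 hS m) hcard, rfl⟩

/-- a subgroup fixing `∞` normalises the standard Sylow `2`-subgroup -/
theorem concl_of_fix_inf (hm : 1 ≤ m) (hF : Fintype.card F = 2 ^ (2 * m + 1))
    {M : Subgroup (Cfsg.Sz F m)} (hfix : ∀ g ∈ M, g • ptInf F m = ptInf F m) : Concl M := by
  have h2 : (2 : F) = 0 := two_eq_zero_of_card hF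
  have hSdef : ∀ z, (sgHom F m h2) z = z ^ 2 ^ (m + 1) := fun z => sgHom_apply m h2 z
  have hS : ∀ z, (sgHom F m h2) ((sgHom F m h2) z) = z ^ 2 := fun z => sgHom_sgHom hF h2 z
  obtain ⟨P, hP⟩ := exists_sylow_Qsub hm hF h2 hS hSdef
  left
  refine ⟨P, ?_⟩
  rw [hP]
  intro x hx
  rw [Subgroup.mem_normalizer_iff]
  intro h
  constructor
  · intro hh
    exact conj_mem_Qsub hm hF h2 hS hSdef (hfix x hx) hh
  · intro hh
    have hx' : x⁻¹ • ptInf F m = ptInf F m := by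
      rw [inv_smul_eq_iff, hfix x hx]
    have := conj_mem_Qsub hm hF h2 hS hSdef hx' hh
    have e : x⁻¹ * (x * h * x⁻¹) * x⁻¹⁻¹ = h := by group
    rwa [e] at this

/-- a subgroup fixing a point of the ovoid normalises a Sylow `2`-subgroup -/
theorem concl_of_fix (hm : 1 ≤ m) (hF : Fintype.card F = 2 ^ (2 * m + 1))
    {M : Subgroup (Cfsg.Sz F m)} {δ : Cfsg.suzukiOvoid F m} (hfix : ∀ g ∈ M, g • δ = δ) :
    Concl M := by
  have h2 : (2 : F) = 0 := two_eq_zero_of_card hF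
  have hSdef : ∀ z, (sgHom F m h2) z = z ^ 2 ^ (m + 1) := fun z => sgHom_apply m h2 z
  have hS : ∀ z, (sgHom F m h2) ((sgHom F m h2) z) = z ^ 2 := fun z => sgHom_sgHom hF h2 z
  obtain ⟨g, hg⟩ := ovoid_transitive h2 hS hSdef δ (ptInf F m)
  apply concl_of_cj g
  apply concl_of_fix_inf hm hF
  intro y hy
  rw [mem_cj] at hy
  have := hfix _ hy
  rw [← hg]
  have e : y = g * (g⁻¹ * y * g) * g⁻¹ := by group
  rw [e, mul_smul, mul_smul, inv_smul_smul, this]

/-- an involution of the Suzuki group fixes exactly one point of the ovoid -/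
theorem inv_fix_unique (hm : 1 ≤ m) (hF : Fintype.card F = 2 ^ (2 * m + 1)) {s : Cfsg.Sz F m}
    (hs1 : s ≠ 1) (hs : s * s = 1) :
    ∃ δ : Cfsg.suzukiOvoid F m, s • δ = δ ∧ ∀ δ', s • δ' = δ' → δ' = δ := by
  have h2 : (2 : F) = 0 := two_eq_zero_of_card hF
  have hSdef : ∀ z, (sgHom F m h2) z = z ^ 2 ^ (m + 1) := fun z => sgHom_apply m h2 z
  have hS : ∀ z, (sgHom F m h2) ((sgHom F m h2) z) = z ^ 2 := fun z => sgHom_sgHom hF h2 z
  obtain ⟨g, b, hgb⟩ := involution_conj hm hF h2 hS hSdef hs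
  have hb : b ≠ 0 := by
    rintro rfl
    rw [uQ_zero, mul_one, mul_inv_cancel] at hgb
    exact hs1 hgb
  refine ⟨g • ptInf F m, ?_, ?_⟩
  · rw [hgb, mul_smul, mul_smul, inv_smul_smul, uQ_smul_ptInf]
  · intro δ' hδ'
    have h1 : uQ h2 hS hSdef 0 b • (g⁻¹ • δ') = g⁻¹ • δ' := by
      have e : uQ h2 hS hSdef 0 b = g⁻¹ * s * g := by rw [hgb]; group
      rw [e, mul_smul, mul_smul, smul_inv_smul, hδ']
    have := uQ_zero_fix h2 hS hSdef hb _ h1
    rw [← this, smul_inv_smul]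

end Fix

end Cfsg.Agent.Helper37SzSub
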