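import Mathlib

/-!
# Subgroups of the Suzuki groups, part B: counting involutions (helper37)

Abstract counting arguments for a finite group `G` acting on a set `Ω` so that every involution has exactly
one fixed point (as for the Suzuki groups acting on the ovoid), and a subgroup `M` without a fixed point:
all involutions of `M` are conjugate in `M`; and, relative to a "Sylow subgroup" `P` at a point `o`,
`|M_o| = |J| |M ∩ P|` where `J` is the set of involutions of `M` fixing `o`, and `|M_{o ε}| = |J|` for every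
other point `ε` fixed by an involution of `M`.
-/

set_option autoImplicit false

namespace Cfsg.Agent.Helper37SzSub

section Abstract

variable {G Ω : Type*} [Group G] [MulAction G Ω]

/-- an involution -/
def IsInv (s : G) : Prop := s ≠ 1 ∧ s * s = 1

theorem IsInv.inv_eq {s : G} (h : IsInv s) : s⁻¹ = s := inv_eq_of_mul_eq_one_left h.2

theorem IsInv.conj {s : G} (h : IsInv s) (g : G) : IsInv (g * s * g⁻¹) := by
  refine ⟨?_, ?_⟩
  · intro h1
    apply h.1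
    have e : s = g⁻¹ * (g * s * g⁻¹) * g := by group
    rw [e, h1]; group
  · have e : g * s * g⁻¹ * (g * s * g⁻¹) = g * (s * s) * g⁻¹ := by group
    rw [e, h.2]; group

/-- every involution has exactly one fixed point -/
def UFix (G Ω : Type*) [Group G] [MulAction G Ω] : Prop :=
  ∀ s : G, IsInv s → ∃ δ : Ω, s • δ = δ ∧ ∀ δ', s • δ' = δ' → δ' = δ

theorem UFix.eq_of_fix (hU : UFix G Ω) {s : G} (hs : IsInv s) {α β : Ω} (hα : s • α = α)
    (hβ : s • β = β) : α = β := by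
  obtain ⟨δ, -, hδ⟩ := hU s hs
  rw [hδ α hα, hδ β hβ]

theorem UFix.fix_of_commute (hU : UFix G Ω) {s z : G} (hs : IsInv s) {α : Ω} (hα : s • α = α)
    (hz : z * s = s * z) : z • α = α := by
  apply hU.eq_of_fix hs _ hα
  rw [← mul_smul, ← hz, mul_smul, hα]

theorem fix_conj {s g : G} {α : Ω} (hα : s • α = α) : (g * s * g⁻¹) • (g • α) = g • α := by
  rw [mul_smul, mul_smul, inv_smul_smul, hα]

/-- if `g s g⁻¹ = t` then `g` maps the fixed point of `s` to the fixed point of `t` -/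
theorem UFix.smul_of_conj (hU : UFix G Ω) {s t g : G} (ht : IsInv t) {α β : Ω} (hα : s • α = α)
    (hβ : t • β = β) (hg : g * s * g⁻¹ = t) : g • α = β := by
  apply hU.eq_of_fix ht _ hβ
  rw [← hg]
  exact fix_conj hα

/-- the dihedral alternative: two involutions are conjugate under a power of their product, or a power of their
product is an involution commuting with both -/
theorem dihedral_alt [Finite G] {s t : G} (hs : s * s = 1) (ht : t * t = 1) :
    ∃ l : ℕ, ((s * t) ^ l * s * ((s * t) ^ l)⁻¹ = t) ∨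
      ((s * t) ^ l ≠ 1 ∧ (s * t) ^ l * (s * t) ^ l = 1 ∧ (s * t) ^ l * s = s * (s * t) ^ l ∧
        (s * t) ^ l * t = t * (s * t) ^ l) := by
  have hsi : s⁻¹ = s := inv_eq_of_mul_eq_one_left hs
  have hti : t⁻¹ = t := inv_eq_of_mul_eq_one_left ht
  set x := s * t with hx
  have hxi : x⁻¹ = t * s := by rw [hx, mul_inv_rev, hsi, hti]
  have hsx : ∀ k : ℕ, s * x ^ k * s⁻¹ = (x ^ k)⁻¹ := by
    intro k
    rw [← conj_pow, ← inv_pow]
    congr 1
    rw [hxi, hx, hsi]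
    calc s * (s * t) * s = (s * s) * t * s := by group
      _ = t * s := by rw [hs, one_mul]
  have htx : ∀ k : ℕ, t * x ^ k * t⁻¹ = (x ^ k)⁻¹ := by
    intro k
    rw [← conj_pow, ← inv_pow]
    congr 1
    rw [hxi, hx, hti]
    calc t * (s * t) * t = t * s * (t * t) := by group
      _ = t * s := by rw [ht, mul_one]
  have hn : 0 < orderOf x := orderOf_pos x
  rcases Nat.even_or_odd' (orderOf x) with ⟨l, hl | hl⟩
  · -- even order
    refine ⟨l, Or.inr ⟨?_, ?_, ?_, ?_⟩⟩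
    · intro h
      have := orderOf_dvd_of_pow_eq_one h
      have := Nat.le_of_dvd (by omega) this
      omega
    · rw [← pow_add, ← two_mul, ← hl, pow_orderOf_eq_one]
    · have hz : x ^ l * x ^ l = 1 := by rw [← pow_add, ← two_mul, ← hl, pow_orderOf_eq_one]
      have hzi : (x ^ l)⁻¹ = x ^ l := inv_eq_of_mul_eq_one_left hz
      have := hsx l
      rw [hzi, hsi] at this
      calc x ^ l * s = (s * x ^ l * s) * s := by rw [this]
        _ = s * x ^ l * (s * s) := by group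
        _ = s * x ^ l := by rw [hs, mul_one]
    · have hz : x ^ l * x ^ l = 1 := by rw [← pow_add, ← two_mul, ← hl, pow_orderOf_eq_one]
      have hzi : (x ^ l)⁻¹ = x ^ l := inv_eq_of_mul_eq_one_left hz
      have := htx l
      rw [hzi, hti] at this
      calc x ^ l * t = (t * x ^ l * t) * t := by rw [this]
        _ = t * x ^ l * (t * t) := by group
        _ = t * x ^ l := by rw [ht, mul_one]
  · -- odd order
    refine ⟨l, Or.inl ?_⟩
    have h1 : x ^ (2 * l + 1) = 1 := by rw [← hl, pow_orderOf_eq_one]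
    have h2 : x ^ l * x ^ l = x⁻¹ := by
      rw [eq_inv_iff_mul_eq_one, ← pow_add, ← pow_succ, ← two_mul, h1]
    have h3 := hsx l
    rw [hsi] at h3
    -- `s (x^l)⁻¹ = x^l s`
    have h4 : s * (x ^ l)⁻¹ = x ^ l * s := by
      calc s * (x ^ l)⁻¹ = s * (s * x ^ l * s) := by rw [h3]
        _ = (s * s) * x ^ l * s := by group
        _ = x ^ l * s := by rw [hs, one_mul]
    calc x ^ l * s * (x ^ l)⁻¹ = x ^ l * (s * (x ^ l)⁻¹) := by group
      _ = x ^ l * (x ^ l * s) := by rw [h4]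
      _ = (x ^ l * x ^ l) * s := by group
      _ = t * s * s := by rw [h2, hxi]
      _ = t * (s * s) := by group
      _ = t := by rw [hs, mul_one]

/-- involutions with different fixed points are conjugate in the subgroup they generate -/
theorem UFix.conj_of_ne [Finite G] (hU : UFix G Ω) {s t : G} (hs : IsInv s) (ht : IsInv t) {α β : Ω}
    (hα : s • α = α) (hβ : t • β = β) (hne : α ≠ β) :
    ∃ l : ℕ, (s * t) ^ l * s * ((s * t) ^ l)⁻¹ = t := by
  obtain ⟨l, h | ⟨h1, h2, h3, h4⟩⟩ := dihedral_alt hs.2 ht.2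
  · exact ⟨l, h⟩
  · exfalso
    have hz : IsInv ((s * t) ^ l) := ⟨h1, h2⟩
    have e1 := hU.fix_of_commute hs hα h3
    have e2 := hU.fix_of_commute ht hβ h4
    exact hne (hU.eq_of_fix hz e1 e2)

/-- all involutions of a subgroup without a fixed point are conjugate in it -/
theorem UFix.inv_conj [Finite G] (hU : UFix G Ω) {M : Subgroup G}
    (hnf : ∀ δ : Ω, ∃ g ∈ M, g • δ ≠ δ) {s t : G} (hsM : s ∈ M) (htM : t ∈ M) (hs : IsInv s)
    (ht : IsInv t) : ∃ g ∈ M, g * s * g⁻¹ = t := by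
  -- the case of different fixed points
  have key : ∀ s t : G, s ∈ M → t ∈ M → IsInv s → IsInv t → ∀ α β : Ω, s • α = α → t • β = β →
      α ≠ β → ∃ g ∈ M, g * s * g⁻¹ = t := by
    intro s t hsM htM hs ht α β hα hβ hne
    obtain ⟨l, hl⟩ := hU.conj_of_ne hs ht hα hβ hne
    exact ⟨(s * t) ^ l, M.pow_mem (M.mul_mem hsM htM) l, hl⟩
  obtain ⟨α, hα, -⟩ := hU s hs
  obtain ⟨β, hβ, -⟩ := hU t ht
  by_cases hne : α = β
  · subst hne
    obtain ⟨h, hhM, hh⟩ := hnf α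
    have hs' : IsInv (h * s * h⁻¹) := hs.conj h
    have hs'M : h * s * h⁻¹ ∈ M := M.mul_mem (M.mul_mem hhM hsM) (M.inv_mem hhM)
    obtain ⟨g, hgM, hg⟩ := key _ t hs'M htM hs' ht (h • α) α (fix_conj hα) hβ hh
    refine ⟨g * h, M.mul_mem hgM hhM, ?_⟩
    rw [← hg]; group
  · exact key s t hsM htM hs ht α β hα hβ hne

/-- an involution inverts the powers of its product with another involution -/
theorem inv_conj_pow {s t : G} (hs : s * s = 1) (ht : t * t = 1) (k : ℕ) :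
    s * (s * t) ^ k * s⁻¹ = ((s * t) ^ k)⁻¹ := by
  have hsi : s⁻¹ = s := inv_eq_of_mul_eq_one_left hs
  have hti : t⁻¹ = t := inv_eq_of_mul_eq_one_left ht
  rw [← conj_pow, ← inv_pow]
  congr 1
  rw [mul_inv_rev, hsi, hti]
  calc s * (s * t) * s = (s * s) * t * s := by group
    _ = t * s := by rw [hs, one_mul]

/-- the data of a "Sylow `2`-subgroup" `P` attached to the point `o` -/
structure SylAt (P : Subgroup G) (o : Ω) : Prop where
  inv_mem : ∀ s : G, IsInv s → s • o = o → s ∈ P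
  cent : ∀ s ∈ P, IsInv s → ∀ g : G, g * s = s * g → g ∈ P
  central : ∀ s ∈ P, IsInv s → ∀ g ∈ P, g * s = s * g
  fix : ∀ u ∈ P, u • o = o
  fix_only : ∀ u ∈ P, u ≠ 1 → ∀ δ : Ω, u • δ = δ → δ = o

/-- the involutions of `M` fixing `o` -/
def Jset (M : Subgroup G) (o : Ω) : Set G := {s | s ∈ M ∧ IsInv s ∧ s • o = o}

/-- the stabiliser of `o` in `M` -/
abbrev stabIn (M : Subgroup G) (o : Ω) : Subgroup G := M ⊓ MulAction.stabilizer G o

theorem mem_stabIn {M : Subgroup G} {o : Ω} {g : G} : g ∈ stabIn M o ↔ g ∈ M ∧ g • o = o := by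
  rw [Subgroup.mem_inf, MulAction.mem_stabilizer_iff]

/-- the stabiliser of two points in `M` -/
abbrev stabIn₂ (M : Subgroup G) (o ε : Ω) : Subgroup G :=
  M ⊓ MulAction.stabilizer G o ⊓ MulAction.stabilizer G ε

theorem mem_stabIn₂ {M : Subgroup G} {o ε : Ω} {g : G} :
    g ∈ stabIn₂ M o ε ↔ g ∈ M ∧ g • o = o ∧ g • ε = ε := by
  rw [Subgroup.mem_inf, Subgroup.mem_inf, MulAction.mem_stabilizer_iff,
    MulAction.mem_stabilizer_iff, and_assoc]

/-- the stabiliser of `o` in `M` is transitive on the involutions of `M` fixing `o` -/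
theorem UFix.stab_trans [Finite G] (hU : UFix G Ω) {M : Subgroup G}
    (hnf : ∀ δ : Ω, ∃ g ∈ M, g • δ ≠ δ) {o : Ω} {s t : G} (hs : s ∈ Jset M o) (ht : t ∈ Jset M o) :
    ∃ g ∈ stabIn M o, g * s * g⁻¹ = t := by
  obtain ⟨g, hgM, hg⟩ := hU.inv_conj hnf hs.1 ht.1 hs.2.1 ht.2.1
  exact ⟨g, mem_stabIn.2 ⟨hgM, hU.smul_of_conj ht.2.1 hs.2.2 ht.2.2 hg⟩, hg⟩

/-- orbit-stabiliser for the involutions at `o` -/
theorem card_stabIn [Finite G] (hU : UFix G Ω) {M P : Subgroup G} {o : Ω} (hP : SylAt P o)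
    (hnf : ∀ δ : Ω, ∃ g ∈ M, g • δ ≠ δ) {s₀ : G} (hs₀ : s₀ ∈ Jset M o) :
    Nat.card (stabIn M o) = Nat.card (Jset M o) * Nat.card (M ⊓ P : Subgroup G) := by
  have htr : ∀ s : Jset M o, ∃ g ∈ stabIn M o, g * s₀ * g⁻¹ = (s : G) := fun s =>
    hU.stab_trans hnf hs₀ s.2
  choose γ hγ hγs using htr
  have hs₀P : s₀ ∈ P := hP.inv_mem s₀ hs₀.2.1 hs₀.2.2
  let f : Jset M o × (M ⊓ P : Subgroup G) → stabIn M o := fun x =>
    ⟨γ x.1 * (x.2 : G), mem_stabIn.2 ⟨M.mul_mem (mem_stabIn.1 (hγ x.1)).1 (Subgroup.mem_inf.1 x.2.2).1,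
      by rw [mul_smul, hP.fix _ (Subgroup.mem_inf.1 x.2.2).2, (mem_stabIn.1 (hγ x.1)).2]⟩⟩
  have hconj : ∀ x : Jset M o × (M ⊓ P : Subgroup G),
      (γ x.1 * (x.2 : G)) * s₀ * (γ x.1 * (x.2 : G))⁻¹ = (x.1 : G) := by
    intro x
    have h1 := hP.central s₀ hs₀P hs₀.2.1 _ (Subgroup.mem_inf.1 x.2.2).2
    calc (γ x.1 * (x.2 : G)) * s₀ * (γ x.1 * (x.2 : G))⁻¹
        = γ x.1 * ((x.2 : G) * s₀) * (x.2 : G)⁻¹ * (γ x.1)⁻¹ := by group
      _ = γ x.1 * (s₀ * (x.2 : G)) * (x.2 : G)⁻¹ * (γ x.1)⁻¹ := by rw [h1]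
      _ = γ x.1 * s₀ * (γ x.1)⁻¹ := by group
      _ = (x.1 : G) := hγs x.1
  have hbij : Function.Bijective f := by
    constructor
    · rintro x y hxy
      have h1 : γ x.1 * (x.2 : G) = γ y.1 * (y.2 : G) := congrArg Subtype.val hxy
      have h2 : (x.1 : G) = (y.1 : G) := by rw [← hconj x, ← hconj y, h1]
      have h3 : x.1 = y.1 := Subtype.ext h2
      have h4 : (x.2 : G) = (y.2 : G) := by
        rw [h3] at h1
        exact mul_left_cancel h1
      exact Prod.ext h3 (Subtype.ext h4)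
    · rintro ⟨g, hg⟩
      have hgM := (mem_stabIn.1 hg).1
      have hgo := (mem_stabIn.1 hg).2
      have hsJ : g * s₀ * g⁻¹ ∈ Jset M o :=
        ⟨M.mul_mem (M.mul_mem hgM hs₀.1) (M.inv_mem hgM), hs₀.2.1.conj g, by
          have := fix_conj (g := g) hs₀.2.2
          rwa [hgo] at this⟩
      set s : Jset M o := ⟨g * s₀ * g⁻¹, hsJ⟩ with hs
      have hcomm : ((γ s)⁻¹ * g) * s₀ = s₀ * ((γ s)⁻¹ * g) := by
        have h1 : γ s * s₀ * (γ s)⁻¹ = g * s₀ * g⁻¹ := hγs s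
        have h2 : s₀ = (γ s)⁻¹ * (g * s₀ * g⁻¹) * γ s := by rw [← h1]; group
        calc ((γ s)⁻¹ * g) * s₀ = ((γ s)⁻¹ * (g * s₀ * g⁻¹) * γ s) * ((γ s)⁻¹ * g) := by group
          _ = s₀ * ((γ s)⁻¹ * g) := by rw [← h2]
      have huP : (γ s)⁻¹ * g ∈ P := hP.cent s₀ hs₀P hs₀.2.1 _ hcomm
      have huM : (γ s)⁻¹ * g ∈ M := M.mul_mem (M.inv_mem (mem_stabIn.1 (hγ s)).1) hgM
      refine ⟨(s, ⟨(γ s)⁻¹ * g, Subgroup.mem_inf.2 ⟨huM, huP⟩⟩), ?_⟩
      apply Subtype.ext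
      show γ s * ((γ s)⁻¹ * g) = g
      group
  rw [← Nat.card_congr (Equiv.ofBijective f hbij), Nat.card_prod]

/-- an involution of `M` swapping the fixed points of two given involutions and conjugating one to the other -/
theorem UFix.exists_swap [Finite G] (hU : UFix G Ω) {M : Subgroup G} {o ε : Ω} (hne : o ≠ ε)
    {s₀ t : G} (hs₀ : s₀ ∈ Jset M o) (ht : t ∈ Jset M ε) :
    ∃ r ∈ M, r * r = 1 ∧ r • o = ε ∧ r • ε = o ∧ r * s₀ * r⁻¹ = t := by
  obtain ⟨l, hl⟩ := hU.conj_of_ne hs₀.2.1 ht.2.1 hs₀.2.2 ht.2.2 hne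
  set a := (s₀ * t) ^ l with ha
  have hsi : s₀⁻¹ = s₀ := hs₀.2.1.inv_eq
  have h1 : s₀ * a * s₀⁻¹ = a⁻¹ := inv_conj_pow hs₀.2.1.2 ht.2.1.2 l
  have hrr : (a * s₀) * (a * s₀) = 1 := by
    calc (a * s₀) * (a * s₀) = a * (s₀ * a * s₀) := by group
      _ = a * (s₀ * a * s₀⁻¹) := by rw [hsi]
      _ = 1 := by rw [h1, mul_inv_cancel]
  have hconj : (a * s₀) * s₀ * (a * s₀)⁻¹ = t := by
    rw [← hl]; group
  have hro : (a * s₀) • o = ε := hU.smul_of_conj ht.2.1 hs₀.2.2 ht.2.2 hconj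
  refine ⟨a * s₀, M.mul_mem (M.pow_mem (M.mul_mem hs₀.1 ht.1) l) hs₀.1, hrr, hro, ?_, hconj⟩
  rw [← hro, ← mul_smul, hrr, one_smul]

/-- the two-point stabilisers in `M` are at least as large as the set of involutions at a point -/
theorem UFix.card_J_le [Finite G] (hU : UFix G Ω) {M : Subgroup G}
    (hnf : ∀ δ : Ω, ∃ g ∈ M, g • δ ≠ δ) {o ε : Ω} (hne : o ≠ ε) {s₀ t₀ : G}
    (hs₀ : s₀ ∈ Jset M o) (ht₀ : t₀ ∈ Jset M ε) :
    Nat.card (Jset M o) ≤ Nat.card (stabIn₂ M o ε) := by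
  obtain ⟨g₀, hg₀M, hg₀⟩ := hU.inv_conj hnf hs₀.1 ht₀.1 hs₀.2.1 ht₀.2.1
  have hg₀o : g₀ • o = ε := hU.smul_of_conj ht₀.2.1 hs₀.2.2 ht₀.2.2 hg₀
  have ht : ∀ s : Jset M o, g₀ * (s : G) * g₀⁻¹ ∈ Jset M ε := fun s =>
    ⟨M.mul_mem (M.mul_mem hg₀M s.2.1) (M.inv_mem hg₀M), s.2.2.1.conj g₀, by
      have := fix_conj (g := g₀) s.2.2.2
      rwa [hg₀o] at this⟩
  have hex : ∀ s : Jset M o, ∃ r ∈ M, r * r = 1 ∧ r • o = ε ∧ r • ε = o ∧
      r * s₀ * r⁻¹ = g₀ * (s : G) * g₀⁻¹ := fun s => hU.exists_swap hne hs₀ (ht s)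
  choose ρ hρM hρ2 hρo hρε hρc using hex
  let s₀' : Jset M o := ⟨s₀, hs₀⟩
  have hinvo : (ρ s₀')⁻¹ • ε = o := by rw [inv_smul_eq_iff, hρo]
  have hinvε : (ρ s₀')⁻¹ • o = ε := by rw [inv_smul_eq_iff, hρε]
  let f : Jset M o → stabIn₂ M o ε := fun s =>
    ⟨(ρ s₀')⁻¹ * ρ s, mem_stabIn₂.2 ⟨M.mul_mem (M.inv_mem (hρM s₀')) (hρM s), by
      rw [mul_smul, hρo, hinvo], by rw [mul_smul, hρε, hinvε]⟩⟩
  have hf : Function.Injective f := by
    intro s s' h
    have h1 : (ρ s₀')⁻¹ * ρ s = (ρ s₀')⁻¹ * ρ s' := congrArg Subtype.val h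
    have h2 : ρ s = ρ s' := mul_left_cancel h1
    have h3 : g₀ * (s : G) * g₀⁻¹ = g₀ * (s' : G) * g₀⁻¹ := by rw [← hρc s, ← hρc s', h2]
    apply Subtype.ext
    exact mul_left_cancel (mul_right_cancel h3)
  exact Nat.card_le_card_of_injective f hf

/-- the product map from `M_{o ε} × (M ∩ P)` to `M_o` is injective -/
theorem SylAt.mul_injective {M P : Subgroup G} {o ε : Ω} (hP : SylAt P o) (hne : o ≠ ε)
    {k k' u u' : G} (hk : k ∈ stabIn₂ M o ε) (hk' : k' ∈ stabIn₂ M o ε) (hu : u ∈ P) (hu' : u' ∈ P)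
    (h : k * u = k' * u') : k = k' ∧ u = u' := by
  have h1 : k'⁻¹ * k = u' * u⁻¹ := by
    calc k'⁻¹ * k = k'⁻¹ * (k * u) * u⁻¹ := by group
      _ = k'⁻¹ * (k' * u') * u⁻¹ := by rw [h]
      _ = u' * u⁻¹ := by group
  have h2 : (k'⁻¹ * k) • ε = ε := by
    rw [mul_smul, (mem_stabIn₂.1 hk).2.2, inv_smul_eq_iff, (mem_stabIn₂.1 hk').2.2]
  have h3 : u' * u⁻¹ ∈ P := P.mul_mem hu' (P.inv_mem hu)
  have h4 : k'⁻¹ * k = 1 := by
    by_contra hcon
    rw [h1] at hcon h2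
    exact hne (hP.fix_only _ h3 hcon ε h2).symm
  have h5 : k = k' := by
    have := inv_mul_eq_one.1 h4
    exact this.symm
  refine ⟨h5, ?_⟩
  rw [h5] at h
  exact mul_left_cancel h

/-- the stabiliser of `o` in `M` is the product of any two-point stabiliser and `M ∩ P` -/
theorem UFix.stabIn_eq_mul [Finite G] (hU : UFix G Ω) {M P : Subgroup G} {o ε : Ω} (hP : SylAt P o)
    (hnf : ∀ δ : Ω, ∃ g ∈ M, g • δ ≠ δ) (hne : o ≠ ε) {s₀ t₀ : G}
    (hs₀ : s₀ ∈ Jset M o) (ht₀ : t₀ ∈ Jset M ε) :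
    Nat.card (stabIn₂ M o ε) = Nat.card (Jset M o) ∧
      ∀ y ∈ stabIn M o, ∃ k ∈ stabIn₂ M o ε, ∃ u ∈ (M ⊓ P : Subgroup G), y = k * u := by
  let f : stabIn₂ M o ε × (M ⊓ P : Subgroup G) → stabIn M o := fun x =>
    ⟨(x.1 : G) * (x.2 : G), mem_stabIn.2 ⟨M.mul_mem (mem_stabIn₂.1 x.1.2).1 (Subgroup.mem_inf.1 x.2.2).1,
      by rw [mul_smul, hP.fix _ (Subgroup.mem_inf.1 x.2.2).2, (mem_stabIn₂.1 x.1.2).2.1]⟩⟩
  have hf : Function.Injective f := by
    intro x y hxy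
    have h1 : (x.1 : G) * (x.2 : G) = (y.1 : G) * (y.2 : G) := congrArg Subtype.val hxy
    obtain ⟨e1, e2⟩ := hP.mul_injective hne x.1.2 y.1.2 (Subgroup.mem_inf.1 x.2.2).2
      (Subgroup.mem_inf.1 y.2.2).2 h1
    exact Prod.ext (Subtype.ext e1) (Subtype.ext e2)
  have h1 := Nat.card_le_card_of_injective f hf
  rw [Nat.card_prod, card_stabIn hU hP hnf hs₀] at h1
  have h2 := hU.card_J_le hnf hne hs₀ ht₀
  have hQpos : 0 < Nat.card (M ⊓ P : Subgroup G) := Nat.card_pos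
  have h3 : Nat.card (stabIn₂ M o ε) ≤ Nat.card (Jset M o) := Nat.le_of_mul_le_mul_right h1 hQpos
  have h4 : Nat.card (stabIn₂ M o ε) = Nat.card (Jset M o) := le_antisymm h3 h2
  refine ⟨h4, ?_⟩
  have hbij : Function.Bijective f := by
    apply hf.bijective_of_nat_card_le
    rw [Nat.card_prod, card_stabIn hU hP hnf hs₀, h4]
  intro y hy
  obtain ⟨x, hx⟩ := hbij.2 ⟨y, hy⟩
  exact ⟨x.1, x.1.2, x.2, x.2.2, (congrArg Subtype.val hx).symm⟩

end Abstract

section Transfer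

/-- a finite group of even order with cyclic Sylow `2`-subgroups is a `2`-group or has a non-trivial normal
subgroup of odd order (Burnside's transfer theorem) -/
theorem exists_normal_odd_of_cyclic {G : Type*} [Group G] [Finite G] (M : Subgroup G)
    (h2 : 2 ∣ Nat.card M) (hcyc : ∀ P : Sylow 2 M, IsCyclic P) :
    IsPGroup 2 M ∨ ∃ X : Subgroup G, X ≠ ⊥ ∧ ¬ 2 ∣ Nat.card X ∧
      M ≤ Subgroup.normalizer (X : Set G) := by
  have : Fact (Nat.Prime 2) := ⟨Nat.prime_two⟩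
  obtain ⟨P⟩ : Nonempty (Sylow 2 M) := inferInstance
  have hp : (Nat.card M).minFac = 2 := (Nat.minFac_eq_two_iff _).2 h2
  obtain ⟨N, hNn, hodd, hc⟩ : ∃ N : Subgroup M, N.Normal ∧ ¬ 2 ∣ Nat.card N ∧
      N.IsComplement' (P : Subgroup M) :=
    ⟨_, MonoidHom.normal_ker _,
      MonoidHom.not_dvd_card_ker_transferSylow P ((hcyc P).normalizer_le_centralizer hp),
      IsCyclic.isComplement' hp (hcyc P)⟩
  by_cases hbot : N = ⊥
  · left
    have h1 := hc.card_mul_card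
    rw [hbot, Subgroup.card_bot, one_mul] at h1
    have h3 : (P : Subgroup M) = ⊤ := (Subgroup.card_eq_iff_eq_top _).1 h1
    have h4 := P.2
    rw [h3] at h4
    exact h4.of_equiv Subgroup.topEquiv
  · right
    refine ⟨N.map M.subtype, ?_, ?_, ?_⟩
    · intro h
      apply hbot
      rw [← Subgroup.map_eq_bot_iff_of_injective N M.subtype_injective]
      exact h
    · rw [← Nat.card_congr (N.equivMapOfInjective M.subtype M.subtype_injective).toEquiv]
      exact hodd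
    · intro n hn
      rw [Subgroup.mem_normalizer_iff]
      intro h
      constructor
      · rintro ⟨h', hh', rfl⟩
        exact ⟨⟨n, hn⟩ * h' * ⟨n, hn⟩⁻¹, hNn.conj_mem h' hh' ⟨n, hn⟩, rfl⟩
      · rintro ⟨k, hk, hkn⟩
        refine ⟨⟨n, hn⟩⁻¹ * k * ⟨n, hn⟩, ?_, ?_⟩
        · have := hNn.conj_mem k hk (⟨n, hn⟩⁻¹)
          rwa [inv_inv] at this
        · show n⁻¹ * (k : G) * n = h
          have : (k : G) = n * h * n⁻¹ := hkn
          rw [this]; group

end Transfer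

end Cfsg.Agent.Helper37SzSub
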