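import Mathlib
import Cfsg.Agent.Lib.Helper37_SzSubA
import Cfsg.Agent.Lib.Helper37_SzSubB

/-!
# Subgroups of the Suzuki groups, part C: coordinates (helper37)

The Suzuki group acting on the ovoid satisfies the hypotheses of part B; a subgroup whose involutions are
determined by their fixed points has cyclic Sylow `2`-subgroups; and for a subgroup `M` containing at least two
involutions fixing `∞`, the involution `u(0,1)` and an involution fixing `0`, the set `B = {b | u(0,b) ∈ M}` is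
a subfield, `M ∩ Q = {u(a,b) | a, b ∈ B}` and `M` preserves the sub-ovoid of the points with coordinates in `B`.
-/

set_option autoImplicit false
open Cfsg

namespace Cfsg.Agent.Helper37SzSub

open Cfsg.Agent.Helper37Sz Cfsg.Agent.Lib.Helper6_SzCent Cfsg.Agent.Lib.Helper6_SzFixity
open Cfsg.Agent.Lib.Helper6_SzSubNorm
open Cfsg.Agent.S0335 (sf)

section Inst

variable {F : Type*} [Field F] [Fintype F] {S : F →+* F} {m : ℕ}

/-- every involution of the Suzuki group fixes exactly one point -/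
theorem ufix_Sz (hm : 1 ≤ m) (hF : Fintype.card F = 2 ^ (2 * m + 1)) :
    UFix (Cfsg.Sz F m) (Cfsg.suzukiOvoid F m) := fun _ hs => inv_fix_unique hm hF hs.1 hs.2

/-- an involution in `Q` is central -/
theorem inv_Qsub_form (h2 : (2 : F) = 0) (hS : ∀ z, S (S z) = z ^ 2)
    (hSdef : ∀ z, S z = z ^ 2 ^ (m + 1)) {s : Cfsg.Sz F m} (hs : s ∈ Qsub h2 hS m)
    (hi : IsInv s) : ∃ b : F, b ≠ 0 ∧ s = uQ h2 hS hSdef 0 b := by
  obtain ⟨a, b, rfl⟩ := exists_of_mem_Qsub h2 hS hSdef hs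
  have h1 := hi.2
  rw [uQ_mul, ← uQ_zero h2 hS hSdef] at h1
  obtain ⟨-, e2⟩ := uQ_inj h2 hS hSdef h1
  have e3 : S a * a = 0 := by linear_combination e2 - b * h2
  have ha : a = 0 := by
    rcases mul_eq_zero.1 e3 with h | h
    · simp at h; exact h
    · exact h
  subst ha
  refine ⟨b, ?_, rfl⟩
  rintro rfl
  exact hi.1 (uQ_zero h2 hS hSdef)

/-- `Q` is a "Sylow subgroup at `∞`" in the sense of part B -/
theorem sylAt_Qsub (hm : 1 ≤ m) (hF : Fintype.card F = 2 ^ (2 * m + 1)) (h2 : (2 : F) = 0)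
    (hS : ∀ z, S (S z) = z ^ 2) (hSdef : ∀ z, S z = z ^ 2 ^ (m + 1)) :
    SylAt (Qsub h2 hS m) (ptInf F m) where
  inv_mem := by
    intro s hs hfix
    obtain ⟨g, b, hgb⟩ := involution_conj hm hF h2 hS hSdef hs.2
    have h1 : s • (g • ptInf F m) = g • ptInf F m := by
      rw [hgb, mul_smul, mul_smul, inv_smul_smul, uQ_smul_ptInf]
    have h3 : g • ptInf F m = ptInf F m := (ufix_Sz hm hF).eq_of_fix hs h1 hfix
    rw [hgb]
    exact conj_mem_Qsub hm hF h2 hS hSdef h3 (uQ_mem_Qsub h2 hS hSdef 0 b)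
  cent := by
    intro s hs hi g hg
    obtain ⟨b, hb, rfl⟩ := inv_Qsub_form h2 hS hSdef hs hi
    have hfix : g • ptInf F m = ptInf F m :=
      (ufix_Sz hm hF).fix_of_commute hi (uQ_smul_ptInf h2 hS hSdef 0 b) hg
    obtain ⟨a, c, t, rfl⟩ := stab_inf hm hF h2 hS hSdef hfix
    have ht0 : (t : F) ≠ 0 := t.ne_zero
    -- `t = 1`
    have h1 : uQ h2 hS hSdef a c * hQ hS hSdef t * uQ h2 hS hSdef 0 b
        = uQ h2 hS hSdef a c * uQ h2 hS hSdef 0 (S (t : F) ^ 2 * (t : F) ^ 2 * b)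
          * hQ hS hSdef t := by
      rw [mul_assoc, hQ_mul_uQ, mul_zero, ← mul_assoc]
    rw [h1, ← uQ_zero_comm, mul_assoc, mul_assoc] at hg
    have h3 := mul_right_cancel hg
    obtain ⟨-, e2⟩ := uQ_inj h2 hS hSdef h3
    have e3 : (S (t : F) * (t : F)) ^ 2 = 1 := by
      have : b * ((S (t : F) * (t : F)) ^ 2 - 1) = 0 := by linear_combination e2
      rcases mul_eq_zero.1 this with h | h
      · exact absurd h hb
      · linear_combination h
    have ht1 : (t : F) = 1 := eq_one_of_S_mul_self h2 hS ht0 e3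
    have : t = 1 := Units.ext ht1
    rw [this, hQ_one, mul_one]
    exact uQ_mem_Qsub h2 hS hSdef a c
  central := by
    intro s hs hi g hg
    obtain ⟨b, -, rfl⟩ := inv_Qsub_form h2 hS hSdef hs hi
    obtain ⟨a, c, rfl⟩ := exists_of_mem_Qsub h2 hS hSdef hg
    exact (uQ_zero_comm h2 hS hSdef b a c).symm
  fix := by
    intro u hu
    obtain ⟨a, c, rfl⟩ := exists_of_mem_Qsub h2 hS hSdef hu
    exact uQ_smul_ptInf h2 hS hSdef a c
  fix_only := by
    intro u hu hu1 δ hδ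
    obtain ⟨a, c, rfl⟩ := exists_of_mem_Qsub h2 hS hSdef hu
    apply uQ_fix h2 hS hSdef _ δ hδ
    rintro ⟨rfl, rfl⟩
    exact hu1 (uQ_zero h2 hS hSdef)

/-- `a ↦ S a * a` is injective -/
theorem S_mul_inj (h2 : (2 : F) = 0) (hS : ∀ z, S (S z) = z ^ 2) {a a' : F}
    (h : S a * a = S a' * a') : a = a' := by
  by_cases ha' : a' = 0
  · subst ha'
    rw [map_zero, mul_zero] at h
    rcases mul_eq_zero.1 h with h | h
    · simpa using h
    · exact h
  · apply St_sq_inj h2 hS ha'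
    have := congrArg S h
    rw [map_mul, map_mul, hS, hS] at this
    linear_combination this

/-- a subgroup of `Q` with at most one involution is cyclic -/
theorem isCyclic_of_unique_inv (h2 : (2 : F) = 0) (hS : ∀ z, S (S z) = z ^ 2)
    (hSdef : ∀ z, S z = z ^ 2 ^ (m + 1)) (R : Subgroup (Cfsg.Sz F m)) (hR : R ≤ Qsub h2 hS m)
    (huniq : ∀ s ∈ R, ∀ t ∈ R, IsInv s → IsInv t → s = t) : IsCyclic R := by
  have hadd : ∀ x : F, x + x = 0 := fun x => by linear_combination x * h2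
  -- it suffices to find a generator
  suffices h : ∃ x ∈ R, ∀ y ∈ R, y ∈ Subgroup.zpowers x by
    obtain ⟨x, hx, hgen⟩ := h
    refine ⟨⟨⟨x, hx⟩, fun y => ?_⟩⟩
    obtain ⟨k, hk⟩ := Subgroup.mem_zpowers_iff.1 (hgen y y.2)
    exact Subgroup.mem_zpowers_iff.2 ⟨k, Subtype.ext (by simpa using hk)⟩
  -- involutions in `Q`
  have hinv : ∀ b : F, b ≠ 0 → IsInv (uQ (m := m) h2 hS hSdef 0 b) := by
    intro b hb
    refine ⟨?_, uQ_zero_involution h2 hS hSdef b⟩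
    intro h
    rw [← uQ_zero h2 hS hSdef] at h
    exact hb (uQ_inj h2 hS hSdef h).2
  have hsq : ∀ a b : F, uQ (m := m) h2 hS hSdef a b * uQ h2 hS hSdef a b
      = uQ h2 hS hSdef 0 (S a * a) := by
    intro a b
    rw [uQ_mul]
    apply uQ_congr
    · exact hadd a
    · linear_combination b * h2
  by_cases hex : ∃ a b : F, a ≠ 0 ∧ uQ h2 hS hSdef a b ∈ R
  · obtain ⟨a, b, ha, hx⟩ := hex
    have hSa : S a ≠ 0 := by simpa using ha
    set x := uQ (m := m) h2 hS hSdef a b with hxdef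
    have hx2 : x * x ∈ R := R.mul_mem hx hx
    have hx2i : IsInv (x * x) := by rw [hxdef, hsq]; exact hinv _ (mul_ne_zero hSa ha)
    refine ⟨x, hx, ?_⟩
    intro y hy
    obtain ⟨a', b', rfl⟩ := exists_of_mem_Qsub h2 hS hSdef (hR hy)
    by_cases ha' : a' = 0
    · subst ha'
      by_cases hb' : b' = 0
      · subst hb'
        rw [uQ_zero]
        exact Subgroup.one_mem _
      · have := huniq _ hy _ hx2 (hinv b' hb') hx2i
        rw [this, ← pow_two]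
        exact Subgroup.pow_mem _ (Subgroup.mem_zpowers x) 2
    · have hSa' : S a' ≠ 0 := by simpa using ha'
      have hy2 : uQ h2 hS hSdef a' b' * uQ h2 hS hSdef a' b' ∈ R := R.mul_mem hy hy
      have hy2i : IsInv (uQ (m := m) h2 hS hSdef a' b' * uQ h2 hS hSdef a' b') := by
        rw [hsq]; exact hinv _ (mul_ne_zero hSa' ha')
      have h1 := huniq _ hy2 _ hx2 hy2i hx2i
      rw [hxdef, hsq, hsq] at h1
      have h3 : a' = a := S_mul_inj h2 hS (uQ_inj h2 hS hSdef h1).2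
      subst h3
      -- `x⁻¹ y` is central
      have h4 : x⁻¹ * uQ h2 hS hSdef a' b' = uQ h2 hS hSdef 0 (b + b') := by
        rw [inv_mul_eq_iff_eq_mul, hxdef, uQ_mul]
        apply uQ_congr
        · ring
        · linear_combination (-b) * h2
      have h5 : uQ h2 hS hSdef 0 (b + b') ∈ R := by
        rw [← h4]; exact R.mul_mem (R.inv_mem hx) hy
      by_cases hbb : b + b' = 0
      · have : uQ (m := m) h2 hS hSdef a' b' = x := by
          rw [hxdef]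
          apply uQ_congr h2 hS hSdef rfl
          linear_combination hbb - b * h2
        rw [this]
        exact Subgroup.mem_zpowers x
      · have h6 := huniq _ h5 _ hx2 (hinv _ hbb) hx2i
        rw [← h4, inv_mul_eq_iff_eq_mul] at h6
        rw [h6, ← pow_two, ← pow_succ']
        exact Subgroup.pow_mem _ (Subgroup.mem_zpowers x) _
  · push Not at hex
    by_cases hbot : ∃ z ∈ R, z ≠ 1
    · obtain ⟨z, hz, hz1⟩ := hbot
      refine ⟨z, hz, ?_⟩
      obtain ⟨a, b, rfl⟩ := exists_of_mem_Qsub h2 hS hSdef (hR hz)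
      have ha : a = 0 := by
        by_contra ha
        exact hex a b ha hz
      subst ha
      have hb : b ≠ 0 := by
        rintro rfl
        exact hz1 (uQ_zero h2 hS hSdef)
      intro y hy
      obtain ⟨a', b', rfl⟩ := exists_of_mem_Qsub h2 hS hSdef (hR hy)
      have ha' : a' = 0 := by
        by_contra ha'
        exact hex a' b' ha' hy
      subst ha'
      by_cases hb' : b' = 0
      · subst hb'
        rw [uQ_zero]
        exact Subgroup.one_mem _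
      · rw [huniq _ hy _ hz (hinv b' hb') (hinv b hb)]
        exact Subgroup.mem_zpowers _
    · push Not at hbot
      exact ⟨1, R.one_mem, fun y hy => by rw [hbot y hy]; exact Subgroup.one_mem _⟩

end Inst

section CaseOne

variable {F : Type*} [Field F] [Fintype F] {m : ℕ}

open Cfsg.Agent.Lib.Helper6_SzPartition

/-- Case I: if the involutions of `M` are determined by their fixed points, then `M` normalises a torus or
a Sylow `2`-subgroup -/
theorem concl_of_unique_inv (hm : 1 ≤ m) (hF : Fintype.card F = 2 ^ (2 * m + 1))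
    {M : Subgroup (Cfsg.Sz F m)} (h2card : 2 ∣ Nat.card M)
    (huniq : ∀ δ : Cfsg.suzukiOvoid F m, ∀ s ∈ M, ∀ t ∈ M, IsInv s → IsInv t → s • δ = δ →
      t • δ = δ → s = t) : Concl M := by
  have h2 : (2 : F) = 0 := two_eq_zero_of_card hF
  have hSdef : ∀ z, (sgHom F m h2) z = z ^ 2 ^ (m + 1) := fun z => sgHom_apply m h2 z
  have hS : ∀ z, (sgHom F m h2) ((sgHom F m h2) z) = z ^ 2 := fun z => sgHom_sgHom hF h2 z
  have hcyc : ∀ P : Sylow 2 M, IsCyclic P := by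
    intro P
    set R : Subgroup (Cfsg.Sz F m) := (P : Subgroup M).map M.subtype with hR
    have hRM : R ≤ M := by
      rintro x ⟨y, -, rfl⟩
      exact y.2
    have hRp : IsPGroup 2 R := P.2.map _
    obtain ⟨P', hP'⟩ := hRp.exists_le_sylow
    obtain ⟨k, hk⟩ := sylow_mem_iff hm hF h2 hS hSdef P'
    have hR'Q : cj k⁻¹ R ≤ Qsub h2 hS m := by
      intro y hy
      rw [mem_cj, inv_inv] at hy
      obtain ⟨a, b, hab⟩ := (hk _).1 (hP' hy)
      have : y = uQ h2 hS hSdef a b := by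
        have e : y = k⁻¹ * (k * y * k⁻¹) * k := by group
        rw [e, hab]; group
      rw [this]
      exact uQ_mem_Qsub h2 hS hSdef a b
    have hcycR' : IsCyclic (cj k⁻¹ R) := by
      apply isCyclic_of_unique_inv h2 hS hSdef _ hR'Q
      intro s hs t ht hsi hti
      have hs' := hs
      have ht' := ht
      rw [mem_cj, inv_inv] at hs' ht'
      have hsfix : s • ptInf F m = ptInf F m := (sylAt_Qsub hm hF h2 hS hSdef).fix s (hR'Q hs)
      have htfix : t • ptInf F m = ptInf F m := (sylAt_Qsub hm hF h2 hS hSdef).fix t (hR'Q ht)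
      have := huniq (k • ptInf F m) _ (hRM hs') _ (hRM ht') (hsi.conj k) (hti.conj k)
        (fix_conj hsfix) (fix_conj htfix)
      exact mul_left_cancel (mul_right_cancel this)
    have hcycR : IsCyclic R :=
      isCyclic_of_surjective (cjEquiv k⁻¹ R).symm (cjEquiv k⁻¹ R).symm.surjective
    let e := (P : Subgroup M).equivMapOfInjective M.subtype M.subtype_injective
    exact isCyclic_of_surjective e.symm e.symm.surjective
  rcases exists_normal_odd_of_cyclic M h2card hcyc with h | ⟨X, hX, hodd, hMX⟩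
  · exact concl_of_pgroup h
  · exact concl_of_normal_odd hm hF hX hodd hMX

end CaseOne

section CaseTwo

variable {F : Type*} [Field F] [Fintype F] {S : F →+* F} {m : ℕ}

/-- conjugation of `Q` by the torus -/
theorem hQ_conj_uQ (h2 : (2 : F) = 0) (hS : ∀ z, S (S z) = z ^ 2)
    (hSdef : ∀ z, S z = z ^ 2 ^ (m + 1)) (t : Fˣ) (a b : F) :
    hQ hS hSdef t * uQ h2 hS hSdef a b * (hQ hS hSdef t)⁻¹
      = uQ (m := m) h2 hS hSdef ((t : F) ^ 2 * a) (S (t : F) ^ 2 * (t : F) ^ 2 * b) := by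
  rw [hQ_mul_uQ, mul_inv_cancel_right]

/-- the normalised situation of Case II -/
structure Nrm (h2 : (2 : F) = 0) (hS : ∀ z, S (S z) = z ^ 2) (hSdef : ∀ z, S z = z ^ 2 ^ (m + 1))
    (M : Subgroup (Cfsg.Sz F m)) : Prop where
  one : uQ h2 hS hSdef 0 1 ∈ M
  two : ∃ b : F, b ≠ 0 ∧ b ≠ 1 ∧ uQ h2 hS hSdef 0 b ∈ M
  zero : ∃ t₀ ∈ M, IsInv t₀ ∧ t₀ • ptAff hSdef 0 0 = ptAff hSdef 0 0

/-- the central coordinates of `M` -/
def Bs (h2 : (2 : F) = 0) (hS : ∀ z, S (S z) = z ^ 2) (hSdef : ∀ z, S z = z ^ 2 ^ (m + 1))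
    (M : Subgroup (Cfsg.Sz F m)) : Set F := {b | uQ h2 hS hSdef 0 b ∈ M}

variable {h2 : (2 : F) = 0} {hS : ∀ z, S (S z) = z ^ 2} {hSdef : ∀ z, S z = z ^ 2 ^ (m + 1)}
variable {M : Subgroup (Cfsg.Sz F m)}

theorem isInv_uQ_zero {b : F} (hb : b ≠ 0) : IsInv (uQ (m := m) h2 hS hSdef 0 b) := by
  refine ⟨?_, uQ_zero_involution h2 hS hSdef b⟩
  intro h
  rw [← uQ_zero h2 hS hSdef] at h
  exact hb (uQ_inj h2 hS hSdef h).2

theorem mem_Jset_uQ {b : F} (hb : b ≠ 0) (hbM : b ∈ Bs h2 hS hSdef M) :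
    uQ h2 hS hSdef 0 b ∈ Jset M (ptInf F m) :=
  ⟨hbM, isInv_uQ_zero hb, uQ_smul_ptInf h2 hS hSdef 0 b⟩

theorem Nrm.nf (hm : 1 ≤ m) (hF : Fintype.card F = 2 ^ (2 * m + 1)) (N : Nrm h2 hS hSdef M)
    (δ : Cfsg.suzukiOvoid F m) : ∃ g ∈ M, g • δ ≠ δ := by
  by_cases hδ : δ = ptInf F m
  · obtain ⟨t₀, ht₀M, ht₀i, ht₀⟩ := N.zero
    refine ⟨t₀, ht₀M, ?_⟩
    intro h
    rw [hδ] at h
    exact ptAff_ne_ptInf hSdef 0 0 ((ufix_Sz hm hF).eq_of_fix ht₀i ht₀ h)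
  · refine ⟨_, N.one, ?_⟩
    intro h
    exact hδ (uQ_zero_fix h2 hS hSdef one_ne_zero δ h)

theorem Nrm.zero_mem_J (N : Nrm h2 hS hSdef M) :
    ∃ t₀, t₀ ∈ Jset M (ptAff hSdef 0 0) := by
  obtain ⟨t₀, ht₀M, ht₀i, ht₀⟩ := N.zero
  exact ⟨t₀, ht₀M, ht₀i, ht₀⟩

/-- the torus of `M` is transitive on the central involutions -/
theorem Nrm.trans (hm : 1 ≤ m) (hF : Fintype.card F = 2 ^ (2 * m + 1)) (N : Nrm h2 hS hSdef M)
    {b b' : F} (hb : b ≠ 0) (hbM : b ∈ Bs h2 hS hSdef M) (hb' : b' ≠ 0)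
    (hb'M : b' ∈ Bs h2 hS hSdef M) :
    ∃ t : Fˣ, hQ hS hSdef t ∈ M ∧ S (t : F) ^ 2 * (t : F) ^ 2 * b = b' := by
  have hU := ufix_Sz hm hF
  have hP := sylAt_Qsub hm hF h2 hS hSdef
  obtain ⟨t₀, ht₀⟩ := N.zero_mem_J
  have hne : ptInf F m ≠ ptAff hSdef 0 0 := (ptAff_ne_ptInf hSdef 0 0).symm
  obtain ⟨g, hg, hgc⟩ := hU.stab_trans (N.nf hm hF) (mem_Jset_uQ hb hbM) (mem_Jset_uQ hb' hb'M)
  obtain ⟨-, hdec⟩ := hU.stabIn_eq_mul hP (N.nf hm hF) hne (mem_Jset_uQ hb hbM) ht₀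
  obtain ⟨k, hk, u, hu, rfl⟩ := hdec g hg
  obtain ⟨hkM, hk1, hk0⟩ := mem_stabIn₂.1 hk
  obtain ⟨t, rfl⟩ := fix_two_eq_hQ hm hF h2 hS hSdef hk1 hk0
  refine ⟨t, hkM, ?_⟩
  have hcomm := hP.central _ (uQ_mem_Qsub h2 hS hSdef 0 b) (isInv_uQ_zero hb) u
    (Subgroup.mem_inf.1 hu).2
  have h1 : hQ hS hSdef t * u * uQ h2 hS hSdef 0 b * (hQ hS hSdef t * u)⁻¹
      = hQ hS hSdef t * uQ h2 hS hSdef 0 b * (hQ hS hSdef t)⁻¹ := by
    calc hQ hS hSdef t * u * uQ h2 hS hSdef 0 b * (hQ hS hSdef t * u)⁻¹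
        = hQ hS hSdef t * (u * uQ h2 hS hSdef 0 b) * u⁻¹ * (hQ hS hSdef t)⁻¹ := by group
      _ = hQ hS hSdef t * (uQ h2 hS hSdef 0 b * u) * u⁻¹ * (hQ hS hSdef t)⁻¹ := by rw [hcomm]
      _ = hQ hS hSdef t * uQ h2 hS hSdef 0 b * (hQ hS hSdef t)⁻¹ := by group
  rw [h1, hQ_conj_uQ] at hgc
  exact (uQ_inj h2 hS hSdef hgc).2

theorem zero_mem_Bs : (0 : F) ∈ Bs h2 hS hSdef M := by
  show uQ h2 hS hSdef 0 0 ∈ M
  rw [uQ_zero]; exact M.one_mem

theorem add_mem_Bs {b b' : F} (hb : b ∈ Bs h2 hS hSdef M) (hb' : b' ∈ Bs h2 hS hSdef M) :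
    b + b' ∈ Bs h2 hS hSdef M := by
  have h1 : uQ h2 hS hSdef 0 b ∈ M := hb
  have h3 : uQ h2 hS hSdef 0 b' ∈ M := hb'
  have := M.mul_mem h1 h3
  rw [uQ_mul, add_zero, map_zero, zero_mul, add_zero] at this
  exact this

theorem Nrm.mul_mem_Bs (hm : 1 ≤ m) (hF : Fintype.card F = 2 ^ (2 * m + 1)) (N : Nrm h2 hS hSdef M)
    {b b' : F} (hb : b ∈ Bs h2 hS hSdef M) (hb' : b' ∈ Bs h2 hS hSdef M) :
    b * b' ∈ Bs h2 hS hSdef M := by
  by_cases hb0 : b = 0
  · rw [hb0, zero_mul]; exact zero_mem_Bs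
  · obtain ⟨t, ht, htb⟩ := N.trans hm hF one_ne_zero N.one hb0 hb
    rw [mul_one] at htb
    have h1 : uQ h2 hS hSdef 0 b' ∈ M := hb'
    have := M.mul_mem (M.mul_mem ht h1) (M.inv_mem ht)
    rw [hQ_conj_uQ, mul_zero, htb] at this
    exact this

theorem Nrm.inv_mem_Bs (hm : 1 ≤ m) (hF : Fintype.card F = 2 ^ (2 * m + 1)) (N : Nrm h2 hS hSdef M)
    {b : F} (hb : b ∈ Bs h2 hS hSdef M) : b⁻¹ ∈ Bs h2 hS hSdef M := by
  by_cases hb0 : b = 0
  · rw [hb0, inv_zero]; exact zero_mem_Bs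
  · obtain ⟨t, ht, htb⟩ := N.trans hm hF hb0 hb one_ne_zero N.one
    have h1 : uQ h2 hS hSdef 0 1 ∈ M := N.one
    have := M.mul_mem (M.mul_mem ht h1) (M.inv_mem ht)
    rw [hQ_conj_uQ, mul_zero, mul_one] at this
    have e : S (t : F) ^ 2 * (t : F) ^ 2 = b⁻¹ := eq_inv_of_mul_eq_one_left htb
    rw [e] at this
    exact this

/-- the subfield of central coordinates -/
def Nrm.subfield (hm : 1 ≤ m) (hF : Fintype.card F = 2 ^ (2 * m + 1)) (N : Nrm h2 hS hSdef M) :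
    Subfield F where
  carrier := Bs h2 hS hSdef M
  mul_mem' := fun hb hb' => N.mul_mem_Bs hm hF hb hb'
  one_mem' := N.one
  add_mem' := fun hb hb' => add_mem_Bs hb hb'
  zero_mem' := zero_mem_Bs
  neg_mem' := by
    intro b hb
    have : -b = b := by linear_combination (-b) * h2
    rw [this]; exact hb
  inv_mem' := fun b hb => N.inv_mem_Bs hm hF hb

theorem Nrm.mem_subfield (hm : 1 ≤ m) (hF : Fintype.card F = 2 ^ (2 * m + 1))
    (N : Nrm h2 hS hSdef M) {b : F} : b ∈ N.subfield hm hF ↔ uQ h2 hS hSdef 0 b ∈ M := Iff.rfl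

/-- the subfield is stable under the Tits endomorphism -/
theorem Nrm.S_mem (hm : 1 ≤ m) (hF : Fintype.card F = 2 ^ (2 * m + 1)) (N : Nrm h2 hS hSdef M)
    {b : F} (hb : b ∈ N.subfield hm hF) : S b ∈ N.subfield hm hF := by
  rw [hSdef]
  exact pow_mem hb _

/-- every non-zero element of the subfield is the square of a torus parameter of `M` -/
theorem Nrm.exists_torus (hm : 1 ≤ m) (hF : Fintype.card F = 2 ^ (2 * m + 1))
    (N : Nrm h2 hS hSdef M) {c : F} (hc : c ∈ N.subfield hm hF) (hc0 : c ≠ 0) :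
    ∃ t : Fˣ, hQ hS hSdef t ∈ M ∧ (t : F) ^ 2 = c := by
  have hSc0 : S c ≠ 0 := by simpa using hc0
  have hb : S c * c ∈ N.subfield hm hF := mul_mem (N.S_mem hm hF hc) hc
  obtain ⟨t, ht, htb⟩ := N.trans hm hF one_ne_zero N.one (mul_ne_zero hSc0 hc0) hb
  refine ⟨t, ht, ?_⟩
  rw [mul_one] at htb
  apply S_mul_inj h2 hS
  rw [map_pow, ← htb]

/-- the first coordinates of `M ∩ Q` lie in the subfield -/
theorem Nrm.fst_mem (hm : 1 ≤ m) (hF : Fintype.card F = 2 ^ (2 * m + 1)) (N : Nrm h2 hS hSdef M)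
    {a b : F} (hab : uQ h2 hS hSdef a b ∈ M) : a ∈ N.subfield hm hF := by
  by_cases ha : a = 0
  · rw [ha]; exact zero_mem _
  · have hSa : S a ≠ 0 := by simpa using ha
    have h1 := M.mul_mem hab hab
    rw [uQ_mul] at h1
    have e1 : a + a = 0 := by linear_combination a * h2
    have e2 : b + b + S a * a = S a * a := by linear_combination b * h2
    rw [e1, e2] at h1
    have hν : S a * a ∈ N.subfield hm hF := h1
    have h3 : S (S a * a) / (S a * a) ∈ N.subfield hm hF := div_mem (N.S_mem hm hF hν) hν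
    have e3 : S (S a * a) / (S a * a) = a := by
      rw [map_mul, hS]
      field_simp
    rwa [e3] at h3

theorem uQ_smul_zero (a b : F) :
    uQ h2 hS hSdef a b • ptAff (m := m) hSdef 0 0 = ptAff hSdef a b := by
  rw [uQ_smul_ptAff]
  congr 1
  · ring
  · ring

/-- there are at least two involutions at `∞` -/
theorem Nrm.one_lt_card_J (N : Nrm h2 hS hSdef M) : 1 < Nat.card (Jset M (ptInf F m)) := by
  obtain ⟨b, hb0, hb1, hbM⟩ := N.two
  have : Nontrivial (Jset M (ptInf F m)) :=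
    ⟨⟨⟨_, mem_Jset_uQ one_ne_zero N.one⟩, ⟨_, mem_Jset_uQ hb0 hbM⟩, by
      intro h
      have := congrArg Subtype.val h
      exact hb1 (uQ_inj h2 hS hSdef this).2.symm⟩⟩
  exact Finite.one_lt_card_iff_nontrivial.2 this

/-- every point other than `∞` fixed by an involution of `M` lies in the orbit of `0` under `M ∩ Q` -/
theorem Nrm.orbit_zero (hm : 1 ≤ m) (hF : Fintype.card F = 2 ^ (2 * m + 1)) (N : Nrm h2 hS hSdef M)
    {ε : Cfsg.suzukiOvoid F m} (hε : ε ≠ ptInf F m) {t : Cfsg.Sz F m} (ht : t ∈ Jset M ε) :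
    ∃ a b : F, uQ h2 hS hSdef a b ∈ M ∧ ε = ptAff hSdef a b := by
  have hU := ufix_Sz hm hF
  have hP := sylAt_Qsub hm hF h2 hS hSdef
  obtain ⟨t₀, ht₀⟩ := N.zero_mem_J
  have hne0 : ptInf F m ≠ ptAff hSdef 0 0 := (ptAff_ne_ptInf hSdef 0 0).symm
  have hs₀ : uQ h2 hS hSdef 0 1 ∈ Jset M (ptInf F m) := mem_Jset_uQ one_ne_zero N.one
  -- a non-identity element of `M` fixing `∞` and `ε`
  obtain ⟨hcard, -⟩ := hU.stabIn_eq_mul hP (N.nf hm hF) (Ne.symm hε) hs₀ ht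
  have h1 : 1 < Nat.card (stabIn₂ M (ptInf F m) ε) := by rw [hcard]; exact N.one_lt_card_J
  obtain ⟨y, hy, hy1⟩ : ∃ y ∈ stabIn₂ M (ptInf F m) ε, y ≠ 1 := by
    have := (Subgroup.one_lt_card_iff_ne_bot _).1 h1
    exact (Subgroup.ne_bot_iff_exists_ne_one).1 this |>.elim fun y hy => ⟨y, y.2, fun h => hy (Subtype.ext h)⟩
  obtain ⟨hyM, hyI, hyε⟩ := mem_stabIn₂.1 hy
  -- decompose `y`
  obtain ⟨-, hdec⟩ := hU.stabIn_eq_mul hP (N.nf hm hF) hne0 hs₀ ht₀
  obtain ⟨k, hk, u, hu, hyku⟩ := hdec y (mem_stabIn.2 ⟨hyM, hyI⟩)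
  obtain ⟨hkM, hk1, hk0⟩ := mem_stabIn₂.1 hk
  obtain ⟨τ, hτ⟩ := fix_two_eq_hQ hm hF h2 hS hSdef hk1 hk0
  have huM := (Subgroup.mem_inf.1 hu).1
  have huQ := (Subgroup.mem_inf.1 hu).2
  have hτ1 : τ ≠ 1 := by
    rintro rfl
    rw [hQ_one] at hτ
    rw [hτ, one_mul] at hyku
    rw [hyku] at hy1 hyε
    exact hε (hP.fix_only u huQ hy1 ε hyε)
  -- the commutator map on `M ∩ Q`
  have hnorm : ∀ v ∈ (M ⊓ Qsub h2 hS m : Subgroup (Cfsg.Sz F m)), k * v * k⁻¹ ∈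
      (M ⊓ Qsub h2 hS m : Subgroup (Cfsg.Sz F m)) := by
    intro v hv
    exact Subgroup.mem_inf.2 ⟨M.mul_mem (M.mul_mem hkM (Subgroup.mem_inf.1 hv).1) (M.inv_mem hkM),
      conj_mem_Qsub hm hF h2 hS hSdef hk1 (Subgroup.mem_inf.1 hv).2⟩
  let φ : (M ⊓ Qsub h2 hS m : Subgroup (Cfsg.Sz F m)) → (M ⊓ Qsub h2 hS m : Subgroup (Cfsg.Sz F m)) :=
    fun v => ⟨(v : Cfsg.Sz F m) * (k * (v : Cfsg.Sz F m)⁻¹ * k⁻¹),
      Subgroup.mul_mem _ v.2 (hnorm _ (Subgroup.inv_mem _ v.2))⟩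
  have hφ : Function.Injective φ := by
    intro v v' h
    have e1 : (v : Cfsg.Sz F m) * (k * (v : Cfsg.Sz F m)⁻¹ * k⁻¹)
        = (v' : Cfsg.Sz F m) * (k * (v' : Cfsg.Sz F m)⁻¹ * k⁻¹) := congrArg Subtype.val h
    set z : Cfsg.Sz F m := (v' : Cfsg.Sz F m)⁻¹ * (v : Cfsg.Sz F m) with hz
    have hzQ : z ∈ Qsub h2 hS m :=
      Subgroup.mul_mem _ (Subgroup.inv_mem _ (Subgroup.mem_inf.1 v'.2).2) (Subgroup.mem_inf.1 v.2).2
    have hzk : z * k = k * z := by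
      have e2 : (v : Cfsg.Sz F m) * k * (v : Cfsg.Sz F m)⁻¹
          = (v' : Cfsg.Sz F m) * k * (v' : Cfsg.Sz F m)⁻¹ := by
        have := congrArg (fun x => x * k) e1
        simpa [mul_assoc] using this
      calc z * k = (v' : Cfsg.Sz F m)⁻¹ * ((v : Cfsg.Sz F m) * k * (v : Cfsg.Sz F m)⁻¹) * v := by
            rw [hz]; group
        _ = (v' : Cfsg.Sz F m)⁻¹ * ((v' : Cfsg.Sz F m) * k * (v' : Cfsg.Sz F m)⁻¹) * v := by rw [e2]
        _ = k * z := by rw [hz]; group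
    -- `z` fixes `0`
    have hz0 : hQ hS hSdef τ • (z • ptAff hSdef 0 0) = z • ptAff hSdef 0 0 := by
      rw [← hτ, ← mul_smul, ← hzk, mul_smul, hk0]
    have hz1 : z = 1 := by
      by_contra hz1
      rcases hQ_fixed h2 hS hSdef hτ1 _ hz0 with h | h
      · have h3 : z • ptAff hSdef 0 0 = z • ptInf F m := by rw [h, hP.fix z hzQ]
        exact hne0 (MulAction.injective z h3).symm
      · exact hne0 (hP.fix_only z hzQ hz1 _ h).symm
    apply Subtype.ext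
    have := inv_mul_eq_one.1 hz1
    exact this.symm
  have hφs : Function.Surjective φ := Finite.injective_iff_surjective.1 hφ
  obtain ⟨v, hv⟩ := hφs ⟨k * u * k⁻¹, hnorm u hu⟩
  have hv' : (v : Cfsg.Sz F m) * (k * (v : Cfsg.Sz F m)⁻¹ * k⁻¹) = k * u * k⁻¹ :=
    congrArg Subtype.val hv
  have hyv : y = (v : Cfsg.Sz F m) * k * (v : Cfsg.Sz F m)⁻¹ := by
    rw [hyku]
    calc k * u = (k * u * k⁻¹) * k := by group
      _ = (v : Cfsg.Sz F m) * (k * (v : Cfsg.Sz F m)⁻¹ * k⁻¹) * k := by rw [hv']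
      _ = (v : Cfsg.Sz F m) * k * (v : Cfsg.Sz F m)⁻¹ := by group
  have hyfix : y • ((v : Cfsg.Sz F m) • ptAff hSdef 0 0) = (v : Cfsg.Sz F m) • ptAff hSdef 0 0 := by
    rw [hyv, mul_smul, mul_smul, inv_smul_smul, hk0]
  have hvQ := (Subgroup.mem_inf.1 v.2).2
  have hvI : (v : Cfsg.Sz F m) • ptAff hSdef 0 0 ≠ ptInf F m := by
    intro h
    have h3 : (v : Cfsg.Sz F m) • ptAff hSdef 0 0 = (v : Cfsg.Sz F m) • ptInf F m := by
      rw [h, hP.fix _ hvQ]
    exact hne0 (MulAction.injective _ h3).symm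
  have hεv : ε = (v : Cfsg.Sz F m) • ptAff hSdef 0 0 := by
    by_contra hcon
    exact hy1 (three_pt_trivial hm hF h2 hS hSdef y (Ne.symm hε) hcon (Ne.symm hvI) hyI hyε hyfix)
  obtain ⟨a, b, hab⟩ := exists_of_mem_Qsub h2 hS hSdef hvQ
  refine ⟨a, b, ?_, ?_⟩
  · rw [← hab]; exact (Subgroup.mem_inf.1 v.2).1
  · rw [hεv, hab, uQ_smul_zero]

/-- the image under `M` of a point fixed by an involution of `M` is fixed by an involution of `M` -/
theorem Jset_smul {g t : Cfsg.Sz F m} {δ : Cfsg.suzukiOvoid F m} (hg : g ∈ M) (ht : t ∈ Jset M δ) :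
    g * t * g⁻¹ ∈ Jset M (g • δ) :=
  ⟨M.mul_mem (M.mul_mem hg ht.1) (M.inv_mem hg), ht.2.1.conj g, fix_conj ht.2.2⟩

/-- `M ∩ Q` is not central -/
theorem Nrm.exists_fst_ne_zero (hm : 1 ≤ m) (hF : Fintype.card F = 2 ^ (2 * m + 1))
    (N : Nrm h2 hS hSdef M) : ∃ a b : F, a ≠ 0 ∧ uQ h2 hS hSdef a b ∈ M := by
  have hU := ufix_Sz hm hF
  obtain ⟨t₀, ht₀⟩ := N.zero_mem_J
  have hne0 : ptInf F m ≠ ptAff hSdef 0 0 := (ptAff_ne_ptInf hSdef 0 0).symm
  have hs₀ : uQ h2 hS hSdef 0 1 ∈ Jset M (ptInf F m) := mem_Jset_uQ one_ne_zero N.one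
  obtain ⟨r, hrM, -, hrI, hr0, -⟩ := hU.exists_swap hne0 hs₀ ht₀
  -- `r = w h(t)`
  have h1 : (wQ h2 hS hSdef * r) • ptInf F m = ptInf F m := by
    rw [mul_smul, hrI, wQ_smul_ptAff_zero]
  have h0 : (wQ h2 hS hSdef * r) • ptAff hSdef 0 0 = ptAff hSdef 0 0 := by
    rw [mul_smul, hr0, wQ_smul_ptInf]
  obtain ⟨t, ht⟩ := fix_two_eq_hQ hm hF h2 hS hSdef h1 h0
  have hr : r = wQ h2 hS hSdef * hQ hS hSdef t := by
    rw [← ht, ← mul_assoc, wQ_involution, one_mul]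
  have ht0 : (t : F) ≠ 0 := t.ne_zero
  have hSt0 : S (t : F) ≠ 0 := by simp
  set μ : F := S (t : F) ^ 2 * (t : F) ^ 2 with hμ
  have hμ0 : μ ≠ 0 := mul_ne_zero (pow_ne_zero 2 hSt0) (pow_ne_zero 2 ht0)
  have hSμ0 : S μ ≠ 0 := by simpa using hμ0
  have hsf : sf S 0 μ = S μ := by simp [sf]
  have hp : r • ptAff hSdef 0 1 = ptAff hSdef (μ / S μ) 0 := by
    rw [hr, mul_smul, hQ_smul_ptAff, mul_zero, mul_one, wQ_smul_ptAff h2 hS hSdef (by rw [hsf]; exact hSμ0),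
      hsf, zero_div]
  -- an involution of `M` fixing this point
  have hJ1 : uQ h2 hS hSdef 0 1 * t₀ * (uQ h2 hS hSdef 0 1)⁻¹ ∈ Jset M (ptAff hSdef 0 1) := by
    have := Jset_smul N.one ht₀
    rwa [uQ_smul_zero] at this
  have hJ2 := Jset_smul hrM hJ1
  rw [hp] at hJ2
  obtain ⟨a, b, hab, hpt⟩ := N.orbit_zero hm hF (ptAff_ne_ptInf hSdef _ _) hJ2
  obtain ⟨e1, -⟩ := ptAff_inj hSdef hpt
  refine ⟨a, b, ?_, hab⟩
  rw [← e1]
  exact div_ne_zero hμ0 hSμ0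

/-- every element of the subfield is a first coordinate of `M ∩ Q` -/
theorem Nrm.exists_snd (hm : 1 ≤ m) (hF : Fintype.card F = 2 ^ (2 * m + 1)) (N : Nrm h2 hS hSdef M)
    {a : F} (ha : a ∈ N.subfield hm hF) : ∃ b : F, uQ h2 hS hSdef a b ∈ M := by
  by_cases ha0 : a = 0
  · exact ⟨0, by rw [ha0, uQ_zero]; exact M.one_mem⟩
  · obtain ⟨a₀, b₀, ha₀, hab₀⟩ := N.exists_fst_ne_zero hm hF
    have ha₀B := N.fst_mem hm hF hab₀
    have hc : a / a₀ ∈ N.subfield hm hF := div_mem ha ha₀B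
    obtain ⟨t, ht, htc⟩ := N.exists_torus hm hF hc (div_ne_zero ha0 ha₀)
    have := M.mul_mem (M.mul_mem ht hab₀) (M.inv_mem ht)
    rw [hQ_conj_uQ, htc, div_mul_cancel₀ a ha₀] at this
    exact ⟨_, this⟩

/-- the second coordinates of `M ∩ Q` lie in the subfield -/
theorem Nrm.snd_mem (hm : 1 ≤ m) (hF : Fintype.card F = 2 ^ (2 * m + 1)) (N : Nrm h2 hS hSdef M)
    {a b : F} (hab : uQ h2 hS hSdef a b ∈ M) : b ∈ N.subfield hm hF := by
  have ha := N.fst_mem hm hF hab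
  obtain ⟨c, hc0, hc1, hcM⟩ := N.two
  have hcB : c ∈ N.subfield hm hF := hcM
  have hc1B : 1 + c ∈ N.subfield hm hF := add_mem (one_mem _) hcB
  have hc10 : 1 + c ≠ 0 := by
    intro h
    apply hc1
    linear_combination h - h2
  obtain ⟨t, ht, htc⟩ := N.exists_torus hm hF hcB hc0
  obtain ⟨t', ht', htc'⟩ := N.exists_torus hm hF hc1B hc10
  have hμ : ∀ τ : Fˣ, S (τ : F) ^ 2 * (τ : F) ^ 2 = S ((τ : F) ^ 2) * (τ : F) ^ 2 := by
    intro τ; rw [map_pow]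
  have x₁ := M.mul_mem (M.mul_mem ht hab) (M.inv_mem ht)
  rw [hQ_conj_uQ, hμ, htc] at x₁
  have x₂ := M.mul_mem hab x₁
  rw [uQ_mul] at x₂
  have x₃ := M.mul_mem (M.mul_mem ht' hab) (M.inv_mem ht')
  rw [hQ_conj_uQ, hμ, htc'] at x₃
  have x₄ := M.mul_mem (M.inv_mem x₂) x₃
  have e : (uQ h2 hS hSdef (a + c * a) (b + S c * c * b + S a * (c * a)))⁻¹
      * uQ h2 hS hSdef ((1 + c) * a) (S (1 + c) * (1 + c) * b)
      = uQ (m := m) h2 hS hSdef 0 ((c + S c) * b + S a * (c * a)) := by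
    rw [inv_mul_eq_iff_eq_mul, uQ_mul]
    apply uQ_congr
    · ring
    · rw [map_add, map_one]
      linear_combination (-S a * c * a) * h2
  rw [e] at x₄
  have h3 : (c + S c) * b + S a * (c * a) ∈ N.subfield hm hF := x₄
  have h4 : S a * (c * a) ∈ N.subfield hm hF := mul_mem (N.S_mem hm hF ha) (mul_mem hcB ha)
  have h5 : (c + S c) * b ∈ N.subfield hm hF := by
    have := sub_mem h3 h4
    rwa [add_sub_cancel_right] at this
  have h6 : c + S c ∈ N.subfield hm hF := add_mem hcB (N.S_mem hm hF hcB)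
  have h7 : c + S c ≠ 0 := by
    intro h
    have hSc : S c = c := by linear_combination h - c * h2
    have hcc : c ^ 2 = c := by rw [← hS c, hSc, hSc]
    have : c * (c - 1) = 0 := by linear_combination hcc
    rcases mul_eq_zero.1 this with h | h
    · exact hc0 h
    · exact hc1 (by linear_combination h)
  have h8 : (c + S c)⁻¹ * ((c + S c) * b) ∈ N.subfield hm hF := mul_mem (inv_mem h6) h5
  rwa [inv_mul_cancel_left₀ h7] at h8

/-- `M ∩ Q` consists of the elements with coordinates in the subfield -/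
theorem Nrm.mem_iff (hm : 1 ≤ m) (hF : Fintype.card F = 2 ^ (2 * m + 1)) (N : Nrm h2 hS hSdef M)
    {a b : F} : uQ h2 hS hSdef a b ∈ M ↔ a ∈ N.subfield hm hF ∧ b ∈ N.subfield hm hF := by
  constructor
  · intro h
    exact ⟨N.fst_mem hm hF h, N.snd_mem hm hF h⟩
  · rintro ⟨ha, hb⟩
    obtain ⟨b₁, hb₁⟩ := N.exists_snd hm hF ha
    have hb₁B := N.snd_mem hm hF hb₁
    have h1 : uQ h2 hS hSdef 0 (b + b₁) ∈ M := add_mem hb hb₁B
    have := M.mul_mem hb₁ h1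
    rw [uQ_mul] at this
    have e : uQ (m := m) h2 hS hSdef (a + 0) (b₁ + (b + b₁) + S a * 0) = uQ h2 hS hSdef a b := by
      apply uQ_congr
      · ring
      · linear_combination b₁ * h2
    rwa [e] at this

/-- the sub-ovoid of the points with coordinates in a subfield -/
def subOvoid (hSdef : ∀ z, S z = z ^ 2 ^ (m + 1)) (B : Subfield F) (p : Cfsg.suzukiOvoid F m) : Prop :=
  p = ptInf F m ∨ ∃ a ∈ B, ∃ b ∈ B, p = ptAff hSdef a b

/-- `M` preserves the sub-ovoid -/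
theorem Nrm.smul_subOvoid (hm : 1 ≤ m) (hF : Fintype.card F = 2 ^ (2 * m + 1))
    (N : Nrm h2 hS hSdef M) {g : Cfsg.Sz F m} (hg : g ∈ M) {p : Cfsg.suzukiOvoid F m}
    (hp : subOvoid hSdef (N.subfield hm hF) p) : subOvoid hSdef (N.subfield hm hF) (g • p) := by
  -- `p` is fixed by an involution of `M`
  have hJ : ∃ t, t ∈ Jset M p := by
    rcases hp with rfl | ⟨a, ha, b, hb, rfl⟩
    · exact ⟨_, mem_Jset_uQ one_ne_zero N.one⟩
    · obtain ⟨t₀, ht₀⟩ := N.zero_mem_J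
      have := Jset_smul ((N.mem_iff hm hF).2 ⟨ha, hb⟩) ht₀
      rw [uQ_smul_zero] at this
      exact ⟨_, this⟩
  obtain ⟨t, ht⟩ := hJ
  by_cases h : g • p = ptInf F m
  · exact Or.inl h
  · right
    obtain ⟨a, b, hab, hpt⟩ := N.orbit_zero hm hF h (Jset_smul hg ht)
    obtain ⟨ha, hb⟩ := (N.mem_iff hm hF).1 hab
    exact ⟨a, ha, b, hb, hpt⟩

/-- the subfield is proper when `M` is -/
theorem Nrm.subfield_ne_top (hm : 1 ≤ m) (hF : Fintype.card F = 2 ^ (2 * m + 1))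
    (N : Nrm h2 hS hSdef M) (hM : M ≠ ⊤) : N.subfield hm hF ≠ ⊤ := by
  intro htop
  have hQM : Qsub h2 hS m ≤ M := by
    intro q hq
    obtain ⟨a, b, rfl⟩ := exists_of_mem_Qsub h2 hS hSdef hq
    rw [N.mem_iff hm hF, htop]
    exact ⟨Subfield.mem_top _, Subfield.mem_top _⟩
  rcases overgroup_Q hm hF h2 hS hSdef M hQM with h | h
  · obtain ⟨g, hgM, hg⟩ := N.nf hm hF (ptInf F m)
    exact hg (h g hgM)
  · exact hM h

end CaseTwo

end Cfsg.Agent.Helper37SzSub
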