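import Mathlib
import Cfsg.Agent.Lib.Helper37_SzSubC

/-!
# Subgroups of the Suzuki groups, part D: the stabiliser of a sub-ovoid (helper37)

An element of the Suzuki group preserving the sub-ovoid of the points with coordinates in a subfield `B` lies
in every subgroup containing the standard generators with parameters in `B`.
-/

set_option autoImplicit false
open Cfsg

namespace Cfsg.Agent.Helper37SzSub

open Cfsg.Agent.Helper37Sz Cfsg.Agent.Lib.Helper6_SzCent Cfsg.Agent.Lib.Helper6_SzFixity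
open Cfsg.Agent.Lib.Helper6_SzSubNorm
open Cfsg.Agent.S0335 (sf sf_aniso)

section Stab

variable {F : Type*} [Field F] [Fintype F] {S : F →+* F} {m : ℕ}
variable {h2 : (2 : F) = 0} {hS : ∀ z, S (S z) = z ^ 2} {hSdef : ∀ z, S z = z ^ 2 ^ (m + 1)}

theorem S_mem_subfield (hSdef : ∀ z, S z = z ^ 2 ^ (m + 1)) {B : Subfield F} {x : F} (hx : x ∈ B) :
    S x ∈ B := by
  rw [hSdef]; exact pow_mem hx _

theorem sqrt_mem_subfield (hF : Fintype.card F = 2 ^ (2 * m + 1)) {B : Subfield F} {x : F}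
    (hx : x ^ 2 ∈ B) : x ∈ B := by
  have h1 : (x ^ 2) ^ 2 ^ (2 * m) = x := by
    rw [← pow_mul, ← pow_succ', ← hF, FiniteField.pow_card]
  rw [← h1]
  exact pow_mem hx _

/-- unipotent elements with parameters in `B` preserve the sub-ovoid -/
theorem uQ_subOvoid {B : Subfield F} {a b : F} (ha : a ∈ B) (hb : b ∈ B)
    {p : Cfsg.suzukiOvoid F m} (hp : subOvoid hSdef B p) :
    subOvoid hSdef B (uQ h2 hS hSdef a b • p) := by
  rcases hp with rfl | ⟨x, hx, y, hy, rfl⟩
  · left; exact uQ_smul_ptInf h2 hS hSdef a b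
  · right
    rw [uQ_smul_ptAff]
    exact ⟨_, add_mem hx ha, _, add_mem (add_mem hy hb) (mul_mem (S_mem_subfield hSdef ha) hx), rfl⟩

/-- the inversion preserves the sub-ovoid -/
theorem wQ_subOvoid {B : Subfield F} {p : Cfsg.suzukiOvoid F m} (hp : subOvoid hSdef B p) :
    subOvoid hSdef B (wQ h2 hS hSdef • p) := by
  rcases hp with rfl | ⟨x, hx, y, hy, rfl⟩
  · right
    rw [wQ_smul_ptInf]
    exact ⟨0, zero_mem _, 0, zero_mem _, rfl⟩
  · by_cases hxy : x = 0 ∧ y = 0
    · left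
      rw [hxy.1, hxy.2, wQ_smul_ptAff_zero]
    · right
      have hsf : sf S x y ≠ 0 := fun h => hxy (sf_aniso h2 hS h)
      have hsfB : sf S x y ∈ B := by
        unfold sf
        exact add_mem (add_mem (mul_mem hx hy) (mul_mem (S_mem_subfield hSdef hx) (pow_mem hx 2)))
          (S_mem_subfield hSdef hy)
      rw [wQ_smul_ptAff h2 hS hSdef hsf]
      exact ⟨_, div_mem hy hsfB, _, div_mem hx hsfB, rfl⟩

/-- an element of the stabiliser of `∞` preserving the sub-ovoid has parameters in `B` -/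
theorem params_of_subOvoid (hF : Fintype.card F = 2 ^ (2 * m + 1)) {B : Subfield F} {a b : F} {t : Fˣ}
    (hg : ∀ p : Cfsg.suzukiOvoid F m, subOvoid hSdef B p →
      subOvoid hSdef B ((uQ h2 hS hSdef a b * hQ hS hSdef t) • p)) :
    a ∈ B ∧ b ∈ B ∧ (t : F) ∈ B := by
  have h0 := hg (ptAff hSdef 0 0) (Or.inr ⟨0, zero_mem _, 0, zero_mem _, rfl⟩)
  rw [uQ_hQ_smul_ptAff] at h0
  rcases h0 with h0 | ⟨x, hx, y, hy, h0⟩
  · exact absurd h0 (ptAff_ne_ptInf hSdef _ _)
  obtain ⟨e1, e2⟩ := ptAff_inj hSdef h0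
  have ha : a ∈ B := by
    have : a = x := by rw [← e1]; ring
    rw [this]; exact hx
  have hb : b ∈ B := by
    have : b = y := by rw [← e2]; ring
    rw [this]; exact hy
  refine ⟨ha, hb, ?_⟩
  have h1 := hg (ptAff hSdef 1 0) (Or.inr ⟨1, one_mem _, 0, zero_mem _, rfl⟩)
  rw [uQ_hQ_smul_ptAff] at h1
  rcases h1 with h1 | ⟨x', hx', y', hy', h1⟩
  · exact absurd h1 (ptAff_ne_ptInf hSdef _ _)
  obtain ⟨e3, -⟩ := ptAff_inj hSdef h1
  have ht2 : (t : F) ^ 2 ∈ B := by
    have : (t : F) ^ 2 = x' - a := by rw [← e3]; ring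
    rw [this]; exact sub_mem hx' ha
  exact sqrt_mem_subfield hF ht2

/-- an element preserving the sub-ovoid lies in every subgroup containing the standard generators over `B` -/
theorem mem_of_subOvoid (hm : 1 ≤ m) (hF : Fintype.card F = 2 ^ (2 * m + 1)) {B : Subfield F}
    (T : Subgroup (Cfsg.Sz F m)) (hu : ∀ a ∈ B, ∀ b ∈ B, uQ h2 hS hSdef a b ∈ T)
    (hh : ∀ t : Fˣ, (t : F) ∈ B → hQ hS hSdef t ∈ T) (hw : wQ h2 hS hSdef ∈ T)
    {g : Cfsg.Sz F m}
    (hg : ∀ p : Cfsg.suzukiOvoid F m, subOvoid hSdef B p → subOvoid hSdef B (g • p)) : g ∈ T := by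
  rcases decompQ hm hF h2 hS hSdef g with ⟨a, b, t, rfl⟩ | ⟨a, b, a', b', t, rfl⟩
  · obtain ⟨ha, hb, ht⟩ := params_of_subOvoid hF hg
    exact T.mul_mem (hu a ha b hb) (hh t ht)
  · -- the image of `∞`
    have hI := hg (ptInf F m) (Or.inl rfl)
    have e : (uQ h2 hS hSdef a b * wQ h2 hS hSdef * (uQ h2 hS hSdef a' b' * hQ hS hSdef t)) •
        ptInf F m = ptAff hSdef a b := by
      rw [mul_smul, uQ_hQ_smul_ptInf, mul_smul, wQ_smul_ptInf, uQ_smul_zero]
    rw [e] at hI
    rcases hI with hI | ⟨x, hx, y, hy, hI⟩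
    · exact absurd hI (ptAff_ne_ptInf hSdef _ _)
    obtain ⟨e1, e2⟩ := ptAff_inj hSdef hI
    have ha : a ∈ B := by rw [e1]; exact hx
    have hb : b ∈ B := by rw [e2]; exact hy
    -- the remaining factor preserves the sub-ovoid
    have hinv : (uQ (m := m) h2 hS hSdef a b)⁻¹ = uQ h2 hS hSdef a (b + S a * a) := by
      rw [inv_eq_iff_mul_eq_one, uQ_mul, ← uQ_zero h2 hS hSdef]
      apply uQ_congr
      · linear_combination a * h2
      · linear_combination (b + S a * a) * h2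
    have hg' : ∀ p : Cfsg.suzukiOvoid F m, subOvoid hSdef B p →
        subOvoid hSdef B ((uQ h2 hS hSdef a' b' * hQ hS hSdef t) • p) := by
      intro p hp
      have h1 := hg p hp
      have h3 := uQ_subOvoid (h2 := h2) (hS := hS) ha
        (add_mem hb (mul_mem (S_mem_subfield hSdef ha) ha)) h1
      have h4 := wQ_subOvoid (h2 := h2) (hS := hS) h3
      rw [← hinv, ← mul_smul, ← mul_smul] at h4
      have e3 : wQ h2 hS hSdef * (uQ h2 hS hSdef a b)⁻¹ * (uQ h2 hS hSdef a b * wQ h2 hS hSdef *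
          (uQ h2 hS hSdef a' b' * hQ hS hSdef t)) = uQ h2 hS hSdef a' b' * hQ hS hSdef t := by
        calc wQ h2 hS hSdef * (uQ h2 hS hSdef a b)⁻¹ * (uQ h2 hS hSdef a b * wQ h2 hS hSdef *
            (uQ h2 hS hSdef a' b' * hQ hS hSdef t))
            = (wQ h2 hS hSdef * wQ h2 hS hSdef) * (uQ h2 hS hSdef a' b' * hQ hS hSdef t) := by group
          _ = uQ h2 hS hSdef a' b' * hQ hS hSdef t := by rw [wQ_involution, one_mul]
      rwa [e3] at h4
    obtain ⟨ha', hb', ht⟩ := params_of_subOvoid hF hg'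
    exact T.mul_mem (T.mul_mem (hu a ha b hb) hw) (T.mul_mem (hu a' ha' b' hb') (hh t ht))

end Stab

section Final

variable {F : Type*} [Field F] [Fintype F] {m : ℕ}

open Cfsg.Agent.Lib.Helper6_SzSubfield

/-- Case II, normalised: `M` lies in a subfield subgroup -/
theorem concl_of_nrm (hm : 1 ≤ m) (hF : Fintype.card F = 2 ^ (2 * m + 1))
    {M : Subgroup (Cfsg.Sz F m)} (hM : M ≠ ⊤)
    (N : Nrm (two_eq_zero_of_card hF) (fun z => sgHom_sgHom hF (two_eq_zero_of_card hF) z)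
      (fun z => sgHom_apply m (two_eq_zero_of_card hF) z) M) : Concl M := by
  classical
  have h2F : (2 : F) = 0 := two_eq_zero_of_card hF
  have hSFdef : ∀ z, (sgHom F m h2F) z = z ^ 2 ^ (m + 1) := fun z => sgHom_apply m h2F z
  have hSF : ∀ z, (sgHom F m h2F) ((sgHom F m h2F) z) = z ^ 2 := fun z => sgHom_sgHom hF h2F z
  set B : Subfield F := N.subfield hm hF with hB
  have hBtop : B ≠ ⊤ := N.subfield_ne_top hm hF hM
  -- the cardinality of `B`
  have h2B : (2 : B) = 0 := Subtype.ext (by push_cast; exact h2F)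
  have : CharP B 2 := CharTwo.of_one_ne_zero_of_two_eq_zero one_ne_zero h2B
  obtain ⟨n, -, hn⟩ := FiniteField.card B 2
  set e : ℕ := (n : ℕ) with he
  have he0 : 0 < e := n.pos
  have hcardF : Fintype.card F = Fintype.card B ^ Module.finrank B F := Module.card_eq_pow_finrank
  set d := Module.finrank B F with hd
  rw [hF, hn, ← pow_mul] at hcardF
  have hed : 2 * m + 1 = e * d := Nat.pow_right_injective (le_refl 2) hcardF
  -- `B` has more than two elements
  obtain ⟨c, hc0, hc1, hcM⟩ := N.two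
  have hcard3 : 2 < Fintype.card B := by
    rw [Fintype.two_lt_card_iff]
    refine ⟨0, 1, ⟨c, hcM⟩, zero_ne_one, ?_, ?_⟩
    · intro h; exact hc0 (congrArg Subtype.val h).symm
    · intro h; exact hc1 (congrArg Subtype.val h).symm
  have he2 : 2 ≤ e := by
    by_contra hlt
    have : e = 1 := by omega
    rw [hn, this] at hcard3
    norm_num at hcard3
  -- `e` is odd
  obtain ⟨k, hk | hk⟩ := Nat.even_or_odd' e
  · exfalso
    have : 2 * m + 1 = 2 * (k * d) := by rw [hed, hk]; ring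
    omega
  have hk1 : 1 ≤ k := by omega
  have hdiv : 2 * k + 1 ∣ 2 * m + 1 := ⟨d, by rw [hed, hk]⟩
  have hkm : k < m := by
    have hle : e ≤ 2 * m + 1 := Nat.le_of_dvd (by omega) (hk ▸ hdiv)
    have hne : e ≠ 2 * m + 1 := by
      intro h
      apply hBtop
      have hcard : Fintype.card B = Fintype.card F := by rw [hn, hF, h]
      have hbij : Function.Bijective B.subtype :=
        (Fintype.bijective_iff_injective_and_card _).2 ⟨Subtype.val_injective, hcard⟩
      rw [eq_top_iff]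
      intro x _
      obtain ⟨y, hy⟩ := hbij.2 x
      rw [← hy]
      exact y.2
    omega
  -- the abstract field
  have : Fact (Nat.Prime 2) := ⟨Nat.prime_two⟩
  let K : Type := GaloisField 2 e
  let instK : Fintype K := Fintype.ofFinite K
  have hK : Fintype.card K = 2 ^ (2 * k + 1) := by
    rw [← hk, ← Nat.card_eq_fintype_card]
    exact GaloisField.card 2 e (by omega)
  have hKB : Fintype.card K = Fintype.card B := by rw [hK, hn, hk]
  let ι₀ : K ≃+* B := FiniteField.ringEquivOfCardEq hKB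
  let ι : K →+* F := B.subtype.comp ι₀.toRingHom
  have hι : ∀ x : K, ι x ∈ B := fun x => (ι₀ x).2
  have hιs : ∀ b ∈ B, ∃ x : K, ι x = b := by
    intro b hb
    refine ⟨ι₀.symm ⟨b, hb⟩, ?_⟩
    show ((ι₀ (ι₀.symm ⟨b, hb⟩) : B) : F) = b
    rw [RingEquiv.apply_symm_apply]
  have h2K : (2 : K) = 0 := two_eq_zero_of_card hK
  have hSKdef : ∀ z, (sgHom K k h2K) z = z ^ 2 ^ (k + 1) := fun z => sgHom_apply k h2K z
  have hSK : ∀ z, (sgHom K k h2K) ((sgHom K k h2K) z) = z ^ 2 := fun z => sgHom_sgHom hK h2K z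
  have hc : ∀ x, ι (sgHom K k h2K x) = sgHom F m h2F (ι x) := sg_compat hF hK hdiv ι
  have hstd_u : ∀ a b : K, szMap hm hk1 hF hK hdiv ι (uQ h2K hSK hSKdef a b)
      = uQ h2F hSF hSFdef (ι a) (ι b) := by
    intro a b
    apply Subtype.ext
    rw [szMap_coe]
    exact map_uSL ι hc a b
  have hstd_h : ∀ t : Kˣ, szMap hm hk1 hF hK hdiv ι (hQ hSK hSKdef t)
      = hQ hSF hSFdef (Units.map (ι : K →* F) t) := by
    intro t
    apply Subtype.ext
    rw [szMap_coe]
    exact map_hSL ι hc t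
  have hstd_w : szMap hm hk1 hF hK hdiv ι (wQ h2K hSK hSKdef) = wQ h2F hSF hSFdef := by
    apply Subtype.ext
    rw [szMap_coe]
    exact map_wSL ι
  right; right
  refine ⟨K, inferInstance, instK, k, hk1, hkm, hK, hdiv, (szMap hm hk1 hF hK hdiv ι).range,
    ⟨(MonoidHom.ofInjective (szMap_injective hm hk1 hF hK hdiv ι)).symm⟩, ?_⟩
  intro g hg
  apply mem_of_subOvoid (h2 := h2F) (hS := hSF) (hSdef := hSFdef) hm hF (B := B)
  · intro a ha b hb
    obtain ⟨x, rfl⟩ := hιs a ha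
    obtain ⟨y, rfl⟩ := hιs b hb
    exact ⟨_, hstd_u x y⟩
  · intro t ht
    obtain ⟨x, hx⟩ := hιs _ ht
    have hx0 : x ≠ 0 := by
      rintro rfl
      rw [map_zero] at hx
      exact t.ne_zero hx.symm
    refine ⟨hQ hSK hSKdef (Units.mk0 x hx0), ?_⟩
    rw [hstd_h]
    congr 1
    apply Units.ext
    exact hx
  · exact ⟨_, hstd_w⟩
  · intro p hp
    exact N.smul_subOvoid hm hF hg hp

end Final

end Cfsg.Agent.Helper37SzSub
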