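import Mathlib
import Cfsg.Agent.Lib.Helper37_SzSubD

/-!
# Subgroups of the Suzuki groups, part E: Suzuki's theorem (helper37)

Every proper subgroup of `Sz(q)` normalises a Sylow `2`-subgroup or a torus, or lies in a subfield subgroup.
-/

set_option autoImplicit false
open Cfsg

namespace Cfsg.Agent.Helper37SzSub

open Cfsg.Agent.Helper37Sz Cfsg.Agent.Lib.Helper6_SzCent Cfsg.Agent.Lib.Helper6_SzFixity
open Cfsg.Agent.Lib.Helper6_SzSubNorm

section Main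

variable {F : Type*} [Field F] [Fintype F] {m : ℕ}

theorem cj_ne_top {G : Type*} [Group G] {g : G} {M : Subgroup G} (hM : M ≠ ⊤) : cj g M ≠ ⊤ := by
  intro h
  apply hM
  rw [eq_top_iff]
  intro x _
  have : g * x * g⁻¹ ∈ cj g M := by rw [h]; exact Subgroup.mem_top _
  rw [mem_cj] at this
  have e : g⁻¹ * (g * x * g⁻¹) * g = x := by group
  rwa [e] at this

/-- Case II: two distinct involutions of `M` with the same fixed point -/
theorem concl_of_two_inv (hm : 1 ≤ m) (hF : Fintype.card F = 2 ^ (2 * m + 1))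
    {M : Subgroup (Cfsg.Sz F m)} (hM : M ≠ ⊤)
    (hnf : ∀ δ : Cfsg.suzukiOvoid F m, ∃ g ∈ M, g • δ ≠ δ) {δ : Cfsg.suzukiOvoid F m}
    {s t : Cfsg.Sz F m} (hsM : s ∈ M) (htM : t ∈ M) (hs : IsInv s) (ht : IsInv t)
    (hsδ : s • δ = δ) (htδ : t • δ = δ) (hst : s ≠ t) : Concl M := by
  have h2 : (2 : F) = 0 := two_eq_zero_of_card hF
  have hSdef : ∀ z, (sgHom F m h2) z = z ^ 2 ^ (m + 1) := fun z => sgHom_apply m h2 z
  have hS : ∀ z, (sgHom F m h2) ((sgHom F m h2) z) = z ^ 2 := fun z => sgHom_sgHom hF h2 z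
  have hP := sylAt_Qsub hm hF h2 hS hSdef
  -- a second point
  obtain ⟨g, hgM, hg⟩ := hnf δ
  obtain ⟨k₁, hk₁δ, hk₁ε⟩ := exists_smul_pair h2 hS hSdef (Ne.symm hg)
  -- the first conjugation
  have hs₁ : k₁ * s * k₁⁻¹ ∈ Qsub h2 hS m := by
    apply hP.inv_mem _ (hs.conj k₁)
    have := fix_conj (g := k₁) hsδ
    rwa [hk₁δ] at this
  have ht₁ : k₁ * t * k₁⁻¹ ∈ Qsub h2 hS m := by
    apply hP.inv_mem _ (ht.conj k₁)
    have := fix_conj (g := k₁) htδ
    rwa [hk₁δ] at this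
  obtain ⟨b₁, hb₁, hsb⟩ := inv_Qsub_form h2 hS hSdef hs₁ (hs.conj k₁)
  obtain ⟨b₂, hb₂, htb⟩ := inv_Qsub_form h2 hS hSdef ht₁ (ht.conj k₁)
  have hb12 : b₁ ≠ b₂ := by
    rintro rfl
    apply hst
    have : k₁ * s * k₁⁻¹ = k₁ * t * k₁⁻¹ := by rw [hsb, htb]
    exact mul_left_cancel (mul_right_cancel this)
  -- the second conjugation
  obtain ⟨ν, hν⟩ := Cfsg.Agent.Lib.Helper6_SzSubAlg.exists_mult (k := m) hF hS (inv_ne_zero hb₁)
  apply concl_of_cj k₁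
  apply concl_of_cj (hQ hS hSdef ν)
  apply concl_of_nrm hm hF (cj_ne_top (cj_ne_top hM))
  have hmem : ∀ x ∈ M, hQ hS hSdef ν * (k₁ * x * k₁⁻¹) * (hQ hS hSdef ν)⁻¹
      ∈ cj (hQ hS hSdef ν) (cj k₁ M) := fun x hx => conj_mem_cj (conj_mem_cj hx)
  refine ⟨?_, ?_, ?_⟩
  · have := hmem s hsM
    rw [hsb, hQ_conj_uQ, mul_zero, hν, inv_mul_cancel₀ hb₁] at this
    exact this
  · refine ⟨b₁⁻¹ * b₂, mul_ne_zero (inv_ne_zero hb₁) hb₂, ?_, ?_⟩
    · intro h
      apply hb12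
      field_simp at h
      exact h.symm
    · have := hmem t htM
      rw [htb, hQ_conj_uQ, mul_zero, hν] at this
      exact this
  · refine ⟨_, hmem _ (M.mul_mem (M.mul_mem hgM hsM) (M.inv_mem hgM)), ((hs.conj g).conj k₁).conj _, ?_⟩
    have h1 : (g * s * g⁻¹) • (g • δ) = g • δ := fix_conj hsδ
    have h3 : (k₁ * (g * s * g⁻¹) * k₁⁻¹) • ptAff hSdef 0 0 = ptAff hSdef 0 0 := by
      have := fix_conj (g := k₁) h1
      rwa [hk₁ε] at this
    have h4 := fix_conj (g := hQ hS hSdef ν) h3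
    rw [hQ_smul_ptAff, mul_zero, mul_zero] at h4
    exact h4

/-- **Suzuki's theorem** on the subgroups of the Suzuki groups -/
theorem suzuki_subgroups (hm : 1 ≤ m) (hF : Fintype.card F = 2 ^ (2 * m + 1))
    (M : Subgroup (Cfsg.Sz F m)) (hM : M ≠ ⊤) : Concl M := by
  by_cases hfix : ∃ δ : Cfsg.suzukiOvoid F m, ∀ g ∈ M, g • δ = δ
  · obtain ⟨δ, hδ⟩ := hfix
    exact concl_of_fix hm hF hδ
  push Not at hfix
  by_cases h2c : 2 ∣ Nat.card M
  · by_cases huniq : ∀ δ : Cfsg.suzukiOvoid F m, ∀ s ∈ M, ∀ t ∈ M, IsInv s → IsInv t → s • δ = δ →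
        t • δ = δ → s = t
    · exact concl_of_unique_inv hm hF h2c huniq
    · push Not at huniq
      obtain ⟨δ, s, hsM, t, htM, hs, ht, hsδ, htδ, hst⟩ := huniq
      exact concl_of_two_inv hm hF hM hfix hsM htM hs ht hsδ htδ hst
  · have hne : M ≠ ⊥ := by
      rintro rfl
      obtain ⟨g, hg, hgδ⟩ := hfix (ptInf F m)
      rw [Subgroup.mem_bot] at hg
      rw [hg, one_smul] at hgδ
      exact hgδ rfl
    exact concl_of_normal_odd hm hF hne h2c Subgroup.le_normalizer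

end Main

end Cfsg.Agent.Helper37SzSub
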