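import Cfsg.Agent.Lib.Helper15_Brauer
import Cfsg.Agent.Lib.Helper17_TIPrime
import Cfsg.Agent.Lib.Helper25_VirtNorm
import Cfsg.Agent.Lib.Helper79_CharVals

/-!
# Class functions glued from a system of T.I. subgroups (helper37)

`G` a finite group, `K i` a family of T.I. subgroups no two of which share a non-identity element up
to conjugacy, such that every elementary subgroup is conjugate into some `K i`.

* `spread K φ` : the class function `|K| / |N(K)| • Ind_K^G φ`;
* `fn S c ψ` : the class function with value `c` at `1` and `ψ i` on the conjugates of `K i`;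
* `fn_of_mem`, `classInner_fn`, `isGeneralizedCharacter_fn`, `isIrrCharacter_fn`.
-/

set_option autoImplicit false
set_option linter.unusedSectionVars false

namespace Cfsg.Agent.Helper37TI

open scoped ComplexConjugate Classical
open Cfsg Cfsg.Agent.Lib.Helper75_Induced

variable {G : Type*} [Group G] [Fintype G]

/-- `|K| / |N(K)|` times the function induced from `φ` restricted to `K` -/
noncomputable def spread (K : Subgroup G) (φ : G → ℂ) : G → ℂ := fun g =>
  ((Nat.card K : ℂ) / (Nat.card (Subgroup.normalizer (K : Set G)) : ℂ)) *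
    Cfsg.indFun K (fun k : K => φ k) g

theorem isClassFunction_spread (K : Subgroup G) (φ : G → ℂ) :
    IsClassFunction G (spread K φ) := by
  intro g h
  unfold spread
  rw [isClassFunction_indFun K _ g h]

theorem spread_eq_zero (K : Subgroup G) (φ : G → ℂ) (g : G)
    (h : ∀ x : G, x⁻¹ * g * x ∈ K → φ (x⁻¹ * g * x) = 0) : spread K φ g = 0 := by
  unfold spread
  rw [indFun_apply]
  have : ∑ x : G, Cfsg.extendByZero K (fun k : K => φ k) (x⁻¹ * g * x) = 0 := by
    apply Finset.sum_eq_zero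
    intro x _
    by_cases hx : x⁻¹ * g * x ∈ K
    · rw [extendByZero_of_mem K _ hx]
      exact h x hx
    · exact extendByZero_of_not_mem K _ hx
  rw [this]
  simp

theorem spread_of_mem (K : Subgroup G) (φ : G → ℂ)
    (hTI : ∀ g : G, ∀ k ∈ K, k ≠ 1 → g * k * g⁻¹ ∈ K → g ∈ Subgroup.normalizer (K : Set G))
    (hinv : ∀ n ∈ Subgroup.normalizer (K : Set G), ∀ k ∈ K, φ (n * k * n⁻¹) = φ k)
    {k : G} (hk : k ∈ K) (hk1 : k ≠ 1) : spread K φ k = φ k := by
  unfold spread
  have h1 := Cfsg.Agent.Lib.Helper17_TIPrime.indFun_apply_of_TI K hTI (fun k : K => φ k)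
    ⟨k, hk⟩ (fun h => hk1 (congrArg Subtype.val h))
  have h2 : Cfsg.indFun K (fun k : K => φ k) k = Cfsg.indFun K (fun k : K => φ k)
      ((⟨k, hk⟩ : K) : G) := rfl
  rw [h2, h1]
  have h3 : ∀ n : Subgroup.normalizer (K : Set G),
      φ ((K.normalizerMonoidHom n ⟨k, hk⟩ : K) : G) = φ k := by
    intro n
    have := hinv n n.2 k hk
    simpa using this
  simp only [h3, Finset.sum_const, Finset.card_univ, nsmul_eq_mul]
  have hK : (Nat.card K : ℂ) ≠ 0 := by
    rw [Nat.cast_ne_zero]; exact Nat.card_pos.ne'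
  have hN : (Nat.card (Subgroup.normalizer (K : Set G)) : ℂ) ≠ 0 := by
    rw [Nat.cast_ne_zero]; exact Nat.card_pos.ne'
  rw [← Nat.card_eq_fintype_card]
  field_simp

/-- Frobenius reciprocity for `spread` -/
theorem sum_spread_mul (K : Subgroup G) (φ : G → ℂ) (f : G → ℂ) (hf : IsClassFunction G f) :
    ∑ g : G, spread K φ g * conj (f g) =
      ((Nat.card G : ℂ) / (Nat.card (Subgroup.normalizer (K : Set G)) : ℂ)) *
        ∑ k : K, φ k * conj (f k) := by
  have h := frobenius_reciprocity K (fun k : K => φ k) f hf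
  unfold Cfsg.classInner at h
  have hG : (Nat.card G : ℂ) ≠ 0 := by
    rw [Nat.cast_ne_zero]; exact Nat.card_pos.ne'
  have hK : (Nat.card K : ℂ) ≠ 0 := by
    rw [Nat.cast_ne_zero]; exact Nat.card_pos.ne'
  have hN : (Nat.card (Subgroup.normalizer (K : Set G)) : ℂ) ≠ 0 := by
    rw [Nat.cast_ne_zero]; exact Nat.card_pos.ne'
  have h' : ∑ g : G, Cfsg.indFun K (fun k : K => φ k) g * conj (f g) =
      (Nat.card G : ℂ) * ((Nat.card K : ℂ)⁻¹ * ∑ k : K, φ k * conj (f k)) := by
    rw [← h]; field_simp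
  unfold spread
  simp only [mul_assoc]
  rw [← Finset.mul_sum, h']
  field_simp

/-- A system of T.I. subgroups covering the elementary subgroups. -/
structure TISys (G : Type*) [Group G] (ι : Type*) where
  K : ι → Subgroup G
  ti : ∀ (i : ι) (g : G), ∀ k ∈ K i, k ≠ 1 → g * k * g⁻¹ ∈ K i →
    g ∈ Subgroup.normalizer (K i : Set G)
  disj : ∀ i j : ι, i ≠ j → ∀ (g : G), ∀ k ∈ K i, k ≠ 1 → g * k * g⁻¹ ∉ K j
  cover : ∀ (E : Subgroup G) (p : ℕ), p.Prime → IsElementary p E →
    ∃ (i : ι) (g : G), ∀ e ∈ E, g * e * g⁻¹ ∈ K i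

variable {ι : Type*} [Fintype ι] (S : TISys G ι)

/-- the function `ψ` with its value at `1` replaced by `0` -/
noncomputable def mask (φ : G → ℂ) : G → ℂ := fun g => if g = 1 then 0 else φ g

theorem mask_one (φ : G → ℂ) : mask φ 1 = 0 := if_pos rfl

theorem mask_of_ne (φ : G → ℂ) {g : G} (hg : g ≠ 1) : mask φ g = φ g := if_neg hg

/-- the class function with value `c` at `1` and `ψ i` on the conjugates of `K i` -/
noncomputable def fn (c : ℂ) (ψ : ι → G → ℂ) : G → ℂ := fun g =>
  if g = 1 then c else ∑ i, spread (S.K i) (mask (ψ i)) g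

theorem fn_one (c : ℂ) (ψ : ι → G → ℂ) : fn S c ψ 1 = c := if_pos rfl

theorem isClassFunction_fn (c : ℂ) (ψ : ι → G → ℂ) : IsClassFunction G (fn S c ψ) := by
  intro g h
  unfold fn
  have : h * g * h⁻¹ = 1 ↔ g = 1 := by
    constructor
    · intro e
      have : g = h⁻¹ * (h * g * h⁻¹) * h := by group
      rw [this, e]; group
    · rintro rfl; group
  by_cases hg : g = 1
  · rw [if_pos hg, if_pos (this.2 hg)]
  · rw [if_neg hg, if_neg (fun e => hg (this.1 e))]
    apply Finset.sum_congr rfl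
    intro i _
    exact isClassFunction_spread _ _ g h

/-- invariance of the local data under the normalisers -/
def Inv (ψ : ι → G → ℂ) : Prop :=
  ∀ (i : ι), ∀ n ∈ Subgroup.normalizer (S.K i : Set G), ∀ k ∈ S.K i, ψ i (n * k * n⁻¹) = ψ i k

theorem fn_of_mem (c : ℂ) {ψ : ι → G → ℂ} (hinv : Inv S ψ) {i : ι} {k : G} (hk : k ∈ S.K i)
    (hk1 : k ≠ 1) : fn S c ψ k = ψ i k := by
  unfold fn
  rw [if_neg hk1, Finset.sum_eq_single i]
  · rw [spread_of_mem (S.K i) _ (S.ti i) ?_ hk hk1, mask_of_ne _ hk1]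
    intro n hn k' hk'
    have hiff : n * k' * n⁻¹ = 1 ↔ k' = 1 := by
      constructor
      · intro e
        have : k' = n⁻¹ * (n * k' * n⁻¹) * n := by group
        rw [this, e]; group
      · rintro rfl; group
    by_cases h1 : k' = 1
    · rw [h1]; simp [mask_one]
    · rw [mask_of_ne _ h1, mask_of_ne _ (fun e => h1 (hiff.1 e))]
      exact hinv i n hn k' hk'
  · intro j _ hji
    apply spread_eq_zero
    intro x hx
    exfalso
    have := S.disj i j (Ne.symm hji) x⁻¹ k hk hk1
    rw [inv_inv] at this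
    exact this hx
  · intro h
    exact absurd (Finset.mem_univ i) h

theorem fn_eq_of_mem {c : ℂ} {ψ : ι → G → ℂ} (hinv : Inv S ψ) (h1 : ∀ i, ψ i 1 = c) {i : ι}
    {k : G} (hk : k ∈ S.K i) : fn S c ψ k = ψ i k := by
  by_cases hk1 : k = 1
  · rw [hk1, fn_one, h1]
  · exact fn_of_mem S c hinv hk hk1

/-- the inner product of two glued class functions -/
theorem classInner_fn (c c' : ℂ) {ψ ψ' : ι → G → ℂ} (hinv' : Inv S ψ') :
    classInner (fn S c ψ) (fn S c' ψ') = c * conj c' / (Nat.card G : ℂ) +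
      ∑ i, (Nat.card (Subgroup.normalizer (S.K i : Set G)) : ℂ)⁻¹ *
        ∑ k : S.K i, mask (ψ i) k * conj (ψ' i k) := by
  have hG : (Nat.card G : ℂ) ≠ 0 := by
    rw [Nat.cast_ne_zero]; exact Nat.card_pos.ne'
  have key : ∀ g : G, fn S c ψ g * conj (fn S c' ψ' g) =
      (if g = 1 then c * conj c' else 0) +
        ∑ i, spread (S.K i) (mask (ψ i)) g * conj (fn S c' ψ' g) := by
    intro g
    by_cases hg : g = 1
    · subst hg
      rw [fn_one, fn_one, if_pos rfl]
      have : ∀ i, spread (S.K i) (mask (ψ i)) (1 : G) = 0 := by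
        intro i
        apply spread_eq_zero
        intro x _
        have : x⁻¹ * (1 : G) * x = 1 := by group
        rw [this, mask_one]
      simp [this]
    · rw [if_neg hg, zero_add, ← Finset.sum_mul]
      congr 1
      unfold fn
      rw [if_neg hg]
  unfold classInner
  simp only [key]
  rw [Finset.sum_add_distrib, Finset.sum_ite_eq' Finset.univ (1 : G), if_pos (Finset.mem_univ _),
    Finset.sum_comm]
  have h2 : ∀ i, ∑ g : G, spread (S.K i) (mask (ψ i)) g * conj (fn S c' ψ' g) =
      ((Nat.card G : ℂ) / (Nat.card (Subgroup.normalizer (S.K i : Set G)) : ℂ)) *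
        ∑ k : S.K i, mask (ψ i) k * conj (ψ' i k) := by
    intro i
    rw [sum_spread_mul _ _ _ (isClassFunction_fn S c' ψ')]
    congr 1
    apply Finset.sum_congr rfl
    intro k _
    by_cases hk1 : (k : G) = 1
    · rw [hk1, mask_one, zero_mul, zero_mul]
    · rw [fn_of_mem S c' hinv' k.2 hk1]
  simp only [h2]
  rw [mul_add, Finset.mul_sum]
  congr 1
  · field_simp
  · apply Finset.sum_congr rfl
    intro i _
    have hN : (Nat.card (Subgroup.normalizer (S.K i : Set G)) : ℂ) ≠ 0 := by
      rw [Nat.cast_ne_zero]; exact Nat.card_pos.ne'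
    field_simp

omit [Fintype G] in
theorem isGeneralizedCharacter_comp {K : Type*} [Group K] (f : K →* G) {χ : G → ℂ}
    (hχ : IsGeneralizedCharacter G χ) : IsGeneralizedCharacter K (fun k => χ (f k)) := by
  obtain ⟨a, b, ha, hb, rfl⟩ := hχ
  exact ⟨fun k => a (f k), fun k => b (f k),
    Cfsg.Agent.Lib.Helper75_CharArith.isCharacter_comp f ha,
    Cfsg.Agent.Lib.Helper75_CharArith.isCharacter_comp f hb, rfl⟩

/-- **Gluing**: if all the local data are generalized characters, so is the glued function. -/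
theorem isGeneralizedCharacter_fn {c : ℂ} {ψ : ι → G → ℂ} (hinv : Inv S ψ)
    (h1 : ∀ i, ψ i 1 = c)
    (hgen : ∀ i, IsGeneralizedCharacter (S.K i) (fun k : S.K i => ψ i k)) :
    IsGeneralizedCharacter G (fn S c ψ) := by
  apply Cfsg.Agent.Lib.Helper15_Brauer.isGeneralizedCharacter_of_elementary _
    (isClassFunction_fn S c ψ)
  intro E p hp hE
  obtain ⟨i, g, hg⟩ := S.cover E p hp hE
  let f : E →* S.K i :=
    { toFun := fun e => ⟨g * e * g⁻¹, hg e e.2⟩
      map_one' := by
        apply Subtype.ext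
        show g * ((1 : E) : G) * g⁻¹ = 1
        simp
      map_mul' := by
        intro a b
        apply Subtype.ext
        show g * ((a * b : E) : G) * g⁻¹ = (g * a * g⁻¹) * (g * b * g⁻¹)
        rw [Subgroup.coe_mul]; group }
  have h2 := isGeneralizedCharacter_comp f (hgen i)
  have h3 : (fun e : E => fn S c ψ e) = fun e : E => ψ i ((f e : S.K i) : G) := by
    funext e
    have e1 : fn S c ψ (e : G) = fn S c ψ (g * e * g⁻¹) :=
      (isClassFunction_fn S c ψ (e : G) g).symm
    rw [e1, fn_eq_of_mem S hinv h1 (hg e e.2)]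
    rfl
  rw [h3]
  exact h2

/-- **Gluing, irreducible case**. -/
theorem isIrrCharacter_fn {d : ℕ} (hd : 0 < d) {ψ : ι → G → ℂ} (hinv : Inv S ψ)
    (h1 : ∀ i, ψ i 1 = (d : ℂ))
    (hgen : ∀ i, IsGeneralizedCharacter (S.K i) (fun k : S.K i => ψ i k))
    (hnorm : classInner (fn S (d : ℂ) ψ) (fn S (d : ℂ) ψ) = 1) :
    IsIrrCharacter G (fn S (d : ℂ) ψ) := by
  have hg := isGeneralizedCharacter_fn S hinv h1 hgen
  rcases Cfsg.Agent.Lib.Helper25_VirtNorm.norm_one _ hg hnorm with h | h
  · exact h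
  · exfalso
    obtain ⟨n, hn, hn1, -⟩ := Cfsg.Agent.Lib.Helper79_CharVals.irr_degree h
    have : (-(fn S (d : ℂ) ψ)) 1 = -(d : ℂ) := by
      show -(fn S (d : ℂ) ψ 1) = _
      rw [fn_one]
    rw [this] at hn1
    have h4 : ((d + n : ℕ) : ℂ) = 0 := by
      push_cast
      rw [← hn1]; ring
    have h5 : d + n = 0 := by exact_mod_cast h4
    omega

end Cfsg.Agent.Helper37TI
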