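import Mathlib

/-!
# Algebra lemmas for the Laffey–MacHale theorem (three automorphism orbits), helper37.

* `ann_eq_zero` : a commuting family `K` of endomorphisms of a finite module, closed under negation
  and containing `1`, all of whose pointwise annihilators have the same cardinality, acts freely.
* `orderOf_eq_of_roots` : if `X` in an `𝔽_p`-algebra has `X ^ q = 1`, `X ≠ 1`, polynomials in `X`
  have no zero divisors and `X ↦ X ^ k` extends to algebra endomorphisms, then `p` is a primitive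
  root modulo `q`.
* `natCast_eq_zero_of_norms` : the norm trick for a non-cyclic abelian group of fixed-point-free
  automorphisms.
-/

set_option autoImplicit false

namespace Cfsg.Agent.Lib.Helper37_ThreeOrbAlg

open Polynomial

section Ann

variable {R V : Type*} [CommRing R] [AddCommGroup V] [Module R V] [Finite V]

/-- The annihilator of `u` inside the set `K` of endomorphisms. -/
def annSet (K : Set (Module.End R V)) (u : V) : Set (Module.End R V) := {f | f ∈ K ∧ f u = 0}

theorem annSet_finite (K : Set (Module.End R V)) (u : V) : (annSet K u).Finite := by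
  have : Finite (Module.End R V) := Finite.of_injective (fun f : Module.End R V => (f : V → V))
    DFunLike.coe_injective
  exact Set.toFinite _

theorem annSet_subset_of_card (K : Set (Module.End R V))
    (hone : (1 : Module.End R V) ∈ K) (hneg : ∀ f ∈ K, -f ∈ K)
    (hcomm : ∀ f ∈ K, ∀ g ∈ K, f * g = g * f)
    (hcard : ∀ u w : V, u ≠ 0 → w ≠ 0 → (annSet K u).ncard ≤ (annSet K w).ncard)
    (u w : V) (hu : u ≠ 0) (hw : w ≠ 0) : annSet K u = annSet K w := by
  -- inclusion + cardinality gives equality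
  have key : ∀ a b : V, a ≠ 0 → b ≠ 0 → annSet K a ⊆ annSet K b → annSet K a = annSet K b := by
    intro a b ha hb hab
    exact Set.eq_of_subset_of_ncard_le hab (hcard b a hb ha) (annSet_finite K b)
  by_cases hcase : ∃ f ∈ K, ∃ g ∈ K, f u = g w ∧ f u ≠ 0
  · obtain ⟨f, hf, g, hg, hfg, hne⟩ := hcase
    have h1 : annSet K u = annSet K (f u) := by
      apply key u (f u) hu hne
      rintro h ⟨hh, hhu⟩
      refine ⟨hh, ?_⟩
      have : h (f u) = (h * f) u := rfl
      rw [this, hcomm h hh f hf]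
      change f (h u) = 0
      rw [hhu, map_zero]
    have h2 : annSet K w = annSet K (f u) := by
      rw [hfg]
      apply key w (g w) hw (hfg ▸ hne)
      rintro h ⟨hh, hhw⟩
      refine ⟨hh, ?_⟩
      have : h (g w) = (h * g) w := rfl
      rw [this, hcomm h hh g hg]
      change g (h w) = 0
      rw [hhw, map_zero]
    rw [h1, h2]
  · push Not at hcase
    have huw : u + w ≠ 0 := by
      intro h0
      have h1 : (1 : Module.End R V) u = (-1 : Module.End R V) w := by
        simp only [Module.End.one_apply, LinearMap.neg_apply]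
        exact eq_neg_of_add_eq_zero_left h0
      have := hcase 1 hone (-1) (hneg 1 hone) h1
      simp only [Module.End.one_apply] at this
      exact hu this
    have h1 : annSet K (u + w) = annSet K u := by
      apply key (u + w) u huw hu
      rintro h ⟨hh, hhuw⟩
      refine ⟨hh, ?_⟩
      rw [map_add] at hhuw
      have h2 : h u = (-h) w := by
        rw [LinearMap.neg_apply]; exact eq_neg_of_add_eq_zero_left hhuw
      exact hcase h hh (-h) (hneg h hh) h2
    have h2 : annSet K (u + w) = annSet K w := by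
      apply key (u + w) w huw hw
      rintro h ⟨hh, hhuw⟩
      refine ⟨hh, ?_⟩
      rw [map_add] at hhuw
      have h2 : (-h) u = h w := by
        rw [LinearMap.neg_apply]; exact (eq_neg_of_add_eq_zero_right hhuw).symm ▸ (by simp)
      have h3 := hcase (-h) (hneg h hh) h hh h2
      rw [h3] at h2
      exact h2.symm
    rw [← h1, h2]

theorem ann_eq_zero (K : Set (Module.End R V))
    (hone : (1 : Module.End R V) ∈ K) (hneg : ∀ f ∈ K, -f ∈ K)
    (hcomm : ∀ f ∈ K, ∀ g ∈ K, f * g = g * f)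
    (hcard : ∀ u w : V, u ≠ 0 → w ≠ 0 → (annSet K u).ncard ≤ (annSet K w).ncard)
    (f : Module.End R V) (hf : f ∈ K) (u : V) (hu : u ≠ 0) (hfu : f u = 0) : f = 0 := by
  ext w
  by_cases hw : w = 0
  · simp [hw]
  · have := annSet_subset_of_card K hone hneg hcomm hcard u w hu hw
    have hmem : f ∈ annSet K u := ⟨hf, hfu⟩
    rw [this] at hmem
    simpa using hmem.2

end Ann

section Roots


theorem orderOf_eq_of_roots {p q : ℕ} [hp : Fact p.Prime] [hq : Fact q.Prime] (hpq : p ≠ q)
    {E : Type*} [Ring E] [Nontrivial E] [Algebra (ZMod p) E] (x : E) (hxq : x ^ q = 1) (hx1 : x ≠ 1)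
    (hdom : ∀ a b : (ZMod p)[X], aeval x a * aeval x b = 0 → aeval x a = 0 ∨ aeval x b = 0)
    (hpow : ∀ k : ℕ, 0 < k → k < q → ∃ σ : E →ₐ[ZMod p] E, σ x = x ^ k) :
    orderOf (p : ZMod q) = q - 1 := by
  have hint : IsIntegral (ZMod p) x := by
    refine ⟨X ^ q - 1, monic_X_pow_sub_C 1 hq.out.ne_zero, ?_⟩
    simp [hxq]
  set m := minpoly (ZMod p) x with hm
  have hm0 : m ≠ 0 := minpoly.ne_zero hint
  have hmx : aeval x m = 0 := minpoly.aeval _ _
  have hmonic : m.Monic := minpoly.monic hint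
  -- irreducible
  have hirr : Irreducible m := by
    rw [irreducible_iff]
    refine ⟨minpoly.not_isUnit _ _, ?_⟩
    intro a b hab
    have h0 : aeval x a * aeval x b = 0 := by rw [← map_mul, ← hab, hmx]
    have aux : ∀ a b : (ZMod p)[X], m = a * b → aeval x a = 0 → IsUnit b := by
      intro a b hab ha
      obtain ⟨c, hc⟩ := minpoly.dvd (ZMod p) x ha
      rw [← hm] at hc
      have : m * 1 = m * (c * b) := by rw [mul_one, ← mul_assoc, ← hc, ← hab]
      have h1 := mul_left_cancel₀ hm0 this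
      exact IsUnit.of_mul_eq_one c (by rw [mul_comm]; exact h1.symm)
    rcases hdom a b h0 with h | h
    · right; exact aux a b hab h
    · left; exact aux b a (by rw [hab, mul_comm]) h
  have hprime : Prime m := hirr.prime
  -- m ∣ cyclotomic q
  have hdvd : m ∣ cyclotomic q (ZMod p) := by
    have h1 : m ∣ cyclotomic q (ZMod p) * (X - 1) := by
      rw [cyclotomic_prime_mul_X_sub_one]
      apply minpoly.dvd
      simp [hxq]
    rcases hprime.dvd_or_dvd h1 with h | h
    · exact h
    · exfalso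
      obtain ⟨c, hc⟩ := h
      have : aeval x (X - 1 : (ZMod p)[X]) = 0 := by rw [hc, map_mul, hmx, zero_mul]
      simp at this
      exact hx1 (sub_eq_zero.mp this)
  have hcop : p.Coprime q := (Nat.coprime_primes hp.out hq.out).mpr hpq
  have hdeg := natDegree_of_dvd_cyclotomic_of_irreducible (K := ZMod p) (p := p) (f := 1) (n := q)
    (by simp) hcop hdvd hirr
  have hord : orderOf (ZMod.unitOfCoprime (p ^ 1) (hcop.pow_left 1)) = orderOf (p : ZMod q) := by
    rw [← orderOf_units]
    simp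
  rw [hord] at hdeg
  -- the field L
  have : Fact (Irreducible m) := ⟨hirr⟩
  let L := AdjoinRoot m
  let α : L := AdjoinRoot.root m
  have hα1 : α ≠ 1 := by
    intro h
    have h2 : AdjoinRoot.mk m (X - 1) = 0 := by
      simp only [map_sub, AdjoinRoot.mk_X, map_one]
      exact sub_eq_zero.mpr h
    rw [AdjoinRoot.mk_eq_zero] at h2
    obtain ⟨c, hc⟩ := h2
    have : aeval x (X - 1 : (ZMod p)[X]) = 0 := by rw [hc, map_mul, hmx, zero_mul]
    simp at this
    exact hx1 (sub_eq_zero.mp this)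
  have hαq : α ^ q = 1 := by
    have h2 : AdjoinRoot.mk m (X ^ q - 1) = 0 := by
      rw [AdjoinRoot.mk_eq_zero]
      apply minpoly.dvd
      simp [hxq]
    simp only [map_sub, map_pow, AdjoinRoot.mk_X, map_one] at h2
    exact sub_eq_zero.mp h2
  have hαord : orderOf α = q := orderOf_eq_prime hαq hα1
  -- roots
  have hroot : ∀ k : ℕ, 0 < k → k < q → aeval (α ^ k) m = 0 := by
    intro k hk0 hkq
    obtain ⟨σ, hσ⟩ := hpow k hk0 hkq
    have h1 : aeval x (m.comp (X ^ k)) = 0 := by
      rw [aeval_comp]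
      simp only [map_pow, aeval_X]
      rw [← hσ, aeval_algHom_apply, hmx, map_zero]
    have h2 : m ∣ m.comp (X ^ k) := minpoly.dvd _ _ h1
    have h3 : AdjoinRoot.mk m (m.comp (X ^ k)) = 0 := AdjoinRoot.mk_eq_zero.mpr h2
    have h4 : aeval α (m.comp (X ^ k)) = 0 := by
      rw [AdjoinRoot.aeval_eq]; exact h3
    rw [aeval_comp] at h4
    simpa using h4
  let Z : Finset L := (Finset.Ioo 0 q).image (fun k => α ^ k)
  have hZcard : Z.card = q - 1 := by
    rw [Finset.card_image_of_injOn]
    · simp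
    · intro a ha b hb hab
      simp only [Finset.coe_Ioo, Set.mem_Ioo] at ha hb
      have := pow_injOn_Iio_orderOf (x := α) (by simpa [hαord] using ha.2) (by simpa [hαord] using hb.2) hab
      exact this
  have hmL0 : m.map (algebraMap (ZMod p) L) ≠ 0 := (Polynomial.map_ne_zero_iff (algebraMap (ZMod p) L).injective).mpr hm0
  have hsub : Z.val ⊆ (m.map (algebraMap (ZMod p) L)).roots := by
    intro z hz
    simp only [Finset.mem_val, Z, Finset.mem_image, Finset.mem_Ioo] at hz
    obtain ⟨k, ⟨hk0, hkq⟩, rfl⟩ := hz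
    rw [mem_roots hmL0, IsRoot.def, eval_map, ← aeval_def]
    exact hroot k hk0 hkq
  have hle := card_le_degree_of_subset_roots hsub
  rw [hZcard, natDegree_map, hdeg] at hle
  -- upper bound
  have hp0 : (p : ZMod q) ≠ 0 := by
    intro h
    rw [ZMod.natCast_eq_zero_iff] at h
    exact hpq ((Nat.prime_dvd_prime_iff_eq hq.out hp.out).mp h).symm
  have hdiv : orderOf (p : ZMod q) ∣ q - 1 := orderOf_dvd_of_pow_eq_one (ZMod.pow_card_sub_one_eq_one hp0)
  have hq2 : 2 ≤ q := hq.out.two_le
  exact le_antisymm (Nat.le_of_dvd (by omega) hdiv) hle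

end Roots

section Norm


theorem sum_pow_mul_eq {E : Type*} [Ring E] {q : ℕ} [hq : Fact q.Prime] (B : E) (hB : B ^ q = 1)
    (l : ℕ) (hl0 : 0 < l) (hlq : l < q) :
    ∑ k ∈ Finset.range q, B ^ (k * l) = ∑ j ∈ Finset.range q, B ^ j := by
  have hcop : Nat.Coprime l q := by
    rw [Nat.coprime_comm]
    exact (Nat.Prime.coprime_iff_not_dvd hq.out).mpr (Nat.not_dvd_of_pos_of_lt hl0 hlq)
  have h1 : ∀ k ∈ Finset.range q, B ^ (k * l) = B ^ ((k * l) % q) := by
    intro k _
    exact pow_eq_pow_mod _ hB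
  rw [Finset.sum_congr rfl h1]
  have hinj : Set.InjOn (fun k => (k * l) % q) (Finset.range q : Set ℕ) := by
    intro a ha b hb hab
    simp only [Finset.coe_range, Set.mem_Iio] at ha hb
    have h2 : a * l ≡ b * l [MOD q] := hab
    have h3 : a ≡ b [MOD q] := Nat.ModEq.cancel_right_of_coprime (by rwa [Nat.coprime_comm] at hcop) h2
    exact Nat.ModEq.eq_of_lt_of_lt h3 ha hb
  have himg : (Finset.range q).image (fun k => (k * l) % q) = Finset.range q := by
    apply Finset.eq_of_subset_of_card_le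
    · intro j hj
      simp only [Finset.mem_image, Finset.mem_range] at hj ⊢
      obtain ⟨k, _, rfl⟩ := hj
      exact Nat.mod_lt _ hq.out.pos
    · rw [Finset.card_image_of_injOn hinj]
  rw [← Finset.sum_image (f := fun j => B ^ j) hinj, himg]

theorem natCast_eq_zero_of_norms {E : Type*} [Ring E] {q : ℕ} [hq : Fact q.Prime] (A B : E)
    (hAB : A * B = B * A) (hB : B ^ q = 1)
    (hS : ∀ k : ℕ, ∑ l ∈ Finset.range q, (A * B ^ k) ^ l = 0)
    (hSB : ∑ l ∈ Finset.range q, B ^ l = 0) : (q : E) = 0 := by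
  have hcomm : ∀ k : ℕ, Commute A (B ^ k) := fun k => (show Commute A B from hAB).pow_right k
  have h1 : ∑ k ∈ Finset.range q, ∑ l ∈ Finset.range q, (A * B ^ k) ^ l = 0 :=
    Finset.sum_eq_zero (fun k _ => hS k)
  rw [Finset.sum_comm] at h1
  have h2 : ∀ l ∈ Finset.range q, ∑ k ∈ Finset.range q, (A * B ^ k) ^ l
      = A ^ l * ∑ k ∈ Finset.range q, B ^ (k * l) := by
    intro l _
    rw [Finset.mul_sum]
    refine Finset.sum_congr rfl (fun k _ => ?_)
    rw [(hcomm k).mul_pow, ← pow_mul]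
  rw [Finset.sum_congr rfl h2] at h1
  have hq0 : 0 < q := hq.out.pos
  rw [← Finset.sum_erase_add _ _ (Finset.mem_range.mpr hq0)] at h1
  have h3 : ∑ l ∈ (Finset.range q).erase 0, A ^ l * ∑ k ∈ Finset.range q, B ^ (k * l) = 0 := by
    refine Finset.sum_eq_zero (fun l hl => ?_)
    simp only [Finset.mem_erase, Finset.mem_range] at hl
    rw [sum_pow_mul_eq B hB l (Nat.pos_of_ne_zero hl.1) hl.2, hSB, mul_zero]
  rw [h3, zero_add] at h1
  simpa using h1

end Norm

section Trans

theorem orderOf_eq_of_transitive {p q : ℕ} [hp : Fact p.Prime] [hq : Fact q.Prime] (hpq : p ≠ q)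
    {W : Type*} [AddCommGroup W] [Module (ZMod p) W] [Finite W] [Nontrivial W]
    (x : Module.End (ZMod p) W) (hxq : x ^ q = 1) (hx1 : x ≠ 1)
    (htrans : ∀ u w : W, u ≠ 0 → w ≠ 0 →
      ∃ (T : W ≃ₗ[ZMod p] W) (k : ℕ), T u = w ∧ ∀ z, T (x z) = (x ^ k) (T z))
    (hpow : ∀ k : ℕ, 0 < k → k < q → ∃ T : W ≃ₗ[ZMod p] W, ∀ z, T (x z) = (x ^ k) (T z)) :
    orderOf (p : ZMod q) = q - 1 := by
  have hconj : ∀ (T : W ≃ₗ[ZMod p] W) (k : ℕ), (∀ z, T (x z) = (x ^ k) (T z)) →
      T.conjAlgEquiv (ZMod p) x = x ^ k := by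
    intro T k hT
    ext z
    rw [LinearEquiv.conjAlgEquiv_apply]
    simp only [LinearMap.coe_comp, LinearEquiv.coe_coe, Function.comp_apply]
    rw [hT, LinearEquiv.apply_symm_apply]
  let K : Set (Module.End (ZMod p) W) := Set.range (fun a : (ZMod p)[X] => aeval x a)
  have hone : (1 : Module.End (ZMod p) W) ∈ K := ⟨1, by simp⟩
  have hneg : ∀ f ∈ K, -f ∈ K := by
    rintro f ⟨a, rfl⟩
    exact ⟨-a, by simp⟩
  have hcomm : ∀ f ∈ K, ∀ g ∈ K, f * g = g * f := by
    rintro f ⟨a, rfl⟩ g ⟨b, rfl⟩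
    simp only
    rw [← map_mul, ← map_mul, mul_comm]
  have hcard : ∀ u w : W, u ≠ 0 → w ≠ 0 → (annSet K u).ncard ≤ (annSet K w).ncard := by
    intro u w hu hw
    obtain ⟨T, k, hTu, hT⟩ := htrans u w hu hw
    have hσx := hconj T k hT
    refine Set.ncard_le_ncard_of_injOn (T.conjAlgEquiv (ZMod p)) ?_ ?_ (annSet_finite K w)
    · rintro f ⟨⟨a, rfl⟩, hfu⟩
      refine ⟨⟨a.comp (X ^ k), ?_⟩, ?_⟩
      · simp only
        rw [aeval_comp, ← aeval_algHom_apply]
        simp only [map_pow, aeval_X]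
        rw [← hσx]
      · rw [LinearEquiv.conjAlgEquiv_apply]
        simp only [LinearMap.coe_comp, LinearEquiv.coe_coe, Function.comp_apply]
        rw [← hTu, LinearEquiv.symm_apply_apply]
        simp only at hfu
        rw [hfu, map_zero]
    · exact (T.conjAlgEquiv (ZMod p)).injective.injOn
  have hfree := ann_eq_zero K hone hneg hcomm hcard
  have hdom : ∀ a b : (ZMod p)[X], aeval x a * aeval x b = 0 → aeval x a = 0 ∨ aeval x b = 0 := by
    intro a b hab
    by_contra hcon
    push Not at hcon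
    obtain ⟨v, hv⟩ : ∃ v, aeval x b v ≠ 0 := by
      by_contra h
      push Not at h
      exact hcon.2 (LinearMap.ext (fun v => by simpa using h v))
    have h1 : aeval x a (aeval x b v) = 0 := by
      have : aeval x a (aeval x b v) = (aeval x a * aeval x b) v := rfl
      rw [this, hab]; rfl
    exact hcon.1 (hfree _ ⟨a, rfl⟩ _ hv h1)
  refine orderOf_eq_of_roots hpq x hxq hx1 hdom ?_
  intro k hk0 hkq
  obtain ⟨T, hT⟩ := hpow k hk0 hkq
  exact ⟨(T.conjAlgEquiv (ZMod p)).toAlgHom, hconj T k hT⟩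

end Trans

section Semilinear


theorem cyclotomic_irreducible_of_orderOf {p q : ℕ} [hp : Fact p.Prime] [hq : Fact q.Prime] (hpq : p ≠ q)
    (hord : orderOf (p : ZMod q) = q - 1) : Irreducible (cyclotomic q (ZMod p)) := by
  have hpn : ¬ p ∣ q := fun h => hpq ((Nat.prime_dvd_prime_iff_eq hp.out hq.out).mp h)
  refine ZMod.irreducible_of_dvd_cyclotomic_of_natDegree hpn dvd_rfl ?_
  rw [natDegree_cyclotomic, Nat.totient_prime hq.out, ← orderOf_units, ZMod.coe_unitOfCoprime, hord]

theorem aeval_cyclotomic_eq_zero {p q : ℕ} [hp : Fact p.Prime] [hq : Fact q.Prime]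
    {W : Type*} [AddCommGroup W] [Module (ZMod p) W]
    (x : Module.End (ZMod p) W) (hxq : x ^ q = 1) (hfpf : ∀ v, x v = v → v = 0) :
    aeval x (cyclotomic q (ZMod p)) = 0 := by
  have h1 : (x - 1) * aeval x (cyclotomic q (ZMod p)) = 0 := by
    have : aeval x (cyclotomic q (ZMod p) * (X - 1)) = 0 := by
      rw [cyclotomic_prime_mul_X_sub_one]; simp [hxq]
    rw [mul_comm, map_mul] at this
    simpa using this
  ext z
  apply hfpf
  have h2 := congrArg (fun f : Module.End (ZMod p) W => f z) h1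
  simp only [Module.End.mul_apply, LinearMap.sub_apply, Module.End.one_apply,
    LinearMap.zero_apply] at h2
  exact sub_eq_zero.mp h2

theorem exists_semilinear {p q : ℕ} [hp : Fact p.Prime] [hq : Fact q.Prime] (hpq : p ≠ q)
    (hord : orderOf (p : ZMod q) = q - 1)
    {W : Type*} [AddCommGroup W] [Module (ZMod p) W] [Finite W]
    (x : Module.End (ZMod p) W) (hxq : x ^ q = 1) (hfpf : ∀ v, x v = v → v = 0)
    (k : ℕ) (hk0 : 0 < k) (hkq : k < q) (v w : W) (hv : v ≠ 0) (hw : w ≠ 0) :
    ∃ T : W ≃ₗ[ZMod p] W, T v = w ∧ ∀ z, T (x z) = (x ^ k) (T z) := by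
  set Φ := cyclotomic q (ZMod p) with hΦ
  have hirr : Irreducible Φ := cyclotomic_irreducible_of_orderOf hpq hord
  have hΦx : aeval x Φ = 0 := aeval_cyclotomic_eq_zero x hxq hfpf
  have : Fact (Irreducible Φ) := ⟨hirr⟩
  have hmonic : Φ.Monic := cyclotomic.monic q _
  have := hmonic.finite_adjoinRoot
  have hfinL : Finite (AdjoinRoot Φ) := Module.finite_of_finite (ZMod p)
  let L := AdjoinRoot Φ
  let ζ : L := AdjoinRoot.root Φ
  -- the ring hom ρ
  let ρ : L →+* Module.End (ZMod p) W :=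
    Ideal.Quotient.lift (Ideal.span {Φ}) (aeval x : (ZMod p)[X] →ₐ[ZMod p] Module.End (ZMod p) W).toRingHom
      (by
        intro a ha
        rw [Ideal.mem_span_singleton] at ha
        obtain ⟨c, rfl⟩ := ha
        simp [hΦx])
  have hρmk : ∀ a : (ZMod p)[X], ρ (AdjoinRoot.mk Φ a) = aeval x a := fun a => rfl
  have hρζ : ρ ζ = x := by
    have : ζ = AdjoinRoot.mk Φ X := (AdjoinRoot.mk_X).symm
    rw [this, hρmk, aeval_X]
  let _ : Module L W := Module.compHom W ρ
  have hsmul : ∀ (l : L) (z : W), l • z = ρ l z := fun l z => rfl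
  -- σ
  have hcop : Nat.Coprime k q := by
    rw [Nat.coprime_comm]
    exact (Nat.Prime.coprime_iff_not_dvd hq.out).mpr (Nat.not_dvd_of_pos_of_lt hk0 hkq)
  have hqL : NeZero ((q : ℕ) : L) := by
    have h0 : ((q : ℕ) : ZMod p) ≠ 0 := by
      intro h
      rw [ZMod.natCast_eq_zero_iff] at h
      exact hpq ((Nat.prime_dvd_prime_iff_eq hp.out hq.out).mp h)
    have : NeZero ((q : ℕ) : ZMod p) := ⟨h0⟩
    have h2 := NeZero.of_injective (a := ((q : ℕ) : ZMod p)) (algebraMap (ZMod p) L).injective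
    simpa using h2
  have hζprim : IsPrimitiveRoot ζ q := by
    rw [← isRoot_cyclotomic_iff]
    have h1 := AdjoinRoot.isRoot_root Φ
    have hmap : Φ.map (AdjoinRoot.of Φ) = cyclotomic q L := map_cyclotomic q _
    rw [hmap] at h1
    exact h1
  have hζk : IsPrimitiveRoot (ζ ^ k) q := hζprim.pow_of_coprime k hcop
  have hζkroot : Φ.eval₂ (algebraMap (ZMod p) L) (ζ ^ k) = 0 := by
    rw [← isRoot_cyclotomic_iff, IsRoot.def] at hζk
    have hmap : Φ.map (algebraMap (ZMod p) L) = cyclotomic q L := map_cyclotomic q _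
    rw [eval₂_eq_eval_map, hmap]
    exact hζk
  let σ₀ : L →+* L := AdjoinRoot.lift (algebraMap (ZMod p) L) (ζ ^ k) hζkroot
  have hσ₀ζ : σ₀ ζ = ζ ^ k := AdjoinRoot.lift_root hζkroot
  have hσbij : Function.Bijective σ₀ := Finite.injective_iff_bijective.mp σ₀.injective
  let σ : L ≃+* L := RingEquiv.ofBijective σ₀ hσbij
  have hσζ : σ ζ = ζ ^ k := hσ₀ζ
  -- basis
  have : Module.Finite L W := Module.Finite.of_finite
  let b := Module.finBasis L W
  let e := b.equivFun
  let T₀ : W ≃+ W := e.toAddEquiv.trans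
    ((AddEquiv.piCongrRight (fun _ => σ.toAddEquiv)).trans e.symm.toAddEquiv)
  have hT₀ : ∀ (l : L) (z : W), T₀ (l • z) = σ l • T₀ z := by
    intro l z
    change e.symm (fun i => σ (e (l • z) i)) = σ l • e.symm (fun i => σ (e z i))
    rw [← map_smul e.symm]
    congr 1
    ext i
    rw [map_smul]
    simp
  have hT₀v : T₀ v ≠ 0 := by
    intro h
    exact hv ((AddEquiv.map_eq_zero_iff T₀).mp h)
  -- S
  let f : Submodule.span L {T₀ v} ≃ₗ[L] Submodule.span L {w} :=
    (LinearEquiv.toSpanNonzeroSingleton L W (T₀ v) hT₀v).symm ≪≫ₗ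
      (LinearEquiv.toSpanNonzeroSingleton L W w hw)
  obtain ⟨S, hS⟩ := Submodule.exists_linearEquiv_restrict_eq f
  have hSv : S (T₀ v) = w := by
    have h1 := hS ⟨T₀ v, Submodule.mem_span_singleton_self _⟩
    have h2 : f ⟨T₀ v, Submodule.mem_span_singleton_self _⟩ = ⟨w, Submodule.mem_span_singleton_self _⟩ := by
      simp only [f, LinearEquiv.trans_apply]
      rw [← LinearEquiv.toSpanNonzeroSingleton_one L W (T₀ v) hT₀v, LinearEquiv.symm_apply_apply,
        LinearEquiv.toSpanNonzeroSingleton_one]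
    rw [h2] at h1
    exact h1.symm
  let Tadd : W ≃+ W := T₀.trans S.toAddEquiv
  refine ⟨{ Tadd with map_smul' := fun c z => ZMod.map_smul Tadd c z }, hSv, ?_⟩
  intro z
  change S (T₀ (x z)) = (x ^ k) (S (T₀ z))
  have h1 : x z = ζ • z := by rw [hsmul, hρζ]
  rw [h1, hT₀, hσζ, map_smul, hsmul, map_pow, hρζ]

end Semilinear

end Cfsg.Agent.Lib.Helper37_ThreeOrbAlg
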