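import Mathlib

/-!
# A normal elementary abelian `p`-subgroup as a `ZMod p`-module (helper37)

`Vec h` is `Additive ↥P` for a normal abelian subgroup `P` of exponent `p` (`h : EA p P`), with its
`ZMod p`-module structure; `cj h g` is conjugation by `g` as a linear endomorphism and `res h θ hθ`
the restriction of an automorphism of the ambient group.
-/

set_option autoImplicit false

namespace Cfsg.Agent.Lib.Helper37_ThreeOrbVec

variable {G : Type*} [Group G]

/-- `P` is normal, abelian, of exponent dividing `p`. -/
structure EA (p : ℕ) (P : Subgroup G) : Prop where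
  normal : P.Normal
  comm : ∀ a ∈ P, ∀ b ∈ P, a * b = b * a
  exp : ∀ a ∈ P, a ^ p = 1

variable {p : ℕ} {P : Subgroup G}

/-- The additive version of `P`. -/
def Vec (_h : EA p P) : Type _ := Additive ↥P

namespace Vec

variable (h : EA p P)

/-- The underlying element of `G`. -/
def val (v : Vec h) : G := ((Additive.toMul (α := ↥P) v : ↥P) : G)

/-- The vector of an element of `P`. -/
def mk (a : G) (ha : a ∈ P) : Vec h := Additive.ofMul (⟨a, ha⟩ : ↥P)

theorem val_mem (v : Vec h) : val h v ∈ P := (Additive.toMul (α := ↥P) v : ↥P).2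

@[simp] theorem val_mk (a : G) (ha : a ∈ P) : val h (mk h a ha) = a := rfl

@[simp] theorem mk_val (v : Vec h) : mk h (val h v) (val_mem h v) = v := rfl

theorem val_injective : Function.Injective (val h) := by
  intro u w huw
  have : (Additive.toMul (α := ↥P) u : ↥P) = Additive.toMul (α := ↥P) w := Subtype.ext huw
  exact Additive.toMul.injective this

@[reducible] def commGroup : CommGroup ↥P :=
  { (inferInstance : Group ↥P) with
    mul_comm := fun a b => Subtype.ext (h.comm a a.2 b b.2) }

instance : AddCommGroup (Vec h) :=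
  letI := commGroup h
  inferInstanceAs (AddCommGroup (Additive ↥P))

@[simp] theorem val_add (u w : Vec h) : val h (u + w) = val h u * val h w := rfl

@[simp] theorem val_zero : val h (0 : Vec h) = 1 := rfl

@[simp] theorem val_neg (u : Vec h) : val h (-u) = (val h u)⁻¹ := rfl

theorem val_nsmul (n : ℕ) (u : Vec h) : val h (n • u) = (val h u) ^ n := by
  induction n with
  | zero => simp
  | succ n ih => rw [succ_nsmul, val_add, ih, pow_succ]

theorem val_eq_one_iff (u : Vec h) : val h u = 1 ↔ u = 0 := by
  constructor
  · intro hu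
    exact val_injective h (by rw [hu, val_zero])
  · rintro rfl; rfl

theorem nsmul_eq_zero (u : Vec h) : p • u = 0 := by
  apply val_injective h
  rw [val_nsmul, val_zero]
  exact h.exp _ (val_mem h u)

instance [Finite G] : Finite (Vec h) := Finite.of_injective (val h) (val_injective h)

instance [NeZero p] : Module (ZMod p) (Vec h) := AddCommGroup.zmodModule (nsmul_eq_zero h)

end Vec

section Conj

variable [hp : Fact p.Prime] (h : EA p P)

/-- Conjugation by `g` as an additive endomorphism of `Vec h`. -/
def cjAdd (g : G) : Vec h →+ Vec h where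
  toFun v := Vec.mk h (g * Vec.val h v * g⁻¹) (h.normal.conj_mem _ (Vec.val_mem h v) g)
  map_zero' := by
    apply Vec.val_injective h
    simp
  map_add' u w := by
    apply Vec.val_injective h
    simp [mul_assoc]

/-- Conjugation by `g` as a linear endomorphism of `Vec h`. -/
def cj (g : G) : Module.End (ZMod p) (Vec h) := (cjAdd h g).toZModLinearMap p

@[simp] theorem val_cj (g : G) (v : Vec h) : Vec.val h (cj h g v) = g * Vec.val h v * g⁻¹ := rfl

theorem cj_one : cj h (1 : G) = 1 := by
  ext v
  apply Vec.val_injective h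
  simp

theorem cj_mul (g₁ g₂ : G) : cj h (g₁ * g₂) = cj h g₁ * cj h g₂ := by
  ext v
  apply Vec.val_injective h
  simp [mul_assoc]

theorem cj_pow (g : G) (n : ℕ) : cj h (g ^ n) = cj h g ^ n := by
  induction n with
  | zero => simp [cj_one]
  | succ n ih => rw [pow_succ, cj_mul, ih, pow_succ]

theorem cj_of_mem (a : G) (ha : a ∈ P) : cj h a = 1 := by
  ext v
  apply Vec.val_injective h
  rw [val_cj, Module.End.one_apply, h.comm a ha _ (Vec.val_mem h v), mul_inv_cancel_right]

/-- The restriction to `P` of an automorphism of `G` preserving `P`. -/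
def resAdd (θ : G ≃* G) (hθ : ∀ a, a ∈ P ↔ θ a ∈ P) : Vec h ≃+ Vec h where
  toFun v := Vec.mk h (θ (Vec.val h v)) ((hθ _).mp (Vec.val_mem h v))
  invFun v := Vec.mk h (θ.symm (Vec.val h v)) ((hθ _).mpr (by simpa using Vec.val_mem h v))
  left_inv v := by
    apply Vec.val_injective h
    simp
  right_inv v := by
    apply Vec.val_injective h
    simp
  map_add' u w := by
    apply Vec.val_injective h
    simp

/-- The restriction to `P` of an automorphism of `G` preserving `P`, as a linear equivalence. -/
def res (θ : G ≃* G) (hθ : ∀ a, a ∈ P ↔ θ a ∈ P) : Vec h ≃ₗ[ZMod p] Vec h :=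
  { resAdd h θ hθ with map_smul' := fun c z => ZMod.map_smul (resAdd h θ hθ) c z }

@[simp] theorem val_res (θ : G ≃* G) (hθ : ∀ a, a ∈ P ↔ θ a ∈ P) (v : Vec h) :
    Vec.val h (res h θ hθ v) = θ (Vec.val h v) := rfl

theorem res_cj (θ : G ≃* G) (hθ : ∀ a, a ∈ P ↔ θ a ∈ P) (g : G) (v : Vec h) :
    res h θ hθ (cj h g v) = cj h (θ g) (res h θ hθ v) := by
  apply Vec.val_injective h
  simp

end Conj

end Cfsg.Agent.Lib.Helper37_ThreeOrbVec
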