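import Mathlib
import Cfsg.Prelude.Def_Transfer
import Cfsg.Agent.Lib.Helper37_ThreeOrbAlg
import Cfsg.Agent.Lib.Helper37_ThreeOrbVec

/-!
# Three automorphism orbits, backward direction (Laffey–MacHale), helper37
-/

set_option autoImplicit false

namespace Cfsg.Agent.Lib.Helper37_ThreeOrbBwd

open Cfsg.Agent.Lib.Helper37_ThreeOrbAlg Cfsg.Agent.Lib.Helper37_ThreeOrbVec

variable {G : Type*} [Group G]

section Aut

variable {p : ℕ} [hp : Fact p.Prime] {P : Subgroup G} (h : EA p P)

omit hp in
theorem mk_mul (a b : G) (ha : a ∈ P) (hb : b ∈ P) :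
    Vec.mk h (a * b) (P.mul_mem ha hb) = Vec.mk h a ha + Vec.mk h b hb := rfl

theorem conj_pow_rel (x : G) (T : Vec h ≃ₗ[ZMod p] Vec h) (k : ℕ)
    (hT : ∀ z, T (cj h x z) = (cj h x ^ k) (T z)) (i : ℕ) (z : Vec h) :
    T (cj h (x ^ i) z) = cj h ((x ^ i) ^ k) (T z) := by
  rw [← pow_mul, mul_comm, pow_mul, cj_pow, cj_pow]
  induction i generalizing z with
  | zero => simp
  | succ i ih =>
    rw [pow_succ, Module.End.mul_apply, ih, hT, pow_succ, Module.End.mul_apply]
    rw [cj_pow]

theorem exists_aut [Finite G] (x : G) (hcompl : P.IsComplement' (Subgroup.zpowers x))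
    (T : Vec h ≃ₗ[ZMod p] Vec h) (k : ℕ) (hk : (orderOf x).Coprime k)
    (hT : ∀ z, T (cj h x z) = (cj h x ^ k) (T z)) :
    ∃ θ : G ≃* G, (∀ v : Vec h, θ (Vec.val h v) = Vec.val h (T v)) ∧ θ x = x ^ k := by
  have hnorm : P.Normal := h.normal
  let fn : ↥P →* ↥P :=
    { toFun := fun u => ⟨Vec.val h (T (Vec.mk h u u.2)), Vec.val_mem h _⟩
      map_one' := by
        apply Subtype.ext
        change Vec.val h (T 0) = 1
        rw [map_zero, Vec.val_zero]
      map_mul' := by
        intro u u'
        apply Subtype.ext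
        change Vec.val h (T (Vec.mk h (u * u') _)) = _
        rw [mk_mul h _ _ u.2 u'.2, map_add, Vec.val_add]
        rfl }
  have hcommH : ∀ t t' : ↥(Subgroup.zpowers x), t * t' = t' * t := by
    intro t t'
    obtain ⟨i, hi⟩ := Subgroup.mem_zpowers_iff.mp t.2
    obtain ⟨j, hj⟩ := Subgroup.mem_zpowers_iff.mp t'.2
    apply Subtype.ext
    change (t : G) * t' = t' * t
    rw [← hi, ← hj, ← zpow_add, ← zpow_add, add_comm]
  let fg : ↥(Subgroup.zpowers x) →* ↥(Subgroup.zpowers x) :=
    { toFun := fun t => t ^ k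
      map_one' := one_pow k
      map_mul' := fun t t' => (show Commute t t' from hcommH t t').mul_pow k }
  have hcond : ∀ t : ↥(Subgroup.zpowers x),
      fn.comp (MulEquiv.toMonoidHom ((P.normalizerMonoidHom.comp
        (Subgroup.inclusion (P.normalizer_eq_top ▸ le_top))) t)) =
      (MulEquiv.toMonoidHom ((P.normalizerMonoidHom.comp
        (Subgroup.inclusion (P.normalizer_eq_top ▸ le_top))) (fg t))).comp fn := by
    intro t
    ext u
    obtain ⟨i, hi⟩ := (mem_powers_iff_mem_zpowers (x := x)).mpr t.2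
    have hi' : x ^ i = (t : G) := hi
    have h1 := conj_pow_rel h x T k hT i (Vec.mk h u u.2)
    have h2 := congrArg (Vec.val h) h1
    rw [val_cj, hi'] at h2
    exact h2
  let e := SemidirectProduct.mulEquivSubgroup hcompl
  let θhom : G →* G :=
    (e.toMonoidHom.comp (SemidirectProduct.map fn fg hcond)).comp e.symm.toMonoidHom
  have hfn_inj : Function.Injective fn := by
    intro u u' huu'
    have h1 : Vec.val h (T (Vec.mk h u u.2)) = Vec.val h (T (Vec.mk h u' u'.2)) :=
      congrArg Subtype.val huu'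
    have h2 := T.injective (Vec.val_injective h h1)
    exact Subtype.ext (congrArg (Vec.val h) h2)
  have hfg_inj : Function.Injective fg := by
    have hcop : (Nat.card ↥(Subgroup.zpowers x)).Coprime k := by
      rw [Nat.card_zpowers]; exact hk
    exact (powCoprime hcop).injective
  have hmap_inj : Function.Injective (SemidirectProduct.map fn fg hcond) := by
    intro a b hab
    apply SemidirectProduct.ext
    · apply hfn_inj
      rw [← SemidirectProduct.map_left fn fg hcond, ← SemidirectProduct.map_left fn fg hcond, hab]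
    · apply hfg_inj
      rw [← SemidirectProduct.map_right fn fg hcond, ← SemidirectProduct.map_right fn fg hcond, hab]
  have hinj : Function.Injective θhom :=
    e.injective.comp (hmap_inj.comp e.symm.injective)
  refine ⟨MulEquiv.ofBijective θhom ⟨hinj, Finite.surjective_of_injective hinj⟩, ?_, ?_⟩
  · intro v
    change e (SemidirectProduct.map fn fg hcond (e.symm (Vec.val h v))) = _
    have h1 : e.symm (Vec.val h v) = SemidirectProduct.inl ⟨Vec.val h v, Vec.val_mem h v⟩ := by
      rw [MulEquiv.symm_apply_eq, SemidirectProduct.mulEquivSubgroup_apply]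
      simp
    rw [h1, SemidirectProduct.map_inl, SemidirectProduct.mulEquivSubgroup_apply]
    simp
    rfl
  · change e (SemidirectProduct.map fn fg hcond (e.symm x)) = _
    have h1 : e.symm x = SemidirectProduct.inr ⟨x, Subgroup.mem_zpowers x⟩ := by
      rw [MulEquiv.symm_apply_eq, SemidirectProduct.mulEquivSubgroup_apply]
      simp
    rw [h1, SemidirectProduct.map_inr, SemidirectProduct.mulEquivSubgroup_apply]
    simp
    rfl

end Aut

section Main

variable {p q : ℕ} [hp : Fact p.Prime] [hq : Fact q.Prime]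

theorem cj_fpf' {P : Subgroup G} (h : EA p P) (c : G)
    (hfpf : ∀ y : G, orderOf y = p → c * y * c⁻¹ ≠ y) (v : Vec h) (hv : cj h c v = v) : v = 0 := by
  by_contra hv0
  have h1 : Vec.val h v ≠ 1 := fun h1 => hv0 ((Vec.val_eq_one_iff h v).mp h1)
  have h2 : (Vec.val h v) ^ p = 1 := h.exp _ (Vec.val_mem h v)
  have h3 : orderOf (Vec.val h v) = p := orderOf_eq_prime h2 h1
  have h4 := congrArg (Vec.val h) hv
  rw [val_cj] at h4
  exact hfpf _ h3 h4

theorem card_sylow_of_card [Finite G] {n : ℕ} (hpq : p ≠ q) (hN : Nat.card G = p ^ n * q)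
    (S : Sylow p G) : Nat.card (S : Subgroup G) = p ^ n := by
  obtain ⟨j, hj⟩ := IsPGroup.iff_card.mp S.2
  have hSN : Nat.card (S : Subgroup G) * (S : Subgroup G).index = Nat.card G :=
    Subgroup.card_mul_index _
  have hpi : ¬ p ∣ (S : Subgroup G).index := S.not_dvd_index
  have hj' : Nat.card (S : Subgroup G) = p ^ j := hj
  rw [hj']
  rw [hj', hN] at hSN
  have hcop1 : (p ^ n).Coprime (S : Subgroup G).index :=
    Nat.Coprime.pow_left n ((Nat.Prime.coprime_iff_not_dvd hp.out).mpr hpi)
  have hcop2 : (p ^ j).Coprime q :=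
    Nat.Coprime.pow_left j ((Nat.coprime_primes hp.out hq.out).mpr hpq)
  have h1 : p ^ n ∣ p ^ j := hcop1.dvd_of_dvd_mul_right ⟨q, by rw [hSN]⟩
  have h2 : p ^ j ∣ p ^ n := hcop2.dvd_of_dvd_mul_right ⟨(S : Subgroup G).index, by rw [hSN]⟩
  exact Nat.dvd_antisymm h2 h1

theorem backward [Finite G] {n : ℕ} (hpq : p ≠ q) (hn : 1 ≤ n)
    (hN : Nat.card G = p ^ n * q)
    (hsyl : ∀ P : Sylow p G, (P : Subgroup G).Normal ∧ Cfsg.IsElementaryAbelian p (P : Subgroup G))
    (hord : orderOf (p : ZMod q) = q - 1)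
    (hfpf : ∀ x y : G, orderOf x = q → orderOf y = p → x * y * x⁻¹ ≠ y) :
    Nat.card (MulAction.orbitRel.Quotient (MulAut G) G) = 3 := by
  classical
  let S : Sylow p G := default
  obtain ⟨hnorm, hcommI, hexp⟩ := hsyl S
  have h : EA p (S : Subgroup G) :=
    ⟨hnorm, fun a ha b hb => congrArg Subtype.val (hcommI.is_comm.comm ⟨a, ha⟩ ⟨b, hb⟩), hexp⟩
  have hcardP : Nat.card (S : Subgroup G) = p ^ n := card_sylow_of_card hpq hN S
  have hp1 := hp.out.one_lt
  have hq1 := hq.out.one_lt
  -- x and y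
  have hqN : q ∣ Nat.card G := by rw [hN]; exact Dvd.intro_left _ rfl
  obtain ⟨x, hx⟩ := exists_prime_orderOf_dvd_card' q hqN
  have hPnt : Nontrivial ↥(S : Subgroup G) := by
    rw [← Finite.one_lt_card_iff_nontrivial, hcardP]
    exact Nat.one_lt_pow (by omega) hp1
  obtain ⟨y', hy'⟩ := exists_ne (1 : ↥(S : Subgroup G))
  let y : G := y'
  have hyP : y ∈ (S : Subgroup G) := y'.2
  have hy1 : y ≠ 1 := fun h1 => hy' (Subtype.ext h1)
  have hy : orderOf y = p := orderOf_eq_prime (hexp y hyP) hy1
  have hcompl : (S : Subgroup G).IsComplement' (Subgroup.zpowers x) := by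
    apply Subgroup.isComplement'_of_coprime
    · rw [hcardP, Nat.card_zpowers, hx, hN]
    · rw [hcardP, Nat.card_zpowers, hx]
      exact Nat.Coprime.pow_left n ((Nat.coprime_primes hp.out hq.out).mpr hpq)
  have hXq : cj h x ^ q = 1 := by rw [← cj_pow, ← hx, pow_orderOf_eq_one, cj_one]
  have hfpfc : ∀ c : G, orderOf c = q → ∀ v : Vec h, cj h c v = v → v = 0 :=
    fun c hc v hv => cj_fpf' h c (fun y hy => hfpf c y hc hy) v hv
  have hv0 : Vec.mk h y hyP ≠ 0 := fun h0 => hy1 ((Vec.val_eq_one_iff h _).mpr h0)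
  -- (A)
  have hA : ∀ g ∈ (S : Subgroup G), g ≠ 1 → ∃ θ : G ≃* G, θ y = g := by
    intro g hg hg1
    have hw0 : Vec.mk h g hg ≠ 0 := fun h0 => hg1 ((Vec.val_eq_one_iff h _).mpr h0)
    obtain ⟨T, hTv, hT⟩ := exists_semilinear hpq hord (cj h x) hXq (hfpfc x hx) 1 Nat.one_pos hq1
      _ _ hv0 hw0
    obtain ⟨θ, hθ, _⟩ := exists_aut h x hcompl T 1 (Nat.coprime_one_right _) hT
    refine ⟨θ, ?_⟩
    have := hθ (Vec.mk h y hyP)
    rw [hTv] at this
    exact this
  -- (B)
  have hB : ∀ g : G, g ∉ (S : Subgroup G) → ∃ θ : G ≃* G, θ x = g := by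
    intro g hg
    obtain ⟨⟨u, t⟩, hut, _⟩ := (Subgroup.isComplement'_def.mp hcompl).existsUnique g
    have hut' : (u : G) * (t : G) = g := hut
    obtain ⟨i, hi⟩ := (mem_powers_iff_mem_zpowers (x := x)).mpr t.2
    have hi' : x ^ i = (t : G) := hi
    have hk : x ^ (i % q) = (t : G) := by rw [← hi', ← hx, pow_mod_orderOf]
    have hk0 : 0 < i % q := by
      rcases Nat.eq_zero_or_pos (i % q) with h0 | h0
      · exfalso
        rw [h0, pow_zero] at hk
        apply hg
        rw [← hut', ← hk, mul_one]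
        exact u.2
      · exact h0
    have hkq : i % q < q := Nat.mod_lt _ hq.out.pos
    have hcop : (orderOf x).Coprime (i % q) := by
      rw [hx]
      exact (Nat.Prime.coprime_iff_not_dvd hq.out).mpr (Nat.not_dvd_of_pos_of_lt hk0 hkq)
    obtain ⟨T, _, hT⟩ := exists_semilinear hpq hord (cj h x) hXq (hfpfc x hx) (i % q) hk0 hkq
      _ _ hv0 hv0
    obtain ⟨θ₁, _, hθ₁⟩ := exists_aut h x hcompl T (i % q) hcop hT
    have hcq : orderOf (x ^ (i % q)) = q := by rw [hcop.orderOf_pow, hx]
    -- solve z - c z = u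
    let D : Vec h →+ Vec h :=
      { toFun := fun z => z - cj h (x ^ (i % q)) z
        map_zero' := by simp
        map_add' := fun a b => by rw [map_add]; abel }
    have hDinj : Function.Injective D := by
      rw [injective_iff_map_eq_zero]
      intro z hz
      apply hfpfc _ hcq z
      exact (sub_eq_zero.mp hz).symm
    obtain ⟨z, hz⟩ := Finite.surjective_of_injective hDinj (Vec.mk h u u.2)
    have hz' := congrArg (Vec.val h) hz
    change Vec.val h (z - cj h (x ^ (i % q)) z) = (u : G) at hz'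
    rw [sub_eq_add_neg, Vec.val_add, Vec.val_neg, val_cj] at hz'
    refine ⟨θ₁.trans (MulAut.conj (Vec.val h z)), ?_⟩
    rw [MulEquiv.trans_apply, hθ₁, MulAut.conj_apply, ← hut', ← hk, ← hz']
    group
  -- counting
  let Q := MulAction.orbitRel.Quotient (MulAut G) G
  let π : G → Q := Quotient.mk _
  have hrel : ∀ a b : G, π a = π b ↔ ∃ θ : G ≃* G, θ b = a := by
    intro a b
    rw [Quotient.eq, MulAction.orbitRel_apply, MulAction.mem_orbit_iff]
    rfl
  have hordπ : ∀ a b : G, π a = π b → orderOf a = orderOf b := by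
    intro a b hab
    obtain ⟨θ, rfl⟩ := (hrel a b).mp hab
    exact MulEquiv.orderOf_eq θ b
  have : Finite Q := inferInstanceAs (Finite (Quotient _))
  have : Fintype Q := Fintype.ofFinite Q
  have h1y : π 1 ≠ π y := fun h => by
    have := hordπ _ _ h; rw [orderOf_one, hy] at this; exact hp1.ne this
  have h1x : π 1 ≠ π x := fun h => by
    have := hordπ _ _ h; rw [orderOf_one, hx] at this; exact hq1.ne this
  have hyx : π y ≠ π x := fun h => by
    have := hordπ _ _ h; rw [hy, hx] at this; exact hpq this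
  have hS : ({π 1, π y, π x} : Finset Q) = Finset.univ := by
    apply Finset.eq_univ_of_forall
    intro c
    induction c using Quotient.inductionOn with
    | h g =>
      change π g ∈ _
      simp only [Finset.mem_insert, Finset.mem_singleton]
      by_cases hg1 : g = 1
      · left; rw [hg1]
      · by_cases hgP : g ∈ (S : Subgroup G)
        · right; left; exact (hrel g y).mpr (hA g hgP hg1)
        · right; right; exact (hrel g x).mpr (hB g hgP)
  have hcard : ({π 1, π y, π x} : Finset Q).card = 3 := by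
    rw [Finset.card_insert_of_notMem, Finset.card_insert_of_notMem, Finset.card_singleton]
    · simpa using hyx
    · simp only [Finset.mem_insert, Finset.mem_singleton, not_or]; exact ⟨h1y, h1x⟩
  rw [Nat.card_eq_fintype_card, ← Finset.card_univ, ← hS, hcard]

end Main

end Cfsg.Agent.Lib.Helper37_ThreeOrbBwd
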