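import Mathlib
import Cfsg.Prelude.Def_Transfer
import Cfsg.Agent.Lib.Helper37_ThreeOrbAlg
import Cfsg.Agent.Lib.Helper37_ThreeOrbVec
import Cfsg.Agent.Lib.Helper3_CharBurnside

/-!
# Three automorphism orbits, forward direction (Laffey–MacHale), helper37
-/

set_option autoImplicit false

namespace Cfsg.Agent.Lib.Helper37_ThreeOrbFwd

open Cfsg.Agent.Lib.Helper37_ThreeOrbAlg Cfsg.Agent.Lib.Helper37_ThreeOrbVec

variable (G : Type*) [Group G]

/-- What three automorphism orbits give: element orders `1, p, q`, and transitivity on each. -/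
structure Hyp (p q : ℕ) : Prop where
  hp : p.Prime
  hq : q.Prime
  hpq : p ≠ q
  ord : ∀ g : G, orderOf g = 1 ∨ orderOf g = p ∨ orderOf g = q
  transP : ∀ g g' : G, orderOf g = p → orderOf g' = p → ∃ θ : G ≃* G, θ g = g'
  transQ : ∀ g g' : G, orderOf g = q → orderOf g' = q → ∃ θ : G ≃* G, θ g = g'
  exP : ∃ y : G, orderOf y = p
  exQ : ∃ x : G, orderOf x = q

variable {G}

theorem Hyp.symm {p q : ℕ} (H : Hyp G p q) : Hyp G q p where
  hp := H.hq
  hq := H.hp
  hpq := H.hpq.symm
  ord g := by rcases H.ord g with h | h | h <;> tauto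
  transP := H.transQ
  transQ := H.transP
  exP := H.exQ
  exQ := H.exP

theorem hyp_of_card [Finite G] (hnpp : ¬ IsPrimePow (Nat.card G)) (hnt : Nat.card G ≠ 1)
    (h3 : Nat.card (MulAction.orbitRel.Quotient (MulAut G) G) = 3) : ∃ p q : ℕ, Hyp G p q := by
  classical
  obtain ⟨p, hp, hpd⟩ := Nat.exists_prime_and_dvd hnt
  obtain ⟨q, hq, hqd, hqp⟩ : ∃ q : ℕ, q.Prime ∧ q ∣ Nat.card G ∧ q ≠ p := by
    by_contra hcon
    push Not at hcon
    exact hnpp (isPrimePow_iff_unique_prime_dvd.mpr ⟨p, ⟨hp, hpd⟩, fun r hr => hcon r hr.1 hr.2⟩)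
  have : Fact p.Prime := ⟨hp⟩
  have : Fact q.Prime := ⟨hq⟩
  obtain ⟨y, hy⟩ := exists_prime_orderOf_dvd_card' p hpd
  obtain ⟨x, hx⟩ := exists_prime_orderOf_dvd_card' q hqd
  let Q := MulAction.orbitRel.Quotient (MulAut G) G
  let π : G → Q := Quotient.mk _
  have hrel : ∀ a b : G, π a = π b ↔ ∃ θ : G ≃* G, θ b = a := by
    intro a b
    rw [Quotient.eq, MulAction.orbitRel_apply, MulAction.mem_orbit_iff]
    rfl
  have hord : ∀ a b : G, π a = π b → orderOf a = orderOf b := by
    intro a b hab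
    obtain ⟨θ, rfl⟩ := (hrel a b).mp hab
    exact MulEquiv.orderOf_eq θ b
  have : Finite Q := inferInstanceAs (Finite (Quotient _))
  have : Fintype Q := Fintype.ofFinite Q
  have hcard : Fintype.card Q = 3 := by rw [← Nat.card_eq_fintype_card]; exact h3
  have h1y : π 1 ≠ π y := fun h => by
    have := hord _ _ h; rw [orderOf_one, hy] at this; exact hp.one_lt.ne this
  have h1x : π 1 ≠ π x := fun h => by
    have := hord _ _ h; rw [orderOf_one, hx] at this; exact hq.one_lt.ne this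
  have hyx : π y ≠ π x := fun h => by
    have := hord _ _ h; rw [hy, hx] at this; exact hqp this.symm
  have hS : ({π 1, π y, π x} : Finset Q) = Finset.univ := by
    apply Finset.eq_univ_of_card
    rw [hcard, Finset.card_insert_of_notMem, Finset.card_insert_of_notMem, Finset.card_singleton]
    · simpa using hyx
    · simp only [Finset.mem_insert, Finset.mem_singleton, not_or]; exact ⟨h1y, h1x⟩
  have hall : ∀ g : G, π g = π 1 ∨ π g = π y ∨ π g = π x := by
    intro g
    have : π g ∈ ({π 1, π y, π x} : Finset Q) := by rw [hS]; exact Finset.mem_univ _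
    simpa using this
  refine ⟨p, q, hp, hq, hqp.symm, ?_, ?_, ?_, ⟨y, hy⟩, ⟨x, hx⟩⟩
  · intro g
    rcases hall g with h | h | h
    · left; rw [hord _ _ h, orderOf_one]
    · right; left; rw [hord _ _ h, hy]
    · right; right; rw [hord _ _ h, hx]
  · intro g g' hg hg'
    have h1 : π g = π y := by
      rcases hall g with h | h | h
      · exfalso; have := hord _ _ h; rw [hg, orderOf_one] at this; exact hp.one_lt.ne' this
      · exact h
      · exfalso; have := hord _ _ h; rw [hg, hx] at this; exact hqp this.symm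
    have h2 : π g' = π y := by
      rcases hall g' with h | h | h
      · exfalso; have := hord _ _ h; rw [hg', orderOf_one] at this; exact hp.one_lt.ne' this
      · exact h
      · exfalso; have := hord _ _ h; rw [hg', hx] at this; exact hqp this.symm
    exact (hrel g' g).mp (h2.trans h1.symm)
  · intro g g' hg hg'
    have h1 : π g = π x := by
      rcases hall g with h | h | h
      · exfalso; have := hord _ _ h; rw [hg, orderOf_one] at this; exact hq.one_lt.ne' this
      · exfalso; have := hord _ _ h; rw [hg, hy] at this; exact hqp this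
      · exact h
    have h2 : π g' = π x := by
      rcases hall g' with h | h | h
      · exfalso; have := hord _ _ h; rw [hg', orderOf_one] at this; exact hq.one_lt.ne' this
      · exfalso; have := hord _ _ h; rw [hg', hy] at this; exact hqp this
      · exact h
    exact (hrel g' g).mp (h2.trans h1.symm)

/-- The subgroup of elements with `g ^ p = 1`, when these commute pairwise. -/
def P0 (p : ℕ) (hc : ∀ a b : G, a ^ p = 1 → b ^ p = 1 → a * b = b * a) : Subgroup G where
  carrier := {g | g ^ p = 1}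
  mul_mem' := by
    intro a b ha hb
    have hcm : Commute a b := hc a b ha hb
    change (a * b) ^ p = 1
    rw [hcm.mul_pow, ha, hb, one_mul]
  one_mem' := one_pow p
  inv_mem' := by
    intro a ha
    change a⁻¹ ^ p = 1
    rw [inv_pow, inv_eq_one]
    exact ha

theorem mem_P0 (p : ℕ) (hc : ∀ a b : G, a ^ p = 1 → b ^ p = 1 → a * b = b * a) (g : G) :
    g ∈ P0 p hc ↔ g ^ p = 1 := Iff.rfl

theorem P0_EA (p : ℕ) (hc : ∀ a b : G, a ^ p = 1 → b ^ p = 1 → a * b = b * a) :
    EA p (P0 p hc) where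
  normal := ⟨fun a ha g => by
    rw [mem_P0] at ha ⊢
    rw [conj_pow, ha, mul_one, mul_inv_cancel]⟩
  comm := fun a ha b hb => hc a b ha hb
  exp := fun a ha => ha

section core

variable {p q : ℕ} (H : Hyp G p q)
include H

theorem pow_eq_one_iff (g : G) : g ^ p = 1 ↔ (g = 1 ∨ orderOf g = p) := by
  constructor
  · intro hg
    have := orderOf_dvd_of_pow_eq_one hg
    rcases (Nat.dvd_prime H.hp).mp this with h | h
    · left; exact orderOf_eq_one_iff.mp h
    · right; exact h
  · rintro (rfl | h)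
    · simp
    · rw [← h]; exact pow_orderOf_eq_one g

theorem comm_of_char (A : Subgroup G) [hAchar : A.Characteristic]
    (hAcomm : ∀ a ∈ A, ∀ b ∈ A, a * b = b * a) (a₀ : G) (ha₀ : a₀ ∈ A) (ha₀p : orderOf a₀ = p) :
    ∀ a b : G, a ^ p = 1 → b ^ p = 1 → a * b = b * a := by
  have key : ∀ a : G, a ^ p = 1 → a ∈ A := by
    intro a ha
    rcases (pow_eq_one_iff H a).mp ha with rfl | h
    · exact A.one_mem
    · obtain ⟨θ, rfl⟩ := H.transP a₀ a ha₀p h
      have h1 := hAchar.fixed θ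
      have h2 : a₀ ∈ A.comap θ.toMonoidHom := by rw [h1]; exact ha₀
      exact h2
  intro a b ha hb
  exact hAcomm a (key a ha) b (key b hb)

theorem fpf (x y : G) (hx : orderOf x = q) (hy : orderOf y = p) : x * y * x⁻¹ ≠ y := by
  intro h
  have hcm : Commute x y := by
    change x * y = y * x
    calc x * y = x * y * x⁻¹ * x := by group
      _ = y * x := by rw [h]
  have hcop : (orderOf x).Coprime (orderOf y) := by
    rw [hx, hy]; exact (Nat.coprime_primes H.hq H.hp).mpr H.hpq.symm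
  have h1 := hcm.orderOf_mul_eq_mul_orderOf_of_coprime hcop
  rw [hx, hy] at h1
  have hp1 := H.hp.one_lt
  have hq1 := H.hq.one_lt
  rcases H.ord (x * y) with h2 | h2 | h2
  · rw [h2] at h1; nlinarith
  · rw [h2] at h1; nlinarith
  · rw [h2] at h1; nlinarith

theorem prime_dvd_card [Finite G] (r : ℕ) (hr : r.Prime) (hd : r ∣ Nat.card G) : r = p ∨ r = q := by
  have : Fact r.Prime := ⟨hr⟩
  obtain ⟨g, hg⟩ := exists_prime_orderOf_dvd_card' r hd
  rcases H.ord g with h | h | h
  · rw [hg] at h; exact absurd h hr.one_lt.ne'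
  · left; rw [← hg, h]
  · right; rw [← hg, h]

theorem isSolvable [Finite G] : Group.IsSolvable G :=
  Cfsg.Agent.Lib.Helper3_CharBurnside.isSolvable_of_two_primes p q H.hp H.hq (Nat.card G) G rfl
    (fun r hr hd => prime_dvd_card H r hr hd)

end core

section core2

variable {p q : ℕ} (H : Hyp G p q)
include H

theorem sylow_eq_P0 [Finite G] [Fact p.Prime]
    (hc : ∀ a b : G, a ^ p = 1 → b ^ p = 1 → a * b = b * a) (S : Sylow p G) :
    (S : Subgroup G) = P0 p hc := by
  have hle : (S : Subgroup G) ≤ P0 p hc := by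
    intro g hg
    rw [mem_P0]
    obtain ⟨k, hk⟩ := S.2 ⟨g, hg⟩
    have hk' : g ^ (p ^ k) = 1 := by simpa using congrArg Subtype.val hk
    have h1 := orderOf_dvd_of_pow_eq_one hk'
    obtain ⟨j, _, hj⟩ := (Nat.dvd_prime_pow H.hp).mp h1
    rcases H.ord g with h | h | h
    · rw [orderOf_eq_one_iff.mp h]; simp
    · rw [← h]; exact pow_orderOf_eq_one g
    · exfalso
      rw [h] at hj
      have h2 : q ∣ p ^ j := by rw [← hj]
      have h3 := (Nat.prime_dvd_prime_iff_eq H.hq H.hp).mp (H.hq.dvd_of_dvd_pow h2)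
      exact H.hpq h3.symm
  have hpg : IsPGroup p ↥(P0 p hc) := by
    intro g
    refine ⟨1, Subtype.ext ?_⟩
    have h1 : (g : G) ^ p = 1 := g.2
    simpa using h1
  exact (S.is_maximal' hpg hle).symm

/-- Fixed-point-freeness in terms of `cj`. -/
theorem cj_fpf [Fact p.Prime] {P : Subgroup G} (h : EA p P) (c : G) (hc : orderOf c = q)
    (v : Vec h) (hv : cj h c v = v) : v = 0 := by
  by_contra hv0
  have h1 : Vec.val h v ≠ 1 := fun h1 => hv0 ((Vec.val_eq_one_iff h v).mp h1)
  have h2 : (Vec.val h v) ^ p = 1 := h.exp _ (Vec.val_mem h v)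
  have h3 : orderOf (Vec.val h v) = p := by
    rcases (pow_eq_one_iff H _).mp h2 with h | h
    · exact absurd h h1
    · exact h
  have h4 := congrArg (Vec.val h) hv
  rw [val_cj] at h4
  exact fpf H c _ hc h3 h4

omit H in
theorem geom_sum_eq_zero_of_fpf {W : Type*} [AddCommGroup W] {R : Type*} [CommRing R] [Module R W]
    (C : Module.End R W) (n : ℕ) (hC : C ^ n = 1) (hfpf : ∀ v, C v = v → v = 0) :
    ∑ l ∈ Finset.range n, C ^ l = 0 := by
  have h1 : (C - 1) * ∑ l ∈ Finset.range n, C ^ l = 0 := by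
    rw [mul_geom_sum, hC, sub_self]
  ext v
  apply hfpf
  have h2 := congrArg (fun f : Module.End R W => f v) h1
  simp only [Module.End.mul_apply, LinearMap.sub_apply, Module.End.one_apply,
    LinearMap.zero_apply] at h2
  exact sub_eq_zero.mp h2

end core2

section core3

variable {p q : ℕ} (H : Hyp G p q)
include H

theorem orderOf_of_mem_sylow_q [Finite G] [Fact q.Prime] (Q : Sylow q G) (g : G) (hg : g ∈ Q)
    (hg1 : g ≠ 1) : orderOf g = q := by
  obtain ⟨k, hk⟩ := Q.2 ⟨g, hg⟩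
  have hk' : g ^ (q ^ k) = 1 := by simpa using congrArg Subtype.val hk
  have h1 := orderOf_dvd_of_pow_eq_one hk'
  obtain ⟨j, _, hj⟩ := (Nat.dvd_prime_pow H.hq).mp h1
  rcases H.ord g with h | h | h
  · exact absurd (orderOf_eq_one_iff.mp h) hg1
  · exfalso
    rw [h] at hj
    have h2 : p ∣ q ^ j := by rw [← hj]
    have h3 := (Nat.prime_dvd_prime_iff_eq H.hp H.hq).mp (H.hp.dvd_of_dvd_pow h2)
    exact H.hpq h3
  · exact h

theorem card_sylow_q [Finite G] [Fact p.Prime] [Fact q.Prime] {P : Subgroup G} (h : EA p P)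
    (y : G) (hyP : y ∈ P) (hy : orderOf y = p) (Q : Sylow q G) : Nat.card Q = q := by
  obtain ⟨x, hx⟩ := H.exQ
  have hqd : q ∣ Nat.card G := by rw [← hx]; exact orderOf_dvd_natCard x
  have hqQ : q ∣ Nat.card Q := Q.dvd_card_of_dvd_card hqd
  have hq2 := H.hq.two_le
  have hQpos : 0 < Nat.card Q := Nat.card_pos
  by_contra hne
  have hnt : Nontrivial ↥(Q : Subgroup G) := by
    rw [← Finite.one_lt_card_iff_nontrivial]
    have := Nat.le_of_dvd hQpos hqQ
    omega
  have hcnt := IsPGroup.center_nontrivial (p := q) (G := ↥(Q : Subgroup G)) Q.2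
  obtain ⟨z', hz'⟩ := exists_ne (1 : ↥(Subgroup.center ↥(Q : Subgroup G)))
  let z : G := ((z' : ↥(Q : Subgroup G)) : G)
  have hzQ : z ∈ Q := (z' : ↥(Q : Subgroup G)).2
  have hz1 : z ≠ 1 := by
    intro hz
    apply hz'
    apply Subtype.ext
    apply Subtype.ext
    exact hz
  have hzq : orderOf z = q := orderOf_of_mem_sylow_q H Q z hzQ hz1
  obtain ⟨a, haQ, haz⟩ : ∃ a ∈ Q, a ∉ Subgroup.zpowers z := by
    by_contra hcon
    push Not at hcon
    have hle : (Q : Subgroup G) ≤ Subgroup.zpowers z := fun a ha => hcon a ha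
    have h1 := Subgroup.card_le_of_le hle
    rw [Nat.card_zpowers, hzq] at h1
    exact hne (le_antisymm h1 (Nat.le_of_dvd hQpos hqQ))
  have ha1 : a ≠ 1 := fun h1 => haz (h1 ▸ (Subgroup.zpowers z).one_mem)
  have haq : orderOf a = q := orderOf_of_mem_sylow_q H Q a haQ ha1
  have hcomm : a * z = z * a := by
    have h1 := Subgroup.mem_center_iff.mp z'.2 ⟨a, haQ⟩
    exact congrArg Subtype.val h1
  -- the ring computation
  have hck : ∀ k : ℕ, orderOf (a * z ^ k) = q := by
    intro k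
    apply orderOf_of_mem_sylow_q H Q _ (Q.mul_mem haQ (Q.pow_mem hzQ k))
    intro h1
    apply haz
    have : a = (z ^ k)⁻¹ := eq_inv_of_mul_eq_one_left h1
    rw [this]
    exact (Subgroup.zpowers z).inv_mem (Subgroup.pow_mem _ (Subgroup.mem_zpowers z) k)
  have hsum : ∀ c : G, orderOf c = q → ∑ l ∈ Finset.range q, (cj h c) ^ l = 0 := by
    intro c hc
    apply geom_sum_eq_zero_of_fpf (cj h c) q
    · rw [← cj_pow, ← hc, pow_orderOf_eq_one, cj_one]
    · exact cj_fpf H h c hc
  have hzero := natCast_eq_zero_of_norms (q := q) (cj h a) (cj h z)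
    (by rw [← cj_mul, ← cj_mul, hcomm])
    (by rw [← cj_pow, ← hzq, pow_orderOf_eq_one, cj_one])
    (fun k => by
      have := hsum (a * z ^ k) (hck k)
      rwa [cj_mul, cj_pow] at this)
    (hsum z hzq)
  have h1 := congrArg (fun f : Module.End (ZMod p) (Vec h) => f (Vec.mk h y hyP)) hzero
  simp only [Module.End.natCast_apply, LinearMap.zero_apply] at h1
  have h2 := congrArg (Vec.val h) h1
  rw [Vec.val_nsmul, Vec.val_mk, Vec.val_zero] at h2
  have h3 := orderOf_dvd_of_pow_eq_one h2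
  rw [hy] at h3
  exact H.hpq ((Nat.prime_dvd_prime_iff_eq H.hp H.hq).mp h3)

end core3

section core4

variable {p q : ℕ} (H : Hyp G p q)
include H

theorem card_eq [Finite G] [Fact p.Prime] [Fact q.Prime]
    (hc : ∀ a b : G, a ^ p = 1 → b ^ p = 1 → a * b = b * a) :
    ∃ n : ℕ, 1 ≤ n ∧ Nat.card G = p ^ n * q ∧ Nat.card (P0 p hc) = p ^ n := by
  obtain ⟨y, hy⟩ := H.exP
  have hyP : y ∈ P0 p hc := by rw [mem_P0, ← hy]; exact pow_orderOf_eq_one y
  let Q : Sylow q G := default
  have hQ : Nat.card Q = q := card_sylow_q H (P0_EA p hc) y hyP hy Q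
  have hN : Nat.card (Q : Subgroup G) * (Q : Subgroup G).index = Nat.card G :=
    Subgroup.card_mul_index _
  have hqi : ¬ q ∣ (Q : Subgroup G).index := Q.not_dvd_index
  have hi0 : (Q : Subgroup G).index ≠ 0 := Subgroup.index_ne_zero_of_finite
  have hidx : (Q : Subgroup G).index = p ^ ((Q : Subgroup G).index.primeFactorsList.length) := by
    apply Nat.eq_prime_pow_of_unique_prime_dvd hi0
    intro r hr hrd
    have hrN : r ∣ Nat.card G := by rw [← hN]; exact Dvd.dvd.mul_left hrd _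
    rcases prime_dvd_card H r hr hrN with h | h
    · exact h
    · exfalso; rw [h] at hrd; exact hqi hrd
  set n := (Q : Subgroup G).index.primeFactorsList.length with hn
  have hNeq : Nat.card G = p ^ n * q := by rw [← hN, hQ, hidx, mul_comm]
  have hpN : p ∣ Nat.card G := by rw [← hy]; exact orderOf_dvd_natCard y
  have hn1 : 1 ≤ n := by
    by_contra hn0
    have : n = 0 := by omega
    rw [hNeq, this, pow_zero, one_mul] at hpN
    exact H.hpq ((Nat.prime_dvd_prime_iff_eq H.hp H.hq).mp hpN)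
  refine ⟨n, hn1, hNeq, ?_⟩
  -- card of P0
  let S : Sylow p G := default
  have hS : (S : Subgroup G) = P0 p hc := sylow_eq_P0 H hc S
  obtain ⟨j, hj⟩ := IsPGroup.iff_card.mp S.2
  have hSN : Nat.card (S : Subgroup G) * (S : Subgroup G).index = Nat.card G :=
    Subgroup.card_mul_index _
  have hpi : ¬ p ∣ (S : Subgroup G).index := S.not_dvd_index
  rw [← hS]
  change Nat.card (S : Subgroup G) = p ^ n
  have hj' : Nat.card (S : Subgroup G) = p ^ j := hj
  rw [hj']
  rw [hj', hNeq] at hSN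
  have hcop1 : (p ^ n).Coprime (S : Subgroup G).index :=
    Nat.Coprime.pow_left n ((Nat.Prime.coprime_iff_not_dvd H.hp).mpr hpi)
  have hcop2 : (p ^ j).Coprime q :=
    Nat.Coprime.pow_left j ((Nat.coprime_primes H.hp H.hq).mpr H.hpq)
  have h1 : p ^ n ∣ p ^ j := hcop1.dvd_of_dvd_mul_right ⟨q, by rw [hSN]⟩
  have h2 : p ^ j ∣ p ^ n := hcop2.dvd_of_dvd_mul_right ⟨(S : Subgroup G).index, by rw [hSN]⟩
  exact Nat.dvd_antisymm h2 h1

theorem exists_decomp [Finite G] [Fact p.Prime] [Fact q.Prime]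
    (hc : ∀ a b : G, a ^ p = 1 → b ^ p = 1 → a * b = b * a) (x : G) (hx : orderOf x = q) (g : G) :
    ∃ u : G, u ^ p = 1 ∧ ∃ k : ℕ, g = u * x ^ k := by
  obtain ⟨n, _, hN, hP⟩ := card_eq H hc
  have hcompl : (P0 p hc).IsComplement' (Subgroup.zpowers x) := by
    apply Subgroup.isComplement'_of_coprime
    · rw [hP, Nat.card_zpowers, hx, hN]
    · rw [hP, Nat.card_zpowers, hx]
      exact Nat.Coprime.pow_left n ((Nat.coprime_primes H.hp H.hq).mpr H.hpq)
  obtain ⟨⟨u, t⟩, hut, _⟩ := (Subgroup.isComplement'_def.mp hcompl).existsUnique g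
  have ht := t.2
  rw [SetLike.mem_coe, ← mem_powers_iff_mem_zpowers] at ht
  obtain ⟨k, hk⟩ := ht
  refine ⟨u.1, u.2, k, ?_⟩
  have hk' : x ^ k = (t : G) := hk
  rw [hk']
  exact hut.symm

end core4

section core5

variable {p q : ℕ} (H : Hyp G p q)
include H

theorem orderOf_zmod [Finite G] [Fact p.Prime] [Fact q.Prime]
    (hc : ∀ a b : G, a ^ p = 1 → b ^ p = 1 → a * b = b * a) : orderOf (p : ZMod q) = q - 1 := by
  obtain ⟨y, hy⟩ := H.exP
  obtain ⟨x, hx⟩ := H.exQ
  have h := P0_EA p hc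
  have hyP : y ∈ P0 p hc := by rw [mem_P0, ← hy]; exact pow_orderOf_eq_one y
  have hy1 : y ≠ 1 := by
    intro h1; rw [h1, orderOf_one] at hy; exact H.hp.one_lt.ne hy
  have hv0 : Vec.mk h y hyP ≠ 0 := by
    intro h0
    exact hy1 ((Vec.val_eq_one_iff h _).mpr h0)
  have : Nontrivial (Vec h) := ⟨⟨_, _, hv0⟩⟩
  have hθP : ∀ (θ : G ≃* G) (a : G), a ∈ P0 p hc ↔ θ a ∈ P0 p hc := by
    intro θ a
    rw [mem_P0, mem_P0, ← map_pow, EmbeddingLike.map_eq_one_iff]
  have hordv : ∀ v : Vec h, v ≠ 0 → orderOf (Vec.val h v) = p := by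
    intro v hv
    have h2 : (Vec.val h v) ^ p = 1 := h.exp _ (Vec.val_mem h v)
    rcases (pow_eq_one_iff H _).mp h2 with h3 | h3
    · exact absurd ((Vec.val_eq_one_iff h v).mp h3) hv
    · exact h3
  refine orderOf_eq_of_transitive H.hpq (cj h x) ?_ ?_ ?_ ?_
  · rw [← cj_pow, ← hx, pow_orderOf_eq_one, cj_one]
  · intro h1
    apply hv0
    apply cj_fpf H h x hx
    rw [h1, Module.End.one_apply]
  · intro u w hu hw
    obtain ⟨θ, hθ⟩ := H.transP _ _ (hordv u hu) (hordv w hw)
    obtain ⟨u', hu', k, hk⟩ := exists_decomp H hc x hx (θ x)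
    refine ⟨res h θ (hθP θ), k, ?_, ?_⟩
    · apply Vec.val_injective h
      rw [val_res, hθ]
    · intro z
      rw [res_cj, hk, cj_mul, cj_of_mem h u' hu', one_mul, cj_pow]
  · intro k hk0 hkq
    have hcop : (orderOf x).Coprime k := by
      rw [hx]
      exact (Nat.Prime.coprime_iff_not_dvd H.hq).mpr (Nat.not_dvd_of_pos_of_lt hk0 hkq)
    have hxk : orderOf (x ^ k) = q := by rw [hcop.orderOf_pow, hx]
    obtain ⟨θ, hθ⟩ := H.transQ _ _ hx hxk
    refine ⟨res h θ (hθP θ), ?_⟩
    intro z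
    rw [res_cj, hθ, cj_pow]

theorem forward_core [Finite G] (A : Subgroup G) [hAchar : A.Characteristic]
    (hAcomm : ∀ a ∈ A, ∀ b ∈ A, a * b = b * a) (a₀ : G) (ha₀ : a₀ ∈ A) (ha₀p : orderOf a₀ = p) :
    ∃ (p q n : ℕ) (_ : Fact p.Prime) (_ : Fact q.Prime), p ≠ q ∧ 1 ≤ n ∧ Nat.card G = p ^ n * q ∧
      (∀ P : Sylow p G, (P : Subgroup G).Normal ∧ Cfsg.IsElementaryAbelian p (P : Subgroup G)) ∧
      orderOf (p : ZMod q) = q - 1 ∧
      ∀ x y : G, orderOf x = q → orderOf y = p → x * y * x⁻¹ ≠ y := by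
  have hpF : Fact p.Prime := ⟨H.hp⟩
  have hqF : Fact q.Prime := ⟨H.hq⟩
  have hc := comm_of_char H A hAcomm a₀ ha₀ ha₀p
  obtain ⟨n, hn1, hN, _⟩ := card_eq H hc
  refine ⟨p, q, n, hpF, hqF, H.hpq, hn1, hN, ?_, orderOf_zmod H hc, fun x y hx hy => fpf H x y hx hy⟩
  intro S
  have hS := sylow_eq_P0 H hc S
  have hEA := P0_EA p hc
  rw [hS]
  refine ⟨hEA.normal, ⟨⟨fun a b => Subtype.ext (hEA.comm a a.2 b b.2)⟩⟩, hEA.exp⟩

end core5

open scoped commutatorElement in
theorem forward [Finite G] (hnpp : ¬ IsPrimePow (Nat.card G)) (hnt : Nat.card G ≠ 1)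
    (h3 : Nat.card (MulAction.orbitRel.Quotient (MulAut G) G) = 3) :
    ∃ (p q n : ℕ) (_ : Fact p.Prime) (_ : Fact q.Prime), p ≠ q ∧ 1 ≤ n ∧ Nat.card G = p ^ n * q ∧
      (∀ P : Sylow p G, (P : Subgroup G).Normal ∧ Cfsg.IsElementaryAbelian p (P : Subgroup G)) ∧
      orderOf (p : ZMod q) = q - 1 ∧
      ∀ x y : G, orderOf x = q → orderOf y = p → x * y * x⁻¹ ≠ y := by
  classical
  obtain ⟨p, q, H⟩ := hyp_of_card hnpp hnt h3
  have hsol := isSolvable H
  have hex := (Group.isSolvable_def G).mp hsol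
  have hm₀ : derivedSeries G (Nat.find hex) = ⊥ := Nat.find_spec hex
  have hm₀pos : Nat.find hex ≠ 0 := by
    intro h0
    rw [h0, derivedSeries_zero] at hm₀
    apply hnt
    have : Nat.card (⊤ : Subgroup G) = 1 := by rw [hm₀]; exact Subgroup.card_bot
    rwa [Subgroup.card_top] at this
  obtain ⟨j, hj⟩ := Nat.exists_eq_succ_of_ne_zero hm₀pos
  have hA : derivedSeries G j ≠ ⊥ := Nat.find_min hex (by omega)
  have hAcomm : ∀ a ∈ derivedSeries G j, ∀ b ∈ derivedSeries G j, a * b = b * a := by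
    intro a ha b hb
    have h1 : ⁅a, b⁆ ∈ derivedSeries G (j + 1) := by
      rw [derivedSeries_succ]
      exact Subgroup.commutator_mem_commutator ha hb
    rw [← Nat.succ_eq_add_one, ← hj, hm₀, Subgroup.mem_bot] at h1
    exact commutatorElement_eq_one_iff_mul_comm.mp h1
  have hchar : (derivedSeries G j).Characteristic := derivedSeries_characteristic G j
  obtain ⟨a₀, ha₀1⟩ := (Subgroup.ne_bot_iff_exists_ne_one.mp hA)
  have ha₀1' : (a₀ : G) ≠ 1 := fun h => ha₀1 (Subtype.ext h)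
  rcases H.ord (a₀ : G) with h | h | h
  · exact absurd (orderOf_eq_one_iff.mp h) ha₀1'
  · exact forward_core H (derivedSeries G j) hAcomm a₀ a₀.2 h
  · exact forward_core H.symm (derivedSeries G j) hAcomm a₀ a₀.2 h

end Cfsg.Agent.Lib.Helper37_ThreeOrbFwd
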