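import Mathlib
import Cfsg.Agent.Lib.Helper37_UTDefs
import Cfsg.Agent.Lib.Helper37_UTPairDefs
import Cfsg.Agent.Lib.Helper17_UT_BAS1
import Cfsg.Agent.Lib.Helper31_UT_BAS3

set_option autoImplicit false
set_option linter.unusedSectionVars false
set_option linter.unusedVariables false

/-!
# utens_packages UT-EVENF (helper37): `even_false` with the instances of DE, E2, E3D, E3E as hypotheses.
-/

namespace Cfsg.Agent.Lib.Helper42_UT_EVENFaux

open Matrix Module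
open Cfsg.Agent.Lib.Helper98_ExtDefs Cfsg.Agent.Lib.Helper97_TensDefs
open Cfsg.Agent.Lib.Helper94_Herm Cfsg.Agent.Lib.Helper13_PSUSimple
open Cfsg.Agent.Lib.Helper67_UT2Defs Cfsg.Agent.Lib.Helper37_UTDefs
open Cfsg.Agent.Lib.Helper37_UTPairDefs

variable {F : Type*} [Field F] {ι κ : Type*} [Fintype ι] [Fintype κ] [DecidableEq ι]
  [DecidableEq κ] {σ : F →+* F}
variable {α : (ι → F) →ₗ[F] (ι → F) →ₛₗ[σ] F} {β : (κ → F) →ₗ[F] (κ → F) →ₛₗ[σ] F}

/-- `1 ⊗ t_y(c)` on a pure tensor `x ⊗ e` -/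
theorem tmE_one_utv_pure (x : ι → F) {y : κ → F} (hy : β y y = 0) (c : F) (e : κ → F) :
    tmE (1 : (ι → F) ≃ₗ[F] (ι → F)) (utv β y c) (vecMulVec x e) =
      vecMulVec x (e + (c * β e y) • y) := by
  rw [tmE_pure, utv_apply β hy]
  rfl

/-- in a submodule of dimension `≥ 2` there are two independent vectors -/
theorem exists_pair_of_two_le {D : Submodule F (κ → F)} (h : 2 ≤ finrank F ↥D) :
    ∃ u ∈ D, ∃ v ∈ D, u ≠ 0 ∧ v ∉ Submodule.span F {u} := by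
  have hne : D ≠ ⊥ := by
    intro h0
    rw [h0, finrank_bot] at h
    omega
  obtain ⟨u, hu, hu0⟩ := Submodule.exists_mem_ne_zero_of_ne_bot hne
  have hle : Submodule.span F {u} ≤ D := by
    rw [Submodule.span_singleton_le_iff_mem]
    exact hu
  have hlt : Submodule.span F {u} < D := by
    refine lt_of_le_of_ne hle ?_
    intro heq
    have h1 : finrank F ↥(Submodule.span F {u}) = 1 := finrank_span_singleton hu0
    rw [heq] at h1
    omega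
  obtain ⟨v, hv, hvn⟩ := SetLike.exists_of_lt hlt
  exact ⟨u, hu, v, hv, hu0, hvn⟩

/-- the abstract end of the argument: `J0' = 0` forces `ℓ = ℓ'` -/
theorem eq_of_J'_bot {V : Type*} [AddCommGroup V] [Module F V] {f : V →ₗ[F] V →ₛₗ[σ] F}
    {ℓ ℓ' : Submodule F V} {N N' : V →ₗ[F] V} (hG : PairGeo f ℓ ℓ' N N')
    (h0 : ℓ.map N' = ⊥) : ℓ = ℓ' := by
  have h1 : ℓ'.map N = ⊥ := by
    rw [← hG.N_J', h0, Submodule.map_bot]
  have h2 := hG.J_sup
  have h3 := hG.J'_sup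
  rw [h1, bot_sup_eq] at h2
  rw [h0, bot_sup_eq] at h3
  rw [← h2]
  exact h3

/-- EVENF with the instances of the packages DE, E2, E3D, E3E (and PGM, RL) as hypotheses. -/
theorem even_false_of (hσ : Invol σ) (hβ : IsHerm β) [Finite F] (h2 : (2 : F) = 0)
    {x : ι → F} {g : Matrix ι κ F ≃ₗ[F] Matrix ι κ F} {d : ℕ} (hd : 1 ≤ d)
    (hne : fibB (κ := κ) x ≠ Lg x g)
    (hdim : finrank F ↥(fibB (κ := κ) x ⊓ Lg x g) = d)
    (hG : PairGeo (tf α β) (fibB x) (Lg x g) (nII α x) (Ng α x g))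
    (hDE : (∀ u ∈ subB x (fibB x ⊓ Lg x g), ∀ v ∈ subB x ((Lg x g).map (nII α x)), β u v = 0) ∧
      NondegOn β (subB x (fibB x ⊓ Lg x g)) ∧
      finrank F ↥(subB x (fibB x ⊓ Lg x g)) = finrank F ↥(fibB (κ := κ) x ⊓ Lg x g) ∧
      (∀ X ∈ fibB x ⊓ Lg x g, ∃ e ∈ subB x (fibB x ⊓ Lg x g), X = vecMulVec x e))
    (hE2 : ∀ y : κ → F, y ≠ 0 → β y y = 0 → ∀ c : F, σ c = -c → c ≠ 0 →
      (∀ X ∈ fibB x ⊓ Lg x g,
        tmE (1 : (ι → F) ≃ₗ[F] (ι → F)) (utv β y c) X ∈ fibB x ⊓ Lg x g) →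
      ∃ s₁ : F, s₁ ≠ 0 ∧ σ s₁ = -s₁ ∧ ∀ X, tmE (utv α x s₁) (utv β y c) (Ng α x g X) =
        Ng α x g (tmE (utv α x s₁) (utv β y c) X))
    (hE3D : ∀ y : κ → F, y ≠ 0 → β y y = 0 → vecMulVec x y ∈ Lg x g → ∀ s₁ c : F,
      s₁ ≠ 0 → c ≠ 0 →
      (∀ X, tmE (utv α x s₁) (utv β y c) (Ng α x g X) =
        Ng α x g (tmE (utv α x s₁) (utv β y c) X)) →
      ∀ X ∈ (fibB x).map (Ng α x g), ∃ l : F, ctrA α x X = l • y)
    (hE3E : finrank F ↥(fibB (κ := κ) x ⊓ Lg x g) = 1 →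
      (∀ y : κ → F, y ≠ 0 → β y y = 0 → vecMulVec x y ∈ (Lg x g).map (nII α x) →
        ∃ s₁ c : F, s₁ ≠ 0 ∧ c ≠ 0 ∧ ∀ X, tmE (utv α x s₁) (utv β y c) (Ng α x g X) =
          Ng α x g (tmE (utv α x s₁) (utv β y c) X)) → False) : False := by
  obtain ⟨hDEorth, hDnd, hDfr, hIpure⟩ := hDE
  have hneg1 : (-1 : F) = 1 := by linear_combination (-1 : F) * h2
  have hc1 : σ (1 : F) = -1 := by rw [map_one, hneg1]
  set D := subB x (fibB (κ := κ) x ⊓ Lg x g) with hD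
  rcases Nat.lt_or_ge d 2 with hlt | hge
  · -- d = 1
    have hd1 : d = 1 := by omega
    refine hE3E (by rw [hdim, hd1]) ?_
    intro y hy0 hy hyE
    have hsI : ∀ X ∈ fibB x ⊓ Lg x g,
        tmE (1 : (ι → F) ≃ₗ[F] (ι → F)) (utv β y 1) X ∈ fibB x ⊓ Lg x g := by
      intro X hX
      obtain ⟨e, he, rfl⟩ := hIpure X hX
      have h0 : β e y = 0 := hDEorth e he y hyE
      rw [tmE_one_utv_pure x hy, h0, mul_zero, zero_smul, add_zero]
      exact hX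
    obtain ⟨s₁, hs₁, _, hcomm⟩ := hE2 y hy0 hy 1 hc1 one_ne_zero hsI
    exact ⟨s₁, 1, hs₁, one_ne_zero, hcomm⟩
  · -- d ≥ 2
    have hDdim : 2 ≤ finrank F ↥D := by rw [hDfr, hdim]; exact hge
    obtain ⟨u, hu, v, hv, hu0, hvn⟩ := exists_pair_of_two_le hDdim
    obtain ⟨a, b, hy₁0, hy₁⟩ := exists_iso hσ hβ hu0 hvn
    set y₁ := a • u + b • v with hy₁def
    have hy₁D : y₁ ∈ D := D.add_mem (D.smul_mem _ hu) (D.smul_mem _ hv)
    obtain ⟨y₂, hy₂D, hy₂, h12⟩ := exists_partner hσ hβ hDnd hy₁D hy₁0 hy₁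
    have hy₂0 : y₂ ≠ 0 := by
      intro h0
      rw [h0, map_zero] at h12
      exact zero_ne_one h12
    -- the key consequence for an isotropic vector of `D`
    have key : ∀ y ∈ D, y ≠ 0 → β y y = 0 →
        ∀ X ∈ (fibB x).map (Ng α x g), ∃ l : F, ctrA α x X = l • y := by
      intro y hyD hy0 hy
      have hsI : ∀ X ∈ fibB x ⊓ Lg x g,
          tmE (1 : (ι → F) ≃ₗ[F] (ι → F)) (utv β y 1) X ∈ fibB x ⊓ Lg x g := by
        intro X hX
        obtain ⟨e, he, rfl⟩ := hIpure X hX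
        rw [tmE_one_utv_pure x hy]
        have : e + (1 * β e y) • y ∈ D := D.add_mem he (D.smul_mem _ hyD)
        exact this
      obtain ⟨s₁, hs₁, _, hcomm⟩ := hE2 y hy0 hy 1 hc1 one_ne_zero hsI
      have hyL : vecMulVec x y ∈ Lg x g := (mem_subB.1 hyD).2
      exact hE3D y hy0 hy hyL s₁ 1 hs₁ one_ne_zero hcomm
    apply hne
    apply eq_of_J'_bot hG
    rw [Submodule.eq_bot_iff]
    intro X hX
    obtain ⟨l₁, h1⟩ := key y₁ hy₁D hy₁0 hy₁ X hX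
    obtain ⟨l₂, h2'⟩ := key y₂ hy₂D hy₂0 hy₂ X hX
    have h21 : β y₂ y₁ = 1 := by rw [hβ y₁ y₂, h12, map_one]
    have hl₂ : l₂ = 0 := by
      have e1 : β (ctrA α x X) y₁ = 0 := by
        rw [h1, map_smul, LinearMap.smul_apply, hy₁, smul_zero]
      rw [h2', map_smul, LinearMap.smul_apply, h21, smul_eq_mul, mul_one] at e1
      exact e1
    have hctr : ctrA α x X = 0 := by rw [h2', hl₂, zero_smul]
    have hNX : nII (κ := κ) α x X = 0 := by
      rw [Helper17_UT_BAS1.nII_apply, hctr]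
      ext i j
      simp [vecMulVec_apply]
    exact hG.N_inj X hX hNX

end Cfsg.Agent.Lib.Helper42_UT_EVENFaux
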