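import Mathlib
import Cfsg.Agent.Lib.Helper37_UTDefs
import Cfsg.Agent.Lib.Helper37_UTPairDefs

set_option autoImplicit false
set_option linter.unusedSectionVars false
set_option linter.unusedVariables false

/-!
# utens_packages UT-ODDF (helper37): the abstract core of `odd_false`
(`odd_false_abs`: the conclusions of ODDTR, GAM, KEYB for the pair as hypotheses).
-/

namespace Cfsg.Agent.Lib.Helper42_UT_ODDFaux

open Module
open Cfsg.Agent.Lib.Helper94_Herm Cfsg.Agent.Lib.Helper13_PSUSimple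
open Cfsg.Agent.Lib.Helper37_UTPairDefs

section abs

variable {F : Type*} [Field F] {V : Type*} [AddCommGroup V] [Module F V] {σ : F →+* F}
variable {f : V →ₗ[F] V →ₛₗ[σ] F} {ℓ ℓ' : Submodule F V} {N N' : V →ₗ[F] V}

/-- if `J0 = N ℓ'` is trivial the two lines coincide -/
theorem J0_ne_bot (hG : PairGeo f ℓ ℓ' N N') (hne : ℓ ≠ ℓ') : ℓ'.map N ≠ ⊥ := by
  intro h0
  apply hne
  have h1 : ℓ.map N' = ⊥ := by
    rw [← hG.N'_J, h0, Submodule.map_bot]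
  have h2 := hG.J_sup
  have h3 := hG.J'_sup
  rw [h0, bot_sup_eq] at h2
  rw [h1, bot_sup_eq] at h3
  rw [← h2]
  exact h3

/-- an element of `Gam` fixing `I` pointwise and stabilising `J0` stabilises `ℓ` -/
theorem stab_line (hG : PairGeo f ℓ ℓ' N N') {γ : V ≃ₗ[F] V}
    (hJ : ∀ u ∈ ℓ'.map N, γ u ∈ ℓ'.map N) (hI : ∀ v ∈ ℓ ⊓ ℓ', γ v = v) :
    ∀ X ∈ ℓ, γ X ∈ ℓ := by
  intro X hX
  rw [← hG.J_sup] at hX
  obtain ⟨u, hu, v, hv, rfl⟩ := Submodule.mem_sup.1 hX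
  rw [map_add, hI v hv]
  have h1 : γ u ∈ ℓ := by
    have := hJ u hu
    rw [← hG.J_sup]
    exact Submodule.mem_sup_left this
  exact ℓ.add_mem h1 hv.1

/-- abstract form of `odd_false` -/
theorem odd_false_abs (hG : PairGeo f ℓ ℓ' N N') (hne : ℓ ≠ ℓ')
    (hOT : ℓ'.map N ≠ ⊥ → ∃ γ ∈ Gam σ N N', (∀ u ∈ ℓ'.map N, γ u ∈ ℓ'.map N) ∧
      ¬ ∃ s : F, ∀ w ∈ ℓ'.map N ⊔ ℓ.map N', γ w = w + s • N w)
    (hGF : ∀ γ ∈ Gam σ N N', ∀ v ∈ ℓ ⊓ ℓ', γ v = v)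
    (hKB : ∀ γ ∈ Gam σ N N', (∀ X ∈ ℓ, γ X ∈ ℓ) → ∃ s : F, σ s = -s ∧ ∀ X, γ X = X + s • N X) :
    False := by
  obtain ⟨γ, hγ, hJ, hno⟩ := hOT (J0_ne_bot hG hne)
  obtain ⟨s, _, hs⟩ := hKB γ hγ (stab_line hG hJ (hGF γ hγ))
  exact hno ⟨s, fun w _ => hs w⟩

end abs

end Cfsg.Agent.Lib.Helper42_UT_ODDFaux
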