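import Mathlib
import Cfsg.Agent.Lib.Helper37_UTDefs
import Cfsg.Agent.Lib.Helper37_UTPairDefs

set_option autoImplicit false
set_option linter.unusedSectionVars false
set_option linter.unusedVariables false

/-!
# UTENS package UT-GAM (architect helper37; formalised by helper53)

The group `Gam σ N N'` generated by the two root groups of a maximal pair: `gam_facts`
(closure induction), and `inter_translate`.
-/

namespace Cfsg.Agent.Lib.Helper53_UT_GAM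

open Module
open Cfsg.Agent.Lib.Helper94_Herm Cfsg.Agent.Lib.Helper13_PSUSimple
open Cfsg.Agent.Lib.Helper37_UTPairDefs

variable {F : Type*} [Field F] {V : Type*} [AddCommGroup V] [Module F V] {σ : F →+* F}
variable {f : V →ₗ[F] V →ₛₗ[σ] F} {ℓ ℓ' : Submodule F V} {N N' : V →ₗ[F] V}

/-- the five facts of `gam_facts`, as a predicate on `γ` -/
def GamQ (f : V →ₗ[F] V →ₛₗ[σ] F) (ℓ ℓ' : Submodule F V) (N N' : V →ₗ[F] V)
    (γ : V ≃ₗ[F] V) : Prop :=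
  γ ∈ uG f ∧ (∀ w ∈ ℓ'.map N ⊔ ℓ.map N', γ w ∈ ℓ'.map N ⊔ ℓ.map N') ∧
    (∀ v ∈ orthS f (ℓ'.map N ⊔ ℓ.map N'), γ v - v ∈ ℓ ⊓ ℓ') ∧
    (∀ v ∈ orthS f (ℓ'.map N ⊔ ℓ.map N') ⊓ orthS f (ℓ ⊓ ℓ'), γ v = v) ∧
    (∀ v ∈ ℓ ⊓ ℓ', γ v = v)

/-- a root operator squares to zero -/
theorem h53_rootOp_sq (hℓ : IsRootOp f ℓ N) (v : V) : N (N v) = 0 := by
  have h1 : N v ∈ ℓ := by
    rw [← hℓ.range_eq]
    exact LinearMap.mem_range_self N v
  have h2 : N v ∈ LinearMap.ker N := by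
    rw [hℓ.ker_eq]
    exact hℓ.ti h1
  exact h2

/-- `1 + s N` is an isometry when `σ s = -s` -/
theorem h53_root_mem_uG (hℓ : IsRootOp f ℓ N) {g : V ≃ₗ[F] V} {s : F} (hs : σ s = -s)
    (hg : ∀ v, g v = v + s • N v) : g ∈ uG f := by
  intro u v
  have h1 : f (N u) (N v) = 0 := by
    have hu : N u ∈ ℓ := by
      rw [← hℓ.range_eq]
      exact LinearMap.mem_range_self N u
    have hv : N v ∈ ℓ := by
      rw [← hℓ.range_eq]
      exact LinearMap.mem_range_self N v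
    exact hℓ.ti hu (N v) hv
  rw [hg, hg]
  simp only [map_add, map_smul, map_smulₛₗ, LinearMap.add_apply, LinearMap.smul_apply,
    smul_eq_mul, h1, hℓ.sa u v, hs]
  ring

/-- the inverse of `1 + s N` is `1 + (-s) N` -/
theorem h53_root_inv (hℓ : IsRootOp f ℓ N) {g : V ≃ₗ[F] V} {s : F}
    (hg : ∀ v, g v = v + s • N v) (v : V) : g⁻¹ v = v + (-s) • N v := by
  apply g.injective
  have h1 : g (g⁻¹ v) = v := LinearEquiv.apply_symm_apply g v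
  rw [h1, hg, map_add, map_smul, h53_rootOp_sq hℓ, smul_zero, add_zero, neg_smul]
  abel

/-- `N` maps `W` into `J0 ≤ W` -/
theorem h53_N_W (hG : PairGeo f ℓ ℓ' N N') {w : V} (hw : w ∈ ℓ'.map N ⊔ ℓ.map N') :
    N w ∈ ℓ'.map N ⊔ ℓ.map N' := by
  obtain ⟨a, ha, b, hb, rfl⟩ := Submodule.mem_sup.mp hw
  rw [map_add, hG.N_J a ha, zero_add]
  have h1 : N b ∈ (ℓ.map N').map N := Submodule.mem_map_of_mem hb
  rw [hG.N_J'] at h1
  exact Submodule.mem_sup_left h1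

/-- `N'` maps `W` into `J0' ≤ W` -/
theorem h53_N'_W (hG : PairGeo f ℓ ℓ' N N') {w : V} (hw : w ∈ ℓ'.map N ⊔ ℓ.map N') :
    N' w ∈ ℓ'.map N ⊔ ℓ.map N' := by
  obtain ⟨a, ha, b, hb, rfl⟩ := Submodule.mem_sup.mp hw
  rw [map_add, hG.N'_J' b hb, add_zero]
  have h1 : N' a ∈ (ℓ'.map N).map N' := Submodule.mem_map_of_mem ha
  rw [hG.N'_J] at h1
  exact Submodule.mem_sup_right h1

theorem h53_GamQ_root (hℓ : IsRootOp f ℓ N) (hG : PairGeo f ℓ ℓ' N N')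
    (hU : PairGeoU f ℓ ℓ' N N') {g : V ≃ₗ[F] V} {s : F} (hs : σ s = -s)
    (hg : ∀ v, g v = v + s • N v) : GamQ f ℓ ℓ' N N' g := by
  refine ⟨h53_root_mem_uG hℓ hs hg, fun w hw => ?_, fun v hv => ?_, fun v hv => ?_, fun v hv => ?_⟩
  · rw [hg]
    exact add_mem hw (Submodule.smul_mem _ _ (h53_N_W hG hw))
  · rw [hg, add_sub_cancel_left]
    exact Submodule.smul_mem _ _ (hU.N_Worth v hv)
  · rw [hg, hU.N_U0 v hv, smul_zero, add_zero]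
  · rw [hg, hG.N_I v hv, smul_zero, add_zero]

theorem h53_GamQ_root' (hℓ' : IsRootOp f ℓ' N') (hG : PairGeo f ℓ ℓ' N N')
    (hU : PairGeoU f ℓ ℓ' N N') {g : V ≃ₗ[F] V} {s : F} (hs : σ s = -s)
    (hg : ∀ v, g v = v + s • N' v) : GamQ f ℓ ℓ' N N' g := by
  refine ⟨h53_root_mem_uG hℓ' hs hg, fun w hw => ?_, fun v hv => ?_, fun v hv => ?_,
    fun v hv => ?_⟩
  · rw [hg]
    exact add_mem hw (Submodule.smul_mem _ _ (h53_N'_W hG hw))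
  · rw [hg, add_sub_cancel_left]
    exact Submodule.smul_mem _ _ (hU.N'_Worth v hv)
  · rw [hg, hU.N'_U0 v hv, smul_zero, add_zero]
  · rw [hg, hG.N'_I v hv, smul_zero, add_zero]

theorem h53_GamQ_one : GamQ f ℓ ℓ' N N' 1 := by
  refine ⟨Subgroup.one_mem _, fun w hw => hw, fun v hv => ?_, fun v hv => rfl, fun v hv => rfl⟩
  rw [LinearEquiv.coe_one, id_eq, sub_self]
  exact zero_mem _

theorem h53_GamQ_mul {γ₁ γ₂ : V ≃ₗ[F] V} (h₁ : GamQ f ℓ ℓ' N N' γ₁)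
    (h₂ : GamQ f ℓ ℓ' N N' γ₂) : GamQ f ℓ ℓ' N N' (γ₁ * γ₂) := by
  obtain ⟨a₁, b₁, c₁, d₁, e₁⟩ := h₁
  obtain ⟨a₂, b₂, c₂, d₂, e₂⟩ := h₂
  refine ⟨Subgroup.mul_mem _ a₁ a₂, fun w hw => ?_, fun v hv => ?_, fun v hv => ?_,
    fun v hv => ?_⟩
  · rw [LinearEquiv.mul_apply]
    exact b₁ _ (b₂ w hw)
  · rw [LinearEquiv.mul_apply]
    have h1 : γ₁ (γ₂ v) - v = γ₁ (γ₂ v - v) + (γ₁ v - v) := by
      rw [map_sub]
      abel
    rw [h1, e₁ _ (c₂ v hv)]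
    exact add_mem (c₂ v hv) (c₁ v hv)
  · rw [LinearEquiv.mul_apply, d₂ v hv, d₁ v hv]
  · rw [LinearEquiv.mul_apply, e₂ v hv, e₁ v hv]

/-- GAM (M) -/
theorem gam_facts (hσ : Invol σ) (hf : IsHerm f) (hℓ : IsRootOp f ℓ N) (hℓ' : IsRootOp f ℓ' N')
    (hG : PairGeo f ℓ ℓ' N N') (hU : PairGeoU f ℓ ℓ' N N') {γ : V ≃ₗ[F] V}
    (hγ : γ ∈ Gam σ N N') :
    γ ∈ uG f ∧ (∀ w ∈ ℓ'.map N ⊔ ℓ.map N', γ w ∈ ℓ'.map N ⊔ ℓ.map N') ∧
      (∀ v ∈ orthS f (ℓ'.map N ⊔ ℓ.map N'), γ v - v ∈ ℓ ⊓ ℓ') ∧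
      (∀ v ∈ orthS f (ℓ'.map N ⊔ ℓ.map N') ⊓ orthS f (ℓ ⊓ ℓ'), γ v = v) ∧
      (∀ v ∈ ℓ ⊓ ℓ', γ v = v) := by
  change GamQ f ℓ ℓ' N N' γ
  unfold Gam at hγ
  induction hγ using Subgroup.closure_induction'' with
  | mem g hg =>
    obtain ⟨s, hs, h | h⟩ := hg
    · exact h53_GamQ_root hℓ hG hU hs h
    · exact h53_GamQ_root' hℓ' hG hU hs h
  | inv_mem g hg =>
    obtain ⟨s, hs, h | h⟩ := hg
    · exact h53_GamQ_root hℓ hG hU (s := -s) (by rw [map_neg, hs]) (h53_root_inv hℓ h)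
    · exact h53_GamQ_root' hℓ' hG hU (s := -s) (by rw [map_neg, hs]) (h53_root_inv hℓ' h)
  | one => exact h53_GamQ_one
  | mul x y _ _ hx hy => exact h53_GamQ_mul hx hy

/-- the image of a line under `1 + s N` meets the line in `(1 + s N) K` (used for `hm`, `hm'`) -/
theorem inter_translate {u : V ≃ₗ[F] V} {s : F} (hs : s ≠ 0) (hu : ∀ v, u v = v + s • N v)
    (hr : LinearMap.range N = ℓ) :
    ℓ'.map u.toLinearMap ⊓ ℓ' = (ℓ' ⊓ (ℓ ⊓ ℓ').comap N).map u.toLinearMap := by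
  apply le_antisymm
  · rintro y ⟨⟨v, hv, rfl⟩, hy⟩
    refine Submodule.mem_map_of_mem ⟨hv, ?_⟩
    change N v ∈ ℓ ⊓ ℓ'
    refine ⟨?_, ?_⟩
    · rw [← hr]
      exact LinearMap.mem_range_self N v
    · have h1 : u v ∈ ℓ' := hy
      rw [hu] at h1
      have h2 : s • N v ∈ ℓ' := by
        have := sub_mem h1 hv
        rwa [add_sub_cancel_left] at this
      have h3 := Submodule.smul_mem ℓ' s⁻¹ h2
      rwa [smul_smul, inv_mul_cancel₀ hs, one_smul] at h3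
  · rintro y ⟨v, ⟨hv, hNv⟩, rfl⟩
    refine ⟨Submodule.mem_map_of_mem hv, ?_⟩
    change u v ∈ ℓ'
    rw [hu]
    have h1 : N v ∈ ℓ ⊓ ℓ' := hNv
    exact add_mem hv (Submodule.smul_mem _ _ h1.2)

end Cfsg.Agent.Lib.Helper53_UT_GAM
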