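import Mathlib
import Cfsg.Agent.Lib.Helper37_UTDefs
import Cfsg.Agent.Lib.Helper37_UTPairDefs
import Cfsg.Agent.Lib.Helper17_UT_BAS1
import Cfsg.Agent.Lib.Helper42_UT_BAS6
import Cfsg.Agent.Lib.Helper44_UT_BAS4

set_option autoImplicit false
set_option linter.unusedSectionVars false
set_option linter.unusedVariables false

/-!
UTENS package E3D (helper37's market, wave 2c): `y ∈ D`.  If `w = t_x(s₁) ⊗ t_y(c)` commutes with
the root operator `N'` of the second line and `x ⊗ y` lies on that line, then the `A`-contraction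
of every element of `J0' = N' ℓ` is a multiple of `y`.
-/

namespace Cfsg.Agent.Lib.Helper92_UT_E3D

open Matrix Module
open Cfsg.Agent.Lib.Helper98_ExtDefs Cfsg.Agent.Lib.Helper97_TensDefs
open Cfsg.Agent.Lib.Helper94_Herm Cfsg.Agent.Lib.Helper13_PSUSimple
open Cfsg.Agent.Lib.Helper67_UT2Defs Cfsg.Agent.Lib.Helper37_UTDefs
open Cfsg.Agent.Lib.Helper37_UTPairDefs

variable {F : Type*} [Field F] {ι κ : Type*} [Fintype ι] [Fintype κ] [DecidableEq ι]
  [DecidableEq κ] {σ : F →+* F}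
variable {α : (ι → F) →ₗ[F] (ι → F) →ₛₗ[σ] F} {β : (κ → F) →ₗ[F] (κ → F) →ₛₗ[σ] F}
variable {M : Subgroup (Matrix ι κ F ≃ₗ[F] Matrix ι κ F)}

/-- the element `t_x(s₁) ⊗ t_y(c)` as a map -/
theorem w_apply {x : ι → F} (hx : α x x = 0) {y : κ → F} (hy : β y y = 0) (s₁ c : F)
    (X : Matrix ι κ F) :
    tmE (utv α x s₁) (utv β y c) X =
      X + c • vecMulVec (ctrB β y X) y +
        s₁ • vecMulVec x (ctrA α x X + (c * α (ctrB β y X) x) • y) := by
  have h1 : tmE (utv α x s₁) (utv β y c) =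
      tmE (utv α x s₁) (1 : (κ → F) ≃ₗ[F] (κ → F)) *
        tmE (1 : (ι → F) ≃ₗ[F] (ι → F)) (utv β y c) := by
    rw [Cfsg.Agent.Lib.Helper44_UT_BAS4.tmE_mul, mul_one, one_mul]
  rw [h1, LinearEquiv.mul_apply, Cfsg.Agent.Lib.Helper42_UT_BAS6.tmE_utv_right hy,
    Cfsg.Agent.Lib.Helper42_UT_BAS6.tmE_utv_left hx,
    Cfsg.Agent.Lib.Helper17_UT_BAS1.nII_apply, Cfsg.Agent.Lib.Helper17_UT_BAS1.nI_apply,
    map_add, map_smul, Cfsg.Agent.Lib.Helper17_UT_BAS1.ctrA_pure, smul_smul]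

/-- `w` fixes a pure tensor `x ⊗ b` with `β b y = 0` -/
theorem w_fix {x : ι → F} (hx : α x x = 0) {y : κ → F} (hy : β y y = 0) (s₁ c : F)
    {b : κ → F} (hb : β b y = 0) :
    tmE (utv α x s₁) (utv β y c) (vecMulVec x b) = vecMulVec x b := by
  rw [tmE_pure, utv_self, utv_fix β y c hb]

theorem e3_D (hσ : Invol σ) (hα : IsHerm α) (hαN : NondegOn α ⊤) (hβ : IsHerm β)
    (hβN : NondegOn β ⊤) {x : ι → F} (hx0 : x ≠ 0) (hx : α x x = 0)
    {g : Matrix ι κ F ≃ₗ[F] Matrix ι κ F}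
    (hℓ' : IsRootOp (tf α β) (Lg x g) (Ng α x g))
    (hG : PairGeo (tf α β) (fibB x) (Lg x g) (nII α x) (Ng α x g))
    {y : κ → F} (hy0 : y ≠ 0) (hy : β y y = 0) (hyD : vecMulVec x y ∈ Lg x g) {s₁ c : F}
    (hs₁ : s₁ ≠ 0) (hc0 : c ≠ 0)
    (hcomm : ∀ X, tmE (utv α x s₁) (utv β y c) (Ng α x g X) =
      Ng α x g (tmE (utv α x s₁) (utv β y c) X)) :
    ∀ X ∈ (fibB x).map (Ng α x g), ∃ l : F, ctrA α x X = l • y := by
  intro X hX
  -- `X = N' Z` with `Z ∈ J0 = N ℓ'`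
  rw [← hG.N'_J] at hX
  obtain ⟨Z, hZ, rfl⟩ := hX
  obtain ⟨X', hX', rfl⟩ := hZ
  have hX'' : X' ∈ Lg x g := hX'
  -- `w` fixes `N X'`
  have hb : β (ctrA α x X') y = 0 := by
    rw [← Cfsg.Agent.Lib.Helper17_UT_BAS1.tf_right_pure']
    exact hℓ'.ti hX'' _ hyD
  have hfixZ : tmE (utv α x s₁) (utv β y c) (nII α x X') = nII α x X' := by
    rw [Cfsg.Agent.Lib.Helper17_UT_BAS1.nII_apply]
    exact w_fix hx hy s₁ c hb
  -- hence `w` fixes `N' (N X')`
  have hfix : tmE (utv α x s₁) (utv β y c) (Ng α x g (nII α x X')) = Ng α x g (nII α x X') := by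
    rw [hcomm, hfixZ]
  set Y := Ng α x g (nII α x X') with hY
  rw [w_apply hx hy] at hfix
  -- read off the entries of a row `i₀` with `x i₀ ≠ 0`
  obtain ⟨i₀, hi₀⟩ : ∃ i, x i ≠ 0 := by
    by_contra hcon
    apply hx0
    ext i
    by_contra hi
    exact hcon ⟨i, hi⟩
  have hzero : c • vecMulVec (ctrB β y Y) y +
      s₁ • vecMulVec x (ctrA α x Y + (c * α (ctrB β y Y) x) • y) = 0 := by
    have h := hfix
    rw [add_assoc] at h
    exact add_eq_left.mp h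
  refine ⟨-(c * ctrB β y Y i₀ / (s₁ * x i₀) + c * α (ctrB β y Y) x), ?_⟩
  ext j
  have hij := congrFun (congrFun hzero i₀) j
  simp only [Matrix.add_apply, Matrix.smul_apply, vecMulVec_apply, Pi.add_apply, Pi.smul_apply,
    smul_eq_mul, Matrix.zero_apply] at hij
  simp only [Pi.smul_apply, smul_eq_mul]
  have hne : s₁ * x i₀ ≠ 0 := mul_ne_zero hs₁ hi₀
  field_simp
  linear_combination hij
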