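import Mathlib
import Cfsg.Agent.Lib.Helper37_UTDefs
import Cfsg.Agent.Lib.Helper37_UTPairDefs
import Cfsg.Agent.Lib.Helper17_UT_BAS1
import Cfsg.Agent.Lib.Helper92_UT_E3D

set_option autoImplicit false
set_option linter.unusedSectionVars false
set_option linter.unusedVariables false

/-!
UTENS package E3E (helper37's market, wave 2c): `d = 1`, `y ∈ E`.

Shorter route than the paper proof (no eigenvector argument): `E = subB x J0` has dimension
`b - 1 ≥ 3`, so it contains a nonzero isotropic `y` (`exists_iso`).  For `e ∈ E` with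
`β e y = 0` the element `w = t_x(s₁) ⊗ t_y(c)` fixes `x ⊗ e`, hence (commutation with `N'`) fixes
`N' (x ⊗ e)`, which forces `ctrA α x (N' (x ⊗ e)) ∈ ⟨y⟩`.  But `e ↦ ctrA α x (N' (x ⊗ e))` is
injective on `E` (`N_inj`, `N'_inj`) and `E ⊓ y^⊥` has dimension `≥ b - 2 ≥ 2`.
-/

namespace Cfsg.Agent.Lib.Helper90_UT_E3E

open Matrix Module
open Cfsg.Agent.Lib.Helper98_ExtDefs Cfsg.Agent.Lib.Helper97_TensDefs
open Cfsg.Agent.Lib.Helper94_Herm Cfsg.Agent.Lib.Helper13_PSUSimple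
open Cfsg.Agent.Lib.Helper67_UT2Defs Cfsg.Agent.Lib.Helper37_UTDefs
open Cfsg.Agent.Lib.Helper37_UTPairDefs

variable {F : Type*} [Field F] {ι κ : Type*} [Fintype ι] [Fintype κ] [DecidableEq ι]
  [DecidableEq κ] {σ : F →+* F}
variable {α : (ι → F) →ₗ[F] (ι → F) →ₛₗ[σ] F} {β : (κ → F) →ₗ[F] (κ → F) →ₛₗ[σ] F}
variable {M : Subgroup (Matrix ι κ F ≃ₗ[F] Matrix ι κ F)}

theorem exists_coord_ne {x : ι → F} (hx0 : x ≠ 0) : ∃ i, x i ≠ 0 := by
  by_contra hcon
  apply hx0
  ext i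
  by_contra hi
  exact hcon ⟨i, hi⟩

/-- `w ↦ x ⊗ w` is injective for `x ≠ 0` -/
theorem vmR_injective {x : ι → F} (hx0 : x ≠ 0) : Function.Injective (vmR (κ := κ) x) := by
  obtain ⟨i₀, hi₀⟩ := exists_coord_ne hx0
  intro w w' hww
  ext j
  have h1 := congrFun (congrFun hww i₀) j
  simp only [vmR_apply, vecMulVec_apply] at h1
  exact mul_left_cancel₀ hi₀ h1

theorem fibB_eq_range (x : ι → F) :
    fibB (κ := κ) x = LinearMap.range (vmR (κ := κ) x) := by
  ext X
  rw [mem_fibB, LinearMap.mem_range]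
  constructor
  · rintro ⟨w, rfl⟩
    exact ⟨w, rfl⟩
  · rintro ⟨w, rfl⟩
    exact ⟨w, rfl⟩

theorem finrank_fibB {x : ι → F} (hx0 : x ≠ 0) :
    finrank F ↥(fibB (κ := κ) x) = Fintype.card κ := by
  rw [fibB_eq_range, LinearMap.finrank_range_of_inj (vmR_injective hx0),
    Module.finrank_fintype_fun_eq_card]

/-- `subB x t` has the dimension of `t` when `t ≤ x ⊗ B` -/
theorem finrank_subB {x : ι → F} (hx0 : x ≠ 0) {t : Submodule F (Matrix ι κ F)}
    (ht : t ≤ fibB x) : finrank F ↥(subB x t) = finrank F ↥t := by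
  have h1 : (subB x t).map (vmR x) = t := by
    unfold subB
    rw [Submodule.map_comap_eq_of_le]
    rw [← fibB_eq_range]
    exact ht
  conv_rhs => rw [← h1]
  exact LinearEquiv.finrank_eq
    (Submodule.equivMapOfInjective (vmR x) (vmR_injective hx0) (subB x t))

/-- a fixed point of `w = t_x(s₁) ⊗ t_y(c)` has its `A`-contraction in `⟨y⟩` -/
theorem ctrA_of_fix {x : ι → F} (hx0 : x ≠ 0) (hx : α x x = 0) {y : κ → F} (hy : β y y = 0)
    {s₁ c : F} (hs₁ : s₁ ≠ 0) {Y : Matrix ι κ F}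
    (hfix : tmE (utv α x s₁) (utv β y c) Y = Y) : ∃ l : F, ctrA α x Y = l • y := by
  rw [Cfsg.Agent.Lib.Helper92_UT_E3D.w_apply hx hy] at hfix
  obtain ⟨i₀, hi₀⟩ := exists_coord_ne hx0
  have hzero : c • vecMulVec (ctrB β y Y) y +
      s₁ • vecMulVec x (ctrA α x Y + (c * α (ctrB β y Y) x) • y) = 0 := by
    have h := hfix
    rw [add_assoc] at h
    exact add_eq_left.mp h
  refine ⟨-(c * ctrB β y Y i₀ / (s₁ * x i₀) + c * α (ctrB β y Y) x), ?_⟩
  ext j
  have hij := congrFun (congrFun hzero i₀) j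
  simp only [Matrix.add_apply, Matrix.smul_apply, vecMulVec_apply, Pi.add_apply, Pi.smul_apply,
    smul_eq_mul, Matrix.zero_apply] at hij
  simp only [Pi.smul_apply, smul_eq_mul]
  have hne : s₁ * x i₀ ≠ 0 := mul_ne_zero hs₁ hi₀
  field_simp
  linear_combination hij

theorem e3_E [Finite F] (hσ : Invol σ) (hα : IsHerm α) (hαN : NondegOn α ⊤) (hβ : IsHerm β)
    (hβN : NondegOn β ⊤) (hb : 4 ≤ Fintype.card κ) {x : ι → F} (hx0 : x ≠ 0) (hx : α x x = 0)
    {g : Matrix ι κ F ≃ₗ[F] Matrix ι κ F}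
    (hℓ' : IsRootOp (tf α β) (Lg x g) (Ng α x g))
    (hG : PairGeo (tf α β) (fibB x) (Lg x g) (nII α x) (Ng α x g))
    (hI1 : finrank F ↥(fibB x ⊓ Lg x g) = 1)
    (h : ∀ y : κ → F, y ≠ 0 → β y y = 0 → vecMulVec x y ∈ (Lg x g).map (nII α x) →
      ∃ s₁ c : F, s₁ ≠ 0 ∧ c ≠ 0 ∧ ∀ X, tmE (utv α x s₁) (utv β y c) (Ng α x g X) =
        Ng α x g (tmE (utv α x s₁) (utv β y c) X)) : False := by
  have hJ0le : (Lg x g).map (nII α x) ≤ fibB x := by
    have h1 := hG.J_sup
    exact le_sup_left.trans h1.le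
  -- dimensions
  have hdimJ : finrank F ↥((Lg x g).map (nII α x)) + 1 = Fintype.card κ := by
    have h1 := Submodule.finrank_sup_add_finrank_inf_eq ((Lg x g).map (nII α x))
      (fibB x ⊓ Lg x g)
    rw [hG.J_sup, hG.J_disj, finrank_bot, hI1, finrank_fibB hx0] at h1
    omega
  have hdimE : finrank F ↥(subB x ((Lg x g).map (nII α x))) + 1 = Fintype.card κ := by
    rw [finrank_subB hx0 hJ0le]
    exact hdimJ
  set E := subB x ((Lg x g).map (nII α x)) with hE
  -- two independent vectors of `E`, and an isotropic vector of `E`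
  have h1E : 1 < finrank F ↥E := by omega
  have hEnt : Nontrivial ↥E := Module.nontrivial_of_finrank_pos (R := F) (by omega)
  obtain ⟨e₁, he₁⟩ := exists_ne (0 : ↥E)
  obtain ⟨e₂, hind⟩ := exists_linearIndependent_pair_of_one_lt_finrank h1E he₁
  have he₁0 : (e₁ : κ → F) ≠ 0 := fun h0 => he₁ (Subtype.ext h0)
  have he₂ : (e₂ : κ → F) ∉ Submodule.span F {(e₁ : κ → F)} := by
    intro hmem
    obtain ⟨a, ha⟩ := Submodule.mem_span_singleton.mp hmem
    have h2 := (LinearIndependent.pair_iff.mp hind) a (-1) (by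
      apply Subtype.ext
      simp only [Submodule.coe_add, Submodule.coe_smul, Submodule.coe_zero]
      rw [ha]
      simp)
    exact one_ne_zero (neg_eq_zero.mp h2.2)
  obtain ⟨a, b, hy0, hy⟩ := exists_iso hσ hβ he₁0 he₂
  set y : κ → F := a • (e₁ : κ → F) + b • (e₂ : κ → F) with hydef
  have hyE : y ∈ E := E.add_mem (E.smul_mem a e₁.2) (E.smul_mem b e₂.2)
  obtain ⟨s₁, c, hs₁, hc0, hcomm⟩ := h y hy0 hy hyE
  -- the injective map `T`
  let T : ↥E →ₗ[F] (κ → F) := ctrA α x ∘ₗ Ng α x g ∘ₗ vmR x ∘ₗ E.subtype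
  have hTapp : ∀ e : ↥E, T e = ctrA α x (Ng α x g (vecMulVec x (e : κ → F))) := fun e => rfl
  have hTinj : Function.Injective T := by
    rw [← LinearMap.ker_eq_bot, LinearMap.ker_eq_bot']
    intro e he
    rw [hTapp] at he
    have h1 : nII α x (Ng α x g (vecMulVec x (e : κ → F))) = 0 := by
      rw [Cfsg.Agent.Lib.Helper17_UT_BAS1.nII_apply, he]
      ext i j
      simp [vecMulVec_apply]
    have h2 : Ng α x g (vecMulVec x (e : κ → F)) = 0 :=
      hG.N_inj _ (Submodule.mem_map_of_mem ⟨(e : κ → F), rfl⟩) h1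
    have h3 : vecMulVec x (e : κ → F) = 0 := hG.N'_inj _ e.2 h2
    apply Subtype.ext
    apply vmR_injective hx0
    rw [vmR_apply, h3, Submodule.coe_zero, map_zero]
  -- the kernel of `β · y` on `E`
  let φ : ↥E →ₗ[F] F := (β.flip y) ∘ₗ E.subtype
  have hφapp : ∀ e : ↥E, φ e = β (e : κ → F) y := fun e => rfl
  have hker : finrank F ↥(LinearMap.ker φ) + 1 ≥ finrank F ↥E := by
    have h1 := LinearMap.finrank_range_add_finrank_ker φ
    have h2 : finrank F ↥(LinearMap.range φ) ≤ 1 := by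
      have h3 := Submodule.finrank_le (LinearMap.range φ)
      rwa [Module.finrank_self] at h3
    omega
  -- `T` maps the kernel into `⟨y⟩`
  have hmap : (LinearMap.ker φ).map T ≤ Submodule.span F {y} := by
    rintro _ ⟨e, he, rfl⟩
    have hey : β (e : κ → F) y = 0 := by
      rw [← hφapp]
      exact he
    have hfixZ : tmE (utv α x s₁) (utv β y c) (vecMulVec x (e : κ → F)) =
        vecMulVec x (e : κ → F) := Cfsg.Agent.Lib.Helper92_UT_E3D.w_fix hx hy s₁ c hey
    have hfix : tmE (utv α x s₁) (utv β y c) (Ng α x g (vecMulVec x (e : κ → F))) =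
        Ng α x g (vecMulVec x (e : κ → F)) := by
      rw [hcomm, hfixZ]
    obtain ⟨l, hl⟩ := ctrA_of_fix hx0 hx hy hs₁ hfix
    rw [hTapp, hl]
    exact Submodule.mem_span_singleton.mpr ⟨l, rfl⟩
  have hle : finrank F ↥(LinearMap.ker φ) ≤ 1 := by
    have h1 : finrank F ↥((LinearMap.ker φ).map T) = finrank F ↥(LinearMap.ker φ) :=
      LinearEquiv.finrank_eq
        (Submodule.equivMapOfInjective T hTinj (LinearMap.ker φ)).symm
    have h2 := Submodule.finrank_mono hmap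
    have h3 : finrank F ↥(Submodule.span F {y}) = 1 := finrank_span_singleton hy0
    omega
  omega

end Cfsg.Agent.Lib.Helper90_UT_E3E
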