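import Mathlib
import Cfsg.Agent.Lib.Helper37_UTDefs
import Cfsg.Agent.Lib.Helper37_UTPairDefs
import Cfsg.Agent.Lib.Helper31_UT_BAS3
import Cfsg.Agent.Lib.Helper85_UT_RL
import Cfsg.Agent.Lib.Helper77_UT_G2II
import Cfsg.Agent.Lib.Helper92_UT_PGEOB
import Cfsg.Agent.Lib.Helper89_UT_PGM
import Cfsg.Agent.Lib.Helper53_UT_GAM
import Cfsg.Agent.Lib.Helper78_UT_KEYBaux
import Cfsg.Agent.Lib.Helper91_UT_KEYGa
import Cfsg.Agent.Lib.Helper43_UT_ODDALG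
import Cfsg.Agent.Lib.Helper51_UT_ODDTR
import Cfsg.Agent.Lib.Helper42_UT_ODDFaux
import Cfsg.Agent.Lib.Helper21_UT_DE
import Cfsg.Agent.Lib.Helper20_UT_E2
import Cfsg.Agent.Lib.Helper92_UT_E3D
import Cfsg.Agent.Lib.Helper90_UT_E3E
import Cfsg.Agent.Lib.Helper42_UT_EVENFaux

set_option autoImplicit false
set_option linter.unusedSectionVars false
set_option linter.unusedVariables false

/-!
# UTENS Part II: the maximal pair argument (assembly, helper37)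
`pairGeo_model`, `key_base`, `key`, `odd_false`, `e2`, `even_false` from the packages of the UTENS
market (helpers 10, 20, 21, 31, 42, 43, 51, 53, 63, 75, 77, 78, 85, 89, 90, 91, 92).
-/

namespace Cfsg.Agent.Lib.Helper37_UTPairAsm

open Matrix Module
open Cfsg.Agent.Lib.Helper98_ExtDefs Cfsg.Agent.Lib.Helper97_TensDefs
open Cfsg.Agent.Lib.Helper94_Herm Cfsg.Agent.Lib.Helper13_PSUSimple
open Cfsg.Agent.Lib.Helper67_UT2Defs Cfsg.Agent.Lib.Helper37_UTDefs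
open Cfsg.Agent.Lib.Helper37_UTPairDefs

variable {F : Type*} [Field F] {ι κ : Type*} [Fintype ι] [Fintype κ] [DecidableEq ι]
  [DecidableEq κ] {σ : F →+* F}
variable {α : (ι → F) →ₗ[F] (ι → F) →ₛₗ[σ] F} {β : (κ → F) →ₗ[F] (κ → F) →ₛₗ[σ] F}
variable {M : Subgroup (Matrix ι κ F ≃ₗ[F] Matrix ι κ F)}

theorem pairGeo_model [Finite F] (hC : UTCtx α β M) (hII : RadStdII α M) (hS : StabII α M)
    {x : ι → F} (hx0 : x ≠ 0) (hx : α x x = 0) {d : ℕ} (hd : 1 ≤ d) (hmax : MaxD x M d)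
    {g₁ g₂ : Matrix ι κ F ≃ₗ[F] Matrix ι κ F} (hp : IsPair x M d g₁ g₂) :
    PairGeo (tf α β) (Lg x g₁) (Lg x g₂) (Ng α x g₁) (Ng α x g₂) ∧
      PairGeoU (tf α β) (Lg x g₁) (Lg x g₂) (Ng α x g₁) (Ng α x g₂) := by
  have hB : UTBase α β M := UTCtx.base hC
  have hℓ : IsRootOp (tf α β) (Lg x g₁) (Ng α x g₁) :=
    (Cfsg.Agent.Lib.Helper85_UT_RL.rootLine_Lg hB hII hx0 hx hp.mem₁).toIsRootOp
  have hℓ' : IsRootOp (tf α β) (Lg x g₂) (Ng α x g₂) :=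
    (Cfsg.Agent.Lib.Helper85_UT_RL.rootLine_Lg hB hII hx0 hx hp.mem₂).toIsRootOp
  have hf : IsHerm (tf α β) := Cfsg.Agent.Lib.Helper31_UT_BAS3.tf_isHerm hC.hσ hC.hα hC.hβ
  have hfN : NondegOn (tf α β) ⊤ :=
    Cfsg.Agent.Lib.Helper31_UT_BAS3.tf_nondeg hC.hσ hC.hα hC.hβ hC.hαN hC.hβN
  refine Cfsg.Agent.Lib.Helper89_UT_PGM.pairGeo_model_of hC hd hmax hp hℓ hℓ' ?_ ?_ ?_ ?_ ?_
  · rw [Cfsg.Agent.Lib.Helper85_UT_RL.finrank_Lg hx0, Cfsg.Agent.Lib.Helper85_UT_RL.finrank_Lg hx0]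
  · intro g s X
    exact Cfsg.Agent.Lib.Helper85_UT_RL.rtE_apply hx g s X
  · intro g hg s hs
    exact Cfsg.Agent.Lib.Helper85_UT_RL.rtE_mem hB hx hg hs
  · intro g₁ hg₁ g₂ hg₂ s hs hs0 hst hmeet
    exact Cfsg.Agent.Lib.Helper77_UT_G2II.g2II hC hII hS hx0 hx hg₁ hg₂ hs hs0 hst hmeet
  · intro hG
    exact Cfsg.Agent.Lib.Helper92_UT_PGEOB.pairGeoU hC.hσ hf hfN hℓ hℓ' hG

theorem key_base [Finite F] (hC : UTCtx α β M) (hII : RadStdII α M) (hS : StabII α M)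
    {x : ι → F} (hx0 : x ≠ 0) (hx : α x x = 0) {d : ℕ} (hd : 1 ≤ d) (hmax : MaxD x M d)
    {g : Matrix ι κ F ≃ₗ[F] Matrix ι κ F} (hp : IsPair x M d 1 g)
    {γ : Matrix ι κ F ≃ₗ[F] Matrix ι κ F} (hγ : γ ∈ Gam σ (nII (κ := κ) α x) (Ng α x g))
    (hst : ∀ X ∈ fibB (κ := κ) x, γ X ∈ fibB (κ := κ) x) :
    ∃ s : F, σ s = -s ∧ ∀ X, γ X = X + s • nII α x X := by
  have hB : UTBase α β M := UTCtx.base hC
  have hR1 := Cfsg.Agent.Lib.Helper85_UT_RL.rootLine_Lg hB hII hx0 hx hp.mem₁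
  have hR2 := Cfsg.Agent.Lib.Helper85_UT_RL.rootLine_Lg hB hII hx0 hx hp.mem₂
  have hf : IsHerm (tf α β) := Cfsg.Agent.Lib.Helper31_UT_BAS3.tf_isHerm hC.hσ hC.hα hC.hβ
  obtain ⟨hG, hU⟩ := pairGeo_model hC hII hS hx0 hx hd hmax hp
  have hγ' : γ ∈ Gam σ (Ng (κ := κ) α x 1) (Ng α x g) := hγ
  exact Cfsg.Agent.Lib.Helper78_UT_KEYBaux.key_base_of hC hS hx0 hx hd hp hR1 hR2 hG hU hγ
    (Cfsg.Agent.Lib.Helper53_UT_GAM.gam_facts hC.hσ hf hR1.toIsRootOp hR2.toIsRootOp hG hU hγ') hst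

theorem key [Finite F] (hC : UTCtx α β M) (hII : RadStdII α M) (hS : StabII α M)
    {x : ι → F} (hx0 : x ≠ 0) (hx : α x x = 0) {d : ℕ} (hd : 1 ≤ d) (hmax : MaxD x M d)
    {g₁ g₂ : Matrix ι κ F ≃ₗ[F] Matrix ι κ F} (hp : IsPair x M d g₁ g₂)
    {γ : Matrix ι κ F ≃ₗ[F] Matrix ι κ F} (hγ : γ ∈ Gam σ (Ng α x g₁) (Ng α x g₂)) :
    ((∀ X ∈ Lg x g₁, γ X ∈ Lg x g₁) → ∃ s : F, σ s = -s ∧ ∀ X, γ X = X + s • Ng α x g₁ X) ∧
    ((∀ X ∈ Lg x g₂, γ X ∈ Lg x g₂) → ∃ s : F, σ s = -s ∧ ∀ X, γ X = X + s • Ng α x g₂ X) :=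
  Cfsg.Agent.Lib.Helper91_UT_KEYGa.key_aux
    (fun {_} hp {_} hγ hst => key_base hC hII hS hx0 hx hd hmax hp hγ hst) hp hγ

theorem odd_false [Finite F] (hC : UTCtx α β M) (hII : RadStdII α M) (hS : StabII α M)
    (h2 : (2 : F) ≠ 0) {x : ι → F} (hx0 : x ≠ 0) (hx : α x x = 0) {d : ℕ} (hd : 1 ≤ d)
    (hmax : MaxD x M d) {g : Matrix ι κ F ≃ₗ[F] Matrix ι κ F} (hp : IsPair x M d 1 g) : False := by
  have hB : UTBase α β M := UTCtx.base hC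
  obtain ⟨hG, hU⟩ := pairGeo_model hC hII hS hx0 hx hd hmax hp
  have hℓ : IsRootOp (tf α β) (Lg x 1) (Ng α x 1) :=
    (Cfsg.Agent.Lib.Helper85_UT_RL.rootLine_Lg hB hII hx0 hx hp.mem₁).toIsRootOp
  have hℓ' : IsRootOp (tf α β) (Lg x g) (Ng α x g) :=
    (Cfsg.Agent.Lib.Helper85_UT_RL.rootLine_Lg hB hII hx0 hx hp.mem₂).toIsRootOp
  have hf : IsHerm (tf α β) := Cfsg.Agent.Lib.Helper31_UT_BAS3.tf_isHerm hC.hσ hC.hα hC.hβ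
  refine Cfsg.Agent.Lib.Helper42_UT_ODDFaux.odd_false_abs (σ := σ) hG hp.ne ?_
    (fun γ hγ => (Cfsg.Agent.Lib.Helper53_UT_GAM.gam_facts hC.hσ hf hℓ hℓ' hG hU hγ).2.2.2.2) ?_
  · intro hJ
    have hnt : Nontrivial ↥((Lg x g).map (Ng (κ := κ) α x 1)) :=
      Submodule.nontrivial_iff_ne_bot.mpr hJ
    refine Cfsg.Agent.Lib.Helper51_UT_ODDTR.odd_transfer_of' hℓ hℓ' hG ?_
    intro T
    exact Cfsg.Agent.Lib.Helper43_UT_ODDALG.odd_alg hC.hσ h2 T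
  · intro γ hγ hst
    have hst' : ∀ X ∈ fibB (κ := κ) x, γ X ∈ fibB (κ := κ) x := by
      intro X hX
      have := hst X (by rw [Lg_one]; exact hX)
      rwa [Lg_one] at this
    exact key_base hC hII hS hx0 hx hd hmax hp hγ hst'

theorem e2 [Finite F] (hC : UTCtx α β M) (hII : RadStdII α M) (hS : StabII α M)
    (hS' : StabI β M) (h2 : (2 : F) = 0) {x : ι → F} (hx0 : x ≠ 0) (hx : α x x = 0) {d : ℕ}
    (hd : 1 ≤ d) (hmax : MaxD x M d) {g : Matrix ι κ F ≃ₗ[F] Matrix ι κ F}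
    (hp : IsPair x M d 1 g) {y : κ → F} (hy0 : y ≠ 0) (hy : β y y = 0) {c : F} (hc : σ c = -c)
    (hc0 : c ≠ 0)
    (hsI : ∀ X ∈ fibB x ⊓ Lg x g,
      tmE (1 : (ι → F) ≃ₗ[F] (ι → F)) (utv β y c) X ∈ fibB x ⊓ Lg x g) :
    ∃ s₁ : F, s₁ ≠ 0 ∧ σ s₁ = -s₁ ∧ ∀ X, tmE (utv α x s₁) (utv β y c) (Ng α x g X) =
      Ng α x g (tmE (utv α x s₁) (utv β y c) X) :=
  Cfsg.Agent.Lib.Helper20_UT_E2.e2_of hC hII hS hS' h2 hx0 hx hd hmax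
    (fun {_} hp {_} hγ hst => key_base hC hII hS hx0 hx hd hmax hp hγ hst) hp hy0 hy hc hc0 hsI

theorem even_false [Finite F] (hC : UTCtx α β M) (hII : RadStdII α M) (hS : StabII α M)
    (hS' : StabI β M) (h2 : (2 : F) = 0) {x : ι → F} (hx0 : x ≠ 0) (hx : α x x = 0) {d : ℕ}
    (hd : 1 ≤ d) (hmax : MaxD x M d) {g : Matrix ι κ F ≃ₗ[F] Matrix ι κ F}
    (hp : IsPair x M d 1 g) : False := by
  have hB : UTBase α β M := UTCtx.base hC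
  obtain ⟨hG0, hU0⟩ := pairGeo_model hC hII hS hx0 hx hd hmax hp
  have hG : PairGeo (tf α β) (fibB x) (Lg x g) (nII α x) (Ng α x g) := by
    have h := hG0
    rw [Lg_one, Ng_one] at h
    exact h
  have hℓ' : IsRootOp (tf α β) (Lg x g) (Ng α x g) :=
    (Cfsg.Agent.Lib.Helper85_UT_RL.rootLine_Lg hB hII hx0 hx hp.mem₂).toIsRootOp
  have hDE := Cfsg.Agent.Lib.Helper21_UT_DE.de_facts hC.hσ hC.hα hC.hαN hC.hβ hC.hβN hx0 hx hℓ' hG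
  have hb : 4 ≤ Fintype.card κ := by
    have h1 := hC.ha
    have h2 := hC.hab
    omega
  have hne : fibB (κ := κ) x ≠ Lg x g := by
    have h := hp.ne
    rwa [Lg_one] at h
  have hdim : finrank F ↥(fibB (κ := κ) x ⊓ Lg x g) = d := by
    have h := hp.dim
    rwa [Lg_one] at h
  refine Cfsg.Agent.Lib.Helper42_UT_EVENFaux.even_false_of hC.hσ hC.hβ h2 hd hne hdim hG
    ⟨hDE.2.2.1, hDE.2.2.2.1, hDE.2.2.2.2.2.1, hDE.2.2.2.2.2.2.2.2⟩ ?_ ?_ ?_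
  · intro y hy0 hy c hc hc0 hsI
    exact e2 hC hII hS hS' h2 hx0 hx hd hmax hp hy0 hy hc hc0 hsI
  · intro y hy0 hy hyD s₁ c hs₁ hc0 hcomm
    exact Cfsg.Agent.Lib.Helper92_UT_E3D.e3_D hC.hσ hC.hα hC.hαN hC.hβ hC.hβN hx0 hx hℓ' hG hy0 hy
      hyD hs₁ hc0 hcomm
  · intro hI1 h
    exact Cfsg.Agent.Lib.Helper90_UT_E3E.e3_E hC.hσ hC.hα hC.hαN hC.hβ hC.hβN hb hx0 hx hℓ' hG hI1 h

end Cfsg.Agent.Lib.Helper37_UTPairAsm
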