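import Mathlib
import Cfsg.Agent.Lib.Helper37_UTDefs
import Cfsg.Agent.Lib.Helper37_UTPairDefs
import Cfsg.Agent.Lib.Helper17_UT_BAS1
import Cfsg.Agent.Lib.Helper44_UT_BAS4
import Cfsg.Agent.Lib.Helper47_UT_QCOMM

set_option autoImplicit false
set_option linter.unusedSectionVars false
set_option linter.unusedVariables false

/-!
# UTENS market (architect helper37), package UT-STABB: `stab_b`

`g ∈ M`, `k = P ⊗ Q` a Kronecker isometry with `h = g k⁻¹ ∈ Q_ℓ` (`InQ`).  Then `(h - 1)³ = 0`, so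
`det h = 1`, `det k = det g = 1`, `k ∈ M`, `h ∈ M`, and `qcomm` makes `h` Kronecker; so is `g = h k`.

`stab_b_of` takes the conclusion of `qcomm` (weakened to `IsKron h`) as a hypothesis; `stab_b` is the
verbatim package statement (with `Helper47_UT_QCOMM.qcomm`).
-/

namespace Cfsg.Agent.Lib.Helper44_UT_STABB

open Matrix Module
open Cfsg.Agent.Lib.Helper98_ExtDefs Cfsg.Agent.Lib.Helper97_TensDefs
open Cfsg.Agent.Lib.Helper94_Herm Cfsg.Agent.Lib.Helper13_PSUSimple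
open Cfsg.Agent.Lib.Helper94_HermEich
open Cfsg.Agent.Lib.Helper67_UT2Defs Cfsg.Agent.Lib.Helper37_UTDefs
open Cfsg.Agent.Lib.Helper37_UTPairDefs

variable {F : Type*} [Field F] {ι κ : Type*} [Fintype ι] [Fintype κ] [DecidableEq ι]
  [DecidableEq κ] {σ : F →+* F}
variable {α : (ι → F) →ₗ[F] (ι → F) →ₛₗ[σ] F} {β : (κ → F) →ₗ[F] (κ → F) →ₛₗ[σ] F}
variable {M : Subgroup (Matrix ι κ F ≃ₗ[F] Matrix ι κ F)}

/-- a unipotent linear equivalence has determinant one -/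
theorem h44_det_of_unipotent {V : Type*} [AddCommGroup V] [Module F V] [FiniteDimensional F V]
    (e : V ≃ₗ[F] V) (n : ℕ) (h : (e.toLinearMap - 1) ^ n = 0) : LinearEquiv.det e = 1 := by
  apply Units.ext
  rw [LinearEquiv.coe_det, Units.val_one]
  have hnil : IsNilpotent (-(e.toLinearMap - 1) : Module.End F V) := by
    refine ⟨n, ?_⟩
    rw [neg_pow, h, mul_zero]
  have hc := IsNilpotent.charpoly_eq_X_pow_finrank hnil
  have he := LinearMap.eval_charpoly (-(e.toLinearMap - 1) : Module.End F V) (1 : F)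
  rw [hc] at he
  simp only [Polynomial.eval_pow, Polynomial.eval_X, one_pow, map_one, sub_neg_eq_add,
    add_sub_cancel] at he
  exact he.symm

/-- the product of two Kronecker maps is a Kronecker map -/
theorem h44_isKron_mul {g h : Matrix ι κ F ≃ₗ[F] Matrix ι κ F} (hg : IsKron g) (hh : IsKron h) :
    IsKron (g * h) := by
  obtain ⟨P, Q, hPQ⟩ := hg
  obtain ⟨P', Q', hPQ'⟩ := hh
  refine ⟨P * P', Q * Q', fun X => ?_⟩
  rw [LinearEquiv.mul_apply, hPQ, hPQ', Matrix.transpose_mul]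
  simp only [Matrix.mul_assoc]

/-- an isometry fixing `x ⊗ B` pointwise moves every vector inside `(x ⊗ B)^⊥` -/
theorem h44_ctrA_sub (hβN : NondegOn β ⊤) {x : ι → F} {h : Matrix ι κ F ≃ₗ[F] Matrix ι κ F}
    (hh : h ∈ uG (tf α β)) (hfix : ∀ w : κ → F, h (vecMulVec x w) = vecMulVec x w)
    (X : Matrix ι κ F) : ctrA α x (h X - X) = 0 := by
  by_contra hne
  obtain ⟨w, -, hw⟩ := hβN _ trivial hne
  apply hw
  rw [← Cfsg.Agent.Lib.Helper17_UT_BAS1.tf_right_pure' (α := α) (β := β), map_sub,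
    LinearMap.sub_apply]
  have h1 : tf α β (h X) (vecMulVec x w) = tf α β X (vecMulVec x w) := by
    conv_lhs => rw [← hfix w]
    exact hh X (vecMulVec x w)
  rw [h1, sub_self]

/-- `InQ` isometries are unipotent: `(h - 1)³ = 0` -/
theorem h44_InQ_nilp (hβN : NondegOn β ⊤) {x : ι → F} {h : Matrix ι κ F ≃ₗ[F] Matrix ι κ F}
    (hh : h ∈ uG (tf α β)) (hQ : InQ α x h) : (h.toLinearMap - 1) ^ 3 = 0 := by
  apply LinearMap.ext
  intro X
  have e : ∀ Y : Matrix ι κ F, (h.toLinearMap - 1) Y = h Y - Y := fun Y => rfl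
  rw [pow_succ, pow_succ, pow_one, Module.End.mul_apply, Module.End.mul_apply, e X,
    LinearMap.zero_apply]
  obtain ⟨w, hw⟩ := hQ.2 _ (h44_ctrA_sub hβN hh hQ.1 X)
  rw [e (h X - X), hw, e, hQ.1 w, sub_self]

/-- STABB with the conclusion of `qcomm` (weakened) as a hypothesis -/
theorem stab_b_of (hB : UTBase α β M) {x : ι → F}
    (hqc : ∀ h : Matrix ι κ F ≃ₗ[F] Matrix ι κ F, h ∈ M → InQ α x h → IsKron h)
    {g : Matrix ι κ F ≃ₗ[F] Matrix ι κ F} (hg : g ∈ M)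
    {P : (ι → F) ≃ₗ[F] (ι → F)} {Q : (κ → F) ≃ₗ[F] (κ → F)} (hP : P ∈ uG α) (hQ : Q ∈ uG β)
    (hQ' : InQ α x (g * (tmE P Q)⁻¹)) : IsKron g := by
  have hgS := hB.hM hg
  rw [mem_SUg] at hgS
  have hk : tmE P Q ∈ uG (tf α β) := Cfsg.Agent.Lib.Helper44_UT_BAS4.tmE_mem_uG hP hQ
  have hh : g * (tmE P Q)⁻¹ ∈ uG (tf α β) := mul_mem hgS.1 (inv_mem hk)
  have hdet : LinearEquiv.det (g * (tmE P Q)⁻¹) = 1 :=
    h44_det_of_unipotent _ 3 (h44_InQ_nilp hB.hβN hh hQ')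
  rw [map_mul, hgS.2, one_mul, map_inv, inv_eq_one] at hdet
  have hkM : tmE P Q ∈ M := hB.hN _ (mem_SUg.mpr ⟨hk, hdet⟩) (isKron_tmE P Q)
  have hhM : g * (tmE P Q)⁻¹ ∈ M := mul_mem hg (inv_mem hkM)
  have hK := h44_isKron_mul (hqc _ hhM hQ') (isKron_tmE P Q)
  rwa [inv_mul_cancel_right] at hK

/-- STABB (M), verbatim -/
theorem stab_b [Finite F] (hB : UTBase α β M) (hII : RadStdII α M) {x : ι → F} (hx0 : x ≠ 0)
    (hx : α x x = 0) {g : Matrix ι κ F ≃ₗ[F] Matrix ι κ F} (hg : g ∈ M)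
    {P : (ι → F) ≃ₗ[F] (ι → F)} {Q : (κ → F) ≃ₗ[F] (κ → F)} (hP : P ∈ uG α) (hQ : Q ∈ uG β)
    (hQ' : InQ α x (g * (tmE P Q)⁻¹)) : IsKron g := by
  refine stab_b_of hB (x := x) ?_ hg hP hQ hQ'
  intro h hh hq
  obtain ⟨c, γ, -, -, rfl⟩ := Cfsg.Agent.Lib.Helper47_UT_QCOMM.qcomm hB hII hx0 hx hh hq
  exact isKron_tmE _ _

end Cfsg.Agent.Lib.Helper44_UT_STABB
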