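import Mathlib
import Cfsg.Agent.Lib.Helper37_UTDefs
import Cfsg.Agent.Lib.Helper37_UTPairDefs
import Cfsg.Agent.Lib.Helper17_UT_BAS1
import Cfsg.Agent.Lib.Helper44_UT_BAS4

set_option autoImplicit false
set_option linter.unusedSectionVars false
set_option linter.unusedVariables false

/-!
# UTENS market (architect helper37), package UT-TRANSP (helper77): the transposition machinery and
`stabI_of` (type I stabilisers from the statement of `stabII` for the transposed group).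

`cjT g X = (g Xᵀ)ᵀ` is conjugation by the transposition `Matrix ι κ F ≃ₗ Matrix κ ι F`;
`Mt M = M.comap cjT` is the transposed group `Mᵀ`.
-/

namespace Cfsg.Agent.Lib.Helper77_UT_TRANSPaux

open Matrix Module
open Cfsg.Agent.Lib.Helper98_ExtDefs Cfsg.Agent.Lib.Helper97_TensDefs
open Cfsg.Agent.Lib.Helper94_Herm Cfsg.Agent.Lib.Helper13_PSUSimple
open Cfsg.Agent.Lib.Helper94_HermEich
open Cfsg.Agent.Lib.Helper67_UT2Defs Cfsg.Agent.Lib.Helper37_UTDefs
open Cfsg.Agent.Lib.Helper37_UTPairDefs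

variable {F : Type*} [Field F] {ι κ : Type*} [Fintype ι] [Fintype κ] [DecidableEq ι]
  [DecidableEq κ] {σ : F →+* F}
variable {α : (ι → F) →ₗ[F] (ι → F) →ₛₗ[σ] F} {β : (κ → F) →ₗ[F] (κ → F) →ₛₗ[σ] F}
variable {M : Subgroup (Matrix ι κ F ≃ₗ[F] Matrix ι κ F)}

/-- the transposition `Matrix ι κ F ≃ₗ Matrix κ ι F` -/
def trE : Matrix ι κ F ≃ₗ[F] Matrix κ ι F := Matrix.transposeLinearEquiv ι κ F F

@[simp] theorem trE_apply (X : Matrix ι κ F) : trE (F := F) X = Xᵀ := rfl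

@[simp] theorem trE_symm_apply (Y : Matrix κ ι F) : (trE (F := F) (ι := ι) (κ := κ)).symm Y = Yᵀ :=
  rfl

/-- conjugation by the transposition -/
def cjT : (Matrix κ ι F ≃ₗ[F] Matrix κ ι F) →* (Matrix ι κ F ≃ₗ[F] Matrix ι κ F) where
  toFun g := (trE.trans g).trans trE.symm
  map_one' := by
    apply LinearEquiv.ext
    intro X
    simp
  map_mul' g h := by
    apply LinearEquiv.ext
    intro X
    simp [LinearEquiv.mul_apply]

theorem cjT_apply (g : Matrix κ ι F ≃ₗ[F] Matrix κ ι F) (X : Matrix ι κ F) :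
    cjT g X = (g Xᵀ)ᵀ := rfl

theorem cjT_cjT (g : Matrix ι κ F ≃ₗ[F] Matrix ι κ F) : cjT (cjT g) = g := by
  apply LinearEquiv.ext
  intro X
  rw [cjT_apply, cjT_apply, transpose_transpose, transpose_transpose]

theorem det_cjT (g : Matrix κ ι F ≃ₗ[F] Matrix κ ι F) :
    LinearEquiv.det (cjT g) = LinearEquiv.det g :=
  LinearEquiv.det_conj g (trE (F := F) (ι := ι) (κ := κ)).symm

theorem isKron_cjT {g : Matrix κ ι F ≃ₗ[F] Matrix κ ι F} (h : IsKron g) : IsKron (cjT g) := by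
  obtain ⟨P, Q, hPQ⟩ := h
  refine ⟨Q, P, fun X => ?_⟩
  rw [cjT_apply, hPQ, transpose_mul, transpose_mul, transpose_transpose, transpose_transpose,
    Matrix.mul_assoc]

/-- the tensor form is compatible with transposition -/
theorem tf_transpose (X Y : Matrix ι κ F) : tf β α Xᵀ Yᵀ = tf α β X Y := by
  refine Cfsg.Agent.Lib.Helper44_UT_BAS4.h44_induction
    (p := fun X => tf β α Xᵀ Yᵀ = tf α β X Y) ?_ ?_ ?_ X
  · simp only [transpose_zero, map_zero, LinearMap.zero_apply]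
  · intro X X' h h'
    simp only [transpose_add, map_add, LinearMap.add_apply, h, h']
  · intro x y
    refine Cfsg.Agent.Lib.Helper44_UT_BAS4.h44_induction
      (p := fun Y => tf β α (vecMulVec x y)ᵀ Yᵀ = tf α β (vecMulVec x y) Y) ?_ ?_ ?_ Y
    · simp only [transpose_zero, map_zero]
    · intro Y Y' h h'
      simp only [transpose_add, map_add, h, h']
    · intro x' y'
      rw [transpose_vecMulVec, transpose_vecMulVec, Cfsg.Agent.Lib.Helper17_UT_BAS1.tf_pure,
        Cfsg.Agent.Lib.Helper17_UT_BAS1.tf_pure, mul_comm]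

theorem cjT_mem_uG {g : Matrix κ ι F ≃ₗ[F] Matrix κ ι F} (h : g ∈ uG (tf β α)) :
    cjT g ∈ uG (tf α β) := by
  intro X Y
  rw [cjT_apply, cjT_apply, tf_transpose (α := β) (β := α) (g Xᵀ) (g Yᵀ), h Xᵀ Yᵀ, tf_transpose]

theorem cjT_mem_SUg {g : Matrix κ ι F ≃ₗ[F] Matrix κ ι F} (h : g ∈ SUg (tf β α)) :
    cjT g ∈ SUg (tf α β) := by
  rw [mem_SUg] at h ⊢
  exact ⟨cjT_mem_uG h.1, by rw [det_cjT, h.2]⟩

/-- the transposed group `Mᵀ` -/
def Mt (M : Subgroup (Matrix ι κ F ≃ₗ[F] Matrix ι κ F)) :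
    Subgroup (Matrix κ ι F ≃ₗ[F] Matrix κ ι F) := M.comap cjT

theorem mem_Mt {g : Matrix κ ι F ≃ₗ[F] Matrix κ ι F} : g ∈ Mt M ↔ cjT g ∈ M := Iff.rfl

theorem cjT_mem_Mt {g : Matrix ι κ F ≃ₗ[F] Matrix ι κ F} (h : g ∈ M) : cjT g ∈ Mt M := by
  rw [mem_Mt, cjT_cjT]; exact h

/-- `UTBase` passes to the transposed group -/
theorem utBase_Mt (hB : UTBase α β M) : UTBase β α (Mt M) where
  hσ := hB.hσ
  hα := hB.hβ
  hαN := hB.hβN
  hβ := hB.hα
  hβN := hB.hαN
  hM := by
    intro g hg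
    have h1 : cjT g ∈ SUg (tf α β) := hB.hM hg
    have h2 := cjT_mem_SUg (α := β) (β := α) h1
    rwa [cjT_cjT] at h2
  hN := by
    intro g hg hk
    exact hB.hN _ (cjT_mem_SUg hg) (isKron_cjT hk)

theorem tm_transpose (P : (ι → F) →ₗ[F] (ι → F)) (Q : (κ → F) →ₗ[F] (κ → F)) (X : Matrix ι κ F) :
    (tm P Q X)ᵀ = tm Q P Xᵀ := by
  rw [tm_apply, tm_apply, transpose_mul, transpose_mul, transpose_transpose, Matrix.mul_assoc]

/-- `RadStdI` for `M` is `RadStdII` for the transposed group -/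
theorem radStdII_Mt (hI : RadStdI β M) : RadStdII β (Mt M) := by
  intro y hy0 hy S hmap
  obtain ⟨g, hg, hgX⟩ := hmap
  refine hI y hy0 hy S ⟨cjT g, hg, fun X => ?_⟩
  rw [cjT_apply, hgX, transpose_add, transpose_transpose, tm_transpose, transpose_transpose]

/-- TRANSP with the statement of `stabII` for the transposed group as hypothesis -/
theorem stabI_of (hB : UTBase α β M) (hI : RadStdI β M)
    (hstabII : UTBase β α (Mt M) → RadStdII β (Mt M) → StabII β (Mt M)) :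
    StabI β M := by
  have hS := hstabII (utBase_Mt hB) (radStdII_Mt hI)
  intro h hh y y' hy0 hy'0 hy hst
  have hk : IsKron (cjT h) := by
    refine hS (cjT h) (cjT_mem_Mt hh) y y' hy0 hy'0 hy ?_
    intro a
    obtain ⟨a', ha'⟩ := hst a
    refine ⟨a', ?_⟩
    rw [cjT_apply, transpose_vecMulVec, ha', transpose_vecMulVec]
  have := isKron_cjT hk
  rwa [cjT_cjT] at this

end Cfsg.Agent.Lib.Helper77_UT_TRANSPaux
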