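import Mathlib
import Cfsg.Agent.Lib.Helper37_UTDefs
import Cfsg.Agent.Lib.Helper37_UTPairDefs
import Cfsg.Agent.Lib.Helper47_UT_QCOMM
import Cfsg.Agent.Lib.Helper17_UT_LAYERaux
import Cfsg.Agent.Lib.Helper27_UT_STABA
import Cfsg.Agent.Lib.Helper44_UT_STABB
import Cfsg.Agent.Lib.Helper26_UT_STABIIaux
import Cfsg.Agent.Lib.Helper77_UT_TRANSPaux

set_option autoImplicit false
set_option linter.unusedSectionVars false
set_option linter.unusedVariables false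

/-!
# UTENS Part II: the stabilisers of the totally isotropic fibres are Kronecker (assembly, helper37)
`stabII` (G1-II) and `stabI` (G1-I), from the packages QCOMM (helper47), LAYER (helper17/85/12),
STABA (helper27), STABB (helper44), STABII (helper26), TRANSP (helper77).
-/

namespace Cfsg.Agent.Lib.Helper37_UTStab

open Matrix Module
open Cfsg.Agent.Lib.Helper98_ExtDefs Cfsg.Agent.Lib.Helper97_TensDefs
open Cfsg.Agent.Lib.Helper94_Herm Cfsg.Agent.Lib.Helper13_PSUSimple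
open Cfsg.Agent.Lib.Helper94_HermEich
open Cfsg.Agent.Lib.Helper67_UT2Defs Cfsg.Agent.Lib.Helper37_UTDefs
open Cfsg.Agent.Lib.Helper37_UTPairDefs

variable {F : Type*} [Field F] {ι κ : Type*} [Fintype ι] [Fintype κ] [DecidableEq ι]
  [DecidableEq κ] {σ : F →+* F}
variable {α : (ι → F) →ₗ[F] (ι → F) →ₛₗ[σ] F} {β : (κ → F) →ₗ[F] (κ → F) →ₛₗ[σ] F}
variable {M : Subgroup (Matrix ι κ F ≃ₗ[F] Matrix ι κ F)}

theorem layer [Finite F] (hB : UTBase α β M) (hII : RadStdII α M) {x : ι → F} (hx0 : x ≠ 0)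
    (hx : α x x = 0) {g : Matrix ι κ F ≃ₗ[F] Matrix ι κ F} (hg : g ∈ M)
    (hst : ∀ w : κ → F, ∃ w' : κ → F, g (vecMulVec x w) = vecMulVec x w') :
    ∃ (g₃ : (κ → F) →ₗ[F] (κ → F)) (φ : (ι → F) →ₗ[F] (ι → F)),
      (∀ X, ctrA α x (g X) = g₃ (ctrA α x X)) ∧
      (∀ c, α c x = 0 → α (φ c) x = 0) ∧
      (∀ c w, α c x = 0 → g (vecMulVec c w) - vecMulVec (φ c) (g₃ w) ∈ fibB (κ := κ) x) :=
  Cfsg.Agent.Lib.Helper17_UT_LAYERaux.layer_of hB hx0 hx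
    (fun h hh hQ => Cfsg.Agent.Lib.Helper47_UT_QCOMM.qcomm hB hII hx0 hx hh hQ) hg hst

theorem stab_b [Finite F] (hB : UTBase α β M) (hII : RadStdII α M) {x : ι → F} (hx0 : x ≠ 0)
    (hx : α x x = 0) {g : Matrix ι κ F ≃ₗ[F] Matrix ι κ F} (hg : g ∈ M)
    {P : (ι → F) ≃ₗ[F] (ι → F)} {Q : (κ → F) ≃ₗ[F] (κ → F)} (hP : P ∈ uG α) (hQ : Q ∈ uG β)
    (hQ' : InQ α x (g * (tmE P Q)⁻¹)) : IsKron g := by
  refine Cfsg.Agent.Lib.Helper44_UT_STABB.stab_b_of hB ?_ hg hP hQ hQ'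
  intro h hh hQh
  obtain ⟨c, γ, -, -, rfl⟩ := Cfsg.Agent.Lib.Helper47_UT_QCOMM.qcomm hB hII hx0 hx hh hQh
  exact isKron_tmE _ _

theorem stabII [Finite F] (hB : UTBase α β M) (h3 : 3 ≤ Fintype.card ι) (hII : RadStdII α M) :
    StabII α M :=
  Cfsg.Agent.Lib.Helper26_UT_STABIIaux.stabII_of hB h3
    (fun hx0 hx _ hg hst => layer hB hII hx0 hx hg hst)
    (fun hx0 hx _ hg hst g₃ φ h1 h2 h3' =>
      Cfsg.Agent.Lib.Helper27_UT_STABA.stab_a hB.hσ hB.hα hB.hαN hB.hβ hB.hβN h3 hx0 hx hg hst g₃ φ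
        h1 h2 h3')
    (fun hx0 hx _ hg _ _ hP hQ hQ' => stab_b hB hII hx0 hx hg hP hQ hQ')

theorem stabI [Finite F] (hB : UTBase α β M) (h3 : 3 ≤ Fintype.card κ) (hI : RadStdI β M) :
    StabI β M :=
  Cfsg.Agent.Lib.Helper77_UT_TRANSPaux.stabI_of hB hI (fun hB' hII' => stabII hB' h3 hII')

end Cfsg.Agent.Lib.Helper37_UTStab
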