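import Mathlib
import Cfsg.Agent.Lib.Helper37_UTDefs
import Cfsg.Agent.Lib.Helper37_UTPairDefs
import Cfsg.Agent.Lib.Helper2_UT2_ISOEX
import Cfsg.Agent.Lib.Helper37_UTStab
import Cfsg.Agent.Lib.Helper37_UTPairAsm
import Cfsg.Agent.Lib.Helper10_UT_PAIREX

set_option autoImplicit false
set_option linter.unusedSectionVars false
set_option linter.unusedVariables false

/-!
# UTENS (`3 ≤ a < b`), PART II assembly: both `RadStd` hold ⇒ every element of `M` is Kronecker
(architect helper37; packages by the UTENS market)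
-/

namespace Cfsg.Agent.Lib.Helper37_UTCase2

open Matrix Module
open Cfsg.Agent.Lib.Helper98_ExtDefs Cfsg.Agent.Lib.Helper97_TensDefs
open Cfsg.Agent.Lib.Helper94_Herm Cfsg.Agent.Lib.Helper13_PSUSimple
open Cfsg.Agent.Lib.Helper67_UT2Defs Cfsg.Agent.Lib.Helper37_UTDefs
open Cfsg.Agent.Lib.Helper37_UTPairDefs

variable {F : Type*} [Field F] {ι κ : Type*} [Fintype ι] [Fintype κ] [DecidableEq ι]
  [DecidableEq κ] {σ : F →+* F}
variable {α : (ι → F) →ₗ[F] (ι → F) →ₛₗ[σ] F} {β : (κ → F) →ₗ[F] (κ → F) →ₛₗ[σ] F}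
variable {M : Subgroup (Matrix ι κ F ≃ₗ[F] Matrix ι κ F)}

/-- both `RadStd` hold ⇒ every element of `M` is Kronecker -/
theorem case2 [Finite F] (hC : UTCtx α β M) (hII : RadStdII α M) (hI : RadStdI β M) :
    ∀ g ∈ M, IsKron g := by
  have hB : UTBase α β M := UTCtx.base hC
  have ha := hC.ha
  have hab := hC.hab
  have hS : StabII α M := Helper37_UTStab.stabII hB ha hII
  have hS' : StabI β M := Helper37_UTStab.stabI hB (by omega) hI
  obtain ⟨x, -, hx0, hx⟩ := Cfsg.Agent.Lib.Helper2_UT2_ISOEX.exists_iso_in hC.hσ hC.hα ⊤ hC.hαN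
    (by rw [finrank_top, Module.finrank_fintype_fun_eq_card]; omega)
  by_contra hcon
  push Not at hcon
  obtain ⟨g₀, hg₀, hnk⟩ := hcon
  obtain ⟨d, g, hd, hmax, hp⟩ := Cfsg.Agent.Lib.Helper10_UT_PAIREX.pair_exists hC hx0 hx hg₀ hnk
  by_cases h2 : (2 : F) = 0
  · exact Helper37_UTPairAsm.even_false hC hII hS hS' h2 hx0 hx hd hmax hp
  · exact Helper37_UTPairAsm.odd_false hC hII hS h2 hx0 hx hd hmax hp

end Cfsg.Agent.Lib.Helper37_UTCase2
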