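/-
helper79 — package UD-BASIC of helper94's UD market (S5655, blocks of dimension k ≥ 2):
block geometry of an orthogonal decomposition into nondegenerate subspaces (unitary case).
-/
import Mathlib
import Cfsg.Agent.Lib.Helper94_UDDefs
import Cfsg.Agent.Lib.Helper44_HermOrtho

set_option autoImplicit false

namespace Cfsg.Agent.Lib.Helper79_UD_BASIC

open Module Cfsg.Agent.Lib.Helper94_Symp Cfsg.Agent.Lib.Helper94_Herm
  Cfsg.Agent.Lib.Helper13_PSUSimple Cfsg.Agent.Lib.Helper27_UQDefs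
  Cfsg.Agent.Lib.Helper94_FrmDefs Cfsg.Agent.Lib.Helper94_UDDefs

variable {F V : Type*} [Field F] [AddCommGroup V] [Module F V] [Finite F] [FiniteDimensional F V]
variable {σ : F →+* F} {B : V →ₗ[F] V →ₛₗ[σ] F}
variable {t k : ℕ} {D : Fin t → Submodule F V} {S M : Subgroup (V ≃ₗ[F] V)}

/-- `V = U ⊕ U^⊥` for a nondegenerate subspace `U` -/
theorem decomp_of_nondegOn {U : Submodule F V} (hU : NondegOn B U) (x : V) :
    ∃ a ∈ U, ∃ y : V, (∀ z ∈ U, B y z = 0) ∧ a + y = x := by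
  classical
  set m := finrank F U with hm
  let b : Basis (Fin m) F U := Module.finBasis F U
  let Ψ : V →ₗ[F] (Fin m → F) := LinearMap.pi (fun j => B.flip (b j : V))
  have hker : ∀ y ∈ LinearMap.ker Ψ, ∀ z ∈ U, B y z = 0 := by
    intro y hy z hz
    have hy' : ∀ j, B y (b j : V) = 0 := by
      intro j
      have := congrFun (LinearMap.mem_ker.1 hy) j
      simpa [Ψ] using this
    have hz' : z = ∑ j, (b.repr ⟨z, hz⟩ j) • (b j : V) := by
      have := b.sum_repr ⟨z, hz⟩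
      have h2 := congrArg (Subtype.val) this
      simp only [Submodule.coe_sum, Submodule.coe_smul] at h2
      exact h2.symm
    rw [hz', map_sum]
    apply Finset.sum_eq_zero
    intro j _
    rw [map_smulₛₗ, hy' j, smul_zero]
  have hdisj : U ⊓ LinearMap.ker Ψ = ⊥ := by
    rw [eq_bot_iff]
    intro z hz
    obtain ⟨hz1, hz2⟩ := Submodule.mem_inf.mp hz
    by_contra hz0
    obtain ⟨y, hy, hyz⟩ := hU z hz1 hz0
    exact hyz (hker z hz2 y hy)
  have h1 := LinearMap.finrank_range_add_finrank_ker Ψ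
  have h2 : finrank F (LinearMap.range Ψ) ≤ m := by
    have := Submodule.finrank_le (LinearMap.range Ψ)
    rwa [Module.finrank_fin_fun] at this
  have h3 := Submodule.finrank_sup_add_finrank_inf_eq U (LinearMap.ker Ψ)
  rw [hdisj, finrank_bot, add_zero] at h3
  have h4 : U ⊔ LinearMap.ker Ψ = ⊤ := by
    apply Submodule.eq_top_of_finrank_eq
    have := Submodule.finrank_le (U ⊔ LinearMap.ker Ψ)
    omega
  have hx : x ∈ U ⊔ LinearMap.ker Ψ := by rw [h4]; trivial
  obtain ⟨a, ha, y, hy, hay⟩ := Submodule.mem_sup.mp hx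
  exact ⟨a, ha, y, hker y hy, hay⟩

/-- UD-BASIC.  (1) `V = D i ⊕ (D i)^⊥`; (2) a vector orthogonal to all blocks is zero; (3) a vector
orthogonal to all blocks except `D p` lies in `D p`; (4) an element mapping each block into itself
lies in `S`; (5) an equivalence mapping `D i` into `D j` maps it onto `D j`. -/
theorem BASIC (hC : Ctx B k D S M) :
    (∀ i (x : V), ∃ a ∈ D i, ∃ y : V, (∀ z ∈ D i, B y z = 0) ∧ a + y = x) ∧
    (∀ x : V, (∀ i, ∀ z ∈ D i, B x z = 0) → x = 0) ∧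
    (∀ p (x : V), (∀ j, j ≠ p → ∀ z ∈ D j, B x z = 0) → x ∈ D p) ∧
    (∀ g : V ≃ₗ[F] V, (∀ j, ∀ x ∈ D j, g x ∈ D j) → g ∈ S) ∧
    (∀ (g : V ≃ₗ[F] V) (i j : Fin t), (∀ x ∈ D i, g x ∈ D j) →
      (D i).map (g : V →ₗ[F] V) = D j) := by
  have h1 : ∀ i (x : V), ∃ a ∈ D i, ∃ y : V, (∀ z ∈ D i, B y z = 0) ∧ a + y = x :=
    fun i x => decomp_of_nondegOn (hC.hnd i) x
  have h2 : ∀ x : V, (∀ i, ∀ z ∈ D i, B x z = 0) → x = 0 := by
    intro x hx
    by_contra hx0
    obtain ⟨y, -, hy⟩ := hC.hN x trivial hx0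
    apply hy
    have hle : iSup D ≤ LinearMap.ker (B x) := by
      apply iSup_le
      intro i z hz
      rw [LinearMap.mem_ker]
      exact hx i z hz
    have hy' : y ∈ iSup D := by rw [hC.hsup]; trivial
    exact LinearMap.mem_ker.1 (hle hy')
  have h3 : ∀ p (x : V), (∀ j, j ≠ p → ∀ z ∈ D j, B x z = 0) → x ∈ D p := by
    intro p x hx
    obtain ⟨a, ha, y, hy, rfl⟩ := h1 p x
    have hy0 : y = 0 := by
      apply h2
      intro j z hz
      by_cases hj : j = p
      · rw [hj] at hz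
        exact hy z hz
      · have h := hx j hj z hz
        rw [map_add, LinearMap.add_apply, hC.horth p j (Ne.symm hj) a ha z hz, zero_add] at h
        exact h
    rw [hy0, add_zero]
    exact ha
  have h5 : ∀ (g : V ≃ₗ[F] V) (i j : Fin t), (∀ x ∈ D i, g x ∈ D j) →
      (D i).map (g : V →ₗ[F] V) = D j := by
    intro g i j h
    apply Submodule.eq_of_le_of_finrank_eq
    · rintro _ ⟨x, hx, rfl⟩
      exact h x hx
    · rw [LinearEquiv.finrank_map_eq g (D i), hC.hfr, hC.hfr]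
  refine ⟨h1, h2, h3, ?_, h5⟩
  intro g hg
  rw [hC.hS]
  exact ⟨1, fun i => by rw [Equiv.Perm.one_apply]; exact h5 g i i (hg i)⟩

end Cfsg.Agent.Lib.Helper79_UD_BASIC
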