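import Mathlib
import Cfsg.Agent.Lib.Helper54_UTDefs
import Cfsg.Agent.Lib.Helper37_UTDefs
import Cfsg.Agent.Lib.Helper54_UTModel
import Cfsg.Agent.Lib.Helper79_UD_BASIC
import Cfsg.Agent.Lib.Helper16_UD_REP

set_option autoImplicit false
set_option linter.unusedSectionVars false
set_option linter.unusedVariables false

/-!
# UTENS PART I package ST7 (sub-architect helper54): `step7_blocks`

Copy of `Helper38_UD_STEP7.STEP7` with `block_UU` and `RR` as hypotheses: if all isotropic vectors
of the blocks and all isotropic sums of two block vectors are root vectors, then every isotropic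
vector is a root vector (induction on the number of blocks met).
-/

namespace Cfsg.Agent.Lib.Helper47_UT1_ST7

open Module
open Cfsg.Agent.Lib.Helper94_Symp Cfsg.Agent.Lib.Helper94_Herm Cfsg.Agent.Lib.Helper13_PSUSimple
  Cfsg.Agent.Lib.Helper94_FrmDefs Cfsg.Agent.Lib.Helper94_UDDefs Cfsg.Agent.Lib.Helper67_UT2Defs
  Cfsg.Agent.Lib.Helper54_UTDefs

variable {F V : Type*} [Field F] [AddCommGroup V] [Module F V] [Finite F] [FiniteDimensional F V]
variable {σ : F →+* F} {B : V →ₗ[F] V →ₛₗ[σ] F}

/-- a vector orthogonal to all blocks is zero -/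
theorem all_orth' (hN : NondegOn B ⊤) {t : ℕ} (D : Fin t → Submodule F V) (hsup : iSup D = ⊤)
    (x : V) (hx : ∀ i, ∀ z ∈ D i, B x z = 0) : x = 0 := by
  by_contra hne
  obtain ⟨y, -, hy⟩ := hN x Submodule.mem_top hne
  apply hy
  have hle : iSup D ≤ LinearMap.ker (B x) := by
    apply iSup_le
    intro i v hv
    rw [LinearMap.mem_ker]
    exact hx i v hv
  have hyD : y ∈ iSup D := by rw [hsup]; trivial
  have := hle hyD
  rwa [LinearMap.mem_ker] at this

/-- ST7 (M): copy of `Helper38_UD_STEP7.STEP7` with `block_UU` and `RR` as hypotheses (the landed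
proof uses the hypothesis `S ⊓ SU ≤ M` of `Helper94_UDDefs.Ctx` only through `block_UU`; `BASIC`
part (1) is `Helper79_UD_BASIC.decomp_of_nondegOn`, `all_orth` is 10 lines, `REP` is model-free) -/
theorem step7_blocks (hσ : Invol σ) (hB : IsHerm B) (hN : NondegOn B ⊤) {t : ℕ}
    (D : Fin t → Submodule F V) (hsup : iSup D = ⊤) (hnd : ∀ i, NondegOn B (D i))
    (horth : ∀ i j, i ≠ j → ∀ u ∈ D i, ∀ v ∈ D j, B u v = 0) (hfr : ∀ i, 3 ≤ finrank F (D i))
    (M : Subgroup (V ≃ₗ[F] V)) (hMu : M ≤ uG B)
    (hblk : ∀ i, ∀ a ∈ D i, B a a = 0 → a ∈ UU B M)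
    (hR : ∀ p q : Fin t, p ≠ q → RR B D M p q) : ∀ x : V, B x x = 0 → x ∈ UU B M := by
  classical
  have hdec : ∀ i (x : V), ∃ a ∈ D i, ∃ y : V, (∀ z ∈ D i, B y z = 0) ∧ a + y = x :=
    fun i x => Cfsg.Agent.Lib.Helper79_UD_BASIC.decomp_of_nondegOn (hnd i) x
  let P : V → Finset (Fin t) := fun x => Finset.univ.filter (fun j => ∃ z ∈ D j, B x z ≠ 0)
  have hPmem : ∀ x j, j ∈ P x ↔ ∃ z ∈ D j, B x z ≠ 0 := by
    intro x j
    simp [P]
  have hzero : ∀ x : V, P x = ∅ → x = 0 := by
    intro x hempty
    apply all_orth' hN D hsup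
    intro j z hz
    by_contra hj
    have : j ∈ P x := (hPmem x j).mpr ⟨z, hz, hj⟩
    rw [hempty] at this
    exact (Finset.notMem_empty j) this
  have hstep3 : ∀ n : ℕ, ∀ x : V, B x x = 0 → (P x).card ≤ n → x ∈ UU B M := by
    intro n
    induction n with
    | zero =>
      intro x _ hx
      have hempty : P x = ∅ := Finset.card_eq_zero.mp (Nat.le_zero.mp hx)
      rw [hzero x hempty]
      exact UU_zero M
    | succ n ih =>
      intro x hxx hx
      by_cases hempty : P x = ∅
      · exact ih x hxx (by rw [hempty]; simp)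
      obtain ⟨p, hp⟩ := Finset.nonempty_iff_ne_empty.mpr hempty
      rw [hPmem] at hp
      obtain ⟨a, ha, y, hy, rfl⟩ := hdec p x
      have hya : B y a = 0 := hy a ha
      have hay : B a y = 0 := herm_eq_zero hB hya
      have ha0 : a ≠ 0 := by
        rintro rfl
        rw [zero_add] at hp
        obtain ⟨z, hz, hne⟩ := hp
        exact hne (hy z hz)
      -- `P y ⊆ P (a + y) \ {p}`
      have hPy : P y ⊆ (P (a + y)).erase p := by
        intro j hj
        rw [hPmem] at hj
        obtain ⟨z, hz, hne⟩ := hj
        rw [Finset.mem_erase, hPmem]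
        have hjp : j ≠ p := by
          rintro rfl
          exact hne (hy z hz)
        refine ⟨hjp, z, hz, ?_⟩
        rw [map_add, LinearMap.add_apply, horth p j (Ne.symm hjp) a ha z hz, zero_add]
        exact hne
      have hpmem : p ∈ P (a + y) := (hPmem _ _).mpr hp
      have hcardy : (P y).card ≤ n := by
        have h1 := Finset.card_le_card hPy
        rw [Finset.card_erase_of_mem hpmem] at h1
        omega
      -- norms
      have hyy : B y y = -(B a a) := by
        have h1 := hxx
        rw [self_add hB, hay, map_zero, add_zero, add_zero] at h1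
        linear_combination h1
      by_cases hPy0 : P y = ∅
      · rw [hzero y hPy0, add_zero] at hxx ⊢
        exact hblk p a ha hxx
      obtain ⟨q, hq⟩ := Finset.nonempty_iff_ne_empty.mpr hPy0
      have hqp : q ≠ p := (Finset.mem_erase.mp (hPy hq)).1
      rw [hPmem] at hq
      obtain ⟨b, hb, z', hz', hbz⟩ := hdec q y
      have hb0 : b ≠ 0 := by
        rintro rfl
        rw [zero_add] at hbz
        obtain ⟨z, hz, hne⟩ := hq
        exact hne (hbz ▸ hz' z hz)
      have hν : σ (B a a) = B a a := herm_self hB a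
      have hfq := hfr q
      obtain ⟨d, hd, ζ, hζ0, hζs, hbd, hdd⟩ :=
        Cfsg.Agent.Lib.Helper16_UD_REP.REP hσ hB (hnd q) (finrank F (D q)) rfl (by omega)
          (fun h => by omega) hb hb0 hν
      -- the two summands
      have had : B a d = 0 := horth p q (Ne.symm hqp) a ha d hd
      have hda : B d a = 0 := horth q p hqp d hd a ha
      have hyd : B y d = -(B a a) + ζ := by
        rw [← hbz, map_add, LinearMap.add_apply, hz' d hd, add_zero, hbd]
      have hdy : B d y = -(B a a) - ζ := by
        rw [hB y d, hyd, map_add, map_neg, hν, hζs]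
        ring
      have hz0 : B (a + d) (a + d) = 0 := by
        rw [self_add hB, had, map_zero, hdd]
        ring
      have hz0T : a + d ∈ UU B M := hR p q (Ne.symm hqp) a ha d hd hz0
      have hy' : B (y - d) (y - d) = 0 := by
        simp only [map_sub, LinearMap.sub_apply, hyy, hyd, hdy, hdd]
        ring
      have hPy' : P (y - d) ⊆ P y := by
        intro j hj
        rw [hPmem] at hj ⊢
        by_cases hjq : j = q
        · rw [hjq]
          exact hq
        · obtain ⟨z, hz, hne⟩ := hj
          refine ⟨z, hz, ?_⟩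
          rw [map_sub, LinearMap.sub_apply, horth q j (Ne.symm hjq) d hd z hz, sub_zero] at hne
          exact hne
      have hy'T : y - d ∈ UU B M := ih _ hy' (le_trans (Finset.card_le_card hPy') hcardy)
      have hBne : B (y - d) (a + d) ≠ 0 := by
        have : B (y - d) (a + d) = ζ := by
          simp only [map_sub, map_add, LinearMap.sub_apply, hya, hyd, hda, hdd]
          ring
        rw [this]
        exact hζ0
      have e : y - d + (a + d) = a + y := by abel
      have := UU_add hσ hB hMu hy'T hz0T hBne (by rw [e]; exact hxx)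
      rwa [e] at this
  intro x hxx
  exact hstep3 _ x hxx le_rfl

end Cfsg.Agent.Lib.Helper47_UT1_ST7
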