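import Mathlib
import Cfsg.Agent.Lib.Helper37_UTDefs
import Cfsg.Agent.Lib.Helper94_UDDefs
import Cfsg.Agent.Lib.Helper73_Tens_TP1
import Cfsg.Agent.Lib.Helper30_UT2_EIGU
import Cfsg.Agent.Lib.Helper31_UT2_RSA1a
import Cfsg.Agent.Lib.Helper10_UT2_RSA2
import Cfsg.Agent.Lib.Helper14_PSULocal1

set_option autoImplicit false
set_option linter.unusedSectionVars false
set_option linter.unusedVariables false

/-!
# UTENS package UT-RSA (architect helper37): `rsa_abs`

An `SU`-invariant additive group of skew-adjoint operators containing a non-scalar contains a rank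
one operator `c P_y`, `y` isotropic (all `q`, dimension `≥ 3`).  Proof: §1 of
`pending/helper37/UTENS_proof.md`: EIGU (`Helper30_UT2_EIGU.eig_iso`), one transvection conjugation
(`Helper31_UT2_RSA1a.conj_utv_sub`), one Eichler conjugation making `w ⊥ y`, one more Eichler
conjugation (as in `Helper10_UT2_RSA2.rsa2`).
-/

namespace Cfsg.Agent.Lib.Helper47_UT_RSA

open Matrix Module
open Cfsg.Agent.Lib.Helper98_ExtDefs Cfsg.Agent.Lib.Helper97_TensDefs
open Cfsg.Agent.Lib.Helper94_Herm Cfsg.Agent.Lib.Helper13_PSUSimple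
open Cfsg.Agent.Lib.Helper67_UT2Defs Cfsg.Agent.Lib.Helper37_UTDefs
open Cfsg.Agent.Lib.Helper94_FrmDefs
open Cfsg.Agent.Lib.Helper94_HermEich

variable {F : Type*} [Field F] {ι κ : Type*} [Fintype ι] [Fintype κ] [DecidableEq ι]
  [DecidableEq κ] {σ : F →+* F}
variable {α : (ι → F) →ₗ[F] (ι → F) →ₛₗ[σ] F} {β : (κ → F) →ₗ[F] (κ → F) →ₛₗ[σ] F}
variable {M : Subgroup (Matrix ι κ F ≃ₗ[F] Matrix ι κ F)}

/-- conjugating `rk1h b y` by an isometry -/
theorem conj_rk1h {W : Type*} [AddCommGroup W] [Module F W] {b : W →ₗ[F] W →ₛₗ[σ] F}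
    (Q : W ≃ₗ[F] W) (hQ : Q ∈ uG b) (y : W) :
    (Q : W →ₗ[F] W) ∘ₗ rk1h b y ∘ₗ (Q.symm : W →ₗ[F] W) = rk1h b (Q y) := by
  apply LinearMap.ext
  intro v
  simp only [LinearMap.comp_apply, LinearEquiv.coe_coe, rk1h_apply, map_smul]
  have h1 : b (Q.symm v) y = b v (Q y) := by
    have := hQ (Q.symm v) y
    rw [LinearEquiv.apply_symm_apply] at this
    exact this.symm
  rw [h1]

/-- `twh b y (e • y) = (e + σ e) P_y` -/
theorem twh_smul_self {W : Type*} [AddCommGroup W] [Module F W] {b : W →ₗ[F] W →ₛₗ[σ] F}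
    (y : W) (e : F) : twh b y (e • y) = (e + σ e) • rk1h b y := by
  apply LinearMap.ext
  intro v
  simp only [twh_apply, LinearMap.smul_apply, rk1h_apply, map_smulₛₗ, smul_eq_mul]
  module

/-- `twh b y` is additive in the second vector -/
theorem twh_add {W : Type*} [AddCommGroup W] [Module F W] {b : W →ₗ[F] W →ₛₗ[σ] F}
    (y w w' : W) : twh b y (w + w') = twh b y w + twh b y w' := by
  apply LinearMap.ext
  intro v
  simp only [twh_apply, LinearMap.add_apply, map_add]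
  module

/-- a vector orthogonal to the isotropic vector `y`, outside the line of `y` (dimension `≥ 3`) -/
theorem exists_perp_not_span {W : Type*} [AddCommGroup W] [Module F W] [FiniteDimensional F W]
    (hσ : Invol σ) {b : W →ₗ[F] W →ₛₗ[σ] F} (hb : IsHerm b) (hN : NondegOn b ⊤)
    (h3 : 3 ≤ finrank F W) {y : W} (hy0 : y ≠ 0) (hy : b y y = 0) :
    ∃ z : W, b z y = 0 ∧ z ∉ Submodule.span F {y} := by
  classical
  obtain ⟨f, -, hff, hyf⟩ := exists_partner hσ hb hN (Submodule.mem_top : y ∈ ⊤) hy0 hy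
  have hfy : b f y = 1 := by rw [hb y f, hyf, map_one]
  have hlt : Submodule.span F (({y, f} : Finset W) : Set W) < ⊤ := by
    rw [lt_top_iff_ne_top]
    intro htop
    have h1 : finrank F (Submodule.span F (({y, f} : Finset W) : Set W)) ≤
        ({y, f} : Finset W).card := finrank_span_finset_le_card (R := F) ({y, f} : Finset W)
    rw [htop, finrank_top] at h1
    have h2 : ({y, f} : Finset W).card ≤ 2 := Finset.card_le_two
    omega
  obtain ⟨x, -, hx⟩ := SetLike.exists_of_lt hlt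
  refine ⟨x - b x f • y - b x y • f, ?_, ?_⟩
  · simp only [map_sub, map_smul, LinearMap.sub_apply, LinearMap.smul_apply, smul_eq_mul, hy, hfy]
    ring
  · intro hmem
    obtain ⟨l, hl⟩ := Submodule.mem_span_singleton.mp hmem
    apply hx
    have hxe : x = (l + b x f) • y + b x y • f := by
      have h' : x = (x - b x f • y - b x y • f) + b x f • y + b x y • f := by abel
      rw [← hl] at h'
      rw [add_smul]
      exact h'
    rw [hxe]
    refine Submodule.add_mem _ (Submodule.smul_mem _ _ (Submodule.subset_span ?_))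
      (Submodule.smul_mem _ _ (Submodule.subset_span ?_))
    · simp
    · simp

/-- RSA (L): an `SU`-invariant additive group of skew-adjoint operators containing a non-scalar
contains a rank one operator `c P_y`, `y` isotropic (all `q`, dimension `≥ 3`).  Proof: §1 of
`pending/helper37/UTENS_proof.md` (EIGU = landed `eig_iso`, then one transvection conjugation, one
Eichler conjugation to make `w ⊥ y`, one more Eichler conjugation). -/
theorem rsa_abs {W : Type*} [AddCommGroup W] [Module F W] [FiniteDimensional F W] [Finite F]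
    (hσ : Invol σ) {b : W →ₗ[F] W →ₛₗ[σ] F} (hb : IsHerm b) (hN : NondegOn b ⊤)
    (h3 : 3 ≤ finrank F W) (S : AddSubgroup (W →ₗ[F] W))
    (hskew : ∀ T ∈ S, ∀ u v, b (T u) v + b u (T v) = 0)
    (hconj : ∀ T ∈ S, ∀ g ∈ SUg b,
      (g : W ≃ₗ[F] W).toLinearMap ∘ₗ T ∘ₗ (g⁻¹ : W ≃ₗ[F] W).toLinearMap ∈ S)
    {T : W →ₗ[F] W} (hT : T ∈ S) (hns : ¬ ∃ s : F, T = s • LinearMap.id) :
    ∃ (y : W) (c : F), y ≠ 0 ∧ b y y = 0 ∧ c ≠ 0 ∧ c • rk1h b y ∈ S := by
  -- conjugation in the `symm` form, and differences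
  have hc : ∀ T ∈ S, ∀ g ∈ SUg b,
      (g : W →ₗ[F] W) ∘ₗ T ∘ₗ (g.symm : W →ₗ[F] W) ∈ S := fun T hT g hg => hconj T hT g hg
  have hd : ∀ T ∈ S, ∀ g ∈ SUg b,
      (g : W →ₗ[F] W) ∘ₗ T ∘ₗ (g.symm : W →ₗ[F] W) + -T ∈ S :=
    fun T hT g hg => S.add_mem (hc T hT g hg) (S.neg_mem hT)
  -- an isotropic vector which is not an eigenvector
  have h2' : 2 ≤ finrank F (⊤ : Submodule F W) := by rw [finrank_top]; omega
  have hy : ∃ y : W, b y y = 0 ∧ ¬ ∃ l : F, T y = l • y := by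
    by_contra hcon
    have hall : ∀ y ∈ (⊤ : Submodule F W), b y y = 0 → ∃ l : F, T y = l • y := by
      intro y _ hyy
      by_contra hne
      exact hcon ⟨y, hyy, hne⟩
    obtain ⟨c, hc⟩ := Cfsg.Agent.Lib.Helper30_UT2_EIGU.eig_iso hσ hb ⊤ hN h2' T hall
    exact hns ⟨c, LinearMap.ext fun u => by rw [hc u Submodule.mem_top]; rfl⟩
  obtain ⟨y, hyy, hTy⟩ := hy
  have hy0 : y ≠ 0 := by
    rintro rfl
    exact hTy ⟨0, by rw [map_zero, smul_zero]⟩
  obtain ⟨s0, hs0, hs0σ⟩ := exists_skew hσ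
  -- first difference
  have hΔ : -(s0 • twh b y (T y)) - (s0 * s0 * b (T y) y) • rk1h b y ∈ S := by
    have ht : utv b y s0 ∈ SUg b := Cfsg.Agent.Lib.Helper14_PSULocal1.utv_mem_SUg hb y hs0σ
    have := hd T hT _ ht
    rwa [Cfsg.Agent.Lib.Helper31_UT2_RSA1a.conj_utv_sub T (hskew T hT) hyy s0] at this
  have hwspan : T y ∉ Submodule.span F {y} := by
    intro hmem
    obtain ⟨l, hl⟩ := Submodule.mem_span_singleton.mp hmem
    exact hTy ⟨l, hl.symm⟩
  -- second step: an element `-(s0 • twh b y w₂) + k₂ • rk1h b y` with `w₂ ⊥ y`, `w₂ ∉ ⟨y⟩`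
  have hstep2 : ∃ (w₂ : W) (k₂ : F), b w₂ y = 0 ∧ w₂ ∉ Submodule.span F {y} ∧
      -(s0 • twh b y w₂) + k₂ • rk1h b y ∈ S := by
    by_cases hk : b (T y) y = 0
    · refine ⟨T y, 0, hk, hwspan, ?_⟩
      rw [hk, mul_zero, zero_smul, sub_zero] at hΔ
      rw [zero_smul, add_zero]
      exact hΔ
    · obtain ⟨z, hzy, hzspan⟩ := exists_perp_not_span hσ hb hN h3 hy0 hyy
      have hyz : b y z = 0 := herm_eq_zero hb hzy
      obtain ⟨γ, hγ⟩ := tr_surj hσ (-(b z z)) (by rw [map_neg, herm_self hb])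
      have hρ : eich b y z γ ∈ SUg b := Cfsg.Agent.Lib.Helper14_PSULocal1.eich_mem_SUg hb hγ
      have hρu : eich b y z γ ∈ uG b := (mem_SUg.mp hρ).1
      have e1 : eich b y z γ y = y := by
        rw [eich_apply b hyy hzy hyz]
        simp only [hyy, hyz, zero_smul, mul_zero, add_zero, sub_zero]
      have e2 : eich b y z γ (T y) =
          T y + (b (T y) y • z + (γ * b (T y) y - b (T y) z) • y) := by
        rw [eich_apply b hyy hzy hyz]
        module
      have h1 := hd _ hΔ _ hρ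
      have h2 : ((eich b y z γ : W ≃ₗ[F] W) : W →ₗ[F] W) ∘ₗ
          (-(s0 • twh b y (T y)) - (s0 * s0 * b (T y) y) • rk1h b y) ∘ₗ
          ((eich b y z γ).symm : W →ₗ[F] W) +
          -(-(s0 • twh b y (T y)) - (s0 * s0 * b (T y) y) • rk1h b y)
          = -(s0 • twh b y (b (T y) y • z)) +
            (-(s0 * ((γ * b (T y) y - b (T y) z) + σ (γ * b (T y) y - b (T y) z)))) •
              rk1h b y := by
        rw [LinearMap.sub_comp, LinearMap.comp_sub, LinearMap.neg_comp, LinearMap.comp_neg,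
          LinearMap.smul_comp, LinearMap.comp_smul, LinearMap.smul_comp, LinearMap.comp_smul,
          Cfsg.Agent.Lib.Helper10_UT2_RSA2.conj_twh _ hρu, conj_rk1h _ hρu, e1, e2, twh_add,
          twh_add, twh_smul_self]
        module
      rw [h2] at h1
      refine ⟨b (T y) y • z, _, ?_, ?_, h1⟩
      · rw [map_smul, LinearMap.smul_apply, hzy, smul_zero]
      · intro hmem
        apply hzspan
        have : z = (b (T y) y)⁻¹ • (b (T y) y • z) := by
          rw [smul_smul, inv_mul_cancel₀ hk, one_smul]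
        rw [this]
        exact Submodule.smul_mem _ _ hmem
  obtain ⟨w₂, k₂, hw₂y, hw₂span, hΔ₂⟩ := hstep2
  -- third step (RSA2)
  obtain ⟨z0, hz0y, hwz0⟩ :=
    Cfsg.Agent.Lib.Helper10_UT2_RSA2.exists_perp hσ hb hN y w₂ hy0 hw₂span
  obtain ⟨t, ht⟩ := exists_tr_ne_zero hσ
  obtain ⟨θ, hθ⟩ : ∃ θ : F, θ = σ (t / b w₂ z0) := ⟨_, rfl⟩
  obtain ⟨z, hz⟩ : ∃ z : W, z = θ • z0 := ⟨_, rfl⟩
  have hzy : b z y = 0 := by
    rw [hz, map_smul, LinearMap.smul_apply, hz0y, smul_zero]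
  have hyz : b y z = 0 := herm_eq_zero hb hzy
  have hμ : b w₂ z = t := by
    rw [hz, map_smulₛₗ, smul_eq_mul, hθ, hσ.invol]
    field_simp
  obtain ⟨γ, hγ⟩ := tr_surj hσ (-(b z z)) (by rw [map_neg, herm_self hb])
  have hρ : eich b y z γ ∈ SUg b := Cfsg.Agent.Lib.Helper14_PSULocal1.eich_mem_SUg hb hγ
  have hρu : eich b y z γ ∈ uG b := (mem_SUg.mp hρ).1
  have e1 : eich b y z γ y = y := by
    rw [eich_apply b hyy hzy hyz]
    simp only [hyy, hyz, zero_smul, mul_zero, add_zero, sub_zero]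
  have e2 : eich b y z γ w₂ = w₂ - t • y := by
    rw [eich_apply b hyy hzy hyz]
    simp only [hw₂y, hμ, zero_smul, mul_zero, add_zero]
  have h1 := hd _ hΔ₂ _ hρ
  have h2 : ((eich b y z γ : W ≃ₗ[F] W) : W →ₗ[F] W) ∘ₗ
      (-(s0 • twh b y w₂) + k₂ • rk1h b y) ∘ₗ ((eich b y z γ).symm : W →ₗ[F] W) +
      -(-(s0 • twh b y w₂) + k₂ • rk1h b y) = (s0 * (t + σ t)) • rk1h b y := by
    rw [LinearMap.add_comp, LinearMap.comp_add, LinearMap.neg_comp, LinearMap.comp_neg,
      LinearMap.smul_comp, LinearMap.comp_smul, LinearMap.smul_comp, LinearMap.comp_smul,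
      Cfsg.Agent.Lib.Helper10_UT2_RSA2.conj_twh _ hρu, conj_rk1h _ hρu, e1, e2,
      Cfsg.Agent.Lib.Helper10_UT2_RSA2.twh_sub_smul]
    module
  rw [h2] at h1
  exact ⟨y, s0 * (t + σ t), hy0, hyy, mul_ne_zero hs0 ht, h1⟩

end Cfsg.Agent.Lib.Helper47_UT_RSA
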