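import Mathlib
import Cfsg.Agent.Lib.Helper54_UTDefs
import Cfsg.Agent.Lib.Helper37_UTDefs

set_option autoImplicit false
set_option linter.unusedSectionVars false
set_option linter.unusedVariables false

/-!
# UTENS PART I, package RR (helper54), auxiliary form (the statement HP is a hypothesis)
-/

namespace Cfsg.Agent.Lib.Helper54_UT1_RRaux

open Module
open Cfsg.Agent.Lib.Helper94_Symp Cfsg.Agent.Lib.Helper94_Herm Cfsg.Agent.Lib.Helper13_PSUSimple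
  Cfsg.Agent.Lib.Helper94_FrmDefs Cfsg.Agent.Lib.Helper94_UDDefs Cfsg.Agent.Lib.Helper67_UT2Defs
  Cfsg.Agent.Lib.Helper54_UTDefs

variable {F A B V : Type*} [Field F] [AddCommGroup A] [Module F A] [AddCommGroup B] [Module F B]
  [AddCommGroup V] [Module F V] {σ : F →+* F}
variable {α : A →ₗ[F] A →ₛₗ[σ] F} {β : B →ₗ[F] B →ₛₗ[σ] F} {f : V →ₗ[F] V →ₛₗ[σ] F}
  {T : A →ₗ[F] B →ₗ[F] V} {M : Subgroup (V ≃ₗ[F] V)}

/-- an element of norm one different from one -/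
theorem exists_norm_one (hσ : Invol σ) : ∃ ζ : F, ζ * σ ζ = 1 ∧ ζ ≠ 1 := by
  obtain ⟨θ, hθ⟩ := hσ.ne_id
  have hθ0 : θ ≠ 0 := by
    rintro rfl
    exact hθ (map_zero σ)
  have hσθ0 : σ θ ≠ 0 := (map_ne_zero σ).2 hθ0
  refine ⟨θ / σ θ, ?_, ?_⟩
  · rw [map_div₀, hσ.invol]
    field_simp
  · intro h
    apply hθ
    rw [div_eq_one_iff_eq hσθ0] at h
    exact h.symm

/-- RR, given the statement HP for the hyperbolic pair constructed in the proof -/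
theorem rr_pair_of [Finite F] (hC : TnCtx α β f T) (hMu : M ≤ uG f)
    (hHP : ∀ {e₁ e₂ : A}, α e₁ e₁ = 0 → α e₂ e₂ = 0 → α e₁ e₂ = 1 →
      (∀ w : B, T e₁ w ∈ UU f M) → (∀ w : B, T e₂ w ∈ UU f M) →
      ∀ u u' : B, f (T e₁ u + T e₂ u') (T e₁ u + T e₂ u') = 0 → T e₁ u + T e₂ u' ∈ UU f M)
    (hPT : ∀ (x : A) (y : B), α x x = 0 ∨ β y y = 0 → T x y ∈ UU f M) {a₁ a₂ : A}
    (h11 : α a₁ a₁ ≠ 0) (h22 : α a₂ a₂ ≠ 0) (h12 : α a₁ a₂ = 0) :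
    ∀ y y' : B, f (T a₁ y + T a₂ y') (T a₁ y + T a₂ y') = 0 → T a₁ y + T a₂ y' ∈ UU f M := by
  have hσ := hC.hσ
  have hα := hC.hα
  have h21 : α a₂ a₁ = 0 := herm_eq_zero hα h12
  have hn1 : σ (α a₁ a₁) = α a₁ a₁ := herm_self hα a₁
  have hn2 : σ (α a₂ a₂) = α a₂ a₂ := herm_self hα a₂
  have hcfix : σ (-(α a₁ a₁) / α a₂ a₂) = -(α a₁ a₁) / α a₂ a₂ := by
    rw [map_div₀, map_neg, hn1, hn2]
  obtain ⟨l, hl⟩ := norm_surj hσ _ hcfix
  obtain ⟨ζ, hζ, hζ1⟩ := exists_norm_one hσ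
  have hl0 : l ≠ 0 := by
    rintro rfl
    rw [zero_mul] at hl
    have : -(α a₁ a₁) / α a₂ a₂ ≠ 0 := div_ne_zero (neg_ne_zero.mpr h11) h22
    exact this hl.symm
  have hσζ1 : σ ζ ≠ 1 := by
    intro h
    apply hζ1
    have := congrArg σ h
    rwa [hσ.invol, map_one] at this
  -- the two isotropic vectors
  have hl' : l * σ l * α a₂ a₂ = -(α a₁ a₁) := by
    rw [hl]; field_simp
  have he1 : α (a₁ + l • a₂) (a₁ + l • a₂) = 0 := by
    simp only [map_add, map_smul, map_smulₛₗ, LinearMap.add_apply, LinearMap.smul_apply,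
      smul_eq_mul, h12, h21, mul_zero, add_zero, zero_add]
    linear_combination hl'
  have he2' : α (a₁ + (l * ζ) • a₂) (a₁ + (l * ζ) • a₂) = 0 := by
    simp only [map_add, map_smul, map_smulₛₗ, LinearMap.add_apply, LinearMap.smul_apply,
      smul_eq_mul, h12, h21, mul_zero, add_zero, zero_add, map_mul]
    linear_combination (ζ * σ ζ) * hl' - (α a₁ a₁) * hζ
  have hd : α (a₁ + l • a₂) (a₁ + (l * ζ) • a₂) = α a₁ a₁ * (1 - σ ζ) := by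
    simp only [map_add, map_smul, map_smulₛₗ, LinearMap.add_apply, LinearMap.smul_apply,
      smul_eq_mul, h12, h21, mul_zero, add_zero, zero_add, map_mul]
    linear_combination (σ ζ) * hl'
  obtain ⟨d, hdd⟩ : ∃ d : F, d = α a₁ a₁ * (1 - σ ζ) := ⟨_, rfl⟩
  have hd0 : d ≠ 0 := by
    rw [hdd]
    exact mul_ne_zero h11 (sub_ne_zero.mpr (Ne.symm hσζ1))
  have hσd0 : σ d ≠ 0 := (map_ne_zero σ).2 hd0
  obtain ⟨e₁, he₁⟩ : ∃ e₁ : A, e₁ = a₁ + l • a₂ := ⟨_, rfl⟩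
  obtain ⟨e₂, he₂⟩ : ∃ e₂ : A, e₂ = (σ d)⁻¹ • (a₁ + (l * ζ) • a₂) := ⟨_, rfl⟩
  have h1 : α e₁ e₁ = 0 := by rw [he₁]; exact he1
  have h2 : α e₂ e₂ = 0 := by rw [he₂, self_smul, he2', mul_zero]
  have h12' : α e₁ e₂ = 1 := by
    rw [he₁, he₂, map_smulₛₗ, hd, ← hdd, map_inv₀, hσ.invol, smul_eq_mul, inv_mul_cancel₀ hd0]
  have hlw : ∀ w : B, T e₁ w ∈ UU f M := fun w => hPT e₁ w (Or.inl h1)
  have hrw : ∀ w : B, T e₂ w ∈ UU f M := fun w => hPT e₂ w (Or.inl h2)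
  intro y y' hiso
  -- the coordinates
  have hk0 : l * (1 - ζ) ≠ 0 := mul_ne_zero hl0 (sub_ne_zero.mpr (Ne.symm hζ1))
  obtain ⟨u, hu⟩ : ∃ u : B, u = (l * (1 - ζ))⁻¹ • (y' - (l * ζ) • y) := ⟨_, rfl⟩
  have hkey : T a₁ y + T a₂ y' = T e₁ u + T e₂ (σ d • (y - u)) := by
    have hu' : (l * (1 - ζ)) • u = y' - (l * ζ) • y := by
      rw [hu, smul_smul, mul_inv_cancel₀ hk0, one_smul]
    have hy' : y' = (l * (1 - ζ)) • u + (l * ζ) • y := by rw [hu']; abel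
    have hT2 : ∀ z : B, T e₂ (σ d • z) = T (a₁ + (l * ζ) • a₂) z := by
      intro z
      rw [he₂, LinearMap.map_smul₂, map_smul, smul_smul, inv_mul_cancel₀ hσd0, one_smul]
    rw [hT2, he₁, hy']
    simp only [map_add, map_smul, map_sub, LinearMap.add_apply, LinearMap.smul_apply]
    module
  rw [hkey] at hiso ⊢
  exact hHP h1 h2 h12' hlw hrw u _ hiso

end Cfsg.Agent.Lib.Helper54_UT1_RRaux
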