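import Mathlib
import Cfsg.Agent.Lib.Helper54_UTDefs
import Cfsg.Agent.Lib.Helper37_UTDefs
import Cfsg.Agent.Lib.Helper54_UTModel

set_option autoImplicit false
set_option linter.unusedSectionVars false
set_option linter.unusedVariables false

/-!
# UTENS PART I, package HP (helper57): the isotropic vectors of `⟨e₁, e₂⟩ ⊗ B`, `(e₁, e₂)` a
hyperbolic pair of `A` (copy of `Helper86_UT2_GEN4.uu_all` in the model-free tensor context)
-/

namespace Cfsg.Agent.Lib.Helper57_UT1_HP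

open Module
open Cfsg.Agent.Lib.Helper94_Symp Cfsg.Agent.Lib.Helper94_Herm Cfsg.Agent.Lib.Helper13_PSUSimple
  Cfsg.Agent.Lib.Helper94_FrmDefs Cfsg.Agent.Lib.Helper94_UDDefs Cfsg.Agent.Lib.Helper67_UT2Defs
  Cfsg.Agent.Lib.Helper54_UTDefs

variable {F A B V : Type*} [Field F] [AddCommGroup A] [Module F A] [AddCommGroup B] [Module F B]
  [AddCommGroup V] [Module F V] {σ : F →+* F}
variable {α : A →ₗ[F] A →ₛₗ[σ] F} {β : B →ₗ[F] B →ₛₗ[σ] F} {f : V →ₗ[F] V →ₛₗ[σ] F}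
  {T : A →ₗ[F] B →ₗ[F] V} {M : Subgroup (V ≃ₗ[F] V)}

/-- the form on `⟨e₁, e₂⟩ ⊗ B` -/
theorem f_plane (hC : TnCtx α β f T) {e₁ e₂ : A} (h1 : α e₁ e₁ = 0)
    (h2 : α e₂ e₂ = 0) (h12 : α e₁ e₂ = 1) (u u' v v' : B) :
    f (T e₁ u + T e₂ u') (T e₁ v + T e₂ v') = β u v' + β u' v := by
  have h21 : α e₂ e₁ = 1 := by rw [hC.hα e₁ e₂, h12, map_one]
  simp only [map_add, LinearMap.add_apply, hC.hT, h1, h2, h12, h21, zero_mul, one_mul, zero_add,
    add_zero]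
  rw [add_comm]

/-- the case `β u u' ≠ 0` -/
theorem uu_of_ne (hC : TnCtx α β f T) (hMu : M ≤ uG f) {e₁ e₂ : A} (h1 : α e₁ e₁ = 0)
    (h2 : α e₂ e₂ = 0) (h12 : α e₁ e₂ = 1) (hl : ∀ w : B, T e₁ w ∈ UU f M)
    (hr : ∀ w : B, T e₂ w ∈ UU f M) (u u' : B) (hne : β u u' ≠ 0)
    (hiso : f (T e₁ u + T e₂ u') (T e₁ u + T e₂ u') = 0) : T e₁ u + T e₂ u' ∈ UU f M := by
  have h3 : f (T e₁ u) (T e₂ u') ≠ 0 := by
    rw [hC.hT, h12, one_mul]
    exact hne
  exact UU_add hC.hσ hC.hf hMu (hl u) (hr u') h3 hiso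

/-- HP (M): the isotropic vectors of `⟨e₁, e₂⟩ ⊗ B`, `(e₁, e₂)` a hyperbolic pair of `A`
(copy of UT2 GEN4 `uu_all`) -/
theorem uu_hyp_plane (hC : TnCtx α β f T) (hMu : M ≤ uG f) {e₁ e₂ : A} (h1 : α e₁ e₁ = 0)
    (h2 : α e₂ e₂ = 0) (h12 : α e₁ e₂ = 1) (hl : ∀ w : B, T e₁ w ∈ UU f M)
    (hr : ∀ w : B, T e₂ w ∈ UU f M) :
    ∀ u u' : B, f (T e₁ u + T e₂ u') (T e₁ u + T e₂ u') = 0 → T e₁ u + T e₂ u' ∈ UU f M := by
  intro u u' hx
  have hσ := hC.hσ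
  have hβ := hC.hβ
  by_cases hne : β u u' = 0
  · by_cases hu : u = 0
    · rw [hu, map_zero, zero_add]
      exact hr u'
    · obtain ⟨w0, -, hw0⟩ := hC.hNβ u trivial hu
      obtain ⟨ζ, hζ0, hζ⟩ := exists_skew hσ
      set w : B := σ (ζ / β u w0) • w0 with hw
      have hbw : β u w = ζ := by
        rw [hw, map_smulₛₗ, hσ.invol, smul_eq_mul, div_mul_cancel₀ _ hw0]
      have hbw' : β w u = -ζ := by rw [hβ u w, hbw, hζ]
      have hbu'u : β u' u = 0 := by rw [hβ u u', hne, map_zero]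
      -- first vector
      have hx1ne : β u (u' - w) ≠ 0 := by
        rw [map_sub, hne, hbw, zero_sub]
        exact neg_ne_zero.mpr hζ0
      have hx1iso : f (T e₁ u + T e₂ (u' - w)) (T e₁ u + T e₂ (u' - w)) = 0 := by
        rw [f_plane hC h1 h2 h12]
        simp only [map_sub, LinearMap.sub_apply, hne, hbw, hbw', hbu'u]
        ring
      have hx1 := uu_of_ne hC hMu h1 h2 h12 hl hr u (u' - w) hx1ne hx1iso
      have hx2 := hr w
      have h12' : f (T e₁ u + T e₂ (u' - w)) (T e₂ w) ≠ 0 := by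
        have := f_plane hC h1 h2 h12 u (u' - w) 0 w
        rw [map_zero, zero_add, map_zero, add_zero] at this
        rw [this, hbw]
        exact hζ0
      have hsum : T e₁ u + T e₂ (u' - w) + T e₂ w = T e₁ u + T e₂ u' := by
        rw [add_assoc, ← map_add, sub_add_cancel]
      have h3 : f (T e₁ u + T e₂ (u' - w) + T e₂ w) (T e₁ u + T e₂ (u' - w) + T e₂ w) = 0 := by
        rw [hsum]; exact hx
      have := UU_add hσ hC.hf hMu hx1 hx2 h12' h3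
      rwa [hsum] at this
  · exact uu_of_ne hC hMu h1 h2 h12 hl hr u u' hne hx

end Cfsg.Agent.Lib.Helper57_UT1_HP
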