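import Mathlib
import Cfsg.Agent.Lib.Helper54_UTDefs
import Cfsg.Agent.Lib.Helper37_UTDefs
import Cfsg.Agent.Lib.Helper54_UT1_RRaux
import Cfsg.Agent.Lib.Helper57_UT1_HP

set_option autoImplicit false
set_option linter.unusedSectionVars false
set_option linter.unusedVariables false

/-!
# UTENS PART I, package RR (helper54): the isotropic vectors of `⟨a₁, a₂⟩ ⊗ B`
-/

namespace Cfsg.Agent.Lib.Helper54_UT1_RR

open Module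
open Cfsg.Agent.Lib.Helper94_Symp Cfsg.Agent.Lib.Helper94_Herm Cfsg.Agent.Lib.Helper13_PSUSimple
  Cfsg.Agent.Lib.Helper94_FrmDefs Cfsg.Agent.Lib.Helper94_UDDefs Cfsg.Agent.Lib.Helper67_UT2Defs
  Cfsg.Agent.Lib.Helper54_UTDefs

variable {F A B V : Type*} [Field F] [AddCommGroup A] [Module F A] [AddCommGroup B] [Module F B]
  [AddCommGroup V] [Module F V] {σ : F →+* F}
variable {α : A →ₗ[F] A →ₛₗ[σ] F} {β : B →ₗ[F] B →ₛₗ[σ] F} {f : V →ₗ[F] V →ₛₗ[σ] F}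
  {T : A →ₗ[F] B →ₗ[F] V} {M : Subgroup (V ≃ₗ[F] V)}

/-- RR (M): the isotropic vectors of `⟨a₁, a₂⟩ ⊗ B`, `a₁ ⊥ a₂` anisotropic -/
theorem rr_pair [Finite F] (hC : TnCtx α β f T) (hMu : M ≤ uG f)
    (hPT : ∀ (x : A) (y : B), α x x = 0 ∨ β y y = 0 → T x y ∈ UU f M) {a₁ a₂ : A}
    (h11 : α a₁ a₁ ≠ 0) (h22 : α a₂ a₂ ≠ 0) (h12 : α a₁ a₂ = 0) :
    ∀ y y' : B, f (T a₁ y + T a₂ y') (T a₁ y + T a₂ y') = 0 → T a₁ y + T a₂ y' ∈ UU f M :=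
  Cfsg.Agent.Lib.Helper54_UT1_RRaux.rr_pair_of hC hMu
    (fun h1 h2 h12 hl hr => Cfsg.Agent.Lib.Helper57_UT1_HP.uu_hyp_plane hC hMu h1 h2 h12 hl hr)
    hPT h11 h22 h12

end Cfsg.Agent.Lib.Helper54_UT1_RR
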