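import Mathlib
import Cfsg.Agent.Lib.Helper54_UTDefs

set_option autoImplicit false
set_option linter.unusedSectionVars false
set_option linter.unusedVariables false

/-!
# UTENS PART I, packages Z3, Z4 (helper54, parallel copy for the assembly)
-/

namespace Cfsg.Agent.Lib.Helper54_UT1_Z34

open Module
open Cfsg.Agent.Lib.Helper94_Symp Cfsg.Agent.Lib.Helper94_Herm Cfsg.Agent.Lib.Helper13_PSUSimple
  Cfsg.Agent.Lib.Helper94_FrmDefs Cfsg.Agent.Lib.Helper94_UDDefs Cfsg.Agent.Lib.Helper67_UT2Defs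
  Cfsg.Agent.Lib.Helper54_UTDefs

variable {F A B V : Type*} [Field F] [AddCommGroup A] [Module F A] [AddCommGroup B] [Module F B]
  [AddCommGroup V] [Module F V] {σ : F →+* F}
variable {α : A →ₗ[F] A →ₛₗ[σ] F} {β : B →ₗ[F] B →ₛₗ[σ] F} {f : V →ₗ[F] V →ₛₗ[σ] F}
  {T : A →ₗ[F] B →ₗ[F] V} {M : Subgroup (V ≃ₗ[F] V)}

/-- Z3 (S): conjugation by `1 ⊗ Q`, `Q ∈ SU(B)` -/
theorem zs_conj (hC : TnCtx α β f T) (hM : TnHyp α β f T M) {x : A} (S : B →ₗ[F] B)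
    (g : V ≃ₗ[F] V) (hg : g ∈ M) (hZ : IsZ α T x S g) (Q : B ≃ₗ[F] B) (hQ : Q ∈ SUg β) :
    ∃ g' ∈ M, IsZ α T x
      ((Q : B ≃ₗ[F] B).toLinearMap ∘ₗ S ∘ₗ (Q⁻¹ : B ≃ₗ[F] B).toLinearMap) g' := by
  obtain ⟨k, hk, hkT⟩ := hM.kr_mem (1 : A ≃ₗ[F] A) Q (Subgroup.one_mem _) hQ
  have hkT' : ∀ (a : A) (b : B), k (T a b) = T a (Q b) := fun a b => hkT a b
  have hkinv : ∀ (a : A) (b : B), k⁻¹ (T a b) = T a (Q⁻¹ b) := by
    intro a b
    apply k.injective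
    rw [apply_inv_apply', hkT', apply_inv_apply']
  refine ⟨k * g * k⁻¹, M.mul_mem (M.mul_mem hk hg) (M.inv_mem hk), ?_⟩
  intro a b
  rw [LinearEquiv.mul_apply, LinearEquiv.mul_apply, hkinv, hZ, map_add, map_smul, hkT', hkT']
  rw [apply_inv_apply']
  rfl

/-- Z4 (S): `1 + P_x ⊗ (c P_y)` is the unitary transvection with centre `x ⊗ y` -/
theorem zs_utv (hC : TnCtx α β f T) {x : A} {y : B} (hxy : α x x = 0 ∨ β y y = 0) (c : F)
    (g : V ≃ₗ[F] V) (hZ : IsZ α T x (c • rk1h β y) g) : g = utv f (T x y) c := by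
  have hiso : f (T x y) (T x y) = 0 := by
    rw [hC.self_T]
    rcases hxy with h | h
    · rw [h, zero_mul]
    · rw [h, mul_zero]
  apply hC.ext_equiv
  intro a b
  rw [hZ, utv_apply f hiso, hC.hT, LinearMap.smul_apply, rk1h_apply, map_smul, map_smul,
    smul_smul, smul_smul]
  congr 2
  ring

end Cfsg.Agent.Lib.Helper54_UT1_Z34
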