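import Mathlib
import Cfsg.Agent.Lib.Helper54_UTDefs
import Cfsg.Agent.Lib.Helper37_UTDefs
import Cfsg.Agent.Lib.Helper54_UTModel

set_option autoImplicit false
set_option linter.unusedSectionVars false
set_option linter.unusedVariables false

/-!
# UTENS PART I package Z1 (sub-architect helper54, formaliser helper63): `zs_addSubgroup`, verbatim

For isotropic `x` the operators `S` with `1 + P_x ⊗ S ∈ M` form an additive group: `1 ~ 0`,
`g ~ S`, `g' ~ S'` give `g * g' ~ S + S'` and `g⁻¹ ~ -S` (both use `α x x = 0`).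
-/

namespace Cfsg.Agent.Lib.Helper63_UT1_Z1

open Module
open Cfsg.Agent.Lib.Helper94_Symp Cfsg.Agent.Lib.Helper94_Herm Cfsg.Agent.Lib.Helper13_PSUSimple
  Cfsg.Agent.Lib.Helper94_FrmDefs Cfsg.Agent.Lib.Helper94_UDDefs Cfsg.Agent.Lib.Helper67_UT2Defs
  Cfsg.Agent.Lib.Helper54_UTDefs

variable {F A B V : Type*} [Field F] [AddCommGroup A] [Module F A] [AddCommGroup B] [Module F B]
  [AddCommGroup V] [Module F V] {σ : F →+* F}
variable {α : A →ₗ[F] A →ₛₗ[σ] F} {β : B →ₗ[F] B →ₛₗ[σ] F} {f : V →ₗ[F] V →ₛₗ[σ] F}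
  {T : A →ₗ[F] B →ₗ[F] V} {M : Subgroup (V ≃ₗ[F] V)}

/-- `1 ~ 0` -/
theorem isZ_one (x : A) : IsZ α T x (0 : B →ₗ[F] B) (1 : V ≃ₗ[F] V) := by
  intro a b
  rw [LinearMap.zero_apply, map_zero, smul_zero, add_zero]
  rfl

/-- `g ~ S`, `g' ~ S'` give `g * g' ~ S + S'` -/
theorem isZ_mul {x : A} (hx : α x x = 0) {S S' : B →ₗ[F] B} {g g' : V ≃ₗ[F] V}
    (h : IsZ α T x S g) (h' : IsZ α T x S' g') : IsZ α T x (S + S') (g * g') := by
  intro a b
  rw [LinearEquiv.mul_apply, h' a b, map_add, map_smul, h a b, h x (S' b), hx, zero_smul, add_zero,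
    LinearMap.add_apply, map_add, smul_add, add_assoc]

/-- `g ~ S` gives `g⁻¹ ~ -S` -/
theorem isZ_inv {x : A} (hx : α x x = 0) {S : B →ₗ[F] B} {g : V ≃ₗ[F] V}
    (h : IsZ α T x S g) : IsZ α T x (-S) g⁻¹ := by
  intro a b
  show g.symm (T a b) = _
  rw [LinearEquiv.symm_apply_eq, map_add, map_smul, h a b, h x ((-S) b), hx, zero_smul, add_zero,
    LinearMap.neg_apply, map_neg, smul_neg, add_assoc, add_neg_cancel, add_zero]

/-- Z1 (M): for isotropic `x` the operators `S` with `1 + P_x ⊗ S ∈ M` form an additive group -/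
theorem zs_addSubgroup (M : Subgroup (V ≃ₗ[F] V)) {x : A} (hx : α x x = 0) :
    ∃ 𝒮 : AddSubgroup (B →ₗ[F] B), ∀ S : B →ₗ[F] B, S ∈ 𝒮 ↔ ∃ g ∈ M, IsZ α T x S g := by
  refine ⟨{ carrier := {S | ∃ g ∈ M, IsZ α T x S g}
            zero_mem' := ⟨1, M.one_mem, isZ_one x⟩
            add_mem' := ?_
            neg_mem' := ?_ }, fun S => Iff.rfl⟩
  · rintro S S' ⟨g, hg, h⟩ ⟨g', hg', h'⟩
    exact ⟨g * g', M.mul_mem hg hg', isZ_mul hx h h'⟩
  · rintro S ⟨g, hg, h⟩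
    exact ⟨g⁻¹, M.inv_mem hg, isZ_inv hx h⟩

end Cfsg.Agent.Lib.Helper63_UT1_Z1
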