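import Mathlib
import Cfsg.Agent.Lib.Helper54_UTDefs
import Cfsg.Agent.Lib.Helper37_UTDefs
import Cfsg.Agent.Lib.Helper54_UTModel
import Cfsg.Agent.Lib.Helper44_HermOrtho

set_option autoImplicit false
set_option linter.unusedSectionVars false
set_option linter.unusedVariables false

namespace Cfsg.Agent.Lib.Helper6_UT1_ONB

open Module
open Cfsg.Agent.Lib.Helper94_Symp Cfsg.Agent.Lib.Helper94_Herm Cfsg.Agent.Lib.Helper13_PSUSimple
  Cfsg.Agent.Lib.Helper94_FrmDefs Cfsg.Agent.Lib.Helper94_UDDefs Cfsg.Agent.Lib.Helper67_UT2Defs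
  Cfsg.Agent.Lib.Helper54_UTDefs

section ABS

variable {F A B V : Type*} [Field F] [AddCommGroup A] [Module F A] [AddCommGroup B] [Module F B]
  [AddCommGroup V] [Module F V] {σ : F →+* F}
variable {α : A →ₗ[F] A →ₛₗ[σ] F} {β : B →ₗ[F] B →ₛₗ[σ] F} {f : V →ₗ[F] V →ₛₗ[σ] F}
  {T : A →ₗ[F] B →ₗ[F] V} {M : Subgroup (V ≃ₗ[F] V)}

/-- ONB (M): the blocks `a_i ⊗ B` of an orthonormal basis `a_i` of `A` -/
theorem exists_blocks [Finite F] [FiniteDimensional F A] [FiniteDimensional F B]
    [FiniteDimensional F V] (hC : TnCtx α β f T) :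
    ∃ w : Fin (finrank F A) → A, (∀ i, α (w i) (w i) = 1) ∧ (∀ i j, i ≠ j → α (w i) (w j) = 0) ∧
      (⨆ i, LinearMap.range (T (w i))) = ⊤ ∧
      (∀ i, finrank F (LinearMap.range (T (w i))) = finrank F B) ∧
      (∀ i, NondegOn f (LinearMap.range (T (w i)))) := by
  classical
  obtain ⟨w, -, hw⟩ := Cfsg.Agent.Lib.Helper44_HermOrtho.exists_orthonormal hC.hσ hC.hα
    (finrank F A) ⊤ hC.hNα (finrank_top F A)
  have hw1 : ∀ i, α (w i) (w i) = 1 := fun i => by rw [hw]; simp
  have hw0 : ∀ i j, i ≠ j → α (w i) (w j) = 0 := fun i j hij => by rw [hw]; simp [hij]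
  -- linear independence
  have hli : LinearIndependent F w := by
    rw [Fintype.linearIndependent_iff]
    intro c hc j
    have h1 : α (∑ i, c i • w i) (w j) = 0 := by rw [hc]; simp
    rw [map_sum, LinearMap.sum_apply] at h1
    simp only [map_smul, LinearMap.smul_apply, hw, smul_eq_mul, mul_ite, mul_one, mul_zero,
      Finset.sum_ite_eq', Finset.mem_univ, if_true] at h1
    exact h1
  have hspanw : Submodule.span F (Set.range w) = ⊤ :=
    hli.span_eq_top_of_card_eq_finrank' (by simp)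
  -- injectivity of `T (w i)`
  have hinj : ∀ i, Function.Injective (T (w i)) := by
    intro i
    rw [← LinearMap.ker_eq_bot, LinearMap.ker_eq_bot']
    intro y hy
    by_contra hy0
    obtain ⟨y', -, hy'⟩ := hC.hNβ y Submodule.mem_top hy0
    apply hy'
    have := hC.hT (w i) y (w i) y'
    rw [hy, hw1 i, one_mul] at this
    rw [← this]; simp
  refine ⟨w, hw1, hw0, ?_, ?_, ?_⟩
  · -- the blocks span
    rw [eq_top_iff, ← hC.hspan, Submodule.span_le]
    rintro v ⟨x, y, rfl⟩
    have hx : x ∈ Submodule.span F (Set.range w) := by rw [hspanw]; trivial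
    obtain ⟨c, rfl⟩ := (Submodule.mem_span_range_iff_exists_fun F).mp hx
    rw [map_sum, LinearMap.sum_apply]
    refine Submodule.sum_mem _ (fun i _ => ?_)
    rw [map_smul, LinearMap.smul_apply]
    refine Submodule.smul_mem _ _ ?_
    exact Submodule.mem_iSup_of_mem i (LinearMap.mem_range_self _ y)
  · intro i
    exact LinearMap.finrank_range_of_inj (hinj i)
  · intro i
    rintro _ ⟨y, rfl⟩ hne
    have hy0 : y ≠ 0 := by
      rintro rfl
      exact hne (map_zero _)
    obtain ⟨y', -, hy'⟩ := hC.hNβ y Submodule.mem_top hy0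
    refine ⟨T (w i) y', LinearMap.mem_range_self _ y', ?_⟩
    rw [hC.hT, hw1 i, one_mul]
    exact hy'

end ABS

end Cfsg.Agent.Lib.Helper6_UT1_ONB
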