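import Mathlib
import Cfsg.Agent.Lib.Helper37_UTDefs
import Cfsg.Agent.Lib.Helper94_UDDefs
import Cfsg.Agent.Lib.Helper73_Tens_TP1

/-!
# UTENS market (architect helper37), package UT-G3: `uu_iso_any`

`(isotropic) ⊗ (anisotropic)` centres: if all `x ⊗ y` (`x`, `y` isotropic) have their root group in `M`,
so have all `x ⊗ w`, `x` isotropic, `w` arbitrary (`a ≥ 3`).  Explicit `u`, `u'` of §2 G2/G3 of
`pending/helper37/UTENS_proof.md`.  Self-contained: own copies `tf_pure'`, `tf_isHerm'` of BAS1/BAS3a;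
reusable geometry: `aniso_decomp`, `exists_perp_norm`.
-/

set_option autoImplicit false
set_option linter.unusedSectionVars false
set_option linter.unusedVariables false

namespace Cfsg.Agent.Lib.Helper86_UT_G3

open Matrix Module
open Cfsg.Agent.Lib.Helper98_ExtDefs Cfsg.Agent.Lib.Helper97_TensDefs
open Cfsg.Agent.Lib.Helper94_Herm Cfsg.Agent.Lib.Helper13_PSUSimple
open Cfsg.Agent.Lib.Helper67_UT2Defs Cfsg.Agent.Lib.Helper37_UTDefs
open Cfsg.Agent.Lib.Helper94_FrmDefs

variable {F : Type*} [Field F] {ι κ : Type*} [Fintype ι] [Fintype κ] [DecidableEq ι]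
  [DecidableEq κ] {σ : F →+* F}
variable {α : (ι → F) →ₗ[F] (ι → F) →ₛₗ[σ] F} {β : (κ → F) →ₗ[F] (κ → F) →ₛₗ[σ] F}
variable {M : Subgroup (Matrix ι κ F ≃ₗ[F] Matrix ι κ F)}

/-- expansion of a sesquilinear form in the standard basis -/
theorem sesq_expand (β : (κ → F) →ₗ[F] (κ → F) →ₛₗ[σ] F) (y y' : κ → F) :
    β y y' = ∑ j, ∑ l, y j * σ (y' l) * β (Pi.single j 1) (Pi.single l 1) := by
  conv_lhs => rw [pi_eq_sum_univ' y, pi_eq_sum_univ' y']
  simp only [map_sum, LinearMap.sum_apply, map_smul, LinearMap.smul_apply, map_smulₛₗ, smul_eq_mul,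
    Finset.mul_sum]
  rw [Finset.sum_comm]
  apply Finset.sum_congr rfl
  intro j _
  apply Finset.sum_congr rfl
  intro l _
  ring

/-- (own copy of BAS1) the tensor form on pure tensors -/
theorem tf_pure' (x x' : ι → F) (y y' : κ → F) :
    tf α β (vecMulVec x y) (vecMulVec x' y') = α x x' * β y y' := by
  rw [tf_apply, sesq_expand β y y', Finset.mul_sum]
  apply Finset.sum_congr rfl
  intro j _
  rw [Finset.mul_sum]
  apply Finset.sum_congr rfl
  intro l _
  simp only [colv_vecMulVec, map_smul, LinearMap.smul_apply, map_smulₛₗ, smul_eq_mul]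
  ring

/-- (own copy of BAS3a) the tensor form is hermitian -/
theorem tf_isHerm' (hσ : Invol σ) (hα : IsHerm α) (hβ : IsHerm β) : IsHerm (tf α β) := by
  intro X Y
  rw [tf_apply, tf_apply, map_sum, Finset.sum_comm]
  apply Finset.sum_congr rfl
  intro j _
  rw [map_sum]
  apply Finset.sum_congr rfl
  intro l _
  rw [map_mul, ← hα, ← hβ]


section geom

variable {V : Type*} [AddCommGroup V] [Module F V] {B : V →ₗ[F] V →ₛₗ[σ] F}

/-- an anisotropic vector of a nondegenerate hermitian space of dimension at least two is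
`c (y + θ y')` for a hyperbolic pair `y, y'` and `θ` of nonzero trace -/
theorem aniso_decomp [Finite F] [FiniteDimensional F V] (hσ : Invol σ) (hB : IsHerm B)
    (hN : NondegOn B ⊤) (h2 : 2 ≤ finrank F V) {w : V} (hw : B w w ≠ 0) :
    ∃ (y y' : V) (c θ : F), B y y = 0 ∧ B y' y' = 0 ∧ B y y' = 1 ∧ θ + σ θ ≠ 0 ∧
      w = c • (y + θ • y') := by
  have hw0 : w ≠ 0 := by
    rintro rfl
    exact hw (by simp)
  -- an isotropic vector not orthogonal to `w`
  obtain ⟨y, hy, hyw⟩ : ∃ y : V, B y y = 0 ∧ B y w ≠ 0 := by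
    by_contra hcon
    push Not at hcon
    -- a nonzero isotropic vector
    obtain ⟨v, hv⟩ : ∃ v : V, v ∉ Submodule.span F {w} := by
      by_contra hall
      push Not at hall
      have htop : Submodule.span F {w} = ⊤ := Submodule.eq_top_iff'.mpr hall
      have h1 : finrank F (Submodule.span F {w}) = finrank F V := by rw [htop, finrank_top]
      have h3 : finrank F (Submodule.span F {w}) = 1 := finrank_span_singleton hw0
      omega
    obtain ⟨a, b, hab0, habiso⟩ := exists_iso hσ hB hw0 hv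
    obtain ⟨f, _, hf, hef⟩ := exists_partner hσ hB hN (Submodule.mem_top) hab0 habiso
    have hspan := span_iso hσ hB (U := ⊤) Submodule.mem_top Submodule.mem_top habiso hf hef w
      Submodule.mem_top
    have hle : Submodule.span F {z : V | z ∈ (⊤ : Submodule F V) ∧ B z z = 0} ≤ orthV B w := by
      rw [Submodule.span_le]
      rintro z ⟨_, hz⟩
      exact mem_orthV.mpr (hcon z hz)
    exact hw (mem_orthV.mp (hle hspan))
  obtain ⟨l, hl⟩ := tr_surj hσ (B w w) (herm_self hB w)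
  obtain ⟨c, hc⟩ : ∃ c : F, c = l / B y w := ⟨_, rfl⟩
  have hcμ : c * B y w = l := by rw [hc, div_mul_cancel₀ _ hyw]
  have hc0 : c ≠ 0 := by
    rintro rfl
    rw [zero_mul] at hcμ
    rw [← hcμ, map_zero, add_zero] at hl
    exact hw hl.symm
  have hwy : B w y = σ (B y w) := hB y w
  obtain ⟨z, hz⟩ : ∃ z : V, z = w - c • y := ⟨_, rfl⟩
  have hzz : B z z = 0 := by
    rw [hz]
    simp only [map_sub, LinearMap.sub_apply, map_smul, LinearMap.smul_apply, map_smulₛₗ,
      smul_eq_mul, hy, hwy]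
    have : σ l = σ c * σ (B y w) := by rw [← map_mul, hcμ]
    linear_combination -hl + this - hcμ
  have hyz : B y z = B y w := by
    rw [hz, map_sub, map_smulₛₗ, hy, smul_zero, sub_zero]
  have hσμ : σ (B y w) ≠ 0 := (map_ne_zero σ).mpr hyw
  refine ⟨y, (σ (B y w))⁻¹ • z, c, σ (B y w) / c, hy, ?_, ?_, ?_, ?_⟩
  · rw [self_smul, hzz, mul_zero]
  · rw [map_smulₛₗ, smul_eq_mul, map_inv₀, hσ.invol, hyz, inv_mul_cancel₀ hyw]
  · rw [map_div₀, hσ.invol]
    have hσc : σ c ≠ 0 := (map_ne_zero σ).mpr hc0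
    have h5 : σ (B y w) / c + B y w / σ c = B w w / (c * σ c) := by
      have : σ l = σ c * σ (B y w) := by rw [← map_mul, hcμ]
      field_simp
      linear_combination hl - this + hcμ
    rw [h5]
    exact div_ne_zero hw (mul_ne_zero hc0 hσc)
  · rw [smul_add, smul_smul, smul_smul, mul_div_cancel₀ _ hc0, mul_inv_cancel₀ hσμ, one_smul, hz]
    abel

/-- a vector orthogonal to a hyperbolic pair with prescribed norm (dimension at least three) -/
theorem exists_perp_norm [Finite F] [FiniteDimensional F V] (hσ : Invol σ) (hB : IsHerm B)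
    (hN : NondegOn B ⊤) (h3 : 3 ≤ finrank F V) {e f : V} (he : B e e = 0) (hf : B f f = 0)
    (hef : B e f = 1) (t : F) (ht : σ t = t) :
    ∃ r : V, B r e = 0 ∧ B r f = 0 ∧ B r r = t := by
  have hU := nondegOn_pair hB hN (U := ⊤) Submodule.mem_top Submodule.mem_top he hf hef
  -- a nonzero vector of `⟨e,f⟩^⊥`
  obtain ⟨x, hx0, hxe, hxf⟩ : ∃ x : V, x ≠ 0 ∧ B x e = 0 ∧ B x f = 0 := by
    have hker : LinearMap.ker ((B.flip e).prod (B.flip f)) ≠ ⊥ := by
      apply LinearMap.ker_ne_bot_of_finrank_lt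
      rw [Module.finrank_prod, Module.finrank_self]
      omega
    obtain ⟨x, hxk, hx0⟩ := Submodule.exists_mem_ne_zero_of_ne_bot hker
    rw [LinearMap.mem_ker] at hxk
    have h1 : (B.flip e) x = 0 := congrArg Prod.fst hxk
    have h2 : (B.flip f) x = 0 := congrArg Prod.snd hxk
    exact ⟨x, hx0, h1, h2⟩
  have hxU : x ∈ (⊤ : Submodule F V) ⊓ orthV B e ⊓ orthV B f :=
    ⟨⟨Submodule.mem_top, mem_orthV.mpr hxe⟩, mem_orthV.mpr hxf⟩
  obtain ⟨d, hdU, hd⟩ := exists_aniso hσ hB hU hxU hx0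
  have hde : B d e = 0 := mem_orthV.mp hdU.1.2
  have hdf : B d f = 0 := mem_orthV.mp hdU.2
  obtain ⟨l, hl⟩ := norm_surj hσ (t / B d d) (by rw [map_div₀, ht, herm_self hB])
  refine ⟨l • d, ?_, ?_, ?_⟩
  · rw [map_smul, LinearMap.smul_apply, hde, smul_zero]
  · rw [map_smul, LinearMap.smul_apply, hdf, smul_zero]
  · rw [self_smul, hl, div_mul_cancel₀ _ hd]

end geom


/-- G3 (M): `(isotropic) ⊗ (anisotropic)` centres. -/
theorem uu_iso_any [Finite F] (hσ : Invol σ) (hα : IsHerm α) (hαN : NondegOn α ⊤)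
    (hβ : IsHerm β) (hβN : NondegOn β ⊤) (ha : 3 ≤ Fintype.card ι) (hb : 2 ≤ Fintype.card κ)
    (hM : M ≤ uG (tf α β))
    (h : ∀ (x : ι → F) (y : κ → F), α x x = 0 → β y y = 0 → vecMulVec x y ∈ UU (tf α β) M)
    (x : ι → F) (hx : α x x = 0) (w : κ → F) : vecMulVec x w ∈ UU (tf α β) M := by
  by_cases hw : β w w = 0
  · exact h x w hx hw
  by_cases hx0 : x = 0
  · subst hx0
    rw [zero_vecMulVec]
    exact Cfsg.Agent.Lib.Helper94_UDDefs.UU_zero M
  have hT : IsHerm (tf α β) := tf_isHerm' hσ hα hβ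
  obtain ⟨y, y', c, θ, hy, hy', hyy', hθ, hwe⟩ := aniso_decomp hσ hβ hβN
    (by rw [Module.finrank_fintype_fun_eq_card]; exact hb) hw
  have hy'y : β y' y = 1 := by rw [hβ y y', hyy', map_one]
  obtain ⟨x', _, hx', hxx'⟩ := exists_partner hσ hα hαN Submodule.mem_top hx0 hx
  have hx'x : α x' x = 1 := by rw [hα x x', hxx', map_one]
  obtain ⟨k, hk0, hk⟩ := exists_skew hσ
  have ht : σ (-(k * (θ - σ θ))) = -(k * (θ - σ θ)) := by
    rw [map_neg, map_mul, map_sub, hσ.invol, hk]
    ring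
  obtain ⟨r0, hr0x, hr0x', hr0⟩ := exists_perp_norm hσ hα hαN
    (by rw [Module.finrank_fintype_fun_eq_card]; exact ha) hx hx' hxx' (-(k * (θ - σ θ))) ht
  have hxr0 : α x r0 = 0 := herm_eq_zero hα hr0x
  have hx'r0 : α x' r0 = 0 := herm_eq_zero hα hr0x'
  -- the form on `⟨x, x', r0⟩`
  have hform : ∀ a b e a' b' e' : F,
      α (a • x + b • x' + e • r0) (a' • x + b' • x' + e' • r0) =
        a * σ b' + b * σ a' + e * σ e' * (-(k * (θ - σ θ))) := by
    intro a b e a' b' e'
    simp only [map_add, map_smul, map_smulₛₗ, LinearMap.add_apply, LinearMap.smul_apply,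
      smul_eq_mul, hx, hx', hxx', hx'x, hr0x, hr0x', hxr0, hx'r0, hr0]
    ring
  -- the form on `A ⊗ ⟨y, y'⟩`
  have hT2 : ∀ p p' q q' : ι → F,
      tf α β (vecMulVec p y + vecMulVec p' y') (vecMulVec q y + vecMulVec q' y') =
        α p q' + α p' q := by
    intro p p' q q'
    simp only [map_add, LinearMap.add_apply, tf_pure', hy, hy', hyy', hy'y]
    ring
  have hσ1 : σ (1 : F) = 1 := map_one σ
  have hσ0 : σ (0 : F) = 0 := map_zero σ
  -- the four vectors of `A`
  obtain ⟨p, hp⟩ : ∃ p : ι → F, p = (0 : F) • x + k • x' + (0 : F) • r0 := ⟨_, rfl⟩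
  obtain ⟨p', hp'⟩ : ∃ p' : ι → F, p' = (1 : F) • x + (k * θ) • x' + (1 : F) • r0 := ⟨_, rfl⟩
  obtain ⟨q, hq⟩ : ∃ q : ι → F, q = (1 : F) • x + (-k) • x' + (0 : F) • r0 := ⟨_, rfl⟩
  obtain ⟨q', hq'⟩ : ∃ q' : ι → F, q' = (θ - 1) • x + (-(k * θ)) • x' + (-1 : F) • r0 := ⟨_, rfl⟩
  have hpp : α p p = 0 := by
    rw [hp, hform]; simp only [hσ0]; ring
  have hp'p' : α p' p' = 0 := by
    rw [hp', hform]; simp only [map_mul, hσ1, hk]; ring
  have hqq : α q q = 0 := by
    rw [hq, hform]; simp only [map_neg, hσ1, hσ0, hk]; ring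
  have hq'q' : α q' q' = 0 := by
    rw [hq', hform]; simp only [map_neg, map_mul, map_sub, hσ1, hk]; ring
  have hpp' : α p p' = k := by
    rw [hp, hp', hform]; simp only [map_mul, hσ1, hk]; ring
  have hp'p : α p' p = -k := by
    rw [hp, hp', hform]; simp only [hσ0, hk]; ring
  have hqq' : α q q' = k := by
    rw [hq, hq', hform]; simp only [map_neg, map_mul, map_sub, hσ1, hk]; ring
  have hq'q : α q' q = -k := by
    rw [hq, hq', hform]; simp only [map_neg, hσ1, hσ0, hk]; ring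
  have hpq' : α p q' = k * (σ θ - 1) := by
    rw [hp, hq', hform]; simp only [map_neg, map_mul, map_sub, hσ1, hk]; ring
  have hp'q : α p' q = k + k * θ := by
    rw [hp', hq, hform]; simp only [map_neg, hσ1, hσ0, hk]; ring
  -- `u`, `u'`
  have hu : vecMulVec p y + vecMulVec p' y' ∈ UU (tf α β) M := by
    apply Cfsg.Agent.Lib.Helper94_UDDefs.UU_add hσ hT hM (h p y hpp hy) (h p' y' hp'p' hy')
    · rw [tf_pure', hpp', hyy', mul_one]; exact hk0
    · rw [hT2, hpp', hp'p]; ring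
  have hu' : vecMulVec q y + vecMulVec q' y' ∈ UU (tf α β) M := by
    apply Cfsg.Agent.Lib.Helper94_UDDefs.UU_add hσ hT hM (h q y hqq hy) (h q' y' hq'q' hy')
    · rw [tf_pure', hqq', hyy', mul_one]; exact hk0
    · rw [hT2, hqq', hq'q]; ring
  have hsum : (vecMulVec p y + vecMulVec p' y') + (vecMulVec q y + vecMulVec q' y') =
      vecMulVec x (y + θ • y') := by
    have e1 : p + q = x := by
      rw [hp, hq]; module
    have e2 : p' + q' = θ • x := by
      rw [hp', hq']; module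
    have e3 : vecMulVec x y = vecMulVec p y + vecMulVec q y := by rw [← add_vecMulVec, e1]
    have e4 : vecMulVec (θ • x) y' = vecMulVec p' y' + vecMulVec q' y' := by
      rw [← add_vecMulVec, e2]
    rw [vecMulVec_add, vecMulVec_smul, ← smul_vecMulVec, e3, e4]
    abel
  have hmain : vecMulVec x (y + θ • y') ∈ UU (tf α β) M := by
    rw [← hsum]
    apply Cfsg.Agent.Lib.Helper94_UDDefs.UU_add hσ hT hM hu hu'
    · rw [hT2, hpq', hp'q]
      have : k * (σ θ - 1) + (k + k * θ) = k * (θ + σ θ) := by ring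
      rw [this]
      exact mul_ne_zero hk0 hθ
    · rw [hsum, tf_pure', hx, zero_mul]
  rw [hwe, vecMulVec_smul]
  exact Cfsg.Agent.Lib.Helper94_UDDefs.UU_smul hσ hmain c

end Cfsg.Agent.Lib.Helper86_UT_G3
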