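import Mathlib
import Cfsg.Agent.Lib.Helper54_UTDefs
import Cfsg.Agent.Lib.Helper37_UTDefs
import Cfsg.Agent.Lib.Helper54_UTModel
import Cfsg.Agent.Lib.Helper27_UQ_GEN

set_option autoImplicit false
set_option linter.unusedSectionVars false
set_option linter.unusedVariables false

/-!
# UTENS PART I package G1 (sub-architect helper54): one transvection with centre `x₀ ⊗ y₀`
gives the full root groups of all `x ⊗ y`, `x`, `y` isotropic.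
-/

namespace Cfsg.Agent.Lib.Helper8_UT1_G1

open Module
open Cfsg.Agent.Lib.Helper94_Symp Cfsg.Agent.Lib.Helper94_Herm Cfsg.Agent.Lib.Helper13_PSUSimple
  Cfsg.Agent.Lib.Helper94_FrmDefs Cfsg.Agent.Lib.Helper94_UDDefs Cfsg.Agent.Lib.Helper67_UT2Defs
  Cfsg.Agent.Lib.Helper54_UTDefs

section ABS

variable {F A B V : Type*} [Field F] [AddCommGroup A] [Module F A] [AddCommGroup B] [Module F B]
  [AddCommGroup V] [Module F V] {σ : F →+* F}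
variable {α : A →ₗ[F] A →ₛₗ[σ] F} {β : B →ₗ[F] B →ₛₗ[σ] F} {f : V →ₗ[F] V →ₛₗ[σ] F}
  {T : A →ₗ[F] B →ₗ[F] V} {M : Subgroup (V ≃ₗ[F] V)}

/-- the full root group of `x₀ ⊗ y₀` -/
theorem root_full [Finite F] [FiniteDimensional F A] [FiniteDimensional F B]
    (hC : TnCtx α β f T) (hM : TnHyp α β f T M)
    (ha : 3 ≤ finrank F A) {x₀ : A} {y₀ : B} (hx₀ : x₀ ≠ 0)
    (hx : α x₀ x₀ = 0) {c₀ : F} (hc₀ : c₀ ≠ 0) (hc₀s : σ c₀ = -c₀)
    (h : utv f (T x₀ y₀) c₀ ∈ M) : T x₀ y₀ ∈ UU f M := by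
  have hiso : f (T x₀ y₀) (T x₀ y₀) = 0 := by rw [hC.self_T, hx, zero_mul]
  refine ⟨hiso, ?_⟩
  intro c hc
  by_cases hc0 : c = 0
  · subst hc0
    have : utv f (T x₀ y₀) 0 = 1 := by
      ext v
      rw [utv_apply f hiso]
      simp
    rw [this]
    exact M.one_mem
  · set ν : F := c / c₀ with hν
    have hνfix : σ ν = ν := by
      rw [hν, map_div₀, hc, hc₀s, neg_div_neg_eq]
    have hν0 : ν ≠ 0 := div_ne_zero hc0 hc₀
    obtain ⟨μ, hμ⟩ := norm_surj hC.hσ ν hνfix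
    have hμ0 : μ ≠ 0 := by
      rintro rfl
      rw [zero_mul] at hμ
      exact hν0 hμ.symm
    have hμx0 : μ • x₀ ≠ 0 := smul_ne_zero hμ0 hx₀
    have hμx : α (μ • x₀) (μ • x₀) = 0 := by rw [self_smul, hx, mul_zero]
    obtain ⟨P, hP, hPx⟩ := Cfsg.Agent.Lib.Helper27_UQ_GEN.SUg_trans_iso hC.hσ hC.hα hC.hNα ha
      hx₀ hμx0 hx hμx
    obtain ⟨k, hk, hkT⟩ := hM.kr_mem P 1 hP (Subgroup.one_mem _)
    have hku : k ∈ uG f := hM.le_uG hk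
    have hconj := conj_utv hku (T x₀ y₀) c₀
    have hkxy : k (T x₀ y₀) = μ • T x₀ y₀ := by
      rw [hkT, hPx]
      simp
    rw [hkxy, utv_smul, hμ] at hconj
    have hνc : ν * c₀ = c := by
      rw [hν, div_mul_cancel₀ _ hc₀]
    rw [hνc] at hconj
    rw [← hconj]
    exact M.mul_mem (M.mul_mem hk h) (M.inv_mem hk)

/-- G1 (M): one transvection with centre `x₀ ⊗ y₀` gives the full root groups of all
`x ⊗ y`, `x`, `y` isotropic -/
theorem uu_iso_iso [Finite F] [FiniteDimensional F A] [FiniteDimensional F B]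
    (hC : TnCtx α β f T) (hM : TnHyp α β f T M)
    (ha : 3 ≤ finrank F A) (hb : 3 ≤ finrank F B) {x₀ : A} {y₀ : B} (hx₀ : x₀ ≠ 0) (hy₀ : y₀ ≠ 0)
    (hx : α x₀ x₀ = 0) (hy : β y₀ y₀ = 0) {c₀ : F} (hc₀ : c₀ ≠ 0) (hc₀s : σ c₀ = -c₀)
    (h : utv f (T x₀ y₀) c₀ ∈ M) :
    ∀ (x : A) (y : B), α x x = 0 → β y y = 0 → T x y ∈ UU f M := by
  intro x y hxx hyy
  have h0 : T x₀ y₀ ∈ UU f M := root_full hC hM ha hx₀ hx hc₀ hc₀s h
  by_cases hx0 : x = 0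
  · subst hx0
    rw [map_zero, LinearMap.zero_apply]
    exact UU_zero M
  by_cases hy0 : y = 0
  · subst hy0
    rw [map_zero]
    exact UU_zero M
  obtain ⟨P, hP, hPx⟩ := Cfsg.Agent.Lib.Helper27_UQ_GEN.SUg_trans_iso hC.hσ hC.hα hC.hNα ha
    hx₀ hx0 hx hxx
  obtain ⟨Q, hQ, hQy⟩ := Cfsg.Agent.Lib.Helper27_UQ_GEN.SUg_trans_iso hC.hσ hC.hβ hC.hNβ hb
    hy₀ hy0 hy hyy
  obtain ⟨k, hk, hkT⟩ := hM.kr_mem P Q hP hQ
  have := UU_map hM.le_uG hk h0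
  rwa [hkT, hPx, hQy] at this

end ABS

end Cfsg.Agent.Lib.Helper8_UT1_G1
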