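import Mathlib
import Cfsg.Agent.Lib.Helper54_UTDefs
import Cfsg.Agent.Lib.Helper37_UTDefs
import Cfsg.Agent.Lib.Helper54_UTModel

set_option autoImplicit false
set_option linter.unusedSectionVars false
set_option linter.unusedVariables false

/-!
# UTENS PART I package Z2 (sub-architect helper54): if `1 + P_x ⊗ S` is an isometry
(`x ≠ 0` isotropic) then `S` is skew-adjoint.
-/

namespace Cfsg.Agent.Lib.Helper8_UT1_Z2

open Module
open Cfsg.Agent.Lib.Helper94_Symp Cfsg.Agent.Lib.Helper94_Herm Cfsg.Agent.Lib.Helper13_PSUSimple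
  Cfsg.Agent.Lib.Helper94_FrmDefs Cfsg.Agent.Lib.Helper94_UDDefs Cfsg.Agent.Lib.Helper67_UT2Defs
  Cfsg.Agent.Lib.Helper54_UTDefs

section ABS

variable {F A B V : Type*} [Field F] [AddCommGroup A] [Module F A] [AddCommGroup B] [Module F B]
  [AddCommGroup V] [Module F V] {σ : F →+* F}
variable {α : A →ₗ[F] A →ₛₗ[σ] F} {β : B →ₗ[F] B →ₛₗ[σ] F} {f : V →ₗ[F] V →ₛₗ[σ] F}
  {T : A →ₗ[F] B →ₗ[F] V} {M : Subgroup (V ≃ₗ[F] V)}

/-- Z2 (M): if `1 + P_x ⊗ S` is an isometry (`x ≠ 0` isotropic) then `S` is skew-adjoint -/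
theorem zs_skew (hC : TnCtx α β f T) {x : A} (hx0 : x ≠ 0) (hx : α x x = 0) (S : B →ₗ[F] B)
    (g : V ≃ₗ[F] V) (hg : g ∈ uG f) (hZ : IsZ α T x S g) :
    ∀ u v : B, β (S u) v + β u (S v) = 0 := by
  intro u v
  obtain ⟨a₀, -, ha₀⟩ := hC.hNα x Submodule.mem_top hx0
  have hxa : α x a₀ ≠ 0 := ha₀
  have hax : α a₀ x ≠ 0 := herm_ne_zero hC.hσ hC.hα hxa
  have hax' : α x a₀ = σ (α a₀ x) := hC.hα a₀ x
  have h := hg (T a₀ u) (T a₀ v)
  rw [hZ a₀ u, hZ a₀ v] at h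
  simp only [map_add, map_smul, map_smulₛₗ, LinearMap.add_apply, LinearMap.smul_apply,
    smul_eq_mul, hC.hT, hx, zero_mul, mul_zero, add_zero] at h
  have h2 : α a₀ x * σ (α a₀ x) * (β (S u) v + β u (S v)) = 0 := by
    rw [hax'] at h
    have : α a₀ a₀ * β u v + σ (α a₀ x) * (α a₀ x * β u (S v)) +
        α a₀ x * (σ (α a₀ x) * β (S u) v) - α a₀ a₀ * β u v = 0 := by
      rw [sub_eq_zero]
      convert h using 1
      ring
    rw [← this]
    ring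
  have hne : α a₀ x * σ (α a₀ x) ≠ 0 := mul_ne_zero hax ((map_ne_zero σ).mpr hax)
  rcases mul_eq_zero.mp h2 with h3 | h3
  · exact absurd h3 hne
  · exact h3

end ABS

end Cfsg.Agent.Lib.Helper8_UT1_Z2
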