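import Mathlib
import Cfsg.Agent.Lib.Helper54_UTDefs
import Cfsg.Agent.Lib.Helper37_UTDefs
import Cfsg.Agent.Lib.Helper54_UTModel
import Cfsg.Agent.Lib.Helper63_UT1_Z1
import Cfsg.Agent.Lib.Helper8_UT1_Z2
import Cfsg.Agent.Lib.Helper54_UT1_Z34
import Cfsg.Agent.Lib.Helper17_UT1_Z5
import Cfsg.Agent.Lib.Helper8_UT1_G1
import Cfsg.Agent.Lib.Helper54_UT1_RR
import Cfsg.Agent.Lib.Helper6_UT1_ONB
import Cfsg.Agent.Lib.Helper47_UT1_ST7
import Cfsg.Agent.Lib.Helper82_UT1_MOD1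
import Cfsg.Agent.Lib.Helper26_UT1_MOD2
import Cfsg.Agent.Lib.Helper47_UT_RSA
import Cfsg.Agent.Lib.Helper86_UT_G3
import Cfsg.Agent.Lib.Helper10_UT_G2

set_option autoImplicit false
set_option linter.unusedSectionVars false
set_option linter.unusedVariables false

/-!
# UTENS PART I (helper54): assembly.  Case 1 of `pending/helper37/UTENS_proof.md`:
a non-standard radical element of type I or II in `M` forces `M = SU(V)`.
-/

namespace Cfsg.Agent.Lib.Helper54_UT1Final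

open Module
open Cfsg.Agent.Lib.Helper94_Symp Cfsg.Agent.Lib.Helper94_Herm Cfsg.Agent.Lib.Helper13_PSUSimple
  Cfsg.Agent.Lib.Helper94_FrmDefs Cfsg.Agent.Lib.Helper94_UDDefs Cfsg.Agent.Lib.Helper67_UT2Defs
  Cfsg.Agent.Lib.Helper54_UTDefs

section ABS

variable {F A B V : Type*} [Field F] [AddCommGroup A] [Module F A] [AddCommGroup B] [Module F B]
  [AddCommGroup V] [Module F V] {σ : F →+* F}
variable {α : A →ₗ[F] A →ₛₗ[σ] F} {β : B →ₗ[F] B →ₛₗ[σ] F} {f : V →ₗ[F] V →ₛₗ[σ] F}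
  {T : A →ₗ[F] B →ₗ[F] V} {M : Subgroup (V ≃ₗ[F] V)}

/-- a non-standard element `1 + P_x ⊗ S` of `M` gives a transvection with centre `x ⊗ y` in `M` -/
theorem transv_of_nonstd [Finite F] [FiniteDimensional F B] (hC : TnCtx α β f T)
    (hM : TnHyp α β f T M) (hb : 3 ≤ finrank F B) {x : A} (hx0 : x ≠ 0) (hx : α x x = 0)
    (S : B →ₗ[F] B) (g : V ≃ₗ[F] V) (hg : g ∈ M) (hZ : IsZ α T x S g)
    (hns : ¬ ∃ s : F, S = s • (LinearMap.id : B →ₗ[F] B)) :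
    ∃ (y : B) (c : F), y ≠ 0 ∧ β y y = 0 ∧ c ≠ 0 ∧ σ c = -c ∧ utv f (T x y) c ∈ M := by
  obtain ⟨𝒮, h𝒮⟩ := Cfsg.Agent.Lib.Helper63_UT1_Z1.zs_addSubgroup (α := α) (T := T) M hx
  have hskew : ∀ S' ∈ 𝒮, ∀ u v, β (S' u) v + β u (S' v) = 0 := by
    intro S' hS'
    obtain ⟨g', hg', hZ'⟩ := (h𝒮 S').mp hS'
    exact Cfsg.Agent.Lib.Helper8_UT1_Z2.zs_skew hC hx0 hx S' g' (hM.le_uG hg') hZ'
  have hconj : ∀ S' ∈ 𝒮, ∀ Q ∈ SUg β,
      (Q : B ≃ₗ[F] B).toLinearMap ∘ₗ S' ∘ₗ (Q⁻¹ : B ≃ₗ[F] B).toLinearMap ∈ 𝒮 := by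
    intro S' hS' Q hQ
    obtain ⟨g', hg', hZ'⟩ := (h𝒮 S').mp hS'
    exact (h𝒮 _).mpr (Cfsg.Agent.Lib.Helper54_UT1_Z34.zs_conj hC hM S' g' hg' hZ' Q hQ)
  have hS : S ∈ 𝒮 := (h𝒮 S).mpr ⟨g, hg, hZ⟩
  obtain ⟨y, c, hy0, hy, hc0, hmem⟩ :=
    Cfsg.Agent.Lib.Helper47_UT_RSA.rsa_abs hC.hσ hC.hβ hC.hNβ hb 𝒮 hskew hconj hS hns
  obtain ⟨g', hg', hZ'⟩ := (h𝒮 _).mp hmem
  refine ⟨y, c, hy0, hy, hc0, Cfsg.Agent.Lib.Helper17_UT1_Z5.skew_of_rk1h hC.hσ hC.hβ hC.hNβ hy0 c (hskew _ hmem), ?_⟩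
  rw [← Cfsg.Agent.Lib.Helper54_UT1_Z34.zs_utv hC (Or.inl hx) c g' hZ']
  exact hg'

/-- if all isotropic pure tensors have their root group in `M` then `SU(V) ≤ M` -/
theorem gen_of_pure [Finite F] [FiniteDimensional F A] [FiniteDimensional F B]
    [FiniteDimensional F V] (hC : TnCtx α β f T) (hMu : M ≤ uG f) (hb : 3 ≤ finrank F B)
    (h4 : 4 ≤ finrank F V)
    (hPT : ∀ (x : A) (y : B), α x x = 0 ∨ β y y = 0 → T x y ∈ UU f M) : SUg f ≤ M := by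
  obtain ⟨w, hw1, hw0, hsup, hfr, hnd⟩ := Cfsg.Agent.Lib.Helper6_UT1_ONB.exists_blocks hC
  have hall : ∀ x : V, f x x = 0 → x ∈ UU f M := by
    apply Cfsg.Agent.Lib.Helper47_UT1_ST7.step7_blocks hC.hσ hC.hf hC.hNf (fun i => LinearMap.range (T (w i))) hsup hnd
      ?_ ?_ M hMu ?_ ?_
    · rintro i j hij _ ⟨y, rfl⟩ _ ⟨y', rfl⟩
      rw [hC.hT, hw0 i j hij, zero_mul]
    · intro i
      rw [hfr i]
      exact hb
    · rintro i _ ⟨y, rfl⟩ haa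
      apply hPT
      right
      rw [hC.self_T, hw1 i, one_mul] at haa
      exact haa
    · intro p q hpq
      rintro _ ⟨y, rfl⟩ _ ⟨y', rfl⟩ hiso
      have h11 : α (w p) (w p) ≠ 0 := by rw [hw1 p]; exact one_ne_zero
      have h22 : α (w q) (w q) ≠ 0 := by rw [hw1 q]; exact one_ne_zero
      exact Cfsg.Agent.Lib.Helper54_UT1_RR.rr_pair hC hMu hPT h11 h22 (hw0 p q hpq) y y' hiso
  exact SUg_le_of_UU hC.hσ hC.hf hC.hNf h4 hall

end ABS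

section MODEL

open Matrix Cfsg.Agent.Lib.Helper98_ExtDefs Cfsg.Agent.Lib.Helper97_TensDefs
  Cfsg.Agent.Lib.Helper37_UTDefs Cfsg.Agent.Lib.Helper54_UTModel

variable {F : Type*} [Field F] {ι κ : Type*} [Fintype ι] [Fintype κ] [DecidableEq ι]
  [DecidableEq κ] {σ : F →+* F}
variable {α : (ι → F) →ₗ[F] (ι → F) →ₛₗ[σ] F} {β : (κ → F) →ₗ[F] (κ → F) →ₛₗ[σ] F}
variable {M : Subgroup (Matrix ι κ F ≃ₗ[F] Matrix ι κ F)}

/-- GEN in the Matrix model: one transvection `1 + c₀ P_x₀ ⊗ P_y₀ ∈ M` gives `M = SU(V)` -/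
theorem gen_model [Finite F] (hC : Cfsg.Agent.Lib.Helper37_UTDefs.UTCtx α β M)
    {x₀ : ι → F} {y₀ : κ → F} (hx₀ : x₀ ≠ 0) (hy₀ : y₀ ≠ 0) (hx : α x₀ x₀ = 0)
    (hy : β y₀ y₀ = 0) {c₀ : F} (hc₀ : c₀ ≠ 0) (hc₀s : σ c₀ = -c₀)
    (h : utv (tf α β) (vecMulVec x₀ y₀) c₀ ∈ M) : M = SUg (tf α β) := by
  obtain ⟨hT, hH⟩ := Cfsg.Agent.Lib.Helper82_UT1_MOD1.model_ctx hC
  have ha : 3 ≤ finrank F (ι → F) := by
    rw [Module.finrank_fintype_fun_eq_card]; exact hC.ha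
  have hb : 4 ≤ finrank F (κ → F) := by
    rw [Module.finrank_fintype_fun_eq_card]
    have := hC.ha
    have := hC.hab
    omega
  have h4 : 4 ≤ finrank F (Matrix ι κ F) := by
    rw [Module.finrank_matrix, Module.finrank_self, mul_one]
    have h1 := hC.ha
    have h2 := hC.hab
    nlinarith
  have hMu : M ≤ uG (tf α β) := hH.le_uG
  have hII : ∀ (x : ι → F) (y : κ → F), α x x = 0 → β y y = 0 →
      vecMulVec x y ∈ UU (tf α β) M := by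
    intro x y hxx hyy
    have := Cfsg.Agent.Lib.Helper8_UT1_G1.uu_iso_iso hT hH ha (by omega) hx₀ hy₀ hx hy hc₀ hc₀s (by rw [vm_apply]; exact h)
      x y hxx hyy
    rwa [vm_apply] at this
  have hPT : ∀ (x : ι → F) (y : κ → F), α x x = 0 ∨ β y y = 0 →
      vm F ι κ x y ∈ UU (tf α β) M := by
    intro x y hxy
    rw [vm_apply]
    rcases hxy with hxx | hyy
    · exact Cfsg.Agent.Lib.Helper86_UT_G3.uu_iso_any hC.hσ hC.hα hC.hαN hC.hβ hC.hβN hC.ha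
        (by have := hC.ha; have := hC.hab; omega) hMu hII x hxx y
    · exact Cfsg.Agent.Lib.Helper10_UT_G2.uu_any_iso hC.hσ hC.hα hC.hαN hC.hβ hC.hβN
        (by have := hC.ha; omega) (by have := hC.ha; have := hC.hab; omega) hMu hII x y hyy
  exact le_antisymm hC.hM (gen_of_pure hT hMu (by omega) h4 hPT)

/-- **PART I of UTENS** (case 1): if `RadStdII` or `RadStdI` fails then `M = SU(V)` -/
theorem case1 [Finite F] (hC : Cfsg.Agent.Lib.Helper37_UTDefs.UTCtx α β M)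
    (h : ¬ RadStdII α M ∨ ¬ RadStdI β M) : M = SUg (tf α β) := by
  obtain ⟨hT, hH⟩ := Cfsg.Agent.Lib.Helper82_UT1_MOD1.model_ctx hC
  have ha : 3 ≤ finrank F (ι → F) := by
    rw [Module.finrank_fintype_fun_eq_card]; exact hC.ha
  have hb : 3 ≤ finrank F (κ → F) := by
    rw [Module.finrank_fintype_fun_eq_card]
    have := hC.ha
    have := hC.hab
    omega
  rcases h with h | h
  · unfold RadStdII at h
    push Not at h
    obtain ⟨x, hx0, hx, S, ⟨g, hg, hgX⟩, hns⟩ := h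
    have hZ := Cfsg.Agent.Lib.Helper26_UT1_MOD2.model_isZ (α := α) x S g hgX
    obtain ⟨y, c, hy0, hy, hc0, hcs, hmem⟩ :=
      transv_of_nonstd hT hH hb hx0 hx S g hg hZ (by push Not; exact hns)
    rw [vm_apply] at hmem
    exact gen_model hC hx0 hy0 hx hy hc0 hcs hmem
  · unfold RadStdI at h
    push Not at h
    obtain ⟨y, hy0, hy, P, ⟨g, hg, hgX⟩, hns⟩ := h
    have hZ := Cfsg.Agent.Lib.Helper26_UT1_MOD2.model_isZ_flip (β := β) y P g hgX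
    obtain ⟨x, c, hx0, hx, hc0, hcs, hmem⟩ :=
      transv_of_nonstd hT.swap hH.swap ha hy0 hy P g hg hZ (by push Not; exact hns)
    rw [flip_T, vm_apply] at hmem
    exact gen_model hC hx0 hy0 hx hy hc0 hcs hmem

end MODEL

end Cfsg.Agent.Lib.Helper54_UT1Final
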