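import Mathlib
import Cfsg.Agent.Lib.Helper37_UTCase2
import Cfsg.Agent.Lib.Helper54_UT1Final

set_option autoImplicit false
set_option linter.unusedSectionVars false
set_option linter.unusedVariables false

/-!
# `GU_a(q) ⊗ GU_b(q)` is maximal in `SU_{ab}(q)`, `3 ≤ a < b`, all `q`: the abstract theorem
(architect helper37; Part I by helper54's market, Part II by the UTENS market)
-/

namespace Cfsg.Agent.Lib.Helper37_UTMain

open Matrix Module
open Cfsg.Agent.Lib.Helper98_ExtDefs Cfsg.Agent.Lib.Helper97_TensDefs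
open Cfsg.Agent.Lib.Helper94_Herm Cfsg.Agent.Lib.Helper13_PSUSimple
open Cfsg.Agent.Lib.Helper67_UT2Defs Cfsg.Agent.Lib.Helper37_UTDefs

variable {F : Type*} [Field F] {ι κ : Type*} [Fintype ι] [Fintype κ] [DecidableEq ι]
  [DecidableEq κ] {σ : F →+* F}
variable {α : (ι → F) →ₗ[F] (ι → F) →ₛₗ[σ] F} {β : (κ → F) →ₗ[F] (κ → F) →ₛₗ[σ] F}
variable {M : Subgroup (Matrix ι κ F ≃ₗ[F] Matrix ι κ F)}

/-- the abstract theorem: a subgroup of `SU(A ⊗ B)` containing all Kronecker elements of `SU`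
consists of Kronecker elements or is `SU(A ⊗ B)` -/
theorem main_abstract [Finite F] (hC : UTCtx α β M) :
    (∀ g ∈ M, IsKron g) ∨ M = SUg (tf α β) := by
  by_cases hII : RadStdII α M
  · by_cases hI : RadStdI β M
    · exact Or.inl (Cfsg.Agent.Lib.Helper37_UTCase2.case2 hC hII hI)
    · exact Or.inr (Cfsg.Agent.Lib.Helper54_UT1Final.case1 hC (Or.inr hI))
  · exact Or.inr (Cfsg.Agent.Lib.Helper54_UT1Final.case1 hC (Or.inl hII))

end Cfsg.Agent.Lib.Helper37_UTMain
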