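import Mathlib
import Cfsg.Agent.Lib.Helper37_UTDefs
import Cfsg.Agent.Lib.Helper94_UDDefs
import Cfsg.Agent.Lib.Helper73_Tens_TP1
import Cfsg.Agent.Lib.Helper2_UT2_ISOEX
import Cfsg.Agent.Lib.Helper45_PSURoot
import Cfsg.Agent.Lib.Helper31_UT_BAS3
import Cfsg.Agent.Lib.Helper17_UT_BAS1

set_option autoImplicit false
set_option linter.unusedSectionVars false
set_option linter.unusedVariables false

/-!
UTENS package PROPER: the unitary group of the tensor form `tf α β` (both factors of dimension at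
least two) contains an element that is not a Kronecker map `X ↦ P * X * Qᵀ`: the unitary
transvection with centre the pure isotropic tensor `x ⊗ y` (`x`, `y` isotropic).  A Kronecker map
sends pure tensors to pure tensors, and the two by two determinant identity on the four images of
`u ⊗ w`, `x ⊗ w`, `u ⊗ y`, `x ⊗ y` is violated.
-/

namespace Cfsg.Agent.Lib.Helper54_UT_PROPER

open Matrix Module
open Cfsg.Agent.Lib.Helper98_ExtDefs Cfsg.Agent.Lib.Helper97_TensDefs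
open Cfsg.Agent.Lib.Helper94_Herm Cfsg.Agent.Lib.Helper13_PSUSimple
open Cfsg.Agent.Lib.Helper67_UT2Defs Cfsg.Agent.Lib.Helper37_UTDefs
open Cfsg.Agent.Lib.Helper94_FrmDefs

variable {F : Type*} [Field F] {ι κ : Type*} [Fintype ι] [Fintype κ] [DecidableEq ι]
  [DecidableEq κ] {σ : F →+* F}
variable {α : (ι → F) →ₗ[F] (ι → F) →ₛₗ[σ] F} {β : (κ → F) →ₗ[F] (κ → F) →ₛₗ[σ] F}
variable {M : Subgroup (Matrix ι κ F ≃ₗ[F] Matrix ι κ F)}

/-- a nonzero isotropic vector of a nondegenerate hermitian space `ι → F`, `2 ≤ |ι|` -/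
theorem exists_iso_fun [Finite F] (hσ : Invol σ) (hα : IsHerm α) (hαN : NondegOn α ⊤)
    (ha : 2 ≤ Fintype.card ι) : ∃ x : ι → F, x ≠ 0 ∧ α x x = 0 := by
  have h2 : 2 ≤ finrank F (⊤ : Submodule F (ι → F)) := by
    rw [finrank_top, Module.finrank_fintype_fun_eq_card]
    exact ha
  obtain ⟨x, -, hx0, hx⟩ :=
    Cfsg.Agent.Lib.Helper2_UT2_ISOEX.exists_iso_in hσ hα ⊤ hαN h2
  exact ⟨x, hx0, hx⟩

/-- the Kronecker map on a pure tensor -/
theorem kron_pure (P : Matrix ι ι F) (Q : Matrix κ κ F) (a : ι → F) (b : κ → F) :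
    P * vecMulVec a b * Qᵀ = vecMulVec (P *ᵥ a) (Q *ᵥ b) := by
  rw [Matrix.mul_vecMulVec, Matrix.vecMulVec_mul, Matrix.vecMul_transpose]

/-- PROPER: `SU (tf α β)` is not contained in the Kronecker maps. -/
theorem exists_not_isKron [Finite F] (hσ : Invol σ) (hα : IsHerm α) (hαN : NondegOn α ⊤)
    (hβ : IsHerm β) (hβN : NondegOn β ⊤) (ha : 2 ≤ Fintype.card ι) (hb : 2 ≤ Fintype.card κ) :
    ∃ t ∈ SUg (tf α β), ¬ IsKron t := by
  obtain ⟨x, hx0, hx⟩ := exists_iso_fun hσ hα hαN ha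
  obtain ⟨y, hy0, hy⟩ := exists_iso_fun hσ hβ hβN hb
  obtain ⟨c₀, hc0, hc⟩ := exists_skew hσ
  have hT : IsHerm (tf α β) := Cfsg.Agent.Lib.Helper31_UT_BAS3.tf_isHerm hσ hα hβ
  have hpure : ∀ (a a' : ι → F) (b b' : κ → F),
      tf α β (vecMulVec a b) (vecMulVec a' b') = α a a' * β b b' :=
    fun a a' b b' => Cfsg.Agent.Lib.Helper17_UT_BAS1.tf_pure a a' b b'
  have hv : tf α β (vecMulVec x y) (vecMulVec x y) = 0 := by
    rw [hpure, hx, zero_mul]
  refine ⟨utv (tf α β) (vecMulVec x y) c₀,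
    Cfsg.Agent.Lib.Helper45_PSURoot.utv_mem_SUg hT _ hc, ?_⟩
  rintro ⟨P, Q, hPQ⟩
  -- partners
  obtain ⟨u, -, hu⟩ := hαN x (Submodule.mem_top) hx0
  obtain ⟨w, -, hw⟩ := hβN y (Submodule.mem_top) hy0
  have hu' : α u x ≠ 0 := herm_ne_zero hσ hα hu
  have hw' : β w y ≠ 0 := herm_ne_zero hσ hβ hw
  obtain ⟨i, hi⟩ : ∃ i, x i ≠ 0 := by
    by_contra hcon
    push Not at hcon
    exact hx0 (funext hcon)
  obtain ⟨j, hj⟩ : ∃ j, y j ≠ 0 := by
    by_contra hcon
    push Not at hcon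
    exact hy0 (funext hcon)
  -- the entry identity
  have key : ∀ (a : ι → F) (b : κ → F),
      (P *ᵥ a) i * (Q *ᵥ b) j = a i * b j + c₀ * (α a x * β b y) * (x i * y j) := by
    intro a b
    have h1 := hPQ (vecMulVec a b)
    rw [utv_apply (tf α β) hv, kron_pure, hpure] at h1
    have h2 := congrFun (congrFun h1 i) j
    simp only [Matrix.add_apply, Matrix.smul_apply, vecMulVec_apply, smul_eq_mul] at h2
    exact h2.symm
  have E1 := key u w
  have E2 := key x w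
  have E3 := key u y
  have E4 := key x y
  rw [hx] at E2 E4
  rw [hy] at E3
  have hμ : c₀ * (α u x * β w y) * (x i * y j) ^ 2 = 0 := by
    linear_combination (-(x i * y j)) * E1 - ((P *ᵥ u) i * (Q *ᵥ w) j) * E4
      + ((P *ᵥ x) i * (Q *ᵥ w) j) * E3 + (u i * y j) * E2
  have : c₀ * (α u x * β w y) * (x i * y j) ^ 2 ≠ 0 :=
    mul_ne_zero (mul_ne_zero hc0 (mul_ne_zero hu' hw')) (pow_ne_zero 2 (mul_ne_zero hi hj))
  exact this hμ

end Cfsg.Agent.Lib.Helper54_UT_PROPER
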