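import Mathlib
import Cfsg.Agent.Lib.Helper37_UTDefs
import Cfsg.Agent.Lib.Helper70_Tens_TP10b
import Cfsg.Agent.Lib.Helper44_UT2_BR_TR
import Cfsg.Agent.Lib.Helper94_TensorFrameU
import Cfsg.Agent.Lib.Helper94_HermBridge

set_option autoImplicit false
set_option linter.unusedSectionVars false
set_option linter.unusedVariables false

/-!
# UTENS bridge (helper67, for helper37's UTENS `GU_a ⊗ GU_b < SU_{ab}`): from the abstract theorem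
on `Matrix (Fin n₁) (Fin n₂) F` (model of `Helper37_UTDefs`) to
`IsMaximalIn (GU ⊓ SL) (tensorProductSubgroup n₁ n₂ e P ⊓ (GU ⊓ SL))`.
Reuses helper70's `theta`/`Phi` (S5637 bridge) and helper44's `SU_eq`/`conjE_mem_SUg`.
-/

open Module Matrix
open scoped Kronecker
open Cfsg.Agent.Lib.Helper94_Symp Cfsg.Agent.Lib.Helper94_Herm Cfsg.Agent.Lib.Helper13_PSUSimple
  Cfsg.Agent.Lib.Helper94_Bridge Cfsg.Agent.Lib.Helper94_SLBridge Cfsg.Agent.Lib.Helper94_HermBridge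
  Cfsg.Agent.Lib.Helper94_TensorFrameU Cfsg.Agent.Lib.Helper70_Tens_TP10b
  Cfsg.Agent.Lib.Helper97_TensDefs Cfsg.Agent.Lib.Helper37_UTDefs

namespace Cfsg.Agent.Lib.Helper67_UTBridge

variable {F : Type*} [Field F] [Fintype F] {q : ℕ}

/-- the Kronecker form in matrix coordinates -/
theorem formOfGram_kron_tf (σ : F →+* F) (hσq : ∀ x, σ x = x ^ q) {n₁ n₂ : ℕ}
    (f₁ : (Fin n₁ → F) → (Fin n₁ → F) → F) (f₂ : (Fin n₂ → F) → (Fin n₂ → F) → F)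
    (hf1 : Cfsg.Geo.IsUnitaryFormPow q f₁) (hf2 : Cfsg.Geo.IsUnitaryFormPow q f₂)
    (x y : Fin n₁ × Fin n₂ → F) :
    Cfsg.Geo.formOfGram (fun x : F => x ^ q)
        (Cfsg.Geo.gramMatrix f₁ ⊗ₖ Cfsg.Geo.gramMatrix f₂) x y =
      tf (sesqOf σ hσq f₁ hf1) (sesqOf σ hσq f₂ hf2)
        (Matrix.of fun i k => x (i, k)) (Matrix.of fun i k => y (i, k)) := by
  rw [tf_apply]
  unfold Cfsg.Geo.formOfGram
  simp only [sesqOf_apply, form_eq_gram_pow σ hσq f₁ hf1]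
  have hG : ∀ j l : Fin n₂, f₂ (Pi.single j 1) (Pi.single l 1) = Cfsg.Geo.gramMatrix f₂ j l :=
    fun j l => rfl
  simp only [hG, colv, Matrix.of_apply, Fintype.sum_prod_type, Matrix.kroneckerMap_apply,
    Finset.sum_mul]
  -- LHS: ∑ i, ∑ j, ∑ i', ∑ l ; RHS: ∑ j, ∑ l, ∑ i, ∑ i'
  rw [Finset.sum_comm]
  apply Finset.sum_congr rfl
  intro j _
  have h1 : ∀ i : Fin n₁, ∑ i' : Fin n₁, ∑ l : Fin n₂,
      x (i, j) * (Cfsg.Geo.gramMatrix f₁ i i' * Cfsg.Geo.gramMatrix f₂ j l) * y (i', l) ^ q =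
      ∑ l : Fin n₂, ∑ i' : Fin n₁,
      x (i, j) * (Cfsg.Geo.gramMatrix f₁ i i' * Cfsg.Geo.gramMatrix f₂ j l) * y (i', l) ^ q :=
    fun i => Finset.sum_comm
  simp only [h1]
  rw [Finset.sum_comm]
  apply Finset.sum_congr rfl
  intro l _
  apply Finset.sum_congr rfl
  intro i _
  apply Finset.sum_congr rfl
  intro i' _
  ring

/-- BR-FORM : the tensor form structure in the coordinates `theta e P` -/
theorem form_eq (σ : F →+* F) (hσq : ∀ x, σ x = x ^ q) (n n₁ n₂ : ℕ)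
    (e : Fin n ≃ Fin n₁ × Fin n₂) (P : GL (Fin n) F)
    (f₁ : (Fin n₁ → F) → (Fin n₁ → F) → F) (f₂ : (Fin n₂ → F) → (Fin n₂ → F) → F)
    (hf1 : Cfsg.Geo.IsUnitaryFormPow q f₁) (hf2 : Cfsg.Geo.IsUnitaryFormPow q f₂) (c : F)
    (hc : ∀ x y : Fin n₁ × Fin n₂ → F,
      Cfsg.hermForm n F q ((P : Matrix (Fin n) (Fin n) F) *ᵥ (x ∘ e))
        ((P : Matrix (Fin n) (Fin n) F) *ᵥ (y ∘ e)) =
      c * Cfsg.Geo.formOfGram (fun x : F => x ^ q)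
        (Cfsg.Geo.gramMatrix f₁ ⊗ₖ Cfsg.Geo.gramMatrix f₂) x y)
    (v w : Fin n → F) :
    Cfsg.hermForm n F q v w =
      c * tf (sesqOf σ hσq f₁ hf1) (sesqOf σ hσq f₂ hf2) (theta e P v) (theta e P w) := by
  set x : Fin n₁ × Fin n₂ → F := fun a =>
    (((P⁻¹ : GL (Fin n) F) : Matrix _ _ F) *ᵥ v) (e.symm a) with hx
  set y : Fin n₁ × Fin n₂ → F := fun a =>
    (((P⁻¹ : GL (Fin n) F) : Matrix _ _ F) *ᵥ w) (e.symm a) with hy
  have hxv : (P : Matrix _ _ F) *ᵥ (x ∘ e) = v := by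
    have : x ∘ e = ((P⁻¹ : GL (Fin n) F) : Matrix _ _ F) *ᵥ v := by
      funext j
      simp [hx]
    rw [this, Matrix.mulVec_mulVec, ← Units.val_mul, mul_inv_cancel, Units.val_one,
      Matrix.one_mulVec]
  have hyw : (P : Matrix _ _ F) *ᵥ (y ∘ e) = w := by
    have : y ∘ e = ((P⁻¹ : GL (Fin n) F) : Matrix _ _ F) *ᵥ w := by
      funext j
      simp [hy]
    rw [this, Matrix.mulVec_mulVec, ← Units.val_mul, mul_inv_cancel, Units.val_one,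
      Matrix.one_mulVec]
  have h := hc x y
  rw [hxv, hyw, formOfGram_kron_tf σ hσq f₁ f₂ hf1 hf2] at h
  rw [h]
  rfl

/-- BR-MAIN : the bridge.  `hmain` is the abstract theorem (dichotomy + a non-Kronecker element of
`SU`), in the model of `Helper37_UTDefs`. -/
theorem bridge (n q n₁ n₂ : ℕ) (hF : Fintype.card F = q ^ 2) (h1 : 0 < n₁) (h2 : 0 < n₂)
    (e : Fin n ≃ Fin n₁ × Fin n₂) (P : GL (Fin n) F)
    (f₁ : (Fin n₁ → F) → (Fin n₁ → F) → F) (f₂ : (Fin n₂ → F) → (Fin n₂ → F) → F)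
    (hf1 : Cfsg.Geo.IsUnitaryFormPow q f₁) (hf2 : Cfsg.Geo.IsUnitaryFormPow q f₂)
    (hT : Cfsg.Geo.IsTensorFormStructure (fun x : F => x ^ q) (Cfsg.hermForm n F q) f₁ f₂ e P)
    (hmain : ∀ (σ : F →+* F), (∀ x, σ x = x ^ q) → Invol σ →
      ∀ (α : (Fin n₁ → F) →ₗ[F] (Fin n₁ → F) →ₛₗ[σ] F)
        (β : (Fin n₂ → F) →ₗ[F] (Fin n₂ → F) →ₛₗ[σ] F),
      IsHerm α → NondegOn α ⊤ → IsHerm β → NondegOn β ⊤ →
      (∃ t ∈ SUg (tf α β), ¬ IsKron t) ∧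
      ∀ M : Subgroup (Matrix (Fin n₁) (Fin n₂) F ≃ₗ[F] Matrix (Fin n₁) (Fin n₂) F),
        M ≤ SUg (tf α β) → (∀ g ∈ SUg (tf α β), IsKron g → g ∈ M) →
        (∀ g ∈ M, IsKron g) ∨ M = SUg (tf α β)) :
    Cfsg.Geo.IsMaximalIn (Cfsg.GU n F q ⊓ Cfsg.Geo.specialLinear (Fin n) F)
      (Cfsg.Geo.tensorProductSubgroup n₁ n₂ e P ⊓
        (Cfsg.GU n F q ⊓ Cfsg.Geo.specialLinear (Fin n) F)) := by
  obtain ⟨σ, hσq, hσ⟩ := exists_frob hF
  obtain ⟨c, hc0, hc⟩ := hT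
  set α : (Fin n₁ → F) →ₗ[F] (Fin n₁ → F) →ₛₗ[σ] F := sesqOf σ hσq f₁ hf1 with hαdef
  set β : (Fin n₂ → F) →ₗ[F] (Fin n₂ → F) →ₛₗ[σ] F := sesqOf σ hσq f₂ hf2 with hβdef
  have hα : IsHerm α := sesqOf_isHerm σ hσq f₁ hf1
  have hβ : IsHerm β := sesqOf_isHerm σ hσq f₂ hf2
  have hαN : NondegOn α ⊤ := by
    intro x _ hx
    obtain ⟨y, hy⟩ := (hf1.nondegenerate x hx).2
    exact ⟨y, trivial, hy⟩
  have hβN : NondegOn β ⊤ := by
    intro x _ hx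
    obtain ⟨y, hy⟩ := (hf2.nondegenerate x hx).2
    exact ⟨y, trivial, hy⟩
  have hform : ∀ v w : Fin n → F,
      hermB n σ hσq v w = c * tf α β (theta e P v) (theta e P w) := by
    intro v w
    rw [hermB_apply]
    exact form_eq σ hσq n n₁ n₂ e P f₁ f₂ hf1 hf2 c hc v w
  -- membership in `SU`
  have hSU : ∀ g : GL (Fin n) F,
      g ∈ Cfsg.GU n F q ⊓ Cfsg.Geo.specialLinear (Fin n) F ↔ Phi e P g ∈ SUg (tf α β) := by
    intro g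
    rw [Cfsg.Agent.Lib.Helper44_UT2_BR_TR.SU_eq σ hσq, Subgroup.mem_comap]
    exact (Cfsg.Agent.Lib.Helper44_UT2_BR_TR.conjE_mem_SUg (theta e P) (hermB n σ hσq)
      (tf α β) c hc0 hform _).symm
  -- membership in the tensor product subgroup
  have hK : ∀ g : GL (Fin n) F,
      g ∈ Cfsg.Geo.tensorProductSubgroup n₁ n₂ e P ↔ IsKron (Phi e P g) :=
    fun g => ⟨isKron_of_mem e P g, mem_of_isKron h1 h2 e P g⟩
  obtain ⟨⟨t, htS, htK⟩, hdich⟩ := hmain σ hσq hσ α β hα hαN hβ hβN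
  refine ⟨?_, ?_⟩
  · -- properness
    refine lt_of_le_of_ne inf_le_right ?_
    intro heq
    have h1' : (Phi e P).symm t ∈ Cfsg.GU n F q ⊓ Cfsg.Geo.specialLinear (Fin n) F := by
      rw [hSU, MulEquiv.apply_symm_apply]; exact htS
    rw [← heq] at h1'
    have h2' := (hK _).mp h1'.1
    rw [MulEquiv.apply_symm_apply] at h2'
    exact htK h2'
  · intro M hHM hMK
    set M' : Subgroup (Matrix (Fin n₁) (Fin n₂) F ≃ₗ[F] Matrix (Fin n₁) (Fin n₂) F) :=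
      M.map (Phi e P).toMonoidHom with hM'
    have hM'le : M' ≤ SUg (tf α β) := by
      rintro x ⟨g, hg, rfl⟩
      exact (hSU g).mp (hMK hg)
    have hmem : ∀ x ∈ SUg (tf α β), IsKron x → x ∈ M' := by
      intro x hxS hxK
      refine ⟨(Phi e P).symm x, hHM ⟨(hK _).mpr ?_, (hSU _).mpr ?_⟩, ?_⟩
      · rwa [MulEquiv.apply_symm_apply]
      · rwa [MulEquiv.apply_symm_apply]
      · exact MulEquiv.apply_symm_apply (Phi e P) x
    rcases hdich M' hM'le hmem with hall | htop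
    · left
      apply le_antisymm _ hHM
      intro g hg
      exact ⟨(hK g).mpr (hall _ ⟨g, hg, rfl⟩), hMK hg⟩
    · right
      apply le_antisymm hMK
      intro g hg
      have h1' : Phi e P g ∈ M' := by rw [htop]; exact (hSU g).mp hg
      obtain ⟨g', hg', hgg'⟩ := h1'
      have : g' = g := (Phi e P).injective hgg'
      rwa [← this]

/-- the bridge with the abstract theorem stated through `UTCtx` (`3 ≤ n₁ < n₂`) -/
theorem maximal_utens_of (n q n₁ n₂ : ℕ) (hF : Fintype.card F = q ^ 2) (h3 : 3 ≤ n₁)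
    (h12 : n₁ < n₂)
    (e : Fin n ≃ Fin n₁ × Fin n₂) (P : GL (Fin n) F)
    (f₁ : (Fin n₁ → F) → (Fin n₁ → F) → F) (f₂ : (Fin n₂ → F) → (Fin n₂ → F) → F)
    (hf1 : Cfsg.Geo.IsUnitaryFormPow q f₁) (hf2 : Cfsg.Geo.IsUnitaryFormPow q f₂)
    (hT : Cfsg.Geo.IsTensorFormStructure (fun x : F => x ^ q) (Cfsg.hermForm n F q) f₁ f₂ e P)
    (habs : ∀ (σ : F →+* F) (α : (Fin n₁ → F) →ₗ[F] (Fin n₁ → F) →ₛₗ[σ] F)
        (β : (Fin n₂ → F) →ₗ[F] (Fin n₂ → F) →ₛₗ[σ] F)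
        (M : Subgroup (Matrix (Fin n₁) (Fin n₂) F ≃ₗ[F] Matrix (Fin n₁) (Fin n₂) F)),
      UTCtx α β M → (∀ g ∈ M, IsKron g) ∨ M = SUg (tf α β))
    (hprop : ∀ (σ : F →+* F) (α : (Fin n₁ → F) →ₗ[F] (Fin n₁ → F) →ₛₗ[σ] F)
        (β : (Fin n₂ → F) →ₗ[F] (Fin n₂ → F) →ₛₗ[σ] F),
      Invol σ → IsHerm α → NondegOn α ⊤ → IsHerm β → NondegOn β ⊤ →
      ∃ t ∈ SUg (tf α β), ¬ IsKron t) :
    Cfsg.Geo.IsMaximalIn (Cfsg.GU n F q ⊓ Cfsg.Geo.specialLinear (Fin n) F)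
      (Cfsg.Geo.tensorProductSubgroup n₁ n₂ e P ⊓
        (Cfsg.GU n F q ⊓ Cfsg.Geo.specialLinear (Fin n) F)) := by
  refine bridge n q n₁ n₂ hF (by omega) (by omega) e P f₁ f₂ hf1 hf2 hT ?_
  intro σ hσq hσ α β hα hαN hβ hβN
  refine ⟨hprop σ α β hσ hα hαN hβ hβN, ?_⟩
  intro M hM hN
  exact habs σ α β M
    ⟨hσ, hα, hαN, hβ, hβN, by rw [Fintype.card_fin]; exact h3,
      by rw [Fintype.card_fin, Fintype.card_fin]; exact h12, hM, hN⟩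

end Cfsg.Agent.Lib.Helper67_UTBridge
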