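import Mathlib
import Cfsg.Agent.Lib.Helper37_UTMain
import Cfsg.Agent.Lib.Helper67_UTBridge
import Cfsg.Agent.Lib.Helper54_UT_PROPER

set_option autoImplicit false

/-!
# `GU_{n₁}(q) ⊗ GU_{n₂}(q)` is maximal in `SU_{n₁ n₂}(q)`: `3 ≤ n₁ < n₂`, all `q` (prelude statement)
(architect helper37; Part I helper54's market; Part II the UTENS market; bridge helper67)
-/

namespace Cfsg.Agent.Lib.Helper37_UTFinal

open Module

/-- `GU_{n₁}(q) ⊗ GU_{n₂}(q)` is maximal in `SU_n(q)`: `3 ≤ n₁ < n₂`, all `q` -/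
theorem maximal_utens {F : Type*} [Field F] [Fintype F] (n q : ℕ)
    (hF : Fintype.card F = q ^ 2) (n₁ n₂ : ℕ) (h3 : 3 ≤ n₁) (h12 : n₁ < n₂)
    (e : Fin n ≃ Fin n₁ × Fin n₂) (P : Matrix.GeneralLinearGroup (Fin n) F)
    (f₁ : (Fin n₁ → F) → (Fin n₁ → F) → F) (f₂ : (Fin n₂ → F) → (Fin n₂ → F) → F)
    (hf1 : Cfsg.Geo.IsUnitaryFormPow q f₁) (hf2 : Cfsg.Geo.IsUnitaryFormPow q f₂)
    (hT : Cfsg.Geo.IsTensorFormStructure (fun x : F => x ^ q) (Cfsg.hermForm n F q) f₁ f₂ e P) :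
    Cfsg.Geo.IsMaximalIn (Cfsg.GU n F q ⊓ Cfsg.Geo.specialLinear (Fin n) F)
      (Cfsg.Geo.tensorProductSubgroup n₁ n₂ e P ⊓
        (Cfsg.GU n F q ⊓ Cfsg.Geo.specialLinear (Fin n) F)) := by
  refine Cfsg.Agent.Lib.Helper67_UTBridge.maximal_utens_of n q n₁ n₂ hF h3 h12 e P f₁ f₂ hf1 hf2 hT
    ?_ ?_
  · intro σ α β M hC
    exact Cfsg.Agent.Lib.Helper37_UTMain.main_abstract hC
  · intro σ α β hσ hα hαN hβ hβN
    exact Cfsg.Agent.Lib.Helper54_UT_PROPER.exists_not_isKron hσ hα hαN hβ hβN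
      (by rw [Fintype.card_fin]; omega) (by rw [Fintype.card_fin]; omega)

end Cfsg.Agent.Lib.Helper37_UTFinal
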