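import Mathlib
import Cfsg.Agent.Lib.Helper48_Generation
import Cfsg.Agent.S0023
import Cfsg.Agent.S0024
import Cfsg.Agent.S0025
import Cfsg.Agent.Lib.Helper50_CD

set_option autoImplicit false
open scoped Pointwise

namespace Cfsg.Agent.Lib.Helper38_BrauerWielandt

open Cfsg.Agent.Lib.Helper48_Generation

section Basic

variable {Q : Type*} [Group Q]

/-- The fixed-point subgroup of an automorphism. -/
def fixSub (c : MulAut Q) : Subgroup Q where
  carrier := {x | c x = x}
  one_mem' := map_one c
  mul_mem' := fun {x y} hx hy => by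
    show c (x * y) = x * y
    rw [map_mul, show c x = x from hx, show c y = y from hy]
  inv_mem' := fun {x} hx => by
    show c x⁻¹ = x⁻¹
    rw [map_inv, show c x = x from hx]

theorem mem_fixSub {c : MulAut Q} {x : Q} : x ∈ fixSub c ↔ c x = x := Iff.rfl

theorem fix_pow {c : MulAut Q} {x : Q} (h : c x = x) (k : ℕ) : (c ^ k) x = x := by
  induction k with
  | zero => simp
  | succ k ih => rw [pow_succ, MulAut.mul_apply, h, ih]

/-- The `p + 1` cyclic subgroups of `⟨α, β⟩`: `none ↦ β`, `some i ↦ α β^i`. -/
def cc (p : ℕ) (α β : MulAut Q) : Option (ZMod p) → MulAut Q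
  | none => β
  | some i => α * β ^ i.val

variable {p : ℕ}

theorem cc_commute_right {α β : MulAut Q} (h : Commute α β) (o : Option (ZMod p)) :
    Commute (cc p α β o) β := by
  cases o with
  | none => exact Commute.refl β
  | some i => exact Commute.mul_left h ((Commute.refl β).pow_left _)

theorem cc_commute_left {α β : MulAut Q} (h : Commute α β) (o : Option (ZMod p)) :
    Commute (cc p α β o) α := by
  cases o with
  | none => exact h.symm
  | some i => exact Commute.mul_left (Commute.refl α) (h.symm.pow_left _)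

theorem cc_commute {α β : MulAut Q} (h : Commute α β) (o o' : Option (ZMod p)) :
    Commute (cc p α β o) (cc p α β o') := by
  cases o' with
  | none => exact cc_commute_right h o
  | some i => exact Commute.mul_right (cc_commute_left h o) ((cc_commute_right h o).pow_right _)

theorem cc_pow {α β : MulAut Q} (hα : α ^ p = 1) (hβ : β ^ p = 1) (h : Commute α β)
    (o : Option (ZMod p)) : (cc p α β o) ^ p = 1 := by
  cases o with
  | none => exact hβ
  | some i =>
    show (α * β ^ i.val) ^ p = 1
    rw [(h.pow_right _).mul_pow, hα, ← pow_mul, mul_comm, pow_mul, hβ, one_pow, one_mul]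

theorem cc_map {Q' : Type*} [Group Q'] (Φ : MulAut Q →* MulAut Q') (α β : MulAut Q)
    (o : Option (ZMod p)) : Φ (cc p α β o) = cc p (Φ α) (Φ β) o := by
  cases o with
  | none => rfl
  | some i => show Φ (α * β ^ i.val) = Φ α * Φ β ^ i.val; rw [map_mul, map_pow]

theorem F2_le {α β : MulAut Q} (o : Option (ZMod p)) :
    fixSub α ⊓ fixSub β ≤ fixSub (cc p α β o) := by
  intro x hx
  obtain ⟨h1, h2⟩ := Subgroup.mem_inf.mp hx
  cases o with
  | none => exact h2
  | some i =>
    show (α * β ^ i.val) x = x
    rw [MulAut.mul_apply, fix_pow h2, h1]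

theorem fix_of_pow_eq [Fact p.Prime] {β : MulAut Q} (hβ : β ^ p = 1) {x : Q} {i j : ℕ} (hij : i < j)
    (hj : j < p) (h : (β ^ i) x = (β ^ j) x) : β x = x := by
  have hd : (β ^ (j - i)) x = x := by
    have e : j = i + (j - i) := by omega
    rw [e, pow_add, MulAut.mul_apply] at h
    exact ((β ^ i).injective h).symm
  have hp : p.Prime := Fact.out
  have hcop : Nat.Coprime (j - i) (orderOf β) := by
    have h1 : orderOf β ∣ p := orderOf_dvd_of_pow_eq_one hβ
    have h2 : Nat.Coprime (j - i) p := by
      apply Nat.Coprime.symm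
      rw [hp.coprime_iff_not_dvd]
      intro h3
      have := Nat.le_of_dvd (by omega) h3
      omega
    exact Nat.Coprime.coprime_dvd_right h1 h2
  obtain ⟨m, hm⟩ := exists_pow_eq_self_of_coprime hcop
  rw [← hm]
  exact fix_pow hd m

theorem pair_le [Fact p.Prime] {α β : MulAut Q} (hβ : β ^ p = 1) {o o' : Option (ZMod p)} (hne : o ≠ o')
    {x : Q} (h1 : x ∈ fixSub (cc p α β o)) (h2 : x ∈ fixSub (cc p α β o')) :
    x ∈ fixSub α ⊓ fixSub β := by
  have key : β x = x → ∀ i : ZMod p, (α * β ^ i.val) x = x → x ∈ fixSub α ⊓ fixSub β := by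
    intro hb i hi
    refine Subgroup.mem_inf.mpr ⟨?_, hb⟩
    rw [MulAut.mul_apply, fix_pow hb] at hi
    exact hi
  have hp : p.Prime := Fact.out
  have : NeZero p := ⟨hp.ne_zero⟩
  cases o with
  | none =>
    cases o' with
    | none => exact absurd rfl hne
    | some i => exact key h1 i h2
  | some i =>
    cases o' with
    | none => exact key h2 i h1
    | some j =>
      have hij : i ≠ j := fun h => hne (by rw [h])
      have hv : i.val ≠ j.val := fun h => hij (ZMod.val_injective p h)
      have h1' : α ((β ^ i.val) x) = x := h1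
      have h2' : α ((β ^ j.val) x) = x := h2
      have heq : (β ^ i.val) x = (β ^ j.val) x := α.injective (h1'.trans h2'.symm)
      have hb : β x = x := by
        rcases lt_or_gt_of_ne hv with h | h
        · exact fix_of_pow_eq hβ h (ZMod.val_lt j) heq
        · exact fix_of_pow_eq hβ h (ZMod.val_lt i) heq.symm
      exact key hb i h1

end Basic


section Abelian

variable {Z : Type*} [CommGroup Z] {p : ℕ} [Fact p.Prime]

theorem cycNorm_mul (c : MulAut Z) (x y : Z) :
    cycNorm p c (x * y) = cycNorm p c x * cycNorm p c y := by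
  unfold cycNorm
  rw [← Finset.prod_mul_distrib]
  exact Finset.prod_congr rfl (fun j _ => map_mul _ x y)

theorem cycNorm_one (c : MulAut Z) : cycNorm p c (1 : Z) = 1 := by
  unfold cycNorm
  simp

/-- `cycNorm` as a monoid homomorphism. -/
noncomputable def cycNormHom (p : ℕ) [Fact p.Prime] (c : MulAut Z) : Z →* Z where
  toFun := cycNorm p c
  map_one' := cycNorm_one c
  map_mul' := cycNorm_mul c

theorem cycNorm_of_fixed {c : MulAut Z} {x : Z} (h : c x = x) : cycNorm p c x = x ^ p := by
  unfold cycNorm
  simp_rw [fix_pow h]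
  simp [Finset.prod_const, Finset.card_univ, ZMod.card]

theorem cycNorm_comm {c d : MulAut Z} (h : Commute c d) (x : Z) :
    d (cycNorm p c x) = cycNorm p c (d x) := by
  unfold cycNorm
  rw [map_prod]
  apply Finset.prod_congr rfl
  intro j _
  have h2 : Commute d (c ^ j.val) := (h.pow_left _).symm
  rw [← MulAut.mul_apply, h2.eq, MulAut.mul_apply]

theorem mem_of_pow_mem [Finite Z] (hcop : ¬ p ∣ Nat.card Z) (S : Subgroup Z) {x : Z} (h : x ^ p ∈ S) :
    x ∈ S := by
  have hco : Nat.Coprime p (orderOf x) := by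
    have h6 : orderOf x ∣ Nat.card Z := orderOf_dvd_natCard x
    have h7 : Nat.Coprime p (Nat.card Z) :=
      (Nat.Prime.coprime_iff_not_dvd (Fact.out : p.Prime)).mpr hcop
    exact Nat.Coprime.coprime_dvd_right h6 h7
  obtain ⟨m, hm⟩ := exists_pow_eq_self_of_coprime hco
  rw [← hm]
  exact S.pow_mem h m


/-- Rebuild a kernel element from its `some` components. -/
noncomputable def kerInv (α β : MulAut Z) (g : ZMod p → ↥(fixSub α ⊓ fixSub β)) :
    ∀ o : Option (ZMod p), ↥(fixSub (cc p α β o))
  | none => ⟨(∏ i, (g i : Z))⁻¹, F2_le none ((fixSub α ⊓ fixSub β).inv_mem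
      (Subgroup.prod_mem _ (fun i _ => (g i).2)))⟩
  | some i => ⟨(g i : Z), F2_le (some i) (g i).2⟩

/-- **Brauer–Wielandt formula, abelian case.** -/
theorem bw_abelian [Finite Z] (hcop : ¬ p ∣ Nat.card Z) (α β : MulAut Z) (hα : α ^ p = 1)
    (hβ : β ^ p = 1) (hαβ : α * β = β * α) :
    Nat.card Z * Nat.card ↥(fixSub α ⊓ fixSub β) ^ p =
      ∏ o : Option (ZMod p), Nat.card ↥(fixSub (cc p α β o)) := by
  classical
  have hp : p.Prime := Fact.out
  have : NeZero p := ⟨hp.ne_zero⟩
  have hcomm : Commute α β := hαβ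
  set F : Option (ZMod p) → Subgroup Z := fun o => fixSub (cc p α β o) with hF
  set F2 : Subgroup Z := fixSub α ⊓ fixSub β with hF2
  let φ : (∀ o, F o) →* Z := ∏ o, (F o).subtype.comp (Pi.evalMonoidHom (fun o => ↥(F o)) o)
  have φ_apply : ∀ f, φ f = ∏ o, (f o : Z) := by
    intro f
    simp [φ]
  -- surjectivity
  have hsurj : φ.range = ⊤ := by
    have single : ∀ o (x : Z), x ∈ F o → x ∈ φ.range := by
      intro o x hx
      refine ⟨Pi.mulSingle o ⟨x, hx⟩, ?_⟩
      rw [φ_apply]
      rw [Finset.prod_eq_single o]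
      · simp
      · intro o' _ hne
        simp [Pi.mulSingle_eq_of_ne hne]
      · intro h
        exact absurd (Finset.mem_univ o) h
    apply eq_top_of_fixed_le (p := p) Z hcop α β hα hβ hαβ
    · intro x hx
      exact single none x hx
    · intro i x hx
      apply single (some (i : ZMod p)) x
      show (α * β ^ ((i : ZMod p)).val) x = x
      rw [ZMod.val_natCast, ← pow_eq_pow_mod _ hβ]
      exact hx
  -- kernel
  have hker : ∀ f ∈ φ.ker, ∀ o, (f o : Z) ∈ F2 := by
    intro f hf o
    rw [MonoidHom.mem_ker, φ_apply] at hf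
    apply mem_of_pow_mem hcop
    have h1 := congrArg (cycNormHom p (cc p α β o)) hf
    rw [map_prod, map_one] at h1
    rw [← Finset.mul_prod_erase Finset.univ _ (Finset.mem_univ o)] at h1
    have h2 : cycNormHom p (cc p α β o) (f o : Z) = (f o : Z) ^ p := cycNorm_of_fixed (f o).2
    rw [h2] at h1
    have h3 : (f o : Z) ^ p =
        (∏ o' ∈ Finset.univ.erase o, cycNormHom p (cc p α β o) (f o' : Z))⁻¹ :=
      eq_inv_of_mul_eq_one_left h1
    rw [h3]
    apply F2.inv_mem
    apply Subgroup.prod_mem
    intro o' ho'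
    have hne : o' ≠ o := Finset.ne_of_mem_erase ho'
    apply pair_le hβ hne.symm
    · exact cycNorm_fixed (cc_pow hα hβ hcomm o) _
    · show (cc p α β o') (cycNorm p (cc p α β o) (f o' : Z)) = _
      rw [cycNorm_comm (cc_commute hcomm o o')]
      congr 1
      exact (f o').2
  let e : φ.ker ≃ (ZMod p → F2) :=
    { toFun := fun f i => ⟨(f.1 (some i) : Z), hker f.1 f.2 (some i)⟩
      invFun := fun g => ⟨kerInv α β g, by
        rw [MonoidHom.mem_ker, φ_apply, Fintype.prod_option]
        simp [kerInv]⟩
      left_inv := by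
        intro f
        apply Subtype.ext
        funext o
        apply Subtype.ext
        cases o with
        | none =>
          have hf := f.2
          rw [MonoidHom.mem_ker, φ_apply, Fintype.prod_option] at hf
          show (∏ i, (f.1 (some i) : Z))⁻¹ = (f.1 none : Z)
          exact (eq_inv_of_mul_eq_one_left hf).symm
        | some i => rfl
      right_inv := by
        intro g
        funext i
        rfl }
  have hcard_ker : Nat.card φ.ker = Nat.card F2 ^ p := by
    rw [Nat.card_congr e, Nat.card_fun, Nat.card_zmod]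
  have h1 : Nat.card (∀ o, F o) = Nat.card ((∀ o, F o) ⧸ φ.ker) * Nat.card φ.ker :=
    Subgroup.card_eq_card_quotient_mul_card_subgroup φ.ker
  have h2 : Nat.card ((∀ o, F o) ⧸ φ.ker) = Nat.card Z := by
    have e2 := QuotientGroup.quotientKerEquivRange φ
    rw [Nat.card_congr e2.toEquiv, hsurj]
    exact Nat.card_congr Subgroup.topEquiv.toEquiv
  rw [h2, hcard_ker, Nat.card_pi] at h1
  exact h1.symm

end Abelian


section Quotient

variable {Q : Type*} [Group Q] {p : ℕ} [Fact p.Prime]

/-- Fixed points of a pair of commuting automorphisms of exponent `p`: multiplicativity over a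
characteristic `p'`-subgroup. -/
theorem card_fix_quot (N : Subgroup Q) [N.Characteristic] [Finite N] (hN : ¬ p ∣ Nat.card N)
    (α β : MulAut Q) (hα : α ^ p = 1) (hβ : β ^ p = 1) (hαβ : α * β = β * α) :
    Nat.card ↥(fixSub α ⊓ fixSub β) =
      Nat.card ↥(fixSub (MulAut.characteristic N α) ⊓ fixSub (MulAut.characteristic N β)) *
      Nat.card ↥(fixSub (autQuot N α) ⊓ fixSub (autQuot N β)) := by
  have hcomm : Commute α β := hαβ
  set F : Subgroup Q := fixSub α ⊓ fixSub β with hF
  let π : F →* Q ⧸ N := (QuotientGroup.mk' N).comp F.subtype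
  have hcharN : ∀ (c : MulAut Q), ∀ n ∈ N, c n ∈ N := by
    intro c n hn
    have h2 : c n ∈ N.map c.toMonoidHom := ⟨n, hn, rfl⟩
    have h3 := (Subgroup.characteristic_iff_map_eq.mp
      (inferInstance : N.Characteristic)) c
    rw [h3] at h2
    exact h2
  have hrange : π.range = fixSub (autQuot N α) ⊓ fixSub (autQuot N β) := by
    apply le_antisymm
    · rintro _ ⟨x, rfl⟩
      obtain ⟨h1, h2⟩ := Subgroup.mem_inf.mp x.2
      refine Subgroup.mem_inf.mpr ⟨?_, ?_⟩
      · show autQuot N α ((x : Q) : Q ⧸ N) = ((x : Q) : Q ⧸ N)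
        rw [autQuot_mk, show α (x : Q) = x from h1]
      · show autQuot N β ((x : Q) : Q ⧸ N) = ((x : Q) : Q ⧸ N)
        rw [autQuot_mk, show β (x : Q) = x from h2]
    · intro y hy
      obtain ⟨hy1, hy2⟩ := Subgroup.mem_inf.mp hy
      induction y using QuotientGroup.induction_on with
      | H x =>
        have hy1' : autQuot N α (x : Q ⧸ N) = (x : Q ⧸ N) := hy1
        have hy2' : autQuot N β (x : Q ⧸ N) = (x : Q ⧸ N) := hy2
        rw [autQuot_mk] at hy1' hy2'
        have hxβ : x⁻¹ * β x ∈ N := by
          rw [← QuotientGroup.eq]; exact hy2'.symm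
        obtain ⟨n₁, hn₁, hfix₁⟩ := exists_fixed_in_coset β hβ N hN (hcharN β) x hxβ
        set x' := x * n₁ with hx'
        -- second step inside `N ⊓ fixSub β`
        set N' : Subgroup Q := N ⊓ fixSub β with hN'
        have : Finite N' := Finite.of_injective (Subgroup.inclusion (inf_le_left : N' ≤ N))
          (Subgroup.inclusion_injective _)
        have hN'card : ¬ p ∣ Nat.card N' := fun h =>
          hN (h.trans (Subgroup.card_dvd_of_le inf_le_left))
        have hαN' : ∀ n ∈ N', α n ∈ N' := by
          intro n hn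
          obtain ⟨h1, h2⟩ := Subgroup.mem_inf.mp hn
          refine Subgroup.mem_inf.mpr ⟨hcharN α n h1, ?_⟩
          show β (α n) = α n
          rw [← MulAut.mul_apply, ← hαβ, MulAut.mul_apply, show β n = n from h2]
        have hx'α : x'⁻¹ * α x' ∈ N' := by
          refine Subgroup.mem_inf.mpr ⟨?_, ?_⟩
          · have e : x'⁻¹ * α x' = n₁⁻¹ * (x⁻¹ * α x) * α n₁ := by
              rw [hx', map_mul]; group
            rw [e]
            refine N.mul_mem (N.mul_mem (N.inv_mem hn₁) ?_) (hcharN α n₁ hn₁)
            rw [← QuotientGroup.eq]; exact hy1'.symm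
          · show β (x'⁻¹ * α x') = x'⁻¹ * α x'
            rw [map_mul, map_inv, hfix₁, ← MulAut.mul_apply, ← hαβ, MulAut.mul_apply, hfix₁]
        obtain ⟨n₂, hn₂, hfix₂⟩ := exists_fixed_in_coset α hα N' hN'card hαN' x' hx'α
        obtain ⟨hn₂N, hn₂β⟩ := Subgroup.mem_inf.mp hn₂
        have hmem : x' * n₂ ∈ F := by
          refine Subgroup.mem_inf.mpr ⟨hfix₂, ?_⟩
          show β (x' * n₂) = x' * n₂
          rw [map_mul, hfix₁, show β n₂ = n₂ from hn₂β]
        refine ⟨⟨x' * n₂, hmem⟩, ?_⟩
        show ((x' * n₂ : Q) : Q ⧸ N) = (x : Q ⧸ N)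
        rw [QuotientGroup.eq]
        have e : (x' * n₂)⁻¹ * x = (n₁ * n₂)⁻¹ := by rw [hx']; group
        rw [e]
        exact N.inv_mem (N.mul_mem hn₁ hn₂N)
  have hker : Nat.card π.ker =
      Nat.card ↥(fixSub (MulAut.characteristic N α) ⊓ fixSub (MulAut.characteristic N β)) := by
    have e1 : π.ker.map F.subtype = F ⊓ N := by
      ext x
      constructor
      · rintro ⟨y, hy, rfl⟩
        refine Subgroup.mem_inf.mpr ⟨y.2, ?_⟩
        have : ((y : Q) : Q ⧸ N) = 1 := hy
        exact (QuotientGroup.eq_one_iff _).mp this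
      · intro hx
        obtain ⟨h1, h2⟩ := Subgroup.mem_inf.mp hx
        refine ⟨⟨x, h1⟩, ?_, rfl⟩
        show ((x : Q) : Q ⧸ N) = 1
        exact (QuotientGroup.eq_one_iff _).mpr h2
    have e2 : (fixSub (MulAut.characteristic N α) ⊓ fixSub (MulAut.characteristic N β)).map
        N.subtype = F ⊓ N := by
      ext x
      constructor
      · rintro ⟨z, hz, rfl⟩
        obtain ⟨h1, h2⟩ := Subgroup.mem_inf.mp hz
        refine Subgroup.mem_inf.mpr ⟨Subgroup.mem_inf.mpr ⟨?_, ?_⟩, z.2⟩
        · exact congrArg Subtype.val (show MulAut.characteristic N α z = z from h1)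
        · exact congrArg Subtype.val (show MulAut.characteristic N β z = z from h2)
      · intro hx
        obtain ⟨h1, h2⟩ := Subgroup.mem_inf.mp hx
        obtain ⟨h3, h4⟩ := Subgroup.mem_inf.mp h1
        refine ⟨⟨x, h2⟩, Subgroup.mem_inf.mpr ⟨?_, ?_⟩, rfl⟩
        · exact Subtype.ext (show α x = x from h3)
        · exact Subtype.ext (show β x = x from h4)
    rw [← Subgroup.card_map_of_injective F.subtype_injective, e1, ← e2,
      Subgroup.card_map_of_injective N.subtype_injective]
  have h1 : Nat.card F = Nat.card (F ⧸ π.ker) * Nat.card π.ker :=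
    Subgroup.card_eq_card_quotient_mul_card_subgroup π.ker
  have h2 : Nat.card (F ⧸ π.ker) = Nat.card ↥(fixSub (autQuot N α) ⊓ fixSub (autQuot N β)) := by
    rw [Nat.card_congr (QuotientGroup.quotientKerEquivRange π).toEquiv, hrange]
  rw [h1, h2, hker, mul_comm]

end Quotient


section Nilpotent

open scoped IsMulCommutative

variable {p : ℕ} [Fact p.Prime]

/-- single automorphism version of `card_fix_quot`. -/
theorem card_fix_quot_single {Q : Type*} [Group Q] (N : Subgroup Q) [N.Characteristic] [Finite N]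
    (hN : ¬ p ∣ Nat.card N) (c : MulAut Q) (hc : c ^ p = 1) :
    Nat.card ↥(fixSub c) = Nat.card ↥(fixSub (MulAut.characteristic N c)) *
      Nat.card ↥(fixSub (autQuot N c)) := by
  have := card_fix_quot N hN c c hc hc rfl
  simpa only [inf_idem] using this

/-- **Brauer–Wielandt formula, abstract nilpotent form.** -/
theorem bw_nilpotent (Q : Type*) [Group Q] [hnil : Group.IsNilpotent Q] :
    ∀ [Finite Q], ¬ p ∣ Nat.card Q →
    ∀ (α β : MulAut Q), α ^ p = 1 → β ^ p = 1 → α * β = β * α →
    Nat.card Q * Nat.card ↥(fixSub α ⊓ fixSub β) ^ p =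
      ∏ o : Option (ZMod p), Nat.card ↥(fixSub (cc p α β o)) := by
  refine Group.nilpotent_center_quotient_ind
    (P := fun (Q : Type _) [Group Q] [Group.IsNilpotent Q] => ∀ [Finite Q], ¬ p ∣ Nat.card Q →
      ∀ (α β : MulAut Q), α ^ p = 1 → β ^ p = 1 → α * β = β * α →
      Nat.card Q * Nat.card ↥(fixSub α ⊓ fixSub β) ^ p =
        ∏ o : Option (ZMod p), Nat.card ↥(fixSub (cc p α β o))) Q ?_ ?_
  · intro Q _ _ _ _ α β _ _ _
    simp
  · intro Q _ _ ih hfin hcop α β hα hβ hαβ
    have hcomm : Commute α β := hαβ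
    set Z := Subgroup.center Q with hZ
    have hZcard : ¬ p ∣ Nat.card Z := fun h =>
      hcop (h.trans (Subgroup.card_subgroup_dvd_card _))
    have hQZcard : ¬ p ∣ Nat.card (Q ⧸ Z) := fun h =>
      hcop (h.trans (Subgroup.card_quotient_dvd_card _))
    have hbar := ih hQZcard (autQuot Z α) (autQuot Z β)
      (by rw [← map_pow, hα, map_one]) (by rw [← map_pow, hβ, map_one])
      (by rw [← map_mul, hαβ, map_mul])
    have hsub := bw_abelian (p := p) (Z := ↥Z) hZcard (MulAut.characteristic Z α)
      (MulAut.characteristic Z β)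
      (by rw [← map_pow, hα, map_one]) (by rw [← map_pow, hβ, map_one])
      (by rw [← map_mul, hαβ, map_mul])
    have h2 := card_fix_quot Z hZcard α β hα hβ hαβ
    have ho : ∀ o : Option (ZMod p), Nat.card ↥(fixSub (cc p α β o)) =
        Nat.card ↥(fixSub (cc p (MulAut.characteristic Z α) (MulAut.characteristic Z β) o)) *
        Nat.card ↥(fixSub (cc p (autQuot Z α) (autQuot Z β) o)) := by
      intro o
      rw [← cc_map, ← cc_map]
      exact card_fix_quot_single Z hZcard _ (cc_pow hα hβ hcomm o)
    have hQ : Nat.card Q = Nat.card (Q ⧸ Z) * Nat.card Z :=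
      Subgroup.card_eq_card_quotient_mul_card_subgroup Z
    rw [Finset.prod_congr rfl (fun o _ => ho o), Finset.prod_mul_distrib, ← hsub, ← hbar, h2, hQ,
      mul_pow]
    ring

end Nilpotent


section Ambient

variable {G : Type*} [Group G] {p : ℕ} [Fact p.Prime]

theorem centralizer_zpowers (g : G) :
    Subgroup.centralizer ((Subgroup.zpowers g : Subgroup G) : Set G) =
      Subgroup.centralizer ({g} : Set G) := by
  apply le_antisymm
  · exact Subgroup.centralizer_le (by
      intro x hx
      rw [Set.mem_singleton_iff] at hx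
      rw [hx]
      exact Subgroup.mem_zpowers g)
  · intro x hx y hy
    rw [Subgroup.mem_centralizer_singleton_iff] at hx
    obtain ⟨k, rfl⟩ := Subgroup.mem_zpowers_iff.mp hy
    have : Commute x g := hx
    exact ((this.zpow_right k).eq).symm

/-- The centralizer of `B` in a `B`-invariant Sylow `q`-subgroup of `K` has the full `q`-part of
`C_K(B)` (coprime action of a `p`-group `B` on a `p'`-group `K`). -/
theorem factorization_centralizer_sylow [Finite G] (B K : Subgroup G) (hB : IsPGroup p B)
    (hK : ¬ p ∣ Nat.card K) (hBK : B ≤ Subgroup.normalizer (K : Set G)) (q : ℕ) [Fact q.Prime]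
    (P : Sylow q K) (hBP : B ≤ Subgroup.normalizer ((P : Subgroup K).map K.subtype : Set G)) :
    (Nat.card ↥(K ⊓ Subgroup.centralizer (B : Set G))).factorization q =
      (Nat.card ↥((P : Subgroup K).map K.subtype ⊓ Subgroup.centralizer (B : Set G))).factorization q := by
  have hp : p.Prime := Fact.out
  have hq : q.Prime := Fact.out
  have hcop : (Nat.card B).Coprime (Nat.card K) := by
    obtain ⟨n, hn⟩ := IsPGroup.iff_card.mp hB
    rw [hn]
    exact Nat.Coprime.pow_left n ((Nat.Prime.coprime_iff_not_dvd hp).mpr hK)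
  have hsolv : Group.IsSolvable B ∨ Group.IsSolvable K := by
    left
    have : Group.IsNilpotent B := hB.isNilpotent
    infer_instance
  set C : Subgroup G := K ⊓ Subgroup.centralizer (B : Set G) with hC
  set R : Subgroup G := (P : Subgroup K).map K.subtype with hR
  set CR : Subgroup G := R ⊓ Subgroup.centralizer (B : Set G) with hCR
  have hRK : R ≤ K := Subgroup.map_subtype_le _
  have hCRC : CR ≤ C := inf_le_inf_right _ hRK
  have hRq : IsPGroup q R := P.2.map _
  have hCRq : IsPGroup q CR := hRq.to_le inf_le_left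
  obtain ⟨k, hk⟩ := IsPGroup.iff_card.mp hCRq
  set e := (Nat.card C).factorization q with he
  have hke : k ≤ e := by
    have h1 : q ^ k ∣ Nat.card C := by
      rw [← hk]; exact Subgroup.card_dvd_of_le hCRC
    exact (hq.pow_dvd_iff_le_factorization Nat.card_pos.ne').mp h1
  -- a Sylow `q`-subgroup of `C`
  obtain ⟨T⟩ : Nonempty (Sylow q C) := inferInstance
  set T' : Subgroup G := (T : Subgroup C).map C.subtype with hT'
  have hT'C : T' ≤ C := Subgroup.map_subtype_le _
  have hT'card : Nat.card T' = q ^ e := by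
    rw [hT', Subgroup.card_map_of_injective C.subtype_injective]
    exact T.card_eq_multiplicity
  have hT'q : IsPGroup q T' := T.2.map _
  have hBT' : B ≤ Subgroup.normalizer (T' : Set G) := by
    intro b hb
    rw [Subgroup.mem_normalizer_iff]
    intro t
    have key : ∀ t ∈ T', b * t * b⁻¹ = t := by
      intro t ht
      have h1 : t ∈ Subgroup.centralizer (B : Set G) := (hT'C ht).2
      have h2 : b * t = t * b := h1 b hb
      rw [h2]; group
    constructor
    · intro ht
      rw [key t ht]; exact ht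
    · intro ht
      have h3 := key _ ht
      have h4 : b * t * b⁻¹ = t := by
        have := congrArg (fun z => b⁻¹ * z * b) h3
        simpa [mul_assoc] using this
      rw [h4] at ht; exact ht
  obtain ⟨P', hT'P', hBP'⟩ := Cfsg.Agent.S0025.result B K hBK hcop hsolv q T'
    (hT'C.trans inf_le_left) hT'q hBT'
  obtain ⟨c, hcB, hcP⟩ := Cfsg.Agent.S0024.result B K hBK hcop hsolv q P' P hBP' hBP
  -- conjugate `T'` by `c` into `CR`
  have hconj : T'.map (MulAut.conj (c : G)).toMonoidHom ≤ CR := by
    rintro _ ⟨t, ht, rfl⟩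
    refine Subgroup.mem_inf.mpr ⟨?_, ?_⟩
    · obtain ⟨y, hy, rfl⟩ := hT'P' ht
      have h1 : (MulAut.conj c • y) ∈ (MulAut.conj c • (P' : Subgroup K)) :=
        Subgroup.smul_mem_pointwise_smul y _ _ hy
      rw [← Sylow.pointwise_smul_def, hcP] at h1
      refine ⟨MulAut.conj c • y, h1, ?_⟩
      simp [MulAut.smul_def]
    · have h1 : t ∈ Subgroup.centralizer (B : Set G) := (hT'C ht).2
      show (c : G) * t * (c : G)⁻¹ ∈ Subgroup.centralizer (B : Set G)
      exact Subgroup.mul_mem _ (Subgroup.mul_mem _ hcB h1) (Subgroup.inv_mem _ hcB)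
  have hle : q ^ e ≤ q ^ k := by
    rw [← hT'card, ← hk, ← Subgroup.card_map_of_injective (f := (MulAut.conj (c : G)).toMonoidHom)
      (MulAut.conj (c : G)).injective (K := T')]
    exact Subgroup.card_le_of_le hconj
  have hek : e ≤ k := (Nat.pow_le_pow_iff_right hq.one_lt).mp hle
  have hkeq : k = e := le_antisymm hke hek
  rw [hk, hkeq]
  simp [hq.factorization_self]


/-- Ambient analogue of `cc`: `none ↦ b`, `some i ↦ a b^i`. -/
def ccG (p : ℕ) (a b : G) : Option (ZMod p) → G
  | none => b
  | some i => a * b ^ i.val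

omit [Fact p.Prime] in
theorem ccG_map {M N : Type*} [Group M] [Group N] (Φ : M →* N) (a b : M) (o : Option (ZMod p)) :
    Φ (ccG p a b o) = ccG p (Φ a) (Φ b) o := by
  cases o with
  | none => rfl
  | some i => show Φ (a * b ^ i.val) = Φ a * Φ b ^ i.val; rw [map_mul, map_pow]

omit [Fact p.Prime] in
theorem cc_eq_ccG {Q : Type*} [Group Q] (α β : MulAut Q) (o : Option (ZMod p)) :
    cc p α β o = ccG p α β o := by
  cases o <;> rfl

omit [Fact p.Prime] in
theorem ccG_mem (D : Subgroup G) {a b : G} (ha : a ∈ D) (hb : b ∈ D) (o : Option (ZMod p)) :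
    ccG p a b o ∈ D := by
  cases o with
  | none => exact hb
  | some i => exact D.mul_mem ha (D.pow_mem hb _)

omit [Fact p.Prime] in
theorem fixSub_normAut_map (P : Subgroup G) (g : Subgroup.normalizer (P : Set G)) :
    (fixSub (normAut P g)).map P.subtype = P ⊓ Subgroup.centralizer ({(g : G)} : Set G) := by
  ext x
  constructor
  · rintro ⟨y, hy, rfl⟩
    refine Subgroup.mem_inf.mpr ⟨y.2, ?_⟩
    rw [Subgroup.mem_centralizer_singleton_iff]
    have h1 : (g : G) * y * (g : G)⁻¹ = y := congrArg Subtype.val (show normAut P g y = y from hy)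
    calc (y : G) * g = ((g : G) * y * (g : G)⁻¹) * g := by rw [h1]
      _ = g * y := by group
  · intro hx
    obtain ⟨h1, h2⟩ := Subgroup.mem_inf.mp hx
    rw [Subgroup.mem_centralizer_singleton_iff] at h2
    refine ⟨⟨x, h1⟩, ?_, rfl⟩
    show normAut P g ⟨x, h1⟩ = ⟨x, h1⟩
    apply Subtype.ext
    show (g : G) * x * (g : G)⁻¹ = x
    rw [← h2]; group

omit [Fact p.Prime] in
theorem card_fixSub_normAut (P : Subgroup G) (g : Subgroup.normalizer (P : Set G)) :
    Nat.card ↥(fixSub (normAut P g)) =
      Nat.card ↥(P ⊓ Subgroup.centralizer ({(g : G)} : Set G)) := by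
  rw [← fixSub_normAut_map, Subgroup.card_map_of_injective P.subtype_injective]

/-- **Brauer–Wielandt formula, ambient nilpotent form.** -/
theorem bw_ambient_nilpotent (P : Subgroup G) [Finite P] [Group.IsNilpotent P]
    (hcop : ¬ p ∣ Nat.card P) (a b : G)
    (ha : a ∈ Subgroup.normalizer (P : Set G)) (hb : b ∈ Subgroup.normalizer (P : Set G))
    (hap : a ^ p = 1) (hbp : b ^ p = 1) (hab : a * b = b * a) :
    Nat.card P * Nat.card ↥(P ⊓ Subgroup.centralizer ({a} : Set G) ⊓
        Subgroup.centralizer ({b} : Set G)) ^ p =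
      ∏ o : Option (ZMod p), Nat.card ↥(P ⊓ Subgroup.centralizer ({ccG p a b o} : Set G)) := by
  let a' : Subgroup.normalizer (P : Set G) := ⟨a, ha⟩
  let b' : Subgroup.normalizer (P : Set G) := ⟨b, hb⟩
  have ha' : a' ^ p = 1 := Subtype.ext (by simpa using hap)
  have hb' : b' ^ p = 1 := Subtype.ext (by simpa using hbp)
  have hab' : a' * b' = b' * a' := Subtype.ext (by simpa using hab)
  have key := bw_nilpotent (p := p) P hcop (normAut P a') (normAut P b')
    (by rw [← map_pow, ha', map_one]) (by rw [← map_pow, hb', map_one])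
    (by rw [← map_mul, hab', map_mul])
  have h2 : Nat.card ↥(fixSub (normAut P a') ⊓ fixSub (normAut P b')) =
      Nat.card ↥(P ⊓ Subgroup.centralizer ({a} : Set G) ⊓ Subgroup.centralizer ({b} : Set G)) := by
    rw [← Subgroup.card_map_of_injective P.subtype_injective,
      Subgroup.map_inf _ _ _ P.subtype_injective, fixSub_normAut_map, fixSub_normAut_map]
    congr 2
    rw [← inf_inf_distrib_left, inf_assoc]
  have ho : ∀ o : Option (ZMod p), Nat.card ↥(fixSub (cc p (normAut P a') (normAut P b') o)) =
      Nat.card ↥(P ⊓ Subgroup.centralizer ({ccG p a b o} : Set G)) := by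
    intro o
    rw [cc_eq_ccG, ← ccG_map (normAut P) a' b' o, card_fixSub_normAut]
    have : ((ccG p a' b' o : Subgroup.normalizer (P : Set G)) : G) = ccG p a b o :=
      ccG_map (Subgroup.normalizer (P : Set G)).subtype a' b' o
    rw [this]
  rw [h2, Finset.prod_congr rfl (fun o _ => ho o)] at key
  exact key


/-- **Brauer–Wielandt formula**: commuting `a, b` with `a^p = b^p = 1` normalizing a `p'`-subgroup `K`
of a finite group: `|K| · |C_K(a) ∩ C_K(b)|^p = |C_K(b)| · ∏_i |C_K(a b^i)|`. -/
theorem bw_ambient [Finite G] (K : Subgroup G) (hcop : ¬ p ∣ Nat.card K) (a b : G)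
    (ha : a ∈ Subgroup.normalizer (K : Set G)) (hb : b ∈ Subgroup.normalizer (K : Set G))
    (hap : a ^ p = 1) (hbp : b ^ p = 1) (hab : a * b = b * a) :
    Nat.card K * Nat.card ↥(K ⊓ Subgroup.centralizer ({a} : Set G) ⊓
        Subgroup.centralizer ({b} : Set G)) ^ p =
      ∏ o : Option (ZMod p), Nat.card ↥(K ⊓ Subgroup.centralizer ({ccG p a b o} : Set G)) := by
  have hp : p.Prime := Fact.out
  set D := Subgroup.zpowers a ⊔ Subgroup.zpowers b with hDdef
  have hD : IsPGroup p D := by
    apply IsPGroup.to_sup_of_normal_right' (isPGroup_zpowers_of_pow_eq_one hap)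
      (isPGroup_zpowers_of_pow_eq_one hbp)
    rw [Subgroup.zpowers_le]
    have : a ∈ Subgroup.centralizer ((Subgroup.zpowers b : Subgroup G) : Set G) := by
      rw [centralizer_zpowers, Subgroup.mem_centralizer_singleton_iff]
      exact hab
    exact Subgroup.centralizer_le_normalizer _ this
  have hDK : D ≤ Subgroup.normalizer (K : Set G) :=
    sup_le (Subgroup.zpowers_le.mpr ha) (Subgroup.zpowers_le.mpr hb)
  have haD : a ∈ D := (le_sup_left : Subgroup.zpowers a ≤ D) (Subgroup.mem_zpowers a)
  have hbD : b ∈ D := (le_sup_right : Subgroup.zpowers b ≤ D) (Subgroup.mem_zpowers b)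
  have hcopD : (Nat.card D).Coprime (Nat.card K) := by
    obtain ⟨n, hn⟩ := IsPGroup.iff_card.mp hD
    rw [hn]
    exact Nat.Coprime.pow_left n ((Nat.Prime.coprime_iff_not_dvd hp).mpr hcop)
  have hsolvD : Group.IsSolvable D ∨ Group.IsSolvable K := by
    left
    have : Group.IsNilpotent D := hD.isNilpotent
    infer_instance
  have hCD : Subgroup.centralizer (D : Set G) =
      Subgroup.centralizer ({a} : Set G) ⊓ Subgroup.centralizer ({b} : Set G) := by
    rw [hDdef, Cfsg.Agent.Lib.Helper50_CD.centralizer_sup, centralizer_zpowers, centralizer_zpowers]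
  have hne : ∀ L : Subgroup G, Nat.card L ≠ 0 := fun L => Nat.card_pos.ne'
  apply Nat.eq_of_factorization_eq
  · exact Nat.mul_ne_zero (hne _) (pow_ne_zero _ (hne _))
  · exact Finset.prod_ne_zero_iff.mpr (fun o _ => hne _)
  intro q
  by_cases hq : q.Prime
  swap
  · rw [Nat.factorization_eq_zero_of_not_prime _ hq, Nat.factorization_eq_zero_of_not_prime _ hq]
  have : Fact q.Prime := ⟨hq⟩
  obtain ⟨P, hP⟩ := Cfsg.Agent.S0023.result D K hDK hcopD hsolvD q
  set R : Subgroup G := (P : Subgroup K).map K.subtype with hR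
  have hRK : R ≤ K := Subgroup.map_subtype_le _
  have hRq : IsPGroup q R := P.2.map _
  have : Group.IsNilpotent R := hRq.isNilpotent
  have hRcop : ¬ p ∣ Nat.card R := fun h => hcop (h.trans (Subgroup.card_dvd_of_le hRK))
  have hR_bw := bw_ambient_nilpotent R hRcop a b (hP haD) (hP hbD) hap hbp hab
  -- factorizations
  have h1 : (Nat.card K).factorization q = (Nat.card R).factorization q := by
    have : Nat.card R = q ^ (Nat.card K).factorization q := by
      rw [hR, Subgroup.card_map_of_injective K.subtype_injective]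
      exact P.card_eq_multiplicity
    rw [this]
    simp [hq.factorization_self]
  have h2 : (Nat.card ↥(K ⊓ Subgroup.centralizer ({a} : Set G) ⊓
        Subgroup.centralizer ({b} : Set G))).factorization q =
      (Nat.card ↥(R ⊓ Subgroup.centralizer ({a} : Set G) ⊓
        Subgroup.centralizer ({b} : Set G))).factorization q := by
    have := factorization_centralizer_sylow D K hD hcop hDK q P hP
    rw [hCD, ← inf_assoc, ← inf_assoc] at this
    exact this
  have h3 : ∀ o : Option (ZMod p),
      (Nat.card ↥(K ⊓ Subgroup.centralizer ({ccG p a b o} : Set G))).factorization q =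
      (Nat.card ↥(R ⊓ Subgroup.centralizer ({ccG p a b o} : Set G))).factorization q := by
    intro o
    have hoD : Subgroup.zpowers (ccG p a b o) ≤ D :=
      Subgroup.zpowers_le.mpr (ccG_mem D haD hbD o)
    have := factorization_centralizer_sylow (Subgroup.zpowers (ccG p a b o)) K (hD.to_le hoD) hcop
      (hoD.trans hDK) q P (hoD.trans hP)
    rw [centralizer_zpowers] at this
    exact this
  rw [Nat.factorization_mul (hne _) (pow_ne_zero _ (hne _)), Nat.factorization_pow,
    Nat.factorization_prod (fun o _ => hne _)]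
  simp only [Finsupp.coe_add, Finsupp.coe_smul, Pi.add_apply, Pi.smul_apply, smul_eq_mul,
    Finsupp.coe_finsetSum, Finset.sum_apply]
  rw [h1, h2, Finset.sum_congr rfl (fun o _ => h3 o)]
  have h4 : (_ : ℕ).factorization q = (_ : ℕ).factorization q :=
    congrArg (fun n => n.factorization q) hR_bw
  rw [Nat.factorization_mul (hne _) (pow_ne_zero _ (hne _)), Nat.factorization_pow,
    Nat.factorization_prod (fun o _ => hne _)] at h4
  simp only [Finsupp.coe_add, Finsupp.coe_smul, Pi.add_apply, Pi.smul_apply, smul_eq_mul,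
    Finsupp.coe_finsetSum, Finset.sum_apply] at h4
  exact h4

end Ambient

end Cfsg.Agent.Lib.Helper38_BrauerWielandt
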