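import Mathlib
import Cfsg.Agent.Lib.Helper94_FrmDefs2
import Cfsg.Agent.Lib.Helper79_FR_FRAME
import Cfsg.Agent.Lib.Helper8_FR_Q2E

set_option autoImplicit false
set_option linter.unusedSectionVars false
set_option linter.unusedVariables false
set_option linter.unusedSimpArgs false

/-!
FR-Q2D, core (helper94's S5655 frames market): over the field with four elements, one root vector
of support four gives all isotropic vectors, given that the vectors of support two are root
vectors (FR-Q2A, taken as a hypothesis here).
-/

namespace Cfsg.Agent.Lib.Helper38_FR_Q2Dcore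

open Module Cfsg.Agent.Lib.Helper94_Symp Cfsg.Agent.Lib.Helper94_Herm
  Cfsg.Agent.Lib.Helper13_PSUSimple Cfsg.Agent.Lib.Helper27_UQDefs
  Cfsg.Agent.Lib.Helper94_FrmDefs Cfsg.Agent.Lib.Helper94_UDDefs
  Cfsg.Agent.Lib.Helper94_FrmDefs2 Cfsg.Agent.Lib.Helper27_UQ_KISO
  Cfsg.Agent.Lib.Helper83_FrCDefs Cfsg.Agent.Lib.Helper8_FR_Q2E

variable {F W : Type*} [Field F] [AddCommGroup W] [Module F W] [Finite F] [FiniteDimensional F W]
variable {σ : F →+* F} {B : W →ₗ[F] W →ₛₗ[σ] F}
variable {ι : Type*} [Fintype ι] [DecidableEq ι] {e : ι → W} {L : Subgroup (W ≃ₗ[F] W)}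

/-- coordinates of the image under a monomial element -/
lemma mono_coord (he : OFrame B e) {g : W ≃ₗ[F] W} {π : Equiv.Perm ι} {w : ι → F}
    (hg : ∀ i, g (e i) = w i • e (π i)) (u : W) (j : ι) :
    B (g u) (e j) = B u (e (π.symm j)) * w (π.symm j) := by
  have h1 : g u = ∑ k, (B u (e (π.symm k)) * w (π.symm k)) • e k := by
    conv_lhs => rw [fr_expand he u]
    rw [map_sum]
    rw [← Equiv.sum_comp π (fun k => (B u (e (π.symm k)) * w (π.symm k)) • e k)]
    refine Finset.sum_congr rfl (fun k _ => ?_)
    rw [map_smul, hg k, smul_smul, Equiv.symm_apply_apply]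
  rw [h1, fr_coord_sum he]

/-- the norm of a vector is the cardinality of its support (field with four elements) -/
lemma norm_eq_card (hσ : Invol σ) (he : OFrame B e) (hF4 : Nat.card F = 4) (u : W) :
    B u u = ((supp B e u).card : F) := by
  classical
  rw [fr_form_eq he u u]
  have : ∀ i, B u (e i) * σ (B u (e i)) = if i ∈ supp B e u then 1 else 0 := by
    intro i
    by_cases hi : B u (e i) = 0
    · rw [if_neg (fun h => (mem_supp.mp h) hi), hi, zero_mul]
    · rw [if_pos (mem_supp.mpr hi)]
      exact norm_eq_one_of_card_four hσ hF4 hi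
  rw [Finset.sum_congr rfl (fun i _ => this i), Finset.sum_ite_mem, Finset.univ_inter,
    Finset.sum_const, nsmul_eq_mul, mul_one]

/-- a vector with support of cardinality divisible by four is isotropic -/
lemma iso_of_card_four (hσ : Invol σ) (he : OFrame B e) (hF4 : Nat.card F = 4) {u : W}
    (h : (supp B e u).card = 4) : B u u = 0 := by
  rw [norm_eq_card hσ he hF4, h]
  have h2 := two_eq_zero_of_card_four (F := F) hF4
  have : ((4 : ℕ) : F) = 2 * 2 := by norm_num
  rw [this, h2, mul_zero]

/-- transfer along a monomial element: same support up to a permutation -/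
lemma transfer (hC : FCtx B e L) (hF4 : Nat.card F = 4) {u0 v : W} (hu0 : u0 ∈ UU B L)
    (π : Equiv.Perm ι) (hπ : ∀ j, B v (e j) ≠ 0 ↔ B u0 (e (π.symm j)) ≠ 0) : v ∈ UU B L := by
  classical
  have hσ := hC.hσ
  have he := hC.he
  let w : ι → F := fun k => if B u0 (e k) = 0 then 1 else B v (e (π k)) / B u0 (e k)
  have hw0 : ∀ k, w k ≠ 0 := by
    intro k
    by_cases hk : B u0 (e k) = 0
    · simp only [w, if_pos hk]
      exact one_ne_zero
    · simp only [w, if_neg hk]
      have : B v (e (π k)) ≠ 0 := by
        rw [hπ (π k), Equiv.symm_apply_apply]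
        exact hk
      exact div_ne_zero this hk
  obtain ⟨g, hgM, hg⟩ := Cfsg.Agent.Lib.Helper79_FR_FRAME.exists_mono he π w
    (fun k => norm_eq_one_of_card_four hσ hF4 (hw0 k))
  have hgL : g ∈ L := hC.hML hgM
  have hgv : g u0 = v := by
    apply fr_ext_coord he
    intro j
    rw [mono_coord he hg u0 j]
    by_cases hj : B u0 (e (π.symm j)) = 0
    · have : B v (e j) = 0 := by
        by_contra h
        exact ((hπ j).1 h) hj
      rw [hj, zero_mul, this]
    · simp only [w, if_neg hj, Equiv.apply_symm_apply]
      field_simp
  rw [← hgv]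
  exact UU_map hC.hLU hgL hu0

/-- two vectors with supports of the same cardinality are related by a monomial element -/
lemma transfer_card (hC : FCtx B e L) (hF4 : Nat.card F = 4) {u0 v : W} (hu0 : u0 ∈ UU B L)
    (hcard : (supp B e v).card = (supp B e u0).card) : v ∈ UU B L := by
  classical
  set s0 := supp B e u0 with hs0
  set s1 := supp B e v with hs1
  have hc : Fintype.card {x // x ∈ s0} = Fintype.card {x // x ∈ s1} := by
    rw [Fintype.card_coe, Fintype.card_coe, hcard]
  let f : {x // x ∈ s0} ≃ {x // x ∈ s1} := Fintype.equivOfCardEq hc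
  let π : Equiv.Perm ι := f.extendSubtype
  have hπmem : ∀ x, x ∈ s0 ↔ π x ∈ s1 := by
    intro x
    constructor
    · intro hx
      exact f.extendSubtype_mem x hx
    · intro hx
      by_contra hx0
      exact f.extendSubtype_not_mem x hx0 hx
  apply transfer hC hF4 hu0 π
  intro j
  have := hπmem (π.symm j)
  rw [Equiv.apply_symm_apply] at this
  rw [← mem_supp, ← mem_supp]
  exact this.symm

theorem Q2D_core (hC : FCtx B e L) (hF4 : Nat.card F = 4)
    (h2 : ∀ i j : ι, i ≠ j → ∀ a b : F, a ≠ 0 → b ≠ 0 → a • e i + b • e j ∈ UU B L)
    (h : ∃ u ∈ UU B L, (supp B e u).card = 4) :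
    ∀ u : W, B u u = 0 → u ∈ UU B L := by
  classical
  have hσ := hC.hσ
  have hB := hC.hB
  have he := hC.he
  have h20 : (2 : F) = 0 := two_eq_zero_of_card_four (F := F) hF4
  obtain ⟨u0, hu0, hu0c⟩ := h
  -- the element `ω`
  have hfin : Fintype F := Fintype.ofFinite F
  have hF' : Fintype.card F = 4 := by rw [← Nat.card_eq_fintype_card]; exact hF4
  obtain ⟨ω, hω0, hω1⟩ : ∃ ω : F, ω ≠ 0 ∧ ω ≠ 1 := by
    have h3 : ({0, 1} : Finset F).card < (Finset.univ : Finset F).card := by
      rw [Finset.card_univ, hF']
      exact lt_of_le_of_lt Finset.card_le_two (by norm_num)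
    obtain ⟨ω, -, hω⟩ := Finset.exists_mem_notMem_of_card_lt_card h3
    simp only [Finset.mem_insert, Finset.mem_singleton, not_or] at hω
    exact ⟨ω, hω.1, hω.2⟩
  have hω3 : ω ^ 3 = 1 := by
    have := FiniteField.pow_card_sub_one_eq_one ω hω0
    rw [hF'] at this
    exact this
  have hωq : ω ^ 2 + ω = 1 := by
    have h1 : (ω - 1) * (ω ^ 2 + ω + 1) = 0 := by
      have : (ω - 1) * (ω ^ 2 + ω + 1) = ω ^ 3 - 1 := by ring
      rw [this, hω3, sub_self]
    have h2' : ω ^ 2 + ω + 1 = 0 := (mul_eq_zero.mp h1).resolve_left (sub_ne_zero.mpr hω1)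
    linear_combination h2' - h20
  have hσω : σ ω = ω ^ 2 := by
    have h1 : ω * σ ω = 1 := norm_eq_one_of_card_four hσ hF4 hω0
    have h2' : ω * ω ^ 2 = 1 := by rw [← hω3]; ring
    exact mul_left_cancel₀ hω0 (h1.trans h2'.symm)
  have hN : ∀ x : F, x ≠ 0 → x * σ x = 1 := fun x hx => norm_eq_one_of_card_four hσ hF4 hx
  -- strong induction on the size of the support
  have main : ∀ n : ℕ, ∀ u : W, B u u = 0 → (supp B e u).card = n → u ∈ UU B L := by
    intro n
    induction n using Nat.strong_induction_on with
    | _ n ih =>
      intro u huu hn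
      by_cases hu00 : u = 0
      · rw [hu00]
        exact UU_zero L
      obtain ⟨heven, hge2⟩ := Q2E hσ hB he hF4 huu hu00
      rw [hn] at heven hge2
      set s := supp B e u with hs
      set c : ι → F := fun k => B u (e k) with hcdef
      have hcs : ∀ k, k ∈ s ↔ c k ≠ 0 := fun k => mem_supp
      by_cases hn2 : n = 2
      · -- support two
        rw [hn2] at hn
        obtain ⟨i, j, hij, hsij⟩ := Finset.card_eq_two.mp hn
        have hi : c i ≠ 0 := (hcs i).1 (by rw [hsij]; simp)
        have hj : c j ≠ 0 := (hcs j).1 (by rw [hsij]; simp)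
        have hu : u = c i • e i + c j • e j := by
          apply fr_ext_coord he
          intro k
          rw [map_add, LinearMap.add_apply, map_smul, map_smul, LinearMap.smul_apply,
            LinearMap.smul_apply, smul_eq_mul, smul_eq_mul, fr_apply_eq he, fr_apply_eq he]
          by_cases hki : i = k
          · rw [if_pos hki, if_neg (fun h => hij (hki.trans h.symm)), mul_one, mul_zero, add_zero,
              ← hki]
          · by_cases hkj : j = k
            · rw [if_neg hki, if_pos hkj, mul_one, mul_zero, zero_add, ← hkj]
            · rw [if_neg hki, if_neg hkj, mul_zero, mul_zero, add_zero]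
              have hk : c k = 0 := by
                by_contra h
                have := (hcs k).2 h
                rw [hsij] at this
                simp only [Finset.mem_insert, Finset.mem_singleton] at this
                rcases this with h' | h'
                · exact hki h'.symm
                · exact hkj h'.symm
              exact hk
        rw [hu]
        exact h2 i j hij (c i) (c j) hi hj
      by_cases hn4 : n = 4
      · exact transfer_card hC hF4 hu0 (by rw [← hs, hn, hn4, hu0c])
      -- support at least six
      have hn6 : 6 ≤ n := by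
        obtain ⟨m, hm⟩ := heven
        omega
      obtain ⟨t, hts, htc⟩ := Finset.exists_subset_card_eq (show 4 ≤ s.card by rw [hn]; omega)
      obtain ⟨p, hp, p', hp', hpp'⟩ := Finset.one_lt_card.mp (by rw [htc]; norm_num : 1 < t.card)
      have hcp : c p ≠ 0 := (hcs p).1 (hts hp)
      have hcp' : c p' ≠ 0 := (hcs p').1 (hts hp')
      let α : ι → F := fun k => if k = p then ω * c p else if k = p' then ω ^ 2 * c p'
        else if k ∈ t then 0 else c k
      let β : ι → F := fun k => if k = p then ω ^ 2 * c p else if k = p' then ω * c p'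
        else if k ∈ t then c k else 0
      have hαβ : ∀ k, α k + β k = c k := by
        intro k
        simp only [α, β]
        by_cases hkp : k = p
        · rw [if_pos hkp, if_pos hkp, hkp]
          linear_combination (c p) * hωq
        · rw [if_neg hkp, if_neg hkp]
          by_cases hkp' : k = p'
          · rw [if_pos hkp', if_pos hkp', hkp']
            linear_combination (c p') * hωq
          · rw [if_neg hkp', if_neg hkp']
            by_cases hkt : k ∈ t
            · rw [if_pos hkt, if_pos hkt, zero_add]
            · rw [if_neg hkt, if_neg hkt, add_zero]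
      set ua : W := ∑ k, α k • e k with hua
      set ub : W := ∑ k, β k • e k with hub
      have hcoa : ∀ k, B ua (e k) = α k := fun k => fr_coord_sum he α k
      have hcob : ∀ k, B ub (e k) = β k := fun k => fr_coord_sum he β k
      have hsum : ua + ub = u := by
        apply fr_ext_coord he
        intro k
        rw [map_add, LinearMap.add_apply, hcoa, hcob, hαβ]
      -- the support of `ub` is `t`
      have hβt : ∀ k, β k ≠ 0 ↔ k ∈ t := by
        intro k
        simp only [β]
        by_cases hkp : k = p
        · rw [if_pos hkp, hkp]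
          exact ⟨fun _ => hp, fun _ => mul_ne_zero (pow_ne_zero 2 hω0) hcp⟩
        · rw [if_neg hkp]
          by_cases hkp' : k = p'
          · rw [if_pos hkp', hkp']
            exact ⟨fun _ => hp', fun _ => mul_ne_zero hω0 hcp'⟩
          · rw [if_neg hkp']
            by_cases hkt : k ∈ t
            · rw [if_pos hkt]
              exact ⟨fun _ => hkt, fun _ => (hcs k).1 (hts hkt)⟩
            · rw [if_neg hkt]
              exact ⟨fun h => absurd rfl h, fun h => absurd h hkt⟩
      have hsb : supp B e ub = t := by
        ext k
        rw [mem_supp, hcob, hβt]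
      have hubT : ub ∈ UU B L := transfer_card hC hF4 hu0 (by rw [hsb, htc, hu0c])
      have hubb : B ub ub = 0 := hubT.1
      -- the support of `ua` is strictly smaller
      have hαs : ∀ k, α k ≠ 0 → k ∈ s := by
        intro k hk
        simp only [α] at hk
        by_cases hkp : k = p
        · rw [hkp]; exact hts hp
        · rw [if_neg hkp] at hk
          by_cases hkp' : k = p'
          · rw [hkp']; exact hts hp'
          · rw [if_neg hkp'] at hk
            by_cases hkt : k ∈ t
            · rw [if_pos hkt] at hk
              exact absurd rfl hk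
            · rw [if_neg hkt] at hk
              exact (hcs k).2 hk
      have hsa : supp B e ua ⊂ s := by
        rw [Finset.ssubset_iff_of_subset]
        · -- a third element of `t`
          have h3 : ∃ r ∈ t, r ≠ p ∧ r ≠ p' := by
            by_contra hcon
            push Not at hcon
            have hsub : t ⊆ {p, p'} := by
              intro r hr
              by_cases hrp : r = p
              · rw [hrp]; simp
              · rw [hcon r hr hrp]; simp
            have := Finset.card_le_card hsub
            rw [htc] at this
            have h2' : ({p, p'} : Finset ι).card ≤ 2 := Finset.card_le_two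
            omega
          obtain ⟨r, hrt, hrp, hrp'⟩ := h3
          refine ⟨r, hts hrt, ?_⟩
          rw [mem_supp, hcoa]
          simp only [α, if_neg hrp, if_neg hrp', if_pos hrt]
          exact fun h => h rfl
        · intro k hk
          rw [mem_supp, hcoa] at hk
          exact hαs k hk
      -- the pairing
      have hpair : B ua ub = 1 := by
        rw [fr_form_eq he ua ub]
        simp only [hcoa, hcob]
        rw [Finset.sum_eq_add p p' hpp']
        · simp only [α, β, if_pos rfl, if_neg (Ne.symm hpp'), if_true, ↓reduceIte, map_mul,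
            map_pow, hσω]
          have e1 : c p * σ (c p) = 1 := hN _ hcp
          have e2 : c p' * σ (c p') = 1 := hN _ hcp'
          have hω4 : ω ^ 4 = ω := by
            calc ω ^ 4 = ω ^ 3 * ω := by ring
              _ = ω := by rw [hω3, one_mul]
          calc ω * c p * ((ω ^ 2) ^ 2 * σ (c p)) + ω ^ 2 * c p' * (ω ^ 2 * σ (c p'))
              = ω ^ 4 * ω * (c p * σ (c p)) + ω ^ 4 * (c p' * σ (c p')) := by ring
            _ = ω ^ 2 + ω := by rw [e1, e2, hω4]; ring
            _ = 1 := hωq
        · intro k _ hk
          simp only [α, β, if_neg hk.1, if_neg hk.2]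
          by_cases hkt : k ∈ t
          · rw [if_pos hkt, zero_mul]
          · rw [if_neg hkt, if_neg hkt, map_zero, mul_zero]
        · intro h; exact absurd (Finset.mem_univ p) h
        · intro h; exact absurd (Finset.mem_univ p') h
      have hpair' : B ub ua = 1 := by rw [hB ua ub, hpair, map_one]
      have huaa : B ua ua = 0 := by
        have h1 := huu
        rw [← hsum] at h1
        simp only [map_add, LinearMap.add_apply, hpair, hpair', hubb] at h1
        linear_combination h1 - h20
      have huaT : ua ∈ UU B L :=
        ih (supp B e ua).card (by rw [← hn]; exact Finset.card_lt_card hsa) ua huaa rfl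
      have hne : B ua ub ≠ 0 := by rw [hpair]; exact one_ne_zero
      have := UU_add hσ hB hC.hLU huaT hubT hne (by rw [hsum]; exact huu)
      rwa [hsum] at this
  intro u huu
  exact main _ u huu rfl

end Cfsg.Agent.Lib.Helper38_FR_Q2Dcore
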