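import Mathlib
import Cfsg.Agent.Lib.Helper94_FrmDefs2

/-!
# S5655 frames, package FR-RC (architect helper94): the set of reflection centres.
-/

set_option autoImplicit false
set_option linter.unusedSectionVars false
set_option linter.unusedVariables false

namespace Cfsg.Agent.Lib.Helper91_FR_RC

open Module Cfsg.Agent.Lib.Helper94_Symp Cfsg.Agent.Lib.Helper94_Herm
  Cfsg.Agent.Lib.Helper13_PSUSimple Cfsg.Agent.Lib.Helper27_UQDefs
  Cfsg.Agent.Lib.Helper94_FrmDefs Cfsg.Agent.Lib.Helper94_UDDefs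
  Cfsg.Agent.Lib.Helper94_FrmDefs2 Cfsg.Agent.Lib.Helper27_UQ_KISO

variable {F W : Type*} [Field F] [AddCommGroup W] [Module F W] [Finite F] [FiniteDimensional F W]
variable {σ : F →+* F} {B : W →ₗ[F] W →ₛₗ[σ] F}
variable {ι : Type*} [Fintype ι] [DecidableEq ι] {e : ι → W} {L : Subgroup (W ≃ₗ[F] W)}

theorem mu1_ne_zero {ζ : F} (hζ : ζ ∈ mu1 σ) : ζ ≠ 0 := by
  rintro rfl
  have h : (0 : F) * σ 0 = 1 := hζ
  rw [zero_mul] at h
  exact zero_ne_one h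

/-- the quasi-reflections with centre a frame vector are monomial -/
theorem qr_frame_mem_Mono (hB : IsHerm B) (he : OFrame B e) (i : ι) {ζ : F} (hζ : ζ ∈ mu1 σ) :
    qr B (e i) ζ ∈ Mono B e := by
  have hζ0 : ζ ≠ 0 := mu1_ne_zero hζ
  refine ⟨qr_mem_uG hB (e i) hζ, 1, fun j => ?_⟩
  by_cases hji : j = i
  · refine ⟨ζ, hζ0, ?_⟩
    rw [hji, Equiv.Perm.one_apply]
    apply qr_self
    · rw [he.unit i]; exact one_ne_zero
    · exact hζ0
  · refine ⟨1, one_ne_zero, ?_⟩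
    rw [Equiv.Perm.one_apply, one_smul]
    exact qr_fix B (e i) ζ (he.orth j i hji)

theorem frame_mem_Rc (hC : FCtx B e L) (i : ι) : e i ∈ Rc B (mu1 σ) L :=
  ⟨hC.he.unit i, fun _ hζ => hC.hML (qr_frame_mem_Mono hC.hB hC.he i hζ)⟩

theorem map_mem_Rc (hC : FCtx B e L) {x : W} (hx : x ∈ Rc B (mu1 σ) L) {l : W ≃ₗ[F] W}
    (hl : l ∈ L) : l x ∈ Rc B (mu1 σ) L := by
  have hlU : l ∈ uG B := hC.hLU hl
  refine ⟨?_, fun ζ hζ => ?_⟩
  · have h1 : B (l x) (l x) = B x x := hlU x x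
    rw [h1]; exact hx.1
  · rw [← conj_qr hlU x ζ]
    exact L.mul_mem (L.mul_mem hl (hx.2 ζ hζ)) (L.inv_mem hl)

theorem smul_mem_Rc {x : W} (hx : x ∈ Rc B (mu1 σ) L) {ζ : F} (hζ : ζ ∈ mu1 σ) :
    ζ • x ∈ Rc B (mu1 σ) L := by
  refine ⟨?_, fun ζ' hζ' => ?_⟩
  · rw [LinearMap.map_smul₂, map_smulₛₗ, smul_eq_mul, smul_eq_mul, hx.1, mul_one]
    exact hζ
  · rw [qr_smul x (mu1_ne_zero hζ) ζ']
    exact hx.2 ζ' hζ'

theorem frame_ne_zero (he : OFrame B e) (i : ι) : e i ≠ 0 := by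
  intro h0
  have := he.unit i
  rw [h0, map_zero] at this
  exact zero_ne_one this

/-- an isometry mapping every frame vector to a multiple of a frame vector is monomial -/
theorem mem_Mono_of_forall (he : OFrame B e) {l : W ≃ₗ[F] W} (hl : l ∈ uG B)
    (h : ∀ i, ∃ (j : ι) (c : F), l (e i) = c • e j) : l ∈ Mono B e := by
  choose π c hπ using h
  have hc0 : ∀ i, c i ≠ 0 := by
    intro i h0
    have h1 := hπ i
    rw [h0, zero_smul] at h1
    have h2 : l (e i) = l 0 := by rw [h1, map_zero]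
    exact frame_ne_zero he i (l.injective h2)
  have hinj : Function.Injective π := by
    intro i i' hii
    by_contra hne
    have h1 : B (l (e i)) (l (e i')) = B (e i) (e i') := hl _ _
    rw [he.orth i i' hne, hπ i, hπ i', hii, LinearMap.map_smul₂, map_smulₛₗ,
      smul_eq_mul, smul_eq_mul, he.unit, mul_one] at h1
    exact mul_ne_zero (hc0 i) ((map_ne_zero σ).2 (hc0 i')) h1
  have hbij : Function.Bijective π := Finite.injective_iff_bijective.1 hinj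
  exact ⟨hl, Equiv.ofBijective π hbij, fun i => ⟨c i, hc0 i, hπ i⟩⟩

/-- FR-RC. -/
theorem RC (hC : FCtx B e L) :
    (∀ i, e i ∈ Rc B (mu1 σ) L) ∧
    (∀ x ∈ Rc B (mu1 σ) L, ∀ l ∈ L, l x ∈ Rc B (mu1 σ) L) ∧
    (∀ x ∈ Rc B (mu1 σ) L, ∀ ζ ∈ mu1 σ, ζ • x ∈ Rc B (mu1 σ) L) ∧
    (¬ L ≤ Mono B e → ∃ x ∈ Rc B (mu1 σ) L, ∀ (i : ι) (c : F), x ≠ c • e i) := by
  refine ⟨frame_mem_Rc hC, fun x hx l hl => map_mem_Rc hC hx hl,
    fun x hx ζ hζ => smul_mem_Rc hx hζ, fun hne => ?_⟩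
  obtain ⟨l, hl, hlM⟩ := SetLike.not_le_iff_exists.1 hne
  by_contra hcon
  apply hlM
  apply mem_Mono_of_forall hC.he (hC.hLU hl)
  intro i
  by_contra hi
  apply hcon
  refine ⟨l (e i), map_mem_Rc hC (frame_mem_Rc hC i) hl, fun j c h => ?_⟩
  exact hi ⟨j, c, h⟩

end Cfsg.Agent.Lib.Helper91_FR_RC
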