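import Mathlib
import Cfsg.Agent.Lib.Helper94_FrmDefs2
import Cfsg.Agent.Lib.Helper91_FR_RC
import Cfsg.Agent.Lib.Helper38_FR_Q2Dcore

set_option autoImplicit false
set_option linter.unusedSectionVars false
set_option linter.unusedVariables false
set_option linter.unusedSimpArgs false

/-!
FR-Q2D (helper94's S5655 frames market): over the field with four elements, one root vector of
support four gives all isotropic vectors.
-/

namespace Cfsg.Agent.Lib.Helper38_FR_Q2D

open Module Cfsg.Agent.Lib.Helper94_Symp Cfsg.Agent.Lib.Helper94_Herm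
  Cfsg.Agent.Lib.Helper13_PSUSimple Cfsg.Agent.Lib.Helper27_UQDefs
  Cfsg.Agent.Lib.Helper94_FrmDefs Cfsg.Agent.Lib.Helper94_UDDefs
  Cfsg.Agent.Lib.Helper94_FrmDefs2 Cfsg.Agent.Lib.Helper27_UQ_KISO
  Cfsg.Agent.Lib.Helper83_FrCDefs Cfsg.Agent.Lib.Helper8_FR_Q2E
  Cfsg.Agent.Lib.Helper38_FR_Q2Dcore

variable {F W : Type*} [Field F] [AddCommGroup W] [Module F W] [Finite F] [FiniteDimensional F W]
variable {σ : F →+* F} {B : W →ₗ[F] W →ₛₗ[σ] F}
variable {ι : Type*} [Fintype ι] [DecidableEq ι] {e : ι → W} {L : Subgroup (W ≃ₗ[F] W)}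

/-- in the field with four elements a skew scalar is `0` or `1` -/
lemma skew_eq (hσ : Invol σ) (hF4 : Nat.card F = 4) {c : F} (hc : σ c = -c) : c = 0 ∨ c = 1 := by
  have h20 : (2 : F) = 0 := two_eq_zero_of_card_four (F := F) hF4
  by_cases hc0 : c = 0
  · exact Or.inl hc0
  right
  have h1 : c * σ c = 1 := norm_eq_one_of_card_four hσ hF4 hc0
  have hneg : -c = c := by linear_combination -c * h20
  rw [hc, hneg] at h1
  -- `c * c = 1` in characteristic two
  have h2 : (c - 1) * (c - 1) = 0 := by linear_combination h1 - c * h20 + h20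
  have := mul_self_eq_zero.mp h2
  exact sub_eq_zero.mp this

/-- the vectors of support two are root vectors -/
lemma support_two (hC : FCtx B e L) (hF4 : Nat.card F = 4) (i j : ι) (hij : i ≠ j) (a b : F)
    (ha : a ≠ 0) (hb : b ≠ 0) : a • e i + b • e j ∈ UU B L := by
  have hσ := hC.hσ
  have hB := hC.hB
  have he := hC.he
  have h20 : (2 : F) = 0 := two_eq_zero_of_card_four (F := F) hF4
  have hNa : a * σ a = 1 := norm_eq_one_of_card_four hσ hF4 ha
  have hNb : b * σ b = 1 := norm_eq_one_of_card_four hσ hF4 hb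
  set u : W := a • e i + b • e j with hu
  have hcoord : ∀ k, B (e k) u = (if k = i then σ a else 0) + (if k = j then σ b else 0) := by
    intro k
    rw [hu, map_add, map_smulₛₗ, map_smulₛₗ, smul_eq_mul, smul_eq_mul, fr_apply_eq he,
      fr_apply_eq he]
    by_cases hki : k = i
    · rw [if_pos hki, if_pos hki, mul_one]
      by_cases hkj : k = j
      · exact absurd (hki.symm.trans hkj) hij
      · rw [if_neg hkj, if_neg hkj, mul_zero]
    · rw [if_neg hki, if_neg hki, mul_zero]
      by_cases hkj : k = j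
      · rw [if_pos hkj, if_pos hkj, mul_one]
      · rw [if_neg hkj, if_neg hkj, mul_zero]
  have huu : B u u = 0 := by
    have hgen : ∀ z : W, B (a • e i + b • e j) z = a * B (e i) z + b * B (e j) z := by
      intro z
      rw [map_add, LinearMap.add_apply, map_smul, map_smul, LinearMap.smul_apply,
        LinearMap.smul_apply, smul_eq_mul, smul_eq_mul]
    have h1 : B u u = a * B (e i) u + b * B (e j) u := hgen u
    rw [h1, hcoord i, hcoord j, if_pos rfl, if_neg hij, if_neg (Ne.symm hij), if_pos rfl, add_zero,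
      zero_add, hNa, hNb]
    linear_combination h20
  refine ⟨huu, fun c hc => ?_⟩
  rcases skew_eq hσ hF4 hc with rfl | rfl
  · have : utv B u 0 = 1 := by
      ext x
      rw [utv_apply B huu]
      simp
    rw [this]
    exact L.one_mem
  · apply hC.hML
    apply Cfsg.Agent.Lib.Helper91_FR_RC.mem_Mono_of_forall he (utv_mem_uG hB u hc)
    intro k
    rw [utv_apply B huu, one_mul, hcoord k]
    by_cases hki : k = i
    · refine ⟨j, σ a * b, ?_⟩
      have h1 : σ a * a = 1 := by rw [mul_comm]; exact hNa
      rw [if_pos hki, if_neg (fun h => hij (hki.symm.trans h)), add_zero, hki, hu, smul_add,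
        smul_smul, smul_smul, h1, one_smul, ← add_assoc, ← two_smul F (e i), h20, zero_smul,
        zero_add]
    · by_cases hkj : k = j
      · refine ⟨i, σ b * a, ?_⟩
        have h1 : σ b * b = 1 := by rw [mul_comm]; exact hNb
        rw [if_neg hki, if_pos hkj, zero_add, hkj, hu, smul_add, smul_smul, smul_smul, h1,
          one_smul, add_comm ((σ b * a) • e i) (e j), ← add_assoc, ← two_smul F (e j), h20,
          zero_smul, zero_add]
      · refine ⟨k, 1, ?_⟩
        rw [if_neg hki, if_neg hkj, add_zero, zero_smul, add_zero, one_smul]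

/-- FR-Q2D. -/
theorem Q2D (hC : FCtx B e L) (hF4 : Nat.card F = 4) (h : ∃ u ∈ UU B L, (supp B e u).card = 4) :
    ∀ u : W, B u u = 0 → u ∈ UU B L :=
  Q2D_core hC hF4 (fun i j hij a b ha hb => support_two hC hF4 i j hij a b ha hb) h

end Cfsg.Agent.Lib.Helper38_FR_Q2D
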