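import Mathlib
import Cfsg.Agent.Lib.Helper94_FrmDefs2
import Cfsg.Agent.Lib.Helper9_S2151_CNT

set_option autoImplicit false
set_option linter.unusedSimpArgs false
set_option linter.unusedVariables false
set_option linter.unusedSectionVars false

/-!
FR-TAN3 (S5655, frames): among `(q+1)^2` pairwise non-proportional vectors of norm one of a
nondegenerate hermitian 3-space over the field with `q^2` elements, two span a degenerate plane.
-/

namespace Cfsg.Agent.Lib.Helper94_FR_TAN3

open Module Cfsg.Agent.Lib.Helper94_Symp Cfsg.Agent.Lib.Helper94_Herm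
  Cfsg.Agent.Lib.Helper27_UQ_KISO Cfsg.Agent.Lib.Helper94_HermWitt

variable {F W : Type*} [Field F] [AddCommGroup W] [Module F W] [Finite F] [FiniteDimensional F W]
variable {σ : F →+* F} {B : W →ₗ[F] W →ₛₗ[σ] F}

/-- Coordinates with respect to `n` independent vectors of an `n`-dimensional subspace. -/
lemma coords_li {n : ℕ} (A : Submodule F W) (hfr : finrank F A = n) (v : Fin n → W)
    (hv : ∀ i, v i ∈ A) (hli : LinearIndependent F v) :
    ∀ x ∈ A, ∃ c : Fin n → F, ∑ i, c i • v i = x := by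
  have h1 : Submodule.span F (Set.range v) ≤ A := by
    rw [Submodule.span_le]
    rintro _ ⟨i, rfl⟩
    exact hv i
  have h2 : finrank F (Submodule.span F (Set.range v)) = finrank F A := by
    rw [finrank_span_eq_card hli, hfr, Fintype.card_fin]
  have h3 := Submodule.eq_of_le_of_finrank_eq h1 h2
  intro x hx
  rw [← h3] at hx
  exact (Submodule.mem_span_range_iff_exists_fun F).mp hx

/-- Two independent vectors span a plane. -/
lemma span_two (P : Submodule F W) (hP2 : finrank F P = 2) {u b : W} (hu : u ∈ P) (hb : b ∈ P)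
    (hb0 : b ≠ 0) (hub : ∀ c : F, u ≠ c • b) : ∀ x ∈ P, ∃ α β : F, x = α • u + β • b := by
  have hli : LinearIndependent F ![u, b] := by
    rw [LinearIndependent.pair_iff]
    intro s t hst
    have hs : s = 0 := by
      by_contra hs
      apply hub (-(s⁻¹ * t))
      have h1 : s • u = -(t • b) := eq_neg_of_add_eq_zero_left hst
      have h2 : u = s⁻¹ • (s • u) := by rw [smul_smul, inv_mul_cancel₀ hs, one_smul]
      rw [h2, h1]
      module
    refine ⟨hs, ?_⟩
    rw [hs, zero_smul, zero_add] at hst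
    exact (smul_eq_zero.mp hst).resolve_right hb0
  intro x hx
  obtain ⟨c, hc⟩ := coords_li P hP2 ![u, b]
    (by intro i; fin_cases i <;> simp [hu, hb]) hli x hx
  refine ⟨c 0, c 1, ?_⟩
  rw [← hc, Fin.sum_univ_two]
  simp

/-- the number of isotropic vectors of a nondegenerate subspace, via the restricted form -/
lemma card_iso_sub (hσ : Invol σ) (hB : IsHerm B) {q : ℕ} (hF : Nat.card F = q ^ 2)
    {U : Submodule F W} (hU : NondegOn B U) (n : ℕ) (hn : finrank F U = n) (hn1 : 1 ≤ n) :
    Nat.card {u : W // u ∈ U ∧ B u u = 0} + (if Even n then q ^ (n - 1) else q ^ n) =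
      q ^ (2 * n - 1) + (if Even n then q ^ n else q ^ (n - 1)) := by
  have h := (Cfsg.Agent.Lib.Helper9_S2151_CNT.CNT (Bw B U) hσ (isHerm_Bw hB U) (nondeg_Bw hU) hF n
    hn hn1).1
  have e : {u : W // u ∈ U ∧ B u u = 0} ≃ {x : ↥U // Bw B U x x = 0} :=
    { toFun := fun u => ⟨⟨u.1, u.2.1⟩, u.2.2⟩
      invFun := fun x => ⟨x.1.1, x.1.2, x.2⟩
      left_inv := fun u => rfl
      right_inv := fun x => rfl }
  rw [Nat.card_congr e]
  exact h

/-- the geometric end of the argument -/
lemma norm_one_of_common_iso (hσ : Invol σ) (hB : IsHerm B) {U : Submodule F W}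
    (hU : NondegOn B U) (h3 : finrank F U = 3) {x x' u : W} (hxU : x ∈ U) (hx'U : x' ∈ U)
    (huU : u ∈ U) (hx : B x x = 1) (hx' : B x' x' = 1) (hu : B u u = 0) (hu0 : u ≠ 0)
    (hxu : B x u = 0) (hx'u : B x' u = 0) : B x x' * σ (B x x') = 1 := by
  set P : Submodule F W := U ⊓ orthV B u with hP
  have hxP : x ∈ P := ⟨hxU, mem_orthV.mpr hxu⟩
  have hx'P : x' ∈ P := ⟨hx'U, mem_orthV.mpr hx'u⟩
  have huP : u ∈ P := ⟨huU, mem_orthV.mpr hu⟩
  obtain ⟨z, hzU, hz⟩ := hU u huU hu0
  have hzu : B z u ≠ 0 := herm_ne_zero hσ hB hz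
  have hP2 : finrank F P = 2 := by
    have h1 : finrank F U ≤ finrank F P + 1 := finrank_le_inf_orthV_add_one (B := B) U u
    have h2 : finrank F P < finrank F U := by
      apply Submodule.finrank_lt_finrank_of_lt
      refine lt_of_le_of_ne inf_le_left ?_
      intro heq
      have : z ∈ P := by rw [heq]; exact hzU
      exact hzu (mem_orthV.mp this.2)
    omega
  have hx0 : x ≠ 0 := by
    rintro rfl
    simp at hx
  have hux : ∀ c : F, x ≠ c • u := by
    intro c h
    rw [h, self_smul, hu, mul_zero] at hx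
    exact zero_ne_one hx
  obtain ⟨α, β, hαβ⟩ := span_two P hP2 hxP huP hu0 hux x' hx'P
  have hux' : B u x = 0 := herm_eq_zero hB hxu
  have h1 : B x x' = σ α := by
    rw [hαβ, map_add, map_smulₛₗ, map_smulₛₗ, hx, hxu]
    simp
  have h2 : α * σ α = 1 := by
    have := hx'
    rw [hαβ] at this
    simp only [map_add, map_smul, map_smulₛₗ, LinearMap.add_apply, LinearMap.smul_apply,
      smul_eq_mul, hx, hu, hxu, hux', mul_zero, add_zero, mul_one] at this
    rw [mul_comm]
    exact this
  rw [h1, hσ.invol, mul_comm]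
  exact h2

/-- **FR-TAN3**. -/
theorem TAN3 (hσ : Invol σ) (hB : IsHerm B) {q : ℕ} (hF : Nat.card F = q ^ 2) {U : Submodule F W}
    (hU : NondegOn B U) (h3 : finrank F U = 3) (S : Finset W) (hS : ∀ x ∈ S, x ∈ U ∧ B x x = 1)
    (hprop : ∀ x ∈ S, ∀ x' ∈ S, ∀ c : F, x' = c • x → x' = x) (hcard : (q + 1) ^ 2 ≤ S.card) :
    ∃ x ∈ S, ∃ x' ∈ S, x ≠ x' ∧ B x x' * σ (B x x') = 1 := by
  classical
  have : Finite W := Module.finite_of_finite F
  have : Fintype W := Fintype.ofFinite W
  have hq2 : 2 ≤ q := Cfsg.Agent.Lib.Helper9_S2151_CNT.two_le_q hF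
  -- the nonzero isotropic vectors of `U`
  set I : Finset W := Finset.univ.filter (fun u => u ∈ U ∧ B u u = 0) with hI
  have hIcard : I.card + q ^ 3 = q ^ 5 + q ^ 2 := by
    have h := card_iso_sub hσ hB hF hU 3 h3 (by norm_num)
    have hodd : ¬ Even 3 := by decide
    rw [if_neg hodd, if_neg hodd] at h
    rw [Nat.card_eq_fintype_card, Fintype.card_subtype] at h
    exact h
  -- for `x ∈ S` the isotropic vectors orthogonal to `x`
  let J : W → Finset W := fun x => I.filter (fun u => B u x = 0 ∧ u ≠ 0)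
  have hJcard : ∀ x ∈ S, (J x).card + q + 1 = q ^ 3 + q ^ 2 := by
    intro x hx
    obtain ⟨hxU, hxx⟩ := hS x hx
    have hxx0 : B x x ≠ 0 := by rw [hxx]; exact one_ne_zero
    have hU1 := nondegOn_orthV hB hU hxU hxx0
    have hfr : finrank F (U ⊓ orthV B x : Submodule F W) = 2 := by
      have h1 := finrank_le_inf_orthV_add_one (B := B) U x
      have h2 : finrank F (U ⊓ orthV B x : Submodule F W) < finrank F U := by
        apply Submodule.finrank_lt_finrank_of_lt
        refine lt_of_le_of_ne inf_le_left ?_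
        intro heq
        have : x ∈ (U ⊓ orthV B x : Submodule F W) := by rw [heq]; exact hxU
        exact hxx0 (mem_orthV.mp this.2)
      omega
    have h := card_iso_sub hσ hB hF hU1 2 hfr (by norm_num)
    have hev : Even 2 := by decide
    rw [if_pos hev, if_pos hev] at h
    rw [Nat.card_eq_fintype_card, Fintype.card_subtype] at h
    -- the filter in `h` is `J x` together with zero
    have hset : (Finset.univ.filter (fun u : W => u ∈ (U ⊓ orthV B x : Submodule F W) ∧
        B u u = 0)) = insert 0 (J x) := by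
      ext u
      simp only [Finset.mem_filter, Finset.mem_univ, true_and, Finset.mem_insert, J, hI,
        Submodule.mem_inf, mem_orthV]
      constructor
      · rintro ⟨⟨h1, h2⟩, h3⟩
        by_cases hu0 : u = 0
        · left; exact hu0
        · right; exact ⟨⟨h1, h3⟩, h2, hu0⟩
      · rintro (rfl | ⟨⟨h1, h3⟩, h2, -⟩)
        · simp
        · exact ⟨⟨h1, h2⟩, h3⟩
    rw [hset, Finset.card_insert_of_notMem (by simp [J])] at h
    simp only [show 2 * 2 - 1 = 3 by norm_num, show 2 - 1 = 1 by norm_num, pow_one] at h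
    omega
  -- pigeonhole
  have hJsub : ∀ x ∈ S, J x ⊆ I.erase 0 := by
    intro x _ u hu
    simp only [J, Finset.mem_filter] at hu
    exact Finset.mem_erase.mpr ⟨hu.2.2, hu.1⟩
  have hI0 : (0 : W) ∈ I := by simp [hI]
  have hIe : (I.erase 0).card + 1 + q ^ 3 = q ^ 5 + q ^ 2 := by
    rw [Finset.card_erase_of_mem hI0]
    have : 1 ≤ I.card := Finset.card_pos.mpr ⟨0, hI0⟩
    omega
  by_contra hcon
  push Not at hcon
  have hdisj : (S : Set W).PairwiseDisjoint J := by
    intro x hx x' hx' hne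
    rw [Function.onFun, Finset.disjoint_left]
    intro u hu hu'
    simp only [J, Finset.mem_filter, hI, Finset.mem_univ, true_and] at hu hu'
    obtain ⟨⟨huU, huu⟩, hux, hu0⟩ := hu
    obtain ⟨-, hux', -⟩ := hu'
    obtain ⟨hxU, hxx⟩ := hS x hx
    obtain ⟨hx'U, hx'x'⟩ := hS x' hx'
    exact hcon x hx x' hx' hne (norm_one_of_common_iso hσ hB hU h3 hxU hx'U huU hxx hx'x' huu hu0
      (herm_eq_zero hB hux) (herm_eq_zero hB hux'))
  have hunion : (S.biUnion J).card = ∑ x ∈ S, (J x).card := Finset.card_biUnion hdisj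
  have hle : (S.biUnion J).card ≤ (I.erase 0).card :=
    Finset.card_le_card (Finset.biUnion_subset.mpr hJsub)
  have hsum : ∑ x ∈ S, (J x).card = S.card * (q ^ 3 + q ^ 2 - q - 1) := by
    rw [Finset.sum_const_nat]
    intro x hx
    have := hJcard x hx
    omega
  rw [hunion, hsum] at hle
  -- arithmetic
  have hpos : q + 1 ≤ q ^ 3 + q ^ 2 := by nlinarith [hq2]
  have h1 : (q + 1) ^ 2 * (q ^ 3 + q ^ 2 - q - 1) ≤ (I.erase 0).card :=
    le_trans (Nat.mul_le_mul_right _ hcard) hle
  have h2 : q ^ 3 + q ^ 2 - q - 1 + (q + 1) = q ^ 3 + q ^ 2 := by omega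
  have h3' : (q + 1) ^ 2 * (q ^ 3 + q ^ 2 - q - 1) + (q + 1) ^ 2 * (q + 1) =
      (q + 1) ^ 2 * (q ^ 3 + q ^ 2) := by
    rw [← Nat.mul_add, h2]
  nlinarith [hq2, h1, hIe, h3', pow_pos (show 0 < q by omega) 3, pow_pos (show 0 < q by omega) 5]

end Cfsg.Agent.Lib.Helper94_FR_TAN3
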