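import Mathlib
import Cfsg.Agent.Lib.Helper94_FrmDefs2
import Cfsg.Agent.Lib.Helper94_FR_TAN3
import Cfsg.Agent.Lib.Helper91_FR_RC
import Cfsg.Agent.Lib.Helper7_FR_MU

set_option autoImplicit false
set_option linter.unusedSectionVars false
set_option linter.unusedVariables false

/-!
FR-S2B (helper94's S5655 frames market): tangent pair, general case.
-/

namespace Cfsg.Agent.Lib.Helper38_FR_S2B

open Module Cfsg.Agent.Lib.Helper94_Symp Cfsg.Agent.Lib.Helper94_Herm
  Cfsg.Agent.Lib.Helper13_PSUSimple Cfsg.Agent.Lib.Helper27_UQDefs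
  Cfsg.Agent.Lib.Helper94_FrmDefs Cfsg.Agent.Lib.Helper94_UDDefs
  Cfsg.Agent.Lib.Helper94_FrmDefs2 Cfsg.Agent.Lib.Helper27_UQ_KISO
  Cfsg.Agent.Lib.Helper94_HermTrans Cfsg.Agent.Lib.Helper91_FR_RC

variable {F W : Type*} [Field F] [AddCommGroup W] [Module F W] [Finite F] [FiniteDimensional F W]
variable {σ : F →+* F} {B : W →ₗ[F] W →ₛₗ[σ] F}
variable {ι : Type*} [Fintype ι] [DecidableEq ι] {e : ι → W} {L : Subgroup (W ≃ₗ[F] W)}

/-- three pairwise orthogonal anisotropic vectors span a nondegenerate 3-space -/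
lemma nondeg_span3 (hσ : Invol σ) (hB : IsHerm B) {x y z : W} (hxy : B x y = 0) (hxz : B x z = 0)
    (hyz : B y z = 0) (hx : B x x ≠ 0) (hy : B y y ≠ 0) (hz : B z z ≠ 0) :
    NondegOn B (Submodule.span F {x, y, z}) ∧ finrank F (Submodule.span F {x, y, z}) = 3 := by
  have hyx : B y x = 0 := herm_eq_zero hB hxy
  have hzx : B z x = 0 := herm_eq_zero hB hxz
  have hzy : B z y = 0 := herm_eq_zero hB hyz
  have hxU : x ∈ Submodule.span F {x, y, z} := Submodule.subset_span (by simp)
  have hyU : y ∈ Submodule.span F {x, y, z} := Submodule.subset_span (by simp)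
  have hzU : z ∈ Submodule.span F {x, y, z} := Submodule.subset_span (by simp)
  constructor
  · intro v hv hv0
    rw [Submodule.mem_span_triple] at hv
    obtain ⟨α, β, γ, rfl⟩ := hv
    by_cases hα : α = 0
    · by_cases hβ : β = 0
      · have hγ : γ ≠ 0 := by
          rintro rfl
          apply hv0
          rw [hα, hβ]
          simp
        refine ⟨z, hzU, ?_⟩
        simp only [map_add, map_smul, LinearMap.add_apply, LinearMap.smul_apply, smul_eq_mul, hxz,
          hyz, mul_zero, zero_add]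
        exact mul_ne_zero hγ hz
      · refine ⟨y, hyU, ?_⟩
        simp only [map_add, map_smul, LinearMap.add_apply, LinearMap.smul_apply, smul_eq_mul, hxy,
          hzy, mul_zero, zero_add, add_zero]
        exact mul_ne_zero hβ hy
    · refine ⟨x, hxU, ?_⟩
      simp only [map_add, map_smul, LinearMap.add_apply, LinearMap.smul_apply, smul_eq_mul, hyx,
        hzx, mul_zero, add_zero]
      exact mul_ne_zero hα hx
  · have hli : LinearIndependent F ![x, y, z] := by
      rw [Fintype.linearIndependent_iff]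
      intro g hg
      simp only [Fin.sum_univ_three, Matrix.cons_val_zero, Matrix.cons_val_one,
        Matrix.cons_val_two, Matrix.head_cons, Matrix.tail_cons] at hg
      have e0 := congrArg (fun v => B v x) hg
      have e1 := congrArg (fun v => B v y) hg
      have e2 := congrArg (fun v => B v z) hg
      simp only [map_add, map_smul, LinearMap.add_apply, LinearMap.smul_apply, smul_eq_mul, hyx,
        hzx, hxy, hzy, hxz, hyz, mul_zero, add_zero, zero_add, map_zero,
        LinearMap.zero_apply] at e0 e1 e2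
      intro i
      fin_cases i
      · exact (mul_eq_zero.mp e0).resolve_right hx
      · exact (mul_eq_zero.mp e1).resolve_right hy
      · exact (mul_eq_zero.mp e2).resolve_right hz
    have h3 := finrank_span_eq_card hli
    have hr : Set.range ![x, y, z] = {x, y, z} := by
      ext v
      simp only [Set.mem_range, Set.mem_insert_iff, Set.mem_singleton_iff]
      constructor
      · rintro ⟨i, rfl⟩
        fin_cases i <;> simp
      · rintro (rfl | rfl | rfl)
        · exact ⟨0, rfl⟩
        · exact ⟨1, rfl⟩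
        · exact ⟨2, rfl⟩
    rw [hr] at h3
    rw [h3]
    simp

theorem S2B (hC : FCtx B e L) {q : ℕ} (hF : Nat.card F = q ^ 2) {w : W}
    (hw : w ∈ Rc B (mu1 σ) L) {i j : ι} (hij : i ≠ j) (hi : B w (e i) ≠ 0) (hj : B w (e j) ≠ 0)
    (ht : B w (e i) * σ (B w (e i)) + B w (e j) * σ (B w (e j)) ≠ 1) :
    ∃ y ∈ Rc B (mu1 σ) L, ∃ y' ∈ Rc B (mu1 σ) L, B y y' = 1 ∧ y ≠ y' := by
  classical
  have hσ := hC.hσ
  have hB := hC.hB
  have he := hC.he
  have hfinF : Fintype F := Fintype.ofFinite F
  set a : F := B w (e i) with ha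
  set b : F := B w (e j) with hb
  set wr : W := w - a • e i - b • e j with hwr
  have heij : B (e i) (e j) = 0 := he.orth i j hij
  have heji : B (e j) (e i) = 0 := he.orth j i (Ne.symm hij)
  have heii : B (e i) (e i) = 1 := he.unit i
  have hejj : B (e j) (e j) = 1 := he.unit j
  have hwei : B (e i) w = σ a := by rw [ha, ← hB]
  have hwej : B (e j) w = σ b := by rw [hb, ← hB]
  have hwri : B wr (e i) = 0 := by
    simp only [hwr, map_sub, map_smul, LinearMap.sub_apply, LinearMap.smul_apply, smul_eq_mul,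
      heii, heji, ← ha]
    ring
  have hwrj : B wr (e j) = 0 := by
    simp only [hwr, map_sub, map_smul, LinearMap.sub_apply, LinearMap.smul_apply, smul_eq_mul,
      hejj, heij, ← hb]
    ring
  have hiwr : B (e i) wr = 0 := herm_eq_zero hB hwri
  have hjwr : B (e j) wr = 0 := herm_eq_zero hB hwrj
  set c : F := 1 - a * σ a - b * σ b with hc
  have hc0 : c ≠ 0 := by
    intro h
    apply ht
    rw [hc] at h
    linear_combination -h
  have hwrwr : B wr wr = c := by
    have hgen : ∀ z : W, B wr z = B w z - a * B (e i) z - b * B (e j) z := by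
      intro z
      simp only [hwr, map_sub, map_smul, LinearMap.sub_apply, LinearMap.smul_apply, smul_eq_mul]
    have h1 : B wr wr = B w wr := by
      rw [hgen wr, hiwr, hjwr]
      ring
    rw [h1, hwr]
    simp only [map_sub, map_smulₛₗ, smul_eq_mul, hw.1, ← ha, ← hb, hc]
    ring
  -- the family
  let x : F → F → W := fun l l' => (l * a) • e i + (l' * b) • e j + wr
  have hxi : ∀ l l', B (x l l') (e i) = l * a := by
    intro l l'
    simp only [x, map_add, map_smul, LinearMap.add_apply, LinearMap.smul_apply, smul_eq_mul,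
      heii, heji, hwri]
    ring
  have hxj : ∀ l l', B (x l l') (e j) = l' * b := by
    intro l l'
    simp only [x, map_add, map_smul, LinearMap.add_apply, LinearMap.smul_apply, smul_eq_mul,
      hejj, heij, hwrj]
    ring
  have hxr : ∀ l l', B (x l l') wr = c := by
    intro l l'
    simp only [x, map_add, map_smul, LinearMap.add_apply, LinearMap.smul_apply, smul_eq_mul,
      hiwr, hjwr, hwrwr]
    ring
  have hxRc : ∀ l ∈ mu1 σ, ∀ l' ∈ mu1 σ, x l l' ∈ Rc B (mu1 σ) L := by
    intro l hl l' hl'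
    have hl0 : l ≠ 0 := mu1_ne_zero hl
    have hl'0 : l' ≠ 0 := mu1_ne_zero hl'
    have h1 : qr B (e j) l' w ∈ Rc B (mu1 σ) L :=
      map_mem_Rc hC hw ((frame_mem_Rc hC j).2 l' hl')
    have h2 : qr B (e i) l (qr B (e j) l' w) ∈ Rc B (mu1 σ) L :=
      map_mem_Rc hC h1 ((frame_mem_Rc hC i).2 l hl)
    have h3 : qr B (e i) l (qr B (e j) l' w) = x l l' := by
      rw [qr_apply B (e j) hl'0, qr_apply B (e i) hl0]
      simp only [map_add, map_smul, LinearMap.add_apply, LinearMap.smul_apply, smul_eq_mul,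
        hejj, heii, heji, inv_one, mul_one, ← ha, ← hb, mul_zero, add_zero, x, hwr]
      module
    rw [← h3]
    exact h2
  -- the 3-space
  set U : Submodule F W := Submodule.span F {e i, e j, wr} with hU
  obtain ⟨hUnd, hU3⟩ := nondeg_span3 hσ hB heij hiwr hjwr (by rw [heii]; exact one_ne_zero)
    (by rw [hejj]; exact one_ne_zero) (by rw [hwrwr]; exact hc0)
  have hxU : ∀ l l', x l l' ∈ U := by
    intro l l'
    have h1 : e i ∈ U := Submodule.subset_span (by simp)
    have h2 : e j ∈ U := Submodule.subset_span (by simp)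
    have h3 : wr ∈ U := Submodule.subset_span (by simp)
    exact U.add_mem (U.add_mem (U.smul_mem _ h1) (U.smul_mem _ h2)) h3
  -- the finite set
  set μF : Finset F := Finset.univ.filter (fun ζ => ζ * σ ζ = 1) with hμF
  have hμmem : ∀ ζ, ζ ∈ μF ↔ ζ ∈ mu1 σ := by
    intro ζ
    simp [hμF, mu1]
  have hμcard : μF.card = q + 1 := by
    rw [← Cfsg.Agent.Lib.Helper7_FR_MU.MU hσ hF, Nat.card_eq_fintype_card, Fintype.card_subtype]
  set S : Finset W := (μF ×ˢ μF).image (fun p => x p.1 p.2) with hSdef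
  have hinj : Set.InjOn (fun p : F × F => x p.1 p.2) ↑(μF ×ˢ μF) := by
    rintro ⟨l, l'⟩ _ ⟨m, m'⟩ _ h
    simp only at h
    have h1 : l * a = m * a := by rw [← hxi l l', ← hxi m m', h]
    have h2 : l' * b = m' * b := by rw [← hxj l l', ← hxj m m', h]
    rw [Prod.mk.injEq]
    exact ⟨mul_right_cancel₀ hi h1, mul_right_cancel₀ hj h2⟩
  have hScard : S.card = (q + 1) ^ 2 := by
    rw [hSdef, Finset.card_image_of_injOn hinj, Finset.card_product, hμcard]
    ring
  have hSmem : ∀ v ∈ S, ∃ l ∈ mu1 σ, ∃ l' ∈ mu1 σ, v = x l l' := by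
    intro v hv
    rw [hSdef, Finset.mem_image] at hv
    obtain ⟨⟨l, l'⟩, hp, rfl⟩ := hv
    rw [Finset.mem_product] at hp
    exact ⟨l, (hμmem l).1 hp.1, l', (hμmem l').1 hp.2, rfl⟩
  have hS1 : ∀ v ∈ S, v ∈ U ∧ B v v = 1 := by
    intro v hv
    obtain ⟨l, hl, l', hl', rfl⟩ := hSmem v hv
    exact ⟨hxU l l', (hxRc l hl l' hl').1⟩
  have hprop : ∀ v ∈ S, ∀ v' ∈ S, ∀ c' : F, v' = c' • v → v' = v := by
    intro v hv v' hv' c' hvv
    obtain ⟨l, hl, l', hl', rfl⟩ := hSmem v hv
    obtain ⟨m, hm, m', hm', rfl⟩ := hSmem v' hv'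
    have h1 := congrArg (fun u => B u wr) hvv
    simp only [LinearMap.map_smul₂, smul_eq_mul, hxr] at h1
    have hc' : c' = 1 := by
      have : c' * c = 1 * c := by rw [one_mul]; exact h1.symm
      exact mul_right_cancel₀ hc0 this
    rw [hvv, hc', one_smul]
  obtain ⟨v, hv, v', hv', hne, hN⟩ :=
    Cfsg.Agent.Lib.Helper94_FR_TAN3.TAN3 hσ hB hF hUnd hU3 S hS1 hprop (le_of_eq hScard.symm)
  obtain ⟨l, hl, l', hl', rfl⟩ := hSmem v hv
  obtain ⟨m, hm, m', hm', rfl⟩ := hSmem v' hv'
  set β : F := B (x l l') (x m m') with hβ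
  have hβμ : β ∈ mu1 σ := hN
  refine ⟨x l l', hxRc l hl l' hl', β • x m m', smul_mem_Rc (hxRc m hm m' hm') hβμ, ?_, ?_⟩
  · rw [map_smulₛₗ, smul_eq_mul, ← hβ, mul_comm]
    exact hN
  · intro h
    exact hne ((hprop _ hv' _ hv β h))

end Cfsg.Agent.Lib.Helper38_FR_S2B
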