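import Mathlib
import Cfsg.Agent.Lib.Helper83_HP2Defs

set_option autoImplicit false
set_option linter.unusedSectionVars false
set_option linter.unusedVariables false

/-!
Contexts of helper83's HP2 market (hyperbolic planes, `k = 2`) with the bound `5 ≤ t` instead of
`7 ≤ t`: the HP2 proof only uses `t ≥ 7` in the counting package T1EX, which holds for `t ≥ 5`
(`Helper38_HP5_T1EX.T1EX5`).  The files `Helper38_HP5_*` are the mechanical ports of the HP2
packages to these contexts.  (helper38)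
-/

namespace Cfsg.Agent.Lib.Helper38_HP5Defs

open Module Cfsg.Agent.Lib.Helper94_Symp Cfsg.Agent.Lib.Helper94_OrthSmall
  Cfsg.Agent.Lib.Helper94_OrthSiegel Cfsg.Agent.Lib.Helper94_OrthNondeg
  Cfsg.Agent.Lib.Helper29_ODDefs Cfsg.Agent.Lib.Helper94_Q2Defs Cfsg.Agent.Lib.Helper83_HP2Defs

/-- Common hypotheses: `M` is a minimal overgroup of `H = S ⊓ Ω` inside `Ω`; `t ≥ 5`, `q ≥ 7`. -/
structure PCtx5 (F : Type*) [Field F] (t : ℕ) (S M : Subgroup (PV F t ≃ₗ[F] PV F t)) : Prop where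
  ht : 5 ≤ t
  hq : 7 ≤ Nat.card F
  hS : IsDStab (pD F t) S
  hmin : MinOver (S ⊓ pOm F t) M
  hMO : M ≤ pOm F t

/-- Hypotheses of Theorem R with `t ≥ 5`. -/
structure PCtxR5 (F : Type*) [Field F] (t : ℕ) (S L : Subgroup (PV F t ≃ₗ[F] PV F t)) : Prop where
  ht : 5 ≤ t
  hq : 7 ≤ Nat.card F
  hS : IsDStab (pD F t) S
  hLO : L ≤ oG (pQ F t)
  hHL : S ⊓ pOm F t ≤ L
  hR : ∀ x, IsPBl x → ∀ hx : pQ F t x ≠ 0, prefl F t hx ∈ L
  hLS : ¬ L ≤ S

end Cfsg.Agent.Lib.Helper38_HP5Defs
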