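import Mathlib
import Cfsg.Agent.Lib.Helper94_Q2Defs

/-!
# Q2-BRIDGE (helper94's Q2 market, rows S5694 / S5692, `k = 2`): transport of the model theorem along the
isometry `φ : V ≃ MV a b t` of Q2-BRISO.  `BRIDGE_of` takes the conclusion of BRISO as a hypothesis.
-/

set_option autoImplicit false
set_option linter.unusedSectionVars false
set_option linter.unusedVariables false

namespace Cfsg.Agent.Lib.Helper48_Q2_BRIDGE

open Module Cfsg.Agent.Lib.Helper94_Symp Cfsg.Agent.Lib.Helper94_OrthSmall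
  Cfsg.Agent.Lib.Helper94_OrthSiegel Cfsg.Agent.Lib.Helper94_OrthNondeg
  Cfsg.Agent.Lib.Helper29_ODDefs Cfsg.Agent.Lib.Helper94_Q2Defs

section transport

variable {F W W' : Type*} [Field F] [AddCommGroup W] [Module F W] [AddCommGroup W'] [Module F W']

/-- conjugation by a linear equivalence, as an isomorphism of the automorphism groups -/
def cj (φ : W ≃ₗ[F] W') : (W ≃ₗ[F] W) ≃* (W' ≃ₗ[F] W') where
  toFun g := (φ.symm.trans g).trans φ
  invFun g := (φ.trans g).trans φ.symm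
  left_inv g := by
    apply LinearEquiv.ext
    intro x
    simp
  right_inv g := by
    apply LinearEquiv.ext
    intro x
    simp
  map_mul' g g' := by
    apply LinearEquiv.ext
    intro x
    simp [LinearEquiv.mul_apply]

theorem cj_apply (φ : W ≃ₗ[F] W') (g : W ≃ₗ[F] W) (x : W') :
    cj φ g x = φ (g (φ.symm x)) := rfl

theorem cj_apply_apply (φ : W ≃ₗ[F] W') (g : W ≃ₗ[F] W) (v : W) :
    cj φ g (φ v) = φ (g v) := by
  rw [cj_apply, LinearEquiv.symm_apply_apply]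

variable {Q : W → F} {B : LinearMap.BilinForm F W} {Q' : W' → F} {B' : LinearMap.BilinForm F W'}

theorem B_transport (hQp : ∀ u v : W, Q (u + v) = Q u + Q v + B u v)
    (hQp' : ∀ u v : W', Q' (u + v) = Q' u + Q' v + B' u v) (φ : W ≃ₗ[F] W')
    (hφ : ∀ v, Q' (φ v) = Q v) (u v : W) : B' (φ u) (φ v) = B u v := by
  have h1 := hQp' (φ u) (φ v)
  rw [← map_add, hφ, hφ, hφ, hQp u v] at h1
  exact (add_left_cancel h1).symm

theorem map_oG (φ : W ≃ₗ[F] W') (hφ : ∀ v, Q' (φ v) = Q v) :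
    (oG Q).map (cj φ).toMonoidHom = oG Q' := by
  ext g'
  constructor
  · rintro ⟨g, hg, rfl⟩
    intro x
    show Q' (cj φ g x) = Q' x
    rw [cj_apply, hφ, hg, ← hφ, LinearEquiv.apply_symm_apply]
  · intro hg'
    refine ⟨(cj φ).symm g', ?_, by simp⟩
    intro v
    have h1 : (cj φ).symm g' v = φ.symm (g' (φ v)) := rfl
    rw [h1, ← hφ, LinearEquiv.apply_symm_apply, hg' (φ v), hφ]

theorem map_comm_oG (φ : W ≃ₗ[F] W') (hφ : ∀ v, Q' (φ v) = Q v) :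
    (⁅oG Q, oG Q⁆).map (cj φ).toMonoidHom = ⁅oG Q', oG Q'⁆ := by
  rw [Subgroup.map_commutator, map_oG φ hφ]

theorem cj_sieg (hQs : ∀ (c : F) (v : W), Q (c • v) = c * c * Q v)
    (hQp : ∀ u v : W, Q (u + v) = Q u + Q v + B u v)
    (hQs' : ∀ (c : F) (v : W'), Q' (c • v) = c * c * Q' v)
    (hQp' : ∀ u v : W', Q' (u + v) = Q' u + Q' v + B' u v) (φ : W ≃ₗ[F] W')
    (hφ : ∀ v, Q' (φ v) = Q v) {u z : W} (hu : Q u = 0) (huz : B u z = 0) :
    cj φ (sieg Q B u z) = sieg Q' B' (φ u) (φ z) := by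
  have hB := B_transport hQp hQp' φ hφ
  apply LinearEquiv.ext
  intro x
  obtain ⟨y, rfl⟩ := φ.surjective x
  rw [cj_apply_apply, sieg_apply Q B hQs hQp hu huz,
    sieg_apply Q' B' hQs' hQp' (by rw [hφ, hu]) (by rw [hB, huz]), hB, hB, hφ]
  simp only [map_add, map_sub, map_smul]

theorem map_D_cj {t : ℕ} (φ : W ≃ₗ[F] W') (D : Fin t → Submodule F W) (D' : Fin t → Submodule F W')
    (hD : ∀ l, (D l).map (φ : W →ₗ[F] W') = D' l) (g : W ≃ₗ[F] W) (i j : Fin t) :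
    (D' i).map ((cj φ g : W' ≃ₗ[F] W') : W' →ₗ[F] W') = D' j ↔
      (D i).map (g : W →ₗ[F] W) = D j := by
  rw [← hD i, ← hD j]
  have h1 : ((D i).map (φ : W →ₗ[F] W')).map ((cj φ g : W' ≃ₗ[F] W') : W' →ₗ[F] W') =
      ((D i).map (g : W →ₗ[F] W)).map (φ : W →ₗ[F] W') := by
    ext x
    simp only [Submodule.mem_map]
    constructor
    · rintro ⟨_, ⟨v, hv, rfl⟩, rfl⟩
      exact ⟨g v, ⟨v, hv, rfl⟩, (cj_apply_apply φ g v).symm⟩
    · rintro ⟨_, ⟨v, hv, rfl⟩, rfl⟩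
      exact ⟨φ v, ⟨v, hv, rfl⟩, cj_apply_apply φ g v⟩
  rw [h1]
  constructor
  · intro h
    exact Submodule.map_injective_of_injective (f := (φ : W →ₗ[F] W')) φ.injective h
  · intro h
    rw [h]

theorem isDStab_map {t : ℕ} (φ : W ≃ₗ[F] W') (D : Fin t → Submodule F W)
    (D' : Fin t → Submodule F W') (hD : ∀ l, (D l).map (φ : W →ₗ[F] W') = D' l)
    (S : Subgroup (W ≃ₗ[F] W)) (hS : IsDStab D S) :
    IsDStab D' (S.map (cj φ).toMonoidHom) := by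
  intro g'
  constructor
  · rintro ⟨g, hg, rfl⟩
    obtain ⟨σ, hσ⟩ := (hS g).1 hg
    exact ⟨σ, fun i => (map_D_cj φ D D' hD g i (σ i)).2 (hσ i)⟩
  · rintro ⟨σ, hσ⟩
    refine ⟨(cj φ).symm g', (hS _).2 ⟨σ, fun i => ?_⟩, by simp⟩
    apply (map_D_cj φ D D' hD ((cj φ).symm g') i (σ i)).1
    rw [MulEquiv.apply_symm_apply]
    exact hσ i

end transport

/-- **Q2-BRIDGE**, with the conclusion of Q2-BRISO as a hypothesis. -/
theorem BRIDGE_of {F V : Type*} [Field F] [AddCommGroup V] [Module F V] [Finite F]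
    [FiniteDimensional F V] {Q : V → F} {B : LinearMap.BilinForm F V}
    (hmodel : ∀ (a b : F) [Fact (∀ r : F, r ^ 2 ≠ a + b * r)] (t : ℕ), 5 ≤ t → Nat.card F ≠ 3 →
      (∀ u z, mQ a b t u = 0 → mB a b t u z = 0 →
        sieg (mQ a b t) (mB a b t) u z ∈ mOm a b t) →
      (∀ M : Subgroup (MV a b t ≃ₗ[F] MV a b t),
        (∀ u z, mQ a b t u = 0 → mB a b t u z = 0 → sieg (mQ a b t) (mB a b t) u z ∈ M) →
          mOm a b t ≤ M) →
      ∀ S : Subgroup (MV a b t ≃ₗ[F] MV a b t), IsDStab (mD a b t) S →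
        (S ⊓ mOm a b t < mOm a b t) ∧
          ∀ M : Subgroup (MV a b t ≃ₗ[F] MV a b t), S ⊓ mOm a b t ≤ M → M ≤ mOm a b t →
            M = S ⊓ mOm a b t ∨ M = mOm a b t)
    (hQs : ∀ (c : F) (v : V), Q (c • v) = c * c * Q v)
    (hQp : ∀ u v : V, Q (u + v) = Q u + Q v + B u v)
    (hG2 : ∀ u z, Q u = 0 → B u z = 0 → sieg Q B u z ∈ ⁅oG Q, oG Q⁆)
    (hG3 : ∀ M : Subgroup (V ≃ₗ[F] V),
      (∀ u z, Q u = 0 → B u z = 0 → sieg Q B u z ∈ M) → ⁅oG Q, oG Q⁆ ≤ M)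
    {t : ℕ} (D : Fin t → Submodule F V)
    (hiso : ∃ a b : F, (∀ r : F, r ^ 2 ≠ a + b * r) ∧ ∃ φ : V ≃ₗ[F] MV a b t,
      (∀ v, mQ a b t (φ v) = Q v) ∧
      ∀ l, (D l).map (φ : V →ₗ[F] MV a b t) = mD a b t l)
    (ht : 5 ≤ t) (hq : Nat.card F ≠ 3)
    (S : Subgroup (V ≃ₗ[F] V)) (hS : IsDStab D S) :
    (S ⊓ ⁅oG Q, oG Q⁆ < ⁅oG Q, oG Q⁆) ∧
      ∀ M : Subgroup (V ≃ₗ[F] V), S ⊓ ⁅oG Q, oG Q⁆ ≤ M → M ≤ ⁅oG Q, oG Q⁆ →
        M = S ⊓ ⁅oG Q, oG Q⁆ ∨ M = ⁅oG Q, oG Q⁆ := by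
  obtain ⟨a, b, hab, φ, hφQ, hφD⟩ := hiso
  haveI : Fact (∀ r : F, r ^ 2 ≠ a + b * r) := ⟨hab⟩
  set Φ := (cj φ).toMonoidHom with hΦ
  have hinj : Function.Injective Φ := (cj φ).injective
  have hΩ : (⁅oG Q, oG Q⁆).map Φ = mOm a b t := map_comm_oG φ hφQ
  have hsieg : ∀ {u z : V}, Q u = 0 → B u z = 0 →
      cj φ (sieg Q B u z) = sieg (mQ a b t) (mB a b t) (φ u) (φ z) := fun hu huz =>
    cj_sieg hQs hQp (mQs a b t) (mQp a b t) φ hφQ hu huz
  have hBt := B_transport hQp (mQp a b t) φ hφQ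
  -- transported generation hypotheses
  have hG2' : ∀ u z, mQ a b t u = 0 → mB a b t u z = 0 →
      sieg (mQ a b t) (mB a b t) u z ∈ mOm a b t := by
    intro u' z' hu' hz'
    obtain ⟨u, rfl⟩ := φ.surjective u'
    obtain ⟨z, rfl⟩ := φ.surjective z'
    rw [hφQ] at hu'
    rw [hBt] at hz'
    rw [← hsieg hu' hz', ← hΩ]
    exact Subgroup.mem_map_of_mem Φ (hG2 u z hu' hz')
  have hG3' : ∀ M : Subgroup (MV a b t ≃ₗ[F] MV a b t),
      (∀ u z, mQ a b t u = 0 → mB a b t u z = 0 → sieg (mQ a b t) (mB a b t) u z ∈ M) →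
        mOm a b t ≤ M := by
    intro M' hM'
    have h1 : ⁅oG Q, oG Q⁆ ≤ M'.comap Φ := by
      apply hG3
      intro u z hu huz
      rw [Subgroup.mem_comap]
      show cj φ (sieg Q B u z) ∈ M'
      rw [hsieg hu huz]
      exact hM' _ _ (by rw [hφQ, hu]) (by rw [hBt, huz])
    rw [← hΩ]
    exact Subgroup.map_le_iff_le_comap.2 h1
  have hS' : IsDStab (mD a b t) (S.map Φ) := isDStab_map φ D (mD a b t) hφD S hS
  obtain ⟨hlt, hmax⟩ := hmodel a b t ht hq hG2' hG3' (S.map Φ) hS'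
  have hinf : S.map Φ ⊓ mOm a b t = (S ⊓ ⁅oG Q, oG Q⁆).map Φ := by
    rw [← hΩ, Subgroup.map_inf _ _ Φ hinj]
  rw [hinf] at hlt hmax
  rw [← hΩ] at hlt hmax
  constructor
  · refine lt_of_le_of_ne inf_le_right ?_
    intro heq
    rw [heq] at hlt
    exact lt_irrefl _ hlt
  · intro M hHM hMΩ
    rcases hmax (M.map Φ) (Subgroup.map_mono hHM) (Subgroup.map_mono hMΩ) with h | h
    · exact Or.inl (Subgroup.map_injective hinj h)
    · exact Or.inr (Subgroup.map_injective hinj h)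

end Cfsg.Agent.Lib.Helper48_Q2_BRIDGE
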