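import Mathlib
import Cfsg.Agent.Lib.Helper83_HP2Defs
import Cfsg.Agent.Lib.Helper38_HP5Defs

/-!
# HP2 market (architect helper83), package HP2-NRMORB: the property `PNrm M` is invariant under `H = S ⊓ Ω` and under scalars.
(port of helper61's Q2-NRMORB)
-/

set_option autoImplicit false
set_option linter.unusedSectionVars false
set_option linter.unusedVariables false

/-! PORT by helper38 of `Cfsg.Agent.Lib.Helper82_HP2_NRMORB` (helper83's HP2 market) to the contexts
`PCtx5` / `PCtxR5` (`5 ≤ t` instead of `7 ≤ t`); generated mechanically, proofs unchanged. -/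

namespace Cfsg.Agent.Lib.Helper38_HP5_NRMORB_82

open Cfsg.Agent.Lib.Helper38_HP5Defs

open Module Cfsg.Agent.Lib.Helper94_Symp Cfsg.Agent.Lib.Helper94_OrthSmall
  Cfsg.Agent.Lib.Helper94_OrthSiegel Cfsg.Agent.Lib.Helper94_OrthNondeg
  Cfsg.Agent.Lib.Helper29_ODDefs Cfsg.Agent.Lib.Helper94_Q2Defs Cfsg.Agent.Lib.Helper83_HP2Defs

variable {F : Type*} [Field F] [Finite F] {t : ℕ} {S M L : Subgroup (PV F t ≃ₗ[F] PV F t)}

/-- the commutator subgroup of the isometry group consists of isometries -/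
theorem pOm_le_oG : pOm F t ≤ oG (pQ F t) := by
  rw [Subgroup.commutator_le]
  intro g₁ h₁ g₂ h₂
  rw [commutatorElement_def]
  exact Subgroup.mul_mem _ (Subgroup.mul_mem _ (Subgroup.mul_mem _ h₁ h₂) (Subgroup.inv_mem _ h₁))
    (Subgroup.inv_mem _ h₂)

/-- the reflection in `c • x` is the reflection in `x` -/
theorem prefl_smul {x : PV F t} (hx : pQ F t x ≠ 0) {c : F} (hc : c ≠ 0)
    (hcx : pQ F t (c • x) ≠ 0) : prefl F t hcx = prefl F t hx := by
  ext v : 1
  show refl (pQ F t) (pB F t) (pQs F t) (pQp F t) hcx v =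
    refl (pQ F t) (pB F t) (pQs F t) (pQp F t) hx v
  rw [refl_apply, refl_apply, pQs, map_smul, smul_smul, smul_eq_mul]
  congr 2
  field_simp

/-- **HP2-NRMORB** [S] (twin Q2-NRMORB) -/
theorem NRMORB (hC : PCtx5 F t S M) {x : PV F t} (hx : IsPBl x) (hn : PNrm M x) :
    (∀ h ∈ S ⊓ pOm F t, PNrm M (h x)) ∧ ∀ c : F, c ≠ 0 → PNrm M (c • x) := by
  constructor
  · intro h hh hhx g hg
    have hhM : h ∈ M := hC.hmin.le hh
    have hhO : h ∈ oG (pQ F t) := pOm_le_oG hh.2
    have hx0 : pQ F t x ≠ 0 := by rw [← hhO x]; exact hhx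
    have h1 := conj_refl (pQ F t) (pB F t) (pQs F t) (pQp F t) hhO hx0
    have h2 : prefl F t hhx = h * prefl F t hx0 * h⁻¹ := h1.symm
    rw [h2]
    have h3 : h⁻¹ * g * h ∈ M := M.mul_mem (M.mul_mem (M.inv_mem hhM) hg) hhM
    have h4 := hn hx0 _ h3
    have h5 : h * prefl F t hx0 * h⁻¹ * g * (h * prefl F t hx0 * h⁻¹) =
        h * (prefl F t hx0 * (h⁻¹ * g * h) * prefl F t hx0) * h⁻¹ := by group
    rw [h5]
    exact M.mul_mem (M.mul_mem hhM h4) (M.inv_mem hhM)
  · intro c hc hcx g hg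
    have hx0 : pQ F t x ≠ 0 := by
      intro h0
      apply hcx
      rw [pQs, h0, mul_zero]
    rw [prefl_smul hx0 hc hcx]
    exact hn hx0 g hg

end Cfsg.Agent.Lib.Helper38_HP5_NRMORB_82
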