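import Mathlib
import Cfsg.Agent.Lib.Helper83_HP2Defs

set_option autoImplicit false
set_option linter.unusedSectionVars false
set_option linter.unusedVariables false

/-!
helper65 — package HP2-ROTB of helper83's HP2 market (twin of Q2-ROTB): the rotation of one
coordinate by `c ^ 2` is a commutator of isometries.  Reusable: `rotL` (rotation of one
coordinate), `swpL` (swap of one coordinate), `rotL_mem_oG`, `swpL_mem_oG`.
-/

namespace Cfsg.Agent.Lib.Helper65_HP2_ROTB

open Module Cfsg.Agent.Lib.Helper94_Symp Cfsg.Agent.Lib.Helper94_OrthSmall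
  Cfsg.Agent.Lib.Helper94_OrthSiegel Cfsg.Agent.Lib.Helper94_OrthNondeg
  Cfsg.Agent.Lib.Helper29_ODDefs Cfsg.Agent.Lib.Helper94_Q2Defs Cfsg.Agent.Lib.Helper83_HP2Defs

variable {F : Type*} [Field F] [Finite F] {t : ℕ} {S M L : Subgroup (PV F t ≃ₗ[F] PV F t)}

/-- the rotation `(α, β) ↦ (c α, c⁻¹ β)` of the coordinate `l` -/
def rotL (l : Fin t) (c : F) (hc : c ≠ 0) : PV F t ≃ₗ[F] PV F t where
  toFun x := fun j => if j = l then rotAct c (x j) else x j
  map_add' x y := by
    funext j
    by_cases hj : j = l
    · simp only [Pi.add_apply, if_pos hj, rotAct, Prod.fst_add, Prod.snd_add, mul_add, Prod.mk_add_mk]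
    · simp only [Pi.add_apply, if_neg hj]
  map_smul' a x := by
    funext j
    by_cases hj : j = l
    · simp only [Pi.smul_apply, if_pos hj, rotAct, Prod.smul_fst, Prod.smul_snd, smul_eq_mul,
        RingHom.id_apply, Prod.smul_mk]
      ext <;> simp <;> ring
    · simp only [Pi.smul_apply, if_neg hj, RingHom.id_apply]
  invFun x := fun j => if j = l then rotAct c⁻¹ (x j) else x j
  left_inv x := by
    funext j
    by_cases hj : j = l
    · simp only [if_pos hj, rotAct, inv_inv]
      ext
      · simp only [← mul_assoc, inv_mul_cancel₀ hc, one_mul]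
      · simp only [← mul_assoc, mul_inv_cancel₀ hc, one_mul]
    · simp only [if_neg hj]
  right_inv x := by
    funext j
    by_cases hj : j = l
    · simp only [if_pos hj, rotAct, inv_inv]
      ext
      · simp only [← mul_assoc, mul_inv_cancel₀ hc, one_mul]
      · simp only [← mul_assoc, inv_mul_cancel₀ hc, one_mul]
    · simp only [if_neg hj]

theorem rotL_apply (l : Fin t) (c : F) (hc : c ≠ 0) (x : PV F t) (j : Fin t) :
    rotL l c hc x j = if j = l then rotAct c (x j) else x j := rfl

theorem rotL_mem_oG (l : Fin t) (c : F) (hc : c ≠ 0) : rotL l c hc ∈ oG (pQ F t) := by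
  intro x
  rw [pQ_apply, pQ_apply]
  refine Finset.sum_congr rfl (fun j _ => ?_)
  rw [rotL_apply]
  by_cases hj : j = l
  · rw [if_pos hj]
    simp only [rotAct]
    field_simp
  · rw [if_neg hj]

/-- the swap `(α, β) ↦ (β, α)` of the coordinate `l` -/
def swpL (l : Fin t) : PV F t ≃ₗ[F] PV F t where
  toFun x := fun j => if j = l then ((x j).2, (x j).1) else x j
  map_add' x y := by
    funext j
    by_cases hj : j = l
    · simp only [Pi.add_apply, if_pos hj, Prod.fst_add, Prod.snd_add, Prod.mk_add_mk]
    · simp only [Pi.add_apply, if_neg hj]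
  map_smul' a x := by
    funext j
    by_cases hj : j = l
    · simp only [Pi.smul_apply, if_pos hj, Prod.smul_fst, Prod.smul_snd, RingHom.id_apply,
        Prod.smul_mk]
    · simp only [Pi.smul_apply, if_neg hj, RingHom.id_apply]
  invFun x := fun j => if j = l then ((x j).2, (x j).1) else x j
  left_inv x := by
    funext j
    by_cases hj : j = l
    · simp only [if_pos hj]
    · simp only [if_neg hj]
  right_inv x := by
    funext j
    by_cases hj : j = l
    · simp only [if_pos hj]
    · simp only [if_neg hj]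

theorem swpL_apply (l : Fin t) (x : PV F t) (j : Fin t) :
    (swpL l : PV F t ≃ₗ[F] PV F t) x j = if j = l then ((x j).2, (x j).1) else x j := rfl

theorem swpL_mem_oG (l : Fin t) : (swpL l : PV F t ≃ₗ[F] PV F t) ∈ oG (pQ F t) := by
  intro x
  rw [pQ_apply, pQ_apply]
  refine Finset.sum_congr rfl (fun j _ => ?_)
  rw [swpL_apply]
  by_cases hj : j = l
  · rw [if_pos hj]
    ring
  · rw [if_neg hj]

/-- **HP2-ROTB** [M] (twin Q2-ROTB) g = [r, k] with r = rotation of coordinate l by c and k = the swap (al, be) |-> (be, al) of coordinate l (in oG pQ):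
r k r⁻¹ k⁻¹ = rotation by c^2 on coordinate l. -/
theorem ROTB {l : Fin t} {c : F} (hc : c ≠ 0) (g : PV F t ≃ₗ[F] PV F t)
    (hg : ∀ x j, g x j = if j = l then rotAct (c ^ 2) (x j) else x j) :
    g ∈ pOm F t := by
  let r : PV F t ≃ₗ[F] PV F t := rotL l c hc
  let k : PV F t ≃ₗ[F] PV F t := swpL l
  have hr : r ∈ oG (pQ F t) := rotL_mem_oG l c hc
  have hk : k ∈ oG (pQ F t) := swpL_mem_oG l
  have key : g * k * r = r * k := by
    refine LinearEquiv.ext (fun x => funext (fun j => ?_))
    simp only [LinearEquiv.mul_apply]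
    rw [hg]
    show (if j = l then rotAct (c ^ 2) ((swpL l) ((rotL l c hc) x) j) else
      (swpL l) ((rotL l c hc) x) j) = (rotL l c hc) ((swpL l) x) j
    rw [rotL_apply, swpL_apply, swpL_apply, rotL_apply]
    by_cases hj : j = l
    · simp only [if_pos hj, rotAct]
      ext
      · simp only
        field_simp
      · simp only
        field_simp
    · simp only [if_neg hj]
  have hmem := Subgroup.commutator_mem_commutator hr hk
  rw [commutatorElement_def] at hmem
  have hgeq : g = r * k * r⁻¹ * k⁻¹ := by
    rw [← key]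
    group
  rw [hgeq]
  exact hmem

end Cfsg.Agent.Lib.Helper65_HP2_ROTB
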