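import Mathlib
import Cfsg.Agent.Lib.Helper83_HP2Defs

set_option autoImplicit false
set_option linter.unusedSectionVars false
set_option linter.unusedVariables false

/-!
HP2 market (architect helper83), package HP2-ROTFIX (helper77): a rotation `c` (`a ≠ 0`, `a² ≠ 1`) of
one hyperbolic coordinate plane which permutes a plane decomposition `g D` must have `P_l` among the
planes of `g D`.  Port of `Helper96_Q2_ROTFIX` to plus-type planes.
-/

namespace Cfsg.Agent.Lib.Helper77_HP2_ROTFIX

open Module Cfsg.Agent.Lib.Helper94_Symp Cfsg.Agent.Lib.Helper94_OrthSmall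
  Cfsg.Agent.Lib.Helper94_OrthSiegel Cfsg.Agent.Lib.Helper94_OrthNondeg
  Cfsg.Agent.Lib.Helper29_ODDefs Cfsg.Agent.Lib.Helper94_Q2Defs
  Cfsg.Agent.Lib.Helper83_HP2Defs

variable {F : Type*} [Field F] [Finite F] {t : ℕ} {S M L : Subgroup (PV F t ≃ₗ[F] PV F t)}

/-- the coordinate plane is a copy of `F × F` -/
def pDequiv (l : Fin t) : ↥(pD F t l) ≃ₗ[F] (F × F) where
  toFun x := (x : PV F t) l
  map_add' x y := rfl
  map_smul' c x := rfl
  invFun e := ⟨Pi.single l e, fun j hj => by rw [Pi.single_apply, if_neg hj]⟩
  left_inv x := by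
    apply Subtype.ext
    funext j
    by_cases hj : j = l
    · rw [hj]
      simp
    · simp [Pi.single_eq_of_ne hj, x.2 j hj]
  right_inv e := by simp

theorem finrank_pD (l : Fin t) : finrank F ↥(pD F t l) = 2 := by
  rw [(pDequiv (F := F) l).finrank_eq, Module.finrank_prod, Module.finrank_self]

/-- directness of the decomposition into coordinate planes -/
theorem dir_pD {j j' j'' : Fin t} (hjj' : j ≠ j') {u u' : PV F t} (hu : u ∈ pD F t j)
    (hu' : u' ∈ pD F t j') (hs : u + u' ∈ pD F t j'') :
    (j'' ≠ j → u = 0) ∧ (j'' ≠ j' → u' = 0) := by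
  constructor
  · intro h
    funext k
    by_cases hk : k = j
    · rw [hk]
      have h1 := hs j (Ne.symm h)
      rw [Pi.add_apply, hu' j hjj', add_zero] at h1
      exact h1
    · exact hu k hk
  · intro h
    funext k
    by_cases hk : k = j'
    · rw [hk]
      have h1 := hs j' (Ne.symm h)
      rw [Pi.add_apply, hu j' (Ne.symm hjj'), zero_add] at h1
      exact h1
    · exact hu' k hk

theorem pB_pe (u : PV F t) (j : Fin t) : pB F t u (pe j) = (u j).2 := by
  classical
  rw [pB_apply, Finset.sum_eq_single j]
  · simp [pe]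
  · intro k _ hk
    simp [pe, Pi.single_eq_of_ne hk]
  · intro h
    exact absurd (Finset.mem_univ j) h

theorem pB_pf (u : PV F t) (j : Fin t) : pB F t u (pf j) = (u j).1 := by
  classical
  rw [pB_apply, Finset.sum_eq_single j]
  · simp [pf]
  · intro k _ hk
    simp [pf, Pi.single_eq_of_ne hk]
  · intro h
    exact absurd (Finset.mem_univ j) h

theorem pe_mem (j : Fin t) : (pe j : PV F t) ∈ pD F t j :=
  fun k hk => Pi.single_eq_of_ne hk _

theorem pf_mem (j : Fin t) : (pf j : PV F t) ∈ pD F t j :=
  fun k hk => Pi.single_eq_of_ne hk _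

theorem pB_map {g : PV F t ≃ₗ[F] PV F t} (hg : g ∈ oG (pQ F t)) (x y : PV F t) :
    pB F t (g x) (g y) = pB F t x y := by
  have h1 := pQp F t (g x) (g y)
  have h2 := pQp F t x y
  rw [← map_add, mem_oG.mp hg, mem_oG.mp hg, mem_oG.mp hg] at h1
  rw [h1] at h2
  exact (add_left_cancel h2)

theorem ROTFIX {l : Fin t} {a : F} (ha : a ≠ 0) (ha2 : a ^ 2 ≠ 1) (c : PV F t ≃ₗ[F] PV F t)
    (hc : ∀ x j, c x j = if j = l then rotAct a (x j) else x j)
    (g : PV F t ≃ₗ[F] PV F t) (hg : g ∈ oG (pQ F t))
    (hperm : ∀ j, ∃ j', (((pD F t j).map (g : PV F t →ₗ[F] PV F t)).map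
      (c : PV F t →ₗ[F] PV F t)) = (pD F t j').map (g : PV F t →ₗ[F] PV F t)) :
    ∃ i, (pD F t i).map (g : PV F t →ₗ[F] PV F t) = pD F t l := by
  classical
  have ha1 : a ≠ 1 := by
    rintro rfl
    exact ha2 (one_pow 2)
  have hai1 : a⁻¹ ≠ 1 := by
    intro h
    exact ha1 (inv_eq_one.mp h)
  have haai : a - a⁻¹ ≠ 0 := by
    intro h
    apply ha2
    have h1 : a = a⁻¹ := sub_eq_zero.mp h
    rw [pow_two]
    nth_rewrite 2 [h1]
    exact mul_inv_cancel₀ ha
  have hcl : ∀ x, c x l = (a * (x l).1, a⁻¹ * (x l).2) := fun x => by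
    rw [hc, if_pos rfl]
    rfl
  have hck : ∀ x k, k ≠ l → c x k = x k := fun x k hk => by rw [hc, if_neg hk]
  have hdm : ∀ x, c x - x ∈ pD F t l := by
    intro x k hk
    rw [Pi.sub_apply, hck x k hk, sub_self]
  have hdl : ∀ x, (c x - x) l = ((a - 1) * (x l).1, (a⁻¹ - 1) * (x l).2) := by
    intro x
    rw [Pi.sub_apply, hcl]
    ext
    · simp only [Prod.fst_sub]
      ring
    · simp only [Prod.snd_sub]
      ring
  obtain ⟨Y, hY⟩ : ∃ Y : Fin t → Submodule F (PV F t),
      Y = fun j => (pD F t j).map (g : PV F t →ₗ[F] PV F t) := ⟨_, rfl⟩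
  have hYj : ∀ j, (pD F t j).map (g : PV F t →ₗ[F] PV F t) = Y j := fun j => by rw [hY]
  simp only [hYj] at hperm ⊢
  have hYfr : ∀ j, finrank F ↥(Y j) = 2 := fun j => by
    rw [← hYj]
    exact (LinearEquiv.finrank_map_eq g _).trans (finrank_pD j)
  have hcY : ∀ j j', (Y j).map (c : PV F t →ₗ[F] PV F t) = Y j' → ∀ x ∈ Y j, c x ∈ Y j' := by
    intro j j' h x hx
    rw [← h]
    exact Submodule.mem_map_of_mem hx
  have hdir : ∀ {j j' j'' : Fin t}, j ≠ j' → ∀ {y y' : PV F t}, y ∈ Y j → y' ∈ Y j' →
      y + y' ∈ Y j'' → (j'' ≠ j → y = 0) ∧ (j'' ≠ j' → y' = 0) := by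
    intro j j' j'' hjj' y y' hy hy' hs
    rw [← hYj] at hy hy' hs
    obtain ⟨u, hu, rfl⟩ := Submodule.mem_map.mp hy
    obtain ⟨u', hu', rfl⟩ := Submodule.mem_map.mp hy'
    obtain ⟨u'', hu'', he⟩ := Submodule.mem_map.mp hs
    have h0 : u'' = u + u' := by
      apply g.injective
      rw [map_add]
      exact he
    rw [h0] at hu''
    obtain ⟨h1, h2⟩ := dir_pD hjj' hu hu' hu''
    exact ⟨fun h => by rw [h1 h]; exact map_zero _, fun h => by rw [h2 h]; exact map_zero _⟩
  -- the planes `Y j` are nondegenerate
  have hnd : ∀ j, ∀ v ∈ Y j, (∀ y ∈ Y j, pB F t v y = 0) → v = 0 := by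
    intro j v hv hperp
    rw [← hYj] at hv
    obtain ⟨u, hu, rfl⟩ := Submodule.mem_map.mp hv
    have h1 : pB F t u (pe j) = 0 := by
      rw [← pB_map hg]
      apply hperp
      rw [← hYj]
      exact Submodule.mem_map_of_mem (pe_mem j)
    have h2 : pB F t u (pf j) = 0 := by
      rw [← pB_map hg]
      apply hperp
      rw [← hYj]
      exact Submodule.mem_map_of_mem (pf_mem j)
    rw [pB_pe] at h1
    rw [pB_pf] at h2
    have h3 : u = 0 := by
      funext k
      by_cases hk : k = j
      · rw [hk]
        exact Prod.ext h2 h1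
      · exact hu k hk
    rw [h3]
    exact map_zero _
  by_contra hcon
  push Not at hcon
  -- every `Y j` lies in the kernel of `c - 1`
  have hK : ∀ j, ∀ x ∈ Y j, x l = 0 := by
    intro j
    obtain ⟨j', hj'⟩ := hperm j
    by_cases hjj' : j' = j
    · rw [hjj'] at hj'
      intro x hx
      by_contra hxl
      -- elements of `Y j ∩ pD l`
      have hE : ∀ d ∈ Y j, d ∈ pD F t l → (d l).1 ≠ 0 → (pe l : PV F t) ∈ Y j := by
        intro d hdY hdD hd1
        have hcdY : c d ∈ Y j := hcY j j hj' d hdY
        have h1 : (pe l : PV F t) = ((a - a⁻¹) * (d l).1)⁻¹ • (c d - a⁻¹ • d) := by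
          funext k
          by_cases hk : k = l
          · rw [hk, Pi.smul_apply, Pi.sub_apply, Pi.smul_apply, hcl]
            ext
            · simp only [pe, Pi.single_eq_same, Prod.smul_fst, Prod.fst_sub, smul_eq_mul]
              field_simp
            · simp only [pe, Pi.single_eq_same, Prod.smul_snd, Prod.snd_sub, smul_eq_mul]
              ring
          · rw [Pi.smul_apply, Pi.sub_apply, Pi.smul_apply, hck d k hk, hdD k hk]
            simp [pe, Pi.single_eq_of_ne hk]
        rw [h1]
        exact Submodule.smul_mem _ _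
          (Submodule.sub_mem _ hcdY (Submodule.smul_mem _ _ hdY))
      have hF : ∀ d ∈ Y j, d ∈ pD F t l → (d l).2 ≠ 0 → (pf l : PV F t) ∈ Y j := by
        intro d hdY hdD hd2
        have hcdY : c d ∈ Y j := hcY j j hj' d hdY
        have h1 : (pf l : PV F t) = ((a⁻¹ - a) * (d l).2)⁻¹ • (c d - a • d) := by
          have haai' : a⁻¹ - a ≠ 0 := fun h => haai (by rw [← neg_sub, h, neg_zero])
          funext k
          by_cases hk : k = l
          · rw [hk, Pi.smul_apply, Pi.sub_apply, Pi.smul_apply, hcl]
            ext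
            · simp only [pf, Pi.single_eq_same, Prod.smul_fst, Prod.fst_sub, smul_eq_mul]
              ring
            · simp only [pf, Pi.single_eq_same, Prod.smul_snd, Prod.snd_sub, smul_eq_mul]
              field_simp
          · rw [Pi.smul_apply, Pi.sub_apply, Pi.smul_apply, hck d k hk, hdD k hk]
            simp [pf, Pi.single_eq_of_ne hk]
        rw [h1]
        exact Submodule.smul_mem _ _
          (Submodule.sub_mem _ hcdY (Submodule.smul_mem _ _ hdY))
      have hdY : ∀ y ∈ Y j, c y - y ∈ Y j := fun y hy =>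
        Submodule.sub_mem _ (hcY j j hj' y hy) hy
      have hnotboth : ¬ ((pe l : PV F t) ∈ Y j ∧ (pf l : PV F t) ∈ Y j) := by
        rintro ⟨hpe, hpf⟩
        apply hcon j
        have hle : pD F t l ≤ Y j := by
          intro y hy
          have hy' : y = (y l).1 • (pe l : PV F t) + (y l).2 • (pf l : PV F t) := by
            funext k
            by_cases hk : k = l
            · rw [hk, Pi.add_apply, Pi.smul_apply, Pi.smul_apply]
              ext
              · simp [pe, pf]
              · simp [pe, pf]
            · rw [hy k hk, Pi.add_apply, Pi.smul_apply, Pi.smul_apply]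
              simp [pe, pf, Pi.single_eq_of_ne hk]
          rw [hy']
          exact Submodule.add_mem _ (Submodule.smul_mem _ _ hpe) (Submodule.smul_mem _ _ hpf)
        exact (Submodule.eq_of_le_of_finrank_eq hle (by rw [finrank_pD, hYfr])).symm
      have hx12 : (x l).1 ≠ 0 ∨ (x l).2 ≠ 0 := by
        by_contra h
        push Not at h
        exact hxl (Prod.ext h.1 h.2)
      by_cases hpe : (pe l : PV F t) ∈ Y j
      · -- `pf l ∉ Y j`, so all second coordinates vanish: `pe l ⟂ Y j`
        have hpf : (pf l : PV F t) ∉ Y j := fun h => hnotboth ⟨hpe, h⟩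
        have h2 : ∀ y ∈ Y j, (y l).2 = 0 := by
          intro y hy
          by_contra hy2
          apply hpf
          apply hF (c y - y) (hdY y hy) (hdm y)
          rw [hdl]
          exact mul_ne_zero (sub_ne_zero.mpr hai1) hy2
        have h3 : (pe l : PV F t) = 0 := by
          apply hnd j _ hpe
          intro y hy
          have h4 := pB_pe y l
          rw [h2 y hy] at h4
          have h5 : pB F t (pe l) y = pB F t y (pe l) := by
            rw [pB_apply, pB_apply]
            exact Finset.sum_congr rfl (fun k _ => by ring)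
          rw [h5, h4]
        have h4 := congrFun h3 l
        simp [pe] at h4
      · -- `pe l ∉ Y j`, so all first coordinates vanish
        have h1 : ∀ y ∈ Y j, (y l).1 = 0 := by
          intro y hy
          by_contra hy1
          apply hpe
          apply hE (c y - y) (hdY y hy) (hdm y)
          rw [hdl]
          exact mul_ne_zero (sub_ne_zero.mpr ha1) hy1
        have hx2 : (x l).2 ≠ 0 := by
          rcases hx12 with h | h
          · exact absurd (h1 x hx) h
          · exact h
        have hpf : (pf l : PV F t) ∈ Y j := by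
          apply hF (c x - x) (hdY x hx) (hdm x)
          rw [hdl]
          exact mul_ne_zero (sub_ne_zero.mpr hai1) hx2
        have h3 : (pf l : PV F t) = 0 := by
          apply hnd j _ hpf
          intro y hy
          have h4 := pB_pf y l
          rw [h1 y hy] at h4
          have h5 : pB F t (pf l) y = pB F t y (pf l) := by
            rw [pB_apply, pB_apply]
            exact Finset.sum_congr rfl (fun k _ => by ring)
          rw [h5, h4]
        have h4 := congrFun h3 l
        simp [pf] at h4
    · exfalso
      have hjj'' : j ≠ j' := fun h => hjj' h.symm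
      have hinj0 : ∀ x' ∈ Y j, c x' = x' → x' = 0 := by
        intro x' hx' hfix
        have h1 : c x' ∈ Y j' := hcY j j' hj' x' hx'
        rw [hfix] at h1
        have h2 : x' + 0 ∈ Y j' := by
          rw [add_zero]
          exact h1
        exact (hdir hjj'' hx' (Submodule.zero_mem (Y j')) h2).1 hjj'
      let φ : ↥(Y j) →ₗ[F] ↥(pD F t l) :=
        LinearMap.codRestrict (pD F t l)
          (((c : PV F t →ₗ[F] PV F t) - LinearMap.id) ∘ₗ (Y j).subtype) (fun x' => hdm x'.1)
      have hφ : ∀ x' : ↥(Y j), ((φ x' : ↥(pD F t l)) : PV F t) = c x'.1 - x'.1 := fun x' => rfl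
      have hφinj : Function.Injective φ := by
        rw [injective_iff_map_eq_zero]
        intro x' hx'
        have h1 : c x'.1 - x'.1 = 0 := by
          rw [← hφ, hx']
          rfl
        exact Subtype.ext (hinj0 x'.1 x'.2 (sub_eq_zero.mp h1))
      have hφsurj : Function.Surjective φ :=
        (LinearMap.injective_iff_surjective_of_finrank_eq_finrank
          (by rw [hYfr, finrank_pD])).mp hφinj
      obtain ⟨x, hx, hx0⟩ : ∃ x ∈ Y j, x ≠ 0 := by
        refine ⟨g (pe j), ?_, ?_⟩
        · rw [← hYj]
          exact Submodule.mem_map_of_mem (pe_mem j)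
        · intro h0
          have h1 : (pe j : PV F t) = 0 := by
            apply g.injective
            rw [h0, map_zero]
          have h2 := congrFun h1 j
          simp [pe] at h2
      obtain ⟨d, hd⟩ : ∃ d : PV F t, d = c x - x := ⟨_, rfl⟩
      have hd0 : d ≠ 0 := by
        intro h
        rw [hd] at h
        exact hx0 (hinj0 x hx (sub_eq_zero.mp h))
      have hdk : ∀ k, k ≠ l → d k = 0 := by
        intro k hk
        rw [hd]
        exact hdm x k hk
      have hcdm : c d ∈ pD F t l := by
        intro k hk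
        rw [hck d k hk]
        exact hdk k hk
      obtain ⟨x2', hx2'⟩ := hφsurj ⟨c d, hcdm⟩
      obtain ⟨x2, hx2def⟩ : ∃ x2 : PV F t, x2 = x2'.1 := ⟨_, rfl⟩
      have hx2 : c x2 - x2 = c d := by
        rw [hx2def, ← hφ, hx2']
      have hx2Y : x2 ∈ Y j := by
        rw [hx2def]
        exact x2'.2
      have hcc : c (c x) = -x2 + c (x + x2) := by
        have e2 : c (c x) = c x + c d := by
          rw [hd, map_sub]
          abel
        rw [e2, ← hx2, map_add]
        abel
      obtain ⟨j'', hj''⟩ := hperm j'
      have hccY : c (c x) ∈ Y j'' := hcY j' j'' hj'' (c x) (hcY j j' hj' x hx)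
      rw [hcc] at hccY
      have hnegx2 : -x2 ∈ Y j := Submodule.neg_mem _ hx2Y
      have hcxx2 : c (x + x2) ∈ Y j' := hcY j j' hj' _ (Submodule.add_mem _ hx hx2Y)
      obtain ⟨h1, h2⟩ := hdir hjj'' hnegx2 hcxx2 hccY
      have hdl0 : d l ≠ 0 := by
        intro h0
        apply hd0
        funext k
        by_cases hk : k = l
        · rw [hk]
          exact h0
        · exact hdk k hk
      by_cases hj''j : j'' = j
      · have h3 := h2 (by rw [hj''j]; exact hjj'')
        have h4 : x + x2 = 0 := by
          apply c.injective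
          rw [h3, map_zero]
        have h5 : c d = -d := by
          have h6 : x2 = -x := eq_neg_of_add_eq_zero_right h4
          rw [← hx2, h6, map_neg, hd]
          abel
        have h6 := congrFun h5 l
        rw [hcl, Pi.neg_apply] at h6
        have h61 : a * (d l).1 = -(d l).1 := congrArg Prod.fst h6
        have h62 : a⁻¹ * (d l).2 = -(d l).2 := congrArg Prod.snd h6
        have h7 : a = -1 := by
          have hd12 : (d l).1 ≠ 0 ∨ (d l).2 ≠ 0 := by
            by_contra h
            push Not at h
            exact hdl0 (Prod.ext h.1 h.2)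
          rcases hd12 with h | h
          · have h8 : (a + 1) * (d l).1 = 0 := by
              rw [add_mul, one_mul, h61, neg_add_cancel]
            rcases mul_eq_zero.mp h8 with h9 | h9
            · exact eq_neg_of_add_eq_zero_left h9
            · exact absurd h9 h
          · have h8 : (a⁻¹ + 1) * (d l).2 = 0 := by
              rw [add_mul, one_mul, h62, neg_add_cancel]
            rcases mul_eq_zero.mp h8 with h9 | h9
            · have h10 : a⁻¹ = -1 := eq_neg_of_add_eq_zero_left h9
              have h11 : a = (-1 : F)⁻¹ := by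
                rw [← h10, inv_inv]
              rw [h11]
              norm_num
            · exact absurd h9 h
        apply ha2
        rw [h7]
        norm_num
      · have h3 := h1 hj''j
        have hx20 : x2 = 0 := neg_eq_zero.mp h3
        rw [hx20, map_zero, sub_zero] at hx2
        apply hd0
        apply c.injective
        rw [← hx2, map_zero]
  -- but the planes `Y j` span `V`
  obtain ⟨u, hu⟩ : ∃ u : PV F t, g u = pe l := ⟨g.symm _, g.apply_symm_apply _⟩
  have hsum : u = ∑ j, Pi.single j (u j) := by
    funext k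
    rw [Finset.sum_apply, Finset.sum_eq_single k]
    · rw [Pi.single_eq_same]
    · intro j _ hjk
      exact Pi.single_eq_of_ne (Ne.symm hjk) _
    · intro h
      exact absurd (Finset.mem_univ k) h
  have h1 : (g u) l = 0 := by
    rw [hsum, map_sum, Finset.sum_apply]
    refine Finset.sum_eq_zero (fun j _ => ?_)
    apply hK j
    rw [← hYj]
    exact Submodule.mem_map_of_mem (fun k hk => Pi.single_eq_of_ne hk _)
  rw [hu] at h1
  simp [pe] at h1

end Cfsg.Agent.Lib.Helper77_HP2_ROTFIX
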