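import Mathlib
import Cfsg.Agent.Lib.Helper83_HP2Defs
import Cfsg.Agent.Lib.Helper38_HP5Defs
import Cfsg.Agent.Lib.Helper10_HP2_Z4
import Cfsg.Agent.Lib.Helper61_HP2_ROT
import Cfsg.Agent.Lib.Helper65_HP2_ROTB
import Cfsg.Agent.Lib.Helper77_HP2_ROTFIX
import Cfsg.Agent.Lib.Helper38_HP5_C0_55

set_option autoImplicit false
set_option linter.unusedSectionVars false
set_option linter.unusedVariables false

/-!
# HP2 package FS (architect helper83): under (C∗) for the nonsingular block vectors with norm in `s`,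
an element of `M` outside `S` maps such a block vector to a vector all of whose coordinates are
nonzero.  `FS_of` takes the statements of HP2-Z4, ROT, ROTB, ROTFIX, C0 as hypotheses.  (helper55)
-/

/-! PORT by helper38 of `Cfsg.Agent.Lib.Helper55_HP2_FS` (helper83's HP2 market) to the contexts
`PCtx5` / `PCtxR5` (`5 ≤ t` instead of `7 ≤ t`); generated mechanically, proofs unchanged. -/

namespace Cfsg.Agent.Lib.Helper38_HP5_FS_55

open Cfsg.Agent.Lib.Helper38_HP5Defs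

open Module Cfsg.Agent.Lib.Helper94_Symp Cfsg.Agent.Lib.Helper94_OrthSmall
  Cfsg.Agent.Lib.Helper94_OrthSiegel Cfsg.Agent.Lib.Helper94_OrthNondeg
  Cfsg.Agent.Lib.Helper29_ODDefs Cfsg.Agent.Lib.Helper94_Q2Defs Cfsg.Agent.Lib.Helper83_HP2Defs

variable {F : Type*} [Field F] [Finite F] {t : ℕ} {S M L : Subgroup (PV F t ≃ₗ[F] PV F t)}

theorem h55_rotAct_one (ζ : F × F) : rotAct (1 : F) ζ = ζ := by
  unfold rotAct
  refine Prod.ext ?_ ?_
  · show 1 * ζ.1 = ζ.1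
    rw [one_mul]
  · show (1 : F)⁻¹ * ζ.2 = ζ.2
    rw [inv_one, one_mul]

theorem h55_rotAct_zero (c : F) : rotAct c (0 : F × F) = 0 := by
  unfold rotAct
  refine Prod.ext ?_ ?_
  · show c * (0 : F × F).1 = (0 : F × F).1
    simp
  · show c⁻¹ * (0 : F × F).2 = (0 : F × F).2
    simp

/-- **HP2-FS**, with the statements of HP2-Z4, ROT, ROTB, ROTFIX, C0 (specialised) as
hypotheses. -/
theorem FS_of
    (hZ4 : ∃ a : F, a ≠ 0 ∧ a ^ 4 ≠ 1)
    (hROT : ∀ w : Fin t → F, (∀ l, w l ≠ 0) →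
      ∃ g : PV F t ≃ₗ[F] PV F t, g ∈ oG (pQ F t) ∧ g ∈ S ∧ ∀ x l, g x l = rotAct (w l) (x l))
    (hROTB : ∀ {l : Fin t} {c : F}, c ≠ 0 → ∀ g : PV F t ≃ₗ[F] PV F t,
      (∀ x j, g x j = if j = l then rotAct (c ^ 2) (x j) else x j) → g ∈ pOm F t)
    (hROTFIX : ∀ {l : Fin t} {a : F}, a ≠ 0 → a ^ 2 ≠ 1 → ∀ c : PV F t ≃ₗ[F] PV F t,
      (∀ x j, c x j = if j = l then rotAct a (x j) else x j) →
      ∀ g : PV F t ≃ₗ[F] PV F t, g ∈ oG (pQ F t) →
      (∀ j, ∃ j', (((pD F t j).map (g : PV F t →ₗ[F] PV F t)).map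
        (c : PV F t →ₗ[F] PV F t)) = (pD F t j').map (g : PV F t →ₗ[F] PV F t)) →
      ∃ i, (pD F t i).map (g : PV F t →ₗ[F] PV F t) = pD F t l)
    (hC0 : ∀ g ∈ M, ∀ i j, (pD F t i).map (g : PV F t →ₗ[F] PV F t) = pD F t j → g ∈ S)
    (hC : PCtx5 F t S M) (s : Set F)
    (hCs : ∀ x, IsPBl x → pQ F t x ∈ s → PCStar S M x) :
    ∀ g ∈ M, g ∉ S → ∀ x, IsPBl x → pQ F t x ∈ s → ∀ l, g x l ≠ 0 := by
  classical
  intro g hgM hgS x hx hxs l hgl
  apply hgS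
  obtain ⟨a, ha0, ha4⟩ := hZ4
  -- the rotation `c = c_l(a²)`
  have hw0 : ∀ j, (fun j => if j = l then a ^ 2 else 1 : Fin t → F) j ≠ 0 := by
    intro j
    by_cases hj : j = l
    · simp only [hj, if_true]
      exact pow_ne_zero 2 ha0
    · simp only [hj, if_false]
      exact one_ne_zero
  obtain ⟨c, hcO, hcS, hc⟩ := hROT _ hw0
  have hc' : ∀ x j, c x j = if j = l then rotAct (a ^ 2) (x j) else x j := by
    intro x j
    rw [hc x j]
    by_cases hj : j = l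
    · simp only [hj, if_true]
    · simp only [hj, if_false]
      exact h55_rotAct_one _
  have hcOm : c ∈ pOm F t := hROTB ha0 c hc'
  have hcM : c ∈ M := hC.hmin.le ⟨hcS, hcOm⟩
  -- `c` fixes `g x`
  have hfix : c (g x) = g x := by
    funext j
    rw [hc']
    by_cases hj : j = l
    · rw [if_pos hj, hj, hgl]
      exact h55_rotAct_zero _
    · rw [if_neg hj]
  -- `g⁻¹ c g ∈ M` fixes `x`, hence lies in `S`
  have hconjM : g⁻¹ * c * g ∈ M := M.mul_mem (M.mul_mem (M.inv_mem hgM) hcM) hgM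
  have hconjx : (g⁻¹ * c * g) x = (1 : F) • x := by
    rw [LinearEquiv.mul_apply, LinearEquiv.mul_apply, hfix, one_smul]
    exact inv_apply_apply' g x
  have hconjS : g⁻¹ * c * g ∈ S := hCs x hx hxs _ hconjM ⟨1, hconjx⟩
  obtain ⟨σ, hσ⟩ := (hC.hS _).mp hconjS
  have hgO : g ∈ oG (pQ F t) := (Subgroup.commutator_le_self _) (hC.hMO hgM)
  have hperm : ∀ j, ∃ j', (((pD F t j).map (g : PV F t →ₗ[F] PV F t)).map
      (c : PV F t →ₗ[F] PV F t)) = (pD F t j').map (g : PV F t →ₗ[F] PV F t) := by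
    intro j
    refine ⟨σ j, ?_⟩
    rw [← hσ j]
    ext y
    simp only [Submodule.mem_map]
    constructor
    · rintro ⟨y₁, ⟨y₀, hy₀, rfl⟩, rfl⟩
      refine ⟨(g⁻¹ * c * g) y₀, ⟨y₀, hy₀, rfl⟩, ?_⟩
      change g ((g⁻¹ * c * g) y₀) = c (g y₀)
      rw [LinearEquiv.mul_apply, LinearEquiv.mul_apply]
      exact apply_inv_apply' g _
    · rintro ⟨y₁, ⟨y₀, hy₀, rfl⟩, rfl⟩
      refine ⟨g y₀, ⟨y₀, hy₀, rfl⟩, ?_⟩
      change c (g y₀) = g ((g⁻¹ * c * g) y₀)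
      rw [LinearEquiv.mul_apply, LinearEquiv.mul_apply]
      exact (apply_inv_apply' g _).symm
  have ha22 : (a ^ 2) ^ 2 ≠ 1 := by
    rw [← pow_mul]
    exact ha4
  obtain ⟨i, hi⟩ := hROTFIX (pow_ne_zero 2 ha0) ha22 c hc' g hgO hperm
  exact hC0 g hgM i l hi

/-- **HP2-FS** [M] (twin Q2-FS). -/
theorem FS (hC : PCtx5 F t S M) (s : Set F) (hs : ∃ c ∈ s, c ≠ 0)
    (hCs : ∀ x, IsPBl x → pQ F t x ∈ s → PCStar S M x) :
    ∀ g ∈ M, g ∉ S → ∀ x, IsPBl x → pQ F t x ∈ s → ∀ l, g x l ≠ 0 :=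
  FS_of (Cfsg.Agent.Lib.Helper10_HP2_Z4.Z4 hC.hq)
    (fun w hw => Cfsg.Agent.Lib.Helper61_HP2_ROT.ROT S hC.hS w hw)
    (fun hc g hg => Cfsg.Agent.Lib.Helper65_HP2_ROTB.ROTB hc g hg)
    (fun ha ha2 c hc g hg hperm =>
      Cfsg.Agent.Lib.Helper77_HP2_ROTFIX.ROTFIX ha ha2 c hc g hg hperm)
    (Cfsg.Agent.Lib.Helper38_HP5_C0_55.C0 hC s hs hCs) hC s hCs

end Cfsg.Agent.Lib.Helper38_HP5_FS_55
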