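import Mathlib
import Cfsg.Agent.Lib.Helper83_HP2Defs
import Cfsg.Agent.Lib.Helper38_HP5Defs
import Cfsg.Agent.Lib.Helper78_HP2_BLREFL

/-!
# HP2 market (architect helper83), package HP2-LGRP (helper10; port of `Helper42_Q2_LGRPaux`)

`LGRP_of`: the group `L = M ⊔ R`, `R` the group generated by the block reflections, with the
statement of `BLREFL` as a hypothesis.
-/

set_option autoImplicit false
set_option linter.unusedSectionVars false
set_option linter.unusedVariables false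

/-! PORT by helper38 of `Cfsg.Agent.Lib.Helper10_HP2_LGRP` (helper83's HP2 market) to the contexts
`PCtx5` / `PCtxR5` (`5 ≤ t` instead of `7 ≤ t`); generated mechanically, proofs unchanged. -/

namespace Cfsg.Agent.Lib.Helper38_HP5_LGRP_10

open Cfsg.Agent.Lib.Helper38_HP5Defs

open Module Cfsg.Agent.Lib.Helper94_Symp Cfsg.Agent.Lib.Helper94_OrthSmall
  Cfsg.Agent.Lib.Helper94_OrthSiegel Cfsg.Agent.Lib.Helper94_OrthNondeg
  Cfsg.Agent.Lib.Helper29_ODDefs Cfsg.Agent.Lib.Helper94_Q2Defs Cfsg.Agent.Lib.Helper83_HP2Defs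
open scoped Pointwise

variable {F : Type*} [Field F] [Finite F] {t : ℕ} {S M L : Subgroup (PV F t ≃ₗ[F] PV F t)}

/-- the reflection is an involution -/
theorem prefl_mul_self {x : PV F t} (hx : pQ F t x ≠ 0) :
    prefl F t hx * prefl F t hx = 1 := by
  have h := refl_inv (pQ F t) (pB F t) (pQs F t) (pQp F t) hx
  calc prefl F t hx * prefl F t hx = (prefl F t hx)⁻¹ * prefl F t hx := by rw [h]
    _ = 1 := inv_mul_cancel _

/-- The group generated by `M` and the block reflections, from `BLREFL`. -/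
theorem LGRP_of (hC : PCtx5 F t S M) (hn : ∀ x, IsPBl x → PNrm M x)
    (hBL : ∀ x : PV F t, IsPBl x → ∀ hx' : pQ F t x ≠ 0, prefl F t hx' ∈ S) :
    ∃ L : Subgroup (PV F t ≃ₗ[F] PV F t), M ≤ L ∧ L ≤ oG (pQ F t) ∧
      (∀ x, IsPBl x → ∀ hx : pQ F t x ≠ 0, prefl F t hx ∈ L) ∧ L ⊓ pOm F t ≤ M := by
  set gens : Set (PV F t ≃ₗ[F] PV F t) :=
    {g | ∃ x : PV F t, IsPBl x ∧ ∃ hx : pQ F t x ≠ 0, g = prefl F t hx} with hgens
  set R : Subgroup (PV F t ≃ₗ[F] PV F t) := Subgroup.closure gens with hR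
  have hMO : M ≤ oG (pQ F t) := hC.hMO.trans (Subgroup.commutator_le_self _)
  have hRS : R ≤ S := by
    rw [hR, Subgroup.closure_le]
    rintro g ⟨x, hx, hx', rfl⟩
    exact hBL x hx hx'
  have hRO : R ≤ oG (pQ F t) := by
    rw [hR, Subgroup.closure_le]
    rintro g ⟨x, hx, hx', rfl⟩
    exact refl_mem (pQ F t) (pB F t) (pQs F t) (pQp F t) hx'
  have hRN : R ≤ Subgroup.normalizer (M : Set (PV F t ≃ₗ[F] PV F t)) := by
    rw [hR, Subgroup.closure_le]
    rintro g ⟨x, hx, hx', rfl⟩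
    set r := prefl F t hx' with hr
    have hrr : r * r = 1 := prefl_mul_self hx'
    have hrinv : r⁻¹ = r := refl_inv (pQ F t) (pB F t) (pQs F t) (pQp F t) hx'
    show r ∈ Subgroup.normalizer (M : Set (PV F t ≃ₗ[F] PV F t))
    rw [Subgroup.mem_normalizer_iff]
    intro m
    rw [hrinv]
    constructor
    · intro hm
      exact hn x hx hx' m hm
    · intro hm
      have h1 := hn x hx hx' _ hm
      have h2 : r * (r * m * r) * r = (r * r) * m * (r * r) := by group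
      rw [h2, hrr, one_mul, mul_one] at h1
      exact h1
  refine ⟨M ⊔ R, le_sup_left, sup_le hMO hRO, ?_, ?_⟩
  · intro x hx hx'
    exact (le_sup_right : R ≤ M ⊔ R) (Subgroup.subset_closure ⟨x, hx, hx', rfl⟩)
  · rintro g ⟨hgL, hgO⟩
    have hset := Subgroup.coe_mul_of_right_le_normalizer_left M R hRN
    have hg' : g ∈ (M : Set (PV F t ≃ₗ[F] PV F t)) *
        (R : Set (PV F t ≃ₗ[F] PV F t)) := by
      rw [← hset]
      exact hgL
    obtain ⟨m, hm, r, hr, rfl⟩ := hg'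
    have hm' : m ∈ M := hm
    have hr' : r ∈ R := hr
    have hrO : r ∈ pOm F t := by
      have h1 : m⁻¹ * (m * r) ∈ pOm F t :=
        mul_mem (inv_mem (hC.hMO hm')) hgO
      rwa [inv_mul_cancel_left] at h1
    have hrM : r ∈ M := hC.hmin.le ⟨hRS hr', hrO⟩
    exact mul_mem hm' hrM

/-- **HP2-LGRP** [M] (twin Q2-LGRP) -/
theorem LGRP (hC : PCtx5 F t S M) (hn : ∀ x, IsPBl x → PNrm M x) :
    ∃ L : Subgroup (PV F t ≃ₗ[F] PV F t), M ≤ L ∧ L ≤ oG (pQ F t) ∧
      (∀ x, IsPBl x → ∀ hx : pQ F t x ≠ 0, prefl F t hx ∈ L) ∧ L ⊓ pOm F t ≤ M :=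
  LGRP_of hC hn (fun x hx hx' => Cfsg.Agent.Lib.Helper78_HP2_BLREFL.BLREFL S hC.hS hx hx')

end Cfsg.Agent.Lib.Helper38_HP5_LGRP_10
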