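import Mathlib
import Cfsg.Agent.Lib.Helper83_HP2Defs
import Cfsg.Agent.Lib.Helper38_HP5Defs
import Cfsg.Agent.Lib.Helper38_HP5_R2aux_77
import Cfsg.Agent.Lib.Helper93_HP2_PERM
import Cfsg.Agent.Lib.Helper78_HP2_ROTREFL

set_option autoImplicit false
set_option linter.unusedSectionVars false
set_option linter.unusedVariables false

/-!
HP2 market (architect helper83), package **HP2-R2** (helper77): from a reflection vector of `L` with
two nonzero nonsingular coordinates one gets a reflection vector with three nonzero coordinates.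
-/

/-! PORT by helper38 of `Cfsg.Agent.Lib.Helper77_HP2_R2` (helper83's HP2 market) to the contexts
`PCtx5` / `PCtxR5` (`5 ≤ t` instead of `7 ≤ t`); generated mechanically, proofs unchanged. -/

namespace Cfsg.Agent.Lib.Helper38_HP5_R2_77

open Cfsg.Agent.Lib.Helper38_HP5Defs

open Module Cfsg.Agent.Lib.Helper94_Symp Cfsg.Agent.Lib.Helper94_OrthSmall
  Cfsg.Agent.Lib.Helper94_OrthSiegel Cfsg.Agent.Lib.Helper94_OrthNondeg
  Cfsg.Agent.Lib.Helper29_ODDefs Cfsg.Agent.Lib.Helper94_Q2Defs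
  Cfsg.Agent.Lib.Helper83_HP2Defs

variable {F : Type*} [Field F] [Finite F] {t : ℕ} {S M L : Subgroup (PV F t ≃ₗ[F] PV F t)}

/-- **HP2-R2** -/
theorem R2 (hC : PCtxR5 F t S L) {w : PV F t} (hw : PInRc L w) (h2 : 2 ≤ (PSupp w).card)
    (hns : ∀ j, w j ≠ 0 → ¬ Sing (w j)) : ∃ w', PInRc L w' ∧ 3 ≤ (PSupp w').card :=
  Cfsg.Agent.Lib.Helper38_HP5_R2aux_77.R2_of hC
    (fun π => Cfsg.Agent.Lib.Helper93_HP2_PERM.PERM S hC.hS π)
    (fun l _ hc => Cfsg.Agent.Lib.Helper78_HP2_ROTREFL.ROTREFL l hc) hw h2 hns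

end Cfsg.Agent.Lib.Helper38_HP5_R2_77
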