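import Mathlib
import Cfsg.Agent.Lib.Helper83_HP2Defs
import Cfsg.Agent.Lib.Helper38_HP5Defs
import Cfsg.Agent.Lib.Helper94_OrthVec
import Cfsg.Agent.Lib.Helper43_HP2_BASIC
import Cfsg.Agent.Lib.Helper10_HP2_ND

set_option autoImplicit false
set_option linter.unusedSectionVars false
set_option linter.unusedVariables false

/-!
HP2 market (helper83), package HP2-RPAIR: the full Siegel group at a singular vector `single j ζ`
of a plane gives all Siegel elements (reflect it to `single j (ζ.2, ζ.1)` and use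
`Helper94_OrthVec.all_of_pair`).  (helper43)
-/

/-! PORT by helper38 of `Cfsg.Agent.Lib.Helper43_HP2_RPAIR` (helper83's HP2 market) to the contexts
`PCtx5` / `PCtxR5` (`5 ≤ t` instead of `7 ≤ t`); generated mechanically, proofs unchanged. -/

namespace Cfsg.Agent.Lib.Helper38_HP5_RPAIR_43

open Cfsg.Agent.Lib.Helper38_HP5Defs

open Module Cfsg.Agent.Lib.Helper94_Symp Cfsg.Agent.Lib.Helper94_OrthSmall
  Cfsg.Agent.Lib.Helper94_OrthSiegel Cfsg.Agent.Lib.Helper94_OrthNondeg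
  Cfsg.Agent.Lib.Helper29_ODDefs Cfsg.Agent.Lib.Helper94_Q2Defs Cfsg.Agent.Lib.Helper83_HP2Defs

variable {F : Type*} [Field F] [Finite F] {t : ℕ} {S M L : Subgroup (PV F t ≃ₗ[F] PV F t)}

/-- the reflection in `single j (1, -1)` swaps the two coordinates of `single j ζ` -/
theorem refl_swap (j : Fin t) (ζ : F × F)
    (hx0 : pQ F t (Pi.single j ((1 : F), (-1 : F)) : PV F t) ≠ 0) :
    prefl F t hx0 (Pi.single j ζ) = Pi.single j (ζ.2, ζ.1) := by
  have hxm : (Pi.single j ((1 : F), (-1 : F)) : PV F t) ∈ pD F t j :=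
    Cfsg.Agent.Lib.Helper43_HP2_BASIC.single_mem j _
  have hQx : pQ F t (Pi.single j ((1 : F), (-1 : F)) : PV F t) = -1 := by
    rw [Cfsg.Agent.Lib.Helper43_HP2_BASIC.pQ_of_mem hxm, Pi.single_eq_same]
    simp
  rw [refl_apply, Cfsg.Agent.Lib.Helper43_HP2_BASIC.pB_of_mem hxm, hQx, Pi.single_eq_same,
    Pi.single_eq_same]
  funext i
  by_cases hi : i = j
  · subst hi
    simp only [Pi.sub_apply, Pi.smul_apply, Pi.single_eq_same]
    ext
    · simp only [Prod.fst_sub, Prod.smul_fst, smul_eq_mul]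
      ring
    · simp only [Prod.snd_sub, Prod.smul_snd, smul_eq_mul]
      ring
  · simp only [Pi.sub_apply, Pi.smul_apply, Pi.single_eq_of_ne hi, smul_zero, sub_zero]

/-- **HP2-RPAIR** [M] r := the reflection of coordinate j with swpAct 1 (SWPREFL + hR: in L): r (single j ζ) = single j (ζ.2, ζ.1) =: u₂; conj_sieg: the full Siegel group at u₂ is in L;
pB (single j ζ) u₂ = ζ.1^2 + ζ.2^2 != 0 (exactly one of ζ.1, ζ.2 is zero); Helper94_OrthVec.all_of_pair with ND. -/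
theorem RPAIR (hC : PCtxR5 F t S L) {j : Fin t} {ζ : F × F} (hζ0 : ζ ≠ 0) (hζ : Sing ζ)
    (h : ∀ z, pB F t (Pi.single j ζ) z = 0 → sieg (pQ F t) (pB F t) (Pi.single j ζ) z ∈ L) :
    ∀ u z, pQ F t u = 0 → pB F t u z = 0 → sieg (pQ F t) (pB F t) u z ∈ L := by
  have hxm : (Pi.single j ((1 : F), (-1 : F)) : PV F t) ∈ pD F t j :=
    Cfsg.Agent.Lib.Helper43_HP2_BASIC.single_mem j _
  have hQx : pQ F t (Pi.single j ((1 : F), (-1 : F)) : PV F t) = -1 := by
    rw [Cfsg.Agent.Lib.Helper43_HP2_BASIC.pQ_of_mem hxm, Pi.single_eq_same]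
    simp
  have hx0 : pQ F t (Pi.single j ((1 : F), (-1 : F)) : PV F t) ≠ 0 := by
    rw [hQx]
    simp
  have hrL : prefl F t hx0 ∈ L := hC.hR _ ⟨hx0, j, hxm⟩ hx0
  have hrO : prefl F t hx0 ∈ oG (pQ F t) := hC.hLO hrL
  have hru : prefl F t hx0 (Pi.single j ζ) = Pi.single j (ζ.2, ζ.1) := refl_swap j ζ hx0
  have hQ1 : pQ F t (Pi.single j ζ : PV F t) = 0 := by
    rw [Cfsg.Agent.Lib.Helper43_HP2_BASIC.pQ_of_mem
      (Cfsg.Agent.Lib.Helper43_HP2_BASIC.single_mem j ζ), Pi.single_eq_same]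
    exact hζ
  have hQ2 : pQ F t (Pi.single j (ζ.2, ζ.1) : PV F t) = 0 := by
    rw [Cfsg.Agent.Lib.Helper43_HP2_BASIC.pQ_of_mem
      (Cfsg.Agent.Lib.Helper43_HP2_BASIC.single_mem j _), Pi.single_eq_same]
    show ζ.2 * ζ.1 = 0
    rw [mul_comm]
    exact hζ
  have hfull2 : ∀ z, pB F t (Pi.single j (ζ.2, ζ.1)) z = 0 →
      sieg (pQ F t) (pB F t) (Pi.single j (ζ.2, ζ.1)) z ∈ L := by
    intro z hz
    have h1 : pB F t (Pi.single j ζ) ((prefl F t hx0)⁻¹ z) = 0 := by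
      rw [← oG_B (pQ F t) (pB F t) (pQp F t) hrO, hru, apply_inv_apply']
      exact hz
    have h2 := conj_sieg (pQ F t) (pB F t) (pQs F t) (pQp F t) hrO hQ1 h1
    rw [hru, apply_inv_apply'] at h2
    rw [← h2]
    exact L.mul_mem (L.mul_mem hrL (h _ h1)) (L.inv_mem hrL)
  have h12 : pB F t (Pi.single j ζ) (Pi.single j (ζ.2, ζ.1)) ≠ 0 := by
    rw [Cfsg.Agent.Lib.Helper43_HP2_BASIC.pB_of_mem
      (Cfsg.Agent.Lib.Helper43_HP2_BASIC.single_mem j _), Pi.single_eq_same, Pi.single_eq_same]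
    show ζ.1 * ζ.1 + ζ.2 * ζ.2 ≠ 0
    have hs : ζ.1 * ζ.2 = 0 := hζ
    rcases mul_eq_zero.1 hs with h0 | h0
    · have h2 : ζ.2 ≠ 0 := by
        intro h2
        exact hζ0 (Prod.ext h0 h2)
      rw [h0, mul_zero, zero_add]
      exact mul_ne_zero h2 h2
    · have h1 : ζ.1 ≠ 0 := by
        intro h1
        exact hζ0 (Prod.ext h1 h0)
      rw [h0, mul_zero, add_zero]
      exact mul_ne_zero h1 h1
  exact Cfsg.Agent.Lib.Helper94_OrthVec.all_of_pair (pQ F t) (pB F t) (pQs F t) (pQp F t)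
    Cfsg.Agent.Lib.Helper10_HP2_ND.ND L hC.hLO ⟨hQ1, h⟩ ⟨hQ2, hfull2⟩ h12

end Cfsg.Agent.Lib.Helper38_HP5_RPAIR_43
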