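import Mathlib
import Cfsg.Agent.Lib.Helper83_HP2Defs
import Cfsg.Agent.Lib.Helper38_HP5Defs
import Cfsg.Agent.Lib.Helper11_HP2_SPANW
import Cfsg.Agent.Lib.Helper70_HP2_SWPREFL
import Cfsg.Agent.Lib.Helper78_HP2_ROTREFL
import Cfsg.Agent.Lib.Helper93_HP2_PERM
import Cfsg.Agent.Lib.Helper70_Q2_TAN
import Cfsg.Agent.Lib.Helper38_HP5_R1_2

set_option autoImplicit false
set_option linter.unusedSectionVars false
set_option linter.unusedVariables false
set_option linter.unusedSimpArgs false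

/-!
HP2 market (architect helper83), package HP2-SIEGA: a reflection vector `w ∈ Rc` with a SINGULAR nonzero
coordinate `w j` and another nonzero coordinate `w l` gives the full Siegel group at the singular block vector
`single j (w j)` inside `L`.
-/

/-! PORT by helper38 of `Cfsg.Agent.Lib.Helper2_HP2_SIEGA` (helper83's HP2 market) to the contexts
`PCtx5` / `PCtxR5` (`5 ≤ t` instead of `7 ≤ t`); generated mechanically, proofs unchanged. -/

namespace Cfsg.Agent.Lib.Helper38_HP5_SIEGA_2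

open Cfsg.Agent.Lib.Helper38_HP5Defs

open Module Cfsg.Agent.Lib.Helper94_Symp Cfsg.Agent.Lib.Helper94_OrthSmall
  Cfsg.Agent.Lib.Helper94_OrthSiegel Cfsg.Agent.Lib.Helper94_OrthNondeg
  Cfsg.Agent.Lib.Helper29_ODDefs Cfsg.Agent.Lib.Helper94_Q2Defs Cfsg.Agent.Lib.Helper83_HP2Defs
open Cfsg.Agent.Lib.Helper70_HP2_SWPREFL (pQ_single pB_single)
open Cfsg.Agent.Lib.Helper38_HP5_R1_2 (inRc_map exists_avoid3)

variable {F : Type*} [Field F] [Finite F] {t : ℕ} {S M L : Subgroup (PV F t ≃ₗ[F] PV F t)}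

lemma pB_single_left (j : Fin t) (ζ : F × F) (z : PV F t) :
    pB F t (Pi.single j ζ) z = ζ.1 * (z j).2 + ζ.2 * (z j).1 := by
  rw [B_symm (pQ F t) (pB F t) (pQp F t), pB_single]
  ring

/-- rotations of one coordinate lie in `L` -/
theorem exists_rot (hC : PCtxR5 F t S L) (l : Fin t) {c : F} (hc : c ≠ 0) :
    ∃ ξ ∈ L, ∀ v i, ξ v i = if i = l then rotAct c (v i) else v i := by
  obtain ⟨x, y, hx, hy, hx0, hy0, hact⟩ :=
    Cfsg.Agent.Lib.Helper78_HP2_ROTREFL.ROTREFL (F := F) (t := t) l hc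
  exact ⟨prefl F t hx0 * prefl F t hy0,
    L.mul_mem (hC.hR x ⟨hx0, l, hx⟩ hx0) (hC.hR y ⟨hy0, l, hy⟩ hy0), hact⟩

/-- reflections of one coordinate lie in `L` -/
theorem exists_swp (hC : PCtxR5 F t S L) (l : Fin t) {b : F} (hb : b ≠ 0) :
    ∃ ξ ∈ L, ∀ v i, ξ v i = if i = l then swpAct b (v i) else v i := by
  obtain ⟨x, hx, -, hx0, hact⟩ :=
    Cfsg.Agent.Lib.Helper70_HP2_SWPREFL.SWPREFL (F := F) (t := t) l hb
  exact ⟨prefl F t hx0, hC.hR x ⟨hx0, l, hx⟩ hx0, hact⟩

/-- `sieg u (a • u) = 1` -/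
lemma sieg_smul_self {V : Type*} [AddCommGroup V] [Module F V] (Q : V → F)
    (B : LinearMap.BilinForm F V) (hQs : ∀ (c : F) (v : V), Q (c • v) = c * c * Q v)
    (hQp : ∀ u v : V, Q (u + v) = Q u + Q v + B u v) {u : V} (hu : Q u = 0) (a : F) :
    sieg Q B u (a • u) = 1 := by
  have huu : B u u = 0 := by rw [B_self Q B hQs hQp, hu, mul_zero]
  ext x
  rw [sieg_apply Q B hQs hQp hu (by rw [map_smul, huu, smul_zero]), hQs, hu]
  simp only [map_smul, smul_eq_mul, mul_zero, zero_mul, zero_smul, sub_zero, LinearEquiv.coe_one,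
    id_eq]
  module

/-- the Siegel elements at `u` inside `L`, as an additive subgroup -/
def ZL (L : Subgroup (PV F t ≃ₗ[F] PV F t)) (u : PV F t) (hu : pQ F t u = 0) :
    AddSubgroup (PV F t) where
  carrier := {z | pB F t u z = 0 ∧ sieg (pQ F t) (pB F t) u z ∈ L}
  add_mem' := by
    intro z z' hz hz'
    refine ⟨by rw [map_add, hz.1, hz'.1, add_zero], ?_⟩
    rw [← sieg_mul (pQ F t) (pB F t) (pQs F t) (pQp F t) hu hz.1 hz'.1]
    exact L.mul_mem hz.2 hz'.2
  zero_mem' := by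
    refine ⟨by simp, ?_⟩
    rw [sieg_zero_right (pQ F t) (pB F t) (pQs F t) (pQp F t) hu]
    exact L.one_mem
  neg_mem' := by
    intro z hz
    refine ⟨by rw [map_neg, hz.1, neg_zero], ?_⟩
    rw [← sieg_inv (pQ F t) (pB F t) (pQs F t) (pQp F t) hu hz.1]
    exact L.inv_mem hz.2

theorem mem_ZL {u : PV F t} {hu : pQ F t u = 0} {z : PV F t} :
    z ∈ ZL L u hu ↔ pB F t u z = 0 ∧ sieg (pQ F t) (pB F t) u z ∈ L := Iff.rfl

/-- a fourth coordinate -/
lemma exists_fourth (ht : 4 ≤ t) (a b c : Fin t) : ∃ k : Fin t, k ≠ a ∧ k ≠ b ∧ k ≠ c := by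
  classical
  by_contra hno
  push Not at hno
  have hsub : (Finset.univ : Finset (Fin t)) ⊆ {a, b, c} := by
    intro k _
    simp only [Finset.mem_insert, Finset.mem_singleton]
    by_cases h1 : k = a
    · exact Or.inl h1
    by_cases h2 : k = b
    · exact Or.inr (Or.inl h2)
    exact Or.inr (Or.inr (hno k h1 h2))
  have hc := Finset.card_le_card hsub
  rw [Finset.card_univ, Fintype.card_fin] at hc
  have h3 : ({a, b, c} : Finset (Fin t)).card ≤ 3 := Finset.card_le_three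
  omega

/-- **HP2-SIEGA** -/
theorem SIEGA (hC : PCtxR5 F t S L) {w : PV F t} (hw : PInRc L w) {j l : Fin t} (hjl : j ≠ l)
    (hj0 : w j ≠ 0) (hjs : Sing (w j)) (hl : w l ≠ 0) :
    ∀ z, pB F t (Pi.single j (w j)) z = 0 →
      sieg (pQ F t) (pB F t) (Pi.single j (w j)) z ∈ L := by
  classical
  have hw' := hw
  obtain ⟨hw0, hwL⟩ := hw
  have hq4 : 4 ≤ Nat.card F := le_trans (by norm_num) hC.hq
  have hq5 : 5 ≤ Nat.card F := le_trans (by norm_num) hC.hq
  have ht4 : 4 ≤ t := le_trans (by norm_num) hC.ht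
  set ζ : F × F := w j with hζ
  have hζs : ζ.1 * ζ.2 = 0 := hjs
  obtain ⟨c, hc0, hc1, -⟩ := exists_avoid3 hq4 (0 : F) 1 0
  have hci1 : c⁻¹ ≠ 1 := fun e => hc1 (inv_eq_one.mp e)
  -- the scalar `κ`
  set κ : F := if ζ.2 = 0 then 1 - c else 1 - c⁻¹ with hκdef
  have hκ0 : κ ≠ 0 := by
    rw [hκdef]
    split_ifs
    · exact sub_ne_zero.mpr (Ne.symm hc1)
    · exact sub_ne_zero.mpr (Ne.symm hci1)
  have hκ : ζ - rotAct c ζ = κ • ζ := by
    rw [hκdef]
    by_cases h2 : ζ.2 = 0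
    · rw [if_pos h2]
      ext
      · simp [rotAct]; ring
      · simp [rotAct, h2]
    · rw [if_neg h2]
      have h1 : ζ.1 = 0 := (mul_eq_zero.mp hζs).resolve_right h2
      ext
      · simp [rotAct, h1]
      · simp [rotAct]; ring
  set e₀ : PV F t := Pi.single j ζ with he₀
  set u : PV F t := κ • e₀ with hu
  have hQe₀ : pQ F t e₀ = 0 := by rw [he₀, pQ_single]; exact hζs
  have hQu : pQ F t u = 0 := by rw [hu, pQs, hQe₀, mul_zero]
  have huj : u j = κ • ζ := by rw [hu, Pi.smul_apply, he₀, Pi.single_eq_same]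
  have hu0 : ∀ i, i ≠ j → u i = 0 := by
    intro i hi
    rw [hu, Pi.smul_apply, he₀, Pi.single_eq_of_ne hi, smul_zero]
  have hBu_single : ∀ (i : Fin t) (ζ' : F × F), i ≠ j → pB F t u (Pi.single i ζ') = 0 := by
    intro i ζ' hi
    rw [pB_single, hu0 i hi]
    simp
  -- the rotation `h` of coordinate `j`
  obtain ⟨h, hhL, hact⟩ := exists_rot hC j hc0
  have hhO : h ∈ oG (pQ F t) := hC.hLO hhL
  have hsub : ∀ v : PV F t, v j = ζ → v - h v = u := by
    intro v hv
    funext i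
    rw [Pi.sub_apply, hact]
    by_cases hi : i = j
    · subst hi
      rw [if_pos rfl, hv, hκ, huj]
    · rw [if_neg hi, sub_self, hu0 i hi]
  -- the Siegel elements attached to the vectors `ξ w`
  have hS : ∀ ξ ∈ L, (∀ v i, i ≠ l → ξ v i = v i) →
      pB F t u (ξ w) = 0 ∧ sieg (pQ F t) (pB F t) u ((pQ F t w)⁻¹ • ξ w) ∈ L := by
    intro ξ hξL hξ
    have hξO : ξ ∈ oG (pQ F t) := hC.hLO hξL
    have hv1 : PInRc L (ξ w) := inRc_map hC.hLO hw' hξL
    have hv2 : PInRc L (h (ξ w)) := inRc_map hC.hLO hv1 hhL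
    obtain ⟨hq1, hr1⟩ := hv1
    obtain ⟨hq2, hr2⟩ := hv2
    have hvj : ξ w j = ζ := hξ w j hjl
    have hd : ξ w - h (ξ w) = u := hsub (ξ w) hvj
    have hQeq : pQ F t (ξ w) = pQ F t (h (ξ w)) := (hhO (ξ w)).symm
    have htan := Cfsg.Agent.Lib.Helper70_Q2_TAN.TAN_mem (pQ F t) (pB F t) (pQs F t)
      (pQp F t) hq1 hq2 hQeq (by rw [hd]; exact hQu) L hr1 hr2
    rw [hd, hξO w] at htan
    refine ⟨?_, htan⟩
    have := Cfsg.Agent.Lib.Helper70_Q2_TAN.tan_orth (pQ F t) (pB F t) (pQs F t) (pQp F t) hQeq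
      (by rw [hd]; exact hQu)
    rwa [hd] at this
  obtain ⟨hB1, hS1⟩ := hS 1 L.one_mem (fun v i _ => rfl)
  have hB1' : pB F t u ((pQ F t w)⁻¹ • w) = 0 := by
    have : pB F t u w = 0 := hB1
    rw [map_smul, this, smul_zero]
  have hS1' : sieg (pQ F t) (pB F t) u ((pQ F t w)⁻¹ • w) ∈ L := hS1
  -- the difference elements
  have hdiff : ∀ ξ ∈ L, (∀ v i, i ≠ l → ξ v i = v i) →
      (pQ F t w)⁻¹ • (Pi.single l (ξ w l - w l) : PV F t) ∈ ZL L u hQu := by
    intro ξ hξL hξ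
    obtain ⟨hB2, hS2⟩ := hS ξ hξL hξ
    have hB2' : pB F t u ((pQ F t w)⁻¹ • ξ w) = 0 := by rw [map_smul, hB2, smul_zero]
    have he : (pQ F t w)⁻¹ • (Pi.single l (ξ w l - w l) : PV F t) =
        (pQ F t w)⁻¹ • ξ w + -((pQ F t w)⁻¹ • w) := by
      rw [← smul_neg, ← smul_add]
      congr 1
      funext i
      rw [Pi.add_apply, Pi.neg_apply]
      by_cases hi : i = l
      · subst hi
        rw [Pi.single_eq_same, sub_eq_add_neg]
      · rw [Pi.single_eq_of_ne hi, hξ w i hi, add_neg_cancel]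
    rw [he]
    exact (ZL L u hQu).add_mem ⟨hB2', hS2⟩ ((ZL L u hQu).neg_mem ⟨hB1', hS1'⟩)
  -- the additive subgroup `A` of `F × F`
  let φ : F × F →+ PV F t :=
    AddMonoidHom.mk' (fun ζ' => (pQ F t w)⁻¹ • (Pi.single l ζ' : PV F t)) (by
      intro a b
      rw [Pi.single_add, smul_add])
  have hφ : ∀ ζ', φ ζ' = (pQ F t w)⁻¹ • (Pi.single l ζ' : PV F t) := fun _ => rfl
  have hA : (ZL L u hQu).comap φ = ⊤ := by
    apply Cfsg.Agent.Lib.Helper11_HP2_SPANW.SPANW hq5 (w l) hl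
    · intro c' hc'
      obtain ⟨ξ, hξL, hξ⟩ := exists_rot hC l hc'
      have h1 := hdiff ξ hξL (fun v i hi => by rw [hξ, if_neg hi])
      rw [hξ, if_pos rfl] at h1
      rw [AddSubgroup.mem_comap, hφ]
      exact h1
    · intro b hb
      obtain ⟨ξ, hξL, hξ⟩ := exists_swp hC l hb
      have h1 := hdiff ξ hξL (fun v i hi => by rw [hξ, if_neg hi])
      rw [hξ, if_pos rfl] at h1
      rw [AddSubgroup.mem_comap, hφ]
      exact h1
  have hsingle_l : ∀ ζ' : F × F, (Pi.single l ζ' : PV F t) ∈ ZL L u hQu := by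
    intro ζ'
    have hmem : (pQ F t w • ζ') ∈ (ZL L u hQu).comap φ := by
      rw [hA]; exact AddSubgroup.mem_top _
    rw [AddSubgroup.mem_comap, hφ] at hmem
    have he : (pQ F t w)⁻¹ • (Pi.single l (pQ F t w • ζ') : PV F t) = Pi.single l ζ' := by
      funext i
      rw [Pi.smul_apply]
      by_cases hi : i = l
      · subst hi
        rw [Pi.single_eq_same, Pi.single_eq_same, inv_smul_smul₀ hw0]
      · rw [Pi.single_eq_of_ne hi, Pi.single_eq_of_ne hi, smul_zero]
    rwa [he] at hmem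
  -- transport to the other planes
  have hsingle : ∀ (l' : Fin t), l' ≠ j → ∀ ζ' : F × F,
      (Pi.single l' ζ' : PV F t) ∈ ZL L u hQu := by
    intro l' hl'j ζ'
    by_cases hll' : l' = l
    · rw [hll']; exact hsingle_l ζ'
    obtain ⟨k, hkj, hkl, hkl'⟩ := exists_fourth ht4 j l l'
    set π : Equiv.Perm (Fin t) := Equiv.swap l l' * Equiv.swap l' k with hπ
    have hsign : Equiv.Perm.sign π = 1 := by
      rw [hπ, map_mul, Equiv.Perm.sign_swap (Ne.symm hll'), Equiv.Perm.sign_swap (Ne.symm hkl')]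
      rfl
    have hπl : π l = l' := by
      rw [hπ, Equiv.Perm.mul_apply, Equiv.swap_apply_of_ne_of_ne (Ne.symm hll') (Ne.symm hkl),
        Equiv.swap_apply_left]
    have hπj : π j = j := by
      rw [hπ, Equiv.Perm.mul_apply, Equiv.swap_apply_of_ne_of_ne (Ne.symm hl'j) (Ne.symm hkj),
        Equiv.swap_apply_of_ne_of_ne hjl (Ne.symm hl'j)]
    obtain ⟨g, hgO, hgS, hgact, hgOm⟩ := Cfsg.Agent.Lib.Helper93_HP2_PERM.PERM S hC.hS π
    have hgL : g ∈ L := hC.hHL ⟨hgS, hgOm hsign⟩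
    have hgu : g u = u := by
      funext i
      obtain ⟨i₀, rfl⟩ := π.surjective i
      rw [hgact]
      by_cases h1 : i₀ = j
      · rw [h1, hπj]
      · have h2 : π i₀ ≠ j := by
          intro e
          apply h1
          apply π.injective
          rw [e, hπj]
        rw [hu0 i₀ h1, hu0 _ h2]
    have hgs : g (Pi.single l ζ') = Pi.single l' ζ' := by
      funext i
      obtain ⟨i₀, rfl⟩ := π.surjective i
      rw [hgact]
      by_cases h1 : i₀ = l
      · rw [h1, hπl, Pi.single_eq_same, Pi.single_eq_same]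
      · have h2 : π i₀ ≠ l' := by
          intro e
          apply h1
          apply π.injective
          rw [e, hπl]
        rw [Pi.single_eq_of_ne h1, Pi.single_eq_of_ne h2]
    obtain ⟨hB, hSm⟩ := hsingle_l ζ'
    have hconj := conj_sieg (pQ F t) (pB F t) (pQs F t) (pQp F t) hgO hQu hB
    rw [hgu, hgs] at hconj
    refine ⟨hBu_single l' ζ' hl'j, ?_⟩
    rw [← hconj]
    exact L.mul_mem (L.mul_mem hgL hSm) (L.inv_mem hgL)
  -- all `z` vanishing at `j`
  have hzero : ∀ z : PV F t, z j = 0 → z ∈ ZL L u hQu := by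
    intro z hz
    have hsum : z = ∑ i, (Pi.single i (z i) : PV F t) := (Finset.univ_sum_single z).symm
    rw [hsum]
    apply AddSubgroup.sum_mem
    intro i _
    by_cases hi : i = j
    · rw [hi, hz, Pi.single_zero]
      exact (ZL L u hQu).zero_mem
    · exact hsingle i hi (z i)
  -- multiples of `u`
  have hmul : ∀ a : F, a • u ∈ ZL L u hQu := by
    intro a
    have huu : pB F t u u = 0 := by
      rw [B_self (pQ F t) (pB F t) (pQs F t) (pQp F t), hQu, mul_zero]
    refine ⟨by rw [map_smul, huu, smul_zero], ?_⟩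
    rw [sieg_smul_self (pQ F t) (pB F t) (pQs F t) (pQp F t) hQu]
    exact L.one_mem
  -- all `z` orthogonal to `e₀`
  have hall : ∀ z : PV F t, pB F t e₀ z = 0 → z ∈ ZL L u hQu := by
    intro z hz
    rw [he₀, pB_single_left] at hz
    obtain ⟨μ, hμ⟩ : ∃ μ : F, z j = μ • ζ := by
      by_cases h2 : ζ.2 = 0
      · have h1 : ζ.1 ≠ 0 := by
          intro h1
          apply hj0
          ext
          · exact h1
          · exact h2
        rw [h2, zero_mul, add_zero] at hz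
        have hz2 : (z j).2 = 0 := (mul_eq_zero.mp hz).resolve_left h1
        refine ⟨(z j).1 / ζ.1, ?_⟩
        ext
        · simp [div_mul_cancel₀ _ h1]
        · simp [hz2, h2]
      · have h1 : ζ.1 = 0 := (mul_eq_zero.mp hζs).resolve_right h2
        rw [h1, zero_mul, zero_add] at hz
        have hz1 : (z j).1 = 0 := (mul_eq_zero.mp hz).resolve_left h2
        refine ⟨(z j).2 / ζ.2, ?_⟩
        ext
        · simp [hz1, h1]
        · simp [div_mul_cancel₀ _ h2]
    have hdec : z = (z - μ • e₀) + (μ * κ⁻¹) • u := by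
      rw [hu, smul_smul, mul_assoc, inv_mul_cancel₀ hκ0, mul_one]
      abel
    rw [hdec]
    apply (ZL L u hQu).add_mem _ (hmul _)
    apply hzero
    rw [Pi.sub_apply, Pi.smul_apply, he₀, Pi.single_eq_same, hμ, sub_self]
  -- conclusion
  intro z hz
  have hBuz : pB F t u z = 0 := by
    rw [hu, map_smul, LinearMap.smul_apply, hz, smul_zero]
  have he : e₀ = κ⁻¹ • u := by rw [hu, smul_smul, inv_mul_cancel₀ hκ0, one_smul]
  rw [he, sieg_smul_left (pQ F t) (pB F t) (pQs F t) (pQp F t) hQu hBuz]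
  have hz' : pB F t e₀ (κ⁻¹ • z) = 0 := by rw [map_smul, hz, smul_zero]
  exact (hall _ hz').2

end Cfsg.Agent.Lib.Helper38_HP5_SIEGA_2
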