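import Mathlib
import Cfsg.Agent.Lib.Helper83_HP2Defs

set_option autoImplicit false
set_option linter.unusedSectionVars false
set_option linter.unusedVariables false

/-!
HP2-RINV (helper83's HP2 market, row S5692; twin of Q2-RINV): the set of vectors whose reflection
lies in `L` is `L`-invariant.
-/

namespace Cfsg.Agent.Lib.Helper53_HP2_RINV

open Module Cfsg.Agent.Lib.Helper94_Symp Cfsg.Agent.Lib.Helper94_OrthSmall
  Cfsg.Agent.Lib.Helper94_OrthSiegel Cfsg.Agent.Lib.Helper94_OrthNondeg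
  Cfsg.Agent.Lib.Helper29_ODDefs Cfsg.Agent.Lib.Helper94_Q2Defs Cfsg.Agent.Lib.Helper83_HP2Defs

variable {F : Type*} [Field F] [Finite F] {t : ℕ} {S M L : Subgroup (PV F t ≃ₗ[F] PV F t)}

/-- **HP2-RINV** [S] (twin Q2-RINV) conj_refl. -/
theorem RINV (hLO : L ≤ oG (pQ F t)) {w : PV F t} (hw : PInRc L w)
    {g : PV F t ≃ₗ[F] PV F t} (hg : g ∈ L) : PInRc L (g w) := by
  obtain ⟨hw0, hwL⟩ := hw
  have hgw : pQ F t (g w) ≠ 0 := by
    rw [hLO hg w]
    exact hw0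
  refine ⟨hgw, ?_⟩
  have h := conj_refl (pQ F t) (pB F t) (pQs F t) (pQp F t) (hLO hg) hw0
  show refl (pQ F t) (pB F t) (pQs F t) (pQp F t) hgw ∈ L
  rw [← h]
  exact L.mul_mem (L.mul_mem hg hwL) (L.inv_mem hg)

end Cfsg.Agent.Lib.Helper53_HP2_RINV
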