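import Mathlib
import Cfsg.Agent.Lib.Helper83_HP2Defs

/-!
HP2 market (architect helper83), package HP2-PIG0 (second seat, helper47): for `ν₁, ν₂ ≠ 0` there are
`c₁, c₂ ∉ {0, 1}` with `ν₁ γ(c₁) + ν₂ γ(c₂) = 0`, `γ(c) = (1 - c)(1 - c⁻¹)`, when `|F| ≥ 7`.
Explicit parametrisation: `ρ = -ν₁/ν₂`, `σ ∉ {0, 1, ρ⁻¹}`, `ρσ² ≠ 1`, `c₂ = (1-σ)/(σ(ρσ-1))`, `c₁ = ρσ²c₂`.
-/

set_option autoImplicit false
set_option linter.unusedSectionVars false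
set_option linter.unusedVariables false

namespace Cfsg.Agent.Lib.Helper47_HP2_PIG0

open Module Cfsg.Agent.Lib.Helper94_Symp Cfsg.Agent.Lib.Helper94_OrthSmall
  Cfsg.Agent.Lib.Helper94_OrthSiegel Cfsg.Agent.Lib.Helper94_OrthNondeg
  Cfsg.Agent.Lib.Helper29_ODDefs Cfsg.Agent.Lib.Helper94_Q2Defs Cfsg.Agent.Lib.Helper83_HP2Defs

variable {F : Type*} [Field F] [Finite F] {t : ℕ} {S M L : Subgroup (PV F t ≃ₗ[F] PV F t)}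

/-- a parameter `σ` avoiding the five bad values -/
theorem exists_sigma (hq : 7 ≤ Nat.card F) (ρ : F) (hρ0 : ρ ≠ 0) :
    ∃ σ : F, σ ≠ 0 ∧ σ ≠ 1 ∧ ρ * σ ≠ 1 ∧ ρ * σ ^ 2 ≠ 1 := by
  classical
  have : Fintype F := Fintype.ofFinite F
  rw [Nat.card_eq_fintype_card] at hq
  have hout : ∀ T : Finset F, T.card ≤ 5 → ∃ σ : F, σ ∉ T := by
    intro T hT
    by_contra hall
    push Not at hall
    have h1 : T = Finset.univ := Finset.eq_univ_iff_forall.mpr hall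
    have h2 : T.card = Fintype.card F := by rw [h1, Finset.card_univ]
    omega
  by_cases hex : ∃ σ₀ : F, ρ * σ₀ ^ 2 = 1
  · obtain ⟨σ₀, hσ₀⟩ := hex
    obtain ⟨σ, hσ⟩ := hout ({0, 1, ρ⁻¹, σ₀, -σ₀} : Finset F) Finset.card_le_five
    simp only [Finset.mem_insert, Finset.mem_singleton, not_or] at hσ
    obtain ⟨h0, h1, h2, h3, h4⟩ := hσ
    refine ⟨σ, h0, h1, ?_, ?_⟩
    · intro h
      apply h2
      exact eq_inv_of_mul_eq_one_right h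
    · intro h
      have h5 : ρ * (σ ^ 2 - σ₀ ^ 2) = 0 := by linear_combination h - hσ₀
      rcases mul_eq_zero.mp h5 with h6 | h6
      · exact hρ0 h6
      · rcases sq_eq_sq_iff_eq_or_eq_neg.mp (sub_eq_zero.mp h6) with h7 | h7
        · exact h3 h7
        · exact h4 h7
  · obtain ⟨σ, hσ⟩ := hout ({0, 1, ρ⁻¹} : Finset F) (le_trans Finset.card_le_three (by norm_num))
    simp only [Finset.mem_insert, Finset.mem_singleton, not_or] at hσ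
    obtain ⟨h0, h1, h2⟩ := hσ
    refine ⟨σ, h0, h1, ?_, ?_⟩
    · intro h
      apply h2
      exact eq_inv_of_mul_eq_one_right h
    · intro h
      exact hex ⟨σ, h⟩

/-- **HP2-PIG0** -/
theorem PIG0 (hq : 7 ≤ Nat.card F) (ν₁ ν₂ : F) (h1 : ν₁ ≠ 0) (h2 : ν₂ ≠ 0) :
    ∃ c₁ c₂ : F, c₁ ≠ 0 ∧ c₂ ≠ 0 ∧ c₁ ≠ 1 ∧ c₂ ≠ 1 ∧ ν₁ * gam c₁ + ν₂ * gam c₂ = 0 := by
  obtain ⟨ρ, hρ⟩ : ∃ ρ : F, ρ = -ν₁ / ν₂ := ⟨_, rfl⟩
  have hρ0 : ρ ≠ 0 := by rw [hρ]; exact div_ne_zero (neg_ne_zero.mpr h1) h2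
  have hν : ν₁ = -(ρ * ν₂) := by rw [hρ]; field_simp
  obtain ⟨σ, hσ0, hσ1, hσρ, hσ2⟩ := exists_sigma hq ρ hρ0
  have hD : ρ * σ - 1 ≠ 0 := sub_ne_zero.mpr hσρ
  have h1σ : 1 - σ ≠ 0 := sub_ne_zero.mpr (Ne.symm hσ1)
  have hE : ρ * σ ^ 2 - 1 ≠ 0 := sub_ne_zero.mpr hσ2
  -- explicit values and inverses
  obtain ⟨c₂, hc₂⟩ : ∃ c₂ : F, c₂ = (1 - σ) / (σ * (ρ * σ - 1)) := ⟨_, rfl⟩
  obtain ⟨c₁, hc₁⟩ : ∃ c₁ : F, c₁ = ρ * σ * (1 - σ) / (ρ * σ - 1) := ⟨_, rfl⟩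
  have hc₂i : c₂⁻¹ = σ * (ρ * σ - 1) / (1 - σ) := by rw [hc₂, inv_div]
  have hc₁i : c₁⁻¹ = (ρ * σ - 1) / (ρ * σ * (1 - σ)) := by rw [hc₁, inv_div]
  have hc₂0 : c₂ ≠ 0 := by
    rw [hc₂]; exact div_ne_zero h1σ (mul_ne_zero hσ0 hD)
  have hc₁0 : c₁ ≠ 0 := by
    rw [hc₁]; exact div_ne_zero (mul_ne_zero (mul_ne_zero hρ0 hσ0) h1σ) hD
  have hX : ρ * σ * (1 - σ) ≠ 0 := mul_ne_zero (mul_ne_zero hρ0 hσ0) h1σ
  have hY : σ * (ρ * σ - 1) ≠ 0 := mul_ne_zero hσ0 hD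
  have e₁ : 1 - c₁ = (ρ * σ ^ 2 - 1) / (ρ * σ - 1) := by
    rw [hc₁, eq_div_iff hD, sub_mul, div_mul_cancel₀ _ hD]; ring
  have e₂ : 1 - c₂ = (ρ * σ ^ 2 - 1) / (σ * (ρ * σ - 1)) := by
    rw [hc₂, eq_div_iff hY, sub_mul, div_mul_cancel₀ _ hY]; ring
  have e₁i : 1 - c₁⁻¹ = -(ρ * σ ^ 2 - 1) / (ρ * σ * (1 - σ)) := by
    rw [hc₁i, eq_div_iff hX, sub_mul, div_mul_cancel₀ _ hX]; ring
  have e₂i : 1 - c₂⁻¹ = -(ρ * σ ^ 2 - 1) / (1 - σ) := by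
    rw [hc₂i, eq_div_iff h1σ, sub_mul, div_mul_cancel₀ _ h1σ]; ring
  refine ⟨c₁, c₂, hc₁0, hc₂0, ?_, ?_, ?_⟩
  · intro h
    have : 1 - c₁ = 0 := by rw [h, sub_self]
    rw [e₁] at this
    rcases div_eq_zero_iff.mp this with h3 | h3
    · exact hE h3
    · exact hD h3
  · intro h
    have : 1 - c₂ = 0 := by rw [h, sub_self]
    rw [e₂] at this
    rcases div_eq_zero_iff.mp this with h3 | h3
    · exact hE h3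
    · exact mul_ne_zero hσ0 hD h3
  · unfold gam
    rw [e₁, e₂, e₁i, e₂i, hν, div_mul_div_comm, div_mul_div_comm, mul_div_assoc', mul_div_assoc',
      div_add_div _ _ (mul_ne_zero hD hX) (mul_ne_zero hY h1σ), div_eq_zero_iff]
    left
    ring

end Cfsg.Agent.Lib.Helper47_HP2_PIG0
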