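import Mathlib
import Cfsg.Agent.Lib.Helper83_HP2Defs
import Cfsg.Agent.Lib.Helper38_HP5Defs
import Cfsg.Agent.Lib.Helper11_HP2_SPANW
import Cfsg.Agent.Lib.Helper47_HP2_PIG0
import Cfsg.Agent.Lib.Helper38_HP5_SIEGBaux_47

/-!
HP2 market (architect helper83), package HP2-SIEGB, verbatim
(`Helper38_HP5_SIEGBaux_47.SIEGB_of` with the landed HP2-SPANW and HP2-PIG0).
-/

set_option autoImplicit false
set_option linter.unusedSectionVars false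
set_option linter.unusedVariables false

/-! PORT by helper38 of `Cfsg.Agent.Lib.Helper47_HP2_SIEGB` (helper83's HP2 market) to the contexts
`PCtx5` / `PCtxR5` (`5 ≤ t` instead of `7 ≤ t`); generated mechanically, proofs unchanged. -/

namespace Cfsg.Agent.Lib.Helper38_HP5_SIEGB_47

open Cfsg.Agent.Lib.Helper38_HP5Defs

open Module Cfsg.Agent.Lib.Helper94_Symp Cfsg.Agent.Lib.Helper94_OrthSmall
  Cfsg.Agent.Lib.Helper94_OrthSiegel Cfsg.Agent.Lib.Helper94_OrthNondeg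
  Cfsg.Agent.Lib.Helper29_ODDefs Cfsg.Agent.Lib.Helper94_Q2Defs Cfsg.Agent.Lib.Helper83_HP2Defs

variable {F : Type*} [Field F] [Finite F] {t : ℕ} {S M L : Subgroup (PV F t ≃ₗ[F] PV F t)}

/-- **HP2-SIEGB** -/
theorem SIEGB (hC : PCtxR5 F t S L) {w : PV F t} (hw : PInRc L w) {l m j : Fin t}
    (hlm : l ≠ m) (hlj : l ≠ j) (hmj : m ≠ j) (hl : ¬ Sing (w l)) (hm : ¬ Sing (w m))
    (hj : w j ≠ 0) :
    ∃ u : PV F t, pQ F t u = 0 ∧ u l ≠ 0 ∧ u m ≠ 0 ∧ (∀ i, i ≠ l → i ≠ m → u i = 0) ∧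
      ∀ z ∈ pD F t j, InZ (pQ F t) (pB F t) L u z :=
  Cfsg.Agent.Lib.Helper38_HP5_SIEGBaux_47.SIEGB_of
    (fun ν₁ ν₂ h1 h2 => Cfsg.Agent.Lib.Helper47_HP2_PIG0.PIG0 hC.hq ν₁ ν₂ h1 h2)
    (fun ζ hζ A h1 h2 =>
      Cfsg.Agent.Lib.Helper11_HP2_SPANW.SPANW (le_trans (by norm_num) hC.hq) ζ hζ A h1 h2)
    hC hw hlm hlj hmj hl hm hj

end Cfsg.Agent.Lib.Helper38_HP5_SIEGB_47
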