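import Mathlib
import Cfsg.Agent.Lib.Helper83_HP2Defs
import Cfsg.Agent.Lib.Helper38_HP5Defs
import Cfsg.Agent.Lib.Helper38_HP5_R1_2
import Cfsg.Agent.Lib.Helper38_HP5_SIEGA_2
import Cfsg.Agent.Lib.Helper38_HP5_RPAIR_43
import Cfsg.Agent.Lib.Helper38_HP5_SIEGB_47
import Cfsg.Agent.Lib.Helper38_HP5_TOSING_70
import Cfsg.Agent.Lib.Helper38_HP5_R2_77

set_option autoImplicit false
set_option linter.unusedSectionVars false
set_option linter.unusedVariables false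

/-! HP2-RMAIN (helper83's HP2 market): Theorem R for hyperbolic planes, assembly. -/

/-! PORT by helper38 of `Cfsg.Agent.Lib.Helper83_HP2_RMAIN` (helper83's HP2 market) to the contexts
`PCtx5` / `PCtxR5` (`5 ≤ t` instead of `7 ≤ t`); generated mechanically, proofs unchanged. -/

namespace Cfsg.Agent.Lib.Helper38_HP5_RMAIN_83

open Cfsg.Agent.Lib.Helper38_HP5Defs

open Module Cfsg.Agent.Lib.Helper94_Symp Cfsg.Agent.Lib.Helper94_OrthSmall
  Cfsg.Agent.Lib.Helper94_OrthSiegel Cfsg.Agent.Lib.Helper94_OrthNondeg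
  Cfsg.Agent.Lib.Helper29_ODDefs Cfsg.Agent.Lib.Helper94_Q2Defs Cfsg.Agent.Lib.Helper83_HP2Defs

open Cfsg.Agent.Lib.Helper38_HP5_R1_2 (R1)
open Cfsg.Agent.Lib.Helper38_HP5_SIEGA_2 (SIEGA)
open Cfsg.Agent.Lib.Helper38_HP5_RPAIR_43 (RPAIR)
open Cfsg.Agent.Lib.Helper38_HP5_SIEGB_47 (SIEGB)
open Cfsg.Agent.Lib.Helper38_HP5_TOSING_70 (TOSING)
open Cfsg.Agent.Lib.Helper38_HP5_R2_77 (R2)

variable {F : Type*} [Field F] [Finite F] {t : ℕ} {S M L : Subgroup (PV F t ≃ₗ[F] PV F t)}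

lemma mem_PSupp {w : PV F t} {l : Fin t} : l ∈ PSupp w ↔ w l ≠ 0 := by
  classical
  simp [PSupp]

/-- a vector of `Rc` with a singular nonzero component and another nonzero component -/
theorem caseA (hC : PCtxR5 F t S L) {w : PV F t} (hw : PInRc L w) {j l : Fin t} (hjl : j ≠ l)
    (hj0 : w j ≠ 0) (hjs : Sing (w j)) (hl : w l ≠ 0) :
    ∀ u z, pQ F t u = 0 → pB F t u z = 0 → sieg (pQ F t) (pB F t) u z ∈ L :=
  RPAIR hC hj0 hjs (SIEGA hC hw hjl hj0 hjs hl)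

/-- a vector of `Rc` with a singular nonzero component and at least two nonzero components -/
theorem caseA' (hC : PCtxR5 F t S L) {w : PV F t} (hw : PInRc L w) (h2 : 2 ≤ (PSupp w).card)
    {j : Fin t} (hj0 : w j ≠ 0) (hjs : Sing (w j)) :
    ∀ u z, pQ F t u = 0 → pB F t u z = 0 → sieg (pQ F t) (pB F t) u z ∈ L := by
  classical
  have : 1 < (PSupp w).card := h2
  obtain ⟨l, hl, hlj⟩ := Finset.exists_mem_ne this j
  exact caseA hC hw (Ne.symm hlj) hj0 hjs (mem_PSupp.1 hl)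

/-- a vector of `Rc` with at least three nonzero components, all nonsingular -/
theorem caseB (hC : PCtxR5 F t S L) {w : PV F t} (hw : PInRc L w) (h3 : 3 ≤ (PSupp w).card)
    (hns : ∀ j, w j ≠ 0 → ¬ Sing (w j)) :
    ∀ u z, pQ F t u = 0 → pB F t u z = 0 → sieg (pQ F t) (pB F t) u z ∈ L := by
  classical
  obtain ⟨l, hl, m, hm, j, hj, hlm, hlj, hmj⟩ := Finset.two_lt_card.1 h3
  have hl0 := mem_PSupp.1 hl
  have hm0 := mem_PSupp.1 hm
  have hj0 := mem_PSupp.1 hj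
  obtain ⟨u, hu, hul, hum, hsupp, hZ⟩ :=
    SIEGB hC hw hlm hlj hmj (hns l hl0) (hns m hm0) hj0
  obtain ⟨w', hw', hw'l, hw'j, hw'js⟩ := TOSING hC hlm (Ne.symm hlj) (Ne.symm hmj) hu hul hsupp hZ
  exact caseA hC hw' (Ne.symm hlj) hw'j hw'js hw'l

/-- **HP2-RMAIN** (Theorem R, plus type): `L` contains every Siegel transformation. -/
theorem RMAIN (hC : PCtxR5 F t S L) :
    ∀ u z, pQ F t u = 0 → pB F t u z = 0 → sieg (pQ F t) (pB F t) u z ∈ L := by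
  obtain ⟨w, hw, h2⟩ := R1 hC
  by_cases hA : ∃ j, w j ≠ 0 ∧ Sing (w j)
  · obtain ⟨j, hj0, hjs⟩ := hA
    exact caseA' hC hw h2 hj0 hjs
  push Not at hA
  obtain ⟨w', hw', h3⟩ := R2 hC hw h2 hA
  by_cases hA' : ∃ j, w' j ≠ 0 ∧ Sing (w' j)
  · obtain ⟨j, hj0, hjs⟩ := hA'
    exact caseA' hC hw' (by omega) hj0 hjs
  push Not at hA'
  exact caseB hC hw' h3 hA'

end Cfsg.Agent.Lib.Helper38_HP5_RMAIN_83
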