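import Mathlib
import Cfsg.Agent.Lib.Helper83_HP2Defs
import Cfsg.Agent.Lib.Helper38_HP5Defs

set_option autoImplicit false
set_option linter.unusedSectionVars false
set_option linter.unusedVariables false

/-! HP2-NOTS (helper83's HP2 market): a minimal overgroup of `H = S ⊓ Ω` inside `Ω` is not
contained in `S`. -/

/-! PORT by helper38 of `Cfsg.Agent.Lib.Helper83_HP2_NOTS` (helper83's HP2 market) to the contexts
`PCtx5` / `PCtxR5` (`5 ≤ t` instead of `7 ≤ t`); generated mechanically, proofs unchanged. -/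

namespace Cfsg.Agent.Lib.Helper38_HP5_NOTS_83

open Cfsg.Agent.Lib.Helper38_HP5Defs

open Module Cfsg.Agent.Lib.Helper94_Symp Cfsg.Agent.Lib.Helper94_OrthSmall
  Cfsg.Agent.Lib.Helper94_OrthSiegel Cfsg.Agent.Lib.Helper94_OrthNondeg
  Cfsg.Agent.Lib.Helper29_ODDefs Cfsg.Agent.Lib.Helper94_Q2Defs Cfsg.Agent.Lib.Helper83_HP2Defs

variable {F : Type*} [Field F] [Finite F] {t : ℕ} {S M L : Subgroup (PV F t ≃ₗ[F] PV F t)}

/-- **HP2-NOTS** -/
theorem NOTS (hC : PCtx5 F t S M) : ∃ g ∈ M, g ∉ S := by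
  by_contra h
  push Not at h
  apply hC.hmin.ne
  exact le_antisymm (fun g hg => ⟨h g hg, hC.hMO hg⟩) hC.hmin.le

end Cfsg.Agent.Lib.Helper38_HP5_NOTS_83
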