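import Mathlib
import Cfsg.Agent.Lib.Helper83_HP2Defs

set_option autoImplicit false
set_option linter.unusedSectionVars false
set_option linter.unusedVariables false

/-!
HP2 market (helper83), strengthening of package T1EX from `7 ≤ t` to `5 ≤ t`: count with SIX
nonzero values `c₁..c₆` (available since `7 ≤ |F|`) instead of four: `6 (t - 3) ≤ 2 t` forces
`t ≤ 4`.  This is the only place of the HP2 proof where `t ≥ 7` was used, so the maximality of
`(O_2^+(q) wr S_t) ∩ Ω` holds for `t ≥ 5`, `q ≥ 7` (conjunct (8) of omega10+ / omega12+).  (helper38)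
-/

namespace Cfsg.Agent.Lib.Helper38_HP5_T1EX

open Module Cfsg.Agent.Lib.Helper94_Symp Cfsg.Agent.Lib.Helper94_OrthSmall
  Cfsg.Agent.Lib.Helper94_OrthSiegel Cfsg.Agent.Lib.Helper94_OrthNondeg
  Cfsg.Agent.Lib.Helper29_ODDefs Cfsg.Agent.Lib.Helper94_Q2Defs Cfsg.Agent.Lib.Helper83_HP2Defs

variable {F : Type*} [Field F] [Finite F] {t : ℕ}

/-- Two nonzero vectors `σ, λ` of `F × F` such that no combination `α σ + β λ` with `α β ≠ 0`
vanishes: at most two nonzero `c` make `σ + c λ` singular. -/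
lemma no_three {σ lam : F × F} (hFS : ∀ α β : F, α ≠ 0 → β ≠ 0 → α • σ + β • lam ≠ 0)
    (hσ : σ ≠ 0) (hlam : lam ≠ 0) {c₁ c₂ c₃ : F} (h12 : c₁ ≠ c₂) (h13 : c₁ ≠ c₃) (h23 : c₂ ≠ c₃)
    (h1 : Sing (σ + c₁ • lam)) (h2 : Sing (σ + c₂ • lam)) (h3 : Sing (σ + c₃ • lam)) : False := by
  -- a common root of the first (resp. second) linear factor for two different `c`
  have key1 : ∀ c c' : F, c ≠ c' → σ.1 + c * lam.1 = 0 → σ.1 + c' * lam.1 = 0 → False := by
    intro c c' hcc h h'
    have hl : lam.1 = 0 := by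
      have h0 : (c - c') * lam.1 = 0 := by linear_combination h - h'
      rcases mul_eq_zero.mp h0 with h0 | h0
      · exact absurd (sub_eq_zero.mp h0) hcc
      · exact h0
    have hs : σ.1 = 0 := by rw [hl, mul_zero, add_zero] at h; exact h
    have hs2 : σ.2 ≠ 0 := by
      intro h0
      exact hσ (Prod.ext hs h0)
    have hl2 : lam.2 ≠ 0 := by
      intro h0
      exact hlam (Prod.ext hl h0)
    apply hFS lam.2 (-σ.2) hl2 (neg_ne_zero.mpr hs2)
    apply Prod.ext
    · simp [hs, hl]
    · simp only [Prod.snd_add, Prod.smul_snd, smul_eq_mul, Prod.snd_zero]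
      ring
  have key2 : ∀ c c' : F, c ≠ c' → σ.2 + c * lam.2 = 0 → σ.2 + c' * lam.2 = 0 → False := by
    intro c c' hcc h h'
    have hl : lam.2 = 0 := by
      have h0 : (c - c') * lam.2 = 0 := by linear_combination h - h'
      rcases mul_eq_zero.mp h0 with h0 | h0
      · exact absurd (sub_eq_zero.mp h0) hcc
      · exact h0
    have hs : σ.2 = 0 := by rw [hl, mul_zero, add_zero] at h; exact h
    have hs1 : σ.1 ≠ 0 := by
      intro h0
      exact hσ (Prod.ext h0 hs)
    have hl1 : lam.1 ≠ 0 := by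
      intro h0
      exact hlam (Prod.ext h0 hl)
    apply hFS lam.1 (-σ.1) hl1 (neg_ne_zero.mpr hs1)
    apply Prod.ext
    · simp only [Prod.fst_add, Prod.smul_fst, smul_eq_mul, Prod.fst_zero]
      ring
    · simp [hs, hl]
  have hS : ∀ c : F, Sing (σ + c • lam) → σ.1 + c * lam.1 = 0 ∨ σ.2 + c * lam.2 = 0 := by
    intro c h
    unfold Sing at h
    simp only [Prod.fst_add, Prod.snd_add, Prod.smul_fst, Prod.smul_snd, smul_eq_mul] at h
    exact mul_eq_zero.mp h
  rcases hS c₁ h1 with a1 | a1 <;> rcases hS c₂ h2 with a2 | a2 <;> rcases hS c₃ h3 with a3 | a3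
  · exact key1 _ _ h12 a1 a2
  · exact key1 _ _ h12 a1 a2
  · exact key1 _ _ h13 a1 a3
  · exact key2 _ _ h23 a2 a3
  · exact key1 _ _ h23 a2 a3
  · exact key2 _ _ h13 a1 a3
  · exact key2 _ _ h12 a1 a2
  · exact key2 _ _ h12 a1 a2

/-- **HP2-T1EX for `t ≥ 5`** (pure counting; no groups). -/
theorem T1EX5 (ht : 5 ≤ t) (hq : 7 ≤ Nat.card F) (s ℓ : PV F t)
    (hFS : ∀ α β : F, α ≠ 0 → β ≠ 0 → ∀ l, (α • s + β • ℓ) l ≠ 0)
    (hLY : ∀ α β : F, α ≠ 0 → β ≠ 0 → ∀ l : Fin 4 → Fin t, Function.Injective l →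
      ¬ ∀ k, ¬ Sing ((α • s + β • ℓ) (l k))) :
    ∃ l, s l = 0 ∨ ℓ l = 0 := by
  classical
  by_contra hcon
  push Not at hcon
  have : Fintype F := Fintype.ofFinite F
  -- six distinct nonzero scalars
  have hcardU : Fintype.card (Fin 6) ≤ Fintype.card Fˣ := by
    rw [Fintype.card_units, Fintype.card_fin, ← Nat.card_eq_fintype_card]
    omega
  obtain ⟨emb⟩ := Function.Embedding.nonempty_of_card_le hcardU
  set c : Fin 6 → F := fun k => ((emb k : Fˣ) : F) with hc
  have hc0 : ∀ k, c k ≠ 0 := fun k => Units.ne_zero _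
  have hcinj : Function.Injective c := fun a b hab => emb.injective (Units.ext hab)
  set y : Fin 6 → PV F t := fun k => (1 : F) • s + c k • ℓ with hy
  -- componentwise form of `hFS`
  have hFS' : ∀ l, ∀ α β : F, α ≠ 0 → β ≠ 0 → α • s l + β • ℓ l ≠ 0 := by
    intro l α β hα hβ
    have := hFS α β hα hβ l
    simpa using this
  have hyl : ∀ k l, y k l = s l + c k • ℓ l := by
    intro k l
    simp [hy]
  -- the double count
  set T : ℕ := ∑ k : Fin 6, ∑ l : Fin t, (if Sing (y k l) then 1 else 0) with hT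
  have hT1 : 6 * (t - 3) ≤ T := by
    have hk : ∀ k : Fin 6, t - 3 ≤ ∑ l : Fin t, (if Sing (y k l) then 1 else 0) := by
      intro k
      rw [← Finset.card_filter]
      have hN : (Finset.univ.filter (fun l : Fin t => ¬ Sing (y k l))).card ≤ 3 := by
        by_contra h4
        push Not at h4
        have h4' : Fintype.card (Fin 4) ≤
            Fintype.card ↥(Finset.univ.filter (fun l : Fin t => ¬ Sing (y k l))) := by
          rw [Fintype.card_coe, Fintype.card_fin]
          omega
        obtain ⟨e⟩ := Function.Embedding.nonempty_of_card_le h4'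
        apply hLY 1 (c k) one_ne_zero (hc0 k) (fun i => (e i : Fin t))
          (fun a b hab => e.injective (Subtype.ext hab))
        intro i
        have := (e i).2
        rw [Finset.mem_filter] at this
        exact this.2
      have hsum := Finset.card_filter_add_card_filter_not (s := (Finset.univ : Finset (Fin t)))
        (fun l : Fin t => Sing (y k l))
      rw [Finset.card_univ, Fintype.card_fin] at hsum
      omega
    calc 6 * (t - 3) = ∑ _k : Fin 6, (t - 3) := by
          rw [Finset.sum_const, Finset.card_univ, Fintype.card_fin, smul_eq_mul]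
      _ ≤ T := Finset.sum_le_sum (fun k _ => hk k)
  have hT2 : T ≤ 2 * t := by
    rw [hT, Finset.sum_comm]
    have hl : ∀ l : Fin t, ∑ k : Fin 6, (if Sing (y k l) then 1 else 0) ≤ 2 := by
      intro l
      rw [← Finset.card_filter]
      by_contra h3
      push Not at h3
      obtain ⟨a, ha, b, hb, d, hd, hab, had, hbd⟩ := Finset.two_lt_card.mp h3
      rw [Finset.mem_filter] at ha hb hd
      rw [hyl] at ha hb hd
      exact no_three (hFS' l) (hcon l).1 (hcon l).2 (fun h => hab (hcinj h))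
        (fun h => had (hcinj h)) (fun h => hbd (hcinj h)) ha.2 hb.2 hd.2
    calc ∑ l : Fin t, ∑ k : Fin 6, (if Sing (y k l) then 1 else 0) ≤ ∑ _l : Fin t, 2 :=
          Finset.sum_le_sum (fun l _ => hl l)
      _ = 2 * t := by
          rw [Finset.sum_const, Finset.card_univ, Fintype.card_fin, smul_eq_mul, mul_comm]
  omega

end Cfsg.Agent.Lib.Helper38_HP5_T1EX
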