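import Mathlib
import Cfsg.Agent.Lib.Helper83_HP2Defs
import Cfsg.Agent.Lib.Helper38_HP5Defs
import Cfsg.Agent.Lib.Helper43_HP2_BASIC

set_option autoImplicit false
set_option linter.unusedSectionVars false
set_option linter.unusedVariables false

/-!
HP2 market (helper83), package HP2-T1FIX (helper34): two elements of `S ⊓ Ω` fixing `g x`
(`x` a nonsingular vector of the plane `pD i₀`, `g ∈ M`): one of them or their product fixes
`g (pD i₀)` pointwise.
-/

/-! PORT by helper38 of `Cfsg.Agent.Lib.Helper34_HP2_T1FIX` (helper83's HP2 market) to the contexts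
`PCtx5` / `PCtxR5` (`5 ≤ t` instead of `7 ≤ t`); generated mechanically, proofs unchanged. -/

namespace Cfsg.Agent.Lib.Helper38_HP5_T1FIX_34

open Cfsg.Agent.Lib.Helper38_HP5Defs

open Module Cfsg.Agent.Lib.Helper94_Symp Cfsg.Agent.Lib.Helper94_OrthSmall
  Cfsg.Agent.Lib.Helper94_OrthSiegel Cfsg.Agent.Lib.Helper94_OrthNondeg
  Cfsg.Agent.Lib.Helper29_ODDefs Cfsg.Agent.Lib.Helper94_Q2Defs Cfsg.Agent.Lib.Helper83_HP2Defs
  Cfsg.Agent.Lib.Helper43_HP2_BASIC

variable {F : Type*} [Field F] [Finite F] {t : ℕ} {S M L : Subgroup (PV F t ≃ₗ[F] PV F t)}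

lemma h34_pOm_le : pOm F t ≤ oG (pQ F t) :=
  Subgroup.commutator_le.mpr fun a ha b hb =>
    (oG _).mul_mem ((oG _).mul_mem ((oG _).mul_mem ha hb) ((oG _).inv_mem ha)) ((oG _).inv_mem hb)

lemma h34_inv_apply (g : PV F t ≃ₗ[F] PV F t) (v : PV F t) : g⁻¹ (g v) = v := by
  show g.symm (g v) = v
  exact g.symm_apply_apply v

lemma h34_apply_inv (g : PV F t ≃ₗ[F] PV F t) (v : PV F t) : g (g⁻¹ v) = v := by
  show g (g.symm v) = v
  exact g.apply_symm_apply v

/-- an isometry stabilising the plane `pD i₀` and fixing the nonsingular vector `x` of it is the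
identity or the reflection of the plane exchanging the two singular lines -/
lemma h34_id_or_swap {φ : PV F t ≃ₗ[F] PV F t} (hφ : φ ∈ oG (pQ F t)) {i₀ : Fin t}
    (hst : ∀ v ∈ pD F t i₀, φ v ∈ pD F t i₀) {x : PV F t} (hx : x ∈ pD F t i₀)
    (hx0 : pQ F t x ≠ 0) (hfix : φ x = x) :
    (∀ v ∈ pD F t i₀, φ v = v) ∨
    (∀ v ∈ pD F t i₀, φ v = Pi.single i₀
      ((x i₀).1 * (x i₀).2⁻¹ * (v i₀).2, (x i₀).2 * (x i₀).1⁻¹ * (v i₀).1)) := by
  classical
  have hB := oG_B (pQ F t) (pB F t) (pQp F t) hφ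
  -- coordinates
  set α := (x i₀).1 with hα
  set β := (x i₀).2 with hβ
  have hαβ : α * β ≠ 0 := by rw [← pQ_of_mem hx]; exact hx0
  have hα0 : α ≠ 0 := left_ne_zero_of_mul hαβ
  have hβ0 : β ≠ 0 := right_ne_zero_of_mul hαβ
  have hpe : (pe i₀ : PV F t) ∈ pD F t i₀ := single_mem i₀ _
  have hpf : (pf i₀ : PV F t) ∈ pD F t i₀ := single_mem i₀ _
  have hφe := hst _ hpe
  have hφf := hst _ hpf
  have hpe_i : (pe i₀ : PV F t) i₀ = (1, 0) := by simp [pe]
  have hpf_i : (pf i₀ : PV F t) i₀ = (0, 1) := by simp [pf]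
  set a := (φ (pe i₀) i₀).1 with ha
  set b := (φ (pe i₀) i₀).2 with hb
  set c := (φ (pf i₀) i₀).1 with hc
  set d := (φ (pf i₀) i₀).2 with hd
  -- the image of a vector of the plane
  have himg : ∀ v ∈ pD F t i₀, φ v = Pi.single i₀
      ((v i₀).1 * a + (v i₀).2 * c, (v i₀).1 * b + (v i₀).2 * d) := by
    intro v hv
    have hv' : v = (v i₀).1 • (pe i₀ : PV F t) + (v i₀).2 • (pf i₀ : PV F t) := by
      conv_lhs => rw [eq_single_of_mem hv]
      ext j <;> by_cases hj : j = i₀ <;> simp [pe, pf, hj]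
    conv_lhs => rw [hv', map_add, map_smul, map_smul, eq_single_of_mem hφe, eq_single_of_mem hφf]
    ext j <;> by_cases hj : j = i₀ <;> simp [hj, ha, hb, hc, hd]
  -- isometry conditions
  have hQe : a * b = 0 := by
    have h1 : pQ F t (φ (pe i₀)) = pQ F t (pe i₀) := hφ _
    rw [pQ_of_mem hφe, pQ_of_mem hpe, hpe_i] at h1
    simpa using h1
  have hQf : c * d = 0 := by
    have h1 : pQ F t (φ (pf i₀)) = pQ F t (pf i₀) := hφ _
    rw [pQ_of_mem hφf, pQ_of_mem hpf, hpf_i] at h1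
    simpa using h1
  have hBef : a * d + b * c = 1 := by
    have h1 := hB (pe i₀) (pf i₀)
    rw [pB_of_mem hφf, pB_of_mem hpf, hpe_i, hpf_i] at h1
    simpa using h1
  -- fixing `x`
  have hx1 := himg x hx
  rw [hfix] at hx1
  have hx2 := congrFun hx1 i₀
  rw [Pi.single_eq_same] at hx2
  have e1 : α = α * a + β * c := congrArg Prod.fst hx2
  have e2 : β = α * b + β * d := congrArg Prod.snd hx2
  by_cases hb0 : b = 0
  · left
    have had : a * d = 1 := by rw [hb0, zero_mul, add_zero] at hBef; exact hBef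
    have hd0 : d ≠ 0 := right_ne_zero_of_mul_eq_one had
    have hc0 : c = 0 := by
      rcases mul_eq_zero.mp hQf with h | h
      · exact h
      · exact absurd h hd0
    have ha1 : a = 1 := by
      rw [hc0, mul_zero, add_zero] at e1
      exact (mul_right_cancel₀ hα0 (by rw [one_mul, mul_comm]; exact e1.symm))
    have hd1 : d = 1 := by rw [ha1, one_mul] at had; exact had
    intro v hv
    rw [himg v hv, hb0, hc0, ha1, hd1]
    conv_rhs => rw [eq_single_of_mem hv]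
    simp
  · right
    have ha0 : a = 0 := by
      rcases mul_eq_zero.mp hQe with h | h
      · exact h
      · exact absurd h hb0
    have hbc : b * c = 1 := by rw [ha0, zero_mul, zero_add] at hBef; exact hBef
    have hc0 : c ≠ 0 := right_ne_zero_of_mul_eq_one hbc
    have hd0 : d = 0 := by
      rcases mul_eq_zero.mp hQf with h | h
      · exact absurd h hc0
      · exact h
    have hcv : c = α * β⁻¹ := by
      rw [ha0, mul_zero, zero_add] at e1
      field_simp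
      linear_combination -e1
    have hbv : b = β * α⁻¹ := by
      rw [hd0, mul_zero, add_zero] at e2
      field_simp
      linear_combination -e2
    intro v hv
    rw [himg v hv, ha0, hd0, hcv, hbv]
    congr 1
    ext <;> simp <;> ring

/-- **HP2-T1FIX** -/
theorem T1FIX (hC : PCtx5 F t S M) (hall : ∀ x, IsPBl x → PCStar S M x)
    {g : PV F t ≃ₗ[F] PV F t} (hg : g ∈ M) {i₀ : Fin t} {x : PV F t} (hx : x ∈ pD F t i₀)
    (hx0 : pQ F t x ≠ 0) {ρ₁ ρ₂ : PV F t ≃ₗ[F] PV F t} (h1 : ρ₁ ∈ S ⊓ pOm F t)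
    (h1y : ρ₁ (g x) = g x) (h2 : ρ₂ ∈ S ⊓ pOm F t) (h2y : ρ₂ (g x) = g x) :
    (∀ v ∈ pD F t i₀, ρ₁ (g v) = g v) ∨ (∀ v ∈ pD F t i₀, ρ₂ (g v) = g v) ∨
      (∀ v ∈ pD F t i₀, (ρ₁ * ρ₂) (g v) = g v) := by
  classical
  have hHM : S ⊓ pOm F t ≤ M := hC.hmin.le
  have hMO : M ≤ oG (pQ F t) := hC.hMO.trans h34_pOm_le
  have hx_ne : x ≠ 0 := by
    rintro rfl
    apply hx0
    simp [pQ_apply]
  -- the conjugates
  have key : ∀ ρ : PV F t ≃ₗ[F] PV F t, ρ ∈ S ⊓ pOm F t → ρ (g x) = g x →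
      (g⁻¹ * ρ * g) ∈ oG (pQ F t) ∧ (∀ v ∈ pD F t i₀, (g⁻¹ * ρ * g) v ∈ pD F t i₀) ∧
        (g⁻¹ * ρ * g) x = x := by
    intro ρ hρ hρy
    have hmem : g⁻¹ * ρ * g ∈ M := M.mul_mem (M.mul_mem (M.inv_mem hg) (hHM hρ)) hg
    have hfix : (g⁻¹ * ρ * g) x = x := by
      rw [LinearEquiv.mul_apply, LinearEquiv.mul_apply, hρy, h34_inv_apply]
    have hS : g⁻¹ * ρ * g ∈ S :=
      hall x ⟨hx0, i₀, hx⟩ _ hmem ⟨1, by rw [hfix, one_smul]⟩
    refine ⟨hMO hmem, ?_, hfix⟩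
    obtain ⟨σ, hσ⟩ := (hC.hS _).mp hS
    have hxσ : x ∈ pD F t (σ i₀) := by
      rw [← hσ i₀]
      exact ⟨x, hx, hfix⟩
    have hσi : σ i₀ = i₀ := by
      by_contra hne
      apply hx_ne
      funext j
      by_cases hj : j = i₀
      · subst hj
        exact hxσ j (Ne.symm hne)
      · exact hx j hj
    intro v hv
    have : (g⁻¹ * ρ * g) v ∈ (pD F t i₀).map ((g⁻¹ * ρ * g : PV F t ≃ₗ[F] PV F t) : PV F t →ₗ[F] PV F t) :=
      ⟨v, hv, rfl⟩
    rw [hσ i₀, hσi] at this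
    exact this
  obtain ⟨ho1, hst1, hf1⟩ := key ρ₁ h1 h1y
  obtain ⟨ho2, hst2, hf2⟩ := key ρ₂ h2 h2y
  -- transfer back
  have back : ∀ ρ : PV F t ≃ₗ[F] PV F t, (∀ v ∈ pD F t i₀, (g⁻¹ * ρ * g) v = v) →
      ∀ v ∈ pD F t i₀, ρ (g v) = g v := by
    intro ρ h v hv
    have := h v hv
    rw [LinearEquiv.mul_apply, LinearEquiv.mul_apply] at this
    have h' := congrArg g this
    rw [h34_apply_inv] at h'
    exact h'
  rcases h34_id_or_swap ho1 hst1 hx hx0 hf1 with hid1 | hsw1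
  · exact Or.inl (back ρ₁ hid1)
  rcases h34_id_or_swap ho2 hst2 hx hx0 hf2 with hid2 | hsw2
  · exact Or.inr (Or.inl (back ρ₂ hid2))
  refine Or.inr (Or.inr (back (ρ₁ * ρ₂) ?_))
  intro v hv
  have hαβ : (x i₀).1 * (x i₀).2 ≠ 0 := by rw [← pQ_of_mem hx]; exact hx0
  have hα0 : (x i₀).1 ≠ 0 := left_ne_zero_of_mul hαβ
  have hβ0 : (x i₀).2 ≠ 0 := right_ne_zero_of_mul hαβ
  have e : g⁻¹ * (ρ₁ * ρ₂) * g = (g⁻¹ * ρ₁ * g) * (g⁻¹ * ρ₂ * g) := by group
  rw [e, LinearEquiv.mul_apply, hsw2 v hv, hsw1 _ (single_mem i₀ _)]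
  conv_rhs => rw [eq_single_of_mem hv]
  congr 1
  simp only [Pi.single_eq_same]
  ext
  · simp only
    field_simp
  · simp only
    field_simp

end Cfsg.Agent.Lib.Helper38_HP5_T1FIX_34
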