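import Mathlib
import Cfsg.Agent.Lib.Helper83_HP2Defs

set_option autoImplicit false
set_option linter.unusedSectionVars false
set_option linter.unusedVariables false

/-!
helper51 — package HP2-REFL2 of helper83's HP2 market (row S5692, plus-type planes): the product of
the reflections in two vectors of the same norm of two different coordinate planes is a commutator
of isometries.  Port of `Helper73_Q2_REFL2`.  Reusable: `pcperm` (coordinate permutation),
`prot1` (rotation of one coordinate), `pQ_of_mem_pD`.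
-/

namespace Cfsg.Agent.Lib.Helper51_HP2_REFL2

open Module Cfsg.Agent.Lib.Helper94_Symp Cfsg.Agent.Lib.Helper94_OrthSmall
  Cfsg.Agent.Lib.Helper94_OrthSiegel Cfsg.Agent.Lib.Helper94_OrthNondeg
  Cfsg.Agent.Lib.Helper29_ODDefs Cfsg.Agent.Lib.Helper94_Q2Defs Cfsg.Agent.Lib.Helper83_HP2Defs

variable {F : Type*} [Field F] [Finite F] {t : ℕ} {S M L : Subgroup (PV F t ≃ₗ[F] PV F t)}

/-- the coordinate permutation `x ↦ x ∘ π` -/
def pcperm (π : Equiv.Perm (Fin t)) : PV F t ≃ₗ[F] PV F t :=
  LinearEquiv.funCongrLeft F (F × F) π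

theorem pcperm_apply (π : Equiv.Perm (Fin t)) (x : PV F t) (j : Fin t) :
    (pcperm π : PV F t ≃ₗ[F] PV F t) x j = x (π j) := rfl

theorem pcperm_mem_oG (π : Equiv.Perm (Fin t)) :
    (pcperm π : PV F t ≃ₗ[F] PV F t) ∈ oG (pQ F t) := by
  intro x
  rw [pQ_apply, pQ_apply]
  exact Equiv.sum_comp π (fun j => (x j).1 * (x j).2)

/-- the rotation of coordinate `m` by `c` (`c' = c⁻¹`), identity on the other coordinates -/
def prot1 (m : Fin t) (c c' : F) (hcc : c * c' = 1) : PV F t ≃ₗ[F] PV F t where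
  toFun x := fun j => if j = m then (c * (x j).1, c' * (x j).2) else x j
  invFun x := fun j => if j = m then (c' * (x j).1, c * (x j).2) else x j
  map_add' x y := by
    funext j
    by_cases hj : j = m
    · simp only [if_pos hj, Pi.add_apply, Prod.fst_add, Prod.snd_add, mul_add, Prod.mk_add_mk]
    · simp only [if_neg hj, Pi.add_apply]
  map_smul' r x := by
    funext j
    by_cases hj : j = m
    · simp only [if_pos hj, Pi.smul_apply, Prod.smul_fst, Prod.smul_snd, smul_eq_mul,
        RingHom.id_apply, Prod.smul_mk]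
      refine Prod.ext ?_ ?_
      · show c * (r * (x j).1) = r * (c * (x j).1)
        ring
      · show c' * (r * (x j).2) = r * (c' * (x j).2)
        ring
    · simp only [if_neg hj, Pi.smul_apply, RingHom.id_apply]
  left_inv x := by
    funext j
    by_cases hj : j = m
    · simp only [if_pos hj]
      refine Prod.ext ?_ ?_
      · show c' * (c * (x j).1) = (x j).1
        rw [← mul_assoc, mul_comm c' c, hcc, one_mul]
      · show c * (c' * (x j).2) = (x j).2
        rw [← mul_assoc, hcc, one_mul]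
    · simp only [if_neg hj]
  right_inv x := by
    funext j
    by_cases hj : j = m
    · simp only [if_pos hj]
      refine Prod.ext ?_ ?_
      · show c * (c' * (x j).1) = (x j).1
        rw [← mul_assoc, hcc, one_mul]
      · show c' * (c * (x j).2) = (x j).2
        rw [← mul_assoc, mul_comm c' c, hcc, one_mul]
    · simp only [if_neg hj]

theorem prot1_apply (m : Fin t) (c c' : F) (hcc : c * c' = 1) (x : PV F t) (j : Fin t) :
    prot1 m c c' hcc x j = if j = m then (c * (x j).1, c' * (x j).2) else x j := rfl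

theorem prot1_mem_oG (m : Fin t) (c c' : F) (hcc : c * c' = 1) :
    prot1 m c c' hcc ∈ oG (pQ F t) := by
  intro x
  rw [pQ_apply, pQ_apply]
  refine Finset.sum_congr rfl (fun j _ => ?_)
  rw [prot1_apply]
  by_cases hj : j = m
  · simp only [if_pos hj]
    calc c * (x j).1 * (c' * (x j).2) = (c * c') * ((x j).1 * (x j).2) := by ring
      _ = (x j).1 * (x j).2 := by rw [hcc, one_mul]
  · simp only [if_neg hj]

theorem pQ_of_mem_pD {l : Fin t} {x : PV F t} (hx : x ∈ pD F t l) :
    pQ F t x = (x l).1 * (x l).2 := by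
  rw [pQ_apply]
  refine Finset.sum_eq_single l (fun j _ hj => ?_) (fun h => absurd (Finset.mem_univ l) h)
  rw [hx j hj]
  simp

theorem prefl_congr {x y : PV F t} (h : x = y) (hx : pQ F t x ≠ 0) (hy : pQ F t y ≠ 0) :
    prefl F t hx = prefl F t hy := by
  subst h
  rfl

/-- **HP2-REFL2** [M] (twin Q2-REFL2) y = g x with g in oG pQ (coordinate transposition (l m) followed by a rotation of coordinate m by (y m).1/(x l).1);
conj_refl: r_y = g r_x g⁻¹, so r_x r_y = [r_x, g]. -/
theorem REFL2 {l m : Fin t} (hlm : l ≠ m) {x y : PV F t} (hx : x ∈ pD F t l)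
    (hy : y ∈ pD F t m) (hQ : pQ F t x = pQ F t y) (hx' : pQ F t x ≠ 0)
    (hy' : pQ F t y ≠ 0) : prefl F t hx' * prefl F t hy' ∈ pOm F t := by
  have hnx : (x l).1 * (x l).2 ≠ 0 := by rw [← pQ_of_mem_pD hx]; exact hx'
  have hny : (y m).1 * (y m).2 ≠ 0 := by rw [← pQ_of_mem_pD hy]; exact hy'
  have hx1 : (x l).1 ≠ 0 := left_ne_zero_of_mul hnx
  have hx2 : (x l).2 ≠ 0 := right_ne_zero_of_mul hnx
  have hy1 : (y m).1 ≠ 0 := left_ne_zero_of_mul hny
  have hy2 : (y m).2 ≠ 0 := right_ne_zero_of_mul hny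
  have hnxy : (x l).1 * (x l).2 = (y m).1 * (y m).2 := by
    rw [← pQ_of_mem_pD hx, ← pQ_of_mem_pD hy, hQ]
  -- the rotation factor
  let c : F := (y m).1 * ((x l).1)⁻¹
  let c' : F := (y m).2 * ((x l).2)⁻¹
  have hcc : c * c' = 1 := by
    show (y m).1 * ((x l).1)⁻¹ * ((y m).2 * ((x l).2)⁻¹) = 1
    have : (y m).1 * ((x l).1)⁻¹ * ((y m).2 * ((x l).2)⁻¹) =
        ((y m).1 * (y m).2) * ((x l).1 * (x l).2)⁻¹ := by
      rw [mul_inv]; ring
    rw [this, ← hnxy, mul_inv_cancel₀ hnx]
  have hc1 : c * (x l).1 = (y m).1 := by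
    show (y m).1 * ((x l).1)⁻¹ * (x l).1 = (y m).1
    rw [mul_assoc, inv_mul_cancel₀ hx1, mul_one]
  have hc2 : c' * (x l).2 = (y m).2 := by
    show (y m).2 * ((x l).2)⁻¹ * (x l).2 = (y m).2
    rw [mul_assoc, inv_mul_cancel₀ hx2, mul_one]
  let g : PV F t ≃ₗ[F] PV F t := prot1 m c c' hcc * pcperm (Equiv.swap l m)
  have hg : g ∈ oG (pQ F t) :=
    Subgroup.mul_mem _ (prot1_mem_oG m c c' hcc) (pcperm_mem_oG _)
  have hgx : g x = y := by
    funext j
    show prot1 m c c' hcc (pcperm (Equiv.swap l m) x) j = y j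
    rw [prot1_apply]
    by_cases hj : j = m
    · rw [if_pos hj, pcperm_apply, hj, Equiv.swap_apply_right]
      exact Prod.ext hc1 hc2
    · rw [if_neg hj, pcperm_apply, hy j hj]
      by_cases hjl : j = l
      · rw [hjl, Equiv.swap_apply_left]
        exact hx m (fun h => hlm h.symm)
      · rw [Equiv.swap_apply_of_ne_of_ne hjl hj]
        exact hx j hjl
  have hgx' : pQ F t (g x) ≠ 0 := by rw [hgx]; exact hy'
  have hconj : g * prefl F t hx' * g⁻¹ = prefl F t hgx' :=
    conj_refl (pQ F t) (pB F t) (pQs F t) (pQp F t) hg hx'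
  rw [prefl_congr hgx hgx' hy'] at hconj
  have hmem := Subgroup.commutator_mem_commutator
    (refl_mem (pQ F t) (pB F t) (pQs F t) (pQp F t) hx') hg
  rw [commutatorElement_def, refl_inv] at hmem
  have heq : prefl F t hx' * prefl F t hy' =
      prefl F t hx' * g * prefl F t hx' * g⁻¹ := by
    rw [← hconj]
    group
  rw [heq]
  exact hmem

end Cfsg.Agent.Lib.Helper51_HP2_REFL2
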