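import Mathlib
import Cfsg.Agent.Lib.Helper83_HP2Defs
import Cfsg.Agent.Lib.Helper38_HP5Defs
import Cfsg.Agent.Lib.Helper38_HP5_T1FIX_34
import Cfsg.Agent.Lib.Helper43_HP2_BASIC
import Cfsg.Agent.Lib.Helper51_HP2_REFL2
import Cfsg.Agent.Lib.Helper38_HP5_T1IMG_58
import Cfsg.Agent.Lib.Helper78_HP2_BLREFL

set_option autoImplicit false
set_option linter.unusedSectionVars false
set_option linter.unusedVariables false

/-! HP2-T1LY (helper83's HP2 market): in case (T-1) the image of a nonsingular vector of a plane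
under `g ∈ M \ S` has at most three nonsingular coordinates. -/

/-! PORT by helper38 of `Cfsg.Agent.Lib.Helper83_HP2_T1LY` (helper83's HP2 market) to the contexts
`PCtx5` / `PCtxR5` (`5 ≤ t` instead of `7 ≤ t`); generated mechanically, proofs unchanged. -/

namespace Cfsg.Agent.Lib.Helper38_HP5_T1LY_83

open Cfsg.Agent.Lib.Helper38_HP5Defs

open Module Cfsg.Agent.Lib.Helper94_Symp Cfsg.Agent.Lib.Helper94_OrthSmall
  Cfsg.Agent.Lib.Helper94_OrthSiegel Cfsg.Agent.Lib.Helper94_OrthNondeg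
  Cfsg.Agent.Lib.Helper29_ODDefs Cfsg.Agent.Lib.Helper94_Q2Defs Cfsg.Agent.Lib.Helper83_HP2Defs

open Cfsg.Agent.Lib.Helper38_HP5_T1FIX_34 (T1FIX)
open Cfsg.Agent.Lib.Helper43_HP2_BASIC (pQ_of_mem pB_of_mem single_mem eq_single_of_mem)
open Cfsg.Agent.Lib.Helper51_HP2_REFL2 (REFL2)
open Cfsg.Agent.Lib.Helper38_HP5_T1IMG_58 (T1IMG T1IMG')
open Cfsg.Agent.Lib.Helper78_HP2_BLREFL (BLREFL)

variable {F : Type*} [Field F] [Finite F] {t : ℕ} {S M L : Subgroup (PV F t ≃ₗ[F] PV F t)}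

/-! ### square classes -/

/-- `u` and `v` lie in the same square class -/
def SameCl (u v : F) : Prop := ∃ c : F, c ≠ 0 ∧ u = c * c * v

lemma SameCl.symm {u v : F} (h : SameCl u v) : SameCl v u := by
  obtain ⟨c, hc, rfl⟩ := h
  exact ⟨c⁻¹, inv_ne_zero hc, by field_simp⟩

lemma SameCl.trans {u v w : F} (h : SameCl u v) (h' : SameCl v w) : SameCl u w := by
  obtain ⟨c, hc, rfl⟩ := h
  obtain ⟨d, hd, rfl⟩ := h'
  exact ⟨c * d, mul_ne_zero hc hd, by ring⟩

lemma sameCl_of_isSquare {u v : F} (hu : u ≠ 0) (hv : v ≠ 0) (h : IsSquare (u * v)) :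
    SameCl u v := by
  obtain ⟨μ, hμ⟩ := h
  have hμ0 : μ ≠ 0 := by
    rintro rfl
    rw [mul_zero] at hμ
    exact mul_ne_zero hu hv hμ
  refine ⟨μ / v, div_ne_zero hμ0 hv, ?_⟩
  field_simp
  linear_combination hμ

lemma nonsq_mul {x y : F} (hx : ¬ IsSquare x) (hy : ¬ IsSquare y) : IsSquare (x * y) := by
  classical
  have : Fintype F := Fintype.ofFinite F
  by_cases h2 : ringChar F = 2
  · exact FiniteField.isSquare_of_char_two h2 _
  · have hx0 : x ≠ 0 := by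
      rintro rfl
      exact hx ⟨0, by ring⟩
    have hy0 : y ≠ 0 := by
      rintro rfl
      exact hy ⟨0, by ring⟩
    rw [← quadraticChar_one_iff_isSquare (mul_ne_zero hx0 hy0), map_mul,
      quadraticChar_neg_one_iff_not_isSquare.2 hx, quadraticChar_neg_one_iff_not_isSquare.2 hy]
    norm_num

lemma sameCl_three {a b c : F} (ha : a ≠ 0) (hb : b ≠ 0) (hc : c ≠ 0) :
    SameCl a b ∨ SameCl a c ∨ SameCl b c := by
  by_cases h1 : IsSquare (a * b)
  · exact Or.inl (sameCl_of_isSquare ha hb h1)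
  by_cases h2 : IsSquare (a * c)
  · exact Or.inr (Or.inl (sameCl_of_isSquare ha hc h2))
  right; right
  obtain ⟨μ, hμ⟩ := nonsq_mul h1 h2
  apply sameCl_of_isSquare hb hc
  refine ⟨μ / a, ?_⟩
  field_simp
  linear_combination hμ

/-! ### reflections in vectors of the planes -/

lemma prefl_apply {a : PV F t} (ha : pQ F t a ≠ 0) (v : PV F t) :
    prefl F t ha v = v - ((pQ F t a)⁻¹ * pB F t v a) • a :=
  refl_apply (pQ F t) (pB F t) (pQs F t) (pQp F t) ha v

lemma prefl_smul {a : PV F t} (ha : pQ F t a ≠ 0) {c : F} (hc : c ≠ 0)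
    (hca : pQ F t (c • a) ≠ 0) : prefl F t hca = prefl F t ha := by
  ext v : 1
  rw [prefl_apply, prefl_apply, pQs, map_smul, smul_smul]
  congr 2
  rw [smul_eq_mul]
  field_simp

lemma prefl_sq {a : PV F t} (ha : pQ F t a ≠ 0) : prefl F t ha * prefl F t ha = 1 := by
  have h := refl_inv (pQ F t) (pB F t) (pQs F t) (pQp F t) ha
  exact mul_eq_one_iff_inv_eq.mpr h

lemma prefl_coord_ne {n : PV F t} {l : Fin t} (hn : n ∈ pD F t l) (hn0 : pQ F t n ≠ 0)
    (w : PV F t) {j : Fin t} (hj : j ≠ l) : prefl F t hn0 w j = w j := by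
  rw [prefl_apply, Pi.sub_apply, Pi.smul_apply, hn j hj, smul_zero, sub_zero]

lemma prefl_fix {n : PV F t} (hn0 : pQ F t n ≠ 0) {y : PV F t} (h : pB F t y n = 0) :
    prefl F t hn0 y = y := by
  rw [prefl_apply, h, mul_zero, zero_smul, sub_zero]

/-- the product of two reflections in vectors of different planes with norms in the same square
class lies in `H` -/
lemma pair_mem (hS : IsDStab (pD F t) S) {l l' : Fin t} (hll' : l ≠ l') {n n' : PV F t}
    (hn : n ∈ pD F t l) (hn' : n' ∈ pD F t l') (hn0 : pQ F t n ≠ 0) (hn0' : pQ F t n' ≠ 0)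
    (hcl : SameCl (pQ F t n) (pQ F t n')) :
    prefl F t hn0 * prefl F t hn0' ∈ S ⊓ pOm F t := by
  obtain ⟨c, hc, hQ⟩ := hcl
  have h1 : pQ F t (c • n') ≠ 0 := by rw [pQs, ← hQ]; exact hn0
  have h2 := REFL2 hll' hn ((pD F t l').smul_mem c hn') (by rw [pQs, hQ]) hn0 h1
  rw [prefl_smul hn0' hc h1] at h2
  exact ⟨S.mul_mem (BLREFL S hS ⟨hn0, l, hn⟩ hn0) (BLREFL S hS ⟨hn0', l', hn'⟩ hn0'), h2⟩

/-- if `r_n * X` fixes `v`, where `X` does not change the coordinate `l` of `n`, then `v ⊥ n` -/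
lemma first_index {n : PV F t} {l : Fin t} (hn : n ∈ pD F t l) (hn0 : pQ F t n ≠ 0)
    (hnl : n l ≠ 0) {X : PV F t ≃ₗ[F] PV F t} (hX : ∀ w, X w l = w l) {v : PV F t}
    (hfix : (prefl F t hn0 * X) v = v) : pB F t v n = 0 := by
  have h1 := congrFun hfix l
  rw [LinearEquiv.mul_apply, prefl_apply, Pi.sub_apply, Pi.smul_apply, hX] at h1
  have h2 : ((pQ F t n)⁻¹ * pB F t (X v) n) • n l = 0 := sub_eq_self.1 h1
  have h3 : (pQ F t n)⁻¹ * pB F t (X v) n = 0 := (smul_eq_zero.1 h2).resolve_right hnl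
  have h4 : pB F t (X v) n = 0 := (mul_eq_zero.1 h3).resolve_left (inv_ne_zero hn0)
  rw [pB_of_mem hn, hX] at h4
  rw [pB_of_mem hn]
  exact h4

lemma single_eq (i : Fin t) (α β : F) :
    (Pi.single i (α, β) : PV F t) = α • pe i + β • pf i := by
  unfold pe pf
  rw [← Pi.single_smul, ← Pi.single_smul, ← Pi.single_add]
  simp

lemma pQ_single (i : Fin t) (α β : F) : pQ F t (Pi.single i (α, β)) = α * β := by
  rw [pQ_of_mem (single_mem i _), Pi.single_eq_same]

/-- the contradiction: all vectors of `g (pD i₀)` are proportional to `ζ = (g x) L` at `L` -/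
lemma kill (hC : PCtx5 F t S M)
    (hFS : ∀ g ∈ M, g ∉ S → ∀ x, IsPBl x → ∀ l, g x l ≠ 0)
    {g : PV F t ≃ₗ[F] PV F t} (hg : g ∈ M) (hgS : g ∉ S) {i₀ : Fin t} {x : PV F t}
    (hx : x ∈ pD F t i₀) (L : Fin t) (hζ : ¬ Sing (g x L))
    (hfix : ∀ v ∈ pD F t i₀,
      pB F t (g v) (Pi.single L ((g x L).1, -(g x L).2)) = 0) : False := by
  have hζ1 : (g x L).1 ≠ 0 := fun h => hζ (by unfold Sing; rw [h, zero_mul])
  have hζ2 : (g x L).2 ≠ 0 := fun h => hζ (by unfold Sing; rw [h, mul_zero])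
  have key : ∀ v ∈ pD F t i₀, g v L = ((g v L).1 / (g x L).1) • g x L := by
    intro v hv
    have h := hfix v hv
    rw [pB_of_mem (single_mem L _), Pi.single_eq_same] at h
    simp only at h
    refine Prod.ext ?_ ?_
    · simp only [Prod.smul_fst, smul_eq_mul]
      field_simp
    · simp only [Prod.smul_snd, smul_eq_mul]
      field_simp
      linear_combination h
  have hpe : (pe i₀ : PV F t) ∈ pD F t i₀ := single_mem i₀ _
  have hpf : (pf i₀ : PV F t) ∈ pD F t i₀ := single_mem i₀ _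
  obtain ⟨σ, hσ⟩ : ∃ σ : F, g (pe i₀) L = σ • g x L := ⟨_, key _ hpe⟩
  obtain ⟨lam, hlam⟩ : ∃ lam : F, g (pf i₀) L = lam • g x L := ⟨_, key _ hpf⟩
  have hxe : g x L = ((x i₀).1 * σ + (x i₀).2 * lam) • g x L := by
    conv_lhs => rw [eq_single_of_mem hx]
    rw [show (x i₀) = ((x i₀).1, (x i₀).2) from rfl, single_eq, map_add, map_smul, map_smul,
      Pi.add_apply, Pi.smul_apply, Pi.smul_apply, hσ, hlam, smul_smul, smul_smul, ← add_smul]
  have hsing : ∀ c : F, Sing (c • g x L) → c = 0 := by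
    intro c hc
    unfold Sing at hc
    simp only [Prod.smul_fst, Prod.smul_snd, smul_eq_mul] at hc
    by_contra hc0
    have : c * (g x L).1 * (c * (g x L).2) ≠ 0 :=
      mul_ne_zero (mul_ne_zero hc0 hζ1) (mul_ne_zero hc0 hζ2)
    exact this hc
  have hboth : σ = 0 ∧ lam = 0 → False := by
    rintro ⟨h1, h2⟩
    rw [h1, h2, mul_zero, mul_zero, add_zero, zero_smul] at hxe
    exact hζ1 (by rw [hxe]; rfl)
  by_cases hσ0 : σ = 0
  · have hs : g (pe i₀) L = 0 := by rw [hσ, hσ0, zero_smul]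
    have := T1IMG hC hFS hg hgS i₀ L hs
    rw [hlam] at this
    exact hboth ⟨hσ0, hsing _ this⟩
  by_cases hl0 : lam = 0
  · have hs : g (pf i₀) L = 0 := by rw [hlam, hl0, zero_smul]
    have := T1IMG' hC hFS hg hgS i₀ L hs
    rw [hσ] at this
    exact hσ0 (hsing _ this)
  · have hbl : IsPBl (Pi.single i₀ (lam, -σ) : PV F t) :=
      ⟨by rw [pQ_single]; exact mul_ne_zero hl0 (neg_ne_zero.2 hσ0), i₀, single_mem i₀ _⟩
    apply hFS g hg hgS _ hbl L
    rw [single_eq, map_add, map_smul, map_smul, Pi.add_apply, Pi.smul_apply, Pi.smul_apply, hσ,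
      hlam, smul_smul, smul_smul, ← add_smul]
    have : lam * σ + -σ * lam = 0 := by ring
    rw [this, zero_smul]

/-! ### the combinatorics of four square classes -/

lemma combin {G : Fin 4 → Fin 4 → Prop} (hsymm : ∀ a b, G a b → G b a)
    (three : ∀ a b c, a ≠ b → a ≠ c → b ≠ c → G a b ∨ G a c ∨ G b c) :
    (∃ a b c, a ≠ b ∧ b ≠ c ∧ a ≠ c ∧ G a b ∧ G b c) ∨
      (∃ a b c d, a ≠ b ∧ a ≠ c ∧ a ≠ d ∧ b ≠ c ∧ b ≠ d ∧ c ≠ d ∧ G a b ∧ G c d) := by
  have aux : ∀ a b c d : Fin 4, a ≠ b → a ≠ c → a ≠ d → b ≠ c → b ≠ d → c ≠ d → G a b →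
      (∃ a b c, a ≠ b ∧ b ≠ c ∧ a ≠ c ∧ G a b ∧ G b c) ∨
      (∃ a b c d, a ≠ b ∧ a ≠ c ∧ a ≠ d ∧ b ≠ c ∧ b ≠ d ∧ c ≠ d ∧ G a b ∧ G c d) := by
    intro a b c d hab hac had hbc hbd hcd h
    by_cases h1 : G b c
    · exact Or.inl ⟨a, b, c, hab, hbc, hac, h, h1⟩
    by_cases h2 : G a c
    · exact Or.inl ⟨b, a, c, hab.symm, hac, hbc, hsymm _ _ h, h2⟩
    rcases three a c d hac had hcd with h3 | h3 | h3
    · exact absurd h3 h2
    · exact Or.inl ⟨b, a, d, hab.symm, had, hbd, hsymm _ _ h, h3⟩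
    · exact Or.inr ⟨a, b, c, d, hab, hac, had, hbc, hbd, hcd, h, h3⟩
  rcases three 0 1 2 (by decide) (by decide) (by decide) with h | h | h
  · exact aux 0 1 2 3 (by decide) (by decide) (by decide) (by decide) (by decide) (by decide) h
  · exact aux 0 2 1 3 (by decide) (by decide) (by decide) (by decide) (by decide) (by decide) h
  · exact aux 1 2 0 3 (by decide) (by decide) (by decide) (by decide) (by decide) (by decide) h

/-- **HP2-T1LY** -/
theorem T1LY (hC : PCtx5 F t S M) (hall : ∀ x, IsPBl x → PCStar S M x)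
    (hFS : ∀ g ∈ M, g ∉ S → ∀ x, IsPBl x → ∀ l, g x l ≠ 0)
    {g : PV F t ≃ₗ[F] PV F t} (hg : g ∈ M) (hgS : g ∉ S) {i₀ : Fin t} {x : PV F t}
    (hx : x ∈ pD F t i₀) (hx0 : pQ F t x ≠ 0) (l : Fin 4 → Fin t) (hl : Function.Injective l)
    (hk : ∀ k, ¬ Sing (g x (l k))) : False := by
  have hS := hC.hS
  have hζ1 : ∀ k, (g x (l k)).1 ≠ 0 := fun k h => hk k (by unfold Sing; rw [h, zero_mul])
  have hζ2 : ∀ k, (g x (l k)).2 ≠ 0 := fun k h => hk k (by unfold Sing; rw [h, mul_zero])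
  obtain ⟨n, hndef⟩ : ∃ n : Fin 4 → PV F t,
      ∀ k, n k = Pi.single (l k) ((g x (l k)).1, -(g x (l k)).2) := ⟨_, fun _ => rfl⟩
  have hnm : ∀ k, n k ∈ pD F t (l k) := fun k => by rw [hndef]; exact single_mem _ _
  have hnq : ∀ k, pQ F t (n k) = -((g x (l k)).1 * (g x (l k)).2) := by
    intro k
    rw [hndef, pQ_single]; ring
  have hn0 : ∀ k, pQ F t (n k) ≠ 0 := by
    intro k
    rw [hnq]
    exact neg_ne_zero.2 (mul_ne_zero (hζ1 k) (hζ2 k))
  have hnl : ∀ k, n k (l k) ≠ 0 := by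
    intro k h
    rw [hndef, Pi.single_eq_same] at h
    exact hζ1 k (congrArg Prod.fst h)
  have hyn : ∀ k, pB F t (g x) (n k) = 0 := by
    intro k
    rw [pB_of_mem (hnm k), hndef, Pi.single_eq_same]
    ring
  have hry : ∀ k, prefl F t (hn0 k) (g x) = g x := fun k => prefl_fix (hn0 k) (hyn k)
  have hll : ∀ a b, a ≠ b → l a ≠ l b := fun a b hab h => hab (hl h)
  have hpair : ∀ a b, a ≠ b → SameCl (pQ F t (n a)) (pQ F t (n b)) →
      prefl F t (hn0 a) * prefl F t (hn0 b) ∈ S ⊓ pOm F t ∧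
        (prefl F t (hn0 a) * prefl F t (hn0 b)) (g x) = g x := by
    intro a b hab hcl
    refine ⟨pair_mem hS (hll a b hab) (hnm a) (hnm b) (hn0 a) (hn0 b) hcl, ?_⟩
    rw [LinearEquiv.mul_apply, hry, hry]
  have hfixc : ∀ a b, a ≠ b → ∀ w, prefl F t (hn0 b) w (l a) = w (l a) :=
    fun a b hab w => prefl_coord_ne (hnm b) (hn0 b) w (hll a b hab)
  -- a product starting with `r_a` which fixes `g (pD i₀)` pointwise is impossible
  have hkill : ∀ a (X : PV F t ≃ₗ[F] PV F t), (∀ w, X w (l a) = w (l a)) →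
      (∀ v ∈ pD F t i₀, (prefl F t (hn0 a) * X) (g v) = g v) → False := by
    intro a X hX hfix
    apply kill hC hFS hg hgS hx (l a) (hk a)
    intro v hv
    rw [← hndef]
    exact first_index (hnm a) (hn0 a) (hnl a) hX (hfix v hv)
  rcases combin (G := fun a b => SameCl (pQ F t (n a)) (pQ F t (n b)))
      (fun a b h => h.symm)
      (fun a b c _ _ _ => sameCl_three (hn0 a) (hn0 b) (hn0 c)) with
    ⟨a, b, c, hab, hbc, hac, h1, h2⟩ | ⟨a, b, c, d, hab, hac, had, hbc, hbd, hcd, h1, h2⟩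
  · obtain ⟨hρ1, hρ1y⟩ := hpair a b hab h1
    obtain ⟨hρ2, hρ2y⟩ := hpair b c hbc h2
    rcases T1FIX hC hall hg hx hx0 hρ1 hρ1y hρ2 hρ2y with h | h | h
    · exact hkill a _ (hfixc a b hab) h
    · exact hkill b _ (hfixc b c hbc) h
    · have e : prefl F t (hn0 a) * prefl F t (hn0 b) * (prefl F t (hn0 b) * prefl F t (hn0 c)) =
          prefl F t (hn0 a) * prefl F t (hn0 c) := by
        rw [mul_assoc, ← mul_assoc (prefl F t (hn0 b)), prefl_sq, one_mul]
      rw [e] at h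
      exact hkill a _ (hfixc a c hac) h
  · obtain ⟨hρ1, hρ1y⟩ := hpair a b hab h1
    obtain ⟨hρ2, hρ2y⟩ := hpair c d hcd h2
    rcases T1FIX hC hall hg hx hx0 hρ1 hρ1y hρ2 hρ2y with h | h | h
    · exact hkill a _ (hfixc a b hab) h
    · exact hkill c _ (hfixc c d hcd) h
    · rw [mul_assoc] at h
      refine hkill a _ ?_ h
      intro w
      rw [LinearEquiv.mul_apply, LinearEquiv.mul_apply, hfixc a b hab, hfixc a c hac,
        hfixc a d had]

end Cfsg.Agent.Lib.Helper38_HP5_T1LY_83
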