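import Mathlib
import Cfsg.Agent.Lib.Helper83_HP2Defs

/-!
HP2 market (helper83, row S5692), package HP2-T1COMM: the commutator of the rotation `A` of the
plane `pD l` with the conjugate `g R g⁻¹` of the rotation `R` of the plane `pD i₀`, when
`s = g (pe i₀)` vanishes at `l` and `ℓ = g (pf i₀)` is singular at `l`: a Siegel-type element
`x ↦ x + θ (B(x, ε) s - B(x, s) ε)`.
-/

set_option autoImplicit false
set_option linter.unusedSectionVars false
set_option linter.unusedVariables false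

namespace Cfsg.Agent.Lib.Helper92_HP2_T1COMM

open Module Cfsg.Agent.Lib.Helper94_Symp Cfsg.Agent.Lib.Helper94_OrthSmall
  Cfsg.Agent.Lib.Helper94_OrthSiegel Cfsg.Agent.Lib.Helper94_OrthNondeg
  Cfsg.Agent.Lib.Helper29_ODDefs Cfsg.Agent.Lib.Helper94_Q2Defs Cfsg.Agent.Lib.Helper83_HP2Defs

variable {F : Type*} [Field F] [Finite F] {t : ℕ} {S M L : Subgroup (PV F t ≃ₗ[F] PV F t)}

/-- the abstract computation: `A R' = K R' A` for two "rotations" of hyperbolic pairs `(e, f)`,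
`(s, ℓ)` with the given inner products -/
theorem h01_calc {V : Type*} [AddCommGroup V] [Module F V] (B : LinearMap.BilinForm F V)
    (s ℓ e f : V) (κ a b : F) (ha : a ≠ 0) (hb : b ≠ 0)
    (hsf : B s f = 0) (hlf : B ℓ f = κ) (hse : B s e = 0) (hle : B ℓ e = 0)
    (hel : B e ℓ = 0) (hfl : B f ℓ = κ) (hes : B e s = 0) (hfs : B f s = 0)
    (hee : B e e = 0) (hfe : B f e = 1) (hls : B ℓ s = 1) (hss : B s s = 0)
    (A R' : V → V)
    (hA : ∀ z, A z = z + ((a - 1) * B z f) • e + ((a⁻¹ - 1) * B z e) • f)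
    (hR' : ∀ z, R' z = z + ((b - 1) * B z ℓ) • s + ((b⁻¹ - 1) * B z s) • ℓ) (y : V) :
    A (R' y) = R' (A y) + (κ * (a - 1) * (b - 1)) •
      (B (R' (A y)) e • s - B (R' (A y)) s • e) := by
  rw [hA (R' y), hR' y, hR' (A y), hA y]
  simp only [map_add, map_smul, LinearMap.add_apply, LinearMap.smul_apply, smul_eq_mul,
    hsf, hlf, hse, hle, hel, hfl, hes, hfs, hee, hfe, hls, hss, mul_zero, add_zero, mul_one]
  obtain ⟨a', ha'⟩ : ∃ a', a' = a⁻¹ := ⟨_, rfl⟩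
  obtain ⟨b', hb'⟩ : ∃ b', b' = b⁻¹ := ⟨_, rfl⟩
  have haa : a * a' = 1 := by rw [ha']; exact mul_inv_cancel₀ ha
  have hbb : b * b' = 1 := by rw [hb']; exact mul_inv_cancel₀ hb
  rw [← ha', ← hb']
  linear_combination (norm := module) (-((b - 1) * κ * B y e) * haa) • s +
    (((a - 1) * κ * B y s) * hbb) • e

theorem h02_pB_pe (x : PV F t) (l : Fin t) : pB F t x (pe l) = (x l).2 := by
  rw [pB_apply, Finset.sum_eq_single l]
  · simp [pe]
  · intro j _ hj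
    simp [pe, hj]
  · intro h; exact absurd (Finset.mem_univ l) h

theorem h03_pB_pf (x : PV F t) (l : Fin t) : pB F t x (pf l) = (x l).1 := by
  rw [pB_apply, Finset.sum_eq_single l]
  · simp [pf]
  · intro j _ hj
    simp [pf, hj]
  · intro h; exact absurd (Finset.mem_univ l) h

theorem h04_symm (x y : PV F t) : pB F t x y = pB F t y x :=
  B_symm (pQ F t) (pB F t) (pQp F t) x y

/-- a coordinate rotation in terms of the polar form -/
theorem h05_rot (A : PV F t ≃ₗ[F] PV F t) (l : Fin t) (a : F)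
    (hA : ∀ x j, A x j = if j = l then rotAct a (x j) else x j) (z : PV F t) :
    A z = z + ((a - 1) * pB F t z (pf l)) • (pe l : PV F t) +
      ((a⁻¹ - 1) * pB F t z (pe l)) • (pf l : PV F t) := by
  funext j
  rw [hA, h02_pB_pe, h03_pB_pf]
  by_cases hj : j = l
  · subst hj
    rw [if_pos rfl]
    apply Prod.ext
    · simp [rotAct, pe, pf]; ring
    · simp [rotAct, pe, pf]; ring
  · rw [if_neg hj]
    simp [pe, pf, hj]

/-- the conjugate of a coordinate rotation by an isometry -/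
theorem h06_conj {g : PV F t ≃ₗ[F] PV F t} (hg : g ∈ oG (pQ F t)) (i₀ : Fin t) (b : F)
    (R : PV F t ≃ₗ[F] PV F t)
    (hR : ∀ x j, R x j = if j = i₀ then rotAct b (x j) else x j) (z : PV F t) :
    (g * R * g⁻¹) z = z + ((b - 1) * pB F t z (g (pf i₀))) • g (pe i₀) +
      ((b⁻¹ - 1) * pB F t z (g (pe i₀))) • g (pf i₀) := by
  have h1 : (g * R * g⁻¹) z = g (R (g⁻¹ z)) := rfl
  rw [h1, h05_rot R i₀ b hR (g⁻¹ z), map_add, map_add, map_smul, map_smul]
  have hz : g (g⁻¹ z) = z := apply_inv_apply' g z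
  have e1 : pB F t (g⁻¹ z) (pf i₀) = pB F t z (g (pf i₀)) := by
    rw [← oG_B (pQ F t) (pB F t) (pQp F t) hg (g⁻¹ z) (pf i₀), hz]
  have e2 : pB F t (g⁻¹ z) (pe i₀) = pB F t z (g (pe i₀)) := by
    rw [← oG_B (pQ F t) (pB F t) (pQp F t) hg (g⁻¹ z) (pe i₀), hz]
  rw [hz, e1, e2]

/-- **HP2-T1COMM** -/
theorem T1COMM {g : PV F t ≃ₗ[F] PV F t} (hg : g ∈ oG (pQ F t)) (i₀ l : Fin t)
    (hsl : g (pe i₀) l = 0) {κ : F} (hℓl : g (pf i₀) l = (κ, 0)) {a b : F} (ha : a ≠ 0)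
    (hb : b ≠ 0) (A R : PV F t ≃ₗ[F] PV F t)
    (hA : ∀ x j, A x j = if j = l then rotAct a (x j) else x j)
    (hR : ∀ x j, R x j = if j = i₀ then rotAct b (x j) else x j) :
    ∀ x, (A * (g * R * g⁻¹) * A⁻¹ * (g * R * g⁻¹)⁻¹) x =
      x + (κ * (a - 1) * (b - 1)) •
        (pB F t x (pe l) • g (pe i₀) - pB F t x (g (pe i₀)) • (pe l : PV F t)) := by
  intro x
  set R' : PV F t ≃ₗ[F] PV F t := g * R * g⁻¹ with hR'def
  set y : PV F t := A⁻¹ (R'⁻¹ x) with hy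
  have hx : x = R' (A y) := by
    rw [hy, apply_inv_apply', apply_inv_apply']
  have hL : (A * R' * A⁻¹ * R'⁻¹) x = A (R' y) := rfl
  have hoB := oG_B (pQ F t) (pB F t) (pQp F t) hg
  have key := h01_calc (pB F t) (g (pe i₀)) (g (pf i₀)) (pe l) (pf l) κ a b ha hb
    (by rw [h03_pB_pf, hsl]; rfl) (by rw [h03_pB_pf, hℓl])
    (by rw [h02_pB_pe, hsl]; rfl) (by rw [h02_pB_pe, hℓl])
    (by rw [h04_symm, h02_pB_pe, hℓl]) (by rw [h04_symm, h03_pB_pf, hℓl])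
    (by rw [h04_symm, h02_pB_pe, hsl]; rfl) (by rw [h04_symm, h03_pB_pf, hsl]; rfl)
    (by rw [h02_pB_pe]; simp [pe]) (by rw [h02_pB_pe]; simp [pf])
    (by rw [hoB, h02_pB_pe]; simp [pf]) (by rw [hoB, h02_pB_pe]; simp [pe])
    (fun z => A z) (fun z => R' z) (h05_rot A l a hA) (h06_conj hg i₀ b R hR) y
  rw [hL, key, ← hx]

/-- the same when `ℓ l` is a multiple of `pf l` -/
theorem T1COMM' {g : PV F t ≃ₗ[F] PV F t} (hg : g ∈ oG (pQ F t)) (i₀ l : Fin t)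
    (hsl : g (pe i₀) l = 0) {κ : F} (hℓl : g (pf i₀) l = (0, κ)) {a b : F} (ha : a ≠ 0)
    (hb : b ≠ 0) (A R : PV F t ≃ₗ[F] PV F t)
    (hA : ∀ x j, A x j = if j = l then rotAct a (x j) else x j)
    (hR : ∀ x j, R x j = if j = i₀ then rotAct b (x j) else x j) :
    ∀ x, (A * (g * R * g⁻¹) * A⁻¹ * (g * R * g⁻¹)⁻¹) x =
      x + (κ * (a⁻¹ - 1) * (b - 1)) •
        (pB F t x (pf l) • g (pe i₀) - pB F t x (g (pe i₀)) • (pf l : PV F t)) := by
  intro x
  set R' : PV F t ≃ₗ[F] PV F t := g * R * g⁻¹ with hR'def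
  set y : PV F t := A⁻¹ (R'⁻¹ x) with hy
  have hx : x = R' (A y) := by
    rw [hy, apply_inv_apply', apply_inv_apply']
  have hL : (A * R' * A⁻¹ * R'⁻¹) x = A (R' y) := rfl
  have hoB := oG_B (pQ F t) (pB F t) (pQp F t) hg
  have hA' : ∀ z, A z = z + ((a⁻¹ - 1) * pB F t z (pe l)) • (pf l : PV F t) +
      ((a⁻¹⁻¹ - 1) * pB F t z (pf l)) • (pe l : PV F t) := by
    intro z
    rw [h05_rot A l a hA z, inv_inv]
    abel
  have key := h01_calc (pB F t) (g (pe i₀)) (g (pf i₀)) (pf l) (pe l) κ a⁻¹ b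
    (inv_ne_zero ha) hb
    (by rw [h02_pB_pe, hsl]; rfl) (by rw [h02_pB_pe, hℓl])
    (by rw [h03_pB_pf, hsl]; rfl) (by rw [h03_pB_pf, hℓl])
    (by rw [h04_symm, h03_pB_pf, hℓl]) (by rw [h04_symm, h02_pB_pe, hℓl])
    (by rw [h04_symm, h03_pB_pf, hsl]; rfl) (by rw [h04_symm, h02_pB_pe, hsl]; rfl)
    (by rw [h03_pB_pf]; simp [pf]) (by rw [h03_pB_pf]; simp [pe])
    (by rw [hoB, h02_pB_pe]; simp [pf]) (by rw [hoB, h02_pB_pe]; simp [pe])
    (fun z => A z) (fun z => R' z) hA' (h06_conj hg i₀ b R hR) y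
  rw [hL, key, ← hx]

end Cfsg.Agent.Lib.Helper92_HP2_T1COMM
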