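import Mathlib
import Cfsg.Agent.Lib.Helper83_HP2Defs
import Cfsg.Agent.Lib.Helper38_HP5Defs
import Cfsg.Agent.Lib.Helper10_HP2_Z4
import Cfsg.Agent.Lib.Helper38_HP5_T1EX
import Cfsg.Agent.Lib.Helper43_HP2_BASIC
import Cfsg.Agent.Lib.Helper51_HP2_REFL2
import Cfsg.Agent.Lib.Helper38_HP5_FS_55
import Cfsg.Agent.Lib.Helper38_HP5_T1IMG_58
import Cfsg.Agent.Lib.Helper38_HP5_T1KILL_58
import Cfsg.Agent.Lib.Helper61_HP2_ROT
import Cfsg.Agent.Lib.Helper65_HP2_ROTB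
import Cfsg.Agent.Lib.Helper70_HP2_SWPREFL
import Cfsg.Agent.Lib.Helper78_HP2_BLREFL
import Cfsg.Agent.Lib.Helper38_HP5_NOTS_83
import Cfsg.Agent.Lib.Helper38_HP5_T1LY_83
import Cfsg.Agent.Lib.Helper92_HP2_T1COMM

set_option autoImplicit false
set_option linter.unusedSectionVars false
set_option linter.unusedVariables false

/-! HP2-T1 (helper83's HP2 market): case (T-1) is impossible for hyperbolic planes, assembly. -/

/-! PORT by helper38 of `Cfsg.Agent.Lib.Helper83_HP2_T1` (helper83's HP2 market) to the contexts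
`PCtx5` / `PCtxR5` (`5 ≤ t` instead of `7 ≤ t`); generated mechanically, proofs unchanged. -/

namespace Cfsg.Agent.Lib.Helper38_HP5_T1_83

open Cfsg.Agent.Lib.Helper38_HP5Defs

open Module Cfsg.Agent.Lib.Helper94_Symp Cfsg.Agent.Lib.Helper94_OrthSmall
  Cfsg.Agent.Lib.Helper94_OrthSiegel Cfsg.Agent.Lib.Helper94_OrthNondeg
  Cfsg.Agent.Lib.Helper29_ODDefs Cfsg.Agent.Lib.Helper94_Q2Defs Cfsg.Agent.Lib.Helper83_HP2Defs

open Cfsg.Agent.Lib.Helper10_HP2_Z4 (Z4)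
open Cfsg.Agent.Lib.Helper38_HP5_T1EX (T1EX5)
open Cfsg.Agent.Lib.Helper43_HP2_BASIC (pQ_of_mem single_mem)
open Cfsg.Agent.Lib.Helper51_HP2_REFL2 (REFL2)
open Cfsg.Agent.Lib.Helper38_HP5_FS_55 (FS)
open Cfsg.Agent.Lib.Helper38_HP5_T1IMG_58 (T1IMG)
open Cfsg.Agent.Lib.Helper38_HP5_T1KILL_58 (T1KILL)
open Cfsg.Agent.Lib.Helper61_HP2_ROT (ROT)
open Cfsg.Agent.Lib.Helper65_HP2_ROTB (ROTB)
open Cfsg.Agent.Lib.Helper70_HP2_SWPREFL (SWPREFL)
open Cfsg.Agent.Lib.Helper78_HP2_BLREFL (BLREFL)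
open Cfsg.Agent.Lib.Helper38_HP5_NOTS_83 (NOTS)
open Cfsg.Agent.Lib.Helper38_HP5_T1LY_83 (T1LY)
open Cfsg.Agent.Lib.Helper92_HP2_T1COMM (T1COMM T1COMM')

variable {F : Type*} [Field F] [Finite F] {t : ℕ} {S M L : Subgroup (PV F t ≃ₗ[F] PV F t)}

lemma pOm_le : pOm F t ≤ oG (pQ F t) := Subgroup.commutator_le_self _

lemma single_eq (i : Fin t) (α β : F) :
    (Pi.single i (α, β) : PV F t) = α • pe i + β • pf i := by
  unfold pe pf
  rw [← Pi.single_smul, ← Pi.single_smul, ← Pi.single_add]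
  simp

lemma pQ_single (i : Fin t) (α β : F) : pQ F t (Pi.single i (α, β)) = α * β := by
  rw [pQ_of_mem (single_mem i _), Pi.single_eq_same]

lemma isPBl_single (i : Fin t) {α β : F} (hα : α ≠ 0) (hβ : β ≠ 0) :
    IsPBl (Pi.single i (α, β) : PV F t) :=
  ⟨by rw [pQ_single]; exact mul_ne_zero hα hβ, i, single_mem i _⟩

lemma rotAct_one (ζ : F × F) : rotAct 1 ζ = ζ := by simp [rotAct]

/-- the rotation of a single coordinate by a square lies in `H` -/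
lemma rotH (hS : IsDStab (pD F t) S) (l : Fin t) {c : F} (hc : c ≠ 0) :
    ∃ A ∈ S ⊓ pOm F t, ∀ x j, A x j = if j = l then rotAct (c ^ 2) (x j) else x j := by
  obtain ⟨A, hAO, hAS, hA⟩ := ROT S hS (fun j => if j = l then c ^ 2 else 1) (by
    intro j
    by_cases h : j = l
    · simp only [h, if_true]; exact pow_ne_zero 2 hc
    · simp only [h, if_false]; exact one_ne_zero)
  have hA' : ∀ x j, A x j = if j = l then rotAct (c ^ 2) (x j) else x j := by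
    intro x j
    rw [hA]
    by_cases h : j = l
    · simp only [h, if_true]
    · simp only [h, if_false]; exact rotAct_one _
  exact ⟨A, ⟨hAS, ROTB hc A hA'⟩, hA'⟩

/-- an element of `H` interchanging `pe i₀` and `pf i₀` -/
lemma swapH (hS : IsDStab (pD F t) S) {i₀ i₁ : Fin t} (h01 : i₀ ≠ i₁) :
    ∃ τ ∈ S ⊓ pOm F t, τ (pe i₀) = pf i₀ ∧ τ (pf i₀) = pe i₀ := by
  obtain ⟨x₀, hx₀m, hx₀Q, hx₀, hr₀⟩ := SWPREFL (F := F) (t := t) i₀ (one_ne_zero (α := F))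
  obtain ⟨x₁, hx₁m, hx₁Q, hx₁, hr₁⟩ := SWPREFL (F := F) (t := t) i₁ (one_ne_zero (α := F))
  refine ⟨prefl F t hx₀ * prefl F t hx₁,
    ⟨S.mul_mem (BLREFL S hS ⟨hx₀, i₀, hx₀m⟩ hx₀) (BLREFL S hS ⟨hx₁, i₁, hx₁m⟩ hx₁),
      REFL2 h01 hx₀m hx₁m (hx₀Q.trans hx₁Q.symm) hx₀ hx₁⟩, ?_, ?_⟩
  · have h1 : prefl F t hx₁ (pe i₀) = pe i₀ := by
      funext j
      rw [hr₁]
      by_cases h : j = i₁
      · subst h
        simp [pe, swpAct, Pi.single_eq_of_ne (Ne.symm h01)]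
      · simp only [h, if_false]
    rw [LinearEquiv.mul_apply, h1]
    funext j
    rw [hr₀]
    by_cases h : j = i₀
    · subst h
      simp [pe, pf, swpAct]
    · simp [pe, pf, h]
  · have h1 : prefl F t hx₁ (pf i₀) = pf i₀ := by
      funext j
      rw [hr₁]
      by_cases h : j = i₁
      · subst h
        simp [pf, swpAct, Pi.single_eq_of_ne (Ne.symm h01)]
      · simp only [h, if_false]
    rw [LinearEquiv.mul_apply, h1]
    funext j
    rw [hr₀]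
    by_cases h : j = i₀
    · subst h
      simp [pe, pf, swpAct]
    · simp [pe, pf, h]

lemma pe_ne_zero (i : Fin t) : (pe i : PV F t) ≠ 0 := by
  intro h
  have := congrFun h i
  simp [pe] at this

/-- the core: `g (pe i₀)` has no vanishing coordinate -/
theorem T1core (hC : PCtx5 F t S M)
    (hFS : ∀ g ∈ M, g ∉ S → ∀ x, IsPBl x → ∀ l, g x l ≠ 0)
    {g : PV F t ≃ₗ[F] PV F t} (hgM : g ∈ M) (hgS : g ∉ S) (i₀ l : Fin t)
    (hsl : g (pe i₀) l = 0) : False := by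
  have hgO : g ∈ oG (pQ F t) := pOm_le (hC.hMO hgM)
  have hℓs : Sing (g (pf i₀) l) := T1IMG hC hFS hgM hgS i₀ l hsl
  have hℓ0 : g (pf i₀) l ≠ 0 := by
    have := hFS g hgM hgS _ (isPBl_single i₀ (one_ne_zero (α := F)) (one_ne_zero (α := F))) l
    rw [single_eq, one_smul, one_smul, map_add, Pi.add_apply, hsl, zero_add] at this
    exact this
  obtain ⟨a₀, ha₀, ha₀4⟩ := Z4 (F := F) hC.hq
  have ha1 : a₀ ^ 2 ≠ 1 := by
    intro h
    apply ha₀4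
    calc a₀ ^ 4 = (a₀ ^ 2) ^ 2 := by ring
      _ = 1 := by rw [h]; ring
  have ha0 : a₀ ^ 2 ≠ 0 := pow_ne_zero 2 ha₀
  obtain ⟨A, hAH, hA⟩ := rotH hC.hS l ha₀
  obtain ⟨R, hRH, hR⟩ := rotH hC.hS i₀ ha₀
  have hAM := hC.hmin.le hAH
  have hRM := hC.hmin.le hRH
  have hgRg : g * R * g⁻¹ ∈ M := M.mul_mem (M.mul_mem hgM hRM) (M.inv_mem hgM)
  have hKM : A * (g * R * g⁻¹) * A⁻¹ * (g * R * g⁻¹)⁻¹ ∈ M :=
    M.mul_mem (M.mul_mem (M.mul_mem hAM hgRg) (M.inv_mem hAM)) (M.inv_mem hgRg)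
  have hs0 : g (pe i₀) ≠ 0 := by
    intro h
    exact pe_ne_zero i₀ (g.injective (by rw [h, map_zero]))
  have hb1 : a₀ ^ 2 - 1 ≠ 0 := sub_ne_zero.2 ha1
  rcases mul_eq_zero.1 hℓs with h1 | h2
  · have hℓl : g (pf i₀) l = (0, (g (pf i₀) l).2) := Prod.ext h1 rfl
    have hκ : (g (pf i₀) l).2 ≠ 0 := by
      intro h
      apply hℓ0
      rw [hℓl, h]
      rfl
    have hK := T1COMM' hgO i₀ l hsl hℓl ha0 ha0 A R hA hR
    have hai : (a₀ ^ 2)⁻¹ - 1 ≠ 0 := by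
      rw [sub_ne_zero]
      intro h
      exact ha1 (inv_eq_one.1 h)
    exact T1KILL hC hFS hKM (Or.inr rfl) hs0 hsl
      (mul_ne_zero (mul_ne_zero hκ hai) hb1) hK
  · have hℓl : g (pf i₀) l = ((g (pf i₀) l).1, 0) := Prod.ext rfl h2
    have hκ : (g (pf i₀) l).1 ≠ 0 := by
      intro h
      apply hℓ0
      rw [hℓl, h]
      rfl
    have hK := T1COMM hgO i₀ l hsl hℓl ha0 ha0 A R hA hR
    exact T1KILL hC hFS hKM (Or.inl rfl) hs0 hsl
      (mul_ne_zero (mul_ne_zero hκ hb1) hb1) hK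

/-- **HP2-T1** -/
theorem T1 (hC : PCtx5 F t S M) (hall : ∀ x, IsPBl x → PCStar S M x) : False := by
  obtain ⟨g, hgM, hgS⟩ := NOTS hC
  have ht := hC.ht
  let i₀ : Fin t := ⟨0, by omega⟩
  let i₁ : Fin t := ⟨1, by omega⟩
  have h01 : i₀ ≠ i₁ := by
    intro h
    have := congrArg Fin.val h
    simp [i₀, i₁] at this
  have hs : ∃ c ∈ (Set.univ : Set F), c ≠ 0 := ⟨1, Set.mem_univ _, one_ne_zero⟩
  have hFS0 := FS hC Set.univ hs (fun x hx _ => hall x hx)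
  have hFS : ∀ g ∈ M, g ∉ S → ∀ x, IsPBl x → ∀ l, g x l ≠ 0 :=
    fun g hg hgS x hx l => hFS0 g hg hgS x hx (Set.mem_univ _) l
  have hcomb : ∀ α β : F, α • g (pe i₀) + β • g (pf i₀) = g (Pi.single i₀ (α, β)) := by
    intro α β
    rw [single_eq, map_add, map_smul, map_smul]
  obtain ⟨l, hl⟩ := T1EX5 ht (by have := hC.hq; omega) (g (pe i₀)) (g (pf i₀))
    (fun α β hα hβ l => by
      rw [hcomb]
      exact hFS g hgM hgS _ (isPBl_single i₀ hα hβ) l)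
    (fun α β hα hβ l hl hk => by
      rw [hcomb] at hk
      exact T1LY hC hall hFS hgM hgS (single_mem i₀ (α, β)) (isPBl_single i₀ hα hβ).1 l hl hk)
  rcases hl with hl | hl
  · exact T1core hC hFS hgM hgS i₀ l hl
  · obtain ⟨τ, hτH, hτe, hτf⟩ := swapH hC.hS h01
    have hτM := hC.hmin.le hτH
    have hgτS : g * τ ∉ S := by
      intro h
      apply hgS
      have := S.mul_mem h (S.inv_mem hτH.1)
      rwa [mul_inv_cancel_right] at this
    refine T1core hC hFS (M.mul_mem hgM hτM) hgτS i₀ l ?_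
    rw [LinearEquiv.mul_apply, hτe]
    exact hl

end Cfsg.Agent.Lib.Helper38_HP5_T1_83
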