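import Mathlib
import Cfsg.Agent.Lib.Helper83_HP2Defs

/-!
# HP2 market (helper83, row S5692: `k = 2`, plus-type planes), package HP2-ODEC

The coordinate planes `pD l` of the model `PV F t = Fin t → F × F` form an orthogonal decomposition into `t` pairwise isometric
nondegenerate blocks of dimension 2 (twin of `Helper70_Q2_ODEC`).
-/

set_option autoImplicit false
set_option linter.unusedSectionVars false
set_option linter.unusedVariables false

namespace Cfsg.Agent.Lib.Helper69_HP2_ODEC

open Module Cfsg.Agent.Lib.Helper94_Symp Cfsg.Agent.Lib.Helper94_OrthSmall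
  Cfsg.Agent.Lib.Helper94_OrthSiegel Cfsg.Agent.Lib.Helper94_OrthNondeg
  Cfsg.Agent.Lib.Helper29_ODDefs Cfsg.Agent.Lib.Helper94_Q2Defs Cfsg.Agent.Lib.Helper83_HP2Defs

variable {F : Type*} [Field F] [Finite F] {t : ℕ} {S M L : Subgroup (PV F t ≃ₗ[F] PV F t)}

omit [Finite F] in
lemma single_mem_pD (l : Fin t) (ζ : F × F) : (Pi.single l ζ : PV F t) ∈ pD F t l := by
  intro j hj
  exact Pi.single_eq_of_ne (M := fun _ : Fin t => F × F) hj ζ

omit [Finite F] in
lemma eq_single_of_mem_pD {l : Fin t} {x : PV F t} (hx : x ∈ pD F t l) :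
    x = Pi.single l (x l) := by
  funext j
  by_cases hj : j = l
  · subst hj; simp
  · rw [hx j hj, Pi.single_eq_of_ne hj]

omit [Finite F] in
lemma pQ_of_mem_pD {l : Fin t} {x : PV F t} (hx : x ∈ pD F t l) :
    pQ F t x = (x l).1 * (x l).2 := by
  rw [pQ_apply]
  refine Finset.sum_eq_single l (fun j _ hj => ?_) (fun h => absurd (Finset.mem_univ l) h)
  rw [hx j hj]
  simp

omit [Finite F] in
lemma pB_of_mem_pD {l : Fin t} {x : PV F t} (hx : x ∈ pD F t l) (y : PV F t) :
    pB F t y x = (y l).1 * (x l).2 + (y l).2 * (x l).1 := by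
  rw [pB_apply]
  refine Finset.sum_eq_single l (fun j _ hj => ?_) (fun h => absurd (Finset.mem_univ l) h)
  rw [hx j hj]
  simp

/-- The `l`-th block is a copy of `F × F`. -/
noncomputable def blk (l : Fin t) : (F × F) ≃ₗ[F] pD F t l where
  toFun ζ := ⟨Pi.single l ζ, single_mem_pD l ζ⟩
  map_add' ζ ξ := by
    apply Subtype.ext
    exact Pi.single_add (f := fun _ : Fin t => F × F) l ζ ξ
  map_smul' c ζ := by
    apply Subtype.ext
    exact Pi.single_smul (f := fun _ : Fin t => F × F) l c ζ
  invFun x := x.1 l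
  left_inv ζ := by simp
  right_inv x := by
    apply Subtype.ext
    exact (eq_single_of_mem_pD x.2).symm

/-- **HP2-ODEC** -/
theorem ODEC : ODec (pQ F t) (pB F t) 2 (pD F t) := by
  refine ⟨?_, ?_, ?_, ?_, ?_⟩
  · intro i
    rw [← (blk (F := F) i).finrank_eq, Module.finrank_prod, Module.finrank_self]
  · rw [eq_top_iff]
    intro x _
    have hx : x = ∑ l, Pi.single l (x l) := (Finset.univ_sum_single x).symm
    rw [hx]
    exact Submodule.sum_mem _ fun l _ => Submodule.mem_iSup_of_mem l (single_mem_pD l _)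
  · intro i x hx hx0
    have hxi : x i ≠ 0 := by
      intro h
      apply hx0
      rw [eq_single_of_mem_pD hx, h, Pi.single_zero]
    by_cases h1 : (x i).1 = 0
    · have h2 : (x i).2 ≠ 0 := fun h2 => hxi (Prod.ext h1 h2)
      refine ⟨Pi.single i (1, 0), single_mem_pD i _, ?_⟩
      rw [pB_of_mem_pD hx, Pi.single_eq_same]
      simpa using h2
    · refine ⟨Pi.single i (0, 1), single_mem_pD i _, ?_⟩
      rw [pB_of_mem_pD hx, Pi.single_eq_same]
      simpa using h1
  · intro i j hij u hu v hv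
    rw [pB_of_mem_pD hv, hu j (Ne.symm hij)]
    simp
  · intro i j
    refine ⟨(blk (F := F) i).symm.trans (blk j), ?_⟩
    intro w
    rw [pQ_of_mem_pD (Subtype.property _), pQ_of_mem_pD w.2]
    simp [blk]

end Cfsg.Agent.Lib.Helper69_HP2_ODEC
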