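import Mathlib
import Cfsg.Agent.Lib.Helper83_HP2Defs
import Cfsg.Agent.Lib.Helper38_HP5Defs
import Cfsg.Agent.Lib.Helper43_HP2_BASIC
import Cfsg.Agent.Lib.Helper53_HP2_RINV
import Cfsg.Agent.Lib.Helper69_HP2_ODEC
import Cfsg.Agent.Lib.Helper29_OD_Main
import Cfsg.Agent.Lib.Helper10_HP2_Z4

set_option autoImplicit false
set_option linter.unusedSectionVars false
set_option linter.unusedVariables false

/-!
# HP2 market (architect helper83), package HP2-T2A (helper3): port of `Helper44_Q2_T2A` to hyperbolic planes.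
-/

/-! PORT by helper38 of `Cfsg.Agent.Lib.Helper3_HP2_T2A` (helper83's HP2 market) to the contexts
`PCtx5` / `PCtxR5` (`5 ≤ t` instead of `7 ≤ t`); generated mechanically, proofs unchanged. -/

namespace Cfsg.Agent.Lib.Helper38_HP5_T2A_3

open Cfsg.Agent.Lib.Helper38_HP5Defs

open Module Cfsg.Agent.Lib.Helper94_Symp Cfsg.Agent.Lib.Helper94_OrthSmall
  Cfsg.Agent.Lib.Helper94_OrthSiegel Cfsg.Agent.Lib.Helper94_OrthNondeg
  Cfsg.Agent.Lib.Helper29_ODDefs Cfsg.Agent.Lib.Helper94_Q2Defs Cfsg.Agent.Lib.Helper83_HP2Defs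
  Cfsg.Agent.Lib.Helper43_HP2_BASIC

variable {F : Type*} [Field F] [Finite F] {t : ℕ} {S M L : Subgroup (PV F t ≃ₗ[F] PV F t)}

/-- `M` is not contained in `S`. -/
theorem nots (hC : PCtx5 F t S M) : ∃ g ∈ M, g ∉ S := by
  by_contra hcon
  push Not at hcon
  apply hC.hmin.ne
  exact le_antisymm (le_inf hcon hC.hMO) hC.hmin.le

/-- a vector with at most one nonzero coordinate lies in a coordinate plane -/
theorem exists_mem_pD_of_card_le_one (ht : 0 < t) (v : PV F t) (h : (PSupp v).card ≤ 1) :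
    ∃ j, v ∈ pD F t j := by
  classical
  rw [Finset.card_le_one] at h
  by_cases hv : ∃ j, v j ≠ 0
  · obtain ⟨j, hj⟩ := hv
    refine ⟨j, fun k hk => ?_⟩
    by_contra hk0
    have h1 : k ∈ PSupp v := by
      unfold PSupp
      rw [Finset.mem_filter]
      exact ⟨Finset.mem_univ _, hk0⟩
    have h2 : j ∈ PSupp v := by
      unfold PSupp
      rw [Finset.mem_filter]
      exact ⟨Finset.mem_univ _, hj⟩
    exact hk (h k h1 j h2)
  · push Not at hv
    exact ⟨⟨0, ht⟩, fun k _ => hv k⟩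

/-- a vector of a coordinate plane whose coordinate at that plane vanishes is zero -/
theorem eq_zero_of_mem_of_apply {j : Fin t} {v : PV F t} (hv : v ∈ pD F t j) (h : v j = 0) :
    v = 0 := by
  funext k
  by_cases hk : k = j
  · subst hk
    exact h
  · exact hv k hk

/-- the pure algebra of (T-2a): if the images of `ζ`, `rotAct a ζ`, `rotAct (a²) ζ` (at the plane `i`) all lie in
planes, the image of the whole plane `pD i` lies in a plane. -/
theorem plane_of_three (g : PV F t ≃ₗ[F] PV F t) (i : Fin t) {ζ : F × F} {a : F}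
    (hζ1 : ζ.1 ≠ 0) (hζ2 : ζ.2 ≠ 0) (ha : a ≠ 0) (ha4 : a ^ 4 ≠ 1)
    (h1 : ∃ j, g (Pi.single i ζ) ∈ pD F t j)
    (h2 : ∃ j, g (Pi.single i (rotAct a ζ)) ∈ pD F t j)
    (h3 : ∃ j, g (Pi.single i (rotAct (a ^ 2) ζ)) ∈ pD F t j) :
    ∃ j, (pD F t i).map (g : PV F t →ₗ[F] PV F t) ≤ pD F t j := by
  classical
  obtain ⟨j₁, hj₁⟩ := h1
  obtain ⟨j₂, hj₂⟩ := h2
  obtain ⟨j₃, hj₃⟩ := h3
  -- the "trace" `a + a⁻¹` does not vanish
  have htr : a + a⁻¹ ≠ 0 := by
    intro h0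
    apply ha4
    have h5 : a ^ 2 = -1 := by
      have : (a + a⁻¹) * a = 0 := by rw [h0, zero_mul]
      rw [add_mul, inv_mul_cancel₀ ha] at this
      linear_combination this
    rw [show (4 : ℕ) = 2 * 2 by norm_num, pow_mul, h5]
    ring
  -- `a ≠ a⁻¹`
  have hdiff : a - a⁻¹ ≠ 0 := by
    intro h0
    apply ha4
    have h5 : a ^ 2 = 1 := by
      have : (a - a⁻¹) * a = 0 := by rw [h0, zero_mul]
      rw [sub_mul, inv_mul_cancel₀ ha] at this
      linear_combination this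
    rw [show (4 : ℕ) = 2 * 2 by norm_num, pow_mul, h5, one_pow]
  have hx1 : (Pi.single i ζ : PV F t) ≠ 0 := by
    intro h0
    apply hζ1
    have := congrFun h0 i
    rw [Pi.single_eq_same] at this
    rw [this]
    rfl
  have hx2 : (Pi.single i (rotAct a ζ) : PV F t) ≠ 0 := by
    intro h0
    have h7 := congrFun h0 i
    rw [Pi.single_eq_same, Pi.zero_apply] at h7
    have h8 : (rotAct a ζ).1 = 0 := by rw [h7]; rfl
    unfold rotAct at h8
    exact (mul_ne_zero ha hζ1) h8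
  -- the relation between the three vectors
  have hrel : (Pi.single i (rotAct (a ^ 2) ζ) : PV F t) =
      (a + a⁻¹) • (Pi.single i (rotAct a ζ) : PV F t) - Pi.single i ζ := by
    rw [← Pi.single_smul, ← Pi.single_sub]
    congr 1
    unfold rotAct
    ext
    · simp only [Prod.smul_mk, smul_eq_mul, Prod.fst_sub]
      field_simp
      ring
    · simp only [Prod.smul_mk, smul_eq_mul, Prod.snd_sub]
      field_simp
      ring
  have hgrel : g (Pi.single i (rotAct (a ^ 2) ζ)) =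
      (a + a⁻¹) • g (Pi.single i (rotAct a ζ)) - g (Pi.single i ζ) := by
    rw [hrel, map_sub, map_smul]
  -- the first two planes coincide
  have hj12 : j₁ = j₂ := by
    by_contra hne
    by_cases h31 : j₃ = j₁
    · have h32 : j₂ ≠ j₃ := fun h => hne (h31.symm.trans h.symm)
      have e1 := congrFun hgrel j₂
      rw [hj₃ j₂ h32, Pi.sub_apply, Pi.smul_apply, hj₁ j₂ (Ne.symm hne), sub_zero] at e1
      have e2 : g (Pi.single i (rotAct a ζ)) j₂ = 0 := by
        rcases smul_eq_zero.mp e1.symm with h | h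
        · exact absurd h htr
        · exact h
      have e3 := eq_zero_of_mem_of_apply hj₂ e2
      exact hx2 (g.injective (e3.trans (map_zero g).symm))
    · have e1 := congrFun hgrel j₁
      rw [hj₃ j₁ (Ne.symm h31), Pi.sub_apply, Pi.smul_apply, hj₂ j₁ hne, smul_zero, zero_sub] at e1
      have e2 : g (Pi.single i ζ) j₁ = 0 := neg_eq_zero.mp e1.symm
      have e3 := eq_zero_of_mem_of_apply hj₁ e2
      exact hx1 (g.injective (e3.trans (map_zero g).symm))
  subst hj12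
  refine ⟨j₁, ?_⟩
  rintro _ ⟨y, hy, rfl⟩
  -- `y = lam x₁ + mu x₂`
  obtain ⟨p, hp⟩ : ∃ p : F, p = (y i).1 / ζ.1 := ⟨_, rfl⟩
  obtain ⟨q, hq⟩ : ∃ q : F, q = (y i).2 / ζ.2 := ⟨_, rfl⟩
  obtain ⟨mu, hmu⟩ : ∃ mu : F, mu = (p - q) / (a - a⁻¹) := ⟨_, rfl⟩
  obtain ⟨lam, hlam⟩ : ∃ lam : F, lam = p - mu * a := ⟨_, rfl⟩
  have hmu' : mu * (a - a⁻¹) = p - q := by rw [hmu, div_mul_cancel₀ _ hdiff]
  have hdec : y i = lam • ζ + mu • rotAct a ζ := by
    unfold rotAct
    ext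
    · simp only [Prod.smul_mk, smul_eq_mul, Prod.fst_add, Prod.smul_fst]
      have : (y i).1 = p * ζ.1 := by rw [hp, div_mul_cancel₀ _ hζ1]
      rw [this, hlam]
      ring
    · simp only [Prod.smul_mk, smul_eq_mul, Prod.snd_add, Prod.smul_snd]
      have : (y i).2 = q * ζ.2 := by rw [hq, div_mul_cancel₀ _ hζ2]
      rw [this, hlam]
      linear_combination (ζ.2) * hmu'
  have hy' : y = lam • (Pi.single i ζ : PV F t) + mu • (Pi.single i (rotAct a ζ) : PV F t) := by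
    rw [eq_single_of_mem hy, hdec, ← Pi.single_smul, ← Pi.single_smul, ← Pi.single_add]
  show g y ∈ pD F t j₁
  rw [hy', map_add, map_smul, map_smul]
  exact Submodule.add_mem _ (Submodule.smul_mem _ _ hj₁) (Submodule.smul_mem _ _ hj₂)

/-- **HP2-T2A** -/
theorem T2A (hC : PCtx5 F t S M) (h2 : (2 : F) ≠ 0) {d : F} (hd : d ≠ 0)
    {M₁ : Subgroup (PV F t ≃ₗ[F] PV F t)} (hM₁ : M ≤ M₁) (hM₁O : M₁ ≤ oG (pQ F t))
    (hM₁R : ∀ x, IsPBl x → IsSquare (d * pQ F t x) → ∀ hx : pQ F t x ≠ 0,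
      prefl F t hx ∈ M₁) :
    ∃ v, PInRc M₁ v ∧ IsSquare (d * pQ F t v) ∧ 2 ≤ (PSupp v).card := by
  classical
  obtain ⟨g, hgM, hgS⟩ := nots hC
  have ht : 0 < t := by have := hC.ht; omega
  -- a plane whose image lies in no plane
  obtain ⟨i, hi⟩ : ∃ i, ∀ j, ¬ (pD F t i).map (g : PV F t →ₗ[F] PV F t) ≤ pD F t j := by
    by_contra hcon
    push Not at hcon
    exact hgS (Cfsg.Agent.Lib.Helper29_OD_Main.mem_dstab_of_le
      (Cfsg.Agent.Lib.Helper69_HP2_ODEC.ODEC (F := F) (t := t)) (by norm_num) hC.hS g hcon)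
  obtain ⟨a, ha, ha4⟩ := Cfsg.Agent.Lib.Helper10_HP2_Z4.Z4 (F := F) hC.hq
  -- each vector `single i e` of norm `d⁻¹` gives a candidate
  have hcand : ∀ e : F × F, e.1 * e.2 = d⁻¹ →
      2 ≤ (PSupp (g (Pi.single i e))).card →
      ∃ v, PInRc M₁ v ∧ IsSquare (d * pQ F t v) ∧ 2 ≤ (PSupp v).card := by
    intro e he hcard
    have hmem : (Pi.single i e : PV F t) ∈ pD F t i := single_mem i e
    have hQ : pQ F t (Pi.single i e : PV F t) = d⁻¹ := by
      rw [pQ_of_mem hmem, Pi.single_eq_same, he]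
    have hQ0 : pQ F t (Pi.single i e : PV F t) ≠ 0 := by
      rw [hQ]
      exact inv_ne_zero hd
    have hBl : IsPBl (Pi.single i e : PV F t) := ⟨hQ0, i, hmem⟩
    have hsq : IsSquare (d * pQ F t (Pi.single i e : PV F t)) := by
      rw [hQ, mul_inv_cancel₀ hd]
      exact ⟨1, (one_mul 1).symm⟩
    have hIn : PInRc M₁ (Pi.single i e : PV F t) := ⟨hQ0, hM₁R _ hBl hsq hQ0⟩
    refine ⟨g (Pi.single i e), Cfsg.Agent.Lib.Helper53_HP2_RINV.RINV hM₁O hIn (hM₁ hgM), ?_, hcard⟩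
    rw [hM₁O (hM₁ hgM) (Pi.single i e)]
    exact hsq
  by_contra hcon
  -- all images lie in planes
  have hpl : ∀ e : F × F, e.1 * e.2 = d⁻¹ → ∃ j, g (Pi.single i e) ∈ pD F t j := by
    intro e he
    apply exists_mem_pD_of_card_le_one ht
    by_contra h
    push Not at h
    exact hcon (hcand e he (by omega))
  have hrot : ∀ c : F, c ≠ 0 → (rotAct c ((1 : F), d⁻¹)).1 * (rotAct c ((1 : F), d⁻¹)).2 = d⁻¹ := by
    intro c hc
    unfold rotAct
    simp only
    field_simp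
  obtain ⟨j, hj⟩ := plane_of_three g i (ζ := ((1 : F), d⁻¹)) one_ne_zero (inv_ne_zero hd) ha ha4
    (hpl _ (by simp)) (hpl _ (hrot a ha)) (hpl _ (hrot (a ^ 2) (pow_ne_zero 2 ha)))
  exact hi j hj

end Cfsg.Agent.Lib.Helper38_HP5_T2A_3
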