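import Mathlib
import Cfsg.Agent.Lib.Helper94_Q2Defs

/-!
# Q2 market (architect helper94), package Q2-PAIRING

Five non-zero scalars in a field with `2 ≠ 0`: two disjoint pairs of indices with non-zero sums.
(A triangle `i, j, k` with all three sums zero gives `2 ν i = 0`; so some pair of `{0,1,2}` has a non-zero sum, and then
some pair of the complementary triangle has a non-zero sum as well.)
-/

set_option autoImplicit false
set_option linter.unusedSectionVars false
set_option linter.unusedVariables false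

namespace Cfsg.Agent.Lib.Helper63_Q2_PAIRING

open Module Cfsg.Agent.Lib.Helper94_Symp Cfsg.Agent.Lib.Helper94_OrthSmall
  Cfsg.Agent.Lib.Helper94_OrthSiegel Cfsg.Agent.Lib.Helper94_OrthNondeg
  Cfsg.Agent.Lib.Helper29_ODDefs Cfsg.Agent.Lib.Helper94_Q2Defs

variable {F : Type*} [Field F] [Finite F] {a b : F} [Fact (∀ r : F, r ^ 2 ≠ a + b * r)] {t : ℕ}
  {S M L : Subgroup (MV a b t ≃ₗ[F] MV a b t)}

/-- **Q2-PAIRING** [S] if (0,1|2,3), (0,2|1,3), (0,3|1,2) all fail then {ν 0..ν 3} = three equal values c and one -c; then use index 4. -/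
theorem PAIRING (h2 : (2 : F) ≠ 0) (ν : Fin 5 → F) (hν : ∀ i, ν i ≠ 0) :
    ∃ i j k l : Fin 5, i ≠ j ∧ i ≠ k ∧ i ≠ l ∧ j ≠ k ∧ j ≠ l ∧ k ≠ l ∧
      ν i + ν j ≠ 0 ∧ ν k + ν l ≠ 0 := by
  have T : ∀ i j k : Fin 5, ν i + ν j = 0 → ν i + ν k = 0 → ν j + ν k = 0 → False := by
    intro i j k h1 h2' h3
    have e1 : ν j = - ν i := by linear_combination h1
    have e2 : ν k = - ν i := by linear_combination h2'
    rw [e1, e2] at h3
    have h4 : (2 : F) * ν i = 0 := by linear_combination - h3
    rcases mul_eq_zero.mp h4 with h | h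
    · exact h2 h
    · exact hν i h
  by_contra hcon
  have A : ∀ i j k l : Fin 5, i ≠ j → i ≠ k → i ≠ l → j ≠ k → j ≠ l → k ≠ l →
      ν i + ν j ≠ 0 → ν k + ν l = 0 := by
    intro i j k l h1 h2' h3 h4 h5 h6 h7
    by_contra h8
    exact hcon ⟨i, j, k, l, h1, h2', h3, h4, h5, h6, h7, h8⟩
  by_cases h01 : ν 0 + ν 1 = 0
  · by_cases h02 : ν 0 + ν 2 = 0
    · have h12 : ν 1 + ν 2 ≠ 0 := fun h => T 0 1 2 h01 h02 h
      exact T 0 3 4
        (A 1 2 0 3 (by decide) (by decide) (by decide) (by decide) (by decide) (by decide) h12)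
        (A 1 2 0 4 (by decide) (by decide) (by decide) (by decide) (by decide) (by decide) h12)
        (A 1 2 3 4 (by decide) (by decide) (by decide) (by decide) (by decide) (by decide) h12)
    · exact T 1 3 4
        (A 0 2 1 3 (by decide) (by decide) (by decide) (by decide) (by decide) (by decide) h02)
        (A 0 2 1 4 (by decide) (by decide) (by decide) (by decide) (by decide) (by decide) h02)
        (A 0 2 3 4 (by decide) (by decide) (by decide) (by decide) (by decide) (by decide) h02)
  · exact T 2 3 4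
      (A 0 1 2 3 (by decide) (by decide) (by decide) (by decide) (by decide) (by decide) h01)
      (A 0 1 2 4 (by decide) (by decide) (by decide) (by decide) (by decide) (by decide) h01)
      (A 0 1 3 4 (by decide) (by decide) (by decide) (by decide) (by decide) (by decide) h01)

end Cfsg.Agent.Lib.Helper63_Q2_PAIRING
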