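import Mathlib
import Cfsg.Agent.Lib.Helper83_HP2Defs
import Cfsg.Agent.Lib.Helper38_HP5Defs
import Cfsg.Agent.Lib.Helper61_HP2_ROT
import Cfsg.Agent.Lib.Helper61_HP2_ROTA
import Cfsg.Agent.Lib.Helper53_HP2_RINV
import Cfsg.Agent.Lib.Helper63_Q2_PAIRING
import Cfsg.Agent.Lib.Helper11_HP2_CCARD

/-!
# HP2-T2C (helper83's HP2 market, row S5692, `k = 2`, plus-type planes); twin of Helper48_Q2_T2C.
`T2C_of` takes the statement of HP2-CCARD as a hypothesis; `T2C` is the package statement.  (helper89)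
-/

set_option autoImplicit false
set_option linter.unusedSectionVars false
set_option linter.unusedVariables false

/-! PORT by helper38 of `Cfsg.Agent.Lib.Helper89_HP2_T2C` (helper83's HP2 market) to the contexts
`PCtx5` / `PCtxR5` (`5 ≤ t` instead of `7 ≤ t`); generated mechanically, proofs unchanged. -/

namespace Cfsg.Agent.Lib.Helper38_HP5_T2C_89

open Cfsg.Agent.Lib.Helper38_HP5Defs

open Module Cfsg.Agent.Lib.Helper94_Symp Cfsg.Agent.Lib.Helper94_OrthSmall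
  Cfsg.Agent.Lib.Helper94_OrthSiegel Cfsg.Agent.Lib.Helper94_OrthNondeg
  Cfsg.Agent.Lib.Helper29_ODDefs Cfsg.Agent.Lib.Helper94_Q2Defs Cfsg.Agent.Lib.Helper83_HP2Defs

theorem sum_four {R ι : Type*} [AddCommMonoid R] [Fintype ι] [DecidableEq ι] (f : ι → R)
    {i j k l : ι} (hij : i ≠ j) (hik : i ≠ k) (hil : i ≠ l) (hjk : j ≠ k) (hjl : j ≠ l)
    (hkl : k ≠ l) (h0 : ∀ n, n ≠ i → n ≠ j → n ≠ k → n ≠ l → f n = 0) :
    ∑ n, f n = f i + (f j + (f k + f l)) := by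
  have h1 : ∑ n, f n = ∑ n ∈ ({i, j, k, l} : Finset ι), f n := by
    symm
    apply Finset.sum_subset (Finset.subset_univ _)
    intro n _ hn
    simp only [Finset.mem_insert, Finset.mem_singleton, not_or] at hn
    exact h0 n hn.1 hn.2.1 hn.2.2.1 hn.2.2.2
  rw [h1, Finset.sum_insert (by simp [hij, hik, hil]), Finset.sum_insert (by simp [hjk, hjl]),
    Finset.sum_insert (by simp [hkl]), Finset.sum_singleton]

theorem fifth : ∀ i j k l : Fin 5, ∃ p : Fin 5, p ≠ i ∧ p ≠ j ∧ p ≠ k ∧ p ≠ l := by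
  decide

variable {F : Type*} [Field F] [Finite F] {t : ℕ} {S M L : Subgroup (PV F t ≃ₗ[F] PV F t)}

theorem rotAct_one' (ζ : F × F) : rotAct (1 : F) ζ = ζ := by
  unfold rotAct
  ext
  · show (1 : F) * ζ.1 = ζ.1
    rw [one_mul]
  · show (1 : F)⁻¹ * ζ.2 = ζ.2
    rw [inv_one, one_mul]

/-- the rotation by `(c, c⁻¹)` at the coordinates `(l, m)` lies in `S ⊓ Ω` -/
theorem pair_rot (hS : IsDStab (pD F t) S) {l m : Fin t} (hlm : l ≠ m) {c : F} (hc : c ≠ 0) :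
    ∃ g : PV F t ≃ₗ[F] PV F t, g ∈ S ∧ g ∈ pOm F t ∧ g ∈ oG (pQ F t) ∧
      ∀ x j, g x j = if j = l then rotAct c (x j) else if j = m then rotAct c⁻¹ (x j)
        else x j := by
  obtain ⟨g, hgO, hgS, hg⟩ := Cfsg.Agent.Lib.Helper61_HP2_ROT.ROT S hS
    (fun j => if j = l then c else if j = m then c⁻¹ else 1)
    (by
      intro j
      show (if j = l then c else if j = m then c⁻¹ else 1) ≠ 0
      split_ifs
      · exact hc
      · exact inv_ne_zero hc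
      · exact one_ne_zero)
  have hg' : ∀ x j, g x j = if j = l then rotAct c (x j) else if j = m then rotAct c⁻¹ (x j)
      else x j := by
    intro x j
    rw [hg]
    show rotAct (if j = l then c else if j = m then c⁻¹ else 1) (x j) = _
    split_ifs
    · rfl
    · rfl
    · exact rotAct_one' _
  exact ⟨g, hgS, Cfsg.Agent.Lib.Helper61_HP2_ROTA.ROTA hlm hc g hg', hgO, hg'⟩

/-- the norm of `rotAct c ζ - ζ` -/
theorem rot_sub_norm {c : F} (hc : c ≠ 0) (ζ : F × F) :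
    (rotAct c ζ - ζ).1 * (rotAct c ζ - ζ).2 = gam c * (ζ.1 * ζ.2) := by
  unfold rotAct gam
  show (c * ζ.1 - ζ.1) * (c⁻¹ * ζ.2 - ζ.2) = (1 - c) * (1 - c⁻¹) * (ζ.1 * ζ.2)
  ring

theorem gam_inv (c : F) : gam c⁻¹ = gam c := by
  unfold gam
  rw [inv_inv]
  ring

theorem gam_one : gam (1 : F) = 0 := by
  unfold gam
  rw [sub_self, zero_mul]

theorem rot_sub_ne {c : F} (hc : c ≠ 1) {ζ : F × F} (hζ : ζ.1 * ζ.2 ≠ 0) :
    rotAct c ζ - ζ ≠ 0 := by
  intro h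
  have h1 : (rotAct c ζ - ζ).1 = 0 := by rw [h]; rfl
  unfold rotAct at h1
  have h2 : (c - 1) * ζ.1 = 0 := by
    have : c * ζ.1 - ζ.1 = 0 := h1
    linear_combination this
  rcases mul_eq_zero.mp h2 with h3 | h3
  · exact hc (sub_eq_zero.mp h3)
  · exact hζ (by rw [h3, zero_mul])

/-- **HP2-T2C**, with the statement of HP2-CCARD as a hypothesis. -/
theorem T2C_of
    (hCCARD : (2 : F) ≠ 0 → ∀ (A B c₀ : F), A ≠ 0 → B ≠ 0 →
      ∃ c c' : F, c ≠ 0 ∧ c' ≠ 0 ∧ A * gam c + B * gam c' = c₀)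
    (hC : PCtx5 F t S M) (h2 : (2 : F) ≠ 0)
    {M₁ : Subgroup (PV F t ≃ₗ[F] PV F t)} (hM₁ : M ≤ M₁) (hM₁O : M₁ ≤ oG (pQ F t))
    (hB : ∀ v, PInRc M₁ v → 2 ≤ (PSupp v).card → ∀ l, v l ≠ 0)
    (hN : ∀ v, PInRc M₁ v → 2 ≤ (PSupp v).card → ∀ l, ¬ Sing (v l))
    {v : PV F t} (hv : PInRc M₁ v) (hfull : ∀ l, v l ≠ 0) : False := by
  classical
  have ht := hC.ht
  have ht5 : 5 ≤ t := by omega
  -- five coordinates
  set e : Fin 5 → Fin t := Fin.castLE ht5 with he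
  have hinj : Function.Injective e := Fin.castLE_injective ht5
  have hmemS : ∀ (w : PV F t) n, w n ≠ 0 → n ∈ PSupp w := by
    intro w n hn
    unfold PSupp
    exact Finset.mem_filter.2 ⟨Finset.mem_univ _, hn⟩
  have hcardv : 2 ≤ (PSupp v).card := by
    have h01 : e 0 ≠ e 1 := fun h => by
      have := hinj h
      exact absurd this (by decide)
    exact Finset.one_lt_card.2 ⟨e 0, hmemS v _ (hfull _), e 1, hmemS v _ (hfull _), h01⟩
  have hns : ∀ n, (v n).1 * (v n).2 ≠ 0 := fun n => hN v hv hcardv n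
  obtain ⟨hv0, hrv⟩ := hv
  obtain ⟨i₀, j₀, k₀, l₀, hij₀, hik₀, hil₀, hjk₀, hjl₀, hkl₀, hA, hBB⟩ :=
    Cfsg.Agent.Lib.Helper63_Q2_PAIRING.PAIRING h2 (fun n => (v (e n)).1 * (v (e n)).2)
      (fun n => hns (e n))
  obtain ⟨p₀, hpi₀, hpj₀, hpk₀, hpl₀⟩ : ∃ p : Fin 5, p ≠ i₀ ∧ p ≠ j₀ ∧ p ≠ k₀ ∧ p ≠ l₀ :=
    fifth i₀ j₀ k₀ l₀
  set i := e i₀ with hi
  set j := e j₀ with hj
  set k := e k₀ with hk
  set l := e l₀ with hl
  set p := e p₀ with hp
  have hij : i ≠ j := fun h => hij₀ (hinj h)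
  have hik : i ≠ k := fun h => hik₀ (hinj h)
  have hil : i ≠ l := fun h => hil₀ (hinj h)
  have hjk : j ≠ k := fun h => hjk₀ (hinj h)
  have hjl : j ≠ l := fun h => hjl₀ (hinj h)
  have hkl : k ≠ l := fun h => hkl₀ (hinj h)
  have hpi : p ≠ i := fun h => hpi₀ (hinj h)
  have hpj : p ≠ j := fun h => hpj₀ (hinj h)
  have hpk : p ≠ k := fun h => hpk₀ (hinj h)
  have hpl : p ≠ l := fun h => hpl₀ (hinj h)
  change (v i).1 * (v i).2 + (v j).1 * (v j).2 ≠ 0 at hA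
  change (v k).1 * (v k).2 + (v l).1 * (v l).2 ≠ 0 at hBB
  -- the pigeonhole
  obtain ⟨c, c', hc, hc', hcc⟩ := hCCARD h2
    ((v i).1 * (v i).2 + (v j).1 * (v j).2) ((v k).1 * (v k).2 + (v l).1 * (v l).2)
    (pQ F t v) hA hBB
  -- the rotation
  obtain ⟨g₁, hg₁S, hg₁Ω, hg₁O, hg₁⟩ := pair_rot hC.hS hij hc
  obtain ⟨g₂, hg₂S, hg₂Ω, hg₂O, hg₂⟩ := pair_rot hC.hS hkl hc'
  have hhM : g₁ * g₂ ∈ M₁ := by
    apply hM₁
    apply hC.hmin.le
    exact ⟨S.mul_mem hg₁S hg₂S, (pOm F t).mul_mem hg₁Ω hg₂Ω⟩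
  have hhO : g₁ * g₂ ∈ oG (pQ F t) := hM₁O hhM
  set u : PV F t := (g₁ * g₂) v - v with hu
  have hun : ∀ n, u n = g₁ (g₂ v) n - v n := by
    intro n
    rw [hu, Pi.sub_apply, LinearEquiv.mul_apply]
  have hui : u i = rotAct c (v i) - v i := by
    rw [hun, hg₁, if_pos rfl, hg₂, if_neg hik, if_neg hil]
  have huj : u j = rotAct c⁻¹ (v j) - v j := by
    rw [hun, hg₁, if_neg (Ne.symm hij), if_pos rfl, hg₂, if_neg hjk, if_neg hjl]
  have huk : u k = rotAct c' (v k) - v k := by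
    rw [hun, hg₁, if_neg (Ne.symm hik), if_neg (Ne.symm hjk), hg₂, if_pos rfl]
  have hul : u l = rotAct c'⁻¹ (v l) - v l := by
    rw [hun, hg₁, if_neg (Ne.symm hil), if_neg (Ne.symm hjl), hg₂, if_neg (Ne.symm hkl),
      if_pos rfl]
  have hu0 : ∀ n, n ≠ i → n ≠ j → n ≠ k → n ≠ l → u n = 0 := by
    intro n h1 h2' h3 h4
    rw [hun, hg₁, if_neg h1, if_neg h2', hg₂, if_neg h3, if_neg h4, sub_self]
  -- `Q u = Q v`
  have hQu : pQ F t u = pQ F t v := by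
    rw [pQ_apply, sum_four (fun n => (u n).1 * (u n).2) hij hik hil hjk hjl hkl
      (fun n h1 h2' h3 h4 => by
        show (u n).1 * (u n).2 = 0
        rw [hu0 n h1 h2' h3 h4]
        show (0 : F) * 0 = 0
        rw [mul_zero])]
    show (u i).1 * (u i).2 + ((u j).1 * (u j).2 + ((u k).1 * (u k).2 + (u l).1 * (u l).2)) = _
    rw [hui, huj, huk, hul, rot_sub_norm hc, rot_sub_norm (inv_ne_zero hc), rot_sub_norm hc',
      rot_sub_norm (inv_ne_zero hc'), gam_inv, gam_inv, ← hcc]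
    ring
  -- `r_v (h v) = u`
  have hQh : pQ F t ((g₁ * g₂) v) = pQ F t v := hhO v
  have hhv : (g₁ * g₂) v = u + v := by rw [hu]; abel
  have hBuv : pB F t u v = -pQ F t v := by
    have h1 := pQp F t u v
    rw [← hhv, hQh, hQu] at h1
    linear_combination -h1
  have hBvv : pB F t v v = 2 * pQ F t v :=
    B_self (pQ F t) (pB F t) (pQs F t) (pQp F t) v
  have hrefl : prefl F t hv0 ((g₁ * g₂) v) = u := by
    rw [refl_apply, hhv, map_add, LinearMap.add_apply, hBuv, hBvv]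
    have h3 : (pQ F t v)⁻¹ * (-pQ F t v + 2 * pQ F t v) = 1 := by
      field_simp
      ring
    rw [h3, one_smul]
    abel
  have hInRc : PInRc M₁ u := by
    rw [← hrefl]
    exact Cfsg.Agent.Lib.Helper53_HP2_RINV.RINV hM₁O
      (Cfsg.Agent.Lib.Helper53_HP2_RINV.RINV hM₁O ⟨hv0, hrv⟩ hhM) hrv
  -- the support of `u`
  have hcc1 : c ≠ 1 ∨ c' ≠ 1 := by
    by_contra hcon
    push Not at hcon
    rw [hcon.1, hcon.2, gam_one, mul_zero, mul_zero, add_zero] at hcc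
    exact hv0 hcc.symm
  have hinv1 : ∀ y : F, y ≠ 1 → y⁻¹ ≠ 1 := by
    intro y hy h
    exact hy (inv_eq_one.mp h)
  have hcard : 2 ≤ (PSupp u).card := by
    rcases hcc1 with hz1 | hw1
    · have h1 : u i ≠ 0 := by
        rw [hui]; exact rot_sub_ne hz1 (hns i)
      have h2' : u j ≠ 0 := by
        rw [huj]; exact rot_sub_ne (hinv1 c hz1) (hns j)
      exact Finset.one_lt_card.2 ⟨i, hmemS u i h1, j, hmemS u j h2', hij⟩
    · have h1 : u k ≠ 0 := by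
        rw [huk]; exact rot_sub_ne hw1 (hns k)
      have h2' : u l ≠ 0 := by
        rw [hul]; exact rot_sub_ne (hinv1 c' hw1) (hns l)
      exact Finset.one_lt_card.2 ⟨k, hmemS u k h1, l, hmemS u l h2', hkl⟩
  exact hB u hInRc hcard p (hu0 p hpi hpj hpk hpl)

/-- **HP2-T2C**. -/
theorem T2C (hC : PCtx5 F t S M) (h2 : (2 : F) ≠ 0)
    {M₁ : Subgroup (PV F t ≃ₗ[F] PV F t)} (hM₁ : M ≤ M₁) (hM₁O : M₁ ≤ oG (pQ F t))
    (hB : ∀ v, PInRc M₁ v → 2 ≤ (PSupp v).card → ∀ l, v l ≠ 0)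
    (hN : ∀ v, PInRc M₁ v → 2 ≤ (PSupp v).card → ∀ l, ¬ Sing (v l))
    {v : PV F t} (hv : PInRc M₁ v) (hfull : ∀ l, v l ≠ 0) : False :=
  T2C_of (fun h2 A B c₀ hA hB => Cfsg.Agent.Lib.Helper11_HP2_CCARD.CCARD h2 A B c₀ hA hB)
    hC h2 hM₁ hM₁O hB hN hv hfull

end Cfsg.Agent.Lib.Helper38_HP5_T2C_89
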