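import Mathlib
import Cfsg.Agent.Lib.Helper94_Q2Defs
import Cfsg.Agent.Lib.Helper53_Q2_BLREFL

/-!
helper53: Q2 package T2M1 (architect helper94), `_of` form: the statements of Q2-NSURJ and Q2-TRANS
are explicit hypotheses.  The verbatim `T2M1` is in `Helper53_Q2_T2M1`.
-/

set_option autoImplicit false
set_option linter.unusedSectionVars false
set_option linter.unusedVariables false

namespace Cfsg.Agent.Lib.Helper53_Q2_T2M1of

open Module Cfsg.Agent.Lib.Helper94_Symp Cfsg.Agent.Lib.Helper94_OrthSmall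
  Cfsg.Agent.Lib.Helper94_OrthSiegel Cfsg.Agent.Lib.Helper94_OrthNondeg
  Cfsg.Agent.Lib.Helper29_ODDefs Cfsg.Agent.Lib.Helper94_Q2Defs

variable {F : Type*} [Field F] [Finite F] {a b : F} [Fact (∀ r : F, r ^ 2 ≠ a + b * r)] {t : ℕ}
  {S M L : Subgroup (MV a b t ≃ₗ[F] MV a b t)}

omit [Finite F] [Fact (∀ r : F, r ^ 2 ≠ a + b * r)] in
/-- the reflection in a nonzero scalar multiple of `x` is the reflection in `x` -/
theorem mrefl_smul {x : MV a b t} (hx : mQ a b t x ≠ 0) {c : F} (hc : c ≠ 0)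
    (hcx : mQ a b t (c • x) ≠ 0) : mrefl a b t hcx = mrefl a b t hx := by
  apply LinearEquiv.ext
  intro v
  rw [refl_apply, refl_apply, mQs, map_smul, smul_smul, smul_eq_mul]
  congr 2
  field_simp

/-- `M ∪ M r` for an involution `r` normalising `M` -/
def M1 {G : Type*} [Group G] (M : Subgroup G) (r : G) (hr2 : r * r = 1)
    (hnrm : ∀ g ∈ M, r * g * r ∈ M) : Subgroup G where
  carrier := {g | g ∈ M ∨ g * r ∈ M}
  one_mem' := Or.inl M.one_mem
  mul_mem' := by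
    rintro g₁ g₂ (h1 | h1) (h2 | h2)
    · exact Or.inl (M.mul_mem h1 h2)
    · right
      rw [mul_assoc]
      exact M.mul_mem h1 h2
    · right
      have : g₁ * g₂ * r = (g₁ * r) * (r * g₂ * r) := by
        calc g₁ * g₂ * r = g₁ * (r * r) * g₂ * r := by rw [hr2, mul_one]
          _ = (g₁ * r) * (r * g₂ * r) := by group
      rw [this]
      exact M.mul_mem h1 (hnrm g₂ h2)
    · left
      have : g₁ * g₂ = (g₁ * r) * (r * (g₂ * r) * r) := by
        calc g₁ * g₂ = g₁ * (r * r) * g₂ * (r * r) := by rw [hr2, mul_one, mul_one]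
          _ = (g₁ * r) * (r * (g₂ * r) * r) := by group
      rw [this]
      exact M.mul_mem h1 (hnrm _ h2)
  inv_mem' := by
    rintro g (h | h)
    · exact Or.inl (M.inv_mem h)
    · right
      have hri : r⁻¹ = r := inv_eq_of_mul_eq_one_right hr2
      have : g⁻¹ * r = r * (g * r)⁻¹ * r := by
        rw [mul_inv_rev, hri]
        calc g⁻¹ * r = (r * r) * g⁻¹ * r := by rw [hr2, one_mul]
          _ = r * (r * g⁻¹) * r := by group
      rw [this]
      exact hnrm _ (M.inv_mem h)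

theorem mem_M1 {G : Type*} [Group G] {M : Subgroup G} {r : G} {hr2 : r * r = 1}
    {hnrm : ∀ g ∈ M, r * g * r ∈ M} {g : G} : g ∈ M1 M r hr2 hnrm ↔ g ∈ M ∨ g * r ∈ M := Iff.rfl

/-- **Q2-T2M1**, with the statements of NSURJ and TRANS as hypotheses -/
theorem T2M1_of
    (hNS : ∀ c : F, ∃ z : QuadraticAlgebra F a b, QuadraticAlgebra.norm z = c)
    (hTR : ∀ {x y : MV a b t}, IsBl x → IsBl y → mQ a b t x = mQ a b t y →
      ∃ h ∈ S ⊓ mOm a b t, h x = y)
    (hC : Ctx2 a b t S M) (h2 : (2 : F) ≠ 0) {d : F} (hd : d ≠ 0)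
    (hN : ∀ x, IsBl x → IsSquare (d * mQ a b t x) → Nrm M x) :
    ∃ M₁ : Subgroup (MV a b t ≃ₗ[F] MV a b t), M ≤ M₁ ∧ M₁ ≤ oG (mQ a b t) ∧
      (∀ x, IsBl x → IsSquare (d * mQ a b t x) → ∀ hx : mQ a b t x ≠ 0, mrefl a b t hx ∈ M₁) ∧
      ∀ g ∈ M₁, ∃ g' ∈ M, ∃ r ∈ S, r ∈ oG (mQ a b t) ∧ g = g' * r := by
  classical
  have ht := hC.ht
  let i0 : Fin t := ⟨0, by omega⟩
  obtain ⟨ζ, hζ⟩ := hNS d⁻¹
  set x' : MV a b t := Pi.single i0 ζ with hx'def
  have hQx' : mQ a b t x' = d⁻¹ := by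
    rw [mQ_apply, Finset.sum_eq_single i0]
    · rw [hx'def, Pi.single_eq_same, hζ]
    · intro l _ hl
      rw [hx'def, Pi.single_eq_of_ne hl, QuadraticAlgebra.norm_zero]
    · intro h
      exact absurd (Finset.mem_univ i0) h
  have hdi : d⁻¹ ≠ 0 := inv_ne_zero hd
  have hQx'0 : mQ a b t x' ≠ 0 := by rw [hQx']; exact hdi
  have hx'0 : x' ≠ 0 := by
    intro h0
    apply hQx'0
    rw [h0, mQ_apply]
    apply Finset.sum_eq_zero
    intro l _
    rw [Pi.zero_apply, QuadraticAlgebra.norm_zero]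
  have hx'D : x' ∈ mD a b t i0 := by
    intro j hj
    rw [hx'def, Pi.single_eq_of_ne hj]
  have hx'Bl : IsBl x' := ⟨hx'0, i0, hx'D⟩
  have hx'sq : IsSquare (d * mQ a b t x') := by
    rw [hQx', mul_inv_cancel₀ hd]
    exact ⟨1, by ring⟩
  set r := mrefl a b t hQx'0 with hr
  have hr2 : r * r = 1 := by
    apply LinearEquiv.ext
    intro v
    rw [LinearEquiv.mul_apply]
    exact reflLin_invol (mQ a b t) (mB a b t) (mQs a b t) (mQp a b t) hQx'0 v
  have hri : r⁻¹ = r := inv_eq_of_mul_eq_one_right hr2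
  have hnrm : ∀ g ∈ M, r * g * r ∈ M := hN x' hx'Bl hx'sq hQx'0
  have hrO : r ∈ oG (mQ a b t) := refl_mem (mQ a b t) (mB a b t) (mQs a b t) (mQp a b t) hQx'0
  have hrS : r ∈ S := Cfsg.Agent.Lib.Helper53_Q2_BLREFL.BLREFL S hC.hS hx'Bl hQx'0
  have hOmO : mOm a b t ≤ oG (mQ a b t) := by
    refine Subgroup.commutator_le.mpr (fun g₁ h₁ g₂ h₂ => ?_)
    rw [commutatorElement_def]
    exact (oG (mQ a b t)).mul_mem ((oG (mQ a b t)).mul_mem ((oG (mQ a b t)).mul_mem h₁ h₂)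
      ((oG (mQ a b t)).inv_mem h₁)) ((oG (mQ a b t)).inv_mem h₂)
  have hMO : M ≤ oG (mQ a b t) := hC.hMO.trans hOmO
  refine ⟨M1 M r hr2 hnrm, fun g hg => Or.inl hg, ?_, ?_, ?_⟩
  · rintro g (hg | hg)
    · exact hMO hg
    · have : g = (g * r) * r := by rw [mul_assoc, hr2, mul_one]
      rw [this]
      exact (oG (mQ a b t)).mul_mem (hMO hg) hrO
  · intro x hxBl hxsq hx
    obtain ⟨c, hc⟩ := hxsq
    have hc0 : c ≠ 0 := by
      intro h0
      rw [h0, mul_zero] at hc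
      rcases mul_eq_zero.mp hc with h | h
      · exact hd h
      · exact hx h
    have hQcx' : mQ a b t (c • x') = mQ a b t x := by
      rw [mQs, hQx']
      field_simp
      rw [hc]
      ring
    have hcx'0 : mQ a b t (c • x') ≠ 0 := by rw [hQcx']; exact hx
    have hcx'Bl : IsBl (c • x') := by
      refine ⟨?_, i0, (mD a b t i0).smul_mem c hx'D⟩
      intro h0
      apply hcx'0
      rw [h0, mQ_apply]
      apply Finset.sum_eq_zero
      intro l _
      rw [Pi.zero_apply, QuadraticAlgebra.norm_zero]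
    obtain ⟨h, hh, rfl⟩ := hTR hcx'Bl hxBl hQcx'
    have hhO : h ∈ oG (mQ a b t) := hOmO hh.2
    have hhM : h ∈ M := hC.hmin.le hh
    have e1 : mrefl a b t hx = h * mrefl a b t hcx'0 * h⁻¹ :=
      (conj_refl (mQ a b t) (mB a b t) (mQs a b t) (mQp a b t) hhO hcx'0).symm
    rw [e1, mrefl_smul hQx'0 hc0 hcx'0, ← hr]
    right
    have : h * r * h⁻¹ * r = h * (r * h⁻¹ * r) := by group
    rw [this]
    exact M.mul_mem hhM (hnrm _ (M.inv_mem hhM))
  · rintro g (hg | hg)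
    · exact ⟨g, hg, 1, S.one_mem, (oG (mQ a b t)).one_mem, (mul_one g).symm⟩
    · refine ⟨g * r, hg, r, hrS, hrO, ?_⟩
      rw [mul_assoc, hr2, mul_one]

end Cfsg.Agent.Lib.Helper53_Q2_T2M1of
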