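import Mathlib
import Cfsg.Agent.Lib.Helper83_HP2Defs
import Cfsg.Agent.Lib.Helper38_HP5Defs
import Cfsg.Agent.Lib.Helper53_Q2_T2M1of
import Cfsg.Agent.Lib.Helper78_HP2_BLREFL

/-!
helper53: HP2 package T2M1 (architect helper83; twin of Q2-T2M1), `_of` form: the statement of
HP2-TRANS is an explicit hypothesis (HP2-BLREFL is imported from helper78's landed file; the abstract
group `M1 M r = M ∪ M r` is the one of `Helper53_Q2_T2M1of`).  The verbatim `T2M1` is in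
`Helper38_HP5_T2M1_53`.
-/

set_option autoImplicit false
set_option linter.unusedSectionVars false
set_option linter.unusedVariables false

/-! PORT by helper38 of `Cfsg.Agent.Lib.Helper53_HP2_T2M1of` (helper83's HP2 market) to the contexts
`PCtx5` / `PCtxR5` (`5 ≤ t` instead of `7 ≤ t`); generated mechanically, proofs unchanged. -/

namespace Cfsg.Agent.Lib.Helper38_HP5_T2M1of_53

open Cfsg.Agent.Lib.Helper38_HP5Defs

open Module Cfsg.Agent.Lib.Helper94_Symp Cfsg.Agent.Lib.Helper94_OrthSmall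
  Cfsg.Agent.Lib.Helper94_OrthSiegel Cfsg.Agent.Lib.Helper94_OrthNondeg
  Cfsg.Agent.Lib.Helper29_ODDefs Cfsg.Agent.Lib.Helper94_Q2Defs Cfsg.Agent.Lib.Helper83_HP2Defs

open Cfsg.Agent.Lib.Helper53_Q2_T2M1of (M1 mem_M1)

variable {F : Type*} [Field F] [Finite F] {t : ℕ} {S M L : Subgroup (PV F t ≃ₗ[F] PV F t)}

omit [Finite F] in
/-- the reflection in a nonzero scalar multiple of `x` is the reflection in `x` -/
theorem prefl_smul {x : PV F t} (hx : pQ F t x ≠ 0) {c : F} (hc : c ≠ 0)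
    (hcx : pQ F t (c • x) ≠ 0) : prefl F t hcx = prefl F t hx := by
  apply LinearEquiv.ext
  intro v
  rw [refl_apply, refl_apply, pQs, map_smul, smul_smul, smul_eq_mul]
  congr 2
  field_simp

/-- **HP2-T2M1**, with the statement of HP2-TRANS as a hypothesis -/
theorem T2M1_of
    (hTR : ∀ {x y : PV F t}, IsPBl x → IsPBl y → pQ F t x = pQ F t y →
      ∃ h ∈ S ⊓ pOm F t, h x = y)
    (hC : PCtx5 F t S M) (h2 : (2 : F) ≠ 0) {d : F} (hd : d ≠ 0)
    (hN : ∀ x, IsPBl x → IsSquare (d * pQ F t x) → PNrm M x) :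
    ∃ M₁ : Subgroup (PV F t ≃ₗ[F] PV F t), M ≤ M₁ ∧ M₁ ≤ oG (pQ F t) ∧
      (∀ x, IsPBl x → IsSquare (d * pQ F t x) → ∀ hx : pQ F t x ≠ 0, prefl F t hx ∈ M₁) ∧
      ∀ g ∈ M₁, ∃ g' ∈ M, ∃ r ∈ S, r ∈ oG (pQ F t) ∧ g = g' * r := by
  classical
  have ht := hC.ht
  let i0 : Fin t := ⟨0, by omega⟩
  set x' : PV F t := Pi.single i0 (d⁻¹, 1) with hx'def
  have hQx' : pQ F t x' = d⁻¹ := by
    rw [pQ_apply, Finset.sum_eq_single i0]
    · rw [hx'def, Pi.single_eq_same, mul_one]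
    · intro l _ hl
      rw [hx'def, Pi.single_eq_of_ne hl]
      simp
    · intro h
      exact absurd (Finset.mem_univ i0) h
  have hdi : d⁻¹ ≠ 0 := inv_ne_zero hd
  have hQx'0 : pQ F t x' ≠ 0 := by rw [hQx']; exact hdi
  have hx'D : x' ∈ pD F t i0 := by
    intro j hj
    rw [hx'def, Pi.single_eq_of_ne hj]
  have hx'Bl : IsPBl x' := ⟨hQx'0, i0, hx'D⟩
  have hx'sq : IsSquare (d * pQ F t x') := by
    rw [hQx', mul_inv_cancel₀ hd]
    exact ⟨1, by ring⟩
  set r := prefl F t hQx'0 with hr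
  have hr2 : r * r = 1 := by
    apply LinearEquiv.ext
    intro v
    rw [LinearEquiv.mul_apply]
    exact reflLin_invol (pQ F t) (pB F t) (pQs F t) (pQp F t) hQx'0 v
  have hri : r⁻¹ = r := inv_eq_of_mul_eq_one_right hr2
  have hnrm : ∀ g ∈ M, r * g * r ∈ M := hN x' hx'Bl hx'sq hQx'0
  have hrO : r ∈ oG (pQ F t) := refl_mem (pQ F t) (pB F t) (pQs F t) (pQp F t) hQx'0
  have hrS : r ∈ S := Cfsg.Agent.Lib.Helper78_HP2_BLREFL.BLREFL S hC.hS hx'Bl hQx'0
  have hOmO : pOm F t ≤ oG (pQ F t) := by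
    refine Subgroup.commutator_le.mpr (fun g₁ h₁ g₂ h₂ => ?_)
    rw [commutatorElement_def]
    exact (oG (pQ F t)).mul_mem ((oG (pQ F t)).mul_mem ((oG (pQ F t)).mul_mem h₁ h₂)
      ((oG (pQ F t)).inv_mem h₁)) ((oG (pQ F t)).inv_mem h₂)
  have hMO : M ≤ oG (pQ F t) := hC.hMO.trans hOmO
  refine ⟨M1 M r hr2 hnrm, fun g hg => Or.inl hg, ?_, ?_, ?_⟩
  · rintro g (hg | hg)
    · exact hMO hg
    · have : g = (g * r) * r := by rw [mul_assoc, hr2, mul_one]
      rw [this]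
      exact (oG (pQ F t)).mul_mem (hMO hg) hrO
  · intro x hxBl hxsq hx
    obtain ⟨c, hc⟩ := hxsq
    have hc0 : c ≠ 0 := by
      intro h0
      rw [h0, mul_zero] at hc
      rcases mul_eq_zero.mp hc with h | h
      · exact hd h
      · exact hx h
    have hQcx' : pQ F t (c • x') = pQ F t x := by
      rw [pQs, hQx']
      field_simp
      rw [hc]
      ring
    have hcx'0 : pQ F t (c • x') ≠ 0 := by rw [hQcx']; exact hx
    have hcx'Bl : IsPBl (c • x') := ⟨hcx'0, i0, (pD F t i0).smul_mem c hx'D⟩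
    obtain ⟨h, hh, rfl⟩ := hTR hcx'Bl hxBl hQcx'
    have hhO : h ∈ oG (pQ F t) := hOmO hh.2
    have hhM : h ∈ M := hC.hmin.le hh
    have e1 : prefl F t hx = h * prefl F t hcx'0 * h⁻¹ :=
      (conj_refl (pQ F t) (pB F t) (pQs F t) (pQp F t) hhO hcx'0).symm
    rw [e1, prefl_smul hQx'0 hc0 hcx'0, ← hr]
    right
    have : h * r * h⁻¹ * r = h * (r * h⁻¹ * r) := by group
    rw [this]
    exact M.mul_mem hhM (hnrm _ (M.inv_mem hhM))
  · rintro g (hg | hg)
    · exact ⟨g, hg, 1, S.one_mem, (oG (pQ F t)).one_mem, (mul_one g).symm⟩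
    · refine ⟨g * r, hg, r, hrS, hrO, ?_⟩
      rw [mul_assoc, hr2, mul_one]

end Cfsg.Agent.Lib.Helper38_HP5_T2M1of_53
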