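import Mathlib
import Cfsg.Agent.Lib.Helper83_HP2Defs
import Cfsg.Agent.Lib.Helper38_HP5Defs
import Cfsg.Agent.Lib.Helper43_HP2_BASIC
import Cfsg.Agent.Lib.Helper53_HP2_RINV
import Cfsg.Agent.Lib.Helper61_HP2_ROT
import Cfsg.Agent.Lib.Helper10_HP2_Z4
import Cfsg.Agent.Lib.Helper70_Q2_TAN

set_option autoImplicit false
set_option linter.unusedSectionVars false
set_option linter.unusedVariables false

/-!
# HP2 market (architect helper83), package HP2-T2N, `_of` form (helper3): `T2N_of` = `T2N` with the statement of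
the package HP2-ROTB as an explicit hypothesis.
-/

/-! PORT by helper38 of `Cfsg.Agent.Lib.Helper3_HP2_T2Nof` (helper83's HP2 market) to the contexts
`PCtx5` / `PCtxR5` (`5 ≤ t` instead of `7 ≤ t`); generated mechanically, proofs unchanged. -/

namespace Cfsg.Agent.Lib.Helper38_HP5_T2Nof_3

open Cfsg.Agent.Lib.Helper38_HP5Defs

open Module Cfsg.Agent.Lib.Helper94_Symp Cfsg.Agent.Lib.Helper94_OrthSmall
  Cfsg.Agent.Lib.Helper94_OrthSiegel Cfsg.Agent.Lib.Helper94_OrthNondeg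
  Cfsg.Agent.Lib.Helper29_ODDefs Cfsg.Agent.Lib.Helper94_Q2Defs Cfsg.Agent.Lib.Helper83_HP2Defs
  Cfsg.Agent.Lib.Helper43_HP2_BASIC

open scoped commutatorElement

variable {F : Type*} [Field F] [Finite F] {t : ℕ} {S M L : Subgroup (PV F t ≃ₗ[F] PV F t)}

/-- a third index -/
theorem exists_third (ht : 3 ≤ t) (j l : Fin t) : ∃ i : Fin t, i ≠ j ∧ i ≠ l := by
  classical
  have h1 : ({j, l} : Finset (Fin t)).card < (Finset.univ : Finset (Fin t)).card := by
    rw [Finset.card_univ, Fintype.card_fin]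
    have : ({j, l} : Finset (Fin t)).card ≤ 2 := Finset.card_le_two
    omega
  obtain ⟨i, -, hi⟩ := Finset.exists_mem_notMem_of_card_lt_card h1
  refine ⟨i, fun h => hi ?_, fun h => hi ?_⟩
  · rw [h]; exact Finset.mem_insert_self _ _
  · rw [h]; exact Finset.mem_insert_of_mem (Finset.mem_singleton_self _)

theorem T2N_of
    (hROTB : ∀ {l : Fin t} {c : F}, c ≠ 0 → ∀ g : PV F t ≃ₗ[F] PV F t,
      (∀ x j, g x j = if j = l then rotAct (c ^ 2) (x j) else x j) → g ∈ pOm F t)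
    (hC : PCtx5 F t S M) (h2 : (2 : F) ≠ 0) {d : F} (hd : d ≠ 0)
    (hFS : ∀ g ∈ M, g ∉ S → ∀ x, IsPBl x → ¬ IsSquare (d * pQ F t x) → ∀ l, g x l ≠ 0)
    {M₁ : Subgroup (PV F t ≃ₗ[F] PV F t)} (hM₁ : M ≤ M₁) (hM₁O : M₁ ≤ oG (pQ F t))
    (hM₁F : ∀ g ∈ M₁, ∃ g' ∈ M, ∃ r ∈ S, r ∈ oG (pQ F t) ∧ g = g' * r)
    (hB : ∀ v, PInRc M₁ v → 2 ≤ (PSupp v).card → ∀ l, v l ≠ 0) :
    ∀ v, PInRc M₁ v → 2 ≤ (PSupp v).card → ∀ l, ¬ Sing (v l) := by
  classical
  intro v hv hcard l hsing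
  have hvl : v l ≠ 0 := hB v hv hcard l
  obtain ⟨hv0, hrv⟩ := hv
  obtain ⟨a, ha, ha4⟩ := Cfsg.Agent.Lib.Helper10_HP2_Z4.Z4 (F := F) hC.hq
  have hc0 : a ^ 2 ≠ 0 := pow_ne_zero 2 ha
  have hc1 : a ^ 2 ≠ 1 := by
    intro h
    apply ha4
    rw [show (4 : ℕ) = 2 * 2 by norm_num, pow_mul, h, one_pow]
  -- the rotation `h` of the coordinate `l` by `a ^ 2`
  obtain ⟨h, hhO, hhS, hh⟩ := Cfsg.Agent.Lib.Helper61_HP2_ROT.ROT S hC.hS
    (fun j => if j = l then a ^ 2 else 1) (by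
      intro j
      by_cases hj : j = l
      · rw [if_pos hj]; exact hc0
      · rw [if_neg hj]; exact one_ne_zero)
  have hh' : ∀ x j, h x j = if j = l then rotAct (a ^ 2) (x j) else x j := by
    intro x j
    rw [hh x j]
    by_cases hj : j = l
    · rw [if_pos hj, if_pos hj]
    · rw [if_neg hj, if_neg hj]
      unfold rotAct
      simp
  have hhOm : h ∈ pOm F t := hROTB ha h hh'
  have hhM : h ∈ M := hC.hmin.le ⟨hhS, hhOm⟩
  have hhM₁ : h ∈ M₁ := hM₁ hhM
  -- the vector `h v`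
  have hQhv : pQ F t (h v) = pQ F t v := hhO v
  have hhv0 : pQ F t (h v) ≠ 0 := by rw [hQhv]; exact hv0
  have hrhv : prefl F t hhv0 ∈ M₁ := by
    obtain ⟨_, h1⟩ := Cfsg.Agent.Lib.Helper53_HP2_RINV.RINV hM₁O ⟨hv0, hrv⟩ hhM₁
    exact h1
  -- the singular vector `u = v - h v`
  obtain ⟨u, hu_def⟩ : ∃ u : PV F t, u = v - h v := ⟨_, rfl⟩
  have hul : ∀ j, j ≠ l → u j = 0 := by
    intro j hj
    rw [hu_def, Pi.sub_apply, hh' v j, if_neg hj, sub_self]
  have huD : u ∈ pD F t l := hul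
  have hul1 : (u l).1 = (1 - a ^ 2) * (v l).1 := by
    rw [hu_def, Pi.sub_apply, hh' v l, if_pos rfl]
    unfold rotAct
    simp only [Prod.fst_sub]
    ring
  have hul2 : (u l).2 = (1 - (a ^ 2)⁻¹) * (v l).2 := by
    rw [hu_def, Pi.sub_apply, hh' v l, if_pos rfl]
    unfold rotAct
    simp only [Prod.snd_sub]
    ring
  have hQu : pQ F t u = 0 := by
    rw [pQ_of_mem huD, hul1, hul2]
    have hs : (v l).1 * (v l).2 = 0 := hsing
    linear_combination (1 - a ^ 2) * (1 - (a ^ 2)⁻¹) * hs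
  have hune : u l ≠ 0 := by
    intro h0
    apply hvl
    have e1 : (1 - a ^ 2) * (v l).1 = 0 := by rw [← hul1, h0]; rfl
    have e2 : (1 - (a ^ 2)⁻¹) * (v l).2 = 0 := by rw [← hul2, h0]; rfl
    have n1 : (1 - a ^ 2) ≠ 0 := sub_ne_zero.mpr (Ne.symm hc1)
    have n2 : (1 - (a ^ 2)⁻¹) ≠ 0 := by
      intro h
      apply hc1
      have h3 : (a ^ 2)⁻¹ = 1 := by linear_combination -h
      exact inv_eq_one.mp h3
    ext
    · exact (mul_eq_zero.mp e1).resolve_left n1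
    · exact (mul_eq_zero.mp e2).resolve_left n2
  -- the Siegel element `ψ`
  have hQu' : pQ F t (v - h v) = 0 := by rw [← hu_def]; exact hQu
  have hTAN := Cfsg.Agent.Lib.Helper70_Q2_TAN.TAN (pQ F t) (pB F t) (pQs F t) (pQp F t) hv0 hhv0
    hQhv.symm hQu'
  rw [← hu_def] at hTAN
  obtain ⟨ψ, hψ_def⟩ : ∃ ψ : PV F t ≃ₗ[F] PV F t, ψ = prefl F t hhv0 * prefl F t hv0 := ⟨_, rfl⟩
  have hψM₁ : ψ ∈ M₁ := by rw [hψ_def]; exact M₁.mul_mem hrhv hrv
  have hrO : prefl F t hv0 ∈ oG (pQ F t) := refl_mem (pQ F t) (pB F t) (pQs F t) (pQp F t) hv0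
  have hψOm : ψ ∈ pOm F t := by
    have e : ψ = ⁅h, prefl F t hv0⁆ := by
      rw [hψ_def, commutatorElement_def, refl_inv (pQ F t) (pB F t) (pQs F t) (pQp F t) hv0,
        conj_refl (pQ F t) (pB F t) (pQs F t) (pQp F t) hhO hv0]
    rw [e]
    exact Subgroup.commutator_mem_commutator hhO hrO
  have hψM : ψ ∈ M := by
    obtain ⟨g', hg'M, r, hrS, -, hψgr⟩ := hM₁F ψ hψM₁
    have hr : r = g'⁻¹ * ψ := by rw [hψgr]; group
    have hrOm : r ∈ pOm F t := by
      rw [hr]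
      exact (pOm F t).mul_mem ((pOm F t).inv_mem (hC.hMO hg'M)) hψOm
    have hrM : r ∈ M := hC.hmin.le ⟨hrS, hrOm⟩
    rw [hψgr]
    exact M.mul_mem hg'M hrM
  -- the formula for `ψ` on the vectors vanishing at `l`
  have hBuv : pB F t u v = 0 := by
    rw [hu_def]
    exact Cfsg.Agent.Lib.Helper70_Q2_TAN.tan_orth (pQ F t) (pB F t) (pQs F t) (pQp F t)
      hQhv.symm hQu'
  have hψx : ∀ x : PV F t, x l = 0 → ψ x = x - ((pQ F t v)⁻¹ * pB F t x v) • u := by
    intro x hxl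
    have hBxu : pB F t x u = 0 := by
      rw [pB_of_mem huD x, hxl]
      simp
    rw [hψ_def, hTAN, sieg_apply (pQ F t) (pB F t) (pQs F t) (pQp F t) hQu
      (by rw [map_smul, hBuv, smul_zero]) x, hBxu, map_smul, smul_eq_mul, zero_smul, mul_zero,
      zero_smul, add_zero, sub_zero]
  -- a second index in the support
  obtain ⟨j, hjS, hjl⟩ := Finset.exists_mem_ne (show 1 < (PSupp v).card by omega) l
  have hvj : v j ≠ 0 := by
    unfold PSupp at hjS
    exact (Finset.mem_filter.mp hjS).2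
  -- `ψ ∉ S`
  have hψS : ψ ∉ S := by
    intro hS
    obtain ⟨σ, hσ⟩ := (hC.hS ψ).mp hS
    -- a vector of `pD j` not orthogonal to `v`
    obtain ⟨x, hxD, hxv, hxj⟩ : ∃ x : PV F t, x ∈ pD F t j ∧ pB F t x v ≠ 0 ∧ x j ≠ 0 := by
      have hco := coord_eq v j
      by_cases h1 : pB F t v (pf j) = 0
      · have h3 : pB F t v (pe j) ≠ 0 := by
          intro h4
          apply hvj
          rw [hco, h1, h4]
          rfl
        refine ⟨pe j, single_mem j _, ?_, ?_⟩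
        · rw [B_symm (pQ F t) (pB F t) (pQp F t)]; exact h3
        · unfold pe
          rw [Pi.single_eq_same]
          intro h5
          have := congrArg Prod.fst h5
          simp at this
      · refine ⟨pf j, single_mem j _, ?_, ?_⟩
        · rw [B_symm (pQ F t) (pB F t) (pQp F t)]; exact h1
        · unfold pf
          rw [Pi.single_eq_same]
          intro h5
          have := congrArg Prod.snd h5
          simp at this
    have hxl : x l = 0 := hxD l (Ne.symm hjl)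
    have hψxv := hψx x hxl
    have hκ : (pQ F t v)⁻¹ * pB F t x v ≠ 0 := mul_ne_zero (inv_ne_zero hv0) hxv
    have e1 : ψ x j = x j := by
      rw [hψxv, Pi.sub_apply, Pi.smul_apply, hul j hjl, smul_zero, sub_zero]
    have e2 : ψ x l = -(((pQ F t v)⁻¹ * pB F t x v) • u l) := by
      rw [hψxv, Pi.sub_apply, Pi.smul_apply, hxl, zero_sub]
    have hmem : ψ x ∈ pD F t (σ j) := by
      rw [← hσ j]
      exact ⟨x, hxD, rfl⟩
    by_cases hσj : σ j = j
    · have h6 := hmem l (by rw [hσj]; exact Ne.symm hjl)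
      rw [e2, neg_eq_zero] at h6
      rcases smul_eq_zero.mp h6 with h7 | h7
      · exact hκ h7
      · exact hune h7
    · have h6 := hmem j (fun h => hσj h.symm)
      rw [e1] at h6
      exact hxj h6
  -- contradiction with `hFS`
  have hchar : ringChar F ≠ 2 := by
    intro h
    apply h2
    have h0 : ((ringChar F : ℕ) : F) = 0 := ringChar.Nat.cast_ringChar
    rw [h] at h0
    exact_mod_cast h0
  obtain ⟨n, hn⟩ := FiniteField.exists_nonsquare hchar
  have hn0 : n ≠ 0 := by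
    intro h
    apply hn
    rw [h]
    exact ⟨0, by ring⟩
  obtain ⟨i, hij, hil⟩ := exists_third (by have := hC.ht; omega) j l
  obtain ⟨x, hx_def⟩ : ∃ x : PV F t, x = Pi.single j (n / d, (1 : F)) := ⟨_, rfl⟩
  have hxD : x ∈ pD F t j := by rw [hx_def]; exact single_mem j _
  have hQx : pQ F t x = n / d := by
    rw [pQ_of_mem hxD, hx_def, Pi.single_eq_same]
    simp
  have hBl : IsPBl x := ⟨by rw [hQx]; exact div_ne_zero hn0 hd, j, hxD⟩
  have hns : ¬ IsSquare (d * pQ F t x) := by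
    rw [hQx, mul_div_cancel₀ _ hd]
    exact hn
  have hxl : x l = 0 := hxD l (Ne.symm hjl)
  have h9 := hFS ψ hψM hψS x hBl hns i
  apply h9
  rw [hψx x hxl, Pi.sub_apply, Pi.smul_apply, hul i hil, smul_zero, sub_zero]
  exact hxD i hij

end Cfsg.Agent.Lib.Helper38_HP5_T2Nof_3
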