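import Mathlib
import Cfsg.Agent.Lib.Helper83_HP2Defs
import Cfsg.Agent.Lib.Helper38_HP5Defs
import Cfsg.Agent.Lib.Helper38_HP5_T2Nof_3
import Cfsg.Agent.Lib.Helper65_HP2_ROTB

set_option autoImplicit false
set_option linter.unusedSectionVars false
set_option linter.unusedVariables false

/-!
# HP2 market (architect helper83), package HP2-T2N (helper3): verbatim wrapper of `T2N_of` with the landed HP2-ROTB.
-/

/-! PORT by helper38 of `Cfsg.Agent.Lib.Helper3_HP2_T2N` (helper83's HP2 market) to the contexts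
`PCtx5` / `PCtxR5` (`5 ≤ t` instead of `7 ≤ t`); generated mechanically, proofs unchanged. -/

namespace Cfsg.Agent.Lib.Helper38_HP5_T2N_3

open Cfsg.Agent.Lib.Helper38_HP5Defs

open Module Cfsg.Agent.Lib.Helper94_Symp Cfsg.Agent.Lib.Helper94_OrthSmall
  Cfsg.Agent.Lib.Helper94_OrthSiegel Cfsg.Agent.Lib.Helper94_OrthNondeg
  Cfsg.Agent.Lib.Helper29_ODDefs Cfsg.Agent.Lib.Helper94_Q2Defs Cfsg.Agent.Lib.Helper83_HP2Defs

variable {F : Type*} [Field F] [Finite F] {t : ℕ} {S M L : Subgroup (PV F t ≃ₗ[F] PV F t)}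

/-- **HP2-T2N** -/
theorem T2N (hC : PCtx5 F t S M) (h2 : (2 : F) ≠ 0) {d : F} (hd : d ≠ 0)
    (hFS : ∀ g ∈ M, g ∉ S → ∀ x, IsPBl x → ¬ IsSquare (d * pQ F t x) → ∀ l, g x l ≠ 0)
    {M₁ : Subgroup (PV F t ≃ₗ[F] PV F t)} (hM₁ : M ≤ M₁) (hM₁O : M₁ ≤ oG (pQ F t))
    (hM₁F : ∀ g ∈ M₁, ∃ g' ∈ M, ∃ r ∈ S, r ∈ oG (pQ F t) ∧ g = g' * r)
    (hB : ∀ v, PInRc M₁ v → 2 ≤ (PSupp v).card → ∀ l, v l ≠ 0) :
    ∀ v, PInRc M₁ v → 2 ≤ (PSupp v).card → ∀ l, ¬ Sing (v l) :=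
  Cfsg.Agent.Lib.Helper38_HP5_T2Nof_3.T2N_of
    (fun hc g hg => Cfsg.Agent.Lib.Helper65_HP2_ROTB.ROTB hc g hg) hC h2 hd hFS hM₁ hM₁O hM₁F hB

end Cfsg.Agent.Lib.Helper38_HP5_T2N_3
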