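/-
Q2 market (architect helper94), package Q2-MINRED: in a finite group, every proper overgroup `K` of `H` contains a
minimal overgroup of `H`.
-/
import Mathlib
import Cfsg.Agent.Lib.Helper94_Q2Defs

set_option autoImplicit false
set_option linter.unusedSectionVars false
set_option linter.unusedVariables false

namespace Cfsg.Agent.Lib.Helper79_Q2_MINRED

open Module Cfsg.Agent.Lib.Helper94_Symp Cfsg.Agent.Lib.Helper94_OrthSmall
  Cfsg.Agent.Lib.Helper94_OrthSiegel Cfsg.Agent.Lib.Helper94_OrthNondeg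
  Cfsg.Agent.Lib.Helper29_ODDefs Cfsg.Agent.Lib.Helper94_Q2Defs

variable {F : Type*} [Field F] [Finite F] {a b : F} [Fact (∀ r : F, r ^ 2 ≠ a + b * r)] {t : ℕ}
  {S M L : Subgroup (MV a b t ≃ₗ[F] MV a b t)}

theorem MINRED {G : Type*} [Group G] [Finite G] (H K : Subgroup G) (hHK : H ≤ K) (hne : K ≠ H) :
    ∃ M : Subgroup G, MinOver H M ∧ M ≤ K := by
  have hfin : {M : Subgroup G | H ≤ M ∧ M ≠ H ∧ M ≤ K}.Finite := Set.toFinite _
  have hnon : {M : Subgroup G | H ≤ M ∧ M ≠ H ∧ M ≤ K}.Nonempty := ⟨K, hHK, hne, le_refl K⟩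
  obtain ⟨M, hM⟩ := hfin.exists_minimal hnon
  obtain ⟨⟨h1, h2, h3⟩, hmin⟩ := hM
  refine ⟨M, ⟨h1, h2, ?_⟩, h3⟩
  intro K' hK' hK'M
  by_cases hK'H : K' = H
  · exact Or.inl hK'H
  · right
    exact le_antisymm hK'M (hmin ⟨hK', hK'H, hK'M.trans h3⟩ hK'M)

end Cfsg.Agent.Lib.Helper79_Q2_MINRED
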