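import Mathlib
import Cfsg.Agent.Lib.Helper83_HP2Defs
import Cfsg.Agent.Lib.Helper38_HP5Defs
import Cfsg.Agent.Lib.Helper79_Q2_MINRED
import Cfsg.Agent.Lib.Helper38_HP5_LGRP_10
import Cfsg.Agent.Lib.Helper17_HP2_STRICT
import Cfsg.Agent.Lib.Helper20_HP2_BRISO
import Cfsg.Agent.Lib.Helper38_HP5_DICH_41
import Cfsg.Agent.Lib.Helper55_HP2_TRANS
import Cfsg.Agent.Lib.Helper38_HP5_BRIDGE_7
import Cfsg.Agent.Lib.Helper38_HP5_NRMORB_82
import Cfsg.Agent.Lib.Helper38_HP5_NOTS_83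
import Cfsg.Agent.Lib.Helper38_HP5_CASES_10
import Cfsg.Agent.Lib.Helper38_HP5_RMAIN_83
import Cfsg.Agent.Lib.Helper38_HP5_T1_83
import Cfsg.Agent.Lib.Helper38_HP5_T2_83

set_option autoImplicit false
set_option linter.unusedSectionVars false
set_option linter.unusedVariables false

/-!
Assembly of the HP2 market: the stabiliser of an orthogonal decomposition into `t ≥ 5` hyperbolic
planes is maximal in `Ω = [O, O]` (every finite field with `|F| ≥ 7`, characteristic two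
included), first in the concrete model `Fin t → F × F`, then in helper94's abstract
setting (`Q : V → F`, polar form `B`).  Row S5692, case `k = 2` with plus-type planes.
(helper83)
-/

/-! PORT by helper38 of `Cfsg.Agent.Lib.Helper83_HP2Main` (helper83's HP2 market) to the contexts
`PCtx5` / `PCtxR5` (`5 ≤ t` instead of `7 ≤ t`); generated mechanically, proofs unchanged. -/

namespace Cfsg.Agent.Lib.Helper38_HP5_Main_83

open Cfsg.Agent.Lib.Helper38_HP5Defs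

open Module Cfsg.Agent.Lib.Helper94_Symp Cfsg.Agent.Lib.Helper94_OrthSmall
  Cfsg.Agent.Lib.Helper94_OrthSiegel Cfsg.Agent.Lib.Helper94_OrthNondeg
  Cfsg.Agent.Lib.Helper29_ODDefs Cfsg.Agent.Lib.Helper94_Q2Defs Cfsg.Agent.Lib.Helper83_HP2Defs

open Cfsg.Agent.Lib.Helper38_HP5_LGRP_10 (LGRP)
open Cfsg.Agent.Lib.Helper17_HP2_STRICT (STRICT)
open Cfsg.Agent.Lib.Helper38_HP5_DICH_41 (DICH)
open Cfsg.Agent.Lib.Helper55_HP2_TRANS (TRANS)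
open Cfsg.Agent.Lib.Helper38_HP5_NRMORB_82 (NRMORB)
open Cfsg.Agent.Lib.Helper38_HP5_NOTS_83 (NOTS)
open Cfsg.Agent.Lib.Helper38_HP5_CASES_10 (CASES_aux)
open Cfsg.Agent.Lib.Helper79_Q2_MINRED (MINRED)
open Cfsg.Agent.Lib.Helper38_HP5_RMAIN_83 (RMAIN)
open Cfsg.Agent.Lib.Helper38_HP5_T1_83 (T1)
open Cfsg.Agent.Lib.Helper38_HP5_T2_83 (T2)
open Cfsg.Agent.Lib.Helper20_HP2_BRISO (BRISO)
open Cfsg.Agent.Lib.Helper38_HP5_BRIDGE_7 (BRIDGE)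

section Model

variable {F : Type*} [Field F] [Finite F] {t : ℕ} {S M L : Subgroup (PV F t ≃ₗ[F] PV F t)}

/-- **HP2-CASES** (from helper10's `CASES_aux`) -/
theorem CASES (hC : PCtx5 F t S M) :
    (∀ x, IsPBl x → PNrm M x) ∨ (∀ x, IsPBl x → PCStar S M x) ∨
      ((2 : F) ≠ 0 ∧ ∃ d : F, d ≠ 0 ∧ (∀ x, IsPBl x → IsSquare (d * pQ F t x) → PNrm M x) ∧
        (∀ x, IsPBl x → ¬ IsSquare (d * pQ F t x) → PCStar S M x)) :=
  CASES_aux (fun hx => DICH hC hx) (fun hx hn => NRMORB hC hx hn)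
    (fun hS ht _ _ hx hy h => TRANS hS ht hx hy h) hC

/-- Every minimal overgroup of `H` in `Ω` is `Ω`. -/
theorem core (hG3 : ∀ M : Subgroup (PV F t ≃ₗ[F] PV F t),
      (∀ u z, pQ F t u = 0 → pB F t u z = 0 → sieg (pQ F t) (pB F t) u z ∈ M) →
        pOm F t ≤ M)
    (hC : PCtx5 F t S M) : pOm F t ≤ M := by
  rcases CASES hC with h1 | h2 | ⟨h2, d, hd, hN, hCs⟩
  · obtain ⟨L, hML, hLO, hLR, hLM⟩ := LGRP hC h1
    obtain ⟨g, hgM, hgS⟩ := NOTS hC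
    have hCR : PCtxR5 F t S L :=
      ⟨hC.ht, hC.hq, hC.hS, hLO, hC.hmin.le.trans hML, hLR, fun h => hgS (h (hML hgM))⟩
    have hall := RMAIN hCR
    have hΩL := hG3 L hall
    exact (le_inf hΩL le_rfl).trans hLM
  · exact (T1 hC h2).elim
  · exact (T2 hC h2 hd hN hCs).elim

/-- **Maximality of `(O_2^+(q) wr S_t) ∩ Ω` in `Ω`** for `t ≥ 5` hyperbolic planes, `q ≥ 7`
(concrete model). -/
theorem maximal_dstab_p2_model (ht : 5 ≤ t) (hq : 7 ≤ Nat.card F)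
    (hG2 : ∀ u z, pQ F t u = 0 → pB F t u z = 0 →
      sieg (pQ F t) (pB F t) u z ∈ pOm F t)
    (hG3 : ∀ M : Subgroup (PV F t ≃ₗ[F] PV F t),
      (∀ u z, pQ F t u = 0 → pB F t u z = 0 → sieg (pQ F t) (pB F t) u z ∈ M) →
        pOm F t ≤ M)
    (S : Subgroup (PV F t ≃ₗ[F] PV F t)) (hS : IsDStab (pD F t) S) :
    (S ⊓ pOm F t < pOm F t) ∧
      ∀ M : Subgroup (PV F t ≃ₗ[F] PV F t), S ⊓ pOm F t ≤ M → M ≤ pOm F t →
        M = S ⊓ pOm F t ∨ M = pOm F t := by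
  refine ⟨STRICT hS (by omega) hG2, fun M hHM hMO => ?_⟩
  by_cases hMH : M = S ⊓ pOm F t
  · exact Or.inl hMH
  right
  have : Finite (PV F t ≃ₗ[F] PV F t) := finite_PVEquiv
  obtain ⟨M₀, hmin, hM₀⟩ := MINRED (S ⊓ pOm F t) M hHM hMH
  have hC : PCtx5 F t S M₀ := ⟨ht, hq, hS, hmin, hM₀.trans hMO⟩
  exact le_antisymm hMO ((core hG3 hC).trans hM₀)

end Model

/-- **Maximality of the stabiliser of an orthogonal decomposition into `t ≥ 5` hyperbolic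
planes** in `Ω = [O, O]`, `|F| ≥ 7`, any characteristic (abstract setting). -/
theorem maximal_dstab_planes_plus {F V : Type*} [Field F] [AddCommGroup V] [Module F V] [Finite F]
    [FiniteDimensional F V] {Q : V → F} {B : LinearMap.BilinForm F V}
    (hQs : ∀ (c : F) (v : V), Q (c • v) = c * c * Q v)
    (hQp : ∀ u v : V, Q (u + v) = Q u + Q v + B u v)
    (hG2 : ∀ u z, Q u = 0 → B u z = 0 → sieg Q B u z ∈ ⁅oG Q, oG Q⁆)
    (hG3 : ∀ M : Subgroup (V ≃ₗ[F] V),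
      (∀ u z, Q u = 0 → B u z = 0 → sieg Q B u z ∈ M) → ⁅oG Q, oG Q⁆ ≤ M)
    {t : ℕ} (D : Fin t → Submodule F V) (hD : ODec Q B 2 D)
    (hhyp : ∀ i, ∃ x ∈ D i, x ≠ 0 ∧ Q x = 0) (ht : 5 ≤ t) (hq : 7 ≤ Nat.card F)
    (S : Subgroup (V ≃ₗ[F] V)) (hS : IsDStab D S) :
    (S ⊓ ⁅oG Q, oG Q⁆ < ⁅oG Q, oG Q⁆) ∧
      ∀ M : Subgroup (V ≃ₗ[F] V), S ⊓ ⁅oG Q, oG Q⁆ ≤ M → M ≤ ⁅oG Q, oG Q⁆ →
        M = S ⊓ ⁅oG Q, oG Q⁆ ∨ M = ⁅oG Q, oG Q⁆ :=
  BRIDGE (fun t ht hq hG2 hG3 S hS => maximal_dstab_p2_model ht hq hG2 hG3 S hS)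
    hQs hQp hG2 hG3 D (BRISO hQs hQp (by omega) D hD hhyp) ht hq S hS

end Cfsg.Agent.Lib.Helper38_HP5_Main_83
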