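import Mathlib
import Cfsg.Agent.S0713

/-!
# Tools for multiply transitive permutation groups (helper38)

* `fixG G s`: the pointwise stabiliser of a finset in a permutation group;
* `exists_mem_agree_le`: a `k`-transitive group realises any permutation on at most `k` points;
* `isThreeCycle_of_small_support`, `alt_le_of_small_support`: a primitive `s`-transitive group
  with a non-identity element moving at most `s` points contains the alternating group;
* `witt`: Witt's lemma on normalisers of Sylow subgroups of pointwise stabilisers.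
-/

set_option autoImplicit false
set_option linter.unusedSectionVars false

namespace Cfsg.Agent.Lib.Helper38_PermTools

open Equiv MulAction
open Cfsg.Agent.S0713 (apply_inv_self' inv_apply_self')

variable {α : Type*} [Fintype α] [DecidableEq α]

/-- elements of `G` fixing `s` pointwise -/
def fixG (G : Subgroup (Perm α)) (s : Finset α) : Subgroup (Perm α) :=
  G ⊓ fixingSubgroup (Perm α) (s : Set α)

theorem mem_fixG {G : Subgroup (Perm α)} {s : Finset α} {g : Perm α} :
    g ∈ fixG G s ↔ g ∈ G ∧ ∀ x ∈ s, g x = x := by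
  simp [fixG, mem_fixingSubgroup_iff]

theorem fixG_le (G : Subgroup (Perm α)) (s : Finset α) : fixG G s ≤ G := inf_le_left

theorem fixG_mono (G : Subgroup (Perm α)) {s t : Finset α} (h : s ⊆ t) : fixG G t ≤ fixG G s := by
  intro g hg
  rw [mem_fixG] at hg ⊢
  exact ⟨hg.1, fun x hx => hg.2 x (h hx)⟩

/-- a `k`-transitive group realises every permutation on a set of at most `k` points. -/
theorem exists_mem_agree_le (G : Subgroup (Perm α)) {k : ℕ} (hG : IsMultiplyPretransitive G α k)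
    (hk : k ≤ Fintype.card α) (Δ : Finset α) (hΔ : Δ.card ≤ k) (σ : Perm α) :
    ∃ h ∈ G, ∀ x ∈ Δ, h x = σ x := by
  obtain ⟨Δ', hsub, hcard⟩ := Finset.exists_superset_card_eq hΔ hk
  obtain ⟨h, hh, hag⟩ := Cfsg.Agent.S0713.exists_mem_agree G hG Δ' hcard σ
  exact ⟨h, hh, fun x hx => hag x (hsub hx)⟩

/-- If `g` fixes all points of the support of `d` except `a`, and moves `a` outside the support,
then `(g d g⁻¹)⁻¹ d` is the 3-cycle `a → g a → d⁻¹ a → a`. -/
theorem conj_inv_mul_eq {d g : Perm α} {a : α}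
    (ha : d a ≠ a) (hg : ∀ x, d x ≠ x → x ≠ a → g x = x) (hga : d (g a) = g a) :
    (g * d * g⁻¹)⁻¹ * d = swap a (d⁻¹ a) * swap a (g a) := by
  have hb : d⁻¹ a ≠ a := fun h => ha (by rw [Perm.inv_eq_iff_eq] at h; exact h.symm)
  have hb' : d (d⁻¹ a) ≠ d⁻¹ a := by rw [apply_inv_self']; exact hb.symm
  have haa' : g a ≠ a := fun h => ha (h ▸ hga)
  have hba' : g a ≠ d⁻¹ a := fun h => hb' (h ▸ hga)
  -- key: `g⁻¹ z` is not moved by `d` when `z` is not moved by `d` and `z ≠ g a`, or z = a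
  have key : ∀ z, (d z = z ∧ z ≠ g a) ∨ z = a → d (g⁻¹ z) = g⁻¹ z := by
    intro z hz
    by_contra hne
    by_cases hza : g⁻¹ z = a
    · have hz' : z = g a := by rw [← hza, apply_inv_self']
      rcases hz with hz | hz
      · exact hz.2 hz'
      · exact haa' (hz'.symm.trans hz)
    · have h1 := hg _ hne hza
      rw [apply_inv_self'] at h1
      rcases hz with hz | hz
      · rw [← h1] at hne; exact hne hz.1
      · rw [← h1] at hza; exact hza hz
  rw [inv_mul_eq_iff_eq_mul]
  ext ω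
  simp only [Perm.mul_apply]
  by_cases h1 : ω = a
  · subst h1
    rw [swap_apply_left, swap_apply_of_ne_of_ne haa' hba', inv_apply_self']
    have h7 : d (d ω) ≠ d ω := fun h => ha (d.injective h)
    exact (hg (d ω) h7 ha).symm
  by_cases h2 : ω = g a
  · subst h2
    rw [swap_apply_right, swap_apply_left, hga]
    have : g⁻¹ (d⁻¹ a) = d⁻¹ a := by
      rw [Perm.inv_eq_iff_eq]; exact (hg _ hb' hb).symm
    rw [this, apply_inv_self']
  by_cases h3 : ω = d⁻¹ a
  · subst h3
    rw [swap_apply_of_ne_of_ne hb hba'.symm, swap_apply_right, key a (Or.inr rfl), apply_inv_self',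
      apply_inv_self']
  · rw [swap_apply_of_ne_of_ne h1 h2, swap_apply_of_ne_of_ne h1 h3]
    by_cases h4 : d ω = ω
    · rw [h4, key ω (Or.inl ⟨h4, h2⟩), apply_inv_self']
    · have h5 : g ω = ω := hg ω h4 h1
      have h6 : g⁻¹ ω = ω := by rw [Perm.inv_eq_iff_eq]; exact h5.symm
      rw [h6]
      have h7 : d (d ω) ≠ d ω := fun h => h4 (d.injective h)
      have h8 : d ω ≠ a := by
        intro h
        apply h3
        rw [← h, inv_apply_self']
      exact (hg _ h7 h8).symm

theorem isThreeCycle_conj_inv_mul {d g : Perm α} {a : α}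
    (ha : d a ≠ a) (hg : ∀ x, d x ≠ x → x ≠ a → g x = x) (hga : d (g a) = g a) :
    ((g * d * g⁻¹)⁻¹ * d).IsThreeCycle := by
  rw [conj_inv_mul_eq ha hg hga]
  have hb : d⁻¹ a ≠ a := fun h => ha (by rw [Perm.inv_eq_iff_eq] at h; exact h.symm)
  have hb' : d (d⁻¹ a) ≠ d⁻¹ a := by rw [apply_inv_self']; exact hb.symm
  have haa' : g a ≠ a := fun h => ha (h ▸ hga)
  have hba' : g a ≠ d⁻¹ a := fun h => hb' (h ▸ hga)
  exact Perm.isThreeCycle_swap_mul_swap_same hb.symm haa'.symm hba'.symm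

/-- A primitive `s`-transitive group containing a non-identity element moving at most `s` points
contains the alternating group. -/
theorem alt_le_of_small_support (G : Subgroup (Perm α)) (hprim : IsPreprimitive G α) {s : ℕ}
    (hG : IsMultiplyPretransitive G α s) (hs : s ≤ Fintype.card α) {d : Perm α} (hd : d ∈ G)
    (hd1 : d ≠ 1) (hsupp : d.support.card ≤ s) (hlt : d.support.card < Fintype.card α) :
    alternatingGroup α ≤ G := by
  obtain ⟨a, ha⟩ : ∃ a, d a ≠ a := by
    by_contra h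
    push Not at h
    exact hd1 (Perm.ext h)
  obtain ⟨a', ha'⟩ : ∃ a', a' ∉ d.support := by
    by_contra h
    push Not at h
    have : d.support = Finset.univ := Finset.eq_univ_iff_forall.mpr h
    rw [this, Finset.card_univ] at hlt
    exact lt_irrefl _ hlt
  rw [Perm.notMem_support] at ha'
  have haa' : a ≠ a' := fun h => ha (h ▸ ha')
  obtain ⟨g, hgG, hg⟩ := Cfsg.Agent.S0713.exists_mem_agree G
    (isMultiplyPretransitive_of_le (n := s) (m := d.support.card) hsupp
      (by rw [Nat.card_eq_fintype_card]; exact_mod_cast hs)) d.support rfl (swap a a')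
  have hga : g a = a' := by
    rw [hg a (Perm.mem_support.mpr ha), swap_apply_left]
  have h3 := isThreeCycle_conj_inv_mul (d := d) (g := g) (a := a) ha
    (fun x hx hxa => by
      rw [hg x (Perm.mem_support.mpr hx)]
      exact swap_apply_of_ne_of_ne hxa (fun h => hx (h ▸ ha')))
    (by rw [hga]; exact ha')
  refine Equiv.Perm.alternatingGroup_le_of_isPreprimitive_of_isThreeCycle_mem hprim h3 ?_
  exact G.mul_mem (G.inv_mem (G.mul_mem (G.mul_mem hgG hd) (G.inv_mem hgG))) hd

theorem card_mul_relIndex {G : Type*} [Group G] {H K : Subgroup G} (h : H ≤ K) :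
    Nat.card H * H.relIndex K = Nat.card K := by
  have := Subgroup.relIndex_mul_relIndex (⊥ : Subgroup G) H K bot_le h
  rwa [Subgroup.relIndex_bot_left, Subgroup.relIndex_bot_left] at this

theorem conj_mem_fixG {G : Subgroup (Perm α)} {s : Finset α} {g q : Perm α} (hg : g ∈ G)
    (hq : q ∈ fixG G s) : g * q * g⁻¹ ∈ fixG G (s.image g) := by
  rw [mem_fixG] at hq ⊢
  refine ⟨G.mul_mem (G.mul_mem hg hq.1) (G.inv_mem hg), fun y hy => ?_⟩
  obtain ⟨x, hx, rfl⟩ := Finset.mem_image.mp hy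
  simp only [Perm.mul_apply, inv_apply_self', hq.2 x hx]

/-- Witt's lemma. -/
theorem witt {p : ℕ} [Fact p.Prime] (G Q : Subgroup (Perm α)) (s t : Finset α) (g : Perm α)
    (hg : g ∈ G) (hst : s.image g = t)
    (hQs : Q ≤ fixG G s) (hQt : Q ≤ fixG G t) (hQp : IsPGroup p Q)
    (hsyl : ¬ p ∣ Q.relIndex (fixG G t)) :
    ∃ h ∈ fixG G t, h * g ∈ Subgroup.normalizer (Q : Set (Perm α)) := by
  set H := fixG G t with hH
  -- the conjugate of `Q`
  let Q' : Subgroup (Perm α) := Q.map (MulAut.conj g).toMonoidHom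
  have hQ'H : Q' ≤ H := by
    rintro _ ⟨q, hq, rfl⟩
    have := conj_mem_fixG hg (hQs hq)
    rw [hst] at this
    simpa using this
  have hcard : Nat.card Q' = Nat.card Q :=
    Nat.card_congr (Q.equivMapOfInjective _ (MulAut.conj g).injective).symm.toEquiv
  have hrel : Q'.relIndex H = Q.relIndex H := by
    have h1 := card_mul_relIndex hQ'H
    have h2 := card_mul_relIndex hQt
    rw [hcard] at h1
    have hpos : 0 < Nat.card Q := Nat.card_pos
    exact Nat.eq_of_mul_eq_mul_left hpos (h1.trans h2.symm)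
  have hQ'p : IsPGroup p Q' := hQp.map _
  let P1 : Sylow p H := (hQp.comap_subtype (H := Q) (K := H)).toSylow (by
    simpa [Subgroup.relIndex] using hsyl)
  let P2 : Sylow p H := (hQ'p.comap_subtype (H := Q') (K := H)).toSylow (by
    rw [← hrel] at hsyl
    simpa [Subgroup.relIndex] using hsyl)
  obtain ⟨h, hh⟩ := MulAction.exists_smul_eq H P2 P1
  refine ⟨h, h.2, ?_⟩
  have hsub : ∀ q ∈ Q, (h * g) * q * ((h : Perm α) * g)⁻¹ ∈ Q := by
    intro q hq
    have hq2 : (⟨g * q * g⁻¹, hQ'H ⟨q, hq, rfl⟩⟩ : H) ∈ (P2 : Subgroup H) := by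
      change _ ∈ Q'.subgroupOf H
      rw [Subgroup.mem_subgroupOf]
      exact ⟨q, hq, rfl⟩
    have hq1 : h * ⟨g * q * g⁻¹, hQ'H ⟨q, hq, rfl⟩⟩ * h⁻¹ ∈ (P1 : Subgroup H) := by
      rw [← hh, Sylow.coe_subgroup_smul]
      have := Subgroup.smul_mem_pointwise_smul _ (MulAut.conj h) _ hq2
      simpa using this
    have hq1' : (h * ⟨g * q * g⁻¹, hQ'H ⟨q, hq, rfl⟩⟩ * h⁻¹ : H) ∈ Q.subgroupOf H := hq1
    rw [Subgroup.mem_subgroupOf] at hq1'
    have : ((h : Perm α) * g) * q * ((h : Perm α) * g)⁻¹ = h * (g * q * g⁻¹) * (h : Perm α)⁻¹ := by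
      group
    rw [this]
    simpa using hq1'
  exact Subgroup.mem_normalizer_fintype (fun q hq => hsub q hq)

/-- 2-transitive implies primitive, in the form used here -/
theorem isPreprimitive_of_multiply (G : Subgroup (Perm α)) {m : ℕ}
    (hG : IsMultiplyPretransitive G α m) (hm : 2 ≤ m) (hmn : m ≤ Fintype.card α) :
    IsPreprimitive G α := by
  apply isPreprimitive_of_is_two_pretransitive
  exact isMultiplyPretransitive_of_le (n := m) (m := 2) hm
    (by rw [Nat.card_eq_fintype_card]; exact hmn)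

/-- A `m`-transitive group moves any finset of at most `m` points to any other of the same
size. -/
theorem exists_mem_image_eq (G : Subgroup (Perm α)) {m : ℕ}
    (hG : IsMultiplyPretransitive G α m) (hm : m ≤ Fintype.card α) (T T' : Finset α)
    (hT : T.card = T'.card) (hle : T.card ≤ m) : ∃ g ∈ G, T.image g = T' := by
  let e : {x // x ∈ T} ≃ {x // x ∈ T'} := Finset.equivOfCardEq hT
  obtain ⟨g, hgG, hg⟩ := exists_mem_agree_le G hG hm T hle e.extendSubtype
  refine ⟨g, hgG, ?_⟩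
  apply Finset.eq_of_subset_of_card_le
  · intro y hy
    obtain ⟨x, hx, rfl⟩ := Finset.mem_image.mp hy
    rw [hg x hx]
    exact e.extendSubtype_mem x hx
  · rw [Finset.card_image_of_injective _ g.injective, hT]

theorem card_fixG_image_le (G : Subgroup (Perm α)) {g : Perm α} (hg : g ∈ G) (T : Finset α) :
    Nat.card (fixG G T) ≤ Nat.card (fixG G (T.image g)) := by
  apply Nat.card_le_card_of_injective
    (fun q : fixG G T => (⟨g * q * g⁻¹, conj_mem_fixG hg q.2⟩ : fixG G (T.image g)))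
  intro a b hab
  have := congrArg Subtype.val hab
  simp only [mul_left_inj, mul_right_inj] at this
  exact Subtype.ext this

theorem card_fixG_image (G : Subgroup (Perm α)) {g : Perm α} (hg : g ∈ G) (T : Finset α) :
    Nat.card (fixG G (T.image g)) = Nat.card (fixG G T) := by
  apply le_antisymm _ (card_fixG_image_le G hg T)
  have := card_fixG_image_le G (G.inv_mem hg) (T.image g)
  rwa [Finset.image_image, show (⇑g⁻¹ ∘ ⇑g) = id from by ext x; simp, Finset.image_id] at this

theorem card_fixG_eq (G : Subgroup (Perm α)) {m : ℕ}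
    (hG : IsMultiplyPretransitive G α m) (hm : m ≤ Fintype.card α) (T T' : Finset α)
    (hT : T.card = T'.card) (hle : T.card ≤ m) :
    Nat.card (fixG G T) = Nat.card (fixG G T') := by
  obtain ⟨g, hg, rfl⟩ := exists_mem_image_eq G hG hm T T' hT hle
  exact (card_fixG_image G hg T).symm

/-- orbit-stabiliser for the pointwise stabiliser of fewer than `m` points in an `m`-transitive
group -/
theorem relIndex_fixG_insert (G : Subgroup (Perm α)) {m : ℕ}
    (hG : IsMultiplyPretransitive G α m) (hm : m ≤ Fintype.card α) (Δ : Finset α)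
    (hΔ : Δ.card < m) {ψ : α} (hψ : ψ ∉ Δ) :
    (fixG G (insert ψ Δ)).relIndex (fixG G Δ) = Δᶜ.card := by
  have hstab : (fixG G (insert ψ Δ)).subgroupOf (fixG G Δ) = stabilizer (fixG G Δ) ψ := by
    ext ⟨q, hq⟩
    rw [Subgroup.mem_subgroupOf, mem_stabilizer_iff, mem_fixG]
    rw [mem_fixG] at hq
    change _ ↔ q ψ = ψ
    constructor
    · intro h; exact h.2 ψ (Finset.mem_insert_self _ _)
    · intro h
      refine ⟨hq.1, fun x hx => ?_⟩
      rcases Finset.mem_insert.mp hx with rfl | hx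
      · exact h
      · exact hq.2 x hx
  rw [Subgroup.relIndex, hstab, MulAction.index_stabilizer]
  have horb : orbit (fixG G Δ) ψ = ((Δᶜ : Finset α) : Set α) := by
    ext ψ'
    simp only [Finset.coe_compl, Set.mem_compl_iff, Finset.mem_coe]
    constructor
    · rintro ⟨⟨q, hq⟩, rfl⟩
      rw [mem_fixG] at hq
      change q ψ ∉ Δ
      intro h
      have h1 := hq.2 _ h
      exact hψ (q.injective h1 ▸ h)
    · intro hψ'
      obtain ⟨g, hgG, hg⟩ := exists_mem_agree_le G hG hm (insert ψ Δ)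
        (by rw [Finset.card_insert_of_notMem hψ]; omega) (swap ψ ψ')
      have hgq : g ∈ fixG G Δ := by
        rw [mem_fixG]
        refine ⟨hgG, fun x hx => ?_⟩
        rw [hg x (Finset.mem_insert_of_mem hx)]
        exact swap_apply_of_ne_of_ne (fun h => hψ (h ▸ hx)) (fun h => hψ' (h ▸ hx))
      refine ⟨⟨g, hgq⟩, ?_⟩
      change g ψ = ψ'
      rw [hg ψ (Finset.mem_insert_self _ _), swap_apply_left]
  rw [horb, Set.ncard_coe_finset]

/-- a Sylow `p`-subgroup of `K` containing the `p`-subgroup `Q`, as a subgroup of the ambient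
group -/
theorem exists_sylow_ge {H : Type*} [Group H] [Finite H] {p : ℕ} [Fact p.Prime] (K Q : Subgroup H) (hQK : Q ≤ K)
    (hQ : IsPGroup p Q) :
    ∃ P : Subgroup H, Q ≤ P ∧ P ≤ K ∧ IsPGroup p P ∧ ¬ p ∣ P.relIndex K := by
  obtain ⟨S, hS⟩ := (hQ.comap_subtype (K := K)).exists_le_sylow
  refine ⟨(S : Subgroup K).map K.subtype, ?_, ?_, ?_, ?_⟩
  · intro q hq
    exact ⟨⟨q, hQK hq⟩, hS (Subgroup.mem_subgroupOf.mpr hq), rfl⟩
  · rintro _ ⟨s, _, rfl⟩
    exact s.2
  · exact S.2.map _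
  · rw [Subgroup.relIndex, ← Subgroup.comap_subtype,
      Subgroup.comap_map_eq_self_of_injective K.subtype_injective]
    exact S.not_dvd_index

/-- a permutation of prime order `p` moving fewer than `2p` points is a `p`-cycle -/
theorem isCycle_of_prime_order_of_small {p : ℕ} (hp : p.Prime) {d : Perm α} (hd : orderOf d = p)
    (hs : d.support.card < 2 * p) : d.IsCycle ∧ d.support.card = p := by
  obtain ⟨m, hm⟩ := Perm.cycleType_prime_order (σ := d) (by rw [hd]; exact hp)
  have hsum := Perm.sum_cycleType d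
  rw [hm, Multiset.sum_replicate, hd, smul_eq_mul] at hsum
  have hm0 : m = 0 := by
    by_contra h
    have : 2 * p ≤ (m + 1) * p := Nat.mul_le_mul_right p (by omega)
    omega
  subst hm0
  refine ⟨?_, by rw [← hsum]; simp⟩
  rw [← Perm.card_cycleType_eq_one, hm]
  simp

section PStructure

variable {p : ℕ} [hp : Fact p.Prime] (P : Subgroup (Perm α)) (Γ : Finset α)

/-- a subgroup fixing `Γ` pointwise preserves the complement -/
theorem notMem_of_fix {u : Perm α} (hu : ∀ x ∈ Γ, u x = x) {ψ : α} (hψ : ψ ∉ Γ) : u ψ ∉ Γ := by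
  intro h
  have h1 := hu _ h
  have h2 := u.injective h1
  exact hψ (h2 ▸ h)

theorem orbit_ncard_eq (hP : IsPGroup p P) (hfix : ∀ u ∈ P, ∀ x ∈ Γ, u x = x)
    (hno : ∀ ψ ∉ Γ, ∃ u ∈ P, u ψ ≠ ψ) (hsmall : Γᶜ.card < p * p) {ψ : α} (hψ : ψ ∉ Γ) :
    (orbit P ψ).ncard = p := by
  obtain ⟨n, hn⟩ := hP.card_orbit ψ
  rw [Nat.card_coe_set_eq] at hn
  have hsub : orbit P ψ ⊆ (Γᶜ : Finset α) := by
    rintro _ ⟨u, rfl⟩
    simp only [Finset.coe_compl, Set.mem_compl_iff, Finset.mem_coe]
    exact notMem_of_fix Γ (hfix u u.2) hψ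
  have hle : (orbit P ψ).ncard ≤ Γᶜ.card := by
    have := Set.ncard_le_ncard hsub (Set.toFinite _)
    rwa [Set.ncard_coe_finset] at this
  have hn0 : n ≠ 0 := by
    rintro rfl
    rw [pow_zero] at hn
    obtain ⟨u, hu, hne⟩ := hno ψ hψ
    rw [Set.ncard_eq_one] at hn
    obtain ⟨a, ha⟩ := hn
    have h1 : ψ ∈ orbit P ψ := mem_orbit_self ψ
    have h2 : (⟨u, hu⟩ : P) • ψ ∈ orbit P ψ := mem_orbit _ _
    rw [ha] at h1 h2
    apply hne
    have h3 : (⟨u, hu⟩ : P) • ψ = u ψ := rfl
    rw [← h3, Set.mem_singleton_iff.mp h2, Set.mem_singleton_iff.mp h1]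
  have hn2 : n < 2 := by
    by_contra h
    push Not at h
    have : p ^ 2 ≤ p ^ n := Nat.pow_le_pow_right hp.out.pos h
    rw [← hn, pow_two] at this
    omega
  have : n = 1 := by omega
  rw [hn, this, pow_one]

theorem stabilizer_index_eq (hP : IsPGroup p P) (hfix : ∀ u ∈ P, ∀ x ∈ Γ, u x = x)
    (hno : ∀ ψ ∉ Γ, ∃ u ∈ P, u ψ ≠ ψ) (hsmall : Γᶜ.card < p * p) {ψ : α} (hψ : ψ ∉ Γ) :
    (stabilizer P ψ).index = p := by
  rw [MulAction.index_stabilizer, orbit_ncard_eq P Γ hP hfix hno hsmall hψ]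

theorem stabilizer_normal (hP : IsPGroup p P) (hfix : ∀ u ∈ P, ∀ x ∈ Γ, u x = x)
    (hno : ∀ ψ ∉ Γ, ∃ u ∈ P, u ψ ≠ ψ) (hsmall : Γᶜ.card < p * p) {ψ : α} (hψ : ψ ∉ Γ) :
    (stabilizer P ψ).Normal := by
  apply Subgroup.normal_of_index_eq_minFac_card
  rw [stabilizer_index_eq P Γ hP hfix hno hsmall hψ]
  obtain ⟨m, hm⟩ := IsPGroup.iff_card.mp hP
  have hm0 : m ≠ 0 := by
    rintro rfl
    rw [pow_zero] at hm
    have h1 := stabilizer_index_eq P Γ hP hfix hno hsmall hψ
    have h2 := Subgroup.index_dvd_card (stabilizer P ψ)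
    rw [h1, hm] at h2
    exact hp.out.one_lt.ne' (Nat.dvd_one.mp h2)
  rw [hm, hp.out.pow_minFac hm0]

theorem pow_prime_eq_one (hP : IsPGroup p P) (hfix : ∀ u ∈ P, ∀ x ∈ Γ, u x = x)
    (hno : ∀ ψ ∉ Γ, ∃ u ∈ P, u ψ ≠ ψ) (hsmall : Γᶜ.card < p * p) {u : Perm α} (hu : u ∈ P) :
    u ^ p = 1 := by
  ext ψ
  by_cases hψ : ψ ∈ Γ
  · have : ∀ n : ℕ, (u ^ n) ψ = ψ := by
      intro n
      induction n with
      | zero => simp
      | succ n ih => rw [pow_succ, Perm.mul_apply, hfix u hu ψ hψ, ih]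
    rw [this]; simp
  · have hN := stabilizer_normal P Γ hP hfix hno hsmall hψ
    have := Subgroup.pow_index_mem (stabilizer P ψ) (⟨u, hu⟩ : P)
    rw [stabilizer_index_eq P Γ hP hfix hno hsmall hψ, mem_stabilizer_iff] at this
    simpa using this

theorem comm_of_mem (hP : IsPGroup p P) (hfix : ∀ u ∈ P, ∀ x ∈ Γ, u x = x)
    (hno : ∀ ψ ∉ Γ, ∃ u ∈ P, u ψ ≠ ψ) (hsmall : Γᶜ.card < p * p) {u v : Perm α} (hu : u ∈ P)
    (hv : v ∈ P) : u * v = v * u := by
  ext ψ
  by_cases hψ : ψ ∈ Γ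
  · simp only [Perm.mul_apply, hfix u hu ψ hψ, hfix v hv ψ hψ]
  · have hN := stabilizer_normal P Γ hP hfix hno hsmall hψ
    have hcard : Nat.card (P ⧸ stabilizer P ψ) = p := by
      rw [← Subgroup.index_eq_card]
      exact stabilizer_index_eq P Γ hP hfix hno hsmall hψ
    have hcyc : IsCyclic (P ⧸ stabilizer P ψ) := isCyclic_of_prime_card hcard
    have hc : (QuotientGroup.mk (⟨u, hu⟩ * ⟨v, hv⟩ : P) : P ⧸ stabilizer P ψ) =
        QuotientGroup.mk (⟨v, hv⟩ * ⟨u, hu⟩ : P) := by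
      rw [QuotientGroup.mk_mul, QuotientGroup.mk_mul]
      have := IsCyclic.isMulCommutative (α := P ⧸ stabilizer P ψ)
      exact mul_comm' _ _
    rw [QuotientGroup.eq, mem_stabilizer_iff] at hc
    have hc' : ((⟨u, hu⟩ * ⟨v, hv⟩ : P)⁻¹ * (⟨v, hv⟩ * ⟨u, hu⟩ : P) : P) • ψ =
        (u * v)⁻¹ ((v * u) ψ) := rfl
    rw [hc', Perm.inv_eq_iff_eq] at hc
    exact hc.symm

end PStructure

end Cfsg.Agent.Lib.Helper38_PermTools
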