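import Mathlib
import Cfsg.Agent.S0713
import Cfsg.Agent.Lib.Helper38_PermTools

/-!
# M. Hall's theorem on 4-transitive groups with odd four-point stabiliser: tools (helper38)
-/

set_option autoImplicit false
set_option linter.unusedSectionVars false

namespace Cfsg.Agent.Lib.Helper38_Hall0

open Equiv MulAction
open Cfsg.Agent.S0713 (apply_inv_self' inv_apply_self')
open Cfsg.Agent.Lib.Helper38_PermTools

variable {α : Type*} [Fintype α] [DecidableEq α]

/-- two involutions whose product has odd order are conjugate by a power of the product -/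
theorem conj2 {Γ : Type*} [Group Γ] {u u' : Γ} (hu : u * u = 1) (hu' : u' * u' = 1)
    (hk : Odd (orderOf (u * u'))) :
    ∃ m ∈ Subgroup.zpowers (u * u'), m * u' * m⁻¹ = u := by
  set k := u * u' with hkdef
  obtain ⟨j, hj⟩ := hk
  have huinv : u⁻¹ = u := inv_eq_of_mul_eq_one_left hu
  have hu'inv : u'⁻¹ = u' := inv_eq_of_mul_eq_one_left hu'
  have hkinv : u * k * u = k⁻¹ := by
    rw [hkdef, mul_inv_rev, huinv, hu'inv, ← mul_assoc, hu, one_mul]
  have hconj : ∀ i : ℕ, u * k ^ i * u = (k ^ i)⁻¹ := by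
    intro i
    induction i with
    | zero => simp [hu]
    | succ i ih =>
      have : u * k ^ (i + 1) * u = (u * k ^ i * u) * (u * k * u) := by
        rw [pow_succ]
        calc u * (k ^ i * k) * u = u * k ^ i * (1 * k) * u := by rw [one_mul]; group
          _ = u * k ^ i * (u * u * k) * u := by rw [hu]
          _ = _ := by group
      rw [this, ih, hkinv, ← mul_inv_rev, ← pow_succ']
  refine ⟨k ^ (j + 1), Subgroup.pow_mem _ (Subgroup.mem_zpowers k) _, ?_⟩
  set m := k ^ (j + 1) with hm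
  have hmm : m * m = k := by
    rw [hm, ← pow_add]
    have : j + 1 + (j + 1) = orderOf k + 1 := by omega
    rw [this, pow_succ, pow_orderOf_eq_one, one_mul]
  have humu : u * m * u = m⁻¹ := hconj (j + 1)
  have hu'k : u' = u * k := by rw [hkdef, ← mul_assoc, hu, one_mul]
  calc m * u' * m⁻¹ = (u * u) * m * (u * k) * m⁻¹ := by rw [hu, one_mul, ← hu'k]
    _ = u * (u * m * u) * k * m⁻¹ := by group
    _ = u * m⁻¹ * (m * m) * m⁻¹ := by rw [humu, hmm]
    _ = u := by group

/-- orbit–stabiliser for a subgroup of `Perm α` and a point whose orbit is a known finset -/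
theorem card_eq_stab_mul (K : Subgroup (Perm α)) (ψ : α) (Θ : Finset α)
    (h : ∀ ω, ω ∈ Θ ↔ ∃ k ∈ K, k ψ = ω) :
    Nat.card K = Nat.card (K ⊓ stabilizer (Perm α) ψ : Subgroup (Perm α)) * Θ.card := by
  have hle : K ⊓ stabilizer (Perm α) ψ ≤ K := inf_le_left
  rw [← card_mul_relIndex hle]
  congr 1
  have hstab : (K ⊓ stabilizer (Perm α) ψ).subgroupOf K = stabilizer K ψ := by
    ext ⟨k, hk⟩
    rw [Subgroup.mem_subgroupOf, mem_stabilizer_iff, Subgroup.mem_inf, mem_stabilizer_iff]
    change _ ∧ k ψ = ψ ↔ k ψ = ψ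
    exact ⟨fun h => h.2, fun h => ⟨hk, h⟩⟩
  rw [Subgroup.relIndex, hstab, MulAction.index_stabilizer]
  have horb : orbit K ψ = (Θ : Set α) := by
    ext ω
    rw [Finset.mem_coe, h]
    constructor
    · rintro ⟨⟨k, hk⟩, rfl⟩
      exact ⟨k, hk, rfl⟩
    · rintro ⟨k, hk, rfl⟩
      exact ⟨⟨k, hk⟩, rfl⟩
  rw [horb, Set.ncard_coe_finset]

/-- conjugate subgroups have the same order -/
theorem card_conj_eq (K K' : Subgroup (Perm α)) (c : Perm α)
    (h : ∀ k, k ∈ K ↔ c * k * c⁻¹ ∈ K') : Nat.card K = Nat.card K' := by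
  apply Nat.card_congr
  refine ⟨fun k => ⟨c * k * c⁻¹, (h k).mp k.2⟩, fun k' => ⟨c⁻¹ * k' * c, (h _).mpr ?_⟩, ?_, ?_⟩
  · have : c * (c⁻¹ * ↑k' * c) * c⁻¹ = k' := by group
    rw [this]; exact k'.2
  · intro k
    apply Subtype.ext
    simp only
    group
  · intro k'
    apply Subtype.ext
    simp only
    group

/-- the pointwise stabiliser of `Δ` embeds in the symmetric group of the complement -/
theorem card_fixG_dvd (G : Subgroup (Perm α)) (Δ : Finset α) :
    Nat.card (fixG G Δ) ∣ (Δᶜ.card).factorial := by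
  have hle : fixG G Δ ≤ (Perm.ofSubtype : Perm {x // x ∈ Δᶜ} →* Perm α).range := by
    intro π hπ
    rw [mem_fixG] at hπ
    have h1 : ∀ x, π x ∈ Δᶜ ↔ x ∈ Δᶜ := by
      intro x
      rw [Finset.mem_compl, Finset.mem_compl, not_iff_not]
      constructor
      · intro hx
        by_contra hx'
        have h2 := hπ.2 (π x) hx
        exact hx' (π.injective h2 ▸ hx)
      · intro hx
        rw [hπ.2 x hx]; exact hx
    refine ⟨π.subtypePerm h1, Perm.ofSubtype_subtypePerm h1 ?_⟩
    intro x hx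
    by_contra hx'
    rw [Finset.mem_compl, not_not] at hx'
    exact hx (hπ.2 x hx')
  have := Subgroup.card_dvd_of_le hle
  rwa [Nat.card_congr (MonoidHom.ofInjective Perm.ofSubtype_injective).symm.toEquiv,
    Nat.card_perm, Nat.card_eq_fintype_card (α := {x // x ∈ Δᶜ}), Fintype.card_coe] at this

end Cfsg.Agent.Lib.Helper38_Hall0
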