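import Mathlib
import Cfsg.Agent.S0713
import Cfsg.Agent.Lib.Helper38_PermTools
import Cfsg.Agent.Lib.Helper38_Hall0

/-!
# M. Hall's theorem: transport of involutions (helper38)
-/

set_option autoImplicit false
set_option linter.unusedSectionVars false

namespace Cfsg.Agent.Lib.Helper38_Hall1

open Equiv MulAction
open Cfsg.Agent.S0713 (apply_inv_self' inv_apply_self')
open Cfsg.Agent.Lib.Helper38_PermTools Cfsg.Agent.Lib.Helper38_Hall0

variable {α : Type*} [Fintype α] [DecidableEq α]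

/-- the hypothesis that all four-point stabilisers have odd order -/
def OddStab (G : Subgroup (Perm α)) : Prop :=
  ∀ Δ : Finset α, Δ.card = 4 → Odd (Nat.card (fixG G Δ))

theorem exists_map_tuple (G : Subgroup (Perm α)) {k : ℕ} (hG : IsMultiplyPretransitive G α k)
    (f g : Fin k → α) (hf : Function.Injective f) (hg : Function.Injective g) :
    ∃ c ∈ G, ∀ i, c (f i) = g i := by
  obtain ⟨γ, hγ⟩ := (isMultiplyPretransitive_iff.1 hG) ⟨f, hf⟩ ⟨g, hg⟩
  refine ⟨γ, γ.2, fun i => ?_⟩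
  have := DFunLike.congr_fun hγ i
  simpa [Subgroup.smul_def, Perm.smul_def] using this

theorem zpowers_fix {k m : Perm α} (hm : m ∈ Subgroup.zpowers k) {ω : α} (h : k ω = ω) :
    m ω = ω := by
  obtain ⟨i, rfl⟩ := Subgroup.mem_zpowers_iff.mp hm
  have : k ∈ stabilizer (Perm α) ω := h
  exact (stabilizer (Perm α) ω).zpow_mem this i

theorem odd_orderOf_of_fix (G : Subgroup (Perm α)) (hodd : OddStab G) {g : Perm α} (hg : g ∈ G)
    (f : Fin 4 → α) (hf : Function.Injective f) (hfix : ∀ i, g (f i) = f i) :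
    Odd (orderOf g) := by
  set Δ : Finset α := Finset.univ.image f with hΔ
  have hcard : Δ.card = 4 := by
    rw [hΔ, Finset.card_image_of_injective _ hf, Finset.card_univ, Fintype.card_fin]
  have hmem : g ∈ fixG G Δ := by
    rw [mem_fixG]
    refine ⟨hg, fun x hx => ?_⟩
    obtain ⟨i, _, rfl⟩ := Finset.mem_image.mp hx
    exact hfix i
  exact (hodd Δ hcard).of_dvd_nat (Subgroup.orderOf_dvd_natCard _ hmem)

/-- transport of an involution along a map of `4`-tuples on which it acts in the same way -/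
theorem transport (G : Subgroup (Perm α)) (hG : IsMultiplyPretransitive G α 4)
    (hodd : OddStab G) {u u' : Perm α} (hu : u ∈ G) (hu' : u' ∈ G) (huu : u * u = 1)
    (hu'u' : u' * u' = 1) (f g : Fin 4 → α) (hf : Function.Injective f)
    (hg : Function.Injective g) (π : Fin 4 → Fin 4) (h1 : ∀ i, u (f i) = f (π i))
    (h2 : ∀ i, u' (g i) = g (π i)) :
    ∃ c ∈ G, (∀ i, c (f i) = g i) ∧ c * u * c⁻¹ = u' := by
  obtain ⟨c₀, hc₀G, hc₀⟩ := exists_map_tuple G hG f g hf hg
  set u'' := c₀ * u * c₀⁻¹ with hu''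
  have hu''G : u'' ∈ G := G.mul_mem (G.mul_mem hc₀G hu) (G.inv_mem hc₀G)
  have hu''2 : u'' * u'' = 1 := by
    rw [hu'']
    calc c₀ * u * c₀⁻¹ * (c₀ * u * c₀⁻¹) = c₀ * (u * u) * c₀⁻¹ := by group
      _ = 1 := by rw [huu]; group
  have hu''g : ∀ i, u'' (g i) = g (π i) := by
    intro i
    rw [hu'', Perm.mul_apply, Perm.mul_apply, ← hc₀ i, inv_apply_self', h1 i, hc₀]
  have hu'g : ∀ i, u' (g (π i)) = g i := by
    intro i
    rw [← h2 i, ← Perm.mul_apply, hu'u', Perm.one_apply]
  have hkfix : ∀ i, (u' * u'') (g i) = g i := by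
    intro i
    rw [Perm.mul_apply, hu''g, hu'g]
  have hkodd : Odd (orderOf (u' * u'')) :=
    odd_orderOf_of_fix G hodd (G.mul_mem hu' hu''G) g hg hkfix
  obtain ⟨m, hm, hmconj⟩ := conj2 hu'u' hu''2 hkodd
  have hmG : m ∈ G := by
    have : Subgroup.zpowers (u' * u'') ≤ G := by
      rw [Subgroup.zpowers_le]; exact G.mul_mem hu' hu''G
    exact this hm
  refine ⟨m * c₀, G.mul_mem hmG hc₀G, fun i => ?_, ?_⟩
  · rw [Perm.mul_apply, hc₀ i]
    exact zpowers_fix hm (hkfix i)
  · rw [← hmconj, hu'']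
    group

/-- every involution of `G` has at most three fixed points -/
theorem card_fix_le_three (G : Subgroup (Perm α)) (hodd : OddStab G) {u : Perm α} (hu : u ∈ G)
    (huu : u * u = 1) (hu1 : u ≠ 1) : (Finset.univ.filter (fun ω => u ω = ω)).card ≤ 3 := by
  by_contra hcon
  push Not at hcon
  obtain ⟨Δ, hΔsub, hΔcard⟩ := Finset.exists_subset_card_eq
    (s := Finset.univ.filter (fun ω => u ω = ω)) (n := 4) (by omega)
  have hmem : u ∈ fixG G Δ := by
    rw [mem_fixG]
    exact ⟨hu, fun x hx => (Finset.mem_filter.mp (hΔsub hx)).2⟩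
  have hord : orderOf u = 2 := orderOf_eq_prime (by rw [pow_two]; exact huu) hu1
  have hdvd := Subgroup.orderOf_dvd_natCard _ hmem
  rw [hord] at hdvd
  have := (hodd Δ hΔcard).of_dvd_nat hdvd
  exact absurd this (by decide)

end Cfsg.Agent.Lib.Helper38_Hall1
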