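import Mathlib
import Cfsg.Agent.S0713
import Cfsg.Agent.Lib.Helper38_PermTools
import Cfsg.Agent.Lib.Helper38_Hall0
import Cfsg.Agent.Lib.Helper38_Hall1

/-!
# M. Hall's theorem: the configuration of two commuting involutions (helper38)
-/

set_option autoImplicit false
set_option linter.unusedSectionVars false

namespace Cfsg.Agent.Lib.Helper38_Hall2

open Equiv MulAction
open Cfsg.Agent.S0713 (apply_inv_self' inv_apply_self')
open Cfsg.Agent.Lib.Helper38_PermTools Cfsg.Agent.Lib.Helper38_Hall0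
open Cfsg.Agent.Lib.Helper38_Hall1

variable {α : Type*} [Fintype α] [DecidableEq α]

omit [Fintype α] [DecidableEq α] in
theorem inj4 {q1 q2 q3 q4 : α} (h12 : q1 ≠ q2) (h13 : q1 ≠ q3) (h14 : q1 ≠ q4) (h23 : q2 ≠ q3)
    (h24 : q2 ≠ q4) (h34 : q3 ≠ q4) : Function.Injective ![q1, q2, q3, q4] := by
  intro i j h
  fin_cases i <;> fin_cases j <;> simp_all

theorem forall_fin4 {P : Fin 4 → Prop} : (∀ i, P i) ↔ P 0 ∧ P 1 ∧ P 2 ∧ P 3 := by
  constructor
  · intro h; exact ⟨h 0, h 1, h 2, h 3⟩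
  · rintro ⟨h0, h1, h2, h3⟩ i
    fin_cases i <;> assumption

/-- from an element acting as an involution on a `4`-tuple, an involution doing the same -/
theorem invol_of (G : Subgroup (Perm α)) (hodd : OddStab G) {x : Perm α} (hx : x ∈ G)
    (f : Fin 4 → α) (hf : Function.Injective f) (π : Fin 4 → Fin 4)
    (h1 : ∀ i, x (f i) = f (π i)) (hπ : ∀ i, π (π i) = i) :
    ∃ a ∈ Subgroup.zpowers x, a * a = 1 ∧ ∀ i, a (f i) = f (π i) := by
  have hfix : ∀ i, (x * x) (f i) = f i := by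
    intro i
    rw [Perm.mul_apply, h1, h1, hπ]
  obtain ⟨j, hj⟩ := odd_orderOf_of_fix G hodd (G.mul_mem hx hx) f hf hfix
  refine ⟨x ^ (2 * j + 1), Subgroup.pow_mem _ (Subgroup.mem_zpowers x) _, ?_, fun i => ?_⟩
  · rw [← pow_add, ← two_mul, pow_mul, pow_two, ← hj, pow_orderOf_eq_one]
  · rw [pow_succ, pow_mul, pow_two, Perm.mul_apply, h1]
    have : (x * x) ^ j ∈ Subgroup.zpowers (x * x) := Subgroup.pow_mem _ (Subgroup.mem_zpowers _) _
    exact zpowers_fix this (hfix (π i))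

/-- the configuration: commuting involutions `a = (p1)(p2)(p3 p4)…` and `b = (p1 p2)(p3 p4)…` -/
structure Config (G : Subgroup (Perm α)) (p1 p2 p3 p4 : α) (a b : Perm α) : Prop where
  hG : IsMultiplyPretransitive G α 4
  hodd : OddStab G
  h12 : p1 ≠ p2
  h13 : p1 ≠ p3
  h14 : p1 ≠ p4
  h23 : p2 ≠ p3
  h24 : p2 ≠ p4
  h34 : p3 ≠ p4
  haG : a ∈ G
  hbG : b ∈ G
  haa : a * a = 1
  hbb : b * b = 1
  hab : a * b = b * a
  ha1 : a p1 = p1
  ha2 : a p2 = p2
  ha3 : a p3 = p4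
  ha4 : a p4 = p3
  hb1 : b p1 = p2
  hb2 : b p2 = p1
  hb3 : b p3 = p4
  hb4 : b p4 = p3

theorem exists_config (G : Subgroup (Perm α)) (hG : IsMultiplyPretransitive G α 4)
    (hodd : OddStab G) {p1 p2 p3 p4 : α} (h12 : p1 ≠ p2) (h13 : p1 ≠ p3) (h14 : p1 ≠ p4)
    (h23 : p2 ≠ p3) (h24 : p2 ≠ p4) (h34 : p3 ≠ p4) :
    ∃ a b : Perm α, Config G p1 p2 p3 p4 a b := by
  have hf := inj4 h12 h13 h14 h23 h24 h34
  -- the involution `a`
  obtain ⟨x, hxG, hx⟩ := exists_map_tuple G hG ![p1, p2, p3, p4] ![p1, p2, p4, p3] hf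
    (inj4 h12 h14 h13 h24 h23 h34.symm)
  obtain ⟨a, hax, haa, ha⟩ := invol_of G hodd hxG ![p1, p2, p3, p4] hf ![0, 1, 3, 2]
    (by rw [forall_fin4] at hx ⊢; simpa using hx) (by decide)
  have haG : a ∈ G := (Subgroup.zpowers_le.mpr hxG) hax
  rw [forall_fin4] at ha
  simp only [Matrix.cons_val_zero, Matrix.cons_val_one, Matrix.cons_val] at ha
  obtain ⟨ha1, ha2, ha3, ha4⟩ := ha
  -- an element commuting with `a` and acting as `(p1 p2)(p3 p4)`
  obtain ⟨c, hcG, hc, hca⟩ := transport G hG hodd haG haG haa haa ![p1, p2, p3, p4]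
    ![p2, p1, p4, p3] hf (inj4 h12.symm h24 h23 h14 h13 h34.symm) ![0, 1, 3, 2]
    (by rw [forall_fin4]; simp [ha1, ha2, ha3, ha4])
    (by rw [forall_fin4]; simp [ha1, ha2, ha3, ha4])
  obtain ⟨b, hbc, hbb, hb⟩ := invol_of G hodd hcG ![p1, p2, p3, p4] hf ![1, 0, 3, 2]
    (by rw [forall_fin4] at hc ⊢; simpa using hc) (by decide)
  have hbG : b ∈ G := (Subgroup.zpowers_le.mpr hcG) hbc
  rw [forall_fin4] at hb
  simp only [Matrix.cons_val_zero, Matrix.cons_val_one, Matrix.cons_val] at hb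
  obtain ⟨hb1, hb2, hb3, hb4⟩ := hb
  have hcomm : Commute c a := by
    change c * a = a * c
    calc c * a = c * a * c⁻¹ * c := by group
      _ = a * c := by rw [hca]
  have hab : a * b = b * a := by
    obtain ⟨i, rfl⟩ := Subgroup.mem_zpowers_iff.mp hbc
    exact ((hcomm.zpow_left i).eq).symm
  exact ⟨a, b, ⟨hG, hodd, h12, h13, h14, h23, h24, h34, haG, hbG, haa, hbb, hab, ha1, ha2, ha3, ha4,
    hb1, hb2, hb3, hb4⟩⟩

/-- the fixed points of a permutation, as a finset -/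
def fixF (u : Perm α) : Finset α := Finset.univ.filter (fun ω => u ω = ω)

theorem mem_fixF {u : Perm α} {ω : α} : ω ∈ fixF u ↔ u ω = ω := by simp [fixF]

omit [Fintype α] in
theorem four_le_card {s : Finset α} {w x y z : α} (hw : w ∈ s) (hx : x ∈ s) (hy : y ∈ s)
    (hz : z ∈ s) (h1 : w ≠ x) (h2 : w ≠ y) (h3 : w ≠ z) (h4 : x ≠ y) (h5 : x ≠ z) (h6 : y ≠ z) :
    4 ≤ s.card := by
  have hsub : ({w, x, y, z} : Finset α) ⊆ s := by
    intro t ht
    simp only [Finset.mem_insert, Finset.mem_singleton] at ht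
    rcases ht with rfl | rfl | rfl | rfl <;> assumption
  have hcard : ({w, x, y, z} : Finset α).card = 4 := by
    rw [Finset.card_insert_of_notMem, Finset.card_insert_of_notMem, Finset.card_insert_of_notMem,
      Finset.card_singleton]
    · simpa using h6
    · simp [h4, h5]
    · simp [h1, h2, h3]
  calc 4 = ({w, x, y, z} : Finset α).card := hcard.symm
    _ ≤ s.card := Finset.card_le_card hsub

/-- conjugate permutations have equally many fixed points -/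
theorem card_fixF_conj (u c : Perm α) : (fixF (c * u * c⁻¹)).card = (fixF u).card := by
  symm
  apply Finset.card_bij (fun ω _ => c ω)
  · intro ω hω
    rw [mem_fixF] at hω ⊢
    simp [hω]
  · intro x _ y _ h
    exact c.injective h
  · intro ω hω
    rw [mem_fixF] at hω
    refine ⟨c⁻¹ ω, ?_, by simp⟩
    rw [mem_fixF]
    have : c⁻¹ ((c * u * c⁻¹) ω) = c⁻¹ ω := by rw [hω]
    simpa using this

namespace Config

variable {G : Subgroup (Perm α)} {p1 p2 p3 p4 : α} {a b : Perm α}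

theorem hd1 (C : Config G p1 p2 p3 p4 a b) : (a * b) p1 = p2 := by
  rw [Perm.mul_apply, C.hb1, C.ha2]
theorem hd2 (C : Config G p1 p2 p3 p4 a b) : (a * b) p2 = p1 := by
  rw [Perm.mul_apply, C.hb2, C.ha1]
theorem hd3 (C : Config G p1 p2 p3 p4 a b) : (a * b) p3 = p3 := by
  rw [Perm.mul_apply, C.hb3, C.ha4]
theorem hd4 (C : Config G p1 p2 p3 p4 a b) : (a * b) p4 = p4 := by
  rw [Perm.mul_apply, C.hb4, C.ha3]

theorem hdd (C : Config G p1 p2 p3 p4 a b) : (a * b) * (a * b) = 1 := by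
  calc a * b * (a * b) = a * (b * a) * b := by group
    _ = a * (a * b) * b := by rw [C.hab]
    _ = (a * a) * (b * b) := by group
    _ = 1 := by rw [C.haa, C.hbb, one_mul]

theorem hdG (C : Config G p1 p2 p3 p4 a b) : a * b ∈ G := G.mul_mem C.haG C.hbG

theorem a_ne_one (C : Config G p1 p2 p3 p4 a b) : a ≠ 1 := by
  intro h
  have := C.ha3
  rw [h, Perm.one_apply] at this
  exact C.h34 this

theorem b_ne_one (C : Config G p1 p2 p3 p4 a b) : b ≠ 1 := by
  intro h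
  have := C.hb1
  rw [h, Perm.one_apply] at this
  exact C.h12 this

theorem d_ne_one (C : Config G p1 p2 p3 p4 a b) : a * b ≠ 1 := by
  intro h
  have := C.hd1
  rw [h, Perm.one_apply] at this
  exact C.h12 this

theorem aa_apply (C : Config G p1 p2 p3 p4 a b) (ω : α) : a (a ω) = ω := by
  rw [← Perm.mul_apply, C.haa, Perm.one_apply]

theorem bb_apply (C : Config G p1 p2 p3 p4 a b) (ω : α) : b (b ω) = ω := by
  rw [← Perm.mul_apply, C.hbb, Perm.one_apply]

theorem ab_apply (C : Config G p1 p2 p3 p4 a b) (ω : α) : a (b ω) = b (a ω) := by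
  rw [← Perm.mul_apply, C.hab, Perm.mul_apply]

theorem card_fixF_a (C : Config G p1 p2 p3 p4 a b) : (fixF a).card ≤ 3 :=
  card_fix_le_three G C.hodd C.haG C.haa C.a_ne_one

theorem card_fixF_b (C : Config G p1 p2 p3 p4 a b) : (fixF b).card ≤ 3 :=
  card_fix_le_three G C.hodd C.hbG C.hbb C.b_ne_one

theorem card_fixF_d (C : Config G p1 p2 p3 p4 a b) : (fixF (a * b)).card ≤ 3 :=
  card_fix_le_three G C.hodd C.hdG C.hdd C.d_ne_one

/-- a fixed point of `a` other than `p1, p2` is fixed by `b` -/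
theorem b_fix_of_a_fix (C : Config G p1 p2 p3 p4 a b) {ω : α} (hω : a ω = ω) (h1 : ω ≠ p1)
    (h2 : ω ≠ p2) : b ω = ω := by
  by_contra hne
  have hbω : a (b ω) = b ω := by rw [C.ab_apply, hω]
  have hb1 : b ω ≠ p1 := fun h => h2 (by rw [← C.bb_apply ω, h, C.hb1])
  have hb2 : b ω ≠ p2 := fun h => h1 (by rw [← C.bb_apply ω, h, C.hb2])
  have := four_le_card (s := fixF a) (mem_fixF.mpr C.ha1) (mem_fixF.mpr C.ha2) (mem_fixF.mpr hω)
    (mem_fixF.mpr hbω) C.h12 (Ne.symm h1) (Ne.symm hb1) (Ne.symm h2) (Ne.symm hb2) (Ne.symm hne)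
  have := C.card_fixF_a
  omega

/-- a fixed point of `ab` other than `p3, p4` is fixed by `b` -/
theorem b_fix_of_d_fix (C : Config G p1 p2 p3 p4 a b) {ω : α} (hω : (a * b) ω = ω) (h3 : ω ≠ p3)
    (h4 : ω ≠ p4) : b ω = ω := by
  by_contra hne
  have hdb : (a * b) (b ω) = b ω := by
    have : (a * b) (b ω) = b ((a * b) ω) := by
      simp only [Perm.mul_apply]
      rw [C.ab_apply]
    rw [this, hω]
  have hb3 : b ω ≠ p3 := fun h => h4 (by rw [← C.bb_apply ω, h, C.hb3])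
  have hb4 : b ω ≠ p4 := fun h => h3 (by rw [← C.bb_apply ω, h, C.hb4])
  have := four_le_card (s := fixF (a * b)) (mem_fixF.mpr C.hd3) (mem_fixF.mpr C.hd4)
    (mem_fixF.mpr hω) (mem_fixF.mpr hdb) C.h34 (Ne.symm h3) (Ne.symm hb3) (Ne.symm h4)
    (Ne.symm hb4) (Ne.symm hne)
  have := C.card_fixF_d
  omega

/-- points with trivial stabiliser in the four-group -/
def Reg (_C : Config G p1 p2 p3 p4 a b) (ω : α) : Prop :=
  ω ≠ p1 ∧ ω ≠ p2 ∧ ω ≠ p3 ∧ ω ≠ p4 ∧ b ω ≠ ω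

theorem Reg.a_ne (C : Config G p1 p2 p3 p4 a b) {ω : α} (h : C.Reg ω) : a ω ≠ ω :=
  fun hc => h.2.2.2.2 (C.b_fix_of_a_fix hc h.1 h.2.1)

theorem Reg.d_ne (C : Config G p1 p2 p3 p4 a b) {ω : α} (h : C.Reg ω) : (a * b) ω ≠ ω :=
  fun hc => h.2.2.2.2 (C.b_fix_of_d_fix hc h.2.2.1 h.2.2.2.1)

theorem Reg.map_a (C : Config G p1 p2 p3 p4 a b) {ω : α} (h : C.Reg ω) : C.Reg (a ω) := by
  refine ⟨fun hc => h.1 ?_, fun hc => h.2.1 ?_, fun hc => h.2.2.2.1 ?_, fun hc => h.2.2.1 ?_,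
    fun hc => h.2.2.2.2 ?_⟩
  · rw [← C.aa_apply ω, hc, C.ha1]
  · rw [← C.aa_apply ω, hc, C.ha2]
  · rw [← C.aa_apply ω, hc, C.ha3]
  · rw [← C.aa_apply ω, hc, C.ha4]
  · rw [← C.ab_apply] at hc
    exact a.injective hc

theorem Reg.map_b (C : Config G p1 p2 p3 p4 a b) {ω : α} (h : C.Reg ω) : C.Reg (b ω) := by
  refine ⟨fun hc => h.2.1 ?_, fun hc => h.1 ?_, fun hc => h.2.2.2.1 ?_, fun hc => h.2.2.1 ?_,
    fun hc => h.2.2.2.2 ?_⟩
  · rw [← C.bb_apply ω, hc, C.hb1]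
  · rw [← C.bb_apply ω, hc, C.hb2]
  · rw [← C.bb_apply ω, hc, C.hb3]
  · rw [← C.bb_apply ω, hc, C.hb4]
  · exact b.injective hc

/-- the regular orbit through a regular point, as a tuple -/
theorem Reg.inj (C : Config G p1 p2 p3 p4 a b) {ω : α} (h : C.Reg ω) :
    Function.Injective ![ω, a ω, b ω, (a * b) ω] := by
  have h1 := h.a_ne
  have h2 := h.2.2.2.2
  have h3 := h.d_ne
  apply inj4 (Ne.symm h1) (Ne.symm h2) (Ne.symm h3)
  · intro hc
    apply h3
    rw [Perm.mul_apply, ← hc, C.aa_apply]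
  · intro hc
    rw [Perm.mul_apply] at hc
    exact h2 (a.injective hc).symm
  · intro hc
    rw [Perm.mul_apply, C.ab_apply] at hc
    exact h1 (b.injective hc).symm

end Config

end Cfsg.Agent.Lib.Helper38_Hall2
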