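import Mathlib
import Cfsg.Agent.S0713
import Cfsg.Agent.Lib.Helper38_PermTools
import Cfsg.Agent.Lib.Helper38_Hall0
import Cfsg.Agent.Lib.Helper38_Hall1
import Cfsg.Agent.Lib.Helper38_Hall2

/-!
# M. Hall's theorem: orders of the centralisers of the two involutions (helper38)

The declarations continue the namespace `Cfsg.Agent.Lib.Helper38_Hall2` (for dot notation on
`Config`).
-/

set_option autoImplicit false
set_option linter.unusedSectionVars false

open Equiv MulAction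
open Cfsg.Agent.S0713 (apply_inv_self' inv_apply_self')
open Cfsg.Agent.Lib.Helper38_PermTools Cfsg.Agent.Lib.Helper38_Hall0
open Cfsg.Agent.Lib.Helper38_Hall1 Cfsg.Agent.Lib.Helper38_Hall2

namespace Cfsg.Agent.Lib.Helper38_Hall2
variable {α : Type*} [Fintype α] [DecidableEq α]

/-- the centraliser of `u` in `G` -/
def Cen (G : Subgroup (Perm α)) (u : Perm α) : Subgroup (Perm α) :=
  G ⊓ Subgroup.centralizer ({u} : Set (Perm α))

theorem mem_Cen {G : Subgroup (Perm α)} {u c : Perm α} :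
    c ∈ Cen G u ↔ c ∈ G ∧ c * u = u * c := by
  rw [Cen, Subgroup.mem_inf, Subgroup.mem_centralizer_singleton_iff]

theorem mem_Cen_of_conj {G : Subgroup (Perm α)} {u c : Perm α} (hc : c ∈ G)
    (h : c * u * c⁻¹ = u) : c ∈ Cen G u := by
  rw [mem_Cen]
  refine ⟨hc, ?_⟩
  calc c * u = c * u * c⁻¹ * c := by group
    _ = u * c := by rw [h]

theorem Cen_apply {G : Subgroup (Perm α)} {u c : Perm α} (hc : c ∈ Cen G u) (ω : α) :
    c (u ω) = u (c ω) := by
  rw [← Perm.mul_apply, (mem_Cen.mp hc).2, Perm.mul_apply]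

namespace Config

variable {G : Subgroup (Perm α)} {p1 p2 p3 p4 : α} {a b : Perm α}

/-- the four base points -/
def base (_C : Config G p1 p2 p3 p4 a b) : Finset α := {p1, p2, p3, p4}

theorem mem_base (C : Config G p1 p2 p3 p4 a b) {ω : α} :
    ω ∈ C.base ↔ ω = p1 ∨ ω = p2 ∨ ω = p3 ∨ ω = p4 := by
  simp [base]

theorem card_base (C : Config G p1 p2 p3 p4 a b) : C.base.card = 4 := by
  rw [base, Finset.card_insert_of_notMem, Finset.card_insert_of_notMem,
    Finset.card_insert_of_notMem, Finset.card_singleton]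
  · simpa using C.h34
  · simp [C.h23, C.h24]
  · simp [C.h12, C.h13, C.h14]

theorem hf (C : Config G p1 p2 p3 p4 a b) : Function.Injective ![p1, p2, p3, p4] :=
  inj4 C.h12 C.h13 C.h14 C.h23 C.h24 C.h34

theorem card_Cen_a (C : Config G p1 p2 p3 p4 a b) :
    Nat.card (Cen G a) = Nat.card (fixG G C.base ⊓ Subgroup.centralizer ({a} : Set (Perm α)) :
      Subgroup (Perm α)) * ((fixF a).card - 1) * (fixF a).card *
      (Fintype.card α - (fixF a).card) := by
  have hπ1 : ∀ i, a (![p1, p2, p3, p4] i) = ![p1, p2, p3, p4] (![0, 1, 3, 2] i) := by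
    rw [forall_fin4]; simp [C.ha1, C.ha2, C.ha3, C.ha4]
  -- first step: the orbit of `p3`
  have step1 := card_eq_stab_mul (Cen G a) p3 (fixF a)ᶜ (by
    intro ω
    rw [Finset.mem_compl, mem_fixF]
    constructor
    · intro hω
      have h1 : ω ≠ p1 := fun h => hω (h ▸ C.ha1)
      have h2 : ω ≠ p2 := fun h => hω (h ▸ C.ha2)
      have h3 : a ω ≠ p1 := fun h => h1 (by rw [← C.aa_apply ω, h, C.ha1])
      have h4 : a ω ≠ p2 := fun h => h2 (by rw [← C.aa_apply ω, h, C.ha2])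
      obtain ⟨c, hcG, hc, hca⟩ := transport G C.hG C.hodd C.haG C.haG C.haa C.haa
        ![p1, p2, p3, p4] ![p1, p2, ω, a ω] C.hf
        (inj4 C.h12 (Ne.symm h1) (Ne.symm h3) (Ne.symm h2) (Ne.symm h4) (Ne.symm hω))
        ![0, 1, 3, 2] hπ1 (by rw [forall_fin4]; simp [C.ha1, C.ha2, C.aa_apply])
      exact ⟨c, mem_Cen_of_conj hcG hca, hc 2⟩
    · rintro ⟨k, hk, rfl⟩ h
      rw [← Cen_apply hk, C.ha3] at h
      exact C.h34 (k.injective h).symm)
  -- second step: the orbit of `p1`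
  have step2 := card_eq_stab_mul (Cen G a ⊓ stabilizer (Perm α) p3) p1 (fixF a) (by
    intro ω
    rw [mem_fixF]
    constructor
    · intro hω
      have h3 : ω ≠ p3 := fun h => C.h34 (by rw [h, C.ha3] at hω; exact hω.symm)
      have h4 : ω ≠ p4 := fun h => C.h34 (by rw [h, C.ha4] at hω; exact hω)
      by_cases h1 : ω = p1
      · exact ⟨1, Subgroup.one_mem _, by rw [h1]; rfl⟩
      by_cases h2 : ω = p2
      · rw [h2]
        obtain ⟨c, hcG, hc, hca⟩ := transport G C.hG C.hodd C.haG C.haG C.haa C.haa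
          ![p1, p2, p3, p4] ![p2, p1, p3, p4] C.hf
          (inj4 C.h12.symm C.h23 C.h24 C.h13 C.h14 C.h34)
          ![0, 1, 3, 2] hπ1 (by rw [forall_fin4]; simp [C.ha1, C.ha2, C.ha3, C.ha4])
        exact ⟨c, ⟨mem_Cen_of_conj hcG hca, hc 2⟩, hc 0⟩
      · obtain ⟨c, hcG, hc, hca⟩ := transport G C.hG C.hodd C.haG C.haG C.haa C.haa
          ![p1, p2, p3, p4] ![ω, p2, p3, p4] C.hf
          (inj4 h2 h3 h4 C.h23 C.h24 C.h34)
          ![0, 1, 3, 2] hπ1 (by rw [forall_fin4]; simp [C.ha2, C.ha3, C.ha4, hω])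
        exact ⟨c, ⟨mem_Cen_of_conj hcG hca, hc 2⟩, hc 0⟩
    · rintro ⟨k, hk, rfl⟩
      rw [← Cen_apply hk.1, C.ha1])
  -- third step: the orbit of `p2`
  have step3 := card_eq_stab_mul
    (Cen G a ⊓ stabilizer (Perm α) p3 ⊓ stabilizer (Perm α) p1) p2 ((fixF a).erase p1) (by
    intro ω
    rw [Finset.mem_erase, mem_fixF]
    constructor
    · rintro ⟨h1, hω⟩
      have h3 : ω ≠ p3 := fun h => C.h34 (by rw [h, C.ha3] at hω; exact hω.symm)
      have h4 : ω ≠ p4 := fun h => C.h34 (by rw [h, C.ha4] at hω; exact hω)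
      obtain ⟨c, hcG, hc, hca⟩ := transport G C.hG C.hodd C.haG C.haG C.haa C.haa
        ![p1, p2, p3, p4] ![p1, ω, p3, p4] C.hf
        (inj4 (Ne.symm h1) C.h13 C.h14 h3 h4 C.h34)
        ![0, 1, 3, 2] hπ1 (by rw [forall_fin4]; simp [C.ha1, C.ha3, C.ha4, hω])
      exact ⟨c, ⟨⟨mem_Cen_of_conj hcG hca, hc 2⟩, hc 0⟩, hc 1⟩
    · rintro ⟨k, hk, rfl⟩
      refine ⟨fun h => C.h12 ?_, ?_⟩
      · have : k p1 = p1 := hk.2
        rw [← this] at h
        exact (k.injective h).symm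
      · rw [← Cen_apply hk.1.1, C.ha2])
  have hK3 : (Cen G a ⊓ stabilizer (Perm α) p3 ⊓ stabilizer (Perm α) p1 ⊓
      stabilizer (Perm α) p2 : Subgroup (Perm α)) =
      fixG G C.base ⊓ Subgroup.centralizer ({a} : Set (Perm α)) := by
    ext c
    simp only [Subgroup.mem_inf, mem_stabilizer_iff, mem_fixG, Cen, C.mem_base]
    constructor
    · rintro ⟨⟨⟨⟨hcG, hca⟩, h3⟩, h1⟩, h2⟩
      refine ⟨⟨hcG, ?_⟩, hca⟩
      rintro x (rfl | rfl | rfl | rfl)
      · exact h1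
      · exact h2
      · exact h3
      · have hc : c ∈ Cen G a := ⟨hcG, hca⟩
        have h3' : c p3 = p3 := h3
        rw [← C.ha3, Cen_apply hc, h3']
    · rintro ⟨⟨hcG, hfix⟩, hca⟩
      exact ⟨⟨⟨⟨hcG, hca⟩, hfix p3 (Or.inr (Or.inr (Or.inl rfl)))⟩, hfix p1 (Or.inl rfl)⟩,
        hfix p2 (Or.inr (Or.inl rfl))⟩
  rw [step1, step2, step3, hK3, Finset.card_compl, Finset.card_erase_of_mem (mem_fixF.mpr C.ha1)]

theorem b_moves1 (C : Config G p1 p2 p3 p4 a b) : b p1 ≠ p1 := by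
  rw [C.hb1]; exact C.h12.symm
theorem b_moves2 (C : Config G p1 p2 p3 p4 a b) : b p2 ≠ p2 := by
  rw [C.hb2]; exact C.h12
theorem b_moves3 (C : Config G p1 p2 p3 p4 a b) : b p3 ≠ p3 := by
  rw [C.hb3]; exact C.h34.symm
theorem b_moves4 (C : Config G p1 p2 p3 p4 a b) : b p4 ≠ p4 := by
  rw [C.hb4]; exact C.h34

theorem b_mem_Cen (C : Config G p1 p2 p3 p4 a b) : b ∈ Cen G b := mem_Cen.mpr ⟨C.hbG, rfl⟩

theorem card_Cen_b (C : Config G p1 p2 p3 p4 a b) :
    Nat.card (Cen G b) = Nat.card (fixG G C.base ⊓ Subgroup.centralizer ({b} : Set (Perm α)) :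
      Subgroup (Perm α)) * (Fintype.card α - (fixF b).card - 2) *
      (Fintype.card α - (fixF b).card) := by
  have hπ1 : ∀ i, b (![p1, p2, p3, p4] i) = ![p1, p2, p3, p4] (![1, 0, 3, 2] i) := by
    rw [forall_fin4]; simp [C.hb1, C.hb2, C.hb3, C.hb4]
  have step1 := card_eq_stab_mul (Cen G b) p1 (fixF b)ᶜ (by
    intro ω
    rw [Finset.mem_compl, mem_fixF]
    constructor
    · intro hω
      by_cases h1 : ω = p1
      · exact ⟨1, Subgroup.one_mem _, by rw [h1]; rfl⟩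
      by_cases h2 : ω = p2
      · exact ⟨b, C.b_mem_Cen, by rw [h2, C.hb1]⟩
      have h3 : b ω ≠ p1 := fun h => h2 (by rw [← C.bb_apply ω, h, C.hb1])
      have h4 : b ω ≠ p2 := fun h => h1 (by rw [← C.bb_apply ω, h, C.hb2])
      obtain ⟨c, hcG, hc, hca⟩ := transport G C.hG C.hodd C.hbG C.hbG C.hbb C.hbb
        ![p1, p2, p3, p4] ![ω, b ω, p1, p2] C.hf
        (inj4 (Ne.symm hω) h1 h2 h3 h4 C.h12)
        ![1, 0, 3, 2] hπ1 (by rw [forall_fin4]; simp [C.hb1, C.hb2, C.bb_apply])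
      exact ⟨c, mem_Cen_of_conj hcG hca, hc 0⟩
    · rintro ⟨k, hk, rfl⟩ h
      rw [← Cen_apply hk, C.hb1] at h
      exact C.h12 (k.injective h).symm)
  have step2 := card_eq_stab_mul (Cen G b ⊓ stabilizer (Perm α) p1) p3
      (((fixF b)ᶜ.erase p1).erase p2) (by
    intro ω
    rw [Finset.mem_erase, Finset.mem_erase, Finset.mem_compl, mem_fixF]
    constructor
    · rintro ⟨h2, h1, hω⟩
      have h3 : b ω ≠ p1 := fun h => h2 (by rw [← C.bb_apply ω, h, C.hb1])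
      have h4 : b ω ≠ p2 := fun h => h1 (by rw [← C.bb_apply ω, h, C.hb2])
      obtain ⟨c, hcG, hc, hca⟩ := transport G C.hG C.hodd C.hbG C.hbG C.hbb C.hbb
        ![p1, p2, p3, p4] ![p1, p2, ω, b ω] C.hf
        (inj4 C.h12 (Ne.symm h1) (Ne.symm h3) (Ne.symm h2) (Ne.symm h4) (Ne.symm hω))
        ![1, 0, 3, 2] hπ1 (by rw [forall_fin4]; simp [C.hb1, C.hb2, C.bb_apply])
      exact ⟨c, ⟨mem_Cen_of_conj hcG hca, hc 0⟩, hc 2⟩
    · rintro ⟨k, hk, rfl⟩
      have hk1 : k p1 = p1 := hk.2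
      have hk2 : k p2 = p2 := by rw [← C.hb1, Cen_apply hk.1, hk1]
      refine ⟨fun h => C.h23 ?_, fun h => C.h13 ?_, fun h => C.h34 ?_⟩
      · rw [← hk2] at h; exact (k.injective h).symm
      · rw [← hk1] at h; exact (k.injective h).symm
      · rw [← Cen_apply hk.1, C.hb3] at h
        exact (k.injective h).symm)
  have hK2 : (Cen G b ⊓ stabilizer (Perm α) p1 ⊓ stabilizer (Perm α) p3 : Subgroup (Perm α)) =
      fixG G C.base ⊓ Subgroup.centralizer ({b} : Set (Perm α)) := by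
    ext c
    simp only [Subgroup.mem_inf, mem_stabilizer_iff, mem_fixG, Cen, C.mem_base]
    constructor
    · rintro ⟨⟨⟨hcG, hcb⟩, h1⟩, h3⟩
      have hc : c ∈ Cen G b := ⟨hcG, hcb⟩
      have h1' : c p1 = p1 := h1
      have h3' : c p3 = p3 := h3
      refine ⟨⟨hcG, ?_⟩, hcb⟩
      rintro x (rfl | rfl | rfl | rfl)
      · exact h1
      · rw [← C.hb1, Cen_apply hc, h1']
      · exact h3
      · rw [← C.hb3, Cen_apply hc, h3']
    · rintro ⟨⟨hcG, hfix⟩, hcb⟩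
      exact ⟨⟨⟨hcG, hcb⟩, hfix p1 (Or.inl rfl)⟩, hfix p3 (Or.inr (Or.inr (Or.inl rfl)))⟩
  have hp1 : p1 ∈ (fixF b)ᶜ := by rw [Finset.mem_compl, mem_fixF]; exact C.b_moves1
  have hp2 : p2 ∈ (fixF b)ᶜ.erase p1 := by
    rw [Finset.mem_erase, Finset.mem_compl, mem_fixF]; exact ⟨C.h12.symm, C.b_moves2⟩
  rw [step1, step2, hK2, Finset.card_erase_of_mem hp2, Finset.card_erase_of_mem hp1,
    Finset.card_compl]
  rfl

end Config
end Cfsg.Agent.Lib.Helper38_Hall2
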