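import Mathlib
import Cfsg.Agent.S0713
import Cfsg.Agent.Lib.Helper38_PermTools
import Cfsg.Agent.Lib.Helper38_BrauerWielandt
import Cfsg.Agent.Lib.Helper38_Hall0
import Cfsg.Agent.Lib.Helper38_Hall1
import Cfsg.Agent.Lib.Helper38_Hall2
import Cfsg.Agent.Lib.Helper38_Hall3

/-!
# M. Hall's theorem: the Brauer–Wielandt relations (helper38)

The declarations continue the namespace `Cfsg.Agent.Lib.Helper38_Hall2` (for dot notation on
`Config`).
-/

set_option autoImplicit false
set_option linter.unusedSectionVars false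
open Equiv MulAction
open Cfsg.Agent.S0713 (apply_inv_self' inv_apply_self')
open Cfsg.Agent.Lib.Helper38_PermTools Cfsg.Agent.Lib.Helper38_Hall0
open Cfsg.Agent.Lib.Helper38_Hall1 Cfsg.Agent.Lib.Helper38_Hall2
namespace Cfsg.Agent.Lib.Helper38_Hall2
variable {α : Type*} [Fintype α] [DecidableEq α]

theorem conj_mem_fixG_cen {G : Subgroup (Perm α)} {s : Finset α} {c k u : Perm α} (hc : c ∈ G)
    (hk : k ∈ (fixG G s ⊓ Subgroup.centralizer ({u} : Set (Perm α)) : Subgroup (Perm α))) :
    c * k * c⁻¹ ∈ (fixG G (s.image c) ⊓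
      Subgroup.centralizer ({c * u * c⁻¹} : Set (Perm α)) : Subgroup (Perm α)) := by
  rw [Subgroup.mem_inf, Subgroup.mem_centralizer_singleton_iff] at hk ⊢
  refine ⟨conj_mem_fixG hc hk.1, ?_⟩
  calc c * k * c⁻¹ * (c * u * c⁻¹) = c * (k * u) * c⁻¹ := by group
    _ = c * (u * k) * c⁻¹ := by rw [hk.2]
    _ = _ := by group

/-- conjugation carries `C_{G_s}(u)` to `C_{G_t}(u')` -/
theorem card_fixG_cen_conj {G : Subgroup (Perm α)} {s t : Finset α} {c u u' : Perm α}
    (hc : c ∈ G) (hst : s.image c = t) (hu : c * u * c⁻¹ = u') :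
    Nat.card (fixG G s ⊓ Subgroup.centralizer ({u} : Set (Perm α)) : Subgroup (Perm α)) =
      Nat.card (fixG G t ⊓ Subgroup.centralizer ({u'} : Set (Perm α)) : Subgroup (Perm α)) := by
  apply card_conj_eq _ _ c
  intro k
  constructor
  · intro hk
    have := conj_mem_fixG_cen hc hk
    rwa [hst, hu] at this
  · intro hk
    have := conj_mem_fixG_cen (G.inv_mem hc) hk
    have hts : t.image (c⁻¹ : Perm α) = s := by
      rw [← hst, Finset.image_image]
      have : (⇑c⁻¹ ∘ ⇑c) = id := by ext x; simp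
      rw [this, Finset.image_id]
    have hu2 : c⁻¹ * u' * c⁻¹⁻¹ = u := by rw [← hu]; group
    rw [hts, hu2] at this
    have h3 : c⁻¹ * (c * k * c⁻¹) * c⁻¹⁻¹ = k := by group
    rwa [h3] at this

/-- an element of `G` preserving `s` normalises the pointwise stabiliser of `s` -/
theorem mem_normalizer_fixG {G : Subgroup (Perm α)} {s : Finset α} {u : Perm α} (hu : u ∈ G)
    (hs : s.image u = s) : u ∈ Subgroup.normalizer ((fixG G s : Subgroup (Perm α)) : Set (Perm α)) := by
  apply Subgroup.mem_normalizer_fintype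
  intro k hk
  have := conj_mem_fixG hu hk
  rwa [hs] at this

/-- the Brauer–Wielandt formula for a four-group acting on a group of odd order -/
theorem bw_four (K : Subgroup (Perm α)) (hodd : Odd (Nat.card K)) {a b : Perm α}
    (ha : a ∈ Subgroup.normalizer (K : Set (Perm α)))
    (hb : b ∈ Subgroup.normalizer (K : Set (Perm α)))
    (haa : a * a = 1) (hbb : b * b = 1) (hab : a * b = b * a) :
    Nat.card K * Nat.card (K ⊓ Subgroup.centralizer ({a} : Set (Perm α)) ⊓
      Subgroup.centralizer ({b} : Set (Perm α)) : Subgroup (Perm α)) ^ 2 =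
    Nat.card (K ⊓ Subgroup.centralizer ({b} : Set (Perm α)) : Subgroup (Perm α)) *
      Nat.card (K ⊓ Subgroup.centralizer ({a} : Set (Perm α)) : Subgroup (Perm α)) *
      Nat.card (K ⊓ Subgroup.centralizer ({a * b} : Set (Perm α)) : Subgroup (Perm α)) := by
  haveI : Fact (Nat.Prime 2) := ⟨Nat.prime_two⟩
  have h2 : ¬ 2 ∣ Nat.card K := fun h => (Nat.not_even_iff_odd.mpr hodd) (even_iff_two_dvd.mpr h)
  have := Cfsg.Agent.Lib.Helper38_BrauerWielandt.bw_ambient (p := 2) K h2 a b ha hb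
    (by rw [pow_two]; exact haa) (by rw [pow_two]; exact hbb) hab
  rw [this, Fintype.prod_option]
  have h3 : ∀ f : ZMod 2 → ℕ, ∏ i : ZMod 2, f i = f 0 * f 1 := fun f => Fin.prod_univ_two f
  rw [h3, ← mul_assoc]
  simp only [Cfsg.Agent.Lib.Helper38_BrauerWielandt.ccG]
  have e0 : (0 : ZMod 2).val = 0 := rfl
  have e1 : (1 : ZMod 2).val = 1 := rfl
  rw [e0, e1, pow_zero, mul_one, pow_one]

omit [Fintype α] in
theorem image_tuple (q1 q2 q3 q4 : α) :
    Finset.univ.image ![q1, q2, q3, q4] = ({q1, q2, q3, q4} : Finset α) := by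
  ext x
  simp only [Finset.mem_image, Finset.mem_univ, true_and, Finset.mem_insert,
    Finset.mem_singleton]
  constructor
  · rintro ⟨i, rfl⟩
    fin_cases i <;> simp
  · rintro (rfl | rfl | rfl | rfl)
    · exact ⟨0, rfl⟩
    · exact ⟨1, rfl⟩
    · exact ⟨2, rfl⟩
    · exact ⟨3, rfl⟩

/-- transporting centralisers in four-point stabilisers -/
theorem card_cen_transport (G : Subgroup (Perm α)) (hG : IsMultiplyPretransitive G α 4)
    (hodd : OddStab G) {u u' : Perm α} (hu : u ∈ G) (hu' : u' ∈ G) (huu : u * u = 1)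
    (hu'u' : u' * u' = 1) (f g : Fin 4 → α) (hf : Function.Injective f)
    (hg : Function.Injective g) (π : Fin 4 → Fin 4) (h1 : ∀ i, u (f i) = f (π i))
    (h2 : ∀ i, u' (g i) = g (π i)) :
    Nat.card (fixG G (Finset.univ.image f) ⊓ Subgroup.centralizer ({u} : Set (Perm α)) :
      Subgroup (Perm α)) =
    Nat.card (fixG G (Finset.univ.image g) ⊓ Subgroup.centralizer ({u'} : Set (Perm α)) :
      Subgroup (Perm α)) := by
  obtain ⟨c, hcG, hc, hcu⟩ := transport G hG hodd hu hu' huu hu'u' f g hf hg π h1 h2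
  apply card_fixG_cen_conj hcG _ hcu
  rw [Finset.image_image]
  congr 1
  ext i
  exact hc i

namespace Config

variable {G : Subgroup (Perm α)} {p1 p2 p3 p4 : α} {a b : Perm α}

theorem base_eq (C : Config G p1 p2 p3 p4 a b) :
    C.base = Finset.univ.image ![p1, p2, p3, p4] := by
  rw [image_tuple]; rfl

theorem image_a_base (C : Config G p1 p2 p3 p4 a b) : C.base.image a = C.base := by
  ext x
  simp only [Finset.mem_image, C.mem_base]
  constructor
  · rintro ⟨y, (rfl | rfl | rfl | rfl), rfl⟩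
    · left; exact C.ha1
    · right; left; exact C.ha2
    · right; right; right; exact C.ha3
    · right; right; left; exact C.ha4
  · rintro (rfl | rfl | rfl | rfl)
    · exact ⟨_, Or.inl rfl, C.ha1⟩
    · exact ⟨_, Or.inr (Or.inl rfl), C.ha2⟩
    · exact ⟨_, Or.inr (Or.inr (Or.inr rfl)), C.ha4⟩
    · exact ⟨_, Or.inr (Or.inr (Or.inl rfl)), C.ha3⟩

theorem image_b_base (C : Config G p1 p2 p3 p4 a b) : C.base.image b = C.base := by
  ext x
  simp only [Finset.mem_image, C.mem_base]
  constructor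
  · rintro ⟨y, (rfl | rfl | rfl | rfl), rfl⟩
    · right; left; exact C.hb1
    · left; exact C.hb2
    · right; right; right; exact C.hb3
    · right; right; left; exact C.hb4
  · rintro (rfl | rfl | rfl | rfl)
    · exact ⟨_, Or.inr (Or.inl rfl), C.hb2⟩
    · exact ⟨_, Or.inl rfl, C.hb1⟩
    · exact ⟨_, Or.inr (Or.inr (Or.inr rfl)), C.hb4⟩
    · exact ⟨_, Or.inr (Or.inr (Or.inl rfl)), C.hb3⟩

/-- `|C_H(ab)| = |C_H(a)|` -/
theorem card_cen_d (C : Config G p1 p2 p3 p4 a b) :
    Nat.card (fixG G C.base ⊓ Subgroup.centralizer ({a * b} : Set (Perm α)) :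
      Subgroup (Perm α)) =
    Nat.card (fixG G C.base ⊓ Subgroup.centralizer ({a} : Set (Perm α)) :
      Subgroup (Perm α)) := by
  have h := card_cen_transport G C.hG C.hodd C.haG C.hdG C.haa C.hdd ![p1, p2, p3, p4]
    ![p3, p4, p1, p2] C.hf (inj4 C.h34 C.h13.symm C.h23.symm C.h14.symm C.h24.symm C.h12)
    ![0, 1, 3, 2] (by rw [forall_fin4]; simp [C.ha1, C.ha2, C.ha3, C.ha4])
    (by rw [forall_fin4]; simp only [Matrix.cons_val_zero, Matrix.cons_val_one,
      Matrix.cons_val]; exact ⟨C.hd3, C.hd4, C.hd1, C.hd2⟩)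
  rw [← C.base_eq] at h
  have h2 : Finset.univ.image ![p3, p4, p1, p2] = C.base := by
    rw [image_tuple, base]
    ext x
    simp only [Finset.mem_insert, Finset.mem_singleton]
    tauto
  rw [h2] at h
  exact h.symm

/-- Brauer–Wielandt for `V` acting on `H` -/
theorem bw_base (C : Config G p1 p2 p3 p4 a b) :
    Nat.card (fixG G C.base) * Nat.card (fixG G C.base ⊓
      Subgroup.centralizer ({a} : Set (Perm α)) ⊓
      Subgroup.centralizer ({b} : Set (Perm α)) : Subgroup (Perm α)) ^ 2 =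
    Nat.card (fixG G C.base ⊓ Subgroup.centralizer ({b} : Set (Perm α)) : Subgroup (Perm α)) *
      Nat.card (fixG G C.base ⊓ Subgroup.centralizer ({a} : Set (Perm α)) :
        Subgroup (Perm α)) ^ 2 := by
  have := bw_four (fixG G C.base) (C.hodd _ C.card_base)
    (mem_normalizer_fixG C.haG C.image_a_base) (mem_normalizer_fixG C.hbG C.image_b_base)
    C.haa C.hbb C.hab
  rw [this, C.card_cen_d]
  ring

/-- the regular orbit through `o`, as a finset -/
def orb (_C : Config G p1 p2 p3 p4 a b) (o : α) : Finset α :=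
  Finset.univ.image ![o, a o, b o, (a * b) o]

theorem card_orb (C : Config G p1 p2 p3 p4 a b) {o : α} (ho : C.Reg o) : (C.orb o).card = 4 := by
  rw [orb, Finset.card_image_of_injective _ ho.inj, Finset.card_univ, Fintype.card_fin]

theorem d_apply (_C : Config G p1 p2 p3 p4 a b) (ω : α) : (a * b) ω = a (b ω) := rfl

omit [Fintype α] [DecidableEq α] in
theorem inj_swap {q1 q2 q3 q4 : α} (h : Function.Injective ![q1, q2, q3, q4]) :
    Function.Injective ![q1, q3, q2, q4] := by
  have h01 : q1 ≠ q2 := fun e => absurd (h (a₁ := 0) (a₂ := 1) e) (by decide)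
  have h02 : q1 ≠ q3 := fun e => absurd (h (a₁ := 0) (a₂ := 2) e) (by decide)
  have h03 : q1 ≠ q4 := fun e => absurd (h (a₁ := 0) (a₂ := 3) e) (by decide)
  have h12 : q2 ≠ q3 := fun e => absurd (h (a₁ := 1) (a₂ := 2) e) (by decide)
  have h13 : q2 ≠ q4 := fun e => absurd (h (a₁ := 1) (a₂ := 3) e) (by decide)
  have h23 : q3 ≠ q4 := fun e => absurd (h (a₁ := 2) (a₂ := 3) e) (by decide)
  exact inj4 h02 h01 h03 h12.symm h23 h13

theorem hπa (C : Config G p1 p2 p3 p4 a b) (o : α) :
    ∀ i, a (![o, a o, b o, (a * b) o] i) = ![o, a o, b o, (a * b) o] (![1, 0, 3, 2] i) := by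
  rw [forall_fin4]
  simp only [Matrix.cons_val_zero, Matrix.cons_val_one, Matrix.cons_val]
  refine ⟨trivial, C.aa_apply o, rfl, ?_⟩
  rw [C.d_apply, C.aa_apply]

theorem hπb (C : Config G p1 p2 p3 p4 a b) (o : α) :
    ∀ i, b (![o, a o, b o, (a * b) o] i) = ![o, a o, b o, (a * b) o] (![2, 3, 0, 1] i) := by
  rw [forall_fin4]
  simp only [Matrix.cons_val_zero, Matrix.cons_val_one, Matrix.cons_val]
  refine ⟨trivial, ?_, C.bb_apply o, ?_⟩
  · rw [C.d_apply, C.ab_apply]
  · rw [C.d_apply, C.ab_apply, C.bb_apply]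

omit [DecidableEq α] in
theorem surj_of_invol {π : Fin 4 → Fin 4} (h : ∀ i, π (π i) = i) : Function.Surjective π :=
  fun i => ⟨π i, h i⟩

theorem image_perm_tuple (f : Fin 4 → α) (u : Perm α) (π : Fin 4 → Fin 4)
    (hπ : Function.Surjective π) (h : ∀ i, u (f i) = f (π i)) :
    (Finset.univ.image f).image u = Finset.univ.image f := by
  rw [Finset.image_image]
  have : ⇑u ∘ f = f ∘ π := funext h
  rw [this, ← Finset.image_image, Finset.image_univ_of_surjective hπ]

theorem image_a_orb (C : Config G p1 p2 p3 p4 a b) (o : α) : (C.orb o).image a = C.orb o :=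
  image_perm_tuple _ a ![1, 0, 3, 2] (surj_of_invol (by decide)) (C.hπa o)

theorem image_b_orb (C : Config G p1 p2 p3 p4 a b) (o : α) : (C.orb o).image b = C.orb o :=
  image_perm_tuple _ b ![2, 3, 0, 1] (surj_of_invol (by decide)) (C.hπb o)

theorem hπ_base_b (C : Config G p1 p2 p3 p4 a b) :
    ∀ i, b (![p1, p2, p3, p4] i) = ![p1, p2, p3, p4] (![1, 0, 3, 2] i) := by
  rw [forall_fin4]; simp [C.hb1, C.hb2, C.hb3, C.hb4]

/-- `|C_{H_O}(a)| = |C_H(b)|` -/
theorem card_cen_orb_a (C : Config G p1 p2 p3 p4 a b) {o : α} (ho : C.Reg o) :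
    Nat.card (fixG G (C.orb o) ⊓ Subgroup.centralizer ({a} : Set (Perm α)) :
      Subgroup (Perm α)) =
    Nat.card (fixG G C.base ⊓ Subgroup.centralizer ({b} : Set (Perm α)) :
      Subgroup (Perm α)) := by
  rw [C.base_eq]
  exact card_cen_transport G C.hG C.hodd C.haG C.hbG C.haa C.hbb _ _ ho.inj C.hf
    ![1, 0, 3, 2] (C.hπa o) C.hπ_base_b

/-- `|C_{H_O}(b)| = |C_H(b)|` -/
theorem card_cen_orb_b (C : Config G p1 p2 p3 p4 a b) {o : α} (ho : C.Reg o) :
    Nat.card (fixG G (C.orb o) ⊓ Subgroup.centralizer ({b} : Set (Perm α)) :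
      Subgroup (Perm α)) =
    Nat.card (fixG G C.base ⊓ Subgroup.centralizer ({b} : Set (Perm α)) :
      Subgroup (Perm α)) := by
  have hinj : Function.Injective ![o, b o, a o, (a * b) o] := inj_swap ho.inj
  have h := card_cen_transport G C.hG C.hodd C.hbG C.hbG C.hbb C.hbb ![o, b o, a o, (a * b) o]
    ![p1, p2, p3, p4] hinj C.hf ![1, 0, 3, 2]
    (by
      rw [forall_fin4]
      simp only [Matrix.cons_val_zero, Matrix.cons_val_one, Matrix.cons_val]
      refine ⟨trivial, C.bb_apply o, ?_, ?_⟩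
      · rw [C.d_apply, C.ab_apply]
      · rw [C.d_apply, C.ab_apply, C.bb_apply]) C.hπ_base_b
  rw [← C.base_eq] at h
  have h2 : Finset.univ.image ![o, b o, a o, (a * b) o] = C.orb o := by
    rw [orb, image_tuple, image_tuple]
    ext x
    simp only [Finset.mem_insert, Finset.mem_singleton]
    tauto
  rw [h2] at h
  exact h

end Config
end Cfsg.Agent.Lib.Helper38_Hall2
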