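import Mathlib
import Cfsg.Agent.S0713
import Cfsg.Agent.Lib.Helper38_PermTools
import Cfsg.Agent.Lib.Helper38_BrauerWielandt
import Cfsg.Agent.Lib.Helper38_Hall0
import Cfsg.Agent.Lib.Helper38_Hall1
import Cfsg.Agent.Lib.Helper38_Hall2
import Cfsg.Agent.Lib.Helper38_Hall3
import Cfsg.Agent.Lib.Helper38_Hall4

/-!
# M. Hall's theorem: the second Brauer–Wielandt relation and conjugacy of `a`, `b` (helper38)

The declarations continue the namespace `Cfsg.Agent.Lib.Helper38_Hall2` (for dot notation on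
`Config`).
-/

set_option autoImplicit false
set_option linter.unusedSectionVars false
open Equiv MulAction
open Cfsg.Agent.S0713 (apply_inv_self' inv_apply_self')
open Cfsg.Agent.Lib.Helper38_PermTools Cfsg.Agent.Lib.Helper38_Hall0
open Cfsg.Agent.Lib.Helper38_Hall1 Cfsg.Agent.Lib.Helper38_Hall2
namespace Cfsg.Agent.Lib.Helper38_Hall2
variable {α : Type*} [Fintype α] [DecidableEq α]

namespace Config

variable {G : Subgroup (Perm α)} {p1 p2 p3 p4 : α} {a b : Perm α}

theorem four_le (C : Config G p1 p2 p3 p4 a b) : 4 ≤ Fintype.card α := by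
  rw [← C.card_base]; exact Finset.card_le_univ _

/-- `|C_{H_O}(ab)| = |C_H(b)|` -/
theorem card_cen_orb_d (C : Config G p1 p2 p3 p4 a b) {o : α} (ho : C.Reg o) :
    Nat.card (fixG G (C.orb o) ⊓ Subgroup.centralizer ({a * b} : Set (Perm α)) :
      Subgroup (Perm α)) =
    Nat.card (fixG G C.base ⊓ Subgroup.centralizer ({b} : Set (Perm α)) :
      Subgroup (Perm α)) := by
  have hi := ho.inj
  have h01 : o ≠ a o := fun e => absurd (hi (a₁ := 0) (a₂ := 1) e) (by decide)
  have h02 : o ≠ b o := fun e => absurd (hi (a₁ := 0) (a₂ := 2) e) (by decide)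
  have h03 : o ≠ (a * b) o := fun e => absurd (hi (a₁ := 0) (a₂ := 3) e) (by decide)
  have h12 : a o ≠ b o := fun e => absurd (hi (a₁ := 1) (a₂ := 2) e) (by decide)
  have h13 : a o ≠ (a * b) o := fun e => absurd (hi (a₁ := 1) (a₂ := 3) e) (by decide)
  have h23 : b o ≠ (a * b) o := fun e => absurd (hi (a₁ := 2) (a₂ := 3) e) (by decide)
  have hinj : Function.Injective ![o, (a * b) o, a o, b o] :=
    inj4 h03 h01 h02 h13.symm h23.symm h12
  have h := card_cen_transport G C.hG C.hodd C.hdG C.hbG C.hdd C.hbb ![o, (a * b) o, a o, b o]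
    ![p1, p2, p3, p4] hinj C.hf ![1, 0, 3, 2]
    (by
      rw [forall_fin4]
      simp only [Matrix.cons_val_zero, Matrix.cons_val_one, Matrix.cons_val]
      refine ⟨trivial, ?_, ?_, ?_⟩
      · rw [← Perm.mul_apply, C.hdd, Perm.one_apply]
      · rw [C.d_apply, C.ab_apply, C.aa_apply]
      · rw [C.d_apply, C.bb_apply]) C.hπ_base_b
  rw [← C.base_eq] at h
  have h2 : Finset.univ.image ![o, (a * b) o, a o, b o] = C.orb o := by
    rw [orb, image_tuple, image_tuple]
    ext x
    simp only [Finset.mem_insert, Finset.mem_singleton]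
    tauto
  rw [h2] at h
  exact h

theorem card_fixG_orb (C : Config G p1 p2 p3 p4 a b) {o : α} (ho : C.Reg o) :
    Nat.card (fixG G (C.orb o)) = Nat.card (fixG G C.base) :=
  card_fixG_eq G C.hG C.four_le _ _ (by rw [C.card_orb ho, C.card_base])
    (by rw [C.card_orb ho])

/-- Brauer–Wielandt for `V` acting on the stabiliser of a regular orbit -/
theorem bw_orb (C : Config G p1 p2 p3 p4 a b) {o : α} (ho : C.Reg o) :
    Nat.card (fixG G C.base) * Nat.card (fixG G (C.orb o) ⊓
      Subgroup.centralizer ({a} : Set (Perm α)) ⊓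
      Subgroup.centralizer ({b} : Set (Perm α)) : Subgroup (Perm α)) ^ 2 =
    Nat.card (fixG G C.base ⊓ Subgroup.centralizer ({b} : Set (Perm α)) :
      Subgroup (Perm α)) ^ 3 := by
  have := bw_four (fixG G (C.orb o)) (C.hodd _ (C.card_orb ho))
    (mem_normalizer_fixG C.haG (C.image_a_orb o)) (mem_normalizer_fixG C.hbG (C.image_b_orb o))
    C.haa C.hbb C.hab
  rw [C.card_fixG_orb ho, C.card_cen_orb_a ho, C.card_cen_orb_b ho, C.card_cen_orb_d ho] at this
  rw [this]
  ring

/-- `a` and `b` are conjugate in `G` (given a regular point) -/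
theorem exists_conj (C : Config G p1 p2 p3 p4 a b) {o : α} (ho : C.Reg o) :
    ∃ c ∈ G, c * a * c⁻¹ = b := by
  obtain ⟨c, hcG, -, hc⟩ := transport G C.hG C.hodd C.haG C.hbG C.haa C.hbb _ _ ho.inj C.hf
    ![1, 0, 3, 2] (C.hπa o) C.hπ_base_b
  exact ⟨c, hcG, hc⟩

theorem card_fixF_eq (C : Config G p1 p2 p3 p4 a b) {o : α} (ho : C.Reg o) :
    (fixF b).card = (fixF a).card := by
  obtain ⟨c, -, hc⟩ := C.exists_conj ho
  rw [← hc, card_fixF_conj]

theorem card_Cen_eq (C : Config G p1 p2 p3 p4 a b) {o : α} (ho : C.Reg o) :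
    Nat.card (Cen G a) = Nat.card (Cen G b) := by
  obtain ⟨c, hcG, hc⟩ := C.exists_conj ho
  apply card_conj_eq _ _ c
  intro k
  rw [mem_Cen, mem_Cen]
  constructor
  · rintro ⟨hk, hka⟩
    refine ⟨G.mul_mem (G.mul_mem hcG hk) (G.inv_mem hcG), ?_⟩
    rw [← hc]
    calc c * k * c⁻¹ * (c * a * c⁻¹) = c * (k * a) * c⁻¹ := by group
      _ = c * (a * k) * c⁻¹ := by rw [hka]
      _ = _ := by group
  · rintro ⟨hk, hkb⟩
    refine ⟨?_, ?_⟩
    · have := G.mul_mem (G.mul_mem (G.inv_mem hcG) hk) hcG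
      have e : c⁻¹ * (c * k * c⁻¹) * c = k := by group
      rwa [e] at this
    · rw [← hc] at hkb
      have e1 : k * a = c⁻¹ * (c * k * c⁻¹ * (c * a * c⁻¹)) * c := by group
      have e2 : a * k = c⁻¹ * (c * a * c⁻¹ * (c * k * c⁻¹)) * c := by group
      rw [e1, e2, hkb]

end Config
end Cfsg.Agent.Lib.Helper38_Hall2
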