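import Mathlib
import Cfsg.Agent.S0713
import Cfsg.Agent.Lib.Helper38_PermTools
import Cfsg.Agent.Lib.Helper38_BrauerWielandt
import Cfsg.Agent.Lib.Helper38_Hall0
import Cfsg.Agent.Lib.Helper38_Hall1
import Cfsg.Agent.Lib.Helper38_Hall2
import Cfsg.Agent.Lib.Helper38_Hall3
import Cfsg.Agent.Lib.Helper38_Hall4
import Cfsg.Agent.Lib.Helper38_Hall5

/-!
# M. Hall's theorem: the centraliser of the four-group, counted in two ways (helper38)

The declarations continue the namespace `Cfsg.Agent.Lib.Helper38_Hall2` (for dot notation on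
`Config`).
-/

set_option autoImplicit false
set_option linter.unusedSectionVars false
open Equiv MulAction
open Cfsg.Agent.S0713 (apply_inv_self' inv_apply_self')
open Cfsg.Agent.Lib.Helper38_PermTools Cfsg.Agent.Lib.Helper38_Hall0
open Cfsg.Agent.Lib.Helper38_Hall1 Cfsg.Agent.Lib.Helper38_Hall2
namespace Cfsg.Agent.Lib.Helper38_Hall2
variable {α : Type*} [Fintype α] [DecidableEq α]

/-- the centraliser of the four-group `⟨a, b⟩` in `G` -/
def CV (G : Subgroup (Perm α)) (a b : Perm α) : Subgroup (Perm α) :=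
  G ⊓ Subgroup.centralizer ({a} : Set (Perm α)) ⊓ Subgroup.centralizer ({b} : Set (Perm α))

theorem mem_CV {G : Subgroup (Perm α)} {a b k : Perm α} :
    k ∈ CV G a b ↔ k ∈ G ∧ k * a = a * k ∧ k * b = b * k := by
  rw [CV, Subgroup.mem_inf, Subgroup.mem_inf, Subgroup.mem_centralizer_singleton_iff,
    Subgroup.mem_centralizer_singleton_iff, and_assoc]

theorem CV_apply_a {G : Subgroup (Perm α)} {a b k : Perm α} (hk : k ∈ CV G a b) (ω : α) :
    k (a ω) = a (k ω) := by
  rw [← Perm.mul_apply, (mem_CV.mp hk).2.1, Perm.mul_apply]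

theorem CV_apply_b {G : Subgroup (Perm α)} {a b k : Perm α} (hk : k ∈ CV G a b) (ω : α) :
    k (b ω) = b (k ω) := by
  rw [← Perm.mul_apply, (mem_CV.mp hk).2.2, Perm.mul_apply]

theorem CV_apply_d {G : Subgroup (Perm α)} {a b k : Perm α} (hk : k ∈ CV G a b) (ω : α) :
    k ((a * b) ω) = (a * b) (k ω) := by
  rw [Perm.mul_apply, CV_apply_a hk, CV_apply_b hk, Perm.mul_apply]

namespace Config

variable {G : Subgroup (Perm α)} {p1 p2 p3 p4 : α} {a b : Perm α}

theorem a_mem_CV (C : Config G p1 p2 p3 p4 a b) : a ∈ CV G a b :=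
  mem_CV.mpr ⟨C.haG, rfl, C.hab⟩

theorem b_mem_CV (C : Config G p1 p2 p3 p4 a b) : b ∈ CV G a b :=
  mem_CV.mpr ⟨C.hbG, C.hab.symm, rfl⟩

theorem CV_p1 (C : Config G p1 p2 p3 p4 a b) {k : Perm α} (hk : k ∈ CV G a b) :
    k p1 = p1 ∨ k p1 = p2 := by
  by_contra hcon
  push Not at hcon
  have h1 : a (k p1) = k p1 := by rw [← CV_apply_a hk, C.ha1]
  have h2 := C.b_fix_of_a_fix h1 hcon.1 hcon.2
  rw [← CV_apply_b hk, C.hb1] at h2
  exact C.h12 (k.injective h2).symm

theorem CV_p3 (C : Config G p1 p2 p3 p4 a b) {k : Perm α} (hk : k ∈ CV G a b) :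
    k p3 = p3 ∨ k p3 = p4 := by
  by_contra hcon
  push Not at hcon
  have h1 : (a * b) (k p3) = k p3 := by rw [← CV_apply_d hk, C.hd3]
  have h2 := C.b_fix_of_d_fix h1 hcon.1 hcon.2
  rw [← CV_apply_b hk, C.hb3] at h2
  exact C.h34 (k.injective h2).symm

/-- first count: `|C_G(V)| = 4 |C_H(V)|` -/
theorem card_CV_base (C : Config G p1 p2 p3 p4 a b) :
    Nat.card (CV G a b) = Nat.card (fixG G C.base ⊓
      Subgroup.centralizer ({a} : Set (Perm α)) ⊓
      Subgroup.centralizer ({b} : Set (Perm α)) : Subgroup (Perm α)) * 2 * 2 := by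
  have step1 := card_eq_stab_mul (CV G a b) p1 {p1, p2} (by
    intro ω
    rw [Finset.mem_insert, Finset.mem_singleton]
    constructor
    · rintro (rfl | rfl)
      · exact ⟨1, Subgroup.one_mem _, rfl⟩
      · exact ⟨b, C.b_mem_CV, C.hb1⟩
    · rintro ⟨k, hk, rfl⟩
      exact C.CV_p1 hk)
  have step2 := card_eq_stab_mul (CV G a b ⊓ stabilizer (Perm α) p1) p3 {p3, p4} (by
    intro ω
    rw [Finset.mem_insert, Finset.mem_singleton]
    constructor
    · rintro (rfl | rfl)
      · exact ⟨1, Subgroup.one_mem _, rfl⟩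
      · exact ⟨a, ⟨C.a_mem_CV, C.ha1⟩, C.ha3⟩
    · rintro ⟨k, hk, rfl⟩
      exact C.CV_p3 hk.1)
  have hK : (CV G a b ⊓ stabilizer (Perm α) p1 ⊓ stabilizer (Perm α) p3 : Subgroup (Perm α)) =
      fixG G C.base ⊓ Subgroup.centralizer ({a} : Set (Perm α)) ⊓
        Subgroup.centralizer ({b} : Set (Perm α)) := by
    ext c
    simp only [Subgroup.mem_inf, mem_stabilizer_iff, mem_fixG, C.mem_base]
    constructor
    · rintro ⟨⟨hc, h1⟩, h3⟩
      have h1' : c p1 = p1 := h1
      have h3' : c p3 = p3 := h3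
      have hc' := mem_CV.mp hc
      refine ⟨⟨⟨hc'.1, ?_⟩, Subgroup.mem_centralizer_singleton_iff.mpr hc'.2.1⟩,
        Subgroup.mem_centralizer_singleton_iff.mpr hc'.2.2⟩
      rintro x (rfl | rfl | rfl | rfl)
      · exact h1
      · rw [← C.hb1, CV_apply_b hc, h1']
      · exact h3
      · rw [← C.hb3, CV_apply_b hc, h3']
    · rintro ⟨⟨⟨hcG, hfix⟩, hca⟩, hcb⟩
      refine ⟨⟨mem_CV.mpr ⟨hcG, Subgroup.mem_centralizer_singleton_iff.mp hca,
        Subgroup.mem_centralizer_singleton_iff.mp hcb⟩, hfix p1 (Or.inl rfl)⟩,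
        hfix p3 (Or.inr (Or.inr (Or.inl rfl)))⟩
  rw [step1, step2, hK, Finset.card_pair C.h12, Finset.card_pair C.h34]

theorem reg_iff (C : Config G p1 p2 p3 p4 a b) (ω : α) :
    C.Reg ω ↔ a ω ≠ ω ∧ b ω ≠ ω ∧ (a * b) ω ≠ ω := by
  constructor
  · intro h
    exact ⟨h.a_ne, h.2.2.2.2, h.d_ne⟩
  · rintro ⟨h1, h2, h3⟩
    refine ⟨fun h => h1 (h ▸ C.ha1), fun h => h1 (h ▸ C.ha2), fun h => h3 (h ▸ C.hd3),
      fun h => h3 (h ▸ C.hd4), h2⟩

theorem Reg.map_CV (C : Config G p1 p2 p3 p4 a b) {k : Perm α} (hk : k ∈ CV G a b) {ω : α}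
    (h : C.Reg ω) : C.Reg (k ω) := by
  rw [C.reg_iff] at h ⊢
  refine ⟨fun hc => h.1 ?_, fun hc => h.2.1 ?_, fun hc => h.2.2 ?_⟩
  · rw [← CV_apply_a hk] at hc; exact k.injective hc
  · rw [← CV_apply_b hk] at hc; exact k.injective hc
  · rw [← CV_apply_d hk] at hc; exact k.injective hc

/-- `C_G(V)` is transitive on the regular points -/
theorem exists_CV_map (C : Config G p1 p2 p3 p4 a b) {o ω : α} (ho : C.Reg o) (hω : C.Reg ω) :
    ∃ k ∈ CV G a b, k o = ω := by
  -- first move the tuple, commuting with `a`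
  obtain ⟨c, hcG, hc, hca⟩ := transport G C.hG C.hodd C.haG C.haG C.haa C.haa
    ![o, a o, b o, (a * b) o] ![ω, a ω, b ω, (a * b) ω] ho.inj hω.inj ![1, 0, 3, 2]
    (C.hπa o) (C.hπa ω)
  have hca' : c * a = a * c := by
    calc c * a = c * a * c⁻¹ * c := by group
      _ = a * c := by rw [hca]
  set b'' := c * b * c⁻¹ with hb''
  have hb''G : b'' ∈ G := G.mul_mem (G.mul_mem hcG C.hbG) (G.inv_mem hcG)
  have hb''2 : b'' * b'' = 1 := by
    rw [hb'']
    calc c * b * c⁻¹ * (c * b * c⁻¹) = c * (b * b) * c⁻¹ := by group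
      _ = 1 := by rw [C.hbb]; group
  have hb''a : b'' * a = a * b'' := by
    have hcia : c⁻¹ * a = a * c⁻¹ := by
      calc c⁻¹ * a = c⁻¹ * (a * c) * c⁻¹ := by group
        _ = c⁻¹ * (c * a) * c⁻¹ := by rw [hca']
        _ = a * c⁻¹ := by group
    calc b'' * a = c * b * (c⁻¹ * a) := by rw [hb'']; group
      _ = c * b * (a * c⁻¹) := by rw [hcia]
      _ = c * (b * a) * c⁻¹ := by group
      _ = c * (a * b) * c⁻¹ := by rw [C.hab]
      _ = (c * a) * b * c⁻¹ := by group
      _ = (a * c) * b * c⁻¹ := by rw [hca']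
      _ = a * b'' := by rw [hb'']; group
  have hb''g : ∀ i, b'' (![ω, a ω, b ω, (a * b) ω] i) =
      ![ω, a ω, b ω, (a * b) ω] (![2, 3, 0, 1] i) := by
    intro i
    rw [hb'', Perm.mul_apply, Perm.mul_apply, ← hc i, inv_apply_self', C.hπb o i, hc]
  have hkfix : ∀ i, (b * b'') (![ω, a ω, b ω, (a * b) ω] i) = ![ω, a ω, b ω, (a * b) ω] i := by
    intro i
    rw [Perm.mul_apply, hb''g, C.hπb ω]
    congr 1
    fin_cases i <;> rfl
  have hkodd : Odd (orderOf (b * b'')) :=
    odd_orderOf_of_fix G C.hodd (G.mul_mem C.hbG hb''G) _ hω.inj hkfix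
  obtain ⟨m, hm, hmconj⟩ := conj2 C.hbb hb''2 hkodd
  have hmG : m ∈ G := by
    have : Subgroup.zpowers (b * b'') ≤ G := by
      rw [Subgroup.zpowers_le]; exact G.mul_mem C.hbG hb''G
    exact this hm
  have hma : m * a = a * m := by
    have hcomm : Commute (b * b'') a := by
      change b * b'' * a = a * (b * b'')
      calc b * b'' * a = b * (b'' * a) := by group
        _ = b * (a * b'') := by rw [hb''a]
        _ = (b * a) * b'' := by group
        _ = (a * b) * b'' := by rw [C.hab]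
        _ = a * (b * b'') := by group
    obtain ⟨i, rfl⟩ := Subgroup.mem_zpowers_iff.mp hm
    exact (hcomm.zpow_left i).eq
  refine ⟨m * c, mem_CV.mpr ⟨G.mul_mem hmG hcG, ?_, ?_⟩, ?_⟩
  · calc m * c * a = m * (c * a) := by group
      _ = m * (a * c) := by rw [hca']
      _ = (m * a) * c := by group
      _ = (a * m) * c := by rw [hma]
      _ = a * (m * c) := by group
  · have : m * b'' = b * m := by
      calc m * b'' = m * b'' * m⁻¹ * m := by group
        _ = b * m := by rw [hmconj]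
    calc m * c * b = m * (c * b * c⁻¹) * c := by group
      _ = (m * b'') * c := by rw [hb'']
      _ = (b * m) * c := by rw [this]
      _ = b * (m * c) := by group
  · rw [Perm.mul_apply]
    have h0 := hc 0
    simp only [Matrix.cons_val_zero] at h0
    rw [h0]
    exact zpowers_fix hm (hkfix 0)

/-- the regular points, as a finset -/
def regF (C : Config G p1 p2 p3 p4 a b) : Finset α := (C.base ∪ fixF b)ᶜ

theorem mem_regF (C : Config G p1 p2 p3 p4 a b) {ω : α} : ω ∈ C.regF ↔ C.Reg ω := by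
  rw [regF, Finset.mem_compl, Finset.mem_union, C.mem_base, mem_fixF, Reg]
  tauto

theorem card_regF (C : Config G p1 p2 p3 p4 a b) :
    C.regF.card = Fintype.card α - 4 - (fixF b).card := by
  have hdisj : Disjoint C.base (fixF b) := by
    rw [Finset.disjoint_left]
    intro ω h1 h2
    rw [mem_fixF] at h2
    rw [C.mem_base] at h1
    rcases h1 with rfl | rfl | rfl | rfl
    · exact C.b_moves1 h2
    · exact C.b_moves2 h2
    · exact C.b_moves3 h2
    · exact C.b_moves4 h2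
  rw [regF, Finset.card_compl, Finset.card_union_of_disjoint hdisj, C.card_base, Nat.sub_sub]

theorem mem_orb (C : Config G p1 p2 p3 p4 a b) {o ω : α} :
    ω ∈ C.orb o ↔ ω = o ∨ ω = a o ∨ ω = b o ∨ ω = (a * b) o := by
  rw [orb, image_tuple]
  simp

/-- second count: `|C_G(V)| = |C_{H_O}(V)| · #(regular points)` -/
theorem card_CV_orb (C : Config G p1 p2 p3 p4 a b) {o : α} (ho : C.Reg o) :
    Nat.card (CV G a b) = Nat.card (fixG G (C.orb o) ⊓
      Subgroup.centralizer ({a} : Set (Perm α)) ⊓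
      Subgroup.centralizer ({b} : Set (Perm α)) : Subgroup (Perm α)) * C.regF.card := by
  have step1 := card_eq_stab_mul (CV G a b) o C.regF (by
    intro ω
    rw [C.mem_regF]
    constructor
    · intro hω
      exact C.exists_CV_map ho hω
    · rintro ⟨k, hk, rfl⟩
      exact ho.map_CV C hk)
  have hK : (CV G a b ⊓ stabilizer (Perm α) o : Subgroup (Perm α)) =
      fixG G (C.orb o) ⊓ Subgroup.centralizer ({a} : Set (Perm α)) ⊓
        Subgroup.centralizer ({b} : Set (Perm α)) := by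
    ext c
    simp only [Subgroup.mem_inf, mem_stabilizer_iff, mem_fixG, C.mem_orb]
    constructor
    · rintro ⟨hc, h1⟩
      have h1' : c o = o := h1
      have hc' := mem_CV.mp hc
      refine ⟨⟨⟨hc'.1, ?_⟩, Subgroup.mem_centralizer_singleton_iff.mpr hc'.2.1⟩,
        Subgroup.mem_centralizer_singleton_iff.mpr hc'.2.2⟩
      rintro x (rfl | rfl | rfl | rfl)
      · exact h1
      · rw [CV_apply_a hc, h1']
      · rw [CV_apply_b hc, h1']
      · rw [CV_apply_d hc, h1']
    · rintro ⟨⟨⟨hcG, hfix⟩, hca⟩, hcb⟩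
      exact ⟨mem_CV.mpr ⟨hcG, Subgroup.mem_centralizer_singleton_iff.mp hca,
        Subgroup.mem_centralizer_singleton_iff.mp hcb⟩, hfix o (Or.inl rfl)⟩
  rw [step1, hK]

end Config
end Cfsg.Agent.Lib.Helper38_Hall2
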