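import Mathlib
import Cfsg.Agent.S0713
import Cfsg.Agent.Lib.Helper38_PermTools
import Cfsg.Agent.Lib.Helper38_BrauerWielandt
import Cfsg.Agent.Lib.Helper38_Hall0
import Cfsg.Agent.Lib.Helper38_Hall1
import Cfsg.Agent.Lib.Helper38_Hall2
import Cfsg.Agent.Lib.Helper38_Hall3
import Cfsg.Agent.Lib.Helper38_Hall4
import Cfsg.Agent.Lib.Helper38_Hall5
import Cfsg.Agent.Lib.Helper38_Hall6

/-!
# M. Hall's theorem: numerics and the case of degree at least `8` (helper38)

The declarations continue the namespace `Cfsg.Agent.Lib.Helper38_Hall2` (for dot notation on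
`Config`).
-/

set_option autoImplicit false
set_option linter.unusedSectionVars false
open Equiv MulAction
open Cfsg.Agent.S0713 (apply_inv_self' inv_apply_self')
open Cfsg.Agent.Lib.Helper38_PermTools Cfsg.Agent.Lib.Helper38_Hall0
open Cfsg.Agent.Lib.Helper38_Hall1 Cfsg.Agent.Lib.Helper38_Hall2
namespace Cfsg.Agent.Lib.Helper38_Hall2
variable {α : Type*} [Fintype α] [DecidableEq α]

theorem numerics {n e N ha hb c1 c2 : ℕ} (hn : 8 ≤ n) (he2 : 2 ≤ e) (he3 : e ≤ 3)
    (hN : 0 < N) (hhb : 0 < hb) (hc1 : 0 < c1)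
    (E1 : ha * (e - 1) * e * (n - e) = hb * (n - e - 2) * (n - e))
    (E2 : N * c2 ^ 2 = hb * ha ^ 2)
    (E3 : N * c1 ^ 2 = hb ^ 3)
    (E4 : c2 * 2 * 2 = c1 * (n - 4 - e)) :
    n = 11 ∧ e = 3 ∧ ha = hb ∧ c2 = c1 := by
  have key : c2 * hb = c1 * ha := by
    have h1 : N * (c2 * hb) ^ 2 = N * (c1 * ha) ^ 2 := by
      calc N * (c2 * hb) ^ 2 = (N * c2 ^ 2) * hb ^ 2 := by ring
        _ = hb * ha ^ 2 * hb ^ 2 := by rw [E2]
        _ = hb ^ 3 * ha ^ 2 := by ring
        _ = N * c1 ^ 2 * ha ^ 2 := by rw [E3]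
        _ = N * (c1 * ha) ^ 2 := by ring
    have h2 := Nat.eq_of_mul_eq_mul_left hN h1
    exact Nat.pow_left_injective (by norm_num : 2 ≠ 0) h2
  have k2 : 4 * ha = (n - 4 - e) * hb := by
    have : c1 * (4 * ha) = c1 * ((n - 4 - e) * hb) := by
      calc c1 * (4 * ha) = 4 * (c1 * ha) := by ring
        _ = 4 * (c2 * hb) := by rw [key]
        _ = (c2 * 2 * 2) * hb := by ring
        _ = c1 * (n - 4 - e) * hb := by rw [E4]
        _ = _ := by ring
    exact Nat.eq_of_mul_eq_mul_left hc1 this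
  have hne : 0 < n - e := by omega
  have k1 : ha * (e - 1) * e = hb * (n - e - 2) := Nat.eq_of_mul_eq_mul_right hne E1
  obtain ⟨m, rfl⟩ := Nat.exists_eq_add_of_le hn
  interval_cases e
  · -- e = 2
    exfalso
    have e1 : 8 + m - 4 - 2 = m + 2 := by omega
    have e2 : 8 + m - 2 - 2 = m + 4 := by omega
    rw [e1] at k2; rw [e2] at k1
    have : hb * (2 * (m + 4)) = hb * (m + 2) := by
      calc hb * (2 * (m + 4)) = 2 * (hb * (m + 4)) := by ring
        _ = 2 * (ha * (2 - 1) * 2) := by rw [k1]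
        _ = 4 * ha := by ring
        _ = _ := by rw [k2]; ring
    have := Nat.eq_of_mul_eq_mul_left hhb this
    omega
  · -- e = 3
    have e1 : 8 + m - 4 - 3 = m + 1 := by omega
    have e2 : 8 + m - 3 - 2 = m + 3 := by omega
    rw [e1] at k2 E4; rw [e2] at k1
    have : hb * (2 * (m + 3)) = hb * (3 * (m + 1)) := by
      calc hb * (2 * (m + 3)) = 2 * (hb * (m + 3)) := by ring
        _ = 2 * (ha * (3 - 1) * 3) := by rw [k1]
        _ = 3 * (4 * ha) := by ring
        _ = _ := by rw [k2]; ring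
    have := Nat.eq_of_mul_eq_mul_left hhb this
    have hm : m = 3 := by omega
    subst hm
    refine ⟨rfl, rfl, ?_, ?_⟩
    · omega
    · omega

/-- an odd cube dividing `7!` is `1` -/
theorem cube_dvd {h N : ℕ} (hN : N = h ^ 3) (hodd : Odd N) (hdvd : N ∣ 5040) : N = 1 := by
  subst hN
  have hle : h ≤ 17 := by
    by_contra hcon
    have h18 : 18 ≤ h := by omega
    have h1 : 18 ^ 3 ≤ h ^ 3 := Nat.pow_le_pow_left h18 3
    have h2 := Nat.le_of_dvd (by norm_num) hdvd
    omega
  interval_cases h <;> first | rfl | (exfalso; revert hodd; decide) | (exfalso; revert hdvd; decide)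

/-- an element of odd order swapping two points fixes them -/
theorem odd_fix_of_swap {k : Perm α} (hk : Odd (orderOf k)) {x : α} (h : k (k x) = x) :
    k x = x := by
  obtain ⟨j, hj⟩ := hk
  have h2 : (k * k) x = x := h
  have h3 : ((k * k) ^ j) x = x :=
    zpowers_fix (Subgroup.pow_mem _ (Subgroup.mem_zpowers _) _) h2
  have h4 : k ^ (2 * j + 1) = 1 := by rw [← hj]; exact pow_orderOf_eq_one k
  have h5 : (k ^ (2 * j + 1)) x = k (((k * k) ^ j) x) := by
    rw [pow_succ', pow_mul, pow_two, Perm.mul_apply]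
  rw [h4, h3, Perm.one_apply] at h5
  exact h5.symm

/-- an involution of `G` moves all but at most three points -/
theorem card_le_of_invol (G : Subgroup (Perm α)) (hodd : OddStab G) {u : Perm α} (hu : u ∈ G)
    (huu : u * u = 1) (hu1 : u ≠ 1) (s : Finset α) (hs : ∀ x, x ∉ s → u x = x) :
    Fintype.card α ≤ s.card + 3 := by
  have h1 := card_fix_le_three G hodd hu huu hu1
  have h2 : sᶜ ⊆ Finset.univ.filter (fun ω => u ω = ω) := by
    intro x hx
    rw [Finset.mem_compl] at hx
    rw [Finset.mem_filter]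
    exact ⟨Finset.mem_univ _, hs x hx⟩
  have h3 := Finset.card_le_card h2
  rw [Finset.card_compl] at h3
  omega

/-- a `4`-transitive group of degree at least `8` with odd four-point stabilisers does not contain
the alternating group -/
theorem not_alt_le (G : Subgroup (Perm α)) (hodd : OddStab G) {p1 p2 p3 p4 : α} (h12 : p1 ≠ p2)
    (h13 : p1 ≠ p3) (h14 : p1 ≠ p4) (h23 : p2 ≠ p3) (h24 : p2 ≠ p4) (h34 : p3 ≠ p4)
    (hn : 8 ≤ Fintype.card α) :
    ¬ alternatingGroup α ≤ G := by
  intro hle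
  set u : Perm α := swap p1 p2 * swap p3 p4 with hu
  have huA : u ∈ alternatingGroup α := by
    rw [Perm.mem_alternatingGroup, hu, Perm.sign_mul, Perm.sign_swap h12, Perm.sign_swap h34]
    rfl
  have huu : u * u = 1 := by
    have hd : Perm.Disjoint (swap p1 p2) (swap p3 p4) :=
      Perm.disjoint_swap_swap (by simp [h12, h13, h14, h23, h24, h34])
    have hc : swap p3 p4 * swap p1 p2 = swap p1 p2 * swap p3 p4 := hd.commute.eq.symm
    calc u * u = swap p1 p2 * (swap p3 p4 * swap p1 p2) * swap p3 p4 := by rw [hu]; group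
      _ = swap p1 p2 * (swap p1 p2 * swap p3 p4) * swap p3 p4 := by rw [hc]
      _ = (swap p1 p2 * swap p1 p2) * (swap p3 p4 * swap p3 p4) := by group
      _ = 1 := by rw [swap_mul_self, swap_mul_self, one_mul]
  have hu1 : u ≠ 1 := by
    intro h
    have : u p1 = p2 := by
      rw [hu, Perm.mul_apply, swap_apply_of_ne_of_ne h13 h14, swap_apply_left]
    rw [h, Perm.one_apply] at this
    exact h12 this
  have := card_le_of_invol G hodd (hle huA) huu hu1 {p1, p2, p3, p4} (by
    intro x hx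
    simp only [Finset.mem_insert, Finset.mem_singleton, not_or] at hx
    rw [hu, Perm.mul_apply, swap_apply_of_ne_of_ne hx.2.2.1 hx.2.2.2,
      swap_apply_of_ne_of_ne hx.1 hx.2.1])
  have h4 : ({p1, p2, p3, p4} : Finset α).card ≤ 4 := Finset.card_le_four
  omega

namespace Config

variable {G : Subgroup (Perm α)} {p1 p2 p3 p4 : α} {a b : Perm α}

/-- an element of odd order centralising the four-group fixes the base points -/
theorem CV_odd_fix_base (C : Config G p1 p2 p3 p4 a b) {k : Perm α} (hk : k ∈ CV G a b)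
    (hodd : Odd (orderOf k)) : ∀ x ∈ C.base, k x = x := by
  have h1 : k p1 = p1 := by
    rcases C.CV_p1 hk with h | h
    · exact h
    · apply odd_fix_of_swap hodd
      rw [h, ← C.hb1, CV_apply_b hk, h, C.hb2]
  have h2 : k p2 = p2 := by rw [← C.hb1, CV_apply_b hk, h1]
  have h3 : k p3 = p3 := by
    rcases C.CV_p3 hk with h | h
    · exact h
    · apply odd_fix_of_swap hodd
      rw [h, ← C.hb3, CV_apply_b hk, h, C.hb4]
  have h4 : k p4 = p4 := by rw [← C.hb3, CV_apply_b hk, h3]
  intro x hx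
  rw [C.mem_base] at hx
  rcases hx with rfl | rfl | rfl | rfl <;> assumption

theorem reg_of_mem_orb (C : Config G p1 p2 p3 p4 a b) {o ω : α} (ho : C.Reg o)
    (hω : ω ∈ C.orb o) : C.Reg ω := by
  rw [C.mem_orb] at hω
  rcases hω with rfl | rfl | rfl | rfl
  · exact ho
  · exact ho.map_a
  · exact ho.map_b
  · exact (ho.map_b).map_a

theorem disjoint_base_orb (C : Config G p1 p2 p3 p4 a b) {o : α} (ho : C.Reg o) :
    Disjoint C.base (C.orb o) := by
  rw [Finset.disjoint_left]
  intro ω h1 h2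
  have hr := C.reg_of_mem_orb ho h2
  rw [C.mem_base] at h1
  rcases h1 with rfl | rfl | rfl | rfl
  · exact hr.1 rfl
  · exact hr.2.1 rfl
  · exact hr.2.2.1 rfl
  · exact hr.2.2.2.1 rfl

/-- in degree at most `11` the stabiliser of a regular orbit in `C_G(V)` is trivial -/
theorem K1_eq_bot (C : Config G p1 p2 p3 p4 a b) {o : α} (ho : C.Reg o)
    (hn8 : 8 ≤ Fintype.card α) (hn11 : Fintype.card α ≤ 11) :
    (fixG G (C.orb o) ⊓ Subgroup.centralizer ({a} : Set (Perm α)) ⊓
      Subgroup.centralizer ({b} : Set (Perm α)) : Subgroup (Perm α)) = ⊥ := by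
  rw [Subgroup.eq_bot_iff_forall]
  intro k hk
  by_contra hk1
  have hkfix : k ∈ fixG G (C.orb o) := hk.1.1
  have hkG : k ∈ G := (mem_fixG.mp hkfix).1
  have hkCV : k ∈ CV G a b := mem_CV.mpr ⟨hkG, Subgroup.mem_centralizer_singleton_iff.mp hk.1.2,
    Subgroup.mem_centralizer_singleton_iff.mp hk.2⟩
  have hkodd : Odd (orderOf k) :=
    (C.hodd _ (C.card_orb ho)).of_dvd_nat (Subgroup.orderOf_dvd_natCard _ hkfix)
  have hb := C.CV_odd_fix_base hkCV hkodd
  have hsupp : k.support ⊆ (C.base ∪ C.orb o)ᶜ := by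
    intro x hx
    rw [Perm.mem_support] at hx
    rw [Finset.mem_compl, Finset.mem_union]
    rintro (h | h)
    · exact hx (hb x h)
    · exact hx ((mem_fixG.mp hkfix).2 x h)
  have hcard : (C.base ∪ C.orb o)ᶜ.card = Fintype.card α - 8 := by
    rw [Finset.card_compl, Finset.card_union_of_disjoint (C.disjoint_base_orb ho), C.card_base,
      C.card_orb ho]
  have hs3 : k.support.card ≤ 3 := by
    have := Finset.card_le_card hsupp
    omega
  have hprim := isPreprimitive_of_multiply G C.hG (by norm_num) C.four_le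
  have := alt_le_of_small_support G hprim C.hG C.four_le hkG hk1 (by omega) (by omega)
  exact not_alt_le G C.hodd C.h12 C.h13 C.h14 C.h23 C.h24 C.h34 hn8 this

end Config

/-- the case of degree at least `8`: the degree is `11` and four-point stabilisers are trivial -/
theorem big_case (G : Subgroup (Perm α)) (hG : IsMultiplyPretransitive G α 4) (hodd : OddStab G)
    (hn : 8 ≤ Fintype.card α) :
    Fintype.card α = 11 ∧ ∀ Δ : Finset α, Δ.card = 4 → Nat.card (fixG G Δ) = 1 := by
  obtain ⟨x⟩ : Nonempty (Fin 4 ↪ α) := by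
    apply Function.Embedding.nonempty_of_card_le
    rw [Fintype.card_fin]; omega
  have hne : ∀ i j : Fin 4, i ≠ j → x i ≠ x j := fun i j hij h => hij (x.injective h)
  obtain ⟨a, b, C⟩ := exists_config G hG hodd (hne 0 1 (by decide)) (hne 0 2 (by decide))
    (hne 0 3 (by decide)) (hne 1 2 (by decide)) (hne 1 3 (by decide)) (hne 2 3 (by decide))
  -- a regular point
  have hreg : 0 < C.regF.card := by
    rw [C.card_regF]
    have := C.card_fixF_b
    omega
  obtain ⟨o, ho⟩ := Finset.card_pos.mp hreg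
  rw [C.mem_regF] at ho
  have he := C.card_fixF_eq ho
  have he3 := C.card_fixF_a
  have he2 : 2 ≤ (fixF a).card := by
    have hsub : ({x 0, x 1} : Finset α) ⊆ fixF a := by
      intro t ht
      rw [Finset.mem_insert, Finset.mem_singleton] at ht
      rcases ht with rfl | rfl
      · exact mem_fixF.mpr C.ha1
      · exact mem_fixF.mpr C.ha2
    have := Finset.card_le_card hsub
    rwa [Finset.card_pair C.h12] at this
  have E1 := C.card_Cen_a
  rw [C.card_Cen_eq ho, C.card_Cen_b, he] at E1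
  have E2 := C.bw_base
  have E3 := C.bw_orb ho
  have E4 := C.card_CV_base
  rw [C.card_CV_orb ho, C.card_regF, he] at E4
  obtain ⟨h11, -, -, -⟩ := numerics hn he2 he3 Nat.card_pos Nat.card_pos Nat.card_pos E1.symm E2
    E3 E4.symm
  have hK1 := C.K1_eq_bot ho hn (by omega)
  rw [hK1, Subgroup.card_bot, one_pow, mul_one] at E3
  have hdvd := card_fixG_dvd G C.base
  rw [Finset.card_compl, C.card_base, h11] at hdvd
  have hN : Nat.card (fixG G C.base) = 1 := cube_dvd E3 (C.hodd _ C.card_base) hdvd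
  refine ⟨h11, fun Δ hΔ => ?_⟩
  rw [card_fixG_eq G hG C.four_le Δ C.base (by rw [hΔ, C.card_base]) (by rw [hΔ]), hN]

end Cfsg.Agent.Lib.Helper38_Hall2
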