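import Mathlib
import Cfsg.Agent.S0713
import Cfsg.Agent.S0415
import Cfsg.Agent.Lib.Helper59_SharpTrans
import Cfsg.Agent.Lib.Helper38_PermTools
import Cfsg.Agent.Lib.Helper38_BrauerWielandt
import Cfsg.Agent.Lib.Helper38_Hall0
import Cfsg.Agent.Lib.Helper38_Hall1
import Cfsg.Agent.Lib.Helper38_Hall2
import Cfsg.Agent.Lib.Helper38_Hall3
import Cfsg.Agent.Lib.Helper38_Hall4
import Cfsg.Agent.Lib.Helper38_Hall5
import Cfsg.Agent.Lib.Helper38_Hall6
import Cfsg.Agent.Lib.Helper38_Hall7

/-!
# M. Hall's theorem: small degrees and assembly (helper38)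

The declarations continue the namespace `Cfsg.Agent.Lib.Helper38_Hall2`.
-/

set_option autoImplicit false
set_option linter.unusedSectionVars false
open Equiv MulAction
open Cfsg.Agent.S0713 (apply_inv_self' inv_apply_self')
open Cfsg.Agent.Lib.Helper38_PermTools Cfsg.Agent.Lib.Helper38_Hall0
open Cfsg.Agent.Lib.Helper38_Hall1 Cfsg.Agent.Lib.Helper38_Hall2
namespace Cfsg.Agent.Lib.Helper38_Hall2
variable {α : Type*} [Fintype α] [DecidableEq α]

theorem card_image_emb (x : Fin 4 ↪ α) : (Finset.univ.image x).card = 4 := by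
  rw [Finset.card_image_of_injective _ x.injective, Finset.card_univ, Fintype.card_fin]

theorem four_le_of_emb (x : Fin 4 ↪ α) : 4 ≤ Fintype.card α := by
  simpa using Fintype.card_le_of_embedding x

/-- the stabiliser of an injective `4`-tuple, as a subgroup of `G`, has the order of the pointwise
stabiliser of its image -/
theorem card_stabilizer_eq (G : Subgroup (Perm α)) (x : Fin 4 ↪ α) :
    Nat.card (stabilizer G x) = Nat.card (fixG G (Finset.univ.image x)) := by
  have h : (fixG G (Finset.univ.image x)).subgroupOf G = stabilizer G x := by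
    ext ⟨g, hg⟩
    rw [Subgroup.mem_subgroupOf, mem_fixG, mem_stabilizer_iff]
    constructor
    · rintro ⟨_, h⟩
      ext i
      exact h (x i) (Finset.mem_image_of_mem _ (Finset.mem_univ _))
    · intro h
      refine ⟨hg, ?_⟩
      intro y hy
      obtain ⟨i, _, rfl⟩ := Finset.mem_image.mp hy
      have := DFunLike.congr_fun h i
      simpa [Subgroup.smul_def, Perm.smul_def] using this
  rw [← h]
  exact Nat.card_congr (Subgroup.subgroupOfEquivOfLe (fixG_le G _)).toEquiv

theorem oddStab_of (G : Subgroup (Perm α)) (hG : IsMultiplyPretransitive G α 4) (x : Fin 4 ↪ α)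
    (hodd : Odd (Nat.card (stabilizer G x))) : OddStab G := by
  intro Δ hΔ
  rw [card_fixG_eq G hG (four_le_of_emb x) Δ (Finset.univ.image x)
    (by rw [hΔ, card_image_emb]) (by rw [hΔ]), ← card_stabilizer_eq]
  exact hodd

theorem sharp_of (G : Subgroup (Perm α))
    (h1 : ∀ Δ : Finset α, Δ.card = 4 → Nat.card (fixG G Δ) = 1) :
    ∀ x : Fin 4 ↪ α, stabilizer G x = ⊥ := by
  intro x
  apply Subgroup.eq_bot_of_card_eq
  rw [card_stabilizer_eq]
  exact h1 _ (card_image_emb x)

/-- degrees `4` and `5` -/
theorem top_of_card_le_five (G : Subgroup (Perm α)) (hG : IsMultiplyPretransitive G α 4)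
    (h4 : 4 ≤ Fintype.card α) (h5 : Fintype.card α ≤ 5) : G = ⊤ := by
  rw [eq_top_iff]
  intro σ _
  obtain ⟨Δ, -, hΔ⟩ := Finset.exists_subset_card_eq (s := (Finset.univ : Finset α)) (n := 4)
    (by simpa using h4)
  obtain ⟨h, hhG, hag⟩ := exists_mem_agree_le G hG h4 Δ (le_of_eq hΔ) σ
  have hfix : ∀ y ∈ Δ, (σ⁻¹ * h) y = y := by
    intro y hy
    rw [Perm.mul_apply, hag y hy, inv_apply_self']
  have hc : Δᶜ.card ≤ 1 := by
    rw [Finset.card_compl, hΔ]; omega
  have hall : ∀ y, (σ⁻¹ * h) y = y := by
    intro y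
    by_cases hy : y ∈ Δ
    · exact hfix y hy
    · have hy' : (σ⁻¹ * h) y ∉ Δ := by
        intro hz
        have := hfix _ hz
        exact hy ((σ⁻¹ * h).injective this ▸ hz)
      exact Finset.card_le_one.mp hc _ (Finset.mem_compl.mpr hy') _ (Finset.mem_compl.mpr hy)
  have : σ⁻¹ * h = 1 := Perm.ext hall
  have : h = σ := by
    calc h = σ * (σ⁻¹ * h) := by group
      _ = σ := by rw [this, mul_one]
  rw [← this]; exact hhG

theorem eq_alt_of_le_of_ne_top {G : Subgroup (Perm α)} (h : alternatingGroup α ≤ G)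
    (hne : G ≠ ⊤) : G = alternatingGroup α := by
  apply le_antisymm _ h
  intro g hg
  by_contra hga
  apply hne
  rw [eq_top_iff]
  intro τ _
  by_cases hτ : τ ∈ alternatingGroup α
  · exact h hτ
  · rw [Perm.mem_alternatingGroup] at hga hτ
    have h1 : Perm.sign g = -1 := (Int.units_eq_one_or _).resolve_left hga
    have h2 : Perm.sign τ = -1 := (Int.units_eq_one_or _).resolve_left hτ
    have h3 : τ * g⁻¹ ∈ alternatingGroup α := by
      rw [Perm.mem_alternatingGroup, Perm.sign_mul, Perm.sign_inv, h1, h2]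
      rfl
    have : τ = (τ * g⁻¹) * g := by group
    rw [this]
    exact G.mul_mem (h h3) hg

/-- degree `6` -/
theorem alt_of_six (G : Subgroup (Perm α)) (hG : IsMultiplyPretransitive G α 4)
    (hodd : OddStab G) (h6 : Fintype.card α = 6) : G = alternatingGroup α := by
  have h1 : ∀ Δ : Finset α, Δ.card = 4 → Nat.card (fixG G Δ) = 1 := by
    intro Δ hΔ
    have hdvd := card_fixG_dvd G Δ
    rw [Finset.card_compl, hΔ, h6] at hdvd
    have h2 : Nat.card (fixG G Δ) ≤ 2 := Nat.le_of_dvd (by norm_num) hdvd
    have h3 := hodd Δ hΔ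
    have h4 : 0 < Nat.card (fixG G Δ) := Nat.card_pos
    interval_cases (Nat.card (fixG G Δ))
    · rfl
    · exact absurd h3 (by decide)
  have := hG
  have hcard := Cfsg.Agent.Lib.Helper59_SharpTrans.card_of_sharp (Γ := G) (α := α) (k := 4)
    (by omega) (sharp_of G h1)
  rw [h6] at hcard
  apply Perm.eq_alternatingGroup_of_index_eq_two
  have := G.index_mul_card
  rw [hcard, Nat.card_perm, Nat.card_eq_fintype_card, h6] at this
  have e1 : Nat.descFactorial 6 4 = 360 := by decide
  have e2 : Nat.factorial 6 = 720 := by decide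
  rw [e1, e2] at this
  omega

/-- degree `7` -/
theorem alt_of_seven (G : Subgroup (Perm α)) (hG : IsMultiplyPretransitive G α 4)
    (hodd : OddStab G) (h7 : Fintype.card α = 7) : G = alternatingGroup α := by
  have h4 : 4 ≤ Fintype.card α := by omega
  have hle : alternatingGroup α ≤ G := by
    by_contra hcon
    have h1 : ∀ Δ : Finset α, Δ.card = 4 → Nat.card (fixG G Δ) = 1 := by
      intro Δ hΔ
      by_contra hne
      apply hcon
      have hnb : fixG G Δ ≠ ⊥ := fun h => hne (by rw [h, Subgroup.card_bot])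
      obtain ⟨⟨k, hk⟩, hk1⟩ := (Subgroup.ne_bot_iff_exists_ne_one).mp hnb
      have hk1' : k ≠ 1 := fun h => hk1 (Subtype.ext h)
      rw [mem_fixG] at hk
      have hsupp : k.support ⊆ Δᶜ := by
        intro x hx
        rw [Perm.mem_support] at hx
        rw [Finset.mem_compl]
        exact fun h => hx (hk.2 x h)
      have hs3 : k.support.card ≤ 3 := by
        have := Finset.card_le_card hsupp
        rw [Finset.card_compl, hΔ, h7] at this
        omega
      have hprim := isPreprimitive_of_multiply G hG (by norm_num) h4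
      exact alt_le_of_small_support G hprim hG h4 hk.1 hk1' (by omega) (by omega)
    have := hG
    have := Cfsg.Agent.S0415.result G h4 (sharp_of G h1)
    omega
  apply eq_alt_of_le_of_ne_top hle
  intro htop
  obtain ⟨p, q, hpq⟩ : ∃ p q : α, p ≠ q := by
    have : Nontrivial α := by
      rw [← Fintype.one_lt_card_iff_nontrivial]; omega
    exact exists_pair_ne α
  have := card_le_of_invol G hodd (u := swap p q) (by rw [htop]; trivial) (swap_mul_self p q)
    (by
      intro h
      have := swap_apply_left p q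
      rw [h, Perm.one_apply] at this
      exact hpq this) {p, q} (by
      intro x hx
      simp only [Finset.mem_insert, Finset.mem_singleton, not_or] at hx
      exact swap_apply_of_ne_of_ne hx.1 hx.2)
  have h2 : ({p, q} : Finset α).card ≤ 2 := Finset.card_le_two
  omega

/-- **M. Hall's theorem**: a `4`-transitive group with a four-point stabiliser of odd order is
`S₄`, `S₅`, `A₆`, `A₇` or has degree `11` and order `7920`. -/
theorem hall_main (G : Subgroup (Perm α)) (hG : IsMultiplyPretransitive G α 4) (x : Fin 4 ↪ α)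
    (hodd : Odd (Nat.card (stabilizer G x))) :
    ((Fintype.card α = 4 ∨ Fintype.card α = 5) ∧ G = ⊤) ∨
    ((Fintype.card α = 6 ∨ Fintype.card α = 7) ∧ G = alternatingGroup α) ∨
    (Fintype.card α = 11 ∧ Nat.card G = 7920) := by
  have h4 := four_le_of_emb x
  have hO := oddStab_of G hG x hodd
  rcases Nat.lt_or_ge (Fintype.card α) 6 with h | h
  · left
    exact ⟨by omega, top_of_card_le_five G hG h4 (by omega)⟩
  rcases Nat.lt_or_ge (Fintype.card α) 8 with h' | h'
  · right; left
    rcases (by omega : Fintype.card α = 6 ∨ Fintype.card α = 7) with h6 | h7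
    · exact ⟨Or.inl h6, alt_of_six G hG hO h6⟩
    · exact ⟨Or.inr h7, alt_of_seven G hG hO h7⟩
  · right; right
    obtain ⟨h11, h1⟩ := big_case G hG hO h'
    refine ⟨h11, ?_⟩
    have := hG
    have hcard := Cfsg.Agent.Lib.Helper59_SharpTrans.card_of_sharp (Γ := G) (α := α) (k := 4) h4
      (sharp_of G h1)
    rw [hcard, h11]
    decide

end Cfsg.Agent.Lib.Helper38_Hall2
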