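import Mathlib
import Cfsg.Agent.S0713
import Cfsg.Agent.Lib.Helper38_PermTools

/-!
# Auxiliary notions for Wielandt 13.10 (helper38)

`AgreeOn`, `resGroup` (the group induced on an invariant finset), `InB`.
-/

set_option autoImplicit false
set_option linter.unusedSectionVars false

namespace Cfsg.Agent.Lib.Helper38_W1310A0

open Equiv MulAction
open Cfsg.Agent.S0713 (apply_inv_self' inv_apply_self')
open Cfsg.Agent.Lib.Helper38_PermTools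

variable {α : Type*} [Fintype α] [DecidableEq α]

/-- `m` agrees with `m'` on `Φ`, and `m'` preserves `Φ` -/
def AgreeOn (Φ : Finset α) (m m' : Perm α) : Prop :=
  (∀ z ∈ Φ, m z = m' z) ∧ ∀ z, m' z ∈ Φ ↔ z ∈ Φ

theorem AgreeOn.mul {Φ : Finset α} {m₁ m₁' m₂ m₂' : Perm α} (h₁ : AgreeOn Φ m₁ m₁')
    (h₂ : AgreeOn Φ m₂ m₂') : AgreeOn Φ (m₁ * m₂) (m₁' * m₂') := by
  refine ⟨fun z hz => ?_, fun z => ?_⟩
  · rw [Perm.mul_apply, Perm.mul_apply, h₂.1 z hz]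
    exact h₁.1 _ ((h₂.2 z).mpr hz)
  · rw [Perm.mul_apply, h₁.2, h₂.2]

theorem AgreeOn.inv {Φ : Finset α} {m m' : Perm α} (h : AgreeOn Φ m m') :
    AgreeOn Φ m⁻¹ m'⁻¹ := by
  have hpres : ∀ z, m'⁻¹ z ∈ Φ ↔ z ∈ Φ := by
    intro z
    rw [← h.2 (m'⁻¹ z), apply_inv_self']
  refine ⟨fun z hz => ?_, hpres⟩
  rw [Perm.inv_eq_iff_eq, h.1 _ ((hpres z).mpr hz), apply_inv_self']

theorem AgreeOn.one (Φ : Finset α) : AgreeOn Φ 1 1 := ⟨fun _ _ => rfl, fun _ => Iff.rfl⟩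

theorem AgreeOn.pow {Φ : Finset α} {m m' : Perm α} (h : AgreeOn Φ m m') (n : ℕ) :
    AgreeOn Φ (m ^ n) (m' ^ n) := by
  induction n with
  | zero => simpa using AgreeOn.one Φ
  | succ n ih => rw [pow_succ, pow_succ]; exact ih.mul h

theorem AgreeOn.refl {Φ : Finset α} {m : Perm α} (h : ∀ z, m z ∈ Φ ↔ z ∈ Φ) : AgreeOn Φ m m :=
  ⟨fun _ _ => rfl, h⟩

/-- the group induced on an invariant finset -/
def resGroup (M : Subgroup (Perm α)) (Φ : Finset α) : Subgroup (Perm {x // x ∈ Φ}) where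
  carrier := {σ | ∃ m ∈ M, ∀ z : {x // x ∈ Φ}, m z = σ z}
  mul_mem' := by
    rintro σ₁ σ₂ ⟨m₁, hm₁, h₁⟩ ⟨m₂, hm₂, h₂⟩
    refine ⟨m₁ * m₂, M.mul_mem hm₁ hm₂, fun z => ?_⟩
    rw [Perm.mul_apply, Perm.mul_apply, h₂ z, h₁ (σ₂ z)]
  one_mem' := ⟨1, M.one_mem, fun _ => rfl⟩
  inv_mem' := by
    rintro σ ⟨m, hm, h⟩
    refine ⟨m⁻¹, M.inv_mem hm, fun z => ?_⟩
    rw [Perm.inv_eq_iff_eq, h (σ⁻¹ z), apply_inv_self']

theorem mem_resGroup {M : Subgroup (Perm α)} {Φ : Finset α} {σ : Perm {x // x ∈ Φ}} :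
    σ ∈ resGroup M Φ ↔ ∃ m ∈ M, ∀ z : {x // x ∈ Φ}, m z = σ z := Iff.rfl

theorem resGroup_pretransitive (M : Subgroup (Perm α)) (Φ : Finset α) (n : ℕ)
    (hpres : ∀ m ∈ M, ∀ z, m z ∈ Φ ↔ z ∈ Φ)
    (h : ∀ a b : Fin n ↪ α, (∀ i, a i ∈ Φ) → (∀ i, b i ∈ Φ) → ∃ m ∈ M, ∀ i, m (a i) = b i) :
    IsMultiplyPretransitive (resGroup M Φ) {x // x ∈ Φ} n := by
  rw [isMultiplyPretransitive_iff]
  intro a b
  obtain ⟨m, hm, hab⟩ := h (a.trans (Function.Embedding.subtype _))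
    (b.trans (Function.Embedding.subtype _)) (fun i => (a i).2) (fun i => (b i).2)
  have hσ : m.subtypePerm (hpres m hm) ∈ resGroup M Φ := ⟨m, hm, fun z => rfl⟩
  refine ⟨⟨_, hσ⟩, ?_⟩
  ext i
  have := hab i
  simp only [Function.Embedding.trans_apply, Function.Embedding.subtype_apply] at this
  simp [Subgroup.smul_def, Perm.smul_def, this]

omit [Fintype α] in
theorem coe_swap_subtype {Φ : Finset α} (u v z : {x // x ∈ Φ}) :
    ((swap u v z : {x // x ∈ Φ}) : α) = swap (u : α) (v : α) (z : α) := by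
  simp only [swap_apply_def, Subtype.ext_iff]
  split_ifs <;> rfl

theorem IsThreeCycle.pow_of_not_dvd {σ : Perm α} (h : σ.IsThreeCycle) {n : ℕ} (hn : ¬ 3 ∣ n) :
    (σ ^ n).IsThreeCycle := by
  have h3 : σ ^ n = σ ^ (n % 3) := by
    rw [← h.orderOf, pow_mod_orderOf]
  have : n % 3 = 1 ∨ n % 3 = 2 := by omega
  rcases this with h1 | h2
  · rw [h3, h1, pow_one]; exact h
  · rw [h3, h2, pow_two]; exact h.isThreeCycle_sq

/-- `m` centralises `Q` and acts on each point off `Φ` like an element of `Q` -/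
def InB (Q : Subgroup (Perm α)) (Φ : Finset α) (m : Perm α) : Prop :=
  (∀ q ∈ Q, m * q = q * m) ∧ ∀ ω ∉ Φ, ∃ q ∈ Q, m ω = q ω

theorem InB.mul {Q : Subgroup (Perm α)} {Φ : Finset α} {m₁ m₂ : Perm α} (h₁ : InB Q Φ m₁)
    (h₂ : InB Q Φ m₂) : InB Q Φ (m₁ * m₂) := by
  refine ⟨fun q hq => ?_, fun ω hω => ?_⟩
  · rw [mul_assoc, h₂.1 q hq, ← mul_assoc, h₁.1 q hq, mul_assoc]
  · obtain ⟨q₂, hq₂, e₂⟩ := h₂.2 ω hω
    obtain ⟨q₁, hq₁, e₁⟩ := h₁.2 ω hω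
    refine ⟨q₂ * q₁, Q.mul_mem hq₂ hq₁, ?_⟩
    rw [Perm.mul_apply, e₂, ← Perm.mul_apply, h₁.1 q₂ hq₂, Perm.mul_apply, e₁, Perm.mul_apply]

/-- conjugating by an element normalising `Q` and preserving `Φ` -/
theorem InB.conj {Q : Subgroup (Perm α)} {Φ : Finset α} {m g : Perm α} (h : InB Q Φ m)
    (hg : g ∈ Subgroup.normalizer (Q : Set (Perm α))) (hpres : ∀ z, g z ∈ Φ ↔ z ∈ Φ) :
    InB Q Φ (g * m * g⁻¹) := by
  have hn : ∀ q ∈ Q, g⁻¹ * q * g ∈ Q := fun q hq => (Subgroup.mem_normalizer_iff''.mp hg q).mp hq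
  have hn' : ∀ q ∈ Q, g * q * g⁻¹ ∈ Q := fun q hq => (Subgroup.mem_normalizer_iff.mp hg q).mp hq
  refine ⟨fun q hq => ?_, fun ω hω => ?_⟩
  · have h1 := h.1 _ (hn q hq)
    calc g * m * g⁻¹ * q = g * (m * (g⁻¹ * q * g)) * g⁻¹ := by group
      _ = g * ((g⁻¹ * q * g) * m) * g⁻¹ := by rw [h1]
      _ = q * (g * m * g⁻¹) := by group
  · have hω' : g⁻¹ ω ∉ Φ := by
      intro hc
      apply hω
      rw [← hpres, apply_inv_self'] at hc
      exact hc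
    obtain ⟨q, hq, e⟩ := h.2 _ hω'
    refine ⟨g * q * g⁻¹, hn' q hq, ?_⟩
    simp only [Perm.mul_apply, e]

theorem InB.pow_apply {Q : Subgroup (Perm α)} {Φ : Finset α} {m : Perm α} (h : InB Q Φ m)
    {ω : α} {q : Perm α} (hq : q ∈ Q) (e : m ω = q ω) (n : ℕ) : (m ^ n) ω = (q ^ n) ω := by
  induction n with
  | zero => simp
  | succ n ih =>
    rw [pow_succ', Perm.mul_apply, ih, ← Perm.mul_apply, h.1 _ (Q.pow_mem hq n), Perm.mul_apply, e,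
      ← Perm.mul_apply, ← pow_succ]

/-- if every element of `Q` has `p`-th power one, `p`-th powers of elements of `InB`
are trivial off `Φ` -/
theorem InB.pow_fix {Q : Subgroup (Perm α)} {Φ : Finset α} {m : Perm α} (h : InB Q Φ m)
    {p : ℕ} (hQ : ∀ q ∈ Q, q ^ p = 1) {ω : α} (hω : ω ∉ Φ) : (m ^ p) ω = ω := by
  obtain ⟨q, hq, e⟩ := h.2 ω hω
  rw [h.pow_apply hq e, hQ q hq]
  rfl

end Cfsg.Agent.Lib.Helper38_W1310A0
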