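import Mathlib
import Cfsg.Agent.S0713
import Cfsg.Agent.Lib.Helper38_PermTools
import Cfsg.Agent.Lib.Helper38_W1310A0

/-!
# A `k`-transitive group induces the alternating group on some `(k+1)`-set: basic notions (helper38)
-/

set_option autoImplicit false
set_option linter.unusedSectionVars false

namespace Cfsg.Agent.Lib.Helper38_KAlt

open Equiv MulAction
open Cfsg.Agent.S0713 (apply_inv_self' inv_apply_self')
open Cfsg.Agent.Lib.Helper38_PermTools Cfsg.Agent.Lib.Helper38_W1310A0

variable {α : Type*} [Fintype α] [DecidableEq α]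

/-- every even permutation supported in `Δ` is induced on `Δ` by an element of `G` -/
def Good (G : Subgroup (Perm α)) (Δ : Finset α) : Prop :=
  ∀ τ : Perm α, (∀ x, x ∉ Δ → τ x = x) → Perm.sign τ = 1 → ∃ g ∈ G, ∀ x ∈ Δ, g x = τ x

theorem Good.mono {G G' : Subgroup (Perm α)} {Δ : Finset α} (h : G ≤ G') (hg : Good G Δ) :
    Good G' Δ := by
  intro τ h1 h2
  obtain ⟨g, hgG, hgτ⟩ := hg τ h1 h2
  exact ⟨g, h hgG, hgτ⟩

theorem good_of_alt_le {G : Subgroup (Perm α)} (h : alternatingGroup α ≤ G) (Δ : Finset α) :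
    Good G Δ := by
  intro τ _ h2
  exact ⟨τ, h (Perm.mem_alternatingGroup.mpr h2), fun _ _ => rfl⟩

/-- the form of the conclusion used in the statement -/
theorem Good.to_statement {G : Subgroup (Perm α)} {Δ : Finset α} (h : Good G Δ) :
    ∀ σ : Perm ↥Δ, σ ∈ alternatingGroup ↥Δ → ∃ g ∈ G, ∀ x : ↥Δ, g (x : α) = σ x := by
  intro σ hσ
  obtain ⟨g, hgG, hg⟩ := h (Perm.ofSubtype σ)
    (fun x hx => Perm.ofSubtype_apply_of_not_mem σ hx)
    (by rw [Perm.sign_ofSubtype]; exact Perm.mem_alternatingGroup.mp hσ)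
  refine ⟨g, hgG, fun x => ?_⟩
  rw [hg x x.2, Perm.ofSubtype_apply_coe]

omit [Fintype α] in
/-- a permutation supported in `Δ` preserves `Δ` -/
theorem supp_pres {τ : Perm α} {Δ : Finset α} (h : ∀ x, x ∉ Δ → τ x = x) (x : α) :
    τ x ∈ Δ ↔ x ∈ Δ := by
  constructor
  · intro hx
    by_contra hx'
    rw [h x hx'] at hx
    exact hx' hx
  · intro hx
    by_contra hx'
    have := h (τ x) hx'
    rw [τ.injective this] at hx'
    exact hx' hx

/-- goodness passes from the group induced on an invariant set to the group itself -/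
theorem Good.of_resGroup {M : Subgroup (Perm α)} {F : Finset α} {Δ' : Finset {x // x ∈ F}}
    (h : Good (resGroup M F) Δ') : Good M (Δ'.map (Function.Embedding.subtype _)) := by
  intro τ h1 h2
  have hsub : ∀ x, x ∈ Δ'.map (Function.Embedding.subtype _) → x ∈ F := by
    intro x hx
    obtain ⟨z, _, rfl⟩ := Finset.mem_map.mp hx
    exact z.2
  have hpres : ∀ x, τ x ∈ F ↔ x ∈ F := by
    intro x
    by_cases hx : x ∈ Δ'.map (Function.Embedding.subtype _)
    · exact ⟨fun _ => hsub x hx, fun _ => hsub _ ((supp_pres h1 x).mpr hx)⟩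
    · rw [h1 x hx]
  have hmoved : ∀ x, τ x ≠ x → x ∈ F := by
    intro x hx
    by_contra hxF
    exact hx (h1 x (fun hxΔ => hxF (hsub x hxΔ)))
  obtain ⟨g', hg'X, hg'⟩ := h (τ.subtypePerm hpres)
    (by
      intro z hz
      apply Subtype.ext
      rw [Perm.subtypePerm_apply]
      apply h1
      intro hc
      obtain ⟨z', hz', hzz'⟩ := Finset.mem_map.mp hc
      have : z' = z := Subtype.ext hzz'
      exact hz (this ▸ hz'))
    (by
      have := Perm.sign_subtypePerm τ hpres hmoved
      rw [h2] at this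
      convert this)
  obtain ⟨m, hmM, hm⟩ := mem_resGroup.mp hg'X
  refine ⟨m, hmM, fun x hx => ?_⟩
  obtain ⟨z, hz, rfl⟩ := Finset.mem_map.mp hx
  have := hm z
  simp only [Function.Embedding.subtype_apply]
  rw [this, hg' z hz, Perm.subtypePerm_apply]

end Cfsg.Agent.Lib.Helper38_KAlt
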