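import Mathlib
import Cfsg.Agent.S0713
import Cfsg.Agent.Lib.Helper38_PermTools
import Cfsg.Agent.Lib.Helper38_W1310A0
import Cfsg.Agent.Lib.Helper38_Hall1
import Cfsg.Agent.Lib.Helper38_KAlt0

/-!
# A `k`-transitive group induces the alternating group on some `(k+1)`-set: transitivity lemmas
(helper38)
-/
set_option autoImplicit false
set_option linter.unusedSectionVars false

namespace Cfsg.Agent.Lib.Helper38_KAlt

open Equiv MulAction
open Cfsg.Agent.S0713 (apply_inv_self' inv_apply_self')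
open Cfsg.Agent.Lib.Helper38_PermTools Cfsg.Agent.Lib.Helper38_W1310A0
open Cfsg.Agent.Lib.Helper38_Hall1

variable {α : Type*} [Fintype α] [DecidableEq α]

omit [Fintype α] in
/-- a fixed-point-free involution lives on a set of even size -/
theorem even_card_of_involution (S : Finset α) (t : α → α) (hS : ∀ x ∈ S, t x ∈ S)
    (hne : ∀ x ∈ S, t x ≠ x) (hinv : ∀ x ∈ S, t (t x) = x) : Even S.card := by
  have h : ∑ _x ∈ S, (1 : ZMod 2) = 0 :=
    Finset.sum_involution (fun a _ => t a) (fun a _ => by decide) (fun a ha _ => hne a ha)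
      (fun a ha => hS a ha) (fun a ha => hinv a ha)
  rw [Finset.sum_const, nsmul_one] at h
  rw [even_iff_two_dvd]
  exact (ZMod.natCast_eq_zero_iff _ 2).mp h

/-- a group in which every point of an invariant set is the unique fixed point of an
"involution" is transitive on that set -/
theorem trans_of_unique_fix (Y : Subgroup (Perm α)) (F' : Finset α)
    (hpres : ∀ y ∈ Y, ∀ x, y x ∈ F' ↔ x ∈ F')
    (h : ∀ u ∈ F', ∃ t ∈ Y, t u = u ∧ (∀ v ∈ F', v ≠ u → t v ≠ v) ∧ ∀ v ∈ F', t (t v) = v) :
    ∀ u ∈ F', ∀ v ∈ F', ∃ y ∈ Y, y u = v := by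
  classical
  intro u hu v hv
  by_contra hcon
  set B : Finset α := F'.filter (fun w => ∃ y ∈ Y, y u = w) with hB
  have hBmem : ∀ w, w ∈ B ↔ w ∈ F' ∧ ∃ y ∈ Y, y u = w := fun w => Finset.mem_filter
  have hBinv : ∀ y ∈ Y, ∀ w ∈ B, y w ∈ B := by
    intro y hy w hw
    rw [hBmem] at hw ⊢
    obtain ⟨hwF, y', hy', rfl⟩ := hw
    exact ⟨(hpres y hy _).mpr hwF, y * y', Y.mul_mem hy hy', rfl⟩
  have huB : u ∈ B := (hBmem u).mpr ⟨hu, 1, Y.one_mem, rfl⟩
  have hvB : v ∉ B := fun hc => hcon ((hBmem v).mp hc).2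
  -- `B` has odd size
  obtain ⟨t, htY, htu, htne, htinv⟩ := h u hu
  have h1 : Even (B.erase u).card := by
    apply even_card_of_involution _ t
    · intro x hx
      rw [Finset.mem_erase] at hx ⊢
      refine ⟨fun hc => hx.1 ?_, hBinv t htY x hx.2⟩
      rw [← htu] at hc
      exact t.injective hc
    · intro x hx
      rw [Finset.mem_erase] at hx
      exact htne x ((hBmem x).mp hx.2).1 hx.1
    · intro x hx
      rw [Finset.mem_erase] at hx
      exact htinv x ((hBmem x).mp hx.2).1
  -- `B` has even size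
  obtain ⟨t', ht'Y, -, ht'ne, ht'inv⟩ := h v hv
  have h2 : Even B.card := by
    apply even_card_of_involution _ t'
    · intro x hx
      exact hBinv t' ht'Y x hx
    · intro x hx
      exact ht'ne x ((hBmem x).mp hx).1 (fun hc => hvB (hc ▸ hx))
    · intro x hx
      exact ht'inv x ((hBmem x).mp hx).1
  rw [Finset.card_erase_of_mem huB] at h1
  have hpos : 0 < B.card := Finset.card_pos.mpr ⟨u, huB⟩
  rw [Nat.even_iff] at h1 h2
  omega

/-- from transitivity of the pointwise stabilisers of `(k-1)`-sets to `k`-transitivity on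
tuples -/
theorem tuple_trans (N : Subgroup (Perm α)) (F : Finset α) (k : ℕ) (hk : 1 ≤ k)
    (hF : k + 1 ≤ F.card) (hpres : ∀ m ∈ N, ∀ x, m x ∈ F ↔ x ∈ F)
    (h : ∀ Γ : Finset α, Γ ⊆ F → Γ.card = k - 1 → ∀ u ∈ F, u ∉ Γ → ∀ v ∈ F, v ∉ Γ →
      ∃ m ∈ N, (∀ x ∈ Γ, m x = x) ∧ m u = v) :
    ∀ j ≤ k, ∀ a b : Fin j → α, Function.Injective a → Function.Injective b →
      (∀ i, a i ∈ F) → (∀ i, b i ∈ F) → ∃ m ∈ N, ∀ i, m (a i) = b i := by
  intro j
  induction j with
  | zero =>
    intro _ a b _ _ _ _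
    exact ⟨1, N.one_mem, fun i => i.elim0⟩
  | succ j ih =>
    intro hj a b ha hb haF hbF
    obtain ⟨m₀, hm₀N, hm₀⟩ := ih (by omega) (fun i => a i.castSucc) (fun i => b i.castSucc)
      (fun x y hxy => Fin.castSucc_injective _ (ha hxy))
      (fun x y hxy => Fin.castSucc_injective _ (hb hxy))
      (fun i => haF _) (fun i => hbF _)
    set u := m₀ (a (Fin.last j)) with hu
    set v := b (Fin.last j) with hv
    set B : Finset α := Finset.univ.image (fun i : Fin j => b i.castSucc) with hB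
    have hBcard : B.card = j := by
      rw [hB, Finset.card_image_of_injective _
        (fun x y hxy => Fin.castSucc_injective _ (hb hxy)), Finset.card_univ, Fintype.card_fin]
    have huF : u ∈ F := (hpres m₀ hm₀N _).mpr (haF _)
    have hvF : v ∈ F := hbF _
    have huB : u ∉ B := by
      intro hc
      obtain ⟨i, _, hi⟩ := Finset.mem_image.mp hc
      rw [← hm₀ i] at hi
      have := ha (m₀.injective hi)
      exact absurd this (Fin.castSucc_lt_last i).ne
    have hvB : v ∉ B := by
      intro hc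
      obtain ⟨i, _, hi⟩ := Finset.mem_image.mp hc
      have := hb hi
      exact absurd this (Fin.castSucc_lt_last i).ne
    have hBsub : B ⊆ (F.erase u).erase v := by
      intro x hx
      obtain ⟨i, _, rfl⟩ := Finset.mem_image.mp hx
      rw [Finset.mem_erase, Finset.mem_erase]
      exact ⟨fun hc => hvB (hc ▸ hx), fun hc => huB (hc ▸ hx), hbF _⟩
    have hcard2 : k - 1 ≤ ((F.erase u).erase v).card := by
      have h1 : (F.erase u).card = F.card - 1 := Finset.card_erase_of_mem huF
      have h2 : F.card - 2 ≤ ((F.erase u).erase v).card := by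
        have := Finset.pred_card_le_card_erase (s := F.erase u) (a := v)
        omega
      omega
    obtain ⟨Γ, hBΓ, hΓsub, hΓcard⟩ := Finset.exists_subsuperset_card_eq hBsub
      (by rw [hBcard]; omega) hcard2
    have hΓF : Γ ⊆ F := fun x hx =>
      Finset.mem_of_mem_erase (Finset.mem_of_mem_erase (hΓsub hx))
    have huΓ : u ∉ Γ := fun hc => by
      have := hΓsub hc
      rw [Finset.mem_erase, Finset.mem_erase] at this
      exact this.2.1 rfl
    have hvΓ : v ∉ Γ := fun hc => by
      have := hΓsub hc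
      rw [Finset.mem_erase] at this
      exact this.1 rfl
    obtain ⟨m₁, hm₁N, hm₁Γ, hm₁u⟩ := h Γ hΓF hΓcard u huF huΓ v hvF hvΓ
    refine ⟨m₁ * m₀, N.mul_mem hm₁N hm₀N, fun i => ?_⟩
    rcases Fin.eq_castSucc_or_eq_last i with ⟨i', rfl⟩ | rfl
    · rw [Perm.mul_apply, hm₀ i']
      exact hm₁Γ _ (hBΓ (Finset.mem_image_of_mem _ (Finset.mem_univ _)))
    · rw [Perm.mul_apply]
      exact hm₁u

end Cfsg.Agent.Lib.Helper38_KAlt
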