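import Mathlib
import Cfsg.Agent.S0713
import Cfsg.Agent.S0415
import Cfsg.Agent.Lib.Helper38_PermTools
import Cfsg.Agent.Lib.Helper38_W1310A0

/-!
# Wielandt 13.10: small cases and the core of case A (helper38)
-/

set_option autoImplicit false
set_option linter.unusedSectionVars false

namespace Cfsg.Agent.Lib.Helper38_W1310A1

open Equiv MulAction
open Cfsg.Agent.S0713 (apply_inv_self' inv_apply_self')
open Cfsg.Agent.Lib.Helper38_PermTools Cfsg.Agent.Lib.Helper38_W1310A0

variable {α : Type*} [Fintype α] [DecidableEq α]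

/-- a primitive group containing an element of prime order `ℓ` moving fewer than `2ℓ` points,
with at least three further points, contains the alternating group -/
theorem alt_le_of_prime_order_small (G : Subgroup (Perm α)) (hprim : IsPreprimitive G α)
    {ℓ : ℕ} (hℓ : ℓ.Prime) {d : Perm α} (hd : d ∈ G) (hord : orderOf d = ℓ)
    (hs : d.support.card < 2 * ℓ) (hn : ℓ + 3 ≤ Fintype.card α) : alternatingGroup α ≤ G := by
  obtain ⟨hc, hcard⟩ := isCycle_of_prime_order_of_small hℓ hord hs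
  have := hℓ.two_le
  exact Cfsg.Agent.S0713.result G hprim hℓ (by omega) hn hc hcard hd

/-- existence of an element of prime order in a permutation group whose order is divisible by
that prime -/
theorem exists_mem_orderOf_eq (K : Subgroup (Perm α)) {ℓ : ℕ} (hℓ : ℓ.Prime)
    (hdvd : ℓ ∣ Nat.card K) : ∃ d ∈ K, orderOf d = ℓ := by
  haveI : Fact ℓ.Prime := ⟨hℓ⟩
  obtain ⟨d, hd⟩ := exists_prime_orderOf_dvd_card' ℓ hdvd
  exact ⟨d, d.2, by rw [← hd, Subgroup.orderOf_coe]⟩

theorem exists_finset_card (n : ℕ) (hn : n ≤ Fintype.card α) : ∃ Γ : Finset α, Γ.card = n := by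
  obtain ⟨Γ, _, h⟩ := Finset.exists_subset_card_eq (s := (Finset.univ : Finset α)) (n := n)
    (by rw [Finset.card_univ]; exact hn)
  exact ⟨Γ, h⟩

theorem exists_notMem_of_card_lt (Γ : Finset α) (h : Γ.card < Fintype.card α) : ∃ ψ, ψ ∉ Γ := by
  by_contra hc
  push Not at hc
  have : Γ = Finset.univ := Finset.eq_univ_iff_forall.mpr hc
  rw [this, Finset.card_univ] at h
  exact lt_irrefl _ h

/-- the order of a pointwise stabiliser of fewer than `m` points is divisible by the number of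
remaining points -/
theorem compl_card_dvd_card_fixG (G : Subgroup (Perm α)) {m : ℕ}
    (hG : IsMultiplyPretransitive G α m) (hm : m ≤ Fintype.card α) (Δ : Finset α)
    (hΔ : Δ.card < m) : Δᶜ.card ∣ Nat.card (fixG G Δ) := by
  obtain ⟨ψ, hψ⟩ := exists_notMem_of_card_lt Δ (by omega)
  rw [← relIndex_fixG_insert G hG hm Δ hΔ hψ]
  exact Subgroup.relIndex_dvd_card _ _

theorem deg10 (G : Subgroup (Perm α)) (hn : Fintype.card α = 10)
    (hG : IsMultiplyPretransitive G α 5) : alternatingGroup α ≤ G := by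
  have hprim := isPreprimitive_of_multiply G hG (by norm_num) (by omega)
  obtain ⟨Γ, hΓ⟩ := exists_finset_card (α := α) 3 (by omega)
  have h7 : 7 ∣ Nat.card (fixG G Γ) := by
    have := compl_card_dvd_card_fixG G hG (by omega) Γ (by omega)
    rwa [Finset.card_compl, hΓ, hn] at this
  obtain ⟨d, hdK, hd⟩ := exists_mem_orderOf_eq (fixG G Γ) (by norm_num : (7 : ℕ).Prime) h7
  refine alt_le_of_prime_order_small G hprim (by norm_num : (7 : ℕ).Prime) (fixG_le G Γ hdK) hd
    ?_ (by omega)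
  have := Finset.card_le_univ d.support
  omega

theorem deg9 (G : Subgroup (Perm α)) (hn : Fintype.card α = 9)
    (hG : IsMultiplyPretransitive G α 4) : alternatingGroup α ≤ G := by
  have hprim := isPreprimitive_of_multiply G hG (by norm_num) (by omega)
  by_contra hA
  -- every element of prime order moves more than 5 points
  have key : ∀ d ∈ G, (orderOf d).Prime → 5 < d.support.card := by
    intro d hd hord
    by_contra hle
    push Not at hle
    apply hA
    by_cases h4 : d.support.card ≤ 4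
    · refine alt_le_of_small_support G hprim hG (by omega) hd ?_ h4 (by omega)
      intro h1
      rw [h1, orderOf_one] at hord
      exact Nat.not_prime_one hord
    · have h5 : d.support.card = 5 := by omega
      obtain ⟨m, hm⟩ := Perm.cycleType_prime_order hord
      have hsum := Perm.sum_cycleType d
      rw [hm, Multiset.sum_replicate, smul_eq_mul, h5] at hsum
      have hdvd : orderOf d ∣ 5 := ⟨m + 1, by rw [← hsum]; ring⟩
      have h5' : orderOf d = 5 := ((Nat.prime_dvd_prime_iff_eq hord (by norm_num)).mp hdvd)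
      exact alt_le_of_prime_order_small G hprim (by norm_num : (5 : ℕ).Prime) hd h5'
        (by omega) (by omega)
  haveI := hG
  have hsharp : ∀ x : Fin 4 ↪ α, stabilizer G x = ⊥ := by
    intro x
    rw [Subgroup.eq_bot_iff_forall]
    intro g hg
    by_contra hne
    have hne' : (g : Perm α) ≠ 1 := fun h => hne (Subtype.ext h)
    have hfix : ∀ i, (g : Perm α) (x i) = x i := by
      intro i
      rw [mem_stabilizer_iff] at hg
      have := congrFun (congrArg DFunLike.coe hg) i
      simpa [Subgroup.smul_def, Perm.smul_def] using this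
    have hord1 : orderOf (g : Perm α) ≠ 1 := by
      rw [Ne, orderOf_eq_one_iff]; exact hne'
    set ℓ := (orderOf (g : Perm α)).minFac with hℓ
    have hℓp : ℓ.Prime := Nat.minFac_prime hord1
    have hℓd : ℓ ∣ orderOf (g : Perm α) := Nat.minFac_dvd _
    set d := (g : Perm α) ^ (orderOf (g : Perm α) / ℓ) with hd
    have hdo : orderOf d = ℓ := orderOf_pow_orderOf_div (orderOf_pos _).ne' hℓd
    have hdG : d ∈ G := G.pow_mem g.2 _
    have hdfix : ∀ i, d (x i) = x i := by
      intro i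
      have : ∀ n : ℕ, ((g : Perm α) ^ n) (x i) = x i := by
        intro n
        induction n with
        | zero => simp
        | succ n ih => rw [pow_succ, Perm.mul_apply, hfix i, ih]
      exact this _
    have hsupp : d.support ⊆ (Finset.univ.map x)ᶜ := by
      intro y hy
      rw [Finset.mem_compl, Finset.mem_map]
      rintro ⟨i, _, rfl⟩
      exact (Perm.mem_support.mp hy) (hdfix i)
    have hcard := Finset.card_le_card hsupp
    rw [Finset.card_compl, Finset.card_map, Finset.card_univ, Fintype.card_fin, hn] at hcard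
    have := key d hdG (hdo ▸ hℓp)
    omega
  have := Cfsg.Agent.S0415.result G (by omega) hsharp
  omega

/-- the case `k = 1` -/
theorem case_one (G : Subgroup (Perm α)) {p r : ℕ} (hp : p.Prime)
    (hn : Fintype.card α = p + r) (hr : 3 ≤ r)
    (hG : IsMultiplyPretransitive G α (r + 1)) : alternatingGroup α ≤ G := by
  have hp2 := hp.two_le
  have hprim := isPreprimitive_of_multiply G hG (by omega) (by omega)
  obtain ⟨Γ, hΓ⟩ := exists_finset_card (α := α) r (by omega)
  have hdvd : p ∣ Nat.card (fixG G Γ) := by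
    have := compl_card_dvd_card_fixG G hG (by omega) Γ (by omega)
    rwa [Finset.card_compl, hΓ, hn, Nat.add_sub_cancel] at this
  obtain ⟨d, hdK, hd⟩ := exists_mem_orderOf_eq (fixG G Γ) hp hdvd
  refine alt_le_of_prime_order_small G hprim hp (fixG_le G Γ hdK) hd ?_ (by omega)
  have hsupp : d.support ⊆ Γᶜ := by
    intro y hy
    rw [Finset.mem_compl]
    intro hyΓ
    exact (Perm.mem_support.mp hy) ((mem_fixG.mp hdK).2 y hyΓ)
  have := Finset.card_le_card hsupp
  rw [Finset.card_compl, hΓ, hn, Nat.add_sub_cancel] at this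
  omega

theorem normalizer_pres {Q : Subgroup (Perm α)} {Φ : Finset α}
    (hΦ : ∀ z, z ∈ Φ ↔ ∀ q ∈ Q, q z = z) {g : Perm α}
    (hg : g ∈ Subgroup.normalizer (Q : Set (Perm α))) : ∀ z, g z ∈ Φ ↔ z ∈ Φ := by
  have hn : ∀ q ∈ Q, g⁻¹ * q * g ∈ Q := fun q hq => (Subgroup.mem_normalizer_iff''.mp hg q).mp hq
  have hn' : ∀ q ∈ Q, g * q * g⁻¹ ∈ Q := fun q hq => (Subgroup.mem_normalizer_iff.mp hg q).mp hq
  intro z
  rw [hΦ, hΦ]
  constructor
  · intro h q hq
    have := h _ (hn' q hq)
    simp only [Perm.mul_apply, inv_apply_self'] at this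
    exact g.injective this
  · intro h q hq
    have := h _ (hn q hq)
    simp only [Perm.mul_apply] at this
    rw [Perm.inv_eq_iff_eq] at this
    exact this

theorem case_A_core (G : Subgroup (Perm α)) (hprim : IsPreprimitive G α) {p : ℕ}
    [hp : Fact p.Prime] (hp3 : p ≠ 3) (Γ : Finset α) (hΓ2 : 1 < Γ.card)
    (P Q : Subgroup (Perm α)) (hQP : Q ≤ P) (hPG : P ≤ G)
    (hPcomm : ∀ u ∈ P, ∀ v ∈ P, u * v = v * u) (hPexp : ∀ u ∈ P, u ^ p = 1)
    (hPfix : ∀ u ∈ P, ∀ x ∈ Γ, u x = x)
    (Φ : Finset α) (hΦ : ∀ z, z ∈ Φ ↔ ∀ q ∈ Q, q z = z)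
    (horb : ∀ ω ∉ Φ, ∀ u ∈ P, ∃ q ∈ Q, u ω = q ω)
    (a : α) (ha : a ∈ Φ) (y : Perm α) (hy : y ∈ P) (hya : y a ≠ a)
    (halt : alternatingGroup {x // x ∈ Φ} ≤
      resGroup (G ⊓ Subgroup.normalizer (Q : Set (Perm α))) Φ) :
    alternatingGroup α ≤ G := by
  have hΓΦ : Γ ⊆ Φ := fun x hx => (hΦ x).mpr (fun q hq => hPfix q (hQP hq) x hx)
  have haΓ : a ∉ Γ := fun h => hya (hPfix y hy a h)
  obtain ⟨γ, hγ, γ', hγ', hne⟩ := Finset.one_lt_card.mp hΓ2
  have haγ : a ≠ γ := fun h => haΓ (h ▸ hγ)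
  have haγ' : a ≠ γ' := fun h => haΓ (h ▸ hγ')
  -- `P` normalises `Q` and preserves `Φ`
  have hPnorm : ∀ u ∈ P, u ∈ Subgroup.normalizer (Q : Set (Perm α)) := by
    intro u hu
    rw [Subgroup.mem_normalizer_iff]
    intro q
    constructor
    · intro hq
      have : u * q * u⁻¹ = q := by rw [hPcomm u hu q (hQP hq)]; group
      rw [this]; exact hq
    · intro hq
      have h1 := hPcomm u⁻¹ (P.inv_mem hu) _ (hQP hq)
      have : q = u⁻¹ * (u * q * u⁻¹) * u := by group
      rw [this, h1]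
      have : u * q * u⁻¹ * u⁻¹ * u = u * q * u⁻¹ := by group
      rw [this]; exact hq
  have hPpres : ∀ u ∈ P, ∀ z, u z ∈ Φ ↔ z ∈ Φ := fun u hu => normalizer_pres hΦ (hPnorm u hu)
  -- the element `g`
  set σ' : Perm {x // x ∈ Φ} :=
    swap ⟨a, ha⟩ ⟨γ', hΓΦ hγ'⟩ * swap ⟨a, ha⟩ ⟨γ, hΓΦ hγ⟩ with hσ'
  have hσ'alt : σ' ∈ alternatingGroup {x // x ∈ Φ} := by
    apply Perm.IsThreeCycle.mem_alternatingGroup
    apply Perm.isThreeCycle_swap_mul_swap_same
    · intro h; exact haγ' (congrArg Subtype.val h)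
    · intro h; exact haγ (congrArg Subtype.val h)
    · intro h; exact hne (congrArg Subtype.val h).symm
  obtain ⟨g, hgM, hg⟩ := mem_resGroup.mp (halt hσ'alt)
  have hgG : g ∈ G := hgM.1
  have hgN : g ∈ Subgroup.normalizer (Q : Set (Perm α)) := hgM.2
  set σ : Perm α := swap a γ' * swap a γ with hσ
  have hgσ : ∀ z ∈ Φ, g z = σ z := by
    intro z hz
    have := hg ⟨z, hz⟩
    rw [this, hσ', Perm.mul_apply, coe_swap_subtype, coe_swap_subtype]
    rfl
  have hswap_pres : ∀ b ∈ Φ, ∀ z, swap a b z ∈ Φ ↔ z ∈ Φ := by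
    intro b hb z
    by_cases h1 : z = a
    · subst h1; rw [swap_apply_left]; exact ⟨fun _ => ha, fun _ => hb⟩
    by_cases h2 : z = b
    · subst h2; rw [swap_apply_right]; exact ⟨fun _ => hb, fun _ => ha⟩
    rw [swap_apply_of_ne_of_ne h1 h2]
  have hσpres : ∀ z, σ z ∈ Φ ↔ z ∈ Φ := by
    intro z
    rw [hσ, Perm.mul_apply, hswap_pres γ' (hΓΦ hγ'), hswap_pres γ (hΓΦ hγ)]
  have hAg : AgreeOn Φ g σ := ⟨hgσ, hσpres⟩
  have hAy : AgreeOn Φ y y := AgreeOn.refl (hPpres y hy)
  -- the element `t`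
  set t : Perm α := (g * y * g⁻¹)⁻¹ * y with ht
  set t' : Perm α := (σ * y * σ⁻¹)⁻¹ * y with ht'
  have hAt : AgreeOn Φ t t' := (((hAg.mul hAy).mul hAg.inv).inv).mul hAy
  have hσa : σ a = γ := by
    rw [hσ, Perm.mul_apply, swap_apply_left, swap_apply_of_ne_of_ne haγ.symm hne]
  have ht'eq : t' = swap a (y⁻¹ a) * swap a (σ a) := by
    apply conj_inv_mul_eq hya
    · intro x hx hxa
      have hxΓ : x ∉ Γ := fun h => hx (hPfix y hy x h)
      rw [hσ, Perm.mul_apply,
        swap_apply_of_ne_of_ne hxa (fun h => hxΓ (h ▸ hγ)),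
        swap_apply_of_ne_of_ne hxa (fun h => hxΓ (h ▸ hγ'))]
    · rw [hσa]; exact hPfix y hy γ hγ
  set β := y⁻¹ a with hβ
  have hβa : β ≠ a := by
    intro h
    apply hya
    rw [hβ, Perm.inv_eq_iff_eq] at h
    exact h.symm
  have hβΦ : β ∈ Φ := by
    rw [hβ, ← hPpres y hy, apply_inv_self']; exact ha
  have hβγ : β ≠ γ := by
    intro h
    have h1 := hPfix y hy γ hγ
    rw [← h, hβ, apply_inv_self'] at h1
    exact hβa (by rw [hβ]; exact h1 ▸ rfl)
  rw [hσa] at ht'eq
  have h3 : t'.IsThreeCycle := by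
    rw [ht'eq]
    exact Perm.isThreeCycle_swap_mul_swap_same hβa.symm haγ hβγ
  have hp3' : ¬ 3 ∣ p := by
    intro h
    exact hp3 ((Nat.prime_dvd_prime_iff_eq (by norm_num) hp.out).mp h).symm
  have h3p : (t' ^ p).IsThreeCycle := IsThreeCycle.pow_of_not_dvd h3 hp3'
  -- `t` lies in `InB`
  have hyB : InB Q Φ y := ⟨fun q hq => hPcomm y hy q (hQP hq), fun ω hω => horb ω hω y hy⟩
  have hgpres := normalizer_pres hΦ hgN
  have htB : InB Q Φ t := by
    have h1 : InB Q Φ y⁻¹ :=
      ⟨fun q hq => hPcomm _ (P.inv_mem hy) q (hQP hq), fun ω hω => horb ω hω _ (P.inv_mem hy)⟩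
    have h2 := h1.conj hgN hgpres
    have : t = g * y⁻¹ * g⁻¹ * y := by rw [ht]; group
    rw [this]
    exact h2.mul hyB
  have hQexp : ∀ q ∈ Q, q ^ p = 1 := fun q hq => hPexp q (hQP hq)
  have hAtp := hAt.pow p
  have hsupp' : ∀ z ∉ Φ, t' z = z := by
    intro z hz
    have h1 : z ≠ a := fun h => hz (h ▸ ha)
    have h2 : z ≠ γ := fun h => hz (h ▸ hΓΦ hγ)
    have h3 : z ≠ β := fun h => hz (h ▸ hβΦ)
    rw [ht'eq, Perm.mul_apply, swap_apply_of_ne_of_ne h1 h2, swap_apply_of_ne_of_ne h1 h3]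
  have heq : t ^ p = t' ^ p := by
    ext z
    by_cases hz : z ∈ Φ
    · exact hAtp.1 z hz
    · rw [htB.pow_fix hQexp hz]
      have : ∀ n : ℕ, (t' ^ n) z = z := by
        intro n
        induction n with
        | zero => simp
        | succ n ih => rw [pow_succ, Perm.mul_apply, hsupp' z hz, ih]
      rw [this]
  have htG : t ∈ G := by
    rw [ht]
    have hyG := hPG hy
    exact G.mul_mem (G.inv_mem (G.mul_mem (G.mul_mem hgG hyG) (G.inv_mem hgG))) hyG
  refine Equiv.Perm.alternatingGroup_le_of_isPreprimitive_of_isThreeCycle_mem hprim h3p ?_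
  rw [← heq]
  exact G.pow_mem htG p

end Cfsg.Agent.Lib.Helper38_W1310A1
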