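import Mathlib
import Cfsg.Agent.S0713
import Cfsg.Agent.Lib.Helper38_PermTools
import Cfsg.Agent.Lib.Helper38_W1310A0
import Cfsg.Agent.Lib.Helper38_Hall1
import Cfsg.Agent.Lib.Helper38_W1310A1
import Cfsg.Agent.Lib.Helper38_KAlt0
import Cfsg.Agent.Lib.Helper38_KAlt1

/-!
# A `k`-transitive group induces the alternating group on some `(k+1)`-set: the normaliser of a maximal 2-subgroup
(helper38)
-/
set_option autoImplicit false
set_option linter.unusedSectionVars false

namespace Cfsg.Agent.Lib.Helper38_KAlt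

open Equiv MulAction
open Cfsg.Agent.S0713 (apply_inv_self' inv_apply_self')
open Cfsg.Agent.Lib.Helper38_PermTools Cfsg.Agent.Lib.Helper38_W1310A0
open Cfsg.Agent.Lib.Helper38_W1310A1
open Cfsg.Agent.Lib.Helper38_Hall1

variable {α : Type*} [Fintype α] [DecidableEq α]

open Classical in
/-- the common fixed points of a subgroup -/
noncomputable def fixS (Q : Subgroup (Perm α)) : Finset α := Finset.univ.filter (fun x => ∀ q ∈ Q, q x = x)

theorem mem_fixS {Q : Subgroup (Perm α)} {x : α} : x ∈ fixS Q ↔ ∀ q ∈ Q, q x = x := by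
  simp [fixS]

theorem normalizer_pres_fixS {Q : Subgroup (Perm α)} {m : Perm α}
    (hm : m ∈ Subgroup.normalizer (Q : Set (Perm α))) : ∀ x, m x ∈ fixS Q ↔ x ∈ fixS Q :=
  normalizer_pres (fun _ => mem_fixS) hm

theorem le_fixG_of_subset_fixS {G Q : Subgroup (Perm α)} (hQG : Q ≤ G) {T : Finset α}
    (hT : T ⊆ fixS Q) : Q ≤ fixG G T := by
  intro q hq
  rw [mem_fixG]
  exact ⟨hQG hq, fun x hx => mem_fixS.mp (hT hx) q hq⟩

theorem subset_fixS_of_le_fixG {G Q : Subgroup (Perm α)} {T : Finset α} (h : Q ≤ fixG G T) :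
    T ⊆ fixS Q := by
  intro x hx
  rw [mem_fixS]
  intro q hq
  exact (mem_fixG.mp (h hq)).2 x hx

/-- a `2`-subgroup that is not a Sylow subgroup lies with index `2` in a larger one -/
theorem exists_index_two_step (K Q : Subgroup (Perm α)) (hQK : Q ≤ K) (hQ2 : IsPGroup 2 Q)
    (hdvd : 2 ∣ Q.relIndex K) :
    ∃ Q₁ : Subgroup (Perm α), Q ≤ Q₁ ∧ Q₁ ≤ K ∧ IsPGroup 2 Q₁ ∧ Nat.card Q < Nat.card Q₁ ∧
      ∃ t ∈ Q₁, t * t ∈ Q ∧ t ∈ Subgroup.normalizer (Q : Set (Perm α)) ∧
        ∀ x ∈ Q₁, x ∈ Q ∨ t⁻¹ * x ∈ Q := by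
  have : Fact (Nat.Prime 2) := ⟨Nat.prime_two⟩
  obtain ⟨a, ha⟩ := hQ2.exists_card_eq
  have hcardK : Nat.card Q * Q.relIndex K = Nat.card K := card_mul_relIndex hQK
  have hH : Nat.card (Q.subgroupOf K) = 2 ^ a := by
    rw [← ha]
    exact Nat.card_congr (Subgroup.subgroupOfEquivOfLe hQK).toEquiv
  have hdvd' : 2 ^ (a + 1) ∣ Nat.card K := by
    rw [← hcardK, ha, pow_succ]
    exact Nat.mul_dvd_mul_left _ hdvd
  obtain ⟨K₁, hK₁card, hK₁⟩ := Sylow.exists_subgroup_card_pow_succ hdvd' hH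
  set Q₁ : Subgroup (Perm α) := K₁.map K.subtype with hQ₁
  have hQ₁card : Nat.card Q₁ = 2 ^ (a + 1) := by
    rw [← hK₁card]
    exact Nat.card_congr (K₁.equivMapOfInjective _ K.subtype_injective).symm.toEquiv
  have hQQ₁ : Q ≤ Q₁ := by
    intro q hq
    refine ⟨⟨q, hQK hq⟩, hK₁ ?_, rfl⟩
    rw [Subgroup.mem_subgroupOf]
    exact hq
  have hQ₁K : Q₁ ≤ K := by
    rintro _ ⟨x, _, rfl⟩
    exact x.2
  have hlt : Nat.card Q < Nat.card Q₁ := by
    rw [ha, hQ₁card]
    exact Nat.pow_lt_pow_right (by norm_num) (by omega)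
  have hidx : (Q.subgroupOf Q₁).index = 2 := by
    have h1 : Nat.card Q * Q.relIndex Q₁ = Nat.card Q₁ := card_mul_relIndex hQQ₁
    rw [ha, hQ₁card, pow_succ] at h1
    have h2 : 0 < 2 ^ a := by positivity
    exact Nat.eq_of_mul_eq_mul_left h2 h1
  -- an element outside `Q`
  obtain ⟨t, htQ₁, htQ⟩ : ∃ t ∈ Q₁, t ∉ Q := by
    by_contra hcon
    push Not at hcon
    have : Q₁ ≤ Q := hcon
    have := Subgroup.card_le_of_le this
    omega
  have htH : (⟨t, htQ₁⟩ : Q₁) ∉ Q.subgroupOf Q₁ := by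
    rw [Subgroup.mem_subgroupOf]; exact htQ
  have htinvH : (⟨t, htQ₁⟩ : Q₁)⁻¹ ∉ Q.subgroupOf Q₁ := by
    rw [Subgroup.inv_mem_iff]; exact htH
  refine ⟨Q₁, hQQ₁, hQ₁K, IsPGroup.of_card hQ₁card, hlt, t, htQ₁, ?_, ?_, ?_⟩
  · have := Subgroup.mul_self_mem_of_index_two hidx (⟨t, htQ₁⟩ : Q₁)
    rw [Subgroup.mem_subgroupOf] at this
    exact this
  · have hn : (Q.subgroupOf Q₁).Normal := Subgroup.normal_of_index_eq_two hidx
    apply Subgroup.mem_normalizer_fintype
    intro q hq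
    have hq' : (⟨q, hQQ₁ hq⟩ : Q₁) ∈ Q.subgroupOf Q₁ := by
      rw [Subgroup.mem_subgroupOf]; exact hq
    have := hn.conj_mem _ hq' ⟨t, htQ₁⟩
    rw [Subgroup.mem_subgroupOf] at this
    exact this
  · intro x hx
    by_cases hxQ : x ∈ Q
    · exact Or.inl hxQ
    · right
      have hxH : (⟨x, hx⟩ : Q₁) ∉ Q.subgroupOf Q₁ := by
        rw [Subgroup.mem_subgroupOf]; exact hxQ
      have := (Subgroup.mul_mem_iff_of_index_two hidx
        (a := (⟨t, htQ₁⟩ : Q₁)⁻¹) (b := ⟨x, hx⟩)).mpr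
        ⟨fun h => absurd h htinvH, fun h => absurd h hxH⟩
      rw [Subgroup.mem_subgroupOf] at this
      exact this

/-- the "involution" attached to a `k`-subset of the fixed points -/
theorem exists_invol (G Q : Subgroup (Perm α)) {k : ℕ} (hQG : Q ≤ G) (hQ2 : IsPGroup 2 Q)
    (hmax : ∀ Q' : Subgroup (Perm α), Q' ≤ G → IsPGroup 2 Q' → k + 1 ≤ (fixS Q').card →
      Nat.card Q' ≤ Nat.card Q)
    (T : Finset α) (hT : T ⊆ fixS Q) (hTk : T.card = k)
    (hdvd : 2 ∣ Q.relIndex (fixG G T)) :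
    ∃ t ∈ G ⊓ Subgroup.normalizer (Q : Set (Perm α)), (∀ x ∈ T, t x = x) ∧
      (∀ u ∈ fixS Q, u ∉ T → t u ≠ u) ∧ ∀ v ∈ fixS Q, t (t v) = v := by
  obtain ⟨Q₁, hQQ₁, hQ₁K, hQ₁2, hlt, t, htQ₁, htt, htn, hcos⟩ :=
    exists_index_two_step (fixG G T) Q (le_fixG_of_subset_fixS hQG hT) hQ2 hdvd
  have hQ₁G : Q₁ ≤ G := hQ₁K.trans (fixG_le G T)
  have hfix₁ : ¬ k + 1 ≤ (fixS Q₁).card := by
    intro hc
    have := hmax Q₁ hQ₁G hQ₁2 hc
    omega
  have hTsub : T ⊆ fixS Q₁ := subset_fixS_of_le_fixG hQ₁K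
  have hTeq : T = fixS Q₁ := Finset.eq_of_subset_of_card_le hTsub (by omega)
  have htK := hQ₁K htQ₁
  rw [mem_fixG] at htK
  refine ⟨t, ⟨htK.1, htn⟩, htK.2, ?_, ?_⟩
  · intro u hu huT htu
    apply huT
    rw [hTeq, mem_fixS]
    intro x hx
    rcases hcos x hx with hxQ | hxQ
    · exact mem_fixS.mp hu x hxQ
    · have := mem_fixS.mp hu _ hxQ
      rw [Perm.mul_apply, Perm.inv_eq_iff_eq] at this
      rw [this, htu]
  · intro v hv
    have := mem_fixS.mp hv _ htt
    rwa [Perm.mul_apply] at this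

/-- the normaliser of a `2`-subgroup of maximal order among those fixing at least `k+1` points
acts `k`-transitively on the fixed points -/
theorem normalizer_trans (G : Subgroup (Perm α)) {k : ℕ} (hk : 1 ≤ k)
    (hG : IsMultiplyPretransitive G α k) (hkn : k ≤ Fintype.card α)
    (Q : Subgroup (Perm α)) (hQG : Q ≤ G) (hQ2 : IsPGroup 2 Q) (hF : k + 1 ≤ (fixS Q).card)
    (hmax : ∀ Q' : Subgroup (Perm α), Q' ≤ G → IsPGroup 2 Q' → k + 1 ≤ (fixS Q').card →
      Nat.card Q' ≤ Nat.card Q) :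
    ∀ a b : Fin k → α, Function.Injective a → Function.Injective b →
      (∀ i, a i ∈ fixS Q) → (∀ i, b i ∈ fixS Q) →
      ∃ m ∈ G ⊓ Subgroup.normalizer (Q : Set (Perm α)), ∀ i, m (a i) = b i := by
  have : Fact (Nat.Prime 2) := ⟨Nat.prime_two⟩
  set N := G ⊓ Subgroup.normalizer (Q : Set (Perm α)) with hN
  -- the relative index is the same for all `k`-subsets
  have hrel : ∀ T T' : Finset α, T ⊆ fixS Q → T' ⊆ fixS Q → T.card = k → T'.card = k →
      Q.relIndex (fixG G T) = Q.relIndex (fixG G T') := by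
    intro T T' hT hT' hTk hT'k
    have h1 := card_mul_relIndex (le_fixG_of_subset_fixS hQG hT)
    have h2 := card_mul_relIndex (le_fixG_of_subset_fixS hQG hT')
    rw [card_fixG_eq G hG hkn T T' (by rw [hTk, hT'k]) (by rw [hTk])] at h1
    have hpos : 0 < Nat.card Q := Nat.card_pos
    exact Nat.eq_of_mul_eq_mul_left hpos (h1.trans h2.symm)
  by_cases hex : ∃ T : Finset α, T ⊆ fixS Q ∧ T.card = k ∧ ¬ 2 ∣ Q.relIndex (fixG G T)
  · -- Witt's lemma
    obtain ⟨T₀, hT₀, hT₀k, hT₀d⟩ := hex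
    intro a b ha hb haF hbF
    obtain ⟨c, hcG, hc⟩ := exists_map_tuple G hG a b ha hb
    set s : Finset α := Finset.univ.image a with hs
    set t : Finset α := Finset.univ.image b with ht
    have hsF : s ⊆ fixS Q := by
      intro x hx
      obtain ⟨i, _, rfl⟩ := Finset.mem_image.mp hx
      exact haF i
    have htF : t ⊆ fixS Q := by
      intro x hx
      obtain ⟨i, _, rfl⟩ := Finset.mem_image.mp hx
      exact hbF i
    have htk : t.card = k := by
      rw [ht, Finset.card_image_of_injective _ hb, Finset.card_univ, Fintype.card_fin]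
    have hst : s.image c = t := by
      rw [hs, ht, Finset.image_image]
      congr 1
      ext i
      exact hc i
    obtain ⟨h, hh, hn⟩ := witt (p := 2) G Q s t c hcG hst (le_fixG_of_subset_fixS hQG hsF)
      (le_fixG_of_subset_fixS hQG htF) hQ2 (by rw [hrel t T₀ htF hT₀ htk hT₀k]; exact hT₀d)
    refine ⟨h * c, ⟨G.mul_mem (fixG_le _ _ hh) hcG, hn⟩, fun i => ?_⟩
    rw [Perm.mul_apply, hc i]
    exact (mem_fixG.mp hh).2 _ (Finset.mem_image_of_mem _ (Finset.mem_univ _))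
  · -- the involutions with a unique fixed point
    push Not at hex
    have hpresN : ∀ m ∈ N, ∀ x, m x ∈ fixS Q ↔ x ∈ fixS Q :=
      fun m hm => normalizer_pres_fixS hm.2
    apply tuple_trans N (fixS Q) k hk hF hpresN _ k le_rfl
    intro Γ hΓF hΓk u huF huΓ v hvF hvΓ
    have := trans_of_unique_fix (fixG N Γ) (fixS Q \ Γ)
      (by
        intro y hy x
        rw [mem_fixG] at hy
        rw [Finset.mem_sdiff, Finset.mem_sdiff, hpresN y hy.1]
        constructor
        · rintro ⟨h1, h2⟩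
          refine ⟨h1, fun hx => h2 ?_⟩
          rw [hy.2 x hx]; exact hx
        · rintro ⟨h1, h2⟩
          refine ⟨h1, fun hx => h2 ?_⟩
          have := hy.2 _ hx
          rw [← y.injective this]; exact hx)
      (by
        intro w hw
        rw [Finset.mem_sdiff] at hw
        have hTsub : insert w Γ ⊆ fixS Q := by
          intro x hx
          rcases Finset.mem_insert.mp hx with rfl | hx
          · exact hw.1
          · exact hΓF hx
        have hTk : (insert w Γ).card = k := by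
          rw [Finset.card_insert_of_notMem hw.2, hΓk]; omega
        obtain ⟨t, htN, htT, htne, htinv⟩ := exists_invol G Q hQG hQ2 hmax (insert w Γ) hTsub hTk
          (hex _ hTsub hTk)
        refine ⟨t, ?_, htT w (Finset.mem_insert_self _ _), ?_, ?_⟩
        · rw [mem_fixG]
          exact ⟨htN, fun x hx => htT x (Finset.mem_insert_of_mem hx)⟩
        · intro z hz hzw
          rw [Finset.mem_sdiff] at hz
          apply htne z hz.1
          intro hc
          rcases Finset.mem_insert.mp hc with rfl | hc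
          · exact hzw rfl
          · exact hz.2 hc
        · intro z hz
          rw [Finset.mem_sdiff] at hz
          exact htinv z hz.1)
      u (Finset.mem_sdiff.mpr ⟨huF, huΓ⟩) v (Finset.mem_sdiff.mpr ⟨hvF, hvΓ⟩)
    obtain ⟨y, hy, hyu⟩ := this
    rw [mem_fixG] at hy
    exact ⟨y, hy.1, hy.2, hyu⟩

end Cfsg.Agent.Lib.Helper38_KAlt
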