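import Mathlib
import Cfsg.Agent.S0713
import Cfsg.Agent.Lib.Helper38_PermTools
import Cfsg.Agent.Lib.Helper38_W1310A0
import Cfsg.Agent.Lib.Helper38_Hall0
import Cfsg.Agent.Lib.Helper38_Hall1
import Cfsg.Agent.Lib.Helper38_Hall2
import Cfsg.Agent.Lib.Helper38_KAlt0

/-!
# A `k`-transitive group induces the alternating group on some `(k+1)`-set: the case without
involutions fixing `k+1` points (helper38)
-/

set_option autoImplicit false
set_option linter.unusedSectionVars false

namespace Cfsg.Agent.Lib.Helper38_KAlt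

open Equiv MulAction
open Cfsg.Agent.S0713 (apply_inv_self' inv_apply_self')
open Cfsg.Agent.Lib.Helper38_PermTools Cfsg.Agent.Lib.Helper38_W1310A0
open Cfsg.Agent.Lib.Helper38_Hall0 Cfsg.Agent.Lib.Helper38_Hall1 Cfsg.Agent.Lib.Helper38_Hall2

variable {α : Type*} [Fintype α] [DecidableEq α]

/-- an involution inverting `w` inverts every power of `w` -/
theorem conj_zpowers_inv {Γ : Type*} [Group Γ] {u w m : Γ} (hu : u * u = 1)
    (hw : u * w * u = w⁻¹) (hm : m ∈ Subgroup.zpowers w) : u * m * u = m⁻¹ := by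
  obtain ⟨i, rfl⟩ := Subgroup.mem_zpowers_iff.mp hm
  have huinv : u⁻¹ = u := inv_eq_of_mul_eq_one_left hu
  have h1 : MulAut.conj u w = w⁻¹ := by
    rw [MulAut.conj_apply, huinv]; exact hw
  have h2 : MulAut.conj u (w ^ i) = (w ^ i)⁻¹ := by
    rw [map_zpow, h1, inv_zpow]
  rw [MulAut.conj_apply, huinv] at h2
  exact h2

/-- an element of order two in a subgroup of even order -/
theorem exists_invol_of_even (K : Subgroup (Perm α)) (h : Even (Nat.card K)) :
    ∃ u ∈ K, u * u = 1 ∧ u ≠ 1 := by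
  have : Fact (Nat.Prime 2) := ⟨Nat.prime_two⟩
  obtain ⟨x, hx⟩ := exists_prime_orderOf_dvd_card' (G := K) 2 (even_iff_two_dvd.mp h)
  refine ⟨x, x.2, ?_, ?_⟩
  · have := pow_orderOf_eq_one x
    rw [hx, pow_two] at this
    exact congrArg Subtype.val this
  · intro h1
    have : x = 1 := Subtype.ext h1
    rw [this, orderOf_one] at hx
    omega

/-- if involutions fix at most `k` points and `k`-point stabilisers have even order, then any two
points are interchanged by an element fixing `k-1` given points -/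
theorem exists_swap_of_no_invol (G : Subgroup (Perm α)) {k : ℕ}
    (hinv : ∀ u ∈ G, u * u = 1 → u ≠ 1 → (fixF u).card ≤ k)
    (heven : ∀ T : Finset α, T.card = k → Even (Nat.card (fixG G T)))
    (Γ : Finset α) (hΓ : Γ.card + 1 = k) (y z : α) (hy : y ∉ Γ) (hz : z ∉ Γ) (hyz : y ≠ z) :
    ∃ v ∈ G, (∀ x ∈ Γ, v x = x) ∧ v y = z ∧ v z = y := by
  -- an involution with fixed point set `insert p Γ`
  have key : ∀ p, p ∉ Γ → ∃ u ∈ G, u * u = 1 ∧ u ≠ 1 ∧ fixF u = insert p Γ := by
    intro p hp
    have hcard : (insert p Γ).card = k := by rw [Finset.card_insert_of_notMem hp, hΓ]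
    obtain ⟨u, huK, huu, hu1⟩ := exists_invol_of_even _ (heven _ hcard)
    rw [mem_fixG] at huK
    refine ⟨u, huK.1, huu, hu1, ?_⟩
    symm
    apply Finset.eq_of_subset_of_card_le
    · intro x hx
      exact mem_fixF.mpr (huK.2 x hx)
    · rw [hcard]; exact hinv u huK.1 huu hu1
  obtain ⟨uy, huyG, huy2, huy1, huyF⟩ := key y hy
  obtain ⟨uz, huzG, huz2, huz1, huzF⟩ := key z hz
  have huyΓ : ∀ x ∈ Γ, uy x = x := fun x hx =>
    mem_fixF.mp (by rw [huyF]; exact Finset.mem_insert_of_mem hx)
  have huzΓ : ∀ x ∈ Γ, uz x = x := fun x hx =>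
    mem_fixF.mp (by rw [huzF]; exact Finset.mem_insert_of_mem hx)
  have huzz : uz z = z := mem_fixF.mp (by rw [huzF]; exact Finset.mem_insert_self _ _)
  have huyinv : uy⁻¹ = uy := inv_eq_of_mul_eq_one_left huy2
  have huzinv : uz⁻¹ = uz := inv_eq_of_mul_eq_one_left huz2
  set w := uy * uz with hw
  have hwG : w ∈ G := G.mul_mem huyG huzG
  have hwΓ : ∀ x ∈ Γ, w x = x := fun x hx => by
    rw [hw, Perm.mul_apply, huzΓ x hx, huyΓ x hx]
  have hwy : uy * w * uy = w⁻¹ := by
    rw [hw, mul_inv_rev, huyinv, huzinv, ← mul_assoc, huy2, one_mul]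
  have hwz : uz * w * uz = w⁻¹ := by
    rw [hw, mul_inv_rev, huyinv, huzinv, mul_assoc, mul_assoc, huz2, mul_one]
  -- a point outside `Γ` fixed by `c` when `c` commutes with an involution fixing `insert p Γ`
  have hfixp : ∀ (c u : Perm α) (p : α), p ∉ Γ → fixF u = insert p Γ → (∀ x ∈ Γ, c x = x) →
      u * c = c * u → c p = p := by
    intro c u p hp huF hcΓ hcomm
    have h1 : u (c p) = c p := by
      rw [← Perm.mul_apply, hcomm, Perm.mul_apply]
      congr 1
      exact mem_fixF.mp (by rw [huF]; exact Finset.mem_insert_self _ _)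
    have h2 : c p ∈ insert p Γ := by rw [← huF]; exact mem_fixF.mpr h1
    rcases Finset.mem_insert.mp h2 with h | h
    · exact h
    · exfalso
      have := hcΓ _ h
      exact hp (c.injective this ▸ h)
  -- the product has odd order
  have hodd : Odd (orderOf w) := by
    by_contra hcon
    rw [Nat.not_odd_iff_even] at hcon
    obtain ⟨e, he⟩ := hcon
    have hpos : 0 < orderOf w := orderOf_pos w
    set c := w ^ e with hc
    have hcc : c * c = 1 := by
      rw [hc, ← pow_add, ← he, pow_orderOf_eq_one]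
    have hc1 : c ≠ 1 := by
      intro h
      have := orderOf_dvd_of_pow_eq_one h
      have := Nat.le_of_dvd (by omega) this
      omega
    have hcG : c ∈ G := G.pow_mem hwG e
    have hcm : c ∈ Subgroup.zpowers w := Subgroup.pow_mem _ (Subgroup.mem_zpowers w) e
    have hcΓ : ∀ x ∈ Γ, c x = x := fun x hx => zpowers_fix hcm (hwΓ x hx)
    have hcinv : c⁻¹ = c := inv_eq_of_mul_eq_one_left hcc
    have hcy : uy * c = c * uy := by
      have := conj_zpowers_inv huy2 hwy hcm
      rw [hcinv] at this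
      calc uy * c = uy * c * (uy * uy) := by rw [huy2, mul_one]
        _ = (uy * c * uy) * uy := by group
        _ = c * uy := by rw [this]
    have hcz : uz * c = c * uz := by
      have := conj_zpowers_inv huz2 hwz hcm
      rw [hcinv] at this
      calc uz * c = uz * c * (uz * uz) := by rw [huz2, mul_one]
        _ = (uz * c * uz) * uz := by group
        _ = c * uz := by rw [this]
    have hcyy := hfixp c uy y hy huyF hcΓ hcy
    have hczz := hfixp c uz z hz huzF hcΓ hcz
    have hsub : insert y (insert z Γ) ⊆ fixF c := by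
      intro x hx
      rw [mem_fixF]
      rcases Finset.mem_insert.mp hx with rfl | hx
      · exact hcyy
      rcases Finset.mem_insert.mp hx with rfl | hx
      · exact hczz
      · exact hcΓ x hx
    have h1 := Finset.card_le_card hsub
    rw [Finset.card_insert_of_notMem (by simp [hyz, hy]), Finset.card_insert_of_notMem hz] at h1
    have h2 := hinv c hcG hcc hc1
    omega
  obtain ⟨m, hm, hmconj⟩ := conj2 huy2 huz2 hodd
  have hmG : m ∈ G := by
    have : Subgroup.zpowers w ≤ G := by rw [Subgroup.zpowers_le]; exact hwG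
    exact this hm
  have hmΓ : ∀ x ∈ Γ, m x = x := fun x hx => zpowers_fix hm (hwΓ x hx)
  have hmz : m z = y := by
    have h1 : uy (m z) = m z := by
      rw [← hmconj]
      simp only [Perm.mul_apply, inv_apply_self', huzz]
    have h2 : m z ∈ insert y Γ := by rw [← huyF]; exact mem_fixF.mpr h1
    rcases Finset.mem_insert.mp h2 with h | h
    · exact h
    · exfalso
      have := hmΓ _ h
      exact hz (m.injective this ▸ h)
  have hvv : (m * uz) * (m * uz) = 1 := by
    have := conj_zpowers_inv huz2 hwz hm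
    calc m * uz * (m * uz) = m * (uz * m * uz) := by group
      _ = 1 := by rw [this, mul_inv_cancel]
  refine ⟨m * uz, G.mul_mem hmG huzG, fun x hx => ?_, ?_, ?_⟩
  · rw [Perm.mul_apply, huzΓ x hx, hmΓ x hx]
  · have h1 : (m * uz) z = y := by rw [Perm.mul_apply, huzz, hmz]
    rw [← h1, ← Perm.mul_apply, hvv, Perm.one_apply]
  · rw [Perm.mul_apply, huzz, hmz]

/-- if all transpositions of `Δ` are induced then `Δ` is good -/
theorem good_of_swaps (G : Subgroup (Perm α)) (Δ : Finset α)
    (h : ∀ y ∈ Δ, ∀ z ∈ Δ, y ≠ z →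
      ∃ v ∈ G, (∀ x ∈ Δ, x ≠ y → x ≠ z → v x = x) ∧ v y = z ∧ v z = y) : Good G Δ := by
  have hall : ∀ σ : Perm {x // x ∈ Δ}, ∃ g ∈ G, ∀ x : {x // x ∈ Δ}, g (x : α) = σ x := by
    intro σ
    induction σ using Perm.swap_induction_on with
    | one => exact ⟨1, G.one_mem, fun _ => rfl⟩
    | swap_mul f a b hab ih =>
      obtain ⟨g, hgG, hg⟩ := ih
      obtain ⟨v, hvG, hvfix, hvab, hvba⟩ := h a a.2 b b.2 (fun hc => hab (Subtype.ext hc))
      refine ⟨v * g, G.mul_mem hvG hgG, fun x => ?_⟩
      rw [Perm.mul_apply, hg x, Perm.mul_apply, coe_swap_subtype]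
      by_cases h1 : f x = a
      · rw [h1, swap_apply_left]; exact hvab
      by_cases h2 : f x = b
      · rw [h2, swap_apply_right]; exact hvba
      · have h1' : ((f x : {x // x ∈ Δ}) : α) ≠ a := fun hc => h1 (Subtype.ext hc)
        have h2' : ((f x : {x // x ∈ Δ}) : α) ≠ b := fun hc => h2 (Subtype.ext hc)
        rw [swap_apply_of_ne_of_ne h1' h2']
        exact hvfix _ (f x).2 h1' h2'
  intro τ h1 _
  obtain ⟨g, hgG, hg⟩ := hall (τ.subtypePerm (supp_pres h1))
  refine ⟨g, hgG, fun x hx => ?_⟩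
  have := hg ⟨x, hx⟩
  rw [this, Perm.subtypePerm_apply]

/-- the case where involutions fix at most `k` points but `k`-point stabilisers have even order:
every `(k+1)`-set is good -/
theorem good_of_no_invol (G : Subgroup (Perm α)) {k : ℕ} (hk : 1 ≤ k)
    (hinv : ∀ u ∈ G, u * u = 1 → u ≠ 1 → (fixF u).card ≤ k)
    (heven : ∀ T : Finset α, T.card = k → Even (Nat.card (fixG G T)))
    (Δ : Finset α) (hΔ : Δ.card = k + 1) : Good G Δ := by
  apply good_of_swaps
  intro y hy z hz hyz
  set Γ := (Δ.erase y).erase z with hΓdef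
  have hzmem : z ∈ Δ.erase y := Finset.mem_erase.mpr ⟨hyz.symm, hz⟩
  have hΓ : Γ.card + 1 = k := by
    rw [hΓdef, Finset.card_erase_of_mem hzmem, Finset.card_erase_of_mem hy, hΔ]
    omega
  have hyΓ : y ∉ Γ := by
    rw [hΓdef, Finset.mem_erase, Finset.mem_erase]
    tauto
  have hzΓ : z ∉ Γ := by
    rw [hΓdef, Finset.mem_erase]
    tauto
  obtain ⟨v, hvG, hvΓ, hvy, hvz⟩ := exists_swap_of_no_invol G hinv heven Γ hΓ y z hyΓ hzΓ hyz
  refine ⟨v, hvG, fun x hx hxy hxz => hvΓ x ?_, hvy, hvz⟩
  rw [hΓdef, Finset.mem_erase, Finset.mem_erase]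
  exact ⟨hxz, hxy, hx⟩

end Cfsg.Agent.Lib.Helper38_KAlt
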