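import Mathlib
import Cfsg.Agent.S0713
import Cfsg.Agent.Lib.Helper38_PermTools
import Cfsg.Agent.Lib.Helper38_W1310A0
import Cfsg.Agent.Lib.Helper38_Hall0
import Cfsg.Agent.Lib.Helper38_Hall1
import Cfsg.Agent.Lib.Helper38_Hall2
import Cfsg.Agent.Lib.Helper38_KAlt0
import Cfsg.Agent.Lib.Helper38_KAlt3

/-!
# A `k`-transitive group induces the alternating group on some `(k+1)`-set: passing to the
stabiliser of `k - 4` points (helper38)
-/

set_option autoImplicit false
set_option linter.unusedSectionVars false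

namespace Cfsg.Agent.Lib.Helper38_KAlt

open Equiv MulAction
open Cfsg.Agent.S0713 (apply_inv_self' inv_apply_self')
open Cfsg.Agent.Lib.Helper38_PermTools Cfsg.Agent.Lib.Helper38_W1310A0
open Cfsg.Agent.Lib.Helper38_Hall0 Cfsg.Agent.Lib.Helper38_Hall1 Cfsg.Agent.Lib.Helper38_Hall2

variable {α : Type*} [Fintype α] [DecidableEq α]

/-- in a `(j+m)`-transitive group the stabiliser of `j` points is `m`-transitive on the rest -/
theorem fix_tuple_trans (G : Subgroup (Perm α)) {j m : ℕ}
    (hG : IsMultiplyPretransitive G α (j + m)) (Γ : Finset α) (hΓ : Γ.card = j)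
    (a b : Fin m → α) (ha : Function.Injective a) (hb : Function.Injective b)
    (haΓ : ∀ i, a i ∉ Γ) (hbΓ : ∀ i, b i ∉ Γ) :
    ∃ g ∈ fixG G Γ, ∀ i, g (a i) = b i := by
  let e : Fin j ≃ {x // x ∈ Γ} := (Γ.equivFinOfCardEq hΓ).symm
  let c : Fin j → α := fun i => (e i : α)
  have hc : Function.Injective c := fun i i' h => e.injective (Subtype.ext h)
  have hcΓ : ∀ i, c i ∈ Γ := fun i => (e i).2
  obtain ⟨g, hgG, hg⟩ := exists_map_tuple G hG (Fin.append c a) (Fin.append c b)
    (Fin.append_injective_iff.mpr ⟨hc, ha, fun i i' h => haΓ i' (h ▸ hcΓ i)⟩)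
    (Fin.append_injective_iff.mpr ⟨hc, hb, fun i i' h => hbΓ i' (h ▸ hcΓ i)⟩)
  refine ⟨g, mem_fixG.mpr ⟨hgG, fun x hx => ?_⟩, fun i => ?_⟩
  · have := hg (Fin.castAdd m (e.symm ⟨x, hx⟩))
    rw [Fin.append_left, Fin.append_left] at this
    simpa [c] using this
  · have := hg (Fin.natAdd j i)
    rwa [Fin.append_right, Fin.append_right] at this

theorem fixG_pres_compl {G : Subgroup (Perm α)} {Γ : Finset α} {m : Perm α}
    (hm : m ∈ fixG G Γ) (z : α) : m z ∈ Γᶜ ↔ z ∈ Γᶜ := by
  rw [Finset.mem_compl, Finset.mem_compl, not_iff_not]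
  rw [mem_fixG] at hm
  constructor
  · intro h
    have := hm.2 _ h
    rw [← m.injective this]; exact h
  · intro h
    rw [hm.2 z h]; exact h

/-- the group induced by the stabiliser of `j` points on the remaining points -/
theorem res_fix_pretransitive (G : Subgroup (Perm α)) {j m : ℕ}
    (hG : IsMultiplyPretransitive G α (j + m)) (Γ : Finset α) (hΓ : Γ.card = j) :
    IsMultiplyPretransitive (resGroup (fixG G Γ) Γᶜ) {x // x ∈ Γᶜ} m := by
  apply resGroup_pretransitive (fixG G Γ) Γᶜ m (fun m hm z => fixG_pres_compl hm z)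
  intro a b ha hb
  exact fix_tuple_trans G hG Γ hΓ a b a.injective b.injective
    (fun i => Finset.mem_compl.mp (ha i)) (fun i => Finset.mem_compl.mp (hb i))

/-- an element of `fixG G Γ` is determined by the permutation it induces on `Γᶜ` -/
theorem eq_one_of_res_one {G : Subgroup (Perm α)} {Γ : Finset α} {m : Perm α}
    (hm : m ∈ fixG G Γ) (h : ∀ z : {x // x ∈ Γᶜ}, m z = z) : m = 1 := by
  ext x
  by_cases hx : x ∈ Γ
  · exact (mem_fixG.mp hm).2 x hx
  · exact h ⟨x, Finset.mem_compl.mpr hx⟩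

theorem card_union_map (Γ : Finset α) (Δ' : Finset {x // x ∈ Γᶜ}) :
    (Γ ∪ Δ'.map (Function.Embedding.subtype _)).card = Γ.card + Δ'.card := by
  rw [Finset.card_union_of_disjoint, Finset.card_map]
  rw [Finset.disjoint_left]
  intro x hx hx'
  obtain ⟨z, _, rfl⟩ := Finset.mem_map.mp hx'
  exact Finset.mem_compl.mp z.2 hx

/-- an element of `fixG G Γ` inducing on `Γᶜ` a permutation fixing `Δ'` pointwise -/
theorem mem_fixG_union {G : Subgroup (Perm α)} {Γ : Finset α} {Δ' : Finset {x // x ∈ Γᶜ}}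
    {m : Perm α} (hm : m ∈ fixG G Γ) {σ : Perm {x // x ∈ Γᶜ}}
    (hσ : ∀ z : {x // x ∈ Γᶜ}, m z = σ z) (hfix : ∀ z ∈ Δ', σ z = z) :
    m ∈ fixG G (Γ ∪ Δ'.map (Function.Embedding.subtype _)) := by
  rw [mem_fixG] at hm ⊢
  refine ⟨hm.1, fun x hx => ?_⟩
  rcases Finset.mem_union.mp hx with hx | hx
  · exact hm.2 x hx
  · obtain ⟨z, hz, rfl⟩ := Finset.mem_map.mp hx
    simp only [Function.Embedding.subtype_apply]
    rw [hσ z, hfix z hz]

/-- odd `k`-point stabilisers in `G` give odd four-point stabilisers in the group induced by the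
stabiliser of `k - 4` points -/
theorem oddStab_res (G : Subgroup (Perm α)) {j : ℕ}
    (hodd : ∀ T : Finset α, T.card = j + 4 → Odd (Nat.card (fixG G T)))
    (Γ : Finset α) (hΓ : Γ.card = j) : OddStab (resGroup (fixG G Γ) Γᶜ) := by
  intro Δ' hΔ'
  by_contra hne
  rw [Nat.not_odd_iff_even] at hne
  obtain ⟨t, ht, htt, ht1⟩ := exists_invol_of_even _ hne
  rw [mem_fixG] at ht
  obtain ⟨m, hm, hmt⟩ := mem_resGroup.mp ht.1
  have hmH := mem_fixG_union (Δ' := Δ') hm hmt ht.2
  have hT : (Γ ∪ Δ'.map (Function.Embedding.subtype _)).card = j + 4 := by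
    rw [card_union_map, hΓ, hΔ']
  have hmm : m * m = 1 := by
    apply eq_one_of_res_one ((fixG G Γ).mul_mem hm hm)
    intro z
    rw [Perm.mul_apply, hmt z, hmt (t z), ← Perm.mul_apply, htt, Perm.one_apply]
  have hm1 : m ≠ 1 := by
    intro h1
    apply ht1
    ext z
    rw [← hmt z, h1]
    rfl
  have h2 : orderOf m = 2 := orderOf_eq_prime (by rw [pow_two]; exact hmm) hm1
  have hdvd := Subgroup.orderOf_dvd_natCard _ hmH
  rw [h2] at hdvd
  have := hodd _ hT
  rw [Nat.odd_iff] at this
  omega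

/-- a nontrivial element of small support in the induced group gives the alternating group -/
theorem alt_le_of_res (G : Subgroup (Perm α)) {k : ℕ} (hk : 3 ≤ k) (hkn : k < Fintype.card α)
    (hG : IsMultiplyPretransitive G α k) (Γ : Finset α) {σ : Perm {x // x ∈ Γᶜ}}
    (hσ : σ ∈ resGroup (fixG G Γ) Γᶜ) (hσ1 : σ ≠ 1) (hsupp : σ.support.card ≤ 3) :
    alternatingGroup α ≤ G := by
  obtain ⟨m, hm, hmσ⟩ := mem_resGroup.mp hσ
  have hm1 : m ≠ 1 := by
    intro h1
    apply hσ1
    ext z
    rw [← hmσ z, h1]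
    rfl
  have hsub : m.support ⊆ σ.support.map (Function.Embedding.subtype _) := by
    intro x hx
    rw [Perm.mem_support] at hx
    have hxΓ : x ∉ Γ := fun h => hx ((mem_fixG.mp hm).2 x h)
    rw [Finset.mem_map]
    refine ⟨⟨x, Finset.mem_compl.mpr hxΓ⟩, ?_, rfl⟩
    rw [Perm.mem_support]
    intro h
    apply hx
    have := hmσ ⟨x, Finset.mem_compl.mpr hxΓ⟩
    rw [h] at this
    exact this
  have hcard : m.support.card ≤ 3 := by
    calc m.support.card ≤ (σ.support.map (Function.Embedding.subtype _)).card :=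
          Finset.card_le_card hsub
      _ = σ.support.card := Finset.card_map _
      _ ≤ 3 := hsupp
  exact alt_le_of_small_support G (isPreprimitive_of_multiply G hG (by omega) (by omega)) hG
    (by omega) (fixG_le G Γ hm) hm1 (by omega) (by omega)

/-- if the induced group contains the alternating group, so does `G` -/
theorem alt_le_of_alt_res (G : Subgroup (Perm α)) {k : ℕ} (hk : 3 ≤ k) (hkn : k < Fintype.card α)
    (hG : IsMultiplyPretransitive G α k) (Γ : Finset α)
    (h : alternatingGroup {x // x ∈ Γᶜ} ≤ resGroup (fixG G Γ) Γᶜ)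
    (h3 : 3 ≤ Fintype.card {x // x ∈ Γᶜ}) : alternatingGroup α ≤ G := by
  obtain ⟨a, b, c, hab, hac, hbc⟩ := Fintype.two_lt_card_iff.mp (by omega : 2 < Fintype.card {x // x ∈ Γᶜ})
  have h3c := Perm.isThreeCycle_swap_mul_swap_same hab hac hbc
  exact alt_le_of_res G hk hkn hG Γ (h h3c.mem_alternatingGroup) h3c.ne_one
    (le_of_eq h3c.card_support)

/-- trivial four-point stabilisers in the induced group give trivial `k`-point stabilisers -/
theorem card_fix_eq_one_of_res (G : Subgroup (Perm α)) (Γ : Finset α)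
    (Δ' : Finset {x // x ∈ Γᶜ}) (h : Nat.card (fixG (resGroup (fixG G Γ) Γᶜ) Δ') = 1) :
    Nat.card (fixG G (Γ ∪ Δ'.map (Function.Embedding.subtype _))) = 1 := by
  rw [Subgroup.card_eq_one] at h ⊢
  rw [Subgroup.eq_bot_iff_forall]
  intro m hm
  have hmΓ : m ∈ fixG G Γ := fixG_mono G Finset.subset_union_left hm
  apply eq_one_of_res_one hmΓ
  intro z
  have hσ : m.subtypePerm (fun y => fixG_pres_compl hmΓ y) ∈
      fixG (resGroup (fixG G Γ) Γᶜ) Δ' := by
    rw [mem_fixG]
    refine ⟨⟨m, hmΓ, fun _ => rfl⟩, fun y hy => ?_⟩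
    apply Subtype.ext
    rw [Perm.subtypePerm_apply]
    exact (mem_fixG.mp hm).2 _ (Finset.mem_union_right _ (Finset.mem_map_of_mem _ hy))
  rw [h, Subgroup.mem_bot] at hσ
  have := congrArg (fun τ : Perm {x // x ∈ Γᶜ} => ((τ z : {x // x ∈ Γᶜ}) : α)) hσ
  simpa using this

theorem card_image_emb' {k : ℕ} (x : Fin k ↪ α) : (Finset.univ.image x).card = k := by
  rw [Finset.card_image_of_injective _ x.injective, Finset.card_univ, Fintype.card_fin]

/-- the stabiliser of an injective `k`-tuple, as a subgroup of `G`, has the order of the pointwise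
stabiliser of its image -/
theorem card_stabilizer_eq' (G : Subgroup (Perm α)) {k : ℕ} (x : Fin k ↪ α) :
    Nat.card (stabilizer G x) = Nat.card (fixG G (Finset.univ.image x)) := by
  have h : (fixG G (Finset.univ.image x)).subgroupOf G = stabilizer G x := by
    ext ⟨g, hg⟩
    rw [Subgroup.mem_subgroupOf, mem_fixG, mem_stabilizer_iff]
    constructor
    · rintro ⟨_, h⟩
      ext i
      exact h (x i) (Finset.mem_image_of_mem _ (Finset.mem_univ _))
    · intro h
      refine ⟨hg, ?_⟩
      intro y hy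
      obtain ⟨i, _, rfl⟩ := Finset.mem_image.mp hy
      have := DFunLike.congr_fun h i
      simpa [Subgroup.smul_def, Perm.smul_def] using this
  rw [← h]
  exact Nat.card_congr (Subgroup.subgroupOfEquivOfLe (fixG_le G _)).toEquiv

/-- the order of a `k`-transitive group -/
theorem card_eq_descFactorial_mul (G : Subgroup (Perm α)) {k : ℕ}
    (hG : IsMultiplyPretransitive G α k) (x : Fin k ↪ α) :
    Nat.card G = (Fintype.card α).descFactorial k * Nat.card (fixG G (Finset.univ.image x)) := by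
  have h1 := (stabilizer G x).index_mul_card
  have h2 : ∀ s : Set (Fin k ↪ α), s = Set.univ →
      s.ncard = (Fintype.card α).descFactorial k := by
    intro s hs
    rw [hs, Set.ncard_univ, Nat.card_eq_fintype_card, Fintype.card_embedding_eq, Fintype.card_fin]
  have h3 : (stabilizer G x).index = (Fintype.card α).descFactorial k := by
    rw [index_stabilizer]
    exact h2 _ (@orbit_eq_univ _ _ _ _ hG x)
  rw [← h1, h3, card_stabilizer_eq']

theorem sharp_of' (G : Subgroup (Perm α)) {k : ℕ}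
    (h1 : ∀ Δ : Finset α, Δ.card = k → Nat.card (fixG G Δ) = 1) :
    ∀ x : Fin k ↪ α, stabilizer G x = ⊥ := by
  intro x
  apply Subgroup.eq_bot_of_card_eq
  rw [card_stabilizer_eq']
  exact h1 _ (card_image_emb' x)

end Cfsg.Agent.Lib.Helper38_KAlt
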