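import Mathlib
import Cfsg.Agent.S0713
import Cfsg.Agent.Lib.Helper38_PermTools
import Cfsg.Agent.Lib.Helper38_W1310A0
import Cfsg.Agent.Lib.Helper38_KAlt0
import Cfsg.Agent.Lib.Helper38_KAlt4

/-!
# A `k`-transitive group induces the alternating group on some `(k+1)`-set: counting orbits on
`(k+1)`-sets in a sharply `k`-transitive group (helper38)
-/

set_option autoImplicit false
set_option linter.unusedSectionVars false

namespace Cfsg.Agent.Lib.Helper38_KAlt

open Equiv MulAction
open scoped Pointwise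
open Cfsg.Agent.S0713 (apply_inv_self' inv_apply_self')
open Cfsg.Agent.Lib.Helper38_PermTools Cfsg.Agent.Lib.Helper38_W1310A0

variable {α : Type*} [Fintype α] [DecidableEq α]

/-- a subgroup of the symmetric group of degree `m ≥ 5` not containing the alternating group has
index at least `m` -/
theorem index_ge_of_not_alt_le {β : Type*} [Fintype β] [DecidableEq β] (K : Subgroup (Perm β)) (h5 : 5 ≤ Fintype.card β)
    (hK : ¬ alternatingGroup β ≤ K) : Fintype.card β ≤ K.index := by
  by_contra hlt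
  push Not at hlt
  have hsimple : IsSimpleGroup (alternatingGroup β) :=
    alternatingGroup.isSimpleGroup (by rw [Nat.card_eq_fintype_card]; exact h5)
  have hidx : K.index ≠ 0 := Subgroup.index_ne_zero_of_finite
  have : Finite (Perm β ⧸ K) := Subgroup.finite_quotient_of_finiteIndex
  let φ : Perm β →* Perm (Perm β ⧸ K) := MulAction.toPermHom (Perm β) (Perm β ⧸ K)
  let ψ : alternatingGroup β →* Perm (Perm β ⧸ K) := φ.comp (alternatingGroup β).subtype
  rcases ψ.normal_ker.eq_bot_or_eq_top with hbot | htop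
  · -- injective: impossible by cardinality
    have hinj : Function.Injective ψ := (MonoidHom.ker_eq_bot_iff ψ).mp hbot
    have h1 := Nat.card_le_card_of_injective ψ hinj
    have : Nontrivial β := by
      rw [← Fintype.one_lt_card_iff_nontrivial]; omega
    have h2 := two_mul_card_alternatingGroup (α := β)
    rw [Fintype.card_perm] at h2
    rw [Nat.card_eq_fintype_card] at h1
    have h3 : Nat.card (Perm (Perm β ⧸ K)) = (K.index).factorial := by
      rw [Nat.card_perm]
      rfl
    rw [h3] at h1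
    have h4 : (K.index).factorial ≤ (Fintype.card β - 1).factorial :=
      Nat.factorial_le (by omega)
    have h5' : (Fintype.card β).factorial = Fintype.card β * (Fintype.card β - 1).factorial := by
      rw [Nat.mul_factorial_pred (by omega)]
    have hpos := Nat.factorial_pos (Fintype.card β - 1)
    have h6 : 5 * (Fintype.card β - 1).factorial ≤ Fintype.card β * (Fintype.card β - 1).factorial :=
      Nat.mul_le_mul_right _ h5
    omega
  · apply hK
    intro g hg
    have : (⟨g, hg⟩ : alternatingGroup β) ∈ ψ.ker := by rw [htop]; trivial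
    rw [MonoidHom.mem_ker] at this
    have h1 : g ∈ φ.ker := by
      rw [MonoidHom.mem_ker]
      exact this
    have h2 : φ.ker = K.normalCore := (Subgroup.normalCore_eq_ker K).symm
    rw [h2] at h1
    exact Subgroup.normalCore_le K h1

/-- the setwise stabiliser of `Δ` in `G` -/
def setStab (G : Subgroup (Perm α)) (Δ : Finset α) : Subgroup (Perm α) where
  carrier := {g | g ∈ G ∧ ∀ x, g x ∈ Δ ↔ x ∈ Δ}
  mul_mem' := by
    rintro a b ⟨ha, ha'⟩ ⟨hb, hb'⟩
    exact ⟨G.mul_mem ha hb, fun x => by rw [Perm.mul_apply, ha', hb']⟩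
  one_mem' := ⟨G.one_mem, fun _ => Iff.rfl⟩
  inv_mem' := by
    rintro a ⟨ha, ha'⟩
    refine ⟨G.inv_mem ha, fun x => ?_⟩
    rw [← ha' (a⁻¹ x), apply_inv_self']

theorem mem_setStab {G : Subgroup (Perm α)} {Δ : Finset α} {g : Perm α} :
    g ∈ setStab G Δ ↔ g ∈ G ∧ ∀ x, g x ∈ Δ ↔ x ∈ Δ := Iff.rfl

/-- if the setwise stabiliser induces the alternating group on `Δ` then `Δ` is good -/
theorem good_of_alt_le_res (G : Subgroup (Perm α)) (Δ : Finset α)
    (h : alternatingGroup {x // x ∈ Δ} ≤ resGroup (setStab G Δ) Δ) : Good G Δ := by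
  intro τ h1 h2
  have hpres : ∀ x, τ x ∈ Δ ↔ x ∈ Δ := supp_pres h1
  have hmoved : ∀ x, τ x ≠ x → x ∈ Δ := by
    intro x hx
    by_contra hxΔ
    exact hx (h1 x hxΔ)
  have hmem : τ.subtypePerm hpres ∈ alternatingGroup {x // x ∈ Δ} := by
    rw [Perm.mem_alternatingGroup]
    have := Perm.sign_subtypePerm τ hpres hmoved
    rw [h2] at this
    convert this
  obtain ⟨m, hm, hmτ⟩ := mem_resGroup.mp (h hmem)
  refine ⟨m, hm.1, fun x hx => ?_⟩
  have := hmτ ⟨x, hx⟩
  rw [Perm.subtypePerm_apply] at this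
  exact this

theorem pres_of_mem_stabilizer {G : Subgroup (Perm α)} {Δ : Finset α} {s : G}
    (hs : s ∈ stabilizer G Δ) (x : α) : (s : Perm α) x ∈ Δ ↔ x ∈ Δ := by
  rw [mem_stabilizer_iff] at hs
  have h := Finset.smul_mem_smul_finset_iff (a := s) (b := x) (s := Δ)
  rw [hs] at h
  exact h

/-- the order of the setwise stabiliser of a bad `(k+1)`-set in a sharply `k`-transitive group -/
theorem card_stabilizer_le (G : Subgroup (Perm α)) {k : ℕ} (hk : 4 ≤ k)
    (hsharp : ∀ T : Finset α, T.card = k → Nat.card (fixG G T) = 1)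
    (Δ : Finset α) (hΔ : Δ.card = k + 1) (hng : ¬ Good G Δ) :
    Nat.card (stabilizer G Δ) ≤ k.factorial := by
  set K := resGroup (setStab G Δ) Δ with hKdef
  have hK : ¬ alternatingGroup {x // x ∈ Δ} ≤ K := fun h => hng (good_of_alt_le_res G Δ h)
  have hcardΔ : Fintype.card {x // x ∈ Δ} = k + 1 := by rw [Fintype.card_coe, hΔ]
  have hidx := index_ge_of_not_alt_le K (by omega) hK
  have hmul := K.card_mul_index
  rw [Nat.card_perm, Nat.card_eq_fintype_card (α := {x // x ∈ Δ}), hcardΔ] at hmul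
  rw [hcardΔ] at hidx
  have hKle : Nat.card K ≤ k.factorial := by
    rw [Nat.factorial_succ] at hmul
    have h1 : Nat.card K * (k + 1) ≤ (k + 1) * k.factorial := by
      rw [← hmul]; exact Nat.mul_le_mul_left _ hidx
    rw [mul_comm] at h1
    exact Nat.le_of_mul_le_mul_left h1 (by omega)
  refine le_trans ?_ hKle
  obtain ⟨T, hTΔ, hT⟩ := Finset.exists_subset_card_eq (s := Δ) (n := k) (by omega)
  have hbot : fixG G T = ⊥ := Subgroup.card_eq_one.mp (hsharp T hT)
  apply Nat.card_le_card_of_injective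
    (fun s : stabilizer G Δ => (⟨((s : G) : Perm α).subtypePerm (pres_of_mem_stabilizer s.2),
      ⟨((s : G) : Perm α), ⟨(s : G).2, pres_of_mem_stabilizer s.2⟩, fun z => rfl⟩⟩ : K))
  intro s₁ s₂ h12
  have h12' := congrArg Subtype.val h12
  simp only at h12'
  have hag : ∀ x ∈ Δ, ((s₁ : G) : Perm α) x = ((s₂ : G) : Perm α) x := by
    intro x hx
    have := congrArg (fun τ : Perm {x // x ∈ Δ} => ((τ ⟨x, hx⟩ : {x // x ∈ Δ}) : α)) h12'
    simpa using this
  have hmem : ((s₁ : G) : Perm α)⁻¹ * ((s₂ : G) : Perm α) ∈ fixG G T := by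
    rw [mem_fixG]
    refine ⟨G.mul_mem (G.inv_mem (s₁ : G).2) (s₂ : G).2, fun x hx => ?_⟩
    rw [Perm.mul_apply, ← hag x (hTΔ hx), inv_apply_self']
  rw [hbot, Subgroup.mem_bot, inv_mul_eq_one] at hmem
  exact Subtype.ext (Subtype.ext hmem)

theorem orbit_mul_stab (G : Subgroup (Perm α)) (Δ : Finset α) :
    (orbit G Δ).ncard * Nat.card (stabilizer G Δ) = Nat.card G := by
  have h1 := (stabilizer G Δ).index_mul_card
  rw [index_stabilizer] at h1
  exact h1

theorem orbit_subset (G : Subgroup (Perm α)) (Δ : Finset α) {m : ℕ} (hΔ : Δ.card = m) :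
    orbit G Δ ⊆ ↑(Finset.powersetCard m (Finset.univ : Finset α)) := by
  rintro _ ⟨g, rfl⟩
  rw [Finset.mem_coe, Finset.mem_powersetCard]
  refine ⟨Finset.subset_univ _, ?_⟩
  change (g • Δ).card = m
  rw [Finset.card_smul_finset]
  exact hΔ

theorem exists_good_of_counting (G : Subgroup (Perm α)) {k : ℕ} (hk : 4 ≤ k)
    (hkn : k + 1 ≤ Fintype.card α)
    (hsharp : ∀ T : Finset α, T.card = k → Nat.card (fixG G T) = 1)
    (h1 : (Fintype.card α).choose (k + 1) * k.factorial < 2 * Nat.card G)
    (h2 : ¬ (Fintype.card α).choose (k + 1) ∣ Nat.card G) :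
    ∃ Δ : Finset α, Δ.card = k + 1 ∧ Good G Δ := by
  by_contra hcon
  push Not at hcon
  obtain ⟨Δ, -, hΔ⟩ := Finset.exists_subset_card_eq (s := (Finset.univ : Finset α)) (n := k + 1)
    (by simpa using hkn)
  have hP : (Finset.powersetCard (k + 1) (Finset.univ : Finset α)).card =
      (Fintype.card α).choose (k + 1) := by
    rw [Finset.card_powersetCard, Finset.card_univ]
  have hbound : ∀ Δ' : Finset α, Δ'.card = k + 1 →
      Nat.card G ≤ (orbit G Δ').ncard * k.factorial := by
    intro Δ' hΔ'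
    have e1 := orbit_mul_stab G Δ'
    have e2 := card_stabilizer_le G hk hsharp Δ' hΔ' (hcon Δ' hΔ')
    rw [← e1]
    exact Nat.mul_le_mul_left _ e2
  have hall : ∀ Δ' : Finset α, Δ'.card = k + 1 → Δ' ∈ orbit G Δ := by
    intro Δ' hΔ'
    rcases orbit.eq_or_disjoint (G := G) Δ Δ' with h | h
    · rw [h]
      exact mem_orbit_self Δ'
    · exfalso
      have hsub : orbit G Δ ∪ orbit G Δ' ⊆
          ↑(Finset.powersetCard (k + 1) (Finset.univ : Finset α)) :=
        Set.union_subset (orbit_subset G Δ hΔ) (orbit_subset G Δ' hΔ')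
      have hle := Set.ncard_le_ncard hsub (Finset.finite_toSet _)
      rw [Set.ncard_union_eq h (Set.toFinite _) (Set.toFinite _), Set.ncard_coe_finset, hP] at hle
      have b1 := hbound Δ hΔ
      have b2 := hbound Δ' hΔ'
      have b3 : ((orbit G Δ).ncard + (orbit G Δ').ncard) * k.factorial ≤
          (Fintype.card α).choose (k + 1) * k.factorial := Nat.mul_le_mul_right _ hle
      rw [add_mul] at b3
      omega
  have heq : orbit G Δ = ↑(Finset.powersetCard (k + 1) (Finset.univ : Finset α)) :=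
    Set.Subset.antisymm (orbit_subset G Δ hΔ)
      (fun Δ' h => hall Δ' (Finset.mem_powersetCard.mp h).2)
  have e1 := orbit_mul_stab G Δ
  rw [heq, Set.ncard_coe_finset, hP] at e1
  exact h2 ⟨_, e1.symm⟩

end Cfsg.Agent.Lib.Helper38_KAlt
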