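import Mathlib
import Cfsg.Agent.S0713
import Cfsg.Agent.S0417
import Cfsg.Agent.Lib.Helper59_SharpTrans
import Cfsg.Agent.Lib.Helper38_PermTools
import Cfsg.Agent.Lib.Helper38_W1310A0
import Cfsg.Agent.Lib.Helper38_Hall0
import Cfsg.Agent.Lib.Helper38_Hall1
import Cfsg.Agent.Lib.Helper38_Hall2
import Cfsg.Agent.Lib.Helper38_Hall8
import Cfsg.Agent.Lib.Helper38_KAlt0
import Cfsg.Agent.Lib.Helper38_KAlt1
import Cfsg.Agent.Lib.Helper38_KAlt2
import Cfsg.Agent.Lib.Helper38_KAlt3
import Cfsg.Agent.Lib.Helper38_KAlt4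
import Cfsg.Agent.Lib.Helper38_KAlt5

/-!
# A `k`-transitive group (`k ≥ 4`) induces the alternating group on some `(k+1)`-set: assembly
(helper38)
-/

set_option autoImplicit false
set_option linter.unusedSectionVars false

namespace Cfsg.Agent.Lib.Helper38_KAlt

open Equiv MulAction
open Cfsg.Agent.S0713 (apply_inv_self' inv_apply_self')
open Cfsg.Agent.Lib.Helper38_PermTools Cfsg.Agent.Lib.Helper38_W1310A0
open Cfsg.Agent.Lib.Helper38_Hall0 Cfsg.Agent.Lib.Helper38_Hall1 Cfsg.Agent.Lib.Helper38_Hall2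

universe u

variable {α : Type*} [Fintype α] [DecidableEq α]

theorem exists_card_eq (m : ℕ) (hm : m ≤ Fintype.card α) : ∃ Δ : Finset α, Δ.card = m := by
  obtain ⟨Δ, -, hΔ⟩ := Finset.exists_subset_card_eq (s := (Finset.univ : Finset α)) (n := m)
    (by simpa using hm)
  exact ⟨Δ, hΔ⟩

/-- the case of odd `k`-point stabilisers, via M. Hall's theorem -/
theorem caseA (G : Subgroup (Perm α)) {j : ℕ} (hkn : j + 4 < Fintype.card α)
    (hG : IsMultiplyPretransitive G α (j + 4))
    (hodd : ∀ T : Finset α, T.card = j + 4 → Odd (Nat.card (fixG G T))) :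
    ∃ Δ : Finset α, Δ.card = j + 4 + 1 ∧ Good G Δ := by
  obtain ⟨Γ, hΓ⟩ := exists_card_eq (α := α) j (by omega)
  have hG' := res_fix_pretransitive G hG Γ hΓ
  have hO := oddStab_res G hodd Γ hΓ
  have hcβ : Fintype.card {x // x ∈ Γᶜ} = Fintype.card α - j := by
    rw [Fintype.card_coe, Finset.card_compl, hΓ]
  obtain ⟨x⟩ : Nonempty (Fin 4 ↪ {x // x ∈ Γᶜ}) := by
    apply Function.Embedding.nonempty_of_card_le
    rw [Fintype.card_fin, hcβ]; omega
  have hall := hall_main (resGroup (fixG G Γ) Γᶜ) hG' x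
    (by rw [card_stabilizer_eq]; exact hO _ (card_image_emb x))
  obtain ⟨Δ, hΔ⟩ := exists_card_eq (α := α) (j + 4 + 1) (by omega)
  have halt : alternatingGroup {x // x ∈ Γᶜ} ≤ resGroup (fixG G Γ) Γᶜ →
      ∃ Δ : Finset α, Δ.card = j + 4 + 1 ∧ Good G Δ := by
    intro h
    exact ⟨Δ, hΔ, good_of_alt_le
      (alt_le_of_alt_res G (by omega) hkn hG Γ h (by rw [hcβ]; omega)) Δ⟩
  rcases hall with ⟨-, htop⟩ | ⟨-, halt'⟩ | ⟨h11, h7920⟩
  · exact halt (by rw [htop]; exact le_top)
  · exact halt (by rw [halt'])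
  · -- the sharply `k`-transitive case
    have hn : Fintype.card α = j + 11 := by omega
    have hx1 : Nat.card (fixG (resGroup (fixG G Γ) Γᶜ) (Finset.univ.image x)) = 1 := by
      have := card_eq_descFactorial_mul (resGroup (fixG G Γ) Γᶜ) hG' x
      rw [h7920, h11] at this
      have e : Nat.descFactorial 11 4 = 7920 := by decide
      rw [e] at this
      omega
    have hT1 := card_fix_eq_one_of_res G Γ _ hx1
    have hTc : (Γ ∪ (Finset.univ.image x).map (Function.Embedding.subtype _)).card = j + 4 := by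
      rw [card_union_map, hΓ, card_image_emb]
    have hsharp : ∀ T : Finset α, T.card = j + 4 → Nat.card (fixG G T) = 1 := by
      intro T hT
      rw [card_fixG_eq G hG (by omega) T
        (Γ ∪ (Finset.univ.image x).map (Function.Embedding.subtype _)) (by rw [hT, hTc])
        (by rw [hT])]
      exact hT1
    have hst := sharp_of' G hsharp
    have := hG
    have hcard := Cfsg.Agent.Lib.Helper59_SharpTrans.card_of_sharp (Γ := G) (α := α)
      (k := j + 4) (by omega) hst
    rcases Nat.lt_or_ge j 2 with hj | hj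
    · apply exists_good_of_counting G (by omega) (by omega) hsharp
      · rw [hcard, hn]
        interval_cases j
        · decide
        · decide
      · rw [hcard, hn]
        interval_cases j
        · decide
        · decide
    · exfalso
      have := Cfsg.Agent.S0417.result G (j + 4) (by omega) (by omega) hst
      omega

omit [Fintype α] in
theorem fixF_subset_fixS_zpowers [Fintype α] (u : Perm α) : fixF u ⊆ fixS (Subgroup.zpowers u) := by
  intro x hx
  rw [mem_fixS]
  intro q hq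
  exact zpowers_fix hq (mem_fixF.mp hx)

/-- a `2`-subgroup of `G` of maximal order among those fixing at least `k+1` points -/
theorem exists_max_two_subgroup (G : Subgroup (Perm α)) {k : ℕ} {u : Perm α} (hu : u ∈ G)
    (huu : u * u = 1) (hu1 : u ≠ 1) (hfix : k + 1 ≤ (fixF u).card) :
    ∃ Q : Subgroup (Perm α), Q ≤ G ∧ IsPGroup 2 Q ∧ k + 1 ≤ (fixS Q).card ∧ Q ≠ ⊥ ∧
      ∀ Q' : Subgroup (Perm α), Q' ≤ G → IsPGroup 2 Q' → k + 1 ≤ (fixS Q').card →
        Nat.card Q' ≤ Nat.card Q := by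
  have h2 : orderOf u = 2 := orderOf_eq_prime (by rw [pow_two]; exact huu) hu1
  have hcz : Nat.card (Subgroup.zpowers u) = 2 := by rw [Nat.card_zpowers, h2]
  have hmem : Subgroup.zpowers u ∈ {Q : Subgroup (Perm α) | Q ≤ G ∧ IsPGroup 2 Q ∧
      k + 1 ≤ (fixS Q).card} := by
    refine ⟨(Subgroup.zpowers_le).mpr hu, ?_, ?_⟩
    · exact IsPGroup.of_card (n := 1) (by rw [hcz, pow_one])
    · exact le_trans hfix (Finset.card_le_card (fixF_subset_fixS_zpowers u))
  obtain ⟨Q, hQ, hmax⟩ := Set.exists_max_image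
    {Q : Subgroup (Perm α) | Q ≤ G ∧ IsPGroup 2 Q ∧ k + 1 ≤ (fixS Q).card}
    (fun Q => Nat.card Q) (Set.toFinite _) ⟨_, hmem⟩
  refine ⟨Q, hQ.1, hQ.2.1, hQ.2.2, ?_, fun Q' h1 h2 h3 => hmax Q' ⟨h1, h2, h3⟩⟩
  intro hbot
  have := hmax _ hmem
  simp only [hcz, hbot, Subgroup.card_bot] at this
  omega

/-- the case where some involution fixes at least `k+1` points: reduction to a smaller degree -/
theorem caseB (G : Subgroup (Perm α)) {k : ℕ} (hk : 1 ≤ k) (hkn : k < Fintype.card α)
    (hG : IsMultiplyPretransitive G α k) {u : Perm α} (hu : u ∈ G)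
    (huu : u * u = 1) (hu1 : u ≠ 1) (hfix : k + 1 ≤ (fixF u).card)
    (ih : ∀ (F : Finset α), F.card < Fintype.card α → k < F.card →
      ∀ X : Subgroup (Perm {x // x ∈ F}), IsMultiplyPretransitive X {x // x ∈ F} k →
        ∃ Δ' : Finset {x // x ∈ F}, Δ'.card = k + 1 ∧ Good X Δ') :
    ∃ Δ : Finset α, Δ.card = k + 1 ∧ Good G Δ := by
  obtain ⟨Q, hQG, hQ2, hF, hQne, hmax⟩ := exists_max_two_subgroup G hu huu hu1 hfix
  have hlt : (fixS Q).card < Fintype.card α := by
    obtain ⟨⟨q, hq⟩, hq1⟩ := (Subgroup.ne_bot_iff_exists_ne_one).mp hQne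
    have hq1' : q ≠ 1 := fun h => hq1 (Subtype.ext h)
    obtain ⟨x, hx⟩ : ∃ x, q x ≠ x := by
      by_contra h
      push Not at h
      exact hq1' (Perm.ext h)
    have hxF : x ∉ fixS Q := fun h => hx (mem_fixS.mp h q hq)
    rw [← Finset.card_univ]
    apply Finset.card_lt_card
    rw [Finset.ssubset_iff_of_subset (Finset.subset_univ _)]
    exact ⟨x, Finset.mem_univ _, hxF⟩
  have hpres : ∀ m ∈ G ⊓ Subgroup.normalizer (Q : Set (Perm α)), ∀ z,
      m z ∈ fixS Q ↔ z ∈ fixS Q := fun m hm => normalizer_pres_fixS hm.2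
  have hX := resGroup_pretransitive (G ⊓ Subgroup.normalizer (Q : Set (Perm α))) (fixS Q) k hpres
    (fun a b ha hb => normalizer_trans G hk hG (le_of_lt hkn) Q hQG hQ2 hF hmax a b
      a.injective b.injective ha hb)
  obtain ⟨Δ', hΔ', hgood⟩ := ih (fixS Q) hlt (by omega) _ hX
  refine ⟨Δ'.map (Function.Embedding.subtype _), ?_, ?_⟩
  · rw [Finset.card_map, hΔ']
  · exact Good.mono inf_le_left (Good.of_resGroup hgood)

/-- **Main theorem**: a `k`-transitive group of degree `> k ≥ 4` induces at least the alternating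
group on some `(k+1)`-set. -/
theorem main (k : ℕ) (hk : 4 ≤ k) : ∀ (n : ℕ) (α : Type u) [Fintype α] [DecidableEq α]
    (G : Subgroup (Perm α)), Fintype.card α = n → k < Fintype.card α →
    IsMultiplyPretransitive G α k → ∃ Δ : Finset α, Δ.card = k + 1 ∧ Good G Δ := by
  intro n
  induction n using Nat.strong_induction_on with
  | _ n ih =>
    intro α _ _ G hn hkn hG
    obtain ⟨T₀, hT₀⟩ := exists_card_eq (α := α) k (by omega)
    have hsame : ∀ T : Finset α, T.card = k →
        Nat.card (fixG G T) = Nat.card (fixG G T₀) := by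
      intro T hT
      exact card_fixG_eq G hG (by omega) T T₀ (by rw [hT, hT₀]) (by rw [hT])
    rcases Nat.even_or_odd (Nat.card (fixG G T₀)) with heven | hodd
    · by_cases hex : ∃ u ∈ G, u * u = 1 ∧ u ≠ 1 ∧ k + 1 ≤ (fixF u).card
      · obtain ⟨u, hu, huu, hu1, hfix⟩ := hex
        apply caseB G (by omega) hkn hG hu huu hu1 hfix
        intro F hFlt hkF X hX
        exact ih F.card (by rw [← hn]; exact hFlt) {x // x ∈ F} X (Fintype.card_coe F)
          (by rw [Fintype.card_coe]; exact hkF) hX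
      · push Not at hex
        obtain ⟨Δ, hΔ⟩ := exists_card_eq (α := α) (k + 1) (by omega)
        refine ⟨Δ, hΔ, good_of_no_invol G (by omega) (fun u hu huu hu1 => ?_)
          (fun T hT => by rw [hsame T hT]; exact heven) Δ hΔ⟩
        have := hex u hu huu hu1
        omega
    · obtain ⟨j, rfl⟩ : ∃ j, k = j + 4 := ⟨k - 4, by omega⟩
      exact caseA G hkn hG (fun T hT => by rw [hsame T hT]; exact hodd)

end Cfsg.Agent.Lib.Helper38_KAlt
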