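import Mathlib

set_option autoImplicit false

/-!
# The subgroup generated by the derangements of a transitive permutation group

Shared helper library (helper59) for S3546 to S3549.
-/

namespace Cfsg.Agent.Lib.Helper59_Derangements

open MulAction

section General

variable {G : Type*} [Group G]

/-- The closure of a conjugation invariant set is normal. -/
theorem closure_normal_of_conj_invariant (S : Set G)
    (hS : ∀ g ∈ S, ∀ h : G, h * g * h⁻¹ ∈ S) : (Subgroup.closure S).Normal := by
  refine ⟨fun n hn g => ?_⟩
  induction hn using Subgroup.closure_induction with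
  | mem x hx => exact Subgroup.subset_closure (hS x hx g)
  | one => simp
  | mul x y _ _ hx hy =>
    have : g * (x * y) * g⁻¹ = (g * x * g⁻¹) * (g * y * g⁻¹) := by group
    rw [this]; exact mul_mem hx hy
  | inv x _ hx =>
    have : g * x⁻¹ * g⁻¹ = (g * x * g⁻¹)⁻¹ := by group
    rw [this]; exact inv_mem hx

end General

section Action

variable (G Ω : Type*) [Group G] [MulAction G Ω]

/-- The subgroup generated by the derangements. -/
abbrev derSubgroup : Subgroup G := Subgroup.closure {g : G | ∀ ω : Ω, g • ω ≠ ω}

theorem derSubgroup_normal : (derSubgroup G Ω).Normal := by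
  apply closure_normal_of_conj_invariant
  intro g hg h ω hω
  apply hg (h⁻¹ • ω)
  calc g • (h⁻¹ • ω) = h⁻¹ • ((h * g * h⁻¹) • ω) := by simp [smul_smul, mul_assoc]
    _ = h⁻¹ • ω := by rw [hω]

variable {G Ω}

/-- An element outside the derangement subgroup has a fixed point. -/
theorem exists_fixed_of_not_mem {g : G} (hg : g ∉ derSubgroup G Ω) : ∃ ω : Ω, g • ω = ω := by
  by_contra h
  push Not at h
  exact hg (Subgroup.subset_closure h)

/-- Burnside's lemma in `Nat.card` form. -/
theorem burnside [Fintype G] [Finite Ω] :
    ∑ g : G, Nat.card (fixedBy Ω g) = Nat.card (orbitRel.Quotient G Ω) * Nat.card G := by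
  classical
  have : Fintype Ω := Fintype.ofFinite Ω
  have : Fintype (orbitRel.Quotient G Ω) := Fintype.ofFinite _
  have := MulAction.sum_card_fixedBy_eq_card_orbits_mul_card_group G Ω
  simp only [Nat.card_eq_fintype_card]
  convert this

/-- Burnside's lemma for a subgroup, summing over elements of the ambient group. -/
theorem burnside_subgroup [Fintype G] [Finite Ω] (K : Subgroup G) [DecidablePred (· ∈ K)] :
    ∑ g ∈ Finset.univ.filter (· ∈ K), Nat.card (fixedBy Ω g) =
      Nat.card (orbitRel.Quotient K Ω) * Nat.card K := by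
  classical
  rw [Finset.sum_subtype (Finset.univ.filter (· ∈ K)) (p := (· ∈ K)) (by simp)
    (fun g => Nat.card (fixedBy Ω g))]
  exact burnside (G := K) (Ω := Ω)

/-- Number of orbits of a transitive action on a nonempty set. -/
theorem card_orbits_eq_one [IsPretransitive G Ω] [Nonempty Ω] :
    Nat.card (orbitRel.Quotient G Ω) = 1 := by
  obtain ⟨u⟩ := (pretransitive_iff_unique_quotient_of_nonempty G Ω).1 inferInstance
  exact Nat.card_unique

/-- Main counting theorem: the derangement subgroup of a finite transitive group is transitive and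
every element outside has exactly one fixed point. -/
theorem main_count [Finite G] [Finite Ω] [IsPretransitive G Ω] :
    IsPretransitive (derSubgroup G Ω) Ω ∧
      ∀ g : G, g ∉ derSubgroup G Ω → Nat.card (fixedBy Ω g) = 1 := by
  classical
  rcases isEmpty_or_nonempty Ω with hΩ | hΩ
  · refine ⟨⟨fun x => (hΩ.false x).elim⟩, fun g hg => ?_⟩
    exact (hg (Subgroup.subset_closure (fun ω => (hΩ.false ω).elim))).elim
  have : Fintype G := Fintype.ofFinite G
  set D := derSubgroup G Ω with hD
  have hG : ∑ g : G, Nat.card (fixedBy Ω g) = Nat.card G := by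
    rw [burnside, card_orbits_eq_one, one_mul]
  have hDsum := burnside_subgroup (Ω := Ω) D
  have hsplit := Finset.sum_filter_add_sum_filter_not (Finset.univ : Finset G) (· ∈ D)
    (fun g => Nat.card (fixedBy Ω g))
  have hcardsplit := Finset.card_filter_add_card_filter_not (s := (Finset.univ : Finset G))
    (· ∈ D)
  have hcD : (Finset.univ.filter (· ∈ D)).card = Nat.card D := by
    rw [Nat.card_eq_fintype_card, Fintype.card_subtype]
  have hge : ∀ g ∈ Finset.univ.filter (fun g : G => ¬ g ∈ D), 1 ≤ Nat.card (fixedBy Ω g) := by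
    intro g hg
    obtain ⟨ω, hω⟩ := exists_fixed_of_not_mem (Finset.mem_filter.1 hg).2
    have : Nonempty (fixedBy Ω g) := ⟨⟨ω, hω⟩⟩
    exact Nat.card_pos
  have hle : (Finset.univ.filter (fun g : G => ¬ g ∈ D)).card ≤
      ∑ g ∈ Finset.univ.filter (fun g : G => ¬ g ∈ D), Nat.card (fixedBy Ω g) := by
    have := Finset.sum_le_sum hge
    simpa using this
  have hdpos : 1 ≤ Nat.card (orbitRel.Quotient D Ω) := by
    have : Nonempty (orbitRel.Quotient D Ω) := ⟨Quotient.mk'' hΩ.some⟩
    exact Nat.card_pos
  have hDpos : 0 < Nat.card D := Nat.card_pos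
  have hcG : (Finset.univ : Finset G).card = Nat.card G := by
    rw [Finset.card_univ, Nat.card_eq_fintype_card]
  rw [hDsum, hG] at hsplit
  rw [hcD, hcG] at hcardsplit
  generalize hdd : Nat.card (orbitRel.Quotient D Ω) = d at *
  generalize hm : Nat.card D = m at *
  generalize hN : Nat.card G = N at *
  generalize hs : ∑ g ∈ Finset.univ.filter (fun g : G => ¬ g ∈ D), Nat.card (fixedBy Ω g) = s at *
  generalize hc : (Finset.univ.filter (fun g : G => ¬ g ∈ D)).card = c at *
  -- d * m + s = N, m + c = N, c ≤ s
  have hkey : d * m ≤ m := by omega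
  have hd1 : d = 1 := by
    have : d ≤ 1 := by
      by_contra h
      push Not at h
      have : 2 * m ≤ d * m := Nat.mul_le_mul_right _ h
      omega
    omega
  subst hd1
  refine ⟨?_, ?_⟩
  · rw [pretransitive_iff_subsingleton_quotient]
    have : Finite (orbitRel.Quotient D Ω) := inferInstance
    exact (Nat.card_eq_one_iff_unique.1 hdd).1
  -- equality case
  have heq : ∑ g ∈ Finset.univ.filter (fun g : G => ¬ g ∈ D), 1 =
      ∑ g ∈ Finset.univ.filter (fun g : G => ¬ g ∈ D), Nat.card (fixedBy Ω g) := by
    simp only [Finset.sum_const, smul_eq_mul, mul_one]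
    omega
  have := (Finset.sum_eq_sum_iff_of_le hge).1 heq
  intro g hg
  exact (this g (Finset.mem_filter.2 ⟨Finset.mem_univ _, hg⟩)).symm

end Action

end Cfsg.Agent.Lib.Helper59_Derangements
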