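import Mathlib
import Cfsg.Agent.Lib.Helper59_Derangements

set_option autoImplicit false

/-!
# The index of the derangement subgroup

Shared helper library (helper59) for S3548 and S3549.
-/

namespace Cfsg.Agent.Lib.Helper59_Derangements2

open MulAction Cfsg.Agent.Lib.Helper59_Derangements

section General

variable {H X : Type*} [Group H] [MulAction H X]

/-- If `k` divides the length of every orbit meeting an invariant finite set `S`, then `k`
divides the size of `S`. -/
theorem dvd_card_of_invariant [Finite X] (S : Finset X) (hS : ∀ h : H, ∀ x ∈ S, h • x ∈ S)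
    (k : ℕ) (hk : ∀ x ∈ S, k ∣ (orbit H x).ncard) : k ∣ S.card := by
  classical
  have : Fintype X := Fintype.ofFinite X
  have : Fintype (orbitRel.Quotient H X) := Fintype.ofFinite _
  rw [Finset.card_eq_sum_card_fiberwise (f := fun x => (Quotient.mk'' x : orbitRel.Quotient H X))
    (t := Finset.univ) (fun x _ => Finset.mem_univ _)]
  apply Finset.dvd_sum
  intro q _
  by_cases hq : ∃ x ∈ S, (Quotient.mk'' x : orbitRel.Quotient H X) = q
  · obtain ⟨x, hxS, hxq⟩ := hq
    have : (S.filter (fun a => (Quotient.mk'' a : orbitRel.Quotient H X) = q)) =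
        (orbit H x).toFinset := by
      ext y
      simp only [Finset.mem_filter, Set.mem_toFinset]
      constructor
      · rintro ⟨_, hy⟩
        rw [← hxq] at hy
        exact Quotient.eq''.1 hy
      · intro hy
        obtain ⟨h, rfl⟩ := hy
        refine ⟨hS h x hxS, ?_⟩
        rw [← hxq]
        exact Quotient.eq''.2 ⟨h, rfl⟩
    rw [this, ← Set.ncard_eq_toFinset_card']
    exact hk x hxS
  · have : (S.filter (fun a => (Quotient.mk'' a : orbitRel.Quotient H X) = q)) = ∅ := by
      ext y
      simp only [Finset.mem_filter, Finset.notMem_empty, iff_false, not_and]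
      intro hy hyq
      exact hq ⟨y, hy, hyq⟩
    rw [this]
    simp

end General

section Main

variable {G Ω : Type*} [Group G] [MulAction G Ω] [Finite G] [Finite Ω] [IsPretransitive G Ω]

/-- An element fixing two distinct points lies in the derangement subgroup. -/
theorem mem_of_two_fixed {g : G} {a x : Ω} (hax : x ≠ a) (ha : g • a = a) (hx : g • x = x) :
    g ∈ derSubgroup G Ω := by
  by_contra hg
  have h1 := (main_count (G := G) (Ω := Ω)).2 g hg
  have : Subsingleton (fixedBy Ω g) := (Nat.card_eq_one_iff_unique.1 h1).1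
  have := Subsingleton.elim (⟨a, ha⟩ : fixedBy Ω g) ⟨x, hx⟩
  exact hax (Subtype.ext_iff.1 this).symm

theorem stabilizer_sup_eq_top (a : Ω) : stabilizer G a ⊔ derSubgroup G Ω = ⊤ := by
  have htr := (main_count (G := G) (Ω := Ω)).1
  rw [eq_top_iff]
  intro g _
  obtain ⟨d, hd⟩ := htr.exists_smul_eq a (g • a)
  have hmem : (d : G)⁻¹ * g ∈ stabilizer G a := by
    rw [mem_stabilizer_iff, mul_smul, ← hd]
    change (d : G)⁻¹ • ((d : G) • a) = a
    rw [inv_smul_smul]
  have : g = ((d : G)⁻¹ * g) * (((d : G)⁻¹ * g)⁻¹ * (d : G) * ((d : G)⁻¹ * g)) := by group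
  rw [this]
  apply Subgroup.mul_mem_sup hmem
  have hn := derSubgroup_normal G Ω
  have := hn.conj_mem (d : G) d.2 (((d : G)⁻¹ * g)⁻¹)
  simpa using this

theorem card_subgroupOf_mul_index (a : Ω) :
    Nat.card ((derSubgroup G Ω).subgroupOf (stabilizer G a)) * (derSubgroup G Ω).index =
      Nat.card (stabilizer G a) := by
  have hn := derSubgroup_normal G Ω
  have h1 : (derSubgroup G Ω).relIndex (stabilizer G a) = (derSubgroup G Ω).index := by
    rw [← Subgroup.relIndex_sup_right, stabilizer_sup_eq_top, Subgroup.relIndex_top_right]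
  rw [← h1]
  exact Subgroup.card_mul_index _

/-- The index of the derangement subgroup divides the length of every nontrivial suborbit;
more precisely we get the cofactor. -/
theorem orbit_ncard_eq (a x : Ω) (hx : x ≠ a) :
    ∃ t : ℕ, (orbit (stabilizer G a) x).ncard = t * (derSubgroup G Ω).index ∧
      Nat.card ((derSubgroup G Ω).subgroupOf (stabilizer G a)) =
        t * Nat.card (stabilizer (stabilizer G a) x) := by
  have hle : stabilizer (stabilizer G a) x ≤ (derSubgroup G Ω).subgroupOf (stabilizer G a) := by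
    intro h hh
    rw [Subgroup.mem_subgroupOf]
    exact mem_of_two_fixed hx h.2 hh
  obtain ⟨t, ht⟩ := Subgroup.card_dvd_of_le hle
  refine ⟨t, ?_, by rw [ht, mul_comm]⟩
  have h1 := card_subgroupOf_mul_index (G := G) a
  have h2 := (stabilizer (stabilizer G a) x).index_mul_card
  rw [index_stabilizer] at h2
  have hpos : 0 < Nat.card (stabilizer (stabilizer G a) x) := Nat.card_pos
  rw [ht] at h1
  rw [← h1] at h2
  apply Nat.eq_of_mul_eq_mul_right hpos
  rw [h2]
  ring

theorem index_dvd_orbit (a x : Ω) (hx : x ≠ a) :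
    (derSubgroup G Ω).index ∣ (orbit (stabilizer G a) x).ncard := by
  obtain ⟨t, ht, _⟩ := orbit_ncard_eq (G := G) a x hx
  exact ⟨t, by rw [ht, mul_comm]⟩

/-- The index divides the size of every subset of `Ω \ {a}` invariant under the stabilizer
of `a`. -/
theorem index_dvd_card_of_invariant (a : Ω) (S : Finset Ω) (haS : a ∉ S)
    (hS : ∀ h : stabilizer G a, ∀ x ∈ S, h • x ∈ S) :
    (derSubgroup G Ω).index ∣ S.card := by
  apply dvd_card_of_invariant (H := stabilizer G a) S hS
  intro x hx
  apply index_dvd_orbit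
  rintro rfl
  exact haS hx

/-- The index of the derangement subgroup divides `n - 1`. -/
theorem index_dvd_card_sub_one [Nonempty Ω] :
    (derSubgroup G Ω).index ∣ Nat.card Ω - 1 := by
  classical
  have : Fintype Ω := Fintype.ofFinite Ω
  obtain ⟨a⟩ := (inferInstance : Nonempty Ω)
  have := index_dvd_card_of_invariant (G := G) a (Finset.univ.erase a) (by simp) (by
    intro h x hx
    rw [Finset.mem_erase] at hx ⊢
    refine ⟨?_, Finset.mem_univ _⟩
    intro hh
    apply hx.1
    have h2 : h • a = a := h.2
    exact smul_left_cancel h (hh.trans h2.symm))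
  rw [Finset.card_erase_of_mem (Finset.mem_univ _), Finset.card_univ] at this
  rwa [Nat.card_eq_fintype_card]

/-- If the index of the derangement subgroup is `n - 1` then `n` is a prime power. -/
theorem isPrimePow_of_index_eq [FaithfulSMul G Ω] (hΩ : 2 ≤ Nat.card Ω)
    (hidx : (derSubgroup G Ω).index = Nat.card Ω - 1) : IsPrimePow (Nat.card Ω) := by
  classical
  have hne : Nonempty Ω := by
    by_contra h
    rw [not_nonempty_iff] at h
    rw [Nat.card_of_isEmpty] at hΩ
    omega
  obtain ⟨a⟩ := hne
  set D := derSubgroup G Ω with hD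
  have hDn : D.Normal := derSubgroup_normal G Ω
  have htrD : IsPretransitive D Ω := (main_count (G := G) (Ω := Ω)).1
  -- the complement of `a`
  have hcompl : ({a}ᶜ : Set Ω).ncard = Nat.card Ω - 1 := by
    rw [Set.ncard_compl, Set.ncard_singleton]
  have horb_sub : ∀ x : Ω, x ≠ a → orbit (stabilizer G a) x ⊆ ({a}ᶜ : Set Ω) := by
    intro x hx y hy
    obtain ⟨h, rfl⟩ := hy
    simp only [Set.mem_compl_iff, Set.mem_singleton_iff]
    intro hh
    apply hx
    have h2 : h • a = a := h.2
    exact smul_left_cancel h (hh.trans h2.symm)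
  -- Step A
  have stepA : ∀ x : Ω, x ≠ a → orbit (stabilizer G a) x = ({a}ᶜ : Set Ω) ∧
      D.subgroupOf (stabilizer G a) = stabilizer (stabilizer G a) x := by
    intro x hx
    obtain ⟨t, ht1, ht2⟩ := orbit_ncard_eq (G := G) a x hx
    have hle : stabilizer (stabilizer G a) x ≤ D.subgroupOf (stabilizer G a) := by
      intro h hh
      rw [Subgroup.mem_subgroupOf]
      exact mem_of_two_fixed hx h.2 hh
    have hpos : 0 < (orbit (stabilizer G a) x).ncard := by
      rw [Set.ncard_pos]
      exact ⟨x, mem_orbit_self x⟩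
    have hle2 : (orbit (stabilizer G a) x).ncard ≤ Nat.card Ω - 1 := by
      rw [← hcompl]
      exact Set.ncard_le_ncard (horb_sub x hx)
    rw [hidx] at ht1
    have ht : t = 1 := by
      rw [ht1] at hpos hle2
      have hk : 0 < Nat.card Ω - 1 := by omega
      have : t * (Nat.card Ω - 1) ≤ 1 * (Nat.card Ω - 1) := by omega
      have := Nat.le_of_mul_le_mul_right this hk
      rcases Nat.eq_zero_or_pos t with h0 | h0
      · subst h0; simp at hpos
      · omega
    subst ht
    rw [one_mul] at ht1 ht2
    constructor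
    · apply Set.eq_of_subset_of_ncard_le (horb_sub x hx)
      rw [hcompl, ht1]
    · exact (Subgroup.eq_of_le_of_card_ge hle (by rw [ht2])).symm
  -- Step B
  have stepB : ∀ d : G, d ∈ D → d • a = a → d = 1 := by
    intro d hdD hda
    apply FaithfulSMul.eq_of_smul_eq_smul (α := Ω)
    intro x
    rw [one_smul]
    by_cases hx : x = a
    · rw [hx, hda]
    · have := (stepA x hx).2
      have hmem : (⟨d, hda⟩ : stabilizer G a) ∈ D.subgroupOf (stabilizer G a) := by
        rw [Subgroup.mem_subgroupOf]; exact hdD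
      rw [this] at hmem
      exact hmem
  -- Step C
  have stepC : ∀ x y : Ω, x ≠ a → y ≠ a → ∃ h : G, h • a = a ∧ h • x = y := by
    intro x y hx hy
    have : y ∈ orbit (stabilizer G a) x := by
      rw [(stepA x hx).1]
      simpa using hy
    obtain ⟨h, hh⟩ := this
    exact ⟨h, h.2, hh⟩
  -- Step D
  have stepD : ∀ d d' : G, d ∈ D → d' ∈ D → d ≠ 1 → d' ≠ 1 → orderOf d' = orderOf d := by
    intro d d' hd hd' hd1 hd'1
    have hda : d • a ≠ a := fun h => hd1 (stepB d hd h)
    have hd'a : d' • a ≠ a := fun h => hd'1 (stepB d' hd' h)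
    obtain ⟨h, hha, hh⟩ := stepC _ _ hda hd'a
    have hconj : h * d * h⁻¹ ∈ D := hDn.conj_mem d hd h
    have he : d'⁻¹ * (h * d * h⁻¹) = 1 := by
      apply stepB _ (D.mul_mem (D.inv_mem hd') hconj)
      have hinv : h⁻¹ • a = a := by
        rw [inv_smul_eq_iff, hha]
      rw [mul_smul, mul_smul, mul_smul, hinv, hh, inv_smul_smul]
    have : d' = h * d * h⁻¹ := by
      have := congrArg (fun z => d' * z) he
      simpa using this.symm
    rw [this]
    have := orderOf_injective (MulAut.conj h).toMonoidHom (MulAut.conj h).injective d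
    simpa using this
  -- Step E
  have stepE : Nat.card D = Nat.card Ω := by
    have h1 : stabilizer D a = ⊥ := by
      rw [eq_bot_iff]
      intro d hd
      rw [Subgroup.mem_bot]
      have := stepB d d.2 hd
      exact Subtype.ext this
    have := index_stabilizer_of_transitive (G := D) (X := Ω) (x := a)
    rw [h1, Subgroup.index_bot] at this
    exact this
  -- Step F
  have hn1 : Nat.card Ω ≠ 1 := by omega
  obtain ⟨p, hp, hpd⟩ := Nat.exists_prime_and_dvd hn1
  have : Fact p.Prime := ⟨hp⟩
  rw [← stepE] at hpd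
  obtain ⟨d₀, hd₀⟩ := exists_prime_orderOf_dvd_card' (G := D) p hpd
  have hd₀1 : (d₀ : G) ≠ 1 := by
    intro h
    have : d₀ = 1 := Subtype.ext h
    rw [this, orderOf_one] at hd₀
    exact hp.one_lt.ne hd₀
  have hd₀' : orderOf (d₀ : G) = p := by rw [Subgroup.orderOf_coe, hd₀]
  have hpg : IsPGroup p D := by
    intro g
    by_cases hg : g = 1
    · exact ⟨0, by rw [hg]; simp⟩
    · refine ⟨1, ?_⟩
      have hg' : (g : G) ≠ 1 := fun h => hg (Subtype.ext h)
      have := stepD d₀ g d₀.2 g.2 hd₀1 hg'
      rw [hd₀', Subgroup.orderOf_coe] at this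
      rw [pow_one, ← this]
      exact pow_orderOf_eq_one g
  obtain ⟨j, hj⟩ := IsPGroup.iff_card.1 hpg
  rw [isPrimePow_nat_iff]
  refine ⟨p, j, hp, ?_, ?_⟩
  · rcases Nat.eq_zero_or_pos j with h0 | h0
    · subst h0
      rw [pow_zero] at hj
      omega
    · exact h0
  · rw [← stepE, hj]

end Main

end Cfsg.Agent.Lib.Helper59_Derangements2
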