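import Mathlib
import Cfsg.Agent.S0713
import Cfsg.Agent.S0744
import Cfsg.Agent.Lib.Helper38_PermTools
import Cfsg.Agent.Lib.Helper38_W1310A0
import Cfsg.Agent.Lib.Helper38_Hall2
import Cfsg.Agent.Lib.Helper38_KAlt3

/-!
# Livingstone–Wagner: basic notions (helper38)

Concrete `j`-homogeneity, the passage to and from `Set.powersetCard`, and the reduction to the
sharp case via `S0744`.
-/

set_option autoImplicit false
set_option linter.unusedSectionVars false

namespace Cfsg.Agent.Lib.Helper38_LW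

open Equiv MulAction
open scoped Pointwise
open Cfsg.Agent.S0713 (apply_inv_self' inv_apply_self')
open Cfsg.Agent.Lib.Helper38_PermTools Cfsg.Agent.Lib.Helper38_W1310A0
open Cfsg.Agent.Lib.Helper38_Hall2 Cfsg.Agent.Lib.Helper38_KAlt

variable {α : Type*} [Fintype α] [DecidableEq α]

/-- concrete `j`-homogeneity -/
def Homog (G : Subgroup (Perm α)) (j : ℕ) : Prop :=
  ∀ Δ₁ Δ₂ : Finset α, Δ₁.card = j → Δ₂.card = j → ∃ g ∈ G, Δ₁.image g = Δ₂

theorem smul_finset_eq_image (G : Subgroup (Perm α)) (g : G) (Δ : Finset α) :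
    g • Δ = Δ.image (g : Perm α) := rfl

theorem homog_of_pretransitive (G : Subgroup (Perm α)) (j : ℕ)
    (h : IsPretransitive G (Set.powersetCard α j)) : Homog G j := by
  intro Δ₁ Δ₂ h1 h2
  obtain ⟨g, hg⟩ := MulAction.exists_smul_eq G
    (⟨Δ₁, Set.powersetCard.mem_iff.2 h1⟩ : Set.powersetCard α j)
    ⟨Δ₂, Set.powersetCard.mem_iff.2 h2⟩
  refine ⟨g, g.2, ?_⟩
  have := congrArg Subtype.val hg
  exact (Set.powersetCard.coe_smul (g := g)
    (s := (⟨Δ₁, Set.powersetCard.mem_iff.2 h1⟩ : Set.powersetCard α j))).symm.trans this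

theorem pretransitive_of_homog (G : Subgroup (Perm α)) (j : ℕ) (h : Homog G j) :
    IsPretransitive G (Set.powersetCard α j) := by
  constructor
  intro Γ₁ Γ₂
  obtain ⟨g, hg, hgΓ⟩ := h Γ₁ Γ₂ (Set.powersetCard.mem_iff.1 Γ₁.2) (Set.powersetCard.mem_iff.1 Γ₂.2)
  refine ⟨⟨g, hg⟩, ?_⟩
  apply Subtype.ext
  exact (Set.powersetCard.coe_smul (g := (⟨g, hg⟩ : G)) (s := Γ₁)).trans hgΓ

theorem homog_of_multiply (G : Subgroup (Perm α)) {j : ℕ}
    (hG : IsMultiplyPretransitive G α j) (hj : j ≤ Fintype.card α) : Homog G j := by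
  intro Δ₁ Δ₂ h1 h2
  exact exists_mem_image_eq G hG hj Δ₁ Δ₂ (by rw [h1, h2]) (by rw [h1])

theorem Homog.card_fixG_eq {G : Subgroup (Perm α)} {j : ℕ} (h : Homog G j) (T T' : Finset α)
    (hT : T.card = j) (hT' : T'.card = j) : Nat.card (fixG G T) = Nat.card (fixG G T') := by
  obtain ⟨g, hg, rfl⟩ := h T T' hT hT'
  exact (card_fixG_image G hg T).symm

theorem card_fixingSubgroup_eq (G : Subgroup (Perm α)) (s : Finset α) :
    Nat.card (fixingSubgroup G (s : Set α)) = Nat.card (fixG G s) := by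
  have h : (fixG G s).subgroupOf G = fixingSubgroup G (s : Set α) := by
    ext ⟨g, hg⟩
    rw [Subgroup.mem_subgroupOf, mem_fixG, mem_fixingSubgroup_iff]
    constructor
    · rintro ⟨_, h⟩ y hy
      exact h y (Finset.mem_coe.mp hy)
    · intro h
      exact ⟨hg, fun y hy => h y (Finset.mem_coe.mpr hy)⟩
  rw [← h]
  exact Nat.card_congr (Subgroup.subgroupOfEquivOfLe (fixG_le G _)).toEquiv

/-- if all transpositions of `Δ` are induced then the full symmetric group of `Δ` is induced -/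
theorem full_of_swaps (G : Subgroup (Perm α)) (Δ : Finset α)
    (h : ∀ y ∈ Δ, ∀ z ∈ Δ, y ≠ z →
      ∃ v ∈ G, (∀ x ∈ Δ, x ≠ y → x ≠ z → v x = x) ∧ v y = z ∧ v z = y) :
    ∀ σ : Perm {x // x ∈ Δ}, ∃ g ∈ G, ∀ x : {x // x ∈ Δ}, g (x : α) = σ x := by
  intro σ
  induction σ using Perm.swap_induction_on with
  | one => exact ⟨1, G.one_mem, fun _ => rfl⟩
  | swap_mul f a b hab ih =>
    obtain ⟨g, hgG, hg⟩ := ih
    obtain ⟨v, hvG, hvfix, hvab, hvba⟩ := h a a.2 b b.2 (fun hc => hab (Subtype.ext hc))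
    refine ⟨v * g, G.mul_mem hvG hgG, fun x => ?_⟩
    rw [Perm.mul_apply, hg x, Perm.mul_apply, coe_swap_subtype]
    by_cases h1 : f x = a
    · rw [h1, swap_apply_left]; exact hvab
    by_cases h2 : f x = b
    · rw [h2, swap_apply_right]; exact hvba
    · have h1' : ((f x : {x // x ∈ Δ}) : α) ≠ a := fun hc => h1 (Subtype.ext hc)
      have h2' : ((f x : {x // x ∈ Δ}) : α) ≠ b := fun hc => h2 (Subtype.ext hc)
      rw [swap_apply_of_ne_of_ne h1' h2']
      exact hvfix _ (f x).2 h1' h2'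

/-- if involutions fix at most `k` points but `k`-point stabilisers have even order, the full
symmetric group is induced on every `(k+1)`-set -/
theorem full_of_no_invol (G : Subgroup (Perm α)) {k : ℕ} (hk : 1 ≤ k)
    (hinv : ∀ u ∈ G, u * u = 1 → u ≠ 1 → (fixF u).card ≤ k)
    (heven : ∀ T : Finset α, T.card = k → Even (Nat.card (fixG G T)))
    (Δ : Finset α) (hΔ : Δ.card = k + 1) :
    ∀ σ : Perm {x // x ∈ Δ}, ∃ g ∈ G, ∀ x : {x // x ∈ Δ}, g (x : α) = σ x := by
  apply full_of_swaps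
  intro y hy z hz hyz
  set Γ := (Δ.erase y).erase z with hΓdef
  have hzmem : z ∈ Δ.erase y := Finset.mem_erase.mpr ⟨hyz.symm, hz⟩
  have hΓ : Γ.card + 1 = k := by
    rw [hΓdef, Finset.card_erase_of_mem hzmem, Finset.card_erase_of_mem hy, hΔ]
    omega
  have hyΓ : y ∉ Γ := by
    rw [hΓdef, Finset.mem_erase, Finset.mem_erase]
    tauto
  have hzΓ : z ∉ Γ := by
    rw [hΓdef, Finset.mem_erase]
    tauto
  obtain ⟨v, hvG, hvΓ, hvy, hvz⟩ := exists_swap_of_no_invol G hinv heven Γ hΓ y z hyΓ hzΓ hyz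
  refine ⟨v, hvG, fun x hx hxy hxz => hvΓ x ?_, hvy, hvz⟩
  rw [hΓdef, Finset.mem_erase, Finset.mem_erase]
  exact ⟨hxz, hxy, hx⟩

/-- homogeneity together with the full symmetric group on every `j`-set gives `j`-transitivity -/
theorem trans_of_homog_full (G : Subgroup (Perm α)) (j : ℕ) (hom : Homog G j)
    (hfull : ∀ Δ : Finset α, Δ.card = j →
      ∀ σ : Perm {x // x ∈ Δ}, ∃ g ∈ G, ∀ x : {x // x ∈ Δ}, g (x : α) = σ x) :
    IsMultiplyPretransitive G α j := by
  rw [isMultiplyPretransitive_iff]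
  intro a b
  have hca : (Finset.univ.image a).card = j := by
    rw [Finset.card_image_of_injective _ a.injective, Finset.card_univ, Fintype.card_fin]
  have hcb : (Finset.univ.image b).card = j := by
    rw [Finset.card_image_of_injective _ b.injective, Finset.card_univ, Fintype.card_fin]
  obtain ⟨g₁, hg₁, hg₁Δ⟩ := hom _ _ hca hcb
  have hmem₁ : ∀ i, g₁ (a i) ∈ Finset.univ.image b := by
    intro i
    rw [← hg₁Δ]
    exact Finset.mem_image_of_mem _ (Finset.mem_image_of_mem _ (Finset.mem_univ _))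
  have hmem₂ : ∀ i, b i ∈ Finset.univ.image b :=
    fun i => Finset.mem_image_of_mem _ (Finset.mem_univ _)
  let fa : Fin j → {x // x ∈ Finset.univ.image b} := fun i => ⟨g₁ (a i), hmem₁ i⟩
  let fb : Fin j → {x // x ∈ Finset.univ.image b} := fun i => ⟨b i, hmem₂ i⟩
  have hfa : Function.Bijective fa := by
    rw [Fintype.bijective_iff_injective_and_card]
    refine ⟨fun i i' h => ?_, by rw [Fintype.card_fin, Fintype.card_coe, hcb]⟩
    have := congrArg Subtype.val h
    exact a.injective (g₁.injective this)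
  have hfb : Function.Bijective fb := by
    rw [Fintype.bijective_iff_injective_and_card]
    refine ⟨fun i i' h => ?_, by rw [Fintype.card_fin, Fintype.card_coe, hcb]⟩
    have := congrArg Subtype.val h
    exact b.injective this
  let σ : Perm {x // x ∈ Finset.univ.image b} :=
    (Equiv.ofBijective fa hfa).symm.trans (Equiv.ofBijective fb hfb)
  obtain ⟨g₂, hg₂, hg₂σ⟩ := hfull _ hcb σ
  refine ⟨⟨g₂ * g₁, G.mul_mem hg₂ hg₁⟩, ?_⟩
  ext i
  have h1 := hg₂σ (fa i)
  have h2 : σ (fa i) = fb i := by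
    change (Equiv.ofBijective fb hfb) ((Equiv.ofBijective fa hfa).symm (fa i)) = fb i
    have : (Equiv.ofBijective fa hfa).symm (fa i) = i :=
      (Equiv.ofBijective fa hfa).symm_apply_apply i
    rw [this]
    rfl
  rw [h2] at h1
  simpa [Subgroup.smul_def, Perm.smul_def, fa, fb] using h1

/-- the reduction to the sharp case -/
theorem sharp_of_not_trans (G : Subgroup (Perm α)) {k : ℕ} (hk : 1 < k)
    (hkn : k ≤ Fintype.card α) (hom1 : Homog G (k - 1)) (hom : Homog G k)
    (hnt : ¬ IsMultiplyPretransitive G α (k - 1)) :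
    ∀ Γ : Finset α, Γ.card = k - 1 → Nat.card (fixG G Γ) = 1 := by
  intro Γ hΓ
  by_contra hne
  apply hnt
  obtain ⟨S₀, -, hS₀⟩ := Finset.exists_subset_card_eq (s := (Finset.univ : Finset α)) (n := k)
    (by simpa using hkn)
  have hpos : 0 < Nat.card (fixG G Γ) := Nat.card_pos
  apply Cfsg.Agent.S0744.result G hk hkn (Nat.card (fixG G Γ)) (Nat.card (fixG G S₀)) (by omega)
  · intro s hs
    rw [card_fixingSubgroup_eq]
    exact hom1.card_fixG_eq s Γ hs hΓ
  · intro s hs
    rw [card_fixingSubgroup_eq]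
    exact hom.card_fixG_eq s S₀ hs hS₀

end Cfsg.Agent.Lib.Helper38_LW
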