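import Mathlib
import Cfsg.Agent.S0713
import Cfsg.Agent.Lib.Helper38_PermTools
import Cfsg.Agent.Lib.Helper38_W1310A0
import Cfsg.Agent.Lib.Helper38_Hall2
import Cfsg.Agent.Lib.Helper38_KAlt0
import Cfsg.Agent.Lib.Helper38_LW0
import Cfsg.Agent.Lib.Helper38_KAlt5

/-!
# Livingstone–Wagner: free actions, orders and congruences (helper38)
-/

set_option autoImplicit false
set_option linter.unusedSectionVars false

namespace Cfsg.Agent.Lib.Helper38_LW

open Equiv MulAction
open scoped Pointwise
open Cfsg.Agent.S0713 (apply_inv_self' inv_apply_self')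
open Cfsg.Agent.Lib.Helper38_PermTools Cfsg.Agent.Lib.Helper38_W1310A0
open Cfsg.Agent.Lib.Helper38_Hall2 Cfsg.Agent.Lib.Helper38_KAlt

variable {α : Type*} [Fintype α] [DecidableEq α]

/-- the action of a subgroup fixing `T` pointwise on the complement of `T` -/
def complAction (H : Subgroup (Perm α)) (T : Finset α) (hfix : ∀ g ∈ H, ∀ x ∈ T, g x = x) :
    SubMulAction H α where
  carrier := {x | x ∉ T}
  smul_mem' := by
    intro g x hx hgx
    have h1 : (g : Perm α) ((g : Perm α) x) = (g : Perm α) x := hfix g g.2 _ hgx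
    have h2 : (g : Perm α) x = x := (g : Perm α).injective h1
    change x ∉ T at hx
    apply hx
    have : (g : Perm α) x ∈ T := hgx
    rwa [h2] at this

theorem card_dvd_of_free (H : Subgroup (Perm α)) (T : Finset α)
    (hfix : ∀ g ∈ H, ∀ x ∈ T, g x = x) (hfree : ∀ g ∈ H, ∀ x, x ∉ T → g x = x → g = 1) :
    Nat.card H ∣ Tᶜ.card := by
  have hstab : ∀ b : complAction H T hfix, stabilizer H b = ⊥ := by
    intro b
    rw [Subgroup.eq_bot_iff_forall]
    intro g hg
    rw [mem_stabilizer_iff] at hg
    have h1 : (g : Perm α) (b : α) = (b : α) := congrArg Subtype.val hg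
    exact Subtype.ext (hfree g g.2 b b.2 h1)
  have e := selfEquivOrbitsQuotientProd hstab
  have h1 := Nat.card_congr e
  rw [Nat.card_prod] at h1
  have h2 : Nat.card (complAction H T hfix) = Tᶜ.card := by
    rw [← Nat.card_eq_finsetCard]
    apply Nat.card_congr
    exact Equiv.subtypeEquivRight (fun x => by
      rw [Finset.mem_compl]
      exact Iff.rfl)
  rw [← h2, h1]
  exact Dvd.intro_left _ rfl

theorem trans_of_free_card (H : Subgroup (Perm α)) (T : Finset α)
    (hfix : ∀ g ∈ H, ∀ x ∈ T, g x = x) (hfree : ∀ g ∈ H, ∀ x, x ∉ T → g x = x → g = 1)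
    (hcard : Tᶜ.card ≤ Nat.card H) : ∀ u, u ∉ T → ∀ v, v ∉ T → ∃ g ∈ H, g u = v := by
  intro u hu v hv
  have hmem : ∀ g : H, (g : Perm α) u ∈ Tᶜ := by
    intro g
    rw [Finset.mem_compl]
    intro hgu
    have h1 : (g : Perm α) ((g : Perm α) u) = (g : Perm α) u := hfix g g.2 _ hgu
    have h2 : (g : Perm α) u = u := (g : Perm α).injective h1
    exact hu (h2 ▸ hgu)
  let f : H → {x // x ∈ Tᶜ} := fun g => ⟨(g : Perm α) u, hmem g⟩
  have hinj : Function.Injective f := by
    intro g g' hgg'
    have h1 : (g : Perm α) u = (g' : Perm α) u := congrArg Subtype.val hgg'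
    have h2 : ((g' : Perm α)⁻¹ * (g : Perm α)) u = u := by
      rw [Perm.mul_apply, h1, inv_apply_self']
    have h3 := hfree _ (H.mul_mem (H.inv_mem g'.2) g.2) u hu h2
    rw [inv_mul_eq_one] at h3
    exact Subtype.ext h3.symm
  have hbij := Function.Injective.bijective_of_nat_card_le hinj
    (by rw [Nat.card_eq_fintype_card, Fintype.card_coe]; exact hcard)
  obtain ⟨g, hg⟩ := hbij.2 ⟨v, Finset.mem_compl.mpr hv⟩
  exact ⟨g, g.2, congrArg Subtype.val hg⟩

/-- fixed points of an element of prime order on an invariant set -/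
theorem card_fix_modEq {p : ℕ} [Fact p.Prime] (g : Perm α) (hg : g ^ p = 1) (S : Finset α)
    (hS : ∀ x, g x ∈ S ↔ x ∈ S) :
    (S.filter (fun x => g x = x)).card ≡ S.card [MOD p] := by
  have hσ : (g.subtypePerm hS) ^ p ^ 1 = 1 := by
    rw [pow_one]
    ext x
    simp [Perm.subtypePerm_pow, hg]
  have h := Perm.card_compl_support_modEq hσ
  rw [Fintype.card_coe] at h
  have h2 : ((g.subtypePerm hS).supportᶜ).card = (S.filter (fun x => g x = x)).card := by
    rw [← Finset.card_map (Function.Embedding.subtype _)]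
    congr 1
    ext x
    simp only [Finset.mem_map, Finset.mem_compl, Perm.mem_support, not_not,
      Function.Embedding.subtype_apply, Finset.mem_filter]
    constructor
    · rintro ⟨y, hy, rfl⟩
      refine ⟨y.2, ?_⟩
      have := congrArg Subtype.val hy
      simpa using this
    · rintro ⟨hx, hgx⟩
      exact ⟨⟨x, hx⟩, Subtype.ext (by simpa using hgx), rfl⟩
  rw [← h2]
  exact h

theorem card_fixF_modEq {p : ℕ} [Fact p.Prime] (g : Perm α) (hg : g ^ p = 1) :
    (fixF g).card ≡ Fintype.card α [MOD p] := by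
  have := card_fix_modEq g hg Finset.univ (fun x => by simp)
  rwa [Finset.card_univ] at this

theorem card_stabilizer_eq_setStab (G : Subgroup (Perm α)) (Δ : Finset α) :
    Nat.card (stabilizer G Δ) = Nat.card (setStab G Δ) := by
  have hle : setStab G Δ ≤ G := fun g hg => hg.1
  have h : (setStab G Δ).subgroupOf G = stabilizer G Δ := by
    ext ⟨g, hg⟩
    rw [Subgroup.mem_subgroupOf, mem_setStab]
    constructor
    · rintro ⟨_, hpres⟩
      rw [mem_stabilizer_iff]
      change Δ.image g = Δ
      apply Finset.eq_of_subset_of_card_le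
      · intro y hy
        obtain ⟨x, hx, rfl⟩ := Finset.mem_image.mp hy
        exact (hpres x).mpr hx
      · rw [Finset.card_image_of_injective _ g.injective]
    · intro hs
      exact ⟨hg, fun x => pres_of_mem_stabilizer (s := ⟨g, hg⟩) hs x⟩
  rw [← h]
  exact Nat.card_congr (Subgroup.subgroupOfEquivOfLe hle).toEquiv

/-- the order of a `j`-homogeneous group -/
theorem Homog.card_eq_choose_mul {G : Subgroup (Perm α)} {j : ℕ} (hom : Homog G j)
    (Δ : Finset α) (hΔ : Δ.card = j) :
    Nat.card G = (Fintype.card α).choose j * Nat.card (setStab G Δ) := by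
  have h1 := orbit_mul_stab G Δ
  have horb : orbit G Δ = ↑(Finset.powersetCard j (Finset.univ : Finset α)) := by
    apply Set.Subset.antisymm (orbit_subset G Δ hΔ)
    intro Δ' hΔ'
    rw [Finset.mem_coe, Finset.mem_powersetCard] at hΔ'
    obtain ⟨g, hg, hgΔ⟩ := hom Δ Δ' hΔ hΔ'.2
    exact ⟨⟨g, hg⟩, hgΔ⟩
  rw [horb, Set.ncard_coe_finset, Finset.card_powersetCard, Finset.card_univ,
    card_stabilizer_eq_setStab] at h1
  exact h1.symm

/-- the basic numerical relations -/
theorem numerics {n t h a b N : ℕ} (htn : t + 2 ≤ n) (h1 : N = n.descFactorial t * h)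
    (h2 : N = n.choose (t + 1) * a) (h3 : N = n.choose (t + 2) * b) :
    h * (t + 1).factorial = (n - t) * a ∧
    h * (t + 2).factorial = (n - t) * (n - t - 1) * b := by
  have hD : 0 < n.descFactorial t := Nat.descFactorial_pos.mpr (by omega)
  constructor
  · apply Nat.eq_of_mul_eq_mul_left hD
    calc n.descFactorial t * (h * (t + 1).factorial)
        = N * (t + 1).factorial := by rw [h1]; ring
      _ = (t + 1).factorial * n.choose (t + 1) * a := by rw [h2]; ring
      _ = n.descFactorial (t + 1) * a := by rw [← Nat.descFactorial_eq_factorial_mul_choose]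
      _ = n.descFactorial t * ((n - t) * a) := by rw [Nat.descFactorial_succ]; ring
  · apply Nat.eq_of_mul_eq_mul_left hD
    calc n.descFactorial t * (h * (t + 2).factorial)
        = N * (t + 2).factorial := by rw [h1]; ring
      _ = (t + 2).factorial * n.choose (t + 2) * b := by rw [h3]; ring
      _ = n.descFactorial (t + 2) * b := by rw [← Nat.descFactorial_eq_factorial_mul_choose]
      _ = n.descFactorial t * ((n - t) * (n - t - 1) * b) := by
        rw [Nat.descFactorial_succ, Nat.descFactorial_succ]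
        have : n - (t + 1) = n - t - 1 := by omega
        rw [this]; ring

end Cfsg.Agent.Lib.Helper38_LW
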