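import Mathlib
import Cfsg.Agent.S0713
import Cfsg.Agent.Lib.Helper38_PermTools
import Cfsg.Agent.Lib.Helper38_W1310A0
import Cfsg.Agent.Lib.Helper38_Hall2
import Cfsg.Agent.Lib.Helper38_KAlt0
import Cfsg.Agent.Lib.Helper38_KAlt1
import Cfsg.Agent.Lib.Helper38_KAlt4
import Cfsg.Agent.Lib.Helper38_KAlt5
import Cfsg.Agent.Lib.Helper38_LW0
import Cfsg.Agent.Lib.Helper38_LW1

/-!
# Livingstone–Wagner: the sharp configuration (helper38)

`LWData G t`: `G` is `t`-transitive, not `(t+1)`-transitive, `(t+1)`- and `(t+2)`-homogeneous, and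
the pointwise stabilisers of `(t+1)`-sets are trivial.
-/

set_option autoImplicit false
set_option linter.unusedSectionVars false

namespace Cfsg.Agent.Lib.Helper38_LW

open Equiv MulAction
open scoped Pointwise
open Cfsg.Agent.S0713 (apply_inv_self' inv_apply_self')
open Cfsg.Agent.Lib.Helper38_PermTools Cfsg.Agent.Lib.Helper38_W1310A0
open Cfsg.Agent.Lib.Helper38_Hall2 Cfsg.Agent.Lib.Helper38_KAlt

variable {α : Type*} [Fintype α] [DecidableEq α]

structure LWData (G : Subgroup (Perm α)) (t : ℕ) : Prop where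
  ht1 : 1 ≤ t
  htn : t + 2 ≤ Fintype.card α
  trans : IsMultiplyPretransitive G α t
  hom1 : Homog G (t + 1)
  hom2 : Homog G (t + 2)
  sharp : ∀ Γ : Finset α, Γ.card = t + 1 → Nat.card (fixG G Γ) = 1
  ntrans : ¬ IsMultiplyPretransitive G α (t + 1)

namespace LWData

variable {G : Subgroup (Perm α)} {t : ℕ}

theorem eq_one_of_fix (D : LWData G t) {g : Perm α} (hg : g ∈ G) (Γ : Finset α)
    (hΓ : t + 1 ≤ Γ.card) (hfix : ∀ x ∈ Γ, g x = x) : g = 1 := by
  obtain ⟨Γ', hsub, hcard⟩ := Finset.exists_subset_card_eq hΓ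
  have h1 := D.sharp Γ' hcard
  rw [Subgroup.card_eq_one] at h1
  have : g ∈ fixG G Γ' := mem_fixG.mpr ⟨hg, fun x hx => hfix x (hsub hx)⟩
  rw [h1, Subgroup.mem_bot] at this
  exact this

theorem fix_le (D : LWData G t) {g : Perm α} (hg : g ∈ G) (hg1 : g ≠ 1) :
    (fixF g).card ≤ t := by
  by_contra hlt
  push Not at hlt
  exact hg1 (D.eq_one_of_fix hg (fixF g) hlt (fun x hx => mem_fixF.mp hx))

theorem card_fixG_eq' (D : LWData G t) (T T' : Finset α) (hT : T.card = t) (hT' : T'.card = t) :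
    Nat.card (fixG G T) = Nat.card (fixG G T') :=
  card_fixG_eq G D.trans (by have := D.htn; omega) T T' (by rw [hT, hT']) (by rw [hT])

/-- the stabiliser of `t` points has odd order -/
theorem hodd (D : LWData G t) (T : Finset α) (hT : T.card = t) :
    Odd (Nat.card (fixG G T)) := by
  by_contra hne
  rw [Nat.not_odd_iff_even] at hne
  apply D.ntrans
  apply trans_of_homog_full G (t + 1) D.hom1
  intro Δ hΔ
  exact full_of_no_invol G D.ht1 (fun u hu _ hu1 => D.fix_le hu hu1)
    (fun T' hT' => by rw [D.card_fixG_eq' T' T hT' hT]; exact hne) Δ hΔ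

theorem fix_free (D : LWData G t) (T : Finset α) (hT : T.card = t) :
    ∀ g ∈ fixG G T, ∀ x, x ∉ T → g x = x → g = 1 := by
  intro g hg x hx hgx
  rw [mem_fixG] at hg
  apply D.eq_one_of_fix hg.1 (insert x T) (by rw [Finset.card_insert_of_notMem hx, hT])
  intro y hy
  rcases Finset.mem_insert.mp hy with rfl | hy
  · exact hgx
  · exact hg.2 y hy

theorem h_dvd (D : LWData G t) (T : Finset α) (hT : T.card = t) :
    Nat.card (fixG G T) ∣ Fintype.card α - t := by
  have := card_dvd_of_free (fixG G T) T (fun g hg => (mem_fixG.mp hg).2) (D.fix_free T hT)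
  rwa [Finset.card_compl, hT] at this

theorem h_lt (D : LWData G t) (T : Finset α) (hT : T.card = t) :
    Nat.card (fixG G T) < Fintype.card α - t := by
  have hle := Nat.le_of_dvd (by have := D.htn; omega) (D.h_dvd T hT)
  rcases Nat.lt_or_ge (Nat.card (fixG G T)) (Fintype.card α - t) with h | h
  · exact h
  exfalso
  apply D.ntrans
  have key := tuple_trans G Finset.univ (t + 1) (by omega)
    (by rw [Finset.card_univ]; exact D.htn) (fun _ _ _ => by simp)
    (by
      intro Γ _ hΓ u _ hu v _ hv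
      have hΓ' : Γ.card = t := by omega
      obtain ⟨g, hg, hgu⟩ := trans_of_free_card (fixG G Γ) Γ (fun g hg => (mem_fixG.mp hg).2)
        (D.fix_free Γ hΓ') (by
          rw [Finset.card_compl, hΓ', D.card_fixG_eq' Γ T hΓ' hT]; exact h) u hu v hv
      rw [mem_fixG] at hg
      exact ⟨g, hg.1, hg.2, hgu⟩) (t + 1) le_rfl
  rw [isMultiplyPretransitive_iff]
  intro a b
  obtain ⟨m, hm, hab⟩ := key a b a.injective b.injective (fun _ => Finset.mem_univ _)
    (fun _ => Finset.mem_univ _)
  refine ⟨⟨m, hm⟩, ?_⟩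
  ext i
  simpa [Subgroup.smul_def, Perm.smul_def] using hab i

/-- the numerical relations of the sharp configuration -/
theorem exists_numbers (D : LWData G t) (T : Finset α) (hT : T.card = t) (Γ : Finset α)
    (hΓ : Γ.card = t + 1) (S : Finset α) (hS : S.card = t + 2) :
    ∃ r : ℕ, 2 ≤ r ∧ Fintype.card α - t = Nat.card (fixG G T) * r ∧
      (t + 1).factorial = r * Nat.card (setStab G Γ) ∧
      (t + 2).factorial = r * (Fintype.card α - t - 1) * Nat.card (setStab G S) ∧
      Nat.card G = (Fintype.card α).descFactorial t * Nat.card (fixG G T) := by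
  have htn := D.htn
  obtain ⟨x⟩ : Nonempty (Fin t ↪ α) := by
    apply Function.Embedding.nonempty_of_card_le
    rw [Fintype.card_fin]; omega
  have hN := card_eq_descFactorial_mul G D.trans x
  rw [D.card_fixG_eq' _ T (card_image_emb' x) hT] at hN
  obtain ⟨r, hr⟩ := D.h_dvd T hT
  have hpos : 0 < Nat.card (fixG G T) := Nat.card_pos
  have hlt := D.h_lt T hT
  have hr2 : 2 ≤ r := by
    by_contra hc
    have : r = 0 ∨ r = 1 := by omega
    rcases this with rfl | rfl
    · omega
    · rw [mul_one] at hr; omega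
  obtain ⟨e1, e2⟩ := numerics htn hN (D.hom1.card_eq_choose_mul Γ hΓ)
    (D.hom2.card_eq_choose_mul S hS)
  refine ⟨r, hr2, hr, ?_, ?_, hN⟩
  · apply Nat.eq_of_mul_eq_mul_left hpos
    rw [e1, hr]; ring
  · apply Nat.eq_of_mul_eq_mul_left hpos
    rw [e2, hr]; ring

end LWData

end Cfsg.Agent.Lib.Helper38_LW
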