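import Mathlib
import Cfsg.Agent.S0713
import Cfsg.Agent.Lib.Helper38_PermTools
import Cfsg.Agent.Lib.Helper38_W1310A0
import Cfsg.Agent.Lib.Helper38_Hall0
import Cfsg.Agent.Lib.Helper38_Hall2
import Cfsg.Agent.Lib.Helper38_KAlt0
import Cfsg.Agent.Lib.Helper38_KAlt3
import Cfsg.Agent.Lib.Helper38_KAlt5
import Cfsg.Agent.Lib.Helper38_LW0
import Cfsg.Agent.Lib.Helper38_LW1
import Cfsg.Agent.Lib.Helper38_LW2

/-!
# Livingstone–Wagner: involutions and the exclusion of degrees `11` and `12` (helper38)
-/

set_option autoImplicit false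
set_option linter.unusedSectionVars false

namespace Cfsg.Agent.Lib.Helper38_LW

open Equiv MulAction
open scoped Pointwise
open Cfsg.Agent.S0713 (apply_inv_self' inv_apply_self')
open Cfsg.Agent.Lib.Helper38_PermTools Cfsg.Agent.Lib.Helper38_W1310A0
open Cfsg.Agent.Lib.Helper38_Hall0 Cfsg.Agent.Lib.Helper38_Hall2 Cfsg.Agent.Lib.Helper38_KAlt

variable {α : Type*} [Fintype α] [DecidableEq α]

theorem invol_apply {u : Perm α} (huu : u * u = 1) (x : α) : u (u x) = x := by
  rw [← Perm.mul_apply, huu, Perm.one_apply]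

/-- two moved points `y`, `z` of an involution in different `2`-cycles -/
theorem exists_two_moved {u : Perm α} (huu : u * u = 1)
    (h : (fixF u).card + 4 ≤ Fintype.card α) :
    ∃ y z : α, u y ≠ y ∧ u z ≠ z ∧ z ≠ y ∧ z ≠ u y := by
  obtain ⟨y, hy⟩ : ∃ y, y ∉ fixF u := by
    by_contra hc
    push Not at hc
    have : fixF u = Finset.univ := Finset.eq_univ_iff_forall.mpr hc
    rw [this, Finset.card_univ] at h
    omega
  obtain ⟨z, hz⟩ : ∃ z, z ∉ insert y (insert (u y) (fixF u)) := by
    by_contra hc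
    push Not at hc
    have : insert y (insert (u y) (fixF u)) = Finset.univ := Finset.eq_univ_iff_forall.mpr hc
    have h1 := Finset.card_insert_le y (insert (u y) (fixF u))
    have h2 := Finset.card_insert_le (u y) (fixF u)
    rw [this, Finset.card_univ] at h1
    omega
  simp only [Finset.mem_insert, not_or] at hz
  rw [mem_fixF] at hy hz
  exact ⟨y, z, hy, hz.2.2, hz.1, hz.2.1⟩

/-- an involution moving at least four points stabilises a `4`-set -/
theorem exists_inv4 {u : Perm α} (huu : u * u = 1)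
    (h : (fixF u).card + 4 ≤ Fintype.card α) :
    ∃ S : Finset α, S.card = 4 ∧ (∀ x, u x ∈ S ↔ x ∈ S) ∧ ∀ x ∈ S, u x ≠ x := by
  obtain ⟨y, z, hy, hz, hzy, hzuy⟩ := exists_two_moved huu h
  have huzy : u z ≠ y := fun hc => hzuy (by rw [← hc, invol_apply huu])
  have huzuy : u z ≠ u y := fun hc => hzy (u.injective hc)
  refine ⟨{y, u y, z, u z}, ?_, fun x => ?_, fun x hx => ?_⟩
  rotate_left 2
  · simp only [Finset.mem_insert, Finset.mem_singleton] at hx
    rcases hx with rfl | rfl | rfl | rfl
    · exact hy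
    · rw [invol_apply huu]; exact fun hc => hy hc.symm
    · exact hz
    · rw [invol_apply huu]; exact fun hc => hz hc.symm
  · rw [Finset.card_insert_of_notMem, Finset.card_insert_of_notMem, Finset.card_insert_of_notMem,
      Finset.card_singleton]
    · simp only [Finset.mem_singleton]; exact fun hc => hz hc.symm
    · simp only [Finset.mem_insert, Finset.mem_singleton, not_or]
      exact ⟨fun hc => hzuy hc.symm, fun hc => huzuy hc.symm⟩
    · simp only [Finset.mem_insert, Finset.mem_singleton, not_or]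
      exact ⟨fun hc => hy hc.symm, fun hc => hzy hc.symm, fun hc => huzy hc.symm⟩
  · simp only [Finset.mem_insert, Finset.mem_singleton]
    constructor
    · rintro (h1 | h1 | h1 | h1)
      · right; left; rw [← h1, invol_apply huu]
      · left; exact u.injective h1
      · right; right; right; rw [← h1, invol_apply huu]
      · right; right; left; exact u.injective h1
    · rintro (rfl | rfl | rfl | rfl)
      · right; left; rfl
      · left; exact invol_apply huu _
      · right; right; right; rfl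
      · right; right; left; exact invol_apply huu _

/-- an involution with a fixed point moving at least four points stabilises a `5`-set -/
theorem exists_inv5 {u : Perm α} (huu : u * u = 1) {x₀ : α} (hx₀ : u x₀ = x₀)
    (h : (fixF u).card + 4 ≤ Fintype.card α) :
    ∃ S : Finset α, S.card = 5 ∧ ∀ x, u x ∈ S ↔ x ∈ S := by
  obtain ⟨S, hS, hpres, hmoved⟩ := exists_inv4 huu h
  have hx₀S : x₀ ∉ S := fun hc => hmoved x₀ hc hx₀
  refine ⟨insert x₀ S, by rw [Finset.card_insert_of_notMem hx₀S, hS], fun x => ?_⟩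
  rw [Finset.mem_insert, Finset.mem_insert, hpres]
  constructor
  · rintro (h1 | h1)
    · left
      apply u.injective
      rw [h1, hx₀]
    · right; exact h1
  · rintro (rfl | h1)
    · left; exact hx₀
    · right; exact h1

theorem exists_finset_card (m : ℕ) (hm : m ≤ Fintype.card α) : ∃ Δ : Finset α, Δ.card = m := by
  obtain ⟨Δ, -, hΔ⟩ := Finset.exists_subset_card_eq (s := (Finset.univ : Finset α)) (n := m)
    (by simpa using hm)
  exact ⟨Δ, hΔ⟩

theorem fixF_card_of_invol {u : Perm α} (huu : u * u = 1) :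
    (fixF u).card % 2 = Fintype.card α % 2 := by
  have : Fact (Nat.Prime 2) := ⟨Nat.prime_two⟩
  exact card_fixF_modEq (p := 2) u (by rw [pow_two]; exact huu)

namespace LWData

variable {G : Subgroup (Perm α)} {t : ℕ}

/-- degree `11` with `t = 2` is impossible -/
theorem excl_11 (D : LWData G 2) (hn : Fintype.card α = 11) : False := by
  obtain ⟨T, hT⟩ := exists_finset_card (α := α) 2 (by omega)
  obtain ⟨Γ, hΓ⟩ := exists_finset_card (α := α) 3 (by omega)
  obtain ⟨S₀, hS₀⟩ := exists_finset_card (α := α) 4 (by omega)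
  obtain ⟨r, hr2, e1, e2, e3, -⟩ := D.exists_numbers T hT Γ hΓ S₀ hS₀
  rw [hn] at e1 e3
  have f3 : (2 + 1).factorial = 6 := by decide
  have f4 : (2 + 2).factorial = 24 := by decide
  rw [f3] at e2
  rw [f4] at e3
  have hr6 : r ≤ 6 := Nat.le_of_dvd (by norm_num) ⟨_, e2⟩
  have hr3 : r = 3 := by
    interval_cases r <;> omega
  subst hr3
  have ha : Nat.card (setStab G Γ) = 2 := by omega
  obtain ⟨u, huA, huu, hu1⟩ := exists_invol_of_even (setStab G Γ) (by rw [ha]; decide)
  have huG : u ∈ G := huA.1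
  have hf := D.fix_le huG hu1
  have hmod := fixF_card_of_invol huu
  rw [hn] at hmod
  obtain ⟨S, hS, hpres, -⟩ := exists_inv4 huu (by omega)
  obtain ⟨r', hr2', e1', e2', e3', -⟩ := D.exists_numbers T hT Γ hΓ S hS
  rw [hn] at e1' e3'
  rw [f3] at e2'
  rw [f4] at e3'
  have hr6' : r' ≤ 6 := Nat.le_of_dvd (by norm_num) ⟨_, e2'⟩
  have hr3' : r' = 3 := by
    interval_cases r' <;> omega
  subst hr3'
  have hb : Nat.card (setStab G S) = 1 := by omega
  have hmem : u ∈ setStab G S := ⟨huG, hpres⟩
  rw [Subgroup.card_eq_one] at hb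
  rw [hb, Subgroup.mem_bot] at hmem
  exact hu1 hmem

/-- degree `12` with `t = 3` is impossible -/
theorem excl_12 (D : LWData G 3) (hn : Fintype.card α = 12) : False := by
  obtain ⟨T, hT⟩ := exists_finset_card (α := α) 3 (by omega)
  obtain ⟨Γ, hΓ⟩ := exists_finset_card (α := α) 4 (by omega)
  have f4 : (3 + 1).factorial = 24 := by decide
  have f5 : (3 + 2).factorial = 120 := by decide
  -- the numbers for an arbitrary `5`-set
  have hnum : ∀ S : Finset α, S.card = 5 →
      Nat.card (setStab G Γ) = 8 ∧ Nat.card (setStab G S) = 5 := by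
    intro S hS
    obtain ⟨r, hr2, e1, e2, e3, -⟩ := D.exists_numbers T hT Γ hΓ S hS
    rw [hn] at e1 e3
    rw [f4] at e2
    rw [f5] at e3
    have hr9 : r ≤ 9 := Nat.le_of_dvd (by norm_num) ⟨_, (by rw [mul_comm]; exact e1)⟩
    have hr3 : r = 3 := by
      interval_cases r <;> omega
    subst hr3
    constructor <;> omega
  -- involutions are fixed-point-free
  have hfpf : ∀ u ∈ G, u * u = 1 → u ≠ 1 → ∀ x, u x ≠ x := by
    intro u huG huu hu1 x hx
    have hf := D.fix_le huG hu1
    have hmod := fixF_card_of_invol huu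
    rw [hn] at hmod
    obtain ⟨S, hS, hpres⟩ := exists_inv5 huu hx (by omega)
    have hmem : u ∈ setStab G S := ⟨huG, hpres⟩
    have h2 : orderOf u = 2 := orderOf_eq_prime (by rw [pow_two]; exact huu) hu1
    have hdvd := Subgroup.orderOf_dvd_natCard _ hmem
    rw [h2, (hnum S hS).2] at hdvd
    omega
  obtain ⟨S₀, hS₀⟩ := exists_finset_card (α := α) 5 (by omega)
  have ha := (hnum S₀ hS₀).1
  -- a point of `Γ` with non-trivial stabiliser in `setStab G Γ`
  obtain ⟨x, hx⟩ : ∃ x, x ∈ Γ := by
    apply Finset.card_pos.mp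
    rw [hΓ]; norm_num
  classical
  set Θ : Finset α := Finset.univ.filter (fun ω => ∃ k ∈ setStab G Γ, k x = ω) with hΘ
  have hΘmem : ∀ ω, ω ∈ Θ ↔ ∃ k ∈ setStab G Γ, k x = ω := by
    intro ω
    rw [hΘ, Finset.mem_filter]
    simp
  have hΘsub : Θ ⊆ Γ := by
    intro ω hω
    obtain ⟨k, hk, rfl⟩ := (hΘmem ω).mp hω
    exact (hk.2 x).mpr hx
  have hΘcard : Θ.card ≤ 4 := by
    rw [← hΓ]; exact Finset.card_le_card hΘsub
  have hmul := card_eq_stab_mul (setStab G Γ) x Θ hΘmem
  rw [ha] at hmul
  have heven : Even (Nat.card (setStab G Γ ⊓ stabilizer (Perm α) x : Subgroup (Perm α))) := by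
    set c := Nat.card (setStab G Γ ⊓ stabilizer (Perm α) x : Subgroup (Perm α)) with hc
    have hc8 : c ∣ 8 := ⟨_, hmul⟩
    have hcle : c ≤ 8 := Nat.le_of_dvd (by norm_num) hc8
    have hΘpos : 0 < Θ.card := by
      rcases Nat.eq_zero_or_pos Θ.card with h0 | h0
      · rw [h0] at hmul; omega
      · exact h0
    interval_cases c <;> first | (exact absurd hc8 (by decide)) | decide | (exfalso; omega)
  obtain ⟨u, huK, huu, hu1⟩ := exists_invol_of_even _ heven
  rw [Subgroup.mem_inf, mem_stabilizer_iff] at huK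
  exact hfpf u huK.1.1 huu hu1 x huK.2

end LWData

end Cfsg.Agent.Lib.Helper38_LW
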