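import Mathlib
import Cfsg.Agent.S0713
import Cfsg.Agent.Lib.Helper38_PermTools
import Cfsg.Agent.Lib.Helper38_W1310A0
import Cfsg.Agent.Lib.Helper38_Hall0
import Cfsg.Agent.Lib.Helper38_Hall1
import Cfsg.Agent.Lib.Helper38_Hall2
import Cfsg.Agent.Lib.Helper38_KAlt0
import Cfsg.Agent.Lib.Helper38_KAlt3
import Cfsg.Agent.Lib.Helper38_KAlt5
import Cfsg.Agent.Lib.Helper38_LW0
import Cfsg.Agent.Lib.Helper38_LW1
import Cfsg.Agent.Lib.Helper38_LW2
import Cfsg.Agent.Lib.Helper38_LW3

/-!
# Livingstone–Wagner: the exclusion of degree `7` (helper38)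
-/

set_option autoImplicit false
set_option linter.unusedSectionVars false

namespace Cfsg.Agent.Lib.Helper38_LW

open Equiv MulAction
open scoped Pointwise
open Cfsg.Agent.S0713 (apply_inv_self' inv_apply_self')
open Cfsg.Agent.Lib.Helper38_PermTools Cfsg.Agent.Lib.Helper38_W1310A0
open Cfsg.Agent.Lib.Helper38_Hall0 Cfsg.Agent.Lib.Helper38_Hall1 Cfsg.Agent.Lib.Helper38_Hall2
open Cfsg.Agent.Lib.Helper38_KAlt

variable {α : Type*} [Fintype α] [DecidableEq α]

namespace LWData

variable {G : Subgroup (Perm α)} {t : ℕ}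

/-- if the stabilisers of `t` points are trivial, non-identity elements fix fewer than `t`
points -/
theorem fix_lt_of_h_one (D : LWData G t) (T : Finset α) (hT : T.card = t)
    (h1 : Nat.card (fixG G T) = 1) {g : Perm α} (hg : g ∈ G) (hg1 : g ≠ 1) :
    (fixF g).card < t := by
  by_contra hlt
  push Not at hlt
  obtain ⟨T', hsub, hcard⟩ := Finset.exists_subset_card_eq hlt
  have h2 : Nat.card (fixG G T') = 1 := by rw [D.card_fixG_eq' T' T hcard hT]; exact h1
  rw [Subgroup.card_eq_one] at h2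
  have : g ∈ fixG G T' := mem_fixG.mpr ⟨hg, fun x hx => mem_fixF.mp (hsub hx)⟩
  rw [h2, Subgroup.mem_bot] at this
  exact hg1 this

/-- degree `7` with `t = 3` is impossible -/
theorem excl_7 (D : LWData G 3) (hn : Fintype.card α = 7) : False := by
  obtain ⟨T, hT⟩ := exists_finset_card (α := α) 3 (by omega)
  obtain ⟨Γ, hΓ⟩ := exists_finset_card (α := α) 4 (by omega)
  obtain ⟨S₀, hS₀⟩ := exists_finset_card (α := α) 5 (by omega)
  have f4 : (3 + 1).factorial = 24 := by decide
  have hodd := D.hodd T hT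
  obtain ⟨r, hr2, e1, e2, -, -⟩ := D.exists_numbers T hT Γ hΓ S₀ hS₀
  rw [hn] at e1
  rw [f4] at e2
  have hr4 : r ≤ 4 := Nat.le_of_dvd (by norm_num) ⟨_, (by rw [mul_comm]; exact e1)⟩
  have hpos : 0 < Nat.card (fixG G T) := Nat.card_pos
  have hh1 : Nat.card (fixG G T) = 1 ∧ r = 4 := by
    rw [Nat.odd_iff] at hodd
    interval_cases r
    · have : Nat.card (fixG G T) = 2 := by omega
      omega
    · omega
    · exact ⟨by omega, rfl⟩
  obtain ⟨hh, rfl⟩ := hh1
  have ha : Nat.card (setStab G Γ) = 6 := by omega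
  have hfix2 : ∀ g ∈ G, g ≠ 1 → (fixF g).card < 3 := fun g hg hg1 =>
    D.fix_lt_of_h_one T hT hh hg hg1
  have hΓpres : ∀ g ∈ setStab G Γ, ∀ x, g x ∈ Γ ↔ x ∈ Γ := fun g hg => hg.2
  -- an element of order three
  have : Fact (Nat.Prime 3) := ⟨Nat.prime_three⟩
  have : Fact (Nat.Prime 2) := ⟨Nat.prime_two⟩
  obtain ⟨⟨g₃, hg₃A⟩, hg₃ord⟩ := exists_prime_orderOf_dvd_card' (G := setStab G Γ) 3
    (by rw [ha]; norm_num)
  have hg₃ord' : orderOf g₃ = 3 := by
    rw [← hg₃ord]; exact (Subgroup.orderOf_mk g₃ hg₃A).symm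
  have hg₃1 : g₃ ≠ 1 := by
    intro h; rw [h, orderOf_one] at hg₃ord'; omega
  have hg₃3 : g₃ ^ 3 = 1 := by rw [← hg₃ord']; exact pow_orderOf_eq_one g₃
  have hg₃G : g₃ ∈ G := hg₃A.1
  -- its unique fixed point lies in `Γ`
  have hf₃ : (fixF g₃).card = 1 := by
    have h1 := hfix2 g₃ hg₃G hg₃1
    have h2 := card_fixF_modEq (p := 3) g₃ hg₃3
    rw [hn] at h2
    have h3 : (fixF g₃).card % 3 = 7 % 3 := h2
    omega
  have hfΓ : (Γ.filter (fun x => g₃ x = x)).card = 1 := by
    have h1 : (Γ.filter (fun x => g₃ x = x)).card ≤ (fixF g₃).card := by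
      apply Finset.card_le_card
      intro x hx
      rw [Finset.mem_filter] at hx
      exact mem_fixF.mpr hx.2
    have h2 := card_fix_modEq (p := 3) g₃ hg₃3 Γ (hΓpres g₃ hg₃A)
    rw [hΓ] at h2
    have h3 : (Γ.filter (fun x => g₃ x = x)).card % 3 = 4 % 3 := h2
    omega
  obtain ⟨x, hx⟩ := Finset.card_eq_one.mp hfΓ
  have hxmem : x ∈ Γ.filter (fun x => g₃ x = x) := by rw [hx]; exact Finset.mem_singleton_self _
  rw [Finset.mem_filter] at hxmem
  obtain ⟨hxΓ, hg₃x⟩ := hxmem
  have hfix_unique : ∀ y, g₃ y = y → y = x := by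
    intro y hy
    have h1 : ({x, y} : Finset α) ⊆ fixF g₃ := by
      intro z hz
      rw [Finset.mem_insert, Finset.mem_singleton] at hz
      rcases hz with rfl | rfl
      · exact mem_fixF.mpr hg₃x
      · exact mem_fixF.mpr hy
    have h2 := Finset.card_le_card h1
    rw [hf₃] at h2
    by_contra hne
    rw [Finset.card_pair (fun h => hne h.symm)] at h2
    omega
  -- an involution, without fixed points on `Γ`
  obtain ⟨v, hvA, hvv, hv1⟩ := exists_invol_of_even (setStab G Γ) (by rw [ha]; decide)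
  have hvG : v ∈ G := hvA.1
  have hfv : (fixF v).card = 1 := by
    have h1 := hfix2 v hvG hv1
    have h2 := fixF_card_of_invol hvv
    rw [hn] at h2
    omega
  have hvΓ : ∀ y ∈ Γ, v y ≠ y := by
    have h1 : (Γ.filter (fun x => v x = x)).card ≤ (fixF v).card := by
      apply Finset.card_le_card
      intro x hx
      rw [Finset.mem_filter] at hx
      exact mem_fixF.mpr hx.2
    have h2 := card_fix_modEq (p := 2) v (by rw [pow_two]; exact hvv) Γ (hΓpres v hvA)
    rw [hΓ] at h2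
    have h3 : (Γ.filter (fun x => v x = x)).card % 2 = 4 % 2 := h2
    have h4 : (Γ.filter (fun x => v x = x)).card = 0 := by omega
    intro y hy hvy
    have : y ∈ Γ.filter (fun x => v x = x) := Finset.mem_filter.mpr ⟨hy, hvy⟩
    rw [Finset.card_eq_zero] at h4
    rw [h4] at this
    exact absurd this (Finset.notMem_empty _)
  -- `⟨g₃⟩` has index two in the set stabiliser, hence is normalised by `v`
  have hBle : Subgroup.zpowers g₃ ≤ setStab G Γ := (Subgroup.zpowers_le).mpr hg₃A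
  have hBcard : Nat.card (Subgroup.zpowers g₃) = 3 := by rw [Nat.card_zpowers, hg₃ord']
  have hrel : (Subgroup.zpowers g₃).relIndex (setStab G Γ) = 2 := by
    have := card_mul_relIndex hBle
    rw [hBcard, ha] at this
    omega
  have hnormal : ((Subgroup.zpowers g₃).subgroupOf (setStab G Γ)).Normal :=
    Subgroup.normal_of_index_eq_two hrel
  have hconj : v * g₃ * v⁻¹ ∈ Subgroup.zpowers g₃ := by
    have := hnormal.conj_mem ⟨g₃, hg₃A⟩
      (Subgroup.mem_subgroupOf.mpr (Subgroup.mem_zpowers g₃)) ⟨v, hvA⟩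
    rw [Subgroup.mem_subgroupOf] at this
    simpa using this
  set w := v * g₃ * v⁻¹ with hw
  have hwx : w x = x := zpowers_fix hconj hg₃x
  have hwvx : w (v x) = v x := by
    rw [hw, Perm.mul_apply, Perm.mul_apply, inv_apply_self', hg₃x]
  -- `g₃` fixes `v⁻¹ x`
  have h5 : g₃ (v⁻¹ x) = v⁻¹ x := by
    have h6 : v (g₃ (v⁻¹ x)) = x := by
      have := hwx
      rw [hw, Perm.mul_apply, Perm.mul_apply] at this
      exact this
    have h6' := congrArg (fun z => v⁻¹ z) h6
    simpa using h6'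
  have h7 := hfix_unique _ h5
  have h8 : v x = x := by
    have : v (v⁻¹ x) = v x := by rw [h7]
    rw [apply_inv_self'] at this
    exact this.symm
  exact hvΓ x hxΓ h8

end LWData

end Cfsg.Agent.Lib.Helper38_LW
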