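import Mathlib
import Cfsg.Agent.S0713
import Cfsg.Agent.Lib.Helper10_ConjAction
import Cfsg.Agent.Lib.Helper38_PermTools
import Cfsg.Agent.Lib.Helper38_W1310A0
import Cfsg.Agent.Lib.Helper38_Hall0
import Cfsg.Agent.Lib.Helper38_Hall1
import Cfsg.Agent.Lib.Helper38_Hall2
import Cfsg.Agent.Lib.Helper38_KAlt0
import Cfsg.Agent.Lib.Helper38_KAlt3
import Cfsg.Agent.Lib.Helper38_KAlt5
import Cfsg.Agent.Lib.Helper38_LW0
import Cfsg.Agent.Lib.Helper38_LW1
import Cfsg.Agent.Lib.Helper38_LW2
import Cfsg.Agent.Lib.Helper38_LW3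

/-!
# Livingstone–Wagner: the exclusion of degree `24` (helper38)
-/

set_option autoImplicit false
set_option linter.unusedSectionVars false

namespace Cfsg.Agent.Lib.Helper38_LW

open Equiv MulAction
open scoped Pointwise
open Cfsg.Agent.S0713 (apply_inv_self' inv_apply_self')
open Cfsg.Agent.Lib.Helper38_PermTools Cfsg.Agent.Lib.Helper38_W1310A0
open Cfsg.Agent.Lib.Helper38_Hall0 Cfsg.Agent.Lib.Helper38_Hall1 Cfsg.Agent.Lib.Helper38_Hall2
open Cfsg.Agent.Lib.Helper38_KAlt

variable {α : Type*} [Fintype α] [DecidableEq α]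

namespace LWData

variable {G : Subgroup (Perm α)} {t : ℕ}

/-- degree `24` with `t = 3` is impossible: the stabiliser of two points has order `154`, its
normal Sylow `11`-subgroup is centralised by a three point stabiliser of order `7`, which then
fixes a fourth point -/
theorem excl_24 (D : LWData G 3) (hn : Fintype.card α = 24) : False := by
  obtain ⟨T, hT⟩ := exists_finset_card (α := α) 3 (by omega)
  obtain ⟨Γ, hΓ⟩ := exists_finset_card (α := α) 4 (by omega)
  obtain ⟨S₀, hS₀⟩ := exists_finset_card (α := α) 5 (by omega)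
  obtain ⟨r, hr2, e1, e2, e3, -⟩ := D.exists_numbers T hT Γ hΓ S₀ hS₀
  rw [hn] at e1 e3
  have f4 : (3 + 1).factorial = 24 := by decide
  have f5 : (3 + 2).factorial = 120 := by decide
  rw [f4] at e2
  rw [f5] at e3
  have hh : Nat.card (fixG G T) = 7 := by
    have hr24 : r ≤ 24 := Nat.le_of_dvd (by norm_num) ⟨_, e2⟩
    interval_cases r <;> omega
  obtain ⟨c, p, q, hcp, hcq, hpq, rfl⟩ := Finset.card_eq_three.mp hT
  have hcnot : c ∉ ({p, q} : Finset α) := by
    simp [hcp, hcq]
  have hrel := relIndex_fixG_insert G D.trans (by omega) ({p, q} : Finset α)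
    (by rw [Finset.card_pair hpq]; norm_num) hcnot
  have hcompl : (({p, q} : Finset α)ᶜ).card = 22 := by
    rw [Finset.card_compl, hn, Finset.card_pair hpq]
  set L := fixG G ({p, q} : Finset α) with hL
  have hKL : fixG G ({c, p, q} : Finset α) ≤ L :=
    fixG_mono G (Finset.subset_insert _ _)
  have hLcard : Nat.card L = 154 := by
    have := card_mul_relIndex hKL
    rw [hrel, hcompl, hh] at this
    omega
  have : Fact (Nat.Prime 11) := ⟨by norm_num⟩
  have : Fact (Nat.Prime 7) := ⟨by norm_num⟩
  -- the Sylow `11`-subgroup of `L`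
  let P : Sylow 11 L := default
  have hPcard : Nat.card P = 11 := by
    rw [Sylow.card_eq_multiplicity, hLcard]
    have : (154 : ℕ).factorization 11 = 1 := by
      have h154 : (154 : ℕ) = 11 * 14 := by norm_num
      rw [h154, Nat.factorization_mul (by norm_num) (by norm_num)]
      simp only [Finsupp.coe_add, Pi.add_apply]
      rw [Nat.Prime.factorization_self (by norm_num),
        Nat.factorization_eq_zero_of_not_dvd (by norm_num)]
    rw [this, pow_one]
  have hPindex : (P : Subgroup L).index = 14 := by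
    have := (P : Subgroup L).card_mul_index
    rw [hLcard] at this
    have h11 : Nat.card (P : Subgroup L) = 11 := hPcard
    rw [h11] at this
    omega
  have hsub : Subsingleton (Sylow 11 L) := by
    have h1 := card_sylow_modEq_one 11 L
    have h2 := P.card_dvd_index
    rw [hPindex] at h2
    have h3 : Nat.card (Sylow 11 L) ≤ 14 := Nat.le_of_dvd (by norm_num) h2
    have h4 : Nat.card (Sylow 11 L) = 1 := by
      have h1' : Nat.card (Sylow 11 L) % 11 = 1 % 11 := h1
      interval_cases (Nat.card (Sylow 11 L)) <;> first | rfl | omega | (exact absurd h2 (by decide))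
    exact (Nat.card_eq_one_iff_unique.mp h4).1
  have hnorm : ∀ g : L, g ∈ Subgroup.normalizer ((P : Subgroup L) : Set L) := by
    intro g
    have h := (Sylow.smul_eq_iff_mem_normalizer (g := g) (P := P)).mp (Subsingleton.elim _ _)
    exact h
  -- an element of order `7` fixing `c, p, q`
  obtain ⟨η₀, hη₀⟩ := exists_prime_orderOf_dvd_card' (G := fixG G ({c, p, q} : Finset α)) 7
    (by rw [hh])
  have hηord : orderOf (η₀ : Perm α) = 7 := by rw [Subgroup.orderOf_coe]; exact hη₀
  set η : Perm α := (η₀ : Perm α) with hη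
  have hηK : η ∈ fixG G ({c, p, q} : Finset α) := η₀.2
  have hηL : η ∈ L := hKL hηK
  -- `η` centralises the Sylow `11`-subgroup
  have hQ : IsPGroup 7 (Subgroup.zpowers (⟨η, hηL⟩ : L)) := by
    apply IsPGroup.of_card (n := 1)
    rw [Nat.card_zpowers, pow_one, Subgroup.orderOf_mk, hηord]
  have hmod := Cfsg.Agent.Lib.Helper10_ConjAction.card_modEq_card_centralizer
    (Subgroup.zpowers (⟨η, hηL⟩ : L)) (P : Subgroup L) hQ (fun g _ => hnorm g)
  have hle : ((P : Subgroup L) ⊓ Subgroup.centralizer (Subgroup.zpowers (⟨η, hηL⟩ : L) : Set L))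
      ≤ (P : Subgroup L) := inf_le_left
  have hdvd := Subgroup.card_dvd_of_le hle
  have hcent : (P : Subgroup L) ≤ Subgroup.centralizer (Subgroup.zpowers (⟨η, hηL⟩ : L) : Set L) := by
    have h11 : Nat.card (P : Subgroup L) = 11 := hPcard
    rw [h11] at hdvd hmod
    have hc : Nat.card ((P : Subgroup L) ⊓
        Subgroup.centralizer (Subgroup.zpowers (⟨η, hηL⟩ : L) : Set L) : Subgroup L) = 11 := by
      have hmod' : 11 % 7 = Nat.card ((P : Subgroup L) ⊓
        Subgroup.centralizer (Subgroup.zpowers (⟨η, hηL⟩ : L) : Set L) : Subgroup L) % 7 := hmod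
      rcases (Nat.dvd_prime (by norm_num : Nat.Prime 11)).mp hdvd with h | h
      · rw [h] at hmod'; omega
      · exact h
    have := Subgroup.eq_of_le_of_card_ge hle (by rw [hc, h11])
    rw [← this]
    exact inf_le_right
  -- an element of order `11` in `L`
  obtain ⟨σ₀, hσ₀⟩ := exists_prime_orderOf_dvd_card' (G := (P : Subgroup L)) 11
    (by rw [show Nat.card (P : Subgroup L) = 11 from hPcard])
  have hσcomm : (σ₀ : L) * ⟨η, hηL⟩ = ⟨η, hηL⟩ * (σ₀ : L) := by
    have := hcent σ₀.2
    rw [Subgroup.mem_centralizer_iff] at this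
    exact (this _ (Subgroup.mem_zpowers _)).symm
  set σ : Perm α := ((σ₀ : L) : Perm α) with hσ
  have hσL : σ ∈ L := (σ₀ : L).2
  have hσord : orderOf σ = 11 := by
    rw [hσ, Subgroup.orderOf_coe, Subgroup.orderOf_coe]; exact hσ₀
  have hcomm : σ * η = η * σ := by
    have := congrArg (fun z : L => (z : Perm α)) hσcomm
    simpa using this
  have hσ1 : σ ≠ 1 := by
    intro h
    rw [h, orderOf_one] at hσord
    omega
  have hσG : σ ∈ G := fixG_le G _ hσL
  have hσp : σ p = p := (mem_fixG.mp hσL).2 p (by simp)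
  have hσq : σ q = q := (mem_fixG.mp hσL).2 q (by simp)
  have hfix3 := D.fix_le hσG hσ1
  have hfixmod : (fixF σ).card % 11 = 24 % 11 := by
    have := card_fixF_modEq (p := 11) σ (by rw [← hσord]; exact pow_orderOf_eq_one σ)
    rw [hn] at this
    exact this
  have hσc : σ c ≠ c := by
    intro hc
    have hsub3 : ({c, p, q} : Finset α) ⊆ fixF σ := by
      intro x hx
      rw [mem_fixF]
      simp only [Finset.mem_insert, Finset.mem_singleton] at hx
      rcases hx with rfl | rfl | rfl
      · exact hc
      · exact hσp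
      · exact hσq
    have := Finset.card_le_card hsub3
    rw [hT] at this
    omega
  have hηc : η c = c := (mem_fixG.mp hηK).2 c (by simp)
  have hηp : η p = p := (mem_fixG.mp hηK).2 p (by simp)
  have hηq : η q = q := (mem_fixG.mp hηK).2 q (by simp)
  have hησc : η (σ c) = σ c := by
    have := congrArg (fun z : Perm α => z c) hcomm
    simp only [Perm.mul_apply] at this
    rw [hηc] at this
    exact this.symm
  have hσcp : σ c ≠ p := by
    intro h
    rw [← hσp] at h
    exact hcp (σ.injective h)
  have hσcq : σ c ≠ q := by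
    intro h
    rw [← hσq] at h
    exact hcq (σ.injective h)
  have hη1 : η = 1 := by
    apply D.eq_one_of_fix (mem_fixG.mp hηK).1 (insert (σ c) ({c, p, q} : Finset α))
    · rw [Finset.card_insert_of_notMem, hT]
      simp [hσc, hσcp, hσcq]
    · intro x hx
      simp only [Finset.mem_insert, Finset.mem_singleton] at hx
      rcases hx with rfl | rfl | rfl | rfl
      · exact hησc
      · exact hηc
      · exact hηp
      · exact hηq
  rw [hη1, orderOf_one] at hηord
  omega

end LWData

end Cfsg.Agent.Lib.Helper38_LW
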