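import Mathlib
import Cfsg.Agent.S0713
import Cfsg.Agent.S0417
import Cfsg.Agent.Lib.Helper38_PermTools
import Cfsg.Agent.Lib.Helper38_W1310A0
import Cfsg.Agent.Lib.Helper38_Hall0
import Cfsg.Agent.Lib.Helper38_Hall1
import Cfsg.Agent.Lib.Helper38_Hall2
import Cfsg.Agent.Lib.Helper38_Hall8
import Cfsg.Agent.Lib.Helper38_KAlt0
import Cfsg.Agent.Lib.Helper38_KAlt3
import Cfsg.Agent.Lib.Helper38_KAlt4
import Cfsg.Agent.Lib.Helper38_KAlt5
import Cfsg.Agent.Lib.Helper38_LW0
import Cfsg.Agent.Lib.Helper38_LW1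
import Cfsg.Agent.Lib.Helper38_LW2
import Cfsg.Agent.Lib.Helper38_LW3
import Cfsg.Agent.Lib.Helper38_LW4
import Cfsg.Agent.Lib.Helper38_LW5

/-!
# Livingstone–Wagner: the classification of the sharp configurations (helper38)
-/

set_option autoImplicit false
set_option linter.unusedSectionVars false

namespace Cfsg.Agent.Lib.Helper38_LW

open Equiv MulAction
open scoped Pointwise
open Cfsg.Agent.S0713 (apply_inv_self' inv_apply_self')
open Cfsg.Agent.Lib.Helper38_PermTools Cfsg.Agent.Lib.Helper38_W1310A0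
open Cfsg.Agent.Lib.Helper38_Hall0 Cfsg.Agent.Lib.Helper38_Hall1 Cfsg.Agent.Lib.Helper38_Hall2
open Cfsg.Agent.Lib.Helper38_KAlt

variable {α : Type*} [Fintype α] [DecidableEq α]

namespace LWData

variable {G : Subgroup (Perm α)} {t : ℕ}

/-- the numbers, for arbitrary sets of the right sizes -/
theorem exists_numbers' (D : LWData G t) :
    ∃ h r a b : ℕ, Odd h ∧ 2 ≤ r ∧ Fintype.card α - t = h * r ∧
      (t + 1).factorial = r * a ∧ (t + 2).factorial = r * (Fintype.card α - t - 1) * b ∧
      Nat.card G = (Fintype.card α).descFactorial t * h ∧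
      (∀ T : Finset α, T.card = t → Nat.card (fixG G T) = h) := by
  have htn := D.htn
  obtain ⟨T, hT⟩ := exists_finset_card (α := α) t (by omega)
  obtain ⟨Γ, hΓ⟩ := exists_finset_card (α := α) (t + 1) (by omega)
  obtain ⟨S, hS⟩ := exists_finset_card (α := α) (t + 2) (by omega)
  obtain ⟨r, hr2, e1, e2, e3, eN⟩ := D.exists_numbers T hT Γ hΓ S hS
  exact ⟨_, r, _, _, D.hodd T hT, hr2, e1, e2, e3, eN,
    fun T' hT' => D.card_fixG_eq' T' T hT' hT⟩

/-- the case of degree `t + 2` -/
theorem top_case (D : LWData G t) (hn : Fintype.card α = t + 2) : G = alternatingGroup α := by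
  obtain ⟨h, r, a, b, hodd, hr2, e1, -, -, eN, -⟩ := D.exists_numbers'
  have hm : Fintype.card α - t = 2 := by omega
  rw [hm] at e1
  have hr : r = 2 := by
    have : r ≤ 2 := Nat.le_of_dvd (by norm_num) ⟨h, by rw [mul_comm]; exact e1⟩
    omega
  subst hr
  have hh : h = 1 := by omega
  subst hh
  rw [mul_one] at eN
  have hfac := Nat.factorial_mul_descFactorial (n := Fintype.card α) (k := t) (by omega)
  rw [hm, ← eN] at hfac
  apply Perm.eq_alternatingGroup_of_index_eq_two
  have hidx := G.index_mul_card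
  rw [Nat.card_perm, Nat.card_eq_fintype_card (α := α), ← hfac] at hidx
  have hpos : 0 < Nat.card G := Nat.card_pos
  have h2 : Nat.factorial 2 = 2 := rfl
  rw [h2] at hidx
  exact Nat.eq_of_mul_eq_mul_right hpos hidx

/-- the case of degree `t + 3` with `G` containing the alternating group -/
theorem alt_case (D : LWData G t) (hn : Fintype.card α = t + 3)
    (halt : alternatingGroup α ≤ G) : False := by
  obtain ⟨h, r, a, b, hodd, hr2, e1, -, -, eN, -⟩ := D.exists_numbers'
  have hm : Fintype.card α - t = 3 := by omega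
  rw [hm] at e1
  have hr : r = 3 := by
    have hr3 : r ≤ 3 := Nat.le_of_dvd (by norm_num) ⟨h, by rw [mul_comm]; exact e1⟩
    have : r = 2 ∨ r = 3 := by omega
    rcases this with rfl | rfl
    · omega
    · rfl
  subst hr
  have hh : h = 1 := by omega
  subst hh
  rw [mul_one] at eN
  have hfac := Nat.factorial_mul_descFactorial (n := Fintype.card α) (k := t) (by omega)
  rw [hm, ← eN] at hfac
  have : Nontrivial α := by
    rw [← Fintype.one_lt_card_iff_nontrivial]; omega
  have h2 := two_mul_nat_card_alternatingGroup (α := α)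
  rw [Nat.card_perm, Nat.card_eq_fintype_card (α := α), ← hfac] at h2
  have hle := Subgroup.card_le_of_le halt
  have h6 : Nat.factorial 3 = 6 := rfl
  rw [h6] at h2
  have hpos : 0 < Nat.card G := Nat.card_pos
  omega

/-- the case of degree `t + 7` -/
theorem eleven_case (D : LWData G t) (ht : 4 ≤ t) (hn : Fintype.card α = t + 7) : False := by
  obtain ⟨h, r, a, b, hodd, hr2, e1, e2, -, -, hall⟩ := D.exists_numbers'
  have hm : Fintype.card α - t = 7 := by omega
  rw [hm] at e1
  have hr : r = 7 := by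
    have hr7 : r ≤ 7 := Nat.le_of_dvd (by norm_num) ⟨h, by rw [mul_comm]; exact e1⟩
    interval_cases r <;> omega
  subst hr
  have hh : h = 1 := by omega
  subst hh
  rcases Nat.lt_or_ge t 6 with h6 | h6
  · have : t = 4 ∨ t = 5 := by omega
    rcases this with rfl | rfl
    · have f : (4 + 1).factorial = 120 := by decide
      rw [f] at e2; omega
    · have f : (5 + 1).factorial = 720 := by decide
      rw [f] at e2; omega
  · have hst := sharp_of' G hall
    have := D.trans
    have := Cfsg.Agent.S0417.result G t h6 (by omega) hst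
    omega

/-- the case `t ≥ 4`, via M. Hall's theorem -/
theorem hall_case {j : ℕ} (D : LWData G (j + 4)) :
    Fintype.card α = j + 4 + 2 ∧ G = alternatingGroup α := by
  have htn := D.htn
  have hodd : ∀ T : Finset α, T.card = j + 4 → Odd (Nat.card (fixG G T)) :=
    fun T hT => D.hodd T hT
  obtain ⟨Γ₀, hΓ₀⟩ := exists_finset_card (α := α) j (by omega)
  have hG' := res_fix_pretransitive G D.trans Γ₀ hΓ₀
  have hO := oddStab_res G hodd Γ₀ hΓ₀
  have hcβ : Fintype.card {x // x ∈ Γ₀ᶜ} = Fintype.card α - j := by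
    rw [Fintype.card_coe, Finset.card_compl, hΓ₀]
  obtain ⟨x⟩ : Nonempty (Fin 4 ↪ {x // x ∈ Γ₀ᶜ}) := by
    apply Function.Embedding.nonempty_of_card_le
    rw [Fintype.card_fin, hcβ]; omega
  have hall := hall_main (resGroup (fixG G Γ₀) Γ₀ᶜ) hG' x
    (by rw [card_stabilizer_eq]; exact hO _ (card_image_emb x))
  have halt : alternatingGroup {x // x ∈ Γ₀ᶜ} ≤ resGroup (fixG G Γ₀) Γ₀ᶜ →
      alternatingGroup α ≤ G := fun h =>
    alt_le_of_alt_res G (by omega) (by omega) D.trans Γ₀ h (by rw [hcβ]; omega)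
  rcases hall with ⟨h45, -⟩ | ⟨h67, halt'⟩ | ⟨h11, -⟩
  · exfalso; rw [hcβ] at h45; omega
  · rw [hcβ] at h67
    have hle := halt (by rw [halt'])
    rcases h67 with h6 | h7
    · have hn : Fintype.card α = j + 4 + 2 := by omega
      exact ⟨hn, D.top_case hn⟩
    · exfalso; exact D.alt_case (by omega) hle
  · exfalso; rw [hcβ] at h11; exact D.eleven_case (by omega) (by omega)

end LWData

/-! ### The enumeration for `t ≤ 3` -/

theorem enum1 {m h r a b : ℕ} (hr : 2 ≤ r) (hm : m = h * r) (hodd : Odd h)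
    (e2 : 2 = r * a) (e3 : 6 = r * (m - 1) * b) : m = 2 := by
  obtain ⟨j, rfl⟩ := hodd
  have hr2 : r ≤ 2 := Nat.le_of_dvd (by norm_num) ⟨a, e2⟩
  have hr' : r = 2 := by omega
  subst hr'
  have hb : b ≠ 0 := by
    rintro rfl
    omega
  have hm1 : m - 1 ≤ 6 := Nat.le_of_dvd (by norm_num) ⟨2 * b, by rw [e3]; ring⟩
  have hm7 : m ≤ 7 := by omega
  interval_cases m <;> omega

theorem enum2 {m h r a b : ℕ} (hr : 2 ≤ r) (hm : m = h * r) (hodd : Odd h)
    (e2 : 6 = r * a) (e3 : 24 = r * (m - 1) * b) :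
    (m = 2 ∧ h = 1) ∨ (m = 3 ∧ h = 1) ∨ (m = 9 ∧ h = 3) := by
  obtain ⟨j, rfl⟩ := hodd
  have hr6 : r ≤ 6 := Nat.le_of_dvd (by norm_num) ⟨a, e2⟩
  have hb : b ≠ 0 := by
    rintro rfl
    omega
  have hm1 : m - 1 ≤ 24 := Nat.le_of_dvd (by norm_num) ⟨r * b, by rw [e3]; ring⟩
  have hm25 : m ≤ 25 := by omega
  interval_cases r <;> first | omega | (interval_cases m <;> omega)

theorem enum3 {m h r a b : ℕ} (hr : 2 ≤ r) (hm : m = h * r) (hodd : Odd h)
    (e2 : 24 = r * a) (e3 : 120 = r * (m - 1) * b) :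
    (m = 2 ∧ h = 1) ∨ (m = 6 ∧ h = 3) ∨ (m = 3 ∧ h = 1) ∨ (m = 9 ∧ h = 3) ∨
      (m = 21 ∧ h = 7) ∨ (m = 4 ∧ h = 1) ∨ (m = 6 ∧ h = 1) := by
  obtain ⟨j, rfl⟩ := hodd
  have hr24 : r ≤ 24 := Nat.le_of_dvd (by norm_num) ⟨a, e2⟩
  have hb : b ≠ 0 := by
    rintro rfl
    omega
  have hm1 : m - 1 ≤ 120 := Nat.le_of_dvd (by norm_num) ⟨r * b, by rw [e3]; ring⟩
  have hm121 : m ≤ 121 := by omega
  interval_cases r <;> first | omega | (interval_cases m <;> omega)

namespace LWData

variable {G : Subgroup (Perm α)} {t : ℕ}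

/-- **Livingstone–Wagner, the exceptional configurations.** -/
theorem core (D : LWData G t) :
    (Fintype.card α = t + 2 ∧ G = alternatingGroup α) ∨
    (t = 2 ∧ Fintype.card α = 5 ∧ Nat.card G = 20) ∨
    (t = 3 ∧ Fintype.card α = 6 ∧ Nat.card G = 120) ∨
    (t = 3 ∧ Fintype.card α = 9 ∧ (Nat.card G = 504 ∨ Nat.card G = 1512)) := by
  have ht1 := D.ht1
  have htn := D.htn
  rcases Nat.lt_or_ge t 4 with ht4 | ht4
  · obtain ⟨h, r, a, b, hodd, hr2, e1, e2, e3, eN, -⟩ := D.exists_numbers'
    have ht : t = 1 ∨ t = 2 ∨ t = 3 := by omega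
    rcases ht with rfl | rfl | rfl
    · have f2 : (1 + 1).factorial = 2 := by decide
      have f3 : (1 + 2).factorial = 6 := by decide
      rw [f2] at e2
      rw [f3] at e3
      have hm := enum1 hr2 e1 hodd e2 e3
      left
      have hn : Fintype.card α = 1 + 2 := by omega
      exact ⟨hn, D.top_case hn⟩
    · have f3 : (2 + 1).factorial = 6 := by decide
      have f4 : (2 + 2).factorial = 24 := by decide
      rw [f3] at e2
      rw [f4] at e3
      rcases enum2 hr2 e1 hodd e2 e3 with ⟨hm, hh⟩ | ⟨hm, hh⟩ | ⟨hm, hh⟩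
      · left
        have hn : Fintype.card α = 2 + 2 := by omega
        exact ⟨hn, D.top_case hn⟩
      · right; left
        have hn : Fintype.card α = 5 := by omega
        refine ⟨rfl, hn, ?_⟩
        rw [eN, hn, hh]
        decide
      · exfalso
        exact D.excl_11 (by omega)
    · have f4 : (3 + 1).factorial = 24 := by decide
      have f5 : (3 + 2).factorial = 120 := by decide
      rw [f4] at e2
      rw [f5] at e3
      rcases enum3 hr2 e1 hodd e2 e3 with ⟨hm, hh⟩ | ⟨hm, hh⟩ | ⟨hm, hh⟩ | ⟨hm, hh⟩ |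
        ⟨hm, hh⟩ | ⟨hm, hh⟩ | ⟨hm, hh⟩
      · left
        have hn : Fintype.card α = 3 + 2 := by omega
        exact ⟨hn, D.top_case hn⟩
      · right; right; right
        have hn : Fintype.card α = 9 := by omega
        refine ⟨rfl, hn, Or.inr ?_⟩
        rw [eN, hn, hh]
        decide
      · right; right; left
        have hn : Fintype.card α = 6 := by omega
        refine ⟨rfl, hn, ?_⟩
        rw [eN, hn, hh]
        decide
      · exfalso
        exact D.excl_12 (by omega)
      · exfalso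
        exact D.excl_24 (by omega)
      · exfalso
        exact D.excl_7 (by omega)
      · right; right; right
        have hn : Fintype.card α = 9 := by omega
        refine ⟨rfl, hn, Or.inl ?_⟩
        rw [eN, hn, hh]
        decide
  · obtain ⟨j, rfl⟩ : ∃ j, t = j + 4 := ⟨t - 4, by omega⟩
    left
    exact D.hall_case

end LWData

end Cfsg.Agent.Lib.Helper38_LW
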