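import Mathlib
import Cfsg.Agent.S0713
import Cfsg.Agent.Lib.Helper38_PermTools
import Cfsg.Agent.Lib.Helper38_W1310A0
import Cfsg.Agent.Lib.Helper38_Hall0
import Cfsg.Agent.Lib.Helper38_Hall1
import Cfsg.Agent.Lib.Helper38_Hall2
import Cfsg.Agent.Lib.Helper38_Hall8
import Cfsg.Agent.Lib.Helper38_KAlt0
import Cfsg.Agent.Lib.Helper38_KAlt3
import Cfsg.Agent.Lib.Helper38_KAlt4
import Cfsg.Agent.Lib.Helper38_KAlt5
import Cfsg.Agent.Lib.Helper38_KAlt6
import Cfsg.Agent.Lib.Helper38_LW0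
import Cfsg.Agent.Lib.Helper38_LW1
import Cfsg.Agent.Lib.Helper38_LW3

/-!
# Livingstone–Wagner: `k`-homogeneous and `(k-1)`-transitive implies `k`-transitive (helper38)
-/

set_option autoImplicit false
set_option linter.unusedSectionVars false

namespace Cfsg.Agent.Lib.Helper38_LW

open Equiv MulAction
open scoped Pointwise
open Cfsg.Agent.S0713 (apply_inv_self' inv_apply_self')
open Cfsg.Agent.Lib.Helper38_PermTools Cfsg.Agent.Lib.Helper38_W1310A0
open Cfsg.Agent.Lib.Helper38_Hall0 Cfsg.Agent.Lib.Helper38_Hall1 Cfsg.Agent.Lib.Helper38_Hall2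
open Cfsg.Agent.Lib.Helper38_KAlt

universe u

variable {α : Type u} [Fintype α] [DecidableEq α]

/-- goodness is transported by the elements of `G` -/
theorem good_image {G : Subgroup (Perm α)} {Δ : Finset α} (h : Good G Δ) {g : Perm α}
    (hg : g ∈ G) : Good G (Δ.image g) := by
  intro τ h1 h2
  obtain ⟨m, hmG, hm⟩ := h (g⁻¹ * τ * g) (by
      intro x hx
      have hgx : g x ∉ Δ.image g := by
        intro hc
        obtain ⟨y, hy, hyx⟩ := Finset.mem_image.mp hc
        exact hx (g.injective hyx ▸ hy)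
      rw [Perm.mul_apply, Perm.mul_apply, h1 _ hgx, inv_apply_self'])
    (by rw [Perm.sign_mul, Perm.sign_mul, Perm.sign_inv, h2, mul_one, Int.units_mul_self])
  refine ⟨g * m * g⁻¹, G.mul_mem (G.mul_mem hg hmG) (G.inv_mem hg), ?_⟩
  intro y hy
  obtain ⟨x, hx, rfl⟩ := Finset.mem_image.mp hy
  rw [Perm.mul_apply, Perm.mul_apply, inv_apply_self', hm x hx, Perm.mul_apply, Perm.mul_apply,
    apply_inv_self']

/-- the alternating group together with a transposition gives the symmetric group -/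
theorem full_of_good_of_swap {G : Subgroup (Perm α)} {Δ : Finset α} (hgood : Good G Δ)
    {v : Perm α} (hv : v ∈ G) {y z : α} (hy : y ∈ Δ) (hz : z ∈ Δ) (hyz : y ≠ z)
    (hvy : v y = z) (hvz : v z = y) (hvfix : ∀ x ∈ Δ, x ≠ y → x ≠ z → v x = x) :
    ∀ σ : Perm {x // x ∈ Δ}, ∃ g ∈ G, ∀ x : {x // x ∈ Δ}, g (x : α) = σ x := by
  intro σ
  rcases Int.units_eq_one_or (Perm.sign σ) with hs | hs
  · exact hgood.to_statement σ (Perm.mem_alternatingGroup.mpr hs)
  · have hne : (⟨y, hy⟩ : {x // x ∈ Δ}) ≠ ⟨z, hz⟩ := fun h => hyz (congrArg Subtype.val h)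
    obtain ⟨g', hg'G, hg'⟩ := hgood.to_statement (σ * swap ⟨y, hy⟩ ⟨z, hz⟩)
      (Perm.mem_alternatingGroup.mpr (by rw [Perm.sign_mul, hs, Perm.sign_swap hne]; rfl))
    refine ⟨g' * v, G.mul_mem hg'G hv, fun x => ?_⟩
    have hvx : v (x : α) = ((swap (⟨y, hy⟩ : {x // x ∈ Δ}) ⟨z, hz⟩ x : {x // x ∈ Δ}) : α) := by
      rw [coe_swap_subtype]
      by_cases h1 : (x : α) = y
      · rw [h1, swap_apply_left, hvy]
      by_cases h2 : (x : α) = z
      · rw [h2, swap_apply_right, hvz]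
      · rw [swap_apply_of_ne_of_ne h1 h2]
        exact hvfix _ x.2 h1 h2
    rw [Perm.mul_apply, hvx, hg' _, Perm.mul_apply, swap_apply_self]

/-- a `k`-homogeneous group inducing at least the alternating group on every `k`-set, with an
involution fixing `k - 2` points, is `k`-transitive -/
theorem trans_of_invol (G : Subgroup (Perm α)) {k : ℕ} (hk : 2 ≤ k) (hom : Homog G k)
    (hgood : ∀ Δ : Finset α, Δ.card = k → Good G Δ) (T : Finset α) (hT : T.card = k - 2)
    {u : Perm α} (hu : u ∈ fixG G T) (huu : u * u = 1) (hu1 : u ≠ 1) :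
    IsMultiplyPretransitive G α k := by
  apply trans_of_homog_full G k hom
  intro Δ hΔ
  obtain ⟨c, hc⟩ : ∃ c, u c ≠ c := by
    by_contra h
    push Not at h
    exact hu1 (Perm.ext h)
  have hud : u (u c) = c := invol_apply huu c
  have hcT : c ∉ T := fun h => hc ((mem_fixG.mp hu).2 c h)
  have hdT : u c ∉ T := by
    intro h
    have := (mem_fixG.mp hu).2 (u c) h
    exact hc (u.injective this)
  have hcd : c ∉ insert (u c) T := by
    rw [Finset.mem_insert, not_or]
    exact ⟨fun h => hc h.symm, hcT⟩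
  have hΔ₀ : (insert c (insert (u c) T)).card = k := by
    rw [Finset.card_insert_of_notMem hcd, Finset.card_insert_of_notMem hdT, hT]
    omega
  obtain ⟨g₀, hg₀, hg₀Δ⟩ := hom _ Δ hΔ₀ hΔ
  have hmem : ∀ x, x ∈ insert c (insert (u c) T) → g₀ x ∈ Δ := by
    intro x hx
    rw [← hg₀Δ]
    exact Finset.mem_image_of_mem _ hx
  apply full_of_good_of_swap (hgood Δ hΔ) (v := g₀ * u * g₀⁻¹)
    (G.mul_mem (G.mul_mem hg₀ (mem_fixG.mp hu).1) (G.inv_mem hg₀))
    (y := g₀ c) (z := g₀ (u c)) (hmem c (Finset.mem_insert_self _ _))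
    (hmem (u c) (Finset.mem_insert_of_mem (Finset.mem_insert_self _ _)))
    (fun h => hc (g₀.injective h).symm)
  · rw [Perm.mul_apply, Perm.mul_apply, inv_apply_self']
  · rw [Perm.mul_apply, Perm.mul_apply, inv_apply_self', hud]
  · intro x hx hx1 hx2
    rw [← hg₀Δ] at hx
    obtain ⟨x', hx', rfl⟩ := Finset.mem_image.mp hx
    rw [Perm.mul_apply, Perm.mul_apply, inv_apply_self']
    rw [Finset.mem_insert, Finset.mem_insert] at hx'
    rcases hx' with rfl | rfl | hx'
    · exact absurd rfl hx1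
    · exact absurd rfl hx2
    · rw [(mem_fixG.mp hu).2 x' hx']

/-- **Livingstone–Wagner**, the step from `(k-1)`-transitivity to `k`-transitivity -/
theorem trans_of_homog_of_trans (G : Subgroup (Perm α)) {k : ℕ} (hk : 5 ≤ k)
    (hkn : 2 * k ≤ Fintype.card α) (hom : Homog G k)
    (htrans : IsMultiplyPretransitive G α (k - 1)) : IsMultiplyPretransitive G α k := by
  by_contra hnt
  obtain ⟨j, rfl⟩ : ∃ j, k = j + 5 := ⟨k - 5, by omega⟩
  have e1 : j + 5 - 1 = j + 4 := by omega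
  rw [e1] at htrans
  -- every `k`-set is good
  obtain ⟨Δ₁, hΔ₁, hgood₁⟩ := Cfsg.Agent.Lib.Helper38_KAlt.main (j + 4) (by omega)
    (Fintype.card α) α G rfl (by omega) htrans
  have hgood : ∀ Δ : Finset α, Δ.card = j + 5 → Good G Δ := by
    intro Δ hΔ
    obtain ⟨g, hg, hgΔ⟩ := hom Δ₁ Δ hΔ₁ hΔ
    rw [← hgΔ]
    exact good_image hgood₁ hg
  -- the stabilisers of `k - 2` points have odd order
  have hodd3 : ∀ T : Finset α, T.card = j + 3 → Odd (Nat.card (fixG G T)) := by
    intro T hT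
    by_contra hne
    rw [Nat.not_odd_iff_even] at hne
    obtain ⟨u, hu, huu, hu1⟩ := exists_invol_of_even _ hne
    exact hnt (trans_of_invol G (by omega) hom hgood T (by rw [hT]; omega) hu huu hu1)
  have hodd4 : ∀ T : Finset α, T.card = j + 4 → Odd (Nat.card (fixG G T)) := by
    intro T hT
    obtain ⟨T', hsub, hT'⟩ := Finset.exists_subset_card_eq (s := T) (n := j + 3) (by omega)
    exact Odd.of_dvd_nat (hodd3 T' hT') (Subgroup.card_dvd_of_le (fixG_mono G hsub))
  -- M. Hall's theorem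
  obtain ⟨Γ₀, hΓ₀⟩ := exists_finset_card (α := α) j (by omega)
  have hG' := res_fix_pretransitive G htrans Γ₀ hΓ₀
  have hO := oddStab_res G hodd4 Γ₀ hΓ₀
  have hcβ : Fintype.card {x // x ∈ Γ₀ᶜ} = Fintype.card α - j := by
    rw [Fintype.card_coe, Finset.card_compl, hΓ₀]
  obtain ⟨x⟩ : Nonempty (Fin 4 ↪ {x // x ∈ Γ₀ᶜ}) := by
    apply Function.Embedding.nonempty_of_card_le
    rw [Fintype.card_fin, hcβ]; omega
  have hall := hall_main (resGroup (fixG G Γ₀) Γ₀ᶜ) hG' x
    (by rw [card_stabilizer_eq]; exact hO _ (card_image_emb x))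
  rw [hcβ] at hall
  have hn : Fintype.card α = j + 11 := by
    rcases hall with ⟨h45, -⟩ | ⟨h67, -⟩ | ⟨h11, -⟩ <;> omega
  -- the stabiliser of `k - 2` points is transitive on the remaining `8` points
  obtain ⟨T, hT⟩ := exists_finset_card (α := α) (j + 3) (by omega)
  obtain ⟨ψ, hψ⟩ : ∃ ψ, ψ ∉ T := by
    by_contra hc
    push Not at hc
    have : T = Finset.univ := Finset.eq_univ_iff_forall.mpr hc
    rw [this, Finset.card_univ] at hT
    omega
  have hrel := relIndex_fixG_insert G htrans (by omega) T (by omega) hψ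
  rw [Finset.card_compl, hT, hn] at hrel
  have hmul := card_mul_relIndex (fixG_mono G (Finset.subset_insert ψ T))
  have h8 : j + 11 - (j + 3) = 8 := by omega
  rw [hrel, h8] at hmul
  have := hodd3 T hT
  rw [Nat.odd_iff] at this
  omega

end Cfsg.Agent.Lib.Helper38_LW
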