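import Mathlib
import Cfsg.Agent.Lib.Helper38_MIODefs

set_option autoImplicit false
set_option linter.unusedVariables false
set_option linter.unusedSimpArgs false
set_option linter.unusedSectionVars false

/-!
# S2143 (MIO, architect helper38), wave 2, package MIO-NUMODD:
the numerical hypotheses `Num` for the odd-dimensional orthogonal case.
-/

namespace Cfsg.Agent.Lib.Helper58_MIO_NUMODD

open Cfsg.Agent.Lib.Helper38_MIODefs

/-- The arithmetic core with all powers abstracted: `r = q - 1 = 2κ`, `Z = q^k`, `A = Z^2`. -/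
theorem num_core (r κ p Z A NW N : ℕ) (hr : r = 2 * κ) (hr4 : 4 ≤ r) (hA : A = Z * Z)
    (hZ : 5 * (r + 1) ≤ Z) (hNW : NW * r = A - 1) (hN : N * r = (r + 1) * (r + 1) * A - 1)
    (hpq : 5 ≤ p ∨ (3 ≤ p ∧ 8 ≤ r)) :
    N = 1 + (A - 1) + NW + (r + 1) * A ∧ N ≤ 2 * ((r + 1) * A) ∧
      1 + (A - 1) + NW ≤ κ * (A - Z) ∧ 1 + NW ≤ A - 1 ∧ N ≤ p * (κ * (A - Z)) ∧
      2 * N ≤ (A - Z) * A ∧ N ≤ (r + 1 + 2) * (A - 1) := by
  have hZ25 : 25 ≤ Z := by omega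
  have hAZ : 25 * Z ≤ A := by
    rw [hA]
    exact Nat.mul_le_mul_right Z hZ25
  have hA1 : 1 ≤ A := by omega
  obtain ⟨s, hs⟩ : ∃ s, A = s + 1 := ⟨A - 1, by omega⟩
  have hs' : A - 1 = s := by omega
  rw [hs'] at hNW ⊢
  obtain ⟨ℓ, hℓ⟩ : ∃ ℓ, A = ℓ + Z := ⟨A - Z, by omega⟩
  have hℓ' : A - Z = ℓ := by omega
  rw [hℓ']
  -- the product atoms
  obtain ⟨rA, hrA⟩ : ∃ rA, rA = r * A := ⟨_, rfl⟩
  obtain ⟨rZ, hrZ⟩ : ∃ rZ, rZ = r * Z := ⟨_, rfl⟩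
  obtain ⟨rℓ, hrℓ⟩ : ∃ rℓ, rℓ = r * ℓ := ⟨_, rfl⟩
  have f1 : rℓ + rZ = rA := by
    rw [hrℓ, hrZ, hrA, hℓ]
    ring
  have f2 : 25 * rZ ≤ rA := by
    rw [hrZ, hrA]
    calc 25 * (r * Z) = r * (25 * Z) := by ring
      _ ≤ r * A := Nat.mul_le_mul_left r hAZ
  have f3 : 4 * A ≤ rA := by
    rw [hrA]
    exact Nat.mul_le_mul_right A hr4
  have f4 : 4 * NW ≤ s := by
    rw [← hNW]
    calc 4 * NW = NW * 4 := by ring
      _ ≤ NW * r := Nat.mul_le_mul_left NW hr4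
  have f5 : (κ * ℓ) * 2 = rℓ := by
    rw [hrℓ, hr]
    ring
  have hrr : (r + 1) * A = rA + A := by
    rw [hrA]
    ring
  -- `N = A + NW + (r+1) A`
  have hNeq : N = A + NW + (r + 1) * A := by
    have h1 : 1 ≤ (r + 1) * (r + 1) * A := by
      have : 1 ≤ (r + 1) * (r + 1) := Nat.mul_pos (by omega) (by omega)
      exact Nat.mul_pos this hA1
    have h2 : N * r + 1 = (r + 1) * (r + 1) * A := by omega
    have h3 : (A + NW + (r + 1) * A) * r + 1 = (r + 1) * (r + 1) * A := by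
      have : (A + NW + (r + 1) * A) * r + 1 = A * r + NW * r + (r + 1) * A * r + 1 := by ring
      rw [this, hNW, hs]
      ring
    have h4 : N * r = (A + NW + (r + 1) * A) * r := by omega
    exact Nat.eq_of_mul_eq_mul_right (by omega) h4
  have hN2 : N = rA + 2 * A + NW := by
    rw [hNeq, hrr]
    ring
  refine ⟨?_, ?_, ?_, ?_, ?_, ?_, ?_⟩
  · rw [hNeq, hs]
    ring
  · rw [hrr]
    omega
  · omega
  · omega
  · obtain ⟨P, hP⟩ : ∃ P, P = p * (κ * ℓ) := ⟨_, rfl⟩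
    rw [← hP]
    rcases hpq with h5 | ⟨h3, h8⟩
    · have : 5 * (κ * ℓ) ≤ P := by
        rw [hP]
        exact Nat.mul_le_mul_right _ h5
      omega
    · have : 3 * (κ * ℓ) ≤ P := by
        rw [hP]
        exact Nat.mul_le_mul_right _ h3
      have f3' : 8 * A ≤ rA := by
        rw [hrA]
        exact Nat.mul_le_mul_right A h8
      omega
  · have h1 : 2 * N ≤ (2 * r + 5) * A := by
      have : (2 * r + 5) * A = 2 * rA + 5 * A := by
        rw [hrA]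
        ring
      omega
    have h2 : 2 * r + 5 ≤ ℓ := by omega
    exact le_trans h1 (Nat.mul_le_mul_right A h2)
  · have h1 : (r + 1 + 2) * s + (r + 3) = (r + 1 + 2) * A := by
      rw [hs]
      ring
    have h2 : (r + 1 + 2) * A = rA + 3 * A := by
      rw [hrA]
      ring
    omega

theorem num_odd (q p k : ℕ) (hq : 5 ≤ q) (hodd : Odd q) (hk : 2 ≤ k)
    (hpq : 5 ≤ p ∨ (3 ≤ p ∧ 9 ≤ q)) :
    Num q p (2 * k + 1) (q ^ (2 * k) - 1) (q ^ (2 * k) - q ^ k) ((q - 1) / 2)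
      ((q ^ (2 * k) - 1) / (q - 1)) ((q ^ (2 * k + 2) - 1) / (q - 1)) := by
  obtain ⟨r, hr⟩ : ∃ r, q = r + 1 := ⟨q - 1, by omega⟩
  subst hr
  obtain ⟨κ, hκ⟩ : ∃ κ, r = 2 * κ := by
    obtain ⟨t, ht⟩ := hodd
    exact ⟨t, by omega⟩
  have hr4 : 4 ≤ r := by omega
  have hq1 : r + 1 - 1 = r := by omega
  have hκ2 : r / 2 = κ := by omega
  rw [hq1, hκ2]
  obtain ⟨Z, hZ⟩ : ∃ Z, Z = (r + 1) ^ k := ⟨_, rfl⟩
  obtain ⟨A, hA⟩ : ∃ A, A = (r + 1) ^ (2 * k) := ⟨_, rfl⟩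
  have hAZ : A = Z * Z := by
    rw [hA, hZ, ← pow_add]
    congr 1
    omega
  have hd : (r + 1) ^ (2 * k + 1) = (r + 1) * A := by
    rw [hA, pow_succ]
    ring
  have hd2 : (r + 1) ^ (2 * k + 2) = (r + 1) * (r + 1) * A := by
    rw [hA, pow_succ, pow_succ]
    ring
  have hd1 : 2 * k + 1 - 1 = 2 * k := by omega
  have hZ5 : 5 * (r + 1) ≤ Z := by
    obtain ⟨j, hj⟩ : ∃ j, k = j + 2 := ⟨k - 2, by omega⟩
    rw [hZ, hj, pow_succ, pow_succ]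
    have h1 : 1 ≤ (r + 1) ^ j := Nat.one_le_pow _ _ (by omega)
    calc 5 * (r + 1) ≤ (r + 1) * (r + 1) := Nat.mul_le_mul_right _ (by omega)
      _ = 1 * (r + 1) * (r + 1) := by ring
      _ ≤ (r + 1) ^ j * (r + 1) * (r + 1) :=
        Nat.mul_le_mul_right _ (Nat.mul_le_mul_right _ h1)
  have hdvd1 : r ∣ A - 1 := by
    have := Nat.sub_dvd_pow_sub_pow (r + 1) 1 (2 * k)
    rw [one_pow, hq1, ← hA] at this
    exact this
  have hdvd2 : r ∣ (r + 1) * (r + 1) * A - 1 := by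
    have := Nat.sub_dvd_pow_sub_pow (r + 1) 1 (2 * k + 2)
    rw [one_pow, hq1, hd2] at this
    exact this
  rw [hd2, ← hA, ← hZ]
  have hNW : (A - 1) / r * r = A - 1 := Nat.div_mul_cancel hdvd1
  have hN : ((r + 1) * (r + 1) * A - 1) / r * r = (r + 1) * (r + 1) * A - 1 :=
    Nat.div_mul_cancel hdvd2
  have hpq' : 5 ≤ p ∨ (3 ≤ p ∧ 8 ≤ r) := by
    rcases hpq with h | ⟨h1, h2⟩
    · exact Or.inl h
    · exact Or.inr ⟨h1, by omega⟩
  obtain ⟨c1, c2, c3, c4, c5, c6, c7⟩ :=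
    num_core r κ p Z A ((A - 1) / r) (((r + 1) * (r + 1) * A - 1) / r) hκ hr4 hAZ hZ5 hNW hN hpq'
  refine ⟨hNW, ?_, ?_, c3, c4, c5, ?_, c7⟩
  · rw [hd]
    exact c1
  · rw [hd]
    exact c2
  · rw [hd1, ← hA]
    exact c6

end Cfsg.Agent.Lib.Helper58_MIO_NUMODD
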