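import Mathlib
import Cfsg.Agent.Lib.Helper38_MIODefs

set_option autoImplicit false

/-!
MIO-SQ (helper38 market, S2143): the square class of `c ≠ 0` in a finite field of odd characteristic has at
least `(q-1)/2` elements.
-/

namespace Cfsg.Agent.Lib.Helper61_MIO_SQ

open Cfsg.Agent.Lib.Helper38_MIODefs

theorem card_sq_class {F : Type*} [Field F] [Fintype F] (h2 : (2 : F) ≠ 0) (c : F) (hc : c ≠ 0) :
    (Fintype.card F - 1) / 2 ≤ Nat.card {c' : F // ∃ t : F, t ≠ 0 ∧ c' = t ^ 2 * c} := by
  classical
  set s : Finset F := Finset.univ.filter (fun t => t ≠ 0) with hs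
  have hscard : s.card = Fintype.card F - 1 := by
    rw [hs, Finset.filter_ne' Finset.univ (0 : F), Finset.card_erase_of_mem (Finset.mem_univ _),
      Finset.card_univ]
  set f : F → F := fun t => t ^ 2 * c with hf
  have hfib : ∀ a ∈ s.image f, (s.filter (fun t => f t = a)).card ≤ 2 := by
    intro a ha
    obtain ⟨t0, ht0, rfl⟩ := Finset.mem_image.mp ha
    have hsub : s.filter (fun t => f t = f t0) ⊆ {t0, -t0} := by
      intro t ht
      rw [Finset.mem_filter] at ht
      have h1 : t ^ 2 * c = t0 ^ 2 * c := ht.2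
      have h3 : t ^ 2 = t0 ^ 2 := mul_right_cancel₀ hc h1
      have h4 : (t - t0) * (t + t0) = 0 := by ring_nf; rw [h3]; ring
      rw [Finset.mem_insert, Finset.mem_singleton]
      rcases mul_eq_zero.mp h4 with h | h
      · left; exact sub_eq_zero.mp h
      · right; exact eq_neg_of_add_eq_zero_left h
    exact (Finset.card_le_card hsub).trans Finset.card_le_two
  have h1 : s.card ≤ 2 * (s.image f).card := Finset.card_le_mul_card_image s 2 hfib
  have h5 : (s.image f).card ≤ Nat.card {c' : F // ∃ t : F, t ≠ 0 ∧ c' = t ^ 2 * c} := by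
    rw [Nat.card_eq_fintype_card, Fintype.card_subtype]
    apply Finset.card_le_card
    intro a ha
    obtain ⟨t0, ht0, rfl⟩ := Finset.mem_image.mp ha
    rw [Finset.mem_filter]
    refine ⟨Finset.mem_univ _, t0, ?_, rfl⟩
    rw [hs, Finset.mem_filter] at ht0
    exact ht0.2
  omega

end Cfsg.Agent.Lib.Helper61_MIO_SQ
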