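/-
  S2143 market (architect helper38), package MIO-FIX: a member of a Siegel-symmetric family through `l`
  with `mult C l < p` is invariant under every Siegel element fixing `l`.
-/
import Mathlib
import Cfsg.Agent.Lib.Helper38_MIODefs

set_option autoImplicit false

namespace Cfsg.Agent.Lib.Helper78_MIO_FIX

open Module Cfsg.Agent.Lib.Helper94_OrthSmall Cfsg.Agent.Lib.Helper44_QuadClass
  Cfsg.Agent.Lib.Helper14_OmegaSimple Cfsg.Agent.Lib.Helper38_MIODefs

/-- A permutation `π` with `π ^ p = 1` (`p` prime) fixes every point of a `π`-stable finite set with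
fewer than `p` elements. -/
theorem perm_fixed_of_small {α : Type*} (π : Equiv.Perm α) (p : ℕ) (hp : p.Prime) (hπ : π ^ p = 1)
    (S : Set α) [Finite S] (hstab : ∀ a ∈ S, π a ∈ S) (hlt : Nat.card S < p) {a : α} (ha : a ∈ S) :
    π a = a := by
  have hper : Function.IsPeriodicPt (⇑π) p a := by
    unfold Function.IsPeriodicPt Function.IsFixedPt
    rw [Equiv.Perm.iterate_eq_pow, hπ]
    rfl
  have hdvd : Function.minimalPeriod (⇑π) a ∣ p := hper.minimalPeriod_dvd
  rcases (Nat.dvd_prime hp).mp hdvd with h1 | h1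
  · exact Function.minimalPeriod_eq_one_iff_isFixedPt.mp h1
  · exfalso
    have hiter : ∀ n : ℕ, (⇑π)^[n] a ∈ S := by
      intro n
      induction n with
      | zero => simpa using ha
      | succ n ih =>
        rw [Function.iterate_succ_apply']
        exact hstab _ ih
    let f : Fin p → S := fun i => ⟨(⇑π)^[i.1] a, hiter i.1⟩
    have hf : Function.Injective f := by
      intro i j hij
      have h2 : (⇑π)^[i.1] a = (⇑π)^[j.1] a := congrArg Subtype.val hij
      have hinj := Function.iterate_injOn_Iio_minimalPeriod (f := ⇑π) (x := a)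
      rw [h1] at hinj
      exact Fin.ext (hinj (Set.mem_Iio.mpr i.2) (Set.mem_Iio.mpr j.2) h2)
    have := Nat.card_le_card_of_injective f hf
    rw [Nat.card_eq_fintype_card, Fintype.card_fin] at this
    omega

section part1

variable {F W : Type*} [Field F] [Fintype F] [AddCommGroup W] [Module F W] [FiniteDimensional F W]

theorem fix (Q : QuadraticForm F W) {𝒪 : Type*} [Finite 𝒪] (C : 𝒪 → AddSubgroup W) (p : ℕ)
    (hp : p.Prime) (hS : SiegSym Q p C) {l : W} (hlt : mult C l < p) {u z : W} (hu : Q u = 0)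
    (huz : QuadraticMap.polar (⇑Q) u z = 0) (hfix : E Q u z l = l) {O : 𝒪} (hO : l ∈ C O) (x : W) :
    x ∈ C O ↔ E Q u z x ∈ C O := by
  obtain ⟨π, hπ, hπC⟩ := hS u z hu huz
  have hstab : ∀ a ∈ {O' : 𝒪 | l ∈ C O'}, π a ∈ {O' : 𝒪 | l ∈ C O'} := by
    intro a ha
    have := (hπC a l).mp ha
    rw [hfix] at this
    exact this
  have hfixO : π O = O :=
    perm_fixed_of_small π p hp hπ {O' : 𝒪 | l ∈ C O'} hstab hlt hO
  have := hπC O x
  rw [hfixO] at this
  exact this

end part1

end Cfsg.Agent.Lib.Helper78_MIO_FIX
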