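import Mathlib
import Cfsg.Agent.Lib.Helper38_MIODefs
import Cfsg.Agent.Lib.Helper17_MIO_TR
import Cfsg.Agent.Lib.Helper78_MIO_MASS
import Cfsg.Agent.Lib.Helper78_MIO_FIX
import Cfsg.Agent.Lib.Helper24_MIO_INVTS
import Cfsg.Agent.Lib.Helper2_MIO_INVNS
import Cfsg.Agent.Lib.Helper24_MIO_BIG
import Cfsg.Agent.Lib.Helper2_MIO_IMG
import Cfsg.Agent.Lib.Helper10_MIO_ANISO
import Cfsg.Agent.Lib.Helper61_MIO_SQ
import Cfsg.Agent.Lib.Helper58_MIO_NUMODD
import Cfsg.Agent.Lib.Helper96_MIO_TIGHT5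

set_option autoImplicit false

namespace Cfsg.Agent.Lib.Helper38_MIOCore

open Module Cfsg.Agent.Lib.Helper94_OrthSmall Cfsg.Agent.Lib.Helper44_QuadClass
  Cfsg.Agent.Lib.Helper14_OmegaSimple Cfsg.Agent.Lib.Helper38_MIODefs
  Cfsg.Agent.Lib.Helper17_MIO_TR Cfsg.Agent.Lib.Helper78_MIO_MASS Cfsg.Agent.Lib.Helper78_MIO_FIX
  Cfsg.Agent.Lib.Helper24_MIO_INVTS Cfsg.Agent.Lib.Helper2_MIO_INVNS Cfsg.Agent.Lib.Helper24_MIO_BIG
  Cfsg.Agent.Lib.Helper2_MIO_IMG Cfsg.Agent.Lib.Helper10_MIO_ANISO Cfsg.Agent.Lib.Helper61_MIO_SQ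
  Cfsg.Agent.Lib.Helper58_MIO_NUMODD Cfsg.Agent.Lib.Helper96_MIO_TIGHT5

variable {F W : Type*} [Field F] [Fintype F] [AddCommGroup W] [Module F W] [FiniteDimensional F W]

lemma card_W : Nat.card W = Fintype.card F ^ finrank F W := by
  have : Finite W := Module.finite_of_finite F
  let _ := Fintype.ofFinite W
  rw [Nat.card_eq_fintype_card]
  exact Module.card_eq_pow_finrank

lemma card_top : Nat.card (⊤ : AddSubgroup W) = Fintype.card F ^ finrank F W := by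
  rw [← card_W (F := F) (W := W)]
  exact Nat.card_congr (AddSubgroup.topEquiv (G := W)).toEquiv

lemma finite_W (F : Type*) {W : Type*} [Field F] [Fintype F] [AddCommGroup W] [Module F W]
    [FiniteDimensional F W] : Finite W := Module.finite_of_finite F

section mult

variable {𝒪 : Type*} (C : 𝒪 → AddSubgroup W)

lemma mult_pos [Finite 𝒪] {x : W} {O : 𝒪} (h : x ∈ C O) : 1 ≤ mult C x := by
  unfold mult
  have : Nonempty {O : 𝒪 // x ∈ C O} := ⟨⟨O, h⟩⟩
  exact Nat.one_le_iff_ne_zero.mpr (Nat.card_pos).ne'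

omit [Fintype F] [FiniteDimensional F W] in
lemma mult_siegel (Q : QuadraticForm F W) (p : ℕ) (hS : SiegSym Q p C) {u z : W} (hu : Q u = 0)
    (huz : QuadraticMap.polar (⇑Q) u z = 0) (x : W) : mult C (E Q u z x) = mult C x := by
  obtain ⟨π, -, hπ⟩ := hS u z hu huz
  unfold mult
  symm
  refine Nat.card_congr ⟨fun O => ⟨π O.1, (hπ O.1 x).mp O.2⟩,
    fun O => ⟨π.symm O.1, (hπ _ x).mpr (by rw [Equiv.apply_symm_apply]; exact O.2)⟩, ?_, ?_⟩
  · intro O; ext; simp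
  · intro O; ext; simp

lemma mult_sing_const (Q : QuadraticForm F W) (hQ : (QuadraticMap.polarBilin Q).Nondegenerate)
    (hdim : 5 ≤ finrank F W) (p : ℕ) (hS : SiegSym Q p C) {x y : W} (hx : x ≠ 0) (hy : y ≠ 0)
    (hxy : Q x = Q y) : mult C x = mult C y :=
  tr_const Q hQ hdim (mult C) (fun u z hu huz x => mult_siegel C Q p hS hu huz x) hx hy hxy

end mult

section restrict

variable {𝒪 : Type*} (C : 𝒪 → AddSubgroup W) (O₀ : 𝒪)

/-- The family without the member `O₀`. -/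
def rest : {O : 𝒪 // O ≠ O₀} → AddSubgroup W := fun O => C O.1

omit [Fintype F] [FiniteDimensional F W] in
lemma siegSym_rest (Q : QuadraticForm F W) (p : ℕ) (hS : SiegSym Q p C) (h0 : C O₀ = ⊤)
    (hu : ∀ O, C O = ⊤ → O = O₀) : SiegSym Q p (rest C O₀) := by
  intro u z hu' huz
  obtain ⟨π, hπp, hπ⟩ := hS u z hu' huz
  have hfix : π O₀ = O₀ := by
    apply hu
    rw [eq_top_iff]
    intro y _
    have hy : (E Q u z).symm y ∈ C O₀ := by rw [h0]; trivial
    have := (hπ O₀ _).mp hy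
    rwa [LinearEquiv.apply_symm_apply] at this
  have hne : ∀ O, O ≠ O₀ → π O ≠ O₀ := by
    intro O hO h
    apply hO
    apply π.injective
    rw [h, hfix]
  have hne' : ∀ O, O ≠ O₀ → π.symm O ≠ O₀ := by
    intro O hO h
    apply hO
    have : π (π.symm O) = π O₀ := by rw [h]
    rw [Equiv.apply_symm_apply, hfix] at this
    exact this
  let π' : Equiv.Perm {O : 𝒪 // O ≠ O₀} :=
    ⟨fun O => ⟨π O.1, hne O.1 O.2⟩, fun O => ⟨π.symm O.1, hne' O.1 O.2⟩,
      fun O => by ext; simp, fun O => by ext; simp⟩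
  have hpow : ∀ (n : ℕ) (O : {O : 𝒪 // O ≠ O₀}), ((π' ^ n) O).1 = (π ^ n) O.1 := by
    intro n
    induction n with
    | zero => intro O; simp
    | succ n ih =>
      intro O
      rw [pow_succ, pow_succ, Equiv.Perm.mul_apply, Equiv.Perm.mul_apply, ih]
      rfl
  refine ⟨π', ?_, fun O x => hπ O.1 x⟩
  ext O
  rw [hpow, hπp]
  rfl

omit [Fintype F] [FiniteDimensional F W] in
lemma torSym_rest (Q : QuadraticForm F W) (hT : TorSym Q C) (h0 : C O₀ = ⊤)
    (hu : ∀ O, C O = ⊤ → O = O₀) : TorSym Q (rest C O₀) := by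
  intro t ht
  obtain ⟨ψ, ρ, hψ, hρ⟩ := hT t ht
  have hfix : ρ O₀ = O₀ := by
    apply hu
    rw [eq_top_iff]
    intro y _
    have hy : ψ.symm (t⁻¹ • y) ∈ C O₀ := by rw [h0]; trivial
    have := (hρ O₀ _).mp hy
    rwa [LinearEquiv.apply_symm_apply, smul_smul, mul_inv_cancel₀ ht, one_smul] at this
  have hne : ∀ O, O ≠ O₀ → ρ O ≠ O₀ := by
    intro O hO h
    apply hO
    apply ρ.injective
    rw [h, hfix]
  have hne' : ∀ O, O ≠ O₀ → ρ.symm O ≠ O₀ := by
    intro O hO h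
    apply hO
    have : ρ (ρ.symm O) = ρ O₀ := by rw [h]
    rw [Equiv.apply_symm_apply, hfix] at this
    exact this
  let ρ' : Equiv.Perm {O : 𝒪 // O ≠ O₀} :=
    ⟨fun O => ⟨ρ O.1, hne O.1 O.2⟩, fun O => ⟨ρ.symm O.1, hne' O.1 O.2⟩,
      fun O => by ext; simp, fun O => by ext; simp⟩
  exact ⟨ψ, ρ', hψ, fun O x => hρ O.1 x⟩

open Classical in
lemma sum_rest [Fintype 𝒪] :
    ∑ O, Nat.card (C O) = Nat.card (C O₀) + ∑ O : {O : 𝒪 // O ≠ O₀}, Nat.card (rest C O₀ O) := by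
  rw [← Finset.add_sum_erase Finset.univ (fun O => Nat.card (C O)) (Finset.mem_univ O₀)]
  congr 1
  rw [Finset.sum_subtype (Finset.univ.erase O₀) (p := fun O => O ≠ O₀)
    (fun x => by simp) (fun O => Nat.card (C O))]
  rfl

end restrict


section e1

variable {𝒪 : Type*} [Fintype 𝒪] (C : 𝒪 → AddSubgroup W)

omit [FiniteDimensional F W] in
/-- A member inside an `F`-line has at most `q` elements. -/
lemma card_le_of_line {S : AddSubgroup W} {l : W} (h : ∀ x ∈ S, ∃ a : F, x = a • l) :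
    Nat.card S ≤ Fintype.card F := by
  classical
  rw [← Nat.card_eq_fintype_card]
  have : ∀ x : S, ∃ a : F, (x : W) = a • l := fun x => h x.1 x.2
  choose a ha using this
  apply Nat.card_le_card_of_injective a
  intro x y hxy
  apply Subtype.ext
  rw [ha x, ha y, hxy]

lemma two_top_ge {O₁ O₂ : 𝒪} (hne : O₁ ≠ O₂) (h1 : C O₁ = ⊤) (h2 : C O₂ = ⊤) :
    2 * Fintype.card F ^ finrank F W ≤ ∑ O, Nat.card (C O) := by
  classical
  have h := sum_rest C O₁
  rw [h1, card_top (F := F)] at h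
  have h' : Nat.card (rest C O₁ ⟨O₂, hne.symm⟩) ≤
      ∑ O : {O : 𝒪 // O ≠ O₁}, Nat.card (rest C O₁ O) :=
    Finset.single_le_sum (f := fun O => Nat.card (rest C O₁ O)) (fun _ _ => Nat.zero_le _)
      (Finset.mem_univ _)
  have h'' : Nat.card (rest C O₁ ⟨O₂, hne.symm⟩) = Fintype.card F ^ finrank F W := by
    show Nat.card (C O₂) = _
    rw [h2, card_top (F := F)]
  omega

theorem e1 (Q : QuadraticForm F W) (hQ : (QuadraticMap.polarBilin Q).Nondegenerate)
    (hdim : 5 ≤ finrank F W) (p : ℕ) (hp : p.Prime)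
    (hS : SiegSym Q p C) (hT : TorSym Q C) (s ℓ κ NW N : ℕ)
    (hZ : Nat.card {x : W // x ≠ 0 ∧ Q x = 0} = s)
    (hL : ∀ c : F, c ≠ 0 → ℓ ≤ Nat.card {x : W // Q x = c})
    (hκ : ∀ c : F, c ≠ 0 → κ ≤ Nat.card {c' : F // ∃ t : F, t ≠ 0 ∧ c' = t ^ 2 * c})
    (num : Num (Fintype.card F) p (finrank F W) s ℓ κ NW N)
    (O₀ : 𝒪) (htop : C O₀ = ⊤) (hlt : ∑ O, Nat.card (C O) < N) :
    Out1 C ∨ Out2 C N := by
  classical
  have hq2 : 2 ≤ Fintype.card F := Fintype.one_lt_card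
  -- uniqueness of the regular member
  have huniq : ∀ O, C O = ⊤ → O = O₀ := by
    intro O hO
    by_contra hne
    have := two_top_ge C (F := F) hne hO htop
    have := num.n0
    omega
  have hsum := sum_rest C O₀
  rw [htop, card_top (F := F)] at hsum
  obtain ⟨C', hC'⟩ : ∃ C' : {O : 𝒪 // O ≠ O₀} → AddSubgroup W, C' = rest C O₀ := ⟨_, rfl⟩
  rw [← hC'] at hsum
  have hS' : SiegSym Q p C' := hC' ▸ siegSym_rest C O₀ Q p hS htop huniq
  have hT' : TorSym Q C' := hC' ▸ torSym_rest C O₀ Q hT htop huniq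
  have hmem : ∀ (O : 𝒪) (hO : O ≠ O₀) (x : W), x ∈ C' ⟨O, hO⟩ ↔ x ∈ C O := by
    intro O hO x; rw [hC']; rfl
  have hlt' : ∑ O, Nat.card (C' O) < 1 + s + NW := by
    have := num.e2
    omega
  -- a singular vector
  obtain ⟨l₀, hl₀, hQl₀⟩ := exists_singular Q (by omega : 3 ≤ finrank F W)
  -- no member of C' contains a non-singular vector
  have hts : ∀ O, ∀ x ∈ C' O, Q x = 0 := by
    intro O x hx
    by_contra hQx
    have h1 := mass_lower Q hQ hdim C' p hS' hT' s ℓ κ hZ hL hκ hl₀ hQl₀ hQx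
    have h2 : 1 ≤ mult C' x := mult_pos C' hx
    have h3 : κ * ℓ ≤ mult C' x * (κ * ℓ) := Nat.le_mul_of_pos_left _ h2
    have := num.n1
    omega
  have hmass := mass_ts Q hQ hdim C' p hS' s hZ hl₀ hQl₀ hts
  -- n₀' ≤ 1
  have hn01 : mult C' l₀ ≤ 1 := by
    by_contra h
    push Not at h
    have h3 : 2 * s ≤ mult C' l₀ * s := Nat.mul_le_mul_right s h
    have := num.n2
    omega
  rcases Nat.le_one_iff_eq_zero_or_eq_one.mp hn01 with h0 | h1
  · -- Out1
    left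
    refine ⟨O₀, htop, fun O hO => ?_⟩
    rw [eq_bot_iff]
    intro x hx
    rw [AddSubgroup.mem_bot]
    by_contra hx0
    have hx' : x ∈ C' ⟨O, hO⟩ := (hmem O hO x).mpr hx
    have hQx := hts ⟨O, hO⟩ x hx'
    have := mult_sing_const C' Q hQ hdim p hS' hx0 hl₀ (by rw [hQx, hQl₀])
    have := mult_pos C' hx'
    omega
  · -- Out2
    right
    have hline : ∀ O, Nat.card (C' O) ≤ Fintype.card F := by
      intro O
      by_cases hbot : ∃ l ∈ C' O, l ≠ 0
      · obtain ⟨l, hl, hl0⟩ := hbot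
        have hQl := hts O l hl
        have hm : mult C' l = 1 := by
          rw [mult_sing_const C' Q hQ hdim p hS' hl0 hl₀ (by rw [hQl, hQl₀]), h1]
        have hlt1 : mult C' l < p := by rw [hm]; exact hp.one_lt
        have hinv : ∀ u z : W, Q u = 0 → QuadraticMap.polar (⇑Q) u z = 0 → E Q u z l = l →
            ∀ x ∈ C' O, E Q u z x ∈ C' O := by
          intro u z hu huz hfix x hx
          exact (fix Q C' p hp hS' hlt1 hu huz hfix hl x).mp hx
        exact card_le_of_line (invts Q hQ hdim (C' O) (hts O) hl hl0 hinv)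
      · push Not at hbot
        have : C' O = ⊥ := by
          rw [eq_bot_iff]
          intro x hx
          exact hbot x hx
        rw [this]
        simp only [AddSubgroup.mem_bot, Nat.card_unique]
        omega
    have hsum_le : ∑ O, Nat.card (C' O) ≤ Fintype.card {O : 𝒪 // O ≠ O₀} * Fintype.card F := by
      calc ∑ O, Nat.card (C' O) ≤ ∑ _O : {O : 𝒪 // O ≠ O₀}, Fintype.card F :=
            Finset.sum_le_sum (fun O _ => hline O)
        _ = Fintype.card {O : 𝒪 // O ≠ O₀} * Fintype.card F := by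
            rw [Finset.sum_const, Finset.card_univ, smul_eq_mul]
    rw [h1, one_mul] at hmass
    obtain ⟨n', hn'⟩ : ∃ n', n' = Fintype.card {O : 𝒪 // O ≠ O₀} := ⟨_, rfl⟩
    rw [← hn'] at hsum_le hmass
    have he1 := num.e1
    have he2 := num.e2
    -- n' ≤ NW
    have hn'le : n' ≤ NW := by omega
    obtain ⟨q1, hq1⟩ : ∃ q1, Fintype.card F = q1 + 1 := ⟨Fintype.card F - 1, by omega⟩
    have hs_le : s ≤ n' * q1 := by
      rw [hq1] at hsum_le
      have : n' * (q1 + 1) = n' * q1 + n' := by ring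
      omega
    have hq1' : Fintype.card F - 1 = q1 := by omega
    rw [hq1'] at he1
    have hle2 : n' * q1 ≤ NW * q1 := Nat.mul_le_mul_right q1 hn'le
    have hq1pos : 0 < q1 := by omega
    have heq : n' * q1 = NW * q1 := by omega
    have hn'eq : n' = NW := Nat.eq_of_mul_eq_mul_right hq1pos heq
    refine ⟨⟨O₀, htop, fun O hO h => hO (huniq O h)⟩, ?_⟩
    omega

end e1


section e0

variable {𝒪 : Type*} [Fintype 𝒪] (C : 𝒪 → AddSubgroup W)

omit [Fintype F] in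
lemma exists_nonsingular (Q : QuadraticForm F W) (hQ : (QuadraticMap.polarBilin Q).Nondegenerate)
    (hdim : 1 ≤ finrank F W) : ∃ x : W, Q x ≠ 0 := by
  by_contra h
  push Not at h
  have : Nontrivial W := Module.nontrivial_of_finrank_pos (R := F) (by omega)
  obtain ⟨x, hx⟩ := exists_ne (0 : W)
  apply hx
  apply hQ.1 x
  intro y
  rw [QuadraticMap.polarBilin_apply_apply, QuadraticMap.polar, h, h, h]
  simp

/-- The middle state: every member is inside an `F`-line or totally singular. -/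
theorem e0_mid (Q : QuadraticForm F W) (hQ : (QuadraticMap.polarBilin Q).Nondegenerate)
    (hinvns : ∀ (S : AddSubgroup W) {l : W}, l ∈ S → Q l ≠ 0 →
      (∀ u z : W, Q u = 0 → QuadraticMap.polar (⇑Q) u z = 0 → E Q u z l = l →
        ∀ x ∈ S, E Q u z x ∈ S) →
      (∀ x ∈ S, ∃ a : F, x = a • l) ∨ (∀ x : W, QuadraticMap.polar (⇑Q) l x = 0 → x ∈ S))
    (hdim : 5 ≤ finrank F W) (p : ℕ) (hp : p.Prime)
    (hS : SiegSym Q p C) (hT : TorSym Q C) (s ℓ κ NW N : ℕ)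
    (hZ : Nat.card {x : W // x ≠ 0 ∧ Q x = 0} = s)
    (hL : ∀ c : F, c ≠ 0 → ℓ ≤ Nat.card {x : W // Q x = c})
    (hκ : ∀ c : F, c ≠ 0 → κ ≤ Nat.card {c' : F // ∃ t : F, t ≠ 0 ∧ c' = t ^ 2 * c})
    (num : Num (Fintype.card F) p (finrank F W) s ℓ κ NW N)
    (hnt : ∀ O, C O ≠ ⊤) (hlt : ∑ O, Nat.card (C O) < N) :
    ∀ O, (∃ x : W, ∀ y ∈ C O, ∃ a : F, y = a • x) ∨ (∀ y ∈ C O, Q y = 0) := by
  intro O
  obtain ⟨l₀, hl₀, hQl₀⟩ := exists_singular Q (by omega : 3 ≤ finrank F W)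
  by_cases hns : ∃ l ∈ C O, Q l ≠ 0
  · left
    obtain ⟨l, hl, hQl⟩ := hns
    have hmlt : mult C l < p := by
      by_contra h
      push Not at h
      have h1 := mass_lower Q hQ hdim C p hS hT s ℓ κ hZ hL hκ hl₀ hQl₀ hQl
      have h3 : p * (κ * ℓ) ≤ mult C l * (κ * ℓ) := Nat.mul_le_mul_right _ h
      have := num.n3
      omega
    have hinv : ∀ u z : W, Q u = 0 → QuadraticMap.polar (⇑Q) u z = 0 → E Q u z l = l →
        ∀ x ∈ C O, E Q u z x ∈ C O := by
      intro u z hu huz hfix x hx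
      exact (fix Q C p hp hS hmlt hu huz hfix hl x).mp hx
    rcases hinvns (C O) hl hQl hinv with h | h
    · exact ⟨l, h⟩
    · exfalso
      have := big Q hQ hdim C p hS hnt hQl h ℓ (hL (Q l) hQl)
      have := num.n4
      omega
  · right
    push Not at hns
    exact hns

/-- With anisotropic planes available, every member is inside an `F`-line. -/
theorem e0_out3 (Q : QuadraticForm F W) (hQ : (QuadraticMap.polarBilin Q).Nondegenerate)
    (hdim : 5 ≤ finrank F W) (hP : HasAniso Q) (p : ℕ)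
    (hS : SiegSym Q p C) (hT : TorSym Q C) (s ℓ κ NW N : ℕ)
    (hZ : Nat.card {x : W // x ≠ 0 ∧ Q x = 0} = s)
    (hL : ∀ c : F, c ≠ 0 → ℓ ≤ Nat.card {x : W // Q x = c})
    (hκ : ∀ c : F, c ≠ 0 → κ ≤ Nat.card {c' : F // ∃ t : F, t ≠ 0 ∧ c' = t ^ 2 * c})
    (num : Num (Fintype.card F) p (finrank F W) s ℓ κ NW N)
    (hlt : ∑ O, Nat.card (C O) < N)
    (hmid : ∀ O, (∃ x : W, ∀ y ∈ C O, ∃ a : F, y = a • x) ∨ (∀ y ∈ C O, Q y = 0)) :
    Out3 F C := by
  intro O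
  rcases hmid O with h | hts
  · exact h
  by_cases hbot : ∃ l ∈ C O, l ≠ 0
  swap
  · push Not at hbot
    exact ⟨0, fun y hy => ⟨0, by rw [hbot y hy, zero_smul]⟩⟩
  obtain ⟨l, hl, hl0⟩ := hbot
  refine ⟨l, ?_⟩
  by_contra hcon
  push Not at hcon
  obtain ⟨x, hx, hxl⟩ := hcon
  have h1 := img Q hQ hdim hP C p hS hts hl hx hxl hl0
  obtain ⟨lns, hlns⟩ := exists_nonsingular Q hQ (by omega)
  have h2 := mass_lower Q hQ hdim C p hS hT s ℓ κ hZ hL hκ hl0 (hts l hl) hlns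
  have h3 := num.n5
  have hq2 : 2 ≤ Fintype.card F := Fintype.one_lt_card
  have hs : 0 < s := by
    have := num.n2
    omega
  have h4 : mult C l < Fintype.card F + 2 := by
    by_contra h
    push Not at h
    have : (Fintype.card F + 2) * s ≤ mult C l * s := Nat.mul_le_mul_right s h
    omega
  have h5 : Fintype.card F + 2 ≤ Fintype.card F ^ 2 := by nlinarith
  omega

end e0


section core

variable {𝒪 : Type*} [Fintype 𝒪] (C : 𝒪 → AddSubgroup W)

/-- The combinatorial core, odd dimension `2k+1 ≥ 5`, `q` odd `≥ 5`. -/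
theorem core_odd (Q : QuadraticForm F W) (hQ : (QuadraticMap.polarBilin Q).Nondegenerate)
    (h2 : (2 : F) ≠ 0) (k : ℕ) (hk : 2 ≤ k) (hdim : finrank F W = 2 * k + 1)
    (hq : 5 ≤ Fintype.card F) (hodd : Odd (Fintype.card F)) (p : ℕ) (hp : p.Prime) [CharP F p]
    (hpq : 5 ≤ p ∨ (3 ≤ p ∧ 9 ≤ Fintype.card F))
    (hS : SiegSym Q p C) (hT : TorSym Q C)
    (hZ : Nat.card {x : W // x ≠ 0 ∧ Q x = 0} = Fintype.card F ^ (2 * k) - 1)
    (hL : ∀ c : F, c ≠ 0 →
      Fintype.card F ^ (2 * k) - Fintype.card F ^ k ≤ Nat.card {x : W // Q x = c})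
    (hlt : ∑ O, Nat.card (C O) < (Fintype.card F ^ (2 * k + 2) - 1) / (Fintype.card F - 1)) :
    Out1 C ∨ Out2 C ((Fintype.card F ^ (2 * k + 2) - 1) / (Fintype.card F - 1)) ∨ Out3 F C ∨
      (k = 2 ∧ Out4 Q C 2 (Fintype.card F + 1)
        ((Fintype.card F ^ (2 * k + 2) - 1) / (Fintype.card F - 1))) := by
  have num := num_odd (Fintype.card F) p k hq hodd hk hpq
  rw [← hdim] at num
  have hκ : ∀ c : F, c ≠ 0 →
      (Fintype.card F - 1) / 2 ≤ Nat.card {c' : F // ∃ t : F, t ≠ 0 ∧ c' = t ^ 2 * c} :=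
    fun c hc => card_sq_class h2 c hc
  have hdim5 : 5 ≤ finrank F W := by omega
  by_cases htop : ∃ O₀, C O₀ = ⊤
  · obtain ⟨O₀, hO₀⟩ := htop
    rcases e1 C Q hQ hdim5 p hp hS hT _ _ _ _ _ hZ hL hκ num O₀ hO₀ hlt with h | h
    · exact Or.inl h
    · exact Or.inr (Or.inl h)
  · push Not at htop
    have hmid := e0_mid C Q hQ (fun S _ hl hQl hinv => invns Q hQ h2 hdim5 S hl hQl hinv) hdim5 p hp
      hS hT _ _ _ _ _ hZ hL hκ num htop hlt
    by_cases hk2 : k = 2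
    · subst hk2
      rcases tight5 Q hQ h2 (by omega) hq C p hp hS hT hZ hL hmid hlt with h | h
      · exact Or.inr (Or.inr (Or.inl h))
      · exact Or.inr (Or.inr (Or.inr ⟨rfl, h⟩))
    · have hP : HasAniso Q := aniso_odd Q hQ h2 (by omega)
      exact Or.inr (Or.inr (Or.inl
        (e0_out3 C Q hQ hdim5 hP p hS hT _ _ _ _ _ hZ hL hκ num hlt hmid)))

/-- The combinatorial core when anisotropic planes are available (no tight case). -/
theorem core_aniso (Q : QuadraticForm F W) (hQ : (QuadraticMap.polarBilin Q).Nondegenerate)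
    (hdim : 5 ≤ finrank F W) (hP : HasAniso Q)
    (hinvns : ∀ (S : AddSubgroup W) {l : W}, l ∈ S → Q l ≠ 0 →
      (∀ u z : W, Q u = 0 → QuadraticMap.polar (⇑Q) u z = 0 → E Q u z l = l →
        ∀ x ∈ S, E Q u z x ∈ S) →
      (∀ x ∈ S, ∃ a : F, x = a • l) ∨ (∀ x : W, QuadraticMap.polar (⇑Q) l x = 0 → x ∈ S))
    (p : ℕ) (hp : p.Prime) (hS : SiegSym Q p C) (hT : TorSym Q C) (s ℓ κ NW N : ℕ)
    (hZ : Nat.card {x : W // x ≠ 0 ∧ Q x = 0} = s)
    (hL : ∀ c : F, c ≠ 0 → ℓ ≤ Nat.card {x : W // Q x = c})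
    (hκ : ∀ c : F, c ≠ 0 → κ ≤ Nat.card {c' : F // ∃ t : F, t ≠ 0 ∧ c' = t ^ 2 * c})
    (d : ℕ) (hd : finrank F W = d)
    (num : Num (Fintype.card F) p d s ℓ κ NW N)
    (hlt : ∑ O, Nat.card (C O) < N) :
    Out1 C ∨ Out2 C N ∨ Out3 F C := by
  subst hd
  by_cases htop : ∃ O₀, C O₀ = ⊤
  · obtain ⟨O₀, hO₀⟩ := htop
    rcases e1 C Q hQ hdim p hp hS hT _ _ _ _ _ hZ hL hκ num O₀ hO₀ hlt with h | h
    · exact Or.inl h
    · exact Or.inr (Or.inl h)
  · push Not at htop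
    have hmid := e0_mid C Q hQ hinvns hdim p hp hS hT _ _ _ _ _ hZ hL hκ num htop hlt
    exact Or.inr (Or.inr (e0_out3 C Q hQ hdim hP p hS hT _ _ _ _ _ hZ hL hκ num hlt hmid))

end core

end Cfsg.Agent.Lib.Helper38_MIOCore
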