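import Mathlib
import Cfsg.Agent.Lib.Helper38_MIODefs

/-!
MIO-SUMX (helper38's MIO market, S2143/S2145/S2147): the orbit family of `A` has total size `|X|`.
-/

set_option autoImplicit false
set_option linter.unusedSectionVars false

namespace Cfsg.Agent.Lib.Helper52_MIO_SUMX

open Module Cfsg.Agent.Lib.Helper94_OrthSmall Cfsg.Agent.Lib.Helper44_QuadClass
  Cfsg.Agent.Lib.Helper14_OmegaSimple Cfsg.Agent.Lib.Helper38_MIODefs

variable {F V : Type*} [Field F] [Fintype F] [AddCommGroup V] [Module F V] [FiniteDimensional F V]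

/-- MIO-SUMX: the fibres of `D.orb` partition `X`. -/
theorem sum_card (Q : QuadraticForm F V) {v v' : V} {X : Type*} [MulAction ↥(T Q) X] [Finite X]
    {𝒪 : Type*} [Fintype 𝒪] (D : FamData Q v v' X 𝒪) :
    ∑ O, Nat.card (D.C O) = Nat.card X := by
  rw [← Nat.card_congr (Equiv.sigmaFiberEquiv D.orb), Nat.card_sigma]
  exact Finset.sum_congr rfl fun O _ => D.card O

end Cfsg.Agent.Lib.Helper52_MIO_SUMX
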