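import Mathlib
import Cfsg.Agent.Lib.Helper38_MIODefs
import Cfsg.Agent.Lib.Helper58_MIO_GT
import Cfsg.Agent.Lib.Helper20_MIO_NORM

/-!
MIO-SYMT (helper38's MIO market, S2143/S2145/S2147): the orbit family is symmetric under the torus.
`torSym_fam_of` takes the conclusions of MIO-GT and MIO-NORM as hypotheses.
-/

set_option autoImplicit false
set_option linter.unusedSectionVars false

namespace Cfsg.Agent.Lib.Helper52_MIO_SYMT

open scoped commutatorElement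
open Module Cfsg.Agent.Lib.Helper94_OrthSmall Cfsg.Agent.Lib.Helper44_QuadClass
  Cfsg.Agent.Lib.Helper14_OmegaSimple Cfsg.Agent.Lib.Helper38_MIODefs

variable {F V : Type*} [Field F] [Fintype F] [AddCommGroup V] [Module F V] [FiniteDimensional F V]

/-- MIO-SYMT from the conclusions of MIO-GT (at `t⁻¹`) and MIO-NORM, given as hypotheses. -/
theorem torSym_fam_of (Q : QuadraticForm F V) {v v' : V} {X : Type*} [MulAction ↥(T Q) X]
    {𝒪 : Type*} (D : FamData Q v v' X 𝒪)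
    (hGT : ∀ t : F, t ≠ 0 → ∃ g ∈ T Q, g v = t • v ∧ g v' = t⁻¹ • v' ∧
      ∃ ψ : ↥(perp Q v v') ≃ₗ[F] ↥(perp Q v v'),
        ∀ w : ↥(perp Q v v'), ((ψ w : ↥(perp Q v v')) : V) = g (w : V))
    (hNORM : ∀ (g : V ≃ₗ[F] V) (_ : g ∈ T Q) (t : F) (_ : t ≠ 0) (_ : g v = t • v)
      (ψ : ↥(perp Q v v') ≃ₗ[F] ↥(perp Q v v'))
      (_ : ∀ w : ↥(perp Q v v'), ((ψ w : ↥(perp Q v v')) : V) = g (w : V)),
      ∃ ρ : Equiv.Perm 𝒪, (∀ x : X, ρ (D.orb x) = D.orb (act Q g x)) ∧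
        ∀ O w, w ∈ D.C O ↔ t⁻¹ • ψ w ∈ D.C (ρ O)) :
    TorSym (Qp Q v v') D.C := by
  intro t ht
  obtain ⟨g, hg, hgv, -, ψ, hψ⟩ := hGT t⁻¹ (inv_ne_zero ht)
  obtain ⟨ρ, -, hρ⟩ := hNORM g hg t⁻¹ (inv_ne_zero ht) hgv ψ hψ
  refine ⟨ψ, ρ, ?_, ?_⟩
  · intro x
    show Q ((ψ x : ↥(perp Q v v')) : V) = Q (x : V)
    rw [hψ x]
    exact T_le_oG Q hg (x : V)
  · intro O x
    have := hρ O x
    rwa [inv_inv] at this

/-- MIO-SYMT: the orbit family is symmetric under the torus. -/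
theorem torSym_fam (Q : QuadraticForm F V) (hQ : (QuadraticMap.polarBilin Q).Nondegenerate)
    (hdim : 7 ≤ finrank F V) (hcomm : ⁅oG (⇑Q), oG (⇑Q)⁆ ≤ T Q) {v v' : V} (hv : Q v = 0)
    (hv' : Q v' = 0) (hvv' : QuadraticMap.polar (⇑Q) v v' = 1) {X : Type*} [MulAction ↥(T Q) X]
    [Finite X] {𝒪 : Type*} (D : FamData Q v v' X 𝒪) :
    TorSym (Qp Q v v') D.C :=
  torSym_fam_of Q D
    (fun t ht => Cfsg.Agent.Lib.Helper58_MIO_GT.exists_torus Q hQ hdim hcomm hv hv' hvv' t ht)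
    (fun g hg t ht hgv ψ hψ =>
      Cfsg.Agent.Lib.Helper20_MIO_NORM.norm_perm Q hQ (by omega) hv hv' hvv' D g hg t ht hgv ψ hψ)

end Cfsg.Agent.Lib.Helper52_MIO_SYMT
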