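import Mathlib
import Cfsg.Agent.Lib.Helper38_MIODefs

/-!
# S2143 (MIO): double counting of an equivariant incidence between a transitive `T Q`-set and the
nonzero singular vectors (shared core of the packages MIO-KT2 and MIO-KNM1)
-/

set_option autoImplicit false

namespace Cfsg.Agent.Lib.Helper54_MIO_PtCount

open Module Cfsg.Agent.Lib.Helper94_OrthSmall Cfsg.Agent.Lib.Helper44_QuadClass
  Cfsg.Agent.Lib.Helper14_OmegaSimple Cfsg.Agent.Lib.Helper38_MIODefs

/-- double counting of a relation with constant row and column sums -/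
theorem double_count_const {α β : Type*} [Finite α] [Finite β] (R : α → β → Prop) (m n : ℕ)
    (h1 : ∀ b, Nat.card {a // R a b} = m) (h2 : ∀ a, Nat.card {b // R a b} = n) :
    Nat.card β * m = Nat.card α * n := by
  classical
  haveI := Fintype.ofFinite α
  haveI := Fintype.ofFinite β
  have e1 : Nat.card {x : α × β // R x.1 x.2} = Nat.card α * n := by
    rw [Nat.card_congr (Equiv.subtypeProdEquivSigmaSubtype R), Nat.card_sigma]
    simp only [h2, Finset.sum_const, Finset.card_univ, smul_eq_mul, Nat.card_eq_fintype_card]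
  have e2 : Nat.card {x : α × β // R x.1 x.2} = Nat.card β * m := by
    have e : {x : α × β // R x.1 x.2} ≃ {x : β × α // (fun b a => R a b) x.1 x.2} :=
      Equiv.subtypeEquiv (Equiv.prodComm α β) (fun x => Iff.rfl)
    rw [Nat.card_congr e, Nat.card_congr (Equiv.subtypeProdEquivSigmaSubtype (fun b a => R a b)),
      Nat.card_sigma]
    simp only [h1, Finset.sum_const, Finset.card_univ, smul_eq_mul, Nat.card_eq_fintype_card]
  rw [← e1, e2]

variable {F V : Type*} [Field F] [AddCommGroup V] [Module F V]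

/-- a set of nonzero vectors closed under nonzero scalars has `q - 1 ∣` its size -/
theorem dvd_card_scalar [Fintype F] [Finite V] (P : V → Prop)
    (hP : ∀ (c : F) (y : V), c ≠ 0 → P y → P (c • y)) :
    (Fintype.card F - 1) ∣ Nat.card {y : V // y ≠ 0 ∧ P y} := by
  classical
  letI : MulAction Fˣ {y : V // y ≠ 0 ∧ P y} :=
    { smul := fun c y => ⟨(c : F) • y.1, smul_ne_zero c.ne_zero y.2.1, hP c y.1 c.ne_zero y.2.2⟩
      one_smul := fun y => Subtype.ext (one_smul F y.1)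
      mul_smul := fun c d y => Subtype.ext (mul_smul (c : F) (d : F) y.1) }
  have hfree : ∀ y : {y : V // y ≠ 0 ∧ P y}, MulAction.stabilizer Fˣ y = ⊥ := by
    intro y
    rw [eq_bot_iff]
    intro c hc
    rw [MulAction.mem_stabilizer_iff] at hc
    have h1 : (c : F) • y.1 = y.1 := congrArg Subtype.val hc
    have h2 : ((c : F) - 1) • y.1 = 0 := by rw [sub_smul, one_smul, h1, sub_self]
    rcases smul_eq_zero.1 h2 with h | h
    · rw [Subgroup.mem_bot]; exact Units.ext (sub_eq_zero.1 h)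
    · exact absurd h y.2.1
  have e := MulAction.selfEquivOrbitsQuotientProd hfree
  rw [Nat.card_congr e, Nat.card_prod, Nat.card_units, Nat.card_eq_fintype_card (α := F)]
  exact dvd_mul_left _ _

/-- the double counting: an equivariant, scalar-invariant incidence between a transitive `T Q`-set
`X` and the singular vectors -/
theorem incidence_count [Fintype F] [FiniteDimensional F V] (Q : QuadraticForm F V)
    (hQ : (QuadraticMap.polarBilin Q).Nondegenerate) (hdim : 5 ≤ finrank F V)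
    {v : V} (hv0 : v ≠ 0) (hv : Q v = 0)
    {X : Type*} [MulAction ↥(T Q) X] [Finite X] [MulAction.IsPretransitive ↥(T Q) X]
    (I : X → V → Prop)
    (hIg : ∀ (g : ↥(T Q)) (x : X) (y : V), Q y = 0 →
      (I (g • x) ((g : V ≃ₗ[F] V) y) ↔ I x y))
    (hIc : ∀ (c : F) (x : X) (y : V), c ≠ 0 → Q y = 0 → (I x (c • y) ↔ I x y))
    (Npts : ℕ) (hpts : Nat.card {x : V // x ≠ 0 ∧ Q x = 0} = (Fintype.card F - 1) * Npts) :
    ∃ φ : ℕ, Nat.card {x : X // I x v} * Npts = Nat.card X * φ := by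
  classical
  haveI : Finite V := Module.finite_of_finite F
  rcases isEmpty_or_nonempty X with hX | ⟨⟨x₀⟩⟩
  · refine ⟨0, ?_⟩
    haveI : IsEmpty {x : X // I x v} := ⟨fun x => hX.false x.1⟩
    rw [Nat.card_of_isEmpty, zero_mul, mul_zero]
  have hQg : ∀ (g : ↥(T Q)) (y : V), Q ((g : V ≃ₗ[F] V) y) = Q y := fun g y => (T_le_oG Q g.2) y
  have h1 : ∀ y : {y : V // y ≠ 0 ∧ Q y = 0},
      Nat.card {x : X // I x y.1} = Nat.card {x : X // I x v} := by
    rintro ⟨y, hy0, hy⟩
    obtain ⟨g, hg, c, hc, hgv⟩ := exists_mem_T_map Q hQ hdim hv0 hv hy0 hy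
    symm
    refine Nat.card_congr (Equiv.subtypeEquiv (MulAction.toPerm (⟨g, hg⟩ : ↥(T Q))) ?_)
    intro x
    show I x v ↔ I ((⟨g, hg⟩ : ↥(T Q)) • x) y
    rw [← hIc c _ y hc hy, ← hgv]
    exact (hIg ⟨g, hg⟩ x v hv).symm
  have h2 : ∀ x : X, Nat.card {y : {y : V // y ≠ 0 ∧ Q y = 0} // I x y.1} =
      Nat.card {y : {y : V // y ≠ 0 ∧ Q y = 0} // I x₀ y.1} := by
    intro x
    obtain ⟨g, rfl⟩ := MulAction.exists_smul_eq (↥(T Q)) x₀ x
    symm
    let eS : {y : V // y ≠ 0 ∧ Q y = 0} ≃ {y : V // y ≠ 0 ∧ Q y = 0} :=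
      Equiv.subtypeEquiv (g : V ≃ₗ[F] V).toEquiv (fun y => by
        show (y ≠ 0 ∧ Q y = 0) ↔ ((g : V ≃ₗ[F] V) y ≠ 0 ∧ Q ((g : V ≃ₗ[F] V) y) = 0)
        rw [hQg, Ne, Ne, LinearEquiv.map_eq_zero_iff])
    refine Nat.card_congr (Equiv.subtypeEquiv eS ?_)
    intro y
    show I x₀ y.1 ↔ I (g • x₀) ((g : V ≃ₗ[F] V) y.1)
    exact (hIg g x₀ y.1 y.2.2).symm
  have h3 : (Fintype.card F - 1) ∣ Nat.card {y : {y : V // y ≠ 0 ∧ Q y = 0} // I x₀ y.1} := by
    have e : {y : {y : V // y ≠ 0 ∧ Q y = 0} // I x₀ y.1} ≃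
        {y : V // y ≠ 0 ∧ (Q y = 0 ∧ I x₀ y)} :=
      (Equiv.subtypeSubtypeEquivSubtypeInter (fun y : V => y ≠ 0 ∧ Q y = 0) (fun y => I x₀ y)).trans
        (Equiv.subtypeEquivRight (fun y => and_assoc))
    rw [Nat.card_congr e]
    apply dvd_card_scalar
    rintro c y hc ⟨hy, hI⟩
    refine ⟨?_, (hIc c x₀ y hc hy).2 hI⟩
    rw [QuadraticMap.map_smul, hy, smul_zero]
  obtain ⟨φ, hφ⟩ := h3
  have key := double_count_const (fun (x : X) (y : {y : V // y ≠ 0 ∧ Q y = 0}) => I x y.1)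
    (Nat.card {x : X // I x v}) _ h1 h2
  rw [hpts, hφ] at key
  refine ⟨φ, ?_⟩
  have hq : 0 < Fintype.card F - 1 := by
    have := Fintype.one_lt_card (α := F); omega
  apply Nat.eq_of_mul_eq_mul_left hq
  calc (Fintype.card F - 1) * (Nat.card {x : X // I x v} * Npts)
      = (Fintype.card F - 1) * Npts * Nat.card {x : X // I x v} := by ring
    _ = Nat.card X * ((Fintype.card F - 1) * φ) := key
    _ = (Fintype.card F - 1) * (Nat.card X * φ) := by ring

/-! ## root groups -/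

section root

variable [Finite F] [FiniteDimensional F V] (Q : QuadraticForm F V)

/-- conjugating a Siegel element: the action on a `T Q`-set -/
theorem act_conj (hQ : (QuadraticMap.polarBilin Q).Nondegenerate) (hdim : 5 ≤ finrank F V)
    {X : Type*} [MulAction ↥(T Q) X] (g : ↥(T Q)) {y u : V} (hy : Q y = 0)
    (hyu : QuadraticMap.polar (⇑Q) y u = 0) (x : X) :
    act Q (E Q ((g : V ≃ₗ[F] V) y) ((g : V ≃ₗ[F] V) u)) (g • x) = g • act Q (E Q y u) x := by
  have hgo : (g : V ≃ₗ[F] V) ∈ oG (⇑Q) := T_le_oG Q g.2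
  have hy' : Q ((g : V ≃ₗ[F] V) y) = 0 := by rw [hgo y]; exact hy
  have hyu' : QuadraticMap.polar (⇑Q) ((g : V ≃ₗ[F] V) y) ((g : V ≃ₗ[F] V) u) = 0 := by
    rw [oG_polar Q hgo]; exact hyu
  have hE := E_mem_T Q hQ hdim hy hyu
  have hE' := E_mem_T Q hQ hdim hy' hyu'
  rw [act_of_mem Q hE', act_of_mem Q hE, ← mul_smul, ← mul_smul]
  congr 1
  apply Subtype.ext
  show E Q ((g : V ≃ₗ[F] V) y) ((g : V ≃ₗ[F] V) u) * (g : V ≃ₗ[F] V) = (g : V ≃ₗ[F] V) * E Q y u
  rw [← conj_E Q hgo hy hyu]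
  group

/-- the image of `y^⊥` under `g` is `(g y)^⊥`: a preimage -/
theorem exists_preimage_orth (g : ↥(T Q)) {y u' : V}
    (h : QuadraticMap.polar (⇑Q) ((g : V ≃ₗ[F] V) y) u' = 0) :
    ∃ u : V, (g : V ≃ₗ[F] V) u = u' ∧ QuadraticMap.polar (⇑Q) y u = 0 := by
  have hgo : (g : V ≃ₗ[F] V) ∈ oG (⇑Q) := T_le_oG Q g.2
  refine ⟨(g : V ≃ₗ[F] V).symm u', LinearEquiv.apply_symm_apply _ _, ?_⟩
  rw [← oG_polar Q hgo, LinearEquiv.apply_symm_apply]
  exact h

end root

/-! ## the root group `A = {E Q v w : w ∈ perp Q v v'}` -/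

section perpA

variable [Finite F] [FiniteDimensional F V] (Q : QuadraticForm F V)

theorem polar_perp {v v' : V} (w : ↥(perp Q v v')) : QuadraticMap.polar (⇑Q) v (w : V) = 0 :=
  ((mem_perp Q v v').1 w.2).1

theorem polar_perp' {v v' : V} (w : ↥(perp Q v v')) : QuadraticMap.polar (⇑Q) v' (w : V) = 0 :=
  ((mem_perp Q v v').1 w.2).2

theorem E_perp_mem_T (hQ : (QuadraticMap.polarBilin Q).Nondegenerate) (hdim : 5 ≤ finrank F V)
    {v v' : V} (hv : Q v = 0) (w : ↥(perp Q v v')) : E Q v (w : V) ∈ T Q :=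
  E_mem_T Q hQ hdim hv (polar_perp Q w)

/-- every `E Q v u` with `u ⊥ v` is an `E Q v w` with `w` in the complement -/
theorem exists_perp_eq {v v' : V} (hv : Q v = 0)
    (hvv' : QuadraticMap.polar (⇑Q) v v' = 1) {u : V} (hu : QuadraticMap.polar (⇑Q) v u = 0) :
    ∃ w : ↥(perp Q v v'), E Q v u = E Q v (w : V) := by
  have hv'v : QuadraticMap.polar (⇑Q) v' v = 1 := by rw [QuadraticMap.polar_comm]; exact hvv'
  set a := QuadraticMap.polar (⇑Q) v' u with ha
  have hw1 : QuadraticMap.polar (⇑Q) v (u - a • v) = 0 := by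
    rw [QuadraticMap.polar_sub_right, QuadraticMap.polar_smul_right, polar_self', hv, hu]
    simp
  have hw2 : QuadraticMap.polar (⇑Q) v' (u - a • v) = 0 := by
    rw [QuadraticMap.polar_sub_right, QuadraticMap.polar_smul_right, hv'v, ← ha]
    simp
  refine ⟨⟨u - a • v, (mem_perp Q v v').2 ⟨hw1, hw2⟩⟩, ?_⟩
  show E Q v u = E Q v (u - a • v)
  have := E_add_smul Q hv hw1 a
  rw [sub_add_cancel] at this
  exact this

/-- `w ↦ E Q v w` is injective on the complement -/
theorem E_perp_eq_one {v v' : V} (hv : Q v = 0)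
    (hvv' : QuadraticMap.polar (⇑Q) v v' = 1) {w : ↥(perp Q v v')} (h : E Q v (w : V) = 1) :
    w = 0 := by
  have hv'v : QuadraticMap.polar (⇑Q) v' v = 1 := by rw [QuadraticMap.polar_comm]; exact hvv'
  have h1 : E Q v (w : V) v' = v' := by rw [h]; rfl
  rw [E_apply Q hv (polar_perp Q w), hv'v, polar_perp' Q w] at h1
  have h2 : (w : V) = Q (w : V) • v := by
    have : v' + (1 : F) • (w : V) - (0 : F) • v - (Q (w : V) * 1) • v = v' := h1
    rw [one_smul, zero_smul, mul_one, sub_zero] at this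
    have h3 : (w : V) - Q (w : V) • v = 0 := by
      have h4 : v' + ((w : V) - Q (w : V) • v) = v' := by
        rw [← add_sub_assoc]; exact this
      exact add_eq_left.1 h4
    exact sub_eq_zero.1 h3
  have h3 : Q (w : V) = 0 := by
    have := polar_perp' Q w
    rw [h2, QuadraticMap.polar_smul_right, hv'v, smul_eq_mul, mul_one] at this
    exact this
  rw [h3, zero_smul] at h2
  exact Subtype.ext h2

variable (hQ : (QuadraticMap.polarBilin Q).Nondegenerate) (hdim : 5 ≤ finrank F V)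

include hQ hdim in
theorem act_E_add {v v' : V} (hv : Q v = 0) {X : Type*} [MulAction ↥(T Q) X]
    (w w' : ↥(perp Q v v')) (x : X) :
    act Q (E Q v (w : V)) (act Q (E Q v (w' : V)) x) = act Q (E Q v ((w + w' : ↥(perp Q v v')) : V)) x := by
  rw [← act_mul Q (E_perp_mem_T Q hQ hdim hv w) (E_perp_mem_T Q hQ hdim hv w'),
    E_mul Q hv (polar_perp Q w) (polar_perp Q w')]
  rfl

theorem act_E_zero {v v' : V} (hv : Q v = 0) {X : Type*} [MulAction ↥(T Q) X] (x : X) :
    act Q (E Q v ((0 : ↥(perp Q v v')) : V)) x = x := by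
  have : E Q v ((0 : ↥(perp Q v v')) : V) = 1 := E_zero_right Q hv
  rw [this, act_one]

end perpA

end Cfsg.Agent.Lib.Helper54_MIO_PtCount
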