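import Mathlib
import Cfsg.Agent.Lib.Helper38_MIODefs
import Cfsg.Agent.Lib.Helper54_MIO_PtCount

/-!
# S2143 (MIO), package MIO-KNM1: a unique regular orbit of the root group `A` forces
`|X| ∣ Npts * q ^ d`
-/

set_option autoImplicit false

namespace Cfsg.Agent.Lib.Helper54_MIO_KNM1

open Module Cfsg.Agent.Lib.Helper94_OrthSmall Cfsg.Agent.Lib.Helper44_QuadClass
  Cfsg.Agent.Lib.Helper14_OmegaSimple Cfsg.Agent.Lib.Helper38_MIODefs
  Cfsg.Agent.Lib.Helper54_MIO_PtCount

variable {F V : Type*} [Field F] [Fintype F] [AddCommGroup V] [Module F V] [FiniteDimensional F V]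

/-- incidence: `x` has trivial stabiliser in the root group of `y` -/
def Free (Q : QuadraticForm F V) {X : Type*} [MulAction ↥(T Q) X] (x : X) (y : V) : Prop :=
  ∀ u : V, QuadraticMap.polar (⇑Q) y u = 0 → act Q (E Q y u) x = x → E Q y u = 1

theorem free_smul_T (Q : QuadraticForm F V) (hQ : (QuadraticMap.polarBilin Q).Nondegenerate)
    (hdim : 5 ≤ finrank F V) {X : Type*} [MulAction ↥(T Q) X] (g : ↥(T Q)) (x : X) {y : V}
    (hy : Q y = 0) : Free Q (g • x) ((g : V ≃ₗ[F] V) y) ↔ Free Q x y := by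
  have hgo : (g : V ≃ₗ[F] V) ∈ oG (⇑Q) := T_le_oG Q g.2
  constructor
  · intro h u hu hfix
    have hgu : QuadraticMap.polar (⇑Q) ((g : V ≃ₗ[F] V) y) ((g : V ≃ₗ[F] V) u) = 0 := by
      rw [oG_polar Q hgo]; exact hu
    have h1 := h _ hgu (by rw [act_conj Q hQ hdim g hy hu x, hfix])
    rw [← conj_E Q hgo hy hu] at h1
    exact conj_eq_one_iff.1 h1
  · intro h u' hu' hfix
    obtain ⟨u, rfl, hu⟩ := exists_preimage_orth Q g hu'
    rw [act_conj Q hQ hdim g hy hu x] at hfix
    have h1 := h u hu (smul_left_cancel g hfix)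
    rw [← conj_E Q hgo hy hu, h1, mul_one, mul_inv_cancel]

theorem free_smul (Q : QuadraticForm F V) {X : Type*} [MulAction ↥(T Q) X] {c : F} (hc : c ≠ 0)
    (x : X) {y : V} (hy : Q y = 0) : Free Q x (c • y) ↔ Free Q x y := by
  have hpol : ∀ u, QuadraticMap.polar (⇑Q) (c • y) u = 0 ↔ QuadraticMap.polar (⇑Q) y u = 0 := by
    intro u
    rw [QuadraticMap.polar_smul_left, smul_eq_mul, mul_eq_zero]
    exact or_iff_right hc
  constructor
  · intro h u hu hfix
    have hu1 : QuadraticMap.polar (⇑Q) y (c⁻¹ • u) = 0 := by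
      rw [QuadraticMap.polar_smul_right, hu, smul_zero]
    have h1 := h (c⁻¹ • u) ((hpol _).2 hu1)
    rw [E_smul_left Q hy hu1 c, smul_smul, mul_inv_cancel₀ hc, one_smul] at h1
    exact h1 hfix
  · intro h u hu hfix
    have hu' := (hpol u).1 hu
    rw [E_smul_left Q hy hu' c] at hfix ⊢
    refine h _ ?_ hfix
    rw [QuadraticMap.polar_smul_right, hu', smul_zero]

theorem knm1 (Q : QuadraticForm F V) (hQ : (QuadraticMap.polarBilin Q).Nondegenerate)
    (hdim : 7 ≤ finrank F V) {v v' : V} (hv : Q v = 0) (hv' : Q v' = 0)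
    (hvv' : QuadraticMap.polar (⇑Q) v v' = 1) {X : Type*} [MulAction ↥(T Q) X] [Finite X]
    [MulAction.IsPretransitive ↥(T Q) X]
    {𝒪 : Type*} (D : FamData Q v v' X 𝒪) (O₀ : 𝒪) (htop : D.C O₀ = ⊤)
    (huniq : ∀ O, D.C O = ⊤ → O = O₀) (Npts : ℕ)
    (hpts : Nat.card {x : V // x ≠ 0 ∧ Q x = 0} = (Fintype.card F - 1) * Npts) :
    Nat.card X ∣ Npts * Fintype.card F ^ finrank F ↥(perp Q v v') := by
  have hdim5 : 5 ≤ finrank F V := by omega
  have hv0 : v ≠ 0 := by
    rintro rfl
    simp [QuadraticMap.polar] at hvv'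
  obtain ⟨φ, hφ⟩ := incidence_count Q hQ hdim5 hv0 hv (X := X) (Free Q)
    (fun g x y hy => free_smul_T Q hQ hdim5 g x hy)
    (fun c x y hc hy => free_smul Q hc x hy) Npts hpts
  haveI : Finite ↥(perp Q v v') := Module.finite_of_finite F
  -- freeness on the complement
  have hA : ∀ x : X, Free Q x v ↔
      ∀ w : ↥(perp Q v v'), act Q (E Q v (w : V)) x = x → w = 0 := by
    intro x
    constructor
    · intro h w hfix
      exact E_perp_eq_one Q hv hvv' (h _ (polar_perp Q w) hfix)
    · intro h u hu hfix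
      obtain ⟨w, hw⟩ := exists_perp_eq Q hv hvv' hu
      rw [hw] at hfix ⊢
      rw [h w hfix]
      exact E_zero_right Q hv
  -- the orbit map
  have hmem : ∀ (x : X) (w : ↥(perp Q v v')), D.orb (act Q (E Q v (w : V)) x) = D.orb x :=
    fun x w => ((D.orb_eq x _).2 ⟨w, rfl⟩).symm
  have hsurj : ∀ x : X, Function.Surjective
      (fun w : ↥(perp Q v v') =>
        (⟨act Q (E Q v (w : V)) x, hmem x w⟩ : {x' : X // D.orb x' = D.orb x})) := by
    rintro x ⟨x', hx'⟩
    obtain ⟨w, hw⟩ := (D.orb_eq x x').1 hx'.symm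
    exact ⟨w, Subtype.ext hw⟩
  have hinj : ∀ x : X, (∀ w : ↥(perp Q v v'), act Q (E Q v (w : V)) x = x → w = 0) ↔
      Function.Injective (fun w : ↥(perp Q v v') =>
        (⟨act Q (E Q v (w : V)) x, hmem x w⟩ : {x' : X // D.orb x' = D.orb x})) := by
    intro x
    constructor
    · intro h w w' hww'
      have h1 : act Q (E Q v (w : V)) x = act Q (E Q v (w' : V)) x := congrArg Subtype.val hww'
      have h2 := congrArg (fun t => act Q (E Q v ((-w' : ↥(perp Q v v')) : V)) t) h1
      simp only [act_E_add Q hQ hdim5 hv] at h2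
      rw [neg_add_cancel, act_E_zero Q hv] at h2
      have h3 := h _ h2
      rw [neg_add_eq_zero] at h3
      exact h3.symm
    · intro h w hfix
      apply h
      apply Subtype.ext
      show act Q (E Q v (w : V)) x = act Q (E Q v ((0 : ↥(perp Q v v')) : V)) x
      rw [hfix, act_E_zero Q hv]
  have hkey : ∀ x : X, Free Q x v ↔ D.orb x = O₀ := by
    intro x
    rw [hA, hinj]
    constructor
    · intro hi
      apply huniq
      haveI : Finite ↥(D.C (D.orb x)) := inferInstance
      apply AddSubgroup.eq_top_of_card_eq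
      rw [D.card]
      exact (Nat.card_congr (Equiv.ofBijective _ ⟨hi, hsurj x⟩)).symm
    · intro hO
      have hc : Nat.card ↥(perp Q v v') ≤ Nat.card {x' : X // D.orb x' = D.orb x} := by
        rw [← D.card, hO, htop, AddSubgroup.card_top]
      exact ((hsurj x).bijective_of_nat_card_le hc).1
  have hcard : Nat.card {x : X // Free Q x v} = Fintype.card F ^ finrank F ↥(perp Q v v') := by
    rw [Nat.card_congr (Equiv.subtypeEquivRight hkey), ← D.card, htop, AddSubgroup.card_top,
      Module.natCard_eq_pow_finrank (K := F), Nat.card_eq_fintype_card]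
  rw [hcard] at hφ
  exact ⟨φ, by rw [← hφ, mul_comm]⟩

end Cfsg.Agent.Lib.Helper54_MIO_KNM1
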