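import Mathlib
import Cfsg.Agent.Lib.Helper38_MIODefs
import Cfsg.Agent.Lib.Helper54_MIO_PtCount

/-!
# S2143 (MIO), package MIO-KT2: the number of fixed points of the root group `A`
-/

set_option autoImplicit false

namespace Cfsg.Agent.Lib.Helper54_MIO_KT2

open Module Cfsg.Agent.Lib.Helper94_OrthSmall Cfsg.Agent.Lib.Helper44_QuadClass
  Cfsg.Agent.Lib.Helper14_OmegaSimple Cfsg.Agent.Lib.Helper38_MIODefs
  Cfsg.Agent.Lib.Helper54_MIO_PtCount

variable {F V : Type*} [Field F] [Fintype F] [AddCommGroup V] [Module F V] [FiniteDimensional F V]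

/-- incidence: the root group of `y` fixes `x` -/
def Fixes (Q : QuadraticForm F V) {X : Type*} [MulAction ↥(T Q) X] (x : X) (y : V) : Prop :=
  ∀ u : V, QuadraticMap.polar (⇑Q) y u = 0 → act Q (E Q y u) x = x

theorem fixes_smul_T (Q : QuadraticForm F V) (hQ : (QuadraticMap.polarBilin Q).Nondegenerate)
    (hdim : 5 ≤ finrank F V) {X : Type*} [MulAction ↥(T Q) X] (g : ↥(T Q)) (x : X) {y : V}
    (hy : Q y = 0) : Fixes Q (g • x) ((g : V ≃ₗ[F] V) y) ↔ Fixes Q x y := by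
  have hgo : (g : V ≃ₗ[F] V) ∈ oG (⇑Q) := T_le_oG Q g.2
  constructor
  · intro h u hu
    have hgu : QuadraticMap.polar (⇑Q) ((g : V ≃ₗ[F] V) y) ((g : V ≃ₗ[F] V) u) = 0 := by
      rw [oG_polar Q hgo]; exact hu
    have h1 := h _ hgu
    rw [act_conj Q hQ hdim g hy hu x] at h1
    exact smul_left_cancel g h1
  · intro h u' hu'
    obtain ⟨u, rfl, hu⟩ := exists_preimage_orth Q g hu'
    rw [act_conj Q hQ hdim g hy hu x, h u hu]

theorem fixes_smul (Q : QuadraticForm F V) {X : Type*} [MulAction ↥(T Q) X] {c : F} (hc : c ≠ 0)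
    (x : X) {y : V} (hy : Q y = 0) : Fixes Q x (c • y) ↔ Fixes Q x y := by
  have hpol : ∀ u, QuadraticMap.polar (⇑Q) (c • y) u = 0 ↔ QuadraticMap.polar (⇑Q) y u = 0 := by
    intro u
    rw [QuadraticMap.polar_smul_left, smul_eq_mul, mul_eq_zero]
    exact or_iff_right hc
  constructor
  · intro h u hu
    have hu1 : QuadraticMap.polar (⇑Q) y (c⁻¹ • u) = 0 := by
      rw [QuadraticMap.polar_smul_right, hu, smul_zero]
    have h1 := h (c⁻¹ • u) ((hpol _).2 hu1)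
    rw [E_smul_left Q hy hu1 c, smul_smul, mul_inv_cancel₀ hc, one_smul] at h1
    exact h1
  · intro h u hu
    have hu' := (hpol u).1 hu
    rw [E_smul_left Q hy hu' c]
    apply h
    rw [QuadraticMap.polar_smul_right, hu', smul_zero]

theorem kt2 (Q : QuadraticForm F V) (hQ : (QuadraticMap.polarBilin Q).Nondegenerate)
    (hdim : 5 ≤ finrank F V) {v v' : V} (hv : Q v = 0) (hv' : Q v' = 0)
    (hvv' : QuadraticMap.polar (⇑Q) v v' = 1) {X : Type*} [MulAction ↥(T Q) X] [Finite X]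
    [MulAction.IsPretransitive ↥(T Q) X]
    {𝒪 : Type*} [Finite 𝒪] (D : FamData Q v v' X 𝒪) (Npts : ℕ)
    (hpts : Nat.card {x : V // x ≠ 0 ∧ Q x = 0} = (Fintype.card F - 1) * Npts) :
    ∃ φ : ℕ, Nat.card {O : 𝒪 // D.C O = ⊥} * Npts = Nat.card X * φ := by
  have hv0 : v ≠ 0 := by
    rintro rfl
    simp [QuadraticMap.polar] at hvv'
  obtain ⟨φ, hφ⟩ := incidence_count Q hQ hdim hv0 hv (X := X) (Fixes Q)
    (fun g x y hy => fixes_smul_T Q hQ hdim g x hy)
    (fun c x y hc hy => fixes_smul Q hc x hy) Npts hpts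
  refine ⟨φ, ?_⟩
  rw [← hφ]
  congr 1
  symm
  have hA : ∀ x : X, Fixes Q x v ↔ ∀ w : ↥(perp Q v v'), act Q (E Q v (w : V)) x = x := by
    intro x
    constructor
    · intro h w
      exact h _ (polar_perp Q w)
    · intro h u hu
      obtain ⟨w, hw⟩ := exists_perp_eq Q hv hvv' hu
      rw [hw]; exact h w
  have hfib : ∀ x : X, D.C (D.orb x) = ⊥ ↔ Fixes Q x v := by
    intro x
    rw [hA, ← AddSubgroup.card_eq_one, D.card, Nat.card_eq_one_iff_unique]
    constructor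
    · rintro ⟨hsub, _⟩ w
      have hmem : D.orb (act Q (E Q v (w : V)) x) = D.orb x :=
        ((D.orb_eq x _).2 ⟨w, rfl⟩).symm
      have := @Subsingleton.elim _ hsub
        (⟨act Q (E Q v (w : V)) x, hmem⟩ : {x' : X // D.orb x' = D.orb x}) ⟨x, rfl⟩
      exact congrArg Subtype.val this
    · intro h
      refine ⟨⟨fun a b => ?_⟩, ⟨⟨x, rfl⟩⟩⟩
      obtain ⟨w, hw⟩ := (D.orb_eq x a.1).1 a.2.symm
      obtain ⟨w', hw'⟩ := (D.orb_eq x b.1).1 b.2.symm
      rw [h w] at hw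
      rw [h w'] at hw'
      exact Subtype.ext (hw.symm.trans hw')
  refine Nat.card_congr (Equiv.ofBijective
    (fun x : {x : X // Fixes Q x v} =>
      (⟨D.orb x.1, (hfib x.1).2 x.2⟩ : {O : 𝒪 // D.C O = ⊥})) ⟨?_, ?_⟩)
  · intro x x' h
    have h1 : D.orb x.1 = D.orb x'.1 := congrArg Subtype.val h
    obtain ⟨w, hw⟩ := (D.orb_eq _ _).1 h1
    rw [(hA x.1).1 x.2 w] at hw
    exact Subtype.ext hw
  · rintro ⟨O, hO⟩
    obtain ⟨x, rfl⟩ := D.orb_surj O
    exact ⟨⟨x, (hfib x).1 hO⟩, rfl⟩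

end Cfsg.Agent.Lib.Helper54_MIO_KT2
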