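import Mathlib
import Cfsg.Agent.Lib.Helper38_MIODefs
import Cfsg.Agent.Lib.Helper55_MIO_TRANSP

/-!
# S2143 package MIO-KR1 (architect helper38): in outcome 1, a fixed point of `A = R_v` is fixed by `T Q`
-/

set_option autoImplicit false

namespace Cfsg.Agent.Lib.Helper55_MIO_KR1

open Module Cfsg.Agent.Lib.Helper94_OrthSmall Cfsg.Agent.Lib.Helper44_QuadClass
  Cfsg.Agent.Lib.Helper14_OmegaSimple Cfsg.Agent.Lib.Helper38_MIODefs
  Cfsg.Agent.Lib.Helper55_MIO_TRANSP

section dual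

variable {F W : Type*} [Field F] [Finite F] [AddCommGroup W] [Module F W]

theorem ann_top' (B : LinearMap.BilinForm F W) (hB : B.Nondegenerate) :
    ann B (⊤ : AddSubgroup W) = ⊥ := by
  rw [eq_bot_iff]
  intro x hx
  rw [AddSubgroup.mem_bot]
  by_contra hx0
  obtain ⟨y, hy⟩ : ∃ y, B x y ≠ 0 := by
    by_contra h
    push Not at h
    exact hx0 (hB.1 x h)
  let _ := ZMod.algebra F (ringChar F)
  obtain ⟨b, hb⟩ := FiniteField.trace_to_zmod_nondegenerate F hy
  have h1 := hx (b • y) (AddSubgroup.mem_top _)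
  rw [map_smul, smul_eq_mul, mul_comm] at h1
  exact hb h1

omit [Finite F] in
theorem ann_bot' (B : LinearMap.BilinForm F W) : ann B (⊥ : AddSubgroup W) = ⊤ := by
  rw [eq_top_iff]
  intro x _ y hy
  rw [AddSubgroup.mem_bot] at hy
  rw [hy, map_zero, map_zero]

end dual

section basic

variable {F V : Type*} [Field F] [AddCommGroup V] [Module F V]

theorem act_inv_act (Q : QuadraticForm F V) {X : Type*} [MulAction ↥(T Q) X] {g : V ≃ₗ[F] V}
    (hg : g ∈ T Q) (x : X) : act Q g⁻¹ (act Q g x) = x := by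
  rw [← act_mul Q ((T Q).inv_mem hg) hg, inv_mul_cancel, act_one]

theorem act_act_inv (Q : QuadraticForm F V) {X : Type*} [MulAction ↥(T Q) X] {g : V ≃ₗ[F] V}
    (hg : g ∈ T Q) (x : X) : act Q g (act Q g⁻¹ x) = x := by
  rw [← act_mul Q hg ((T Q).inv_mem hg), mul_inv_cancel, act_one]

/-- `E(y, y₂) = E(y₂, -y)` for orthogonal singular vectors -/
theorem E_swap (Q : QuadraticForm F V) {y y₂ : V} (hy : Q y = 0) (hy₂ : Q y₂ = 0)
    (hyy : QuadraticMap.polar (⇑Q) y y₂ = 0) : E Q y y₂ = E Q y₂ (-y) := by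
  have h1 : QuadraticMap.polar (⇑Q) y₂ (-y) = 0 := by
    rw [QuadraticMap.polar_neg_right, QuadraticMap.polar_comm, hyy, neg_zero]
  apply LinearEquiv.ext
  intro x
  rw [E_apply Q hy hyy, E_apply Q hy₂ h1, hy₂, QuadraticMap.map_neg, hy,
    QuadraticMap.polar_neg_right]
  module

end basic

section part2

variable {F V : Type*} [Field F] [Fintype F] [AddCommGroup V] [Module F V] [FiniteDimensional F V]

/-- Out1 ⇒ every point is fixed by `A` or has trivial `A`-stabiliser -/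
theorem dich_A (Q : QuadraticForm F V) (hQ : (QuadraticMap.polarBilin Q).Nondegenerate)
    {v v' : V} (hv : Q v = 0) (hv' : Q v' = 0)
    (hvv' : QuadraticMap.polar (⇑Q) v v' = 1) {X : Type*} [MulAction ↥(T Q) X]
    {𝒪 : Type*} (D : FamData Q v v' X 𝒪) (h1 : Out1 D.C) (x : X) :
    (∀ w : ↥(perp Q v v'), act Q (E Q v (w : V)) x = x) ∨
      (∀ w : ↥(perp Q v v'), act Q (E Q v (w : V)) x = x → w = 0) := by
  obtain ⟨O₀, htop, hbot⟩ := h1
  by_cases hO : D.orb x = O₀
  · right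
    intro w hw
    rw [D.stab, hO, htop, ann_top' _ (nondegenerate_perp hQ hv hv' hvv'), AddSubgroup.mem_bot] at hw
    exact hw
  · left
    intro w
    rw [D.stab, hbot _ hO, ann_bot']
    exact AddSubgroup.mem_top _

/-- the same dichotomy for every root group -/
theorem dich_root (Q : QuadraticForm F V) (hQ : (QuadraticMap.polarBilin Q).Nondegenerate)
    (hdim : 5 ≤ finrank F V) {v v' : V} (hv : Q v = 0) (hv' : Q v' = 0)
    (hvv' : QuadraticMap.polar (⇑Q) v v' = 1) {X : Type*} [MulAction ↥(T Q) X]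
    (hA : ∀ x : X, (∀ w : ↥(perp Q v v'), act Q (E Q v (w : V)) x = x) ∨
      (∀ w : ↥(perp Q v v'), act Q (E Q v (w : V)) x = x → w = 0))
    {y : V} (hy0 : y ≠ 0) (hy : Q y = 0) (x : X) :
    (∀ u : V, QuadraticMap.polar (⇑Q) y u = 0 → act Q (E Q y u) x = x) ∨
      (∀ u : V, QuadraticMap.polar (⇑Q) y u = 0 → act Q (E Q y u) x = x → E Q y u = 1) := by
  obtain ⟨g, hgT, c, hc, hgv, -, h2⟩ := transp Q hQ hdim hv hv' hvv' hy0 hy
  have hET : ∀ w : ↥(perp Q v v'), E Q v (w : V) ∈ T Q := fun w =>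
    E_mem_T Q hQ hdim hv ((mem_perp Q v v').mp w.2).1
  rcases hA (act Q g⁻¹ x) with hfix | hfree
  · left
    intro u hu
    obtain ⟨w, a, -, hE⟩ := h2 u hu
    rw [hE, act_mul Q ((T Q).mul_mem hgT (hET w)) ((T Q).inv_mem hgT), act_mul Q hgT (hET w),
      hfix w, act_act_inv Q hgT]
  · right
    intro u hu hfixu
    obtain ⟨w, a, -, hE⟩ := h2 u hu
    have h3 : act Q (E Q v (w : V)) (act Q g⁻¹ x) = act Q g⁻¹ x := by
      rw [hE, act_mul Q ((T Q).mul_mem hgT (hET w)) ((T Q).inv_mem hgT),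
        act_mul Q hgT (hET w)] at hfixu
      have h4 := congrArg (act Q g⁻¹) hfixu
      rwa [act_inv_act Q hgT] at h4
    have hw0 := hfree w h3
    rw [hE, hw0, ZeroMemClass.coe_zero, E_zero_right Q hv, mul_one, mul_inv_cancel]

omit [Fintype F] [FiniteDimensional F V] in
/-- a nontrivial Siegel element -/
theorem E_ne_one (Q : QuadraticForm F V) (hQ : (QuadraticMap.polarBilin Q).Nondegenerate)
    {y₂ y : V} (hy₂0 : y₂ ≠ 0) (hy₂ : Q y₂ = 0) (hy : Q y = 0)
    (hyy : QuadraticMap.polar (⇑Q) y₂ y = 0) (hns : y ∉ Submodule.span F {y₂}) :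
    E Q y₂ y ≠ 1 := by
  intro h
  obtain ⟨p, -, hp⟩ := exists_hyperbolic_partner Q hQ hy₂0 hy₂
  have h1 := E_apply Q hy₂ hyy p
  rw [h, hy, zero_mul, zero_smul, sub_zero] at h1
  have hp' : QuadraticMap.polar (⇑Q) p y₂ = 1 := by rw [QuadraticMap.polar_comm]; exact hp
  rw [hp', one_smul] at h1
  apply hns
  rw [Submodule.mem_span_singleton]
  refine ⟨QuadraticMap.polar (⇑Q) p y, ?_⟩
  have h2 : (1 : V ≃ₗ[F] V) p = p := rfl
  rw [h2] at h1
  have h3 : y - QuadraticMap.polar (⇑Q) p y • y₂ = 0 := by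
    have : p + y - QuadraticMap.polar (⇑Q) p y • y₂ - p = 0 := by rw [← h1]; abel
    rw [← this]; abel
  exact (sub_eq_zero.mp h3).symm

theorem kr1 (Q : QuadraticForm F V) (hQ : (QuadraticMap.polarBilin Q).Nondegenerate)
    (hdim : 7 ≤ finrank F V) {v v' : V} (hv : Q v = 0) (hv' : Q v' = 0)
    (hvv' : QuadraticMap.polar (⇑Q) v v' = 1) {X : Type*} [MulAction ↥(T Q) X] [Finite X]
    {𝒪 : Type*} (D : FamData Q v v' X 𝒪) (h1 : Out1 D.C) (x₀ : X)
    (hx₀ : ∀ w : ↥(perp Q v v'), act Q (E Q v (w : V)) x₀ = x₀) :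
    ∀ g : ↥(T Q), g • x₀ = x₀ := by
  have hdim5 : 5 ≤ finrank F V := by omega
  have hA := dich_A Q hQ hv hv' hvv' D h1
  have hv0 : v ≠ 0 := by
    rintro rfl
    have : QuadraticMap.polar (⇑Q) (0 : V) v' = 0 := by simp [QuadraticMap.polar]
    rw [this] at hvv'
    exact zero_ne_one hvv'
  have hv'v : QuadraticMap.polar (⇑Q) v' v = 1 := by rw [QuadraticMap.polar_comm]; exact hvv'
  have hvv : QuadraticMap.polar (⇑Q) v v = 0 := by rw [polar_self', hv, mul_zero]
  -- `v` is good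
  have hgoodv : ∀ u : V, QuadraticMap.polar (⇑Q) v u = 0 → act Q (E Q v u) x₀ = x₀ := by
    intro u hu
    have hmem : u + (-QuadraticMap.polar (⇑Q) v' u) • v ∈ perp Q v v' := by
      rw [mem_perp]
      constructor
      · rw [QuadraticMap.polar_add_right, QuadraticMap.polar_smul_right, hu, hvv, smul_zero,
          add_zero]
      · rw [QuadraticMap.polar_add_right, QuadraticMap.polar_smul_right, hv'v, smul_eq_mul,
          mul_one, add_neg_cancel]
    have h2 := hx₀ ⟨_, hmem⟩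
    rw [show ((⟨u + (-QuadraticMap.polar (⇑Q) v' u) • v, hmem⟩ : ↥(perp Q v v')) : V) =
      u + (-QuadraticMap.polar (⇑Q) v' u) • v from rfl, E_add_smul Q hv hu] at h2
    exact h2
  -- the step
  have hstep : ∀ y y₂ : V, y ≠ 0 → Q y = 0 →
      (∀ u : V, QuadraticMap.polar (⇑Q) y u = 0 → act Q (E Q y u) x₀ = x₀) →
      y₂ ≠ 0 → Q y₂ = 0 → QuadraticMap.polar (⇑Q) y y₂ = 0 →
      ∀ u : V, QuadraticMap.polar (⇑Q) y₂ u = 0 → act Q (E Q y₂ u) x₀ = x₀ := by
    intro y y₂ hy0 hy hgood hy₂0 hy₂ hyy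
    by_cases hsp : y₂ ∈ Submodule.span F {y}
    · obtain ⟨k, rfl⟩ := Submodule.mem_span_singleton.mp hsp
      have hk : k ≠ 0 := by
        rintro rfl
        rw [zero_smul] at hy₂0
        exact hy₂0 rfl
      intro u hu
      have hyu : QuadraticMap.polar (⇑Q) y u = 0 := by
        rw [QuadraticMap.polar_smul_left, smul_eq_mul] at hu
        rcases mul_eq_zero.mp hu with h0 | h0
        · exact absurd h0 hk
        · exact h0
      rw [E_smul_left Q hy hyu]
      apply hgood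
      rw [QuadraticMap.polar_smul_right, hyu, smul_zero]
    · have hy₂y : QuadraticMap.polar (⇑Q) y₂ y = 0 := by rw [QuadraticMap.polar_comm]; exact hyy
      have hy₂ny : QuadraticMap.polar (⇑Q) y₂ (-y) = 0 := by
        rw [QuadraticMap.polar_neg_right, hy₂y, neg_zero]
      have hfixm : act Q (E Q y₂ (-y)) x₀ = x₀ := by
        rw [← E_swap Q hy hy₂ hyy]
        exact hgood y₂ hyy
      rcases dich_root Q hQ hdim5 hv hv' hvv' hA hy₂0 hy₂ x₀ with hall | hfree
      · exact hall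
      · exfalso
        have h3 := hfree (-y) hy₂ny hfixm
        have hQny : Q (-y) = 0 := by rw [QuadraticMap.map_neg]; exact hy
        refine E_ne_one Q hQ hy₂0 hy₂ hQny hy₂ny ?_ h3
        intro hmem
        apply hsp
        obtain ⟨k, hk⟩ := Submodule.mem_span_singleton.mp hmem
        have hk0 : k ≠ 0 := by
          rintro rfl
          rw [zero_smul] at hk
          exact hy0 (neg_eq_zero.mp hk.symm)
        rw [Submodule.mem_span_singleton]
        refine ⟨-k⁻¹, ?_⟩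
        have : y = -(k • y₂) := by rw [hk, neg_neg]
        rw [this, smul_neg, neg_smul, neg_neg, smul_smul, inv_mul_cancel₀ hk0, one_smul]
  -- every singular vector is good
  have hgood : ∀ y : V, y ≠ 0 → Q y = 0 →
      ∀ u : V, QuadraticMap.polar (⇑Q) y u = 0 → act Q (E Q y u) x₀ = x₀ := by
    intro y hy0 hy
    by_cases hvy : QuadraticMap.polar (⇑Q) v y = 0
    · exact hstep v y hv0 hv hgoodv hy0 hy hvy
    · -- a common neighbour
      set b := QuadraticMap.polar (⇑Q) v y with hb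
      have hy' : Q (b⁻¹ • y) = 0 := by rw [QuadraticMap.map_smul, hy, smul_zero]
      have hvy' : QuadraticMap.polar (⇑Q) v (b⁻¹ • y) = 1 := by
        rw [QuadraticMap.polar_smul_right, smul_eq_mul, ← hb, inv_mul_cancel₀ hvy]
      have hfr := finrank_perp hv hy' hvy'
      obtain ⟨y₁, hy₁0, hy₁⟩ := exists_singular (Q.comp (perp Q v (b⁻¹ • y)).subtype)
        (by omega)
      have hy₁m := (mem_perp Q v (b⁻¹ • y)).mp y₁.2
      have hy₁0' : (y₁ : V) ≠ 0 := fun h => hy₁0 (Subtype.ext h)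
      have hy₁Q : Q (y₁ : V) = 0 := hy₁
      have hyy₁ : QuadraticMap.polar (⇑Q) (y₁ : V) y = 0 := by
        have h := hy₁m.2
        rw [QuadraticMap.polar_smul_left, smul_eq_mul] at h
        rcases mul_eq_zero.mp h with h0 | h0
        · exact absurd h0 (inv_ne_zero hvy)
        · rw [QuadraticMap.polar_comm]; exact h0
      exact hstep (y₁ : V) y hy₁0' hy₁Q (hstep v (y₁ : V) hv0 hv hgoodv hy₁0' hy₁Q hy₁m.1)
        hy0 hy hyy₁
  -- generation
  intro g
  obtain ⟨g, hg⟩ := g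
  have hcl : g ∈ Subgroup.closure (rootSet Q) := hg
  induction hcl using Subgroup.closure_induction with
  | mem m hm =>
    obtain ⟨u, s, hu, hs, hus, rfl⟩ := hm
    rw [← act_of_mem Q hg]
    by_cases hu0 : u = 0
    · rw [hu0, E_zero_left, act_one]
    · exact hgood u hu0 hu s hus
  | one => exact one_smul _ _
  | mul a b ha hb iha ihb =>
    have haT : a ∈ T Q := ha
    have hbT : b ∈ T Q := hb
    have : (⟨a * b, hg⟩ : ↥(T Q)) = ⟨a, haT⟩ * ⟨b, hbT⟩ := rfl
    rw [this, mul_smul, ihb hbT, iha haT]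
  | inv a ha iha =>
    have haT : a ∈ T Q := ha
    have : (⟨a⁻¹, hg⟩ : ↥(T Q)) = (⟨a, haT⟩ : ↥(T Q))⁻¹ := rfl
    rw [this, inv_smul_eq_iff, iha haT]

end part2

end Cfsg.Agent.Lib.Helper55_MIO_KR1
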