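import Mathlib
import Cfsg.Agent.Lib.Helper38_MIODefs
import Cfsg.Agent.Lib.Helper69_MIO_DUAL

/-!
MIO-STRAIGHT (helper38's MIO market, S2143/S2145/S2147): an element `z` of `T Q` scaling `v` by `c ≠ 0, 1` and
fixing `perp Q v v'` pointwise has exactly one fixed point on each `A`-orbit it preserves whose member is a subspace.
-/

set_option autoImplicit false
set_option linter.unusedSectionVars false
set_option linter.unusedVariables false

namespace Cfsg.Agent.Lib.Helper52_MIO_STRAIGHT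

open Module Cfsg.Agent.Lib.Helper94_OrthSmall Cfsg.Agent.Lib.Helper44_QuadClass
  Cfsg.Agent.Lib.Helper14_OmegaSimple Cfsg.Agent.Lib.Helper38_MIODefs

variable {F V : Type*} [Field F] [Fintype F] [AddCommGroup V] [Module F V] [FiniteDimensional F V]

theorem polar_v_perp (Q : QuadraticForm F V) {v v' : V} (w : ↥(perp Q v v')) :
    QuadraticMap.polar (⇑Q) v (w : V) = 0 := ((mem_perp Q v v').mp w.2).1

/-- `w ↦ E Q v w` is additive on the complement -/
theorem act_E_add (Q : QuadraticForm F V) (hQ : (QuadraticMap.polarBilin Q).Nondegenerate)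
    (hdim : 5 ≤ finrank F V) {v v' : V} (hv : Q v = 0) {X : Type*} [MulAction ↥(T Q) X]
    (a b : ↥(perp Q v v')) (x : X) :
    act Q (E Q v ((a + b : ↥(perp Q v v')) : V)) x = act Q (E Q v (a : V)) (act Q (E Q v (b : V)) x) := by
  rw [← act_mul Q (E_mem_T Q hQ hdim hv (polar_v_perp Q a)) (E_mem_T Q hQ hdim hv (polar_v_perp Q b)),
    E_mul Q hv (polar_v_perp Q a) (polar_v_perp Q b)]
  rfl

theorem act_E_zero (Q : QuadraticForm F V) {v v' : V} (hv : Q v = 0) {X : Type*} [MulAction ↥(T Q) X]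
    (x : X) : act Q (E Q v ((0 : ↥(perp Q v v')) : V)) x = x := by
  rw [Submodule.coe_zero, E_zero_right Q hv, act_one]

theorem act_inj (Q : QuadraticForm F V) {X : Type*} [MulAction ↥(T Q) X] {g : V ≃ₗ[F] V}
    (hg : g ∈ T Q) {x y : X} (h : act Q g x = act Q g y) : x = y := by
  rw [act_of_mem Q hg, act_of_mem Q hg] at h
  exact MulAction.injective _ h

/-- MIO-STRAIGHT -/
theorem straight (Q : QuadraticForm F V) (hQ : (QuadraticMap.polarBilin Q).Nondegenerate)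
    (hdim : 5 ≤ finrank F V) {v v' : V} (hv : Q v = 0) (hv' : Q v' = 0)
    (hvv' : QuadraticMap.polar (⇑Q) v v' = 1) {X : Type*} [MulAction ↥(T Q) X] [Finite X]
    {𝒪 : Type*} (D : FamData Q v v' X 𝒪) (z : V ≃ₗ[F] V) (hz : z ∈ T Q) (c : F) (hc0 : c ≠ 0)
    (hc1 : c ≠ 1) (hzv : z v = c • v) (hzw : ∀ w ∈ perp Q v v', z w = w) (x : X)
    (S : Submodule F ↥(perp Q v v')) (hS : D.C (D.orb x) = S.toAddSubgroup)
    (horb : D.orb (act Q z x) = D.orb x) :
    ∃! x₁ : X, D.orb x₁ = D.orb x ∧ act Q z x₁ = x₁ := by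
  have hET : ∀ w : ↥(perp Q v v'), E Q v (w : V) ∈ T Q := fun w =>
    E_mem_T Q hQ hdim hv (polar_v_perp Q w)
  -- z e(w) = e(c w) z
  have hconj : ∀ w : ↥(perp Q v v'), z * E Q v (w : V) = E Q v ((c • w : ↥(perp Q v v')) : V) * z := by
    intro w
    have h1 := conj_E Q (T_le_oG Q hz) hv (polar_v_perp Q w)
    rw [hzv, hzw _ w.2, E_smul_left Q hv (polar_v_perp Q w)] at h1
    rw [Submodule.coe_smul, ← h1]
    group
  have hc1' : c - 1 ≠ 0 := sub_ne_zero.mpr hc1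
  obtain ⟨w₀, hw₀⟩ := (D.orb_eq x (act Q z x)).mp horb.symm
  -- action of z on the orbit
  have hzact : ∀ w : ↥(perp Q v v'),
      act Q z (act Q (E Q v (w : V)) x) = act Q (E Q v ((c • w + w₀ : ↥(perp Q v v')) : V)) x := by
    intro w
    rw [← act_mul Q hz (hET w), hconj w, act_mul Q (hET _) hz, ← hw₀, ← act_E_add Q hQ hdim hv]
  -- fixed iff
  have hfix : ∀ w : ↥(perp Q v v'), act Q z (act Q (E Q v (w : V)) x) = act Q (E Q v (w : V)) x ↔
      (c - 1) • w + w₀ ∈ ann (Bp Q v v') (D.C (D.orb x)) := by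
    intro w
    rw [hzact w, ← D.stab x]
    have h2 : (c • w + w₀ : ↥(perp Q v v')) = w + ((c - 1) • w + w₀) := by
      rw [sub_smul, one_smul]; abel
    rw [h2, act_E_add Q hQ hdim hv]
    constructor
    · intro h
      exact act_inj Q (hET w) h
    · intro h
      rw [h]
  -- ann is an F-subspace
  have hann : ∀ w : ↥(perp Q v v'), w ∈ ann (Bp Q v v') (D.C (D.orb x)) ↔ ∀ y ∈ S, Bp Q v v' w y = 0 := by
    intro w
    rw [hS]
    exact Cfsg.Agent.Lib.Helper69_MIO_DUAL.mem_ann_submodule (Bp Q v v') S w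
  refine ⟨act Q (E Q v ((-((c - 1)⁻¹ • w₀) : ↥(perp Q v v')) : V)) x, ⟨?_, ?_⟩, ?_⟩
  · rw [eq_comm, D.orb_eq]
    exact ⟨_, rfl⟩
  · rw [hfix]
    have : (c - 1) • (-((c - 1)⁻¹ • w₀)) + w₀ = 0 := by
      rw [smul_neg, smul_smul, mul_inv_cancel₀ hc1', one_smul, neg_add_cancel]
    rw [this]
    exact zero_mem _
  · rintro x₂ ⟨h1, h2⟩
    obtain ⟨w₂, hw₂⟩ := (D.orb_eq x x₂).mp h1.symm
    subst hw₂
    have h3 := (hfix w₂).mp h2
    -- difference
    have h4 : (c - 1) • (-((c - 1)⁻¹ • w₀)) + w₀ ∈ ann (Bp Q v v') (D.C (D.orb x)) := by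
      have : (c - 1) • (-((c - 1)⁻¹ • w₀)) + w₀ = 0 := by
        rw [smul_neg, smul_smul, mul_inv_cancel₀ hc1', one_smul, neg_add_cancel]
      rw [this]
      exact zero_mem _
    have h5 : (c - 1) • (w₂ - (-((c - 1)⁻¹ • w₀))) ∈ ann (Bp Q v v') (D.C (D.orb x)) := by
      have := sub_mem h3 h4
      have e : (c - 1) • w₂ + w₀ - ((c - 1) • (-((c - 1)⁻¹ • w₀)) + w₀) =
          (c - 1) • (w₂ - (-((c - 1)⁻¹ • w₀))) := by
        rw [smul_sub]; abel
      rwa [e] at this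
    have h6 : w₂ - (-((c - 1)⁻¹ • w₀)) ∈ ann (Bp Q v v') (D.C (D.orb x)) := by
      rw [hann] at h5 ⊢
      intro y hy
      have := h5 y hy
      rw [map_smul, LinearMap.smul_apply, smul_eq_mul] at this
      exact (mul_eq_zero.mp this).resolve_left hc1'
    have h7 := (D.stab x _).mpr h6
    have h8 : w₂ = -((c - 1)⁻¹ • w₀) + (w₂ - (-((c - 1)⁻¹ • w₀))) := by abel
    rw [h8, act_E_add Q hQ hdim hv, h7]

end Cfsg.Agent.Lib.Helper52_MIO_STRAIGHT
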