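import Mathlib
import Cfsg.Agent.Lib.Helper38_MIODefs
import Cfsg.Agent.Lib.Helper55_MIO_TRANSP
import Cfsg.Agent.Lib.Helper55_MIO_KR1

/-!
# S2143 package MIO-KREG (architect helper38): outcome 1 without fixed points of `A` is impossible
(core form: the conclusions of MIO-ZEL and MIO-STRAIGHT are hypotheses)
-/

set_option autoImplicit false

namespace Cfsg.Agent.Lib.Helper55_MIO_KREGCore

open Module Cfsg.Agent.Lib.Helper94_OrthSmall Cfsg.Agent.Lib.Helper44_QuadClass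
  Cfsg.Agent.Lib.Helper14_OmegaSimple Cfsg.Agent.Lib.Helper38_MIODefs
  Cfsg.Agent.Lib.Helper55_MIO_TRANSP Cfsg.Agent.Lib.Helper55_MIO_KR1

section part2

variable {F V : Type*} [Field F] [Fintype F] [AddCommGroup V] [Module F V] [FiniteDimensional F V]

/-- if `A` acts freely, so does every root group -/
theorem free_root (Q : QuadraticForm F V) (hQ : (QuadraticMap.polarBilin Q).Nondegenerate)
    (hdim : 5 ≤ finrank F V) {v v' : V} (hv : Q v = 0) (hv' : Q v' = 0)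
    (hvv' : QuadraticMap.polar (⇑Q) v v' = 1) {X : Type*} [MulAction ↥(T Q) X]
    (hA : ∀ (x : X) (w : ↥(perp Q v v')), act Q (E Q v (w : V)) x = x → w = 0)
    {y : V} (hy0 : y ≠ 0) (hy : Q y = 0) (x : X) (u : V)
    (hu : QuadraticMap.polar (⇑Q) y u = 0) (hfixu : act Q (E Q y u) x = x) : E Q y u = 1 := by
  obtain ⟨g, hgT, c, hc, hgv, -, h2⟩ := transp Q hQ hdim hv hv' hvv' hy0 hy
  have hET : ∀ w : ↥(perp Q v v'), E Q v (w : V) ∈ T Q := fun w =>
    E_mem_T Q hQ hdim hv ((mem_perp Q v v').mp w.2).1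
  obtain ⟨w, a, -, hE⟩ := h2 u hu
  have h3 : act Q (E Q v (w : V)) (act Q g⁻¹ x) = act Q g⁻¹ x := by
    rw [hE, act_mul Q ((T Q).mul_mem hgT (hET w)) ((T Q).inv_mem hgT),
      act_mul Q hgT (hET w)] at hfixu
    have h4 := congrArg (act Q g⁻¹) hfixu
    rwa [act_inv_act Q hgT] at h4
  have hw0 := hA _ w h3
  rw [hE, hw0, ZeroMemClass.coe_zero, E_zero_right Q hv, mul_one, mul_inv_cancel]

/-- an element outside `{0, 1, -1}` -/
theorem exists_t (hq : 4 ≤ Fintype.card F) : ∃ t : F, t ≠ 0 ∧ t ^ 2 ≠ 1 := by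
  classical
  have hlt : ({0, 1, -1} : Finset F).card < (Finset.univ : Finset F).card := by
    have h1 : ({0, 1, -1} : Finset F).card ≤ 3 := Finset.card_le_three
    rw [Finset.card_univ]
    omega
  obtain ⟨t, -, ht⟩ := Finset.exists_mem_notMem_of_card_lt_card hlt
  simp only [Finset.mem_insert, Finset.mem_singleton, not_or] at ht
  refine ⟨t, ht.1, ?_⟩
  intro h
  have h2 : (t - 1) * (t + 1) = 0 := by linear_combination h
  rcases mul_eq_zero.mp h2 with h3 | h3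
  · exact ht.2.1 (sub_eq_zero.mp h3)
  · exact ht.2.2 (eq_neg_of_add_eq_zero_left h3)

/-- two independent orthogonal singular vectors in the complement of a hyperbolic pair -/
theorem exists_pair (Q : QuadraticForm F V) (hQ : (QuadraticMap.polarBilin Q).Nondegenerate)
    (hdim : 7 ≤ finrank F V) {v v' : V} (hv : Q v = 0) (hv' : Q v' = 0)
    (hvv' : QuadraticMap.polar (⇑Q) v v' = 1) :
    ∃ u u' : V, u ∈ perp Q v v' ∧ u' ∈ perp Q v v' ∧ u ≠ 0 ∧ Q u = 0 ∧ Q u' = 0 ∧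
      QuadraticMap.polar (⇑Q) u u' = 0 ∧ u' ∉ Submodule.span F {u} := by
  have hfr := finrank_perp hv hv' hvv'
  have hnd := nondegenerate_perp hQ hv hv' hvv'
  obtain ⟨u, hu0, hu⟩ := exists_singular (Q.comp (perp Q v v').subtype) (by omega)
  obtain ⟨u₂, hu₂, huu₂⟩ := exists_hyperbolic_partner (Q.comp (perp Q v v').subtype) hnd hu0 hu
  have hfr2 := finrank_perp hu hu₂ huu₂
  obtain ⟨u', hu'0, hu'⟩ := exists_singular
    ((Q.comp (perp Q v v').subtype).comp (perp (Q.comp (perp Q v v').subtype) u u₂).subtype)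
    (by omega)
  have hm := (mem_perp (Q.comp (perp Q v v').subtype) u u₂).mp u'.2
  rw [polar_comp_subtype, polar_comp_subtype] at hm
  refine ⟨(u : V), ((u' : ↥(perp Q v v')) : V), u.2, (u' : ↥(perp Q v v')).2, ?_, hu, hu', hm.1, ?_⟩
  · exact fun h => hu0 (Subtype.ext h)
  · intro hmem
    obtain ⟨a, ha⟩ := Submodule.mem_span_singleton.mp hmem
    have h1 := hm.2
    rw [← ha, QuadraticMap.polar_smul_right] at h1
    have h2 : QuadraticMap.polar (⇑Q) ((u₂ : V)) (u : V) = 1 := by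
      rw [QuadraticMap.polar_comm, ← polar_comp_subtype]; exact huu₂
    rw [h2, smul_eq_mul, mul_one] at h1
    rw [h1, zero_smul] at ha
    apply hu'0
    apply Subtype.ext
    apply Subtype.ext
    exact ha.symm

theorem kreg_core (Q : QuadraticForm F V) (hQ : (QuadraticMap.polarBilin Q).Nondegenerate)
    (hdim : 7 ≤ finrank F V) (hq : 4 ≤ Fintype.card F)
    {v v' : V} (hv : Q v = 0) (hv' : Q v' = 0)
    (hvv' : QuadraticMap.polar (⇑Q) v v' = 1) {X : Type*} [MulAction ↥(T Q) X] [Finite X]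
    {𝒪 : Type*} (D : FamData Q v v' X 𝒪) (h1 : Out1 D.C)
    (hnf : ∀ x : X, ∃ w : ↥(perp Q v v'), act Q (E Q v (w : V)) x ≠ x)
    (hzel : ∀ t : F, t ≠ 0 → ∃ z ∈ T Q, z v = t ^ 2 • v ∧ z v' = (t ^ 2)⁻¹ • v' ∧
      ∀ w ∈ perp Q v v', z w = w)
    (hstr : ∀ (z : V ≃ₗ[F] V), z ∈ T Q → ∀ c : F, c ≠ 0 → c ≠ 1 → z v = c • v →
      (∀ w ∈ perp Q v v', z w = w) → ∀ (x : X) (S : Submodule F ↥(perp Q v v')),
      D.C (D.orb x) = S.toAddSubgroup → D.orb (act Q z x) = D.orb x →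
      ∃! x₁ : X, D.orb x₁ = D.orb x ∧ act Q z x₁ = x₁) : False := by
  have hdim5 : 5 ≤ finrank F V := by omega
  obtain ⟨O₀, htop, hbot⟩ := h1
  -- every point lies in the regular orbit
  have horb : ∀ x : X, D.orb x = O₀ := by
    intro x
    by_contra hO
    obtain ⟨w, hw⟩ := hnf x
    apply hw
    rw [D.stab, hbot _ hO, ann_bot']
    exact AddSubgroup.mem_top _
  have hfree : ∀ (x : X) (w : ↥(perp Q v v')), act Q (E Q v (w : V)) x = x → w = 0 := by
    intro x w hw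
    rw [D.stab, horb x, htop, ann_top' _ (nondegenerate_perp hQ hv hv' hvv'),
      AddSubgroup.mem_bot] at hw
    exact hw
  obtain ⟨x⟩ : Nonempty X := by
    obtain ⟨x, -⟩ := D.orb_surj O₀
    exact ⟨x⟩
  obtain ⟨t, ht0, ht1⟩ := exists_t (F := F) hq
  obtain ⟨z, hzT, hzv, -, hzw⟩ := hzel t ht0
  obtain ⟨x₁, ⟨-, hzx₁⟩, huniq⟩ := hstr z hzT (t ^ 2) (pow_ne_zero 2 ht0) ht1 hzv hzw x ⊤
    (by rw [horb x, htop]; rfl) (by rw [horb, horb])
  obtain ⟨u, u', hum, hu'm, hu0, hu, hu', huu', hns⟩ := exists_pair Q hQ hdim hv hv' hvv'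
  have hkT : E Q u u' ∈ T Q := E_mem_T Q hQ hdim5 hu huu'
  -- `k` commutes with `z`
  have hcomm : z * E Q u u' = E Q u u' * z := by
    have h := conj_E Q (T_le_oG Q hzT) hu huu'
    rw [hzw u hum, hzw u' hu'm] at h
    calc z * E Q u u' = (z * E Q u u' * z⁻¹) * z := by group
      _ = E Q u u' * z := by rw [h]
  have hfix : act Q (E Q u u') x₁ = x₁ := by
    apply huniq
    refine ⟨by rw [horb, horb], ?_⟩
    rw [← act_mul Q hzT hkT, hcomm, act_mul Q hkT hzT, hzx₁]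
  have hk1 := free_root Q hQ hdim5 hv hv' hvv' hfree hu0 hu x₁ u' huu' hfix
  exact E_ne_one Q hQ hu0 hu hu' huu' hns hk1

end part2

end Cfsg.Agent.Lib.Helper55_MIO_KREGCore
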