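import Mathlib
import Cfsg.Agent.Lib.Helper38_MIODefs
import Cfsg.Agent.Lib.Helper55_MIO_KREGCore
import Cfsg.Agent.Lib.Helper58_MIO_ZEL
import Cfsg.Agent.Lib.Helper52_MIO_STRAIGHT

/-!
# S2143 package MIO-KREG (architect helper38): outcome 1 without fixed points of `A` is impossible
(`kreg_core` + helper58's `exists_zel` + helper52's `straight`)
-/

set_option autoImplicit false

namespace Cfsg.Agent.Lib.Helper55_MIO_KREG

open Module Cfsg.Agent.Lib.Helper94_OrthSmall Cfsg.Agent.Lib.Helper44_QuadClass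
  Cfsg.Agent.Lib.Helper14_OmegaSimple Cfsg.Agent.Lib.Helper38_MIODefs

section part2

variable {F V : Type*} [Field F] [Fintype F] [AddCommGroup V] [Module F V] [FiniteDimensional F V]

theorem kreg (Q : QuadraticForm F V) (hQ : (QuadraticMap.polarBilin Q).Nondegenerate)
    (hdim : 7 ≤ finrank F V) (hcomm : ⁅oG (⇑Q), oG (⇑Q)⁆ ≤ T Q) (hq : 4 ≤ Fintype.card F)
    {v v' : V} (hv : Q v = 0) (hv' : Q v' = 0)
    (hvv' : QuadraticMap.polar (⇑Q) v v' = 1) {X : Type*} [MulAction ↥(T Q) X] [Finite X]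
    {𝒪 : Type*} (D : FamData Q v v' X 𝒪) (h1 : Out1 D.C)
    (hnf : ∀ x : X, ∃ w : ↥(perp Q v v'), act Q (E Q v (w : V)) x ≠ x) : False := by
  have hdim5 : 5 ≤ finrank F V := by omega
  exact Cfsg.Agent.Lib.Helper55_MIO_KREGCore.kreg_core Q hQ hdim hq hv hv' hvv' D h1 hnf
    (fun t ht => Cfsg.Agent.Lib.Helper58_MIO_ZEL.exists_zel Q hQ hdim5 hcomm hv hv' hvv' t ht)
    (fun z hz c hc0 hc1 hzv hzw x S hS horb =>
      Cfsg.Agent.Lib.Helper52_MIO_STRAIGHT.straight Q hQ hdim5 hv hv' hvv' D z hz c hc0 hc1 hzv hzw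
        x S hS horb)

end part2

end Cfsg.Agent.Lib.Helper55_MIO_KREG
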