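import Mathlib
import Cfsg.Agent.Lib.Helper38_MIODefs

set_option autoImplicit false
set_option linter.unusedVariables false
set_option linter.unusedSimpArgs false
set_option linter.unusedSectionVars false

/-!
# S2143 (MIO, architect helper38), wave 2, package MIO-ARITH2:
`N - 1` does not divide `N q^(2m-1)` for `N = (q^(2m) - 1)/(q - 1)`.
-/

namespace Cfsg.Agent.Lib.Helper58_MIO_ARITH2

open Cfsg.Agent.Lib.Helper38_MIODefs

/-- the geometric sum `1 + q + ... + q^(n-1)` -/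
def G (q n : ℕ) : ℕ := ∑ i ∈ Finset.range n, q ^ i

theorem G_succ (q n : ℕ) : G q (n + 1) = q * G q n + 1 := by
  unfold G
  rw [Finset.sum_range_succ', Finset.mul_sum]
  simp [pow_succ, mul_comm]

theorem G_eq (q n : ℕ) (hq : 2 ≤ q) : G q n = (q ^ n - 1) / (q - 1) := Nat.geomSum_eq hq n

theorem arith2 (q m : ℕ) (hq : 2 ≤ q) (hm : 2 ≤ m) :
    ¬ ((q ^ (2 * m) - 1) / (q - 1) - 1) ∣ ((q ^ (2 * m) - 1) / (q - 1)) * q ^ (2 * m - 1) := by
  rw [← G_eq q (2 * m) hq]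
  obtain ⟨j, hj⟩ : ∃ j, 2 * m = j + 3 := ⟨2 * m - 3, by omega⟩
  have e1 : j + 3 - 1 = j + 2 := by omega
  rw [hj, e1, G_succ q (j + 2), G_succ q (j + 1)]
  obtain ⟨S, hS⟩ : ∃ S, S = G q (j + 1) := ⟨_, rfl⟩
  rw [← hS]
  have hS1 : 1 ≤ S := by
    rw [hS, G_succ]
    omega
  obtain ⟨R, hR⟩ : ∃ R, R = q * S + 1 := ⟨_, rfl⟩
  rw [← hR, Nat.add_sub_cancel]
  intro hdvd
  have h1 : R ∣ (q * R + 1) * q ^ (j + 2) := dvd_trans (Dvd.intro_left q rfl) hdvd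
  have hc1 : Nat.Coprime R q := by
    rw [hR]
    simp
  have hc2 : Nat.Coprime R (q * R + 1) := by
    simp
  have hc3 : Nat.Coprime R ((q * R + 1) * q ^ (j + 2)) :=
    Nat.Coprime.mul_right hc2 (Nat.Coprime.pow_right _ hc1)
  have h2 : R = 1 := Nat.Coprime.eq_one_of_dvd hc3 h1
  have h3 : 2 ≤ q * S := by nlinarith
  omega

end Cfsg.Agent.Lib.Helper58_MIO_ARITH2
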