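import Mathlib
import Cfsg.Agent.Lib.Helper38_MIODefs
import Cfsg.Agent.Lib.Helper69_MIO_DUAL
import Cfsg.Agent.Lib.Helper58_MIO_ZEL
import Cfsg.Agent.Lib.Helper55_MIO_TRANSP
import Cfsg.Agent.Lib.Helper52_MIO_STRAIGHT
import Cfsg.Agent.Lib.Helper52_MIO_RESTR
import Cfsg.Agent.Lib.Helper20_MIO_NORM

/-!
MIO-KT1 (helper38's MIO market, S2143, the `Ω₇` case): in the tight outcome `Out4` the group `A` has a fixed point,
i.e. some member of the orbit family is `⊥`.
-/

set_option autoImplicit false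
set_option linter.unusedSectionVars false
set_option linter.unusedVariables false

namespace Cfsg.Agent.Lib.Helper61_MIO_KT1

open Module Cfsg.Agent.Lib.Helper94_OrthSmall Cfsg.Agent.Lib.Helper44_QuadClass
  Cfsg.Agent.Lib.Helper14_OmegaSimple Cfsg.Agent.Lib.Helper38_MIODefs

section abs

variable {F W : Type*} [Field F] [Fintype F] [AddCommGroup W] [Module F W] [FiniteDimensional F W]

/-- a field with at least four elements has an element `t ≠ 0` with `t² ≠ 1` -/
theorem exists_sq_ne_one (hq : 4 ≤ Fintype.card F) : ∃ t : F, t ≠ 0 ∧ t ^ 2 ≠ 1 := by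
  classical
  by_contra hcon
  push Not at hcon
  have hsub : (Finset.univ : Finset F) ⊆ {0, 1, -1} := by
    intro t _
    simp only [Finset.mem_insert, Finset.mem_singleton]
    by_cases ht : t = 0
    · left; exact ht
    · right
      have h1 := hcon t ht
      have h2 : (t - 1) * (t + 1) = 0 := by ring_nf; rw [h1]; ring
      rcases mul_eq_zero.mp h2 with h | h
      · left; exact sub_eq_zero.mp h
      · right; exact eq_neg_of_add_eq_zero_left h
  have h3 := Finset.card_le_card hsub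
  rw [Finset.card_univ] at h3
  have h4 : ({0, 1, -1} : Finset F).card ≤ 3 := Finset.card_le_three
  omega

/-- a totally singular 2-space in a non-degenerate quadratic space of dimension at least five -/
theorem exists_ts2 (Q : QuadraticForm F W) (hQ : (QuadraticMap.polarBilin Q).Nondegenerate)
    (hdim : 5 ≤ finrank F W) : ∃ T : Submodule F W, IsTS Q 2 T := by
  obtain ⟨l, hl0, hl⟩ := exists_singular Q (by omega)
  obtain ⟨l', hl', hll'⟩ := exists_hyperbolic_partner Q hQ hl0 hl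
  have hfr := finrank_perp hl hl' hll'
  obtain ⟨m, hm0, hm⟩ := exists_singular (Q.comp (perp Q l l').subtype) (by omega)
  have hmQ : Q (m : W) = 0 := hm
  have hmem := (mem_perp Q l l').mp m.2
  have hm0' : (m : W) ≠ 0 := fun h => hm0 (Subtype.ext h)
  have hli : LinearIndependent F ![l, (m : W)] := by
    rw [LinearIndependent.pair_iff]
    intro a b hab
    have h1 : QuadraticMap.polar (⇑Q) l' (a • l + b • (m : W)) = 0 := by
      rw [hab]; simp [QuadraticMap.polar]
    rw [QuadraticMap.polar_add_right, QuadraticMap.polar_smul_right, QuadraticMap.polar_smul_right,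
      hmem.2, QuadraticMap.polar_comm, hll'] at h1
    have ha : a = 0 := by simpa using h1
    rw [ha, zero_smul, zero_add] at hab
    rcases smul_eq_zero.mp hab with h | h
    · exact ⟨ha, h⟩
    · exact absurd h hm0'
  refine ⟨Submodule.span F (Set.range ![l, (m : W)]), ?_, ?_⟩
  · rw [finrank_span_eq_card hli]; simp
  · intro x hx
    rw [Matrix.range_cons, Matrix.range_cons, Matrix.range_empty, Set.union_empty] at hx
    obtain ⟨a, b, rfl⟩ := Submodule.mem_span_pair.mp (by simpa [Set.insert_def, Set.union_def] using hx)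
    rw [map_smul_add, QuadraticMap.map_smul, hl, hmQ, QuadraticMap.polar_smul_right, hmem.1]
    simp

/-- Siegel elements at a vector of a totally singular subspace preserve the subspace. -/
theorem E_mem_ts (Q : QuadraticForm F W) (T : Submodule F W) (hT : ∀ x ∈ T, Q x = 0) {l w : W}
    (hl : l ∈ T) (hlw : QuadraticMap.polar (⇑Q) l w = 0) {x : W} (hx : x ∈ T) :
    E Q l w x ∈ T := by
  have hxl : QuadraticMap.polar (⇑Q) x l = 0 := by
    unfold QuadraticMap.polar
    rw [hT _ (T.add_mem hx hl), hT _ hx, hT _ hl]; ring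
  rw [E_apply Q (hT l hl) hlw, hxl, zero_smul, add_zero, mul_zero, zero_smul, sub_zero]
  exact T.sub_mem hx (T.smul_mem _ hl)

theorem E_neg_E (Q : QuadraticForm F W) {l w : W} (hl : Q l = 0)
    (hlw : QuadraticMap.polar (⇑Q) l w = 0) (x : W) : E Q l w (E Q l (-w) x) = x := by
  have h := E_inv Q hl hlw
  rw [← h, ← LinearEquiv.mul_apply, mul_inv_cancel]
  rfl

theorem E_mem_ts_iff (Q : QuadraticForm F W) (T : Submodule F W) (hT : ∀ x ∈ T, Q x = 0) {l w : W}
    (hl : l ∈ T) (hlw : QuadraticMap.polar (⇑Q) l w = 0) (x : W) :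
    E Q l w x ∈ T ↔ x ∈ T := by
  constructor
  · intro h
    have hlw' : QuadraticMap.polar (⇑Q) l (-w) = 0 := by
      rw [QuadraticMap.polar_neg_right, hlw, neg_zero]
    have h1 := E_mem_ts Q T hT hl hlw' h
    have h2 : E Q l (-w) (E Q l w x) = x := by
      have := E_neg_E Q (hT l hl) hlw' x
      rwa [neg_neg] at this
    rwa [h2] at h1
  · exact E_mem_ts Q T hT hl hlw

/-- `E(l, s v) = E(v, -s l)` -/
theorem E_swap (Q : QuadraticForm F W) {l v : W} (hl : Q l = 0) (hv : Q v = 0)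
    (hlv : QuadraticMap.polar (⇑Q) l v = 0) (s : F) : E Q l (s • v) = E Q v (-(s • l)) := by
  have hvl : QuadraticMap.polar (⇑Q) v l = 0 := by rw [QuadraticMap.polar_comm]; exact hlv
  have h1 : QuadraticMap.polar (⇑Q) l (s • v) = 0 := by
    rw [QuadraticMap.polar_smul_right, hlv, smul_zero]
  have h2 : QuadraticMap.polar (⇑Q) v (-(s • l)) = 0 := by
    rw [QuadraticMap.polar_neg_right, QuadraticMap.polar_smul_right, hvl, smul_zero, neg_zero]
  apply LinearEquiv.ext
  intro x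
  rw [E_apply Q hl h1, E_apply Q hv h2, QuadraticMap.map_smul, hv, QuadraticMap.map_neg,
    QuadraticMap.map_smul, hl, QuadraticMap.polar_smul_right, QuadraticMap.polar_neg_right,
    QuadraticMap.polar_smul_right]
  simp only [smul_eq_mul, mul_zero, zero_mul, zero_smul, sub_zero]
  module

end abs

section main

variable {F V : Type*} [Field F] [Fintype F] [AddCommGroup V] [Module F V] [FiniteDimensional F V]

open Cfsg.Agent.Lib.Helper58_MIO_ZEL Cfsg.Agent.Lib.Helper55_MIO_TRANSP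
  Cfsg.Agent.Lib.Helper52_MIO_STRAIGHT Cfsg.Agent.Lib.Helper52_MIO_RESTR
  Cfsg.Agent.Lib.Helper69_MIO_DUAL Cfsg.Agent.Lib.Helper20_MIO_NORM

/-- decomposition of a Siegel element at `l ∈ W'` -/
theorem E_decomp (Q : QuadraticForm F V) {v v' : V} (hv : Q v = 0) (hv' : Q v' = 0)
    (hvv' : QuadraticMap.polar (⇑Q) v v' = 1) (l : ↥(perp Q v v')) (hl : Q (l : V) = 0) (u : V)
    (hlu : QuadraticMap.polar (⇑Q) (l : V) u = 0) :
    ∃ (a b : F) (w : ↥(perp Q v v')), QuadraticMap.polar (⇑Q) (l : V) (w : V) = 0 ∧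
      E Q (l : V) u = E Q (l : V) (b • v') * (E Q (l : V) (a • v) * E Q (l : V) (w : V)) := by
  have hlm := (mem_perp Q v v').mp l.2
  have hlv : QuadraticMap.polar (⇑Q) (l : V) v = 0 := by rw [QuadraticMap.polar_comm]; exact hlm.1
  have hlv' : QuadraticMap.polar (⇑Q) (l : V) v' = 0 := by rw [QuadraticMap.polar_comm]; exact hlm.2
  have hv'v : QuadraticMap.polar (⇑Q) v' v = 1 := by rw [QuadraticMap.polar_comm]; exact hvv'
  set a : F := QuadraticMap.polar (⇑Q) v' u with ha
  set b : F := QuadraticMap.polar (⇑Q) v u with hb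
  have hw : u - a • v - b • v' ∈ perp Q v v' := by
    rw [mem_perp]
    constructor
    · rw [QuadraticMap.polar_sub_right, QuadraticMap.polar_sub_right, QuadraticMap.polar_smul_right,
        QuadraticMap.polar_smul_right, polar_self', hv, hvv']
      simp [hb]
    · rw [QuadraticMap.polar_sub_right, QuadraticMap.polar_sub_right, QuadraticMap.polar_smul_right,
        QuadraticMap.polar_smul_right, polar_self', hv', hv'v]
      simp [ha]
  have h1 : QuadraticMap.polar (⇑Q) (l : V) (u - a • v - b • v') = 0 := by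
    rw [QuadraticMap.polar_sub_right, QuadraticMap.polar_sub_right, QuadraticMap.polar_smul_right,
      QuadraticMap.polar_smul_right, hlu, hlv, hlv']
    simp
  have h2 : QuadraticMap.polar (⇑Q) (l : V) (a • v) = 0 := by
    rw [QuadraticMap.polar_smul_right, hlv, smul_zero]
  have h3 : QuadraticMap.polar (⇑Q) (l : V) (b • v') = 0 := by
    rw [QuadraticMap.polar_smul_right, hlv', smul_zero]
  refine ⟨a, b, ⟨_, hw⟩, h1, ?_⟩
  have h4 : QuadraticMap.polar (⇑Q) (l : V) (a • v + (u - a • v - b • v')) = 0 := by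
    rw [QuadraticMap.polar_add_right, h1, h2, add_zero]
  rw [E_mul Q hl h2 h1, E_mul Q hl h3 h4]
  congr 1
  abel

theorem kt1 (Q : QuadraticForm F V) (hQ : (QuadraticMap.polarBilin Q).Nondegenerate)
    (hdim : finrank F V = 7) (hcomm : ⁅oG (⇑Q), oG (⇑Q)⁆ ≤ T Q) (hq : 4 ≤ Fintype.card F)
    {v v' : V} (hv : Q v = 0) (hv' : Q v' = 0)
    (hvv' : QuadraticMap.polar (⇑Q) v v' = 1) {X : Type*} [MulAction ↥(T Q) X] [Finite X]
    {𝒪 : Type*} [Fintype 𝒪] (D : FamData Q v v' X 𝒪) (r N : ℕ)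
    (h4 : Out4 (Qp Q v v') D.C 2 r N) :
    1 ≤ Nat.card {O : 𝒪 // D.C O = ⊥} := by
  classical
  have hdim5 : 5 ≤ finrank F V := by omega
  have hfr := finrank_perp hv hv' hvv'
  have hndW : (QuadraticMap.polarBilin (Qp Q v v')).Nondegenerate := nondegenerate_perp hQ hv hv' hvv'
  obtain ⟨TT, hTT⟩ := exists_ts2 (Qp Q v v') hndW (by omega)
  have hTs : ∀ x ∈ TT, Q ((x : ↥(perp Q v v')) : V) = 0 := fun x hx => hTT.2 x hx
  have hTpol : ∀ x ∈ TT, ∀ y ∈ TT, QuadraticMap.polar (⇑Q) (x : V) (y : V) = 0 := by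
    intro x hx y hy
    have h1 := hTs _ (TT.add_mem hx hy)
    unfold QuadraticMap.polar
    rw [← Submodule.coe_add, h1, hTs x hx, hTs y hy]; ring
  obtain ⟨OT, hOT, hOTu⟩ := h4.2.1 TT hTT
  obtain ⟨t, ht0, ht1⟩ := exists_sq_ne_one (F := F) hq
  obtain ⟨z, hzT, hzv, hzv', hzw⟩ := exists_zel Q hQ hdim5 hcomm hv hv' hvv' t ht0
  have hc0 : t ^ 2 ≠ 0 := pow_ne_zero 2 ht0
  -- NORM for z
  obtain ⟨ρ, hρ1, hρ2⟩ := norm_perm Q hQ hdim5 hv hv' hvv' D z hzT (t ^ 2) hc0 hzv
    (LinearEquiv.refl F _) (fun w => (hzw w w.2).symm)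
  have hρOT : ρ OT = OT := by
    apply hOTu
    ext u
    have h1 := hρ2 OT ((t ^ 2) • u)
    rw [LinearEquiv.refl_apply, smul_smul, inv_mul_cancel₀ hc0, one_smul, hOT] at h1
    rw [← h1]
    exact TT.smul_mem_iff hc0
  obtain ⟨x0, hx0⟩ := D.orb_surj OT
  have horb : D.orb (act Q z x0) = D.orb x0 := by
    rw [← hρ1 x0, hx0, hρOT]
  obtain ⟨x₁, ⟨hx₁o, hx₁z⟩, hx₁u⟩ := straight Q hQ hdim5 hv hv' hvv' D z hzT (t ^ 2) hc0 ht1 hzv hzw
    x0 TT (by rw [hx0]; exact hOT) horb
  have hx₁OT : D.orb x₁ = OT := by rw [hx₁o, hx0]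
  -- Siegel elements of `W'` at a vector of `TT` fix `x₁`
  have key6 : ∀ l w : ↥(perp Q v v'), l ∈ TT → QuadraticMap.polar (⇑Q) (l : V) (w : V) = 0 →
      act Q (E Q (l : V) (w : V)) x₁ = x₁ := by
    intro l w hlT hlw
    have hl : Q (l : V) = 0 := hTs l hlT
    have kT : E Q (l : V) (w : V) ∈ T Q := E_mem_T Q hQ hdim5 hl hlw
    have hlm := (mem_perp Q v v').mp l.2
    have hwm := (mem_perp Q v v').mp w.2
    have kv : E Q (l : V) (w : V) v = (1 : F) • v := by
      rw [E_apply Q hl hlw, hlm.1, hwm.1]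
      simp
    have hlw' : QuadraticMap.polar (⇑(Qp Q v v')) l w = 0 := by
      rw [polar_comp_subtype]; exact hlw
    obtain ⟨ρk, hρk1, hρk2⟩ := norm_perm Q hQ hdim5 hv hv' hvv' D (E Q (l : V) (w : V)) kT 1
      one_ne_zero kv (E (Qp Q v v') l w) (fun x => restr Q v v' l w x hl hlw)
    have hρkOT : ρk OT = OT := by
      apply hOTu
      ext u
      have h1 := hρk2 OT (E (Qp Q v v') l (-w) u)
      rw [E_neg_E (Qp Q v v') (hTT.2 l hlT) hlw', inv_one, one_smul, hOT] at h1
      rw [← h1]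
      have hlw'' : QuadraticMap.polar (⇑(Qp Q v v')) l (-w) = 0 := by
        rw [QuadraticMap.polar_neg_right, hlw', neg_zero]
      exact E_mem_ts_iff (Qp Q v v') TT hTT.2 hlT hlw'' u
    apply hx₁u
    constructor
    · rw [← hρk1 x₁, hx₁OT, hρkOT, hx0]
    · have hcomm' : z * E Q (l : V) (w : V) = E Q (l : V) (w : V) * z := by
        have h1 := conj_E Q (T_le_oG Q hzT) hl hlw
        rw [hzw _ l.2, hzw _ w.2] at h1
        exact mul_inv_eq_iff_eq_mul.mp h1
      rw [← act_mul Q hzT kT, hcomm', act_mul Q kT hzT, hx₁z]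
  have key7 : ∀ l : ↥(perp Q v v'), l ∈ TT → ∀ s : F, act Q (E Q (l : V) (s • v)) x₁ = x₁ := by
    intro l hlT s
    have hl : Q (l : V) = 0 := hTs l hlT
    have hlm := (mem_perp Q v v').mp l.2
    have hlv : QuadraticMap.polar (⇑Q) (l : V) v = 0 := by rw [QuadraticMap.polar_comm]; exact hlm.1
    rw [E_swap Q hl hv hlv s]
    have h1 := D.stab x₁ (-(s • l))
    rw [Submodule.coe_neg, Submodule.coe_smul] at h1
    rw [h1, hx₁OT, hOT, mem_ann_submodule]
    intro y hy
    rw [QuadraticMap.polarBilin_apply_apply, polar_comp_subtype, Submodule.coe_neg,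
      Submodule.coe_smul, QuadraticMap.polar_neg_left, QuadraticMap.polar_smul_left,
      hTpol l hlT y hy, smul_zero, neg_zero]
  -- a non-zero vector of `TT`
  obtain ⟨l, hlT, hl0⟩ : ∃ l ∈ TT, l ≠ 0 := by
    have h1 : TT ≠ ⊥ := by
      intro h
      have h2 := hTT.1
      rw [h, finrank_bot] at h2
      omega
    exact Submodule.exists_mem_ne_zero_of_ne_bot h1
  have hl : Q (l : V) = 0 := hTs l hlT
  have hl0' : (l : V) ≠ 0 := fun h => hl0 (Subtype.ext h)
  have hlm := (mem_perp Q v v').mp l.2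
  have hlv' : QuadraticMap.polar (⇑Q) (l : V) v' = 0 := by rw [QuadraticMap.polar_comm]; exact hlm.2
  obtain ⟨g, hgT, c, hc0', hgv, hconj, -⟩ := transp Q hQ hdim5 hv hv' hvv' hl0' hl
  have hgiT : g⁻¹ ∈ T Q := (T Q).inv_mem hgT
  set y₀ : X := act Q g⁻¹ x₁ with hy₀
  set O : 𝒪 := D.orb y₀ with hO
  have hET : ∀ w : ↥(perp Q v v'), E Q v (w : V) ∈ T Q := fun w =>
    E_mem_T Q hQ hdim5 hv (Helper52_MIO_STRAIGHT.polar_v_perp Q w)
  have hcl : ∀ x : X, D.orb x = O → ∃ b : F, act Q g x = act Q (E Q (l : V) (b • v')) x₁ := by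
    intro x hx
    obtain ⟨w, hw⟩ := (D.orb_eq y₀ x).mp hx.symm
    have hca := conj_at Q (T_le_oG Q hgT) hc0' hgv hv hl (Helper52_MIO_STRAIGHT.polar_v_perp Q w)
    have hlu : QuadraticMap.polar (⇑Q) (l : V) (c • g (w : V)) = 0 := by
      rw [QuadraticMap.polar_smul_right, hca.1, smul_zero]
    obtain ⟨a, b, w'', hlw'', hdec⟩ := E_decomp Q hv hv' hvv' l hl (c • g (w : V)) hlu
    refine ⟨b, ?_⟩
    have hmem1 : E Q (l : V) (b • v') ∈ T Q := E_mem_T Q hQ hdim5 hl (by
      rw [QuadraticMap.polar_smul_right, hlv', smul_zero])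
    have hmem2 : E Q (l : V) (a • v) ∈ T Q := E_mem_T Q hQ hdim5 hl (by
      rw [QuadraticMap.polar_smul_right, QuadraticMap.polar_comm, hlm.1, smul_zero])
    have hmem3 : E Q (l : V) (w'' : V) ∈ T Q := E_mem_T Q hQ hdim5 hl hlw''
    have h1 : act Q g x = act Q (g * E Q v (w : V) * g⁻¹) x₁ := by
      rw [act_mul Q ((T Q).mul_mem hgT (hET w)) hgiT, act_mul Q hgT (hET w), ← hy₀, hw]
    rw [h1, hca.2, hdec, act_mul Q hmem1 ((T Q).mul_mem hmem2 hmem3), act_mul Q hmem2 hmem3,
      key6 l w'' hlT hlw'', key7 l hlT a]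
  choose! f hf using hcl
  have hinj : Function.Injective (fun x : {x : X // D.orb x = O} => f x.1) := by
    intro x x' hxx'
    have h1 := hf x.1 x.2
    have h2 := hf x'.1 x'.2
    have h3 : f x.1 = f x'.1 := hxx'
    rw [h3, ← h2] at h1
    exact Subtype.ext (act_inj Q hgT h1)
  have hcard : Nat.card {x : X // D.orb x = O} ≤ Fintype.card F := by
    rw [← Nat.card_eq_fintype_card]
    exact Nat.card_le_card_of_injective _ hinj
  rcases h4.1 O with hbot | ⟨T', hT', hCT'⟩
  · have : Nonempty {O : 𝒪 // D.C O = ⊥} := ⟨⟨O, hbot⟩⟩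
    exact Nat.one_le_iff_ne_zero.mpr (Nat.card_pos.ne')
  · exfalso
    have h1 := D.card O
    rw [hCT'] at h1
    have h2 : Nat.card ↥T'.toAddSubgroup = Nat.card ↥T' := rfl
    rw [h2, Module.natCard_eq_pow_finrank (K := F), hT'.1, Nat.card_eq_fintype_card] at h1
    rw [← h1] at hcard
    nlinarith

end main

end Cfsg.Agent.Lib.Helper61_MIO_KT1
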