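import Mathlib
import Cfsg.Agent.Lib.Helper38_MIODefs
import Cfsg.Agent.Lib.Helper52_MIO_RESTR
import Cfsg.Agent.Lib.Helper20_MIO_NORM

/-!
# MIO package SYMS (architect helper38, proof helper69)

The orbit family of `A` on a `T Q`-set is symmetric under the Siegel elements of the complement `W'`:
MIO-NORM with `g = E Q u z` (`u, z ∈ W'`, so `g v = v`), `t = 1`, `ψ = E (Qp) u z` (MIO-RESTR); the permutation
has order dividing `p` because `g ^ p = E Q u (p • z) = 1`.
-/

set_option autoImplicit false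

namespace Cfsg.Agent.Lib.Helper69_MIO_SYMS

open Module Cfsg.Agent.Lib.Helper94_OrthSmall Cfsg.Agent.Lib.Helper44_QuadClass
  Cfsg.Agent.Lib.Helper14_OmegaSimple Cfsg.Agent.Lib.Helper38_MIODefs

variable {F V : Type*} [Field F] [Fintype F] [AddCommGroup V] [Module F V] [FiniteDimensional F V]

/-- powers of a Siegel element -/
theorem E_pow (Q : QuadraticForm F V) {u z : V} (hu : Q u = 0)
    (huz : QuadraticMap.polar (⇑Q) u z = 0) (j : ℕ) : E Q u z ^ j = E Q u (j • z) := by
  have hpol : ∀ j : ℕ, QuadraticMap.polar (⇑Q) u (j • z) = 0 := by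
    intro j
    rw [← Nat.cast_smul_eq_nsmul F, QuadraticMap.polar_smul_right, huz, smul_zero]
  induction j with
  | zero => rw [pow_zero, zero_smul, E_zero_right Q hu]
  | succ j ih => rw [pow_succ, ih, E_mul Q hu (hpol j) huz, succ_nsmul]

theorem siegSym_fam (Q : QuadraticForm F V) (hQ : (QuadraticMap.polarBilin Q).Nondegenerate)
    (hdim : 5 ≤ finrank F V) {v v' : V} (hv : Q v = 0) (hv' : Q v' = 0)
    (hvv' : QuadraticMap.polar (⇑Q) v v' = 1) {X : Type*} [MulAction ↥(T Q) X] [Finite X]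
    {𝒪 : Type*} (D : FamData Q v v' X 𝒪) (p : ℕ) [CharP F p] :
    SiegSym (Qp Q v v') p D.C := by
  intro u z hu huz
  have hu' : Q (u : V) = 0 := hu
  have huz' : QuadraticMap.polar (⇑Q) (u : V) (z : V) = 0 := by
    rw [← polar_comp_subtype]
    exact huz
  obtain ⟨g, hgdef⟩ : ∃ g, g = E Q (u : V) (z : V) := ⟨_, rfl⟩
  have hg : g ∈ T Q := by
    rw [hgdef]
    exact E_mem_T Q hQ hdim hu' huz'
  have hgv : g v = (1 : F) • v := by
    have h1 := (mem_perp Q v v').mp u.2
    have h2 := (mem_perp Q v v').mp z.2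
    rw [hgdef, one_smul, E_apply Q hu' huz', h1.1, h2.1]
    simp
  obtain ⟨ρ, hρ1, hρ2⟩ := Cfsg.Agent.Lib.Helper20_MIO_NORM.norm_perm Q hQ hdim hv hv' hvv' D g hg 1
    one_ne_zero hgv (E (Qp Q v v') u z)
    (fun w => by rw [hgdef]; exact Cfsg.Agent.Lib.Helper52_MIO_RESTR.restr Q v v' u z w hu' huz')
  refine ⟨ρ, ?_, ?_⟩
  · have hpow : ∀ j : ℕ, ∀ x : X, (ρ ^ j) (D.orb x) = D.orb (act Q (g ^ j) x) := by
      intro j
      induction j with
      | zero =>
        intro x
        rw [pow_zero, pow_zero, act_one]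
        rfl
      | succ j ih =>
        intro x
        rw [pow_succ', Equiv.Perm.mul_apply, ih, hρ1, pow_succ',
          act_mul Q hg (Subgroup.pow_mem _ hg j)]
    have hgp : g ^ p = 1 := by
      rw [hgdef, E_pow Q hu' huz', ← Nat.cast_smul_eq_nsmul F, CharP.cast_eq_zero F p, zero_smul,
        E_zero_right Q hu']
    ext O
    obtain ⟨x, rfl⟩ := D.orb_surj O
    rw [hpow p x, hgp, act_one]
    rfl
  · intro O x
    have h1 := hρ2 O x
    rwa [inv_one, one_smul] at h1

end Cfsg.Agent.Lib.Helper69_MIO_SYMS
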