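import Mathlib
import Cfsg.Agent.Lib.Helper38_MIODefs
import Cfsg.Agent.Lib.Helper38_MIOCore
import Cfsg.Agent.Lib.Helper10_MIO_CNTD
import Cfsg.Agent.Lib.Helper20_MIO_FAM
import Cfsg.Agent.Lib.Helper52_MIO_SUMX
import Cfsg.Agent.Lib.Helper52_MIO_SYMT
import Cfsg.Agent.Lib.Helper58_MIO_GT
import Cfsg.Agent.Lib.Helper20_MIO_NORM
import Cfsg.Agent.Lib.Helper55_MIO_KR1
import Cfsg.Agent.Lib.Helper55_MIO_KREG
import Cfsg.Agent.Lib.Helper54_MIO_KNM1
import Cfsg.Agent.Lib.Helper17_MIO_KR2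
import Cfsg.Agent.Lib.Helper54_MIO_KT2
import Cfsg.Agent.Lib.Helper58_MIO_ARITH2
import Cfsg.Agent.Lib.Helper61_MIO_KT1
import Cfsg.Agent.Lib.Helper69_MIO_SYMS

set_option autoImplicit false

namespace Cfsg.Agent.Lib.Helper38_MIOMain

open Module Cfsg.Agent.Lib.Helper94_OrthSmall Cfsg.Agent.Lib.Helper44_QuadClass
  Cfsg.Agent.Lib.Helper14_OmegaSimple Cfsg.Agent.Lib.Helper38_MIODefs
  Cfsg.Agent.Lib.Helper38_MIOCore Cfsg.Agent.Lib.Helper10_MIO_CNTD Cfsg.Agent.Lib.Helper20_MIO_FAM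
  Cfsg.Agent.Lib.Helper52_MIO_SUMX Cfsg.Agent.Lib.Helper52_MIO_SYMT Cfsg.Agent.Lib.Helper58_MIO_GT
  Cfsg.Agent.Lib.Helper20_MIO_NORM Cfsg.Agent.Lib.Helper55_MIO_KR1
  Cfsg.Agent.Lib.Helper55_MIO_KREG Cfsg.Agent.Lib.Helper54_MIO_KNM1 Cfsg.Agent.Lib.Helper17_MIO_KR2
  Cfsg.Agent.Lib.Helper54_MIO_KT2 Cfsg.Agent.Lib.Helper58_MIO_ARITH2 Cfsg.Agent.Lib.Helper61_MIO_KT1
  Cfsg.Agent.Lib.Helper69_MIO_SYMS

variable {F V : Type*} [Field F] [Fintype F] [AddCommGroup V] [Module F V] [FiniteDimensional F V]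

/-- integrality kill of the tight case -/
lemma arith4 (q N f M φ : ℕ) (hf1 : 1 ≤ f) (hMN : M < N) (h : M + (q + 1) = N + f)
    (hint : f * N = M * φ) (hN : (q + 1) ^ 2 ≤ N) : False := by
  obtain ⟨e, he⟩ : ∃ e, N = M + e := ⟨N - M, by omega⟩
  have he1 : 1 ≤ e := by omega
  have hfe : f + e = q + 1 := by omega
  have hdvd : M ∣ f * e := by
    have h1 : f * N = f * M + f * e := by rw [he]; ring
    have h2 : M ∣ f * M + f * e := by rw [← h1, hint]; exact dvd_mul_right _ _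
    exact (Nat.dvd_add_right (dvd_mul_left M f)).mp h2
  have hpos : 0 < f * e := Nat.mul_pos hf1 he1
  have hle := Nat.le_of_dvd hpos hdvd
  have : f * e ≤ (q + 1) ^ 2 := by
    have : f ≤ q + 1 := by omega
    have : e ≤ q + 1 := by omega
    nlinarith
  nlinarith


/-- geometric sum facts -/
lemma sub_one_dvd_pow (q n : ℕ) : (q - 1) ∣ q ^ n - 1 := by
  have := Nat.sub_dvd_pow_sub_pow q 1 n
  simpa using this

/-- level-set counts of the complement of a hyperbolic plane (odd case). -/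
lemma counts_perp (Q : QuadraticForm F V) {v v' : V} (hv : Q v = 0) (hv' : Q v' = 0)
    (hvv' : QuadraticMap.polar (⇑Q) v v' = 1) (k : ℕ)
    (hdW : finrank F ↥(perp Q v v') = 2 * k + 1)
    (hZ : Nat.card {x : V // Q x = 0} = Fintype.card F ^ (2 * (k + 1)))
    (hL : ∀ c : F, c ≠ 0 →
      Fintype.card F ^ (2 * (k + 1)) - Fintype.card F ^ (k + 1) ≤ Nat.card {x : V // Q x = c}) :
    Nat.card {x : ↥(perp Q v v') // x ≠ 0 ∧ Qp Q v v' x = 0} = Fintype.card F ^ (2 * k) - 1 ∧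
    ∀ c : F, c ≠ 0 → Fintype.card F ^ (2 * k) - Fintype.card F ^ k ≤
      Nat.card {x : ↥(perp Q v v') // Qp Q v v' x = c} := by
  obtain ⟨q, hqdef⟩ : ∃ q, q = Fintype.card F := ⟨_, rfl⟩
  have hq2 : 2 ≤ q := by rw [hqdef]; exact Fintype.one_lt_card
  rw [← hqdef] at hZ hL ⊢
  have hcnt := card_level_perp Q hv hv' hvv'
  rw [hdW, ← hqdef] at hcnt
  have hfin : Finite ↥(perp Q v v') := Module.finite_of_finite F
  obtain ⟨q1, rfl⟩ : ∃ q1, q = q1 + 1 := ⟨q - 1, by omega⟩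
  have hq1 : q1 + 1 - 1 = q1 := by omega
  rw [hq1] at hcnt
  have e1 : (q1 + 1) ^ (2 * (k + 1)) = (q1 + 1) * (q1 + 1) ^ (2 * k + 1) := by ring
  have e2 : (q1 + 1) ^ (2 * k + 1) = (q1 + 1) * (q1 + 1) ^ (2 * k) := by ring
  have e3 : (q1 + 1) ^ (k + 1) = (q1 + 1) * (q1 + 1) ^ k := by ring
  constructor
  · have h0 := hcnt 0
    rw [hZ, e1] at h0
    have h1 : (q1 + 1) * (q1 + 1) ^ (2 * k + 1) =
        (q1 + 1) ^ (2 * k + 1) + q1 * (q1 + 1) ^ (2 * k + 1) := by ring
    have h3 : (q1 + 1) * Nat.card {w : ↥(perp Q v v') // Q (w : V) = 0} =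
        (q1 + 1) * (q1 + 1) ^ (2 * k) := by
      rw [← e2]; omega
    have h4 : Nat.card {w : ↥(perp Q v v') // Q (w : V) = 0} = (q1 + 1) ^ (2 * k) :=
      Nat.eq_of_mul_eq_mul_left (by omega) h3
    have h5 : Nat.card {x : ↥(perp Q v v') // x ≠ 0 ∧ Qp Q v v' x = 0} + 1 =
        Nat.card {w : ↥(perp Q v v') // Q (w : V) = 0} := by
      classical
      have : Nat.card {w : ↥(perp Q v v') // Q (w : V) = 0} =
          Nat.card (Option {x : ↥(perp Q v v') // x ≠ 0 ∧ Qp Q v v' x = 0}) := by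
        apply Nat.card_congr
        refine ⟨fun w => if h : w.1 = 0 then none else some ⟨w.1, h, w.2⟩,
          fun o => match o with
            | none => ⟨0, by simp⟩
            | some x => ⟨x.1, x.2.2⟩, ?_, ?_⟩
        · intro w
          by_cases h : w.1 = 0
          · simp only [h, dite_true]
            apply Subtype.ext
            exact h.symm
          · simp only [h, dite_false]
        · intro o
          cases o with
          | none => simp
          | some x => simp only [x.2.1, dite_false]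
      rw [this, Finite.card_option]
    omega
  · intro c hc
    have h0 := hcnt c
    have hl := hL c hc
    rw [h0, e1, e3] at hl
    have hpow : (q1 + 1) ^ k ≤ (q1 + 1) ^ (2 * k) := Nat.pow_le_pow_right (by omega) (by omega)
    have h1 : (q1 + 1) * (q1 + 1) ^ (2 * k + 1) =
        (q1 + 1) ^ (2 * k + 1) + q1 * (q1 + 1) ^ (2 * k + 1) := by ring
    have h3 : (q1 + 1) * ((q1 + 1) ^ (2 * k) - (q1 + 1) ^ k) ≤
        (q1 + 1) * Nat.card {w : ↥(perp Q v v') // Q (w : V) = c} := by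
      rw [Nat.mul_sub, ← e2]
      omega
    exact Nat.le_of_mul_le_mul_left h3 (by omega)

/-- The group-side kills of the outcomes 1-3. -/
theorem kills123 (Q : QuadraticForm F V) (hQ : (QuadraticMap.polarBilin Q).Nondegenerate)
    (hdim7 : 7 ≤ finrank F V) (hcomm : ⁅oG (⇑Q), oG (⇑Q)⁆ ≤ T Q) (hq4 : 4 ≤ Fintype.card F)
    {v v' : V} (hv : Q v = 0) (hv' : Q v' = 0) (hvv' : QuadraticMap.polar (⇑Q) v v' = 1)
    {X : Type*} [MulAction ↥(T Q) X] [Finite X] [MulAction.IsPretransitive ↥(T Q) X]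
    (hX : 1 < Nat.card X) {𝒪 : Type*} [Fintype 𝒪] (D : FamData Q v v' X 𝒪) (N : ℕ)
    (hpts : Nat.card {x : V // x ≠ 0 ∧ Q x = 0} = (Fintype.card F - 1) * N)
    (hN : Fintype.card F ^ finrank F ↥(perp Q v v') < N - 1)
    (h : Out1 D.C ∨ Out2 D.C N ∨ Out3 F D.C) : False := by
  have hsum := sum_card Q D
  have hnofix : ∀ x₀ : X, ¬ ∀ g : ↥(T Q), g • x₀ = x₀ := by
    intro x₀ hfix
    have : Nat.card X ≤ 1 := by
      rw [Finite.card_le_one_iff_subsingleton]
      constructor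
      intro a b
      obtain ⟨g, hg⟩ := MulAction.exists_smul_eq (↥(T Q)) x₀ a
      obtain ⟨g', hg'⟩ := MulAction.exists_smul_eq (↥(T Q)) x₀ b
      rw [← hg, ← hg', hfix, hfix]
    omega
  obtain ⟨x₀⟩ : Nonempty X := by
    rw [← Finite.card_pos_iff]
    omega
  rcases h with h1 | h2' | h3
  · by_cases hfp : ∃ x₁ : X, ∀ w : ↥(perp Q v v'), act Q (E Q v (w : V)) x₁ = x₁
    · obtain ⟨x₁, hx₁⟩ := hfp
      exact hnofix x₁ (kr1 Q hQ hdim7 hv hv' hvv' D h1 x₁ hx₁)
    · push Not at hfp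
      exact kreg Q hQ hdim7 hcomm hq4 hv hv' hvv' D h1 hfp
  · obtain ⟨⟨O₀, htop, hne⟩, hcard⟩ := h2'
    have huniq : ∀ O, D.C O = ⊤ → O = O₀ := by
      intro O hO
      by_contra h
      exact hne O h hO
    have hdvd := knm1 Q hQ hdim7 hv hv' hvv' D O₀ htop huniq _ hpts
    rw [hsum] at hcard
    obtain ⟨M, hM⟩ : ∃ M, M = Nat.card X := ⟨_, rfl⟩
    rw [← hM] at hdvd hcard
    have hN' : N = M + 1 := by omega
    rw [hN', mul_comm] at hdvd
    have hcop : Nat.Coprime M (M + 1) := by simp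
    have hd := Nat.Coprime.dvd_of_dvd_mul_right hcop hdvd
    have hpos : 0 < Fintype.card F ^ finrank F ↥(perp Q v v') := by
      apply Nat.pow_pos
      omega
    have := Nat.le_of_dvd hpos hd
    omega
  · exact hnofix x₀ (fun g => kr2 Q hQ hdim7 hv hv' hvv' D h3 g x₀)

theorem main_trans (Q : QuadraticForm F V)
    (hQ : (QuadraticMap.polarBilin Q).Nondegenerate)
    (m : ℕ) (hm : 3 ≤ m) (hdim : Module.finrank F V = 2 * m + 1)
    (h2 : (2 : F) ≠ 0) (hq : 5 ≤ Fintype.card F)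
    (hcomm : ⁅oG (⇑Q), oG (⇑Q)⁆ ≤ T Q)
    (hZ : Nat.card {x : V // Q x = 0} = Fintype.card F ^ (2 * m))
    (hL : ∀ c : F, c ≠ 0 →
      Fintype.card F ^ (2 * m) - Fintype.card F ^ m ≤ Nat.card {x : V // Q x = c})
    {X : Type*} [MulAction ↥(T Q) X] [Finite X] [MulAction.IsPretransitive ↥(T Q) X]
    (hX : 1 < Nat.card X) :
    (Fintype.card F ^ (2 * m) - 1) / (Fintype.card F - 1) ≤ Nat.card X := by
  by_contra hlt
  push Not at hlt
  obtain ⟨q, hqdef⟩ : ∃ q, q = Fintype.card F := ⟨_, rfl⟩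
  rw [← hqdef] at hq hZ hL hlt
  have hdim5 : 5 ≤ finrank F V := by omega
  have hdim7 : 7 ≤ finrank F V := by omega
  -- the hyperbolic pair
  obtain ⟨v, hv0, hv⟩ := exists_singular Q (by omega : 3 ≤ finrank F V)
  obtain ⟨v', hv', hvv'⟩ := exists_hyperbolic_partner Q hQ hv0 hv
  have hdW := finrank_perp hv hv' hvv'
  obtain ⟨k, hk⟩ : ∃ k, m = k + 1 := ⟨m - 1, by omega⟩
  have hk2 : 2 ≤ k := by omega
  have hdW' : finrank F ↥(perp Q v v') = 2 * k + 1 := by omega
  have hQW := nondegenerate_perp hQ hv hv' hvv'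
  -- the characteristic
  obtain ⟨p, hpc⟩ := CharP.exists F
  have hp : p.Prime := by
    rcases CharP.char_is_prime_or_zero F p with h | h
    · exact h
    · exfalso
      subst h
      haveI : CharZero F := CharP.charP_to_charZero F
      exact not_finite F
  obtain ⟨n, -, hqn⟩ := FiniteField.card F p
  have hp2 : p ≠ 2 := by
    intro h
    apply h2
    have := CharP.cast_eq_zero F p
    rw [h] at this
    exact_mod_cast this
  have hp3 : 3 ≤ p := by
    have := hp.two_le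
    omega
  have hodd : Odd (Fintype.card F) := by
    rw [hqn]
    exact Odd.pow (hp.odd_of_ne_two hp2)
  have hpq : 5 ≤ p ∨ (3 ≤ p ∧ 9 ≤ Fintype.card F) := by
    by_cases h5 : 5 ≤ p
    · exact Or.inl h5
    · right
      refine ⟨hp3, ?_⟩
      have hp4 : p ≠ 4 := by
        intro h
        rw [h] at hp
        exact absurd hp (by decide)
      have hp3' : p = 3 := by omega
      rw [hp3'] at hqn
      rw [hqn]
      have hn2 : 2 ≤ (n : ℕ) := by
        by_contra hn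
        have hn1 : (n : ℕ) = 1 := by
          have := n.pos
          omega
        rw [hn1] at hqn
        omega
      calc 9 = 3 ^ 2 := by norm_num
        _ ≤ 3 ^ (n : ℕ) := Nat.pow_le_pow_right (by norm_num) hn2
  -- the orbit family
  obtain ⟨𝒪, h𝒪, ⟨D⟩⟩ := exists_famData Q hQ hdim5 hv hv' hvv' (X := X)
  have hsum := sum_card Q D
  have hS := siegSym_fam Q hQ hdim5 hv hv' hvv' D p
  have hT : TorSym (Qp Q v v') D.C := torSym_fam_of Q D
    (fun t ht => exists_torus Q hQ hdim7 hcomm hv hv' hvv' t ht)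
    (fun g hg t ht hgv ψ hψ => norm_perm Q hQ hdim5 hv hv' hvv' D g hg t ht hgv ψ hψ)
  subst hk
  rw [hqdef] at hZ hL hlt hq
  obtain ⟨hZW, hLW⟩ := counts_perp Q hv hv' hvv' k hdW' hZ hL
  have hN : 2 * (k + 1) = 2 * k + 2 := by ring
  rw [hN] at hlt
  have hcore := core_odd D.C (Qp Q v v') hQW h2 k hk2 hdW' hq hodd p hp hpq hS hT hZW hLW
    (by rw [hsum]; exact hlt)
  -- the number of singular points
  have hq2 : 2 ≤ Fintype.card F := by omega
  have hpts : Nat.card {x : V // x ≠ 0 ∧ Q x = 0} =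
      (Fintype.card F - 1) * ((Fintype.card F ^ (2 * k + 2) - 1) / (Fintype.card F - 1)) := by
    rw [Nat.mul_div_cancel' (sub_one_dvd_pow _ _)]
    have h5 : Nat.card {x : V // x ≠ 0 ∧ Q x = 0} + 1 = Nat.card {w : V // Q w = 0} := by
      classical
      have hfinV : Finite V := Module.finite_of_finite F
      have : Nat.card {w : V // Q w = 0} =
          Nat.card (Option {x : V // x ≠ 0 ∧ Q x = 0}) := by
        apply Nat.card_congr
        refine ⟨fun w => if h : w.1 = 0 then none else some ⟨w.1, h, w.2⟩,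
          fun o => match o with
            | none => ⟨0, by simp⟩
            | some x => ⟨x.1, x.2.2⟩, ?_, ?_⟩
        · intro w
          by_cases h : w.1 = 0
          · simp only [h, dite_true]
            apply Subtype.ext
            exact h.symm
          · simp only [h, dite_false]
        · intro o
          cases o with
          | none => simp
          | some x => simp only [x.2.1, dite_false]
      rw [this, Finite.card_option]
    rw [hZ, hN] at h5
    omega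
  -- no global fixed points
  have hnofix : ∀ x₀ : X, ¬ ∀ g : ↥(T Q), g • x₀ = x₀ := by
    intro x₀ hfix
    have : Nat.card X ≤ 1 := by
      rw [Finite.card_le_one_iff_subsingleton]
      constructor
      intro a b
      obtain ⟨g, hg⟩ := MulAction.exists_smul_eq (↥(T Q)) x₀ a
      obtain ⟨g', hg'⟩ := MulAction.exists_smul_eq (↥(T Q)) x₀ b
      rw [← hg, ← hg', hfix, hfix]
    omega
  obtain ⟨x₀⟩ : Nonempty X := by
    rw [← Finite.card_pos_iff]
    omega
  rcases hcore with h1 | h2' | h3 | ⟨hk2', h4⟩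
  · -- Out1
    by_cases hfp : ∃ x₁ : X, ∀ w : ↥(perp Q v v'), act Q (E Q v (w : V)) x₁ = x₁
    · obtain ⟨x₁, hx₁⟩ := hfp
      exact hnofix x₁ (kr1 Q hQ hdim7 hv hv' hvv' D h1 x₁ hx₁)
    · push Not at hfp
      exact kreg Q hQ hdim7 hcomm (by omega) hv hv' hvv' D h1 hfp
  · -- Out2
    obtain ⟨⟨O₀, htop, hne⟩, hcard⟩ := h2'
    have huniq : ∀ O, D.C O = ⊤ → O = O₀ := by
      intro O hO
      by_contra h
      exact hne O h hO
    have hdvd := knm1 Q hQ hdim7 hv hv' hvv' D O₀ htop huniq _ hpts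
    rw [hdW'] at hdvd
    rw [hsum] at hcard
    have hXeq : Nat.card X = (Fintype.card F ^ (2 * (k + 1)) - 1) / (Fintype.card F - 1) - 1 := by
      rw [hN]; omega
    have hd2 : 2 * k + 1 = 2 * (k + 1) - 1 := by omega
    rw [hXeq, hd2, ← hN] at hdvd
    exact arith2 (Fintype.card F) (k + 1) hq2 (by omega) hdvd
  · -- Out3
    exact hnofix x₀ (fun g => kr2 Q hQ hdim7 hv hv' hvv' D h3 g x₀)
  · -- Out4
    subst hk2'
    have hf1 := kt1 Q hQ (by omega) hcomm (by omega) hv hv' hvv' D _ _ h4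
    obtain ⟨φ, hφ⟩ := kt2 Q hQ hdim5 hv hv' hvv' D _ hpts
    obtain ⟨-, -, hc⟩ := h4
    rw [hsum] at hc
    refine arith4 (Fintype.card F) _ _ _ φ hf1 hlt hc hφ ?_
    obtain ⟨q1, hq1⟩ : ∃ q1, Fintype.card F = q1 + 1 := ⟨Fintype.card F - 1, by omega⟩
    rw [hq1]
    have h7 : q1 + 1 - 1 = q1 := by omega
    rw [h7]
    have hq14 : 4 ≤ q1 := by omega
    rw [Nat.le_div_iff_mul_le (by omega)]
    have h8 : (q1 + 1) ^ (2 * 2 + 2) = q1 * ((q1 + 1) ^ 5 + (q1 + 1) ^ 4 + (q1 + 1) ^ 3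
        + (q1 + 1) ^ 2 + (q1 + 1) + 1) + 1 := by ring
    rw [h8, Nat.add_sub_cancel, mul_comm]
    apply Nat.mul_le_mul_left
    have h9 : (q1 + 1 + 1) ^ 2 ≤ (q1 + 1) ^ 3 := by nlinarith
    have := Nat.zero_le ((q1 + 1) ^ 5)
    have := Nat.zero_le ((q1 + 1) ^ 4)
    omega


/-- ODD DIMENSION 2m+1 >= 7, q odd >= 5: every proper subgroup of T Q has index >= (q^(2m)-1)/(q-1). -/
theorem main_odd (Q : QuadraticForm F V)
    (hQ : (QuadraticMap.polarBilin Q).Nondegenerate)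
    (m : ℕ) (hm : 3 ≤ m) (hdim : Module.finrank F V = 2 * m + 1)
    (h2 : (2 : F) ≠ 0) (hq : 5 ≤ Fintype.card F)
    (hcomm : ⁅oG (⇑Q), oG (⇑Q)⁆ ≤ T Q)
    (hZ : Nat.card {x : V // Q x = 0} = Fintype.card F ^ (2 * m))
    (hL : ∀ c : F, c ≠ 0 →
      Fintype.card F ^ (2 * m) - Fintype.card F ^ m ≤ Nat.card {x : V // Q x = c})
    (H : Subgroup (V ≃ₗ[F] V)) (hH : H ≤ T Q) (hne : H ≠ T Q) :
    (Fintype.card F ^ (2 * m) - 1) / (Fintype.card F - 1) ≤ H.relIndex (T Q) := by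
  have hfinV : Finite V := Module.finite_of_finite F
  have hfinG : Finite (V ≃ₗ[F] V) := Finite.of_injective (fun g => (g : V → V))
    (fun g h hgh => LinearEquiv.ext (congrFun hgh))
  have hidx : H.relIndex (T Q) = Nat.card (↥(T Q) ⧸ H.subgroupOf (T Q)) := by
    rw [Subgroup.relIndex, Subgroup.index]
  rw [hidx]
  apply main_trans Q hQ m hm hdim h2 hq hcomm hZ hL
  rw [← Subgroup.index, Nat.lt_iff_add_one_le]
  by_contra h
  push Not at h
  have hpos : (H.subgroupOf (T Q)).index ≠ 0 := Subgroup.index_ne_zero_of_finite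
  have h1 : (H.subgroupOf (T Q)).index = 1 := by omega
  rw [Subgroup.index_eq_one, Subgroup.subgroupOf_eq_top] at h1
  exact hne (le_antisymm hH h1)

end Cfsg.Agent.Lib.Helper38_MIOMain
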