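import Mathlib
import Cfsg.Agent.Lib.Helper38_MIODefs

set_option autoImplicit false

/-!
# MIO-ANISO8 (architect helper38; helper74): the complement of two orthogonal hyperbolic planes in
a non-degenerate quadratic space of dimension `≥ 8` over a finite field (any characteristic)
contains an anisotropic plane.
-/

namespace Cfsg.Agent.Lib.Helper74_MIO_ANISO8

open Module Cfsg.Agent.Lib.Helper94_OrthSmall Cfsg.Agent.Lib.Helper44_QuadClass
  Cfsg.Agent.Lib.Helper14_OmegaSimple Cfsg.Agent.Lib.Helper38_MIODefs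

/-- Over a finite field some polynomial `t² + t + ζ` has no root. -/
theorem exists_no_root {F : Type*} [Field F] [Finite F] : ∃ ζ : F, ∀ t : F, t ^ 2 + t + ζ ≠ 0 := by
  have hninj : ¬ Function.Injective (fun t : F => t ^ 2 + t) := by
    intro h
    have h1 : (fun t : F => t ^ 2 + t) 0 = (fun t : F => t ^ 2 + t) (-1) := by
      simp only; ring
    have := h h1
    have h2 : (1 : F) = 0 := by linear_combination this
    exact one_ne_zero h2
  have hnsurj : ¬ Function.Surjective (fun t : F => t ^ 2 + t) := fun h =>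
    hninj (Finite.injective_iff_surjective.mpr h)
  unfold Function.Surjective at hnsurj
  push Not at hnsurj
  obtain ⟨c, hc⟩ := hnsurj
  refine ⟨-c, fun t h => hc t ?_⟩
  linear_combination h

/-- A non-degenerate quadratic space of dimension `≥ 4` over a finite field contains an anisotropic
plane. -/
theorem exists_aniso_plane4 {F U : Type*} [Field F] [Fintype F] [AddCommGroup U] [Module F U]
    [FiniteDimensional F U] (Q : QuadraticForm F U)
    (hQ : (QuadraticMap.polarBilin Q).Nondegenerate) (hdim : 4 ≤ finrank F U) :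
    ∃ w₁ w₂ : U, ∀ s t : F, Q (s • w₁ + t • w₂) = 0 → s = 0 ∧ t = 0 := by
  obtain ⟨e₁, he₁0, hQe₁⟩ := exists_singular Q (by omega)
  obtain ⟨f₁, hQf₁, hef₁⟩ := exists_hyperbolic_partner Q hQ he₁0 hQe₁
  have hdimP : finrank F ↥(perp Q e₁ f₁) + 2 = finrank F U := finrank_perp hQe₁ hQf₁ hef₁
  obtain ⟨Q', hQ'⟩ : ∃ Q' : QuadraticForm F ↥(perp Q e₁ f₁),
      Q' = Q.comp (perp Q e₁ f₁).subtype := ⟨_, rfl⟩
  have hQ'nd : (QuadraticMap.polarBilin Q').Nondegenerate := by
    rw [hQ']; exact nondegenerate_perp hQ hQe₁ hQf₁ hef₁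
  have hpol' : ∀ x y : ↥(perp Q e₁ f₁),
      QuadraticMap.polar (⇑Q') x y = QuadraticMap.polar (⇑Q) (x : U) (y : U) := by
    intro x y; rw [hQ']; exact polar_comp_subtype Q _ x y
  have hval' : ∀ x : ↥(perp Q e₁ f₁), Q' x = Q (x : U) := by
    intro x; rw [hQ']; rfl
  by_cases hs : ∃ v : ↥(perp Q e₁ f₁), v ≠ 0 ∧ Q' v = 0
  · -- a second hyperbolic pair
    obtain ⟨e₂, he₂0, hQe₂⟩ := hs
    obtain ⟨f₂, hQf₂, hef₂⟩ := exists_hyperbolic_partner Q' hQ'nd he₂0 hQe₂
    obtain ⟨ζ, hζ⟩ := exists_no_root (F := F)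
    obtain ⟨g, hg⟩ : ∃ g : ↥(perp Q e₁ f₁), g = ζ • e₂ + f₂ := ⟨_, rfl⟩
    have hQg : Q (g : U) = ζ := by
      rw [← hval', hg, map_smul_add, hQe₂, hQf₂, hef₂]; ring
    obtain ⟨hge, hgf⟩ := (mem_perp Q e₁ f₁).mp g.2
    refine ⟨e₁ + f₁, f₁ + (g : U), ?_⟩
    intro s t hst
    have hexp : Q (s • (e₁ + f₁) + t • (f₁ + (g : U))) = s ^ 2 + s * t + ζ * t ^ 2 := by
      have h1 : s • (e₁ + f₁) + t • (f₁ + (g : U)) = s • e₁ + ((s + t) • f₁ + t • (g : U)) := by
        module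
      rw [h1, map_smul_add, map_smul_add, QuadraticMap.map_smul, hQe₁, hQf₁, hQg,
        QuadraticMap.polar_add_right, QuadraticMap.polar_smul_right, QuadraticMap.polar_smul_right,
        QuadraticMap.polar_smul_right, hef₁, hge, hgf]
      simp only [smul_eq_mul]
      ring
    rw [hexp] at hst
    by_cases ht : t = 0
    · subst ht
      refine ⟨?_, rfl⟩
      have : s ^ 2 = 0 := by linear_combination hst
      exact pow_eq_zero_iff (two_ne_zero) |>.mp this
    · exfalso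
      apply hζ (s / t)
      field_simp
      linear_combination hst
  · -- the complement is anisotropic
    push Not at hs
    have hP : 1 < finrank F ↥(perp Q e₁ f₁) := by omega
    have hnt : Nontrivial ↥(perp Q e₁ f₁) := Module.nontrivial_of_finrank_pos (R := F) (by omega)
    obtain ⟨x, hx⟩ := exists_ne (0 : ↥(perp Q e₁ f₁))
    obtain ⟨y, hy⟩ := exists_linearIndependent_pair_of_one_lt_finrank hP hx
    refine ⟨(x : U), (y : U), ?_⟩
    intro s t hst
    have h0 : s • x + t • y = 0 := by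
      by_contra hne
      apply hs _ hne
      rw [hval']
      simpa using hst
    exact LinearIndependent.pair_iff.mp hy s t h0

variable {F W : Type*} [Field F] [Fintype F] [AddCommGroup W] [Module F W] [FiniteDimensional F W]

theorem aniso_ge8 (Q : QuadraticForm F W) (hQ : (QuadraticMap.polarBilin Q).Nondegenerate)
    (hdim : 8 ≤ finrank F W) : HasAniso Q := by
  intro a b c e ha hb hab hc he hce hac hae hbc hbe
  -- first complement
  have hcm : c ∈ perp Q a b := (mem_perp Q a b).2 ⟨hac, hbc⟩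
  have hem : e ∈ perp Q a b := (mem_perp Q a b).2 ⟨hae, hbe⟩
  obtain ⟨Q1, hQ1⟩ : ∃ Q1 : QuadraticForm F ↥(perp Q a b), Q1 = Q.comp (perp Q a b).subtype :=
    ⟨_, rfl⟩
  have hQ1nd : (QuadraticMap.polarBilin Q1).Nondegenerate := by
    rw [hQ1]; exact nondegenerate_perp hQ ha hb hab
  have hdim1 : finrank F ↥(perp Q a b) + 2 = finrank F W := finrank_perp ha hb hab
  have hpol1 : ∀ x y : ↥(perp Q a b),
      QuadraticMap.polar (⇑Q1) x y = QuadraticMap.polar (⇑Q) (x : W) (y : W) := by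
    intro x y; rw [hQ1]; exact polar_comp_subtype Q _ x y
  have hval1 : ∀ x : ↥(perp Q a b), Q1 x = Q (x : W) := by
    intro x; rw [hQ1]; rfl
  obtain ⟨c1, hc1⟩ : ∃ c1 : ↥(perp Q a b), c1 = ⟨c, hcm⟩ := ⟨_, rfl⟩
  obtain ⟨e1, he1⟩ : ∃ e1 : ↥(perp Q a b), e1 = ⟨e, hem⟩ := ⟨_, rfl⟩
  have hc1v : (c1 : W) = c := by rw [hc1]
  have he1v : (e1 : W) = e := by rw [he1]
  have hQc1 : Q1 c1 = 0 := by rw [hval1, hc1v, hc]
  have hQe1 : Q1 e1 = 0 := by rw [hval1, he1v, he]
  have hce1 : QuadraticMap.polar (⇑Q1) c1 e1 = 1 := by rw [hpol1, hc1v, he1v, hce]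
  -- second complement
  have hQ2nd : (QuadraticMap.polarBilin (Q1.comp (perp Q1 c1 e1).subtype)).Nondegenerate :=
    nondegenerate_perp hQ1nd hQc1 hQe1 hce1
  have hdim2 : finrank F ↥(perp Q1 c1 e1) + 2 = finrank F ↥(perp Q a b) :=
    finrank_perp hQc1 hQe1 hce1
  obtain ⟨w₁, w₂, hw⟩ := exists_aniso_plane4 (Q1.comp (perp Q1 c1 e1).subtype) hQ2nd (by omega)
  have hmem : ∀ w : ↥(perp Q1 c1 e1),
      QuadraticMap.polar (⇑Q) a ((w : ↥(perp Q a b)) : W) = 0 ∧
      QuadraticMap.polar (⇑Q) b ((w : ↥(perp Q a b)) : W) = 0 ∧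
      QuadraticMap.polar (⇑Q) c ((w : ↥(perp Q a b)) : W) = 0 ∧
      QuadraticMap.polar (⇑Q) e ((w : ↥(perp Q a b)) : W) = 0 := by
    intro w
    obtain ⟨k1, k2⟩ := (mem_perp Q a b).1 (w : ↥(perp Q a b)).2
    obtain ⟨k3, k4⟩ := (mem_perp Q1 c1 e1).1 w.2
    rw [hpol1, hc1v] at k3
    rw [hpol1, he1v] at k4
    exact ⟨k1, k2, k3, k4⟩
  refine ⟨((w₁ : ↥(perp Q a b)) : W), ((w₂ : ↥(perp Q a b)) : W), hmem w₁, hmem w₂, ?_⟩
  intro s t hst
  apply hw s t
  show Q1 ((s • w₁ + t • w₂ : ↥(perp Q1 c1 e1)) : ↥(perp Q a b)) = 0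
  rw [hval1]
  simpa using hst

end Cfsg.Agent.Lib.Helper74_MIO_ANISO8
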