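import Mathlib
import Cfsg.Agent.Lib.Helper38_MIODefs

set_option autoImplicit false

/-!
# MIO-SQ2 (architect helper38; helper74): in characteristic 2 every element of a finite field is
a square, so the "square class" of `c ≠ 0` is all of `F \ 0`.
-/

namespace Cfsg.Agent.Lib.Helper74_MIO_SQ2

/-- Squaring is injective in characteristic two. -/
theorem sq_injective {F : Type*} [Field F] (h2 : (2 : F) = 0) :
    Function.Injective (fun t : F => t ^ 2) := by
  intro t s hts
  simp only at hts
  have h1 : (t + s) ^ 2 = 0 := by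
    have : (t + s) ^ 2 = t ^ 2 + s ^ 2 + 2 * (t * s) := by ring
    rw [this, h2, zero_mul, add_zero, hts]
    have : s ^ 2 + s ^ 2 = 2 * s ^ 2 := by ring
    rw [this, h2, zero_mul]
  have h3 : t + s = 0 := (pow_eq_zero_iff (two_ne_zero)).mp h1
  have h4 : s + s = 0 := by
    have : s + s = 2 * s := by ring
    rw [this, h2, zero_mul]
  calc t = t + (s + s) := by rw [h4, add_zero]
    _ = (t + s) + s := by ring
    _ = s := by rw [h3, zero_add]

theorem card_sq_class_two {F : Type*} [Field F] [Fintype F] (h2 : (2 : F) = 0) (c : F) (hc : c ≠ 0) :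
    Fintype.card F - 1 ≤ Nat.card {c' : F // ∃ t : F, t ≠ 0 ∧ c' = t ^ 2 * c} := by
  classical
  have hsurj : Function.Surjective (fun t : F => t ^ 2) :=
    Finite.injective_iff_surjective.mp (sq_injective h2)
  have hcard : Fintype.card F - 1 = Nat.card {c' : F // c' ≠ 0} := by
    rw [Nat.card_eq_fintype_card, Fintype.card_subtype_compl, Fintype.card_subtype_eq]
  rw [hcard]
  apply Nat.card_le_card_of_injective
    (fun x : {c' : F // c' ≠ 0} => (⟨x.1, by
      obtain ⟨t, ht⟩ := hsurj (x.1 / c)
      simp only at ht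
      refine ⟨t, ?_, ?_⟩
      · rintro rfl
        have : x.1 / c = 0 := by rw [← ht]; ring
        rcases div_eq_zero_iff.mp this with h | h
        · exact x.2 h
        · exact hc h
      · rw [ht]; field_simp⟩ : {c' : F // ∃ t : F, t ≠ 0 ∧ c' = t ^ 2 * c}))
  intro x y hxy
  apply Subtype.ext
  exact congrArg (fun z : {c' : F // ∃ t : F, t ≠ 0 ∧ c' = t ^ 2 * c} => z.1) hxy

end Cfsg.Agent.Lib.Helper74_MIO_SQ2
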