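import Mathlib
import Cfsg.Agent.Lib.Helper38_MIODefs
import Cfsg.Agent.Lib.Helper38_MIOMain
import Cfsg.Agent.Lib.Helper1_MIO_ANISO6M
import Cfsg.Agent.Lib.Helper74_MIO_ANISO8
import Cfsg.Agent.Lib.Helper91_MIO_CNTMINUS
import Cfsg.Agent.Lib.Helper1_MIO_INVNS2
import Cfsg.Agent.Lib.Helper28_MIO_NUMMINUS
import Cfsg.Agent.Lib.Helper74_MIO_SQ2

set_option autoImplicit false

namespace Cfsg.Agent.Lib.Helper38_MIOMinus

open Module Cfsg.Agent.Lib.Helper94_OrthSmall Cfsg.Agent.Lib.Helper44_QuadClass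
  Cfsg.Agent.Lib.Helper14_OmegaSimple Cfsg.Agent.Lib.Helper38_MIODefs
  Cfsg.Agent.Lib.Helper38_MIOCore Cfsg.Agent.Lib.Helper38_MIOMain
  Cfsg.Agent.Lib.Helper20_MIO_FAM
  Cfsg.Agent.Lib.Helper52_MIO_SUMX Cfsg.Agent.Lib.Helper52_MIO_SYMT Cfsg.Agent.Lib.Helper58_MIO_GT
  Cfsg.Agent.Lib.Helper20_MIO_NORM Cfsg.Agent.Lib.Helper69_MIO_SYMS
  Cfsg.Agent.Lib.Helper2_MIO_INVNS Cfsg.Agent.Lib.Helper61_MIO_SQ
  Cfsg.Agent.Lib.Helper1_MIO_ANISO6M Cfsg.Agent.Lib.Helper74_MIO_ANISO8 Cfsg.Agent.Lib.Helper91_MIO_CNTMINUS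
  Cfsg.Agent.Lib.Helper1_MIO_INVNS2 Cfsg.Agent.Lib.Helper28_MIO_NUMMINUS Cfsg.Agent.Lib.Helper74_MIO_SQ2

universe uF uV

variable {F : Type uF} {V : Type uV} [Field F] [Fintype F] [AddCommGroup V] [Module F V]
  [FiniteDimensional F V]

/-- The characteristic data: a prime `p`, `CharP F p`, and the square-class size `κ`. -/
lemma exists_char_data (hq : 4 ≤ Fintype.card F) :
    ∃ (p κ : ℕ), p.Prime ∧ CharP F p ∧
      ((Odd (Fintype.card F) ∧ κ = (Fintype.card F - 1) / 2 ∧
          (5 ≤ p ∨ (3 ≤ p ∧ 9 ≤ Fintype.card F))) ∨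
        (Even (Fintype.card F) ∧ κ = Fintype.card F - 1 ∧ 2 ≤ p)) ∧
      (∀ c : F, c ≠ 0 → κ ≤ Nat.card {c' : F // ∃ t : F, t ≠ 0 ∧ c' = t ^ 2 * c}) := by
  obtain ⟨p, hpc⟩ := CharP.exists F
  have hp : p.Prime := by
    rcases CharP.char_is_prime_or_zero F p with h | h
    · exact h
    · exfalso
      subst h
      have : CharZero F := CharP.charP_to_charZero F
      exact not_finite F
  obtain ⟨n, -, hqn⟩ := FiniteField.card F p
  by_cases hp2 : p = 2
  · subst hp2
    have h2 : (2 : F) = 0 := by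
      have := CharP.cast_eq_zero F 2
      exact_mod_cast this
    refine ⟨2, Fintype.card F - 1, hp, hpc, Or.inr ⟨?_, rfl, le_refl _⟩,
      fun c hc => card_sq_class_two h2 c hc⟩
    rw [hqn]
    exact (Nat.even_pow.mpr ⟨even_two, n.pos.ne'⟩)
  · have h2 : (2 : F) ≠ 0 := by
      intro h
      have h' : ((2 : ℕ) : F) = 0 := by exact_mod_cast h
      have := (CharP.cast_eq_zero_iff F p 2).mp h'
      have := (Nat.prime_dvd_prime_iff_eq hp Nat.prime_two).mp this
      exact hp2 this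
    have hp3 : 3 ≤ p := by
      have := hp.two_le
      omega
    refine ⟨p, (Fintype.card F - 1) / 2, hp, hpc, Or.inl ⟨?_, rfl, ?_⟩,
      fun c hc => card_sq_class h2 c hc⟩
    · rw [hqn]
      exact Odd.pow (hp.odd_of_ne_two hp2)
    · by_cases h5 : 5 ≤ p
      · exact Or.inl h5
      · right
        refine ⟨hp3, ?_⟩
        have hp4 : p ≠ 4 := by
          intro h
          rw [h] at hp
          exact absurd hp (by decide)
        have hp3' : p = 3 := by omega
        rw [hp3'] at hqn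
        rw [hqn]
        have hn2 : 2 ≤ (n : ℕ) := by
          by_contra hn
          have hn1 : (n : ℕ) = 1 := by
            have := n.pos
            omega
          rw [hn1] at hqn
          omega
        calc 9 = 3 ^ 2 := by norm_num
          _ ≤ 3 ^ (n : ℕ) := Nat.pow_le_pow_right (by norm_num) hn2


lemma invns_all {W : Type*} [AddCommGroup W] [Module F W] [FiniteDimensional F W]
    (Q : QuadraticForm F W) (hQ : (QuadraticMap.polarBilin Q).Nondegenerate)
    (hdim : 5 ≤ finrank F W) (S : AddSubgroup W) {l : W} (hl : l ∈ S) (hQl : Q l ≠ 0)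
    (hinv : ∀ u z : W, Q u = 0 → QuadraticMap.polar (⇑Q) u z = 0 → E Q u z l = l →
      ∀ x ∈ S, E Q u z x ∈ S) :
    (∀ x ∈ S, ∃ a : F, x = a • l) ∨ (∀ x : W, QuadraticMap.polar (⇑Q) l x = 0 → x ∈ S) := by
  by_cases h2 : (2 : F) = 0
  · exact invns2 Q hQ h2 hdim S hl hQl hinv
  · exact invns Q hQ h2 hdim S hl hQl hinv

/-- number of non-zero singular vectors from the number of singular vectors -/
lemma card_ne_zero_sing (Q : QuadraticForm F V) :
    Nat.card {x : V // x ≠ 0 ∧ Q x = 0} + 1 = Nat.card {w : V // Q w = 0} := by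
  classical
  have hfinV : Finite V := Module.finite_of_finite F
  have : Nat.card {w : V // Q w = 0} =
      Nat.card (Option {x : V // x ≠ 0 ∧ Q x = 0}) := by
    apply Nat.card_congr
    refine ⟨fun w => if h : w.1 = 0 then none else some ⟨w.1, h, w.2⟩,
      fun o => match o with
        | none => ⟨0, by simp⟩
        | some x => ⟨x.1, x.2.2⟩, ?_, ?_⟩
    · intro w
      by_cases h : w.1 = 0
      · simp only [h, dite_true]
        apply Subtype.ext
        exact h.symm
      · simp only [h, dite_false]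
    · intro o
      cases o with
      | none => simp
      | some x => simp only [x.2.1, dite_false]
  rw [this, Finite.card_option]

theorem main_minus_trans (Q : QuadraticForm F V)
    (hQ : (QuadraticMap.polarBilin Q).Nondegenerate)
    (m : ℕ) (hm : 4 ≤ m) (hdim : Module.finrank F V = 2 * m)
    (hq : 4 ≤ Fintype.card F)
    (hcomm : ⁅oG (⇑Q), oG (⇑Q)⁆ ≤ T Q)
    (hZ : Nat.card {x : V // Q x = 0} =
      Fintype.card F ^ (2 * m - 1) - Fintype.card F ^ m + Fintype.card F ^ (m - 1))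
    (hL : ∀ c : F, c ≠ 0 →
      Nat.card {x : V // Q x = c} = Fintype.card F ^ (2 * m - 1) + Fintype.card F ^ (m - 1))
    {X : Type*} [MulAction ↥(T Q) X] [Finite X] [MulAction.IsPretransitive ↥(T Q) X]
    (hX : 1 < Nat.card X) :
    (Fintype.card F ^ m + 1) * (Fintype.card F ^ (m - 1) - 1) / (Fintype.card F - 1) ≤
      Nat.card X := by
  by_contra hlt
  push Not at hlt
  have hdim5 : 5 ≤ finrank F V := by omega
  have hdim7 : 7 ≤ finrank F V := by omega
  obtain ⟨v, hv0, hv⟩ := exists_singular Q (by omega : 3 ≤ finrank F V)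
  obtain ⟨v', hv', hvv'⟩ := exists_hyperbolic_partner Q hQ hv0 hv
  have hdW := finrank_perp hv hv' hvv'
  have hdW' : finrank F ↥(perp Q v v') = 2 * (m - 1) := by omega
  have hQW := nondegenerate_perp hQ hv hv' hvv'
  obtain ⟨p, κ, hp, hpc, hpκ, hκ⟩ := exists_char_data (F := F) hq
  obtain ⟨𝒪, h𝒪, ⟨D⟩⟩ := exists_famData Q hQ hdim5 hv hv' hvv' (X := X)
  have hsum := sum_card Q D
  have hS := siegSym_fam Q hQ hdim5 hv hv' hvv' D p
  have hT : TorSym (Qp Q v v') D.C := torSym_fam_of Q D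
    (fun t ht => exists_torus Q hQ hdim7 hcomm hv hv' hvv' t ht)
    (fun g hg t ht hgv ψ hψ => norm_perm Q hQ hdim5 hv hv' hvv' D g hg t ht hgv ψ hψ)
  obtain ⟨hZW0, hZW, hLW⟩ := counts_perp_minus Q hv hv' hvv' m (by omega) hdW' hZ hL
  have num := num_minus (Fintype.card F) p (m - 1) κ hq (by omega) hpκ
  have hm1 : m - 1 + 1 = m := by omega
  rw [hm1] at num
  have hdW5 : 5 ≤ finrank F ↥(perp Q v v') := by omega
  -- anisotropic planes
  have hP : HasAniso (Qp Q v v') := by
    by_cases hm4 : m = 4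
    · subst hm4
      exact aniso_minus6 (Qp Q v v') hQW (by omega) hZW0
    · exact aniso_ge8 (Qp Q v v') hQW (by omega)
  have hcore := core_aniso D.C (Qp Q v v') hQW hdW5 hP
    (fun S _ hl hQl hinv => invns_all (Qp Q v v') hQW hdW5 S hl hQl hinv) p hp hS hT _ _ _ _ _ hZW
    (fun c hc => (hLW c hc).ge) hκ _ hdW' num (by rw [hsum]; exact hlt)
  -- the number of singular points
  have hq2 : 2 ≤ Fintype.card F := by omega
  have hdvd : (Fintype.card F - 1) ∣ (Fintype.card F ^ m + 1) * (Fintype.card F ^ (m - 1) - 1) :=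
    Dvd.dvd.mul_left (sub_one_dvd_pow _ _) _
  have hpts : Nat.card {x : V // x ≠ 0 ∧ Q x = 0} = (Fintype.card F - 1) *
      ((Fintype.card F ^ m + 1) * (Fintype.card F ^ (m - 1) - 1) / (Fintype.card F - 1)) := by
    rw [Nat.mul_div_cancel' hdvd]
    have h5 := card_ne_zero_sing Q
    rw [hZ] at h5
    obtain ⟨a, ha⟩ : ∃ a, a = Fintype.card F ^ (m - 1) := ⟨_, rfl⟩
    have ha1 : 1 ≤ a := by rw [ha]; exact Nat.one_le_pow _ _ (by omega)
    have hqm : Fintype.card F ^ m = Fintype.card F * a := by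
      rw [ha, ← pow_succ', hm1]
    have h2m : Fintype.card F ^ (2 * m - 1) = Fintype.card F * a * a := by
      rw [ha, mul_assoc, ← pow_add, ← pow_succ']
      congr 1
      omega
    rw [← ha, hqm, h2m] at h5
    rw [← ha, hqm]
    have hle : Fintype.card F * a ≤ Fintype.card F * a * a := Nat.le_mul_of_pos_right _ ha1
    have e : (Fintype.card F * a + 1) * (a - 1) + (Fintype.card F * a + 1)
        = (Fintype.card F * a + 1) * a := by
      obtain ⟨a', rfl⟩ : ∃ a', a = a' + 1 := ⟨a - 1, by omega⟩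
      rw [Nat.add_sub_cancel]; ring
    have e2 : (Fintype.card F * a + 1) * a = Fintype.card F * a * a + a := by ring
    omega
  have hN : Fintype.card F ^ finrank F ↥(perp Q v v') <
      (Fintype.card F ^ m + 1) * (Fintype.card F ^ (m - 1) - 1) / (Fintype.card F - 1) - 1 := by
    have h1 := num.e2
    have h2 := num.n2
    rw [hdW']
    clear hpts hcore hZW hZW0 hLW hlt hZ hL hsum
    generalize (Fintype.card F ^ m + 1) * (Fintype.card F ^ (m - 1) - 1) / (Fintype.card F - 1) = N'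
      at h1 ⊢
    generalize Fintype.card F ^ (2 * (m - 1)) = qd at h1 ⊢
    generalize Fintype.card F ^ (2 * (m - 1) - 1) - Fintype.card F ^ (m - 1) +
      Fintype.card F ^ (m - 1 - 1) - 1 = s' at h1 h2
    generalize s' / (Fintype.card F - 1) = NW' at h1 h2
    omega
  exact kills123 Q hQ hdim7 hcomm hq hv hv' hvv' hX D _ hpts hN hcore


/-- From transitive sets to subgroups. -/
lemma relIndex_of_trans (Q : QuadraticForm F V) (N : ℕ)
    (h : ∀ (X : Type uV) [MulAction ↥(T Q) X] [Finite X] [MulAction.IsPretransitive ↥(T Q) X],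
      1 < Nat.card X → N ≤ Nat.card X)
    (H : Subgroup (V ≃ₗ[F] V)) (hH : H ≤ T Q) (hne : H ≠ T Q) : N ≤ H.relIndex (T Q) := by
  have hfinV : Finite V := Module.finite_of_finite F
  have hfinG : Finite (V ≃ₗ[F] V) := Finite.of_injective (fun g => (g : V → V))
    (fun g h hgh => LinearEquiv.ext (congrFun hgh))
  have hidx : H.relIndex (T Q) = Nat.card (↥(T Q) ⧸ H.subgroupOf (T Q)) := by
    rw [Subgroup.relIndex, Subgroup.index]
  rw [hidx]
  apply h
  rw [← Subgroup.index, Nat.lt_iff_add_one_le]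
  by_contra h
  push Not at h
  have hpos : (H.subgroupOf (T Q)).index ≠ 0 := Subgroup.index_ne_zero_of_finite
  have h1 : (H.subgroupOf (T Q)).index = 1 := by omega
  rw [Subgroup.index_eq_one, Subgroup.subgroupOf_eq_top] at h1
  exact hne (le_antisymm hH h1)

/-- MINUS TYPE, dimension 2m >= 8, q >= 4. -/
theorem main_minus (Q : QuadraticForm F V)
    (hQ : (QuadraticMap.polarBilin Q).Nondegenerate)
    (m : ℕ) (hm : 4 ≤ m) (hdim : Module.finrank F V = 2 * m)
    (hq : 4 ≤ Fintype.card F)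
    (hcomm : ⁅oG (⇑Q), oG (⇑Q)⁆ ≤ T Q)
    (hZ : Nat.card {x : V // Q x = 0} =
      Fintype.card F ^ (2 * m - 1) - Fintype.card F ^ m + Fintype.card F ^ (m - 1))
    (hL : ∀ c : F, c ≠ 0 →
      Nat.card {x : V // Q x = c} = Fintype.card F ^ (2 * m - 1) + Fintype.card F ^ (m - 1))
    (H : Subgroup (V ≃ₗ[F] V)) (hH : H ≤ T Q) (hne : H ≠ T Q) :
    (Fintype.card F ^ m + 1) * (Fintype.card F ^ (m - 1) - 1) / (Fintype.card F - 1) ≤
      H.relIndex (T Q) :=
  relIndex_of_trans Q _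
    (fun X _ _ _ hX => main_minus_trans Q hQ m hm hdim hq hcomm hZ hL hX) H hH hne

end Cfsg.Agent.Lib.Helper38_MIOMinus
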