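import Mathlib
import Cfsg.Agent.Lib.Helper38_MIODefs
import Cfsg.Agent.Lib.Helper38_MIODefs2
import Cfsg.Agent.Lib.Helper61_MIO_KT1

/-!
MIO-KT1P (helper38's MIO market wave 4, S2145, the tight case of `Ω₈⁺`): in the outcome `Out5` (totally singular
3-spaces, each at most once) with at least one non-trivial member, the group `A` has a fixed point, i.e. some member of
the orbit family is `⊥`.  Adaptation of `Helper61_MIO_KT1.kt1`.
-/

set_option autoImplicit false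
set_option linter.unusedSectionVars false
set_option linter.unusedVariables false

namespace Cfsg.Agent.Lib.Helper53_MIO_KT1P

open Module Cfsg.Agent.Lib.Helper94_OrthSmall Cfsg.Agent.Lib.Helper44_QuadClass
  Cfsg.Agent.Lib.Helper14_OmegaSimple Cfsg.Agent.Lib.Helper38_MIODefs Cfsg.Agent.Lib.Helper38_MIODefs2

open Cfsg.Agent.Lib.Helper58_MIO_ZEL Cfsg.Agent.Lib.Helper55_MIO_TRANSP
  Cfsg.Agent.Lib.Helper52_MIO_STRAIGHT Cfsg.Agent.Lib.Helper52_MIO_RESTR
  Cfsg.Agent.Lib.Helper69_MIO_DUAL Cfsg.Agent.Lib.Helper20_MIO_NORM Cfsg.Agent.Lib.Helper61_MIO_KT1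

theorem kt1p {F V : Type*} [Field F] [Fintype F] [AddCommGroup V] [Module F V]
    [FiniteDimensional F V] (Q : QuadraticForm F V)
    (hQ : (QuadraticMap.polarBilin Q).Nondegenerate)
    (hdim : finrank F V = 8) (hcomm : ⁅oG (⇑Q), oG (⇑Q)⁆ ≤ T Q) (hq : 4 ≤ Fintype.card F)
    {v v' : V} (hv : Q v = 0) (hv' : Q v' = 0)
    (hvv' : QuadraticMap.polar (⇑Q) v v' = 1) {X : Type*} [MulAction ↥(T Q) X] [Finite X]
    {𝒪 : Type*} [Fintype 𝒪] (D : FamData Q v v' X 𝒪) (r N : ℕ)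
    (h5 : Out5 (Qp Q v v') D.C 3 r N) (hne : ∃ O, D.C O ≠ ⊥) :
    1 ≤ Nat.card {O : 𝒪 // D.C O = ⊥} := by
  classical
  have hdim5 : 5 ≤ finrank F V := by omega
  have hfr := finrank_perp hv hv' hvv'
  have hndW : (QuadraticMap.polarBilin (Qp Q v v')).Nondegenerate := nondegenerate_perp hQ hv hv' hvv'
  obtain ⟨OT, hOTne⟩ := hne
  obtain ⟨TT, hTT, hOT⟩ : ∃ TT : Submodule F ↥(perp Q v v'), IsTS (Qp Q v v') 3 TT ∧
      D.C OT = TT.toAddSubgroup := by
    rcases h5.1 OT with h | h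
    · exact absurd h hOTne
    · exact h
  have hOTu : ∀ O' : 𝒪, D.C O' = TT.toAddSubgroup → O' = OT := by
    intro O' hO'
    exact h5.2.1 O' OT (hO'.trans hOT.symm) (by rw [hO', ← hOT]; exact hOTne)
  have hTs : ∀ x ∈ TT, Q ((x : ↥(perp Q v v')) : V) = 0 := fun x hx => hTT.2 x hx
  have hTpol : ∀ x ∈ TT, ∀ y ∈ TT, QuadraticMap.polar (⇑Q) (x : V) (y : V) = 0 := by
    intro x hx y hy
    have h1 := hTs _ (TT.add_mem hx hy)
    unfold QuadraticMap.polar
    rw [← Submodule.coe_add, h1, hTs x hx, hTs y hy]; ring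
  obtain ⟨t, ht0, ht1⟩ := exists_sq_ne_one (F := F) hq
  obtain ⟨z, hzT, hzv, hzv', hzw⟩ := exists_zel Q hQ hdim5 hcomm hv hv' hvv' t ht0
  have hc0 : t ^ 2 ≠ 0 := pow_ne_zero 2 ht0
  -- NORM for z
  obtain ⟨ρ, hρ1, hρ2⟩ := norm_perm Q hQ hdim5 hv hv' hvv' D z hzT (t ^ 2) hc0 hzv
    (LinearEquiv.refl F _) (fun w => (hzw w w.2).symm)
  have hρOT : ρ OT = OT := by
    apply hOTu
    ext u
    have h1 := hρ2 OT ((t ^ 2) • u)
    rw [LinearEquiv.refl_apply, smul_smul, inv_mul_cancel₀ hc0, one_smul, hOT] at h1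
    rw [← h1]
    exact TT.smul_mem_iff hc0
  obtain ⟨x0, hx0⟩ := D.orb_surj OT
  have horb : D.orb (act Q z x0) = D.orb x0 := by
    rw [← hρ1 x0, hx0, hρOT]
  obtain ⟨x₁, ⟨hx₁o, hx₁z⟩, hx₁u⟩ := straight Q hQ hdim5 hv hv' hvv' D z hzT (t ^ 2) hc0 ht1 hzv hzw
    x0 TT (by rw [hx0]; exact hOT) horb
  have hx₁OT : D.orb x₁ = OT := by rw [hx₁o, hx0]
  -- Siegel elements of `W'` at a vector of `TT` fix `x₁`
  have key6 : ∀ l w : ↥(perp Q v v'), l ∈ TT → QuadraticMap.polar (⇑Q) (l : V) (w : V) = 0 →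
      act Q (E Q (l : V) (w : V)) x₁ = x₁ := by
    intro l w hlT hlw
    have hl : Q (l : V) = 0 := hTs l hlT
    have kT : E Q (l : V) (w : V) ∈ T Q := E_mem_T Q hQ hdim5 hl hlw
    have hlm := (mem_perp Q v v').mp l.2
    have hwm := (mem_perp Q v v').mp w.2
    have kv : E Q (l : V) (w : V) v = (1 : F) • v := by
      rw [E_apply Q hl hlw, hlm.1, hwm.1]
      simp
    have hlw' : QuadraticMap.polar (⇑(Qp Q v v')) l w = 0 := by
      rw [polar_comp_subtype]; exact hlw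
    obtain ⟨ρk, hρk1, hρk2⟩ := norm_perm Q hQ hdim5 hv hv' hvv' D (E Q (l : V) (w : V)) kT 1
      one_ne_zero kv (E (Qp Q v v') l w) (fun x => restr Q v v' l w x hl hlw)
    have hρkOT : ρk OT = OT := by
      apply hOTu
      ext u
      have h1 := hρk2 OT (E (Qp Q v v') l (-w) u)
      rw [E_neg_E (Qp Q v v') (hTT.2 l hlT) hlw', inv_one, one_smul, hOT] at h1
      rw [← h1]
      have hlw'' : QuadraticMap.polar (⇑(Qp Q v v')) l (-w) = 0 := by
        rw [QuadraticMap.polar_neg_right, hlw', neg_zero]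
      exact E_mem_ts_iff (Qp Q v v') TT hTT.2 hlT hlw'' u
    apply hx₁u
    constructor
    · rw [← hρk1 x₁, hx₁OT, hρkOT, hx0]
    · have hcomm' : z * E Q (l : V) (w : V) = E Q (l : V) (w : V) * z := by
        have h1 := conj_E Q (T_le_oG Q hzT) hl hlw
        rw [hzw _ l.2, hzw _ w.2] at h1
        exact mul_inv_eq_iff_eq_mul.mp h1
      rw [← act_mul Q hzT kT, hcomm', act_mul Q kT hzT, hx₁z]
  have key7 : ∀ l : ↥(perp Q v v'), l ∈ TT → ∀ s : F, act Q (E Q (l : V) (s • v)) x₁ = x₁ := by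
    intro l hlT s
    have hl : Q (l : V) = 0 := hTs l hlT
    have hlm := (mem_perp Q v v').mp l.2
    have hlv : QuadraticMap.polar (⇑Q) (l : V) v = 0 := by rw [QuadraticMap.polar_comm]; exact hlm.1
    rw [E_swap Q hl hv hlv s]
    have h1 := D.stab x₁ (-(s • l))
    rw [Submodule.coe_neg, Submodule.coe_smul] at h1
    rw [h1, hx₁OT, hOT, mem_ann_submodule]
    intro y hy
    rw [QuadraticMap.polarBilin_apply_apply, polar_comp_subtype, Submodule.coe_neg,
      Submodule.coe_smul, QuadraticMap.polar_neg_left, QuadraticMap.polar_smul_left,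
      hTpol l hlT y hy, smul_zero, neg_zero]
  -- a non-zero vector of `TT`
  obtain ⟨l, hlT, hl0⟩ : ∃ l ∈ TT, l ≠ 0 := by
    have h1 : TT ≠ ⊥ := by
      intro h
      have h2 := hTT.1
      rw [h, finrank_bot] at h2
      omega
    exact Submodule.exists_mem_ne_zero_of_ne_bot h1
  have hl : Q (l : V) = 0 := hTs l hlT
  have hl0' : (l : V) ≠ 0 := fun h => hl0 (Subtype.ext h)
  have hlm := (mem_perp Q v v').mp l.2
  have hlv' : QuadraticMap.polar (⇑Q) (l : V) v' = 0 := by rw [QuadraticMap.polar_comm]; exact hlm.2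
  obtain ⟨g, hgT, c, hc0', hgv, hconj, -⟩ := transp Q hQ hdim5 hv hv' hvv' hl0' hl
  have hgiT : g⁻¹ ∈ T Q := (T Q).inv_mem hgT
  set y₀ : X := act Q g⁻¹ x₁ with hy₀
  set O : 𝒪 := D.orb y₀ with hO
  have hET : ∀ w : ↥(perp Q v v'), E Q v (w : V) ∈ T Q := fun w =>
    E_mem_T Q hQ hdim5 hv (Helper52_MIO_STRAIGHT.polar_v_perp Q w)
  have hcl : ∀ x : X, D.orb x = O → ∃ b : F, act Q g x = act Q (E Q (l : V) (b • v')) x₁ := by
    intro x hx
    obtain ⟨w, hw⟩ := (D.orb_eq y₀ x).mp hx.symm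
    have hca := conj_at Q (T_le_oG Q hgT) hc0' hgv hv hl (Helper52_MIO_STRAIGHT.polar_v_perp Q w)
    have hlu : QuadraticMap.polar (⇑Q) (l : V) (c • g (w : V)) = 0 := by
      rw [QuadraticMap.polar_smul_right, hca.1, smul_zero]
    obtain ⟨a, b, w'', hlw'', hdec⟩ := E_decomp Q hv hv' hvv' l hl (c • g (w : V)) hlu
    refine ⟨b, ?_⟩
    have hmem1 : E Q (l : V) (b • v') ∈ T Q := E_mem_T Q hQ hdim5 hl (by
      rw [QuadraticMap.polar_smul_right, hlv', smul_zero])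
    have hmem2 : E Q (l : V) (a • v) ∈ T Q := E_mem_T Q hQ hdim5 hl (by
      rw [QuadraticMap.polar_smul_right, QuadraticMap.polar_comm, hlm.1, smul_zero])
    have hmem3 : E Q (l : V) (w'' : V) ∈ T Q := E_mem_T Q hQ hdim5 hl hlw''
    have h1 : act Q g x = act Q (g * E Q v (w : V) * g⁻¹) x₁ := by
      rw [act_mul Q ((T Q).mul_mem hgT (hET w)) hgiT, act_mul Q hgT (hET w), ← hy₀, hw]
    rw [h1, hca.2, hdec, act_mul Q hmem1 ((T Q).mul_mem hmem2 hmem3), act_mul Q hmem2 hmem3,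
      key6 l w'' hlT hlw'', key7 l hlT a]
  choose! f hf using hcl
  have hinj : Function.Injective (fun x : {x : X // D.orb x = O} => f x.1) := by
    intro x x' hxx'
    have h1 := hf x.1 x.2
    have h2 := hf x'.1 x'.2
    have h3 : f x.1 = f x'.1 := hxx'
    rw [h3, ← h2] at h1
    exact Subtype.ext (act_inj Q hgT h1)
  have hcard : Nat.card {x : X // D.orb x = O} ≤ Fintype.card F := by
    rw [← Nat.card_eq_fintype_card]
    exact Nat.card_le_card_of_injective _ hinj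
  rcases h5.1 O with hbot | ⟨T', hT', hCT'⟩
  · have : Nonempty {O : 𝒪 // D.C O = ⊥} := ⟨⟨O, hbot⟩⟩
    exact Nat.one_le_iff_ne_zero.mpr (Nat.card_pos.ne')
  · exfalso
    have h1 := D.card O
    rw [hCT'] at h1
    have h2 : Nat.card ↥T'.toAddSubgroup = Nat.card ↥T' := rfl
    rw [h2, Module.natCard_eq_pow_finrank (K := F), hT'.1, Nat.card_eq_fintype_card] at h1
    rw [← h1] at hcard
    have h6 : Fintype.card F ^ 1 < Fintype.card F ^ 3 :=
      Nat.pow_lt_pow_right (by omega) (by norm_num)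
    rw [pow_one] at h6
    omega

end Cfsg.Agent.Lib.Helper53_MIO_KT1P
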