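import Mathlib
import Cfsg.Agent.Lib.Helper38_MIODefs

set_option autoImplicit false
set_option linter.unusedVariables false
set_option linter.unusedSectionVars false

/-!
T6-RANK2 (helper79's TIGHT6P market, S2145): in dimension 6, for independent perpendicular singular `l, x` there are
`q²` Siegel elements `E Q y w` fixing `l` such that the lines `⟨l, E Q y w x⟩` are pairwise distinct.
-/

namespace Cfsg.Agent.Lib.Helper38_T6_RANK2

open Module Cfsg.Agent.Lib.Helper94_OrthSmall Cfsg.Agent.Lib.Helper44_QuadClass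
  Cfsg.Agent.Lib.Helper14_OmegaSimple Cfsg.Agent.Lib.Helper38_MIODefs

variable {F W : Type*} [Field F] [Fintype F] [AddCommGroup W] [Module F W] [FiniteDimensional F W]

theorem rank2_many (Q : QuadraticForm F W) (hQ : (QuadraticMap.polarBilin Q).Nondegenerate)
    (hdim : finrank F W = 6) {l x : W} (hl0 : l ≠ 0) (hl : Q l = 0) (hx : Q x = 0)
    (hlx : QuadraticMap.polar (⇑Q) l x = 0) (hind : x ∉ Submodule.span F {l}) :
    ∃ u z : F × F → W,
      (∀ i, Q (u i) = 0 ∧ QuadraticMap.polar (⇑Q) (u i) (z i) = 0 ∧ E Q (u i) (z i) l = l) ∧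
      ∀ i j, E Q (u i) (z i) x ∈ Submodule.span F {l, E Q (u j) (z j) x} → i = j := by
  classical
  have P : ∀ a b : W, QuadraticMap.polar (⇑Q) a b = QuadraticMap.polar (⇑Q) b a :=
    fun a b => QuadraticMap.polar_comm _ a b
  have hQl : Q l = 0 := hl
  have hQx : Q x = 0 := hx
  have hxl : QuadraticMap.polar (⇑Q) x l = 0 := by rw [P]; exact hlx
  have hll : QuadraticMap.polar (⇑Q) l l = 0 := by rw [polar_self', hQl, mul_zero]
  have hxx : QuadraticMap.polar (⇑Q) x x = 0 := by rw [polar_self', hQx, mul_zero]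
  -- hyperbolic partner of `l`
  obtain ⟨l', hQl', hll'⟩ := exists_hyperbolic_partner Q hQ hl0 hQl
  -- `x₁`
  set c : F := QuadraticMap.polar (⇑Q) x l' with hc
  set x₁ : W := x - c • l with hx₁
  have hQx₁ : Q x₁ = 0 := by
    rw [hx₁, Cfsg.Agent.Lib.Helper14_OmegaSimple.map_sub', QuadraticMap.map_smul, hQx, hQl,
      QuadraticMap.polar_smul_right, hxl]
    simp
  have hlx₁ : QuadraticMap.polar (⇑Q) l x₁ = 0 := by
    rw [hx₁, QuadraticMap.polar_sub_right, QuadraticMap.polar_smul_right, hll, P l x, hxl]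
    simp
  have hl'x₁ : QuadraticMap.polar (⇑Q) l' x₁ = 0 := by
    rw [hx₁, QuadraticMap.polar_sub_right, QuadraticMap.polar_smul_right, P l' l, hll', P l' x,
      ← hc]
    simp
  have hx₁0 : x₁ ≠ 0 := by
    intro h
    apply hind
    rw [hx₁] at h
    rw [Submodule.mem_span_singleton]
    exact ⟨c, (sub_eq_zero.mp h).symm⟩
  have hx₁mem : x₁ ∈ perp Q l l' := (mem_perp Q l l').mpr ⟨hlx₁, hl'x₁⟩
  -- hyperbolic partner of `x₁` inside the complement
  have hnd := nondegenerate_perp hQ hQl hQl' hll'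
  have hx₁' : (⟨x₁, hx₁mem⟩ : ↥(perp Q l l')) ≠ 0 := by
    intro h
    apply hx₁0
    exact congrArg Subtype.val h
  have hQx₁' : (Q.comp (perp Q l l').subtype) ⟨x₁, hx₁mem⟩ = 0 := by simpa using hQx₁
  obtain ⟨y', hQy', hx₁y'⟩ := exists_hyperbolic_partner (Q.comp (perp Q l l').subtype) hnd hx₁'
    hQx₁'
  set y : W := (y' : W) with hy
  have hQy : Q y = 0 := by simpa using hQy'
  have hx₁y : QuadraticMap.polar (⇑Q) x₁ y = 1 := by
    rw [polar_comp_subtype] at hx₁y'
    exact hx₁y'
  have hymem := (mem_perp Q l l').mp y'.2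
  have hly : QuadraticMap.polar (⇑Q) l y = 0 := hymem.1
  have hl'y : QuadraticMap.polar (⇑Q) l' y = 0 := hymem.2
  have hxy : QuadraticMap.polar (⇑Q) x y = 1 := by
    have : x = x₁ + c • l := by rw [hx₁]; abel
    rw [this, QuadraticMap.polar_add_left, QuadraticMap.polar_smul_left, hx₁y, hly]
    simp
  have hyy : QuadraticMap.polar (⇑Q) y y = 0 := by rw [polar_self', hQy, mul_zero]
  -- the 2-dimensional complement
  have hd1 := finrank_perp hQl hQl' hll'
  have hd2 := finrank_perp (Q := Q.comp (perp Q l l').subtype) hQx₁' hQy' hx₁y'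
  have hd3 : finrank F ↥(perp (Q.comp (perp Q l l').subtype) ⟨x₁, hx₁mem⟩ y') = 2 := by omega
  let bas := Module.finBasisOfFinrankEq F _ hd3
  -- the two vectors
  set w₁ : W := ((bas 0 : ↥(perp Q l l')) : W) with hw₁
  set w₂ : W := ((bas 1 : ↥(perp Q l l')) : W) with hw₂
  have hmem1 := (mem_perp _ _ _).mp (bas 0).2
  have hmem2 := (mem_perp _ _ _).mp (bas 1).2
  rw [polar_comp_subtype, polar_comp_subtype] at hmem1 hmem2
  have h1x : QuadraticMap.polar (⇑Q) x₁ w₁ = 0 := hmem1.1
  have h1y : QuadraticMap.polar (⇑Q) y w₁ = 0 := hmem1.2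
  have h2x : QuadraticMap.polar (⇑Q) x₁ w₂ = 0 := hmem2.1
  have h2y : QuadraticMap.polar (⇑Q) y w₂ = 0 := hmem2.2
  have hm1 := (mem_perp Q l l').mp (bas 0 : ↥(perp Q l l')).2
  have hm2 := (mem_perp Q l l').mp (bas 1 : ↥(perp Q l l')).2
  have h1l : QuadraticMap.polar (⇑Q) l w₁ = 0 := hm1.1
  have h1l' : QuadraticMap.polar (⇑Q) l' w₁ = 0 := hm1.2
  have h2l : QuadraticMap.polar (⇑Q) l w₂ = 0 := hm2.1
  have h2l' : QuadraticMap.polar (⇑Q) l' w₂ = 0 := hm2.2
  -- independence
  have hindep : ∀ s t : F, s • w₁ + t • w₂ = 0 → s = 0 ∧ t = 0 := by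
    intro s t hst
    have hli := bas.linearIndependent
    have h0 : s • bas 0 + t • bas 1 = 0 := by
      apply Subtype.ext
      apply Subtype.ext
      simpa using hst
    have := Fintype.linearIndependent_iff.mp hli ![s, t] (by
      rw [Fin.sum_univ_two]
      simpa using h0)
    exact ⟨by simpa using this 0, by simpa using this 1⟩
  -- the vectors `w (s,t)`
  set w : F × F → W := fun st => st.1 • w₁ + st.2 • w₂ with hw
  have hwl : ∀ st, QuadraticMap.polar (⇑Q) l (w st) = 0 := by
    intro st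
    simp only [hw, QuadraticMap.polar_add_right, QuadraticMap.polar_smul_right, h1l, h2l, smul_zero,
      add_zero]
  have hwl' : ∀ st, QuadraticMap.polar (⇑Q) l' (w st) = 0 := by
    intro st
    simp only [hw, QuadraticMap.polar_add_right, QuadraticMap.polar_smul_right, h1l', h2l',
      smul_zero, add_zero]
  have hwy : ∀ st, QuadraticMap.polar (⇑Q) y (w st) = 0 := by
    intro st
    simp only [hw, QuadraticMap.polar_add_right, QuadraticMap.polar_smul_right, h1y, h2y, smul_zero,
      add_zero]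
  have hwx₁ : ∀ st, QuadraticMap.polar (⇑Q) x₁ (w st) = 0 := by
    intro st
    simp only [hw, QuadraticMap.polar_add_right, QuadraticMap.polar_smul_right, h1x, h2x, smul_zero,
      add_zero]
  have hwx : ∀ st, QuadraticMap.polar (⇑Q) x (w st) = 0 := by
    intro st
    have : x = x₁ + c • l := by rw [hx₁]; abel
    rw [this, QuadraticMap.polar_add_left, QuadraticMap.polar_smul_left, hwx₁, hwl]
    simp
  -- images of `l` and `x`
  have hkl : ∀ st, E Q y (w st) l = l := by
    intro st
    rw [E_apply Q hQy (hwy st), hly, hwl]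
    simp
  have hkx : ∀ st, E Q y (w st) x = x + w st - Q (w st) • y := by
    intro st
    rw [E_apply Q hQy (hwy st), hxy, hwx]
    simp
  refine ⟨fun _ => y, w, fun st => ⟨hQy, hwy st, hkl st⟩, ?_⟩
  intro st st' hmem
  rw [hkx, hkx, Submodule.mem_span_pair] at hmem
  obtain ⟨a, b, hab⟩ := hmem
  -- pair with `y`
  have e1 := congrArg (fun v => QuadraticMap.polar (⇑Q) v y) hab
  simp only [QuadraticMap.polar_add_left, QuadraticMap.polar_sub_left, QuadraticMap.polar_smul_left,
    hly, hxy, P (w st) y, P (w st') y, hwy, hyy, smul_eq_mul, mul_zero, mul_one, add_zero, sub_zero,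
    zero_add] at e1
  -- pair with `l'`
  have hxl' : QuadraticMap.polar (⇑Q) x l' = c := rfl
  have hyl' : QuadraticMap.polar (⇑Q) y l' = 0 := by rw [P]; exact hl'y
  have e2 := congrArg (fun v => QuadraticMap.polar (⇑Q) v l') hab
  simp only [QuadraticMap.polar_add_left, QuadraticMap.polar_sub_left, QuadraticMap.polar_smul_left,
    hll', hxl', P (w st) l', P (w st') l', hwl', hyl', smul_eq_mul, mul_zero, mul_one, add_zero,
    sub_zero] at e2
  -- pair with `x₁`
  have hxx₁ : QuadraticMap.polar (⇑Q) x x₁ = 0 := by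
    rw [hx₁, QuadraticMap.polar_sub_right, QuadraticMap.polar_smul_right, hxx, hxl]
    simp
  have hyx₁ : QuadraticMap.polar (⇑Q) y x₁ = 1 := by rw [P]; exact hx₁y
  have e3 := congrArg (fun v => QuadraticMap.polar (⇑Q) v x₁) hab
  simp only [QuadraticMap.polar_add_left, QuadraticMap.polar_sub_left, QuadraticMap.polar_smul_left,
    hlx₁, hxx₁, P (w st) x₁, P (w st') x₁, hwx₁, hyx₁, smul_eq_mul, mul_zero, mul_one, add_zero,
    zero_add, zero_sub] at e3
  -- conclude
  have hb : b = 1 := e1
  have ha : a = 0 := by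
    rw [hb] at e2
    linear_combination e2
  have hQw : Q (w st') = Q (w st) := by
    rw [hb] at e3
    linear_combination -e3
  rw [ha, hb, hQw] at hab
  have hww : w st = w st' := by
    have : x + w st' - Q (w st) • y = x + w st - Q (w st) • y := by
      rw [← hab]; simp
    have h2 : w st' = w st := by
      have := congrArg (fun v => v - x + Q (w st) • y) this
      simpa using this
    exact h2.symm
  have hwd : (st.1 - st'.1) • w₁ + (st.2 - st'.2) • w₂ = 0 := by
    have : w st - w st' = 0 := sub_eq_zero.mpr hww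
    rw [← this]
    simp only [hw]
    module
  obtain ⟨h1, h2⟩ := hindep _ _ hwd
  exact Prod.ext (sub_eq_zero.mp h1) (sub_eq_zero.mp h2)

end Cfsg.Agent.Lib.Helper38_T6_RANK2
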