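import Mathlib
import Cfsg.Agent.Lib.Helper38_MIODefs
import Cfsg.Agent.Lib.Helper38_MIODefs2
import Cfsg.Agent.Lib.Helper96_T5Fam
import Cfsg.Agent.Lib.Helper17_MIO_TR
import Cfsg.Agent.Lib.Helper78_MIO_MASS
import Cfsg.Agent.Lib.Helper24_T5_SPAN
import Cfsg.Agent.Lib.Helper14_Siegel

/-!
# MIO-TIGHT6P (S2145; architect helper38, sub-architect helper79), package T6-FAMB: the `q + 1`
members through `l` with pairwise different spans
-/

set_option autoImplicit false
set_option linter.unusedSectionVars false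
set_option linter.unusedVariables false

namespace Cfsg.Agent.Lib.Helper54_T6_FAMB

open Module Cfsg.Agent.Lib.Helper44_QuadClass Cfsg.Agent.Lib.Helper14_OmegaSimple
  Cfsg.Agent.Lib.Helper38_MIODefs Cfsg.Agent.Lib.Helper38_MIODefs2 Cfsg.Agent.Lib.Helper96_T5Defs
  Cfsg.Agent.Lib.Helper96_T5Fam

variable {F W : Type*} [Field F] [Fintype F] [AddCommGroup W] [Module F W] [FiniteDimensional F W]

/-- the span of the image of a member under a Siegel symmetry is the image of the span -/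
theorem span_siegel (Q : QuadraticForm F W) {𝒪 : Type*} {C : 𝒪 → AddSubgroup W} {u z : W}
    (hu : Q u = 0) (huz : QuadraticMap.polar (⇑Q) u z = 0) {π : Equiv.Perm 𝒪}
    (hπ : ∀ O x, x ∈ C O ↔ E Q u z x ∈ C (π O)) (O : 𝒪) :
    Submodule.span F ((C (π O) : AddSubgroup W) : Set W) =
      (Submodule.span F ((C O : AddSubgroup W) : Set W)).map
        ((E Q u z : W ≃ₗ[F] W) : W →ₗ[F] W) := by
  rw [Submodule.map_span]
  congr 1
  ext y
  constructor
  · intro hy
    have hy' : E Q u (-z) y ∈ C O := (siegSym_back Q hu huz hπ O y).mp hy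
    exact ⟨E Q u (-z) y, hy', E_E_neg Q hu huz y⟩
  · rintro ⟨x, hx, rfl⟩
    exact (hπ O x).mp hx

/-! ## T6-FAMB (M/L): the `q + 1` members through `l` with pairwise different spans. -/
theorem exists_plane_members (Q : QuadraticForm F W)
    (hQ : (QuadraticMap.polarBilin Q).Nondegenerate) (hdim : finrank F W = 6)
    (hpl : ∀ {P : Submodule F W}, IsTS Q 3 P → ∀ {l : W}, l ≠ 0 → l ∈ P →
      ∃ u z : Option F → W,
        (∀ i, Q (u i) = 0 ∧ QuadraticMap.polar (⇑Q) (u i) (z i) = 0 ∧ E Q (u i) (z i) l = l) ∧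
        ∀ i j, P.map ((E Q (u i) (z i) : W ≃ₗ[F] W) : W →ₗ[F] W) =
          P.map ((E Q (u j) (z j) : W ≃ₗ[F] W) : W →ₗ[F] W) → i = j)
    {𝒪 : Type*} (C : 𝒪 → AddSubgroup W) (p : ℕ) (hS : SiegSym Q p C) {O : 𝒪}
    (hO : TSNL Q (C O)) (h3 : IsTS Q 3 (Submodule.span F ((C O : AddSubgroup W) : Set W))) {l : W}
    (hl0 : l ≠ 0) (hl : l ∈ C O) :
    ∃ g : Option F → 𝒪,
      (∀ i, TSNL Q (C (g i)) ∧ l ∈ C (g i) ∧
        IsTS Q 3 (Submodule.span F ((C (g i) : AddSubgroup W) : Set W))) ∧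
      ∀ i j, Submodule.span F ((C (g i) : AddSubgroup W) : Set W) =
        Submodule.span F ((C (g j) : AddSubgroup W) : Set W) → i = j := by
  have hlP : l ∈ Submodule.span F ((C O : AddSubgroup W) : Set W) := Submodule.subset_span hl
  obtain ⟨u, z, huz, hdist⟩ := hpl h3 hl0 hlP
  choose π hπp hπ using fun i => hS (u i) (z i) (huz i).1 (huz i).2.1
  have hspan : ∀ i, Submodule.span F ((C (π i O) : AddSubgroup W) : Set W) =
      (Submodule.span F ((C O : AddSubgroup W) : Set W)).map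
        ((E Q (u i) (z i) : W ≃ₗ[F] W) : W →ₗ[F] W) :=
    fun i => span_siegel Q (huz i).1 (huz i).2.1 (hπ i) O
  refine ⟨fun i => π i O, ?_, ?_⟩
  · intro i
    refine ⟨?_, ?_, ?_⟩
    · exact tsnl_siegInv Q (u i) (z i) (huz i).1 (huz i).2.1 (C O) (C (π i O)) (hπ i O) hO
    · have := (hπ i O l).mp hl
      rwa [(huz i).2.2] at this
    · rw [hspan i]
      refine ⟨?_, ?_⟩
      · rw [LinearEquiv.finrank_map_eq]
        exact h3.1
      · rintro _ ⟨y, hy, rfl⟩
        show Q (E Q (u i) (z i) y) = 0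
        rw [Q_E Q (huz i).1 (huz i).2.1]
        exact h3.2 y hy
  · intro i j hij
    rw [hspan i, hspan j] at hij
    exact hdist i j hij

end Cfsg.Agent.Lib.Helper54_T6_FAMB
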