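/-
MIO-TIGHT6P (S2145; architect helper38, sub-architect helper79), package FULL: fullness of a TSNL member
from the uniqueness of the member through `l` inside its span (step (4)).
-/
import Mathlib
import Cfsg.Agent.Lib.Helper38_MIODefs
import Cfsg.Agent.Lib.Helper38_MIODefs2
import Cfsg.Agent.Lib.Helper96_T5Fam
import Cfsg.Agent.Lib.Helper17_MIO_TR
import Cfsg.Agent.Lib.Helper78_MIO_MASS
import Cfsg.Agent.Lib.Helper24_T5_SPAN
import Cfsg.Agent.Lib.Helper14_Siegel

set_option autoImplicit false
set_option linter.unusedSectionVars false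
set_option linter.unusedVariables false

namespace Cfsg.Agent.Lib.Helper79_T6_FULL

open Module Cfsg.Agent.Lib.Helper44_QuadClass Cfsg.Agent.Lib.Helper14_OmegaSimple
  Cfsg.Agent.Lib.Helper38_MIODefs Cfsg.Agent.Lib.Helper38_MIODefs2 Cfsg.Agent.Lib.Helper96_T5Defs
  Cfsg.Agent.Lib.Helper96_T5Fam

variable {F W : Type*} [Field F] [Fintype F] [AddCommGroup W] [Module F W] [FiniteDimensional F W]

theorem full_of_unique (Q : QuadraticForm F W) (hQ : (QuadraticMap.polarBilin Q).Nondegenerate)
    (hdim : finrank F W = 6) {𝒪 : Type*} (C : 𝒪 → AddSubgroup W) (p : ℕ) (hS : SiegSym Q p C)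
    {O : 𝒪} (hO : TSNL Q (C O))
    (huniq : ∀ l ∈ C O, l ≠ 0 → ∀ O', l ∈ C O' →
      (∀ x ∈ C O', x ∈ Submodule.span F ((C O : AddSubgroup W) : Set W)) → O' = O) :
    C O = (Submodule.span F ((C O : AddSubgroup W) : Set W)).toAddSubgroup := by
  obtain ⟨hts, hnl⟩ := hO
  -- polar vanishes on `C O`
  have hpol : ∀ x ∈ C O, ∀ y ∈ C O, QuadraticMap.polar (⇑Q) x y = 0 := by
    intro x hx y hy
    rw [QuadraticMap.polar, hts _ ((C O).add_mem hx hy), hts x hx, hts y hy]
    ring
  -- closure under scalars
  have hsm : ∀ y ∈ C O, ∀ a : F, a • y ∈ C O := by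
    intro l hl a
    by_cases hl0 : l = 0
    · rw [hl0, smul_zero]; exact (C O).zero_mem
    have hQl : Q l = 0 := hts l hl
    -- a vector of `C O` outside `F l`
    obtain ⟨x, hx, hxl⟩ : ∃ x ∈ C O, x ∉ Submodule.span F {l} := by
      by_contra hcon
      push Not at hcon
      apply hnl
      refine ⟨l, fun y hy => ?_⟩
      obtain ⟨b, hb⟩ := Submodule.mem_span_singleton.mp (hcon y hy)
      exact ⟨b, hb.symm⟩
    have hlx : QuadraticMap.polar (⇑Q) l x = 0 := hpol l hl x hx
    obtain ⟨s, hs, hls, hsx⟩ := Cfsg.Agent.Lib.Helper14_Siegel.exists_singular_orth_polar Q hQ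
      (by omega) hl0 hQl hlx hxl (-a)
    obtain ⟨π, -, hπ⟩ := hS l s hQl hls
    have hll : QuadraticMap.polar (⇑Q) l l = 0 := by rw [polar_self', hQl, mul_zero]
    -- the action of `E Q l s` on vectors orthogonal to `l`
    have hE : ∀ x' : W, QuadraticMap.polar (⇑Q) x' l = 0 →
        E Q l s x' = x' - QuadraticMap.polar (⇑Q) x' s • l := by
      intro x' hx'
      rw [E_apply Q hQl hls, hx']
      simp
    have hEl : E Q l s l = l := by
      rw [hE l hll, hls, zero_smul, sub_zero]
    -- `π O = O`
    have hπO : π O = O := by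
      apply huniq l hl hl0
      · have := (hπ O l).1 hl
        rwa [hEl] at this
      · intro x' hx'
        have h1 : E Q l (-s) x' ∈ C O := (siegSym_back Q hQl hls hπ O x').1 hx'
        have h2 : x' = E Q l s (E Q l (-s) x') := (E_E_neg Q hQl hls x').symm
        rw [h2, hE _ (hpol _ h1 l hl)]
        exact Submodule.sub_mem _ (Submodule.subset_span h1)
          (Submodule.smul_mem _ _ (Submodule.subset_span hl))
    have h3 : E Q l s x ∈ C O := by
      have := (hπ O x).1 hx
      rwa [hπO] at this
    rw [hE x (by rw [QuadraticMap.polar_comm]; exact hlx), QuadraticMap.polar_comm, hsx] at h3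
    have h4 : x - -a • l - x ∈ C O := (C O).sub_mem h3 hx
    have h5 : x - -a • l - x = a • l := by
      rw [neg_smul]; abel
    rwa [h5] at h4
  apply le_antisymm
  · intro x hx
    exact Submodule.subset_span hx
  · intro x hx
    have hx' : x ∈ Submodule.span F ((C O : AddSubgroup W) : Set W) := hx
    induction hx' using Submodule.span_induction with
    | mem y hy => exact hy
    | zero => exact (C O).zero_mem
    | add a b _ _ ha hb => exact (C O).add_mem (ha (by assumption)) (hb (by assumption))
    | smul c a _ ha => exact hsm a (ha (by assumption)) c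

end Cfsg.Agent.Lib.Helper79_T6_FULL
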