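import Mathlib
import Cfsg.Agent.Lib.Helper96_T5Defs

/-!
# S2143 (MIO-TIGHT5 sub-market): geometry of a 5-dimensional quadratic space, shared core of the
packages T5-MOVE and T5-LINES
-/

set_option autoImplicit false

namespace Cfsg.Agent.Lib.Helper54_T5_Frame

open Module Cfsg.Agent.Lib.Helper44_QuadClass Cfsg.Agent.Lib.Helper14_OmegaSimple
  Cfsg.Agent.Lib.Helper38_MIODefs Cfsg.Agent.Lib.Helper96_T5Defs

variable {F W : Type*} [Field F] [AddCommGroup W] [Module F W]

theorem polar_eq_zero_of_ts (Q : QuadraticForm F W) (C : Submodule F W) (hts : ∀ x ∈ C, Q x = 0)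
    {x y : W} (hx : x ∈ C) (hy : y ∈ C) : QuadraticMap.polar (⇑Q) x y = 0 := by
  rw [QuadraticMap.polar, hts _ (C.add_mem hx hy), hts x hx, hts y hy]
  simp

theorem finrank_le_of_ts [FiniteDimensional F W] (Q : QuadraticForm F W)
    (hnd : (QuadraticMap.polarBilin Q).Nondegenerate) (C : Submodule F W)
    (hts : ∀ x ∈ C, Q x = 0) : 2 * finrank F C ≤ finrank F W := by
  have hle : C ≤ LinearMap.BilinForm.orthogonal (QuadraticMap.polarBilin Q) C := by
    intro x hx
    rw [LinearMap.BilinForm.mem_orthogonal_iff]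
    intro n hn
    show QuadraticMap.polarBilin Q n x = 0
    rw [QuadraticMap.polarBilin_apply_apply]
    exact polar_eq_zero_of_ts Q C hts hn hx
  have h1 := Submodule.finrank_mono hle
  rw [LinearMap.BilinForm.finrank_orthogonal hnd] at h1
  have h2 := Submodule.finrank_le C
  omega

/-- `Q` vanishes on the span of two orthogonal singular vectors -/
theorem Q_pair (Q : QuadraticForm F W) {l m : W} (hl : Q l = 0) (hm : Q m = 0)
    (hlm : QuadraticMap.polar (⇑Q) l m = 0) (a b : F) : Q (a • l + b • m) = 0 := by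
  rw [QuadraticMap.map_add (⇑Q), QuadraticMap.map_smul, QuadraticMap.map_smul,
    QuadraticMap.polar_smul_left, QuadraticMap.polar_smul_right, hl, hm, hlm]
  simp

/-- the span of two independent orthogonal singular vectors is a totally singular 2-space -/
theorem isTS_pair (Q : QuadraticForm F W) {l m : W} (hl : Q l = 0) (hm : Q m = 0)
    (hlm : QuadraticMap.polar (⇑Q) l m = 0) (hl0 : l ≠ 0) (hm' : m ∉ Submodule.span F {l}) :
    IsTS Q 2 (Submodule.span F {l, m}) := by
  refine ⟨?_, ?_⟩
  · have hli : LinearIndependent F ![l, m] := by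
      rw [LinearIndependent.pair_iff' hl0]
      intro a ha
      apply hm'
      rw [Submodule.mem_span_singleton]
      exact ⟨a, ha⟩
    have := finrank_span_eq_card hli
    rw [Matrix.range_cons_cons_empty] at this
    rw [this]
    rfl
  · intro v hv
    obtain ⟨a, b, rfl⟩ := Submodule.mem_span_pair.1 hv
    exact Q_pair Q hl hm hlm a b

theorem left_mem_pair (l m : W) : l ∈ Submodule.span F {l, m} :=
  Submodule.subset_span (Set.mem_insert _ _)

theorem right_mem_pair (l m : W) : m ∈ Submodule.span F {l, m} :=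
  Submodule.subset_span (Set.mem_insert_of_mem _ (Set.mem_singleton _))

section fd

variable [FiniteDimensional F W]

omit [FiniteDimensional F W] in
/-- a vector of a 2-space outside a given line -/
theorem exists_not_mem_span {L : Submodule F W} (hL : finrank F L = 2) (l : W) :
    ∃ x ∈ L, x ∉ Submodule.span F {l} := by
  by_contra hcon
  push Not at hcon
  have hle : L ≤ Submodule.span F {l} := fun x hx => hcon x hx
  have h1 := Submodule.finrank_mono hle
  have h2 : finrank F (Submodule.span F {l}) ≤ 1 := by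
    have := finrank_span_le_card (R := F) ({l} : Set W)
    simpa using this
  omega

/-- a 2-space is spanned by two independent vectors of it -/
theorem eq_span_pair {L : Submodule F W} (hL : finrank F L = 2) {l x : W} (hl0 : l ≠ 0)
    (hlL : l ∈ L) (hxL : x ∈ L) (hx : x ∉ Submodule.span F {l}) :
    L = Submodule.span F {l, x} := by
  symm
  apply Submodule.eq_of_le_of_finrank_le
  · rw [Submodule.span_le]
    intro v hv
    rcases hv with rfl | hv
    · exact hlL
    · rw [Set.mem_singleton_iff] at hv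
      rw [hv]; exact hxL
  · have hli : LinearIndependent F ![l, x] := by
      rw [LinearIndependent.pair_iff' hl0]
      intro a ha
      apply hx
      rw [Submodule.mem_span_singleton]
      exact ⟨a, ha⟩
    have := finrank_span_eq_card hli
    rw [Matrix.range_cons_cons_empty] at this
    rw [this, hL]
    rfl

/-- a totally singular 2-space of a nondegenerate 5-space is a maximal totally singular subspace -/
theorem mem_of_orth_ts (Q : QuadraticForm F W) (hQ : (QuadraticMap.polarBilin Q).Nondegenerate)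
    (hdim : finrank F W = 5) {L : Submodule F W} (hL : IsTS Q 2 L) {x' : W} (hx' : Q x' = 0)
    (horth : ∀ v ∈ L, QuadraticMap.polar (⇑Q) v x' = 0) : x' ∈ L := by
  have hts : ∀ m ∈ L ⊔ Submodule.span F {x'}, Q m = 0 := by
    intro m hm
    obtain ⟨v, hv, z, hz, rfl⟩ := Submodule.mem_sup.1 hm
    obtain ⟨a, rfl⟩ := Submodule.mem_span_singleton.1 hz
    rw [QuadraticMap.map_add (⇑Q), QuadraticMap.map_smul, QuadraticMap.polar_smul_right, hL.2 v hv, hx',
      horth v hv]
    simp
  have h1 := finrank_le_of_ts Q hQ _ hts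
  have h2 : L = L ⊔ Submodule.span F {x'} := by
    apply Submodule.eq_of_le_of_finrank_le le_sup_left
    rw [hL.1]; omega
  rw [h2]
  exact Submodule.mem_sup_right (Submodule.mem_span_singleton_self x')

end fd

/-- the frame: a nonsingular vector orthogonal to a singular `l` and to a hyperbolic pair `x, y`
orthogonal to `l`, in dimension five -/
theorem exists_frame [FiniteDimensional F W] (Q : QuadraticForm F W)
    (hQ : (QuadraticMap.polarBilin Q).Nondegenerate) (hdim : finrank F W = 5) {l x y : W}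
    (hl0 : l ≠ 0) (hl : Q l = 0) (hx : Q x = 0) (hy : Q y = 0)
    (hxy : QuadraticMap.polar (⇑Q) x y = 1) (hxl : QuadraticMap.polar (⇑Q) x l = 0)
    (hyl : QuadraticMap.polar (⇑Q) y l = 0) :
    ∃ w₀ : W, QuadraticMap.polar (⇑Q) l w₀ = 0 ∧ QuadraticMap.polar (⇑Q) x w₀ = 0 ∧
      QuadraticMap.polar (⇑Q) y w₀ = 0 ∧ Q w₀ ≠ 0 := by
  -- first complement
  have hlm : l ∈ perp Q x y := (mem_perp Q x y).2 ⟨hxl, hyl⟩
  obtain ⟨Q1, hQ1⟩ : ∃ Q1 : QuadraticForm F ↥(perp Q x y), Q1 = Q.comp (perp Q x y).subtype :=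
    ⟨_, rfl⟩
  have hQ1nd : (QuadraticMap.polarBilin Q1).Nondegenerate := by
    rw [hQ1]; exact nondegenerate_perp hQ hx hy hxy
  have hdim1 : finrank F ↥(perp Q x y) + 2 = finrank F W := finrank_perp hx hy hxy
  have hpol1 : ∀ a b : ↥(perp Q x y),
      QuadraticMap.polar (⇑Q1) a b = QuadraticMap.polar (⇑Q) (a : W) (b : W) := by
    intro a b; rw [hQ1]; exact polar_comp_subtype Q _ a b
  have hval1 : ∀ a : ↥(perp Q x y), Q1 a = Q (a : W) := by
    intro a; rw [hQ1]; rfl
  obtain ⟨l1, hl1⟩ : ∃ l1 : ↥(perp Q x y), l1 = ⟨l, hlm⟩ := ⟨_, rfl⟩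
  have hl1v : (l1 : W) = l := by rw [hl1]
  have hl10 : l1 ≠ 0 := by
    intro h
    apply hl0
    rw [← hl1v, h]; rfl
  have hQl1 : Q1 l1 = 0 := by rw [hval1, hl1v, hl]
  obtain ⟨l1', hQl1', hll'⟩ := exists_hyperbolic_partner Q1 hQ1nd hl10 hQl1
  -- second complement
  have hQ2nd : (QuadraticMap.polarBilin (Q1.comp (perp Q1 l1 l1').subtype)).Nondegenerate :=
    nondegenerate_perp hQ1nd hQl1 hQl1' hll'
  have hdim2 : finrank F ↥(perp Q1 l1 l1') + 2 = finrank F ↥(perp Q x y) :=
    finrank_perp hQl1 hQl1' hll'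
  have hdim3 : finrank F ↥(perp Q1 l1 l1') = 1 := by omega
  have hpos : 0 < finrank F ↥(perp Q1 l1 l1') := by omega
  have : Nontrivial ↥(perp Q1 l1 l1') := Module.finrank_pos_iff.1 hpos
  obtain ⟨w, hw0⟩ := exists_ne (0 : ↥(perp Q1 l1 l1'))
  have hex : ∃ w', QuadraticMap.polarBilin (Q1.comp (perp Q1 l1 l1').subtype) w w' ≠ 0 := by
    by_contra hcon
    push Not at hcon
    exact hw0 (hQ2nd.1 w hcon)
  obtain ⟨w', hw'⟩ := hex
  obtain ⟨a, rfl⟩ := (finrank_eq_one_iff_of_nonzero' w hw0).1 hdim3 w'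
  rw [QuadraticMap.polarBilin_apply_apply, QuadraticMap.polar_smul_right, polar_self'] at hw'
  have hQw : (Q1.comp (perp Q1 l1 l1').subtype) w ≠ 0 := by
    intro h
    apply hw'
    rw [h, mul_zero, smul_zero]
  obtain ⟨k1, k2⟩ := (mem_perp Q x y).1 (w : ↥(perp Q x y)).2
  obtain ⟨k3, _⟩ := (mem_perp Q1 l1 l1').1 w.2
  rw [hpol1, hl1v] at k3
  refine ⟨((w : ↥(perp Q x y)) : W), k3, k1, k2, ?_⟩
  have : (Q1.comp (perp Q1 l1 l1').subtype) w = Q ((w : ↥(perp Q x y)) : W) := by
    rw [← hval1]; rfl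
  rw [← this]
  exact hQw

end Cfsg.Agent.Lib.Helper54_T5_Frame
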