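import Mathlib
import Cfsg.Agent.Lib.Helper96_T5Defs
import Cfsg.Agent.Lib.Helper54_T5_Frame

/-!
# S2143 (MIO-TIGHT5 sub-market), package T5-LINES: at least `q + 1` totally singular lines through a
singular point of a 5-dimensional quadratic space
-/

set_option autoImplicit false

namespace Cfsg.Agent.Lib.Helper54_T5_LINES

open Module Cfsg.Agent.Lib.Helper44_QuadClass Cfsg.Agent.Lib.Helper14_OmegaSimple
  Cfsg.Agent.Lib.Helper38_MIODefs Cfsg.Agent.Lib.Helper96_T5Defs Cfsg.Agent.Lib.Helper54_T5_Frame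

variable {F W : Type*} [Field F] [AddCommGroup W] [Module F W]

/-- the `a`-th vector of the frame -/
def xa (Q : QuadraticForm F W) (x y w₀ : W) (a : F) : W := x + a • w₀ - (a ^ 2 * Q w₀) • y

section comp

variable (Q : QuadraticForm F W) {x y w₀ : W} (hx : Q x = 0) (hy : Q y = 0)
  (hxy : QuadraticMap.polar (⇑Q) x y = 1) (hxw : QuadraticMap.polar (⇑Q) x w₀ = 0)
  (hyw : QuadraticMap.polar (⇑Q) y w₀ = 0)

include hx hy hxy hxw hyw in
theorem polar_xa (a b : F) :
    QuadraticMap.polar (⇑Q) (xa Q x y w₀ a) (xa Q x y w₀ b) = -Q w₀ * (a - b) ^ 2 := by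
  have hyx : QuadraticMap.polar (⇑Q) y x = 1 := by rw [QuadraticMap.polar_comm]; exact hxy
  have hwx : QuadraticMap.polar (⇑Q) w₀ x = 0 := by rw [QuadraticMap.polar_comm]; exact hxw
  have hwy : QuadraticMap.polar (⇑Q) w₀ y = 0 := by rw [QuadraticMap.polar_comm]; exact hyw
  have hxx : QuadraticMap.polar (⇑Q) x x = 0 := by rw [polar_self', hx, mul_zero]
  have hyy : QuadraticMap.polar (⇑Q) y y = 0 := by rw [polar_self', hy, mul_zero]
  have hww : QuadraticMap.polar (⇑Q) w₀ w₀ = 2 * Q w₀ := polar_self' Q w₀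
  unfold xa
  simp only [QuadraticMap.polar_add_left, QuadraticMap.polar_add_right, QuadraticMap.polar_sub_left,
    QuadraticMap.polar_sub_right, QuadraticMap.polar_smul_left, QuadraticMap.polar_smul_right,
    smul_eq_mul, hxx, hyy, hww, hxy, hyx, hxw, hwx, hyw, hwy]
  ring

include hx hy hxy hyw in
theorem polar_xa_y (a : F) : QuadraticMap.polar (⇑Q) (xa Q x y w₀ a) y = 1 := by
  have hwy : QuadraticMap.polar (⇑Q) w₀ y = 0 := by rw [QuadraticMap.polar_comm]; exact hyw
  have hyy : QuadraticMap.polar (⇑Q) y y = 0 := by rw [polar_self', hy, mul_zero]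
  unfold xa
  simp only [QuadraticMap.polar_add_left, QuadraticMap.polar_sub_left,
    QuadraticMap.polar_smul_left, smul_eq_mul, hyy, hxy, hwy]
  ring

include hx hy hxy hxw hyw in
theorem Q_xa (a : F) : Q (xa Q x y w₀ a) = 0 := by
  have hwy : QuadraticMap.polar (⇑Q) w₀ y = 0 := by rw [QuadraticMap.polar_comm]; exact hyw
  unfold xa
  rw [Cfsg.Agent.Lib.Helper14_OmegaSimple.map_sub', QuadraticMap.map_add (⇑Q), QuadraticMap.map_smul, QuadraticMap.map_smul, hx, hy]
  simp only [QuadraticMap.polar_add_left, QuadraticMap.polar_smul_left,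
    QuadraticMap.polar_smul_right, smul_eq_mul, hxy, hxw, hwy]
  ring

theorem polar_l_xa {l : W} (hlx : QuadraticMap.polar (⇑Q) l x = 0)
    (hly : QuadraticMap.polar (⇑Q) l y = 0) (hlw : QuadraticMap.polar (⇑Q) l w₀ = 0) (a : F) :
    QuadraticMap.polar (⇑Q) l (xa Q x y w₀ a) = 0 := by
  unfold xa
  simp only [QuadraticMap.polar_add_right, QuadraticMap.polar_sub_right,
    QuadraticMap.polar_smul_right, smul_eq_mul, hlx, hly, hlw]
  ring

end comp

variable [Fintype F] [FiniteDimensional F W]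

theorem card_lines (Q : QuadraticForm F W) (hQ : (QuadraticMap.polarBilin Q).Nondegenerate)
    (hdim : finrank F W = 5) {l : W} (hl0 : l ≠ 0) {L : Submodule F W} (hL : IsTS Q 2 L)
    (hlL : l ∈ L) :
    ∃ f : Option F → Submodule F W, Function.Injective f ∧ ∀ i, IsTS Q 2 (f i) ∧ l ∈ f i := by
  have hl : Q l = 0 := hL.2 l hlL
  obtain ⟨x, hxL, hxl⟩ := exists_not_mem_span hL.1 l
  have hx : Q x = 0 := hL.2 x hxL
  have hlx : QuadraticMap.polar (⇑Q) l x = 0 := polar_eq_zero_of_ts Q L hL.2 hlL hxL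
  obtain ⟨y, hy, hly, hyx⟩ :=
    Cfsg.Agent.Lib.Helper14_Siegel.exists_singular_orth_polar Q hQ (by omega) hl0 hl hlx hxl 1
  have hxy : QuadraticMap.polar (⇑Q) x y = 1 := by rw [QuadraticMap.polar_comm]; exact hyx
  have hxl' : QuadraticMap.polar (⇑Q) x l = 0 := by rw [QuadraticMap.polar_comm]; exact hlx
  have hyl : QuadraticMap.polar (⇑Q) y l = 0 := by rw [QuadraticMap.polar_comm]; exact hly
  obtain ⟨w₀, hlw, hxw, hyw, hc⟩ := exists_frame Q hQ hdim hl0 hl hx hy hxy hxl' hyl
  have hy_nl : y ∉ Submodule.span F {l} := by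
    intro h
    obtain ⟨k, rfl⟩ := Submodule.mem_span_singleton.1 h
    rw [QuadraticMap.polar_smul_left, hlx, smul_zero] at hyx
    exact zero_ne_one hyx
  have hxa_nl : ∀ a, xa Q x y w₀ a ∉ Submodule.span F {l} := by
    intro a h
    obtain ⟨k, hk⟩ := Submodule.mem_span_singleton.1 h
    have := polar_xa_y Q hx hy hxy hyw a
    rw [← hk, QuadraticMap.polar_smul_left, hly, smul_zero] at this
    exact zero_ne_one this
  have hts_y := isTS_pair Q hl hy hly hl0 hy_nl
  have hts_a : ∀ a, IsTS Q 2 (Submodule.span F {l, xa Q x y w₀ a}) := fun a =>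
    isTS_pair Q hl (Q_xa Q hx hy hxy hxw hyw a) (polar_l_xa Q hlx hly hlw a) hl0 (hxa_nl a)
  have hny : ∀ b, Submodule.span F {l, y} ≠ Submodule.span F {l, xa Q x y w₀ b} := by
    intro b hij
    have h1 : xa Q x y w₀ b ∈ Submodule.span F {l, y} := by
      rw [hij]; exact right_mem_pair _ _
    have := polar_eq_zero_of_ts Q _ hts_y.2 h1 (right_mem_pair l y)
    rw [polar_xa_y Q hx hy hxy hyw b] at this
    exact one_ne_zero this
  refine ⟨fun i => Option.elim i (Submodule.span F {l, y})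
    (fun a => Submodule.span F {l, xa Q x y w₀ a}), ?_, ?_⟩
  · intro i j hij
    rcases i with _ | a <;> rcases j with _ | b
    · rfl
    · exact absurd hij (hny b)
    · exact absurd hij.symm (hny a)
    · have hij' : Submodule.span F {l, xa Q x y w₀ a} = Submodule.span F {l, xa Q x y w₀ b} := hij
      have h1 : xa Q x y w₀ b ∈ Submodule.span F {l, xa Q x y w₀ a} := by
        rw [hij']; exact right_mem_pair _ _
      have := polar_eq_zero_of_ts Q _ (hts_a a).2 (right_mem_pair l (xa Q x y w₀ a)) h1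
      rw [polar_xa Q hx hy hxy hxw hyw a b, mul_eq_zero] at this
      rcases this with h | h
      · exact absurd (neg_eq_zero.1 h) hc
      · have : a - b = 0 := by
          rcases pow_eq_zero_iff (two_ne_zero) |>.1 h with h'
          exact h'
        rw [sub_eq_zero.1 this]
  · intro i
    rcases i with _ | a
    · exact ⟨hts_y, left_mem_pair _ _⟩
    · exact ⟨hts_a a, left_mem_pair _ _⟩

end Cfsg.Agent.Lib.Helper54_T5_LINES
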