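import Mathlib
import Cfsg.Agent.Lib.Helper96_T5Defs
import Cfsg.Agent.Lib.Helper54_T5_Frame

/-!
# S2143 (MIO-TIGHT5 sub-market), package T5-MOVE: one Siegel element fixing `l` moves a totally
singular line through `l` onto any other one
-/

set_option autoImplicit false

namespace Cfsg.Agent.Lib.Helper54_T5_MOVE

open Module Cfsg.Agent.Lib.Helper44_QuadClass Cfsg.Agent.Lib.Helper14_OmegaSimple
  Cfsg.Agent.Lib.Helper38_MIODefs Cfsg.Agent.Lib.Helper96_T5Defs Cfsg.Agent.Lib.Helper54_T5_Frame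

variable {F W : Type*} [Field F] [AddCommGroup W] [Module F W]

section comp

variable (Q : QuadraticForm F W) {l x y w₀ : W} (hx : Q x = 0) (hy : Q y = 0)
  (hxy : QuadraticMap.polar (⇑Q) x y = 1) (hxw : QuadraticMap.polar (⇑Q) x w₀ = 0)
  (hyw : QuadraticMap.polar (⇑Q) y w₀ = 0) (hc : Q w₀ ≠ 0)

include hx hy hxy hxw hyw in
theorem Q_u : Q (x + w₀ - Q w₀ • y) = 0 := by
  have hwy : QuadraticMap.polar (⇑Q) w₀ y = 0 := by rw [QuadraticMap.polar_comm]; exact hyw
  rw [Cfsg.Agent.Lib.Helper14_OmegaSimple.map_sub', QuadraticMap.map_add (⇑Q),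
    QuadraticMap.map_smul, hx, hy]
  simp only [QuadraticMap.polar_add_left, QuadraticMap.polar_smul_right, smul_eq_mul, hxy, hxw,
    hwy]
  ring

include hx hy hxy hxw hyw hc in
theorem polar_u_z :
    QuadraticMap.polar (⇑Q) (x + w₀ - Q w₀ • y) ((Q w₀)⁻¹ • x + y) = 0 := by
  have hyx : QuadraticMap.polar (⇑Q) y x = 1 := by rw [QuadraticMap.polar_comm]; exact hxy
  have hwx : QuadraticMap.polar (⇑Q) w₀ x = 0 := by rw [QuadraticMap.polar_comm]; exact hxw
  have hwy : QuadraticMap.polar (⇑Q) w₀ y = 0 := by rw [QuadraticMap.polar_comm]; exact hyw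
  have hxx : QuadraticMap.polar (⇑Q) x x = 0 := by rw [polar_self', hx, mul_zero]
  have hyy : QuadraticMap.polar (⇑Q) y y = 0 := by rw [polar_self', hy, mul_zero]
  simp only [QuadraticMap.polar_add_left, QuadraticMap.polar_add_right, QuadraticMap.polar_sub_left,
    QuadraticMap.polar_smul_left, QuadraticMap.polar_smul_right, smul_eq_mul, hxx, hyy, hxy, hyx,
    hwx, hwy]
  field_simp
  ring

include hx hy hxy in
theorem Q_z : Q ((Q w₀)⁻¹ • x + y) = (Q w₀)⁻¹ := by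
  rw [QuadraticMap.map_add (⇑Q), QuadraticMap.map_smul, hx, hy, QuadraticMap.polar_smul_left, hxy]
  simp

include hx hxy hxw in
theorem polar_x_u : QuadraticMap.polar (⇑Q) x (x + w₀ - Q w₀ • y) = -Q w₀ := by
  have hxx : QuadraticMap.polar (⇑Q) x x = 0 := by rw [polar_self', hx, mul_zero]
  simp only [QuadraticMap.polar_add_right, QuadraticMap.polar_sub_right,
    QuadraticMap.polar_smul_right, smul_eq_mul, hxx, hxy, hxw]
  ring

include hx hxy in
theorem polar_x_z : QuadraticMap.polar (⇑Q) x ((Q w₀)⁻¹ • x + y) = 1 := by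
  have hxx : QuadraticMap.polar (⇑Q) x x = 0 := by rw [polar_self', hx, mul_zero]
  simp only [QuadraticMap.polar_add_right, QuadraticMap.polar_smul_right, smul_eq_mul, hxx, hxy]
  ring

theorem polar_l_u (hlx : QuadraticMap.polar (⇑Q) l x = 0)
    (hly : QuadraticMap.polar (⇑Q) l y = 0) (hlw : QuadraticMap.polar (⇑Q) l w₀ = 0) :
    QuadraticMap.polar (⇑Q) l (x + w₀ - Q w₀ • y) = 0 := by
  simp only [QuadraticMap.polar_add_right, QuadraticMap.polar_sub_right,
    QuadraticMap.polar_smul_right, smul_eq_mul, hlx, hly, hlw]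
  ring

theorem polar_l_z (hlx : QuadraticMap.polar (⇑Q) l x = 0)
    (hly : QuadraticMap.polar (⇑Q) l y = 0) :
    QuadraticMap.polar (⇑Q) l ((Q w₀)⁻¹ • x + y) = 0 := by
  simp only [QuadraticMap.polar_add_right, QuadraticMap.polar_smul_right, smul_eq_mul, hlx, hly]
  ring

end comp

variable [Fintype F] [FiniteDimensional F W]

theorem siegel_move (Q : QuadraticForm F W) (hQ : (QuadraticMap.polarBilin Q).Nondegenerate)
    (hdim : finrank F W = 5) {l : W} (hl0 : l ≠ 0) {L L' : Submodule F W} (hL : IsTS Q 2 L)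
    (hL' : IsTS Q 2 L') (hlL : l ∈ L) (hlL' : l ∈ L') (hne : L ≠ L') :
    ∃ u z : W, Q u = 0 ∧ QuadraticMap.polar (⇑Q) u z = 0 ∧ E Q u z l = l ∧
      ∀ v, v ∈ L ↔ E Q u z v ∈ L' := by
  have hl : Q l = 0 := hL.2 l hlL
  obtain ⟨x, hxL, hxl⟩ := exists_not_mem_span hL.1 l
  obtain ⟨x', hx'L, hx'l⟩ := exists_not_mem_span hL'.1 l
  have hLs := eq_span_pair hL.1 hl0 hlL hxL hxl
  have hL's := eq_span_pair hL'.1 hl0 hlL' hx'L hx'l
  have hx : Q x = 0 := hL.2 x hxL
  have hx' : Q x' = 0 := hL'.2 x' hx'L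
  have hlx : QuadraticMap.polar (⇑Q) l x = 0 := polar_eq_zero_of_ts Q L hL.2 hlL hxL
  have hlx' : QuadraticMap.polar (⇑Q) l x' = 0 := polar_eq_zero_of_ts Q L' hL'.2 hlL' hx'L
  have hβ : QuadraticMap.polar (⇑Q) x x' ≠ 0 := by
    intro h0
    have hmem : x' ∈ L := by
      apply mem_of_orth_ts Q hQ hdim hL hx'
      intro v hv
      rw [hLs] at hv
      obtain ⟨a, b, rfl⟩ := Submodule.mem_span_pair.1 hv
      rw [QuadraticMap.polar_add_left, QuadraticMap.polar_smul_left, QuadraticMap.polar_smul_left,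
        hlx', h0]
      simp
    apply hne
    symm
    apply Submodule.eq_of_le_of_finrank_le
    · rw [hL's, Submodule.span_le]
      intro v hv
      rcases hv with rfl | hv
      · exact hlL
      · rw [Set.mem_singleton_iff] at hv
        rw [hv]; exact hmem
    · rw [hL.1, hL'.1]
  obtain ⟨y, hydef⟩ : ∃ y, y = (QuadraticMap.polar (⇑Q) x x')⁻¹ • x' := ⟨_, rfl⟩
  have hy : Q y = 0 := by rw [hydef, QuadraticMap.map_smul, hx', smul_zero]
  have hxy : QuadraticMap.polar (⇑Q) x y = 1 := by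
    rw [hydef, QuadraticMap.polar_smul_right, smul_eq_mul, inv_mul_cancel₀ hβ]
  have hly : QuadraticMap.polar (⇑Q) l y = 0 := by
    rw [hydef, QuadraticMap.polar_smul_right, hlx', smul_zero]
  have hyL' : y ∈ L' := by rw [hydef]; exact L'.smul_mem _ hx'L
  have hxl' : QuadraticMap.polar (⇑Q) x l = 0 := by rw [QuadraticMap.polar_comm]; exact hlx
  have hyl : QuadraticMap.polar (⇑Q) y l = 0 := by rw [QuadraticMap.polar_comm]; exact hly
  have hy_nl : y ∉ Submodule.span F {l} := by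
    intro h
    obtain ⟨k, hk⟩ := Submodule.mem_span_singleton.1 h
    have := hxy
    rw [← hk, QuadraticMap.polar_smul_right, hxl', smul_zero] at this
    exact zero_ne_one this
  have hL'y := eq_span_pair hL'.1 hl0 hlL' hyL' hy_nl
  obtain ⟨w₀, hlw, hxw, hyw, hc⟩ := exists_frame Q hQ hdim hl0 hl hx hy hxy hxl' hyl
  have hQu := Q_u Q hx hy hxy hxw hyw
  have huz := polar_u_z Q hx hy hxy hxw hyw hc
  have hEl : E Q (x + w₀ - Q w₀ • y) ((Q w₀)⁻¹ • x + y) l = l := by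
    rw [E_apply Q hQu huz, polar_l_u Q hlx hly hlw, polar_l_z Q hlx hly]
    simp
  have hEx : E Q (x + w₀ - Q w₀ • y) ((Q w₀)⁻¹ • x + y) x = (-Q w₀) • y := by
    rw [E_apply Q hQu huz, polar_x_u Q hx hxy hxw, polar_x_z Q hx hxy, Q_z Q hx hy hxy]
    have h1 : -Q w₀ * (Q w₀)⁻¹ = -1 := by field_simp
    have h2 : (Q w₀)⁻¹ * -Q w₀ = -1 := by field_simp
    rw [smul_add, smul_smul, h1, h2]
    module
  refine ⟨x + w₀ - Q w₀ • y, (Q w₀)⁻¹ • x + y, hQu, huz, hEl, ?_⟩
  intro v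
  constructor
  · intro hv
    rw [hLs] at hv
    obtain ⟨a, b, rfl⟩ := Submodule.mem_span_pair.1 hv
    rw [map_add, map_smul, map_smul, hEl, hEx, hL'y, smul_smul]
    exact Submodule.mem_span_pair.2 ⟨a, b * -Q w₀, rfl⟩
  · intro hv
    rw [hL'y] at hv
    obtain ⟨a, b, hab⟩ := Submodule.mem_span_pair.1 hv
    have hnc : -Q w₀ ≠ 0 := neg_ne_zero.2 hc
    have h1 : E Q (x + w₀ - Q w₀ • y) ((Q w₀)⁻¹ • x + y) (a • l + (b * (-Q w₀)⁻¹) • x) =
        E Q (x + w₀ - Q w₀ • y) ((Q w₀)⁻¹ • x + y) v := by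
      rw [map_add, map_smul, map_smul, hEl, hEx, smul_smul, mul_assoc, inv_mul_cancel₀ hnc, mul_one]
      exact hab
    have h2 := (E Q (x + w₀ - Q w₀ • y) ((Q w₀)⁻¹ • x + y)).injective h1
    rw [← h2, hLs]
    exact Submodule.mem_span_pair.2 ⟨a, b * (-Q w₀)⁻¹, rfl⟩

end Cfsg.Agent.Lib.Helper54_T5_MOVE
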