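import Mathlib
import Cfsg.Agent.Lib.Helper96_T5Fam
import Cfsg.Agent.Lib.Helper17_MIO_TR
import Cfsg.Agent.Lib.Helper24_T5_SPAN
import Cfsg.Agent.Lib.Helper54_T5_LINES
import Cfsg.Agent.Lib.Helper54_T5_MOVE

set_option autoImplicit false
set_option linter.unusedSectionVars false
set_option linter.unusedVariables false

/-!
MIO-TIGHT5: family-level consequences of the geometry packages (T5-SPAN, T5-MOVE, T5-LINES) and MIO-TR.
-/

namespace Cfsg.Agent.Lib.Helper96_T5Geo

open Module Cfsg.Agent.Lib.Helper44_QuadClass Cfsg.Agent.Lib.Helper14_OmegaSimple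
  Cfsg.Agent.Lib.Helper38_MIODefs Cfsg.Agent.Lib.Helper96_T5Defs Cfsg.Agent.Lib.Helper96_T5Fam
  Cfsg.Agent.Lib.Helper17_MIO_TR Cfsg.Agent.Lib.Helper24_T5_SPAN Cfsg.Agent.Lib.Helper54_T5_LINES
  Cfsg.Agent.Lib.Helper54_T5_MOVE

variable {F W : Type*} [Field F] [Fintype F] [AddCommGroup W] [Module F W] [FiniteDimensional F W]

/-- `mult` is constant on the non-zero singular vectors -/
theorem mult_const (Q : QuadraticForm F W) (hQ : (QuadraticMap.polarBilin Q).Nondegenerate)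
    (hdim : 5 ≤ finrank F W) {𝒪 : Type*} (C : 𝒪 → AddSubgroup W) (p : ℕ) (hS : SiegSym Q p C)
    {x y : W} (hx : x ≠ 0) (hy : y ≠ 0) (hQx : Q x = 0) (hQy : Q y = 0) : mult C x = mult C y :=
  tr_const Q hQ hdim (mult C) (fun u z hu huz x => mult_siegel Q C p hS hu huz x) hx hy
    (by rw [hQx, hQy])

/-- every t.s. line through `l` carries a member through `l` (given one TSNL member through `l`) -/
theorem exists_member_in_line (Q : QuadraticForm F W)
    (hQ : (QuadraticMap.polarBilin Q).Nondegenerate) (hdim : finrank F W = 5) {𝒪 : Type*}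
    (C : 𝒪 → AddSubgroup W) (p : ℕ) (hS : SiegSym Q p C) {O : 𝒪} (hO : TSNL Q (C O)) {l : W}
    (hl0 : l ≠ 0) (hl : l ∈ C O) {T : Submodule F W} (hT : IsTS Q 2 T) (hlT : l ∈ T) :
    ∃ O' : 𝒪, TSNL Q (C O') ∧ l ∈ C O' ∧ (∀ x ∈ C O', x ∈ T) ∧
      Nat.card (C O') = Nat.card (C O) := by
  have hL := span_ts Q hQ hdim (C O) hO
  have hlL : l ∈ Submodule.span F ((C O : AddSubgroup W) : Set W) := Submodule.subset_span hl
  by_cases hLT : Submodule.span F ((C O : AddSubgroup W) : Set W) = T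
  · exact ⟨O, hO, hl, fun x hx => hLT ▸ Submodule.subset_span hx, rfl⟩
  · obtain ⟨u, z, hu, huz, hfix, hmap⟩ := siegel_move Q hQ hdim hl0 hL hT hlL hlT hLT
    obtain ⟨π, -, hπ⟩ := hS u z hu huz
    refine ⟨π O, tsnl_siegInv Q u z hu huz _ _ (hπ O) hO, ?_, ?_, ?_⟩
    · have := (hπ O l).1 hl
      rwa [hfix] at this
    · intro x hx
      have h1 : E Q u (-z) x ∈ C O := (siegSym_back Q hu huz hπ O x).1 hx
      have h2 : E Q u (-z) x ∈ Submodule.span F ((C O : AddSubgroup W) : Set W) :=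
        Submodule.subset_span h1
      have h3 := (hmap _).1 h2
      rwa [E_E_neg Q hu huz] at h3
    · exact (card_eq_of_siegel Q hu huz _ _ (hπ O)).symm

/-- the members through `l` chosen on the `q + 1` lines of T5-LINES -/
theorem exists_line_members (Q : QuadraticForm F W)
    (hQ : (QuadraticMap.polarBilin Q).Nondegenerate) (hdim : finrank F W = 5) {𝒪 : Type*}
    (C : 𝒪 → AddSubgroup W) (p : ℕ) (hS : SiegSym Q p C) {O : 𝒪} (hO : TSNL Q (C O)) {l : W}
    (hl0 : l ≠ 0) (hl : l ∈ C O) :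
    ∃ g : Option F → 𝒪, (∀ i, TSNL Q (C (g i)) ∧ l ∈ C (g i)) ∧
      ∀ i j, C (g i) = C (g j) → i = j := by
  have hL := span_ts Q hQ hdim (C O) hO
  have hlL : l ∈ Submodule.span F ((C O : AddSubgroup W) : Set W) := Submodule.subset_span hl
  obtain ⟨f, hf, hfi⟩ := card_lines Q hQ hdim hl0 hL hlL
  choose g hg using fun i =>
    exists_member_in_line Q hQ hdim C p hS hO hl0 hl (hfi i).1 (hfi i).2
  refine ⟨g, fun i => ⟨(hg i).1, (hg i).2.1⟩, ?_⟩
  intro i j hij
  apply hf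
  rw [eq_span_of_ts Q hQ hdim (C (g i)) (hg i).1 (f i) (hfi i).1 (hg i).2.2.1,
    eq_span_of_ts Q hQ hdim (C (g j)) (hg j).1 (f j) (hfi j).1 (hg j).2.2.1, hij]

/-- at least `q + 1` TSNL members pass through a point of a TSNL member -/
theorem card_le_mult_T (Q : QuadraticForm F W)
    (hQ : (QuadraticMap.polarBilin Q).Nondegenerate) (hdim : finrank F W = 5) {𝒪 : Type*}
    [Finite 𝒪] (C : 𝒪 → AddSubgroup W) (p : ℕ) (hS : SiegSym Q p C) {O : 𝒪}
    (hO : TSNL Q (C O)) {l : W} (hl0 : l ≠ 0) (hl : l ∈ C O) :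
    Fintype.card F + 1 ≤ mult (subFam C (TSNL Q)) l := by
  obtain ⟨g, hg, hinj⟩ := exists_line_members Q hQ hdim C p hS hO hl0 hl
  have hinj' : Function.Injective (fun i : Option F =>
      (⟨⟨g i, (hg i).1⟩, (hg i).2⟩ :
        {O' : {O : 𝒪 // TSNL Q (C O)} // l ∈ subFam C (TSNL Q) O'})) := by
    intro i j hij
    have h1 := congrArg (fun O' => O'.1.1) hij
    simp only at h1
    exact hinj i j (by rw [h1])
  have := Nat.card_le_card_of_injective _ hinj'
  rwa [Nat.card_eq_fintype_card, Fintype.card_option] at this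

/-- if exactly `q + 1` members pass through `l`, they are determined by their subgroups -/
theorem member_unique (Q : QuadraticForm F W)
    (hQ : (QuadraticMap.polarBilin Q).Nondegenerate) (hdim : finrank F W = 5) {𝒪 : Type*}
    [Finite 𝒪] (C : 𝒪 → AddSubgroup W) (p : ℕ) (hS : SiegSym Q p C) {O₀ : 𝒪}
    (hO₀ : TSNL Q (C O₀)) {l : W} (hl0 : l ≠ 0) (hl : l ∈ C O₀)
    (hle : mult C l ≤ Fintype.card F + 1) {O O' : 𝒪} (hO : l ∈ C O) (hO' : l ∈ C O')
    (hCC : C O = C O') : O = O' := by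
  obtain ⟨g, hg, hinj⟩ := exists_line_members Q hQ hdim C p hS hO₀ hl0 hl
  have hinj' : Function.Injective (fun i : Option F =>
      (⟨g i, (hg i).2⟩ : {O : 𝒪 // l ∈ C O})) := by
    intro i j hij
    have h1 := congrArg Subtype.val hij
    simp only at h1
    exact hinj i j (by rw [h1])
  have hbij := hinj'.bijective_of_nat_card_le (by
    rw [Nat.card_eq_fintype_card (α := Option F), Fintype.card_option]
    exact hle)
  obtain ⟨i, hi⟩ := hbij.2 ⟨O, hO⟩
  obtain ⟨j, hj⟩ := hbij.2 ⟨O', hO'⟩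
  have hi' : g i = O := congrArg Subtype.val hi
  have hj' : g j = O' := congrArg Subtype.val hj
  have hij : i = j := hinj i j (by rw [hi', hj', hCC])
  rw [← hi', ← hj', hij]

end Cfsg.Agent.Lib.Helper96_T5Geo
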