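import Mathlib
import Cfsg.Agent.Lib.Helper96_T5Geo
import Cfsg.Agent.Lib.Helper78_MIO_MASS

set_option autoImplicit false
set_option linter.unusedSectionVars false
set_option linter.unusedVariables false

/-!
MIO-TIGHT5 (helper38's orthogonal minimal-index market, S2143; sub-architect helper96): the tight case
`dim W = 5` (needed for `Ω₇(q)`).  Maths: pending/helper38/MIO_proof.md §T.
-/

namespace Cfsg.Agent.Lib.Helper96_MIO_TIGHT5

namespace T5Num

theorem pows {q : ℕ} (hq : 5 ≤ q) :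
    5 * q ≤ q ^ 2 ∧ 5 * q ^ 2 ≤ q ^ 3 ∧ 5 * q ^ 3 ≤ q ^ 4 ∧ 5 * q ^ 4 ≤ q ^ 5 ∧ 5 * q ^ 5 ≤ q ^ 6 := by
  refine ⟨?_, ?_, ?_, ?_, ?_⟩
  · rw [pow_two]; exact Nat.mul_le_mul_right q hq
  · rw [pow_succ q 2, mul_comm (q ^ 2) q]; exact Nat.mul_le_mul_right _ hq
  · rw [pow_succ q 3, mul_comm (q ^ 3) q]; exact Nat.mul_le_mul_right _ hq
  · rw [pow_succ q 4, mul_comm (q ^ 4) q]; exact Nat.mul_le_mul_right _ hq
  · rw [pow_succ q 5, mul_comm (q ^ 5) q]; exact Nat.mul_le_mul_right _ hq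

theorem div_eq {q : ℕ} (hq : 5 ≤ q) :
    (q ^ 6 - 1) / (q - 1) = q ^ 5 + q ^ 4 + q ^ 3 + q ^ 2 + q + 1 := by
  obtain ⟨r, rfl⟩ : ∃ r, q = r + 1 := ⟨q - 1, by omega⟩
  apply Nat.div_eq_of_eq_mul_left (by omega)
  simp only [Nat.add_sub_cancel]
  have : (r + 1) ^ 6 = ((r + 1) ^ 5 + (r + 1) ^ 4 + (r + 1) ^ 3 + (r + 1) ^ 2 + (r + 1) + 1) * r + 1 := by
    ring
  omega

/-- (B): `n₀ ≤ q + 1` -/
theorem n0_le {q s n0 m N : ℕ} (hq : 5 ≤ q) (hs : s + 1 = q ^ 4)
    (hN : N = q ^ 5 + q ^ 4 + q ^ 3 + q ^ 2 + q + 1) (h : m + n0 * s < N) : n0 ≤ q + 1 := by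
  by_contra hcon
  have h1 : (q + 2) * s ≤ n0 * s := Nat.mul_le_mul_right s (by omega)
  obtain ⟨p2, p3, p4, p5, p6⟩ := pows hq
  have h2 : q * s + q = q ^ 5 := by
    have : q * (s + 1) = q ^ 5 := by rw [hs]; ring
    linarith
  nlinarith

/-- (C): no non-singular vector in a member -/
theorem no_ns {q s ℓ κ m N k : ℕ} (hq : 5 ≤ q) (hs : s + 1 = q ^ 4) (hℓ : ℓ + q ^ 2 = q ^ 4)
    (hκ : 2 * κ + 2 ≥ q) (hN : N = q ^ 5 + q ^ 4 + q ^ 3 + q ^ 2 + q + 1) (hk : 1 ≤ k)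
    (h : m + (q + 1) * s + k * (κ * ℓ) < N) : False := by
  obtain ⟨p2, p3, p4, p5, p6⟩ := pows hq
  have h1 : κ * ℓ ≤ k * (κ * ℓ) := Nat.le_mul_of_pos_left _ hk
  have h2 : q * s + q = q ^ 5 := by
    have : q * (s + 1) = q ^ 5 := by rw [hs]; ring
    linarith
  -- 2 κ ℓ ≥ (q - 2) ℓ
  have h3 : (q - 2) * ℓ ≤ 2 * (κ * ℓ) := by
    have : q - 2 ≤ 2 * κ := by omega
    calc (q - 2) * ℓ ≤ (2 * κ) * ℓ := Nat.mul_le_mul_right _ this
      _ = 2 * (κ * ℓ) := by ring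
  obtain ⟨r, rfl⟩ : ∃ r, q = r + 2 := ⟨q - 2, by omega⟩
  simp only [Nat.add_sub_cancel] at h3
  have h4 : r * ℓ + r * (r + 2) ^ 2 = r * (r + 2) ^ 4 := by rw [← mul_add, hℓ]
  nlinarith


/-- (D): the non-full kill -/
theorem nf_kill {q s nO t b MT MN nN N : ℕ} (hq : 5 ≤ q) (hs : s + 1 = q ^ 4)
    (hN : N = q ^ 5 + q ^ 4 + q ^ 3 + q ^ 2 + q + 1)
    (hlt : nO + (q + 1) * s < N) (ht : t ≤ nO) (hT : MT = t + (q + 1) * s)
    (hpt : 2 * MT + b * q ^ 2 ≤ 2 * t * q ^ 2) (hN1 : MN = b + nN * s) (hnN : 1 ≤ nN)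
    (hN2 : 2 * MN ≤ b * q ^ 2) : False := by
  obtain ⟨p2, p3, p4, p5, p6⟩ := pows hq
  have h2 : q * s + q = q ^ 5 := by
    have : q * (s + 1) = q ^ 5 := by rw [hs]; ring
    linarith
  have h3 : s ≤ nN * s := Nat.le_mul_of_pos_left _ hnN
  have ht' : t ≤ q ^ 3 + q ^ 2 + 2 * q + 1 := by nlinarith
  have h4 : t * q ^ 2 ≤ (q ^ 3 + q ^ 2 + 2 * q + 1) * q ^ 2 := Nat.mul_le_mul_right _ ht'
  have h5 : (q ^ 3 + q ^ 2 + 2 * q + 1) * q ^ 2 = q ^ 5 + q ^ 4 + 2 * q ^ 3 + q ^ 2 := by ring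
  nlinarith

/-- (E): the number of full members -/
theorem t_eq {q s t : ℕ} (hq : 5 ≤ q) (hs : s + 1 = q ^ 4)
    (hT : t * q ^ 2 = t + (q + 1) * s) : t = q ^ 3 + q ^ 2 + q + 1 := by
  obtain ⟨X, hXdef⟩ : ∃ X, X = q ^ 3 + q ^ 2 + q + 1 := ⟨_, rfl⟩
  rw [← hXdef]
  have hX : X * q ^ 2 = X + (q + 1) * s := by
    have h1 : (q + 1) * (s + 1) = (q + 1) * q ^ 4 := by rw [hs]
    have h2 : X * q ^ 2 + (q + 1) = X + (q + 1) * q ^ 4 := by
      rw [hXdef]; ring
    linarith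
  obtain ⟨r, hr⟩ : ∃ r, q ^ 2 = r + 1 := ⟨q ^ 2 - 1, by have := Nat.one_le_pow 2 q (by omega); omega⟩
  rw [hr] at hT hX
  have h1 : t * r = (q + 1) * s := by linarith
  have h2 : X * r = (q + 1) * s := by linarith
  have hr0 : 0 < r := by
    have : 25 ≤ q ^ 2 := by nlinarith
    omega
  exact Nat.eq_of_mul_eq_mul_right hr0 (h1.trans h2.symm)

theorem final_eq {q s nO f t M N : ℕ} (hq : 5 ≤ q) (hs : s + 1 = q ^ 4)
    (hN : N = q ^ 5 + q ^ 4 + q ^ 3 + q ^ 2 + q + 1) (hM : M = nO + (q + 1) * s)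
    (hO : nO = f + t) (ht : t = q ^ 3 + q ^ 2 + q + 1) : M + (q + 1) = N + f := by
  have h2 : (q + 1) * s + (q + 1) = q ^ 5 + q ^ 4 := by
    have : (q + 1) * (s + 1) = q ^ 5 + q ^ 4 := by rw [hs]; ring
    linarith
  linarith

end T5Num

open Module Cfsg.Agent.Lib.Helper44_QuadClass Cfsg.Agent.Lib.Helper14_OmegaSimple
  Cfsg.Agent.Lib.Helper38_MIODefs Cfsg.Agent.Lib.Helper96_T5Defs Cfsg.Agent.Lib.Helper96_T5Fam
  Cfsg.Agent.Lib.Helper96_T5Geo Cfsg.Agent.Lib.Helper17_MIO_TR Cfsg.Agent.Lib.Helper78_MIO_MASS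
  Cfsg.Agent.Lib.Helper24_T5_SPAN

variable {F W : Type*} [Field F] [Fintype F] [AddCommGroup W] [Module F W] [FiniteDimensional F W]

theorem exists_ne_zero_of_tsnl (Q : QuadraticForm F W) {S : AddSubgroup W} (hS : TSNL Q S) :
    ∃ y ∈ S, y ≠ 0 := by
  by_contra hcon
  have hcon' : ∀ y ∈ S, y = 0 := fun y hy => by
    by_contra h
    exact hcon ⟨y, hy, h⟩
  apply hS.2
  refine ⟨0, fun y hy => ⟨0, ?_⟩⟩
  rw [hcon' y hy, smul_zero]

theorem not_tsnl_bot (Q : QuadraticForm F W) : ¬ TSNL Q (⊥ : AddSubgroup W) := by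
  intro h
  obtain ⟨y, hy, hy0⟩ := exists_ne_zero_of_tsnl Q h
  exact hy0 ((AddSubgroup.mem_bot).1 hy)

/-- a square class has at least `(q - 1) / 2` elements -/
theorem card_sq_class (c : F) (hc : c ≠ 0) :
    (Fintype.card F - 1) / 2 ≤ Nat.card {c' : F // ∃ t : F, t ≠ 0 ∧ c' = t ^ 2 * c} := by
  classical
  have himg : Nat.card {c' : F // ∃ t : F, t ≠ 0 ∧ c' = t ^ 2 * c} =
      ((Finset.univ.filter (fun t : F => t ≠ 0)).image (fun t => t ^ 2 * c)).card := by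
    rw [Nat.card_eq_fintype_card]
    apply Fintype.card_of_subtype
    intro x
    simp only [Finset.mem_image, Finset.mem_filter, Finset.mem_univ, true_and]
    constructor
    · rintro ⟨t, ht, rfl⟩; exact ⟨t, ht, rfl⟩
    · rintro ⟨t, ht, rfl⟩; exact ⟨t, ht, rfl⟩
  rw [himg]
  have hcard : (Finset.univ.filter (fun t : F => t ≠ 0)).card = Fintype.card F - 1 := by
    rw [Finset.filter_ne' Finset.univ (0 : F), Finset.card_erase_of_mem (Finset.mem_univ _),
      Finset.card_univ]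
  have h := Finset.card_le_mul_card_image (f := fun t : F => t ^ 2 * c)
    (Finset.univ.filter (fun t : F => t ≠ 0)) 2 (by
      intro a ha
      obtain ⟨t, ht, rfl⟩ := Finset.mem_image.1 ha
      refine le_trans (Finset.card_le_card ?_) (Finset.card_le_two (a := t) (b := -t))
      intro x hx
      simp only [Finset.mem_filter, Finset.mem_univ, true_and] at hx
      have h1 : x ^ 2 = t ^ 2 := mul_right_cancel₀ hc hx.2
      rcases sq_eq_sq_iff_eq_or_eq_neg.1 h1 with h | h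
      · simp [h]
      · simp [h])
  rw [hcard] at h
  omega


/-- a proper divisor is at most half -/
theorem two_mul_le_of_dvd_ne {d n : ℕ} (hn : 0 < n) (hd : d ∣ n) (hne : d ≠ n) : 2 * d ≤ n := by
  obtain ⟨k, rfl⟩ := hd
  rcases k with _ | _ | k
  · simp at hn
  · simp at hne
  · nlinarith

/-- the cardinality of a t.s. line -/
theorem card_of_isTS (Q : QuadraticForm F W) {T : Submodule F W} (hT : IsTS Q 2 T) :
    Nat.card T = Fintype.card F ^ 2 := by
  have : Finite W := Module.finite_of_finite F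
  have : Fintype T := Fintype.ofFinite T
  rw [Nat.card_eq_fintype_card, Module.card_eq_pow_finrank (K := F) (V := T), hT.1]

/-- a member with the cardinality of its span is its span -/
theorem eq_span_of_card (Q : QuadraticForm F W) (hQ : (QuadraticMap.polarBilin Q).Nondegenerate)
    (hdim : finrank F W = 5) {S : AddSubgroup W} (hS : TSNL Q S)
    (hc : Nat.card S = Fintype.card F ^ 2) :
    S = (Submodule.span F (S : Set W)).toAddSubgroup := by
  have : Finite W := Module.finite_of_finite F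
  have hT := span_ts Q hQ hdim S hS
  have hle : S ≤ (Submodule.span F (S : Set W)).toAddSubgroup := fun x hx =>
    Submodule.subset_span hx
  refine AddSubgroup.eq_of_le_of_card_ge hle ?_
  have h1 : Nat.card (Submodule.span F (S : Set W)).toAddSubgroup = Fintype.card F ^ 2 :=
    card_of_isTS Q hT
  rw [h1, hc]

/-- a non-full TSNL member has at most `q ^ 2 / 2` elements -/
theorem two_mul_card_le (Q : QuadraticForm F W) (hQ : (QuadraticMap.polarBilin Q).Nondegenerate)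
    (hdim : finrank F W = 5) {S : AddSubgroup W} (hS : TSNL Q S)
    (hc : Nat.card S ≠ Fintype.card F ^ 2) : 2 * Nat.card S ≤ Fintype.card F ^ 2 := by
  have hT := span_ts Q hQ hdim S hS
  have hle : S ≤ (Submodule.span F (S : Set W)).toAddSubgroup := fun x hx =>
    Submodule.subset_span hx
  have h1 : Nat.card (Submodule.span F (S : Set W)).toAddSubgroup = Fintype.card F ^ 2 :=
    card_of_isTS Q hT
  have hdvd := AddSubgroup.card_dvd_of_le hle
  rw [h1] at hdvd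
  exact two_mul_le_of_dvd_ne (pow_pos Fintype.card_pos 2) hdvd hc

/-- a TSNL member has at most `q ^ 2` elements -/
theorem card_le_sq (Q : QuadraticForm F W) (hQ : (QuadraticMap.polarBilin Q).Nondegenerate)
    (hdim : finrank F W = 5) {S : AddSubgroup W} (hS : TSNL Q S) :
    Nat.card S ≤ Fintype.card F ^ 2 := by
  have hT := span_ts Q hQ hdim S hS
  have hle : S ≤ (Submodule.span F (S : Set W)).toAddSubgroup := fun x hx =>
    Submodule.subset_span hx
  have h1 : Nat.card (Submodule.span F (S : Set W)).toAddSubgroup = Fintype.card F ^ 2 :=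
    card_of_isTS Q hT
  have hdvd := AddSubgroup.card_dvd_of_le hle
  rw [h1] at hdvd
  exact Nat.le_of_dvd (pow_pos Fintype.card_pos 2) hdvd


/-- **MIO-TIGHT5**: the tight case `dim W = 5`. -/
theorem tight5 (Q : QuadraticForm F W) (hQ : (QuadraticMap.polarBilin Q).Nondegenerate)
    (h2 : (2 : F) ≠ 0) (hdim : finrank F W = 5) (hq : 5 ≤ Fintype.card F)
    {𝒪 : Type*} [Fintype 𝒪] (C : 𝒪 → AddSubgroup W) (p : ℕ) (hp : p.Prime) [CharP F p]
    (hS : SiegSym Q p C) (hT : TorSym Q C)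
    (hZ : Nat.card {x : W // x ≠ 0 ∧ Q x = 0} = Fintype.card F ^ 4 - 1)
    (hL : ∀ c : F, c ≠ 0 → Fintype.card F ^ 4 - Fintype.card F ^ 2 ≤ Nat.card {x : W // Q x = c})
    (hmid : ∀ O, (∃ x : W, ∀ y ∈ C O, ∃ a : F, y = a • x) ∨ (∀ y ∈ C O, Q y = 0))
    (hlt : ∑ O, Nat.card (C O) < (Fintype.card F ^ 6 - 1) / (Fintype.card F - 1)) :
    Out3 F C ∨ Out4 Q C 2 (Fintype.card F + 1) ((Fintype.card F ^ 6 - 1) / (Fintype.card F - 1)) := by
  classical
  have : Finite W := Module.finite_of_finite F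
  have hdim5 : 5 ≤ finrank F W := hdim.ge
  obtain ⟨q, hqdef⟩ : ∃ q, q = Fintype.card F := ⟨_, rfl⟩
  rw [← hqdef] at hq hZ hL hlt ⊢
  have h2le : ∀ S : AddSubgroup W, TSNL Q S → Nat.card S ≠ q ^ 2 → 2 * Nat.card S ≤ q ^ 2 := by
    rw [hqdef]
    exact fun S hS hc => two_mul_card_le Q hQ hdim hS hc
  have hlesq : ∀ S : AddSubgroup W, TSNL Q S → Nat.card S ≤ q ^ 2 := by
    rw [hqdef]
    exact fun S hS => card_le_sq Q hQ hdim hS
  have hspan : ∀ S : AddSubgroup W, TSNL Q S → Nat.card S = q ^ 2 →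
      S = (Submodule.span F (S : Set W)).toAddSubgroup := by
    rw [hqdef]
    exact fun S hS hc => eq_span_of_card Q hQ hdim hS hc
  obtain ⟨N, hN⟩ : ∃ N, N = q ^ 5 + q ^ 4 + q ^ 3 + q ^ 2 + q + 1 := ⟨_, rfl⟩
  rw [T5Num.div_eq hq, ← hN] at hlt ⊢
  by_cases hT0 : ∃ O, TSNL Q (C O)
  swap
  · left
    intro O
    rcases hmid O with h | h
    · exact h
    · by_contra hno
      exact hT0 ⟨O, h, hno⟩
  right
  obtain ⟨O₁, hO₁⟩ := hT0
  -- the number of non-zero singular vectors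
  have hq4 : 1 ≤ q ^ 4 := Nat.one_le_pow 4 q (by omega)
  obtain ⟨s, hs⟩ : ∃ s, s + 1 = q ^ 4 := ⟨q ^ 4 - 1, by omega⟩
  have hZ' : Nat.card {x : W // x ≠ 0 ∧ Q x = 0} = s := by rw [hZ]; omega
  have hspos : 0 < s := by
    obtain ⟨p2, p3, p4, p5, p6⟩ := T5Num.pows hq
    nlinarith
  -- the level sets
  obtain ⟨ℓ, hℓ⟩ : ∃ ℓ, ℓ + q ^ 2 = q ^ 4 := ⟨q ^ 4 - q ^ 2, by
    have : q ^ 2 ≤ q ^ 4 := Nat.pow_le_pow_right (by omega) (by norm_num)
    omega⟩
  have hL' : ∀ c : F, c ≠ 0 → ℓ ≤ Nat.card {x : W // Q x = c} := by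
    intro c hc
    have := hL c hc
    omega
  have hℓpos : 0 < ℓ := by
    obtain ⟨p2, p3, p4, p5, p6⟩ := T5Num.pows hq
    nlinarith
  -- a non-singular vector
  obtain ⟨lns, hlns⟩ : ∃ l : W, Q l ≠ 0 := by
    have h1 : 0 < Nat.card {x : W // Q x = (1 : F)} := lt_of_lt_of_le hℓpos (hL' 1 one_ne_zero)
    obtain ⟨⟨x, hx⟩⟩ := (Nat.card_pos_iff.1 h1).1
    exact ⟨x, by rw [hx]; exact one_ne_zero⟩
  have hκ : ∀ c : F, c ≠ 0 →
      (q - 1) / 2 ≤ Nat.card {c' : F // ∃ t : F, t ≠ 0 ∧ c' = t ^ 2 * c} := by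
    intro c hc
    rw [hqdef]
    exact card_sq_class c hc
  have hκ2 : 2 * ((q - 1) / 2) + 2 ≥ q := by omega
  -- a non-zero vector of the TSNL member
  obtain ⟨y₁, hy₁, hy₁0⟩ := exists_ne_zero_of_tsnl Q hO₁
  have hQy₁ : Q y₁ = 0 := hO₁.1 y₁ hy₁
  -- the TSNL subfamily
  have hST : SiegSym Q p (subFam C (TSNL Q)) := sub_siegSym Q C p hS _ (tsnl_siegInv Q)
  have hge1 : q + 1 ≤ mult (subFam C (TSNL Q)) y₁ := by
    rw [hqdef]
    exact card_le_mult_T Q hQ hdim C p hS hO₁ hy₁0 hy₁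
  have hgeT : ∀ l : W, l ≠ 0 → Q l = 0 → q + 1 ≤ mult (subFam C (TSNL Q)) l := by
    intro l hl0 hl
    rw [mult_const Q hQ hdim5 _ p hST hl0 hy₁0 hl hQy₁]
    exact hge1
  have hge : ∀ l : W, l ≠ 0 → Q l = 0 → q + 1 ≤ mult C l := fun l hl0 hl =>
    le_trans (hgeT l hl0 hl) (mult_subFam_le C _ l)
  -- the upper bound
  have hmass := fun (l₀ : W) (h0 : l₀ ≠ 0) (hQ0 : Q l₀ = 0) =>
    mass_lower Q hQ hdim5 C p hS hT s ℓ ((q - 1) / 2) hZ' hL' hκ h0 hQ0 hlns
  have hle : ∀ l : W, l ≠ 0 → Q l = 0 → mult C l ≤ q + 1 := by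
    intro l hl0 hl
    have h1 := hmass l hl0 hl
    exact T5Num.n0_le hq hs hN (m := Fintype.card 𝒪 + mult C lns * ((q - 1) / 2 * ℓ))
      (by linarith)
  have heq : ∀ l : W, l ≠ 0 → Q l = 0 → mult C l = q + 1 := fun l hl0 hl =>
    le_antisymm (hle l hl0 hl) (hge l hl0 hl)
  have heqT : ∀ l : W, l ≠ 0 → Q l = 0 → mult (subFam C (TSNL Q)) l = q + 1 := fun l hl0 hl =>
    le_antisymm (le_trans (mult_subFam_le C _ l) (hle l hl0 hl)) (hgeT l hl0 hl)
  -- all members are totally singular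
  have hts : ∀ O, ∀ x ∈ C O, Q x = 0 := by
    intro O x hx
    by_contra hne
    have h1 := mass_lower Q hQ hdim5 C p hS hT s ℓ ((q - 1) / 2) hZ' hL' hκ hy₁0 hQy₁ hne
    rw [heq y₁ hy₁0 hQy₁] at h1
    have hk : 1 ≤ mult C x := by
      unfold mult
      have : Nonempty {O : 𝒪 // x ∈ C O} := ⟨⟨O, hx⟩⟩
      exact Nat.card_pos
    exact T5Num.no_ns hq hs hℓ hκ2 hN hk (m := Fintype.card 𝒪) (by linarith)
  have hM : ∑ O, Nat.card (C O) = Fintype.card 𝒪 + (q + 1) * s := by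
    rw [mass_ts Q hQ hdim5 C p hS s hZ' hy₁0 hQy₁ hts, heq y₁ hy₁0 hQy₁]
  -- every non-trivial member is TSNL
  have hnt : ∀ O, C O ≠ ⊥ → TSNL Q (C O) := by
    intro O hO
    obtain ⟨x, hx, hx0⟩ : ∃ x ∈ C O, x ≠ 0 := by
      by_contra hcon
      apply hO
      rw [eq_bot_iff]
      intro y hy
      by_contra hy0
      exact hcon ⟨y, hy, fun h => hy0 (by rw [h]; exact (⊥ : AddSubgroup W).zero_mem)⟩
    have hQx := hts O x hx
    have hinj : Function.Injective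
        (fun O' : {O' : {O : 𝒪 // TSNL Q (C O)} // x ∈ subFam C (TSNL Q) O'} =>
          (⟨O'.1.1, O'.2⟩ : {O : 𝒪 // x ∈ C O})) := by
      intro A B hAB
      apply Subtype.ext
      apply Subtype.ext
      have h := congrArg Subtype.val hAB
      exact h
    have hbij := hinj.bijective_of_nat_card_le (by
      show mult C x ≤ mult (subFam C (TSNL Q)) x
      rw [heq x hx0 hQx, heqT x hx0 hQx])
    obtain ⟨A, hA⟩ := hbij.2 ⟨O, hx⟩
    have hA' : A.1.1 = O := congrArg Subtype.val hA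
    rw [← hA']
    exact A.1.2
  -- fullness
  have hfull : ∀ O, TSNL Q (C O) → Nat.card (C O) = q ^ 2 := by
    by_contra hcon
    have hcon' : ∃ O, TSNL Q (C O) ∧ Nat.card (C O) ≠ q ^ 2 := by
      by_contra h
      apply hcon
      intro O hO
      by_contra hne
      exact h ⟨O, hO, hne⟩
    obtain ⟨O₂, hO₂, hO₂c⟩ := hcon'
    -- the subfamily of the non-full members of the TSNL subfamily
    have hSN : SiegSym Q p (subFam (subFam C (TSNL Q)) (fun S => Nat.card S ≠ q ^ 2)) := by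
      apply sub_siegSym Q _ p hST
      intro u z hu huz S S' h hc
      rwa [← card_eq_of_siegel Q hu huz S S' h]
    obtain ⟨y₂, hy₂, hy₂0⟩ := exists_ne_zero_of_tsnl Q hO₂
    have hQy₂ : Q y₂ = 0 := hO₂.1 y₂ hy₂
    have hnN : 1 ≤ mult (subFam (subFam C (TSNL Q)) (fun S => Nat.card S ≠ q ^ 2)) y₂ := by
      unfold mult
      have : Nonempty {O' : {O' : {O : 𝒪 // TSNL Q (C O)} //
          Nat.card (subFam C (TSNL Q) O') ≠ q ^ 2} //
          y₂ ∈ subFam (subFam C (TSNL Q)) (fun S => Nat.card S ≠ q ^ 2) O'} :=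
        ⟨⟨⟨⟨O₂, hO₂⟩, hO₂c⟩, hy₂⟩⟩
      exact Nat.card_pos
    have hMN := mass_ts Q hQ hdim5 (subFam (subFam C (TSNL Q)) (fun S => Nat.card S ≠ q ^ 2)) p
      hSN s hZ' hy₂0 hQy₂ (fun O x hx => O.1.2.1 x hx)
    have hMT := mass_ts Q hQ hdim5 (subFam C (TSNL Q)) p hST s hZ' hy₂0 hQy₂
      (fun O x hx => O.2.1 x hx)
    rw [heqT y₂ hy₂0 hQy₂] at hMT
    -- 2 * MN ≤ b * q ^ 2
    have hN2 : 2 * ∑ O, Nat.card (subFam (subFam C (TSNL Q)) (fun S => Nat.card S ≠ q ^ 2) O) ≤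
        Fintype.card {O' : {O : 𝒪 // TSNL Q (C O)} // Nat.card (subFam C (TSNL Q) O') ≠ q ^ 2} *
          q ^ 2 := by
      rw [Finset.mul_sum]
      have := Finset.sum_le_card_nsmul (Finset.univ :
        Finset {O' : {O : 𝒪 // TSNL Q (C O)} // Nat.card (subFam C (TSNL Q) O') ≠ q ^ 2})
        (fun O => 2 * Nat.card (subFam (subFam C (TSNL Q)) (fun S => Nat.card S ≠ q ^ 2) O))
        (q ^ 2) (by
          intro O _
          exact h2le _ O.1.2 O.2)
      rw [smul_eq_mul, Finset.card_univ] at this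
      exact this
    -- pointwise on the TSNL subfamily
    have hpt : 2 * ∑ O, Nat.card (subFam C (TSNL Q) O) +
        Fintype.card {O' : {O : 𝒪 // TSNL Q (C O)} // Nat.card (subFam C (TSNL Q) O') ≠ q ^ 2} *
          q ^ 2 ≤ 2 * Fintype.card {O : 𝒪 // TSNL Q (C O)} * q ^ 2 := by
      rw [Fintype.card_subtype, Finset.card_filter, Finset.sum_mul, Finset.mul_sum,
        ← Finset.sum_add_distrib]
      have := Finset.sum_le_card_nsmul (Finset.univ : Finset {O : 𝒪 // TSNL Q (C O)})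
        (fun O => 2 * Nat.card (subFam C (TSNL Q) O) +
          (if Nat.card (subFam C (TSNL Q) O) ≠ q ^ 2 then 1 else 0) * q ^ 2) (2 * q ^ 2) (by
          intro O _
          by_cases hc : Nat.card (subFam C (TSNL Q) O) ≠ q ^ 2
          · rw [if_pos hc, one_mul]
            have h1 : 2 * Nat.card (subFam C (TSNL Q) O) ≤ q ^ 2 := h2le _ O.2 hc
            linarith
          · rw [if_neg hc, zero_mul, add_zero]
            have h1 : Nat.card (subFam C (TSNL Q) O) ≤ q ^ 2 := hlesq _ O.2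
            linarith)
      rw [smul_eq_mul, Finset.card_univ] at this
      linarith
    have htle : Fintype.card {O : 𝒪 // TSNL Q (C O)} ≤ Fintype.card 𝒪 :=
      Fintype.card_subtype_le _
    exact T5Num.nf_kill hq hs hN (by rw [← hM]; exact hlt) htle hMT hpt hMN hnN hN2
  -- the count of the TSNL members
  have hMT := mass_ts Q hQ hdim5 (subFam C (TSNL Q)) p hST s hZ' hy₁0 hQy₁
    (fun O x hx => O.2.1 x hx)
  rw [heqT y₁ hy₁0 hQy₁] at hMT
  have hMT' : ∑ O, Nat.card (subFam C (TSNL Q) O) = Fintype.card {O : 𝒪 // TSNL Q (C O)} * q ^ 2 := by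
    rw [Finset.sum_congr rfl (fun O _ => hfull O.1 O.2), Finset.sum_const, smul_eq_mul,
      Finset.card_univ]
  have ht := T5Num.t_eq hq hs (hMT'.symm.trans hMT)
  -- the partition of the index set
  have hpart : Fintype.card 𝒪 = Nat.card {O : 𝒪 // C O = ⊥} + Fintype.card {O : 𝒪 // TSNL Q (C O)} := by
    have h1 := Fintype.card_subtype_compl (fun O : 𝒪 => TSNL Q (C O))
    have h2 : Fintype.card {O : 𝒪 // ¬ TSNL Q (C O)} = Nat.card {O : 𝒪 // C O = ⊥} := by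
      rw [Nat.card_eq_fintype_card]
      apply Fintype.card_congr
      apply Equiv.subtypeEquivRight
      intro O
      constructor
      · intro h
        by_contra hne
        exact h (hnt O hne)
      · intro h hO
        rw [h] at hO
        exact not_tsnl_bot Q hO
    have h3 := Fintype.card_subtype_le (fun O : 𝒪 => TSNL Q (C O))
    omega
  refine ⟨?_, ?_, ?_⟩
  · intro O
    by_cases hO : C O = ⊥
    · exact Or.inl hO
    · right
      have hO' := hnt O hO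
      refine ⟨_, span_ts Q hQ hdim (C O) hO', ?_⟩
      exact hspan _ hO' (hfull O hO')
  · intro T hT2
    -- a non-zero vector of T
    obtain ⟨l, hlT, hl0⟩ : ∃ l ∈ T, l ≠ 0 := by
      have : T ≠ ⊥ := by
        intro h
        have := hT2.1
        rw [h, finrank_bot] at this
        omega
      exact Submodule.exists_mem_ne_zero_of_ne_bot this
    have hQl : Q l = 0 := hT2.2 l hlT
    have hmT := heqT l hl0 hQl
    have hpos : 0 < mult (subFam C (TSNL Q)) l := by rw [hmT]; omega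
    obtain ⟨⟨⟨O₃, hO₃⟩, hlO₃⟩⟩ := (Nat.card_pos_iff.1 hpos).1
    have hlO₃' : l ∈ C O₃ := hlO₃
    obtain ⟨O', hO', hlO', hsub, -⟩ :=
      exists_member_in_line Q hQ hdim C p hS hO₃ hl0 hlO₃' hT2 hlT
    have hCO' : C O' = T.toAddSubgroup := by
      have h1 := hspan _ hO' (hfull O' hO')
      rw [h1, ← eq_span_of_ts Q hQ hdim (C O') hO' T hT2 hsub]
    refine ⟨O', hCO', ?_⟩
    intro O'' hO''
    have hl'' : l ∈ C O'' := by rw [hO'']; exact hlT
    exact member_unique Q hQ hdim C p hS hO₃ hl0 hlO₃' (by rw [← hqdef]; exact hle l hl0 hQl)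
      hl'' hlO' (hO''.trans hCO'.symm)
  · exact T5Num.final_eq hq hs hN hM hpart ht

end Cfsg.Agent.Lib.Helper96_MIO_TIGHT5
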