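import Mathlib
import Cfsg.Agent.Lib.Helper38_MIODefs
import Cfsg.Agent.Lib.Helper38_MIODefs2
import Cfsg.Agent.Lib.Helper96_T5Fam
import Cfsg.Agent.Lib.Helper17_MIO_TR
import Cfsg.Agent.Lib.Helper78_MIO_MASS
import Cfsg.Agent.Lib.Helper24_T5_SPAN
import Cfsg.Agent.Lib.Helper14_Siegel

set_option autoImplicit false
set_option linter.unusedSectionVars false
set_option linter.unusedVariables false

/-!
T6-PLANES (helper79's sub-market of MIO-TIGHT6P, S2145): the `q + 1` Siegel elements fixing `l` whose images of the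
totally singular 3-space `P` are pairwise distinct.
-/

namespace Cfsg.Agent.Lib.Helper96_T6_PLANES

open Module Cfsg.Agent.Lib.Helper44_QuadClass Cfsg.Agent.Lib.Helper14_OmegaSimple
  Cfsg.Agent.Lib.Helper38_MIODefs Cfsg.Agent.Lib.Helper38_MIODefs2 Cfsg.Agent.Lib.Helper96_T5Defs
  Cfsg.Agent.Lib.Helper96_T5Fam

variable {F W : Type*} [Field F] [Fintype F] [AddCommGroup W] [Module F W] [FiniteDimensional F W]

/-- the polar form vanishes on a totally singular subspace -/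
theorem polar_zero_of_ts (Q : QuadraticForm F W) {P : Submodule F W} (hP : ∀ x ∈ P, Q x = 0)
    {a b : W} (ha : a ∈ P) (hb : b ∈ P) : QuadraticMap.polar (⇑Q) a b = 0 := by
  unfold QuadraticMap.polar
  rw [hP _ (P.add_mem ha hb), hP a ha, hP b hb]
  ring

theorem planes (Q : QuadraticForm F W)
    {P : Submodule F W} (hP : ∀ x ∈ P, Q x = 0) {l e₂ e₃ f₂ f₃ : W} (hlP : l ∈ P) (he₂ : e₂ ∈ P)
    (he₃ : e₃ ∈ P) (hf₂ : Q f₂ = 0) (hf₃ : Q f₃ = 0) (hff : QuadraticMap.polar (⇑Q) f₂ f₃ = 0)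
    (hlf₂ : QuadraticMap.polar (⇑Q) l f₂ = 0) (hlf₃ : QuadraticMap.polar (⇑Q) l f₃ = 0)
    (h22 : QuadraticMap.polar (⇑Q) e₂ f₂ = 1) (h33 : QuadraticMap.polar (⇑Q) e₃ f₃ = 1)
    (h23 : QuadraticMap.polar (⇑Q) e₂ f₃ = 0) (h32 : QuadraticMap.polar (⇑Q) e₃ f₂ = 0) :
    ∃ u z : Option F → W,
      (∀ i, Q (u i) = 0 ∧ QuadraticMap.polar (⇑Q) (u i) (z i) = 0 ∧ E Q (u i) (z i) l = l) ∧
      ∀ i j, P.map ((E Q (u i) (z i) : W ≃ₗ[F] W) : W →ₗ[F] W) =
        P.map ((E Q (u j) (z j) : W ≃ₗ[F] W) : W →ₗ[F] W) → i = j := by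
  classical
  have PC : ∀ a b : W, QuadraticMap.polar (⇑Q) a b = QuadraticMap.polar (⇑Q) b a :=
    fun a b => QuadraticMap.polar_comm _ a b
  have hQe₂ : Q e₂ = 0 := hP _ he₂
  have hQe₃ : Q e₃ = 0 := hP _ he₃
  have hQl : Q l = 0 := hP _ hlP
  have he23 : QuadraticMap.polar (⇑Q) e₂ e₃ = 0 := polar_zero_of_ts Q hP he₂ he₃
  have hle₂ : QuadraticMap.polar (⇑Q) l e₂ = 0 := polar_zero_of_ts Q hP hlP he₂
  have hle₃ : QuadraticMap.polar (⇑Q) l e₃ = 0 := polar_zero_of_ts Q hP hlP he₃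
  have he₂e₂ : QuadraticMap.polar (⇑Q) e₂ e₂ = 0 := polar_zero_of_ts Q hP he₂ he₂
  have he₃e₃ : QuadraticMap.polar (⇑Q) e₃ e₃ = 0 := polar_zero_of_ts Q hP he₃ he₃
  have hf₂f₂ : QuadraticMap.polar (⇑Q) f₂ f₂ = 0 := by rw [polar_self', hf₂, mul_zero]
  have hf₃f₃ : QuadraticMap.polar (⇑Q) f₃ f₃ = 0 := by rw [polar_self', hf₃, mul_zero]
  have hf₃f₂ : QuadraticMap.polar (⇑Q) f₃ f₂ = 0 := by rw [PC]; exact hff
  have hf₂e₂ : QuadraticMap.polar (⇑Q) f₂ e₂ = 1 := by rw [PC]; exact h22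
  have hf₃e₃ : QuadraticMap.polar (⇑Q) f₃ e₃ = 1 := by rw [PC]; exact h33
  have hf₃e₂ : QuadraticMap.polar (⇑Q) f₃ e₂ = 0 := by rw [PC]; exact h23
  have hf₂e₃ : QuadraticMap.polar (⇑Q) f₂ e₃ = 0 := by rw [PC]; exact h32
  have he32 : QuadraticMap.polar (⇑Q) e₃ e₂ = 0 := by rw [PC]; exact he23
  -- the data
  let u : Option F → W := fun i => match i with
    | some _ => f₂
    | none => e₂ + f₃
  let z : Option F → W := fun i => match i with
    | some t => t • f₃
    | none => f₂ - e₃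
  -- the element for `none`
  have hQun : Q (e₂ + f₃) = 0 := by
    rw [QuadraticMap.map_add (⇑Q) e₂ f₃, hQe₂, hf₃, h23]; ring
  have hQzn : Q (f₂ - e₃) = 0 := by
    rw [map_sub' Q f₂ e₃, hf₂, hQe₃, hf₂e₃]; ring
  have hpn : QuadraticMap.polar (⇑Q) (e₂ + f₃) (f₂ - e₃) = 0 := by
    rw [QuadraticMap.polar_add_left, QuadraticMap.polar_sub_right, QuadraticMap.polar_sub_right,
      h22, he23, hf₃f₂, hf₃e₃]
    ring
  have hps : ∀ t : F, QuadraticMap.polar (⇑Q) f₂ (t • f₃) = 0 := by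
    intro t
    rw [QuadraticMap.polar_smul_right, hff, smul_zero]
  have hQzs : ∀ t : F, Q (t • f₃) = 0 := by
    intro t
    rw [QuadraticMap.map_smul, hf₃, smul_zero]
  -- images for `some t`
  have Es_l : ∀ t : F, E Q f₂ (t • f₃) l = l := by
    intro t
    rw [E_apply Q hf₂ (hps t), hlf₂, QuadraticMap.polar_smul_right, hlf₃]
    simp
  have Es_e₂ : ∀ t : F, E Q f₂ (t • f₃) e₂ = e₂ + t • f₃ := by
    intro t
    rw [E_apply Q hf₂ (hps t), h22, QuadraticMap.polar_smul_right, h23, hQzs t]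
    simp
  have Es_e₃ : ∀ t : F, E Q f₂ (t • f₃) e₃ = e₃ - t • f₂ := by
    intro t
    rw [E_apply Q hf₂ (hps t), h32, QuadraticMap.polar_smul_right, h33, hQzs t]
    simp
  -- images for `none`
  have En_l : E Q (e₂ + f₃) (f₂ - e₃) l = l := by
    rw [E_apply Q hQun hpn, QuadraticMap.polar_add_right, QuadraticMap.polar_sub_right, hle₂, hlf₃,
      hlf₂, hle₃]
    simp
  have En_e₂ : E Q (e₂ + f₃) (f₂ - e₃) e₂ = -f₃ := by
    rw [E_apply Q hQun hpn, QuadraticMap.polar_add_right, QuadraticMap.polar_sub_right, he₂e₂, h23,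
      h22, he23, hQzn]
    simp
  have En_e₃ : E Q (e₂ + f₃) (f₂ - e₃) e₃ = f₂ := by
    rw [E_apply Q hQun hpn, QuadraticMap.polar_add_right, QuadraticMap.polar_sub_right, he32, h33,
      h32, he₃e₃, hQzn]
    simp
  have hu : ∀ i, Q (u i) = 0 := by
    intro i
    cases i with
    | none => exact hQun
    | some t => exact hf₂
  have huz : ∀ i, QuadraticMap.polar (⇑Q) (u i) (z i) = 0 := by
    intro i
    cases i with
    | none => exact hpn
    | some t => exact hps t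
  refine ⟨u, z, ?_, ?_⟩
  · intro i
    refine ⟨hu i, huz i, ?_⟩
    cases i with
    | none => exact En_l
    | some t => exact Es_l t
  · intro i j hij
    -- the image of `P` is totally singular
    have hts : ∀ k : Option F, ∀ y ∈ P.map ((E Q (u k) (z k) : W ≃ₗ[F] W) : W →ₗ[F] W),
        Q y = 0 := by
      rintro k _ ⟨x, hx, rfl⟩
      rw [LinearEquiv.coe_coe, Q_E Q (hu k) (huz k)]
      exact hP x hx
    have hmem : ∀ k : Option F, ∀ x ∈ P,
        E Q (u k) (z k) x ∈ P.map ((E Q (u k) (z k) : W ≃ₗ[F] W) : W →ₗ[F] W) :=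
      fun k x hx => ⟨x, hx, rfl⟩
    have hkey : QuadraticMap.polar (⇑Q) (E Q (u i) (z i) e₂) (E Q (u j) (z j) e₃) = 0 := by
      apply polar_zero_of_ts Q (hts j)
      · rw [← hij]; exact hmem i e₂ he₂
      · exact hmem j e₃ he₃
    cases i with
    | none =>
      cases j with
      | none => rfl
      | some t' =>
        exfalso
        change QuadraticMap.polar (⇑Q) (E Q (e₂ + f₃) (f₂ - e₃) e₂) (E Q f₂ (t' • f₃) e₃) = 0 at hkey
        rw [En_e₂, Es_e₃, QuadraticMap.polar_neg_left, QuadraticMap.polar_sub_right,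
          QuadraticMap.polar_smul_right, hf₃e₃, hf₃f₂] at hkey
        simp at hkey
    | some t =>
      cases j with
      | none =>
        exfalso
        change QuadraticMap.polar (⇑Q) (E Q f₂ (t • f₃) e₂) (E Q (e₂ + f₃) (f₂ - e₃) e₃) = 0 at hkey
        rw [Es_e₂, En_e₃, QuadraticMap.polar_add_left, QuadraticMap.polar_smul_left, h22,
          hf₃f₂] at hkey
        simp at hkey
      | some t' =>
        change QuadraticMap.polar (⇑Q) (E Q f₂ (t • f₃) e₂) (E Q f₂ (t' • f₃) e₃) = 0 at hkey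
        rw [Es_e₂, Es_e₃, QuadraticMap.polar_add_left, QuadraticMap.polar_sub_right,
          QuadraticMap.polar_sub_right, QuadraticMap.polar_smul_left, QuadraticMap.polar_smul_right,
          QuadraticMap.polar_smul_right, QuadraticMap.polar_smul_left, he23, h22, hf₃e₃, hf₃f₂] at hkey
        have : t = t' := by
          have h : t - t' = 0 := by
            simp only [smul_eq_mul, mul_one, mul_zero, zero_sub, sub_zero] at hkey
            linear_combination hkey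
          exact sub_eq_zero.mp h
        rw [this]

end Cfsg.Agent.Lib.Helper96_T6_PLANES
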