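/-
helper79 — MIO-TIGHT6P (helper38's `mio_packages`, S2145): the tight case `dim W = 6`, plus type.
Assembled from the eight T6 packages (`t6p_packages`): Helper31_T6_NUM, Helper31_T6_SPAN,
Helper38_T6_RANK2, Helper53_T6_FAMA, Helper25_T6_FRAME, Helper96_T6_PLANES, Helper54_T6_FAMB,
Helper79_T6_FULL.  Main export: `tight6p`.
-/
import Mathlib
import Cfsg.Agent.Lib.Helper31_T6_NUM
import Cfsg.Agent.Lib.Helper31_T6_SPAN
import Cfsg.Agent.Lib.Helper38_T6_RANK2
import Cfsg.Agent.Lib.Helper53_T6_FAMA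
import Cfsg.Agent.Lib.Helper25_T6_FRAME
import Cfsg.Agent.Lib.Helper96_T6_PLANES
import Cfsg.Agent.Lib.Helper54_T6_FAMB
import Cfsg.Agent.Lib.Helper79_T6_FULL
import Cfsg.Agent.Lib.Helper96_MIO_TIGHT5

set_option autoImplicit false
set_option linter.unusedSectionVars false
set_option linter.unusedVariables false

namespace Cfsg.Agent.Lib.Helper79_MIO_TIGHT6P

open Module Cfsg.Agent.Lib.Helper44_QuadClass Cfsg.Agent.Lib.Helper14_OmegaSimple
  Cfsg.Agent.Lib.Helper38_MIODefs Cfsg.Agent.Lib.Helper38_MIODefs2 Cfsg.Agent.Lib.Helper96_T5Defs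
  Cfsg.Agent.Lib.Helper96_T5Fam Cfsg.Agent.Lib.Helper17_MIO_TR Cfsg.Agent.Lib.Helper78_MIO_MASS
  Cfsg.Agent.Lib.Helper24_T5_SPAN Cfsg.Agent.Lib.Helper31_T6_NUM Cfsg.Agent.Lib.Helper31_T6_SPAN
  Cfsg.Agent.Lib.Helper38_T6_RANK2 Cfsg.Agent.Lib.Helper53_T6_FAMA Cfsg.Agent.Lib.Helper25_T6_FRAME
  Cfsg.Agent.Lib.Helper96_T6_PLANES Cfsg.Agent.Lib.Helper54_T6_FAMB Cfsg.Agent.Lib.Helper79_T6_FULL

variable {F W : Type*} [Field F] [Fintype F] [AddCommGroup W] [Module F W] [FiniteDimensional F W]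

/-- `mult` is constant on the non-zero singular vectors -/
theorem mult_const6 (Q : QuadraticForm F W) (hQ : (QuadraticMap.polarBilin Q).Nondegenerate)
    (hdim : 5 ≤ finrank F W) {𝒪 : Type*} (C : 𝒪 → AddSubgroup W) (p : ℕ) (hS : SiegSym Q p C)
    {x y : W} (hx : x ≠ 0) (hy : y ≠ 0) (hQx : Q x = 0) (hQy : Q y = 0) : mult C x = mult C y :=
  tr_const Q hQ hdim (mult C) (fun u z hu huz x => mult_siegel Q C p hS hu huz x) hx hy
    (by rw [hQx, hQy])

/-- the hypothesis form of `planes ∘ exists_half_frame` -/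
theorem planes_of_frame (Q : QuadraticForm F W) (hQ : (QuadraticMap.polarBilin Q).Nondegenerate)
    (hdim : finrank F W = 6) {P : Submodule F W} (hP : IsTS Q 3 P) {l : W} (hl0 : l ≠ 0)
    (hlP : l ∈ P) :
    ∃ u z : Option F → W,
      (∀ i, Q (u i) = 0 ∧ QuadraticMap.polar (⇑Q) (u i) (z i) = 0 ∧ E Q (u i) (z i) l = l) ∧
      ∀ i j, P.map ((E Q (u i) (z i) : W ≃ₗ[F] W) : W →ₗ[F] W) =
        P.map ((E Q (u j) (z j) : W ≃ₗ[F] W) : W →ₗ[F] W) → i = j := by
  obtain ⟨e₂, e₃, f₂, f₃, he₂, he₃, hf₂, hf₃, hff, hlf₂, hlf₃, h22, h33, h23, h32⟩ :=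
    exists_half_frame Q hQ hdim hP hl0 hlP
  exact planes Q hP.2 hlP he₂ he₃ hf₂ hf₃ hff hlf₂ hlf₃ h22 h33 h23 h32

/-- at least `q + 1` TSNL members pass through a point of a rank 3 TSNL member -/
theorem card_le_mult_T6 (Q : QuadraticForm F W)
    (hQ : (QuadraticMap.polarBilin Q).Nondegenerate) (hdim : finrank F W = 6) {𝒪 : Type*}
    [Finite 𝒪] (C : 𝒪 → AddSubgroup W) (p : ℕ) (hS : SiegSym Q p C) {O : 𝒪}
    (hO : TSNL Q (C O)) (h3 : IsTS Q 3 (Submodule.span F ((C O : AddSubgroup W) : Set W))) {l : W}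
    (hl0 : l ≠ 0) (hl : l ∈ C O) :
    Fintype.card F + 1 ≤ mult (subFam C (TSNL Q)) l := by
  obtain ⟨g, hg, hinj⟩ := exists_plane_members Q hQ hdim
    (fun hP _ hl0 hlP => planes_of_frame Q hQ hdim hP hl0 hlP) C p hS hO h3 hl0 hl
  have hinj' : Function.Injective (fun i : Option F =>
      (⟨⟨g i, (hg i).1⟩, (hg i).2.1⟩ :
        {O' : {O : 𝒪 // TSNL Q (C O)} // l ∈ subFam C (TSNL Q) O'})) := by
    intro i j hij
    have h1 := congrArg (fun O' => O'.1.1) hij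
    simp only at h1
    exact hinj i j (by rw [h1])
  have := Nat.card_le_card_of_injective _ hinj'
  rwa [Nat.card_eq_fintype_card, Fintype.card_option] at this

/-- if at most `q + 1` members pass through `l`, a member through `l` inside the span of a rank 3
TSNL member `O₀ ∋ l` is `O₀` -/
theorem member_unique6 (Q : QuadraticForm F W)
    (hQ : (QuadraticMap.polarBilin Q).Nondegenerate) (hdim : finrank F W = 6) {𝒪 : Type*}
    [Finite 𝒪] (C : 𝒪 → AddSubgroup W) (p : ℕ) (hS : SiegSym Q p C) {O₀ : 𝒪}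
    (hO₀ : TSNL Q (C O₀)) (h3 : IsTS Q 3 (Submodule.span F ((C O₀ : AddSubgroup W) : Set W)))
    {l : W} (hl0 : l ≠ 0) (hl : l ∈ C O₀)
    (hle : mult C l ≤ Fintype.card F + 1) {O' : 𝒪} (hO' : l ∈ C O')
    (hsub : ∀ x ∈ C O', x ∈ Submodule.span F ((C O₀ : AddSubgroup W) : Set W)) : O' = O₀ := by
  obtain ⟨g, hg, hinj⟩ := exists_plane_members Q hQ hdim
    (fun hP _ hl0 hlP => planes_of_frame Q hQ hdim hP hl0 hlP) C p hS hO₀ h3 hl0 hl
  have hinj' : Function.Injective (fun i : Option F =>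
      (⟨g i, (hg i).2.1⟩ : {O : 𝒪 // l ∈ C O})) := by
    intro i j hij
    have h1 := congrArg Subtype.val hij
    simp only at h1
    exact hinj i j (by rw [h1])
  have hbij := hinj'.bijective_of_nat_card_le (by
    rw [Nat.card_eq_fintype_card (α := Option F), Fintype.card_option]
    exact hle)
  obtain ⟨i, hi⟩ := hbij.2 ⟨O₀, hl⟩
  obtain ⟨j, hj⟩ := hbij.2 ⟨O', hO'⟩
  have hi' : g i = O₀ := congrArg Subtype.val hi
  have hj' : g j = O' := congrArg Subtype.val hj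
  have hspan : Submodule.span F ((C (g j) : AddSubgroup W) : Set W) =
      Submodule.span F ((C (g i) : AddSubgroup W) : Set W) := by
    apply Submodule.eq_of_le_of_finrank_eq
    · rw [Submodule.span_le, hj', hi']
      intro x hx
      exact hsub x hx
    · rw [(hg j).2.2.1, (hg i).2.2.1]
  have hij : j = i := hinj j i hspan
  rw [← hi', ← hj', hij]

/-- the cardinality of a t.s. 3-space -/
theorem card_of_isTS3 (Q : QuadraticForm F W) {T : Submodule F W} (hT : IsTS Q 3 T) :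
    Nat.card T = Fintype.card F ^ 3 := by
  have : Finite W := Module.finite_of_finite F
  have : Fintype T := Fintype.ofFinite T
  rw [Nat.card_eq_fintype_card, Module.card_eq_pow_finrank (K := F) (V := T), hT.1]

open Cfsg.Agent.Lib.Helper96_MIO_TIGHT5 in
/-- **MIO-TIGHT6P**: the tight case `dim W = 6`, plus type. -/
theorem tight6p (Q : QuadraticForm F W)
    (hQ : (QuadraticMap.polarBilin Q).Nondegenerate)
    (hdim : finrank F W = 6) (hq : 4 ≤ Fintype.card F)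
    {𝒪 : Type*} [Fintype 𝒪] (C : 𝒪 → AddSubgroup W) (p : ℕ) (hp : p.Prime) [CharP F p]
    (hS : SiegSym Q p C) (hT : TorSym Q C)
    (hZ : Nat.card {x : W // x ≠ 0 ∧ Q x = 0} =
      Fintype.card F ^ 5 + Fintype.card F ^ 3 - Fintype.card F ^ 2 - 1)
    (hL : ∀ c : F, c ≠ 0 → Fintype.card F ^ 5 - Fintype.card F ^ 2 ≤ Nat.card {x : W // Q x = c})
    (hmid : ∀ O, (∃ x : W, ∀ y ∈ C O, ∃ a : F, y = a • x) ∨ (∀ y ∈ C O, Q y = 0))
    (hlt : ∑ O, Nat.card (C O) <
      (Fintype.card F ^ 4 - 1) * (Fintype.card F ^ 3 + 1) / (Fintype.card F - 1)) :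
    Out3 F C ∨ Out5 Q C 3 ((Fintype.card F + 1) * (Fintype.card F ^ 2 + 1))
      ((Fintype.card F ^ 4 - 1) * (Fintype.card F ^ 3 + 1) / (Fintype.card F - 1)) := by
  classical
  have : Finite W := Module.finite_of_finite F
  have hdim5 : 5 ≤ finrank F W := by omega
  have hcard3 : ∀ T : Submodule F W, IsTS Q 3 T → Nat.card T.toAddSubgroup = Fintype.card F ^ 3 :=
    fun T hT => card_of_isTS3 Q hT
  obtain ⟨q, hqdef⟩ : ∃ q, q = Fintype.card F := ⟨_, rfl⟩
  rw [← hqdef] at hq hZ hL hlt hcard3 ⊢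
  obtain ⟨N, hN⟩ : ∃ N, N = (q + 1) * (q ^ 2 + 1) * (q ^ 3 + 1) := ⟨_, rfl⟩
  rw [T6Num.div_eq hq, ← hN] at hlt ⊢
  by_cases hT0 : ∃ O, TSNL Q (C O)
  swap
  · left
    intro O
    rcases hmid O with h | h
    · exact h
    · by_contra hno
      exact hT0 ⟨O, h, hno⟩
  right
  obtain ⟨O₁, hO₁⟩ := hT0
  -- the number of non-zero singular vectors
  have hq2 : q ^ 2 + 1 ≤ q ^ 5 + q ^ 3 := by
    have h1 : q ^ 2 ≤ q ^ 5 := Nat.pow_le_pow_right (by omega) (by norm_num)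
    have h2 : 1 ≤ q ^ 3 := Nat.one_le_pow 3 q (by omega)
    omega
  obtain ⟨s, hs⟩ : ∃ s, s + 1 + q ^ 2 = q ^ 5 + q ^ 3 := ⟨q ^ 5 + q ^ 3 - q ^ 2 - 1, by omega⟩
  have hZ' : Nat.card {x : W // x ≠ 0 ∧ Q x = 0} = s := by rw [hZ]; omega
  -- the level sets
  obtain ⟨ℓ, hℓ⟩ : ∃ ℓ, ℓ + q ^ 2 = q ^ 5 := ⟨q ^ 5 - q ^ 2, by
    have : q ^ 2 ≤ q ^ 5 := Nat.pow_le_pow_right (by omega) (by norm_num)
    omega⟩
  have hL' : ∀ c : F, c ≠ 0 → ℓ ≤ Nat.card {x : W // Q x = c} := by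
    intro c hc
    have := hL c hc
    omega
  have hℓpos : 0 < ℓ := by
    have h1 : q ^ 2 < q ^ 5 := Nat.pow_lt_pow_right (by omega) (by norm_num)
    omega
  -- a non-singular vector
  obtain ⟨lns, hlns⟩ : ∃ l : W, Q l ≠ 0 := by
    have h1 : 0 < Nat.card {x : W // Q x = (1 : F)} := lt_of_lt_of_le hℓpos (hL' 1 one_ne_zero)
    obtain ⟨⟨x, hx⟩⟩ := (Nat.card_pos_iff.1 h1).1
    exact ⟨x, by rw [hx]; exact one_ne_zero⟩
  have hκ : ∀ c : F, c ≠ 0 →
      (q - 1) / 2 ≤ Nat.card {c' : F // ∃ t : F, t ≠ 0 ∧ c' = t ^ 2 * c} := by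
    intro c hc
    rw [hqdef]
    exact card_sq_class c hc
  have hκ2 : 2 * ((q - 1) / 2) + 2 ≥ q := by omega
  -- a non-zero vector of the TSNL member
  obtain ⟨y₁, hy₁, hy₁0⟩ := exists_ne_zero_of_tsnl Q hO₁
  have hQy₁ : Q y₁ = 0 := hO₁.1 y₁ hy₁
  -- the TSNL subfamily
  have hST : SiegSym Q p (subFam C (TSNL Q)) := sub_siegSym Q C p hS _ (tsnl_siegInv Q)
  -- the upper bound
  have hmass := fun (l₀ : W) (h0 : l₀ ≠ 0) (hQ0 : Q l₀ = 0) =>
    mass_lower Q hQ hdim5 C p hS hT s ℓ ((q - 1) / 2) hZ' hL' hκ h0 hQ0 hlns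
  have hle : ∀ l : W, l ≠ 0 → Q l = 0 → mult C l ≤ q + 1 := by
    intro l hl0 hl
    have h1 := hmass l hl0 hl
    exact T6Num.n0_le hq hs hN (m := Fintype.card 𝒪 + mult C lns * ((q - 1) / 2 * ℓ))
      (by linarith)
  -- every TSNL member has rank 3
  have hrank : ∀ O, TSNL Q (C O) →
      IsTS Q 3 (Submodule.span F ((C O : AddSubgroup W) : Set W)) := by
    intro O hO
    rcases span_ts6 Q hQ hdim (C O) hO with h2 | h3
    · exfalso
      obtain ⟨l, hl, hl0⟩ := exists_ne_zero_of_tsnl Q hO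
      have h1 := mult_ge_of_rank2 Q hQ hdim
        (fun hl0 hl hx hlx hind => rank2_many Q hQ hdim hl0 hl hx hlx hind) C p hS hO h2 hl0 hl
      have h3 := hle l hl0 (hO.1 l hl)
      rw [← hqdef] at h1
      nlinarith
    · exact h3
  have hge1 : q + 1 ≤ mult (subFam C (TSNL Q)) y₁ := by
    rw [hqdef]
    exact card_le_mult_T6 Q hQ hdim C p hS hO₁ (hrank O₁ hO₁) hy₁0 hy₁
  have hgeT : ∀ l : W, l ≠ 0 → Q l = 0 → q + 1 ≤ mult (subFam C (TSNL Q)) l := by
    intro l hl0 hl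
    rw [mult_const6 Q hQ hdim5 _ p hST hl0 hy₁0 hl hQy₁]
    exact hge1
  have hge : ∀ l : W, l ≠ 0 → Q l = 0 → q + 1 ≤ mult C l := fun l hl0 hl =>
    le_trans (hgeT l hl0 hl) (mult_subFam_le C _ l)
  have heq : ∀ l : W, l ≠ 0 → Q l = 0 → mult C l = q + 1 := fun l hl0 hl =>
    le_antisymm (hle l hl0 hl) (hge l hl0 hl)
  have heqT : ∀ l : W, l ≠ 0 → Q l = 0 → mult (subFam C (TSNL Q)) l = q + 1 := fun l hl0 hl =>
    le_antisymm (le_trans (mult_subFam_le C _ l) (hle l hl0 hl)) (hgeT l hl0 hl)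
  -- all members are totally singular
  have hts : ∀ O, ∀ x ∈ C O, Q x = 0 := by
    intro O x hx
    by_contra hne
    have h1 := mass_lower Q hQ hdim5 C p hS hT s ℓ ((q - 1) / 2) hZ' hL' hκ hy₁0 hQy₁ hne
    rw [heq y₁ hy₁0 hQy₁] at h1
    have hk : 1 ≤ mult C x := by
      unfold mult
      have : Nonempty {O : 𝒪 // x ∈ C O} := ⟨⟨O, hx⟩⟩
      exact Nat.card_pos
    exact T6Num.no_ns hq hs hℓ hκ2 hN hk (m := Fintype.card 𝒪) (by linarith)
  have hM : ∑ O, Nat.card (C O) = Fintype.card 𝒪 + (q + 1) * s := by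
    rw [mass_ts Q hQ hdim5 C p hS s hZ' hy₁0 hQy₁ hts, heq y₁ hy₁0 hQy₁]
  -- every non-trivial member is TSNL
  have hnt : ∀ O, C O ≠ ⊥ → TSNL Q (C O) := by
    intro O hO
    obtain ⟨x, hx, hx0⟩ : ∃ x ∈ C O, x ≠ 0 := by
      by_contra hcon
      apply hO
      rw [eq_bot_iff]
      intro y hy
      by_contra hy0
      exact hcon ⟨y, hy, fun h => hy0 (by rw [h]; exact (⊥ : AddSubgroup W).zero_mem)⟩
    have hQx := hts O x hx
    have hinj : Function.Injective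
        (fun O' : {O' : {O : 𝒪 // TSNL Q (C O)} // x ∈ subFam C (TSNL Q) O'} =>
          (⟨O'.1.1, O'.2⟩ : {O : 𝒪 // x ∈ C O})) := by
      intro A B hAB
      apply Subtype.ext
      apply Subtype.ext
      have h := congrArg Subtype.val hAB
      exact h
    have hbij := hinj.bijective_of_nat_card_le (by
      show mult C x ≤ mult (subFam C (TSNL Q)) x
      rw [heq x hx0 hQx, heqT x hx0 hQx])
    obtain ⟨A, hA⟩ := hbij.2 ⟨O, hx⟩
    have hA' : A.1.1 = O := congrArg Subtype.val hA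
    rw [← hA']
    exact A.1.2
  -- uniqueness of the member through `l` inside a plane
  have huniq : ∀ O, TSNL Q (C O) → ∀ l ∈ C O, l ≠ 0 → ∀ O', l ∈ C O' →
      (∀ x ∈ C O', x ∈ Submodule.span F ((C O : AddSubgroup W) : Set W)) → O' = O := by
    intro O hO l hl hl0 O' hO' hsub
    exact member_unique6 Q hQ hdim C p hS hO (hrank O hO) hl0 hl
      (by rw [← hqdef]; exact hle l hl0 (hts O l hl)) hO' hsub
  -- fullness
  have hfull : ∀ O, TSNL Q (C O) →
      C O = (Submodule.span F ((C O : AddSubgroup W) : Set W)).toAddSubgroup := fun O hO =>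
    full_of_unique Q hQ hdim C p hS hO (huniq O hO)
  have hfullc : ∀ O, TSNL Q (C O) → Nat.card (C O) = q ^ 3 := by
    intro O hO
    have h1 := hcard3 _ (hrank O hO)
    rw [← hfull O hO] at h1
    exact h1
  -- the count of the TSNL members
  have hMT := mass_ts Q hQ hdim5 (subFam C (TSNL Q)) p hST s hZ' hy₁0 hQy₁
    (fun O x hx => O.2.1 x hx)
  rw [heqT y₁ hy₁0 hQy₁] at hMT
  have hMT' : ∑ O, Nat.card (subFam C (TSNL Q) O) = Fintype.card {O : 𝒪 // TSNL Q (C O)} * q ^ 3 := by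
    rw [Finset.sum_congr rfl (fun O _ => hfullc O.1 O.2), Finset.sum_const, smul_eq_mul,
      Finset.card_univ]
  have ht := T6Num.t_eq hq hs (hMT'.symm.trans hMT)
  -- the partition of the index set
  have hpart : Fintype.card 𝒪 = Nat.card {O : 𝒪 // C O = ⊥} + Fintype.card {O : 𝒪 // TSNL Q (C O)} := by
    have h1 := Fintype.card_subtype_compl (fun O : 𝒪 => TSNL Q (C O))
    have h2 : Fintype.card {O : 𝒪 // ¬ TSNL Q (C O)} = Nat.card {O : 𝒪 // C O = ⊥} := by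
      rw [Nat.card_eq_fintype_card]
      apply Fintype.card_congr
      apply Equiv.subtypeEquivRight
      intro O
      constructor
      · intro h
        by_contra hne
        exact h (hnt O hne)
      · intro h hO
        rw [h] at hO
        exact not_tsnl_bot Q hO
    have h3 := Fintype.card_subtype_le (fun O : 𝒪 => TSNL Q (C O))
    omega
  refine ⟨?_, ?_, ?_⟩
  · intro O
    by_cases hO : C O = ⊥
    · exact Or.inl hO
    · right
      have hO' := hnt O hO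
      exact ⟨_, hrank O hO', hfull O hO'⟩
  · intro O O' hCC hO
    have hO1 := hnt O hO
    obtain ⟨l, hl, hl0⟩ := exists_ne_zero_of_tsnl Q hO1
    have h1 : O' = O := huniq O hO1 l hl hl0 O' (by rw [← hCC]; exact hl) (by
      intro x hx
      rw [← hCC] at hx
      exact Submodule.subset_span hx)
    exact h1.symm
  · exact T6Num.final_eq hq hs hN hM hpart ht

end Cfsg.Agent.Lib.Helper79_MIO_TIGHT6P
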