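import Mathlib
import Cfsg.Agent.Lib.Helper38_MIODefs
import Cfsg.Agent.Lib.Helper38_MIODefs2
import Cfsg.Agent.Lib.Helper38_MIOMinus
import Cfsg.Agent.Lib.Helper91_MIO_CNTPLUS
import Cfsg.Agent.Lib.Helper28_MIO_NUMPLUS
import Cfsg.Agent.Lib.Helper53_MIO_KT1P
import Cfsg.Agent.Lib.Helper79_MIO_TIGHT6P

set_option autoImplicit false

/-!
S2145 (helper38): every proper subgroup of `T Q = Ω⁺_{2m}(q)`, `m ≥ 4`, `q ≥ 4`, has index at least the number of
singular points.  Assembly on top of the MIO packages.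
-/

namespace Cfsg.Agent.Lib.Helper38_MIOPlus

open Module Cfsg.Agent.Lib.Helper94_OrthSmall Cfsg.Agent.Lib.Helper44_QuadClass
  Cfsg.Agent.Lib.Helper14_OmegaSimple Cfsg.Agent.Lib.Helper38_MIODefs
  Cfsg.Agent.Lib.Helper38_MIODefs2
  Cfsg.Agent.Lib.Helper38_MIOCore Cfsg.Agent.Lib.Helper38_MIOMain Cfsg.Agent.Lib.Helper38_MIOMinus
  Cfsg.Agent.Lib.Helper20_MIO_FAM
  Cfsg.Agent.Lib.Helper52_MIO_SUMX Cfsg.Agent.Lib.Helper52_MIO_SYMT Cfsg.Agent.Lib.Helper58_MIO_GT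
  Cfsg.Agent.Lib.Helper20_MIO_NORM Cfsg.Agent.Lib.Helper69_MIO_SYMS
  Cfsg.Agent.Lib.Helper74_MIO_ANISO8 Cfsg.Agent.Lib.Helper91_MIO_CNTPLUS
  Cfsg.Agent.Lib.Helper28_MIO_NUMPLUS Cfsg.Agent.Lib.Helper54_MIO_KT2
  Cfsg.Agent.Lib.Helper53_MIO_KT1P Cfsg.Agent.Lib.Helper79_MIO_TIGHT6P

universe uF uV

variable {F : Type uF} {V : Type uV} [Field F] [Fintype F] [AddCommGroup V] [Module F V]
  [FiniteDimensional F V]

/-- integrality kill of the tight cases (general deficiency `r`) -/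
lemma arith5 (r N f M φ : ℕ) (hf1 : 1 ≤ f) (hMN : M < N) (h : M + r = N + f)
    (hint : f * N = M * φ) (hN : r * r < 4 * (N - r)) : False := by
  obtain ⟨e, he⟩ : ∃ e, N = M + e := ⟨N - M, by omega⟩
  have he1 : 1 ≤ e := by omega
  have hfe : f + e = r := by omega
  have hdvd : M ∣ f * e := by
    have h1 : f * N = f * M + f * e := by rw [he]; ring
    have h2 : M ∣ f * M + f * e := by rw [← h1, hint]; exact dvd_mul_right _ _
    exact (Nat.dvd_add_right (dvd_mul_left M f)).mp h2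
  have hpos : 0 < f * e := Nat.mul_pos hf1 he1
  have hle := Nat.le_of_dvd hpos hdvd
  have h4 : 4 * (f * e) ≤ r * r := by
    rw [← hfe]
    nlinarith [sq_nonneg ((f : ℤ) - e), sq_nonneg (f - e)]
  have hMr : N - r ≤ M := by omega
  omega


section wrappers

variable {W : Type*} [AddCommGroup W] [Module F W] [FiniteDimensional F W]
  {𝒪 : Type*} [Fintype 𝒪] (C : 𝒪 → AddSubgroup W)

theorem e1' (Q : QuadraticForm F W) (hQ : (QuadraticMap.polarBilin Q).Nondegenerate)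
    (hdim : 5 ≤ finrank F W) (p : ℕ) (hp : p.Prime)
    (hS : SiegSym Q p C) (hT : TorSym Q C) (s ℓ κ NW N : ℕ)
    (hZ : Nat.card {x : W // x ≠ 0 ∧ Q x = 0} = s)
    (hL : ∀ c : F, c ≠ 0 → ℓ ≤ Nat.card {x : W // Q x = c})
    (hκ : ∀ c : F, c ≠ 0 → κ ≤ Nat.card {c' : F // ∃ t : F, t ≠ 0 ∧ c' = t ^ 2 * c})
    (d : ℕ) (hd : finrank F W = d)
    (num : Num (Fintype.card F) p d s ℓ κ NW N)
    (O₀ : 𝒪) (htop : C O₀ = ⊤) (hlt : ∑ O, Nat.card (C O) < N) :
    Out1 C ∨ Out2 C N := by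
  subst hd
  exact e1 C Q hQ hdim p hp hS hT s ℓ κ NW N hZ hL hκ num O₀ htop hlt

theorem e0_mid' (Q : QuadraticForm F W) (hQ : (QuadraticMap.polarBilin Q).Nondegenerate)
    (hinvns : ∀ (S : AddSubgroup W) {l : W}, l ∈ S → Q l ≠ 0 →
      (∀ u z : W, Q u = 0 → QuadraticMap.polar (⇑Q) u z = 0 → E Q u z l = l →
        ∀ x ∈ S, E Q u z x ∈ S) →
      (∀ x ∈ S, ∃ a : F, x = a • l) ∨ (∀ x : W, QuadraticMap.polar (⇑Q) l x = 0 → x ∈ S))
    (hdim : 5 ≤ finrank F W) (p : ℕ) (hp : p.Prime)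
    (hS : SiegSym Q p C) (hT : TorSym Q C) (s ℓ κ NW N : ℕ)
    (hZ : Nat.card {x : W // x ≠ 0 ∧ Q x = 0} = s)
    (hL : ∀ c : F, c ≠ 0 → ℓ ≤ Nat.card {x : W // Q x = c})
    (hκ : ∀ c : F, c ≠ 0 → κ ≤ Nat.card {c' : F // ∃ t : F, t ≠ 0 ∧ c' = t ^ 2 * c})
    (d : ℕ) (hd : finrank F W = d)
    (num : Num (Fintype.card F) p d s ℓ κ NW N)
    (hnt : ∀ O, C O ≠ ⊤) (hlt : ∑ O, Nat.card (C O) < N) :
    ∀ O, (∃ x : W, ∀ y ∈ C O, ∃ a : F, y = a • x) ∨ (∀ y ∈ C O, Q y = 0) := by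
  subst hd
  exact e0_mid C Q hQ hinvns hdim p hp hS hT s ℓ κ NW N hZ hL hκ num hnt hlt

end wrappers

theorem main_plus_trans (Q : QuadraticForm F V)
    (hQ : (QuadraticMap.polarBilin Q).Nondegenerate)
    (m : ℕ) (hm : 4 ≤ m) (hdim : Module.finrank F V = 2 * m)
    (hq : 4 ≤ Fintype.card F)
    (hcomm : ⁅oG (⇑Q), oG (⇑Q)⁆ ≤ T Q)
    (hZ : Nat.card {x : V // Q x = 0} =
      Fintype.card F ^ (2 * m - 1) + Fintype.card F ^ m - Fintype.card F ^ (m - 1))
    (hL : ∀ c : F, c ≠ 0 →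
      Nat.card {x : V // Q x = c} = Fintype.card F ^ (2 * m - 1) - Fintype.card F ^ (m - 1))
    {X : Type*} [MulAction ↥(T Q) X] [Finite X] [MulAction.IsPretransitive ↥(T Q) X]
    (hX : 1 < Nat.card X) :
    (Fintype.card F ^ m - 1) * (Fintype.card F ^ (m - 1) + 1) / (Fintype.card F - 1) ≤
      Nat.card X := by
  by_contra hlt
  push Not at hlt
  have hdim5 : 5 ≤ finrank F V := by omega
  have hdim7 : 7 ≤ finrank F V := by omega
  obtain ⟨v, hv0, hv⟩ := exists_singular Q (by omega : 3 ≤ finrank F V)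
  obtain ⟨v', hv', hvv'⟩ := exists_hyperbolic_partner Q hQ hv0 hv
  have hdW := finrank_perp hv hv' hvv'
  have hdW' : finrank F ↥(perp Q v v') = 2 * (m - 1) := by omega
  have hQW := nondegenerate_perp hQ hv hv' hvv'
  obtain ⟨p, κ, hp, hpc, hpκ, hκ⟩ := exists_char_data (F := F) hq
  obtain ⟨𝒪, h𝒪, ⟨D⟩⟩ := exists_famData Q hQ hdim5 hv hv' hvv' (X := X)
  have hsum := sum_card Q D
  have hS := siegSym_fam Q hQ hdim5 hv hv' hvv' D p
  have hT : TorSym (Qp Q v v') D.C := torSym_fam_of Q D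
    (fun t ht => exists_torus Q hQ hdim7 hcomm hv hv' hvv' t ht)
    (fun g hg t ht hgv ψ hψ => norm_perm Q hQ hdim5 hv hv' hvv' D g hg t ht hgv ψ hψ)
  obtain ⟨hZW0, hZW, hLW⟩ := counts_perp_plus Q hv hv' hvv' m (by omega) hdW' hZ hL
  have num := num_plus (Fintype.card F) p (m - 1) κ hq (by omega) hpκ
  have hm1 : m - 1 + 1 = m := by omega
  rw [hm1] at num
  have hdW5 : 5 ≤ finrank F ↥(perp Q v v') := by omega
  have hinvns : ∀ (S : AddSubgroup ↥(perp Q v v')) {l : ↥(perp Q v v')}, l ∈ S →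
      Qp Q v v' l ≠ 0 →
      (∀ u z : ↥(perp Q v v'), Qp Q v v' u = 0 → QuadraticMap.polar (⇑(Qp Q v v')) u z = 0 →
        E (Qp Q v v') u z l = l → ∀ x ∈ S, E (Qp Q v v') u z x ∈ S) →
      (∀ x ∈ S, ∃ a : F, x = a • l) ∨
        (∀ x : ↥(perp Q v v'), QuadraticMap.polar (⇑(Qp Q v v')) l x = 0 → x ∈ S) :=
    fun S _ hl hQl hinv => invns_all (Qp Q v v') hQW hdW5 S hl hQl hinv
  -- the number of singular points
  have hq2 : 2 ≤ Fintype.card F := by omega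
  have hdvd : (Fintype.card F - 1) ∣ (Fintype.card F ^ m - 1) * (Fintype.card F ^ (m - 1) + 1) :=
    Dvd.dvd.mul_right (sub_one_dvd_pow _ _) _
  have hpts : Nat.card {x : V // x ≠ 0 ∧ Q x = 0} = (Fintype.card F - 1) *
      ((Fintype.card F ^ m - 1) * (Fintype.card F ^ (m - 1) + 1) / (Fintype.card F - 1)) := by
    rw [Nat.mul_div_cancel' hdvd]
    have h5 := card_ne_zero_sing Q
    rw [hZ] at h5
    obtain ⟨a, ha⟩ : ∃ a, a = Fintype.card F ^ (m - 1) := ⟨_, rfl⟩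
    have ha1 : 1 ≤ a := by rw [ha]; exact Nat.one_le_pow _ _ (by omega)
    have hqm : Fintype.card F ^ m = Fintype.card F * a := by
      rw [ha, ← pow_succ', hm1]
    have h2m : Fintype.card F ^ (2 * m - 1) = Fintype.card F * a * a := by
      rw [ha, mul_assoc, ← pow_add, ← pow_succ']
      congr 1
      omega
    rw [← ha, hqm, h2m] at h5
    rw [← ha, hqm]
    have hle : a ≤ Fintype.card F * a := Nat.le_mul_of_pos_left _ (by omega)
    have e : (Fintype.card F * a - 1) * (a + 1) + (a + 1) = Fintype.card F * a * (a + 1) := by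
      obtain ⟨b', hb'⟩ : ∃ b', Fintype.card F * a = b' + 1 := ⟨Fintype.card F * a - 1, by omega⟩
      rw [hb', Nat.add_sub_cancel]; ring
    have e2 : Fintype.card F * a * (a + 1) = Fintype.card F * a * a + Fintype.card F * a := by ring
    omega
  have hN : Fintype.card F ^ finrank F ↥(perp Q v v') <
      (Fintype.card F ^ m - 1) * (Fintype.card F ^ (m - 1) + 1) / (Fintype.card F - 1) - 1 := by
    have h1 := num.e2
    have h2 := num.n2
    rw [hdW']
    clear hpts hZW hZW0 hLW hlt hZ hL hsum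
    generalize (Fintype.card F ^ m - 1) * (Fintype.card F ^ (m - 1) + 1) / (Fintype.card F - 1) = N'
      at h1 ⊢
    generalize Fintype.card F ^ (2 * (m - 1)) = qd at h1 ⊢
    generalize Fintype.card F ^ (2 * (m - 1) - 1) + Fintype.card F ^ (m - 1) -
      Fintype.card F ^ (m - 1 - 1) - 1 = s' at h1 h2
    generalize s' / (Fintype.card F - 1) = NW' at h1 h2
    omega
  by_cases hm4 : m = 4
  swap
  · -- anisotropic planes available
    have hP : HasAniso (Qp Q v v') := aniso_ge8 (Qp Q v v') hQW (by omega)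
    have hcore := core_aniso D.C (Qp Q v v') hQW hdW5 hP hinvns p hp hS hT _ _ _ _ _ hZW
      (fun c hc => (hLW c hc).ge) hκ _ hdW' num (by rw [hsum]; exact hlt)
    exact kills123 Q hQ hdim7 hcomm hq hv hv' hvv' hX D _ hpts hN hcore
  · -- the tight case
    subst hm4
    have hlt' : ∑ O, Nat.card (D.C O) <
        (Fintype.card F ^ 4 - 1) * (Fintype.card F ^ (4 - 1) + 1) / (Fintype.card F - 1) := by
      rw [hsum]; exact hlt
    by_cases htop : ∃ O₀, D.C O₀ = ⊤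
    · obtain ⟨O₀, hO₀⟩ := htop
      have h12 := e1' D.C (Qp Q v v') hQW hdW5 p hp hS hT _ _ _ _ _ hZW
        (fun c hc => (hLW c hc).ge) hκ _ hdW' num O₀ hO₀ hlt'
      refine kills123 Q hQ hdim7 hcomm hq hv hv' hvv' hX D _ hpts hN ?_
      rcases h12 with h | h
      · exact Or.inl h
      · exact Or.inr (Or.inl h)
    · push Not at htop
      have hmid := e0_mid' D.C (Qp Q v v') hQW hinvns hdW5 p hp hS hT _ _ _ _ _ hZW
        (fun c hc => (hLW c hc).ge) hκ _ hdW' num htop hlt'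
      have h35 := tight6p (Qp Q v v') hQW (by omega) hq D.C p hp hS hT hZW
        (fun c hc => (hLW c hc).ge) hmid hlt'
      rcases h35 with h3 | h5
      · exact kills123 Q hQ hdim7 hcomm hq hv hv' hvv' hX D _ hpts hN (Or.inr (Or.inr h3))
      · by_cases hne : ∃ O, D.C O ≠ ⊥
        · have hf1 := kt1p Q hQ (by omega) hcomm hq hv hv' hvv' D _ _ h5 hne
          obtain ⟨φ, hφ⟩ := kt2 Q hQ hdim5 hv hv' hvv' D _ hpts
          obtain ⟨-, -, hc⟩ := h5
          rw [hsum] at hc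
          refine arith5 _ _ _ _ φ hf1 hlt hc hφ ?_
          -- (q+1)(q²+1) squared is small compared with N
          obtain ⟨q1, hq1⟩ : ∃ q1, Fintype.card F = q1 + 1 := ⟨Fintype.card F - 1, by omega⟩
          rw [hq1]
          have h7 : q1 + 1 - 1 = q1 := by omega
          rw [h7]
          have hq13 : 3 ≤ q1 := by omega
          have h8 : ((q1 + 1) ^ 4 - 1) * ((q1 + 1) ^ (4 - 1) + 1) =
              q1 * ((q1 + 1 + 1) * ((q1 + 1) ^ 2 + 1) * ((q1 + 1) ^ 3 + 1)) := by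
            have : (q1 + 1) ^ 4 = q1 * ((q1 + 1 + 1) * ((q1 + 1) ^ 2 + 1)) + 1 := by ring
            rw [this, Nat.add_sub_cancel]
            ring
          rw [h8, Nat.mul_div_cancel_left _ (by omega : 0 < q1)]
          have h10 : (q1 + 1 + 1) * ((q1 + 1) ^ 2 + 1) * ((q1 + 1) ^ 3 + 1) -
              (q1 + 1 + 1) * ((q1 + 1) ^ 2 + 1) =
              (q1 + 1 + 1) * ((q1 + 1) ^ 2 + 1) * (q1 + 1) ^ 3 := by
            have : (q1 + 1 + 1) * ((q1 + 1) ^ 2 + 1) * ((q1 + 1) ^ 3 + 1) =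
                (q1 + 1 + 1) * ((q1 + 1) ^ 2 + 1) * (q1 + 1) ^ 3 +
                  (q1 + 1 + 1) * ((q1 + 1) ^ 2 + 1) := by ring
            omega
          rw [h10]
          have h11 : (q1 + 1 + 1) * ((q1 + 1) ^ 2 + 1) < 4 * (q1 + 1) ^ 3 := by nlinarith
          calc (q1 + 1 + 1) * ((q1 + 1) ^ 2 + 1) * ((q1 + 1 + 1) * ((q1 + 1) ^ 2 + 1))
              < (q1 + 1 + 1) * ((q1 + 1) ^ 2 + 1) * (4 * (q1 + 1) ^ 3) :=
                Nat.mul_lt_mul_of_pos_left h11 (by positivity)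
            _ = 4 * ((q1 + 1 + 1) * ((q1 + 1) ^ 2 + 1) * (q1 + 1) ^ 3) := by ring
        · push Not at hne
          refine kills123 Q hQ hdim7 hcomm hq hv hv' hvv' hX D _ hpts hN (Or.inr (Or.inr ?_))
          intro O
          refine ⟨0, fun y hy => ⟨0, ?_⟩⟩
          rw [hne O] at hy
          rw [zero_smul]
          exact hy

/-- PLUS TYPE, dimension 2m >= 8, q >= 4. -/
theorem main_plus (Q : QuadraticForm F V)
    (hQ : (QuadraticMap.polarBilin Q).Nondegenerate)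
    (m : ℕ) (hm : 4 ≤ m) (hdim : Module.finrank F V = 2 * m)
    (hq : 4 ≤ Fintype.card F)
    (hcomm : ⁅oG (⇑Q), oG (⇑Q)⁆ ≤ T Q)
    (hZ : Nat.card {x : V // Q x = 0} =
      Fintype.card F ^ (2 * m - 1) + Fintype.card F ^ m - Fintype.card F ^ (m - 1))
    (hL : ∀ c : F, c ≠ 0 →
      Nat.card {x : V // Q x = c} = Fintype.card F ^ (2 * m - 1) - Fintype.card F ^ (m - 1))
    (H : Subgroup (V ≃ₗ[F] V)) (hH : H ≤ T Q) (hne : H ≠ T Q) :
    (Fintype.card F ^ m - 1) * (Fintype.card F ^ (m - 1) + 1) / (Fintype.card F - 1) ≤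
      H.relIndex (T Q) :=
  relIndex_of_trans Q _
    (fun _ _ _ _ hX => main_plus_trans Q hQ m hm hdim hq hcomm hZ hL hX) H hH hne

end Cfsg.Agent.Lib.Helper38_MIOPlus
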