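import Mathlib
import Cfsg.Agent.Lib.Helper29_ODDefs
import Cfsg.Agent.Lib.Helper94_OrthRefl
import Cfsg.Agent.Lib.Helper38_OD2_A1

/-!
# OD2-A2 (helper38, rows S5692/S5694): characteristic-free port of helper50's `Helper50_OD_A2`

If `Edge i j` and `Edge j i` hold for one pair of blocks, then (using the 3-cycles of blocks in
`Ω`) all pairs of blocks are edges, the full Siegel group at every singular vector of a block is in
`M`, and hence `M` contains all Siegel elements.
-/

set_option autoImplicit false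

namespace Cfsg.Agent.Lib.Helper38_OD2_A2

open Module Cfsg.Agent.Lib.Helper94_Symp Cfsg.Agent.Lib.Helper94_OrthSmall
  Cfsg.Agent.Lib.Helper94_OrthSiegel Cfsg.Agent.Lib.Helper94_OrthSiegel2
  Cfsg.Agent.Lib.Helper94_OrthPara Cfsg.Agent.Lib.Helper94_OrthVec
  Cfsg.Agent.Lib.Helper94_OrthNondeg Cfsg.Agent.Lib.Helper94_OrthRefl
  Cfsg.Agent.Lib.Helper29_ODDefs Cfsg.Agent.Lib.Helper38_OD2Defs Cfsg.Agent.Lib.Helper38_OD2_A1

variable {F V : Type*} [Field F] [AddCommGroup V] [Module F V] [Finite F] [FiniteDimensional F V]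
  {Q : V → F} {B : LinearMap.BilinForm F V}

/-- an element of `M` permuting the blocks by `σ` maps edges to edges -/
theorem edge_map {t k : ℕ} {D : Fin t → Submodule F V} {S M : Subgroup (V ≃ₗ[F] V)}
    (hC : Ctx2 Q B k D S M) {g : V ≃ₗ[F] V} (hgM : g ∈ M) {σ : Equiv.Perm (Fin t)}
    (hσ : ∀ i, (D i).map (g : V →ₗ[F] V) = D (σ i)) {a b : Fin t} (he : Edge Q B D M a b) :
    Edge Q B D M (σ a) (σ b) := by
  have hgO : g ∈ oG Q := hC.hMO hgM
  intro x hx hx0 hQx z hz
  rw [← hσ a] at hx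
  rw [← hσ b] at hz
  obtain ⟨x0, hx0D, rfl⟩ := hx
  obtain ⟨z0, hz0D, rfl⟩ := hz
  have hx00 : x0 ≠ 0 := by
    rintro rfl
    apply hx0
    simp
  have hQx0 : Q x0 = 0 := by
    have := hgO x0
    rw [← this]; exact hQx
  exact InZ_map hC.hQs hC.hQp hgM hgO hQx0 (he x0 hx0D hx00 hQx0 z0 hz0D)

/-- a 3-cycle step: `Edge a b → Edge b c` -/
theorem edge_step {t k : ℕ} {D : Fin t → Submodule F V} {S M : Subgroup (V ≃ₗ[F] V)}
    (hC : Ctx2 Q B k D S M) (h3c : ThreeCycles Q D) {a b c : Fin t} (hab : a ≠ b) (hac : a ≠ c)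
    (hbc : b ≠ c) (he : Edge Q B D M a b) : Edge Q B D M b c := by
  obtain ⟨g, hgΩ, σ, hσ, hσa, hσb⟩ := h3c a b c hab hac hbc
  have hgS : g ∈ S := (hC.hS g).2 ⟨σ, hσ⟩
  have hgM : g ∈ M := hC.hHM (Subgroup.mem_inf.2 ⟨hgS, hgΩ⟩)
  have := edge_map hC hgM hσ he
  rwa [hσa, hσb] at this

/-- all pairs of distinct blocks are edges -/
theorem edge_all {t k : ℕ} {D : Fin t → Submodule F V} {S M : Subgroup (V ≃ₗ[F] V)}
    (hC : Ctx2 Q B k D S M) (h3c : ThreeCycles Q D) {i j : Fin t} (hij : i ≠ j)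
    (he : Edge Q B D M i j) (he' : Edge Q B D M j i) (a b : Fin t) (hab : a ≠ b) :
    Edge Q B D M a b := by
  by_cases hai : a = i
  · subst hai
    by_cases hbj : b = j
    · subst hbj; exact he
    · exact edge_step hC h3c (Ne.symm hij) (Ne.symm hbj) hab he'
  · by_cases haj : a = j
    · subst haj
      by_cases hbi : b = i
      · subst hbi; exact he'
      · exact edge_step hC h3c hij (Ne.symm hbi) hab he
    · -- `a ∉ {i, j}`
      have hja : Edge Q B D M j a := edge_step hC h3c hij (Ne.symm hai) (Ne.symm haj) he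
      have hia : Edge Q B D M i a := edge_step hC h3c (Ne.symm hij) (Ne.symm haj) (Ne.symm hai) he'
      by_cases hbj : b = j
      · subst hbj
        exact edge_step hC h3c (Ne.symm hai) hij hab hia
      · exact edge_step hC h3c (Ne.symm haj) (Ne.symm hbj) hab hja

/-- `InZ` is closed under finite sums -/
theorem InZ_sum (hQs : ∀ (c : F) (v : V), Q (c • v) = c * c * Q v)
    (hQp : ∀ u v : V, Q (u + v) = Q u + Q v + B u v) {M : Subgroup (V ≃ₗ[F] V)} {w : V}
    (hw : Q w = 0) {ι : Type*} (s : Finset ι) (u : ι → V) (h : ∀ l ∈ s, InZ Q B M w (u l)) :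
    InZ Q B M w (∑ l ∈ s, u l) := by
  classical
  induction s using Finset.induction_on with
  | empty => rw [Finset.sum_empty]; exact InZ_zero hQs hQp hw
  | insert a s ha ih =>
    rw [Finset.sum_insert ha]
    exact InZ_add hQs hQp hw (h a (Finset.mem_insert_self a s))
      (ih fun l hl => h l (Finset.mem_insert_of_mem hl))

/-- **OD-A2**, given all edges. -/
theorem caseA_finish_of_all {t k : ℕ} {D : Fin t → Submodule F V} {S M : Subgroup (V ≃ₗ[F] V)}
    (hC : Ctx2 Q B k D S M) (i : Fin t)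
    (hall : ∀ a b : Fin t, a ≠ b → Edge Q B D M a b) :
    ∀ u z, Q u = 0 → B u z = 0 → sieg Q B u z ∈ M := by
  classical
  have hsymm := B_symm Q B hC.hQp
  -- the full Siegel group at a nonzero singular vector of a block is in `M`
  have hfull : ∀ a : Fin t, ∀ x ∈ D a, x ≠ 0 → Q x = 0 → ∀ z, B x z = 0 →
      sieg Q B x z ∈ M := by
    intro a x hx hx0 hQx z hxz
    obtain ⟨u, hu, hsum⟩ := exists_dec hC.hD.sup z
    have hsplit : z = u a + ∑ l ∈ Finset.univ.erase a, u l := by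
      rw [← hsum]; exact (Finset.add_sum_erase Finset.univ u (Finset.mem_univ a)).symm
    have hxorth : ∀ l, l ≠ a → B x (u l) = 0 := fun l hl =>
      hC.hD.orth a l (Ne.symm hl) x hx (u l) (hu l)
    have hxz' : B x (∑ l ∈ Finset.univ.erase a, u l) = 0 := by
      rw [map_sum]
      exact Finset.sum_eq_zero fun l hl => hxorth l (Finset.ne_of_mem_erase hl)
    have hxua : B x (u a) = 0 := by
      have := hxz
      rw [hsplit, map_add, hxz', add_zero] at this
      exact this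
    have h1 : InZ Q B M x (u a) := InZ_block hC hx (hu a) hQx hxua
    have h2 : InZ Q B M x (∑ l ∈ Finset.univ.erase a, u l) :=
      InZ_sum hC.hQs hC.hQp hQx _ u fun l hl =>
        hall a l (Ne.symm (Finset.ne_of_mem_erase hl)) x hx hx0 hQx (u l) (hu l)
    have h3 := InZ_add hC.hQs hC.hQp hQx h1 h2
    rw [← hsplit] at h3
    have h4 := h3.2 1
    rwa [one_smul] at h4
  -- two non-orthogonal singular vectors of the block `D i`
  have hk3 : 3 ≤ finrank F (D i) := by rw [hC.hD.fr i]; exact hC.hk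
  obtain ⟨s, hs, hs0, hQs0⟩ := exists_singular_in Q B hC.hQs hC.hQp (D i) hk3
  obtain ⟨s', hs', hQs', hss'⟩ := exists_sing_not_orth Q B hC.hQs hC.hQp (D i) (hC.hD.nd i) hk3
    (hC.hD.nd i s hs hs0)
  have hs'0 : s' ≠ 0 := by
    rintro rfl
    apply hss'
    simp
  exact all_of_pair Q B hC.hQs hC.hQp hC.hN M hC.hMO ⟨hQs0, hfull i s hs hs0 hQs0⟩
    ⟨hQs', hfull i s' hs' hs'0 hQs'⟩ (by rw [hsymm]; exact hss')


/-- **OD-A2.** -/
theorem caseA_finish {t k : ℕ} {D : Fin t → Submodule F V} {S M : Subgroup (V ≃ₗ[F] V)}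
    (hC : Ctx2 Q B k D S M) (h3c : ThreeCycles Q D) {i j : Fin t} (hij : i ≠ j)
    (he : Edge Q B D M i j) (he' : Edge Q B D M j i) :
    ∀ u z, Q u = 0 → B u z = 0 → sieg Q B u z ∈ M :=
  caseA_finish_of_all hC i (edge_all hC h3c hij he he')

/-- **OD-A2** for two blocks. -/
theorem caseA_finish_two {k : ℕ} {D : Fin 2 → Submodule F V} {S M : Subgroup (V ≃ₗ[F] V)}
    (hC : Ctx2 Q B k D S M) {i j : Fin 2} (hij : i ≠ j)
    (he : Edge Q B D M i j) (he' : Edge Q B D M j i) :
    ∀ u z, Q u = 0 → B u z = 0 → sieg Q B u z ∈ M := by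
  apply caseA_finish_of_all hC i
  intro a b hab
  have h1 : (a = i ∧ b = j) ∨ (a = j ∧ b = i) := by
    have := Fin.isValue
    omega
  rcases h1 with ⟨rfl, rfl⟩ | ⟨rfl, rfl⟩
  · exact he
  · exact he'

end Cfsg.Agent.Lib.Helper38_OD2_A2
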