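import Mathlib
import Cfsg.Agent.Lib.Helper29_ODDefs
import Cfsg.Agent.Lib.Helper38_OD2Defs
import Cfsg.Agent.Lib.Helper94_OrthRefl

/-!
# OD2-STRICT (helper38, rows S5692/S5694): characteristic-free port (`2 ≤ t`) of helper10's `Helper10_OD_STRICT`

The decomposition stabiliser is a proper subgroup of `Ω = [O, O]`.
-/

set_option autoImplicit false

namespace Cfsg.Agent.Lib.Helper38_OD2_STRICT

open Module Cfsg.Agent.Lib.Helper94_Symp Cfsg.Agent.Lib.Helper94_OrthSmall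
  Cfsg.Agent.Lib.Helper94_OrthSiegel Cfsg.Agent.Lib.Helper94_OrthSiegel2
  Cfsg.Agent.Lib.Helper94_OrthPara Cfsg.Agent.Lib.Helper94_OrthVec
  Cfsg.Agent.Lib.Helper94_OrthNondeg Cfsg.Agent.Lib.Helper94_OrthRefl
  Cfsg.Agent.Lib.Helper29_ODDefs Cfsg.Agent.Lib.Helper38_OD2Defs

variable {F V : Type*} [Field F] [AddCommGroup V] [Module F V] [Finite F] [FiniteDimensional F V]
  {Q : V → F} {B : LinearMap.BilinForm F V}

/-- OD-STRICT. -/
theorem strict {t k : ℕ} {D : Fin t → Submodule F V} {S M : Subgroup (V ≃ₗ[F] V)}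
    (hC : Ctx2 Q B k D S M) : S ⊓ ⁅oG Q, oG Q⁆ < ⁅oG Q, oG Q⁆ := by
  have hQs := hC.hQs
  have hQp := hC.hQp
  have hsymm := B_symm Q B hQp
  have ht := hC.ht
  have hk := hC.hk
  obtain ⟨i0, hi0⟩ : ∃ i0 : Fin t, i0 = ⟨0, by omega⟩ := ⟨_, rfl⟩
  obtain ⟨i1, hi1⟩ : ∃ i1 : Fin t, i1 = ⟨1, by omega⟩ := ⟨_, rfl⟩
  have h01 : i0 ≠ i1 := by
    rw [hi0, hi1]
    intro h
    exact absurd (congrArg Fin.val h) (by simp)
  obtain ⟨x, hxD, hx0, hQx⟩ := exists_singular_in Q B hQs hQp (D i0) (by rw [hC.hD.fr]; exact hk)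
  have hpos : 0 < finrank F (D i1) := by rw [hC.hD.fr]; omega
  obtain ⟨⟨z, hzD⟩, hz0⟩ := finrank_pos_iff_exists_ne_zero.mp hpos
  have hz0' : z ≠ 0 := fun h => hz0 (Subtype.ext h)
  have hxz : B x z = 0 := hC.hD.orth i0 i1 h01 x hxD z hzD
  have hgΩ := hC.hG2 x z hQx hxz
  refine lt_of_le_of_ne inf_le_right ?_
  intro heq
  have hgS : sieg Q B x z ∈ S := by
    have : sieg Q B x z ∈ S ⊓ ⁅oG Q, oG Q⁆ := by rw [heq]; exact hgΩ
    exact this.1
  obtain ⟨σ, hσ⟩ := (hC.hS _).mp hgS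
  obtain ⟨x', hx'D, hx'x⟩ := hC.hD.nd i0 x hxD hx0
  have hv : sieg Q B x z x' ∈ D (σ i0) := by
    rw [← hσ i0]
    exact ⟨x', hx'D, rfl⟩
  have hx'z : B x' z = 0 := hC.hD.orth i0 i1 h01 x' hx'D z hzD
  have hxx : B x x = 0 := by rw [B_self Q B hQs hQp, hQx, mul_zero]
  rw [sieg_apply Q B hQs hQp hQx hxz, hx'z, zero_smul, sub_zero] at hv
  by_cases hj : σ i0 = i1
  · rw [hj] at hv
    have h1 := hC.hD.orth i1 i0 h01.symm _ hv x hxD
    rw [map_sub, map_add, map_smul, map_smul, LinearMap.sub_apply, LinearMap.add_apply,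
      LinearMap.smul_apply, LinearMap.smul_apply, hsymm z x, hxz, hxx, smul_zero, smul_zero,
      add_zero, sub_zero] at h1
    exact hx'x h1
  · obtain ⟨d, hdD, hdz⟩ := hC.hD.nd i1 z hzD hz0'
    have h1 := hC.hD.orth (σ i0) i1 hj _ hv d hdD
    have hx'd : B x' d = 0 := hC.hD.orth i0 i1 h01 x' hx'D d hdD
    have hxd : B x d = 0 := hC.hD.orth i0 i1 h01 x hxD d hdD
    rw [map_sub, map_add, map_smul, map_smul, LinearMap.sub_apply, LinearMap.add_apply,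
      LinearMap.smul_apply, LinearMap.smul_apply, hx'd, hxd, smul_zero, zero_add, sub_zero,
      smul_eq_mul] at h1
    rcases mul_eq_zero.mp h1 with h | h
    · exact hx'x h
    · exact hdz (by rw [hsymm]; exact h)

end Cfsg.Agent.Lib.Helper38_OD2_STRICT
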