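import Mathlib
import Cfsg.Agent.Lib.Helper38_CBDefs
import Cfsg.Agent.Lib.Helper74_OD_BASIC

/-!
# OD2-Q2KILL (helper38's market `od2_packages`): `|F| = 2`, blocks without totally singular lines
-/

set_option autoImplicit false
set_option linter.unusedSectionVars false
set_option linter.style.haveILetI false

namespace Cfsg.Agent.Lib.Helper52_OD2_Q2KILL

open Module Cfsg.Agent.Lib.Helper94_Symp Cfsg.Agent.Lib.Helper94_OrthSmall
  Cfsg.Agent.Lib.Helper94_OrthSiegel Cfsg.Agent.Lib.Helper94_OrthSiegel2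
  Cfsg.Agent.Lib.Helper94_OrthPara Cfsg.Agent.Lib.Helper94_OrthVec
  Cfsg.Agent.Lib.Helper94_OrthNondeg Cfsg.Agent.Lib.Helper94_OrthRefl
  Cfsg.Agent.Lib.Helper29_ODDefs Cfsg.Agent.Lib.Helper38_OD2Defs Cfsg.Agent.Lib.Helper38_CBDefs
open Cfsg.Agent.Lib.Helper38_OD2_A1 (sieg_block_mem_M InZ_block)
open Cfsg.Agent.Lib.Helper38_OD2_STAR (starA)

variable {F V : Type*} [Field F] [AddCommGroup V] [Module F V] [Finite F] [FiniteDimensional F V]
  {Q : V → F} {B : LinearMap.BilinForm F V}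

/-- the field with two elements -/
theorem f2_facts (hq : Nat.card F = 2) : (2 : F) = 0 ∧ ∀ x : F, x = 0 ∨ x = 1 := by
  haveI := Fintype.ofFinite F
  have hc : Fintype.card F = 2 := by rw [← Nat.card_eq_fintype_card]; exact hq
  constructor
  · have := FiniteField.cast_card_eq_zero F
    rw [hc] at this
    exact_mod_cast this
  · intro x
    by_cases hx : x = 0
    · exact Or.inl hx
    · right
      have := FiniteField.pow_card_sub_one_eq_one x hx
      rw [hc] at this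
      simpa using this

/-- the key claim of (K2): a component of `z` at a block of minus type is singular -/
theorem claim_Q (hQs : ∀ (c : F) (v : V), Q (c • v) = c * c * Q v)
    (hQp : ∀ u v : V, Q (u + v) = Q u + Q v + B u v)
    (h20 : (2 : F) = 0) (h2 : ∀ x : F, x = 0 ∨ x = 1) (A : Submodule F V)
    (hA : ∀ a ∈ A, a ≠ 0 → ∃ x ∈ A, B x a ≠ 0) (h4 : 4 ≤ finrank F A)
    (hminus : NoTSLine Q B A) {p0 za : V} (hp0 : p0 ∈ A) (hQp0 : Q p0 ≠ 0) (hza : za ∈ A)
    (hzp : B za p0 ≠ 0)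
    (hw : ∀ w ∈ A, w ≠ 0 → Q w = 0 → B w p0 = 0 → B za w ≠ 0) : Q za = 0 := by
  have hsymm := B_symm Q B hQp
  have hself : ∀ x : V, B x x = 0 := fun x => by rw [B_self Q B hQs hQp, h20, zero_mul]
  have hone : ∀ x : F, x ≠ 0 → x = 1 := fun x hx => (h2 x).resolve_left hx
  have hadd : ∀ x : F, x + x = 0 := fun x => by rw [← two_mul, h20, zero_mul]
  by_contra hne
  have hQza : Q za = 1 := hone _ hne
  have hQp0' : Q p0 = 1 := hone _ hQp0
  -- a nonzero singular vector of `A ∩ p0^⊥`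
  have h1 := finrank_le_inf_ker_add_one A (B p0)
  obtain ⟨w, hwU, hw0, hQw⟩ := exists_singular_in Q B hQs hQp (A ⊓ LinearMap.ker (B p0))
    (by omega)
  have hwA : w ∈ A := hwU.1
  have hp0w : B p0 w = 0 := LinearMap.mem_ker.mp hwU.2
  have hwp0 : B w p0 = 0 := by rw [hsymm]; exact hp0w
  have hwnot : ¬ ∃ c : F, w = c • p0 := by
    rintro ⟨c, hc⟩
    rcases h2 c with h | h
    · rw [h, zero_smul] at hc; exact hw0 hc
    · rw [h, one_smul] at hc; rw [hc] at hQw; exact hQp0 hQw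
  obtain ⟨p, hpA, hp0p, hwp⟩ : ∃ x ∈ A, B p0 x = 0 ∧ B w x ≠ 0 := by
    by_contra hno
    push Not at hno
    exact hwnot (double_perp hQp A hA hp0 hwA hno)
  -- the second singular vector
  have hw2A : p + Q p • p0 ∈ A := A.add_mem hpA (A.smul_mem _ hp0)
  have hQw2 : Q (p + Q p • p0) = 0 := by
    rw [Q_add_smul Q B hQs hQp, hQp0', hsymm p p0, hp0p, mul_zero, add_zero, mul_one]
    rcases h2 (Q p) with h | h <;> rw [h] <;> simp [hadd]
  have hw2p0 : B (p + Q p • p0) p0 = 0 := by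
    rw [map_add, LinearMap.add_apply, map_smul, LinearMap.smul_apply, hself, smul_zero, add_zero,
      hsymm, hp0p]
  have hw2w : B (p + Q p • p0) w = 1 := by
    rw [map_add, LinearMap.add_apply, map_smul, LinearMap.smul_apply, hp0w, smul_zero, add_zero]
    apply hone
    rw [hsymm]; exact hwp
  have hw20 : p + Q p • p0 ≠ 0 := by
    intro h0
    rw [h0, map_zero, LinearMap.zero_apply] at hw2w
    exact zero_ne_one hw2w
  have hzw : B za w = 1 := hone _ (hw w hwA hw0 hQw hwp0)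
  have hzw2 : B za (p + Q p • p0) = 1 := hone _ (hw _ hw2A hw20 hQw2 hw2p0)
  -- the vector `u₁ = w + za`
  have hu1A : w + za ∈ A := A.add_mem hwA hza
  have hQu1 : Q (w + za) = 0 := by
    rw [hQp, hQw, hQza, hsymm, hzw, zero_add, hadd]
  have hu1w2 : B (w + za) (p + Q p • p0) = 0 := by
    rw [LinearMap.BilinForm.add_left, hzw2, hsymm w, hw2w, hadd]
  have hu10 : w + za ≠ 0 := by
    intro h0
    have : za = -w := eq_neg_of_add_eq_zero_right h0
    have hQ : Q za = Q w := by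
      rw [this]
      have := hQs (-1) w
      rw [neg_one_smul] at this
      rw [this]; ring
    rw [hQza, hQw] at hQ
    exact one_ne_zero hQ
  rcases hminus _ hu1A _ hw2A hQu1 hQw2 hu1w2 with h | ⟨c, hc⟩
  · exact hu10 h
  · rcases h2 c with h | h
    · rw [h, zero_smul] at hc; exact hw20 hc
    · rw [h, one_smul] at hc
      -- `za = w₂ - w` is orthogonal to `p0`
      apply hzp
      have : za = (p + Q p • p0) - w := by rw [hc]; abel
      rw [this, map_sub, LinearMap.sub_apply, hw2p0, hwp0, sub_zero]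

/-- (K3): the third alternative is impossible -/
theorem k3 {t : ℕ} {D : Fin t → Submodule F V} {M : Subgroup (V ≃ₗ[F] V)}
    (h2 : ∀ x : F, x = 0 ∨ x = 1)
    {π : Fin t → (V →ₗ[F] V)} (hπ : Projs Q B D π) {y : V}
    (hT2 : ∀ (j : Fin t) (z : V), Q (π j y) ≠ 0 → InZ Q B M y z → (∃ c : F, π j z = c • π j y) →
      ∃ a b : F, z = a • y + b • π j y)
    {a b : Fin t} (hab : a ≠ b) (hQb : Q (π b y) ≠ 0) {n : V} (hn : n ∈ D a) (hn0 : n ≠ 0)
    (hny : n ≠ π a y) (hz : InZ Q B M y n) : False := by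
  obtain ⟨α, β, hαβ⟩ := hT2 b n hQb hz ⟨0, by rw [hπ.zero_on a b hab n hn, zero_smul]⟩
  have h1 : π a n = n := hπ.id_on a n hn
  have h3 : π a (π b y) = 0 := hπ.zero_on b a hab.symm _ (hπ.mem b y)
  have h4 : n = α • π a y := by
    have := congrArg (π a) hαβ
    rw [h1, map_add, map_smul, map_smul, h3, smul_zero, add_zero] at this
    exact this
  rcases h2 α with h | h
  · rw [h, zero_smul] at h4; exact hn0 h4
  · rw [h, one_smul] at h4; exact hny h4

/-- **OD2-Q2KILL** -/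
theorem comp_of_nonsing_two {t k : ℕ} {D : Fin t → Submodule F V} {S M : Subgroup (V ≃ₗ[F] V)}
    (hC : Ctx2 Q B k D S M) (hk4 : 4 ≤ k) (hq : Nat.card F = 2) (hB : CaseB Q B D M)
    (hminus : ∀ i, NoTSLine Q B (D i))
    {π : Fin t → (V →ₗ[F] V)} (hπ : Projs Q B D π)
    {g : V ≃ₗ[F] V} {i : Fin t} {y : V} (hy : TypeII Q D M g i y)
    (hT0 : ∀ (j : Fin t) (z : V), Q (π j y) = 0 → InZ Q B M y z → ∃ c : F, π j z = c • π j y)
    (hT2 : ∀ (j : Fin t) (z : V), Q (π j y) ≠ 0 → InZ Q B M y z → (∃ c : F, π j z = c • π j y) →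
      ∃ a b : F, z = a • y + b • π j y)
    (hTRI : ∀ (j : Fin t) (z : V), Q (π j y) ≠ 0 → InZ Q B M y z →
      (∃ c : F, π j z = c • π j y) ∨
      (B z (π j y) ≠ 0 ∧ InZ Q B M y (π j y) ∧
        ∀ w ∈ D j, w ≠ 0 → Q w = 0 → B w (π j y) = 0 → B z w ≠ 0) ∨
      (∃ n ∈ D j, n ≠ 0 ∧ n ≠ π j y ∧ InZ Q B M y n))
    {j : Fin t} (hyj : Q (π j y) ≠ 0) {z : V} (hz : InZ Q B M y z) :
    ∃ c : F, π j z = c • π j y := by
  obtain ⟨h20, h2⟩ := f2_facts hq
  have hQs := hC.hQs
  have hQp := hC.hQp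
  have hsymm := B_symm Q B hQp
  have hself : ∀ x : V, B x x = 0 := fun x => by rw [B_self Q B hQs hQp, h20, zero_mul]
  -- another nonsingular component
  obtain ⟨i', hi'j, hQi'⟩ : ∃ i', i' ≠ j ∧ Q (π i' y) ≠ 0 := by
    by_contra hno
    push Not at hno
    have h1 := hπ.Q_sum y
    rw [hy.sing, Finset.sum_eq_single j (fun l _ hl => hno l hl)
      (fun h => absurd (Finset.mem_univ j) h)] at h1
    exact hyj h1.symm
  rcases hTRI j z hyj hz with h1 | ⟨hzyj, hInZyj, hwj⟩ | ⟨n, hn, hn0, hny, hnz⟩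
  · exact h1
  · exfalso
    obtain ⟨α, β, hαβ⟩ := hT2 i' (π j y) hQi' hInZyj
      ⟨0, by rw [hπ.zero_on j i' (Ne.symm hi'j) _ (hπ.mem j y), zero_smul]⟩
    have hyj0 : π j y ≠ 0 := by
      intro h0
      rw [h0] at hyj
      exact hyj (Q_zero Q hQs)
    have hα : α = 1 := by
      have := congrArg (π j) hαβ
      rw [hπ.id_on j _ (hπ.mem j y), map_add, map_smul, map_smul,
        hπ.zero_on i' j hi'j _ (hπ.mem i' y), smul_zero, add_zero] at this
      rcases h2 α with h | h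
      · rw [h, zero_smul] at this; exact absurd this hyj0
      · exact h
    rw [hα, one_smul] at hαβ
    have hβ : β = 1 := by
      rcases h2 β with h | h
      · rw [h, zero_smul, add_zero] at hαβ
        exact absurd (hαβ ▸ hπ.mem j y) (hy.notin j)
      · exact h
    rw [hβ, one_smul] at hαβ
    have hyeq : y = π j y - π i' y := by
      have : π j y - π i' y = y + π i' y - π i' y := by rw [← hαβ]
      rw [this]; abel
    have hoth : ∀ l, l ≠ j → l ≠ i' → π l y = 0 := by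
      intro l hlj hli'
      have := congrArg (π l) hyeq
      rw [map_sub, hπ.zero_on j l (Ne.symm hlj) _ (hπ.mem j y),
        hπ.zero_on i' l (Ne.symm hli') _ (hπ.mem i' y), sub_zero] at this
      exact this
    have hothz : ∀ l, l ≠ j → l ≠ i' → π l z = 0 := by
      intro l hlj hli'
      obtain ⟨c, hc⟩ := hT0 l z (by rw [hoth l hlj hli']; exact Q_zero Q hQs) hz
      rw [hc, hoth l hlj hli', smul_zero]
    have hBz : B z (π i' y) = B z (π j y) := by
      have h0 : B z y = 0 := by rw [hsymm]; exact hz.1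
      have h1 : B z (π j y - π i' y) = 0 := by rw [← hyeq]; exact h0
      rw [map_sub, sub_eq_zero] at h1
      exact h1.symm
    have hzi' : B z (π i' y) ≠ 0 := by rw [hBz]; exact hzyj
    have hwi' : ∀ w ∈ D i', w ≠ 0 → Q w = 0 → B w (π i' y) = 0 → B z w ≠ 0 := by
      rcases hTRI i' z hQi' hz with ⟨c, hc⟩ | ⟨_, _, h3⟩ | ⟨n, hn, hn0, hny, hnz⟩
      · exfalso
        apply hzi'
        rw [hπ.B_left i' z _ (hπ.mem i' y), hc, map_smul, LinearMap.smul_apply, hself, smul_zero]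
      · exact h3
      · exact (k3 h2 hπ hT2 hi'j hyj hn hn0 hny hnz).elim
    have hQzj : Q (π j z) = 0 :=
      claim_Q hQs hQp h20 h2 (D j) (hC.hD.nd j) (by rw [hC.hD.fr j]; exact hk4) (hminus j)
        (hπ.mem j y) hyj (hπ.mem j z)
        (by rw [← hπ.B_left j z _ (hπ.mem j y)]; exact hzyj)
        (fun w hw hw0 hQw hwy => by rw [← hπ.B_left j z w hw]; exact hwj w hw hw0 hQw hwy)
    have hQzi' : Q (π i' z) = 0 :=
      claim_Q hQs hQp h20 h2 (D i') (hC.hD.nd i') (by rw [hC.hD.fr i']; exact hk4) (hminus i')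
        (hπ.mem i' y) hQi' (hπ.mem i' z)
        (by rw [← hπ.B_left i' z _ (hπ.mem i' y)]; exact hzi')
        (fun w hw hw0 hQw hwy => by rw [← hπ.B_left i' z w hw]; exact hwi' w hw hw0 hQw hwy)
    have hQz : Q z = 0 := by
      rw [hπ.Q_sum z]
      apply Finset.sum_eq_zero
      intro l _
      by_cases hlj : l = j
      · rw [hlj]; exact hQzj
      · by_cases hli' : l = i'
        · rw [hli']; exact hQzi'
        · rw [hothz l hlj hli']; exact Q_zero Q hQs
    -- pull back to the block `D i`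
    obtain ⟨hzmem, hyz⟩ := (starA hC hB g hy.hg i y hy.mem hy.ne hy.sing z).mp hz
    obtain ⟨y₀, hy₀, hy₀y⟩ := hy.mem
    obtain ⟨z₀, hz₀, hz₀z⟩ := hzmem
    rw [LinearEquiv.coe_coe] at hy₀y hz₀z
    have hgO := hC.hMO hy.hg
    have e1 : Q y₀ = 0 := by rw [← hgO y₀, hy₀y]; exact hy.sing
    have e2 : Q z₀ = 0 := by rw [← hgO z₀, hz₀z]; exact hQz
    have e3 : B y₀ z₀ = 0 := by rw [← oG_B Q B hQp hgO, hy₀y, hz₀z]; exact hyz
    rcases hminus i y₀ hy₀ z₀ hz₀ e1 e2 e3 with h | ⟨c, hc⟩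
    · apply hy.ne
      rw [← hy₀y, h, map_zero]
    · have hzc : z = c • y := by rw [← hz₀z, hc, map_smul, hy₀y]
      rcases h2 c with h | h
      · rw [h, zero_smul] at hzc
        apply hzyj
        rw [hzc, map_zero, LinearMap.zero_apply]
      · rw [h, one_smul] at hzc
        apply hzyj
        rw [hzc, hπ.B_left j y _ (hπ.mem j y), hself]
  · exact (k3 h2 hπ hT2 (Ne.symm hi'j) hQi' hn hn0 hny hnz).elim

end Cfsg.Agent.Lib.Helper52_OD2_Q2KILL
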