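import Mathlib
import Cfsg.Agent.Lib.Helper38_CBDefs
import Cfsg.Agent.Lib.Helper74_OD_BASIC

set_option autoImplicit false
set_option linter.unusedSectionVars false

/-!
OD2-END (helper38's OD2 market, rows S5692 / S5694): if there are no type II vectors, then every
`M`-image of a block lies in a block.
-/

namespace Cfsg.Agent.Lib.Helper53_OD2_END

open Module Cfsg.Agent.Lib.Helper94_Symp Cfsg.Agent.Lib.Helper94_OrthSmall
  Cfsg.Agent.Lib.Helper94_OrthSiegel Cfsg.Agent.Lib.Helper94_OrthSiegel2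
  Cfsg.Agent.Lib.Helper94_OrthPara Cfsg.Agent.Lib.Helper94_OrthVec
  Cfsg.Agent.Lib.Helper94_OrthNondeg Cfsg.Agent.Lib.Helper94_OrthRefl
  Cfsg.Agent.Lib.Helper29_ODDefs Cfsg.Agent.Lib.Helper38_OD2Defs Cfsg.Agent.Lib.Helper38_CBDefs
open Cfsg.Agent.Lib.Helper38_OD2_A1 (sieg_block_mem_M InZ_block)
open Cfsg.Agent.Lib.Helper38_OD2_STAR (starA)

variable {F V : Type*} [Field F] [AddCommGroup V] [Module F V] [Finite F] [FiniteDimensional F V]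
  {Q : V → F} {B : LinearMap.BilinForm F V}

/-- The image of a nondegenerate subspace under an isometry is nondegenerate. -/
theorem h53_map_nd (hQp : ∀ u v : V, Q (u + v) = Q u + Q v + B u v) {g : V ≃ₗ[F] V}
    (hg : g ∈ oG Q) (A : Submodule F V) (hA : ∀ a ∈ A, a ≠ 0 → ∃ x ∈ A, B x a ≠ 0) :
    ∀ a ∈ A.map (g : V →ₗ[F] V), a ≠ 0 → ∃ x ∈ A.map (g : V →ₗ[F] V), B x a ≠ 0 := by
  rintro a ⟨a0, ha0, rfl⟩ hne
  have h0 : a0 ≠ 0 := by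
    rintro rfl
    exact hne (map_zero _)
  obtain ⟨x0, hx0, hx⟩ := hA a0 ha0 h0
  refine ⟨g x0, ⟨x0, hx0, rfl⟩, ?_⟩
  change B (g x0) (g a0) ≠ 0
  rw [oG_B Q B hQp hg]
  exact hx

/-- No type II vectors ⇒ every `M`-image of a block lies in a block. -/
theorem block_of_no_typeII {t k : ℕ} {D : Fin t → Submodule F V} {S M : Subgroup (V ≃ₗ[F] V)}
    (hC : Ctx2 Q B k D S M) (hB : CaseB Q B D M)
    (hno : ∀ (g : V ≃ₗ[F] V) (i : Fin t) (y : V), ¬ TypeII Q D M g i y) :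
    ∀ g ∈ M, ∀ i, ∃ j, (D i).map (g : V →ₗ[F] V) ≤ D j := by
  intro g hg i
  have hsymm := B_symm Q B hC.hQp
  have hsa := starA hC hB
  have hUnd := h53_map_nd hC.hQp (hC.hMO hg) (D i) (hC.hD.nd i)
  have hUfr : finrank F ((D i).map (g : V →ₗ[F] V)) = k := by
    rw [LinearEquiv.finrank_map_eq, hC.hD.fr]
  have hU3 : 3 ≤ finrank F ((D i).map (g : V →ₗ[F] V)) := by rw [hUfr]; exact hC.hk
  -- every nonzero singular vector of `U` lies in a block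
  have hblk : ∀ y ∈ (D i).map (g : V →ₗ[F] V), y ≠ 0 → Q y = 0 → ∃ a, y ∈ D a := by
    intro y hyU hy0 hQy
    by_contra hcon
    push Not at hcon
    exact hno g i y ⟨hg, hyU, hy0, hQy, hcon⟩
  obtain ⟨y₀, hy₀U, hy₀0, hQy₀⟩ := exists_singular_in Q B hC.hQs hC.hQp _ hU3
  obtain ⟨a, hy₀a⟩ := hblk y₀ hy₀U hy₀0 hQy₀
  -- `U ∩ y₀^⊥ ≤ D a`
  have hperp : ∀ z ∈ (D i).map (g : V →ₗ[F] V), B y₀ z = 0 → z ∈ D a := by
    intro z hzU hz
    exact hB a y₀ hy₀a hy₀0 hQy₀ z ((hsa g hg i y₀ hy₀U hy₀0 hQy₀ z).mpr ⟨hzU, hz⟩)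
  obtain ⟨y₁, hy₁U, hQy₁, hy₁y₀⟩ := exists_sing_not_orth Q B hC.hQs hC.hQp _ hUnd hU3
    (hUnd y₀ hy₀U hy₀0)
  have hy₁0 : y₁ ≠ 0 := by
    rintro rfl
    apply hy₁y₀
    rw [map_zero, LinearMap.zero_apply]
  obtain ⟨b, hy₁b⟩ := hblk y₁ hy₁U hy₁0 hQy₁
  have hba : b = a := by
    by_contra hne
    exact hy₁y₀ (hC.hD.orth b a hne y₁ hy₁b y₀ hy₀a)
  rw [hba] at hy₁b
  have hy₀y₁ : B y₀ y₁ ≠ 0 := by rw [hsymm]; exact hy₁y₀
  refine ⟨a, ?_⟩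
  intro v hvU
  have h1 : v - (B y₀ v / B y₀ y₁) • y₁ ∈ D a := by
    apply hperp _ (Submodule.sub_mem _ hvU (Submodule.smul_mem _ _ hy₁U))
    rw [map_sub, map_smul, smul_eq_mul, div_mul_cancel₀ _ hy₀y₁, sub_self]
  have h2 := (D a).add_mem h1 ((D a).smul_mem (B y₀ v / B y₀ y₁) hy₁b)
  rwa [sub_add_cancel] at h2

end Cfsg.Agent.Lib.Helper53_OD2_END
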