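import Mathlib
import Cfsg.Agent.Lib.Helper38_CBDefs
import Cfsg.Agent.Lib.Helper74_OD_BASIC

set_option autoImplicit false
set_option linter.unusedSectionVars false

/-!
helper91: OD2 package FIN (architect helper38): if all components of all `z ∈ X_y` are multiples
of the components of `y`, there is no type II vector `y`.
-/

namespace Cfsg.Agent.Lib.Helper91_OD2_FIN

open Module Cfsg.Agent.Lib.Helper94_Symp Cfsg.Agent.Lib.Helper94_OrthSmall
  Cfsg.Agent.Lib.Helper94_OrthSiegel Cfsg.Agent.Lib.Helper94_OrthSiegel2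
  Cfsg.Agent.Lib.Helper94_OrthPara Cfsg.Agent.Lib.Helper94_OrthVec
  Cfsg.Agent.Lib.Helper94_OrthNondeg Cfsg.Agent.Lib.Helper94_OrthRefl
  Cfsg.Agent.Lib.Helper29_ODDefs Cfsg.Agent.Lib.Helper38_OD2Defs Cfsg.Agent.Lib.Helper38_CBDefs
open Cfsg.Agent.Lib.Helper38_OD2_A1 (sieg_block_mem_M InZ_block)
open Cfsg.Agent.Lib.Helper38_OD2_STAR (starA)

variable {F V : Type*} [Field F] [AddCommGroup V] [Module F V] [Finite F] [FiniteDimensional F V]
  {Q : V → F} {B : LinearMap.BilinForm F V}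

/-- The image of a nondegenerate subspace under an isometry is nondegenerate. -/
theorem map_nd' (hQp : ∀ u v : V, Q (u + v) = Q u + Q v + B u v) {g : V ≃ₗ[F] V} (hg : g ∈ oG Q)
    (A : Submodule F V) (hA : ∀ a ∈ A, a ≠ 0 → ∃ x ∈ A, B x a ≠ 0) :
    ∀ a ∈ A.map (g : V →ₗ[F] V), a ≠ 0 → ∃ x ∈ A.map (g : V →ₗ[F] V), B x a ≠ 0 := by
  rintro a ⟨a0, ha0, rfl⟩ hne
  have h0 : a0 ≠ 0 := by
    rintro rfl
    exact hne (map_zero _)
  obtain ⟨x0, hx0, hx⟩ := hA a0 ha0 h0
  refine ⟨g x0, ⟨x0, hx0, rfl⟩, ?_⟩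
  change B (g x0) (g a0) ≠ 0
  rw [oG_B Q B hQp hg]
  exact hx

/-- If all components of all z ∈ X_y are multiples of the components of y: contradiction. -/
theorem no_typeII_of_comp {t k : ℕ} {D : Fin t → Submodule F V} {S M : Subgroup (V ≃ₗ[F] V)}
    (hC : Ctx2 Q B k D S M) (hk4 : 4 ≤ k) (hB : CaseB Q B D M)
    {π : Fin t → (V →ₗ[F] V)} (hπ : Projs Q B D π)
    {g : V ≃ₗ[F] V} {i : Fin t} {y : V} (hy : TypeII Q D M g i y)
    (hT2 : ∀ (j : Fin t) (z : V), Q (π j y) ≠ 0 → InZ Q B M y z → (∃ c : F, π j z = c • π j y) →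
      ∃ a b : F, z = a • y + b • π j y)
    (hR : ∀ z, InZ Q B M y z → ∀ j, ∃ c : F, π j z = c • π j y) : False := by
  classical
  set U : Submodule F V := (D i).map (g : V →ₗ[F] V) with hU
  have hUnd : ∀ a ∈ U, a ≠ 0 → ∃ x ∈ U, B x a ≠ 0 :=
    map_nd' hC.hQp (hC.hMO hy.hg) (D i) (hC.hD.nd i)
  have hUfr : finrank F U = k := by
    rw [hU, ← hC.hD.fr i]
    exact LinearEquiv.finrank_map_eq g (D i)
  have hstar : ∀ z, InZ Q B M y z ↔ (z ∈ U ∧ B y z = 0) :=
    starA hC hB g hy.hg i y hy.mem hy.ne hy.sing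
  by_cases hcase : ∃ j, Q (π j y) ≠ 0
  · obtain ⟨j, hj⟩ := hcase
    have hle : (U ⊓ LinearMap.ker (B y) : Submodule F V) ≤
        Submodule.span F (({y, π j y} : Finset V) : Set V) := by
      intro z hz
      have hinz : InZ Q B M y z := (hstar z).mpr ⟨hz.1, LinearMap.mem_ker.mp hz.2⟩
      obtain ⟨a, b, hab⟩ := hT2 j z hj hinz (hR z hinz j)
      rw [hab]
      apply Submodule.add_mem
      · apply Submodule.smul_mem
        apply Submodule.subset_span
        simp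
      · apply Submodule.smul_mem
        apply Submodule.subset_span
        simp
    have h1 := finrank_le_inf_ker_add_one U (B y)
    have h2 := Submodule.finrank_mono hle
    have h3 : finrank F (Submodule.span F (({y, π j y} : Finset V) : Set V)) ≤
        ({y, π j y} : Finset V).card := finrank_span_finset_le_card (R := F) ({y, π j y} : Finset V)
    have h4 : ({y, π j y} : Finset V).card ≤ 2 := Finset.card_le_two
    omega
  · push Not at hcase
    have hsing : ∀ z, InZ Q B M y z → Q z = 0 := by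
      intro z hz
      rw [hπ.Q_sum z]
      apply Finset.sum_eq_zero
      intro j _
      obtain ⟨c, hc⟩ := hR z hz j
      rw [hc, hC.hQs, hcase j, mul_zero]
    obtain ⟨v₁, hv₁, v₂, hv₂, h1, h2, h12⟩ :=
      exists_pair hC.hQp U hUnd (by omega) hy.mem hy.ne
    have e1 := hsing v₁ ((hstar v₁).mpr ⟨hv₁, h1⟩)
    have e2 := hsing v₂ ((hstar v₂).mpr ⟨hv₂, h2⟩)
    have e3 := hsing (v₁ + v₂)
      ((hstar _).mpr ⟨U.add_mem hv₁ hv₂, by rw [map_add, h1, h2, add_zero]⟩)
    rw [hC.hQp, e1, e2, zero_add, zero_add] at e3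
    exact h12 e3

end Cfsg.Agent.Lib.Helper91_OD2_FIN
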