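import Mathlib
import Cfsg.Agent.Lib.Helper38_CBDefs
import Cfsg.Agent.Lib.Helper74_OD_BASIC

set_option autoImplicit false
set_option linter.unusedSectionVars false

/-!
# OD2 market (architect helper38, rows S5692 + S5694): package OD2-R1 (helper99)

Components of the Siegel group at a type II vector `y` at the blocks where `y` has a nonsingular
component, for `|F| > 2`: `π j z ∈ ⟨π j y⟩`.
-/

namespace Cfsg.Agent.Lib.Helper99_OD2_R1

open Module Cfsg.Agent.Lib.Helper94_Symp Cfsg.Agent.Lib.Helper94_OrthSmall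
  Cfsg.Agent.Lib.Helper94_OrthSiegel Cfsg.Agent.Lib.Helper94_OrthSiegel2
  Cfsg.Agent.Lib.Helper94_OrthPara Cfsg.Agent.Lib.Helper94_OrthVec
  Cfsg.Agent.Lib.Helper94_OrthNondeg Cfsg.Agent.Lib.Helper94_OrthRefl
  Cfsg.Agent.Lib.Helper29_ODDefs Cfsg.Agent.Lib.Helper38_OD2Defs Cfsg.Agent.Lib.Helper38_CBDefs
open Cfsg.Agent.Lib.Helper38_OD2_A1 (sieg_block_mem_M InZ_block)
open Cfsg.Agent.Lib.Helper38_OD2_STAR (starA)

variable {F V : Type*} [Field F] [AddCommGroup V] [Module F V] [Finite F] [FiniteDimensional F V]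
  {Q : V → F} {B : LinearMap.BilinForm F V}

/-- (★) of the specification: the Siegel element `sieg w v` of the block `D j` fixes `y` when
`w`, `v` are orthogonal to the `j`-th component of `y`, and moves `z` inside the Siegel group of `M`
at `y`. -/
theorem star_block {t k : ℕ} {D : Fin t → Submodule F V} {S M : Subgroup (V ≃ₗ[F] V)}
    (hC : Ctx2 Q B k D S M) {π : Fin t → (V →ₗ[F] V)} (hπ : Projs Q B D π)
    {y : V} (hQy : Q y = 0) {j : Fin t} {z : V} (hz : InZ Q B M y z)
    {w v : V} (hw : w ∈ D j) (hv : v ∈ D j) (hQw : Q w = 0) (hwv : B w v = 0)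
    (hyw : B (π j y) w = 0) (hyv : B (π j y) v = 0) :
    InZ Q B M y (B z w • v - B z v • w - (Q v * B z w) • w) := by
  have hQs := hC.hQs
  have hQp := hC.hQp
  have hM : sieg Q B w v ∈ M := sieg_block_mem_M hC hw hv hQw hwv
  have h1 : B y w = 0 := by rw [hπ.B_left j y w hw, hyw]
  have h2 : B y v = 0 := by rw [hπ.B_left j y v hv, hyv]
  have hfix : sieg Q B w v y = y := by
    rw [sieg_apply Q B hQs hQp hQw hwv, h1, h2]
    simp
  have h3 := inz_fix hC hM hfix hQy hz
  have h4 : sieg Q B w v z - z = B z w • v - B z v • w - (Q v * B z w) • w := by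
    rw [sieg_apply Q B hQs hQp hQw hwv]
    abel
  rwa [h4] at h3

/-- a field with more than two elements has an element different from `0` and `1` -/
theorem exists_ne_zero_one (hq : 2 < Nat.card F) : ∃ c : F, c ≠ 0 ∧ c ≠ 1 := by
  classical
  have := Fintype.ofFinite F
  rw [Nat.card_eq_fintype_card] at hq
  obtain ⟨a, b, c, hab, hac, hbc⟩ := Fintype.two_lt_card_iff.mp hq
  by_cases ha0 : a = 0
  · by_cases hb1 : b = 1
    · refine ⟨c, fun h => hac (by rw [ha0, h]), fun h => hbc (by rw [hb1, h])⟩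
    · exact ⟨b, fun h => hab (by rw [ha0, h]), hb1⟩
  · by_cases ha1 : a = 1
    · by_cases hb0 : b = 0
      · refine ⟨c, fun h => hbc (by rw [hb0, h]), fun h => hac (by rw [ha1, h])⟩
      · exact ⟨b, hb0, fun h => hab (by rw [ha1, h])⟩
    · exact ⟨a, ha0, ha1⟩

theorem comp_of_nonsing {t k : ℕ} {D : Fin t → Submodule F V} {S M : Subgroup (V ≃ₗ[F] V)}
    (hC : Ctx2 Q B k D S M) (hk4 : 4 ≤ k) (hq : 2 < Nat.card F) (hB : CaseB Q B D M)
    {π : Fin t → (V →ₗ[F] V)} (hπ : Projs Q B D π)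
    {g : V ≃ₗ[F] V} {i : Fin t} {y : V} (hy : TypeII Q D M g i y) {j : Fin t}
    (hyj : Q (π j y) ≠ 0) {z : V} (hz : InZ Q B M y z) : ∃ c : F, π j z = c • π j y := by
  have hQs := hC.hQs
  have hQp := hC.hQp
  have hsymm := B_symm Q B hQp
  have hfr : 4 ≤ finrank F (D j) := by rw [hC.hD.fr j]; exact hk4
  obtain ⟨c₀, hc0, hc1⟩ := exists_ne_zero_one hq
  refine span_of_sing_perp hQs hQp (D j) (hC.hD.nd j) hfr (hπ.mem j y) hyj (hπ.mem j z) ?_
  intro w hw hQw hwy
  rw [← hπ.B_left j z w hw]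
  have hyw : B (π j y) w = 0 := by rw [hsymm]; exact hwy
  obtain ⟨v, hv, hwv, hyv, hvw⟩ := exists_indep_orth2 (B := B) (D j) hfr w (π j y)
  -- the family `e c`
  set a : V := B z w • v - B z v • w with ha
  set b : V := (Q v * B z w) • w with hb
  have he : ∀ c : F, InZ Q B M y (c • a - (c * c) • b) := by
    intro c
    have hcv : c • v ∈ D j := (D j).smul_mem c hv
    have h1 := star_block hC hπ hy.sing hz hw hcv hQw
      (by rw [map_smul, hwv, smul_zero]) hyw (by rw [map_smul, hyv, smul_zero])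
    have h2 : B z w • c • v - B z (c • v) • w - (Q (c • v) * B z w) • w =
        c • a - (c * c) • b := by
      rw [map_smul, hQs, ha, hb, smul_eq_mul]
      module
    rwa [h2] at h1
  -- `b` lies in the Siegel group, hence vanishes
  have hb1 : InZ Q B M y ((c₀ * c₀ - c₀) • b) := by
    have h1 := InZ_sub hQs hQp hy.sing (InZ_smul c₀ (he 1)) (he c₀)
    have h2 : c₀ • ((1 : F) • a - ((1 : F) * 1) • b) - (c₀ • a - (c₀ * c₀) • b) =
        (c₀ * c₀ - c₀) • b := by module
    rwa [h2] at h1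
  have hcc : c₀ * c₀ - c₀ ≠ 0 := by
    have : c₀ * c₀ - c₀ = c₀ * (c₀ - 1) := by ring
    rw [this]
    exact mul_ne_zero hc0 (sub_ne_zero.mpr hc1)
  have hb2 : InZ Q B M y b := by
    have h1 := InZ_smul (c₀ * c₀ - c₀)⁻¹ hb1
    rwa [smul_smul, inv_mul_cancel₀ hcc, one_smul] at h1
  have hbD : b ∈ D j := (D j).smul_mem _ hw
  have hQb : Q b = 0 := by rw [hb, hQs, hQw, mul_zero]
  have hb0 : b = 0 := eq_zero_of_inz_block hC hB hy hbD hQb hb2
  -- hence `a` lies in the Siegel group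
  have ha1 : InZ Q B M y a := by
    have h1 := he 1
    rwa [hb0, smul_zero, sub_zero, one_smul] at h1
  by_contra hzw
  by_cases hQv : Q v = 0
  · -- `a` is singular, hence vanishes, and `v ∈ ⟨w⟩`
    have haD : a ∈ D j := (D j).sub_mem ((D j).smul_mem _ hv) ((D j).smul_mem _ hw)
    have hQa : Q a = 0 := by
      have h1 : a = B z w • v + (-(B z v)) • w := by rw [ha]; module
      rw [h1, Q_add_smul Q B hQs hQp, hQs, hQv, hQw, map_smul, LinearMap.smul_apply,
        hsymm v w, hwv]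
      simp
    have ha0 : a = 0 := eq_zero_of_inz_block hC hB hy haD hQa ha1
    apply hvw
    refine ⟨(B z w)⁻¹ * B z v, ?_⟩
    have h1 : B z w • v = B z v • w := sub_eq_zero.mp (ha ▸ ha0)
    rw [← smul_smul, ← h1, smul_smul, inv_mul_cancel₀ hzw, one_smul]
  · -- `b = 0` gives `B z w = 0` or `w = 0`
    rcases smul_eq_zero.mp (hb ▸ hb0) with h1 | h1
    · rcases mul_eq_zero.mp h1 with h2 | h2
      · exact hQv h2
      · exact hzw h2
    · apply hzw
      rw [h1, map_zero]

end Cfsg.Agent.Lib.Helper99_OD2_R1
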