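import Mathlib
import Cfsg.Agent.Lib.Helper38_CBDefs
import Cfsg.Agent.Lib.Helper74_OD_BASIC

set_option autoImplicit false
set_option linter.unusedSectionVars false

/-!
# OD2 market (architect helper38, rows S5692 + S5694): package OD2-T2 (helper99)

If the `j`-th component of the type II vector `y` is nonsingular and the `j`-th component of
`z` (in the Siegel group of `M` at `y`) is a multiple of it, then `z ∈ ⟨y, π j y⟩`.
-/

namespace Cfsg.Agent.Lib.Helper99_OD2_T2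

open Module Cfsg.Agent.Lib.Helper94_Symp Cfsg.Agent.Lib.Helper94_OrthSmall
  Cfsg.Agent.Lib.Helper94_OrthSiegel Cfsg.Agent.Lib.Helper94_OrthSiegel2
  Cfsg.Agent.Lib.Helper94_OrthPara Cfsg.Agent.Lib.Helper94_OrthVec
  Cfsg.Agent.Lib.Helper94_OrthNondeg Cfsg.Agent.Lib.Helper94_OrthRefl
  Cfsg.Agent.Lib.Helper29_ODDefs Cfsg.Agent.Lib.Helper38_OD2Defs Cfsg.Agent.Lib.Helper38_CBDefs
open Cfsg.Agent.Lib.Helper38_OD2_A1 (sieg_block_mem_M InZ_block)
open Cfsg.Agent.Lib.Helper38_OD2_STAR (starA)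

variable {F V : Type*} [Field F] [AddCommGroup V] [Module F V] [Finite F] [FiniteDimensional F V]
  {Q : V → F} {B : LinearMap.BilinForm F V}

theorem mem_span_of_comp {t k : ℕ} {D : Fin t → Submodule F V} {S M : Subgroup (V ≃ₗ[F] V)}
    (hC : Ctx2 Q B k D S M) (hk4 : 4 ≤ k) (hB : CaseB Q B D M)
    {π : Fin t → (V →ₗ[F] V)} (hπ : Projs Q B D π)
    {g : V ≃ₗ[F] V} {i : Fin t} {y : V} (hy : TypeII Q D M g i y) {j : Fin t}
    (hyj : Q (π j y) ≠ 0) {z : V} (hz : InZ Q B M y z) (hzj : ∃ c : F, π j z = c • π j y) :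
    ∃ a b : F, z = a • y + b • π j y := by
  have hQs := hC.hQs
  have hQp := hC.hQp
  have hsymm := B_symm Q B hQp
  have hnd := hC.hD.nd j
  obtain ⟨c, hc⟩ := hzj
  have hyjD : π j y ∈ D j := hπ.mem j y
  have hyj0 : π j y ≠ 0 := by
    intro h0
    apply hyj
    rw [h0]
    exact Q_zero Q hQs
  -- the Siegel element `g' = sieg y z`
  have hg'M : sieg Q B y z ∈ M := by
    have h1 := hz.2 1
    rwa [one_smul] at h1
  have hg' : ∀ x, sieg Q B y z x = x + B x y • z - B x z • y - (Q z * B x y) • y :=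
    sieg_apply Q B hQs hQp hy.sing hz.1
  -- `g'` fixes `T = D j ∩ (π j y)^⊥`
  have hfix : ∀ x ∈ D j, B (π j y) x = 0 → sieg Q B y z x = x := by
    intro x hx hyx
    have h1 : B x y = 0 := by rw [hsymm, hπ.B_left j y x hx, hyx]
    have h2 : B x z = 0 := by
      rw [hsymm, hπ.B_left j z x hx, hc, map_smul, LinearMap.smul_apply, hyx, smul_zero]
    rw [hg', h1, h2]
    simp
  -- a nonzero singular vector of `T`
  have hfrT : 3 ≤ finrank F (D j ⊓ LinearMap.ker (B (π j y)) : Submodule F V) := by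
    have h1 := finrank_le_inf_ker_add_one (D j) (B (π j y))
    rw [hC.hD.fr j] at h1
    omega
  obtain ⟨w, hwT, hw0, hQw⟩ := exists_singular_in Q B hQs hQp _ hfrT
  have hwD : w ∈ D j := hwT.1
  have hyw : B (π j y) w = 0 := LinearMap.mem_ker.mp hwT.2
  have hwfix : sieg Q B y z w = w := hfix w hwD hyw
  -- `w` is not a multiple of `π j y`
  have hwy : ¬ ∃ c' : F, w = c' • π j y := by
    rintro ⟨c', hc'⟩
    have h1 : Q w = c' * c' * Q (π j y) := by rw [hc', hQs]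
    rw [hQw] at h1
    have hc0 : c' = 0 := by
      rcases mul_eq_zero.mp h1.symm with h' | h'
      · exact mul_self_eq_zero.mp h'
      · exact absurd h' hyj
    rw [hc0, zero_smul] at hc'
    exact hw0 hc'
  obtain ⟨p, hpD, hyp, hwp⟩ : ∃ p ∈ D j, B (π j y) p = 0 ∧ B w p ≠ 0 := by
    by_contra hno
    push Not at hno
    exact hwy (double_perp hQp (D j) hnd hyjD hwD hno)
  -- `D j ≤ g' (D j)`
  have hwU : w ∈ (D j).map ((sieg Q B y z : V ≃ₗ[F] V) : V →ₗ[F] V) := ⟨w, hwD, hwfix⟩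
  have hsa := starA hC hB (sieg Q B y z) hg'M j w hwU hw0 hQw
  have hle : D j ≤ (D j).map ((sieg Q B y z : V ≃ₗ[F] V) : V →ₗ[F] V) := by
    intro d hd
    have hpU : p ∈ (D j).map ((sieg Q B y z : V ≃ₗ[F] V) : V →ₗ[F] V) :=
      ⟨p, hpD, hfix p hpD hyp⟩
    have hd' : d - (B w d / B w p) • p ∈ D j := (D j).sub_mem hd ((D j).smul_mem _ hpD)
    have hwd' : B w (d - (B w d / B w p) • p) = 0 := by
      rw [map_sub, map_smul, smul_eq_mul, div_mul_cancel₀ _ hwp, sub_self]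
    have h1 := ((hsa _).mp (InZ_block hC hwD hd' hQw hwd')).1
    have h2 := Submodule.add_mem _ h1 (Submodule.smul_mem _ (B w d / B w p) hpU)
    rwa [sub_add_cancel] at h2
  have heq : D j = (D j).map ((sieg Q B y z : V ≃ₗ[F] V) : V →ₗ[F] V) :=
    Submodule.eq_of_le_of_finrank_eq hle (LinearEquiv.finrank_map_eq _ _).symm
  -- a vector of `D j` not orthogonal to `π j y`
  obtain ⟨x₀, hx₀, hβ⟩ := hnd (π j y) hyjD hyj0
  have hx₀y : B x₀ y = B x₀ (π j y) := by
    rw [hsymm x₀ y, hπ.B_left j y x₀ hx₀, hsymm]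
  have hmem : sieg Q B y z x₀ - x₀ ∈ D j := by
    apply (D j).sub_mem _ hx₀
    rw [heq]
    exact ⟨x₀, hx₀, rfl⟩
  set β : F := B x₀ (π j y) with hβdef
  set d : V := sieg Q B y z x₀ - x₀ with hd
  have hdz : β • z = d + (B x₀ z + Q z * β) • y := by
    rw [hd, hg', hx₀y]
    module
  have hzd : z = (β⁻¹ * (B x₀ z + Q z * β)) • y + β⁻¹ • d := by
    have h1 : β⁻¹ • (β • z) = z := by rw [smul_smul, inv_mul_cancel₀ hβ, one_smul]
    rw [hdz, smul_add, smul_smul, add_comm] at h1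
    exact h1.symm
  set a : F := β⁻¹ * (B x₀ z + Q z * β) with ha
  -- apply `π j`
  have hπd : π j (β⁻¹ • d) = β⁻¹ • d := hπ.id_on j _ ((D j).smul_mem _ hmem)
  have h2 : c • π j y = a • π j y + β⁻¹ • d := by
    rw [← hc]
    conv_lhs => rw [hzd]
    rw [map_add, map_smul, hπd]
  refine ⟨a, c - a, ?_⟩
  have h3 : β⁻¹ • d = (c - a) • π j y := by
    rw [sub_smul, h2, add_sub_cancel_left]
  rw [← h3]
  exact hzd

end Cfsg.Agent.Lib.Helper99_OD2_T2
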