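import Mathlib
import Cfsg.Agent.Lib.Helper38_CBDefs
import Cfsg.Agent.Lib.Helper38_OD2_A2
import Cfsg.Agent.Lib.Helper38_OD2_STRICT
import Cfsg.Agent.Lib.Helper38_OD2_B5
import Cfsg.Agent.Lib.Helper73_OD_3CYC
import Cfsg.Agent.Lib.Helper74_OD_BASIC
import Cfsg.Agent.Lib.Helper29_OD_Main
import Cfsg.Agent.Lib.Helper53_OD2_END
import Cfsg.Agent.Lib.Helper91_OD2_FIN
import Cfsg.Agent.Lib.Helper31_OD2_IRR
import Cfsg.Agent.Lib.Helper52_OD2_Q2KILL
import Cfsg.Agent.Lib.Helper25_OD2_Q2TRI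
import Cfsg.Agent.Lib.Helper99_OD2_R1
import Cfsg.Agent.Lib.Helper31_OD2_T0
import Cfsg.Agent.Lib.Helper99_OD2_T2

set_option autoImplicit false
set_option linter.unusedSectionVars false

/-!
OD2 (helper38, rows S5692 / S5694): the stabiliser of an orthogonal decomposition into `t ≥ 2`
isometric nondegenerate blocks of dimension `k ≥ 4` is maximal in `Ω = [O, O]`, in every
characteristic, in helper94's abstract setting.  Case A (some Siegel group at a singular vector of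
a block leaves the block) is the characteristic-free port of helper29's S5677 market
(`Helper38_OD2_A1`, `_A2`); Case B is the uniform argument of the OD2 market (no vector of type II),
with the port of `caseB5` for `|F| = 2`, `k ≥ 5`.
-/

namespace Cfsg.Agent.Lib.Helper38_OD2_Main

open Module Cfsg.Agent.Lib.Helper94_Symp Cfsg.Agent.Lib.Helper94_OrthSmall
  Cfsg.Agent.Lib.Helper94_OrthSiegel Cfsg.Agent.Lib.Helper94_OrthSiegel2
  Cfsg.Agent.Lib.Helper94_OrthPara Cfsg.Agent.Lib.Helper94_OrthVec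
  Cfsg.Agent.Lib.Helper94_OrthNondeg Cfsg.Agent.Lib.Helper94_OrthRefl
  Cfsg.Agent.Lib.Helper29_ODDefs Cfsg.Agent.Lib.Helper38_OD2Defs Cfsg.Agent.Lib.Helper38_CBDefs

open Cfsg.Agent.Lib.Helper74_OD_BASIC (exists_projs)
open Cfsg.Agent.Lib.Helper29_OD_Main (mem_dstab_of_le)
open Cfsg.Agent.Lib.Helper73_OD_3CYC (three_cycles)
open Cfsg.Agent.Lib.Helper38_OD2_A1 (edge_of_notMem)
open Cfsg.Agent.Lib.Helper38_OD2_A2 (caseA_finish caseA_finish_two)
open Cfsg.Agent.Lib.Helper38_OD2_STRICT (strict)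
open Cfsg.Agent.Lib.Helper38_OD2_STAR (star)
open Cfsg.Agent.Lib.Helper38_OD2_B5 (caseB5)
open Cfsg.Agent.Lib.Helper53_OD2_END (block_of_no_typeII)
open Cfsg.Agent.Lib.Helper91_OD2_FIN (no_typeII_of_comp)
open Cfsg.Agent.Lib.Helper31_OD2_IRR (irrK3)
open Cfsg.Agent.Lib.Helper52_OD2_Q2KILL (comp_of_nonsing_two)
open Cfsg.Agent.Lib.Helper25_OD2_Q2TRI (tri_two)
open Cfsg.Agent.Lib.Helper99_OD2_R1 (comp_of_nonsing)
open Cfsg.Agent.Lib.Helper31_OD2_T0 (comp_of_sing)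
open Cfsg.Agent.Lib.Helper99_OD2_T2 (mem_span_of_comp)

variable {F V : Type*} [Field F] [AddCommGroup V] [Module F V] [Finite F] [FiniteDimensional F V]
  {Q : V → F} {B : LinearMap.BilinForm F V}

/-- **Case B** (blocks of dimension at least four): `M` maps blocks into blocks. -/
theorem caseB4 {t k : ℕ} {D : Fin t → Submodule F V} {S M : Subgroup (V ≃ₗ[F] V)}
    (hC : Ctx2 Q B k D S M) (hk4 : 4 ≤ k)
    (hq : 2 < Nat.card F ∨ (Nat.card F = 2 ∧ ∀ i, NoTSLine Q B (D i)))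
    (hB : CaseB Q B D M) :
    ∀ g ∈ M, ∀ i, ∃ j, (D i).map (g : V →ₗ[F] V) ≤ D j := by
  obtain ⟨π, hπ⟩ := exists_projs hC.hQs hC.hQp hC.hN hC.hD
  apply block_of_no_typeII hC hB
  intro g i y hy
  have hT0 : ∀ (j : Fin t) (z : V), Q (π j y) = 0 → InZ Q B M y z → ∃ c : F, π j z = c • π j y :=
    fun j z hyj hz => comp_of_sing hC hB hπ hy hyj hz
  have hT2 : ∀ (j : Fin t) (z : V), Q (π j y) ≠ 0 → InZ Q B M y z →
      (∃ c : F, π j z = c • π j y) → ∃ a b : F, z = a • y + b • π j y :=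
    fun j z hyj hz hzj => mem_span_of_comp hC hk4 hB hπ hy hyj hz hzj
  apply no_typeII_of_comp hC hk4 hB hπ hy hT2
  intro z hz j
  by_cases hyj : Q (π j y) = 0
  · exact hT0 j z hyj hz
  · rcases hq with hq | ⟨hq, hminus⟩
    · exact comp_of_nonsing hC hk4 hq hB hπ hy hyj hz
    · exact comp_of_nonsing_two hC hk4 hq hB hminus hπ hy hT0 hT2
        (fun j z hyj hz => tri_two hC hk4 hq hB hπ hy hyj hz) hyj hz

/-- **Maximality of the stabiliser of an orthogonal decomposition** into `t ≥ 2` isometric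
nondegenerate blocks of dimension `k ≥ 4` in `Ω = [O, O]`, in every characteristic; for `|F| = 2`
and `k = 4` the blocks must contain no totally singular line (minus type). -/
theorem maximal_dstab_orth2 (hQs : ∀ (c : F) (v : V), Q (c • v) = c * c * Q v)
    (hQp : ∀ u v : V, Q (u + v) = Q u + Q v + B u v) (hN : B.Nondegenerate)
    (hG2 : ∀ u z, Q u = 0 → B u z = 0 → sieg Q B u z ∈ ⁅oG Q, oG Q⁆)
    (hG3 : ∀ M : Subgroup (V ≃ₗ[F] V),
      (∀ u z, Q u = 0 → B u z = 0 → sieg Q B u z ∈ M) → ⁅oG Q, oG Q⁆ ≤ M)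
    {t : ℕ} (k : ℕ) (D : Fin t → Submodule F V) (hD : ODec Q B k D) (ht : 2 ≤ t)
    (hk : 4 ≤ k) (hq : 2 < Nat.card F ∨ 5 ≤ k ∨ ∀ i, NoTSLine Q B (D i))
    (S : Subgroup (V ≃ₗ[F] V)) (hS : IsDStab D S) :
    (S ⊓ ⁅oG Q, oG Q⁆ < ⁅oG Q, oG Q⁆) ∧
      ∀ M : Subgroup (V ≃ₗ[F] V), S ⊓ ⁅oG Q, oG Q⁆ ≤ M → M ≤ ⁅oG Q, oG Q⁆ →
        M = S ⊓ ⁅oG Q, oG Q⁆ ∨ M = ⁅oG Q, oG Q⁆ := by
  have hk3 : 3 ≤ k := by omega
  have hGO : ⁅oG Q, oG Q⁆ ≤ oG Q := Subgroup.commutator_le_self _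
  have hirr : IrrK Q B 3 := irrK3 hQs hQp
  constructor
  · exact strict (M := ⁅oG Q, oG Q⁆) ⟨hQs, hQp, hN, hD, ht, hk3, hS, hG2, inf_le_right, hGO⟩
  · intro M hHM hMG
    have hC : Ctx2 Q B k D S M := ⟨hQs, hQp, hN, hD, ht, hk3, hS, hG2, hHM, hMG.trans hGO⟩
    by_cases hB : CaseB Q B D M
    · left
      apply le_antisymm _ hHM
      intro g hgM
      refine ⟨?_, hMG hgM⟩
      apply mem_dstab_of_le hD (by omega) hS g
      intro i
      have hcard : 2 ≤ Nat.card F := by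
        have := Finite.one_lt_card (α := F)
        omega
      by_cases hq2 : 2 < Nat.card F
      · exact caseB4 hC hk (Or.inl hq2) hB g hgM i
      · have hq2' : Nat.card F = 2 := by omega
        rcases hq with hq | hk5 | hminus
        · exact absurd hq hq2
        · obtain ⟨hsa, hsb⟩ := star hC hirr hk3 hB
          exact caseB5 hC hk5 hsa hsb g hgM i
        · exact caseB4 hC hk (Or.inr ⟨hq2', hminus⟩) hB g hgM i
    · right
      apply le_antisymm hMG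
      apply hG3
      unfold CaseB at hB
      push Not at hB
      obtain ⟨i, w, hw, hw0, hQw, z, hz, hzD⟩ := hB
      obtain ⟨j, hji, he, he'⟩ := edge_of_notMem hC hirr hk3 hw hw0 hQw hz hzD
      obtain rfl | ht3 : t = 2 ∨ 3 ≤ t := by omega
      · exact caseA_finish_two hC (Ne.symm hji) he he'
      · exact caseA_finish hC (three_cycles hQs hQp hN hD) (Ne.symm hji) he he'

end Cfsg.Agent.Lib.Helper38_OD2_Main
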