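import Mathlib
import Cfsg.Prelude.Def_GeometricClasses
import Cfsg.Agent.Lib.Helper94_Bridge
import Cfsg.Agent.Lib.Helper94_SLBridge
import Cfsg.Agent.Lib.Helper94_OrthFinal
import Cfsg.Agent.Lib.Helper14_SiegelOmega2
import Cfsg.Agent.Lib.Helper29_OmegaMaxMain
import Cfsg.Agent.Lib.Helper29_OD_Main
import Cfsg.Agent.Lib.Helper38_OD2_Main

set_option autoImplicit false
set_option linter.unusedSectionVars false

/-!
Bridge from helper94's abstract setting to the `Cfsg.Geo` vocabulary for the stabilisers of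
orthogonal decompositions in `Ω(Q)`, `Q` a nondegenerate quadratic form on `ι → F` in dimension at
least `13`, any characteristic.  (helper38, rows S5692 / S5694)
-/

namespace Cfsg.Agent.Lib.Helper38_OD2Bridge

open Matrix Module Cfsg.Agent.Lib.Helper94_Symp Cfsg.Agent.Lib.Helper94_Bridge
  Cfsg.Agent.Lib.Helper94_SLBridge
  Cfsg.Agent.Lib.Helper94_OrthSmall Cfsg.Agent.Lib.Helper94_OrthBridge
  Cfsg.Agent.Lib.Helper94_OrthSiegel Cfsg.Agent.Lib.Helper94_OrthSiegel2
  Cfsg.Agent.Lib.Helper94_OrthGenBridge Cfsg.Agent.Lib.Helper94_OrthFinal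
  Cfsg.Agent.Lib.Helper29_ODDefs Cfsg.Agent.Lib.Helper38_CBDefs

variable {ι : Type} [Fintype ι] [DecidableEq ι] {F : Type*} [Field F] [Fintype F]

/-- A `Cfsg.Geo` orthogonal decomposition is an `ODec`. -/
theorem odec_of_geo (Q : (ι → F) → F) (hQ : Cfsg.Geo.IsNondegenerateQuadraticForm Q) {t : ℕ}
    {k : ℕ} {D : Fin t → Submodule F (ι → F)} (hD : Cfsg.Geo.IsOrthogonalMDecomposition Q k D) :
    ODec Q (polarForm Q hQ) k D := by
  refine ⟨hD.decomp.decomp.finrank_eq, hD.decomp.decomp.iSup_eq_top, ?_, ?_, hD.isometric⟩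
  · intro i a ha ha0
    obtain ⟨x, hx, hxa⟩ := (hD.decomp.nondegenerate i a ha ha0).1
    exact ⟨x, hx, by rw [polarForm_apply]; exact hxa⟩
  · intro i j hij u hu v hv
    rw [polarForm_apply]
    exact hD.decomp.orthogonal i j hij u hu v hv

/-- The transported decomposition stabiliser. -/
noncomputable def stabL {t : ℕ} (D : Fin t → Submodule F (ι → F)) : Subgroup ((ι → F) ≃ₗ[F] (ι → F)) :=
  (Cfsg.Geo.decompositionStabilizer D).comap (glEquiv ι F).symm.toMonoidHom

theorem isDStab_stabL {t : ℕ} (D : Fin t → Submodule F (ι → F)) : IsDStab D (stabL D) := by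
  intro g
  have key : Matrix.toLin' (((glEquiv ι F).symm g : Matrix.GeneralLinearGroup ι F) :
      Matrix ι ι F) = (g : (ι → F) →ₗ[F] (ι → F)) := by
    refine LinearMap.ext fun x => ?_
    rw [Matrix.toLin'_apply, ← glEquiv_apply, MulEquiv.apply_symm_apply]
    rfl
  constructor
  · rintro ⟨σ, hσ⟩
    refine ⟨σ, fun i => ?_⟩
    have := hσ i
    simp only [MulEquiv.toMonoidHom_eq_coe, MonoidHom.coe_coe] at this
    rw [key] at this
    exact this
  · rintro ⟨σ, hσ⟩
    refine ⟨σ, fun i => ?_⟩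
    simp only [MulEquiv.toMonoidHom_eq_coe, MonoidHom.coe_coe]
    rw [key]
    exact hσ i

/-- Transport of the abstract maximality statement to `Cfsg.Geo`. -/
theorem dstab_bridge (Q : (ι → F) → F) {t : ℕ} (D : Fin t → Submodule F (ι → F))
    (h : (stabL D ⊓ ⁅oG Q, oG Q⁆ < ⁅oG Q, oG Q⁆) ∧
      ∀ M : Subgroup ((ι → F) ≃ₗ[F] (ι → F)), stabL D ⊓ ⁅oG Q, oG Q⁆ ≤ M → M ≤ ⁅oG Q, oG Q⁆ →
        M = stabL D ⊓ ⁅oG Q, oG Q⁆ ∨ M = ⁅oG Q, oG Q⁆) :
    Cfsg.Geo.IsMaximalIn (Cfsg.Geo.omegaGL Q)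
      (Cfsg.Geo.decompositionStabilizer D ⊓ Cfsg.Geo.omegaGL Q) := by
  have hSeq : Cfsg.Geo.decompositionStabilizer D =
      (stabL D).comap (glEquiv ι F).toMonoidHom :=
    (comap_symm_comap (glEquiv ι F) _).symm
  rw [hSeq, omegaGL_eq, ← Subgroup.comap_inf]
  exact isMaximalIn_comap _ _ _ h

/-- The generation hypotheses in dimension at least `13`. -/
theorem hG2_of_geo (Q : (ι → F) → F) (hQ : Cfsg.Geo.IsNondegenerateQuadraticForm Q)
    (hn : 13 ≤ Fintype.card ι) (u z : ι → F) (hu : Q u = 0) (huz : polarForm Q hQ u z = 0) :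
    sieg Q (polarForm Q hQ) u z ∈ ⁅oG Q, oG Q⁆ := by
  have hfr : finrank F (ι → F) = Fintype.card ι := Module.finrank_pi F
  exact sieg_mem_commutator' Q _ (gen_hQs Q hQ) (gen_hQp Q hQ) (gen_hN Q hQ)
    (by rw [hfr]; omega) hu huz

theorem hG3_of_geo (Q : (ι → F) → F) (hQ : Cfsg.Geo.IsNondegenerateQuadraticForm Q)
    (hn : 13 ≤ Fintype.card ι) (M : Subgroup ((ι → F) ≃ₗ[F] (ι → F)))
    (hM : ∀ u z, Q u = 0 → polarForm Q hQ u z = 0 → sieg Q (polarForm Q hQ) u z ∈ M) :
    ⁅oG Q, oG Q⁆ ≤ M := by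
  have hc2 : (2 : F) = 0 →
      commutator ↥(Cfsg.isometryGroup F (⇑(qfOf Q hQ))) ≤
        Cfsg.Agent.Lib.Helper14_Siegel.siegelGroup (qfOf Q hQ) :=
    fun h2 => Cfsg.Agent.Lib.Helper14_SiegelOmega2.commutator_le_siegelGroup_two h2 _
      (polarBilin_qfOf_nondeg Q hQ) (by omega)
  exact gen_hG3 Q hQ hc2 (by omega) M hM

/-- Blocks of dimension four that are not of plus type contain no totally singular line. -/
theorem noTSLine_of_not_plus (Q : (ι → F) → F) (hQ : Cfsg.Geo.IsNondegenerateQuadraticForm Q)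
    (W : Submodule F (ι → F)) (hW : finrank F W = 4) (h : ¬ Cfsg.Geo.IsPlusTypeOn Q W) :
    NoTSLine Q (polarForm Q hQ) W := by
  intro u hu v hv hQu hQv huv
  by_contra hcon
  push Not at hcon
  obtain ⟨hu0, hvu⟩ := hcon
  apply h
  have hQs := gen_hQs Q hQ
  have hQp := gen_hQp Q hQ
  refine ⟨Submodule.span F {u, v}, ?_, ?_, ?_⟩
  · apply Submodule.span_le.mpr
    rintro x (rfl | rfl)
    · exact hu
    · exact hv
  · intro w hw
    obtain ⟨a, b, rfl⟩ := Submodule.mem_span_pair.mp hw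
    rw [hQp, hQs, hQs, hQu, hQv, map_smul, map_smul, LinearMap.smul_apply, huv]
    simp
  · rw [hW]
    have hli : LinearIndependent F ![u, v] := by
      rw [LinearIndependent.pair_iff' hu0]
      intro a ha
      exact hvu a ha.symm
    have := finrank_span_eq_card hli
    rw [Fintype.card_fin] at this
    have e : Set.range ![u, v] = {u, v} := by
      ext x
      simp only [Matrix.range_cons, Matrix.range_empty, Set.union_empty, Set.union_singleton,
        Set.mem_insert_iff, Set.mem_singleton_iff]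
      tauto
    rw [e] at this
    rw [this]

/-- **Stabilisers of orthogonal decompositions into blocks of dimension at least four are
maximal in `Ω(Q)`** (dimension at least `13`, all characteristics; for `|F| = 2` and `k = 4` the
blocks must not be of plus type). -/
theorem dstab_maximal_ge4 (Q : (ι → F) → F) (hQ : Cfsg.Geo.IsNondegenerateQuadraticForm Q)
    (hn : 13 ≤ Fintype.card ι) {t : ℕ} (k : ℕ) (D : Fin t → Submodule F (ι → F))
    (hD : Cfsg.Geo.IsOrthogonalMDecomposition Q k D) (hk : 4 ≤ k)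
    (hq : 2 < Fintype.card F ∨ 5 ≤ k ∨ ∀ i, ¬ Cfsg.Geo.IsPlusTypeOn Q (D i)) :
    Cfsg.Geo.IsMaximalIn (Cfsg.Geo.omegaGL Q)
      (Cfsg.Geo.decompositionStabilizer D ⊓ Cfsg.Geo.omegaGL Q) := by
  classical
  apply dstab_bridge
  have hq' : 2 < Nat.card F ∨ 5 ≤ k ∨ ∀ i, NoTSLine Q (polarForm Q hQ) (D i) := by
    rw [Nat.card_eq_fintype_card]
    rcases hq with h | h | h
    · exact Or.inl h
    · exact Or.inr (Or.inl h)
    · by_cases hk5 : 5 ≤ k
      · exact Or.inr (Or.inl hk5)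
      · refine Or.inr (Or.inr fun i => ?_)
        apply noTSLine_of_not_plus Q hQ (D i) _ (h i)
        rw [hD.decomp.decomp.finrank_eq i]
        omega
  exact Cfsg.Agent.Lib.Helper38_OD2_Main.maximal_dstab_orth2 (gen_hQs Q hQ) (gen_hQp Q hQ)
    (gen_hN Q hQ) (hG2_of_geo Q hQ hn) (hG3_of_geo Q hQ hn) k D (odec_of_geo Q hQ hD)
    hD.decomp.decomp.two_le hk hq' (stabL D) (isDStab_stabL D)

/-- **Stabilisers of orthogonal decompositions into at least three blocks of dimension three are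
maximal in `Ω(Q)`** (odd characteristic, `|F| ≥ 5`, dimension at least `13`). -/
theorem dstab_maximal_3 (Q : (ι → F) → F) (hQ : Cfsg.Geo.IsNondegenerateQuadraticForm Q)
    (hn : 13 ≤ Fintype.card ι) {t : ℕ} (D : Fin t → Submodule F (ι → F))
    (hD : Cfsg.Geo.IsOrthogonalMDecomposition Q 3 D) (h2 : (2 : F) ≠ 0)
    (hq : 5 ≤ Fintype.card F) :
    Cfsg.Geo.IsMaximalIn (Cfsg.Geo.omegaGL Q)
      (Cfsg.Geo.decompositionStabilizer D ⊓ Cfsg.Geo.omegaGL Q) := by
  classical
  apply dstab_bridge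
  have htk : t * 3 = Fintype.card ι :=
    Cfsg.Agent.Lib.Helper29_OmegaMaxMain.decomp_card hD.decomp.decomp
  exact Cfsg.Agent.Lib.Helper29_OD_Main.maximal_dstab_orth (gen_hQs Q hQ) (gen_hQp Q hQ) h2
    (gen_hN Q hQ) (hG2_of_geo Q hQ hn) (hG3_of_geo Q hQ hn) 3 D (odec_of_geo Q hQ hD)
    (by omega) (Or.inl rfl) (fun _ => by rw [Nat.card_eq_fintype_card]; exact hq) (stabL D)
    (isDStab_stabL D)

end Cfsg.Agent.Lib.Helper38_OD2Bridge
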