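import Mathlib
import Cfsg.Agent.Lib.Helper94_Q2Defs

set_option autoImplicit false
set_option linter.unusedSectionVars false
set_option linter.unusedVariables false

/-! Package Q2-TRFIB of the market q2_packages (architect helper94): the fibres of the trace on `E¹`. -/

namespace Cfsg.Agent.Lib.Helper93_Q2_TRFIB

open Module Cfsg.Agent.Lib.Helper94_Symp Cfsg.Agent.Lib.Helper94_OrthSmall
  Cfsg.Agent.Lib.Helper94_OrthSiegel Cfsg.Agent.Lib.Helper94_OrthNondeg
  Cfsg.Agent.Lib.Helper29_ODDefs Cfsg.Agent.Lib.Helper94_Q2Defs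

variable {F : Type*} [Field F] [Finite F] {a b : F} [Fact (∀ r : F, r ^ 2 ≠ a + b * r)] {t : ℕ}
  {S M L : Subgroup (MV a b t ≃ₗ[F] MV a b t)}

/-- **Q2-TRFIB** [S]  z + star z = w + star w and z star z = w star w = 1: (w - z)(w - star z) = 0 in the field E. -/
theorem TRFIB {z w : QuadraticAlgebra F a b} (hz : QuadraticAlgebra.norm z = 1)
    (hw : QuadraticAlgebra.norm w = 1) (h : QuadraticAlgebra.trace z = QuadraticAlgebra.trace w) :
    w = z ∨ w = star z := by
  have hc := QuadraticAlgebra.sq_sub_trace_smul_add_norm_eq_zero w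
  have e1 : z + star z = algebraMap F _ (QuadraticAlgebra.trace z) :=
    (QuadraticAlgebra.algebraMap_trace_eq_add_star z).symm
  have e2 : z * star z = algebraMap F _ (QuadraticAlgebra.norm z) :=
    (QuadraticAlgebra.algebraMap_norm_eq_mul_star z).symm
  have h1 : (w - z) * (w - star z) = 0 := by
    calc (w - z) * (w - star z) = w ^ 2 - (z + star z) * w + z * star z := by ring
      _ = w ^ 2 - QuadraticAlgebra.trace w • w + algebraMap F _ (QuadraticAlgebra.norm w) := by
          rw [e1, e2, h, hz, hw, Algebra.smul_def]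
      _ = 0 := hc
  rcases mul_eq_zero.mp h1 with h2 | h2
  · left; exact sub_eq_zero.mp h2
  · right; exact sub_eq_zero.mp h2

end Cfsg.Agent.Lib.Helper93_Q2_TRFIB
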