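import Mathlib
import Cfsg.Agent.Lib.Helper94_Q2Defs
import Cfsg.Agent.Lib.Helper93_Q2_TRFIB
import Cfsg.Agent.Lib.Helper93_Q2_E1CARD

set_option autoImplicit false
set_option linter.unusedSectionVars false
set_option linter.unusedVariables false

/-! Package Q2-PIG0 of the market q2_packages (architect helper94): the pigeonhole on the values `N(1 - z)`,
`z ∈ E¹ \ {1}`. -/

namespace Cfsg.Agent.Lib.Helper93_Q2_PIG0

open Module Cfsg.Agent.Lib.Helper94_Symp Cfsg.Agent.Lib.Helper94_OrthSmall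
  Cfsg.Agent.Lib.Helper94_OrthSiegel Cfsg.Agent.Lib.Helper94_OrthNondeg
  Cfsg.Agent.Lib.Helper29_ODDefs Cfsg.Agent.Lib.Helper94_Q2Defs

variable {F : Type*} [Field F] [Finite F] {a b : F} [Fact (∀ r : F, r ^ 2 ≠ a + b * r)] {t : ℕ}
  {S M L : Subgroup (MV a b t ≃ₗ[F] MV a b t)}

/-- `N(1 - z) = 1 - Tr z + N z`. -/
theorem norm_one_sub (z : QuadraticAlgebra F a b) :
    QuadraticAlgebra.norm (1 - z) = 1 - QuadraticAlgebra.trace z + QuadraticAlgebra.norm z := by
  simp only [QuadraticAlgebra.norm_def, QuadraticAlgebra.trace_def, QuadraticAlgebra.re_sub,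
    QuadraticAlgebra.im_sub, QuadraticAlgebra.re_one, QuadraticAlgebra.im_one]
  ring

open Classical in
/-- The elements of `E¹ \ {1}`, and the values `N(1 - z)` on them: at least `q / 2` non-zero values. -/
theorem exists_values :
    ∃ C : Finset F, (∀ c ∈ C, c ≠ 0) ∧ Nat.card F ≤ 2 * C.card ∧
      ∀ c ∈ C, ∃ z : QuadraticAlgebra F a b, QuadraticAlgebra.norm z = 1 ∧ z ≠ 1 ∧
        QuadraticAlgebra.norm (1 - z) = c := by
  have : Finite (QuadraticAlgebra F a b) := finite_E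
  let _ : Fintype (QuadraticAlgebra F a b) := Fintype.ofFinite _
  let Y : Finset (QuadraticAlgebra F a b) := Finset.univ.filter fun z => QuadraticAlgebra.norm z = 1
  let X : Finset (QuadraticAlgebra F a b) := Y.erase 1
  let g : QuadraticAlgebra F a b → F := fun z => QuadraticAlgebra.norm (1 - z)
  have hY1 : (1 : QuadraticAlgebra F a b) ∈ Y := by
    simp [Y]
  have hYcard : Nat.card F + 1 ≤ Y.card := by
    have h := Cfsg.Agent.Lib.Helper93_Q2_E1CARD.E1CARD (F := F) (a := a) (b := b)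
    rw [Nat.card_eq_fintype_card
      (α := {z : QuadraticAlgebra F a b // QuadraticAlgebra.norm z = 1}), Fintype.card_subtype] at h
    exact h
  have hXcard : Nat.card F ≤ X.card := by
    rw [Finset.card_erase_of_mem hY1]
    omega
  have hX : ∀ z, z ∈ X ↔ z ≠ 1 ∧ QuadraticAlgebra.norm z = 1 := by
    intro z
    simp [X, Y]
  refine ⟨X.image g, ?_, ?_, ?_⟩
  · intro c hc
    rw [Finset.mem_image] at hc
    obtain ⟨z, hz, rfl⟩ := hc
    have hz' := (hX z).mp hz
    show QuadraticAlgebra.norm (1 - z) ≠ 0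
    rw [Ne, QuadraticAlgebra.norm_eq_zero_iff_eq_zero, sub_eq_zero]
    exact fun h => hz'.1 h.symm
  · refine le_trans hXcard ?_
    apply Finset.card_le_mul_card_image
    intro c hc
    rw [Finset.mem_image] at hc
    obtain ⟨z0, hz0, rfl⟩ := hc
    have hz0' := (hX z0).mp hz0
    have hsub : (X.filter fun z => g z = g z0) ⊆ {z0, star z0} := by
      intro z hz
      rw [Finset.mem_filter] at hz
      have hz' := (hX z).mp hz.1
      have hg : g z = g z0 := hz.2
      simp only [g, norm_one_sub, hz'.2, hz0'.2] at hg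
      have htr : QuadraticAlgebra.trace z0 = QuadraticAlgebra.trace z := by
        linear_combination hg
      rcases Cfsg.Agent.Lib.Helper93_Q2_TRFIB.TRFIB hz0'.2 hz'.2 htr with h | h
      · rw [h]; simp
      · rw [h]; simp
    exact le_trans (Finset.card_le_card hsub) Finset.card_le_two
  · intro c hc
    rw [Finset.mem_image] at hc
    obtain ⟨z, hz, rfl⟩ := hc
    have hz' := (hX z).mp hz
    exact ⟨z, hz'.2, hz'.1, rfl⟩

open Classical in
/-- **Q2-PIG0** [L]  C := {norm (1 - z) : z in E¹, z != 1} is a subset of F^* with |C| >= q/2 (fibres <= 2 on the >= q elements of E¹ \ {1}),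
so ν₁*C and (-ν₂)*C are two subsets of F^* (q-1 elements) of total size >= q: they meet. -/
theorem PIG0 (ν₁ ν₂ : F) (h1 : ν₁ ≠ 0) (h2 : ν₂ ≠ 0) :
    ∃ z₁ z₂ : QuadraticAlgebra F a b, QuadraticAlgebra.norm z₁ = 1 ∧
      QuadraticAlgebra.norm z₂ = 1 ∧ z₁ ≠ 1 ∧ z₂ ≠ 1 ∧
      ν₁ * QuadraticAlgebra.norm (1 - z₁) + ν₂ * QuadraticAlgebra.norm (1 - z₂) = 0 := by
  let _ : Fintype F := Fintype.ofFinite _
  obtain ⟨C, hC0, hCcard, hC⟩ := exists_values (F := F) (a := a) (b := b)
  let A : Finset F := C.image fun c => ν₁ * c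
  let B : Finset F := C.image fun c => -ν₂ * c
  have hAcard : A.card = C.card := Finset.card_image_of_injective _ (mul_right_injective₀ h1)
  have hBcard : B.card = C.card :=
    Finset.card_image_of_injective _ (mul_right_injective₀ (neg_ne_zero.mpr h2))
  have hA0 : A ⊆ Finset.univ.erase 0 := by
    intro x hx
    rw [Finset.mem_image] at hx
    obtain ⟨c, hc, rfl⟩ := hx
    rw [Finset.mem_erase]
    exact ⟨mul_ne_zero h1 (hC0 c hc), Finset.mem_univ _⟩
  have hB0 : B ⊆ Finset.univ.erase 0 := by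
    intro x hx
    rw [Finset.mem_image] at hx
    obtain ⟨c, hc, rfl⟩ := hx
    rw [Finset.mem_erase]
    exact ⟨mul_ne_zero (neg_ne_zero.mpr h2) (hC0 c hc), Finset.mem_univ _⟩
  have hnd : ¬ Disjoint A B := by
    intro hd
    have h3 : (A ∪ B).card = A.card + B.card := Finset.card_union_of_disjoint hd
    have h4 : (A ∪ B).card ≤ (Finset.univ.erase (0 : F)).card :=
      Finset.card_le_card (Finset.union_subset hA0 hB0)
    rw [Finset.card_erase_of_mem (Finset.mem_univ _), Finset.card_univ, ← Nat.card_eq_fintype_card] at h4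
    have hq : 0 < Nat.card F := Nat.card_pos
    omega
  rw [Finset.not_disjoint_iff] at hnd
  obtain ⟨x, hxA, hxB⟩ := hnd
  rw [Finset.mem_image] at hxA hxB
  obtain ⟨c₁, hc₁, rfl⟩ := hxA
  obtain ⟨c₂, hc₂, hx⟩ := hxB
  obtain ⟨z₁, hz₁, hz₁', rfl⟩ := hC c₁ hc₁
  obtain ⟨z₂, hz₂, hz₂', rfl⟩ := hC c₂ hc₂
  refine ⟨z₁, z₂, hz₁, hz₂, hz₁', hz₂', ?_⟩
  have hx' : -ν₂ * QuadraticAlgebra.norm (1 - z₂) = ν₁ * QuadraticAlgebra.norm (1 - z₁) := hx
  rw [← hx']
  ring

end Cfsg.Agent.Lib.Helper93_Q2_PIG0
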