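import Mathlib
import Cfsg.Agent.Lib.Helper94_Q2Defs
import Cfsg.Agent.Lib.Helper85_Q2_BASIC
import Cfsg.Agent.Lib.Helper93_Q2_PIG0

set_option autoImplicit false
set_option linter.unusedSectionVars false
set_option linter.unusedVariables false

/-!
Q2 market (helper94), package Q2-STRICT: the decomposition stabiliser is a proper subgroup of `Ω`.
`STRICT_of` takes the statement of Q2-PIG0 as a hypothesis.  (helper39)
-/

namespace Cfsg.Agent.Lib.Helper39_Q2_STRICT

open Module Cfsg.Agent.Lib.Helper94_Symp Cfsg.Agent.Lib.Helper94_OrthSmall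
  Cfsg.Agent.Lib.Helper94_OrthSiegel Cfsg.Agent.Lib.Helper94_OrthNondeg
  Cfsg.Agent.Lib.Helper29_ODDefs Cfsg.Agent.Lib.Helper94_Q2Defs

variable {F : Type*} [Field F] [Finite F] {a b : F} [Fact (∀ r : F, r ^ 2 ≠ a + b * r)] {t : ℕ}
  {S M L : Subgroup (MV a b t ≃ₗ[F] MV a b t)}

/-- the trace of `E` is not identically zero -/
theorem exists_trace_ne_zero : ∃ y : QuadraticAlgebra F a b, QuadraticAlgebra.trace y ≠ 0 := by
  by_cases h2 : (2 : F) = 0
  · refine ⟨QuadraticAlgebra.omega, ?_⟩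
    rw [QuadraticAlgebra.trace_omega]
    intro hb
    haveI : Fintype F := Fintype.ofFinite F
    have hchar : ringChar F = 2 :=
      CharP.ringChar_of_prime_eq_zero Nat.prime_two (by exact_mod_cast h2)
    obtain ⟨r, hr⟩ := FiniteField.isSquare_of_char_two hchar a
    have hfact : ∀ r : F, r ^ 2 ≠ a + b * r := Fact.out
    apply hfact r
    rw [hb, zero_mul, add_zero, hr, sq]
  · refine ⟨1, ?_⟩
    rw [QuadraticAlgebra.trace_one]
    exact h2

/-- the trace form of `E` is nondegenerate -/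
theorem exists_trace_mul_star_ne_zero {c : QuadraticAlgebra F a b} (hc : c ≠ 0) :
    ∃ y : QuadraticAlgebra F a b, QuadraticAlgebra.trace (y * star c) ≠ 0 := by
  obtain ⟨y₀, hy₀⟩ := exists_trace_ne_zero (F := F) (a := a) (b := b)
  have hsc : star c ≠ 0 := by
    intro h
    apply hc
    have := congrArg star h
    rwa [star_star, star_zero] at this
  refine ⟨y₀ * (star c)⁻¹, ?_⟩
  rw [mul_assoc, inv_mul_cancel₀ hsc, mul_one]
  exact hy₀

/-- **Q2-STRICT**, with the statement of Q2-PIG0 (for `ν₁ = ν₂ = 1`) as a hypothesis. -/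
theorem STRICT_of
    (hPIG0 : ∀ ν₁ ν₂ : F, ν₁ ≠ 0 → ν₂ ≠ 0 →
      ∃ z₁ z₂ : QuadraticAlgebra F a b, QuadraticAlgebra.norm z₁ = 1 ∧
        QuadraticAlgebra.norm z₂ = 1 ∧ z₁ ≠ 1 ∧ z₂ ≠ 1 ∧
        ν₁ * QuadraticAlgebra.norm (1 - z₁) + ν₂ * QuadraticAlgebra.norm (1 - z₂) = 0)
    (hS : IsDStab (mD a b t) S) (ht : 3 ≤ t)
    (hG2 : ∀ u z, mQ a b t u = 0 → mB a b t u z = 0 →
      sieg (mQ a b t) (mB a b t) u z ∈ mOm a b t) :
    S ⊓ mOm a b t < mOm a b t := by
  classical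
  obtain ⟨z₁, z₂, hz₁, hz₂, hz₁1, hz₂1, hsum⟩ := hPIG0 1 1 one_ne_zero one_ne_zero
  rw [one_mul, one_mul] at hsum
  -- three indices
  let i0 : Fin t := ⟨0, by omega⟩
  let i1 : Fin t := ⟨1, by omega⟩
  let i2 : Fin t := ⟨2, by omega⟩
  have h01 : i0 ≠ i1 := by
    intro h; have := congrArg Fin.val h; simp [i0, i1] at this
  have h02 : i0 ≠ i2 := by
    intro h; have := congrArg Fin.val h; simp [i0, i2] at this
  have h12 : i1 ≠ i2 := by
    intro h; have := congrArg Fin.val h; simp [i1, i2] at this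
  have hα : (1 - z₁ : QuadraticAlgebra F a b) ≠ 0 := by
    intro h; exact hz₁1 (sub_eq_zero.mp h).symm
  have hβ : (1 - z₂ : QuadraticAlgebra F a b) ≠ 0 := by
    intro h; exact hz₂1 (sub_eq_zero.mp h).symm
  -- the singular vector `u` and the vector `e`
  set u₀ : MV a b t := Pi.single i0 (1 - z₁) with hu₀
  set u₁ : MV a b t := Pi.single i1 (1 - z₂) with hu₁
  set e : MV a b t := Pi.single i2 1 with he
  have hu₀m : u₀ ∈ mD a b t i0 := Helper85_Q2_BASIC.single_mem i0 _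
  have hu₁m : u₁ ∈ mD a b t i1 := Helper85_Q2_BASIC.single_mem i1 _
  have hem : e ∈ mD a b t i2 := Helper85_Q2_BASIC.single_mem i2 _
  have hQu₀ : mQ a b t u₀ = QuadraticAlgebra.norm (1 - z₁) := by
    rw [Helper85_Q2_BASIC.mQ_of_mem hu₀m, hu₀, Pi.single_eq_same]
  have hQu₁ : mQ a b t u₁ = QuadraticAlgebra.norm (1 - z₂) := by
    rw [Helper85_Q2_BASIC.mQ_of_mem hu₁m, hu₁, Pi.single_eq_same]
  have hQe : mQ a b t e = 1 := by
    rw [Helper85_Q2_BASIC.mQ_of_mem hem, he, Pi.single_eq_same, QuadraticAlgebra.norm_one]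
  have hB01 : mB a b t u₀ u₁ = 0 := by
    rw [Helper85_Q2_BASIC.mB_of_mem hu₁m, hu₀, Pi.single_eq_of_ne h01.symm, zero_mul, map_zero]
  have hQu : mQ a b t (u₀ + u₁) = 0 := by
    rw [mQp, hQu₀, hQu₁, hB01, add_zero, hsum]
  have hBue : mB a b t (u₀ + u₁) e = 0 := by
    rw [Helper85_Q2_BASIC.mB_of_mem hem, Pi.add_apply, hu₀, hu₁, Pi.single_eq_of_ne h02.symm,
      Pi.single_eq_of_ne h12.symm, add_zero, zero_mul, map_zero]
  -- the test vector
  obtain ⟨y, hy⟩ := exists_trace_mul_star_ne_zero hα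
  set v : MV a b t := Pi.single i0 y with hv
  have hvm : v ∈ mD a b t i0 := Helper85_Q2_BASIC.single_mem i0 _
  have hBve : mB a b t v e = 0 := by
    rw [Helper85_Q2_BASIC.mB_of_mem hem, hv, Pi.single_eq_of_ne h02.symm, zero_mul, map_zero]
  have hBvu : mB a b t v (u₀ + u₁) = QuadraticAlgebra.trace (y * star (1 - z₁)) := by
    rw [map_add, Helper85_Q2_BASIC.mB_of_mem hu₀m, Helper85_Q2_BASIC.mB_of_mem hu₁m, hv,
      Pi.single_eq_same, Pi.single_eq_of_ne h01.symm, zero_mul, map_zero, add_zero, hu₀,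
      Pi.single_eq_same]
  have hgmem : sieg (mQ a b t) (mB a b t) (u₀ + u₁) e ∈ mOm a b t := hG2 _ _ hQu hBue
  have hgv : sieg (mQ a b t) (mB a b t) (u₀ + u₁) e v =
      v + mB a b t v (u₀ + u₁) • e - mB a b t v e • (u₀ + u₁) -
        (mQ a b t e * mB a b t v (u₀ + u₁)) • (u₀ + u₁) :=
    sieg_apply (mQ a b t) (mB a b t) (mQs a b t) (mQp a b t) hQu hBue v
  rw [hBve, zero_smul, sub_zero, hQe, one_mul, hBvu] at hgv
  -- coordinates of the image
  have hc2 : sieg (mQ a b t) (mB a b t) (u₀ + u₁) e v i2 ≠ 0 := by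
    rw [hgv]
    simp only [Pi.add_apply, Pi.sub_apply, Pi.smul_apply, hv, hu₀, hu₁, he,
      Pi.single_eq_of_ne h02.symm, Pi.single_eq_of_ne h12.symm, Pi.single_eq_same, zero_add,
      add_zero, smul_zero, sub_zero]
    intro h
    rw [smul_eq_zero] at h
    rcases h with h | h
    · exact hy h
    · exact one_ne_zero h
  have hc1 : sieg (mQ a b t) (mB a b t) (u₀ + u₁) e v i1 ≠ 0 := by
    rw [hgv]
    simp only [Pi.add_apply, Pi.sub_apply, Pi.smul_apply, hv, hu₀, hu₁, he,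
      Pi.single_eq_of_ne h01.symm, Pi.single_eq_of_ne h12, Pi.single_eq_same, zero_add,
      add_zero, smul_zero, zero_sub]
    intro h
    rw [neg_eq_zero, smul_eq_zero] at h
    rcases h with h | h
    · exact hy h
    · exact hβ h
  -- the Siegel element is not in `S`
  have hnot : sieg (mQ a b t) (mB a b t) (u₀ + u₁) e ∉ S := by
    intro hgS
    obtain ⟨σ, hσ⟩ := (hS _).mp hgS
    have hmem : sieg (mQ a b t) (mB a b t) (u₀ + u₁) e v ∈ mD a b t (σ i0) := by
      rw [← hσ i0]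
      exact ⟨v, hvm, rfl⟩
    by_cases hσ1 : σ i0 = i1
    · exact hc2 (hmem i2 (by rw [hσ1]; exact h12.symm))
    · exact hc1 (hmem i1 (fun h => hσ1 h.symm))
  refine SetLike.lt_iff_le_and_exists.mpr ⟨inf_le_right, _, hgmem, fun h => hnot h.1⟩

/-- **Q2-STRICT** [M] PIG0 (ν = 1, 1): a singular u with support {0, 1}; a Siegel element at u does not permute the planes. -/
theorem STRICT (hS : IsDStab (mD a b t) S) (ht : 3 ≤ t)
    (hG2 : ∀ u z, mQ a b t u = 0 → mB a b t u z = 0 →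
      sieg (mQ a b t) (mB a b t) u z ∈ mOm a b t) :
    S ⊓ mOm a b t < mOm a b t :=
  STRICT_of (fun ν₁ ν₂ h1 h2 => Helper93_Q2_PIG0.PIG0 ν₁ ν₂ h1 h2) hS ht hG2

end Cfsg.Agent.Lib.Helper39_Q2_STRICT
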