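import Mathlib
import Cfsg.Agent.Lib.Helper94_Q2Defs
import Cfsg.Agent.Lib.Helper42_Q2_DICHaux

/-!
# Q2 market (architect helper94), package Q2-LGRP, auxiliary form

`LGRP_of`: the group `L = M ⊔ R`, `R` the group generated by the block reflections, with the
statement of `BLREFL` as a hypothesis.
-/

set_option autoImplicit false
set_option linter.unusedSectionVars false
set_option linter.unusedVariables false

namespace Cfsg.Agent.Lib.Helper42_Q2_LGRPaux

open Module Cfsg.Agent.Lib.Helper94_Symp Cfsg.Agent.Lib.Helper94_OrthSmall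
  Cfsg.Agent.Lib.Helper94_OrthSiegel Cfsg.Agent.Lib.Helper94_OrthNondeg
  Cfsg.Agent.Lib.Helper29_ODDefs Cfsg.Agent.Lib.Helper94_Q2Defs
  Cfsg.Agent.Lib.Helper42_Q2_DICHaux
open scoped Pointwise

variable {F : Type*} [Field F] {a b : F} {t : ℕ}
  {S M L : Subgroup (MV a b t ≃ₗ[F] MV a b t)}

/-- The group generated by `M` and the block reflections, from `BLREFL`. -/
theorem LGRP_of (hC : Ctx2 a b t S M) (hn : ∀ x, IsBl x → Nrm M x)
    (hBL : ∀ x : MV a b t, IsBl x → ∀ hx' : mQ a b t x ≠ 0, mrefl a b t hx' ∈ S) :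
    ∃ L : Subgroup (MV a b t ≃ₗ[F] MV a b t), M ≤ L ∧ L ≤ oG (mQ a b t) ∧
      (∀ x, IsBl x → ∀ hx : mQ a b t x ≠ 0, mrefl a b t hx ∈ L) ∧ L ⊓ mOm a b t ≤ M := by
  set gens : Set (MV a b t ≃ₗ[F] MV a b t) :=
    {g | ∃ x : MV a b t, IsBl x ∧ ∃ hx : mQ a b t x ≠ 0, g = mrefl a b t hx} with hgens
  set R : Subgroup (MV a b t ≃ₗ[F] MV a b t) := Subgroup.closure gens with hR
  have hMO : M ≤ oG (mQ a b t) := hC.hMO.trans (Subgroup.commutator_le_self _)
  have hRS : R ≤ S := by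
    rw [hR, Subgroup.closure_le]
    rintro g ⟨x, hx, hx', rfl⟩
    exact hBL x hx hx'
  have hRO : R ≤ oG (mQ a b t) := by
    rw [hR, Subgroup.closure_le]
    rintro g ⟨x, hx, hx', rfl⟩
    exact refl_mem (mQ a b t) (mB a b t) (mQs a b t) (mQp a b t) hx'
  have hRN : R ≤ Subgroup.normalizer (M : Set (MV a b t ≃ₗ[F] MV a b t)) := by
    rw [hR, Subgroup.closure_le]
    rintro g ⟨x, hx, hx', rfl⟩
    set r := mrefl a b t hx' with hr
    have hrr : r * r = 1 := mrefl_mul_self hx'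
    have hrinv : r⁻¹ = r := refl_inv (mQ a b t) (mB a b t) (mQs a b t) (mQp a b t) hx'
    show r ∈ Subgroup.normalizer (M : Set (MV a b t ≃ₗ[F] MV a b t))
    rw [Subgroup.mem_normalizer_iff]
    intro m
    rw [hrinv]
    constructor
    · intro hm
      exact hn x hx hx' m hm
    · intro hm
      have h1 := hn x hx hx' _ hm
      have h2 : r * (r * m * r) * r = (r * r) * m * (r * r) := by group
      rw [h2, hrr, one_mul, mul_one] at h1
      exact h1
  refine ⟨M ⊔ R, le_sup_left, sup_le hMO hRO, ?_, ?_⟩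
  · intro x hx hx'
    exact (le_sup_right : R ≤ M ⊔ R) (Subgroup.subset_closure ⟨x, hx, hx', rfl⟩)
  · rintro g ⟨hgL, hgO⟩
    have hset := Subgroup.coe_mul_of_right_le_normalizer_left M R hRN
    have hg' : g ∈ (M : Set (MV a b t ≃ₗ[F] MV a b t)) *
        (R : Set (MV a b t ≃ₗ[F] MV a b t)) := by
      rw [← hset]
      exact hgL
    obtain ⟨m, hm, r, hr, rfl⟩ := hg'
    have hm' : m ∈ M := hm
    have hr' : r ∈ R := hr
    have hrO : r ∈ mOm a b t := by
      have h1 : m⁻¹ * (m * r) ∈ mOm a b t :=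
        mul_mem (inv_mem (hC.hMO hm')) hgO
      rwa [inv_mul_cancel_left] at h1
    have hrM : r ∈ M := hC.hmin.le ⟨hRS hr', hrO⟩
    exact mul_mem hm' hrM

end Cfsg.Agent.Lib.Helper42_Q2_LGRPaux
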