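import Mathlib
import Cfsg.Agent.Lib.Helper94_Q2Defs
import Cfsg.Agent.Lib.Helper53_Q2_BLREFL
import Cfsg.Agent.Lib.Helper42_Q2_LGRPaux

/-!
# Q2 market (architect helper94), package Q2-LGRP (verbatim)
-/

set_option autoImplicit false
set_option linter.unusedSectionVars false
set_option linter.unusedVariables false

namespace Cfsg.Agent.Lib.Helper42_Q2_LGRP

open Module Cfsg.Agent.Lib.Helper94_Symp Cfsg.Agent.Lib.Helper94_OrthSmall
  Cfsg.Agent.Lib.Helper94_OrthSiegel Cfsg.Agent.Lib.Helper94_OrthNondeg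
  Cfsg.Agent.Lib.Helper29_ODDefs Cfsg.Agent.Lib.Helper94_Q2Defs

variable {F : Type*} [Field F] [Finite F] {a b : F} [Fact (∀ r : F, r ^ 2 ≠ a + b * r)] {t : ℕ}
  {S M L : Subgroup (MV a b t ≃ₗ[F] MV a b t)}

/-- **Q2-LGRP** [M] R := closure of the block reflections <= S ⊓ oG; R <= normalizer of M (Nrm, refl_inv); L := M ⊔ R; every element of L is m * r;
if m * r in mOm then r in mOm ⊓ S = H <= M. -/
theorem LGRP (hC : Ctx2 a b t S M) (hn : ∀ x, IsBl x → Nrm M x) :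
    ∃ L : Subgroup (MV a b t ≃ₗ[F] MV a b t), M ≤ L ∧ L ≤ oG (mQ a b t) ∧
      (∀ x, IsBl x → ∀ hx : mQ a b t x ≠ 0, mrefl a b t hx ∈ L) ∧ L ⊓ mOm a b t ≤ M :=
  Cfsg.Agent.Lib.Helper42_Q2_LGRPaux.LGRP_of hC hn
    (fun x hx hx' => Cfsg.Agent.Lib.Helper53_Q2_BLREFL.BLREFL S hC.hS hx hx')

end Cfsg.Agent.Lib.Helper42_Q2_LGRP
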