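import Mathlib
import Cfsg.Agent.Lib.Helper94_Q2Defs

set_option autoImplicit false
set_option linter.unusedSectionVars false
set_option linter.unusedVariables false

/-! Q2-NOTS (helper94's Q2 market): a minimal overgroup of `H = S ⊓ Ω` inside `Ω` is not
contained in `S`. -/

namespace Cfsg.Agent.Lib.Helper94_Q2_NOTS

open Module Cfsg.Agent.Lib.Helper94_Symp Cfsg.Agent.Lib.Helper94_OrthSmall
  Cfsg.Agent.Lib.Helper94_OrthSiegel Cfsg.Agent.Lib.Helper94_OrthNondeg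
  Cfsg.Agent.Lib.Helper29_ODDefs Cfsg.Agent.Lib.Helper94_Q2Defs

variable {F : Type*} [Field F] [Finite F] {a b : F} [Fact (∀ r : F, r ^ 2 ≠ a + b * r)] {t : ℕ}
  {S M L : Subgroup (MV a b t ≃ₗ[F] MV a b t)}

/-- **Q2-NOTS** -/
theorem NOTS (hC : Ctx2 a b t S M) : ∃ g ∈ M, g ∉ S := by
  by_contra h
  push Not at h
  apply hC.hmin.ne
  exact le_antisymm (fun g hg => ⟨h g hg, hC.hMO hg⟩) hC.hmin.le

end Cfsg.Agent.Lib.Helper94_Q2_NOTS
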