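import Mathlib
import Cfsg.Agent.Lib.Helper94_Q2Defs
import Cfsg.Agent.Lib.Helper5_Q2_PERM

set_option autoImplicit false
set_option linter.unusedSectionVars false
set_option linter.unusedVariables false

/-!
Q2 market (helper94 architect), package **Q2-R2**, self-contained core: from a reflection vector
with two nonzero coordinates one gets a reflection vector with three nonzero coordinates.
The inputs of the other packages (R1, Z4, ROTREFL) are taken as hypotheses here.  (helper47)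
-/

namespace Cfsg.Agent.Lib.Helper47_Q2_R2aux

open Module Cfsg.Agent.Lib.Helper94_Symp Cfsg.Agent.Lib.Helper94_OrthSmall
  Cfsg.Agent.Lib.Helper94_OrthSiegel Cfsg.Agent.Lib.Helper94_OrthNondeg
  Cfsg.Agent.Lib.Helper29_ODDefs Cfsg.Agent.Lib.Helper94_Q2Defs

variable {F : Type*} [Field F] [Finite F] {a b : F} [Fact (∀ r : F, r ^ 2 ≠ a + b * r)] {t : ℕ}
  {S M L : Subgroup (MV a b t ≃ₗ[F] MV a b t)}

lemma mem_Supp {x : MV a b t} {l : Fin t} : l ∈ Supp x ↔ x l ≠ 0 := by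
  classical
  unfold Supp
  simp only [Finset.mem_filter, Finset.mem_univ, true_and]

lemma trace_ne_zero_of {ξ : QuadraticAlgebra F a b} (h1 : QuadraticAlgebra.norm ξ = 1)
    (h4 : ξ ^ 4 ≠ 1) : QuadraticAlgebra.trace ξ ≠ 0 := by
  intro h0
  apply h4
  have h := QuadraticAlgebra.sq_eq_trace_smul_sub_norm ξ
  rw [h0, h1, zero_smul, map_one, zero_sub] at h
  calc ξ ^ 4 = (ξ ^ 2) ^ 2 := by ring
    _ = 1 := by rw [h]; ring

lemma one_sub_smul_ne {ξ : QuadraticAlgebra F a b} (h1 : QuadraticAlgebra.norm ξ = 1)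
    (h4 : ξ ^ 4 ≠ 1) (c : F) : (1 : QuadraticAlgebra F a b) - c • ξ ≠ 0 := by
  intro h0
  apply h4
  have h : c • ξ = 1 := (sub_eq_zero.mp h0).symm
  have hn : c * c = 1 := by
    have := congrArg QuadraticAlgebra.norm h
    rw [norm_smul', h1, mul_one, QuadraticAlgebra.norm_one] at this
    exact this
  have hξ : ξ = c • (1 : QuadraticAlgebra F a b) := by
    calc ξ = (c * c) • ξ := by rw [hn, one_smul]
      _ = c • (c • ξ) := by rw [mul_smul]
      _ = c • 1 := by rw [h]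
  rw [hξ]
  calc (c • (1 : QuadraticAlgebra F a b)) ^ 4 = (c * c * (c * c)) • 1 := by
        rw [smul_pow, one_pow]; congr 1; ring
    _ = 1 := by rw [hn, one_mul, one_smul]

/-- `RINV`, proved inline. -/
lemma rinv (hLO : L ≤ oG (mQ a b t)) {w : MV a b t} (hw : InRc L w)
    {g : MV a b t ≃ₗ[F] MV a b t} (hg : g ∈ L) : InRc L (g w) := by
  obtain ⟨hw0, hr⟩ := hw
  have hgO : g ∈ oG (mQ a b t) := hLO hg
  have hgw : mQ a b t (g w) ≠ 0 := by rw [hgO w]; exact hw0
  refine ⟨hgw, ?_⟩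
  have h := conj_refl (mQ a b t) (mB a b t) (mQs a b t) (mQp a b t) hgO hw0
  have h' : mrefl a b t hgw = g * mrefl a b t hw0 * g⁻¹ := h.symm
  rw [h']
  exact L.mul_mem (L.mul_mem hg hr) (L.inv_mem hg)

/-- sums over the model of a function vanishing outside `{l, m}`. -/
lemma sum_two {l m : Fin t} (hlm : l ≠ m) (f : Fin t → F)
    (hf : ∀ j, j ≠ l → j ≠ m → f j = 0) : ∑ j, f j = f l + f m := by
  classical
  rw [← Finset.sum_pair hlm]
  symm
  apply Finset.sum_subset (Finset.subset_univ _)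
  intro j _ hj
  simp only [Finset.mem_insert, Finset.mem_singleton, not_or] at hj
  exact hf j hj.1 hj.2

/-- The core of **Q2-R2**. -/
theorem R2_aux (hC : CtxR a b t S L)
    (hR1 : ∃ w, InRc L w ∧ 2 ≤ (Supp w).card)
    (hZ4 : ∃ z : QuadraticAlgebra F a b, QuadraticAlgebra.norm z = 1 ∧ z ^ 4 ≠ 1)
    (hROT : ∀ (l : Fin t) (z : QuadraticAlgebra F a b), QuadraticAlgebra.norm z = 1 →
      ∃ x y : MV a b t, x ∈ mD a b t l ∧ y ∈ mD a b t l ∧
        ∃ (hx : mQ a b t x ≠ 0) (hy : mQ a b t y ≠ 0),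
          ∀ v j, (mrefl a b t hx * mrefl a b t hy) v j = (if j = l then z else 1) * v j) :
    ∃ w, InRc L w ∧ 3 ≤ (Supp w).card := by
  classical
  obtain ⟨w, hw, h2⟩ := hR1
  by_cases h3 : 3 ≤ (Supp w).card
  · exact ⟨w, hw, h3⟩
  have hcard : (Supp w).card = 2 := by omega
  obtain ⟨l, m, hlm, hS⟩ := Finset.card_eq_two.mp hcard
  have hwl : w l ≠ 0 := mem_Supp.mp (by rw [hS]; simp)
  have hwm : w m ≠ 0 := mem_Supp.mp (by rw [hS]; simp)
  have hw0 : ∀ j, j ≠ l → j ≠ m → w j = 0 := by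
    intro j hjl hjm
    by_contra h
    have hj : j ∈ Supp w := mem_Supp.mpr h
    rw [hS] at hj
    simp only [Finset.mem_insert, Finset.mem_singleton] at hj
    tauto
  obtain ⟨ξ, hξ1, hξ4⟩ := hZ4
  have ht := hC.ht
  obtain ⟨m', -, hm'⟩ : ∃ e ∈ (Finset.univ : Finset (Fin t)), e ∉ ({l, m} : Finset (Fin t)) := by
    apply Finset.exists_mem_notMem_of_card_lt_card
    calc ({l, m} : Finset (Fin t)).card ≤ 2 := Finset.card_le_two
      _ < t := by omega
      _ = (Finset.univ : Finset (Fin t)).card := by simp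
  obtain ⟨m'', -, hm''⟩ :
      ∃ e ∈ (Finset.univ : Finset (Fin t)), e ∉ ({l, m, m'} : Finset (Fin t)) := by
    apply Finset.exists_mem_notMem_of_card_lt_card
    calc ({l, m, m'} : Finset (Fin t)).card ≤ 3 := Finset.card_le_three
      _ < t := by omega
      _ = (Finset.univ : Finset (Fin t)).card := by simp
  simp only [Finset.mem_insert, Finset.mem_singleton, not_or] at hm' hm''
  obtain ⟨hm'l, hm'm⟩ := hm'
  obtain ⟨hm''l, hm''m, hm''m'⟩ := hm''
  -- the even permutation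
  obtain ⟨π, hπdef⟩ : ∃ π : Equiv.Perm (Fin t), π = Equiv.swap m m' * Equiv.swap m' m'' :=
    ⟨_, rfl⟩
  have hπl : π l = l := by
    rw [hπdef, Equiv.Perm.mul_apply,
      Equiv.swap_apply_of_ne_of_ne (Ne.symm hm'l) (Ne.symm hm''l),
      Equiv.swap_apply_of_ne_of_ne hlm (Ne.symm hm'l)]
  have hπm : π m = m' := by
    rw [hπdef, Equiv.Perm.mul_apply,
      Equiv.swap_apply_of_ne_of_ne (Ne.symm hm'm) (Ne.symm hm''m), Equiv.swap_apply_left]
  have hπm'' : π m'' = m := by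
    rw [hπdef, Equiv.Perm.mul_apply, Equiv.swap_apply_right, Equiv.swap_apply_right]
  have hπs : Equiv.Perm.sign π = 1 := by
    rw [hπdef, Equiv.Perm.sign_mul, Equiv.Perm.sign_swap (Ne.symm hm'm),
      Equiv.Perm.sign_swap (Ne.symm hm''m')]
    rfl
  obtain ⟨g, hgO, hgS, hgx, hgOm⟩ := Cfsg.Agent.Lib.Helper5_Q2_PERM.PERM S hC.hS π
  have hgL : g ∈ L := hC.hHL ⟨hgS, hgOm hπs⟩
  -- the rotation
  obtain ⟨x, y, hxl, hyl, hx0, hy0, hc⟩ := hROT l ξ hξ1
  have hxne : x ≠ 0 := by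
    rintro rfl
    exact hx0 (Q_zero (mQ a b t) (mQs a b t))
  have hyne : y ≠ 0 := by
    rintro rfl
    exact hy0 (Q_zero (mQ a b t) (mQs a b t))
  have hcL : mrefl a b t hx0 * mrefl a b t hy0 ∈ L :=
    L.mul_mem (hC.hR x ⟨hxne, l, hxl⟩ hx0) (hC.hR y ⟨hyne, l, hyl⟩ hy0)
  -- the vector `w'`
  obtain ⟨w', hw'def⟩ : ∃ w' : MV a b t, w' = (mrefl a b t hx0 * mrefl a b t hy0) (g w) :=
    ⟨_, rfl⟩
  have hw'R : InRc L w' := by
    rw [hw'def]
    exact rinv hC.hLO (rinv hC.hLO hw hgL) hcL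
  have hw'l : w' l = ξ * w l := by
    rw [hw'def, hc, if_pos rfl]
    have := hgx w l
    rw [hπl] at this
    rw [this]
  have hw'm' : w' m' = w m := by
    rw [hw'def, hc, if_neg hm'l, one_mul]
    have := hgx w m
    rw [hπm] at this
    exact this
  have hw'm : w' m = 0 := by
    rw [hw'def, hc, if_neg (Ne.symm hlm), one_mul]
    have := hgx w m''
    rw [hπm''] at this
    rw [this]
    exact hw0 m'' hm''l hm''m
  have hwm' : w m' = 0 := hw0 m' hm'l hm'm
  obtain ⟨hw'0, hw'L⟩ := hw'R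
  -- the new vector
  refine ⟨mrefl a b t hw'0 w, rinv hC.hLO hw hw'L, ?_⟩
  have hBv : mB a b t w w' =
      QuadraticAlgebra.norm (w l) * QuadraticAlgebra.trace ξ := by
    rw [mB_apply, sum_two hlm]
    · rw [hw'm, star_zero, mul_zero, map_zero, add_zero, hw'l, star_mul, ← mul_assoc,
        ← QuadraticAlgebra.algebraMap_norm_eq_mul_star,
        ← Algebra.smul_def, map_smul, smul_eq_mul, QuadraticAlgebra.trace_star]
    · intro j hjl hjm
      rw [hw0 j hjl hjm, zero_mul, map_zero]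
  obtain ⟨lam, hlam⟩ : ∃ lam : F, lam = (mQ a b t w')⁻¹ * mB a b t w w' := ⟨_, rfl⟩
  have hlam0 : lam ≠ 0 := by
    rw [hlam, hBv]
    refine mul_ne_zero (inv_ne_zero hw'0) (mul_ne_zero ?_ (trace_ne_zero_of hξ1 hξ4))
    rw [Ne, QuadraticAlgebra.norm_eq_zero_iff_eq_zero]
    exact hwl
  have hv : mrefl a b t hw'0 w = w - lam • w' := by
    rw [hlam]
    exact refl_apply (mQ a b t) (mB a b t) (mQs a b t) (mQp a b t) hw'0 w
  have h1 : (mrefl a b t hw'0 w) l ≠ 0 := by
    rw [hv, Pi.sub_apply, Pi.smul_apply, hw'l]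
    have : w l - lam • (ξ * w l) = (1 - lam • ξ) * w l := by
      rw [sub_mul, one_mul, smul_mul_assoc]
    rw [this]
    exact mul_ne_zero (one_sub_smul_ne hξ1 hξ4 lam) hwl
  have h2' : (mrefl a b t hw'0 w) m ≠ 0 := by
    rw [hv, Pi.sub_apply, Pi.smul_apply, hw'm, smul_zero, sub_zero]
    exact hwm
  have h3' : (mrefl a b t hw'0 w) m' ≠ 0 := by
    rw [hv, Pi.sub_apply, Pi.smul_apply, hw'm', hwm', zero_sub, neg_ne_zero]
    exact smul_ne_zero hlam0 hwm
  have hsub : ({l, m, m'} : Finset (Fin t)) ⊆ Supp (mrefl a b t hw'0 w) := by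
    intro j hj
    simp only [Finset.mem_insert, Finset.mem_singleton] at hj
    rcases hj with rfl | rfl | rfl
    · exact mem_Supp.mpr h1
    · exact mem_Supp.mpr h2'
    · exact mem_Supp.mpr h3'
  calc 3 = ({l, m, m'} : Finset (Fin t)).card := by
        rw [Finset.card_insert_of_notMem, Finset.card_insert_of_notMem, Finset.card_singleton]
        · simp only [Finset.mem_singleton]; exact Ne.symm hm'm
        · simp only [Finset.mem_insert, Finset.mem_singleton, not_or]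
          exact ⟨hlm, Ne.symm hm'l⟩
    _ ≤ _ := Finset.card_le_card hsub

end Cfsg.Agent.Lib.Helper47_Q2_R2aux
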