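import Mathlib
import Cfsg.Agent.Lib.Helper94_Q2Defs
import Cfsg.Agent.Lib.Helper93_Q2_E1CARD

set_option autoImplicit false
set_option linter.unusedSectionVars false
set_option linter.unusedVariables false

/-!
Q2 market (helper94 architect), package **Q2-Z4** (parallel copy, used by `Helper47_Q2_R2`):
for `q ≠ 3` some norm-one element of `E` is not a fourth root of unity.  (helper47)
-/

namespace Cfsg.Agent.Lib.Helper47_Q2_Z4

open Module Cfsg.Agent.Lib.Helper94_Symp Cfsg.Agent.Lib.Helper94_OrthSmall
  Cfsg.Agent.Lib.Helper94_OrthSiegel Cfsg.Agent.Lib.Helper94_OrthNondeg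
  Cfsg.Agent.Lib.Helper29_ODDefs Cfsg.Agent.Lib.Helper94_Q2Defs

variable {F : Type*} [Field F] [Finite F] {a b : F} [Fact (∀ r : F, r ^ 2 ≠ a + b * r)] {t : ℕ}
  {S M L : Subgroup (MV a b t ≃ₗ[F] MV a b t)}

/-- **Q2-Z4** -/
theorem Z4 (hq : Nat.card F ≠ 3) :
    ∃ z : QuadraticAlgebra F a b, QuadraticAlgebra.norm z = 1 ∧ z ^ 4 ≠ 1 := by
  classical
  by_contra hno
  push Not at hno
  have : Finite (QuadraticAlgebra F a b) := finite_E
  have hE := Cfsg.Agent.Lib.Helper93_Q2_E1CARD.E1CARD (F := F) (a := a) (b := b)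
  -- the norm-one elements inject into the 4th roots of unity
  have hle : Nat.card {z : QuadraticAlgebra F a b // QuadraticAlgebra.norm z = 1} ≤ 4 := by
    have hinj : Function.Injective
        (fun z : {z : QuadraticAlgebra F a b // QuadraticAlgebra.norm z = 1} =>
          (⟨z.1, (Polynomial.mem_nthRootsFinset (by norm_num) (1 : QuadraticAlgebra F a b)).mpr
            (hno z.1 z.2)⟩ : Polynomial.nthRootsFinset 4 (1 : QuadraticAlgebra F a b))) := by
      intro z w h
      apply Subtype.ext
      exact congrArg (fun u : Polynomial.nthRootsFinset 4 (1 : QuadraticAlgebra F a b) => u.1) h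
    have h1 := Nat.card_le_card_of_injective _ hinj
    rw [Nat.card_eq_finsetCard] at h1
    refine h1.trans ?_
    rw [Polynomial.nthRootsFinset_def]
    exact (Multiset.toFinset_card_le _).trans (Polynomial.card_nthRoots 4 1)
  have hF2 : 2 ≤ Nat.card F := by
    have : Fintype F := Fintype.ofFinite F
    rw [Nat.card_eq_fintype_card]
    exact Fintype.one_lt_card
  have hF : Nat.card F = 2 := by omega
  -- characteristic two
  have h2F : (2 : F) = 0 := by
    have : Fintype F := Fintype.ofFinite F
    have := Nat.cast_card_eq_zero F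
    rw [← Nat.card_eq_fintype_card, hF] at this
    exact_mod_cast this
  have h2E : (2 : QuadraticAlgebra F a b) = 0 := by
    have := congrArg (algebraMap F (QuadraticAlgebra F a b)) h2F
    rwa [map_ofNat, map_zero] at this
  have hone : ∀ z : QuadraticAlgebra F a b, QuadraticAlgebra.norm z = 1 → z = 1 := by
    intro z hz
    have h4 := hno z hz
    have : (z - 1) ^ 4 = 0 := by
      have e : (z - 1) ^ 4 = z ^ 4 - 1 + 2 * (1 - 2 * z ^ 3 + 3 * z ^ 2 - 2 * z) := by ring
      rw [e, h4, h2E]; ring
    exact sub_eq_zero.mp (pow_eq_zero_iff (by norm_num) |>.mp this)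
  have hsub : Nat.card {z : QuadraticAlgebra F a b // QuadraticAlgebra.norm z = 1} ≤ 1 := by
    have : Subsingleton {z : QuadraticAlgebra F a b // QuadraticAlgebra.norm z = 1} :=
      ⟨fun z w => Subtype.ext ((hone z.1 z.2).trans (hone w.1 w.2).symm)⟩
    exact Finite.card_le_one_iff_subsingleton.mpr inferInstance
  omega

end Cfsg.Agent.Lib.Helper47_Q2_Z4
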