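/-
Q2 market (architect helper94), package Q2-ROTREFL: rotations of one coordinate as products of
two reflections in vectors of the coordinate plane.
-/
import Mathlib
import Cfsg.Agent.Lib.Helper94_Q2Defs

set_option autoImplicit false
set_option linter.unusedSectionVars false
set_option linter.unusedVariables false

namespace Cfsg.Agent.Lib.Helper7_Q2_ROTREFL

open Module Cfsg.Agent.Lib.Helper94_Symp Cfsg.Agent.Lib.Helper94_OrthSmall
  Cfsg.Agent.Lib.Helper94_OrthSiegel Cfsg.Agent.Lib.Helper94_OrthNondeg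
  Cfsg.Agent.Lib.Helper29_ODDefs Cfsg.Agent.Lib.Helper94_Q2Defs

variable {F : Type*} [Field F] [Finite F] {a b : F} [Fact (∀ r : F, r ^ 2 ≠ a + b * r)] {t : ℕ}
  {S M L : Subgroup (MV a b t ≃ₗ[F] MV a b t)}

theorem mQ_single (l : Fin t) (ζ : QuadraticAlgebra F a b) :
    mQ a b t (Pi.single l ζ) = QuadraticAlgebra.norm ζ := by
  classical
  rw [mQ_apply, Finset.sum_eq_single l]
  · rw [Pi.single_eq_same]
  · intro j _ hj
    rw [Pi.single_eq_of_ne hj, QuadraticAlgebra.norm_zero]
  · intro h; exact absurd (Finset.mem_univ l) h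

theorem mB_single (l : Fin t) (ζ : QuadraticAlgebra F a b) (v : MV a b t) :
    mB a b t v (Pi.single l ζ) = QuadraticAlgebra.trace (v l * star ζ) := by
  classical
  rw [mB_apply, Finset.sum_eq_single l]
  · rw [Pi.single_eq_same]
  · intro j _ hj
    rw [Pi.single_eq_of_ne hj, star_zero, mul_zero, map_zero]
  · intro h; exact absurd (Finset.mem_univ l) h

theorem single_mem_mD (l : Fin t) (ζ : QuadraticAlgebra F a b) :
    (Pi.single l ζ : MV a b t) ∈ mD a b t l := by
  classical
  intro j hj
  exact Pi.single_eq_of_ne hj _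

/-- the reflection in `ζ e_l` -/
theorem refl_single_apply (l : Fin t) {ζ : QuadraticAlgebra F a b} (hζ : ζ ≠ 0)
    (hx : mQ a b t (Pi.single l ζ) ≠ 0) (v : MV a b t) (j : Fin t) :
    mrefl a b t hx v j = if j = l then -(ζ * (star ζ)⁻¹) * star (v l) else v j := by
  classical
  rw [refl_apply, mQ_single, mB_single, Pi.sub_apply, Pi.smul_apply]
  by_cases hj : j = l
  · subst hj
    rw [if_pos rfl, Pi.single_eq_same, Algebra.smul_def, map_mul, map_inv₀,
      QuadraticAlgebra.algebraMap_norm_eq_mul_star, QuadraticAlgebra.algebraMap_trace_eq_add_star,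
      star_mul, star_star]
    have hs : star ζ ≠ 0 := fun h => hζ (by simpa using congrArg star h)
    field_simp
    ring
  · rw [if_neg hj, Pi.single_eq_of_ne hj, smul_zero, sub_zero]

/-- Hilbert 90 for `E / F` (package Q2-H90, proved here to be self-contained). -/
theorem exists_h90 {z : QuadraticAlgebra F a b} (hz : QuadraticAlgebra.norm z = 1) :
    ∃ ζ : QuadraticAlgebra F a b, ζ ≠ 0 ∧ ζ = z * star ζ := by
  have hzz : z * star z = 1 := by
    rw [← QuadraticAlgebra.algebraMap_norm_eq_mul_star, hz, map_one]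
  by_cases h1 : 1 + z = 0
  · -- z = -1
    by_cases h2 : (2 : F) = 0
    · refine ⟨1, one_ne_zero, ?_⟩
      have hz1 : z = 1 := by
        have h2' : (2 : QuadraticAlgebra F a b) = 0 := by
          rw [← map_ofNat (algebraMap F (QuadraticAlgebra F a b)) 2, h2, map_zero]
        linear_combination h1 - h2'
      rw [hz1, star_one, mul_one]
    · refine ⟨QuadraticAlgebra.omega - star QuadraticAlgebra.omega, ?_, ?_⟩
      · intro h
        have := congrArg QuadraticAlgebra.im h
        simp at this
        apply h2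
        linear_combination this
      · have hz1 : z = -1 := by linear_combination h1
        rw [hz1, star_sub, star_star]; ring
  · refine ⟨1 + z, h1, ?_⟩
    rw [star_add, star_one, mul_add, mul_one, hzz, add_comm]

theorem ROTREFL (l : Fin t) {z : QuadraticAlgebra F a b} (hz : QuadraticAlgebra.norm z = 1) :
    ∃ x y : MV a b t, x ∈ mD a b t l ∧ y ∈ mD a b t l ∧
      ∃ (hx : mQ a b t x ≠ 0) (hy : mQ a b t y ≠ 0),
        ∀ v j, (mrefl a b t hx * mrefl a b t hy) v j = (if j = l then z else 1) * v j := by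
  classical
  obtain ⟨ζ, hζ0, hζ⟩ := exists_h90 hz
  have hx : mQ a b t (Pi.single l ζ) ≠ 0 := by
    rw [mQ_single]
    exact fun h => hζ0 (QuadraticAlgebra.norm_eq_zero_iff_eq_zero.mp h)
  have hy : mQ a b t (Pi.single l (1 : QuadraticAlgebra F a b)) ≠ 0 := by
    rw [mQ_single, map_one]
    exact one_ne_zero
  refine ⟨Pi.single l ζ, Pi.single l 1, single_mem_mD l ζ, single_mem_mD l 1, hx, hy, ?_⟩
  intro v j
  rw [LinearEquiv.mul_apply, refl_single_apply l hζ0 hx, refl_single_apply l one_ne_zero hy]
  by_cases hj : j = l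
  · rw [if_pos hj, if_pos hj, if_pos rfl, star_one, inv_one, mul_one, star_mul, star_neg, star_one,
      star_star, ← hj]
    have hs : star ζ ≠ 0 := fun h => hζ0 (by simpa using congrArg star h)
    have : ζ * (star ζ)⁻¹ = z := by
      rw [eq_comm, eq_mul_inv_iff_mul_eq₀ hs]
      exact hζ.symm
    rw [this]; ring
  · rw [if_neg hj, if_neg hj, refl_single_apply l one_ne_zero hy, if_neg hj, one_mul]

end Cfsg.Agent.Lib.Helper7_Q2_ROTREFL
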