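import Mathlib
import Cfsg.Agent.Lib.Helper94_Q2Defs

set_option autoImplicit false
set_option linter.unusedSectionVars false
set_option linter.unusedVariables false

/-!
Q2 market (helper94), package Q2-R1: in the context of Theorem R some reflection of `L` is the
reflection in a vector with at least two nonzero coordinates.  (helper89)
-/

namespace Cfsg.Agent.Lib.Helper89_Q2_R1

open Module Cfsg.Agent.Lib.Helper94_Symp Cfsg.Agent.Lib.Helper94_OrthSmall
  Cfsg.Agent.Lib.Helper94_OrthSiegel Cfsg.Agent.Lib.Helper94_OrthNondeg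
  Cfsg.Agent.Lib.Helper29_ODDefs Cfsg.Agent.Lib.Helper94_Q2Defs

variable {F : Type*} [Field F] [Finite F] {a b : F} [Fact (∀ r : F, r ^ 2 ≠ a + b * r)] {t : ℕ}
  {S M L : Subgroup (MV a b t ≃ₗ[F] MV a b t)}

/-- A nonzero vector of a coordinate plane is nonsingular. -/
lemma mQ_ne_zero_of_mem {l : Fin t} {x : MV a b t} (hx : x ∈ mD a b t l) (hx0 : x ≠ 0) :
    mQ a b t x ≠ 0 := by
  have hxl : x l ≠ 0 := by
    intro h
    apply hx0
    funext j
    by_cases hj : j = l
    · rw [hj, h]; rfl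
    · exact hx j hj
  have h1 : mQ a b t x = QuadraticAlgebra.norm (x l) := by
    rw [mQ_apply]
    apply Finset.sum_eq_single l
    · intro j _ hj
      rw [hx j hj, QuadraticAlgebra.norm_zero]
    · intro h
      exact absurd (Finset.mem_univ l) h
  rw [h1]
  intro h
  exact hxl (QuadraticAlgebra.norm_eq_zero_iff_eq_zero.mp h)

/-- The set of vectors whose reflection lies in `L` is stable under `L`. -/
lemma inRc_map (hLO : L ≤ oG (mQ a b t)) {w : MV a b t} (hw : InRc L w)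
    {g : MV a b t ≃ₗ[F] MV a b t} (hg : g ∈ L) : InRc L (g w) := by
  obtain ⟨hw0, hwL⟩ := hw
  have hgO := hLO hg
  refine ⟨by rw [hgO]; exact hw0, ?_⟩
  have h := conj_refl (mQ a b t) (mB a b t) (mQs a b t) (mQp a b t) hgO hw0
  unfold mrefl
  rw [← h]
  exact L.mul_mem (L.mul_mem hg hwL) (L.inv_mem hg)

/-- If all reflections of `L` are in vectors with at most one nonzero coordinate, every element
of `L` maps every coordinate plane into a coordinate plane. -/
lemma map_le_of_small (hC : CtxR a b t S L)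
    (hcon : ∀ w, InRc L w → ∀ p p', w p ≠ 0 → w p' ≠ 0 → p = p')
    {g : MV a b t ≃ₗ[F] MV a b t} (hg : g ∈ L) (i : Fin t) :
    ∃ p, (mD a b t i).map (g : MV a b t →ₗ[F] MV a b t) ≤ mD a b t p := by
  classical
  have hin : ∀ x, x ∈ mD a b t i → x ≠ 0 → InRc L (g x) := by
    intro x hx hx0
    have hQ := mQ_ne_zero_of_mem hx hx0
    exact inRc_map hC.hLO ⟨hQ, hC.hR x ⟨hx0, i, hx⟩ hQ⟩ hg
  set x₀ : MV a b t := Pi.single i 1 with hx₀
  have hx₀m : x₀ ∈ mD a b t i := by
    intro j hj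
    rw [hx₀, Pi.single_eq_of_ne hj]
  have hx₀0 : x₀ ≠ 0 := by
    intro h
    have := congrFun h i
    rw [hx₀, Pi.single_eq_same] at this
    exact one_ne_zero this
  have hgx₀ : g x₀ ≠ 0 := by
    intro h
    exact hx₀0 (g.map_eq_zero_iff.mp h)
  obtain ⟨p, hp⟩ : ∃ p, g x₀ p ≠ 0 := by
    by_contra hno
    push Not at hno
    exact hgx₀ (funext hno)
  refine ⟨p, ?_⟩
  rintro y ⟨x, hx, rfl⟩
  intro p' hp'
  by_contra hne
  have hgx : (g x) p' ≠ 0 := hne
  have hx0 : x ≠ 0 := by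
    intro h
    rw [h, map_zero] at hgx
    exact hgx rfl
  have h1 : (g x) p = 0 := by
    by_contra h
    exact hp' (hcon _ (hin x hx hx0) p' p hgx h)
  have h2 : (g x₀) p' = 0 := by
    by_contra h
    exact hp' (hcon _ (hin x₀ hx₀m hx₀0) p' p h hp)
  by_cases hsum : x + x₀ = 0
  · have hx' : x = -x₀ := eq_neg_of_add_eq_zero_left hsum
    apply hgx
    rw [hx', map_neg, Pi.neg_apply, h2, neg_zero]
  · have h3 := hin (x + x₀) ((mD a b t i).add_mem hx hx₀m) hsum
    apply hp'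
    apply hcon _ h3 p' p
    · rw [map_add, Pi.add_apply, h2, add_zero]
      exact hgx
    · rw [map_add, Pi.add_apply, h1, zero_add]
      exact hp

/-- **Q2-R1**. -/
theorem R1 (hC : CtxR a b t S L) : ∃ w, InRc L w ∧ 2 ≤ (Supp w).card := by
  classical
  by_contra hno
  push Not at hno
  have hcon : ∀ w, InRc L w → ∀ p p', w p ≠ 0 → w p' ≠ 0 → p = p' := by
    intro w hw p p' hp hp'
    have h := hno w hw
    have h1 : (Supp w).card ≤ 1 := by omega
    rw [Finset.card_le_one] at h1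
    apply h1
    · unfold Supp
      rw [Finset.mem_filter]
      exact ⟨Finset.mem_univ _, hp⟩
    · unfold Supp
      rw [Finset.mem_filter]
      exact ⟨Finset.mem_univ _, hp'⟩
  apply hC.hLS
  intro g hg
  have hg' : g⁻¹ ∈ L := L.inv_mem hg
  choose f hf using fun i => map_le_of_small hC hcon hg i
  choose f' hf' using fun i => map_le_of_small hC hcon hg' i
  have hne : ∀ i, ∃ x : MV a b t, x ∈ mD a b t i ∧ x i ≠ 0 := by
    intro i
    refine ⟨Pi.single i 1, ?_, ?_⟩
    · intro j hj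
      rw [Pi.single_eq_of_ne hj]
    · rw [Pi.single_eq_same]
      exact one_ne_zero
  have h1 : ∀ i, f' (f i) = i := by
    intro i
    obtain ⟨x, hx, hxi⟩ := hne i
    have h2 : g x ∈ mD a b t (f i) := hf i ⟨x, hx, rfl⟩
    have h3 : g⁻¹ (g x) ∈ mD a b t (f' (f i)) := hf' (f i) ⟨g x, h2, rfl⟩
    have h4 : g⁻¹ (g x) = x := by
      rw [← LinearEquiv.mul_apply, inv_mul_cancel]
      rfl
    rw [h4] at h3
    by_contra hcon'
    exact hxi (h3 i (Ne.symm hcon'))
  have h2 : ∀ j, f (f' j) = j := by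
    intro j
    obtain ⟨x, hx, hxj⟩ := hne j
    have h2 : g⁻¹ x ∈ mD a b t (f' j) := hf' j ⟨x, hx, rfl⟩
    have h3 : g (g⁻¹ x) ∈ mD a b t (f (f' j)) := hf (f' j) ⟨g⁻¹ x, h2, rfl⟩
    have h4 : g (g⁻¹ x) = x := by
      rw [← LinearEquiv.mul_apply, mul_inv_cancel]
      rfl
    rw [h4] at h3
    by_contra hcon'
    exact hxj (h3 j (Ne.symm hcon'))
  rw [hC.hS g]
  refine ⟨⟨f, f', h1, h2⟩, fun i => ?_⟩
  apply le_antisymm (hf i)
  intro y hy
  have h3 : g⁻¹ y ∈ mD a b t (f' (f i)) := hf' (f i) ⟨y, hy, rfl⟩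
  rw [h1] at h3
  refine ⟨g⁻¹ y, h3, ?_⟩
  change g (g⁻¹ y) = y
  rw [← LinearEquiv.mul_apply, mul_inv_cancel]
  rfl

end Cfsg.Agent.Lib.Helper89_Q2_R1
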