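import Mathlib
import Cfsg.Agent.Lib.Helper94_Q2Defs
import Cfsg.Agent.Lib.Helper47_Q2_R2aux
import Cfsg.Agent.Lib.Helper47_Q2_Z4
import Cfsg.Agent.Lib.Helper89_Q2_R1
import Cfsg.Agent.Lib.Helper7_Q2_ROTREFL

set_option autoImplicit false
set_option linter.unusedSectionVars false
set_option linter.unusedVariables false

/-!
Q2 market (helper94 architect), package **Q2-R2**: some reflection vector of `L` has at least
three nonzero coordinates.  (helper47)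
-/

namespace Cfsg.Agent.Lib.Helper47_Q2_R2

open Module Cfsg.Agent.Lib.Helper94_Symp Cfsg.Agent.Lib.Helper94_OrthSmall
  Cfsg.Agent.Lib.Helper94_OrthSiegel Cfsg.Agent.Lib.Helper94_OrthNondeg
  Cfsg.Agent.Lib.Helper29_ODDefs Cfsg.Agent.Lib.Helper94_Q2Defs

variable {F : Type*} [Field F] [Finite F] {a b : F} [Fact (∀ r : F, r ^ 2 ≠ a + b * r)] {t : ℕ}
  {S M L : Subgroup (MV a b t ≃ₗ[F] MV a b t)}

/-- **Q2-R2** -/
theorem R2 (hC : CtxR a b t S L) : ∃ w, InRc L w ∧ 3 ≤ (Supp w).card :=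
  Cfsg.Agent.Lib.Helper47_Q2_R2aux.R2_aux hC (Cfsg.Agent.Lib.Helper89_Q2_R1.R1 hC)
    (Cfsg.Agent.Lib.Helper47_Q2_Z4.Z4 hC.hq)
    (fun l _ hz => Cfsg.Agent.Lib.Helper7_Q2_ROTREFL.ROTREFL l hz)

end Cfsg.Agent.Lib.Helper47_Q2_R2
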