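import Mathlib
import Cfsg.Agent.Lib.Helper94_Q2Defs
import Cfsg.Agent.Lib.Helper93_Q2_TRFIB
import Cfsg.Agent.Lib.Helper93_Q2_E1CARD

set_option autoImplicit false
set_option linter.unusedSectionVars false
set_option linter.unusedVariables false

/-! Package Q2-SPAN of the market q2_packages (architect helper94): the elements `ξ - 1`, `ξ ∈ E¹`, generate the
additive group of `E`. -/

namespace Cfsg.Agent.Lib.Helper93_Q2_SPAN

open Module Cfsg.Agent.Lib.Helper94_Symp Cfsg.Agent.Lib.Helper94_OrthSmall
  Cfsg.Agent.Lib.Helper94_OrthSiegel Cfsg.Agent.Lib.Helper94_OrthNondeg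
  Cfsg.Agent.Lib.Helper29_ODDefs Cfsg.Agent.Lib.Helper94_Q2Defs

variable {F : Type*} [Field F] [Finite F] {a b : F} [Fact (∀ r : F, r ^ 2 ≠ a + b * r)] {t : ℕ}
  {S M L : Subgroup (MV a b t ≃ₗ[F] MV a b t)}

/-- The additive group generated by the `ξ - 1`. -/
def GG (a b : F) : AddSubgroup (QuadraticAlgebra F a b) :=
  AddSubgroup.closure {x | ∃ ξ : QuadraticAlgebra F a b, QuadraticAlgebra.norm ξ = 1 ∧ x = ξ - 1}

/-- `GG` is stable under multiplication by `E¹`. -/
theorem mul_mem_GG {ξ' : QuadraticAlgebra F a b} (hξ' : QuadraticAlgebra.norm ξ' = 1)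
    {g : QuadraticAlgebra F a b} (hg : g ∈ GG a b) : ξ' * g ∈ GG a b := by
  unfold GG at hg ⊢
  induction hg using AddSubgroup.closure_induction with
  | mem x hx =>
    obtain ⟨ξ, hξ, rfl⟩ := hx
    have e : ξ' * (ξ - 1) = (ξ' * ξ - 1) - (ξ' - 1) := by ring
    rw [e]
    apply AddSubgroup.sub_mem
    · exact AddSubgroup.subset_closure ⟨ξ' * ξ, by rw [map_mul, hξ', hξ, one_mul], rfl⟩
    · exact AddSubgroup.subset_closure ⟨ξ', hξ', rfl⟩
  | zero => rw [mul_zero]; exact AddSubgroup.zero_mem _
  | add x y _ _ hx hy => rw [mul_add]; exact AddSubgroup.add_mem _ hx hy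
  | neg x _ hx => rw [mul_neg]; exact AddSubgroup.neg_mem _ hx

/-- The scalars stabilizing `GG`. -/
def TT (a b : F) [Fact (∀ r : F, r ^ 2 ≠ a + b * r)] : AddSubgroup F where
  carrier := {c | ∀ g ∈ GG a b, c • g ∈ GG a b}
  add_mem' := by
    intro c d hc hd g hg
    rw [add_smul]
    exact AddSubgroup.add_mem _ (hc g hg) (hd g hg)
  zero_mem' := by
    intro g _
    rw [zero_smul]
    exact AddSubgroup.zero_mem _
  neg_mem' := by
    intro c hc g hg
    rw [neg_smul]
    exact AddSubgroup.neg_mem _ (hc g hg)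

theorem trace_mem_TT {ξ : QuadraticAlgebra F a b} (hξ : QuadraticAlgebra.norm ξ = 1) :
    QuadraticAlgebra.trace ξ ∈ TT a b := by
  intro g hg
  rw [Algebra.smul_def, QuadraticAlgebra.algebraMap_trace_eq_add_star, add_mul]
  apply AddSubgroup.add_mem _ (mul_mem_GG hξ hg)
  exact mul_mem_GG (by rw [QuadraticAlgebra.norm_star, hξ]) hg

open Classical in
theorem TT_eq_top : TT a b = ⊤ := by
  have : Finite (QuadraticAlgebra F a b) := finite_E
  let _ : Fintype (QuadraticAlgebra F a b) := Fintype.ofFinite _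
  let _ : Fintype F := Fintype.ofFinite _
  let Y : Finset (QuadraticAlgebra F a b) := Finset.univ.filter fun z => QuadraticAlgebra.norm z = 1
  have hYcard : Nat.card F + 1 ≤ Y.card := by
    have h := Cfsg.Agent.Lib.Helper93_Q2_E1CARD.E1CARD (F := F) (a := a) (b := b)
    rw [Nat.card_eq_fintype_card
      (α := {z : QuadraticAlgebra F a b // QuadraticAlgebra.norm z = 1}), Fintype.card_subtype] at h
    exact h
  have hY : ∀ z, z ∈ Y ↔ QuadraticAlgebra.norm z = 1 := by
    intro z
    simp [Y]
  let tr : QuadraticAlgebra F a b → F := fun z => QuadraticAlgebra.trace z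
  -- the fibres of the trace have at most two elements
  have h2 : Y.card ≤ 2 * (Y.image tr).card := by
    apply Finset.card_le_mul_card_image
    intro c hc
    rw [Finset.mem_image] at hc
    obtain ⟨z0, hz0, rfl⟩ := hc
    have hsub : (Y.filter fun z => tr z = tr z0) ⊆ {z0, star z0} := by
      intro z hz
      rw [Finset.mem_filter] at hz
      rcases Cfsg.Agent.Lib.Helper93_Q2_TRFIB.TRFIB ((hY z0).mp hz0) ((hY z).mp hz.1) hz.2.symm with h | h
      · rw [h]; simp
      · rw [h]; simp
    exact le_trans (Finset.card_le_card hsub) Finset.card_le_two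
  -- the image of the trace lies in `TT`
  have h3 : (Y.image tr).card ≤ Nat.card (TT a b) := by
    have hsub : Y.image tr ⊆ Finset.univ.filter fun c => c ∈ TT a b := by
      intro c hc
      rw [Finset.mem_image] at hc
      obtain ⟨z, hz, rfl⟩ := hc
      rw [Finset.mem_filter]
      exact ⟨Finset.mem_univ _, trace_mem_TT ((hY z).mp hz)⟩
    have := Finset.card_le_card hsub
    rwa [← Fintype.card_subtype, ← Nat.card_eq_fintype_card] at this
  have h4 : Nat.card (TT a b) ∣ Nat.card F := AddSubgroup.card_addSubgroup_dvd_card _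
  apply AddSubgroup.eq_top_of_card_eq
  obtain ⟨k, hk⟩ := h4
  have hq : 0 < Nat.card F := Nat.card_pos
  rcases Nat.lt_or_ge k 2 with hk2 | hk2
  · interval_cases k
    · omega
    · omega
  · exfalso
    have : 2 * Nat.card (TT a b) ≤ Nat.card (TT a b) * k := by
      rw [mul_comm]
      exact Nat.mul_le_mul_left _ hk2
    omega

/-- `GG` as a subspace. -/
def WW (a b : F) [Fact (∀ r : F, r ^ 2 ≠ a + b * r)] : Submodule F (QuadraticAlgebra F a b) where
  carrier := GG a b
  add_mem' := fun hx hy => AddSubgroup.add_mem _ hx hy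
  zero_mem' := AddSubgroup.zero_mem _
  smul_mem' := by
    intro c g hg
    have hc : c ∈ TT a b := by rw [TT_eq_top]; exact AddSubgroup.mem_top c
    exact hc g hg

theorem WW_eq_top : WW a b = ⊤ := by
  have : Finite (QuadraticAlgebra F a b) := finite_E
  -- `WW` has at least `q + 1` elements
  have hcard : Nat.card F + 1 ≤ Nat.card (WW a b) := by
    refine le_trans (Cfsg.Agent.Lib.Helper93_Q2_E1CARD.E1CARD (F := F) (a := a) (b := b)) ?_
    apply Nat.card_le_card_of_injective
      (fun z : {z : QuadraticAlgebra F a b // QuadraticAlgebra.norm z = 1} =>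
        (⟨(z : QuadraticAlgebra F a b) - 1, AddSubgroup.subset_closure ⟨z, z.2, rfl⟩⟩ : WW a b))
    intro z w hzw
    have := congrArg Subtype.val hzw
    exact Subtype.ext (sub_left_injective this)
  have hpow : Nat.card (WW a b) = Nat.card F ^ finrank F (WW a b) := Module.natCard_eq_pow_finrank
  have hle : finrank F (WW a b) ≤ 2 := by
    have := Submodule.finrank_le (WW a b)
    rwa [QuadraticAlgebra.finrank_eq_two] at this
  have hq : 2 ≤ Nat.card F := by
    have : 1 < Nat.card F := Finite.one_lt_card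
    omega
  have h2 : finrank F (WW a b) = 2 := by
    interval_cases h : finrank F (WW a b)
    · rw [pow_zero] at hpow; omega
    · rw [pow_one] at hpow; omega
    · rfl
  apply Submodule.eq_top_of_finrank_eq
  rw [h2, QuadraticAlgebra.finrank_eq_two]

/-- **Q2-SPAN** [L]  G := additive closure of {ξ - 1} is inside A.  ξ'(ξ - 1) = (ξ'ξ - 1) - (ξ' - 1): G is stable under E¹; hence under trace ξ = ξ + star ξ
(star ξ = ξ⁻¹ in E¹); the additive subgroup of F generated by the > q/2 values trace ξ is F: G is an F-subspace; it contains the q distinct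
nonzero elements ξ - 1, which do not fit on one F-line (q - 1 nonzero elements): G = E. -/
theorem SPAN (A : AddSubgroup (QuadraticAlgebra F a b))
    (h : ∀ ξ : QuadraticAlgebra F a b, QuadraticAlgebra.norm ξ = 1 → ξ - 1 ∈ A) : A = ⊤ := by
  have hle : GG a b ≤ A := by
    unfold GG
    rw [AddSubgroup.closure_le]
    rintro x ⟨ξ, hξ, rfl⟩
    exact h ξ hξ
  rw [eq_top_iff]
  intro x _
  apply hle
  have : x ∈ WW a b := by rw [WW_eq_top]; exact Submodule.mem_top
  exact this

end Cfsg.Agent.Lib.Helper93_Q2_SPAN
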