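/-
Q2 market (architect helper94), package Q2-SIEGP: from a reflection vector `w` with three
non-zero coordinates `l, m, j` to a singular vector `u` supported on `{l, m}` whose Siegel
elements `sieg u z`, `z ∈ mD j`, lie in `L`.
-/
import Mathlib
import Cfsg.Agent.Lib.Helper94_Q2Defs
import Cfsg.Agent.Lib.Helper7_Q2_ROTREFL
import Cfsg.Agent.Lib.Helper70_Q2_TAN
import Cfsg.Agent.Lib.Helper93_Q2_PIG0
import Cfsg.Agent.Lib.Helper93_Q2_SPAN

set_option autoImplicit false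
set_option linter.unusedSectionVars false
set_option linter.unusedVariables false

namespace Cfsg.Agent.Lib.Helper7_Q2_SIEGP

open Module Cfsg.Agent.Lib.Helper94_Symp Cfsg.Agent.Lib.Helper94_OrthSmall
  Cfsg.Agent.Lib.Helper94_OrthSiegel Cfsg.Agent.Lib.Helper94_OrthNondeg
  Cfsg.Agent.Lib.Helper29_ODDefs Cfsg.Agent.Lib.Helper94_Q2Defs
open Cfsg.Agent.Lib.Helper7_Q2_ROTREFL (mQ_single mB_single single_mem_mD)

variable {F : Type*} [Field F] [Finite F] {a b : F} [Fact (∀ r : F, r ^ 2 ≠ a + b * r)] {t : ℕ}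
  {S M L : Subgroup (MV a b t ≃ₗ[F] MV a b t)}

/-- statement of package Q2-PIG0 -/
def PIG0Stmt (F : Type*) [Field F] (a b : F) : Prop :=
  ∀ (ν₁ ν₂ : F), ν₁ ≠ 0 → ν₂ ≠ 0 →
    ∃ z₁ z₂ : QuadraticAlgebra F a b, QuadraticAlgebra.norm z₁ = 1 ∧
      QuadraticAlgebra.norm z₂ = 1 ∧ z₁ ≠ 1 ∧ z₂ ≠ 1 ∧
      ν₁ * QuadraticAlgebra.norm (1 - z₁) + ν₂ * QuadraticAlgebra.norm (1 - z₂) = 0

/-- statement of package Q2-SPAN -/
def SPANStmt (F : Type*) [Field F] (a b : F) : Prop :=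
  ∀ (A : AddSubgroup (QuadraticAlgebra F a b)),
    (∀ ξ : QuadraticAlgebra F a b, QuadraticAlgebra.norm ξ = 1 → ξ - 1 ∈ A) → A = ⊤

/-- `InRc` is stable under `L` (package Q2-RINV, reproved here). -/
theorem inRc_map (hLO : L ≤ oG (mQ a b t)) {w : MV a b t} (hw : InRc L w)
    {g : MV a b t ≃ₗ[F] MV a b t} (hg : g ∈ L) : InRc L (g w) := by
  obtain ⟨hw0, hwL⟩ := hw
  have hgO := hLO hg
  refine ⟨by rw [hgO]; exact hw0, ?_⟩
  have h := conj_refl (mQ a b t) (mB a b t) (mQs a b t) (mQp a b t) hgO hw0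
  have h2 : g * mrefl a b t hw0 * g⁻¹ ∈ L := L.mul_mem (L.mul_mem hg hwL) (L.inv_mem hg)
  rw [h] at h2
  exact h2

/-- rotations of one coordinate lie in `L` -/
theorem exists_rot (hC : CtxR a b t S L) (l : Fin t) {z : QuadraticAlgebra F a b}
    (hz : QuadraticAlgebra.norm z = 1) :
    ∃ c ∈ L, ∀ v j, c v j = (if j = l then z else 1) * v j := by
  obtain ⟨x, y, hx, hy, hx0, hy0, hact⟩ := Cfsg.Agent.Lib.Helper7_Q2_ROTREFL.ROTREFL (t := t) l hz
  have hne : ∀ {x : MV a b t}, mQ a b t x ≠ 0 → x ≠ 0 := by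
    intro x hx h
    apply hx
    rw [h]
    exact Q_zero (mQ a b t) (mQs a b t)
  refine ⟨mrefl a b t hx0 * mrefl a b t hy0,
    L.mul_mem (hC.hR x ⟨hne hx0, l, hx⟩ hx0) (hC.hR y ⟨hne hy0, l, hy⟩ hy0), hact⟩

/-- orthogonality from equal norms -/
theorem B_eq_zero_of_Q_sub {V : Type*} [AddCommGroup V] [Module F V] (Q : V → F)
    (B : LinearMap.BilinForm F V) (hQs : ∀ (c : F) (v : V), Q (c • v) = c * c * Q v)
    (hQp : ∀ u v : V, Q (u + v) = Q u + Q v + B u v) {x u : V} (h : Q (x - u) = Q x)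
    (hu : Q u = 0) : B u x = 0 := by
  have h1 := hQp (x - u) u
  rw [sub_add_cancel, h, hu, add_zero] at h1
  have h2 : B (x - u) u = 0 := by linear_combination -h1
  rw [map_sub, LinearMap.sub_apply, B_self Q B hQs hQp u, hu, mul_zero, sub_zero] at h2
  rw [B_symm Q B hQp, h2]

/-- the Siegel elements at `u` inside `L`, as an additive subgroup -/
def ZL (L : Subgroup (MV a b t ≃ₗ[F] MV a b t)) (u : MV a b t) (hu : mQ a b t u = 0) :
    AddSubgroup (MV a b t) where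
  carrier := {z | mB a b t u z = 0 ∧ sieg (mQ a b t) (mB a b t) u z ∈ L}
  add_mem' := by
    intro z z' hz hz'
    refine ⟨by rw [map_add, hz.1, hz'.1, add_zero], ?_⟩
    rw [← sieg_mul (mQ a b t) (mB a b t) (mQs a b t) (mQp a b t) hu hz.1 hz'.1]
    exact L.mul_mem hz.2 hz'.2
  zero_mem' := by
    refine ⟨by simp, ?_⟩
    rw [sieg_zero_right (mQ a b t) (mB a b t) (mQs a b t) (mQp a b t) hu]
    exact L.one_mem
  neg_mem' := by
    intro z hz
    refine ⟨by rw [map_neg, hz.1, neg_zero], ?_⟩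
    rw [← sieg_inv (mQ a b t) (mB a b t) (mQs a b t) (mQp a b t) hu hz.1]
    exact L.inv_mem hz.2

theorem mem_ZL {u : MV a b t} {hu : mQ a b t u = 0} {z : MV a b t} :
    z ∈ ZL L u hu ↔ mB a b t u z = 0 ∧ sieg (mQ a b t) (mB a b t) u z ∈ L := Iff.rfl

theorem SIEGP_of (hPIG : PIG0Stmt F a b) (hSPAN : SPANStmt F a b)
    (hC : CtxR a b t S L) {w : MV a b t} (hw : InRc L w) {l m j : Fin t}
    (hlm : l ≠ m) (hlj : l ≠ j) (hmj : m ≠ j) (hl : w l ≠ 0) (hm : w m ≠ 0) (hj : w j ≠ 0) :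
    ∃ u : MV a b t, mQ a b t u = 0 ∧ u l ≠ 0 ∧ u m ≠ 0 ∧ (∀ i, i ≠ l → i ≠ m → u i = 0) ∧
      ∀ z ∈ mD a b t j, InZ (mQ a b t) (mB a b t) L u z := by
  classical
  have hν₁ : QuadraticAlgebra.norm (w l) ≠ 0 :=
    fun h => hl (QuadraticAlgebra.norm_eq_zero_iff_eq_zero.mp h)
  have hν₂ : QuadraticAlgebra.norm (w m) ≠ 0 :=
    fun h => hm (QuadraticAlgebra.norm_eq_zero_iff_eq_zero.mp h)
  obtain ⟨z₁, z₂, hz₁, hz₂, hz₁1, hz₂1, hsum⟩ := hPIG _ _ hν₁ hν₂
  obtain ⟨c₁, hc₁L, hc₁⟩ := exists_rot hC l hz₁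
  obtain ⟨c₂, hc₂L, hc₂⟩ := exists_rot hC m hz₂
  set h : MV a b t ≃ₗ[F] MV a b t := c₁ * c₂ with hh
  have hhL : h ∈ L := L.mul_mem hc₁L hc₂L
  have hhO : h ∈ oG (mQ a b t) := hC.hLO hhL
  have hact : ∀ v i, h v i = (if i = l then z₁ else 1) * ((if i = m then z₂ else 1) * v i) := by
    intro v i
    rw [hh, LinearEquiv.mul_apply, hc₁, hc₂]
  -- the vector `u`
  let u : MV a b t := fun i => if i = l then (1 - z₁) * w l else if i = m then (1 - z₂) * w m else 0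
  have hul : u l = (1 - z₁) * w l := by simp [u]
  have hum : u m = (1 - z₂) * w m := by simp [u, hlm.symm]
  have hu0 : ∀ i, i ≠ l → i ≠ m → u i = 0 := by
    intro i h1 h2; simp [u, h1, h2]
  have huj : u j = 0 := hu0 j hlj.symm hmj.symm
  -- `v - h v = u` whenever `v` agrees with `w` at `l` and `m`
  have hsub : ∀ v : MV a b t, v l = w l → v m = w m → v - h v = u := by
    intro v hvl hvm
    funext i
    rw [Pi.sub_apply, hact]
    by_cases h1 : i = l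
    · subst h1
      rw [if_pos rfl, if_neg hlm, hul, hvl]; ring
    · by_cases h2 : i = m
      · subst h2
        rw [if_neg h1, if_pos rfl, hum, hvm]; ring
      · rw [if_neg h1, if_neg h2, hu0 i h1 h2]; ring
  have hQu : mQ a b t u = 0 := by
    rw [mQ_apply, Finset.sum_eq_add l m hlm]
    · rw [hul, hum, map_mul, map_mul, ← hsum]; ring
    · intro i _ hi
      rw [hu0 i hi.1 hi.2, QuadraticAlgebra.norm_zero]
    · intro h'; exact absurd (Finset.mem_univ l) h'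
    · intro h'; exact absurd (Finset.mem_univ m) h'
  have h1z₁ : (1 : QuadraticAlgebra F a b) - z₁ ≠ 0 := fun h' => hz₁1 (sub_eq_zero.mp h').symm
  have h1z₂ : (1 : QuadraticAlgebra F a b) - z₂ ≠ 0 := fun h' => hz₂1 (sub_eq_zero.mp h').symm
  refine ⟨u, hQu, by rw [hul]; exact mul_ne_zero h1z₁ hl, by rw [hum]; exact mul_ne_zero h1z₂ hm,
    hu0, ?_⟩
  obtain ⟨hw0, hwL⟩ := hw
  -- `mB u z = 0` for `z` in the plane `j`
  have hBuz : ∀ ζ : QuadraticAlgebra F a b, mB a b t u (Pi.single j ζ) = 0 := by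
    intro ζ
    rw [mB_single, huj, zero_mul, map_zero]
  -- the Siegel elements attached to the rotated vectors
  have hS : ∀ ξ : QuadraticAlgebra F a b, QuadraticAlgebra.norm ξ = 1 →
      ∃ v : MV a b t, (∀ i, v i = (if i = j then ξ else 1) * w i) ∧ mB a b t u v = 0 ∧
        sieg (mQ a b t) (mB a b t) u ((mQ a b t w)⁻¹ • v) ∈ L := by
    intro ξ hξ
    obtain ⟨c, hcL, hc⟩ := exists_rot hC j hξ
    have hcO : c ∈ oG (mQ a b t) := hC.hLO hcL
    have hv1 : InRc L (c w) := inRc_map hC.hLO ⟨hw0, hwL⟩ hcL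
    have hv2 : InRc L (h (c w)) := inRc_map hC.hLO hv1 hhL
    obtain ⟨hq1, hr1⟩ := hv1
    obtain ⟨hq2, hr2⟩ := hv2
    have hvl : c w l = w l := by rw [hc, if_neg hlj, one_mul]
    have hvm : c w m = w m := by rw [hc, if_neg hmj, one_mul]
    have hd : c w - h (c w) = u := hsub (c w) hvl hvm
    have hQeq : mQ a b t (c w) = mQ a b t (h (c w)) := (hhO (c w)).symm
    have htan := Cfsg.Agent.Lib.Helper70_Q2_TAN.TAN_mem (mQ a b t) (mB a b t) (mQs a b t)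
      (mQp a b t) hq1 hq2 hQeq (by rw [hd]; exact hQu) L hr1 hr2
    rw [hd, hcO w] at htan
    refine ⟨c w, fun i => hc w i, ?_, ?_⟩
    · apply B_eq_zero_of_Q_sub (mQ a b t) (mB a b t) (mQs a b t) (mQp a b t) _ hQu
      have : c w - u = h (c w) := by rw [← hd]; abel
      rw [this, hhO]
    · exact htan
  obtain ⟨v₁, hv₁, hBv₁, hSv₁⟩ := hS 1 (map_one _)
  -- the additive subgroup `A`
  let φ : QuadraticAlgebra F a b →+ MV a b t :=
    AddMonoidHom.mk' (fun ζ => (mQ a b t w)⁻¹ • (Pi.single j (ζ * w j) : MV a b t)) (by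
      intro ζ ζ'
      rw [add_mul, Pi.single_add, smul_add])
  have hφ : ∀ ζ, φ ζ = (mQ a b t w)⁻¹ • (Pi.single j (ζ * w j) : MV a b t) := fun ζ => rfl
  have hA : (ZL L u hQu).comap φ = ⊤ := by
    apply hSPAN
    intro ξ hξ
    obtain ⟨v, hv, hBv, hSv⟩ := hS ξ hξ
    rw [AddSubgroup.mem_comap, mem_ZL, hφ]
    have hdiff : (mQ a b t w)⁻¹ • (Pi.single j ((ξ - 1) * w j) : MV a b t) =
        (mQ a b t w)⁻¹ • v + -((mQ a b t w)⁻¹ • v₁) := by
      rw [← smul_neg, ← smul_add]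
      congr 1
      funext i
      rw [Pi.add_apply, Pi.neg_apply, hv, hv₁]
      by_cases hi : i = j
      · subst hi
        rw [Pi.single_eq_same, if_pos rfl, if_pos rfl]; ring
      · rw [Pi.single_eq_of_ne hi, if_neg hi, if_neg hi]; ring
    have hB1 : mB a b t u ((mQ a b t w)⁻¹ • v) = 0 := by rw [map_smul, hBv, smul_zero]
    have hB2 : mB a b t u ((mQ a b t w)⁻¹ • v₁) = 0 := by rw [map_smul, hBv₁, smul_zero]
    refine ⟨by rw [map_smul, hBuz, smul_zero], ?_⟩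
    rw [hdiff, ← sieg_mul (mQ a b t) (mB a b t) (mQs a b t) (mQp a b t) hQu hB1
      (by rw [map_neg, hB2, neg_zero]),
      ← sieg_inv (mQ a b t) (mB a b t) (mQs a b t) (mQp a b t) hQu hB2]
    exact L.mul_mem hSv (L.inv_mem hSv₁)
  -- conclusion
  intro z hz
  have hzs : z = Pi.single j (z j) := by
    funext i
    by_cases hi : i = j
    · subst hi; rw [Pi.single_eq_same]
    · rw [Pi.single_eq_of_ne hi, hz i hi]
  refine ⟨by rw [hzs]; exact hBuz _, fun s => ?_⟩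
  have hmem : ((mQ a b t w • (s • z j)) * (w j)⁻¹) ∈ (ZL L u hQu).comap φ := by
    rw [hA]; exact AddSubgroup.mem_top _
  rw [AddSubgroup.mem_comap, mem_ZL, hφ] at hmem
  have he : (mQ a b t w)⁻¹ • (Pi.single j ((mQ a b t w • (s • z j)) * (w j)⁻¹ * w j) : MV a b t) =
      s • z := by
    rw [inv_mul_cancel_right₀ hj]
    funext i
    rw [Pi.smul_apply, Pi.smul_apply]
    by_cases hi : i = j
    · subst hi
      rw [Pi.single_eq_same, inv_smul_smul₀ hw0]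
    · rw [Pi.single_eq_of_ne hi, smul_zero, hz i hi, smul_zero]
  rw [he] at hmem
  exact hmem.2

/-- **Q2-SIEGP** -/
theorem SIEGP (hC : CtxR a b t S L) {w : MV a b t} (hw : InRc L w) {l m j : Fin t}
    (hlm : l ≠ m) (hlj : l ≠ j) (hmj : m ≠ j) (hl : w l ≠ 0) (hm : w m ≠ 0) (hj : w j ≠ 0) :
    ∃ u : MV a b t, mQ a b t u = 0 ∧ u l ≠ 0 ∧ u m ≠ 0 ∧ (∀ i, i ≠ l → i ≠ m → u i = 0) ∧
      ∀ z ∈ mD a b t j, InZ (mQ a b t) (mB a b t) L u z :=
  SIEGP_of (fun ν₁ ν₂ h1 h2 => Cfsg.Agent.Lib.Helper93_Q2_PIG0.PIG0 ν₁ ν₂ h1 h2)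
    (fun A h => Cfsg.Agent.Lib.Helper93_Q2_SPAN.SPAN A h) hC hw hlm hlj hmj hl hm hj

end Cfsg.Agent.Lib.Helper7_Q2_SIEGP
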