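import Mathlib
import Cfsg.Agent.Lib.Helper94_Q2Defs
import Cfsg.Agent.Lib.Helper85_Q2_BASIC

set_option autoImplicit false
set_option linter.unusedSectionVars false
set_option linter.unusedVariables false

/-!
Q2 market (helper94), package Q2-ND: the polar form `mB` of the model is nondegenerate.  (helper85)
-/

namespace Cfsg.Agent.Lib.Helper85_Q2_ND

open Module Cfsg.Agent.Lib.Helper94_Symp Cfsg.Agent.Lib.Helper94_OrthSmall
  Cfsg.Agent.Lib.Helper94_OrthSiegel Cfsg.Agent.Lib.Helper94_OrthNondeg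
  Cfsg.Agent.Lib.Helper29_ODDefs Cfsg.Agent.Lib.Helper94_Q2Defs

variable {F : Type*} [Field F] [Finite F] {a b : F} [Fact (∀ r : F, r ^ 2 ≠ a + b * r)] {t : ℕ}
  {S M L : Subgroup (MV a b t ≃ₗ[F] MV a b t)}

/-- The trace of `E` is not identically zero. -/
theorem exists_trace_ne_zero :
    ∃ w : QuadraticAlgebra F a b, QuadraticAlgebra.trace w ≠ 0 := by
  by_cases h2 : (2 : F) = 0
  · refine ⟨QuadraticAlgebra.omega, ?_⟩
    rw [QuadraticAlgebra.trace_omega]
    intro hb
    have hch : ringChar F = 2 :=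
      CharP.ringChar_of_prime_eq_zero Nat.prime_two (by exact_mod_cast h2)
    obtain ⟨r, hr⟩ := FiniteField.isSquare_of_char_two hch a
    apply (Fact.out : ∀ r : F, r ^ 2 ≠ a + b * r) r
    rw [hb, zero_mul, add_zero, hr, sq]
  · refine ⟨1, ?_⟩
    rw [QuadraticAlgebra.trace_one]
    exact h2

/-- The trace form of the field `E` is nondegenerate. -/
theorem trace_form_nondeg {y : QuadraticAlgebra F a b}
    (h : ∀ ζ : QuadraticAlgebra F a b, QuadraticAlgebra.trace (y * star ζ) = 0) : y = 0 := by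
  by_contra hy
  obtain ⟨w, hw⟩ := exists_trace_ne_zero (F := F) (a := a) (b := b)
  apply hw
  have := h (star (y⁻¹ * w))
  rwa [star_star, ← mul_assoc, mul_inv_cancel₀ hy, one_mul] at this

theorem mB_symm (x y : MV a b t) : mB a b t x y = mB a b t y x :=
  B_symm (mQ a b t) (mB a b t) (mQp a b t) x y

theorem ND : (mB a b t).Nondegenerate := by
  have hL : (mB a b t).SeparatingLeft := by
    intro x hx
    funext l
    apply trace_form_nondeg
    intro ζ
    have := hx (Pi.single l ζ)
    rwa [Cfsg.Agent.Lib.Helper85_Q2_BASIC.mB_of_mem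
      (Cfsg.Agent.Lib.Helper85_Q2_BASIC.single_mem l ζ) x, Pi.single_eq_same] at this
  refine ⟨hL, ?_⟩
  intro y hy
  apply hL y
  intro x
  rw [mB_symm]
  exact hy x

end Cfsg.Agent.Lib.Helper85_Q2_ND
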