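import Mathlib
import Cfsg.Agent.Lib.Helper94_Q2Defs
import Cfsg.Agent.Lib.Helper94_OrthSiegel
import Cfsg.Agent.Lib.Helper94_OrthNondeg

set_option autoImplicit false
set_option linter.unusedSectionVars false
set_option linter.unusedVariables false

namespace Cfsg.Agent.Lib.Helper88_Q2_R5aux

open Module Cfsg.Agent.Lib.Helper94_Symp Cfsg.Agent.Lib.Helper94_OrthSmall
  Cfsg.Agent.Lib.Helper94_OrthSiegel Cfsg.Agent.Lib.Helper94_OrthNondeg
  Cfsg.Agent.Lib.Helper29_ODDefs Cfsg.Agent.Lib.Helper94_Q2Defs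

variable {F : Type*} [Field F] [Finite F] {a b : F} [Fact (∀ r : F, r ^ 2 ≠ a + b * r)] {t : ℕ}
  {S M L : Subgroup (MV a b t ≃ₗ[F] MV a b t)}

/-- Some element of `E` has nonzero trace. -/
lemma exists_trace_ne_zero : ∃ c : QuadraticAlgebra F a b, QuadraticAlgebra.trace c ≠ 0 := by
  by_cases h2 : (2 : F) = 0
  · refine ⟨QuadraticAlgebra.omega, ?_⟩
    rw [QuadraticAlgebra.trace_omega]
    intro hb
    have : CharP F 2 := CharTwo.of_one_ne_zero_of_two_eq_zero one_ne_zero h2
    have hinj : Function.Injective (frobenius F 2) := frobenius_inj F 2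
    have hsurj : Function.Surjective (frobenius F 2) := Finite.surjective_of_injective hinj
    obtain ⟨r, hr⟩ := hsurj a
    rw [frobenius_def] at hr
    have hfact : ∀ r : F, r ^ 2 ≠ a + b * r := Fact.out
    apply hfact r
    rw [hr, hb, zero_mul, add_zero]
  · exact ⟨1, by rw [QuadraticAlgebra.trace_one]; exact h2⟩

/-- The trace form of `E` is nondegenerate. -/
lemma exists_trace_mul_star_ne_zero {w : QuadraticAlgebra F a b} (hw : w ≠ 0) :
    ∃ c : QuadraticAlgebra F a b, QuadraticAlgebra.trace (c * star w) ≠ 0 := by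
  obtain ⟨c', hc'⟩ := exists_trace_ne_zero (F := F) (a := a) (b := b)
  have hsw : star w ≠ 0 := by
    intro h
    exact hw (star_eq_zero.mp h)
  refine ⟨c' * (star w)⁻¹, ?_⟩
  rw [mul_assoc, inv_mul_cancel₀ hsw, mul_one]
  exact hc'

lemma single_mem' (l : Fin t) (ζ : QuadraticAlgebra F a b) :
    (Pi.single l ζ : MV a b t) ∈ mD a b t l := by
  intro j hj
  rw [Pi.single_apply, if_neg hj]

lemma mB_eq_zero_of_disj {x y : MV a b t} (h : ∀ i, x i = 0 ∨ y i = 0) : mB a b t x y = 0 := by
  rw [mB_apply]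
  apply Finset.sum_eq_zero
  intro i _
  rcases h i with h | h <;> simp [h]

lemma mB_single_left (j : Fin t) (ζ : QuadraticAlgebra F a b) (y : MV a b t) :
    mB a b t (Pi.single j ζ) y = QuadraticAlgebra.trace (ζ * star (y j)) := by
  rw [mB_apply, Finset.sum_eq_single j]
  · rw [Pi.single_eq_same]
  · intro i _ hi
    rw [Pi.single_apply, if_neg hi, zero_mul, map_zero]
  · intro h
    exact absurd (Finset.mem_univ j) h


/-- Vectors vanishing at `l` and `m` are in `Z(u)`. -/
lemma InZ_of_vanish {u : MV a b t} {l m : Fin t} (hu : mQ a b t u = 0)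
    (hZ : ∀ j, j ≠ l → j ≠ m → ∀ z ∈ mD a b t j, InZ (mQ a b t) (mB a b t) L u z)
    {v : MV a b t} (hvl : v l = 0) (hvm : v m = 0) : InZ (mQ a b t) (mB a b t) L u v := by
  have hv : v = ∑ j, (Pi.single j (v j) : MV a b t) := (Finset.univ_sum_single v).symm
  rw [hv]
  apply Finset.sum_induction _ (fun w => InZ (mQ a b t) (mB a b t) L u w)
  · intro x y hx hy
    exact InZ_add (mQs a b t) (mQp a b t) hu hx hy
  · exact InZ_zero (mQs a b t) (mQp a b t) hu
  · intro j _
    by_cases hjl : j = l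
    · rw [hjl, hvl, Pi.single_zero]
      exact InZ_zero (mQs a b t) (mQp a b t) hu
    by_cases hjm : j = m
    · rw [hjm, hvm, Pi.single_zero]
      exact InZ_zero (mQs a b t) (mQp a b t) hu
    exact hZ j hjl hjm _ (single_mem' j (v j))

/-- **Q2-R5**, with the permutation elements (package Q2-PERM) as a hypothesis. -/
theorem R5_of
    (hPERM : ∀ π : Equiv.Perm (Fin t), ∃ g : MV a b t ≃ₗ[F] MV a b t,
      g ∈ oG (mQ a b t) ∧ g ∈ S ∧ (∀ x l, g x (π l) = x l) ∧
      (Equiv.Perm.sign π = 1 → g ∈ mOm a b t))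
    (hC : CtxR a b t S L) {u : MV a b t} {l m : Fin t} (hlm : l ≠ m)
    (hu : mQ a b t u = 0) (hul : u l ≠ 0) (hum : u m ≠ 0)
    (hsupp : ∀ i, i ≠ l → i ≠ m → u i = 0)
    (hZ : ∀ j, j ≠ l → j ≠ m → ∀ z ∈ mD a b t j, InZ (mQ a b t) (mB a b t) L u z) :
    ∀ z, mB a b t u z = 0 → sieg (mQ a b t) (mB a b t) u z ∈ L := by
  have hQs := mQs a b t
  have hQp := mQp a b t
  have hsymm := B_symm (mQ a b t) (mB a b t) hQp
  -- two more indices
  have ht := hC.ht
  obtain ⟨l', m', hl'l, hl'm, hm'l, hm'm, hl'm'⟩ :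
      ∃ l' m' : Fin t, l' ≠ l ∧ l' ≠ m ∧ m' ≠ l ∧ m' ≠ m ∧ l' ≠ m' := by
    have hcard : 2 < (({l, m} : Finset (Fin t))ᶜ).card := by
      rw [Finset.card_compl, Fintype.card_fin]
      have : ({l, m} : Finset (Fin t)).card ≤ 2 := Finset.card_le_two
      omega
    obtain ⟨x, hx, y, hy, hxy⟩ := Finset.one_lt_card.mp (by omega : 1 < (({l, m} : Finset (Fin t))ᶜ).card)
    rw [Finset.mem_compl, Finset.mem_insert, Finset.mem_singleton, not_or] at hx hy
    exact ⟨x, y, hx.1, hx.2, hy.1, hy.2, hxy⟩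
  -- the permutation
  set π : Equiv.Perm (Fin t) := Equiv.swap l l' * Equiv.swap m m' with hπ
  have hsign : Equiv.Perm.sign π = 1 := by
    rw [hπ, Equiv.Perm.sign_mul, Equiv.Perm.sign_swap hl'l.symm, Equiv.Perm.sign_swap hm'm.symm]
    rfl
  have hπl : π l = l' := by
    rw [hπ, Equiv.Perm.mul_apply, Equiv.swap_apply_of_ne_of_ne hlm hm'l.symm,
      Equiv.swap_apply_left]
  have hπm : π m = m' := by
    rw [hπ, Equiv.Perm.mul_apply, Equiv.swap_apply_left,
      Equiv.swap_apply_of_ne_of_ne hm'l hl'm'.symm]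
  have hπl' : π l' = l := by
    rw [hπ, Equiv.Perm.mul_apply, Equiv.swap_apply_of_ne_of_ne hl'm hl'm',
      Equiv.swap_apply_right]
  have hπm' : π m' = m := by
    rw [hπ, Equiv.Perm.mul_apply, Equiv.swap_apply_right,
      Equiv.swap_apply_of_ne_of_ne hlm.symm hl'm.symm]
  obtain ⟨g, hgO, hgS, hgπ, hgOm⟩ := hPERM π
  have hgL : g ∈ L := hC.hHL ⟨hgS, hgOm hsign⟩
  -- z' = g u
  have hz'Q : mQ a b t (g u) = 0 := by rw [hgO, hu]
  have hz'l : g u l = 0 := by
    rw [← hπl', hgπ]
    exact hsupp l' hl'l hl'm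
  have hz'm : g u m = 0 := by
    rw [← hπm', hgπ]
    exact hsupp m' hm'l hm'm
  have hz'l' : g u l' = u l := by
    rw [← hπl, hgπ]
  -- z' is orthogonal to everything supported on {l, m}
  have horth : ∀ y : MV a b t, (∀ i, i ≠ l → i ≠ m → y i = 0) → mB a b t (g u) y = 0 := by
    intro y hy
    apply mB_eq_zero_of_disj
    intro i
    by_cases hil : i = l
    · left; rw [hil]; exact hz'l
    by_cases him : i = m
    · left; rw [him]; exact hz'm
    · right; exact hy i hil him
  -- z' is in Z(u)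
  have hz'Z : InZ (mQ a b t) (mB a b t) L u (g u) := InZ_of_vanish hu hZ hz'l hz'm
  -- Z(z') contains the planes `l`, `m`
  have hplane : ∀ k, (k = l ∨ k = m) → ∀ y ∈ mD a b t k,
      InZ (mQ a b t) (mB a b t) L (g u) y := by
    intro k hk y hy
    have h1 : InZ (mQ a b t) (mB a b t) L u (g⁻¹ y) := by
      apply InZ_of_vanish hu hZ
      · -- (g⁻¹ y) l = g (g⁻¹ y) l' = y l'
        have := hgπ (g⁻¹ y) l
        rw [apply_inv_apply', hπl] at this
        rw [← this]
        apply hy
        rcases hk with hk | hk <;> rw [hk]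
        · exact hl'l
        · exact hl'm
      · have := hgπ (g⁻¹ y) m
        rw [apply_inv_apply', hπm] at this
        rw [← this]
        apply hy
        rcases hk with hk | hk <;> rw [hk]
        · exact hm'l
        · exact hm'm
    have h2 := InZ_map hQs hQp hgL hgO hu h1
    rwa [apply_inv_apply'] at h2
  -- vectors supported on {l, m} and orthogonal to u are in Z(u)
  have hkey : ∀ u' : MV a b t, (∀ i, i ≠ l → i ≠ m → u' i = 0) → mB a b t u u' = 0 →
      InZ (mQ a b t) (mB a b t) L u u' := by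
    intro u' hu' huu'
    -- u' ∈ Z(z')
    have hdec : u' = Pi.single l (u' l) + Pi.single m (u' m) := by
      funext i
      rw [Pi.add_apply, Pi.single_apply, Pi.single_apply]
      by_cases hil : i = l
      · rw [if_pos hil, if_neg (by rw [hil]; exact hlm), add_zero, hil]
      by_cases him : i = m
      · rw [if_neg hil, if_pos him, zero_add, him]
      · rw [if_neg hil, if_neg him, add_zero]
        exact hu' i hil him
    have hu'Z : InZ (mQ a b t) (mB a b t) L (g u) u' := by
      rw [hdec]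
      exact InZ_add hQs hQp hz'Q (hplane l (Or.inl rfl) _ (single_mem' l _))
        (hplane m (Or.inr rfl) _ (single_mem' m _))
    have hz'u' : mB a b t (g u) u' = 0 := hu'Z.1
    have hsL : sieg (mQ a b t) (mB a b t) (g u) u' ∈ L := by
      have := hu'Z.2 1
      rwa [one_smul] at this
    have hsO : sieg (mQ a b t) (mB a b t) (g u) u' ∈ oG (mQ a b t) :=
      sieg_mem_oG (mQ a b t) (mB a b t) hQs hQp hz'Q hz'u'
    have huz' : mB a b t u (g u) = 0 := by
      rw [hsymm]
      exact horth u hsupp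
    have hsu : sieg (mQ a b t) (mB a b t) (g u) u' u = u := by
      rw [sieg_apply (mQ a b t) (mB a b t) hQs hQp hz'Q hz'u', huz', huu']
      simp
    -- the test vector x in the plane l'
    obtain ⟨c, hc⟩ := exists_trace_mul_star_ne_zero (F := F) (a := a) (b := b) hul
    set x : MV a b t := Pi.single l' c with hx
    have hxz' : mB a b t x (g u) ≠ 0 := by
      rw [hx, mB_single_left, hz'l']
      exact hc
    have hxZ : InZ (mQ a b t) (mB a b t) L u x := hZ l' hl'l hl'm x (single_mem' l' c)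
    have hsx := InZ_map hQs hQp hsL hsO hu hxZ
    rw [hsu, sieg_apply (mQ a b t) (mB a b t) hQs hQp hz'Q hz'u'] at hsx
    -- solve for u'
    have h3 : InZ (mQ a b t) (mB a b t) L u (mB a b t x (g u) • u') := by
      have e : mB a b t x (g u) • u' =
          (x + mB a b t x (g u) • u' - mB a b t x u' • g u -
            (mQ a b t u' * mB a b t x (g u)) • g u) - x +
          (mB a b t x u' + mQ a b t u' * mB a b t x (g u)) • g u := by
        module
      rw [e]
      exact InZ_add hQs hQp hu (InZ_sub hQs hQp hu hsx hxZ) (InZ_smul _ hz'Z)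
    have h4 := InZ_smul (mB a b t x (g u))⁻¹ h3
    rwa [smul_smul, inv_mul_cancel₀ hxz', one_smul] at h4
  -- conclusion
  intro z hz
  set u' : MV a b t := fun i => if i = l ∨ i = m then z i else 0 with hu'def
  have hv1 : (z - u') l = 0 := by
    rw [Pi.sub_apply, hu'def]
    simp
  have hv2 : (z - u') m = 0 := by
    rw [Pi.sub_apply, hu'def]
    simp
  have hvZ : InZ (mQ a b t) (mB a b t) L u (z - u') := InZ_of_vanish hu hZ hv1 hv2
  have hu'supp : ∀ i, i ≠ l → i ≠ m → u' i = 0 := by
    intro i hil him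
    rw [hu'def]
    simp [hil, him]
  have huu' : mB a b t u u' = 0 := by
    have h1 : mB a b t u u' = mB a b t u z - mB a b t u (z - u') := by
      rw [map_sub]; ring
    rw [h1, hz, hvZ.1, sub_zero]
  have hall := InZ_add hQs hQp hu (hkey u' hu'supp huu') hvZ
  rw [add_sub_cancel] at hall
  have := hall.2 1
  rwa [one_smul] at this

end Cfsg.Agent.Lib.Helper88_Q2_R5aux
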