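import Mathlib
import Cfsg.Agent.Lib.Helper94_Q2Defs
import Cfsg.Agent.Lib.Helper5_Q2_PERM
import Cfsg.Agent.Lib.Helper88_Q2_R5aux

set_option autoImplicit false
set_option linter.unusedSectionVars false
set_option linter.unusedVariables false

/-!
Q2 market (helper94 architect), package **Q2-R5**: if the part of the Siegel group at the singular
vector `u` (support `{l, m}`) contained in `L` contains all the planes `mD j`, `j ∉ {l, m}`, then it
is the full Siegel group at `u`.  Verbatim form; proof in `Helper88_Q2_R5aux` (hypothesis form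
`R5_of`), the permutation elements from `Helper5_Q2_PERM`.  (helper88)
-/

namespace Cfsg.Agent.Lib.Helper88_Q2_R5

open Module Cfsg.Agent.Lib.Helper94_Symp Cfsg.Agent.Lib.Helper94_OrthSmall
  Cfsg.Agent.Lib.Helper94_OrthSiegel Cfsg.Agent.Lib.Helper94_OrthNondeg
  Cfsg.Agent.Lib.Helper29_ODDefs Cfsg.Agent.Lib.Helper94_Q2Defs

variable {F : Type*} [Field F] [Finite F] {a b : F} [Fact (∀ r : F, r ^ 2 ≠ a + b * r)] {t : ℕ}
  {S M L : Subgroup (MV a b t ≃ₗ[F] MV a b t)}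

/-- **Q2-R5** -/
theorem R5 (hC : CtxR a b t S L) {u : MV a b t} {l m : Fin t} (hlm : l ≠ m)
    (hu : mQ a b t u = 0) (hul : u l ≠ 0) (hum : u m ≠ 0)
    (hsupp : ∀ i, i ≠ l → i ≠ m → u i = 0)
    (hZ : ∀ j, j ≠ l → j ≠ m → ∀ z ∈ mD a b t j, InZ (mQ a b t) (mB a b t) L u z) :
    ∀ z, mB a b t u z = 0 → sieg (mQ a b t) (mB a b t) u z ∈ L :=
  Cfsg.Agent.Lib.Helper88_Q2_R5aux.R5_of
    (fun π => Cfsg.Agent.Lib.Helper5_Q2_PERM.PERM S hC.hS π) hC hlm hu hul hum hsupp hZ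

end Cfsg.Agent.Lib.Helper88_Q2_R5
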