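import Mathlib
import Cfsg.Agent.Lib.Helper94_Q2Defs
import Cfsg.Agent.Lib.Helper5_Q2_PERM

set_option autoImplicit false
set_option linter.unusedSectionVars false
set_option linter.unusedVariables false

/-!
Q2 market (helper94), package Q2-SIEGP2: transport of the Siegel part at `u` from one coordinate
plane to the others by an even coordinate permutation fixing `u`.  `SIEGP2_of` takes the statement
of package Q2-PERM as a hypothesis; `SIEGP2` is the package statement.  (helper89)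
-/

namespace Cfsg.Agent.Lib.Helper89_Q2_SIEGP2

open Module Cfsg.Agent.Lib.Helper94_Symp Cfsg.Agent.Lib.Helper94_OrthSmall
  Cfsg.Agent.Lib.Helper94_OrthSiegel Cfsg.Agent.Lib.Helper94_OrthNondeg
  Cfsg.Agent.Lib.Helper29_ODDefs Cfsg.Agent.Lib.Helper94_Q2Defs

variable {F : Type*} [Field F] [Finite F] {a b : F} [Fact (∀ r : F, r ^ 2 ≠ a + b * r)] {t : ℕ}
  {S M L : Subgroup (MV a b t ≃ₗ[F] MV a b t)}

/-- With `t ≥ 5` there is a coordinate outside any four given ones. -/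
lemma exists_fifth (ht : 5 ≤ t) (l m j j' : Fin t) :
    ∃ k : Fin t, k ≠ l ∧ k ≠ m ∧ k ≠ j ∧ k ≠ j' := by
  classical
  by_contra hno
  push Not at hno
  have hsub : (Finset.univ : Finset (Fin t)) ⊆ {l, m, j, j'} := by
    intro k _
    simp only [Finset.mem_insert, Finset.mem_singleton]
    by_cases h1 : k = l
    · exact Or.inl h1
    by_cases h2 : k = m
    · exact Or.inr (Or.inl h2)
    by_cases h3 : k = j
    · exact Or.inr (Or.inr (Or.inl h3))
    exact Or.inr (Or.inr (Or.inr (hno k h1 h2 h3)))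
  have hc := Finset.card_le_card hsub
  rw [Finset.card_univ, Fintype.card_fin] at hc
  have h4 : ({l, m, j, j'} : Finset (Fin t)).card ≤ 4 := Finset.card_le_four
  omega

/-- **Q2-SIEGP2**, with the statement of Q2-PERM as a hypothesis. -/
theorem SIEGP2_of
    (hPERM : ∀ (S : Subgroup (MV a b t ≃ₗ[F] MV a b t)) (hS : IsDStab (mD a b t) S)
      (π : Equiv.Perm (Fin t)),
      ∃ g : MV a b t ≃ₗ[F] MV a b t, g ∈ oG (mQ a b t) ∧ g ∈ S ∧ (∀ x l, g x (π l) = x l) ∧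
        (Equiv.Perm.sign π = 1 → g ∈ mOm a b t))
    (hC : CtxR a b t S L) {u : MV a b t} {l m j : Fin t} (hlm : l ≠ m)
    (hu : mQ a b t u = 0) (hsupp : ∀ i, i ≠ l → i ≠ m → u i = 0) (hjl : j ≠ l) (hjm : j ≠ m)
    (hj : ∀ z ∈ mD a b t j, InZ (mQ a b t) (mB a b t) L u z) :
    ∀ j', j' ≠ l → j' ≠ m → ∀ z ∈ mD a b t j', InZ (mQ a b t) (mB a b t) L u z := by
  classical
  intro j' hj'l hj'm z hz
  by_cases hjj' : j' = j
  · rw [hjj'] at hz
    exact hj z hz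
  obtain ⟨k, hkl, hkm, hkj, hkj'⟩ := exists_fifth hC.ht l m j j'
  -- the 3-cycle j ↦ j' ↦ k ↦ j
  set π : Equiv.Perm (Fin t) := Equiv.swap j j' * Equiv.swap j' k with hπ
  have hsign : Equiv.Perm.sign π = 1 := by
    rw [hπ, map_mul, Equiv.Perm.sign_swap (Ne.symm hjj'), Equiv.Perm.sign_swap (Ne.symm hkj')]
    rfl
  have hπj : π j = j' := by
    rw [hπ, Equiv.Perm.mul_apply, Equiv.swap_apply_of_ne_of_ne (Ne.symm hjj') (Ne.symm hkj),
      Equiv.swap_apply_left]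
  have hπfix : ∀ i, i ≠ j → i ≠ j' → i ≠ k → π i = i := by
    intro i h1 h2 h3
    rw [hπ, Equiv.Perm.mul_apply, Equiv.swap_apply_of_ne_of_ne h2 h3,
      Equiv.swap_apply_of_ne_of_ne h1 h2]
  have hπj' : π j' = k := by
    rw [hπ, Equiv.Perm.mul_apply, Equiv.swap_apply_left,
      Equiv.swap_apply_of_ne_of_ne hkj hkj']
  have hπk : π k = j := by
    rw [hπ, Equiv.Perm.mul_apply, Equiv.swap_apply_right, Equiv.swap_apply_right]
  obtain ⟨g, hgO, hgS, hgact, hgOm⟩ := hPERM S hC.hS π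
  have hgL : g ∈ L := hC.hHL ⟨hgS, hgOm hsign⟩
  -- `g` fixes `u`
  have hu0 : ∀ i, i = j ∨ i = j' ∨ i = k → u i = 0 := by
    rintro i (rfl | rfl | rfl)
    · exact hsupp _ hjl hjm
    · exact hsupp _ hj'l hj'm
    · exact hsupp _ hkl hkm
  have hgu : g u = u := by
    funext i
    obtain ⟨i₀, rfl⟩ := π.surjective i
    rw [hgact]
    by_cases h1 : i₀ = j
    · rw [h1, hπj, hu0 j (Or.inl rfl), hu0 j' (Or.inr (Or.inl rfl))]
    by_cases h2 : i₀ = j'
    · rw [h2, hπj', hu0 j' (Or.inr (Or.inl rfl)), hu0 k (Or.inr (Or.inr rfl))]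
    by_cases h3 : i₀ = k
    · rw [h3, hπk, hu0 k (Or.inr (Or.inr rfl)), hu0 j (Or.inl rfl)]
    rw [hπfix i₀ h1 h2 h3]
  -- `g⁻¹ z` lies in the plane `j`
  have hgg : g (g⁻¹ z) = z := by
    rw [← LinearEquiv.mul_apply, mul_inv_cancel]
    rfl
  have hz' : g⁻¹ z ∈ mD a b t j := by
    intro i hi
    have h1 : g (g⁻¹ z) (π i) = (g⁻¹ z) i := hgact _ i
    rw [hgg] at h1
    rw [← h1]
    apply hz
    intro h2
    apply hi
    apply π.injective
    rw [h2, hπj]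
  have h3 := InZ_map (mQs a b t) (mQp a b t) hgL hgO hu (hj _ hz')
  rw [hgu, hgg] at h3
  exact h3

/-- **Q2-SIEGP2**. -/
theorem SIEGP2 (hC : CtxR a b t S L) {u : MV a b t} {l m j : Fin t} (hlm : l ≠ m)
    (hu : mQ a b t u = 0) (hsupp : ∀ i, i ≠ l → i ≠ m → u i = 0) (hjl : j ≠ l) (hjm : j ≠ m)
    (hj : ∀ z ∈ mD a b t j, InZ (mQ a b t) (mB a b t) L u z) :
    ∀ j', j' ≠ l → j' ≠ m → ∀ z ∈ mD a b t j', InZ (mQ a b t) (mB a b t) L u z :=
  SIEGP2_of (fun S hS π => Cfsg.Agent.Lib.Helper5_Q2_PERM.PERM S hS π) hC hlm hu hsupp hjl hjm hj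

end Cfsg.Agent.Lib.Helper89_Q2_SIEGP2
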