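import Mathlib
import Cfsg.Agent.Lib.Helper94_Q2Defs
import Cfsg.Agent.Lib.Helper94_OrthVec
import Cfsg.Agent.Lib.Helper47_Q2_R2
import Cfsg.Agent.Lib.Helper7_Q2_SIEGP
import Cfsg.Agent.Lib.Helper89_Q2_SIEGP2
import Cfsg.Agent.Lib.Helper88_Q2_R5
import Cfsg.Agent.Lib.Helper71_Q2_Z4
import Cfsg.Agent.Lib.Helper7_Q2_ROTREFL
import Cfsg.Agent.Lib.Helper85_Q2_ND

set_option autoImplicit false
set_option linter.unusedSectionVars false
set_option linter.unusedVariables false

/-! Q2-RMAIN (helper94's Q2 market): Theorem R, assembly. -/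

namespace Cfsg.Agent.Lib.Helper94_Q2_RMAIN

open Module Cfsg.Agent.Lib.Helper94_Symp Cfsg.Agent.Lib.Helper94_OrthSmall
  Cfsg.Agent.Lib.Helper94_OrthSiegel Cfsg.Agent.Lib.Helper94_OrthNondeg
  Cfsg.Agent.Lib.Helper29_ODDefs Cfsg.Agent.Lib.Helper94_Q2Defs

open Cfsg.Agent.Lib.Helper47_Q2_R2 (R2)
open Cfsg.Agent.Lib.Helper7_Q2_SIEGP (SIEGP)
open Cfsg.Agent.Lib.Helper89_Q2_SIEGP2 (SIEGP2)
open Cfsg.Agent.Lib.Helper88_Q2_R5 (R5)
open Cfsg.Agent.Lib.Helper71_Q2_Z4 (Z4)
open Cfsg.Agent.Lib.Helper7_Q2_ROTREFL (ROTREFL)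
open Cfsg.Agent.Lib.Helper85_Q2_ND (ND)

variable {F : Type*} [Field F] [Finite F] {a b : F} [Fact (∀ r : F, r ^ 2 ≠ a + b * r)] {t : ℕ}
  {S M L : Subgroup (MV a b t ≃ₗ[F] MV a b t)}

lemma mem_Supp {x : MV a b t} {l : Fin t} : l ∈ Supp x ↔ x l ≠ 0 := by
  classical
  unfold Supp
  simp

lemma trace_mul_star_mul (ξ u : QuadraticAlgebra F a b) :
    QuadraticAlgebra.trace (u * star (ξ * u)) =
      QuadraticAlgebra.norm u * QuadraticAlgebra.trace ξ := by
  simp only [QuadraticAlgebra.trace_def, QuadraticAlgebra.norm_def, QuadraticAlgebra.re_mul,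
    QuadraticAlgebra.im_mul, QuadraticAlgebra.re_star, QuadraticAlgebra.im_star]
  ring

lemma trace_mul_star_self (u : QuadraticAlgebra F a b) :
    QuadraticAlgebra.trace (u * star u) = 2 * QuadraticAlgebra.norm u := by
  simp only [QuadraticAlgebra.trace_def, QuadraticAlgebra.norm_def, QuadraticAlgebra.re_mul,
    QuadraticAlgebra.im_mul, QuadraticAlgebra.re_star, QuadraticAlgebra.im_star]
  ring

lemma norm_one_sub (ξ : QuadraticAlgebra F a b) (hξ : QuadraticAlgebra.norm ξ = 1) :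
    QuadraticAlgebra.norm (1 - ξ) = 2 - QuadraticAlgebra.trace ξ := by
  have h := hξ
  simp only [QuadraticAlgebra.norm_def] at h
  simp only [QuadraticAlgebra.trace_def, QuadraticAlgebra.norm_def, QuadraticAlgebra.re_sub,
    QuadraticAlgebra.im_sub, QuadraticAlgebra.re_one, QuadraticAlgebra.im_one]
  linear_combination h

/-- **Q2-RMAIN** Theorem R -/
theorem RMAIN (hC : CtxR a b t S L) :
    ∀ u z, mQ a b t u = 0 → mB a b t u z = 0 → sieg (mQ a b t) (mB a b t) u z ∈ L := by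
  classical
  have hQs := mQs a b t
  have hQp := mQp a b t
  obtain ⟨w, hw, h3⟩ := R2 hC
  obtain ⟨l, hl, m, hm, j, hj, hlm, hlj, hmj⟩ := Finset.two_lt_card.mp (by omega : 2 < (Supp w).card)
  rw [mem_Supp] at hl hm hj
  obtain ⟨u, hu, hul, hum, hsupp, hZj⟩ := SIEGP hC hw hlm hlj hmj hl hm hj
  have hZ := SIEGP2 hC hlm hu hsupp (Ne.symm hlj) (Ne.symm hmj) hZj
  have hfull := R5 hC hlm hu hul hum hsupp hZ
  -- a rotation of coordinate `l`
  obtain ⟨ξ, hξ, hξ4⟩ := Z4 (a := a) (b := b) hC.hq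
  have hξ1 : ξ ≠ 1 := by
    rintro rfl
    exact hξ4 (one_pow 4)
  obtain ⟨x, y, hx, hy, hx0, hy0, hrot⟩ := ROTREFL (t := t) l hξ
  have hxb : IsBl x := ⟨by rintro rfl; exact hx0 (Q_zero _ hQs), l, hx⟩
  have hyb : IsBl y := ⟨by rintro rfl; exact hy0 (Q_zero _ hQs), l, hy⟩
  set g : MV a b t ≃ₗ[F] MV a b t := mrefl a b t hx0 * mrefl a b t hy0 with hg
  have hgL : g ∈ L := L.mul_mem (hC.hR x hxb hx0) (hC.hR y hyb hy0)
  have hgO : g ∈ oG (mQ a b t) := hC.hLO hgL
  have hu2 : mQ a b t (g u) = 0 := by rw [hgO, hu]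
  have hfull2 : ∀ z, mB a b t (g u) z = 0 → sieg (mQ a b t) (mB a b t) (g u) z ∈ L := by
    intro z hz
    have hz' : mB a b t u (g⁻¹ z) = 0 := by
      rw [← oG_B _ _ hQp hgO, apply_inv_apply']
      exact hz
    have := conj_sieg (mQ a b t) (mB a b t) hQs hQp hgO hu hz'
    rw [apply_inv_apply'] at this
    rw [← this]
    exact L.mul_mem (L.mul_mem hgL (hfull _ hz')) (L.inv_mem hgL)
  -- the two singular vectors are not orthogonal
  have hsum : mQ a b t u = QuadraticAlgebra.norm (u l) + QuadraticAlgebra.norm (u m) := by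
    rw [mQ_apply]
    apply Finset.sum_eq_add l m hlm
    · intro c _ hc
      rw [hsupp c hc.1 hc.2, QuadraticAlgebra.norm_zero]
    · intro h; exact absurd (Finset.mem_univ l) h
    · intro h; exact absurd (Finset.mem_univ m) h
  have h12 : mB a b t u (g u) ≠ 0 := by
    have e1 : mB a b t u (g u) =
        QuadraticAlgebra.trace (u l * star (g u l)) +
          QuadraticAlgebra.trace (u m * star (g u m)) := by
      rw [mB_apply]
      apply Finset.sum_eq_add l m hlm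
      · intro c _ hc
        rw [hsupp c hc.1 hc.2, zero_mul, map_zero]
      · intro h; exact absurd (Finset.mem_univ l) h
      · intro h; exact absurd (Finset.mem_univ m) h
    have e2 : g u l = ξ * u l := by rw [hg, hrot, if_pos rfl]
    have e3 : g u m = u m := by rw [hg, hrot, if_neg (Ne.symm hlm), one_mul]
    rw [e1, e2, e3, trace_mul_star_mul, trace_mul_star_self]
    have hn : QuadraticAlgebra.norm (u m) = - QuadraticAlgebra.norm (u l) := by
      rw [hu] at hsum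
      linear_combination -hsum
    rw [hn]
    have e4 : QuadraticAlgebra.norm (u l) * QuadraticAlgebra.trace ξ +
        2 * -QuadraticAlgebra.norm (u l) =
        -(QuadraticAlgebra.norm (u l) * QuadraticAlgebra.norm (1 - ξ)) := by
      rw [norm_one_sub ξ hξ]; ring
    rw [e4, neg_ne_zero]
    apply mul_ne_zero
    · rwa [Ne, QuadraticAlgebra.norm_eq_zero_iff_eq_zero]
    · rw [Ne, QuadraticAlgebra.norm_eq_zero_iff_eq_zero, sub_eq_zero]
      exact fun h => hξ1 h.symm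
  exact Cfsg.Agent.Lib.Helper94_OrthVec.all_of_pair (mQ a b t) (mB a b t) hQs hQp ND L hC.hLO
    ⟨hu, hfull⟩ ⟨hu2, hfull2⟩ h12

end Cfsg.Agent.Lib.Helper94_Q2_RMAIN
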