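import Mathlib
import Cfsg.Agent.Lib.Helper94_Q2Defs

set_option autoImplicit false
set_option linter.unusedSectionVars false
set_option linter.unusedVariables false

/-!
helper73 — package Q2-ROTB of helper94's Q2 market: the multiplication of one coordinate by `z ^ 2`
(`norm z = 1`) is a commutator of isometries.  Reusable: `dmul` (diagonal multiplication), `cconj`
(conjugation of one coordinate), `dmul_mem_oG`, `cconj_mem_oG`.
-/

namespace Cfsg.Agent.Lib.Helper73_Q2_ROTB

open Module Cfsg.Agent.Lib.Helper94_Symp Cfsg.Agent.Lib.Helper94_OrthSmall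
  Cfsg.Agent.Lib.Helper94_OrthSiegel Cfsg.Agent.Lib.Helper94_OrthNondeg
  Cfsg.Agent.Lib.Helper29_ODDefs Cfsg.Agent.Lib.Helper94_Q2Defs

variable {F : Type*} [Field F] [Finite F] {a b : F} [Fact (∀ r : F, r ^ 2 ≠ a + b * r)] {t : ℕ}
  {S M L : Subgroup (MV a b t ≃ₗ[F] MV a b t)}

theorem star_smul' (c : F) (w : QuadraticAlgebra F a b) : star (c • w) = c • star w := by
  ext
  · simp
    ring
  · simp

theorem mul_star_of_norm {z : QuadraticAlgebra F a b} (hz : QuadraticAlgebra.norm z = 1) :
    z * star z = 1 := by
  rw [← QuadraticAlgebra.algebraMap_norm_eq_mul_star, hz, map_one]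

/-- the diagonal multiplication `x ↦ (u j * x j)_j` -/
def dmul (u v : Fin t → QuadraticAlgebra F a b) (huv : ∀ j, u j * v j = 1) :
    MV a b t ≃ₗ[F] MV a b t where
  toFun x := fun j => u j * x j
  map_add' x y := by
    funext j
    simp only [Pi.add_apply, mul_add]
  map_smul' c x := by
    funext j
    simp only [Pi.smul_apply, mul_smul_comm, RingHom.id_apply]
  invFun x := fun j => v j * x j
  left_inv x := by
    funext j
    show v j * (u j * x j) = x j
    rw [← mul_assoc, mul_comm (v j), huv, one_mul]
  right_inv x := by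
    funext j
    show u j * (v j * x j) = x j
    rw [← mul_assoc, huv, one_mul]

theorem dmul_apply (u v : Fin t → QuadraticAlgebra F a b) (huv : ∀ j, u j * v j = 1)
    (x : MV a b t) (j : Fin t) : dmul u v huv x j = u j * x j := rfl

theorem dmul_mem_oG (u v : Fin t → QuadraticAlgebra F a b) (huv : ∀ j, u j * v j = 1)
    (hu : ∀ j, QuadraticAlgebra.norm (u j) = 1) : dmul u v huv ∈ oG (mQ a b t) := by
  intro x
  rw [mQ_apply, mQ_apply]
  refine Finset.sum_congr rfl (fun j _ => ?_)
  rw [dmul_apply, map_mul, hu, one_mul]

/-- the conjugation of the coordinate `l` -/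
def cconj (l : Fin t) : MV a b t ≃ₗ[F] MV a b t where
  toFun x := fun j => if j = l then star (x j) else x j
  map_add' x y := by
    funext j
    by_cases hj : j = l
    · simp only [Pi.add_apply, if_pos hj, star_add]
    · simp only [Pi.add_apply, if_neg hj]
  map_smul' c x := by
    funext j
    by_cases hj : j = l
    · simp only [Pi.smul_apply, if_pos hj, star_smul', RingHom.id_apply]
    · simp only [Pi.smul_apply, if_neg hj, RingHom.id_apply]
  invFun x := fun j => if j = l then star (x j) else x j
  left_inv x := by
    funext j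
    by_cases hj : j = l
    · simp only [if_pos hj, star_star]
    · simp only [if_neg hj]
  right_inv x := by
    funext j
    by_cases hj : j = l
    · simp only [if_pos hj, star_star]
    · simp only [if_neg hj]

theorem cconj_apply (l : Fin t) (x : MV a b t) (j : Fin t) :
    (cconj l : MV a b t ≃ₗ[F] MV a b t) x j = if j = l then star (x j) else x j := rfl

theorem cconj_mem_oG (l : Fin t) : (cconj l : MV a b t ≃ₗ[F] MV a b t) ∈ oG (mQ a b t) := by
  intro x
  rw [mQ_apply, mQ_apply]
  refine Finset.sum_congr rfl (fun j _ => ?_)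
  rw [cconj_apply]
  by_cases hj : j = l
  · rw [if_pos hj, QuadraticAlgebra.norm_star]
  · rw [if_neg hj]

/-- **Q2-ROTB** [M] g = [c, k] with c = rotation of coordinate l by z and k = conjugation x l |-> star (x l) of coordinate l (an element of oG mQ since
norm (star x) = norm x): c k c⁻¹ k⁻¹ = multiplication by z / star z = z^2 on coordinate l. -/
theorem ROTB {l : Fin t} {z : QuadraticAlgebra F a b}
    (hz : QuadraticAlgebra.norm z = 1) (g : MV a b t ≃ₗ[F] MV a b t)
    (hg : ∀ x j, g x j = (if j = l then z ^ 2 else 1) * x j) :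
    g ∈ mOm a b t := by
  have hzz : z * star z = 1 := mul_star_of_norm hz
  let u : Fin t → QuadraticAlgebra F a b := fun j => if j = l then z else 1
  let v : Fin t → QuadraticAlgebra F a b := fun j => if j = l then star z else 1
  have huv : ∀ j, u j * v j = 1 := by
    intro j
    by_cases hj : j = l
    · simp only [u, v, if_pos hj, hzz]
    · simp only [u, v, if_neg hj, one_mul]
  have hu : ∀ j, QuadraticAlgebra.norm (u j) = 1 := by
    intro j
    by_cases hj : j = l
    · simp only [u, if_pos hj, hz]
    · simp only [u, if_neg hj, map_one]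
  let c : MV a b t ≃ₗ[F] MV a b t := dmul u v huv
  let k : MV a b t ≃ₗ[F] MV a b t := cconj l
  have hc : c ∈ oG (mQ a b t) := dmul_mem_oG u v huv hu
  have hk : k ∈ oG (mQ a b t) := cconj_mem_oG l
  have key : g * k * c = c * k := by
    refine LinearEquiv.ext (fun x => funext (fun j => ?_))
    simp only [LinearEquiv.mul_apply]
    rw [hg]
    show (if j = l then z ^ 2 else 1) * (if j = l then star (u j * x j) else u j * x j) =
      u j * (if j = l then star (x j) else x j)
    by_cases hj : j = l
    · simp only [u, if_pos hj, star_mul]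
      calc z ^ 2 * (star (x j) * star z) = z * (z * star z) * star (x j) := by ring
        _ = z * star (x j) := by rw [hzz, mul_one]
    · simp only [u, if_neg hj, one_mul]
  have hmem := Subgroup.commutator_mem_commutator hc hk
  rw [commutatorElement_def] at hmem
  have hgeq : g = c * k * c⁻¹ * k⁻¹ := by
    rw [← key]
    group
  rw [hgeq]
  exact hmem

end Cfsg.Agent.Lib.Helper73_Q2_ROTB
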