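import Mathlib
import Cfsg.Agent.Lib.Helper94_Q2Defs

set_option autoImplicit false
set_option linter.unusedSectionVars false
set_option linter.unusedVariables false

/-!
Q2 market (architect helper94), package Q2-ROTFIX (helper96): a rotation `c = c_l(η)` (`N η = 1`, `η² ≠ 1`) of
one coordinate plane which permutes a plane decomposition `g D` must have `P_l` among the planes of `g D`.
-/

namespace Cfsg.Agent.Lib.Helper96_Q2_ROTFIX

open Module Cfsg.Agent.Lib.Helper94_Symp Cfsg.Agent.Lib.Helper94_OrthSmall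
  Cfsg.Agent.Lib.Helper94_OrthSiegel Cfsg.Agent.Lib.Helper94_OrthNondeg
  Cfsg.Agent.Lib.Helper29_ODDefs Cfsg.Agent.Lib.Helper94_Q2Defs

variable {F : Type*} [Field F] [Finite F] {a b : F} [Fact (∀ r : F, r ^ 2 ≠ a + b * r)] {t : ℕ}
  {S M L : Subgroup (MV a b t ≃ₗ[F] MV a b t)}

/-- the coordinate plane is a copy of `E` -/
def mDequiv (l : Fin t) : ↥(mD a b t l) ≃ₗ[F] QuadraticAlgebra F a b where
  toFun x := (x : MV a b t) l
  map_add' x y := rfl
  map_smul' c x := rfl
  invFun e := ⟨Pi.single l e, fun j hj => by rw [Pi.single_apply, if_neg hj]⟩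
  left_inv x := by
    apply Subtype.ext
    funext j
    by_cases hj : j = l
    · rw [hj]
      simp
    · simp [Pi.single_eq_of_ne hj, x.2 j hj]
  right_inv e := by simp

theorem finrank_mD (l : Fin t) : finrank F ↥(mD a b t l) = 2 :=
  (mDequiv (a := a) (b := b) l).finrank_eq.trans (QuadraticAlgebra.finrank_eq_two a b)

/-- directness of the decomposition into coordinate planes -/
theorem dir_mD {j j' j'' : Fin t} (hjj' : j ≠ j') {u u' : MV a b t} (hu : u ∈ mD a b t j)
    (hu' : u' ∈ mD a b t j') (hs : u + u' ∈ mD a b t j'') :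
    (j'' ≠ j → u = 0) ∧ (j'' ≠ j' → u' = 0) := by
  constructor
  · intro h
    funext k
    by_cases hk : k = j
    · rw [hk]
      have h1 := hs j (Ne.symm h)
      rw [Pi.add_apply, hu' j hjj', add_zero] at h1
      exact h1
    · exact hu k hk
  · intro h
    funext k
    by_cases hk : k = j'
    · rw [hk]
      have h1 := hs j' (Ne.symm h)
      rw [Pi.add_apply, hu j' (Ne.symm hjj'), zero_add] at h1
      exact h1
    · exact hu' k hk

/-- `η ∉ F` -/
theorem im_ne_zero {η : QuadraticAlgebra F a b} (hη : QuadraticAlgebra.norm η = 1)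
    (hη2 : η ^ 2 ≠ 1) : η.im ≠ 0 := by
  intro him
  apply hη2
  rw [QuadraticAlgebra.norm_def, him] at hη
  rw [pow_two]
  apply QuadraticAlgebra.ext
  · rw [QuadraticAlgebra.re_mul, him, QuadraticAlgebra.re_one]
    linear_combination hη
  · rw [QuadraticAlgebra.im_mul, him, QuadraticAlgebra.im_one]
    ring

/-- `w, η w` span `E` over `F` -/
theorem span_eta {η : QuadraticAlgebra F a b} (him : η.im ≠ 0) (e w : QuadraticAlgebra F a b)
    (hw : w ≠ 0) : ∃ r s : F, e = r • w + s • (η * w) := by
  obtain ⟨e', he'⟩ : ∃ e' : QuadraticAlgebra F a b, e' = e * w⁻¹ := ⟨_, rfl⟩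
  have h1 : e' = (e'.re - e'.im / η.im * η.re) • (1 : QuadraticAlgebra F a b) +
      (e'.im / η.im) • η := by
    apply QuadraticAlgebra.ext
    · simp only [QuadraticAlgebra.re_add, QuadraticAlgebra.re_smul, QuadraticAlgebra.re_one,
        smul_eq_mul]
      ring
    · simp only [QuadraticAlgebra.im_add, QuadraticAlgebra.im_smul, QuadraticAlgebra.im_one,
        smul_eq_mul]
      field_simp
      ring
  refine ⟨e'.re - e'.im / η.im * η.re, e'.im / η.im, ?_⟩
  have h2 : e = e' * w := by
    rw [he', mul_assoc, inv_mul_cancel₀ hw, mul_one]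
  rw [h2]
  conv_lhs => rw [h1]
  rw [add_mul, smul_mul_assoc, smul_mul_assoc, one_mul]

theorem ROTFIX {l : Fin t} {η : QuadraticAlgebra F a b} (hη : QuadraticAlgebra.norm η = 1)
    (hη2 : η ^ 2 ≠ 1) (c : MV a b t ≃ₗ[F] MV a b t)
    (hc : ∀ x j, c x j = (if j = l then η else 1) * x j)
    (g : MV a b t ≃ₗ[F] MV a b t) (hg : g ∈ oG (mQ a b t))
    (hperm : ∀ j, ∃ j', (((mD a b t j).map (g : MV a b t →ₗ[F] MV a b t)).map
      (c : MV a b t →ₗ[F] MV a b t)) = (mD a b t j').map (g : MV a b t →ₗ[F] MV a b t)) :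
    ∃ i, (mD a b t i).map (g : MV a b t →ₗ[F] MV a b t) = mD a b t l := by
  classical
  have him : η.im ≠ 0 := im_ne_zero hη hη2
  have hη1 : η ≠ 1 := by
    rintro rfl
    exact hη2 (one_pow 2)
  have hcl : ∀ x, c x l = η * x l := fun x => by rw [hc, if_pos rfl]
  have hck : ∀ x k, k ≠ l → c x k = x k := fun x k hk => by rw [hc, if_neg hk, one_mul]
  have hdm : ∀ x, c x - x ∈ mD a b t l := by
    intro x k hk
    rw [Pi.sub_apply, hck x k hk, sub_self]
  have hdl : ∀ x, (c x - x) l = (η - 1) * x l := by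
    intro x
    rw [Pi.sub_apply, hcl, sub_mul, one_mul]
  obtain ⟨Y, hY⟩ : ∃ Y : Fin t → Submodule F (MV a b t),
      Y = fun j => (mD a b t j).map (g : MV a b t →ₗ[F] MV a b t) := ⟨_, rfl⟩
  have hYj : ∀ j, (mD a b t j).map (g : MV a b t →ₗ[F] MV a b t) = Y j := fun j => by rw [hY]
  simp only [hYj] at hperm ⊢
  have hYfr : ∀ j, finrank F ↥(Y j) = 2 := fun j => by
    rw [← hYj]
    exact (LinearEquiv.finrank_map_eq g _).trans (finrank_mD j)
  have hcY : ∀ j j', (Y j).map (c : MV a b t →ₗ[F] MV a b t) = Y j' → ∀ x ∈ Y j, c x ∈ Y j' := by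
    intro j j' h x hx
    rw [← h]
    exact Submodule.mem_map_of_mem hx
  have hdir : ∀ {j j' j'' : Fin t}, j ≠ j' → ∀ {y y' : MV a b t}, y ∈ Y j → y' ∈ Y j' →
      y + y' ∈ Y j'' → (j'' ≠ j → y = 0) ∧ (j'' ≠ j' → y' = 0) := by
    intro j j' j'' hjj' y y' hy hy' hs
    rw [← hYj] at hy hy' hs
    obtain ⟨u, hu, rfl⟩ := Submodule.mem_map.mp hy
    obtain ⟨u', hu', rfl⟩ := Submodule.mem_map.mp hy'
    obtain ⟨u'', hu'', he⟩ := Submodule.mem_map.mp hs
    have h0 : u'' = u + u' := by
      apply g.injective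
      rw [map_add]
      exact he
    rw [h0] at hu''
    obtain ⟨h1, h2⟩ := dir_mD hjj' hu hu' hu''
    exact ⟨fun h => by rw [h1 h]; exact map_zero _, fun h => by rw [h2 h]; exact map_zero _⟩
  by_contra hcon
  push Not at hcon
  -- every `Y j` lies in the kernel of `c - 1`
  have hK : ∀ j, ∀ x ∈ Y j, x l = 0 := by
    intro j
    obtain ⟨j', hj'⟩ := hperm j
    by_cases hjj' : j' = j
    · rw [hjj'] at hj'
      intro x hx
      by_contra hxl
      apply hcon j
      obtain ⟨d, hd⟩ : ∃ d : MV a b t, d = c x - x := ⟨_, rfl⟩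
      have hdY : d ∈ Y j := by
        rw [hd]
        exact Submodule.sub_mem _ (hcY j j hj' x hx) hx
      have hcdY : c d ∈ Y j := hcY j j hj' d hdY
      have hdl0 : d l ≠ 0 := by
        rw [hd, hdl]
        exact mul_ne_zero (sub_ne_zero.mpr hη1) hxl
      have hdk : ∀ k, k ≠ l → d k = 0 := by
        intro k hk
        rw [hd]
        exact hdm x k hk
      have hle : mD a b t l ≤ Y j := by
        intro y hy
        obtain ⟨r, s, hrs⟩ := span_eta him (y l) (d l) hdl0
        have hy' : y = r • d + s • c d := by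
          funext k
          by_cases hk : k = l
          · rw [hk, Pi.add_apply, Pi.smul_apply, Pi.smul_apply, hcl, hrs]
          · rw [hy k hk, Pi.add_apply, Pi.smul_apply, Pi.smul_apply, hck d k hk, hdk k hk,
              smul_zero, smul_zero, add_zero]
        rw [hy']
        exact Submodule.add_mem _ (Submodule.smul_mem _ _ hdY) (Submodule.smul_mem _ _ hcdY)
      exact (Submodule.eq_of_le_of_finrank_eq hle (by rw [finrank_mD, hYfr])).symm
    · exfalso
      have hjj'' : j ≠ j' := fun h => hjj' h.symm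
      have hinj0 : ∀ x' ∈ Y j, c x' = x' → x' = 0 := by
        intro x' hx' hfix
        have h1 : c x' ∈ Y j' := hcY j j' hj' x' hx'
        rw [hfix] at h1
        have h2 : x' + 0 ∈ Y j' := by
          rw [add_zero]
          exact h1
        exact (hdir hjj'' hx' (Submodule.zero_mem (Y j')) h2).1 hjj'
      let φ : ↥(Y j) →ₗ[F] ↥(mD a b t l) :=
        LinearMap.codRestrict (mD a b t l)
          (((c : MV a b t →ₗ[F] MV a b t) - LinearMap.id) ∘ₗ (Y j).subtype) (fun x' => hdm x'.1)
      have hφ : ∀ x' : ↥(Y j), ((φ x' : ↥(mD a b t l)) : MV a b t) = c x'.1 - x'.1 := fun x' => rfl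
      have hφinj : Function.Injective φ := by
        rw [injective_iff_map_eq_zero]
        intro x' hx'
        have h1 : c x'.1 - x'.1 = 0 := by
          rw [← hφ, hx']
          rfl
        exact Subtype.ext (hinj0 x'.1 x'.2 (sub_eq_zero.mp h1))
      have hφsurj : Function.Surjective φ :=
        (LinearMap.injective_iff_surjective_of_finrank_eq_finrank
          (by rw [hYfr, finrank_mD])).mp hφinj
      obtain ⟨x, hx, hx0⟩ : ∃ x ∈ Y j, x ≠ 0 := by
        refine ⟨g (Pi.single j 1), ?_, ?_⟩
        · rw [← hYj]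
          exact Submodule.mem_map_of_mem (fun k hk => Pi.single_eq_of_ne hk _)
        · intro h0
          have h1 : (Pi.single j (1 : QuadraticAlgebra F a b) : MV a b t) = 0 := by
            apply g.injective
            rw [h0, map_zero]
          have h2 := congrFun h1 j
          rw [Pi.single_eq_same, Pi.zero_apply] at h2
          exact one_ne_zero h2
      obtain ⟨d, hd⟩ : ∃ d : MV a b t, d = c x - x := ⟨_, rfl⟩
      have hd0 : d ≠ 0 := by
        intro h
        rw [hd] at h
        exact hx0 (hinj0 x hx (sub_eq_zero.mp h))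
      have hdk : ∀ k, k ≠ l → d k = 0 := by
        intro k hk
        rw [hd]
        exact hdm x k hk
      have hcdm : c d ∈ mD a b t l := by
        intro k hk
        rw [hck d k hk]
        exact hdk k hk
      obtain ⟨x2', hx2'⟩ := hφsurj ⟨c d, hcdm⟩
      obtain ⟨x2, hx2def⟩ : ∃ x2 : MV a b t, x2 = x2'.1 := ⟨_, rfl⟩
      have hx2 : c x2 - x2 = c d := by
        rw [hx2def, ← hφ, hx2']
      have hx2Y : x2 ∈ Y j := by
        rw [hx2def]
        exact x2'.2
      have hcc : c (c x) = -x2 + c (x + x2) := by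
        have e2 : c (c x) = c x + c d := by
          rw [hd, map_sub]
          abel
        rw [e2, ← hx2, map_add]
        abel
      obtain ⟨j'', hj''⟩ := hperm j'
      have hccY : c (c x) ∈ Y j'' := hcY j' j'' hj'' (c x) (hcY j j' hj' x hx)
      rw [hcc] at hccY
      have hnegx2 : -x2 ∈ Y j := Submodule.neg_mem _ hx2Y
      have hcxx2 : c (x + x2) ∈ Y j' := hcY j j' hj' _ (Submodule.add_mem _ hx hx2Y)
      obtain ⟨h1, h2⟩ := hdir hjj'' hnegx2 hcxx2 hccY
      have hdl0 : d l ≠ 0 := by
        intro h0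
        apply hd0
        funext k
        by_cases hk : k = l
        · rw [hk]
          exact h0
        · exact hdk k hk
      by_cases hj''j : j'' = j
      · have h3 := h2 (by rw [hj''j]; exact hjj'')
        have h4 : x + x2 = 0 := by
          apply c.injective
          rw [h3, map_zero]
        have h5 : c d = -d := by
          have h6 : x2 = -x := eq_neg_of_add_eq_zero_right h4
          rw [← hx2, h6, map_neg, hd]
          abel
        have h6 := congrFun h5 l
        rw [hcl, Pi.neg_apply] at h6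
        have h7 : η = -1 := by
          have h8 : (η + 1) * d l = 0 := by
            rw [add_mul, one_mul, h6, neg_add_cancel]
          rcases mul_eq_zero.mp h8 with h | h
          · exact eq_neg_of_add_eq_zero_left h
          · exact absurd h hdl0
        apply hη2
        rw [h7]
        norm_num
      · have h3 := h1 hj''j
        have hx20 : x2 = 0 := neg_eq_zero.mp h3
        rw [hx20, map_zero, sub_zero] at hx2
        apply hd0
        apply c.injective
        rw [← hx2, map_zero]
  -- but the planes `Y j` span `V`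
  obtain ⟨u, hu⟩ : ∃ u : MV a b t, g u = Pi.single l 1 := ⟨g.symm _, g.apply_symm_apply _⟩
  have hsum : u = ∑ j, Pi.single j (u j) := by
    funext k
    rw [Finset.sum_apply, Finset.sum_eq_single k]
    · rw [Pi.single_eq_same]
    · intro j _ hjk
      exact Pi.single_eq_of_ne (Ne.symm hjk) _
    · intro h
      exact absurd (Finset.mem_univ k) h
  have h1 : (g u) l = 0 := by
    rw [hsum, map_sum, Finset.sum_apply]
    refine Finset.sum_eq_zero (fun j _ => ?_)
    apply hK j
    rw [← hYj]
    exact Submodule.mem_map_of_mem (fun k hk => Pi.single_eq_of_ne hk _)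
  rw [hu, Pi.single_eq_same] at h1
  exact one_ne_zero h1

end Cfsg.Agent.Lib.Helper96_Q2_ROTFIX
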