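import Mathlib
import Cfsg.Agent.Lib.Helper94_Q2Defs
import Cfsg.Agent.Lib.Helper44_Q2_ROT
import Cfsg.Agent.Lib.Helper71_Q2_Z4
import Cfsg.Agent.Lib.Helper73_Q2_ROTB
import Cfsg.Agent.Lib.Helper96_Q2_ROTFIX
import Cfsg.Agent.Lib.Helper24_Q2_C0

set_option autoImplicit false
set_option linter.unusedSectionVars false
set_option linter.unusedVariables false

/-!
Q2 market (helper94), package Q2-FS: under (C∗) for the block vectors with norm in `s`, an element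
of `M` outside `S` maps such a block vector to a vector all of whose coordinates are nonzero.
`FS_of` takes the statements of Q2-Z4, Q2-ROTB, Q2-ROTFIX and Q2-C0 as hypotheses.  (helper39)
-/

namespace Cfsg.Agent.Lib.Helper39_Q2_FS

open Module Cfsg.Agent.Lib.Helper94_Symp Cfsg.Agent.Lib.Helper94_OrthSmall
  Cfsg.Agent.Lib.Helper94_OrthSiegel Cfsg.Agent.Lib.Helper94_OrthNondeg
  Cfsg.Agent.Lib.Helper29_ODDefs Cfsg.Agent.Lib.Helper94_Q2Defs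

variable {F : Type*} [Field F] [Finite F] {a b : F} [Fact (∀ r : F, r ^ 2 ≠ a + b * r)] {t : ℕ}
  {S M L : Subgroup (MV a b t ≃ₗ[F] MV a b t)}

/-- `Ω ≤ O` -/
theorem mOm_le_oG : mOm a b t ≤ oG (mQ a b t) := by
  rw [Subgroup.commutator_le]
  intro g₁ hg₁ g₂ hg₂
  exact (oG (mQ a b t)).mul_mem ((oG (mQ a b t)).mul_mem ((oG (mQ a b t)).mul_mem hg₁ hg₂)
    ((oG (mQ a b t)).inv_mem hg₁)) ((oG (mQ a b t)).inv_mem hg₂)

/-- **Q2-FS**, with the statements of Q2-Z4, Q2-ROTB, Q2-ROTFIX, Q2-C0 as hypotheses. -/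
theorem FS_of
    (hZ4 : Nat.card F ≠ 3 →
      ∃ z : QuadraticAlgebra F a b, QuadraticAlgebra.norm z = 1 ∧ z ^ 4 ≠ 1)
    (hROTB : ∀ {l : Fin t} {z : QuadraticAlgebra F a b},
      QuadraticAlgebra.norm z = 1 → ∀ g : MV a b t ≃ₗ[F] MV a b t,
      (∀ x j, g x j = (if j = l then z ^ 2 else 1) * x j) → g ∈ mOm a b t)
    (hROTFIX : ∀ {l : Fin t} {η : QuadraticAlgebra F a b}, QuadraticAlgebra.norm η = 1 →
      η ^ 2 ≠ 1 → ∀ c : MV a b t ≃ₗ[F] MV a b t,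
      (∀ x j, c x j = (if j = l then η else 1) * x j) →
      ∀ g : MV a b t ≃ₗ[F] MV a b t, g ∈ oG (mQ a b t) →
      (∀ j, ∃ j', (((mD a b t j).map (g : MV a b t →ₗ[F] MV a b t)).map
        (c : MV a b t →ₗ[F] MV a b t)) = (mD a b t j').map (g : MV a b t →ₗ[F] MV a b t)) →
      ∃ i, (mD a b t i).map (g : MV a b t →ₗ[F] MV a b t) = mD a b t l)
    (hC0 : Ctx2 a b t S M → ∀ s : Set F, (∃ c ∈ s, c ≠ 0) →
      (∀ x, IsBl x → mQ a b t x ∈ s → CStar S M x) →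
      ∀ g ∈ M, ∀ i j, (mD a b t i).map (g : MV a b t →ₗ[F] MV a b t) = mD a b t j → g ∈ S)
    (hC : Ctx2 a b t S M) (s : Set F) (hs : ∃ c ∈ s, c ≠ 0)
    (hCs : ∀ x, IsBl x → mQ a b t x ∈ s → CStar S M x) :
    ∀ g ∈ M, g ∉ S → ∀ x, IsBl x → mQ a b t x ∈ s → ∀ l, g x l ≠ 0 := by
  classical
  intro g hgM hgS x hx hxs l hgl
  apply hgS
  obtain ⟨z, hz, hz4⟩ := hZ4 hC.hq
  -- the rotation `c = c_l(z²)`
  have hw : ∀ j, QuadraticAlgebra.norm ((fun j => if j = l then z ^ 2 else 1 :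
      Fin t → QuadraticAlgebra F a b) j) = 1 := by
    intro j
    by_cases hj : j = l
    · simp only [hj, if_true, map_pow, hz, one_pow]
    · simp only [hj, if_false, map_one]
  obtain ⟨c, hcO, hcS, hc⟩ := Helper44_Q2_ROT.ROT S hC.hS _ hw
  have hc' : ∀ x j, c x j = (if j = l then z ^ 2 else 1) * x j := hc
  have hcOm : c ∈ mOm a b t := hROTB hz c hc'
  have hcM : c ∈ M := hC.hmin.le ⟨hcS, hcOm⟩
  -- `c` fixes `g x`
  have hfix : c (g x) = g x := by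
    funext j
    rw [hc']
    by_cases hj : j = l
    · rw [hj, hgl, mul_zero]
    · rw [if_neg hj, one_mul]
  -- `g⁻¹ c g ∈ M` fixes `x`, hence lies in `S`
  have hconjM : g⁻¹ * c * g ∈ M := M.mul_mem (M.mul_mem (M.inv_mem hgM) hcM) hgM
  have hconjx : (g⁻¹ * c * g) x = (1 : F) • x := by
    rw [LinearEquiv.mul_apply, LinearEquiv.mul_apply, hfix, one_smul]
    exact inv_apply_apply' g x
  have hconjS : g⁻¹ * c * g ∈ S := hCs x hx hxs _ hconjM ⟨1, hconjx⟩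
  obtain ⟨σ, hσ⟩ := (hC.hS _).mp hconjS
  have hgO : g ∈ oG (mQ a b t) := mOm_le_oG (hC.hMO hgM)
  have hperm : ∀ j, ∃ j', (((mD a b t j).map (g : MV a b t →ₗ[F] MV a b t)).map
      (c : MV a b t →ₗ[F] MV a b t)) = (mD a b t j').map (g : MV a b t →ₗ[F] MV a b t) := by
    intro j
    refine ⟨σ j, ?_⟩
    rw [← hσ j]
    ext y
    simp only [Submodule.mem_map]
    constructor
    · rintro ⟨y₁, ⟨y₀, hy₀, rfl⟩, rfl⟩
      refine ⟨(g⁻¹ * c * g) y₀, ⟨y₀, hy₀, rfl⟩, ?_⟩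
      change g ((g⁻¹ * c * g) y₀) = c (g y₀)
      rw [LinearEquiv.mul_apply, LinearEquiv.mul_apply]
      exact apply_inv_apply' g _
    · rintro ⟨y₁, ⟨y₀, hy₀, rfl⟩, rfl⟩
      refine ⟨g y₀, ⟨y₀, hy₀, rfl⟩, ?_⟩
      change c (g y₀) = g ((g⁻¹ * c * g) y₀)
      rw [LinearEquiv.mul_apply, LinearEquiv.mul_apply]
      exact (apply_inv_apply' g _).symm
  have hη2 : (z ^ 2) ^ 2 ≠ 1 := by
    rw [← pow_mul]
    exact hz4
  have hηn : QuadraticAlgebra.norm (z ^ 2) = 1 := by rw [map_pow, hz, one_pow]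
  obtain ⟨i, hi⟩ := hROTFIX hηn hη2 c hc' g hgO hperm
  exact hC0 hC s hs hCs g hgM i l hi

/-- **Q2-FS**, with only the statement of Q2-C0 as a hypothesis. -/
theorem FS_of_C0
    (hC0 : Ctx2 a b t S M → ∀ s : Set F, (∃ c ∈ s, c ≠ 0) →
      (∀ x, IsBl x → mQ a b t x ∈ s → CStar S M x) →
      ∀ g ∈ M, ∀ i j, (mD a b t i).map (g : MV a b t →ₗ[F] MV a b t) = mD a b t j → g ∈ S)
    (hC : Ctx2 a b t S M) (s : Set F) (hs : ∃ c ∈ s, c ≠ 0)
    (hCs : ∀ x, IsBl x → mQ a b t x ∈ s → CStar S M x) :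
    ∀ g ∈ M, g ∉ S → ∀ x, IsBl x → mQ a b t x ∈ s → ∀ l, g x l ≠ 0 :=
  FS_of (fun hq => Helper71_Q2_Z4.Z4 hq) (fun hz g hg => Helper73_Q2_ROTB.ROTB hz g hg)
    (fun hη hη2 c hc g hg hperm => Helper96_Q2_ROTFIX.ROTFIX hη hη2 c hc g hg hperm) hC0 hC s hs hCs

/-- **Q2-FS** [M] under (C∗) for the block vectors with norm in `s`, an element of `M` outside `S` maps such a block
vector to a vector all of whose coordinates are nonzero. -/
theorem FS (hC : Ctx2 a b t S M) (s : Set F) (hs : ∃ c ∈ s, c ≠ 0)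
    (hCs : ∀ x, IsBl x → mQ a b t x ∈ s → CStar S M x) :
    ∀ g ∈ M, g ∉ S → ∀ x, IsBl x → mQ a b t x ∈ s → ∀ l, g x l ≠ 0 :=
  FS_of_C0 (fun hC s hs hCs => Helper24_Q2_C0.C0 hC s hs hCs) hC s hs hCs

end Cfsg.Agent.Lib.Helper39_Q2_FS
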