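import Mathlib
import Cfsg.Agent.Lib.Helper94_Q2Defs
import Cfsg.Agent.Lib.Helper85_Q2_BASIC
import Cfsg.Agent.Lib.Helper85_Q2_ND

set_option autoImplicit false
set_option linter.unusedSectionVars false
set_option linter.unusedVariables false

/-!
# Q2 market (architect helper94), package Q2-T1ALPHA: case (T-1α).

`T1ALPHA_of` takes the VERBATIM statement of the package Q2-FS as a hypothesis (Q2-ND is imported).
-/

namespace Cfsg.Agent.Lib.Helper44_Q2_T1ALPHA

open Module Cfsg.Agent.Lib.Helper94_Symp Cfsg.Agent.Lib.Helper94_OrthSmall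
  Cfsg.Agent.Lib.Helper94_OrthSiegel Cfsg.Agent.Lib.Helper94_OrthNondeg
  Cfsg.Agent.Lib.Helper29_ODDefs Cfsg.Agent.Lib.Helper94_Q2Defs
  Cfsg.Agent.Lib.Helper85_Q2_BASIC

variable {F : Type*} [Field F] [Finite F] {a b : F} [Fact (∀ r : F, r ^ 2 ≠ a + b * r)] {t : ℕ}
  {S M L : Subgroup (MV a b t ≃ₗ[F] MV a b t)}

/-- vectors of two different coordinate planes are orthogonal -/
theorem mB_eq_zero_of_mem {l l' : Fin t} (hll' : l ≠ l') {n n' : MV a b t}
    (hn : n ∈ mD a b t l) (hn' : n' ∈ mD a b t l') : mB a b t n' n = 0 := by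
  rw [mB_of_mem hn, hn' l hll', zero_mul, map_zero]

/-- the product of the reflections in two orthogonal vectors -/
theorem refl_mul_apply {n n' : MV a b t} (hn0 : mQ a b t n ≠ 0) (hn0' : mQ a b t n' ≠ 0)
    (horth : mB a b t n' n = 0) (w : MV a b t) :
    (mrefl a b t hn0 * mrefl a b t hn0') w =
      w - ((mQ a b t n')⁻¹ * mB a b t w n') • n' - ((mQ a b t n)⁻¹ * mB a b t w n) • n := by
  rw [LinearEquiv.mul_apply, refl_apply, refl_apply, map_sub, map_smul, LinearMap.sub_apply,
    LinearMap.smul_apply, horth, smul_zero, sub_zero]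

theorem T1ALPHA_of
    (hFS : ∀ (s : Set F), (∃ c ∈ s, c ≠ 0) →
      (∀ x, IsBl x → mQ a b t x ∈ s → CStar S M x) →
      ∀ g ∈ M, g ∉ S → ∀ x, IsBl x → mQ a b t x ∈ s → ∀ l, g x l ≠ 0)
    (hC : Ctx2 a b t S M) (hall : ∀ x, IsBl x → CStar S M x)
    {g : MV a b t ≃ₗ[F] MV a b t} (hg : g ∈ M) (hgS : g ∉ S) {l l' : Fin t} (hll' : l ≠ l')
    {n n' : MV a b t} (hn : n ∈ mD a b t l) (hn' : n' ∈ mD a b t l')
    (hn0 : mQ a b t n ≠ 0) (hn0' : mQ a b t n' ≠ 0)
    (hfix : ∀ j, (mD a b t j).map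
      ((g⁻¹ * (mrefl a b t hn0 * mrefl a b t hn0') * g : MV a b t ≃ₗ[F] MV a b t) :
        MV a b t →ₗ[F] MV a b t) = mD a b t j) : False := by
  classical
  have hND : (mB a b t).Nondegenerate := Cfsg.Agent.Lib.Helper85_Q2_ND.ND
  have horth : mB a b t n' n = 0 := mB_eq_zero_of_mem hll' hn hn'
  have hβ := refl_mul_apply hn0 hn0' horth
  -- a coordinate outside `{l, l'}`
  obtain ⟨i, hil, hil'⟩ : ∃ i : Fin t, i ≠ l ∧ i ≠ l' := by
    have hcard : ({l, l'} : Finset (Fin t)).card < (Finset.univ : Finset (Fin t)).card := by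
      rw [Finset.card_univ, Fintype.card_fin]
      have := Finset.card_le_two (a := l) (b := l')
      have := hC.ht
      omega
    obtain ⟨i, -, hi⟩ := Finset.exists_mem_notMem_of_card_lt_card hcard
    rw [Finset.mem_insert, Finset.mem_singleton, not_or] at hi
    exact ⟨i, hi.1, hi.2⟩
  -- the product of the two reflections fixes the image of every vector of every plane
  have hfixv : ∀ j, ∀ v ∈ mD a b t j,
      (mrefl a b t hn0 * mrefl a b t hn0') (g v) = g v := by
    intro j v hv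
    by_contra hne
    set d : MV a b t := (g⁻¹ * (mrefl a b t hn0 * mrefl a b t hn0') * g) v - v with hd
    have hdmem : d ∈ mD a b t j := by
      apply Submodule.sub_mem _ _ hv
      rw [← hfix j]
      exact Submodule.mem_map_of_mem hv
    have hgd : g d = (mrefl a b t hn0 * mrefl a b t hn0') (g v) - g v := by
      rw [hd, map_sub, LinearEquiv.mul_apply, LinearEquiv.mul_apply, apply_inv_apply']
    have hd0 : d ≠ 0 := by
      intro h0
      apply hne
      rw [h0, map_zero] at hgd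
      exact (sub_eq_zero.mp hgd.symm)
    have hBl : IsBl d := ⟨hd0, j, hdmem⟩
    have h1 := hFS {c | c ≠ 0} ⟨1, one_ne_zero, one_ne_zero⟩ (fun x hx _ => hall x hx) g hg hgS d hBl
      (mani hBl) i
    apply h1
    rw [hgd, hβ]
    simp only [Pi.sub_apply, Pi.smul_apply, hn i hil, hn' i hil', smul_zero, sub_zero, sub_self]
  -- hence it is the identity
  have hid : ∀ u : MV a b t, (mrefl a b t hn0 * mrefl a b t hn0') u = u := by
    intro u
    set f : MV a b t →ₗ[F] MV a b t :=
      (((mrefl a b t hn0 * mrefl a b t hn0') * g : MV a b t ≃ₗ[F] MV a b t) :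
        MV a b t →ₗ[F] MV a b t) - (g : MV a b t →ₗ[F] MV a b t) with hf
    have hf0 : ∀ j, ∀ v ∈ mD a b t j, f v = 0 := by
      intro j v hv
      rw [hf, LinearMap.sub_apply, LinearEquiv.coe_coe, LinearEquiv.coe_coe,
        LinearEquiv.mul_apply, hfixv j v hv, sub_self]
    have hx : f (g⁻¹ u) = 0 := by
      rw [← Finset.univ_sum_single (g⁻¹ u), map_sum]
      apply Finset.sum_eq_zero
      intro j _
      exact hf0 j _ (single_mem j _)
    rw [hf, LinearMap.sub_apply, LinearEquiv.coe_coe, LinearEquiv.coe_coe,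
      LinearEquiv.mul_apply, apply_inv_apply', sub_eq_zero] at hx
    exact hx
  -- contradiction with nondegeneracy
  have hnl : n l ≠ 0 := by
    intro h
    apply hn0
    rw [mQ_of_mem hn, h, QuadraticAlgebra.norm_zero]
  obtain ⟨u, hu⟩ : ∃ u, mB a b t u n ≠ 0 := by
    by_contra hcon
    push Not at hcon
    have := hND.2 n hcon
    apply hnl
    rw [this]
    rfl
  have h2 := congrFun (hid u) l
  rw [hβ] at h2
  simp only [Pi.sub_apply, Pi.smul_apply, hn' l hll', smul_zero, sub_zero] at h2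
  have h3 : ((mQ a b t n)⁻¹ * mB a b t u n) • n l = 0 := by
    have := sub_eq_self.mp h2
    exact this
  rcases smul_eq_zero.mp h3 with h4 | h4
  · rcases mul_eq_zero.mp h4 with h5 | h5
    · exact hn0 (inv_eq_zero.mp h5)
    · exact hu h5
  · exact hnl h4

end Cfsg.Agent.Lib.Helper44_Q2_T1ALPHA
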