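import Mathlib
import Cfsg.Agent.Lib.Helper94_Q2Defs
import Cfsg.Agent.Lib.Helper73_Q2_ROTB

set_option autoImplicit false
set_option linter.unusedSectionVars false
set_option linter.unusedVariables false

/-!
helper73 — package Q2-REFL2 of helper94's Q2 market: the product of the reflections in two vectors of
the same norm of two different coordinate planes is a commutator of isometries.  Reusable: `cswap`
(coordinate transposition), `cswap_mem_oG`, `mQ_of_mem_mD`.
-/

namespace Cfsg.Agent.Lib.Helper73_Q2_REFL2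

open Module Cfsg.Agent.Lib.Helper94_Symp Cfsg.Agent.Lib.Helper94_OrthSmall
  Cfsg.Agent.Lib.Helper94_OrthSiegel Cfsg.Agent.Lib.Helper94_OrthNondeg
  Cfsg.Agent.Lib.Helper29_ODDefs Cfsg.Agent.Lib.Helper94_Q2Defs
  Cfsg.Agent.Lib.Helper73_Q2_ROTB

variable {F : Type*} [Field F] [Finite F] {a b : F} [Fact (∀ r : F, r ^ 2 ≠ a + b * r)] {t : ℕ}
  {S M L : Subgroup (MV a b t ≃ₗ[F] MV a b t)}

/-- the coordinate permutation `x ↦ x ∘ π` -/
def cperm (π : Equiv.Perm (Fin t)) : MV a b t ≃ₗ[F] MV a b t :=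
  LinearEquiv.funCongrLeft F (QuadraticAlgebra F a b) π

theorem cperm_apply (π : Equiv.Perm (Fin t)) (x : MV a b t) (j : Fin t) :
    (cperm π : MV a b t ≃ₗ[F] MV a b t) x j = x (π j) := rfl

theorem cperm_mem_oG (π : Equiv.Perm (Fin t)) :
    (cperm π : MV a b t ≃ₗ[F] MV a b t) ∈ oG (mQ a b t) := by
  intro x
  rw [mQ_apply, mQ_apply]
  exact Equiv.sum_comp π (fun j => QuadraticAlgebra.norm (x j))

theorem mQ_of_mem_mD {l : Fin t} {x : MV a b t} (hx : x ∈ mD a b t l) :
    mQ a b t x = QuadraticAlgebra.norm (x l) := by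
  rw [mQ_apply]
  refine Finset.sum_eq_single l (fun j _ hj => ?_) (fun h => absurd (Finset.mem_univ l) h)
  rw [hx j hj, QuadraticAlgebra.norm_zero]

theorem mrefl_congr {x y : MV a b t} (h : x = y) (hx : mQ a b t x ≠ 0) (hy : mQ a b t y ≠ 0) :
    mrefl a b t hx = mrefl a b t hy := by
  subst h
  rfl

/-- **Q2-REFL2** [M] y = g x with g in oG mQ (coordinate transposition (l m) followed by a rotation of coordinate m by (y m)/(x l), of norm 1);
conj_refl: r_y = g r_x g⁻¹, so r_x r_y = r_x g r_x⁻¹ g⁻¹ = [r_x, g] (refl_inv). -/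
theorem REFL2 {l m : Fin t} (hlm : l ≠ m) {x y : MV a b t} (hx : x ∈ mD a b t l)
    (hy : y ∈ mD a b t m) (hQ : mQ a b t x = mQ a b t y) (hx' : mQ a b t x ≠ 0)
    (hy' : mQ a b t y ≠ 0) : mrefl a b t hx' * mrefl a b t hy' ∈ mOm a b t := by
  have hnx : QuadraticAlgebra.norm (x l) ≠ 0 := by rw [← mQ_of_mem_mD hx]; exact hx'
  have hxl : x l ≠ 0 := fun h0 => hnx (by rw [h0, QuadraticAlgebra.norm_zero])
  have hnxy : QuadraticAlgebra.norm (x l) = QuadraticAlgebra.norm (y m) := by
    rw [← mQ_of_mem_mD hx, ← mQ_of_mem_mD hy, hQ]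
  -- the rotation factor
  let w : QuadraticAlgebra F a b := y m * (x l)⁻¹
  have hwx : w * x l = y m := by
    show y m * (x l)⁻¹ * x l = y m
    rw [mul_assoc, inv_mul_cancel₀ hxl, mul_one]
  have hw : QuadraticAlgebra.norm w = 1 := by
    have h1 : QuadraticAlgebra.norm w * QuadraticAlgebra.norm (x l) =
        1 * QuadraticAlgebra.norm (x l) := by
      rw [← map_mul, hwx, one_mul, hnxy]
    exact mul_right_cancel₀ hnx h1
  have hww : w * star w = 1 := mul_star_of_norm hw
  let u : Fin t → QuadraticAlgebra F a b := fun j => if j = m then w else 1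
  let v : Fin t → QuadraticAlgebra F a b := fun j => if j = m then star w else 1
  have huv : ∀ j, u j * v j = 1 := by
    intro j
    by_cases hj : j = m
    · simp only [u, v, if_pos hj, hww]
    · simp only [u, v, if_neg hj, one_mul]
  have hu : ∀ j, QuadraticAlgebra.norm (u j) = 1 := by
    intro j
    by_cases hj : j = m
    · simp only [u, if_pos hj, hw]
    · simp only [u, if_neg hj, map_one]
  let g : MV a b t ≃ₗ[F] MV a b t := dmul u v huv * cperm (Equiv.swap l m)
  have hg : g ∈ oG (mQ a b t) :=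
    Subgroup.mul_mem _ (dmul_mem_oG u v huv hu) (cperm_mem_oG _)
  have hgx : g x = y := by
    funext j
    show u j * x (Equiv.swap l m j) = y j
    by_cases hj : j = m
    · rw [hj, Equiv.swap_apply_right]
      simp only [u, if_pos rfl]
      exact hwx
    · simp only [u, if_neg hj, one_mul]
      rw [hy j hj]
      by_cases hjl : j = l
      · rw [hjl, Equiv.swap_apply_left]
        exact hx m (fun h => hlm h.symm)
      · rw [Equiv.swap_apply_of_ne_of_ne hjl hj]
        exact hx j hjl
  have hgx' : mQ a b t (g x) ≠ 0 := by rw [hgx]; exact hy'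
  have hconj : g * mrefl a b t hx' * g⁻¹ = mrefl a b t hgx' :=
    conj_refl (mQ a b t) (mB a b t) (mQs a b t) (mQp a b t) hg hx'
  rw [mrefl_congr hgx hgx' hy'] at hconj
  have hmem := Subgroup.commutator_mem_commutator
    (refl_mem (mQ a b t) (mB a b t) (mQs a b t) (mQp a b t) hx') hg
  rw [commutatorElement_def, refl_inv] at hmem
  have heq : mrefl a b t hx' * mrefl a b t hy' =
      mrefl a b t hx' * g * mrefl a b t hx' * g⁻¹ := by
    rw [← hconj]
    group
  rw [heq]
  exact hmem

end Cfsg.Agent.Lib.Helper73_Q2_REFL2
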