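import Mathlib
import Cfsg.Agent.Lib.Helper94_Q2Defs
import Cfsg.Agent.Lib.Helper53_Q2_BLREFL

/-!
helper91: Q2 package T1B (architect helper94), `_of` form: the statement of REFL2 is an explicit
hypothesis.
-/

set_option autoImplicit false
set_option linter.unusedSectionVars false
set_option linter.unusedVariables false

namespace Cfsg.Agent.Lib.Helper91_Q2_T1Baux

open Module Cfsg.Agent.Lib.Helper94_Symp Cfsg.Agent.Lib.Helper94_OrthSmall
  Cfsg.Agent.Lib.Helper94_OrthSiegel Cfsg.Agent.Lib.Helper94_OrthNondeg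
  Cfsg.Agent.Lib.Helper29_ODDefs Cfsg.Agent.Lib.Helper94_Q2Defs

variable {F : Type*} [Field F] [Finite F] {a b : F} [Fact (∀ r : F, r ^ 2 ≠ a + b * r)] {t : ℕ}
  {S M L : Subgroup (MV a b t ≃ₗ[F] MV a b t)}

omit [Finite F] [Fact (∀ r : F, r ^ 2 ≠ a + b * r)] in
/-- a nonsingular vector is nonzero -/
theorem ne_zero_of_mQ {x : MV a b t} (hx : mQ a b t x ≠ 0) : x ≠ 0 := by
  rintro rfl
  apply hx
  rw [mQ_apply]
  apply Finset.sum_eq_zero
  intro l _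
  simp

omit [Finite F] [Fact (∀ r : F, r ^ 2 ≠ a + b * r)] in
/-- a reflection fixes the vectors orthogonal to its centre -/
theorem mrefl_fix {n y : MV a b t} (hn0 : mQ a b t n ≠ 0) (h : mB a b t y n = 0) :
    mrefl a b t hn0 y = y := by
  rw [refl_apply, h, mul_zero, zero_smul, sub_zero]

/-- **Q2-T1B**, with the statement of REFL2 as a hypothesis. -/
theorem T1B_of
    (hREFL2 : ∀ {l m : Fin t}, l ≠ m → ∀ {x y : MV a b t}, x ∈ mD a b t l → y ∈ mD a b t m →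
      mQ a b t x = mQ a b t y → ∀ (hx' : mQ a b t x ≠ 0) (hy' : mQ a b t y ≠ 0),
      mrefl a b t hx' * mrefl a b t hy' ∈ mOm a b t)
    (hS : IsDStab (mD a b t) S) {y : MV a b t} {l l' : Fin t} (hll' : l ≠ l')
    {n n' : MV a b t} (hn : n ∈ mD a b t l) (hn' : n' ∈ mD a b t l')
    (hQ : mQ a b t n = mQ a b t n') (hn0 : mQ a b t n ≠ 0) (hn0' : mQ a b t n' ≠ 0)
    (h1 : mB a b t y n = 0) (h2 : mB a b t y n' = 0) :
    mrefl a b t hn0 * mrefl a b t hn0' ∈ S ⊓ mOm a b t ∧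
      (mrefl a b t hn0 * mrefl a b t hn0') y = y := by
  refine ⟨⟨?_, hREFL2 hll' hn hn' hQ hn0 hn0'⟩, ?_⟩
  · apply S.mul_mem
    · exact Cfsg.Agent.Lib.Helper53_Q2_BLREFL.BLREFL S hS ⟨ne_zero_of_mQ hn0, l, hn⟩ hn0
    · exact Cfsg.Agent.Lib.Helper53_Q2_BLREFL.BLREFL S hS ⟨ne_zero_of_mQ hn0', l', hn'⟩ hn0'
  · rw [LinearEquiv.mul_apply, mrefl_fix hn0' h2, mrefl_fix hn0 h1]

end Cfsg.Agent.Lib.Helper91_Q2_T1Baux
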