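import Mathlib
import Cfsg.Agent.Lib.Helper94_Q2Defs

/-!
# Q2 market (architect helper94), package Q2-T1N2 (helper95)

Characteristic 2: two vectors `n ∈ mD l`, `n' ∈ mD l'` of the same non-zero norm, both orthogonal
to `y`.  Also a few general facts on the model used by Q2-T1N3.
-/

set_option autoImplicit false
set_option linter.unusedSectionVars false
set_option linter.unusedVariables false

namespace Cfsg.Agent.Lib.Helper95_Q2_T1N2

open Module Cfsg.Agent.Lib.Helper94_Symp Cfsg.Agent.Lib.Helper94_OrthSmall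
  Cfsg.Agent.Lib.Helper94_OrthSiegel Cfsg.Agent.Lib.Helper94_OrthNondeg
  Cfsg.Agent.Lib.Helper29_ODDefs Cfsg.Agent.Lib.Helper94_Q2Defs

variable {F : Type*} [Field F] [Finite F] {a b : F} [Fact (∀ r : F, r ^ 2 ≠ a + b * r)] {t : ℕ}
  {S M L : Subgroup (MV a b t ≃ₗ[F] MV a b t)}

omit [Finite F] [Fact (∀ r : F, r ^ 2 ≠ a + b * r)] in
theorem mQ_single (l : Fin t) (ζ : QuadraticAlgebra F a b) :
    mQ a b t (Pi.single l ζ) = QuadraticAlgebra.norm ζ := by
  rw [mQ_apply, Finset.sum_eq_single l]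
  · rw [Pi.single_eq_same]
  · intro j _ hj
    rw [Pi.single_eq_of_ne hj, QuadraticAlgebra.norm_zero]
  · intro h
    exact absurd (Finset.mem_univ l) h

omit [Finite F] [Fact (∀ r : F, r ^ 2 ≠ a + b * r)] in
theorem mB_single (y : MV a b t) (l : Fin t) (ζ : QuadraticAlgebra F a b) :
    mB a b t y (Pi.single l ζ) = QuadraticAlgebra.trace (y l * star ζ) := by
  rw [mB_apply, Finset.sum_eq_single l]
  · rw [Pi.single_eq_same]
  · intro j _ hj
    rw [Pi.single_eq_of_ne hj, star_zero, mul_zero, map_zero]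
  · intro h
    exact absurd (Finset.mem_univ l) h

omit [Finite F] [Fact (∀ r : F, r ^ 2 ≠ a + b * r)] in
theorem single_mem_mD (l : Fin t) (ζ : QuadraticAlgebra F a b) :
    (Pi.single l ζ : MV a b t) ∈ mD a b t l := by
  intro j hj
  rw [Pi.single_eq_of_ne hj]

omit [Finite F] [Fact (∀ r : F, r ^ 2 ≠ a + b * r)] in
theorem trace_mul_star_self (z : QuadraticAlgebra F a b) :
    QuadraticAlgebra.trace (z * star z) = 2 * QuadraticAlgebra.norm z := by
  simp only [QuadraticAlgebra.trace_def, QuadraticAlgebra.norm_def, QuadraticAlgebra.re_mul,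
    QuadraticAlgebra.im_mul, QuadraticAlgebra.re_star, QuadraticAlgebra.im_star]
  ring

omit [Finite F] [Fact (∀ r : F, r ^ 2 ≠ a + b * r)] in
theorem trace_mul_star_mul (μ z : QuadraticAlgebra F a b) :
    QuadraticAlgebra.trace (z * star (μ * z)) =
      QuadraticAlgebra.norm z * QuadraticAlgebra.trace μ := by
  simp only [QuadraticAlgebra.trace_def, QuadraticAlgebra.norm_def, QuadraticAlgebra.re_mul,
    QuadraticAlgebra.im_mul, QuadraticAlgebra.re_star, QuadraticAlgebra.im_star]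
  ring

/-- **Q2-T1N2** -/
theorem T1N2 (h2 : (2 : F) = 0) {y : MV a b t} {l l' : Fin t} (hll' : l ≠ l') (hl : y l ≠ 0)
    (hl' : y l' ≠ 0) :
    ∃ n n' : MV a b t, n ∈ mD a b t l ∧ n' ∈ mD a b t l' ∧ mQ a b t n = mQ a b t n' ∧
      mQ a b t n ≠ 0 ∧ mB a b t y n = 0 ∧ mB a b t y n' = 0 := by
  have hN : QuadraticAlgebra.norm (y l) ≠ 0 := fun h =>
    hl (QuadraticAlgebra.norm_eq_zero_iff_eq_zero.mp h)
  have hN' : QuadraticAlgebra.norm (y l') ≠ 0 := fun h =>
    hl' (QuadraticAlgebra.norm_eq_zero_iff_eq_zero.mp h)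
  -- squaring is onto in characteristic 2
  have hsq : ∀ c : F, ∃ s : F, c = s * s := by
    intro c
    have : Fintype F := Fintype.ofFinite F
    have hchar : ringChar F = 2 := by
      apply CharP.ringChar_of_prime_eq_zero Nat.prime_two
      exact_mod_cast h2
    exact FiniteField.isSquare_of_char_two hchar c
  obtain ⟨s, hs⟩ := hsq (QuadraticAlgebra.norm (y l) / QuadraticAlgebra.norm (y l'))
  refine ⟨Pi.single l (y l), s • Pi.single l' (y l'), single_mem_mD l _,
    Submodule.smul_mem _ _ (single_mem_mD l' _), ?_, ?_, ?_, ?_⟩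
  · rw [mQs, mQ_single, mQ_single, ← hs, div_mul_cancel₀ _ hN']
  · rw [mQ_single]
    exact hN
  · rw [mB_single, trace_mul_star_self, h2, zero_mul]
  · rw [map_smul, mB_single, trace_mul_star_self, h2, zero_mul, smul_zero]

end Cfsg.Agent.Lib.Helper95_Q2_T1N2
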