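import Mathlib
import Cfsg.Agent.Lib.Helper94_Q2Defs
import Cfsg.Agent.Lib.Helper95_Q2_T1N2

/-!
# Q2 market (architect helper94), package Q2-T1N3 (helper95)

Odd characteristic, `t ≥ 5`: three vectors `n_i ∈ mD l_i` (distinct `l_i`) of the same non-zero norm,
all orthogonal to `y`.
-/

set_option autoImplicit false
set_option linter.unusedSectionVars false
set_option linter.unusedVariables false

namespace Cfsg.Agent.Lib.Helper95_Q2_T1N3

open Module Cfsg.Agent.Lib.Helper94_Symp Cfsg.Agent.Lib.Helper94_OrthSmall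
  Cfsg.Agent.Lib.Helper94_OrthSiegel Cfsg.Agent.Lib.Helper94_OrthNondeg
  Cfsg.Agent.Lib.Helper29_ODDefs Cfsg.Agent.Lib.Helper94_Q2Defs
  Cfsg.Agent.Lib.Helper95_Q2_T1N2

variable {F : Type*} [Field F] [Finite F] {a b : F} [Fact (∀ r : F, r ^ 2 ≠ a + b * r)] {t : ℕ}
  {S M L : Subgroup (MV a b t ≃ₗ[F] MV a b t)}

omit [Finite F] [Fact (∀ r : F, r ^ 2 ≠ a + b * r)] in
/-- A non-zero element of trace zero (same statement as Q2-TR0). -/
theorem exists_trace_zero (h2 : (2 : F) ≠ 0) :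
    ∃ μ : QuadraticAlgebra F a b, μ ≠ 0 ∧ QuadraticAlgebra.trace μ = 0 := by
  refine ⟨⟨-b, 2⟩, ?_, ?_⟩
  · intro h
    have := congrArg QuadraticAlgebra.im h
    exact h2 this
  · rw [QuadraticAlgebra.trace_def]
    ring

/-- Among the values of a function on `Fin t`, `t ≥ 5`, with non-zero values in a finite field of
odd characteristic, three (at distinct places) have pairwise ratios which are squares. -/
theorem exists_three_sq (h2 : (2 : F) ≠ 0) (ht : 5 ≤ t) (c : Fin t → F) (hc : ∀ l, c l ≠ 0) :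
    ∃ l₁ l₂ l₃ : Fin t, l₁ ≠ l₂ ∧ l₁ ≠ l₃ ∧ l₂ ≠ l₃ ∧
      (∃ s : F, c l₁ / c l₂ = s * s) ∧ (∃ s : F, c l₁ / c l₃ = s * s) := by
  classical
  have : Fintype F := Fintype.ofFinite F
  have hdich : ∀ l ∈ (Finset.univ : Finset (Fin t)),
      quadraticChar F (c l) ∈ ({1, -1} : Finset ℤ) := by
    intro l _
    rcases quadraticChar_dichotomy (hc l) with h | h
    · rw [h]; simp
    · rw [h]; simp
  have hcard : ({1, -1} : Finset ℤ).card * 2 < (Finset.univ : Finset (Fin t)).card := by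
    rw [Finset.card_univ, Fintype.card_fin]
    have : ({1, -1} : Finset ℤ).card = 2 := by decide
    omega
  obtain ⟨e, _, he⟩ := Finset.exists_lt_card_fiber_of_mul_lt_card_of_maps_to hdich hcard
  obtain ⟨l₁, l₂, l₃, h1, h2', h3, h12, h13, h23⟩ := Finset.two_lt_card_iff.mp he
  have e1 := (Finset.mem_filter.mp h1).2
  have e2 := (Finset.mem_filter.mp h2').2
  have e3 := (Finset.mem_filter.mp h3).2
  have key : ∀ l l' : Fin t, quadraticChar F (c l) = e → quadraticChar F (c l') = e →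
      ∃ s : F, c l / c l' = s * s := by
    intro l l' hl hl'
    have hne : c l / c l' ≠ 0 := div_ne_zero (hc l) (hc l')
    have hmul : quadraticChar F (c l / c l') * quadraticChar F (c l') = quadraticChar F (c l) := by
      rw [← map_mul, div_mul_cancel₀ _ (hc l')]
    have hone : quadraticChar F (c l / c l') = 1 := by
      rw [hl, hl'] at hmul
      have he0 : e ≠ 0 := by
        rw [← hl]
        exact fun h => hc l (quadraticChar_eq_zero_iff.mp h)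
      exact mul_right_cancel₀ he0 (by rw [hmul, one_mul])
    exact (quadraticChar_one_iff_isSquare hne).mp hone
  exact ⟨l₁, l₂, l₃, h12, h13, h23, key l₁ l₂ e1 e2, key l₁ l₃ e1 e3⟩

/-- **Q2-T1N3** -/
theorem T1N3 (h2 : (2 : F) ≠ 0) (ht : 5 ≤ t) {y : MV a b t} (hy : ∀ l, y l ≠ 0) :
    ∃ l₁ l₂ l₃ : Fin t, l₁ ≠ l₂ ∧ l₁ ≠ l₃ ∧ l₂ ≠ l₃ ∧ ∃ n₁ n₂ n₃ : MV a b t,
      n₁ ∈ mD a b t l₁ ∧ n₂ ∈ mD a b t l₂ ∧ n₃ ∈ mD a b t l₃ ∧
      mQ a b t n₁ ≠ 0 ∧ mQ a b t n₂ = mQ a b t n₁ ∧ mQ a b t n₃ = mQ a b t n₁ ∧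
      mB a b t y n₁ = 0 ∧ mB a b t y n₂ = 0 ∧ mB a b t y n₃ = 0 := by
  obtain ⟨μ, hμ0, hμ⟩ := exists_trace_zero (a := a) (b := b) h2
  have hNμ : QuadraticAlgebra.norm μ ≠ 0 := fun h =>
    hμ0 (QuadraticAlgebra.norm_eq_zero_iff_eq_zero.mp h)
  have hN : ∀ l, QuadraticAlgebra.norm (y l) ≠ 0 := fun l h =>
    hy l (QuadraticAlgebra.norm_eq_zero_iff_eq_zero.mp h)
  obtain ⟨l₁, l₂, l₃, h12, h13, h23, ⟨s₂, hs₂⟩, ⟨s₃, hs₃⟩⟩ :=
    exists_three_sq h2 ht (fun l => QuadraticAlgebra.norm (y l)) hN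
  have hB : ∀ l, mB a b t y (Pi.single l (μ * y l)) = 0 := by
    intro l
    rw [mB_single, trace_mul_star_mul, hμ, mul_zero]
  have hQ : ∀ l, mQ a b t (Pi.single l (μ * y l)) =
      QuadraticAlgebra.norm μ * QuadraticAlgebra.norm (y l) := by
    intro l
    rw [mQ_single, map_mul]
  refine ⟨l₁, l₂, l₃, h12, h13, h23, Pi.single l₁ (μ * y l₁), s₂ • Pi.single l₂ (μ * y l₂),
    s₃ • Pi.single l₃ (μ * y l₃), single_mem_mD _ _, Submodule.smul_mem _ _ (single_mem_mD _ _),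
    Submodule.smul_mem _ _ (single_mem_mD _ _), ?_, ?_, ?_, hB l₁, ?_, ?_⟩
  · rw [hQ]
    exact mul_ne_zero hNμ (hN l₁)
  · rw [mQs, hQ, hQ, ← hs₂]
    field_simp [hN l₂]
  · rw [mQs, hQ, hQ, ← hs₃]
    field_simp [hN l₃]
  · rw [map_smul, hB, smul_zero]
  · rw [map_smul, hB, smul_zero]

end Cfsg.Agent.Lib.Helper95_Q2_T1N3
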