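import Mathlib
import Cfsg.Agent.Lib.Helper94_Q2Defs
import Cfsg.Agent.Lib.Helper94_Q2_NOTS
import Cfsg.Agent.Lib.Helper85_Q2_BASIC
import Cfsg.Agent.Lib.Helper39_Q2_FS
import Cfsg.Agent.Lib.Helper24_Q2_C0
import Cfsg.Agent.Lib.Helper73_Q2_REFL2
import Cfsg.Agent.Lib.Helper95_Q2_T1N2
import Cfsg.Agent.Lib.Helper95_Q2_T1N3
import Cfsg.Agent.Lib.Helper91_Q2_T1Baux
import Cfsg.Agent.Lib.Helper44_Q2_T1ALPHA
import Cfsg.Agent.Lib.Helper16_Q2_T1BETA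

set_option autoImplicit false
set_option linter.unusedSectionVars false
set_option linter.unusedVariables false

/-! Q2-T1 (helper94's Q2 market): case (T-1) is impossible, assembly. -/

namespace Cfsg.Agent.Lib.Helper94_Q2_T1

open Module Cfsg.Agent.Lib.Helper94_Symp Cfsg.Agent.Lib.Helper94_OrthSmall
  Cfsg.Agent.Lib.Helper94_OrthSiegel Cfsg.Agent.Lib.Helper94_OrthNondeg
  Cfsg.Agent.Lib.Helper29_ODDefs Cfsg.Agent.Lib.Helper94_Q2Defs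

open Cfsg.Agent.Lib.Helper94_Q2_NOTS (NOTS)
open Cfsg.Agent.Lib.Helper85_Q2_BASIC (mB_of_mem single_mem mani)
open Cfsg.Agent.Lib.Helper39_Q2_FS (FS_of_C0)
open Cfsg.Agent.Lib.Helper24_Q2_C0 (C0)
open Cfsg.Agent.Lib.Helper73_Q2_REFL2 (REFL2)
open Cfsg.Agent.Lib.Helper95_Q2_T1N2 (T1N2)
open Cfsg.Agent.Lib.Helper95_Q2_T1N3 (T1N3)
open Cfsg.Agent.Lib.Helper91_Q2_T1Baux (T1B_of)
open Cfsg.Agent.Lib.Helper44_Q2_T1ALPHA (T1ALPHA_of)
open Cfsg.Agent.Lib.Helper16_Q2_T1BETA (T1BETA)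

variable {F : Type*} [Field F] [Finite F] {a b : F} [Fact (∀ r : F, r ^ 2 ≠ a + b * r)] {t : ℕ}
  {S M L : Subgroup (MV a b t ≃ₗ[F] MV a b t)}

/-- Q2-FS (from helper39's `FS_of_C0` and helper24's `C0`). -/
theorem FS (hC : Ctx2 a b t S M) (s : Set F) (hs : ∃ c ∈ s, c ≠ 0)
    (hCs : ∀ x, IsBl x → mQ a b t x ∈ s → CStar S M x) :
    ∀ g ∈ M, g ∉ S → ∀ x, IsBl x → mQ a b t x ∈ s → ∀ l, g x l ≠ 0 :=
  FS_of_C0 (fun hC s hs hCs => C0 hC s hs hCs) hC s hs hCs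

/-- Q2-T1B (from helper91's `T1B_of` and helper73's `REFL2`). -/
theorem T1B (hS : IsDStab (mD a b t) S) {y : MV a b t} {l l' : Fin t} (hll' : l ≠ l')
    {n n' : MV a b t} (hn : n ∈ mD a b t l) (hn' : n' ∈ mD a b t l')
    (hQ : mQ a b t n = mQ a b t n') (hn0 : mQ a b t n ≠ 0) (hn0' : mQ a b t n' ≠ 0)
    (h1 : mB a b t y n = 0) (h2 : mB a b t y n' = 0) :
    mrefl a b t hn0 * mrefl a b t hn0' ∈ S ⊓ mOm a b t ∧
      (mrefl a b t hn0 * mrefl a b t hn0') y = y :=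
  T1B_of (fun hlm _ _ hx hy hQ hx' hy' => REFL2 hlm hx hy hQ hx' hy') hS hll' hn hn' hQ hn0 hn0'
    h1 h2

/-- Q2-T1ALPHA (from helper44's `T1ALPHA_of`). -/
theorem T1ALPHA (hC : Ctx2 a b t S M) (hall : ∀ x, IsBl x → CStar S M x)
    {g : MV a b t ≃ₗ[F] MV a b t} (hg : g ∈ M) (hgS : g ∉ S) {l l' : Fin t} (hll' : l ≠ l')
    {n n' : MV a b t} (hn : n ∈ mD a b t l) (hn' : n' ∈ mD a b t l')
    (hn0 : mQ a b t n ≠ 0) (hn0' : mQ a b t n' ≠ 0)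
    (hfix : ∀ j, (mD a b t j).map
      ((g⁻¹ * (mrefl a b t hn0 * mrefl a b t hn0') * g : MV a b t ≃ₗ[F] MV a b t) :
        MV a b t →ₗ[F] MV a b t) = mD a b t j) : False :=
  T1ALPHA_of (fun s hs hCs => FS hC s hs hCs) hC hall hg hgS hll' hn hn' hn0 hn0' hfix

lemma single_ne_zero' (i : Fin t) : (Pi.single i 1 : MV a b t) ≠ 0 := by
  intro h
  have := congrFun h i
  rw [Pi.single_eq_same, Pi.zero_apply] at this
  exact one_ne_zero this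

lemma mD_inj {i j : Fin t} (h : mD a b t i = mD a b t j) : i = j := by
  by_contra hij
  have h1 : (Pi.single i 1 : MV a b t) ∈ mD a b t j := h ▸ single_mem i 1
  have := h1 i hij
  rw [Pi.single_eq_same] at this
  exact one_ne_zero this

lemma mB_blocks {l l' : Fin t} (hll' : l ≠ l') {n n' : MV a b t} (hn : n ∈ mD a b t l)
    (hn' : n' ∈ mD a b t l') : mB a b t n n' = 0 := by
  rw [mB_of_mem hn', hn l' (Ne.symm hll'), zero_mul, map_zero]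

/-- conjugating a product of two reflections -/
lemma conj_pair {g : MV a b t ≃ₗ[F] MV a b t} (hgO : g ∈ oG (mQ a b t)) {n n' : MV a b t}
    (hn0 : mQ a b t n ≠ 0) (hn0' : mQ a b t n' ≠ 0) :
    ∃ (hm0 : mQ a b t (g⁻¹ n) ≠ 0) (hm0' : mQ a b t (g⁻¹ n') ≠ 0),
      g⁻¹ * (mrefl a b t hn0 * mrefl a b t hn0') * g = mrefl a b t hm0 * mrefl a b t hm0' := by
  have hgi : g⁻¹ ∈ oG (mQ a b t) := (oG (mQ a b t)).inv_mem hgO
  have hm0 : mQ a b t (g⁻¹ n) ≠ 0 := by rw [hgi]; exact hn0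
  have hm0' : mQ a b t (g⁻¹ n') ≠ 0 := by rw [hgi]; exact hn0'
  refine ⟨hm0, hm0', ?_⟩
  have e1 := conj_refl (mQ a b t) (mB a b t) (mQs a b t) (mQp a b t) hgi hn0
  have e2 := conj_refl (mQ a b t) (mB a b t) (mQs a b t) (mQp a b t) hgi hn0'
  rw [inv_inv] at e1 e2
  have : g⁻¹ * (mrefl a b t hn0 * mrefl a b t hn0') * g =
      (g⁻¹ * mrefl a b t hn0 * g) * (g⁻¹ * mrefl a b t hn0' * g) := by group
  rw [this]
  exact congrArg₂ (· * ·) e1 e2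

/-- One pair of reflections: the conjugate permutes the planes by a transposition, and `2 ≠ 0`. -/
lemma step (hC : Ctx2 a b t S M) (hall : ∀ x, IsBl x → CStar S M x)
    {g : MV a b t ≃ₗ[F] MV a b t} (hgM : g ∈ M) (hgS : g ∉ S) {x : MV a b t} (hxb : IsBl x)
    {l l' : Fin t} (hll' : l ≠ l') {n n' : MV a b t} (hn : n ∈ mD a b t l)
    (hn' : n' ∈ mD a b t l') (hQ : mQ a b t n = mQ a b t n') (hn0 : mQ a b t n ≠ 0)
    (hn0' : mQ a b t n' ≠ 0) (h1 : mB a b t (g x) n = 0) (h2 : mB a b t (g x) n' = 0) :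
    (2 : F) ≠ 0 ∧ ∃ (σ : Equiv.Perm (Fin t)) (j j' : Fin t), j ≠ j' ∧ σ = Equiv.swap j j' ∧
      ∀ i, (mD a b t i).map
        ((g⁻¹ * (mrefl a b t hn0 * mrefl a b t hn0') * g : MV a b t ≃ₗ[F] MV a b t) :
          MV a b t →ₗ[F] MV a b t) = mD a b t (σ i) := by
  obtain ⟨hbH, hby⟩ := T1B hC.hS hll' hn hn' hQ hn0 hn0' h1 h2
  have hgO : g ∈ oG (mQ a b t) := Subgroup.commutator_le_self _ (hC.hMO hgM)
  have hb'M : g⁻¹ * (mrefl a b t hn0 * mrefl a b t hn0') * g ∈ M :=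
    M.mul_mem (M.mul_mem (M.inv_mem hgM) (hC.hmin.le hbH)) hgM
  have hb'x : (g⁻¹ * (mrefl a b t hn0 * mrefl a b t hn0') * g) x = x := by
    rw [LinearEquiv.mul_apply, LinearEquiv.mul_apply, hby]
    exact inv_apply_apply' g x
  have hb'S : g⁻¹ * (mrefl a b t hn0 * mrefl a b t hn0') * g ∈ S :=
    hall x hxb _ hb'M ⟨1, by rw [hb'x, one_smul]⟩
  obtain ⟨σ, hσ⟩ := (hC.hS _).mp hb'S
  obtain ⟨hm0, hm0', hconj⟩ := conj_pair hgO hn0 hn0'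
  have hgi : g⁻¹ ∈ oG (mQ a b t) := (oG (mQ a b t)).inv_mem hgO
  have hQ' : mQ a b t (g⁻¹ n) = mQ a b t (g⁻¹ n') := by rw [hgi, hgi, hQ]
  have horth : mB a b t (g⁻¹ n) (g⁻¹ n') = 0 := by
    rw [oG_B _ _ (mQp a b t) hgi]
    exact mB_blocks hll' hn hn'
  have hσ' : ∀ j, (mD a b t j).map
      ((mrefl a b t hm0 * mrefl a b t hm0' : MV a b t ≃ₗ[F] MV a b t) :
        MV a b t →ₗ[F] MV a b t) = mD a b t (σ j) := by
    intro j
    rw [← hconj]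
    exact hσ j
  rcases T1BETA hm0 hm0' hQ' horth σ hσ' with h | ⟨h2', j, j', hjj', hsw⟩
  · exfalso
    apply T1ALPHA hC hall hgM hgS hll' hn hn' hn0 hn0'
    intro j
    rw [hσ j, h]
    rfl
  · exact ⟨h2', σ, j, j', hjj', hsw, hσ⟩

lemma refl_comm {n n' : MV a b t} (hn0 : mQ a b t n ≠ 0) (hn0' : mQ a b t n' ≠ 0)
    (h : mB a b t n n' = 0) :
    mrefl a b t hn0 * mrefl a b t hn0' = mrefl a b t hn0' * mrefl a b t hn0 := by
  have h' : mB a b t n' n = 0 := by rw [B_symm _ _ (mQp a b t)]; exact h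
  ext x : 1
  simp only [LinearEquiv.mul_apply, refl_apply, map_sub, map_smul, h, h', mul_zero]
  module

lemma refl_sq {n : MV a b t} (hn0 : mQ a b t n ≠ 0) :
    mrefl a b t hn0 * mrefl a b t hn0 = 1 := by
  have h := refl_inv (mQ a b t) (mB a b t) (mQs a b t) (mQp a b t) hn0
  exact mul_eq_one_iff_inv_eq.mpr h

lemma map_mul' (f₁ f₂ : MV a b t ≃ₗ[F] MV a b t) (W : Submodule F (MV a b t)) :
    W.map ((f₁ * f₂ : MV a b t ≃ₗ[F] MV a b t) : MV a b t →ₗ[F] MV a b t) =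
      (W.map (f₂ : MV a b t →ₗ[F] MV a b t)).map (f₁ : MV a b t →ₗ[F] MV a b t) := by
  ext v
  simp only [Submodule.mem_map, LinearEquiv.coe_coe, LinearEquiv.mul_apply]
  constructor
  · rintro ⟨w, hw, rfl⟩
    exact ⟨f₂ w, ⟨w, hw, rfl⟩, rfl⟩
  · rintro ⟨_, ⟨w, hw, rfl⟩, rfl⟩
    exact ⟨w, hw, rfl⟩

/-- **Q2-T1** -/
theorem T1 (hC : Ctx2 a b t S M) (hall : ∀ x, IsBl x → CStar S M x) : False := by
  obtain ⟨g, hgM, hgS⟩ := NOTS hC
  have ht := hC.ht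
  let i0 : Fin t := ⟨0, by omega⟩
  have hxb : IsBl (Pi.single i0 1 : MV a b t) := ⟨single_ne_zero' i0, i0, single_mem i0 1⟩
  have hs : ∃ c ∈ {c : F | c ≠ 0}, c ≠ 0 := ⟨1, one_ne_zero, one_ne_zero⟩
  have hFS := FS hC {c | c ≠ 0} hs (fun x hx _ => hall x hx)
  have hy : ∀ l, g (Pi.single i0 1) l ≠ 0 := hFS g hgM hgS _ hxb (mani hxb)
  have hgO : g ∈ oG (mQ a b t) := Subgroup.commutator_le_self _ (hC.hMO hgM)
  by_cases h2 : (2 : F) = 0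
  · let i1 : Fin t := ⟨1, by omega⟩
    have h01 : i0 ≠ i1 := by
      intro h
      have := congrArg Fin.val h
      simp [i0, i1] at this
    obtain ⟨n, n', hn, hn', hQ, hn0, h1, h2'⟩ := T1N2 h2 h01 (hy i0) (hy i1)
    have hn0' : mQ a b t n' ≠ 0 := hQ ▸ hn0
    exact (step hC hall hgM hgS hxb h01 hn hn' hQ hn0 hn0' h1 h2').1 h2
  · obtain ⟨l₁, l₂, l₃, h12, h13, h23, n₁, n₂, n₃, hn₁, hn₂, hn₃, hq1, hq2, hq3, hb1, hb2, hb3⟩ :=
      T1N3 h2 ht hy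
    have hq2' : mQ a b t n₂ ≠ 0 := by rw [hq2]; exact hq1
    have hq3' : mQ a b t n₃ ≠ 0 := by rw [hq3]; exact hq1
    obtain ⟨-, σ₁₂, j₁, j₁', hj₁, hs₁, hσ₁⟩ :=
      step hC hall hgM hgS hxb h12 hn₁ hn₂ hq2.symm hq1 hq2' hb1 hb2
    obtain ⟨-, σ₁₃, j₂, j₂', hj₂, hs₂, hσ₂⟩ :=
      step hC hall hgM hgS hxb h13 hn₁ hn₃ hq3.symm hq1 hq3' hb1 hb3
    obtain ⟨-, σ₂₃, j₃, j₃', hj₃, hs₃, hσ₃⟩ :=
      step hC hall hgM hgS hxb h23 hn₂ hn₃ (hq2.trans hq3.symm) hq2' hq3' hb2 hb3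
    -- the product relation
    have hprod : (mrefl a b t hq1 * mrefl a b t hq2') * (mrefl a b t hq1 * mrefl a b t hq3') =
        mrefl a b t hq2' * mrefl a b t hq3' := by
      rw [refl_comm hq1 hq2' (mB_blocks h12 hn₁ hn₂)]
      have : mrefl a b t hq2' * mrefl a b t hq1 * (mrefl a b t hq1 * mrefl a b t hq3') =
          mrefl a b t hq2' * (mrefl a b t hq1 * mrefl a b t hq1) * mrefl a b t hq3' := by group
      rw [this, refl_sq, mul_one]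
    have hprod' : (g⁻¹ * (mrefl a b t hq1 * mrefl a b t hq2') * g) *
        (g⁻¹ * (mrefl a b t hq1 * mrefl a b t hq3') * g) =
        g⁻¹ * (mrefl a b t hq2' * mrefl a b t hq3') * g := by
      rw [← hprod]; group
    have hσ : σ₁₂ * σ₁₃ = σ₂₃ := by
      ext i : 1
      apply mD_inj (a := a) (b := b)
      rw [← hσ₃ i, ← hprod', Equiv.Perm.mul_apply, ← hσ₁ (σ₁₃ i), ← hσ₂ i,
        map_mul' (g⁻¹ * (mrefl a b t hq1 * mrefl a b t hq2') * g)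
          (g⁻¹ * (mrefl a b t hq1 * mrefl a b t hq3') * g)]
    have hsg := congrArg Equiv.Perm.sign hσ
    rw [Equiv.Perm.sign_mul, hs₁, hs₂, hs₃, Equiv.Perm.sign_swap hj₁, Equiv.Perm.sign_swap hj₂,
      Equiv.Perm.sign_swap hj₃] at hsg
    exact absurd hsg (by decide)

end Cfsg.Agent.Lib.Helper94_Q2_T1
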