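import Mathlib
import Cfsg.Agent.Lib.Helper94_Q2Defs

/-!
# Q2 market (architect helper94), package Q2-RINV: the set of reflection centres of `L` is `L`-invariant (`conj_refl`).
-/

set_option autoImplicit false
set_option linter.unusedSectionVars false
set_option linter.unusedVariables false

namespace Cfsg.Agent.Lib.Helper61_Q2_RINV

open Module Cfsg.Agent.Lib.Helper94_Symp Cfsg.Agent.Lib.Helper94_OrthSmall
  Cfsg.Agent.Lib.Helper94_OrthSiegel Cfsg.Agent.Lib.Helper94_OrthNondeg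
  Cfsg.Agent.Lib.Helper29_ODDefs Cfsg.Agent.Lib.Helper94_Q2Defs

variable {F : Type*} [Field F] [Finite F] {a b : F} [Fact (∀ r : F, r ^ 2 ≠ a + b * r)] {t : ℕ}
  {S M L : Subgroup (MV a b t ≃ₗ[F] MV a b t)}

/-- **Q2-RINV** [S] conj_refl. -/
theorem RINV (hLO : L ≤ oG (mQ a b t)) {w : MV a b t} (hw : InRc L w)
    {g : MV a b t ≃ₗ[F] MV a b t} (hg : g ∈ L) : InRc L (g w) := by
  obtain ⟨hw0, hr⟩ := hw
  have hgO : g ∈ oG (mQ a b t) := hLO hg
  have hgw : mQ a b t (g w) ≠ 0 := by rw [hgO w]; exact hw0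
  refine ⟨hgw, ?_⟩
  have h1 := conj_refl (mQ a b t) (mB a b t) (mQs a b t) (mQp a b t) hgO hw0
  show refl (mQ a b t) (mB a b t) (mQs a b t) (mQp a b t) hgw ∈ L
  rw [← h1]
  exact L.mul_mem (L.mul_mem hg hr) (L.inv_mem hg)

end Cfsg.Agent.Lib.Helper61_Q2_RINV
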