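import Mathlib
import Cfsg.Agent.Lib.Helper94_Q2Defs

set_option autoImplicit false
set_option linter.unusedSectionVars false
set_option linter.unusedVariables false
set_option linter.unusedSimpArgs false

namespace Cfsg.Agent.Lib.Helper70_Q2_ODEC

open Module Cfsg.Agent.Lib.Helper94_Symp Cfsg.Agent.Lib.Helper94_OrthSmall
  Cfsg.Agent.Lib.Helper94_OrthSiegel Cfsg.Agent.Lib.Helper94_OrthNondeg
  Cfsg.Agent.Lib.Helper29_ODDefs Cfsg.Agent.Lib.Helper94_Q2Defs

variable {F : Type*} [Field F] [Finite F] {a b : F} [Fact (∀ r : F, r ^ 2 ≠ a + b * r)] {t : ℕ}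
  {S M L : Subgroup (MV a b t ≃ₗ[F] MV a b t)}

omit [Finite F] [Fact (∀ r : F, r ^ 2 ≠ a + b * r)] in
lemma single_mem_mD (l : Fin t) (ζ : QuadraticAlgebra F a b) :
    (Pi.single l ζ : MV a b t) ∈ mD a b t l := by
  intro j hj
  exact Pi.single_eq_of_ne (M := fun _ : Fin t => QuadraticAlgebra F a b) hj ζ

omit [Finite F] [Fact (∀ r : F, r ^ 2 ≠ a + b * r)] in
lemma eq_single_of_mem_mD {l : Fin t} {x : MV a b t} (hx : x ∈ mD a b t l) :
    x = Pi.single l (x l) := by
  funext j
  by_cases hj : j = l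
  · subst hj; simp
  · rw [hx j hj, Pi.single_eq_of_ne hj]

omit [Finite F] [Fact (∀ r : F, r ^ 2 ≠ a + b * r)] in
lemma mQ_of_mem_mD {l : Fin t} {x : MV a b t} (hx : x ∈ mD a b t l) :
    mQ a b t x = QuadraticAlgebra.norm (x l) := by
  rw [mQ_apply]
  refine Finset.sum_eq_single l (fun j _ hj => ?_) (fun h => absurd (Finset.mem_univ l) h)
  rw [hx j hj]
  simp [QuadraticAlgebra.norm_def]

omit [Finite F] [Fact (∀ r : F, r ^ 2 ≠ a + b * r)] in
lemma mB_of_mem_mD {l : Fin t} {x : MV a b t} (hx : x ∈ mD a b t l) (y : MV a b t) :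
    mB a b t y x = QuadraticAlgebra.trace (y l * star (x l)) := by
  rw [mB_apply]
  refine Finset.sum_eq_single l (fun j _ hj => ?_) (fun h => absurd (Finset.mem_univ l) h)
  rw [hx j hj, star_zero, mul_zero, map_zero]

/-- The `l`-th block is a copy of `E`. -/
noncomputable def blk (l : Fin t) : QuadraticAlgebra F a b ≃ₗ[F] mD a b t l where
  toFun ζ := ⟨Pi.single l ζ, single_mem_mD l ζ⟩
  map_add' ζ ξ := by
    apply Subtype.ext
    exact Pi.single_add (f := fun _ : Fin t => QuadraticAlgebra F a b) l ζ ξ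
  map_smul' c ζ := by
    apply Subtype.ext
    exact Pi.single_smul (f := fun _ : Fin t => QuadraticAlgebra F a b) l c ζ
  invFun x := x.1 l
  left_inv ζ := by simp
  right_inv x := by
    apply Subtype.ext
    exact (eq_single_of_mem_mD x.2).symm

lemma exists_trace_ne_zero : ∃ w : QuadraticAlgebra F a b, QuadraticAlgebra.trace w ≠ 0 := by
  by_cases h2 : (2 : F) = 0
  · refine ⟨QuadraticAlgebra.omega, ?_⟩
    rw [QuadraticAlgebra.trace_omega]
    intro hb
    have hinj : Function.Injective (fun x : F => x * x) := by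
      intro x y hxy
      have hxy' : x * x = y * y := hxy
      have h1 : (x - y) * (x - y) = 0 := by
        have e : (x - y) * (x - y) = x * x + y * y - 2 * (x * y) := by ring
        rw [e, h2, hxy']
        have : y * y + y * y = 2 * (y * y) := by ring
        rw [this, h2]; ring
      exact sub_eq_zero.1 (mul_self_eq_zero.1 h1)
    obtain ⟨r, hr⟩ := (Finite.injective_iff_surjective.1 hinj) a
    refine (Fact.out : ∀ r : F, r ^ 2 ≠ a + b * r) r ?_
    rw [hb, zero_mul, add_zero, pow_two]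
    exact hr
  · exact ⟨1, by rw [QuadraticAlgebra.trace_one]; exact h2⟩

/-- **Q2-ODEC** -/
theorem ODEC : ODec (mQ a b t) (mB a b t) 2 (mD a b t) := by
  refine ⟨?_, ?_, ?_, ?_, ?_⟩
  · intro i
    rw [← (blk (a := a) (b := b) i).finrank_eq, QuadraticAlgebra.finrank_eq_two]
  · rw [eq_top_iff]
    intro x _
    have hx : x = ∑ l, Pi.single l (x l) := (Finset.univ_sum_single x).symm
    rw [hx]
    exact Submodule.sum_mem _ fun l _ => Submodule.mem_iSup_of_mem l (single_mem_mD l _)
  · intro i x hx hx0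
    have hxi : x i ≠ 0 := by
      intro h
      apply hx0
      rw [eq_single_of_mem_mD hx, h, Pi.single_zero]
    obtain ⟨w, hw⟩ := exists_trace_ne_zero (a := a) (b := b)
    have hs : star (x i) ≠ 0 := by
      intro h
      exact hxi (star_eq_zero.1 h)
    refine ⟨Pi.single i (w * (star (x i))⁻¹), single_mem_mD i _, ?_⟩
    rw [mB_of_mem_mD hx, Pi.single_eq_same, mul_assoc, inv_mul_cancel₀ hs, mul_one]
    exact hw
  · intro i j hij u hu v hv
    rw [mB_of_mem_mD hv, hu j (Ne.symm hij), zero_mul, map_zero]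
  · intro i j
    refine ⟨(blk (a := a) (b := b) i).symm.trans (blk j), ?_⟩
    intro w
    rw [mQ_of_mem_mD (Subtype.property _), mQ_of_mem_mD w.2]
    simp [blk]

end Cfsg.Agent.Lib.Helper70_Q2_ODEC
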