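import Mathlib
import Cfsg.Agent.Lib.Helper94_Q2Defs
import Cfsg.Agent.Lib.Helper85_Q2_BASIC
import Cfsg.Agent.Lib.Helper63_Q2_NSURJ
import Cfsg.Agent.Lib.Helper61_Q2_RINV
import Cfsg.Agent.Lib.Helper70_Q2_ODEC
import Cfsg.Agent.Lib.Helper29_OD_Main
import Cfsg.Agent.Lib.Helper71_Q2_Z4

set_option autoImplicit false
set_option linter.unusedSectionVars false
set_option linter.unusedVariables false

/-!
# Q2 market (architect helper94), package Q2-T2A.

`T2A_of` takes the VERBATIM statement of the package Q2-Z4 as a hypothesis (NSURJ, RINV, ODEC and BASIC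
are imported; NOTS is proved inline).
-/

namespace Cfsg.Agent.Lib.Helper44_Q2_T2A

open Module Cfsg.Agent.Lib.Helper94_Symp Cfsg.Agent.Lib.Helper94_OrthSmall
  Cfsg.Agent.Lib.Helper94_OrthSiegel Cfsg.Agent.Lib.Helper94_OrthNondeg
  Cfsg.Agent.Lib.Helper29_ODDefs Cfsg.Agent.Lib.Helper94_Q2Defs
  Cfsg.Agent.Lib.Helper85_Q2_BASIC

variable {F : Type*} [Field F] [Finite F] {a b : F} [Fact (∀ r : F, r ^ 2 ≠ a + b * r)] {t : ℕ}
  {S M L : Subgroup (MV a b t ≃ₗ[F] MV a b t)}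

/-- `M` is not contained in `S` (package Q2-NOTS, proved inline). -/
theorem nots (hC : Ctx2 a b t S M) : ∃ g ∈ M, g ∉ S := by
  by_contra hcon
  push Not at hcon
  apply hC.hmin.ne
  exact le_antisymm (le_inf hcon hC.hMO) hC.hmin.le

/-- a vector with at most one nonzero coordinate lies in a coordinate plane -/
theorem exists_mem_mD_of_card_le_one (ht : 0 < t) (v : MV a b t) (h : (Supp v).card ≤ 1) :
    ∃ j, v ∈ mD a b t j := by
  classical
  rw [Finset.card_le_one] at h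
  by_cases hv : ∃ j, v j ≠ 0
  · obtain ⟨j, hj⟩ := hv
    refine ⟨j, fun k hk => ?_⟩
    by_contra hk0
    have h1 : k ∈ Supp v := by
      unfold Supp
      rw [Finset.mem_filter]
      exact ⟨Finset.mem_univ _, hk0⟩
    have h2 : j ∈ Supp v := by
      unfold Supp
      rw [Finset.mem_filter]
      exact ⟨Finset.mem_univ _, hj⟩
    exact hk (h k h1 j h2)
  · push Not at hv
    exact ⟨⟨0, ht⟩, fun k _ => hv k⟩

/-- a vector of a coordinate plane all of whose coordinates at that plane vanish is zero -/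
theorem eq_zero_of_mem_of_apply {j : Fin t} {v : MV a b t} (hv : v ∈ mD a b t j) (h : v j = 0) :
    v = 0 := by
  funext k
  by_cases hk : k = j
  · subst hk
    exact h
  · exact hv k hk

/-- the pure algebra of (T-2a): if the images of `ζ e_i`, `ξ ζ e_i`, `ξ² ζ e_i` all lie in planes,
the image of the whole plane `mD i` lies in a plane. -/
theorem plane_of_three (g : MV a b t ≃ₗ[F] MV a b t) (i : Fin t) {ζ ξ : QuadraticAlgebra F a b}
    {d : F} (hd : d ≠ 0) (hζ : QuadraticAlgebra.norm ζ = d⁻¹) (hξ : QuadraticAlgebra.norm ξ = 1)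
    (hξ4 : ξ ^ 4 ≠ 1)
    (h1 : ∃ j, g (Pi.single i ζ) ∈ mD a b t j) (h2 : ∃ j, g (Pi.single i (ξ * ζ)) ∈ mD a b t j)
    (h3 : ∃ j, g (Pi.single i (ξ ^ 2 * ζ)) ∈ mD a b t j) :
    ∃ j, (mD a b t i).map (g : MV a b t →ₗ[F] MV a b t) ≤ mD a b t j := by
  classical
  obtain ⟨j₁, hj₁⟩ := h1
  obtain ⟨j₂, hj₂⟩ := h2
  obtain ⟨j₃, hj₃⟩ := h3
  have hsq : ξ ^ 2 = QuadraticAlgebra.trace ξ • ξ - 1 := by
    rw [QuadraticAlgebra.sq_eq_trace_smul_sub_norm, hξ, map_one]
  -- the trace of `ξ` does not vanish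
  have htr : QuadraticAlgebra.trace ξ ≠ 0 := by
    intro h0
    apply hξ4
    rw [h0, zero_smul, zero_sub] at hsq
    rw [show (4 : ℕ) = 2 * 2 by norm_num, pow_mul, hsq]
    ring
  -- `ξ` is not in `F`
  have him : ξ.im ≠ 0 := by
    intro h0
    apply hξ4
    have h5 : QuadraticAlgebra.norm ξ = ξ.re * ξ.re := by
      rw [QuadraticAlgebra.norm_def, h0]
      ring
    have h6 : ξ = algebraMap F (QuadraticAlgebra F a b) ξ.re := by
      ext
      · simp
      · simp [h0]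
    rw [h6, ← map_pow, show (4 : ℕ) = 2 * 2 by norm_num, pow_mul, pow_two ξ.re, ← h5, hξ, one_pow,
      map_one]
  have hζ0 : ζ ≠ 0 := by
    intro h0
    rw [h0, QuadraticAlgebra.norm_zero] at hζ
    exact (inv_ne_zero hd) hζ.symm
  have hx1 : (Pi.single i ζ : MV a b t) ≠ 0 := by
    intro h0
    apply hζ0
    have := congrFun h0 i
    rwa [Pi.single_eq_same] at this
  have hx2 : (Pi.single i (ξ * ζ) : MV a b t) ≠ 0 := by
    intro h0
    have h7 := congrFun h0 i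
    rw [Pi.single_eq_same, Pi.zero_apply] at h7
    have h8 : QuadraticAlgebra.norm (ξ * ζ) = 0 := by rw [h7, QuadraticAlgebra.norm_zero]
    rw [map_mul, hξ, one_mul, hζ] at h8
    exact (inv_ne_zero hd) h8
  -- the relation between the three vectors
  have hrel : (Pi.single i (ξ ^ 2 * ζ) : MV a b t) =
      QuadraticAlgebra.trace ξ • (Pi.single i (ξ * ζ) : MV a b t) - Pi.single i ζ := by
    rw [← Pi.single_smul, ← Pi.single_sub, hsq, sub_mul, one_mul, smul_mul_assoc]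
  have hgrel : g (Pi.single i (ξ ^ 2 * ζ)) =
      QuadraticAlgebra.trace ξ • g (Pi.single i (ξ * ζ)) - g (Pi.single i ζ) := by
    rw [hrel, map_sub, map_smul]
  -- the first two planes coincide
  have hj12 : j₁ = j₂ := by
    by_contra hne
    by_cases h31 : j₃ = j₁
    · -- then `j₃ ≠ j₂`: look at the coordinate `j₂`
      have h32 : j₂ ≠ j₃ := fun h => hne (h31.symm.trans h.symm)
      have e1 := congrFun hgrel j₂
      rw [hj₃ j₂ h32, Pi.sub_apply, Pi.smul_apply, hj₁ j₂ (Ne.symm hne), sub_zero] at e1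
      have e2 : g (Pi.single i (ξ * ζ)) j₂ = 0 := by
        rcases smul_eq_zero.mp e1.symm with h | h
        · exact absurd h htr
        · exact h
      have e3 := eq_zero_of_mem_of_apply hj₂ e2
      exact hx2 (g.injective (e3.trans (map_zero g).symm))
    · -- look at the coordinate `j₁`
      have e1 := congrFun hgrel j₁
      rw [hj₃ j₁ (Ne.symm h31), Pi.sub_apply, Pi.smul_apply, hj₂ j₁ hne, smul_zero, zero_sub] at e1
      have e2 : g (Pi.single i ζ) j₁ = 0 := neg_eq_zero.mp e1.symm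
      have e3 := eq_zero_of_mem_of_apply hj₁ e2
      exact hx1 (g.injective (e3.trans (map_zero g).symm))
  subst hj12
  refine ⟨j₁, ?_⟩
  rintro _ ⟨y, hy, rfl⟩
  -- `y = α x₁ + β x₂`
  obtain ⟨e', he'⟩ : ∃ e' : QuadraticAlgebra F a b, e' = d • (y i * star ζ) := ⟨_, rfl⟩
  have hye : y i = e' * ζ := by
    have h9 : ζ * star ζ = algebraMap F (QuadraticAlgebra F a b) d⁻¹ := by
      rw [← QuadraticAlgebra.algebraMap_norm_eq_mul_star, hζ]
    rw [he', smul_mul_assoc, mul_assoc, mul_comm (star ζ), h9, mul_comm (y i), ← Algebra.smul_def,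
      smul_smul, mul_inv_cancel₀ hd, one_smul]
  obtain ⟨β, hβ⟩ : ∃ β : F, β = e'.im / ξ.im := ⟨_, rfl⟩
  obtain ⟨α, hα⟩ : ∃ α : F, α = e'.re - β * ξ.re := ⟨_, rfl⟩
  have hdec : e' = α • (1 : QuadraticAlgebra F a b) + β • ξ := by
    ext
    · rw [QuadraticAlgebra.re_add, QuadraticAlgebra.re_smul, QuadraticAlgebra.re_smul,
        QuadraticAlgebra.re_one, smul_eq_mul, smul_eq_mul, mul_one, hα]
      ring
    · rw [QuadraticAlgebra.im_add, QuadraticAlgebra.im_smul, QuadraticAlgebra.im_smul,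
        QuadraticAlgebra.im_one, smul_eq_mul, smul_eq_mul, mul_zero, zero_add, hβ,
        div_mul_cancel₀ _ him]
  have hy' : y = α • (Pi.single i ζ : MV a b t) + β • (Pi.single i (ξ * ζ) : MV a b t) := by
    rw [eq_single_of_mem hy, hye, hdec, ← Pi.single_smul, ← Pi.single_smul, ← Pi.single_add]
    congr 1
    rw [add_mul, smul_mul_assoc, one_mul, smul_mul_assoc]
  show g y ∈ mD a b t j₁
  rw [hy', map_add, map_smul, map_smul]
  exact Submodule.add_mem _ (Submodule.smul_mem _ _ hj₁) (Submodule.smul_mem _ _ hj₂)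

theorem T2A_of
    (hZ4 : Nat.card F ≠ 3 →
      ∃ z : QuadraticAlgebra F a b, QuadraticAlgebra.norm z = 1 ∧ z ^ 4 ≠ 1)
    (hC : Ctx2 a b t S M) (h2 : (2 : F) ≠ 0) {d : F} (hd : d ≠ 0)
    {M₁ : Subgroup (MV a b t ≃ₗ[F] MV a b t)} (hM₁ : M ≤ M₁) (hM₁O : M₁ ≤ oG (mQ a b t))
    (hM₁R : ∀ x, IsBl x → IsSquare (d * mQ a b t x) → ∀ hx : mQ a b t x ≠ 0,
      mrefl a b t hx ∈ M₁) :
    ∃ v, InRc M₁ v ∧ IsSquare (d * mQ a b t v) ∧ 2 ≤ (Supp v).card := by
  classical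
  obtain ⟨g, hgM, hgS⟩ := nots hC
  have ht : 0 < t := by have := hC.ht; omega
  -- a plane whose image lies in no plane
  obtain ⟨i, hi⟩ : ∃ i, ∀ j, ¬ (mD a b t i).map (g : MV a b t →ₗ[F] MV a b t) ≤ mD a b t j := by
    by_contra hcon
    push Not at hcon
    exact hgS (Cfsg.Agent.Lib.Helper29_OD_Main.mem_dstab_of_le
      (Cfsg.Agent.Lib.Helper70_Q2_ODEC.ODEC (a := a) (b := b) (t := t)) (by norm_num) hC.hS g hcon)
  obtain ⟨ζ, hζ⟩ := Cfsg.Agent.Lib.Helper63_Q2_NSURJ.NSURJ (a := a) (b := b) d⁻¹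
  obtain ⟨ξ, hξ, hξ4⟩ := hZ4 hC.hq
  -- each vector `e e_i` of norm `d⁻¹` gives a candidate
  have hcand : ∀ e : QuadraticAlgebra F a b, QuadraticAlgebra.norm e = d⁻¹ →
      2 ≤ (Supp (g (Pi.single i e))).card →
      ∃ v, InRc M₁ v ∧ IsSquare (d * mQ a b t v) ∧ 2 ≤ (Supp v).card := by
    intro e he hcard
    have hmem : (Pi.single i e : MV a b t) ∈ mD a b t i := single_mem i e
    have hQ : mQ a b t (Pi.single i e : MV a b t) = d⁻¹ := by
      rw [mQ_of_mem hmem, Pi.single_eq_same, he]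
    have hQ0 : mQ a b t (Pi.single i e : MV a b t) ≠ 0 := by
      rw [hQ]
      exact inv_ne_zero hd
    have hne : (Pi.single i e : MV a b t) ≠ 0 := by
      intro h0
      apply hQ0
      rw [h0, mQ_apply]
      simp
    have hBl : IsBl (Pi.single i e : MV a b t) := ⟨hne, i, hmem⟩
    have hsq : IsSquare (d * mQ a b t (Pi.single i e : MV a b t)) := by
      rw [hQ, mul_inv_cancel₀ hd]
      exact ⟨1, (one_mul 1).symm⟩
    have hIn : InRc M₁ (Pi.single i e : MV a b t) := ⟨hQ0, hM₁R _ hBl hsq hQ0⟩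
    refine ⟨g (Pi.single i e), Cfsg.Agent.Lib.Helper61_Q2_RINV.RINV hM₁O hIn (hM₁ hgM), ?_, hcard⟩
    rw [hM₁O (hM₁ hgM) (Pi.single i e)]
    exact hsq
  by_contra hcon
  -- all three images lie in planes
  have hpl : ∀ e : QuadraticAlgebra F a b, QuadraticAlgebra.norm e = d⁻¹ →
      ∃ j, g (Pi.single i e) ∈ mD a b t j := by
    intro e he
    apply exists_mem_mD_of_card_le_one ht
    by_contra h
    push Not at h
    exact hcon (hcand e he (by omega))
  obtain ⟨j, hj⟩ := plane_of_three g i hd hζ hξ hξ4 (hpl ζ hζ)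
    (hpl (ξ * ζ) (by rw [map_mul, hξ, one_mul, hζ]))
    (hpl (ξ ^ 2 * ζ) (by rw [map_mul, map_pow, hξ, one_pow, one_mul, hζ]))
  exact hi j hj

/-- **Q2-T2A** -/
theorem T2A (hC : Ctx2 a b t S M) (h2 : (2 : F) ≠ 0) {d : F} (hd : d ≠ 0)
    {M₁ : Subgroup (MV a b t ≃ₗ[F] MV a b t)} (hM₁ : M ≤ M₁) (hM₁O : M₁ ≤ oG (mQ a b t))
    (hM₁R : ∀ x, IsBl x → IsSquare (d * mQ a b t x) → ∀ hx : mQ a b t x ≠ 0,
      mrefl a b t hx ∈ M₁) :
    ∃ v, InRc M₁ v ∧ IsSquare (d * mQ a b t v) ∧ 2 ≤ (Supp v).card :=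
  T2A_of (fun hq => Cfsg.Agent.Lib.Helper71_Q2_Z4.Z4 hq) hC h2 hd hM₁ hM₁O hM₁R

end Cfsg.Agent.Lib.Helper44_Q2_T2A
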