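import Mathlib
import Cfsg.Agent.Lib.Helper94_Q2Defs
import Cfsg.Agent.Lib.Helper93_Q2_TRFIB
import Cfsg.Agent.Lib.Helper93_Q2_E1CARD

/-!
# Q2-CCARD (helper94's market `q2_packages`)
-/

set_option autoImplicit false
set_option linter.unusedSectionVars false
set_option linter.unusedVariables false
set_option linter.style.haveILetI false

namespace Cfsg.Agent.Lib.Helper52_Q2_CCARD

open Module Cfsg.Agent.Lib.Helper94_Symp Cfsg.Agent.Lib.Helper94_OrthSmall
  Cfsg.Agent.Lib.Helper94_OrthSiegel Cfsg.Agent.Lib.Helper94_OrthNondeg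
  Cfsg.Agent.Lib.Helper29_ODDefs Cfsg.Agent.Lib.Helper94_Q2Defs

variable {F : Type*} [Field F] [Finite F] {a b : F} [Fact (∀ r : F, r ^ 2 ≠ a + b * r)] {t : ℕ}
  {S M L : Subgroup (MV a b t ≃ₗ[F] MV a b t)}

theorem norm_one_sub {z : QuadraticAlgebra F a b} (hz : QuadraticAlgebra.norm z = 1) :
    QuadraticAlgebra.norm (1 - z) = 2 - QuadraticAlgebra.trace z := by
  rw [QuadraticAlgebra.norm_def] at hz ⊢
  rw [QuadraticAlgebra.trace_def]
  simp only [QuadraticAlgebra.re_sub, QuadraticAlgebra.im_sub, QuadraticAlgebra.re_one,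
    QuadraticAlgebra.im_one]
  linear_combination hz

theorem CCARD_of
    (hTRFIB : ∀ {z w : QuadraticAlgebra F a b}, QuadraticAlgebra.norm z = 1 →
      QuadraticAlgebra.norm w = 1 → QuadraticAlgebra.trace z = QuadraticAlgebra.trace w →
      w = z ∨ w = star z)
    (hE1 : Nat.card F + 1 ≤ Nat.card {z : QuadraticAlgebra F a b // QuadraticAlgebra.norm z = 1})
    (A B c : F) (hA : A ≠ 0) (hB : B ≠ 0) :
    ∃ z w : QuadraticAlgebra F a b, QuadraticAlgebra.norm z = 1 ∧ QuadraticAlgebra.norm w = 1 ∧
      A * QuadraticAlgebra.norm (1 - z) + B * QuadraticAlgebra.norm (1 - w) = c := by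
  classical
  haveI : Fintype F := Fintype.ofFinite F
  haveI : Finite (QuadraticAlgebra F a b) :=
    Finite.of_equiv _ (QuadraticAlgebra.equivProd a b).symm
  haveI : Fintype {z : QuadraticAlgebra F a b // QuadraticAlgebra.norm z = 1} := Fintype.ofFinite _
  let f : {z : QuadraticAlgebra F a b // QuadraticAlgebra.norm z = 1} → F :=
    fun z => QuadraticAlgebra.norm (1 - z.1)
  let C0 : Finset F := Finset.univ.image f
  have hfib : ∀ v ∈ C0, (Finset.univ.filter (fun z => f z = v)).card ≤ 2 := by
    intro v hv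
    obtain ⟨z0, -, rfl⟩ := Finset.mem_image.1 hv
    have hsub : Finset.univ.filter (fun z => f z = f z0) ⊆
        {z0, ⟨star z0.1, by rw [QuadraticAlgebra.norm_star]; exact z0.2⟩} := by
      intro z hz
      rw [Finset.mem_filter] at hz
      have h1 : QuadraticAlgebra.trace z0.1 = QuadraticAlgebra.trace z.1 := by
        have := hz.2
        simp only [f, norm_one_sub z.2, norm_one_sub z0.2] at this
        linear_combination this
      rcases hTRFIB z0.2 z.2 h1 with h | h
      · simp [Subtype.ext_iff, h]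
      · simp [Subtype.ext_iff, h]
    exact (Finset.card_le_card hsub).trans Finset.card_le_two
  have hcard : Fintype.card {z : QuadraticAlgebra F a b // QuadraticAlgebra.norm z = 1}
      ≤ 2 * C0.card := by
    have := Finset.card_le_mul_card_image (s := Finset.univ) (f := f) 2 hfib
    simpa using this
  have hq : Fintype.card F + 1 ≤ 2 * C0.card := by
    rw [Nat.card_eq_fintype_card, Nat.card_eq_fintype_card] at hE1
    omega
  let S1 : Finset F := C0.image (fun x => A * x)
  let S2 : Finset F := C0.image (fun x => c - B * x)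
  have h1 : S1.card = C0.card := Finset.card_image_of_injective _ (mul_right_injective₀ hA)
  have h2 : S2.card = C0.card := by
    apply Finset.card_image_of_injective
    intro x y h
    have : B * x = B * y := by linear_combination -h
    exact mul_left_cancel₀ hB this
  have hne : (S1 ∩ S2).Nonempty := by
    apply Finset.inter_nonempty_of_card_lt_card_add_card (Finset.subset_univ _)
      (Finset.subset_univ _)
    rw [Finset.card_univ, h1, h2]; omega
  obtain ⟨v, hv⟩ := hne
  rw [Finset.mem_inter] at hv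
  obtain ⟨x1, hx1, rfl⟩ := Finset.mem_image.1 hv.1
  obtain ⟨x2, hx2, h⟩ := Finset.mem_image.1 hv.2
  obtain ⟨z, -, rfl⟩ := Finset.mem_image.1 hx1
  obtain ⟨w, -, rfl⟩ := Finset.mem_image.1 hx2
  exact ⟨z.1, w.1, z.2, w.2, by linear_combination -h⟩

/-- **Q2-CCARD** -/
theorem CCARD (A B c : F) (hA : A ≠ 0) (hB : B ≠ 0) :
    ∃ z w : QuadraticAlgebra F a b, QuadraticAlgebra.norm z = 1 ∧ QuadraticAlgebra.norm w = 1 ∧
      A * QuadraticAlgebra.norm (1 - z) + B * QuadraticAlgebra.norm (1 - w) = c :=
  CCARD_of (fun hz hw h => Cfsg.Agent.Lib.Helper93_Q2_TRFIB.TRFIB hz hw h)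
    Cfsg.Agent.Lib.Helper93_Q2_E1CARD.E1CARD A B c hA hB

end Cfsg.Agent.Lib.Helper52_Q2_CCARD
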