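import Mathlib
import Cfsg.Agent.Lib.Helper94_Q2Defs
import Cfsg.Agent.Lib.Helper44_Q2_ROT
import Cfsg.Agent.Lib.Helper44_Q2_ROTA
import Cfsg.Agent.Lib.Helper63_Q2_PAIRING
import Cfsg.Agent.Lib.Helper61_Q2_RINV
import Cfsg.Agent.Lib.Helper52_Q2_CCARD

/-!
# Q2-T2C (helper94's Q2 market, rows S5694 / S5692, `k = 2`)
-/

set_option autoImplicit false
set_option linter.unusedSectionVars false
set_option linter.unusedVariables false

namespace Cfsg.Agent.Lib.Helper48_Q2_T2C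

open Module Cfsg.Agent.Lib.Helper94_Symp Cfsg.Agent.Lib.Helper94_OrthSmall
  Cfsg.Agent.Lib.Helper94_OrthSiegel Cfsg.Agent.Lib.Helper94_OrthNondeg
  Cfsg.Agent.Lib.Helper29_ODDefs Cfsg.Agent.Lib.Helper94_Q2Defs

theorem sum_four {R ι : Type*} [AddCommMonoid R] [Fintype ι] [DecidableEq ι] (f : ι → R)
    {i j k l : ι} (hij : i ≠ j) (hik : i ≠ k) (hil : i ≠ l) (hjk : j ≠ k) (hjl : j ≠ l)
    (hkl : k ≠ l) (h0 : ∀ n, n ≠ i → n ≠ j → n ≠ k → n ≠ l → f n = 0) :
    ∑ n, f n = f i + (f j + (f k + f l)) := by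
  have h1 : ∑ n, f n = ∑ n ∈ ({i, j, k, l} : Finset ι), f n := by
    symm
    apply Finset.sum_subset (Finset.subset_univ _)
    intro n _ hn
    simp only [Finset.mem_insert, Finset.mem_singleton, not_or] at hn
    exact h0 n hn.1 hn.2.1 hn.2.2.1 hn.2.2.2
  rw [h1, Finset.sum_insert (by simp [hij, hik, hil]), Finset.sum_insert (by simp [hjk, hjl]),
    Finset.sum_insert (by simp [hkl]), Finset.sum_singleton]

theorem fifth : ∀ i j k l : Fin 5, ∃ p : Fin 5, p ≠ i ∧ p ≠ j ∧ p ≠ k ∧ p ≠ l := by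
  decide

variable {F : Type*} [Field F] [Finite F] {a b : F} [Fact (∀ r : F, r ^ 2 ≠ a + b * r)] {t : ℕ}
  {S M L : Subgroup (MV a b t ≃ₗ[F] MV a b t)}

/-- the rotation by `(z, star z)` at the coordinates `(l, m)` lies in `S ⊓ Ω` -/
theorem pair_rot (hS : IsDStab (mD a b t) S) {l m : Fin t} (hlm : l ≠ m)
    {z : QuadraticAlgebra F a b} (hz : QuadraticAlgebra.norm z = 1) :
    ∃ g : MV a b t ≃ₗ[F] MV a b t, g ∈ S ∧ g ∈ mOm a b t ∧ g ∈ oG (mQ a b t) ∧
      ∀ x j, g x j = (if j = l then z else if j = m then star z else 1) * x j := by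
  obtain ⟨g, hgO, hgS, hg⟩ := Cfsg.Agent.Lib.Helper44_Q2_ROT.ROT S hS
    (fun j => if j = l then z else if j = m then star z else 1)
    (by
      intro j
      split_ifs
      · exact hz
      · rw [QuadraticAlgebra.norm_star, hz]
      · exact QuadraticAlgebra.norm_one)
  exact ⟨g, hgS, Cfsg.Agent.Lib.Helper44_Q2_ROTA.ROTA hlm hz g hg, hgO, hg⟩

theorem norm_sub_one_star (z : QuadraticAlgebra F a b) :
    QuadraticAlgebra.norm (star z - 1) = QuadraticAlgebra.norm (1 - z) := by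
  have h1 : star z - 1 = star (z - 1) := by rw [star_sub, star_one]
  rw [h1, QuadraticAlgebra.norm_star, ← QuadraticAlgebra.norm_neg, neg_sub]

theorem norm_sub_one (z : QuadraticAlgebra F a b) :
    QuadraticAlgebra.norm (z - 1) = QuadraticAlgebra.norm (1 - z) := by
  rw [← QuadraticAlgebra.norm_neg, neg_sub]

/-- **Q2-T2C** -/
theorem T2C (hC : Ctx2 a b t S M) (h2 : (2 : F) ≠ 0)
    {M₁ : Subgroup (MV a b t ≃ₗ[F] MV a b t)} (hM₁ : M ≤ M₁) (hM₁O : M₁ ≤ oG (mQ a b t))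
    (hB : ∀ v, InRc M₁ v → 2 ≤ (Supp v).card → ∀ l, v l ≠ 0)
    {v : MV a b t} (hv : InRc M₁ v) (hfull : ∀ l, v l ≠ 0) : False := by
  classical
  have ht := hC.ht
  obtain ⟨hv0, hrv⟩ := hv
  -- five coordinates
  set e : Fin 5 → Fin t := Fin.castLE ht with he
  have hinj : Function.Injective e := Fin.castLE_injective ht
  have hν : ∀ n : Fin 5, QuadraticAlgebra.norm (v (e n)) ≠ 0 := fun n h =>
    hfull (e n) (QuadraticAlgebra.norm_eq_zero_iff_eq_zero.1 h)
  obtain ⟨i₀, j₀, k₀, l₀, hij₀, hik₀, hil₀, hjk₀, hjl₀, hkl₀, hA, hBB⟩ :=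
    Cfsg.Agent.Lib.Helper63_Q2_PAIRING.PAIRING h2 (fun n => QuadraticAlgebra.norm (v (e n))) hν
  obtain ⟨p₀, hpi₀, hpj₀, hpk₀, hpl₀⟩ : ∃ p : Fin 5, p ≠ i₀ ∧ p ≠ j₀ ∧ p ≠ k₀ ∧ p ≠ l₀ :=
    fifth i₀ j₀ k₀ l₀
  set i := e i₀ with hi
  set j := e j₀ with hj
  set k := e k₀ with hk
  set l := e l₀ with hl
  set p := e p₀ with hp
  have hij : i ≠ j := fun h => hij₀ (hinj h)
  have hik : i ≠ k := fun h => hik₀ (hinj h)
  have hil : i ≠ l := fun h => hil₀ (hinj h)
  have hjk : j ≠ k := fun h => hjk₀ (hinj h)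
  have hjl : j ≠ l := fun h => hjl₀ (hinj h)
  have hkl : k ≠ l := fun h => hkl₀ (hinj h)
  have hpi : p ≠ i := fun h => hpi₀ (hinj h)
  have hpj : p ≠ j := fun h => hpj₀ (hinj h)
  have hpk : p ≠ k := fun h => hpk₀ (hinj h)
  have hpl : p ≠ l := fun h => hpl₀ (hinj h)
  change QuadraticAlgebra.norm (v i) + QuadraticAlgebra.norm (v j) ≠ 0 at hA
  change QuadraticAlgebra.norm (v k) + QuadraticAlgebra.norm (v l) ≠ 0 at hBB
  -- the pigeonhole
  obtain ⟨z, w, hz, hw, hzw⟩ := Cfsg.Agent.Lib.Helper52_Q2_CCARD.CCARD (a := a) (b := b)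
    (QuadraticAlgebra.norm (v i) + QuadraticAlgebra.norm (v j))
    (QuadraticAlgebra.norm (v k) + QuadraticAlgebra.norm (v l)) (mQ a b t v) hA hBB
  -- the rotation
  obtain ⟨g₁, hg₁S, hg₁Ω, hg₁O, hg₁⟩ := pair_rot hC.hS hij hz
  obtain ⟨g₂, hg₂S, hg₂Ω, hg₂O, hg₂⟩ := pair_rot hC.hS hkl hw
  have hhM : g₁ * g₂ ∈ M₁ := by
    apply hM₁
    apply hC.hmin.le
    exact ⟨S.mul_mem hg₁S hg₂S, (mOm a b t).mul_mem hg₁Ω hg₂Ω⟩
  have hhO : g₁ * g₂ ∈ oG (mQ a b t) := hM₁O hhM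
  set u : MV a b t := (g₁ * g₂) v - v with hu
  have hun : ∀ n, u n = (if n = i then z else if n = j then star z else 1) *
      ((if n = k then w else if n = l then star w else 1) * v n) - v n := by
    intro n
    rw [hu, Pi.sub_apply, LinearEquiv.mul_apply, hg₁, hg₂]
  have hui : u i = (z - 1) * v i := by
    rw [hun, if_pos rfl, if_neg hik, if_neg hil]; ring
  have huj : u j = (star z - 1) * v j := by
    rw [hun, if_neg (Ne.symm hij), if_pos rfl, if_neg hjk, if_neg hjl]; ring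
  have huk : u k = (w - 1) * v k := by
    rw [hun, if_neg (Ne.symm hik), if_neg (Ne.symm hjk), if_pos rfl]; ring
  have hul : u l = (star w - 1) * v l := by
    rw [hun, if_neg (Ne.symm hil), if_neg (Ne.symm hjl), if_neg (Ne.symm hkl), if_pos rfl]; ring
  have hu0 : ∀ n, n ≠ i → n ≠ j → n ≠ k → n ≠ l → u n = 0 := by
    intro n h1 h2' h3 h4
    rw [hun, if_neg h1, if_neg h2', if_neg h3, if_neg h4]; ring
  -- `Q u = Q v`
  have hQu : mQ a b t u = mQ a b t v := by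
    rw [mQ_apply, sum_four (fun n => QuadraticAlgebra.norm (u n)) hij hik hil hjk hjl hkl
      (fun n h1 h2' h3 h4 => by
        show QuadraticAlgebra.norm (u n) = 0
        rw [hu0 n h1 h2' h3 h4, QuadraticAlgebra.norm_zero])]
    show QuadraticAlgebra.norm (u i) + (QuadraticAlgebra.norm (u j) +
      (QuadraticAlgebra.norm (u k) + QuadraticAlgebra.norm (u l))) = _
    rw [hui, huj, huk, hul, map_mul, map_mul, map_mul, map_mul, norm_sub_one_star, norm_sub_one_star,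
      norm_sub_one, norm_sub_one, ← hzw]
    ring
  -- `r_v (h v) = u`
  have hQh : mQ a b t ((g₁ * g₂) v) = mQ a b t v := hhO v
  have hhv : (g₁ * g₂) v = u + v := by rw [hu]; abel
  have hBuv : mB a b t u v = -mQ a b t v := by
    have h1 := mQp a b t u v
    rw [← hhv, hQh, hQu] at h1
    linear_combination -h1
  have hBvv : mB a b t v v = 2 * mQ a b t v := B_self (mQ a b t) (mB a b t) (mQs a b t) (mQp a b t) v
  have hrefl : mrefl a b t hv0 ((g₁ * g₂) v) = u := by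
    rw [refl_apply, hhv, map_add, LinearMap.add_apply, hBuv, hBvv]
    have h3 : (mQ a b t v)⁻¹ * (-mQ a b t v + 2 * mQ a b t v) = 1 := by
      field_simp
      ring
    rw [h3, one_smul]
    abel
  have hInRc : InRc M₁ u := by
    rw [← hrefl]
    exact Cfsg.Agent.Lib.Helper61_Q2_RINV.RINV hM₁O
      (Cfsg.Agent.Lib.Helper61_Q2_RINV.RINV hM₁O ⟨hv0, hrv⟩ hhM) hrv
  -- the support of `u`
  have hzw1 : z ≠ 1 ∨ w ≠ 1 := by
    by_contra hcon
    push Not at hcon
    rw [hcon.1, hcon.2, sub_self, QuadraticAlgebra.norm_zero, mul_zero, mul_zero, add_zero] at hzw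
    exact hv0 hzw.symm
  have hstar : ∀ y : QuadraticAlgebra F a b, y ≠ 1 → star y - 1 ≠ 0 := by
    intro y hy h
    apply hy
    have h1 : star y = 1 := sub_eq_zero.1 h
    have h2' := congrArg star h1
    rwa [star_star, star_one] at h2'
  have hcard : 2 ≤ (Supp u).card := by
    have hmem : ∀ n, u n ≠ 0 → n ∈ Supp u := by
      intro n hn
      unfold Supp
      exact Finset.mem_filter.2 ⟨Finset.mem_univ _, hn⟩
    rcases hzw1 with hz1 | hw1
    · have h1 : u i ≠ 0 := by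
        rw [hui]; exact mul_ne_zero (sub_ne_zero.2 hz1) (hfull i)
      have h2' : u j ≠ 0 := by
        rw [huj]; exact mul_ne_zero (hstar z hz1) (hfull j)
      exact Finset.one_lt_card.2 ⟨i, hmem i h1, j, hmem j h2', hij⟩
    · have h1 : u k ≠ 0 := by
        rw [huk]; exact mul_ne_zero (sub_ne_zero.2 hw1) (hfull k)
      have h2' : u l ≠ 0 := by
        rw [hul]; exact mul_ne_zero (hstar w hw1) (hfull l)
      exact Finset.one_lt_card.2 ⟨k, hmem k h1, l, hmem l h2', hkl⟩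
  exact hB u hInRc hcard p (hu0 p hpi hpj hpk hpl)

end Cfsg.Agent.Lib.Helper48_Q2_T2C
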