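import Mathlib
import Cfsg.Agent.Lib.Helper94_Q2Defs
import Cfsg.Agent.Lib.Helper53_Q2_T2M1of
import Cfsg.Agent.Lib.Helper63_Q2_NSURJ
import Cfsg.Agent.Lib.Helper55_Q2_TRANS

/-!
helper53: Q2 package T2M1 (architect helper94), verbatim (`T2M1_of` + landed NSURJ, TRANS).
-/

set_option autoImplicit false
set_option linter.unusedSectionVars false
set_option linter.unusedVariables false

namespace Cfsg.Agent.Lib.Helper53_Q2_T2M1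

open Module Cfsg.Agent.Lib.Helper94_Symp Cfsg.Agent.Lib.Helper94_OrthSmall
  Cfsg.Agent.Lib.Helper94_OrthSiegel Cfsg.Agent.Lib.Helper94_OrthNondeg
  Cfsg.Agent.Lib.Helper29_ODDefs Cfsg.Agent.Lib.Helper94_Q2Defs

variable {F : Type*} [Field F] [Finite F] {a b : F} [Fact (∀ r : F, r ^ 2 ≠ a + b * r)] {t : ℕ}
  {S M L : Subgroup (MV a b t ≃ₗ[F] MV a b t)}

/-- **Q2-T2M1** [M] -/
theorem T2M1 (hC : Ctx2 a b t S M) (h2 : (2 : F) ≠ 0) {d : F} (hd : d ≠ 0)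
    (hN : ∀ x, IsBl x → IsSquare (d * mQ a b t x) → Nrm M x) :
    ∃ M₁ : Subgroup (MV a b t ≃ₗ[F] MV a b t), M ≤ M₁ ∧ M₁ ≤ oG (mQ a b t) ∧
      (∀ x, IsBl x → IsSquare (d * mQ a b t x) → ∀ hx : mQ a b t x ≠ 0, mrefl a b t hx ∈ M₁) ∧
      ∀ g ∈ M₁, ∃ g' ∈ M, ∃ r ∈ S, r ∈ oG (mQ a b t) ∧ g = g' * r :=
  Cfsg.Agent.Lib.Helper53_Q2_T2M1of.T2M1_of
    (fun c => Cfsg.Agent.Lib.Helper63_Q2_NSURJ.NSURJ c)
    (fun {x y} hx hy h =>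
      Cfsg.Agent.Lib.Helper55_Q2_TRANS.TRANS hC.hS (by have := hC.ht; omega) hx hy h)
    hC h2 hd hN

end Cfsg.Agent.Lib.Helper53_Q2_T2M1
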