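import Mathlib
import Cfsg.Agent.Lib.Helper94_Q2Defs
import Cfsg.Agent.Lib.Helper53_Q2_T2M1
import Cfsg.Agent.Lib.Helper44_Q2_T2A
import Cfsg.Agent.Lib.Helper21_Q2_T2Baux
import Cfsg.Agent.Lib.Helper94_Q2_T1
import Cfsg.Agent.Lib.Helper48_Q2_T2C

set_option autoImplicit false
set_option linter.unusedSectionVars false
set_option linter.unusedVariables false

/-! Q2-T2 (helper94's Q2 market): case (T-2) is impossible, assembly. -/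

namespace Cfsg.Agent.Lib.Helper94_Q2_T2

open Module Cfsg.Agent.Lib.Helper94_Symp Cfsg.Agent.Lib.Helper94_OrthSmall
  Cfsg.Agent.Lib.Helper94_OrthSiegel Cfsg.Agent.Lib.Helper94_OrthNondeg
  Cfsg.Agent.Lib.Helper29_ODDefs Cfsg.Agent.Lib.Helper94_Q2Defs

open Cfsg.Agent.Lib.Helper53_Q2_T2M1 (T2M1)
open Cfsg.Agent.Lib.Helper44_Q2_T2A (T2A)
open Cfsg.Agent.Lib.Helper21_Q2_T2Baux (T2B_of)
open Cfsg.Agent.Lib.Helper94_Q2_T1 (FS)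
open Cfsg.Agent.Lib.Helper48_Q2_T2C (T2C)

variable {F : Type*} [Field F] [Finite F] {a b : F} [Fact (∀ r : F, r ^ 2 ≠ a + b * r)] {t : ℕ}
  {S M L : Subgroup (MV a b t ≃ₗ[F] MV a b t)}

/-- Q2-T2B (from helper21's `T2B_of` and `FS`). -/
theorem T2B (hC : Ctx2 a b t S M) (h2 : (2 : F) ≠ 0) {d : F} (hd : d ≠ 0)
    (hCs : ∀ x, IsBl x → ¬ IsSquare (d * mQ a b t x) → CStar S M x)
    {M₁ : Subgroup (MV a b t ≃ₗ[F] MV a b t)} (hM₁ : M ≤ M₁) (hM₁O : M₁ ≤ oG (mQ a b t))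
    (hM₁F : ∀ g ∈ M₁, ∃ g' ∈ M, ∃ r ∈ S, r ∈ oG (mQ a b t) ∧ g = g' * r) :
    ∀ v, InRc M₁ v → 2 ≤ (Supp v).card → ∀ l, v l ≠ 0 :=
  T2B_of (fun s hs hCs => FS hC s hs hCs) hC h2 hd hCs hM₁ hM₁O hM₁F

/-- **Q2-T2** -/
theorem T2 (hC : Ctx2 a b t S M) (h2 : (2 : F) ≠ 0) {d : F} (hd : d ≠ 0)
    (hN : ∀ x, IsBl x → IsSquare (d * mQ a b t x) → Nrm M x)
    (hCs : ∀ x, IsBl x → ¬ IsSquare (d * mQ a b t x) → CStar S M x) : False := by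
  obtain ⟨M₁, h1, h2', h3, h4⟩ := T2M1 hC h2 hd hN
  obtain ⟨v, hv, -, hcard⟩ := T2A hC h2 hd h1 h2' h3
  have hB := T2B hC h2 hd hCs h1 h2' h4
  exact T2C hC h2 h1 h2' hB hv (hB v hv hcard)

end Cfsg.Agent.Lib.Helper94_Q2_T2
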