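import Mathlib
import Cfsg.Agent.Lib.Helper94_Q2Defs
import Cfsg.Agent.Lib.Helper24_Q2_CASES
import Cfsg.Agent.Lib.Helper42_Q2_LGRP
import Cfsg.Agent.Lib.Helper79_Q2_MINRED
import Cfsg.Agent.Lib.Helper39_Q2_STRICT
import Cfsg.Agent.Lib.Helper94_Q2_NOTS
import Cfsg.Agent.Lib.Helper94_Q2_RMAIN
import Cfsg.Agent.Lib.Helper94_Q2_T1
import Cfsg.Agent.Lib.Helper94_Q2_T2
import Cfsg.Agent.Lib.Helper48_Q2_BRIDGE
import Cfsg.Agent.Lib.Helper16_Q2_BRISO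

set_option autoImplicit false
set_option linter.unusedSectionVars false
set_option linter.unusedVariables false

/-!
Assembly of the Q2 market: the stabiliser of an orthogonal decomposition into `t ≥ 5` isometric
anisotropic planes is maximal in `Ω = [O, O]` (every finite field with `|F| ≠ 3`, characteristic two
included), first in the concrete model `Fin t → QuadraticAlgebra F a b`, then in helper94's abstract
setting (`Q : V → F`, polar form `B`).  Rows S5694 / S5692, case `k = 2` with minus-type planes.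
(helper94)
-/

namespace Cfsg.Agent.Lib.Helper94_Q2Main

open Module Cfsg.Agent.Lib.Helper94_Symp Cfsg.Agent.Lib.Helper94_OrthSmall
  Cfsg.Agent.Lib.Helper94_OrthSiegel Cfsg.Agent.Lib.Helper94_OrthNondeg
  Cfsg.Agent.Lib.Helper29_ODDefs Cfsg.Agent.Lib.Helper94_Q2Defs

open Cfsg.Agent.Lib.Helper24_Q2_CASES (CASES)
open Cfsg.Agent.Lib.Helper42_Q2_LGRP (LGRP)
open Cfsg.Agent.Lib.Helper79_Q2_MINRED (MINRED)
open Cfsg.Agent.Lib.Helper39_Q2_STRICT (STRICT)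
open Cfsg.Agent.Lib.Helper94_Q2_NOTS (NOTS)
open Cfsg.Agent.Lib.Helper94_Q2_RMAIN (RMAIN)
open Cfsg.Agent.Lib.Helper94_Q2_T1 (T1)
open Cfsg.Agent.Lib.Helper94_Q2_T2 (T2)
open Cfsg.Agent.Lib.Helper48_Q2_BRIDGE (BRIDGE_of)
open Cfsg.Agent.Lib.Helper16_Q2_BRISO (BRISO)

section Model

variable {F : Type*} [Field F] [Finite F] {a b : F} [Fact (∀ r : F, r ^ 2 ≠ a + b * r)] {t : ℕ}
  {S M L : Subgroup (MV a b t ≃ₗ[F] MV a b t)}

/-- Every minimal overgroup of `H` in `Ω` is `Ω`. -/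
theorem core (hG3 : ∀ M : Subgroup (MV a b t ≃ₗ[F] MV a b t),
      (∀ u z, mQ a b t u = 0 → mB a b t u z = 0 → sieg (mQ a b t) (mB a b t) u z ∈ M) →
        mOm a b t ≤ M)
    (hC : Ctx2 a b t S M) : mOm a b t ≤ M := by
  rcases CASES hC with h1 | h2 | ⟨h2, d, hd, hN, hCs⟩
  · obtain ⟨L, hML, hLO, hLR, hLM⟩ := LGRP hC h1
    obtain ⟨g, hgM, hgS⟩ := NOTS hC
    have hCR : CtxR a b t S L :=
      ⟨hC.ht, hC.hq, hC.hS, hLO, hC.hmin.le.trans hML, hLR, fun h => hgS (h (hML hgM))⟩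
    have hall := RMAIN hCR
    have hΩL := hG3 L hall
    exact (le_inf hΩL le_rfl).trans hLM
  · exact (T1 hC h2).elim
  · exact (T2 hC h2 hd hN hCs).elim

/-- **Maximality of `(O(P) wr S_t) ∩ Ω` in `Ω`** for `t ≥ 5` anisotropic planes, `q ≠ 3`
(concrete model). -/
theorem maximal_dstab_q2_model (ht : 5 ≤ t) (hq : Nat.card F ≠ 3)
    (hG2 : ∀ u z, mQ a b t u = 0 → mB a b t u z = 0 →
      sieg (mQ a b t) (mB a b t) u z ∈ mOm a b t)
    (hG3 : ∀ M : Subgroup (MV a b t ≃ₗ[F] MV a b t),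
      (∀ u z, mQ a b t u = 0 → mB a b t u z = 0 → sieg (mQ a b t) (mB a b t) u z ∈ M) →
        mOm a b t ≤ M)
    (S : Subgroup (MV a b t ≃ₗ[F] MV a b t)) (hS : IsDStab (mD a b t) S) :
    (S ⊓ mOm a b t < mOm a b t) ∧
      ∀ M : Subgroup (MV a b t ≃ₗ[F] MV a b t), S ⊓ mOm a b t ≤ M → M ≤ mOm a b t →
        M = S ⊓ mOm a b t ∨ M = mOm a b t := by
  refine ⟨STRICT hS (by omega) hG2, fun M hHM hMO => ?_⟩
  by_cases hMH : M = S ⊓ mOm a b t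
  · exact Or.inl hMH
  right
  haveI : Finite (MV a b t ≃ₗ[F] MV a b t) := finite_MVEquiv
  obtain ⟨M₀, hmin, hM₀⟩ := MINRED (S ⊓ mOm a b t) M hHM hMH
  have hC : Ctx2 a b t S M₀ := ⟨ht, hq, hS, hmin, hM₀.trans hMO⟩
  exact le_antisymm hMO ((core hG3 hC).trans hM₀)

end Model

/-- **Maximality of the stabiliser of an orthogonal decomposition into `t ≥ 5` isometric
anisotropic planes** in `Ω = [O, O]`, `|F| ≠ 3`, any characteristic (abstract setting). -/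
theorem maximal_dstab_planes {F V : Type*} [Field F] [AddCommGroup V] [Module F V] [Finite F]
    [FiniteDimensional F V] {Q : V → F} {B : LinearMap.BilinForm F V}
    (hQs : ∀ (c : F) (v : V), Q (c • v) = c * c * Q v)
    (hQp : ∀ u v : V, Q (u + v) = Q u + Q v + B u v)
    (hG2 : ∀ u z, Q u = 0 → B u z = 0 → sieg Q B u z ∈ ⁅oG Q, oG Q⁆)
    (hG3 : ∀ M : Subgroup (V ≃ₗ[F] V),
      (∀ u z, Q u = 0 → B u z = 0 → sieg Q B u z ∈ M) → ⁅oG Q, oG Q⁆ ≤ M)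
    {t : ℕ} (D : Fin t → Submodule F V) (hD : ODec Q B 2 D)
    (hani : ∀ i, ∀ x ∈ D i, Q x = 0 → x = 0) (ht : 5 ≤ t) (hq : Nat.card F ≠ 3)
    (S : Subgroup (V ≃ₗ[F] V)) (hS : IsDStab D S) :
    (S ⊓ ⁅oG Q, oG Q⁆ < ⁅oG Q, oG Q⁆) ∧
      ∀ M : Subgroup (V ≃ₗ[F] V), S ⊓ ⁅oG Q, oG Q⁆ ≤ M → M ≤ ⁅oG Q, oG Q⁆ →
        M = S ⊓ ⁅oG Q, oG Q⁆ ∨ M = ⁅oG Q, oG Q⁆ :=
  BRIDGE_of (fun a b _ t ht hq hG2 hG3 S hS => maximal_dstab_q2_model ht hq hG2 hG3 S hS)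
    hQs hQp hG2 hG3 D (BRISO hQs hQp (by omega) D hD hani) ht hq S hS

end Cfsg.Agent.Lib.Helper94_Q2Main
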