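import Mathlib
import Cfsg.Agent.Lib.Helper38_OD2Bridge
import Cfsg.Agent.Lib.Helper94_Q2Main

set_option autoImplicit false
set_option linter.unusedSectionVars false

/-!
The bridge of `Helper38_OD2Bridge` with the dimension bound `13` relaxed to `7` (for the
decomposition conjuncts of the rows on `Ω_n`, `7 ≤ n ≤ 12`).  (helper38)
-/

namespace Cfsg.Agent.Lib.Helper38_OD2Bridge7

open Matrix Module Cfsg.Agent.Lib.Helper94_Symp Cfsg.Agent.Lib.Helper94_Bridge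
  Cfsg.Agent.Lib.Helper94_SLBridge
  Cfsg.Agent.Lib.Helper94_OrthSmall Cfsg.Agent.Lib.Helper94_OrthBridge
  Cfsg.Agent.Lib.Helper94_OrthSiegel Cfsg.Agent.Lib.Helper94_OrthSiegel2
  Cfsg.Agent.Lib.Helper94_OrthGenBridge Cfsg.Agent.Lib.Helper94_OrthFinal
  Cfsg.Agent.Lib.Helper29_ODDefs Cfsg.Agent.Lib.Helper38_CBDefs
  Cfsg.Agent.Lib.Helper38_OD2Bridge

variable {ι : Type} [Fintype ι] [DecidableEq ι] {F : Type*} [Field F] [Fintype F]

/-- The generation hypotheses in dimension at least `7`. -/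
theorem hG2_of_geo7 (Q : (ι → F) → F) (hQ : Cfsg.Geo.IsNondegenerateQuadraticForm Q)
    (hn : 7 ≤ Fintype.card ι) (u z : ι → F) (hu : Q u = 0) (huz : polarForm Q hQ u z = 0) :
    sieg Q (polarForm Q hQ) u z ∈ ⁅oG Q, oG Q⁆ := by
  have hfr : finrank F (ι → F) = Fintype.card ι := Module.finrank_pi F
  exact sieg_mem_commutator' Q _ (gen_hQs Q hQ) (gen_hQp Q hQ) (gen_hN Q hQ)
    (by rw [hfr]; omega) hu huz

theorem hG3_of_geo7 (Q : (ι → F) → F) (hQ : Cfsg.Geo.IsNondegenerateQuadraticForm Q)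
    (hn : 7 ≤ Fintype.card ι) (M : Subgroup ((ι → F) ≃ₗ[F] (ι → F)))
    (hM : ∀ u z, Q u = 0 → polarForm Q hQ u z = 0 → sieg Q (polarForm Q hQ) u z ∈ M) :
    ⁅oG Q, oG Q⁆ ≤ M := by
  have hc2 : (2 : F) = 0 →
      commutator ↥(Cfsg.isometryGroup F (⇑(qfOf Q hQ))) ≤
        Cfsg.Agent.Lib.Helper14_Siegel.siegelGroup (qfOf Q hQ) :=
    fun h2 => Cfsg.Agent.Lib.Helper14_SiegelOmega2.commutator_le_siegelGroup_two h2 _
      (polarBilin_qfOf_nondeg Q hQ) (by omega)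
  exact gen_hG3 Q hQ hc2 (by omega) M hM

/-- **Stabilisers of orthogonal decompositions into blocks of dimension at least four are
maximal in `Ω(Q)`** (dimension at least `7`, all characteristics; for `|F| = 2` and `k = 4` the
blocks must not be of plus type). -/
theorem dstab_maximal_ge4 (Q : (ι → F) → F) (hQ : Cfsg.Geo.IsNondegenerateQuadraticForm Q)
    (hn : 7 ≤ Fintype.card ι) {t : ℕ} (k : ℕ) (D : Fin t → Submodule F (ι → F))
    (hD : Cfsg.Geo.IsOrthogonalMDecomposition Q k D) (hk : 4 ≤ k)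
    (hq : 2 < Fintype.card F ∨ 5 ≤ k ∨ ∀ i, ¬ Cfsg.Geo.IsPlusTypeOn Q (D i)) :
    Cfsg.Geo.IsMaximalIn (Cfsg.Geo.omegaGL Q)
      (Cfsg.Geo.decompositionStabilizer D ⊓ Cfsg.Geo.omegaGL Q) := by
  classical
  apply dstab_bridge
  have hq' : 2 < Nat.card F ∨ 5 ≤ k ∨ ∀ i, NoTSLine Q (polarForm Q hQ) (D i) := by
    rw [Nat.card_eq_fintype_card]
    rcases hq with h | h | h
    · exact Or.inl h
    · exact Or.inr (Or.inl h)
    · by_cases hk5 : 5 ≤ k
      · exact Or.inr (Or.inl hk5)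
      · refine Or.inr (Or.inr fun i => ?_)
        apply noTSLine_of_not_plus Q hQ (D i) _ (h i)
        rw [hD.decomp.decomp.finrank_eq i]
        omega
  exact Cfsg.Agent.Lib.Helper38_OD2_Main.maximal_dstab_orth2 (gen_hQs Q hQ) (gen_hQp Q hQ)
    (gen_hN Q hQ) (hG2_of_geo7 Q hQ hn) (hG3_of_geo7 Q hQ hn) k D (odec_of_geo Q hQ hD)
    hD.decomp.decomp.two_le hk hq' (stabL D) (isDStab_stabL D)

/-- **Stabilisers of orthogonal decompositions into at least three blocks of dimension three are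
maximal in `Ω(Q)`** (odd characteristic, `|F| ≥ 5`, dimension at least `7`). -/
theorem dstab_maximal_3 (Q : (ι → F) → F) (hQ : Cfsg.Geo.IsNondegenerateQuadraticForm Q)
    (hn : 7 ≤ Fintype.card ι) {t : ℕ} (D : Fin t → Submodule F (ι → F))
    (hD : Cfsg.Geo.IsOrthogonalMDecomposition Q 3 D) (h2 : (2 : F) ≠ 0)
    (hq : 5 ≤ Fintype.card F) :
    Cfsg.Geo.IsMaximalIn (Cfsg.Geo.omegaGL Q)
      (Cfsg.Geo.decompositionStabilizer D ⊓ Cfsg.Geo.omegaGL Q) := by
  classical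
  apply dstab_bridge
  have htk : t * 3 = Fintype.card ι :=
    Cfsg.Agent.Lib.Helper29_OmegaMaxMain.decomp_card hD.decomp.decomp
  exact Cfsg.Agent.Lib.Helper29_OD_Main.maximal_dstab_orth (gen_hQs Q hQ) (gen_hQp Q hQ) h2
    (gen_hN Q hQ) (hG2_of_geo7 Q hQ hn) (hG3_of_geo7 Q hQ hn) 3 D (odec_of_geo Q hQ hD)
    (by omega) (Or.inl rfl) (fun _ => by rw [Nat.card_eq_fintype_card]; exact hq) (stabL D)
    (isDStab_stabL D)

/-- **Stabilisers of orthogonal decompositions into at least five anisotropic planes are maximal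
in `Ω(Q)`** (`|F| ≠ 3`, dimension at least `7`; helper94's Q2 market). -/
theorem dstab_maximal_2_minus (Q : (ι → F) → F) (hQ : Cfsg.Geo.IsNondegenerateQuadraticForm Q)
    (hn : 7 ≤ Fintype.card ι) {t : ℕ} (D : Fin t → Submodule F (ι → F))
    (hD : Cfsg.Geo.IsOrthogonalMDecomposition Q 2 D) (ht : 5 ≤ t)
    (hnp : ∀ i, ¬ Cfsg.Geo.IsPlusTypeOn Q (D i)) (hq : Fintype.card F ≠ 3) :
    Cfsg.Geo.IsMaximalIn (Cfsg.Geo.omegaGL Q)
      (Cfsg.Geo.decompositionStabilizer D ⊓ Cfsg.Geo.omegaGL Q) := by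
  classical
  have hq3 : Nat.card F ≠ 3 := by rw [Nat.card_eq_fintype_card]; exact hq
  have hani : ∀ i, ∀ x ∈ D i, Q x = 0 → x = 0 := by
    intro i x hx hQx
    by_contra hx0
    apply hnp i
    refine ⟨Submodule.span F {x}, ?_, ?_, ?_⟩
    · exact Submodule.span_le.mpr (by rintro y rfl; exact hx)
    · intro w hw
      obtain ⟨c, rfl⟩ := Submodule.mem_span_singleton.mp hw
      rw [gen_hQs Q hQ, hQx, mul_zero]
    · rw [finrank_span_singleton hx0, hD.decomp.decomp.finrank_eq i]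
  apply dstab_bridge
  exact Cfsg.Agent.Lib.Helper94_Q2Main.maximal_dstab_planes (gen_hQs Q hQ) (gen_hQp Q hQ)
    (hG2_of_geo7 Q hQ hn) (hG3_of_geo7 Q hQ hn) D (odec_of_geo Q hQ hD) hani ht hq3
    (stabL D) (isDStab_stabL D)

end Cfsg.Agent.Lib.Helper38_OD2Bridge7
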