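import Mathlib
import Cfsg.Agent.Lib.Helper38_OD2Bridge7
import Cfsg.Agent.Lib.Helper38_HP5_Main_83

set_option autoImplicit false
set_option linter.unusedSectionVars false

/-!
Geo-level form of the maximality of the stabiliser of an orthogonal decomposition into `t ≥ 5`
HYPERBOLIC planes (`|F| ≥ 7`, dimension `2 t ≥ 10`): conjunct (8) of omega10+ (S5846, `t = 5`) and
omega12+ (S5870, `t = 6`); the plus-type companion of `Helper38_OD2Bridge7.dstab_maximal_2_minus`.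
Uses the `t ≥ 5` port `Helper38_HP5_*` of helper83's HP2 market.  (helper38)
-/

namespace Cfsg.Agent.Lib.Helper38_OD2Bridge7P

open Matrix Module Cfsg.Agent.Lib.Helper94_Symp Cfsg.Agent.Lib.Helper94_Bridge
  Cfsg.Agent.Lib.Helper94_SLBridge
  Cfsg.Agent.Lib.Helper94_OrthSmall Cfsg.Agent.Lib.Helper94_OrthBridge
  Cfsg.Agent.Lib.Helper94_OrthSiegel Cfsg.Agent.Lib.Helper94_OrthSiegel2
  Cfsg.Agent.Lib.Helper94_OrthGenBridge Cfsg.Agent.Lib.Helper94_OrthFinal
  Cfsg.Agent.Lib.Helper29_ODDefs Cfsg.Agent.Lib.Helper38_CBDefs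
  Cfsg.Agent.Lib.Helper38_OD2Bridge Cfsg.Agent.Lib.Helper38_OD2Bridge7

variable {ι : Type} [Fintype ι] [DecidableEq ι] {F : Type*} [Field F] [Fintype F]

/-- A plus-type plane of the decomposition contains a nonzero singular vector. -/
theorem exists_sing_of_plus (Q : (ι → F) → F) {t : ℕ} (D : Fin t → Submodule F (ι → F))
    (hD : Cfsg.Geo.IsOrthogonalMDecomposition Q 2 D) (i : Fin t)
    (hp : Cfsg.Geo.IsPlusTypeOn Q (D i)) : ∃ x ∈ D i, x ≠ 0 ∧ Q x = 0 := by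
  obtain ⟨U, hUW, hU, hfr⟩ := hp
  rw [hD.decomp.decomp.finrank_eq i] at hfr
  have hpos : 0 < finrank F U := by omega
  obtain ⟨x, hx, hx0⟩ := Submodule.exists_mem_ne_zero_of_ne_bot
    (fun hbot => by rw [hbot, finrank_bot] at hpos; omega : U ≠ ⊥)
  exact ⟨x, hUW hx, hx0, hU x hx⟩

/-- **Stabilisers of orthogonal decompositions into at least five hyperbolic planes are maximal
in `Ω(Q)`** (`|F| ≥ 7`; helper83's HP2 market, ported to `t ≥ 5`). -/
theorem dstab_maximal_2_plus (Q : (ι → F) → F) (hQ : Cfsg.Geo.IsNondegenerateQuadraticForm Q)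
    (hn : 7 ≤ Fintype.card ι) {t : ℕ} (D : Fin t → Submodule F (ι → F))
    (hD : Cfsg.Geo.IsOrthogonalMDecomposition Q 2 D) (ht : 5 ≤ t)
    (hp : ∀ i, Cfsg.Geo.IsPlusTypeOn Q (D i)) (hq : 7 ≤ Fintype.card F) :
    Cfsg.Geo.IsMaximalIn (Cfsg.Geo.omegaGL Q)
      (Cfsg.Geo.decompositionStabilizer D ⊓ Cfsg.Geo.omegaGL Q) := by
  classical
  have hq7 : 7 ≤ Nat.card F := by rw [Nat.card_eq_fintype_card]; exact hq
  apply dstab_bridge
  exact Cfsg.Agent.Lib.Helper38_HP5_Main_83.maximal_dstab_planes_plus (gen_hQs Q hQ)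
    (gen_hQp Q hQ) (hG2_of_geo7 Q hQ hn) (hG3_of_geo7 Q hQ hn) D (odec_of_geo Q hQ hD)
    (fun i => exists_sing_of_plus Q D hD i (hp i)) ht hq7 (stabL D) (isDStab_stabL D)

/-- The same with the excluded field orders spelled out (`q ∉ {2, 3, 4, 5}`). -/
theorem dstab_maximal_2_plus' (Q : (ι → F) → F) (hQ : Cfsg.Geo.IsNondegenerateQuadraticForm Q)
    (hn : 7 ≤ Fintype.card ι) {t : ℕ} (D : Fin t → Submodule F (ι → F))
    (hD : Cfsg.Geo.IsOrthogonalMDecomposition Q 2 D) (ht : 5 ≤ t)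
    (hp : ∀ i, Cfsg.Geo.IsPlusTypeOn Q (D i)) (hq2 : Fintype.card F ≠ 2)
    (hq3 : Fintype.card F ≠ 3) (hq4 : Fintype.card F ≠ 4) (hq5 : Fintype.card F ≠ 5) :
    Cfsg.Geo.IsMaximalIn (Cfsg.Geo.omegaGL Q)
      (Cfsg.Geo.decompositionStabilizer D ⊓ Cfsg.Geo.omegaGL Q) := by
  apply dstab_maximal_2_plus Q hQ hn D hD ht hp
  have h1 : 1 < Fintype.card F := Fintype.one_lt_card
  have h6 : Fintype.card F ≠ 6 := by
    intro h6
    have hpp : IsPrimePow (Fintype.card F) := FiniteField.isPrimePow_card F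
    rw [h6] at hpp
    exact absurd hpp (by decide)
  omega

/-- Plus type is invariant under isometries of subspaces. -/
theorem isPlusTypeOn_of_isometric (Q : (ι → F) → F) {W W' : Submodule F (ι → F)}
    (h : Cfsg.Geo.AreIsometricFor Q W W') (hp : Cfsg.Geo.IsPlusTypeOn Q W') :
    Cfsg.Geo.IsPlusTypeOn Q W := by
  obtain ⟨e, he⟩ := h
  obtain ⟨U, hUW, hU, hfr⟩ := hp
  let f : W' →ₗ[F] (ι → F) := W.subtype ∘ₗ e.symm.toLinearMap
  have hf : Function.Injective f := by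
    intro a b hab
    apply e.symm.injective
    exact Subtype.ext hab
  refine ⟨(U.comap W'.subtype).map f, ?_, ?_, ?_⟩
  · rintro _ ⟨x, -, rfl⟩
    exact (e.symm x).2
  · rintro _ ⟨x, hx, rfl⟩
    have h1 := he (e.symm x)
    rw [LinearEquiv.apply_symm_apply] at h1
    change Q ((e.symm x : W) : ι → F) = 0
    rw [← h1]
    exact hU _ hx
  · rw [← (Submodule.equivMapOfInjective f hf _).finrank_eq,
      (Submodule.comapSubtypeEquivOfLe hUW).finrank_eq, hfr, e.finrank_eq]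

/-- **Stabilisers of orthogonal decompositions into at least five isometric nondegenerate planes
(of either type) are maximal in `Ω(Q)`** for `|F| ≥ 7` (no hypothesis on the type of `Q` or of the
planes): conjunct (8) of omega10+ (S5846) verbatim. -/
theorem dstab_maximal_2 (Q : (ι → F) → F) (hQ : Cfsg.Geo.IsNondegenerateQuadraticForm Q)
    (hn : 7 ≤ Fintype.card ι) {t : ℕ} (D : Fin t → Submodule F (ι → F))
    (hD : Cfsg.Geo.IsOrthogonalMDecomposition Q 2 D) (ht : 5 ≤ t) (hq : 7 ≤ Fintype.card F) :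
    Cfsg.Geo.IsMaximalIn (Cfsg.Geo.omegaGL Q)
      (Cfsg.Geo.decompositionStabilizer D ⊓ Cfsg.Geo.omegaGL Q) := by
  by_cases h : ∀ i, Cfsg.Geo.IsPlusTypeOn Q (D i)
  · exact dstab_maximal_2_plus Q hQ hn D hD ht h hq
  · push Not at h
    obtain ⟨i₀, hi₀⟩ := h
    have hnp : ∀ i, ¬ Cfsg.Geo.IsPlusTypeOn Q (D i) := fun i hi =>
      hi₀ (isPlusTypeOn_of_isometric Q (hD.isometric i₀ i) hi)
    exact dstab_maximal_2_minus Q hQ hn D hD ht hnp (by omega)

/-- Conjunct (8) of S5846 (omega10+), verbatim. -/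
theorem omega10_planes {F : Type*} [Field F] [Fintype F] (Q : (Fin 10 → F) → F)
    (hQ : Cfsg.Geo.IsNondegenerateQuadraticForm Q) :
    7 ≤ Fintype.card F → ∀ D : Fin 5 → Submodule F (Fin 10 → F),
      Cfsg.Geo.IsOrthogonalMDecomposition Q 2 D →
      Cfsg.Geo.IsMaximalIn (Cfsg.Geo.omegaGL Q)
        (Cfsg.Geo.decompositionStabilizer D ⊓ Cfsg.Geo.omegaGL Q) :=
  fun hq D hD => dstab_maximal_2 Q hQ (by simp) D hD (by norm_num) hq

/-- Conjunct (8) of S5870 (omega12+), verbatim. -/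
theorem omega12_planes_plus {F : Type*} [Field F] [Fintype F] (Q : (Fin 12 → F) → F)
    (hQ : Cfsg.Geo.IsNondegenerateQuadraticForm Q) :
    7 ≤ Fintype.card F → ∀ D : Fin 6 → Submodule F (Fin 12 → F),
      Cfsg.Geo.IsOrthogonalMDecomposition Q 2 D → (∀ i, Cfsg.Geo.IsPlusTypeOn Q (D i)) →
      Cfsg.Geo.IsMaximalIn (Cfsg.Geo.omegaGL Q)
        (Cfsg.Geo.decompositionStabilizer D ⊓ Cfsg.Geo.omegaGL Q) :=
  fun hq D hD hp => dstab_maximal_2_plus Q hQ (by simp) D hD (by norm_num) hp hq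

end Cfsg.Agent.Lib.Helper38_OD2Bridge7P
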