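import Mathlib
import Cfsg.Agent.Lib.Helper94_Q2Defs
import Cfsg.Agent.Lib.Helper48_Q2_BRIDGE
import Cfsg.Agent.Lib.Helper16_Q2_BRISO

set_option autoImplicit false
set_option linter.unusedSectionVars false
set_option linter.unusedVariables false

/-!
Plus-type analogue of Q2-BRIDGE / Q2-BRISO (rows S5692, omega10+/omega12+ conjunct (8)): an
orthogonal decomposition into isometric HYPERBOLIC planes is isometric to the model
`MV 0 1 t = (F[w]/(w^2 = w))^t` (norm `(x + y w) = x (x + y)`), and the maximality statement is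
transported from the model to helper94's abstract setting.  The model theorem is a hypothesis
(`hmodel`), so any bounds `t₀ ≤ t`, `q₀ ≤ |F|` can be plugged in.  (helper38)
-/

namespace Cfsg.Agent.Lib.Helper38_Q2P_BRIDGE

open Module Cfsg.Agent.Lib.Helper94_Symp Cfsg.Agent.Lib.Helper94_OrthSmall
  Cfsg.Agent.Lib.Helper94_OrthSiegel Cfsg.Agent.Lib.Helper94_OrthNondeg
  Cfsg.Agent.Lib.Helper29_ODDefs Cfsg.Agent.Lib.Helper94_Q2Defs
  Cfsg.Agent.Lib.Helper48_Q2_BRIDGE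

section Abs

variable {F V : Type*} [Field F] [AddCommGroup V] [Module F V]
  {Q : V → F} {B : LinearMap.BilinForm F V}

/-- A nondegenerate plane with a nonzero singular vector is isometric to the norm form of
`F[w]/(w^2 = w)`. -/
lemma exists_hplane_iso [FiniteDimensional F V]
    (hQs : ∀ (c : F) (v : V), Q (c • v) = c * c * Q v)
    (hQp : ∀ u v : V, Q (u + v) = Q u + Q v + B u v) (P : Submodule F V)
    (hfr : finrank F P = 2) (hnd : ∀ a ∈ P, a ≠ 0 → ∃ x ∈ P, B x a ≠ 0)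
    (hsing : ∃ x ∈ P, x ≠ 0 ∧ Q x = 0) :
    ∃ θ : QuadraticAlgebra F (0 : F) 1 ≃ₗ[F] P, ∀ z, Q (θ z : V) = QuadraticAlgebra.norm z := by
  obtain ⟨y₀, hy₀P, hy₀ne, hy₀Q⟩ := hsing
  obtain ⟨d, hdP, hdy⟩ := hnd y₀ hy₀P hy₀ne
  -- `x₀ := β d + α y₀` with `B x₀ y₀ = 1`, `Q x₀ = 1`
  obtain ⟨β, hβd⟩ : ∃ β : F, β * B d y₀ = 1 := ⟨(B d y₀)⁻¹, inv_mul_cancel₀ hdy⟩
  obtain ⟨α, hα⟩ : ∃ α : F, α = 1 - β * β * Q d := ⟨_, rfl⟩
  obtain ⟨x₀, hx₀⟩ : ∃ x₀ : V, x₀ = β • d + α • y₀ := ⟨_, rfl⟩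
  have hx₀P : x₀ ∈ P := by
    rw [hx₀]
    exact P.add_mem (P.smul_mem _ hdP) (P.smul_mem _ hy₀P)
  have hByy : B y₀ y₀ = 0 := by
    have h1 := hQp y₀ y₀
    have h2 : y₀ + y₀ = (2 : F) • y₀ := (two_smul F y₀).symm
    rw [h2, hQs, hy₀Q] at h1
    linear_combination -h1
  have hBxy : B x₀ y₀ = 1 := by
    rw [hx₀, map_add, map_smul, map_smul, LinearMap.add_apply, LinearMap.smul_apply,
      LinearMap.smul_apply, hByy, smul_eq_mul, smul_eq_mul, mul_zero, add_zero, hβd]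
  have hQx : Q x₀ = 1 := by
    rw [hx₀, Cfsg.Agent.Lib.Helper16_Q2_BRISO.Q_comb hQs hQp, hy₀Q]
    linear_combination α * hβd + hα
  let θ₀ : QuadraticAlgebra F (0 : F) 1 →ₗ[F] P :=
    { toFun := fun z => z.re • (⟨x₀, hx₀P⟩ : P) + z.im • (⟨y₀, hy₀P⟩ : P)
      map_add' := by
        intro z w
        rw [QuadraticAlgebra.re_add, QuadraticAlgebra.im_add, add_smul, add_smul]
        abel
      map_smul' := by
        intro c z
        rw [QuadraticAlgebra.re_smul, QuadraticAlgebra.im_smul, RingHom.id_apply, smul_add,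
          smul_eq_mul, smul_eq_mul, mul_smul, mul_smul] }
  have hθ₀ : ∀ z, ((θ₀ z : P) : V) = z.re • x₀ + z.im • y₀ := fun z => rfl
  have hθQ : ∀ z, Q (θ₀ z : V) = QuadraticAlgebra.norm z := by
    intro z
    rw [hθ₀, Cfsg.Agent.Lib.Helper16_Q2_BRISO.Q_comb hQs hQp, hQx, hy₀Q, hBxy,
      QuadraticAlgebra.norm_def]
    ring
  have hinj : Function.Injective θ₀ := by
    rw [← LinearMap.ker_eq_bot, LinearMap.ker_eq_bot']
    intro z hz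
    have h0 : z.re • x₀ + z.im • y₀ = 0 := by
      rw [← hθ₀, hz, Submodule.coe_zero]
    have h1 : B (z.re • x₀ + z.im • y₀) y₀ = 0 := by rw [h0, map_zero, LinearMap.zero_apply]
    rw [map_add, map_smul, map_smul, LinearMap.add_apply, LinearMap.smul_apply,
      LinearMap.smul_apply, hBxy, hByy, smul_eq_mul, smul_eq_mul, mul_one, mul_zero,
      add_zero] at h1
    rw [h1, zero_smul, zero_add] at h0
    have h2 : z.im = 0 := by
      rcases smul_eq_zero.mp h0 with h | h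
      · exact h
      · exact absurd h hy₀ne
    ext
    · simpa using h1
    · simpa using h2
  have hfin : finrank F (QuadraticAlgebra F (0 : F) 1) = finrank F P := by
    rw [hfr, QuadraticAlgebra.finrank_eq_two]
  have hsurj : Function.Surjective θ₀ :=
    (LinearMap.injective_iff_surjective_of_finrank_eq_finrank hfin).mp hinj
  exact ⟨LinearEquiv.ofBijective θ₀ ⟨hinj, hsurj⟩, fun z => hθQ z⟩

end Abs

/-- **Q2P-BRISO**: a decomposition into isometric hyperbolic planes is isometric to the model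
`MV 0 1 t` with its coordinate planes. -/
theorem BRISO_plus {F V : Type*} [Field F] [AddCommGroup V] [Module F V]
    [FiniteDimensional F V] {Q : V → F} {B : LinearMap.BilinForm F V}
    (hQs : ∀ (c : F) (v : V), Q (c • v) = c * c * Q v)
    (hQp : ∀ u v : V, Q (u + v) = Q u + Q v + B u v)
    {t : ℕ} (ht : 0 < t) (D : Fin t → Submodule F V) (hD : ODec Q B 2 D)
    (hhyp : ∃ x ∈ D ⟨0, ht⟩, x ≠ 0 ∧ Q x = 0) :
    ∃ φ : V ≃ₗ[F] MV (0 : F) 1 t,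
      (∀ v, mQ (0 : F) 1 t (φ v) = Q v) ∧
      ∀ l, (D l).map (φ : V →ₗ[F] MV (0 : F) 1 t) = mD (0 : F) 1 t l := by
  obtain ⟨θ, hθ⟩ :=
    exists_hplane_iso hQs hQp (D ⟨0, ht⟩) (hD.fr ⟨0, ht⟩) (hD.nd ⟨0, ht⟩) hhyp
  choose e he using fun l => hD.iso ⟨0, ht⟩ l
  exact Cfsg.Agent.Lib.Helper16_Q2_BRISO.of_family hQs hQp D hD (fun l => θ ≪≫ₗ e l)
    (fun l z => by rw [LinearEquiv.trans_apply, he l, hθ])

/-- **Q2P-BRIDGE**: transport of the model theorem (a hypothesis, with arbitrary side condition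
`C t` on `t` and the field) to the abstract setting. -/
theorem BRIDGE_plus_of {F V : Type*} [Field F] [AddCommGroup V] [Module F V] [Finite F]
    [FiniteDimensional F V] {Q : V → F} {B : LinearMap.BilinForm F V} {t : ℕ}
    (hmodel :
      (∀ u z, mQ (0 : F) 1 t u = 0 → mB (0 : F) 1 t u z = 0 →
        sieg (mQ (0 : F) 1 t) (mB (0 : F) 1 t) u z ∈ mOm (0 : F) 1 t) →
      (∀ M : Subgroup (MV (0 : F) 1 t ≃ₗ[F] MV (0 : F) 1 t),
        (∀ u z, mQ (0 : F) 1 t u = 0 → mB (0 : F) 1 t u z = 0 →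
          sieg (mQ (0 : F) 1 t) (mB (0 : F) 1 t) u z ∈ M) → mOm (0 : F) 1 t ≤ M) →
      ∀ S : Subgroup (MV (0 : F) 1 t ≃ₗ[F] MV (0 : F) 1 t), IsDStab (mD (0 : F) 1 t) S →
        (S ⊓ mOm (0 : F) 1 t < mOm (0 : F) 1 t) ∧
          ∀ M : Subgroup (MV (0 : F) 1 t ≃ₗ[F] MV (0 : F) 1 t),
            S ⊓ mOm (0 : F) 1 t ≤ M → M ≤ mOm (0 : F) 1 t →
            M = S ⊓ mOm (0 : F) 1 t ∨ M = mOm (0 : F) 1 t)
    (hQs : ∀ (c : F) (v : V), Q (c • v) = c * c * Q v)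
    (hQp : ∀ u v : V, Q (u + v) = Q u + Q v + B u v)
    (hG2 : ∀ u z, Q u = 0 → B u z = 0 → sieg Q B u z ∈ ⁅oG Q, oG Q⁆)
    (hG3 : ∀ M : Subgroup (V ≃ₗ[F] V),
      (∀ u z, Q u = 0 → B u z = 0 → sieg Q B u z ∈ M) → ⁅oG Q, oG Q⁆ ≤ M)
    (D : Fin t → Submodule F V)
    (hiso : ∃ φ : V ≃ₗ[F] MV (0 : F) 1 t,
      (∀ v, mQ (0 : F) 1 t (φ v) = Q v) ∧
      ∀ l, (D l).map (φ : V →ₗ[F] MV (0 : F) 1 t) = mD (0 : F) 1 t l)
    (S : Subgroup (V ≃ₗ[F] V)) (hS : IsDStab D S) :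
    (S ⊓ ⁅oG Q, oG Q⁆ < ⁅oG Q, oG Q⁆) ∧
      ∀ M : Subgroup (V ≃ₗ[F] V), S ⊓ ⁅oG Q, oG Q⁆ ≤ M → M ≤ ⁅oG Q, oG Q⁆ →
        M = S ⊓ ⁅oG Q, oG Q⁆ ∨ M = ⁅oG Q, oG Q⁆ := by
  obtain ⟨φ, hφQ, hφD⟩ := hiso
  set Φ := (cj φ).toMonoidHom with hΦ
  have hinj : Function.Injective Φ := (cj φ).injective
  have hΩ : (⁅oG Q, oG Q⁆).map Φ = mOm (0 : F) 1 t := map_comm_oG φ hφQ
  have hsieg : ∀ {u z : V}, Q u = 0 → B u z = 0 →
      cj φ (sieg Q B u z) = sieg (mQ (0 : F) 1 t) (mB (0 : F) 1 t) (φ u) (φ z) := fun hu huz =>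
    cj_sieg hQs hQp (mQs (0 : F) 1 t) (mQp (0 : F) 1 t) φ hφQ hu huz
  have hBt := B_transport hQp (mQp (0 : F) 1 t) φ hφQ
  have hG2' : ∀ u z, mQ (0 : F) 1 t u = 0 → mB (0 : F) 1 t u z = 0 →
      sieg (mQ (0 : F) 1 t) (mB (0 : F) 1 t) u z ∈ mOm (0 : F) 1 t := by
    intro u' z' hu' hz'
    obtain ⟨u, rfl⟩ := φ.surjective u'
    obtain ⟨z, rfl⟩ := φ.surjective z'
    rw [hφQ] at hu'
    rw [hBt] at hz'
    rw [← hsieg hu' hz', ← hΩ]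
    exact Subgroup.mem_map_of_mem Φ (hG2 u z hu' hz')
  have hG3' : ∀ M : Subgroup (MV (0 : F) 1 t ≃ₗ[F] MV (0 : F) 1 t),
      (∀ u z, mQ (0 : F) 1 t u = 0 → mB (0 : F) 1 t u z = 0 →
        sieg (mQ (0 : F) 1 t) (mB (0 : F) 1 t) u z ∈ M) → mOm (0 : F) 1 t ≤ M := by
    intro M' hM'
    have h1 : ⁅oG Q, oG Q⁆ ≤ M'.comap Φ := by
      apply hG3
      intro u z hu huz
      rw [Subgroup.mem_comap]
      show cj φ (sieg Q B u z) ∈ M'
      rw [hsieg hu huz]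
      exact hM' _ _ (by rw [hφQ, hu]) (by rw [hBt, huz])
    rw [← hΩ]
    exact Subgroup.map_le_iff_le_comap.2 h1
  have hS' : IsDStab (mD (0 : F) 1 t) (S.map Φ) := isDStab_map φ D (mD (0 : F) 1 t) hφD S hS
  obtain ⟨hlt, hmax⟩ := hmodel hG2' hG3' (S.map Φ) hS'
  have hinf : S.map Φ ⊓ mOm (0 : F) 1 t = (S ⊓ ⁅oG Q, oG Q⁆).map Φ := by
    rw [← hΩ, Subgroup.map_inf _ _ Φ hinj]
  rw [hinf] at hlt hmax
  rw [← hΩ] at hlt hmax
  constructor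
  · refine lt_of_le_of_ne inf_le_right ?_
    intro heq
    rw [heq] at hlt
    exact lt_irrefl _ hlt
  · intro M hHM hMΩ
    rcases hmax (M.map Φ) (Subgroup.map_mono hHM) (Subgroup.map_mono hMΩ) with h | h
    · exact Or.inl (Subgroup.map_injective hinj h)
    · exact Or.inr (Subgroup.map_injective hinj h)

/-- **Maximality of the stabiliser of a decomposition into isometric hyperbolic planes**, abstract
setting, from the model theorem. -/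
theorem maximal_dstab_hplanes_of_model {F V : Type*} [Field F] [AddCommGroup V] [Module F V]
    [Finite F] [FiniteDimensional F V] {Q : V → F} {B : LinearMap.BilinForm F V} {t : ℕ}
    (hmodel :
      (∀ u z, mQ (0 : F) 1 t u = 0 → mB (0 : F) 1 t u z = 0 →
        sieg (mQ (0 : F) 1 t) (mB (0 : F) 1 t) u z ∈ mOm (0 : F) 1 t) →
      (∀ M : Subgroup (MV (0 : F) 1 t ≃ₗ[F] MV (0 : F) 1 t),
        (∀ u z, mQ (0 : F) 1 t u = 0 → mB (0 : F) 1 t u z = 0 →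
          sieg (mQ (0 : F) 1 t) (mB (0 : F) 1 t) u z ∈ M) → mOm (0 : F) 1 t ≤ M) →
      ∀ S : Subgroup (MV (0 : F) 1 t ≃ₗ[F] MV (0 : F) 1 t), IsDStab (mD (0 : F) 1 t) S →
        (S ⊓ mOm (0 : F) 1 t < mOm (0 : F) 1 t) ∧
          ∀ M : Subgroup (MV (0 : F) 1 t ≃ₗ[F] MV (0 : F) 1 t),
            S ⊓ mOm (0 : F) 1 t ≤ M → M ≤ mOm (0 : F) 1 t →
            M = S ⊓ mOm (0 : F) 1 t ∨ M = mOm (0 : F) 1 t)
    (hQs : ∀ (c : F) (v : V), Q (c • v) = c * c * Q v)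
    (hQp : ∀ u v : V, Q (u + v) = Q u + Q v + B u v)
    (hG2 : ∀ u z, Q u = 0 → B u z = 0 → sieg Q B u z ∈ ⁅oG Q, oG Q⁆)
    (hG3 : ∀ M : Subgroup (V ≃ₗ[F] V),
      (∀ u z, Q u = 0 → B u z = 0 → sieg Q B u z ∈ M) → ⁅oG Q, oG Q⁆ ≤ M)
    (D : Fin t → Submodule F V) (hD : ODec Q B 2 D) (ht : 0 < t)
    (hhyp : ∃ x ∈ D ⟨0, ht⟩, x ≠ 0 ∧ Q x = 0)
    (S : Subgroup (V ≃ₗ[F] V)) (hS : IsDStab D S) :
    (S ⊓ ⁅oG Q, oG Q⁆ < ⁅oG Q, oG Q⁆) ∧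
      ∀ M : Subgroup (V ≃ₗ[F] V), S ⊓ ⁅oG Q, oG Q⁆ ≤ M → M ≤ ⁅oG Q, oG Q⁆ →
        M = S ⊓ ⁅oG Q, oG Q⁆ ∨ M = ⁅oG Q, oG Q⁆ :=
  BRIDGE_plus_of hmodel hQs hQp hG2 hG3 D (BRISO_plus hQs hQp ht D hD hhyp) S hS

end Cfsg.Agent.Lib.Helper38_Q2P_BRIDGE
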