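import Mathlib
import Cfsg.Agent.Lib.Helper94_QSub5

set_option autoImplicit false
set_option linter.unusedSimpArgs false
set_option linter.unusedSectionVars false
set_option linter.unnecessarySimpa false
set_option linter.style.haveILetI false

/-!
Tools for the subfield subgroups of the orthogonal groups in characteristic two:
* in `SL(2,F)`, `F` finite of characteristic two, the product `tU 1 * tL d` (`d ≠ 0`) has odd
  order;
* the hyperbolic configuration attached to two totally singular pairs with nonzero minor;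
* a commutation relation between Siegel elements.
-/

namespace Cfsg.Agent.Lib.Helper38_QSubTwo

open Module Matrix Cfsg.Agent.Lib.Helper94_Symp Cfsg.Agent.Lib.Helper94_OrthSmall
  Cfsg.Agent.Lib.Helper94_OrthSiegel Cfsg.Agent.Lib.Helper94_OrthSiegel2
  Cfsg.Agent.Lib.Helper94_QSub Cfsg.Agent.Lib.Helper50_SL2Mat
open scoped MatrixGroups

section SL2

variable {F : Type*} [Field F]

/-- In characteristic two, an involution of `SL(2,F)` commuting with `tU 1 * tL d`, `d ≠ 0`, is
trivial. -/
lemma eq_one_of_commute (h2 : (2 : F) = 0) {d : F} (hd : d ≠ 0) {y : SL(2, F)}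
    (hc : y * (tU 1 * tL d) = (tU 1 * tL d) * y) (hy : y * y = 1) : y = 1 := by
  have e00 := congrArg (fun g : SL(2, F) => g 0 0) hc
  have e01 := congrArg (fun g : SL(2, F) => g 0 1) hc
  simp only [mul00, mul01, mul10, mul11, tU00, tU01, tU10, tU11, tL00, tL01, tL10, tL11]
    at e00 e01
  have y01 := congrArg (fun g : SL(2, F) => g 0 1) hy
  have y00 := congrArg (fun g : SL(2, F) => g 0 0) hy
  simp only [mul00, mul01, one00, one01] at y01 y00
  have hr : y 1 0 = y 0 1 * d := by linear_combination -e00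
  have hp : y 0 0 = y 1 1 + d * y 0 1 := by linear_combination e01
  have hq : y 0 1 = 0 := by
    have : d * (y 0 1 * y 0 1) = 0 := by
      rw [hp] at y01
      linear_combination y01 - y 0 1 * y 1 1 * h2
    rcases mul_eq_zero.mp this with h | h
    · exact absurd h hd
    · exact mul_self_eq_zero.mp h
  rw [hq] at hr hp
  simp only [zero_mul, mul_zero, add_zero] at hr hp
  have hs : y 1 1 = 1 := by
    rw [hq, hp] at y00
    have : (y 1 1 - 1) * (y 1 1 - 1) = 0 := by
      linear_combination y00 + (1 - y 1 1) * h2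
    have := mul_self_eq_zero.mp this
    linear_combination this
  apply ext4
  · rw [hp, hs, one00]
  · rw [hq, one01]
  · rw [hr, one10]
  · rw [hs, one11]

/-- In characteristic two, over a finite field, `tU 1 * tL d` has odd order for `d ≠ 0`. -/
lemma exists_odd_pow [Finite F] (h2 : (2 : F) = 0) {d : F} (hd : d ≠ 0) :
    ∃ e : ℕ, Odd e ∧ (tU (1 : F) * tL d) ^ e = 1 := by
  haveI : Fintype F := Fintype.ofFinite F
  set x : SL(2, F) := tU (1 : F) * tL d with hx
  refine ⟨orderOf x, ?_, pow_orderOf_eq_one x⟩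
  have hpos : 0 < orderOf x := orderOf_pos x
  by_contra hodd
  rw [Nat.not_odd_iff_even] at hodd
  obtain ⟨m, hm⟩ := hodd
  have h1 : x ^ m * x ^ m = 1 := by rw [← pow_add, ← hm, pow_orderOf_eq_one]
  have hc : x ^ m * x = x * x ^ m := by rw [← pow_succ, ← pow_succ']
  have h3 := eq_one_of_commute h2 hd hc h1
  have h4 := orderOf_dvd_of_pow_eq_one h3
  have h5 := Nat.le_of_dvd (by omega) h4
  omega

end SL2

section Config

variable {F V : Type*} [Field F] [AddCommGroup V] [Module F V]
variable {Q : V → F} {B : LinearMap.BilinForm F V}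
variable (hQs : ∀ (c : F) (v : V), Q (c • v) = c * c * Q v)
  (hQp : ∀ u v : V, Q (u + v) = Q u + Q v + B u v)

include hQs hQp in
/-- The hyperbolic configuration attached to two totally singular pairs `a, b` and `t, y` with
nonzero minor. -/
lemma hyp4_of_minor {a b t y : V} (hQa : Q a = 0) (hQb : Q b = 0) (hab : B a b = 0)
    (hQt : Q t = 0) (hQy : Q y = 0) (hty : B t y = 0) {Δ : F}
    (hΔ : Δ = B a t * B b y - B a y * B b t) (hΔ0 : Δ ≠ 0) :
    Hyp4 Q B a b (Δ⁻¹ • (B y b • t - B t b • y)) (Δ⁻¹ • (-(B y a) • t + B t a • y)) := by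
  have hsymm := B_symm Q B hQp
  have htt : B t t = 0 := by rw [B_self Q B hQs hQp, hQt, mul_zero]
  have hyy : B y y = 0 := by rw [B_self Q B hQs hQp, hQy, mul_zero]
  have hyt : B y t = 0 := by rw [hsymm, hty]
  have hQty : ∀ c d : F, Q (c • t + d • y) = 0 := by
    intro c d
    rw [Q_add_smul Q B hQs hQp, hQs, hQt, hQy, map_smul, LinearMap.smul_apply, hty]
    simp
  refine ⟨hQa, hQb, ?_, ?_, hab, ?_, ?_, ?_, ?_, ?_⟩
  · rw [hQs, sub_eq_add_neg, ← neg_smul, hQty, mul_zero]
  · rw [hQs, hQty, mul_zero]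
  · simp only [map_add, map_sub, map_smul, map_neg, LinearMap.add_apply, LinearMap.sub_apply,
      LinearMap.smul_apply, LinearMap.neg_apply, smul_eq_mul, htt, hyy, hty, hyt, mul_zero,
      add_zero, sub_zero, neg_zero, smul_zero]
  · simp only [map_sub, map_smul, smul_eq_mul]
    rw [hΔ, hsymm y b, hsymm t b]
    have h0 : B a t * B b y - B a y * B b t ≠ 0 := by rw [← hΔ]; exact hΔ0
    field_simp
  · simp only [map_add, map_smul, map_neg, smul_eq_mul]
    rw [hΔ, hsymm y a, hsymm t a]
    have h0 : B a t * B b y - B a y * B b t ≠ 0 := by rw [← hΔ]; exact hΔ0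
    field_simp
    ring
  · simp only [map_add, map_smul, map_neg, smul_eq_mul]
    rw [hsymm y a, hsymm t a]
    ring
  · simp only [map_sub, map_smul, smul_eq_mul]
    rw [hsymm y b, hsymm t b]
    ring

include hQs hQp in
/-- In the configuration of `hyp4_of_minor`, the lower unitriangular matrices act as the Siegel
elements of the pair `t, y`. -/
lemma rho_tL_eq {a b t y a' b' : V} (hQt : Q t = 0) (hQy : Q y = 0) (hty : B t y = 0) {Δ : F}
    (hΔ : Δ = B a t * B b y - B a y * B b t) (hΔ0 : Δ ≠ 0)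
    (ha' : a' = Δ⁻¹ • (B y b • t - B t b • y)) (hb' : b' = Δ⁻¹ • (-(B y a) • t + B t a • y))
    (H : Hyp4 Q B a b a' b') (c : F) :
    rho hQs hQp H (tL (c * Δ)) = sieg Q B t ((-c) • y) := by
  have hsymm := B_symm Q B hQp
  rw [rho_tL]
  ext x
  rw [sieg_apply Q B hQs hQp H.Qb' (by rw [map_smul, hsymm, H.a'b', smul_zero]),
    sieg_apply Q B hQs hQp hQt (by rw [map_smul, hty, smul_zero]), hQs, hQs,
    H.Qa', hQy, ha', hb']
  simp only [map_add, map_sub, map_smul, map_neg, smul_eq_mul, mul_zero, zero_mul,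
    zero_smul, sub_zero]
  have h0 : B a t * B b y - B a y * B b t ≠ 0 := by rw [← hΔ]; exact hΔ0
  rw [hΔ, hsymm y b, hsymm t b, hsymm y a, hsymm t a]
  match_scalars <;> field_simp <;> ring

include hQs hQp in
/-- A Siegel element `sieg a b` of a totally singular pair commutes with the Siegel elements
`sieg u z` with `z` a multiple of the vector of `⟨a, b⟩` orthogonal to `u`. -/
lemma sieg_comm {a b u : V} (hQa : Q a = 0) (hQb : Q b = 0) (hab : B a b = 0) (hQu : Q u = 0)
    (c : F) :
    sieg Q B a b * sieg Q B u (c • (B u b • a - B u a • b)) =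
      sieg Q B u (c • (B u b • a - B u a • b)) * sieg Q B a b := by
  have hsymm := B_symm Q B hQp
  have haa : B a a = 0 := by rw [B_self Q B hQs hQp, hQa, mul_zero]
  have hbb : B b b = 0 := by rw [B_self Q B hQs hQp, hQb, mul_zero]
  have hba : B b a = 0 := by rw [hsymm, hab]
  have hun : B u (c • (B u b • a - B u a • b)) = 0 := by
    simp only [map_sub, map_smul, smul_eq_mul]
    ring
  have hQn : Q (c • (B u b • a - B u a • b)) = 0 := by
    rw [hQs, sub_eq_add_neg, ← neg_smul, Q_add_smul Q B hQs hQp, hQs, hQa, hQb, map_smul,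
      LinearMap.smul_apply, hab]
    simp
  ext x
  rw [LinearEquiv.mul_apply, LinearEquiv.mul_apply, sieg_apply Q B hQs hQp hQu hun,
    sieg_apply Q B hQs hQp hQa hab, sieg_apply Q B hQs hQp hQa hab,
    sieg_apply Q B hQs hQp hQu hun, hQn, hQb]
  simp only [map_add, map_sub, map_smul, map_neg, LinearMap.add_apply, LinearMap.sub_apply,
    LinearMap.smul_apply, LinearMap.neg_apply, smul_eq_mul, haa, hbb, hab, hba, hsymm a u,
    hsymm b u, hsymm a x, hsymm b x, hsymm u x, mul_zero, zero_mul, zero_smul, sub_zero,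
    add_zero, zero_add, neg_zero]
  module

end Config

section Grp

variable {G : Type*} [Group G]

/-- If `g * s₁` has order dividing an odd number `e`, `s₂` commutes with `g` and `s₁` and
`s₂ * s₂ = 1`, then `(g * (s₁ * s₂)) ^ e = s₂`. -/
lemma pow_eq_of_odd {g s₁ s₂ : G} {e : ℕ} (he : Odd e) (h1 : (g * s₁) ^ e = 1)
    (hc1 : g * s₂ = s₂ * g) (hc2 : s₁ * s₂ = s₂ * s₁) (h2 : s₂ * s₂ = 1) :
    (g * (s₁ * s₂)) ^ e = s₂ := by
  have hc : Commute (g * s₁) s₂ := by
    show g * s₁ * s₂ = s₂ * (g * s₁)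
    rw [mul_assoc, hc2, ← mul_assoc, hc1, mul_assoc]
  rw [← mul_assoc, hc.mul_pow, h1, one_mul]
  obtain ⟨j, rfl⟩ := he
  rw [pow_succ, pow_mul, pow_two, h2, one_pow, one_mul]

end Grp

end Cfsg.Agent.Lib.Helper38_QSubTwo
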