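import Mathlib
import Cfsg.Agent.Lib.Helper94_QSub6
import Cfsg.Agent.Lib.Helper38_QSubTwo1

set_option autoImplicit false
set_option linter.unusedSimpArgs false
set_option linter.unusedSectionVars false
set_option linter.unnecessarySimpa false
set_option linter.style.haveILetI false

/-!
Overgroups of the stabiliser of a rational structure of a quadratic space in characteristic two,
when the parameters of the rational root subgroups in the overgroup are rational: the Siegel
elements at rational singular vectors in the overgroup are rational, a totally singular line whose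
root element lies in the overgroup is trapped in the span of four rational vectors, and its minors
are rational.
-/

namespace Cfsg.Agent.Lib.Helper38_QSubTwo

open Module Matrix Cfsg.Agent.Lib.Helper94_Symp Cfsg.Agent.Lib.Helper94_OrthSmall
  Cfsg.Agent.Lib.Helper94_OrthSiegel Cfsg.Agent.Lib.Helper94_OrthSiegel2
  Cfsg.Agent.Lib.Helper94_QSub Cfsg.Agent.Lib.Helper50_SL2Mat
open scoped MatrixGroups

variable {F V : Type*} [Field F] [AddCommGroup V] [Module F V]
variable {Q : V → F} {B : LinearMap.BilinForm F V} {F₀ : Subfield F} {V₀ : AddSubgroup V}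

variable (R : QStr Q B F₀ V₀)

variable (S M G : Subgroup (V ≃ₗ[F] V))
  (hS : ∀ g, g ∈ S ↔ ∃ μ : F, μ ≠ 0 ∧ ∀ v ∈ V₀, ∃ w ∈ V₀, g v = μ • w)
  (hG2 : ∀ u z, Q u = 0 → B u z = 0 → sieg Q B u z ∈ G)
  (hHM : S ⊓ G ≤ M) (hMO : M ≤ oG Q)

include R hMO in
/-- Commutator of an element of the overgroup fixing `u` with a Siegel element at `u`. -/
lemma comm_step {g : V ≃ₗ[F] V} (hg : g ∈ M) {u x : V} (hgu : g u = u) (hQu : Q u = 0)
    (hux : B u x = 0) (hx : sieg Q B u x ∈ M) : sieg Q B u (g x - x) ∈ M := by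
  have hgO : g ∈ oG Q := hMO hg
  have h1 := conj_sieg Q B R.hQs R.hQp hgO hQu hux
  rw [hgu] at h1
  have hugx : B u (g x) = 0 := by
    have := oG_B Q B R.hQp hgO u x
    rw [hgu] at this
    rw [this, hux]
  have h2 : g * sieg Q B u x * g⁻¹ * (sieg Q B u x)⁻¹ ∈ M :=
    M.mul_mem (M.mul_mem (M.mul_mem hg hx) (M.inv_mem hg)) (M.inv_mem hx)
  rw [h1, sieg_inv Q B R.hQs R.hQp hQu hux,
    sieg_mul Q B R.hQs R.hQp hQu hugx (by rw [map_neg, hux, neg_zero]), ← sub_eq_add_neg] at h2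
  exact h2

variable [Finite F] [FiniteDimensional F V]

variable (hA0 : ∀ u z : V, RPair Q B F₀ V₀ u z → ∀ c : F, sieg Q B u (c • z) ∈ M → c ∈ F₀)

include R hS hG2 hHM hMO hA0 in
/-- If the parameters of the rational root subgroups in the overgroup are rational, then the
Siegel elements at a rational singular vector in the overgroup are rational. -/
theorem unip_rat (hN : B.Nondegenerate) (h13 : 13 ≤ finrank F V) {u x : V} (hu : u ∈ V₀)
    (hQu : Q u = 0) (hu0 : u ≠ 0) (hux : B u x = 0) (hx : sieg Q B u x ∈ M) :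
    ∃ κ : F, x - κ • u ∈ V₀ := by
  have hsymm := R.symm
  apply R.dual_perp hN hu hu0
  intro v hv hvu
  have key : ∀ w ∈ V₀, Q w = 0 → B w u = 0 → B x w ∈ F₀ := by
    intro w hw hQw hwu
    obtain ⟨y, hy, w', hw', hQy, hQw', hyw', hyl, hw'l⟩ := R.rat_hyp hN [u, w]
      (by
        intro p hp
        simp only [List.mem_cons, List.not_mem_nil, or_false] at hp
        rcases hp with rfl | rfl
        · exact hu
        · exact hw)
      (by simp only [List.length_cons, List.length_nil]; omega)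
    have hyu : B y u = 0 := hyl u (by simp)
    have hyw : B y w = 0 := hyl w (by simp)
    have hw'u : B w' u = 0 := hw'l u (by simp)
    have hw'w : B w' w = 0 := hw'l w (by simp)
    obtain ⟨y', hy', y'', hy'', hQy', hQy'', hy'y'', hy'l, hy''l⟩ := R.rat_hyp hN [u, w, y, w']
      (by
        intro p hp
        simp only [List.mem_cons, List.not_mem_nil, or_false] at hp
        rcases hp with rfl | rfl | rfl | rfl
        · exact hu
        · exact hw
        · exact hy
        · exact hw')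
      (by simp only [List.length_cons, List.length_nil]; omega)
    have hy'u : B y' u = 0 := hy'l u (by simp)
    have hy'w : B y' w = 0 := hy'l w (by simp)
    have hy'y : B y' y = 0 := hy'l y (by simp)
    have hy'w' : B y' w' = 0 := hy'l w' (by simp)
    have hy''u : B y'' u = 0 := hy''l u (by simp)
    -- first commutator
    have hwy : B w y = 0 := by rw [hsymm, hyw]
    have hg₁ : sieg Q B w y ∈ M := R.rat_sieg_mem S M G hS hG2 hHM hw hy hQw hwy
    have hg₁u : sieg Q B w y u = u := by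
      rw [sieg_apply Q B R.hQs R.hQp hQw hwy, hsymm u w, hwu, hsymm u y, hyu]
      simp
    have h1 := comm_step R M hMO hg₁ hg₁u hQu hux hx
    have e1 : sieg Q B w y x - x = B x w • y - B x y • w := by
      rw [sieg_apply Q B R.hQs R.hQp hQw hwy, hQy]
      module
    rw [e1] at h1
    have hux' : B u (B x w • y - B x y • w) = 0 := by
      rw [map_sub, map_smul, map_smul, hsymm u y, hyu, hsymm u w, hwu, smul_zero, smul_zero,
        sub_zero]
    -- second commutator
    have hw'y' : B w' y' = 0 := by rw [hsymm, hy'w']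
    have hg₂ : sieg Q B w' y' ∈ M := R.rat_sieg_mem S M G hS hG2 hHM hw' hy' hQw' hw'y'
    have hg₂u : sieg Q B w' y' u = u := by
      rw [sieg_apply Q B R.hQs R.hQp hQw' hw'y', hsymm u w', hw'u, hsymm u y', hy'u]
      simp
    have h2 := comm_step R M hMO hg₂ hg₂u hQu hux' h1
    have e2 : sieg Q B w' y' (B x w • y - B x y • w) - (B x w • y - B x y • w) =
        B x w • y' := by
      rw [sieg_apply Q B R.hQs R.hQp hQw' hw'y', hQy']
      simp only [map_sub, map_smul, LinearMap.sub_apply, LinearMap.smul_apply, smul_eq_mul,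
        hyw', hsymm w w', hw'w, hsymm y y', hy'y, hsymm w y', hy'w, mul_zero, mul_one, sub_zero,
        zero_smul, zero_mul]
      module
    rw [e2] at h2
    have P : RPair Q B F₀ V₀ u y' := by
      refine ⟨hu, hy', hQu, hQy', by rw [hsymm, hy'u], hu0, ?_⟩
      intro t _ h
      have h3 : B y'' y' = 0 := by rw [h, map_smul, hy''u, smul_zero]
      rw [hsymm, hy'y''] at h3
      exact one_ne_zero h3
    exact hA0 u y' P _ h2
  obtain ⟨s₁, hs₁, s₂, hs₂, hQ₁, hQ₂, h₁u, h₂u, rfl⟩ :=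
    R.rat_two_sing hN (by omega) hu hv hQu hvu
  rw [map_add]
  exact F₀.add_mem (key s₁ hs₁ hQ₁ h₁u) (key s₂ hs₂ hQ₂ h₂u)


include R hS hG2 hHM hMO hA0 in
/-- In characteristic two: if `sieg a b` lies in the overgroup, then the image of a rational
singular vector `u` under the skew map of `a, b` is a multiple of a vector of `V₀ + F u`. -/
theorem point_step (hN : B.Nondegenerate) (h13 : 13 ≤ finrank F V) (h2 : (2 : F) = 0)
    {a b : V} (hQa : Q a = 0) (hQb : Q b = 0) (hab : B a b = 0) (hg : sieg Q B a b ∈ M)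
    {u : V} (hu : u ∈ V₀) (hQu : Q u = 0) (hx0 : nm B a b u ≠ 0) :
    ∃ lam κ : F, ∃ v ∈ V₀, nm B a b u = lam • (v + κ • u) := by
  have hsymm := R.symm
  have haa : B a a = 0 := by rw [B_self Q B R.hQs R.hQp, hQa, mul_zero]
  have hbb : B b b = 0 := by rw [B_self Q B R.hQs R.hQp, hQb, mul_zero]
  have hba : B b a = 0 := by rw [hsymm, hab]
  obtain ⟨x, hx⟩ : ∃ x : V, x = nm B a b u := ⟨_, rfl⟩
  have hxdef : x = B u a • b - B u b • a := by rw [hx]; rfl
  rw [← hx] at hx0 ⊢
  have hu0 : u ≠ 0 := by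
    intro h0
    apply hx0
    rw [hxdef, h0]
    simp
  have hxa : B x a = 0 := by
    rw [hxdef]
    simp only [map_sub, map_smul, LinearMap.sub_apply, LinearMap.smul_apply, smul_eq_mul, hba,
      haa, mul_zero, sub_zero]
  have hxb : B x b = 0 := by
    rw [hxdef]
    simp only [map_sub, map_smul, LinearMap.sub_apply, LinearMap.smul_apply, smul_eq_mul, hbb,
      hab, mul_zero, sub_zero]
  have hxu : B x u = 0 := by
    rw [hxdef]
    simp only [map_sub, map_smul, LinearMap.sub_apply, LinearMap.smul_apply, smul_eq_mul,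
      hsymm b u, hsymm a u]
    ring
  -- step 1: a rational vector orthogonal to `u` and not to `x`
  obtain ⟨z₀, hz₀, hz₀u, hxz₀⟩ : ∃ z₀ ∈ V₀, B z₀ u = 0 ∧ B x z₀ ≠ 0 := by
    by_contra hcon
    push Not at hcon
    obtain ⟨u', hu', huu'⟩ := R.exists_dual hN hu hu0
    have h1 : x - B x u' • u = 0 := by
      apply R.eq_zero_of_perp hN
      intro v hv
      have hvm : v - B v u • u' ∈ V₀ := V₀.sub_mem hv (R.smul_mem _ _ (R.bval hv hu) hu')
      have h3 := hcon _ hvm (by
        rw [map_sub, LinearMap.sub_apply, map_smul, LinearMap.smul_apply, hsymm u' u, huu',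
          smul_eq_mul, mul_one, sub_self])
      rw [map_sub, map_smul, smul_eq_mul] at h3
      rw [map_sub, LinearMap.sub_apply, map_smul, LinearMap.smul_apply, smul_eq_mul, hsymm u v]
      linear_combination h3
    have h3 : x = B x u' • u := sub_eq_zero.mp h1
    have hc0 : B x u' ≠ 0 := by
      intro h0
      rw [h0, zero_smul] at h3
      exact hx0 h3
    have h4 : B u a = 0 := by
      have := hxa
      rw [h3, map_smul, LinearMap.smul_apply, smul_eq_mul] at this
      rcases mul_eq_zero.mp this with h | h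
      · exact absurd h hc0
      · exact h
    have h5 : B u b = 0 := by
      have := hxb
      rw [h3, map_smul, LinearMap.smul_apply, smul_eq_mul] at this
      rcases mul_eq_zero.mp this with h | h
      · exact absurd h hc0
      · exact h
    apply hx0
    rw [hxdef, h4, h5]
    simp
  -- step 2: moreover nonsingular
  obtain ⟨z, hz, hzu, hxz, hQz⟩ : ∃ z ∈ V₀, B z u = 0 ∧ B x z ≠ 0 ∧ Q z ≠ 0 := by
    by_cases hQz₀ : Q z₀ = 0
    · obtain ⟨x₁, hx₁, x₂, hx₂, hQx₁, hQx₂, hx₁x₂, hx₁l, hx₂l⟩ := R.rat_hyp hN [u, z₀]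
        (by
          intro p hp
          simp only [List.mem_cons, List.not_mem_nil, or_false] at hp
          rcases hp with rfl | rfl
          · exact hu
          · exact hz₀)
        (by simp only [List.length_cons, List.length_nil]; omega)
      have hx₁u : B x₁ u = 0 := hx₁l u (by simp)
      have hx₂u : B x₂ u = 0 := hx₂l u (by simp)
      have hx₁z : B x₁ z₀ = 0 := hx₁l z₀ (by simp)
      have hx₂z : B x₂ z₀ = 0 := hx₂l z₀ (by simp)
      have hQm : Q (x₁ + x₂) = 1 := by rw [R.hQp, hQx₁, hQx₂, hx₁x₂]; ring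
      have hmu : B (x₁ + x₂) u = 0 := by rw [map_add, LinearMap.add_apply, hx₁u, hx₂u, add_zero]
      by_cases hxm : B x (x₁ + x₂) = 0
      · refine ⟨z₀ + (x₁ + x₂), V₀.add_mem hz₀ (V₀.add_mem hx₁ hx₂), ?_, ?_, ?_⟩
        · rw [map_add, LinearMap.add_apply, hz₀u, hmu, add_zero]
        · rw [map_add, hxm, add_zero]; exact hxz₀
        · rw [R.hQp, hQz₀, hQm, map_add, hsymm z₀ x₁, hsymm z₀ x₂, hx₁z, hx₂z]
          simp
      · exact ⟨x₁ + x₂, V₀.add_mem hx₁ hx₂, hmu, hxm, by rw [hQm]; exact one_ne_zero⟩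
    · exact ⟨z₀, hz₀, hz₀u, hxz₀, hQz₀⟩
  -- step 3: the decomposition `z = z₁ + z₂`
  obtain ⟨Δ, hΔ⟩ : ∃ Δ : F, Δ = B x z := ⟨_, rfl⟩
  have hΔ0 : Δ ≠ 0 := by rw [hΔ]; exact hxz
  obtain ⟨c, hc⟩ : ∃ c : F, c = -(Q z) / Δ := ⟨_, rfl⟩
  have hc0 : c ≠ 0 := by rw [hc]; exact div_ne_zero (neg_ne_zero.mpr hQz) hΔ0
  obtain ⟨z₂, hz₂⟩ : ∃ z₂ : V, z₂ = c • (B u b • a - B u a • b) := ⟨_, rfl⟩
  have hz₂x : z₂ = (-c) • x := by rw [hz₂, hxdef]; module
  obtain ⟨z₁, hz₁⟩ : ∃ z₁ : V, z₁ = z - z₂ := ⟨_, rfl⟩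
  have huz : B u z = 0 := by rw [hsymm, hzu]
  have huz₂ : B u z₂ = 0 := by rw [hz₂x, map_smul, hsymm u x, hxu, smul_zero]
  have huz₁ : B u z₁ = 0 := by rw [hz₁, map_sub, huz, huz₂, sub_zero]
  have hQz₂ : Q z₂ = 0 := by
    rw [hz₂, R.hQs, sub_eq_add_neg, ← neg_smul, Q_add_smul Q B R.hQs R.hQp, R.hQs, hQa, hQb,
      map_smul, LinearMap.smul_apply, hab]
    simp
  have hzz₂ : B z z₂ = Q z := by
    rw [hz₂x, map_smul, hsymm z x, ← hΔ, hc, smul_eq_mul]
    field_simp
  have hQz₁ : Q z₁ = 0 := by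
    have e : z₁ = z + (-1 : F) • z₂ := by rw [hz₁]; module
    rw [e, Q_add_smul Q B R.hQs R.hQp, hQz₂, hzz₂]
    ring
  have haz₂ : B a z₂ = 0 := by rw [hz₂x, map_smul, hsymm a x, hxa, smul_zero]
  have hbz₂ : B b z₂ = 0 := by rw [hz₂x, map_smul, hsymm b x, hxb, smul_zero]
  have hΔ' : Δ = B a u * B b z₁ - B a z₁ * B b u := by
    rw [hΔ, hz₁, map_sub, map_sub, haz₂, hbz₂, sub_zero, sub_zero, hxdef]
    simp only [map_sub, map_smul, LinearMap.sub_apply, LinearMap.smul_apply, smul_eq_mul,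
      hsymm u a, hsymm u b]
    ring
  -- step 4: the odd order
  obtain ⟨a', ha'⟩ : ∃ a' : V, a' = Δ⁻¹ • (B z₁ b • u - B u b • z₁) := ⟨_, rfl⟩
  obtain ⟨b', hb'⟩ : ∃ b' : V, b' = Δ⁻¹ • (-(B z₁ a) • u + B u a • z₁) := ⟨_, rfl⟩
  have H : Hyp4 Q B a b a' b' := by
    rw [ha', hb']
    exact hyp4_of_minor R.hQs R.hQp hQa hQb hab hQu hQz₁ huz₁ hΔ' hΔ0
  have hL := rho_tL_eq R.hQs R.hQp hQu hQz₁ huz₁ hΔ' hΔ0 ha' hb' H (-1)
  rw [neg_neg, one_smul] at hL
  have hU := rho_tU R.hQs R.hQp H (1 : F)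
  rw [one_smul] at hU
  obtain ⟨e, he, hpow⟩ := exists_odd_pow h2 (d := -1 * Δ)
    (mul_ne_zero (neg_ne_zero.mpr one_ne_zero) hΔ0)
  have hpow' : (sieg Q B a b * sieg Q B u z₁) ^ e = 1 := by
    rw [← hU, ← hL, ← map_mul, ← map_pow, hpow, map_one]
  -- step 5: the element `sieg u z₂` lies in the overgroup
  have hzsum : z = z₁ + z₂ := by rw [hz₁]; abel
  have hs₂ : sieg Q B u z₂ * sieg Q B u z₂ = 1 := by
    rw [sieg_mul Q B R.hQs R.hQp hQu huz₂ huz₂]
    have e0 : z₂ + z₂ = 0 := by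
      have : z₂ + z₂ = (2 : F) • z₂ := by module
      rw [this, h2, zero_smul]
    rw [e0, sieg_zero_right Q B R.hQs R.hQp hQu]
  have hcomm : sieg Q B a b * sieg Q B u z₂ = sieg Q B u z₂ * sieg Q B a b := by
    rw [hz₂]
    exact sieg_comm R.hQs R.hQp hQa hQb hab hQu c
  have hcomm' : sieg Q B u z₁ * sieg Q B u z₂ = sieg Q B u z₂ * sieg Q B u z₁ := by
    rw [sieg_mul Q B R.hQs R.hQp hQu huz₁ huz₂, sieg_mul Q B R.hQs R.hQp hQu huz₂ huz₁,
      add_comm]
  have hfin := pow_eq_of_odd he hpow' hcomm hcomm' hs₂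
  rw [sieg_mul Q B R.hQs R.hQp hQu huz₁ huz₂, ← hzsum] at hfin
  have hi : sieg Q B u z ∈ M := R.rat_sieg_mem S M G hS hG2 hHM hu hz hQu huz
  have hs₂M : sieg Q B u z₂ ∈ M := by
    rw [← hfin]
    exact M.pow_mem (M.mul_mem hg hi) e
  -- step 6: rationality
  obtain ⟨κ, hκ⟩ := unip_rat R S M G hS hG2 hHM hMO hA0 hN h13 hu hQu hu0 huz₂ hs₂M
  refine ⟨-c⁻¹, κ, z₂ - κ • u, hκ, ?_⟩
  rw [sub_add_cancel, hz₂x, smul_smul]
  have : -c⁻¹ * -c = 1 := by field_simp
  rw [this, one_smul]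


include R hS hG2 hHM hMO hA0 in
/-- In characteristic two: if `sieg a b` lies in the overgroup (`a, b` an independent totally
singular pair), then `a` and `b` lie in the span of four rational vectors. -/
theorem line_trap (hN : B.Nondegenerate) (h13 : 13 ≤ finrank F V) (h2 : (2 : F) = 0)
    {a b : V} (hQa : Q a = 0) (hQb : Q b = 0) (hab : B a b = 0) (hg : sieg Q B a b ∈ M)
    (hind : ∀ s t : F, s • a + t • b = 0 → s = 0 ∧ t = 0) :
    ∃ r₁ ∈ V₀, ∃ r₂ ∈ V₀, ∃ r₃ ∈ V₀, ∃ r₄ ∈ V₀, ∀ p : V, B p r₁ = 0 → B p r₂ = 0 →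
      B p r₃ = 0 → B p r₄ = 0 → B p a = 0 ∧ B p b = 0 := by
  have hsymm := R.symm
  have ha0 : a ≠ 0 := by
    intro h0
    have := (hind 1 0 (by rw [h0]; simp)).1
    exact one_ne_zero this
  obtain ⟨u, hu, hQu, hau⟩ := R.exists_rat_sing_ne hN (by omega) ha0
  have hx0 : nm B a b u ≠ 0 := by
    intro h0
    have h1 : (-(B u b)) • a + B u a • b = 0 := by
      rw [← h0]; unfold nm; module
    have := (hind _ _ h1).2
    rw [hsymm] at this
    exact hau this
  obtain ⟨u', hu', hQu', hxu'⟩ := R.exists_rat_sing_ne hN (by omega) hx0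
  have hD : B u a * B u' b - B u b * B u' a ≠ 0 := by
    intro h0
    apply hxu'
    unfold nm
    simp only [map_sub, map_smul, LinearMap.sub_apply, LinearMap.smul_apply, smul_eq_mul,
      hsymm b u', hsymm a u']
    linear_combination h0
  have hx0' : nm B a b u' ≠ 0 := by
    intro h0
    have h1 : (-(B u' b)) • a + B u' a • b = 0 := by
      rw [← h0]; unfold nm; module
    obtain ⟨e1, e2⟩ := hind _ _ h1
    apply hD
    rw [e2, neg_eq_zero.mp e1]
    ring
  obtain ⟨lam, κ, v, hv, e⟩ := point_step R S M G hS hG2 hHM hMO hA0 hN h13 h2 hQa hQb hab hg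
    hu hQu hx0
  obtain ⟨lam', κ', v', hv', e'⟩ := point_step R S M G hS hG2 hHM hMO hA0 hN h13 h2 hQa hQb hab hg
    hu' hQu' hx0'
  refine ⟨u, hu, v, hv, u', hu', v', hv', ?_⟩
  intro p h1 h2' h3 h4
  have hpx : B p (nm B a b u) = 0 := by
    rw [e]
    simp only [map_smul, map_add, smul_eq_mul, h1, h2', mul_zero, add_zero]
  have hpx' : B p (nm B a b u') = 0 := by
    rw [e']
    simp only [map_smul, map_add, smul_eq_mul, h3, h4, mul_zero, add_zero]
  unfold nm at hpx hpx'
  simp only [map_sub, map_smul, smul_eq_mul] at hpx hpx'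
  constructor
  · have : (B u a * B u' b - B u b * B u' a) * B p a = 0 := by
      linear_combination B u' a * hpx - B u a * hpx'
    rcases mul_eq_zero.mp this with h | h
    · exact absurd h hD
    · exact h
  · have : (B u a * B u' b - B u b * B u' a) * B p b = 0 := by
      linear_combination B u' b * hpx - B u b * hpx'
    rcases mul_eq_zero.mp this with h | h
    · exact absurd h hD
    · exact h


include R hS hG2 hHM hMO hA0 in
/-- **Rationality of the minors** of a totally singular pair `a, b` with `sieg a b` in the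
overgroup, when `a, b` lie in the span of four rational vectors (double commutator with rational
Siegel elements). -/
theorem minor_rat_of_trap (hN : B.Nondegenerate) (h13 : 13 ≤ finrank F V)
    {a b : V} (hQa : Q a = 0) (hQb : Q b = 0) (hab : B a b = 0) (hg₁ : sieg Q B a b ∈ M)
    {r₁ r₂ r₃ r₄ : V} (hr₁ : r₁ ∈ V₀) (hr₂ : r₂ ∈ V₀) (hr₃ : r₃ ∈ V₀) (hr₄ : r₄ ∈ V₀)
    (htrap : ∀ p : V, B p r₁ = 0 → B p r₂ = 0 → B p r₃ = 0 → B p r₄ = 0 →
      B p a = 0 ∧ B p b = 0)
    {t y : V} (ht : t ∈ V₀) (hy : y ∈ V₀) (hQt : Q t = 0) (hQy : Q y = 0) (hty : B t y = 0) :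
    B a t * B b y - B a y * B b t ∈ F₀ := by
  have hsymm := R.symm
  -- the first rational singular vector
  obtain ⟨p, hp, hp0, hQp, hpl⟩ := R.rat_sing_perp [r₁, r₂, r₃, r₄, t, y]
    (by
      intro v hv
      simp only [List.mem_cons, List.not_mem_nil, or_false] at hv
      rcases hv with rfl | rfl | rfl | rfl | rfl | rfl
      · exact hr₁
      · exact hr₂
      · exact hr₃
      · exact hr₄
      · exact ht
      · exact hy)
    (by simp only [List.length_cons, List.length_nil]; omega)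
  obtain ⟨hpa, hpb⟩ := htrap p (hpl r₁ (by simp)) (hpl r₂ (by simp)) (hpl r₃ (by simp))
    (hpl r₄ (by simp))
  have hpt : B p t = 0 := hpl t (by simp)
  have hpy : B p y = 0 := hpl y (by simp)
  obtain ⟨p', hp', hpp'⟩ := R.exists_dual hN hp hp0
  -- the second rational singular vector
  obtain ⟨p₂, hp₂, hp₂0, hQp₂, hp₂l⟩ := R.rat_sing_perp [r₁, r₂, r₃, r₄, t, y, p, p']
    (by
      intro v hv
      simp only [List.mem_cons, List.not_mem_nil, or_false] at hv
      rcases hv with rfl | rfl | rfl | rfl | rfl | rfl | rfl | rfl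
      · exact hr₁
      · exact hr₂
      · exact hr₃
      · exact hr₄
      · exact ht
      · exact hy
      · exact hp
      · exact hp')
    (by simp only [List.length_cons, List.length_nil]; omega)
  obtain ⟨hp₂a, hp₂b⟩ := htrap p₂ (hp₂l r₁ (by simp)) (hp₂l r₂ (by simp)) (hp₂l r₃ (by simp))
    (hp₂l r₄ (by simp))
  have hp₂y : B p₂ y = 0 := hp₂l y (by simp)
  have hp₂p : B p₂ p = 0 := hp₂l p (by simp)
  have hp₂p' : B p₂ p' = 0 := hp₂l p' (by simp)
  have P : RPair Q B F₀ V₀ p₂ p := by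
    refine ⟨hp₂, hp, hQp₂, hQp, hp₂p, hp₂0, ?_⟩
    intro c _ h
    have h1 : B p p' = 0 := by
      rw [h, map_smul, LinearMap.smul_apply, hp₂p', smul_zero]
    rw [hpp'] at h1
    exact one_ne_zero h1
  -- first commutator
  obtain ⟨n, hn⟩ : ∃ n : V, n = nm B a b t := ⟨_, rfl⟩
  have hpn : B p n = 0 := by
    rw [hn]
    unfold nm
    rw [map_sub, map_smul, map_smul, hpa, hpb, smul_zero, smul_zero, sub_zero]
  have hp₂n : B p₂ n = 0 := by
    rw [hn]
    unfold nm
    rw [map_sub, map_smul, map_smul, hp₂a, hp₂b, smul_zero, smul_zero, sub_zero]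
  have hh₁ : sieg Q B p t ∈ M := R.rat_sieg_mem S M G hS hG2 hHM hp ht hQp hpt
  have hg₁O : sieg Q B a b ∈ oG Q := hMO hg₁
  have hc₁ := conj_sieg Q B R.hQs R.hQp hg₁O hQp hpt
  have e1 : sieg Q B a b p = p := by
    rw [sieg_apply Q B R.hQs R.hQp hQa hab, hpa, hpb]
    simp
  have e2 : sieg Q B a b t = t + n := by
    rw [sieg_apply Q B R.hQs R.hQp hQa hab, hQb, hn]
    unfold nm
    module
  rw [e1, e2] at hc₁
  have hg₂ : sieg Q B p n ∈ M := by
    have h1 : sieg Q B a b * sieg Q B p t * (sieg Q B a b)⁻¹ * (sieg Q B p t)⁻¹ ∈ M :=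
      M.mul_mem (M.mul_mem (M.mul_mem hg₁ hh₁) (M.inv_mem hg₁)) (M.inv_mem hh₁)
    rw [hc₁, sieg_inv Q B R.hQs R.hQp hQp hpt,
      sieg_mul Q B R.hQs R.hQp hQp (by rw [map_add, hpt, hpn, add_zero])
        (by rw [map_neg, hpt, neg_zero])] at h1
    have e : t + n + -t = n := by abel
    rwa [e] at h1
  -- second commutator
  have hh₂ : sieg Q B p₂ y ∈ M := R.rat_sieg_mem S M G hS hG2 hHM hp₂ hy hQp₂ hp₂y
  have hg₂O : sieg Q B p n ∈ oG Q := hMO hg₂
  have hc₂ := conj_sieg Q B R.hQs R.hQp hg₂O hQp₂ hp₂y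
  have e3 : sieg Q B p n p₂ = p₂ := by
    rw [sieg_apply Q B R.hQs R.hQp hQp hpn, hp₂p, hp₂n]
    simp
  have e4 : sieg Q B p n y = y + (-(B y n)) • p := by
    rw [sieg_apply Q B R.hQs R.hQp hQp hpn, hsymm y p, hpy]
    module
  rw [e3, e4] at hc₂
  have hfin : sieg Q B p₂ ((-(B y n)) • p) ∈ M := by
    have h1 : sieg Q B p n * sieg Q B p₂ y * (sieg Q B p n)⁻¹ * (sieg Q B p₂ y)⁻¹ ∈ M :=
      M.mul_mem (M.mul_mem (M.mul_mem hg₂ hh₂) (M.inv_mem hg₂)) (M.inv_mem hh₂)
    rw [hc₂, sieg_inv Q B R.hQs R.hQp hQp₂ hp₂y,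
      sieg_mul Q B R.hQs R.hQp hQp₂
        (by rw [map_add, map_smul, hp₂y, hp₂p, smul_zero, add_zero])
        (by rw [map_neg, hp₂y, neg_zero])] at h1
    have e : y + (-(B y n)) • p + -y = (-(B y n)) • p := by abel
    rwa [e] at h1
  have h3 := hA0 p₂ p P _ hfin
  have e : B a t * B b y - B a y * B b t = -(-(B y n)) := by
    rw [hn]
    unfold nm
    simp only [map_sub, map_smul, smul_eq_mul]
    rw [hsymm t a, hsymm t b, hsymm y a, hsymm y b]
    ring
  rw [e]
  exact F₀.neg_mem h3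

end Cfsg.Agent.Lib.Helper38_QSubTwo
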