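import Mathlib
import Cfsg.Agent.Lib.Helper94_QSub4

set_option autoImplicit false
set_option linter.unusedSimpArgs false
set_option linter.unusedSectionVars false
set_option linter.unnecessarySimpa false
set_option linter.style.haveILetI false

/-!
Characteristic two version of `Helper94_QSub4`: an isometry of a quadratic space with a rational
structure all of whose `2 × 2` minors (for rational totally singular pairs) are rational maps the
rational structure to a scalar multiple of itself.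
-/

namespace Cfsg.Agent.Lib.Helper38_QSubTwo

open Module Cfsg.Agent.Lib.Helper94_Symp Cfsg.Agent.Lib.Helper94_OrthSmall
  Cfsg.Agent.Lib.Helper94_OrthSiegel Cfsg.Agent.Lib.Helper94_OrthSiegel2
  Cfsg.Agent.Lib.Helper94_QSub

variable {F V : Type*} [Field F] [AddCommGroup V] [Module F V]
variable {Q : V → F} {B : LinearMap.BilinForm F V} {F₀ : Subfield F} {V₀ : AddSubgroup V}

/-- In a finite field of characteristic two, an element whose square lies in a subfield lies in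
the subfield. -/
lemma mem_of_sq_mem [Finite F] (h2 : (2 : F) = 0) (F₀ : Subfield F) {κ : F}
    (h : κ * κ ∈ F₀) : κ ∈ F₀ := by
  have hinj : Function.Injective (fun c : F₀ => c * c) := by
    intro c d hcd
    have h1 : ((c : F) - d) * ((c : F) - d) = 0 := by
      have h3 : (c : F) * c = d * d := congrArg Subtype.val hcd
      linear_combination h3 + (d * d - c * d) * h2 + (d * d - d * d) * h2
    have := mul_self_eq_zero.mp h1
    exact Subtype.ext (sub_eq_zero.mp this)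
  obtain ⟨c, hc⟩ := (Finite.injective_iff_surjective.mp hinj) ⟨κ * κ, h⟩
  have h3 : (c : F) * c = κ * κ := congrArg Subtype.val hc
  have h1 : (κ - c) * (κ - c) = 0 := by
    linear_combination (κ * κ - κ * c) * h2 + h3
  have := sub_eq_zero.mp (mul_self_eq_zero.mp h1)
  rw [this]
  exact c.2

lemma nm_nm {a b : V} (hsymm : ∀ u v : V, B u v = B v u) (hab : B a b = 0) (haa : B a a = 0)
    (hbb : B b b = 0) (x : V) :
    nm B a b (nm B a b x) = 0 := by
  unfold nm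
  simp only [map_sub, map_smul, LinearMap.sub_apply, LinearMap.smul_apply, smul_eq_mul, hab,
    hsymm b a, haa, hbb, mul_zero, sub_zero, zero_smul]

lemma nm_sub_smul (a b x y : V) (c : F) :
    nm B a b (x - c • y) = nm B a b x - c • nm B a b y := by
  unfold nm
  simp only [map_sub, map_smul, LinearMap.sub_apply, LinearMap.smul_apply, smul_eq_mul]
  module

variable (R : QStr Q B F₀ V₀)

variable [Finite F] [FiniteDimensional F V]

variable (k : V ≃ₗ[F] V) (hk : k ∈ oG Q)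
  (hmin : ∀ u w t y : V, u ∈ V₀ → w ∈ V₀ → t ∈ V₀ → y ∈ V₀ → Q u = 0 → Q w = 0 → Q t = 0 →
    Q y = 0 → B u w = 0 → B t y = 0 → B (k u) t * B (k w) y - B (k u) y * B (k w) t ∈ F₀)

include R hk hmin in
/-- Second step in characteristic two: the skew map of the image of a rational totally singular
pair preserves the rational structure. -/
lemma nm_rat2 (hN : B.Nondegenerate) (h13 : 13 ≤ finrank F V) (h2 : (2 : F) = 0) {u w : V}
    (hu : u ∈ V₀) (hw : w ∈ V₀) (hQu : Q u = 0) (hQw : Q w = 0) (huw : B u w = 0) {v : V}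
    (hv : v ∈ V₀) : nm B (k u) (k w) v ∈ V₀ := by
  have hsymm := R.symm
  have hdbl : ∀ c : F, c + c = 0 := by
    intro c
    rw [← two_mul, h2, zero_mul]
  -- a base point
  obtain ⟨t₀, z₀, P₀⟩ := R.exists_rpair hN h13
  obtain ⟨κ₀, hκ₀⟩ := R.nm_kappa k hmin hN h13 hu hw hQu hQw huw P₀.hu P₀.Qu P₀.u0
  -- the good vectors
  have step : ∀ t ∈ V₀, Q t = 0 → t ≠ 0 → ∀ y ∈ V₀, B t y ≠ 0 →
      (∃ κy : F, nm B (k u) (k w) y - κy • y ∈ V₀ ∧ κy + κ₀ ∈ F₀) →
      ∃ κt : F, nm B (k u) (k w) t - κt • t ∈ V₀ ∧ κt + κ₀ ∈ F₀ := by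
    intro t ht hQt ht0 y hy hty ⟨κy, hκy, hy0⟩
    obtain ⟨κt, hκt⟩ := R.nm_kappa k hmin hN h13 hu hw hQu hQw huw ht hQt ht0
    refine ⟨κt, hκt, ?_⟩
    have a1 := R.kappa_add ht hy hκt hκy hty
    have e : κt + κ₀ = (κt + κy) + (κy + κ₀) := by
      linear_combination -(hdbl κy)
    rw [e]
    exact F₀.add_mem a1 hy0
  have base : ∃ κy : F, nm B (k u) (k w) t₀ - κy • t₀ ∈ V₀ ∧ κy + κ₀ ∈ F₀ :=
    ⟨κ₀, hκ₀, by rw [hdbl]; exact F₀.zero_mem⟩
  have good : ∀ t ∈ V₀, Q t = 0 → t ≠ 0 →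
      ∃ κt : F, nm B (k u) (k w) t - κt • t ∈ V₀ ∧ κt + κ₀ ∈ F₀ := by
    intro t ht hQt ht0
    by_cases htt₀ : B t t₀ = 0
    · obtain ⟨y₁, hy₁, hQy₁, hy₁t⟩ := R.rat_sno0 hN (by omega) ht ht0
      obtain ⟨y₂, hy₂, hQy₂, hy₂t₀⟩ := R.rat_sno0 hN (by omega) P₀.hu P₀.u0
      have hy₁0 : y₁ ≠ 0 := by
        intro h0
        rw [h0, map_zero, LinearMap.zero_apply] at hy₁t
        exact hy₁t rfl
      have hy₂0 : y₂ ≠ 0 := by
        intro h0
        rw [h0, map_zero, LinearMap.zero_apply] at hy₂t₀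
        exact hy₂t₀ rfl
      have hty₁ : B t y₁ ≠ 0 := by rw [hsymm]; exact hy₁t
      by_cases h1 : B y₁ t₀ = 0
      · by_cases h3 : B y₂ t = 0
        · by_cases h4 : B y₁ y₂ = 0
          · -- the sum `y₁ + y₂`
            have hQs : Q (y₁ + y₂) = 0 := by rw [R.hQp, hQy₁, hQy₂, h4]; ring
            have hs0 : y₁ + y₂ ≠ 0 := by
              intro h0
              have : B (y₁ + y₂) t = 0 := by rw [h0, map_zero, LinearMap.zero_apply]
              rw [map_add, LinearMap.add_apply, h3, add_zero] at this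
              exact hy₁t this
            have hst₀ : B (y₁ + y₂) t₀ ≠ 0 := by
              rw [map_add, LinearMap.add_apply, h1, zero_add]; exact hy₂t₀
            have hts : B t (y₁ + y₂) ≠ 0 := by
              rw [map_add, hsymm t y₂, h3, add_zero]; exact hty₁
            exact step t ht hQt ht0 _ (V₀.add_mem hy₁ hy₂) hts
              (step _ (V₀.add_mem hy₁ hy₂) hQs hs0 t₀ P₀.hu hst₀ base)
          · exact step t ht hQt ht0 y₁ hy₁ hty₁
              (step y₁ hy₁ hQy₁ hy₁0 y₂ hy₂ h4 (step y₂ hy₂ hQy₂ hy₂0 t₀ P₀.hu hy₂t₀ base))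
        · exact step t ht hQt ht0 y₂ hy₂ (by rw [hsymm]; exact h3)
            (step y₂ hy₂ hQy₂ hy₂0 t₀ P₀.hu hy₂t₀ base)
      · exact step t ht hQt ht0 y₁ hy₁ hty₁ (step y₁ hy₁ hQy₁ hy₁0 t₀ P₀.hu h1 base)
    · exact step t ht hQt ht0 t₀ P₀.hu htt₀ base
  -- the shifted map preserves the rational structure
  have key : ∀ t ∈ V₀, Q t = 0 → nm B (k u) (k w) t - κ₀ • t ∈ V₀ := by
    intro t ht hQt
    by_cases ht0 : t = 0
    · rw [ht0, nm_zero, smul_zero, sub_zero]; exact V₀.zero_mem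
    obtain ⟨κt, hκt, hsum⟩ := good t ht hQt ht0
    have e : nm B (k u) (k w) t - κ₀ • t =
        (nm B (k u) (k w) t - κt • t) + (κt + κ₀) • t := by
      have : (κt + κ₀) • t = κt • t - κ₀ • t + (κ₀ + κ₀) • t := by module
      rw [this, hdbl, zero_smul]
      abel
    rw [e]
    exact V₀.add_mem hκt (R.smul_mem _ _ hsum ht)
  have key2 : ∀ x ∈ V₀, nm B (k u) (k w) x - κ₀ • x ∈ V₀ := by
    intro x hx
    obtain ⟨s₁, hs₁, s₂, hs₂, hQ₁, hQ₂, -, -, rfl⟩ :=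
      R.rat_two_sing hN (by omega) V₀.zero_mem hx (Q_zero Q R.hQs) (by simp)
    have e : nm B (k u) (k w) (s₁ + s₂) - κ₀ • (s₁ + s₂) =
        (nm B (k u) (k w) s₁ - κ₀ • s₁) + (nm B (k u) (k w) s₂ - κ₀ • s₂) := by
      rw [nm_add, smul_add]; abel
    rw [e]
    exact V₀.add_mem (key s₁ hs₁ hQ₁) (key s₂ hs₂ hQ₂)
  -- the shift is rational
  have hκm : κ₀ ∈ F₀ := by
    apply mem_of_sq_mem h2
    have haa : B (k u) (k u) = 0 := by rw [B_self Q B R.hQs R.hQp, h2, zero_mul]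
    have hbb : B (k w) (k w) = 0 := by rw [B_self Q B R.hQs R.hQp, h2, zero_mul]
    have hab : B (k u) (k w) = 0 := by rw [oG_B Q B R.hQp hk, huw]
    have h1 := key2 _ (key2 t₀ P₀.hu)
    have e : nm B (k u) (k w) (nm B (k u) (k w) t₀ - κ₀ • t₀) -
        κ₀ • (nm B (k u) (k w) t₀ - κ₀ • t₀) = (κ₀ * κ₀) • t₀ := by
      rw [nm_sub_smul, nm_nm hsymm hab haa hbb]
      have : (0 : V) - κ₀ • nm B (k u) (k w) t₀ - κ₀ • (nm B (k u) (k w) t₀ - κ₀ • t₀) =
          (κ₀ * κ₀) • t₀ - ((κ₀ + κ₀)) • nm B (k u) (k w) t₀ := by module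
      rw [this, hdbl, zero_smul, sub_zero]
    rw [e] at h1
    exact R.mem_of_smul hN P₀.hu P₀.u0 h1
  have e : nm B (k u) (k w) v = (nm B (k u) (k w) v - κ₀ • v) + κ₀ • v := by abel
  rw [e]
  exact V₀.add_mem (key2 v hv) (R.smul_mem _ _ hκm hv)

include R hk hmin in
/-- Third step: the image of a rational singular vector is a rational point. -/
lemma pt_rat2 (hN : B.Nondegenerate) (h13 : 13 ≤ finrank F V) (h2 : (2 : F) = 0) {u : V}
    (hu : u ∈ V₀) (hQu : Q u = 0) : ∃ μ : F, ∃ v ∈ V₀, k u = μ • v := by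
  have hsymm := R.symm
  by_cases hu0 : u = 0
  · exact ⟨1, 0, V₀.zero_mem, by rw [hu0, map_zero, smul_zero]⟩
  obtain ⟨w, hw, w', hw', hQw, hQw', hww', hwl, hw'l⟩ := R.rat_hyp hN [u]
    (by
      intro v hv
      simp only [List.mem_cons, List.not_mem_nil, or_false] at hv
      rw [hv]; exact hu)
    (by simp only [List.length_cons, List.length_nil]; omega)
  have hwu : B w u = 0 := hwl u (by simp)
  have hw'u : B w' u = 0 := hw'l u (by simp)
  have hku0 : k u ≠ 0 := fun h0 => hu0 (by simpa using h0)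
  obtain ⟨x, hx, hax⟩ := R.exists_rat_ne hN hku0
  have h1 : nm B (k u) (k w') x ∈ V₀ :=
    nm_rat2 R k hk hmin hN h13 h2 hu hw' hQu hQw' (by rw [hsymm, hw'u]) hx
  have h3 : nm B (k u) (k w) (nm B (k u) (k w') x) ∈ V₀ :=
    nm_rat2 R k hk hmin hN h13 h2 hu hw hQu hQw (by rw [hsymm, hwu]) h1
  have huu : B u u = 0 := by rw [B_self Q B R.hQs R.hQp, hQu, mul_zero]
  have e : nm B (k u) (k w) (nm B (k u) (k w') x) = (-(B x (k u))) • k u := by
    unfold nm
    simp only [map_sub, map_smul, LinearMap.sub_apply, LinearMap.smul_apply, smul_eq_mul,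
      oG_B Q B R.hQp hk, huu, hw'u, hwu, hsymm u w, hsymm u w', hsymm w' w, hww', mul_zero,
      mul_one, sub_zero, zero_smul, zero_sub]
    module
  rw [e] at h3
  have hxa : B x (k u) ≠ 0 := by rw [hsymm]; exact hax
  refine ⟨(-(B x (k u)))⁻¹, _, h3, ?_⟩
  rw [smul_smul, inv_mul_cancel₀ (neg_ne_zero.mpr hxa), one_smul]

include R hk hmin in
/-- Fourth step: compatibility of the scalars along a rational totally singular pair. -/
lemma scalar_compat2 (hN : B.Nondegenerate) (h13 : 13 ≤ finrank F V) (h2 : (2 : F) = 0)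
    {u₁ u₂ : V} (P : RPair Q B F₀ V₀ u₁ u₂) {μ₁ : F} {v₁ : V} (hv₁ : v₁ ∈ V₀)
    (h1 : k u₁ = μ₁ • v₁) : ∃ v₂ ∈ V₀, k u₂ = μ₁ • v₂ := by
  have hsymm := R.symm
  have hu₂0 : u₂ ≠ 0 := by
    intro h0
    exact P.ind 0 F₀.zero_mem (by rw [h0, zero_smul])
  have hk1 : k u₁ ≠ 0 := fun h0 => P.u0 (by simpa using h0)
  have hk2 : k u₂ ≠ 0 := fun h0 => hu₂0 (by simpa using h0)
  have hμ₁ : μ₁ ≠ 0 := by
    intro h0
    rw [h0, zero_smul] at h1
    exact hk1 h1
  have hv₁0 : v₁ ≠ 0 := by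
    intro h0
    rw [h0, smul_zero] at h1
    exact hk1 h1
  obtain ⟨μ₂, v₂, hv₂, h2'⟩ := pt_rat2 R k hk hmin hN h13 h2 P.hz P.Qz
  have hμ₂ : μ₂ ≠ 0 := by
    intro h0
    rw [h0, zero_smul] at h2'
    exact hk2 h2'
  have hv₂0 : v₂ ≠ 0 := by
    intro h0
    rw [h0, smul_zero] at h2'
    exact hk2 h2'
  have hQ12 : Q (u₁ + u₂) = 0 := by rw [R.hQp, P.Qu, P.Qz, P.Buz]; ring
  obtain ⟨μ₃, v₃, hv₃, h3⟩ := pt_rat2 R k hk hmin hN h13 h2 (V₀.add_mem P.hu P.hz) hQ12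
  rw [map_add, h1, h2'] at h3
  -- `v₁` is not a rational multiple of `v₂`
  have hind : ∀ t : F, t ∈ F₀ → v₁ ≠ t • v₂ := by
    intro t ht hv
    have e : k u₁ = k ((μ₁ * t / μ₂) • u₂) := by
      rw [map_smul, h1, h2', hv, smul_smul, smul_smul]
      congr 1
      field_simp
    have e' : u₁ = (μ₁ * t / μ₂) • u₂ := k.injective e
    have hcm : μ₁ * t / μ₂ ∈ F₀ := R.mem_of_smul hN P.hz hu₂0 (by rw [← e']; exact P.hu)
    have hc0 : μ₁ * t / μ₂ ≠ 0 := by
      intro h0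
      rw [h0, zero_smul] at e'
      exact P.u0 e'
    apply P.ind (μ₁ * t / μ₂)⁻¹ (F₀.inv_mem hcm)
    rw [e', smul_smul, inv_mul_cancel₀ hc0, one_smul]
  have hind' : ∀ t : F, t ∈ F₀ → v₂ ≠ t • v₁ := by
    intro t ht hv
    have ht0 : t ≠ 0 := by
      intro h0
      rw [h0, zero_smul] at hv
      exact hv₂0 hv
    apply hind t⁻¹ (F₀.inv_mem ht)
    rw [hv, smul_smul, inv_mul_cancel₀ ht0, one_smul]
  obtain ⟨y₁, hy₁, -, hy₁v₂, hy₁v₁⟩ := R.rat_sno hN (by omega) hv₂ hv₁ hind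
  obtain ⟨y₂, hy₂, -, hy₂v₁, hy₂v₂⟩ := R.rat_sno hN (by omega) hv₁ hv₂ hind'
  have p1 : μ₁ * B y₁ v₁ = μ₃ * B y₁ v₃ := by
    have := congrArg (fun z => B y₁ z) h3
    simp only [map_add, map_smul, smul_eq_mul, hy₁v₂, mul_zero, add_zero] at this
    exact this
  have p2 : μ₂ * B y₂ v₂ = μ₃ * B y₂ v₃ := by
    have := congrArg (fun z => B y₂ z) h3
    simp only [map_add, map_smul, smul_eq_mul, hy₂v₁, mul_zero, zero_add] at this
    exact this
  have hμ₃ : μ₃ ≠ 0 := by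
    intro h0
    rw [h0, zero_mul] at p1
    rcases mul_eq_zero.mp p1 with h | h
    · exact hμ₁ h
    · exact hy₁v₁ h
  have hy₁v₃ : B y₁ v₃ ≠ 0 := by
    intro h0
    rw [h0, mul_zero] at p1
    rcases mul_eq_zero.mp p1 with h | h
    · exact hμ₁ h
    · exact hy₁v₁ h
  obtain ⟨c, hc⟩ : ∃ c : F, c = (B y₂ v₃ / B y₂ v₂) * (B y₁ v₁ / B y₁ v₃) := ⟨_, rfl⟩
  have hcm : c ∈ F₀ := by
    rw [hc]
    exact F₀.mul_mem (F₀.div_mem (R.bval hy₂ hv₃) (R.bval hy₂ hv₂))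
      (F₀.div_mem (R.bval hy₁ hv₁) (R.bval hy₁ hv₃))
  have hμ : μ₂ = μ₁ * c := by
    rw [hc]
    have e1 : μ₂ = μ₃ * B y₂ v₃ / B y₂ v₂ := by
      rw [← p2, mul_div_assoc, div_self hy₂v₂, mul_one]
    have e2 : μ₃ = μ₁ * B y₁ v₁ / B y₁ v₃ := by
      rw [p1, mul_div_assoc, div_self hy₁v₃, mul_one]
    rw [e1, e2]
    field_simp
  refine ⟨c • v₂, R.smul_mem _ _ hcm hv₂, ?_⟩
  rw [h2', hμ, mul_smul]

include R hk hmin in
/-- **Rational minors force the isometry to map the rational structure to a multiple of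
itself.** -/
theorem rat_of_minors2 (hN : B.Nondegenerate) (h13 : 13 ≤ finrank F V) (h2 : (2 : F) = 0) :
    ∃ μ : F, μ ≠ 0 ∧ ∀ v ∈ V₀, ∃ w ∈ V₀, k v = μ • w := by
  have hsymm := R.symm
  obtain ⟨u₀, z₀, P₀⟩ := R.exists_rpair hN h13
  obtain ⟨μ₀, v₀, hv₀, h0⟩ := pt_rat2 R k hk hmin hN h13 h2 P₀.hu P₀.Qu
  have hk0 : k u₀ ≠ 0 := fun h => P₀.u0 (by simpa using h)
  have hμ₀ : μ₀ ≠ 0 := by
    intro h
    rw [h, zero_smul] at h0
    exact hk0 h0
  refine ⟨μ₀, hμ₀, ?_⟩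
  -- singular vectors
  have key : ∀ u ∈ V₀, Q u = 0 → ∃ w ∈ V₀, k u = μ₀ • w := by
    intro u hu hQu
    by_cases hu0 : u = 0
    · exact ⟨0, V₀.zero_mem, by rw [hu0, map_zero, smul_zero]⟩
    obtain ⟨x, hx, x', hx', hQx, hQx', hxx', hxl, hx'l⟩ := R.rat_hyp hN [u₀, u]
      (by
        intro v hv
        simp only [List.mem_cons, List.not_mem_nil, or_false] at hv
        rcases hv with rfl | rfl
        · exact P₀.hu
        · exact hu)
      (by simp only [List.length_cons, List.length_nil]; omega)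
    have hxu₀ : B x u₀ = 0 := hxl u₀ (by simp)
    have hxu : B x u = 0 := hxl u (by simp)
    have hx'u₀ : B x' u₀ = 0 := hx'l u₀ (by simp)
    have hx'u : B x' u = 0 := hx'l u (by simp)
    have hx0 : x ≠ 0 := by
      intro h
      rw [h, map_zero, LinearMap.zero_apply] at hxx'
      exact zero_ne_one hxx'
    have P₁ : RPair Q B F₀ V₀ u₀ x := by
      refine ⟨P₀.hu, hx, P₀.Qu, hQx, by rw [hsymm, hxu₀], P₀.u0, ?_⟩
      intro t _ h
      have h1 : B x x' = 0 := by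
        rw [h, map_smul, LinearMap.smul_apply, hsymm u₀ x', hx'u₀, smul_zero]
      rw [hxx'] at h1
      exact one_ne_zero h1
    have P₂ : RPair Q B F₀ V₀ x u := by
      refine ⟨hx, hu, hQx, hQu, hxu, hx0, ?_⟩
      intro t _ h
      have h1 : B x' u = t := by
        rw [h, map_smul, smul_eq_mul, hsymm x' x, hxx', mul_one]
      rw [hx'u] at h1
      apply hu0
      rw [h, ← h1, zero_smul]
    obtain ⟨v₁, hv₁, e1⟩ := scalar_compat2 R k hk hmin hN h13 h2 P₁ hv₀ h0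
    exact scalar_compat2 R k hk hmin hN h13 h2 P₂ hv₁ e1
  intro v hv
  obtain ⟨s₁, hs₁, s₂, hs₂, hQ₁, hQ₂, -, -, rfl⟩ :=
    R.rat_two_sing hN (by omega) V₀.zero_mem hv (Q_zero Q R.hQs) (by simp)
  obtain ⟨w₁, hw₁, e1⟩ := key s₁ hs₁ hQ₁
  obtain ⟨w₂, hw₂, e2⟩ := key s₂ hs₂ hQ₂
  exact ⟨w₁ + w₂, V₀.add_mem hw₁ hw₂, by rw [map_add, e1, e2, smul_add]⟩


end Cfsg.Agent.Lib.Helper38_QSubTwo
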