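import Mathlib
import Cfsg.Agent.Lib.Helper94_QSub6
import Cfsg.Agent.Lib.Helper38_QSubTwo2
import Cfsg.Agent.Lib.Helper38_QSubTwo3

set_option autoImplicit false
set_option linter.unusedSimpArgs false
set_option linter.unusedSectionVars false
set_option linter.unnecessarySimpa false
set_option linter.style.haveILetI false

/-!
Maximality of the stabiliser of a rational structure of a quadratic space over a subfield of prime
index, in characteristic two.
-/

namespace Cfsg.Agent.Lib.Helper38_QSubTwo

open Module Matrix Cfsg.Agent.Lib.Helper94_Symp Cfsg.Agent.Lib.Helper94_OrthSmall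
  Cfsg.Agent.Lib.Helper94_OrthSiegel Cfsg.Agent.Lib.Helper94_OrthSiegel2
  Cfsg.Agent.Lib.Helper94_QSub

variable {F V : Type*} [Field F] [AddCommGroup V] [Module F V]
variable {Q : V → F} {B : LinearMap.BilinForm F V} {F₀ : Subfield F} {V₀ : AddSubgroup V}

/-- **Maximality of the stabiliser of a rational structure over a subfield of prime index** in
the group generated by the Siegel elements of an orthogonal space of dimension at least `13` in
characteristic two. -/
theorem maximal_qsub2 [Finite F] [FiniteDimensional F V] (R : QStr Q B F₀ V₀)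
    (hN : B.Nondegenerate) (h2 : (2 : F) = 0) (G : Subgroup (V ≃ₗ[F] V)) (hG1 : G ≤ oG Q)
    (hG2 : ∀ u z, Q u = 0 → B u z = 0 → sieg Q B u z ∈ G)
    (hG3 : ∀ M : Subgroup (V ≃ₗ[F] V),
      (∀ u z, Q u = 0 → B u z = 0 → sieg Q B u z ∈ M) → G ≤ M)
    (h13 : 13 ≤ finrank F V)
    (hsimple : ∀ K : Subalgebra F₀ F, K = ⊥ ∨ K = ⊤) (hne : ∃ c : F, c ∉ F₀)
    (S : Subgroup (V ≃ₗ[F] V))
    (hS : ∀ g, g ∈ S ↔ ∃ μ : F, μ ≠ 0 ∧ ∀ v ∈ V₀, ∃ w ∈ V₀, g v = μ • w) :
    (S ⊓ G < G) ∧
      ∀ M : Subgroup (V ≃ₗ[F] V), S ⊓ G ≤ M → M ≤ G → M = S ⊓ G ∨ M = G := by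
  obtain ⟨c₀, hc₀⟩ := hne
  obtain ⟨u₀, z₀, P₀⟩ := R.exists_rpair hN h13
  constructor
  · refine lt_of_le_of_ne inf_le_right ?_
    intro heq
    have h1 : sieg Q B u₀ (c₀ • z₀) ∈ S ⊓ G := by
      rw [heq]
      exact hG2 _ _ P₀.Qu (by rw [map_smul, P₀.Buz, smul_zero])
    exact R.not_mem_S S hS hN h13 P₀ hc₀ h1.1
  · intro M hHM hMG
    have hMO : M ≤ oG Q := hMG.trans hG1
    rcases R.par_dichotomy S M G hS hG2 hHM hMO hN h13 hsimple with hA0 | hall
    · left
      apply le_antisymm _ hHM
      intro k hk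
      refine ⟨(hS k).mpr ?_, hMG hk⟩
      have hkO : k ∈ oG Q := hMO hk
      apply rat_of_minors2 R k hkO _ hN h13 h2
      intro u w t y hu hw ht hy hQu hQw hQt hQy huw hty
      by_cases hu0 : u = 0
      · rw [hu0, map_zero]
        simp only [map_zero, LinearMap.zero_apply, zero_mul, sub_zero]
        exact F₀.zero_mem
      by_cases hind : ∀ t' : F, t' ∈ F₀ → w ≠ t' • u
      · -- the conjugate root element
        have hg : sieg Q B (k u) (k w) ∈ M := by
          rw [← conj_sieg Q B R.hQs R.hQp hkO hQu huw]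
          exact M.mul_mem (M.mul_mem hk (R.rat_sieg_mem S M G hS hG2 hHM hu hw hQu huw))
            (M.inv_mem hk)
        have hQa : Q (k u) = 0 := by rw [hkO, hQu]
        have hQb : Q (k w) = 0 := by rw [hkO, hQw]
        have hab : B (k u) (k w) = 0 := by rw [oG_B Q B R.hQp hkO, huw]
        have hli : ∀ s t' : F, s • k u + t' • k w = 0 → s = 0 ∧ t' = 0 := by
          intro s t' hst
          have h1 : s • u + t' • w = 0 := by
            apply k.injective
            rw [map_add, map_smul, map_smul, hst, map_zero]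
          have ht'0 : t' = 0 := by
            by_contra hne
            have h3 : w = (-s / t') • u := by
              have : t' • w = (-s) • u := by
                rw [neg_smul]
                exact eq_neg_of_add_eq_zero_right h1
              rw [div_eq_inv_mul, mul_smul, ← this, smul_smul, inv_mul_cancel₀ hne, one_smul]
            have h4 : -s / t' ∈ F₀ := R.mem_of_smul hN hu hu0 (by rw [← h3]; exact hw)
            exact hind _ h4 h3
          refine ⟨?_, ht'0⟩
          rw [ht'0, zero_smul, add_zero] at h1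
          rcases smul_eq_zero.mp h1 with h | h
          · exact h
          · exact absurd h hu0
        obtain ⟨r₁, hr₁, r₂, hr₂, r₃, hr₃, r₄, hr₄, htrap⟩ :=
          line_trap R S M G hS hG2 hHM hMO hA0 hN h13 h2 hQa hQb hab hg hli
        exact minor_rat_of_trap R S M G hS hG2 hHM hMO hA0 hN h13 hQa hQb hab hg hr₁ hr₂ hr₃ hr₄
          htrap ht hy hQt hQy hty
      · push Not at hind
        obtain ⟨t', -, rfl⟩ := hind
        have e : B (k u) t * B (k (t' • u)) y - B (k u) y * B (k (t' • u)) t = 0 := by
          simp only [map_smul, LinearMap.smul_apply, smul_eq_mul]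
          ring
        rw [e]
        exact F₀.zero_mem
    · right
      apply le_antisymm hMG
      apply hG3
      intro x z hQx hxz
      exact R.all_full M hMO hall hN h13 hQx hxz

end Cfsg.Agent.Lib.Helper38_QSubTwo
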