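import Mathlib
import Cfsg.Agent.Lib.Helper94_Symp

set_option autoImplicit false
set_option linter.unusedSimpArgs false

/-!
Short root elements of the symplectic group as products of three transvections:
`T p q x = x + B x p • q + B x q • p` when `B p q = 0`, with their calculus.
-/

namespace Cfsg.Agent.Lib.Helper38_SpSub1

open Cfsg.Agent.Lib.Helper94_Symp

variable {F V : Type*} [Field F] [AddCommGroup V] [Module F V]
variable (B : LinearMap.BilinForm F V) (hB : B.IsAlt)

/-- The short root element attached to an orthogonal pair `p, q`. -/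
def T (p q : V) : V ≃ₗ[F] V :=
  stv B hB (p + q) 1 * stv B hB p (-1) * stv B hB q (-1)

lemma T_mem_isoGroup (p q : V) : T B hB p q ∈ isoGroup B :=
  (isoGroup B).mul_mem ((isoGroup B).mul_mem (stv_mem_isoGroup _ _ _ _) (stv_mem_isoGroup _ _ _ _))
    (stv_mem_isoGroup _ _ _ _)

lemma T_mem {H : Subgroup (V ≃ₗ[F] V)} {p q : V} (h1 : stv B hB (p + q) 1 ∈ H)
    (h2 : stv B hB p (-1) ∈ H) (h3 : stv B hB q (-1) ∈ H) : T B hB p q ∈ H :=
  H.mul_mem (H.mul_mem h1 h2) h3

include hB in
lemma alt_zero {p q : V} (h : B p q = 0) : B q p = 0 := by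
  rw [alt_swap B hB, h, neg_zero]

lemma T_apply {p q : V} (h : B p q = 0) (x : V) :
    T B hB p q x = x + B x p • q + B x q • p := by
  have h' := alt_zero B hB h
  simp only [T, LinearEquiv.mul_apply, stv_apply, map_add, map_smul, LinearMap.add_apply,
    LinearMap.smul_apply, smul_eq_mul, hB p, hB q, h, h', mul_zero, add_zero, zero_add]
  module

lemma conj_T {g : V ≃ₗ[F] V} (hg : g ∈ isoGroup B) (p q : V) :
    g * T B hB p q * g⁻¹ = T B hB (g p) (g q) := by
  have e : g * T B hB p q * g⁻¹ =
      (g * stv B hB (p + q) 1 * g⁻¹) * (g * stv B hB p (-1) * g⁻¹) * (g * stv B hB q (-1) * g⁻¹) := by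
    simp only [T]; group
  rw [e, conj_stv B hB hg, conj_stv B hB hg, conj_stv B hB hg, map_add]
  rfl

lemma T_comm {p q : V} (h : B p q = 0) : T B hB p q = T B hB q p := by
  ext x
  rw [T_apply B hB h, T_apply B hB (alt_zero B hB h)]
  abel

lemma T_smul_swap {p q : V} (h : B p q = 0) (c : F) : T B hB (c • p) q = T B hB p (c • q) := by
  ext x
  rw [T_apply B hB (by rw [map_smul, LinearMap.smul_apply, h, smul_zero]),
    T_apply B hB (by rw [map_smul, h, smul_zero])]
  simp only [map_smul, smul_eq_mul]
  module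

lemma T_zero_left (q : V) : T B hB 0 q = 1 := by
  ext x
  rw [T_apply B hB (by simp)]
  simp

lemma T_add {p p' q : V} (h : B p q = 0) (h' : B p' q = 0) :
    T B hB p q * T B hB p' q = T B hB (p + p') q * stv B hB q (B p' p) := by
  have hq := alt_zero B hB h
  have hq' := alt_zero B hB h'
  ext x
  rw [LinearEquiv.mul_apply, LinearEquiv.mul_apply, T_apply B hB h, T_apply B hB h',
    T_apply B hB (by rw [map_add, LinearMap.add_apply, h, h', add_zero]), stv_apply]
  simp only [map_add, map_smul, LinearMap.add_apply, LinearMap.smul_apply, smul_eq_mul, hB q, h, h',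
    hq, hq', mul_zero, add_zero, zero_add]
  module

lemma T_add0 {p p' q : V} (h : B p q = 0) (h' : B p' q = 0) (h'' : B p' p = 0) :
    T B hB p q * T B hB p' q = T B hB (p + p') q := by
  rw [T_add B hB h h', h'']
  ext x
  simp

lemma T_inv {p q : V} (h : B p q = 0) : (T B hB p q)⁻¹ = T B hB (-p) q := by
  rw [inv_eq_iff_mul_eq_one]
  rw [T_add0 B hB h (by rw [map_neg, LinearMap.neg_apply, h, neg_zero])
    (by rw [map_neg, LinearMap.neg_apply, hB p, neg_zero]), add_neg_cancel, T_zero_left]

/-- The commutator formula of two short root elements. -/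
lemma comm_T {u u' q w : V} (hu : B u u' = 0) (hq : B q w = 0) (h1 : B u q = 0) (h2 : B u w = 0)
    (h3 : B u' w = 0) :
    T B hB u u' * T B hB q w * (T B hB u u')⁻¹ * (T B hB q w)⁻¹ = T B hB ((-B u' q) • u) w := by
  rw [conj_T B hB (T_mem_isoGroup B hB u u'), T_apply B hB hu, T_apply B hB hu]
  rw [alt_zero B hB h1, alt_zero B hB h2, alt_zero B hB h3]
  simp only [zero_smul, add_zero]
  have e1 : B q u' = -B u' q := alt_swap B hB _ _
  have e2 : q + B q u' • u = (-B u' q) • u + q := by rw [e1]; abel
  rw [e2, ← T_add0 B hB (by rw [map_smul, LinearMap.smul_apply, h2, smul_zero]) hq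
    (by rw [map_smul, alt_zero B hB h1, smul_zero]), mul_inv_cancel_right]

lemma stv_add (v : V) (c d : F) : stv B hB v (c + d) = stv B hB v c * stv B hB v d := by
  ext x
  simp only [LinearEquiv.mul_apply, stv_apply, map_add, map_smul, LinearMap.add_apply,
    LinearMap.smul_apply, smul_eq_mul, hB v, mul_zero, add_zero]
  module

lemma stv_inv (v : V) (c : F) : (stv B hB v c)⁻¹ = stv B hB v (-c) := by
  rw [inv_eq_iff_mul_eq_one, ← stv_add, add_neg_cancel]
  ext x; simp

/-- The long root identity. -/
lemma stv_add_smul {v y : V} (h : B v y = 0) (a : F) :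
    stv B hB (y + a • v) 1 = T B hB (a • v) y * stv B hB v (a * a) * stv B hB y 1 := by
  have h' := alt_zero B hB h
  ext x
  rw [LinearEquiv.mul_apply, LinearEquiv.mul_apply,
    T_apply B hB (by rw [map_smul, LinearMap.smul_apply, h, smul_zero])]
  simp only [stv_apply, map_add, map_smul, LinearMap.add_apply, LinearMap.smul_apply, smul_eq_mul,
    hB v, hB y, h, h', mul_zero, add_zero, zero_add, one_mul]
  module

/-- Two transvections with orthogonal centres `a' ± s`. -/
lemma stv_pm {a' s : V} (h : B a' s = 0) (c : F) :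
    stv B hB (a' + s) c * stv B hB (a' - s) (-c) = T B hB ((2 * c) • a') s := by
  have h' := alt_zero B hB h
  ext x
  rw [LinearEquiv.mul_apply, T_apply B hB (by rw [map_smul, LinearMap.smul_apply, h, smul_zero])]
  simp only [stv_apply, map_add, map_sub, map_smul, LinearMap.add_apply, LinearMap.sub_apply,
    LinearMap.smul_apply, smul_eq_mul, hB a', hB s, h, h', mul_zero, add_zero, zero_add, sub_zero,
    zero_sub, sub_self]
  module

/-- Four transvections with centres `a, a + δ, a + δ', a + δ + δ'`, pairwise orthogonal. -/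
lemma stv_four {a d d' : V} (h1 : B a d = 0) (h2 : B a d' = 0) (h3 : B d d' = 0) (c : F) :
    stv B hB (a + d + d') c * stv B hB (a + d') (-c) * stv B hB (a + d) (-c) * stv B hB a c =
      T B hB (c • d') d := by
  have h1' := alt_zero B hB h1
  have h2' := alt_zero B hB h2
  have h3' := alt_zero B hB h3
  ext x
  rw [LinearEquiv.mul_apply, LinearEquiv.mul_apply, LinearEquiv.mul_apply,
    T_apply B hB (by rw [map_smul, LinearMap.smul_apply, h3', smul_zero])]
  simp only [stv_apply, map_add, map_smul, LinearMap.add_apply,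
    LinearMap.smul_apply, smul_eq_mul, hB a, hB d, hB d', h1, h2, h3, h1', h2', h3', mul_zero,
    add_zero, zero_add]
  module

end Cfsg.Agent.Lib.Helper38_SpSub1
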