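import Mathlib
import Cfsg.Agent.Lib.Helper94_Symp
import Cfsg.Agent.Lib.Helper38_SpSub1

set_option autoImplicit false
set_option linter.unusedSimpArgs false
set_option linter.unusedSectionVars false
set_option linter.unnecessarySimpa false

/-!
Tools for generating symplectic groups by conjugates of a regular unipotent element:
the additive group of parameters of the transvections with a given centre lying in a subgroup,
and the lemma producing a full root subgroup from two parameters `ζ`, `ζ⁻¹`.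
-/

namespace Cfsg.Agent.Lib.Helper38_RU

open Cfsg.Agent.Lib.Helper94_Symp Cfsg.Agent.Lib.Helper38_SpSub1

variable {F V : Type*} [Field F] [AddCommGroup V] [Module F V]
variable (B : LinearMap.BilinForm F V) (hB : B.IsAlt)

lemma stv_coeff_zero (v : V) : stv B hB v 0 = 1 := by
  ext x; simp

/-- The additive group of the parameters `c` with `stv x c ∈ H`. -/
def AS (H : Subgroup (V ≃ₗ[F] V)) (x : V) : AddSubgroup F where
  carrier := {c | stv B hB x c ∈ H}
  zero_mem' := by
    show stv B hB x 0 ∈ H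
    rw [stv_coeff_zero]; exact H.one_mem
  add_mem' := by
    intro a b ha hb
    show stv B hB x (a + b) ∈ H
    rw [stv_add]; exact H.mul_mem ha hb
  neg_mem' := by
    intro a ha
    show stv B hB x (-a) ∈ H
    rw [← stv_inv]; exact H.inv_mem ha

variable {B hB} {H : Subgroup (V ≃ₗ[F] V)}

lemma mem_AS {x : V} {c : F} : c ∈ AS B hB H x ↔ stv B hB x c ∈ H := Iff.rfl

lemma conj_mem_iff {G : Type*} [Group G] {K : Subgroup G} {k s : G} (hk : k ∈ K) :
    k * s * k⁻¹ ∈ K ↔ s ∈ K := by
  constructor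
  · intro h
    have : s = k⁻¹ * (k * s * k⁻¹) * k := by group
    rw [this]
    exact K.mul_mem (K.mul_mem (K.inv_mem hk) h) hk
  · intro h
    exact K.mul_mem (K.mul_mem hk h) (K.inv_mem hk)

lemma AS_map {k : V ≃ₗ[F] V} (hkH : k ∈ H) (hk : k ∈ isoGroup B) (x : V) :
    AS B hB H (k x) = AS B hB H x := by
  ext c
  rw [mem_AS, mem_AS, ← conj_stv B hB hk, conj_mem_iff hkH]

lemma AS_map' {k : V ≃ₗ[F] V} (hkH : k ∈ H) (hk : k ∈ isoGroup B) {x y : V} (h : k x = y) :
    AS B hB H y = AS B hB H x := by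
  rw [← h, AS_map hkH hk]

lemma mem_AS_smul {a c : F} {x : V} : c ∈ AS B hB H (a • x) ↔ a * a * c ∈ AS B hB H x := by
  rw [mem_AS, mem_AS, stv_smul]

lemma AS_neg (x : V) : AS B hB H (-x) = AS B hB H x := by
  ext c
  have : -x = (-1 : F) • x := by simp
  rw [this, mem_AS_smul]
  simp

lemma TV_iff_AS {x : V} : x ∈ TV B hB H ↔ ∀ c, c ∈ AS B hB H x := Iff.rfl

/-- Every element of a finite field is a sum of two squares. -/
lemma exists_sq_add_sq [Fintype F] (a : F) : ∃ s t : F, a = s * s + t * t := by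
  classical
  rcases Nat.mod_two_eq_zero_or_one (Fintype.card F) with h | h
  · have h2 : ringChar F = 2 := FiniteField.even_card_iff_char_two.mpr h
    obtain ⟨s, hs⟩ := FiniteField.isSquare_of_char_two h2 a
    exact ⟨s, 0, by rw [hs]; ring⟩
  · let f : Polynomial F := Polynomial.X ^ 2
    let g : Polynomial F := Polynomial.X ^ 2 - Polynomial.C a
    obtain ⟨s, t, hst⟩ : ∃ s t, f.eval s + g.eval t = 0 :=
      FiniteField.exists_root_sum_quadratic (Polynomial.degree_X_pow 2)
        (Polynomial.degree_X_pow_sub_C (by decide) _) h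
    refine ⟨s, t, ?_⟩
    simp only [f, g, Polynomial.eval_C, Polynomial.eval_X, Polynomial.eval_pow,
      Polynomial.eval_sub] at hst
    linear_combination -hst

/-- From two transvections with parameters `ζ`, `ζ⁻¹` (for a generator `ζ` of the multiplicative
group) on a centre `x` having a partner `w` with the same parameter group, the full root subgroup. -/
theorem full_of_two [Fintype F] {x w : V} (hwx : B w x = 1)
    (hA : AS B hB H w = AS B hB H x) {ζ : F} (hζ0 : ζ ≠ 0)
    (hgen : ∀ a : F, a ≠ 0 → ∃ k : ℕ, a = ζ ^ k)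
    (h1 : ζ ∈ AS B hB H x) (h2 : ζ⁻¹ ∈ AS B hB H x) : x ∈ TV B hB H := by
  have hxw : B x w = -1 := by rw [alt_swap B hB, hwx]
  set n0 : V ≃ₗ[F] V := stv B hB x ζ * stv B hB w ζ⁻¹ * stv B hB x ζ with hn0
  have hn0H : n0 ∈ H := by
    refine H.mul_mem (H.mul_mem h1 ?_) h1
    rw [← mem_AS, hA]; exact h2
  have hn0I : n0 ∈ isoGroup B :=
    (isoGroup B).mul_mem ((isoGroup B).mul_mem (stv_mem_isoGroup _ _ _ _)
      (stv_mem_isoGroup _ _ _ _)) (stv_mem_isoGroup _ _ _ _)
  have hn0x : n0 x = (-ζ⁻¹) • w := by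
    simp only [hn0, LinearEquiv.mul_apply, stv_apply, map_add, map_smul, LinearMap.add_apply,
      LinearMap.smul_apply, smul_eq_mul, hB x, hB w, hxw, hwx, mul_zero, add_zero, zero_smul,
      mul_one]
    have : ζ⁻¹ * ζ = 1 := inv_mul_cancel₀ hζ0
    match_scalars
    · linear_combination -this
    · ring
  have key : ∀ c, c ∈ AS B hB H x ↔ ζ⁻¹ * ζ⁻¹ * c ∈ AS B hB H x := by
    intro c
    have e1 := AS_map' (hB := hB) hn0H hn0I hn0x
    have e2 : c ∈ AS B hB H ((-ζ⁻¹) • w) ↔ (-ζ⁻¹) * (-ζ⁻¹) * c ∈ AS B hB H w := mem_AS_smul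
    rw [e1, hA] at e2
    have e3 : (-ζ⁻¹) * (-ζ⁻¹) * c = ζ⁻¹ * ζ⁻¹ * c := by ring
    rw [e3] at e2
    exact e2
  have step : ∀ c, c ∈ AS B hB H x → ζ * ζ * c ∈ AS B hB H x := by
    intro c hc
    rw [key]
    have : ζ⁻¹ * ζ⁻¹ * (ζ * ζ * c) = c := by field_simp
    rwa [this]
  have hpow : ∀ k : ℕ, ζ ^ k * ζ ^ k * ζ ∈ AS B hB H x := by
    intro k
    induction k with
    | zero => simpa using h1
    | succ k ih =>
      have := step _ ih
      have e : ζ ^ (k + 1) * ζ ^ (k + 1) * ζ = ζ * ζ * (ζ ^ k * ζ ^ k * ζ) := by ring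
      rwa [e]
  have hsq : ∀ s : F, s * s * ζ ∈ AS B hB H x := by
    intro s
    by_cases hs : s = 0
    · rw [hs]; simp
    · obtain ⟨k, rfl⟩ := hgen s hs
      exact hpow k
  intro c
  obtain ⟨s, t, hst⟩ := exists_sq_add_sq (ζ⁻¹ * c)
  have : c = s * s * ζ + t * t * ζ := by
    have h3 : c = ζ * (ζ⁻¹ * c) := by field_simp
    rw [h3, hst]; ring
  show c ∈ AS B hB H x
  rw [this]
  exact (AS B hB H x).add_mem (hsq s) (hsq t)

/-- In odd characteristic, the parameter groups are closed under halving. -/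
lemma AS_half [Fintype F] (h2 : (2 : F) ≠ 0) {x : V} {c : F} (h : 2 * c ∈ AS B hB H x) :
    c ∈ AS B hB H x := by
  have hodd : Fintype.card F % 2 = 1 := by
    apply FiniteField.odd_card_of_char_ne_two
    intro hc
    apply h2
    have : ((2 : ℕ) : F) = 0 := by
      rw [← hc]; exact ringChar.Nat.cast_ringChar
    exact_mod_cast this
  have hq : ((Fintype.card F : ℕ) : F) = 0 := FiniteField.cast_card_eq_zero F
  set m := (Fintype.card F + 1) / 2 with hm
  have hm2 : m * 2 = Fintype.card F + 1 := by omega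
  have := (AS B hB H x).nsmul_mem h m
  have e : m • (2 * c) = c := by
    rw [nsmul_eq_mul, ← mul_assoc]
    have : (m : F) * 2 = 1 := by
      have : ((m * 2 : ℕ) : F) = 1 := by rw [hm2]; push_cast; rw [hq]; ring
      exact_mod_cast this
    rw [this, one_mul]
  rwa [e] at this

end Cfsg.Agent.Lib.Helper38_RU
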