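import Mathlib
import Cfsg.Agent.Lib.Helper94_Symp
import Cfsg.Agent.Lib.Helper38_SpSub1
import Cfsg.Agent.Lib.Helper38_RU1

set_option autoImplicit false
set_option linter.unusedSimpArgs false
set_option linter.unusedSectionVars false
set_option linter.unnecessarySimpa false

/-!
Hyperbolic families `e, f : ℕ → V` (a symplectic basis for the indices `< n`), the flag of
subspaces they span, and the generation of the isometry group by the transvections centred at
`e i`, `f i` and the connecting vectors `e i + e (i+1)`.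
-/

namespace Cfsg.Agent.Lib.Helper38_RU

open Cfsg.Agent.Lib.Helper94_Symp Cfsg.Agent.Lib.Helper38_SpSub1

variable {F V : Type*} [Field F] [AddCommGroup V] [Module F V]

/-- A hyperbolic family: `B (f i) (e i) = 1` for `i < n`, all other pairings vanish. -/
structure Hyp (B : LinearMap.BilinForm F V) (n : ℕ) (e f : ℕ → V) : Prop where
  ee : ∀ i j, B (e i) (e j) = 0
  ff : ∀ i j, B (f i) (f j) = 0
  fe_self : ∀ i, i < n → B (f i) (e i) = 1
  fe_ne : ∀ i j, i ≠ j → B (f i) (e j) = 0

namespace Hyp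

variable {B : LinearMap.BilinForm F V} (hB : B.IsAlt) {n : ℕ} {e f : ℕ → V} (hyp : Hyp B n e f)

include hB hyp

lemma ef_self (i : ℕ) (hi : i < n) : B (e i) (f i) = -1 := by
  rw [alt_swap B hB, hyp.fe_self i hi]

lemma ef_ne (i j : ℕ) (h : i ≠ j) : B (e i) (f j) = 0 := by
  rw [alt_swap B hB, hyp.fe_ne j i (Ne.symm h), neg_zero]

omit hB in
lemma e_ne_zero (i : ℕ) (hi : i < n) : e i ≠ 0 := by
  intro h
  have := hyp.fe_self i hi
  rw [h, map_zero] at this
  exact zero_ne_one this

omit hB in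
lemma f_ne_zero (i : ℕ) (hi : i < n) : f i ≠ 0 := by
  intro h
  have := hyp.fe_self i hi
  rw [h, map_zero, LinearMap.zero_apply] at this
  exact zero_ne_one this

end Hyp

/-- The flag spanned by a hyperbolic family. -/
def Vk (F : Type*) {V : Type*} [Field F] [AddCommGroup V] [Module F V] (e f : ℕ → V) :
    ℕ → Submodule F V
  | 0 => ⊥
  | k + 1 => Vk F e f k ⊔ Submodule.span F {e k, f k}

lemma Vk_succ (e f : ℕ → V) (k : ℕ) :
    Vk F e f (k + 1) = Vk F e f k ⊔ Submodule.span F {e k, f k} := rfl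

lemma Vk_mono (e f : ℕ → V) {k l : ℕ} (h : k ≤ l) : Vk F e f k ≤ Vk F e f l := by
  induction l with
  | zero =>
    have : k = 0 := by omega
    rw [this]
  | succ l ih =>
    rcases Nat.lt_or_ge k (l + 1) with h1 | h1
    · exact le_trans (ih (by omega)) le_sup_left
    · have : k = l + 1 := by omega
      rw [this]

lemma e_mem_Pk (e f : ℕ → V) (k : ℕ) : e k ∈ Submodule.span F {e k, f k} :=
  Submodule.subset_span (by simp)

lemma f_mem_Pk (e f : ℕ → V) (k : ℕ) : f k ∈ Submodule.span F {e k, f k} :=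
  Submodule.subset_span (by simp)

lemma e_mem_Vk (e f : ℕ → V) {i k : ℕ} (h : i < k) : e i ∈ Vk F e f k :=
  Vk_mono e f (show i + 1 ≤ k by omega) (Submodule.mem_sup_right (e_mem_Pk e f i))

lemma f_mem_Vk (e f : ℕ → V) {i k : ℕ} (h : i < k) : f i ∈ Vk F e f k :=
  Vk_mono e f (show i + 1 ≤ k by omega) (Submodule.mem_sup_right (f_mem_Pk e f i))

section Flag

variable {B : LinearMap.BilinForm F V} (hB : B.IsAlt) {n : ℕ} {e f : ℕ → V} (hyp : Hyp B n e f)

include hB hyp

/-- Vectors of `Vk k` are orthogonal to `e j`, `f j` for `j ≥ k`. -/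
lemma Vk_orth (k : ℕ) : ∀ x ∈ Vk F e f k, ∀ j, k ≤ j → B x (e j) = 0 ∧ B x (f j) = 0 := by
  induction k with
  | zero =>
    intro x hx j _
    have : x = 0 := by simpa [Vk] using hx
    rw [this]; simp
  | succ k ih =>
    intro x hx j hj
    rw [Vk_succ, Submodule.mem_sup] at hx
    obtain ⟨a, ha, b, hb, rfl⟩ := hx
    obtain ⟨α, β, rfl⟩ := Submodule.mem_span_pair.mp hb
    obtain ⟨h1, h2⟩ := ih a ha j (by omega)
    have hkj : k ≠ j := by omega
    constructor
    · simp only [map_add, map_smul, LinearMap.add_apply, LinearMap.smul_apply, smul_eq_mul, h1,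
        hyp.ee, hyp.fe_ne k j hkj, mul_zero, add_zero]
    · simp only [map_add, map_smul, LinearMap.add_apply, LinearMap.smul_apply, smul_eq_mul, h2,
        hyp.ff, hyp.ef_ne hB k j hkj, mul_zero, add_zero]

lemma Vk_orth_Pk {k : ℕ} {a b : V} (ha : a ∈ Vk F e f k) (hb : b ∈ Submodule.span F {e k, f k}) :
    B a b = 0 := by
  obtain ⟨α, β, rfl⟩ := Submodule.mem_span_pair.mp hb
  obtain ⟨h1, h2⟩ := Vk_orth hB hyp k a ha k le_rfl
  simp only [map_add, map_smul, smul_eq_mul, h1, h2, mul_zero, add_zero]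

lemma Pk_nondeg {k : ℕ} (hk : k < n) : NondegOn B (Submodule.span F {e k, f k}) := by
  intro b hb hb0
  obtain ⟨α, β, rfl⟩ := Submodule.mem_span_pair.mp hb
  by_cases hα : α = 0
  · have hβ : β ≠ 0 := by
      rintro rfl
      apply hb0; rw [hα]; simp
    refine ⟨e k, e_mem_Pk e f k, ?_⟩
    simp only [map_add, map_smul, smul_eq_mul, hyp.ee, hyp.ef_self hB k hk, mul_zero, zero_add]
    simpa using hβ
  · refine ⟨f k, f_mem_Pk e f k, ?_⟩
    simp only [map_add, map_smul, smul_eq_mul, hyp.ff, hyp.fe_self k hk, mul_zero, add_zero,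
      mul_one]
    exact hα

lemma Vk_nondeg {k : ℕ} (hk : k ≤ n) : NondegOn B (Vk F e f k) := by
  induction k with
  | zero =>
    intro w hw hw0
    exact absurd (by simpa [Vk] using hw) hw0
  | succ k ih =>
    intro w hw hw0
    rw [Vk_succ, Submodule.mem_sup] at hw
    obtain ⟨a, ha, b, hb, rfl⟩ := hw
    by_cases hb0 : b = 0
    · have ha0 : a ≠ 0 := by
        rintro rfl
        apply hw0; rw [hb0]; simp
      obtain ⟨x, hx, hxa⟩ := ih (by omega) a ha ha0
      refine ⟨x, Submodule.mem_sup_left hx, ?_⟩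
      rw [hb0, add_zero]; exact hxa
    · obtain ⟨y, hy, hyb⟩ := Pk_nondeg hB hyp (show k < n by omega) b hb hb0
      refine ⟨y, Submodule.mem_sup_right hy, ?_⟩
      rw [map_add, alt_zero B hB (Vk_orth_Pk hB hyp ha hy), zero_add]
      exact hyb

end Flag

section Gen

variable {B : LinearMap.BilinForm F V} {hB : B.IsAlt} {n : ℕ} {e f : ℕ → V}
variable {M : Subgroup (V ≃ₗ[F] V)}

lemma Pk_subset_TV (hyp : Hyp B n e f) {k : ℕ} (hk : k < n) (he : e k ∈ TV B hB M)
    (hf : f k ∈ TV B hB M) : ∀ b ∈ Submodule.span F {e k, f k}, b ∈ TV B hB M := by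
  intro b hb
  obtain ⟨α, β, rfl⟩ := Submodule.mem_span_pair.mp hb
  by_cases hα : α = 0
  · rw [hα, zero_smul, zero_add]
    exact TV_smul β hf
  · have h1 : e k + (α⁻¹ * β) • f k ∈ TV B hB M :=
      TV_add_smul hf he (by rw [hyp.ef_self hB k hk]; simp) _
    have h2 := TV_smul α h1
    have e1 : α • (e k + (α⁻¹ * β) • f k) = α • e k + β • f k := by
      rw [smul_add, smul_smul, ← mul_assoc, mul_inv_cancel₀ hα, one_mul]
    rwa [e1] at h2

/-- Generation of the isometry group from the transvections centred at the vectors of a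
hyperbolic family and the connecting vectors. -/
theorem isoGroup_le_of_TV [FiniteDimensional F V] (hN : B.Nondegenerate) (hyp : Hyp B n e f)
    (hspan : Vk F e f n = ⊤)
    (he : ∀ i, i < n → e i ∈ TV B hB M) (hf : ∀ i, i < n → f i ∈ TV B hB M)
    (hc : ∀ i, i + 1 < n → e i + e (i + 1) ∈ TV B hB M) : isoGroup B ≤ M := by
  have key : ∀ k, k ≤ n → ∀ x ∈ Vk F e f k, x ∈ TV B hB M := by
    intro k
    induction k with
    | zero =>
      intro _ x hx
      have : x = 0 := by simpa [Vk] using hx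
      rw [this]; exact TV_zero
    | succ k ih =>
      intro hk x hx
      have ih' := ih (by omega)
      have hP := Pk_subset_TV (hB := hB) (M := M) hyp (show k < n by omega) (he k (by omega))
        (hf k (by omega))
      rw [Vk_succ, Submodule.mem_sup] at hx
      obtain ⟨a, ha, b, hb, rfl⟩ := hx
      by_cases ha0 : a = 0
      · rw [ha0, zero_add]; exact hP b hb
      by_cases hb0 : b = 0
      · rw [hb0, add_zero]; exact ih' a ha
      -- both components nonzero
      obtain ⟨k', rfl⟩ : ∃ k', k = k' + 1 := by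
        rcases k with _ | k'
        · exact absurd (by simpa [Vk] using ha) ha0
        · exact ⟨k', rfl⟩
      have hconn := hc k' (by omega)
      -- move `e k'` to `a` inside `Vk (k'+1)`
      obtain ⟨a1, ha1, c1, a2, ha2, c2, hmove1⟩ :=
        exists_move B hB (Vk_nondeg hB hyp (show k' + 1 ≤ n by omega))
          (e_mem_Vk e f (show k' < k' + 1 by omega)) ha (hyp.e_ne_zero k' (by omega)) ha0
      have hg1M : stv B hB a2 c2 * stv B hB a1 c1 ∈ M := M.mul_mem (ih' a2 ha2 c2) (ih' a1 ha1 c1)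
      have hg1I : stv B hB a2 c2 * stv B hB a1 c1 ∈ isoGroup B :=
        (isoGroup B).mul_mem (stv_mem_isoGroup _ _ _ _) (stv_mem_isoGroup _ _ _ _)
      have hfix1 : (stv B hB a2 c2 * stv B hB a1 c1) (e (k' + 1)) = e (k' + 1) := by
        rw [LinearEquiv.mul_apply,
          stv_fix B hB c1 (alt_zero B hB (Vk_orth hB hyp _ a1 ha1 (k' + 1) le_rfl).1),
          stv_fix B hB c2 (alt_zero B hB (Vk_orth hB hyp _ a2 ha2 (k' + 1) le_rfl).1)]
      have h1 : a + e (k' + 1) ∈ TV B hB M := by
        have := TV_map hg1M hg1I hconn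
        rwa [map_add, hmove1, hfix1] at this
      -- move `e (k'+1)` to `b` inside the last plane
      obtain ⟨b1, hb1, d1, b2, hb2, d2, hmove2⟩ :=
        exists_move B hB (Pk_nondeg hB hyp (show k' + 1 < n by omega))
          (e_mem_Pk e f (k' + 1)) hb (hyp.e_ne_zero (k' + 1) (by omega)) hb0
      have hg2M : stv B hB b2 d2 * stv B hB b1 d1 ∈ M := M.mul_mem (hP b2 hb2 d2) (hP b1 hb1 d1)
      have hg2I : stv B hB b2 d2 * stv B hB b1 d1 ∈ isoGroup B :=
        (isoGroup B).mul_mem (stv_mem_isoGroup _ _ _ _) (stv_mem_isoGroup _ _ _ _)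
      have hfix2 : (stv B hB b2 d2 * stv B hB b1 d1) a = a := by
        rw [LinearEquiv.mul_apply, stv_fix B hB d1 (Vk_orth_Pk hB hyp ha hb1),
          stv_fix B hB d2 (Vk_orth_Pk hB hyp ha hb2)]
      have := TV_map hg2M hg2I h1
      rwa [map_add, hmove2, hfix2] at this
  apply isoGroup_le_of_stv_mem B hB hN M
  intro v c
  exact key n le_rfl v (by rw [hspan]; exact Submodule.mem_top) c

end Gen

end Cfsg.Agent.Lib.Helper38_RU
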