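import Mathlib
import Cfsg.Agent.Lib.Helper94_Symp
import Cfsg.Agent.Lib.Helper38_SpSub1
import Cfsg.Agent.Lib.Helper38_RU1
import Cfsg.Agent.Lib.Helper38_RU2

set_option autoImplicit false
set_option linter.unusedSimpArgs false
set_option linter.unusedSectionVars false
set_option linter.unnecessarySimpa false

/-!
The regular unipotent element `ru` attached to a hyperbolic family, the Weyl element `JJ`
exchanging the `e i` and the `f i`, the opposite regular unipotent `rv`, and their action on the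
family.
-/

namespace Cfsg.Agent.Lib.Helper38_RU

open Cfsg.Agent.Lib.Helper94_Symp Cfsg.Agent.Lib.Helper38_SpSub1

variable {F V : Type*} [Field F] [AddCommGroup V] [Module F V]
variable (B : LinearMap.BilinForm F V) (hB : B.IsAlt) (e f : ℕ → V)

/-- The short root element `e (i+1) ↦ e (i+1) + e i`, `f i ↦ f i - f (i+1)`. -/
def Bm (i : ℕ) : V ≃ₗ[F] V := T B hB (e i) (-(f (i + 1)))

/-- The product `Bm (k-1) * ... * Bm 0`. -/
def Lk : ℕ → V ≃ₗ[F] V
  | 0 => 1
  | k + 1 => Bm B hB e f k * Lk k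

/-- The regular unipotent element of a hyperbolic family with `m + 2` pairs. -/
def ru (m : ℕ) : V ≃ₗ[F] V := Lk B hB e f (m + 1) * stv B hB (e (m + 1)) 1

/-- The Weyl element of the `i`-th hyperbolic pair. -/
def wey (i : ℕ) : V ≃ₗ[F] V := stv B hB (e i) (-1) * stv B hB (f i) (-1) * stv B hB (e i) (-1)

/-- The product of the first `k` Weyl elements. -/
def JJ : ℕ → V ≃ₗ[F] V
  | 0 => 1
  | k + 1 => wey B hB e f k * JJ k

/-- The opposite regular unipotent element. -/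
def rv (m : ℕ) : V ≃ₗ[F] V := JJ B hB e f (m + 2) * ru B hB e f m * (JJ B hB e f (m + 2))⁻¹

lemma Bm_mem (i : ℕ) : Bm B hB e f i ∈ isoGroup B := T_mem_isoGroup B hB _ _

lemma Lk_mem (k : ℕ) : Lk B hB e f k ∈ isoGroup B := by
  induction k with
  | zero => exact (isoGroup B).one_mem
  | succ k ih => exact (isoGroup B).mul_mem (Bm_mem B hB e f k) ih

lemma ru_mem (m : ℕ) : ru B hB e f m ∈ isoGroup B :=
  (isoGroup B).mul_mem (Lk_mem B hB e f _) (stv_mem_isoGroup _ _ _ _)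

lemma wey_mem (i : ℕ) : wey B hB e f i ∈ isoGroup B :=
  (isoGroup B).mul_mem ((isoGroup B).mul_mem (stv_mem_isoGroup _ _ _ _)
    (stv_mem_isoGroup _ _ _ _)) (stv_mem_isoGroup _ _ _ _)

lemma JJ_mem (k : ℕ) : JJ B hB e f k ∈ isoGroup B := by
  induction k with
  | zero => exact (isoGroup B).one_mem
  | succ k ih => exact (isoGroup B).mul_mem (wey_mem B hB e f k) ih

lemma rv_mem (m : ℕ) : rv B hB e f m ∈ isoGroup B :=
  (isoGroup B).mul_mem ((isoGroup B).mul_mem (JJ_mem B hB e f _) (ru_mem B hB e f m))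
    ((isoGroup B).inv_mem (JJ_mem B hB e f _))

variable {B} {e f} {n : ℕ} (hyp : Hyp B n e f)

include hB hyp

lemma Bm_orth (i : ℕ) : B (e i) (-(f (i + 1))) = 0 := by
  rw [map_neg, hyp.ef_ne hB i (i + 1) (by omega), neg_zero]

lemma Bm_orth' (i : ℕ) : B (-(e i)) (-(f (i + 1))) = 0 := by
  rw [LinearMap.map_neg₂, Bm_orth hB hyp i, neg_zero]

lemma Bm_e_eq (i : ℕ) (hi : i + 1 < n) : Bm B hB e f i (e (i + 1)) = e (i + 1) + e i := by
  rw [Bm, T_apply B hB (Bm_orth hB hyp i)]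
  simp only [map_neg, hyp.ee, hyp.ef_self hB (i + 1) hi, zero_smul, add_zero, neg_neg, one_smul]

lemma Bm_e_ne (i j : ℕ) (hj : j ≠ i + 1) : Bm B hB e f i (e j) = e j := by
  rw [Bm, T_apply B hB (Bm_orth hB hyp i)]
  simp only [map_neg, hyp.ee, hyp.ef_ne hB j (i + 1) hj, zero_smul, add_zero, neg_zero]

lemma Bm_inv_f_eq (i : ℕ) (hi : i + 1 < n) :
    (Bm B hB e f i)⁻¹ (f i) = f i + f (i + 1) := by
  rw [Bm, T_inv B hB (Bm_orth hB hyp i),
    T_apply B hB (Bm_orth' hB hyp i)]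
  simp only [map_neg, hyp.ff, hyp.fe_self i (by omega), zero_smul, add_zero, neg_zero, neg_smul,
    one_smul, smul_neg, neg_neg]

lemma Bm_inv_f_ne (i j : ℕ) (hj : j ≠ i) : (Bm B hB e f i)⁻¹ (f j) = f j := by
  rw [Bm, T_inv B hB (Bm_orth hB hyp i),
    T_apply B hB (Bm_orth' hB hyp i)]
  simp only [map_neg, hyp.ff, hyp.fe_ne j i hj, zero_smul, add_zero, neg_zero]

lemma Lk_e_zero (k : ℕ) : Lk B hB e f k (e 0) = e 0 := by
  induction k with
  | zero => rfl
  | succ k ih =>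
    rw [Lk, LinearEquiv.mul_apply, ih, Bm_e_ne hB hyp k 0 (by omega)]

lemma Lk_e_ge (k j : ℕ) (h : k ≤ j) : Lk B hB e f k (e (j + 1)) = e (j + 1) := by
  induction k with
  | zero => rfl
  | succ k ih =>
    rw [Lk, LinearEquiv.mul_apply, ih (by omega), Bm_e_ne hB hyp k (j + 1) (by omega)]

lemma Lk_e_lt (k j : ℕ) (hk : k < n) (h : j < k) :
    Lk B hB e f k (e (j + 1)) = e (j + 1) + e j := by
  induction k with
  | zero => omega
  | succ k ih =>
    rw [Lk, LinearEquiv.mul_apply]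
    rcases Nat.lt_or_ge j k with h1 | h1
    · rw [ih (by omega) h1, map_add, Bm_e_ne hB hyp k (j + 1) (by omega),
        Bm_e_ne hB hyp k j (by omega)]
    · have : j = k := by omega
      subst this
      rw [Lk_e_ge hB hyp j j le_rfl, Bm_e_eq hB hyp j hk]

lemma Lk_inv_f_ge (k j : ℕ) (h : k ≤ j) : (Lk B hB e f k)⁻¹ (f j) = f j := by
  induction k with
  | zero => simp [Lk]
  | succ k ih =>
    rw [Lk, mul_inv_rev, LinearEquiv.mul_apply, Bm_inv_f_ne hB hyp k j (by omega), ih (by omega)]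

lemma Lk_inv_f_lt (k j : ℕ) (hk : k < n) (h : j < k) :
    (Lk B hB e f k)⁻¹ (f j) = f j + f (j + 1) := by
  induction k with
  | zero => omega
  | succ k ih =>
    rw [Lk, mul_inv_rev, LinearEquiv.mul_apply]
    rcases Nat.lt_or_ge j k with h1 | h1
    · rw [Bm_inv_f_ne hB hyp k j (by omega), ih (by omega) h1]
    · have : j = k := by omega
      subst this
      rw [Bm_inv_f_eq hB hyp j hk, map_add, Lk_inv_f_ge hB hyp j j le_rfl,
        Lk_inv_f_ge hB hyp j (j + 1) (by omega)]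

/-! ### The action of `ru` -/

lemma ru_e_zero (m : ℕ) : ru B hB e f m (e 0) = e 0 := by
  rw [ru, LinearEquiv.mul_apply, stv_fix B hB 1 (hyp.ee 0 (m + 1)), Lk_e_zero hB hyp]

lemma ru_e_succ (m i : ℕ) (hn : n = m + 2) (hi : i + 1 < n) :
    ru B hB e f m (e (i + 1)) = e (i + 1) + e i := by
  rw [ru, LinearEquiv.mul_apply, stv_fix B hB 1 (hyp.ee (i + 1) (m + 1)),
    Lk_e_lt hB hyp (m + 1) i (by omega) (by omega)]

lemma ru_inv_e_zero (m : ℕ) : (ru B hB e f m)⁻¹ (e 0) = e 0 := by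
  conv_lhs => rw [← ru_e_zero hB hyp m]
  exact inv_apply_apply' _ _

lemma ru_inv_e_add (m i : ℕ) (hn : n = m + 2) (hi : i + 1 < n) :
    (ru B hB e f m)⁻¹ (e (i + 1) + e i) = e (i + 1) := by
  rw [← ru_e_succ hB hyp m i hn hi]
  exact inv_apply_apply' _ _

omit hyp in
lemma ru_inv_eq (m : ℕ) :
    (ru B hB e f m)⁻¹ = stv B hB (e (m + 1)) (-1) * (Lk B hB e f (m + 1))⁻¹ := by
  rw [ru, mul_inv_rev, stv_inv]

lemma ru_inv_f_lt (m j : ℕ) (hn : n = m + 2) (hj : j < m) :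
    (ru B hB e f m)⁻¹ (f j) = f j + f (j + 1) := by
  rw [ru_inv_eq, LinearEquiv.mul_apply, Lk_inv_f_lt hB hyp (m + 1) j (by omega) (by omega),
    map_add, stv_fix B hB _ (hyp.fe_ne j (m + 1) (by omega)),
    stv_fix B hB _ (hyp.fe_ne (j + 1) (m + 1) (by omega))]

lemma ru_inv_f_m (m : ℕ) (hn : n = m + 2) :
    (ru B hB e f m)⁻¹ (f m) = f m + f (m + 1) - e (m + 1) := by
  rw [ru_inv_eq, LinearEquiv.mul_apply, Lk_inv_f_lt hB hyp (m + 1) m (by omega) (by omega),
    map_add, stv_fix B hB _ (hyp.fe_ne m (m + 1) (by omega)), stv_apply,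
    hyp.fe_self (m + 1) (by omega)]
  module

lemma ru_inv_f_last (m : ℕ) (hn : n = m + 2) :
    (ru B hB e f m)⁻¹ (f (m + 1)) = f (m + 1) - e (m + 1) := by
  rw [ru_inv_eq, LinearEquiv.mul_apply, Lk_inv_f_ge hB hyp (m + 1) (m + 1) le_rfl, stv_apply,
    hyp.fe_self (m + 1) (by omega)]
  module

/-! ### The Weyl elements -/

lemma wey_e_self (i : ℕ) (hi : i < n) : wey B hB e f i (e i) = f i := by
  simp only [wey, LinearEquiv.mul_apply, stv_apply, map_add, map_smul, LinearMap.add_apply,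
    LinearMap.smul_apply, smul_eq_mul, hyp.ee, hyp.ff, hyp.fe_self i hi, hyp.ef_self hB i hi,
    mul_zero, zero_smul, add_zero]
  module

lemma wey_f_self (i : ℕ) (hi : i < n) : wey B hB e f i (f i) = -e i := by
  simp only [wey, LinearEquiv.mul_apply, stv_apply, map_add, map_smul, LinearMap.add_apply,
    LinearMap.smul_apply, smul_eq_mul, hyp.ee, hyp.ff, hyp.fe_self i hi, hyp.ef_self hB i hi,
    mul_zero, zero_smul, add_zero]
  module

lemma wey_e_ne (i j : ℕ) (h : j ≠ i) : wey B hB e f i (e j) = e j := by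
  rw [wey, LinearEquiv.mul_apply, LinearEquiv.mul_apply, stv_fix B hB _ (hyp.ee j i),
    stv_fix B hB _ (hyp.ef_ne hB j i h), stv_fix B hB _ (hyp.ee j i)]

lemma wey_f_ne (i j : ℕ) (h : j ≠ i) : wey B hB e f i (f j) = f j := by
  rw [wey, LinearEquiv.mul_apply, LinearEquiv.mul_apply, stv_fix B hB _ (hyp.fe_ne j i h),
    stv_fix B hB _ (hyp.ff j i), stv_fix B hB _ (hyp.fe_ne j i h)]

lemma JJ_e_ge (k j : ℕ) (h : k ≤ j) : JJ B hB e f k (e j) = e j := by
  induction k with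
  | zero => rfl
  | succ k ih => rw [JJ, LinearEquiv.mul_apply, ih (by omega), wey_e_ne hB hyp k j (by omega)]

lemma JJ_f_ge (k j : ℕ) (h : k ≤ j) : JJ B hB e f k (f j) = f j := by
  induction k with
  | zero => rfl
  | succ k ih => rw [JJ, LinearEquiv.mul_apply, ih (by omega), wey_f_ne hB hyp k j (by omega)]

lemma JJ_e_lt (k j : ℕ) (hk : k ≤ n) (h : j < k) : JJ B hB e f k (e j) = f j := by
  induction k with
  | zero => omega
  | succ k ih =>
    rw [JJ, LinearEquiv.mul_apply]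
    rcases Nat.lt_or_ge j k with h1 | h1
    · rw [ih (by omega) h1, wey_f_ne hB hyp k j (by omega)]
    · have : j = k := by omega
      subst this
      rw [JJ_e_ge hB hyp j j le_rfl, wey_e_self hB hyp j (by omega)]

lemma JJ_f_lt (k j : ℕ) (hk : k ≤ n) (h : j < k) : JJ B hB e f k (f j) = -e j := by
  induction k with
  | zero => omega
  | succ k ih =>
    rw [JJ, LinearEquiv.mul_apply]
    rcases Nat.lt_or_ge j k with h1 | h1
    · rw [ih (by omega) h1, map_neg, wey_e_ne hB hyp k j (by omega)]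
    · have : j = k := by omega
      subst this
      rw [JJ_f_ge hB hyp j j le_rfl, wey_f_self hB hyp j (by omega)]

/-! ### The action of `rv` -/

omit hyp in
lemma rv_JJ (m : ℕ) (x : V) :
    rv B hB e f m (JJ B hB e f (m + 2) x) = JJ B hB e f (m + 2) (ru B hB e f m x) := by
  rw [rv, LinearEquiv.mul_apply, LinearEquiv.mul_apply, inv_apply_apply']

omit hyp in
lemma rv_inv_JJ (m : ℕ) (x : V) :
    (rv B hB e f m)⁻¹ (JJ B hB e f (m + 2) x) = JJ B hB e f (m + 2) ((ru B hB e f m)⁻¹ x) := by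
  have : (rv B hB e f m)⁻¹ =
      JJ B hB e f (m + 2) * (ru B hB e f m)⁻¹ * (JJ B hB e f (m + 2))⁻¹ := by
    rw [rv]; group
  rw [this, LinearEquiv.mul_apply, LinearEquiv.mul_apply, inv_apply_apply']

lemma rv_f_zero (m : ℕ) (hn : n = m + 2) : rv B hB e f m (f 0) = f 0 := by
  have h0 : JJ B hB e f (m + 2) (e 0) = f 0 := JJ_e_lt hB hyp (m + 2) 0 (by omega) (by omega)
  rw [← h0, rv_JJ, ru_e_zero hB hyp]

lemma rv_f_succ (m i : ℕ) (hn : n = m + 2) (hi : i + 1 < n) :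
    rv B hB e f m (f (i + 1)) = f (i + 1) + f i := by
  have h1 : JJ B hB e f (m + 2) (e (i + 1)) = f (i + 1) :=
    JJ_e_lt hB hyp (m + 2) (i + 1) (by omega) (by omega)
  have h0 : JJ B hB e f (m + 2) (e i) = f i := JJ_e_lt hB hyp (m + 2) i (by omega) (by omega)
  rw [← h1, rv_JJ, ru_e_succ hB hyp m i hn hi, map_add, h0]

lemma rv_inv_f_add (m i : ℕ) (hn : n = m + 2) (hi : i + 1 < n) :
    (rv B hB e f m)⁻¹ (f (i + 1) + f i) = f (i + 1) := by
  rw [← rv_f_succ hB hyp m i hn hi]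
  exact inv_apply_apply' _ _

lemma rv_inv_f_zero (m : ℕ) (hn : n = m + 2) : (rv B hB e f m)⁻¹ (f 0) = f 0 := by
  conv_lhs => rw [← rv_f_zero hB hyp m hn]
  exact inv_apply_apply' _ _

lemma JJ_neg_f (m j : ℕ) (hn : n = m + 2) (hj : j < n) :
    JJ B hB e f (m + 2) (-(f j)) = e j := by
  rw [map_neg, JJ_f_lt hB hyp (m + 2) j (by omega) (by omega), neg_neg]

lemma rv_inv_e_lt (m j : ℕ) (hn : n = m + 2) (hj : j < m) :
    (rv B hB e f m)⁻¹ (e j) = e j + e (j + 1) := by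
  conv_lhs => rw [← JJ_neg_f hB hyp m j hn (by omega)]
  rw [rv_inv_JJ, map_neg, ru_inv_f_lt hB hyp m j hn hj, neg_add, map_add,
    JJ_neg_f hB hyp m j hn (by omega), JJ_neg_f hB hyp m (j + 1) hn (by omega)]

lemma rv_inv_e_m (m : ℕ) (hn : n = m + 2) :
    (rv B hB e f m)⁻¹ (e m) = e m + e (m + 1) + f (m + 1) := by
  conv_lhs => rw [← JJ_neg_f hB hyp m m hn (by omega)]
  rw [rv_inv_JJ, map_neg, ru_inv_f_m hB hyp m hn]
  have : -(f m + f (m + 1) - e (m + 1)) = -(f m) + -(f (m + 1)) + e (m + 1) := by abel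
  rw [this, map_add, map_add, JJ_neg_f hB hyp m m hn (by omega),
    JJ_neg_f hB hyp m (m + 1) hn (by omega), JJ_e_lt hB hyp (m + 2) (m + 1) (by omega) (by omega)]

lemma rv_inv_e_last (m : ℕ) (hn : n = m + 2) :
    (rv B hB e f m)⁻¹ (e (m + 1)) = e (m + 1) + f (m + 1) := by
  conv_lhs => rw [← JJ_neg_f hB hyp m (m + 1) hn (by omega)]
  rw [rv_inv_JJ, map_neg, ru_inv_f_last hB hyp m hn]
  have : -(f (m + 1) - e (m + 1)) = -(f (m + 1)) + e (m + 1) := by abel
  rw [this, map_add, JJ_neg_f hB hyp m (m + 1) hn (by omega),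
    JJ_e_lt hB hyp (m + 2) (m + 1) (by omega) (by omega)]

end Cfsg.Agent.Lib.Helper38_RU
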