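import Mathlib
import Cfsg.Agent.Lib.Helper94_Symp
import Cfsg.Agent.Lib.Helper38_SpSub1
import Cfsg.Agent.Lib.Helper38_RU1
import Cfsg.Agent.Lib.Helper38_RU2
import Cfsg.Agent.Lib.Helper38_RU3

set_option autoImplicit false
set_option linter.unusedSimpArgs false
set_option linter.unusedSectionVars false
set_option linter.unnecessarySimpa false

/-!
The element `ru` is a regular unipotent element: `ru - 1` is nilpotent and its `(2n-1)`-th power
is nonzero.
-/

namespace Cfsg.Agent.Lib.Helper38_RU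

open Cfsg.Agent.Lib.Helper94_Symp Cfsg.Agent.Lib.Helper38_SpSub1

variable {F V : Type*} [Field F] [AddCommGroup V] [Module F V]

section Ring

variable {R : Type*} [Ring R]

/-- If `a * b = 1 = b * a` then `(a - 1) ^ k = (-a) ^ k * (b - 1) ^ k`. -/
lemma sub_one_pow_of_inv {a b : R} (hab : a * b = 1) (hba : b * a = 1) (k : ℕ) :
    (a - 1) ^ k = (-a) ^ k * (b - 1) ^ k := by
  have h1 : a - 1 = (-a) * (b - 1) := by
    rw [mul_sub, neg_mul, hab, mul_one]; abel
  have hc : Commute (-a) (b - 1) := by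
    apply Commute.neg_left
    apply Commute.sub_right _ (Commute.one_right a)
    show a * b = b * a
    rw [hab, hba]
  rw [h1, hc.mul_pow]

lemma sub_one_pow_eq_zero_iff {a b : R} (hab : a * b = 1) (hba : b * a = 1) (k : ℕ) :
    (a - 1) ^ k = 0 ↔ (b - 1) ^ k = 0 := by
  rw [sub_one_pow_of_inv hab hba k]
  constructor
  · intro h
    have h2 : (-b) ^ k * ((-a) ^ k * (b - 1) ^ k) = (b - 1) ^ k := by
      rw [← mul_assoc, ← (show Commute (-b) (-a) from by
        show -b * -a = -a * -b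
        rw [neg_mul_neg, neg_mul_neg, hab, hba]).mul_pow, neg_mul_neg, hba, one_pow, one_mul]
    rw [← h2, h, mul_zero]
  · intro h
    rw [h, mul_zero]

end Ring

section Unip

variable {U : Module.End F V}

/-- Once a power kills a vector, so do the higher ones. -/
lemma pow_apply_eq_zero_of_le {N : Module.End F V} {x : V} {a b : ℕ} (h : (N ^ a) x = 0)
    (hab : a ≤ b) : (N ^ b) x = 0 := by
  obtain ⟨c, rfl⟩ := Nat.exists_eq_add_of_le hab
  rw [add_comm, pow_add, Module.End.mul_apply, h, map_zero]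

end Unip

variable (B : LinearMap.BilinForm F V) (hB : B.IsAlt) (e f : ℕ → V)

/-- The endomorphism underlying a linear automorphism. -/
abbrev toE (g : V ≃ₗ[F] V) : Module.End F V := (g : V →ₗ[F] V)

lemma toE_mul (g h : V ≃ₗ[F] V) : toE (g * h) = toE g * toE h := rfl

lemma toE_one : toE (1 : V ≃ₗ[F] V) = 1 := rfl

lemma toE_apply (g : V ≃ₗ[F] V) (x : V) : toE g x = g x := rfl

variable {B} {e f} {n : ℕ} (hyp : Hyp B n e f)

include hB hyp

section

variable (m : ℕ) (hn : n = m + 2)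

include hn

lemma NN_e_zero : (toE (ru B hB e f m)⁻¹ - 1) (e 0) = 0 := by
  rw [LinearMap.sub_apply, toE_apply, ru_inv_e_zero hB hyp m, Module.End.one_apply, sub_self]

lemma NN_e_succ (j : ℕ) (hj : j + 1 < n) :
    (toE (ru B hB e f m)⁻¹ - 1) (e (j + 1)) = -(toE (ru B hB e f m)⁻¹ (e j)) := by
  have h := ru_inv_e_add hB hyp m j hn hj
  rw [map_add] at h
  rw [LinearMap.sub_apply, toE_apply, toE_apply, Module.End.one_apply]
  rw [eq_sub_of_add_eq h]; abel

lemma NN_comm (a : ℕ) : Commute (toE (ru B hB e f m)⁻¹ - 1) ((toE (ru B hB e f m)⁻¹) ^ a) :=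
  Commute.pow_right (Commute.sub_left (Commute.refl _) (Commute.one_left _)) a

lemma UU_e_zero (a : ℕ) : ((toE (ru B hB e f m)⁻¹) ^ a) (e 0) = e 0 := by
  induction a with
  | zero => simp
  | succ a ih => rw [pow_succ, Module.End.mul_apply, toE_apply, ru_inv_e_zero hB hyp m, ih]

lemma NN_pow_e (k : ℕ) : ∀ a i : ℕ, i + k < n →
    ((toE (ru B hB e f m)⁻¹ - 1) ^ k) (((toE (ru B hB e f m)⁻¹) ^ a) (e (i + k))) =
      (-1 : F) ^ k • ((toE (ru B hB e f m)⁻¹) ^ (a + k)) (e i) := by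
  induction k with
  | zero => intro a i _; simp
  | succ k ih =>
    intro a i hi
    rw [pow_succ, Module.End.mul_apply, ← Module.End.mul_apply (toE (ru B hB e f m)⁻¹ - 1),
      (NN_comm hB hyp m hn a).eq, Module.End.mul_apply, ← add_assoc,
      NN_e_succ hB hyp m hn (i + k) (by omega), map_neg, map_neg,
      ← Module.End.mul_apply (toE (ru B hB e f m)⁻¹ ^ a), ← pow_succ, ih (a + 1) i (by omega)]
    rw [pow_succ, mul_neg_one, neg_smul, show a + 1 + k = a + (k + 1) by omega]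

lemma NN_pow_e_self (j : ℕ) (hj : j < n) :
    ((toE (ru B hB e f m)⁻¹ - 1) ^ (j + 1)) (e j) = 0 := by
  have h := NN_pow_e hB hyp m hn j 0 0 (by omega)
  rw [pow_zero, Module.End.one_apply, zero_add, UU_e_zero hB hyp m hn] at h
  rw [pow_succ', Module.End.mul_apply, h, map_smul, NN_e_zero hB hyp m hn, smul_zero]

lemma NN_pow_f_zero (j : ℕ) (hj : j ≤ m) :
    ((toE (ru B hB e f m)⁻¹ - 1) ^ j) (f 0) = f j := by
  induction j with
  | zero => simp
  | succ j ih =>
    rw [pow_succ', Module.End.mul_apply, ih (by omega), LinearMap.sub_apply, toE_apply,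
      ru_inv_f_lt hB hyp m j hn (by omega), Module.End.one_apply]
    abel

lemma NN_pow_f_zero_m1 :
    ((toE (ru B hB e f m)⁻¹ - 1) ^ (m + 1)) (f 0) = f (m + 1) - e (m + 1) := by
  rw [pow_succ', Module.End.mul_apply, NN_pow_f_zero hB hyp m hn m le_rfl, LinearMap.sub_apply,
    toE_apply, ru_inv_f_m hB hyp m hn, Module.End.one_apply]
  abel

lemma NN_pow_f_zero_m2 :
    ((toE (ru B hB e f m)⁻¹ - 1) ^ (m + 2)) (f 0) = -(toE (ru B hB e f m)⁻¹ (e (m + 1))) := by
  rw [pow_succ', Module.End.mul_apply, NN_pow_f_zero_m1 hB hyp m hn, map_sub,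
    LinearMap.sub_apply, toE_apply, ru_inv_f_last hB hyp m hn, Module.End.one_apply,
    LinearMap.sub_apply, Module.End.one_apply]
  abel

lemma NN_pow_f_zero_top :
    ((toE (ru B hB e f m)⁻¹ - 1) ^ (2 * m + 3)) (f 0) = (-1 : F) ^ m • e 0 := by
  have e1 : 2 * m + 3 = (m + 1) + (m + 2) := by omega
  rw [e1, pow_add, Module.End.mul_apply, NN_pow_f_zero_m2 hB hyp m hn, map_neg]
  have h := NN_pow_e hB hyp m hn (m + 1) 1 0 (by omega)
  rw [pow_one, zero_add] at h
  rw [h, UU_e_zero hB hyp m hn, pow_succ, mul_neg_one, neg_smul, neg_neg]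

lemma NN_pow_f_zero_kill :
    ((toE (ru B hB e f m)⁻¹ - 1) ^ (2 * m + 4)) (f 0) = 0 := by
  rw [show 2 * m + 4 = (2 * m + 3) + 1 from rfl, pow_succ', Module.End.mul_apply,
    NN_pow_f_zero_top hB hyp m hn, map_smul, NN_e_zero hB hyp m hn, smul_zero]

lemma NN_kill_e (j : ℕ) (hj : j < n) :
    ((toE (ru B hB e f m)⁻¹ - 1) ^ (2 * m + 4)) (e j) = 0 :=
  pow_apply_eq_zero_of_le (NN_pow_e_self hB hyp m hn j hj) (by omega)

lemma NN_kill_f (j : ℕ) (hj : j < n) :
    ((toE (ru B hB e f m)⁻¹ - 1) ^ (2 * m + 4)) (f j) = 0 := by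
  have hc : ∀ k : ℕ, ((toE (ru B hB e f m)⁻¹ - 1) ^ (2 * m + 4))
      (((toE (ru B hB e f m)⁻¹ - 1) ^ k) (f 0)) = 0 := by
    intro k
    rw [← Module.End.mul_apply, ← pow_add, add_comm, pow_add, Module.End.mul_apply,
      NN_pow_f_zero_kill hB hyp m hn, map_zero]
  rcases Nat.lt_or_ge j (m + 1) with h | h
  · rw [← NN_pow_f_zero hB hyp m hn j (by omega)]
    exact hc j
  · have hj' : j = m + 1 := by omega
    subst hj'
    have h2 : f (m + 1) = ((toE (ru B hB e f m)⁻¹ - 1) ^ (m + 1)) (f 0) + e (m + 1) := by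
      rw [NN_pow_f_zero_m1 hB hyp m hn]; abel
    rw [h2, map_add, hc, NN_kill_e hB hyp m hn (m + 1) (by omega), add_zero]

lemma NN_kill_Vk (k : ℕ) (hk : k ≤ n) : ∀ x ∈ Vk F e f k,
    ((toE (ru B hB e f m)⁻¹ - 1) ^ (2 * m + 4)) x = 0 := by
  induction k with
  | zero =>
    intro x hx
    have : x = 0 := by simpa [Vk] using hx
    rw [this, map_zero]
  | succ k ih =>
    intro x hx
    rw [Vk_succ, Submodule.mem_sup] at hx
    obtain ⟨a, ha, b, hb, rfl⟩ := hx
    obtain ⟨α, β, rfl⟩ := Submodule.mem_span_pair.mp hb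
    rw [map_add, map_add, map_smul, map_smul, ih (by omega) a ha,
      NN_kill_e hB hyp m hn k (by omega), NN_kill_f hB hyp m hn k (by omega)]
    simp

/-- `ru` is a regular unipotent element. -/
theorem ru_regular (hspan : Vk F e f n = ⊤) :
    IsNilpotent (toE (ru B hB e f m) - 1) ∧ (toE (ru B hB e f m) - 1) ^ (2 * n - 1) ≠ 0 := by
  have hab : toE (ru B hB e f m) * toE (ru B hB e f m)⁻¹ = 1 := by
    rw [← toE_mul, mul_inv_cancel, toE_one]
  have hba : toE (ru B hB e f m)⁻¹ * toE (ru B hB e f m) = 1 := by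
    rw [← toE_mul, inv_mul_cancel, toE_one]
  constructor
  · refine ⟨2 * m + 4, ?_⟩
    rw [sub_one_pow_eq_zero_iff hab hba]
    ext x
    rw [NN_kill_Vk hB hyp m hn n le_rfl x (by rw [hspan]; exact Submodule.mem_top)]
    rfl
  · rw [Ne, sub_one_pow_eq_zero_iff hab hba]
    intro h
    have h1 := NN_pow_f_zero_top hB hyp m hn
    rw [show 2 * n - 1 = 2 * m + 3 by omega] at h
    rw [h, LinearMap.zero_apply] at h1
    have h2 : e 0 = 0 := by
      rcases smul_eq_zero.mp h1.symm with h3 | h3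
      · exact absurd h3 (pow_ne_zero _ (by simp))
      · exact h3
    exact hyp.e_ne_zero 0 (by omega) h2

end

end Cfsg.Agent.Lib.Helper38_RU
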