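import Mathlib
import Cfsg.Agent.Lib.Helper94_Symp
import Cfsg.Agent.Lib.Helper38_SpSub1
import Cfsg.Agent.Lib.Helper38_RU1

set_option autoImplicit false
set_option linter.unusedSimpArgs false
set_option linter.unusedSectionVars false
set_option linter.unnecessarySimpa false

/-!
Commutator computations inside the abelian group of the elements
`x ↦ x + Σ s_ij B(x, p_i) p_j` attached to pairwise orthogonal vectors, and the extraction of
long root elements from a conjugate of a regular unipotent element.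
-/

namespace Cfsg.Agent.Lib.Helper38_RU

open Cfsg.Agent.Lib.Helper94_Symp Cfsg.Agent.Lib.Helper38_SpSub1

variable {F V : Type*} [Field F] [AddCommGroup V] [Module F V]
variable {B : LinearMap.BilinForm F V} (hB : B.IsAlt)

lemma conj_mul2 {G : Type*} [Group G] (u a b : G) :
    u * (a * b) * u⁻¹ = (u * a * u⁻¹) * (u * b * u⁻¹) := by group

lemma conj_mul3 {G : Type*} [Group G] (u a b c : G) :
    u * (a * b * c) * u⁻¹ = (u * a * u⁻¹) * (u * b * u⁻¹) * (u * c * u⁻¹) := by group

lemma comm_eq_mul_inv {G : Type*} [Group G] (g u : G) :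
    g * u * g⁻¹ * u⁻¹ = g * (u * g * u⁻¹)⁻¹ := by group

lemma comm_eq_mul_inv' {G : Type*} [Group G] (u z : G) :
    u * z * u⁻¹ * z⁻¹ = (u * z * u⁻¹) * z⁻¹ := rfl

include hB in
lemma orth_smul_left {p q : V} (h : B p q = 0) (c : F) : B (c • p) q = 0 := by
  rw [map_smul, LinearMap.smul_apply, h, smul_zero]

include hB in
lemma orth_add_right {p q r : V} (h : B p q = 0) (h' : B p r = 0) : B p (q + r) = 0 := by
  rw [map_add, h, h', add_zero]

/-- A short root element as a product of three transvections. -/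
lemma T_eq_stv3 {p q : V} (hpq : B p q = 0) (b : F) :
    T B hB (b • p) q = stv B hB (q + p) b * stv B hB p (-b) * stv B hB q (-b) := by
  have hqp := alt_zero B hB hpq
  ext x
  simp only [LinearEquiv.mul_apply, T_apply B hB (orth_smul_left hB hpq b), stv_apply, map_add,
    map_smul, LinearMap.add_apply, LinearMap.smul_apply, smul_eq_mul, hB p, hB q, hpq, hqp,
    mul_zero, add_zero, zero_add]
  module

section Odd

variable {p q : V} (hpq : B p q = 0)

include hpq

lemma odd_D1_aux (b y : F) :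
    stv B hB q (-b) * T B hB ((-y) • p) q =
      stv B hB p (b + 2 * y) * T B hB (b • p) q *
        (stv B hB (q + p) (-b) * T B hB ((-y) • p) (q + p)) := by
  have hqp := alt_zero B hB hpq
  have o1 : B ((-y) • p) q = 0 := orth_smul_left hB hpq _
  have o2 : B (b • p) q = 0 := orth_smul_left hB hpq _
  have o3 : B ((-y) • p) (q + p) = 0 := by
    rw [map_add, o1, map_smul, LinearMap.smul_apply, hB p, smul_zero, add_zero]
  ext x
  simp only [LinearEquiv.mul_apply, T_apply B hB o1, T_apply B hB o2, T_apply B hB o3, stv_apply,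
    map_add, map_smul, map_neg, LinearMap.add_apply, LinearMap.smul_apply, LinearMap.neg_apply,
    smul_eq_mul, hB p, hB q, hpq, hqp, mul_zero, add_zero, zero_add, neg_zero]
  module

lemma odd_D2_aux (b y : F) :
    stv B hB p (b + 2 * y) * T B hB (b • p) (q + p) =
      stv B hB p (2 * b) * (stv B hB p (b + 2 * y) * T B hB (b • p) q) := by
  have hqp := alt_zero B hB hpq
  have o2 : B (b • p) q = 0 := orth_smul_left hB hpq _
  have o3 : B (b • p) (q + p) = 0 := by
    rw [map_add, o2, map_smul, LinearMap.smul_apply, hB p, smul_zero, add_zero]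
  ext x
  simp only [LinearEquiv.mul_apply, T_apply B hB o2, T_apply B hB o3, stv_apply,
    map_add, map_smul, map_neg, LinearMap.add_apply, LinearMap.smul_apply, LinearMap.neg_apply,
    smul_eq_mul, hB p, hB q, hpq, hqp, mul_zero, add_zero, zero_add, neg_zero]
  module

variable {u g : V ≃ₗ[F] V} (hu : u ∈ isoGroup B) (hup : u p = p) (huq : u q = q + p)

include hu hup huq

lemma odd_D1 (b y : F) (hg : g = stv B hB q (-b) * T B hB ((-y) • p) q) :
    g * u * g⁻¹ * u⁻¹ = stv B hB p (b + 2 * y) * T B hB (b • p) q := by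
  have h1 : u * g * u⁻¹ = stv B hB (q + p) (-b) * T B hB ((-y) • p) (q + p) := by
    rw [hg, conj_mul2, conj_stv B hB hu, conj_T B hB hu, map_smul, hup, huq]
  rw [comm_eq_mul_inv, h1, mul_inv_eq_iff_eq_mul, hg]
  exact odd_D1_aux hB hpq b y

lemma odd_D2 (b y : F) :
    u * (stv B hB p (b + 2 * y) * T B hB (b • p) q) * u⁻¹ *
      (stv B hB p (b + 2 * y) * T B hB (b • p) q)⁻¹ = stv B hB p (2 * b) := by
  rw [conj_mul2, conj_stv B hB hu, conj_T B hB hu, map_smul, hup, huq, mul_inv_eq_iff_eq_mul]
  exact odd_D2_aux hB hpq b y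

/-- Odd characteristic: from a suitable conjugate of `u`, two long root elements. -/
theorem odd_core [Fintype F] (h2 : (2 : F) ≠ 0) {H : Subgroup (V ≃ₗ[F] V)} (huH : u ∈ H)
    (hw : g * u * g⁻¹ ∈ H) (b y : F) (hg : g = stv B hB q (-b) * T B hB ((-y) • p) q)
    (hAq : AS B hB H q = AS B hB H p) (hApq : AS B hB H (q + p) = AS B hB H p) :
    b ∈ AS B hB H p ∧ (b + 2 * y) ∈ AS B hB H p := by
  have hz : stv B hB p (b + 2 * y) * T B hB (b • p) q ∈ H := by
    rw [← odd_D1 hB hpq hu hup huq b y hg]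
    exact H.mul_mem hw (H.inv_mem huH)
  have h2b : 2 * b ∈ AS B hB H p := by
    rw [mem_AS, ← odd_D2 hB hpq hu hup huq b y]
    exact H.mul_mem (H.mul_mem (H.mul_mem huH hz) (H.inv_mem huH)) (H.inv_mem hz)
  have hb : b ∈ AS B hB H p := AS_half h2 h2b
  refine ⟨hb, ?_⟩
  have hT : T B hB (b • p) q ∈ H := by
    rw [T_eq_stv3 hB hpq]
    refine H.mul_mem (H.mul_mem ?_ ?_) ?_
    · rw [← mem_AS, hApq]; exact hb
    · rw [← mem_AS]; exact (AS B hB H p).neg_mem hb
    · rw [← mem_AS, hAq]; exact (AS B hB H p).neg_mem hb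
  have := H.mul_mem hz (H.inv_mem hT)
  rwa [mul_inv_cancel_right] at this

end Odd

end Cfsg.Agent.Lib.Helper38_RU
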