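import Mathlib
import Cfsg.Agent.Lib.Helper94_Symp
import Cfsg.Agent.Lib.Helper38_SpSub1
import Cfsg.Agent.Lib.Helper38_RU1
import Cfsg.Agent.Lib.Helper38_RU2
import Cfsg.Agent.Lib.Helper38_RU3

set_option autoImplicit false
set_option linter.unusedSimpArgs false
set_option linter.unusedSectionVars false
set_option linter.unnecessarySimpa false

/-!
Orbits of the vectors of the hyperbolic family under the group generated by `ru` and `rv`, and
the passage from one full root subgroup to all the transvections needed for generation.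
-/

namespace Cfsg.Agent.Lib.Helper38_RU

open Cfsg.Agent.Lib.Helper94_Symp Cfsg.Agent.Lib.Helper38_SpSub1

variable {F V : Type*} [Field F] [AddCommGroup V] [Module F V]
variable {B : LinearMap.BilinForm F V} (hB : B.IsAlt) {e f : ℕ → V}
variable {n : ℕ} (hyp : Hyp B n e f) (m : ℕ) (hn : n = m + 2)

include hyp hn

/-- The Coxeter-like element `c = ru⁻¹ * rv⁻¹` shifts the `e j`. -/
lemma cc_e_lt (j : ℕ) (hj : j < m) :
    ((ru B hB e f m)⁻¹ * (rv B hB e f m)⁻¹) (e j) = e (j + 1) := by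
  rw [LinearEquiv.mul_apply, rv_inv_e_lt hB hyp m j hn hj, add_comm,
    ru_inv_e_add hB hyp m j hn (by omega)]

lemma cc_e_m : ((ru B hB e f m)⁻¹ * (rv B hB e f m)⁻¹) (e m) = f (m + 1) := by
  rw [LinearEquiv.mul_apply, rv_inv_e_m hB hyp m hn, map_add, add_comm (e m),
    ru_inv_e_add hB hyp m m hn (by omega), ru_inv_f_last hB hyp m hn]
  abel

/-- The element `c' = rv⁻¹ * ru⁻¹` shifts the `f j`. -/
lemma cc'_f_lt (j : ℕ) (hj : j < m) :
    ((rv B hB e f m)⁻¹ * (ru B hB e f m)⁻¹) (f j) = f (j + 1) := by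
  rw [LinearEquiv.mul_apply, ru_inv_f_lt hB hyp m j hn hj, add_comm,
    rv_inv_f_add hB hyp m j hn (by omega)]

lemma cc'_f_m : ((rv B hB e f m)⁻¹ * (ru B hB e f m)⁻¹) (f m) = -(e (m + 1)) := by
  rw [LinearEquiv.mul_apply, ru_inv_f_m hB hyp m hn, map_sub, add_comm (f m),
    rv_inv_f_add hB hyp m m hn (by omega), rv_inv_e_last hB hyp m hn]
  abel

variable {H : Subgroup (V ≃ₗ[F] V)} (hu : ru B hB e f m ∈ H) (hv : rv B hB e f m ∈ H)

include hu hv

lemma cc_mem : (ru B hB e f m)⁻¹ * (rv B hB e f m)⁻¹ ∈ H :=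
  H.mul_mem (H.inv_mem hu) (H.inv_mem hv)

lemma cc_mem_iso : (ru B hB e f m)⁻¹ * (rv B hB e f m)⁻¹ ∈ isoGroup B :=
  (isoGroup B).mul_mem ((isoGroup B).inv_mem (ru_mem B hB e f m))
    ((isoGroup B).inv_mem (rv_mem B hB e f m))

lemma cc'_mem : (rv B hB e f m)⁻¹ * (ru B hB e f m)⁻¹ ∈ H :=
  H.mul_mem (H.inv_mem hv) (H.inv_mem hu)

lemma cc'_mem_iso : (rv B hB e f m)⁻¹ * (ru B hB e f m)⁻¹ ∈ isoGroup B :=
  (isoGroup B).mul_mem ((isoGroup B).inv_mem (rv_mem B hB e f m))
    ((isoGroup B).inv_mem (ru_mem B hB e f m))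

lemma AS_e_chain (j : ℕ) (hj : j ≤ m) : AS B hB H (e j) = AS B hB H (e 0) := by
  induction j with
  | zero => rfl
  | succ j ih =>
    rw [← ih (by omega)]
    exact AS_map' (cc_mem hB hyp m hn hu hv) (cc_mem_iso hB hyp m hn hu hv)
      (cc_e_lt hB hyp m hn j (by omega))

lemma AS_f_last : AS B hB H (f (m + 1)) = AS B hB H (e 0) := by
  rw [← AS_e_chain hB hyp m hn hu hv m le_rfl]
  exact AS_map' (cc_mem hB hyp m hn hu hv) (cc_mem_iso hB hyp m hn hu hv) (cc_e_m hB hyp m hn)

lemma AS_partner : AS B hB H (f (m + 1) + f m) = AS B hB H (e 0) := by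
  rw [← AS_f_last hB hyp m hn hu hv]
  exact AS_map' hv (rv_mem B hB e f m) (rv_f_succ hB hyp m m hn (by omega))

lemma AS_e_add (i : ℕ) (hi : i + 1 < n) :
    AS B hB H (e (i + 1) + e i) = AS B hB H (e (i + 1)) :=
  AS_map' hu (ru_mem B hB e f m) (ru_e_succ hB hyp m i hn hi)

/-- From the full root subgroup at `e 0` to all the transvections needed for generation. -/
theorem all_TV (h0 : e 0 ∈ TV B hB H) :
    (∀ i, i < n → e i ∈ TV B hB H) ∧ (∀ i, i < n → f i ∈ TV B hB H) ∧
      (∀ i, i + 1 < n → e i + e (i + 1) ∈ TV B hB H) := by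
  have he_le : ∀ j, j ≤ m → e j ∈ TV B hB H := by
    intro j hj
    rw [TV_iff_AS, AS_e_chain hB hyp m hn hu hv j hj]
    exact h0
  have hf_last : f (m + 1) ∈ TV B hB H := by
    rw [TV_iff_AS, AS_f_last hB hyp m hn hu hv]
    exact h0
  have h1 : f (m + 1) - e (m + 1) ∈ TV B hB H := by
    have := TV_map (H.inv_mem hu) ((isoGroup B).inv_mem (ru_mem B hB e f m)) hf_last
    rwa [ru_inv_f_last hB hyp m hn] at this
  have he_last : e (m + 1) ∈ TV B hB H := by
    have hne : B (f (m + 1)) (f (m + 1) - e (m + 1)) ≠ 0 := by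
      rw [map_sub, hyp.ff, hyp.fe_self (m + 1) (by omega)]
      simp
    have := TV_add_smul h1 hf_last hne (-1)
    have e1 : f (m + 1) + (-1 : F) • (f (m + 1) - e (m + 1)) = e (m + 1) := by
      rw [neg_one_smul]; abel
    rwa [e1] at this
  have he : ∀ i, i < n → e i ∈ TV B hB H := by
    intro i hi
    rcases Nat.lt_or_ge i (m + 1) with h | h
    · exact he_le i (by omega)
    · have : i = m + 1 := by omega
      rw [this]; exact he_last
  have hback : ∀ (j : ℕ) (y : V), ((rv B hB e f m)⁻¹ * (ru B hB e f m)⁻¹) (f j) = y →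
      y ∈ TV B hB H → f j ∈ TV B hB H := by
    intro j y hy hyT
    have := TV_map (H.inv_mem (cc'_mem hB hyp m hn hu hv))
      ((isoGroup B).inv_mem (cc'_mem_iso hB hyp m hn hu hv)) hyT
    rwa [← hy, inv_apply_apply'] at this
  have hf_m : f m ∈ TV B hB H := by
    apply hback m _ (cc'_f_m hB hyp m hn)
    have := TV_smul (-1 : F) he_last
    rwa [neg_one_smul] at this
  have hf_le : ∀ d, d ≤ m → f (m - d) ∈ TV B hB H := by
    intro d
    induction d with
    | zero => intro _; exact hf_m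
    | succ d ih =>
      intro hd
      apply hback (m - (d + 1)) _ (cc'_f_lt hB hyp m hn (m - (d + 1)) (by omega))
      rw [show m - (d + 1) + 1 = m - d by omega]
      exact ih (by omega)
  have hf : ∀ i, i < n → f i ∈ TV B hB H := by
    intro i hi
    rcases Nat.lt_or_ge i (m + 1) with h | h
    · have := hf_le (m - i) (by omega)
      rwa [show m - (m - i) = i by omega] at this
    · have : i = m + 1 := by omega
      rw [this]; exact hf_last
  refine ⟨he, hf, ?_⟩
  intro i hi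
  have := TV_map hu (ru_mem B hB e f m) (he (i + 1) hi)
  rwa [ru_e_succ hB hyp m i hn hi, add_comm] at this

end Cfsg.Agent.Lib.Helper38_RU
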