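import Mathlib
import Cfsg.Agent.Lib.Helper94_Symp
import Cfsg.Agent.Lib.Helper38_SpSub1
import Cfsg.Agent.Lib.Helper38_RU1
import Cfsg.Agent.Lib.Helper38_RU6

set_option autoImplicit false
set_option linter.unusedSimpArgs false
set_option linter.unusedSectionVars false
set_option linter.unnecessarySimpa false

/-!
Characteristic two: extraction of long root elements from a conjugate of a regular unipotent
element, using three pairwise orthogonal vectors.
-/

namespace Cfsg.Agent.Lib.Helper38_RU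

open Cfsg.Agent.Lib.Helper94_Symp Cfsg.Agent.Lib.Helper38_SpSub1

variable {F V : Type*} [Field F] [AddCommGroup V] [Module F V]
variable {B : LinearMap.BilinForm F V} (hB : B.IsAlt)
variable {p0 p1 p2 : V} (h01 : B p0 p1 = 0) (h02 : B p0 p2 = 0) (h12 : B p1 p2 = 0)

include h01 h02 h12

lemma even_E1_aux (a d : F) :
    stv B hB (p1 + p0) d * T B hB (d • p0) (p2 + p1) * stv B hB (p2 + p1) a =
      (stv B hB p0 d * T B hB ((2 * d) • p0) p1 * stv B hB p1 a * T B hB (a • p1) p2) *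
        (stv B hB p1 d * T B hB (d • p0) p2 * stv B hB p2 a) := by
  have h10 := alt_zero B hB h01
  have h20 := alt_zero B hB h02
  have h21 := alt_zero B hB h12
  have o1 : B (d • p0) (p2 + p1) = 0 := by
    rw [map_add, map_smul, LinearMap.smul_apply, LinearMap.smul_apply, h01, h02, smul_zero,
      add_zero]
  have o2 : B ((2 * d) • p0) p1 = 0 := orth_smul_left hB h01 _
  have o3 : B (a • p1) p2 = 0 := orth_smul_left hB h12 _
  have o4 : B (d • p0) p2 = 0 := orth_smul_left hB h02 _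
  ext x
  simp only [LinearEquiv.mul_apply, T_apply B hB o1, T_apply B hB o2, T_apply B hB o3,
    T_apply B hB o4, stv_apply, map_add, map_smul, map_neg, LinearMap.add_apply,
    LinearMap.smul_apply, LinearMap.neg_apply, smul_eq_mul, hB p0, hB p1, hB p2, h01, h02, h12,
    h10, h20, h21, mul_zero, add_zero, zero_add, neg_zero]
  module

lemma even_E2_aux (a d : F) :
    stv B hB p0 d * stv B hB (p1 + p0) a * T B hB (a • (p1 + p0)) (p2 + p1) =
      (stv B hB p0 a * T B hB ((2 * a) • p0) p1 * stv B hB p1 (2 * a) * T B hB (a • p0) p2) *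
        (stv B hB p0 d * stv B hB p1 a * T B hB (a • p1) p2) := by
  have h10 := alt_zero B hB h01
  have h20 := alt_zero B hB h02
  have h21 := alt_zero B hB h12
  have o1 : B (a • (p1 + p0)) (p2 + p1) = 0 := by
    simp only [map_smul, LinearMap.smul_apply, map_add, LinearMap.add_apply, h12, hB p1, h02, h01]
    simp
  have o2 : B ((2 * a) • p0) p1 = 0 := orth_smul_left hB h01 _
  have o3 : B (a • p1) p2 = 0 := orth_smul_left hB h12 _
  have o4 : B (a • p0) p2 = 0 := orth_smul_left hB h02 _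
  ext x
  simp only [LinearEquiv.mul_apply, T_apply B hB o1, T_apply B hB o2, T_apply B hB o3,
    T_apply B hB o4, stv_apply, map_add, map_smul, map_neg, LinearMap.add_apply,
    LinearMap.smul_apply, LinearMap.neg_apply, smul_eq_mul, hB p0, hB p1, hB p2, h01, h02, h12,
    h10, h20, h21, mul_zero, add_zero, zero_add, neg_zero]
  module

lemma even_E3_aux (a : F) :
    stv B hB p0 a * T B hB (a • p0) (p2 + p1) =
      T B hB (a • p0) p1 * (stv B hB p0 a * T B hB (a • p0) p2) := by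
  have h10 := alt_zero B hB h01
  have h20 := alt_zero B hB h02
  have h21 := alt_zero B hB h12
  have o1 : B (a • p0) (p2 + p1) = 0 := by
    rw [map_add, map_smul, LinearMap.smul_apply, LinearMap.smul_apply, h01, h02, smul_zero,
      add_zero]
  have o2 : B (a • p0) p1 = 0 := orth_smul_left hB h01 _
  have o4 : B (a • p0) p2 = 0 := orth_smul_left hB h02 _
  ext x
  simp only [LinearEquiv.mul_apply, T_apply B hB o1, T_apply B hB o2,
    T_apply B hB o4, stv_apply, map_add, map_smul, map_neg, LinearMap.add_apply,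
    LinearMap.smul_apply, LinearMap.neg_apply, smul_eq_mul, hB p0, hB p1, hB p2, h01, h02, h12,
    h10, h20, h21, mul_zero, add_zero, zero_add, neg_zero]
  module

omit h02 h12 in
lemma even_E5_aux (a d : F) :
    stv B hB p0 d * stv B hB (p1 + p0) a =
      (stv B hB p0 a * T B hB (a • p0) p1) * (stv B hB p0 d * stv B hB p1 a) := by
  have h10 := alt_zero B hB h01
  have o2 : B (a • p0) p1 = 0 := orth_smul_left hB h01 _
  ext x
  simp only [LinearEquiv.mul_apply, T_apply B hB o2, stv_apply, map_add, map_smul, map_neg,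
    LinearMap.add_apply, LinearMap.smul_apply, LinearMap.neg_apply, smul_eq_mul, hB p0, hB p1,
    h01, h10, mul_zero, add_zero, zero_add, neg_zero]
  module

lemma even_E4'_aux (a : F) :
    T B hB (a • (p0 - p1 + p2)) (p1 - p2) =
      T B hB (a • p0) p1 * (T B hB ((-a) • p0) p2 * stv B hB p1 (-(2 * a)) *
        T B hB ((2 * a) • p1) p2 * stv B hB p2 (-(2 * a))) := by
  have h10 := alt_zero B hB h01
  have h20 := alt_zero B hB h02
  have h21 := alt_zero B hB h12
  have o1 : B (a • (p0 - p1 + p2)) (p1 - p2) = 0 := by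
    simp only [map_smul, LinearMap.smul_apply, map_add, map_sub, LinearMap.add_apply,
      LinearMap.sub_apply, hB p1, hB p2, h01, h02, h12, h21]
    simp
  have o2 : B (a • p0) p1 = 0 := orth_smul_left hB h01 _
  have o3 : B ((-a) • p0) p2 = 0 := orth_smul_left hB h02 _
  have o4 : B ((2 * a) • p1) p2 = 0 := orth_smul_left hB h12 _
  ext x
  simp only [LinearEquiv.mul_apply, T_apply B hB o1, T_apply B hB o2, T_apply B hB o3,
    T_apply B hB o4, stv_apply, map_add, map_sub, map_smul, map_neg, LinearMap.add_apply,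
    LinearMap.sub_apply, LinearMap.smul_apply, LinearMap.neg_apply, smul_eq_mul, hB p0, hB p1,
    hB p2, h01, h02, h12, h10, h20, h21, mul_zero, add_zero, zero_add, neg_zero, sub_zero,
    zero_sub]
  module

variable {u g : V ≃ₗ[F] V} (hu : u ∈ isoGroup B) (hu0 : u p0 = p0) (hu1 : u p1 = p1 + p0)
  (hu2 : u p2 = p2 + p1)

include hu hu0 hu1 hu2

lemma even_E1 (a d : F) (hg : g = stv B hB p1 d * T B hB (d • p0) p2 * stv B hB p2 a) :
    u * g * u⁻¹ * g⁻¹ =
      stv B hB p0 d * T B hB ((2 * d) • p0) p1 * stv B hB p1 a * T B hB (a • p1) p2 := by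
  have h1 : u * g * u⁻¹ =
      stv B hB (p1 + p0) d * T B hB (d • p0) (p2 + p1) * stv B hB (p2 + p1) a := by
    rw [hg, conj_mul3, conj_stv B hB hu, conj_T B hB hu, conj_stv B hB hu, map_smul, hu0, hu1,
      hu2]
  rw [h1, mul_inv_eq_iff_eq_mul, hg]
  exact even_E1_aux hB h01 h02 h12 a d

lemma even_E2 (a d : F) :
    u * (stv B hB p0 d * stv B hB p1 a * T B hB (a • p1) p2) * u⁻¹ *
        (stv B hB p0 d * stv B hB p1 a * T B hB (a • p1) p2)⁻¹ =
      stv B hB p0 a * T B hB ((2 * a) • p0) p1 * stv B hB p1 (2 * a) * T B hB (a • p0) p2 := by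
  rw [conj_mul3, conj_stv B hB hu, conj_stv B hB hu, conj_T B hB hu, map_smul, hu0, hu1, hu2,
    mul_inv_eq_iff_eq_mul]
  exact even_E2_aux hB h01 h02 h12 a d

lemma even_E3 (a : F) :
    u * (stv B hB p0 a * T B hB (a • p0) p2) * u⁻¹ * (stv B hB p0 a * T B hB (a • p0) p2)⁻¹ =
      T B hB (a • p0) p1 := by
  rw [conj_mul2, conj_stv B hB hu, conj_T B hB hu, map_smul, hu0, hu2, mul_inv_eq_iff_eq_mul]
  exact even_E3_aux hB h01 h02 h12 a

omit h02 h12 hu2 in
lemma even_E5 (a d : F) :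
    u * (stv B hB p0 d * stv B hB p1 a) * u⁻¹ * (stv B hB p0 d * stv B hB p1 a)⁻¹ =
      stv B hB p0 a * T B hB (a • p0) p1 := by
  rw [conj_mul2, conj_stv B hB hu, conj_stv B hB hu, hu0, hu1, mul_inv_eq_iff_eq_mul]
  exact even_E5_aux hB h01 a d

variable {H : Subgroup (V ≃ₗ[F] V)} (huH : u ∈ H) (hw : g * u * g⁻¹ ∈ H) (h2 : (2 : F) = 0)
  (a d : F) (hg : g = stv B hB p1 d * T B hB (d • p0) p2 * stv B hB p2 a)

include huH hw h2 hg

/-- Characteristic two: the three elements `z`, `y1`, `y2` extracted from the conjugate. -/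
theorem even_core :
    stv B hB p0 d * stv B hB p1 a * T B hB (a • p1) p2 ∈ H ∧
      stv B hB p0 a * T B hB (a • p0) p2 ∈ H ∧ T B hB (a • p0) p1 ∈ H := by
  have h2a : (2 * a : F) = 0 := by rw [h2, zero_mul]
  have h2d : (2 * d : F) = 0 := by rw [h2, zero_mul]
  have hz : stv B hB p0 d * stv B hB p1 a * T B hB (a • p1) p2 ∈ H := by
    have h := even_E1 hB h01 h02 h12 hu hu0 hu1 hu2 a d hg
    rw [h2d, zero_smul, T_zero_left, mul_one] at h
    rw [← h]
    have : u * g * u⁻¹ * g⁻¹ = u * (g * u * g⁻¹)⁻¹ := by group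
    rw [this]
    exact H.mul_mem huH (H.inv_mem hw)
  have hy1 : stv B hB p0 a * T B hB (a • p0) p2 ∈ H := by
    have h := even_E2 hB h01 h02 h12 hu hu0 hu1 hu2 a d
    rw [h2a, zero_smul, T_zero_left, mul_one, stv_coeff_zero, mul_one] at h
    rw [← h]
    exact H.mul_mem (H.mul_mem (H.mul_mem huH hz) (H.inv_mem huH)) (H.inv_mem hz)
  refine ⟨hz, hy1, ?_⟩
  rw [← even_E3 hB h01 h02 h12 hu hu0 hu1 hu2 a]
  exact H.mul_mem (H.mul_mem (H.mul_mem huH hy1) (H.inv_mem huH)) (H.inv_mem hy1)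

/-- Characteristic two, at least four pairs: an element of `H` shifting `p0 → p1 → p2`. -/
theorem even_ge4 {k : V ≃ₗ[F] V} (hkH : k ∈ H) (hk : k ∈ isoGroup B) (hk0 : k p0 = p1)
    (hk1 : k p1 = p2) : a ∈ AS B hB H p0 ∧ d ∈ AS B hB H p0 := by
  obtain ⟨hz, hy1, hy2⟩ := even_core hB h01 h02 h12 hu hu0 hu1 hu2 huH hw h2 a d hg
  have hT12 : T B hB (a • p1) p2 ∈ H := by
    have : k * T B hB (a • p0) p1 * k⁻¹ = T B hB (a • p1) p2 := by
      rw [conj_T B hB hk, map_smul, hk0, hk1]
    rw [← this]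
    exact H.mul_mem (H.mul_mem hkH hy2) (H.inv_mem hkH)
  have hz' : stv B hB p0 d * stv B hB p1 a ∈ H := by
    have := H.mul_mem hz (H.inv_mem hT12)
    rwa [mul_inv_cancel_right] at this
  have h5 : stv B hB p0 a * T B hB (a • p0) p1 ∈ H := by
    rw [← even_E5 hB h01 hu hu0 hu1 a d]
    exact H.mul_mem (H.mul_mem (H.mul_mem huH hz') (H.inv_mem huH)) (H.inv_mem hz')
  have ha : a ∈ AS B hB H p0 := by
    have := H.mul_mem h5 (H.inv_mem hy2)
    rwa [mul_inv_cancel_right] at this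
  refine ⟨ha, ?_⟩
  have ha1 : stv B hB p1 a ∈ H := by
    rw [← mem_AS, ← hk0, AS_map hkH hk]; exact ha
  have := H.mul_mem hz' (H.inv_mem ha1)
  rwa [mul_inv_cancel_right] at this

/-- Characteristic two, three pairs. -/
theorem even_eq3 {v' : V ≃ₗ[F] V} (hvH : v' ∈ H) (hv : v' ∈ isoGroup B)
    (hv0 : v' p0 = p0 - p1 + p2) (hv1 : v' p1 = p1 - p2)
    (hA1 : AS B hB H p1 = AS B hB H p0) (hA2 : AS B hB H p2 = AS B hB H p0)
    (hA12 : AS B hB H (p2 + p1) = AS B hB H p0) :
    a ∈ AS B hB H p0 ∧ d ∈ AS B hB H p0 := by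
  obtain ⟨hz, hy1, hy2⟩ := even_core hB h01 h02 h12 hu hu0 hu1 hu2 huH hw h2 a d hg
  have h2a : (2 * a : F) = 0 := by rw [h2, zero_mul]
  have hneg : -a = a := by linear_combination -h2a
  have hT02 : T B hB (a • p0) p2 ∈ H := by
    have h := even_E4'_aux hB h01 h02 h12 a
    rw [h2a, neg_zero, stv_coeff_zero, stv_coeff_zero, zero_smul, T_zero_left, hneg, mul_one,
      mul_one, mul_one] at h
    have h3 : v' * T B hB (a • p0) p1 * v'⁻¹ = T B hB (a • p0) p1 * T B hB (a • p0) p2 := by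
      rw [conj_T B hB hv, map_smul, hv0, hv1, h]
    have h4 : T B hB (a • p0) p2 = (T B hB (a • p0) p1)⁻¹ * (v' * T B hB (a • p0) p1 * v'⁻¹) := by
      rw [h3, inv_mul_cancel_left]
    rw [h4]
    exact H.mul_mem (H.inv_mem hy2) (H.mul_mem (H.mul_mem hvH hy2) (H.inv_mem hvH))
  have ha : a ∈ AS B hB H p0 := by
    have := H.mul_mem hy1 (H.inv_mem hT02)
    rwa [mul_inv_cancel_right] at this
  refine ⟨ha, ?_⟩
  have hT12 : T B hB (a • p1) p2 ∈ H := by
    rw [T_eq_stv3 hB h12]
    refine H.mul_mem (H.mul_mem ?_ ?_) ?_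
    · rw [← mem_AS, hA12]; exact ha
    · rw [← mem_AS, hA1]; exact (AS B hB H p0).neg_mem ha
    · rw [← mem_AS, hA2]; exact (AS B hB H p0).neg_mem ha
  have hz' : stv B hB p0 d * stv B hB p1 a ∈ H := by
    have := H.mul_mem hz (H.inv_mem hT12)
    rwa [mul_inv_cancel_right] at this
  have ha1 : stv B hB p1 a ∈ H := by
    rw [← mem_AS, hA1]; exact ha
  have := H.mul_mem hz' (H.inv_mem ha1)
  rwa [mul_inv_cancel_right] at this

end Cfsg.Agent.Lib.Helper38_RU
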