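import Mathlib
import Cfsg.Agent.Lib.Helper94_Symp
import Cfsg.Agent.Lib.Helper38_SpSub1
import Cfsg.Agent.Lib.Helper38_RU1
import Cfsg.Agent.Lib.Helper38_RU2
import Cfsg.Agent.Lib.Helper38_RU3
import Cfsg.Agent.Lib.Helper38_RU5
import Cfsg.Agent.Lib.Helper38_RU6
import Cfsg.Agent.Lib.Helper38_RU7

set_option autoImplicit false
set_option linter.unusedSimpArgs false
set_option linter.unusedSectionVars false
set_option linter.unnecessarySimpa false

/-!
Generation of the isometry group by three conjugates of the regular unipotent element `ru`,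
in odd characteristic, and in characteristic two when there are at least three hyperbolic pairs.
-/

namespace Cfsg.Agent.Lib.Helper38_RU

open Cfsg.Agent.Lib.Helper94_Symp Cfsg.Agent.Lib.Helper38_SpSub1

variable {F V : Type*} [Field F] [AddCommGroup V] [Module F V]

/-- A generator of the multiplicative group of a finite field. -/
lemma exists_field_generator (F : Type*) [Field F] [Fintype F] :
    ∃ ζ : F, ζ ≠ 0 ∧ ∀ a : F, a ≠ 0 → ∃ k : ℕ, a = ζ ^ k := by
  obtain ⟨ζ, hζ⟩ := IsCyclic.exists_monoid_generator (α := Fˣ)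
  refine ⟨(ζ : F), ζ.ne_zero, ?_⟩
  intro a ha
  obtain ⟨k, hk⟩ := hζ (Units.mk0 a ha)
  refine ⟨k, ?_⟩
  have := congrArg (fun u : Fˣ => (u : F)) hk
  simpa using this.symm

lemma neg_eq_self_of_two (h2 : (2 : F) = 0) (x : V) : -x = x := by
  have : (2 : F) • x = 0 := by rw [h2, zero_smul]
  rw [two_smul] at this
  exact neg_eq_of_add_eq_zero_left this

variable {B : LinearMap.BilinForm F V} (hB : B.IsAlt) {e f : ℕ → V}
variable {n : ℕ} (hyp : Hyp B n e f) (m : ℕ) (hn : n = m + 2)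
variable {H : Subgroup (V ≃ₗ[F] V)} (hu : ru B hB e f m ∈ H) (hv : rv B hB e f m ∈ H)

include hyp hn hu hv

/-- The vector `e 1` has the same parameter group as `e 0`. -/
lemma AS_e_one : AS B hB H (e 1) = AS B hB H (e 0) := by
  rcases Nat.eq_zero_or_pos m with h0 | h0
  · subst h0
    have hc : (ru B hB e f 0)⁻¹ * (rv B hB e f 0)⁻¹ ∈ H := cc_mem hB hyp 0 hn hu hv
    have hcI := cc_mem_iso hB hyp 0 hn hu hv
    have hc' : (rv B hB e f 0)⁻¹ * (ru B hB e f 0)⁻¹ ∈ H := cc'_mem hB hyp 0 hn hu hv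
    have hcI' := cc'_mem_iso hB hyp 0 hn hu hv
    have h1 : (rv B hB e f 0)⁻¹ (f 1) = f 1 - f 0 := by
      have ha := rv_inv_f_add hB hyp 0 0 hn (by omega)
      rw [map_add, rv_inv_f_zero hB hyp 0 hn] at ha
      simp only [zero_add] at ha
      exact eq_sub_of_add_eq ha
    have h2 : ((ru B hB e f 0)⁻¹ * (rv B hB e f 0)⁻¹) (f 1) = -(f 0) := by
      have hl := ru_inv_f_last hB hyp 0 hn
      have hm0 := ru_inv_f_m hB hyp 0 hn
      simp only [zero_add] at hl hm0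
      rw [LinearEquiv.mul_apply, h1, map_sub, hl, hm0]
      abel
    have h3 := cc'_f_m hB hyp 0 hn
    have h4 := AS_f_last hB hyp 0 hn hu hv
    simp only [zero_add] at h3 h4
    calc AS B hB H (e 1) = AS B hB H (-(e 1)) := (AS_neg _).symm
      _ = AS B hB H (f 0) := AS_map' hc' hcI' h3
      _ = AS B hB H (-(f 0)) := (AS_neg _).symm
      _ = AS B hB H (f 1) := AS_map' hc hcI h2
      _ = AS B hB H (e 0) := h4
  · exact AS_e_chain hB hyp m hn hu hv 1 h0

/-- Odd characteristic: the parameters `ζ`, `ζ⁻¹` at `e 0`. -/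
lemma odd_params [Fintype F] (h2 : (2 : F) ≠ 0) {ζ : F} (hζ : ζ ≠ 0) {g : V ≃ₗ[F] V}
    (hg : g = stv B hB (e 1) (-ζ) * T B hB ((-((ζ⁻¹ - ζ) / 2)) • e 0) (e 1))
    (hw : g * ru B hB e f m * g⁻¹ ∈ H) :
    ζ ∈ AS B hB H (e 0) ∧ ζ⁻¹ ∈ AS B hB H (e 0) := by
  have hA1 := AS_e_one hB hyp m hn hu hv
  have hA01 : AS B hB H (e 1 + e 0) = AS B hB H (e 0) := by
    rw [AS_e_add hB hyp m hn hu hv 0 (by omega), hA1]
  have := odd_core hB (hyp.ee 0 1) (ru_mem B hB e f m) (ru_e_zero hB hyp m)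
    (ru_e_succ hB hyp m 0 hn (by omega)) h2 hu hw ζ ((ζ⁻¹ - ζ) / 2) hg hA1 hA01
  have e1 : ζ + 2 * ((ζ⁻¹ - ζ) / 2) = ζ⁻¹ := by field_simp; ring
  rwa [e1] at this

/-- Characteristic two, at least three pairs: the parameters `ζ`, `ζ⁻¹` at `e 0`. -/
lemma even_params (h2 : (2 : F) = 0) (hm : 1 ≤ m) {ζ : F} {g : V ≃ₗ[F] V}
    (hg : g = stv B hB (e 1) ζ * T B hB (ζ • e 0) (e 2) * stv B hB (e 2) ζ⁻¹)
    (hw : g * ru B hB e f m * g⁻¹ ∈ H) :
    ζ ∈ AS B hB H (e 0) ∧ ζ⁻¹ ∈ AS B hB H (e 0) := by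
  have hu0 := ru_e_zero hB hyp m
  have hu1 := ru_e_succ hB hyp m 0 hn (by omega)
  have hu2 := ru_e_succ hB hyp m 1 hn (by omega)
  rcases Nat.lt_or_ge 1 m with h1 | h1
  · -- at least four pairs
    have := even_ge4 hB (hyp.ee 0 1) (hyp.ee 0 2) (hyp.ee 1 2) (ru_mem B hB e f m) hu0 hu1 hu2 hu
      hw h2 ζ⁻¹ ζ hg (cc_mem hB hyp m hn hu hv) (cc_mem_iso hB hyp m hn hu hv)
      (cc_e_lt hB hyp m hn 0 (by omega)) (cc_e_lt hB hyp m hn 1 (by omega))
    exact ⟨this.2, this.1⟩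
  · -- exactly three pairs
    have hm1 : m = 1 := by omega
    subst hm1
    have hi0 := rv_inv_e_lt hB hyp 1 0 hn (by omega)
    have hi1 := rv_inv_e_m hB hyp 1 hn
    have hi2 := rv_inv_e_last hB hyp 1 hn
    simp only [zero_add, Nat.reduceAdd] at hi0 hi1 hi2 hu1 hu2
    have hv1 : rv B hB e f 1 (e 1) = e 1 - e 2 := by
      have : (rv B hB e f 1)⁻¹ (e 1 - e 2) = e 1 := by
        rw [map_sub, hi1, hi2]; abel
      have h5 := congrArg (rv B hB e f 1) this
      rw [apply_inv_apply'] at h5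
      exact h5.symm
    have hv0 : rv B hB e f 1 (e 0) = e 0 - e 1 + e 2 := by
      have : (rv B hB e f 1)⁻¹ (e 0 - e 1 + e 2) = e 0 := by
        rw [map_add, map_sub, hi0, hi1, hi2]; abel
      have h5 := congrArg (rv B hB e f 1) this
      rw [apply_inv_apply'] at h5
      exact h5.symm
    have hA1 := AS_e_one hB hyp 1 hn hu hv
    have hA2 : AS B hB H (e 2) = AS B hB H (e 0) := by
      have h3 : rv B hB e f 1 (e 2 + f 2) = e 2 := by
        rw [← hi2, apply_inv_apply']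
      have h4 : (ru B hB e f 1)⁻¹ (f 2) = e 2 + f 2 := by
        rw [ru_inv_f_last hB hyp 1 hn, sub_eq_add_neg, neg_eq_self_of_two h2, add_comm]
      calc AS B hB H (e 2) = AS B hB H (e 2 + f 2) := AS_map' hv (rv_mem B hB e f 1) h3
        _ = AS B hB H (f 2) :=
          AS_map' (H.inv_mem hu) ((isoGroup B).inv_mem (ru_mem B hB e f 1)) h4
        _ = AS B hB H (e 0) := AS_f_last hB hyp 1 hn hu hv
    have hA12 : AS B hB H (e 2 + e 1) = AS B hB H (e 0) := by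
      rw [AS_e_add hB hyp 1 hn hu hv 1 (by omega), hA2]
    have := even_eq3 hB (hyp.ee 0 1) (hyp.ee 0 2) (hyp.ee 1 2) (ru_mem B hB e f 1) hu0 hu1 hu2 hu
      hw h2 ζ⁻¹ ζ hg hv (rv_mem B hB e f 1) hv0 hv1 hA1 hA2 hA12
    exact ⟨this.2, this.1⟩

/-- From the two parameters at `e 0` to the whole isometry group. -/
theorem le_of_params [Fintype F] [FiniteDimensional F V] (hN : B.Nondegenerate)
    (hspan : Vk F e f n = ⊤) {ζ : F} (hζ : ζ ≠ 0)
    (hgen : ∀ a : F, a ≠ 0 → ∃ k : ℕ, a = ζ ^ k)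
    (h1 : ζ ∈ AS B hB H (e 0)) (h2 : ζ⁻¹ ∈ AS B hB H (e 0)) : isoGroup B ≤ H := by
  have hAm := AS_e_chain hB hyp m hn hu hv m le_rfl
  have hAw := AS_partner hB hyp m hn hu hv
  have hwx : B (f (m + 1) + f m) (e m) = 1 := by
    rw [map_add, LinearMap.add_apply, hyp.fe_ne (m + 1) m (by omega), hyp.fe_self m (by omega),
      zero_add]
  have hfull : e m ∈ TV B hB H :=
    full_of_two hwx (by rw [hAw, hAm]) hζ hgen (by rw [hAm]; exact h1) (by rw [hAm]; exact h2)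
  have h0 : e 0 ∈ TV B hB H := by
    rw [TV_iff_AS, ← hAm]; exact hfull
  obtain ⟨he, hf, hc⟩ := all_TV hB hyp m hn hu hv h0
  exact isoGroup_le_of_TV hN hyp hspan he hf hc

omit hu hv in
/-- Generation by three conjugates of `ru`, in odd characteristic or with at least three pairs. -/
theorem gen_main [Fintype F] [FiniteDimensional F V] (hN : B.Nondegenerate)
    (hspan : Vk F e f n = ⊤) (hcase : (2 : F) ≠ 0 ∨ 1 ≤ m) :
    ∃ g : V ≃ₗ[F] V, g ∈ isoGroup B ∧ ∀ H : Subgroup (V ≃ₗ[F] V), ru B hB e f m ∈ H →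
      g * ru B hB e f m * g⁻¹ ∈ H → rv B hB e f m ∈ H → isoGroup B ≤ H := by
  obtain ⟨ζ, hζ, hgen⟩ := exists_field_generator F
  by_cases h2 : (2 : F) = 0
  · have hm : 1 ≤ m := by
      rcases hcase with h | h
      · exact absurd h2 h
      · exact h
    refine ⟨stv B hB (e 1) ζ * T B hB (ζ • e 0) (e 2) * stv B hB (e 2) ζ⁻¹, ?_, ?_⟩
    · exact (isoGroup B).mul_mem ((isoGroup B).mul_mem (stv_mem_isoGroup _ _ _ _)
        (T_mem_isoGroup _ _ _ _)) (stv_mem_isoGroup _ _ _ _)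
    · intro H hu hw hv
      obtain ⟨h1, h1'⟩ := even_params hB hyp m hn hu hv h2 hm rfl hw
      exact le_of_params hB hyp m hn hu hv hN hspan hζ hgen h1 h1'
  · refine ⟨stv B hB (e 1) (-ζ) * T B hB ((-((ζ⁻¹ - ζ) / 2)) • e 0) (e 1), ?_, ?_⟩
    · exact (isoGroup B).mul_mem (stv_mem_isoGroup _ _ _ _) (T_mem_isoGroup _ _ _ _)
    · intro H hu hw hv
      obtain ⟨h1, h1'⟩ := odd_params hB hyp m hn hu hv h2 hζ rfl hw
      exact le_of_params hB hyp m hn hu hv hN hspan hζ hgen h1 h1'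

end Cfsg.Agent.Lib.Helper38_RU
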