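import Mathlib
import Cfsg.Agent.Lib.Helper94_Symp
import Cfsg.Agent.Lib.Helper38_SpSub1
import Cfsg.Agent.Lib.Helper38_QSubTwo1
import Cfsg.Agent.Lib.Helper38_RU1
import Cfsg.Agent.Lib.Helper38_RU4

set_option autoImplicit false
set_option linter.unusedSimpArgs false
set_option linter.unusedSectionVars false
set_option linter.unnecessarySimpa false

/-!
Hyperbolic planes: the action of `2 × 2` matrices on a hyperbolic plane inside a symplectic space,
and the odd order of the product of two opposite transvections in characteristic two.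
-/

namespace Cfsg.Agent.Lib.Helper38_RU

open Cfsg.Agent.Lib.Helper94_Symp Cfsg.Agent.Lib.Helper38_SpSub1
open Cfsg.Agent.Lib.Helper50_SL2Mat
open scoped MatrixGroups

variable {F V : Type*} [Field F] [AddCommGroup V] [Module F V]
variable (B : LinearMap.BilinForm F V) (hB : B.IsAlt)

/-- The endomorphism acting by the matrix `M` on the plane spanned by `e0`, `f0` (in this basis) and
trivially on its orthogonal complement. -/
def plEnd (e0 f0 : V) (M : Matrix (Fin 2) (Fin 2) F) : Module.End F V :=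
  LinearMap.id + (-(B.flip f0)).smulRight ((M 0 0 - 1) • e0 + M 1 0 • f0) +
    (B.flip e0).smulRight (M 0 1 • e0 + (M 1 1 - 1) • f0)

lemma plEnd_apply (e0 f0 : V) (M : Matrix (Fin 2) (Fin 2) F) (x : V) :
    plEnd B e0 f0 M x = x + (-(B x f0)) • ((M 0 0 - 1) • e0 + M 1 0 • f0) +
      (B x e0) • (M 0 1 • e0 + (M 1 1 - 1) • f0) := by
  simp [plEnd]

variable {B} {e0 f0 : V} (hee : B e0 e0 = 0) (hff : B f0 f0 = 0) (hfe : B f0 e0 = 1)
  (hef : B e0 f0 = -1)

include hee hff hfe hef in
lemma plEnd_mul (M N : Matrix (Fin 2) (Fin 2) F) :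
    plEnd B e0 f0 (M * N) = plEnd B e0 f0 M * plEnd B e0 f0 N := by
  ext x
  simp only [Module.End.mul_apply, plEnd_apply, Matrix.mul_apply, Fin.sum_univ_two, map_add,
    map_smul, map_neg, LinearMap.add_apply, LinearMap.smul_apply, LinearMap.neg_apply, smul_eq_mul,
    hee, hff, hfe, hef, mul_zero, mul_one, add_zero, zero_add]
  module

omit hB in
lemma plEnd_one : plEnd B e0 f0 (1 : Matrix (Fin 2) (Fin 2) F) = 1 := by
  ext x
  simp [plEnd_apply]

include hee hff hfe hef in
lemma plEnd_pow (M : Matrix (Fin 2) (Fin 2) F) (r : ℕ) :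
    plEnd B e0 f0 (M ^ r) = (plEnd B e0 f0 M) ^ r := by
  induction r with
  | zero => rw [pow_zero, pow_zero, plEnd_one]
  | succ r ih => rw [pow_succ, pow_succ, plEnd_mul hee hff hfe hef, ih]

lemma toE_stv_e (c : F) :
    toE (stv B hB e0 c) = plEnd B e0 f0 ((tU c : SL(2, F)) : Matrix (Fin 2) (Fin 2) F) := by
  ext x
  rw [toE_apply, stv_apply, plEnd_apply]
  simp only [tU00, tU01, tU10, tU11]
  module

lemma toE_stv_f (c : F) :
    toE (stv B hB f0 c) = plEnd B e0 f0 ((tL (-c) : SL(2, F)) : Matrix (Fin 2) (Fin 2) F) := by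
  ext x
  rw [toE_apply, stv_apply, plEnd_apply]
  simp only [tL00, tL01, tL10, tL11]
  module

lemma toE_pow (g : V ≃ₗ[F] V) (r : ℕ) : toE (g ^ r) = (toE g) ^ r := by
  induction r with
  | zero => rfl
  | succ r ih => rw [pow_succ, pow_succ, toE_mul, ih]

lemma eq_one_of_toE {g : V ≃ₗ[F] V} (h : toE g = 1) : g = 1 := by
  ext x
  have := congrArg (fun φ : Module.End F V => φ x) h
  simpa using this

include hee hff hfe hef in
/-- In characteristic two, the product of two opposite transvections of a hyperbolic plane has odd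
order. -/
lemma exists_odd_pow_pair [Finite F] (h2 : (2 : F) = 0) {c : F} (hc : c ≠ 0) :
    ∃ r : ℕ, Odd r ∧ (stv B hB f0 c * stv B hB e0 1) ^ r = 1 := by
  obtain ⟨r, hr, hpow⟩ := Cfsg.Agent.Lib.Helper38_QSubTwo.exists_odd_pow h2
    (d := -c) (neg_ne_zero.mpr hc)
  refine ⟨r, hr, ?_⟩
  have h1 : (stv B hB e0 1 * stv B hB f0 c) ^ r = 1 := by
    apply eq_one_of_toE
    rw [toE_pow, toE_mul, toE_stv_e hB (f0 := f0), toE_stv_f hB (e0 := e0),
      ← plEnd_mul hee hff hfe hef, ← plEnd_pow hee hff hfe hef]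
    have : ((tU (1 : F) : SL(2, F)) : Matrix (Fin 2) (Fin 2) F) * ((tL (-c) : SL(2, F)) :
        Matrix (Fin 2) (Fin 2) F) = ((tU (1 : F) * tL (-c) : SL(2, F)) :
          Matrix (Fin 2) (Fin 2) F) := rfl
    rw [this, ← Matrix.SpecialLinearGroup.coe_pow, hpow]
    exact plEnd_one
  have h3 : stv B hB f0 c * stv B hB e0 1 =
      (stv B hB e0 1)⁻¹ * (stv B hB e0 1 * stv B hB f0 c) * ((stv B hB e0 1)⁻¹)⁻¹ := by group
  rw [h3, conj_pow, h1]
  group

/-- Transvections with orthogonal centres commute. -/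
lemma stv_commute {p q : V} (h : B p q = 0) (a b : F) :
    Commute (stv B hB p a) (stv B hB q b) := by
  have h' := alt_zero B hB h
  show stv B hB p a * stv B hB q b = stv B hB q b * stv B hB p a
  ext x
  simp only [LinearEquiv.mul_apply, stv_apply, map_add, map_smul, LinearMap.add_apply,
    LinearMap.smul_apply, smul_eq_mul, h, h', mul_zero, add_zero]
  module

lemma pow_mul_of_commute_involution {G : Type*} [Group G] {a X : G} (hc : Commute a X)
    (ha : a * a = 1) {r : ℕ} (hr : Odd r) (hX : X ^ r = 1) : (a * X) ^ r = a := by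
  rw [hc.mul_pow, hX, mul_one]
  obtain ⟨j, rfl⟩ := hr
  rw [pow_succ, pow_mul, pow_two, ha, one_pow, one_mul]

end Cfsg.Agent.Lib.Helper38_RU
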