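import Mathlib
import Cfsg.Agent.Lib.Helper94_Symp
import Cfsg.Agent.Lib.Helper38_SpSub1
import Cfsg.Agent.Lib.Helper38_RU1
import Cfsg.Agent.Lib.Helper38_RU2
import Cfsg.Agent.Lib.Helper38_RU4
import Cfsg.Agent.Lib.Helper38_RU6
import Cfsg.Agent.Lib.Helper38_RU8
import Cfsg.Agent.Lib.Helper38_RU9

set_option autoImplicit false
set_option linter.unusedSimpArgs false
set_option linter.unusedSectionVars false
set_option linter.unnecessarySimpa false

/-!
The four-dimensional symplectic group in characteristic two: a regular unipotent element inside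
the wreath product `Sp_2 ≀ 2` and the elements of its conjugates used for generation.
-/

namespace Cfsg.Agent.Lib.Helper38_RU

open Cfsg.Agent.Lib.Helper94_Symp Cfsg.Agent.Lib.Helper38_SpSub1

variable {F V : Type*} [Field F] [AddCommGroup V] [Module F V]
variable (B : LinearMap.BilinForm F V) (hB : B.IsAlt) (e f : ℕ → V)

/-- The element exchanging the two hyperbolic planes (in characteristic two). -/
def wtau : V ≃ₗ[F] V := T B hB (e 0 + e 1) (f 0 + f 1)

/-- The regular unipotent element of the wreath product. -/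
def wu1 : V ≃ₗ[F] V := stv B hB (e 1) 1 * wtau B hB e f

/-- A monomial element of the `i`-th plane. -/
def wy (i : ℕ) (κ : F) : V ≃ₗ[F] V :=
  stv B hB (e i) κ⁻¹ * stv B hB (f i) κ * stv B hB (e i) κ⁻¹

/-- The diagonal monomial element. -/
def wW (κ : F) : V ≃ₗ[F] V := wy B hB e f 0 κ * wy B hB e f 1 κ

/-- The conjugating element for the second generator. -/
def wk (μ κ : F) : V ≃ₗ[F] V := stv B hB (f 0) μ * wW B hB e f κ

/-- The conjugating element for the third generator. -/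
def wh : V ≃ₗ[F] V := T B hB (e 0) (f 1)

lemma wtau_mem : wtau B hB e f ∈ isoGroup B := T_mem_isoGroup B hB _ _

lemma wu1_mem : wu1 B hB e f ∈ isoGroup B :=
  (isoGroup B).mul_mem (stv_mem_isoGroup _ _ _ _) (wtau_mem B hB e f)

lemma wy_mem (i : ℕ) (κ : F) : wy B hB e f i κ ∈ isoGroup B :=
  (isoGroup B).mul_mem ((isoGroup B).mul_mem (stv_mem_isoGroup _ _ _ _)
    (stv_mem_isoGroup _ _ _ _)) (stv_mem_isoGroup _ _ _ _)

lemma wW_mem (κ : F) : wW B hB e f κ ∈ isoGroup B :=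
  (isoGroup B).mul_mem (wy_mem B hB e f 0 κ) (wy_mem B hB e f 1 κ)

lemma wk_mem (μ κ : F) : wk B hB e f μ κ ∈ isoGroup B :=
  (isoGroup B).mul_mem (stv_mem_isoGroup _ _ _ _) (wW_mem B hB e f κ)

lemma wh_mem : wh B hB e f ∈ isoGroup B := T_mem_isoGroup B hB _ _

variable {B} {e f} (hyp : Hyp B 2 e f) (h2 : (2 : F) = 0)

include hB hyp h2

lemma wtau_orth : B (e 0 + e 1) (f 0 + f 1) = 0 := by
  simp only [map_add, LinearMap.add_apply, hyp.ef_self hB 0 (by omega),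
    hyp.ef_self hB 1 (by omega), hyp.ef_ne hB 0 1 (by omega), hyp.ef_ne hB 1 0 (by omega)]
  linear_combination -h2

lemma wtau_e0 : wtau B hB e f (e 0) = e 1 := by
  rw [wtau, T_apply B hB (wtau_orth hB hyp h2)]
  simp only [map_add, hyp.ee, hyp.ef_self hB 0 (by omega), hyp.ef_ne hB 0 1 (by omega), add_zero,
    zero_smul]
  linear_combination (norm := module) (-h2) • e 1

lemma wtau_e1 : wtau B hB e f (e 1) = e 0 := by
  rw [wtau, T_apply B hB (wtau_orth hB hyp h2)]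
  simp only [map_add, hyp.ee, hyp.ef_self hB 1 (by omega), hyp.ef_ne hB 1 0 (by omega), add_zero,
    zero_add, zero_smul]
  linear_combination (norm := module) (-h2) • e 0

lemma wtau_f0 : wtau B hB e f (f 0) = f 1 := by
  rw [wtau, T_apply B hB (wtau_orth hB hyp h2)]
  simp only [map_add, hyp.ff, hyp.fe_self 0 (by omega), hyp.fe_ne 0 1 (by omega), add_zero,
    zero_smul]
  linear_combination (norm := module) h2 • f 0

lemma wtau_f1 : wtau B hB e f (f 1) = f 0 := by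
  rw [wtau, T_apply B hB (wtau_orth hB hyp h2)]
  simp only [map_add, hyp.ff, hyp.fe_self 1 (by omega), hyp.fe_ne 1 0 (by omega), add_zero,
    zero_add, zero_smul]
  linear_combination (norm := module) h2 • f 1

lemma wtau_sq : wtau B hB e f * wtau B hB e f = 1 := by
  have h := wtau_orth hB hyp h2
  rw [wtau, T_add0 B hB h h (hB _)]
  have : e 0 + e 1 + (e 0 + e 1) = 0 := by
    linear_combination (norm := module) h2 • (e 0 + e 1)
  rw [this, T_zero_left]

lemma wu1_e0 : wu1 B hB e f (e 0) = e 1 := by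
  rw [wu1, LinearEquiv.mul_apply, wtau_e0 hB hyp h2, stv_fix B hB 1 (hyp.ee 1 1)]

lemma wu1_e1 : wu1 B hB e f (e 1) = e 0 := by
  rw [wu1, LinearEquiv.mul_apply, wtau_e1 hB hyp h2, stv_fix B hB 1 (hyp.ee 0 1)]

lemma wu1_f0 : wu1 B hB e f (f 0) = f 1 + e 1 := by
  rw [wu1, LinearEquiv.mul_apply, wtau_f0 hB hyp h2, stv_apply, hyp.fe_self 1 (by omega)]
  module

lemma wu1_f1 : wu1 B hB e f (f 1) = f 0 := by
  rw [wu1, LinearEquiv.mul_apply, wtau_f1 hB hyp h2,
    stv_fix B hB 1 (hyp.fe_ne 0 1 (by omega))]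

omit h2 in
lemma wy_e_self (i : ℕ) (hi : i < 2) {κ : F} (hκ : κ ≠ 0) :
    wy B hB e f i κ (e i) = (-κ) • f i := by
  simp only [wy, LinearEquiv.mul_apply, stv_apply, map_add, map_smul, LinearMap.add_apply,
    LinearMap.smul_apply, smul_eq_mul, hyp.ee, hyp.ff, hyp.fe_self i hi, hyp.ef_self hB i hi,
    mul_zero, zero_smul, add_zero]
  have : κ⁻¹ * κ = 1 := inv_mul_cancel₀ hκ
  match_scalars
  · linear_combination -this
  · ring

omit h2 in
lemma wy_f_ne (i j : ℕ) (h : j ≠ i) (κ : F) : wy B hB e f i κ (f j) = f j := by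
  rw [wy, LinearEquiv.mul_apply, LinearEquiv.mul_apply, stv_fix B hB _ (hyp.fe_ne j i h),
    stv_fix B hB _ (hyp.ff j i), stv_fix B hB _ (hyp.fe_ne j i h)]

omit h2 in
lemma wW_e1 {κ : F} (hκ : κ ≠ 0) : wW B hB e f κ (e 1) = (-κ) • f 1 := by
  rw [wW, LinearEquiv.mul_apply, wy_e_self hB hyp 1 (by omega) hκ, map_smul,
    wy_f_ne hB hyp 0 1 (by omega)]

lemma wtau_conj_wy0 (κ : F) :
    wtau B hB e f * wy B hB e f 0 κ * (wtau B hB e f)⁻¹ = wy B hB e f 1 κ := by
  rw [wy, conj_mul3, conj_stv B hB (wtau_mem B hB e f), conj_stv B hB (wtau_mem B hB e f),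
    wtau_e0 hB hyp h2, wtau_f0 hB hyp h2]
  rfl

lemma wtau_conj_wy1 (κ : F) :
    wtau B hB e f * wy B hB e f 1 κ * (wtau B hB e f)⁻¹ = wy B hB e f 0 κ := by
  rw [wy, conj_mul3, conj_stv B hB (wtau_mem B hB e f), conj_stv B hB (wtau_mem B hB e f),
    wtau_e1 hB hyp h2, wtau_f1 hB hyp h2]
  rfl

omit h2 in
lemma wy_commute (κ : F) : Commute (wy B hB e f 0 κ) (wy B hB e f 1 κ) := by
  have c1 := stv_commute hB (hyp.ee 0 1)
  have c2 := stv_commute hB (hyp.ef_ne hB 0 1 (by omega))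
  have c3 := stv_commute hB (hyp.fe_ne 0 1 (by omega))
  have c4 := stv_commute hB (hyp.ff 0 1)
  rw [wy, wy]
  refine Commute.mul_left (Commute.mul_left ?_ ?_) ?_
  · exact Commute.mul_right (Commute.mul_right (c1 _ _) (c2 _ _)) (c1 _ _)
  · exact Commute.mul_right (Commute.mul_right (c3 _ _) (c4 _ _)) (c3 _ _)
  · exact Commute.mul_right (Commute.mul_right (c1 _ _) (c2 _ _)) (c1 _ _)

lemma wtau_conj_wW (κ : F) :
    wtau B hB e f * wW B hB e f κ * (wtau B hB e f)⁻¹ = wW B hB e f κ := by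
  rw [wW, conj_mul2, wtau_conj_wy0 hB hyp h2, wtau_conj_wy1 hB hyp h2]
  exact ((wy_commute hB hyp κ).eq).symm

lemma wtau_mul_wW_inv (κ : F) :
    wtau B hB e f * (wW B hB e f κ)⁻¹ = (wW B hB e f κ)⁻¹ * wtau B hB e f := by
  have h := wtau_conj_wW hB hyp h2 κ
  have h' : wtau B hB e f * wW B hB e f κ = wW B hB e f κ * wtau B hB e f := by
    have := congrArg (fun g => g * wtau B hB e f) h
    simpa [mul_assoc] using this
  calc wtau B hB e f * (wW B hB e f κ)⁻¹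
      = (wW B hB e f κ)⁻¹ * (wW B hB e f κ * wtau B hB e f) * (wW B hB e f κ)⁻¹ := by group
    _ = (wW B hB e f κ)⁻¹ * (wtau B hB e f * wW B hB e f κ) * (wW B hB e f κ)⁻¹ := by rw [h']
    _ = (wW B hB e f κ)⁻¹ * wtau B hB e f := by group

/-- The first relation: `u₂ u₁⁻¹`. -/
lemma wrel1 (μ : F) {κ : F} (hκ : κ ≠ 0) :
    wk B hB e f μ κ * wu1 B hB e f * (wk B hB e f μ κ)⁻¹ * (wu1 B hB e f)⁻¹ =
      stv B hB (f 0) μ * (stv B hB (f 1) (κ * κ - μ) * stv B hB (e 1) 1) := by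
  have hW := wtau_mul_wW_inv hB hyp h2 κ
  have ha : wtau B hB e f * stv B hB (f 0) μ * (wtau B hB e f)⁻¹ = stv B hB (f 1) μ := by
    rw [conj_stv B hB (wtau_mem B hB e f), wtau_f0 hB hyp h2]
  have hs : wW B hB e f κ * stv B hB (e 1) 1 * (wW B hB e f κ)⁻¹ = stv B hB (f 1) (κ * κ) := by
    rw [conj_stv B hB (wW_mem B hB e f κ), wW_e1 hB hyp hκ, stv_smul]
    congr 1; ring
  have hm1 : (-1 : F) = 1 := by linear_combination -h2
  calc wk B hB e f μ κ * wu1 B hB e f * (wk B hB e f μ κ)⁻¹ * (wu1 B hB e f)⁻¹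
      = stv B hB (f 0) μ * wW B hB e f κ * stv B hB (e 1) 1 *
          (wtau B hB e f * (wW B hB e f κ)⁻¹) * (stv B hB (f 0) μ)⁻¹ * (wtau B hB e f)⁻¹ *
            (stv B hB (e 1) 1)⁻¹ := by rw [wk, wu1]; group
    _ = stv B hB (f 0) μ * wW B hB e f κ * stv B hB (e 1) 1 *
          ((wW B hB e f κ)⁻¹ * wtau B hB e f) * (stv B hB (f 0) μ)⁻¹ * (wtau B hB e f)⁻¹ *
            (stv B hB (e 1) 1)⁻¹ := by rw [hW]
    _ = stv B hB (f 0) μ * (wW B hB e f κ * stv B hB (e 1) 1 * (wW B hB e f κ)⁻¹) *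
          (wtau B hB e f * stv B hB (f 0) μ * (wtau B hB e f)⁻¹)⁻¹ *
            (stv B hB (e 1) 1)⁻¹ := by group
    _ = stv B hB (f 0) μ * (stv B hB (f 1) (κ * κ - μ) * stv B hB (e 1) 1) := by
        rw [hs, ha, stv_inv, stv_inv, hm1, sub_eq_add_neg, stv_add]
        group

/-- The second relation: `u₂ u₁`. -/
lemma wrel2 (μ : F) {κ : F} (hκ : κ ≠ 0) :
    wk B hB e f μ κ * wu1 B hB e f * (wk B hB e f μ κ)⁻¹ * wu1 B hB e f =
      stv B hB (f 1) (κ * κ - μ) * (stv B hB (f 0) μ * stv B hB (e 0) 1) := by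
  have hW := wtau_mul_wW_inv hB hyp h2 κ
  have ha : wtau B hB e f * stv B hB (f 0) μ * (wtau B hB e f)⁻¹ = stv B hB (f 1) μ := by
    rw [conj_stv B hB (wtau_mem B hB e f), wtau_f0 hB hyp h2]
  have hs : wW B hB e f κ * stv B hB (e 1) 1 * (wW B hB e f κ)⁻¹ = stv B hB (f 1) (κ * κ) := by
    rw [conj_stv B hB (wW_mem B hB e f κ), wW_e1 hB hyp hκ, stv_smul]
    congr 1; ring
  have hts : wtau B hB e f * stv B hB (e 1) 1 * (wtau B hB e f)⁻¹ = stv B hB (e 0) 1 := by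
    rw [conj_stv B hB (wtau_mem B hB e f), wtau_e1 hB hyp h2]
  have htt := wtau_sq hB hyp h2
  have c1 := stv_commute hB (hyp.ff 0 1)
  calc wk B hB e f μ κ * wu1 B hB e f * (wk B hB e f μ κ)⁻¹ * wu1 B hB e f
      = stv B hB (f 0) μ * wW B hB e f κ * stv B hB (e 1) 1 *
          (wtau B hB e f * (wW B hB e f κ)⁻¹) * (stv B hB (f 0) μ)⁻¹ *
            stv B hB (e 1) 1 * wtau B hB e f := by rw [wk, wu1]; group
    _ = stv B hB (f 0) μ * wW B hB e f κ * stv B hB (e 1) 1 *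
          ((wW B hB e f κ)⁻¹ * wtau B hB e f) * (stv B hB (f 0) μ)⁻¹ *
            stv B hB (e 1) 1 * wtau B hB e f := by rw [hW]
    _ = stv B hB (f 0) μ * (wW B hB e f κ * stv B hB (e 1) 1 * (wW B hB e f κ)⁻¹) *
          (wtau B hB e f * stv B hB (f 0) μ * (wtau B hB e f)⁻¹)⁻¹ *
            (wtau B hB e f * stv B hB (e 1) 1 * (wtau B hB e f)⁻¹) *
              (wtau B hB e f * wtau B hB e f) := by group
    _ = stv B hB (f 1) (κ * κ - μ) * (stv B hB (f 0) μ * stv B hB (e 0) 1) := by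
        rw [hs, ha, hts, htt, mul_one, stv_inv, sub_eq_add_neg, stv_add, ← mul_assoc,
          (c1 μ (κ * κ)).eq,
          mul_assoc (stv B hB (f 1) (κ * κ)) (stv B hB (f 0) μ) (stv B hB (f 1) (-μ)),
          (c1 μ (-μ)).eq, ← mul_assoc]

end Cfsg.Agent.Lib.Helper38_RU
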