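import Mathlib
import Cfsg.Agent.Lib.Helper94_Symp
import Cfsg.Agent.Lib.Helper38_SpSub1
import Cfsg.Agent.Lib.Helper38_RU1
import Cfsg.Agent.Lib.Helper38_RU2
import Cfsg.Agent.Lib.Helper38_RU4
import Cfsg.Agent.Lib.Helper38_RU6
import Cfsg.Agent.Lib.Helper38_RU8
import Cfsg.Agent.Lib.Helper38_RU9
import Cfsg.Agent.Lib.Helper38_RU10

set_option autoImplicit false
set_option linter.unusedSimpArgs false
set_option linter.unusedSectionVars false
set_option linter.unnecessarySimpa false

/-!
The four-dimensional symplectic group in characteristic two over a field with more than two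
elements is generated by three conjugates of the regular unipotent element `wu1`.
-/

namespace Cfsg.Agent.Lib.Helper38_RU

open Cfsg.Agent.Lib.Helper94_Symp Cfsg.Agent.Lib.Helper38_SpSub1

variable {F V : Type*} [Field F] [AddCommGroup V] [Module F V]

/-- An endomorphism killing the vectors of a hyperbolic family kills their span. -/
lemma kill_Vk (e f : ℕ → V) (φ : Module.End F V) (n : ℕ) (he : ∀ i, i < n → φ (e i) = 0)
    (hf : ∀ i, i < n → φ (f i) = 0) : ∀ k, k ≤ n → ∀ x ∈ Vk F e f k, φ x = 0 := by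
  intro k
  induction k with
  | zero =>
    intro _ x hx
    have : x = 0 := by simpa [Vk] using hx
    rw [this, map_zero]
  | succ k ih =>
    intro hk x hx
    rw [Vk_succ, Submodule.mem_sup] at hx
    obtain ⟨a, ha, b, hb, rfl⟩ := hx
    obtain ⟨α, β, rfl⟩ := Submodule.mem_span_pair.mp hb
    rw [map_add, map_add, map_smul, map_smul, ih (by omega) a ha, he k (by omega),
      hf k (by omega)]
    simp

variable {B : LinearMap.BilinForm F V} (hB : B.IsAlt) {e f : ℕ → V}
variable (hyp : Hyp B 2 e f) (h2 : (2 : F) = 0)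

include hyp h2

/-- `wu1` is a regular unipotent element. -/
theorem wu1_regular (hspan : Vk F e f 2 = ⊤) :
    IsNilpotent (toE (wu1 B hB e f) - 1) ∧ (toE (wu1 B hB e f) - 1) ^ 3 ≠ 0 := by
  set N : Module.End F V := toE (wu1 B hB e f) - 1 with hN
  have hNe0 : N (e 0) = e 1 - e 0 := by
    rw [hN, LinearMap.sub_apply, toE_apply, wu1_e0 hB hyp h2, Module.End.one_apply]
  have hNe1 : N (e 1) = e 0 - e 1 := by
    rw [hN, LinearMap.sub_apply, toE_apply, wu1_e1 hB hyp h2, Module.End.one_apply]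
  have hNf0 : N (f 0) = f 1 + e 1 - f 0 := by
    rw [hN, LinearMap.sub_apply, toE_apply, wu1_f0 hB hyp h2, Module.End.one_apply]
  have hNf1 : N (f 1) = f 0 - f 1 := by
    rw [hN, LinearMap.sub_apply, toE_apply, wu1_f1 hB hyp h2, Module.End.one_apply]
  have h2e0 : (N ^ 2) (e 0) = 0 := by
    rw [pow_two, Module.End.mul_apply, hNe0, map_sub, hNe1, hNe0]
    linear_combination (norm := module) h2 • (e 0 - e 1)
  have h2e1 : (N ^ 2) (e 1) = 0 := by
    rw [pow_two, Module.End.mul_apply, hNe1, map_sub, hNe1, hNe0]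
    linear_combination (norm := module) h2 • (e 1 - e 0)
  have h2f0 : (N ^ 2) (f 0) = e 0 := by
    rw [pow_two, Module.End.mul_apply, hNf0, map_sub, map_add, hNe1, hNf0, hNf1]
    linear_combination (norm := module) h2 • (f 0 - f 1 - e 1)
  have h2f1 : (N ^ 2) (f 1) = e 1 := by
    rw [pow_two, Module.End.mul_apply, hNf1, map_sub, hNf0, hNf1]
    linear_combination (norm := module) h2 • (f 1 - f 0)
  have h4 : ∀ x, (N ^ 2) x = 0 → (N ^ 4) x = 0 := by
    intro x hx
    rw [show 4 = 2 + 2 from rfl, pow_add, Module.End.mul_apply, hx, map_zero]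
  have h4' : ∀ x y, (N ^ 2) x = y → (N ^ 2) y = 0 → (N ^ 4) x = 0 := by
    intro x y hx hy
    rw [show 4 = 2 + 2 from rfl, pow_add, Module.End.mul_apply, hx, hy]
  constructor
  · refine ⟨4, ?_⟩
    ext x
    have := kill_Vk e f (N ^ 4) 2 (fun i hi => by
        have : i = 0 ∨ i = 1 := by omega
        rcases this with rfl | rfl
        · exact h4 _ h2e0
        · exact h4 _ h2e1) (fun i hi => by
        have : i = 0 ∨ i = 1 := by omega
        rcases this with rfl | rfl
        · exact h4' _ _ h2f0 h2e0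
        · exact h4' _ _ h2f1 h2e1) 2 le_rfl x (by rw [hspan]; exact Submodule.mem_top)
    rw [this]; rfl
  · intro h
    have h3 : (N ^ 3) (f 0) = e 1 - e 0 := by
      rw [show 3 = 1 + 2 from rfl, pow_add, Module.End.mul_apply, h2f0, pow_one, hNe0]
    rw [h, LinearMap.zero_apply] at h3
    have h5 := congrArg (fun x => B (f 1) x) h3
    simp only [map_zero, map_sub, hyp.fe_self 1 (by omega), hyp.fe_ne 1 0 (by omega)] at h5
    simp at h5

/-- Generation by three conjugates of `wu1`. -/
theorem wreath_gen [Fintype F] [FiniteDimensional F V] (hN : B.Nondegenerate)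
    (hspan : Vk F e f 2 = ⊤) (hcard : 2 < Fintype.card F) :
    ∃ g h : V ≃ₗ[F] V, g ∈ isoGroup B ∧ h ∈ isoGroup B ∧ ∀ H : Subgroup (V ≃ₗ[F] V),
      wu1 B hB e f ∈ H → g * wu1 B hB e f * g⁻¹ ∈ H → h * wu1 B hB e f * h⁻¹ ∈ H →
        isoGroup B ≤ H := by
  classical
  obtain ⟨ζ, hζ, hgen⟩ := exists_field_generator F
  have hm1 : (-1 : F) = 1 := by linear_combination -h2
  have hζ1 : ζ ≠ 1 := by
    intro h1
    have hall : ∀ a : F, a = 0 ∨ a = 1 := by
      intro a
      by_cases ha : a = 0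
      · exact Or.inl ha
      · obtain ⟨k, hk⟩ := hgen a ha
        right; rw [hk, h1, one_pow]
    have : Fintype.card F ≤ 2 := by
      have hsub : (Finset.univ : Finset F) ⊆ {0, 1} := by
        intro a _
        rcases hall a with h | h <;> simp [h]
      calc Fintype.card F = (Finset.univ : Finset F).card := Finset.card_univ.symm
        _ ≤ ({0, 1} : Finset F).card := Finset.card_le_card hsub
        _ ≤ 2 := Finset.card_le_two
    omega
  have hchar : ringChar F = 2 := by
    have : CharP F 2 := CharTwo.of_one_ne_zero_of_two_eq_zero one_ne_zero h2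
    exact ringChar.eq F 2
  obtain ⟨κ, hκκ⟩ := FiniteField.isSquare_of_char_two hchar (ζ + ζ⁻¹)
  have hκ : κ ≠ 0 := by
    rintro rfl
    rw [mul_zero] at hκκ
    have h3 : ζ * ζ = 1 := by
      have : ζ * (ζ + ζ⁻¹) = 0 := by rw [hκκ, mul_zero]
      rw [mul_add, mul_inv_cancel₀ hζ] at this
      linear_combination this - h2
    have h4 : (ζ - 1) * (ζ - 1) = 0 := by linear_combination h3 - ζ * h2 + h2
    have h5 : ζ - 1 = 0 := mul_self_eq_zero.mp h4
    exact hζ1 (by linear_combination h5)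
  have hν : κ * κ - ζ = ζ⁻¹ := by rw [← hκκ]; ring
  refine ⟨wk B hB e f ζ κ, wh B hB e f, wk_mem B hB e f ζ κ, wh_mem B hB e f, ?_⟩
  intro H hu hw hh
  have huI := wu1_mem B hB e f
  -- the two relations
  have hr1 : stv B hB (f 0) ζ * (stv B hB (f 1) ζ⁻¹ * stv B hB (e 1) 1) ∈ H := by
    rw [← hν, ← wrel1 hB hyp h2 ζ hκ]
    exact H.mul_mem hw (H.inv_mem hu)
  have hr2 : stv B hB (f 1) ζ⁻¹ * (stv B hB (f 0) ζ * stv B hB (e 0) 1) ∈ H := by
    rw [← hν, ← wrel2 hB hyp h2 ζ hκ]
    exact H.mul_mem hw hu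
  have hinvol : ∀ (x : V) (c : F), stv B hB x c * stv B hB x c = 1 := by
    intro x c
    rw [← stv_add, ← two_mul, h2, zero_mul, stv_coeff_zero]
  -- extraction of the two transvections
  have h1 : ζ ∈ AS B hB H (f 0) := by
    obtain ⟨r, hr, hpow⟩ := exists_odd_pow_pair hB (hyp.ee 1 1) (hyp.ff 1 1)
      (hyp.fe_self 1 (by omega)) (hyp.ef_self hB 1 (by omega)) h2 (inv_ne_zero hζ)
    have hc : Commute (stv B hB (f 0) ζ) (stv B hB (f 1) ζ⁻¹ * stv B hB (e 1) 1) :=
      Commute.mul_right (stv_commute hB (hyp.ff 0 1) _ _)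
        (stv_commute hB (hyp.fe_ne 0 1 (by omega)) _ _)
    have := pow_mul_of_commute_involution hc (hinvol _ _) hr hpow
    rw [mem_AS, ← this]
    exact H.pow_mem hr1 r
  have h1' : ζ⁻¹ ∈ AS B hB H (f 1) := by
    obtain ⟨r, hr, hpow⟩ := exists_odd_pow_pair hB (hyp.ee 0 0) (hyp.ff 0 0)
      (hyp.fe_self 0 (by omega)) (hyp.ef_self hB 0 (by omega)) h2 hζ
    have hc : Commute (stv B hB (f 1) ζ⁻¹) (stv B hB (f 0) ζ * stv B hB (e 0) 1) :=
      Commute.mul_right (stv_commute hB (hyp.ff 1 0) _ _)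
        (stv_commute hB (hyp.fe_ne 1 0 (by omega)) _ _)
    have := pow_mul_of_commute_involution hc (hinvol _ _) hr hpow
    rw [mem_AS, ← this]
    exact H.pow_mem hr2 r
  have hA01 : AS B hB H (f 0) = AS B hB H (f 1) := AS_map' hu huI (wu1_f1 hB hyp h2)
  -- the partner vector
  have hpart : (wu1 B hB e f * wu1 B hB e f) (f 0) = f 0 + e 0 := by
    rw [LinearEquiv.mul_apply, wu1_f0 hB hyp h2, map_add, wu1_f1 hB hyp h2, wu1_e1 hB hyp h2]
  have hAw : AS B hB H (f 0 + e 0) = AS B hB H (f 0) :=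
    AS_map' (H.mul_mem hu hu) ((isoGroup B).mul_mem huI huI) hpart
  have hwx : B (f 0 + e 0) (f 0) = 1 := by
    rw [map_add, LinearMap.add_apply, hyp.ff, hyp.ef_self hB 0 (by omega), zero_add, hm1]
  have hf0 : f 0 ∈ TV B hB H :=
    full_of_two hwx hAw hζ hgen h1 (by rw [hA01]; exact h1')
  -- all the needed vectors
  have t1 : f 1 + e 1 ∈ TV B hB H := by
    have := TV_map hu huI hf0
    rwa [wu1_f0 hB hyp h2] at this
  have t2 : f 0 + e 0 ∈ TV B hB H := by
    have := TV_map hu huI t1
    rwa [map_add, wu1_f1 hB hyp h2, wu1_e1 hB hyp h2] at this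
  have t3 : f 1 ∈ TV B hB H := by
    have := TV_map hu huI t2
    rw [map_add, wu1_f0 hB hyp h2, wu1_e0 hB hyp h2] at this
    have e1 : f 1 + e 1 + e 1 = f 1 := by linear_combination (norm := module) h2 • e 1
    rwa [e1] at this
  have t4 : e 0 ∈ TV B hB H := by
    have hne : B (f 0) (f 0 + e 0) ≠ 0 := by
      rw [map_add, hyp.ff, hyp.fe_self 0 (by omega), zero_add]; exact one_ne_zero
    have := TV_add_smul t2 hf0 hne 1
    have e1 : f 0 + (1 : F) • (f 0 + e 0) = e 0 := by
      linear_combination (norm := module) h2 • f 0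
    rwa [e1] at this
  have t5 : e 1 ∈ TV B hB H := by
    have hne : B (f 1) (f 1 + e 1) ≠ 0 := by
      rw [map_add, hyp.ff, hyp.fe_self 1 (by omega), zero_add]; exact one_ne_zero
    have := TV_add_smul t1 t3 hne 1
    have e1 : f 1 + (1 : F) • (f 1 + e 1) = e 1 := by
      linear_combination (norm := module) h2 • f 1
    rwa [e1] at this
  have t6 : e 0 + e 1 ∈ TV B hB H := by
    have hhI := wh_mem B hB e f
    have horth : B (e 0) (f 1) = 0 := hyp.ef_ne hB 0 1 (by omega)
    have hh0 : wh B hB e f (e 0) = e 0 := by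
      rw [wh, T_apply B hB horth, hyp.ee, horth]; simp
    have hh0' : (wh B hB e f)⁻¹ (e 0) = e 0 := by
      conv_lhs => rw [← hh0]
      exact inv_apply_apply' _ _
    have hh1 : wh B hB e f (e 1) = e 0 + e 1 := by
      rw [wh, T_apply B hB horth, hyp.ee, hyp.ef_self hB 1 (by omega)]
      linear_combination (norm := module) (-h2) • e 0
    have := TV_map hh ((isoGroup B).mul_mem ((isoGroup B).mul_mem hhI huI)
      ((isoGroup B).inv_mem hhI)) t4
    rwa [LinearEquiv.mul_apply, LinearEquiv.mul_apply, hh0', wu1_e0 hB hyp h2, hh1] at this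
  apply isoGroup_le_of_TV hN hyp hspan
  · intro i hi
    have : i = 0 ∨ i = 1 := by omega
    rcases this with rfl | rfl
    · exact t4
    · exact t5
  · intro i hi
    have : i = 0 ∨ i = 1 := by omega
    rcases this with rfl | rfl
    · exact hf0
    · exact t3
  · intro i hi
    have : i = 0 := by omega
    subst this
    exact t6

end Cfsg.Agent.Lib.Helper38_RU
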