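import Mathlib
import Cfsg.Agent.Lib.Helper94_Symp
import Cfsg.Agent.Lib.Helper94_Bridge
import Cfsg.Agent.Lib.Helper94_SpMatBridge
import Cfsg.Agent.Lib.Helper38_SpSub1
import Cfsg.Agent.Lib.Helper38_RU1
import Cfsg.Agent.Lib.Helper38_RU2
import Cfsg.Agent.Lib.Helper38_RU3
import Cfsg.Agent.Lib.Helper38_RU4
import Cfsg.Agent.Lib.Helper38_RU8
import Cfsg.Agent.Lib.Helper38_RU10
import Cfsg.Agent.Lib.Helper38_RU11

set_option autoImplicit false
set_option linter.unusedSimpArgs false
set_option linter.unusedSectionVars false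
set_option linter.unnecessarySimpa false

/-!
The abstract theorem: the isometry group of a hyperbolic family is generated by three conjugate
regular unipotent elements; the standard hyperbolic family of the space of column vectors; and
the transfer to the matrix symplectic group.
-/

namespace Cfsg.Agent.Lib.Helper38_RU

open Cfsg.Agent.Lib.Helper94_Symp Cfsg.Agent.Lib.Helper38_SpSub1
open Cfsg.Agent.Lib.Helper94_Bridge Cfsg.Agent.Lib.Helper94_SpMatBridge

section Abstract

variable {F V : Type*} [Field F] [AddCommGroup V] [Module F V]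
variable {B : LinearMap.BilinForm F V} (hB : B.IsAlt) {e f : ℕ → V}

include hB in
/-- The abstract form of the theorem. -/
theorem abstract_main [Fintype F] [FiniteDimensional F V] (hN : B.Nondegenerate) {n : ℕ}
    (hyp : Hyp B n e f) (hspan : Vk F e f n = ⊤) (hn : 2 ≤ n)
    (h22 : ¬ (n = 2 ∧ Fintype.card F = 2)) :
    ∃ u g h : V ≃ₗ[F] V, u ∈ isoGroup B ∧ g ∈ isoGroup B ∧ h ∈ isoGroup B ∧
      IsNilpotent (toE u - 1) ∧ (toE u - 1) ^ (2 * n - 1) ≠ 0 ∧
      isoGroup B ≤ Subgroup.closure {u, g * u * g⁻¹, h * u * h⁻¹} := by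
  obtain ⟨m, rfl⟩ : ∃ m, n = m + 2 := ⟨n - 2, by omega⟩
  by_cases hcase : (2 : F) ≠ 0 ∨ 1 ≤ m
  · obtain ⟨g, hg, hgen⟩ := gen_main hB hyp m rfl hN hspan hcase
    obtain ⟨hnil, hpow⟩ := ru_regular hB hyp m rfl hspan
    refine ⟨ru B hB e f m, g, JJ B hB e f (m + 2), ru_mem B hB e f m, hg, JJ_mem B hB e f _,
      hnil, hpow, ?_⟩
    apply hgen
    · exact Subgroup.subset_closure (by simp)
    · exact Subgroup.subset_closure (by simp)
    · exact Subgroup.subset_closure (by simp [rv])
  · push Not at hcase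
    obtain ⟨h2, hm⟩ := hcase
    have hm0 : m = 0 := by omega
    subst hm0
    have hcard : 2 < Fintype.card F := by
      have h1 : 1 < Fintype.card F := Fintype.one_lt_card
      have h3 : Fintype.card F ≠ 2 := fun h => h22 ⟨rfl, h⟩
      omega
    obtain ⟨g, h, hg, hh, hgen⟩ := wreath_gen hB hyp h2 hN hspan hcard
    obtain ⟨hnil, hpow⟩ := wu1_regular hB hyp h2 hspan
    refine ⟨wu1 B hB e f, g, h, wu1_mem B hB e f, hg, hh, hnil, hpow, ?_⟩
    apply hgen
    · exact Subgroup.subset_closure (by simp)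
    · exact Subgroup.subset_closure (by simp)
    · exact Subgroup.subset_closure (by simp)

end Abstract

section Concrete

variable (F : Type*) [Field F] (n : ℕ)

/-- The standard vectors `e i`. -/
noncomputable def stdE (i : ℕ) : Fin n ⊕ Fin n → F :=
  if h : i < n then Pi.single (Sum.inl ⟨i, h⟩) 1 else 0

/-- The standard vectors `f i`. -/
noncomputable def stdF (i : ℕ) : Fin n ⊕ Fin n → F :=
  if h : i < n then Pi.single (Sum.inr ⟨i, h⟩) 1 else 0

lemma Bsymp_single' (a b : Fin n ⊕ Fin n) :
    Bsymp n F (Pi.single a 1) (Pi.single b 1) = Matrix.J (Fin n) F a b := by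
  rw [Bsymp_apply, Cfsg.sympForm, Matrix.mulVec_single_one, single_dotProduct, one_mul]
  rfl

lemma std_hyp : Hyp (Bsymp n F) n (stdE F n) (stdF F n) where
  ee := by
    intro i j
    unfold stdE
    split_ifs with hi hj hj
    · rw [Bsymp_single']; simp [Matrix.J]
    all_goals simp
  ff := by
    intro i j
    unfold stdF
    split_ifs with hi hj hj
    · rw [Bsymp_single']; simp [Matrix.J]
    all_goals simp
  fe_self := by
    intro i hi
    unfold stdE stdF
    rw [dif_pos hi, dif_pos hi, Bsymp_single']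
    simp [Matrix.J]
  fe_ne := by
    intro i j hij
    unfold stdE stdF
    split_ifs with hi hj hj
    · rw [Bsymp_single']
      simp [Matrix.J, Matrix.one_apply, hij]
    all_goals simp

lemma std_span : Vk F (stdE F n) (stdF F n) n = ⊤ := by
  rw [eq_top_iff, ← (Pi.basisFun F (Fin n ⊕ Fin n)).span_eq, Submodule.span_le]
  rintro _ ⟨j, rfl⟩
  rw [Pi.basisFun_apply]
  rcases j with a | a
  · have : stdE F n a.val = Pi.single (Sum.inl a) 1 := by
      unfold stdE; rw [dif_pos a.isLt]
    rw [← this]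
    exact e_mem_Vk _ _ a.isLt
  · have : stdF F n a.val = Pi.single (Sum.inr a) 1 := by
      unfold stdF; rw [dif_pos a.isLt]
    rw [← this]
    exact f_mem_Vk _ _ a.isLt

end Concrete

end Cfsg.Agent.Lib.Helper38_RU
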