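import Mathlib
import Cfsg.Agent.Lib.Helper56_S3366Defs

set_option autoImplicit false

/-!
S3366 package ISO (architect helper56): a `Frame` plus the coordinate facts give `X ≃* Model`.
-/

open Cfsg.Agent.Lib.Helper56_S3366Defs
open scoped commutatorElement

namespace Cfsg.Agent.Lib.Helper38_S3366_ISO

variable {X : Type*} [Group X]

/-- `act` is faithful. -/
lemma act_faithful (g g' : SL2) (h : ∀ k : Hs, act g k = act g' k) : g = g' := by
  have h1 := h ⟨1, 0, 0⟩
  have h2 := h ⟨0, 1, 0⟩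
  simp only [act_apply, actFun, mul_one, mul_zero, add_zero, zero_add, Hs.mk.injEq, and_true]
    at h1 h2
  apply Subtype.ext
  ext i j
  fin_cases i <;> fin_cases j
  · exact h1.1
  · exact h2.1
  · exact h1.2
  · exact h2.2

lemma kap_one (a b : X) : kap a b 1 = 1 := by
  simp [kap]

lemma kap_e1 (a b : X) : kap a b ⟨1, 0, 0⟩ = a := by
  simp [kap, ZMod.val_one]

lemma kap_e2 (a b : X) : kap a b ⟨0, 1, 0⟩ = b := by
  simp [kap, ZMod.val_one]

theorem iso_model (Q : Subgroup X) (a b z : X) (L : Subgroup X) (hF : Frame Q a b z L)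
    (hcard : Nat.card SL2 = 24)
    (hmul : ∀ h k : Hs, kap a b (h * k) = kap a b h * kap a b k)
    (hbij : (∀ h, kap a b h ∈ Q) ∧ Function.Injective (kap a b) ∧ ∀ q ∈ Q, ∃ h, kap a b h = q)
    (hact : ∀ l ∈ L, ∃ g : SL2, ∀ h : Hs, l * kap a b h * l⁻¹ = kap a b (act g h)) :
    Nonempty (X ≃* Model) := by
  classical
  have hfin : Finite X := hF.fin
  obtain ⟨hkQ, hkinj, hksurj⟩ := hbij
  -- the map `γ`
  choose! γ₀ hγ₀ using hact
  have huniq : ∀ l ∈ L, ∀ g : SL2, (∀ h : Hs, l * kap a b h * l⁻¹ = kap a b (act g h)) →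
      g = γ₀ l := by
    intro l hl g hg
    apply act_faithful
    intro k
    apply hkinj
    rw [← hg k, ← hγ₀ l hl k]
  let γ : ↥L →* SL2 := MonoidHom.mk' (fun l => γ₀ l.1) (by
    intro l l'
    symm
    apply huniq (l * l').1 (l * l').2
    intro h
    rw [map_mul, MulAut.mul_apply, ← hγ₀ l.1 l.2, ← hγ₀ l'.1 l'.2]
    simp only [Subgroup.coe_mul, mul_inv_rev]
    group)
  have hγ : ∀ l : ↥L, ∀ h : Hs, l.1 * kap a b h * l.1⁻¹ = kap a b (act (γ l) h) :=
    fun l h => hγ₀ l.1 l.2 h
  have hγinj : Function.Injective γ := by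
    rw [injective_iff_map_eq_one]
    intro l hl
    have h1 := hγ l ⟨1, 0, 0⟩
    have h2 := hγ l ⟨0, 1, 0⟩
    rw [hl, map_one, MulAut.one_apply, kap_e1] at h1
    rw [hl, map_one, MulAut.one_apply, kap_e2] at h2
    exact Subtype.ext (hF.Lfaith l.1 l.2 h1 h2)
  have hγbij : Function.Bijective γ := by
    rw [Nat.bijective_iff_injective_and_card]
    exact ⟨hγinj, by rw [hF.Lcard, hcard]⟩
  let γe : ↥L ≃* SL2 := MulEquiv.ofBijective γ hγbij
  have hγe : ∀ g : SL2, γ (γe.symm g) = g := fun g => γe.apply_symm_apply g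
  -- the homomorphism `Model →* X`
  let f₁ : Hs →* X := MonoidHom.mk' (kap a b) hmul
  let f₂ : SL2 →* X := L.subtype.comp γe.symm.toMonoidHom
  have hf₂ : ∀ g : SL2, f₂ g = (γe.symm g : X) := fun g => rfl
  have hcomp : ∀ g : SL2, f₁.comp (act g).toMonoidHom =
      (MulAut.conj (f₂ g)).toMonoidHom.comp f₁ := by
    intro g
    ext h
    simp only [MonoidHom.coe_comp, MulEquiv.coe_toMonoidHom, Function.comp_apply,
      MulAut.conj_apply]
    show kap a b (act g h) = f₂ g * kap a b h * (f₂ g)⁻¹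
    rw [hf₂, hγ (γe.symm g) h, hγe]
  let Φ : Model →* X := SemidirectProduct.lift f₁ f₂ hcomp
  have hΦ : ∀ m : Model, Φ m = kap a b m.left * (γe.symm m.right : X) := by
    intro m
    rfl
  have hΦinj : Function.Injective Φ := by
    rw [injective_iff_map_eq_one]
    intro m hm
    rw [hΦ] at hm
    have hmem : kap a b m.left ∈ L ⊓ Q := by
      refine ⟨?_, hkQ _⟩
      have : kap a b m.left = ((γe.symm m.right)⁻¹ : ↥L) := by
        rw [Subgroup.coe_inv]
        exact eq_inv_of_mul_eq_one_left hm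
      rw [this]
      exact SetLike.coe_mem _
    rw [hF.Ldisj, Subgroup.mem_bot] at hmem
    have hl : m.left = 1 := hkinj (by rw [hmem, kap_one])
    rw [hmem, one_mul] at hm
    have hr : m.right = 1 := by
      have : γe.symm m.right = 1 := Subtype.ext hm
      simpa using this
    exact SemidirectProduct.ext hl hr
  have hΦbij : Function.Bijective Φ := by
    have hfinM : Finite Model := Finite.of_injective Φ hΦinj
    rw [Nat.bijective_iff_injective_and_card]
    refine ⟨hΦinj, ?_⟩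
    rw [SemidirectProduct.card, Hs.card, hcard, hF.Xcard]
  exact ⟨(MulEquiv.ofBijective Φ hΦbij).symm⟩

end Cfsg.Agent.Lib.Helper38_S3366_ISO
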