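import Mathlib
import Cfsg.Agent.Lib.Helper56_S3366Defs

set_option autoImplicit false
set_option linter.unusedVariables false

/-!
S3366 package SYL2 (architect helper56): `C_X(z)` has a normal subgroup `T` of order 8.
-/

open Cfsg.Agent.Lib.Helper56_S3366Defs
open scoped commutatorElement

namespace Cfsg.Agent.Lib.Helper38_S3366_SYL2

variable {X : Type*} [Group X]

/-- an element killed by coprime exponents `8` and `3` is trivial -/
lemma eq_one_of_pow8_pow3 {G : Type*} [Group G] (x : G) (h8 : x ^ 8 = 1) (h3 : x ^ 3 = 1) :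
    x = 1 := by
  have h9 : x ^ 9 = 1 := by
    rw [show 9 = 3 * 3 from rfl, pow_mul, h3, one_pow]
  have : x ^ 9 = x ^ 8 * x := pow_succ x 8
  rw [h9, h8, one_mul] at this
  exact this.symm

theorem exists_normal_two {Q Z : Subgroup X} {ψ : X →* SL2} (hS : Setting Q Z ψ)
    (z : X) (hz2 : z ^ 2 = 1) (hz : ψ z = -1)
    (hcz : ∀ x : X, ∀ ξ ∈ Z, x * ξ * x⁻¹ = ξ)
    (hfix : ∀ q ∈ Q, z * q * z⁻¹ = q → q ∈ Z)
    (hfrat : ∀ x : X, ∃ q ∈ Q, (q⁻¹ * x) * z = z * (q⁻¹ * x))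
    (hcard : Nat.card SL2 = 24)
    (h84 : ∀ g : SL2, g ^ 8 = 1 → g ^ 4 = 1) (h4 : Nat.card {g : SL2 // g ^ 4 = 1} = 8) :
    ∃ T : Subgroup X, Nat.card T = 8 ∧ (∀ t ∈ T, t * z = z * t) ∧
      ∀ n : X, n * z = z * n → ∀ t ∈ T, n * t * n⁻¹ ∈ T := by
  classical
  have hfin : Finite X := hS.fin
  have hkerQ : ∀ x : X, ψ x = 1 ↔ x ∈ Q := by
    intro x
    rw [← hS.ψker, MonoidHom.mem_ker]
  -- the centraliser of `z`
  set N : Subgroup X := Subgroup.centralizer {z} with hN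
  have hmemN : ∀ n : X, n ∈ N ↔ n * z = z * n := by
    intro n
    rw [hN, Subgroup.mem_centralizer_iff]
    constructor
    · intro h
      exact (h z rfl).symm
    · intro h y hy
      rw [Set.mem_singleton_iff] at hy
      rw [hy]
      exact h.symm
  -- `ψ` restricted to `N` is onto
  let ψN : ↥N →* SL2 := ψ.comp N.subtype
  have hψN : Function.Surjective ψN := by
    intro g
    obtain ⟨x, hx⟩ := hS.ψsurj g
    obtain ⟨q, hq, hqx⟩ := hfrat x
    refine ⟨⟨q⁻¹ * x, (hmemN _).2 hqx⟩, ?_⟩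
    show ψ (q⁻¹ * x) = g
    rw [map_mul, map_inv, (hkerQ q).2 hq, inv_one, one_mul, hx]
  -- `8 ∣ |N|`
  have h8 : 2 ^ 3 ∣ Nat.card ↥N := by
    have h1 := Subgroup.card_mul_index ψN.ker
    have h2 : ψN.ker.index = 24 := by
      rw [Subgroup.index_ker, MonoidHom.range_eq_top.2 hψN, Subgroup.card_top, hcard]
    rw [h2] at h1
    rw [← h1]
    exact Dvd.dvd.mul_left (by norm_num) _
  have hfact : Fact (Nat.Prime 2) := ⟨Nat.prime_two⟩
  obtain ⟨T₀, hT₀⟩ := Sylow.exists_subgroup_card_pow_prime (G := ↥N) 2 h8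
  set T : Subgroup X := T₀.map N.subtype with hT
  have hTcard : Nat.card T = 8 := by
    rw [hT, Subgroup.card_map_of_injective N.subtype_injective, hT₀]
    norm_num
  have hTN : ∀ t ∈ T, t ∈ N := by
    intro t ht
    rw [hT, Subgroup.mem_map] at ht
    obtain ⟨t₀, _, rfl⟩ := ht
    exact t₀.2
  have hT8 : ∀ t ∈ T, t ^ 8 = 1 := by
    intro t ht
    have := pow_card_eq_one' (G := ↥T) (x := ⟨t, ht⟩)
    rw [hTcard] at this
    exact congrArg Subtype.val this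
  -- `ψ` maps `T` injectively into `{g | g ^ 4 = 1}`
  have hψT4 : ∀ t ∈ T, ψ t ^ 4 = 1 := by
    intro t ht
    apply h84
    rw [← map_pow, hT8 t ht, map_one]
  let φ : ↥T → {g : SL2 // g ^ 4 = 1} := fun t => ⟨ψ t.1, hψT4 t.1 t.2⟩
  have hφinj : Function.Injective φ := by
    intro t t' htt'
    have h1 : ψ t.1 = ψ t'.1 := congrArg Subtype.val htt'
    have h2 : ψ (t⁻¹ * t' : ↥T).1 = 1 := by
      rw [Subgroup.coe_mul, Subgroup.coe_inv, map_mul, map_inv, h1, inv_mul_cancel]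
    have h3 : (t⁻¹ * t' : ↥T).1 ∈ Q := (hkerQ _).1 h2
    have h4' : (t⁻¹ * t' : ↥T).1 = 1 :=
      eq_one_of_pow8_pow3 _ (hT8 _ (t⁻¹ * t').2) (hS.Qexp _ h3)
    have h5 : t⁻¹ * t' = 1 := Subtype.ext h4'
    exact inv_mul_eq_one.1 h5
  have hfin4 : Finite {g : SL2 // g ^ 4 = 1} := inferInstance
  have hφsurj : Function.Surjective φ := by
    have : Function.Bijective φ := by
      rw [Nat.bijective_iff_injective_and_card]
      exact ⟨hφinj, by rw [hTcard, h4]⟩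
    exact this.2
  refine ⟨T, hTcard, fun t ht => (hmemN t).1 (hTN t ht), ?_⟩
  intro n hn t ht
  have hg4 : ψ (n * t * n⁻¹) ^ 4 = 1 := by
    rw [map_mul, map_mul, map_inv, conj_pow, hψT4 t ht, mul_one, mul_inv_cancel]
  obtain ⟨t', ht'⟩ := hφsurj ⟨ψ (n * t * n⁻¹), hg4⟩
  have ht'ψ : ψ t'.1 = ψ (n * t * n⁻¹) := congrArg Subtype.val ht'
  set ξ : X := t'.1⁻¹ * (n * t * n⁻¹) with hξ
  have hξQ : ξ ∈ Q := by
    rw [← hkerQ, hξ, map_mul, map_inv, ht'ψ, inv_mul_cancel]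
  have hξN : ξ ∈ N := by
    rw [hξ]
    exact N.mul_mem (N.inv_mem (hTN _ t'.2))
      (N.mul_mem (N.mul_mem ((hmemN n).2 hn) (hTN t ht)) (N.inv_mem ((hmemN n).2 hn)))
  have hξZ : ξ ∈ Z := by
    apply hfix ξ hξQ
    rw [← (hmemN ξ).1 hξN, mul_inv_cancel_right]
  have hcomm : Commute t'.1 ξ := by
    have := hcz t'.1 ξ hξZ
    show t'.1 * ξ = ξ * t'.1
    rw [← this, inv_mul_cancel_right, this]
  have hprod : n * t * n⁻¹ = t'.1 * ξ := by
    rw [hξ, mul_inv_cancel_left]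
  have h8' : (t'.1 * ξ) ^ 8 = 1 := by
    rw [← hprod, conj_pow, hT8 t ht, mul_one, mul_inv_cancel]
  rw [hcomm.mul_pow, hT8 _ t'.2, one_mul] at h8'
  have hξ1 : ξ = 1 := eq_one_of_pow8_pow3 ξ h8' (hS.Qexp ξ hξQ)
  rw [hprod, hξ1, mul_one]
  exact t'.2

end Cfsg.Agent.Lib.Helper38_S3366_SYL2
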