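import Mathlib
import Cfsg.Agent.Lib.Helper94_Symp
import Cfsg.Agent.Lib.Helper38_SpSub1

set_option autoImplicit false
set_option linter.unusedSimpArgs false
set_option linter.unusedSectionVars false
set_option linter.unnecessarySimpa false

/-!
Symplectic bases indexed by `κ ⊕ κ`, rational vectors with respect to a subfield, and the
rational transvections.
-/

namespace Cfsg.Agent.Lib.Helper38_SpSub2

open Cfsg.Agent.Lib.Helper94_Symp Cfsg.Agent.Lib.Helper38_SpSub1

/-- The sign of an index: `1` on the left copy, `-1` on the right copy. -/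
def sg (F : Type*) [Field F] {κ : Type*} : κ ⊕ κ → F := Sum.elim (fun _ => 1) (fun _ => -1)

/-- The pair an index belongs to. -/
def pr {κ : Type*} : κ ⊕ κ → κ := Sum.elim id id

section Index

variable {F : Type*} [Field F] {κ : Type*}

lemma sg_mul_self (x : κ ⊕ κ) : sg F x * sg F x = 1 := by
  cases x <;> simp [sg]

lemma sg_swap (x : κ ⊕ κ) : sg F x.swap = - sg F x := by
  cases x <;> simp [sg]

lemma sg_ne_zero (x : κ ⊕ κ) : sg F x ≠ 0 := by
  cases x <;> simp [sg]

lemma sg_mem (F₀ : Subfield F) (x : κ ⊕ κ) : sg F x ∈ F₀ := by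
  cases x
  · simpa [sg] using F₀.one_mem
  · simpa [sg] using F₀.neg_mem F₀.one_mem

lemma pr_swap (x : κ ⊕ κ) : pr x.swap = pr x := by
  cases x <;> rfl

lemma eq_or_eq_swap_of_pr_eq {x y : κ ⊕ κ} (h : pr x = pr y) : y = x ∨ y = x.swap := by
  cases x <;> cases y <;> simp_all [pr]

lemma ne_swap_of_pr_ne {x y : κ ⊕ κ} (h : pr x ≠ pr y) : y ≠ x.swap := by
  intro h'
  rw [h', pr_swap] at h
  exact h rfl

lemma ne_of_pr_ne {x y : κ ⊕ κ} (h : pr x ≠ pr y) : y ≠ x := by
  intro h'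
  rw [h'] at h
  exact h rfl

/-- Fresh pairs exist. -/
lemma exists_fresh [Fintype κ] [DecidableEq κ] (s : Finset κ) (h : s.card < Fintype.card κ) :
    ∃ t : κ ⊕ κ, pr t ∉ s := by
  by_contra hcon
  push Not at hcon
  have : s = Finset.univ := by
    ext t
    have := hcon (Sum.inl t)
    simpa [pr] using this
  rw [this, Finset.card_univ] at h
  exact lt_irrefl _ h

end Index

variable {F V : Type*} [Field F] [AddCommGroup V] [Module F V]
variable {κ : Type*} [Fintype κ] [DecidableEq κ]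
variable (B : LinearMap.BilinForm F V) (hB : B.IsAlt)

/-- A basis is symplectic if `B (b x) (b y)` is `± 1` for partners and `0` otherwise. -/
def IsSymp (b : Module.Basis (κ ⊕ κ) F V) : Prop :=
  ∀ x y, B (b x) (b y) = if y = x.swap then sg F x else 0

variable {B} {b : Module.Basis (κ ⊕ κ) F V} (hb : IsSymp B b)

include hb

lemma B_swap (x : κ ⊕ κ) : B (b x) (b x.swap) = sg F x := by
  rw [hb, if_pos rfl]

lemma B_swap' (x : κ ⊕ κ) : B (b x.swap) (b x) = - sg F x := by
  rw [hb, if_pos (Sum.swap_swap x).symm, sg_swap]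

lemma B_of_ne {x y : κ ⊕ κ} (h : y ≠ x.swap) : B (b x) (b y) = 0 := by
  rw [hb, if_neg h]

lemma B_of_pr_ne {x y : κ ⊕ κ} (h : pr x ≠ pr y) : B (b x) (b y) = 0 :=
  B_of_ne hb (ne_swap_of_pr_ne h)

lemma B_self (x : κ ⊕ κ) : B (b x) (b x) = 0 := by
  apply B_of_ne hb
  cases x <;> simp

/-- The coordinates of a vector in a symplectic basis. -/
lemma repr_eq (v : V) (w : κ ⊕ κ) : b.repr v w = sg F w * B v (b w.swap) := by
  have h1 : B v (b w.swap) = ∑ i, b.repr v i * B (b i) (b w.swap) := by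
    conv_lhs => rw [← b.sum_repr v]
    rw [map_sum, LinearMap.sum_apply]
    refine Finset.sum_congr rfl fun i _ => ?_
    rw [map_smul, LinearMap.smul_apply, smul_eq_mul]
  rw [h1, Finset.sum_eq_single w]
  · rw [B_swap hb, mul_comm, mul_assoc, sg_mul_self, mul_one]
  · intro i _ hi
    rw [B_of_ne hb, mul_zero]
    intro h
    have h2 := congrArg Sum.swap h
    rw [Sum.swap_swap, Sum.swap_swap] at h2
    exact hi h2.symm
  · intro h
    exact absurd (Finset.mem_univ w) h

lemma expand (v : V) : v = ∑ w, (sg F w * B v (b w.swap)) • b w := by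
  conv_lhs => rw [← b.sum_repr v]
  exact Finset.sum_congr rfl fun w _ => by rw [repr_eq hb]

lemma eq_zero_of_forall (v : V) (h : ∀ y, B v (b y) = 0) : v = 0 := by
  rw [expand hb v]
  exact Finset.sum_eq_zero fun w _ => by rw [h, mul_zero, zero_smul]

include hB in
lemma nondeg : B.Nondegenerate := by
  constructor
  · intro v hv
    exact eq_zero_of_forall hb v fun y => hv _
  · intro v hv
    apply eq_zero_of_forall hb v
    intro y
    rw [alt_swap B hB, hv, neg_zero]

omit hb in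
/-- Rational vectors: those whose pairings with the basis lie in the subfield. -/
def Rat (b : Module.Basis (κ ⊕ κ) F V) (B : LinearMap.BilinForm F V) (F₀ : Subfield F) (v : V) :
    Prop :=
  ∀ y, B v (b y) ∈ F₀

variable (F₀ : Subfield F)

lemma rat_basis (x : κ ⊕ κ) : Rat b B F₀ (b x) := by
  intro y
  rw [hb]
  split_ifs
  · exact sg_mem F₀ x
  · exact F₀.zero_mem

omit hb in
lemma rat_zero : Rat b B F₀ (0 : V) := by
  intro y
  rw [map_zero, LinearMap.zero_apply]
  exact F₀.zero_mem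

omit hb in
lemma rat_add {v w : V} (hv : Rat b B F₀ v) (hw : Rat b B F₀ w) : Rat b B F₀ (v + w) := by
  intro y
  rw [map_add, LinearMap.add_apply]
  exact F₀.add_mem (hv y) (hw y)

omit hb in
lemma rat_neg {v : V} (hv : Rat b B F₀ v) : Rat b B F₀ (-v) := by
  intro y
  rw [map_neg, LinearMap.neg_apply]
  exact F₀.neg_mem (hv y)

omit hb in
lemma rat_sub {v w : V} (hv : Rat b B F₀ v) (hw : Rat b B F₀ w) : Rat b B F₀ (v - w) := by
  rw [sub_eq_add_neg]
  exact rat_add F₀ hv (rat_neg F₀ hw)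

omit hb in
lemma rat_smul {c : F} (hc : c ∈ F₀) {v : V} (hv : Rat b B F₀ v) : Rat b B F₀ (c • v) := by
  intro y
  rw [map_smul, LinearMap.smul_apply, smul_eq_mul]
  exact F₀.mul_mem hc (hv y)

/-- The form is rational on rational vectors. -/
lemma rat_pair {v w : V} (hv : Rat b B F₀ v) (hw : Rat b B F₀ w) : B v w ∈ F₀ := by
  rw [expand hb w, map_sum]
  refine F₀.sum_mem fun y _ => ?_
  rw [map_smul, smul_eq_mul]
  exact F₀.mul_mem (F₀.mul_mem (sg_mem F₀ y) (hw _)) (hv y)

omit hb in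
/-- A vector all of whose pairings are rational multiples of a fixed scalar. -/
lemma rat_of_scaled {a : V} {l : F} (hl : l ≠ 0) (h : ∀ y, l⁻¹ * B a (b y) ∈ F₀) :
    ∃ w, Rat b B F₀ w ∧ a = l • w := by
  refine ⟨l⁻¹ • a, ?_, ?_⟩
  · intro y
    rw [map_smul, LinearMap.smul_apply, smul_eq_mul]
    exact h y
  · rw [smul_smul, mul_inv_cancel₀ hl, one_smul]

variable {F₀}

/-- The subgroup `S` of semilinear-scalar multiples of rational maps. -/
def IsRatGroup (b : Module.Basis (κ ⊕ κ) F V) (B : LinearMap.BilinForm F V) (F₀ : Subfield F)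
    (S : Subgroup (V ≃ₗ[F] V)) : Prop :=
  ∀ g, g ∈ S ↔ ∃ μ : F, μ ≠ 0 ∧ ∀ v, Rat b B F₀ v → ∃ w, Rat b B F₀ w ∧ g v = μ • w

variable {S : Subgroup (V ≃ₗ[F] V)} (hS : IsRatGroup b B F₀ S)

include hS in
lemma stv_rat_mem {v : V} (hv : Rat b B F₀ v) {c : F} (hc : c ∈ F₀) :
    stv B hB v c ∈ S ⊓ isoGroup B := by
  refine ⟨(hS _).mpr ⟨1, one_ne_zero, fun w hw => ⟨stv B hB v c w, ?_, by rw [one_smul]⟩⟩,
    stv_mem_isoGroup _ _ _ _⟩
  rw [stv_apply]
  exact rat_add F₀ hw (rat_smul F₀ (F₀.mul_mem hc (rat_pair hb F₀ hw hv)) hv)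

include hS in
lemma T_rat_mem {p q : V} (hp : Rat b B F₀ p) (hq : Rat b B F₀ q) :
    T B hB p q ∈ S ⊓ isoGroup B :=
  T_mem B hB (stv_rat_mem hB hb hS (rat_add F₀ hp hq) F₀.one_mem)
    (stv_rat_mem hB hb hS hp (F₀.neg_mem F₀.one_mem))
    (stv_rat_mem hB hb hS hq (F₀.neg_mem F₀.one_mem))

end Cfsg.Agent.Lib.Helper38_SpSub2
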