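import Mathlib
import Cfsg.Agent.Lib.Helper94_Symp
import Cfsg.Agent.Lib.Helper38_SpSub1
import Cfsg.Agent.Lib.Helper38_SpSub2

set_option autoImplicit false
set_option linter.unusedSimpArgs false
set_option linter.unusedSectionVars false
set_option linter.unnecessarySimpa false

/-!
The ring of multipliers of the short root elements contained in an overgroup of the rational
symplectic group, and the case where this ring is the whole field.
-/

namespace Cfsg.Agent.Lib.Helper38_SpSub3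

open Cfsg.Agent.Lib.Helper94_Symp Cfsg.Agent.Lib.Helper38_SpSub1 Cfsg.Agent.Lib.Helper38_SpSub2

variable {F V : Type*} [Field F] [AddCommGroup V] [Module F V]
variable {κ : Type*} [Fintype κ] [DecidableEq κ]
variable {B : LinearMap.BilinForm F V} (hB : B.IsAlt)
variable {b : Module.Basis (κ ⊕ κ) F V} (hb : IsSymp B b)
variable {F₀ : Subfield F} {S : Subgroup (V ≃ₗ[F] V)} (hS : IsRatGroup b B F₀ S)
variable {H : Subgroup (V ≃ₗ[F] V)} (hMH : S ⊓ isoGroup B ≤ H)

include hb in
lemma B_smul_basis {x z : κ ⊕ κ} (h : pr x ≠ pr z) (c : F) : B (c • b x) (b z) = 0 := by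
  rw [map_smul, LinearMap.smul_apply, B_of_pr_ne hb h, smul_zero]

include hb hS hMH in
/-- Changing the second index of a short root element. -/
lemma prop1 {c : F} {x z z' : κ ⊕ κ} (hxz : pr x ≠ pr z) (h1 : pr z' ≠ pr x) (h2 : pr z' ≠ pr z)
    (h : T B hB (c • b x) (b z) ∈ H) : T B hB (c • b x) (b z') ∈ H := by
  have hY : T B hB ((-sg F z) • b z.swap) (b z') ∈ H :=
    hMH (T_rat_mem hB hb hS (rat_smul F₀ (F₀.neg_mem (sg_mem F₀ z)) (rat_basis hb F₀ _))
      (rat_basis hb F₀ _))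
  have hz' : pr z.swap ≠ pr z' := by rw [pr_swap]; exact h2.symm
  have hxz' : pr x ≠ pr z.swap := by rw [pr_swap]; exact hxz
  have key := comm_T B hB (u := c • b x) (u' := b z) (q := (-sg F z) • b z.swap) (w := b z')
    (B_smul_basis hb hxz c) (B_smul_basis hb hz' _)
    (by rw [map_smul, map_smul, LinearMap.smul_apply, B_of_pr_ne hb hxz', smul_zero, smul_zero])
    (B_smul_basis hb h1.symm c) (B_of_pr_ne hb h2.symm)
  have e : -B (b z) ((-sg F z) • b z.swap) = 1 := by
    rw [map_smul, B_swap hb, smul_eq_mul, neg_mul, sg_mul_self, neg_neg]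
  rw [e, one_smul] at key
  rw [← key]
  exact H.mul_mem (H.mul_mem (H.mul_mem h hY) (H.inv_mem h)) (H.inv_mem hY)

include hb in
/-- Swapping the two indices of a short root element. -/
lemma root_swap {x z : κ ⊕ κ} (hxz : pr x ≠ pr z) (c : F) :
    T B hB (c • b x) (b z) = T B hB (c • b z) (b x) := by
  rw [T_smul_swap B hB (B_of_pr_ne hb hxz), T_comm B hB (by
    rw [map_smul, B_of_pr_ne hb hxz, smul_zero])]

include hb hS hMH in
/-- Propagation of one short root element to all positions. -/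
lemma prop_all (h6 : 6 ≤ Fintype.card κ) {c : F} {x z x' z' : κ ⊕ κ} (hxz : pr x ≠ pr z)
    (hxz' : pr x' ≠ pr z') (h : T B hB (c • b x) (b z) ∈ H) : T B hB (c • b x') (b z') ∈ H := by
  obtain ⟨t, ht⟩ := exists_fresh ({pr x, pr z, pr x', pr z'} : Finset κ) (by
    refine lt_of_le_of_lt (Finset.card_le_four) (by omega))
  obtain ⟨s, hs⟩ := exists_fresh ({pr x, pr z, pr x', pr z', pr t} : Finset κ) (by
    refine lt_of_le_of_lt (Finset.card_le_five) (by omega))
  simp only [Finset.mem_insert, Finset.mem_singleton, not_or] at ht hs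
  obtain ⟨ht1, ht2, ht3, ht4⟩ := ht
  obtain ⟨hs1, hs2, hs3, hs4, hs5⟩ := hs
  -- (x,z) → (x,t)
  have a1 := prop1 hB hb hS hMH hxz ht1 ht2 h
  -- → (t,x)
  rw [root_swap hB hb (Ne.symm ht1)] at a1
  -- → (t,s)
  have a2 := prop1 hB hb hS hMH ht1 hs5 hs1 a1
  -- → (s,t)
  rw [root_swap hB hb (Ne.symm hs5)] at a2
  -- → (s,x')
  have a3 := prop1 hB hb hS hMH hs5 (Ne.symm hs3) (Ne.symm ht3) a2
  -- → (x',s)
  rw [root_swap hB hb hs3] at a3
  -- → (x',z')
  exact prop1 hB hb hS hMH (Ne.symm hs3) (Ne.symm hxz') (Ne.symm hs4) a3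

variable (b H) in
/-- The multipliers of the short root elements in `H`. -/
def Rset : Set F := {c | ∀ x z : κ ⊕ κ, pr x ≠ pr z → T B hB (c • b x) (b z) ∈ H}

include hb hS hMH in
lemma Rset_of_one (h6 : 6 ≤ Fintype.card κ) {c : F} {x z : κ ⊕ κ} (hxz : pr x ≠ pr z)
    (h : T B hB (c • b x) (b z) ∈ H) : c ∈ Rset hB b H :=
  fun _ _ hxz' => prop_all hB hb hS hMH h6 hxz hxz' h

include hb hS hMH in
lemma Rset_rat {c : F} (hc : c ∈ F₀) : c ∈ Rset hB b H :=
  fun _ _ _ => hMH (T_rat_mem hB hb hS (rat_smul F₀ hc (rat_basis hb F₀ _)) (rat_basis hb F₀ _))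

include hb in
lemma Rset_add {c d : F} (hc : c ∈ Rset hB b H) (hd : d ∈ Rset hB b H) : c + d ∈ Rset hB b H := by
  intro x z hxz
  rw [add_smul, ← T_add0 B hB (B_smul_basis hb hxz c) (B_smul_basis hb hxz d) (by
    rw [map_smul, map_smul, LinearMap.smul_apply, B_self hb, smul_zero, smul_zero])]
  exact H.mul_mem (hc x z hxz) (hd x z hxz)

include hb in
lemma Rset_neg {c : F} (hc : c ∈ Rset hB b H) : -c ∈ Rset hB b H := by
  intro x z hxz
  rw [neg_smul, ← T_inv B hB (B_smul_basis hb hxz c)]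
  exact H.inv_mem (hc x z hxz)

include hb hS hMH in
lemma Rset_mul (h6 : 6 ≤ Fintype.card κ) {c d : F} (hc : c ∈ Rset hB b H)
    (hd : d ∈ Rset hB b H) : c * d ∈ Rset hB b H := by
  have hne : Nonempty κ := Fintype.card_pos_iff.mp (by omega)
  obtain ⟨i₀⟩ := hne
  obtain ⟨t, ht⟩ := exists_fresh ({i₀} : Finset κ) (by rw [Finset.card_singleton]; omega)
  obtain ⟨z, hz⟩ := exists_fresh ({i₀, pr t} : Finset κ) (by
    refine lt_of_le_of_lt (Finset.card_le_two) (by omega))
  simp only [Finset.mem_insert, Finset.mem_singleton, not_or] at ht hz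
  obtain ⟨hz1, hz2⟩ := hz
  set x : κ ⊕ κ := Sum.inl i₀ with hx
  set y : κ ⊕ κ := Sum.inl (pr t) with hy
  have hxy : pr x ≠ pr y := fun h => ht h.symm
  have hxz : pr x ≠ pr z := fun h => hz1 h.symm
  have hyz : pr y ≠ pr z := fun h => hz2 h.symm
  have hX := hc x y hxy
  have hY := hd y.swap z (by rw [pr_swap]; exact hyz)
  have hxy' : pr x ≠ pr y.swap := by rw [pr_swap]; exact hxy
  have key := comm_T B hB (u := c • b x) (u' := b y) (q := d • b y.swap) (w := b z)
    (B_smul_basis hb hxy c) (B_smul_basis hb (by rw [pr_swap]; exact hyz) d)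
    (by rw [map_smul, map_smul, LinearMap.smul_apply, B_of_pr_ne hb hxy', smul_zero, smul_zero])
    (B_smul_basis hb hxz c) (B_of_pr_ne hb hyz)
  have e : -B (b y) (d • b y.swap) = -d := by
    rw [map_smul, B_swap hb, smul_eq_mul]
    simp [hy, sg]
  rw [e, smul_smul] at key
  have h1 : T B hB ((-d * c) • b x) (b z) ∈ H := by
    rw [← key]
    exact H.mul_mem (H.mul_mem (H.mul_mem hX hY) (H.inv_mem hX)) (H.inv_mem hY)
  have h2 := Rset_neg hB hb (Rset_of_one hB hb hS hMH h6 hxz h1)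
  have e2 : -(-d * c) = c * d := by ring
  rwa [e2] at h2

/-- The multipliers form a subalgebra over the subfield. -/
def Ralg (hb : IsSymp B b) (hS : IsRatGroup b B F₀ S) (hMH : S ⊓ isoGroup B ≤ H)
    (h6 : 6 ≤ Fintype.card κ) : Subalgebra F₀ F where
  carrier := Rset hB b H
  mul_mem' := fun hc hd => Rset_mul hB hb hS hMH h6 hc hd
  add_mem' := fun hc hd => Rset_add hB hb hc hd
  algebraMap_mem' := fun r => Rset_rat hB hb hS hMH r.2

include hb hS hMH in
/-- An irrational short root element forces all of them. -/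
lemma Rset_top (h6 : 6 ≤ Fintype.card κ) (hp : (Module.finrank F₀ F).Prime) {c₀ : F}
    (hc₀ : c₀ ∉ F₀) {x z : κ ⊕ κ} (hxz : pr x ≠ pr z) (h : T B hB (c₀ • b x) (b z) ∈ H) :
    ∀ c : F, c ∈ Rset hB b H := by
  haveI := Subalgebra.isSimpleOrder_of_finrank_prime F₀ F hp
  have hcU : c₀ ∈ Ralg hB hb hS hMH h6 := Rset_of_one hB hb hS hMH h6 hxz h
  have htop : Ralg hB hb hS hMH h6 = ⊤ := by
    rcases eq_bot_or_eq_top (Ralg hB hb hS hMH h6) with hbot | ht
    · exfalso
      rw [hbot, Algebra.mem_bot] at hcU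
      obtain ⟨r, hr⟩ := hcU
      apply hc₀
      rw [← hr]
      exact r.2
    · exact ht
  intro c
  have : c ∈ Ralg hB hb hS hMH h6 := by rw [htop]; exact Algebra.mem_top
  exact this

end Cfsg.Agent.Lib.Helper38_SpSub3
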