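import Mathlib
import Cfsg.Agent.Lib.Helper94_Symp
import Cfsg.Agent.Lib.Helper38_SpSub1
import Cfsg.Agent.Lib.Helper38_SpSub2
import Cfsg.Agent.Lib.Helper38_SpSub3

set_option autoImplicit false
set_option linter.unusedSimpArgs false
set_option linter.unusedSectionVars false
set_option linter.unnecessarySimpa false
set_option linter.style.haveILetI false

/-!
If an overgroup of the rational symplectic group contains all short root elements, it is the whole
symplectic group.
-/

namespace Cfsg.Agent.Lib.Helper38_SpSub4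

open Cfsg.Agent.Lib.Helper94_Symp Cfsg.Agent.Lib.Helper38_SpSub1 Cfsg.Agent.Lib.Helper38_SpSub2
  Cfsg.Agent.Lib.Helper38_SpSub3

variable {F V : Type*} [Field F] [AddCommGroup V] [Module F V]
variable {κ : Type*} [Fintype κ] [DecidableEq κ]
variable {B : LinearMap.BilinForm F V} (hB : B.IsAlt)
variable {b : Module.Basis (κ ⊕ κ) F V} (hb : IsSymp B b)
variable {F₀ : Subfield F} {S : Subgroup (V ≃ₗ[F] V)} (hS : IsRatGroup b B F₀ S)
variable {H : Subgroup (V ≃ₗ[F] V)} (hMH : S ⊓ isoGroup B ≤ H)
variable (hR : ∀ c : F, c ∈ Rset hB b H)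

include hb hS hMH hR in
/-- Long root elements with square multipliers. -/
lemma long_sq (h2 : 2 ≤ Fintype.card κ) (x : κ ⊕ κ) (a : F) : stv B hB (b x) (a * a) ∈ H := by
  obtain ⟨z, hz⟩ := exists_fresh ({pr x} : Finset κ) (by rw [Finset.card_singleton]; omega)
  simp only [Finset.mem_singleton] at hz
  have hxz : pr x ≠ pr z := fun h => hz h.symm
  have hxz' : pr x ≠ pr z.swap := by rw [pr_swap]; exact hxz
  have hg : T B hB ((-sg F z * a) • b x) (b z) ∈ H := hR _ x z hxz
  have hgy : T B hB ((-sg F z * a) • b x) (b z) (b z.swap) = b z.swap + a • b x := by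
    rw [T_apply B hB (B_smul_basis hb hxz _), map_smul, smul_eq_mul,
      B_of_pr_ne hb (Ne.symm hxz'), mul_zero, zero_smul, add_zero, B_swap' hb, smul_smul]
    congr 2
    have := sg_mul_self (F := F) z
    linear_combination a * this
  have hy : stv B hB (b z.swap) 1 ∈ H := hMH (stv_rat_mem hB hb hS (rat_basis hb F₀ _) F₀.one_mem)
  have h1 : stv B hB (b z.swap + a • b x) 1 ∈ H := by
    rw [← hgy, ← conj_stv B hB (T_mem_isoGroup B hB _ _)]
    exact H.mul_mem (H.mul_mem hg hy) (H.inv_mem hg)
  have h3 : T B hB (a • b x) (b z.swap) ∈ H := hR _ x z.swap hxz'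
  have key := stv_add_smul B hB (B_of_pr_ne hb hxz') a
  have e : stv B hB (b x) (a * a) =
      (T B hB (a • b x) (b z.swap))⁻¹ * stv B hB (b z.swap + a • b x) 1 *
        (stv B hB (b z.swap) 1)⁻¹ := by
    rw [key]; group
  rw [e]
  exact H.mul_mem (H.mul_mem (H.inv_mem h3) h1) (H.inv_mem hy)

include hb hS hMH hR in
/-- All long root elements at basis vectors. -/
lemma long_all [Finite F] (h2 : 2 ≤ Fintype.card κ) (x : κ ⊕ κ) (c : F) :
    stv B hB (b x) c ∈ H := by
  by_cases h : (2 : F) = 0
  · have hch : ringChar F = 2 :=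
      CharP.ringChar_of_prime_eq_zero Nat.prime_two (by exact_mod_cast h)
    obtain ⟨r, rfl⟩ := FiniteField.isSquare_of_char_two hch c
    exact long_sq hB hb hS hMH hR h2 x r
  · have e : c = ((c + 1) / 2) * ((c + 1) / 2) + -(((c - 1) / 2) * ((c - 1) / 2)) := by
      field_simp
      ring
    rw [e, stv_add, ← stv_inv]
    exact H.mul_mem (long_sq hB hb hS hMH hR h2 x _) (H.inv_mem (long_sq hB hb hS hMH hR h2 x _))

include hb hS hMH hR in
lemma TV_add_basis [Finite F] (h2 : 2 ≤ Fintype.card κ) {x : V} (hx : x ∈ TV B hB H)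
    (y : κ ⊕ κ) (c : F) : x + c • b y ∈ TV B hB H := by
  have hby : b y ∈ TV B hB H := fun d => long_all hB hb hS hMH hR h2 y d
  by_cases h : B x (b y) = 0
  · by_cases h' : ∃ z, pr z ≠ pr y ∧ B x (b z) ≠ 0
    · obtain ⟨z, hzy, hz⟩ := h'
      have hg : T B hB ((c * (B x (b z))⁻¹) • b y) (b z) ∈ H := hR _ y z (Ne.symm hzy)
      have := TV_map hg (T_mem_isoGroup B hB _ _) hx
      rw [T_apply B hB (B_smul_basis hb (Ne.symm hzy) _), map_smul, h, smul_zero, zero_smul,
        add_zero, smul_smul, mul_comm, mul_assoc, inv_mul_cancel₀ hz, mul_one] at this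
      exact this
    · push Not at h'
      have e : x = (sg F y * B x (b y.swap)) • b y := by
        conv_lhs => rw [expand hb x]
        rw [Finset.sum_eq_single y]
        · intro w _ hw
          by_cases hp : pr w = pr y
          · rcases eq_or_eq_swap_of_pr_eq hp with h1 | h1
            · exact absurd h1.symm hw
            · rw [← h1, h, mul_zero, zero_smul]
          · rw [h' w.swap (by rw [pr_swap]; exact hp), mul_zero, zero_smul]
        · intro h1
          exact absurd (Finset.mem_univ y) h1
      rw [e, ← add_smul]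
      exact TV_smul _ hby
  · exact TV_add_smul hby hx h c

include hb hS hMH hR in
lemma TV_all [Finite F] (h2 : 2 ≤ Fintype.card κ) (v : V) : v ∈ TV B hB H := by
  have key : ∀ s : Finset (κ ⊕ κ), ∀ f : κ ⊕ κ → F, ∑ w ∈ s, f w • b w ∈ TV B hB H := by
    intro s f
    induction s using Finset.induction_on with
    | empty => rw [Finset.sum_empty]; exact TV_zero
    | insert a s ha ih =>
      rw [Finset.sum_insert ha, add_comm]
      exact TV_add_basis hB hb hS hMH hR h2 ih a (f a)
  rw [← b.sum_repr v]
  exact key _ _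

include hb hS hMH hR in
/-- If all short root elements lie in `H`, then `H` contains the symplectic group. -/
theorem iso_le_of_Rset [Finite F] (h2 : 2 ≤ Fintype.card κ) : isoGroup B ≤ H := by
  haveI : FiniteDimensional F V := Module.Finite.of_basis b
  exact isoGroup_le_of_stv_mem B hB (nondeg hB hb) H fun v c => TV_all hB hb hS hMH hR h2 v c

end Cfsg.Agent.Lib.Helper38_SpSub4
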