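import Mathlib
import Cfsg.Agent.Lib.Helper94_Symp
import Cfsg.Agent.Lib.Helper38_SpSub1
import Cfsg.Agent.Lib.Helper38_SpSub2

set_option autoImplicit false
set_option linter.unusedSimpArgs false
set_option linter.unusedSectionVars false
set_option linter.unnecessarySimpa false

/-!
The extraction lemma for families of short root elements with rational multipliers.
-/

namespace Cfsg.Agent.Lib.Helper38_SpSub5

open Cfsg.Agent.Lib.Helper94_Symp Cfsg.Agent.Lib.Helper38_SpSub1 Cfsg.Agent.Lib.Helper38_SpSub2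

variable {F V : Type*} [Field F] [AddCommGroup V] [Module F V]
variable {B : LinearMap.BilinForm F V} (hB : B.IsAlt)

lemma extract_aux {P q q' : V} (hPq : B P q = 0) (hPq' : B P q' = 0) :
    (T B hB P q)⁻¹ * T B hB P (q + q') = T B hB P q' * stv B hB P (-B q' q) := by
  have hqP := alt_zero B hB hPq
  have hqP' := alt_zero B hB hPq'
  have e := T_add B hB hqP hqP'
  rw [← T_comm B hB hPq, ← T_comm B hB hPq',
    ← T_comm B hB (p := P) (q := q + q') (by rw [map_add, hPq, hPq', add_zero])] at e
  have e2 : T B hB P (q + q') = T B hB P q * T B hB P q' * (stv B hB P (B q' q))⁻¹ := by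
    rw [e, mul_inv_cancel_right]
  rw [e2, stv_inv]
  group

variable (F₀ : Subfield F) (H : Subgroup (V ≃ₗ[F] V))

/-- The family of short root elements `T (c • p) q`, `c` rational, lies in `H`. -/
def Fam (p q : V) : Prop := ∀ c ∈ F₀, T B hB (c • p) q ∈ H

variable {F₀ H}

/-- The basic step: conjugating a family by `u` and dividing. -/
lemma extract_step {p q e : V} {β : F} (hpq : B p q = 0) (hpe : B p e = 0) {u : V ≃ₗ[F] V}
    (huH : u ∈ H) (hu : u ∈ isoGroup B) (hup : u p = p) (huq : u q = q + β • e)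
    (fam : Fam hB F₀ H p q) {c : F} (hc : c ∈ F₀) :
    T B hB (c • p) (β • e) * stv B hB p (c * c * -B (β • e) q) ∈ H := by
  have h1 : (T B hB (c • p) q)⁻¹ * (u * T B hB (c • p) q * u⁻¹) ∈ H :=
    H.mul_mem (H.inv_mem (fam c hc)) (H.mul_mem (H.mul_mem huH (fam c hc)) (H.inv_mem huH))
  rw [conj_T B hB hu, map_smul, hup, huq, extract_aux hB (by rw [map_smul, LinearMap.smul_apply, hpq, smul_zero])
    (by rw [map_smul, map_smul, LinearMap.smul_apply, hpe, smul_zero, smul_zero]), stv_smul] at h1
  exact h1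

/-- Extraction, general version (with a factor `2`). -/
lemma extract {p q e : V} {β : F} (hpq : B p q = 0) (hpe : B p e = 0) {u : V ≃ₗ[F] V}
    (huH : u ∈ H) (hu : u ∈ isoGroup B) (hup : u p = p) (huq : u q = q + β • e)
    (fam : Fam hB F₀ H p q) : Fam hB F₀ H ((2 * β) • e) p := by
  intro c hc
  have h1 := extract_step hB hpq hpe huH hu hup huq fam hc
  have h2 := extract_step hB hpq hpe huH hu hup huq fam (F₀.neg_mem hc)
  have hpe' : B (c • p) (β • e) = 0 := by
    rw [map_smul, map_smul, LinearMap.smul_apply, hpe, smul_zero, smul_zero]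
  have h3 := H.mul_mem h1 (H.inv_mem h2)
  have e1 : (-c) * (-c) * -B (β • e) q = c * c * -B (β • e) q := by ring
  have e2 : (T B hB ((-c) • p) (β • e))⁻¹ = T B hB (c • p) (β • e) := by
    rw [neg_smul, ← T_inv B hB hpe', inv_inv]
  rw [e1, mul_inv_rev, e2] at h3
  have e3 : T B hB (c • p) (β • e) * stv B hB p (c * c * -B (β • e) q) *
      ((stv B hB p (c * c * -B (β • e) q))⁻¹ * T B hB (c • p) (β • e)) =
      T B hB (c • p) (β • e) * T B hB (c • p) (β • e) := by group
  rw [e3, T_add0 B hB hpe' hpe' (by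
    rw [map_smul, map_smul, LinearMap.smul_apply, hB p, smul_zero, smul_zero])] at h3
  have e4 : T B hB (c • p + c • p) (β • e) = T B hB (c • (2 * β) • e) p := by
    rw [← two_smul F (c • p), T_smul_swap B hB (by simp [hpe]),
      T_smul_swap B hB (by simp [hpe]), T_comm B hB (by simp [hpe])]
    congr 1
    rw [smul_smul, smul_smul, smul_smul]
    congr 1
    ring
  rwa [e4] at h3

/-- Extraction, orthogonal version (no factor `2`). -/
lemma extract_orth {p q e : V} {β : F} (hpq : B p q = 0) (hpe : B p e = 0) (heq : B e q = 0)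
    {u : V ≃ₗ[F] V} (huH : u ∈ H) (hu : u ∈ isoGroup B) (hup : u p = p) (huq : u q = q + β • e)
    (fam : Fam hB F₀ H p q) : Fam hB F₀ H (β • e) p := by
  intro c hc
  have h1 := extract_step hB hpq hpe huH hu hup huq fam hc
  have e0 : c * c * -B (β • e) q = 0 := by
    rw [map_smul, LinearMap.smul_apply, heq, smul_zero, neg_zero, mul_zero]
  rw [e0] at h1
  have e1 : stv B hB p 0 = 1 := by ext x; simp
  rw [e1, mul_one] at h1
  have e4 : T B hB (c • p) (β • e) = T B hB (c • β • e) p := by
    rw [T_smul_swap B hB (by rw [map_smul, hpe, smul_zero]), T_comm B hB (by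
        rw [map_smul, map_smul, hpe, smul_zero, smul_zero])]
  rwa [e4] at h1

end Cfsg.Agent.Lib.Helper38_SpSub5
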