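import Mathlib
import Cfsg.Agent.Lib.Helper94_Symp
import Cfsg.Agent.Lib.Helper38_SpSub1
import Cfsg.Agent.Lib.Helper38_SpSub2
import Cfsg.Agent.Lib.Helper38_SpSub5

set_option autoImplicit false
set_option linter.unusedSimpArgs false
set_option linter.unusedSectionVars false
set_option linter.unnecessarySimpa false

/-!
Vectors all of whose rational transvections lie in an overgroup `H` of the rational symplectic
group: products of two coordinates from different pairs are rational (odd characteristic).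
-/

namespace Cfsg.Agent.Lib.Helper38_SpSub6

open Cfsg.Agent.Lib.Helper94_Symp Cfsg.Agent.Lib.Helper38_SpSub1 Cfsg.Agent.Lib.Helper38_SpSub2
  Cfsg.Agent.Lib.Helper38_SpSub5

variable {F V : Type*} [Field F] [AddCommGroup V] [Module F V]
variable {κ : Type*} [Fintype κ] [DecidableEq κ]
variable {B : LinearMap.BilinForm F V} (hB : B.IsAlt)

/-- The element acting as `-1` on the hyperbolic plane spanned by `e, f`. -/
def hW (e f : V) : V ≃ₗ[F] V :=
  (stv B hB e 1 * stv B hB f 1 * stv B hB e 1) * (stv B hB e 1 * stv B hB f 1 * stv B hB e 1)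

lemma hW_e {e f : V} (hef : B e f = 1) : hW hB e f e = -e := by
  have hfe : B f e = -1 := by rw [alt_swap B hB, hef]
  simp only [hW, LinearEquiv.mul_apply, stv_apply, map_add, map_smul, map_neg, LinearMap.add_apply,
    LinearMap.smul_apply, LinearMap.neg_apply, smul_eq_mul, hB e, hB f, hef, hfe, mul_zero,
    add_zero, zero_add, one_mul, mul_one, zero_smul, one_smul, neg_smul, mul_neg, neg_neg,
    neg_zero]
  module

lemma hW_f {e f : V} (hef : B e f = 1) : hW hB e f f = -f := by
  have hfe : B f e = -1 := by rw [alt_swap B hB, hef]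
  simp only [hW, LinearEquiv.mul_apply, stv_apply, map_add, map_smul, map_neg, LinearMap.add_apply,
    LinearMap.smul_apply, LinearMap.neg_apply, smul_eq_mul, hB e, hB f, hef, hfe, mul_zero,
    add_zero, zero_add, one_mul, mul_one, zero_smul, one_smul, neg_smul, mul_neg, neg_neg,
    neg_zero]
  module

lemma hW_fix {e f v : V} (h1 : B v e = 0) (h2 : B v f = 0) : hW hB e f v = v := by
  simp only [hW, LinearEquiv.mul_apply]
  rw [stv_fix B hB 1 h1, stv_fix B hB 1 h2, stv_fix B hB 1 h1, stv_fix B hB 1 h1,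
    stv_fix B hB 1 h2, stv_fix B hB 1 h1]

lemma hW_mem_iso (e f : V) : hW hB e f ∈ isoGroup B := by
  have h1 := stv_mem_isoGroup B hB e 1
  have h2 := stv_mem_isoGroup B hB f 1
  exact (isoGroup B).mul_mem ((isoGroup B).mul_mem ((isoGroup B).mul_mem h1 h2) h1)
    ((isoGroup B).mul_mem ((isoGroup B).mul_mem h1 h2) h1)

lemma hW_mem {H : Subgroup (V ≃ₗ[F] V)} {e f : V} (h1 : stv B hB e 1 ∈ H)
    (h2 : stv B hB f 1 ∈ H) : hW hB e f ∈ H :=
  H.mul_mem (H.mul_mem (H.mul_mem h1 h2) h1) (H.mul_mem (H.mul_mem h1 h2) h1)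

variable (F₀ : Subfield F) (H : Subgroup (V ≃ₗ[F] V))

/-- All rational transvections with centre `a` lie in `H`. -/
def PH (a : V) : Prop := ∀ c ∈ F₀, stv B hB a c ∈ H

variable {F₀ H}

lemma PH_map {a : V} (ha : PH hB F₀ H a) {k : V ≃ₗ[F] V} (hkH : k ∈ H) (hk : k ∈ isoGroup B) :
    PH hB F₀ H (k a) := by
  intro c hc
  rw [← conj_stv B hB hk]
  exact H.mul_mem (H.mul_mem hkH (ha c hc)) (H.inv_mem hkH)

variable {b : Module.Basis (κ ⊕ κ) F V} (hb : IsSymp B b)
variable {S : Subgroup (V ≃ₗ[F] V)} (hS : IsRatGroup b B F₀ S)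
variable (hMH : S ⊓ isoGroup B ≤ H)

include hb hS hMH in
/-- Odd characteristic: the product of two coordinates from different pairs is rational. -/
lemma K1_odd (h2 : (2 : F) ≠ 0)
    (hstar : ∀ (c : F) (x z : κ ⊕ κ), pr x ≠ pr z → T B hB (c • b x) (b z) ∈ H → c ∈ F₀)
    {a : V} (ha : PH hB F₀ H a) {x z : κ ⊕ κ} (hxz : pr x ≠ pr z) :
    B a (b x) * B a (b z) ∈ F₀ := by
  -- the hyperbolic pair
  obtain ⟨e, he⟩ : ∃ e, e = b x := ⟨_, rfl⟩
  obtain ⟨f, hf⟩ : ∃ f, f = sg F x • b x.swap := ⟨_, rfl⟩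
  have hef : B e f = 1 := by
    rw [he, hf, map_smul, B_swap hb, smul_eq_mul, sg_mul_self]
  have hfe : B f e = -1 := by rw [alt_swap B hB, hef]
  have hee : B e e = 0 := hB e
  have hff : B f f = 0 := hB f
  have hxz' : pr x.swap ≠ pr z := by rw [pr_swap]; exact hxz
  have hez : B e (b z) = 0 := by rw [he]; exact B_of_pr_ne hb hxz
  have hfz : B f (b z) = 0 := by
    rw [hf, map_smul, LinearMap.smul_apply, B_of_pr_ne hb hxz', smul_zero]
  have hze : B (b z) e = 0 := alt_zero B hB hez
  have hrate : Rat b B F₀ e := by rw [he]; exact rat_basis hb F₀ _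
  have hratf : Rat b B F₀ f := by
    rw [hf]; exact rat_smul F₀ (sg_mem F₀ x) (rat_basis hb F₀ _)
  have hue : stv B hB e 1 ∈ H := hMH (stv_rat_mem hB hb hS hrate F₀.one_mem)
  have huf : stv B hB f 1 ∈ H := hMH (stv_rat_mem hB hb hS hratf F₀.one_mem)
  have huz : stv B hB (b z) 1 ∈ H :=
    hMH (stv_rat_mem hB hb hS (rat_basis hb F₀ z) F₀.one_mem)
  -- decomposition of `a`
  obtain ⟨s, hs⟩ : ∃ s, s = B a f • e - B a e • f := ⟨_, rfl⟩
  obtain ⟨a', ha'⟩ : ∃ a', a' = a - s := ⟨_, rfl⟩
  have hse : B s e = B a e := by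
    rw [hs, map_sub, map_smul, map_smul, LinearMap.sub_apply, LinearMap.smul_apply,
      LinearMap.smul_apply, hee, hfe]
    simp
  have hsf : B s f = B a f := by
    rw [hs, map_sub, map_smul, map_smul, LinearMap.sub_apply, LinearMap.smul_apply,
      LinearMap.smul_apply, hef, hff]
    simp
  have hsz : B s (b z) = 0 := by
    rw [hs, map_sub, map_smul, map_smul, LinearMap.sub_apply, LinearMap.smul_apply,
      LinearMap.smul_apply, hez, hfz]
    simp
  have ha'e : B a' e = 0 := by
    rw [ha', map_sub, LinearMap.sub_apply, hse, sub_self]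
  have ha'f : B a' f = 0 := by
    rw [ha', map_sub, LinearMap.sub_apply, hsf, sub_self]
  have ha's : B a' s = 0 := by
    rw [hs, map_sub, map_smul, map_smul, ha'e, ha'f]
    simp
  have ha'z : B a' (b z) = B a (b z) := by
    rw [ha', map_sub, LinearMap.sub_apply, hsz, sub_zero]
  have haa : a = a' + s := by rw [ha']; abel
  -- the element `h`
  have hhH : hW hB e f ∈ H := hW_mem hB hue huf
  have hhI : hW hB e f ∈ isoGroup B := hW_mem_iso hB e f
  have hha : hW hB e f a = a' - s := by
    rw [haa, map_add, hW_fix hB ha'e ha'f, hs, map_sub, map_smul, map_smul, hW_e hB hef,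
      hW_f hB hef]
    module
  -- the first family
  have fam0 : Fam hB F₀ H ((2 : F) • a') s := by
    intro c hc
    have h1 := ha c hc
    have h3 := PH_map hB ha hhH hhI (-c) (F₀.neg_mem hc)
    rw [hha] at h3
    have h4 := H.mul_mem h1 h3
    rw [haa, stv_pm B hB ha's] at h4
    rwa [smul_smul, mul_comm]
  -- first extraction
  have fam1 : Fam hB F₀ H ((2 * B a e) • e) ((2 : F) • a') := by
    apply extract hB (q := s) (u := stv B hB e 1) _ _ hue (stv_mem_isoGroup _ _ _ _) _ _ fam0
    · rw [map_smul, LinearMap.smul_apply, ha's, smul_zero]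
    · rw [map_smul, LinearMap.smul_apply, ha'e, smul_zero]
    · apply stv_fix
      rw [map_smul, LinearMap.smul_apply, ha'e, smul_zero]
    · rw [stv_apply, one_mul, hse]
  -- second extraction
  have fam2 : Fam hB F₀ H ((2 * (2 * B a (b z))) • b z) ((2 * B a e) • e) := by
    apply extract hB (q := (2 : F) • a') (u := stv B hB (b z) 1) _ _ huz
      (stv_mem_isoGroup _ _ _ _) _ _ fam1
    · rw [map_smul, map_smul, LinearMap.smul_apply, alt_zero B hB ha'e, smul_zero, smul_zero]
    · rw [map_smul, LinearMap.smul_apply, hez, smul_zero]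
    · apply stv_fix
      rw [map_smul, LinearMap.smul_apply, hez, smul_zero]
    · rw [stv_apply, one_mul, map_smul, LinearMap.smul_apply, ha'z, smul_eq_mul]
  -- conclusion
  have h8 : (8 : F) ≠ 0 := by
    have : (8 : F) = 2 * 2 * 2 := by norm_num
    rw [this]
    exact mul_ne_zero (mul_ne_zero h2 h2) h2
  have h8m : (8 : F)⁻¹ ∈ F₀ := by
    apply F₀.inv_mem
    have : (8 : F) = ((8 : ℕ) : F) := by norm_num
    rw [this]
    exact natCast_mem F₀ 8
  have h5 := fam2 _ h8m
  rw [he, ← T_smul_swap B hB (by simp [B_of_pr_ne hb (Ne.symm hxz)]), smul_smul, smul_smul] at h5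
  have h6 := hstar _ z x (Ne.symm hxz) h5
  have e6 : 2 * B a (b x) * 8⁻¹ * (2 * (2 * B a (b z))) = B a (b x) * B a (b z) := by
    field_simp
    ring
  rwa [e6] at h6

end Cfsg.Agent.Lib.Helper38_SpSub6
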