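import Mathlib
import Cfsg.Agent.Lib.Helper94_Symp
import Cfsg.Agent.Lib.Helper38_SpSub1
import Cfsg.Agent.Lib.Helper38_SpSub2
import Cfsg.Agent.Lib.Helper38_SpSub5
import Cfsg.Agent.Lib.Helper38_SpSub6

set_option autoImplicit false
set_option linter.unusedSimpArgs false
set_option linter.unusedSectionVars false
set_option linter.unnecessarySimpa false

/-!
Vectors all of whose rational transvections lie in an overgroup `H` of the rational symplectic
group: products of two coordinates from different pairs are rational (characteristic two).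
-/

namespace Cfsg.Agent.Lib.Helper38_SpSub7

open Cfsg.Agent.Lib.Helper94_Symp Cfsg.Agent.Lib.Helper38_SpSub1 Cfsg.Agent.Lib.Helper38_SpSub2
  Cfsg.Agent.Lib.Helper38_SpSub5 Cfsg.Agent.Lib.Helper38_SpSub6

variable {F V : Type*} [Field F] [AddCommGroup V] [Module F V]
variable {κ : Type*} [Fintype κ] [DecidableEq κ]
variable {B : LinearMap.BilinForm F V} (hB : B.IsAlt)
variable {F₀ : Subfield F} {H : Subgroup (V ≃ₗ[F] V)}
variable {b : Module.Basis (κ ⊕ κ) F V} (hb : IsSymp B b)
variable {S : Subgroup (V ≃ₗ[F] V)} (hS : IsRatGroup b B F₀ S)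
variable (hMH : S ⊓ isoGroup B ≤ H)

include hb hS hMH in
/-- Characteristic two: the product of two coordinates from different pairs is rational. -/
lemma K1_even (h2 : (2 : F) = 0) (h4 : 4 ≤ Fintype.card κ)
    (hstar : ∀ (c : F) (x z : κ ⊕ κ), pr x ≠ pr z → T B hB (c • b x) (b z) ∈ H → c ∈ F₀)
    {a : V} (ha : PH hB F₀ H a) {x z : κ ⊕ κ} (hxz : pr x ≠ pr z) :
    B a (b x) * B a (b z) ∈ F₀ := by
  obtain ⟨t, ht⟩ := exists_fresh ({pr x, pr z} : Finset κ) (by
    refine lt_of_le_of_lt (Finset.card_le_two) (by omega))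
  obtain ⟨t', ht'⟩ := exists_fresh ({pr x, pr z, pr t} : Finset κ) (by
    refine lt_of_le_of_lt (Finset.card_le_three) (by omega))
  simp only [Finset.mem_insert, Finset.mem_singleton, not_or] at ht ht'
  obtain ⟨htx, htz⟩ := ht
  obtain ⟨ht'x, ht'z, ht't⟩ := ht'
  have hxt := Ne.symm htx
  have hzt := Ne.symm htz
  have hxt' := Ne.symm ht'x
  have hzt' := Ne.symm ht'z
  have htt' := Ne.symm ht't
  have hzx := Ne.symm hxz
  have Bz : ∀ {i j : κ ⊕ κ}, pr i ≠ pr j → B (b i) (b j) = 0 := fun h => B_of_pr_ne hb h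
  have Bs : ∀ i : κ ⊕ κ, B (b i) (b i) = 0 := fun i => B_self hb i
  -- the two rational root elements
  have hgH : T B hB (b x) (b t) ∈ H := hMH (T_rat_mem hB hb hS (rat_basis hb F₀ _) (rat_basis hb F₀ _))
  have hg'H : T B hB (b z) (b t') ∈ H :=
    hMH (T_rat_mem hB hb hS (rat_basis hb F₀ _) (rat_basis hb F₀ _))
  obtain ⟨d, hd⟩ : ∃ d, d = B a (b x) • b t + B a (b t) • b x := ⟨_, rfl⟩
  obtain ⟨d', hd'⟩ : ∃ d', d' = B a (b z) • b t' + B a (b t') • b z := ⟨_, rfl⟩
  have hga : T B hB (b x) (b t) a = a + d := by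
    rw [T_apply B hB (Bz hxt), hd]; abel
  have hg'a : T B hB (b z) (b t') a = a + d' := by
    rw [T_apply B hB (Bz hzt'), hd']; abel
  have h1 : B a d = 0 := by
    rw [hd, map_add, map_smul, map_smul, smul_eq_mul, smul_eq_mul]
    linear_combination (B a (b x) * B a (b t)) * h2
  have h1' : B a d' = 0 := by
    rw [hd', map_add, map_smul, map_smul, smul_eq_mul, smul_eq_mul]
    linear_combination (B a (b z) * B a (b t')) * h2
  have hdz : B d (b z) = 0 := by
    rw [hd]; simp [Bz hxz, Bz htz]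
  have hdt' : B d (b t') = 0 := by
    rw [hd]; simp [Bz hxt', Bz htt']
  have h3 : B d d' = 0 := by
    rw [hd', map_add, map_smul, map_smul, hdz, hdt']; simp
  have hg'd : T B hB (b z) (b t') (a + d) = a + d + d' := by
    rw [map_add, hg'a, T_apply B hB (Bz hzt'), hdz, hdt']
    simp only [zero_smul, add_zero]
    abel
  -- the first family
  have fam0 : Fam hB F₀ H d' d := by
    intro c hc
    have k0 := ha c hc
    have k1 := PH_map hB ha hgH (T_mem_isoGroup B hB _ _)
    rw [hga] at k1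
    have k2 := PH_map hB ha hg'H (T_mem_isoGroup B hB _ _)
    rw [hg'a] at k2
    have k3 := PH_map hB k1 hg'H (T_mem_isoGroup B hB _ _)
    rw [hg'd] at k3
    have := H.mul_mem (H.mul_mem (H.mul_mem (k3 c hc) (k2 (-c) (F₀.neg_mem hc)))
      (k1 (-c) (F₀.neg_mem hc))) k0
    rwa [stv_four B hB h1 h1' h3] at this
  -- first extraction
  have hd'x : B d' (b x) = 0 := by
    rw [hd']; simp [Bz ht'x, Bz hzx]
  have hd'ts : B d' (b t.swap) = 0 := by
    rw [hd']; simp [Bz (show pr t' ≠ pr t.swap by rw [pr_swap]; exact ht't),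
      Bz (show pr z ≠ pr t.swap by rw [pr_swap]; exact hzt)]
  have hxts : B (b x) (b t.swap) = 0 := Bz (by rw [pr_swap]; exact hxt)
  have fam1 : Fam hB F₀ H ((B a (b x) * sg F t) • b x) d' := by
    apply extract_orth hB (q := d) (u := T B hB (b x) (b t.swap)) (alt_zero B hB h3) hd'x _
      (hMH (T_rat_mem hB hb hS (rat_basis hb F₀ _) (rat_basis hb F₀ _)))
      (T_mem_isoGroup B hB _ _) _ _ fam0
    · rw [hd]; simp [Bz hxt, Bs x]
    · rw [T_apply B hB hxts, hd'x, hd'ts]; simp
    · rw [T_apply B hB hxts, hd]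
      simp [Bz htx, Bs x, hxts, B_swap hb t]
  -- second extraction
  have hxt's : B (b x) (b t'.swap) = 0 := Bz (by rw [pr_swap]; exact hxt')
  have hzt's : B (b z) (b t'.swap) = 0 := Bz (by rw [pr_swap]; exact hzt')
  have fam2 : Fam hB F₀ H ((B a (b z) * sg F t') • b z) ((B a (b x) * sg F t) • b x) := by
    apply extract_orth hB (q := d') (u := T B hB (b z) (b t'.swap)) _ _ _
      (hMH (T_rat_mem hB hb hS (rat_basis hb F₀ _) (rat_basis hb F₀ _)))
      (T_mem_isoGroup B hB _ _) _ _ fam1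
    · rw [hd']; simp [Bz hxt', Bz hxz]
    · simp [Bz hxz]
    · rw [hd']; simp [Bz hzt', Bs z]
    · rw [T_apply B hB hzt's]; simp [Bz hxz, hxt's]
    · rw [T_apply B hB hzt's, hd']
      simp [Bz ht'z, Bs z, hzt's, B_swap hb t']
  -- conclusion
  have h5 := fam2 1 F₀.one_mem
  rw [one_smul, ← T_smul_swap B hB (by simp [Bz hzx]), smul_smul] at h5
  have h6 := hstar _ z x hzx h5
  have h7 := F₀.mul_mem h6 (F₀.mul_mem (sg_mem F₀ t) (sg_mem F₀ t'))
  have e7 : B a (b x) * sg F t * (B a (b z) * sg F t') * (sg F t * sg F t') =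
      B a (b x) * B a (b z) := by
    have e1 := sg_mul_self (F := F) t
    have e2 := sg_mul_self (F := F) t'
    linear_combination (B a (b x) * B a (b z) * sg F t' * sg F t') * e1 +
      (B a (b x) * B a (b z)) * e2
  rwa [e7] at h7

end Cfsg.Agent.Lib.Helper38_SpSub7
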