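import Mathlib
import Cfsg.Agent.Lib.Helper94_Symp
import Cfsg.Agent.Lib.Helper38_SpSub1
import Cfsg.Agent.Lib.Helper38_SpSub2
import Cfsg.Agent.Lib.Helper38_SpSub3
import Cfsg.Agent.Lib.Helper38_SpSub4
import Cfsg.Agent.Lib.Helper38_SpSub5
import Cfsg.Agent.Lib.Helper38_SpSub6
import Cfsg.Agent.Lib.Helper38_SpSub7

set_option autoImplicit false
set_option linter.unusedSimpArgs false
set_option linter.unusedSectionVars false
set_option linter.unnecessarySimpa false
set_option linter.style.haveILetI false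

/-!
Maximality of the rational symplectic group (extended by scalars) in the symplectic group over a
finite field extension of prime degree, abstract version.
-/

namespace Cfsg.Agent.Lib.Helper38_SpSub8

open Cfsg.Agent.Lib.Helper94_Symp Cfsg.Agent.Lib.Helper38_SpSub1 Cfsg.Agent.Lib.Helper38_SpSub2
  Cfsg.Agent.Lib.Helper38_SpSub3 Cfsg.Agent.Lib.Helper38_SpSub4
  Cfsg.Agent.Lib.Helper38_SpSub5 Cfsg.Agent.Lib.Helper38_SpSub6 Cfsg.Agent.Lib.Helper38_SpSub7

variable {F V : Type*} [Field F] [AddCommGroup V] [Module F V]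
variable {κ : Type*} [Fintype κ] [DecidableEq κ]
variable {B : LinearMap.BilinForm F V} (hB : B.IsAlt)
variable {F₀ : Subfield F} {H : Subgroup (V ≃ₗ[F] V)}
variable {b : Module.Basis (κ ⊕ κ) F V} (hb : IsSymp B b)
variable {S : Subgroup (V ≃ₗ[F] V)} (hS : IsRatGroup b B F₀ S)
variable (hMH : S ⊓ isoGroup B ≤ H)
variable (hstar : ∀ (c : F) (x z : κ ⊕ κ), pr x ≠ pr z → T B hB (c • b x) (b z) ∈ H → c ∈ F₀)

include hb hS hMH hstar in
lemma K1 (h4 : 4 ≤ Fintype.card κ) {a : V} (ha : PH hB F₀ H a) {x z : κ ⊕ κ}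
    (hxz : pr x ≠ pr z) : B a (b x) * B a (b z) ∈ F₀ := by
  by_cases h2 : (2 : F) = 0
  · exact K1_even hB hb hS hMH h2 h4 hstar ha hxz
  · exact K1_odd hB hb hS hMH h2 hstar ha hxz

include hb hS hMH hstar in
lemma K2 (h4 : 4 ≤ Fintype.card κ) {a : V} (ha : PH hB F₀ H a) (z : κ ⊕ κ) :
    B a (b z) * B a (b z) ∈ F₀ := by
  obtain ⟨y, hy⟩ := exists_fresh ({pr z} : Finset κ) (by rw [Finset.card_singleton]; omega)
  simp only [Finset.mem_singleton] at hy
  have hzy := Ne.symm hy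
  have hzys : pr z ≠ pr y.swap := by rw [pr_swap]; exact hzy
  have hkM : T B hB (sg F y • b y.swap) (b z) ∈ S ⊓ isoGroup B :=
    T_rat_mem hB hb hS (rat_smul F₀ (sg_mem F₀ y) (rat_basis hb F₀ _)) (rat_basis hb F₀ _)
  have hkI := hkM.2
  have hkH := hMH hkM
  have hpq : B (sg F y • b y.swap) (b z) = 0 := by simp [B_of_pr_ne hb (Ne.symm hzys)]
  have ha2 := PH_map hB ha (H.inv_mem hkH) ((isoGroup B).inv_mem hkI)
  have e1 : B ((T B hB (sg F y • b y.swap) (b z))⁻¹ a) (b y) = B a (b y) + B a (b z) := by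
    rw [isoGroup_inv_apply hkI, T_apply B hB hpq]
    simp [B_of_pr_ne hb hy, B_swap hb y, sg_mul_self]
  have e2 : B ((T B hB (sg F y • b y.swap) (b z))⁻¹ a) (b z) = B a (b z) := by
    rw [isoGroup_inv_apply hkI, T_apply B hB hpq]
    simp [B_of_pr_ne hb hzys, B_self hb z]
  have k1 := K1 hB hb hS hMH hstar h4 ha2 hy
  rw [e1, e2] at k1
  have k2 := K1 hB hb hS hMH hstar h4 ha hy
  have := F₀.sub_mem k1 k2
  have e3 : (B a (b y) + B a (b z)) * B a (b z) - B a (b y) * B a (b z) =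
      B a (b z) * B a (b z) := by ring
  rwa [e3] at this

include hb hS hMH hstar in
lemma K3 (h4 : 4 ≤ Fintype.card κ) (h2 : (2 : F) ≠ 0) {a : V} (ha : PH hB F₀ H a)
    (y : κ ⊕ κ) : B a (b y) * B a (b y.swap) ∈ F₀ := by
  have hkM : stv B hB (b y.swap) (sg F y) ∈ S ⊓ isoGroup B :=
    stv_rat_mem hB hb hS (rat_basis hb F₀ _) (sg_mem F₀ y)
  have hkI := hkM.2
  have hkH := hMH hkM
  have ha2 := PH_map hB ha (H.inv_mem hkH) ((isoGroup B).inv_mem hkI)
  have e1 : B ((stv B hB (b y.swap) (sg F y))⁻¹ a) (b y) = B a (b y) + B a (b y.swap) := by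
    rw [isoGroup_inv_apply hkI, stv_apply, B_swap hb, sg_mul_self, one_smul, map_add]
  have k1 := K2 hB hb hS hMH hstar h4 ha2 y
  rw [e1] at k1
  have k2 := K2 hB hb hS hMH hstar h4 ha y
  have k3 := K2 hB hb hS hMH hstar h4 ha y.swap
  have h2m : (2 : F)⁻¹ ∈ F₀ := by
    apply F₀.inv_mem
    have : (2 : F) = ((2 : ℕ) : F) := by norm_num
    rw [this]
    exact natCast_mem F₀ 2
  have := F₀.mul_mem h2m (F₀.sub_mem (F₀.sub_mem k1 k2) k3)
  have e3 : (2 : F)⁻¹ * ((B a (b y) + B a (b y.swap)) * (B a (b y) + B a (b y.swap)) -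
      B a (b y) * B a (b y) - B a (b y.swap) * B a (b y.swap)) = B a (b y) * B a (b y.swap) := by
    field_simp
    ring
  rwa [e3] at this

include hb hS hMH hstar in
lemma K2' [Finite F] (h4 : 4 ≤ Fintype.card κ) (h2 : (2 : F) = 0) {a : V} (ha : PH hB F₀ H a)
    (z : κ ⊕ κ) : B a (b z) ∈ F₀ := by
  have k := K2 hB hb hS hMH hstar h4 ha z
  have h20 : ((2 : ℕ) : F₀) = 0 := by
    apply Subtype.ext
    push_cast
    exact h2
  have hch : ringChar F₀ = 2 := CharP.ringChar_of_prime_eq_zero Nat.prime_two h20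
  obtain ⟨s, hs⟩ := FiniteField.isSquare_of_char_two hch ⟨_, k⟩
  have hs' : B a (b z) * B a (b z) = (s : F) * (s : F) := by
    have := congrArg (Subtype.val) hs
    simpa using this
  have e : (B a (b z) - s) * (B a (b z) - s) = 0 := by
    linear_combination hs' + (s * s - B a (b z) * s) * h2
  have : B a (b z) - s = 0 := by
    rcases mul_eq_zero.mp e with h | h <;> exact h
  rw [sub_eq_zero] at this
  rw [this]
  exact s.2

include hb hS hMH hstar in
lemma K_all [Finite F] (h4 : 4 ≤ Fintype.card κ) {a : V} (ha : PH hB F₀ H a) (y z : κ ⊕ κ) :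
    B a (b y) * B a (b z) ∈ F₀ := by
  by_cases h2 : (2 : F) = 0
  · exact F₀.mul_mem (K2' hB hb hS hMH hstar h4 h2 ha y) (K2' hB hb hS hMH hstar h4 h2 ha z)
  · by_cases hp : pr y = pr z
    · rcases eq_or_eq_swap_of_pr_eq hp with h | h
      · rw [h]; exact K2 hB hb hS hMH hstar h4 ha y
      · rw [h]; exact K3 hB hb hS hMH hstar h4 h2 ha y
    · exact K1 hB hb hS hMH hstar h4 ha hp

include hb hS hMH hstar in
/-- A vector all of whose rational transvections lie in `H` is a multiple of a rational vector. -/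
lemma PH_scaled [Finite F] (h4 : 4 ≤ Fintype.card κ) {a : V} (ha : PH hB F₀ H a) :
    ∃ (l : F) (w : V), Rat b B F₀ w ∧ a = l • w := by
  by_cases h : ∀ y, B a (b y) = 0
  · exact ⟨1, 0, rat_zero F₀, by rw [eq_zero_of_forall hb a h, smul_zero]⟩
  · push Not at h
    obtain ⟨y₀, hy₀⟩ := h
    obtain ⟨w, hw, haw⟩ := rat_of_scaled F₀ (b := b) (B := B) (a := a) hy₀ (by
      intro y
      have h1 := K_all hB hb hS hMH hstar h4 ha y₀ y
      have h2 := K_all hB hb hS hMH hstar h4 ha y₀ y₀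
      have := F₀.mul_mem h1 (F₀.inv_mem h2)
      have e : B a (b y₀) * B a (b y) * (B a (b y₀) * B a (b y₀))⁻¹ = (B a (b y₀))⁻¹ * B a (b y) := by
        field_simp
      rwa [e] at this)
    exact ⟨_, w, hw, haw⟩

end Cfsg.Agent.Lib.Helper38_SpSub8
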