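import Mathlib
import Cfsg.Agent.Lib.Helper94_Symp
import Cfsg.Agent.Lib.Helper38_SpSub1
import Cfsg.Agent.Lib.Helper38_SpSub2
import Cfsg.Agent.Lib.Helper38_SpSub3
import Cfsg.Agent.Lib.Helper38_SpSub4
import Cfsg.Agent.Lib.Helper38_SpSub6
import Cfsg.Agent.Lib.Helper38_SpSub8

set_option autoImplicit false
set_option linter.unusedSimpArgs false
set_option linter.unusedSectionVars false
set_option linter.unnecessarySimpa false
set_option linter.style.haveILetI false

/-!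
Maximality of the rational symplectic group (extended by scalars) in the symplectic group over a
finite field extension of prime degree, abstract version: the main theorem.
-/

namespace Cfsg.Agent.Lib.Helper38_SpSub9

open Cfsg.Agent.Lib.Helper94_Symp Cfsg.Agent.Lib.Helper38_SpSub1 Cfsg.Agent.Lib.Helper38_SpSub2
  Cfsg.Agent.Lib.Helper38_SpSub3 Cfsg.Agent.Lib.Helper38_SpSub4
  Cfsg.Agent.Lib.Helper38_SpSub6 Cfsg.Agent.Lib.Helper38_SpSub8

variable {F V : Type*} [Field F] [AddCommGroup V] [Module F V]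
variable {κ : Type*} [Fintype κ] [DecidableEq κ]
variable {B : LinearMap.BilinForm F V} (hB : B.IsAlt)
variable {F₀ : Subfield F}
variable {b : Module.Basis (κ ⊕ κ) F V} (hb : IsSymp B b)
variable {S : Subgroup (V ≃ₗ[F] V)} (hS : IsRatGroup b B F₀ S)

include hb in
/-- The anchor lemma. -/
lemma anchor {k : V ≃ₗ[F] V} (hk : k ∈ isoGroup B)
    (hlin : ∀ v, Rat b B F₀ v → ∃ (l : F) (w : V), Rat b B F₀ w ∧ k v = l • w)
    {y wy : V} {ν : F} (hy : Rat b B F₀ y) (hwy : Rat b B F₀ wy) (hky : k y = ν • wy)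
    {v : V} (hv : Rat b B F₀ v) (hvy : B v y ≠ 0) :
    ∃ w, Rat b B F₀ w ∧ k v = ν⁻¹ • w := by
  obtain ⟨l, w', hw', hkv⟩ := hlin v hv
  have h1 : B v y = l * (ν * B w' wy) := by
    rw [← hk v y, hkv, hky, map_smul, map_smul, LinearMap.smul_apply, smul_eq_mul, smul_eq_mul]
    ring
  have ht : B w' wy ∈ F₀ := rat_pair hb F₀ hw' hwy
  have hν : ν ≠ 0 := by
    rintro rfl
    rw [zero_mul, mul_zero] at h1
    exact hvy h1
  have ht0 : B w' wy ≠ 0 := by
    intro h
    rw [h, mul_zero, mul_zero] at h1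
    exact hvy h1
  refine ⟨(B v y * (B w' wy)⁻¹) • w',
    rat_smul F₀ (F₀.mul_mem (rat_pair hb F₀ hv hy) (F₀.inv_mem ht)) hw', ?_⟩
  rw [hkv, smul_smul]
  congr 1
  rw [h1]
  field_simp

include hb hS in
/-- An isometry mapping rational vectors to multiples of rational vectors lies in `S`. -/
lemma mem_S_of_lin [Nonempty κ] {k : V ≃ₗ[F] V} (hk : k ∈ isoGroup B)
    (hlin : ∀ v, Rat b B F₀ v → ∃ (l : F) (w : V), Rat b B F₀ w ∧ k v = l • w) : k ∈ S := by
  obtain ⟨i₀⟩ := ‹Nonempty κ›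
  obtain ⟨x₀, hx₀⟩ : ∃ x₀ : κ ⊕ κ, x₀ = Sum.inl i₀ := ⟨_, rfl⟩
  have hre : Rat b B F₀ (b x₀) := rat_basis hb F₀ _
  have hrf : Rat b B F₀ (b x₀.swap) := rat_basis hb F₀ _
  have hef : B (b x₀) (b x₀.swap) ≠ 0 := by rw [B_swap hb]; exact sg_ne_zero _
  have hfe : B (b x₀.swap) (b x₀) ≠ 0 := by
    rw [B_swap' hb]; exact neg_ne_zero.mpr (sg_ne_zero _)
  obtain ⟨μ, w₁, hw₁, hke⟩ := hlin _ hre
  have hμ : μ ≠ 0 := by
    rintro rfl
    rw [zero_smul] at hke
    have : b x₀ = 0 := by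
      have := congrArg (⇑k⁻¹) hke
      rwa [inv_apply_apply', map_zero] at this
    exact b.ne_zero x₀ this
  -- the sum of the two basis vectors
  have hrv : Rat b B F₀ (b x₀ + b x₀.swap) := rat_add F₀ hre hrf
  obtain ⟨wf, hwf, hkf⟩ := anchor hb hk hlin hre hw₁ hke hrf hfe
  have hv2e : B (b x₀ + b x₀.swap) (b x₀) ≠ 0 := by
    rw [map_add, LinearMap.add_apply, B_self hb, zero_add]; exact hfe
  have hv2f : B (b x₀ + b x₀.swap) (b x₀.swap) ≠ 0 := by
    rw [map_add, LinearMap.add_apply, B_self hb, add_zero]; exact hef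
  obtain ⟨w₂, hw₂, hk2⟩ := anchor hb hk hlin hre hw₁ hke hrv hv2e
  obtain ⟨w₃, hw₃, hk3⟩ := anchor hb hk hlin hrf hwf hkf hrv hv2f
  rw [inv_inv] at hk3
  have hw₃0 : w₃ ≠ 0 := by
    rintro rfl
    rw [smul_zero] at hk3
    have : b x₀ + b x₀.swap = 0 := by
      have := congrArg (⇑k⁻¹) hk3
      rwa [inv_apply_apply', map_zero] at this
    rw [this, map_zero, LinearMap.zero_apply] at hv2e
    exact hv2e rfl
  have hex : ∃ y, B w₃ (b y) ≠ 0 := by
    by_contra hcon
    push Not at hcon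
    exact hw₃0 (eq_zero_of_forall hb w₃ hcon)
  obtain ⟨y, hy⟩ := hex
  have hμ2 : μ * μ ∈ F₀ := by
    have h1 : w₂ = (μ * μ) • w₃ := by
      have := hk2.symm.trans hk3
      calc w₂ = μ • (μ⁻¹ • w₂) := by rw [smul_smul, mul_inv_cancel₀ hμ, one_smul]
        _ = μ • (μ • w₃) := by rw [this]
        _ = (μ * μ) • w₃ := by rw [smul_smul]
    have h2 : B w₂ (b y) = (μ * μ) * B w₃ (b y) := by
      rw [h1, map_smul, LinearMap.smul_apply, smul_eq_mul]
    have h3 : μ * μ = B w₂ (b y) * (B w₃ (b y))⁻¹ := by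
      rw [h2]; field_simp
    rw [h3]
    exact F₀.mul_mem (hw₂ y) (F₀.inv_mem (hw₃ y))
  -- vectors pairing nontrivially with the first basis vector
  have case1 : ∀ v, Rat b B F₀ v → B v (b x₀) ≠ 0 → ∃ w, Rat b B F₀ w ∧ k v = μ • w := by
    intro v hv hve
    obtain ⟨w, hw, hkv⟩ := anchor hb hk hlin hre hw₁ hke hv hve
    refine ⟨(μ * μ)⁻¹ • w, rat_smul F₀ (F₀.inv_mem hμ2) hw, ?_⟩
    rw [hkv, smul_smul]
    congr 1
    field_simp
  refine (hS k).mpr ⟨μ, hμ, ?_⟩
  intro v hv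
  by_cases hve : B v (b x₀) = 0
  · obtain ⟨wa, hwa, hka⟩ := case1 (v + b x₀.swap) (rat_add F₀ hv hrf) (by
      rw [map_add, LinearMap.add_apply, hve, zero_add]; exact hfe)
    obtain ⟨wb, hwb, hkb⟩ := case1 (b x₀.swap) hrf hfe
    refine ⟨wa - wb, rat_sub F₀ hwa hwb, ?_⟩
    rw [smul_sub, ← hka, ← hkb, map_add, add_sub_cancel_right]
  · exact case1 v hv hve

include hB hb hS in
/-- The rational group is a proper subgroup of the symplectic group. -/
lemma proper [Nonempty κ] {l : F} (hl : l ∉ F₀) : S ⊓ isoGroup B < isoGroup B := by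
  refine lt_of_le_of_ne inf_le_right ?_
  intro heq
  obtain ⟨i₀⟩ := ‹Nonempty κ›
  obtain ⟨x₀, hx₀⟩ : ∃ x₀ : κ ⊕ κ, x₀ = Sum.inl i₀ := ⟨_, rfl⟩
  have hrf : Rat b B F₀ (b x₀.swap) := rat_basis hb F₀ _
  have hmem : stv B hB (b x₀) l ∈ S ⊓ isoGroup B := by
    rw [heq]; exact stv_mem_isoGroup _ _ _ _
  obtain ⟨μ, hμ, h⟩ := (hS _).mp hmem.1
  obtain ⟨w, hw, hkw⟩ := h _ hrf
  rw [stv_apply, B_swap' hb] at hkw
  have h1 : B (μ • w) (b x₀) = - sg F x₀ := by
    rw [← hkw, map_add, LinearMap.add_apply, B_swap' hb, map_smul, LinearMap.smul_apply, B_self hb,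
      smul_zero, add_zero]
  have h2 : B (μ • w) (b x₀.swap) = l * - sg F x₀ * sg F x₀ := by
    rw [← hkw, map_add, LinearMap.add_apply, B_self hb, map_smul, LinearMap.smul_apply, B_swap hb,
      zero_add, smul_eq_mul]
  rw [map_smul, LinearMap.smul_apply, smul_eq_mul] at h1 h2
  have hwe : B w (b x₀) ≠ 0 := by
    intro h0
    rw [h0, mul_zero] at h1
    exact sg_ne_zero (F := F) x₀ (neg_eq_zero.mp h1.symm)
  have hμ0 : μ ∈ F₀ := by
    have : μ = - sg F x₀ * (B w (b x₀))⁻¹ := by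
      rw [← h1]; field_simp
    rw [this]
    exact F₀.mul_mem (F₀.neg_mem (sg_mem F₀ _)) (F₀.inv_mem (hw _))
  apply hl
  have : l = - (μ * B w (b x₀.swap)) := by
    rw [h2]
    have := sg_mul_self (F := F) x₀
    linear_combination (-l) * this
  rw [this]
  exact F₀.neg_mem (F₀.mul_mem hμ0 (hw _))

include hB hb hS in
/-- **Maximality of the rational symplectic group**, abstract version. -/
theorem maximal_rat [Finite F] (h6 : 6 ≤ Fintype.card κ) (hp : (Module.finrank F₀ F).Prime) :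
    (S ⊓ isoGroup B < isoGroup B) ∧
      ∀ H : Subgroup (V ≃ₗ[F] V), S ⊓ isoGroup B ≤ H → H ≤ isoGroup B →
        H = S ⊓ isoGroup B ∨ H = isoGroup B := by
  haveI : Nonempty κ := Fintype.card_pos_iff.mp (by omega)
  constructor
  · -- an irrational scalar
    have hex : ∃ l : F, l ∉ F₀ := by
      by_contra hcon
      push Not at hcon
      haveI := Subalgebra.isSimpleOrder_of_finrank_prime F₀ F hp
      have : (⊥ : Subalgebra F₀ F) = ⊤ := by
        ext x
        simp only [Algebra.mem_bot, Algebra.mem_top, iff_true]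
        exact ⟨⟨x, hcon x⟩, rfl⟩
      exact bot_ne_top this
    obtain ⟨l, hl⟩ := hex
    exact proper hB hb hS hl
  · intro H hMH hHK
    by_cases hstar : ∀ (c : F) (x z : κ ⊕ κ), pr x ≠ pr z → T B hB (c • b x) (b z) ∈ H → c ∈ F₀
    · left
      apply le_antisymm _ hMH
      intro k hkH
      have hkI := hHK hkH
      refine ⟨mem_S_of_lin hb hS hkI ?_, hkI⟩
      intro v hv
      have hPv : PH hB F₀ H v := fun c hc => hMH (stv_rat_mem hB hb hS hv hc)
      exact PH_scaled hB hb hS hMH hstar (by omega) (PH_map hB hPv hkH hkI)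
    · right
      push Not at hstar
      obtain ⟨c, x, z, hxz, hT, hc⟩ := hstar
      have hR := Rset_top hB hb hS hMH h6 hp hc hxz hT
      exact le_antisymm hHK (iso_le_of_Rset hB hb hS hMH hR (by omega))

end Cfsg.Agent.Lib.Helper38_SpSub9
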