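import Mathlib
import Cfsg.Prelude.Def_GeometricClasses
import Cfsg.Agent.Lib.Helper94_Symp
import Cfsg.Agent.Lib.Helper94_Bridge
import Cfsg.Agent.Lib.Helper94_SubfieldBridge
import Cfsg.Agent.Lib.Helper38_SpSub2
import Cfsg.Agent.Lib.Helper38_SpSub9
import Cfsg.Agent.S0752

set_option autoImplicit false
set_option linter.unusedSimpArgs false
set_option linter.unusedSectionVars false
set_option linter.unnecessarySimpa false
set_option linter.style.haveILetI false

/-!
Bridge: a form-rational structure for the standard symplectic form yields a rational symplectic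
basis.
-/

namespace Cfsg.Agent.Lib.Helper38_SpSubBridge

open Matrix Cfsg.Agent.Lib.Helper94_Symp Cfsg.Agent.Lib.Helper94_Bridge
  Cfsg.Agent.Lib.Helper94_SubfieldBridge Cfsg.Agent.Lib.Helper38_SpSub2

section General

variable {F V : Type*} [Field F] [AddCommGroup V] [Module F V]

lemma isoGroup_smul (B : LinearMap.BilinForm F V) {ζ : F} (hζ : ζ ≠ 0) :
    isoGroup (ζ • B) = isoGroup B := by
  ext g
  simp only [mem_isoGroup, LinearMap.smul_apply, smul_eq_mul]
  constructor
  · intro h u v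
    exact mul_left_cancel₀ hζ (h u v)
  · intro h u v
    rw [h]

lemma isAlt_smul {B : LinearMap.BilinForm F V} (hB : B.IsAlt) (ζ : F) : (ζ • B).IsAlt := by
  intro x
  simp [hB x]

end General

variable {ι : Type} [Fintype ι] [DecidableEq ι] {F : Type*} [Field F]

/-- Coercion of rational coordinate vectors. -/
def cv (F₀ : Subfield F) (u : ι → F₀) : ι → F := fun i => (u i : F)

lemma cv_add (F₀ : Subfield F) (u v : ι → F₀) : cv F₀ (u + v) = cv F₀ u + cv F₀ v := by
  ext i; simp [cv]

lemma cv_smul (F₀ : Subfield F) (c : F₀) (u : ι → F₀) : cv F₀ (c • u) = (c : F) • cv F₀ u := by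
  ext i; simp [cv]

lemma cv_mem (F₀ : Subfield F) (u : ι → F₀) (i : ι) : cv F₀ u i ∈ F₀ := (u i).2

lemma ratV_smul {F₀ : Subfield F} {P : Matrix ι ι F} {c : F} (hc : c ∈ F₀) {x : ι → F}
    (hx : x ∈ ratV F₀ P) : c • x ∈ ratV F₀ P := by
  obtain ⟨u, hu, rfl⟩ := hx
  exact ⟨c • u, fun i => F₀.mul_mem hc (hu i), by rw [Matrix.mulVec_smul]⟩

lemma ratV_cv {F₀ : Subfield F} (P : Matrix ι ι F) (u : ι → F₀) : P *ᵥ cv F₀ u ∈ ratV F₀ P :=
  ⟨cv F₀ u, cv_mem F₀ u, rfl⟩

lemma ratV_exists_cv {F₀ : Subfield F} {P : Matrix ι ι F} {x : ι → F} (hx : x ∈ ratV F₀ P) :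
    ∃ u : ι → F₀, x = P *ᵥ cv F₀ u := by
  obtain ⟨u, hu, rfl⟩ := hx
  exact ⟨fun i => ⟨u i, hu i⟩, rfl⟩

/-- The rational form on rational coordinate vectors. -/
def B₀ (F₀ : Subfield F) (P : Matrix ι ι F) (B : LinearMap.BilinForm F (ι → F))
    (h : ∀ u v : ι → F₀, B (P *ᵥ cv F₀ u) (P *ᵥ cv F₀ v) ∈ F₀) :
    LinearMap.BilinForm F₀ (ι → F₀) :=
  LinearMap.mk₂ F₀ (fun u v => ⟨B (P *ᵥ cv F₀ u) (P *ᵥ cv F₀ v), h u v⟩)
    (by
      intro u u' v
      apply Subtype.ext
      simp [cv_add, Matrix.mulVec_add])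
    (by
      intro c u v
      apply Subtype.ext
      simp [cv_smul, Matrix.mulVec_smul])
    (by
      intro u v v'
      apply Subtype.ext
      simp [cv_add, Matrix.mulVec_add])
    (by
      intro c u v
      apply Subtype.ext
      simp [cv_smul, Matrix.mulVec_smul])

lemma B₀_apply (F₀ : Subfield F) (P : Matrix ι ι F) (B : LinearMap.BilinForm F (ι → F))
    (h : ∀ u v : ι → F₀, B (P *ᵥ cv F₀ u) (P *ᵥ cv F₀ v) ∈ F₀) (u v : ι → F₀) :
    ((B₀ F₀ P B h u v : F₀) : F) = B (P *ᵥ cv F₀ u) (P *ᵥ cv F₀ v) := rfl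

lemma cv_single (F₀ : Subfield F) (i : ι) : cv F₀ (Pi.single i 1) = Pi.single i (1 : F) := by
  ext j
  by_cases h : j = i
  · subst h; simp [cv]
  · simp [cv, Pi.single_eq_of_ne h]

lemma cv_injective (F₀ : Subfield F) : Function.Injective (cv (ι := ι) F₀) := by
  intro u v h
  ext i
  exact congrFun h i

/-- A form-rational structure yields a rational symplectic basis. -/
theorem exists_rat_basis (F₀ : Subfield F) (P : GL ι F) (B : LinearMap.BilinForm F (ι → F))
    (hB : B.IsAlt) (hN : B.Nondegenerate)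
    (h : ∀ u v : ι → F₀, B ((P : Matrix ι ι F) *ᵥ cv F₀ u) ((P : Matrix ι ι F) *ᵥ cv F₀ v) ∈ F₀) :
    ∃ (m' : ℕ) (b : Module.Basis (Fin m' ⊕ Fin m') F (ι → F)), 2 * m' = Fintype.card ι ∧
      IsSymp B b ∧ ∀ v, v ∈ ratV F₀ (P : Matrix ι ι F) ↔ Rat b B F₀ v := by
  have hPP : ((P⁻¹ : GL ι F) : Matrix ι ι F) * (P : Matrix ι ι F) = 1 := by
    rw [← Units.val_mul, inv_mul_cancel, Units.val_one]
  have hPP' : (P : Matrix ι ι F) * ((P⁻¹ : GL ι F) : Matrix ι ι F) = 1 := by
    rw [← Units.val_mul, mul_inv_cancel, Units.val_one]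
  have hA₀ : (B₀ F₀ (P : Matrix ι ι F) B h).IsAlt := fun u => Subtype.ext (by
    rw [B₀_apply]; exact hB _)
  obtain ⟨m', k, b₀, h1, h2, h3, h4⟩ := Cfsg.Agent.S0752.result (B₀ F₀ (P : Matrix ι ι F) B h) hA₀
  -- the radical is trivial
  have hk : k = 0 := by
    rcases Nat.eq_zero_or_pos k with hk | hk
    · exact hk
    · exfalso
      obtain ⟨u₀, hu₀⟩ : ∃ u₀, u₀ = b₀ (Sum.inr ⟨0, hk⟩) := ⟨_, rfl⟩
      have hrad : ∀ v : ι → F₀,
          B ((P : Matrix ι ι F) *ᵥ cv F₀ u₀) ((P : Matrix ι ι F) *ᵥ cv F₀ v) = 0 := by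
        intro v
        have := h4 ⟨0, hk⟩ v
        rw [← hu₀] at this
        have h5 := congrArg Subtype.val this
        rwa [B₀_apply] at h5
      have hlin : (B ((P : Matrix ι ι F) *ᵥ cv F₀ u₀)).comp (Matrix.mulVecLin (P : Matrix ι ι F)) =
          0 := by
        apply (Pi.basisFun F ι).ext
        intro i
        rw [Pi.basisFun_apply, LinearMap.comp_apply, Matrix.mulVecLin_apply, ← cv_single F₀, hrad]
        rfl
      have hall : ∀ y, B ((P : Matrix ι ι F) *ᵥ cv F₀ u₀) y = 0 := by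
        intro y
        have := LinearMap.congr_fun hlin (((P⁻¹ : GL ι F) : Matrix ι ι F) *ᵥ y)
        rw [LinearMap.comp_apply, Matrix.mulVecLin_apply, Matrix.mulVec_mulVec, hPP',
          Matrix.one_mulVec] at this
        exact this
      have h0 := hN.1 _ hall
      have h0' : cv F₀ u₀ = 0 := by
        have := congrArg (fun x => ((P⁻¹ : GL ι F) : Matrix ι ι F) *ᵥ x) h0
        simpa [Matrix.mulVec_mulVec, hPP] using this
      have : u₀ = 0 := cv_injective F₀ (by rw [h0']; rfl)
      rw [hu₀] at this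
      exact b₀.ne_zero _ this
  subst hk
  -- the count
  have hcount : 2 * m' = Fintype.card ι := by
    have e1 := Module.finrank_eq_card_basis b₀
    rw [Module.finrank_fintype_fun_eq_card] at e1
    simp only [Fintype.card_sum, Fintype.card_fin] at e1
    omega
  -- the family
  obtain ⟨bF, hbF⟩ : ∃ bF : Fin m' ⊕ Fin m' → (ι → F),
      bF = fun y => (P : Matrix ι ι F) *ᵥ cv F₀ (b₀ (Sum.inl y)) := ⟨_, rfl⟩
  have hval : ∀ x y, B (bF x) (bF y) =
      ((B₀ F₀ (P : Matrix ι ι F) B h (b₀ (Sum.inl x)) (b₀ (Sum.inl y)) : F₀) : F) := by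
    intro x y
    rw [B₀_apply, hbF]
  have hsymp : ∀ x y, B (bF x) (bF y) = if y = x.swap then sg F x else 0 := by
    intro x y
    rw [hval]
    rcases x with i | i <;> rcases y with j | j
    · rw [h2]; simp
    · rw [h1]
      by_cases hij : i = j
      · subst hij; simp [sg]
      · have : ¬ j = i := fun h => hij h.symm
        simp [sg, hij, this]
    · rw [alt_swap _ hA₀, h1]
      by_cases hij : j = i
      · subst hij; simp [sg]
      · have : ¬ i = j := fun h => hij h.symm
        simp [sg, hij, this]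
    · rw [h3]; simp
  have hli : LinearIndependent F bF := by
    rw [Fintype.linearIndependent_iff]
    intro g hg z
    have h5 : B (∑ y, g y • bF y) (bF z.swap) = g z * sg F z := by
      rw [map_sum, LinearMap.sum_apply, Finset.sum_eq_single z]
      · rw [map_smul, LinearMap.smul_apply, hsymp, if_pos rfl, smul_eq_mul]
      · intro y _ hy
        rw [map_smul, LinearMap.smul_apply, hsymp, if_neg, smul_zero]
        intro h6
        have h7 := congrArg Sum.swap h6
        rw [Sum.swap_swap, Sum.swap_swap] at h7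
        exact hy h7.symm
      · intro h6
        exact absurd (Finset.mem_univ z) h6
    rw [hg, map_zero, LinearMap.zero_apply] at h5
    rcases mul_eq_zero.mp h5.symm with h6 | h6
    · exact h6
    · exact absurd h6 (sg_ne_zero z)
  have hm'pos : 0 < m' ∨ m' = 0 := by omega
  rcases hm'pos with hm'pos | hm'0
  · haveI : Nonempty (Fin m' ⊕ Fin m') := ⟨Sum.inl ⟨0, hm'pos⟩⟩
    have hcard : Fintype.card (Fin m' ⊕ Fin m') = Module.finrank F (ι → F) := by
      rw [Module.finrank_fintype_fun_eq_card]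
      simp only [Fintype.card_sum, Fintype.card_fin]
      omega
    obtain ⟨b, hb⟩ : ∃ b : Module.Basis (Fin m' ⊕ Fin m') F (ι → F), ⇑b = bF :=
      ⟨basisOfLinearIndependentOfCardEqFinrank hli hcard,
        coe_basisOfLinearIndependentOfCardEqFinrank hli hcard⟩
    have hbs : IsSymp B b := by
      intro x y
      rw [hb]
      exact hsymp x y
    refine ⟨m', b, hcount, hbs, ?_⟩
    intro v
    constructor
    · intro hv y
      obtain ⟨u, rfl⟩ := ratV_exists_cv hv
      rw [hb, hbF]
      exact h u _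
    · intro hv
      rw [expand hbs v]
      refine AddSubgroup.sum_mem _ fun w _ => ?_
      apply ratV_smul (F₀.mul_mem (sg_mem F₀ w) (hv _))
      rw [hb, hbF]
      exact ratV_cv _ _
  · -- degenerate case: the space is trivial
    subst hm'0
    haveI : IsEmpty ι := Fintype.card_eq_zero_iff.mp (by omega)
    refine ⟨0, Module.Basis.empty _, hcount, ?_, ?_⟩
    · intro x
      exact (IsEmpty.false x).elim
    · intro v
      constructor
      · intro _ y
        exact (IsEmpty.false y).elim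
      · intro _
        have : v = 0 := Subsingleton.elim _ _
        rw [this]
        exact (ratV F₀ (P : Matrix ι ι F)).zero_mem

end Cfsg.Agent.Lib.Helper38_SpSubBridge
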