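import Mathlib
import Cfsg.Agent.Lib.Helper94_UDDefs

set_option autoImplicit false
set_option linter.unusedSectionVars false
set_option linter.unusedVariables false

/-!
UD-B34 (helper94's S5655 market, blocks of dimension `k ≥ 2`): if `M ≰ S` there is a root vector
`u ∈ UU B M` which is not orthogonal to two different blocks.
-/

namespace Cfsg.Agent.Lib.Helper38_UD_B34

open Module Cfsg.Agent.Lib.Helper94_Symp Cfsg.Agent.Lib.Helper94_Herm
  Cfsg.Agent.Lib.Helper13_PSUSimple Cfsg.Agent.Lib.Helper27_UQDefs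
  Cfsg.Agent.Lib.Helper94_FrmDefs Cfsg.Agent.Lib.Helper94_UDDefs

variable {F V : Type*} [Field F] [AddCommGroup V] [Module F V] [Finite F] [FiniteDimensional F V]
variable {σ : F →+* F} {B : V →ₗ[F] V →ₛₗ[σ] F}
variable {t k : ℕ} {D : Fin t → Submodule F V} {S M : Subgroup (V ≃ₗ[F] V)}

/-- the vectors orthogonal to a whole subspace -/
def orthS (B : V →ₗ[F] V →ₛₗ[σ] F) (U : Submodule F V) : Submodule F V :=
  ⨅ z ∈ U, orthV B z

lemma mem_orthS {U : Submodule F V} {x : V} : x ∈ orthS B U ↔ ∀ z ∈ U, B x z = 0 := by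
  simp [orthS, Submodule.mem_iInf]

/-- a vector orthogonal to all blocks is zero -/
lemma all_orth (hC : Ctx B k D S M) (x : V) (hx : ∀ i, ∀ z ∈ D i, B x z = 0) : x = 0 := by
  by_contra hne
  obtain ⟨y, -, hy⟩ := hC.hN x Submodule.mem_top hne
  apply hy
  have hle : iSup D ≤ LinearMap.ker (B x) := by
    apply iSup_le
    intro i v hv
    rw [LinearMap.mem_ker]
    exact hx i v hv
  have hyD : y ∈ iSup D := by rw [hC.hsup]; trivial
  have := hle hyD
  rwa [LinearMap.mem_ker] at this

/-- a vector orthogonal to all blocks but one lies in that block -/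
lemma single (hC : Ctx B k D S M) (p : Fin t) (x : V)
    (hx : ∀ j, j ≠ p → ∀ z ∈ D j, B x z = 0) : x ∈ D p := by
  classical
  have hxtop : x ∈ iSup D := by rw [hC.hsup]; trivial
  rw [iSup_split_single D p, Submodule.mem_sup] at hxtop
  obtain ⟨a, ha, w, hw, rfl⟩ := hxtop
  have hwp : w ∈ orthS B (D p) := by
    have hle : (⨆ (j : Fin t) (_ : j ≠ p), D j) ≤ orthS B (D p) := by
      apply iSup_le
      intro j
      apply iSup_le
      intro hj v hv
      rw [mem_orthS]
      intro z hz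
      exact hC.horth j p hj v hv z hz
    exact hle hw
  have hw0 : w = 0 := by
    apply all_orth hC
    intro j z hz
    by_cases hj : j = p
    · rw [hj] at hz
      exact mem_orthS.mp hwp z hz
    · have h1 := hx j hj z hz
      rw [map_add, LinearMap.add_apply, hC.horth p j (Ne.symm hj) a ha z hz, zero_add] at h1
      exact h1
  rw [hw0, add_zero]
  exact ha

lemma map_eq (hC : Ctx B k D S M) (g : V ≃ₗ[F] V) (i j : Fin t) (h : ∀ x ∈ D i, g x ∈ D j) :
    (D i).map (g : V →ₗ[F] V) = D j := by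
  apply Submodule.eq_of_le_of_finrank_eq
  · rintro _ ⟨x, hx, rfl⟩
    exact h x hx
  · rw [LinearEquiv.finrank_map_eq g (D i), hC.hfr, hC.hfr]

lemma block_ne_bot (hC : Ctx B k D S M) (i : Fin t) : D i ≠ ⊥ := by
  intro h
  have h1 := hC.hfr i
  have h2 := hC.hk
  rw [h, finrank_bot] at h1
  omega

/-- isotropic vectors of blocks are root vectors -/
lemma block_UU (hC : Ctx B k D S M) (i : Fin t) (a : V) (ha : a ∈ D i) (haa : B a a = 0) :
    a ∈ UU B M := by
  refine ⟨haa, fun c hc => ?_⟩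
  apply hC.hHM
  refine ⟨(hC.hS _).mpr ⟨1, fun j => ?_⟩,
    Cfsg.Agent.Lib.Helper14_PSULocal1.utv_mem_SUg hC.hB a hc⟩
  rw [Equiv.Perm.one_apply]
  apply map_eq hC
  intro x hx
  show utv B a c x ∈ D j
  by_cases hji : j = i
  · rw [utv_apply B haa]
    rw [hji] at hx ⊢
    exact (D i).add_mem hx ((D i).smul_mem _ ha)
  · rw [utv_fix B a c (hC.horth j i hji x hx a ha)]
    exact hx

theorem B34 (hC : Ctx B k D S M) (hMS : ¬ M ≤ S) :
    ∃ u ∈ UU B M, ∃ p q : Fin t, p ≠ q ∧ (∃ z ∈ D p, B u z ≠ 0) ∧ (∃ z ∈ D q, B u z ≠ 0) := by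
  classical
  have hσ := hC.hσ
  have hB := hC.hB
  have hMu : M ≤ uG B := fun g hg => SUg_le_uG (hC.hMK hg)
  obtain ⟨g, hgM, hgS⟩ := SetLike.not_le_iff_exists.mp hMS
  have hgu : g ∈ uG B := hMu hgM
  -- some image of a block is not a block
  have hB3 : ∃ i, ∀ j, (D i).map (g : V →ₗ[F] V) ≠ D j := by
    by_contra hcon
    push Not at hcon
    choose σ0 hσ0 using hcon
    have hinj : Function.Injective σ0 := by
      intro i i' h
      have h1 : (D i).map (g : V →ₗ[F] V) = (D i').map (g : V →ₗ[F] V) := by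
        rw [hσ0 i, hσ0 i', h]
      have h2 : D i = D i' :=
        Submodule.map_injective_of_injective (f := (g : V →ₗ[F] V)) g.injective h1
      by_contra hne
      obtain ⟨a, haD, ha0⟩ := Submodule.exists_mem_ne_zero_of_ne_bot (block_ne_bot hC i)
      obtain ⟨x, hx, hxa⟩ := hC.hnd i a haD ha0
      exact hxa (hC.horth i i' hne a haD x (h2 ▸ hx))
    apply hgS
    rw [hC.hS]
    exact ⟨Equiv.ofBijective σ0 (Finite.injective_iff_bijective.mp hinj), fun i => by
      rw [Equiv.ofBijective_apply]; exact hσ0 i⟩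
  obtain ⟨i, hi⟩ := hB3
  have hUT : ∀ x ∈ D i, B x x = 0 → g x ∈ UU B M := fun x hx hxx =>
    UU_map hMu hgM (block_UU hC i x hx hxx)
  by_contra hcon
  push Not at hcon
  -- every isotropic image lies in a block
  have hone : ∀ x ∈ D i, B x x = 0 → ∃ p, g x ∈ D p := by
    intro x hx hxx
    by_cases hall' : ∀ p, ∀ z ∈ D p, B (g x) z = 0
    · refine ⟨i, ?_⟩
      rw [all_orth hC _ hall']
      exact Submodule.zero_mem _
    · push Not at hall'
      obtain ⟨p, z, hz, hpz⟩ := hall'
      refine ⟨p, single hC p _ ?_⟩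
      intro j hj z' hz'
      exact hcon _ (hUT x hx hxx) p j (Ne.symm hj) ⟨z, hz, hpz⟩ z' hz'
  -- two non-orthogonal vectors in blocks lie in the same block
  have hsame : ∀ (x y : V) (p q : Fin t), x ∈ D p → y ∈ D q → B x y ≠ 0 → p = q := by
    intro x y p q hx hy hxy
    by_contra hne
    exact hxy (hC.horth p q hne x hx y hy)
  -- a hyperbolic pair of `D i`
  have h2 : 2 ≤ finrank F (D i) := by rw [hC.hfr]; exact hC.hk
  obtain ⟨e, heU, f, hfU, he, hf, hef⟩ :=
    Cfsg.Agent.Lib.Helper94_HermIrr.exists_pair hσ hB (hC.hnd i)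
      (fun x => Cfsg.Agent.Lib.Helper94_HermWitt.exists_notMem_span1 h2 x)
  have he0 : e ≠ 0 := by
    intro h
    rw [h, map_zero, LinearMap.zero_apply] at hef
    exact zero_ne_one hef
  obtain ⟨p0, hp0⟩ := hone e heU he
  have hiso : ∀ x ∈ D i, B x x = 0 → g x ∈ D p0 := by
    intro x hx hxx
    by_cases hx0 : x = 0
    · rw [hx0, map_zero]
      exact Submodule.zero_mem _
    obtain ⟨p, hp⟩ := hone x hx hxx
    by_cases hex : B e x = 0
    · obtain ⟨b, hbU, hbb, heb, hxb⟩ :=
        exists_connect hσ hB (hC.hnd i) heU hx he0 hx0 he hex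
      obtain ⟨p', hp'⟩ := hone b hbU hbb
      have h1 : p0 = p' := hsame (g e) (g b) p0 p' hp0 hp' (by rw [hgu]; exact heb)
      have h2' : p = p' := hsame (g x) (g b) p p' hp hp' (by rw [hgu]; exact hxb)
      rw [h1, ← h2']
      exact hp
    · have h1 : p0 = p := hsame (g e) (g x) p0 p hp0 hp (by rw [hgu]; exact hex)
      rw [h1]
      exact hp
  have hsub : ∀ x ∈ D i, g x ∈ D p0 := by
    intro x hx
    have hspan := span_iso hσ hB heU hfU he hf hef x hx
    have hle : Submodule.span F {z | z ∈ D i ∧ B z z = 0} ≤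
        (D p0).comap (g : V →ₗ[F] V) := by
      rw [Submodule.span_le]
      rintro z ⟨hz, hzz⟩
      exact hiso z hz hzz
    exact hle hspan
  exact hi p0 (map_eq hC g i p0 hsub)

end Cfsg.Agent.Lib.Helper38_UD_B34
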