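import Mathlib
import Cfsg.Agent.Lib.Helper94_UDDefs

set_option autoImplicit false
set_option linter.unusedSectionVars false

/-!
UD-DIM (helper94's S5655 market, blocks of dimension `k ≥ 2`): the ambient space has dimension at
least four (two orthogonal nondegenerate blocks of dimension at least two are independent).
-/

namespace Cfsg.Agent.Lib.Helper38_UD_DIM

open Module Cfsg.Agent.Lib.Helper94_Symp Cfsg.Agent.Lib.Helper94_Herm
  Cfsg.Agent.Lib.Helper13_PSUSimple Cfsg.Agent.Lib.Helper27_UQDefs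
  Cfsg.Agent.Lib.Helper94_FrmDefs Cfsg.Agent.Lib.Helper94_UDDefs

variable {F V : Type*} [Field F] [AddCommGroup V] [Module F V] [Finite F] [FiniteDimensional F V]
variable {σ : F →+* F} {B : V →ₗ[F] V →ₛₗ[σ] F}
variable {t k : ℕ} {D : Fin t → Submodule F V} {S M : Subgroup (V ≃ₗ[F] V)}

theorem DIM (hC : Ctx B k D S M) : 4 ≤ finrank F V := by
  have ht := hC.ht
  set i0 : Fin t := ⟨0, by omega⟩ with hi0
  set i1 : Fin t := ⟨1, by omega⟩ with hi1
  have h01 : i0 ≠ i1 := by
    intro h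
    have := congrArg Fin.val h
    simp [hi0, hi1] at this
  have hdisj : D i0 ⊓ D i1 = ⊥ := by
    rw [eq_bot_iff]
    intro x hx
    obtain ⟨hx0, hx1⟩ := Submodule.mem_inf.mp hx
    rw [Submodule.mem_bot]
    by_contra hne
    obtain ⟨y, hy, hxy⟩ := hC.hnd i0 x hx0 hne
    exact hxy (hC.horth i1 i0 (Ne.symm h01) x hx1 y hy)
  have h1 := Submodule.finrank_sup_add_finrank_inf_eq (D i0) (D i1)
  rw [hdisj, finrank_bot, add_zero, hC.hfr, hC.hfr] at h1
  have h2 : finrank F ↥(D i0 ⊔ D i1) ≤ finrank F V := Submodule.finrank_le _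
  have hk := hC.hk
  omega

end Cfsg.Agent.Lib.Helper38_UD_DIM
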