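import Mathlib
import Cfsg.Agent.S0713
import Cfsg.Agent.Lib.Helper38_PermTools
import Cfsg.Agent.Lib.Helper38_W1310A0
import Cfsg.Agent.Lib.Helper38_W1310A1

/-!
# Wielandt 13.10: case A (the Sylow subgroup of the `r`-point stabiliser is not semiregular)
(helper38)
-/

set_option autoImplicit false
set_option linter.unusedSectionVars false

namespace Cfsg.Agent.Lib.Helper38_W1310A2

open Equiv MulAction
open Cfsg.Agent.S0713 (apply_inv_self' inv_apply_self')
open Cfsg.Agent.Lib.Helper38_PermTools Cfsg.Agent.Lib.Helper38_W1310A0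
open Cfsg.Agent.Lib.Helper38_W1310A1

universe u
variable {α : Type u} [Fintype α] [DecidableEq α]

/-- a Sylow `p`-subgroup of the pointwise stabiliser of `Γ` has no fixed points off `Γ` -/
theorem sylow_moves (G : Subgroup (Perm α)) {m : ℕ} (hG : IsMultiplyPretransitive G α m)
    (hm : m ≤ Fintype.card α) (Γ : Finset α) (hΓ : Γ.card < m) {p : ℕ} (hpdvd : p ∣ Γᶜ.card)
    (P : Subgroup (Perm α)) (hPK : P ≤ fixG G Γ) (hsyl : ¬ p ∣ P.relIndex (fixG G Γ)) :
    ∀ ψ ∉ Γ, ∃ u ∈ P, u ψ ≠ ψ := by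
  intro ψ hψ
  by_contra h
  push Not at h
  have hPle : P ≤ fixG G (insert ψ Γ) := by
    intro u hu
    rw [mem_fixG]
    refine ⟨(mem_fixG.mp (hPK hu)).1, fun x hx => ?_⟩
    rcases Finset.mem_insert.mp hx with rfl | hx
    · exact h u hu
    · exact (mem_fixG.mp (hPK hu)).2 x hx
  have h1 := Subgroup.relIndex_mul_relIndex P (fixG G (insert ψ Γ)) (fixG G Γ) hPle
    (fixG_mono G (Finset.subset_insert _ _))
  rw [relIndex_fixG_insert G hG hm Γ hΓ hψ] at h1
  exact hsyl (hpdvd.trans ⟨_, by rw [← h1]; ring⟩)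

theorem case_A (G : Subgroup (Perm α)) {k p r : ℕ} [hp : Fact p.Prime]
    (hn : Fintype.card α = k * p + r) (hk : 2 ≤ k) (hpk : k < p) (hrk : k < r) (hr3 : 3 ≤ r)
    (hG : IsMultiplyPretransitive G α (r + 1))
    (IH : ∀ k', k' < k → 1 ≤ k' → ∀ (β : Type u) [Fintype β] [DecidableEq β]
      (H : Subgroup (Perm β)), Fintype.card β = k' * p + r →
      IsMultiplyPretransitive H β (r + 1) → alternatingGroup β ≤ H)
    (Γ : Finset α) (hΓ : Γ.card = r) (ψ₀ : α) (hψ₀ : ψ₀ ∉ Γ)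
    (hdiv : p ∣ Nat.card (fixG G (insert ψ₀ Γ))) : alternatingGroup α ≤ G := by
  classical
  have hp2 := hp.out.two_le
  have hkp : k ≤ k * p := Nat.le_mul_of_pos_right k hp.out.pos
  have hnr : r + 1 ≤ Fintype.card α := by omega
  have hprim := isPreprimitive_of_multiply G hG (by omega) hnr
  have hK'K : fixG G (insert ψ₀ Γ) ≤ fixG G Γ := fixG_mono G (Finset.subset_insert _ _)
  -- the group `Q`
  obtain ⟨Q, -, hQK', hQp, hQsyl⟩ :=
    exists_sylow_ge (p := p) (fixG G (insert ψ₀ Γ)) ⊥ bot_le IsPGroup.of_bot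
  have hQne : ∃ q₀ ∈ Q, q₀ ≠ 1 := by
    by_contra h
    push Not at h
    have hbot : Q = ⊥ := (Subgroup.eq_bot_iff_forall _).mpr h
    have hc := card_mul_relIndex hQK'
    rw [hbot, Subgroup.card_bot, one_mul] at hc
    rw [hbot, hc] at hQsyl
    exact hQsyl hdiv
  obtain ⟨q₀, hq₀, hq₀1⟩ := hQne
  obtain ⟨P, hQP, hPK, hPp, hPsyl⟩ := exists_sylow_ge (fixG G Γ) Q (hQK'.trans hK'K) hQp
  have hPfix : ∀ u ∈ P, ∀ x ∈ Γ, u x = x := fun u hu => (mem_fixG.mp (hPK hu)).2
  have hPG : P ≤ G := hPK.trans (fixG_le _ _)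
  have hcompl : Γᶜ.card = k * p := by rw [Finset.card_compl, hΓ, hn]; omega
  have hno : ∀ ψ ∉ Γ, ∃ u ∈ P, u ψ ≠ ψ :=
    sylow_moves G hG hnr Γ (by omega) (by rw [hcompl]; exact dvd_mul_left _ _) P hPK hPsyl
  have hsmall : Γᶜ.card < p * p := by
    rw [hcompl]; exact Nat.mul_lt_mul_of_pos_right hpk hp.out.pos
  have hPcomm : ∀ u ∈ P, ∀ v ∈ P, u * v = v * u :=
    fun u hu v hv => comm_of_mem P Γ hPp hPfix hno hsmall hu hv
  have hPexp : ∀ u ∈ P, u ^ p = 1 := fun u hu => pow_prime_eq_one P Γ hPp hPfix hno hsmall hu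
  have hq₀ψ₀ : ∀ q ∈ Q, q ψ₀ = ψ₀ :=
    fun q hq => (mem_fixG.mp (hQK' hq)).2 ψ₀ (Finset.mem_insert_self _ _)
  rcases Nat.lt_or_ge k 3 with hk3 | hk3
  · -- `k = 2`
    have hk2 : k = 2 := by omega
    subst hk2
    have hord : orderOf q₀ = p := orderOf_eq_prime (hPexp q₀ (hQP hq₀)) hq₀1
    let O : Finset α := Finset.univ.filter (fun z => z ∈ orbit P ψ₀)
    have hOcard : O.card = p := by
      have : (O : Set α) = orbit P ψ₀ := by ext; simp [O]
      rw [← Set.ncard_coe_finset, this]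
      exact orbit_ncard_eq P Γ hPp hPfix hno hsmall hψ₀
    have hOsub : O ⊆ Γᶜ := by
      intro z hz
      rw [Finset.mem_filter] at hz
      obtain ⟨⟨u, hu⟩, rfl⟩ := hz.2
      rw [Finset.mem_compl]
      exact notMem_of_fix Γ (hPfix u hu) hψ₀
    have hq₀O : ∀ z ∈ O, q₀ z = z := by
      intro z hz
      rw [Finset.mem_filter] at hz
      obtain ⟨⟨u, hu⟩, rfl⟩ := hz.2
      change q₀ (u ψ₀) = u ψ₀
      rw [← Perm.mul_apply, hPcomm q₀ (hQP hq₀) u hu, Perm.mul_apply, hq₀ψ₀ q₀ hq₀]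
    have hsupp : q₀.support ⊆ Γᶜ \ O := by
      intro z hz
      rw [Finset.mem_sdiff, Finset.mem_compl]
      exact ⟨fun h => (Perm.mem_support.mp hz) (hPfix q₀ (hQP hq₀) z h),
        fun h => (Perm.mem_support.mp hz) (hq₀O z h)⟩
    have hcard := Finset.card_le_card hsupp
    rw [Finset.card_sdiff_of_subset hOsub, hcompl, hOcard] at hcard
    exact alt_le_of_prime_order_small G hprim hp.out (hPG (hQP hq₀)) hord (by omega) (by omega)
  · -- `3 ≤ k`
    have hp3 : p ≠ 3 := by omega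
    let Φ : Finset α := Finset.univ.filter (fun z => ∀ q ∈ Q, q z = z)
    have hΦ : ∀ z, z ∈ Φ ↔ ∀ q ∈ Q, q z = z := by simp [Φ]
    have hΓΦ : Γ ⊆ Φ := fun x hx => (hΦ x).mpr (fun q hq => hPfix q (hQP hq) x hx)
    have hψ₀Φ : ψ₀ ∈ Φ := (hΦ ψ₀).mpr hq₀ψ₀
    have horb : ∀ ω ∉ Φ, ∀ u ∈ P, ∃ q ∈ Q, u ω = q ω := by
      intro ω hω u hu
      have hωΓ : ω ∉ Γ := fun h => hω (hΓΦ h)
      have hsub : orbit Q ω ⊆ orbit P ω := by
        rintro _ ⟨q, rfl⟩
        exact ⟨⟨q, hQP q.2⟩, rfl⟩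
      have hPcard := orbit_ncard_eq P Γ hPp hPfix hno hsmall hωΓ
      obtain ⟨j, hj⟩ := hQp.card_orbit ω
      rw [Nat.card_coe_set_eq] at hj
      have hj0 : j ≠ 0 := by
        rintro rfl
        rw [pow_zero, Set.ncard_eq_one] at hj
        obtain ⟨b, hb⟩ := hj
        apply hω
        rw [hΦ]
        intro q hq
        have h1 : ω ∈ orbit Q ω := mem_orbit_self ω
        have h2 : (⟨q, hq⟩ : Q) • ω ∈ orbit Q ω := mem_orbit _ _
        rw [hb] at h1 h2
        have h3 : (⟨q, hq⟩ : Q) • ω = q ω := rfl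
        rw [← h3, Set.mem_singleton_iff.mp h2, Set.mem_singleton_iff.mp h1]
      have hle : p ≤ (orbit Q ω).ncard := by
        rw [hj]; exact Nat.le_self_pow hj0 p
      have heq : orbit Q ω = orbit P ω :=
        Set.eq_of_subset_of_ncard_le hsub (by rw [hPcard]; exact hle) (Set.toFinite _)
      have hmem : u ω ∈ orbit P ω := ⟨⟨u, hu⟩, rfl⟩
      rw [← heq] at hmem
      obtain ⟨q, hq⟩ := hmem
      exact ⟨q, q.2, hq.symm⟩
    -- the size of `Φ`
    have hmod : Fintype.card α ≡ Φ.card [MOD p] := by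
      have h1 := hQp.card_modEq_card_fixedPoints (α := α)
      have hfp : Nat.card (fixedPoints Q α) = Φ.card := by
        have : fixedPoints Q α = (Φ : Set α) := by
          ext z
          simp only [mem_fixedPoints, Finset.mem_coe, hΦ, Subtype.forall]
          rfl
        rw [Nat.card_coe_set_eq, this, Set.ncard_coe_finset]
      rwa [Nat.card_eq_fintype_card, hfp] at h1
    have hΦlt : Φ.card < Fintype.card α := by
      obtain ⟨ω, hω⟩ : ∃ ω, q₀ ω ≠ ω := by
        by_contra h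
        push Not at h
        exact hq₀1 (Perm.ext h)
      have : ω ∉ Φ := fun h => hω ((hΦ ω).mp h q₀ hq₀)
      exact Finset.card_lt_univ_of_notMem this
    have hΦge : r + 1 ≤ Φ.card := by
      have hsub : insert ψ₀ Γ ⊆ Φ := Finset.insert_subset hψ₀Φ hΓΦ
      have := Finset.card_le_card hsub
      rwa [Finset.card_insert_of_notMem hψ₀, hΓ] at this
    obtain ⟨j, hj⟩ : p ∣ Fintype.card α - Φ.card := (Nat.modEq_iff_dvd' hΦlt.le).mp hmod.symm
    have hj1 : 1 ≤ j := by
      rcases Nat.eq_zero_or_pos j with rfl | h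
      · omega
      · exact h
    have hjk : j < k := by
      have : p * j < p * k := by
        rw [mul_comm p k]; omega
      exact Nat.lt_of_mul_lt_mul_left this
    have hΦcard : Φ.card = (k - j) * p + r := by
      rw [Nat.sub_mul, mul_comm j p]
      have : p * j ≤ k * p := by rw [mul_comm k p]; exact Nat.mul_le_mul_left p hjk.le
      omega
    -- transitivity of the normaliser of `Q` on `Φ`
    set M := G ⊓ Subgroup.normalizer (Q : Set (Perm α)) with hM
    have hMpres : ∀ m ∈ M, ∀ z, m z ∈ Φ ↔ z ∈ Φ := fun m hm => normalizer_pres hΦ hm.2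
    have hQG : Q ≤ G := hQK'.trans (fixG_le _ _)
    have htrans : ∀ a b : Fin (r + 1) ↪ α, (∀ i, a i ∈ Φ) → (∀ i, b i ∈ Φ) →
        ∃ m ∈ M, ∀ i, m (a i) = b i := by
      intro a b ha hb
      obtain ⟨g, hg⟩ := isMultiplyPretransitive_iff.mp hG a b
      have hgab : ∀ i, (g : Perm α) (a i) = b i := fun i => by
        have := congrFun (congrArg DFunLike.coe hg) i
        simpa [Subgroup.smul_def, Perm.smul_def] using this
      set s := Finset.univ.map a with hs
      set t := Finset.univ.map b with ht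
      have hst : s.image (g : Perm α) = t := by
        ext z
        simp only [hs, ht, Finset.mem_image, Finset.mem_map, Finset.mem_univ, true_and]
        constructor
        · rintro ⟨_, ⟨i, rfl⟩, rfl⟩
          exact ⟨i, (hgab i).symm⟩
        · rintro ⟨i, rfl⟩
          exact ⟨a i, ⟨i, rfl⟩, hgab i⟩
      have hsΦ : s ⊆ Φ := by
        intro z hz
        obtain ⟨i, _, rfl⟩ := Finset.mem_map.mp hz
        exact ha i
      have htΦ : t ⊆ Φ := by
        intro z hz
        obtain ⟨i, _, rfl⟩ := Finset.mem_map.mp hz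
        exact hb i
      have hQs : Q ≤ fixG G s :=
        fun q hq => mem_fixG.mpr ⟨hQG hq, fun x hx => (hΦ x).mp (hsΦ hx) q hq⟩
      have hQt : Q ≤ fixG G t :=
        fun q hq => mem_fixG.mpr ⟨hQG hq, fun x hx => (hΦ x).mp (htΦ hx) q hq⟩
      have hcardt : t.card = r + 1 := by
        rw [ht, Finset.card_map, Finset.card_univ, Fintype.card_fin]
      have hcardT₀ : (insert ψ₀ Γ).card = r + 1 := by
        rw [Finset.card_insert_of_notMem hψ₀, hΓ]
      have hceq : Nat.card (fixG G t) = Nat.card (fixG G (insert ψ₀ Γ)) :=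
        card_fixG_eq G hG hnr t (insert ψ₀ Γ) (by rw [hcardt, hcardT₀]) (by omega)
      have hsyl : ¬ p ∣ Q.relIndex (fixG G t) := by
        have h1 := card_mul_relIndex hQt
        have h2 := card_mul_relIndex hQK'
        rw [hceq, ← h2] at h1
        have := Nat.eq_of_mul_eq_mul_left Nat.card_pos h1
        rw [this]; exact hQsyl
      obtain ⟨h, hh, hnorm⟩ := witt G Q s t g g.2 hst hQs hQt hQp hsyl
      refine ⟨h * g, ⟨G.mul_mem (fixG_le _ _ hh) g.2, hnorm⟩, fun i => ?_⟩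
      rw [Perm.mul_apply, hgab i]
      exact (mem_fixG.mp hh).2 _ (by rw [ht]; exact Finset.mem_map_of_mem _ (Finset.mem_univ i))
    have hpre := resGroup_pretransitive M Φ (r + 1) hMpres htrans
    have halt := IH (k - j) (by omega) (by omega) {x // x ∈ Φ} (resGroup M Φ)
      (by rw [Fintype.card_coe]; exact hΦcard) hpre
    obtain ⟨y, hy, hya⟩ := hno ψ₀ hψ₀
    exact case_A_core G hprim hp3 Γ (by omega) P Q hQP hPG hPcomm hPexp hPfix Φ hΦ horb ψ₀ hψ₀Φ
      y hy hya halt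

end Cfsg.Agent.Lib.Helper38_W1310A2
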