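import Mathlib
import Cfsg.Agent.S0713
import Cfsg.Agent.Lib.Helper38_PermTools
import Cfsg.Agent.Lib.Helper38_W1310A0
import Cfsg.Agent.Lib.Helper38_W1310A1

/-!
# Wielandt 13.10, case B: preliminaries (helper38)
-/

set_option autoImplicit false
set_option linter.unusedSectionVars false

namespace Cfsg.Agent.Lib.Helper38_W1310B0

open Equiv MulAction
open Cfsg.Agent.S0713 (apply_inv_self' inv_apply_self')
open Cfsg.Agent.Lib.Helper38_PermTools Cfsg.Agent.Lib.Helper38_W1310A0
open Cfsg.Agent.Lib.Helper38_W1310A1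

variable {α : Type*} [Fintype α] [DecidableEq α]

/-- an element commuting with every cycle of `x`, all of length `p`, has `p`-th power trivial on
the support of `x` -/
theorem pow_fix_of_commute_cycles {x c : Perm α} {p : ℕ}
    (hx : ∀ cyc ∈ x.cycleFactorsFinset, cyc.support.card = p)
    (hc : ∀ cyc ∈ x.cycleFactorsFinset, Commute c cyc) {z : α} (hz : z ∈ x.support) :
    (c ^ p) z = z := by
  set cyc := x.cycleOf z with hcyc
  have hmem : cyc ∈ x.cycleFactorsFinset := Perm.cycleOf_mem_cycleFactorsFinset_iff.mpr hz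
  have hcycle : cyc.IsCycle := Perm.isCycle_cycleOf x (Perm.mem_support.mp hz)
  have hz' : z ∈ cyc.support := Perm.mem_support_cycleOf_iff.mpr ⟨Perm.SameCycle.refl _ _, hz⟩
  have comm := hc cyc hmem
  have hcz : c z ∈ cyc.support := (Perm.mem_support_iff_of_commute comm z).mpr hz'
  obtain ⟨i, hi⟩ := hcycle.sameCycle (Perm.mem_support.mp hz') (Perm.mem_support.mp hcz)
  have key : ∀ n : ℕ, (c ^ n) z = (cyc ^ (i * n)) z := by
    intro n
    induction n with
    | zero => simp
    | succ n ih =>
      rw [pow_succ', Perm.mul_apply, ih, ← Perm.mul_apply, (comm.zpow_right (i * n)).eq,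
        Perm.mul_apply, ← hi, ← Perm.mul_apply, ← zpow_add]
      congr 2
      push_cast
      ring
  rw [key p, mul_comm, zpow_mul, zpow_natCast]
  have : cyc ^ p = 1 := by
    rw [← hx cyc hmem, ← hcycle.orderOf]
    exact pow_orderOf_eq_one cyc
  rw [this, one_zpow]
  rfl

theorem cycle_struct {x : Perm α} {p k : ℕ} (hp : p.Prime) (hord : orderOf x = p)
    (hsupp : x.support.card = k * p) :
    x.cycleFactorsFinset.card = k ∧ ∀ cyc ∈ x.cycleFactorsFinset, cyc.support.card = p := by
  obtain ⟨m, hm⟩ := Perm.cycleType_prime_order (σ := x) (by rw [hord]; exact hp)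
  rw [hord] at hm
  have hsum := Perm.sum_cycleType x
  rw [hm, Multiset.sum_replicate, smul_eq_mul, hsupp] at hsum
  have hmk : m + 1 = k := Nat.eq_of_mul_eq_mul_right hp.pos hsum
  constructor
  · have : Multiset.card x.cycleType = x.cycleFactorsFinset.card := by
      rw [Perm.cycleType_def, Multiset.card_map]; rfl
    rw [← this, hm, Multiset.card_replicate, hmk]
  · intro cyc hcyc
    have : cyc.support.card ∈ x.cycleType := by
      rw [Perm.cycleType_def, Multiset.mem_map]
      exact ⟨cyc, hcyc, rfl⟩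
    rw [hm] at this
    exact Multiset.eq_of_mem_replicate this

/-- restriction to an invariant finset as a homomorphism -/
def resHom (C : Subgroup (Perm α)) (Γ : Finset α) (hpres : ∀ c ∈ C, ∀ z, c z ∈ Γ ↔ z ∈ Γ) :
    C →* Perm {x // x ∈ Γ} where
  toFun c := (c : Perm α).subtypePerm (hpres c c.2)
  map_one' := by ext; rfl
  map_mul' a b := by ext; rfl

theorem resHom_apply (C : Subgroup (Perm α)) (Γ : Finset α)
    (hpres : ∀ c ∈ C, ∀ z, c z ∈ Γ ↔ z ∈ Γ) (c : C) (z : {x // x ∈ Γ}) :
    ((resHom C Γ hpres c z : {x // x ∈ Γ}) : α) = (c : Perm α) z := rfl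

end Cfsg.Agent.Lib.Helper38_W1310B0
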