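import Mathlib
import Cfsg.Agent.S0713
import Cfsg.Agent.Lib.Helper38_PermTools
import Cfsg.Agent.Lib.Helper38_W1310A0
import Cfsg.Agent.Lib.Helper38_W1310A1
import Cfsg.Agent.Lib.Helper38_W1310B0

/-!
# Wielandt 13.10, case B: normalising and centralising elements (helper38)
-/

set_option autoImplicit false
set_option linter.unusedSectionVars false

namespace Cfsg.Agent.Lib.Helper38_W1310B1

open Equiv MulAction
open Cfsg.Agent.S0713 (apply_inv_self' inv_apply_self')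
open Cfsg.Agent.Lib.Helper38_PermTools Cfsg.Agent.Lib.Helper38_W1310A0
open Cfsg.Agent.Lib.Helper38_W1310A1 Cfsg.Agent.Lib.Helper38_W1310B0

variable {α : Type*} [Fintype α] [DecidableEq α]

/-- normalising elements inducing a prescribed permutation of `Γ` -/
theorem exists_norm (G : Subgroup (Perm α)) {p r : ℕ} [Fact p.Prime]
    (hG : IsMultiplyPretransitive G α (r + 1)) (hnr : r + 1 ≤ Fintype.card α)
    (Γ : Finset α) (hΓ : Γ.card = r) {x : Perm α} (hxK : x ∈ fixG G Γ)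
    (hXp : IsPGroup p (Subgroup.zpowers x))
    (hsyl : ¬ p ∣ (Subgroup.zpowers x).relIndex (fixG G Γ))
    (σ : Perm α) (hσ : ∀ z, σ z ∈ Γ ↔ z ∈ Γ) :
    ∃ ν ∈ G, AgreeOn Γ ν σ ∧ ∃ j : ℤ, ν * x * ν⁻¹ = x ^ j := by
  obtain ⟨g, hgG, hg⟩ := exists_mem_agree_le G hG hnr Γ (by omega) σ
  have hst : Γ.image g = Γ := by
    apply Finset.eq_of_subset_of_card_le
    · intro y hy
      obtain ⟨z, hz, rfl⟩ := Finset.mem_image.mp hy
      rw [hg z hz, hσ]; exact hz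
    · rw [Finset.card_image_of_injective _ g.injective]
  have hX : Subgroup.zpowers x ≤ fixG G Γ := by
    rw [Subgroup.zpowers_le]; exact hxK
  obtain ⟨h, hh, hn⟩ := witt G (Subgroup.zpowers x) Γ Γ g hgG hst hX hX hXp hsyl
  refine ⟨h * g, G.mul_mem (fixG_le _ _ hh) hgG, ⟨fun z hz => ?_, hσ⟩, ?_⟩
  · rw [Perm.mul_apply, hg z hz]
    exact (mem_fixG.mp hh).2 _ ((hσ z).mpr hz)
  · have := (Subgroup.mem_normalizer_iff.mp hn x).mp (Subgroup.mem_zpowers x)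
    obtain ⟨j, hj⟩ := Subgroup.mem_zpowers_iff.mp this
    exact ⟨j, hj.symm⟩

omit [Fintype α] in
theorem ofSubtype_pres (Γ : Finset α) (π : Perm {x // x ∈ Γ}) :
    ∀ z, Perm.ofSubtype π z ∈ Γ ↔ z ∈ Γ := by
  intro z
  by_cases hz : z ∈ Γ
  · rw [Perm.ofSubtype_apply_of_mem π hz]
    exact ⟨fun _ => hz, fun _ => (π ⟨z, hz⟩).2⟩
  · rw [Perm.ofSubtype_apply_of_not_mem π hz]

/-- commutators of permutations of `Γ` are induced by elements of the centraliser of `x` -/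
theorem exists_centralizing (G : Subgroup (Perm α)) {p r : ℕ} [Fact p.Prime]
    (hG : IsMultiplyPretransitive G α (r + 1)) (hnr : r + 1 ≤ Fintype.card α)
    (Γ : Finset α) (hΓ : Γ.card = r) {x : Perm α} (hxK : x ∈ fixG G Γ)
    (hXp : IsPGroup p (Subgroup.zpowers x))
    (hsyl : ¬ p ∣ (Subgroup.zpowers x).relIndex (fixG G Γ))
    (π₁ π₂ : Perm {x // x ∈ Γ}) :
    ∃ w ∈ G, Commute w x ∧ AgreeOn Γ w (Perm.ofSubtype (π₁⁻¹ * π₂⁻¹ * π₁ * π₂)) := by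
  obtain ⟨ν₁, hν₁G, hA₁, j₁, hj₁⟩ := exists_norm G hG hnr Γ hΓ hxK hXp hsyl
    (Perm.ofSubtype π₁) (ofSubtype_pres Γ π₁)
  obtain ⟨ν₂, hν₂G, hA₂, j₂, hj₂⟩ := exists_norm G hG hnr Γ hΓ hxK hXp hsyl
    (Perm.ofSubtype π₂) (ofSubtype_pres Γ π₂)
  refine ⟨ν₁⁻¹ * ν₂⁻¹ * ν₁ * ν₂,
    G.mul_mem (G.mul_mem (G.mul_mem (G.inv_mem hν₁G) (G.inv_mem hν₂G)) hν₁G) hν₂G,
    Cfsg.Agent.S0713.commute_of_conj hj₁ hj₂, ?_⟩
  have := ((hA₁.inv.mul hA₂.inv).mul hA₁).mul hA₂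
  simpa only [map_mul, map_inv] using this

theorem threeCycle_eq_comm {β : Type*} [DecidableEq β] [Fintype β] {s : Perm β}
    (hs : s.IsThreeCycle) : ∃ π₁ π₂ : Perm β, s = π₁⁻¹ * π₂⁻¹ * π₁ * π₂ := by
  have hs' : s⁻¹.IsThreeCycle := hs.inv
  obtain ⟨u, hu⟩ : ∃ u, u ∈ s⁻¹.support := by
    apply Finset.card_pos.mp
    rw [hs'.card_support]; norm_num
  have h1 := hs'.eq_swap_mul_swap_iff_mem_support.mpr hu
  refine ⟨swap (s⁻¹ u) u, swap (s⁻¹ u) (s⁻¹ (s⁻¹ u)), ?_⟩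
  rw [swap_inv, swap_inv]
  have h2 : swap (s⁻¹ u) u * swap (s⁻¹ u) (s⁻¹ (s⁻¹ u)) = s⁻¹ := by
    rw [swap_comm (s⁻¹ u) u]; exact h1.symm
  have h3 : s ^ 3 = 1 := by rw [← hs.orderOf]; exact pow_orderOf_eq_one s
  have h5 : s = s⁻¹ * s⁻¹ := by
    have : s * s * s = 1 := by rw [← h3, pow_succ, pow_two]
    calc s = s⁻¹ * s⁻¹ * (s * s * s) := by group
      _ = s⁻¹ * s⁻¹ := by rw [this, mul_one]
  generalize s⁻¹ (s⁻¹ u) = c at h2 ⊢
  generalize s⁻¹ u = a at h2 ⊢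
  have h4 : swap a u * swap a c * swap a u * swap a c =
      (swap a u * swap a c) * (swap a u * swap a c) := by group
  rw [h4, h2]
  exact h5

end Cfsg.Agent.Lib.Helper38_W1310B1
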