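import Mathlib
import Cfsg.Agent.S0713
import Cfsg.Agent.Lib.Helper38_PermTools
import Cfsg.Agent.Lib.Helper38_W1310A0
import Cfsg.Agent.Lib.Helper38_W1310A1
import Cfsg.Agent.Lib.Helper38_W1310B0
import Cfsg.Agent.Lib.Helper38_W1310B1

/-!
# Wielandt 13.10, case B (the Sylow subgroup of the `r`-point stabiliser is semiregular)
(helper38)
-/

set_option autoImplicit false
set_option linter.unusedSectionVars false
set_option linter.style.haveILetI false

namespace Cfsg.Agent.Lib.Helper38_W1310B2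

open Equiv MulAction
open Cfsg.Agent.S0713 (apply_inv_self' inv_apply_self')
open Cfsg.Agent.Lib.Helper38_PermTools Cfsg.Agent.Lib.Helper38_W1310A0
open Cfsg.Agent.Lib.Helper38_W1310A1 Cfsg.Agent.Lib.Helper38_W1310B0
open Cfsg.Agent.Lib.Helper38_W1310B1

variable {α : Type*} [Fintype α] [DecidableEq α]

/-- a double transposition `b` with `b ^ p ≠ 1` for odd `p` -/
theorem exists_even_pow_ne_one {β : Type*} [DecidableEq β] [Fintype β] (h4 : 4 ≤ Fintype.card β)
    {p : ℕ} (hp : Odd p) : ∃ b : Perm β, b ∈ alternatingGroup β ∧ b ^ p ≠ 1 := by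
  obtain ⟨e⟩ : Nonempty (Fin 4 ↪ β) :=
    Function.Embedding.nonempty_of_card_le (by rw [Fintype.card_fin]; exact h4)
  have h01 : e 0 ≠ e 1 := e.injective.ne (by decide)
  have h23 : e 2 ≠ e 3 := e.injective.ne (by decide)
  have h02 : e 0 ≠ e 2 := e.injective.ne (by decide)
  have h03 : e 0 ≠ e 3 := e.injective.ne (by decide)
  have h12 : e 1 ≠ e 2 := e.injective.ne (by decide)
  have h13 : e 1 ≠ e 3 := e.injective.ne (by decide)
  set b : Perm β := swap (e 0) (e 1) * swap (e 2) (e 3) with hb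
  have hdisj : Perm.Disjoint (swap (e 0) (e 1)) (swap (e 2) (e 3)) := by
    intro t
    by_cases ht0 : t = e 0
    · right; rw [ht0]; exact swap_apply_of_ne_of_ne h02 h03
    by_cases ht1 : t = e 1
    · right; rw [ht1]; exact swap_apply_of_ne_of_ne h12 h13
    left; exact swap_apply_of_ne_of_ne ht0 ht1
  have hbb : b * b = 1 := by
    rw [hb, hdisj.commute.symm.mul_mul_mul_comm, swap_mul_self, swap_mul_self, one_mul]
  refine ⟨b, ?_, ?_⟩
  · rw [Perm.mem_alternatingGroup, hb, map_mul, Perm.sign_swap h01, Perm.sign_swap h23]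
    rfl
  · obtain ⟨m, rfl⟩ := hp
    rw [pow_succ, pow_mul, pow_two, hbb, one_pow, one_mul]
    intro h
    have h1 : b (e 0) = e 1 := by
      rw [hb, Perm.mul_apply, swap_apply_of_ne_of_ne h02 h03, swap_apply_left]
    rw [h, Perm.one_apply] at h1
    exact h01 h1

theorem factorial_lemma {k r : ℕ} (hk : 2 ≤ k) (hrk : k < r) (a : ℕ) (h2 : 2 * a = r.factorial)
    (hdvd : a ∣ k.factorial) : False := by
  have h1 : (k + 1).factorial ≤ r.factorial := Nat.factorial_le hrk
  rw [Nat.factorial_succ] at h1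
  have hpos : 0 < k.factorial := Nat.factorial_pos k
  have hle : a ≤ k.factorial := Nat.le_of_dvd hpos hdvd
  nlinarith

theorem case_B (G : Subgroup (Perm α)) {k p r : ℕ} [hp : Fact p.Prime]
    (hn : Fintype.card α = k * p + r) (hk : 2 ≤ k) (hpk : k < p) (hrk : k < r) (hr3 : 3 ≤ r)
    (hsp : p = 3 → 5 ≤ r)
    (hG : IsMultiplyPretransitive G α (r + 1))
    (Γ : Finset α) (hΓ : Γ.card = r) (ψ₀ : α) (hψ₀ : ψ₀ ∉ Γ)
    (hndiv : ¬ p ∣ Nat.card (fixG G (insert ψ₀ Γ))) : alternatingGroup α ≤ G := by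
  classical
  have hp2 := hp.out.two_le
  have hkp : k ≤ k * p := Nat.le_mul_of_pos_right k hp.out.pos
  have hnr : r + 1 ≤ Fintype.card α := by omega
  have hprim := isPreprimitive_of_multiply G hG (by omega) hnr
  have hcompl : Γᶜ.card = k * p := by rw [Finset.card_compl, hΓ, hn]; omega
  -- no `(r+1)`-point stabiliser has order divisible by `p`
  have hndiv' : ∀ ψ ∉ Γ, ¬ p ∣ Nat.card (fixG G (insert ψ Γ)) := by
    intro ψ hψ
    rw [card_fixG_eq G hG hnr (insert ψ Γ) (insert ψ₀ Γ)
      (by rw [Finset.card_insert_of_notMem hψ, Finset.card_insert_of_notMem hψ₀])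
      (by rw [Finset.card_insert_of_notMem hψ, hΓ])]
    exact hndiv
  -- the element `x`
  have hdvdK : p ∣ Nat.card (fixG G Γ) := by
    have := compl_card_dvd_card_fixG G hG hnr Γ (by omega)
    rw [hcompl] at this
    exact (dvd_mul_left p k).trans this
  obtain ⟨x, hxK, hxord⟩ := exists_mem_orderOf_eq (fixG G Γ) hp.out hdvdK
  have hxG : x ∈ G := fixG_le _ _ hxK
  have hxfix : ∀ z ∈ Γ, x z = z := (mem_fixG.mp hxK).2
  have hxmove : ∀ ψ ∉ Γ, x ψ ≠ ψ := by
    intro ψ hψ h
    apply hndiv' ψ hψ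
    have hx' : x ∈ fixG G (insert ψ Γ) := by
      rw [mem_fixG]
      refine ⟨hxG, fun z hz => ?_⟩
      rcases Finset.mem_insert.mp hz with rfl | hz
      · exact h
      · exact hxfix z hz
    rw [← hxord]
    exact Subgroup.orderOf_dvd_natCard _ hx'
  have hxsupp : ∀ z, z ∈ x.support ↔ z ∉ Γ := by
    intro z
    rw [Perm.mem_support]
    exact ⟨fun h hz => h (hxfix z hz), fun h => hxmove z h⟩
  have hxsuppcard : x.support.card = k * p := by
    rw [← hcompl]
    congr 1
    ext z
    rw [hxsupp, Finset.mem_compl]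
  obtain ⟨hcfcard, hcyclen⟩ := cycle_struct hp.out hxord hxsuppcard
  -- `⟨x⟩` is a Sylow subgroup of the stabiliser of `Γ`
  have hXcard : Nat.card (Subgroup.zpowers x) = p := by rw [Nat.card_zpowers, hxord]
  have hXp : IsPGroup p (Subgroup.zpowers x) := IsPGroup.of_card (n := 1) (by rw [hXcard, pow_one])
  have hXle : Subgroup.zpowers x ≤ fixG G Γ := by rw [Subgroup.zpowers_le]; exact hxK
  have hsyl : ¬ p ∣ (Subgroup.zpowers x).relIndex (fixG G Γ) := by
    have h1 := card_mul_relIndex hXle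
    have h2 := card_mul_relIndex (fixG_mono G (Finset.subset_insert ψ₀ Γ))
    rw [relIndex_fixG_insert G hG hnr Γ (by omega) hψ₀, hcompl] at h2
    rw [hXcard, ← h2] at h1
    have h3 : (Subgroup.zpowers x).relIndex (fixG G Γ) =
        Nat.card (fixG G (insert ψ₀ Γ)) * k := by
      apply Nat.eq_of_mul_eq_mul_left hp.out.pos
      rw [h1]; ring
    rw [h3]
    intro h
    rcases (Nat.Prime.dvd_mul hp.out).mp h with h | h
    · exact hndiv h
    · exact absurd (Nat.le_of_dvd (by omega) h) (by omega)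
  -- the centraliser of `x` in `G` and its two homomorphisms
  set Cx : Subgroup (Perm α) := G ⊓ Subgroup.centralizer {x} with hCx
  have hCcomm : ∀ c ∈ Cx, Commute c x := by
    intro c hc
    exact Subgroup.mem_centralizer_singleton_iff.mp hc.2
  have hpres : ∀ c ∈ Cx, ∀ z, c z ∈ Γ ↔ z ∈ Γ := by
    intro c hc z
    have := Perm.mem_support_iff_of_commute (hCcomm c hc) z
    rw [hxsupp, hxsupp] at this
    exact not_iff_not.mp this
  set ρ := resHom Cx Γ hpres with hρ
  set θ : Cx →* Perm x.cycleFactorsFinset :=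
    (Perm.OnCycleFactors.toPermHom x).comp (Subgroup.inclusion inf_le_right) with hθ
  have hker : ∀ c ∈ θ.ker, ∀ cyc ∈ x.cycleFactorsFinset, Commute (c : Perm α) cyc := by
    intro c hc
    rw [hθ, MonoidHom.mem_ker, MonoidHom.comp_apply, ← MonoidHom.mem_ker,
      Perm.OnCycleFactors.mem_ker_toPermHom_iff] at hc
    exact hc
  have hidx : θ.ker.index ∣ k.factorial := by
    rw [Subgroup.index_ker]
    have := Subgroup.card_subgroup_dvd_card θ.range
    rwa [Nat.card_perm, Nat.card_eq_fintype_card (α := {y // y ∈ x.cycleFactorsFinset}),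
      Fintype.card_coe, hcfcard] at this
  -- the image of `ρ` contains the alternating group
  have haltrange : alternatingGroup {x // x ∈ Γ} ≤ ρ.range := by
    rw [← Perm.closure_three_cycles_eq_alternating, Subgroup.closure_le]
    intro s hs
    obtain ⟨π₁, π₂, rfl⟩ := threeCycle_eq_comm hs
    obtain ⟨w, hwG, hwx, hwA⟩ := exists_centralizing G hG hnr Γ hΓ hxK hXp hsyl π₁ π₂
    have hwC : w ∈ Cx := ⟨hwG, Subgroup.mem_centralizer_singleton_iff.mpr hwx.eq⟩
    refine ⟨⟨w, hwC⟩, ?_⟩
    ext z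
    rw [hρ, resHom_apply]
    change w z = _
    rw [hwA.1 z z.2, Perm.ofSubtype_apply_coe]
  -- an element of `ker θ` acting non-trivially and evenly on `Γ`
  have hex : ∃ c ∈ θ.ker, ρ c ∈ alternatingGroup {x // x ∈ Γ} ∧ ρ c ≠ 1 := by
    by_contra hcon
    push Not at hcon
    set E : Subgroup Cx := (alternatingGroup {x // x ∈ Γ}).comap ρ with hE
    set f : E →* Perm {x // x ∈ Γ} := ρ.comp E.subtype with hf
    have hfrange : f.range = alternatingGroup {x // x ∈ Γ} := by
      ext a
      constructor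
      · rintro ⟨e, rfl⟩
        exact e.2
      · intro ha
        obtain ⟨c, rfl⟩ := haltrange ha
        exact ⟨⟨c, ha⟩, rfl⟩
    have hle : θ.ker.subgroupOf E ≤ f.ker := by
      intro e he
      rw [MonoidHom.mem_ker]
      exact hcon e.1 (Subgroup.mem_subgroupOf.mp he) e.2
    have h1 : f.ker.index ∣ (θ.ker.subgroupOf E).index := Subgroup.index_dvd_of_le hle
    have h2 : (θ.ker.subgroupOf E).index ∣ θ.ker.index :=
      Subgroup.relIndex_dvd_index_of_normal θ.ker E
    have h3 : f.ker.index = Nat.card (alternatingGroup {x // x ∈ Γ}) := by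
      rw [Subgroup.index_ker, hfrange]
    haveI : Nontrivial {x // x ∈ Γ} := by
      rw [← Fintype.one_lt_card_iff_nontrivial, Fintype.card_coe, hΓ]; omega
    have h4 : 2 * Nat.card (alternatingGroup {x // x ∈ Γ}) = r.factorial := by
      rw [two_mul_nat_card_alternatingGroup, Nat.card_perm, Nat.card_eq_fintype_card,
        Fintype.card_coe, hΓ]
    exact factorial_lemma hk hrk _ h4 (h3 ▸ (h1.trans (h2.trans hidx)))
  obtain ⟨c, hcker, hcAlt, hc1⟩ := hex
  by_cases hbr : ∃ c ∈ θ.ker, (ρ c) ^ p ≠ 1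
  · obtain ⟨c, hck, hcp⟩ := hbr
    set d : Perm α := (c : Perm α) ^ p with hd
    have hdG : d ∈ G := G.pow_mem c.2.1 p
    have hdfix : ∀ z ∉ Γ, d z = z := fun z hz =>
      pow_fix_of_commute_cycles hcyclen (hker c hck) ((hxsupp z).mpr hz)
    have hd1 : d ≠ 1 := by
      intro h
      apply hcp
      rw [← map_pow]
      ext z
      rw [hρ, resHom_apply]
      change ((c : Perm α) ^ p) z = _
      rw [← hd, h]
      rfl
    have hsupp : d.support ⊆ Γ := by
      intro z hz
      by_contra hzΓ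
      exact (Perm.mem_support.mp hz) (hdfix z hzΓ)
    have hcard := Finset.card_le_card hsupp
    exact alt_le_of_small_support G hprim hG hnr hdG hd1 (by omega) (by omega)
  · push Not at hbr
    exfalso
    by_cases hr5 : 5 ≤ r
    · haveI : IsSimpleGroup (alternatingGroup {x // x ∈ Γ}) :=
        alternatingGroup.isSimpleGroup (by
          rw [Nat.card_eq_fintype_card, Fintype.card_coe, hΓ]; exact hr5)
      set N₁ : Subgroup (alternatingGroup {x // x ∈ Γ}) :=
        (θ.ker.map ρ).subgroupOf (alternatingGroup {x // x ∈ Γ}) with hN₁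
      have hN₁normal : N₁.Normal := by
        constructor
        intro n hn a
        rw [hN₁, Subgroup.mem_subgroupOf] at hn ⊢
        obtain ⟨c₁, hc₁, hc₁eq⟩ := hn
        obtain ⟨ca, hca⟩ := haltrange a.2
        refine ⟨ca * c₁ * ca⁻¹, (MonoidHom.normal_ker θ).conj_mem c₁ hc₁ ca, ?_⟩
        rw [map_mul, map_mul, map_inv, hca, hc₁eq]
        rfl
      have hN₁ne : N₁ ≠ ⊥ := by
        intro h
        have hmem : (⟨ρ c, hcAlt⟩ : alternatingGroup {x // x ∈ Γ}) ∈ N₁ :=
          Subgroup.mem_subgroupOf.mpr ⟨c, hcker, rfl⟩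
        rw [h, Subgroup.mem_bot] at hmem
        exact hc1 (congrArg Subtype.val hmem)
      have hN₁top : N₁ = ⊤ := (hN₁normal.eq_bot_or_eq_top).resolve_left hN₁ne
      have hodd : Odd p := hp.out.odd_of_ne_two (by omega)
      obtain ⟨b, hbAlt, hbp⟩ := exists_even_pow_ne_one (β := {x // x ∈ Γ})
        (by rw [Fintype.card_coe, hΓ]; omega) hodd
      have hbN : (⟨b, hbAlt⟩ : alternatingGroup {x // x ∈ Γ}) ∈ N₁ := by
        rw [hN₁top]; exact Subgroup.mem_top _
      rw [hN₁, Subgroup.mem_subgroupOf] at hbN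
      obtain ⟨cb, hcb, hcbeq⟩ := hbN
      apply hbp
      have := hbr cb hcb
      rw [hcbeq] at this
      exact this
    · have hord : orderOf (ρ c) = p := orderOf_eq_prime (hbr c hcker) hc1
      have hdvd : p ∣ Nat.card (Perm {x // x ∈ Γ}) := hord ▸ orderOf_dvd_natCard _
      rw [Nat.card_perm, Nat.card_eq_fintype_card, Fintype.card_coe, hΓ] at hdvd
      have hle : p ≤ r := (hp.out.dvd_factorial).mp hdvd
      have hp3 : p = 3 := by
        have h4 : p ≠ 4 := by
          intro h
          rw [h] at hp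
          exact absurd hp.out (by norm_num)
        omega
      have := hsp hp3
      omega

end Cfsg.Agent.Lib.Helper38_W1310B2
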