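import Mathlib
import Cfsg.Prelude.Def_Characters
import Cfsg.Agent.Lib.Helper75_CharArith
import Cfsg.Agent.Lib.Helper15_Linear

/-!
# Fourier decomposition of characters of the additive group of a finite field (helper39)

For a character `f` of `Multiplicative F` and a non-trivial additive character `ψ`, the
multiplicities `mult f hf ψ c = ⟨f, ψ(c ·)⟩` are natural numbers with
`f x = ∑ c, mult c * ψ (c x)` (inversion) and `∑ x, ‖f x‖² = q ∑ c, (mult c)²` (Parseval).
-/

set_option autoImplicit false

namespace Cfsg.Agent.Lib.Helper39_AddFourier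

open scoped ComplexConjugate

variable {F : Type*} [Field F] [Fintype F]

/-- The character `x ↦ ψ (c x)` of the additive group, written multiplicatively. -/
noncomputable def shiftChar (ψ : AddChar F ℂ) (c : F) : Multiplicative F → ℂ :=
  fun x => ψ (c * Multiplicative.toAdd x)

omit [Fintype F] in
theorem isCharacter_shiftChar (ψ : AddChar F ℂ) (c : F) :
    Cfsg.IsCharacter (Multiplicative F) (shiftChar ψ c) := by
  have h := (Cfsg.Agent.Lib.Helper15_Linear.isCharacter_of_hom
    (ψ.mulShift c).toMonoidHom).1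
  have e : (fun x : Multiplicative F => (ψ.mulShift c).toMonoidHom x) = shiftChar ψ c := by
    funext x
    simp [shiftChar, AddChar.mulShift_apply]
  rw [e] at h
  exact h

/-- The multiplicity of `ψ (c ·)` in the character `f`. -/
noncomputable def mult (f : Multiplicative F → ℂ) (hf : Cfsg.IsCharacter (Multiplicative F) f)
    (ψ : AddChar F ℂ) (c : F) : ℕ :=
  Classical.choose (Cfsg.Agent.Lib.Helper75_CharArith.classInner_isCharacter_nat hf
    (isCharacter_shiftChar ψ c))

theorem mult_spec (f : Multiplicative F → ℂ) (hf : Cfsg.IsCharacter (Multiplicative F) f)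
    (ψ : AddChar F ℂ) (c : F) :
    Cfsg.classInner f (shiftChar ψ c) = (mult f hf ψ c : ℂ) :=
  Classical.choose_spec (Cfsg.Agent.Lib.Helper75_CharArith.classInner_isCharacter_nat hf
    (isCharacter_shiftChar ψ c))

/-- The Fourier coefficients, as sums over the field. -/
theorem sum_mul_conj (f : Multiplicative F → ℂ) (hf : Cfsg.IsCharacter (Multiplicative F) f)
    (ψ : AddChar F ℂ) (c : F) :
    ∑ x : F, f (Multiplicative.ofAdd x) * conj (ψ (c * x)) =
      (Fintype.card F : ℂ) * (mult f hf ψ c : ℂ) := by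
  have h := mult_spec f hf ψ c
  unfold Cfsg.classInner at h
  have hn : (Nat.card (Multiplicative F) : ℂ) = (Fintype.card F : ℂ) := by
    rw [Nat.card_eq_fintype_card, Fintype.card_multiplicative]
  have hn0 : (Fintype.card F : ℂ) ≠ 0 := by
    exact_mod_cast (Fintype.card_pos (α := F)).ne'
  rw [hn] at h
  have hs : ∑ x : Multiplicative F, f x * conj (shiftChar ψ c x) =
      ∑ x : F, f (Multiplicative.ofAdd x) * conj (ψ (c * x)) :=
    Fintype.sum_equiv Multiplicative.toAdd _ _ (fun x => rfl)
  rw [hs] at h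
  rw [← h]
  field_simp

/-- Fourier inversion. -/
theorem inversion (f : Multiplicative F → ℂ) (hf : Cfsg.IsCharacter (Multiplicative F) f)
    (ψ : AddChar F ℂ) (hψ : ψ ≠ 1) (x : F) :
    f (Multiplicative.ofAdd x) = ∑ c : F, (mult f hf ψ c : ℂ) * ψ (c * x) := by
  classical
  have hprim : ψ.IsPrimitive := AddChar.IsPrimitive.of_ne_one hψ
  have hn0 : (Fintype.card F : ℂ) ≠ 0 := by
    exact_mod_cast (Fintype.card_pos (α := F)).ne'
  have h1 : (Fintype.card F : ℂ) * ∑ c : F, (mult f hf ψ c : ℂ) * ψ (c * x) =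
      (Fintype.card F : ℂ) * f (Multiplicative.ofAdd x) := by
    rw [Finset.mul_sum]
    have : ∀ c : F, (Fintype.card F : ℂ) * ((mult f hf ψ c : ℂ) * ψ (c * x)) =
        ∑ y : F, f (Multiplicative.ofAdd y) * ψ (c * (x - y)) := by
      intro c
      rw [← mul_assoc, ← sum_mul_conj f hf ψ c, Finset.sum_mul]
      refine Finset.sum_congr rfl (fun y _ => ?_)
      rw [← AddChar.map_neg_eq_conj, mul_assoc, ← AddChar.map_add_eq_mul]
      congr 2
      ring
    simp_rw [this]
    rw [Finset.sum_comm]
    have h2 : ∀ y : F, ∑ c : F, f (Multiplicative.ofAdd y) * ψ (c * (x - y)) =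
        f (Multiplicative.ofAdd y) * (if x - y = 0 then (Fintype.card F : ℂ) else 0) := by
      intro y
      rw [← Finset.mul_sum, AddChar.sum_mulShift (x - y) hprim]
      split_ifs <;> simp
    simp_rw [h2]
    rw [Finset.sum_eq_single x]
    · simp [mul_comm]
    · intro y _ hy
      rw [if_neg (sub_ne_zero.2 (Ne.symm hy)), mul_zero]
    · intro h; exact absurd (Finset.mem_univ _) h
  exact (mul_left_cancel₀ hn0 h1).symm

/-- Parseval's identity. -/
theorem parseval (f : Multiplicative F → ℂ) (hf : Cfsg.IsCharacter (Multiplicative F) f)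
    (ψ : AddChar F ℂ) (hψ : ψ ≠ 1) :
    ∑ x : F, ‖f (Multiplicative.ofAdd x)‖ ^ 2 =
      (Fintype.card F : ℝ) * ∑ c : F, (mult f hf ψ c : ℝ) ^ 2 := by
  have h1 : ((∑ x : F, ‖f (Multiplicative.ofAdd x)‖ ^ 2 : ℝ) : ℂ) =
      (((Fintype.card F : ℝ) * ∑ c : F, (mult f hf ψ c : ℝ) ^ 2 : ℝ) : ℂ) := by
    push_cast
    have h2 : ∀ x : F, ((‖f (Multiplicative.ofAdd x)‖ : ℂ)) ^ 2 =
        f (Multiplicative.ofAdd x) * conj (f (Multiplicative.ofAdd x)) := by
      intro x
      rw [Complex.mul_conj, Complex.normSq_eq_norm_sq]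
      push_cast
      rfl
    simp_rw [h2]
    have h3 : ∀ x : F, f (Multiplicative.ofAdd x) * conj (f (Multiplicative.ofAdd x)) =
        ∑ c : F, (mult f hf ψ c : ℂ) * (f (Multiplicative.ofAdd x) * conj (ψ (c * x))) := by
      intro x
      conv_lhs => rw [inversion f hf ψ hψ x, map_sum, Finset.mul_sum]
      refine Finset.sum_congr rfl (fun c _ => ?_)
      rw [map_mul, Complex.conj_natCast, ← inversion f hf ψ hψ x]
      ring
    simp_rw [h3]
    rw [Finset.sum_comm, Finset.mul_sum]
    refine Finset.sum_congr rfl (fun c _ => ?_)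
    rw [← Finset.mul_sum, sum_mul_conj f hf ψ c]
    ring
  exact_mod_cast h1

/-- The degree is the sum of the multiplicities. -/
theorem apply_zero (f : Multiplicative F → ℂ) (hf : Cfsg.IsCharacter (Multiplicative F) f)
    (ψ : AddChar F ℂ) (hψ : ψ ≠ 1) :
    f 1 = ∑ c : F, (mult f hf ψ c : ℂ) := by
  have := inversion f hf ψ hψ 0
  simp only [mul_zero, AddChar.map_zero_eq_one, mul_one] at this
  exact this

/-- Invariance of the multiplicities under a scaling which preserves the character. -/
theorem mult_scale (f : Multiplicative F → ℂ) (hf : Cfsg.IsCharacter (Multiplicative F) f)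
    (ψ : AddChar F ℂ) (s : F) (hs : s ≠ 0)
    (hinv : ∀ x : F, f (Multiplicative.ofAdd (s * x)) = f (Multiplicative.ofAdd x)) (c : F) :
    mult f hf ψ (c * s) = mult f hf ψ c := by
  have hn0 : (Fintype.card F : ℂ) ≠ 0 := by
    exact_mod_cast (Fintype.card_pos (α := F)).ne'
  have h1 := sum_mul_conj f hf ψ (c * s)
  have h2 := sum_mul_conj f hf ψ c
  have h3 : ∑ x : F, f (Multiplicative.ofAdd x) * conj (ψ (c * s * x)) =
      ∑ x : F, f (Multiplicative.ofAdd x) * conj (ψ (c * x)) := by
    have e : ∀ x : F, f (Multiplicative.ofAdd x) * conj (ψ (c * s * x)) =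
        f (Multiplicative.ofAdd (s * x)) * conj (ψ (c * (s * x))) := by
      intro x
      rw [hinv x, mul_assoc]
    simp_rw [e]
    exact Fintype.sum_equiv (Equiv.mulLeft₀ s hs) _ _ (fun x => rfl)
  rw [h3, h2] at h1
  have := mul_left_cancel₀ hn0 h1
  exact_mod_cast this.symm

end Cfsg.Agent.Lib.Helper39_AddFourier
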