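import Cfsg.Agent.Lib.Helper13_AmAPI
import Cfsg.Agent.Lib.Helper12_Sims_BEQUIV
import Cfsg.Agent.Lib.Helper39_Am_N1

/-!
# S2858 package N-2 (architect helper13), the last conjunct, by helper39

`N2_x_of`: the part of `N2` about an element `x ∈ Q_α \ Q_β`, from the conjuncts (iii), (v), (vi)
of `N2` and package N-1.
-/

set_option autoImplicit false
set_option linter.unusedVariables false

namespace Cfsg.Agent.Lib.Helper39_Am_N2x

open MulAction Cfsg.Agent.Lib.Helper13_SimsDefs Cfsg.Agent.Lib.Helper13_AmDefs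
  Cfsg.Agent.Lib.Helper12_Sims_BEQUIV Cfsg.Agent.Lib.Helper39_Am_N1aux

section gen
variable {G : Type*} [Group G]

/-- a subgroup strictly between `H` and `K` with `|K| = 2 |H|` is `K` -/
theorem h39_eq_of_index_two {H M K : Subgroup G} [Finite K] (hHM : H ≤ M) (hMK : M ≤ K)
    (hc : Nat.card K = 2 * Nat.card H) (hne : ∃ x ∈ M, x ∉ H) : M = K := by
  have hfM : Finite M := h39_finite_of_le hMK
  have hfH : Finite H := h39_finite_of_le (hHM.trans hMK)
  have hd1 : Nat.card H ∣ Nat.card M := Subgroup.card_dvd_of_le hHM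
  have hd2 : Nat.card M ∣ Nat.card K := Subgroup.card_dvd_of_le hMK
  have hpos : 0 < Nat.card H := Nat.card_pos
  obtain ⟨k, hk⟩ := hd1
  rw [hk, hc] at hd2
  have hk2 : k ∣ 2 := by
    have : Nat.card H * k ∣ Nat.card H * 2 := by rw [mul_comm _ 2]; exact hd2
    exact (Nat.mul_dvd_mul_iff_left hpos).mp this
  rcases (Nat.dvd_prime Nat.prime_two).mp hk2 with rfl | rfl
  · exfalso
    obtain ⟨x, hxM, hxH⟩ := hne
    have : H = M := Subgroup.eq_of_le_of_card_ge hHM (by rw [hk, mul_one])
    rw [this] at hxH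
    exact hxH hxM
  · exact Subgroup.eq_of_le_of_card_ge hMK (by rw [hk, hc, mul_comm])

theorem h39_le_centralizer_singleton {H : Subgroup G} {c : G} (h : ∀ g ∈ H, g * c = c * g) :
    H ≤ Subgroup.centralizer ({c} : Set G) := by
  intro g hg
  rw [Subgroup.mem_centralizer_singleton_iff]
  exact h g hg

end gen

section PartN
variable {G Ω : Type*} [Group G] [MulAction G Ω] {a b : Ω}

/-- the last conjunct of N-2 from the conjuncts (iii), (v), (vi). -/
theorem N2_x_of (S : S3Am G a b) (L : LocAPI G a b) (C : CritAPI G a b) (D : DichAPI G a b)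
    {bb : ℕ} (hb : IsCrit G a b bb) (h2 : 2 ≤ bb) {α β : Ω}
    (h : Adj G a b α β) (hN : HasN G a b α)
    (h3 : CWst G a b α ⊔ Rst G a b α β = Vst G a b β)
    (h5 : ∀ l ∈ Lst G a b α, ∀ c ∈ CWst G a b α, l * c = c * l)
    (h6 : O3 G α ≤ Lst G a b α) :
    ∀ x ∈ Kst G a b α, x ∉ Kst G a b β →
      CentIn (CWst G a b α) (Subgroup.zpowers x) = Zpr G a b α ∧
      (∃ c ∈ CWst G a b α, x * c ≠ c * x) ∧ ∀ c ∈ CWst G a b α, comm x c ∈ Zpr G a b α := by
  intro x hxα hxβ
  have hβα : Adj G a b β α := h39_adj_symm h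
  have hfinα : Finite (stabilizer G α) := S.fin α
  have hfinKα : Finite (Kst G a b α) := h39_finite_of_le (Kst_le_stab α)
  obtain ⟨hEA, -, -, hD, hE, -⟩ := Cfsg.Agent.Lib.Helper39_Am_N1.N1 S L C D hb h2 h hN
  have hCWle : CWst G a b α ≤ Vst G a b β := by rw [← h3]; exact le_sup_left
  have hCWW : CWst G a b α ≤ Wst G a b α := by unfold CWst CentIn; exact inf_le_left
  have hxs : x ∈ stabilizer G α := Kst_le_stab α hxα
  have hxT : x ∈ Tst G β α := by rw [h39_Tst_comm]; exact Kst_le_Tst h hxα
  have hxsβ : x ∈ stabilizer G β := hxT.1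
  -- `G_α ≤ L_α Q_α`
  have hstab : stabilizer G α ≤ Lst G a b α ⊔ Kst G a b α := by
    obtain ⟨d, hd, hd3⟩ := L.exists_three α
    rw [← L.gen_Td h d hd hd3, ← L.Kst_sup h]
    apply sup_le
    · apply sup_le le_sup_right
      exact (L.Kst_le_Lst h).trans le_sup_left
    · rw [Subgroup.zpowers_le]
      apply Subgroup.mem_sup_left
      apply h6
      exact Subgroup.subset_closure ⟨hd, hd3⟩
  -- `Q_α = D_α ⟨x⟩`
  have hDle : Dst G a b α ≤ Kst G a b α := by rw [hD]; exact inf_le_left
  have hDβ : Dst G a b α ≤ Kst G a b β := by rw [hD]; exact inf_le_right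
  have hKeq : Dst G a b α ⊔ Subgroup.zpowers x = Kst G a b α := by
    apply h39_eq_of_index_two (H := Dst G a b α) le_sup_left
      (sup_le hDle ((Subgroup.zpowers_le).mpr hxα)) hE
    exact ⟨x, Subgroup.mem_sup_right (Subgroup.mem_zpowers x), fun hx => hxβ (hDβ hx)⟩
  -- an element of `CW_α` commuting with `x` commutes with `G_α`
  have hcent : ∀ c ∈ CWst G a b α, x * c = c * x → ∀ g ∈ stabilizer G α, g * c = c * g := by
    intro c hc hxc g hg
    have hL : Lst G a b α ≤ Subgroup.centralizer ({c} : Set G) :=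
      h39_le_centralizer_singleton (fun l hl => h5 l hl c hc)
    have hDc : Dst G a b α ≤ Subgroup.centralizer ({c} : Set G) :=
      h39_le_centralizer_singleton (fun d hd => Vst_comm β c (hCWle hc) d (hDβ hd))
    have hxc' : Subgroup.zpowers x ≤ Subgroup.centralizer ({c} : Set G) := by
      rw [Subgroup.zpowers_le, Subgroup.mem_centralizer_singleton_iff]
      exact hxc
    have hK : Kst G a b α ≤ Subgroup.centralizer ({c} : Set G) := by
      rw [← hKeq]; exact sup_le hDc hxc'
    have := (sup_le hL hK) (hstab hg)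
    exact Subgroup.mem_centralizer_singleton_iff.mp this
  -- (1)
  have hC : CentIn (CWst G a b α) (Subgroup.zpowers x) = Zpr G a b α := by
    apply le_antisymm
    · intro c hc
      have hcCW : c ∈ CWst G a b α := hc.1
      have hxc : x * c = c * x :=
        Subgroup.mem_centralizer_iff.mp hc.2 x (Subgroup.mem_zpowers x)
      have hall := hcent c hcCW hxc
      have hcVβ : c ∈ Vst G a b β := hCWle hcCW
      have hcV : c ∈ Vst G a b α := by
        apply L.Om1Z_le_Vst h
        rw [mem_Om1Z]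
        refine ⟨?_, fun t ht => hall t ht.1, Vst_sq β c hcVβ⟩
        rw [h39_Tst_comm]
        exact Kst_le_Tst hβα (Vst_le_Kst β hcVβ)
      show c ∈ Vst G a b α ⊓ Subgroup.centralizer ((stabilizer G α : Subgroup G) : Set G)
      refine Subgroup.mem_inf.mpr ⟨hcV, ?_⟩
      rw [Subgroup.mem_centralizer_iff]
      intro g hg
      exact hall g hg
    · intro z hz
      have hzV : z ∈ Vst G a b α := hz.1
      have hzc : ∀ g ∈ stabilizer G α, g * z = z * g := fun g hg =>
        Subgroup.mem_centralizer_iff.mp hz.2 g hg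
      have hO3 : O3 G α ≤ stabilizer G α := by
        unfold O3
        rw [Subgroup.closure_le]
        rintro d ⟨hd, -⟩
        exact hd
      have hzW : z ∈ Wst G a b α := by
        unfold Wst
        exact Subgroup.mem_sup_left hzV
      have hzCW : z ∈ CWst G a b α := by
        show z ∈ Wst G a b α ⊓ Subgroup.centralizer ((O3 G α : Subgroup G) : Set G)
        refine Subgroup.mem_inf.mpr ⟨hzW, ?_⟩
        rw [Subgroup.mem_centralizer_iff]
        intro g hg
        exact hzc g (hO3 hg)
      show z ∈ CWst G a b α ⊓ Subgroup.centralizer ((Subgroup.zpowers x : Subgroup G) : Set G)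
      refine Subgroup.mem_inf.mpr ⟨hzCW, ?_⟩
      rw [Subgroup.mem_centralizer_iff]
      intro g hg
      exact hzc g (((Subgroup.zpowers_le).mpr hxs) hg)
  refine ⟨hC, ?_, ?_⟩
  · -- (2)
    by_contra hcon
    have hcon : ∀ c ∈ CWst G a b α, x * c = c * x := by
      intro c hc
      by_contra hne
      exact hcon ⟨c, hc, hne⟩
    apply hxβ
    apply L.cent_V β x hxsβ
    have hle : Vst G a b β ≤ Subgroup.centralizer ({x} : Set G) := by
      rw [← h3]
      apply sup_le
      · intro c hc
        rw [Subgroup.mem_centralizer_singleton_iff]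
        exact (hcon c hc).symm
      · intro r hr
        rw [Subgroup.mem_centralizer_singleton_iff]
        have hrV : r ∈ Vst G a b α := Nst_le_Vst α (Rst_le_Nst α β hr)
        exact (Vst_comm α r hrV x hxα).symm
    intro v hv
    exact (Subgroup.mem_centralizer_singleton_iff.mp (hle hv)).symm
  · -- (3)
    intro c hc
    rw [← hC]
    set c' := x * c * x⁻¹ with hc'
    have hc'CW : c' ∈ CWst G a b α := L.CWst_normal α x hxs c hc
    have hcc : c * c = 1 := by rw [← pow_two]; exact hEA.1 c (hCWW hc)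
    have hc'c' : c' * c' = 1 := by rw [← pow_two]; exact hEA.1 c' (hCWW hc'CW)
    have hcomm : c * c' = c' * c := hEA.2 c (hCWW hc) c' (hCWW hc'CW)
    have hcinv : c⁻¹ = c := inv_eq_of_mul_eq_one_right hcc
    have hr : comm x c = c' * c := by
      unfold Cfsg.Agent.Lib.Helper13_SimsDefs.comm
      rw [hcinv]
    -- `x² ∈ Q_β` commutes with `c`
    have hx2 : x ^ 2 ∈ Kst G a b β := L.sq_mem_Kst hβα x hxT
    have hx2c : x ^ 2 * c = c * x ^ 2 := Vst_comm β c (hCWle hc) (x ^ 2) hx2
    have hxc' : x * c' * x⁻¹ = c := by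
      calc x * c' * x⁻¹ = x ^ 2 * c * (x ^ 2)⁻¹ := by rw [hc', pow_two]; group
        _ = c * x ^ 2 * (x ^ 2)⁻¹ := by rw [hx2c]
        _ = c := by rw [mul_inv_cancel_right]
    have hxr : x * (c' * c) = (c' * c) * x := by
      calc x * (c' * c) = (x * c' * x⁻¹) * (x * c * x⁻¹) * x := by group
        _ = c * c' * x := by rw [hxc', ← hc']
        _ = (c' * c) * x := by rw [hcomm]
    rw [hr]
    show c' * c ∈ CWst G a b α ⊓
      Subgroup.centralizer ((Subgroup.zpowers x : Subgroup G) : Set G)
    refine Subgroup.mem_inf.mpr ⟨(CWst G a b α).mul_mem hc'CW hc, ?_⟩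
    have hle : Subgroup.zpowers x ≤ Subgroup.centralizer ({c' * c} : Set G) := by
      rw [Subgroup.zpowers_le, Subgroup.mem_centralizer_singleton_iff]
      exact hxr
    rw [Subgroup.mem_centralizer_iff]
    intro g hg
    exact Subgroup.mem_centralizer_singleton_iff.mp (hle hg)

end PartN

end Cfsg.Agent.Lib.Helper39_Am_N2x
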