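import Cfsg.Agent.Lib.Helper13_AmAPI
import Cfsg.Agent.Lib.Helper12_Sims_BEQUIV
import Cfsg.Agent.Lib.Helper39_Am_N1aux
import Cfsg.Agent.Lib.Helper53_Am_N0

/-!
# S2858 package N-3 (architect helper13; formalised by helper39): auxiliary form

`N3_of` is the statement of `N3` with the statement of package N-2 (in the form of the field
`NAPI.N2`) as an extra hypothesis.
-/

set_option autoImplicit false
set_option linter.unusedVariables false

namespace Cfsg.Agent.Lib.Helper39_Am_N3aux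

open MulAction Cfsg.Agent.Lib.Helper13_SimsDefs Cfsg.Agent.Lib.Helper13_AmDefs
  Cfsg.Agent.Lib.Helper12_Sims_BEQUIV Cfsg.Agent.Lib.Helper39_Am_N1aux

section PartN
variable {G Ω : Type*} [Group G] [MulAction G Ω] {a b : Ω}

theorem h39_comm_ne_one {x c : G} (h : x * c ≠ c * x) : comm x c ≠ 1 := by
  intro h1
  apply h
  unfold Cfsg.Agent.Lib.Helper13_SimsDefs.comm at h1
  have h2 : x * c * x⁻¹ = c := mul_inv_eq_one.mp h1
  exact mul_inv_eq_iff_eq_mul.mp h2

/-- N-3 with the statement of N-2 as a hypothesis. -/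
theorem N3_of (S : S3Am G a b) (L : LocAPI G a b) (C : CritAPI G a b) (D : DichAPI G a b)
    (hN2 : ∀ {bb : ℕ} (hb : IsCrit G a b bb) (h2 : 2 ≤ bb) {α β : Ω} (h : Adj G a b α β)
      (hN : HasN G a b α),
      Nst G a b α ⊔ CWst G a b α = Wst G a b α ∧ Nst G a b α ⊓ CWst G a b α = ⊥ ∧
      CWst G a b α ⊔ Rst G a b α β = Vst G a b β ∧ CWst G a b α ⊓ Rst G a b α β = ⊥ ∧
      (∀ l ∈ Lst G a b α, ∀ c ∈ CWst G a b α, l * c = c * l) ∧ O3 G α ≤ Lst G a b α ∧
      CentIn (Vst G a b β) (Lst G a b α) = CWst G a b α ∧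
      (∀ x ∈ Kst G a b α, x ∉ Kst G a b β →
        CentIn (CWst G a b α) (Subgroup.zpowers x) = Zpr G a b α ∧
        (∃ c ∈ CWst G a b α, x * c ≠ c * x) ∧ ∀ c ∈ CWst G a b α, comm x c ∈ Zpr G a b α))
    {bb : ℕ} (hb : IsCrit G a b bb) (h2 : 2 ≤ bb) {α β : Ω}
    (h : Adj G a b α β) (hN : HasN G a b α) :
    Nat.card (Vst G a b β) = 8 ∧ Nat.card (Vst G a b α) = 8 ∧ Nat.card (CWst G a b α) = 4 ∧
    Nat.card (Zpr G a b α) = 2 ∧ Nat.card (Zpr G a b β) = 2 ∧ FFat G a b β ∧
    Rst G a b β α = Zpr G a b α := by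
  have hβα : Adj G a b β α := h39_adj_symm h
  have hfinα : Finite (stabilizer G α) := S.fin α
  have hfinβ : Finite (stabilizer G β) := S.fin β
  have hVβle : Vst G a b β ≤ stabilizer G β := (Vst_le_Kst β).trans (Kst_le_stab β)
  have hfinVβ : Finite (Vst G a b β) := h39_finite_of_le hVβle
  have FFα : FFat G a b α := Cfsg.Agent.Lib.Helper53_Am_N0.ffat_of_N S L C D hb h2 hN
  -- every neighbour of `β` has `N`
  have hNnb : ∀ α', Adj G a b β α' → HasN G a b α' := by
    intro α' hα'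
    obtain ⟨g, _, hg⟩ := S.trans β α α' hβα hα'
    rw [← hg]
    exact (L.HasN_smul g α).mpr hN
  -- `CW_α' ≤ V_β` of index 2
  have hCWle : ∀ α', Adj G a b β α' → CWst G a b α' ≤ Vst G a b β := by
    intro α' hα'
    have := (hN2 hb h2 (h39_adj_symm hα') (hNnb α' hα')).2.2.1
    rw [← this]
    exact le_sup_left
  have hcardCW : ∀ α', Adj G a b β α' →
      Nat.card (Vst G a b β) = Nat.card (CWst G a b α') * 2 := by
    intro α' hα'
    have hαβ' := h39_adj_symm hα'
    obtain ⟨-, -, h3, h4, -⟩ := hN2 hb h2 hαβ' (hNnb α' hα')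
    have FF' : FFat G a b α' :=
      Cfsg.Agent.Lib.Helper53_Am_N0.ffat_of_N S L C D hb h2 (hNnb α' hα')
    have hRle : Rst G a b α' β ≤ Vst G a b β := by
      rw [← h3]; exact le_sup_right
    have hcomm : ∀ x ∈ CWst G a b α', ∀ y ∈ Rst G a b α' β, x * y = y * x := by
      intro x hx y hy
      exact (h39_Vst_isEA β).2 x (hCWle α' hα' hx) y (hRle hy)
    have hprod := h39_card_sup_mul_card_inf (CWst G a b α') (Rst G a b α' β)
      (h39_le_normalizer_of_comm hcomm)
    rw [h3, h4, Subgroup.card_bot, mul_one, FF'.cardR β hαβ'] at hprod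
    exact hprod
  have hrel : ∀ α', Adj G a b β α' → (CWst G a b α').relIndex (Vst G a b β) = 2 := by
    intro α' hα'
    have h1 := h39_card_mul_relIndex (hCWle α' hα')
    rw [hcardCW α' hα'] at h1
    have : Finite (CWst G a b α') := h39_finite_of_le ((hCWle α' hα').trans hVβle)
    have hpos : 0 < Nat.card (CWst G a b α') := Nat.card_pos
    exact Nat.eq_of_mul_eq_mul_left hpos h1
  -- the data of N-2 at `(α, β)`
  obtain ⟨-, -, h3, h4, h5, h6, -, h8⟩ := hN2 hb h2 h hN
  -- the intersection `Y`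
  set Y : Subgroup G := ⨅ α' : {y : Ω // Adj G a b β y}, CWst G a b (α' : Ω) with hY
  have hYCW : Y ≤ CWst G a b α := iInf_le _ (⟨α, hβα⟩ : {y : Ω // Adj G a b β y})
  have hYβ : ∀ g ∈ stabilizer G β, Nrm g Y := by
    intro g hg y hy
    rw [hY, Subgroup.mem_iInf]
    rintro ⟨α'', hα''⟩
    have hg' : g⁻¹ • β = β := by
      rw [inv_smul_eq_iff]; exact (mem_stabilizer_iff.mp hg).symm
    have hadj : Adj G a b β (g⁻¹ • α'') := by
      have := (adj_smul_iff (a := a) (b := b) g⁻¹ (x := β) (y := α'')).mpr hα''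
      rwa [hg'] at this
    have hy' : y ∈ CWst G a b (g⁻¹ • α'') := by
      rw [hY, Subgroup.mem_iInf] at hy
      exact hy ⟨g⁻¹ • α'', hadj⟩
    have e := L.CWst_smul g (g⁻¹ • α'')
    rw [smul_inv_smul] at e
    show g * y * g⁻¹ ∈ CWst G a b α''
    rw [e]
    exact conj_mem_cj hy'
  have hYbot : Y = ⊥ := by
    have hYle : Y ≤ Tst G α β := by
      have h1 : Y ≤ Kst G a b β := (hYCW.trans (hCWle α hβα)).trans (Vst_le_Kst β)
      rw [h39_Tst_comm]
      exact h1.trans (Kst_le_Tst hβα)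
    -- `G_α ≤ L_α Q_α ≤ N(Y)`
    have hLn : Lst G a b α ≤ Subgroup.normalizer ((Y : Subgroup G) : Set G) := by
      apply h39_le_normalizer_of_comm
      intro y hy l hl
      exact (h5 l hl y (hYCW hy)).symm
    have hKn : Kst G a b α ≤ Subgroup.normalizer ((Y : Subgroup G) : Set G) := by
      intro k hk
      have hkβ : k ∈ stabilizer G β := (Kst_le_Tst h hk).2
      rw [Subgroup.mem_normalizer_iff]
      intro y
      constructor
      · exact hYβ k hkβ y
      · intro hy
        have := hYβ k⁻¹ ((stabilizer G β).inv_mem hkβ) _ hy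
        have e : k⁻¹ * (k * y * k⁻¹) * k⁻¹⁻¹ = y := by group
        rwa [e] at this
    have hstab : stabilizer G α ≤ Lst G a b α ⊔ Kst G a b α := by
      obtain ⟨d, hd, hd3⟩ := L.exists_three α
      rw [← L.gen_Td h d hd hd3, ← L.Kst_sup h]
      apply sup_le
      · apply sup_le le_sup_right
        exact (L.Kst_le_Lst h).trans le_sup_left
      · rw [Subgroup.zpowers_le]
        apply Subgroup.mem_sup_left
        apply h6
        exact Subgroup.subset_closure ⟨hd, hd3⟩
    have hYα : ∀ g ∈ stabilizer G α, Nrm g Y := by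
      intro g hg y hy
      have hgn : g ∈ Subgroup.normalizer ((Y : Subgroup G) : Set G) :=
        (sup_le hLn hKn) (hstab hg)
      exact (Subgroup.mem_normalizer_iff.mp hgn y).mp hy
    exact S.core α β h Y hYle hYα hYβ
  -- `|V_β| ≤ 8`
  have hle8 : Nat.card (Vst G a b β) ≤ 8 := by
    have hc3 := L.card_nbr β
    have hfin : Finite {y : Ω // Adj G a b β y} := by
      apply Nat.finite_of_card_ne_zero
      rw [hc3]; norm_num
    letI : Fintype {y : Ω // Adj G a b β y} := Fintype.ofFinite _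
    have h1 := Subgroup.relIndex_iInf_le (L := Vst G a b β)
      (fun α' : {y : Ω // Adj G a b β y} => CWst G a b (α' : Ω))
    rw [← hY, hYbot, Subgroup.relIndex_bot_left] at h1
    have h2' : ∏ i : {y : Ω // Adj G a b β y}, (CWst G a b (i : Ω)).relIndex (Vst G a b β)
        = 8 := by
      rw [Finset.prod_congr rfl (fun i _ => hrel i.1 i.2), Finset.prod_const, Finset.card_univ,
        ← Nat.card_eq_fintype_card, hc3]
      norm_num
    rw [h2'] at h1
    exact h1
  -- an element `x ∈ Q_α \ Q_β`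
  obtain ⟨x, hxα, hxβ⟩ : ∃ x ∈ Kst G a b α, x ∉ Kst G a b β := by
    by_contra hcon
    push_neg at hcon
    have hle : Kst G a b α ≤ Kst G a b β := hcon
    have h1 := L.card_Kst_inf h
    rw [inf_eq_left.mpr hle] at h1
    have : Finite (Kst G a b α) := h39_finite_of_le (Kst_le_stab α)
    have hpos : 0 < Nat.card (Kst G a b α) := Nat.card_pos
    omega
  obtain ⟨hC, ⟨c, hc, hxc⟩, hcm⟩ := h8 x hxα hxβ
  have hCWαle := hCWle α hβα
  have hfinCW : Finite (CWst G a b α) := h39_finite_of_le (hCWαle.trans hVβle)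
  have hZle : Zpr G a b α ≤ CWst G a b α := by
    rw [← hC]; exact inf_le_left
  have hfinZ : Finite (Zpr G a b α) := h39_finite_of_le (hZle.trans (hCWαle.trans hVβle))
  have hr1 : comm x c ≠ 1 := h39_comm_ne_one hxc
  have hrZ : comm x c ∈ Zpr G a b α := hcm c hc
  have hZne : Zpr G a b α ≠ CWst G a b α := by
    intro heq
    have hcZ : c ∈ Zpr G a b α := by rw [heq]; exact hc
    rw [← hC] at hcZ
    have := Subgroup.mem_centralizer_iff.mp hcZ.2 x (Subgroup.mem_zpowers x)
    exact hxc this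
  have hZbot : Zpr G a b α ≠ ⊥ := by
    intro hbot
    rw [hbot, Subgroup.mem_bot] at hrZ
    exact hr1 hrZ
  -- arithmetic
  have hv := hcardCW α hβα
  have hdvd : Nat.card (Zpr G a b α) ∣ Nat.card (CWst G a b α) := Subgroup.card_dvd_of_le hZle
  have hz1 : Nat.card (Zpr G a b α) ≠ 1 := fun h1 => hZbot (Subgroup.card_eq_one.mp h1)
  have hzw : Nat.card (Zpr G a b α) ≠ Nat.card (CWst G a b α) := by
    intro heq
    exact hZne (Subgroup.eq_of_le_of_card_ge hZle (le_of_eq heq.symm))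
  have hzpos : 0 < Nat.card (Zpr G a b α) := Nat.card_pos
  have hwpos : 0 < Nat.card (CWst G a b α) := Nat.card_pos
  have hzlew : Nat.card (Zpr G a b α) ≤ Nat.card (CWst G a b α) := Nat.le_of_dvd hwpos hdvd
  have hw4 : Nat.card (CWst G a b α) ≤ 4 := by omega
  have hwz : Nat.card (CWst G a b α) = 4 ∧ Nat.card (Zpr G a b α) = 2 := by
    generalize Nat.card (CWst G a b α) = w at *
    generalize Nat.card (Zpr G a b α) = z at *
    interval_cases w <;> interval_cases z <;> simp_all <;> omega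
  obtain ⟨hw, hz⟩ := hwz
  have hVβ8 : Nat.card (Vst G a b β) = 8 := by rw [hv, hw]
  have hVα8 : Nat.card (Vst G a b α) = 8 := by rw [FFα.cardV, hz]
  have hZst4 : Nat.card (Zst G a b α β) = 4 := by rw [C.card_Zst FFα h, hz]
  have FFβ : FFat G a b β := by
    apply C.ffat_of_zidx hβα
    rw [← L.Zst_symm h, hVβ8, hZst4]
  have hZβ : Nat.card (Zpr G a b β) = 2 := by
    have := FFβ.cardV
    rw [hVβ8] at this
    omega
  refine ⟨hVβ8, hVα8, hw, hz, hZβ, FFβ, ?_⟩
  -- `R_βα = Z'_α`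
  have hrR : comm x c ∈ Rst G a b β α := by
    unfold Rst CommSub
    apply Subgroup.subset_closure
    refine ⟨x, ?_, c, hCWαle hc, rfl⟩
    rw [h39_Tst_comm]
    exact Kst_le_Tst h hxα
  have hRle : Rst G a b β α ≤ stabilizer G β :=
    ((Rst_le_Nst β α).trans (Nst_le_Vst β)).trans hVβle
  have hfinR : Finite (Rst G a b β α) := h39_finite_of_le hRle
  have hcardR : Nat.card (Rst G a b β α) = 2 := FFβ.cardR α hβα
  set I : Subgroup G := Zpr G a b α ⊓ Rst G a b β α with hI
  have hIne : I ≠ ⊥ := by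
    intro hbot
    have : comm x c ∈ I := ⟨hrZ, hrR⟩
    rw [hbot, Subgroup.mem_bot] at this
    exact hr1 this
  have hI1 : Nat.card I ≠ 1 := fun h1 => hIne (Subgroup.card_eq_one.mp h1)
  have hId : Nat.card I ∣ 2 := by
    rw [← hz]; exact Subgroup.card_dvd_of_le inf_le_left
  have hI2 : Nat.card I = 2 := by
    rcases (Nat.dvd_prime Nat.prime_two).mp hId with h1 | h2'
    · exact (hI1 h1).elim
    · exact h2'
  have e1 : I = Zpr G a b α := Subgroup.eq_of_le_of_card_ge inf_le_left (by rw [hI2, hz])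
  have e2 : I = Rst G a b β α := Subgroup.eq_of_le_of_card_ge inf_le_right (by rw [hI2, hcardR])
  rw [← e2, e1]

end PartN

end Cfsg.Agent.Lib.Helper39_Am_N3aux
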