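import Mathlib
import Cfsg.Agent.Lib.Helper39_BG134c
import Cfsg.Agent.Lib.Helper49_BG1214
import Cfsg.Agent.Lib.Helper31_BG13b
import Cfsg.Agent.Lib.Helper78_NarrowCent
import Cfsg.Agent.Lib.Helper52_BG12d

/-!
# Bender–Glauberman, Theorem 13.4 (= S1428): the closed cases (helper39)

`hclosed` proves the hypothesis `HClosed G` of `Helper39_BG134c.statement_S1428` and `h1214` the hypothesis
`H1214 G` (helper49's `cent_alpha_reg`), so that `statement_S1428'` only needs the rank claim `HRank G`.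

In a counterexample (`R` does not centralize `C = C_{M_σ}(P)`), let `H` be a maximal subgroup over
`N_G(P)`.  Then `H` is not conjugate to `M` (12.2(a)), `r ∈ τ₁(H)` (helper31's 13.1(a)), and `p ∈ σ(H)`:
otherwise `p ∈ τ₂(H)`, `H_σ` is nilpotent, `σ(M) ∩ σ(H) = ∅`, `C R` lies in a complement `E_H` of `H_σ`,
which normalizes an elementary abelian `A` of order `p ^ 2`; a `p'`-group of odd order acts on `A` through
an abelian group, so `[C, R]` centralizes `A`, against helper76's `final_contra`.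
-/

set_option autoImplicit false
set_option linter.unusedSectionVars false

namespace Cfsg.Agent.Lib.Helper39_BG134d

open Subgroup Cfsg
open scoped commutatorElement
open Cfsg.Agent.Lib.Helper22_Radical (cj)
open Cfsg.Agent.Lib.Helper84_RelSylow (IsSylowIn)
open Cfsg.Agent.Lib.Helper39_BG134c

universe u

variable {G : Type u} [Group G] [Finite G]

/-- Lemma 12.14(a) is helper49's `cent_alpha_reg` -/
theorem h1214 (hG : IsMinSimpleOddOrder G) : H1214 G :=
  fun _ hM _ _ hp _ _ hPM hP _ _ hQq hQ1 hQM hPQ hfix hqα hα hN =>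
    Cfsg.Agent.Lib.Helper49_BG1214.cent_alpha_reg hG hM hp hPM hP hQq hQ1 hQM hPQ hfix hqα hα hN

/-- a group of order `p ^ 2` is narrow -/
theorem isNarrow_of_card_sq {p : ℕ} {A : Subgroup G} (hA2 : Nat.card A = p ^ 2) :
    Cfsg.IsNarrow p ↥A := by
  left
  intro B _ _
  rw [← hA2]
  exact Nat.le_of_dvd Nat.card_pos (Subgroup.card_subgroup_dvd_card B)

variable {M E P R : Subgroup G} {p r : ℕ}

/-- the exclusion of `p ∈ τ₂(H)` -/
theorem not_mem_tau2 (hG : IsMinSimpleOddOrder G) (hC : Cfsg.Agent.Lib.Helper73_BG12.CentHyp G)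
    (h17 : Cfsg.Agent.Lib.Helper79_BG141.Hyp1417 G)
    (h18 : Cfsg.Agent.Lib.Helper76_BG13c.Hyp1418a G) (hA : Adm M E P R p r) (hNC : NotCent M P R)
    {H : Subgroup G} (hH : IsCoatom H) (hNP : normalizer (P : Set G) ≤ H)
    (hnc' : ∀ g : G, M ≠ cj g H) (hrH : r ∈ tau1 H) : p ∉ tau2 H := by
  intro hτ
  have hM := hA.hM
  have hpp : p.Prime := hA.pp
  have : Fact p.Prime := ⟨hpp⟩
  have hU := Cfsg.Agent.Lib.Helper49_SigmaDisjoint.uniqHyp hG
  have hCH : centralizer (P : Set G) ≤ H := (Subgroup.centralizer_le_normalizer _).trans hNP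
  have hpσ : p ∉ sigma M := hA.hp.2.1
  have hr1 : PRankLE p 1 ↥M := hA.hp.2.2.2.2
  have hrp : r ≠ p := by
    rintro rfl
    exact hτ.2.2.2 hrH.2.2.2.2
  -- `H_σ` is nilpotent
  obtain ⟨A₀, hA₀H, hA₀e, hA₀2⟩ :=
    Cfsg.Agent.Lib.Helper49_Alpha3.exists_elemAb_sq hτ.2.2.1 hτ.2.2.2
  have hnilH := (h17 H hH p hτ A₀ ⟨hA₀H, hA₀e, hA₀2⟩).1
  have hsolvH := Cfsg.Agent.Lib.Helper76_BG13b.isSolvable_of_isCoatom hG hH
  -- `T = C R`
  set C : Subgroup G := sigmaCore M ⊓ centralizer (P : Set G) with hCdef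
  have hRC : R ≤ normalizer (C : Set G) :=
    le_normalizer_inf_centralizer hA (Cfsg.Agent.Lib.Helper76_BG13b.le_normalizer_sigmaCore' M)
  have hcop : (Nat.card R).Coprime (Nat.card C) := coprime_card hG hA inf_le_left
  have hdisj : C ⊓ R = ⊥ := (Subgroup.disjoint_of_coprime_natCard hcop.symm).eq_bot
  have hTH : C ⊔ R ≤ H := sup_le (inf_le_right.trans hCH) (hA.hRP.trans hCH)
  have hprimes : ∀ q : ℕ, q.Prime → q ∣ Nat.card ↥(C ⊔ R) → q ∈ sigma M ∨ q = r := by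
    intro q hq hd
    rcases Cfsg.Agent.Lib.Helper76_BG13a.prime_dvd_card_sup hRC hdisj hq hd with h1 | h1
    · exact Or.inl
        (Cfsg.Agent.Lib.Helper76_BG13b.mem_sigma_of_dvd_card_le_sigmaCore inf_le_left hq h1)
    · right
      rw [hA.hR] at h1
      exact (Nat.prime_dvd_prime_iff_eq hq hA.hr).mp h1
  have hTσ : ∀ q : ℕ, q.Prime → q ∣ Nat.card ↥(C ⊔ R) → q ∉ sigma H := by
    intro q hq hd hqH
    rcases hprimes q hq hd with hqM | rfl
    · exact Cfsg.Agent.Lib.Helper49_SigmaDisjoint.sigma_inter_sigma hG hH hM hnc' hnilH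
        (Cfsg.Agent.Lib.Helper76_BG13b.sigma_hall hG hH) hqH hqM
    · exact hrH.2.1 hqH
  obtain ⟨EH, hEH, hTE⟩ := Cfsg.Agent.Lib.Helper76_BG13a.exists_compl_ge hsolvH
    (Cfsg.Agent.Lib.Helper76_BG13b.sigma_hall hG hH) hTH hTσ
  obtain ⟨A, hAE, hAe, hA2⟩ := Cfsg.Agent.Lib.Helper76_BG13c.exists_elemAb_le_compl hG hH hEH hτ
  have hEN : EH ≤ normalizer (A : Set G) := h18 H hH EH hEH p hτ A hAE hAe hA2
  -- `[T, T]` centralizes `A`
  have hp2 : p ≠ 2 := Cfsg.Agent.Lib.Helper79_BG141.odd_prime hG hA.hp.2.2.1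
  have hTodd : Odd (Nat.card ↥(C ⊔ R)) :=
    Odd.of_dvd_nat hG.1 (Subgroup.card_subgroup_dvd_card _)
  have hTp : (Nat.card ↥(C ⊔ R)).Coprime p := by
    rw [Nat.coprime_comm, Nat.Prime.coprime_iff_not_dvd hpp]
    intro hd
    rcases hprimes p hpp hd with h | h
    · exact hpσ h
    · exact hrp h.symm
  have hcomm := Cfsg.Agent.Lib.Helper78_NarrowCent.commutator_le_centralizer p hp2 A (C ⊔ R)
    (Cfsg.Agent.Lib.Helper76_BG13c.isPGroup_of_elemAb hAe) (isNarrow_of_card_sq hA2)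
    (hTE.trans hEN) hTodd hTp
  -- a nontrivial element of `[C, R]`
  have hne : ⁅C, R⁆ ≠ ⊥ := by
    intro h
    exact hNC (Subgroup.commutator_eq_bot_iff_le_centralizer.mp h)
  obtain ⟨⟨z, hzmem⟩, hz1⟩ := (Subgroup.ne_bot_iff_exists_ne_one).mp hne
  have hz1' : z ≠ 1 := fun h => hz1 (Subtype.ext h)
  have hzC : z ∈ C := by
    have hle : ⁅C, R⁆ ≤ C := by
      rw [Subgroup.commutator_le]
      intro c hc s hs
      have h1 : s * c⁻¹ * s⁻¹ ∈ C :=
        Cfsg.Agent.Lib.Helper76_BG13b.conj_mem_of_mem_normalizer (hRC hs) (inv_mem hc)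
      have : ⁅c, s⁆ = c * (s * c⁻¹ * s⁻¹) := by
        rw [commutatorElement_def]; group
      rw [this]
      exact mul_mem hc h1
    exact hle hzmem
  have hzA : z ∈ centralizer (A : Set G) :=
    hcomm (Subgroup.commutator_mono le_sup_left le_sup_right hzmem)
  have hAz : A ≤ centralizer ({z} : Set G) := by
    intro a ha
    rw [mem_centralizer_iff]
    intro y hy
    rw [Set.mem_singleton_iff] at hy
    rw [hy]
    exact (mem_centralizer_iff.mp hzA a ha).symm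
  -- a generator of `P`
  obtain ⟨⟨x, hxP⟩, hx1⟩ := (Subgroup.ne_bot_iff_exists_ne_one).mp hA.hP1
  have hx1' : x ≠ 1 := fun h => hx1 (Subtype.ext h)
  have hxp : ∃ k : ℕ, x ^ p ^ k = 1 := by
    obtain ⟨k, hk⟩ := hA.hPp ⟨x, hxP⟩
    exact ⟨k, congrArg Subtype.val hk⟩
  have hxz : x * z = z * x := (mem_centralizer_iff.mp hzC.2 x hxP)
  have hni : ¬ IsIdealPrime p G :=
    Cfsg.Agent.Lib.Helper52_BG12d.not_isIdealPrime_of_mem_tau2 hG hU hH hτ
  exact Cfsg.Agent.Lib.Helper76_BG13c.final_contra hG hC h17 h18 hM hpσ hr1 hni (hA.hPM hxP) hx1'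
    hxp hzC.1 hz1' hxz hAe hA2 hAz

/-- **the closed cases of Theorem 13.4** -/
theorem hclosed (hG : IsMinSimpleOddOrder G) (hC : Cfsg.Agent.Lib.Helper73_BG12.CentHyp G)
    (h17 : Cfsg.Agent.Lib.Helper79_BG141.Hyp1417 G)
    (h18 : Cfsg.Agent.Lib.Helper76_BG13c.Hyp1418a G) : HClosed G := by
  intro M E P R p r hA hNC H hH hNP
  have hM := hA.hM
  have hpp : p.Prime := hA.pp
  have : Fact p.Prime := ⟨hpp⟩
  have : Fact r.Prime := ⟨hA.hr⟩
  have hCH : centralizer (P : Set G) ≤ H := (Subgroup.centralizer_le_normalizer _).trans hNP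
  have hnc' : ∀ g : G, M ≠ cj g H :=
    Cfsg.Agent.Lib.Helper31_BG13b.not_conj_of_normalizer_le hG hH hA.hp.2.1 hA.hp.2.2.2.2 hA.hPp
      hA.hP1 hNP
  have hnc : ∀ g : G, H ≠ cj g M := Cfsg.Agent.Lib.Helper47_BG1214a.nonconj_symm hnc'
  have hrH : r ∈ tau1 H := by
    by_contra hrH
    apply hNC
    have h1 := Cfsg.Agent.Lib.Helper31_BG131.le_centralizer_of_not_tau1 hG hM hH hnc' (hA.hrσ hG)
      hrH hA.hRM (hA.hRP.trans hCH) hA.hRr
    exact (inf_le_inf_left _ hCH).trans (Subgroup.le_centralizer_iff.mp h1)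
  refine ⟨?_, hrH, hnc⟩
  rcases Cfsg.Agent.Lib.Helper76_BG13b.mem_sigma_or_tau2 hG hH hA.hPp hA.hP1 hNP with h | h
  · exact h
  · exact absurd h (not_mem_tau2 hG hC h17 h18 hA hNC hH hNP hnc' hrH)

/-- **Bender–Glauberman, Theorem 13.4** (the frozen statement S1428), from the rank claim alone. -/
theorem statement_S1428' (hG : IsMinSimpleOddOrder G) (hC : Cfsg.Agent.Lib.Helper73_BG12.CentHyp G)
    (h17 : Cfsg.Agent.Lib.Helper79_BG141.Hyp1417 G)
    (h18 : Cfsg.Agent.Lib.Helper76_BG13c.Hyp1418a G) (hrk : HRank G) (hA : Adm M E P R p r) :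
    sigmaCore M ⊓ centralizer (P : Set G) ≤ sigmaCore M ⊓ centralizer (R : Set G) :=
  statement_S1428 hG hC h17 h18 (h1214 hG) (hclosed hG hC h17 h18) hrk hA

end Cfsg.Agent.Lib.Helper39_BG134d
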