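import Mathlib
import Cfsg.Prelude.Def_Blocks
import Cfsg.Agent.Lib.Helper78_LocalRing
import Cfsg.Agent.Lib.Helper78_CharFacts
import Cfsg.Agent.Lib.Helper77_BlockBasics
import Cfsg.Agent.Lib.Helper77_DefectOrder
import Cfsg.Agent.Lib.Helper16_PCongr
import Cfsg.Agent.Lib.Helper16_HeightZero
import Cfsg.Agent.S4652

/-!
# Two general tools on `p`-blocks (helper39)

* `isDefectGroup_sylow_of_not_dvd` : a block containing an irreducible character of degree prime
  to `p` has every Sylow `p`-subgroup as a defect group.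
* `sameBlock_of_cases` : two irreducible characters of degree prime to `p` lie in the same block
  as soon as every element either has class size divisible by `p`, or is the product of a
  `p`-element and a commuting element at which the two central characters agree.
-/

set_option autoImplicit false

namespace Cfsg.Agent.Lib.Helper39_BlockTools

open Cfsg
open Cfsg.Agent.Lib.Helper78_LocalRing (isPrime_of_isPModular memLocalRing_natCast
  memLocalRing_inv_natCast memLocalIdeal_natCast_iff memLocalIdeal_mul_left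
  memLocalIdeal_mul_right memLocalIdeal_sub memLocalRing_mul memLocalRing_sub)

/-- A defect class of a block containing a character of degree prime to `p` has class size prime
to `p`. -/
theorem not_dvd_index_of_isDefectClass {G : Type*} [Group G] [Finite G] {p : ℕ}
    {M : Ideal AlgInt} (hM : IsPModular p M) {B : Set (IrrCharacter G)}
    (χ : IrrCharacter G) (hχ : χ ∈ B) (hdeg : ¬ p ∣ charDegree (χ : G → ℂ)) (g : G)
    (hg : IsDefectClass M B g) : ¬ p ∣ (Subgroup.centralizer ({g} : Set G)).index := by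
  have hp : p.Prime := hM.1
  have h := Cfsg.Agent.Lib.Helper77_DefectOrder.factorization_index_le_of_centralChar hM χ g
    (hg.2.2 χ hχ)
  rw [Nat.factorization_eq_zero_of_not_dvd hdeg] at h
  have hI0 : (Subgroup.centralizer ({g} : Set G)).index ≠ 0 := Subgroup.index_ne_zero_of_finite
  intro hd
  have := (hp.dvd_iff_one_le_factorization hI0).1 hd
  omega

/-- A block containing an irreducible character of degree prime to `p` has every Sylow
`p`-subgroup as a defect group. -/
theorem isDefectGroup_sylow_of_not_dvd {G : Type*} [Group G] [Finite G] {p : ℕ} [Fact p.Prime]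
    {M : Ideal AlgInt} (hM : IsPModular p M) {B : Set (IrrCharacter G)} (hB : IsPBlock M B)
    (χ : IrrCharacter G) (hχ : χ ∈ B) (hdeg : ¬ p ∣ charDegree (χ : G → ℂ)) (S : Sylow p G) :
    IsDefectGroup p M B (S : Subgroup G) := by
  have hMp : M.IsPrime := isPrime_of_isPModular hM
  have hpp : p.Prime := Fact.out
  obtain ⟨g, hg⟩ := Cfsg.Agent.Lib.Helper78_CharFacts.exists_isDefectClass' hMp hB
  have hnd := not_dvd_index_of_isDefectClass hM χ hχ hdeg g hg
  obtain ⟨P⟩ : Nonempty (Sylow p (Subgroup.centralizer ({g} : Set G))) := inferInstance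
  have hDp : IsPGroup p ((P : Subgroup (Subgroup.centralizer ({g} : Set G))).map
      (Subgroup.centralizer ({g} : Set G)).subtype) := P.isPGroup'.map _
  have hDidx : ¬ p ∣ ((P : Subgroup (Subgroup.centralizer ({g} : Set G))).map
      (Subgroup.centralizer ({g} : Set G)).subtype).index := by
    rw [Subgroup.index_map_subtype]
    exact hpp.not_dvd_mul P.not_dvd_index hnd
  set S' : Sylow p G := hDp.toSylow hDidx with hS'
  have hS'le : (S' : Subgroup G) ≤ Subgroup.centralizer ({g} : Set G) := by
    rw [hS', IsPGroup.toSylow_coe]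
    exact Subgroup.map_subtype_le _
  obtain ⟨h, hh⟩ := MulAction.exists_smul_eq G S' S
  refine ⟨h * g * h⁻¹, Cfsg.Agent.S4652.isDefectClass_conj M _ g h hg, ?_⟩
  have hSle : (S : Subgroup G) ≤ Subgroup.centralizer ({h * g * h⁻¹} : Set G) := by
    rw [← hh, Sylow.coe_subgroup_smul, Cfsg.Agent.S4652.centralizer_conj]
    intro x hx
    rw [Subgroup.mem_pointwise_smul_iff_inv_smul_mem] at hx
    refine ⟨_, hS'le hx, ?_⟩
    simp only [MulAut.smul_def, MulAut.conj_inv_apply, MulEquiv.coe_toMonoidHom,
      MulAut.conj_apply]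
    group
  have hSp : IsPGroup p ((S : Subgroup G).subgroupOf
      (Subgroup.centralizer ({h * g * h⁻¹} : Set G))) := S.isPGroup'.comap_subtype
  have hSidx : ¬ p ∣ ((S : Subgroup G).subgroupOf
      (Subgroup.centralizer ({h * g * h⁻¹} : Set G))).index := by
    intro hd
    apply S.not_dvd_index
    have := Subgroup.relIndex_mul_index hSle
    rw [← this]
    exact Dvd.dvd.mul_right hd _
  refine ⟨hSp.toSylow hSidx, ?_⟩
  rw [IsPGroup.toSylow_coe, Subgroup.subgroupOf_map_subtype, inf_of_le_left hSle]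

/-- Two irreducible characters of degree prime to `p` lie in the same block as soon as every
element either has class size divisible by `p`, or is the product of a `p`-element and a commuting
element at which the two central characters agree. -/
theorem sameBlock_of_cases {G : Type*} [Group G] [Finite G] {p : ℕ} {M : Ideal AlgInt}
    (hM : IsPModular p M) (χ ψ : IrrCharacter G)
    (hχ : ¬ p ∣ charDegree (χ : G → ℂ)) (hψ : ¬ p ∣ charDegree (ψ : G → ℂ))
    (h : ∀ g : G, p ∣ (Subgroup.centralizer ({g} : Set G)).index ∨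
      ∃ u z : G, g = u * z ∧ u * z = z * u ∧ (∃ k : ℕ, orderOf u = p ^ k) ∧
        (χ : G → ℂ) z * (ψ : G → ℂ) 1 = (ψ : G → ℂ) z * (χ : G → ℂ) 1) :
    SameBlock M (χ : G → ℂ) (ψ : G → ℂ) := by
  have hMp : M.IsPrime := isPrime_of_isPModular hM
  have hχ1 := Cfsg.Agent.Lib.Helper77_BlockBasics.apply_one_eq_charDegree χ
  have hψ1 := Cfsg.Agent.Lib.Helper77_BlockBasics.apply_one_eq_charDegree ψ
  have hχpos := Cfsg.Agent.Lib.Helper77_BlockBasics.charDegree_pos χ
  have hψpos := Cfsg.Agent.Lib.Helper77_BlockBasics.charDegree_pos ψ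
  have hχne : (χ : G → ℂ) 1 ≠ 0 := by rw [hχ1]; exact_mod_cast hχpos.ne'
  have hψne : (ψ : G → ℂ) 1 ≠ 0 := by rw [hψ1]; exact_mod_cast hψpos.ne'
  have hχinv : MemLocalRing M (((χ : G → ℂ) 1)⁻¹) := by
    rw [hχ1]; exact memLocalRing_inv_natCast hM hχ
  have hψinv : MemLocalRing M (((ψ : G → ℂ) 1)⁻¹) := by
    rw [hψ1]; exact memLocalRing_inv_natCast hM hψ
  intro g
  unfold centralChar
  have hI : MemLocalRing M (((Subgroup.centralizer ({g} : Set G)).index : ℂ)) :=
    memLocalRing_natCast hMp _
  rcases h g with hd | ⟨u, z, hg, hc, ⟨k, hk⟩, hz⟩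
  · have hIM : MemLocalIdeal M (((Subgroup.centralizer ({g} : Set G)).index : ℂ)) :=
      (memLocalIdeal_natCast_iff hM _).2 hd
    apply memLocalIdeal_sub hMp
    · rw [div_eq_mul_inv]
      exact memLocalIdeal_mul_right hMp (memLocalIdeal_mul_right hMp hIM
        (Cfsg.Agent.Lib.Helper16_HeightZero.memLocalRing_irr hMp χ g)) hχinv
    · rw [div_eq_mul_inv]
      exact memLocalIdeal_mul_right hMp (memLocalIdeal_mul_right hMp hIM
        (Cfsg.Agent.Lib.Helper16_HeightZero.memLocalRing_irr hMp ψ g)) hψinv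
  · have h1 := Cfsg.Agent.Lib.Helper16_PCongr.memLocalIdeal_irr_mul_sub hM χ hc hk
    have h2 := Cfsg.Agent.Lib.Helper16_PCongr.memLocalIdeal_irr_mul_sub hM ψ hc hk
    rw [← hg] at h1 h2
    have key : ((Subgroup.centralizer ({g} : Set G)).index : ℂ) * (χ : G → ℂ) g /
          (χ : G → ℂ) 1 -
        ((Subgroup.centralizer ({g} : Set G)).index : ℂ) * (ψ : G → ℂ) g / (ψ : G → ℂ) 1 =
        ((Subgroup.centralizer ({g} : Set G)).index : ℂ) *
          (((χ : G → ℂ) g - (χ : G → ℂ) z) * ((χ : G → ℂ) 1)⁻¹ -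
            ((ψ : G → ℂ) g - (ψ : G → ℂ) z) * ((ψ : G → ℂ) 1)⁻¹) := by
      have hz' : (χ : G → ℂ) z * ((χ : G → ℂ) 1)⁻¹ = (ψ : G → ℂ) z * ((ψ : G → ℂ) 1)⁻¹ := by
        field_simp
        linear_combination hz
      rw [div_eq_mul_inv, div_eq_mul_inv]
      linear_combination ((Subgroup.centralizer ({g} : Set G)).index : ℂ) * hz'
    rw [key]
    apply memLocalIdeal_mul_left hMp hI
    apply memLocalIdeal_sub hMp
    · exact memLocalIdeal_mul_right hMp h1 hχinv
    · exact memLocalIdeal_mul_right hMp h2 hψinv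

end Cfsg.Agent.Lib.Helper39_BlockTools
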