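import Mathlib
import Cfsg.Prelude.Def_Characters
import Cfsg.Agent.Lib.Helper3_CharBridge
import Cfsg.Agent.Lib.Helper3_CharEigen
import Cfsg.Agent.Lib.Helper3_CharOrtho
import Cfsg.Agent.Lib.Helper75_CharArith
import Cfsg.Agent.Lib.Helper78_CentralChar
import Cfsg.Agent.Lib.Helper79_Linear
import Cfsg.Agent.Lib.Helper5_SLGen
import Cfsg.Agent.S2329
import Cfsg.Agent.S4566

/-!
# Characters of `GL₂(F)` over a finite field: restriction to the unipotent subgroup (helper39)
-/

set_option autoImplicit false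

namespace Cfsg.Agent.Lib.Helper39_GL2Char

open scoped ComplexConjugate
open Matrix Representation

section generic

variable {G V : Type*} [Group G] [AddCommGroup V] [Module ℂ V] [FiniteDimensional ℂ V]

/-- An irreducible complex representation with commuting image is one-dimensional. -/
theorem finrank_eq_one_of_commute (ρ : Representation ℂ G V) [ρ.IsIrreducible]
    (hc : ∀ g h : G, ρ g ∘ₗ ρ h = ρ h ∘ₗ ρ g) : Module.finrank ℂ V = 1 := by
  have hnt : Nontrivial V := Cfsg.Agent.Lib.Helper78_CentralChar.nontrivial_of_irreducible ρ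
  obtain ⟨v, hv⟩ := exists_ne (0 : V)
  have hscalar : ∀ g : G, ∃ c : ℂ, ρ g = c • LinearMap.id := fun g =>
    Cfsg.Agent.Lib.Helper78_CentralChar.exists_scalar_of_commute ρ (ρ g) (fun h => hc g h)
  let W : Subrepresentation ρ :=
    { toSubmodule := Submodule.span ℂ {v}
      apply_mem_toSubmodule := by
        intro g w hw
        obtain ⟨c, hcg⟩ := hscalar g
        rw [hcg]
        simp only [LinearMap.smul_apply, LinearMap.id_coe, id_eq]
        exact Submodule.smul_mem _ _ hw }
  have hW : W = ⊤ := by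
    rcases eq_bot_or_eq_top W with h | h
    · exfalso
      have h2 := congrArg Subrepresentation.toSubmodule h
      have : v ∈ (⊥ : Subrepresentation ρ).toSubmodule := by
        rw [← h2]
        exact Submodule.mem_span_singleton_self v
      change v ∈ (⊥ : Submodule ℂ V) at this
      exact hv (by simpa using this)
    · exact h
  have h2 : Submodule.span ℂ {v} = ⊤ := by
    have := congrArg Subrepresentation.toSubmodule hW
    exact this
  exact finrank_eq_one v hv (fun w => by
    have : w ∈ Submodule.span ℂ {v} := by rw [h2]; trivial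
    exact Submodule.mem_span_singleton.1 this)

end generic

section constOff

variable {A : Type*} [AddCommGroup A] [Fintype A]

/-- A character of a nontrivial finite abelian group which is constant (`= c`) off the identity
is `a • 1 + b • (regular - 1)` for natural numbers `a, b`: its degree is `a + (|A| - 1) b` and
`c = a - b`. -/
theorem nat_decomp_of_const_off_one [Nontrivial A] (χ : Multiplicative A → ℂ)
    (hχ : Cfsg.IsCharacter (Multiplicative A) χ) (c : ℂ)
    (hc : ∀ x : Multiplicative A, x ≠ 1 → χ x = c) :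
    ∃ a b : ℕ, χ 1 = (a : ℂ) + ((Fintype.card A : ℂ) - 1) * (b : ℂ) ∧ c = (a : ℂ) - (b : ℂ) := by
  classical
  have hn : (Nat.card (Multiplicative A) : ℂ) = (Fintype.card A : ℂ) := by
    rw [Nat.card_eq_fintype_card, Fintype.card_multiplicative]
  have hn0 : (Fintype.card A : ℂ) ≠ 0 := by
    exact_mod_cast (Fintype.card_pos (α := A)).ne'
  -- sums over the group
  have hsum : ∀ f : Multiplicative A → ℂ, ∑ x, χ x * f x = χ 1 * f 1 + c * (∑ x, f x - f 1) := by
    intro f
    rw [← Finset.add_sum_erase Finset.univ _ (Finset.mem_univ (1 : Multiplicative A))]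
    congr 1
    have h1 : ∑ x ∈ Finset.univ.erase (1 : Multiplicative A), χ x * f x =
        ∑ x ∈ Finset.univ.erase (1 : Multiplicative A), c * f x := by
      refine Finset.sum_congr rfl (fun x hx => ?_)
      rw [hc x (Finset.ne_of_mem_erase hx)]
    rw [h1, ← Finset.mul_sum]
    congr 1
    rw [← Finset.add_sum_erase Finset.univ f (Finset.mem_univ (1 : Multiplicative A))]
    ring
  -- the trivial character
  have htriv : Cfsg.IsCharacter (Multiplicative A) (fun _ => (1 : ℂ)) := by
    have := (Cfsg.Agent.Lib.Helper15_Linear.isCharacter_of_hom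
      (1 : Multiplicative A →* ℂ)).1
    simpa using this
  obtain ⟨a, ha⟩ := Cfsg.Agent.Lib.Helper75_CharArith.classInner_isCharacter_nat hχ htriv
  -- a non-trivial character
  obtain ⟨x0, hx0⟩ := exists_ne (0 : A)
  obtain ⟨ψ, hψ⟩ := (AddChar.exists_apply_ne_zero (a := x0)).2 hx0
  have hψ0 : ψ ≠ 0 := by
    rintro rfl
    exact hψ (by simp)
  have hψsum : ∑ x : A, ψ x = 0 := AddChar.sum_eq_zero_iff_ne_zero.2 hψ0
  have hlin : Cfsg.IsCharacter (Multiplicative A) (fun x => ψ.toMonoidHom x) :=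
    (Cfsg.Agent.Lib.Helper15_Linear.isCharacter_of_hom ψ.toMonoidHom).1
  obtain ⟨b, hb⟩ := Cfsg.Agent.Lib.Helper75_CharArith.classInner_isCharacter_nat hχ hlin
  refine ⟨a, b, ?_⟩
  -- evaluate the two inner products
  rw [Cfsg.classInner, hn] at ha hb
  have e1 : ∑ x, χ x * (starRingEnd ℂ) 1 =
      χ 1 * (starRingEnd ℂ) 1 + c * (∑ _x : Multiplicative A, (starRingEnd ℂ) 1 - (starRingEnd ℂ) 1) :=
    hsum (fun _ => (starRingEnd ℂ) (1 : ℂ))
  have e2 : ∑ x, χ x * (starRingEnd ℂ) (ψ.toMonoidHom x) =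
      χ 1 * (starRingEnd ℂ) (ψ.toMonoidHom 1) +
      c * (∑ x, (starRingEnd ℂ) (ψ.toMonoidHom x) - (starRingEnd ℂ) (ψ.toMonoidHom 1)) :=
    hsum (fun x => (starRingEnd ℂ) (ψ.toMonoidHom x))
  rw [e1] at ha
  rw [e2] at hb
  have hcard : ∑ _x : Multiplicative A, (starRingEnd ℂ) (1 : ℂ) = (Fintype.card A : ℂ) := by
    simp [Fintype.card_multiplicative]
  have hconj : ∑ x : Multiplicative A, conj (ψ.toMonoidHom x) = 0 := by
    rw [← map_sum]
    have : ∑ x : Multiplicative A, ψ.toMonoidHom x = ∑ x : A, ψ x :=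
      Fintype.sum_equiv Multiplicative.toAdd _ _ (fun x => rfl)
    rw [this, hψsum, map_zero]
  rw [hcard, map_one, mul_one] at ha
  rw [hconj, map_one, map_one, mul_one] at hb
  have ha' : χ 1 + c * ((Fintype.card A : ℂ) - 1) = (Fintype.card A : ℂ) * a := by
    rw [← ha]; field_simp
  have hb' : χ 1 - c = (Fintype.card A : ℂ) * b := by
    rw [← hb]; field_simp; ring
  constructor
  · have : (Fintype.card A : ℂ) * χ 1 =
        (Fintype.card A : ℂ) * ((a : ℂ) + ((Fintype.card A : ℂ) - 1) * (b : ℂ)) := by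
      linear_combination ha' + ((Fintype.card A : ℂ) - 1) * hb'
    exact mul_left_cancel₀ hn0 this
  · have : (Fintype.card A : ℂ) * c = (Fintype.card A : ℂ) * ((a : ℂ) - (b : ℂ)) := by
      linear_combination ha' - hb'
    exact mul_left_cancel₀ hn0 this

end constOff

section GL2

variable {F : Type*} [Field F]

/-- The upper unitriangular matrix with off-diagonal entry `x`. -/
noncomputable def uMat (x : F) : GL (Fin 2) F :=
  Matrix.GeneralLinearGroup.mkOfDetNeZero !![1, x; 0, 1] (by simp [Matrix.det_fin_two])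

theorem uMat_val (x : F) : ((uMat x : GL (Fin 2) F) : Matrix (Fin 2) (Fin 2) F) = !![1, x; 0, 1] := rfl

theorem uMat_zero : uMat (0 : F) = 1 := by
  apply Units.ext
  rw [uMat_val]
  ext i j
  fin_cases i <;> fin_cases j <;> simp

theorem uMat_add (x y : F) : uMat (x + y) = uMat x * uMat y := by
  apply Units.ext
  rw [Units.val_mul, uMat_val, uMat_val, uMat_val]
  ext i j
  fin_cases i <;> fin_cases j <;> simp [Matrix.mul_apply, Fin.sum_univ_two, add_comm]

/-- The unipotent subgroup as a homomorphism from the additive group of the field. -/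
noncomputable def uHom : Multiplicative F →* GL (Fin 2) F where
  toFun x := uMat (Multiplicative.toAdd x)
  map_one' := uMat_zero
  map_mul' x y := uMat_add _ _

theorem uHom_apply (x : Multiplicative F) : uHom x = uMat (Multiplicative.toAdd x) := rfl

theorem uMat_one_eq : uMat (1 : F) = Cfsg.Agent.S2329.u F := rfl

/-- All non-identity elements of the unipotent subgroup are conjugate. -/
theorem isConj_uMat {x : F} (hx : x ≠ 0) : IsConj (uMat x) (uMat (1 : F)) := by
  rw [uMat_one_eq]
  apply Cfsg.Agent.S2329.conj_u_of_nilp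
  · rw [uMat_val]
    intro h
    have := congrFun (congrFun h 0) 1
    simp at this
    exact hx this
  · rw [uMat_val]
    ext i j
    fin_cases i <;> fin_cases j <;> simp [Matrix.mul_apply, Fin.sum_univ_two]

/-- A normal subgroup of `GL₂` containing the standard transvection contains `SL₂`. -/
theorem toGL_mem_of_uMat_mem (K : Subgroup (GL (Fin 2) F)) [K.Normal] (hu : uMat (1 : F) ∈ K)
    (A : Matrix.SpecialLinearGroup (Fin 2) F) : Matrix.SpecialLinearGroup.toGL A ∈ K := by
  refine Cfsg.Agent.Lib.Helper5_SLGen.transvection_induction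
    (fun A => Matrix.SpecialLinearGroup.toGL A ∈ K) ?_ ?_ A
  · intro i j hij c
    by_cases hc : c = 0
    · subst hc
      rw [Matrix.SpecialLinearGroup.transvection_coeff_zero, map_one]
      exact K.one_mem
    · have hval : ((Matrix.SpecialLinearGroup.toGL (Matrix.SpecialLinearGroup.transvection hij c) :
          GL (Fin 2) F) : Matrix (Fin 2) (Fin 2) F) = 1 + Matrix.single i j c := rfl
      have hconj : IsConj (Matrix.SpecialLinearGroup.toGL (Matrix.SpecialLinearGroup.transvection hij c))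
          (uMat (1 : F)) := by
        rw [uMat_one_eq]
        apply Cfsg.Agent.S2329.conj_u_of_nilp
        · rw [hval]
          intro h
          have := congrFun (congrFun h i) j
          simp [Matrix.single, hij] at this
          exact hc this
        · rw [hval]
          simp [Matrix.single_mul_single_of_ne _ _ _ _ hij.symm]
      obtain ⟨g, hg⟩ := isConj_iff.1 hconj.symm
      rw [← hg]
      exact ‹K.Normal›.conj_mem _ hu g
  · intro A B hA hB
    rw [map_mul]
    exact K.mul_mem hA hB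

theorem apply_eq_of_isConj {G : Type*} [Group G] {θ : G → ℂ} (hθ : Cfsg.IsClassFunction G θ)
    {g h : G} (hc : IsConj g h) : θ g = θ h := by
  obtain ⟨c, rfl⟩ := isConj_iff.1 hc
  exact (hθ g c).symm

/-- Restriction of a character of `GL₂(F)` to the unipotent subgroup: there are natural numbers
`a, b` with `χ 1 = a + (q - 1) b` and `χ u = a - b`. -/
theorem restrict_U [Fintype F] (χ : GL (Fin 2) F → ℂ) (hχ : Cfsg.IsCharacter (GL (Fin 2) F) χ) :
    ∃ a b : ℕ, χ 1 = (a : ℂ) + ((Fintype.card F : ℂ) - 1) * (b : ℂ) ∧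
      χ (uMat (1 : F)) = (a : ℂ) - (b : ℂ) := by
  have hcf := Cfsg.Agent.Lib.Helper3_CharBridge.isClassFunction_of_isCharacter hχ
  have h1 := nat_decomp_of_const_off_one (A := F) (fun x => χ (uHom x))
    (Cfsg.Agent.Lib.Helper75_CharArith.isCharacter_comp uHom hχ) (χ (uMat (1 : F))) (by
      intro x hx
      simp only [uHom_apply]
      apply apply_eq_of_isConj hcf
      apply isConj_uMat
      intro h0
      apply hx
      exact Multiplicative.toAdd.injective h0)
  simpa using h1

/-- An irreducible character of `GL₂(F)` which is trivial on the transvection has degree one. -/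
theorem degree_one_of_trivial_on_u [Fintype F] [DecidableEq F] (χ : GL (Fin 2) F → ℂ)
    (hχ : Cfsg.IsIrrCharacter (GL (Fin 2) F) χ) (h : χ (uMat (1 : F)) = χ 1) : χ 1 = 1 := by
  obtain ⟨n, ρ, hρ, rfl⟩ := hχ
  have hone : ρ.character 1 = (Module.finrank ℂ (Fin n → ℂ) : ℂ) := Representation.char_one ρ
  rw [hone] at h
  have hu : ρ (uMat (1 : F)) = LinearMap.id :=
    (Cfsg.Agent.Lib.Helper3_CharEigen.char_eq_finrank_iff ρ _).1 h
  have hK : uMat (1 : F) ∈ (MonoidHom.ker ρ) := by
    rw [MonoidHom.mem_ker]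
    exact hu
  have hcomm : ∀ g h : GL (Fin 2) F, ρ g ∘ₗ ρ h = ρ h ∘ₗ ρ g := by
    intro g h
    have hdet : ((g * h * g⁻¹ * h⁻¹ : GL (Fin 2) F) : Matrix (Fin 2) (Fin 2) F).det = 1 := by
      have : Matrix.GeneralLinearGroup.det (g * h * g⁻¹ * h⁻¹) = 1 := by
        simp only [map_mul, map_inv]
        rw [mul_comm (Matrix.GeneralLinearGroup.det g), mul_assoc, mul_assoc]
        simp
      rw [← Matrix.GeneralLinearGroup.val_det_apply, this]
      rfl
    obtain ⟨A, hA⟩ : ∃ A : Matrix.SpecialLinearGroup (Fin 2) F,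
        Matrix.SpecialLinearGroup.toGL A = g * h * g⁻¹ * h⁻¹ :=
      ⟨⟨_, hdet⟩, by apply Units.ext; rfl⟩
    have hmem := toGL_mem_of_uMat_mem (MonoidHom.ker ρ) hK A
    rw [hA, MonoidHom.mem_ker, map_mul, map_mul, map_mul] at hmem
    have e1 : ρ g * ρ h = ρ h * ρ g := by
      have h3 : ρ g * ρ h * ρ g⁻¹ * ρ h⁻¹ * (ρ h * ρ g) = ρ g * ρ h := by
        have hh : ρ h⁻¹ * ρ h = 1 := by rw [← map_mul, inv_mul_cancel, map_one]
        have hg : ρ g⁻¹ * ρ g = 1 := by rw [← map_mul, inv_mul_cancel, map_one]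
        calc ρ g * ρ h * ρ g⁻¹ * ρ h⁻¹ * (ρ h * ρ g)
            = ρ g * ρ h * ρ g⁻¹ * (ρ h⁻¹ * ρ h) * ρ g := by simp only [mul_assoc]
          _ = ρ g * ρ h * (ρ g⁻¹ * ρ g) := by rw [hh, mul_one, mul_assoc]
          _ = ρ g * ρ h := by rw [hg, mul_one]
      rw [hmem, one_mul] at h3
      exact h3.symm
    exact e1
  have := finrank_eq_one_of_commute ρ hcomm
  rw [hone, this]
  simp

/-- The lower unitriangular matrix with off-diagonal entry `x`. -/
noncomputable def lMat (x : F) : GL (Fin 2) F :=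
  Matrix.GeneralLinearGroup.mkOfDetNeZero !![1, 0; x, 1] (by simp [Matrix.det_fin_two])

theorem lMat_val (x : F) : ((lMat x : GL (Fin 2) F) : Matrix (Fin 2) (Fin 2) F) = !![1, 0; x, 1] := rfl

theorem isConj_lMat {x : F} (hx : x ≠ 0) : IsConj (lMat x) (uMat (1 : F)) := by
  rw [uMat_one_eq]
  apply Cfsg.Agent.S2329.conj_u_of_nilp
  · rw [lMat_val]
    intro h
    have := congrFun (congrFun h 1) 0
    simp at this
    exact hx this
  · rw [lMat_val]
    ext i j
    fin_cases i <;> fin_cases j <;> simp [Matrix.mul_apply, Fin.sum_univ_two]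

/-- The scalar matrix `z`. -/
noncomputable def zMat (z : Fˣ) : GL (Fin 2) F :=
  Matrix.GeneralLinearGroup.mkOfDetNeZero !![(z : F), 0; 0, (z : F)] (by simp [Matrix.det_fin_two])

theorem zMat_val (z : Fˣ) : ((zMat z : GL (Fin 2) F) : Matrix (Fin 2) (Fin 2) F) =
    !![(z : F), 0; 0, (z : F)] := rfl

theorem zMat_mem_center (z : Fˣ) : zMat z ∈ Submonoid.center (GL (Fin 2) F) := by
  rw [Submonoid.mem_center_iff]
  intro g
  apply Units.ext
  rw [Units.val_mul, Units.val_mul, zMat_val]
  ext i j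
  fin_cases i <;> fin_cases j <;> simp [Matrix.mul_apply, Fin.sum_univ_two, mul_comm]

end GL2

section central

variable {G : Type*} [Group G] [Finite G]

/-- Multiplying by a central element does not change the absolute value of an irreducible
character. -/
theorem norm_mul_central {χ : G → ℂ} (hχ : Cfsg.IsIrrCharacter G χ) (z : G)
    (hz : z ∈ Submonoid.center G) (a : G) : ‖χ (a * z)‖ = ‖χ a‖ := by
  obtain ⟨n, ρ, hρ, rfl⟩ := hχ
  obtain ⟨c, hc⟩ := Cfsg.Agent.S4566.char_mul_central ρ hρ z hz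
  have hpow : ∀ k : ℕ, ∀ b : G, ρ.character (b * z ^ k) = c ^ k * ρ.character b := by
    intro k
    induction k with
    | zero => intro b; simp
    | succ k ih =>
      intro b
      rw [pow_succ, ← mul_assoc, hc, ih]
      ring
  have h1 := hpow (orderOf z) 1
  rw [pow_orderOf_eq_one, mul_one] at h1
  have hne : ρ.character 1 ≠ 0 := by
    have := hρ
    exact Cfsg.Agent.Lib.Helper78_CentralChar.character_one_ne_zero ρ
  have hc1 : c ^ orderOf z = 1 := by
    have : (c ^ orderOf z - 1) * ρ.character 1 = 0 := by linear_combination (-1 : ℂ) * h1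
    rcases mul_eq_zero.1 this with h | h
    · linear_combination h
    · exact absurd h hne
  have hnorm : ‖c‖ = 1 :=
    Complex.norm_eq_one_of_pow_eq_one hc1 (orderOf_pos z).ne'
  rw [hc, norm_mul, hnorm, one_mul]

end central

section normBound

variable {F : Type*} [Field F] [Fintype F]

/-- The sum of the squared absolute values of an irreducible character is the group order. -/
theorem sum_norm_sq_eq_card {G : Type*} [Group G] [Fintype G] {χ : G → ℂ}
    (hχ : Cfsg.IsIrrCharacter G χ) : ∑ g : G, ‖χ g‖ ^ 2 = (Nat.card G : ℝ) := by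
  have h := Cfsg.Agent.Lib.Helper3_CharOrtho.classInner_self_of_isIrrCharacter hχ
  rw [Cfsg.classInner] at h
  have hne : (Nat.card G : ℂ) ≠ 0 := Cfsg.Agent.Lib.Helper3_CharOrtho.card_ne_zero_complex
  have h2 : ∑ g : G, χ g * conj (χ g) = (Nat.card G : ℂ) := by
    field_simp at h
    linear_combination h
  have h3 : ∀ g : G, χ g * conj (χ g) = ((‖χ g‖ ^ 2 : ℝ) : ℂ) := by
    intro g
    rw [Complex.mul_conj, Complex.normSq_eq_norm_sq]
  simp_rw [h3] at h2
  rw [← Complex.ofReal_sum] at h2
  have h4 : ((∑ g : G, ‖χ g‖ ^ 2 : ℝ) : ℂ) = (((Nat.card G : ℕ) : ℝ) : ℂ) := by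
    rw [h2]; simp
  exact Complex.ofReal_injective h4

/-- Distinct elements on which the absolute value of the character is known. -/
noncomputable def testElt : (Fˣ × F) ⊕ Fˣ → GL (Fin 2) F
  | Sum.inl (z, x) => uMat x * zMat z
  | Sum.inr y => lMat (y : F)

theorem testElt_inl_val (z : Fˣ) (x : F) :
    ((testElt (Sum.inl (z, x)) : GL (Fin 2) F) : Matrix (Fin 2) (Fin 2) F) =
      !![(z : F), x * z; 0, (z : F)] := by
  simp only [testElt]
  rw [Units.val_mul, uMat_val, zMat_val]
  ext i j
  fin_cases i <;> fin_cases j <;> simp [Matrix.mul_apply, Fin.sum_univ_two]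

theorem testElt_inr_val (y : Fˣ) :
    ((testElt (Sum.inr y : (Fˣ × F) ⊕ Fˣ) : GL (Fin 2) F) : Matrix (Fin 2) (Fin 2) F) =
      !![1, 0; (y : F), 1] := rfl

theorem testElt_injective : Function.Injective (testElt (F := F)) := by
  intro s t h
  have hval : ((testElt s : GL (Fin 2) F) : Matrix (Fin 2) (Fin 2) F) =
      ((testElt t : GL (Fin 2) F) : Matrix (Fin 2) (Fin 2) F) := by rw [h]
  rcases s with ⟨z, x⟩ | y <;> rcases t with ⟨z', x'⟩ | y'
  · rw [testElt_inl_val, testElt_inl_val] at hval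
    have h00 := congrFun (congrFun hval 0) 0
    have h01 := congrFun (congrFun hval 0) 1
    simp at h00 h01
    have hz : z = z' := Units.ext h00
    subst hz
    have hx : x = x' := by
      have hz0 : (z : F) ≠ 0 := z.ne_zero
      exact mul_right_cancel₀ hz0 h01
    rw [hx]
  · exfalso
    rw [testElt_inl_val, testElt_inr_val] at hval
    have h10 := congrFun (congrFun hval 1) 0
    simp at h10
    exact y'.ne_zero h10.symm
  · exfalso
    rw [testElt_inl_val, testElt_inr_val] at hval
    have h10 := congrFun (congrFun hval 1) 0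
    simp at h10
  · rw [testElt_inr_val, testElt_inr_val] at hval
    have h10 := congrFun (congrFun hval 1) 0
    simp at h10
    rw [Units.ext h10]

/-- A bound relating the degree of an irreducible character of `GL₂(F)` and its value at a
transvection, obtained from the first orthogonality relation. -/
theorem norm_bound [DecidableEq F] (χ : GL (Fin 2) F → ℂ)
    (hχ : Cfsg.IsIrrCharacter (GL (Fin 2) F) χ) :
    ‖χ 1‖ ^ 2 + (Fintype.card F : ℝ) * ‖χ (uMat (1 : F))‖ ^ 2 ≤
      (Fintype.card F : ℝ) * ((Fintype.card F : ℝ) - 1) * ((Fintype.card F : ℝ) + 1) := by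
  have hcf := Cfsg.Agent.Lib.Helper3_CharBridge.isClassFunction_of_isIrrCharacter hχ
  set q : ℝ := (Fintype.card F : ℝ) with hq
  set c : ℝ := ‖χ (uMat (1 : F))‖ with hcdef
  have hq2 : (2 : ℝ) ≤ q := by
    have := Fintype.one_lt_card (α := F)
    rw [hq]
    exact_mod_cast this
  -- the group order
  have hcard : (Nat.card (GL (Fin 2) F) : ℝ) = (q ^ 2 - 1) * (q ^ 2 - q) := by
    rw [Matrix.card_GL_field, Fin.prod_univ_two]
    have h1 : 1 ≤ Fintype.card F ^ 2 := Nat.one_le_pow _ _ Fintype.card_pos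
    have h2 : Fintype.card F ≤ Fintype.card F ^ 2 := by
      have := Fintype.card_pos (α := F)
      nlinarith
    simp only [Fin.val_zero, pow_zero, Fin.val_one, pow_one]
    rw [Nat.cast_mul, Nat.cast_sub h1, Nat.cast_sub h2]
    simp [hq]
  -- values on the test elements
  have hu : ∀ x : F, x ≠ 0 → ‖χ (uMat x)‖ = c := by
    intro x hx
    rw [hcdef, apply_eq_of_isConj hcf (isConj_uMat hx)]
  have hl : ∀ y : Fˣ, ‖χ (lMat (y : F))‖ = c := by
    intro y
    rw [hcdef, apply_eq_of_isConj hcf (isConj_lMat y.ne_zero)]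
  have hsumU : ∑ x : F, ‖χ (uMat x)‖ ^ 2 = ‖χ 1‖ ^ 2 + (q - 1) * c ^ 2 := by
    rw [← Finset.add_sum_erase Finset.univ _ (Finset.mem_univ (0 : F)), uMat_zero]
    congr 1
    have : ∑ x ∈ Finset.univ.erase (0 : F), ‖χ (uMat x)‖ ^ 2 =
        ∑ _x ∈ Finset.univ.erase (0 : F), c ^ 2 := by
      refine Finset.sum_congr rfl (fun x hx => ?_)
      rw [hu x (Finset.ne_of_mem_erase hx)]
    rw [this, Finset.sum_const, Finset.card_erase_of_mem (Finset.mem_univ _), Finset.card_univ,
      nsmul_eq_mul, Nat.cast_sub Fintype.card_pos]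
    simp [hq]
  have hunits : (Fintype.card Fˣ : ℝ) = q - 1 := by
    rw [Fintype.card_units, Nat.cast_sub Fintype.card_pos]
    simp [hq]
  have hsum : ∑ s : (Fˣ × F) ⊕ Fˣ, ‖χ (testElt s)‖ ^ 2 =
      (q - 1) * (‖χ 1‖ ^ 2 + q * c ^ 2) := by
    rw [Fintype.sum_sum_type, Fintype.sum_prod_type]
    have h1 : ∀ z : Fˣ, ∑ x : F, ‖χ (testElt (Sum.inl (z, x)))‖ ^ 2 =
        ‖χ 1‖ ^ 2 + (q - 1) * c ^ 2 := by
      intro z
      rw [← hsumU]
      refine Finset.sum_congr rfl (fun x _ => ?_)
      simp only [testElt]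
      rw [norm_mul_central hχ (zMat z) (zMat_mem_center z)]
    simp_rw [h1]
    have h2 : ∀ y : Fˣ, ‖χ (testElt (Sum.inr y : (Fˣ × F) ⊕ Fˣ))‖ ^ 2 = c ^ 2 := by
      intro y
      simp only [testElt]
      rw [hl y]
    simp_rw [h2]
    rw [Finset.sum_const, Finset.sum_const, Finset.card_univ, nsmul_eq_mul, nsmul_eq_mul, hunits]
    ring
  have hle : ∑ s : (Fˣ × F) ⊕ Fˣ, ‖χ (testElt s)‖ ^ 2 ≤ ∑ g : GL (Fin 2) F, ‖χ g‖ ^ 2 := by
    have hmap : ∑ s : (Fˣ × F) ⊕ Fˣ, ‖χ (testElt s)‖ ^ 2 =
        ∑ g ∈ Finset.univ.map ⟨testElt, testElt_injective (F := F)⟩, ‖χ g‖ ^ 2 :=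
      (Finset.sum_map Finset.univ ⟨testElt, testElt_injective (F := F)⟩
        (fun g => ‖χ g‖ ^ 2)).symm
    rw [hmap]
    exact Finset.sum_le_sum_of_subset_of_nonneg (Finset.subset_univ _)
      (fun g _ _ => by positivity)
  rw [hsum, sum_norm_sq_eq_card hχ, hcard] at hle
  have hq1 : 0 < q - 1 := by linarith
  have : (q - 1) * (‖χ 1‖ ^ 2 + q * c ^ 2) ≤ (q - 1) * (q * (q - 1) * (q + 1)) := by
    calc (q - 1) * (‖χ 1‖ ^ 2 + q * c ^ 2) ≤ (q ^ 2 - 1) * (q ^ 2 - q) := hle
      _ = (q - 1) * (q * (q - 1) * (q + 1)) := by ring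
  exact le_of_mul_le_mul_left this hq1

end normBound

end Cfsg.Agent.Lib.Helper39_GL2Char
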