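import Mathlib
import Cfsg.Prelude.Def_Characters
import Cfsg.Agent.Lib.Helper39_CharTools
import Cfsg.Agent.Lib.Helper39_GL2Char

/-!
# More Clifford-type tools (helper39)

* `sum_rho_eq_zero` : if the sum of a character over a finite subgroup `N` vanishes, then the
  sum of the representing operators over `N` vanishes, hence so do all sums over cosets.
* `exists_linear_constituent'` : a character of a group `B` with abelian quotient `B / N` whose
  sum over `N` does not vanish has a linear constituent which is trivial on `N`.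
-/

set_option autoImplicit false

namespace Cfsg.Agent.Lib.Helper39_Clifford

open scoped ComplexConjugate
open Representation Cfsg.Agent.Lib.Helper39_CharTools

section zero

variable {G V : Type*} [Group G] [AddCommGroup V] [Module ℂ V] [FiniteDimensional ℂ V]

/-- If the sum of a character over a finite subgroup vanishes, the sum of the operators
vanishes. -/
theorem sum_rho_eq_zero (ρ : Representation ℂ G V) (N : Subgroup G) [Fintype N]
    (h : ∑ n : N, ρ.character n = 0) : ∑ n : N, ρ n = 0 := by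
  set P : V →ₗ[ℂ] V := ∑ n : N, ρ n with hP
  have hcard : (Fintype.card N : ℂ) ≠ 0 := by
    exact_mod_cast (Fintype.card_pos (α := N)).ne'
  have hPP : P * P = (Fintype.card N : ℂ) • P := by
    rw [hP, Finset.sum_mul]
    have : ∀ m : N, ρ m * ∑ n : N, ρ n = ∑ n : N, ρ n := by
      intro m
      rw [Finset.mul_sum]
      have : ∀ n : N, ρ m * ρ n = ρ ((m * n : N) : G) := by
        intro n
        rw [← map_mul]
        rfl
      simp_rw [this]
      exact Fintype.sum_equiv (Equiv.mulLeft m) _ _ (fun n => rfl)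
    simp_rw [this]
    rw [Finset.sum_const, Finset.card_univ, ← Nat.cast_smul_eq_nsmul ℂ]
  have htr : LinearMap.trace ℂ V P = 0 := by
    rw [hP, map_sum]
    exact h
  set Q : V →ₗ[ℂ] V := (Fintype.card N : ℂ)⁻¹ • P with hQ
  have hidem : IsIdempotentElem Q := by
    change Q * Q = Q
    rw [hQ, smul_mul_smul_comm, hPP, smul_smul]
    congr 1
    field_simp
  have htrQ : LinearMap.trace ℂ V Q = 0 := by
    rw [hQ, map_smul, htr, smul_zero]
  have hQ0 : Q = 0 := LinearMap.IsIdempotentElem.eq_zero_of_trace_eq_zero hidem htrQ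
  have : P = (Fintype.card N : ℂ) • Q := by
    rw [hQ, smul_smul, mul_inv_cancel₀ hcard, one_smul]
  rw [this, hQ0, smul_zero]

/-- If the sum of a character over a finite subgroup vanishes, so do the sums over its cosets. -/
theorem sum_char_mul_eq_zero (ρ : Representation ℂ G V) (N : Subgroup G) [Fintype N]
    (h : ∑ n : N, ρ.character n = 0) (g : G) : ∑ n : N, ρ.character (g * n) = 0 := by
  have h0 := sum_rho_eq_zero ρ N h
  simp only [Representation.character, map_mul]
  rw [← map_sum, ← Finset.mul_sum, h0, mul_zero, map_zero]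

end zero

/-- If the sum of a character over a finite subgroup vanishes, so do the sums over its cosets. -/
theorem sum_isCharacter_mul_eq_zero {G : Type*} [Group G] {χ : G → ℂ}
    (hχ : Cfsg.IsCharacter G χ) (N : Subgroup G) [Fintype N] (h : ∑ n : N, χ n = 0) (g : G) :
    ∑ n : N, χ (g * n) = 0 := by
  obtain ⟨n, ρ, rfl⟩ := hχ
  exact sum_char_mul_eq_zero ρ N h g

section linear

variable {B : Type*} [Group B] [Fintype B]

/-- A character of a group `B` with abelian quotient `B / N` whose sum over `N` does not vanish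
has a linear constituent which is trivial on `N`. -/
theorem exists_linear_constituent' (N : Subgroup B) [N.Normal] [Fintype N]
    (hcommN : ∀ a b : B, a * b * a⁻¹ * b⁻¹ ∈ N) (ξ : B → ℂ) (hξ : Cfsg.IsCharacter B ξ)
    (hsum : ∑ n : N, ξ n ≠ 0) :
    ∃ μ : B → ℂ, Cfsg.IsCharacter B μ ∧ μ 1 = 1 ∧ (∀ n : N, μ n = 1) ∧
      Cfsg.classInner ξ μ ≠ 0 := by
  classical
  obtain ⟨m, hm, hdec⟩ := char_eq_sum_nat hξ
  have h1 : ∑ n : N, ξ n =
      ∑ φ : Cfsg.IrrCharacter B, (m φ : ℂ) * ∑ n : N, (φ : B → ℂ) n := by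
    simp_rw [hdec, Finset.mul_sum]
    rw [Finset.sum_comm]
  rw [h1] at hsum
  obtain ⟨φ, -, hφ⟩ := Finset.exists_ne_zero_of_sum_ne_zero hsum
  have hmφ : (m φ : ℂ) ≠ 0 := left_ne_zero_of_mul hφ
  have hsφ : ∑ n : N, (φ : B → ℂ) n ≠ 0 := right_ne_zero_of_mul hφ
  obtain ⟨k, ρ, hρ, hφρ⟩ := φ.2
  have hsN : ∑ n : N, ρ.character n ≠ 0 := by
    rw [hφρ]
    exact hsφ
  have hid := rho_eq_id_of_sum_ne_zero ρ N hsN
  have hcomm : ∀ g h : B, ρ g ∘ₗ ρ h = ρ h ∘ₗ ρ g := by
    intro g h
    have hmem := hid ⟨_, hcommN g h⟩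
    simp only at hmem
    rw [map_mul, map_mul, map_mul] at hmem
    have e1 : ρ g * ρ h = ρ h * ρ g := by
      have h3 : ρ g * ρ h * ρ g⁻¹ * ρ h⁻¹ * (ρ h * ρ g) = ρ g * ρ h := by
        have hh : ρ h⁻¹ * ρ h = 1 := by rw [← map_mul, inv_mul_cancel, map_one]
        have hg : ρ g⁻¹ * ρ g = 1 := by rw [← map_mul, inv_mul_cancel, map_one]
        calc ρ g * ρ h * ρ g⁻¹ * ρ h⁻¹ * (ρ h * ρ g)
            = ρ g * ρ h * ρ g⁻¹ * (ρ h⁻¹ * ρ h) * ρ g := by simp only [mul_assoc]
          _ = ρ g * ρ h * (ρ g⁻¹ * ρ g) := by rw [hh, mul_one, mul_assoc]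
          _ = ρ g * ρ h := by rw [hg, mul_one]
      rw [hmem] at h3
      change 1 * (ρ h * ρ g) = ρ g * ρ h at h3
      rw [one_mul] at h3
      exact h3.symm
    exact e1
  have hfr := Cfsg.Agent.Lib.Helper39_GL2Char.finrank_eq_one_of_commute ρ hcomm
  refine ⟨(φ : B → ℂ), Cfsg.Agent.Lib.Helper3_CharBridge.isCharacter_of_isIrrCharacter φ.2,
    ?_, ?_, ?_⟩
  · rw [← hφρ, Representation.char_one, hfr]
    simp
  · intro n
    rw [← hφρ]
    have := hid n
    simp only [Representation.character]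
    rw [this]
    change LinearMap.trace ℂ (Fin k → ℂ) 1 = 1
    rw [LinearMap.trace_one, hfr]
    simp
  · rw [hm φ]
    exact hmφ

end linear

end Cfsg.Agent.Lib.Helper39_Clifford
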