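/-
helper40: more definitions for the abstract "unique character of p-defect zero" theorem:
sums over subsets, and the rank-one data (a minimal parabolic subgroup as a group in its own right).
See pending/helper40/DefZero_proof.md.
-/
import Mathlib
import Cfsg.Prelude.Def_Characters
import Cfsg.Agent.Lib.Helper40_DefZeroDefs

set_option autoImplicit false

namespace Cfsg.Agent.Lib.Helper40_DefZeroDefs

open Classical in
/-- The sum of a complex function over a subset of a finite type. -/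
noncomputable def ssum {G : Type*} [Fintype G] (S : Set G) (f : G → ℂ) : ℂ :=
  ∑ g : G, if g ∈ S then f g else 0

/-- Rank-one data: a finite group `P` (a minimal parabolic), with its Borel subgroup `B`, the unipotent
subgroup `U`, the radical `Ua` (normal in `P`), a root subgroup `X` with `U = X Ua`, and an element `n`
with `P = B ∪ U n B`. -/
structure RData (P : Type*) [Group P] (p q : ℕ) where
  B : Subgroup P
  U : Subgroup P
  Ua : Subgroup P
  X : Subgroup P
  n : P
  hq : 2 ≤ q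
  U_le_B : U ≤ B
  Ua_le_U : Ua ≤ U
  X_le_U : X ≤ U
  U_pgroup : IsPGroup p U
  pel : ∀ b ∈ B, (∃ k : ℕ, b ^ p ^ k = 1) → b ∈ U
  U_normal : ∀ b ∈ B, ∀ u ∈ U, b * u * b⁻¹ ∈ U
  comm_mem : ∀ a ∈ B, ∀ b ∈ B, a * b * a⁻¹ * b⁻¹ ∈ U
  Ua_normal : ∀ g : P, ∀ u ∈ Ua, g * u * g⁻¹ ∈ Ua
  U_prod : ∀ u ∈ U, ∃ x ∈ X, ∃ v ∈ Ua, u = x * v
  card_Ua : Nat.card U = q * Nat.card Ua
  card_P : Nat.card P = (q + 1) * Nat.card B
  cover : ∀ g : P, g ∈ B ∨ ∃ u ∈ U, ∃ b ∈ B, g = u * n * b

end Cfsg.Agent.Lib.Helper40_DefZeroDefs
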