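import Mathlib
import Cfsg.Prelude.Def_Characters
import Cfsg.Prelude.Def_ParabolicCharacters
import Cfsg.Agent.Lib.Helper40_DefZeroDefs
import Cfsg.Agent.Lib.Helper40_DefZeroDefs2
import Cfsg.Agent.Lib.Helper75_Induced
import Cfsg.Agent.Lib.Helper75_IndChar
import Cfsg.Agent.Lib.Helper75_CharArith
import Cfsg.Agent.Lib.Helper39_CharTools
import Cfsg.Agent.Lib.Helper39_Clifford
import Cfsg.Agent.Lib.Helper3_CharOrtho
import Cfsg.Agent.Lib.Helper3_CharBridge
import Cfsg.Agent.Lib.Helper80_CharBasic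

/-!
# DEFZERO package CLAIMA (helper39, for helper40's market)

If `χ` is an irreducible character of `G` whose sum over `U` does not vanish, and `ψ` is an
irreducible constituent of the restriction of `χ` to `P`, then the sum of `ψ` over `X` does not
vanish, provided every `g` conjugates some `P`-conjugate of `X` into `U`.
-/

set_option autoImplicit false

open Cfsg Cfsg.Agent.Lib.Helper40_DefZeroDefs
open scoped ComplexConjugate

namespace Cfsg.Agent.Lib.Helper39_DZ_CLAIMA

variable {G : Type*} [Group G] [Fintype G]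

/-- `ssum` over a subgroup is the sum over the subgroup type. -/
theorem ssum_subgroup (V : Subgroup G) [Fintype V] (f : G → ℂ) :
    ssum (V : Set G) f = ∑ v : V, f v := by
  classical
  unfold ssum
  have h := Cfsg.Agent.Lib.Helper75_Induced.sum_extendByZero_mul V (fun v : V => f v)
    (fun _ => (1 : ℂ))
  simp only [mul_one] at h
  rw [← h]
  refine Finset.sum_congr rfl (fun g _ => ?_)
  by_cases hg : g ∈ V
  · rw [if_pos (by exact hg), Cfsg.Agent.Lib.Helper75_Induced.extendByZero_of_mem V _ hg]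
  · rw [if_neg (by exact hg), Cfsg.Agent.Lib.Helper75_Induced.extendByZero_of_not_mem V _ hg]

theorem ssum_add (S : Set G) (f g : G → ℂ) : ssum S (f + g) = ssum S f + ssum S g := by
  classical
  unfold ssum
  rw [← Finset.sum_add_distrib]
  refine Finset.sum_congr rfl (fun x _ => ?_)
  by_cases hx : x ∈ S
  · simp [hx]
  · simp [hx]

/-- The sum of a character over a subgroup is a natural multiple of the order of the subgroup. -/
theorem ssum_subgroup_char (V : Subgroup G) (η : G → ℂ) (hη : Cfsg.IsCharacter G η) :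
    ∃ f : ℕ, ssum (V : Set G) η = (f : ℂ) * (Nat.card V : ℂ) := by
  classical
  haveI : Fintype V := Fintype.ofFinite V
  obtain ⟨n, hn⟩ := Cfsg.Agent.Lib.Helper75_CharArith.classInner_isCharacter_nat
    (Cfsg.Agent.Lib.Helper75_CharArith.isCharacter_restrict V hη)
    (Cfsg.Agent.Lib.Helper3_CharBridge.isCharacter_of_isIrrCharacter
      (Cfsg.Agent.Lib.Helper80_CharBasic.isIrrCharacter_one V))
  refine ⟨n, ?_⟩
  rw [ssum_subgroup]
  unfold Cfsg.classInner at hn
  have hV : (Nat.card V : ℂ) ≠ 0 := by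
    rw [Nat.cast_ne_zero]; exact Nat.card_pos.ne'
  have h2 : ∑ v : V, η v = ∑ g : V, (fun h : V => η h) g * conj ((fun _ : V => (1 : ℂ)) g) := by
    refine Finset.sum_congr rfl (fun v _ => ?_)
    simp
  have h3 : ∑ v : V, η v = (Nat.card V : ℂ) * ((Nat.card V : ℂ)⁻¹ *
      ∑ g : V, (fun h : V => η h) g * conj ((fun _ : V => (1 : ℂ)) g)) := by
    rw [← mul_assoc, mul_inv_cancel₀ hV, one_mul]
    exact h2
  rw [h3, hn]
  ring

theorem dz_claimA (U P X : Subgroup G) [Fintype P] (hXP : X ≤ P)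
    (hbr : ∀ g : G, ∃ y ∈ P, ∀ x ∈ X, g * (y * x * y⁻¹) * g⁻¹ ∈ U)
    (χ : G → ℂ) (hχ : Cfsg.IsIrrCharacter G χ) (hU : ssum (U : Set G) χ ≠ 0)
    (ψ : P → ℂ) (hψ : Cfsg.IsIrrCharacter P ψ)
    (hne : Cfsg.classInner (fun y : P => χ y) ψ ≠ 0) :
    ssum ((X.subgroupOf P : Subgroup P) : Set P) ψ ≠ 0 := by
  classical
  intro h0
  haveI : Fintype (X.subgroupOf P) := Fintype.ofFinite _
  have hψc : Cfsg.IsCharacter P ψ :=
    Cfsg.Agent.Lib.Helper3_CharBridge.isCharacter_of_isIrrCharacter hψ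
  have hψcf : Cfsg.IsClassFunction P ψ :=
    Cfsg.Agent.Lib.Helper3_CharBridge.isClassFunction_of_isIrrCharacter hψ
  have hX0 : ∑ x : X.subgroupOf P, ψ x = 0 := by
    rw [← ssum_subgroup]; exact h0
  -- Step 1: sums over cosets of conjugates of X vanish
  have step1 : ∀ y z : P, ∑ x : X.subgroupOf P, ψ (z * (y * x * y⁻¹)) = 0 := by
    intro y z
    have h := Cfsg.Agent.Lib.Helper39_Clifford.sum_isCharacter_mul_eq_zero hψc (X.subgroupOf P)
      hX0 (y⁻¹ * z * y)
    rw [← h]
    refine Finset.sum_congr rfl (fun x _ => ?_)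
    have := hψcf (y⁻¹ * z * y * (x : P)) y
    rw [← this]
    congr 1
    group
  -- Step 2: the sum of ψ over Y_g vanishes
  have step2 : ∀ g : G, ∑ z : P, (if g * (z : G) * g⁻¹ ∈ U then ψ z else 0) = 0 := by
    intro g
    obtain ⟨y, hyP, hy⟩ := hbr g
    set y' : P := ⟨y, hyP⟩ with hy'
    set S : ℂ := ∑ z : P, (if g * (z : G) * g⁻¹ ∈ U then ψ z else 0) with hS
    have hc : ∀ x : X.subgroupOf P, g * ((y' * (x : P) * y'⁻¹ : P) : G) * g⁻¹ ∈ U := by
      intro x
      have hx : ((x : P) : G) ∈ X := Subgroup.mem_subgroupOf.mp x.2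
      have := hy _ hx
      simpa [hy'] using this
    have hshift : ∀ x : X.subgroupOf P,
        S = ∑ z : P, (if g * (z : G) * g⁻¹ ∈ U then ψ (z * (y' * (x : P) * y'⁻¹)) else 0) := by
      intro x
      rw [hS]
      have hre := (Fintype.sum_equiv (Equiv.mulRight (y' * (x : P) * y'⁻¹))
        (fun z : P => (if g * ((z * (y' * (x : P) * y'⁻¹) : P) : G) * g⁻¹ ∈ U then
          ψ (z * (y' * (x : P) * y'⁻¹)) else 0))
        (fun z : P => (if g * (z : G) * g⁻¹ ∈ U then ψ z else 0)) (fun z => rfl)).symm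
      rw [hre]
      refine Finset.sum_congr rfl (fun z _ => ?_)
      have hiff : g * ((z * (y' * (x : P) * y'⁻¹) : P) : G) * g⁻¹ ∈ U ↔
          g * (z : G) * g⁻¹ ∈ U := by
        have e : g * ((z * (y' * (x : P) * y'⁻¹) : P) : G) * g⁻¹ =
            (g * (z : G) * g⁻¹) * (g * ((y' * (x : P) * y'⁻¹ : P) : G) * g⁻¹) := by
          rw [Subgroup.coe_mul]
          group
        rw [e]
        exact Subgroup.mul_mem_cancel_right U (hc x)
      simp only [hiff]
    have hsum : (Fintype.card (X.subgroupOf P) : ℂ) * S = 0 := by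
      have h1 : (Fintype.card (X.subgroupOf P) : ℂ) * S = ∑ _x : X.subgroupOf P, S := by
        rw [Finset.sum_const, Finset.card_univ, nsmul_eq_mul]
      rw [h1]
      have h2 : ∑ x : X.subgroupOf P, S = ∑ x : X.subgroupOf P, ∑ z : P,
          (if g * (z : G) * g⁻¹ ∈ U then ψ (z * (y' * (x : P) * y'⁻¹)) else 0) :=
        Finset.sum_congr rfl (fun x _ => hshift x)
      rw [h2, Finset.sum_comm]
      refine Finset.sum_eq_zero (fun z _ => ?_)
      by_cases hz : g * (z : G) * g⁻¹ ∈ U
      · simp only [if_pos hz]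
        exact step1 y' z
      · simp only [if_neg hz]
        simp
    have hcard : (Fintype.card (X.subgroupOf P) : ℂ) ≠ 0 := by
      exact_mod_cast (Fintype.card_pos (α := X.subgroupOf P)).ne'
    exact (mul_eq_zero.mp hsum).resolve_left hcard
  -- Step 3: the induced character sums to zero over U
  have step3 : ssum (U : Set G) (Cfsg.indFun P ψ) = 0 := by
    unfold ssum
    have h1 : ∀ u : G, (if u ∈ (U : Set G) then Cfsg.indFun P ψ u else 0) =
        (Nat.card P : ℂ)⁻¹ * ∑ x : G,
          (if u ∈ (U : Set G) then Cfsg.extendByZero P ψ (x⁻¹ * u * x) else 0) := by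
      intro u
      by_cases hu : u ∈ (U : Set G)
      · simp only [if_pos hu]
        rfl
      · simp only [if_neg hu]
        simp
    simp_rw [h1]
    rw [← Finset.mul_sum, Finset.sum_comm]
    have h2 : ∀ x : G, ∑ u : G,
        (if u ∈ (U : Set G) then Cfsg.extendByZero P ψ (x⁻¹ * u * x) else 0) = 0 := by
      intro x
      rw [← (MulAut.conj x).toEquiv.sum_comp]
      have h3 : ∀ z : G, (if (MulAut.conj x).toEquiv z ∈ (U : Set G) then
          Cfsg.extendByZero P ψ (x⁻¹ * (MulAut.conj x).toEquiv z * x) else 0) =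
          Cfsg.extendByZero P ψ z * (if x * z * x⁻¹ ∈ U then 1 else 0) := by
        intro z
        have e1 : (MulAut.conj x).toEquiv z = x * z * x⁻¹ := rfl
        rw [e1]
        have e2 : x⁻¹ * (x * z * x⁻¹) * x = z := by group
        rw [e2]
        by_cases hz : x * z * x⁻¹ ∈ U
        · rw [if_pos (by exact hz), if_pos hz, mul_one]
        · rw [if_neg (by exact hz), if_neg hz, mul_zero]
      simp_rw [h3]
      rw [Cfsg.Agent.Lib.Helper75_Induced.sum_extendByZero_mul P ψ
        (fun z => if x * z * x⁻¹ ∈ U then 1 else 0)]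
      have h4 : ∑ z : P, ψ z * (if x * (z : G) * x⁻¹ ∈ U then (1 : ℂ) else 0) =
          ∑ z : P, (if x * (z : G) * x⁻¹ ∈ U then ψ z else 0) := by
        refine Finset.sum_congr rfl (fun z _ => ?_)
        by_cases hz : x * (z : G) * x⁻¹ ∈ U
        · rw [if_pos hz, if_pos hz, mul_one]
        · rw [if_neg hz, if_neg hz, mul_zero]
      rw [h4]
      exact step2 x
    rw [Finset.sum_eq_zero (fun x _ => h2 x), mul_zero]
  -- Step 4: contradiction
  have hΦ : Cfsg.IsCharacter G (Cfsg.indFun P ψ) :=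
    Cfsg.Agent.Lib.Helper75_IndChar.isCharacter_indFun P hψc
  have hχcf : Cfsg.IsClassFunction G χ :=
    Cfsg.Agent.Lib.Helper3_CharBridge.isClassFunction_of_isIrrCharacter hχ
  have hin : Cfsg.classInner (Cfsg.indFun P ψ) χ ≠ 0 := by
    rw [Cfsg.Agent.Lib.Helper75_Induced.frobenius_reciprocity P ψ χ hχcf,
      ← Cfsg.Agent.Lib.Helper3_CharOrtho.classInner_conj_symm]
    intro h
    apply hne
    have := congrArg conj h
    simpa using this
  have hη : Cfsg.IsCharacter G (Cfsg.indFun P ψ - χ) :=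
    Cfsg.Agent.Lib.Helper39_CharTools.isCharacter_sub_irr hΦ hχ hin
  obtain ⟨f, hf⟩ := ssum_subgroup_char U χ
    (Cfsg.Agent.Lib.Helper3_CharBridge.isCharacter_of_isIrrCharacter hχ)
  obtain ⟨f', hf'⟩ := ssum_subgroup_char U _ hη
  have hdec : Cfsg.indFun P ψ = χ + (Cfsg.indFun P ψ - χ) := by
    funext g; simp
  have hsum : ssum (U : Set G) (Cfsg.indFun P ψ) =
      ((f : ℂ) + (f' : ℂ)) * (Nat.card U : ℂ) := by
    rw [hdec, ssum_add, hf, hf']
    ring
  rw [step3] at hsum
  have hUc : (Nat.card U : ℂ) ≠ 0 := by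
    rw [Nat.cast_ne_zero]; exact Nat.card_pos.ne'
  have hff : ((f : ℂ) + (f' : ℂ)) = 0 := by
    rcases mul_eq_zero.mp hsum.symm with h | h
    · exact h
    · exact absurd h hUc
  have hf0 : f = 0 := by
    have : ((f + f' : ℕ) : ℂ) = 0 := by push_cast; exact hff
    have := Nat.cast_eq_zero.mp this
    omega
  apply hU
  rw [hf, hf0]
  simp

end Cfsg.Agent.Lib.Helper39_DZ_CLAIMA
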