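import Mathlib

set_option autoImplicit false

namespace Cfsg.Agent.Lib.Helper39_GL2

open Matrix

variable {F : Type*} [Field F]

/-- Companion matrix of `X^2 - t X + d`. -/
def companion (t d : F) : Matrix (Fin 2) (Fin 2) F := !![0, -d; 1, t]

@[simp] theorem companion_det (t d : F) : (companion t d).det = d := by
  simp [companion, Matrix.det_fin_two]

@[simp] theorem companion_trace (t d : F) : (companion t d).trace = t := by
  simp [companion, Matrix.trace_fin_two]

theorem companion_apply_10 (t d : F) : companion t d 1 0 = 1 := by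
  simp [companion]

/-- A matrix is scalar. -/
def IsScalar (M : Matrix (Fin 2) (Fin 2) F) : Prop := M 0 1 = 0 ∧ M 1 0 = 0 ∧ M 0 0 = M 1 1

theorem isScalar_iff (M : Matrix (Fin 2) (Fin 2) F) :
    IsScalar M ↔ ∃ a : F, M = a • (1 : Matrix (Fin 2) (Fin 2) F) := by
  constructor
  · rintro ⟨h1, h2, h3⟩
    refine ⟨M 0 0, ?_⟩
    ext i j
    fin_cases i <;> fin_cases j <;> simp [h1, h2, h3]
  · rintro ⟨a, rfl⟩
    simp [IsScalar]

theorem not_isScalar_companion (t d : F) : ¬ IsScalar (companion t d) := by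
  rintro ⟨_, h, _⟩
  simp [companion] at h

/-- Every non-scalar matrix is similar to the companion matrix of its characteristic polynomial. -/
theorem exists_conj_companion (M : Matrix (Fin 2) (Fin 2) F) (hM : ¬ IsScalar M) :
    ∃ P : Matrix (Fin 2) (Fin 2) F, P.det ≠ 0 ∧ M * P = P * companion M.trace M.det := by
  by_cases hc : M 1 0 = 0
  · by_cases hb : M 0 1 = 0
    · have had : M 0 0 ≠ M 1 1 := fun h => hM ⟨hb, hc, h⟩
      refine ⟨!![1, M 0 0; 1, M 1 1], ?_, ?_⟩
      · simp only [Matrix.det_fin_two_of]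
        intro h
        apply had
        linear_combination (-1 : F) * h
      · ext i j
        fin_cases i <;> fin_cases j <;>
          simp [companion, Matrix.mul_apply, Fin.sum_univ_two, Matrix.trace_fin_two,
            Matrix.det_fin_two, hb, hc] <;> ring
    · refine ⟨!![0, M 0 1; 1, M 1 1], ?_, ?_⟩
      · simpa [Matrix.det_fin_two_of] using hb
      · ext i j
        fin_cases i <;> fin_cases j <;>
          simp [companion, Matrix.mul_apply, Fin.sum_univ_two, Matrix.trace_fin_two,
            Matrix.det_fin_two, hc] <;> ring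
  · refine ⟨!![1, M 0 0; 0, M 1 0], ?_, ?_⟩
    · simpa [Matrix.det_fin_two_of] using hc
    · ext i j
      fin_cases i <;> fin_cases j <;>
        simp [companion, Matrix.mul_apply, Fin.sum_univ_two, Matrix.trace_fin_two,
          Matrix.det_fin_two] <;> ring

/-- Matrix similarity gives conjugacy in `GL`. -/
theorem isConj_of_mul_eq (g h : GL (Fin 2) F) (P : Matrix (Fin 2) (Fin 2) F) (hP : P.det ≠ 0)
    (hgh : (g : Matrix (Fin 2) (Fin 2) F) * P = P * (h : Matrix (Fin 2) (Fin 2) F)) : IsConj g h := by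
  rw [isConj_comm, isConj_iff]
  refine ⟨Matrix.GeneralLinearGroup.mkOfDetNeZero P hP, ?_⟩
  rw [mul_inv_eq_iff_eq_mul]
  apply Units.ext
  simp only [Units.val_mul]
  exact hgh.symm

theorem trace_eq_of_isConj {g h : GL (Fin 2) F} (hc : IsConj g h) :
    (g : Matrix (Fin 2) (Fin 2) F).trace = (h : Matrix (Fin 2) (Fin 2) F).trace := by
  rw [isConj_iff] at hc
  obtain ⟨c, rfl⟩ := hc
  simp only [Units.val_mul]
  rw [Matrix.trace_mul_comm, ← mul_assoc]
  simp

theorem det_eq_of_isConj {g h : GL (Fin 2) F} (hc : IsConj g h) :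
    (g : Matrix (Fin 2) (Fin 2) F).det = (h : Matrix (Fin 2) (Fin 2) F).det := by
  rw [isConj_iff] at hc
  obtain ⟨c, rfl⟩ := hc
  simp only [Units.val_mul, Matrix.det_mul]
  have hc1 : (c : Matrix (Fin 2) (Fin 2) F).det * ((c⁻¹ : GL (Fin 2) F) : Matrix (Fin 2) (Fin 2) F).det = 1 := by
    rw [← Matrix.det_mul, ← Units.val_mul, mul_inv_cancel]
    simp
  rw [mul_comm, ← mul_assoc, mul_comm _ (c : Matrix (Fin 2) (Fin 2) F).det, hc1, one_mul]

theorem eq_of_isConj_of_isScalar {g h : GL (Fin 2) F} (hc : IsConj g h)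
    (hg : IsScalar (g : Matrix (Fin 2) (Fin 2) F)) : g = h := by
  rw [isConj_iff] at hc
  obtain ⟨c, rfl⟩ := hc
  rw [isScalar_iff] at hg
  obtain ⟨a, ha⟩ := hg
  rw [eq_mul_inv_iff_mul_eq]
  apply Units.ext
  simp only [Units.val_mul]
  rw [ha]
  simp

end Cfsg.Agent.Lib.Helper39_GL2
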