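import Mathlib
import Cfsg.Agent.Lib.Helper39_GL2

set_option autoImplicit false

namespace Cfsg.Agent.Lib.Helper39_SL2

open Matrix Cfsg.Agent.Lib.Helper39_GL2

variable {F : Type*} [Field F]

/-- The companion matrix with determinant one as an element of `SL₂`. -/
def companionSL (t : F) : Matrix.SpecialLinearGroup (Fin 2) F :=
  ⟨companion t 1, by simp⟩

@[simp] theorem companionSL_val (t : F) :
    ((companionSL t : Matrix.SpecialLinearGroup (Fin 2) F) : Matrix (Fin 2) (Fin 2) F) = companion t 1 := rfl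

/-- Matrix similarity by a determinant one matrix gives conjugacy in `SL₂`. -/
theorem isConj_of_mul_eq (g h : Matrix.SpecialLinearGroup (Fin 2) F) (P : Matrix (Fin 2) (Fin 2) F)
    (hP : P.det = 1)
    (hgh : (g : Matrix (Fin 2) (Fin 2) F) * P = P * (h : Matrix (Fin 2) (Fin 2) F)) : IsConj g h := by
  rw [isConj_comm, isConj_iff]
  obtain ⟨c, hc⟩ : ∃ c : Matrix.SpecialLinearGroup (Fin 2) F, (c : Matrix (Fin 2) (Fin 2) F) = P :=
    ⟨⟨P, hP⟩, rfl⟩
  refine ⟨c, ?_⟩
  rw [mul_inv_eq_iff_eq_mul]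
  apply Subtype.ext
  simp only [Matrix.SpecialLinearGroup.coe_mul, hc]
  exact hgh.symm

theorem exists_of_isConj {g h : Matrix.SpecialLinearGroup (Fin 2) F} (hc : IsConj g h) :
    ∃ P : Matrix (Fin 2) (Fin 2) F, P.det = 1 ∧
      P * (g : Matrix (Fin 2) (Fin 2) F) = (h : Matrix (Fin 2) (Fin 2) F) * P := by
  rw [isConj_iff] at hc
  obtain ⟨c, rfl⟩ := hc
  refine ⟨c, c.2, ?_⟩
  have : c * g = c * g * c⁻¹ * c := by group
  have h2 := congrArg (fun x : Matrix.SpecialLinearGroup (Fin 2) F => (x : Matrix (Fin 2) (Fin 2) F)) this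
  simpa only [Matrix.SpecialLinearGroup.coe_mul] using h2

theorem trace_eq_of_isConj {g h : Matrix.SpecialLinearGroup (Fin 2) F} (hc : IsConj g h) :
    (g : Matrix (Fin 2) (Fin 2) F).trace = (h : Matrix (Fin 2) (Fin 2) F).trace := by
  have := Cfsg.Agent.Lib.Helper39_GL2.trace_eq_of_isConj
    (Matrix.SpecialLinearGroup.toGL.map_isConj hc)
  simpa using this

/-- `det (x + y M) = x² + (tr M) x y + (det M) y²`. -/
theorem det_smul_one_add_smul (M : Matrix (Fin 2) (Fin 2) F) (x y : F) :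
    (x • (1 : Matrix (Fin 2) (Fin 2) F) + y • M).det = x ^ 2 + M.trace * x * y + M.det * y ^ 2 := by
  simp [Matrix.det_fin_two, Matrix.trace_fin_two]
  ring

/-- If the norm form of `g` represents the right scalar, a non-scalar `g ∈ SL₂` is conjugate
in `SL₂` to the companion matrix of its trace. -/
theorem isConj_companionSL (g : Matrix.SpecialLinearGroup (Fin 2) F)
    (hg : ¬ IsScalar (g : Matrix (Fin 2) (Fin 2) F))
    (hrep : ∀ e : F, e ≠ 0 → ∃ x y : F,
      x ^ 2 + (g : Matrix (Fin 2) (Fin 2) F).trace * x * y + y ^ 2 = e) :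
    IsConj g (companionSL (g : Matrix (Fin 2) (Fin 2) F).trace) := by
  obtain ⟨P, hP, hMP⟩ := exists_conj_companion _ hg
  obtain ⟨x, y, hxy⟩ := hrep (P.det)⁻¹ (inv_ne_zero hP)
  set M : Matrix (Fin 2) (Fin 2) F := (g : Matrix (Fin 2) (Fin 2) F) with hM
  have hdet : M.det = 1 := g.2
  rw [hdet] at hMP
  refine isConj_of_mul_eq g _ ((x • (1 : Matrix (Fin 2) (Fin 2) F) + y • M) * P) ?_ ?_
  · rw [Matrix.det_mul, det_smul_one_add_smul, hdet, one_mul, hxy, inv_mul_cancel₀ hP]
  · rw [companionSL_val, Matrix.mul_assoc, ← hMP, ← Matrix.mul_assoc, ← Matrix.mul_assoc]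
    congr 1
    rw [hM]
    simp [Matrix.mul_add, Matrix.add_mul]

end Cfsg.Agent.Lib.Helper39_SL2
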