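import Mathlib
import Cfsg.Prelude.Def_Characters
import Cfsg.Prelude.Def_ParabolicCharacters
import Cfsg.Agent.Lib.Helper39_GL2Char
import Cfsg.Agent.Lib.Helper39_CharTools

/-!
# The Borel subgroup of `GL₂(F)` and its characters (helper39)
-/

set_option autoImplicit false

namespace Cfsg.Agent.Lib.Helper39_GL2Borel

open scoped ComplexConjugate
open Matrix Cfsg.Agent.Lib.Helper39_GL2Char Cfsg.Agent.Lib.Helper39_CharTools

variable {F : Type*} [Field F]

/-- The Borel subgroup. -/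
abbrev Borel (F : Type*) [Field F] : Subgroup (GL (Fin 2) F) := Cfsg.upperTriangularGL 2 F

theorem mem_borel_iff (x : GL (Fin 2) F) :
    x ∈ Borel F ↔ (x : Matrix (Fin 2) (Fin 2) F) 1 0 = 0 := by
  change (x : Matrix (Fin 2) (Fin 2) F).BlockTriangular id ↔ _
  constructor
  · intro h
    exact h (by decide)
  · intro h i j hij
    fin_cases i <;> fin_cases j <;> simp at hij ⊢
    exact h

theorem borel_10 (b : Borel F) : ((b : GL (Fin 2) F) : Matrix (Fin 2) (Fin 2) F) 1 0 = 0 :=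
  (mem_borel_iff _).1 b.2

theorem borel_det (b : Borel F) : ((b : GL (Fin 2) F) : Matrix (Fin 2) (Fin 2) F) 0 0 *
    ((b : GL (Fin 2) F) : Matrix (Fin 2) (Fin 2) F) 1 1 ≠ 0 := by
  have h := (b : GL (Fin 2) F).det_ne_zero
  rw [Matrix.det_fin_two, borel_10] at h
  simpa using h

theorem borel_00_ne_zero (b : Borel F) :
    ((b : GL (Fin 2) F) : Matrix (Fin 2) (Fin 2) F) 0 0 ≠ 0 :=
  left_ne_zero_of_mul (borel_det b)

theorem borel_11_ne_zero (b : Borel F) :
    ((b : GL (Fin 2) F) : Matrix (Fin 2) (Fin 2) F) 1 1 ≠ 0 :=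
  right_ne_zero_of_mul (borel_det b)

/-- The upper triangular matrix with given entries. -/
noncomputable def bMat (x z : Fˣ) (y : F) : Borel F :=
  ⟨Matrix.GeneralLinearGroup.mkOfDetNeZero !![(x : F), y; 0, (z : F)]
    (by simp [Matrix.det_fin_two]), by
    rw [mem_borel_iff]
    rfl⟩

theorem bMat_val (x z : Fˣ) (y : F) :
    (((bMat x z y : Borel F) : GL (Fin 2) F) : Matrix (Fin 2) (Fin 2) F) = !![(x : F), y; 0, (z : F)] :=
  rfl

/-- The Borel subgroup is parametrised by its entries. -/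
noncomputable def borelEquiv : Borel F ≃ Fˣ × Fˣ × F where
  toFun b := (Units.mk0 _ (borel_00_ne_zero b), Units.mk0 _ (borel_11_ne_zero b),
    ((b : GL (Fin 2) F) : Matrix (Fin 2) (Fin 2) F) 0 1)
  invFun p := bMat p.1 p.2.1 p.2.2
  left_inv b := by
    apply Subtype.ext
    apply Units.ext
    rw [bMat_val]
    ext i j
    fin_cases i <;> fin_cases j <;> simp [borel_10]
  right_inv p := by
    obtain ⟨x, z, y⟩ := p
    simp only [bMat_val]
    refine Prod.ext ?_ (Prod.ext ?_ ?_)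
    · apply Units.ext; simp
    · apply Units.ext; simp
    · simp

theorem card_borel [Fintype F] [DecidableEq F] :
    Nat.card (Borel F) = (Fintype.card F - 1) * ((Fintype.card F - 1) * Fintype.card F) := by
  rw [Nat.card_congr borelEquiv, Nat.card_prod, Nat.card_prod, Nat.card_units,
    Nat.card_eq_fintype_card]

/-- The unipotent elements as elements of the Borel subgroup. -/
noncomputable def uB (x : F) : Borel F :=
  ⟨uMat x, by rw [mem_borel_iff, uMat_val]; rfl⟩

@[simp] theorem uB_coe (x : F) : ((uB x : Borel F) : GL (Fin 2) F) = uMat x := rfl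

/-- The unipotent subgroup as a homomorphism into the Borel subgroup. -/
noncomputable def uBHom : Multiplicative F →* Borel F where
  toFun x := uB (Multiplicative.toAdd x)
  map_one' := by apply Subtype.ext; exact uMat_zero
  map_mul' x y := by apply Subtype.ext; exact uMat_add _ _

theorem uBHom_apply (x : Multiplicative F) : uBHom x = uB (Multiplicative.toAdd x) := rfl

theorem uB_zero : uB (0 : F) = 1 := by apply Subtype.ext; exact uMat_zero

/-- The scalar matrices as elements of the Borel subgroup. -/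
noncomputable def zB (z : Fˣ) : Borel F :=
  ⟨zMat z, by rw [mem_borel_iff, zMat_val]; rfl⟩

@[simp] theorem zB_coe (z : Fˣ) : ((zB z : Borel F) : GL (Fin 2) F) = zMat z := rfl

theorem zB_mem_center (z : Fˣ) : zB z ∈ Submonoid.center (Borel F) := by
  rw [Submonoid.mem_center_iff]
  intro g
  apply Subtype.ext
  have := Submonoid.mem_center_iff.1 (zMat_mem_center z) (g : GL (Fin 2) F)
  exact this

/-- Non-identity unipotent elements are conjugate inside the Borel subgroup. -/
theorem isConj_uB {x : F} (hx : x ≠ 0) : IsConj (uB x) (uB (1 : F)) := by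
  rw [isConj_comm, isConj_iff]
  refine ⟨bMat (Units.mk0 x hx) 1 0, ?_⟩
  rw [mul_inv_eq_iff_eq_mul]
  apply Subtype.ext
  apply Units.ext
  simp only [Subgroup.coe_mul, Units.val_mul, uB_coe, uMat_val, bMat_val]
  ext i j
  fin_cases i <;> fin_cases j <;> simp [Matrix.mul_apply, Fin.sum_univ_two]

/-- The diagonal part of the Borel subgroup, as a homomorphism onto the torus. -/
noncomputable def diagHom : Borel F →* Fˣ × Fˣ where
  toFun b := (Units.mk0 _ (borel_00_ne_zero b), Units.mk0 _ (borel_11_ne_zero b))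
  map_one' := by
    refine Prod.ext ?_ ?_ <;> apply Units.ext <;> simp
  map_mul' a b := by
    refine Prod.ext ?_ ?_ <;> apply Units.ext <;>
      simp [Matrix.mul_apply, Fin.sum_univ_two, borel_10]

theorem diagHom_fst (b : Borel F) : ((diagHom b).1 : F) =
    ((b : GL (Fin 2) F) : Matrix (Fin 2) (Fin 2) F) 0 0 := rfl

theorem diagHom_snd (b : Borel F) : ((diagHom b).2 : F) =
    ((b : GL (Fin 2) F) : Matrix (Fin 2) (Fin 2) F) 1 1 := rfl

/-- The unipotent radical of the Borel subgroup. -/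
noncomputable def UB (F : Type*) [Field F] : Subgroup (Borel F) := (diagHom (F := F)).ker

instance : (UB F).Normal := MonoidHom.normal_ker _

theorem mem_UB_iff (b : Borel F) : b ∈ UB F ↔
    ((b : GL (Fin 2) F) : Matrix (Fin 2) (Fin 2) F) 0 0 = 1 ∧
    ((b : GL (Fin 2) F) : Matrix (Fin 2) (Fin 2) F) 1 1 = 1 := by
  rw [UB, MonoidHom.mem_ker, Prod.ext_iff]
  constructor
  · rintro ⟨h1, h2⟩
    exact ⟨by rw [← diagHom_fst, h1]; rfl, by rw [← diagHom_snd, h2]; rfl⟩
  · rintro ⟨h1, h2⟩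
    exact ⟨Units.ext (by rw [diagHom_fst, h1]; rfl), Units.ext (by rw [diagHom_snd, h2]; rfl)⟩

theorem uB_mem_UB (x : F) : uB x ∈ UB F := by
  rw [mem_UB_iff, uB_coe, uMat_val]
  simp

/-- The unipotent radical is parametrised by the field. -/
noncomputable def UBEquiv : F ≃ UB F where
  toFun x := ⟨uB x, uB_mem_UB x⟩
  invFun b := (((b : Borel F) : GL (Fin 2) F) : Matrix (Fin 2) (Fin 2) F) 0 1
  left_inv x := by simp [uMat_val]
  right_inv b := by
    obtain ⟨b, hb⟩ := b
    rw [mem_UB_iff] at hb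
    apply Subtype.ext
    apply Subtype.ext
    apply Units.ext
    simp only [uB_coe, uMat_val]
    ext i j
    fin_cases i <;> fin_cases j <;> simp [hb.1, hb.2, borel_10]

/-- Commutators in the Borel subgroup lie in the unipotent radical. -/
theorem commutator_mem_UB (a b : Borel F) : a * b * a⁻¹ * b⁻¹ ∈ UB F := by
  rw [UB, MonoidHom.mem_ker]
  simp only [map_mul, map_inv]
  rw [mul_comm (diagHom a), mul_assoc, mul_assoc]
  simp

section chars

variable [Fintype F]

/-- Restriction of a character of the Borel subgroup to the unipotent radical. -/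
theorem restrict_UB (ξ : Borel F → ℂ) (hξ : Cfsg.IsCharacter (Borel F) ξ) :
    ∃ a b : ℕ, ξ 1 = (a : ℂ) + ((Fintype.card F : ℂ) - 1) * (b : ℂ) ∧
      ξ (uB (1 : F)) = (a : ℂ) - (b : ℂ) := by
  have hcf := Cfsg.Agent.Lib.Helper3_CharBridge.isClassFunction_of_isCharacter hξ
  have h1 := nat_decomp_of_const_off_one (A := F) (fun x => ξ (uBHom x))
    (Cfsg.Agent.Lib.Helper75_CharArith.isCharacter_comp uBHom hξ) (ξ (uB (1 : F))) (by
      intro x hx
      simp only [uBHom_apply]
      apply apply_eq_of_isConj hcf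
      apply isConj_uB
      intro h0
      apply hx
      exact Multiplicative.toAdd.injective h0)
  simpa using h1

/-- A character of the Borel subgroup of degree `q - 1` with value `-1` on the unipotent
elements is irreducible. -/
theorem isIrrCharacter_of_cuspidal_data [DecidableEq F] (ξ : Borel F → ℂ)
    (hξ : Cfsg.IsCharacter (Borel F) ξ)
    (h1 : ξ 1 = (Fintype.card F : ℂ) - 1) (hu : ξ (uB (1 : F)) = -1) :
    Cfsg.IsIrrCharacter (Borel F) ξ := by
  classical
  have : Fintype (Borel F) := Fintype.ofFinite _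
  obtain ⟨m, hm, hsum⟩ := char_eq_sum_nat hξ
  have hab : ∀ φ : Cfsg.IrrCharacter (Borel F), ∃ a b : ℕ,
      (φ : Borel F → ℂ) 1 = (a : ℂ) + ((Fintype.card F : ℂ) - 1) * (b : ℂ) ∧
      (φ : Borel F → ℂ) (uB (1 : F)) = (a : ℂ) - (b : ℂ) := fun φ =>
    restrict_UB _ (Cfsg.Agent.Lib.Helper3_CharBridge.isCharacter_of_isIrrCharacter φ.2)
  choose a b ha hb using hab
  obtain ⟨Q, hQ⟩ : ∃ Q : ℕ, Fintype.card F = Q + 1 :=
    ⟨Fintype.card F - 1, by have := Fintype.card_pos (α := F); omega⟩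
  have hQc : (Fintype.card F : ℂ) - 1 = (Q : ℂ) := by rw [hQ]; push_cast; ring
  have e1 := hsum 1
  have eu := hsum (uB (1 : F))
  simp_rw [ha] at e1
  simp_rw [hb] at eu
  rw [h1, hQc] at e1
  rw [hu] at eu
  -- sum of m * b is one, sum of m * a is zero
  have hB : ∑ φ, m φ * b φ = 1 := by
    have : ((Q + 1 : ℕ) : ℂ) * ((∑ φ, m φ * b φ : ℕ) : ℂ) = ((Q + 1 : ℕ) : ℂ) * 1 := by
      push_cast
      have e3 : (Q : ℂ) - (-1) = ∑ φ, ((m φ : ℂ) * ((a φ : ℂ) + (Q : ℂ) * (b φ : ℂ))) -
          ∑ φ, ((m φ : ℂ) * ((a φ : ℂ) - (b φ : ℂ))) := by rw [← e1, ← eu]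
      rw [← Finset.sum_sub_distrib] at e3
      rw [Finset.mul_sum]
      have : ∀ φ : Cfsg.IrrCharacter (Borel F),
          (m φ : ℂ) * ((a φ : ℂ) + (Q : ℂ) * (b φ : ℂ)) - (m φ : ℂ) * ((a φ : ℂ) - (b φ : ℂ)) =
          ((Q : ℂ) + 1) * ((m φ : ℂ) * (b φ : ℂ)) := fun φ => by ring
      simp_rw [this] at e3
      rw [← e3]
      ring
    have hne : ((Q + 1 : ℕ) : ℂ) ≠ 0 := by exact_mod_cast Nat.succ_ne_zero Q
    have := mul_left_cancel₀ hne this
    exact_mod_cast this
  have hA : ∑ φ, m φ * a φ = 0 := by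
    have : ((∑ φ, m φ * a φ : ℕ) : ℂ) = 0 := by
      push_cast
      have hBc : ∑ φ, (m φ : ℂ) * (b φ : ℂ) = 1 := by exact_mod_cast hB
      have : ∑ φ, (m φ : ℂ) * (a φ : ℂ) = -1 + ∑ φ, (m φ : ℂ) * (b φ : ℂ) := by
        rw [eu, ← Finset.sum_add_distrib]
        refine Finset.sum_congr rfl (fun φ _ => ?_)
        ring
      rw [this, hBc]
      ring
    exact_mod_cast this
  have hA' : ∀ φ, m φ * a φ = 0 := fun φ =>
    (Finset.sum_eq_zero_iff.1 hA) φ (Finset.mem_univ φ)
  obtain ⟨φ₀, -, hφ₀⟩ := Finset.exists_ne_zero_of_sum_ne_zero (by rw [hB]; exact one_ne_zero :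
    ∑ φ ∈ Finset.univ, m φ * b φ ≠ 0)
  have hsplit := Finset.add_sum_erase Finset.univ (fun φ => m φ * b φ) (Finset.mem_univ φ₀)
  rw [hB] at hsplit
  have h0 : m φ₀ * b φ₀ = 1 := by
    have : 1 ≤ m φ₀ * b φ₀ := Nat.one_le_iff_ne_zero.2 hφ₀
    omega
  have hrest : ∀ φ, φ ≠ φ₀ → m φ * b φ = 0 := by
    intro φ hφ
    have hz : ∑ x ∈ Finset.univ.erase φ₀, m x * b x = 0 := by omega
    exact (Finset.sum_eq_zero_iff.1 hz) φ (Finset.mem_erase.2 ⟨hφ, Finset.mem_univ φ⟩)
  have hm0 : m φ₀ = 1 := Nat.eq_one_of_mul_eq_one_right h0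
  have hmrest : ∀ φ, φ ≠ φ₀ → m φ = 0 := by
    intro φ hφ
    by_contra hne
    have ha0 : a φ = 0 := by
      rcases Nat.mul_eq_zero.1 (hA' φ) with h | h
      · exact absurd h hne
      · exact h
    have hb0 : b φ = 0 := by
      rcases Nat.mul_eq_zero.1 (hrest φ hφ) with h | h
      · exact absurd h hne
      · exact h
    have := ha φ
    rw [ha0, hb0] at this
    simp at this
    exact Cfsg.Agent.Lib.Helper78_CentralChar.isIrrCharacter_one_ne_zero φ.2 this
  have : ξ = (φ₀ : Borel F → ℂ) := by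
    funext g
    rw [hsum g, Finset.sum_eq_single φ₀]
    · rw [hm0]; simp
    · intro φ _ hφ
      rw [hmrest φ hφ]; simp
    · intro h; exact absurd (Finset.mem_univ _) h
  rw [this]
  exact φ₀.2

/-- Test elements: a given element together with the elements of `Z U`. -/
noncomputable def testB (b₀ : Borel F) : Option (Fˣ × F) → Borel F
  | none => b₀
  | some (z, x) => uB x * zB z

theorem testB_some_val (b₀ : Borel F) (z : Fˣ) (x : F) :
    (((testB b₀ (some (z, x)) : Borel F) : GL (Fin 2) F) : Matrix (Fin 2) (Fin 2) F) =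
      !![(z : F), x * z; 0, (z : F)] := by
  simp only [testB, Subgroup.coe_mul, Units.val_mul, uB_coe, zB_coe, uMat_val, zMat_val]
  ext i j
  fin_cases i <;> fin_cases j <;> simp [Matrix.mul_apply, Fin.sum_univ_two]

theorem testB_injective (b₀ : Borel F)
    (hb : ((b₀ : GL (Fin 2) F) : Matrix (Fin 2) (Fin 2) F) 0 0 ≠
      ((b₀ : GL (Fin 2) F) : Matrix (Fin 2) (Fin 2) F) 1 1) :
    Function.Injective (testB b₀) := by
  intro s t h
  have hval : (((testB b₀ s : Borel F) : GL (Fin 2) F) : Matrix (Fin 2) (Fin 2) F) =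
      (((testB b₀ t : Borel F) : GL (Fin 2) F) : Matrix (Fin 2) (Fin 2) F) := by rw [h]
  rcases s with _ | ⟨z, x⟩ <;> rcases t with _ | ⟨z', x'⟩
  · rfl
  · exfalso
    rw [testB_some_val] at hval
    apply hb
    have h00 := congrFun (congrFun hval 0) 0
    have h11 := congrFun (congrFun hval 1) 1
    simp only [testB] at h00 h11
    rw [h00, h11]
    simp
  · exfalso
    rw [testB_some_val] at hval
    apply hb
    have h00 := congrFun (congrFun hval 0) 0
    have h11 := congrFun (congrFun hval 1) 1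
    simp only [testB] at h00 h11
    rw [← h00, ← h11]
    simp
  · rw [testB_some_val, testB_some_val] at hval
    have h00 := congrFun (congrFun hval 0) 0
    have h01 := congrFun (congrFun hval 0) 1
    simp at h00 h01
    have hz : z = z' := Units.ext h00
    subst hz
    have hx : x = x' := mul_right_cancel₀ z.ne_zero h01
    rw [hx]

/-- A character of the Borel subgroup of degree `q - 1` with value `-1` on the unipotent
elements vanishes on all elements with distinct diagonal entries. -/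
theorem cuspidal_vanish [DecidableEq F] (ξ : Borel F → ℂ) (hξ : Cfsg.IsCharacter (Borel F) ξ)
    (h1 : ξ 1 = (Fintype.card F : ℂ) - 1) (hu : ξ (uB (1 : F)) = -1) (b₀ : Borel F)
    (hb : ((b₀ : GL (Fin 2) F) : Matrix (Fin 2) (Fin 2) F) 0 0 ≠
      ((b₀ : GL (Fin 2) F) : Matrix (Fin 2) (Fin 2) F) 1 1) : ξ b₀ = 0 := by
  classical
  have : Fintype (Borel F) := Fintype.ofFinite _
  have hirr := isIrrCharacter_of_cuspidal_data ξ hξ h1 hu
  have hcf := Cfsg.Agent.Lib.Helper3_CharBridge.isClassFunction_of_isCharacter hξ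
  set q : ℝ := (Fintype.card F : ℝ) with hq
  have hq1 : (1 : ℝ) ≤ q := by
    rw [hq]; exact_mod_cast Fintype.card_pos (α := F)
  have hcard : (Nat.card (Borel F) : ℝ) = (q - 1) * ((q - 1) * q) := by
    rw [card_borel]
    push_cast
    rw [Nat.cast_sub Fintype.card_pos]
    simp [hq]
  have hnorm1 : ‖ξ 1‖ = q - 1 := by
    rw [h1]
    have : ((Fintype.card F : ℂ) - 1) = ((q - 1 : ℝ) : ℂ) := by simp [hq]
    rw [this, Complex.norm_real, Real.norm_of_nonneg (by linarith)]
  have hnormu : ∀ x : F, x ≠ 0 → ‖ξ (uB x)‖ = 1 := by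
    intro x hx
    rw [apply_eq_of_isConj hcf (isConj_uB hx), hu]
    simp
  have hsumU : ∑ x : F, ‖ξ (uB x)‖ ^ 2 = (q - 1) ^ 2 + (q - 1) := by
    rw [← Finset.add_sum_erase Finset.univ _ (Finset.mem_univ (0 : F)), uB_zero, hnorm1]
    congr 1
    have : ∑ x ∈ Finset.univ.erase (0 : F), ‖ξ (uB x)‖ ^ 2 =
        ∑ _x ∈ Finset.univ.erase (0 : F), (1 : ℝ) := by
      refine Finset.sum_congr rfl (fun x hx => ?_)
      rw [hnormu x (Finset.ne_of_mem_erase hx)]
      norm_num
    rw [this, Finset.sum_const, Finset.card_erase_of_mem (Finset.mem_univ _), Finset.card_univ,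
      nsmul_eq_mul, Nat.cast_sub Fintype.card_pos]
    simp [hq]
  have hunits : (Fintype.card Fˣ : ℝ) = q - 1 := by
    rw [Fintype.card_units, Nat.cast_sub Fintype.card_pos]
    simp [hq]
  have hsum : ∑ s : Option (Fˣ × F), ‖ξ (testB b₀ s)‖ ^ 2 =
      ‖ξ b₀‖ ^ 2 + (q - 1) * ((q - 1) ^ 2 + (q - 1)) := by
    rw [Fintype.sum_option, Fintype.sum_prod_type]
    congr 1
    have h2 : ∀ z : Fˣ, ∑ x : F, ‖ξ (testB b₀ (some (z, x)))‖ ^ 2 = (q - 1) ^ 2 + (q - 1) := by
      intro z
      rw [← hsumU]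
      refine Finset.sum_congr rfl (fun x _ => ?_)
      simp only [testB]
      rw [norm_mul_central hirr (zB z) (zB_mem_center z)]
    simp_rw [h2]
    rw [Finset.sum_const, Finset.card_univ, nsmul_eq_mul, hunits]
  have hle : ∑ s : Option (Fˣ × F), ‖ξ (testB b₀ s)‖ ^ 2 ≤ ∑ g : Borel F, ‖ξ g‖ ^ 2 := by
    have hmap : ∑ s : Option (Fˣ × F), ‖ξ (testB b₀ s)‖ ^ 2 =
        ∑ g ∈ Finset.univ.map ⟨testB b₀, testB_injective b₀ hb⟩, ‖ξ g‖ ^ 2 :=
      (Finset.sum_map Finset.univ ⟨testB b₀, testB_injective b₀ hb⟩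
        (fun g => ‖ξ g‖ ^ 2)).symm
    rw [hmap]
    exact Finset.sum_le_sum_of_subset_of_nonneg (Finset.subset_univ _)
      (fun g _ _ => by positivity)
  rw [hsum, sum_norm_sq_eq_card hirr, hcard] at hle
  have h0 : ‖ξ b₀‖ ^ 2 ≤ 0 := by nlinarith
  have h3 : ‖ξ b₀‖ = 0 := by
    have := sq_nonneg ‖ξ b₀‖
    have h4 : ‖ξ b₀‖ ^ 2 = 0 := le_antisymm h0 this
    exact pow_eq_zero_iff (two_ne_zero) |>.1 h4
  exact norm_eq_zero.1 h3

end chars

end Cfsg.Agent.Lib.Helper39_GL2Borel
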