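import Mathlib
import Cfsg.Prelude.Def_Characters
import Cfsg.Prelude.Def_ParabolicCharacters
import Cfsg.Agent.Lib.Helper39_GL2Borel
import Cfsg.Agent.Lib.Helper75_Induced
import Cfsg.Agent.Lib.Helper75_IndChar

/-!
# Principal series constituents of `GL₂(F)` (helper39)
-/

set_option autoImplicit false

namespace Cfsg.Agent.Lib.Helper39_GL2Series

open scoped ComplexConjugate
open Matrix Cfsg.Agent.Lib.Helper39_GL2Char Cfsg.Agent.Lib.Helper39_CharTools
  Cfsg.Agent.Lib.Helper39_GL2Borel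

variable {F : Type*} [Field F]

/-- Restriction of a function on `GL₂(F)` to the Borel subgroup. -/
def resB (χ : GL (Fin 2) F → ℂ) : Borel F → ℂ := fun b => χ (b : GL (Fin 2) F)

theorem resB_apply (χ : GL (Fin 2) F → ℂ) (b : Borel F) : resB χ b = χ (b : GL (Fin 2) F) := rfl

theorem isCharacter_resB {χ : GL (Fin 2) F → ℂ} (hχ : Cfsg.IsCharacter (GL (Fin 2) F) χ) :
    Cfsg.IsCharacter (Borel F) (resB χ) :=
  Cfsg.Agent.Lib.Helper75_CharArith.isCharacter_restrict (Borel F) hχ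

section linear

variable [Fintype F]

/-- If the sum over the unipotent radical of a character of the Borel subgroup does not vanish,
the character has a linear constituent which is trivial on the unipotent radical. -/
theorem exists_linear_constituent [Fintype (Borel F)] (ξ : Borel F → ℂ)
    (hξ : Cfsg.IsCharacter (Borel F) ξ) (hsum : ∑ x : F, ξ (uB x) ≠ 0) :
    ∃ μ : Borel F → ℂ, Cfsg.IsCharacter (Borel F) μ ∧ μ 1 = 1 ∧ (∀ x : F, μ (uB x) = 1) ∧
      Cfsg.classInner ξ μ ≠ 0 := by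
  classical
  obtain ⟨m, hm, hdec⟩ := char_eq_sum_nat hξ
  have h1 : ∑ x : F, ξ (uB x) =
      ∑ φ : Cfsg.IrrCharacter (Borel F), (m φ : ℂ) * ∑ x : F, (φ : Borel F → ℂ) (uB x) := by
    simp_rw [hdec, Finset.mul_sum]
    rw [Finset.sum_comm]
  rw [h1] at hsum
  obtain ⟨φ, -, hφ⟩ := Finset.exists_ne_zero_of_sum_ne_zero hsum
  have hmφ : (m φ : ℂ) ≠ 0 := left_ne_zero_of_mul hφ
  have hsφ : ∑ x : F, (φ : Borel F → ℂ) (uB x) ≠ 0 := right_ne_zero_of_mul hφ
  obtain ⟨n, ρ, hρ, hφρ⟩ := φ.2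
  have : Fintype (UB F) := Fintype.ofFinite _
  have hsN : ∑ k : UB F, ρ.character k ≠ 0 := by
    have : ∑ k : UB F, ρ.character k = ∑ x : F, (φ : Borel F → ℂ) (uB x) := by
      rw [← hφρ]
      exact (Fintype.sum_equiv UBEquiv _ _ (fun x => rfl)).symm
    rw [this]
    exact hsφ
  have hid := rho_eq_id_of_sum_ne_zero ρ (UB F) hsN
  have hcomm : ∀ g h : Borel F, ρ g ∘ₗ ρ h = ρ h ∘ₗ ρ g := by
    intro g h
    have hmem := hid ⟨_, commutator_mem_UB g h⟩
    simp only at hmem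
    rw [map_mul, map_mul, map_mul] at hmem
    have e1 : ρ g * ρ h = ρ h * ρ g := by
      have h3 : ρ g * ρ h * ρ g⁻¹ * ρ h⁻¹ * (ρ h * ρ g) = ρ g * ρ h := by
        have hh : ρ h⁻¹ * ρ h = 1 := by rw [← map_mul, inv_mul_cancel, map_one]
        have hg : ρ g⁻¹ * ρ g = 1 := by rw [← map_mul, inv_mul_cancel, map_one]
        calc ρ g * ρ h * ρ g⁻¹ * ρ h⁻¹ * (ρ h * ρ g)
            = ρ g * ρ h * ρ g⁻¹ * (ρ h⁻¹ * ρ h) * ρ g := by simp only [mul_assoc]
          _ = ρ g * ρ h * (ρ g⁻¹ * ρ g) := by rw [hh, mul_one, mul_assoc]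
          _ = ρ g * ρ h := by rw [hg, mul_one]
      rw [hmem] at h3
      change 1 * (ρ h * ρ g) = ρ g * ρ h at h3
      rw [one_mul] at h3
      exact h3.symm
    exact e1
  have hfr := finrank_eq_one_of_commute ρ hcomm
  refine ⟨(φ : Borel F → ℂ), Cfsg.Agent.Lib.Helper3_CharBridge.isCharacter_of_isIrrCharacter φ.2,
    ?_, ?_, ?_⟩
  · rw [← hφρ, Representation.char_one, hfr]
    simp
  · intro x
    rw [← hφρ]
    have := hid ⟨uB x, uB_mem_UB x⟩
    simp only at this
    simp only [Representation.character]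
    rw [this]
    change LinearMap.trace ℂ (Fin n → ℂ) 1 = 1
    rw [LinearMap.trace_one, hfr]
    simp
  · rw [hm φ]
    exact hmφ

end linear

section induced

open Cfsg.Agent.Lib.Helper75_Induced (extendByZero_coe extendByZero_of_not_mem frobenius_reciprocity indFun_apply)

variable [Fintype F] [Fintype (GL (Fin 2) F)]

omit [Fintype (GL (Fin 2) F)] in
theorem card_GL2_eq : (Nat.card (GL (Fin 2) F) : ℂ) =
    ((Fintype.card F : ℂ) + 1) * (Nat.card (Borel F) : ℂ) := by
  classical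
  rw [Matrix.card_GL_field, card_borel]
  obtain ⟨Q, hQ⟩ : ∃ Q : ℕ, Fintype.card F = Q + 1 :=
    ⟨Fintype.card F - 1, by have := Fintype.card_pos (α := F); omega⟩
  rw [hQ, Fin.prod_univ_two]
  have e1 : (Q + 1) ^ 2 - (Q + 1) ^ ((0 : Fin 2) : ℕ) = Q * (Q + 2) := by
    apply Nat.sub_eq_of_eq_add
    simp only [Fin.val_zero, pow_zero]
    ring
  have e2 : (Q + 1) ^ 2 - (Q + 1) ^ ((1 : Fin 2) : ℕ) = Q * (Q + 1) := by
    apply Nat.sub_eq_of_eq_add
    simp only [Fin.val_one, pow_one]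
    ring
  rw [e1, e2]
  simp only [Nat.add_sub_cancel]
  push_cast
  ring

/-- The degree of a character induced from the Borel subgroup. -/
theorem indFun_one (μ : Borel F → ℂ) :
    Cfsg.indFun (Borel F) μ 1 = ((Fintype.card F : ℂ) + 1) * μ 1 := by
  rw [indFun_apply]
  have : ∀ x : GL (Fin 2) F, Cfsg.extendByZero (Borel F) μ (x⁻¹ * 1 * x) = μ 1 := by
    intro x
    rw [mul_one, inv_mul_cancel]
    exact extendByZero_coe (Borel F) μ 1
  simp_rw [this]
  rw [Finset.sum_const, Finset.card_univ, nsmul_eq_mul, ← Nat.card_eq_fintype_card, card_GL2_eq]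
  have hB : (Nat.card (Borel F) : ℂ) ≠ 0 := by
    rw [Nat.cast_ne_zero]; exact Nat.card_pos.ne'
  field_simp

omit [Fintype F] in
/-- A function induced from the Borel subgroup vanishes at elements without eigenvectors. -/
theorem indFun_eq_zero_of_no_eigenvector (μ : Borel F → ℂ) (g : GL (Fin 2) F)
    (h : ∀ (c : F) (v : Fin 2 → F), v ≠ 0 →
      (g : Matrix (Fin 2) (Fin 2) F).mulVec v ≠ c • v) :
    Cfsg.indFun (Borel F) μ g = 0 := by
  rw [indFun_apply]
  apply mul_eq_zero_of_right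
  apply Finset.sum_eq_zero
  intro x _
  apply extendByZero_of_not_mem
  intro hmem
  rw [mem_borel_iff] at hmem
  have hxM : (x : Matrix (Fin 2) (Fin 2) F) *
      ((x⁻¹ * g * x : GL (Fin 2) F) : Matrix (Fin 2) (Fin 2) F) =
      (g : Matrix (Fin 2) (Fin 2) F) * (x : Matrix (Fin 2) (Fin 2) F) := by
    rw [← Units.val_mul, ← Units.val_mul]
    congr 1
    group
  set M := ((x⁻¹ * g * x : GL (Fin 2) F) : Matrix (Fin 2) (Fin 2) F) with hM
  apply h (M 0 0) (fun i => (x : Matrix (Fin 2) (Fin 2) F) i 0)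
  · intro hv
    have h0 := congrFun hv 0
    have h1 := congrFun hv 1
    simp only [Pi.zero_apply] at h0 h1
    have hdet := x.det_ne_zero
    rw [Matrix.det_fin_two, h0, h1] at hdet
    simp at hdet
  · funext i
    have e := congrFun (congrFun hxM i) 0
    rw [Matrix.mul_apply, Matrix.mul_apply, Fin.sum_univ_two, Fin.sum_univ_two, hmem] at e
    simp only [Matrix.mulVec, dotProduct, Fin.sum_univ_two, Pi.smul_apply, smul_eq_mul]
    rw [← e]
    ring

/-- An irreducible character of `GL₂(F)` whose sum over the unipotent radical does not vanish is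
a constituent of a principal series character. -/
theorem exists_series (χ : GL (Fin 2) F → ℂ) (hχ : Cfsg.IsIrrCharacter (GL (Fin 2) F) χ)
    (hsum : ∑ x : F, χ (uMat x) ≠ 0) :
    ∃ μ : Borel F → ℂ, Cfsg.IsCharacter (Borel F) μ ∧ μ 1 = 1 ∧ (∀ x : F, μ (uB x) = 1) ∧
      Cfsg.IsCharacter (Borel F) (resB χ - μ) ∧
      Cfsg.IsCharacter (GL (Fin 2) F) (Cfsg.indFun (Borel F) μ - χ) := by
  classical
  have : Fintype (Borel F) := Fintype.ofFinite _
  have hχc := Cfsg.Agent.Lib.Helper3_CharBridge.isCharacter_of_isIrrCharacter hχ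
  obtain ⟨μ, hμ, hμ1, hμu, hne⟩ := exists_linear_constituent (resB χ) (isCharacter_resB hχc) hsum
  have hμirr := isIrrCharacter_of_isCharacter_of_one_eq_one hμ hμ1
  refine ⟨μ, hμ, hμ1, hμu, isCharacter_sub_irr (isCharacter_resB hχc) hμirr hne, ?_⟩
  apply isCharacter_sub_irr (Cfsg.Agent.Lib.Helper75_IndChar.isCharacter_indFun (Borel F) hμ) hχ
  rw [frobenius_reciprocity (Borel F) μ χ
    (Cfsg.Agent.Lib.Helper3_CharBridge.isClassFunction_of_isIrrCharacter hχ),
    ← Cfsg.Agent.Lib.Helper3_CharOrtho.classInner_conj_symm]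
  intro h0
  apply hne
  have := congrArg conj h0
  rw [Complex.conj_conj, map_zero] at this
  exact this

end induced

section data

variable [Fintype F]

/-- The sum of a character of `GL₂(F)` over the unipotent subgroup. -/
theorem sum_unipotent (χ : GL (Fin 2) F → ℂ) (hχ : Cfsg.IsCharacter (GL (Fin 2) F) χ) :
    ∃ a b : ℕ, χ 1 = (a : ℂ) + ((Fintype.card F : ℂ) - 1) * (b : ℂ) ∧
      χ (uMat (1 : F)) = (a : ℂ) - (b : ℂ) ∧
      ∑ x : F, χ (uMat x) = (Fintype.card F : ℂ) * (a : ℂ) := by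
  classical
  obtain ⟨a, b, h1, h2⟩ := restrict_U χ hχ
  refine ⟨a, b, h1, h2, ?_⟩
  have hcf := Cfsg.Agent.Lib.Helper3_CharBridge.isClassFunction_of_isCharacter hχ
  rw [← Finset.add_sum_erase Finset.univ _ (Finset.mem_univ (0 : F)), uMat_zero]
  have : ∑ x ∈ Finset.univ.erase (0 : F), χ (uMat x) =
      ∑ _x ∈ Finset.univ.erase (0 : F), χ (uMat (1 : F)) := by
    refine Finset.sum_congr rfl (fun x hx => ?_)
    exact apply_eq_of_isConj hcf (isConj_uMat (Finset.ne_of_mem_erase hx))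
  rw [this, Finset.sum_const, Finset.card_erase_of_mem (Finset.mem_univ _), Finset.card_univ,
    nsmul_eq_mul, Nat.cast_sub Fintype.card_pos, h1, h2]
  push_cast
  ring

/-- For an irreducible character of degree `q` or `q + 1`, the sum over the unipotent subgroup
does not vanish. -/
theorem sum_unipotent_ne_zero (χ : GL (Fin 2) F → ℂ)
    (hχ : Cfsg.IsIrrCharacter (GL (Fin 2) F) χ)
    (hdeg : χ 1 = (Fintype.card F : ℂ) ∨ χ 1 = (Fintype.card F : ℂ) + 1) :
    ∑ x : F, χ (uMat x) ≠ 0 := by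
  classical
  obtain ⟨a, b, h1, h2, h3⟩ := sum_unipotent χ
    (Cfsg.Agent.Lib.Helper3_CharBridge.isCharacter_of_isIrrCharacter hχ)
  rw [h3]
  have hq0 : (Fintype.card F : ℂ) ≠ 0 := by
    exact_mod_cast (Fintype.card_pos (α := F)).ne'
  refine mul_ne_zero hq0 ?_
  intro ha
  have ha0 : a = 0 := by exact_mod_cast ha
  subst ha0
  obtain ⟨Q, hQ⟩ : ∃ Q : ℕ, Fintype.card F = Q + 1 :=
    ⟨Fintype.card F - 1, by have := Fintype.card_pos (α := F); omega⟩
  have hQ1 : 1 ≤ Q := by have := Fintype.one_lt_card (α := F); omega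
  have hnb := norm_bound χ hχ
  have hqr : (Fintype.card F : ℝ) = (Q : ℝ) + 1 := by rw [hQ]; push_cast; ring
  have hQc : (Fintype.card F : ℂ) - 1 = (Q : ℂ) := by rw [hQ]; push_cast; ring
  rw [hQc] at h1
  have h1' : χ 1 = ((Q * b : ℕ) : ℂ) := by rw [h1]; push_cast; ring
  have h2' : χ (uMat (1 : F)) = -((b : ℕ) : ℂ) := by rw [h2]; push_cast; ring
  have hn1 : ‖χ 1‖ = ((Q * b : ℕ) : ℝ) := by rw [h1', Complex.norm_natCast]
  have hn2 : ‖χ (uMat (1 : F))‖ = (b : ℝ) := by rw [h2', norm_neg, Complex.norm_natCast]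
  rw [hn1, hn2, hqr] at hnb
  have hnb' : (Q * b) ^ 2 + (Q + 1) * b ^ 2 ≤ (Q + 1) * Q * (Q + 2) := by
    have : (((Q * b) ^ 2 + (Q + 1) * b ^ 2 : ℕ) : ℝ) ≤ (((Q + 1) * Q * (Q + 2) : ℕ) : ℝ) := by
      push_cast
      push_cast at hnb
      linarith
    exact_mod_cast this
  rcases hdeg with hd | hd
  · rw [h1'] at hd
    have hd' : Q * b = Q + 1 := by rw [hQ] at hd; exact_mod_cast hd
    have hb2 : 2 ≤ b := by
      by_contra hlt
      have : b ≤ 1 := by omega
      nlinarith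
    have hQle : Q ≤ 1 := by nlinarith
    have hQ1' : Q = 1 := by omega
    subst hQ1'
    have hb : b = 2 := by omega
    subst hb
    norm_num at hnb'
  · rw [h1'] at hd
    have hd' : Q * b = Q + 2 := by
      rw [hQ] at hd
      have : ((Q * b : ℕ) : ℂ) = ((Q + 2 : ℕ) : ℂ) := by rw [hd]; push_cast; ring
      exact_mod_cast this
    have hb2 : 2 ≤ b := by
      by_contra hlt
      have : b ≤ 1 := by omega
      nlinarith
    have hQle : Q ≤ 2 := by nlinarith
    interval_cases Q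
    · have hb : b = 3 := by omega
      subst hb
      norm_num at hnb'
    · have hb : b = 2 := by omega
      subst hb
      norm_num at hnb'

end data

end Cfsg.Agent.Lib.Helper39_GL2Series
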