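import Mathlib
import Cfsg.Prelude.Def_Characters
import Cfsg.Agent.Lib.Helper39_CharTools
import Cfsg.Agent.Lib.Helper75_Induced
import Cfsg.Agent.Lib.Helper75_IndChar

/-!
# Tools for computing induced class functions (helper39)

* `indFun_eq_sum_reps` : if the elements `x` with `x⁻¹ g x ∈ H` lie in the distinct cosets
  `s H`, `s ∈ S`, the induced function at `g` is the sum of the values at `s⁻¹ g s`.
* `isIrrCharacter_of_classInner_self` : a character of norm one is irreducible.
-/

set_option autoImplicit false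

namespace Cfsg.Agent.Lib.Helper39_IndTools

open scoped ComplexConjugate
open Cfsg.Agent.Lib.Helper39_CharTools
open Cfsg.Agent.Lib.Helper75_Induced (extendByZero_of_mem extendByZero_of_not_mem indFun_apply sum_extendByZero_mul)

variable {G : Type*} [Group G]

/-- The extension by zero of a class function of `H` is invariant under conjugation by `H`. -/
theorem extendByZero_conj (H : Subgroup G) {μ : H → ℂ} (hμ : Cfsg.IsClassFunction H μ) (k : G)
    (h : H) : Cfsg.extendByZero H μ ((h : G)⁻¹ * k * h) = Cfsg.extendByZero H μ k := by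
  by_cases hk : k ∈ H
  · have hmem : (h : G)⁻¹ * k * h ∈ H := H.mul_mem (H.mul_mem (H.inv_mem h.2) hk) h.2
    rw [extendByZero_of_mem H μ hmem, extendByZero_of_mem H μ hk]
    have := hμ ⟨k, hk⟩ h⁻¹
    rw [← this]
    congr 1
    apply Subtype.ext
    simp
  · have hmem : (h : G)⁻¹ * k * h ∉ H := by
      intro hm
      apply hk
      have : k = (h : G) * ((h : G)⁻¹ * k * h) * (h : G)⁻¹ := by group
      rw [this]
      exact H.mul_mem (H.mul_mem h.2 hm) (H.inv_mem h.2)
    rw [extendByZero_of_not_mem H μ hmem, extendByZero_of_not_mem H μ hk]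

/-- Summing a function over a coset. -/
theorem sum_indicator_coset [Fintype G] (H : Subgroup G) [Fintype H] (s : G) (f : G → ℂ) :
    ∑ x : G, Cfsg.extendByZero H (fun _ => (1 : ℂ)) (s⁻¹ * x) * f x = ∑ h : H, f (s * h) := by
  have h1 := sum_extendByZero_mul H (fun _ => (1 : ℂ)) (fun y => f (s * y))
  simp only [one_mul] at h1
  rw [← h1]
  apply Fintype.sum_equiv (Equiv.mulLeft s⁻¹)
  intro x
  simp

/-- If the elements `x` with `x⁻¹ g x ∈ H` lie in the distinct cosets `s H`, `s ∈ S`, the induced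
function at `g` is the sum of the values at `s⁻¹ g s`. -/
theorem indFun_eq_sum_reps [Fintype G] (H : Subgroup G) {μ : H → ℂ}
    (hμ : Cfsg.IsClassFunction H μ) (g : G) (S : Finset G)
    (hS : ∀ x : G, x⁻¹ * g * x ∈ H → ∃ s ∈ S, s⁻¹ * x ∈ H)
    (hdis : ∀ s ∈ S, ∀ t ∈ S, s⁻¹ * t ∈ H → s = t) :
    Cfsg.indFun H μ g = ∑ s ∈ S, Cfsg.extendByZero H μ (s⁻¹ * g * s) := by
  classical
  have : Fintype H := Fintype.ofFinite _
  rw [indFun_apply]
  have hpt : ∀ x : G, Cfsg.extendByZero H μ (x⁻¹ * g * x) =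
      ∑ s ∈ S, Cfsg.extendByZero H (fun _ => (1 : ℂ)) (s⁻¹ * x) *
        Cfsg.extendByZero H μ (x⁻¹ * g * x) := by
    intro x
    by_cases hx : x⁻¹ * g * x ∈ H
    · obtain ⟨s, hs, hsx⟩ := hS x hx
      rw [Finset.sum_eq_single s]
      · rw [extendByZero_of_mem H _ hsx, one_mul]
      · intro t ht hts
        have : t⁻¹ * x ∉ H := by
          intro htx
          apply hts
          apply hdis t ht s hs
          have : t⁻¹ * s = (t⁻¹ * x) * (s⁻¹ * x)⁻¹ := by group
          rw [this]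
          exact H.mul_mem htx (H.inv_mem hsx)
        rw [extendByZero_of_not_mem H _ this, zero_mul]
      · intro h; exact absurd hs h
    · rw [extendByZero_of_not_mem H μ hx]
      simp
  have hcos : ∀ s : G, ∑ x : G, Cfsg.extendByZero H (fun _ => (1 : ℂ)) (s⁻¹ * x) *
      Cfsg.extendByZero H μ (x⁻¹ * g * x) =
      (Nat.card H : ℂ) * Cfsg.extendByZero H μ (s⁻¹ * g * s) := by
    intro s
    rw [sum_indicator_coset H s (fun x => Cfsg.extendByZero H μ (x⁻¹ * g * x))]
    have : ∀ h : H, Cfsg.extendByZero H μ ((s * (h : G))⁻¹ * g * (s * (h : G))) =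
        Cfsg.extendByZero H μ (s⁻¹ * g * s) := by
      intro h
      rw [← extendByZero_conj H hμ (s⁻¹ * g * s) h]
      congr 1
      group
    simp_rw [this]
    rw [Finset.sum_const, Finset.card_univ, nsmul_eq_mul, Nat.card_eq_fintype_card]
  calc (Nat.card H : ℂ)⁻¹ * ∑ x : G, Cfsg.extendByZero H μ (x⁻¹ * g * x)
      = (Nat.card H : ℂ)⁻¹ * ∑ x : G, ∑ s ∈ S,
          Cfsg.extendByZero H (fun _ => (1 : ℂ)) (s⁻¹ * x) *
            Cfsg.extendByZero H μ (x⁻¹ * g * x) := by
        congr 1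
        exact Finset.sum_congr rfl (fun x _ => hpt x)
    _ = (Nat.card H : ℂ)⁻¹ * ∑ s ∈ S,
          ((Nat.card H : ℂ) * Cfsg.extendByZero H μ (s⁻¹ * g * s)) := by
        rw [Finset.sum_comm]
        congr 1
        exact Finset.sum_congr rfl (fun s _ => hcos s)
    _ = ∑ s ∈ S, Cfsg.extendByZero H μ (s⁻¹ * g * s) := by
        rw [← Finset.mul_sum, ← mul_assoc, inv_mul_cancel₀, one_mul]
        rw [Nat.cast_ne_zero]
        exact Nat.card_pos.ne'

/-- A function which does not vanish at the identity has non-zero norm. -/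
theorem classInner_self_ne_zero [Fintype G] {θ : G → ℂ} (h1 : θ 1 ≠ 0) :
    Cfsg.classInner θ θ ≠ 0 := by
  unfold Cfsg.classInner
  apply mul_ne_zero
  · apply inv_ne_zero
    rw [Nat.cast_ne_zero]
    exact Nat.card_pos.ne'
  · have h2 : ∑ g : G, θ g * conj (θ g) = ((∑ g : G, Complex.normSq (θ g) : ℝ) : ℂ) := by
      push_cast
      exact Finset.sum_congr rfl (fun g _ => Complex.mul_conj (θ g))
    rw [h2]
    have hpos : 0 < ∑ g : G, Complex.normSq (θ g) := by
      have hle := Finset.single_le_sum (f := fun g : G => Complex.normSq (θ g))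
        (fun g _ => Complex.normSq_nonneg _) (Finset.mem_univ (1 : G))
      have : 0 < Complex.normSq (θ 1) := Complex.normSq_pos.2 h1
      linarith
    exact_mod_cast hpos.ne'

/-- A character of norm one is irreducible. -/
theorem isIrrCharacter_of_classInner_self [Fintype G] {θ : G → ℂ} (hθ : Cfsg.IsCharacter G θ)
    (h : Cfsg.classInner θ θ = 1) : Cfsg.IsIrrCharacter G θ := by
  classical
  obtain ⟨m, hm, hdec⟩ := char_eq_sum_nat hθ
  have hfun : θ = ∑ φ : Cfsg.IrrCharacter G, (m φ : ℂ) • (φ : G → ℂ) := by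
    funext g
    rw [hdec g]
    simp [Finset.sum_apply]
  have hsq : ∑ φ : Cfsg.IrrCharacter G, m φ * m φ = 1 := by
    have h2 : Cfsg.classInner θ θ = ∑ φ : Cfsg.IrrCharacter G, (m φ : ℂ) * (m φ : ℂ) := by
      conv_lhs => rw [hfun]
      rw [Cfsg.Agent.Lib.Helper3_CharOrtho.classInner_sum_left]
      refine Finset.sum_congr rfl (fun φ _ => ?_)
      rw [Cfsg.Agent.Lib.Helper3_CharOrtho.classInner_smul_left, ← hfun,
        ← Cfsg.Agent.Lib.Helper3_CharOrtho.classInner_conj_symm, hm φ]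
      simp
    rw [h2] at h
    exact_mod_cast h
  obtain ⟨φ₀, -, hφ₀⟩ := Finset.exists_ne_zero_of_sum_ne_zero (by rw [hsq]; exact one_ne_zero :
    ∑ φ ∈ Finset.univ, m φ * m φ ≠ 0)
  have hsplit := Finset.add_sum_erase Finset.univ (fun φ => m φ * m φ) (Finset.mem_univ φ₀)
  rw [hsq] at hsplit
  have h0 : m φ₀ * m φ₀ = 1 := by
    have : 1 ≤ m φ₀ * m φ₀ := Nat.one_le_iff_ne_zero.2 hφ₀
    omega
  have hm0 : m φ₀ = 1 := Nat.eq_one_of_mul_eq_one_right h0
  have hrest : ∀ φ, φ ≠ φ₀ → m φ = 0 := by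
    intro φ hφ
    have hz : ∑ x ∈ Finset.univ.erase φ₀, m x * m x = 0 := by omega
    have := (Finset.sum_eq_zero_iff.1 hz) φ (Finset.mem_erase.2 ⟨hφ, Finset.mem_univ φ⟩)
    exact (mul_self_eq_zero.1 this)
  have : θ = (φ₀ : G → ℂ) := by
    funext g
    rw [hdec g, Finset.sum_eq_single φ₀]
    · rw [hm0]; simp
    · intro φ _ hφ
      rw [hrest φ hφ]; simp
    · intro h; exact absurd (Finset.mem_univ _) h
  rw [this]
  exact φ₀.2

end Cfsg.Agent.Lib.Helper39_IndTools
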