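import Mathlib
import Cfsg.Prelude.Def_Characters
import Cfsg.Prelude.Def_ParabolicCharacters
import Cfsg.Agent.Lib.Helper39_GL2Series
import Cfsg.Agent.Lib.Helper39_IndTools
import Cfsg.Agent.Lib.Helper79_Linear

/-!
# Values of characters of `GL₂(F)` induced from the Borel subgroup (helper39)
-/

set_option autoImplicit false

namespace Cfsg.Agent.Lib.Helper39_GL2Ind

open scoped ComplexConjugate
open Matrix Cfsg.Agent.Lib.Helper39_GL2Char Cfsg.Agent.Lib.Helper39_CharTools
  Cfsg.Agent.Lib.Helper39_GL2Borel Cfsg.Agent.Lib.Helper39_GL2Series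
  Cfsg.Agent.Lib.Helper39_IndTools
open Cfsg.Agent.Lib.Helper75_Induced (extendByZero_coe frobenius_reciprocity indFun_apply isClassFunction_indFun)

variable {F : Type*} [Field F]

/-- The Weyl element. -/
noncomputable def wMat : GL (Fin 2) F :=
  Matrix.GeneralLinearGroup.mkOfDetNeZero !![0, 1; 1, 0] (by simp [Matrix.det_fin_two])

theorem wMat_val : ((wMat : GL (Fin 2) F) : Matrix (Fin 2) (Fin 2) F) = !![0, 1; 1, 0] := rfl

theorem wMat_mul_self : (wMat : GL (Fin 2) F) * wMat = 1 := by
  apply Units.ext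
  rw [Units.val_mul, wMat_val]
  ext i j
  fin_cases i <;> fin_cases j <;> simp [Matrix.mul_apply, Fin.sum_univ_two]

theorem wMat_inv : (wMat : GL (Fin 2) F)⁻¹ = wMat := by
  rw [inv_eq_iff_mul_eq_one]
  exact wMat_mul_self

theorem wMat_not_mem : (wMat : GL (Fin 2) F) ∉ Borel F := by
  rw [mem_borel_iff, wMat_val]
  simp

theorem wMat_mul_10 (y : GL (Fin 2) F) :
    ((wMat * y : GL (Fin 2) F) : Matrix (Fin 2) (Fin 2) F) 1 0 =
      (y : Matrix (Fin 2) (Fin 2) F) 0 0 := by
  rw [Units.val_mul, wMat_val]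
  simp [Matrix.mul_apply, Fin.sum_univ_two]

/-- Conjugating a diagonal matrix by the Weyl element swaps the entries. -/
theorem wMat_conj_bMat (x z : Fˣ) :
    (wMat : GL (Fin 2) F)⁻¹ * ((bMat x z 0 : Borel F) : GL (Fin 2) F) * wMat =
      ((bMat z x 0 : Borel F) : GL (Fin 2) F) := by
  rw [wMat_inv]
  apply Units.ext
  rw [Units.val_mul, Units.val_mul, wMat_val, bMat_val, bMat_val]
  ext i j
  fin_cases i <;> fin_cases j <;> simp [Matrix.mul_apply, Fin.sum_univ_two]

section values

variable [Fintype (GL (Fin 2) F)]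

omit [Fintype (GL (Fin 2) F)] in
/-- The key relation: if `y⁻¹ g y` is upper triangular, the first column of `y` is an eigenvector
of `g`. -/
theorem column_relation (g y : GL (Fin 2) F) (h : y⁻¹ * g * y ∈ Borel F) (i : Fin 2) :
    (y : Matrix (Fin 2) (Fin 2) F) i 0 *
      ((y⁻¹ * g * y : GL (Fin 2) F) : Matrix (Fin 2) (Fin 2) F) 0 0 =
      (g : Matrix (Fin 2) (Fin 2) F) i 0 * (y : Matrix (Fin 2) (Fin 2) F) 0 0 +
      (g : Matrix (Fin 2) (Fin 2) F) i 1 * (y : Matrix (Fin 2) (Fin 2) F) 1 0 := by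
  rw [mem_borel_iff] at h
  have hxM : (y : Matrix (Fin 2) (Fin 2) F) *
      ((y⁻¹ * g * y : GL (Fin 2) F) : Matrix (Fin 2) (Fin 2) F) =
      (g : Matrix (Fin 2) (Fin 2) F) * (y : Matrix (Fin 2) (Fin 2) F) := by
    rw [← Units.val_mul, ← Units.val_mul]
    congr 1
    group
  have e := congrFun (congrFun hxM i) 0
  rw [Matrix.mul_apply, Matrix.mul_apply, Fin.sum_univ_two, Fin.sum_univ_two, h] at e
  rw [← e]
  ring

/-- Value of an induced function at a regular diagonal element. -/
theorem indFun_regular {μ : Borel F → ℂ} (hμ : Cfsg.IsClassFunction (Borel F) μ) (x z : Fˣ)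
    (hxz : x ≠ z) :
    Cfsg.indFun (Borel F) μ ((bMat x z 0 : Borel F) : GL (Fin 2) F) =
      μ (bMat x z 0) + μ (bMat z x 0) := by
  classical
  have hne : (1 : GL (Fin 2) F) ≠ wMat := by
    intro h
    apply wMat_not_mem (F := F)
    rw [← h]
    exact (Borel F).one_mem
  rw [indFun_eq_sum_reps (Borel F) hμ _ {1, wMat}]
  · rw [Finset.sum_pair hne, inv_one, one_mul, mul_one, wMat_conj_bMat, extendByZero_coe,
      extendByZero_coe]
  · intro y hy
    have h0 := column_relation _ y hy 0
    have h1 := column_relation _ y hy 1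
    rw [bMat_val] at h0 h1
    simp only [Matrix.of_apply, Matrix.cons_val', Matrix.cons_val_zero, Matrix.cons_val_one,
      Matrix.cons_val_fin_one, zero_mul, add_zero, zero_add] at h0 h1
    by_cases hy10 : (y : Matrix (Fin 2) (Fin 2) F) 1 0 = 0
    · refine ⟨1, by simp, ?_⟩
      rw [inv_one, one_mul, mem_borel_iff]
      exact hy10
    · refine ⟨wMat, by simp, ?_⟩
      rw [wMat_inv, mem_borel_iff, wMat_mul_10]
      by_contra hy00
      have e1 := mul_left_cancel₀ hy10 (by rw [h1]; ring :
        (y : Matrix (Fin 2) (Fin 2) F) 1 0 * _ = (y : Matrix (Fin 2) (Fin 2) F) 1 0 * (z : F))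
      have e0 := mul_left_cancel₀ hy00 (by rw [h0]; ring :
        (y : Matrix (Fin 2) (Fin 2) F) 0 0 * _ = (y : Matrix (Fin 2) (Fin 2) F) 0 0 * (x : F))
      apply hxz
      apply Units.ext
      rw [← e0, ← e1]
  · intro s hs t ht hst
    simp only [Finset.mem_insert, Finset.mem_singleton] at hs ht
    rcases hs with rfl | rfl <;> rcases ht with rfl | rfl
    · rfl
    · exfalso
      rw [inv_one, one_mul] at hst
      exact wMat_not_mem (F := F) hst
    · exfalso
      rw [mul_one, wMat_inv] at hst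
      exact wMat_not_mem (F := F) hst
    · rfl

/-- Value of an induced function at a non-semisimple element of the Borel subgroup. -/
theorem indFun_unipotent {μ : Borel F → ℂ} (hμ : Cfsg.IsClassFunction (Borel F) μ) (b : Borel F)
    (hd : ((b : GL (Fin 2) F) : Matrix (Fin 2) (Fin 2) F) 0 0 =
      ((b : GL (Fin 2) F) : Matrix (Fin 2) (Fin 2) F) 1 1)
    (hs : ((b : GL (Fin 2) F) : Matrix (Fin 2) (Fin 2) F) 0 1 ≠ 0) :
    Cfsg.indFun (Borel F) μ (b : GL (Fin 2) F) = μ b := by
  classical
  rw [indFun_eq_sum_reps (Borel F) hμ _ {1}]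
  · rw [Finset.sum_singleton, inv_one, one_mul, mul_one, extendByZero_coe]
  · intro y hy
    refine ⟨1, by simp, ?_⟩
    rw [inv_one, one_mul, mem_borel_iff]
    by_contra hy10
    have h0 := column_relation _ y hy 0
    have h1 := column_relation _ y hy 1
    rw [borel_10, zero_mul, zero_add] at h1
    have e1 := mul_left_cancel₀ hy10 (by rw [h1]; ring :
      (y : Matrix (Fin 2) (Fin 2) F) 1 0 * _ = (y : Matrix (Fin 2) (Fin 2) F) 1 0 *
        ((b : GL (Fin 2) F) : Matrix (Fin 2) (Fin 2) F) 1 1)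
    rw [e1, ← hd] at h0
    have : ((b : GL (Fin 2) F) : Matrix (Fin 2) (Fin 2) F) 0 1 *
        (y : Matrix (Fin 2) (Fin 2) F) 1 0 = 0 := by
      have h2 : (y : Matrix (Fin 2) (Fin 2) F) 0 0 *
          ((b : GL (Fin 2) F) : Matrix (Fin 2) (Fin 2) F) 0 0 =
          ((b : GL (Fin 2) F) : Matrix (Fin 2) (Fin 2) F) 0 0 *
          (y : Matrix (Fin 2) (Fin 2) F) 0 0 := mul_comm _ _
      rw [h2] at h0
      exact (add_eq_left.1 h0.symm)
    rcases mul_eq_zero.1 this with h | h
    · exact hs h
    · exact hy10 h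
  · intro s hs t ht _
    simp only [Finset.mem_singleton] at hs ht
    rw [hs, ht]

/-- Value of an induced function at a scalar matrix. -/
theorem indFun_scalar [Fintype F] (μ : Borel F → ℂ) (z : Fˣ) :
    Cfsg.indFun (Borel F) μ (zMat z) = ((Fintype.card F : ℂ) + 1) * μ (zB z) := by
  rw [indFun_apply]
  have : ∀ x : GL (Fin 2) F, Cfsg.extendByZero (Borel F) μ (x⁻¹ * zMat z * x) = μ (zB z) := by
    intro x
    have hc := Submonoid.mem_center_iff.1 (zMat_mem_center z) x
    rw [mul_assoc, ← hc, ← mul_assoc, inv_mul_cancel, one_mul]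
    exact extendByZero_coe (Borel F) μ (zB z)
  simp_rw [this]
  rw [Finset.sum_const, Finset.card_univ, nsmul_eq_mul, ← Nat.card_eq_fintype_card, card_GL2_eq]
  have hB : (Nat.card (Borel F) : ℂ) ≠ 0 := by
    rw [Nat.cast_ne_zero]; exact Nat.card_pos.ne'
  field_simp

end values

section mulchar

/-- The linear character of the Borel subgroup attached to two multiplicative characters. -/
noncomputable def muFun (α β : MulChar F ℂ) : Borel F → ℂ :=
  fun b => α (((b : GL (Fin 2) F) : Matrix (Fin 2) (Fin 2) F) 0 0) *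
    β (((b : GL (Fin 2) F) : Matrix (Fin 2) (Fin 2) F) 1 1)

/-- The same as a homomorphism. -/
noncomputable def muHom (α β : MulChar F ℂ) : Borel F →* ℂˣ :=
  (α.toUnitHom.comp ((MonoidHom.fst Fˣ Fˣ).comp diagHom)) *
    (β.toUnitHom.comp ((MonoidHom.snd Fˣ Fˣ).comp diagHom))

theorem muHom_coe (α β : MulChar F ℂ) (b : Borel F) :
    ((muHom α β b : ℂˣ) : ℂ) = muFun α β b := by
  simp only [muHom, muFun, MonoidHom.mul_apply, MonoidHom.comp_apply, Units.val_mul,
    MulChar.coe_toUnitHom, MonoidHom.coe_fst, MonoidHom.coe_snd, diagHom_fst, diagHom_snd]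

theorem isIrrCharacter_muFun (α β : MulChar F ℂ) :
    Cfsg.IsIrrCharacter (Borel F) (muFun α β) := by
  have h := Cfsg.Agent.Lib.Helper79_Linear.isIrrCharacter_of_hom (muHom α β)
  have e : (fun b => ((muHom α β b : ℂˣ) : ℂ)) = muFun α β := funext (muHom_coe α β)
  rw [e] at h
  exact h

theorem isCharacter_muFun (α β : MulChar F ℂ) : Cfsg.IsCharacter (Borel F) (muFun α β) :=
  Cfsg.Agent.Lib.Helper3_CharBridge.isCharacter_of_isIrrCharacter (isIrrCharacter_muFun α β)

theorem muFun_mul (α β : MulChar F ℂ) (a b : Borel F) :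
    muFun α β (a * b) = muFun α β a * muFun α β b := by
  rw [← muHom_coe, ← muHom_coe, ← muHom_coe, map_mul, Units.val_mul]

theorem muFun_one (α β : MulChar F ℂ) : muFun α β 1 = 1 := by
  rw [← muHom_coe, map_one, Units.val_one]

theorem muFun_ne_zero (α β : MulChar F ℂ) (b : Borel F) : muFun α β b ≠ 0 := by
  rw [← muHom_coe]
  exact Units.ne_zero _

theorem muFun_bMat (α β : MulChar F ℂ) (x z : Fˣ) (y : F) :
    muFun α β (bMat x z y) = α (x : F) * β (z : F) := by
  simp [muFun, bMat_val]

theorem muFun_uB (α β : MulChar F ℂ) (x : F) : muFun α β (uB x) = 1 := by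
  simp [muFun, uMat_val]

theorem muFun_swap (α β : MulChar F ℂ) (b : Borel F) :
    muFun β α b = α (((b : GL (Fin 2) F) : Matrix (Fin 2) (Fin 2) F) 1 1) *
      β (((b : GL (Fin 2) F) : Matrix (Fin 2) (Fin 2) F) 0 0) := by
  rw [muFun, mul_comm]

theorem muFun_injective {α β α' β' : MulChar F ℂ} (h : muFun α β = muFun α' β') :
    α = α' ∧ β = β' := by
  constructor
  · apply MulChar.ext
    intro a
    have := congrFun h (bMat a 1 0)
    rw [muFun_bMat, muFun_bMat] at this
    simpa using this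
  · apply MulChar.ext
    intro a
    have := congrFun h (bMat 1 a 0)
    rw [muFun_bMat, muFun_bMat] at this
    simpa using this

theorem muFun_ne_swap {α β : MulChar F ℂ} (hαβ : α ≠ β) : muFun α β ≠ muFun β α := fun h =>
  hαβ (muFun_injective h).1

end mulchar

section decomp

variable [Fintype F] [Fintype (GL (Fin 2) F)]

omit [Fintype F] in
/-- Value of a principal series character at a regular element of the Borel subgroup. -/
theorem indFun_muFun_regular (α β : MulChar F ℂ) (b : Borel F)
    (hb : ((b : GL (Fin 2) F) : Matrix (Fin 2) (Fin 2) F) 0 0 ≠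
      ((b : GL (Fin 2) F) : Matrix (Fin 2) (Fin 2) F) 1 1) :
    Cfsg.indFun (Borel F) (muFun α β) (b : GL (Fin 2) F) = muFun α β b + muFun β α b := by
  set a := ((b : GL (Fin 2) F) : Matrix (Fin 2) (Fin 2) F) 0 0 with ha
  set d := ((b : GL (Fin 2) F) : Matrix (Fin 2) (Fin 2) F) 1 1 with hd
  set s := ((b : GL (Fin 2) F) : Matrix (Fin 2) (Fin 2) F) 0 1 with hs
  have hda : d - a ≠ 0 := sub_ne_zero.2 (Ne.symm hb)
  set x : Fˣ := Units.mk0 a (borel_00_ne_zero b) with hx
  set z : Fˣ := Units.mk0 d (borel_11_ne_zero b) with hz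
  have hxz : x ≠ z := by
    intro h
    apply hb
    have := congrArg Units.val h
    simpa [hx, hz] using this
  have hconj : (b : GL (Fin 2) F) =
      uMat (s / (d - a)) * ((bMat x z 0 : Borel F) : GL (Fin 2) F) * (uMat (s / (d - a)))⁻¹ := by
    rw [eq_mul_inv_iff_mul_eq]
    apply Units.ext
    rw [Units.val_mul, Units.val_mul, uMat_val, bMat_val]
    ext i j
    fin_cases i <;> fin_cases j <;>
      simp [Matrix.mul_apply, Fin.sum_univ_two, borel_10, hx, hz, ← ha, ← hd, ← hs]
    field_simp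
    ring
  have hcf := isClassFunction_indFun (Borel F) (muFun α β)
  rw [hconj, hcf, indFun_regular
    (Cfsg.Agent.Lib.Helper3_CharBridge.isClassFunction_of_isCharacter (isCharacter_muFun α β))
    x z hxz, muFun_bMat, muFun_bMat]
  simp only [muFun, hx, hz, Units.val_mk0, ← ha, ← hd]
  ring

/-- The restriction of a principal series character to the Borel subgroup. -/
theorem resB_indFun_decomp (hq : 3 ≤ Fintype.card F) (α β : MulChar F ℂ) :
    ∃ ξ : Borel F → ℂ, Cfsg.IsIrrCharacter (Borel F) ξ ∧ ξ (uB (1 : F)) = -1 ∧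
      resB (Cfsg.indFun (Borel F) (muFun α β)) = muFun α β + muFun β α + ξ := by
  classical
  have : Fintype (Borel F) := Fintype.ofFinite _
  set θ := Cfsg.indFun (Borel F) (muFun α β) with hθdef
  have hμirr := isIrrCharacter_muFun α β
  have hμ := isCharacter_muFun α β
  have hμcf := Cfsg.Agent.Lib.Helper3_CharBridge.isClassFunction_of_isCharacter hμ
  have hθ : Cfsg.IsCharacter (GL (Fin 2) F) θ :=
    Cfsg.Agent.Lib.Helper75_IndChar.isCharacter_indFun (Borel F) hμ
  have hΘ : Cfsg.IsCharacter (Borel F) (resB θ) := isCharacter_resB hθ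
  have hq0 : (Fintype.card F : ℂ) ≠ 0 := by
    exact_mod_cast (Fintype.card_pos (α := F)).ne'
  have hΘ1 : resB θ 1 = (Fintype.card F : ℂ) + 1 := by
    rw [resB_apply, OneMemClass.coe_one, hθdef, Cfsg.Agent.Lib.Helper39_GL2Series.indFun_one, muFun_one, mul_one]
  have hΘu : ∀ x : F, x ≠ 0 → resB θ (uB x) = 1 := by
    intro x hx
    rw [resB_apply, hθdef, indFun_unipotent hμcf (uB x) (by simp [uMat_val])
      (by simpa [uMat_val] using hx), muFun_uB]
  -- the first linear constituent
  have hne1 : Cfsg.classInner (resB θ) (muFun α β) ≠ 0 := by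
    have h1 : θ 1 ≠ 0 := by
      rw [hθdef, Cfsg.Agent.Lib.Helper39_GL2Series.indFun_one, muFun_one, mul_one]
      intro h
      have h2 : ((Fintype.card F + 1 : ℕ) : ℂ) = 0 := by push_cast; exact h
      exact absurd (by exact_mod_cast h2 : Fintype.card F + 1 = 0) (Nat.succ_ne_zero _)
    have h2 := Cfsg.Agent.Lib.Helper39_IndTools.classInner_self_ne_zero h1
    rw [hθdef] at h2
    rw [frobenius_reciprocity (Borel F) (muFun α β) _
      (Cfsg.Agent.Lib.Helper3_CharBridge.isClassFunction_of_isCharacter hθ),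
      ← Cfsg.Agent.Lib.Helper3_CharOrtho.classInner_conj_symm] at h2
    intro h0
    apply h2
    change conj (Cfsg.classInner (resB θ) (muFun α β)) = 0
    rw [h0, map_zero]
  have hΘ' : Cfsg.IsCharacter (Borel F) (resB θ - muFun α β) := isCharacter_sub_irr hΘ hμirr hne1
  have hsum : ∑ x : F, (resB θ - muFun α β) (uB x) ≠ 0 := by
    rw [← Finset.add_sum_erase Finset.univ _ (Finset.mem_univ (0 : F)), Finset.sum_eq_zero,
      add_zero, uB_zero, Pi.sub_apply, hΘ1, muFun_one]
    · simp [hq0]
    · intro x hx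
      rw [Pi.sub_apply, hΘu x (Finset.ne_of_mem_erase hx), muFun_uB, sub_self]
  obtain ⟨μ₂, hμ₂, hμ₂1, hμ₂u, hne2⟩ := exists_linear_constituent (resB θ - muFun α β) hΘ' hsum
  have hμ₂irr := isIrrCharacter_of_isCharacter_of_one_eq_one hμ₂ hμ₂1
  have hξ : Cfsg.IsCharacter (Borel F) (resB θ - muFun α β - μ₂) := isCharacter_sub_irr hΘ' hμ₂irr hne2
  have hξ1 : (resB θ - muFun α β - μ₂) 1 = (Fintype.card F : ℂ) - 1 := by
    rw [Pi.sub_apply, Pi.sub_apply, hΘ1, muFun_one, hμ₂1]
    ring
  have hξu : (resB θ - muFun α β - μ₂) (uB (1 : F)) = -1 := by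
    rw [Pi.sub_apply, Pi.sub_apply, hΘu 1 one_ne_zero, muFun_uB, hμ₂u]
    ring
  have hξirr := isIrrCharacter_of_cuspidal_data _ hξ hξ1 hξu
  -- identify the second linear constituent on regular elements
  have hreg : ∀ b : Borel F, ((b : GL (Fin 2) F) : Matrix (Fin 2) (Fin 2) F) 0 0 ≠
      ((b : GL (Fin 2) F) : Matrix (Fin 2) (Fin 2) F) 1 1 → μ₂ b = muFun β α b := by
    intro b hb
    have h0 := cuspidal_vanish _ hξ hξ1 hξu b hb
    rw [Pi.sub_apply, Pi.sub_apply, resB_apply, hθdef, indFun_muFun_regular α β b hb] at h0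
    have : muFun β α b - μ₂ b = 0 := by rw [← h0]; ring
    exact (sub_eq_zero.1 this).symm
  -- a regular element
  obtain ⟨x₀, hx₀⟩ : ∃ x₀ : Fˣ, x₀ ≠ 1 := by
    have hcu : Fintype.card Fˣ = Fintype.card F - 1 := Fintype.card_units F
    have : 1 < Fintype.card Fˣ := by omega
    exact Fintype.exists_ne_of_one_lt_card this 1
  have ht₀ : (((bMat x₀ 1 0 : Borel F) : GL (Fin 2) F) : Matrix (Fin 2) (Fin 2) F) 0 0 ≠
      (((bMat x₀ 1 0 : Borel F) : GL (Fin 2) F) : Matrix (Fin 2) (Fin 2) F) 1 1 := by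
    rw [bMat_val]
    simp only [Matrix.of_apply, Matrix.cons_val', Matrix.cons_val_zero, Matrix.cons_val_one,
      Matrix.cons_val_fin_one, Units.val_one]
    intro h
    exact hx₀ (Units.ext h)
  have hall : ∀ b : Borel F, μ₂ b = muFun β α b := by
    intro b
    by_cases hb : ((b : GL (Fin 2) F) : Matrix (Fin 2) (Fin 2) F) 0 0 =
        ((b : GL (Fin 2) F) : Matrix (Fin 2) (Fin 2) F) 1 1
    · have hbt : (((b * bMat x₀ 1 0 : Borel F) : GL (Fin 2) F) : Matrix (Fin 2) (Fin 2) F) 0 0 ≠
          (((b * bMat x₀ 1 0 : Borel F) : GL (Fin 2) F) : Matrix (Fin 2) (Fin 2) F) 1 1 := by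
        rw [Subgroup.coe_mul, Units.val_mul, bMat_val]
        simp only [Matrix.mul_apply, Fin.sum_univ_two, Matrix.of_apply, Matrix.cons_val',
          Matrix.cons_val_zero, Matrix.cons_val_one, Matrix.cons_val_fin_one, Units.val_one,
          mul_zero, add_zero, zero_add, mul_one, borel_10]
        rw [← hb]
        intro h
        have h2 : ((b : GL (Fin 2) F) : Matrix (Fin 2) (Fin 2) F) 0 0 * (x₀ : F) =
            ((b : GL (Fin 2) F) : Matrix (Fin 2) (Fin 2) F) 0 0 * 1 := by rw [h, mul_one]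
        exact hx₀ (Units.ext (mul_left_cancel₀ (borel_00_ne_zero b) h2))
      have h1 := hreg _ hbt
      rw [Cfsg.Agent.Lib.Helper15_Linear.linear_mul μ₂ hμ₂ hμ₂1, muFun_mul, hreg _ ht₀] at h1
      exact mul_right_cancel₀ (muFun_ne_zero β α _) h1
    · exact hreg b hb
  refine ⟨resB θ - muFun α β - μ₂, hξirr, hξu, ?_⟩
  funext b
  simp only [Pi.add_apply, Pi.sub_apply]
  rw [hall b]
  ring

omit [Fintype (GL (Fin 2) F)] in
/-- Over the field with two elements all multiplicative characters coincide. -/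
theorem mulChar_eq_of_card_lt_three (hq : Fintype.card F < 3) (α β : MulChar F ℂ) : α = β := by
  classical
  have h2 : Fintype.card F = 2 := by
    have := Fintype.one_lt_card (α := F)
    omega
  have hcu : Fintype.card Fˣ = 1 := by rw [Fintype.card_units, h2]
  have hsub : Subsingleton Fˣ := Fintype.card_le_one_iff_subsingleton.1 hcu.le
  apply MulChar.ext
  intro a
  rw [Subsingleton.elim a 1]
  simp

/-- The inner products of the linear characters with the restriction of a principal series
character. -/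
theorem classInner_muFun_resB (hq : 3 ≤ Fintype.card F) [Fintype (Borel F)]
    (α β α' β' : MulChar F ℂ) :
    Cfsg.classInner (muFun α' β') (resB (Cfsg.indFun (Borel F) (muFun α β))) =
      (if muFun α' β' = muFun α β then 1 else 0) + (if muFun α' β' = muFun β α then 1 else 0) := by
  classical
  obtain ⟨ξ, hξirr, hξu, hdec⟩ := resB_indFun_decomp hq α β
  rw [hdec, Cfsg.Agent.Lib.Helper3_CharOrtho.classInner_add_right,
    Cfsg.Agent.Lib.Helper3_CharOrtho.classInner_add_right,
    Cfsg.Agent.Lib.Helper3_CharOrtho.classInner_irr (isIrrCharacter_muFun α' β')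
      (isIrrCharacter_muFun α β),
    Cfsg.Agent.Lib.Helper3_CharOrtho.classInner_irr (isIrrCharacter_muFun α' β')
      (isIrrCharacter_muFun β α),
    Cfsg.Agent.Lib.Helper3_CharOrtho.classInner_of_isIrrCharacter_of_ne
      (isIrrCharacter_muFun α' β') hξirr, add_zero]
  intro h
  have := congrFun h (uB (1 : F))
  rw [muFun_uB, hξu] at this
  norm_num at this

/-- Principal series characters attached to two different multiplicative characters are
irreducible. -/
theorem isIrrCharacter_indFun_muFun (α β : MulChar F ℂ) (hαβ : α ≠ β) :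
    Cfsg.IsIrrCharacter (GL (Fin 2) F) (Cfsg.indFun (Borel F) (muFun α β)) := by
  classical
  have : Fintype (Borel F) := Fintype.ofFinite _
  rcases Nat.lt_or_ge (Fintype.card F) 3 with hq | hq
  · exact absurd (mulChar_eq_of_card_lt_three hq α β) hαβ
  have hθ : Cfsg.IsCharacter (GL (Fin 2) F) (Cfsg.indFun (Borel F) (muFun α β)) :=
    Cfsg.Agent.Lib.Helper75_IndChar.isCharacter_indFun (Borel F) (isCharacter_muFun α β)
  apply isIrrCharacter_of_classInner_self hθ
  rw [frobenius_reciprocity (Borel F) (muFun α β) _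
    (Cfsg.Agent.Lib.Helper3_CharBridge.isClassFunction_of_isCharacter hθ)]
  have := classInner_muFun_resB hq α β α β
  rw [if_pos rfl, if_neg (muFun_ne_swap hαβ), add_zero] at this
  exact this

/-- Swapping the two multiplicative characters does not change the principal series
character. -/
theorem indFun_muFun_swap (α β : MulChar F ℂ) :
    Cfsg.indFun (Borel F) (muFun α β) = Cfsg.indFun (Borel F) (muFun β α) := by
  classical
  have : Fintype (Borel F) := Fintype.ofFinite _
  by_cases hαβ : α = β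
  · rw [hαβ]
  rcases Nat.lt_or_ge (Fintype.card F) 3 with hq | hq
  · exact absurd (mulChar_eq_of_card_lt_three hq α β) hαβ
  have h1 := isIrrCharacter_indFun_muFun α β hαβ
  have h2 := isIrrCharacter_indFun_muFun β α (Ne.symm hαβ)
  by_contra hne
  have h3 := Cfsg.Agent.Lib.Helper3_CharOrtho.classInner_of_isIrrCharacter_of_ne h2 h1
    (Ne.symm hne)
  rw [frobenius_reciprocity (Borel F) (muFun β α) _
    (Cfsg.Agent.Lib.Helper3_CharBridge.isClassFunction_of_isIrrCharacter h1)] at h3
  have h4 := classInner_muFun_resB hq α β β α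
  rw [if_neg (muFun_ne_swap (Ne.symm hαβ)), if_pos rfl, zero_add] at h4
  change Cfsg.classInner (muFun β α) (resB (Cfsg.indFun (Borel F) (muFun α β))) = 0 at h3
  rw [h4] at h3
  exact one_ne_zero h3

/-- Two principal series characters coincide exactly when the pairs of multiplicative characters
coincide up to order. -/
theorem indFun_muFun_eq_iff (α β α' β' : MulChar F ℂ) :
    Cfsg.indFun (Borel F) (muFun α β) = Cfsg.indFun (Borel F) (muFun α' β') ↔
      (α = α' ∧ β = β') ∨ (α = β' ∧ β = α') := by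
  classical
  have : Fintype (Borel F) := Fintype.ofFinite _
  constructor
  · intro h
    rcases Nat.lt_or_ge (Fintype.card F) 3 with hq | hq
    · exact Or.inl ⟨mulChar_eq_of_card_lt_three hq _ _, mulChar_eq_of_card_lt_three hq _ _⟩
    have h1 := classInner_muFun_resB hq α β α β
    have h2 := classInner_muFun_resB hq α' β' α β
    rw [h, h2, if_pos rfl] at h1
    by_cases e1 : muFun α β = muFun α' β'
    · exact Or.inl (muFun_injective e1)
    · by_cases e2 : muFun α β = muFun β' α'
      · exact Or.inr (muFun_injective e2)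
      · exfalso
        rw [if_neg e1, if_neg e2] at h1
        split_ifs at h1 <;> norm_num at h1
  · rintro (⟨rfl, rfl⟩ | ⟨rfl, rfl⟩)
    · rfl
    · exact indFun_muFun_swap α β

end decomp

end Cfsg.Agent.Lib.Helper39_GL2Ind
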