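import Mathlib
import Cfsg.Prelude.Def_Characters
import Cfsg.Prelude.Def_ParabolicCharacters
import Cfsg.Agent.Lib.Helper38_SL2
import Cfsg.Agent.Lib.Helper39_GL2Ind
import Cfsg.Agent.S2301

/-!
# The Borel subgroup of `SL₂(F)` and induced characters (helper39)
-/

set_option autoImplicit false

namespace Cfsg.Agent.Lib.Helper39_SL2Borel

open scoped ComplexConjugate
open Matrix Cfsg.Agent.Lib.Helper39_GL2Char Cfsg.Agent.Lib.Helper39_CharTools
  Cfsg.Agent.Lib.Helper39_GL2Borel Cfsg.Agent.Lib.Helper39_IndTools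
open Cfsg.Agent.Lib.Helper38_SL2 (mk2)

variable {F : Type*} [Field F]

/-- The Borel subgroup of `SL₂(F)`. -/
abbrev B1 (F : Type*) [Field F] : Subgroup (SpecialLinearGroup (Fin 2) F) :=
  (Cfsg.upperTriangularGL 2 F).comap Matrix.SpecialLinearGroup.toGL

theorem mem_B1_iff (x : SpecialLinearGroup (Fin 2) F) :
    x ∈ B1 F ↔ (x : Matrix (Fin 2) (Fin 2) F) 1 0 = 0 := by
  rw [Subgroup.mem_comap, mem_borel_iff]
  rfl

theorem B1_10 (b : B1 F) : ((b : SpecialLinearGroup (Fin 2) F) : Matrix (Fin 2) (Fin 2) F) 1 0 = 0 :=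
  (mem_B1_iff _).1 b.2

theorem B1_det (b : B1 F) : ((b : SpecialLinearGroup (Fin 2) F) : Matrix (Fin 2) (Fin 2) F) 0 0 *
    ((b : SpecialLinearGroup (Fin 2) F) : Matrix (Fin 2) (Fin 2) F) 1 1 = 1 := by
  have h := (b : SpecialLinearGroup (Fin 2) F).det_coe
  rw [Matrix.det_fin_two, B1_10] at h
  simpa using h

theorem B1_00_ne_zero (b : B1 F) :
    ((b : SpecialLinearGroup (Fin 2) F) : Matrix (Fin 2) (Fin 2) F) 0 0 ≠ 0 := by
  intro h
  have := B1_det b
  rw [h, zero_mul] at this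
  exact zero_ne_one this

theorem B1_11_eq_inv (b : B1 F) :
    ((b : SpecialLinearGroup (Fin 2) F) : Matrix (Fin 2) (Fin 2) F) 1 1 =
      (((b : SpecialLinearGroup (Fin 2) F) : Matrix (Fin 2) (Fin 2) F) 0 0)⁻¹ :=
  eq_inv_of_mul_eq_one_right (B1_det b)

/-- The upper triangular matrix of determinant one with given entries. -/
noncomputable def b1Mat (x : Fˣ) (y : F) : B1 F :=
  ⟨mk2 (x : F) y 0 ((x⁻¹ : Fˣ) : F) (by simp), by rw [mem_B1_iff]; rfl⟩

theorem b1Mat_val (x : Fˣ) (y : F) :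
    (((b1Mat x y : B1 F) : SpecialLinearGroup (Fin 2) F) : Matrix (Fin 2) (Fin 2) F) =
      !![(x : F), y; 0, ((x⁻¹ : Fˣ) : F)] := rfl

/-- The Borel subgroup is parametrised by its entries. -/
noncomputable def B1Equiv : B1 F ≃ Fˣ × F where
  toFun b := (Units.mk0 _ (B1_00_ne_zero b),
    ((b : SpecialLinearGroup (Fin 2) F) : Matrix (Fin 2) (Fin 2) F) 0 1)
  invFun p := b1Mat p.1 p.2
  left_inv b := by
    apply Subtype.ext
    apply Matrix.SpecialLinearGroup.ext
    intro i j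
    rw [b1Mat_val]
    fin_cases i <;> fin_cases j <;> simp [B1_10, B1_11_eq_inv]
  right_inv p := by
    obtain ⟨x, y⟩ := p
    simp only [b1Mat_val]
    refine Prod.ext ?_ ?_
    · apply Units.ext; simp
    · simp

theorem card_B1 [Fintype F] [DecidableEq F] :
    Nat.card (B1 F) = (Fintype.card F - 1) * Fintype.card F := by
  rw [Nat.card_congr B1Equiv, Nat.card_prod, Nat.card_units, Nat.card_eq_fintype_card]

/-- The unipotent elements. -/
noncomputable def u1 (x : F) : B1 F := b1Mat 1 x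

theorem u1_val (x : F) :
    (((u1 x : B1 F) : SpecialLinearGroup (Fin 2) F) : Matrix (Fin 2) (Fin 2) F) =
      !![1, x; 0, 1] := by
  rw [u1, b1Mat_val]
  simp

theorem u1_zero : u1 (0 : F) = 1 := by
  apply Subtype.ext
  apply Matrix.SpecialLinearGroup.ext
  intro i j
  rw [u1_val]
  fin_cases i <;> fin_cases j <;> simp

theorem u1_add (x y : F) : u1 (x + y) = u1 x * u1 y := by
  apply Subtype.ext
  apply Matrix.SpecialLinearGroup.ext
  intro i j
  rw [Subgroup.coe_mul, Matrix.SpecialLinearGroup.coe_mul, u1_val, u1_val, u1_val]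
  fin_cases i <;> fin_cases j <;> simp [Matrix.mul_apply, Fin.sum_univ_two, add_comm]

/-- The unipotent subgroup as a homomorphism. -/
noncomputable def u1Hom : Multiplicative F →* B1 F where
  toFun x := u1 (Multiplicative.toAdd x)
  map_one' := u1_zero
  map_mul' _ _ := u1_add _ _

theorem u1Hom_apply (x : Multiplicative F) : u1Hom x = u1 (Multiplicative.toAdd x) := rfl

/-- The diagonal part, as a homomorphism onto the torus. -/
noncomputable def diagHom1 : B1 F →* Fˣ where
  toFun b := Units.mk0 _ (B1_00_ne_zero b)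
  map_one' := by apply Units.ext; simp
  map_mul' a b := by
    apply Units.ext
    simp [Matrix.mul_apply, Fin.sum_univ_two, B1_10]

theorem diagHom1_coe (b : B1 F) : ((diagHom1 b : Fˣ) : F) =
    ((b : SpecialLinearGroup (Fin 2) F) : Matrix (Fin 2) (Fin 2) F) 0 0 := rfl

/-- The unipotent radical. -/
noncomputable def U1 (F : Type*) [Field F] : Subgroup (B1 F) := (diagHom1 (F := F)).ker

instance : (U1 F).Normal := MonoidHom.normal_ker _

theorem mem_U1_iff (b : B1 F) : b ∈ U1 F ↔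
    ((b : SpecialLinearGroup (Fin 2) F) : Matrix (Fin 2) (Fin 2) F) 0 0 = 1 := by
  rw [U1, MonoidHom.mem_ker]
  constructor
  · intro h
    rw [← diagHom1_coe, h]; rfl
  · intro h
    exact Units.ext (by rw [diagHom1_coe, h]; rfl)

theorem u1_mem_U1 (x : F) : u1 x ∈ U1 F := by
  rw [mem_U1_iff, u1_val]
  simp

/-- The unipotent radical is parametrised by the field. -/
noncomputable def U1Equiv : F ≃ U1 F where
  toFun x := ⟨u1 x, u1_mem_U1 x⟩
  invFun b := (((b : B1 F) : SpecialLinearGroup (Fin 2) F) : Matrix (Fin 2) (Fin 2) F) 0 1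
  left_inv x := by simp [u1_val]
  right_inv b := by
    obtain ⟨b, hb⟩ := b
    have hb' := (mem_U1_iff b).1 hb
    apply Subtype.ext
    apply Subtype.ext
    apply Matrix.SpecialLinearGroup.ext
    intro i j
    simp only [u1_val]
    fin_cases i <;> fin_cases j <;> simp [hb', B1_10, B1_11_eq_inv]

/-- Commutators lie in the unipotent radical. -/
theorem commutator_mem_U1 (a b : B1 F) : a * b * a⁻¹ * b⁻¹ ∈ U1 F := by
  rw [U1, MonoidHom.mem_ker]
  simp only [map_mul, map_inv]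
  rw [mul_comm (diagHom1 a), mul_assoc, mul_assoc]
  simp

/-- The Weyl element. -/
noncomputable def wS : SpecialLinearGroup (Fin 2) F := mk2 0 1 (-1) 0 (by ring)

theorem wS_val : ((wS : SpecialLinearGroup (Fin 2) F) : Matrix (Fin 2) (Fin 2) F) =
    !![0, 1; -1, 0] := rfl

theorem wS_not_mem : (wS : SpecialLinearGroup (Fin 2) F) ∉ B1 F := by
  rw [mem_B1_iff, wS_val]
  simp

theorem wS_inv_val : ((wS⁻¹ : SpecialLinearGroup (Fin 2) F) : Matrix (Fin 2) (Fin 2) F) =
    !![0, -1; 1, 0] := by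
  rw [Matrix.SpecialLinearGroup.coe_inv, wS_val, Matrix.adjugate_fin_two_of]
  simp

theorem wS_inv_not_mem : (wS⁻¹ : SpecialLinearGroup (Fin 2) F) ∉ B1 F := by
  rw [mem_B1_iff, wS_inv_val]
  simp

theorem wS_inv_mul_10 (y : SpecialLinearGroup (Fin 2) F) :
    ((wS⁻¹ * y : SpecialLinearGroup (Fin 2) F) : Matrix (Fin 2) (Fin 2) F) 1 0 =
      (y : Matrix (Fin 2) (Fin 2) F) 0 0 := by
  rw [Matrix.SpecialLinearGroup.coe_mul, wS_inv_val]
  simp [Matrix.mul_apply, Fin.sum_univ_two]

/-- Conjugating a diagonal matrix by the Weyl element inverts it. -/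
theorem wS_conj_b1Mat (x : Fˣ) :
    (wS : SpecialLinearGroup (Fin 2) F)⁻¹ * ((b1Mat x 0 : B1 F) : SpecialLinearGroup (Fin 2) F) *
      wS = ((b1Mat x⁻¹ 0 : B1 F) : SpecialLinearGroup (Fin 2) F) := by
  apply Matrix.SpecialLinearGroup.ext
  intro i j
  rw [Matrix.SpecialLinearGroup.coe_mul, Matrix.SpecialLinearGroup.coe_mul, wS_inv_val, wS_val,
    b1Mat_val, b1Mat_val]
  fin_cases i <;> fin_cases j <;> simp [Matrix.mul_apply, Fin.sum_univ_two]

end Cfsg.Agent.Lib.Helper39_SL2Borel
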