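import Mathlib
import Cfsg.Prelude.Def_Characters
import Cfsg.Prelude.Def_ParabolicCharacters
import Cfsg.Agent.Lib.Helper39_SL2Borel

/-!
# Values of characters of `SL₂(F)` induced from the Borel subgroup (helper39)
-/

set_option autoImplicit false

namespace Cfsg.Agent.Lib.Helper39_SL2Ind

open scoped ComplexConjugate
open Matrix Cfsg.Agent.Lib.Helper39_GL2Char Cfsg.Agent.Lib.Helper39_CharTools
  Cfsg.Agent.Lib.Helper39_GL2Borel Cfsg.Agent.Lib.Helper39_IndTools
  Cfsg.Agent.Lib.Helper39_SL2Borel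
open Cfsg.Agent.Lib.Helper75_Induced (extendByZero_coe extendByZero_of_not_mem frobenius_reciprocity indFun_apply isClassFunction_indFun)

variable {F : Type*} [Field F]

/-- If `y⁻¹ g y` is upper triangular, the first column of `y` is an eigenvector of `g`. -/
theorem column_relation1 (g y : SpecialLinearGroup (Fin 2) F) (h : y⁻¹ * g * y ∈ B1 F)
    (i : Fin 2) :
    (y : Matrix (Fin 2) (Fin 2) F) i 0 *
      ((y⁻¹ * g * y : SpecialLinearGroup (Fin 2) F) : Matrix (Fin 2) (Fin 2) F) 0 0 =
      (g : Matrix (Fin 2) (Fin 2) F) i 0 * (y : Matrix (Fin 2) (Fin 2) F) 0 0 +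
      (g : Matrix (Fin 2) (Fin 2) F) i 1 * (y : Matrix (Fin 2) (Fin 2) F) 1 0 := by
  have h' : (SpecialLinearGroup.toGL y)⁻¹ * SpecialLinearGroup.toGL g * SpecialLinearGroup.toGL y ∈
      Borel F := by
    rw [← map_inv, ← map_mul, ← map_mul]
    exact h
  have := Cfsg.Agent.Lib.Helper39_GL2Ind.column_relation _ _ h' i
  rw [← map_inv, ← map_mul, ← map_mul] at this
  exact this

section values

variable [Fintype (SpecialLinearGroup (Fin 2) F)]

/-- Value of an induced function at a regular diagonal element. -/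
theorem indFun_regular1 {μ : B1 F → ℂ} (hμ : Cfsg.IsClassFunction (B1 F) μ) (x : Fˣ)
    (hx : x ≠ x⁻¹) :
    Cfsg.indFun (B1 F) μ ((b1Mat x 0 : B1 F) : SpecialLinearGroup (Fin 2) F) =
      μ (b1Mat x 0) + μ (b1Mat x⁻¹ 0) := by
  classical
  have hne : (1 : SpecialLinearGroup (Fin 2) F) ≠ wS := by
    intro h
    apply wS_not_mem (F := F)
    rw [← h]
    exact (B1 F).one_mem
  rw [indFun_eq_sum_reps (B1 F) hμ _ {1, wS}]
  · rw [Finset.sum_pair hne, inv_one, one_mul, mul_one, wS_conj_b1Mat, extendByZero_coe,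
      extendByZero_coe]
  · intro y hy
    have h0 := column_relation1 _ y hy 0
    have h1 := column_relation1 _ y hy 1
    rw [b1Mat_val] at h0 h1
    simp only [Matrix.of_apply, Matrix.cons_val', Matrix.cons_val_zero, Matrix.cons_val_one,
      Matrix.cons_val_fin_one, zero_mul, add_zero, zero_add] at h0 h1
    by_cases hy10 : (y : Matrix (Fin 2) (Fin 2) F) 1 0 = 0
    · refine ⟨1, by simp, ?_⟩
      rw [inv_one, one_mul, mem_B1_iff]
      exact hy10
    · refine ⟨wS, by simp, ?_⟩
      rw [mem_B1_iff, wS_inv_mul_10]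
      by_contra hy00
      have e1 := mul_left_cancel₀ hy10 (by rw [h1]; ring :
        (y : Matrix (Fin 2) (Fin 2) F) 1 0 * _ =
          (y : Matrix (Fin 2) (Fin 2) F) 1 0 * ((x⁻¹ : Fˣ) : F))
      have e0 := mul_left_cancel₀ hy00 (by rw [h0]; ring :
        (y : Matrix (Fin 2) (Fin 2) F) 0 0 * _ = (y : Matrix (Fin 2) (Fin 2) F) 0 0 * (x : F))
      apply hx
      apply Units.ext
      rw [← e0, ← e1]
  · intro s hs t ht hst
    simp only [Finset.mem_insert, Finset.mem_singleton] at hs ht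
    rcases hs with rfl | rfl <;> rcases ht with rfl | rfl
    · rfl
    · exfalso
      rw [inv_one, one_mul] at hst
      exact wS_not_mem (F := F) hst
    · exfalso
      rw [mul_one] at hst
      exact wS_inv_not_mem (F := F) hst
    · rfl

/-- Value of an induced function at a non-semisimple element of the Borel subgroup. -/
theorem indFun_unipotent1 {μ : B1 F → ℂ} (hμ : Cfsg.IsClassFunction (B1 F) μ) (b : B1 F)
    (hd : ((b : SpecialLinearGroup (Fin 2) F) : Matrix (Fin 2) (Fin 2) F) 0 0 =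
      ((b : SpecialLinearGroup (Fin 2) F) : Matrix (Fin 2) (Fin 2) F) 1 1)
    (hs : ((b : SpecialLinearGroup (Fin 2) F) : Matrix (Fin 2) (Fin 2) F) 0 1 ≠ 0) :
    Cfsg.indFun (B1 F) μ (b : SpecialLinearGroup (Fin 2) F) = μ b := by
  classical
  rw [indFun_eq_sum_reps (B1 F) hμ _ {1}]
  · rw [Finset.sum_singleton, inv_one, one_mul, mul_one, extendByZero_coe]
  · intro y hy
    refine ⟨1, by simp, ?_⟩
    rw [inv_one, one_mul, mem_B1_iff]
    by_contra hy10
    have h0 := column_relation1 _ y hy 0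
    have h1 := column_relation1 _ y hy 1
    rw [B1_10, zero_mul, zero_add] at h1
    have e1 := mul_left_cancel₀ hy10 (by rw [h1]; ring :
      (y : Matrix (Fin 2) (Fin 2) F) 1 0 * _ = (y : Matrix (Fin 2) (Fin 2) F) 1 0 *
        ((b : SpecialLinearGroup (Fin 2) F) : Matrix (Fin 2) (Fin 2) F) 1 1)
    rw [e1, ← hd] at h0
    have : ((b : SpecialLinearGroup (Fin 2) F) : Matrix (Fin 2) (Fin 2) F) 0 1 *
        (y : Matrix (Fin 2) (Fin 2) F) 1 0 = 0 := by
      have h2 : (y : Matrix (Fin 2) (Fin 2) F) 0 0 *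
          ((b : SpecialLinearGroup (Fin 2) F) : Matrix (Fin 2) (Fin 2) F) 0 0 =
          ((b : SpecialLinearGroup (Fin 2) F) : Matrix (Fin 2) (Fin 2) F) 0 0 *
          (y : Matrix (Fin 2) (Fin 2) F) 0 0 := mul_comm _ _
      rw [h2] at h0
      exact (add_eq_left.1 h0.symm)
    rcases mul_eq_zero.1 this with h | h
    · exact hs h
    · exact hy10 h
  · intro s hs t ht _
    simp only [Finset.mem_singleton] at hs ht
    rw [hs, ht]

/-- A function induced from the Borel subgroup vanishes at elements without eigenvectors. -/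
theorem indFun_eq_zero_of_no_eigenvector1 (μ : B1 F → ℂ) (g : SpecialLinearGroup (Fin 2) F)
    (h : ∀ (c : F) (v : Fin 2 → F), v ≠ 0 →
      (g : Matrix (Fin 2) (Fin 2) F).mulVec v ≠ c • v) :
    Cfsg.indFun (B1 F) μ g = 0 := by
  rw [indFun_apply]
  apply mul_eq_zero_of_right
  apply Finset.sum_eq_zero
  intro x _
  apply extendByZero_of_not_mem
  intro hmem
  have h0 := column_relation1 g x hmem 0
  have h1 := column_relation1 g x hmem 1
  set c := ((x⁻¹ * g * x : SpecialLinearGroup (Fin 2) F) : Matrix (Fin 2) (Fin 2) F) 0 0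
  apply h c (fun i => (x : Matrix (Fin 2) (Fin 2) F) i 0)
  · intro hv
    have e0 := congrFun hv 0
    have e1 := congrFun hv 1
    simp only [Pi.zero_apply] at e0 e1
    have hdet := x.det_coe
    rw [Matrix.det_fin_two, e0, e1] at hdet
    simp at hdet
  · funext i
    simp only [Matrix.mulVec, dotProduct, Fin.sum_univ_two, Pi.smul_apply, smul_eq_mul]
    fin_cases i
    · simp only [Fin.zero_eta]
      rw [← h0]; ring
    · simp only [Fin.mk_one]
      rw [← h1]; ring

omit [Fintype (SpecialLinearGroup (Fin 2) F)] in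
theorem card_SL2_eq [Fintype F] : (Nat.card (SpecialLinearGroup (Fin 2) F) : ℂ) =
    ((Fintype.card F : ℂ) + 1) * (Nat.card (B1 F) : ℂ) := by
  classical
  rw [Cfsg.Agent.S2301.card_SL2, card_B1]
  obtain ⟨Q, hQ⟩ : ∃ Q : ℕ, Fintype.card F = Q + 1 :=
    ⟨Fintype.card F - 1, by have := Fintype.card_pos (α := F); omega⟩
  rw [hQ]
  have e1 : (Q + 1) ^ 2 - 1 = Q * (Q + 2) := by
    apply Nat.sub_eq_of_eq_add
    ring
  rw [e1]
  simp only [Nat.add_sub_cancel]
  push_cast
  ring

/-- Value of an induced function at a central element. -/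
theorem indFun_central1 [Fintype F] (μ : B1 F → ℂ) (b : B1 F)
    (hb : ∀ x : SpecialLinearGroup (Fin 2) F, x * (b : SpecialLinearGroup (Fin 2) F) =
      (b : SpecialLinearGroup (Fin 2) F) * x) :
    Cfsg.indFun (B1 F) μ (b : SpecialLinearGroup (Fin 2) F) =
      ((Fintype.card F : ℂ) + 1) * μ b := by
  rw [indFun_apply]
  have : ∀ x : SpecialLinearGroup (Fin 2) F,
      Cfsg.extendByZero (B1 F) μ (x⁻¹ * (b : SpecialLinearGroup (Fin 2) F) * x) = μ b := by
    intro x
    rw [mul_assoc, ← hb x, ← mul_assoc, inv_mul_cancel, one_mul]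
    exact extendByZero_coe (B1 F) μ b
  simp_rw [this]
  rw [Finset.sum_const, Finset.card_univ, nsmul_eq_mul, ← Nat.card_eq_fintype_card, card_SL2_eq]
  have hB : (Nat.card (B1 F) : ℂ) ≠ 0 := by
    rw [Nat.cast_ne_zero]; exact Nat.card_pos.ne'
  field_simp

omit [Fintype (SpecialLinearGroup (Fin 2) F)] in
/-- The diagonal elements with `x = x⁻¹` are central. -/
theorem b1Mat_central (x : Fˣ) (hx : x = x⁻¹) (y : SpecialLinearGroup (Fin 2) F) :
    y * ((b1Mat x 0 : B1 F) : SpecialLinearGroup (Fin 2) F) =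
      ((b1Mat x 0 : B1 F) : SpecialLinearGroup (Fin 2) F) * y := by
  apply Matrix.SpecialLinearGroup.ext
  intro i j
  rw [Matrix.SpecialLinearGroup.coe_mul, Matrix.SpecialLinearGroup.coe_mul, b1Mat_val, ← hx]
  fin_cases i <;> fin_cases j <;> simp [Matrix.mul_apply, Fin.sum_univ_two, mul_comm]

end values

section mulchar

/-- The linear character of the Borel subgroup attached to a multiplicative character. -/
noncomputable def aFun (α : MulChar F ℂ) : B1 F → ℂ :=
  fun b => α (((b : SpecialLinearGroup (Fin 2) F) : Matrix (Fin 2) (Fin 2) F) 0 0)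

/-- The same as a homomorphism. -/
noncomputable def aHom (α : MulChar F ℂ) : B1 F →* ℂˣ := α.toUnitHom.comp diagHom1

theorem aHom_coe (α : MulChar F ℂ) (b : B1 F) : ((aHom α b : ℂˣ) : ℂ) = aFun α b := by
  simp only [aHom, aFun, MonoidHom.comp_apply, MulChar.coe_toUnitHom, diagHom1_coe]

theorem isIrrCharacter_aFun (α : MulChar F ℂ) : Cfsg.IsIrrCharacter (B1 F) (aFun α) := by
  have h := Cfsg.Agent.Lib.Helper79_Linear.isIrrCharacter_of_hom (aHom α)
  have e : (fun b => ((aHom α b : ℂˣ) : ℂ)) = aFun α := funext (aHom_coe α)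
  rw [e] at h
  exact h

theorem isCharacter_aFun (α : MulChar F ℂ) : Cfsg.IsCharacter (B1 F) (aFun α) :=
  Cfsg.Agent.Lib.Helper3_CharBridge.isCharacter_of_isIrrCharacter (isIrrCharacter_aFun α)

theorem isClassFunction_aFun (α : MulChar F ℂ) : Cfsg.IsClassFunction (B1 F) (aFun α) :=
  Cfsg.Agent.Lib.Helper3_CharBridge.isClassFunction_of_isCharacter (isCharacter_aFun α)

theorem aFun_mul (α : MulChar F ℂ) (a b : B1 F) : aFun α (a * b) = aFun α a * aFun α b := by
  rw [← aHom_coe, ← aHom_coe, ← aHom_coe, map_mul, Units.val_mul]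

theorem aFun_one (α : MulChar F ℂ) : aFun α 1 = 1 := by
  rw [← aHom_coe, map_one, Units.val_one]

theorem aFun_ne_zero (α : MulChar F ℂ) (b : B1 F) : aFun α b ≠ 0 := by
  rw [← aHom_coe]
  exact Units.ne_zero _

theorem aFun_b1Mat (α : MulChar F ℂ) (x : Fˣ) (y : F) : aFun α (b1Mat x y) = α (x : F) := by
  simp [aFun, b1Mat_val]

theorem aFun_u1 (α : MulChar F ℂ) (x : F) : aFun α (u1 x) = 1 := by
  simp [aFun, u1_val]

theorem aFun_injective {α β : MulChar F ℂ} (h : aFun α = aFun β) : α = β := by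
  apply MulChar.ext
  intro a
  have := congrFun h (b1Mat a 0)
  rw [aFun_b1Mat, aFun_b1Mat] at this
  exact this

end mulchar

section inner

variable [Fintype F] [Fintype (SpecialLinearGroup (Fin 2) F)]

omit [Fintype F] in
/-- Value of a principal series character at a regular element of the Borel subgroup. -/
theorem indFun_aFun_regular (α : MulChar F ℂ) (b : B1 F)
    (hb : ((b : SpecialLinearGroup (Fin 2) F) : Matrix (Fin 2) (Fin 2) F) 0 0 ≠
      ((b : SpecialLinearGroup (Fin 2) F) : Matrix (Fin 2) (Fin 2) F) 1 1) :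
    Cfsg.indFun (B1 F) (aFun α) (b : SpecialLinearGroup (Fin 2) F) =
      α (((b : SpecialLinearGroup (Fin 2) F) : Matrix (Fin 2) (Fin 2) F) 0 0) +
      α (((b : SpecialLinearGroup (Fin 2) F) : Matrix (Fin 2) (Fin 2) F) 1 1) := by
  set a := ((b : SpecialLinearGroup (Fin 2) F) : Matrix (Fin 2) (Fin 2) F) 0 0 with ha
  set d := ((b : SpecialLinearGroup (Fin 2) F) : Matrix (Fin 2) (Fin 2) F) 1 1 with hd
  set s := ((b : SpecialLinearGroup (Fin 2) F) : Matrix (Fin 2) (Fin 2) F) 0 1 with hs
  have hda : d - a ≠ 0 := sub_ne_zero.2 (Ne.symm hb)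
  have hdinv : d = a⁻¹ := B1_11_eq_inv b
  set x : Fˣ := Units.mk0 a (B1_00_ne_zero b) with hx
  have hxx : x ≠ x⁻¹ := by
    intro h
    apply hb
    have := congrArg Units.val h
    rw [hdinv]
    simpa [hx] using this
  have hconj : (b : SpecialLinearGroup (Fin 2) F) =
      ((u1 (s / (d - a)) : B1 F) : SpecialLinearGroup (Fin 2) F) *
        ((b1Mat x 0 : B1 F) : SpecialLinearGroup (Fin 2) F) *
        ((u1 (s / (d - a)) : B1 F) : SpecialLinearGroup (Fin 2) F)⁻¹ := by
    rw [eq_mul_inv_iff_mul_eq]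
    apply Matrix.SpecialLinearGroup.ext
    intro i j
    rw [Matrix.SpecialLinearGroup.coe_mul, Matrix.SpecialLinearGroup.coe_mul, u1_val, b1Mat_val]
    fin_cases i <;> fin_cases j <;>
      simp [Matrix.mul_apply, Fin.sum_univ_two, B1_10, hx, ← ha, ← hd, ← hs, ← hdinv]
    field_simp
    ring
  have hcf := isClassFunction_indFun (B1 F) (aFun α)
  rw [hconj, hcf, indFun_regular1 (isClassFunction_aFun α) x hxx, aFun_b1Mat, aFun_b1Mat]
  simp only [hx, Units.val_mk0, Units.val_inv_eq_inv_val, ← hdinv]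

/-- Row sums of a principal series character over the Borel subgroup. -/
theorem sum_row (β : MulChar F ℂ) (x : Fˣ) :
    ∑ y : F, Cfsg.indFun (B1 F) (aFun β) ((b1Mat x y : B1 F) : SpecialLinearGroup (Fin 2) F) =
      (Fintype.card F : ℂ) * (β (x : F) + β ((x⁻¹ : Fˣ) : F)) := by
  classical
  by_cases hx : x = x⁻¹
  · rw [← Finset.add_sum_erase Finset.univ _ (Finset.mem_univ (0 : F)),
      indFun_central1 (aFun β) (b1Mat x 0) (b1Mat_central x hx), aFun_b1Mat]
    have : ∑ y ∈ Finset.univ.erase (0 : F),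
        Cfsg.indFun (B1 F) (aFun β) ((b1Mat x y : B1 F) : SpecialLinearGroup (Fin 2) F) =
        ∑ _y ∈ Finset.univ.erase (0 : F), β (x : F) := by
      refine Finset.sum_congr rfl (fun y hy => ?_)
      rw [indFun_unipotent1 (isClassFunction_aFun β) (b1Mat x y), aFun_b1Mat]
      · rw [b1Mat_val]
        simp only [Matrix.of_apply, Matrix.cons_val', Matrix.cons_val_zero, Matrix.cons_val_one,
          Matrix.cons_val_fin_one]
        rw [← hx]
      · rw [b1Mat_val]
        simpa using Finset.ne_of_mem_erase hy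
    rw [this, Finset.sum_const, Finset.card_erase_of_mem (Finset.mem_univ _), Finset.card_univ,
      nsmul_eq_mul, Nat.cast_sub Fintype.card_pos, ← hx]
    push_cast
    ring
  · have : ∀ y : F, Cfsg.indFun (B1 F) (aFun β)
        ((b1Mat x y : B1 F) : SpecialLinearGroup (Fin 2) F) =
        β (x : F) + β ((x⁻¹ : Fˣ) : F) := by
      intro y
      rw [indFun_aFun_regular β (b1Mat x y), b1Mat_val]
      · simp
      · rw [b1Mat_val]
        simp only [Matrix.of_apply, Matrix.cons_val', Matrix.cons_val_zero, Matrix.cons_val_one,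
          Matrix.cons_val_fin_one]
        intro h
        exact hx (Units.ext h)
    simp_rw [this]
    rw [Finset.sum_const, Finset.card_univ, nsmul_eq_mul]

omit [Fintype (SpecialLinearGroup (Fin 2) F)] in
/-- Orthogonality for multiplicative characters, summed over the units. -/
theorem sum_units_mulChar [Fintype Fˣ] [DecidableEq (MulChar F ℂ)] (γ : MulChar F ℂ) :
    ∑ x : Fˣ, γ (x : F) = if γ = 1 then (Fintype.card F : ℂ) - 1 else 0 := by
  classical
  split_ifs with h
  · subst h
    have : ∀ x : Fˣ, (1 : MulChar F ℂ) (x : F) = 1 := fun x => MulChar.one_apply_coe x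
    simp_rw [this]
    rw [Finset.sum_const, Finset.card_univ, nsmul_eq_mul, mul_one, ← Nat.card_eq_fintype_card,
      Nat.card_units, Nat.card_eq_fintype_card, Nat.cast_sub Fintype.card_pos]
    simp
  · obtain ⟨b, hb⟩ := MulChar.ne_one_iff.1 h
    have h1 : ∑ x : Fˣ, γ (x : F) = γ (b : F) * ∑ x : Fˣ, γ (x : F) := by
      rw [Finset.mul_sum]
      calc ∑ x : Fˣ, γ (x : F) = ∑ x : Fˣ, γ (((b * x : Fˣ)) : F) :=
            (Fintype.sum_equiv (Equiv.mulLeft b) _ _ (fun x => rfl)).symm
        _ = ∑ x : Fˣ, γ (b : F) * γ (x : F) := by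
            refine Finset.sum_congr rfl (fun x _ => ?_)
            rw [Units.val_mul, map_mul]
    have h2 : (γ (b : F) - 1) * ∑ x : Fˣ, γ (x : F) = 0 := by
      rw [sub_mul, one_mul, ← h1, sub_self]
    rcases mul_eq_zero.1 h2 with h3 | h3
    · exact absurd (sub_eq_zero.1 h3) hb
    · exact h3

/-- The inner products of the linear characters with the restriction of a principal series
character (the Mackey formula). -/
theorem classInner_aFun_res [Fintype (B1 F)] [DecidableEq (MulChar F ℂ)] (α β : MulChar F ℂ) :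
    Cfsg.classInner (aFun α)
      (fun b : B1 F => Cfsg.indFun (B1 F) (aFun β) (b : SpecialLinearGroup (Fin 2) F)) =
      (if α = β then 1 else 0) + (if α = β⁻¹ then 1 else 0) := by
  classical
  unfold Cfsg.classInner
  have hsum : ∑ b : B1 F, aFun α b *
      conj (Cfsg.indFun (B1 F) (aFun β) (b : SpecialLinearGroup (Fin 2) F)) =
      ∑ x : Fˣ, ∑ y : F, α (x : F) * conj (Cfsg.indFun (B1 F) (aFun β)
        ((b1Mat x y : B1 F) : SpecialLinearGroup (Fin 2) F)) := by
    rw [← Fintype.sum_prod_type']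
    apply Fintype.sum_equiv B1Equiv
    intro b
    have hb : b1Mat (B1Equiv b).1 (B1Equiv b).2 = b := B1Equiv.left_inv b
    rw [hb]
    rfl
  rw [hsum]
  have hrow : ∀ x : Fˣ, ∑ y : F, α (x : F) * conj (Cfsg.indFun (B1 F) (aFun β)
      ((b1Mat x y : B1 F) : SpecialLinearGroup (Fin 2) F)) =
      (Fintype.card F : ℂ) * ((α * β⁻¹) (x : F) + (α * β) (x : F)) := by
    intro x
    rw [← Finset.mul_sum, ← map_sum, sum_row β x, map_mul, map_add, Complex.conj_natCast]
    have e1 : conj (β (x : F)) = β⁻¹ (x : F) := MulChar.star_apply' β _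
    have e2 : conj (β ((x⁻¹ : Fˣ) : F)) = β (x : F) := by
      have h3 : conj (β ((x⁻¹ : Fˣ) : F)) = β⁻¹ ((x⁻¹ : Fˣ) : F) := MulChar.star_apply' β _
      rw [h3, MulChar.inv_apply', Units.val_inv_eq_inv_val, inv_inv]
    rw [e1, e2, MulChar.mul_apply, MulChar.mul_apply]
    ring
  simp_rw [hrow]
  rw [← Finset.mul_sum, Finset.sum_add_distrib, sum_units_mulChar, sum_units_mulChar, card_B1]
  have hq1 : ((Fintype.card F : ℂ) - 1) ≠ 0 := by
    have := Fintype.one_lt_card (α := F)
    have h2 : ((Fintype.card F : ℂ) - 1) = ((Fintype.card F - 1 : ℕ) : ℂ) := by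
      rw [Nat.cast_sub Fintype.card_pos]; simp
    rw [h2, Nat.cast_ne_zero]
    omega
  have hq0 : (Fintype.card F : ℂ) ≠ 0 := by
    exact_mod_cast (Fintype.card_pos (α := F)).ne'
  have hc : (((Fintype.card F - 1) * Fintype.card F : ℕ) : ℂ) =
      ((Fintype.card F : ℂ) - 1) * (Fintype.card F : ℂ) := by
    rw [Nat.cast_mul, Nat.cast_sub Fintype.card_pos]; simp
  rw [hc]
  have i1 : (α * β⁻¹ = 1) ↔ α = β := mul_inv_eq_one
  have i2 : (α * β = 1) ↔ α = β⁻¹ := mul_eq_one_iff_eq_inv
  simp only [i1, i2]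
  split_ifs <;> field_simp <;> ring

/-- The inner product of two principal series characters of `SL₂(F)`. -/
theorem classInner_indFun_aFun [DecidableEq (MulChar F ℂ)] (α β : MulChar F ℂ) :
    Cfsg.classInner (Cfsg.indFun (B1 F) (aFun α)) (Cfsg.indFun (B1 F) (aFun β)) =
      (if α = β then 1 else 0) + (if α = β⁻¹ then 1 else 0) := by
  classical
  have : Fintype (B1 F) := Fintype.ofFinite _
  rw [frobenius_reciprocity (B1 F) (aFun α) _ (isClassFunction_indFun (B1 F) (aFun β))]
  exact classInner_aFun_res α β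

theorem isCharacter_indFun_aFun (α : MulChar F ℂ) :
    Cfsg.IsCharacter (SpecialLinearGroup (Fin 2) F) (Cfsg.indFun (B1 F) (aFun α)) :=
  Cfsg.Agent.Lib.Helper75_IndChar.isCharacter_indFun (B1 F) (isCharacter_aFun α)

/-- A principal series character of `SL₂(F)` is irreducible exactly when the square of the
multiplicative character is non-trivial. -/
theorem isIrrCharacter_indFun_aFun_iff (α : MulChar F ℂ) :
    Cfsg.IsIrrCharacter (SpecialLinearGroup (Fin 2) F) (Cfsg.indFun (B1 F) (aFun α)) ↔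
      α ^ 2 ≠ 1 := by
  classical
  have h := classInner_indFun_aFun α α
  rw [if_pos rfl] at h
  have hiff : α ^ 2 = 1 ↔ α = α⁻¹ := by rw [sq, mul_eq_one_iff_eq_inv]
  constructor
  · intro hirr
    have h1 := Cfsg.Agent.Lib.Helper3_CharOrtho.classInner_self_of_isIrrCharacter hirr
    rw [h1] at h
    intro h2
    rw [if_pos (hiff.1 h2)] at h
    norm_num at h
  · intro h2
    apply isIrrCharacter_of_classInner_self (isCharacter_indFun_aFun α)
    rw [h, if_neg (fun h3 => h2 (hiff.2 h3)), add_zero]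

end inner

end Cfsg.Agent.Lib.Helper39_SL2Ind
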