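import Mathlib
import Cfsg.Prelude.Def_Characters
import Cfsg.Prelude.Def_ParabolicCharacters
import Cfsg.Agent.Lib.Helper39_SL2Ind

/-!
# A norm bound for class functions of `SL₂(F)` (helper39)

The conjugates of the non-central elements of `Z U` are counted with the help of the function
induced from the indicator function of these elements on the Borel subgroup.
-/

set_option autoImplicit false

namespace Cfsg.Agent.Lib.Helper39_SL2Bound

open scoped ComplexConjugate Classical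
open Matrix Cfsg.Agent.Lib.Helper39_GL2Char Cfsg.Agent.Lib.Helper39_CharTools
  Cfsg.Agent.Lib.Helper39_IndTools
  Cfsg.Agent.Lib.Helper39_SL2Borel Cfsg.Agent.Lib.Helper39_SL2Ind
open Cfsg.Agent.Lib.Helper75_Induced (extendByZero_of_mem extendByZero_of_not_mem frobenius_reciprocity indFun_apply isClassFunction_indFun)

variable {F : Type*} [Field F]

/-- The elements of the Borel subgroup with equal diagonal entries and non-zero upper right
entry. -/
def IsP (b : B1 F) : Prop :=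
  ((b : SpecialLinearGroup (Fin 2) F) : Matrix (Fin 2) (Fin 2) F) 0 0 =
    ((b : SpecialLinearGroup (Fin 2) F) : Matrix (Fin 2) (Fin 2) F) 1 1 ∧
  ((b : SpecialLinearGroup (Fin 2) F) : Matrix (Fin 2) (Fin 2) F) 0 1 ≠ 0

/-- The indicator function of these elements. -/
noncomputable def pFun : B1 F → ℂ := fun b => if IsP b then 1 else 0

/-- Elements of the Borel subgroup with equal diagonal entries and vanishing upper right entry
are central. -/
theorem central_of_diag (b : B1 F)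
    (hd : ((b : SpecialLinearGroup (Fin 2) F) : Matrix (Fin 2) (Fin 2) F) 0 0 =
      ((b : SpecialLinearGroup (Fin 2) F) : Matrix (Fin 2) (Fin 2) F) 1 1)
    (h0 : ((b : SpecialLinearGroup (Fin 2) F) : Matrix (Fin 2) (Fin 2) F) 0 1 = 0)
    (y : SpecialLinearGroup (Fin 2) F) :
    y * (b : SpecialLinearGroup (Fin 2) F) = (b : SpecialLinearGroup (Fin 2) F) * y := by
  have hb : b1Mat (B1Equiv b).1 (B1Equiv b).2 = b := B1Equiv.left_inv b
  have h2 : (B1Equiv b).2 = 0 := h0
  have h1 : (B1Equiv b).1 = ((B1Equiv b).1)⁻¹ := by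
    apply Units.ext
    rw [Units.val_inv_eq_inv_val]
    change ((b : SpecialLinearGroup (Fin 2) F) : Matrix (Fin 2) (Fin 2) F) 0 0 =
      (((b : SpecialLinearGroup (Fin 2) F) : Matrix (Fin 2) (Fin 2) F) 0 0)⁻¹
    rw [← B1_11_eq_inv, hd]
  rw [← hb, h2]
  exact b1Mat_central _ h1 y

theorem diag_conj (c b : B1 F) :
    (((c * b * c⁻¹ : B1 F) : SpecialLinearGroup (Fin 2) F) : Matrix (Fin 2) (Fin 2) F) 0 0 =
      ((b : SpecialLinearGroup (Fin 2) F) : Matrix (Fin 2) (Fin 2) F) 0 0 := by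
  have : diagHom1 (c * b * c⁻¹) = diagHom1 b := by
    rw [map_mul, map_mul, map_inv, mul_comm (diagHom1 c), mul_assoc, mul_inv_cancel, mul_one]
  rw [← diagHom1_coe, this, diagHom1_coe]

theorem isP_conj (c b : B1 F) : IsP (c * b * c⁻¹) ↔ IsP b := by
  have key : ∀ c b : B1 F, IsP (c * b * c⁻¹) → IsP b := by
    intro c b ⟨h1, h2⟩
    have e00 := diag_conj c b
    have e11 : (((c * b * c⁻¹ : B1 F) : SpecialLinearGroup (Fin 2) F) :
        Matrix (Fin 2) (Fin 2) F) 1 1 =
        ((b : SpecialLinearGroup (Fin 2) F) : Matrix (Fin 2) (Fin 2) F) 1 1 := by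
      rw [B1_11_eq_inv, B1_11_eq_inv, e00]
    refine ⟨by rw [← e00, ← e11]; exact h1, ?_⟩
    intro h0
    apply h2
    have hcen := central_of_diag b (by rw [← e00, ← e11]; exact h1) h0
    have : (c * b * c⁻¹ : B1 F) = b := by
      apply Subtype.ext
      rw [Subgroup.coe_mul, Subgroup.coe_mul, hcen, Subgroup.coe_inv, mul_inv_cancel_right]
    rw [this]
    exact h0
  constructor
  · exact key c b
  · intro h
    apply key c⁻¹ (c * b * c⁻¹)
    have : c⁻¹ * (c * b * c⁻¹) * c⁻¹⁻¹ = b := by group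
    rw [this]
    exact h

theorem isClassFunction_pFun : Cfsg.IsClassFunction (B1 F) (pFun (F := F)) := by
  intro b c
  unfold pFun
  rw [if_congr (isP_conj c b) rfl rfl]

section bound

variable [Fintype F] [Fintype (SpecialLinearGroup (Fin 2) F)]

/-- The function induced from the indicator function. -/
noncomputable def Phi : SpecialLinearGroup (Fin 2) F → ℂ := Cfsg.indFun (B1 F) pFun

omit [Fintype F] in
theorem Phi_zero_or_one (g : SpecialLinearGroup (Fin 2) F) : Phi g = 0 ∨ Phi g = 1 := by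
  by_cases h : ∃ y : SpecialLinearGroup (Fin 2) F, ∃ hy : y⁻¹ * g * y ∈ B1 F,
      IsP (⟨y⁻¹ * g * y, hy⟩ : B1 F)
  · right
    obtain ⟨y, hy, hP⟩ := h
    have hcf := isClassFunction_indFun (B1 F) (pFun (F := F))
    have h1 : Phi g = Phi (y⁻¹ * g * y) := by
      have := hcf g y⁻¹
      rw [inv_inv] at this
      exact this.symm
    rw [h1]
    change Cfsg.indFun (B1 F) pFun ((⟨y⁻¹ * g * y, hy⟩ : B1 F) : SpecialLinearGroup (Fin 2) F) = 1
    rw [indFun_unipotent1 isClassFunction_pFun _ hP.1 hP.2, pFun, if_pos hP]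
  · left
    unfold Phi
    rw [indFun_apply]
    apply mul_eq_zero_of_right
    apply Finset.sum_eq_zero
    intro y _
    by_cases hy : y⁻¹ * g * y ∈ B1 F
    · rw [extendByZero_of_mem (B1 F) _ hy, pFun, if_neg]
      intro hP
      exact h ⟨y, hy, hP⟩
    · exact extendByZero_of_not_mem (B1 F) _ hy

omit [Fintype F] in
theorem Phi_eq_zero_of_central (g : SpecialLinearGroup (Fin 2) F)
    (hg : ∀ y : SpecialLinearGroup (Fin 2) F, y * g = g * y) : Phi g = 0 := by
  unfold Phi
  rw [indFun_apply]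
  apply mul_eq_zero_of_right
  apply Finset.sum_eq_zero
  intro y _
  have : y⁻¹ * g * y = g := by rw [mul_assoc, ← hg y, ← mul_assoc, inv_mul_cancel, one_mul]
  rw [this]
  by_cases hB : g ∈ B1 F
  · rw [extendByZero_of_mem (B1 F) _ hB, pFun, if_neg]
    rintro ⟨h1, h2⟩
    -- a central element of the Borel subgroup has vanishing upper right entry
    have h3 := hg ((u1 (1 : F) : B1 F) : SpecialLinearGroup (Fin 2) F)
    have h4 := congrArg (fun m : SpecialLinearGroup (Fin 2) F =>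
      (m : Matrix (Fin 2) (Fin 2) F) 0 1) h3
    simp only [Matrix.SpecialLinearGroup.coe_mul, u1_val, Matrix.mul_apply,
      Fin.sum_univ_two] at h4
    have h10 : (g : Matrix (Fin 2) (Fin 2) F) 1 0 = 0 := (mem_B1_iff g).1 hB
    simp only [Matrix.of_apply, Matrix.cons_val', Matrix.cons_val_zero, Matrix.cons_val_one,
      Matrix.cons_val_fin_one] at h4
    -- the commutation with the lower unipotent element
    have h5 := hg (wS⁻¹ * ((u1 (1 : F) : B1 F) : SpecialLinearGroup (Fin 2) F) * wS)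
    have h6 := congrArg (fun m : SpecialLinearGroup (Fin 2) F =>
      (m : Matrix (Fin 2) (Fin 2) F) 0 0) h5
    simp only [Matrix.SpecialLinearGroup.coe_mul, u1_val, wS_val, wS_inv_val, Matrix.mul_apply,
      Fin.sum_univ_two, Matrix.of_apply, Matrix.cons_val', Matrix.cons_val_zero,
      Matrix.cons_val_one, Matrix.cons_val_fin_one] at h6
    apply h2
    change (g : Matrix (Fin 2) (Fin 2) F) 0 1 = 0
    have h7 : (g : Matrix (Fin 2) (Fin 2) F) 0 1 = 0 := by
      simp only [h10] at h6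
      linear_combination h6
    exact h7
  · exact extendByZero_of_not_mem (B1 F) _ hB

omit [Fintype F] in
theorem Phi_eq_zero_of_no_eigenvector (g : SpecialLinearGroup (Fin 2) F)
    (h : ∀ (c : F) (v : Fin 2 → F), v ≠ 0 →
      (g : Matrix (Fin 2) (Fin 2) F).mulVec v ≠ c • v) : Phi g = 0 :=
  indFun_eq_zero_of_no_eigenvector1 pFun g h

/-- The weighted count of the conjugates of the elements of `P`. -/
theorem sum_Phi_mul (W : SpecialLinearGroup (Fin 2) F → ℂ)
    (hW : Cfsg.IsClassFunction (SpecialLinearGroup (Fin 2) F) W) [Fintype (B1 F)] :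
    ∑ g : SpecialLinearGroup (Fin 2) F, Phi g * W g =
      ((Fintype.card F : ℂ) + 1) * ∑ b : B1 F, pFun b * W b := by
  have hW' : Cfsg.IsClassFunction (SpecialLinearGroup (Fin 2) F) (fun g => conj (W g)) := by
    intro g h
    simp only
    rw [hW g h]
  have h := frobenius_reciprocity (B1 F) (pFun (F := F)) (fun g => conj (W g)) hW'
  unfold Cfsg.classInner at h
  simp only [Complex.conj_conj] at h
  have hG : (Nat.card (SpecialLinearGroup (Fin 2) F) : ℂ) ≠ 0 := by
    rw [Nat.cast_ne_zero]; exact Nat.card_pos.ne'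
  have hB : (Nat.card (B1 F) : ℂ) ≠ 0 := by
    rw [Nat.cast_ne_zero]; exact Nat.card_pos.ne'
  change (Nat.card (SpecialLinearGroup (Fin 2) F) : ℂ)⁻¹ *
    ∑ g : SpecialLinearGroup (Fin 2) F, Phi g * W g = _ at h
  have h2 : ∑ g : SpecialLinearGroup (Fin 2) F, Phi g * W g =
      (Nat.card (SpecialLinearGroup (Fin 2) F) : ℂ) *
        ((Nat.card (SpecialLinearGroup (Fin 2) F) : ℂ)⁻¹ *
          ∑ g : SpecialLinearGroup (Fin 2) F, Phi g * W g) := by
    rw [← mul_assoc, mul_inv_cancel₀ hG, one_mul]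
  rw [h2, h, card_SL2_eq, mul_assoc, ← mul_assoc (Nat.card (B1 F) : ℂ), mul_inv_cancel₀ hB,
    one_mul]

/-- The norm bound for class functions. -/
theorem strong_bound_class [Fintype (B1 F)] (χ : SpecialLinearGroup (Fin 2) F → ℂ)
    (hχ : Cfsg.IsClassFunction (SpecialLinearGroup (Fin 2) F) χ)
    (T : Finset (SpecialLinearGroup (Fin 2) F)) (hT : ∀ g ∈ T, Phi g = 0) :
    ((Fintype.card F : ℝ) + 1) *
      ∑ b : B1 F, (if IsP b then ‖χ (b : SpecialLinearGroup (Fin 2) F)‖ ^ 2 else 0) +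
      ∑ g ∈ T, ‖χ g‖ ^ 2 ≤ ∑ g : SpecialLinearGroup (Fin 2) F, ‖χ g‖ ^ 2 := by
  set W : SpecialLinearGroup (Fin 2) F → ℂ := fun g => ((‖χ g‖ ^ 2 : ℝ) : ℂ) with hWdef
  have hW : Cfsg.IsClassFunction (SpecialLinearGroup (Fin 2) F) W := by
    intro g h
    simp only [hWdef]
    rw [hχ g h]
  set φ : SpecialLinearGroup (Fin 2) F → ℝ := fun g => if Phi g = 0 then 0 else 1 with hφdef
  have hφ : ∀ g, Phi g = (φ g : ℂ) := by
    intro g
    rcases Phi_zero_or_one g with h | h
    · simp [hφdef, h]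
    · simp [hφdef, h]
  have hφ01 : ∀ g, 0 ≤ 1 - φ g := by
    intro g
    simp only [hφdef]
    split_ifs <;> norm_num
  have hC := sum_Phi_mul W hW
  have hreal : ∑ g, φ g * ‖χ g‖ ^ 2 = ((Fintype.card F : ℝ) + 1) *
      ∑ b : B1 F, (if IsP b then ‖χ (b : SpecialLinearGroup (Fin 2) F)‖ ^ 2 else 0) := by
    have : ((∑ g, φ g * ‖χ g‖ ^ 2 : ℝ) : ℂ) = ((((Fintype.card F : ℝ) + 1) *
        ∑ b : B1 F, (if IsP b then ‖χ (b : SpecialLinearGroup (Fin 2) F)‖ ^ 2 else 0) : ℝ) : ℂ) := by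
      push_cast
      have e1 : ∀ g, (φ g : ℂ) * ((‖χ g‖ : ℂ)) ^ 2 = Phi g * W g := by
        intro g
        rw [hφ g]
        simp [hWdef]
      simp_rw [e1]
      rw [hC]
      congr 1
      apply Finset.sum_congr rfl
      intro b _
      simp only [pFun, hWdef]
      split_ifs <;> simp
    exact_mod_cast this
  rw [← hreal]
  have h1 : ∑ g ∈ T, ‖χ g‖ ^ 2 = ∑ g ∈ T, (1 - φ g) * ‖χ g‖ ^ 2 := by
    apply Finset.sum_congr rfl
    intro g hg
    simp [hφdef, hT g hg]
  have h2 : ∑ g ∈ T, (1 - φ g) * ‖χ g‖ ^ 2 ≤ ∑ g, (1 - φ g) * ‖χ g‖ ^ 2 :=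
    Finset.sum_le_sum_of_subset_of_nonneg (Finset.subset_univ _)
      (fun g _ _ => mul_nonneg (hφ01 g) (sq_nonneg _))
  have h3 : ∑ g, ‖χ g‖ ^ 2 = ∑ g, φ g * ‖χ g‖ ^ 2 + ∑ g, (1 - φ g) * ‖χ g‖ ^ 2 := by
    rw [← Finset.sum_add_distrib]
    apply Finset.sum_congr rfl
    intro g _
    ring
  linarith

omit [Fintype F] [Fintype (SpecialLinearGroup (Fin 2) F)] in
theorem isP_b1Mat (x : Fˣ) (hx : x = x⁻¹) (y : F) (hy : y ≠ 0) : IsP (b1Mat x y) := by
  refine ⟨?_, ?_⟩
  · rw [b1Mat_val]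
    simp only [Matrix.of_apply, Matrix.cons_val', Matrix.cons_val_zero, Matrix.cons_val_one,
      Matrix.cons_val_fin_one]
    rw [← hx]
  · rw [b1Mat_val]
    simpa using hy

omit [Fintype F] [Fintype (SpecialLinearGroup (Fin 2) F)] in
theorem b1Mat_eq_u1_mul (x : Fˣ) (y : F) :
    ((b1Mat x y : B1 F) : SpecialLinearGroup (Fin 2) F) =
      ((b1Mat x 0 : B1 F) : SpecialLinearGroup (Fin 2) F) *
        ((u1 (y / (x : F)) : B1 F) : SpecialLinearGroup (Fin 2) F) := by
  apply Matrix.SpecialLinearGroup.ext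
  intro i j
  rw [Matrix.SpecialLinearGroup.coe_mul, b1Mat_val, b1Mat_val, u1_val]
  fin_cases i <;> fin_cases j <;> simp [Matrix.mul_apply, Fin.sum_univ_two]
  field_simp

/-- The norm bound for irreducible characters: `E₀` is a set of central diagonal elements and
`T₀` a set of elements without eigenvectors. -/
theorem strong_bound (χ : SpecialLinearGroup (Fin 2) F → ℂ)
    (hχ : Cfsg.IsIrrCharacter (SpecialLinearGroup (Fin 2) F) χ) (E₀ : Finset Fˣ)
    (hE₀ : ∀ x ∈ E₀, x = x⁻¹) (T₀ : Finset (SpecialLinearGroup (Fin 2) F))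
    (hT₀ : ∀ g ∈ T₀, ∀ (c : F) (v : Fin 2 → F), v ≠ 0 →
      (g : Matrix (Fin 2) (Fin 2) F).mulVec v ≠ c • v) :
    (E₀.card : ℝ) * (‖χ 1‖ ^ 2 + ((Fintype.card F : ℝ) + 1) *
      ∑ x ∈ Finset.univ.erase (0 : F),
        ‖χ ((u1 x : B1 F) : SpecialLinearGroup (Fin 2) F)‖ ^ 2) +
      ∑ g ∈ T₀, ‖χ g‖ ^ 2 ≤
      (Fintype.card F : ℝ) * ((Fintype.card F : ℝ) ^ 2 - 1) := by
  have : Fintype (B1 F) := Fintype.ofFinite _
  have hcf := Cfsg.Agent.Lib.Helper3_CharBridge.isClassFunction_of_isIrrCharacter hχ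
  -- central elements
  have hcen : ∀ x ∈ E₀, ((b1Mat x 0 : B1 F) : SpecialLinearGroup (Fin 2) F) ∈
      Submonoid.center (SpecialLinearGroup (Fin 2) F) := by
    intro x hx
    rw [Submonoid.mem_center_iff]
    intro y
    exact b1Mat_central x (hE₀ x hx) y
  set zmap : Fˣ → SpecialLinearGroup (Fin 2) F :=
    fun x => ((b1Mat x 0 : B1 F) : SpecialLinearGroup (Fin 2) F) with hzmap
  have hzinj : Function.Injective zmap := by
    intro x y hxy
    have h := congrArg (fun m : SpecialLinearGroup (Fin 2) F =>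
      (m : Matrix (Fin 2) (Fin 2) F) 0 0) hxy
    simp only [hzmap, b1Mat_val, Matrix.of_apply, Matrix.cons_val', Matrix.cons_val_zero,
      Matrix.cons_val_fin_one] at h
    exact Units.ext h
  set T : Finset (SpecialLinearGroup (Fin 2) F) := E₀.image zmap ∪ T₀ with hTdef
  have hdisj : Disjoint (E₀.image zmap) T₀ := by
    rw [Finset.disjoint_left]
    intro g hg hg0
    obtain ⟨x, hx, rfl⟩ := Finset.mem_image.1 hg
    -- a central diagonal element has an eigenvector
    refine hT₀ _ hg0 (x : F) ![1, 0] (by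
      intro h
      have := congrFun h 0
      simp at this) ?_
    simp only [hzmap, b1Mat_val]
    funext i
    fin_cases i <;> simp [Matrix.mulVec, dotProduct, Fin.sum_univ_two]
  have hT : ∀ g ∈ T, Phi g = 0 := by
    intro g hg
    rcases Finset.mem_union.1 hg with h | h
    · obtain ⟨x, hx, rfl⟩ := Finset.mem_image.1 h
      apply Phi_eq_zero_of_central
      intro y
      exact b1Mat_central x (hE₀ x hx) y
    · exact Phi_eq_zero_of_no_eigenvector g (hT₀ g h)
  have hmain := strong_bound_class χ hcf T hT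
  rw [sum_norm_sq_eq_card hχ, Cfsg.Agent.S2301.card_SL2] at hmain
  -- the sum over T
  have hTsum : ∑ g ∈ T, ‖χ g‖ ^ 2 = (E₀.card : ℝ) * ‖χ 1‖ ^ 2 + ∑ g ∈ T₀, ‖χ g‖ ^ 2 := by
    rw [hTdef, Finset.sum_union hdisj, Finset.sum_image (fun x _ y _ h => hzinj h)]
    congr 1
    have : ∀ x ∈ E₀, ‖χ (zmap x)‖ ^ 2 = ‖χ 1‖ ^ 2 := by
      intro x hx
      have := norm_mul_central hχ _ (hcen x hx) 1
      rw [one_mul] at this
      rw [this]
    rw [Finset.sum_congr rfl this, Finset.sum_const, nsmul_eq_mul]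
  -- the sum over the elements of P
  have hPsum : (E₀.card : ℝ) * ∑ x ∈ Finset.univ.erase (0 : F),
      ‖χ ((u1 x : B1 F) : SpecialLinearGroup (Fin 2) F)‖ ^ 2 ≤
      ∑ b : B1 F, (if IsP b then ‖χ (b : SpecialLinearGroup (Fin 2) F)‖ ^ 2 else 0) := by
    have e1 : ∑ b : B1 F, (if IsP b then ‖χ (b : SpecialLinearGroup (Fin 2) F)‖ ^ 2 else 0) =
        ∑ p : Fˣ × F, (if IsP (b1Mat p.1 p.2) then
          ‖χ ((b1Mat p.1 p.2 : B1 F) : SpecialLinearGroup (Fin 2) F)‖ ^ 2 else 0) := by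
      apply Fintype.sum_equiv B1Equiv
      intro b
      have hb : b1Mat (B1Equiv b).1 (B1Equiv b).2 = b := B1Equiv.left_inv b
      rw [hb]
    rw [e1]
    have e2 : (E₀.card : ℝ) * ∑ x ∈ Finset.univ.erase (0 : F),
        ‖χ ((u1 x : B1 F) : SpecialLinearGroup (Fin 2) F)‖ ^ 2 =
        ∑ p ∈ E₀ ×ˢ Finset.univ.erase (0 : F), (if IsP (b1Mat p.1 p.2) then
          ‖χ ((b1Mat p.1 p.2 : B1 F) : SpecialLinearGroup (Fin 2) F)‖ ^ 2 else 0) := by
      rw [Finset.sum_product]
      have : ∀ x ∈ E₀, ∑ y ∈ Finset.univ.erase (0 : F), (if IsP (b1Mat x y) then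
          ‖χ ((b1Mat x y : B1 F) : SpecialLinearGroup (Fin 2) F)‖ ^ 2 else 0) =
          ∑ y ∈ Finset.univ.erase (0 : F),
            ‖χ ((u1 y : B1 F) : SpecialLinearGroup (Fin 2) F)‖ ^ 2 := by
        intro x hx
        have h1 : ∀ y ∈ Finset.univ.erase (0 : F), (if IsP (b1Mat x y) then
            ‖χ ((b1Mat x y : B1 F) : SpecialLinearGroup (Fin 2) F)‖ ^ 2 else 0) =
            ‖χ ((u1 (y / (x : F)) : B1 F) : SpecialLinearGroup (Fin 2) F)‖ ^ 2 := by
          intro y hy
          rw [if_pos (isP_b1Mat x (hE₀ x hx) y (Finset.ne_of_mem_erase hy)), b1Mat_eq_u1_mul,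
            ← (Submonoid.mem_center_iff.1 (hcen x hx)) _, norm_mul_central hχ _ (hcen x hx)]
        rw [Finset.sum_congr rfl h1]
        apply Finset.sum_bij (fun y _ => y / (x : F))
        · intro y hy
          rw [Finset.mem_erase] at hy ⊢
          exact ⟨div_ne_zero hy.1 x.ne_zero, Finset.mem_univ _⟩
        · intro y₁ _ y₂ _ h
          exact (div_left_inj' x.ne_zero).1 h
        · intro z hz
          refine ⟨z * (x : F), ?_, ?_⟩
          · rw [Finset.mem_erase] at hz ⊢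
            exact ⟨mul_ne_zero hz.1 x.ne_zero, Finset.mem_univ _⟩
          · field_simp
        · intro y _
          rfl
      rw [Finset.sum_congr rfl this, Finset.sum_const, nsmul_eq_mul]
    rw [e2]
    apply Finset.sum_le_sum_of_subset_of_nonneg (Finset.subset_univ _)
    intro p _ _
    split_ifs
    · positivity
    · exact le_refl _
  have hq1 : (0 : ℝ) ≤ (Fintype.card F : ℝ) + 1 := by positivity
  have hcard : ((Fintype.card F * (Fintype.card F ^ 2 - 1) : ℕ) : ℝ) =
      (Fintype.card F : ℝ) * ((Fintype.card F : ℝ) ^ 2 - 1) := by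
    have h1 : 1 ≤ Fintype.card F ^ 2 := Nat.one_le_pow _ _ Fintype.card_pos
    push_cast [Nat.cast_sub h1]
    ring
  rw [hTsum, hcard] at hmain
  nlinarith [mul_le_mul_of_nonneg_left hPsum hq1]

end bound

end Cfsg.Agent.Lib.Helper39_SL2Bound
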