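import Mathlib
import Cfsg.Prelude.Def_Characters
import Cfsg.Prelude.Def_ParabolicCharacters
import Cfsg.Agent.Lib.Helper39_SL2Ind
import Cfsg.Agent.Lib.Helper39_Clifford
import Cfsg.Agent.Lib.Helper5_SLGen

/-!
# The two halves of the reducible principal series of `SL₂(F)`, `q` odd (helper39)
-/

set_option autoImplicit false

namespace Cfsg.Agent.Lib.Helper39_SL2Half

open scoped ComplexConjugate
open Matrix Cfsg.Agent.Lib.Helper39_GL2Char Cfsg.Agent.Lib.Helper39_CharTools
  Cfsg.Agent.Lib.Helper39_GL2Borel Cfsg.Agent.Lib.Helper39_IndTools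
  Cfsg.Agent.Lib.Helper39_SL2Borel Cfsg.Agent.Lib.Helper39_SL2Ind
open Cfsg.Agent.Lib.Helper38_SL2 (mk2 mk2_eq_iff mk2_mul)
open Cfsg.Agent.Lib.Helper75_Induced (extendByZero_of_mem extendByZero_of_not_mem frobenius_reciprocity indFun_apply)

section generic

variable {G : Type*} [Group G] [Fintype G]

/-- A character of norm two is the sum of two different irreducible characters. -/
theorem exists_two_irr {θ : G → ℂ} (hθ : Cfsg.IsCharacter G θ) (h : Cfsg.classInner θ θ = 2) :
    ∃ χ₁ χ₂ : G → ℂ, Cfsg.IsIrrCharacter G χ₁ ∧ Cfsg.IsIrrCharacter G χ₂ ∧ χ₁ ≠ χ₂ ∧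
      θ = χ₁ + χ₂ := by
  classical
  obtain ⟨m, hm, hdec⟩ := char_eq_sum_nat hθ
  have hfun : θ = ∑ φ : Cfsg.IrrCharacter G, (m φ : ℂ) • (φ : G → ℂ) := by
    funext g
    rw [hdec g]
    simp [Finset.sum_apply]
  have hsq : ∑ φ : Cfsg.IrrCharacter G, m φ * m φ = 2 := by
    have h2 : Cfsg.classInner θ θ = ∑ φ : Cfsg.IrrCharacter G, (m φ : ℂ) * (m φ : ℂ) := by
      conv_lhs => rw [hfun]
      rw [Cfsg.Agent.Lib.Helper3_CharOrtho.classInner_sum_left]
      refine Finset.sum_congr rfl (fun φ _ => ?_)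
      rw [Cfsg.Agent.Lib.Helper3_CharOrtho.classInner_smul_left, ← hfun,
        ← Cfsg.Agent.Lib.Helper3_CharOrtho.classInner_conj_symm, hm φ]
      simp
    rw [h2] at h
    exact_mod_cast h
  obtain ⟨φ₁, -, hφ₁⟩ := Finset.exists_ne_zero_of_sum_ne_zero (by rw [hsq]; norm_num :
    ∑ φ ∈ Finset.univ, m φ * m φ ≠ 0)
  have hsplit := Finset.add_sum_erase Finset.univ (fun φ => m φ * m φ) (Finset.mem_univ φ₁)
  rw [hsq] at hsplit
  have hm1 : m φ₁ = 1 := by
    have h1 : 1 ≤ m φ₁ := Nat.one_le_iff_ne_zero.2 (fun h0 => hφ₁ (by simp [h0]))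
    have h2 : m φ₁ * m φ₁ ≤ 2 := by omega
    by_contra hne
    have : 2 ≤ m φ₁ := by omega
    nlinarith
  rw [hm1] at hsplit
  have hrest : ∑ x ∈ Finset.univ.erase φ₁, m x * m x = 1 := by omega
  obtain ⟨φ₂, hφ₂mem, hφ₂⟩ := Finset.exists_ne_zero_of_sum_ne_zero (by rw [hrest]; norm_num :
    ∑ φ ∈ Finset.univ.erase φ₁, m φ * m φ ≠ 0)
  have hsplit2 := Finset.add_sum_erase (Finset.univ.erase φ₁) (fun φ => m φ * m φ) hφ₂mem
  rw [hrest] at hsplit2
  have hm2 : m φ₂ = 1 := by
    have h1 : 1 ≤ m φ₂ * m φ₂ := Nat.one_le_iff_ne_zero.2 hφ₂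
    have h2 : m φ₂ * m φ₂ = 1 := by omega
    exact Nat.eq_one_of_mul_eq_one_right h2
  have hrest2 : ∀ φ, φ ≠ φ₁ → φ ≠ φ₂ → m φ = 0 := by
    intro φ h1 h2
    have hz : ∑ x ∈ (Finset.univ.erase φ₁).erase φ₂, m x * m x = 0 := by
      rw [hm2] at hsplit2; omega
    have := (Finset.sum_eq_zero_iff.1 hz) φ
      (Finset.mem_erase.2 ⟨h2, Finset.mem_erase.2 ⟨h1, Finset.mem_univ φ⟩⟩)
    exact mul_self_eq_zero.1 this
  have hne : φ₂ ≠ φ₁ := Finset.ne_of_mem_erase hφ₂mem
  refine ⟨(φ₁ : G → ℂ), (φ₂ : G → ℂ), φ₁.2, φ₂.2, fun h => hne (Subtype.ext h.symm), ?_⟩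
  funext g
  rw [hdec g, ← Finset.add_sum_erase Finset.univ _ (Finset.mem_univ φ₁),
    ← Finset.add_sum_erase (Finset.univ.erase φ₁) _ hφ₂mem, Finset.sum_eq_zero, hm1, hm2]
  · simp
  · intro φ hφ
    have h2 := Finset.ne_of_mem_erase hφ
    have h1 := Finset.ne_of_mem_erase (Finset.mem_of_mem_erase hφ)
    rw [hrest2 φ h1 h2]
    simp

/-- Composing an irreducible character with an automorphism gives an irreducible character. -/
theorem isIrrCharacter_comp_equiv (σ : G ≃* G) {χ : G → ℂ} (hχ : Cfsg.IsIrrCharacter G χ) :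
    Cfsg.IsIrrCharacter G (fun g => χ (σ g)) := by
  apply isIrrCharacter_of_classInner_self
  · exact Cfsg.Agent.Lib.Helper75_CharArith.isCharacter_comp σ.toMonoidHom
      (Cfsg.Agent.Lib.Helper3_CharBridge.isCharacter_of_isIrrCharacter hχ)
  · rw [← Cfsg.Agent.Lib.Helper3_CharOrtho.classInner_self_of_isIrrCharacter hχ]
    unfold Cfsg.classInner
    congr 1
    exact Fintype.sum_equiv σ.toEquiv _ _ (fun g => rfl)

/-- Induced functions are invariant under automorphisms preserving the inducing data. -/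
theorem indFun_comp_equiv (σ : G ≃* G) (H : Subgroup G) (μ : H → ℂ)
    (hσ : ∀ k : G, Cfsg.extendByZero H μ (σ k) = Cfsg.extendByZero H μ k) (g : G) :
    Cfsg.indFun H μ (σ g) = Cfsg.indFun H μ g := by
  rw [indFun_apply, indFun_apply]
  congr 1
  symm
  apply Fintype.sum_equiv σ.toEquiv
  intro y
  rw [← hσ (y⁻¹ * g * y)]
  simp

end generic

section sl2

variable {F : Type*} [Field F]

/-- The diagonal automorphism of `SL₂(F)`: conjugation by `diag(e, 1)`. -/
noncomputable def sig (e : Fˣ) : SpecialLinearGroup (Fin 2) F ≃* SpecialLinearGroup (Fin 2) F where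
  toFun g := mk2 (g 0 0) ((e : F) * g 0 1) (((e⁻¹ : Fˣ) : F) * g 1 0) (g 1 1) (by
    have := g.det_coe
    rw [Matrix.det_fin_two] at this
    have he : (e : F) * ((e⁻¹ : Fˣ) : F) = 1 := by simp
    linear_combination this - (g 0 1 * g 1 0) * he)
  invFun g := mk2 (g 0 0) (((e⁻¹ : Fˣ) : F) * g 0 1) ((e : F) * g 1 0) (g 1 1) (by
    have := g.det_coe
    rw [Matrix.det_fin_two] at this
    have he : (e : F) * ((e⁻¹ : Fˣ) : F) = 1 := by simp
    linear_combination this - (g 0 1 * g 1 0) * he)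
  left_inv g := by
    apply Matrix.SpecialLinearGroup.ext
    intro i j
    fin_cases i <;> fin_cases j <;> simp
  right_inv g := by
    apply Matrix.SpecialLinearGroup.ext
    intro i j
    fin_cases i <;> fin_cases j <;> simp
  map_mul' g h := by
    rw [mk2_mul, mk2_eq_iff]
    have he : (e : F) * ((e⁻¹ : Fˣ) : F) = 1 := by simp
    refine ⟨?_, ?_, ?_, ?_⟩ <;>
      simp only [Matrix.SpecialLinearGroup.coe_mul, Matrix.mul_apply, Fin.sum_univ_two]
    · linear_combination (-(g 0 1 * h 1 0)) * he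
    · ring
    · ring
    · linear_combination (-(g 1 0 * h 0 1)) * he

theorem sig_val (e : Fˣ) (g : SpecialLinearGroup (Fin 2) F) :
    ((sig e g : SpecialLinearGroup (Fin 2) F) : Matrix (Fin 2) (Fin 2) F) =
      !![g 0 0, (e : F) * g 0 1; ((e⁻¹ : Fˣ) : F) * g 1 0, g 1 1] := rfl

/-- The diagonal matrix `diag(e, 1)`. -/
noncomputable def dGL (e : Fˣ) : GL (Fin 2) F :=
  Matrix.GeneralLinearGroup.mkOfDetNeZero !![(e : F), 0; 0, 1] (by simp [Matrix.det_fin_two])

theorem dGL_val (e : Fˣ) : ((dGL e : GL (Fin 2) F) : Matrix (Fin 2) (Fin 2) F) =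
    !![(e : F), 0; 0, 1] := rfl

theorem toGL_sig (e : Fˣ) (g : SpecialLinearGroup (Fin 2) F) :
    SpecialLinearGroup.toGL (sig e g) = dGL e * SpecialLinearGroup.toGL g * (dGL e)⁻¹ := by
  rw [eq_mul_inv_iff_mul_eq]
  apply Units.ext
  rw [Units.val_mul, Units.val_mul, dGL_val]
  change ((sig e g : SpecialLinearGroup (Fin 2) F) : Matrix (Fin 2) (Fin 2) F) * _ =
    _ * (g : Matrix (Fin 2) (Fin 2) F)
  rw [sig_val]
  ext i j
  fin_cases i <;> fin_cases j <;> simp [Matrix.mul_apply, Fin.sum_univ_two, mul_comm]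

theorem sig_mem_B1_iff (e : Fˣ) (g : SpecialLinearGroup (Fin 2) F) :
    sig e g ∈ B1 F ↔ g ∈ B1 F := by
  rw [mem_B1_iff, mem_B1_iff, sig_val]
  simp

theorem sig_u1 (e : Fˣ) (x : F) :
    sig e ((u1 x : B1 F) : SpecialLinearGroup (Fin 2) F) =
      ((u1 ((e : F) * x) : B1 F) : SpecialLinearGroup (Fin 2) F) := by
  apply Matrix.SpecialLinearGroup.ext
  intro i j
  rw [sig_val, u1_val (F := F) ((e : F) * x), u1_val (F := F) x]
  fin_cases i <;> fin_cases j <;> simp

/-- Principal series characters are invariant under the diagonal automorphisms. -/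
theorem indFun_aFun_sig [Fintype (SpecialLinearGroup (Fin 2) F)] (e : Fˣ) (α : MulChar F ℂ)
    (g : SpecialLinearGroup (Fin 2) F) :
    Cfsg.indFun (B1 F) (aFun α) (sig e g) = Cfsg.indFun (B1 F) (aFun α) g := by
  apply indFun_comp_equiv
  intro k
  by_cases hk : k ∈ B1 F
  · rw [extendByZero_of_mem (B1 F) _ hk,
      extendByZero_of_mem (B1 F) _ ((sig_mem_B1_iff e k).2 hk)]
    simp [aFun, sig_val]
  · rw [extendByZero_of_not_mem (B1 F) _ hk,
      extendByZero_of_not_mem (B1 F) _ (fun h => hk ((sig_mem_B1_iff e k).1 h))]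

/-- Conjugation by a diagonal element scales the unipotent elements by a square. -/
theorem conj_u1 (c : Fˣ) (x : F) :
    ((b1Mat c 0 : B1 F) : SpecialLinearGroup (Fin 2) F) *
      ((u1 x : B1 F) : SpecialLinearGroup (Fin 2) F) *
      ((b1Mat c 0 : B1 F) : SpecialLinearGroup (Fin 2) F)⁻¹ =
      ((u1 ((c : F) ^ 2 * x) : B1 F) : SpecialLinearGroup (Fin 2) F) := by
  rw [mul_inv_eq_iff_eq_mul]
  apply Matrix.SpecialLinearGroup.ext
  intro i j
  rw [Matrix.SpecialLinearGroup.coe_mul, Matrix.SpecialLinearGroup.coe_mul, u1_val, u1_val,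
    b1Mat_val]
  fin_cases i <;> fin_cases j <;> simp [Matrix.mul_apply, Fin.sum_univ_two]
  field_simp

/-- A character of degree one of `SL₂(F)` which is trivial on the upper unipotent elements is
trivial. -/
theorem eq_one_of_trivial_on_u1 {χ : SpecialLinearGroup (Fin 2) F → ℂ}
    (hχ : Cfsg.IsCharacter (SpecialLinearGroup (Fin 2) F) χ) (h1 : χ 1 = 1)
    (hu : ∀ x : F, χ ((u1 x : B1 F) : SpecialLinearGroup (Fin 2) F) = 1)
    (g : SpecialLinearGroup (Fin 2) F) : χ g = 1 := by
  have hmul := Cfsg.Agent.Lib.Helper15_Linear.linear_mul χ hχ h1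
  have hcf := Cfsg.Agent.Lib.Helper3_CharBridge.isClassFunction_of_isCharacter hχ
  refine Cfsg.Agent.Lib.Helper5_SLGen.transvection_induction (fun A => χ A = 1) ?_ ?_ g
  · intro i j hij c
    fin_cases i <;> fin_cases j
    · exact absurd rfl hij
    · have : Matrix.SpecialLinearGroup.transvection hij c =
          ((u1 c : B1 F) : SpecialLinearGroup (Fin 2) F) := by
        apply Matrix.SpecialLinearGroup.ext
        intro i j
        rw [u1_val]
        change Matrix.transvection _ _ c i j = _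
        fin_cases i <;> fin_cases j <;> simp [Matrix.transvection, Matrix.single]
      rw [this]
      exact hu c
    · have : Matrix.SpecialLinearGroup.transvection hij c =
          (wS : SpecialLinearGroup (Fin 2) F)⁻¹ *
          ((u1 (-c) : B1 F) : SpecialLinearGroup (Fin 2) F) * (wS⁻¹)⁻¹ := by
        rw [inv_inv]
        apply Matrix.SpecialLinearGroup.ext
        intro i j
        rw [Matrix.SpecialLinearGroup.coe_mul, Matrix.SpecialLinearGroup.coe_mul, u1_val,
          wS_inv_val, wS_val]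
        change Matrix.transvection _ _ c i j = _
        fin_cases i <;> fin_cases j <;>
          simp [Matrix.transvection, Matrix.single, Matrix.mul_apply, Fin.sum_univ_two]
      rw [this, hcf]
      exact hu (-c)
    · exact absurd rfl hij
  · intro A B hA hB
    rw [hmul, hA, hB, mul_one]

end sl2

section main

variable {F : Type*} [Field F] [Fintype F] [Fintype (SpecialLinearGroup (Fin 2) F)]

omit [Fintype (SpecialLinearGroup (Fin 2) F)] in
/-- A class function of `SL₂(F)` invariant under the diagonal automorphism attached to a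
non-square is constant on the non-trivial upper unipotent elements. -/
theorem const_on_unipotent (e₀ : F) (he₀ : ¬ IsSquare e₀) (he₀0 : e₀ ≠ 0)
    (χ : SpecialLinearGroup (Fin 2) F → ℂ)
    (hcf : Cfsg.IsClassFunction (SpecialLinearGroup (Fin 2) F) χ)
    (hσ : ∀ g, χ (sig (Units.mk0 e₀ he₀0) g) = χ g) (x : F) (hx : x ≠ 0) :
    χ ((u1 x : B1 F) : SpecialLinearGroup (Fin 2) F) =
      χ ((u1 (1 : F) : B1 F) : SpecialLinearGroup (Fin 2) F) := by
  have hsquare : ∀ d : F, d ≠ 0 → χ ((u1 (d ^ 2 * 1) : B1 F) : SpecialLinearGroup (Fin 2) F) =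
      χ ((u1 (1 : F) : B1 F) : SpecialLinearGroup (Fin 2) F) := by
    intro d hd
    have := conj_u1 (Units.mk0 d hd) (1 : F)
    rw [Units.val_mk0] at this
    rw [← this, hcf]
  by_cases hsq : IsSquare x
  · obtain ⟨c, rfl⟩ := hsq
    have hc : c ≠ 0 := by
      rintro rfl
      simp at hx
    have := hsquare c hc
    rw [show c ^ 2 * 1 = c * c by ring] at this
    exact this
  · obtain ⟨c, hc⟩ := Cfsg.Agent.S2301.isSquare_mul_of_not x e₀ hsq he₀
    have hc0 : c ≠ 0 := by
      rintro rfl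
      rw [mul_zero] at hc
      rcases mul_eq_zero.1 hc with h | h
      · exact hx h
      · exact he₀0 h
    have hd0 : c / e₀ ≠ 0 := div_ne_zero hc0 he₀0
    have hx' : x = ((Units.mk0 e₀ he₀0 : Fˣ) : F) * ((c / e₀) ^ 2 * 1) := by
      rw [Units.val_mk0]
      field_simp
      linear_combination hc
    rw [hx', ← sig_u1, hσ]
    exact hsquare _ hd0

/-- Over a finite field of odd order, the principal series character of `SL₂(F)` attached to the
quadratic character splits into two irreducible characters of equal degree which are swapped by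
a diagonal automorphism. -/
theorem halves (hodd : Odd (Fintype.card F)) (α : MulChar F ℂ) (hα : α ^ 2 = 1) (hα1 : α ≠ 1) :
    ∃ χ₁ χ₂ : SpecialLinearGroup (Fin 2) F → ℂ,
      Cfsg.IsIrrCharacter (SpecialLinearGroup (Fin 2) F) χ₁ ∧
      Cfsg.IsIrrCharacter (SpecialLinearGroup (Fin 2) F) χ₂ ∧ χ₁ ≠ χ₂ ∧
      Cfsg.indFun (B1 F) (aFun α) = χ₁ + χ₂ ∧
      χ₁ 1 = (((Fintype.card F + 1) / 2 : ℕ) : ℂ) ∧ χ₂ 1 = (((Fintype.card F + 1) / 2 : ℕ) : ℂ) ∧
      ∃ x : GL (Fin 2) F, ∀ g h : SpecialLinearGroup (Fin 2) F,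
        SpecialLinearGroup.toGL h = x * SpecialLinearGroup.toGL g * x⁻¹ → χ₂ h = χ₁ g := by
  classical
  have : Fintype (B1 F) := Fintype.ofFinite _
  set R := Cfsg.indFun (B1 F) (aFun α) with hR
  have hRchar : Cfsg.IsCharacter (SpecialLinearGroup (Fin 2) F) R := isCharacter_indFun_aFun α
  have hαinv : α = α⁻¹ := by
    rw [sq, mul_eq_one_iff_eq_inv] at hα
    exact hα
  have hRR : Cfsg.classInner R R = 2 := by
    rw [hR, classInner_indFun_aFun, if_pos rfl, if_pos hαinv]
    norm_num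
  obtain ⟨χ₁, χ₂, h₁, h₂, hne, hsum⟩ := exists_two_irr hRchar hRR
  -- a non-square
  have hchar : ringChar F ≠ 2 := by
    intro h
    have := FiniteField.even_card_of_char_two h
    rcases hodd with ⟨k, hk⟩
    omega
  obtain ⟨e₀, he₀⟩ := FiniteField.exists_nonsquare hchar
  have he₀0 : e₀ ≠ 0 := by
    rintro rfl
    exact he₀ IsSquare.zero
  set e : Fˣ := Units.mk0 e₀ he₀0 with he
  have hRσ : ∀ g, R (sig e g) = R g := fun g => indFun_aFun_sig e α g
  have hψ₁ := isIrrCharacter_comp_equiv (sig e) h₁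
  have hψ₂ := isIrrCharacter_comp_equiv (sig e) h₂
  have hψsum : ∀ g, χ₁ (sig e g) + χ₂ (sig e g) = χ₁ g + χ₂ g := by
    intro g
    have := hRσ g
    rw [hsum] at this
    exact this
  have hψne : (fun g => χ₁ (sig e g)) ≠ (fun g => χ₂ (sig e g)) := by
    intro h
    apply hne
    funext g
    have := congrFun h ((sig e).symm g)
    simpa using this
  have hR1 : R 1 = (Fintype.card F : ℂ) + 1 := by
    have := indFun_central1 (aFun α) (1 : B1 F) (by intro x; simp)
    rw [aFun_one, mul_one] at this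
    exact this
  have hRu : R ((u1 (1 : F) : B1 F) : SpecialLinearGroup (Fin 2) F) = 1 := by
    rw [hR, indFun_unipotent1 (isClassFunction_aFun α) (u1 1), aFun_u1]
    · rw [u1_val]; simp
    · rw [u1_val]; simp
  -- the key claim: the automorphism does not fix the first constituent
  have key : (fun g => χ₁ (sig e g)) ≠ χ₁ := by
    intro hfix
    have hfix₁ : ∀ g, χ₁ (sig e g) = χ₁ g := fun g => congrFun hfix g
    have hfix₂ : ∀ g, χ₂ (sig e g) = χ₂ g := by
      intro g
      have := hψsum g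
      rw [hfix₁ g] at this
      exact add_left_cancel this
    -- the data of the two constituents
    have hdata : ∀ χ : SpecialLinearGroup (Fin 2) F → ℂ,
        Cfsg.IsIrrCharacter (SpecialLinearGroup (Fin 2) F) χ → Cfsg.classInner R χ = 1 →
        (∀ g, χ (sig e g) = χ g) →
        ∃ a b : ℕ, χ 1 - 1 = (a : ℂ) + ((Fintype.card F : ℂ) - 1) * (b : ℂ) ∧
          χ ((u1 (1 : F) : B1 F) : SpecialLinearGroup (Fin 2) F) - 1 = (a : ℂ) - (b : ℂ) ∧
          (b = 0 → a = 0 → False) := by
      intro χ hχ hin hfix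
      have hχc := Cfsg.Agent.Lib.Helper3_CharBridge.isCharacter_of_isIrrCharacter hχ
      have hχcf := Cfsg.Agent.Lib.Helper3_CharBridge.isClassFunction_of_isCharacter hχc
      have hres : Cfsg.IsCharacter (B1 F) (fun b : B1 F => χ b) :=
        Cfsg.Agent.Lib.Helper75_CharArith.isCharacter_restrict (B1 F) hχc
      have hne0 : Cfsg.classInner (fun b : B1 F => χ b) (aFun α) ≠ 0 := by
        rw [hR, frobenius_reciprocity (B1 F) (aFun α) χ hχcf,
          ← Cfsg.Agent.Lib.Helper3_CharOrtho.classInner_conj_symm] at hin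
        intro h0
        rw [h0, map_zero] at hin
        exact zero_ne_one hin
      have hξ : Cfsg.IsCharacter (B1 F) ((fun b : B1 F => χ b) - aFun α) :=
        isCharacter_sub_irr hres (isIrrCharacter_aFun α) hne0
      obtain ⟨a, b, hab1, hab2⟩ := nat_decomp_of_const_off_one (A := F)
        (fun x => ((fun b : B1 F => χ b) - aFun α) (u1Hom x))
        (Cfsg.Agent.Lib.Helper75_CharArith.isCharacter_comp u1Hom hξ)
        (χ ((u1 (1 : F) : B1 F) : SpecialLinearGroup (Fin 2) F) - 1) (by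
          intro x hx
          simp only [u1Hom_apply, Pi.sub_apply, aFun_u1]
          rw [const_on_unipotent e₀ he₀ he₀0 χ hχcf hfix]
          intro h0
          apply hx
          exact Multiplicative.toAdd.injective h0)
      refine ⟨a, b, ?_, hab2, ?_⟩
      · rw [← hab1]
        simp only [map_one, Pi.sub_apply, aFun_one]
        rfl
      · intro hb ha
        subst hb; subst ha
        have h1 : ((fun b : B1 F => χ b) - aFun α) 1 = 0 := by
          have := hab1
          simp only [map_one] at this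
          rw [this]
          simp
        have hz := eq_zero_of_isCharacter_of_one_eq_zero hξ h1
        -- the restriction is the linear character, hence trivial
        have hχB : ∀ b : B1 F, χ b = aFun α b := by
          intro b
          have := congrFun hz b
          simp only [Pi.sub_apply, Pi.zero_apply] at this
          exact sub_eq_zero.1 this
        have hχ1 : χ 1 = 1 := by
          have := hχB 1
          rw [aFun_one] at this
          exact this
        have htriv := eq_one_of_trivial_on_u1 hχc hχ1 (fun x => by rw [hχB, aFun_u1])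
        apply hα1
        apply MulChar.ext
        intro c
        have := hχB (b1Mat c 0)
        rw [htriv, aFun_b1Mat] at this
        rw [← this, MulChar.one_apply_coe]
    have hin₁ : Cfsg.classInner R χ₁ = 1 := by
      rw [hsum, Cfsg.Agent.Lib.Helper3_CharOrtho.classInner_add_left,
        Cfsg.Agent.Lib.Helper3_CharOrtho.classInner_self_of_isIrrCharacter h₁,
        Cfsg.Agent.Lib.Helper3_CharOrtho.classInner_of_isIrrCharacter_of_ne h₂ h₁ (Ne.symm hne),
        add_zero]
    have hin₂ : Cfsg.classInner R χ₂ = 1 := by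
      rw [hsum, Cfsg.Agent.Lib.Helper3_CharOrtho.classInner_add_left,
        Cfsg.Agent.Lib.Helper3_CharOrtho.classInner_self_of_isIrrCharacter h₂,
        Cfsg.Agent.Lib.Helper3_CharOrtho.classInner_of_isIrrCharacter_of_ne h₁ h₂ hne,
        zero_add]
    obtain ⟨a₁, b₁, e11, e12, e13⟩ := hdata χ₁ h₁ hin₁ hfix₁
    obtain ⟨a₂, b₂, e21, e22, e23⟩ := hdata χ₂ h₂ hin₂ hfix₂
    have s1 : χ₁ 1 + χ₂ 1 = (Fintype.card F : ℂ) + 1 := by
      rw [← hR1, hsum]; rfl
    have s2 : χ₁ ((u1 (1 : F) : B1 F) : SpecialLinearGroup (Fin 2) F) +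
        χ₂ ((u1 (1 : F) : B1 F) : SpecialLinearGroup (Fin 2) F) = 1 := by
      rw [← hRu, hsum]; rfl
    have hq0 : (Fintype.card F : ℂ) ≠ 0 := by
      exact_mod_cast (Fintype.card_pos (α := F)).ne'
    have hb : ((b₁ + b₂ : ℕ) : ℂ) = 1 := by
      have : (Fintype.card F : ℂ) * ((b₁ + b₂ : ℕ) : ℂ) = (Fintype.card F : ℂ) * 1 := by
        push_cast
        linear_combination -e11 - e21 + e12 + e22 + s1 - s2
      exact mul_left_cancel₀ hq0 this
    have ha : ((a₁ + a₂ : ℕ) : ℂ) = 0 := by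
      push_cast
      push_cast at hb
      linear_combination -e12 - e22 + s2 + hb
    have hb' : b₁ + b₂ = 1 := by exact_mod_cast hb
    have ha' : a₁ + a₂ = 0 := by exact_mod_cast ha
    rcases Nat.eq_zero_or_pos b₁ with hb1 | hb1
    · exact e13 hb1 (by omega)
    · exact e23 (by omega) (by omega)
  -- the automorphism swaps the two constituents
  have hψ₁χ₂ : (fun g => χ₁ (sig e g)) = χ₂ := by
    by_contra hne2
    have e1 := Cfsg.Agent.Lib.Helper3_CharOrtho.classInner_of_isIrrCharacter_of_ne hψ₁ h₁ key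
    have e2 := Cfsg.Agent.Lib.Helper3_CharOrtho.classInner_of_isIrrCharacter_of_ne hψ₁ h₂ hne2
    have e3 : Cfsg.classInner (fun g => χ₁ (sig e g)) (χ₁ + χ₂) = 0 := by
      rw [Cfsg.Agent.Lib.Helper3_CharOrtho.classInner_add_right, e1, e2, add_zero]
    have e4 : χ₁ + χ₂ = (fun g => χ₁ (sig e g)) + (fun g => χ₂ (sig e g)) := by
      funext g
      exact (hψsum g).symm
    rw [e4, Cfsg.Agent.Lib.Helper3_CharOrtho.classInner_add_right,
      Cfsg.Agent.Lib.Helper3_CharOrtho.classInner_self_of_isIrrCharacter hψ₁,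
      Cfsg.Agent.Lib.Helper3_CharOrtho.classInner_of_isIrrCharacter_of_ne hψ₁ hψ₂ hψne] at e3
    norm_num at e3
  have hψ₂χ₁ : ∀ g, χ₂ (sig e g) = χ₁ g := by
    intro g
    have := hψsum g
    rw [congrFun hψ₁χ₂ g] at this
    linear_combination this
  have hdeg : χ₂ 1 = χ₁ 1 := by
    have := congrFun hψ₁χ₂ 1
    simp only [map_one] at this
    exact this.symm
  have hχ1 : χ₁ 1 = (((Fintype.card F + 1) / 2 : ℕ) : ℂ) := by
    have s1 : χ₁ 1 + χ₂ 1 = (Fintype.card F : ℂ) + 1 := by
      rw [← hR1, hsum]; rfl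
    rw [hdeg] at s1
    obtain ⟨k, hk⟩ := hodd
    have h2 : (Fintype.card F + 1) / 2 = k + 1 := by omega
    rw [h2]
    rw [hk] at s1
    push_cast at s1 ⊢
    linear_combination s1 / 2
  refine ⟨χ₁, χ₂, h₁, h₂, hne, hsum, hχ1, by rw [hdeg]; exact hχ1, dGL e, ?_⟩
  intro g h hgh
  have : h = sig e g := by
    apply Matrix.SpecialLinearGroup.toGL_injective
    rw [hgh, toGL_sig]
  rw [this]
  exact hψ₂χ₁ g

end main

end Cfsg.Agent.Lib.Helper39_SL2Half
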