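import Mathlib
import Cfsg.Prelude.Def_Characters
import Cfsg.Prelude.Def_ParabolicCharacters
import Cfsg.Agent.Lib.Helper39_SL2Half
import Cfsg.Agent.Lib.Helper39_AddFourier

/-!
# Restriction of characters of `SL₂(F)` to the unipotent subgroup (helper39)
-/

set_option autoImplicit false

namespace Cfsg.Agent.Lib.Helper39_SL2Data

open scoped ComplexConjugate
open Matrix Cfsg.Agent.Lib.Helper39_GL2Char Cfsg.Agent.Lib.Helper39_CharTools
  Cfsg.Agent.Lib.Helper39_SL2Borel Cfsg.Agent.Lib.Helper39_SL2Ind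
  Cfsg.Agent.Lib.Helper39_SL2Half Cfsg.Agent.Lib.Helper39_AddFourier

variable {F : Type*} [Field F] [Fintype F]

/-- Summing a function of the square class over the non-zero elements. -/
theorem sum_square_classes {K : Type*} [Field K] [CharZero K] [DecidableEq F]
    [DecidablePred (IsSquare : F → Prop)] (hF : ringChar F ≠ 2) (p₁ p₂ : K) :
    ∑ c : F, (if c = 0 then (0 : K) else if IsSquare c then p₁ else p₂) =
      ((Fintype.card F : K) - 1) * (p₁ + p₂) / 2 := by
  have hterm : ∀ c : F, (if c = 0 then (0 : K) else if IsSquare c then p₁ else p₂) =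
      (if c = 0 then (0 : K) else (p₁ + p₂) / 2) +
        ((quadraticChar F c : ℤ) : K) * ((p₁ - p₂) / 2) := by
    intro c
    by_cases hc : c = 0
    · subst hc
      simp
    · rw [if_neg hc, if_neg hc]
      by_cases hsq : IsSquare c
      · rw [if_pos hsq, (quadraticChar_one_iff_isSquare hc).2 hsq]
        push_cast
        ring
      · rw [if_neg hsq, quadraticChar_neg_one_iff_not_isSquare.2 hsq]
        push_cast
        ring
  simp_rw [hterm]
  rw [Finset.sum_add_distrib, ← Finset.sum_mul, ← Int.cast_sum, quadraticChar_sum_zero hF,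
    Int.cast_zero, zero_mul, add_zero]
  have : ∑ c : F, (if c = 0 then (0 : K) else (p₁ + p₂) / 2) =
      ∑ c : F, ((p₁ + p₂) / 2 - if c = 0 then (p₁ + p₂) / 2 else 0) := by
    refine Finset.sum_congr rfl (fun c _ => ?_)
    split_ifs <;> ring
  rw [this, Finset.sum_sub_distrib, Finset.sum_const, Finset.card_univ, Finset.sum_ite_eq']
  simp only [Finset.mem_univ, if_true, nsmul_eq_mul]
  ring

/-- The restriction of a character of `SL₂(F)` to the upper unipotent subgroup, `q` odd. -/
theorem data_odd (hodd : Odd (Fintype.card F)) (χ : SpecialLinearGroup (Fin 2) F → ℂ)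
    (hχ : Cfsg.IsCharacter (SpecialLinearGroup (Fin 2) F) χ) :
    ∃ a b₁ b₂ : ℕ,
      χ 1 = (a : ℂ) + ((Fintype.card F : ℂ) - 1) * ((b₁ : ℂ) + (b₂ : ℂ)) / 2 ∧
      ∑ x : F, χ ((u1 x : B1 F) : SpecialLinearGroup (Fin 2) F) = (Fintype.card F : ℂ) * (a : ℂ) ∧
      ∑ x : F, ‖χ ((u1 x : B1 F) : SpecialLinearGroup (Fin 2) F)‖ ^ 2 =
        (Fintype.card F : ℝ) * ((a : ℝ) ^ 2 +
          ((Fintype.card F : ℝ) - 1) * ((b₁ : ℝ) ^ 2 + (b₂ : ℝ) ^ 2) / 2) ∧
      (b₁ = b₂ → ∀ x : F, x ≠ 0 →
        χ ((u1 x : B1 F) : SpecialLinearGroup (Fin 2) F) = (a : ℂ) - (b₁ : ℂ)) := by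
  classical
  have hcf := Cfsg.Agent.Lib.Helper3_CharBridge.isClassFunction_of_isCharacter hχ
  have hchar : ringChar F ≠ 2 := by
    intro h
    have := FiniteField.even_card_of_char_two h
    rcases hodd with ⟨k, hk⟩
    omega
  obtain ⟨e, he⟩ := FiniteField.exists_nonsquare hchar
  have he0 : e ≠ 0 := by
    rintro rfl
    exact he IsSquare.zero
  -- the character of the additive group
  set f : Multiplicative F → ℂ :=
    fun x => χ ((u1Hom x : B1 F) : SpecialLinearGroup (Fin 2) F) with hf_def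
  have hf : Cfsg.IsCharacter (Multiplicative F) f :=
    Cfsg.Agent.Lib.Helper75_CharArith.isCharacter_comp ((B1 F).subtype.comp u1Hom) hχ
  have hfx : ∀ x : F, f (Multiplicative.ofAdd x) =
      χ ((u1 x : B1 F) : SpecialLinearGroup (Fin 2) F) := fun x => rfl
  -- a non-trivial additive character
  obtain ⟨ψ, hψ1⟩ := (AddChar.exists_apply_ne_zero (a := (1 : F))).2 one_ne_zero
  have hψ : ψ ≠ 1 := by
    rintro rfl
    exact hψ1 (by simp)
  have hprim : ψ.IsPrimitive := AddChar.IsPrimitive.of_ne_one hψ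
  -- invariance
  have hinv : ∀ d : F, d ≠ 0 → ∀ c : F, mult f hf ψ (c * d ^ 2) = mult f hf ψ c := by
    intro d hd c
    apply mult_scale f hf ψ (d ^ 2) (pow_ne_zero 2 hd)
    intro x
    rw [hfx, hfx]
    have := conj_u1 (Units.mk0 d hd) x
    rw [Units.val_mk0] at this
    rw [← this, hcf]
  set a := mult f hf ψ 0 with ha
  set b₁ := mult f hf ψ 1 with hb₁
  set b₂ := mult f hf ψ e with hb₂
  have hm : ∀ c : F, c ≠ 0 → mult f hf ψ c = if IsSquare c then b₁ else b₂ := by
    intro c hc
    split_ifs with hsq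
    · obtain ⟨d, rfl⟩ := hsq
      have hd : d ≠ 0 := by
        rintro rfl
        simp at hc
      have := hinv d hd 1
      rw [one_mul, sq] at this
      exact this
    · obtain ⟨d, hd⟩ := Cfsg.Agent.S2301.isSquare_mul_of_not c e hsq he
      have hd0 : d ≠ 0 := by
        rintro rfl
        rw [mul_zero] at hd
        rcases mul_eq_zero.1 hd with h | h
        · exact hc h
        · exact he0 h
      have hc' : c = e * (d / e) ^ 2 := by
        field_simp
        linear_combination hd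
      rw [hc']
      exact hinv (d / e) (div_ne_zero hd0 he0) e
  have hmC : ∀ c : F, (mult f hf ψ c : ℂ) =
      (if c = 0 then (a : ℂ) else 0) +
        (if c = 0 then (0 : ℂ) else if IsSquare c then (b₁ : ℂ) else (b₂ : ℂ)) := by
    intro c
    by_cases hc : c = 0
    · subst hc
      simp [ha]
    · rw [if_neg hc, if_neg hc, hm c hc]
      split_ifs <;> simp
  refine ⟨a, b₁, b₂, ?_, ?_, ?_, ?_⟩
  · have h1 := apply_zero f hf ψ hψ
    have h2 : f 1 = χ 1 := by
      rw [hf_def]
      simp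
    rw [← h2, h1]
    simp_rw [hmC]
    rw [Finset.sum_add_distrib, Finset.sum_ite_eq', sum_square_classes hchar]
    simp
  · have h1 := sum_mul_conj f hf ψ 0
    simp only [zero_mul, AddChar.map_zero_eq_one, map_one, mul_one] at h1
    exact h1
  · have h1 := parseval f hf ψ hψ
    have h2 : ∑ x : F, ‖f (Multiplicative.ofAdd x)‖ ^ 2 =
        ∑ x : F, ‖χ ((u1 x : B1 F) : SpecialLinearGroup (Fin 2) F)‖ ^ 2 := rfl
    rw [← h2, h1]
    congr 1
    have hmR : ∀ c : F, (mult f hf ψ c : ℝ) ^ 2 =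
        (if c = 0 then (a : ℝ) ^ 2 else 0) +
          (if c = 0 then (0 : ℝ) else if IsSquare c then (b₁ : ℝ) ^ 2 else (b₂ : ℝ) ^ 2) := by
      intro c
      by_cases hc : c = 0
      · subst hc
        simp [ha]
      · rw [if_neg hc, if_neg hc, hm c hc]
        split_ifs <;> simp
    simp_rw [hmR]
    rw [Finset.sum_add_distrib, Finset.sum_ite_eq', sum_square_classes hchar]
    simp
  · intro hb x hx
    rw [← hfx, inversion f hf ψ hψ x]
    have hmC' : ∀ c : F, (mult f hf ψ c : ℂ) * ψ (c * x) =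
        (if c = 0 then (a : ℂ) - (b₁ : ℂ) else 0) + (b₁ : ℂ) * ψ (c * x) := by
      intro c
      by_cases hc : c = 0
      · subst hc
        simp [ha]
      · rw [if_neg hc, hm c hc, ← hb]
        simp
    simp_rw [hmC']
    rw [Finset.sum_add_distrib, Finset.sum_ite_eq', ← Finset.mul_sum,
      AddChar.sum_mulShift x hprim, if_neg hx]
    simp

/-- The restriction of a character of `SL₂(F)` to the upper unipotent subgroup, `q` even. -/
theorem data_even (heven : ringChar F = 2) (χ : SpecialLinearGroup (Fin 2) F → ℂ)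
    (hχ : Cfsg.IsCharacter (SpecialLinearGroup (Fin 2) F) χ) :
    ∃ a b : ℕ,
      χ 1 = (a : ℂ) + ((Fintype.card F : ℂ) - 1) * (b : ℂ) ∧
      (∀ x : F, x ≠ 0 →
        χ ((u1 x : B1 F) : SpecialLinearGroup (Fin 2) F) = (a : ℂ) - (b : ℂ)) ∧
      ∑ x : F, χ ((u1 x : B1 F) : SpecialLinearGroup (Fin 2) F) = (Fintype.card F : ℂ) * (a : ℂ) := by
  classical
  have hcf := Cfsg.Agent.Lib.Helper3_CharBridge.isClassFunction_of_isCharacter hχ
  have hconst : ∀ x : F, x ≠ 0 → χ ((u1 x : B1 F) : SpecialLinearGroup (Fin 2) F) =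
      χ ((u1 (1 : F) : B1 F) : SpecialLinearGroup (Fin 2) F) := by
    intro x hx
    obtain ⟨d, rfl⟩ := FiniteField.isSquare_of_char_two heven x
    have hd : d ≠ 0 := by
      rintro rfl
      simp at hx
    have := conj_u1 (Units.mk0 d hd) (1 : F)
    rw [Units.val_mk0] at this
    rw [show d * d = d ^ 2 * 1 by ring, ← this, hcf]
  obtain ⟨a, b, h1, h2⟩ := nat_decomp_of_const_off_one (A := F)
    (fun x => χ ((u1Hom x : B1 F) : SpecialLinearGroup (Fin 2) F))
    (Cfsg.Agent.Lib.Helper75_CharArith.isCharacter_comp ((B1 F).subtype.comp u1Hom) hχ)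
    (χ ((u1 (1 : F) : B1 F) : SpecialLinearGroup (Fin 2) F)) (by
      intro x hx
      simp only [u1Hom_apply]
      apply hconst
      intro h0
      apply hx
      exact Multiplicative.toAdd.injective h0)
  have h1' : χ 1 = (a : ℂ) + ((Fintype.card F : ℂ) - 1) * (b : ℂ) := by
    rw [← h1]
    simp
  refine ⟨a, b, h1', fun x hx => by rw [hconst x hx, h2], ?_⟩
  rw [← Finset.add_sum_erase Finset.univ _ (Finset.mem_univ (0 : F)), u1_zero]
  have : ∑ x ∈ Finset.univ.erase (0 : F), χ ((u1 x : B1 F) : SpecialLinearGroup (Fin 2) F) =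
      ∑ _x ∈ Finset.univ.erase (0 : F), ((a : ℂ) - (b : ℂ)) := by
    refine Finset.sum_congr rfl (fun x hx => ?_)
    rw [hconst x (Finset.ne_of_mem_erase hx), h2]
  rw [this, Finset.sum_const, Finset.card_erase_of_mem (Finset.mem_univ _), Finset.card_univ,
    nsmul_eq_mul, Nat.cast_sub Fintype.card_pos]
  simp only [OneMemClass.coe_one]
  rw [h1']
  push_cast
  ring

end Cfsg.Agent.Lib.Helper39_SL2Data
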