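import Mathlib
import Cfsg.Prelude.Def_Characters
import Cfsg.Prelude.Def_ParabolicCharacters
import Cfsg.Agent.Lib.Helper39_SL2Half

/-!
# Principal series constituents of `SL₂(F)` (helper39)
-/

set_option autoImplicit false

namespace Cfsg.Agent.Lib.Helper39_SL2Series

open scoped ComplexConjugate
open Matrix Cfsg.Agent.Lib.Helper39_GL2Char Cfsg.Agent.Lib.Helper39_CharTools
  Cfsg.Agent.Lib.Helper39_GL2Borel Cfsg.Agent.Lib.Helper39_IndTools
  Cfsg.Agent.Lib.Helper39_SL2Borel Cfsg.Agent.Lib.Helper39_SL2Ind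
  Cfsg.Agent.Lib.Helper39_Clifford Cfsg.Agent.Lib.Helper39_SL2Half
open Cfsg.Agent.Lib.Helper75_Induced (frobenius_reciprocity)

variable {F : Type*} [Field F]

theorem b1Mat_one_zero : b1Mat (1 : Fˣ) (0 : F) = 1 := u1_zero

theorem b1Mat_mul_b1Mat (x y : Fˣ) : b1Mat (x * y) (0 : F) = b1Mat x 0 * b1Mat y 0 := by
  apply Subtype.ext
  apply Matrix.SpecialLinearGroup.ext
  intro i j
  rw [Subgroup.coe_mul, Matrix.SpecialLinearGroup.coe_mul, b1Mat_val, b1Mat_val, b1Mat_val]
  fin_cases i <;> fin_cases j <;> simp [Matrix.mul_apply, Fin.sum_univ_two, mul_comm]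

theorem b1Mat_eq_mul_u1 (x : Fˣ) (y : F) : b1Mat x y = b1Mat x 0 * u1 (y / (x : F)) := by
  apply Subtype.ext
  apply Matrix.SpecialLinearGroup.ext
  intro i j
  rw [Subgroup.coe_mul, Matrix.SpecialLinearGroup.coe_mul, b1Mat_val, b1Mat_val, u1_val]
  fin_cases i <;> fin_cases j <;> simp [Matrix.mul_apply, Fin.sum_univ_two]
  field_simp

/-- A linear character of the Borel subgroup which is trivial on the unipotent radical comes
from a multiplicative character. -/
theorem exists_mulChar_of_linear {μ : B1 F → ℂ} (hμ : Cfsg.IsCharacter (B1 F) μ)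
    (hμ1 : μ 1 = 1) (hμN : ∀ n : U1 F, μ n = 1) : ∃ α : MulChar F ℂ, aFun α = μ := by
  have hmul := Cfsg.Agent.Lib.Helper15_Linear.linear_mul μ hμ hμ1
  let g : Fˣ →* ℂ :=
    { toFun := fun x => μ (b1Mat x 0)
      map_one' := by rw [b1Mat_one_zero, hμ1]
      map_mul' := fun x y => by rw [b1Mat_mul_b1Mat, hmul] }
  refine ⟨MulChar.ofUnitHom g.toHomUnits, ?_⟩
  funext b
  have hb : b1Mat (B1Equiv b).1 (B1Equiv b).2 = b := B1Equiv.left_inv b
  have h00 : ((b : SpecialLinearGroup (Fin 2) F) : Matrix (Fin 2) (Fin 2) F) 0 0 =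
      (((B1Equiv b).1 : Fˣ) : F) := rfl
  rw [aFun, h00, MulChar.ofUnitHom_coe, MonoidHom.coe_toHomUnits]
  change μ (b1Mat (B1Equiv b).1 0) = μ b
  conv_rhs => rw [← hb, b1Mat_eq_mul_u1, hmul, hμN ⟨_, u1_mem_U1 _⟩, mul_one]

section series

variable [Fintype F] [Fintype (SpecialLinearGroup (Fin 2) F)]

/-- An irreducible character of `SL₂(F)` whose sum over the unipotent radical does not vanish is
a constituent of a principal series character. -/
theorem exists_series1 (χ : SpecialLinearGroup (Fin 2) F → ℂ)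
    (hχ : Cfsg.IsIrrCharacter (SpecialLinearGroup (Fin 2) F) χ)
    (hsum : ∑ x : F, χ ((u1 x : B1 F) : SpecialLinearGroup (Fin 2) F) ≠ 0) :
    ∃ α : MulChar F ℂ,
      Cfsg.IsCharacter (SpecialLinearGroup (Fin 2) F) (Cfsg.indFun (B1 F) (aFun α) - χ) ∧
      Cfsg.classInner (Cfsg.indFun (B1 F) (aFun α)) χ ≠ 0 := by
  classical
  have : Fintype (B1 F) := Fintype.ofFinite _
  have : Fintype (U1 F) := Fintype.ofFinite _
  have hχc := Cfsg.Agent.Lib.Helper3_CharBridge.isCharacter_of_isIrrCharacter hχ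
  have hχcf := Cfsg.Agent.Lib.Helper3_CharBridge.isClassFunction_of_isCharacter hχc
  have hres : Cfsg.IsCharacter (B1 F) (fun b : B1 F => χ b) :=
    Cfsg.Agent.Lib.Helper75_CharArith.isCharacter_restrict (B1 F) hχc
  have hsum' : ∑ n : U1 F, (fun b : B1 F => χ b) n ≠ 0 := by
    have : ∑ n : U1 F, (fun b : B1 F => χ b) n =
        ∑ x : F, χ ((u1 x : B1 F) : SpecialLinearGroup (Fin 2) F) :=
      (Fintype.sum_equiv U1Equiv _ _ (fun x => rfl)).symm
    rw [this]
    exact hsum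
  obtain ⟨μ, hμ, hμ1, hμN, hne⟩ :=
    exists_linear_constituent' (U1 F) commutator_mem_U1 _ hres hsum'
  obtain ⟨α, rfl⟩ := exists_mulChar_of_linear hμ hμ1 hμN
  have hne' : Cfsg.classInner (Cfsg.indFun (B1 F) (aFun α)) χ ≠ 0 := by
    rw [frobenius_reciprocity (B1 F) (aFun α) χ hχcf,
      ← Cfsg.Agent.Lib.Helper3_CharOrtho.classInner_conj_symm]
    intro h0
    apply hne
    have := congrArg conj h0
    rw [Complex.conj_conj, map_zero] at this
    exact this
  exact ⟨α, isCharacter_sub_irr (isCharacter_indFun_aFun α) hχ hne', hne'⟩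

end series

end Cfsg.Agent.Lib.Helper39_SL2Series
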