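import Mathlib
import Cfsg.Prelude.Def_Characters
import Cfsg.Prelude.Def_ParabolicCharacters
import Cfsg.Agent.Lib.Helper39_SL2Series
import Cfsg.Agent.Lib.Helper39_SL2Data
import Cfsg.Agent.Lib.Helper39_SL2Bound

/-!
# Irreducible characters of `SL₂(F)` of degree `q` (helper39)
-/

set_option autoImplicit false

namespace Cfsg.Agent.Lib.Helper39_SL2Steinberg

open scoped ComplexConjugate
open Matrix Cfsg.Agent.Lib.Helper39_GL2Char Cfsg.Agent.Lib.Helper39_CharTools
  Cfsg.Agent.Lib.Helper39_IndTools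
  Cfsg.Agent.Lib.Helper39_SL2Borel Cfsg.Agent.Lib.Helper39_SL2Ind
  Cfsg.Agent.Lib.Helper39_SL2Half Cfsg.Agent.Lib.Helper39_SL2Series
  Cfsg.Agent.Lib.Helper39_SL2Data Cfsg.Agent.Lib.Helper39_SL2Bound
open Cfsg.Agent.Lib.Helper75_Induced (frobenius_reciprocity)

variable {F : Type*} [Field F] [Fintype F]

/-- The sum over the non-zero elements. -/
theorem sum_erase_norm (χ : SpecialLinearGroup (Fin 2) F → ℂ) [DecidableEq F] :
    ∑ x ∈ Finset.univ.erase (0 : F), ‖χ ((u1 x : B1 F) : SpecialLinearGroup (Fin 2) F)‖ ^ 2 =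
      ∑ x : F, ‖χ ((u1 x : B1 F) : SpecialLinearGroup (Fin 2) F)‖ ^ 2 - ‖χ 1‖ ^ 2 := by
  rw [← Finset.add_sum_erase Finset.univ _ (Finset.mem_univ (0 : F)), u1_zero]
  simp

omit [Fintype F] in
/-- The two central elements in odd characteristic. -/
theorem card_pm_one (hF : ringChar F ≠ 2) [DecidableEq Fˣ] :
    ({1, -1} : Finset Fˣ).card = 2 := by
  rw [Finset.card_pair]
  intro h
  have := congrArg Units.val h
  simp only [Units.val_one, Units.val_neg] at this
  exact Ring.neg_one_ne_one_of_char_ne_two hF this.symm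

omit [Fintype F] in
theorem pm_one_inv [DecidableEq Fˣ] : ∀ x ∈ ({1, -1} : Finset Fˣ), x = x⁻¹ := by
  intro x hx
  simp only [Finset.mem_insert, Finset.mem_singleton] at hx
  rcases hx with rfl | rfl
  · simp
  · simp

section main

variable [Fintype (SpecialLinearGroup (Fin 2) F)]

/-- An irreducible character of degree `q` has a non-vanishing sum over the unipotent
subgroup. -/
theorem sum_ne_zero_of_degree_q (χ : SpecialLinearGroup (Fin 2) F → ℂ)
    (hχ : Cfsg.IsIrrCharacter (SpecialLinearGroup (Fin 2) F) χ)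
    (hdeg : χ 1 = (Fintype.card F : ℂ)) :
    ∑ x : F, χ ((u1 x : B1 F) : SpecialLinearGroup (Fin 2) F) ≠ 0 := by
  classical
  have hχc := Cfsg.Agent.Lib.Helper3_CharBridge.isCharacter_of_isIrrCharacter hχ
  have hq0 : (Fintype.card F : ℂ) ≠ 0 := by
    exact_mod_cast (Fintype.card_pos (α := F)).ne'
  obtain ⟨Q, hQ⟩ : ∃ Q : ℕ, Fintype.card F = Q + 1 :=
    ⟨Fintype.card F - 1, by have := Fintype.card_pos (α := F); omega⟩
  have hQ1 : 1 ≤ Q := by have := Fintype.one_lt_card (α := F); omega
  have hn1 : ‖χ 1‖ = (Fintype.card F : ℝ) := by rw [hdeg, Complex.norm_natCast]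
  by_cases hF : ringChar F = 2
  · obtain ⟨a, b, h1, h2, h3⟩ := data_even hF χ hχc
    rw [h3]
    refine mul_ne_zero hq0 ?_
    intro ha
    have ha0 : a = 0 := by exact_mod_cast ha
    subst ha0
    rw [hdeg, hQ] at h1
    have h1' : Q + 1 = Q * b := by
      have : ((Q + 1 : ℕ) : ℂ) = ((Q * b : ℕ) : ℂ) := by
        rw [h1]; push_cast; ring
      exact_mod_cast this
    have hb2 : 2 ≤ b := by
      by_contra hlt
      have : b ≤ 1 := by omega
      nlinarith
    have hQle : Q ≤ 1 := by nlinarith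
    have hQ1' : Q = 1 := by omega
    subst hQ1'
    have hb : b = 2 := by omega
    subst hb
    have hsb := strong_bound χ hχ {1} (by simp) ∅ (by simp)
    have hS : ∑ x ∈ Finset.univ.erase (0 : F),
        ‖χ ((u1 x : B1 F) : SpecialLinearGroup (Fin 2) F)‖ ^ 2 = 4 := by
      have : ∀ x ∈ Finset.univ.erase (0 : F),
          ‖χ ((u1 x : B1 F) : SpecialLinearGroup (Fin 2) F)‖ ^ 2 = 4 := by
        intro x hx
        rw [h2 x (Finset.ne_of_mem_erase hx)]
        norm_num
      rw [Finset.sum_congr rfl this, Finset.sum_const,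
        Finset.card_erase_of_mem (Finset.mem_univ _), Finset.card_univ, hQ]
      norm_num
    rw [hS, hn1, hQ] at hsb
    norm_num at hsb
  · obtain ⟨a, b₁, b₂, h1, h2, h3, -⟩ := data_odd (by
      rw [← Nat.not_even_iff_odd, Nat.even_iff]
      intro h
      exact hF (FiniteField.even_card_iff_char_two.2 h)) χ hχc
    rw [h2]
    refine mul_ne_zero hq0 ?_
    intro ha
    have ha0 : a = 0 := by exact_mod_cast ha
    subst ha0
    rw [hdeg, hQ] at h1
    have h1' : 2 * (Q + 1) = Q * (b₁ + b₂) := by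
      have : ((2 * (Q + 1) : ℕ) : ℂ) = ((Q * (b₁ + b₂) : ℕ) : ℂ) := by
        push_cast
        push_cast at h1
        linear_combination 2 * h1
      exact_mod_cast this
    have hB3 : 3 ≤ b₁ + b₂ := by
      by_contra hlt
      have : b₁ + b₂ ≤ 2 := by omega
      nlinarith
    have hQle : Q ≤ 2 := by nlinarith
    have hQ2 : Q = 2 := by
      rcases Nat.lt_or_ge Q 2 with h | h
      · exfalso
        have hQ1' : Q = 1 := by omega
        -- q = 2 is even
        apply hF
        apply FiniteField.even_card_iff_char_two.2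
        rw [hQ, hQ1']
      · omega
    subst hQ2
    have hB : b₁ + b₂ = 3 := by omega
    have hsq : 5 ≤ b₁ ^ 2 + b₂ ^ 2 := by
      have hb₁ : b₁ ≤ 3 := by omega
      have hb₂ : b₂ = 3 - b₁ := by omega
      rw [hb₂]
      interval_cases b₁ <;> norm_num
    have hsb := strong_bound χ hχ {1, -1} pm_one_inv ∅ (by simp)
    rw [card_pm_one hF, sum_erase_norm, h3, hn1, hQ] at hsb
    have hsq' : (5 : ℝ) ≤ (b₁ : ℝ) ^ 2 + (b₂ : ℝ) ^ 2 := by exact_mod_cast hsq
    norm_num at hsb
    nlinarith

/-- An irreducible character of degree `q` is the principal series character of the trivial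
character minus the trivial character. -/
theorem steinberg_eq (χ : SpecialLinearGroup (Fin 2) F → ℂ)
    (hχ : Cfsg.IsIrrCharacter (SpecialLinearGroup (Fin 2) F) χ)
    (hdeg : χ 1 = (Fintype.card F : ℂ)) :
    ∃ α : MulChar F ℂ, (∀ b : B1 F, aFun α b = 1) ∧
      ∀ g : SpecialLinearGroup (Fin 2) F, χ g = Cfsg.indFun (B1 F) (aFun α) g - 1 := by
  classical
  have : Fintype (B1 F) := Fintype.ofFinite _
  obtain ⟨α, hν, hne⟩ := exists_series1 χ hχ (sum_ne_zero_of_degree_q χ hχ hdeg)
  set R := Cfsg.indFun (B1 F) (aFun α) with hR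
  have hR1 : R 1 = (Fintype.card F : ℂ) + 1 := by
    have := indFun_central1 (aFun α) (1 : B1 F) (by intro x; simp)
    rw [aFun_one, mul_one] at this
    exact this
  have hν1 : (R - χ) 1 = 1 := by
    rw [Pi.sub_apply, hR1, hdeg]
    ring
  have hνirr := isIrrCharacter_of_isCharacter_of_one_eq_one hν hν1
  have hνcf := Cfsg.Agent.Lib.Helper3_CharBridge.isClassFunction_of_isCharacter hν
  -- the linear character is a constituent of the principal series character
  have hin : Cfsg.classInner R (R - χ) ≠ 0 := by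
    obtain ⟨ν, hνdef⟩ : ∃ ν, ν = R - χ := ⟨_, rfl⟩
    have e : R = χ + ν := by
      funext g
      simp [hνdef]
    rw [← hνdef] at hνirr ⊢
    rw [e, Cfsg.Agent.Lib.Helper3_CharOrtho.classInner_add_left,
      Cfsg.Agent.Lib.Helper3_CharOrtho.classInner_irr hχ hνirr,
      Cfsg.Agent.Lib.Helper3_CharOrtho.classInner_self_of_isIrrCharacter hνirr]
    split_ifs <;> norm_num
  rw [hR, frobenius_reciprocity (B1 F) (aFun α) _ hνcf] at hin
  have hresirr : Cfsg.IsIrrCharacter (B1 F) (fun b : B1 F => (R - χ) b) := by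
    apply isIrrCharacter_of_isCharacter_of_one_eq_one
      (Cfsg.Agent.Lib.Helper75_CharArith.isCharacter_restrict (B1 F) hν)
    simpa using hν1
  have heq : aFun α = fun b : B1 F => (R - χ) b := by
    by_contra hne2
    exact hin (Cfsg.Agent.Lib.Helper3_CharOrtho.classInner_of_isIrrCharacter_of_ne
      (isIrrCharacter_aFun α) hresirr hne2)
  have hνtriv : ∀ g, (R - χ) g = 1 := by
    apply eq_one_of_trivial_on_u1 hν hν1
    intro x
    have := congrFun heq (u1 x)
    rw [aFun_u1] at this
    exact this.symm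
  refine ⟨α, fun b => ?_, fun g => ?_⟩
  · rw [congrFun heq b]
    exact hνtriv _
  · have := hνtriv g
    rw [Pi.sub_apply] at this
    linear_combination -this

end main

end Cfsg.Agent.Lib.Helper39_SL2Steinberg
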