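import Mathlib
import Cfsg.Prelude.Def_Characters
import Cfsg.Prelude.Def_ParabolicCharacters
import Cfsg.Agent.Lib.Helper39_SL2Steinberg

/-!
# Values of irreducible characters of `SL₂(F)` at unipotent elements (helper39)
-/

set_option autoImplicit false

namespace Cfsg.Agent.Lib.Helper39_SL2Unip

open scoped ComplexConjugate
open Matrix Cfsg.Agent.Lib.Helper39_GL2Char Cfsg.Agent.Lib.Helper39_CharTools
  Cfsg.Agent.Lib.Helper39_IndTools
  Cfsg.Agent.Lib.Helper39_SL2Borel Cfsg.Agent.Lib.Helper39_SL2Ind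
  Cfsg.Agent.Lib.Helper39_SL2Half Cfsg.Agent.Lib.Helper39_SL2Series
  Cfsg.Agent.Lib.Helper39_SL2Data Cfsg.Agent.Lib.Helper39_SL2Bound
  Cfsg.Agent.Lib.Helper39_SL2Steinberg Cfsg.Agent.Lib.Helper39_AddFourier
open Cfsg.Agent.Lib.Helper75_Induced (frobenius_reciprocity)

variable {F : Type*} [Field F] [Fintype F]

/-- The sum of a character of the Borel subgroup over the unipotent radical is a natural multiple
of `q`. -/
theorem sum_u1_nat (ψ : B1 F → ℂ) (hψ : Cfsg.IsCharacter (B1 F) ψ) :
    ∃ n : ℕ, ∑ x : F, ψ (u1 x) = (Fintype.card F : ℂ) * (n : ℂ) := by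
  set f : Multiplicative F → ℂ := fun x => ψ (u1Hom x) with hf_def
  have hf : Cfsg.IsCharacter (Multiplicative F) f :=
    Cfsg.Agent.Lib.Helper75_CharArith.isCharacter_comp u1Hom hψ
  refine ⟨mult f hf 1 0, ?_⟩
  have h1 := sum_mul_conj f hf (1 : AddChar F ℂ) 0
  simp only [AddChar.one_apply, map_one, mul_one] at h1
  exact h1

section main

variable [Fintype (SpecialLinearGroup (Fin 2) F)]

omit [Fintype F] in
/-- The value of a principal series character at the unipotent elements. -/
theorem indFun_aFun_u1 (α : MulChar F ℂ) (x : F) (hx : x ≠ 0) :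
    Cfsg.indFun (B1 F) (aFun α) ((u1 x : B1 F) : SpecialLinearGroup (Fin 2) F) = 1 := by
  rw [indFun_unipotent1 (isClassFunction_aFun α) (u1 x), aFun_u1]
  · rw [u1_val]; simp
  · rw [u1_val]; simpa using hx

theorem indFun_aFun_one (α : MulChar F ℂ) :
    Cfsg.indFun (B1 F) (aFun α) 1 = (Fintype.card F : ℂ) + 1 := by
  have := indFun_central1 (aFun α) (1 : B1 F) (by intro x; simp)
  rw [aFun_one, mul_one] at this
  exact this

/-- The sum of a principal series character over the unipotent subgroup. -/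
theorem sum_indFun_aFun_u1 (α : MulChar F ℂ) :
    ∑ x : F, Cfsg.indFun (B1 F) (aFun α) ((u1 x : B1 F) : SpecialLinearGroup (Fin 2) F) =
      2 * (Fintype.card F : ℂ) := by
  classical
  rw [← Finset.add_sum_erase Finset.univ _ (Finset.mem_univ (0 : F)), u1_zero]
  have : ∑ x ∈ Finset.univ.erase (0 : F),
      Cfsg.indFun (B1 F) (aFun α) ((u1 x : B1 F) : SpecialLinearGroup (Fin 2) F) =
      ∑ _x ∈ Finset.univ.erase (0 : F), (1 : ℂ) := by
    refine Finset.sum_congr rfl (fun x hx => ?_)
    exact indFun_aFun_u1 α x (Finset.ne_of_mem_erase hx)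
  rw [this, Finset.sum_const, Finset.card_erase_of_mem (Finset.mem_univ _), Finset.card_univ,
    nsmul_eq_mul, Nat.cast_sub Fintype.card_pos]
  simp only [OneMemClass.coe_one]
  rw [indFun_aFun_one]
  push_cast
  ring

/-- A non-zero character contained in a principal series character has a non-vanishing sum over
the unipotent subgroup. -/
theorem sum_u1_of_constituent (α : MulChar F ℂ) (ν : SpecialLinearGroup (Fin 2) F → ℂ)
    (hν : Cfsg.IsCharacter (SpecialLinearGroup (Fin 2) F) ν)
    (hin : Cfsg.classInner (Cfsg.indFun (B1 F) (aFun α)) ν ≠ 0) :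
    ∃ n : ℕ, ∑ x : F, ν ((u1 x : B1 F) : SpecialLinearGroup (Fin 2) F) =
      (Fintype.card F : ℂ) * (1 + (n : ℂ)) := by
  classical
  have : Fintype (B1 F) := Fintype.ofFinite _
  have hνcf := Cfsg.Agent.Lib.Helper3_CharBridge.isClassFunction_of_isCharacter hν
  rw [frobenius_reciprocity (B1 F) (aFun α) ν hνcf,
    ← Cfsg.Agent.Lib.Helper3_CharOrtho.classInner_conj_symm] at hin
  have hne : Cfsg.classInner (fun b : B1 F => ν b) (aFun α) ≠ 0 := by
    intro h0
    apply hin
    rw [h0, map_zero]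
  have hψ := isCharacter_sub_irr
    (Cfsg.Agent.Lib.Helper75_CharArith.isCharacter_restrict (B1 F) hν) (isIrrCharacter_aFun α) hne
  obtain ⟨n, hn⟩ := sum_u1_nat _ hψ
  refine ⟨n, ?_⟩
  have : ∀ x : F, ν ((u1 x : B1 F) : SpecialLinearGroup (Fin 2) F) =
      ((fun b : B1 F => ν b) - aFun α) (u1 x) + 1 := by
    intro x
    simp only [Pi.sub_apply, aFun_u1]
    ring
  simp_rw [this]
  rw [Finset.sum_add_distrib, hn, Finset.sum_const, Finset.card_univ, nsmul_eq_mul, mul_one]
  ring

theorem odd_card_of_ne {F : Type*} [Field F] [Fintype F] (hF : ¬ ringChar F = 2) :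
    Odd (Fintype.card F) := by
  rw [← Nat.not_even_iff_odd, Nat.even_iff]
  intro h
  exact hF (FiniteField.even_card_iff_char_two.2 h)

/-- An irreducible character of degree `q + 1` takes the value `1` at the transvections. -/
theorem value_of_degree_q_add_one (hq : 4 ≤ Fintype.card F)
    (χ : SpecialLinearGroup (Fin 2) F → ℂ)
    (hχ : Cfsg.IsIrrCharacter (SpecialLinearGroup (Fin 2) F) χ)
    (hdeg : χ 1 = (Fintype.card F : ℂ) + 1) :
    χ ((u1 (1 : F) : B1 F) : SpecialLinearGroup (Fin 2) F) = 1 := by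
  classical
  have hχc := Cfsg.Agent.Lib.Helper3_CharBridge.isCharacter_of_isIrrCharacter hχ
  have hq0 : (Fintype.card F : ℂ) ≠ 0 := by
    exact_mod_cast (Fintype.card_pos (α := F)).ne'
  obtain ⟨Q, hQ⟩ : ∃ Q : ℕ, Fintype.card F = Q + 1 :=
    ⟨Fintype.card F - 1, by have := Fintype.card_pos (α := F); omega⟩
  have hQ3 : 3 ≤ Q := by omega
  have hn1 : ‖χ 1‖ = (Fintype.card F : ℝ) + 1 := by
    have : χ 1 = ((Fintype.card F + 1 : ℕ) : ℂ) := by rw [hdeg]; push_cast; ring
    rw [this, Complex.norm_natCast]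
    push_cast
    ring
  have hsum : ∑ x : F, χ ((u1 x : B1 F) : SpecialLinearGroup (Fin 2) F) ≠ 0 := by
    by_cases hF : ringChar F = 2
    · obtain ⟨a, b, h1, h2, h3⟩ := data_even hF χ hχc
      rw [h3]
      refine mul_ne_zero hq0 ?_
      intro ha
      have ha0 : a = 0 := by exact_mod_cast ha
      subst ha0
      rw [hdeg, hQ] at h1
      have h1' : Q + 2 = Q * b := by
        have : ((Q + 2 : ℕ) : ℂ) = ((Q * b : ℕ) : ℂ) := by
          push_cast
          push_cast at h1
          linear_combination h1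
        exact_mod_cast this
      have hb2 : 2 ≤ b := by
        by_contra hlt
        have : b ≤ 1 := by omega
        nlinarith
      nlinarith
    · obtain ⟨a, b₁, b₂, h1, h2, h3, -⟩ := data_odd (odd_card_of_ne hF) χ hχc
      rw [h2]
      refine mul_ne_zero hq0 ?_
      intro ha
      have ha0 : a = 0 := by exact_mod_cast ha
      subst ha0
      rw [hdeg, hQ] at h1
      have h1' : 2 * (Q + 2) = Q * (b₁ + b₂) := by
        have : ((2 * (Q + 2) : ℕ) : ℂ) = ((Q * (b₁ + b₂) : ℕ) : ℂ) := by
          push_cast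
          push_cast at h1
          linear_combination 2 * h1
        exact_mod_cast this
      have hB3 : 3 ≤ b₁ + b₂ := by
        by_contra hlt
        have : b₁ + b₂ ≤ 2 := by omega
        nlinarith
      have hQle : Q ≤ 4 := by nlinarith
      have hQ4 : Q = 4 := by
        rcases Nat.lt_or_ge Q 4 with h | h
        · exfalso
          have hQ3' : Q = 3 := by omega
          apply hF
          apply FiniteField.even_card_iff_char_two.2
          rw [hQ, hQ3']
        · omega
      subst hQ4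
      have hB : b₁ + b₂ = 3 := by omega
      have hsq : 5 ≤ b₁ ^ 2 + b₂ ^ 2 := by
        have hb₁ : b₁ ≤ 3 := by omega
        have hb₂ : b₂ = 3 - b₁ := by omega
        rw [hb₂]
        interval_cases b₁ <;> norm_num
      have hsb := strong_bound χ hχ {1, -1} pm_one_inv ∅ (by simp)
      rw [card_pm_one hF, sum_erase_norm, h3, hn1, hQ] at hsb
      have hsq' : (5 : ℝ) ≤ (b₁ : ℝ) ^ 2 + (b₂ : ℝ) ^ 2 := by exact_mod_cast hsq
      norm_num at hsb
      nlinarith
  obtain ⟨α, hν, -⟩ := exists_series1 χ hχ hsum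
  have h0 : (Cfsg.indFun (B1 F) (aFun α) - χ) 1 = 0 := by
    rw [Pi.sub_apply, indFun_aFun_one, hdeg, sub_self]
  have hz := eq_zero_of_isCharacter_of_one_eq_zero hν h0
  have := congrFun hz ((u1 (1 : F) : B1 F) : SpecialLinearGroup (Fin 2) F)
  rw [Pi.sub_apply, indFun_aFun_u1 α 1 one_ne_zero, Pi.zero_apply] at this
  linear_combination -this

/-- An irreducible character of degree `q - 1` takes the value `-1` at the transvections. -/
theorem value_of_degree_q_sub_one (hq : 4 ≤ Fintype.card F)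
    (χ : SpecialLinearGroup (Fin 2) F → ℂ)
    (hχ : Cfsg.IsIrrCharacter (SpecialLinearGroup (Fin 2) F) χ)
    (hdeg : χ 1 = (Fintype.card F : ℂ) - 1) :
    χ ((u1 (1 : F) : B1 F) : SpecialLinearGroup (Fin 2) F) = -1 := by
  classical
  have hχc := Cfsg.Agent.Lib.Helper3_CharBridge.isCharacter_of_isIrrCharacter hχ
  have hq0 : (Fintype.card F : ℂ) ≠ 0 := by
    exact_mod_cast (Fintype.card_pos (α := F)).ne'
  obtain ⟨Q, hQ⟩ : ∃ Q : ℕ, Fintype.card F = Q + 1 :=
    ⟨Fintype.card F - 1, by have := Fintype.card_pos (α := F); omega⟩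
  have hQ3 : 3 ≤ Q := by omega
  have hQc : (Fintype.card F : ℂ) - 1 = (Q : ℂ) := by rw [hQ]; push_cast; ring
  have hn1 : ‖χ 1‖ = (Q : ℝ) := by
    rw [hdeg, hQc, Complex.norm_natCast]
  -- the sum over the unipotent subgroup vanishes
  have hsum : ∑ x : F, χ ((u1 x : B1 F) : SpecialLinearGroup (Fin 2) F) = 0 := by
    by_contra hne0
    obtain ⟨α, hν, hne⟩ := exists_series1 χ hχ hne0
    set R := Cfsg.indFun (B1 F) (aFun α) with hR
    have hν1 : (R - χ) 1 = 2 := by
      rw [Pi.sub_apply, hR, indFun_aFun_one, hdeg]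
      ring
    -- the complement is also a constituent
    have hinν : Cfsg.classInner R (R - χ) ≠ 0 := by
      obtain ⟨ν, hνdef⟩ : ∃ ν, ν = R - χ := ⟨_, rfl⟩
      have e : R = χ + ν := by
        funext g
        simp [hνdef]
      rw [← hνdef] at hν hν1 ⊢
      obtain ⟨n₁, hn₁⟩ := Cfsg.Agent.Lib.Helper75_CharArith.classInner_isCharacter_nat hχc hν
      obtain ⟨n₂, hn₂⟩ := Cfsg.Agent.Lib.Helper75_CharArith.classInner_isCharacter_nat hν hν
      have hn₂0 : (n₂ : ℂ) ≠ 0 := by
        rw [← hn₂]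
        apply classInner_self_ne_zero
        rw [hν1]
        norm_num
      rw [e, Cfsg.Agent.Lib.Helper3_CharOrtho.classInner_add_left, hn₁, hn₂]
      have : n₂ ≠ 0 := by exact_mod_cast hn₂0
      have h3 : n₁ + n₂ ≠ 0 := by omega
      exact_mod_cast h3
    obtain ⟨n, hn⟩ := sum_u1_of_constituent α (R - χ) hν hinν
    obtain ⟨n', hn'⟩ := sum_u1_of_constituent α χ hχc hne
    have hRsum := sum_indFun_aFun_u1 α
    have hsplit : ∑ x : F, R ((u1 x : B1 F) : SpecialLinearGroup (Fin 2) F) =
        ∑ x : F, χ ((u1 x : B1 F) : SpecialLinearGroup (Fin 2) F) +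
        ∑ x : F, (R - χ) ((u1 x : B1 F) : SpecialLinearGroup (Fin 2) F) := by
      rw [← Finset.sum_add_distrib]
      refine Finset.sum_congr rfl (fun x _ => ?_)
      simp
    rw [hRsum, hn, hn'] at hsplit
    have hnn : ((n + n' : ℕ) : ℂ) = 0 := by
      have : (Fintype.card F : ℂ) * ((n + n' : ℕ) : ℂ) = (Fintype.card F : ℂ) * 0 := by
        push_cast
        linear_combination -hsplit
      exact mul_left_cancel₀ hq0 this
    have hnn' : n + n' = 0 := by exact_mod_cast hnn
    have hn0 : n = 0 := by omega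
    subst hn0
    simp only [Nat.cast_zero, add_zero, mul_one] at hn
    -- the complement has degree two and contains the trivial character of the unipotent group
    by_cases hF : ringChar F = 2
    · obtain ⟨a, b, h1, h2, h3⟩ := data_even hF (R - χ) hν
      rw [hn] at h3
      have ha : (a : ℂ) = 1 := by
        have : (Fintype.card F : ℂ) * (a : ℂ) = (Fintype.card F : ℂ) * 1 := by
          rw [← h3, mul_one]
        exact mul_left_cancel₀ hq0 this
      rw [hν1, ha, hQc] at h1
      have h1' : 1 = Q * b := by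
        have : ((1 : ℕ) : ℂ) = ((Q * b : ℕ) : ℂ) := by
          push_cast
          linear_combination h1
        exact_mod_cast this
      have : Q = 1 := Nat.eq_one_of_mul_eq_one_right h1'.symm
      omega
    · obtain ⟨a, b₁, b₂, h1, h2, h3, -⟩ := data_odd (odd_card_of_ne hF) (R - χ) hν
      rw [hn] at h2
      have ha : (a : ℂ) = 1 := by
        have : (Fintype.card F : ℂ) * (a : ℂ) = (Fintype.card F : ℂ) * 1 := by
          rw [← h2, mul_one]
        exact mul_left_cancel₀ hq0 this
      rw [hν1, ha, hQc] at h1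
      have h1' : 2 = Q * (b₁ + b₂) := by
        have : ((2 : ℕ) : ℂ) = ((Q * (b₁ + b₂) : ℕ) : ℂ) := by
          push_cast
          linear_combination 2 * h1
        exact_mod_cast this
      have hB : 1 ≤ b₁ + b₂ := by
        by_contra hlt
        have : b₁ + b₂ = 0 := by omega
        rw [this] at h1'
        omega
      nlinarith
  -- the value
  by_cases hF : ringChar F = 2
  · obtain ⟨a, b, h1, h2, h3⟩ := data_even hF χ hχc
    rw [hsum] at h3
    have ha : (a : ℂ) = 0 := by
      rcases mul_eq_zero.1 h3.symm with h | h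
      · exact absurd h hq0
      · exact h
    rw [hdeg, ha, hQc] at h1
    have hb : (b : ℂ) = 1 := by
      have hQ0 : (Q : ℂ) ≠ 0 := by
        have : Q ≠ 0 := by omega
        exact_mod_cast this
      have : (Q : ℂ) * (b : ℂ) = (Q : ℂ) * 1 := by linear_combination -h1
      exact mul_left_cancel₀ hQ0 this
    rw [h2 1 one_ne_zero, ha, hb]
    ring
  · obtain ⟨a, b₁, b₂, h1, h2, h3, h4⟩ := data_odd (odd_card_of_ne hF) χ hχc
    rw [hsum] at h2
    have ha : (a : ℂ) = 0 := by
      rcases mul_eq_zero.1 h2.symm with h | h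
      · exact absurd h hq0
      · exact h
    have ha0 : a = 0 := by exact_mod_cast ha
    subst ha0
    rw [hdeg, hQc] at h1
    have hB : b₁ + b₂ = 2 := by
      have hQ0 : (Q : ℂ) ≠ 0 := by
        have : Q ≠ 0 := by omega
        exact_mod_cast this
      have : (Q : ℂ) * ((b₁ + b₂ : ℕ) : ℂ) = (Q : ℂ) * ((2 : ℕ) : ℂ) := by
        push_cast
        push_cast at h1
        linear_combination -2 * h1
      exact_mod_cast mul_left_cancel₀ hQ0 this
    by_cases hbb : b₁ = b₂
    · have hb1 : b₁ = 1 := by omega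
      rw [h4 hbb 1 one_ne_zero, hb1]
      norm_num
    · exfalso
      have hsq : b₁ ^ 2 + b₂ ^ 2 = 4 := by
        have hcases : (b₁ = 0 ∧ b₂ = 2) ∨ (b₁ = 2 ∧ b₂ = 0) := by omega
        rcases hcases with ⟨e1, e2⟩ | ⟨e1, e2⟩ <;> rw [e1, e2] <;> norm_num
      have hsb := strong_bound χ hχ {1, -1} pm_one_inv ∅ (by simp)
      rw [card_pm_one hF, sum_erase_norm, h3, hn1, hQ] at hsb
      have hsq' : (b₁ : ℝ) ^ 2 + (b₂ : ℝ) ^ 2 = 4 := by exact_mod_cast hsq
      have hQr : (3 : ℝ) ≤ (Q : ℝ) := by exact_mod_cast hQ3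
      rw [hsq'] at hsb
      push_cast at hsb
      simp only [Finset.sum_empty, add_zero] at hsb
      nlinarith

end main

end Cfsg.Agent.Lib.Helper39_SL2Unip
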