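import Mathlib
import Cfsg.Prelude.Def_Characters
import Cfsg.Prelude.Def_ParabolicCharacters
import Cfsg.Agent.Lib.Helper39_SL2Unip

/-!
# Vanishing of irreducible characters of `SL₂(F)` on the two kinds of tori (helper39)
-/

set_option autoImplicit false

namespace Cfsg.Agent.Lib.Helper39_SL2Vanish

open scoped ComplexConjugate
open Matrix Cfsg.Agent.Lib.Helper39_GL2Char Cfsg.Agent.Lib.Helper39_CharTools
  Cfsg.Agent.Lib.Helper39_IndTools
  Cfsg.Agent.Lib.Helper39_SL2Borel Cfsg.Agent.Lib.Helper39_SL2Ind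
  Cfsg.Agent.Lib.Helper39_SL2Half Cfsg.Agent.Lib.Helper39_SL2Series
  Cfsg.Agent.Lib.Helper39_SL2Data Cfsg.Agent.Lib.Helper39_SL2Bound
  Cfsg.Agent.Lib.Helper39_SL2Steinberg Cfsg.Agent.Lib.Helper39_AddFourier
  Cfsg.Agent.Lib.Helper39_SL2Unip Cfsg.Agent.Lib.Helper39_Clifford
open Cfsg.Agent.Lib.Helper75_Induced (frobenius_reciprocity)

/-- An irreducible constituent of a sum of two irreducible characters is one of them. -/
theorem eq_or_eq_of_classInner_add {G : Type*} [Group G] [Fintype G] {χ₁ χ₂ χ : G → ℂ}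
    (h₁ : Cfsg.IsIrrCharacter G χ₁) (h₂ : Cfsg.IsIrrCharacter G χ₂)
    (hχ : Cfsg.IsIrrCharacter G χ) (h : Cfsg.classInner (χ₁ + χ₂) χ ≠ 0) :
    χ = χ₁ ∨ χ = χ₂ := by
  rw [Cfsg.Agent.Lib.Helper3_CharOrtho.classInner_add_left,
    Cfsg.Agent.Lib.Helper3_CharOrtho.classInner_irr h₁ hχ,
    Cfsg.Agent.Lib.Helper3_CharOrtho.classInner_irr h₂ hχ] at h
  by_cases e₁ : χ₁ = χ
  · exact Or.inl e₁.symm
  · by_cases e₂ : χ₂ = χ
    · exact Or.inr e₂.symm
    · rw [if_neg e₁, if_neg e₂] at h
      exact absurd (add_zero _) h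

section regular

variable {F : Type*} [Field F]

/-- The value of a class function at a regular element of the Borel subgroup only depends on the
diagonal. -/
theorem class_value_regular {f : SpecialLinearGroup (Fin 2) F → ℂ}
    (hf : Cfsg.IsClassFunction (SpecialLinearGroup (Fin 2) F) f) (b : B1 F)
    (hb : ((b : SpecialLinearGroup (Fin 2) F) : Matrix (Fin 2) (Fin 2) F) 0 0 ≠
      ((b : SpecialLinearGroup (Fin 2) F) : Matrix (Fin 2) (Fin 2) F) 1 1) :
    f (b : SpecialLinearGroup (Fin 2) F) =
      f ((b1Mat (Units.mk0 _ (B1_00_ne_zero b)) 0 : B1 F) : SpecialLinearGroup (Fin 2) F) := by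
  set a := ((b : SpecialLinearGroup (Fin 2) F) : Matrix (Fin 2) (Fin 2) F) 0 0 with ha
  set d := ((b : SpecialLinearGroup (Fin 2) F) : Matrix (Fin 2) (Fin 2) F) 1 1 with hd
  set s := ((b : SpecialLinearGroup (Fin 2) F) : Matrix (Fin 2) (Fin 2) F) 0 1 with hs
  have hda : d - a ≠ 0 := sub_ne_zero.2 (Ne.symm hb)
  have hdinv : d = a⁻¹ := B1_11_eq_inv b
  set x : Fˣ := Units.mk0 a (B1_00_ne_zero b) with hx
  have hconj : (b : SpecialLinearGroup (Fin 2) F) =
      ((u1 (s / (d - a)) : B1 F) : SpecialLinearGroup (Fin 2) F) *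
        ((b1Mat x 0 : B1 F) : SpecialLinearGroup (Fin 2) F) *
        ((u1 (s / (d - a)) : B1 F) : SpecialLinearGroup (Fin 2) F)⁻¹ := by
    rw [eq_mul_inv_iff_mul_eq]
    apply Matrix.SpecialLinearGroup.ext
    intro i j
    rw [Matrix.SpecialLinearGroup.coe_mul, Matrix.SpecialLinearGroup.coe_mul, u1_val, b1Mat_val]
    fin_cases i <;> fin_cases j <;>
      simp [Matrix.mul_apply, Fin.sum_univ_two, B1_10, hx, ← ha, ← hd, ← hs, ← hdinv]
    field_simp
    ring
  rw [hconj, hf]

end regular

section elliptic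

variable {F : Type*} [Field F]

theorem two_ne_zero_of_odd [Fintype F] (hodd : Odd (Fintype.card F)) : (2 : F) ≠ 0 := by
  have hchar : ringChar F ≠ 2 := by
    intro h
    have := FiniteField.even_card_of_char_two h
    rcases hodd with ⟨k, hk⟩
    omega
  exact Ring.two_ne_zero hchar

/-- A binary quadratic form of non-zero discriminant over a finite field of odd order takes all
values. -/
theorem exists_quadratic_value [Fintype F] (hodd : Odd (Fintype.card F)) (τ c : F)
    (hD : τ ^ 2 ≠ 4) : ∃ r s : F, r ^ 2 + τ * r * s + s ^ 2 = c := by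
  have h2 : (2 : F) ≠ 0 := two_ne_zero_of_odd hodd
  have h4 : (4 : F) ≠ 0 := by
    have : (4 : F) = 2 * 2 := by norm_num
    rw [this]
    exact mul_ne_zero h2 h2
  set D : F := 1 - τ ^ 2 / 4 with hDdef
  have hD0 : D ≠ 0 := by
    intro h
    apply hD
    have : τ ^ 2 / 4 = 1 := by
      rw [hDdef, sub_eq_zero] at h
      exact h.symm
    field_simp at this
    exact this
  have hf : (Polynomial.X ^ 2 - Polynomial.C c : Polynomial F).degree = 2 := by
    rw [Polynomial.degree_X_pow_sub_C (by norm_num) c]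
    rfl
  have hg : (Polynomial.C D * Polynomial.X ^ 2 : Polynomial F).degree = 2 := by
    rw [Polynomial.degree_C_mul_X_pow 2 hD0]
    rfl
  have hR : Fintype.card F % 2 = 1 := Nat.odd_iff.1 hodd
  obtain ⟨a, b, hab⟩ := FiniteField.exists_root_sum_quadratic hf hg hR
  simp only [Polynomial.eval_sub, Polynomial.eval_pow, Polynomial.eval_X, Polynomial.eval_C,
    Polynomial.eval_mul] at hab
  refine ⟨a - τ * b / 2, b, ?_⟩
  have : a ^ 2 + D * b ^ 2 = c := by linear_combination hab
  rw [← this, hDdef]
  field_simp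
  ring

/-- An element of `SL₂` without eigenvector has trace different from `±2`. -/
theorem trace_sq_ne_four [Fintype F] (hodd : Odd (Fintype.card F))
    (g : SpecialLinearGroup (Fin 2) F)
    (hell : ∀ (c : F) (v : Fin 2 → F), v ≠ 0 →
      (g : Matrix (Fin 2) (Fin 2) F).mulVec v ≠ c • v) :
    ((g : Matrix (Fin 2) (Fin 2) F) 0 0 + (g : Matrix (Fin 2) (Fin 2) F) 1 1) ^ 2 ≠ 4 := by
  classical
  intro h
  have h2 : (2 : F) ≠ 0 := two_ne_zero_of_odd hodd
  set τ := (g : Matrix (Fin 2) (Fin 2) F) 0 0 + (g : Matrix (Fin 2) (Fin 2) F) 1 1 with hτ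
  set M : Matrix (Fin 2) (Fin 2) F := (g : Matrix (Fin 2) (Fin 2) F) - (τ / 2) • 1 with hM
  have hdetg : (g : Matrix (Fin 2) (Fin 2) F) 0 0 * (g : Matrix (Fin 2) (Fin 2) F) 1 1 -
      (g : Matrix (Fin 2) (Fin 2) F) 0 1 * (g : Matrix (Fin 2) (Fin 2) F) 1 0 = 1 := by
    have := g.det_coe
    rw [Matrix.det_fin_two] at this
    exact this
  have hdet : M.det = 0 := by
    rw [hM, Matrix.det_fin_two]
    simp only [Matrix.sub_apply, Matrix.smul_apply, Matrix.one_apply_eq, smul_eq_mul, mul_one,
      Matrix.one_apply_ne (show (0 : Fin 2) ≠ 1 by decide),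
      Matrix.one_apply_ne (show (1 : Fin 2) ≠ 0 by decide), mul_zero, sub_zero]
    have : (4 : F) = 2 * 2 := by norm_num
    field_simp
    linear_combination 4 * hdetg - h + (2 * τ) * hτ
  obtain ⟨v, hv, hMv⟩ := Matrix.exists_mulVec_eq_zero_iff.2 hdet
  apply hell (τ / 2) v hv
  rw [hM, Matrix.sub_mulVec, Matrix.smul_mulVec, Matrix.one_mulVec, sub_eq_zero] at hMv
  exact hMv

/-- In odd characteristic, a `GL₂`-conjugate of an element of `SL₂` without eigenvector is already
an `SL₂`-conjugate. -/
theorem elliptic_conj [Fintype F] (hodd : Odd (Fintype.card F))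
    (g : SpecialLinearGroup (Fin 2) F)
    (hell : ∀ (c : F) (v : Fin 2 → F), v ≠ 0 →
      (g : Matrix (Fin 2) (Fin 2) F).mulVec v ≠ c • v)
    (x : GL (Fin 2) F) (h : SpecialLinearGroup (Fin 2) F)
    (hh : SpecialLinearGroup.toGL h = x * SpecialLinearGroup.toGL g * x⁻¹) :
    ∃ k : SpecialLinearGroup (Fin 2) F, h = k * g * k⁻¹ := by
  have hx : (h : Matrix (Fin 2) (Fin 2) F) * (x : Matrix (Fin 2) (Fin 2) F) =
      (x : Matrix (Fin 2) (Fin 2) F) * (g : Matrix (Fin 2) (Fin 2) F) := by
    rw [eq_mul_inv_iff_mul_eq] at hh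
    have := congrArg Units.val hh
    rw [Units.val_mul, Units.val_mul] at this
    exact this
  set c : F := (x : Matrix (Fin 2) (Fin 2) F).det with hcdef
  have hc : c ≠ 0 := by
    have := (Matrix.isUnit_iff_isUnit_det _).1 x.isUnit
    exact this.ne_zero
  set τ := (g : Matrix (Fin 2) (Fin 2) F) 0 0 + (g : Matrix (Fin 2) (Fin 2) F) 1 1 with hτ
  obtain ⟨r, s, hrs⟩ := exists_quadratic_value hodd τ c⁻¹ (trace_sq_ne_four hodd g hell)
  have hdetg : (g : Matrix (Fin 2) (Fin 2) F) 0 0 * (g : Matrix (Fin 2) (Fin 2) F) 1 1 -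
      (g : Matrix (Fin 2) (Fin 2) F) 0 1 * (g : Matrix (Fin 2) (Fin 2) F) 1 0 = 1 := by
    have := g.det_coe
    rw [Matrix.det_fin_two] at this
    exact this
  set z : Matrix (Fin 2) (Fin 2) F := r • 1 + s • (g : Matrix (Fin 2) (Fin 2) F) with hz
  have hzdet : z.det = c⁻¹ := by
    rw [hz, Matrix.det_fin_two, ← hrs]
    simp only [Matrix.add_apply, Matrix.smul_apply, Matrix.one_apply_eq, smul_eq_mul, mul_one,
      Matrix.one_apply_ne (show (0 : Fin 2) ≠ 1 by decide),
      Matrix.one_apply_ne (show (1 : Fin 2) ≠ 0 by decide), mul_zero, zero_add]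
    linear_combination (s ^ 2) * hdetg - (r * s) * hτ
  have hzg : z * (g : Matrix (Fin 2) (Fin 2) F) = (g : Matrix (Fin 2) (Fin 2) F) * z := by
    rw [hz, add_mul, mul_add, Matrix.smul_mul, Matrix.mul_smul, Matrix.smul_mul, Matrix.mul_smul,
      Matrix.one_mul, Matrix.mul_one]
  have hk : ((x : Matrix (Fin 2) (Fin 2) F) * z).det = 1 := by
    rw [Matrix.det_mul, hzdet, ← hcdef, mul_inv_cancel₀ hc]
  obtain ⟨k, hkdef⟩ : ∃ k : SpecialLinearGroup (Fin 2) F,
      (k : Matrix (Fin 2) (Fin 2) F) = (x : Matrix (Fin 2) (Fin 2) F) * z := ⟨⟨_, hk⟩, rfl⟩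
  refine ⟨k, ?_⟩
  rw [eq_mul_inv_iff_mul_eq]
  apply Subtype.ext
  rw [Matrix.SpecialLinearGroup.coe_mul, Matrix.SpecialLinearGroup.coe_mul, hkdef,
    ← mul_assoc, hx, mul_assoc, mul_assoc, hzg]

end elliptic

section main

variable {F : Type*} [Field F] [Fintype F] [Fintype (SpecialLinearGroup (Fin 2) F)]

/-- An irreducible character with non-vanishing sum over the unipotent subgroup is either a full
principal series character, or it and its complement both contain the trivial character of the
unipotent subgroup exactly once. -/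
theorem series_dichotomy (χ : SpecialLinearGroup (Fin 2) F → ℂ)
    (hχ : Cfsg.IsIrrCharacter (SpecialLinearGroup (Fin 2) F) χ)
    (hsum : ∑ x : F, χ ((u1 x : B1 F) : SpecialLinearGroup (Fin 2) F) ≠ 0) :
    ∃ α : MulChar F ℂ,
      Cfsg.IsCharacter (SpecialLinearGroup (Fin 2) F) (Cfsg.indFun (B1 F) (aFun α) - χ) ∧
      Cfsg.classInner (Cfsg.indFun (B1 F) (aFun α)) χ ≠ 0 ∧
      (χ = Cfsg.indFun (B1 F) (aFun α) ∨
        ((Cfsg.indFun (B1 F) (aFun α) - χ) 1 ≠ 0 ∧
         ∑ x : F, χ ((u1 x : B1 F) : SpecialLinearGroup (Fin 2) F) = (Fintype.card F : ℂ) ∧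
         ∑ x : F, (Cfsg.indFun (B1 F) (aFun α) - χ)
            ((u1 x : B1 F) : SpecialLinearGroup (Fin 2) F) = (Fintype.card F : ℂ))) := by
  classical
  have hχc := Cfsg.Agent.Lib.Helper3_CharBridge.isCharacter_of_isIrrCharacter hχ
  have hq0 : (Fintype.card F : ℂ) ≠ 0 := by
    exact_mod_cast (Fintype.card_pos (α := F)).ne'
  obtain ⟨α, hν, hne⟩ := exists_series1 χ hχ hsum
  refine ⟨α, hν, hne, ?_⟩
  set R := Cfsg.indFun (B1 F) (aFun α) with hR
  by_cases hν1 : (R - χ) 1 = 0
  · left
    have h0 := eq_zero_of_isCharacter_of_one_eq_zero hν hν1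
    funext g
    have := congrFun h0 g
    simp only [Pi.sub_apply, Pi.zero_apply] at this
    exact (sub_eq_zero.1 this).symm
  · right
    refine ⟨hν1, ?_⟩
    have hinν : Cfsg.classInner R (R - χ) ≠ 0 := by
      obtain ⟨ν, hνdef⟩ : ∃ ν, ν = R - χ := ⟨_, rfl⟩
      have e : R = χ + ν := by
        funext g
        simp [hνdef]
      rw [← hνdef] at hν hν1 ⊢
      obtain ⟨n₁, hn₁⟩ := Cfsg.Agent.Lib.Helper75_CharArith.classInner_isCharacter_nat hχc hν
      obtain ⟨n₂, hn₂⟩ := Cfsg.Agent.Lib.Helper75_CharArith.classInner_isCharacter_nat hν hν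
      have hn₂0 : (n₂ : ℂ) ≠ 0 := by
        rw [← hn₂]
        exact classInner_self_ne_zero hν1
      rw [e, Cfsg.Agent.Lib.Helper3_CharOrtho.classInner_add_left, hn₁, hn₂]
      have : n₂ ≠ 0 := by exact_mod_cast hn₂0
      have h3 : n₁ + n₂ ≠ 0 := by omega
      exact_mod_cast h3
    obtain ⟨n, hn⟩ := sum_u1_of_constituent α (R - χ) hν hinν
    obtain ⟨n', hn'⟩ := sum_u1_of_constituent α χ hχc hne
    have hRsum := sum_indFun_aFun_u1 α
    have hsplit : ∑ x : F, R ((u1 x : B1 F) : SpecialLinearGroup (Fin 2) F) =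
        ∑ x : F, χ ((u1 x : B1 F) : SpecialLinearGroup (Fin 2) F) +
        ∑ x : F, (R - χ) ((u1 x : B1 F) : SpecialLinearGroup (Fin 2) F) := by
      rw [← Finset.sum_add_distrib]
      refine Finset.sum_congr rfl (fun x _ => ?_)
      simp
    rw [hRsum, hn, hn'] at hsplit
    have hnn : ((n + n' : ℕ) : ℂ) = 0 := by
      have : (Fintype.card F : ℂ) * ((n + n' : ℕ) : ℂ) = (Fintype.card F : ℂ) * 0 := by
        push_cast
        linear_combination -hsplit
      exact mul_left_cancel₀ hq0 this
    have hnn' : n + n' = 0 := by exact_mod_cast hnn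
    have hn0 : n = 0 := by omega
    have hn0' : n' = 0 := by omega
    subst hn0
    subst hn0'
    simp only [Nat.cast_zero, add_zero, mul_one] at hn hn'
    exact ⟨hn', hn⟩

/-- In odd characteristic, an irreducible character of degree `q - 1` or `(q - 1) / 2` vanishes at
the regular elements of the split torus. -/
theorem vanish_split (hodd : Odd (Fintype.card F)) (χ : SpecialLinearGroup (Fin 2) F → ℂ)
    (hχ : Cfsg.IsIrrCharacter (SpecialLinearGroup (Fin 2) F) χ)
    (hdeg : χ 1 = (Fintype.card F : ℂ) - 1 ∨ χ 1 = (((Fintype.card F - 1) / 2 : ℕ) : ℂ))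
    (g : SpecialLinearGroup (Fin 2) F)
    (h10 : (g : Matrix (Fin 2) (Fin 2) F) 1 0 = 0)
    (hsq : (g : Matrix (Fin 2) (Fin 2) F) 0 0 ^ 2 ≠ 1) : χ g = 0 := by
  classical
  have : Fintype (B1 F) := Fintype.ofFinite _
  have : Fintype (U1 F) := Fintype.ofFinite _
  have hχc := Cfsg.Agent.Lib.Helper3_CharBridge.isCharacter_of_isIrrCharacter hχ
  have hcf := Cfsg.Agent.Lib.Helper3_CharBridge.isClassFunction_of_isCharacter hχc
  have hq0 : (Fintype.card F : ℂ) ≠ 0 := by
    exact_mod_cast (Fintype.card_pos (α := F)).ne'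
  obtain ⟨m, hm⟩ := hodd
  have hgB : g ∈ B1 F := (mem_B1_iff g).2 h10
  set b : B1 F := ⟨g, hgB⟩ with hb
  have h00 : (g : Matrix (Fin 2) (Fin 2) F) 0 0 ≠ 0 := B1_00_ne_zero b
  have hdet : (g : Matrix (Fin 2) (Fin 2) F) 0 0 * (g : Matrix (Fin 2) (Fin 2) F) 1 1 = 1 :=
    B1_det b
  have hne : (g : Matrix (Fin 2) (Fin 2) F) 0 0 ≠ (g : Matrix (Fin 2) (Fin 2) F) 1 1 := by
    intro h
    apply hsq
    rw [sq]
    rw [← h] at hdet
    exact hdet
  -- the sum over the unipotent subgroup vanishes
  have hsum : ∑ x : F, χ ((u1 x : B1 F) : SpecialLinearGroup (Fin 2) F) = 0 := by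
    by_contra hne0
    obtain ⟨α, hν, hne', hcase⟩ := series_dichotomy χ hχ hne0
    have hq3 : Fintype.card F = 3 := by
      rcases hcase with hR | ⟨-, hs, -⟩
      · exfalso
        have h1 : χ 1 = (Fintype.card F : ℂ) + 1 := by rw [hR, indFun_aFun_one]
        rcases hdeg with hd | hd
        · rw [hd] at h1
          have : (1 : ℂ) = -1 := by linear_combination -h1
          norm_num at this
        · rw [hd] at h1
          have : (Fintype.card F - 1) / 2 = Fintype.card F + 1 := by exact_mod_cast h1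
          omega
      · obtain ⟨a, b₁, b₂, h1, h2, -, -⟩ := data_odd ⟨m, hm⟩ χ hχc
        rw [hs] at h2
        have ha : (a : ℂ) = 1 := by
          have : (Fintype.card F : ℂ) * (a : ℂ) = (Fintype.card F : ℂ) * 1 := by
            rw [← h2, mul_one]
          exact mul_left_cancel₀ hq0 this
        obtain ⟨B, hB⟩ : ∃ B : ℕ, B = b₁ + b₂ := ⟨_, rfl⟩
        have hBc : (b₁ : ℂ) + (b₂ : ℂ) = (B : ℂ) := by rw [hB]; push_cast; ring
        rw [ha, hBc, hm] at h1
        rcases hdeg with hd | hd
        · rw [hd, hm] at h1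
          have h3 : 2 * m = 1 + m * B := by
            have : ((2 * m : ℕ) : ℂ) = ((1 + m * B : ℕ) : ℂ) := by
              push_cast
              push_cast at h1
              linear_combination h1
            exact_mod_cast this
          have hm1 : m = 1 := by
            obtain h | h | h : B = 0 ∨ B = 1 ∨ 2 ≤ B := by omega
            · subst h; omega
            · subst h; omega
            · exfalso
              have : m * 2 ≤ m * B := Nat.mul_le_mul_left m h
              omega
          omega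
        · have e : (Fintype.card F - 1) / 2 = m := by omega
          rw [hd, e] at h1
          have h3 : m = 1 + m * B := by
            have : ((m : ℕ) : ℂ) = ((1 + m * B : ℕ) : ℂ) := by
              push_cast
              push_cast at h1
              linear_combination h1
            exact_mod_cast this
          have hm1 : m = 1 := by
            obtain h | h : B = 0 ∨ 1 ≤ B := by omega
            · subst h; omega
            · exfalso
              have : m * 1 ≤ m * B := Nat.mul_le_mul_left m h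
              omega
          omega
    apply hsq
    have := FiniteField.pow_card_sub_one_eq_one _ h00
    rw [hq3] at this
    exact this
  -- translate by the torus element
  have hψ : Cfsg.IsCharacter (B1 F) (fun b : B1 F => χ b) :=
    Cfsg.Agent.Lib.Helper75_CharArith.isCharacter_restrict (B1 F) hχc
  have hU : ∑ n : U1 F, (fun b : B1 F => χ b) n = 0 := by
    rw [← hsum]
    exact (Fintype.sum_equiv U1Equiv _ _ (fun x => rfl)).symm
  have h0 := sum_isCharacter_mul_eq_zero hψ (U1 F) hU b
  have h1 : ∑ x : F, χ ((b * u1 x : B1 F) : SpecialLinearGroup (Fin 2) F) = 0 := by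
    rw [← h0]
    exact Fintype.sum_equiv U1Equiv _ _ (fun x => rfl)
  have key : ∀ b' : B1 F,
      ((b' : SpecialLinearGroup (Fin 2) F) : Matrix (Fin 2) (Fin 2) F) 0 0 =
        (g : Matrix (Fin 2) (Fin 2) F) 0 0 →
      χ (b' : SpecialLinearGroup (Fin 2) F) =
        χ ((b1Mat (Units.mk0 _ h00) 0 : B1 F) : SpecialLinearGroup (Fin 2) F) := by
    intro b' e
    have e' : ((b' : SpecialLinearGroup (Fin 2) F) : Matrix (Fin 2) (Fin 2) F) 1 1 =
        (g : Matrix (Fin 2) (Fin 2) F) 1 1 := by
      have h1 := B1_det b'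
      rw [e] at h1
      exact mul_left_cancel₀ h00 (h1.trans hdet.symm)
    rw [class_value_regular hcf b' (by rw [e, e']; exact hne)]
    have : Units.mk0 _ (B1_00_ne_zero b') = Units.mk0 _ h00 := Units.ext e
    rw [this]
  have hterm : ∀ x : F, χ ((b * u1 x : B1 F) : SpecialLinearGroup (Fin 2) F) = χ g := by
    intro x
    rw [key (b * u1 x), ← key b rfl]
    rw [Subgroup.coe_mul, Matrix.SpecialLinearGroup.coe_mul, u1_val]
    simp [Matrix.mul_apply, Fin.sum_univ_two, hb]
  simp_rw [hterm] at h1
  rw [Finset.sum_const, Finset.card_univ, nsmul_eq_mul] at h1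
  rcases mul_eq_zero.1 h1 with h | h
  · exact absurd h hq0
  · exact h

/-- The trivial character is a constituent of the principal series character of the trivial
character. -/
theorem classInner_indFun_one_one :
    Cfsg.classInner (Cfsg.indFun (B1 F) (aFun (1 : MulChar F ℂ)))
      (fun _ : SpecialLinearGroup (Fin 2) F => (1 : ℂ)) = 1 := by
  classical
  have : Fintype (B1 F) := Fintype.ofFinite _
  rw [frobenius_reciprocity (B1 F) (aFun 1) _ (fun _ _ => rfl)]
  have h1 : ∀ b : B1 F, aFun (1 : MulChar F ℂ) b = 1 := by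
    intro b
    rw [aFun, MulChar.one_apply (B1_00_ne_zero b).isUnit]
  unfold Cfsg.classInner
  simp only [h1, map_one, mul_one, Finset.sum_const, Finset.card_univ, nsmul_eq_mul]
  rw [Nat.card_eq_fintype_card]
  have : (Fintype.card (B1 F) : ℂ) ≠ 0 := by
    exact_mod_cast (Fintype.card_pos (α := B1 F)).ne'
  field_simp

/-- In odd characteristic, an irreducible character of degree `q + 1` or `(q + 1) / 2` vanishes at
the elements without eigenvector. -/
theorem vanish_nonsplit (hodd : Odd (Fintype.card F)) (χ : SpecialLinearGroup (Fin 2) F → ℂ)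
    (hχ : Cfsg.IsIrrCharacter (SpecialLinearGroup (Fin 2) F) χ)
    (hdeg : χ 1 = (Fintype.card F : ℂ) + 1 ∨ χ 1 = (((Fintype.card F + 1) / 2 : ℕ) : ℂ))
    (g : SpecialLinearGroup (Fin 2) F)
    (hell : ∀ (c : F) (v : Fin 2 → F), v ≠ 0 →
      (g : Matrix (Fin 2) (Fin 2) F).mulVec v ≠ c • v) : χ g = 0 := by
  classical
  have hχc := Cfsg.Agent.Lib.Helper3_CharBridge.isCharacter_of_isIrrCharacter hχ
  have hcf := Cfsg.Agent.Lib.Helper3_CharBridge.isClassFunction_of_isCharacter hχc
  have hq0 : (Fintype.card F : ℂ) ≠ 0 := by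
    exact_mod_cast (Fintype.card_pos (α := F)).ne'
  have hodd' := hodd
  obtain ⟨m, hm⟩ := hodd
  have hm1 : 1 ≤ m := by
    have := Fintype.one_lt_card (α := F)
    omega
  have ehalf : (Fintype.card F + 1) / 2 = m + 1 := by omega
  have hF : ringChar F ≠ 2 := by
    intro h
    have := FiniteField.even_card_of_char_two h
    omega
  by_cases hsum0 : ∑ x : F, χ ((u1 x : B1 F) : SpecialLinearGroup (Fin 2) F) = 0
  · -- the cuspidal case: only possible for very small fields
    obtain ⟨a, b₁, b₂, h1, h2, h3, -⟩ := data_odd hodd' χ hχc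
    rw [hsum0] at h2
    have ha : a = 0 := by
      have : (a : ℂ) = 0 := by
        rcases mul_eq_zero.1 h2.symm with h | h
        · exact absurd h hq0
        · exact h
      exact_mod_cast this
    subst ha
    have hdegB : χ 1 = ((m * (b₁ + b₂) : ℕ) : ℂ) := by
      rw [h1, hm]
      push_cast
      ring
    have hS : ((b₁ : ℝ) + (b₂ : ℝ)) ^ 2 ≤ 2 * ((b₁ : ℝ) ^ 2 + (b₂ : ℝ) ^ 2) := by
      nlinarith [sq_nonneg ((b₁ : ℝ) - (b₂ : ℝ))]
    have hqR : (Fintype.card F : ℝ) = 2 * (m : ℝ) + 1 := by
      rw [hm]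
      push_cast
      ring
    rcases hdeg with hd | hd
    · exfalso
      have e : 2 * m + 2 = m * (b₁ + b₂) := by
        have : ((2 * m + 2 : ℕ) : ℂ) = ((m * (b₁ + b₂) : ℕ) : ℂ) := by
          rw [← hdegB, hd, hm]
          push_cast
          ring
        exact_mod_cast this
      have hn1 : ‖χ 1‖ = 2 * (m : ℝ) + 2 := by
        have : χ 1 = ((2 * m + 2 : ℕ) : ℂ) := by
          rw [hd, hm]
          push_cast
          ring
        rw [this, Complex.norm_natCast]
        push_cast
        ring
      have hsb := strong_bound χ hχ {1, -1} pm_one_inv ∅ (by simp)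
      rw [card_pm_one hF, sum_erase_norm, h3, hn1, hqR] at hsb
      simp only [Finset.sum_empty, add_zero, Nat.cast_zero] at hsb
      obtain ⟨B, hB⟩ : ∃ B, B = b₁ + b₂ := ⟨_, rfl⟩
      have hBR : (b₁ : ℝ) + (b₂ : ℝ) = (B : ℝ) := by rw [hB]; push_cast; ring
      rw [hBR] at hS
      rw [← hB] at e
      have hB3 : 3 ≤ B := by
        by_contra hlt
        have h2 : B ≤ 2 := by omega
        have : m * B ≤ m * 2 := Nat.mul_le_mul_left m h2
        omega
      have hm2 : m ≤ 2 := by
        have : m * 3 ≤ m * B := Nat.mul_le_mul_left m hB3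
        omega
      have hcases : (m = 1 ∧ B = 4) ∨ (m = 2 ∧ B = 3) := by
        interval_cases m
        · left; omega
        · right; omega
      rcases hcases with ⟨rfl, rfl⟩ | ⟨rfl, rfl⟩
      · norm_num at hsb hS
        nlinarith
      · norm_num at hsb hS
        nlinarith
    · have e : m + 1 = m * (b₁ + b₂) := by
        have : ((m + 1 : ℕ) : ℂ) = ((m * (b₁ + b₂) : ℕ) : ℂ) := by
          rw [← hdegB, hd, ehalf]
        exact_mod_cast this
      have hn1 : ‖χ 1‖ = (m : ℝ) + 1 := by
        rw [hd, ehalf, Complex.norm_natCast]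
        push_cast
        ring
      have hsb := strong_bound χ hχ {1, -1} pm_one_inv {g} (by
        intro g' hg'
        rw [Finset.mem_singleton] at hg'
        rw [hg']
        exact hell)
      rw [card_pm_one hF, sum_erase_norm, h3, hn1, hqR] at hsb
      simp only [Finset.sum_singleton, Nat.cast_zero] at hsb
      obtain ⟨B, hB⟩ : ∃ B, B = b₁ + b₂ := ⟨_, rfl⟩
      have hBR : (b₁ : ℝ) + (b₂ : ℝ) = (B : ℝ) := by rw [hB]; push_cast; ring
      rw [hBR] at hS
      rw [← hB] at e
      have hB2 : 2 ≤ B := by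
        by_contra hlt
        have h2 : B ≤ 1 := by omega
        have : m * B ≤ m * 1 := Nat.mul_le_mul_left m h2
        omega
      have hmB : m = 1 ∧ B = 2 := by
        have : m * 2 ≤ m * B := Nat.mul_le_mul_left m hB2
        have hm1' : m = 1 := by omega
        subst hm1'
        omega
      obtain ⟨rfl, rfl⟩ := hmB
      norm_num at hsb hS
      have hle : ‖χ g‖ ^ 2 ≤ 0 := by nlinarith
      have h0 : ‖χ g‖ = 0 := by
        have := sq_nonneg ‖χ g‖
        have h2 : ‖χ g‖ ^ 2 = 0 := le_antisymm hle this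
        exact pow_eq_zero_iff (two_ne_zero) |>.1 h2
      exact norm_eq_zero.1 h0
  · -- the principal series case
    obtain ⟨α, hν, hne, hcase⟩ := series_dichotomy χ hχ hsum0
    set R := Cfsg.indFun (B1 F) (aFun α) with hR
    have hRg : R g = 0 := indFun_eq_zero_of_no_eigenvector1 _ g hell
    rcases hcase with hχR | ⟨hν1, -, -⟩
    · rw [hχR]
      exact hRg
    · rcases hdeg with hd | hd
      · exfalso
        apply hν1
        rw [Pi.sub_apply, hR, indFun_aFun_one, hd, sub_self]
      · -- the character is one half of a reducible principal series character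
        have hα2 : α ^ 2 = 1 := by
          by_contra hα2
          have hirr := (isIrrCharacter_indFun_aFun_iff α).2 hα2
          rw [Cfsg.Agent.Lib.Helper3_CharOrtho.classInner_irr hirr hχ] at hne
          have hRχ : R = χ := by
            by_contra h
            rw [if_neg h] at hne
            exact hne rfl
          apply hν1
          rw [hRχ, sub_self]
          rfl
        by_cases hα1 : α = 1
        · exfalso
          subst hα1
          have hRR : Cfsg.classInner R R = 2 := by
            rw [hR, classInner_indFun_aFun, if_pos rfl, if_pos (by simp)]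
            norm_num
          obtain ⟨χ₁, χ₂, h₁, h₂, hne12, hsum⟩ :=
            exists_two_irr (isCharacter_indFun_aFun (1 : MulChar F ℂ)) hRR
          have hsum' : R = χ₁ + χ₂ := hsum
          have htriv := Cfsg.Agent.Lib.Helper80_CharBasic.isIrrCharacter_one
            (SpecialLinearGroup (Fin 2) F)
          have h1in : Cfsg.classInner (χ₁ + χ₂)
              (fun _ : SpecialLinearGroup (Fin 2) F => (1 : ℂ)) ≠ 0 := by
            rw [← hsum, classInner_indFun_one_one]
            exact one_ne_zero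
          have hχin : Cfsg.classInner (χ₁ + χ₂) χ ≠ 0 := by
            rw [← hsum]
            exact hne
          have hχ1 : χ ≠ (fun _ : SpecialLinearGroup (Fin 2) F => (1 : ℂ)) := by
            intro h
            have h1 := congrFun h 1
            rw [hd, ehalf] at h1
            have : m + 1 = 1 := by exact_mod_cast h1
            omega
          have hdegsum : R 1 = χ 1 + 1 := by
            rcases eq_or_eq_of_classInner_add h₁ h₂ htriv h1in with e1 | e1 <;>
            rcases eq_or_eq_of_classInner_add h₁ h₂ hχ hχin with e2 | e2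
            · exact absurd (e2.trans e1.symm) hχ1
            · rw [hsum', Pi.add_apply, ← e1, ← e2]
              ring
            · rw [hsum', Pi.add_apply, ← e1, ← e2]
            · exact absurd (e2.trans e1.symm) hχ1
          rw [hR, indFun_aFun_one, hd, ehalf, hm] at hdegsum
          have : 2 * m + 1 + 1 = m + 1 + 1 := by exact_mod_cast hdegsum
          omega
        · obtain ⟨χ₁, χ₂, h₁, h₂, hne12, hsum, -, -, x, hx⟩ := halves hodd' α hα2 hα1
          have hχin : Cfsg.classInner (χ₁ + χ₂) χ ≠ 0 := by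
            rw [← hsum]
            exact hne
          have hcf₂ := Cfsg.Agent.Lib.Helper3_CharBridge.isClassFunction_of_isIrrCharacter h₂
          -- the two halves agree at `g`
          have heq : χ₂ g = χ₁ g := by
            have hdet : ((x : Matrix (Fin 2) (Fin 2) F) * (g : Matrix (Fin 2) (Fin 2) F) *
                ((x⁻¹ : GL (Fin 2) F) : Matrix (Fin 2) (Fin 2) F)).det = 1 := by
              rw [Matrix.det_mul, Matrix.det_mul, g.det_coe, mul_one, ← Matrix.det_mul,
                ← Units.val_mul, mul_inv_cancel, Units.val_one, Matrix.det_one]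
            obtain ⟨h, hh⟩ : ∃ h : SpecialLinearGroup (Fin 2) F,
                (h : Matrix (Fin 2) (Fin 2) F) = (x : Matrix (Fin 2) (Fin 2) F) *
                  (g : Matrix (Fin 2) (Fin 2) F) *
                  ((x⁻¹ : GL (Fin 2) F) : Matrix (Fin 2) (Fin 2) F) := ⟨⟨_, hdet⟩, rfl⟩
            have hGL : SpecialLinearGroup.toGL h = x * SpecialLinearGroup.toGL g * x⁻¹ := by
              apply Units.ext
              rw [Units.val_mul, Units.val_mul]
              exact hh
            obtain ⟨k, hk⟩ := elliptic_conj hodd' g hell x h hGL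
            rw [← hx g h hGL, hk, hcf₂]
          have hsumg : χ₁ g + χ₂ g = 0 := by
            rw [← Pi.add_apply, ← hsum]
            exact hRg
          have hz : χ₁ g = 0 := by
            rw [heq] at hsumg
            have : (2 : ℂ) * χ₁ g = 0 := by linear_combination hsumg
            rcases mul_eq_zero.1 this with h | h
            · norm_num at h
            · exact h
          rcases eq_or_eq_of_classInner_add h₁ h₂ hχ hχin with e | e
          · rw [e]; exact hz
          · rw [e, heq]; exact hz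

end main

end Cfsg.Agent.Lib.Helper39_SL2Vanish
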