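import Mathlib
import Cfsg.Prelude.Def_Characters
import Cfsg.Prelude.Def_ParabolicCharacters
import Cfsg.Agent.Lib.Helper39_SL2Vanish
import Cfsg.Agent.Lib.Helper3_CharColumn
import Cfsg.Agent.Lib.Helper80_CharBasic
import Cfsg.Agent.S2301
import Cfsg.Agent.S4566

/-!
# Values of the irreducible characters of `SL₂(F)` of degree `(q ± 1) / 2` at the transvections
(helper39)
-/

set_option autoImplicit false

namespace Cfsg.Agent.Lib.Helper39_SL2HalfValues

open scoped ComplexConjugate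
open Matrix Cfsg.Agent.Lib.Helper39_GL2Char Cfsg.Agent.Lib.Helper39_CharTools
  Cfsg.Agent.Lib.Helper39_IndTools
  Cfsg.Agent.Lib.Helper39_SL2Borel Cfsg.Agent.Lib.Helper39_SL2Ind
  Cfsg.Agent.Lib.Helper39_SL2Half Cfsg.Agent.Lib.Helper39_SL2Series
  Cfsg.Agent.Lib.Helper39_SL2Data Cfsg.Agent.Lib.Helper39_SL2Bound
  Cfsg.Agent.Lib.Helper39_SL2Steinberg Cfsg.Agent.Lib.Helper39_AddFourier
  Cfsg.Agent.Lib.Helper39_SL2Unip Cfsg.Agent.Lib.Helper39_Clifford
  Cfsg.Agent.Lib.Helper39_SL2Vanish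

section column

variable {G : Type*} [Group G] [Fintype G]

/-- A weighted form of column orthogonality for two non-conjugate elements. -/
theorem sum_norm_add_sign (g h : G) (hgh : ¬ IsConj g h) (ε : ℝ) (hε : ε ^ 2 = 1) :
    ∑ χ : Cfsg.IrrCharacter G, ‖(χ : G → ℂ) g + (ε : ℂ) * (χ : G → ℂ) h‖ ^ 2 =
      (Nat.card (Subgroup.centralizer ({g} : Set G)) : ℝ) +
        (Nat.card (Subgroup.centralizer ({h} : Set G)) : ℝ) := by
  classical
  have h1 := Cfsg.Agent.Lib.Helper3_CharColumn.column_orthogonality_self g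
  have h2 := Cfsg.Agent.Lib.Helper3_CharColumn.column_orthogonality_self h
  have h3 := Cfsg.Agent.Lib.Helper3_CharColumn.column_orthogonality g h
  have h4 := Cfsg.Agent.Lib.Helper3_CharColumn.column_orthogonality h g
  rw [if_neg hgh] at h3
  rw [if_neg (fun hh => hgh hh.symm)] at h4
  have hεc : (ε : ℂ) ^ 2 = 1 := by exact_mod_cast hε
  have key : ∀ χ : Cfsg.IrrCharacter G,
      ((‖(χ : G → ℂ) g + (ε : ℂ) * (χ : G → ℂ) h‖ ^ 2 : ℝ) : ℂ) =
      (χ : G → ℂ) g * conj ((χ : G → ℂ) g) + (χ : G → ℂ) h * conj ((χ : G → ℂ) h) +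
        (ε : ℂ) * ((χ : G → ℂ) g * conj ((χ : G → ℂ) h)) +
        (ε : ℂ) * ((χ : G → ℂ) h * conj ((χ : G → ℂ) g)) := by
    intro χ
    rw [← Complex.normSq_eq_norm_sq, ← Complex.mul_conj, map_add, map_mul, Complex.conj_ofReal]
    linear_combination ((χ : G → ℂ) h * conj ((χ : G → ℂ) h)) * hεc
  have : ((∑ χ : Cfsg.IrrCharacter G, ‖(χ : G → ℂ) g + (ε : ℂ) * (χ : G → ℂ) h‖ ^ 2 : ℝ) : ℂ) =
      (((Nat.card (Subgroup.centralizer ({g} : Set G)) : ℝ) +
        (Nat.card (Subgroup.centralizer ({h} : Set G)) : ℝ) : ℝ) : ℂ) := by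
    rw [Complex.ofReal_sum]
    simp_rw [key]
    rw [Finset.sum_add_distrib, Finset.sum_add_distrib, Finset.sum_add_distrib,
      ← Finset.mul_sum, ← Finset.mul_sum, h1, h2, h3, h4]
    push_cast
    ring
  exact_mod_cast this

/-- Four distinct irreducible characters on which `h` acts as `ε` times `g`. -/
theorem four_column_bound (g h : G) (hgh : ¬ IsConj g h) (ε : ℝ) (hε : ε ^ 2 = 1)
    (χ₁ χ₂ χ₃ χ₄ : G → ℂ) (h₁ : Cfsg.IsIrrCharacter G χ₁) (h₂ : Cfsg.IsIrrCharacter G χ₂)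
    (h₃ : Cfsg.IsIrrCharacter G χ₃) (h₄ : Cfsg.IsIrrCharacter G χ₄)
    (h12 : χ₁ ≠ χ₂) (h13 : χ₁ ≠ χ₃) (h14 : χ₁ ≠ χ₄) (h23 : χ₂ ≠ χ₃) (h24 : χ₂ ≠ χ₄)
    (h34 : χ₃ ≠ χ₄)
    (e₁ : χ₁ h = (ε : ℂ) * χ₁ g) (e₂ : χ₂ h = (ε : ℂ) * χ₂ g) (e₃ : χ₃ h = (ε : ℂ) * χ₃ g)
    (e₄ : χ₄ h = (ε : ℂ) * χ₄ g) :
    4 * (‖χ₁ g‖ ^ 2 + ‖χ₂ g‖ ^ 2 + ‖χ₃ g‖ ^ 2 + ‖χ₄ g‖ ^ 2) ≤
      (Nat.card (Subgroup.centralizer ({g} : Set G)) : ℝ) +
        (Nat.card (Subgroup.centralizer ({h} : Set G)) : ℝ) := by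
  classical
  rw [← sum_norm_add_sign g h hgh ε hε]
  set S : Finset (Cfsg.IrrCharacter G) :=
    {⟨χ₁, h₁⟩, ⟨χ₂, h₂⟩, ⟨χ₃, h₃⟩, ⟨χ₄, h₄⟩} with hS
  have hεc : (ε : ℂ) ^ 2 = 1 := by exact_mod_cast hε
  have hterm : ∀ χ : G → ℂ, χ h = (ε : ℂ) * χ g →
      ‖χ g + (ε : ℂ) * χ h‖ ^ 2 = 4 * ‖χ g‖ ^ 2 := by
    intro χ e
    have : χ g + (ε : ℂ) * χ h = 2 * χ g := by
      rw [e]
      linear_combination (χ g) * hεc
    rw [this, norm_mul, mul_pow]
    norm_num
  have hsum : ∑ χ ∈ S, ‖(χ : G → ℂ) g + (ε : ℂ) * (χ : G → ℂ) h‖ ^ 2 =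
      4 * (‖χ₁ g‖ ^ 2 + ‖χ₂ g‖ ^ 2 + ‖χ₃ g‖ ^ 2 + ‖χ₄ g‖ ^ 2) := by
    rw [hS, Finset.sum_insert, Finset.sum_insert, Finset.sum_insert, Finset.sum_singleton]
    · simp only
      rw [hterm χ₁ e₁, hterm χ₂ e₂, hterm χ₃ e₃, hterm χ₄ e₄]
      ring
    · simp [Subtype.ext_iff, h34]
    · simp [Subtype.ext_iff, h23, h24]
    · simp [Subtype.ext_iff, h12, h13, h14]
  rw [← hsum]
  exact Finset.sum_le_univ_sum_of_nonneg (fun χ => sq_nonneg _)

end column

section unipotent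

variable {F : Type*} [Field F] [Fintype F]

/-- A class function takes at most two values on the non-trivial upper unitriangular matrices. -/
theorem unipotent_two_values [DecidablePred (IsSquare : F → Prop)]
    {χ : SpecialLinearGroup (Fin 2) F → ℂ}
    (hcf : Cfsg.IsClassFunction (SpecialLinearGroup (Fin 2) F) χ) (e : F) (he : ¬ IsSquare e)
    (x : F) (hx : x ≠ 0) :
    χ ((u1 x : B1 F) : SpecialLinearGroup (Fin 2) F) =
      if IsSquare x then χ ((u1 (1 : F) : B1 F) : SpecialLinearGroup (Fin 2) F)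
      else χ ((u1 e : B1 F) : SpecialLinearGroup (Fin 2) F) := by
  have he0 : e ≠ 0 := by
    rintro rfl
    exact he IsSquare.zero
  have hinv : ∀ d : F, d ≠ 0 → ∀ c : F,
      χ ((u1 (d ^ 2 * c) : B1 F) : SpecialLinearGroup (Fin 2) F) =
        χ ((u1 c : B1 F) : SpecialLinearGroup (Fin 2) F) := by
    intro d hd c
    have := conj_u1 (Units.mk0 d hd) c
    rw [Units.val_mk0] at this
    rw [← this, hcf]
  split_ifs with hsq
  · obtain ⟨d, rfl⟩ := hsq
    have hd : d ≠ 0 := by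
      rintro rfl
      simp at hx
    have := hinv d hd 1
    rw [mul_one, sq] at this
    exact this
  · obtain ⟨d, hd⟩ := Cfsg.Agent.S2301.isSquare_mul_of_not x e hsq he
    have hd0 : d ≠ 0 := by
      rintro rfl
      rw [mul_zero] at hd
      rcases mul_eq_zero.1 hd with h | h
      · exact hx h
      · exact he0 h
    have hx' : x = (d / e) ^ 2 * e := by
      field_simp
      linear_combination hd
    rw [hx']
    exact hinv (d / e) (div_ne_zero hd0 he0) e

/-- The sum of a class function over the unipotent subgroup. -/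
theorem sum_u1_two_values (hF : ringChar F ≠ 2) {χ : SpecialLinearGroup (Fin 2) F → ℂ}
    (hcf : Cfsg.IsClassFunction (SpecialLinearGroup (Fin 2) F) χ) (e : F) (he : ¬ IsSquare e) :
    ∑ x : F, χ ((u1 x : B1 F) : SpecialLinearGroup (Fin 2) F) =
      χ 1 + ((Fintype.card F : ℂ) - 1) *
        (χ ((u1 (1 : F) : B1 F) : SpecialLinearGroup (Fin 2) F) +
          χ ((u1 e : B1 F) : SpecialLinearGroup (Fin 2) F)) / 2 := by
  classical
  rw [← sum_square_classes hF]
  have : ∀ x : F, χ ((u1 x : B1 F) : SpecialLinearGroup (Fin 2) F) =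
      (if x = 0 then χ 1 else 0) +
        (if x = 0 then (0 : ℂ) else if IsSquare x then
          χ ((u1 (1 : F) : B1 F) : SpecialLinearGroup (Fin 2) F)
          else χ ((u1 e : B1 F) : SpecialLinearGroup (Fin 2) F)) := by
    intro x
    by_cases hx : x = 0
    · subst hx
      rw [if_pos rfl, if_pos rfl, u1_zero, add_zero]
      rfl
    · rw [if_neg hx, if_neg hx, zero_add]
      exact unipotent_two_values hcf e he x hx
  rw [Finset.sum_congr rfl (fun x _ => this x), Finset.sum_add_distrib, Finset.sum_ite_eq']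
  simp

/-- The sum of the squared absolute values of a class function over the unipotent subgroup. -/
theorem sum_norm_u1_two_values (hF : ringChar F ≠ 2) {χ : SpecialLinearGroup (Fin 2) F → ℂ}
    (hcf : Cfsg.IsClassFunction (SpecialLinearGroup (Fin 2) F) χ) (e : F) (he : ¬ IsSquare e) :
    ∑ x : F, ‖χ ((u1 x : B1 F) : SpecialLinearGroup (Fin 2) F)‖ ^ 2 =
      ‖χ 1‖ ^ 2 + ((Fintype.card F : ℝ) - 1) *
        (‖χ ((u1 (1 : F) : B1 F) : SpecialLinearGroup (Fin 2) F)‖ ^ 2 +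
          ‖χ ((u1 e : B1 F) : SpecialLinearGroup (Fin 2) F)‖ ^ 2) / 2 := by
  classical
  rw [← sum_square_classes hF]
  have : ∀ x : F, ‖χ ((u1 x : B1 F) : SpecialLinearGroup (Fin 2) F)‖ ^ 2 =
      (if x = 0 then ‖χ 1‖ ^ 2 else 0) +
        (if x = 0 then (0 : ℝ) else if IsSquare x then
          ‖χ ((u1 (1 : F) : B1 F) : SpecialLinearGroup (Fin 2) F)‖ ^ 2
          else ‖χ ((u1 e : B1 F) : SpecialLinearGroup (Fin 2) F)‖ ^ 2) := by
    intro x
    by_cases hx : x = 0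
    · subst hx
      rw [if_pos rfl, if_pos rfl, u1_zero, add_zero]
      rfl
    · rw [if_neg hx, if_neg hx, zero_add, unipotent_two_values hcf e he x hx]
      split_ifs <;> rfl
  rw [Finset.sum_congr rfl (fun x _ => this x), Finset.sum_add_distrib, Finset.sum_ite_eq']
  simp

end unipotent

section values

variable {F : Type*} [Field F] [Fintype F]

omit [Fintype F] in
theorem u1_inv (x : F) : ((u1 x : B1 F) : SpecialLinearGroup (Fin 2) F)⁻¹ =
    ((u1 (-x) : B1 F) : SpecialLinearGroup (Fin 2) F) := by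
  rw [inv_eq_iff_mul_eq_one, ← Subgroup.coe_mul, ← u1_add, add_neg_cancel, u1_zero]
  rfl

/-- The value of a character at the inverse transvection. -/
theorem char_u1_neg {χ : SpecialLinearGroup (Fin 2) F → ℂ}
    (hχ : Cfsg.IsCharacter (SpecialLinearGroup (Fin 2) F) χ) (x : F) :
    χ ((u1 (-x) : B1 F) : SpecialLinearGroup (Fin 2) F) =
      conj (χ ((u1 x : B1 F) : SpecialLinearGroup (Fin 2) F)) := by
  obtain ⟨n, ρ, rfl⟩ := hχ
  rw [← u1_inv, Cfsg.Agent.Lib.Helper80_CharBasic.char_inv_eq_conj]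

theorem neg_one_pow_half (hodd : Odd (Fintype.card F)) :
    (IsSquare (-1 : F) → (-1 : ℂ) ^ ((Fintype.card F - 1) / 2) = 1) ∧
    (¬ IsSquare (-1 : F) → (-1 : ℂ) ^ ((Fintype.card F - 1) / 2) = -1) := by
  have h := FiniteField.isSquare_neg_one_iff (F := F)
  obtain ⟨m, hm⟩ := hodd
  constructor
  · intro hsq
    have h4 : Fintype.card F % 4 ≠ 3 := h.1 hsq
    have : Even ((Fintype.card F - 1) / 2) := by
      rw [Nat.even_iff]
      omega
    exact this.neg_one_pow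
  · intro hsq
    have h4 : Fintype.card F % 4 = 3 := by
      by_contra h4
      exact hsq (h.2 h4)
    have : Odd ((Fintype.card F - 1) / 2) := by
      rw [Nat.odd_iff]
      omega
    exact this.neg_one_pow

/-- The quadratic equation satisfied by the value at a transvection. -/
theorem half_values_sq (hodd : Odd (Fintype.card F)) {χ : SpecialLinearGroup (Fin 2) F → ℂ}
    (hχ : Cfsg.IsCharacter (SpecialLinearGroup (Fin 2) F) χ) (e : F) (he : ¬ IsSquare e)
    (s : ℂ) (hs : s ^ 2 = 1)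
    (hsum : χ ((u1 (1 : F) : B1 F) : SpecialLinearGroup (Fin 2) F) +
      χ ((u1 e : B1 F) : SpecialLinearGroup (Fin 2) F) = s)
    (hnorm : ‖χ ((u1 (1 : F) : B1 F) : SpecialLinearGroup (Fin 2) F)‖ ^ 2 +
      ‖χ ((u1 e : B1 F) : SpecialLinearGroup (Fin 2) F)‖ ^ 2 = ((Fintype.card F : ℝ) + 1) / 2) :
    (2 * χ ((u1 (1 : F) : B1 F) : SpecialLinearGroup (Fin 2) F) - s) ^ 2 =
      (-1 : ℂ) ^ ((Fintype.card F - 1) / 2) * (Fintype.card F : ℂ) := by
  classical
  have hcf := Cfsg.Agent.Lib.Helper3_CharBridge.isClassFunction_of_isCharacter hχ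
  set v := χ ((u1 (1 : F) : B1 F) : SpecialLinearGroup (Fin 2) F) with hv
  set v' := χ ((u1 e : B1 F) : SpecialLinearGroup (Fin 2) F) with hv'
  have hnormC : v * conj v + v' * conj v' = ((Fintype.card F : ℂ) + 1) / 2 := by
    rw [Complex.mul_conj, Complex.mul_conj, Complex.normSq_eq_norm_sq, Complex.normSq_eq_norm_sq]
    have := congrArg (fun r : ℝ => (r : ℂ)) hnorm
    push_cast at this ⊢
    exact this
  have h1 : conj v = χ ((u1 (-1 : F) : B1 F) : SpecialLinearGroup (Fin 2) F) :=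
    (char_u1_neg hχ 1).symm
  have h2 : conj v' = χ ((u1 (-e) : B1 F) : SpecialLinearGroup (Fin 2) F) :=
    (char_u1_neg hχ e).symm
  have hm1 : (-1 : F) ≠ 0 := by simp
  have he0 : e ≠ 0 := by
    rintro rfl
    exact he IsSquare.zero
  have hme : -e ≠ 0 := neg_ne_zero.2 he0
  rw [unipotent_two_values hcf e he (-1) hm1, ← hv, ← hv'] at h1
  rw [unipotent_two_values hcf e he (-e) hme, ← hv, ← hv'] at h2
  have hv'eq : v' = s - v := by rw [← hsum]; ring
  by_cases hsq : IsSquare (-1 : F)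
  · rw [if_pos hsq] at h1
    rw [(neg_one_pow_half hodd).1 hsq]
    have hnsq : ¬ IsSquare (-e) := by
      intro h
      apply he
      have : e = (-1) * (-e) := by ring
      rw [this]
      exact hsq.mul h
    rw [if_neg hnsq] at h2
    rw [h1, h2, hv'eq] at hnormC
    linear_combination 2 * hnormC - hs
  · rw [if_neg hsq] at h1
    rw [(neg_one_pow_half hodd).2 hsq]
    have hsq' : IsSquare (-e) := by
      have : -e = (-1) * e := by ring
      rw [this]
      exact Cfsg.Agent.S2301.isSquare_mul_of_not _ _ hsq he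
    rw [if_pos hsq'] at h2
    rw [h1, h2, hv'eq] at hnormC
    linear_combination -2 * hnormC + hs

variable [Fintype (SpecialLinearGroup (Fin 2) F)]

/-- The trivial character is a constituent of the principal series character of the trivial
character; an irreducible character of degree `(q + 1) / 2` is not. -/
theorem not_constituent_of_one (hodd : Odd (Fintype.card F)) (hq : 5 ≤ Fintype.card F)
    (χ : SpecialLinearGroup (Fin 2) F → ℂ)
    (hχ : Cfsg.IsIrrCharacter (SpecialLinearGroup (Fin 2) F) χ)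
    (hdeg : χ 1 = (((Fintype.card F + 1) / 2 : ℕ) : ℂ)) :
    Cfsg.classInner (Cfsg.indFun (B1 F) (aFun (1 : MulChar F ℂ))) χ = 0 := by
  classical
  by_contra hne
  obtain ⟨m, hm⟩ := hodd
  have ehalf : (Fintype.card F + 1) / 2 = m + 1 := by omega
  set R := Cfsg.indFun (B1 F) (aFun (1 : MulChar F ℂ)) with hR
  have hRR : Cfsg.classInner R R = 2 := by
    rw [hR, classInner_indFun_aFun, if_pos rfl, if_pos (by simp)]
    norm_num
  obtain ⟨χ₁, χ₂, h₁, h₂, hne12, hsum⟩ :=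
    exists_two_irr (isCharacter_indFun_aFun (1 : MulChar F ℂ)) hRR
  have hsum' : R = χ₁ + χ₂ := hsum
  have htriv := Cfsg.Agent.Lib.Helper80_CharBasic.isIrrCharacter_one
    (SpecialLinearGroup (Fin 2) F)
  have h1in : Cfsg.classInner (χ₁ + χ₂)
      (fun _ : SpecialLinearGroup (Fin 2) F => (1 : ℂ)) ≠ 0 := by
    rw [← hsum, classInner_indFun_one_one]
    exact one_ne_zero
  have hχin : Cfsg.classInner (χ₁ + χ₂) χ ≠ 0 := by
    rw [← hsum]
    exact hne
  have hχ1 : χ ≠ (fun _ : SpecialLinearGroup (Fin 2) F => (1 : ℂ)) := by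
    intro h
    have h1 := congrFun h 1
    rw [hdeg, ehalf] at h1
    have : m + 1 = 1 := by exact_mod_cast h1
    omega
  have hdegsum : R 1 = χ 1 + 1 := by
    rcases eq_or_eq_of_classInner_add h₁ h₂ htriv h1in with e1 | e1 <;>
    rcases eq_or_eq_of_classInner_add h₁ h₂ hχ hχin with e2 | e2
    · exact absurd (e2.trans e1.symm) hχ1
    · rw [hsum', Pi.add_apply, ← e1, ← e2]
      ring
    · rw [hsum', Pi.add_apply, ← e1, ← e2]
    · exact absurd (e2.trans e1.symm) hχ1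
  rw [hR, indFun_aFun_one, hdeg, ehalf, hm] at hdegsum
  have : 2 * m + 1 + 1 = m + 1 + 1 := by exact_mod_cast hdegsum
  omega

/-- Data of an irreducible character of degree `(q + 1) / 2`. -/
theorem plus_data (hodd : Odd (Fintype.card F)) (hq : 5 ≤ Fintype.card F)
    (χ : SpecialLinearGroup (Fin 2) F → ℂ)
    (hχ : Cfsg.IsIrrCharacter (SpecialLinearGroup (Fin 2) F) χ)
    (hdeg : χ 1 = (((Fintype.card F + 1) / 2 : ℕ) : ℂ)) :
    (∃ α : MulChar F ℂ, α ^ 2 = 1 ∧ α ≠ 1 ∧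
      Cfsg.classInner (Cfsg.indFun (B1 F) (aFun α)) χ ≠ 0) ∧
    ∑ x : F, χ ((u1 x : B1 F) : SpecialLinearGroup (Fin 2) F) = (Fintype.card F : ℂ) ∧
    ∑ x : F, ‖χ ((u1 x : B1 F) : SpecialLinearGroup (Fin 2) F)‖ ^ 2 =
      (Fintype.card F : ℝ) * (1 + ((Fintype.card F : ℝ) - 1) / 2) := by
  classical
  have hχc := Cfsg.Agent.Lib.Helper3_CharBridge.isCharacter_of_isIrrCharacter hχ
  have hq0 : (Fintype.card F : ℂ) ≠ 0 := by
    exact_mod_cast (Fintype.card_pos (α := F)).ne'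
  have hodd' := hodd
  obtain ⟨m, hm⟩ := hodd
  have hm2 : 2 ≤ m := by omega
  have ehalf : (Fintype.card F + 1) / 2 = m + 1 := by omega
  obtain ⟨a, b₁, b₂, h1, h2, h3, -⟩ := data_odd hodd' χ hχc
  have hdegB : χ 1 = ((a + m * (b₁ + b₂) : ℕ) : ℂ) := by
    rw [h1, hm]
    push_cast
    ring
  have e : m + 1 = a + m * (b₁ + b₂) := by
    have : ((m + 1 : ℕ) : ℂ) = ((a + m * (b₁ + b₂) : ℕ) : ℂ) := by
      rw [← hdegB, hdeg, ehalf]
    exact_mod_cast this
  have hsum0 : ∑ x : F, χ ((u1 x : B1 F) : SpecialLinearGroup (Fin 2) F) ≠ 0 := by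
    intro h0
    rw [h0] at h2
    have ha : a = 0 := by
      have : (a : ℂ) = 0 := by
        rcases mul_eq_zero.1 h2.symm with h | h
        · exact absurd h hq0
        · exact h
      exact_mod_cast this
    subst ha
    obtain ⟨B, hB⟩ : ∃ B, B = b₁ + b₂ := ⟨_, rfl⟩
    rw [← hB] at e
    have hB2 : 2 ≤ B := by
      by_contra hlt
      have h2 : B ≤ 1 := by omega
      have : m * B ≤ m * 1 := Nat.mul_le_mul_left m h2
      omega
    have : m * 2 ≤ m * B := Nat.mul_le_mul_left m hB2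
    omega
  obtain ⟨α, hν, hne, hcase⟩ := series_dichotomy χ hχ hsum0
  set R := Cfsg.indFun (B1 F) (aFun α) with hR
  have hcase' : (R - χ) 1 ≠ 0 ∧
      ∑ x : F, χ ((u1 x : B1 F) : SpecialLinearGroup (Fin 2) F) = (Fintype.card F : ℂ) := by
    rcases hcase with hχR | ⟨hν1, hs, -⟩
    · exfalso
      have h1' : χ 1 = (Fintype.card F : ℂ) + 1 := by rw [hχR, hR, indFun_aFun_one]
      rw [hdeg, ehalf, hm] at h1'
      have : m + 1 = 2 * m + 1 + 1 := by exact_mod_cast h1'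
      omega
    · exact ⟨hν1, hs⟩
  obtain ⟨hν1, hs⟩ := hcase'
  have hα2 : α ^ 2 = 1 := by
    by_contra hα2
    have hirr := (isIrrCharacter_indFun_aFun_iff α).2 hα2
    rw [Cfsg.Agent.Lib.Helper3_CharOrtho.classInner_irr hirr hχ] at hne
    have hRχ : R = χ := by
      by_contra h
      rw [if_neg h] at hne
      exact hne rfl
    apply hν1
    rw [hRχ, sub_self]
    rfl
  have hα1 : α ≠ 1 := by
    intro h
    apply hne
    rw [hR, h]
    exact not_constituent_of_one hodd' hq χ hχ hdeg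
  refine ⟨⟨α, hα2, hα1, hne⟩, hs, ?_⟩
  rw [hs] at h2
  have ha : a = 1 := by
    have : (a : ℂ) = 1 := by
      have : (Fintype.card F : ℂ) * (a : ℂ) = (Fintype.card F : ℂ) * 1 := by
        rw [← h2, mul_one]
      exact mul_left_cancel₀ hq0 this
    exact_mod_cast this
  subst ha
  have hB : b₁ + b₂ = 1 := by
    obtain ⟨B, hB⟩ : ∃ B, B = b₁ + b₂ := ⟨_, rfl⟩
    rw [← hB] at e ⊢
    have hB1 : B ≤ 1 := by
      by_contra hlt
      have h2 : 2 ≤ B := by omega
      have : m * 2 ≤ m * B := Nat.mul_le_mul_left m h2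
      omega
    have hB0 : B ≠ 0 := by
      rintro rfl
      omega
    omega
  have hsq : (b₁ : ℝ) ^ 2 + (b₂ : ℝ) ^ 2 = 1 := by
    have hcases : (b₁ = 0 ∧ b₂ = 1) ∨ (b₁ = 1 ∧ b₂ = 0) := by omega
    rcases hcases with ⟨e1, e2⟩ | ⟨e1, e2⟩ <;> rw [e1, e2] <;> norm_num
  rw [h3, hsq]
  push_cast
  ring

/-- Data of an irreducible character of degree `(q - 1) / 2`. -/
theorem minus_data (hodd : Odd (Fintype.card F)) (hq : 5 ≤ Fintype.card F)
    (χ : SpecialLinearGroup (Fin 2) F → ℂ)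
    (hχ : Cfsg.IsIrrCharacter (SpecialLinearGroup (Fin 2) F) χ)
    (hdeg : χ 1 = (((Fintype.card F - 1) / 2 : ℕ) : ℂ)) :
    ∑ x : F, χ ((u1 x : B1 F) : SpecialLinearGroup (Fin 2) F) = 0 ∧
    ∑ x : F, ‖χ ((u1 x : B1 F) : SpecialLinearGroup (Fin 2) F)‖ ^ 2 =
      (Fintype.card F : ℝ) * (((Fintype.card F : ℝ) - 1) / 2) := by
  classical
  have hχc := Cfsg.Agent.Lib.Helper3_CharBridge.isCharacter_of_isIrrCharacter hχ
  have hq0 : (Fintype.card F : ℂ) ≠ 0 := by
    exact_mod_cast (Fintype.card_pos (α := F)).ne'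
  have hodd' := hodd
  obtain ⟨m, hm⟩ := hodd
  have hm2 : 2 ≤ m := by omega
  have ehalf : (Fintype.card F - 1) / 2 = m := by omega
  obtain ⟨a, b₁, b₂, h1, h2, h3, -⟩ := data_odd hodd' χ hχc
  have hdegB : χ 1 = ((a + m * (b₁ + b₂) : ℕ) : ℂ) := by
    rw [h1, hm]
    push_cast
    ring
  have e : m = a + m * (b₁ + b₂) := by
    have : ((m : ℕ) : ℂ) = ((a + m * (b₁ + b₂) : ℕ) : ℂ) := by
      rw [← hdegB, hdeg, ehalf]
    exact_mod_cast this
  have hsum0 : ∑ x : F, χ ((u1 x : B1 F) : SpecialLinearGroup (Fin 2) F) = 0 := by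
    by_contra hne0
    obtain ⟨α, hν, hne, hcase⟩ := series_dichotomy χ hχ hne0
    rcases hcase with hχR | ⟨-, hs, -⟩
    · have h1' : χ 1 = (Fintype.card F : ℂ) + 1 := by rw [hχR, indFun_aFun_one]
      rw [hdeg, ehalf, hm] at h1'
      have : m = 2 * m + 1 + 1 := by exact_mod_cast h1'
      omega
    · rw [hs] at h2
      have ha : a = 1 := by
        have : (a : ℂ) = 1 := by
          have : (Fintype.card F : ℂ) * (a : ℂ) = (Fintype.card F : ℂ) * 1 := by
            rw [← h2, mul_one]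
          exact mul_left_cancel₀ hq0 this
        exact_mod_cast this
      subst ha
      obtain ⟨B, hB⟩ : ∃ B, B = b₁ + b₂ := ⟨_, rfl⟩
      rw [← hB] at e
      obtain h | h : B = 0 ∨ 1 ≤ B := by omega
      · subst h; omega
      · have : m * 1 ≤ m * B := Nat.mul_le_mul_left m h
        omega
  refine ⟨hsum0, ?_⟩
  rw [hsum0] at h2
  have ha : a = 0 := by
    have : (a : ℂ) = 0 := by
      rcases mul_eq_zero.1 h2.symm with h | h
      · exact absurd h hq0
      · exact h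
    exact_mod_cast this
  subst ha
  have hB : b₁ + b₂ = 1 := by
    obtain ⟨B, hB⟩ : ∃ B, B = b₁ + b₂ := ⟨_, rfl⟩
    rw [← hB] at e ⊢
    have hB1 : B ≤ 1 := by
      by_contra hlt
      have h2 : 2 ≤ B := by omega
      have : m * 2 ≤ m * B := Nat.mul_le_mul_left m h2
      omega
    have hB0 : B ≠ 0 := by
      rintro rfl
      omega
    omega
  have hsq : (b₁ : ℝ) ^ 2 + (b₂ : ℝ) ^ 2 = 1 := by
    have hcases : (b₁ = 0 ∧ b₂ = 1) ∨ (b₁ = 1 ∧ b₂ = 0) := by omega
    rcases hcases with ⟨e1, e2⟩ | ⟨e1, e2⟩ <;> rw [e1, e2] <;> norm_num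
  rw [h3, hsq]
  push_cast
  ring

omit [Fintype (SpecialLinearGroup (Fin 2) F)] in
theorem ringChar_ne_two_of_odd (hodd : Odd (Fintype.card F)) : ringChar F ≠ 2 := by
  intro h
  have := FiniteField.even_card_of_char_two h
  rcases hodd with ⟨k, hk⟩
  omega

/-- The two values at the transvections of an irreducible character of degree `(q + 1) / 2`. -/
theorem plus_values (hodd : Odd (Fintype.card F)) (hq : 5 ≤ Fintype.card F)
    (χ : SpecialLinearGroup (Fin 2) F → ℂ)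
    (hχ : Cfsg.IsIrrCharacter (SpecialLinearGroup (Fin 2) F) χ)
    (hdeg : χ 1 = (((Fintype.card F + 1) / 2 : ℕ) : ℂ)) (e : F) (he : ¬ IsSquare e) :
    χ ((u1 (1 : F) : B1 F) : SpecialLinearGroup (Fin 2) F) +
      χ ((u1 e : B1 F) : SpecialLinearGroup (Fin 2) F) = 1 ∧
    ‖χ ((u1 (1 : F) : B1 F) : SpecialLinearGroup (Fin 2) F)‖ ^ 2 +
      ‖χ ((u1 e : B1 F) : SpecialLinearGroup (Fin 2) F)‖ ^ 2 = ((Fintype.card F : ℝ) + 1) / 2 := by
  have hχc := Cfsg.Agent.Lib.Helper3_CharBridge.isCharacter_of_isIrrCharacter hχ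
  have hcf := Cfsg.Agent.Lib.Helper3_CharBridge.isClassFunction_of_isCharacter hχc
  have hF := ringChar_ne_two_of_odd hodd
  obtain ⟨-, hs, hn⟩ := plus_data hodd hq χ hχ hdeg
  obtain ⟨m, hm⟩ := hodd
  have hm2 : 2 ≤ m := by omega
  have ehalf : (Fintype.card F + 1) / 2 = m + 1 := by omega
  rw [sum_u1_two_values hF hcf e he, hdeg, ehalf, hm] at hs
  rw [sum_norm_u1_two_values hF hcf e he, hdeg, ehalf, Complex.norm_natCast, hm] at hn
  set v := χ ((u1 (1 : F) : B1 F) : SpecialLinearGroup (Fin 2) F)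
  set v' := χ ((u1 e : B1 F) : SpecialLinearGroup (Fin 2) F)
  have hmC : (m : ℂ) ≠ 0 := by
    have : m ≠ 0 := by omega
    exact_mod_cast this
  have hmR : (m : ℝ) ≠ 0 := by
    have : m ≠ 0 := by omega
    exact_mod_cast this
  constructor
  · have : (m : ℂ) * (v + v') = (m : ℂ) * 1 := by
      push_cast at hs
      linear_combination hs
    exact mul_left_cancel₀ hmC this
  · have : (m : ℝ) * (‖v‖ ^ 2 + ‖v'‖ ^ 2) = (m : ℝ) * ((((2 * m + 1 : ℕ) : ℝ) + 1) / 2) := by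
      push_cast at hn ⊢
      linear_combination hn
    rw [hm]
    exact mul_left_cancel₀ hmR this

/-- The two values at the transvections of an irreducible character of degree `(q - 1) / 2`. -/
theorem minus_values (hodd : Odd (Fintype.card F)) (hq : 5 ≤ Fintype.card F)
    (χ : SpecialLinearGroup (Fin 2) F → ℂ)
    (hχ : Cfsg.IsIrrCharacter (SpecialLinearGroup (Fin 2) F) χ)
    (hdeg : χ 1 = (((Fintype.card F - 1) / 2 : ℕ) : ℂ)) (e : F) (he : ¬ IsSquare e) :
    χ ((u1 (1 : F) : B1 F) : SpecialLinearGroup (Fin 2) F) +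
      χ ((u1 e : B1 F) : SpecialLinearGroup (Fin 2) F) = -1 ∧
    ‖χ ((u1 (1 : F) : B1 F) : SpecialLinearGroup (Fin 2) F)‖ ^ 2 +
      ‖χ ((u1 e : B1 F) : SpecialLinearGroup (Fin 2) F)‖ ^ 2 = ((Fintype.card F : ℝ) + 1) / 2 := by
  have hχc := Cfsg.Agent.Lib.Helper3_CharBridge.isCharacter_of_isIrrCharacter hχ
  have hcf := Cfsg.Agent.Lib.Helper3_CharBridge.isClassFunction_of_isCharacter hχc
  have hF := ringChar_ne_two_of_odd hodd
  obtain ⟨hs, hn⟩ := minus_data hodd hq χ hχ hdeg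
  obtain ⟨m, hm⟩ := hodd
  have hm2 : 2 ≤ m := by omega
  have ehalf : (Fintype.card F - 1) / 2 = m := by omega
  rw [sum_u1_two_values hF hcf e he, hdeg, ehalf, hm] at hs
  rw [sum_norm_u1_two_values hF hcf e he, hdeg, ehalf, Complex.norm_natCast, hm] at hn
  set v := χ ((u1 (1 : F) : B1 F) : SpecialLinearGroup (Fin 2) F)
  set v' := χ ((u1 e : B1 F) : SpecialLinearGroup (Fin 2) F)
  have hmC : (m : ℂ) ≠ 0 := by
    have : m ≠ 0 := by omega
    exact_mod_cast this
  have hmR : (m : ℝ) ≠ 0 := by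
    have : m ≠ 0 := by omega
    exact_mod_cast this
  constructor
  · have : (m : ℂ) * (v + v') = (m : ℂ) * (-1) := by
      push_cast at hs
      linear_combination hs
    exact mul_left_cancel₀ hmC this
  · have : (m : ℝ) * (‖v‖ ^ 2 + ‖v'‖ ^ 2) = (m : ℝ) * ((((2 * m + 1 : ℕ) : ℝ) + 1) / 2) := by
      push_cast at hn ⊢
      linear_combination hn
    rw [hm]
    exact mul_left_cancel₀ hmR this

omit [Fintype (SpecialLinearGroup (Fin 2) F)] in
/-- The values of a multiplicative character of order two. -/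
theorem quadratic_mulChar_apply {α : MulChar F ℂ} (hα : α ^ 2 = 1) (hα1 : α ≠ 1) (x : F)
    (hx : x ≠ 0) : (IsSquare x → α x = 1) ∧ (¬ IsSquare x → α x = -1) := by
  have hsq : ∀ y : F, y ≠ 0 → α y ^ 2 = 1 := by
    intro y hy
    have := congrArg (fun γ : MulChar F ℂ => γ y) hα
    beta_reduce at this
    rw [MulChar.pow_apply' α (by norm_num) y, MulChar.one_apply hy.isUnit] at this
    exact this
  have hsquare : ∀ y : F, y ≠ 0 → IsSquare y → α y = 1 := by
    intro y hy hys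
    obtain ⟨d, rfl⟩ := hys
    have hd : d ≠ 0 := by
      rintro rfl
      simp at hy
    rw [map_mul, ← sq]
    exact hsq d hd
  obtain ⟨x₀, hx₀⟩ := (MulChar.ne_one_iff (χ := α)).1 hα1
  have hx₀0 : (x₀ : F) ≠ 0 := x₀.ne_zero
  have hx₀ns : ¬ IsSquare (x₀ : F) := fun h => hx₀ (hsquare _ hx₀0 h)
  have hx₀v : α (x₀ : F) = -1 := by
    have := hsq _ hx₀0
    rcases sq_eq_one_iff.mp this with h | h
    · exact absurd h hx₀
    · exact h
  refine ⟨hsquare x hx, fun hns => ?_⟩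
  have hprod := Cfsg.Agent.S2301.isSquare_mul_of_not x (x₀ : F) hns hx₀ns
  have h1 := hsquare _ (mul_ne_zero hx hx₀0) hprod
  rw [map_mul, hx₀v] at h1
  linear_combination -h1

omit [Fintype (SpecialLinearGroup (Fin 2) F)] in
/-- There is only one multiplicative character of order two. -/
theorem quadratic_mulChar_unique {α β : MulChar F ℂ} (hα : α ^ 2 = 1) (hα1 : α ≠ 1)
    (hβ : β ^ 2 = 1) (hβ1 : β ≠ 1) : α = β := by
  apply MulChar.ext
  intro a
  by_cases h : IsSquare (a : F)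
  · rw [(quadratic_mulChar_apply hα hα1 _ a.ne_zero).1 h,
      (quadratic_mulChar_apply hβ hβ1 _ a.ne_zero).1 h]
  · rw [(quadratic_mulChar_apply hα hα1 _ a.ne_zero).2 h,
      (quadratic_mulChar_apply hβ hβ1 _ a.ne_zero).2 h]

/-- Two different irreducible characters of degree `(q + 1) / 2` add up to a principal series
character. -/
theorem plus_pair (hodd : Odd (Fintype.card F)) (hq : 5 ≤ Fintype.card F)
    (χ₁ χ₂ : SpecialLinearGroup (Fin 2) F → ℂ)
    (h₁ : Cfsg.IsIrrCharacter (SpecialLinearGroup (Fin 2) F) χ₁)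
    (h₂ : Cfsg.IsIrrCharacter (SpecialLinearGroup (Fin 2) F) χ₂) (hne : χ₁ ≠ χ₂)
    (hdeg₁ : χ₁ 1 = (((Fintype.card F + 1) / 2 : ℕ) : ℂ))
    (hdeg₂ : χ₂ 1 = (((Fintype.card F + 1) / 2 : ℕ) : ℂ)) :
    ∃ α : MulChar F ℂ, α ^ 2 = 1 ∧ α ≠ 1 ∧ Cfsg.indFun (B1 F) (aFun α) = χ₁ + χ₂ := by
  classical
  obtain ⟨⟨α, hα2, hα1, hin₁⟩, -, -⟩ := plus_data hodd hq χ₁ h₁ hdeg₁
  obtain ⟨⟨β, hβ2, hβ1, hin₂⟩, -, -⟩ := plus_data hodd hq χ₂ h₂ hdeg₂
  have hβα : β = α := quadratic_mulChar_unique hβ2 hβ1 hα2 hα1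
  subst hβα
  refine ⟨β, hβ2, hβ1, ?_⟩
  have hαinv : β = β⁻¹ := by
    rw [sq, mul_eq_one_iff_eq_inv] at hβ2
    exact hβ2
  have hRR : Cfsg.classInner (Cfsg.indFun (B1 F) (aFun β)) (Cfsg.indFun (B1 F) (aFun β)) = 2 := by
    rw [classInner_indFun_aFun, if_pos rfl, if_pos hαinv]
    norm_num
  obtain ⟨ψ₁, ψ₂, k₁, k₂, hψne, hsum⟩ := exists_two_irr (isCharacter_indFun_aFun β) hRR
  rw [hsum] at hin₁ hin₂ ⊢
  rcases eq_or_eq_of_classInner_add k₁ k₂ h₁ hin₁ with e1 | e1 <;>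
  rcases eq_or_eq_of_classInner_add k₁ k₂ h₂ hin₂ with e2 | e2
  · exact absurd (e1.trans e2.symm) hne
  · rw [e1, e2]
  · rw [e1, e2, add_comm]
  · exact absurd (e1.trans e2.symm) hne

end values

section general

variable {G : Type*} [Group G]

/-- Multiplying by a central element does not change the centralizer. -/
theorem centralizer_mul_central (g z : G) (hz : ∀ y : G, y * z = z * y) :
    Subgroup.centralizer ({g * z} : Set G) = Subgroup.centralizer ({g} : Set G) := by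
  ext x
  simp only [Subgroup.mem_centralizer_iff, Set.mem_singleton_iff, forall_eq]
  constructor
  · intro h
    have h1 : g * x * z = x * g * z := by
      calc g * x * z = g * (x * z) := by group
        _ = g * (z * x) := by rw [hz x]
        _ = g * z * x := by group
        _ = x * (g * z) := h
        _ = x * g * z := by group
    exact mul_right_cancel h1
  · intro h
    calc g * z * x = g * (z * x) := by group
      _ = g * (x * z) := by rw [hz x]
      _ = (g * x) * z := by group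
      _ = (x * g) * z := by rw [h]
      _ = x * (g * z) := by group

end general

variable {F : Type*} [Field F]

/-- The central element `-1`. -/
noncomputable def zc : SpecialLinearGroup (Fin 2) F :=
  ((b1Mat (-1 : Fˣ) 0 : B1 F) : SpecialLinearGroup (Fin 2) F)

theorem zc_val : ((zc : SpecialLinearGroup (Fin 2) F) : Matrix (Fin 2) (Fin 2) F) =
    !![-1, 0; 0, -1] := by
  rw [zc, b1Mat_val]
  simp

theorem zc_central (y : SpecialLinearGroup (Fin 2) F) : y * zc = zc * y :=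
  b1Mat_central (-1) (by simp) y

theorem zc_mul_self : (zc : SpecialLinearGroup (Fin 2) F) * zc = 1 := by
  apply Matrix.SpecialLinearGroup.ext
  intro i j
  rw [Matrix.SpecialLinearGroup.coe_mul, zc_val]
  fin_cases i <;> fin_cases j <;> simp [Matrix.mul_apply, Fin.sum_univ_two]

theorem sig_zc (e : Fˣ) : sig e (zc : SpecialLinearGroup (Fin 2) F) = zc := by
  apply Matrix.SpecialLinearGroup.ext
  intro i j
  rw [sig_val, zc_val]
  fin_cases i <;> fin_cases j <;> simp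

/-- Conjugate elements of `SL₂` have the same trace. -/
theorem trace_eq_of_isConj {a b : SpecialLinearGroup (Fin 2) F} (h : IsConj a b) :
    (a : Matrix (Fin 2) (Fin 2) F).trace = (b : Matrix (Fin 2) (Fin 2) F).trace := by
  obtain ⟨c, hc⟩ := isConj_iff.1 h
  rw [← hc, Matrix.SpecialLinearGroup.coe_mul, Matrix.SpecialLinearGroup.coe_mul,
    Matrix.trace_mul_comm, ← mul_assoc, ← Matrix.SpecialLinearGroup.coe_mul, inv_mul_cancel,
    Matrix.SpecialLinearGroup.coe_one, one_mul]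

theorem not_isConj_u_uz (h2 : (2 : F) ≠ 0) :
    ¬ IsConj ((u1 (1 : F) : B1 F) : SpecialLinearGroup (Fin 2) F)
      (((u1 (1 : F) : B1 F) : SpecialLinearGroup (Fin 2) F) * zc) := by
  intro h
  have := trace_eq_of_isConj h
  rw [Matrix.SpecialLinearGroup.coe_mul, u1_val, zc_val, Matrix.trace_fin_two,
    Matrix.trace_fin_two] at this
  simp [Matrix.mul_apply, Fin.sum_univ_two] at this
  apply h2
  have h4 : (2 : F) * 2 = 0 := by linear_combination this
  rcases mul_eq_zero.1 h4 with h | h <;> exact h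

/-- The centralizer of a transvection has at most `2q` elements. -/
theorem card_centralizer_u1_le [Fintype F] :
    Nat.card (Subgroup.centralizer
      ({((u1 (1 : F) : B1 F) : SpecialLinearGroup (Fin 2) F)} : Set _)) ≤
      2 * Fintype.card F := by
  classical
  set C := Subgroup.centralizer
    ({((u1 (1 : F) : B1 F) : SpecialLinearGroup (Fin 2) F)} : Set _) with hC
  have hmem : ∀ g : C, ((g : SpecialLinearGroup (Fin 2) F) : Matrix (Fin 2) (Fin 2) F) 1 0 = 0 ∧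
      ((g : SpecialLinearGroup (Fin 2) F) : Matrix (Fin 2) (Fin 2) F) 1 1 =
        ((g : SpecialLinearGroup (Fin 2) F) : Matrix (Fin 2) (Fin 2) F) 0 0 ∧
      (((g : SpecialLinearGroup (Fin 2) F) : Matrix (Fin 2) (Fin 2) F) 0 0 = 1 ∨
        ((g : SpecialLinearGroup (Fin 2) F) : Matrix (Fin 2) (Fin 2) F) 0 0 = -1) := by
    rintro ⟨g, hg⟩
    rw [hC, Subgroup.mem_centralizer_iff] at hg
    have h := hg _ rfl
    have hM := congrArg (fun x : SpecialLinearGroup (Fin 2) F =>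
      (x : Matrix (Fin 2) (Fin 2) F)) h
    simp only [Matrix.SpecialLinearGroup.coe_mul, u1_val] at hM
    have h00 := congrFun (congrFun hM 0) 0
    have h01 := congrFun (congrFun hM 0) 1
    simp [Matrix.mul_apply, Fin.sum_univ_two] at h00 h01
    have hdet := g.det_coe
    rw [Matrix.det_fin_two] at hdet
    refine ⟨h00, ?_, ?_⟩
    · simp only
      linear_combination h01
    · simp only
      have : (g : Matrix (Fin 2) (Fin 2) F) 0 0 ^ 2 = 1 := by
        have h11 : (g : Matrix (Fin 2) (Fin 2) F) 1 1 = (g : Matrix (Fin 2) (Fin 2) F) 0 0 := by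
          linear_combination h01
        rw [h11, h00] at hdet
        linear_combination hdet
      exact sq_eq_one_iff.mp this
  let f : C → Bool × F := fun g =>
    (decide (((g : SpecialLinearGroup (Fin 2) F) : Matrix (Fin 2) (Fin 2) F) 0 0 = 1),
      ((g : SpecialLinearGroup (Fin 2) F) : Matrix (Fin 2) (Fin 2) F) 0 1)
  have hf : Function.Injective f := by
    intro g g' hgg
    simp only [f, Prod.mk.injEq, decide_eq_decide] at hgg
    obtain ⟨hd, h01⟩ := hgg
    obtain ⟨a10, a11, a00⟩ := hmem g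
    obtain ⟨b10, b11, b00⟩ := hmem g'
    have h00 : ((g : SpecialLinearGroup (Fin 2) F) : Matrix (Fin 2) (Fin 2) F) 0 0 =
        ((g' : SpecialLinearGroup (Fin 2) F) : Matrix (Fin 2) (Fin 2) F) 0 0 := by
      rcases a00 with h | h
      · rw [h, hd.1 h]
      · rcases b00 with h' | h'
        · have h1 := hd.2 h'
          rw [h1, h']
        · rw [h, h']
    apply Subtype.ext
    apply Matrix.SpecialLinearGroup.ext
    intro i j
    fin_cases i <;> fin_cases j
    · exact h00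
    · exact h01
    · exact a10.trans b10.symm
    · simp only [Fin.mk_one, Fin.isValue]
      rw [a11, b11]
      exact h00
  have := Nat.card_le_card_of_injective f hf
  rw [Nat.card_prod, Nat.card_eq_fintype_card (α := Bool), Nat.card_eq_fintype_card (α := F),
    Fintype.card_bool] at this
  exact this

/-- The central sign of an irreducible character. -/
theorem exists_central_sign {χ : SpecialLinearGroup (Fin 2) F → ℂ}
    (hχ : Cfsg.IsIrrCharacter (SpecialLinearGroup (Fin 2) F) χ) :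
    ∃ ε : ℝ, ε ^ 2 = 1 ∧ ∀ a : SpecialLinearGroup (Fin 2) F, χ (a * zc) = (ε : ℂ) * χ a := by
  have h1 := Cfsg.Agent.Lib.Helper78_CentralChar.isIrrCharacter_one_ne_zero hχ
  obtain ⟨n, ρ, hρ, rfl⟩ := hχ
  obtain ⟨c, hc⟩ := Cfsg.Agent.S4566.char_mul_central ρ hρ zc
    (Submonoid.mem_center_iff.2 (fun g => (zc_central g)))
  have hc2 : c ^ 2 = 1 := by
    have h2 := hc (1 * zc)
    rw [mul_assoc, zc_mul_self, hc 1] at h2
    have : ρ.character (1 * 1) * (c ^ 2 - 1) = 0 := by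
      rw [mul_one] at h2 ⊢
      linear_combination -h2
    rw [mul_one] at this
    rcases mul_eq_zero.1 this with h | h
    · exact absurd h h1
    · linear_combination h
  rcases sq_eq_one_iff.mp hc2 with h | h
  · exact ⟨1, by norm_num, fun a => by rw [hc a, h]; norm_num⟩
  · exact ⟨-1, by norm_num, fun a => by rw [hc a, h]; norm_num⟩

/-- A multiplicative character of order two exists in odd characteristic. -/
theorem exists_quadratic_mulChar [Fintype F] (hF : ringChar F ≠ 2) :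
    ∃ α : MulChar F ℂ, α ^ 2 = 1 ∧ α ≠ 1 := by
  classical
  refine ⟨(quadraticChar F).ringHomComp (Int.castRingHom ℂ), ?_, ?_⟩
  · exact ((quadraticChar_isQuadratic F).comp _).sq_eq_one
  · exact (MulChar.ringHomComp_ne_one_iff (f := Int.castRingHom ℂ) Int.cast_injective).2
      (quadraticChar_ne_one hF)

section final

variable [Fintype F] [Fintype (SpecialLinearGroup (Fin 2) F)]

/-- The two irreducible characters of degree `(q + 1) / 2`, with the data needed below. -/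
theorem halves_package (hodd : Odd (Fintype.card F)) (hq : 5 ≤ Fintype.card F) :
    ∃ ψ₁ ψ₂ : SpecialLinearGroup (Fin 2) F → ℂ,
      Cfsg.IsIrrCharacter (SpecialLinearGroup (Fin 2) F) ψ₁ ∧
      Cfsg.IsIrrCharacter (SpecialLinearGroup (Fin 2) F) ψ₂ ∧ ψ₁ ≠ ψ₂ ∧
      ψ₁ 1 = (((Fintype.card F + 1) / 2 : ℕ) : ℂ) ∧ ψ₂ 1 = (((Fintype.card F + 1) / 2 : ℕ) : ℂ) ∧
      (∃ ε : ℝ, ε ^ 2 = 1 ∧
        (∀ a : SpecialLinearGroup (Fin 2) F, ψ₁ (a * zc) = (ε : ℂ) * ψ₁ a) ∧
        (∀ a : SpecialLinearGroup (Fin 2) F, ψ₂ (a * zc) = (ε : ℂ) * ψ₂ a)) ∧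
      ‖ψ₁ ((u1 (1 : F) : B1 F) : SpecialLinearGroup (Fin 2) F)‖ ^ 2 +
        ‖ψ₂ ((u1 (1 : F) : B1 F) : SpecialLinearGroup (Fin 2) F)‖ ^ 2 =
        ((Fintype.card F : ℝ) + 1) / 2 := by
  classical
  have hF := ringChar_ne_two_of_odd hodd
  obtain ⟨e, he⟩ := FiniteField.exists_nonsquare hF
  obtain ⟨α, hα2, hα1⟩ := exists_quadratic_mulChar hF
  obtain ⟨ψ₁, ψ₂, k₁, k₂, hne, hsum, hd₁, hd₂, x, hx⟩ := halves hodd α hα2 hα1
  refine ⟨ψ₁, ψ₂, k₁, k₂, hne, hd₁, hd₂, ?_, ?_⟩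
  · obtain ⟨ε₁, hε₁, hs₁⟩ := exists_central_sign k₁
    obtain ⟨ε₂, hε₂, hs₂⟩ := exists_central_sign k₂
    have hGL : SpecialLinearGroup.toGL (zc : SpecialLinearGroup (Fin 2) F) =
        x * SpecialLinearGroup.toGL zc * x⁻¹ := by
      rw [eq_mul_inv_iff_mul_eq]
      apply Units.ext
      rw [Units.val_mul, Units.val_mul]
      change ((zc : SpecialLinearGroup (Fin 2) F) : Matrix (Fin 2) (Fin 2) F) * _ =
        _ * ((zc : SpecialLinearGroup (Fin 2) F) : Matrix (Fin 2) (Fin 2) F)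
      rw [zc_val]
      ext i j
      fin_cases i <;> fin_cases j <;> simp [Matrix.mul_apply, Fin.sum_univ_two]
    have hz := hx zc zc hGL
    have h1 := hs₁ 1
    have h2 := hs₂ 1
    rw [one_mul] at h1 h2
    rw [hz, h1, hd₁, hd₂] at h2
    have hne0 : (((Fintype.card F + 1) / 2 : ℕ) : ℂ) ≠ 0 := by
      have : (Fintype.card F + 1) / 2 ≠ 0 := by omega
      exact_mod_cast this
    have hεε : (ε₁ : ℂ) = (ε₂ : ℂ) := mul_right_cancel₀ hne0 h2
    have hεε' : ε₁ = ε₂ := by exact_mod_cast hεε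
    subst hεε'
    exact ⟨ε₁, hε₁, hs₁, hs₂⟩
  · obtain ⟨hv, hn⟩ := plus_values hodd hq ψ₁ k₁ hd₁ e he
    have hR := congrFun hsum ((u1 (1 : F) : B1 F) : SpecialLinearGroup (Fin 2) F)
    rw [indFun_aFun_u1 α 1 one_ne_zero, Pi.add_apply] at hR
    have : ψ₂ ((u1 (1 : F) : B1 F) : SpecialLinearGroup (Fin 2) F) =
        ψ₁ ((u1 e : B1 F) : SpecialLinearGroup (Fin 2) F) := by
      linear_combination -hR - hv
    rw [this]
    exact hn

/-- The two values of an irreducible character of degree `(q - 1) / 2` differ. -/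
theorem minus_values_ne (hodd : Odd (Fintype.card F)) (hq : 5 ≤ Fintype.card F)
    (χ : SpecialLinearGroup (Fin 2) F → ℂ)
    (hχ : Cfsg.IsIrrCharacter (SpecialLinearGroup (Fin 2) F) χ)
    (hdeg : χ 1 = (((Fintype.card F - 1) / 2 : ℕ) : ℂ)) (e : F) (he : ¬ IsSquare e) :
    χ ((u1 (1 : F) : B1 F) : SpecialLinearGroup (Fin 2) F) ≠
      χ ((u1 e : B1 F) : SpecialLinearGroup (Fin 2) F) := by
  have hχc := Cfsg.Agent.Lib.Helper3_CharBridge.isCharacter_of_isIrrCharacter hχ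
  obtain ⟨hv, hn⟩ := minus_values hodd hq χ hχ hdeg e he
  have hsq := half_values_sq hodd hχc e he (-1) (by norm_num) hv hn
  intro h
  rw [← h] at hv
  have h0 : 2 * χ ((u1 (1 : F) : B1 F) : SpecialLinearGroup (Fin 2) F) - -1 = 0 := by
    linear_combination hv
  rw [h0] at hsq
  have hq0 : (Fintype.card F : ℂ) ≠ 0 := by
    exact_mod_cast (Fintype.card_pos (α := F)).ne'
  have : (-1 : ℂ) ^ ((Fintype.card F - 1) / 2) ≠ 0 := pow_ne_zero _ (by norm_num)
  exact mul_ne_zero this hq0 (by rw [← hsq]; norm_num)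

/-- Two different irreducible characters of degree `(q - 1) / 2` take different values at the
transvection. -/
theorem minus_pair (hodd : Odd (Fintype.card F)) (hq : 5 ≤ Fintype.card F)
    (χ₁ χ₂ : SpecialLinearGroup (Fin 2) F → ℂ)
    (h₁ : Cfsg.IsIrrCharacter (SpecialLinearGroup (Fin 2) F) χ₁)
    (h₂ : Cfsg.IsIrrCharacter (SpecialLinearGroup (Fin 2) F) χ₂) (hne : χ₁ ≠ χ₂)
    (hdeg₁ : χ₁ 1 = (((Fintype.card F - 1) / 2 : ℕ) : ℂ))
    (hdeg₂ : χ₂ 1 = (((Fintype.card F - 1) / 2 : ℕ) : ℂ)) :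
    χ₁ ((u1 (1 : F) : B1 F) : SpecialLinearGroup (Fin 2) F) +
      χ₂ ((u1 (1 : F) : B1 F) : SpecialLinearGroup (Fin 2) F) = -1 := by
  classical
  have hF := ringChar_ne_two_of_odd hodd
  have h2F : (2 : F) ≠ 0 := Ring.two_ne_zero hF
  obtain ⟨e, he⟩ := FiniteField.exists_nonsquare hF
  have he0 : e ≠ 0 := by
    rintro rfl
    exact he IsSquare.zero
  set u : SpecialLinearGroup (Fin 2) F := ((u1 (1 : F) : B1 F) : SpecialLinearGroup (Fin 2) F)
    with hu
  set u' : SpecialLinearGroup (Fin 2) F := ((u1 e : B1 F) : SpecialLinearGroup (Fin 2) F)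
    with hu'
  have hnc : ¬ IsConj u (u * zc) := not_isConj_u_uz h2F
  have hC1 : (Nat.card (Subgroup.centralizer ({u} : Set (SpecialLinearGroup (Fin 2) F))) : ℝ) ≤
      2 * (Fintype.card F : ℝ) := by
    exact_mod_cast card_centralizer_u1_le (F := F)
  have hC2 : (Nat.card (Subgroup.centralizer
      ({u * zc} : Set (SpecialLinearGroup (Fin 2) F))) : ℝ) ≤ 2 * (Fintype.card F : ℝ) := by
    rw [centralizer_mul_central u zc zc_central]
    exact hC1
  -- the twist by the diagonal automorphism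
  set σ := sig (Units.mk0 e he0) with hσ
  have hσu : σ u = u' := by
    rw [hσ, hu, sig_u1, Units.val_mk0, mul_one]
  have twist_irr : ∀ χ : SpecialLinearGroup (Fin 2) F → ℂ,
      Cfsg.IsIrrCharacter (SpecialLinearGroup (Fin 2) F) χ →
      Cfsg.IsIrrCharacter (SpecialLinearGroup (Fin 2) F) (fun g => χ (σ g)) :=
    fun χ hχ => isIrrCharacter_comp_equiv σ hχ
  have twist_sign : ∀ (χ : SpecialLinearGroup (Fin 2) F → ℂ) (ε : ℝ),
      (∀ a : SpecialLinearGroup (Fin 2) F, χ (a * zc) = (ε : ℂ) * χ a) →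
      (fun g => χ (σ g)) (u * zc) = (ε : ℂ) * (fun g => χ (σ g)) u := by
    intro χ ε hs
    change χ (σ (u * zc)) = (ε : ℂ) * χ (σ u)
    rw [map_mul, hσ, sig_zc, hs]
  -- data of the two characters
  obtain ⟨hv₁, hn₁⟩ := minus_values hodd hq χ₁ h₁ hdeg₁ e he
  obtain ⟨hv₂, hn₂⟩ := minus_values hodd hq χ₂ h₂ hdeg₂ e he
  have hvne₁ := minus_values_ne hodd hq χ₁ h₁ hdeg₁ e he
  have hvne₂ := minus_values_ne hodd hq χ₂ h₂ hdeg₂ e he
  rw [← hu, ← hu'] at hv₁ hn₁ hv₂ hn₂ hvne₁ hvne₂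
  have hsq₁ := half_values_sq hodd
    (Cfsg.Agent.Lib.Helper3_CharBridge.isCharacter_of_isIrrCharacter h₁) e he (-1)
    (by norm_num) hv₁ hn₁
  have hsq₂ := half_values_sq hodd
    (Cfsg.Agent.Lib.Helper3_CharBridge.isCharacter_of_isIrrCharacter h₂) e he (-1)
    (by norm_num) hv₂ hn₂
  rw [← hu] at hsq₁ hsq₂
  have hprod : (χ₁ u - χ₂ u) * (χ₁ u + χ₂ u + 1) = 0 := by
    linear_combination (1 / 4 : ℂ) * hsq₁ - (1 / 4 : ℂ) * hsq₂
  rcases mul_eq_zero.1 hprod with hsame | hgood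
  swap
  · linear_combination hgood
  exfalso
  have hvv : χ₁ u = χ₂ u := by linear_combination hsame
  have hvv' : χ₁ u' = χ₂ u' := by linear_combination hv₁ - hv₂ - hvv
  obtain ⟨m, hm⟩ := hodd
  have ehalf1 : (Fintype.card F - 1) / 2 = m := by omega
  have ehalf2 : (Fintype.card F + 1) / 2 = m + 1 := by omega
  -- the characters of degree `(q + 1) / 2`
  obtain ⟨ψ₁, ψ₂, k₁, k₂, hψne, hd₁, hd₂, ⟨εψ, hεψ, hsψ₁, hsψ₂⟩, hnψ⟩ :=
    halves_package ⟨m, hm⟩ hq
  rw [← hu] at hnψ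
  have hdegne : ∀ (χ ψ : SpecialLinearGroup (Fin 2) F → ℂ),
      χ 1 = (((Fintype.card F - 1) / 2 : ℕ) : ℂ) → ψ 1 = (((Fintype.card F + 1) / 2 : ℕ) : ℂ) →
      χ ≠ ψ := by
    intro χ ψ hc hp h
    rw [h, hp, ehalf1, ehalf2] at hc
    have : m + 1 = m := by exact_mod_cast hc
    omega
  have htw1 : ∀ χ : SpecialLinearGroup (Fin 2) F → ℂ, (fun g => χ (σ g)) 1 = χ 1 := by
    intro χ
    change χ (σ 1) = χ 1
    rw [map_one]
  -- the central sign differs from the sign of the characters of degree `(q + 1) / 2`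
  have claimA : ∀ (χ : SpecialLinearGroup (Fin 2) F → ℂ),
      Cfsg.IsIrrCharacter (SpecialLinearGroup (Fin 2) F) χ →
      χ 1 = (((Fintype.card F - 1) / 2 : ℕ) : ℂ) →
      ‖χ u‖ ^ 2 + ‖χ u'‖ ^ 2 = ((Fintype.card F : ℝ) + 1) / 2 → χ u ≠ χ u' →
      ∀ ε : ℝ, ε ^ 2 = 1 →
      (∀ a : SpecialLinearGroup (Fin 2) F, χ (a * zc) = (ε : ℂ) * χ a) → ε ≠ εψ := by
    intro χ hχ hdeg hn hvne ε hε hs hεε
    subst hεε
    have hb := four_column_bound u (u * zc) hnc ε hε χ (fun g => χ (σ g)) ψ₁ ψ₂ hχ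
      (twist_irr χ hχ) k₁ k₂
      (by
        intro h
        have this : χ u = χ (σ u) := congrFun h u
        rw [hσu] at this
        exact hvne this)
      (hdegne χ ψ₁ hdeg hd₁) (hdegne χ ψ₂ hdeg hd₂)
      (hdegne _ ψ₁ ((htw1 χ).trans hdeg) hd₁) (hdegne _ ψ₂ ((htw1 χ).trans hdeg) hd₂) hψne
      (hs u) (twist_sign χ ε hs) (hsψ₁ u) (hsψ₂ u)
    have hb' : 4 * (‖χ u‖ ^ 2 + ‖χ u'‖ ^ 2 + ‖ψ₁ u‖ ^ 2 + ‖ψ₂ u‖ ^ 2) ≤
        (Nat.card (Subgroup.centralizer ({u} : Set (SpecialLinearGroup (Fin 2) F))) : ℝ) +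
        (Nat.card (Subgroup.centralizer
          ({u * zc} : Set (SpecialLinearGroup (Fin 2) F))) : ℝ) := by
      rw [← hσu]
      exact hb
    linarith
  obtain ⟨ε₁, hε₁, hs₁⟩ := exists_central_sign h₁
  obtain ⟨ε₂, hε₂, hs₂⟩ := exists_central_sign h₂
  have hA₁ := claimA χ₁ h₁ hdeg₁ hn₁ hvne₁ ε₁ hε₁ hs₁
  have hA₂ := claimA χ₂ h₂ hdeg₂ hn₂ hvne₂ ε₂ hε₂ hs₂
  have hεeq : ε₁ = ε₂ := by
    have e1 : ε₁ = 1 ∨ ε₁ = -1 := sq_eq_one_iff.mp hε₁
    have e2 : ε₂ = 1 ∨ ε₂ = -1 := sq_eq_one_iff.mp hε₂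
    have e3 : εψ = 1 ∨ εψ = -1 := sq_eq_one_iff.mp hεψ
    rcases e1 with e1 | e1 <;> rcases e2 with e2 | e2
    · rw [e1, e2]
    · exfalso
      rcases e3 with e3 | e3
      · exact hA₁ (e1.trans e3.symm)
      · exact hA₂ (e2.trans e3.symm)
    · exfalso
      rcases e3 with e3 | e3
      · exact hA₂ (e2.trans e3.symm)
      · exact hA₁ (e1.trans e3.symm)
    · rw [e1, e2]
  subst hεeq
  have hb := four_column_bound u (u * zc) hnc ε₁ hε₁ χ₁ χ₂ (fun g => χ₁ (σ g))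
    (fun g => χ₂ (σ g)) h₁ h₂ (twist_irr χ₁ h₁) (twist_irr χ₂ h₂) hne
    (by
      intro h
      have this : χ₁ u = χ₁ (σ u) := congrFun h u
      rw [hσu] at this
      exact hvne₁ this)
    (by
      intro h
      have this : χ₁ u = χ₂ (σ u) := congrFun h u
      rw [hσu, ← hvv'] at this
      exact hvne₁ this)
    (by
      intro h
      have this : χ₂ u = χ₁ (σ u) := congrFun h u
      rw [hσu, hvv'] at this
      exact hvne₂ this)
    (by
      intro h
      have this : χ₂ u = χ₂ (σ u) := congrFun h u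
      rw [hσu] at this
      exact hvne₂ this)
    (by
      intro h
      apply hne
      funext g
      have this : χ₁ (σ (σ.symm g)) = χ₂ (σ (σ.symm g)) := congrFun h (σ.symm g)
      rw [MulEquiv.apply_symm_apply] at this
      exact this)
    (hs₁ u) (hs₂ u) (twist_sign χ₁ ε₁ hs₁) (twist_sign χ₂ ε₁ hs₂)
  have hb' : 4 * (‖χ₁ u‖ ^ 2 + ‖χ₂ u‖ ^ 2 + ‖χ₁ u'‖ ^ 2 + ‖χ₂ u'‖ ^ 2) ≤
      (Nat.card (Subgroup.centralizer ({u} : Set (SpecialLinearGroup (Fin 2) F))) : ℝ) +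
      (Nat.card (Subgroup.centralizer
        ({u * zc} : Set (SpecialLinearGroup (Fin 2) F))) : ℝ) := by
    rw [← hσu]
    exact hb
  linarith

end final


end Cfsg.Agent.Lib.Helper39_SL2HalfValues
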