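import Mathlib
import Cfsg.Prelude.Def_Characters
import Cfsg.Prelude.Def_ParabolicCharacters
import Cfsg.Agent.Lib.Helper39_SL2
import Cfsg.Agent.Lib.Helper39_SL2HalfValues

/-!
# The irreducible characters of `SL₂(F)` in characteristic two (helper39)
-/

set_option autoImplicit false

namespace Cfsg.Agent.Lib.Helper39_SL2Even

open scoped ComplexConjugate
open Matrix Cfsg.Agent.Lib.Helper39_GL2 Cfsg.Agent.Lib.Helper39_SL2
  Cfsg.Agent.Lib.Helper39_GL2Char Cfsg.Agent.Lib.Helper39_CharTools
  Cfsg.Agent.Lib.Helper39_IndTools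
  Cfsg.Agent.Lib.Helper39_SL2Borel Cfsg.Agent.Lib.Helper39_SL2Ind
  Cfsg.Agent.Lib.Helper39_SL2Half Cfsg.Agent.Lib.Helper39_SL2Series
  Cfsg.Agent.Lib.Helper39_SL2Data Cfsg.Agent.Lib.Helper39_SL2Bound
  Cfsg.Agent.Lib.Helper39_SL2Steinberg Cfsg.Agent.Lib.Helper39_AddFourier
  Cfsg.Agent.Lib.Helper39_SL2Unip Cfsg.Agent.Lib.Helper39_Clifford
  Cfsg.Agent.Lib.Helper39_SL2Vanish Cfsg.Agent.Lib.Helper39_SL2HalfValues

section classes

variable {F : Type*} [Field F] [Fintype F]

/-- Representatives of the conjugacy classes in characteristic two. -/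
def repEven : Option F → SpecialLinearGroup (Fin 2) F
  | none => 1
  | some t => companionSL t

omit [Fintype F] in
theorem companionSL_ne_one (t : F) : (companionSL t : SpecialLinearGroup (Fin 2) F) ≠ 1 := by
  intro h
  have := congrArg (fun g : SpecialLinearGroup (Fin 2) F => (g : Matrix (Fin 2) (Fin 2) F) 1 0) h
  simp [companion] at this

theorem repEven_injective :
    Function.Injective (fun i : Option F => ConjClasses.mk (repEven i)) := by
  intro i j hij
  simp only [ConjClasses.mk_eq_mk_iff_isConj] at hij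
  rcases i with _ | t <;> rcases j with _ | t'
  · rfl
  · exfalso
    have := isConj_one_right.1 hij
    exact companionSL_ne_one t' this
  · exfalso
    have := isConj_one_left.1 hij
    exact companionSL_ne_one t this
  · have := Cfsg.Agent.Lib.Helper39_SL2.trace_eq_of_isConj hij
    simp only [repEven, companionSL_val, companion_trace] at this
    rw [this]

theorem repEven_surjective [CharP F 2] :
    Function.Surjective (fun i : Option F => ConjClasses.mk (repEven i)) := by
  intro c
  obtain ⟨g, rfl⟩ := ConjClasses.mk_surjective c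
  by_cases hg : IsScalar (g : Matrix (Fin 2) (Fin 2) F)
  · refine ⟨none, ?_⟩
    have hg1 : g = 1 := by
      obtain ⟨h01, h10, h00⟩ := hg
      have hdet := g.det_coe
      rw [Matrix.det_fin_two, h01, zero_mul, sub_zero, ← h00] at hdet
      have h1 : (g : Matrix (Fin 2) (Fin 2) F) 0 0 = 1 := by
        have : ((g : Matrix (Fin 2) (Fin 2) F) 0 0 + 1) ^ 2 = 0 := by
          rw [CharTwo.add_sq, one_pow, sq, hdet]
          exact CharTwo.add_self_eq_zero 1
        have := pow_eq_zero_iff (two_ne_zero) |>.1 this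
        exact CharTwo.add_eq_zero.1 this
      apply Matrix.SpecialLinearGroup.ext
      intro i j
      fin_cases i <;> fin_cases j
      · simpa using h1
      · simpa using h01
      · simpa using h10
      · simp only [Fin.mk_one, Fin.isValue]
        rw [← h00, h1]
        simp
    simp only [repEven, hg1]
  · refine ⟨some (g : Matrix (Fin 2) (Fin 2) F).trace, ?_⟩
    simp only [repEven, ConjClasses.mk_eq_mk_iff_isConj]
    refine (isConj_companionSL g hg ?_).symm
    intro e _
    obtain ⟨r, hr⟩ := FiniteField.isSquare_of_char_two (ringChar.eq F 2) e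
    refine ⟨r, 0, ?_⟩
    rw [hr]
    ring

/-- In characteristic two, `SL₂(F)` has `q + 1` conjugacy classes. -/
theorem card_conjClasses_even [CharP F 2] :
    Nat.card (ConjClasses (SpecialLinearGroup (Fin 2) F)) = Fintype.card F + 1 := by
  rw [← Nat.card_eq_of_bijective _ ⟨repEven_injective (F := F), repEven_surjective⟩,
    Nat.card_eq_fintype_card, Fintype.card_option]

end classes

section cent

variable {F : Type*} [Field F] [Fintype F]

/-- In characteristic two the centralizer of a transvection is the unipotent subgroup. -/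
theorem card_centralizer_u1_even [CharP F 2] :
    Nat.card (Subgroup.centralizer
      ({((u1 (1 : F) : B1 F) : SpecialLinearGroup (Fin 2) F)} : Set _)) = Fintype.card F := by
  classical
  set C := Subgroup.centralizer
    ({((u1 (1 : F) : B1 F) : SpecialLinearGroup (Fin 2) F)} : Set _) with hC
  have hmem : ∀ g : C, (g : SpecialLinearGroup (Fin 2) F) =
      ((u1 (((g : SpecialLinearGroup (Fin 2) F) : Matrix (Fin 2) (Fin 2) F) 0 1) : B1 F) :
        SpecialLinearGroup (Fin 2) F) := by
    rintro ⟨g, hg⟩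
    rw [hC, Subgroup.mem_centralizer_iff] at hg
    have h := hg _ rfl
    have hM := congrArg (fun x : SpecialLinearGroup (Fin 2) F =>
      (x : Matrix (Fin 2) (Fin 2) F)) h
    simp only [Matrix.SpecialLinearGroup.coe_mul, u1_val] at hM
    have h00 := congrFun (congrFun hM 0) 0
    have h01 := congrFun (congrFun hM 0) 1
    simp [Matrix.mul_apply, Fin.sum_univ_two] at h00 h01
    have hdet := g.det_coe
    rw [Matrix.det_fin_two] at hdet
    have h11 : (g : Matrix (Fin 2) (Fin 2) F) 1 1 = (g : Matrix (Fin 2) (Fin 2) F) 0 0 := by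
      linear_combination h01
    have h1 : (g : Matrix (Fin 2) (Fin 2) F) 0 0 = 1 := by
      have : ((g : Matrix (Fin 2) (Fin 2) F) 0 0 + 1) ^ 2 = 0 := by
        rw [CharTwo.add_sq, one_pow]
        rw [h11, h00] at hdet
        have : (g : Matrix (Fin 2) (Fin 2) F) 0 0 ^ 2 = 1 := by linear_combination hdet
        rw [this]
        exact CharTwo.add_self_eq_zero 1
      have := pow_eq_zero_iff (two_ne_zero) |>.1 this
      exact CharTwo.add_eq_zero.1 this
    apply Matrix.SpecialLinearGroup.ext
    intro i j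
    simp only [u1_val]
    fin_cases i <;> fin_cases j
    · simpa using h1
    · simp
    · simpa using h00
    · simp only [Fin.mk_one, Fin.isValue]
      rw [h11, h1]
      simp
  have hcomm : ∀ x : F, ((u1 x : B1 F) : SpecialLinearGroup (Fin 2) F) ∈ C := by
    intro x
    rw [hC, Subgroup.mem_centralizer_iff]
    intro h hh
    rw [Set.mem_singleton_iff] at hh
    rw [hh, ← Subgroup.coe_mul, ← Subgroup.coe_mul, ← u1_add, ← u1_add, add_comm]
  let f : F ≃ C :=
    { toFun := fun x => ⟨_, hcomm x⟩
      invFun := fun g => ((g : SpecialLinearGroup (Fin 2) F) : Matrix (Fin 2) (Fin 2) F) 0 1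
      left_inv := fun x => by simp [u1_val]
      right_inv := fun g => by
        apply Subtype.ext
        exact (hmem g).symm }
  rw [← Nat.card_congr f, Nat.card_eq_fintype_card]

omit [Fintype F] in
/-- In characteristic two, a multiplicative character of order dividing two is trivial. -/
theorem mulChar_eq_one_of_sq_even [Finite F] [CharP F 2] {α : MulChar F ℂ} (hα : α ^ 2 = 1) :
    α = 1 := by
  have := Fintype.ofFinite F
  apply MulChar.ext
  intro a
  obtain ⟨r, hr⟩ := FiniteField.isSquare_of_char_two (ringChar.eq F 2) (a : F)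
  have hr0 : r ≠ 0 := by
    rintro rfl
    rw [mul_zero] at hr
    exact a.ne_zero hr
  have h1 := congrArg (fun γ : MulChar F ℂ => γ r) hα
  beta_reduce at h1
  rw [MulChar.pow_apply' α (by norm_num) r, MulChar.one_apply hr0.isUnit] at h1
  rw [MulChar.one_apply a.isUnit, hr, map_mul, ← sq, h1]

end cent

section series

variable {F : Type*} [Field F] [Fintype F] [Fintype (SpecialLinearGroup (Fin 2) F)]

/-- The principal series character of the trivial character is the sum of the trivial character
and an irreducible character of degree `q`. -/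
theorem exists_steinberg :
    ∃ St : SpecialLinearGroup (Fin 2) F → ℂ,
      Cfsg.IsIrrCharacter (SpecialLinearGroup (Fin 2) F) St ∧
      Cfsg.indFun (B1 F) (aFun (1 : MulChar F ℂ)) =
        (fun _ : SpecialLinearGroup (Fin 2) F => (1 : ℂ)) + St ∧
      St 1 = (Fintype.card F : ℂ) := by
  classical
  set R := Cfsg.indFun (B1 F) (aFun (1 : MulChar F ℂ)) with hR
  have hRR : Cfsg.classInner R R = 2 := by
    rw [hR, classInner_indFun_aFun, if_pos rfl, if_pos (by simp)]
    norm_num
  obtain ⟨χ₁, χ₂, h₁, h₂, hne12, hsum⟩ :=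
    exists_two_irr (isCharacter_indFun_aFun (1 : MulChar F ℂ)) hRR
  have hsum' : R = χ₁ + χ₂ := hsum
  have htriv := Cfsg.Agent.Lib.Helper80_CharBasic.isIrrCharacter_one
    (SpecialLinearGroup (Fin 2) F)
  have h1in : Cfsg.classInner (χ₁ + χ₂)
      (fun _ : SpecialLinearGroup (Fin 2) F => (1 : ℂ)) ≠ 0 := by
    rw [← hsum, classInner_indFun_one_one]
    exact one_ne_zero
  have hdeg : R 1 = (Fintype.card F : ℂ) + 1 := by rw [hR, indFun_aFun_one]
  rcases eq_or_eq_of_classInner_add h₁ h₂ htriv h1in with e1 | e1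
  · refine ⟨χ₂, h₂, ?_, ?_⟩
    · rw [hsum', ← e1]
    · rw [hsum', Pi.add_apply, ← e1] at hdeg
      linear_combination hdeg
  · refine ⟨χ₁, h₁, ?_, ?_⟩
    · rw [hsum', ← e1, add_comm]
    · rw [hsum', Pi.add_apply, ← e1] at hdeg
      linear_combination hdeg

/-- The irreducible characters in the principal series, characteristic two. -/
theorem ps_even [CharP F 2] (χ : SpecialLinearGroup (Fin 2) F → ℂ)
    (hχ : Cfsg.IsIrrCharacter (SpecialLinearGroup (Fin 2) F) χ)
    (hsum : ∑ x : F, χ ((u1 x : B1 F) : SpecialLinearGroup (Fin 2) F) ≠ 0) :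
    χ 1 = (Fintype.card F : ℂ) + 1 ∨ χ = (fun _ : SpecialLinearGroup (Fin 2) F => (1 : ℂ)) ∨
      (χ 1 = (Fintype.card F : ℂ) ∧ Cfsg.indFun (B1 F) (aFun (1 : MulChar F ℂ)) =
        (fun _ : SpecialLinearGroup (Fin 2) F => (1 : ℂ)) + χ) := by
  classical
  obtain ⟨α, hν, hne, hcase⟩ := series_dichotomy χ hχ hsum
  rcases hcase with hχR | ⟨hν1, -, -⟩
  · left
    rw [hχR, indFun_aFun_one]
  · right
    have hα2 : α ^ 2 = 1 := by
      by_contra hα2
      have hirr := (isIrrCharacter_indFun_aFun_iff α).2 hα2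
      rw [Cfsg.Agent.Lib.Helper3_CharOrtho.classInner_irr hirr hχ] at hne
      have hRχ : Cfsg.indFun (B1 F) (aFun α) = χ := by
        by_contra h
        rw [if_neg h] at hne
        exact hne rfl
      apply hν1
      rw [hRχ, sub_self]
      rfl
    have hα1 : α = 1 := mulChar_eq_one_of_sq_even hα2
    subst hα1
    obtain ⟨St, hSt, hdec, hdeg⟩ := exists_steinberg (F := F)
    have htriv := Cfsg.Agent.Lib.Helper80_CharBasic.isIrrCharacter_one
      (SpecialLinearGroup (Fin 2) F)
    rw [hdec] at hne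
    rcases eq_or_eq_of_classInner_add htriv hSt hχ hne with e | e
    · left; exact e
    · right
      rw [e]
      exact ⟨hdeg, hdec⟩

end series

section main

variable {F : Type*} [Field F] [Fintype F] [Fintype (SpecialLinearGroup (Fin 2) F)] [CharP F 2]

/-- The trivial character as an element of the type of irreducible characters. -/
noncomputable def trivIrr : Cfsg.IrrCharacter (SpecialLinearGroup (Fin 2) F) :=
  ⟨fun _ => 1, Cfsg.Agent.Lib.Helper80_CharBasic.isIrrCharacter_one _⟩

/-- The key fact: every non-trivial irreducible character contains every non-trivial character of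
the unipotent subgroup exactly once. -/
theorem b_eq_one (χ : Cfsg.IrrCharacter (SpecialLinearGroup (Fin 2) F)) (hχ : χ ≠ trivIrr) :
    (χ : SpecialLinearGroup (Fin 2) F → ℂ) 1 -
      (χ : SpecialLinearGroup (Fin 2) F → ℂ)
        ((u1 (1 : F) : B1 F) : SpecialLinearGroup (Fin 2) F) = (Fintype.card F : ℂ) := by
  classical
  have hF2 : ringChar F = 2 := ringChar.eq F 2
  have hq0 : (Fintype.card F : ℂ) ≠ 0 := by
    exact_mod_cast (Fintype.card_pos (α := F)).ne'
  have hq2 : 2 ≤ Fintype.card F := Fintype.one_lt_card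
  set u : SpecialLinearGroup (Fin 2) F := ((u1 (1 : F) : B1 F) : SpecialLinearGroup (Fin 2) F)
    with hu
  -- the multiplicity function
  have hdata : ∀ ψ : Cfsg.IrrCharacter (SpecialLinearGroup (Fin 2) F), ∃ b : ℕ,
      (ψ : SpecialLinearGroup (Fin 2) F → ℂ) 1 - (ψ : SpecialLinearGroup (Fin 2) F → ℂ) u =
        (Fintype.card F : ℂ) * (b : ℂ) ∧ (b = 0 → ψ = trivIrr) := by
    intro ψ
    have hψc := Cfsg.Agent.Lib.Helper3_CharBridge.isCharacter_of_isIrrCharacter ψ.2
    obtain ⟨a, b, h1, h2, h3⟩ := data_even hF2 ψ.1 hψc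
    refine ⟨b, ?_, ?_⟩
    · rw [h1, hu, h2 1 one_ne_zero]
      ring
    · intro hb
      subst hb
      simp only [Nat.cast_zero, mul_zero, add_zero] at h1
      have ha0 : a ≠ 0 := by
        rintro rfl
        exact Cfsg.Agent.Lib.Helper78_CentralChar.isIrrCharacter_one_ne_zero ψ.2
          (by rw [h1]; simp)
      have hsum : ∑ x : F, ψ.1 ((u1 x : B1 F) : SpecialLinearGroup (Fin 2) F) ≠ 0 := by
        rw [h3]
        exact mul_ne_zero hq0 (by exact_mod_cast ha0)
      apply Subtype.ext
      rcases ps_even ψ.1 ψ.2 hsum with hd | hd | ⟨hd, hdec⟩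
      · exfalso
        -- degree q + 1 = a, but then the sum over the unipotent group is too large
        have h4 : ∑ x : F, ψ.1 ((u1 x : B1 F) : SpecialLinearGroup (Fin 2) F) =
            (Fintype.card F : ℂ) * ((Fintype.card F : ℂ) + 1) := by
          rw [h3, ← h1, hd]
        have h5 : ∀ x : F, ψ.1 ((u1 x : B1 F) : SpecialLinearGroup (Fin 2) F) = (a : ℂ) := by
          intro x
          by_cases hx : x = 0
          · subst hx
            rw [u1_zero]
            exact h1
          · rw [h2 x hx]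
            simp
        -- use the norm bound: the value at `u` equals the degree, so `u` is in the kernel;
        -- but then the principal series character would have value `q + 1` at `u`
        obtain ⟨α, hν, hne, hcase⟩ := series_dichotomy ψ.1 ψ.2 hsum
        rcases hcase with hχR | ⟨hν1, hs', -⟩
        · have h6 := congrFun hχR u
          rw [hu, indFun_aFun_u1 α 1 one_ne_zero, h5 1, ← h1, hd] at h6
          have : (Fintype.card F : ℂ) = 0 := by linear_combination h6
          exact hq0 this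
        · rw [h4] at hs'
          have : (Fintype.card F : ℂ) + 1 = 1 := mul_left_cancel₀ hq0 (by rw [hs', mul_one])
          exact hq0 (by linear_combination this)
      · exact hd
      · exfalso
        have h6 := congrFun hdec u
        rw [hu, indFun_aFun_u1 1 1 one_ne_zero, Pi.add_apply] at h6
        have h5 : ψ.1 ((u1 (1 : F) : B1 F) : SpecialLinearGroup (Fin 2) F) = (a : ℂ) := by
          rw [h2 1 one_ne_zero]
          simp
        rw [h5, ← h1, hd] at h6
        exact hq0 (by linear_combination -h6)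
  choose b hb hb0 using hdata
  -- the sum of the squares
  have hnc : ¬ IsConj (1 : SpecialLinearGroup (Fin 2) F) u := by
    rw [isConj_one_right]
    intro h
    have := congrArg (fun g : SpecialLinearGroup (Fin 2) F =>
      (g : Matrix (Fin 2) (Fin 2) F) 0 1) h
    simp [hu, u1_val] at this
  have hsq := sum_norm_add_sign (1 : SpecialLinearGroup (Fin 2) F) u hnc (-1) (by norm_num)
  have hC1 : Subgroup.centralizer ({1} : Set (SpecialLinearGroup (Fin 2) F)) = ⊤ := by
    ext x
    simp [Subgroup.mem_centralizer_singleton_iff]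
  rw [hC1, Subgroup.card_top, hu, card_centralizer_u1_even, Cfsg.Agent.S2301.card_SL2] at hsq
  have hterm : ∀ ψ : Cfsg.IrrCharacter (SpecialLinearGroup (Fin 2) F),
      ‖(ψ : SpecialLinearGroup (Fin 2) F → ℂ) 1 + ((-1 : ℝ) : ℂ) *
        (ψ : SpecialLinearGroup (Fin 2) F → ℂ)
          ((u1 (1 : F) : B1 F) : SpecialLinearGroup (Fin 2) F)‖ ^ 2 =
        (Fintype.card F : ℝ) ^ 2 * ((b ψ : ℝ)) ^ 2 := by
    intro ψ
    have : (ψ : SpecialLinearGroup (Fin 2) F → ℂ) 1 + ((-1 : ℝ) : ℂ) *
        (ψ : SpecialLinearGroup (Fin 2) F → ℂ)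
          ((u1 (1 : F) : B1 F) : SpecialLinearGroup (Fin 2) F) =
        (((Fintype.card F * b ψ : ℕ) : ℝ) : ℂ) := by
      have := hb ψ
      rw [hu] at this
      push_cast
      linear_combination this
    rw [this, Complex.norm_real, Real.norm_natCast]
    push_cast
    ring
  simp_rw [hterm] at hsq
  rw [← Finset.mul_sum] at hsq
  have hq0R : (Fintype.card F : ℝ) ≠ 0 := by
    exact_mod_cast (Fintype.card_pos (α := F)).ne'
  have hsumb : ∑ ψ : Cfsg.IrrCharacter (SpecialLinearGroup (Fin 2) F), (b ψ) ^ 2 =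
      Fintype.card F := by
    have h1 : (Fintype.card F : ℝ) ^ 2 *
        ∑ ψ : Cfsg.IrrCharacter (SpecialLinearGroup (Fin 2) F), ((b ψ : ℝ)) ^ 2 =
        (Fintype.card F : ℝ) ^ 2 * (Fintype.card F : ℝ) := by
      rw [hsq]
      have h1q : 1 ≤ Fintype.card F ^ 2 := Nat.one_le_pow _ _ Fintype.card_pos
      push_cast [Nat.cast_sub h1q]
      ring
    have h2 := mul_left_cancel₀ (pow_ne_zero 2 hq0R) h1
    exact_mod_cast h2
  -- the number of irreducible characters
  have hcard : Fintype.card (Cfsg.IrrCharacter (SpecialLinearGroup (Fin 2) F)) =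
      Fintype.card F + 1 := by
    rw [← Nat.card_eq_fintype_card,
      Cfsg.Agent.Lib.Helper3_CharColumn.card_irr_eq_card_conjClasses, card_conjClasses_even]
  -- the trivial character
  have hbtriv : b trivIrr = 0 := by
    have := hb trivIrr
    have h0 : ((trivIrr : Cfsg.IrrCharacter (SpecialLinearGroup (Fin 2) F)) :
        SpecialLinearGroup (Fin 2) F → ℂ) 1 -
        ((trivIrr : Cfsg.IrrCharacter (SpecialLinearGroup (Fin 2) F)) :
          SpecialLinearGroup (Fin 2) F → ℂ) u = 0 := by
      simp [trivIrr]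
    rw [h0] at this
    rcases mul_eq_zero.1 this.symm with h | h
    · exact absurd h hq0
    · exact_mod_cast h
  -- all other multiplicities are one
  have hsplit1 : ∑ ψ ∈ Finset.univ.erase (trivIrr (F := F)), (b ψ) ^ 2 = Fintype.card F := by
    rw [← hsumb, ← Finset.add_sum_erase Finset.univ _ (Finset.mem_univ (trivIrr (F := F))),
      hbtriv]
    simp
  have hsplit2 : ∑ _ψ ∈ Finset.univ.erase (trivIrr (F := F)), 1 = Fintype.card F := by
    rw [Finset.sum_const, Finset.card_erase_of_mem (Finset.mem_univ _), Finset.card_univ, hcard]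
    simp
  have hle : ∀ ψ ∈ Finset.univ.erase (trivIrr (F := F)), 1 ≤ (b ψ) ^ 2 := by
    intro ψ hψ
    have hne := Finset.ne_of_mem_erase hψ
    have : b ψ ≠ 0 := fun h => hne (hb0 ψ h)
    exact Nat.one_le_pow _ _ (Nat.pos_of_ne_zero this)
  have hall := (Finset.sum_eq_sum_iff_of_le hle).1 (hsplit2.trans hsplit1.symm)
  have hbχ : b χ = 1 := by
    have := hall χ (Finset.mem_erase.2 ⟨hχ, Finset.mem_univ _⟩)
    have h2 : (b χ) ^ 2 = 1 := this.symm
    rcases Nat.pow_eq_one.1 h2 with h | h
    · exact h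
    · omega
  have := hb χ
  rw [hbχ] at this
  rw [this]
  simp

/-- Degrees of the irreducible characters in characteristic two, with the extra information
needed for counting. -/
theorem degree_even_aux (χ : Cfsg.IrrCharacter (SpecialLinearGroup (Fin 2) F)) :
    χ = trivIrr ∨ (χ : SpecialLinearGroup (Fin 2) F → ℂ) 1 = (Fintype.card F : ℂ) - 1 ∨
      ((χ : SpecialLinearGroup (Fin 2) F → ℂ) 1 = (Fintype.card F : ℂ) ∧
        Cfsg.indFun (B1 F) (aFun (1 : MulChar F ℂ)) =
          (fun _ : SpecialLinearGroup (Fin 2) F => (1 : ℂ)) +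
            (χ : SpecialLinearGroup (Fin 2) F → ℂ)) ∨
      (χ : SpecialLinearGroup (Fin 2) F → ℂ) 1 = (Fintype.card F : ℂ) + 1 := by
  classical
  by_cases hχ : χ = trivIrr
  · exact Or.inl hχ
  right
  have hF2 : ringChar F = 2 := ringChar.eq F 2
  have hq0 : (Fintype.card F : ℂ) ≠ 0 := by
    exact_mod_cast (Fintype.card_pos (α := F)).ne'
  have hb := b_eq_one χ hχ
  have hχc := Cfsg.Agent.Lib.Helper3_CharBridge.isCharacter_of_isIrrCharacter χ.2
  obtain ⟨a, b, h1, h2, h3⟩ := data_even hF2 χ.1 hχc
  by_cases hsum : ∑ x : F, χ.1 ((u1 x : B1 F) : SpecialLinearGroup (Fin 2) F) = 0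
  · left
    rw [hsum] at h3
    have ha : (a : ℂ) = 0 := by
      rcases mul_eq_zero.1 h3.symm with h | h
      · exact absurd h hq0
      · exact h
    have hb1 : (b : ℂ) = 1 := by
      rw [h1, h2 1 one_ne_zero] at hb
      have : (Fintype.card F : ℂ) * (b : ℂ) = (Fintype.card F : ℂ) * 1 := by
        linear_combination hb
      exact mul_left_cancel₀ hq0 this
    change χ.1 1 = _
    rw [h1, ha, hb1]
    ring
  · right
    rcases ps_even χ.1 χ.2 hsum with hd | hd | hd
    · exact Or.inr hd
    · exact absurd (Subtype.ext hd) hχ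
    · exact Or.inl hd

theorem eq_triv_of_degree_one (hq : 4 ≤ Fintype.card F)
    (χ : Cfsg.IrrCharacter (SpecialLinearGroup (Fin 2) F))
    (h : (χ : SpecialLinearGroup (Fin 2) F → ℂ) 1 = 1) : χ = trivIrr := by
  rcases degree_even_aux χ with h1 | h1 | ⟨h1, -⟩ | h1
  · exact h1
  · exfalso
    rw [h] at h1
    have : ((2 : ℕ) : ℂ) = ((Fintype.card F : ℕ) : ℂ) := by push_cast; linear_combination h1
    have : 2 = Fintype.card F := by exact_mod_cast this
    omega
  · exfalso
    rw [h] at h1
    have : ((1 : ℕ) : ℂ) = ((Fintype.card F : ℕ) : ℂ) := by push_cast; linear_combination h1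
    have : 1 = Fintype.card F := by exact_mod_cast this
    omega
  · exfalso
    rw [h] at h1
    have : (Fintype.card F : ℂ) = 0 := by linear_combination -h1
    have : Fintype.card F = 0 := by exact_mod_cast this
    omega

theorem steinberg_unique_even (hq : 4 ≤ Fintype.card F)
    (χ χ' : Cfsg.IrrCharacter (SpecialLinearGroup (Fin 2) F))
    (h : (χ : SpecialLinearGroup (Fin 2) F → ℂ) 1 = (Fintype.card F : ℂ))
    (h' : (χ' : SpecialLinearGroup (Fin 2) F → ℂ) 1 = (Fintype.card F : ℂ)) : χ = χ' := by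
  have key : ∀ ψ : Cfsg.IrrCharacter (SpecialLinearGroup (Fin 2) F),
      (ψ : SpecialLinearGroup (Fin 2) F → ℂ) 1 = (Fintype.card F : ℂ) →
      Cfsg.indFun (B1 F) (aFun (1 : MulChar F ℂ)) =
          (fun _ : SpecialLinearGroup (Fin 2) F => (1 : ℂ)) +
            (ψ : SpecialLinearGroup (Fin 2) F → ℂ) := by
    intro ψ hψ
    rcases degree_even_aux ψ with h1 | h1 | ⟨-, h1⟩ | h1
    · exfalso
      rw [h1] at hψ
      have h2 : ((1 : ℕ) : ℂ) = ((Fintype.card F : ℕ) : ℂ) := by
        push_cast
        rw [← hψ]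
        simp [trivIrr]
      have : 1 = Fintype.card F := by exact_mod_cast h2
      omega
    · exfalso
      rw [hψ] at h1
      have : (1 : ℂ) = 0 := by linear_combination h1
      exact one_ne_zero this
    · exact h1
    · exfalso
      rw [hψ] at h1
      have : (1 : ℂ) = 0 := by linear_combination -h1
      exact one_ne_zero this
  apply Subtype.ext
  have e := (key χ h).symm.trans (key χ' h')
  exact add_left_cancel e

/-- The number of irreducible characters of each degree, characteristic two. -/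
theorem counts_even (hq : 4 ≤ Fintype.card F) :
    Nat.card {χ : Cfsg.IrrCharacter (SpecialLinearGroup (Fin 2) F) //
      (χ : SpecialLinearGroup (Fin 2) F → ℂ) 1 = 1} = 1 ∧
    Nat.card {χ : Cfsg.IrrCharacter (SpecialLinearGroup (Fin 2) F) //
      (χ : SpecialLinearGroup (Fin 2) F → ℂ) 1 = (Fintype.card F : ℂ)} = 1 ∧
    Nat.card {χ : Cfsg.IrrCharacter (SpecialLinearGroup (Fin 2) F) //
      (χ : SpecialLinearGroup (Fin 2) F → ℂ) 1 = (Fintype.card F : ℂ) + 1} =
        (Fintype.card F - 2) / 2 ∧
    Nat.card {χ : Cfsg.IrrCharacter (SpecialLinearGroup (Fin 2) F) //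
      (χ : SpecialLinearGroup (Fin 2) F → ℂ) 1 = (Fintype.card F : ℂ) - 1} =
        Fintype.card F / 2 := by
  classical
  set q := Fintype.card F with hqdef
  -- degrees as natural numbers
  have hdeg : ∀ χ : Cfsg.IrrCharacter (SpecialLinearGroup (Fin 2) F), ∃ d : ℕ,
      (χ : SpecialLinearGroup (Fin 2) F → ℂ) 1 = (d : ℂ) ∧
      (d = 1 ∨ d = q - 1 ∨ d = q ∨ d = q + 1) := by
    intro χ
    rcases degree_even_aux χ with h1 | h1 | ⟨h1, -⟩ | h1
    · exact ⟨1, by rw [h1]; simp [trivIrr], Or.inl rfl⟩
    · refine ⟨q - 1, ?_, Or.inr (Or.inl rfl)⟩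
      rw [h1, Nat.cast_sub (by omega), Nat.cast_one]
    · exact ⟨q, h1, Or.inr (Or.inr (Or.inl rfl))⟩
    · refine ⟨q + 1, ?_, Or.inr (Or.inr (Or.inr rfl))⟩
      rw [h1]
      push_cast
      ring
  choose d hd hdcases using hdeg
  have hiff : ∀ (χ : Cfsg.IrrCharacter (SpecialLinearGroup (Fin 2) F)) (n : ℕ),
      (χ : SpecialLinearGroup (Fin 2) F → ℂ) 1 = (n : ℂ) ↔ d χ = n := by
    intro χ n
    rw [hd χ]
    exact Nat.cast_inj
  have hcount : ∀ (c : ℂ) (n : ℕ), c = (n : ℂ) →
      Nat.card {χ : Cfsg.IrrCharacter (SpecialLinearGroup (Fin 2) F) //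
        (χ : SpecialLinearGroup (Fin 2) F → ℂ) 1 = c} =
      (Finset.univ.filter (fun χ : Cfsg.IrrCharacter (SpecialLinearGroup (Fin 2) F) =>
        d χ = n)).card := by
    intro c n hc
    rw [Nat.card_eq_fintype_card, ← Fintype.card_subtype]
    apply Fintype.card_congr
    apply Equiv.subtypeEquivRight
    intro χ
    rw [hc]
    exact hiff χ n
  rw [hcount 1 1 (by simp), hcount (q : ℂ) q rfl, hcount ((q : ℂ) + 1) (q + 1) (by push_cast; ring),
    hcount ((q : ℂ) - 1) (q - 1) (by rw [Nat.cast_sub (by omega)]; simp)]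
  set N1 := (Finset.univ.filter (fun χ : Cfsg.IrrCharacter (SpecialLinearGroup (Fin 2) F) =>
        d χ = 1)).card with hN1
  set Nq := (Finset.univ.filter (fun χ : Cfsg.IrrCharacter (SpecialLinearGroup (Fin 2) F) =>
        d χ = q)).card with hNq
  set Np := (Finset.univ.filter (fun χ : Cfsg.IrrCharacter (SpecialLinearGroup (Fin 2) F) =>
        d χ = q + 1)).card with hNp
  set Nm := (Finset.univ.filter (fun χ : Cfsg.IrrCharacter (SpecialLinearGroup (Fin 2) F) =>
        d χ = q - 1)).card with hNm
  -- the two unique characters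
  have h1 : N1 = 1 := by
    rw [hN1, Finset.card_eq_one]
    refine ⟨trivIrr, ?_⟩
    ext χ
    simp only [Finset.mem_filter, Finset.mem_univ, true_and, Finset.mem_singleton]
    constructor
    · intro h
      exact eq_triv_of_degree_one hq χ (by rw [hd χ, h]; simp)
    · intro h
      rw [← hiff, h]
      simp [trivIrr]
  have h2 : Nq = 1 := by
    rw [hNq, Finset.card_eq_one]
    obtain ⟨St, hSt, -, hStdeg⟩ := exists_steinberg (F := F)
    refine ⟨⟨St, hSt⟩, ?_⟩
    ext χ
    simp only [Finset.mem_filter, Finset.mem_univ, true_and, Finset.mem_singleton]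
    constructor
    · intro h
      exact steinberg_unique_even hq χ ⟨St, hSt⟩ (by rw [hd χ, h]) hStdeg
    · intro h
      rw [← hiff, h]
      exact hStdeg
  -- the two sums
  have hcard : Fintype.card (Cfsg.IrrCharacter (SpecialLinearGroup (Fin 2) F)) = q + 1 := by
    rw [← Nat.card_eq_fintype_card,
      Cfsg.Agent.Lib.Helper3_CharColumn.card_irr_eq_card_conjClasses, card_conjClasses_even]
  have hsum1 : N1 + Nm + Nq + Np = q + 1 := by
    rw [← hcard, ← Finset.card_univ, hN1, hNm, hNq, hNp, Finset.card_filter, Finset.card_filter,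
      Finset.card_filter, Finset.card_filter, ← Finset.sum_add_distrib, ← Finset.sum_add_distrib,
      ← Finset.sum_add_distrib, Finset.card_eq_sum_ones]
    refine Finset.sum_congr rfl (fun χ _ => ?_)
    rcases hdcases χ with h | h | h | h <;> simp only [h] <;> split_ifs <;> omega
  have hsum2 : N1 * 1 ^ 2 + Nm * (q - 1) ^ 2 + Nq * q ^ 2 + Np * (q + 1) ^ 2 =
      q * (q ^ 2 - 1) := by
    have hsq := Cfsg.Agent.Lib.Helper3_CharColumn.sum_sq_irr_one
      (G := SpecialLinearGroup (Fin 2) F)
    rw [Cfsg.Agent.S2301.card_SL2] at hsq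
    have hsq' : ∑ χ : Cfsg.IrrCharacter (SpecialLinearGroup (Fin 2) F), (d χ) ^ 2 =
        q * (q ^ 2 - 1) := by
      have : ((∑ χ : Cfsg.IrrCharacter (SpecialLinearGroup (Fin 2) F), (d χ) ^ 2 : ℕ) : ℂ) =
          ((q * (q ^ 2 - 1) : ℕ) : ℂ) := by
        rw [← hsq]
        push_cast
        refine Finset.sum_congr rfl (fun χ _ => ?_)
        rw [hd χ]
      exact_mod_cast this
    rw [← hsq', hN1, hNm, hNq, hNp, Finset.card_filter, Finset.card_filter,
      Finset.card_filter, Finset.card_filter, Finset.sum_mul, Finset.sum_mul, Finset.sum_mul,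
      Finset.sum_mul, ← Finset.sum_add_distrib, ← Finset.sum_add_distrib,
      ← Finset.sum_add_distrib]
    refine Finset.sum_congr rfl (fun χ _ => ?_)
    rcases hdcases χ with h | h | h | h <;> simp only [h] <;> split_ifs <;> simp <;> omega
  -- solve
  have heven : Even q := by
    have := FiniteField.even_card_of_char_two (ringChar.eq F 2)
    rw [Nat.even_iff]
    exact this
  obtain ⟨k, hk⟩ := heven
  have hk2 : 2 ≤ k := by omega
  rw [h1, h2] at hsum1 hsum2
  have e1 : (Nm : ℤ) + Np = q - 1 := by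
    have : Nm + Np = q - 1 := by omega
    rw [← Nat.cast_add, this, Nat.cast_sub (by omega)]
    simp
  have e2 : (Nm : ℤ) * ((q : ℤ) - 1) ^ 2 + Np * ((q : ℤ) + 1) ^ 2 =
      (q : ℤ) ^ 3 - q ^ 2 - q - 1 := by
    have h1q : 1 ≤ q ^ 2 := Nat.one_le_pow _ _ (by omega)
    have := congrArg (Nat.cast (R := ℤ)) hsum2
    push_cast [Nat.cast_sub h1q, Nat.cast_sub (show 1 ≤ q by omega)] at this
    linear_combination this
  have e3 : (4 * (q : ℤ)) * Np = (4 * (q : ℤ)) * ((k : ℤ) - 1) := by
    have hqk : (q : ℤ) = k + k := by exact_mod_cast hk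
    linear_combination e2 - ((q : ℤ) - 1) ^ 2 * e1 + (2 * (q : ℤ)) * hqk
  have hq0 : (4 * (q : ℤ)) ≠ 0 := by
    have : (q : ℤ) ≠ 0 := by
      have : q ≠ 0 := by omega
      exact_mod_cast this
    exact mul_ne_zero (by norm_num) this
  have e4 : (Np : ℤ) = (k : ℤ) - 1 := mul_left_cancel₀ hq0 e3
  have e5 : Np = k - 1 := by omega
  refine ⟨h1, h2, ?_, ?_⟩ <;> omega

end main


end Cfsg.Agent.Lib.Helper39_SL2Even
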