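import Mathlib
import Cfsg.Prelude.Def_Characters
import Cfsg.Prelude.Def_ParabolicCharacters
import Cfsg.Agent.Lib.Helper39_SL2Even
import Cfsg.Agent.S2325

/-!
# The irreducible characters of `SL₂(F)` in odd characteristic (helper39)
-/

set_option autoImplicit false

namespace Cfsg.Agent.Lib.Helper39_SL2Odd

open scoped ComplexConjugate
open Matrix
  Cfsg.Agent.Lib.Helper39_GL2Char Cfsg.Agent.Lib.Helper39_CharTools
  Cfsg.Agent.Lib.Helper39_IndTools
  Cfsg.Agent.Lib.Helper39_SL2Borel Cfsg.Agent.Lib.Helper39_SL2Ind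
  Cfsg.Agent.Lib.Helper39_SL2Half Cfsg.Agent.Lib.Helper39_SL2Series
  Cfsg.Agent.Lib.Helper39_SL2Data Cfsg.Agent.Lib.Helper39_SL2Bound
  Cfsg.Agent.Lib.Helper39_SL2Steinberg Cfsg.Agent.Lib.Helper39_AddFourier
  Cfsg.Agent.Lib.Helper39_SL2Unip Cfsg.Agent.Lib.Helper39_Clifford
  Cfsg.Agent.Lib.Helper39_SL2Vanish Cfsg.Agent.Lib.Helper39_SL2HalfValues
  Cfsg.Agent.Lib.Helper39_SL2Even

section column

variable {G : Type*} [Group G] [Fintype G]

/-- A weighted form of column orthogonality for three pairwise non-conjugate elements. -/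
theorem sum_norm_three (g₁ g₂ g₃ : G) (h12 : ¬ IsConj g₁ g₂) (h13 : ¬ IsConj g₁ g₃)
    (h23 : ¬ IsConj g₂ g₃) (c₂ c₃ : ℝ) :
    ∑ χ : Cfsg.IrrCharacter G,
      ‖(χ : G → ℂ) g₁ + (c₂ : ℂ) * (χ : G → ℂ) g₂ + (c₃ : ℂ) * (χ : G → ℂ) g₃‖ ^ 2 =
      (Nat.card (Subgroup.centralizer ({g₁} : Set G)) : ℝ) +
        c₂ ^ 2 * (Nat.card (Subgroup.centralizer ({g₂} : Set G)) : ℝ) +
        c₃ ^ 2 * (Nat.card (Subgroup.centralizer ({g₃} : Set G)) : ℝ) := by
  classical
  have h11 := Cfsg.Agent.Lib.Helper3_CharColumn.column_orthogonality_self g₁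
  have h22 := Cfsg.Agent.Lib.Helper3_CharColumn.column_orthogonality_self g₂
  have h33 := Cfsg.Agent.Lib.Helper3_CharColumn.column_orthogonality_self g₃
  have k12 := Cfsg.Agent.Lib.Helper3_CharColumn.column_orthogonality g₁ g₂
  have k21 := Cfsg.Agent.Lib.Helper3_CharColumn.column_orthogonality g₂ g₁
  have k13 := Cfsg.Agent.Lib.Helper3_CharColumn.column_orthogonality g₁ g₃
  have k31 := Cfsg.Agent.Lib.Helper3_CharColumn.column_orthogonality g₃ g₁
  have k23 := Cfsg.Agent.Lib.Helper3_CharColumn.column_orthogonality g₂ g₃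
  have k32 := Cfsg.Agent.Lib.Helper3_CharColumn.column_orthogonality g₃ g₂
  rw [if_neg h12] at k12
  rw [if_neg (fun hh => h12 hh.symm)] at k21
  rw [if_neg h13] at k13
  rw [if_neg (fun hh => h13 hh.symm)] at k31
  rw [if_neg h23] at k23
  rw [if_neg (fun hh => h23 hh.symm)] at k32
  have key : ∀ χ : Cfsg.IrrCharacter G,
      ((‖(χ : G → ℂ) g₁ + (c₂ : ℂ) * (χ : G → ℂ) g₂ + (c₃ : ℂ) * (χ : G → ℂ) g₃‖ ^ 2 : ℝ) : ℂ) =
      (χ : G → ℂ) g₁ * conj ((χ : G → ℂ) g₁) +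
        (c₂ : ℂ) ^ 2 * ((χ : G → ℂ) g₂ * conj ((χ : G → ℂ) g₂)) +
        (c₃ : ℂ) ^ 2 * ((χ : G → ℂ) g₃ * conj ((χ : G → ℂ) g₃)) +
        (c₂ : ℂ) * ((χ : G → ℂ) g₁ * conj ((χ : G → ℂ) g₂)) +
        (c₂ : ℂ) * ((χ : G → ℂ) g₂ * conj ((χ : G → ℂ) g₁)) +
        (c₃ : ℂ) * ((χ : G → ℂ) g₁ * conj ((χ : G → ℂ) g₃)) +
        (c₃ : ℂ) * ((χ : G → ℂ) g₃ * conj ((χ : G → ℂ) g₁)) +
        (c₂ : ℂ) * (c₃ : ℂ) * ((χ : G → ℂ) g₂ * conj ((χ : G → ℂ) g₃)) +
        (c₂ : ℂ) * (c₃ : ℂ) * ((χ : G → ℂ) g₃ * conj ((χ : G → ℂ) g₂)) := by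
    intro χ
    rw [← Complex.normSq_eq_norm_sq, ← Complex.mul_conj, map_add, map_add, map_mul, map_mul,
      Complex.conj_ofReal, Complex.conj_ofReal]
    ring
  have : ((∑ χ : Cfsg.IrrCharacter G,
      ‖(χ : G → ℂ) g₁ + (c₂ : ℂ) * (χ : G → ℂ) g₂ + (c₃ : ℂ) * (χ : G → ℂ) g₃‖ ^ 2 : ℝ) : ℂ) =
      (((Nat.card (Subgroup.centralizer ({g₁} : Set G)) : ℝ) +
        c₂ ^ 2 * (Nat.card (Subgroup.centralizer ({g₂} : Set G)) : ℝ) +
        c₃ ^ 2 * (Nat.card (Subgroup.centralizer ({g₃} : Set G)) : ℝ) : ℝ) : ℂ) := by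
    rw [Complex.ofReal_sum]
    simp_rw [key]
    simp only [Finset.sum_add_distrib, ← Finset.mul_sum]
    rw [h11, h22, h33, k12, k21, k13, k31, k23, k32]
    push_cast
    ring
  exact_mod_cast this

end column

section unipotent

variable {F : Type*} [Field F]

/-- The centralizer of a non-trivial upper unitriangular matrix has at most `2q` elements. -/
theorem card_centralizer_u1_le' [Fintype F] (x : F) (hx : x ≠ 0) :
    Nat.card (Subgroup.centralizer
      ({((u1 x : B1 F) : SpecialLinearGroup (Fin 2) F)} : Set _)) ≤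
      2 * Fintype.card F := by
  classical
  set C := Subgroup.centralizer
    ({((u1 x : B1 F) : SpecialLinearGroup (Fin 2) F)} : Set _) with hC
  have hmem : ∀ g : C, ((g : SpecialLinearGroup (Fin 2) F) : Matrix (Fin 2) (Fin 2) F) 1 0 = 0 ∧
      ((g : SpecialLinearGroup (Fin 2) F) : Matrix (Fin 2) (Fin 2) F) 1 1 =
        ((g : SpecialLinearGroup (Fin 2) F) : Matrix (Fin 2) (Fin 2) F) 0 0 ∧
      (((g : SpecialLinearGroup (Fin 2) F) : Matrix (Fin 2) (Fin 2) F) 0 0 = 1 ∨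
        ((g : SpecialLinearGroup (Fin 2) F) : Matrix (Fin 2) (Fin 2) F) 0 0 = -1) := by
    rintro ⟨g, hg⟩
    rw [hC, Subgroup.mem_centralizer_iff] at hg
    have h := hg _ rfl
    have hM := congrArg (fun y : SpecialLinearGroup (Fin 2) F =>
      (y : Matrix (Fin 2) (Fin 2) F)) h
    simp only [Matrix.SpecialLinearGroup.coe_mul, u1_val] at hM
    have h00 := congrFun (congrFun hM 0) 0
    have h01 := congrFun (congrFun hM 0) 1
    simp [Matrix.mul_apply, Fin.sum_univ_two] at h00 h01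
    have h10 : (g : Matrix (Fin 2) (Fin 2) F) 1 0 = 0 := by
      rcases h00 with h | h
      · exact absurd h hx
      · exact h
    have hdet := g.det_coe
    rw [Matrix.det_fin_two] at hdet
    have h11 : (g : Matrix (Fin 2) (Fin 2) F) 1 1 = (g : Matrix (Fin 2) (Fin 2) F) 0 0 := by
      have : x * (g : Matrix (Fin 2) (Fin 2) F) 1 1 = x * (g : Matrix (Fin 2) (Fin 2) F) 0 0 := by
        linear_combination h01
      exact mul_left_cancel₀ hx this
    refine ⟨h10, h11, ?_⟩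
    simp only
    have : (g : Matrix (Fin 2) (Fin 2) F) 0 0 ^ 2 = 1 := by
      rw [h11, h10] at hdet
      linear_combination hdet
    exact sq_eq_one_iff.mp this
  let f : C → Bool × F := fun g =>
    (decide (((g : SpecialLinearGroup (Fin 2) F) : Matrix (Fin 2) (Fin 2) F) 0 0 = 1),
      ((g : SpecialLinearGroup (Fin 2) F) : Matrix (Fin 2) (Fin 2) F) 0 1)
  have hf : Function.Injective f := by
    intro g g' hgg
    simp only [f, Prod.mk.injEq, decide_eq_decide] at hgg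
    obtain ⟨hd, h01⟩ := hgg
    obtain ⟨a10, a11, a00⟩ := hmem g
    obtain ⟨b10, b11, b00⟩ := hmem g'
    have h00 : ((g : SpecialLinearGroup (Fin 2) F) : Matrix (Fin 2) (Fin 2) F) 0 0 =
        ((g' : SpecialLinearGroup (Fin 2) F) : Matrix (Fin 2) (Fin 2) F) 0 0 := by
      rcases a00 with h | h
      · rw [h, hd.1 h]
      · rcases b00 with h' | h'
        · have h1 := hd.2 h'
          rw [h1, h']
        · rw [h, h']
    apply Subtype.ext
    apply Matrix.SpecialLinearGroup.ext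
    intro i j
    fin_cases i <;> fin_cases j
    · exact h00
    · exact h01
    · exact a10.trans b10.symm
    · simp only [Fin.mk_one, Fin.isValue]
      rw [a11, b11]
      exact h00
  have := Nat.card_le_card_of_injective f hf
  rw [Nat.card_prod, Nat.card_eq_fintype_card (α := Bool), Nat.card_eq_fintype_card (α := F),
    Fintype.card_bool] at this
  exact this

/-- The two classes of transvections are different. -/
theorem not_isConj_u1_u1 (e : F) (he : ¬ IsSquare e) :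
    ¬ IsConj ((u1 (1 : F) : B1 F) : SpecialLinearGroup (Fin 2) F)
      ((u1 e : B1 F) : SpecialLinearGroup (Fin 2) F) := by
  intro h
  obtain ⟨c, hc⟩ := isConj_iff.1 h
  rw [mul_inv_eq_iff_eq_mul] at hc
  have hM := congrArg (fun y : SpecialLinearGroup (Fin 2) F =>
    (y : Matrix (Fin 2) (Fin 2) F)) hc
  simp only [Matrix.SpecialLinearGroup.coe_mul, u1_val] at hM
  have h00 := congrFun (congrFun hM 0) 0
  have h01 := congrFun (congrFun hM 0) 1
  simp [Matrix.mul_apply, Fin.sum_univ_two] at h00 h01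
  have he0 : e ≠ 0 := by
    rintro rfl
    exact he IsSquare.zero
  have h10 : (c : Matrix (Fin 2) (Fin 2) F) 1 0 = 0 := by
    rcases h00 with h | h
    · exact absurd h he0
    · exact h
  have hdet := c.det_coe
  rw [Matrix.det_fin_two, h10, mul_zero, sub_zero] at hdet
  apply he
  refine ⟨(c : Matrix (Fin 2) (Fin 2) F) 0 0, ?_⟩
  have : (c : Matrix (Fin 2) (Fin 2) F) 0 0 = e * (c : Matrix (Fin 2) (Fin 2) F) 1 1 := by
    linear_combination h01
  calc e = e * ((c : Matrix (Fin 2) (Fin 2) F) 0 0 * (c : Matrix (Fin 2) (Fin 2) F) 1 1) := by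
        rw [hdet, mul_one]
    _ = (c : Matrix (Fin 2) (Fin 2) F) 0 0 * (e * (c : Matrix (Fin 2) (Fin 2) F) 1 1) := by ring
    _ = (c : Matrix (Fin 2) (Fin 2) F) 0 0 * (c : Matrix (Fin 2) (Fin 2) F) 0 0 := by rw [← this]

end unipotent

section data

variable {F : Type*} [Field F] [Fintype F] [Fintype (SpecialLinearGroup (Fin 2) F)]

omit [Fintype (SpecialLinearGroup (Fin 2) F)] in
/-- The refined data of a character of `SL₂(F)`, `q` odd, in terms of the two values at the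
transvections. -/
theorem data_odd_values (hodd : Odd (Fintype.card F)) (χ : SpecialLinearGroup (Fin 2) F → ℂ)
    (hχ : Cfsg.IsCharacter (SpecialLinearGroup (Fin 2) F) χ) (e : F) (he : ¬ IsSquare e) :
    ∃ a b₁ b₂ : ℕ,
      χ 1 = (a : ℂ) + ((Fintype.card F : ℂ) - 1) * ((b₁ : ℂ) + (b₂ : ℂ)) / 2 ∧
      ∑ x : F, χ ((u1 x : B1 F) : SpecialLinearGroup (Fin 2) F) = (Fintype.card F : ℂ) * (a : ℂ) ∧
      (b₁ = b₂ → ∀ x : F, x ≠ 0 →
        χ ((u1 x : B1 F) : SpecialLinearGroup (Fin 2) F) = (a : ℂ) - (b₁ : ℂ)) ∧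
      χ 1 - (χ ((u1 (1 : F) : B1 F) : SpecialLinearGroup (Fin 2) F) +
        χ ((u1 e : B1 F) : SpecialLinearGroup (Fin 2) F)) / 2 =
        (Fintype.card F : ℂ) * ((b₁ : ℂ) + (b₂ : ℂ)) / 2 ∧
      ‖χ ((u1 (1 : F) : B1 F) : SpecialLinearGroup (Fin 2) F) -
        χ ((u1 e : B1 F) : SpecialLinearGroup (Fin 2) F)‖ ^ 2 =
        (Fintype.card F : ℝ) * ((b₁ : ℝ) - (b₂ : ℝ)) ^ 2 := by
  classical
  have hcf := Cfsg.Agent.Lib.Helper3_CharBridge.isClassFunction_of_isCharacter hχ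
  have hF := ringChar_ne_two_of_odd hodd
  obtain ⟨a, b₁, b₂, h1, h2, h3, h4⟩ := data_odd hodd χ hχ
  refine ⟨a, b₁, b₂, h1, h2, h4, ?_⟩
  obtain ⟨m, hm⟩ := hodd
  have hm1 : 1 ≤ m := by
    have := Fintype.one_lt_card (α := F)
    omega
  have hmC : (m : ℂ) ≠ 0 := by
    have : m ≠ 0 := by omega
    exact_mod_cast this
  have hmR : (m : ℝ) ≠ 0 := by
    have : m ≠ 0 := by omega
    exact_mod_cast this
  have hqC : (Fintype.card F : ℂ) = 2 * (m : ℂ) + 1 := by rw [hm]; push_cast; ring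
  have hqR : (Fintype.card F : ℝ) = 2 * (m : ℝ) + 1 := by rw [hm]; push_cast; ring
  set v := χ ((u1 (1 : F) : B1 F) : SpecialLinearGroup (Fin 2) F) with hv
  set v' := χ ((u1 e : B1 F) : SpecialLinearGroup (Fin 2) F) with hv'
  have hs := sum_u1_two_values hF hcf e he
  have hn := sum_norm_u1_two_values hF hcf e he
  rw [← hv, ← hv'] at hs hn
  rw [h2] at hs
  rw [h3] at hn
  -- the sum of the two values
  have hvv : v + v' = 2 * (a : ℂ) - ((b₁ : ℂ) + (b₂ : ℂ)) := by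
    rw [h1, hqC] at hs
    have : (m : ℂ) * (v + v') = (m : ℂ) * (2 * (a : ℂ) - ((b₁ : ℂ) + (b₂ : ℂ))) := by
      linear_combination -hs
    exact mul_left_cancel₀ hmC this
  constructor
  · rw [hvv, h1, hqC]
    ring
  · -- the norm of the difference
    have hpar := parallelogram_law_with_norm ℝ v v'
    have hvvn : ‖v + v'‖ ^ 2 = (2 * (a : ℝ) - ((b₁ : ℝ) + (b₂ : ℝ))) ^ 2 := by
      have : v + v' = ((2 * (a : ℝ) - ((b₁ : ℝ) + (b₂ : ℝ)) : ℝ) : ℂ) := by
        rw [hvv]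
        push_cast
        ring
      rw [this, Complex.norm_real, Real.norm_eq_abs, sq_abs]
    have hn1 : ‖χ 1‖ ^ 2 = ((a : ℝ) + (m : ℝ) * ((b₁ : ℝ) + (b₂ : ℝ))) ^ 2 := by
      have : χ 1 = (((a : ℝ) + (m : ℝ) * ((b₁ : ℝ) + (b₂ : ℝ)) : ℝ) : ℂ) := by
        rw [h1, hqC]
        push_cast
        ring
      rw [this, Complex.norm_real, Real.norm_eq_abs, sq_abs]
    rw [hn1, hqR] at hn
    have hN : (m : ℝ) * (‖v‖ ^ 2 + ‖v'‖ ^ 2) = (m : ℝ) * (2 * (a : ℝ) ^ 2 +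
        (2 * (m : ℝ) + 1) * ((b₁ : ℝ) ^ 2 + (b₂ : ℝ) ^ 2) -
        2 * (a : ℝ) * ((b₁ : ℝ) + (b₂ : ℝ)) - (m : ℝ) * ((b₁ : ℝ) + (b₂ : ℝ)) ^ 2) := by
      linear_combination -hn
    have hN' := mul_left_cancel₀ hmR hN
    rw [hqR]
    linear_combination hpar - hvvn + 2 * hN'

end data

section core

variable {F : Type*} [Field F] [Fintype F] [Fintype (SpecialLinearGroup (Fin 2) F)]

/-- A character whose restriction to the unipotent subgroup is trivial is trivial. -/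
theorem eq_triv_of_b_zero (χ : Cfsg.IrrCharacter (SpecialLinearGroup (Fin 2) F)) (a : ℕ)
    (h1 : (χ : SpecialLinearGroup (Fin 2) F → ℂ) 1 = (a : ℂ))
    (h2 : ∑ x : F, (χ : SpecialLinearGroup (Fin 2) F → ℂ)
      ((u1 x : B1 F) : SpecialLinearGroup (Fin 2) F) = (Fintype.card F : ℂ) * (a : ℂ))
    (h4 : ∀ x : F, x ≠ 0 → (χ : SpecialLinearGroup (Fin 2) F → ℂ)
      ((u1 x : B1 F) : SpecialLinearGroup (Fin 2) F) = (a : ℂ)) : χ = trivIrr := by
  classical
  have hq0 : (Fintype.card F : ℂ) ≠ 0 := by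
    exact_mod_cast (Fintype.card_pos (α := F)).ne'
  have ha0 : a ≠ 0 := by
    rintro rfl
    exact Cfsg.Agent.Lib.Helper78_CentralChar.isIrrCharacter_one_ne_zero χ.2 (by rw [h1]; simp)
  have hsum : ∑ x : F, χ.1 ((u1 x : B1 F) : SpecialLinearGroup (Fin 2) F) ≠ 0 := by
    rw [h2]
    exact mul_ne_zero hq0 (by exact_mod_cast ha0)
  obtain ⟨α, hν, hne, hcase⟩ := series_dichotomy χ.1 χ.2 hsum
  have ha1 : (a : ℂ) = 1 := by
    rcases hcase with hχR | ⟨-, hs, -⟩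
    · have h6 := congrFun hχR ((u1 (1 : F) : B1 F) : SpecialLinearGroup (Fin 2) F)
      rw [indFun_aFun_u1 α 1 one_ne_zero, h4 1 one_ne_zero] at h6
      exact h6
    · rw [h2] at hs
      exact mul_left_cancel₀ hq0 (by rw [hs, mul_one])
  apply Subtype.ext
  funext g
  have hχc := Cfsg.Agent.Lib.Helper3_CharBridge.isCharacter_of_isIrrCharacter χ.2
  refine eq_one_of_trivial_on_u1 hχc (by rw [h1, ha1]) ?_ g
  intro x
  by_cases hx : x = 0
  · subst hx
    rw [u1_zero]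
    change χ.1 1 = 1
    rw [h1, ha1]
  · rw [h4 x hx, ha1]

/-- The restriction of every irreducible character to the unipotent subgroup, `q` odd. -/
theorem odd_core' (hodd : Odd (Fintype.card F)) :
    ∃ a b₁ b₂ : Cfsg.IrrCharacter (SpecialLinearGroup (Fin 2) F) → ℕ,
      (∀ χ : Cfsg.IrrCharacter (SpecialLinearGroup (Fin 2) F),
        (χ : SpecialLinearGroup (Fin 2) F → ℂ) 1 =
        (a χ : ℂ) + ((Fintype.card F : ℂ) - 1) * ((b₁ χ : ℂ) + (b₂ χ : ℂ)) / 2) ∧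
      (∀ χ : Cfsg.IrrCharacter (SpecialLinearGroup (Fin 2) F),
        ∑ x : F, (χ : SpecialLinearGroup (Fin 2) F → ℂ)
        ((u1 x : B1 F) : SpecialLinearGroup (Fin 2) F) = (Fintype.card F : ℂ) * (a χ : ℂ)) ∧
      (∀ χ : Cfsg.IrrCharacter (SpecialLinearGroup (Fin 2) F), b₁ χ = b₂ χ → ∀ x : F, x ≠ 0 →
        (χ : SpecialLinearGroup (Fin 2) F → ℂ)
          ((u1 x : B1 F) : SpecialLinearGroup (Fin 2) F) = (a χ : ℂ) - (b₁ χ : ℂ)) ∧
      (∀ χ : Cfsg.IrrCharacter (SpecialLinearGroup (Fin 2) F),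
        χ ≠ trivIrr → (b₁ χ = 1 ∧ b₂ χ = 0) ∨ (b₁ χ = 0 ∧ b₂ χ = 1) ∨
        (b₁ χ = 1 ∧ b₂ χ = 1)) ∧
      (b₁ trivIrr = 0 ∧ b₂ trivIrr = 0) ∧
      (Finset.univ.filter (fun χ => b₁ χ + b₂ χ = 1)).card = 4 := by
  classical
  have hF := ringChar_ne_two_of_odd hodd
  obtain ⟨e, he⟩ := FiniteField.exists_nonsquare hF
  have hq0R : (0 : ℝ) < (Fintype.card F : ℝ) := by
    exact_mod_cast (Fintype.card_pos (α := F))
  set u : SpecialLinearGroup (Fin 2) F := ((u1 (1 : F) : B1 F) : SpecialLinearGroup (Fin 2) F)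
    with hu
  set u' : SpecialLinearGroup (Fin 2) F := ((u1 e : B1 F) : SpecialLinearGroup (Fin 2) F)
    with hu'
  have he0 : e ≠ 0 := by
    rintro rfl
    exact he IsSquare.zero
  have hdata := fun χ : Cfsg.IrrCharacter (SpecialLinearGroup (Fin 2) F) =>
    data_odd_values hodd χ.1 (Cfsg.Agent.Lib.Helper3_CharBridge.isCharacter_of_isIrrCharacter χ.2)
      e he
  choose a b₁ b₂ hP1 hP2 hP4 hQ1 hQ2 using hdata
  refine ⟨a, b₁, b₂, hP1, hP2, hP4, ?_⟩
  -- the trivial restriction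
  have hK4 : ∀ χ, b₁ χ = 0 → b₂ χ = 0 → χ = trivIrr := by
    intro χ h1 h2
    apply eq_triv_of_b_zero χ (a χ)
    · rw [hP1 χ, h1, h2]
      simp
    · exact hP2 χ
    · intro x hx
      rw [hP4 χ (h1.trans h2.symm) x hx, h1]
      simp
  -- non-conjugacy
  have hn1u : ¬ IsConj (1 : SpecialLinearGroup (Fin 2) F) u := by
    rw [isConj_one_right]
    intro h
    have := congrArg (fun g : SpecialLinearGroup (Fin 2) F =>
      (g : Matrix (Fin 2) (Fin 2) F) 0 1) h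
    simp [hu, u1_val] at this
  have hn1u' : ¬ IsConj (1 : SpecialLinearGroup (Fin 2) F) u' := by
    rw [isConj_one_right]
    intro h
    have := congrArg (fun g : SpecialLinearGroup (Fin 2) F =>
      (g : Matrix (Fin 2) (Fin 2) F) 0 1) h
    simp [hu', u1_val] at this
    exact he0 this
  have hnuu' : ¬ IsConj u u' := not_isConj_u1_u1 e he
  -- centralizers
  have hC1 : (Nat.card (Subgroup.centralizer ({1} : Set (SpecialLinearGroup (Fin 2) F))) : ℝ) =
      (Fintype.card F : ℝ) * ((Fintype.card F : ℝ) ^ 2 - 1) := by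
    have h : Subgroup.centralizer ({1} : Set (SpecialLinearGroup (Fin 2) F)) = ⊤ := by
      ext x
      simp [Subgroup.mem_centralizer_singleton_iff]
    rw [h, Subgroup.card_top, Cfsg.Agent.S2301.card_SL2]
    have h1q : 1 ≤ Fintype.card F ^ 2 := Nat.one_le_pow _ _ Fintype.card_pos
    push_cast [Nat.cast_sub h1q]
    ring
  have hCu : (Nat.card (Subgroup.centralizer ({u} : Set (SpecialLinearGroup (Fin 2) F))) : ℝ) ≤
      2 * (Fintype.card F : ℝ) := by
    exact_mod_cast card_centralizer_u1_le' (1 : F) one_ne_zero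
  have hCu' : (Nat.card (Subgroup.centralizer ({u'} : Set (SpecialLinearGroup (Fin 2) F))) : ℝ) ≤
      2 * (Fintype.card F : ℝ) := by
    exact_mod_cast card_centralizer_u1_le' e he0
  -- the two column sums
  have hS1 := sum_norm_three (1 : SpecialLinearGroup (Fin 2) F) u u' hn1u hn1u' hnuu'
    (-1 / 2) (-1 / 2)
  have hS2 := sum_norm_add_sign u u' hnuu' (-1) (by norm_num)
  have hT1 : ∀ χ : Cfsg.IrrCharacter (SpecialLinearGroup (Fin 2) F),
      ‖(χ : SpecialLinearGroup (Fin 2) F → ℂ) 1 + ((-1 / 2 : ℝ) : ℂ) *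
        (χ : SpecialLinearGroup (Fin 2) F → ℂ) u + ((-1 / 2 : ℝ) : ℂ) *
        (χ : SpecialLinearGroup (Fin 2) F → ℂ) u'‖ ^ 2 =
      (Fintype.card F : ℝ) ^ 2 * ((b₁ χ : ℝ) + (b₂ χ : ℝ)) ^ 2 / 4 := by
    intro χ
    have : (χ : SpecialLinearGroup (Fin 2) F → ℂ) 1 + ((-1 / 2 : ℝ) : ℂ) *
        (χ : SpecialLinearGroup (Fin 2) F → ℂ) u + ((-1 / 2 : ℝ) : ℂ) *
        (χ : SpecialLinearGroup (Fin 2) F → ℂ) u' =
        (((Fintype.card F : ℝ) * ((b₁ χ : ℝ) + (b₂ χ : ℝ)) / 2 : ℝ) : ℂ) := by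
      have := hQ1 χ
      push_cast
      linear_combination this
    rw [this, Complex.norm_real, Real.norm_eq_abs, sq_abs]
    ring
  have hT2 : ∀ χ : Cfsg.IrrCharacter (SpecialLinearGroup (Fin 2) F),
      ‖(χ : SpecialLinearGroup (Fin 2) F → ℂ) u + ((-1 : ℝ) : ℂ) *
        (χ : SpecialLinearGroup (Fin 2) F → ℂ) u'‖ ^ 2 =
      (Fintype.card F : ℝ) * ((b₁ χ : ℝ) - (b₂ χ : ℝ)) ^ 2 := by
    intro χ
    rw [← hQ2 χ]
    congr 2
    push_cast
    ring
  simp_rw [hT1] at hS1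
  simp_rw [hT2] at hS2
  -- the weights
  set gz : Cfsg.IrrCharacter (SpecialLinearGroup (Fin 2) F) → ℤ :=
    fun χ => (b₁ χ : ℤ) ^ 2 + (b₂ χ : ℤ) ^ 2 - (b₁ χ : ℤ) * (b₂ χ : ℤ) with hgz
  have hB : ∑ χ : Cfsg.IrrCharacter (SpecialLinearGroup (Fin 2) F),
      ((b₁ χ : ℝ) + (b₂ χ : ℝ)) ^ 2 ≤ 4 * (Fintype.card F : ℝ) := by
    have h1 : (Fintype.card F : ℝ) ^ 2 / 4 *
        ∑ χ : Cfsg.IrrCharacter (SpecialLinearGroup (Fin 2) F),
          ((b₁ χ : ℝ) + (b₂ χ : ℝ)) ^ 2 ≤ (Fintype.card F : ℝ) ^ 2 / 4 *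
            (4 * (Fintype.card F : ℝ)) := by
      rw [Finset.mul_sum]
      have : ∑ χ : Cfsg.IrrCharacter (SpecialLinearGroup (Fin 2) F),
          (Fintype.card F : ℝ) ^ 2 / 4 * ((b₁ χ : ℝ) + (b₂ χ : ℝ)) ^ 2 =
          ∑ χ : Cfsg.IrrCharacter (SpecialLinearGroup (Fin 2) F),
          (Fintype.card F : ℝ) ^ 2 * ((b₁ χ : ℝ) + (b₂ χ : ℝ)) ^ 2 / 4 :=
        Finset.sum_congr rfl (fun χ _ => by ring)
      rw [this, hS1, hC1]
      nlinarith
    exact le_of_mul_le_mul_left h1 (by positivity)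
  have hD : ∑ χ : Cfsg.IrrCharacter (SpecialLinearGroup (Fin 2) F),
      ((b₁ χ : ℝ) - (b₂ χ : ℝ)) ^ 2 ≤ 4 := by
    have h1 : (Fintype.card F : ℝ) *
        ∑ χ : Cfsg.IrrCharacter (SpecialLinearGroup (Fin 2) F),
          ((b₁ χ : ℝ) - (b₂ χ : ℝ)) ^ 2 ≤ (Fintype.card F : ℝ) * 4 := by
      rw [Finset.mul_sum, hS2]
      linarith
    exact le_of_mul_le_mul_left h1 hq0R
  have hcard : Fintype.card (Cfsg.IrrCharacter (SpecialLinearGroup (Fin 2) F)) =
      Fintype.card F + 4 := by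
    rw [← Nat.card_eq_fintype_card,
      Cfsg.Agent.Lib.Helper3_CharColumn.card_irr_eq_card_conjClasses,
      Cfsg.Agent.S2325.result hodd]
  have hgsum : ∑ χ : Cfsg.IrrCharacter (SpecialLinearGroup (Fin 2) F), gz χ ≤
      (Fintype.card F : ℤ) + 3 := by
    have h1 : ((∑ χ : Cfsg.IrrCharacter (SpecialLinearGroup (Fin 2) F), gz χ : ℤ) : ℝ) ≤
        (((Fintype.card F : ℤ) + 3 : ℤ) : ℝ) := by
      push_cast
      have h2 : ∀ χ : Cfsg.IrrCharacter (SpecialLinearGroup (Fin 2) F), ((gz χ : ℤ) : ℝ) =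
          (((b₁ χ : ℝ) + (b₂ χ : ℝ)) ^ 2 + 3 * ((b₁ χ : ℝ) - (b₂ χ : ℝ)) ^ 2) / 4 := by
        intro χ
        simp only [hgz]
        push_cast
        ring
      simp_rw [h2]
      rw [← Finset.sum_div, Finset.sum_add_distrib, ← Finset.mul_sum]
      linarith
    exact_mod_cast h1
  have hgpos : ∀ χ, χ ≠ trivIrr → 1 ≤ gz χ := by
    intro χ hχ
    have hne : ¬ (b₁ χ = 0 ∧ b₂ χ = 0) := fun h => hχ (hK4 χ h.1 h.2)
    simp only [hgz]
    rcases Nat.eq_zero_or_pos (b₁ χ) with h1 | h1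
    · rw [h1]
      have h2 : 1 ≤ b₂ χ := Nat.pos_of_ne_zero (fun h => hne ⟨h1, h⟩)
      have : (1 : ℤ) ≤ (b₂ χ : ℤ) := by exact_mod_cast h2
      nlinarith
    · rcases Nat.eq_zero_or_pos (b₂ χ) with h2 | h2
      · rw [h2]
        have : (1 : ℤ) ≤ (b₁ χ : ℤ) := by exact_mod_cast h1
        nlinarith
      · have e1 : (1 : ℤ) ≤ (b₁ χ : ℤ) := by exact_mod_cast h1
        have e2 : (1 : ℤ) ≤ (b₂ χ : ℤ) := by exact_mod_cast h2
        nlinarith [sq_nonneg ((b₁ χ : ℤ) - (b₂ χ : ℤ))]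
  have hgnonneg : ∀ χ, 0 ≤ gz χ := by
    intro χ
    simp only [hgz]
    nlinarith [sq_nonneg ((b₁ χ : ℤ) - (b₂ χ : ℤ)), sq_nonneg ((b₁ χ : ℤ) + (b₂ χ : ℤ))]
  -- squeeze
  have hsplit : ∑ χ : Cfsg.IrrCharacter (SpecialLinearGroup (Fin 2) F), gz χ =
      gz trivIrr + ∑ χ ∈ Finset.univ.erase (trivIrr (F := F)), gz χ :=
    (Finset.add_sum_erase Finset.univ gz (Finset.mem_univ (trivIrr (F := F)))).symm
  have hones : ∑ _χ ∈ Finset.univ.erase (trivIrr (F := F)), (1 : ℤ) = (Fintype.card F : ℤ) + 3 := by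
    rw [Finset.sum_const, Finset.card_erase_of_mem (Finset.mem_univ _), Finset.card_univ, hcard]
    simp
  have hge : ∑ _χ ∈ Finset.univ.erase (trivIrr (F := F)), (1 : ℤ) ≤
      ∑ χ ∈ Finset.univ.erase (trivIrr (F := F)), gz χ :=
    Finset.sum_le_sum (fun χ hχ => hgpos χ (Finset.ne_of_mem_erase hχ))
  have heq : ∑ _χ ∈ Finset.univ.erase (trivIrr (F := F)), (1 : ℤ) =
      ∑ χ ∈ Finset.univ.erase (trivIrr (F := F)), gz χ := by
    have := hgnonneg (trivIrr (F := F))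
    linarith
  have hall := (Finset.sum_eq_sum_iff_of_le
    (fun χ hχ => hgpos χ (Finset.ne_of_mem_erase hχ))).1 heq
  have htriv0 : gz trivIrr = 0 := by
    have := hgnonneg (trivIrr (F := F))
    linarith
  have hcases : ∀ χ, χ ≠ trivIrr → (b₁ χ = 1 ∧ b₂ χ = 0) ∨ (b₁ χ = 0 ∧ b₂ χ = 1) ∨
      (b₁ χ = 1 ∧ b₂ χ = 1) := by
    intro χ hχ
    have h1 := (hall χ (Finset.mem_erase.2 ⟨hχ, Finset.mem_univ _⟩)).symm
    simp only [hgz] at h1
    have hb1 : b₁ χ ≤ 1 := by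
      by_contra hlt
      have : (2 : ℤ) ≤ (b₁ χ : ℤ) := by
        have : 2 ≤ b₁ χ := by omega
        exact_mod_cast this
      nlinarith [sq_nonneg (2 * (b₂ χ : ℤ) - (b₁ χ : ℤ))]
    have hb2 : b₂ χ ≤ 1 := by
      by_contra hlt
      have : (2 : ℤ) ≤ (b₂ χ : ℤ) := by
        have : 2 ≤ b₂ χ := by omega
        exact_mod_cast this
      nlinarith [sq_nonneg (2 * (b₁ χ : ℤ) - (b₂ χ : ℤ))]
    have hne : ¬ (b₁ χ = 0 ∧ b₂ χ = 0) := fun h => hχ (hK4 χ h.1 h.2)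
    omega
  have htrivb : b₁ trivIrr = 0 ∧ b₂ trivIrr = 0 := by
    simp only [hgz] at htriv0
    have h1 : (b₁ (trivIrr (F := F)) : ℤ) = 0 := by
      nlinarith [sq_nonneg ((b₁ (trivIrr (F := F)) : ℤ) - (b₂ (trivIrr (F := F)) : ℤ)),
        sq_nonneg ((b₁ (trivIrr (F := F)) : ℤ) + (b₂ (trivIrr (F := F)) : ℤ)),
        sq_nonneg (b₁ (trivIrr (F := F)) : ℤ), sq_nonneg (b₂ (trivIrr (F := F)) : ℤ)]
    have h2 : (b₂ (trivIrr (F := F)) : ℤ) = 0 := by
      rw [h1] at htriv0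
      nlinarith [sq_nonneg (b₂ (trivIrr (F := F)) : ℤ)]
    exact ⟨by exact_mod_cast h1, by exact_mod_cast h2⟩
  refine ⟨hcases, htrivb, ?_⟩
  -- the number of characters with `b₁ + b₂ = 1`
  have hDeq : ∑ χ : Cfsg.IrrCharacter (SpecialLinearGroup (Fin 2) F),
      ((b₁ χ : ℝ) - (b₂ χ : ℝ)) ^ 2 = 4 := by
    have h2 : ∑ χ : Cfsg.IrrCharacter (SpecialLinearGroup (Fin 2) F), ((gz χ : ℤ) : ℝ) =
        (Fintype.card F : ℝ) + 3 := by
      have : ∑ χ : Cfsg.IrrCharacter (SpecialLinearGroup (Fin 2) F), gz χ =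
          (Fintype.card F : ℤ) + 3 := by
        rw [hsplit, htriv0, zero_add, ← heq, hones]
      have h3 := congrArg (fun n : ℤ => (n : ℝ)) this
      push_cast at h3
      exact h3
    have h4 : ∀ χ : Cfsg.IrrCharacter (SpecialLinearGroup (Fin 2) F), ((gz χ : ℤ) : ℝ) =
        (((b₁ χ : ℝ) + (b₂ χ : ℝ)) ^ 2 + 3 * ((b₁ χ : ℝ) - (b₂ χ : ℝ)) ^ 2) / 4 := by
      intro χ
      simp only [hgz]
      push_cast
      ring
    simp_rw [h4] at h2
    rw [← Finset.sum_div, Finset.sum_add_distrib, ← Finset.mul_sum] at h2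
    linarith
  have hind : ∀ χ : Cfsg.IrrCharacter (SpecialLinearGroup (Fin 2) F),
      ((b₁ χ : ℝ) - (b₂ χ : ℝ)) ^ 2 = if b₁ χ + b₂ χ = 1 then 1 else 0 := by
    intro χ
    by_cases hχ : χ = trivIrr
    · rw [hχ, htrivb.1, htrivb.2]
      simp
    · rcases hcases χ hχ with ⟨h1, h2⟩ | ⟨h1, h2⟩ | ⟨h1, h2⟩ <;> rw [h1, h2] <;> norm_num
  simp_rw [hind] at hDeq
  rw [Finset.card_filter]
  have : ((∑ χ : Cfsg.IrrCharacter (SpecialLinearGroup (Fin 2) F),
      (if b₁ χ + b₂ χ = 1 then 1 else 0) : ℕ) : ℝ) = ((4 : ℕ) : ℝ) := by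
    push_cast
    exact hDeq
  exact_mod_cast this

/-- The classification of the irreducible characters by their restriction to the unipotent
subgroup, `q` odd: each non-trivial irreducible character has one of five types. -/
theorem odd_core (hodd : Odd (Fintype.card F)) :
    ∃ a b₁ b₂ : Cfsg.IrrCharacter (SpecialLinearGroup (Fin 2) F) → ℕ,
      (∀ χ : Cfsg.IrrCharacter (SpecialLinearGroup (Fin 2) F),
        (χ : SpecialLinearGroup (Fin 2) F → ℂ) 1 =
        (a χ : ℂ) + ((Fintype.card F : ℂ) - 1) * ((b₁ χ : ℂ) + (b₂ χ : ℂ)) / 2) ∧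
      (∀ χ : Cfsg.IrrCharacter (SpecialLinearGroup (Fin 2) F),
        ∑ x : F, (χ : SpecialLinearGroup (Fin 2) F → ℂ)
        ((u1 x : B1 F) : SpecialLinearGroup (Fin 2) F) = (Fintype.card F : ℂ) * (a χ : ℂ)) ∧
      (∀ χ : Cfsg.IrrCharacter (SpecialLinearGroup (Fin 2) F),
        χ ≠ trivIrr → (b₁ χ = 1 ∧ b₂ χ = 0) ∨ (b₁ χ = 0 ∧ b₂ χ = 1) ∨
        (b₁ χ = 1 ∧ b₂ χ = 1)) ∧
      (b₁ trivIrr = 0 ∧ b₂ trivIrr = 0) ∧
      (Finset.univ.filter (fun χ => b₁ χ + b₂ χ = 1)).card = 4 := by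
  obtain ⟨a, b₁, b₂, h1, h2, -, h3, h4, h5⟩ := odd_core' hodd
  exact ⟨a, b₁, b₂, h1, h2, h3, h4, h5⟩

theorem odd_types'' (hodd : Odd (Fintype.card F)) :
    ∃ a B : Cfsg.IrrCharacter (SpecialLinearGroup (Fin 2) F) → ℕ,
      (∀ χ : Cfsg.IrrCharacter (SpecialLinearGroup (Fin 2) F),
        (χ : SpecialLinearGroup (Fin 2) F → ℂ) 1 =
          ((a χ + (Fintype.card F - 1) / 2 * B χ : ℕ) : ℂ)) ∧
      (∀ χ : Cfsg.IrrCharacter (SpecialLinearGroup (Fin 2) F), χ ≠ trivIrr →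
        (a χ = 0 ∧ B χ = 1) ∨ (a χ = 0 ∧ B χ = 2) ∨ (a χ = 1 ∧ B χ = 1) ∨ (a χ = 1 ∧ B χ = 2) ∨
          (a χ = 2 ∧ B χ = 2)) ∧
      (a trivIrr = 1 ∧ B trivIrr = 0) ∧
      (Finset.univ.filter (fun χ => B χ = 1)).card = 4 ∧
      (∀ χ : Cfsg.IrrCharacter (SpecialLinearGroup (Fin 2) F),
        ∑ x : F, (χ : SpecialLinearGroup (Fin 2) F → ℂ)
        ((u1 x : B1 F) : SpecialLinearGroup (Fin 2) F) = (Fintype.card F : ℂ) * (a χ : ℂ)) ∧
      (∀ χ : Cfsg.IrrCharacter (SpecialLinearGroup (Fin 2) F), B χ = 2 → ∀ x : F, x ≠ 0 →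
        (χ : SpecialLinearGroup (Fin 2) F → ℂ)
          ((u1 x : B1 F) : SpecialLinearGroup (Fin 2) F) = (a χ : ℂ) - 1) := by
  classical
  obtain ⟨a, b₁, b₂, hP1, hP2, hP4, hcases, htriv, hcount⟩ := odd_core' hodd
  have hq0 : (Fintype.card F : ℂ) ≠ 0 := by
    exact_mod_cast (Fintype.card_pos (α := F)).ne'
  obtain ⟨m, hm⟩ := hodd
  have hm1 : 1 ≤ m := by
    have := Fintype.one_lt_card (α := F)
    omega
  have ehalf : (Fintype.card F - 1) / 2 = m := by omega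
  have hdeg : ∀ χ : Cfsg.IrrCharacter (SpecialLinearGroup (Fin 2) F),
      (χ : SpecialLinearGroup (Fin 2) F → ℂ) 1 =
        ((a χ + (Fintype.card F - 1) / 2 * (b₁ χ + b₂ χ) : ℕ) : ℂ) := by
    intro χ
    rw [hP1 χ, ehalf, hm]
    push_cast
    ring
  have hval : ∀ χ : Cfsg.IrrCharacter (SpecialLinearGroup (Fin 2) F), b₁ χ + b₂ χ = 2 →
      ∀ x : F, x ≠ 0 → (χ : SpecialLinearGroup (Fin 2) F → ℂ)
        ((u1 x : B1 F) : SpecialLinearGroup (Fin 2) F) = (a χ : ℂ) - 1 := by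
    intro χ hB x hx
    have hχ : χ ≠ trivIrr := by
      rintro rfl
      rw [htriv.1, htriv.2] at hB
      omega
    have h11 : b₁ χ = 1 ∧ b₂ χ = 1 := by
      rcases hcases χ hχ with ⟨h1, h2⟩ | ⟨h1, h2⟩ | ⟨h1, h2⟩
      · omega
      · omega
      · exact ⟨h1, h2⟩
    rw [hP4 χ (h11.1.trans h11.2.symm) x hx, h11.1]
    simp
  refine ⟨a, fun χ => b₁ χ + b₂ χ, hdeg, ?_, ?_, hcount, hP2, hval⟩
  · intro χ hχ
    have hB : b₁ χ + b₂ χ = 1 ∨ b₁ χ + b₂ χ = 2 := by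
      rcases hcases χ hχ with ⟨h1, h2⟩ | ⟨h1, h2⟩ | ⟨h1, h2⟩ <;> omega
    by_cases ha : a χ = 0
    · rcases hB with h | h
      · exact Or.inl ⟨ha, h⟩
      · exact Or.inr (Or.inl ⟨ha, h⟩)
    · have hsum : ∑ x : F, χ.1 ((u1 x : B1 F) : SpecialLinearGroup (Fin 2) F) ≠ 0 := by
        rw [hP2 χ]
        exact mul_ne_zero hq0 (by exact_mod_cast ha)
      obtain ⟨α, hν, hne, hcase⟩ := series_dichotomy χ.1 χ.2 hsum
      rcases hcase with hχR | ⟨-, hs, -⟩
      · have h1 : χ.1 1 = (Fintype.card F : ℂ) + 1 := by rw [hχR, indFun_aFun_one]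
        have h2 : ∑ x : F, χ.1 ((u1 x : B1 F) : SpecialLinearGroup (Fin 2) F) =
            2 * (Fintype.card F : ℂ) := by rw [hχR, sum_indFun_aFun_u1]
        have ha2 : a χ = 2 := by
          rw [hP2 χ] at h2
          have : (a χ : ℂ) = 2 := by
            have : (Fintype.card F : ℂ) * (a χ : ℂ) = (Fintype.card F : ℂ) * 2 := by
              linear_combination h2
            exact mul_left_cancel₀ hq0 this
          exact_mod_cast this
        have hd := hdeg χ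
        change χ.1 1 = _ at hd
        rw [h1, ha2, ehalf, hm] at hd
        have hd' : 2 * m + 1 + 1 = 2 + m * (b₁ χ + b₂ χ) := by exact_mod_cast hd
        right; right; right; right
        refine ⟨ha2, ?_⟩
        rcases hB with h | h
        · rw [h] at hd'
          omega
        · exact h
      · have ha1 : a χ = 1 := by
          rw [hP2 χ] at hs
          have : (a χ : ℂ) = 1 := mul_left_cancel₀ hq0 (by rw [hs, mul_one])
          exact_mod_cast this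
        rcases hB with h | h
        · exact Or.inr (Or.inr (Or.inl ⟨ha1, h⟩))
        · exact Or.inr (Or.inr (Or.inr (Or.inl ⟨ha1, h⟩)))
  · refine ⟨?_, by change b₁ trivIrr + b₂ trivIrr = 0; rw [htriv.1, htriv.2]⟩
    have hd := hdeg (trivIrr (F := F))
    rw [htriv.1, htriv.2] at hd
    have h1 : ((trivIrr : Cfsg.IrrCharacter (SpecialLinearGroup (Fin 2) F)) :
        SpecialLinearGroup (Fin 2) F → ℂ) 1 = 1 := rfl
    rw [h1] at hd
    have : 1 = a (trivIrr (F := F)) + (Fintype.card F - 1) / 2 * (0 + 0) := by exact_mod_cast hd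
    omega

theorem odd_types' (hodd : Odd (Fintype.card F)) :
    ∃ a B : Cfsg.IrrCharacter (SpecialLinearGroup (Fin 2) F) → ℕ,
      (∀ χ : Cfsg.IrrCharacter (SpecialLinearGroup (Fin 2) F),
        (χ : SpecialLinearGroup (Fin 2) F → ℂ) 1 =
          ((a χ + (Fintype.card F - 1) / 2 * B χ : ℕ) : ℂ)) ∧
      (∀ χ : Cfsg.IrrCharacter (SpecialLinearGroup (Fin 2) F), χ ≠ trivIrr →
        (a χ = 0 ∧ B χ = 1) ∨ (a χ = 0 ∧ B χ = 2) ∨ (a χ = 1 ∧ B χ = 1) ∨ (a χ = 1 ∧ B χ = 2) ∨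
          (a χ = 2 ∧ B χ = 2)) ∧
      (a trivIrr = 1 ∧ B trivIrr = 0) ∧
      (Finset.univ.filter (fun χ => B χ = 1)).card = 4 ∧
      (∀ χ : Cfsg.IrrCharacter (SpecialLinearGroup (Fin 2) F),
        ∑ x : F, (χ : SpecialLinearGroup (Fin 2) F → ℂ)
        ((u1 x : B1 F) : SpecialLinearGroup (Fin 2) F) = (Fintype.card F : ℂ) * (a χ : ℂ)) := by
  obtain ⟨a, B, h1, h2, h3, h4, h5, -⟩ := odd_types'' hodd
  exact ⟨a, B, h1, h2, h3, h4, h5⟩

theorem odd_types (hodd : Odd (Fintype.card F)) :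
    ∃ a B : Cfsg.IrrCharacter (SpecialLinearGroup (Fin 2) F) → ℕ,
      (∀ χ : Cfsg.IrrCharacter (SpecialLinearGroup (Fin 2) F),
        (χ : SpecialLinearGroup (Fin 2) F → ℂ) 1 =
          ((a χ + (Fintype.card F - 1) / 2 * B χ : ℕ) : ℂ)) ∧
      (∀ χ : Cfsg.IrrCharacter (SpecialLinearGroup (Fin 2) F), χ ≠ trivIrr →
        (a χ = 0 ∧ B χ = 1) ∨ (a χ = 0 ∧ B χ = 2) ∨ (a χ = 1 ∧ B χ = 1) ∨ (a χ = 1 ∧ B χ = 2) ∨
          (a χ = 2 ∧ B χ = 2)) ∧
      (a trivIrr = 1 ∧ B trivIrr = 0) ∧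
      (Finset.univ.filter (fun χ => B χ = 1)).card = 4 := by
  obtain ⟨a, B, h1, h2, h3, h4, -⟩ := odd_types' hodd
  exact ⟨a, B, h1, h2, h3, h4⟩

end core


theorem six_ind_sq (m v : ℕ) (hm : 2 ≤ m)
    (hv : v = 1 ∨ v = m ∨ v = m + 1 ∨ v = 2 * m ∨ v = 2 * m + 1 ∨ v = 2 * m + 2) :
    (if v = 1 then 1 else 0) * 1 ^ 2 + (if v = m then 1 else 0) * m ^ 2 +
      (if v = m + 1 then 1 else 0) * (m + 1) ^ 2 + (if v = 2 * m then 1 else 0) * (2 * m) ^ 2 +
      (if v = 2 * m + 1 then 1 else 0) * (2 * m + 1) ^ 2 +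
      (if v = 2 * m + 2 then 1 else 0) * (2 * m + 2) ^ 2 = v ^ 2 := by
  rcases hv with rfl | rfl | rfl | rfl | rfl | rfl
  · rw [if_pos rfl, if_neg (by omega), if_neg (by omega), if_neg (by omega), if_neg (by omega),
      if_neg (by omega)]
    ring
  · rw [if_neg (by omega), if_pos rfl, if_neg (by omega), if_neg (by omega), if_neg (by omega),
      if_neg (by omega)]
    ring
  · rw [if_neg (by omega), if_neg (by omega), if_pos rfl, if_neg (by omega), if_neg (by omega),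
      if_neg (by omega)]
    ring
  · rw [if_neg (by omega), if_neg (by omega), if_neg (by omega), if_pos rfl, if_neg (by omega),
      if_neg (by omega)]
    ring
  · rw [if_neg (by omega), if_neg (by omega), if_neg (by omega), if_neg (by omega), if_pos rfl,
      if_neg (by omega)]
    ring
  · rw [if_neg (by omega), if_neg (by omega), if_neg (by omega), if_neg (by omega),
      if_neg (by omega), if_pos rfl]
    ring

theorem six_ind_one (m v : ℕ) (hm : 2 ≤ m)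
    (hv : v = 1 ∨ v = m ∨ v = m + 1 ∨ v = 2 * m ∨ v = 2 * m + 1 ∨ v = 2 * m + 2) :
    (if v = 1 then 1 else 0) + (if v = m then 1 else 0) +
      (if v = m + 1 then 1 else 0) + (if v = 2 * m then 1 else 0) +
      (if v = 2 * m + 1 then 1 else 0) +
      (if v = 2 * m + 2 then 1 else 0) = 1 := by
  rcases hv with rfl | rfl | rfl | rfl | rfl | rfl
  · rw [if_pos rfl, if_neg (by omega), if_neg (by omega), if_neg (by omega), if_neg (by omega),
      if_neg (by omega)]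
  · rw [if_neg (by omega), if_pos rfl, if_neg (by omega), if_neg (by omega), if_neg (by omega),
      if_neg (by omega)]
  · rw [if_neg (by omega), if_neg (by omega), if_pos rfl, if_neg (by omega), if_neg (by omega),
      if_neg (by omega)]
  · rw [if_neg (by omega), if_neg (by omega), if_neg (by omega), if_pos rfl, if_neg (by omega),
      if_neg (by omega)]
  · rw [if_neg (by omega), if_neg (by omega), if_neg (by omega), if_neg (by omega), if_pos rfl,
      if_neg (by omega)]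
  · rw [if_neg (by omega), if_neg (by omega), if_neg (by omega), if_neg (by omega),
      if_neg (by omega), if_pos rfl]

section final

variable {F : Type*} [Field F] [Fintype F] [Fintype (SpecialLinearGroup (Fin 2) F)]

/-- The degrees of the irreducible characters of `SL₂(F)`, `q` odd. -/
theorem degree_odd (hodd : Odd (Fintype.card F)) (χ : SpecialLinearGroup (Fin 2) F → ℂ)
    (hχ : Cfsg.IsIrrCharacter (SpecialLinearGroup (Fin 2) F) χ) :
    χ 1 = 1 ∨ χ 1 = (Fintype.card F : ℂ) ∨ χ 1 = (Fintype.card F : ℂ) + 1 ∨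
      χ 1 = (Fintype.card F : ℂ) - 1 ∨ χ 1 = (((Fintype.card F + 1) / 2 : ℕ) : ℂ) ∨
      χ 1 = (((Fintype.card F - 1) / 2 : ℕ) : ℂ) := by
  classical
  obtain ⟨a, B, hdeg, hcases, htriv, -⟩ := odd_types hodd
  obtain ⟨m, hm⟩ := hodd
  have e1 : (Fintype.card F - 1) / 2 = m := by omega
  have e2 : (Fintype.card F + 1) / 2 = m + 1 := by omega
  set ψ : Cfsg.IrrCharacter (SpecialLinearGroup (Fin 2) F) := ⟨χ, hχ⟩ with hψ
  have hd : χ 1 = ((a ψ + (Fintype.card F - 1) / 2 * B ψ : ℕ) : ℂ) := hdeg ψ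
  rw [e1] at hd
  rw [e1, e2, hm, hd]
  by_cases hψt : ψ = trivIrr
  · left
    rw [hψt, htriv.1, htriv.2]
    simp
  · rcases hcases ψ hψt with ⟨h1, h2⟩ | ⟨h1, h2⟩ | ⟨h1, h2⟩ | ⟨h1, h2⟩ | ⟨h1, h2⟩ <;> rw [h1, h2]
    · right; right; right; right; right
      simp
    · right; right; right; left
      push_cast
      ring
    · right; right; right; right; left
      push_cast
      ring
    · right; left
      push_cast
      ring
    · right; right; left
      push_cast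
      ring

/-- Uniqueness of the irreducible character of degree `q`. -/
theorem steinberg_unique (χ χ' : SpecialLinearGroup (Fin 2) F → ℂ)
    (hχ : Cfsg.IsIrrCharacter (SpecialLinearGroup (Fin 2) F) χ)
    (hχ' : Cfsg.IsIrrCharacter (SpecialLinearGroup (Fin 2) F) χ')
    (h : χ 1 = (Fintype.card F : ℂ)) (h' : χ' 1 = (Fintype.card F : ℂ)) : χ = χ' := by
  obtain ⟨α, hα, hv⟩ := steinberg_eq χ hχ h
  obtain ⟨α', hα', hv'⟩ := steinberg_eq χ' hχ' h'
  have : α = α' := by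
    apply aFun_injective
    funext b
    rw [hα b, hα' b]
  subst this
  funext g
  rw [hv g, hv' g]

/-- The number of irreducible characters of each degree, `q` odd. -/
theorem counts_odd (hodd : Odd (Fintype.card F)) (hq : 5 ≤ Fintype.card F) :
    Nat.card {χ : Cfsg.IrrCharacter (SpecialLinearGroup (Fin 2) F) //
      (χ : SpecialLinearGroup (Fin 2) F → ℂ) 1 = 1} = 1 ∧
    Nat.card {χ : Cfsg.IrrCharacter (SpecialLinearGroup (Fin 2) F) //
      (χ : SpecialLinearGroup (Fin 2) F → ℂ) 1 = (Fintype.card F : ℂ)} = 1 ∧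
    Nat.card {χ : Cfsg.IrrCharacter (SpecialLinearGroup (Fin 2) F) //
      (χ : SpecialLinearGroup (Fin 2) F → ℂ) 1 = (Fintype.card F : ℂ) + 1} =
        (Fintype.card F - 3) / 2 ∧
    Nat.card {χ : Cfsg.IrrCharacter (SpecialLinearGroup (Fin 2) F) //
      (χ : SpecialLinearGroup (Fin 2) F → ℂ) 1 = (Fintype.card F : ℂ) - 1} =
        (Fintype.card F - 1) / 2 ∧
    Nat.card {χ : Cfsg.IrrCharacter (SpecialLinearGroup (Fin 2) F) //
      (χ : SpecialLinearGroup (Fin 2) F → ℂ) 1 = (((Fintype.card F + 1) / 2 : ℕ) : ℂ)} = 2 ∧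
    Nat.card {χ : Cfsg.IrrCharacter (SpecialLinearGroup (Fin 2) F) //
      (χ : SpecialLinearGroup (Fin 2) F → ℂ) 1 = (((Fintype.card F - 1) / 2 : ℕ) : ℂ)} = 2 := by
  classical
  obtain ⟨a, B, hdeg, hcases, htriv, hcount4⟩ := odd_types hodd
  have hodd' := hodd
  obtain ⟨m, hm⟩ := hodd
  have hm2 : 2 ≤ m := by omega
  have e1 : (Fintype.card F - 1) / 2 = m := by omega
  have e2 : (Fintype.card F + 1) / 2 = m + 1 := by omega
  rw [e1, e2]
  -- degrees as natural numbers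
  set d : Cfsg.IrrCharacter (SpecialLinearGroup (Fin 2) F) → ℕ := fun χ => a χ + m * B χ with hd
  have hdχ : ∀ χ : Cfsg.IrrCharacter (SpecialLinearGroup (Fin 2) F),
      (χ : SpecialLinearGroup (Fin 2) F → ℂ) 1 = (d χ : ℂ) := by
    intro χ
    rw [hdeg χ, e1]
  have hdtriv : d trivIrr = 1 := by
    simp only [hd]
    rw [htriv.1, htriv.2]
    simp
  have hdcases : ∀ χ : Cfsg.IrrCharacter (SpecialLinearGroup (Fin 2) F),
      (χ = trivIrr ∧ d χ = 1 ∧ B χ = 0) ∨ (d χ = m ∧ B χ = 1) ∨ (d χ = m + 1 ∧ B χ = 1) ∨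
      (d χ = 2 * m ∧ B χ = 2) ∨ (d χ = 2 * m + 1 ∧ B χ = 2) ∨ (d χ = 2 * m + 2 ∧ B χ = 2) := by
    intro χ
    by_cases hχ : χ = trivIrr
    · left
      exact ⟨hχ, by rw [hχ, hdtriv], by rw [hχ, htriv.2]⟩
    · right
      simp only [hd]
      rcases hcases χ hχ with ⟨h1, h2⟩ | ⟨h1, h2⟩ | ⟨h1, h2⟩ | ⟨h1, h2⟩ | ⟨h1, h2⟩ <;>
        rw [h1, h2]
      · left; constructor <;> omega
      · right; right; left; constructor <;> omega
      · right; left; constructor <;> omega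
      · right; right; right; left; constructor <;> omega
      · right; right; right; right; constructor <;> omega
  have hiff : ∀ (χ : Cfsg.IrrCharacter (SpecialLinearGroup (Fin 2) F)) (n : ℕ),
      (χ : SpecialLinearGroup (Fin 2) F → ℂ) 1 = (n : ℂ) ↔ d χ = n := by
    intro χ n
    rw [hdχ χ]
    exact Nat.cast_inj
  have hcountd : ∀ (c : ℂ) (n : ℕ), c = (n : ℂ) →
      Nat.card {χ : Cfsg.IrrCharacter (SpecialLinearGroup (Fin 2) F) //
        (χ : SpecialLinearGroup (Fin 2) F → ℂ) 1 = c} =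
      (Finset.univ.filter (fun χ : Cfsg.IrrCharacter (SpecialLinearGroup (Fin 2) F) =>
        d χ = n)).card := by
    intro c n hc
    rw [Nat.card_eq_fintype_card, ← Fintype.card_subtype]
    apply Fintype.card_congr
    apply Equiv.subtypeEquivRight
    intro χ
    rw [hc]
    exact hiff χ n
  rw [hcountd 1 1 (by simp), hcountd (Fintype.card F : ℂ) (2 * m + 1) (by rw [hm]),
    hcountd ((Fintype.card F : ℂ) + 1) (2 * m + 2) (by rw [hm]; push_cast; ring),
    hcountd ((Fintype.card F : ℂ) - 1) (2 * m) (by rw [hm]; push_cast; ring),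
    hcountd (((m + 1 : ℕ) : ℂ)) (m + 1) rfl, hcountd ((m : ℕ) : ℂ) m rfl]
  set N1 := (Finset.univ.filter (fun χ : Cfsg.IrrCharacter (SpecialLinearGroup (Fin 2) F) =>
        d χ = 1)).card with hN1
  set Nq := (Finset.univ.filter (fun χ : Cfsg.IrrCharacter (SpecialLinearGroup (Fin 2) F) =>
        d χ = 2 * m + 1)).card with hNq
  set Np := (Finset.univ.filter (fun χ : Cfsg.IrrCharacter (SpecialLinearGroup (Fin 2) F) =>
        d χ = 2 * m + 2)).card with hNp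
  set Nm := (Finset.univ.filter (fun χ : Cfsg.IrrCharacter (SpecialLinearGroup (Fin 2) F) =>
        d χ = 2 * m)).card with hNm
  set Nhp := (Finset.univ.filter (fun χ : Cfsg.IrrCharacter (SpecialLinearGroup (Fin 2) F) =>
        d χ = m + 1)).card with hNhp
  set Nhm := (Finset.univ.filter (fun χ : Cfsg.IrrCharacter (SpecialLinearGroup (Fin 2) F) =>
        d χ = m)).card with hNhm
  -- the trivial character
  have h1 : N1 = 1 := by
    rw [hN1, Finset.card_eq_one]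
    refine ⟨trivIrr, ?_⟩
    ext χ
    simp only [Finset.mem_filter, Finset.mem_univ, true_and, Finset.mem_singleton]
    constructor
    · intro h
      rcases hdcases χ with ⟨h', -, -⟩ | ⟨h', -⟩ | ⟨h', -⟩ | ⟨h', -⟩ | ⟨h', -⟩ | ⟨h', -⟩
      · exact h'
      all_goals omega
    · intro h
      rw [h, hdtriv]
  -- the Steinberg character
  have h2 : Nq = 1 := by
    rw [hNq, Finset.card_eq_one]
    obtain ⟨St, hSt, -, hStdeg⟩ := exists_steinberg (F := F)
    refine ⟨⟨St, hSt⟩, ?_⟩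
    ext χ
    simp only [Finset.mem_filter, Finset.mem_univ, true_and, Finset.mem_singleton]
    constructor
    · intro h
      apply Subtype.ext
      refine steinberg_unique χ.1 St χ.2 hSt ?_ hStdeg
      change (χ : SpecialLinearGroup (Fin 2) F → ℂ) 1 = _
      rw [hdχ χ, h, hm]
    · intro h
      rw [← hiff, h]
      change St 1 = _
      rw [hStdeg, hm]
  -- the two characters of degree `(q + 1) / 2`
  have h3 : Nhp = 2 := by
    obtain ⟨ψ₁, ψ₂, k₁, k₂, hψne, hd₁, hd₂, -, -⟩ := halves_package hodd' hq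
    rw [e2] at hd₁ hd₂
    have hset : (Finset.univ.filter (fun χ : Cfsg.IrrCharacter (SpecialLinearGroup (Fin 2) F) =>
        d χ = m + 1)) = {⟨ψ₁, k₁⟩, ⟨ψ₂, k₂⟩} := by
      ext χ
      simp only [Finset.mem_filter, Finset.mem_univ, true_and, Finset.mem_insert,
        Finset.mem_singleton]
      constructor
      · intro h
        have hχd : χ.1 1 = (((Fintype.card F + 1) / 2 : ℕ) : ℂ) := by
          change (χ : SpecialLinearGroup (Fin 2) F → ℂ) 1 = _
          rw [hdχ χ, h, e2]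
        by_cases hc : χ.1 = ψ₁
        · left
          exact Subtype.ext hc
        · right
          apply Subtype.ext
          obtain ⟨α, hα2, hα1, hs⟩ := plus_pair hodd' hq χ.1 ψ₁ χ.2 k₁ hc hχd (by rw [hd₁, e2])
          obtain ⟨β, hβ2, hβ1, hs'⟩ := plus_pair hodd' hq ψ₂ ψ₁ k₂ k₁ (Ne.symm hψne)
            (by rw [hd₂, e2]) (by rw [hd₁, e2])
          have : α = β := quadratic_mulChar_unique hα2 hα1 hβ2 hβ1
          subst this
          exact add_right_cancel (hs.symm.trans hs')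
      · rintro (h | h)
        · rw [← hiff, h]
          exact hd₁
        · rw [← hiff, h]
          exact hd₂
    rw [hNhp, hset, Finset.card_pair]
    intro h
    exact hψne (congrArg Subtype.val h)
  -- the characters with `B = 1`
  have h4 : Nhm + Nhp = 4 := by
    rw [← hcount4, hNhm, hNhp, ← Finset.card_union_of_disjoint]
    · congr 1
      ext χ
      simp only [Finset.mem_union, Finset.mem_filter, Finset.mem_univ, true_and]
      constructor
      · rintro (h | h)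
        · rcases hdcases χ with ⟨-, h', -⟩ | ⟨-, hB⟩ | ⟨-, hB⟩ | ⟨h', -⟩ | ⟨h', -⟩ | ⟨h', -⟩
          · omega
          · exact hB
          · exact hB
          all_goals omega
        · rcases hdcases χ with ⟨-, h', -⟩ | ⟨-, hB⟩ | ⟨-, hB⟩ | ⟨h', -⟩ | ⟨h', -⟩ | ⟨h', -⟩
          · omega
          · exact hB
          · exact hB
          all_goals omega
      · intro h
        rcases hdcases χ with ⟨-, -, hB⟩ | ⟨h', -⟩ | ⟨h', -⟩ | ⟨-, hB⟩ | ⟨-, hB⟩ | ⟨-, hB⟩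
        · omega
        · exact Or.inl h'
        · exact Or.inr h'
        all_goals omega
    · rw [Finset.disjoint_filter]
      intro χ _ h h'
      omega
  -- the two sums
  have hcard : Fintype.card (Cfsg.IrrCharacter (SpecialLinearGroup (Fin 2) F)) =
      Fintype.card F + 4 := by
    rw [← Nat.card_eq_fintype_card,
      Cfsg.Agent.Lib.Helper3_CharColumn.card_irr_eq_card_conjClasses,
      Cfsg.Agent.S2325.result hodd']
  have hsum1 : N1 + Nhm + Nhp + Nm + Nq + Np = 2 * m + 5 := by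
    have : 2 * m + 5 = Fintype.card F + 4 := by omega
    rw [this, ← hcard, ← Finset.card_univ, hN1, hNhm, hNhp, hNm, hNq, hNp, Finset.card_filter,
      Finset.card_filter, Finset.card_filter, Finset.card_filter, Finset.card_filter,
      Finset.card_filter, ← Finset.sum_add_distrib, ← Finset.sum_add_distrib,
      ← Finset.sum_add_distrib, ← Finset.sum_add_distrib, ← Finset.sum_add_distrib,
      Finset.card_eq_sum_ones]
    refine Finset.sum_congr rfl (fun χ _ => ?_)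
    have hv : d χ = 1 ∨ d χ = m ∨ d χ = m + 1 ∨ d χ = 2 * m ∨ d χ = 2 * m + 1 ∨
        d χ = 2 * m + 2 := by
      rcases hdcases χ with ⟨-, h, -⟩ | ⟨h, -⟩ | ⟨h, -⟩ | ⟨h, -⟩ | ⟨h, -⟩ | ⟨h, -⟩ <;> omega
    exact six_ind_one m (d χ) hm2 hv
  have hsum2 : N1 * 1 ^ 2 + Nhm * m ^ 2 + Nhp * (m + 1) ^ 2 + Nm * (2 * m) ^ 2 +
      Nq * (2 * m + 1) ^ 2 + Np * (2 * m + 2) ^ 2 = (2 * m + 1) * ((2 * m + 1) ^ 2 - 1) := by
    have hsq := Cfsg.Agent.Lib.Helper3_CharColumn.sum_sq_irr_one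
      (G := SpecialLinearGroup (Fin 2) F)
    rw [Cfsg.Agent.S2301.card_SL2, hm] at hsq
    have hsq' : ∑ χ : Cfsg.IrrCharacter (SpecialLinearGroup (Fin 2) F), (d χ) ^ 2 =
        (2 * m + 1) * ((2 * m + 1) ^ 2 - 1) := by
      have : ((∑ χ : Cfsg.IrrCharacter (SpecialLinearGroup (Fin 2) F), (d χ) ^ 2 : ℕ) : ℂ) =
          (((2 * m + 1) * ((2 * m + 1) ^ 2 - 1) : ℕ) : ℂ) := by
        rw [← hsq]
        push_cast
        refine Finset.sum_congr rfl (fun χ _ => ?_)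
        rw [hdχ χ]
      exact_mod_cast this
    rw [← hsq', hN1, hNhm, hNhp, hNm, hNq, hNp, Finset.card_filter, Finset.card_filter,
      Finset.card_filter, Finset.card_filter, Finset.card_filter, Finset.card_filter,
      Finset.sum_mul, Finset.sum_mul, Finset.sum_mul, Finset.sum_mul, Finset.sum_mul,
      Finset.sum_mul, ← Finset.sum_add_distrib, ← Finset.sum_add_distrib,
      ← Finset.sum_add_distrib, ← Finset.sum_add_distrib, ← Finset.sum_add_distrib]
    refine Finset.sum_congr rfl (fun χ _ => ?_)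
    have hv : d χ = 1 ∨ d χ = m ∨ d χ = m + 1 ∨ d χ = 2 * m ∨ d χ = 2 * m + 1 ∨
        d χ = 2 * m + 2 := by
      rcases hdcases χ with ⟨-, h, -⟩ | ⟨h, -⟩ | ⟨h, -⟩ | ⟨h, -⟩ | ⟨h, -⟩ | ⟨h, -⟩ <;> omega
    exact six_ind_sq m (d χ) hm2 hv
  -- solve
  have h5 : Nhm = 2 := by omega
  rw [h1, h2, h3, h5] at hsum1 hsum2
  have f1 : (Nm : ℤ) + Np = 2 * m - 1 := by
    have : Nm + Np = 2 * m - 1 := by omega
    rw [← Nat.cast_add, this, Nat.cast_sub (by omega)]
    simp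
  have f2 : (Nm : ℤ) * (2 * (m : ℤ)) ^ 2 + Np * (2 * (m : ℤ) + 2) ^ 2 =
      8 * (m : ℤ) ^ 3 + 4 * (m : ℤ) ^ 2 - 4 * m - 4 := by
    have h1q : 1 ≤ (2 * m + 1) ^ 2 := Nat.one_le_pow _ _ (by omega)
    have := congrArg (Nat.cast (R := ℤ)) hsum2
    push_cast [Nat.cast_sub h1q] at this
    linear_combination this
  have f3 : (8 * (m : ℤ) + 4) * Np = (8 * (m : ℤ) + 4) * ((m : ℤ) - 1) := by
    linear_combination f2 - (2 * (m : ℤ)) ^ 2 * f1
  have hne0 : (8 * (m : ℤ) + 4) ≠ 0 := by positivity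
  have f4 : (Np : ℤ) = (m : ℤ) - 1 := mul_left_cancel₀ hne0 f3
  have f5 : Np = m - 1 := by omega
  refine ⟨h1, h2, ?_, ?_, h3, h5⟩ <;> omega

end final

end Cfsg.Agent.Lib.Helper39_SL2Odd
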