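import Mathlib
import Cfsg.Prelude.Def_Characters
import Cfsg.Prelude.Def_Blocks
import Cfsg.Agent.Lib.Helper39_SL2Odd
import Cfsg.Agent.Lib.Helper77_QuotBlocks
import Cfsg.Agent.Lib.Helper57_FrobNorm

/-!
# Characters of `PSL₂(F)` as characters of `SL₂(F)` trivial on the centre (helper39)
-/

set_option autoImplicit false

namespace Cfsg.Agent.Lib.Helper39_PSL2

open Matrix
open Cfsg.Agent.Lib.Helper39_SL2Borel (B1 mem_B1_iff u1 u1_val)
open Cfsg.Agent.Lib.Helper39_SL2Ind (aFun)

section basic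

variable {F : Type*} [Field F]

/-- Central elements of `SL₂` are upper triangular. -/
theorem center_le_B1 {z : SpecialLinearGroup (Fin 2) F}
    (hz : z ∈ Subgroup.center (SpecialLinearGroup (Fin 2) F)) : z ∈ B1 F := by
  rw [mem_B1_iff]
  obtain ⟨r, -, hr⟩ := Matrix.SpecialLinearGroup.mem_center_iff.1 hz
  rw [← hr]
  simp

/-- A function induced from a function on the Borel subgroup that is constantly one takes the same
value at central elements as at the identity. -/
theorem indFun_central [Fintype (SpecialLinearGroup (Fin 2) F)] (μ : B1 F → ℂ)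
    (hμ : ∀ b, μ b = 1) {z : SpecialLinearGroup (Fin 2) F}
    (hz : z ∈ Subgroup.center (SpecialLinearGroup (Fin 2) F)) :
    Cfsg.indFun (B1 F) μ z = Cfsg.indFun (B1 F) μ 1 := by
  unfold Cfsg.indFun
  congr 1
  apply Finset.sum_congr rfl
  intro x _
  have h1 : x⁻¹ * z * x = z := by
    rw [mul_assoc, ← Subgroup.mem_center_iff.1 hz x, ← mul_assoc, inv_mul_cancel, one_mul]
  have h2 : x⁻¹ * 1 * x = 1 := by rw [mul_one, inv_mul_cancel]
  rw [h1, h2, Cfsg.Agent.Lib.Helper75_Induced.extendByZero_of_mem (B1 F) μ (center_le_B1 hz),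
    Cfsg.Agent.Lib.Helper75_Induced.extendByZero_of_mem (B1 F) μ (one_mem _), hμ, hμ]

end basic

section steinberg

variable {F : Type*} [Field F] [Fintype F] [Fintype (SpecialLinearGroup (Fin 2) F)]

/-- The character of degree `q` of `SL₂(F)` has the centre in its kernel. -/
theorem steinberg_central (χ : SpecialLinearGroup (Fin 2) F → ℂ)
    (hχ : Cfsg.IsIrrCharacter (SpecialLinearGroup (Fin 2) F) χ)
    (hdeg : χ 1 = (Fintype.card F : ℂ)) {z : SpecialLinearGroup (Fin 2) F}
    (hz : z ∈ Subgroup.center (SpecialLinearGroup (Fin 2) F)) : χ z = χ 1 := by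
  obtain ⟨α, hα, hval⟩ := Cfsg.Agent.Lib.Helper39_SL2Steinberg.steinberg_eq χ hχ hdeg
  rw [hval z, hval 1, indFun_central (aFun α) hα hz]

/-- `PSL₂(F)` has an irreducible character of degree `q`. -/
theorem exists_steinberg_psl :
    ∃ χ : Cfsg.IrrCharacter (Matrix.ProjectiveSpecialLinearGroup (Fin 2) F),
      (χ : Matrix.ProjectiveSpecialLinearGroup (Fin 2) F → ℂ) 1 = (Fintype.card F : ℂ) := by
  obtain ⟨St, hSt, -, hdeg⟩ := Cfsg.Agent.Lib.Helper39_SL2Even.exists_steinberg (F := F)
  obtain ⟨χ, hχ⟩ := Cfsg.Agent.Lib.Helper77_QuotBlocks.exists_quot_char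
    (Subgroup.center (SpecialLinearGroup (Fin 2) F)) ⟨St, hSt⟩
    (fun u hu => steinberg_central St hSt hdeg hu)
  refine ⟨χ, ?_⟩
  have := congrFun hχ 1
  simp only [Function.comp] at this
  rw [← hdeg, this]
  rfl

omit [Fintype F] [Fintype (SpecialLinearGroup (Fin 2) F)] in
/-- Inflation of an irreducible character of `PSL₂(F)` to `SL₂(F)`. -/
theorem isIrrCharacter_infl
    (χ : Cfsg.IrrCharacter (Matrix.ProjectiveSpecialLinearGroup (Fin 2) F)) :
    Cfsg.IsIrrCharacter (SpecialLinearGroup (Fin 2) F)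
      (fun x => (χ : Matrix.ProjectiveSpecialLinearGroup (Fin 2) F → ℂ)
        (QuotientGroup.mk' (Subgroup.center (SpecialLinearGroup (Fin 2) F)) x)) :=
  Cfsg.Agent.Lib.Helper57_FrobNorm.isIrrCharacter_comp_surjective
    (QuotientGroup.mk' (Subgroup.center (SpecialLinearGroup (Fin 2) F)))
    (QuotientGroup.mk'_surjective _) χ.2

/-- The character of degree `q` of `PSL₂(F)` is unique. -/
theorem steinberg_psl_unique
    (χ χ' : Cfsg.IrrCharacter (Matrix.ProjectiveSpecialLinearGroup (Fin 2) F))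
    (h : (χ : Matrix.ProjectiveSpecialLinearGroup (Fin 2) F → ℂ) 1 = (Fintype.card F : ℂ))
    (h' : (χ' : Matrix.ProjectiveSpecialLinearGroup (Fin 2) F → ℂ) 1 = (Fintype.card F : ℂ)) :
    χ = χ' := by
  have key := Cfsg.Agent.Lib.Helper39_SL2Odd.steinberg_unique _ _ (isIrrCharacter_infl χ)
    (isIrrCharacter_infl χ') (by simpa using h) (by simpa using h')
  apply Subtype.ext
  funext y
  obtain ⟨x, rfl⟩ := QuotientGroup.mk'_surjective
    (Subgroup.center (SpecialLinearGroup (Fin 2) F)) y
  exact congrFun key x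

end steinberg

section degrees

/-- A number from the degree list of `SL₂(q)` that is divisible by the characteristic is `q`. -/
theorem eq_of_dvd_degree {p q d : ℕ} (hp : p.Prime) (hpq : p ∣ q) (hq : 2 ≤ q)
    (hd : d = 1 ∨ d = q ∨ d = q + 1 ∨ d = q - 1 ∨ (Odd q ∧ d = (q + 1) / 2) ∨
      (Odd q ∧ d = (q - 1) / 2))
    (hpd : p ∣ d) : d = q := by
  have hp1 : ¬ p ∣ 1 := hp.one_lt.ne' ∘ Nat.dvd_one.1
  rcases hd with rfl | rfl | rfl | rfl | ⟨hodd, rfl⟩ | ⟨hodd, rfl⟩
  · exact absurd hpd hp1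
  · rfl
  · exact absurd ((Nat.dvd_add_right hpq).1 hpd) hp1
  · exfalso
    apply hp1
    have h2 : p ∣ q - (q - 1) := Nat.dvd_sub hpq hpd
    have : q - (q - 1) = 1 := by omega
    rwa [this] at h2
  · exfalso
    apply hp1
    obtain ⟨m, hm⟩ := hodd
    have e : (q + 1) / 2 = m + 1 := by omega
    rw [e] at hpd
    have h2 : p ∣ 2 * (m + 1) := Dvd.dvd.mul_left hpd 2
    have h3 : 2 * (m + 1) = q + 1 := by omega
    rw [h3] at h2
    exact (Nat.dvd_add_right hpq).1 h2
  · exfalso
    apply hp1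
    obtain ⟨m, hm⟩ := hodd
    have e : (q - 1) / 2 = m := by omega
    rw [e] at hpd
    have h2 : p ∣ 2 * m := Dvd.dvd.mul_left hpd 2
    have h3 : q = 2 * m + 1 := hm
    rw [h3] at hpq
    exact (Nat.dvd_add_right h2).1 hpq

variable {F : Type*} [Field F] [Fintype F] [Fintype (SpecialLinearGroup (Fin 2) F)]

/-- The degree list of `SL₂(F)`, uniformly in the characteristic, in terms of `charDegree`. -/
theorem sl2_charDegree_cases (p : ℕ) [Fact p.Prime] [CharP F p]
    (χ : SpecialLinearGroup (Fin 2) F → ℂ)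
    (hχ : Cfsg.IsIrrCharacter (SpecialLinearGroup (Fin 2) F) χ) :
    Cfsg.charDegree χ = 1 ∨ Cfsg.charDegree χ = Fintype.card F ∨
      Cfsg.charDegree χ = Fintype.card F + 1 ∨ Cfsg.charDegree χ = Fintype.card F - 1 ∨
      (Odd (Fintype.card F) ∧ Cfsg.charDegree χ = (Fintype.card F + 1) / 2) ∨
      (Odd (Fintype.card F) ∧ Cfsg.charDegree χ = (Fintype.card F - 1) / 2) := by
  have hq1 : 1 ≤ Fintype.card F := Fintype.card_pos
  have hsub : ((Fintype.card F - 1 : ℕ) : ℂ) = (Fintype.card F : ℂ) - 1 := by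
    rw [Nat.cast_sub hq1, Nat.cast_one]
  by_cases hp2 : p = 2
  · subst hp2
    rcases Cfsg.Agent.Lib.Helper39_SL2Even.degree_even_aux (F := F) ⟨χ, hχ⟩ with h | h | h | h
    · left
      have : χ = fun _ => 1 := congrArg Subtype.val h
      apply Cfsg.Agent.Lib.Helper78_CentralChar.charDegree_eq_of_one_eq_natCast
      rw [this]
      simp
    · right; right; right; left
      apply Cfsg.Agent.Lib.Helper78_CentralChar.charDegree_eq_of_one_eq_natCast
      rw [hsub]
      exact h
    · right; left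
      exact Cfsg.Agent.Lib.Helper78_CentralChar.charDegree_eq_of_one_eq_natCast h.1
    · right; right; left
      apply Cfsg.Agent.Lib.Helper78_CentralChar.charDegree_eq_of_one_eq_natCast
      push_cast
      exact h
  · have hodd : Odd (Fintype.card F) := by
      obtain ⟨n, hp, hn⟩ := FiniteField.card F p
      rw [hn]
      exact (hp.odd_of_ne_two hp2).pow
    rcases Cfsg.Agent.Lib.Helper39_SL2Odd.degree_odd hodd χ hχ with h | h | h | h | h | h
    · left
      apply Cfsg.Agent.Lib.Helper78_CentralChar.charDegree_eq_of_one_eq_natCast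
      rw [h]
      simp
    · right; left
      exact Cfsg.Agent.Lib.Helper78_CentralChar.charDegree_eq_of_one_eq_natCast h
    · right; right; left
      apply Cfsg.Agent.Lib.Helper78_CentralChar.charDegree_eq_of_one_eq_natCast
      push_cast
      exact h
    · right; right; right; left
      apply Cfsg.Agent.Lib.Helper78_CentralChar.charDegree_eq_of_one_eq_natCast
      rw [hsub]
      exact h
    · right; right; right; right; left
      exact ⟨hodd, Cfsg.Agent.Lib.Helper78_CentralChar.charDegree_eq_of_one_eq_natCast h⟩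
    · right; right; right; right; right
      exact ⟨hodd, Cfsg.Agent.Lib.Helper78_CentralChar.charDegree_eq_of_one_eq_natCast h⟩

omit [Fintype F] [Fintype (SpecialLinearGroup (Fin 2) F)] in
/-- Inflation preserves the degree. -/
theorem charDegree_infl
    (χ : Cfsg.IrrCharacter (Matrix.ProjectiveSpecialLinearGroup (Fin 2) F)) :
    Cfsg.charDegree (fun x => (χ : Matrix.ProjectiveSpecialLinearGroup (Fin 2) F → ℂ)
        (QuotientGroup.mk' (Subgroup.center (SpecialLinearGroup (Fin 2) F)) x)) =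
      Cfsg.charDegree (χ : Matrix.ProjectiveSpecialLinearGroup (Fin 2) F → ℂ) := by
  unfold Cfsg.charDegree
  simp

/-- The degree list of `PSL₂(F)` (a sublist of that of `SL₂(F)`). -/
theorem psl2_charDegree_cases (p : ℕ) [Fact p.Prime] [CharP F p]
    (χ : Cfsg.IrrCharacter (Matrix.ProjectiveSpecialLinearGroup (Fin 2) F)) :
    Cfsg.charDegree (χ : Matrix.ProjectiveSpecialLinearGroup (Fin 2) F → ℂ) = 1 ∨
      Cfsg.charDegree (χ : Matrix.ProjectiveSpecialLinearGroup (Fin 2) F → ℂ) = Fintype.card F ∨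
      Cfsg.charDegree (χ : Matrix.ProjectiveSpecialLinearGroup (Fin 2) F → ℂ) =
        Fintype.card F + 1 ∨
      Cfsg.charDegree (χ : Matrix.ProjectiveSpecialLinearGroup (Fin 2) F → ℂ) =
        Fintype.card F - 1 ∨
      (Odd (Fintype.card F) ∧
        Cfsg.charDegree (χ : Matrix.ProjectiveSpecialLinearGroup (Fin 2) F → ℂ) =
          (Fintype.card F + 1) / 2) ∨
      (Odd (Fintype.card F) ∧
        Cfsg.charDegree (χ : Matrix.ProjectiveSpecialLinearGroup (Fin 2) F → ℂ) =
          (Fintype.card F - 1) / 2) := by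
  have := sl2_charDegree_cases p _ (isIrrCharacter_infl χ)
  rwa [charDegree_infl] at this

/-- An irreducible character of `PSL₂(F)` of degree divisible by the characteristic has
degree `q`. -/
theorem psl2_charDegree_eq_of_dvd (p : ℕ) [Fact p.Prime] [CharP F p]
    (χ : Cfsg.IrrCharacter (Matrix.ProjectiveSpecialLinearGroup (Fin 2) F))
    (h : p ∣ Cfsg.charDegree (χ : Matrix.ProjectiveSpecialLinearGroup (Fin 2) F → ℂ)) :
    Cfsg.charDegree (χ : Matrix.ProjectiveSpecialLinearGroup (Fin 2) F → ℂ) = Fintype.card F := by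
  obtain ⟨n, hp, hn⟩ := FiniteField.card F p
  have hpq : p ∣ Fintype.card F := by
    rw [hn]
    exact dvd_pow_self p n.ne_zero
  exact eq_of_dvd_degree hp hpq Fintype.one_lt_card (psl2_charDegree_cases p χ) h

end degrees

end Cfsg.Agent.Lib.Helper39_PSL2
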