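import Mathlib
import Cfsg.Prelude.Def_Characters
import Cfsg.Prelude.Def_Blocks
import Cfsg.Prelude.Def_DegreeGraph
import Cfsg.Agent.Lib.Helper39_PSL2

/-!
# Character degree sets and degree graphs of `SL₂(F)` and `PSL₂(F)` (helper39)
-/

set_option autoImplicit false

namespace Cfsg.Agent.Lib.Helper39_DegreeGraph

open Matrix

section transport

variable {S : Type*} {T : Type*} [Group S] [Group T]

theorem charDegrees_subset_of_equiv (e : S ≃* T) : Cfsg.charDegrees T ⊆ Cfsg.charDegrees S := by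
  rintro d ⟨χ, rfl⟩
  refine ⟨⟨fun x => (χ : T → ℂ) (e x),
    Cfsg.Agent.Lib.Helper57_FrobNorm.isIrrCharacter_comp_surjective e.toMonoidHom e.surjective
      χ.2⟩, ?_⟩
  unfold Cfsg.charDegree
  simp

/-- Isomorphic groups have the same set of irreducible character degrees. -/
theorem charDegrees_congr (e : S ≃* T) : Cfsg.charDegrees S = Cfsg.charDegrees T :=
  Set.Subset.antisymm (charDegrees_subset_of_equiv e.symm) (charDegrees_subset_of_equiv e)

theorem degreePrimes_eq (S : Type*) [Group S] :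
    Cfsg.degreePrimes S = {p | p.Prime ∧ ∃ d ∈ Cfsg.charDegrees S, p ∣ d} := rfl

theorem degreeGraph_adj_iff (S : Type*) [Group S] (p q : ℕ) :
    (Cfsg.degreeGraph S).Adj p q ↔
      p ≠ q ∧ p.Prime ∧ q.Prime ∧ ∃ d ∈ Cfsg.charDegrees S, p * q ∣ d := Iff.rfl

end transport

section arith

/-- Two distinct primes dividing `n` have product dividing `n`. -/
theorem mul_dvd_of_primes {r s n : ℕ} (hr : r.Prime) (hs : s.Prime) (hrs : r ≠ s) (h1 : r ∣ n)
    (h2 : s ∣ n) : r * s ∣ n :=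
  Nat.Coprime.mul_dvd_of_dvd_of_dvd ((Nat.coprime_primes hr hs).2 hrs) h1 h2

/-- The degree graph attached to the degree set `{1, q - 1, q, q + 1}`, `q` a power of two. -/
theorem graph_even (q n : ℕ) (hq : q = 2 ^ n) (D : Set ℕ)
    (hD : D = {1, q - 1, q, q + 1}) :
    {p : ℕ | p.Prime ∧ ∃ d ∈ D, p ∣ d} = {r : ℕ | r.Prime ∧ r ∣ q * (q ^ 2 - 1)} ∧
    ∀ r s : ℕ, (r ≠ s ∧ r.Prime ∧ s.Prime ∧ ∃ d ∈ D, r * s ∣ d) ↔
      (r ≠ s ∧ r.Prime ∧ s.Prime ∧ ((r ∣ q + 1 ∧ s ∣ q + 1) ∨ (r ∣ q - 1 ∧ s ∣ q - 1))) := by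
  have hfac : q ^ 2 - 1 = (q + 1) * (q - 1) := by
    have := Nat.sq_sub_sq q 1
    rwa [one_pow] at this
  subst hD
  constructor
  · ext r
    simp only [Set.mem_ofPred_eq, Set.mem_insert_iff, Set.mem_singleton_iff, exists_eq_or_imp,
      exists_eq_left]
    constructor
    · rintro ⟨hr, h | h | h | h⟩
      · exact absurd (Nat.dvd_one.1 h) hr.one_lt.ne'
      · exact ⟨hr, Dvd.dvd.mul_left (hfac ▸ Dvd.dvd.mul_left h _) _⟩
      · exact ⟨hr, Dvd.dvd.mul_right h _⟩
      · exact ⟨hr, Dvd.dvd.mul_left (hfac ▸ Dvd.dvd.mul_right h _) _⟩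
    · rintro ⟨hr, h⟩
      refine ⟨hr, ?_⟩
      rw [hfac] at h
      rcases (Nat.Prime.dvd_mul hr).1 h with h | h
      · exact Or.inr (Or.inr (Or.inl h))
      · rcases (Nat.Prime.dvd_mul hr).1 h with h | h
        · exact Or.inr (Or.inr (Or.inr h))
        · exact Or.inr (Or.inl h)
  · intro r s
    simp only [Set.mem_insert_iff, Set.mem_singleton_iff, exists_eq_or_imp, exists_eq_left]
    constructor
    · rintro ⟨hne, hr, hs, h | h | h | h⟩
      · exfalso
        have := Nat.dvd_one.1 h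
        have := hr.two_le
        have := hs.two_le
        nlinarith
      · exact ⟨hne, hr, hs, Or.inr ⟨dvd_of_mul_right_dvd h, dvd_of_mul_left_dvd h⟩⟩
      · exfalso
        rw [hq] at h
        have h1 : r = 2 := (Nat.prime_dvd_prime_iff_eq hr Nat.prime_two).1
          (hr.dvd_of_dvd_pow (dvd_of_mul_right_dvd h))
        have h2 : s = 2 := (Nat.prime_dvd_prime_iff_eq hs Nat.prime_two).1
          (hs.dvd_of_dvd_pow (dvd_of_mul_left_dvd h))
        exact hne (h1.trans h2.symm)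
      · exact ⟨hne, hr, hs, Or.inl ⟨dvd_of_mul_right_dvd h, dvd_of_mul_left_dvd h⟩⟩
    · rintro ⟨hne, hr, hs, ⟨h1, h2⟩ | ⟨h1, h2⟩⟩
      · exact ⟨hne, hr, hs, Or.inr (Or.inr (Or.inr (mul_dvd_of_primes hr hs hne h1 h2)))⟩
      · exact ⟨hne, hr, hs, Or.inr (Or.inl (mul_dvd_of_primes hr hs hne h1 h2))⟩

end arith

section even

variable {F : Type*} [Field F] [Fintype F]

omit [Fintype F] in
/-- In characteristic two the centre of `SL₂(F)` is trivial. -/
theorem center_eq_bot [CharP F 2] :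
    Subgroup.center (SpecialLinearGroup (Fin 2) F) = ⊥ := by
  rw [eq_bot_iff]
  intro z hz
  obtain ⟨r, hr, hz'⟩ := Matrix.SpecialLinearGroup.mem_center_iff.1 hz
  rw [Fintype.card_fin] at hr
  have h1 : (r - 1) ^ 2 = 0 := by
    have h2 : (2 : F) = 0 := CharTwo.two_eq_zero
    have : (r - 1) ^ 2 = r ^ 2 - 2 * r + 1 := by ring
    rw [this, hr, h2]
    ring_nf
    exact h2
  have h3 : r = 1 := by
    have := pow_eq_zero_iff (two_ne_zero) |>.1 h1
    exact sub_eq_zero.1 this
  rw [Subgroup.mem_bot]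
  apply Matrix.SpecialLinearGroup.ext
  intro i j
  rw [← hz', h3]
  simp

/-- In characteristic two `PSL₂(F)` is isomorphic to `SL₂(F)`. -/
noncomputable def pslEquivEven [CharP F 2] :
    Matrix.ProjectiveSpecialLinearGroup (Fin 2) F ≃* SpecialLinearGroup (Fin 2) F :=
  (QuotientGroup.quotientMulEquivOfEq center_eq_bot).trans QuotientGroup.quotientBot

variable [Fintype (SpecialLinearGroup (Fin 2) F)]

/-- The irreducible character degrees of `SL₂(F)` in characteristic two. -/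
theorem charDegrees_sl2_even [CharP F 2] (hq : 4 ≤ Fintype.card F) :
    Cfsg.charDegrees (SpecialLinearGroup (Fin 2) F) =
      {1, Fintype.card F - 1, Fintype.card F, Fintype.card F + 1} := by
  have hq1 : 1 ≤ Fintype.card F := Fintype.card_pos
  have hsub : ((Fintype.card F - 1 : ℕ) : ℂ) = (Fintype.card F : ℂ) - 1 := by
    rw [Nat.cast_sub hq1, Nat.cast_one]
  have hnotodd : ¬ Odd (Fintype.card F) := by
    obtain ⟨n, -, hn⟩ := FiniteField.card F 2
    rw [hn, Nat.not_odd_iff_even]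
    exact (Nat.even_pow.2 ⟨even_two, n.ne_zero⟩)
  obtain ⟨c1, c2, c3, c4⟩ := Cfsg.Agent.Lib.Helper39_SL2Even.counts_even (F := F) hq
  apply Set.Subset.antisymm
  · rintro d ⟨χ, rfl⟩
    simp only [Set.mem_insert_iff, Set.mem_singleton_iff]
    rcases Cfsg.Agent.Lib.Helper39_PSL2.sl2_charDegree_cases 2 χ.1 χ.2 with
      h | h | h | h | ⟨h, -⟩ | ⟨h, -⟩
    · exact Or.inl h
    · exact Or.inr (Or.inr (Or.inl h))
    · exact Or.inr (Or.inr (Or.inr h))
    · exact Or.inr (Or.inl h)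
    · exact absurd h hnotodd
    · exact absurd h hnotodd
  · intro d hd
    simp only [Set.mem_insert_iff, Set.mem_singleton_iff] at hd
    rcases hd with rfl | rfl | rfl | rfl
    · have : Nonempty {χ : Cfsg.IrrCharacter (SpecialLinearGroup (Fin 2) F) //
          (χ : SpecialLinearGroup (Fin 2) F → ℂ) 1 = 1} := by
        apply (Nat.card_pos_iff.1 _).1
        rw [c1]
        exact Nat.one_pos
      obtain ⟨χ, hχ⟩ := this
      exact ⟨χ, Cfsg.Agent.Lib.Helper78_CentralChar.charDegree_eq_of_one_eq_natCast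
        (by rw [hχ]; simp)⟩
    · have : Nonempty {χ : Cfsg.IrrCharacter (SpecialLinearGroup (Fin 2) F) //
          (χ : SpecialLinearGroup (Fin 2) F → ℂ) 1 = (Fintype.card F : ℂ) - 1} := by
        apply (Nat.card_pos_iff.1 _).1
        rw [c4]
        omega
      obtain ⟨χ, hχ⟩ := this
      exact ⟨χ, Cfsg.Agent.Lib.Helper78_CentralChar.charDegree_eq_of_one_eq_natCast
        (by rw [hχ, hsub])⟩
    · have : Nonempty {χ : Cfsg.IrrCharacter (SpecialLinearGroup (Fin 2) F) //
          (χ : SpecialLinearGroup (Fin 2) F → ℂ) 1 = (Fintype.card F : ℂ)} := by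
        apply (Nat.card_pos_iff.1 _).1
        rw [c2]
        exact Nat.one_pos
      obtain ⟨χ, hχ⟩ := this
      exact ⟨χ, Cfsg.Agent.Lib.Helper78_CentralChar.charDegree_eq_of_one_eq_natCast hχ⟩
    · have : Nonempty {χ : Cfsg.IrrCharacter (SpecialLinearGroup (Fin 2) F) //
          (χ : SpecialLinearGroup (Fin 2) F → ℂ) 1 = (Fintype.card F : ℂ) + 1} := by
        apply (Nat.card_pos_iff.1 _).1
        rw [c3]
        omega
      obtain ⟨χ, hχ⟩ := this
      exact ⟨χ, Cfsg.Agent.Lib.Helper78_CentralChar.charDegree_eq_of_one_eq_natCast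
        (by rw [hχ]; push_cast; ring)⟩

end even

end Cfsg.Agent.Lib.Helper39_DegreeGraph
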