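import Mathlib
import Cfsg.Prelude.Def_Characters
import Cfsg.Agent.Lib.Helper39_SL2Odd
import Cfsg.Agent.Lib.Helper39_PSL2

/-!
# Central signs of the irreducible characters of `SL₂(F)`, `q` odd (helper39)

Column orthogonality for the pairs of columns `(1, -1)` and `(u, -u)` determines how many
irreducible characters of degree `q + 1` and of degree `q - 1` are trivial on the centre.
-/

set_option autoImplicit false

namespace Cfsg.Agent.Lib.Helper39_SL2Central

open scoped ComplexConjugate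
open Matrix
  Cfsg.Agent.Lib.Helper39_GL2Char Cfsg.Agent.Lib.Helper39_CharTools
  Cfsg.Agent.Lib.Helper39_IndTools
  Cfsg.Agent.Lib.Helper39_SL2Borel Cfsg.Agent.Lib.Helper39_SL2Ind
  Cfsg.Agent.Lib.Helper39_SL2Half Cfsg.Agent.Lib.Helper39_SL2Series
  Cfsg.Agent.Lib.Helper39_SL2Data Cfsg.Agent.Lib.Helper39_SL2Bound
  Cfsg.Agent.Lib.Helper39_SL2Steinberg Cfsg.Agent.Lib.Helper39_AddFourier
  Cfsg.Agent.Lib.Helper39_SL2Unip Cfsg.Agent.Lib.Helper39_Clifford
  Cfsg.Agent.Lib.Helper39_SL2Vanish Cfsg.Agent.Lib.Helper39_SL2HalfValues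
  Cfsg.Agent.Lib.Helper39_SL2Even Cfsg.Agent.Lib.Helper39_SL2Odd

section arith

/-- The sum of a family of signs. -/
theorem sum_sign_eq {ι : Type*} (S : Finset ι) (ε : ι → ℝ)
    (h : ∀ i ∈ S, ε i = 1 ∨ ε i = -1) [DecidablePred (fun i => ε i = 1)] :
    ∑ i ∈ S, ε i = 2 * ((S.filter (fun i => ε i = 1)).card : ℝ) - (S.card : ℝ) := by
  have h1 : ∀ i ∈ S, ε i = 2 * (if ε i = 1 then (1 : ℝ) else 0) - 1 := by
    intro i hi
    rcases h i hi with h1 | h1
    · rw [if_pos h1, h1]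
      norm_num
    · rw [if_neg (by rw [h1]; norm_num), h1]
      norm_num
  rw [Finset.sum_congr rfl h1, Finset.sum_sub_distrib, ← Finset.mul_sum, Finset.sum_boole,
    Finset.sum_const, nsmul_eq_mul, mul_one]

theorem final_arith (m x y : ℕ) (εp εm : ℝ) (hm : 3 ≤ m) (hx : x ≤ m - 1) (hy : y ≤ m)
    (hp : εp = 1 ∨ εp = -1) (hmm : εm = 1 ∨ εm = -1)
    (hA : 1 + (2 * (m : ℝ) + 1) ^ 2 + (2 * (m : ℝ) + 2) ^ 2 * (2 * (x : ℝ) - ((m : ℝ) - 1)) +
      (2 * (m : ℝ)) ^ 2 * (2 * (y : ℝ) - (m : ℝ)) + εp * (2 * ((m : ℝ) + 1) ^ 2) +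
      εm * (2 * (m : ℝ) ^ 2) = 0)
    (hB : 1 + (2 * (x : ℝ) - ((m : ℝ) - 1)) + (2 * (y : ℝ) - (m : ℝ)) + εp * ((m : ℝ) + 1) +
      εm * ((m : ℝ) + 1) = 0) : 1 ≤ x ∧ 1 ≤ y := by
  have hx' : (x : ℝ) ≤ (m : ℝ) - 1 := by
    have : ((x : ℕ) : ℝ) ≤ ((m - 1 : ℕ) : ℝ) := by exact_mod_cast hx
    rwa [Nat.cast_sub (by omega), Nat.cast_one] at this
  have hy' : (y : ℝ) ≤ (m : ℝ) := by exact_mod_cast hy
  have hx0 : (0 : ℝ) ≤ x := Nat.cast_nonneg _
  have hy0 : (0 : ℝ) ≤ y := Nat.cast_nonneg _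
  have hm0 : (0 : ℝ) ≤ m := Nat.cast_nonneg _
  have hne : (16 * (m : ℝ) + 8) ≠ 0 := by positivity
  rcases hp with rfl | rfl <;> rcases hmm with rfl | rfl
  · exfalso
    nlinarith
  · have h1 : (16 * (m : ℝ) + 8) * (2 * (x : ℝ) + 2 - m) = 0 := by
      linear_combination 2 * hA - 8 * (m : ℝ) ^ 2 * hB
    have h2 : 2 * (x : ℝ) + 2 - m = 0 := by
      rcases mul_eq_zero.1 h1 with h | h
      · exact absurd h hne
      · exact h
    have h3 : 2 * x + 2 = m := by
      have : (2 * (x : ℝ) + 2) = (m : ℝ) := by linarith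
      exact_mod_cast this
    have h4 : (y : ℝ) + x + 1 = m := by linarith
    have h5 : y + x + 1 = m := by exact_mod_cast h4
    omega
  · have h1 : (16 * (m : ℝ) + 8) * (2 * (x : ℝ) + 1 - m) = 0 := by
      linear_combination 2 * hA - 8 * (m : ℝ) ^ 2 * hB
    have h2 : 2 * (x : ℝ) + 1 - m = 0 := by
      rcases mul_eq_zero.1 h1 with h | h
      · exact absurd h hne
      · exact h
    have h3 : 2 * x + 1 = m := by
      have : (2 * (x : ℝ) + 1) = (m : ℝ) := by linarith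
      exact_mod_cast this
    have h4 : (y : ℝ) + x + 1 = m := by linarith
    have h5 : y + x + 1 = m := by exact_mod_cast h4
    omega
  · exfalso
    nlinarith

/-- Splitting a real number according to which of six values an index takes. -/
theorem six_split (m v : ℕ) (hm : 2 ≤ m)
    (hv : v = 1 ∨ v = m ∨ v = m + 1 ∨ v = 2 * m ∨ v = 2 * m + 1 ∨ v = 2 * m + 2) (c : ℝ) :
    (if v = 1 then c else 0) + (if v = m then c else 0) +
      (if v = m + 1 then c else 0) + (if v = 2 * m then c else 0) +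
      (if v = 2 * m + 1 then c else 0) + (if v = 2 * m + 2 then c else 0) = c := by
  rcases hv with rfl | rfl | rfl | rfl | rfl | rfl
  · rw [if_pos rfl, if_neg (by omega), if_neg (by omega), if_neg (by omega), if_neg (by omega),
      if_neg (by omega)]
    ring
  · rw [if_neg (by omega), if_pos rfl, if_neg (by omega), if_neg (by omega), if_neg (by omega),
      if_neg (by omega)]
    ring
  · rw [if_neg (by omega), if_neg (by omega), if_pos rfl, if_neg (by omega), if_neg (by omega),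
      if_neg (by omega)]
    ring
  · rw [if_neg (by omega), if_neg (by omega), if_neg (by omega), if_pos rfl, if_neg (by omega),
      if_neg (by omega)]
    ring
  · rw [if_neg (by omega), if_neg (by omega), if_neg (by omega), if_neg (by omega), if_pos rfl,
      if_neg (by omega)]
    ring
  · rw [if_neg (by omega), if_neg (by omega), if_neg (by omega), if_neg (by omega),
      if_neg (by omega), if_pos rfl]
    ring

end arith

section signs

variable {F : Type*} [Field F]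

theorem zc_ne_one (h2 : (2 : F) ≠ 0) : (zc : SpecialLinearGroup (Fin 2) F) ≠ 1 := by
  intro h
  have h1 := congrArg (fun g : SpecialLinearGroup (Fin 2) F =>
    (g : Matrix (Fin 2) (Fin 2) F) 0 0) h
  simp only [zc_val] at h1
  apply h2
  have h3 : (-1 : F) = 1 := by simpa using h1
  linear_combination -h3

theorem zc_mem_center : (zc : SpecialLinearGroup (Fin 2) F) ∈
    Subgroup.center (SpecialLinearGroup (Fin 2) F) := by
  rw [Subgroup.mem_center_iff]
  intro y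
  exact zc_central y

/-- The centre of `SL₂(F)` consists of `1` and `-1`. -/
theorem eq_one_or_eq_zc_of_mem_center {z : SpecialLinearGroup (Fin 2) F}
    (hz : z ∈ Subgroup.center (SpecialLinearGroup (Fin 2) F)) : z = 1 ∨ z = zc := by
  obtain ⟨r, hr, hz'⟩ := Matrix.SpecialLinearGroup.mem_center_iff.1 hz
  rw [Fintype.card_fin] at hr
  have h1 : (r - 1) * (r + 1) = 0 := by linear_combination hr
  rcases mul_eq_zero.1 h1 with h | h
  · left
    have hr1 : r = 1 := sub_eq_zero.1 h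
    apply Matrix.SpecialLinearGroup.ext
    intro i j
    rw [← hz', hr1]
    simp
  · right
    have hr1 : r = -1 := eq_neg_of_add_eq_zero_left h
    apply Matrix.SpecialLinearGroup.ext
    intro i j
    rw [← hz', hr1, zc_val]
    fin_cases i <;> fin_cases j <;> simp

/-- The central sign is determined by the character. -/
theorem sign_unique {χ : SpecialLinearGroup (Fin 2) F → ℂ} (h1 : χ 1 ≠ 0) {ε ε' : ℝ}
    (hε : ∀ a : SpecialLinearGroup (Fin 2) F, χ (a * zc) = (ε : ℂ) * χ a)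
    (hε' : ∀ a : SpecialLinearGroup (Fin 2) F, χ (a * zc) = (ε' : ℂ) * χ a) : ε = ε' := by
  have := (hε 1).symm.trans (hε' 1)
  have h2 : (ε : ℂ) = (ε' : ℂ) := mul_right_cancel₀ h1 this
  exact_mod_cast h2

end signs

section relations

variable {F : Type*} [Field F] [Fintype (SpecialLinearGroup (Fin 2) F)]

/-- Column orthogonality for a column and its central translate, in terms of the central signs. -/
theorem sum_sign_norm (g : SpecialLinearGroup (Fin 2) F)
    (hg : ¬ IsConj g (g * zc))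
    (ε : Cfsg.IrrCharacter (SpecialLinearGroup (Fin 2) F) → ℝ)
    (hε : ∀ (χ : Cfsg.IrrCharacter (SpecialLinearGroup (Fin 2) F))
      (a : SpecialLinearGroup (Fin 2) F),
      (χ : SpecialLinearGroup (Fin 2) F → ℂ) (a * zc) =
        (ε χ : ℂ) * (χ : SpecialLinearGroup (Fin 2) F → ℂ) a) :
    ∑ χ : Cfsg.IrrCharacter (SpecialLinearGroup (Fin 2) F),
      ε χ * ‖(χ : SpecialLinearGroup (Fin 2) F → ℂ) g‖ ^ 2 = 0 := by
  have h := Cfsg.Agent.Lib.Helper3_CharColumn.column_orthogonality g (g * zc)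
  rw [if_neg hg] at h
  have h3 : ∀ χ : Cfsg.IrrCharacter (SpecialLinearGroup (Fin 2) F),
      (χ : SpecialLinearGroup (Fin 2) F → ℂ) g *
        conj ((χ : SpecialLinearGroup (Fin 2) F → ℂ) (g * zc)) =
      ((ε χ * ‖(χ : SpecialLinearGroup (Fin 2) F → ℂ) g‖ ^ 2 : ℝ) : ℂ) := by
    intro χ
    rw [hε χ g, map_mul, Complex.conj_ofReal, mul_left_comm, Complex.mul_conj']
    push_cast
    ring
  rw [Finset.sum_congr rfl (fun χ _ => h3 χ), ← Complex.ofReal_sum] at h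
  exact_mod_cast h

end relations

section main

variable {F : Type*} [Field F] [Fintype F] [Fintype (SpecialLinearGroup (Fin 2) F)]

/-- For `q ≥ 7` odd, `SL₂(F)` has irreducible characters of degree `q + 1` and of degree `q - 1`
that are trivial on the centre. -/
theorem exists_even (hodd : Odd (Fintype.card F)) (hq : 7 ≤ Fintype.card F) :
    (∃ χ : Cfsg.IrrCharacter (SpecialLinearGroup (Fin 2) F),
      (χ : SpecialLinearGroup (Fin 2) F → ℂ) 1 = (Fintype.card F : ℂ) + 1 ∧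
      ∀ a : SpecialLinearGroup (Fin 2) F, (χ : SpecialLinearGroup (Fin 2) F → ℂ) (a * zc) =
        (χ : SpecialLinearGroup (Fin 2) F → ℂ) a) ∧
    (∃ χ : Cfsg.IrrCharacter (SpecialLinearGroup (Fin 2) F),
      (χ : SpecialLinearGroup (Fin 2) F → ℂ) 1 = (Fintype.card F : ℂ) - 1 ∧
      ∀ a : SpecialLinearGroup (Fin 2) F, (χ : SpecialLinearGroup (Fin 2) F → ℂ) (a * zc) =
        (χ : SpecialLinearGroup (Fin 2) F → ℂ) a) := by
  classical
  have hodd' := hodd
  have hq5 : 5 ≤ Fintype.card F := by omega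
  have h2F : (2 : F) ≠ 0 := two_ne_zero_of_odd hodd
  have hF := ringChar_ne_two_of_odd hodd
  obtain ⟨a, B, hdeg, hcases, htriv, hcount4, hsumU, hval⟩ := odd_types'' hodd
  obtain ⟨c1, cq, cp, cm, chp, chm⟩ := counts_odd hodd hq5
  obtain ⟨m, hm⟩ := hodd
  have hm3 : 3 ≤ m := by omega
  have hm2 : 2 ≤ m := by omega
  have e1 : (Fintype.card F - 1) / 2 = m := by omega
  have e2 : (Fintype.card F + 1) / 2 = m + 1 := by omega
  have e3 : (Fintype.card F - 3) / 2 = m - 1 := by omega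
  rw [e2] at chp
  rw [e1] at chm cm
  rw [e3] at cp
  set u : SpecialLinearGroup (Fin 2) F := ((u1 (1 : F) : B1 F) : SpecialLinearGroup (Fin 2) F)
    with hu
  -- degrees as natural numbers
  set d : Cfsg.IrrCharacter (SpecialLinearGroup (Fin 2) F) → ℕ := fun χ => a χ + m * B χ with hd
  have hdχ : ∀ χ : Cfsg.IrrCharacter (SpecialLinearGroup (Fin 2) F),
      (χ : SpecialLinearGroup (Fin 2) F → ℂ) 1 = (d χ : ℂ) := by
    intro χ
    rw [hdeg χ, e1]
  have hdtriv : d trivIrr = 1 := by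
    simp only [hd]
    rw [htriv.1, htriv.2]
    simp
  have hdcases : ∀ χ : Cfsg.IrrCharacter (SpecialLinearGroup (Fin 2) F),
      (χ = trivIrr ∧ d χ = 1 ∧ B χ = 0) ∨ (d χ = m ∧ B χ = 1 ∧ a χ = 0) ∨
      (d χ = m + 1 ∧ B χ = 1 ∧ a χ = 1) ∨
      (d χ = 2 * m ∧ B χ = 2 ∧ a χ = 0) ∨ (d χ = 2 * m + 1 ∧ B χ = 2 ∧ a χ = 1) ∨
      (d χ = 2 * m + 2 ∧ B χ = 2 ∧ a χ = 2) := by
    intro χ
    by_cases hχ : χ = trivIrr
    · left
      exact ⟨hχ, by rw [hχ, hdtriv], by rw [hχ, htriv.2]⟩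
    · right
      simp only [hd]
      rcases hcases χ hχ with ⟨h1, h2⟩ | ⟨h1, h2⟩ | ⟨h1, h2⟩ | ⟨h1, h2⟩ | ⟨h1, h2⟩ <;>
        rw [h1, h2]
      · left; refine ⟨?_, rfl, rfl⟩; omega
      · right; right; left; refine ⟨?_, rfl, rfl⟩; omega
      · right; left; refine ⟨?_, rfl, rfl⟩; omega
      · right; right; right; left; refine ⟨?_, rfl, rfl⟩; omega
      · right; right; right; right; refine ⟨?_, rfl, rfl⟩; omega
  have hv : ∀ χ : Cfsg.IrrCharacter (SpecialLinearGroup (Fin 2) F),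
      d χ = 1 ∨ d χ = m ∨ d χ = m + 1 ∨ d χ = 2 * m ∨ d χ = 2 * m + 1 ∨ d χ = 2 * m + 2 := by
    intro χ
    rcases hdcases χ with ⟨-, h, -⟩ | ⟨h, -⟩ | ⟨h, -⟩ | ⟨h, -⟩ | ⟨h, -⟩ | ⟨h, -⟩ <;> omega
  have hiff : ∀ (χ : Cfsg.IrrCharacter (SpecialLinearGroup (Fin 2) F)) (n : ℕ),
      (χ : SpecialLinearGroup (Fin 2) F → ℂ) 1 = (n : ℂ) ↔ d χ = n := by
    intro χ n
    rw [hdχ χ]
    exact Nat.cast_inj
  have hcountd : ∀ (c : ℂ) (n : ℕ), c = (n : ℂ) →
      Nat.card {χ : Cfsg.IrrCharacter (SpecialLinearGroup (Fin 2) F) //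
        (χ : SpecialLinearGroup (Fin 2) F → ℂ) 1 = c} =
      (Finset.univ.filter (fun χ : Cfsg.IrrCharacter (SpecialLinearGroup (Fin 2) F) =>
        d χ = n)).card := by
    intro c n hc
    rw [Nat.card_eq_fintype_card, ← Fintype.card_subtype]
    apply Fintype.card_congr
    apply Equiv.subtypeEquivRight
    intro χ
    rw [hc]
    exact hiff χ n
  rw [hcountd 1 1 (by simp)] at c1
  rw [hcountd (Fintype.card F : ℂ) (2 * m + 1) (by rw [hm])] at cq
  rw [hcountd ((Fintype.card F : ℂ) + 1) (2 * m + 2) (by rw [hm]; push_cast; ring)] at cp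
  rw [hcountd ((Fintype.card F : ℂ) - 1) (2 * m) (by rw [hm]; push_cast; ring)] at cm
  rw [hcountd (((m + 1 : ℕ) : ℂ)) (m + 1) rfl] at chp
  rw [hcountd ((m : ℕ) : ℂ) m rfl] at chm
  set S1 := Finset.univ.filter (fun χ : Cfsg.IrrCharacter (SpecialLinearGroup (Fin 2) F) =>
        d χ = 1) with hS1
  set Sq := Finset.univ.filter (fun χ : Cfsg.IrrCharacter (SpecialLinearGroup (Fin 2) F) =>
        d χ = 2 * m + 1) with hSq
  set Sp := Finset.univ.filter (fun χ : Cfsg.IrrCharacter (SpecialLinearGroup (Fin 2) F) =>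
        d χ = 2 * m + 2) with hSp
  set Sm := Finset.univ.filter (fun χ : Cfsg.IrrCharacter (SpecialLinearGroup (Fin 2) F) =>
        d χ = 2 * m) with hSm
  set Shp := Finset.univ.filter (fun χ : Cfsg.IrrCharacter (SpecialLinearGroup (Fin 2) F) =>
        d χ = m + 1) with hShp
  set Shm := Finset.univ.filter (fun χ : Cfsg.IrrCharacter (SpecialLinearGroup (Fin 2) F) =>
        d χ = m) with hShm
  -- the six-way splitting of sums
  have hsplit : ∀ f : Cfsg.IrrCharacter (SpecialLinearGroup (Fin 2) F) → ℝ,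
      ∑ χ, f χ = ∑ χ ∈ S1, f χ + ∑ χ ∈ Shm, f χ + ∑ χ ∈ Shp, f χ + ∑ χ ∈ Sm, f χ +
        ∑ χ ∈ Sq, f χ + ∑ χ ∈ Sp, f χ := by
    intro f
    rw [hS1, hShm, hShp, hSm, hSq, hSp, Finset.sum_filter, Finset.sum_filter, Finset.sum_filter,
      Finset.sum_filter, Finset.sum_filter, Finset.sum_filter, ← Finset.sum_add_distrib,
      ← Finset.sum_add_distrib, ← Finset.sum_add_distrib, ← Finset.sum_add_distrib,
      ← Finset.sum_add_distrib]
    refine Finset.sum_congr rfl (fun χ _ => ?_)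
    exact (six_split m (d χ) hm2 (hv χ) (f χ)).symm
  -- the central signs
  choose ε hε1 hε2 using (fun χ : Cfsg.IrrCharacter (SpecialLinearGroup (Fin 2) F) =>
    exists_central_sign χ.2)
  have hεpm : ∀ χ, ε χ = 1 ∨ ε χ = -1 := by
    intro χ
    have h := hε1 χ
    have h' : (ε χ - 1) * (ε χ + 1) = 0 := by linear_combination h
    rcases mul_eq_zero.1 h' with h | h
    · left; linarith
    · right; linarith
  have hone : ∀ χ : Cfsg.IrrCharacter (SpecialLinearGroup (Fin 2) F),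
      (χ : SpecialLinearGroup (Fin 2) F → ℂ) 1 ≠ 0 := fun χ =>
    Cfsg.Agent.Lib.Helper78_CentralChar.isIrrCharacter_one_ne_zero χ.2
  -- the two relations
  have hA := sum_sign_norm (1 : SpecialLinearGroup (Fin 2) F)
    (by rw [one_mul, isConj_one_right]; exact zc_ne_one h2F) ε hε2
  have hB := sum_sign_norm u (not_isConj_u_uz h2F) ε hε2
  have hA' : ∑ χ : Cfsg.IrrCharacter (SpecialLinearGroup (Fin 2) F), ε χ * (d χ : ℝ) ^ 2 = 0 := by
    rw [← hA]
    refine Finset.sum_congr rfl (fun χ _ => ?_)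
    rw [hdχ χ, Complex.norm_natCast]
  -- the trivial character
  have hS1' : S1 = {trivIrr} := by
    obtain ⟨x, hx⟩ := Finset.card_eq_one.1 c1
    have : trivIrr ∈ S1 := by
      rw [hS1, Finset.mem_filter]
      exact ⟨Finset.mem_univ _, hdtriv⟩
    rw [hx, Finset.mem_singleton] at this
    rw [hx, this]
  have hεtriv : ε trivIrr = 1 := by
    have := hε2 trivIrr 1
    have h1 : (1 : ℂ) = (ε trivIrr : ℂ) * 1 := this
    have h2 : (ε trivIrr : ℂ) = 1 := by rw [mul_one] at h1; exact h1.symm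
    exact_mod_cast h2
  have hutriv : ‖(trivIrr : Cfsg.IrrCharacter (SpecialLinearGroup (Fin 2) F)).1 u‖ ^ 2 = 1 := by
    have : (trivIrr : Cfsg.IrrCharacter (SpecialLinearGroup (Fin 2) F)).1 u = 1 := rfl
    rw [this]
    simp
  -- the Steinberg character
  obtain ⟨St, hSt⟩ := Finset.card_eq_one.1 cq
  have hStd : d St = 2 * m + 1 := by
    have : St ∈ Sq := by rw [hSt]; exact Finset.mem_singleton_self _
    rw [hSq, Finset.mem_filter] at this
    exact this.2
  have hStdeg : St.1 1 = (Fintype.card F : ℂ) := by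
    have := (hiff St (2 * m + 1)).2 hStd
    rw [hm]
    exact this
  have hεSt : ε St = 1 := by
    have h1 := Cfsg.Agent.Lib.Helper39_PSL2.steinberg_central St.1 St.2 hStdeg
      (zc_mem_center (F := F))
    have h2 := hε2 St 1
    rw [one_mul] at h2
    have h3 : (ε St : ℂ) * St.1 1 = 1 * St.1 1 := by rw [← h2, h1, one_mul]
    have h4 : (ε St : ℂ) = 1 := mul_right_cancel₀ (hone St) h3
    exact_mod_cast h4
  have huSt : ‖St.1 u‖ ^ 2 = 0 := by
    have hBa : B St = 2 ∧ a St = 1 := by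
      rcases hdcases St with ⟨-, h, -⟩ | ⟨h, -⟩ | ⟨h, -⟩ | ⟨h, -⟩ | ⟨-, h⟩ | ⟨h, -⟩
      · omega
      · omega
      · omega
      · omega
      · exact h
      · omega
    have := hval St hBa.1 1 one_ne_zero
    rw [hBa.2] at this
    change St.1 u = _ at this
    rw [this]
    simp
  -- degree `q + 1`
  have hSp_d : ∀ χ ∈ Sp, d χ = 2 * m + 2 := by
    intro χ hχ
    rw [hSp, Finset.mem_filter] at hχ
    exact hχ.2
  have hSp_u : ∀ χ ∈ Sp, ‖χ.1 u‖ ^ 2 = 1 := by
    intro χ hχ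
    have hdχ' := hSp_d χ hχ
    have hBa : B χ = 2 ∧ a χ = 2 := by
      rcases hdcases χ with ⟨-, h, -⟩ | ⟨h, -⟩ | ⟨h, -⟩ | ⟨h, -⟩ | ⟨h, -⟩ | ⟨-, h⟩
      · omega
      · omega
      · omega
      · omega
      · omega
      · exact h
    have := hval χ hBa.1 1 one_ne_zero
    rw [hBa.2] at this
    change χ.1 u = _ at this
    rw [this]
    norm_num
  -- degree `q - 1`
  have hSm_d : ∀ χ ∈ Sm, d χ = 2 * m := by
    intro χ hχ
    rw [hSm, Finset.mem_filter] at hχ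
    exact hχ.2
  have hSm_u : ∀ χ ∈ Sm, ‖χ.1 u‖ ^ 2 = 1 := by
    intro χ hχ
    have hdχ' := hSm_d χ hχ
    have hBa : B χ = 2 ∧ a χ = 0 := by
      rcases hdcases χ with ⟨-, h, -⟩ | ⟨h, -⟩ | ⟨h, -⟩ | ⟨-, h⟩ | ⟨h, -⟩ | ⟨h, -⟩
      · omega
      · omega
      · omega
      · exact h
      · omega
      · omega
    have := hval χ hBa.1 1 one_ne_zero
    rw [hBa.2] at this
    change χ.1 u = _ at this
    rw [this]
    norm_num
  -- the pair of degree `(q + 1) / 2`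
  obtain ⟨ψ₁, ψ₂, k₁, k₂, hψne, hd₁, hd₂, ⟨εp, hεp, hεp1, hεp2⟩, hvp⟩ :=
    halves_package hodd' hq5
  rw [e2] at hd₁ hd₂
  set P1 : Cfsg.IrrCharacter (SpecialLinearGroup (Fin 2) F) := ⟨ψ₁, k₁⟩ with hP1
  set P2 : Cfsg.IrrCharacter (SpecialLinearGroup (Fin 2) F) := ⟨ψ₂, k₂⟩ with hP2
  have hP12 : P1 ≠ P2 := fun h => hψne (congrArg Subtype.val h)
  have hP1d : d P1 = m + 1 := (hiff P1 (m + 1)).1 hd₁
  have hP2d : d P2 = m + 1 := (hiff P2 (m + 1)).1 hd₂
  have hShp' : Shp = {P1, P2} := by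
    symm
    apply Finset.eq_of_subset_of_card_le
    · intro χ hχ
      rw [Finset.mem_insert, Finset.mem_singleton] at hχ
      rw [hShp, Finset.mem_filter]
      rcases hχ with rfl | rfl
      · exact ⟨Finset.mem_univ _, hP1d⟩
      · exact ⟨Finset.mem_univ _, hP2d⟩
    · rw [chp, Finset.card_pair hP12]
  have hεP1 : ε P1 = εp := sign_unique (hone P1) (hε2 P1) hεp1
  have hεP2 : ε P2 = εp := sign_unique (hone P2) (hε2 P2) hεp2
  have hεp' : εp = 1 ∨ εp = -1 := hεP1 ▸ hεpm P1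
  have hvp' : ‖P1.1 u‖ ^ 2 + ‖P2.1 u‖ ^ 2 = (m : ℝ) + 1 := by
    have : ‖P1.1 u‖ ^ 2 + ‖P2.1 u‖ ^ 2 = ((Fintype.card F : ℝ) + 1) / 2 := hvp
    rw [this, hm]
    push_cast
    ring
  -- the pair of degree `(q - 1) / 2`
  obtain ⟨η₁, η₂, hη12, hShm'⟩ := Finset.card_eq_two.1 chm
  have hη₁d : d η₁ = m := by
    have : η₁ ∈ Shm := by rw [hShm']; exact Finset.mem_insert_self _ _
    rw [hShm, Finset.mem_filter] at this
    exact this.2
  have hη₂d : d η₂ = m := by
    have : η₂ ∈ Shm := by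
      rw [hShm']
      exact Finset.mem_insert_of_mem (Finset.mem_singleton_self _)
    rw [hShm, Finset.mem_filter] at this
    exact this.2
  have hη₁deg : η₁.1 1 = (((Fintype.card F - 1) / 2 : ℕ) : ℂ) := by
    rw [e1]
    exact (hiff η₁ m).2 hη₁d
  have hη₂deg : η₂.1 1 = (((Fintype.card F - 1) / 2 : ℕ) : ℂ) := by
    rw [e1]
    exact (hiff η₂ m).2 hη₂d
  obtain ⟨e, he⟩ := FiniteField.exists_nonsquare hF
  have he0 : e ≠ 0 := by
    rintro rfl
    exact he IsSquare.zero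
  have hpair := minus_pair hodd' hq5 η₁.1 η₂.1 η₁.2 η₂.2 (fun h => hη12 (Subtype.ext h))
    hη₁deg hη₂deg
  obtain ⟨hmv1, hmv2⟩ := minus_values hodd' hq5 η₁.1 η₁.2 hη₁deg e he
  have hη₂u : η₂.1 u = η₁.1 ((u1 e : B1 F) : SpecialLinearGroup (Fin 2) F) := by
    linear_combination hpair - hmv1
  have hvm' : ‖η₁.1 u‖ ^ 2 + ‖η₂.1 u‖ ^ 2 = (m : ℝ) + 1 := by
    rw [hη₂u, hmv2, hm]
    push_cast
    ring
  set eu : Fˣ := Units.mk0 e he0 with heu
  have hσ : Cfsg.IsIrrCharacter (SpecialLinearGroup (Fin 2) F) (fun g => η₁.1 (sig eu g)) :=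
    isIrrCharacter_comp_equiv (sig eu) η₁.2
  set η' : Cfsg.IrrCharacter (SpecialLinearGroup (Fin 2) F) :=
    ⟨fun g => η₁.1 (sig eu g), hσ⟩ with hη'
  have hη'd : d η' = m := by
    apply (hiff η' m).1
    change η₁.1 (sig eu 1) = _
    rw [map_one]
    exact (hiff η₁ m).2 hη₁d
  have hη'mem : η' ∈ Shm := by
    rw [hShm, Finset.mem_filter]
    exact ⟨Finset.mem_univ _, hη'd⟩
  rw [hShm', Finset.mem_insert, Finset.mem_singleton] at hη'mem
  have hη'2 : η' = η₂ := by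
    rcases hη'mem with h | h
    · exfalso
      have h3 := congrFun (congrArg Subtype.val h) u
      change η₁.1 (sig eu u) = η₁.1 u at h3
      rw [hu, sig_u1, mul_one] at h3
      exact minus_values_ne hodd' hq5 η₁.1 η₁.2 hη₁deg e he h3.symm
    · exact h
  have hεη : ε η₂ = ε η₁ := by
    apply sign_unique (hone η₂) (hε2 η₂)
    intro x
    rw [← hη'2]
    change η₁.1 (sig eu (x * zc)) = _ * η₁.1 (sig eu x)
    rw [map_mul, sig_zc, hε2 η₁]
  -- the counts of even characters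
  set x := (Sp.filter (fun χ => ε χ = 1)).card with hx
  set y := (Sm.filter (fun χ => ε χ = 1)).card with hy
  have hxle : x ≤ m - 1 := by
    rw [← cp]
    exact Finset.card_filter_le _ _
  have hyle : y ≤ m := by
    rw [← cm]
    exact Finset.card_filter_le _ _
  have hsumSp : ∑ χ ∈ Sp, ε χ = 2 * (x : ℝ) - ((m : ℝ) - 1) := by
    rw [sum_sign_eq Sp ε (fun χ _ => hεpm χ), cp, Nat.cast_sub (by omega), Nat.cast_one]
  have hsumSm : ∑ χ ∈ Sm, ε χ = 2 * (y : ℝ) - (m : ℝ) := by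
    rw [sum_sign_eq Sm ε (fun χ _ => hεpm χ), cm]
  -- relation A
  have hAfinal : 1 + (2 * (m : ℝ) + 1) ^ 2 +
      (2 * (m : ℝ) + 2) ^ 2 * (2 * (x : ℝ) - ((m : ℝ) - 1)) +
      (2 * (m : ℝ)) ^ 2 * (2 * (y : ℝ) - (m : ℝ)) + εp * (2 * ((m : ℝ) + 1) ^ 2) +
      ε η₁ * (2 * (m : ℝ) ^ 2) = 0 := by
    rw [hsplit] at hA'
    rw [hS1', Finset.sum_singleton, hShm', Finset.sum_pair hη12, hShp', Finset.sum_pair hP12,
      hSt, Finset.sum_singleton, hεtriv, hdtriv, hεSt, hStd, hεP1, hεP2, hP1d, hP2d, hεη,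
      hη₁d, hη₂d] at hA'
    have h1 : ∑ χ ∈ Sm, ε χ * (d χ : ℝ) ^ 2 = (2 * (m : ℝ)) ^ 2 * (2 * (y : ℝ) - (m : ℝ)) := by
      rw [← hsumSm, Finset.mul_sum]
      refine Finset.sum_congr rfl (fun χ hχ => ?_)
      rw [hSm_d χ hχ]
      push_cast
      ring
    have h2 : ∑ χ ∈ Sp, ε χ * (d χ : ℝ) ^ 2 =
        (2 * (m : ℝ) + 2) ^ 2 * (2 * (x : ℝ) - ((m : ℝ) - 1)) := by
      rw [← hsumSp, Finset.mul_sum]
      refine Finset.sum_congr rfl (fun χ hχ => ?_)
      rw [hSp_d χ hχ]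
      push_cast
      ring
    rw [h1, h2] at hA'
    push_cast at hA'
    linear_combination hA'
  -- relation B
  have hBfinal : 1 + (2 * (x : ℝ) - ((m : ℝ) - 1)) + (2 * (y : ℝ) - (m : ℝ)) +
      εp * ((m : ℝ) + 1) + ε η₁ * ((m : ℝ) + 1) = 0 := by
    rw [hsplit] at hB
    rw [hS1', Finset.sum_singleton, hShm', Finset.sum_pair hη12, hShp', Finset.sum_pair hP12,
      hSt, Finset.sum_singleton, hεtriv, hεSt, hεP1, hεP2, hεη, hutriv, huSt] at hB
    have h1 : ∑ χ ∈ Sm, ε χ * ‖χ.1 u‖ ^ 2 = 2 * (y : ℝ) - (m : ℝ) := by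
      rw [← hsumSm]
      refine Finset.sum_congr rfl (fun χ hχ => ?_)
      rw [hSm_u χ hχ, mul_one]
    have h2 : ∑ χ ∈ Sp, ε χ * ‖χ.1 u‖ ^ 2 = 2 * (x : ℝ) - ((m : ℝ) - 1) := by
      rw [← hsumSp]
      refine Finset.sum_congr rfl (fun χ hχ => ?_)
      rw [hSp_u χ hχ, mul_one]
    rw [h1, h2] at hB
    linear_combination hB - εp * hvp' - ε η₁ * hvm'
  obtain ⟨hx1, hy1⟩ := final_arith m x y εp (ε η₁) hm3 hxle hyle hεp' (hεpm η₁) hAfinal hBfinal
  constructor
  · have : 0 < (Sp.filter (fun χ => ε χ = 1)).card := by omega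
    obtain ⟨χ, hχ⟩ := Finset.card_pos.1 this
    rw [Finset.mem_filter] at hχ
    refine ⟨χ, ?_, ?_⟩
    · rw [hdχ χ, hSp_d χ hχ.1, hm]
      push_cast
      ring
    · intro g
      rw [hε2 χ g, hχ.2]
      simp
  · have : 0 < (Sm.filter (fun χ => ε χ = 1)).card := by omega
    obtain ⟨χ, hχ⟩ := Finset.card_pos.1 this
    rw [Finset.mem_filter] at hχ
    refine ⟨χ, ?_, ?_⟩
    · rw [hdχ χ, hSm_d χ hχ.1, hm]
      push_cast
      ring
    · intro g
      rw [hε2 χ g, hχ.2]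
      simp

end main

section psl

variable {F : Type*} [Field F] [Fintype F] [Fintype (SpecialLinearGroup (Fin 2) F)]

/-- For `q ≥ 7` odd, `PSL₂(F)` has irreducible characters of degree `q + 1` and of degree
`q - 1`. -/
theorem exists_psl_degrees (hodd : Odd (Fintype.card F)) (hq : 7 ≤ Fintype.card F) :
    (∃ χ : Cfsg.IrrCharacter (Matrix.ProjectiveSpecialLinearGroup (Fin 2) F),
      (χ : Matrix.ProjectiveSpecialLinearGroup (Fin 2) F → ℂ) 1 = (Fintype.card F : ℂ) + 1) ∧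
    (∃ χ : Cfsg.IrrCharacter (Matrix.ProjectiveSpecialLinearGroup (Fin 2) F),
      (χ : Matrix.ProjectiveSpecialLinearGroup (Fin 2) F → ℂ) 1 = (Fintype.card F : ℂ) - 1) := by
  obtain ⟨⟨χ₁, h₁, k₁⟩, ⟨χ₂, h₂, k₂⟩⟩ := exists_even hodd hq
  have key : ∀ χ : Cfsg.IrrCharacter (SpecialLinearGroup (Fin 2) F),
      (∀ a : SpecialLinearGroup (Fin 2) F, (χ : SpecialLinearGroup (Fin 2) F → ℂ) (a * zc) =
        (χ : SpecialLinearGroup (Fin 2) F → ℂ) a) →
      ∃ ψ : Cfsg.IrrCharacter (Matrix.ProjectiveSpecialLinearGroup (Fin 2) F),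
        (ψ : Matrix.ProjectiveSpecialLinearGroup (Fin 2) F → ℂ) 1 =
          (χ : SpecialLinearGroup (Fin 2) F → ℂ) 1 := by
    intro χ hχ
    obtain ⟨ψ, hψ⟩ := Cfsg.Agent.Lib.Helper77_QuotBlocks.exists_quot_char
      (Subgroup.center (SpecialLinearGroup (Fin 2) F)) χ (by
        intro z hz
        rcases eq_one_or_eq_zc_of_mem_center hz with rfl | rfl
        · rfl
        · have := hχ 1
          rwa [one_mul] at this)
    refine ⟨ψ, ?_⟩
    have := congrFun hψ 1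
    simp only [Function.comp] at this
    rw [this]
    rfl
  constructor
  · obtain ⟨ψ, hψ⟩ := key χ₁ k₁
    exact ⟨ψ, hψ.trans h₁⟩
  · obtain ⟨ψ, hψ⟩ := key χ₂ k₂
    exact ⟨ψ, hψ.trans h₂⟩

end psl

end Cfsg.Agent.Lib.Helper39_SL2Central
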