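import Mathlib
import Cfsg.Prelude.Def_Characters
import Cfsg.Prelude.Def_Blocks
import Cfsg.Prelude.Def_DegreeGraph
import Cfsg.Agent.Lib.Helper39_DegreeGraph
import Cfsg.Agent.Lib.Helper39_SL2Central

/-!
# Character degree graphs of `SL₂(F)` and `PSL₂(F)` in odd characteristic (helper39)
-/

set_option autoImplicit false

namespace Cfsg.Agent.Lib.Helper39_DegreeGraphOdd

open Matrix
open Cfsg.Agent.Lib.Helper39_DegreeGraph (mul_dvd_of_primes)

section arith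

/-- The degree graph attached to a degree set between `{q, q + 1, q - 1}` and the full degree
list of `SL₂(q)`, `q` an odd prime power. -/
theorem graph_odd (q t n : ℕ) (ht : t.Prime) (hq : q = t ^ n) (hodd : Odd q) (D : Set ℕ)
    (hsub : D ⊆ {1, q, q + 1, q - 1, (q + 1) / 2, (q - 1) / 2})
    (h1 : q ∈ D) (h2 : q + 1 ∈ D) (h3 : q - 1 ∈ D) :
    {p : ℕ | p.Prime ∧ ∃ d ∈ D, p ∣ d} = {r : ℕ | r.Prime ∧ r ∣ q * (q ^ 2 - 1)} ∧
    ∀ r s : ℕ, (r ≠ s ∧ r.Prime ∧ s.Prime ∧ ∃ d ∈ D, r * s ∣ d) ↔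
      (r ≠ s ∧ r.Prime ∧ s.Prime ∧ r ∣ q ^ 2 - 1 ∧ s ∣ q ^ 2 - 1 ∧
        (r = 2 ∨ s = 2 ∨ (r ∣ q + 1 ∧ s ∣ q + 1) ∨ (r ∣ q - 1 ∧ s ∣ q - 1))) := by
  have hfac : q ^ 2 - 1 = (q + 1) * (q - 1) := by
    have := Nat.sq_sub_sq q 1
    rwa [one_pow] at this
  obtain ⟨m, hm⟩ := hodd
  have hhp : (q + 1) / 2 ∣ q + 1 := ⟨2, by omega⟩
  have hhm : (q - 1) / 2 ∣ q - 1 := ⟨2, by omega⟩
  have h2p : 2 ∣ q + 1 := ⟨m + 1, by omega⟩
  have h2m : 2 ∣ q - 1 := ⟨m, by omega⟩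
  have hp_sq : ∀ r : ℕ, r ∣ q + 1 → r ∣ q ^ 2 - 1 := fun r h => hfac ▸ Dvd.dvd.mul_right h _
  have hm_sq : ∀ r : ℕ, r ∣ q - 1 → r ∣ q ^ 2 - 1 := fun r h => hfac ▸ Dvd.dvd.mul_left h _
  have hmem : ∀ d ∈ D, d = 1 ∨ d = q ∨ d ∣ q + 1 ∨ d ∣ q - 1 := by
    intro d hd
    have := hsub hd
    simp only [Set.mem_insert_iff, Set.mem_singleton_iff] at this
    rcases this with rfl | rfl | rfl | rfl | rfl | rfl
    · exact Or.inl rfl
    · exact Or.inr (Or.inl rfl)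
    · exact Or.inr (Or.inr (Or.inl dvd_rfl))
    · exact Or.inr (Or.inr (Or.inr dvd_rfl))
    · exact Or.inr (Or.inr (Or.inl hhp))
    · exact Or.inr (Or.inr (Or.inr hhm))
  constructor
  · ext r
    simp only [Set.mem_ofPred_eq]
    constructor
    · rintro ⟨hr, d, hd, hrd⟩
      refine ⟨hr, ?_⟩
      rcases hmem d hd with rfl | rfl | h | h
      · exact absurd (Nat.dvd_one.1 hrd) hr.one_lt.ne'
      · exact Dvd.dvd.mul_right hrd _
      · exact Dvd.dvd.mul_left (hp_sq r (hrd.trans h)) _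
      · exact Dvd.dvd.mul_left (hm_sq r (hrd.trans h)) _
    · rintro ⟨hr, h⟩
      refine ⟨hr, ?_⟩
      rw [hfac] at h
      rcases (Nat.Prime.dvd_mul hr).1 h with h | h
      · exact ⟨q, h1, h⟩
      · rcases (Nat.Prime.dvd_mul hr).1 h with h | h
        · exact ⟨q + 1, h2, h⟩
        · exact ⟨q - 1, h3, h⟩
  · intro r s
    constructor
    · rintro ⟨hne, hr, hs, d, hd, hrs⟩
      have hrd : r ∣ d := dvd_of_mul_right_dvd hrs
      have hsd : s ∣ d := dvd_of_mul_left_dvd hrs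
      rcases hmem d hd with rfl | rfl | h | h
      · exact absurd (Nat.dvd_one.1 hrd) hr.one_lt.ne'
      · exfalso
        rw [hq] at hrd hsd
        have e1 : r = t := (Nat.prime_dvd_prime_iff_eq hr ht).1 (hr.dvd_of_dvd_pow hrd)
        have e2 : s = t := (Nat.prime_dvd_prime_iff_eq hs ht).1 (hs.dvd_of_dvd_pow hsd)
        exact hne (e1.trans e2.symm)
      · exact ⟨hne, hr, hs, hp_sq r (hrd.trans h), hp_sq s (hsd.trans h),
          Or.inr (Or.inr (Or.inl ⟨hrd.trans h, hsd.trans h⟩))⟩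
      · exact ⟨hne, hr, hs, hm_sq r (hrd.trans h), hm_sq s (hsd.trans h),
          Or.inr (Or.inr (Or.inr ⟨hrd.trans h, hsd.trans h⟩))⟩
    · rintro ⟨hne, hr, hs, hr2, hs2, hcase⟩
      have hboth : (r ∣ q + 1 ∧ s ∣ q + 1) ∨ (r ∣ q - 1 ∧ s ∣ q - 1) := by
        rcases hcase with rfl | rfl | h | h
        · rw [hfac] at hs2
          rcases (Nat.Prime.dvd_mul hs).1 hs2 with h | h
          · exact Or.inl ⟨h2p, h⟩
          · exact Or.inr ⟨h2m, h⟩
        · rw [hfac] at hr2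
          rcases (Nat.Prime.dvd_mul hr).1 hr2 with h | h
          · exact Or.inl ⟨h, h2p⟩
          · exact Or.inr ⟨h, h2m⟩
        · exact Or.inl h
        · exact Or.inr h
      rcases hboth with ⟨h, h'⟩ | ⟨h, h'⟩
      · exact ⟨hne, hr, hs, q + 1, h2, mul_dvd_of_primes hr hs hne h h'⟩
      · exact ⟨hne, hr, hs, q - 1, h3, mul_dvd_of_primes hr hs hne h h'⟩

end arith

section degrees

variable {F : Type*} [Field F] [Fintype F] [Fintype (SpecialLinearGroup (Fin 2) F)]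

omit [Fintype F] [Fintype (SpecialLinearGroup (Fin 2) F)] in
/-- Every irreducible character degree of `PSL₂(F)` is one of `SL₂(F)`. -/
theorem charDegrees_psl_subset :
    Cfsg.charDegrees (Matrix.ProjectiveSpecialLinearGroup (Fin 2) F) ⊆
      Cfsg.charDegrees (SpecialLinearGroup (Fin 2) F) := by
  rintro d ⟨χ, rfl⟩
  exact ⟨⟨_, Cfsg.Agent.Lib.Helper39_PSL2.isIrrCharacter_infl χ⟩,
    Cfsg.Agent.Lib.Helper39_PSL2.charDegree_infl χ⟩

/-- The irreducible character degrees of `SL₂(F)` lie in the standard list. -/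
theorem charDegrees_sl2_subset (p : ℕ) [Fact p.Prime] [CharP F p] :
    Cfsg.charDegrees (SpecialLinearGroup (Fin 2) F) ⊆
      {1, Fintype.card F, Fintype.card F + 1, Fintype.card F - 1, (Fintype.card F + 1) / 2,
        (Fintype.card F - 1) / 2} := by
  rintro d ⟨χ, rfl⟩
  simp only [Set.mem_insert_iff, Set.mem_singleton_iff]
  rcases Cfsg.Agent.Lib.Helper39_PSL2.sl2_charDegree_cases p χ.1 χ.2 with
    h | h | h | h | ⟨-, h⟩ | ⟨-, h⟩
  · exact Or.inl h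
  · exact Or.inr (Or.inl h)
  · exact Or.inr (Or.inr (Or.inl h))
  · exact Or.inr (Or.inr (Or.inr (Or.inl h)))
  · exact Or.inr (Or.inr (Or.inr (Or.inr (Or.inl h))))
  · exact Or.inr (Or.inr (Or.inr (Or.inr (Or.inr h))))

/-- The degrees `q`, `q + 1`, `q - 1` occur for `PSL₂(F)`, `q ≥ 7` odd. -/
theorem mem_charDegrees_psl (hodd : Odd (Fintype.card F)) (hq : 7 ≤ Fintype.card F) :
    Fintype.card F ∈ Cfsg.charDegrees (Matrix.ProjectiveSpecialLinearGroup (Fin 2) F) ∧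
    Fintype.card F + 1 ∈ Cfsg.charDegrees (Matrix.ProjectiveSpecialLinearGroup (Fin 2) F) ∧
    Fintype.card F - 1 ∈ Cfsg.charDegrees (Matrix.ProjectiveSpecialLinearGroup (Fin 2) F) := by
  have hq1 : 1 ≤ Fintype.card F := Fintype.card_pos
  obtain ⟨χ₀, h₀⟩ := Cfsg.Agent.Lib.Helper39_PSL2.exists_steinberg_psl (F := F)
  obtain ⟨⟨χ₁, h₁⟩, ⟨χ₂, h₂⟩⟩ :=
    Cfsg.Agent.Lib.Helper39_SL2Central.exists_psl_degrees hodd hq
  refine ⟨⟨χ₀, ?_⟩, ⟨χ₁, ?_⟩, ⟨χ₂, ?_⟩⟩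
  · exact Cfsg.Agent.Lib.Helper78_CentralChar.charDegree_eq_of_one_eq_natCast h₀
  · apply Cfsg.Agent.Lib.Helper78_CentralChar.charDegree_eq_of_one_eq_natCast
    rw [h₁]
    push_cast
    ring
  · apply Cfsg.Agent.Lib.Helper78_CentralChar.charDegree_eq_of_one_eq_natCast
    rw [h₂, Nat.cast_sub hq1, Nat.cast_one]

end degrees

end Cfsg.Agent.Lib.Helper39_DegreeGraphOdd
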