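import Mathlib
import Cfsg.Agent.Lib.Helper83_FrCDefs

set_option autoImplicit false
set_option linter.unusedVariables false
set_option linter.unusedSectionVars false

/-!
S5655, k = 1, case (C): package PK03 (the cycle lemma (D)) of helper83's market.
Paper proof: `pending/helper83/S5655_caseC_proof.md`, lemma (D).
-/

namespace Cfsg.Agent.Lib.Helper39_FrC_PK03

open Module Cfsg.Agent.Lib.Helper94_Herm Cfsg.Agent.Lib.Helper13_PSUSimple
  Cfsg.Agent.Lib.Helper94_FrmDefs Cfsg.Agent.Lib.Helper83_FrCDefs

variable {F V ι : Type*} [Field F] [AddCommGroup V] [Module F V] [Fintype ι] [DecidableEq ι]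
variable {σ : F →+* F} {B : V →ₗ[F] V →ₛₗ[σ] F} {e : ι → V}

/-- PK03a. consequences of goodness; `s = 1 + z + σ z`. -/
theorem good_props (hσ : Invol σ) {z : F} (hz : Good σ z) :
    z ≠ 1 ∧ z ^ 2 ≠ 1 ∧ σ z ≠ z ∧ 1 + z + σ z ≠ 0 ∧ (1 + z + σ z) ^ 2 ≠ 1 := by
  obtain ⟨h1, h3, h4⟩ := hz
  have hz0 : z ≠ 0 := by
    rintro rfl
    rw [zero_mul] at h1
    exact zero_ne_one h1
  have hz2 : z ^ 2 ≠ 1 := by
    intro h
    apply h4
    have : z ^ 4 = (z ^ 2) ^ 2 := by ring
    rw [this, h]; ring
  refine ⟨?_, hz2, ?_, ?_, ?_⟩
  · rintro rfl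
    exact h3 (by ring)
  · intro h
    apply hz2
    rw [h] at h1
    rw [pow_two]; exact h1
  · intro h
    apply h3
    have h5 : z * (1 + z + σ z) = 0 := by rw [h, mul_zero]
    have h6 : z + z ^ 2 + 1 = 0 := by
      have : z * (1 + z + σ z) = z + z ^ 2 + z * σ z := by ring
      rw [this, h1] at h5
      exact h5
    have : z ^ 3 - 1 = (z - 1) * (z + z ^ 2 + 1) := by ring
    have h7 : z ^ 3 - 1 = 0 := by rw [this, h6, mul_zero]
    exact sub_eq_zero.mp h7
  · intro h
    -- z^2 * (s^2 - 1) = (z^2+1) (z+1)^2
    have key : z ^ 2 * ((1 + z + σ z) ^ 2 - 1) = (z ^ 2 + 1) * (z + 1) ^ 2 := by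
      have e1 : z ^ 2 * ((1 + z + σ z) ^ 2 - 1)
          = (z + z ^ 2 + z * σ z) ^ 2 - z ^ 2 := by ring
      rw [e1, h1]; ring
    rw [h, sub_self, mul_zero] at key
    rcases mul_eq_zero.mp key.symm with h8 | h8
    · apply h4
      have h9 : z ^ 2 = -1 := eq_neg_of_add_eq_zero_left h8
      have : z ^ 4 = (z ^ 2) ^ 2 := by ring
      rw [this, h9]; ring
    · apply hz2
      have h9 : z + 1 = 0 := by
        have := pow_eq_zero_iff (two_ne_zero) |>.mp h8
        exact this
      have h10 : z = -1 := eq_neg_of_add_eq_zero_left h9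
      rw [h10]; ring

/-- the cubic `X³ - s X² + s X - 1` kills `d`. -/
theorem cubic_kills (hfr : OFrame B e) {z : F} (h1 : z * σ z = 1) {a b : ι} (hab : a ≠ b)
    (d : V ≃ₗ[F] V) (hda : d (e a) = z • e a) (hdb : d (e b) = σ z • e b)
    (hdr : ∀ r, r ≠ a → r ≠ b → d (e r) = e r) (x : V) :
    d (d (d x)) - (1 + z + σ z) • d (d x) + (1 + z + σ z) • d x - x = 0 := by
  -- the map is linear; check on the frame
  let P : V →ₗ[F] V :=
    (d : V →ₗ[F] V) ∘ₗ (d : V →ₗ[F] V) ∘ₗ (d : V →ₗ[F] V)
      - (1 + z + σ z) • ((d : V →ₗ[F] V) ∘ₗ (d : V →ₗ[F] V))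
      + (1 + z + σ z) • (d : V →ₗ[F] V) - LinearMap.id
  have hP : ∀ y, P y = d (d (d y)) - (1 + z + σ z) • d (d y) + (1 + z + σ z) • d y - y := by
    intro y; rfl
  have heig : ∀ (v : V) (l : F), d v = l • v →
      d (d (d v)) - (1 + z + σ z) • d (d v) + (1 + z + σ z) • d v - v
        = (l * l * l - (1 + z + σ z) * (l * l) + (1 + z + σ z) * l - 1) • v := by
    intro v l hv
    rw [hv, map_smul, hv, map_smul, map_smul, hv]
    simp only [smul_smul, sub_smul, add_smul, one_smul]
    ring_nf
  have hP0 : P = 0 := by
    apply (fr_basis hfr).ext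
    intro r
    rw [fr_basis_apply, hP, LinearMap.zero_apply]
    by_cases hra : r = a
    · subst hra
      rw [heig (e r) z hda]
      have : (z * z * z - (1 + z + σ z) * (z * z) + (1 + z + σ z) * z - 1) = 0 := by
        have e1 : z * z * z - (1 + z + σ z) * (z * z) + (1 + z + σ z) * z - 1
            = z - z * (z * σ z) + z * σ z - 1 := by ring
        rw [e1, h1]; ring
      rw [this, zero_smul]
    · by_cases hrb : r = b
      · subst hrb
        rw [heig (e r) (σ z) hdb]
        have : (σ z * σ z * σ z - (1 + z + σ z) * (σ z * σ z) + (1 + z + σ z) * σ z - 1) = 0 := by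
          have e1 : σ z * σ z * σ z - (1 + z + σ z) * (σ z * σ z) + (1 + z + σ z) * σ z - 1
              = σ z - σ z * (z * σ z) + z * σ z - 1 := by ring
          rw [e1, h1]; ring
        rw [this, zero_smul]
      · rw [heig (e r) 1 (by rw [hdr r hra hrb, one_smul])]
        have : ((1:F) * 1 * 1 - (1 + z + σ z) * (1 * 1) + (1 + z + σ z) * 1 - 1) = 0 := by ring
        rw [this, zero_smul]
  have := hP x
  rw [hP0, LinearMap.zero_apply] at this
  exact this.symm

/-- coordinates of a frame vector -/
theorem coord_frame (hfr : OFrame B e) (i j : ι) : B (e i) (e j) = if i = j then 1 else 0 :=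
  fr_apply_eq hfr i j

/-- PK03b. the cycle lemma (D). -/
theorem cycleLemma (hσ : Invol σ) (hfr : OFrame B e) : CycleLemma σ e := by
  intro z hz a b hab d hda hdb hdr g hmono
  obtain ⟨hz1, hz2, hσz, hs0, hs2⟩ := good_props hσ hz
  have h1 : z * σ z = 1 := hz.1
  set s : F := 1 + z + σ z with hs
  set m : V ≃ₗ[F] V := g⁻¹ * d * g with hm
  obtain ⟨π, hπ⟩ := hmono
  choose w hw0 hw using hπ
  -- the cubic kills m
  have hPm : ∀ x : V, m (m (m x)) - s • m (m x) + s • m x - x = 0 := by
    intro x
    have hk := cubic_kills hfr h1 hab d hda hdb hdr (g x)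
    have e1 : ∀ y : V, m y = g⁻¹ (d (g y)) := by
      intro y; rw [hm]; simp [LinearEquiv.mul_apply]
    have e2 : ∀ y : V, g (g⁻¹ y) = y := by
      intro y
      have : (g * g⁻¹) y = y := by rw [mul_inv_cancel]; rfl
      simpa [LinearEquiv.mul_apply] using this
    have e3 : ∀ y : V, g⁻¹ (g y) = y := by
      intro y
      have : (g⁻¹ * g) y = y := by rw [inv_mul_cancel]; rfl
      simpa [LinearEquiv.mul_apply] using this
    rw [e1 x, e1 (g⁻¹ (d (g x))), e2, e1 (g⁻¹ (d (d (g x)))), e2]
    have := congrArg (fun y => g⁻¹ y) hk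
    simp only [map_sub, map_add, map_smul, map_zero, e3] at this
    exact this
  -- π is the identity
  have hπid : ∀ i, π i = i := by
    intro i
    by_contra hne
    set i1 := π i with hi1
    set i2 := π i1 with hi2
    set i3 := π i2 with hi3
    have hm1 : m (e i) = w i • e i1 := hw i
    have hm2 : m (m (e i)) = (w i * w i1) • e i2 := by
      rw [hm1, map_smul, hw i1, smul_smul]
    have hm3 : m (m (m (e i))) = (w i * w i1 * w i2) • e i3 := by
      rw [hm2, map_smul, hw i2, smul_smul]
    have hP := hPm (e i)
    rw [hm3, hm2, hm1, smul_smul, smul_smul] at hP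
    -- coordinates
    have hco : ∀ j, (w i * w i1 * w i2) * (if i3 = j then 1 else 0)
        - (s * (w i * w i1)) * (if i2 = j then 1 else 0)
        + (s * w i) * (if i1 = j then 1 else 0) - (if i = j then 1 else 0) = 0 := by
      intro j
      have := congrArg (fun y => B y (e j)) hP
      simp only [map_sub, map_add, map_smul, LinearMap.sub_apply, LinearMap.add_apply,
        LinearMap.smul_apply, smul_eq_mul, map_zero, LinearMap.zero_apply,
        coord_frame hfr] at this
      exact this
    have h12 : i1 ≠ i2 := by
      intro h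
      apply hne
      have : π i = π i1 := by rw [← hi1, ← hi2]; exact h
      have := π.injective this
      exact this.symm
    by_cases h2 : i2 = i
    · -- i3 = i1
      have h3 : i3 = i1 := by rw [hi3, h2]
      have hw2 : w i2 = w i := by rw [h2]
      have c1 := hco i1
      have c2 := hco i
      rw [h3, h2] at c1 c2
      simp only [if_true, if_neg (Ne.symm hne), if_neg hne, hw2] at c1 c2
      simp only [mul_one, mul_zero, sub_zero, zero_sub, add_zero, zero_add] at c1 c2
      -- c1 : w i * w i1 * w i + s * w i = 0 ; c2 : -(s * (w i * w i1)) - 1 = 0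
      have hA : w i * w i1 = -s := by
        have : w i * (w i * w i1 + s) = 0 := by
          have e1 : w i * (w i * w i1 + s) = w i * w i1 * w i + s * w i := by ring
          rw [e1]; exact c1
        rcases mul_eq_zero.mp this with h | h
        · exact absurd h (hw0 i)
        · exact eq_neg_of_add_eq_zero_left h
      apply hs2
      rw [hA] at c2
      have : s ^ 2 - 1 = 0 := by
        have e1 : s ^ 2 - 1 = -(s * -s) - 1 := by ring
        rw [e1]; exact c2
      exact sub_eq_zero.mp this
    · by_cases h3 : i3 = i
      · have c1 := hco i1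
        have h31 : i3 ≠ i1 := by rw [h3]; exact Ne.symm hne
        simp only [if_neg h31, if_neg (Ne.symm h12), if_true, if_neg (Ne.symm hne)] at c1
        simp only [mul_one, mul_zero, sub_zero, zero_add] at c1
        rcases mul_eq_zero.mp c1 with h | h
        · exact hs0 h
        · exact hw0 i h
      · have c1 := hco i3
        have h23 : i2 ≠ i3 := by
          intro h
          apply h12
          have : π i1 = π i2 := by rw [← hi2, ← hi3]; exact h
          exact π.injective this
        have h13 : i1 ≠ i3 := by
          intro h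
          apply h2
          have : π i = π i2 := by rw [← hi1, ← hi3]; exact h
          exact (π.injective this).symm
        simp only [if_true, if_neg h23, if_neg h13, if_neg (Ne.symm h3)] at c1
        simp only [mul_one, mul_zero, sub_zero, add_zero] at c1
        rcases mul_eq_zero.mp c1 with h | h
        · rcases mul_eq_zero.mp h with h' | h'
          · exact hw0 i h'
          · exact hw0 i1 h'
        · exact hw0 i2 h
  -- every g e_j is an eigenvector of d
  have e2 : ∀ y : V, g (g⁻¹ y) = y := by
    intro y
    have : (g * g⁻¹) y = y := by rw [mul_inv_cancel]; rfl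
    simpa [LinearEquiv.mul_apply] using this
  have heig : ∀ j, d (g (e j)) = w j • g (e j) := by
    intro j
    have h := hw j
    rw [hπid j, hm] at h
    have h' : g⁻¹ (d (g (e j))) = w j • e j := by
      simpa [LinearEquiv.mul_apply] using h
    have := congrArg (fun y => g y) h'
    simp only [e2, map_smul] at this
    exact this
  -- expand g⁻¹ e_a
  set c : ι → F := fun j => B (g⁻¹ (e a)) (e j) with hc
  have hexp : e a = ∑ j, c j • g (e j) := by
    have h := fr_expand hfr (g⁻¹ (e a))
    have := congrArg (fun y => g y) h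
    simp only [e2, map_sum, map_smul] at this
    exact this
  have hdexp : z • e a = ∑ j, (c j * w j) • g (e j) := by
    rw [← hda]
    conv_lhs => rw [hexp]
    rw [map_sum]
    refine Finset.sum_congr rfl (fun j _ => ?_)
    rw [map_smul, heig, smul_smul]
  have hzero : ∑ j, (c j * (w j - z)) • g (e j) = 0 := by
    have : ∑ j, (c j * (w j - z)) • g (e j)
        = ∑ j, (c j * w j) • g (e j) - z • ∑ j, c j • g (e j) := by
      rw [Finset.smul_sum, ← Finset.sum_sub_distrib]
      refine Finset.sum_congr rfl (fun j _ => ?_)
      rw [smul_smul, ← sub_smul]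
      congr 1; ring
    rw [this, ← hdexp, ← hexp, sub_self]
  have hlin : LinearIndependent F (fun j => g (e j)) := by
    have := (fr_linearIndependent hfr).map' (g : V →ₗ[F] V) (by
      rw [LinearMap.ker_eq_bot]; exact g.injective)
    exact this
  have hall : ∀ j, c j * (w j - z) = 0 := by
    intro j
    exact (Fintype.linearIndependent_iff.mp hlin) _ hzero j
  -- some c j ≠ 0
  have hex : ∃ j, c j ≠ 0 := by
    by_contra hno
    push_neg at hno
    have : e a = 0 := by
      rw [hexp]
      apply Finset.sum_eq_zero
      intro j _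
      rw [hno j, zero_smul]
    exact fr_ne_zero hfr a this
  obtain ⟨j, hj⟩ := hex
  have hwj : w j = z := by
    rcases mul_eq_zero.mp (hall j) with h | h
    · exact absurd h hj
    · exact sub_eq_zero.mp h
  refine ⟨j, B (g (e j)) (e a), ?_⟩
  -- g e_j is in F e_a
  set y := g (e j) with hy
  have hdy : d y = z • y := by rw [hy, heig j, hwj]
  apply fr_ext_coord hfr
  intro r
  rw [map_smul, LinearMap.smul_apply, smul_eq_mul, coord_frame hfr]
  by_cases hra : a = r
  · subst hra
    simp
  · rw [if_neg hra, mul_zero]
    -- coordinate r of d y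
    have hyexp := fr_expand hfr y
    have hdy2 : d y = ∑ i, B y (e i) • d (e i) := by
      conv_lhs => rw [hyexp]
      rw [map_sum]
      refine Finset.sum_congr rfl (fun i _ => ?_)
      rw [map_smul]
    by_cases hrb : r = b
    · subst hrb
      -- coefficient of e_b in d y is σ z * y_b
      have hcoef : B (d y) (e r) = σ z * B y (e r) := by
        rw [hdy2, map_sum, LinearMap.sum_apply]
        rw [Finset.sum_eq_single r]
        · rw [hdb, map_smul, map_smul, LinearMap.smul_apply, LinearMap.smul_apply, smul_eq_mul,
            smul_eq_mul, coord_frame hfr, if_pos rfl]; ring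
        · intro i _ hir
          rw [map_smul, LinearMap.smul_apply, smul_eq_mul]
          by_cases hia : i = a
          · subst hia
            rw [hda, map_smul, LinearMap.smul_apply, smul_eq_mul, coord_frame hfr,
              if_neg hir]; ring
          · rw [hdr i hia hir, coord_frame hfr, if_neg hir]; ring
        · intro h; exact absurd (Finset.mem_univ r) h
      rw [hdy, map_smul, LinearMap.smul_apply, smul_eq_mul] at hcoef
      have : (z - σ z) * B y (e r) = 0 := by
        rw [sub_mul, hcoef, sub_self]
      rcases mul_eq_zero.mp this with h | h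
      · exact absurd (sub_eq_zero.mp h).symm hσz
      · exact h
    · have hra' : r ≠ a := fun h => hra h.symm
      have hcoef : B (d y) (e r) = B y (e r) := by
        rw [hdy2, map_sum, LinearMap.sum_apply]
        rw [Finset.sum_eq_single r]
        · rw [hdr r hra' hrb, map_smul, LinearMap.smul_apply, smul_eq_mul, coord_frame hfr,
            if_pos rfl]; ring
        · intro i _ hir
          rw [map_smul, LinearMap.smul_apply, smul_eq_mul]
          by_cases hia : i = a
          · subst hia
            rw [hda, map_smul, LinearMap.smul_apply, smul_eq_mul, coord_frame hfr,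
              if_neg hir]; ring
          · by_cases hib : i = b
            · subst hib
              rw [hdb, map_smul, LinearMap.smul_apply, smul_eq_mul, coord_frame hfr,
                if_neg hir]; ring
            · rw [hdr i hia hib, coord_frame hfr, if_neg hir]; ring
        · intro h; exact absurd (Finset.mem_univ r) h
      rw [hdy, map_smul, LinearMap.smul_apply, smul_eq_mul] at hcoef
      have : (z - 1) * B y (e r) = 0 := by
        rw [sub_mul, hcoef, one_mul, sub_self]
      rcases mul_eq_zero.mp this with h | h
      · exact absurd (sub_eq_zero.mp h) hz1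
      · exact h

end Cfsg.Agent.Lib.Helper39_FrC_PK03
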