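import Mathlib
import Cfsg.Prelude.Def_Characters
import Cfsg.Agent.Lib.Helper39_GL2Series
import Cfsg.Agent.Lib.Helper39_SL2HalfValues
import Cfsg.Agent.Lib.Helper79_Linear
import Cfsg.Agent.Lib.Helper3_CharColumn
import Cfsg.Agent.S2330
import Cfsg.Agent.S2310

/-!
# The degrees of the irreducible characters of `GL₂(F)` (helper39)
-/

set_option autoImplicit false

namespace Cfsg.Agent.Lib.Helper39_GL2Census

open scoped ComplexConjugate
open Matrix Cfsg.Agent.Lib.Helper39_GL2Char Cfsg.Agent.Lib.Helper39_CharTools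
  Cfsg.Agent.Lib.Helper39_GL2Borel Cfsg.Agent.Lib.Helper39_GL2Series

section centralizer

variable {F : Type*} [Field F]

/-- The centralizer of the transvection in `GL₂(F)` has at most `(q - 1) q` elements. -/
theorem card_centralizer_uMat_le [Fintype F] [DecidableEq F] :
    Nat.card (Subgroup.centralizer ({uMat (1 : F)} : Set (GL (Fin 2) F))) ≤
      (Fintype.card F - 1) * Fintype.card F := by
  classical
  set C := Subgroup.centralizer ({uMat (1 : F)} : Set (GL (Fin 2) F)) with hC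
  have hmem : ∀ g : C, ((g : GL (Fin 2) F) : Matrix (Fin 2) (Fin 2) F) 1 0 = 0 ∧
      ((g : GL (Fin 2) F) : Matrix (Fin 2) (Fin 2) F) 1 1 =
        ((g : GL (Fin 2) F) : Matrix (Fin 2) (Fin 2) F) 0 0 := by
    rintro ⟨g, hg⟩
    rw [hC, Subgroup.mem_centralizer_iff] at hg
    have h := hg _ rfl
    have hM := congrArg (fun x : GL (Fin 2) F => (x : Matrix (Fin 2) (Fin 2) F)) h
    simp only [Matrix.GeneralLinearGroup.coe_mul, uMat_val] at hM
    have h00 := congrFun (congrFun hM 0) 0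
    have h01 := congrFun (congrFun hM 0) 1
    simp [Matrix.mul_apply, Fin.sum_univ_two] at h00 h01
    refine ⟨h00, ?_⟩
    simp only
    linear_combination h01
  have h00ne : ∀ g : C, ((g : GL (Fin 2) F) : Matrix (Fin 2) (Fin 2) F) 0 0 ≠ 0 := by
    intro g h0
    have hdet := (g : GL (Fin 2) F).det_ne_zero
    rw [Matrix.det_fin_two, (hmem g).1, (hmem g).2, h0] at hdet
    simp at hdet
  let f : C → Fˣ × F := fun g =>
    (Units.mk0 _ (h00ne g), ((g : GL (Fin 2) F) : Matrix (Fin 2) (Fin 2) F) 0 1)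
  have hf : Function.Injective f := by
    intro g g' hgg
    simp only [f, Prod.mk.injEq] at hgg
    obtain ⟨hd, h01⟩ := hgg
    have h00 : ((g : GL (Fin 2) F) : Matrix (Fin 2) (Fin 2) F) 0 0 =
        ((g' : GL (Fin 2) F) : Matrix (Fin 2) (Fin 2) F) 0 0 := congrArg Units.val hd
    apply Subtype.ext
    apply Units.ext
    ext i j
    fin_cases i <;> fin_cases j
    · exact h00
    · exact h01
    · exact (hmem g).1.trans (hmem g').1.symm
    · simp only [Fin.mk_one, Fin.isValue]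
      rw [(hmem g).2, (hmem g').2]
      exact h00
  have := Nat.card_le_card_of_injective f hf
  rw [Nat.card_prod, Nat.card_units, Nat.card_eq_fintype_card (α := F)] at this
  exact this

end centralizer

section linear

variable {F : Type*} [Field F]

/-- The embedding `x ↦ diag(x, 1)` of the multiplicative group. -/
noncomputable def dHom : Fˣ →* GL (Fin 2) F where
  toFun x := ((bMat x 1 0 : Borel F) : GL (Fin 2) F)
  map_one' := by
    apply Units.ext
    ext i j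
    rw [bMat_val]
    fin_cases i <;> fin_cases j <;> simp
  map_mul' x y := by
    apply Units.ext
    ext i j
    rw [Matrix.GeneralLinearGroup.coe_mul, bMat_val, bMat_val, bMat_val]
    fin_cases i <;> fin_cases j <;> simp [Matrix.mul_apply, Fin.sum_univ_two]

theorem dHom_val (x : Fˣ) : ((dHom x : GL (Fin 2) F) : Matrix (Fin 2) (Fin 2) F) =
    !![(x : F), 0; 0, 1] := by
  change (((bMat x 1 0 : Borel F) : GL (Fin 2) F) : Matrix (Fin 2) (Fin 2) F) = _
  rw [bMat_val]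
  simp

/-- Every element of `GL₂(F)` is `diag(det g, 1)` times an element of `SL₂(F)`. -/
theorem exists_eq_dHom_mul (g : GL (Fin 2) F) :
    ∃ A : Matrix.SpecialLinearGroup (Fin 2) F,
      g = dHom (Matrix.GeneralLinearGroup.det g) * Matrix.SpecialLinearGroup.toGL A := by
  have hdet : (((dHom (Matrix.GeneralLinearGroup.det g))⁻¹ * g : GL (Fin 2) F) :
      Matrix (Fin 2) (Fin 2) F).det = 1 := by
    have : Matrix.GeneralLinearGroup.det ((dHom (Matrix.GeneralLinearGroup.det g))⁻¹ * g) = 1 := by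
      rw [map_mul, map_inv]
      have h1 : Matrix.GeneralLinearGroup.det (dHom (Matrix.GeneralLinearGroup.det g)) =
          Matrix.GeneralLinearGroup.det g := by
        apply Units.ext
        rw [Matrix.GeneralLinearGroup.val_det_apply, dHom_val, Matrix.det_fin_two]
        simp
      rw [h1, inv_mul_cancel]
    rw [← Matrix.GeneralLinearGroup.val_det_apply, this]
    rfl
  refine ⟨⟨_, hdet⟩, ?_⟩
  have : Matrix.SpecialLinearGroup.toGL (⟨_, hdet⟩ : Matrix.SpecialLinearGroup (Fin 2) F) =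
      (dHom (Matrix.GeneralLinearGroup.det g))⁻¹ * g := by
    apply Units.ext
    rfl
  rw [this, mul_inv_cancel_left]

/-- There are at most `q - 1` irreducible characters of `GL₂(F)` that are trivial at the
transvection. -/
theorem card_trivial_on_u_le [Fintype F] [DecidableEq F] [Fintype (GL (Fin 2) F)] :
    (Finset.univ.filter (fun χ : Cfsg.IrrCharacter (GL (Fin 2) F) =>
      (χ : GL (Fin 2) F → ℂ) (uMat (1 : F)) = (χ : GL (Fin 2) F → ℂ) 1)).card ≤
      Fintype.card F - 1 := by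
  classical
  set S := Finset.univ.filter (fun χ : Cfsg.IrrCharacter (GL (Fin 2) F) =>
      (χ : GL (Fin 2) F → ℂ) (uMat (1 : F)) = (χ : GL (Fin 2) F → ℂ) 1) with hS
  have hdeg : ∀ χ : S, ((χ : Cfsg.IrrCharacter (GL (Fin 2) F)) : GL (Fin 2) F → ℂ) 1 = 1 := by
    rintro ⟨χ, hχ⟩
    rw [hS, Finset.mem_filter] at hχ
    exact degree_one_of_trivial_on_u χ.1 χ.2 hχ.2
  have hu : ∀ χ : S, ((χ : Cfsg.IrrCharacter (GL (Fin 2) F)) : GL (Fin 2) F → ℂ)
      (uMat (1 : F)) = 1 := by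
    rintro ⟨χ, hχ⟩
    have h1 := hdeg ⟨χ, hχ⟩
    rw [hS, Finset.mem_filter] at hχ
    rw [hχ.2]
    exact h1
  let lin : S → {χ : Cfsg.IrrCharacter (GL (Fin 2) F) // (χ : GL (Fin 2) F → ℂ) 1 = 1} :=
    fun χ => ⟨χ.1, hdeg χ⟩
  let Φ : S → (Fˣ →* ℂˣ) := fun χ =>
    (Cfsg.Agent.Lib.Helper79_Linear.homOfLinear (lin χ)).comp dHom
  have hSL : ∀ (χ : S) (A : Matrix.SpecialLinearGroup (Fin 2) F),
      Cfsg.Agent.Lib.Helper79_Linear.homOfLinear (lin χ) (Matrix.SpecialLinearGroup.toGL A) = 1 := by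
    intro χ A
    have hK : uMat (1 : F) ∈ (Cfsg.Agent.Lib.Helper79_Linear.homOfLinear (lin χ)).ker := by
      rw [MonoidHom.mem_ker]
      apply Units.ext
      rw [Cfsg.Agent.Lib.Helper79_Linear.homOfLinear_apply]
      exact hu χ
    exact toGL_mem_of_uMat_mem _ hK A
  have hΦ : Function.Injective Φ := by
    intro χ χ' h
    apply Subtype.ext
    apply Subtype.ext
    funext g
    obtain ⟨A, hA⟩ := exists_eq_dHom_mul g
    have h1 : Cfsg.Agent.Lib.Helper79_Linear.homOfLinear (lin χ) g =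
        Cfsg.Agent.Lib.Helper79_Linear.homOfLinear (lin χ') g := by
      rw [hA, map_mul, map_mul, hSL χ A, hSL χ' A]
      have := DFunLike.congr_fun h (Matrix.GeneralLinearGroup.det g)
      simp only [Φ, MonoidHom.comp_apply] at this
      rw [this]
    have h2 := congrArg (fun u : ℂˣ => (u : ℂ)) h1
    simpa [lin] using h2
  have hcard := Nat.card_le_card_of_injective Φ hΦ
  have hcardhom : Nat.card (Fˣ →* ℂˣ) = Fintype.card F - 1 := by
    haveI : NeZero (Monoid.exponent Fˣ) := ⟨Monoid.exponent_ne_zero_of_finite⟩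
    rw [CommGroup.card_monoidHom_of_hasEnoughRootsOfUnity Fˣ ℂ, Nat.card_units,
      Nat.card_eq_fintype_card]
  rw [hcardhom, Nat.card_eq_fintype_card, Fintype.card_coe] at hcard
  exact hcard

end linear

section core

variable {F : Type*} [Field F] [Fintype F] [DecidableEq F] [Fintype (GL (Fin 2) F)]

theorem card_GL2_real : (Nat.card (GL (Fin 2) F) : ℝ) =
    ((Fintype.card F : ℝ) + 1) * (((Fintype.card F : ℝ) - 1) * (((Fintype.card F : ℝ) - 1) *
      (Fintype.card F : ℝ))) := by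
  have h := card_GL2_eq (F := F)
  rw [card_borel] at h
  have hq1 : 1 ≤ Fintype.card F := Fintype.card_pos
  have h' : ((Nat.card (GL (Fin 2) F) : ℝ) : ℂ) =
      ((((Fintype.card F : ℝ) + 1) * (((Fintype.card F : ℝ) - 1) * (((Fintype.card F : ℝ) - 1) *
      (Fintype.card F : ℝ))) : ℝ) : ℂ) := by
    push_cast
    rw [h]
    push_cast [Nat.cast_sub hq1]
    ring
  exact_mod_cast h'

theorem card_irr_GL2 : Fintype.card (Cfsg.IrrCharacter (GL (Fin 2) F)) =
    Fintype.card F ^ 2 - 1 := by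
  rw [← Nat.card_eq_fintype_card,
    Cfsg.Agent.Lib.Helper3_CharColumn.card_irr_eq_card_conjClasses,
    Cfsg.Agent.S2330.result]

/-- The restriction of every irreducible character of `GL₂(F)` to the unipotent subgroup. -/
theorem gl2_core :
    ∃ a b : Cfsg.IrrCharacter (GL (Fin 2) F) → ℕ,
      (∀ χ : Cfsg.IrrCharacter (GL (Fin 2) F), (χ : GL (Fin 2) F → ℂ) 1 =
        (a χ : ℂ) + ((Fintype.card F : ℂ) - 1) * (b χ : ℂ)) ∧
      (∀ χ : Cfsg.IrrCharacter (GL (Fin 2) F), (χ : GL (Fin 2) F → ℂ) (uMat (1 : F)) =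
        (a χ : ℂ) - (b χ : ℂ)) ∧
      (∀ χ : Cfsg.IrrCharacter (GL (Fin 2) F), ∑ x : F, (χ : GL (Fin 2) F → ℂ) (uMat x) =
        (Fintype.card F : ℂ) * (a χ : ℂ)) ∧
      (∀ χ : Cfsg.IrrCharacter (GL (Fin 2) F), b χ ≤ 1) ∧
      (Finset.univ.filter (fun χ => b χ = 0)).card = Fintype.card F - 1 := by
  classical
  have hdata := fun χ : Cfsg.IrrCharacter (GL (Fin 2) F) =>
    sum_unipotent χ.1 (Cfsg.Agent.Lib.Helper3_CharBridge.isCharacter_of_isIrrCharacter χ.2)
  choose a b h1 h2 h3 using hdata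
  refine ⟨a, b, h1, h2, h3, ?_⟩
  have hq1 : 1 ≤ Fintype.card F := Fintype.card_pos
  have hq0R : (0 : ℝ) < (Fintype.card F : ℝ) := by exact_mod_cast hq1
  -- the column relation
  have hn1u : ¬ IsConj (1 : GL (Fin 2) F) (uMat (1 : F)) := by
    rw [isConj_one_right]
    intro h
    have := congrArg (fun g : GL (Fin 2) F => (g : Matrix (Fin 2) (Fin 2) F) 0 1) h
    simp [uMat_val] at this
  have hS := Cfsg.Agent.Lib.Helper39_SL2HalfValues.sum_norm_add_sign (1 : GL (Fin 2) F)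
    (uMat (1 : F)) hn1u (-1) (by norm_num)
  have hT : ∀ χ : Cfsg.IrrCharacter (GL (Fin 2) F),
      ‖(χ : GL (Fin 2) F → ℂ) 1 + ((-1 : ℝ) : ℂ) * (χ : GL (Fin 2) F → ℂ) (uMat (1 : F))‖ ^ 2 =
      (Fintype.card F : ℝ) ^ 2 * ((b χ : ℝ)) ^ 2 := by
    intro χ
    have : (χ : GL (Fin 2) F → ℂ) 1 + ((-1 : ℝ) : ℂ) * (χ : GL (Fin 2) F → ℂ) (uMat (1 : F)) =
        (((Fintype.card F : ℝ) * (b χ : ℝ) : ℝ) : ℂ) := by
      rw [h1 χ, h2 χ]
      push_cast
      ring
    rw [this, Complex.norm_real, Real.norm_eq_abs, sq_abs]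
    ring
  simp_rw [hT] at hS
  have hC1 : (Nat.card (Subgroup.centralizer ({1} : Set (GL (Fin 2) F))) : ℝ) =
      ((Fintype.card F : ℝ) + 1) * (((Fintype.card F : ℝ) - 1) * (((Fintype.card F : ℝ) - 1) *
      (Fintype.card F : ℝ))) := by
    have h : Subgroup.centralizer ({1} : Set (GL (Fin 2) F)) = ⊤ := by
      ext x
      simp [Subgroup.mem_centralizer_singleton_iff]
    rw [h, Subgroup.card_top, card_GL2_real]
  have hCu : (Nat.card (Subgroup.centralizer ({uMat (1 : F)} : Set (GL (Fin 2) F))) : ℝ) ≤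
      ((Fintype.card F : ℝ) - 1) * (Fintype.card F : ℝ) := by
    have := card_centralizer_uMat_le (F := F)
    have h' : ((Nat.card (Subgroup.centralizer ({uMat (1 : F)} : Set (GL (Fin 2) F))) : ℕ) : ℝ) ≤
        (((Fintype.card F - 1) * Fintype.card F : ℕ) : ℝ) := by exact_mod_cast this
    rw [Nat.cast_mul, Nat.cast_sub hq1, Nat.cast_one] at h'
    exact h'
  have hB : ∑ χ : Cfsg.IrrCharacter (GL (Fin 2) F), ((b χ : ℝ)) ^ 2 ≤
      (Fintype.card F : ℝ) * ((Fintype.card F : ℝ) - 1) := by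
    have hq2 : (0 : ℝ) < (Fintype.card F : ℝ) ^ 2 := by positivity
    have h4 : (Fintype.card F : ℝ) ^ 2 *
        ∑ χ : Cfsg.IrrCharacter (GL (Fin 2) F), ((b χ : ℝ)) ^ 2 ≤ (Fintype.card F : ℝ) ^ 2 *
          ((Fintype.card F : ℝ) * ((Fintype.card F : ℝ) - 1)) := by
      rw [Finset.mul_sum, hS, hC1]
      nlinarith [hCu]
    exact le_of_mul_le_mul_left h4 hq2
  have hBnat : ∑ χ : Cfsg.IrrCharacter (GL (Fin 2) F), (b χ) ^ 2 ≤
      Fintype.card F * (Fintype.card F - 1) := by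
    have h5 : ((∑ χ : Cfsg.IrrCharacter (GL (Fin 2) F), (b χ) ^ 2 : ℕ) : ℝ) ≤
        ((Fintype.card F * (Fintype.card F - 1) : ℕ) : ℝ) := by
      push_cast [Nat.cast_sub hq1]
      exact hB
    exact_mod_cast h5
  -- the count
  set S0 := Finset.univ.filter (fun χ : Cfsg.IrrCharacter (GL (Fin 2) F) => b χ = 0) with hS0
  have hS0le : S0.card ≤ Fintype.card F - 1 := by
    refine le_trans (Finset.card_le_card ?_) (card_trivial_on_u_le (F := F))
    intro χ hχ
    rw [hS0, Finset.mem_filter] at hχ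
    rw [Finset.mem_filter]
    refine ⟨Finset.mem_univ _, ?_⟩
    rw [h1 χ, h2 χ, hχ.2]
    simp
  have hind : ∑ χ : Cfsg.IrrCharacter (GL (Fin 2) F), (if b χ = 0 then 0 else 1) =
      Fintype.card F ^ 2 - 1 - S0.card := by
    have h6 : ∑ χ : Cfsg.IrrCharacter (GL (Fin 2) F), (if b χ = 0 then 0 else 1) =
        (Finset.univ.filter (fun χ : Cfsg.IrrCharacter (GL (Fin 2) F) => ¬ b χ = 0)).card := by
      rw [Finset.card_filter]
      refine Finset.sum_congr rfl (fun χ _ => ?_)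
      by_cases h : b χ = 0 <;> simp [h]
    rw [h6, ← card_irr_GL2 (F := F), ← Finset.card_univ, hS0,
      ← Finset.card_filter_add_card_filter_not (s := Finset.univ)
        (fun χ : Cfsg.IrrCharacter (GL (Fin 2) F) => b χ = 0)]
    omega
  have hq2 : Fintype.card F ^ 2 = Fintype.card F * (Fintype.card F - 1) + Fintype.card F := by
    obtain ⟨k, hk⟩ : ∃ k, Fintype.card F = k + 1 := ⟨Fintype.card F - 1, by omega⟩
    rw [hk]
    simp only [Nat.add_sub_cancel]
    ring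
  have hle : ∀ χ : Cfsg.IrrCharacter (GL (Fin 2) F), (if b χ = 0 then 0 else 1) ≤ (b χ) ^ 2 := by
    intro χ
    by_cases h : b χ = 0
    · simp [h]
    · rw [if_neg h]
      exact Nat.one_le_pow _ _ (Nat.pos_of_ne_zero h)
  constructor
  · intro χ₀
    by_contra hb
    rw [not_le] at hb
    have hlt : ∑ χ : Cfsg.IrrCharacter (GL (Fin 2) F), (if b χ = 0 then 0 else 1) <
        ∑ χ : Cfsg.IrrCharacter (GL (Fin 2) F), (b χ) ^ 2 := by
      apply Finset.sum_lt_sum (fun χ _ => hle χ)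
      refine ⟨χ₀, Finset.mem_univ _, ?_⟩
      rw [if_neg (by omega)]
      nlinarith
    rw [hind] at hlt
    omega
  · have hge : ∑ χ : Cfsg.IrrCharacter (GL (Fin 2) F), (if b χ = 0 then 0 else 1) ≤
        ∑ χ : Cfsg.IrrCharacter (GL (Fin 2) F), (b χ) ^ 2 :=
      Finset.sum_le_sum (fun χ _ => hle χ)
    rw [hind] at hge
    omega

end core

section types

variable {F : Type*} [Field F] [Fintype F] [DecidableEq F] [Fintype (GL (Fin 2) F)]

/-- The four types of irreducible characters of `GL₂(F)`. -/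
theorem gl2_types :
    ∃ a b : Cfsg.IrrCharacter (GL (Fin 2) F) → ℕ,
      (∀ χ : Cfsg.IrrCharacter (GL (Fin 2) F), (χ : GL (Fin 2) F → ℂ) 1 =
        ((a χ + (Fintype.card F - 1) * b χ : ℕ) : ℂ)) ∧
      (∀ χ : Cfsg.IrrCharacter (GL (Fin 2) F), (χ : GL (Fin 2) F → ℂ) (uMat (1 : F)) =
        (a χ : ℂ) - (b χ : ℂ)) ∧
      (∀ χ : Cfsg.IrrCharacter (GL (Fin 2) F),
        (a χ = 1 ∧ b χ = 0) ∨ (a χ = 0 ∧ b χ = 1) ∨ (a χ = 1 ∧ b χ = 1) ∨ (a χ = 2 ∧ b χ = 1)) ∧
      (Finset.univ.filter (fun χ => b χ = 0)).card = Fintype.card F - 1 := by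
  classical
  obtain ⟨a, b, h1, h2, h3, hb, hcount⟩ := gl2_core (F := F)
  have hq1 : 1 ≤ Fintype.card F := Fintype.card_pos
  have hq0 : (Fintype.card F : ℂ) ≠ 0 := by exact_mod_cast (Fintype.card_pos (α := F)).ne'
  refine ⟨a, b, ?_, h2, ?_, hcount⟩
  · intro χ
    rw [h1 χ]
    push_cast [Nat.cast_sub hq1]
    ring
  · intro χ
    have hb' := hb χ
    rcases Nat.lt_or_ge (b χ) 1 with hb0 | hb1
    · have hb0' : b χ = 0 := by omega
      left
      refine ⟨?_, hb0'⟩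
      have hu : (χ : GL (Fin 2) F → ℂ) (uMat (1 : F)) = (χ : GL (Fin 2) F → ℂ) 1 := by
        rw [h1 χ, h2 χ, hb0']
        simp
      have hd := degree_one_of_trivial_on_u χ.1 χ.2 hu
      have h1' := h1 χ
      rw [hb0'] at h1'
      have : (a χ : ℂ) = 1 := by
        rw [← hd]
        change _ = (χ : GL (Fin 2) F → ℂ) 1
        rw [h1']
        simp
      exact_mod_cast this
    · have hb1' : b χ = 1 := by omega
      right
      by_cases ha : a χ = 0
      · exact Or.inl ⟨ha, hb1'⟩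
      · right
        have hsum : ∑ x : F, χ.1 (uMat x) ≠ 0 := by
          have := h3 χ
          change ∑ x : F, χ.1 (uMat x) = _ at this
          rw [this]
          exact mul_ne_zero hq0 (by exact_mod_cast ha)
        obtain ⟨μ, hμ, hμ1, hμu, hres, hind⟩ := exists_series χ.1 χ.2 hsum
        obtain ⟨n, hn⟩ := Cfsg.Agent.Lib.Helper78_CentralChar.isCharacter_one_eq_natCast hind
        rw [Pi.sub_apply, indFun_one, hμ1] at hn
        have h1' : χ.1 1 = (a χ : ℂ) + ((Fintype.card F : ℂ) - 1) * (b χ : ℂ) := h1 χ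
        rw [h1', hb1'] at hn
        have hn' : ((a χ + n : ℕ) : ℂ) = ((2 : ℕ) : ℂ) := by
          push_cast
          linear_combination -hn
        have hn'' : a χ + n = 2 := by exact_mod_cast hn'
        have ha12 : a χ = 1 ∨ a χ = 2 := by omega
        rcases ha12 with h | h
        · exact Or.inl ⟨h, hb1'⟩
        · exact Or.inr ⟨h, hb1'⟩

/-- The degrees of the irreducible characters of `GL₂(F)`. -/
theorem degree_gl2 (χ : GL (Fin 2) F → ℂ) (hχ : Cfsg.IsIrrCharacter (GL (Fin 2) F) χ) :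
    χ 1 = 1 ∨ χ 1 = (Fintype.card F : ℂ) - 1 ∨ χ 1 = (Fintype.card F : ℂ) ∨
      χ 1 = (Fintype.card F : ℂ) + 1 := by
  obtain ⟨a, b, h1, -, hcases, -⟩ := gl2_types (F := F)
  have hq1 : 1 ≤ Fintype.card F := Fintype.card_pos
  have h := h1 ⟨χ, hχ⟩
  change χ 1 = _ at h
  rw [h]
  rcases hcases ⟨χ, hχ⟩ with ⟨ha, hb⟩ | ⟨ha, hb⟩ | ⟨ha, hb⟩ | ⟨ha, hb⟩ <;> rw [ha, hb]
  · left
    simp
  · right; left
    push_cast [Nat.cast_sub hq1]
    ring
  · right; right; left
    push_cast [Nat.cast_sub hq1]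
    ring
  · right; right; right
    push_cast [Nat.cast_sub hq1]
    ring

end types

section arith

/-- Summing a function of a four-valued index. -/
theorem sum_by_four {ι : Type*} [Fintype ι] (d : ι → ℕ) (Q : ℕ) (hQ : 2 ≤ Q)
    (hd : ∀ i, d i = 1 ∨ d i = Q ∨ d i = Q + 1 ∨ d i = Q + 2) (g : ℕ → ℤ) :
    ∑ i, g (d i) =
      ((Finset.univ.filter (fun i => d i = 1)).card : ℤ) * g 1 +
      ((Finset.univ.filter (fun i => d i = Q)).card : ℤ) * g Q +
      ((Finset.univ.filter (fun i => d i = Q + 1)).card : ℤ) * g (Q + 1) +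
      ((Finset.univ.filter (fun i => d i = Q + 2)).card : ℤ) * g (Q + 2) := by
  classical
  simp only [Finset.card_filter]
  push_cast
  rw [Finset.sum_mul, Finset.sum_mul, Finset.sum_mul, Finset.sum_mul, ← Finset.sum_add_distrib,
    ← Finset.sum_add_distrib, ← Finset.sum_add_distrib]
  refine Finset.sum_congr rfl (fun i _ => ?_)
  have n1 : (1 : ℕ) ≠ Q := by omega
  have n2 : (1 : ℕ) ≠ Q + 1 := by omega
  have n3 : (1 : ℕ) ≠ Q + 2 := by omega
  have n4 : Q ≠ 1 := by omega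
  have n5 : Q ≠ Q + 1 := by omega
  have n6 : Q ≠ Q + 2 := by omega
  have n7 : Q + 1 ≠ 1 := by omega
  have n8 : Q + 1 ≠ Q := by omega
  have n9 : Q + 1 ≠ Q + 2 := by omega
  have n10 : Q + 2 ≠ 1 := by omega
  have n11 : Q + 2 ≠ Q := by omega
  have n12 : Q + 2 ≠ Q + 1 := by omega
  rcases hd i with h | h | h | h <;> rw [h]
  · rw [if_pos rfl, if_neg n1, if_neg n2, if_neg n3]
    simp
  · rw [if_neg n4, if_pos rfl, if_neg n5, if_neg n6]
    simp
  · rw [if_neg n7, if_neg n8, if_pos rfl, if_neg n9]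
    simp
  · rw [if_neg n10, if_neg n11, if_neg n12, if_pos rfl]
    simp

/-- Solving the counting equations for `GL₂(q)`, `Q = q - 1`. -/
theorem solve_counts (Q N1 Nm Nq Np : ℕ) (hQ : 2 ≤ Q) (h0 : N1 = Q)
    (h4 : (N1 : ℤ) + Nm + Nq + Np = ((Q : ℤ) + 1) ^ 2 - 1)
    (h3 : (N1 : ℤ) + (Q : ℤ) ^ 2 * Nm + ((Q : ℤ) + 1) ^ 2 * Nq + ((Q : ℤ) + 2) ^ 2 * Np =
      ((Q : ℤ) + 2) * (Q * (Q * (Q + 1))))
    (h1 : (N1 : ℤ) - (Q : ℤ) * Nm + ((Q : ℤ) + 2) * Np = 0) :
    2 * Np = Q * (Q - 1) ∧ 2 * Nm = (Q + 1) * Q ∧ Nq = Q := by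
  have h0' : (N1 : ℤ) = Q := by exact_mod_cast h0
  have hQ1 : ((Q : ℤ) + 1) ≠ 0 := by positivity
  have hQ0 : (Q : ℤ) ≠ 0 := by
    have : (0 : ℤ) < Q := by exact_mod_cast (by omega : 0 < Q)
    exact this.ne'
  have e1 : (2 * ((Q : ℤ) + 1)) * (2 * (Np : ℤ) - Q * (Q - 1)) = 0 := by
    linear_combination (-2 * (Q : ℤ)) * h3 + (2 * (Q : ℤ) * ((Q : ℤ) + 1) ^ 2) * h4 +
      (2 * (2 * (Q : ℤ) + 1)) * h1 - (2 * ((Q : ℤ) ^ 3 + 2 * (Q : ℤ) ^ 2 + 2 * Q + 1)) * h0'
  have e2 : 2 * (Np : ℤ) = Q * (Q - 1) := by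
    rcases mul_eq_zero.1 e1 with h | h
    · exfalso
      rcases mul_eq_zero.1 h with h' | h'
      · norm_num at h'
      · exact hQ1 h'
    · linarith
  have e3 : (Q : ℤ) * (2 * (Nm : ℤ) - (Q + 1) * Q) = 0 := by
    linear_combination (-2 : ℤ) * h1 + 2 * h0' + ((Q : ℤ) + 2) * e2
  have e4 : 2 * (Nm : ℤ) = (Q + 1) * Q := by
    rcases mul_eq_zero.1 e3 with h | h
    · exact absurd h hQ0
    · linarith
  have e5 : (Nq : ℤ) = Q := by
    have : 2 * (Nq : ℤ) = 2 * Q := by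
      linear_combination 2 * h4 - 2 * h0' - e4 - e2
    linarith
  refine ⟨?_, ?_, ?_⟩
  · have : ((2 * Np : ℕ) : ℤ) = ((Q * (Q - 1) : ℕ) : ℤ) := by
      push_cast [Nat.cast_sub (by omega : 1 ≤ Q)]
      exact e2
    exact_mod_cast this
  · have : ((2 * Nm : ℕ) : ℤ) = (((Q + 1) * Q : ℕ) : ℤ) := by
      push_cast
      exact e4
    exact_mod_cast this
  · exact_mod_cast e5

end arith

section counts

variable {F : Type*} [Field F] [Fintype F] [DecidableEq F] [Fintype (GL (Fin 2) F)]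

/-- The number of irreducible characters of `GL₂(F)` of each degree, `q ≥ 3`. -/
theorem counts_gl2 (hq : 3 ≤ Fintype.card F) :
    Nat.card {χ : Cfsg.IrrCharacter (GL (Fin 2) F) // (χ : GL (Fin 2) F → ℂ) 1 = 1} =
      Fintype.card F - 1 ∧
    Nat.card {χ : Cfsg.IrrCharacter (GL (Fin 2) F) //
      (χ : GL (Fin 2) F → ℂ) 1 = (Fintype.card F : ℂ)} = Fintype.card F - 1 ∧
    Nat.card {χ : Cfsg.IrrCharacter (GL (Fin 2) F) //
      (χ : GL (Fin 2) F → ℂ) 1 = (Fintype.card F : ℂ) + 1} =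
        (Fintype.card F - 1) * (Fintype.card F - 2) / 2 ∧
    Nat.card {χ : Cfsg.IrrCharacter (GL (Fin 2) F) //
      (χ : GL (Fin 2) F → ℂ) 1 = (Fintype.card F : ℂ) - 1} =
        Fintype.card F * (Fintype.card F - 1) / 2 := by
  classical
  obtain ⟨a, b, h1, h2, hcases, hcount⟩ := gl2_types (F := F)
  obtain ⟨Q, hQ⟩ : ∃ Q : ℕ, Fintype.card F = Q + 1 := ⟨Fintype.card F - 1, by omega⟩
  have hQ2 : 2 ≤ Q := by omega
  have eQ : Fintype.card F - 1 = Q := by omega
  have eQ2 : Fintype.card F - 2 = Q - 1 := by omega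
  rw [eQ] at h1 hcount
  rw [eQ, eQ2]
  set d : Cfsg.IrrCharacter (GL (Fin 2) F) → ℕ := fun χ => a χ + Q * b χ with hd
  have hdχ : ∀ χ : Cfsg.IrrCharacter (GL (Fin 2) F), (χ : GL (Fin 2) F → ℂ) 1 = (d χ : ℂ) := h1
  have hdcases : ∀ χ : Cfsg.IrrCharacter (GL (Fin 2) F),
      (d χ = 1 ∧ a χ = 1 ∧ b χ = 0) ∨ (d χ = Q ∧ a χ = 0 ∧ b χ = 1) ∨
      (d χ = Q + 1 ∧ a χ = 1 ∧ b χ = 1) ∨ (d χ = Q + 2 ∧ a χ = 2 ∧ b χ = 1) := by
    intro χ
    simp only [hd]
    rcases hcases χ with ⟨ha, hb⟩ | ⟨ha, hb⟩ | ⟨ha, hb⟩ | ⟨ha, hb⟩ <;> rw [ha, hb]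
    · left; refine ⟨by omega, rfl, rfl⟩
    · right; left; refine ⟨by omega, rfl, rfl⟩
    · right; right; left; refine ⟨by omega, rfl, rfl⟩
    · right; right; right; refine ⟨by omega, rfl, rfl⟩
  have hv : ∀ χ : Cfsg.IrrCharacter (GL (Fin 2) F),
      d χ = 1 ∨ d χ = Q ∨ d χ = Q + 1 ∨ d χ = Q + 2 := by
    intro χ
    rcases hdcases χ with ⟨h, -⟩ | ⟨h, -⟩ | ⟨h, -⟩ | ⟨h, -⟩
    · exact Or.inl h
    · exact Or.inr (Or.inl h)
    · exact Or.inr (Or.inr (Or.inl h))
    · exact Or.inr (Or.inr (Or.inr h))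
  have hiff : ∀ (χ : Cfsg.IrrCharacter (GL (Fin 2) F)) (n : ℕ),
      (χ : GL (Fin 2) F → ℂ) 1 = (n : ℂ) ↔ d χ = n := by
    intro χ n
    rw [hdχ χ]
    exact Nat.cast_inj
  have hcountd : ∀ (c : ℂ) (n : ℕ), c = (n : ℂ) →
      Nat.card {χ : Cfsg.IrrCharacter (GL (Fin 2) F) // (χ : GL (Fin 2) F → ℂ) 1 = c} =
      (Finset.univ.filter (fun χ : Cfsg.IrrCharacter (GL (Fin 2) F) => d χ = n)).card := by
    intro c n hc
    rw [Nat.card_eq_fintype_card, ← Fintype.card_subtype]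
    apply Fintype.card_congr
    apply Equiv.subtypeEquivRight
    intro χ
    rw [hc]
    exact hiff χ n
  rw [hcountd 1 1 (by simp), hcountd (Fintype.card F : ℂ) (Q + 1) (by rw [hQ]),
    hcountd ((Fintype.card F : ℂ) + 1) (Q + 2) (by rw [hQ]; push_cast; ring),
    hcountd ((Fintype.card F : ℂ) - 1) Q (by rw [hQ]; push_cast; ring)]
  set N1 := (Finset.univ.filter (fun χ : Cfsg.IrrCharacter (GL (Fin 2) F) => d χ = 1)).card
    with hN1
  set Nm := (Finset.univ.filter (fun χ : Cfsg.IrrCharacter (GL (Fin 2) F) => d χ = Q)).card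
    with hNm
  set Nq := (Finset.univ.filter (fun χ : Cfsg.IrrCharacter (GL (Fin 2) F) => d χ = Q + 1)).card
    with hNq
  set Np := (Finset.univ.filter (fun χ : Cfsg.IrrCharacter (GL (Fin 2) F) => d χ = Q + 2)).card
    with hNp
  -- the linear characters
  have h0 : N1 = Q := by
    rw [hN1, ← hcount]
    congr 1
    ext χ
    simp only [Finset.mem_filter, Finset.mem_univ, true_and]
    rcases hdcases χ with ⟨h, -, hb⟩ | ⟨h, -, hb⟩ | ⟨h, -, hb⟩ | ⟨h, -, hb⟩ <;>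
      constructor <;> intro h' <;> omega
  -- the number of characters
  have h4 : (N1 : ℤ) + Nm + Nq + Np = ((Q : ℤ) + 1) ^ 2 - 1 := by
    have := sum_by_four d Q hQ2 hv (fun _ => (1 : ℤ))
    simp only [mul_one] at this
    rw [← this, Finset.sum_const, Finset.card_univ, card_irr_GL2, hQ]
    have h1q : 1 ≤ (Q + 1) ^ 2 := Nat.one_le_pow _ _ (by omega)
    rw [nsmul_eq_mul, mul_one]
    push_cast [Nat.cast_sub h1q]
    ring
  -- the sum of squares
  have h3 : (N1 : ℤ) + (Q : ℤ) ^ 2 * Nm + ((Q : ℤ) + 1) ^ 2 * Nq + ((Q : ℤ) + 2) ^ 2 * Np =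
      ((Q : ℤ) + 2) * (Q * (Q * (Q + 1))) := by
    have := sum_by_four d Q hQ2 hv (fun k => (k : ℤ) ^ 2)
    have hsq := Cfsg.Agent.Lib.Helper3_CharColumn.sum_sq_irr_one (G := GL (Fin 2) F)
    have hG : (Nat.card (GL (Fin 2) F) : ℂ) =
        (((Q : ℤ) + 2) * (Q * (Q * (Q + 1))) : ℤ) := by
      have h5 := card_GL2_real (F := F)
      rw [hQ] at h5
      have h6 : ((Nat.card (GL (Fin 2) F) : ℝ) : ℂ) =
          (((((Q + 1 : ℕ) : ℝ) + 1) * ((((Q + 1 : ℕ) : ℝ) - 1) * ((((Q + 1 : ℕ) : ℝ) - 1) *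
            ((Q + 1 : ℕ) : ℝ))) : ℝ) : ℂ) := by rw [h5]
      push_cast at h6
      push_cast
      rw [h6]
      ring
    have hsum : ((∑ χ : Cfsg.IrrCharacter (GL (Fin 2) F), ((d χ : ℤ)) ^ 2 : ℤ) : ℂ) =
        (((Q : ℤ) + 2) * (Q * (Q * (Q + 1))) : ℤ) := by
      rw [← hG, ← hsq]
      push_cast
      refine Finset.sum_congr rfl (fun χ _ => ?_)
      rw [hdχ χ]
    have hsum' : ∑ χ : Cfsg.IrrCharacter (GL (Fin 2) F), ((d χ : ℤ)) ^ 2 =
        ((Q : ℤ) + 2) * (Q * (Q * (Q + 1))) := by exact_mod_cast hsum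
    rw [← hsum', this]
    push_cast
    ring
  -- column orthogonality
  have hE1 : (N1 : ℤ) - (Q : ℤ) * Nm + ((Q : ℤ) + 2) * Np = 0 := by
    have hn1u : ¬ IsConj (1 : GL (Fin 2) F) (uMat (1 : F)) := by
      rw [isConj_one_right]
      intro h
      have := congrArg (fun g : GL (Fin 2) F => (g : Matrix (Fin 2) (Fin 2) F) 0 1) h
      simp [uMat_val] at this
    have hcol := Cfsg.Agent.Lib.Helper3_CharColumn.column_orthogonality (1 : GL (Fin 2) F)
      (uMat (1 : F))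
    rw [if_neg hn1u] at hcol
    set g : ℕ → ℤ := fun k => if k = 1 then 1 else if k = Q then -(Q : ℤ) else
      if k = Q + 1 then 0 else (Q : ℤ) + 2 with hg
    have hg1 : g 1 = 1 := by
      rw [hg]
      beta_reduce
      rw [if_pos rfl]
    have hgQ : g Q = -(Q : ℤ) := by
      rw [hg]
      beta_reduce
      rw [if_neg (by omega), if_pos rfl]
    have hgQ1 : g (Q + 1) = 0 := by
      rw [hg]
      beta_reduce
      rw [if_neg (by omega), if_neg (by omega), if_pos rfl]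
    have hgQ2 : g (Q + 2) = (Q : ℤ) + 2 := by
      rw [hg]
      beta_reduce
      rw [if_neg (by omega), if_neg (by omega), if_neg (by omega)]
    have hpt : ∀ χ : Cfsg.IrrCharacter (GL (Fin 2) F),
        (χ : GL (Fin 2) F → ℂ) 1 * (starRingEnd ℂ) ((χ : GL (Fin 2) F → ℂ) (uMat (1 : F))) =
        ((g (d χ) : ℤ) : ℂ) := by
      intro χ
      rw [hdχ χ, h2 χ, map_sub, Complex.conj_natCast, Complex.conj_natCast]
      rcases hdcases χ with ⟨h, ha, hb⟩ | ⟨h, ha, hb⟩ | ⟨h, ha, hb⟩ | ⟨h, ha, hb⟩ <;>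
        rw [h, ha, hb]
      · rw [hg1]
        push_cast
        ring
      · rw [hgQ]
        push_cast
        ring
      · rw [hgQ1]
        push_cast
        ring
      · rw [hgQ2]
        push_cast
        ring
    rw [Finset.sum_congr rfl (fun χ _ => hpt χ)] at hcol
    have hcol' : ∑ χ : Cfsg.IrrCharacter (GL (Fin 2) F), g (d χ) = 0 := by exact_mod_cast hcol
    rw [sum_by_four d Q hQ2 hv g, hg1, hgQ, hgQ1, hgQ2] at hcol'
    linear_combination hcol'
  obtain ⟨s1, s2, s3⟩ := solve_counts Q N1 Nm Nq Np hQ2 h0 h4 h3 hE1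
  refine ⟨h0, s3, ?_, ?_⟩
  · generalize Q * (Q - 1) = P at s1 ⊢
    omega
  · rw [hQ]
    generalize (Q + 1) * Q = P at s2 ⊢
    omega

end counts

end Cfsg.Agent.Lib.Helper39_GL2Census
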