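import Mathlib
import Cfsg.Prelude.Def_HallClasses
import Cfsg.Agent.Lib.Helper39_HallSymPrim
import Cfsg.Agent.Lib.Helper39_HallSymOrbit
import Cfsg.Agent.Lib.Helper39_HallSymFib

/-!
Hall subgroups of symmetric groups: the three nonstandard constructions.
-/

set_option autoImplicit false

namespace Cfsg.Agent.Lib.Helper39_HallSymConstr

open Cfsg Equiv Equiv.Perm MulAction
open scoped Pointwise
open Cfsg.Agent.Lib.Helper39_HallSymPrim (card_perm')
open Cfsg.Agent.Lib.Helper39_HallSymOrbit (index_stabilizer)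
open Cfsg.Agent.Lib.Helper39_HallSymFib (baseGroup fibGroup card_baseGroup card_dvd fibGroup_hinv
  baseGroup_le_fibGroup mem_baseGroup mem_fibGroup)

variable {π : Set ℕ}

/-- The point stabilizer in the symmetric group of prime degree. -/
theorem E_prime {n : ℕ} (hn : n.Prime) (hP : ∀ r : ℕ, r.Prime → r ≤ n → (r ∈ π ↔ r < n)) :
    IsEPiGroup π (Perm (Fin n)) := by
  have hn2 := hn.two_le
  obtain ⟨k, rfl⟩ : ∃ k, n = k + 1 := ⟨n - 1, by omega⟩
  refine ⟨stabilizer (Perm (Fin (k + 1))) (0 : Fin (k + 1)), ?_⟩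
  have h1 := MulAction.index_stabilizer_of_transitive (Perm (Fin (k + 1))) (0 : Fin (k + 1))
  rw [Nat.card_eq_fintype_card, Fintype.card_fin] at h1
  have h2 := Subgroup.card_mul_index (stabilizer (Perm (Fin (k + 1))) (0 : Fin (k + 1)))
  rw [h1, card_perm', Fintype.card_fin, Nat.factorial_succ, mul_comm] at h2
  have h3 : Nat.card (stabilizer (Perm (Fin (k + 1))) (0 : Fin (k + 1))) = k.factorial :=
    Nat.eq_of_mul_eq_mul_left (by omega) h2
  constructor
  · intro p hp hd
    rw [h3] at hd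
    have hpk : p ≤ k := (Nat.Prime.dvd_factorial hp).1 hd
    exact (hP p hp (by omega)).2 (by omega)
  · intro p hp hpπ hd
    rw [h1] at hd
    have : p = k + 1 := (Nat.prime_dvd_prime_iff_eq hp hn).1 hd
    have := (hP p hp (by omega)).1 hpπ
    omega

theorem prime_dvd_two_three {p a b : ℕ} (hp : p.Prime) (h : p ∣ 2 ^ a * 3 ^ b) :
    p = 2 ∨ p = 3 := by
  rcases (Nat.Prime.dvd_mul hp).1 h with h | h
  · left
    exact (Nat.prime_dvd_prime_iff_eq hp Nat.prime_two).1 (hp.dvd_of_dvd_pow h)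
  · right
    exact (Nat.prime_dvd_prime_iff_eq hp Nat.prime_three).1 (hp.dvd_of_dvd_pow h)

theorem prime_dvd_35 {p : ℕ} (hp : p.Prime) (h : p ∣ 35) : p = 5 ∨ p = 7 := by
  have e : 35 = 5 * 7 := by norm_num
  rw [e] at h
  rcases (Nat.Prime.dvd_mul hp).1 h with h | h
  · left
    exact (Nat.prime_dvd_prime_iff_eq hp (by norm_num)).1 h
  · right
    exact (Nat.prime_dvd_prime_iff_eq hp (by norm_num)).1 h

/-- a subgroup of order `2 ^ a * 3 ^ b` and index `35` is a Hall `{2,3}`-subgroup -/
theorem isPiHall_of_card {G : Type*} [Group G] {H : Subgroup G} {a b : ℕ}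
    (hc : Nat.card H = 2 ^ a * 3 ^ b) (hi : H.index = 35) (h2 : 2 ∈ π) (h3 : 3 ∈ π)
    (h5 : 5 ∉ π) (h7 : 7 ∉ π) : IsPiHall π H := by
  constructor
  · intro p hp hd
    rw [hc] at hd
    rcases prime_dvd_two_three hp hd with rfl | rfl
    · exact h2
    · exact h3
  · intro p hp hpπ hd
    rw [hi] at hd
    rcases prime_dvd_35 hp hd with rfl | rfl
    · exact h5 hpπ
    · exact h7 hpπ

/-- The stabilizer of a 3-subset in the symmetric group of degree 7. -/
theorem E_seven (hP : ∀ r : ℕ, r.Prime → r ≤ 7 → (r ∈ π ↔ (r = 2 ∨ r = 3))) :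
    IsEPiGroup π (Perm (Fin 7)) := by
  have h2 : 2 ∈ π := (hP 2 Nat.prime_two (by norm_num)).2 (Or.inl rfl)
  have h3 : 3 ∈ π := (hP 3 Nat.prime_three (by norm_num)).2 (Or.inr rfl)
  have h5 : 5 ∉ π := fun h => by
    have := (hP 5 (by norm_num) (by norm_num)).1 h
    omega
  have h7 : 7 ∉ π := fun h => by
    have := (hP 7 (by norm_num) (by norm_num)).1 h
    omega
  let s : Finset (Fin 7) := {0, 1, 2}
  refine ⟨stabilizer (Perm (Fin 7)) (s : Set (Fin 7)), ?_⟩
  have h1 := index_stabilizer s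
  have hs : s.card = 3 := by decide
  rw [hs, Fintype.card_fin] at h1
  have h35 : Nat.choose 7 3 = 35 := by decide
  rw [h35] at h1
  have hc := Subgroup.card_mul_index (stabilizer (Perm (Fin 7)) (s : Set (Fin 7)))
  rw [h1, card_perm', Fintype.card_fin] at hc
  have hc' : Nat.card (stabilizer (Perm (Fin 7)) (s : Set (Fin 7))) = 2 ^ 4 * 3 ^ 2 := by
    have : Nat.factorial 7 = 5040 := by decide
    rw [this] at hc
    omega
  exact isPiHall_of_card hc' h1 h2 h3 h5 h7

/-- the fibration of 8 points into two sets of 4 -/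
def f8 : Fin 8 → Fin 2 := fun x => if x.1 < 4 then 0 else 1

/-- The stabilizer of a partition into two sets of 4 in the symmetric group of degree 8. -/
theorem E_eight (hP : ∀ r : ℕ, r.Prime → r ≤ 8 → (r ∈ π ↔ (r = 2 ∨ r = 3))) :
    IsEPiGroup π (Perm (Fin 8)) := by
  have h2 : 2 ∈ π := (hP 2 Nat.prime_two (by norm_num)).2 (Or.inl rfl)
  have h3 : 3 ∈ π := (hP 3 Nat.prime_three (by norm_num)).2 (Or.inr rfl)
  have h5 : 5 ∉ π := fun h => by
    have := (hP 5 (by norm_num) (by norm_num)).1 h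
    omega
  have h7 : 7 ∉ π := fun h => by
    have := (hP 7 (by norm_num) (by norm_num)).1 h
    omega
  refine ⟨fibGroup f8, ?_⟩
  have hf : Function.Surjective f8 := by decide
  have hN : Nat.card (baseGroup f8) = 576 := by
    rw [card_baseGroup, Fin.prod_univ_two]
    have e0 : Fintype.card {a // f8 a = 0} = 4 := by decide
    have e1 : Fintype.card {a // f8 a = 1} = 4 := by decide
    rw [e0, e1]
    decide
  have hK1 : Nat.card (fibGroup f8) ∣ 1152 := by
    have := card_dvd hf (fibGroup_hinv f8)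
    rw [← card_baseGroup, hN, Fintype.card_fin] at this
    exact this
  have hK2 : 576 ∣ Nat.card (fibGroup f8) := by
    rw [← hN]
    exact Subgroup.card_dvd_of_le (baseGroup_le_fibGroup f8)
  have hne : Nat.card (fibGroup f8) ≠ 576 := by
    intro h
    have heq : baseGroup f8 = fibGroup f8 :=
      Subgroup.eq_of_le_of_card_ge (baseGroup_le_fibGroup f8) (by rw [hN, h])
    have hσ : (Equiv.addLeft (4 : Fin 8) : Perm (Fin 8)) ∈ fibGroup f8 := by
      rw [mem_fibGroup]
      decide
    rw [← heq, mem_baseGroup] at hσ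
    have := hσ 0
    revert this
    decide
  have hK : Nat.card (fibGroup f8) = 2 ^ 7 * 3 ^ 2 := by
    obtain ⟨t, ht⟩ := hK2
    rw [ht] at hK1 hne ⊢
    have ht2 : t ∣ 2 := by
      have : 576 * t ∣ 576 * 2 := hK1
      exact Nat.dvd_of_mul_dvd_mul_left (by norm_num) this
    have ht' : t = 1 ∨ t = 2 := by
      have := Nat.le_of_dvd (by norm_num) ht2
      have h0 : t ≠ 0 := by
        rintro rfl
        simp at ht2
      omega
    rcases ht' with rfl | rfl
    · exact absurd rfl hne
    · norm_num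
  have hc := Subgroup.card_mul_index (fibGroup f8)
  rw [hK, card_perm', Fintype.card_fin] at hc
  have hi : (fibGroup f8).index = 35 := by
    have : Nat.factorial 8 = 40320 := by decide
    rw [this] at hc
    omega
  exact isPiHall_of_card hK hi h2 h3 h5 h7

end Cfsg.Agent.Lib.Helper39_HallSymConstr
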