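import Mathlib
import Cfsg.Prelude.Def_KGroupFacts
import Cfsg.Agent.Lib.helper19_M23Defs
import Cfsg.Agent.Lib.Helper66_StemTools
import Cfsg.Agent.Lib.Helper51_Offender

/-!
Package TRANSFER of helper19's `s2054_packages` market (S2054, the Schur multiplier of `Fi23`), by
helper39: the 3-part.  `three_part_of` takes the conclusion of package KER4 as hypotheses.
-/

set_option autoImplicit false

namespace Cfsg.Agent.Lib.Helper39_M23_TRANSFER

open Cfsg Cfsg.Spor Cfsg.Agent.Lib.Helper66_S96 Cfsg.Agent.Lib.Helper66_S92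
  Cfsg.Agent.Lib.Helper81_UceA Cfsg.Agent.Lib.helper19_M23

open scoped commutatorElement

section Generic

variable {Γ : Type*} [Group Γ]

/-- a subgroup generated by elements which normalise `N` and commute pairwise modulo `N` has its
commutator subgroup inside `N` -/
theorem h39_commutator_closure_le (N : Subgroup Γ) (S : Set Γ)
    (hn : ∀ s ∈ S, s ∈ Subgroup.normalizer (N : Set Γ))
    (hc : ∀ s ∈ S, ∀ s' ∈ S, ⁅s, s'⁆ ∈ N) :
    ⁅Subgroup.closure S, Subgroup.closure S⁆ ≤ N := by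
  have hH : Subgroup.closure S ≤ Subgroup.normalizer (N : Set Γ) :=
    (Subgroup.closure_le _).mpr hn
  have conj_mem : ∀ y ∈ Subgroup.closure S, ∀ n ∈ N, y * n * y⁻¹ ∈ N := fun y hy n hn' =>
    (Subgroup.mem_normalizer_iff.mp (hH hy) n).mp hn'
  have conj_mem' : ∀ y ∈ Subgroup.closure S, ∀ n ∈ N, y⁻¹ * n * y ∈ N := fun y hy n hn' => by
    have := conj_mem y⁻¹ ((Subgroup.closure S).inv_mem hy) n hn'
    simpa using this
  -- step 1
  have c1 : ∀ s ∈ S, ∀ y ∈ Subgroup.closure S, ⁅s, y⁆ ∈ N := by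
    intro s hs y hy
    induction hy using Subgroup.closure_induction with
    | mem y hy => exact hc s hs y hy
    | one => simp
    | mul y y' hy hy' h1 h2 =>
      have e : ⁅s, y * y'⁆ = ⁅s, y⁆ * (y * ⁅s, y'⁆ * y⁻¹) := by
        simp only [commutatorElement_def]; group
      rw [e]
      exact N.mul_mem h1 (conj_mem y hy _ h2)
    | inv y hy h1 =>
      have e : ⁅s, y⁻¹⁆ = y⁻¹ * ⁅s, y⁆⁻¹ * y := by
        simp only [commutatorElement_def]; group
      rw [e]
      exact conj_mem' y hy _ (N.inv_mem h1)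
  -- step 2
  rw [Subgroup.commutator_le]
  intro x hx y hy
  induction hx using Subgroup.closure_induction with
  | mem x hx => exact c1 x hx y hy
  | one => simp
  | mul x x' hx hx' h1 h2 =>
    have e : ⁅x * x', y⁆ = x * ⁅x', y⁆ * x⁻¹ * ⁅x, y⁆ := by
      simp only [commutatorElement_def]; group
    rw [e]
    exact N.mul_mem (conj_mem x hx _ h2) h1
  | inv x hx h1 =>
    have e : ⁅x⁻¹, y⁆ = x⁻¹ * ⁅x, y⁆⁻¹ * x := by
      simp only [commutatorElement_def]; group
    rw [e]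
    exact conj_mem' x hx _ (N.inv_mem h1)

/-- a perfect subgroup, seen inside the group -/
theorem h39_perfect_eq (Kt : Subgroup Γ) (hp : commutator Kt = ⊤) : ⁅Kt, Kt⁆ = Kt := by
  have h1 := Subgroup.map_commutator (⊤ : Subgroup Kt) ⊤ Kt.subtype
  rw [← commutator_def, hp] at h1
  have h2 : (⊤ : Subgroup Kt).map Kt.subtype = Kt := by
    rw [← MonoidHom.range_eq_map, Subgroup.range_subtype]
  rw [h2] at h1
  exact h1.symm

/-- an element which maps a perfect subgroup `Kt` into `Kt` times central elements maps `Kt`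
into itself -/
theorem h39_conj_perfect (Kt : Subgroup Γ) (hp : commutator Kt = ⊤) (t : Γ)
    (ht : ∀ x ∈ Kt, ∃ k ∈ Kt, ∃ c ∈ Subgroup.center Γ, t * x * t⁻¹ = k * c) :
    ∀ x ∈ Kt, t * x * t⁻¹ ∈ Kt := by
  intro x hx
  rw [← h39_perfect_eq Kt hp, Subgroup.commutator_def] at hx
  induction hx using Subgroup.closure_induction with
  | mem x hx =>
    obtain ⟨a, ha, b, hb, rfl⟩ := hx
    obtain ⟨k, hk, c, hc, e1⟩ := ht a ha
    obtain ⟨k', hk', c', hc', e2⟩ := ht b hb
    have e : t * ⁅a, b⁆ * t⁻¹ = ⁅t * a * t⁻¹, t * b * t⁻¹⁆ := by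
      simp only [commutatorElement_def]; group
    rw [e, e1, e2]
    have hcc : ∀ y, c * y = y * c := fun y => (Subgroup.mem_center_iff.mp hc y).symm
    have hcc' : ∀ y, c' * y = y * c' := fun y => (Subgroup.mem_center_iff.mp hc' y).symm
    have e3 : ⁅k * c, k' * c'⁆ = ⁅k, k'⁆ := by
      have s1 : ⁅k * c, k' * c'⁆ = ⁅k, k' * c'⁆ := by
        simp only [commutatorElement_def]
        calc k * c * (k' * c') * (k * c)⁻¹ * (k' * c')⁻¹
            = k * (c * (k' * c')) * c⁻¹ * k⁻¹ * (k' * c')⁻¹ := by group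
          _ = k * ((k' * c') * c) * c⁻¹ * k⁻¹ * (k' * c')⁻¹ := by rw [hcc (k' * c')]
          _ = k * (k' * c') * k⁻¹ * (k' * c')⁻¹ := by group
      have s2 : ⁅k, k' * c'⁆ = ⁅k, k'⁆ := by
        simp only [commutatorElement_def]
        calc k * (k' * c') * k⁻¹ * (k' * c')⁻¹
            = k * k' * (c' * k⁻¹) * c'⁻¹ * k'⁻¹ := by group
          _ = k * k' * (k⁻¹ * c') * c'⁻¹ * k'⁻¹ := by rw [hcc' k⁻¹]
          _ = k * k' * k⁻¹ * k'⁻¹ := by group
      rw [s1, s2]
    rw [e3, ← h39_perfect_eq Kt hp]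
    exact Subgroup.commutator_mem_commutator hk hk'
  | one => simp
  | mul x y _ _ h1 h2 =>
    have e : t * (x * y) * t⁻¹ = (t * x * t⁻¹) * (t * y * t⁻¹) := by group
    rw [e]
    exact Kt.mul_mem h1 h2
  | inv x _ h1 =>
    have e : t * x⁻¹ * t⁻¹ = (t * x * t⁻¹)⁻¹ := by group
    rw [e]
    exact Kt.inv_mem h1

end Generic

section Transfer

variable {G : Type*} [Group G] [Finite G] {Γ : Type*} [Group Γ] [Finite Γ]

/-- the abstract transfer argument: `K` a subgroup of `G` with `3 ^ 12 ∣ |K|`, normalised by an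
element `g ∉ K` with `g ^ 3 = 1`, `¬ 3 ^ 14 ∣ |G|`; `σ : Γ → G` a stem extension and `Kt ≤ Γ` a
perfect subgroup over `K` on which the kernel of `σ` has exponent 4. -/
theorem h39_three_part_abstract (K : Subgroup G) (hk : 3 ^ 12 ∣ Nat.card K)
    (g : G) (hg3 : g ^ 3 = 1) (hgK : g ∉ K) (hgn : g ∈ Subgroup.normalizer (K : Set G))
    (h14 : ¬ 3 ^ 14 ∣ Nat.card G) (σ : Γ →* G) (hσ : IsStemExtension σ)
    (Kt : Subgroup Γ) (hKt1 : Kt.map σ = K) (hKt2 : commutator Kt = ⊤)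
    (hKt3 : ∀ x ∈ Kt, σ x = 1 → x ^ 4 = 1) (z : Γ) (hz : z ∈ σ.ker) :
    ∃ m : ℕ, ¬ 3 ∣ m ∧ z ^ m = 1 := by
  obtain ⟨hsurj, hcen, hcomm⟩ := hσ
  haveI : Fact (Nat.Prime 3) := ⟨Nat.prime_three⟩
  set T : Subgroup G := K ⊔ Subgroup.zpowers g with hT
  -- `|T| = 3 |K|`
  have hg1 : g ≠ 1 := fun h => hgK (h ▸ K.one_mem)
  have hord : orderOf g = 3 := orderOf_eq_prime hg3 hg1
  have hzc : Nat.card (Subgroup.zpowers g) = 3 := by rw [Nat.card_zpowers, hord]
  have hzn : Subgroup.zpowers g ≤ Subgroup.normalizer (K : Set G) :=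
    (Subgroup.zpowers_le).mpr hgn
  have hprod := Cfsg.Agent.Lib.Helper51_Offender.card_sup_mul_card_inf K (Subgroup.zpowers g) hzn
  have hinf : Nat.card ↥(K ⊓ Subgroup.zpowers g) = 1 := by
    have hd : Nat.card ↥(K ⊓ Subgroup.zpowers g) ∣ 3 := by
      rw [← hzc]
      exact Subgroup.card_dvd_of_le inf_le_right
    rcases (Nat.dvd_prime Nat.prime_three).mp hd with h1 | h3
    · exact h1
    · exfalso
      have hge : Nat.card (Subgroup.zpowers g) ≤ Nat.card ↥(K ⊓ Subgroup.zpowers g) := by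
        rw [hzc, h3]
      have heq : K ⊓ Subgroup.zpowers g = Subgroup.zpowers g :=
        Subgroup.eq_of_le_of_card_ge inf_le_right hge
      apply hgK
      have : g ∈ K ⊓ Subgroup.zpowers g := by
        rw [heq]; exact Subgroup.mem_zpowers g
      exact this.1
  rw [hinf, mul_one, hzc] at hprod
  have h13 : 3 ^ 13 ∣ Nat.card T := by
    rw [hT, hprod]
    obtain ⟨r, hr⟩ := hk
    exact ⟨r, by rw [hr]; ring⟩
  have hn3 : ¬ 3 ∣ T.index := by
    intro h3
    apply h14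
    rw [← Subgroup.card_mul_index T]
    obtain ⟨r, hr⟩ := h13
    obtain ⟨r', hr'⟩ := h3
    exact ⟨r * r', by rw [hr, hr']; ring⟩
  -- the preimage of `T`
  set Tt : Subgroup Γ := T.comap σ with hTt
  have hidx : Tt.index = T.index := Subgroup.index_comap_of_surjective T hsurj
  obtain ⟨gt, hgt⟩ := hsurj g
  -- generators of (a subgroup containing) `Tt`
  set Sg : Set Γ := ((Kt : Set Γ) ∪ {gt}) ∪ (σ.ker : Set Γ) with hSg
  have hTle : Tt ≤ Subgroup.closure Sg := by
    intro x hx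
    have hx' : σ x ∈ T := hx
    have hTm : T = (Kt ⊔ Subgroup.zpowers gt).map σ := by
      rw [Subgroup.map_sup, hKt1, MonoidHom.map_zpowers, hgt]
    rw [hTm] at hx'
    obtain ⟨y, hy, hyx⟩ := hx'
    have hyc : y ∈ Subgroup.closure Sg := by
      have : Kt ⊔ Subgroup.zpowers gt ≤ Subgroup.closure Sg := by
        apply sup_le
        · intro k hk'
          exact Subgroup.subset_closure (Or.inl (Or.inl hk'))
        · rw [Subgroup.zpowers_le]
          exact Subgroup.subset_closure (Or.inl (Or.inr rfl))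
      exact this hy
    have hker : y⁻¹ * x ∈ σ.ker := by
      rw [MonoidHom.mem_ker, map_mul, map_inv, hyx, inv_mul_cancel]
    have : x = y * (y⁻¹ * x) := by group
    rw [this]
    exact (Subgroup.closure Sg).mul_mem hyc (Subgroup.subset_closure (Or.inr hker))
  -- `gt` maps `Kt` into `Kt`
  have hgtK : ∀ x ∈ Kt, gt * x * gt⁻¹ ∈ Kt := by
    apply h39_conj_perfect Kt hKt2 gt
    intro x hx
    have h1 : σ (gt * x * gt⁻¹) ∈ K := by
      rw [map_mul, map_mul, map_inv, hgt]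
      have hxK : σ x ∈ K := by
        rw [← hKt1]; exact Subgroup.mem_map_of_mem σ hx
      exact (Subgroup.mem_normalizer_iff.mp hgn (σ x)).mp hxK
    rw [← hKt1] at h1
    obtain ⟨k, hk', hkx⟩ := h1
    refine ⟨k, hk', k⁻¹ * (gt * x * gt⁻¹), ?_, by group⟩
    apply hcen
    rw [MonoidHom.mem_ker, map_mul, map_inv, hkx, inv_mul_cancel]
  have hgtN : gt ∈ Subgroup.normalizer (Kt : Set Γ) :=
    Subgroup.mem_normalizer_fintype hgtK
  have hcenN : ∀ c ∈ σ.ker, c ∈ Subgroup.normalizer (Kt : Set Γ) := by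
    intro c hc
    have hcc := hcen hc
    rw [Subgroup.mem_normalizer_iff]
    intro h
    have : c * h * c⁻¹ = h := by
      rw [(Subgroup.mem_center_iff.mp hcc h).symm]; group
    rw [this]
  have hcen1 : ∀ c ∈ σ.ker, ∀ y : Γ, ⁅c, y⁆ = 1 := by
    intro c hc y
    rw [commutatorElement_eq_one_iff_mul_comm]
    exact (Subgroup.mem_center_iff.mp (hcen hc) y).symm
  have hcen2 : ∀ c ∈ σ.ker, ∀ y : Γ, ⁅y, c⁆ = 1 := by
    intro c hc y
    rw [commutatorElement_eq_one_iff_mul_comm]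
    exact Subgroup.mem_center_iff.mp (hcen hc) y
  have hnorm : ∀ s ∈ Sg, s ∈ Subgroup.normalizer (Kt : Set Γ) := by
    rintro s ((hs | hs) | hs)
    · exact Subgroup.le_normalizer hs
    · rw [Set.mem_singleton_iff.mp hs]; exact hgtN
    · exact hcenN s hs
  have hpair : ∀ s ∈ Sg, ∀ s' ∈ Sg, ⁅s, s'⁆ ∈ Kt := by
    rintro s ((hs | hs) | hs) s' ((hs' | hs') | hs')
    · rw [commutatorElement_def]
      exact Kt.mul_mem (Kt.mul_mem (Kt.mul_mem hs hs') (Kt.inv_mem hs)) (Kt.inv_mem hs')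
    · rw [Set.mem_singleton_iff.mp hs']
      have hinv : gt⁻¹ ∈ Subgroup.normalizer (Kt : Set Γ) := Subgroup.inv_mem _ hgtN
      have h1 : gt * s⁻¹ * gt⁻¹ ∈ Kt := hgtK _ (Kt.inv_mem hs)
      have e : ⁅s, gt⁆ = s * (gt * s⁻¹ * gt⁻¹) := by
        simp only [commutatorElement_def]; group
      rw [e]
      exact Kt.mul_mem hs h1
    · rw [hcen2 s' hs' s]; exact Kt.one_mem
    · rw [Set.mem_singleton_iff.mp hs]
      have h1 : gt * s' * gt⁻¹ ∈ Kt := hgtK _ hs'
      rw [commutatorElement_def]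
      exact Kt.mul_mem h1 (Kt.inv_mem hs')
    · rw [Set.mem_singleton_iff.mp hs, Set.mem_singleton_iff.mp hs']
      simp
    · rw [hcen2 s' hs' s]; exact Kt.one_mem
    · rw [hcen1 s hs s']; exact Kt.one_mem
    · rw [hcen1 s hs s']; exact Kt.one_mem
    · rw [hcen1 s hs s']; exact Kt.one_mem
  have hcl := h39_commutator_closure_le Kt Sg hnorm hpair
  have hTT : ⁅Tt, Tt⁆ ≤ Kt := (Subgroup.commutator_mono hTle hTle).trans hcl
  -- transfer
  obtain ⟨hmem, hcm⟩ := Cfsg.Agent.Lib.Helper66_StemTools.pow_index_mem_commutator Tt z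
    (hcen hz) (hcomm hz)
  have h2 : z ^ Tt.index ∈ ⁅Tt, Tt⁆ := by
    have h3 := Subgroup.map_commutator (⊤ : Subgroup Tt) ⊤ Tt.subtype
    have h4 : (⊤ : Subgroup Tt).map Tt.subtype = Tt := by
      rw [← MonoidHom.range_eq_map, Subgroup.range_subtype]
    rw [h4, ← commutator_def] at h3
    rw [← h3]
    exact ⟨⟨z ^ Tt.index, hmem⟩, hcm, rfl⟩
  have h5 : z ^ Tt.index ∈ Kt := hTT h2
  have h6 : σ (z ^ Tt.index) = 1 := by
    rw [map_pow, MonoidHom.mem_ker.mp hz, one_pow]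
  have h7 := hKt3 _ h5 h6
  refine ⟨Tt.index * 4, ?_, ?_⟩
  · rw [hidx]
    intro hdiv
    rcases (Nat.Prime.dvd_mul Nat.prime_three).mp hdiv with h | h
    · exact hn3 h
    · omega
  · rw [pow_mul]; exact h7

end Transfer

/-- package TRANSFER with the conclusion of package KER4 as a hypothesis -/
theorem three_part_of {G : Type} [Group G] [Finite G] (XS : I8 → I8 → ZMod 3 → G)
    (g : G) (hg3 : g ^ 3 = 1) (hgK : g ∉ rootClosure XS)
    (hgn : ∀ a c t, g * XS a c t * g⁻¹ ∈ rootClosure XS)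
    (h14 : ¬ 3 ^ 14 ∣ Nat.card G)
    {Γ : Type} [Group Γ] [Finite Γ] (σ : Γ →* G) (hσ : IsStemExtension σ)
    (hk4 : 3 ^ 12 ∣ Nat.card (rootClosure XS) ∧
      ∃ Kt : Subgroup Γ, Kt.map σ = rootClosure XS ∧ commutator Kt = ⊤ ∧
        ∀ x ∈ Kt, σ x = 1 → x ^ 4 = 1)
    (z : Γ) (hz : z ∈ σ.ker) :
    ∃ m : ℕ, ¬ 3 ∣ m ∧ z ^ m = 1 := by
  obtain ⟨hk, Kt, hKt1, hKt2, hKt3⟩ := hk4
  have hgN : g ∈ Subgroup.normalizer ((rootClosure XS : Subgroup G) : Set G) := by
    apply Subgroup.mem_normalizer_fintype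
    intro n hn
    have hn' : n ∈ rootClosure XS := hn
    unfold rootClosure at hn'
    induction hn' using Subgroup.closure_induction with
    | mem x hx =>
      obtain ⟨a, c, t, rfl⟩ := hx
      exact hgn a c t
    | one => simp
    | mul x y _ _ h1 h2 =>
      have e : g * (x * y) * g⁻¹ = (g * x * g⁻¹) * (g * y * g⁻¹) := by group
      rw [e]
      exact (rootClosure XS).mul_mem (h1 (by assumption)) (h2 (by assumption))
    | inv x _ h1 =>
      have e : g * x⁻¹ * g⁻¹ = (g * x * g⁻¹)⁻¹ := by group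
      rw [e]
      exact (rootClosure XS).inv_mem (h1 (by assumption))
  exact h39_three_part_abstract (rootClosure XS) hk g hg3 hgK hgN h14 σ hσ Kt hKt1 hKt2 hKt3 z hz

end Cfsg.Agent.Lib.Helper39_M23_TRANSFER
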