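import Mathlib
import Cfsg.Agent.Lib.Helper38_OTDefs

set_option autoImplicit false
set_option linter.unusedSectionVars false
set_option linter.unusedVariables false

/-!
OTENS4 market (architect helper38, row S5704), package OT-ALGEB (formalised by helper39):
characteristic `2`, step B: every member of the invariant subspace `𝒯` is self-adjoint.

Route: for `T ∈ 𝒯` with `ω (T u) v + ω u (T v) = l ω u v` put `q v = ω (T v) v`.  For the
transvection `g = t_y(1)` the member `g T g⁻¹ + T` is self-adjoint, hence alternating, which gives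
`ω w y ^ 2 * (q y + l) = 0`; so `q y = l` for `y ≠ 0`, and two independent orthogonal vectors
give `l = 0`.
-/

namespace Cfsg.Agent.Lib.Helper39_OT_ALGEB

open Matrix Module
open Cfsg.Agent.Lib.Helper98_ExtDefs Cfsg.Agent.Lib.Helper97_TensDefs
open Cfsg.Agent.Lib.Helper94_Herm
open Cfsg.Agent.Lib.Helper67_UT2Defs Cfsg.Agent.Lib.Helper37_UTDefs
open Cfsg.Agent.Lib.Helper37_UTPairDefs
open Cfsg.Agent.Lib.Helper94_OrthSmall Cfsg.Agent.Lib.Helper94_OrthSiegel
open Cfsg.Agent.Lib.Helper67_T2ODefs (IsAltMap aw)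
open Cfsg.Agent.Lib.Helper38_OTDefs

/-- a linear form on a space of dimension `≥ 3` has a kernel vector outside a given line -/
theorem h39_exists_ker_not_span {F W : Type*} [Field F] [AddCommGroup W] [Module F W]
    [FiniteDimensional F W] (h3 : 3 ≤ finrank F W) (φ : W →ₗ[F] F) (y : W) :
    ∃ y' : W, φ y' = 0 ∧ y' ∉ Submodule.span F {y} := by
  by_contra hcon
  push_neg at hcon
  have hle : LinearMap.ker φ ≤ Submodule.span F {y} :=
    fun z hz => hcon z (LinearMap.mem_ker.mp hz)
  have hs : finrank F (Submodule.span F {y}) ≤ 1 := by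
    by_cases hy : y = 0
    · rw [hy, Submodule.span_zero_singleton, finrank_bot]
      exact Nat.zero_le 1
    · rw [finrank_span_singleton hy]
  have h1 : finrank F (LinearMap.ker φ) ≤ 1 := (Submodule.finrank_mono hle).trans hs
  have h2 : finrank F (LinearMap.range φ) ≤ 1 := by
    have := Submodule.finrank_le (LinearMap.range φ)
    rwa [finrank_self] at this
  have h3' := LinearMap.finrank_range_add_finrank_ker φ
  omega

theorem h39_inv_apply_apply {F W : Type*} [Field F] [AddCommGroup W] [Module F W]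
    (g : W ≃ₗ[F] W) (x : W) : g⁻¹ (g x) = x := by
  show (g⁻¹ * g) x = x
  rw [inv_mul_cancel]
  rfl

variable {F : Type*} [Field F] {ι κ : Type*} [Fintype ι] [Fintype κ] [DecidableEq ι]
  [DecidableEq κ]
variable {α : LinearMap.BilinForm F (ι → F)} {β : LinearMap.BilinForm F (κ → F)}
variable {Q : Matrix ι κ F → F} {M : Subgroup (Matrix ι κ F ≃ₗ[F] Matrix ι κ F)}

section Alg

variable {W : Type*} [AddCommGroup W] [Module F W] [FiniteDimensional F W]
  {ω : LinearMap.BilinForm F W}

/-- characteristic `2`, step B: every member is self-adjoint -/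
theorem alg_even_B (hω : ∀ x, ω x x = 0) (hωN : NondegOn ω ⊤) (h4 : 4 ≤ finrank F W)
    (h2 : (2 : F) = 0) (𝒯 : Submodule F (W →ₗ[F] W))
    (hconj : ∀ T ∈ 𝒯, ∀ g ∈ uG ω,
      (g : W ≃ₗ[F] W).toLinearMap ∘ₗ T ∘ₗ (g⁻¹ : W ≃ₗ[F] W).toLinearMap ∈ 𝒯)
    (hself : ∀ T ∈ 𝒯, ∃ l : F, ∀ u v, ω (T u) v + ω u (T v) = l * ω u v)
    (hA : ∀ U ∈ 𝒯, IsAdjO ω U U → IsAltMap ω U) :
    ∀ T ∈ 𝒯, IsAdjO ω T T := by
  intro T hT
  obtain ⟨l, hl⟩ := hself T hT
  have c2 : ∀ a : F, a + a = 0 := fun a => by rw [← two_mul, h2, zero_mul]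
  have cneg : ∀ a : F, -a = a := fun a => by
    rw [neg_eq_iff_add_eq_zero]; exact c2 a
  have hsw : ∀ u v, ω u v = ω v u := by
    intro u v
    have h := hω (u + v)
    simp only [map_add, LinearMap.add_apply, hω u, hω v, zero_add, add_zero] at h
    rw [← cneg (ω v u)]
    exact eq_neg_of_add_eq_zero_right h
  suffices hl0 : l = 0 by
    intro u v
    have h := hl u v
    rw [hl0, zero_mul] at h
    rw [← cneg (ω u (T v))]
    exact eq_neg_of_add_eq_zero_left h
  -- the quadratic map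
  have qadd : ∀ u v, ω (T (u + v)) (u + v) = ω (T u) u + ω (T v) v + l * ω u v := by
    intro u v
    simp only [map_add, LinearMap.add_apply]
    have h := hl u v
    rw [hsw (T v) u]
    linear_combination h
  have qsmul : ∀ (c : F) v, ω (T (c • v)) (c • v) = c * c * ω (T v) v := by
    intro c v
    simp only [map_smul, LinearMap.smul_apply, smul_eq_mul]
    ring
  -- the key identity
  have key : ∀ y w, ω w y * ω w y * (ω (T y) y + l) = 0 := by
    intro y w
    have hgm : utv ω y 1 ∈ uG ω := by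
      refine utv_mem_uG (σ := RingHom.id F) (B := ω) ?_ y ?_
      · intro a b
        simp only [RingHom.id_apply]
        exact hsw b a
      · simp only [RingHom.id_apply]
        exact (cneg 1).symm
    have hgi : (utv ω y 1)⁻¹ ∈ uG ω := (uG ω).inv_mem hgm
    have hΔ : ((utv ω y 1 : W ≃ₗ[F] W).toLinearMap ∘ₗ T ∘ₗ
        ((utv ω y 1)⁻¹ : W ≃ₗ[F] W).toLinearMap) + T ∈ 𝒯 :=
      𝒯.add_mem (hconj T hT _ hgm) hT
    have hadj : IsAdjO ω (((utv ω y 1 : W ≃ₗ[F] W).toLinearMap ∘ₗ T ∘ₗ
        ((utv ω y 1)⁻¹ : W ≃ₗ[F] W).toLinearMap) + T)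
        (((utv ω y 1 : W ≃ₗ[F] W).toLinearMap ∘ₗ T ∘ₗ
        ((utv ω y 1)⁻¹ : W ≃ₗ[F] W).toLinearMap) + T) := by
      intro u v
      simp only [LinearMap.add_apply, LinearMap.comp_apply, LinearEquiv.coe_coe, map_add]
      have e1 : ω ((utv ω y 1) (T ((utv ω y 1)⁻¹ u))) v =
          ω (T ((utv ω y 1)⁻¹ u)) ((utv ω y 1)⁻¹ v) := by
        rw [← uG_inv_apply ω hgi, inv_inv]
      have e2 : ω u ((utv ω y 1) (T ((utv ω y 1)⁻¹ v))) =
          ω ((utv ω y 1)⁻¹ u) (T ((utv ω y 1)⁻¹ v)) := by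
        rw [uG_inv_apply ω hgm]
      have e3 : ω ((utv ω y 1)⁻¹ u) ((utv ω y 1)⁻¹ v) = ω u v := hgi u v
      have h1 := hl ((utv ω y 1)⁻¹ u) ((utv ω y 1)⁻¹ v)
      have h3 := hl u v
      rw [e1, e2]
      linear_combination h1 + h3 + l * e3 +
        (l * ω u v - ω ((utv ω y 1)⁻¹ u) (T ((utv ω y 1)⁻¹ v)) - ω u (T v)) * h2
    have h0 := hA _ hΔ hadj (utv ω y 1 w)
    simp only [LinearMap.add_apply, LinearMap.comp_apply, LinearEquiv.coe_coe, map_add] at h0
    rw [h39_inv_apply_apply, hgm (T w) w] at h0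
    have hgw : utv ω y 1 w = w + ω w y • y := by
      rw [utv_apply ω (hω y), one_mul]
    rw [hgw, qadd, qsmul] at h0
    simp only [map_smul, smul_eq_mul] at h0
    linear_combination h0 - (ω (T w) w) * h2
  -- `q y = l` off zero
  have qval : ∀ y, y ≠ 0 → ω (T y) y = l := by
    intro y hy
    obtain ⟨w, -, hw⟩ := hωN y (Submodule.mem_top) hy
    have hw' : ω w y ≠ 0 := by rw [hsw]; exact hw
    have h := key y w
    have h' : ω (T y) y + l = 0 := by
      rcases mul_eq_zero.mp h with h | h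
      · exact absurd (mul_self_eq_zero.mp h) hw'
      · exact h
    rw [← cneg l]
    exact eq_neg_of_add_eq_zero_left h'
  -- two independent orthogonal vectors
  have hpos : 0 < finrank F W := by omega
  obtain ⟨y, hy⟩ := (finrank_pos_iff_exists_ne_zero (R := F) (M := W)).mp hpos
  obtain ⟨y', hy'o, hy'n⟩ := h39_exists_ker_not_span (by omega : 3 ≤ finrank F W) (ω y) y
  have hy'0 : y' ≠ 0 := by
    rintro rfl
    exact hy'n (Submodule.zero_mem _)
  have hsum : y + y' ≠ 0 := by
    intro h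
    apply hy'n
    have : y' = (-1 : F) • y := by
      rw [neg_one_smul]; exact eq_neg_of_add_eq_zero_right h
    rw [this]
    exact Submodule.smul_mem _ _ (Submodule.mem_span_singleton_self y)
  have h1 := qadd y y'
  rw [qval y hy, qval y' hy'0, qval (y + y') hsum, hy'o, mul_zero, add_zero, c2 l] at h1
  exact h1

end Alg

end Cfsg.Agent.Lib.Helper39_OT_ALGEB
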