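import Mathlib

/-!
Arithmetic of the `{2,3}`-part of a natural number, for the Hall `{2,3}`-subgroups of `PSL(2,q)`.
-/

set_option autoImplicit false

namespace Cfsg.Agent.Lib.Helper39_PSL2HallNT

/-- the `{2,3}`-part of a natural number -/
def h23 (n : ℕ) : ℕ := 2 ^ n.factorization 2 * 3 ^ n.factorization 3

theorem h23_pos (n : ℕ) : 0 < h23 n := by
  unfold h23
  positivity

theorem h23_factorization_two (n : ℕ) : (h23 n).factorization 2 = n.factorization 2 := by
  unfold h23
  rw [Nat.factorization_mul (by positivity) (by positivity),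
    Nat.Prime.factorization_pow Nat.prime_two, Nat.Prime.factorization_pow Nat.prime_three]
  simp

theorem h23_factorization_three (n : ℕ) : (h23 n).factorization 3 = n.factorization 3 := by
  unfold h23
  rw [Nat.factorization_mul (by positivity) (by positivity),
    Nat.Prime.factorization_pow Nat.prime_two, Nat.Prime.factorization_pow Nat.prime_three]
  simp

theorem h23_factorization_other (n r : ℕ) (h2 : r ≠ 2) (h3 : r ≠ 3) :
    (h23 n).factorization r = 0 := by
  unfold h23
  rw [Nat.factorization_mul (by positivity) (by positivity),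
    Nat.Prime.factorization_pow Nat.prime_two, Nat.Prime.factorization_pow Nat.prime_three]
  simp [h2.symm, h3.symm]

theorem prime_dvd_h23 (n r : ℕ) (hr : r.Prime) (h : r ∣ h23 n) : r = 2 ∨ r = 3 := by
  unfold h23 at h
  rcases (Nat.Prime.dvd_mul hr).1 h with h | h
  · left
    exact (Nat.prime_dvd_prime_iff_eq hr Nat.prime_two).1 (hr.dvd_of_dvd_pow h)
  · right
    exact (Nat.prime_dvd_prime_iff_eq hr Nat.prime_three).1 (hr.dvd_of_dvd_pow h)

/-- the arithmetic of Hall `{2,3}`-subgroups -/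
theorem hall_nt (N x i : ℕ) (hN : N ≠ 0) (hxi : N = x * i) :
    ((∀ r : ℕ, r.Prime → r ∣ x → r = 2 ∨ r = 3) ∧ ¬ 2 ∣ i ∧ ¬ 3 ∣ i) ↔ x = h23 N := by
  have hx : x ≠ 0 := by
    rintro rfl
    simp at hxi
    exact hN hxi
  have hi : i ≠ 0 := by
    rintro rfl
    simp at hxi
    exact hN hxi
  have hfac : ∀ r, N.factorization r = x.factorization r + i.factorization r := by
    intro r
    rw [hxi, Nat.factorization_mul hx hi]
    rfl
  constructor
  · rintro ⟨h1, h2, h3⟩
    apply Nat.eq_of_factorization_eq hx (h23_pos N).ne'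
    intro r
    by_cases hr2 : r = 2
    · subst hr2
      rw [h23_factorization_two, hfac, Nat.factorization_eq_zero_of_not_dvd h2, add_zero]
    by_cases hr3 : r = 3
    · subst hr3
      rw [h23_factorization_three, hfac, Nat.factorization_eq_zero_of_not_dvd h3, add_zero]
    rw [h23_factorization_other N r hr2 hr3]
    by_cases hr : r.Prime
    · apply Nat.factorization_eq_zero_of_not_dvd
      intro hd
      rcases h1 r hr hd with h | h
      · exact hr2 h
      · exact hr3 h
    · exact Nat.factorization_eq_zero_of_not_prime x hr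
  · intro hx23
    refine ⟨?_, ?_, ?_⟩
    · intro r hr hd
      rw [hx23] at hd
      exact prime_dvd_h23 N r hr hd
    · have h := hfac 2
      rw [hx23, h23_factorization_two] at h
      have h0 : i.factorization 2 = 0 := by omega
      rcases (Nat.factorization_eq_zero_iff i 2).1 h0 with h | h | h
      · exact absurd Nat.prime_two h
      · exact h
      · exact absurd h hi
    · have h := hfac 3
      rw [hx23, h23_factorization_three] at h
      have h0 : i.factorization 3 = 0 := by omega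
      rcases (Nat.factorization_eq_zero_iff i 3).1 h0 with h | h | h
      · exact absurd Nat.prime_three h
      · exact h
      · exact absurd h hi

/-- multiplying by a number prime to `6` does not change the `{2,3}`-part -/
theorem h23_mul_right (A B : ℕ) (hA : A ≠ 0) (hB : B ≠ 0) (h2 : ¬ 2 ∣ B) (h3 : ¬ 3 ∣ B) :
    h23 (A * B) = h23 A := by
  unfold h23
  rw [Nat.factorization_mul hA hB]
  simp [Nat.factorization_eq_zero_of_not_dvd h2, Nat.factorization_eq_zero_of_not_dvd h3]

theorem h23_mul_left (A B : ℕ) (hA : A ≠ 0) (hB : B ≠ 0) (h2 : ¬ 2 ∣ B) (h3 : ¬ 3 ∣ B) :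
    h23 (B * A) = h23 A := by
  rw [mul_comm]
  exact h23_mul_right A B hA hB h2 h3

theorem h23_dvd (N : ℕ) : h23 N ∣ N := by
  unfold h23
  apply Nat.Coprime.mul_dvd_of_dvd_of_dvd
  · apply Nat.Coprime.pow
    norm_num
  · exact Nat.ordProj_dvd N 2
  · exact Nat.ordProj_dvd N 3

/-- the `{2,3}`-part is a Hall divisor -/
theorem h23_spec (N : ℕ) (hN : N ≠ 0) : ∃ n, N = h23 N * n ∧ (h23 N).Coprime n := by
  obtain ⟨n, hn⟩ := h23_dvd N
  refine ⟨n, hn, ?_⟩
  obtain ⟨-, h2, h3⟩ := (hall_nt N (h23 N) n hN hn).2 rfl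
  unfold h23
  apply Nat.Coprime.mul_left
  · apply Nat.Coprime.pow_left
    exact (Nat.Prime.coprime_iff_not_dvd Nat.prime_two).2 h2
  · apply Nat.Coprime.pow_left
    exact (Nat.Prime.coprime_iff_not_dvd Nat.prime_three).2 h3

/-- values of the exponents when the `{2,3}`-part is `48` -/
theorem two_pow_of_h23_eq_48 (N : ℕ) (h : h23 N = 48) : N.factorization 2 = 4 := by
  have h1 := h23_factorization_two N
  rw [h] at h1
  rw [← h1]
  have : (48 : ℕ) = 2 ^ 4 * 3 := by norm_num
  rw [this, Nat.factorization_mul (by norm_num) (by norm_num),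
    Nat.Prime.factorization_pow Nat.prime_two]
  have h3 : (Nat.factorization 3) 2 = 0 := Nat.factorization_eq_zero_of_not_dvd (by norm_num)
  simp [h3]

/-- `q ≡ 1 (mod 4)`, `3 ∣ q - 1`: the `{2,3}`-part of `q² - 1` is that of `2(q-1)` -/
theorem h23_minus (q : ℕ) (h3 : 3 ∣ q - 1) (h4 : q % 4 = 1) (hq : 5 ≤ q) :
    h23 (q ^ 2 - 1) = h23 (2 * (q - 1)) := by
  obtain ⟨k, rfl⟩ : ∃ k, q = 4 * k + 1 := ⟨q / 4, by omega⟩
  have e : (4 * k + 1) ^ 2 - 1 = (2 * (4 * k + 1 - 1)) * (2 * k + 1) := by
    have : 4 * k + 1 - 1 = 4 * k := by omega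
    rw [this]
    apply Nat.sub_eq_of_eq_add
    ring
  rw [e]
  apply h23_mul_right
  · omega
  · omega
  · omega
  · omega

/-- `q ≡ 3 (mod 4)`, `3 ∣ q + 1`: the `{2,3}`-part of `q² - 1` is that of `2(q+1)` -/
theorem h23_plus (q : ℕ) (h3 : 3 ∣ q + 1) (h4 : q % 4 = 3) (hq : 5 ≤ q) :
    h23 (q ^ 2 - 1) = h23 (2 * (q + 1)) := by
  obtain ⟨k, rfl⟩ : ∃ k, q = 4 * k + 3 := ⟨q / 4, by omega⟩
  have e : (4 * k + 3) ^ 2 - 1 = (2 * (4 * k + 3 + 1)) * (2 * k + 1) := by
    apply Nat.sub_eq_of_eq_add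
    ring
  rw [e]
  apply h23_mul_right
  · omega
  · omega
  · omega
  · omega

end Cfsg.Agent.Lib.Helper39_PSL2HallNT
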