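import Mathlib
import Cfsg.Agent.Lib.Helper50_SL2Mat
import Cfsg.Agent.Lib.Helper50_SL2Rep
import Cfsg.Agent.Lib.Helper51_SL2Cases
import Cfsg.Agent.Lib.Helper1_Hall
import Cfsg.Agent.Lib.Helper41_SL2
import Cfsg.Agent.Lib.Helper41_SL2Torus
import Cfsg.Agent.Lib.Helper39_PSL2HallNT
import Cfsg.Agent.S0800
import Cfsg.Agent.S2428
import Cfsg.Agent.S2430

/-!
Group theory for the Hall `{2,3}`-subgroups of `PSL(2,q)`: solvable normalizers of tori and their
Hall subgroups, subgroups of `SL(2,q)` with commuting squares, passage to `PSL(2,q)`.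
-/

set_option autoImplicit false

namespace Cfsg.Agent.Lib.Helper39_PSL2HallGT

open Matrix
open scoped MatrixGroups
open Cfsg.Agent.Lib.Helper50_SL2Mat (tr tr_conj tr_pow_three pow_of_tr_two ext4 one00 one01 one10
  one11 negOne IsScalar eq_or_eq_inv_of_commute)

section generic

variable {G : Type*} [Group G] [Finite G]

/-- The normalizer of an abelian subgroup of index two in it is solvable. -/
theorem isSolvable_normalizer (T : Subgroup G) (hT : ∀ a ∈ T, ∀ b ∈ T, a * b = b * a)
    (hidx : Nat.card (Subgroup.normalizer (T : Set G)) = 2 * Nat.card T) :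
    Group.IsSolvable (Subgroup.normalizer (T : Set G)) := by
  have h2 : (T.subgroupOf (Subgroup.normalizer (T : Set G))).index = 2 := by
    have h := Subgroup.card_mul_index (T.subgroupOf (Subgroup.normalizer (T : Set G)))
    rw [Nat.card_congr (Subgroup.subgroupOfEquivOfLe Subgroup.le_normalizer).toEquiv, hidx] at h
    have hpos : 0 < Nat.card T := Nat.card_pos
    apply Nat.eq_of_mul_eq_mul_left hpos
    rw [h]
    ring
  have hs1 : Group.IsSolvable (T.subgroupOf (Subgroup.normalizer (T : Set G))) := by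
    apply Group.isSolvable_of_comm
    intro a b
    apply Subtype.ext
    apply Subtype.ext
    rw [Subgroup.coe_mul, Subgroup.coe_mul, Subgroup.coe_mul, Subgroup.coe_mul]
    exact hT _ a.2 _ b.2
  have hs2 : Group.IsSolvable ((Subgroup.normalizer (T : Set G)) ⧸
      (T.subgroupOf (Subgroup.normalizer (T : Set G)))) := by
    have hc : Nat.card ((Subgroup.normalizer (T : Set G)) ⧸
        (T.subgroupOf (Subgroup.normalizer (T : Set G)))) = 2 := by
      rw [← Subgroup.index_eq_card]
      exact h2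
    have : Fact (Nat.Prime 2) := ⟨Nat.prime_two⟩
    have hcyc : IsCyclic ((Subgroup.normalizer (T : Set G)) ⧸
        (T.subgroupOf (Subgroup.normalizer (T : Set G)))) := isCyclic_of_prime_card hc
    exact Group.isSolvable_of_comm (isMulCommutative_iff.1 IsCyclic.isMulCommutative)
  exact Group.isSolvable_of_ker_le_range
    (T.subgroupOf (Subgroup.normalizer (T : Set G))).subtype
    (QuotientGroup.mk' (T.subgroupOf (Subgroup.normalizer (T : Set G))))
    (by rw [QuotientGroup.ker_mk', Subgroup.range_subtype])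

/-- Hall subgroups of the normalizer of an abelian subgroup of index two in it. -/
theorem exists_card_of_normalizer (T : Subgroup G) (hT : ∀ a ∈ T, ∀ b ∈ T, a * b = b * a)
    (hidx : Nat.card (Subgroup.normalizer (T : Set G)) = 2 * Nat.card T) (m n : ℕ)
    (hmn : 2 * Nat.card T = m * n) (hcop : m.Coprime n) :
    ∃ M : Subgroup G, Nat.card M = m := by
  have hsolv : Group.IsSolvable (Subgroup.normalizer (T : Set G)) := isSolvable_normalizer T hT hidx
  obtain ⟨M', hM'⟩ := Cfsg.Agent.Lib.Helper1_Hall.hall_exists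
    (G := Subgroup.normalizer (T : Set G)) m n (by rw [hidx, hmn]) hcop
  refine ⟨M'.map (Subgroup.normalizer (T : Set G)).subtype, ?_⟩
  rw [← hM']
  exact (Nat.card_congr (M'.equivMapOfInjective _ (Subgroup.subtype_injective _)).toEquiv).symm

end generic

section sl2

variable {F : Type*} [Field F]

/-- an element of order three has trace `-1` -/
theorem tr_of_pow_three (h3 : (3 : F) ≠ 0) {g : SL(2, F)} (hg : g ^ 3 = 1) (hg1 : g ≠ 1) :
    tr g = -1 := by
  have h := tr_pow_three g
  rw [hg] at h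
  have h1 : tr (1 : SL(2, F)) = 2 := Cfsg.Agent.Lib.Helper50_SL2Mat.tr_one
  rw [h1] at h
  have hfac : (tr g - 2) * ((tr g + 1) * (tr g + 1)) = 0 := by linear_combination -h
  rcases mul_eq_zero.1 hfac with h2 | h2
  · exfalso
    apply hg1
    have ht : tr g = 2 := by linear_combination h2
    obtain ⟨i1, i2, i3, i4⟩ := pow_of_tr_two ht 3
    rw [hg] at i1 i2 i3 i4
    rw [one00] at i1
    rw [one01] at i2
    rw [one10] at i3
    rw [one11] at i4
    push_cast at i1 i2 i3 i4
    have e1 : (3 : F) * (g 0 0 - 1) = 0 := by linear_combination -i1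
    have e2 : (3 : F) * g 0 1 = 0 := by linear_combination -i2
    have e3 : (3 : F) * g 1 0 = 0 := by linear_combination -i3
    have e4 : (3 : F) * (g 1 1 - 1) = 0 := by linear_combination -i4
    have f1 := (mul_eq_zero.1 e1).resolve_left h3
    have f2 := (mul_eq_zero.1 e2).resolve_left h3
    have f3 := (mul_eq_zero.1 e3).resolve_left h3
    have f4 := (mul_eq_zero.1 e4).resolve_left h3
    apply ext4
    · rw [one00]; linear_combination f1
    · rw [one01]; exact f2
    · rw [one10]; exact f3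
    · rw [one11]; linear_combination f4
  · rcases mul_eq_zero.1 h2 with h2 | h2 <;> linear_combination h2

/-- commuting elements of order three with the same trace -/
theorem eq_or_eq_inv_of_order_three (h2 : (2 : F) ≠ 0) (h3 : (3 : F) ≠ 0) {y z : SL(2, F)}
    (hy : y ^ 3 = 1) (hy1 : y ≠ 1) (hc : Commute y z) (ht : tr z = tr y) :
    z = y ∨ z = y⁻¹ := by
  apply eq_or_eq_inv_of_commute h2 hc ht
  rw [tr_of_pow_three h3 hy hy1]
  intro h
  apply h3
  linear_combination -h

/-- the only involution -/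
theorem eq_negOne_of_sq (h2 : (2 : F) ≠ 0) {u : SL(2, F)} (hu : u * u = 1) (hu1 : u ≠ 1) :
    u = negOne :=
  (Cfsg.Agent.Lib.Helper50_SL2Rep.isScalar_of_sq h2 hu).eq_one_or.resolve_left hu1


theorem three_ne_zero_of_char (p : ℕ) [Fact p.Prime] [CharP F p] (hp : p ≠ 3) : (3 : F) ≠ 0 := by
  intro h
  have h2 : ((3 : ℕ) : F) = 0 := by exact_mod_cast h
  rw [CharP.cast_eq_zero_iff F p] at h2
  exact hp ((Nat.prime_dvd_prime_iff_eq Fact.out Nat.prime_three).1 h2)

/-- a subgroup of order four of `SL(2,F)` contains an element of order four -/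
theorem exists_orderOf_four (h2 : (2 : F) ≠ 0) (R : Subgroup SL(2, F)) (hR : Nat.card R = 4) :
    ∃ u ∈ R, orderOf u = 4 := by
  classical
  have hfinR : Finite R := Nat.finite_of_card_ne_zero (by rw [hR]; norm_num)
  have hex : ∃ u ∈ R, u ≠ 1 ∧ u ≠ negOne := by
    by_contra hcon
    push Not at hcon
    have hfin : Finite (({1, negOne} : Set SL(2, F))) := Set.finite_coe_iff.2 (Set.toFinite _)
    have h1 : Nat.card R ≤ Nat.card (({1, negOne} : Set SL(2, F))) := by
      apply Nat.card_le_card_of_injective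
        (fun g : R => (⟨g.1, by
          by_cases h : (g : SL(2, F)) = 1
          · exact Or.inl h
          · exact Or.inr (hcon g.1 g.2 h)⟩ : ({1, negOne} : Set SL(2, F))))
      intro a b hab
      apply Subtype.ext
      have h := congrArg Subtype.val hab
      exact h
    have h3 : Nat.card (({1, negOne} : Set SL(2, F))) ≤ 2 := by
      rw [Nat.card_coe_set_eq]
      have := Set.ncard_insert_le (1 : SL(2, F)) {negOne}
      rw [Set.ncard_singleton] at this
      exact this
    omega
  obtain ⟨u, huR, hu1, hun⟩ := hex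
  refine ⟨u, huR, ?_⟩
  have hdvd : orderOf u ∣ 4 := by
    have := Subgroup.orderOf_dvd_natCard R huR
    rwa [hR] at this
  have hle : orderOf u ≤ 4 := Nat.le_of_dvd (by norm_num) hdvd
  have hpos : 0 < orderOf u := Nat.pos_of_dvd_of_pos hdvd (by norm_num)
  have h1' : orderOf u ≠ 1 := fun h => hu1 (orderOf_eq_one_iff.1 h)
  have h2' : orderOf u ≠ 2 := by
    intro h
    apply hun
    apply eq_negOne_of_sq h2 _ hu1
    have hpow := pow_orderOf_eq_one u
    rw [h] at hpow
    rw [← pow_two]
    exact hpow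
  have h3' : orderOf u ≠ 3 := by
    intro h
    rw [h] at hdvd
    omega
  omega

variable [Fintype F]

/-- A subgroup with commuting squares whose order is divisible by `24`:
`q ≡ ± 1` modulo `12`. -/
theorem twelve_dvd (p : ℕ) [Fact p.Prime] [CharP F p] (hp5 : 5 ≤ p) (M : Subgroup SL(2, F))
    (hsq : ∀ a ∈ M, ∀ b ∈ M, Commute (a ^ 2) (b ^ 2)) (h3 : 3 ∣ Nat.card M)
    (h8 : 8 ∣ Nat.card M) :
    12 ∣ Fintype.card F - 1 ∨ 12 ∣ Fintype.card F + 1 := by
  classical
  have hpp : p.Prime := Fact.out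
  have h2F : (2 : F) ≠ 0 :=
    Cfsg.Agent.Lib.Helper50_SL2Rep.two_ne_zero_of_char p (by omega)
  have h3F : (3 : F) ≠ 0 := three_ne_zero_of_char p (by omega)
  -- an element of order three
  obtain ⟨y', hy'⟩ := exists_prime_orderOf_dvd_card' (G := M) 3 h3
  obtain ⟨y, hyM, hyord⟩ : ∃ y ∈ M, orderOf y = 3 :=
    ⟨(y' : SL(2, F)), y'.2, by rw [Subgroup.orderOf_coe]; exact hy'⟩
  have hy3 : y ^ 3 = 1 := by rw [← hyord]; exact pow_orderOf_eq_one y
  have hy1 : y ≠ 1 := by
    intro h
    rw [h, orderOf_one] at hyord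
    omega
  have hfour : ∀ z : SL(2, F), z ^ 3 = 1 → z = (z ^ 2) ^ 2 := by
    intro z hz
    rw [← pow_mul]
    have : z ^ (2 * 2) = z ^ 3 * z := by rw [← pow_succ]
    rw [this, hz, one_mul]
  have hconj : ∀ m ∈ M, m * y * m⁻¹ = y ∨ m * y * m⁻¹ = y⁻¹ := by
    intro m hm
    have hzM : m * y * m⁻¹ ∈ M := M.mul_mem (M.mul_mem hm hyM) (M.inv_mem hm)
    have hz3 : (m * y * m⁻¹) ^ 3 = 1 := by rw [conj_pow, hy3, mul_one, mul_inv_cancel]
    have hcomm : Commute y (m * y * m⁻¹) := by
      have h := hsq _ (M.pow_mem hyM 2) _ (M.pow_mem hzM 2)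
      rwa [← hfour y hy3, ← hfour _ hz3] at h
    exact eq_or_eq_inv_of_order_three h2F h3F hy3 hy1 hcomm (tr_conj m y)
  -- the centralizer of `y` in `M`
  obtain ⟨K, hK⟩ : ∃ K : Subgroup SL(2, F), K = M ⊓ Subgroup.centralizer {y} := ⟨_, rfl⟩
  have hKM : K ≤ M := by rw [hK]; exact inf_le_left
  have hmemK : ∀ m, m ∈ K ↔ m ∈ M ∧ m * y = y * m := by
    intro m
    rw [hK, Subgroup.mem_inf, Subgroup.mem_centralizer_singleton_iff]
  have hnot : ∀ m ∈ M, m ∉ K → m * y * m⁻¹ = y⁻¹ := by
    intro m hm hmK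
    rcases hconj m hm with h | h
    · exfalso
      apply hmK
      rw [hmemK]
      refine ⟨hm, ?_⟩
      calc m * y = (m * y * m⁻¹) * m := by group
        _ = y * m := by rw [h]
    · exact h
  have h4K : 4 ∣ Nat.card K := by
    have hcardK : Nat.card (K.subgroupOf M) = Nat.card K :=
      Nat.card_congr (Subgroup.subgroupOfEquivOfLe hKM).toEquiv
    by_cases htop : ∀ m ∈ M, m ∈ K
    · have : K = M := le_antisymm hKM htop
      rw [this]
      exact Dvd.dvd.trans (by norm_num) h8
    · push Not at htop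
      obtain ⟨a, haM, haK⟩ := htop
      have hidx : (K.subgroupOf M).index = 2 := by
        rw [Subgroup.index_eq_two_iff]
        refine ⟨⟨a, haM⟩, ?_⟩
        intro b
        rw [Subgroup.mem_subgroupOf, Subgroup.mem_subgroupOf, Subgroup.coe_mul]
        by_cases hbK : (b : SL(2, F)) ∈ K
        · right
          refine ⟨hbK, ?_⟩
          intro hba
          apply haK
          have := K.mul_mem (K.inv_mem hbK) hba
          rwa [inv_mul_cancel_left] at this
        · left
          refine ⟨?_, hbK⟩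
          rw [hmemK]
          refine ⟨M.mul_mem b.2 haM, ?_⟩
          have e1 := hnot a haM haK
          have e2 := hnot b b.2 hbK
          have e3 : (b : SL(2, F)) * a * y * (↑b * a)⁻¹ = y := by
            have : (b : SL(2, F)) * a * y * (↑b * a)⁻¹ = ↑b * (a * y * a⁻¹) * (↑b)⁻¹ := by group
            rw [this, e1]
            have : (b : SL(2, F)) * y⁻¹ * (↑b)⁻¹ = (↑b * y * (↑b)⁻¹)⁻¹ := by group
            rw [this, e2, inv_inv]
          calc (b : SL(2, F)) * a * y = (↑b * a * y * (↑b * a)⁻¹) * (↑b * a) := by group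
            _ = y * (↑b * a) := by rw [e3]
      have h := Subgroup.card_mul_index (K.subgroupOf M)
      rw [hidx, hcardK] at h
      rw [← h] at h8
      omega
  -- an element of order four centralizing `y`
  have hfinK : Finite K := inferInstance
  obtain ⟨R', hR'⟩ := Sylow.exists_subgroup_card_pow_prime (G := K) 2 (n := 2)
    (show 2 ^ 2 ∣ Nat.card K from h4K)
  have hR4 : Nat.card R' = 4 := by rw [hR']; norm_num
  obtain ⟨u, huR, huord⟩ := exists_orderOf_four h2F (R'.map K.subtype) (by
    rw [← hR4]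
    exact (Nat.card_congr (R'.equivMapOfInjective _ (Subgroup.subtype_injective _)).toEquiv).symm)
  have huK : u ∈ K := by
    obtain ⟨v, -, rfl⟩ := huR
    exact v.2
  have hcomm : Commute u y := ((hmemK u).1 huK).2
  have hord : orderOf (u * y) = 12 := by
    rw [hcomm.orderOf_mul_eq_mul_orderOf_of_coprime (by rw [huord, hyord]; norm_num), huord, hyord]
  have hcop : Nat.Coprime (orderOf (u * y)) p := by
    rw [hord]
    have h12 : (12 : ℕ) = 2 ^ 2 * 3 := by norm_num
    rw [h12]
    apply Nat.Coprime.mul_left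
    · apply Nat.Coprime.pow_left
      rw [Nat.coprime_primes Nat.prime_two hpp]
      omega
    · rw [Nat.coprime_primes Nat.prime_three hpp]
      omega
  have := Cfsg.Agent.S0800.result (F := F) rfl p (u * y) hcop
  rwa [hord] at this


/-- Hall subgroups of the normalizer of the split torus. -/
theorem exists_minus (hodd : Odd (Fintype.card F)) (h3 : 3 ∣ Fintype.card F - 1) (m n : ℕ)
    (hmn : 2 * (Fintype.card F - 1) = m * n) (hcop : m.Coprime n) :
    ∃ M : Subgroup SL(2, F), Nat.card M = m := by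
  classical
  have hcT : Nat.card (Cfsg.Agent.S2428.diagSub F) = Fintype.card F - 1 :=
    Cfsg.Agent.S2428.card_diagSub
  obtain ⟨d, hd⟩ := exists_prime_orderOf_dvd_card' (G := Cfsg.Agent.S2428.diagSub F) 3
    (by rw [hcT]; exact h3)
  have hdord : orderOf (d : SL(2, F)) = 3 := by
    rw [Subgroup.orderOf_coe]; exact hd
  have hda := Cfsg.Agent.S2430.sq_ne_one_of_orderOf (d : SL(2, F)) d.2 3 Nat.prime_three
    (by norm_num) hdord
  have hres := Cfsg.Agent.S2428.result hodd (d : SL(2, F)) d.2.1 d.2.2 hda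
  rw [Cfsg.Agent.S2428.centralizer_eq (d : SL(2, F)) d.2.1 d.2.2 hda] at hres
  obtain ⟨-, hNT, -, -⟩ := hres
  exact exists_card_of_normalizer (Cfsg.Agent.S2428.diagSub F)
    (fun a ha b hb => Cfsg.Agent.S2430.diagSub_comm a b ha hb) (by rw [hNT, hcT]) m n
    (by rw [hcT]; exact hmn) hcop

open Cfsg.Agent.Lib.Helper41_SL2 Cfsg.Agent.Lib.Helper41_SL2Torus in
/-- Hall subgroups of the normalizer of the non-split torus. -/
theorem exists_plus (hodd : Odd (Fintype.card F)) (m n : ℕ)
    (hmn : 2 * (Fintype.card F + 1) = m * n) (hcop : m.Coprime n) :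
    ∃ M : Subgroup SL(2, F), Nat.card M = m := by
  classical
  obtain ⟨a, ha⟩ := exists_no_root (F := F)
  have : Fact (∀ r : F, r ^ 2 ≠ a + 1 * r) := ⟨ha⟩
  have hcT : Nat.card (nsTorus a 1) = Fintype.card F + 1 := card_nsTorus a 1
  obtain ⟨hNT, -⟩ := normalizer_nsTorus_odd a 1 hodd
  exact exists_card_of_normalizer (nsTorus a 1)
    (fun x hx y hy => nsTorus_comm a 1 x y hx hy) (by rw [hNT, hcT]) m n
    (by rw [hcT]; exact hmn) hcop

/-- A subgroup of even order contains the center. -/
theorem center_le_of_even (h2 : (2 : F) ≠ 0) (M : Subgroup SL(2, F)) (hM : 2 ∣ Nat.card M) :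
    Subgroup.center SL(2, F) ≤ M := by
  classical
  obtain ⟨u', hu'⟩ := exists_prime_orderOf_dvd_card' (G := M) 2 hM
  have huord : orderOf (u' : SL(2, F)) = 2 := by rw [Subgroup.orderOf_coe]; exact hu'
  have hu1 : (u' : SL(2, F)) ≠ 1 := by
    intro h
    rw [h, orderOf_one] at huord
    omega
  have husq : (u' : SL(2, F)) * (u' : SL(2, F)) = 1 := by
    have hpow := pow_orderOf_eq_one (u' : SL(2, F))
    rw [huord] at hpow
    rw [← pow_two]
    exact hpow
  have hun := eq_negOne_of_sq h2 husq hu1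
  intro z hz
  by_cases hz1 : z = 1
  · rw [hz1]; exact M.one_mem
  · have hzsq : z * z = 1 := by
      rw [Matrix.SpecialLinearGroup.mem_center_iff] at hz
      obtain ⟨r, hr, hrz⟩ := hz
      apply Subtype.ext
      rw [Matrix.SpecialLinearGroup.coe_mul, ← hrz, Matrix.SpecialLinearGroup.coe_one]
      rw [← map_mul, ← pow_two]
      simp only [Fintype.card_fin] at hr
      rw [hr, map_one]
    rw [eq_negOne_of_sq h2 hzsq hz1, ← hun]
    exact u'.2

/-- The image in `PSL(2,F)` of a subgroup of even order. -/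
theorem exists_psl_card (h2 : (2 : F) ≠ 0) (M : Subgroup SL(2, F)) (hM : 2 ∣ Nat.card M) :
    ∃ H : Subgroup PSL(2, F), Nat.card H * 2 = Nat.card M := by
  refine ⟨M.map (QuotientGroup.mk' (Subgroup.center SL(2, F))), ?_⟩
  rw [← Cfsg.Agent.Lib.Helper51_SL2Cases.card_comap_mk h2, Subgroup.comap_map_eq,
    QuotientGroup.ker_mk', sup_eq_left.2 (center_le_of_even h2 M hM)]

end sl2

end Cfsg.Agent.Lib.Helper39_PSL2HallGT
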