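import Cfsg.Agent.Lib.Helper50_PUDefs

set_option autoImplicit false

/-!
Package JCORE of helper50's `pu_packages` market (S2768 / S2769 / S2770), by helper39:
`J(S) Q = S`, the abelian subgroups of largest order of `Q` are those of `S` inside `Q`, and
`J(Q) ≤ J(S)`.
-/

namespace Cfsg.Agent.Lib.Helper39_PU_JCORE

open scoped commutatorElement
open Cfsg.Agent.Lib.Helper50_PUDefs Cfsg.Agent.Lib.Helper51_Offender Cfsg.Agent.Lib.Helper72_AbelianJ

section General

variable {G : Type*} [Group G] [Finite G]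

/-- an abelian subgroup of largest order of `T` (inside `G`) comes from one of the group `↥T` -/
theorem h39_subgroupOf_mem_maxAbelian {T A : Subgroup G} (hA : IsMaxAbIn T A) :
    A.subgroupOf T ∈ Cfsg.maxAbelianSubgroups T := by
  haveI := hA.2.1
  refine ⟨inferInstance, ?_⟩
  intro B' hB'
  have h1 : Nat.card (A.subgroupOf T) = Nat.card A :=
    Nat.card_congr (Subgroup.subgroupOfEquivOfLe hA.1).toEquiv
  have h2 : Nat.card (B'.map T.subtype) = Nat.card B' :=
    Subgroup.card_map_of_injective T.subtype_injective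
  have h3 : IsMulCommutative (B'.map T.subtype) := Subgroup.map_isMulCommutative B' T.subtype
  rw [h1, ← h2]
  exact hA.2.2 _ (Subgroup.map_subtype_le _) h3

/-- the abelian-version Thompson subgroup of `T` is generated by the abelian subgroups of largest
order of `T` -/
theorem h39_JS_eq_sSup (T : Subgroup G) :
    Cfsg.thompsonSubgroupAOf T = sSup {A : Subgroup G | IsMaxAbIn T A} := by
  unfold Cfsg.thompsonSubgroupAOf Cfsg.thompsonSubgroupA
  rw [(Subgroup.gc_map_comap T.subtype).l_sSup]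
  apply le_antisymm
  · apply iSup₂_le
    intro A' hA'
    exact le_sSup (isMaxAbIn_map hA')
  · apply sSup_le
    intro A hA
    have h1 := h39_subgroupOf_mem_maxAbelian hA
    have h2 : (A.subgroupOf T).map T.subtype = A := by
      rw [Subgroup.map_subgroupOf_eq_of_le hA.1]
    calc A = (A.subgroupOf T).map T.subtype := h2.symm
      _ ≤ ⨆ A' ∈ Cfsg.maxAbelianSubgroups T, A'.map T.subtype :=
        le_iSup₂ (f := fun (A' : Subgroup T) (_ : A' ∈ Cfsg.maxAbelianSubgroups T) =>
          A'.map T.subtype) _ h1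

theorem h39_JS_le (T : Subgroup G) : Cfsg.thompsonSubgroupAOf T ≤ T := by
  unfold Cfsg.thompsonSubgroupAOf
  exact Subgroup.map_subtype_le _

end General

section Main

variable {G : Type*} [Group G] [Finite G] {p : ℕ} [Fact p.Prime] {S : Sylow p G}

local notation "Q" => Cfsg.pCore p G
local notation "V" => VS (S : Subgroup G)
local notation "Z" => ZS (S : Subgroup G)
local notation "J" => JS (S : Subgroup G)
local notation "Y" => YS (S : Subgroup G)
local notation "B" => BS (S : Subgroup G)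
local notation "ZD" => YS (Cfsg.pCore p G)
local notation "LJ" => Subgroup.normalClosure ((JS (S : Subgroup G) : Subgroup G) : Set G)
local notation "Q₀" => Cfsg.pCore p G ⊓ Subgroup.centralizer ((YS (S : Subgroup G) : Subgroup G) : Set G)

-- PKG JCORE
theorem j_core (h : MainCase p S) (hvb : VBasic p S)
    (hst : ∀ A : Subgroup G, IsMaxAbIn (S : Subgroup G) A → ¬ A ≤ Q →
      A ⊔ Q = (S : Subgroup G) ∧ IsMaxAbIn (S : Subgroup G) ((A ⊓ Q) ⊔ V)) :
    J ⊔ Q = (S : Subgroup G) ∧
      (∀ A' : Subgroup G, IsMaxAbIn Q A' ↔ (IsMaxAbIn (S : Subgroup G) A' ∧ A' ≤ Q)) ∧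
      JS Q ≤ J := by
  have hJeq : J = sSup {A : Subgroup G | IsMaxAbIn (S : Subgroup G) A} := h39_JS_eq_sSup _
  -- an abelian subgroup of largest order outside `Q`
  obtain ⟨A, hA, hAQ⟩ : ∃ A : Subgroup G, IsMaxAbIn (S : Subgroup G) A ∧ ¬ A ≤ Q := by
    by_contra hcon
    push_neg at hcon
    apply h.hJ
    rw [hJeq]
    exact sSup_le (fun A hA => hcon A hA)
  obtain ⟨hAQS, hA1⟩ := hst A hA hAQ
  have hAJ : A ≤ J := by
    rw [hJeq]
    exact le_sSup hA
  have hA1Q : (A ⊓ Q) ⊔ V ≤ Q := sup_le inf_le_right hvb.V_le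
  have hiff : ∀ A' : Subgroup G,
      IsMaxAbIn Q A' ↔ (IsMaxAbIn (S : Subgroup G) A' ∧ A' ≤ Q) := by
    intro A'
    constructor
    · intro hA'
      refine ⟨⟨hA'.1.trans hvb.core_le, hA'.2.1, ?_⟩, hA'.1⟩
      intro D hD hDc
      exact (hA1.2.2 D hD hDc).trans (hA'.2.2 _ hA1Q hA1.2.1)
    · rintro ⟨hA', hA'Q⟩
      exact ⟨hA'Q, hA'.2.1, fun D hD hDc => hA'.2.2 D (hD.trans hvb.core_le) hDc⟩
  refine ⟨?_, hiff, ?_⟩
  · apply le_antisymm
    · exact sup_le (h39_JS_le _) hvb.core_le
    · calc (S : Subgroup G) = A ⊔ Q := hAQS.symm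
        _ ≤ J ⊔ Q := sup_le_sup_right hAJ _
  · have hJQeq : JS Q = sSup {A : Subgroup G | IsMaxAbIn Q A} := h39_JS_eq_sSup _
    rw [hJQeq, hJeq]
    apply sSup_le
    intro A' hA'
    exact le_sSup ((hiff A').mp hA').1

end Main

end Cfsg.Agent.Lib.Helper39_PU_JCORE
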