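import Cfsg.Agent.Lib.Helper50_PUDefs

set_option autoImplicit false

/-!
Package MAXAB of helper50's `pu_packages` market (S2768 / S2769 / S2770), by helper39: an abelian
subgroup `A` of largest order of `S` with `A ≰ Q` satisfies `A ⊔ Q = S`, and `(A ⊓ Q) ⊔ V` is again
an abelian subgroup of largest order.
-/

namespace Cfsg.Agent.Lib.Helper39_PU_MAXAB

open scoped commutatorElement
open Cfsg.Agent.Lib.Helper50_PUDefs Cfsg.Agent.Lib.Helper51_Offender Cfsg.Agent.Lib.Helper72_AbelianJ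

section Main

variable {G : Type*} [Group G] [Finite G] {p : ℕ} [Fact p.Prime] {S : Sylow p G}

local notation "Q" => Cfsg.pCore p G
local notation "V" => VS (S : Subgroup G)
local notation "Z" => ZS (S : Subgroup G)
local notation "J" => JS (S : Subgroup G)
local notation "Y" => YS (S : Subgroup G)
local notation "B" => BS (S : Subgroup G)
local notation "ZD" => YS (Cfsg.pCore p G)
local notation "LJ" => Subgroup.normalClosure ((JS (S : Subgroup G) : Subgroup G) : Set G)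
local notation "Q₀" => Cfsg.pCore p G ⊓ Subgroup.centralizer ((YS (S : Subgroup G) : Subgroup G) : Set G)

/-- an abelian subgroup of largest order of `T` contains `Z(T)` -/
theorem h39_ZS_le_of_isMaxAbIn {T A : Subgroup G} (hA : IsMaxAbIn T A) : ZS T ≤ A := by
  have hZc : IsMulCommutative (ZS T) := by
    rw [← Subgroup.le_centralizer_iff_isMulCommutative]
    exact inf_le_right.trans (Subgroup.centralizer_le (by exact_mod_cast (inf_le_left : ZS T ≤ T)))
  have hAZ : A ≤ Subgroup.centralizer ((ZS T : Subgroup G) : Set G) := by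
    intro a ha
    rw [Subgroup.mem_centralizer_iff]
    intro z hz
    exact ((Subgroup.mem_centralizer_iff.mp hz.2) a (hA.1 ha)).symm
  have hc : IsMulCommutative (A ⊔ ZS T : Subgroup G) :=
    Cfsg.Agent.Lib.Helper50_CL2.isMulCommutative_sup hA.2.1 hZc hAZ
  have hle : A ⊔ ZS T ≤ T := sup_le hA.1 inf_le_left
  have hcard := hA.2.2 _ hle hc
  have heq : A = A ⊔ ZS T := Subgroup.eq_of_le_of_card_ge le_sup_left hcard
  rw [heq]
  exact le_sup_right

-- PKG MAXAB
theorem maxab_struct (h : MainCase p S) (hvb : VBasic p S)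
    (hcard : Nat.card Q * Nat.card V = Nat.card (S : Subgroup G) * Nat.card (CV V (S : Subgroup G)))
    (hce : ∀ a ∈ (S : Subgroup G), a ∉ Q →
      V ⊓ Subgroup.centralizer ({a} : Set G) = CV V (S : Subgroup G))
    (A : Subgroup G) (hA : IsMaxAbIn (S : Subgroup G) A) (hAQ : ¬ A ≤ Q) :
    A ⊔ Q = (S : Subgroup G) ∧ IsMaxAbIn (S : Subgroup G) ((A ⊓ Q) ⊔ V) := by
  haveI hQn : (Q).Normal := hvb.core_normal
  haveI hVn : (V).Normal := Subgroup.normalClosure_normal
  obtain ⟨a, haA, haQ⟩ := SetLike.not_le_iff_exists.mp hAQ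
  have haS : a ∈ (S : Subgroup G) := hA.1 haA
  have hZA : Z ≤ A := h39_ZS_le_of_isMaxAbIn hA
  have hZV : Z ≤ V := Subgroup.le_normalClosure
  -- `A ⊓ V = Z`
  have hAV : A ⊓ V = Z := by
    apply le_antisymm
    · intro x hx
      have hx1 : x ∈ V ⊓ Subgroup.centralizer ({a} : Set G) := by
        refine Subgroup.mem_inf.mpr ⟨hx.2, ?_⟩
        rw [Subgroup.mem_centralizer_singleton_iff]
        haveI := hA.2.1
        exact setLike_mul_comm hx.1 haA
      rw [hce a haS haQ, hvb.cv] at hx1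
      exact hx1
    · exact le_inf hZA hZV
  -- `A₁ = (A ⊓ Q) ⊔ V` is abelian
  have hAQc : IsMulCommutative (A ⊓ Q : Subgroup G) :=
    Cfsg.Agent.Lib.Helper50_CL2.isMulCommutative_of_le hA.2.1 inf_le_left
  have hA1c : IsMulCommutative ((A ⊓ Q) ⊔ V : Subgroup G) :=
    Cfsg.Agent.Lib.Helper50_CL2.isMulCommutative_sup hAQc hvb.comm (inf_le_right.trans hvb.cent)
  have hA1S : (A ⊓ Q) ⊔ V ≤ (S : Subgroup G) :=
    sup_le (inf_le_left.trans hA.1) (hvb.V_le.trans hvb.core_le)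
  have hA1card : Nat.card ↥((A ⊓ Q) ⊔ V) ≤ Nat.card A := hA.2.2 _ hA1S hA1c
  -- product formulas
  have hinf : V ⊓ (A ⊓ Q) = Z := by
    rw [← hAV]
    apply le_antisymm
    · exact le_inf (inf_le_right.trans inf_le_left) inf_le_left
    · exact le_inf inf_le_right (le_inf inf_le_left (inf_le_right.trans hvb.V_le))
  have hf1 : Nat.card ↥(V ⊔ (A ⊓ Q)) * Nat.card ↥(V ⊓ (A ⊓ Q)) =
      Nat.card V * Nat.card ↥(A ⊓ Q) :=
    card_sup_mul_card_inf V (A ⊓ Q) (by
      rw [Subgroup.normalizer_eq_top_iff.mpr hVn]; exact le_top)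
  rw [hinf, sup_comm] at hf1
  have hf2 : Nat.card ↥(Q ⊔ A) * Nat.card ↥(Q ⊓ A) = Nat.card Q * Nat.card A :=
    card_sup_mul_card_inf Q A (by
      rw [Subgroup.normalizer_eq_top_iff.mpr hQn]; exact le_top)
  rw [sup_comm, inf_comm] at hf2
  have hAQS : A ⊔ Q ≤ (S : Subgroup G) := sup_le hA.1 hvb.core_le
  have hle2 : Nat.card ↥(A ⊔ Q) ≤ Nat.card (S : Subgroup G) := Subgroup.card_le_of_le hAQS
  rw [hvb.cv] at hcard
  have hZpos : 0 < Nat.card Z := Nat.card_pos
  have hQpos : 0 < Nat.card Q := Nat.card_pos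
  have hIpos : 0 < Nat.card ↥(A ⊓ Q) := Nat.card_pos
  -- the chain of (in)equalities
  have key : Nat.card A * (Nat.card Q * Nat.card Z) ≤
      Nat.card ↥((A ⊓ Q) ⊔ V) * (Nat.card Q * Nat.card Z) := by
    calc Nat.card A * (Nat.card Q * Nat.card Z)
        = (Nat.card Q * Nat.card A) * Nat.card Z := by ring
      _ = (Nat.card ↥(A ⊔ Q) * Nat.card ↥(A ⊓ Q)) * Nat.card Z := by rw [hf2]
      _ ≤ (Nat.card (S : Subgroup G) * Nat.card ↥(A ⊓ Q)) * Nat.card Z := by gcongr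
      _ = (Nat.card (S : Subgroup G) * Nat.card Z) * Nat.card ↥(A ⊓ Q) := by ring
      _ = (Nat.card Q * Nat.card V) * Nat.card ↥(A ⊓ Q) := by rw [hcard]
      _ = Nat.card Q * (Nat.card V * Nat.card ↥(A ⊓ Q)) := by ring
      _ = Nat.card Q * (Nat.card ↥((A ⊓ Q) ⊔ V) * Nat.card Z) := by rw [hf1]
      _ = Nat.card ↥((A ⊓ Q) ⊔ V) * (Nat.card Q * Nat.card Z) := by ring
  have hge : Nat.card A ≤ Nat.card ↥((A ⊓ Q) ⊔ V) :=
    Nat.le_of_mul_le_mul_right key (Nat.mul_pos hQpos hZpos)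
  have hA1eq : Nat.card ↥((A ⊓ Q) ⊔ V) = Nat.card A := le_antisymm hA1card hge
  -- equality forces `|A ⊔ Q| = |S|`
  have hSle : Nat.card (S : Subgroup G) ≤ Nat.card ↥(A ⊔ Q) := by
    have e1 : Nat.card (S : Subgroup G) * (Nat.card ↥(A ⊓ Q) * Nat.card Z) =
        Nat.card ↥(A ⊔ Q) * (Nat.card ↥(A ⊓ Q) * Nat.card Z) := by
      calc Nat.card (S : Subgroup G) * (Nat.card ↥(A ⊓ Q) * Nat.card Z)
          = (Nat.card (S : Subgroup G) * Nat.card Z) * Nat.card ↥(A ⊓ Q) := by ring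
        _ = (Nat.card Q * Nat.card V) * Nat.card ↥(A ⊓ Q) := by rw [hcard]
        _ = Nat.card Q * (Nat.card V * Nat.card ↥(A ⊓ Q)) := by ring
        _ = Nat.card Q * (Nat.card ↥((A ⊓ Q) ⊔ V) * Nat.card Z) := by rw [hf1]
        _ = (Nat.card Q * Nat.card A) * Nat.card Z := by rw [hA1eq]; ring
        _ = (Nat.card ↥(A ⊔ Q) * Nat.card ↥(A ⊓ Q)) * Nat.card Z := by rw [hf2]
        _ = Nat.card ↥(A ⊔ Q) * (Nat.card ↥(A ⊓ Q) * Nat.card Z) := by ring
    exact le_of_eq (Nat.eq_of_mul_eq_mul_right (Nat.mul_pos hIpos hZpos) e1)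
  refine ⟨Subgroup.eq_of_le_of_card_ge hAQS hSle, hA1S, hA1c, ?_⟩
  intro D hD hDc
  rw [hA1eq]
  exact hA.2.2 D hD hDc

end Main

end Cfsg.Agent.Lib.Helper39_PU_MAXAB
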