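import Mathlib
import Cfsg.Agent.Lib.Helper6_S6Defs

set_option autoImplicit false

/-!
S6 market (helper6, S3333), package MINC: a minimal normal subgroup `L₁ < L` of `L` with
`|L₁ ∩ S| = 3` forces `S ⊴ G`.  (helper39)
-/

namespace Cfsg.Agent.Lib.Helper39_S6_MINC

open Cfsg.Agent.Lib.Helper6_S6Defs Equiv Equiv.Perm

variable {G : Type*} [Group G] [Finite G] {S : Subgroup G}

/-- `L ≤ N(K)` from the elementwise statement -/
theorem h39_le_normalizer {G : Type*} [Group G] (L K : Subgroup G)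
    (h : ∀ l ∈ L, ∀ k ∈ K, l * k * l⁻¹ ∈ K) : L ≤ Subgroup.normalizer (K : Set G) := by
  intro l hl
  rw [Subgroup.mem_normalizer_iff]
  intro x
  constructor
  · intro hx
    exact h l hl x hx
  · intro hx
    have h1 := h l⁻¹ (L.inv_mem hl) _ hx
    have h2 : l⁻¹ * (l * x * l⁻¹) * l⁻¹⁻¹ = x := by group
    rwa [h2] at h1

/-- the elementwise statement from `L ≤ N(K)` -/
theorem h39_conj_mem {G : Type*} [Group G] {L K : Subgroup G}
    (h : L ≤ Subgroup.normalizer (K : Set G)) : ∀ l ∈ L, ∀ k ∈ K, l * k * l⁻¹ ∈ K :=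
  fun l hl k hk => (Subgroup.mem_normalizer_iff.mp (h hl) k).mp hk

/-- membership in a conjugate subgroup -/
theorem h39_mem_conj {G : Type*} [Group G] (K : Subgroup G) (g x : G) :
    x ∈ K.map (MulAut.conj g).toMonoidHom ↔ ∃ k ∈ K, g * k * g⁻¹ = x := by
  rw [Subgroup.mem_map]
  rfl

/-- the cardinality of a conjugate subgroup -/
theorem h39_card_conj {G : Type*} [Group G] (K : Subgroup G) (g : G) :
    Nat.card ↥(K.map (MulAut.conj g).toMonoidHom) = Nat.card ↥K :=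
  Nat.card_congr (K.equivMapOfInjective _ (MulAut.conj g).injective).toEquiv.symm

/-- an element of `N_G(S)` with `x ^ 9 = 1` lies in `S` -/
theorem h39_nine_mem (D : Setup G S) (x : G) (hx : x ∈ Subgroup.normalizer (S : Set G))
    (h9 : x ^ 9 = 1) : x ∈ S := by
  rw [← D.ker ⟨x, hx⟩]
  have h1 : D.π ⟨x, hx⟩ ^ 9 = 1 := by
    rw [← map_pow]
    have : (⟨x, hx⟩ : ↥(Subgroup.normalizer (S : Set G))) ^ 9 = 1 := Subtype.ext (by simpa using h9)
    rw [this, map_one]
  have key : ∀ d : DihedralGroup 4, d ^ 9 = 1 → d = 1 := by decide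
  exact key _ h1

/-- elements of `S` have ninth power `1` -/
theorem h39_pow_nine (D : Setup G S) (x : G) (hx : x ∈ S) : x ^ 9 = 1 := by
  have h1 : (⟨x, hx⟩ : ↥S) ^ Nat.card ↥S = 1 := pow_card_eq_one'
  rw [D.card] at h1
  have := congrArg Subtype.val h1
  simpa using this

/-- conjugates of a subgroup normal in the normal subgroup `L` are normalized by `L` and lie in `L` -/
theorem h39_conj_facts {G : Type*} [Group G] (L : Subgroup G) [L.Normal] (K : Subgroup G)
    (h1 : K ≤ L) (hn : L ≤ Subgroup.normalizer (K : Set G)) (g : G) :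
    K.map (MulAut.conj g).toMonoidHom ≤ L ∧
      L ≤ Subgroup.normalizer ((K.map (MulAut.conj g).toMonoidHom : Subgroup G) : Set G) := by
  constructor
  · intro x hx
    obtain ⟨k, hk, rfl⟩ := (h39_mem_conj K g x).mp hx
    exact ‹L.Normal›.conj_mem k (h1 hk) g
  · apply h39_le_normalizer
    intro l hl x hx
    obtain ⟨k, hk, rfl⟩ := (h39_mem_conj K g x).mp hx
    rw [h39_mem_conj]
    refine ⟨(g⁻¹ * l * g) * k * (g⁻¹ * l * g)⁻¹, ?_, by group⟩
    have hl' : g⁻¹ * l * g ∈ L := by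
      have := ‹L.Normal›.conj_mem l hl g⁻¹
      simpa using this
    exact h39_conj_mem hn _ hl' k hk

/-! ## PKG MINC (L) -/
theorem min_c (D : Setup G S) (L : Subgroup G) [L.Normal] (hSL : S ≤ L)
    (hmin : ∀ K : Subgroup G, K.Normal → K ≤ L → K = ⊥ ∨ K = L)
    (L₁ : Subgroup G) (h1 : L₁ ≤ L) (hne : L₁ ≠ L) (hn : L ≤ Subgroup.normalizer (L₁ : Set G))
    (hmin1 : ∀ K : Subgroup G, K ≤ L₁ → L ≤ Subgroup.normalizer (K : Set G) → K = ⊥ ∨ K = L₁)
    (h3 : Nat.card ↥(L₁ ⊓ S) = 3) : S.Normal := by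
  classical
  obtain ⟨P, hP⟩ := D.syl
  -- `L₁ ≠ ⊥`, and a nontrivial element `y` of `L₁ ⊓ S`
  have hYne : L₁ ⊓ S ≠ ⊥ := by
    intro h
    rw [h, Subgroup.card_bot] at h3
    omega
  obtain ⟨⟨y, hy⟩, hy1⟩ := (Subgroup.ne_bot_iff_exists_ne_one).mp hYne
  have hy1' : y ≠ 1 := fun h => hy1 (Subtype.ext h)
  have hL₁ne : L₁ ≠ ⊥ := by
    intro h
    apply hYne
    rw [h, bot_inf_eq]
  -- (a) some conjugate of `L₁` is different from `L₁`
  have hex : ∃ g : G, L₁.map (MulAut.conj g).toMonoidHom ≠ L₁ := by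
    by_contra hcon
    push Not at hcon
    have hnorm : L₁.Normal := by
      refine ⟨fun n hn' g => ?_⟩
      rw [← hcon g, h39_mem_conj]
      exact ⟨n, hn', rfl⟩
    rcases hmin L₁ hnorm h1 with h | h
    · exact hL₁ne h
    · exact hne h
  obtain ⟨g, hg⟩ := hex
  set L₁' : Subgroup G := L₁.map (MulAut.conj g).toMonoidHom with hL₁'
  obtain ⟨h1', hn'⟩ := h39_conj_facts L L₁ h1 hn g
  have hcard' : Nat.card ↥L₁' = Nat.card ↥L₁ := h39_card_conj L₁ g
  -- (b) minimality of `L₁'`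
  have hmin1' : ∀ K : Subgroup G, K ≤ L₁' → L ≤ Subgroup.normalizer (K : Set G) →
      K = ⊥ ∨ K = L₁' := by
    intro K hK hKn
    have hKL : K ≤ L := hK.trans h1'
    obtain ⟨-, hn0⟩ := h39_conj_facts L K hKL hKn g⁻¹
    have hK0 : K.map (MulAut.conj g⁻¹).toMonoidHom ≤ L₁ := by
      intro x hx
      obtain ⟨k, hk, rfl⟩ := (h39_mem_conj K g⁻¹ x).mp hx
      obtain ⟨a, ha, rfl⟩ := (h39_mem_conj L₁ g k).mp (hK hk)
      have : g⁻¹ * (g * a * g⁻¹) * g⁻¹⁻¹ = a := by group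
      rw [this]
      exact ha
    have hback : (K.map (MulAut.conj g⁻¹).toMonoidHom).map (MulAut.conj g).toMonoidHom = K := by
      ext x
      rw [h39_mem_conj]
      constructor
      · rintro ⟨k0, hk0, rfl⟩
        obtain ⟨k, hk, rfl⟩ := (h39_mem_conj K g⁻¹ k0).mp hk0
        have : g * (g⁻¹ * k * g⁻¹⁻¹) * g⁻¹ = k := by group
        rw [this]
        exact hk
      · intro hx
        refine ⟨g⁻¹ * x * g⁻¹⁻¹, (h39_mem_conj K g⁻¹ _).mpr ⟨x, hx, rfl⟩, by group⟩
    rcases hmin1 _ hK0 hn0 with h | h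
    · left
      rw [← hback, h, Subgroup.map_bot]
    · right
      rw [← hback, h]
  -- (c) `L₁ ⊓ L₁' = ⊥` and the two subgroups commute
  have hI : L₁ ⊓ L₁' = ⊥ := by
    have hIn : L ≤ Subgroup.normalizer ((L₁ ⊓ L₁' : Subgroup G) : Set G) := by
      apply h39_le_normalizer
      intro l hl k hk
      exact ⟨h39_conj_mem hn l hl k hk.1, h39_conj_mem hn' l hl k hk.2⟩
    rcases hmin1 _ inf_le_left hIn with h | h
    · exact h
    · exfalso
      have hle : L₁ ≤ L₁' := by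
        rw [← h]
        exact inf_le_right
      have : L₁ = L₁' := Subgroup.eq_of_le_of_card_ge hle (by rw [hcard'])
      exact hg this.symm
  have hcomm : ∀ a ∈ L₁, ∀ b ∈ L₁', a * b = b * a := by
    intro a ha b hb
    have hc1 : a * b * a⁻¹ * b⁻¹ ∈ L₁' :=
      L₁'.mul_mem (h39_conj_mem hn' a (h1 ha) b hb) (L₁'.inv_mem hb)
    have hc2 : a * b * a⁻¹ * b⁻¹ ∈ L₁ := by
      have := L₁.mul_mem ha (h39_conj_mem hn b (h1' hb) a⁻¹ (L₁.inv_mem ha))
      have e : a * (b * a⁻¹ * b⁻¹) = a * b * a⁻¹ * b⁻¹ := by group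
      rwa [e] at this
    have hc : a * b * a⁻¹ * b⁻¹ ∈ L₁ ⊓ L₁' := ⟨hc2, hc1⟩
    rw [hI, Subgroup.mem_bot] at hc
    calc a * b = (a * b * a⁻¹ * b⁻¹) * (b * a) := by group
      _ = b * a := by rw [hc, one_mul]
  -- (d) `L₁' ≤ N_G(S)`
  have hL₁'N : L₁' ≤ Subgroup.normalizer (S : Set G) := by
    intro b hb
    apply D.loc y hy.2 hy1'
    rw [Subgroup.mem_centralizer_iff]
    intro z hz
    rw [Set.mem_singleton_iff.mp hz]
    exact hcomm y hy.1 b hb
  -- (e) a nontrivial element of `L₁' ⊓ S`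
  have h3dvd : 3 ∣ Nat.card ↥L₁' := by
    rw [hcard', ← h3]
    exact Subgroup.card_dvd_of_le inf_le_left
  haveI : Fact (Nat.Prime 3) := ⟨Nat.prime_three⟩
  obtain ⟨x, hx⟩ := exists_prime_orderOf_dvd_card' (G := ↥L₁') 3 h3dvd
  have hx1 : (x : G) ≠ 1 := by
    intro h
    have : x = 1 := Subtype.ext h
    rw [this, orderOf_one] at hx
    omega
  have hx9 : (x : G) ^ 9 = 1 := by
    have h3x : x ^ 3 = 1 := by rw [← hx]; exact pow_orderOf_eq_one x
    have : (x : G) ^ 3 = 1 := by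
      have := congrArg Subtype.val h3x
      simpa using this
    calc (x : G) ^ 9 = ((x : G) ^ 3) ^ 3 := by rw [← pow_mul]
      _ = 1 := by rw [this, one_pow]
  have hxS : (x : G) ∈ S := h39_nine_mem D _ (hL₁'N x.2) hx9
  -- (f) `L` normalizes `L₁' ⊓ S`, hence `L₁' ≤ S`
  have hYn' : L ≤ Subgroup.normalizer ((L₁' ⊓ S : Subgroup G) : Set G) := by
    apply h39_le_normalizer
    intro l hl k hk
    have hk' : l * k * l⁻¹ ∈ L₁' := h39_conj_mem hn' l hl k hk.1
    refine ⟨hk', h39_nine_mem D _ (hL₁'N hk') ?_⟩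
    have : (l * k * l⁻¹) ^ 9 = l * k ^ 9 * l⁻¹ := by
      rw [conj_pow]
    rw [this, h39_pow_nine D k hk.2, mul_one, mul_inv_cancel]
  have hL₁'S : L₁' ≤ S := by
    rcases hmin1' _ inf_le_left hYn' with h | h
    · exfalso
      have : (x : G) ∈ L₁' ⊓ S := ⟨x.2, hxS⟩
      rw [h, Subgroup.mem_bot] at this
      exact hx1 this
    · rw [← h]
      exact inf_le_right
  -- (g) every conjugate of `L₁` lies in `S`
  have hS3 : IsPGroup 3 ↥S := by
    rw [hP]
    exact P.isPGroup'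
  have hcard9 : Nat.card ↥L₁ ∣ 3 ^ 2 := by
    rw [← hcard']
    have := Subgroup.card_dvd_of_le hL₁'S
    rw [D.card] at this
    exact this
  have hconjS : ∀ h : G, L₁.map (MulAut.conj h).toMonoidHom ≤ S := by
    intro h
    obtain ⟨-, hnh⟩ := h39_conj_facts L L₁ h1 hn h
    have hQ3 : IsPGroup 3 ↥(L₁.map (MulAut.conj h).toMonoidHom) := by
      apply IsPGroup.of_card_dvd_pow (n := 2)
      rw [h39_card_conj]
      exact hcard9
    have hsup : IsPGroup 3 ↥(S ⊔ L₁.map (MulAut.conj h).toMonoidHom : Subgroup G) :=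
      IsPGroup.to_sup_of_normal_right' hS3 hQ3 (hSL.trans hnh)
    have hmax := P.is_maximal' (Q := S ⊔ L₁.map (MulAut.conj h).toMonoidHom) hsup
      (by rw [← hP]; exact le_sup_left)
    rw [← hP] at hmax
    calc L₁.map (MulAut.conj h).toMonoidHom ≤ S ⊔ L₁.map (MulAut.conj h).toMonoidHom := le_sup_right
      _ = S := hmax
  have hW : Subgroup.normalClosure (L₁ : Set G) ≤ S := by
    unfold Subgroup.normalClosure
    rw [Subgroup.closure_le]
    intro x hx
    obtain ⟨a, ha, hax⟩ := Group.mem_conjugatesOfSet_iff.mp hx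
    obtain ⟨c, hc⟩ := isConj_iff.mp hax
    exact hconjS c ((h39_mem_conj L₁ c x).mpr ⟨a, ha, hc⟩)
  have hWne : Subgroup.normalClosure (L₁ : Set G) ≠ ⊥ := by
    intro h
    apply hL₁ne
    rw [eq_bot_iff, ← h]
    exact Subgroup.subset_normalClosure
  rcases hmin _ Subgroup.normalClosure_normal (hW.trans hSL) with h | h
  · exact absurd h hWne
  · have hLS : L = S := le_antisymm (h ▸ hW) hSL
    rw [← hLS]
    infer_instance

end Cfsg.Agent.Lib.Helper39_S6_MINC
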