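import Mathlib
import Cfsg.Agent.Lib.Helper6_S6Defs
import Cfsg.Agent.Lib.Helper31_S6_ELEM

set_option autoImplicit false

/-!
S3333 market (helper6), package ROT: an element of `N_G(S)` mapping to the rotation `r 2` of `D8`
inverts `S`.  `rot_inv_of` takes the statement of package ELEM as a hypothesis.  (helper55)
-/

namespace Cfsg.Agent.Lib.Helper55_S6_ROT

open Cfsg.Agent.Lib.Helper6_S6Defs Equiv Equiv.Perm
open scoped Pointwise

variable {G : Type*} [Group G] [Finite G] {S : Subgroup G}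

theorem h55_c4 {H : Type*} [Group H] (w x : H) :
    w * (w * (w * (w * x * w⁻¹) * w⁻¹) * w⁻¹) * w⁻¹ = w ^ 4 * x * (w ^ 4)⁻¹ := by
  simp only [pow_succ, pow_zero, one_mul, mul_inv_rev, mul_assoc]

theorem h55_c2 {H : Type*} [Group H] (w x : H) :
    w ^ 2 * x = (w * (w * x * w⁻¹) * w⁻¹) * w ^ 2 := by
  simp only [pow_succ, pow_zero, one_mul, mul_assoc, inv_mul_cancel_left, inv_mul_cancel, mul_one]

theorem h55_c3 {H : Type*} [Group H] (w n x : H) :
    n * x * n⁻¹ = w * (w * (((w ^ 2)⁻¹ * n) * x * ((w ^ 2)⁻¹ * n)⁻¹) * w⁻¹) * w⁻¹ := by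
  simp only [pow_succ, pow_zero, one_mul, mul_inv_rev, inv_inv, mul_assoc, mul_inv_cancel_left,
    mul_inv_cancel, mul_one]

theorem h55_alg {A : Type*} [CommGroup A] (p q : A) (hp : p ^ 3 = 1) :
    (p * q) ^ 2 * (p * q⁻¹) ^ 2 = p := by
  rw [mul_pow, mul_pow, inv_pow, mul_mul_mul_comm, mul_inv_cancel, mul_one, ← pow_add]
  have : p ^ (2 + 2) = p ^ 3 * p := by rw [← pow_succ]
  rw [this, hp, one_mul]

/-- An endomorphism `b` of an abelian group of order 9 and exponent 3 with `b⁴ = 1`, `b² ≠ 1`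
satisfies `b² = -1`. -/
theorem h55_abs {A : Type*} [Group A] [Finite A] (hcard : Nat.card A = 9)
    (hcomm : ∀ a b : A, a * b = b * a) (hexp : ∀ a : A, a ^ 3 = 1) (b : A →* A)
    (h4 : ∀ x, b (b (b (b x))) = x) (hne : ∃ x, b (b x) ≠ x) : ∀ x, b (b x) = x⁻¹ := by
  classical
  let C : Subgroup A :=
    { carrier := {x | b (b x) = x}
      mul_mem' := by
        intro x y hx hy
        simp only [Set.mem_setOf_eq] at *
        rw [map_mul, map_mul, hx, hy]
      one_mem' := by simp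
      inv_mem' := by
        intro x hx
        simp only [Set.mem_setOf_eq] at *
        rw [map_inv, map_inv, hx] }
  let I : Subgroup A :=
    { carrier := {x | b (b x) = x⁻¹}
      mul_mem' := by
        intro x y hx hy
        simp only [Set.mem_setOf_eq] at *
        rw [map_mul, map_mul, hx, hy, mul_inv_rev, hcomm]
      one_mem' := by simp
      inv_mem' := by
        intro x hx
        simp only [Set.mem_setOf_eq] at *
        rw [map_inv, map_inv, hx] }
  have hmemC : ∀ x, x ∈ C ↔ b (b x) = x := fun x => Iff.rfl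
  have hmemI : ∀ x, x ∈ I ↔ b (b x) = x⁻¹ := fun x => Iff.rfl
  have hsq : ∀ x : A, x * x = 1 → x = 1 := by
    intro x hx
    have h3 := hexp x
    rw [pow_succ, pow_two, hx, one_mul] at h3
    exact h3
  have hdisj : Disjoint C I := by
    rw [Subgroup.disjoint_def]
    intro x hxC hxI
    rw [hmemC] at hxC
    rw [hmemI] at hxI
    apply hsq
    have h : x = x⁻¹ := hxC.symm.trans hxI
    exact (congrArg (fun y => x * y) h).trans (mul_inv_cancel x)
  have hmul : (C : Set A) * (I : Set A) = Set.univ := by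
    rw [Set.eq_univ_iff_forall]
    intro x
    refine ⟨(x * b (b x)) ^ 2, ?_, (x * (b (b x))⁻¹) ^ 2, ?_, ?_⟩
    · apply C.pow_mem
      show b (b (x * b (b x))) = x * b (b x)
      rw [map_mul, map_mul, h4, hcomm]
    · apply I.pow_mem
      show b (b (x * (b (b x))⁻¹)) = (x * (b (b x))⁻¹)⁻¹
      rw [map_mul, map_mul, map_inv, map_inv, h4, mul_inv_rev, inv_inv]
    · letI : CommGroup A := { (inferInstance : Group A) with mul_comm := hcomm }
      exact h55_alg x (b (b x)) (hexp x)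
  have hcompl : Subgroup.IsComplement' C I :=
    Subgroup.isComplement'_of_disjoint_and_mul_eq_univ hdisj hmul
  have hprod : Nat.card C * Nat.card I = 9 := by rw [hcompl.card_mul_card, hcard]
  have hCdvd : Nat.card C ∣ 9 := ⟨_, hprod.symm⟩
  have hCmem : Nat.card C = 1 ∨ Nat.card C = 3 ∨ Nat.card C = 9 := by
    have h : Nat.card C ∈ Nat.divisors 9 := Nat.mem_divisors.mpr ⟨hCdvd, by norm_num⟩
    have h9 : Nat.divisors 9 = {1, 3, 9} := by decide
    rw [h9] at h
    simpa using h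
  rcases hCmem with h1 | h3 | h9
  · have hI : Nat.card I = 9 := by
      rw [h1, one_mul] at hprod
      exact hprod
    have hItop : I = ⊤ := (Subgroup.card_eq_iff_eq_top I).mp (by rw [hI, hcard])
    intro x
    have hx : x ∈ I := by
      rw [hItop]
      exact Subgroup.mem_top x
    exact hx
  · have hI : Nat.card I = 3 := by
      rw [h3] at hprod
      omega
    exfalso
    obtain ⟨x, hx⟩ := hne
    have huI : x⁻¹ * b (b x) ∈ I := by
      show b (b (x⁻¹ * b (b x))) = (x⁻¹ * b (b x))⁻¹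
      rw [map_mul, map_mul, map_inv, map_inv, h4, mul_inv_rev, inv_inv, hcomm]
    have hu1 : x⁻¹ * b (b x) ≠ 1 := by
      intro h
      apply hx
      have h' := congrArg (fun y => x * y) h
      simpa using h'
    obtain ⟨u, hu⟩ : ∃ u, u = x⁻¹ * b (b x) := ⟨_, rfl⟩
    rw [← hu] at huI hu1
    have hcu : b (b u) = u⁻¹ := huI
    have hbuI : b u ∈ I := by
      show b (b (b u)) = (b u)⁻¹
      rw [← map_inv, ← hcu]
    have : Fact (Nat.Prime 3) := ⟨by norm_num⟩
    have hpow : (⟨b u, hbuI⟩ : I) ∈ Submonoid.powers (⟨u, huI⟩ : I) :=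
      mem_powers_of_prime_card hI (by
        intro h
        apply hu1
        exact congrArg Subtype.val h)
    obtain ⟨k, hk⟩ := hpow
    have hk' : u ^ k = b u := by
      have h := congrArg Subtype.val hk
      simpa using h
    have hcu2 : b (b u) = u ^ (k * k) := by
      rw [← hk', map_pow, ← hk', ← pow_mul]
    have h1' : u ^ (k * k + 1) = 1 := by
      rw [pow_succ, ← hcu2, hcu, inv_mul_cancel]
    have hord : orderOf u = 3 := orderOf_eq_prime (hexp u) hu1
    have hdvd : 3 ∣ k * k + 1 := by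
      rw [← hord]
      exact orderOf_dvd_of_pow_eq_one h1'
    have hmod : (k % 3 * (k % 3) + 1) % 3 = (k * k + 1) % 3 :=
      ((Nat.mod_modEq k 3).mul (Nat.mod_modEq k 3)).add_right 1
    have hlt : k % 3 < 3 := Nat.mod_lt _ (by norm_num)
    have h0 : (k * k + 1) % 3 = 0 := Nat.mod_eq_zero_of_dvd hdvd
    rw [h0] at hmod
    obtain ⟨r, hr⟩ : ∃ r, r = k % 3 := ⟨_, rfl⟩
    rw [← hr] at hmod hlt
    interval_cases r <;> omega
  · exfalso
    have hCtop : C = ⊤ := (Subgroup.card_eq_iff_eq_top C).mp (by rw [h9, hcard])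
    obtain ⟨x, hx⟩ := hne
    apply hx
    have hxC : x ∈ C := by
      rw [hCtop]
      exact Subgroup.mem_top x
    exact hxC

/-- **S6-ROT**, with the statement of S6-ELEM as a hypothesis. -/
theorem rot_inv_of (D : Setup G S)
    (hE : (∀ a ∈ S, ∀ b ∈ S, a * b = b * a) ∧ (∀ a ∈ S, a ^ 3 = 1))
    (n : ↥(Subgroup.normalizer (S : Set G)))
    (hn : D.π n = DihedralGroup.r 2) : ∀ x ∈ S, (n : G) * x * (n : G)⁻¹ = x⁻¹ := by
  classical
  obtain ⟨hcomm, hexp⟩ := hE
  obtain ⟨w, hw⟩ := D.surj (DihedralGroup.r 1)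
  have hwN : ∀ x ∈ S, (w : G) * x * (w : G)⁻¹ ∈ S := fun x hx =>
    (Subgroup.mem_normalizer_iff.mp w.2 x).mp hx
  -- conjugation by `w` on `S`
  let bS : ↥S →* ↥S :=
    MonoidHom.mk' (fun x => ⟨(w : G) * x * (w : G)⁻¹, hwN x x.2⟩) (by
      intro x y
      apply Subtype.ext
      simp [mul_assoc])
  have hbS : ∀ x : ↥S, ((bS x : ↥S) : G) = (w : G) * x * (w : G)⁻¹ := fun x => rfl
  -- `w ^ 4 ∈ S`
  have hw4 : ((w : G)) ^ 4 ∈ S := by
    have h1 : D.π (w ^ 4) = 1 := by
      rw [map_pow, hw, DihedralGroup.r_one_pow]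
      decide
    have h2 := (D.ker (w ^ 4)).mp h1
    simpa using h2
  have hw2 : D.π (w ^ 2) = DihedralGroup.r 2 := by
    rw [map_pow, hw, DihedralGroup.r_one_pow]
    rfl
  have h4 : ∀ x : ↥S, bS (bS (bS (bS x))) = x := by
    intro x
    apply Subtype.ext
    rw [hbS, hbS, hbS, hbS]
    rw [h55_c4, hcomm _ hw4 _ x.2, mul_inv_cancel_right]
  have hne : ∃ x : ↥S, bS (bS x) ≠ x := by
    by_contra hall
    push Not at hall
    have hcent : (w : G) ^ 2 ∈ Subgroup.centralizer (S : Set G) := by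
      rw [Subgroup.mem_centralizer_iff]
      intro x hx
      have h := congrArg Subtype.val (hall ⟨x, hx⟩)
      rw [hbS, hbS] at h
      have h' : (w : G) * ((w : G) * x * (w : G)⁻¹) * (w : G)⁻¹ = x := h
      rw [h55_c2 (w : G) x, h']
    rw [D.cent] at hcent
    have h1 : D.π (w ^ 2) = 1 := (D.ker (w ^ 2)).mpr (by simpa using hcent)
    rw [hw2] at h1
    exact absurd h1 (by decide)
  have hcommS : ∀ a b : ↥S, a * b = b * a := fun a b => Subtype.ext (hcomm _ a.2 _ b.2)
  have hexpS : ∀ a : ↥S, a ^ 3 = 1 := fun a => Subtype.ext (by simpa using hexp _ a.2)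
  have key := h55_abs D.card hcommS hexpS bS h4 hne
  -- `n = w ^ 2 * s` with `s ∈ S`
  have hs : ((w : G) ^ 2)⁻¹ * (n : G) ∈ S := by
    have h1 : D.π ((w ^ 2)⁻¹ * n) = 1 := by
      rw [map_mul, map_inv, hw2, hn, inv_mul_cancel]
    have h2 := (D.ker ((w ^ 2)⁻¹ * n)).mp h1
    simpa using h2
  intro x hx
  have hkx := congrArg Subtype.val (key ⟨x, hx⟩)
  rw [hbS, hbS] at hkx
  have hkx' : (w : G) * ((w : G) * x * (w : G)⁻¹) * (w : G)⁻¹ = x⁻¹ := hkx
  have hsx : (((w : G) ^ 2)⁻¹ * (n : G)) * x * (((w : G) ^ 2)⁻¹ * (n : G))⁻¹ = x := by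
    rw [hcomm _ hs _ hx, mul_inv_cancel_right]
  rw [h55_c3 (w : G) (n : G) x, hsx, hkx']

/-- **S6-ROT**: an element of `N_G(S)` over the rotation `r 2` inverts `S`. -/
theorem rot_inv (D : Setup G S) (n : ↥(Subgroup.normalizer (S : Set G)))
    (hn : D.π n = DihedralGroup.r 2) : ∀ x ∈ S, (n : G) * x * (n : G)⁻¹ = x⁻¹ :=
  rot_inv_of D (Cfsg.Agent.Lib.Helper31_S6_ELEM.elem D) n hn

end Cfsg.Agent.Lib.Helper55_S6_ROT
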