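import Mathlib
import Cfsg.Agent.Lib.Helper6_S6Defs

set_option autoImplicit false
set_option linter.unusedSectionVars false

namespace Cfsg.Agent.Lib.Helper57_S6_IRRaux

open Cfsg.Agent.Lib.Helper6_S6Defs Equiv Equiv.Perm

variable {G : Type*} [Group G] [Finite G] {S : Subgroup G}

/-- in a subgroup of order 3 every element is `1`, `y` or `y⁻¹` (for `y ≠ 1`). -/
theorem h57_three_elts (Y : Subgroup G) (hY3 : Nat.card Y = 3) {y : G} (hyY : y ∈ Y) (hy1 : y ≠ 1) :
    y ^ 3 = 1 ∧ ∀ z ∈ Y, z = 1 ∨ z = y ∨ z = y⁻¹ := by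
  have hp : Fact (Nat.Prime 3) := ⟨Nat.prime_three⟩
  have hy3 : y ^ 3 = 1 := by
    have h := pow_card_eq_one' (G := ↥Y) (x := ⟨y, hyY⟩)
    rw [hY3] at h
    have := congrArg Subtype.val h
    simpa using this
  refine ⟨hy3, ?_⟩
  intro z hz
  have hy1' : (⟨y, hyY⟩ : ↥Y) ≠ 1 := by
    intro h
    exact hy1 (congrArg Subtype.val h)
  have hmem : (⟨z, hz⟩ : ↥Y) ∈ Subgroup.zpowers (⟨y, hyY⟩ : ↥Y) :=
    mem_zpowers_of_prime_card hY3 hy1'
  obtain ⟨k, hk⟩ := hmem
  have hzk : z = y ^ k := by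
    have := congrArg Subtype.val hk
    simpa using this.symm
  have hmod : y ^ k = y ^ (k % 3) := by
    conv_lhs => rw [← Int.emod_add_mul_ediv k 3]
    rw [zpow_add, zpow_mul, zpow_ofNat, hy3, one_zpow, mul_one]
  have h0 : 0 ≤ k % 3 := Int.emod_nonneg _ (by norm_num)
  have h3 : k % 3 < 3 := Int.emod_lt_of_pos _ (by norm_num)
  rw [hzk, hmod]
  generalize k % 3 = r at h0 h3
  interval_cases r
  · left; simp
  · right; left; simp
  · right; right
    apply eq_inv_of_mul_eq_one_left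
    have : y ^ (2 : ℤ) * y = y ^ 3 := by
      rw [zpow_ofNat, pow_succ y 2]
    rw [this, hy3]

/-- ## PKG IRR (S), with `rot_inv` (PKG ROT) as a hypothesis -/
theorem no_inv_line_aux (D : Setup G S)
    (rot_inv : ∀ n : ↥(Subgroup.normalizer (S : Set G)), D.π n = DihedralGroup.r 2 →
      ∀ x ∈ S, (n : G) * x * (n : G)⁻¹ = x⁻¹)
    (Y : Subgroup G) (hY : Y ≤ S) (hY3 : Nat.card Y = 3) :
    ¬ ∀ n ∈ Subgroup.normalizer (S : Set G), ∀ y ∈ Y, n * y * n⁻¹ ∈ Y := by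
  intro hN
  obtain ⟨y, hyY, hy1⟩ : ∃ y ∈ Y, y ≠ 1 := by
    by_contra hcon
    push Not at hcon
    have : Y = ⊥ := (Subgroup.eq_bot_iff_forall _).mpr hcon
    rw [this, Subgroup.card_bot] at hY3
    omega
  obtain ⟨hy3, hall⟩ := h57_three_elts Y hY3 hyY hy1
  obtain ⟨w, hw⟩ := D.surj (DihedralGroup.r 1)
  set c : G := (w : G) with hc
  have hcy : c * y * c⁻¹ ∈ Y := hN c w.2 y hyY
  -- conjugation by `c ^ 2` fixes `y`
  have hfix : (c * c) * y * (c * c)⁻¹ = y := by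
    have e : (c * c) * y * (c * c)⁻¹ = c * (c * y * c⁻¹) * c⁻¹ := by group
    rcases hall _ hcy with h | h | h
    · exfalso
      apply hy1
      have : y = c⁻¹ * (c * y * c⁻¹) * c := by group
      rw [this, h]; group
    · rw [e, h, h]
    · rw [e, h]
      have : c * y⁻¹ * c⁻¹ = (c * y * c⁻¹)⁻¹ := by group
      rw [this, h, inv_inv]
  -- but it inverts `y`
  have hπ : D.π (w * w) = DihedralGroup.r 2 := by
    rw [map_mul, hw, DihedralGroup.r_mul_r]
    rfl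
  have hinv := rot_inv (w * w) hπ y (hY hyY)
  have hval : ((w * w : ↥(Subgroup.normalizer (S : Set G))) : G) = c * c := rfl
  rw [hval, hfix] at hinv
  -- `y = y⁻¹` and `y ^ 3 = 1` give `y = 1`
  apply hy1
  have h2 : y * y = 1 := by
    nth_rewrite 1 [hinv]
    exact inv_mul_cancel y
  have : y ^ 3 = y := by
    rw [pow_succ, pow_two, h2, one_mul]
  rw [← this, hy3]

end Cfsg.Agent.Lib.Helper57_S6_IRRaux
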