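import Mathlib
import Cfsg.Agent.Lib.Helper6_S6Defs

/-!
# S3333 package NSUB (helper6's market `s6_packages`)

`le_of_normal_of` : NSUB with the three packages it uses (K3, IRR, SYLINT) as hypotheses.
-/

set_option autoImplicit false

namespace Cfsg.Agent.Lib.Helper5_S6_NSUB

open Cfsg.Agent.Lib.Helper6_S6Defs Equiv Equiv.Perm

variable {G : Type*} [Group G] [Finite G] {S : Subgroup G}

/-- NSUB with the statements of K3, IRR, SYLINT (at `p = 3`, `H = G`) as hypotheses. -/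
theorem le_of_normal_of (D : Setup G S)
    (K3 : ∀ K : Subgroup G, (∀ s ∈ S, ∀ k ∈ K, s * k * s⁻¹ ∈ K) → (Nat.card K).Coprime 3 → K = ⊥)
    (IRR : ∀ Y : Subgroup G, Y ≤ S → Nat.card Y = 3 →
      ¬ ∀ n ∈ Subgroup.normalizer (S : Set G), ∀ y ∈ Y, n * y * n⁻¹ ∈ Y)
    (SYLINT : ∀ (P : Sylow 3 G) (K : Subgroup G),
      (∀ x ∈ (P : Subgroup G), ∀ k ∈ K, x * k * x⁻¹ ∈ K) →
      Nat.card ↥(K ⊓ (P : Subgroup G)) = 3 ^ (Nat.card K).factorization 3)
    (L : Subgroup G) [hLn : L.Normal] (hL : L ≠ ⊥) : S ≤ L := by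
  obtain ⟨P, hP⟩ := D.syl
  have hnL : ∀ x : G, ∀ k ∈ L, x * k * x⁻¹ ∈ L := fun x k hk => hLn.conj_mem k hk x
  have hcard : Nat.card ↥(L ⊓ S) = 3 ^ (Nat.card L).factorization 3 := by
    have := SYLINT P L (fun x _ k hk => hnL x k hk)
    rw [← hP] at this
    exact this
  have hdvd : Nat.card ↥(L ⊓ S) ∣ 9 := by
    have := Subgroup.card_dvd_of_le (inf_le_right : L ⊓ S ≤ S)
    rwa [D.card] at this
  have hLpos : Nat.card L ≠ 0 := Nat.card_pos.ne'
  set e := (Nat.card L).factorization 3 with he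
  have he2 : e ≤ 2 := by
    rw [hcard] at hdvd
    have h9 : (9 : ℕ) = 3 ^ 2 := by norm_num
    rw [h9] at hdvd
    exact (Nat.pow_dvd_pow_iff_le_right (by norm_num : 1 < 3)).mp hdvd
  interval_cases e
  · -- `3 ∤ |L|`
    exfalso
    apply hL
    apply K3 L (fun s _ k hk => hnL s k hk)
    have h3 : ¬ 3 ∣ Nat.card L := by
      intro hd
      have := (Nat.Prime.dvd_iff_one_le_factorization Nat.prime_three hLpos).mp hd
      omega
    exact ((Nat.Prime.coprime_iff_not_dvd Nat.prime_three).mpr h3).symm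
  · -- `|L ∩ S| = 3`
    exfalso
    refine IRR (L ⊓ S) inf_le_right (by rw [hcard]; norm_num) ?_
    intro n hn y hy
    refine ⟨hnL n y hy.1, ?_⟩
    exact (Subgroup.mem_normalizer_iff.mp hn y).mp hy.2
  · -- `|L ∩ S| = 9`
    have hEq : L ⊓ S = S := by
      apply Subgroup.eq_of_le_of_card_ge inf_le_right
      rw [hcard, D.card]
      norm_num
    exact hEq ▸ inf_le_left

end Cfsg.Agent.Lib.Helper5_S6_NSUB
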