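import Mathlib
import Cfsg.Agent.Lib.Helper6_S6Defs

/-!
# S3333 market (architect helper6), package SYLINT (proof helper88)

General lemma: if the Sylow `p`-subgroup `P` normalises the subgroup `K`, then `K ⊓ P` has the
order of a Sylow `p`-subgroup of `K`.
-/

set_option autoImplicit false

namespace Cfsg.Agent.Lib.Helper88_S6_SYLINT

open Cfsg.Agent.Lib.Helper6_S6Defs Equiv Equiv.Perm

variable {G : Type*} [Group G] [Finite G] {S : Subgroup G}

/-- `|B : A| * |A| = |B|` for `A ≤ B`. -/
theorem h88_relIndex_mul_card {H : Type*} [Group H] {A C : Subgroup H} (h : A ≤ C) :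
    A.relIndex C * Nat.card A = Nat.card C := by
  have h1 := Subgroup.card_mul_index (A.subgroupOf C)
  rw [Nat.card_congr (Subgroup.subgroupOfEquivOfLe h).toEquiv] at h1
  rw [Subgroup.relIndex, mul_comm]
  exact h1

/-- SYLINT -/
theorem card_inf_sylow {H : Type*} [Group H] [Finite H] (p : ℕ) [Fact p.Prime] (P : Sylow p H)
    (K : Subgroup H) (hK : ∀ x ∈ (P : Subgroup H), ∀ k ∈ K, x * k * x⁻¹ ∈ K) :
    Nat.card ↥(K ⊓ (P : Subgroup H)) = p ^ (Nat.card K).factorization p := by
  have hp : p.Prime := Fact.out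
  -- `P` normalises `K`
  have hLE : (P : Subgroup H) ≤ Subgroup.normalizer (K : Set H) := by
    intro x hx
    rw [Subgroup.mem_normalizer_iff]
    intro k
    constructor
    · intro hk
      exact hK x hx k hk
    · intro hk
      have h1 := hK x⁻¹ ((P : Subgroup H).inv_mem hx) _ hk
      rw [inv_inv] at h1
      have h2 : x⁻¹ * (x * k * x⁻¹) * x = k := by group
      rwa [h2] at h1
  -- the second isomorphism theorem
  have hd : K.relIndex (P : Subgroup H) = K.relIndex ((P : Subgroup H) ⊔ K) := by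
    have := Subgroup.normal_subgroupOf_of_le_normalizer hLE
    have := Subgroup.normal_subgroupOf_sup_of_le_normalizer hLE
    have e := QuotientGroup.quotientInfEquivProdNormalizerQuotient (P : Subgroup H) K hLE
    exact Nat.card_congr e.toEquiv
  have ha : K.relIndex (P : Subgroup H) * Nat.card ↥(K ⊓ (P : Subgroup H)) =
      Nat.card (P : Subgroup H) := by
    rw [← Subgroup.inf_relIndex_right]
    exact h88_relIndex_mul_card inf_le_right
  have hb : K.relIndex ((P : Subgroup H) ⊔ K) * Nat.card K =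
      Nat.card ↥((P : Subgroup H) ⊔ K) := h88_relIndex_mul_card le_sup_right
  have hc : (P : Subgroup H).relIndex ((P : Subgroup H) ⊔ K) * Nat.card (P : Subgroup H) =
      Nat.card ↥((P : Subgroup H) ⊔ K) := h88_relIndex_mul_card le_sup_left
  have he : ¬ p ∣ (P : Subgroup H).relIndex ((P : Subgroup H) ⊔ K) := by
    intro h
    exact P.not_dvd_index (h.trans (Subgroup.relIndex_dvd_index_of_le le_sup_left))
  have hPpos : Nat.card (P : Subgroup H) ≠ 0 := Nat.card_pos.ne'
  have hr0 : K.relIndex (P : Subgroup H) ≠ 0 := by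
    intro h0
    rw [h0, zero_mul] at ha
    exact hPpos ha.symm
  -- `|K| = m |K ⊓ P|` with `m` prime to `p`
  have hmain : (P : Subgroup H).relIndex ((P : Subgroup H) ⊔ K) * Nat.card ↥(K ⊓ (P : Subgroup H)) =
      Nat.card K := by
    apply Nat.eq_of_mul_eq_mul_left (Nat.pos_of_ne_zero hr0)
    rw [hd] at ha ⊢
    calc K.relIndex ((P : Subgroup H) ⊔ K) *
          ((P : Subgroup H).relIndex ((P : Subgroup H) ⊔ K) * Nat.card ↥(K ⊓ (P : Subgroup H)))
        = (P : Subgroup H).relIndex ((P : Subgroup H) ⊔ K) *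
          (K.relIndex ((P : Subgroup H) ⊔ K) * Nat.card ↥(K ⊓ (P : Subgroup H))) := by ring
      _ = K.relIndex ((P : Subgroup H) ⊔ K) * Nat.card K := by rw [ha, hc, hb]
  -- `K ⊓ P` is a `p`-group
  have hpg : IsPGroup p ↥(K ⊓ (P : Subgroup H)) := P.isPGroup'.to_le inf_le_right
  obtain ⟨b, hb'⟩ := hpg.exists_card_eq
  have hm0 : (P : Subgroup H).relIndex ((P : Subgroup H) ⊔ K) ≠ 0 := by
    intro h0
    rw [h0, zero_mul] at hmain
    exact (Nat.card_pos (α := K)).ne' hmain.symm
  rw [← hmain, hb', Nat.factorization_mul hm0 (pow_ne_zero b hp.ne_zero), Finsupp.add_apply,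
    Nat.factorization_eq_zero_of_not_dvd he, zero_add, hp.factorization_pow,
    Finsupp.single_eq_same]

end Cfsg.Agent.Lib.Helper88_S6_SYLINT
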