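import Mathlib
import Cfsg.Agent.Lib.Helper6_S6Defs
import Cfsg.Agent.Lib.Helper31_S6_ELEM

set_option autoImplicit false

namespace Cfsg.Agent.Lib.Helper92_S6_K3

open Cfsg.Agent.Lib.Helper6_S6Defs Equiv Equiv.Perm

variable {G : Type*} [Group G] [Finite G] {S : Subgroup G}

/-- the final computation in a commutative monoid -/
theorem h01_calc {A : Type*} [Monoid A] (hc : ∀ x y : A, x * y = y * x)
    (e00 e10 e20 e01 e02 e11 e22 e12 e21 : A)
    (R1 : e00 * e10 * e20 = 1) (R2 : e00 * e01 * e02 = 1) (R3 : e00 * e11 * e22 = 1)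
    (R4 : e00 * e12 * e21 = 1) (Q1 : e10 * e11 * e12 = 1) (Q2 : e20 * e21 * e22 = 1) :
    e00 ^ 3 = 1 := by
  let _ : CommMonoid A := { ‹Monoid A› with mul_comm := hc }
  calc e00 ^ 3 = e00 ^ 3 * ((e00 * e01 * e02) * (e10 * e11 * e12) * (e20 * e21 * e22)) := by
        rw [R2, Q1, Q2]; simp
    _ = (e00 * e10 * e20) * (e00 * e01 * e02) * (e00 * e11 * e22) * (e00 * e12 * e21) := by
        simp only [pow_succ, pow_zero, one_mul]; ac_rfl
    _ = 1 := by rw [R1, R2, R3, R4]; simp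

omit [Finite G] in
/-- an element of order dividing 3 in a subgroup of order prime to 3 is trivial -/
theorem h02_eq_one (K : Subgroup G) (hK : (Nat.card K).Coprime 3) (x : G) (hx : x ∈ K)
    (h3 : x ^ 3 = 1) : x = 1 := by
  have h1 : orderOf x ∣ 3 := orderOf_dvd_of_pow_eq_one h3
  have h2 : orderOf x ∣ Nat.card K := by
    have := orderOf_dvd_natCard (⟨x, hx⟩ : K)
    rwa [← Subgroup.orderOf_coe] at this
  have h3 : orderOf x ∣ 1 := by
    have := Nat.dvd_gcd h2 h1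
    rwa [Nat.Coprime.gcd_eq_one hK] at this
  exact orderOf_eq_one_iff.mp (Nat.dvd_one.mp h3)

omit [Finite G] in
theorem h07_grp1 (l x : G) (hx3 : x ^ 3 = 1) :
    l⁻¹ * (x * l * x⁻¹) * (x * (l⁻¹ * (x * l * x⁻¹)) * x⁻¹) *
      (x ^ 2 * (l⁻¹ * (x * l * x⁻¹)) * (x ^ 2)⁻¹) = 1 := by
  have h1 : ∀ z : G, x * (x * (x * z)) = z := by
    intro z
    have : x * (x * (x * z)) = x ^ 3 * z := by simp [pow_succ, mul_assoc]
    rw [this, hx3, one_mul]
  have h2 : ∀ z : G, x⁻¹ * (x⁻¹ * (x⁻¹ * z)) = z := by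
    intro z
    have : x⁻¹ * (x⁻¹ * (x⁻¹ * z)) = (x ^ 3)⁻¹ * z := by simp [pow_succ, mul_assoc]
    rw [this, hx3, inv_one, one_mul]
  have h2' : x⁻¹ * (x⁻¹ * x⁻¹) = 1 := by simpa using h2 1
  simp only [pow_succ, pow_zero, one_mul, mul_inv_rev, mul_assoc, inv_mul_cancel_left,
    mul_inv_cancel_left, h1, h2', mul_one, inv_mul_cancel]

omit [Finite G] in
theorem h08_grp2 (k q r : G) (h1 : k * q * r = 1) (h2 : k⁻¹ * q⁻¹ * r⁻¹ = 1) :
    k * q = q * k := by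
  have e1 : r = (k * q)⁻¹ := eq_inv_of_mul_eq_one_right h1
  have e2 : r⁻¹ = (k⁻¹ * q⁻¹)⁻¹ := eq_inv_of_mul_eq_one_right h2
  rw [e1] at e2
  simpa using e2

omit [Finite G] in
/-- `N ∩ K = 1` -/
theorem h03_norm (D : Setup G S) (hel : (∀ a ∈ S, ∀ b ∈ S, a * b = b * a) ∧ (∀ a ∈ S, a ^ 3 = 1))
    (K : Subgroup G) (hSK : ∀ s ∈ S, ∀ k ∈ K, s * k * s⁻¹ ∈ K) (hK : (Nat.card K).Coprime 3)
    (k : G) (hk : k ∈ K) (hN : k ∈ Subgroup.normalizer (S : Set G)) : k = 1 := by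
  have hcomm : ∀ s ∈ S, s * k = k * s := by
    intro s hs
    have h1 : k * s * k⁻¹ ∈ S := (Subgroup.mem_normalizer_iff.mp hN s).mp hs
    have h2 : k * s * k⁻¹ * s⁻¹ ∈ S := S.mul_mem h1 (S.inv_mem hs)
    have h3 : k * s * k⁻¹ * s⁻¹ ∈ K := by
      have : k * s * k⁻¹ * s⁻¹ = k * (s * k⁻¹ * s⁻¹) := by simp [mul_assoc]
      rw [this]
      exact K.mul_mem hk (hSK s hs _ (K.inv_mem hk))
    have h4 : k * s * k⁻¹ * s⁻¹ = 1 := h02_eq_one K hK _ h3 (hel.2 _ h2)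
    have : k * s = s * k := by
      have := congrArg (fun z => z * s * k) h4
      simpa [mul_assoc] using this
    exact this.symm
  have hc : k ∈ Subgroup.centralizer (S : Set G) := by
    rw [Subgroup.mem_centralizer_iff]
    intro s hs
    exact hcomm s hs
  rw [D.cent] at hc
  exact h02_eq_one K hK k hk (hel.2 k hc)

omit [Finite G] in
/-- `C_K(x) = 1` for `x ∈ S`, `x ≠ 1` -/
theorem h04_fpf (D : Setup G S) (hel : (∀ a ∈ S, ∀ b ∈ S, a * b = b * a) ∧ (∀ a ∈ S, a ^ 3 = 1))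
    (K : Subgroup G) (hSK : ∀ s ∈ S, ∀ k ∈ K, s * k * s⁻¹ ∈ K) (hK : (Nat.card K).Coprime 3)
    (x : G) (hx : x ∈ S) (hx1 : x ≠ 1) (k : G) (hk : k ∈ K) (h : x * k * x⁻¹ = k) : k = 1 := by
  apply h03_norm D hel K hSK hK k hk
  apply D.loc x hx hx1
  rw [Subgroup.mem_centralizer_iff]
  intro y hy
  rw [Set.mem_singleton_iff] at hy
  subst hy
  have := congrArg (fun z => z * y) h
  simpa [mul_assoc] using this

/-- `k k^x k^{x^2} = 1` -/
theorem h05_norm_one (D : Setup G S)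
    (hel : (∀ a ∈ S, ∀ b ∈ S, a * b = b * a) ∧ (∀ a ∈ S, a ^ 3 = 1))
    (K : Subgroup G) (hSK : ∀ s ∈ S, ∀ k ∈ K, s * k * s⁻¹ ∈ K) (hK : (Nat.card K).Coprime 3)
    (x : G) (hx : x ∈ S) (hx1 : x ≠ 1) (k : G) (hk : k ∈ K) :
    k * (x * k * x⁻¹) * (x ^ 2 * k * (x ^ 2)⁻¹) = 1 := by
  let f : K → K := fun l => ⟨(l : G)⁻¹ * (x * l * x⁻¹), K.mul_mem (K.inv_mem l.2) (hSK x hx _ l.2)⟩
  have hinj : Function.Injective f := by
    intro l m hlm
    have h1 : (l : G)⁻¹ * (x * l * x⁻¹) = (m : G)⁻¹ * (x * m * x⁻¹) := congrArg Subtype.val hlm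
    have h2 : x * ((m : G) * (l : G)⁻¹) * x⁻¹ = (m : G) * (l : G)⁻¹ := by
      have e1 : x * ((m : G) * (l : G)⁻¹) * x⁻¹ = (x * m * x⁻¹) * (x * l * x⁻¹)⁻¹ := by
        simp [mul_assoc]
      rw [e1]
      have h3 : x * m * x⁻¹ = (m : G) * ((l : G)⁻¹ * (x * l * x⁻¹)) := by
        rw [h1]; simp [mul_assoc]
      rw [h3]; simp [mul_assoc]
    have h4 := h04_fpf D hel K hSK hK x hx hx1 _ (K.mul_mem m.2 (K.inv_mem l.2)) h2
    have : (m : G) = l := mul_inv_eq_one.mp h4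
    exact (Subtype.ext this).symm
  have hsurj : Function.Surjective f := Finite.surjective_of_injective hinj
  obtain ⟨l, hl⟩ := hsurj ⟨k, hk⟩
  have hl' : (l : G)⁻¹ * (x * l * x⁻¹) = k := congrArg Subtype.val hl
  have hx3 : x ^ 3 = 1 := hel.2 x hx
  rw [← hl']
  exact h07_grp1 _ _ hx3

/-- `k` commutes with `k^x` -/
theorem h06_comm (D : Setup G S)
    (hel : (∀ a ∈ S, ∀ b ∈ S, a * b = b * a) ∧ (∀ a ∈ S, a ^ 3 = 1))
    (K : Subgroup G) (hSK : ∀ s ∈ S, ∀ k ∈ K, s * k * s⁻¹ ∈ K) (hK : (Nat.card K).Coprime 3)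
    (x : G) (hx : x ∈ S) (k : G) (hk : k ∈ K) :
    k * (x * k * x⁻¹) = (x * k * x⁻¹) * k := by
  by_cases hx1 : x = 1
  · subst hx1; simp
  have h1 := h05_norm_one D hel K hSK hK x hx hx1 k hk
  have h2 := h05_norm_one D hel K hSK hK x hx hx1 k⁻¹ (K.inv_mem hk)
  have hq' : x * k⁻¹ * x⁻¹ = (x * k * x⁻¹)⁻¹ := by simp [mul_assoc]
  have hr' : x ^ 2 * k⁻¹ * (x ^ 2)⁻¹ = (x ^ 2 * k * (x ^ 2)⁻¹)⁻¹ := by simp [mul_assoc]
  rw [hq', hr'] at h2
  exact h08_grp2 _ _ _ h1 h2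

omit [Finite G] in
/-- two independent elements of `S` -/
theorem h09_basis (D : Setup G S) :
    ∃ a ∈ S, ∃ b ∈ S, a ≠ 1 ∧ b ≠ 1 ∧ b ≠ a ∧ b ≠ a ^ 2 := by
  classical
  have hfin : Finite S := Nat.finite_of_card_ne_zero (by rw [D.card]; norm_num)
  have key : ∀ T : Finset G, T.card ≤ 3 → ∃ b ∈ S, b ∉ T := by
    intro T hT
    by_contra hcon
    have hsub : (S : Set G) ⊆ (T : Set G) := by
      intro b hb
      by_contra hbT
      exact hcon ⟨b, hb, hbT⟩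
    have h1 : (S : Set G).ncard ≤ (T : Set G).ncard := Set.ncard_le_ncard hsub T.finite_toSet
    rw [Set.ncard_coe_finset] at h1
    have h2 : (S : Set G).ncard = 9 := by
      rw [← D.card]; rfl
    omega
  obtain ⟨a, haS, ha⟩ := key {1} (by simp)
  obtain ⟨b, hbS, hb⟩ := key {1, a, a ^ 2} (Finset.card_le_three)
  simp only [Finset.mem_singleton] at ha
  simp only [Finset.mem_insert, Finset.mem_singleton, not_or] at hb
  exact ⟨a, haS, b, hbS, ha, hb.1, hb.2.1, hb.2.2⟩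

/-- aux form: ELEM as a hypothesis -/
theorem three_prime_trivial_aux (D : Setup G S)
    (hel : (∀ a ∈ S, ∀ b ∈ S, a * b = b * a) ∧ (∀ a ∈ S, a ^ 3 = 1))
    (K : Subgroup G)
    (hSK : ∀ s ∈ S, ∀ k ∈ K, s * k * s⁻¹ ∈ K) (hK : (Nat.card K).Coprime 3) : K = ⊥ := by
  rw [Subgroup.eq_bot_iff_forall]
  intro v hv
  obtain ⟨a, haS, b, hbS, ha1, hb1, hba, hba2⟩ := h09_basis D
  have hab : a * b = b * a := hel.1 a haS b hbS
  have ha3 : a ^ 3 = 1 := hel.2 a haS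
  have hb3 : b ^ 3 = 1 := hel.2 b hbS
  -- the conjugates
  let c : G → G := fun s => s * v * s⁻¹
  have hcK : ∀ s ∈ S, c s ∈ K := fun s hs => hSK s hs v hv
  have hcc : ∀ s ∈ S, ∀ t ∈ S, c s * c t = c t * c s := by
    intro s hs t ht
    have h := h06_comm D hel K hSK hK (t * s⁻¹) (S.mul_mem ht (S.inv_mem hs)) (c s) (hcK s hs)
    have e : t * s⁻¹ * c s * (t * s⁻¹)⁻¹ = c t := by
      simp only [c]; simp [mul_assoc]
    rwa [e] at h
  have hrel : ∀ x ∈ S, x ≠ 1 → ∀ s ∈ S, c s * c (x * s) * c (x ^ 2 * s) = 1 := by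
    intro x hx hx1 s hs
    have h := h05_norm_one D hel K hSK hK x hx hx1 (c s) (hcK s hs)
    have e1 : x * c s * x⁻¹ = c (x * s) := by simp only [c]; simp [mul_assoc]
    have e2 : x ^ 2 * c s * (x ^ 2)⁻¹ = c (x ^ 2 * s) := by simp only [c]; simp [mul_assoc]
    rwa [e1, e2] at h
  -- the commutative group generated by the conjugates
  let Cs : Set G := c '' (S : Set G)
  have hCs : ∀ x ∈ Cs, ∀ y ∈ Cs, x * y = y * x := by
    rintro _ ⟨s, hs, rfl⟩ _ ⟨t, ht, rfl⟩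
    exact hcc s hs t ht
  have hcA : ∀ x y : Subgroup.closure Cs, x * y = y * x := by
    have := Subgroup.isMulCommutative_closure hCs
    exact fun x y => mul_comm' x y
  let e : ∀ s, s ∈ S → Subgroup.closure Cs :=
    fun s hs => ⟨c s, Subgroup.subset_closure ⟨s, hs, rfl⟩⟩
  have hco : Commute a b := hab
  have ha2S : a ^ 2 ∈ S := S.pow_mem haS 2
  have hb2S : b ^ 2 ∈ S := S.pow_mem hbS 2
  have habS : a * b ∈ S := S.mul_mem haS hbS
  have hab2S : a * b ^ 2 ∈ S := S.mul_mem haS hb2S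
  have ha2bS : a ^ 2 * b ∈ S := S.mul_mem ha2S hbS
  have ha2b2S : a ^ 2 * b ^ 2 ∈ S := S.mul_mem ha2S hb2S
  have hainv : a⁻¹ = a ^ 2 := by
    rw [inv_eq_iff_mul_eq_one, ← pow_succ']; exact ha3
  have hab1 : a * b ≠ 1 := by
    intro h
    apply hba2
    rw [← hainv]
    exact (inv_eq_of_mul_eq_one_right h).symm
  have hb4 : b ^ 4 = b := by
    rw [show 4 = 3 + 1 from rfl, pow_succ, hb3, one_mul]
  have hab21 : a * b ^ 2 ≠ 1 := by
    intro h
    apply hba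
    have h1 : b ^ 2 = a ^ 2 := by rw [← hainv]; exact (inv_eq_of_mul_eq_one_right h).symm
    have h2 : b ^ 4 = a ^ 4 := by
      rw [show 4 = 2 * 2 from rfl, pow_mul, pow_mul, h1]
    rw [hb4, show 4 = 3 + 1 from rfl, pow_succ, ha3, one_mul] at h2
    exact h2
  have E3 : (a * b) ^ 2 = a ^ 2 * b ^ 2 := hco.mul_pow 2
  have E4 : (a * b ^ 2) ^ 2 = a ^ 2 * b := by
    rw [(hco.pow_right 2).mul_pow 2, ← pow_mul, show 2 * 2 = 4 from rfl, hb4]
  have E5 : b * a = a * b := hab.symm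
  have E6 : b ^ 2 * a = a * b ^ 2 := ((hco.pow_right 2).eq).symm
  have E7 : b * a ^ 2 = a ^ 2 * b := ((hco.pow_left 2).eq).symm
  have E8 : b ^ 2 * a ^ 2 = a ^ 2 * b ^ 2 := ((hco.pow_pow 2 2).eq).symm
  have R1 : e 1 S.one_mem * e a haS * e (a ^ 2) ha2S = 1 := by
    apply Subtype.ext
    have := hrel a haS ha1 1 S.one_mem
    simpa only [mul_one, Subgroup.coe_mul, Subgroup.coe_one, e] using this
  have R2 : e 1 S.one_mem * e b hbS * e (b ^ 2) hb2S = 1 := by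
    apply Subtype.ext
    have := hrel b hbS hb1 1 S.one_mem
    simpa only [mul_one, Subgroup.coe_mul, Subgroup.coe_one, e] using this
  have R3 : e 1 S.one_mem * e (a * b) habS * e (a ^ 2 * b ^ 2) ha2b2S = 1 := by
    apply Subtype.ext
    have := hrel (a * b) habS hab1 1 S.one_mem
    simpa only [mul_one, E3, Subgroup.coe_mul, Subgroup.coe_one, e] using this
  have R4 : e 1 S.one_mem * e (a * b ^ 2) hab2S * e (a ^ 2 * b) ha2bS = 1 := by
    apply Subtype.ext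
    have := hrel (a * b ^ 2) hab2S hab21 1 S.one_mem
    simpa only [mul_one, E4, Subgroup.coe_mul, Subgroup.coe_one, e] using this
  have Q1 : e a haS * e (a * b) habS * e (a * b ^ 2) hab2S = 1 := by
    apply Subtype.ext
    have := hrel b hbS hb1 a haS
    simpa only [E5, E6, Subgroup.coe_mul, Subgroup.coe_one, e] using this
  have Q2 : e (a ^ 2) ha2S * e (a ^ 2 * b) ha2bS * e (a ^ 2 * b ^ 2) ha2b2S = 1 := by
    apply Subtype.ext
    have := hrel b hbS hb1 (a ^ 2) ha2S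
    simpa only [E7, E8, Subgroup.coe_mul, Subgroup.coe_one, e] using this
  have hfin := h01_calc hcA _ _ _ _ _ _ _ _ _ R1 R2 R3 R4 Q1 Q2
  have hv3 : v ^ 3 = 1 := by
    have := congrArg Subtype.val hfin
    simpa [e, c] using this
  exact h02_eq_one K hK v hv hv3


/-- PKG K3: a `3'`-subgroup normalized by `S` is trivial. -/
theorem three_prime_trivial (D : Setup G S) (K : Subgroup G)
    (hSK : ∀ s ∈ S, ∀ k ∈ K, s * k * s⁻¹ ∈ K) (hK : (Nat.card K).Coprime 3) : K = ⊥ :=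
  three_prime_trivial_aux D (Cfsg.Agent.Lib.Helper31_S6_ELEM.elem D) K hSK hK

end Cfsg.Agent.Lib.Helper92_S6_K3
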