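import Mathlib
import Cfsg.Agent.Lib.Helper6_S6Defs
import Cfsg.Agent.Lib.Helper5_S6_NSUB
import Cfsg.Agent.Lib.Helper55_S6_ROT
import Cfsg.Agent.Lib.Helper57_S6_IRRaux
import Cfsg.Agent.Lib.Helper88_S6_SYLINT
import Cfsg.Agent.Lib.Helper92_S6_K3

/-!
# S3333 package NSUB (helper6's market `s6_packages`), verbatim statement
-/

set_option autoImplicit false

namespace Cfsg.Agent.Lib.Helper5_S6_NSUBv

open Cfsg.Agent.Lib.Helper6_S6Defs Equiv Equiv.Perm

variable {G : Type*} [Group G] [Finite G] {S : Subgroup G}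

theorem le_of_normal (D : Setup G S) (L : Subgroup G) [L.Normal] (hL : L ≠ ⊥) : S ≤ L := by
  have : Fact (Nat.Prime 3) := ⟨Nat.prime_three⟩
  exact Cfsg.Agent.Lib.Helper5_S6_NSUB.le_of_normal_of D
    (Cfsg.Agent.Lib.Helper92_S6_K3.three_prime_trivial D)
    (Cfsg.Agent.Lib.Helper57_S6_IRRaux.no_inv_line_aux D (Cfsg.Agent.Lib.Helper55_S6_ROT.rot_inv D))
    (fun P K hK => Cfsg.Agent.Lib.Helper88_S6_SYLINT.card_inf_sylow 3 P K hK) L hL

end Cfsg.Agent.Lib.Helper5_S6_NSUBv
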