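import Mathlib
import Cfsg.Agent.Lib.Helper6_S6Defs

/-!
# S3333 market (architect helper6), package MINA (proof helper88)

A subgroup `L₁` of the minimal normal subgroup `L`, normalised by `L` and containing the Sylow
3-subgroup `S`, is `L`: by the Frattini argument every conjugate of `S` lies in `L₁`, so the normal
closure of `S` is a nontrivial normal subgroup of `G` inside `L₁`.
-/

set_option autoImplicit false

namespace Cfsg.Agent.Lib.Helper88_S6_MINA

open Cfsg.Agent.Lib.Helper6_S6Defs Equiv Equiv.Perm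

variable {G : Type*} [Group G] [Finite G] {S : Subgroup G}

/-- Frattini argument, elementwise: `G = L * N_G(S)` for a Sylow subgroup `S ≤ L`, `L` normal. -/
theorem h88_frattini (p : ℕ) [Fact p.Prime] (P : Sylow p G) (L : Subgroup G) [L.Normal]
    (hPL : (P : Subgroup G) ≤ L) (c : G) :
    ∃ l ∈ L, ∃ n ∈ Subgroup.normalizer ((P : Subgroup G) : Set G), c = l * n := by
  have h1 := Sylow.normalizer_sup_eq_top (P.subtype hPL)
  have h2 : ((P.subtype hPL : Sylow p ↥L) : Subgroup ↥L).map L.subtype = (P : Subgroup G) := by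
    rw [Sylow.coe_subtype, Subgroup.map_subgroupOf_eq_of_le hPL]
  rw [h2, sup_comm] at h1
  have h3 : c ∈ ((L ⊔ Subgroup.normalizer ((P : Subgroup G) : Set G) : Subgroup G) : Set G) := by
    rw [h1]
    trivial
  rw [Subgroup.normal_mul] at h3
  obtain ⟨l, hl, n, hn, e⟩ := Set.mem_mul.mp h3
  exact ⟨l, hl, n, hn, e.symm⟩

/-- MINA -/
theorem min_a (D : Setup G S) (L : Subgroup G) [L.Normal]
    (hmin : ∀ K : Subgroup G, K.Normal → K ≤ L → K = ⊥ ∨ K = L)
    (L₁ : Subgroup G) (h1 : L₁ ≤ L) (hn : L ≤ Subgroup.normalizer (L₁ : Set G)) (hS : S ≤ L₁) :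
    L₁ = L := by
  obtain ⟨P, hP⟩ := D.syl
  have hPL : (P : Subgroup G) ≤ L := by
    rw [← hP]
    exact hS.trans h1
  -- every conjugate of an element of `S` lies in `L₁`
  have hconj : ∀ a ∈ S, ∀ c : G, c * a * c⁻¹ ∈ L₁ := by
    intro a ha c
    obtain ⟨l, hl, n, hnn, rfl⟩ := h88_frattini 3 P L hPL c
    have h2 : n * a * n⁻¹ ∈ S := by
      rw [hP]
      rw [hP] at ha
      exact (Subgroup.mem_normalizer_iff.mp hnn a).mp ha
    have h3 : l * (n * a * n⁻¹) * l⁻¹ ∈ L₁ :=
      (Subgroup.mem_normalizer_iff.mp (hn hl) _).mp (hS h2)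
    have h4 : l * n * a * (l * n)⁻¹ = l * (n * a * n⁻¹) * l⁻¹ := by group
    rw [h4]
    exact h3
  -- the normal closure of `S`
  have hW1 : Subgroup.normalClosure (S : Set G) ≤ L₁ := by
    rw [Subgroup.normalClosure, Subgroup.closure_le]
    intro x hx
    obtain ⟨a, ha, hax⟩ := Group.mem_conjugatesOfSet_iff.mp hx
    obtain ⟨c, hc⟩ := isConj_iff.mp hax
    rw [← hc]
    exact hconj a ha c
  have hW2 : S ≤ Subgroup.normalClosure (S : Set G) := Subgroup.le_normalClosure
  have hW0 : Subgroup.normalClosure (S : Set G) ≠ ⊥ := by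
    intro h0
    rw [h0, le_bot_iff] at hW2
    have h9 := D.card
    rw [hW2, Subgroup.card_bot] at h9
    omega
  rcases hmin _ Subgroup.normalClosure_normal (hW1.trans h1) with h | h
  · exact absurd h hW0
  · exact le_antisymm h1 (h ▸ hW1)

end Cfsg.Agent.Lib.Helper88_S6_MINA
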