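import Mathlib
import Cfsg.Agent.Lib.Helper6_S6Defs
import Cfsg.Agent.Lib.Helper39_S6_MINC
import Cfsg.Agent.Lib.Helper92_S6_K3
import Cfsg.Agent.Lib.Helper88_S6_MINA
import Cfsg.Agent.Lib.Helper88_S6_SYLINT
import Cfsg.Agent.Lib.Helper5_S6_NSUBv

set_option autoImplicit false

/-!
S6 market (helper6, S3333), package MINN: a minimal normal subgroup `L` of `G` is simple, or
`S ⊴ G`.  `simple_of_min_of` takes the statements of K3, SYLINT, MINA, NSUB (specialised) as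
hypotheses.  (helper39)
-/

namespace Cfsg.Agent.Lib.Helper39_S6_MINN

open Cfsg.Agent.Lib.Helper6_S6Defs Equiv Equiv.Perm

variable {G : Type*} [Group G] [Finite G] {S : Subgroup G}

/-- MINN with the packages K3, SYLINT, MINA, NSUB as hypotheses -/
theorem simple_of_min_of (D : Setup G S) (L : Subgroup G) [L.Normal] (hL : L ≠ ⊥)
    (hmin : ∀ K : Subgroup G, K.Normal → K ≤ L → K = ⊥ ∨ K = L)
    (hK3 : ∀ K : Subgroup G, (∀ s ∈ S, ∀ k ∈ K, s * k * s⁻¹ ∈ K) → (Nat.card K).Coprime 3 →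
      K = ⊥)
    (hSYL : ∀ (P : Sylow 3 G) (K : Subgroup G),
      (∀ x ∈ (P : Subgroup G), ∀ k ∈ K, x * k * x⁻¹ ∈ K) →
      Nat.card ↥(K ⊓ (P : Subgroup G)) = 3 ^ (Nat.card K).factorization 3)
    (hMINA : ∀ L₁ : Subgroup G, L₁ ≤ L → L ≤ Subgroup.normalizer (L₁ : Set G) → S ≤ L₁ → L₁ = L)
    (hNSUB : S ≤ L) :
    S.Normal ∨ IsSimpleGroup ↥L := by
  classical
  by_cases hSn : S.Normal
  · exact Or.inl hSn
  right
  haveI : Nontrivial ↥L := (Subgroup.nontrivial_iff_ne_bot L).mpr hL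
  refine ⟨?_⟩
  by_contra hns
  push Not at hns
  obtain ⟨H₀, hH₀n, hH₀b, hH₀t⟩ := hns
  -- a nontrivial normal subgroup of `L` of minimal cardinality
  have hex : ∃ n, ∃ H : Subgroup ↥L, H.Normal ∧ H ≠ ⊥ ∧ Nat.card ↥H = n :=
    ⟨_, H₀, hH₀n, hH₀b, rfl⟩
  obtain ⟨H, hHn, hHb, hHc⟩ := Nat.find_spec hex
  have hHmin : ∀ H' : Subgroup ↥L, H'.Normal → H' ≠ ⊥ → Nat.card ↥H ≤ Nat.card ↥H' := by
    intro H' h1 h2
    rw [hHc]
    exact Nat.find_min' hex ⟨H', h1, h2, rfl⟩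
  -- `H ≠ ⊤`
  have hH₀lt : Nat.card ↥H₀ < Nat.card ↥L := by
    have h1 : Nat.card ↥H₀ ≤ Nat.card ↥L := Subgroup.card_le_card_group H₀
    rcases Nat.lt_or_ge (Nat.card ↥H₀) (Nat.card ↥L) with h | h
    · exact h
    · exact absurd (Subgroup.card_eq_iff_eq_top H₀ |>.mp (le_antisymm h1 h)) hH₀t
  have hHlt : Nat.card ↥H < Nat.card ↥L := lt_of_le_of_lt (hHmin H₀ hH₀n hH₀b) hH₀lt
  -- the subgroup `L₁` of `G`
  set L₁ : Subgroup G := H.map L.subtype with hL₁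
  have hcardL₁ : Nat.card ↥L₁ = Nat.card ↥H :=
    Nat.card_congr (H.equivMapOfInjective _ L.subtype_injective).toEquiv.symm
  have h1 : L₁ ≤ L := Subgroup.map_subtype_le H
  have hne : L₁ ≠ L := by
    intro h
    rw [h] at hcardL₁
    omega
  have hL₁b : L₁ ≠ ⊥ := by
    intro h
    apply hHb
    exact (Subgroup.map_eq_bot_iff_of_injective H L.subtype_injective).mp h
  have hn : L ≤ Subgroup.normalizer (L₁ : Set G) := by
    apply Helper39_S6_MINC.h39_le_normalizer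
    intro l hl k hk
    obtain ⟨k', hk', rfl⟩ := hk
    refine ⟨⟨l, hl⟩ * k' * ⟨l, hl⟩⁻¹, hHn.conj_mem k' hk' ⟨l, hl⟩, ?_⟩
    simp
  have hmin1 : ∀ K : Subgroup G, K ≤ L₁ → L ≤ Subgroup.normalizer (K : Set G) →
      K = ⊥ ∨ K = L₁ := by
    intro K hK hKn
    have hKL : K ≤ L := hK.trans h1
    have hK'n : (K.subgroupOf L).Normal := by
      refine ⟨fun k hk l => ?_⟩
      rw [Subgroup.mem_subgroupOf] at hk ⊢
      have := Helper39_S6_MINC.h39_conj_mem hKn (l : G) l.2 (k : G) hk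
      simpa using this
    have hK'le : K.subgroupOf L ≤ H := by
      intro k hk
      rw [Subgroup.mem_subgroupOf] at hk
      obtain ⟨k', hk', hkk'⟩ := hK hk
      have : k' = k := Subtype.ext hkk'
      rwa [← this]
    have hmap : (K.subgroupOf L).map L.subtype = K := Subgroup.map_subgroupOf_eq_of_le hKL
    by_cases hK'b : K.subgroupOf L = ⊥
    · left
      rw [← hmap, hK'b, Subgroup.map_bot]
    · right
      have heq : K.subgroupOf L = H :=
        Subgroup.eq_of_le_of_card_ge hK'le (hHmin _ hK'n hK'b)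
      rw [← hmap, heq]
  -- `S` normalizes `L₁`
  have hSn1 : ∀ s ∈ S, ∀ k ∈ L₁, s * k * s⁻¹ ∈ L₁ := fun s hs k hk =>
    Helper39_S6_MINC.h39_conj_mem hn s (hNSUB hs) k hk
  obtain ⟨P, hP⟩ := D.syl
  -- `3 ∣ |L₁|`
  have h3 : 3 ∣ Nat.card ↥L₁ := by
    by_contra h3
    apply hL₁b
    apply hK3 L₁ hSn1
    exact (Nat.Prime.coprime_iff_not_dvd Nat.prime_three).mpr h3 |>.symm
  have hfac : 1 ≤ (Nat.card ↥L₁).factorization 3 := by
    have hpos : Nat.card ↥L₁ ≠ 0 := Nat.card_pos.ne'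
    exact (Nat.Prime.dvd_iff_one_le_factorization Nat.prime_three hpos).mp h3
  have hinf : Nat.card ↥(L₁ ⊓ S) = 3 ^ (Nat.card ↥L₁).factorization 3 := by
    have := hSYL P L₁ (by rw [← hP]; exact hSn1)
    rwa [← hP] at this
  have hdvd9 : Nat.card ↥(L₁ ⊓ S) ∣ 9 := by
    have := Subgroup.card_dvd_of_le (inf_le_right : L₁ ⊓ S ≤ S)
    rwa [D.card] at this
  -- the exponent is `1` or `2`
  have hle2 : (Nat.card ↥L₁).factorization 3 ≤ 2 := by
    rw [hinf] at hdvd9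
    have : (3 : ℕ) ^ (Nat.card ↥L₁).factorization 3 ∣ 3 ^ 2 := by simpa using hdvd9
    exact (Nat.pow_dvd_pow_iff_le_right (by norm_num)).mp this
  have hcases : (Nat.card ↥L₁).factorization 3 = 1 ∨ (Nat.card ↥L₁).factorization 3 = 2 := by
    omega
  rcases hcases with hc | hc
  · -- `|L₁ ⊓ S| = 3`: MINC
    rw [hc, pow_one] at hinf
    exact hSn (Helper39_S6_MINC.min_c D L hNSUB hmin L₁ h1 hne hn hmin1 hinf)
  · -- `|L₁ ⊓ S| = 9`: MINA
    rw [hc] at hinf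
    have hSle : S ≤ L₁ := by
      have heq : L₁ ⊓ S = S :=
        Subgroup.eq_of_le_of_card_ge inf_le_right (by rw [hinf, D.card]; norm_num)
      rw [← heq]
      exact inf_le_left
    exact hne (hMINA L₁ h1 hn hSle)

/-- MINN with only the conclusion of NSUB (`S ≤ L`) as a hypothesis -/
theorem simple_of_min_of_nsub (D : Setup G S) (L : Subgroup G) [L.Normal] (hL : L ≠ ⊥)
    (hmin : ∀ K : Subgroup G, K.Normal → K ≤ L → K = ⊥ ∨ K = L) (hNSUB : S ≤ L) :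
    S.Normal ∨ IsSimpleGroup ↥L := by
  haveI : Fact (Nat.Prime 3) := ⟨Nat.prime_three⟩
  exact simple_of_min_of D L hL hmin
    (fun K hSK hK => Helper92_S6_K3.three_prime_trivial D K hSK hK)
    (fun P K hK => Helper88_S6_SYLINT.card_inf_sylow 3 P K hK)
    (fun L₁ h1 hn hS => Helper88_S6_MINA.min_a D L hmin L₁ h1 hn hS) hNSUB

/-! ## PKG MINN -/
theorem simple_of_min (D : Setup G S) (L : Subgroup G) [L.Normal] (hL : L ≠ ⊥)
    (hmin : ∀ K : Subgroup G, K.Normal → K ≤ L → K = ⊥ ∨ K = L) :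
    S.Normal ∨ IsSimpleGroup ↥L :=
  simple_of_min_of_nsub D L hL hmin (Helper5_S6_NSUBv.le_of_normal D L hL)

end Cfsg.Agent.Lib.Helper39_S6_MINN
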