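import Mathlib
import Cfsg.Agent.Lib.Helper74_S94Defs2
import Cfsg.Agent.Lib.Helper66_S96Asm
import Cfsg.Agent.Lib.Helper66_S96Rank
import Cfsg.Agent.Lib.Helper5_SLPresA
import Cfsg.Agent.Lib.Helper53_S96_NORM

set_option autoImplicit false
set_option linter.unusedVariables false
set_option linter.unusedSectionVars false

/-!
Package B_NORM of helper74's `s94_packages` market (S2094/S2099), by helper39: the root elements
`X a c t` (`a, c ≠ ng j`) and `XS a v` (`a ≠ ng j`) normalise the abstract unipotent radical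
`QsB X XS j`, and the abstract vector stabiliser `GsB X XS o` is `QsB X XS o * LsB X XS o`
(type `B` / `²D`; port of `Helper53_S96_NORM`).
-/

namespace Cfsg.Agent.Lib.Helper74_S94

open Cfsg.Agent.Lib.Helper5_SteinbergA Cfsg.Agent.Lib.Helper5_SLPresA Cfsg.Agent.Lib.Helper66_StCalc
  Cfsg.Agent.Lib.Helper66_S92 Cfsg.Agent.Lib.Helper66_S96

section generic

variable {ι : Type*} [DecidableEq ι] {K : Type*} [Field K] {V0 : Type*} [AddCommGroup V0]
  [Module K V0] {G : Type*} [Group G] {Q0 : QuadraticForm K V0}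
  {X : ι ⊕ ι → ι ⊕ ι → K → G} {XS : ι ⊕ ι → V0 → G}

theorem conj_mem_QsB_L (h : BStAB Q0 X XS) (j a c : ι ⊕ ι) (t : K) (hj1 : ng j ≠ a)
    (hj2 : ng j ≠ c) {q : G} (hq : q ∈ QsB X XS j) :
    X a c t * q * (X a c t)⁻¹ ∈ QsB X XS j := by
  unfold QsB at hq
  induction hq using Subgroup.closure_induction with
  | mem x hx =>
    rcases hx with ⟨e, u, he, rfl⟩ | ⟨w, rfl⟩
    · exact Qs_le_QsB j (conj_mem_QsD h.long j a c t hj1 hj2 (h.long.X_mem_Qs j e u))
    · rw [h.cj_scomm j a c w t (fun e => hj1 e.symm) (fun e => hj2 e.symm)]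
      exact XS_mem_QsB j w
  | one => simp
  | mul x y _ _ hx hy =>
    have : X a c t * (x * y) * (X a c t)⁻¹ =
        (X a c t * x * (X a c t)⁻¹) * (X a c t * y * (X a c t)⁻¹) := by group
    rw [this]
    exact (QsB X XS j).mul_mem hx hy
  | inv x _ hx =>
    have : X a c t * x⁻¹ * (X a c t)⁻¹ = (X a c t * x * (X a c t)⁻¹)⁻¹ := by group
    rw [this]
    exact (QsB X XS j).inv_mem hx

theorem conj_mem_QsB_S (h : BStAB Q0 X XS) (j a : ι ⊕ ι) (v : V0) (hj1 : ng j ≠ a)
    {q : G} (hq : q ∈ QsB X XS j) : XS a v * q * (XS a v)⁻¹ ∈ QsB X XS j := by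
  by_cases hja : j = a
  · subst hja
    exact (QsB X XS j).mul_mem ((QsB X XS j).mul_mem (XS_mem_QsB j v) hq)
      ((QsB X XS j).inv_mem (XS_mem_QsB j v))
  have hj1' : j ≠ ng a := fun e => hj1 (by rw [e, ng_ng])
  unfold QsB at hq
  induction hq using Subgroup.closure_induction with
  | mem x hx =>
    rcases hx with ⟨e, u, he, rfl⟩ | ⟨w, rfl⟩
    · by_cases hea : e = ng a
      · subst hea
        have key := h.cj_ls' j (ng a) u v (fun e => hj1 (by rw [← e, ng_ng]))
          (fun e => hja (by have e2 := congrArg ng e; rw [ng_ng, ng_ng] at e2; exact e2.symm))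
        rw [ng_ng] at key
        rw [key]
        exact (QsB X XS j).mul_mem ((QsB X XS j).mul_mem (h.X_mem_QsB j a _) (XS_mem_QsB j _))
          (h.X_mem_QsB j (ng a) u)
      · rw [h.cj_scomm' a j e v u hj1' hea]
        exact h.X_mem_QsB j e u
    · rw [h.cj_ss a j v w hja hj1']
      exact (QsB X XS j).mul_mem (h.X_mem_QsB' j a _) (XS_mem_QsB j w)
  | one => simp
  | mul x y _ _ hx hy =>
    have : XS a v * (x * y) * (XS a v)⁻¹ =
        (XS a v * x * (XS a v)⁻¹) * (XS a v * y * (XS a v)⁻¹) := by group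
    rw [this]
    exact (QsB X XS j).mul_mem hx hy
  | inv x _ hx =>
    have : XS a v * x⁻¹ * (XS a v)⁻¹ = (XS a v * x * (XS a v)⁻¹)⁻¹ := by group
    rw [this]
    exact (QsB X XS j).inv_mem hx

theorem GsB_eq (h : BStAB Q0 X XS) (o : ι ⊕ ι) {g : G} (hg : g ∈ GsB X XS o) :
    ∃ q ∈ QsB X XS o, ∃ l ∈ LsB X XS o, g = q * l := by
  have stepL : ∀ a c t, a ≠ ng o → c ≠ ng o → ∀ y : G,
      (∃ q ∈ QsB X XS o, ∃ l ∈ LsB X XS o, y = q * l) →
      ∃ q ∈ QsB X XS o, ∃ l ∈ LsB X XS o, X a c t * y = q * l := by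
    rintro a c t ha hc y ⟨q, hq, l, hl, rfl⟩
    by_cases hao : a = o
    · subst hao
      exact ⟨X a c t * q, (QsB X XS a).mul_mem (h.X_mem_QsB a c t) hq, l, hl, by group⟩
    by_cases hco : c = o
    · subst hco
      exact ⟨X a c t * q, (QsB X XS c).mul_mem (h.X_mem_QsB' c a t) hq, l, hl, by group⟩
    refine ⟨X a c t * q * (X a c t)⁻¹, conj_mem_QsB_L h o a c t (fun e => ha e.symm)
      (fun e => hc e.symm) hq, X a c t * l,
      (LsB X XS o).mul_mem (X_mem_LsB o a c t hao ha hco hc) hl, by group⟩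
  have stepS : ∀ a v, a ≠ ng o → ∀ y : G,
      (∃ q ∈ QsB X XS o, ∃ l ∈ LsB X XS o, y = q * l) →
      ∃ q ∈ QsB X XS o, ∃ l ∈ LsB X XS o, XS a v * y = q * l := by
    rintro a v ha y ⟨q, hq, l, hl, rfl⟩
    by_cases hao : a = o
    · subst hao
      exact ⟨XS a v * q, (QsB X XS a).mul_mem (XS_mem_QsB a v) hq, l, hl, by group⟩
    refine ⟨XS a v * q * (XS a v)⁻¹, conj_mem_QsB_S h o a v (fun e => ha e.symm) hq,
      XS a v * l, (LsB X XS o).mul_mem (XS_mem_LsB o a v hao ha) hl, by group⟩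
  unfold GsB at hg
  induction hg using Subgroup.closure_induction_left with
  | one => exact ⟨1, one_mem _, 1, one_mem _, by simp⟩
  | mul_left x hx y _ hy =>
    rcases hx with ⟨a, c, t, ha, hc, rfl⟩ | ⟨a, v, ha, rfl⟩
    · exact stepL a c t ha hc y hy
    · exact stepS a v ha y hy
  | inv_mul_cancel x hx y _ hy =>
    rcases hx with ⟨a, c, t, ha, hc, rfl⟩ | ⟨a, v, ha, rfl⟩
    · rw [h.long.X_inv]
      exact stepL a c (-t) ha hc y hy
    · rw [h.XS_inv]
      exact stepS a (-v) ha y hy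

end generic

end Cfsg.Agent.Lib.Helper74_S94
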