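import Mathlib
import Cfsg.Agent.Lib.Helper39_SL2Vanish
import Cfsg.Agent.Lib.Helper39_SL2HalfValues
import Cfsg.Agent.Lib.Helper39_SL2Central

/-!
# Elements of `SL₂(F)` without eigenvector (helper39)

For such an element `g` (an elliptic element): the matrices commuting with `g` are the
`a + b g`, the non-zero ones among them are invertible, the centralizer of `g` in `SL₂(F)` is an
abelian group of order `q + 1`, `g` is conjugate to `g⁻¹`, and two commuting elements of the same
trace are equal or inverse to each other.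
-/

set_option autoImplicit false
set_option linter.unusedSectionVars false

namespace Cfsg.Agent.Lib.Helper39_SL2Elliptic

open Matrix
open Cfsg.Agent.Lib.Helper39_SL2Vanish Cfsg.Agent.Lib.Helper39_SL2HalfValues
  Cfsg.Agent.Lib.Helper39_SL2Central

variable {F : Type*} [Field F]

/-- `g` has no eigenvector in `F²`. -/
def IsEll (g : SpecialLinearGroup (Fin 2) F) : Prop :=
  ∀ (c : F) (v : Fin 2 → F), v ≠ 0 → (g : Matrix (Fin 2) (Fin 2) F).mulVec v ≠ c • v

theorem det_eq (g : SpecialLinearGroup (Fin 2) F) :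
    (g : Matrix (Fin 2) (Fin 2) F) 0 0 * (g : Matrix (Fin 2) (Fin 2) F) 1 1 -
      (g : Matrix (Fin 2) (Fin 2) F) 0 1 * (g : Matrix (Fin 2) (Fin 2) F) 1 0 = 1 := by
  have := g.det_coe
  rw [Matrix.det_fin_two] at this
  exact this

theorem ell_10_ne_zero {g : SpecialLinearGroup (Fin 2) F} (hg : IsEll g) :
    (g : Matrix (Fin 2) (Fin 2) F) 1 0 ≠ 0 := by
  intro h
  apply hg ((g : Matrix (Fin 2) (Fin 2) F) 0 0) ![1, 0]
  · intro h0
    have := congrFun h0 0
    simp at this
  · funext i
    fin_cases i <;> simp [Matrix.mulVec, dotProduct, Fin.sum_univ_two, h]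

theorem ell_01_ne_zero {g : SpecialLinearGroup (Fin 2) F} (hg : IsEll g) :
    (g : Matrix (Fin 2) (Fin 2) F) 0 1 ≠ 0 := by
  intro h
  apply hg ((g : Matrix (Fin 2) (Fin 2) F) 1 1) ![0, 1]
  · intro h0
    have := congrFun h0 1
    simp at this
  · funext i
    fin_cases i <;> simp [Matrix.mulVec, dotProduct, Fin.sum_univ_two, h]

/-- A matrix commuting with an elliptic element `g` is of the form `a + b g`. -/
theorem ell_comm_form {g : SpecialLinearGroup (Fin 2) F} (hg : IsEll g)
    (x : Matrix (Fin 2) (Fin 2) F)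
    (hx : x * (g : Matrix (Fin 2) (Fin 2) F) = (g : Matrix (Fin 2) (Fin 2) F) * x) :
    ∃ a b : F, x = a • (1 : Matrix (Fin 2) (Fin 2) F) + b • (g : Matrix (Fin 2) (Fin 2) F) := by
  have h10 := ell_10_ne_zero hg
  have h01 := ell_01_ne_zero hg
  set M : Matrix (Fin 2) (Fin 2) F := (g : Matrix (Fin 2) (Fin 2) F) with hM
  have e00 := congrFun (congrFun hx 0) 0
  have e01 := congrFun (congrFun hx 0) 1
  have e10 := congrFun (congrFun hx 1) 0
  have e11 := congrFun (congrFun hx 1) 1
  simp only [Matrix.mul_apply, Fin.sum_univ_two] at e00 e01 e10 e11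
  refine ⟨x 0 0 - x 1 0 / M 1 0 * M 0 0, x 1 0 / M 1 0, ?_⟩
  ext i j
  fin_cases i <;> fin_cases j <;>
    simp only [Fin.zero_eta, Fin.mk_one, Fin.isValue, Matrix.add_apply, Matrix.smul_apply,
      Matrix.one_apply_eq, smul_eq_mul, mul_one,
      Matrix.one_apply_ne (show (0 : Fin 2) ≠ 1 by decide),
      Matrix.one_apply_ne (show (1 : Fin 2) ≠ 0 by decide), mul_zero, zero_add]
  · ring
  · field_simp
    linear_combination e00
  · field_simp
  · field_simp
    linear_combination e10

/-- The non-zero matrices `a + b g` are invertible. -/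
theorem ell_det_ne_zero {g : SpecialLinearGroup (Fin 2) F} (hg : IsEll g) (a b : F)
    (hab : a ≠ 0 ∨ b ≠ 0) :
    (a • (1 : Matrix (Fin 2) (Fin 2) F) + b • (g : Matrix (Fin 2) (Fin 2) F)).det ≠ 0 := by
  intro hdet
  obtain ⟨v, hv, hMv⟩ := Matrix.exists_mulVec_eq_zero_iff.2 hdet
  rw [Matrix.add_mulVec, Matrix.smul_mulVec, Matrix.smul_mulVec, Matrix.one_mulVec] at hMv
  by_cases hb : b = 0
  · rw [hb, zero_smul, add_zero] at hMv
    have ha : a ≠ 0 := hab.resolve_right (not_not.2 hb)
    apply hv
    have := congrArg (fun w => a⁻¹ • w) hMv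
    simpa [smul_smul, inv_mul_cancel₀ ha] using this
  · apply hg (-a / b) v hv
    have h1 : b • (g : Matrix (Fin 2) (Fin 2) F).mulVec v = -(a • v) := by
      rw [eq_neg_iff_add_eq_zero, add_comm]
      exact hMv
    have := congrArg (fun w => b⁻¹ • w) h1
    simp only [smul_smul, inv_mul_cancel₀ hb, one_smul] at this
    rw [this, smul_neg, smul_smul, ← neg_smul]
    congr 1
    field_simp


/-- The form `a + b g` of the elements of `SL₂(F)` commuting with an elliptic `g`. -/
theorem ell_comm_form' {g : SpecialLinearGroup (Fin 2) F} (hg : IsEll g)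
    (x : SpecialLinearGroup (Fin 2) F) (hx : x * g = g * x) :
    ∃ a b : F, (x : Matrix (Fin 2) (Fin 2) F) =
      a • (1 : Matrix (Fin 2) (Fin 2) F) + b • (g : Matrix (Fin 2) (Fin 2) F) := by
  apply ell_comm_form hg
  have := congrArg (fun y : SpecialLinearGroup (Fin 2) F => (y : Matrix (Fin 2) (Fin 2) F)) hx
  simpa using this

/-- Two elements commuting with an elliptic element commute. -/
theorem ell_comm_comm {g : SpecialLinearGroup (Fin 2) F} (hg : IsEll g)
    (x y : SpecialLinearGroup (Fin 2) F) (hx : x * g = g * x) (hy : y * g = g * y) :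
    x * y = y * x := by
  obtain ⟨a, b, hab⟩ := ell_comm_form' hg x hx
  obtain ⟨a', b', hab'⟩ := ell_comm_form' hg y hy
  apply Subtype.ext
  rw [Matrix.SpecialLinearGroup.coe_mul, Matrix.SpecialLinearGroup.coe_mul, hab, hab']
  simp only [add_mul, mul_add, Matrix.smul_mul, Matrix.mul_smul, Matrix.one_mul, Matrix.mul_one,
    smul_smul]
  rw [mul_comm a a', mul_comm b b', mul_comm a b', mul_comm b a']
  abel

/-- A scalar matrix in `SL₂(F)` is `1` or `-1`. -/
theorem eq_one_or_zc_of_scalar (x : SpecialLinearGroup (Fin 2) F) (a : F)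
    (hx : (x : Matrix (Fin 2) (Fin 2) F) = a • (1 : Matrix (Fin 2) (Fin 2) F)) :
    x = 1 ∨ x = zc := by
  have hd := det_eq x
  rw [hx] at hd
  simp only [Matrix.smul_apply, Matrix.one_apply_eq, smul_eq_mul, mul_one,
    Matrix.one_apply_ne (show (0 : Fin 2) ≠ 1 by decide),
    Matrix.one_apply_ne (show (1 : Fin 2) ≠ 0 by decide), mul_zero, sub_zero] at hd
  have h2 : (a - 1) * (a + 1) = 0 := by linear_combination hd
  rcases mul_eq_zero.1 h2 with h | h
  · left
    apply Subtype.ext
    rw [hx, sub_eq_zero.1 h, one_smul]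
    rfl
  · right
    apply Subtype.ext
    rw [hx, eq_neg_of_add_eq_zero_left h, zc_val]
    ext i j
    fin_cases i <;> fin_cases j <;> simp

/-- A non-central element commuting with an elliptic element is elliptic. -/
theorem ell_of_comm {g : SpecialLinearGroup (Fin 2) F} (hg : IsEll g)
    (x : SpecialLinearGroup (Fin 2) F) (hx : x * g = g * x) (h1 : x ≠ 1) (hz : x ≠ zc) :
    IsEll x := by
  obtain ⟨a, b, hab⟩ := ell_comm_form' hg x hx
  have hb : b ≠ 0 := by
    intro hb
    rw [hb, zero_smul, add_zero] at hab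
    rcases eq_one_or_zc_of_scalar x a hab with h | h
    · exact h1 h
    · exact hz h
  intro c v hv hxv
  apply hg ((c - a) / b) v hv
  rw [hab, Matrix.add_mulVec, Matrix.smul_mulVec, Matrix.smul_mulVec, Matrix.one_mulVec] at hxv
  have h2 : b • (g : Matrix (Fin 2) (Fin 2) F).mulVec v = (c - a) • v := by
    rw [sub_smul]
    exact eq_sub_of_add_eq' hxv
  have := congrArg (fun w => b⁻¹ • w) h2
  simp only [smul_smul, inv_mul_cancel₀ hb, one_smul] at this
  rw [this]
  congr 1
  field_simp

/-- Two commuting elements of the same trace, one of them elliptic, are equal or inverse to each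
other (odd characteristic). -/
theorem ell_fusion [Fintype F] (hodd : Odd (Fintype.card F))
    {g : SpecialLinearGroup (Fin 2) F} (hg : IsEll g)
    (x : SpecialLinearGroup (Fin 2) F) (hx : x * g = g * x)
    (htr : (x : Matrix (Fin 2) (Fin 2) F) 0 0 + (x : Matrix (Fin 2) (Fin 2) F) 1 1 =
      (g : Matrix (Fin 2) (Fin 2) F) 0 0 + (g : Matrix (Fin 2) (Fin 2) F) 1 1) :
    x = g ∨ x = g⁻¹ := by
  obtain ⟨a, b, hab⟩ := ell_comm_form' hg x hx
  have h2 : (2 : F) ≠ 0 := two_ne_zero_of_odd hodd
  have h4 := trace_sq_ne_four hodd g hg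
  set t := (g : Matrix (Fin 2) (Fin 2) F) 0 0 + (g : Matrix (Fin 2) (Fin 2) F) 1 1 with ht
  have hdg := det_eq g
  have hdx := det_eq x
  rw [hab] at htr hdx
  simp only [Matrix.add_apply, Matrix.smul_apply, Matrix.one_apply_eq, smul_eq_mul, mul_one,
    Matrix.one_apply_ne (show (0 : Fin 2) ≠ 1 by decide),
    Matrix.one_apply_ne (show (1 : Fin 2) ≠ 0 by decide), mul_zero, zero_add] at htr hdx
  have e1 : 2 * a + b * t = t := by rw [ht]; linear_combination htr
  have e2 : a ^ 2 + a * b * t + b ^ 2 = 1 := by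
    rw [ht]; linear_combination hdx - b ^ 2 * hdg
  have e3 : (1 - b ^ 2) * (t ^ 2 - 4) = 0 := by
    have ha : a = t * (1 - b) / 2 := by
      field_simp
      linear_combination e1
    rw [ha] at e2
    field_simp at e2
    linear_combination e2
  have hb : (b - 1) * (b + 1) = 0 := by
    rcases mul_eq_zero.1 e3 with h | h
    · linear_combination -h
    · exact absurd (sub_eq_zero.1 h) h4
  rcases mul_eq_zero.1 hb with h | h
  · left
    have hb1 : b = 1 := sub_eq_zero.1 h
    have ha0 : a = 0 := by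
      rw [hb1] at e1
      have : 2 * a = 0 := by linear_combination e1
      exact (mul_eq_zero.1 this).resolve_left h2
    apply Subtype.ext
    rw [hab, hb1, ha0, zero_smul, zero_add, one_smul]
  · right
    have hb1 : b = -1 := eq_neg_of_add_eq_zero_left h
    have ha0 : a = t := by
      rw [hb1] at e1
      have : 2 * (a - t) = 0 := by linear_combination e1
      exact sub_eq_zero.1 ((mul_eq_zero.1 this).resolve_left h2)
    apply Subtype.ext
    rw [hab, hb1, ha0, Matrix.SpecialLinearGroup.coe_inv, Matrix.adjugate_fin_two]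
    ext i j
    fin_cases i <;> fin_cases j <;> simp [ht]


/-- An elliptic element is conjugate to its inverse (odd characteristic). -/
theorem ell_conj_inv [Fintype F] (hodd : Odd (Fintype.card F))
    {g : SpecialLinearGroup (Fin 2) F} (hg : IsEll g) :
    ∃ k : SpecialLinearGroup (Fin 2) F, g⁻¹ = k * g * k⁻¹ := by
  have h10 := ell_10_ne_zero hg
  have h01 := ell_01_ne_zero hg
  have hdet : (!![0, (g : Matrix (Fin 2) (Fin 2) F) 0 1;
      -(g : Matrix (Fin 2) (Fin 2) F) 1 0, 0] : Matrix (Fin 2) (Fin 2) F).det ≠ 0 := by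
    rw [Matrix.det_fin_two]
    simp only [Matrix.of_apply, Matrix.cons_val', Matrix.cons_val_zero, Matrix.cons_val_one,
      Matrix.cons_val_fin_one]
    intro h
    have : (g : Matrix (Fin 2) (Fin 2) F) 0 1 * (g : Matrix (Fin 2) (Fin 2) F) 1 0 = 0 := by
      linear_combination h
    rcases mul_eq_zero.1 this with h | h
    · exact h01 h
    · exact h10 h
  apply elliptic_conj hodd g hg (Matrix.GeneralLinearGroup.mkOfDetNeZero _ hdet) g⁻¹
  rw [eq_mul_inv_iff_mul_eq]
  apply Units.ext
  rw [Units.val_mul, Units.val_mul]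
  change ((g⁻¹ : SpecialLinearGroup (Fin 2) F) : Matrix (Fin 2) (Fin 2) F) *
      !![0, (g : Matrix (Fin 2) (Fin 2) F) 0 1; -(g : Matrix (Fin 2) (Fin 2) F) 1 0, 0] =
    !![0, (g : Matrix (Fin 2) (Fin 2) F) 0 1; -(g : Matrix (Fin 2) (Fin 2) F) 1 0, 0] *
      (g : Matrix (Fin 2) (Fin 2) F)
  rw [Matrix.SpecialLinearGroup.coe_inv, Matrix.adjugate_fin_two]
  ext i j
  fin_cases i <;> fin_cases j <;> simp [Matrix.mul_apply, Fin.sum_univ_two] <;> ring


section count

variable [Fintype F]

/-- The determinant of `a + b g`. -/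
theorem det_form (g : SpecialLinearGroup (Fin 2) F) (a b : F) :
    (a • (1 : Matrix (Fin 2) (Fin 2) F) + b • (g : Matrix (Fin 2) (Fin 2) F)).det =
      a ^ 2 + ((g : Matrix (Fin 2) (Fin 2) F) 0 0 + (g : Matrix (Fin 2) (Fin 2) F) 1 1) * a * b +
        b ^ 2 := by
  have hdg := det_eq g
  rw [Matrix.det_fin_two]
  simp only [Matrix.add_apply, Matrix.smul_apply, Matrix.one_apply_eq, smul_eq_mul, mul_one,
    Matrix.one_apply_ne (show (0 : Fin 2) ≠ 1 by decide),
    Matrix.one_apply_ne (show (1 : Fin 2) ≠ 0 by decide), mul_zero, zero_add]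
  linear_combination (b ^ 2) * hdg

/-- The unit `a + b g` of the matrix ring. -/
noncomputable def ellUnit {g : SpecialLinearGroup (Fin 2) F} (hg : IsEll g)
    (p : {p : F × F // p ≠ 0}) : GL (Fin 2) F :=
  Matrix.GeneralLinearGroup.mkOfDetNeZero
    (p.1.1 • (1 : Matrix (Fin 2) (Fin 2) F) + p.1.2 • (g : Matrix (Fin 2) (Fin 2) F))
    (ell_det_ne_zero hg _ _ (by
      by_contra h
      push Not at h
      exact p.2 (Prod.ext h.1 h.2)))

theorem ellUnit_val {g : SpecialLinearGroup (Fin 2) F} (hg : IsEll g)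
    (p : {p : F × F // p ≠ 0}) :
    ((ellUnit hg p : GL (Fin 2) F) : Matrix (Fin 2) (Fin 2) F) =
      p.1.1 • (1 : Matrix (Fin 2) (Fin 2) F) + p.1.2 • (g : Matrix (Fin 2) (Fin 2) F) := rfl

theorem ellUnit_mem {g : SpecialLinearGroup (Fin 2) F} (hg : IsEll g)
    (p : {p : F × F // p ≠ 0}) :
    ellUnit hg p ∈ Subgroup.centralizer ({SpecialLinearGroup.toGL g} : Set (GL (Fin 2) F)) := by
  rw [Subgroup.mem_centralizer_iff]
  intro h hh
  rw [Set.mem_singleton_iff] at hh
  subst hh
  apply Units.ext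
  rw [Units.val_mul, Units.val_mul, ellUnit_val]
  change (g : Matrix (Fin 2) (Fin 2) F) * _ = _ * (g : Matrix (Fin 2) (Fin 2) F)
  rw [add_mul, mul_add, Matrix.smul_mul, Matrix.mul_smul, Matrix.smul_mul, Matrix.mul_smul,
    Matrix.one_mul, Matrix.mul_one]

/-- The centralizer of `g` in `GL₂(F)` is parametrized by the non-zero pairs `(a, b)`. -/
theorem ellUnit_bijective {g : SpecialLinearGroup (Fin 2) F} (hg : IsEll g) :
    Function.Bijective (fun p : {p : F × F // p ≠ 0} =>
      (⟨ellUnit hg p, ellUnit_mem hg p⟩ :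
        Subgroup.centralizer ({SpecialLinearGroup.toGL g} : Set (GL (Fin 2) F)))) := by
  have h10 := ell_10_ne_zero hg
  constructor
  · intro p p' hpp
    have h1 : (ellUnit hg p : GL (Fin 2) F) = ellUnit hg p' := congrArg Subtype.val hpp
    have h2 : ((ellUnit hg p : GL (Fin 2) F) : Matrix (Fin 2) (Fin 2) F) =
        ((ellUnit hg p' : GL (Fin 2) F) : Matrix (Fin 2) (Fin 2) F) := by rw [h1]
    rw [ellUnit_val, ellUnit_val] at h2
    have e10 := congrFun (congrFun h2 1) 0
    have e00 := congrFun (congrFun h2 0) 0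
    simp only [Matrix.add_apply, Matrix.smul_apply, Matrix.one_apply_eq, smul_eq_mul, mul_one,
      Matrix.one_apply_ne (show (1 : Fin 2) ≠ 0 by decide), mul_zero, zero_add] at e10 e00
    have hb : p.1.2 = p'.1.2 := mul_right_cancel₀ h10 e10
    rw [hb] at e00
    have ha : p.1.1 = p'.1.1 := add_right_cancel e00
    exact Subtype.ext (Prod.ext ha hb)
  · intro x
    have hx := (Subgroup.mem_centralizer_iff.1 x.2) _ (Set.mem_singleton _)
    have hx' : ((x : GL (Fin 2) F) : Matrix (Fin 2) (Fin 2) F) *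
        (g : Matrix (Fin 2) (Fin 2) F) = (g : Matrix (Fin 2) (Fin 2) F) *
          ((x : GL (Fin 2) F) : Matrix (Fin 2) (Fin 2) F) := by
      have := congrArg (fun y : GL (Fin 2) F => (y : Matrix (Fin 2) (Fin 2) F)) hx
      simp only [Units.val_mul] at this
      exact this.symm
    obtain ⟨a, b, hab⟩ := ell_comm_form hg _ hx'
    have hne : ((a, b) : F × F) ≠ 0 := by
      intro h0
      have ha : a = 0 := congrArg Prod.fst h0
      have hb : b = 0 := congrArg Prod.snd h0
      rw [ha, hb, zero_smul, zero_smul, add_zero] at hab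
      have h1 := (x : GL (Fin 2) F).isUnit
      rw [hab] at h1
      exact not_isUnit_zero h1
    refine ⟨⟨(a, b), hne⟩, ?_⟩
    apply Subtype.ext
    apply Units.ext
    rw [ellUnit_val, hab]

/-- The order of the centralizer of an elliptic element in `GL₂(F)`. -/
theorem card_centralizer_GL {g : SpecialLinearGroup (Fin 2) F} (hg : IsEll g) :
    Nat.card (Subgroup.centralizer ({SpecialLinearGroup.toGL g} : Set (GL (Fin 2) F))) =
      Fintype.card F ^ 2 - 1 := by
  classical
  rw [← Nat.card_congr (Equiv.ofBijective _ (ellUnit_bijective hg)), Nat.card_eq_fintype_card,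
    Fintype.card_subtype_compl, Fintype.card_subtype_eq, Fintype.card_prod, sq]

/-- The determinant on the centralizer of `g` in `GL₂(F)`. -/
noncomputable def detK (g : SpecialLinearGroup (Fin 2) F) :
    Subgroup.centralizer ({SpecialLinearGroup.toGL g} : Set (GL (Fin 2) F)) →* Fˣ :=
  Matrix.GeneralLinearGroup.det.comp (Subgroup.subtype _)

theorem detK_surjective (hodd : Odd (Fintype.card F)) {g : SpecialLinearGroup (Fin 2) F}
    (hg : IsEll g) : Function.Surjective (detK g) := by
  intro c
  obtain ⟨r, s, hrs⟩ := exists_quadratic_value hodd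
    ((g : Matrix (Fin 2) (Fin 2) F) 0 0 + (g : Matrix (Fin 2) (Fin 2) F) 1 1) (c : F)
    (trace_sq_ne_four hodd g hg)
  have hne : ((r, s) : F × F) ≠ 0 := by
    intro h0
    have hr : r = 0 := congrArg Prod.fst h0
    have hs : s = 0 := congrArg Prod.snd h0
    rw [hr, hs] at hrs
    apply c.ne_zero
    rw [← hrs]
    ring
  refine ⟨⟨ellUnit hg ⟨(r, s), hne⟩, ellUnit_mem hg _⟩, ?_⟩
  apply Units.ext
  change ((ellUnit hg ⟨(r, s), hne⟩ : GL (Fin 2) F) : Matrix (Fin 2) (Fin 2) F).det = (c : F)
  rw [ellUnit_val, det_form, ← hrs]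

/-- The centralizer of `g` in `SL₂(F)` maps onto the kernel of the determinant. -/
noncomputable def toKer (g : SpecialLinearGroup (Fin 2) F) :
    Subgroup.centralizer ({g} : Set (SpecialLinearGroup (Fin 2) F)) → (detK g).ker := fun x =>
  ⟨⟨SpecialLinearGroup.toGL (x : SpecialLinearGroup (Fin 2) F), by
    rw [Subgroup.mem_centralizer_iff]
    intro h hh
    rw [Set.mem_singleton_iff] at hh
    subst hh
    rw [← map_mul, ← map_mul, (Subgroup.mem_centralizer_iff.1 x.2) g (Set.mem_singleton g)]⟩, by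
    rw [MonoidHom.mem_ker]
    apply Units.ext
    change ((x : SpecialLinearGroup (Fin 2) F) : Matrix (Fin 2) (Fin 2) F).det = 1
    exact (x : SpecialLinearGroup (Fin 2) F).2⟩

theorem toKer_bijective (g : SpecialLinearGroup (Fin 2) F) : Function.Bijective (toKer g) := by
  constructor
  · intro x y hxy
    have h1 : SpecialLinearGroup.toGL (x : SpecialLinearGroup (Fin 2) F) =
        SpecialLinearGroup.toGL (y : SpecialLinearGroup (Fin 2) F) :=
      congrArg (fun z : (detK g).ker => ((z : Subgroup.centralizer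
        ({SpecialLinearGroup.toGL g} : Set (GL (Fin 2) F))) : GL (Fin 2) F)) hxy
    exact Subtype.ext (SpecialLinearGroup.toGL_injective h1)
  · intro y
    have hy : (((y : Subgroup.centralizer ({SpecialLinearGroup.toGL g} : Set (GL (Fin 2) F))) :
        GL (Fin 2) F) : Matrix (Fin 2) (Fin 2) F).det = 1 := by
      have := MonoidHom.mem_ker.1 y.2
      exact congrArg Units.val this
    set x : SpecialLinearGroup (Fin 2) F := ⟨_, hy⟩ with hxdef
    have hxGL : SpecialLinearGroup.toGL x =
        ((y : Subgroup.centralizer ({SpecialLinearGroup.toGL g} : Set (GL (Fin 2) F))) :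
          GL (Fin 2) F) := Units.ext rfl
    have hxmem : x ∈ Subgroup.centralizer ({g} : Set (SpecialLinearGroup (Fin 2) F)) := by
      rw [Subgroup.mem_centralizer_iff]
      intro h hh
      rw [Set.mem_singleton_iff] at hh
      subst hh
      apply SpecialLinearGroup.toGL_injective
      rw [map_mul, map_mul, hxGL]
      exact (Subgroup.mem_centralizer_iff.1 (y : Subgroup.centralizer
        ({SpecialLinearGroup.toGL h} : Set (GL (Fin 2) F))).2) _ (Set.mem_singleton _)
    refine ⟨⟨x, hxmem⟩, ?_⟩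
    apply Subtype.ext
    apply Subtype.ext
    exact hxGL

/-- The centralizer of an elliptic element of `SL₂(F)` has order `q + 1`. -/
theorem card_centralizer_ell (hodd : Odd (Fintype.card F)) {g : SpecialLinearGroup (Fin 2) F}
    (hg : IsEll g) :
    Nat.card (Subgroup.centralizer ({g} : Set (SpecialLinearGroup (Fin 2) F))) =
      Fintype.card F + 1 := by
  classical
  have h1 := Subgroup.card_mul_index (detK g).ker
  rw [Subgroup.index_ker, card_centralizer_GL hg,
    ← Nat.card_congr (Equiv.ofBijective _ (toKer_bijective g))] at h1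
  have hr : Nat.card (detK g).range = Fintype.card F - 1 := by
    rw [MonoidHom.range_eq_top.2 (detK_surjective hodd hg), Subgroup.card_top,
      Nat.card_eq_fintype_card, Fintype.card_units]
  rw [hr] at h1
  have hq : 2 ≤ Fintype.card F := Fintype.one_lt_card
  have h2 : Fintype.card F ^ 2 - 1 = (Fintype.card F + 1) * (Fintype.card F - 1) := by
    obtain ⟨k, hk⟩ : ∃ k, Fintype.card F = k + 2 := ⟨Fintype.card F - 2, by omega⟩
    rw [hk]
    have : k + 2 - 1 = k + 1 := by omega
    rw [this]
    have h3 : (k + 2) ^ 2 = (k + 2 + 1) * (k + 1) + 1 := by ring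
    rw [h3]
    omega
  rw [h2] at h1
  exact Nat.eq_of_mul_eq_mul_right (by omega) h1

/-- The centralizer of an elliptic element of `SL₂(F)` is cyclic. -/
theorem isCyclic_centralizer_ell {g : SpecialLinearGroup (Fin 2) F} (hg : IsEll g) :
    IsCyclic (Subgroup.centralizer ({g} : Set (SpecialLinearGroup (Fin 2) F))) := by
  classical
  set gM : Matrix (Fin 2) (Fin 2) F := (g : Matrix (Fin 2) (Fin 2) F) with hgM
  have hcomm : ∀ a ∈ ({gM} : Set (Matrix (Fin 2) (Fin 2) F)), ∀ b ∈ ({gM} : Set (Matrix (Fin 2) (Fin 2) F)), a * b = b * a := by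
    intro a ha b hb
    rw [Set.mem_singleton_iff] at ha hb
    rw [ha, hb]
  let _ : CommRing (Algebra.adjoin F ({gM} : Set (Matrix (Fin 2) (Fin 2) F))) :=
    Algebra.adjoinCommRingOfComm F hcomm
  have hcg : ∀ x : Algebra.adjoin F ({gM} : Set (Matrix (Fin 2) (Fin 2) F)),
      (x : Matrix (Fin 2) (Fin 2) F) * gM = gM * (x : Matrix (Fin 2) (Fin 2) F) := by
    intro x
    have h1 := Algebra.adjoin_le_centralizer_centralizer F ({gM} : Set (Matrix (Fin 2) (Fin 2) F)) x.2
    rw [Subalgebra.mem_centralizer_iff] at h1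
    refine (h1 gM ?_).symm
    change gM ∈ Subalgebra.centralizer F {gM}
    rw [Subalgebra.mem_centralizer_iff]
    intro y hy
    rw [Set.mem_singleton_iff] at hy
    rw [hy]
  have : NoZeroDivisors (Algebra.adjoin F ({gM} : Set (Matrix (Fin 2) (Fin 2) F))) := by
    refine ⟨fun {x y} hxy => ?_⟩
    by_contra hne
    push Not at hne
    obtain ⟨a, b, hab⟩ := ell_comm_form hg _ (hcg x)
    have hx0 : (x : Matrix (Fin 2) (Fin 2) F) ≠ 0 := fun h => hne.1 (Subtype.ext h)
    have hab0 : a ≠ 0 ∨ b ≠ 0 := by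
      by_contra h
      push Not at h
      rw [h.1, h.2, zero_smul, zero_smul, add_zero] at hab
      exact hx0 hab
    have hdet := ell_det_ne_zero hg a b hab0
    rw [← hab] at hdet
    have hxy' : (x : Matrix (Fin 2) (Fin 2) F) * (y : Matrix (Fin 2) (Fin 2) F) = 0 := by
      have := congrArg Subtype.val hxy
      exact this
    have hu : IsUnit (x : Matrix (Fin 2) (Fin 2) F) :=
      (Matrix.isUnit_iff_isUnit_det _).2 (isUnit_iff_ne_zero.2 hdet)
    have := hu.mul_right_eq_zero.1 hxy'
    exact hne.2 (Subtype.ext this)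
  have : IsDomain (Algebra.adjoin F ({gM} : Set (Matrix (Fin 2) (Fin 2) F))) :=
    NoZeroDivisors.to_isDomain _
  have hmem : ∀ x : Subgroup.centralizer ({g} : Set (SpecialLinearGroup (Fin 2) F)),
      ((x : SpecialLinearGroup (Fin 2) F) : Matrix (Fin 2) (Fin 2) F) ∈
        Algebra.adjoin F ({gM} : Set (Matrix (Fin 2) (Fin 2) F)) := by
    intro x
    have hx : (x : SpecialLinearGroup (Fin 2) F) * g = g * (x : SpecialLinearGroup (Fin 2) F) :=
      ((Subgroup.mem_centralizer_iff.1 x.2) g (Set.mem_singleton g)).symm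
    obtain ⟨a, b, hab⟩ := ell_comm_form' hg _ hx
    rw [hab]
    exact Subalgebra.add_mem _ (Subalgebra.smul_mem _ (Subalgebra.one_mem _) a)
      (Subalgebra.smul_mem _ (Algebra.subset_adjoin (Set.mem_singleton gM)) b)
  let f : Subgroup.centralizer ({g} : Set (SpecialLinearGroup (Fin 2) F)) →*
      Algebra.adjoin F ({gM} : Set (Matrix (Fin 2) (Fin 2) F)) :=
    { toFun := fun x => ⟨_, hmem x⟩
      map_one' := Subtype.ext rfl
      map_mul' := fun x y => Subtype.ext rfl }
  apply isCyclic_of_injective_ringHom f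
  intro x y hxy
  have := congrArg Subtype.val hxy
  exact Subtype.ext (Subtype.ext this)


end count

end Cfsg.Agent.Lib.Helper39_SL2Elliptic
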