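import Mathlib
import Cfsg.Prelude.Def_Characters
import Cfsg.Agent.Lib.Helper75_Induced
import Cfsg.Agent.Lib.Helper39_IndTools

/-!
# Functions induced from a torus-like subgroup (helper39)

`T` is an abelian subgroup of the finite group `G`, `Z ≤ T` is central in `G`, and every `t ∈ T`
outside `Z` has centralizer inside `T`, is conjugate to its inverse (which is different from `t`),
and has no other conjugates in `T`.  For such `T` the values on `T` of a function induced from `T`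
are computed: `f t + f t⁻¹` off `Z`.
-/

set_option autoImplicit false

namespace Cfsg.Agent.Lib.Helper39_TorusInd

open scoped ComplexConjugate
open Cfsg.Agent.Lib.Helper39_IndTools
open Cfsg.Agent.Lib.Helper75_Induced (extendByZero_of_mem extendByZero_of_not_mem indFun_apply
  extendByZero_coe)

variable {G : Type*} [Group G]

/-- The axioms of a torus-like subgroup `T` relative to the central subgroup `Z`. -/
structure TorusLike (T Z : Subgroup G) : Prop where
  comm : ∀ a ∈ T, ∀ b ∈ T, a * b = b * a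
  central : ∀ z ∈ Z, ∀ x : G, x * z = z * x
  le : Z ≤ T
  fusion : ∀ t ∈ T, t ∉ Z → ∀ x : G, x⁻¹ * t * x ∈ T → x⁻¹ * t * x = t ∨ x⁻¹ * t * x = t⁻¹
  cent : ∀ t ∈ T, t ∉ Z → ∀ x : G, x * t = t * x → x ∈ T
  inv_conj : ∀ t ∈ T, t ∉ Z → ∃ x : G, x⁻¹ * t * x = t⁻¹
  ne_inv : ∀ t ∈ T, t ∉ Z → t ≠ t⁻¹

variable {T Z : Subgroup G}

/-- Every function on an abelian subgroup is a class function. -/
theorem isClassFunction_of_comm (hT : ∀ a ∈ T, ∀ b ∈ T, a * b = b * a) (f : T → ℂ) :
    Cfsg.IsClassFunction T f := by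
  intro g h
  congr 1
  apply Subtype.ext
  have := hT h h.2 g g.2
  simp only [Subgroup.coe_mul, Subgroup.coe_inv]
  rw [this, mul_assoc, mul_inv_cancel, mul_one]

/-- Value of a function induced from a torus-like subgroup at an element of `T` outside `Z`. -/
theorem indFun_torus [Fintype G] (hT : TorusLike T Z) (f : T → ℂ) (t : T)
    (ht : (t : G) ∉ Z) : Cfsg.indFun T f (t : G) = f t + f t⁻¹ := by
  classical
  obtain ⟨x₀, hx₀⟩ := hT.inv_conj t t.2 ht
  have hx₀T : x₀ ∉ T := by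
    intro h
    apply hT.ne_inv t t.2 ht
    rw [← hx₀, mul_assoc, hT.comm t t.2 x₀ h, ← mul_assoc, inv_mul_cancel, one_mul]
  have hne : (1 : G) ≠ x₀ := by
    intro h
    apply hx₀T
    rw [← h]
    exact T.one_mem
  rw [indFun_eq_sum_reps T (isClassFunction_of_comm hT.comm f) (t : G) {1, x₀}]
  · rw [Finset.sum_pair hne, inv_one, one_mul, mul_one, hx₀, extendByZero_coe,
      extendByZero_of_mem T f (T.inv_mem t.2)]
    rfl
  · intro x hx
    rcases hT.fusion t t.2 ht x hx with h | h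
    · refine ⟨1, by simp, ?_⟩
      rw [inv_one, one_mul]
      apply hT.cent t t.2 ht
      calc x * (t : G) = x * (x⁻¹ * t * x) := by rw [h]
        _ = t * x := by group
    · refine ⟨x₀, by simp, ?_⟩
      apply hT.cent t t.2 ht
      have h' : x⁻¹ * (t : G)⁻¹ * x = t := by
        have := congrArg Inv.inv h
        simpa [mul_assoc] using this
      have hx₀' : x₀⁻¹ * (t : G)⁻¹ * x₀ = t := by
        have := congrArg Inv.inv hx₀
        simpa [mul_assoc] using this
      have e1 : x * (t : G) = (t : G)⁻¹ * x := by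
        conv_lhs => rw [← h']
        group
      have e2 : x₀⁻¹ * (t : G)⁻¹ = t * x₀⁻¹ := by
        conv_rhs => rw [← hx₀']
        group
      calc x₀⁻¹ * x * (t : G) = x₀⁻¹ * (x * t) := by group
        _ = x₀⁻¹ * (t : G)⁻¹ * x := by rw [e1]; group
        _ = t * (x₀⁻¹ * x) := by rw [e2]; group
  · intro s hs s' hs' hss
    simp only [Finset.mem_insert, Finset.mem_singleton] at hs hs'
    rcases hs with rfl | rfl <;> rcases hs' with rfl | rfl
    · rfl
    · rw [inv_one, one_mul] at hss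
      exact absurd hss hx₀T
    · rw [mul_one] at hss
      exact absurd (inv_mem_iff.1 hss) hx₀T
    · rfl


/-- Value of an induced function at a central element of the subgroup. -/
theorem indFun_central [Fintype G] (T : Subgroup G) (f : T → ℂ) (z : T)
    (hz : ∀ x : G, x * (z : G) = (z : G) * x) :
    Cfsg.indFun T f (z : G) = ((Nat.card G : ℂ) / (Nat.card T : ℂ)) * f z := by
  rw [indFun_apply]
  have : ∀ x : G, Cfsg.extendByZero T f (x⁻¹ * (z : G) * x) = f z := by
    intro x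
    rw [mul_assoc, ← hz x, ← mul_assoc, inv_mul_cancel, one_mul]
    exact extendByZero_coe T f z
  simp_rw [this]
  rw [Finset.sum_const, Finset.card_univ, nsmul_eq_mul, ← Nat.card_eq_fintype_card]
  ring

/-- An induced function vanishes at the elements without conjugate in the subgroup. -/
theorem indFun_eq_zero [Fintype G] (T : Subgroup G) (f : T → ℂ) (g : G)
    (hg : ∀ x : G, x⁻¹ * g * x ∉ T) : Cfsg.indFun T f g = 0 := by
  rw [indFun_apply]
  apply mul_eq_zero_of_right
  apply Finset.sum_eq_zero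
  intro x _
  exact extendByZero_of_not_mem T f (hg x)

/-- Translation by a central element of the subgroup. -/
theorem indFun_central_mul [Fintype G] (T : Subgroup G) (f : T → ℂ) (z : T)
    (hz : ∀ x : G, x * (z : G) = (z : G) * x) (c : ℂ) (hc : ∀ t : T, f (z * t) = c * f t)
    (g : G) : Cfsg.indFun T f ((z : G) * g) = c * Cfsg.indFun T f g := by
  rw [indFun_apply, indFun_apply]
  have hsum : ∑ x : G, Cfsg.extendByZero T f (x⁻¹ * ((z : G) * g) * x) =
      c * ∑ x : G, Cfsg.extendByZero T f (x⁻¹ * g * x) := by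
    rw [Finset.mul_sum]
    apply Finset.sum_congr rfl
    intro x _
    have h1 : x⁻¹ * ((z : G) * g) * x = (z : G) * (x⁻¹ * g * x) := by
      calc x⁻¹ * ((z : G) * g) * x = x⁻¹ * (z : G) * (g * x) := by group
        _ = (z : G) * x⁻¹ * (g * x) := by rw [hz x⁻¹]
        _ = (z : G) * (x⁻¹ * g * x) := by group
    rw [h1]
    by_cases hm : x⁻¹ * g * x ∈ T
    · rw [extendByZero_of_mem T f hm, extendByZero_of_mem T f (T.mul_mem z.2 hm)]
      exact hc ⟨_, hm⟩
    · have hm' : (z : G) * (x⁻¹ * g * x) ∉ T := by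
        intro h
        apply hm
        have : x⁻¹ * g * x = (z : G)⁻¹ * ((z : G) * (x⁻¹ * g * x)) := by group
        rw [this]
        exact T.mul_mem (T.inv_mem z.2) h
      rw [extendByZero_of_not_mem T f hm, extendByZero_of_not_mem T f hm', mul_zero]
  rw [hsum]
  ring

/-- A sum over a finite type, compared with the sum of a function agreeing off two points. -/
theorem sum_eq_sum_add_corr {ι : Type*} [Fintype ι] [DecidableEq ι] (a b : ι) (hab : a ≠ b)
    (P Q : ι → ℂ) (h : ∀ t, t ≠ a → t ≠ b → P t = Q t) :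
    ∑ t, P t = ∑ t, Q t + (P a - Q a) + (P b - Q b) := by
  have h1 : ∑ t, (P t - Q t) = ∑ t ∈ ({a, b} : Finset ι), (P t - Q t) := by
    symm
    apply Finset.sum_subset (Finset.subset_univ _)
    intro t _ ht
    simp only [Finset.mem_insert, Finset.mem_singleton, not_or] at ht
    rw [h t ht.1 ht.2, sub_self]
  rw [Finset.sum_pair hab, Finset.sum_sub_distrib] at h1
  linear_combination h1


section homs

variable {T : Type*} [Group T] [Fintype T]

/-- Values of a homomorphism from a finite group to `ℂˣ` have absolute value one. -/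
theorem norm_hom_eq_one (φ : T →* ℂˣ) (t : T) : ‖((φ t : ℂˣ) : ℂ)‖ = 1 := by
  have h1 : ((φ t : ℂˣ) : ℂ) ^ orderOf t = 1 := by
    rw [← Units.val_pow_eq_pow_val, ← map_pow, pow_orderOf_eq_one, map_one, Units.val_one]
  exact Complex.norm_eq_one_of_pow_eq_one h1 (orderOf_pos t).ne'

theorem conj_hom (φ : T →* ℂˣ) (t : T) :
    conj ((φ t : ℂˣ) : ℂ) = ((φ t⁻¹ : ℂˣ) : ℂ) := by
  rw [map_inv, Units.val_inv_eq_inv_val, Complex.inv_eq_conj (norm_hom_eq_one φ t)]

theorem hom_mul_conj (φ : T →* ℂˣ) (t : T) :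
    ((φ t : ℂˣ) : ℂ) * conj ((φ t : ℂˣ) : ℂ) = 1 := by
  rw [Complex.mul_conj']
  rw [norm_hom_eq_one φ t]
  norm_num

open scoped Classical in
/-- The sum of the squares of the values of a homomorphism. -/
theorem sum_hom_sq (φ : T →* ℂˣ) :
    ∑ t : T, ((φ t : ℂˣ) : ℂ) ^ 2 = if φ ^ 2 = 1 then (Fintype.card T : ℂ) else 0 := by
  have h := sum_hom_units ((Units.coeHom ℂ).comp (φ ^ 2))
  have e : ((Units.coeHom ℂ).comp (φ ^ 2) = 1) ↔ φ ^ 2 = 1 := by
    constructor
    · intro h1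
      ext t
      have := congrArg (fun f : T →* ℂ => f t) h1
      simpa using this
    · intro h1
      rw [h1]
      ext t
      simp
  simp only [e] at h
  have h2 : ∑ t : T, ((φ t : ℂˣ) : ℂ) ^ 2 = ∑ g, ((Units.coeHom ℂ).comp (φ ^ 2)) g := by
    apply Finset.sum_congr rfl
    intro t _
    simp
  rw [h2, h]
  split_ifs <;> simp

open scoped Classical in
/-- The sum over a group with two marked points `1`, `z` of `φ t * conj (ψ t)`, where `ψ` is
`φ t + φ t⁻¹` off the marked points. -/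
theorem sum_hom_conj_of_generic (φ : T →* ℂˣ) (z : T) (hz1 : z ≠ 1) (hzz : z * z = 1)
    (ψ : T → ℂ)
    (hψ : ∀ t : T, t ≠ 1 → t ≠ z → ψ t = ((φ t : ℂˣ) : ℂ) + ((φ t⁻¹ : ℂˣ) : ℂ)) :
    ∑ t : T, ((φ t : ℂˣ) : ℂ) * conj (ψ t) =
      (Fintype.card T : ℂ) + (if φ ^ 2 = 1 then (Fintype.card T : ℂ) else 0) +
        (conj (ψ 1) - 2) + (((φ z : ℂˣ) : ℂ) * conj (ψ z) - 2) := by
  have hQ : ∀ t : T, ((φ t : ℂˣ) : ℂ) * conj (((φ t : ℂˣ) : ℂ) + ((φ t⁻¹ : ℂˣ) : ℂ)) =
      1 + ((φ t : ℂˣ) : ℂ) ^ 2 := by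
    intro t
    rw [map_add, mul_add, hom_mul_conj, conj_hom φ t⁻¹, inv_inv, sq]
  rw [sum_eq_sum_add_corr 1 z hz1.symm (fun t => ((φ t : ℂˣ) : ℂ) * conj (ψ t))
    (fun t => 1 + ((φ t : ℂˣ) : ℂ) ^ 2)]
  · rw [Finset.sum_add_distrib, sum_hom_sq, Finset.sum_const, Finset.card_univ, nsmul_eq_mul,
      mul_one]
    have hz2 : ((φ z : ℂˣ) : ℂ) ^ 2 = 1 := by
      rw [sq, ← Units.val_mul, ← map_mul, hzz, map_one, Units.val_one]
    simp only [map_one, Units.val_one, one_pow, one_mul, hz2]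
    ring
  · intro t h1 hz
    rw [hψ t h1 hz, hQ]

/-- The sum over a group with two marked points `1`, `z` of `φ t * conj (ψ t)`, where `ψ` vanishes
off the marked points. -/
theorem sum_hom_conj_of_zero (φ : T →* ℂˣ) (z : T) (hz1 : z ≠ 1) (ψ : T → ℂ)
    (hψ : ∀ t : T, t ≠ 1 → t ≠ z → ψ t = 0) :
    ∑ t : T, ((φ t : ℂˣ) : ℂ) * conj (ψ t) =
      conj (ψ 1) + ((φ z : ℂˣ) : ℂ) * conj (ψ z) := by
  classical
  rw [sum_eq_sum_add_corr 1 z hz1.symm (fun t => ((φ t : ℂˣ) : ℂ) * conj (ψ t)) (fun _ => 0)]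
  · simp
  · intro t h1 hz
    rw [hψ t h1 hz, map_zero, mul_zero]

end homs


section inner

variable [Fintype G] (T : Subgroup G) [Fintype T]

open scoped Classical in
/-- Inner product of a function induced from `T` with a class function which is `φ t + φ t⁻¹` on
`T` off the two marked points `1`, `z`. -/
theorem classInner_indFun_of_generic (φ : T →* ℂˣ) (z : T) (hz1 : z ≠ 1) (hzz : z * z = 1)
    (ψ : G → ℂ) (hψc : Cfsg.IsClassFunction G ψ)
    (hψ : ∀ t : T, t ≠ 1 → t ≠ z → ψ t = ((φ t : ℂˣ) : ℂ) + ((φ t⁻¹ : ℂˣ) : ℂ)) :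
    Cfsg.classInner (Cfsg.indFun T (fun t => ((φ t : ℂˣ) : ℂ))) ψ =
      (Nat.card T : ℂ)⁻¹ * ((Nat.card T : ℂ) + (if φ ^ 2 = 1 then (Nat.card T : ℂ) else 0) +
        (conj (ψ 1) - 2) + (((φ z : ℂˣ) : ℂ) * conj (ψ (z : G)) - 2)) := by
  rw [Cfsg.Agent.Lib.Helper75_Induced.frobenius_reciprocity T _ ψ hψc]
  unfold Cfsg.classInner
  congr 1
  rw [sum_hom_conj_of_generic φ z hz1 hzz (fun t : T => ψ t) hψ, Nat.card_eq_fintype_card]
  rfl

/-- Inner product of a function induced from `T` with a class function vanishing on `T` off the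
two marked points `1`, `z`. -/
theorem classInner_indFun_of_zero (φ : T →* ℂˣ) (z : T) (hz1 : z ≠ 1)
    (ψ : G → ℂ) (hψc : Cfsg.IsClassFunction G ψ)
    (hψ : ∀ t : T, t ≠ 1 → t ≠ z → ψ t = 0) :
    Cfsg.classInner (Cfsg.indFun T (fun t => ((φ t : ℂˣ) : ℂ))) ψ =
      (Nat.card T : ℂ)⁻¹ * (conj (ψ 1) + ((φ z : ℂˣ) : ℂ) * conj (ψ (z : G))) := by
  rw [Cfsg.Agent.Lib.Helper75_Induced.frobenius_reciprocity T _ ψ hψc]
  unfold Cfsg.classInner
  congr 1
  rw [sum_hom_conj_of_zero φ z hz1 (fun t : T => ψ t) hψ]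
  rfl

end inner

end Cfsg.Agent.Lib.Helper39_TorusInd
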