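import Mathlib
import Cfsg.Agent.Lib.Helper39_SL2Elliptic
import Cfsg.Agent.Lib.Helper39_TorusInd
import Cfsg.Agent.S2329

/-!
# The two kinds of tori of `SL₂(F)`, `q` odd, are torus-like (helper39)

* the centralizer of an elliptic element (order `q + 1`);
* any cyclic subgroup of order `q + 1` is such a centralizer;
* the diagonal subgroup (order `q - 1`).
-/

set_option autoImplicit false
set_option linter.unusedSectionVars false

namespace Cfsg.Agent.Lib.Helper39_SL2Tori

open Matrix
open Cfsg.Agent.Lib.Helper39_SL2Vanish Cfsg.Agent.Lib.Helper39_SL2HalfValues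
  Cfsg.Agent.Lib.Helper39_SL2Central Cfsg.Agent.Lib.Helper39_SL2Elliptic
  Cfsg.Agent.Lib.Helper39_TorusInd Cfsg.Agent.Lib.Helper39_SL2Borel

variable {F : Type*} [Field F] [Fintype F]

omit [Fintype F] in
theorem mem_center_iff' (x : SpecialLinearGroup (Fin 2) F) :
    x ∈ Subgroup.center (SpecialLinearGroup (Fin 2) F) ↔ x = 1 ∨ x = zc := by
  constructor
  · exact eq_one_or_eq_zc_of_mem_center
  · rintro (rfl | rfl)
    · exact Subgroup.one_mem _
    · exact zc_mem_center

omit [Fintype F] in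
/-- The trace is invariant under conjugation. -/
theorem trace_conj (t x : SpecialLinearGroup (Fin 2) F) :
    ((x⁻¹ * t * x : SpecialLinearGroup (Fin 2) F) : Matrix (Fin 2) (Fin 2) F) 0 0 +
      ((x⁻¹ * t * x : SpecialLinearGroup (Fin 2) F) : Matrix (Fin 2) (Fin 2) F) 1 1 =
    (t : Matrix (Fin 2) (Fin 2) F) 0 0 + (t : Matrix (Fin 2) (Fin 2) F) 1 1 := by
  rw [← Matrix.trace_fin_two, ← Matrix.trace_fin_two, Matrix.SpecialLinearGroup.coe_mul,
    Matrix.SpecialLinearGroup.coe_mul, Matrix.trace_mul_comm, ← mul_assoc,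
    ← Matrix.SpecialLinearGroup.coe_mul, mul_inv_cancel, Matrix.SpecialLinearGroup.coe_one,
    Matrix.one_mul]

/-- An elliptic element is not its own inverse (odd characteristic). -/
theorem ell_ne_inv (hodd : Odd (Fintype.card F)) {t : SpecialLinearGroup (Fin 2) F}
    (ht : IsEll t) : t ≠ t⁻¹ := by
  intro h
  have h2 : (2 : F) ≠ 0 := two_ne_zero_of_odd hodd
  have h1 := congrArg (fun y : SpecialLinearGroup (Fin 2) F =>
    (y : Matrix (Fin 2) (Fin 2) F) 0 1) h
  simp only [Matrix.SpecialLinearGroup.coe_inv, Matrix.adjugate_fin_two, Matrix.of_apply,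
    Matrix.cons_val', Matrix.cons_val_zero, Matrix.cons_val_one, Matrix.cons_val_fin_one] at h1
  apply ell_01_ne_zero ht
  have : 2 * (t : Matrix (Fin 2) (Fin 2) F) 0 1 = 0 := by linear_combination h1
  exact (mul_eq_zero.1 this).resolve_left h2

/-- The centralizer of an elliptic element is torus-like. -/
theorem torusLike_centralizer (hodd : Odd (Fintype.card F)) {g : SpecialLinearGroup (Fin 2) F}
    (hg : IsEll g) :
    TorusLike (Subgroup.centralizer ({g} : Set (SpecialLinearGroup (Fin 2) F)))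
      (Subgroup.center (SpecialLinearGroup (Fin 2) F)) := by
  have hmem : ∀ x : SpecialLinearGroup (Fin 2) F,
      x ∈ Subgroup.centralizer ({g} : Set (SpecialLinearGroup (Fin 2) F)) ↔ x * g = g * x := by
    intro x
    rw [Subgroup.mem_centralizer_iff]
    constructor
    · intro h
      exact (h g (Set.mem_singleton g)).symm
    · intro h y hy
      rw [Set.mem_singleton_iff] at hy
      rw [hy, h]
  have hell : ∀ t ∈ Subgroup.centralizer ({g} : Set (SpecialLinearGroup (Fin 2) F)),
      t ∉ Subgroup.center (SpecialLinearGroup (Fin 2) F) → IsEll t := by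
    intro t ht htZ
    rw [mem_center_iff'] at htZ
    push Not at htZ
    exact ell_of_comm hg t ((hmem t).1 ht) htZ.1 htZ.2
  refine ⟨?_, ?_, ?_, ?_, ?_, ?_, ?_⟩
  · intro a ha b hb
    exact ell_comm_comm hg a b ((hmem a).1 ha) ((hmem b).1 hb)
  · intro z hz x
    exact Subgroup.mem_center_iff.1 hz x
  · exact Subgroup.center_le_centralizer _
  · intro t ht htZ x hx
    have hte := hell t ht htZ
    have hcomm : x⁻¹ * t * x * t = t * (x⁻¹ * t * x) :=
      ell_comm_comm hg _ _ ((hmem _).1 hx) ((hmem t).1 ht)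
    exact ell_fusion hodd hte _ hcomm (trace_conj t x)
  · intro t ht htZ x hx
    rw [hmem]
    have hte := hell t ht htZ
    exact ell_comm_comm hte x g hx (((hmem t).1 ht).symm)
  · intro t ht htZ
    obtain ⟨k, hk⟩ := ell_conj_inv hodd (hell t ht htZ)
    refine ⟨k⁻¹, ?_⟩
    rw [inv_inv, hk]
  · intro t ht htZ
    exact ell_ne_inv hodd (hell t ht htZ)


/-- Powers of `a + N` with `N² = 0`. -/
theorem add_nilp_pow (a : F) (N : Matrix (Fin 2) (Fin 2) F) (hN : N * N = 0) (n : ℕ) :
    (a • (1 : Matrix (Fin 2) (Fin 2) F) + N) ^ (n + 1) =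
      a ^ (n + 1) • (1 : Matrix (Fin 2) (Fin 2) F) + (((n + 1 : ℕ) : F) * a ^ n) • N := by
  induction n with
  | zero => simp
  | succ n ih =>
    rw [pow_succ, ih, add_mul, mul_add, mul_add]
    simp only [smul_mul_assoc, mul_smul_comm, one_mul, mul_one, hN, smul_zero, add_zero,
      smul_smul]
    rw [add_assoc, ← add_smul]
    congr 2
    · rw [pow_succ (a := a) (n := n + 1), mul_comm]
    · push_cast
      ring

/-- A non-central element of `SL₂(F)` of order dividing `q + 1` is elliptic. -/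
theorem ell_of_pow_eq_one {c : SpecialLinearGroup (Fin 2) F}
    (hc : c ^ (Fintype.card F + 1) = 1) (h1 : c ≠ 1) (hz : c ≠ zc) : IsEll c := by
  by_contra hne
  unfold IsEll at hne
  push Not at hne
  obtain ⟨l, v, hv, hcv⟩ := hne
  set M : Matrix (Fin 2) (Fin 2) F := (c : Matrix (Fin 2) (Fin 2) F) with hM
  have hl0 : l ≠ 0 := by
    intro h0
    rw [h0, zero_smul] at hcv
    apply hv
    have h2 : ((c⁻¹ : SpecialLinearGroup (Fin 2) F) : Matrix (Fin 2) (Fin 2) F).mulVec
        (M.mulVec v) = v := by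
      rw [Matrix.mulVec_mulVec, hM, ← Matrix.SpecialLinearGroup.coe_mul, inv_mul_cancel,
        Matrix.SpecialLinearGroup.coe_one, Matrix.one_mulVec]
    rw [hcv, Matrix.mulVec_zero] at h2
    exact h2.symm
  have hpow : ∀ n : ℕ, (M ^ n).mulVec v = l ^ n • v := by
    intro n
    induction n with
    | zero => simp
    | succ n ih =>
      rw [pow_succ, ← Matrix.mulVec_mulVec, hcv, Matrix.mulVec_smul, ih, smul_smul, pow_succ,
        mul_comm]
  have hMq : M ^ (Fintype.card F + 1) = 1 := by
    rw [hM, ← Matrix.SpecialLinearGroup.coe_pow, hc, Matrix.SpecialLinearGroup.coe_one]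
  have hlq : l ^ (Fintype.card F + 1) = 1 := by
    have h2 := hpow (Fintype.card F + 1)
    rw [hMq, Matrix.one_mulVec] at h2
    have h3 : (l ^ (Fintype.card F + 1) - 1) • v = 0 := by
      rw [sub_smul, one_smul, ← h2, sub_self]
    rcases smul_eq_zero.1 h3 with h | h
    · exact sub_eq_zero.1 h
    · exact absurd h hv
  have hl2 : l ^ 2 = 1 := by
    have h2 := FiniteField.pow_card_sub_one_eq_one l hl0
    have hq : 1 ≤ Fintype.card F := Fintype.card_pos
    have h3 : Fintype.card F + 1 = (Fintype.card F - 1) + 2 := by omega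
    rw [h3, pow_add, h2, one_mul] at hlq
    exact hlq
  have hdc := det_eq c
  rw [← hM] at hdc
  have hdet : (M - l • 1).det = 0 := by
    apply Matrix.exists_mulVec_eq_zero_iff.1
    refine ⟨v, hv, ?_⟩
    rw [Matrix.sub_mulVec, Matrix.smul_mulVec, Matrix.one_mulVec, hcv, sub_self]
  rw [Matrix.det_fin_two] at hdet
  simp only [Matrix.sub_apply, Matrix.smul_apply, Matrix.one_apply_eq, smul_eq_mul, mul_one,
    Matrix.one_apply_ne (show (0 : Fin 2) ≠ 1 by decide),
    Matrix.one_apply_ne (show (1 : Fin 2) ≠ 0 by decide), mul_zero, sub_zero] at hdet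
  have htr : M 0 0 + M 1 1 = 2 * l := by
    have h2 : l * (M 0 0 + M 1 1) = l * (2 * l) := by
      linear_combination -hdet + hdc - hl2
    exact mul_left_cancel₀ hl0 h2
  set N : Matrix (Fin 2) (Fin 2) F := M - l • 1 with hN
  have hNN : N * N = 0 := by
    apply Cfsg.Agent.S2329.sq_zero_of_tr_det
    · simp only [hN, Matrix.sub_apply, Matrix.smul_apply, Matrix.one_apply_eq, smul_eq_mul,
        mul_one]
      linear_combination htr
    · simp only [hN, Matrix.sub_apply, Matrix.smul_apply, Matrix.one_apply_eq, smul_eq_mul,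
        mul_one, Matrix.one_apply_ne (show (0 : Fin 2) ≠ 1 by decide),
        Matrix.one_apply_ne (show (1 : Fin 2) ≠ 0 by decide), mul_zero, sub_zero]
      exact hdet
  have hMN : M = l • 1 + N := by rw [hN]; abel
  have h5 := add_nilp_pow l N hNN (Fintype.card F)
  rw [← hMN, hMq, hlq] at h5
  have hcast : (((Fintype.card F + 1 : ℕ) : F)) = 1 := by
    rw [Nat.cast_add, FiniteField.cast_card_eq_zero, zero_add, Nat.cast_one]
  rw [hcast, one_mul] at h5
  have h6 : l ^ Fintype.card F • N = 0 := by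
    have : (1 : Matrix (Fin 2) (Fin 2) F) = 1 • (1 : Matrix (Fin 2) (Fin 2) F) := by simp
    have h7 : (1 : Matrix (Fin 2) (Fin 2) F) + l ^ Fintype.card F • N = 1 + 0 := by
      rw [add_zero]
      conv_rhs => rw [h5]
      simp
    exact add_left_cancel h7
  have hN0 : N = 0 := by
    rcases smul_eq_zero.1 h6 with h | h
    · exact absurd h (pow_ne_zero _ hl0)
    · exact h
  rw [hN0, add_zero] at hMN
  rcases eq_one_or_zc_of_scalar c l hMN with h | h
  · exact h1 h
  · exact hz h


/-- A cyclic subgroup of order `q + 1` of `SL₂(F)` is the centralizer of an elliptic element. -/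
theorem cyclic_eq_centralizer (hodd : Odd (Fintype.card F))
    (C : Subgroup (SpecialLinearGroup (Fin 2) F)) (hC : IsCyclic C)
    (hcard : Nat.card C = Fintype.card F + 1) :
    ∃ c₀ : SpecialLinearGroup (Fin 2) F, IsEll c₀ ∧ c₀ ∈ C ∧
      C = Subgroup.centralizer ({c₀} : Set (SpecialLinearGroup (Fin 2) F)) := by
  obtain ⟨c, hc⟩ := hC.exists_generator
  have hq : 2 ≤ Fintype.card F := Fintype.one_lt_card
  have hord : orderOf c = Fintype.card F + 1 := by
    rw [orderOf_eq_card_of_forall_mem_zpowers hc, hcard]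
  have hord' : orderOf (c : SpecialLinearGroup (Fin 2) F) = Fintype.card F + 1 := by
    rw [Subgroup.orderOf_coe, hord]
  have hpow : (c : SpecialLinearGroup (Fin 2) F) ^ (Fintype.card F + 1) = 1 := by
    rw [← hord']
    exact pow_orderOf_eq_one _
  have h1 : (c : SpecialLinearGroup (Fin 2) F) ≠ 1 := by
    intro h
    rw [h, orderOf_one] at hord'
    omega
  have hz : (c : SpecialLinearGroup (Fin 2) F) ≠ zc := by
    intro h
    have h2 : orderOf (c : SpecialLinearGroup (Fin 2) F) ∣ 2 := by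
      apply orderOf_dvd_of_pow_eq_one
      rw [h, sq, zc_mul_self]
    have := Nat.le_of_dvd (by norm_num) h2
    omega
  have hell := ell_of_pow_eq_one hpow h1 hz
  refine ⟨c, hell, c.2, ?_⟩
  apply Subgroup.eq_of_le_of_card_ge
  · intro x hx
    obtain ⟨k, hk⟩ := Subgroup.mem_zpowers_iff.1 (hc ⟨x, hx⟩)
    have hx' : x = (c : SpecialLinearGroup (Fin 2) F) ^ k := by
      have := congrArg Subtype.val hk
      simpa using this.symm
    rw [Subgroup.mem_centralizer_iff]
    intro y hy
    rw [Set.mem_singleton_iff] at hy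
    rw [hy, hx']
    exact (Commute.zpow_right (Commute.refl _) k).eq
  · rw [card_centralizer_ell hodd hell, hcard]


/-! ### The split torus -/

/-- The diagonal subgroup of `SL₂(F)`. -/
def Hs (F : Type*) [Field F] : Subgroup (SpecialLinearGroup (Fin 2) F) where
  carrier := {g | (g : Matrix (Fin 2) (Fin 2) F) 0 1 = 0 ∧ (g : Matrix (Fin 2) (Fin 2) F) 1 0 = 0}
  mul_mem' := by
    intro a b ha hb
    simp only [Set.mem_ofPred_eq] at ha hb ⊢
    rw [Matrix.SpecialLinearGroup.coe_mul]
    simp [Matrix.mul_apply, Fin.sum_univ_two, ha.1, ha.2, hb.1, hb.2]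
  one_mem' := by simp
  inv_mem' := by
    intro a ha
    simp only [Set.mem_ofPred_eq] at ha ⊢
    rw [Matrix.SpecialLinearGroup.coe_inv, Matrix.adjugate_fin_two]
    simp [ha.1, ha.2]

omit [Fintype F] in
theorem mem_Hs_iff (g : SpecialLinearGroup (Fin 2) F) :
    g ∈ Hs F ↔ (g : Matrix (Fin 2) (Fin 2) F) 0 1 = 0 ∧ (g : Matrix (Fin 2) (Fin 2) F) 1 0 = 0 :=
  Iff.rfl

omit [Fintype F] in
theorem Hs_det {g : SpecialLinearGroup (Fin 2) F} (hg : g ∈ Hs F) :
    (g : Matrix (Fin 2) (Fin 2) F) 0 0 * (g : Matrix (Fin 2) (Fin 2) F) 1 1 = 1 := by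
  have := det_eq g
  rw [hg.1, zero_mul, sub_zero] at this
  exact this

omit [Fintype F] in
/-- A diagonal element is determined by its first entry. -/
theorem Hs_ext {g h : SpecialLinearGroup (Fin 2) F} (hg : g ∈ Hs F) (hh : h ∈ Hs F)
    (h00 : (g : Matrix (Fin 2) (Fin 2) F) 0 0 = (h : Matrix (Fin 2) (Fin 2) F) 0 0) : g = h := by
  have h1 := Hs_det hg
  have h2 := Hs_det hh
  have hne : (g : Matrix (Fin 2) (Fin 2) F) 0 0 ≠ 0 := left_ne_zero_of_mul_eq_one h1
  have h11 : (g : Matrix (Fin 2) (Fin 2) F) 1 1 = (h : Matrix (Fin 2) (Fin 2) F) 1 1 := by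
    apply mul_left_cancel₀ hne
    rw [h1, h00, h2]
  apply Matrix.SpecialLinearGroup.ext
  intro i j
  fin_cases i <;> fin_cases j
  · exact h00
  · exact hg.1.trans hh.1.symm
  · exact hg.2.trans hh.2.symm
  · exact h11

omit [Fintype F] in
/-- The central elements of the diagonal subgroup. -/
theorem Hs_mem_center_iff {g : SpecialLinearGroup (Fin 2) F} (hg : g ∈ Hs F) :
    g ∈ Subgroup.center (SpecialLinearGroup (Fin 2) F) ↔
      (g : Matrix (Fin 2) (Fin 2) F) 0 0 ^ 2 = 1 := by
  rw [mem_center_iff']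
  constructor
  · rintro (rfl | rfl)
    · simp
    · rw [zc_val]; simp
  · intro h
    have h2 : ((g : Matrix (Fin 2) (Fin 2) F) 0 0 - 1) * ((g : Matrix (Fin 2) (Fin 2) F) 0 0 + 1)
        = 0 := by linear_combination h
    rcases mul_eq_zero.1 h2 with h3 | h3
    · left
      apply Hs_ext hg (Subgroup.one_mem _)
      rw [sub_eq_zero.1 h3]
      simp
    · right
      have hz : (zc : SpecialLinearGroup (Fin 2) F) ∈ Hs F := by
        rw [mem_Hs_iff, zc_val]; simp
      apply Hs_ext hg hz
      rw [eq_neg_of_add_eq_zero_left h3, zc_val]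
      simp

/-- The diagonal subgroup is torus-like. -/
theorem torusLike_Hs :
    TorusLike (Hs F) (Subgroup.center (SpecialLinearGroup (Fin 2) F)) := by
  refine ⟨?_, ?_, ?_, ?_, ?_, ?_, ?_⟩
  · intro a ha b hb
    apply Matrix.SpecialLinearGroup.ext
    intro i j
    rw [Matrix.SpecialLinearGroup.coe_mul, Matrix.SpecialLinearGroup.coe_mul]
    fin_cases i <;> fin_cases j <;>
      simp [Matrix.mul_apply, Fin.sum_univ_two, ha.1, ha.2, hb.1, hb.2, mul_comm]
  · intro z hz x
    exact Subgroup.mem_center_iff.1 hz x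
  · intro z hz
    rcases (mem_center_iff' z).1 hz with rfl | rfl
    · exact Subgroup.one_mem _
    · rw [mem_Hs_iff, zc_val]; simp
  · intro t ht htZ x hx
    have h1 := Hs_det ht
    have h2 := Hs_det hx
    have htr := trace_conj t x
    set a := (t : Matrix (Fin 2) (Fin 2) F) 0 0 with ha
    set a' := ((x⁻¹ * t * x : SpecialLinearGroup (Fin 2) F) : Matrix (Fin 2) (Fin 2) F) 0 0
      with ha'
    have hane : a ≠ 0 := left_ne_zero_of_mul_eq_one h1
    have ha'ne : a' ≠ 0 := left_ne_zero_of_mul_eq_one h2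
    have e : (a' - a) * (a' - (t : Matrix (Fin 2) (Fin 2) F) 1 1) = 0 := by
      have h3 : (t : Matrix (Fin 2) (Fin 2) F) 1 1 = a⁻¹ := eq_inv_of_mul_eq_one_right h1
      have h4 : ((x⁻¹ * t * x : SpecialLinearGroup (Fin 2) F) : Matrix (Fin 2) (Fin 2) F) 1 1 =
          a'⁻¹ := eq_inv_of_mul_eq_one_right h2
      rw [h3, h4] at htr
      rw [h3]
      field_simp at htr ⊢
      linear_combination htr
    rcases mul_eq_zero.1 e with h | h
    · left
      exact Hs_ext hx ht (sub_eq_zero.1 h)
    · right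
      apply Hs_ext hx ((Hs F).inv_mem ht)
      have hinv : ((t⁻¹ : SpecialLinearGroup (Fin 2) F) : Matrix (Fin 2) (Fin 2) F) 0 0 =
          (t : Matrix (Fin 2) (Fin 2) F) 1 1 := by
        rw [Matrix.SpecialLinearGroup.coe_inv, Matrix.adjugate_fin_two]
        simp
      exact (sub_eq_zero.1 h).trans hinv.symm
  · intro t ht htZ x hx
    rw [Hs_mem_center_iff ht] at htZ
    have h1 := Hs_det ht
    set a := (t : Matrix (Fin 2) (Fin 2) F) 0 0 with ha
    have hane : a ≠ 0 := left_ne_zero_of_mul_eq_one h1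
    have h3 : (t : Matrix (Fin 2) (Fin 2) F) 1 1 = a⁻¹ := eq_inv_of_mul_eq_one_right h1
    have hd : a - a⁻¹ ≠ 0 := by
      intro h
      apply htZ
      field_simp at h
      linear_combination h
    have hM := congrArg (fun y : SpecialLinearGroup (Fin 2) F =>
      (y : Matrix (Fin 2) (Fin 2) F)) hx
    simp only [Matrix.SpecialLinearGroup.coe_mul] at hM
    have e01 := congrFun (congrFun hM 0) 1
    have e10 := congrFun (congrFun hM 1) 0
    simp only [Matrix.mul_apply, Fin.sum_univ_two, ht.1, ht.2, h3, ← ha, mul_zero, zero_mul,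
      add_zero, zero_add] at e01 e10
    constructor
    · have : (x : Matrix (Fin 2) (Fin 2) F) 0 1 * (a - a⁻¹) = 0 := by linear_combination -e01
      exact (mul_eq_zero.1 this).resolve_right hd
    · have : (x : Matrix (Fin 2) (Fin 2) F) 1 0 * (a - a⁻¹) = 0 := by linear_combination e10
      exact (mul_eq_zero.1 this).resolve_right hd
  · intro t ht htZ
    refine ⟨wS, ?_⟩
    have hform : (t : Matrix (Fin 2) (Fin 2) F) =
        !![(t : Matrix (Fin 2) (Fin 2) F) 0 0, 0; 0, (t : Matrix (Fin 2) (Fin 2) F) 1 1] := by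
      conv_lhs => rw [Matrix.eta_fin_two (t : Matrix (Fin 2) (Fin 2) F), ht.1, ht.2]
    apply Matrix.SpecialLinearGroup.ext
    intro i j
    rw [Matrix.SpecialLinearGroup.coe_mul, Matrix.SpecialLinearGroup.coe_mul,
      wS_inv_val, wS_val, Matrix.SpecialLinearGroup.coe_inv, Matrix.adjugate_fin_two, hform]
    fin_cases i <;> fin_cases j <;> simp [Matrix.mul_apply, Fin.sum_univ_two]
  · intro t ht htZ h
    rw [Hs_mem_center_iff ht] at htZ
    apply htZ
    have h1 := Hs_det ht
    have h00 := congrArg (fun y : SpecialLinearGroup (Fin 2) F =>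
      (y : Matrix (Fin 2) (Fin 2) F) 0 0) h
    simp only [Matrix.SpecialLinearGroup.coe_inv, Matrix.adjugate_fin_two, Matrix.of_apply,
      Matrix.cons_val', Matrix.cons_val_zero, Matrix.cons_val_fin_one] at h00
    rw [sq]
    nth_rewrite 2 [h00]
    exact h1


omit [Fintype F] in
theorem Hs_le_B1 : Hs F ≤ B1 F := by
  intro g hg
  rw [mem_B1_iff]
  exact hg.2

omit [Fintype F] in
/-- The diagonal element with entry `a`. -/
theorem b1Mat_mem_Hs (a : Fˣ) : ((b1Mat a 0 : B1 F) : SpecialLinearGroup (Fin 2) F) ∈ Hs F := by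
  rw [mem_Hs_iff, b1Mat_val]
  simp

/-- The diagonal subgroup has order `q - 1`. -/
theorem card_Hs : Nat.card (Hs F) = Fintype.card F - 1 := by
  classical
  have hbij : Function.Bijective (fun a : Fˣ =>
      (⟨((b1Mat a 0 : B1 F) : SpecialLinearGroup (Fin 2) F), b1Mat_mem_Hs a⟩ : Hs F)) := by
    constructor
    · intro a a' h
      have h1 := congrArg (fun t : Hs F =>
        ((t : SpecialLinearGroup (Fin 2) F) : Matrix (Fin 2) (Fin 2) F) 0 0) h
      simp only [b1Mat_val] at h1
      exact Units.ext (by simpa using h1)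
    · intro t
      have hne : ((t : SpecialLinearGroup (Fin 2) F) : Matrix (Fin 2) (Fin 2) F) 0 0 ≠ 0 :=
        left_ne_zero_of_mul_eq_one (Hs_det t.2)
      refine ⟨Units.mk0 _ hne, ?_⟩
      apply Subtype.ext
      apply Hs_ext (b1Mat_mem_Hs _) t.2
      rw [b1Mat_val]
      simp
  rw [← Nat.card_congr (Equiv.ofBijective _ hbij), Nat.card_eq_fintype_card, Fintype.card_units]

omit [Fintype F] in
/-- Conjugates of elliptic elements are elliptic. -/
theorem isEll_conj {g : SpecialLinearGroup (Fin 2) F} (hg : IsEll g)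
    (x : SpecialLinearGroup (Fin 2) F) : IsEll (x⁻¹ * g * x) := by
  intro c v hv h
  apply hg c ((x : Matrix (Fin 2) (Fin 2) F).mulVec v)
  · intro h0
    apply hv
    have h2 : ((x⁻¹ : SpecialLinearGroup (Fin 2) F) : Matrix (Fin 2) (Fin 2) F).mulVec
        ((x : Matrix (Fin 2) (Fin 2) F).mulVec v) = v := by
      rw [Matrix.mulVec_mulVec, ← Matrix.SpecialLinearGroup.coe_mul, inv_mul_cancel,
        Matrix.SpecialLinearGroup.coe_one, Matrix.one_mulVec]
    rw [h0, Matrix.mulVec_zero] at h2
    exact h2.symm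
  · have h3 : (x : Matrix (Fin 2) (Fin 2) F) *
        ((x⁻¹ * g * x : SpecialLinearGroup (Fin 2) F) : Matrix (Fin 2) (Fin 2) F) =
        (g : Matrix (Fin 2) (Fin 2) F) * (x : Matrix (Fin 2) (Fin 2) F) := by
      rw [← Matrix.SpecialLinearGroup.coe_mul, ← Matrix.SpecialLinearGroup.coe_mul]
      have h4 : x * (x⁻¹ * g * x) = g * x := by group
      rw [h4]
    rw [Matrix.mulVec_mulVec, ← h3, ← Matrix.mulVec_mulVec, h, Matrix.mulVec_smul]

omit [Fintype F] in
/-- Upper triangular elements are not elliptic. -/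
theorem not_isEll_of_mem_B1 {g : SpecialLinearGroup (Fin 2) F} (hg : g ∈ B1 F) : ¬ IsEll g := by
  intro h
  exact ell_10_ne_zero h ((mem_B1_iff g).1 hg)

omit [Fintype F] in
/-- No conjugate of an elliptic element is upper triangular. -/
theorem conj_not_mem_B1 {g : SpecialLinearGroup (Fin 2) F} (hg : IsEll g)
    (x : SpecialLinearGroup (Fin 2) F) : x⁻¹ * g * x ∉ B1 F := fun h =>
  not_isEll_of_mem_B1 h (isEll_conj hg x)

end Cfsg.Agent.Lib.Helper39_SL2Tori
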