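import Mathlib
import Cfsg.Agent.Lib.Helper39_SL2Tori
import Cfsg.Agent.Lib.Helper39_TorusInd
import Cfsg.Agent.Lib.Helper39_Virtual
import Cfsg.Agent.Lib.Helper39_SL2Ind
import Cfsg.Agent.Lib.Helper75_IndChar
import Cfsg.Agent.Lib.Helper75_Induced
import Cfsg.Agent.Lib.Helper79_Linear
import Cfsg.Agent.S2301
import Cfsg.Agent.Lib.Helper3_CharOrtho
import Cfsg.Agent.Lib.Helper3_Exceptional

/-!
# The cuspidal characters of `SL₂(F)`, `q` odd (helper39)

For an elliptic element `g₀` with centralizer `C` (a non-split torus, of order `q + 1`), a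
homomorphism `θ : C → ℂˣ` and a multiplicative character `α` of `F` with `α (-1) = θ (-1)`, the
class function `Ξ = Ind_H α - Ind_B α - Ind_C θ` (`H` the diagonal subgroup, `B` the Borel
subgroup) has norm `1` if `θ² ≠ 1` and `2` otherwise, degree `q - 1`, and explicit values.
-/

set_option autoImplicit false
set_option linter.unusedSectionVars false

namespace Cfsg.Agent.Lib.Helper39_SL2Cuspidal

open scoped ComplexConjugate
open Matrix
open Cfsg.Agent.Lib.Helper39_SL2Vanish Cfsg.Agent.Lib.Helper39_SL2HalfValues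
  Cfsg.Agent.Lib.Helper39_SL2Central Cfsg.Agent.Lib.Helper39_SL2Elliptic
  Cfsg.Agent.Lib.Helper39_TorusInd Cfsg.Agent.Lib.Helper39_SL2Borel
  Cfsg.Agent.Lib.Helper39_SL2Tori Cfsg.Agent.Lib.Helper39_SL2Ind

variable {F : Type*} [Field F] [Fintype F] [Fintype (SpecialLinearGroup (Fin 2) F)]

/-- The homomorphism of the diagonal subgroup attached to a multiplicative character. -/
noncomputable def phiH (α : MulChar F ℂ) : Hs F →* ℂˣ :=
  (aHom α).comp (Subgroup.inclusion Hs_le_B1)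

theorem phiH_coe (α : MulChar F ℂ) (h : Hs F) :
    ((phiH α h : ℂˣ) : ℂ) =
      α (((h : SpecialLinearGroup (Fin 2) F) : Matrix (Fin 2) (Fin 2) F) 0 0) := by
  unfold phiH
  rw [MonoidHom.comp_apply, aHom_coe]
  rfl

/-- The central element `-1` in the diagonal subgroup. -/
noncomputable def zH : Hs F := ⟨zc, by rw [mem_Hs_iff, zc_val]; simp⟩

theorem zH_ne_one (h2 : (2 : F) ≠ 0) : (zH : Hs F) ≠ 1 := by
  intro h
  exact zc_ne_one h2 (congrArg Subtype.val h)

theorem zH_mul_self : (zH : Hs F) * zH = 1 := Subtype.ext zc_mul_self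

theorem Hs_mem_center (t : Hs F) :
    (t : SpecialLinearGroup (Fin 2) F) ∈ Subgroup.center (SpecialLinearGroup (Fin 2) F) ↔
      t = 1 ∨ t = zH := by
  rw [mem_center_iff']
  constructor
  · rintro (h | h)
    · left; exact Subtype.ext h
    · right; exact Subtype.ext h
  · rintro (h | h)
    · left; rw [h]; rfl
    · right; rw [h]; rfl

theorem phiH_zH (α : MulChar F ℂ) : ((phiH α zH : ℂˣ) : ℂ) = α (-1) := by
  rw [phiH_coe]
  change α ((zc : SpecialLinearGroup (Fin 2) F) 0 0) = _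
  rw [zc_val]
  simp

/-- The three induced class functions. -/
noncomputable def indA (α : MulChar F ℂ) : SpecialLinearGroup (Fin 2) F → ℂ :=
  Cfsg.indFun (Hs F) (fun h => ((phiH α h : ℂˣ) : ℂ))

noncomputable def indW (α : MulChar F ℂ) : SpecialLinearGroup (Fin 2) F → ℂ :=
  Cfsg.indFun (B1 F) (aFun α)

theorem isCharacter_indA (α : MulChar F ℂ) :
    Cfsg.IsCharacter (SpecialLinearGroup (Fin 2) F) (indA α) :=
  Cfsg.Agent.Lib.Helper75_IndChar.isCharacter_indFun _
    (Cfsg.Agent.Lib.Helper3_CharBridge.isCharacter_of_isIrrCharacter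
      (Cfsg.Agent.Lib.Helper79_Linear.isIrrCharacter_of_hom (phiH α)))

theorem isCharacter_indW (α : MulChar F ℂ) :
    Cfsg.IsCharacter (SpecialLinearGroup (Fin 2) F) (indW α) :=
  isCharacter_indFun_aFun α

/-- Values of `Ind_H α` on the diagonal subgroup. -/
theorem indA_Hs (α : MulChar F ℂ) (t : Hs F) (h1 : t ≠ 1) (hz : t ≠ zH) :
    indA α (t : SpecialLinearGroup (Fin 2) F) =
      ((phiH α t : ℂˣ) : ℂ) + ((phiH α t⁻¹ : ℂˣ) : ℂ) := by
  unfold indA
  rw [indFun_torus torusLike_Hs _ t]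
  rw [Hs_mem_center]
  push Not
  exact ⟨h1, hz⟩

/-- Values of `Ind_B α` on the diagonal subgroup. -/
theorem indW_Hs (α : MulChar F ℂ) (t : Hs F) (h1 : t ≠ 1) (hz : t ≠ zH) :
    indW α (t : SpecialLinearGroup (Fin 2) F) =
      ((phiH α t : ℂˣ) : ℂ) + ((phiH α t⁻¹ : ℂˣ) : ℂ) := by
  have hnc : (t : SpecialLinearGroup (Fin 2) F) ∉
      Subgroup.center (SpecialLinearGroup (Fin 2) F) := by
    rw [Hs_mem_center]
    push Not
    exact ⟨h1, hz⟩
  rw [Hs_mem_center_iff t.2] at hnc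
  have hdet := Hs_det t.2
  set a := ((t : SpecialLinearGroup (Fin 2) F) : Matrix (Fin 2) (Fin 2) F) 0 0 with ha
  have hne : a ≠ ((t : SpecialLinearGroup (Fin 2) F) : Matrix (Fin 2) (Fin 2) F) 1 1 := by
    intro h
    apply hnc
    rw [sq]
    nth_rewrite 2 [h]
    exact hdet
  unfold indW
  have := indFun_aFun_regular α (Subgroup.inclusion Hs_le_B1 t) hne
  rw [phiH_coe, phiH_coe]
  have hinv : (((t⁻¹ : Hs F) : SpecialLinearGroup (Fin 2) F) : Matrix (Fin 2) (Fin 2) F) 0 0 =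
      ((t : SpecialLinearGroup (Fin 2) F) : Matrix (Fin 2) (Fin 2) F) 1 1 := by
    rw [Subgroup.coe_inv, Matrix.SpecialLinearGroup.coe_inv, Matrix.adjugate_fin_two]
    simp
  rw [hinv]
  exact this


/-- The order of `SL₂(F)` as a complex number. -/
theorem card_G : (Nat.card (SpecialLinearGroup (Fin 2) F) : ℂ) =
    (Fintype.card F : ℂ) * ((Fintype.card F : ℂ) - 1) * ((Fintype.card F : ℂ) + 1) := by
  rw [Cfsg.Agent.S2301.card_SL2]
  obtain ⟨Q, hQ⟩ : ∃ Q : ℕ, Fintype.card F = Q + 1 :=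
    ⟨Fintype.card F - 1, by have := Fintype.card_pos (α := F); omega⟩
  rw [hQ]
  have e1 : (Q + 1) ^ 2 - 1 = Q * (Q + 2) := by
    apply Nat.sub_eq_of_eq_add
    ring
  rw [e1]
  push_cast
  ring

theorem card_Hs' : (Nat.card (Hs F) : ℂ) = (Fintype.card F : ℂ) - 1 := by
  rw [card_Hs, Nat.cast_sub Fintype.card_pos, Nat.cast_one]

theorem q_sub_one_ne_zero : (Fintype.card F : ℂ) - 1 ≠ 0 := by
  have h : 2 ≤ Fintype.card F := Fintype.one_lt_card
  intro h0
  have h1 : (Fintype.card F : ℂ) = 1 := by linear_combination h0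
  have h2 : Fintype.card F = 1 := by exact_mod_cast h1
  omega

theorem q_add_one_ne_zero : (Fintype.card F : ℂ) + 1 ≠ 0 := by
  have : ((Fintype.card F + 1 : ℕ) : ℂ) ≠ 0 := by
    rw [Nat.cast_ne_zero]
    omega
  simpa using this

/-- Values of `Ind_H α` at the central elements. -/
theorem indA_one (α : MulChar F ℂ) :
    indA α 1 = (Fintype.card F : ℂ) * ((Fintype.card F : ℂ) + 1) := by
  have h := indFun_central (Hs F) (fun h => ((phiH α h : ℂˣ) : ℂ)) 1 (fun x => by simp)
  unfold indA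
  rw [Subgroup.coe_one] at h
  rw [h, map_one, Units.val_one, mul_one, card_G, card_Hs']
  field_simp [q_sub_one_ne_zero (F := F)]

theorem indA_zc (α : MulChar F ℂ) :
    indA α zc = (Fintype.card F : ℂ) * ((Fintype.card F : ℂ) + 1) * α (-1) := by
  have h := indFun_central (Hs F) (fun h => ((phiH α h : ℂˣ) : ℂ)) zH
    (fun x => zc_central x)
  unfold indA
  change Cfsg.indFun (Hs F) _ zc = _ at h
  rw [h, phiH_zH, card_G, card_Hs']
  field_simp [q_sub_one_ne_zero (F := F)]

/-- Values of `Ind_B α` at the central elements. -/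
theorem indW_one (α : MulChar F ℂ) : indW α 1 = (Fintype.card F : ℂ) + 1 := by
  have h := indFun_central1 (aFun α) 1 (fun x => by simp)
  unfold indW
  rw [Subgroup.coe_one] at h
  rw [h, aFun_one, mul_one]

theorem indW_zc (α : MulChar F ℂ) :
    indW α zc = ((Fintype.card F : ℂ) + 1) * α (-1) := by
  have h := indFun_central1 (aFun α) (b1Mat (-1 : Fˣ) 0) (fun x => zc_central x)
  unfold indW
  change Cfsg.indFun (B1 F) _ zc = _ at h
  rw [h, aFun_b1Mat]
  simp


theorem alpha_neg_one_sq (α : MulChar F ℂ) : α (-1) * α (-1) = 1 := by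
  rw [← map_mul]
  simp

theorem alpha_neg_one_conj (α : MulChar F ℂ) : conj (α (-1)) = α (-1) := by
  have h := alpha_neg_one_sq α
  have h2 : (α (-1) - 1) * (α (-1) + 1) = 0 := by linear_combination h
  rcases mul_eq_zero.1 h2 with h3 | h3
  · rw [sub_eq_zero.1 h3]; simp
  · rw [eq_neg_of_add_eq_zero_left h3]; simp

theorem phiH_sq_eq_one_iff (α : MulChar F ℂ) : (phiH α) ^ 2 = 1 ↔ α ^ 2 = 1 := by
  constructor
  · intro h
    ext a
    have h1 := congrArg (fun f : Hs F →* ℂˣ =>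
      ((f ⟨((b1Mat a 0 : B1 F) : SpecialLinearGroup (Fin 2) F), b1Mat_mem_Hs a⟩ : ℂˣ) : ℂ)) h
    simp only [MonoidHom.pow_apply, Units.val_pow_eq_pow_val, MonoidHom.one_apply,
      Units.val_one] at h1
    rw [phiH_coe] at h1
    simp only [b1Mat_val, Matrix.of_apply, Matrix.cons_val', Matrix.cons_val_zero,
      Matrix.cons_val_fin_one] at h1
    rw [MulChar.pow_apply_coe, h1, MulChar.one_apply_coe]
  · intro h
    ext t
    simp only [MonoidHom.pow_apply, Units.val_pow_eq_pow_val, MonoidHom.one_apply,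
      Units.val_one]
    rw [phiH_coe]
    have hne : ((t : SpecialLinearGroup (Fin 2) F) : Matrix (Fin 2) (Fin 2) F) 0 0 ≠ 0 :=
      left_ne_zero_of_mul_eq_one (Hs_det t.2)
    have h1 := congrArg (fun β : MulChar F ℂ =>
      β (((t : SpecialLinearGroup (Fin 2) F) : Matrix (Fin 2) (Fin 2) F) 0 0)) h
    rw [MulChar.pow_apply' α (by norm_num), MulChar.one_apply hne.isUnit] at h1
    exact h1

open scoped Classical in
/-- The norm of `Ind_H α`. -/
theorem inner_AA (hodd : Odd (Fintype.card F)) (α : MulChar F ℂ) :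
    Cfsg.classInner (indA α) (indA α) =
      2 * (Fintype.card F : ℂ) + 5 + (if α ^ 2 = 1 then 1 else 0) := by
  have h2 : (2 : F) ≠ 0 := two_ne_zero_of_odd hodd
  have : Fintype (Hs F) := Fintype.ofFinite _
  have h := classInner_indFun_of_generic (Hs F) (phiH α) zH (zH_ne_one h2) zH_mul_self
    (indA α) (Cfsg.Agent.Lib.Helper75_Induced.isClassFunction_indFun _ _) (indA_Hs α)
  change Cfsg.classInner (indA α) (indA α) = _ at h
  rw [h]
  change _ * (_ + _ + (conj (indA α 1) - 2) + (_ * conj (indA α zc) - 2)) = _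
  rw [indA_one, indA_zc, phiH_zH, card_Hs']
  simp only [phiH_sq_eq_one_iff, map_mul, map_add, map_natCast, map_one, alpha_neg_one_conj]
  have hq := q_sub_one_ne_zero (F := F)
  have ha := alpha_neg_one_sq α
  split_ifs
  · field_simp
    linear_combination ((Fintype.card F : ℂ) * ((Fintype.card F : ℂ) + 1)) * ha
  · field_simp
    linear_combination ((Fintype.card F : ℂ) * ((Fintype.card F : ℂ) + 1)) * ha

open scoped Classical in
/-- The inner product of `Ind_H α` and `Ind_B α`. -/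
theorem inner_AW (hodd : Odd (Fintype.card F)) (α : MulChar F ℂ) :
    Cfsg.classInner (indA α) (indW α) = 3 + (if α ^ 2 = 1 then 1 else 0) := by
  have h2 : (2 : F) ≠ 0 := two_ne_zero_of_odd hodd
  have : Fintype (Hs F) := Fintype.ofFinite _
  have h := classInner_indFun_of_generic (Hs F) (phiH α) zH (zH_ne_one h2) zH_mul_self
    (indW α) (Cfsg.Agent.Lib.Helper75_Induced.isClassFunction_indFun _ _) (indW_Hs α)
  change Cfsg.classInner (indA α) (indW α) = _ at h
  rw [h]
  change _ * (_ + _ + (conj (indW α 1) - 2) + (_ * conj (indW α zc) - 2)) = _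
  rw [indW_one, indW_zc, phiH_zH, card_Hs']
  simp only [phiH_sq_eq_one_iff, map_mul, map_add, map_natCast, map_one, alpha_neg_one_conj]
  have hq := q_sub_one_ne_zero (F := F)
  have ha := alpha_neg_one_sq α
  split_ifs
  · field_simp
    linear_combination ((Fintype.card F : ℂ) + 1) * ha
  · field_simp
    linear_combination ((Fintype.card F : ℂ) + 1) * ha


section nonsplit

variable {g₀ : SpecialLinearGroup (Fin 2) F}

/-- The central element `-1` in the centralizer of `g₀`. -/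
noncomputable def zC (g₀ : SpecialLinearGroup (Fin 2) F) :
    Subgroup.centralizer ({g₀} : Set (SpecialLinearGroup (Fin 2) F)) :=
  ⟨zc, Subgroup.center_le_centralizer _ zc_mem_center⟩

theorem zC_ne_one (h2 : (2 : F) ≠ 0) : zC g₀ ≠ 1 := by
  intro h
  exact zc_ne_one h2 (congrArg Subtype.val h)

theorem zC_mul_self : zC g₀ * zC g₀ = 1 := Subtype.ext zc_mul_self

theorem Cg_mem_center (t : Subgroup.centralizer ({g₀} : Set (SpecialLinearGroup (Fin 2) F))) :
    (t : SpecialLinearGroup (Fin 2) F) ∈ Subgroup.center (SpecialLinearGroup (Fin 2) F) ↔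
      t = 1 ∨ t = zC g₀ := by
  rw [mem_center_iff']
  constructor
  · rintro (h | h)
    · left; exact Subtype.ext h
    · right; exact Subtype.ext h
  · rintro (h | h)
    · left; rw [h]; rfl
    · right; rw [h]; rfl

/-- The class function induced from the non-split torus. -/
noncomputable def indI
    (θ : Subgroup.centralizer ({g₀} : Set (SpecialLinearGroup (Fin 2) F)) →* ℂˣ) :
    SpecialLinearGroup (Fin 2) F → ℂ :=
  Cfsg.indFun (Subgroup.centralizer ({g₀} : Set (SpecialLinearGroup (Fin 2) F)))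
    (fun c => ((θ c : ℂˣ) : ℂ))

theorem isCharacter_indI
    (θ : Subgroup.centralizer ({g₀} : Set (SpecialLinearGroup (Fin 2) F)) →* ℂˣ) :
    Cfsg.IsCharacter (SpecialLinearGroup (Fin 2) F) (indI θ) :=
  Cfsg.Agent.Lib.Helper75_IndChar.isCharacter_indFun _
    (Cfsg.Agent.Lib.Helper3_CharBridge.isCharacter_of_isIrrCharacter
      (Cfsg.Agent.Lib.Helper79_Linear.isIrrCharacter_of_hom θ))

theorem card_Cg' (hodd : Odd (Fintype.card F)) (hg₀ : IsEll g₀) :
    (Nat.card (Subgroup.centralizer ({g₀} : Set (SpecialLinearGroup (Fin 2) F))) : ℂ) =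
      (Fintype.card F : ℂ) + 1 := by
  rw [card_centralizer_ell hodd hg₀]
  push_cast
  rfl

/-- A non-central element of the non-split torus is elliptic. -/
theorem Cg_ell (hg₀ : IsEll g₀)
    (t : Subgroup.centralizer ({g₀} : Set (SpecialLinearGroup (Fin 2) F)))
    (h1 : t ≠ 1) (hz : t ≠ zC g₀) : IsEll (t : SpecialLinearGroup (Fin 2) F) := by
  apply ell_of_comm hg₀
  · exact ((Subgroup.mem_centralizer_iff.1 t.2) g₀ (Set.mem_singleton g₀)).symm
  · intro h; exact h1 (Subtype.ext h)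
  · intro h; exact hz (Subtype.ext h)

/-- Values of `Ind_C θ` on the non-split torus. -/
theorem indI_Cg (hodd : Odd (Fintype.card F)) (hg₀ : IsEll g₀)
    (θ : Subgroup.centralizer ({g₀} : Set (SpecialLinearGroup (Fin 2) F)) →* ℂˣ)
    (t : Subgroup.centralizer ({g₀} : Set (SpecialLinearGroup (Fin 2) F)))
    (h1 : t ≠ 1) (hz : t ≠ zC g₀) :
    indI θ (t : SpecialLinearGroup (Fin 2) F) =
      ((θ t : ℂˣ) : ℂ) + ((θ t⁻¹ : ℂˣ) : ℂ) := by
  unfold indI
  rw [indFun_torus (torusLike_centralizer hodd hg₀) _ t]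
  rw [Cg_mem_center]
  push Not
  exact ⟨h1, hz⟩

theorem indI_one (hodd : Odd (Fintype.card F)) (hg₀ : IsEll g₀)
    (θ : Subgroup.centralizer ({g₀} : Set (SpecialLinearGroup (Fin 2) F)) →* ℂˣ) :
    indI θ 1 = (Fintype.card F : ℂ) * ((Fintype.card F : ℂ) - 1) := by
  have h := indFun_central (Subgroup.centralizer ({g₀} : Set (SpecialLinearGroup (Fin 2) F)))
    (fun c => ((θ c : ℂˣ) : ℂ)) 1 (fun x => by simp)
  unfold indI
  rw [Subgroup.coe_one] at h
  rw [h, map_one, Units.val_one, mul_one, card_G, card_Cg' hodd hg₀]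
  field_simp [q_add_one_ne_zero (F := F)]

theorem indI_zc (hodd : Odd (Fintype.card F)) (hg₀ : IsEll g₀)
    (θ : Subgroup.centralizer ({g₀} : Set (SpecialLinearGroup (Fin 2) F)) →* ℂˣ) :
    indI θ zc = (Fintype.card F : ℂ) * ((Fintype.card F : ℂ) - 1) * ((θ (zC g₀) : ℂˣ) : ℂ) := by
  have h := indFun_central (Subgroup.centralizer ({g₀} : Set (SpecialLinearGroup (Fin 2) F)))
    (fun c => ((θ c : ℂˣ) : ℂ)) (zC g₀) (fun x => zc_central x)
  unfold indI
  change Cfsg.indFun _ _ zc = _ at h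
  rw [h, card_G, card_Cg' hodd hg₀]
  field_simp [q_add_one_ne_zero (F := F)]

/-- `Ind_B α` vanishes at the non-central elements of the non-split torus. -/
theorem indW_Cg (hg₀ : IsEll g₀) (α : MulChar F ℂ)
    (t : Subgroup.centralizer ({g₀} : Set (SpecialLinearGroup (Fin 2) F)))
    (h1 : t ≠ 1) (hz : t ≠ zC g₀) : indW α (t : SpecialLinearGroup (Fin 2) F) = 0 :=
  indFun_eq_zero_of_no_eigenvector1 _ _ (Cg_ell hg₀ t h1 hz)

/-- `Ind_H α` vanishes at the non-central elements of the non-split torus. -/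
theorem indA_Cg (hg₀ : IsEll g₀) (α : MulChar F ℂ)
    (t : Subgroup.centralizer ({g₀} : Set (SpecialLinearGroup (Fin 2) F)))
    (h1 : t ≠ 1) (hz : t ≠ zC g₀) : indA α (t : SpecialLinearGroup (Fin 2) F) = 0 := by
  unfold indA
  apply indFun_eq_zero
  intro x hx
  exact conj_not_mem_B1 (Cg_ell hg₀ t h1 hz) x (Hs_le_B1 hx)

/-- `Ind_C θ` vanishes at the non-central elements of the diagonal subgroup. -/
theorem indI_Hs (hg₀ : IsEll g₀)
    (θ : Subgroup.centralizer ({g₀} : Set (SpecialLinearGroup (Fin 2) F)) →* ℂˣ)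
    (t : Hs F) (h1 : t ≠ 1) (hz : t ≠ zH) : indI θ (t : SpecialLinearGroup (Fin 2) F) = 0 := by
  unfold indI
  apply indFun_eq_zero
  intro x hx
  have hnc : (t : SpecialLinearGroup (Fin 2) F) ∉
      Subgroup.center (SpecialLinearGroup (Fin 2) F) := by
    rw [Hs_mem_center]
    push Not
    exact ⟨h1, hz⟩
  by_cases hc : (⟨_, hx⟩ : Subgroup.centralizer ({g₀} : Set (SpecialLinearGroup (Fin 2) F))) = 1 ∨
      (⟨_, hx⟩ : Subgroup.centralizer ({g₀} : Set (SpecialLinearGroup (Fin 2) F))) = zC g₀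
  · apply hnc
    have hcen : x⁻¹ * (t : SpecialLinearGroup (Fin 2) F) * x ∈
        Subgroup.center (SpecialLinearGroup (Fin 2) F) := (Cg_mem_center ⟨_, hx⟩).2 hc
    have : (t : SpecialLinearGroup (Fin 2) F) =
        x * (x⁻¹ * (t : SpecialLinearGroup (Fin 2) F) * x) * x⁻¹ := by group
    rw [this]
    exact (Subgroup.center (SpecialLinearGroup (Fin 2) F)).normal_of_characteristic.conj_mem _
      hcen x
  · push Not at hc
    have hell := Cg_ell hg₀ ⟨_, hx⟩ hc.1 hc.2
    have h2 := isEll_conj hell x⁻¹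
    have h3 : x⁻¹⁻¹ * (x⁻¹ * (t : SpecialLinearGroup (Fin 2) F) * x) * x⁻¹ =
        (t : SpecialLinearGroup (Fin 2) F) := by group
    change IsEll (x⁻¹⁻¹ * (x⁻¹ * (t : SpecialLinearGroup (Fin 2) F) * x) * x⁻¹) at h2
    rw [h3] at h2
    exact not_isEll_of_mem_B1 (Hs_le_B1 t.2) h2

open scoped Classical in
/-- The norm of `Ind_C θ`. -/
theorem inner_II (hodd : Odd (Fintype.card F)) (hg₀ : IsEll g₀)
    (θ : Subgroup.centralizer ({g₀} : Set (SpecialLinearGroup (Fin 2) F)) →* ℂˣ) :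
    Cfsg.classInner (indI θ) (indI θ) =
      2 * (Fintype.card F : ℂ) - 3 + (if θ ^ 2 = 1 then 1 else 0) := by
  have h2 : (2 : F) ≠ 0 := two_ne_zero_of_odd hodd
  have : Fintype (Subgroup.centralizer ({g₀} : Set (SpecialLinearGroup (Fin 2) F))) :=
    Fintype.ofFinite _
  have h := classInner_indFun_of_generic _ θ (zC g₀) (zC_ne_one h2) zC_mul_self
    (indI θ) (Cfsg.Agent.Lib.Helper75_Induced.isClassFunction_indFun _ _)
    (indI_Cg hodd hg₀ θ)
  change Cfsg.classInner (indI θ) (indI θ) = _ at h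
  rw [h]
  change _ * (_ + _ + (conj (indI θ 1) - 2) + (_ * conj (indI θ zc) - 2)) = _
  rw [indI_one hodd hg₀, indI_zc hodd hg₀, card_Cg' hodd hg₀]
  simp only [map_mul, map_sub, map_natCast, map_one]
  have hq := q_add_one_ne_zero (F := F)
  have ha := hom_mul_conj θ (zC g₀)
  split_ifs
  · field_simp
    linear_combination ((Fintype.card F : ℂ) * ((Fintype.card F : ℂ) - 1)) * ha
  · field_simp
    linear_combination ((Fintype.card F : ℂ) * ((Fintype.card F : ℂ) - 1)) * ha

/-- The inner product of `Ind_C θ` and `Ind_B α`. -/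
theorem inner_IW (hodd : Odd (Fintype.card F)) (hg₀ : IsEll g₀)
    (θ : Subgroup.centralizer ({g₀} : Set (SpecialLinearGroup (Fin 2) F)) →* ℂˣ)
    (α : MulChar F ℂ) (hαθ : α (-1) = ((θ (zC g₀) : ℂˣ) : ℂ)) :
    Cfsg.classInner (indI θ) (indW α) = 2 := by
  have h2 : (2 : F) ≠ 0 := two_ne_zero_of_odd hodd
  have : Fintype (Subgroup.centralizer ({g₀} : Set (SpecialLinearGroup (Fin 2) F))) :=
    Fintype.ofFinite _
  have h := classInner_indFun_of_zero _ θ (zC g₀) (zC_ne_one h2)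
    (indW α) (Cfsg.Agent.Lib.Helper75_Induced.isClassFunction_indFun _ _)
    (indW_Cg hg₀ α)
  change Cfsg.classInner (indI θ) (indW α) = _ at h
  rw [h]
  change _ * (conj (indW α 1) + _ * conj (indW α zc)) = _
  rw [indW_one, indW_zc, card_Cg' hodd hg₀, ← hαθ]
  simp only [map_mul, map_add, map_natCast, map_one, alpha_neg_one_conj]
  have hq := q_add_one_ne_zero (F := F)
  have ha := alpha_neg_one_sq α
  field_simp
  linear_combination ha

/-- The inner product of `Ind_H α` and `Ind_C θ`. -/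
theorem inner_AI (hodd : Odd (Fintype.card F)) (hg₀ : IsEll g₀)
    (θ : Subgroup.centralizer ({g₀} : Set (SpecialLinearGroup (Fin 2) F)) →* ℂˣ)
    (α : MulChar F ℂ) (hαθ : α (-1) = ((θ (zC g₀) : ℂˣ) : ℂ)) :
    Cfsg.classInner (indA α) (indI θ) = 2 * (Fintype.card F : ℂ) := by
  have h2 : (2 : F) ≠ 0 := two_ne_zero_of_odd hodd
  have : Fintype (Hs F) := Fintype.ofFinite _
  have h := classInner_indFun_of_zero (Hs F) (phiH α) zH (zH_ne_one h2)
    (indI θ) (Cfsg.Agent.Lib.Helper75_Induced.isClassFunction_indFun _ _)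
    (indI_Hs hg₀ θ)
  change Cfsg.classInner (indA α) (indI θ) = _ at h
  rw [h]
  change _ * (conj (indI θ 1) + _ * conj (indI θ zc)) = _
  rw [indI_one hodd hg₀, indI_zc hodd hg₀, card_Hs', phiH_zH, ← hαθ]
  simp only [map_mul, map_sub, map_natCast, map_one, alpha_neg_one_conj]
  have hq := q_sub_one_ne_zero (F := F)
  have ha := alpha_neg_one_sq α
  field_simp
  linear_combination ha

/-- The class function `Ξ = Ind_H α - (Ind_B α + Ind_C θ)`. -/
noncomputable def Xi
    (θ : Subgroup.centralizer ({g₀} : Set (SpecialLinearGroup (Fin 2) F)) →* ℂˣ)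
    (α : MulChar F ℂ) : SpecialLinearGroup (Fin 2) F → ℂ :=
  indA α - (indW α + indI θ)

open scoped Classical in
/-- The norm of `Ξ`. -/
theorem norm_Xi (hodd : Odd (Fintype.card F)) (hg₀ : IsEll g₀)
    (θ : Subgroup.centralizer ({g₀} : Set (SpecialLinearGroup (Fin 2) F)) →* ℂˣ)
    (α : MulChar F ℂ) (hαθ : α (-1) = ((θ (zC g₀) : ℂˣ) : ℂ)) :
    Cfsg.classInner (Xi θ α) (Xi θ α) = 1 + (if θ ^ 2 = 1 then 1 else 0) := by
  have hAA := inner_AA hodd α
  have hAW := inner_AW hodd α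
  have hAI := inner_AI hodd hg₀ θ α hαθ
  have hII := inner_II hodd hg₀ θ
  have hIW := inner_IW hodd hg₀ θ α hαθ
  have hWW := classInner_indFun_aFun α α
  change Cfsg.classInner (indW α) (indW α) = _ at hWW
  rw [if_pos rfl] at hWW
  have hinv : (α = α⁻¹) ↔ α ^ 2 = 1 := by
    rw [sq, mul_eq_one_iff_eq_inv]
  simp only [hinv] at hWW
  have hWA : Cfsg.classInner (indW α) (indA α) = 3 + (if α ^ 2 = 1 then 1 else 0) := by
    rw [← Cfsg.Agent.Lib.Helper3_CharOrtho.classInner_conj_symm, hAW]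
    split_ifs <;> simp only [map_add, map_ofNat, map_one, map_zero]
  have hIA : Cfsg.classInner (indI θ) (indA α) = 2 * (Fintype.card F : ℂ) := by
    rw [← Cfsg.Agent.Lib.Helper3_CharOrtho.classInner_conj_symm, hAI]
    simp only [map_mul, map_ofNat, map_natCast]
  have hWI : Cfsg.classInner (indW α) (indI θ) = 2 := by
    rw [← Cfsg.Agent.Lib.Helper3_CharOrtho.classInner_conj_symm, hIW]
    simp only [map_ofNat]
  unfold Xi
  rw [Cfsg.Agent.Lib.Helper3_CharOrtho.classInner_sub_left,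
    Cfsg.Agent.Lib.Helper3_Exceptional.classInner_sub_right',
    Cfsg.Agent.Lib.Helper3_Exceptional.classInner_sub_right',
    Cfsg.Agent.Lib.Helper3_CharOrtho.classInner_add_left,
    Cfsg.Agent.Lib.Helper3_CharOrtho.classInner_add_left,
    Cfsg.Agent.Lib.Helper3_CharOrtho.classInner_add_right,
    Cfsg.Agent.Lib.Helper3_CharOrtho.classInner_add_right,
    Cfsg.Agent.Lib.Helper3_CharOrtho.classInner_add_right,
    hAA, hAW, hAI, hWA, hIA, hWW, hWI, hIW, hII]
  ring

/-- The degree of `Ξ`. -/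
theorem Xi_one (hodd : Odd (Fintype.card F)) (hg₀ : IsEll g₀)
    (θ : Subgroup.centralizer ({g₀} : Set (SpecialLinearGroup (Fin 2) F)) →* ℂˣ)
    (α : MulChar F ℂ) : Xi θ α 1 = (Fintype.card F : ℂ) - 1 := by
  unfold Xi
  rw [Pi.sub_apply, Pi.add_apply, indA_one, indW_one, indI_one hodd hg₀]
  ring

/-- `Ξ` is an irreducible character when `θ² ≠ 1`. -/
theorem isIrrCharacter_Xi (hodd : Odd (Fintype.card F)) (hg₀ : IsEll g₀)
    (θ : Subgroup.centralizer ({g₀} : Set (SpecialLinearGroup (Fin 2) F)) →* ℂˣ)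
    (α : MulChar F ℂ) (hαθ : α (-1) = ((θ (zC g₀) : ℂˣ) : ℂ)) (hθ : θ ^ 2 ≠ 1) :
    Cfsg.IsIrrCharacter (SpecialLinearGroup (Fin 2) F) (Xi θ α) := by
  classical
  apply Cfsg.Agent.Lib.Helper39_Virtual.isIrrCharacter_of_norm_one (isCharacter_indA α)
    (Cfsg.Agent.Lib.Helper75_CharArith.isCharacter_add (isCharacter_indW α) (isCharacter_indI θ))
  · have h := norm_Xi hodd hg₀ θ α hαθ
    rw [if_neg hθ, add_zero] at h
    exact h
  · have h := Xi_one hodd hg₀ θ α
    unfold Xi at h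
    rw [h]
    have hq : 2 ≤ Fintype.card F := Fintype.one_lt_card
    have : (1 : ℝ) < (Fintype.card F : ℝ) := by exact_mod_cast hq
    simp
    linarith

/-- Values of `Ξ` on the non-split torus. -/
theorem Xi_Cg (hodd : Odd (Fintype.card F)) (hg₀ : IsEll g₀)
    (θ : Subgroup.centralizer ({g₀} : Set (SpecialLinearGroup (Fin 2) F)) →* ℂˣ)
    (α : MulChar F ℂ)
    (t : Subgroup.centralizer ({g₀} : Set (SpecialLinearGroup (Fin 2) F)))
    (h1 : t ≠ 1) (hz : t ≠ zC g₀) :
    Xi θ α (t : SpecialLinearGroup (Fin 2) F) =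
      -(((θ t : ℂˣ) : ℂ) + (((θ t)⁻¹ : ℂˣ) : ℂ)) := by
  unfold Xi
  rw [Pi.sub_apply, Pi.add_apply, indA_Cg hg₀ α t h1 hz, indW_Cg hg₀ α t h1 hz,
    indI_Cg hodd hg₀ θ t h1 hz, map_inv]
  ring

/-- `Ξ` transforms under the centre by the central value of `θ`. -/
theorem Xi_zc_mul (θ : Subgroup.centralizer ({g₀} : Set (SpecialLinearGroup (Fin 2) F)) →* ℂˣ)
    (α : MulChar F ℂ) (hαθ : α (-1) = ((θ (zC g₀) : ℂˣ) : ℂ))
    (g : SpecialLinearGroup (Fin 2) F) :
    Xi θ α (zc * g) = ((θ (zC g₀) : ℂˣ) : ℂ) * Xi θ α g := by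
  have hA := indFun_central_mul (Hs F) (fun h => ((phiH α h : ℂˣ) : ℂ)) zH
    (fun x => zc_central x) (α (-1)) (fun t => by rw [map_mul, Units.val_mul, phiH_zH]) g
  have hW := indFun_central_mul (B1 F) (aFun α) (b1Mat (-1 : Fˣ) 0)
    (fun x => zc_central x) (α (-1))
    (fun t => by rw [aFun_mul, aFun_b1Mat]; simp) g
  have hI := indFun_central_mul
    (Subgroup.centralizer ({g₀} : Set (SpecialLinearGroup (Fin 2) F)))
    (fun c => ((θ c : ℂˣ) : ℂ)) (zC g₀) (fun x => zc_central x) ((θ (zC g₀) : ℂˣ) : ℂ)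
    (fun t => by rw [map_mul, Units.val_mul]) g
  unfold Xi indA indW indI
  simp only [Pi.sub_apply, Pi.add_apply]
  change Cfsg.indFun (Hs F) _ (zc * g) = _ at hA
  change Cfsg.indFun (B1 F) _ (zc * g) = _ at hW
  change Cfsg.indFun _ _ (zc * g) = _ at hI
  rw [hA, hW, hI, hαθ]
  ring

/-- `Ξ` vanishes at the non-central diagonal elements. -/
theorem Xi_diag (hg₀ : IsEll g₀)
    (θ : Subgroup.centralizer ({g₀} : Set (SpecialLinearGroup (Fin 2) F)) →* ℂˣ)
    (α : MulChar F ℂ) (g : SpecialLinearGroup (Fin 2) F)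
    (h01 : (g : Matrix (Fin 2) (Fin 2) F) 0 1 = 0) (h10 : (g : Matrix (Fin 2) (Fin 2) F) 1 0 = 0)
    (hsq : (g : Matrix (Fin 2) (Fin 2) F) 0 0 ^ 2 ≠ 1) : Xi θ α g = 0 := by
  have hmem : g ∈ Hs F := ⟨h01, h10⟩
  have hnc : g ∉ Subgroup.center (SpecialLinearGroup (Fin 2) F) := by
    rw [Hs_mem_center_iff hmem]
    exact hsq
  have hnc' := hnc
  rw [show g = ((⟨g, hmem⟩ : Hs F) : SpecialLinearGroup (Fin 2) F) from rfl, Hs_mem_center] at hnc'
  push Not at hnc'
  unfold Xi
  rw [Pi.sub_apply, Pi.add_apply]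
  have hA := indA_Hs α ⟨g, hmem⟩ hnc'.1 hnc'.2
  have hW := indW_Hs α ⟨g, hmem⟩ hnc'.1 hnc'.2
  have hI := indI_Hs hg₀ θ ⟨g, hmem⟩ hnc'.1 hnc'.2
  change indA α g = _ at hA
  change indW α g = _ at hW
  change indI θ g = _ at hI
  rw [hA, hW, hI]
  ring

/-- `Ξ` takes the value `-1` at the non-trivial upper unitriangular elements. -/
theorem Xi_unip (hodd : Odd (Fintype.card F)) (hg₀ : IsEll g₀)
    (θ : Subgroup.centralizer ({g₀} : Set (SpecialLinearGroup (Fin 2) F)) →* ℂˣ)
    (α : MulChar F ℂ) (g : SpecialLinearGroup (Fin 2) F)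
    (h10 : (g : Matrix (Fin 2) (Fin 2) F) 1 0 = 0) (h00 : (g : Matrix (Fin 2) (Fin 2) F) 0 0 = 1)
    (h11 : (g : Matrix (Fin 2) (Fin 2) F) 1 1 = 1) (h01 : (g : Matrix (Fin 2) (Fin 2) F) 0 1 ≠ 0) :
    Xi θ α g = -1 := by
  have h2 : (2 : F) ≠ 0 := two_ne_zero_of_odd hodd
  have hB : g ∈ B1 F := (mem_B1_iff g).2 h10
  have hg1 : g ≠ 1 := by
    intro h
    apply h01
    rw [h]
    simp
  have hgz : g ≠ zc := by
    intro h
    apply h01
    rw [h, zc_val]
    simp
  have hback : ∀ x : SpecialLinearGroup (Fin 2) F, x * (x⁻¹ * g * x) * x⁻¹ = g := by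
    intro x; group
  have hA : indA α g = 0 := by
    unfold indA
    apply indFun_eq_zero
    intro x hx
    have htr := trace_conj g x
    rw [h00, h11] at htr
    have hdet := Hs_det hx
    set a := ((x⁻¹ * g * x : SpecialLinearGroup (Fin 2) F) : Matrix (Fin 2) (Fin 2) F) 0 0
      with ha
    have ha1 : a = 1 := by
      have h3 : (a - 1) * (a - 1) = 0 := by
        have h4 : ((x⁻¹ * g * x : SpecialLinearGroup (Fin 2) F) :
            Matrix (Fin 2) (Fin 2) F) 1 1 = 1 + 1 - a := by linear_combination htr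
        rw [h4] at hdet
        linear_combination -hdet
      exact sub_eq_zero.1 (mul_self_eq_zero.1 h3)
    have h5 : x⁻¹ * g * x = 1 := by
      apply Hs_ext hx (Subgroup.one_mem _)
      rw [← ha, ha1]
      simp
    apply hg1
    rw [← hback x, h5]
    group
  have hW : indW α g = 1 := by
    unfold indW
    have := indFun_unipotent1 (isClassFunction_aFun α) ⟨g, hB⟩ (by rw [h00, h11]) h01
    change Cfsg.indFun (B1 F) (aFun α) g = _ at this
    rw [this]
    unfold aFun
    change α ((g : Matrix (Fin 2) (Fin 2) F) 0 0) = 1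
    rw [h00, map_one]
  have hI : indI θ g = 0 := by
    unfold indI
    apply indFun_eq_zero
    intro x hx
    by_cases hc : (⟨_, hx⟩ : Subgroup.centralizer
        ({g₀} : Set (SpecialLinearGroup (Fin 2) F))) = 1 ∨
      (⟨_, hx⟩ : Subgroup.centralizer ({g₀} : Set (SpecialLinearGroup (Fin 2) F))) = zC g₀
    · rcases hc with hc | hc
      · have h5 : x⁻¹ * g * x = 1 := congrArg Subtype.val hc
        apply hg1
        rw [← hback x, h5]
        group
      · have h5 : x⁻¹ * g * x = zc := congrArg Subtype.val hc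
        apply hgz
        rw [← hback x, h5, mul_assoc, ← zc_central x⁻¹, ← mul_assoc, mul_inv_cancel, one_mul]
    · push Not at hc
      have hell := Cg_ell hg₀ ⟨_, hx⟩ hc.1 hc.2
      have h6 := isEll_conj hell x⁻¹
      change IsEll (x⁻¹⁻¹ * (x⁻¹ * g * x) * x⁻¹) at h6
      rw [inv_inv, hback x] at h6
      exact not_isEll_of_mem_B1 hB h6
  unfold Xi
  rw [Pi.sub_apply, Pi.add_apply, hA, hW, hI]
  ring

end nonsplit

end Cfsg.Agent.Lib.Helper39_SL2Cuspidal
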