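import Mathlib
import Cfsg.Agent.Lib.Helper39_SL2Cuspidal
import Cfsg.Agent.Lib.Helper39_SL2Odd
import Cfsg.Agent.Lib.Helper39_SL2Vanish
import Cfsg.Agent.Lib.Helper3_CharComplete

/-!
# The family of cuspidal characters of `SL₂(F)`, `q` odd (helper39)

Existence of the cuspidal character attached to a homomorphism `θ` of the non-split torus with
`θ² ≠ 1`, and the classification of the irreducible characters of degree `q - 1` through them.
-/

set_option autoImplicit false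
set_option linter.unusedSectionVars false

namespace Cfsg.Agent.Lib.Helper39_SL2CuspFam

open scoped ComplexConjugate
open Matrix
open Cfsg.Agent.Lib.Helper39_SL2Vanish Cfsg.Agent.Lib.Helper39_SL2HalfValues
  Cfsg.Agent.Lib.Helper39_SL2Central Cfsg.Agent.Lib.Helper39_SL2Elliptic
  Cfsg.Agent.Lib.Helper39_SL2Tori Cfsg.Agent.Lib.Helper39_SL2Cuspidal
  Cfsg.Agent.Lib.Helper39_TorusInd

variable {F : Type*} [Field F] [Fintype F] [Fintype (SpecialLinearGroup (Fin 2) F)]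

/-- A multiplicative character with prescribed sign at `-1`. -/
theorem exists_alpha (hodd : Odd (Fintype.card F)) (ε : ℂˣ) (hε : ε * ε = 1) :
    ∃ α : MulChar F ℂ, α (-1) = (ε : ℂ) := by
  have h2 : (2 : F) ≠ 0 := two_ne_zero_of_odd hodd
  have hε' : (ε : ℂ) = 1 ∨ (ε : ℂ) = -1 := by
    have : (ε : ℂ) ^ 2 = 1 := by rw [sq, ← Units.val_mul, hε, Units.val_one]
    exact sq_eq_one_iff.mp this
  rcases hε' with h | h
  · refine ⟨1, ?_⟩
    rw [h, MulChar.one_apply (isUnit_one.neg)]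
  · have : NeZero (Monoid.exponent Fˣ) := ⟨Monoid.exponent_ne_zero_of_finite⟩
    obtain ⟨α, hα⟩ := MulChar.exists_apply_ne_one_of_hasEnoughRootsOfUnity F ℂ (a := (-1 : F)) (by
      intro h1
      apply h2
      linear_combination -h1)
    refine ⟨α, ?_⟩
    have : α (-1) ^ 2 = 1 := by rw [← map_pow]; simp
    rcases sq_eq_one_iff.mp this with h' | h'
    · exact absurd h' hα
    · rw [h', h]

section nonsplit

variable {g₀ : SpecialLinearGroup (Fin 2) F}

/-- The cuspidal character attached to `θ` with `θ² ≠ 1`. -/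
theorem cuspidal_exists (hodd : Odd (Fintype.card F)) (hg₀ : IsEll g₀)
    (θ : Subgroup.centralizer ({g₀} : Set (SpecialLinearGroup (Fin 2) F)) →* ℂˣ)
    (hθ : θ ^ 2 ≠ 1) :
    ∃ χ : SpecialLinearGroup (Fin 2) F → ℂ,
      Cfsg.IsIrrCharacter (SpecialLinearGroup (Fin 2) F) χ ∧
      χ 1 = (Fintype.card F : ℂ) - 1 ∧
      (∀ t : Subgroup.centralizer ({g₀} : Set (SpecialLinearGroup (Fin 2) F)),
        t ≠ 1 → t ≠ zC g₀ → χ (t : SpecialLinearGroup (Fin 2) F) =
          -(((θ t : ℂˣ) : ℂ) + (((θ t)⁻¹ : ℂˣ) : ℂ))) ∧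
      (∀ g : SpecialLinearGroup (Fin 2) F, χ (zc * g) = ((θ (zC g₀) : ℂˣ) : ℂ) * χ g) ∧
      (∀ g : SpecialLinearGroup (Fin 2) F, (g : Matrix (Fin 2) (Fin 2) F) 0 1 = 0 →
        (g : Matrix (Fin 2) (Fin 2) F) 1 0 = 0 → (g : Matrix (Fin 2) (Fin 2) F) 0 0 ^ 2 ≠ 1 →
        χ g = 0) ∧
      (∀ g : SpecialLinearGroup (Fin 2) F, (g : Matrix (Fin 2) (Fin 2) F) 1 0 = 0 →
        (g : Matrix (Fin 2) (Fin 2) F) 0 0 = 1 → (g : Matrix (Fin 2) (Fin 2) F) 1 1 = 1 →
        (g : Matrix (Fin 2) (Fin 2) F) 0 1 ≠ 0 → χ g = -1) := by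
  obtain ⟨α, hα⟩ := exists_alpha hodd (θ (zC g₀)) (by rw [← map_mul, zC_mul_self, map_one])
  exact ⟨Xi θ α, isIrrCharacter_Xi hodd hg₀ θ α hα hθ, Xi_one hodd hg₀ θ α,
    fun t h1 hz => Xi_Cg hodd hg₀ θ α t h1 hz, fun g => Xi_zc_mul θ α hα g,
    fun g h01 h10 hsq => Xi_diag hg₀ θ α g h01 h10 hsq,
    fun g h10 h00 h11 h01 => Xi_unip hodd hg₀ θ α g h10 h00 h11 h01⟩

/-- A generator of the non-split torus. -/
theorem exists_gen (hodd : Odd (Fintype.card F)) (hg₀ : IsEll g₀) :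
    ∃ c₁ : Subgroup.centralizer ({g₀} : Set (SpecialLinearGroup (Fin 2) F)),
      (∀ x, x ∈ Subgroup.zpowers c₁) ∧ orderOf c₁ = Fintype.card F + 1 := by
  have := isCyclic_centralizer_ell hg₀
  obtain ⟨c₁, hc₁⟩ := IsCyclic.exists_generator
    (α := Subgroup.centralizer ({g₀} : Set (SpecialLinearGroup (Fin 2) F)))
  refine ⟨c₁, hc₁, ?_⟩
  rw [orderOf_eq_card_of_forall_mem_zpowers hc₁, card_centralizer_ell hodd hg₀]

/-- A generator of the non-split torus is not central. -/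
theorem gen_noncentral {c₁ : Subgroup.centralizer ({g₀} : Set (SpecialLinearGroup (Fin 2) F))}
    (hord : orderOf c₁ = Fintype.card F + 1) : c₁ ≠ 1 ∧ c₁ ≠ zC g₀ := by
  have hq : 2 ≤ Fintype.card F := Fintype.one_lt_card
  constructor
  · intro h
    rw [h, orderOf_one] at hord
    omega
  · intro h
    have h2 : orderOf c₁ ∣ 2 := by
      apply orderOf_dvd_of_pow_eq_one
      rw [h, sq, zC_mul_self]
    have := Nat.le_of_dvd (by norm_num) h2
    omega

/-- A homomorphism of the non-split torus with prescribed value at a generator. -/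
theorem exists_hom {c₁ : Subgroup.centralizer ({g₀} : Set (SpecialLinearGroup (Fin 2) F))}
    (hgen : ∀ x, x ∈ Subgroup.zpowers c₁) (hord : orderOf c₁ = Fintype.card F + 1)
    (w : ℂˣ) (hw : w ^ (Fintype.card F + 1) = 1) :
    ∃ θ : Subgroup.centralizer ({g₀} : Set (SpecialLinearGroup (Fin 2) F)) →* ℂˣ, θ c₁ = w :=
  ⟨monoidHomOfForallMemZpowers hgen (g' := w) (by rw [hord]; exact orderOf_dvd_of_pow_eq_one hw),
    monoidHomOfForallMemZpowers_apply_gen _ _⟩

omit [Fintype F] [Fintype (SpecialLinearGroup (Fin 2) F)] in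
/-- A primitive root of unity in `ℂˣ`. -/
theorem exists_primitive_unit (n : ℕ) (hn : n ≠ 0) : ∃ ζ : ℂˣ, IsPrimitiveRoot ζ n := by
  have h := Complex.isPrimitiveRoot_exp n hn
  exact ⟨(h.isUnit hn).unit, IsPrimitiveRoot.coe_units_iff.1 (by simpa using h)⟩

omit [Fintype F] [Fintype (SpecialLinearGroup (Fin 2) F)] in
/-- `x + x⁻¹ = y + y⁻¹` forces `x = y` or `x * y = 1`. -/
theorem eq_or_mul_eq_one_of_add_inv (x y : ℂˣ)
    (h : ((x : ℂˣ) : ℂ) + ((x⁻¹ : ℂˣ) : ℂ) = ((y : ℂˣ) : ℂ) + ((y⁻¹ : ℂˣ) : ℂ)) :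
    x = y ∨ x * y = 1 := by
  have hx : (x : ℂ) ≠ 0 := x.ne_zero
  have hy : (y : ℂ) ≠ 0 := y.ne_zero
  rw [Units.val_inv_eq_inv_val, Units.val_inv_eq_inv_val] at h
  have h2 : ((x : ℂ) - (y : ℂ)) * ((x : ℂ) * (y : ℂ) - 1) = 0 := by
    field_simp at h
    linear_combination h
  rcases mul_eq_zero.1 h2 with h3 | h3
  · left
    exact Units.ext (sub_eq_zero.1 h3)
  · right
    apply Units.ext
    rw [Units.val_mul, Units.val_one]
    exact sub_eq_zero.1 h3


/-- Classification of the irreducible characters of degree `q - 1`, `q ≥ 5`. -/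
theorem cuspidal_classify (hodd : Odd (Fintype.card F)) (hq : 5 ≤ Fintype.card F)
    (hg₀ : IsEll g₀) (χ : SpecialLinearGroup (Fin 2) F → ℂ)
    (hχ : Cfsg.IsIrrCharacter (SpecialLinearGroup (Fin 2) F) χ)
    (hdeg : χ 1 = (Fintype.card F : ℂ) - 1) :
    ∃ θ : Subgroup.centralizer ({g₀} : Set (SpecialLinearGroup (Fin 2) F)) →* ℂˣ,
      θ ^ 2 ≠ 1 ∧
      ∀ t : Subgroup.centralizer ({g₀} : Set (SpecialLinearGroup (Fin 2) F)),
        t ≠ 1 → t ≠ zC g₀ → χ (t : SpecialLinearGroup (Fin 2) F) =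
          -(((θ t : ℂˣ) : ℂ) + (((θ t)⁻¹ : ℂˣ) : ℂ)) := by
  classical
  obtain ⟨c₁, hgen, hord⟩ := exists_gen hodd hg₀
  obtain ⟨hc1, hcz⟩ := gen_noncentral hord
  obtain ⟨ζ, hζ⟩ := exists_primitive_unit (Fintype.card F + 1) (by omega)
  have hodd' := hodd
  obtain ⟨m, hm⟩ := hodd'
  have hm2 : 2 ≤ m := by omega
  have hcount := (Cfsg.Agent.Lib.Helper39_SL2Odd.counts_odd (F := F) hodd hq).2.2.2.1
  have e1 : (Fintype.card F - 1) / 2 = m := by omega
  rw [e1] at hcount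
  -- the family of homomorphisms
  have hθex : ∀ j : Fin m,
      ∃ θ : Subgroup.centralizer ({g₀} : Set (SpecialLinearGroup (Fin 2) F)) →* ℂˣ,
        θ c₁ = ζ ^ ((j : ℕ) + 1) := by
    intro j
    apply exists_hom hgen hord
    rw [← pow_mul, mul_comm, pow_mul, hζ.pow_eq_one, one_pow]
  choose θ hθ using hθex
  have hθ2 : ∀ j : Fin m, θ j ^ 2 ≠ 1 := by
    intro j h
    have h1 := congrArg (fun f : Subgroup.centralizer
      ({g₀} : Set (SpecialLinearGroup (Fin 2) F)) →* ℂˣ => f c₁) h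
    simp only [MonoidHom.pow_apply, MonoidHom.one_apply, hθ j] at h1
    rw [← pow_mul] at h1
    have hj := j.2
    exact hζ.pow_ne_one_of_pos_of_lt (by positivity) (by omega) h1
  have hXex := fun j : Fin m => cuspidal_exists hodd hg₀ (θ j) (hθ2 j)
  choose X hXirr hXdeg hXval hXrest using hXex
  -- the map to the irreducible characters of degree `q - 1`
  set f : Fin m → {χ : Cfsg.IrrCharacter (SpecialLinearGroup (Fin 2) F) //
      (χ : SpecialLinearGroup (Fin 2) F → ℂ) 1 = (Fintype.card F : ℂ) - 1} :=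
    fun j => ⟨⟨X j, hXirr j⟩, hXdeg j⟩ with hf
  have hinj : Function.Injective f := by
    intro i j hij
    have h1 : X i = X j := by
      have := congrArg (fun x : {χ : Cfsg.IrrCharacter (SpecialLinearGroup (Fin 2) F) //
        (χ : SpecialLinearGroup (Fin 2) F → ℂ) 1 = (Fintype.card F : ℂ) - 1} =>
        (x.1.1 : SpecialLinearGroup (Fin 2) F → ℂ)) hij
      exact this
    have h2 := congrFun h1 (c₁ : SpecialLinearGroup (Fin 2) F)
    rw [hXval i c₁ hc1 hcz, hXval j c₁ hc1 hcz, hθ i, hθ j, neg_inj] at h2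
    have hi := i.2
    have hj := j.2
    rcases eq_or_mul_eq_one_of_add_inv _ _ h2 with h3 | h3
    · have := hζ.pow_inj (by omega) (by omega) h3
      apply Fin.ext
      omega
    · rw [← pow_add] at h3
      exact absurd h3 (hζ.pow_ne_one_of_pos_of_lt (by positivity) (by omega))
  have hbij : Function.Bijective f := by
    apply hinj.bijective_of_nat_card_le
    rw [hcount, Nat.card_eq_fintype_card, Fintype.card_fin]
  obtain ⟨j, hj⟩ := hbij.2 ⟨⟨χ, hχ⟩, hdeg⟩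
  have hXj : X j = χ := by
    have := congrArg (fun x : {χ : Cfsg.IrrCharacter (SpecialLinearGroup (Fin 2) F) //
      (χ : SpecialLinearGroup (Fin 2) F → ℂ) 1 = (Fintype.card F : ℂ) - 1} =>
      (x.1.1 : SpecialLinearGroup (Fin 2) F → ℂ)) hj
    exact this
  refine ⟨θ j, hθ2 j, ?_⟩
  intro t h1 hz
  rw [← hXj]
  exact hXval j t h1 hz

/-- Classification of the irreducible characters of degree `q - 1`, `q = 3`. -/
theorem cuspidal_classify_three (hodd : Odd (Fintype.card F)) (hq : Fintype.card F = 3)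
    (hg₀ : IsEll g₀) (χ : SpecialLinearGroup (Fin 2) F → ℂ)
    (hχ : Cfsg.IsIrrCharacter (SpecialLinearGroup (Fin 2) F) χ)
    (hdeg : χ 1 = (Fintype.card F : ℂ) - 1) :
    ∃ θ : Subgroup.centralizer ({g₀} : Set (SpecialLinearGroup (Fin 2) F)) →* ℂˣ,
      θ ^ 2 ≠ 1 ∧
      ∀ t : Subgroup.centralizer ({g₀} : Set (SpecialLinearGroup (Fin 2) F)),
        t ≠ 1 → t ≠ zC g₀ → χ (t : SpecialLinearGroup (Fin 2) F) =
          -(((θ t : ℂˣ) : ℂ) + (((θ t)⁻¹ : ℂˣ) : ℂ)) := by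
  classical
  obtain ⟨c₁, hgen, hord⟩ := exists_gen hodd hg₀
  obtain ⟨ζ, hζ⟩ := exists_primitive_unit (Fintype.card F + 1) (by omega)
  obtain ⟨θ, hθ⟩ := exists_hom hgen hord ζ hζ.pow_eq_one
  have hθ2 : θ ^ 2 ≠ 1 := by
    intro h
    have h1 := congrArg (fun f : Subgroup.centralizer
      ({g₀} : Set (SpecialLinearGroup (Fin 2) F)) →* ℂˣ => f c₁) h
    simp only [MonoidHom.pow_apply, MonoidHom.one_apply, hθ] at h1
    exact hζ.pow_ne_one_of_pos_of_lt (by norm_num) (by omega) h1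
  refine ⟨θ, hθ2, ?_⟩
  intro t h1 hz
  have hell := Cg_ell hg₀ t h1 hz
  have hχ0 : χ (t : SpecialLinearGroup (Fin 2) F) = 0 := by
    apply vanish_nonsplit hodd χ hχ _ _ hell
    right
    rw [hdeg, hq]
    norm_num
  rw [hχ0]
  -- `θ t` squares to `-1`
  have hcardC : Nat.card (Subgroup.centralizer ({g₀} : Set (SpecialLinearGroup (Fin 2) F))) = 4 := by
    rw [card_centralizer_ell hodd hg₀, hq]
  have ht4 : t ^ 4 = 1 := by
    rw [← hcardC]
    exact pow_card_eq_one'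
  have hθ4 : (θ t) ^ 4 = 1 := by rw [← map_pow, ht4, map_one]
  have hinj : ∀ s : Subgroup.centralizer ({g₀} : Set (SpecialLinearGroup (Fin 2) F)),
      θ s = 1 → s = 1 := by
    intro s hs
    obtain ⟨k, rfl⟩ := Subgroup.mem_zpowers_iff.1 (hgen s)
    rw [map_zpow, hθ] at hs
    have hdvd := (hζ.zpow_eq_one_iff_dvd k).1 hs
    rw [← hord] at hdvd
    exact orderOf_dvd_iff_zpow_eq_one.1 hdvd
  have htt : t * t ≠ 1 := by
    intro h
    have h3 := ell_ne_inv hodd hell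
    apply h3
    have h4 := congrArg Subtype.val h
    rw [Subgroup.coe_mul, Subgroup.coe_one] at h4
    exact eq_inv_of_mul_eq_one_left h4
  have hθtt : (θ t) ^ 2 ≠ 1 := by
    intro h
    apply htt
    apply hinj
    rw [map_mul, ← sq, h]
  have hC4 : (((θ t : ℂˣ) : ℂ)) ^ 4 = 1 := by
    rw [← Units.val_pow_eq_pow_val, hθ4, Units.val_one]
  have hC2 : (((θ t : ℂˣ) : ℂ)) ^ 2 ≠ 1 := by
    intro h
    apply hθtt
    apply Units.ext
    rw [Units.val_pow_eq_pow_val, h, Units.val_one]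
  have hsq : (((θ t : ℂˣ) : ℂ)) ^ 2 = -1 := by
    have h5 : ((((θ t : ℂˣ) : ℂ)) ^ 2 - 1) * ((((θ t : ℂˣ) : ℂ)) ^ 2 + 1) = 0 := by
      linear_combination hC4
    rcases mul_eq_zero.1 h5 with h6 | h6
    · exact absurd (sub_eq_zero.1 h6) hC2
    · linear_combination h6
  have hne : ((θ t : ℂˣ) : ℂ) ≠ 0 := (θ t).ne_zero
  rw [Units.val_inv_eq_inv_val, inv_eq_of_mul_eq_one_right
    (show ((θ t : ℂˣ) : ℂ) * (-((θ t : ℂˣ) : ℂ)) = 1 by linear_combination -hsq)]
  ring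

end nonsplit

end Cfsg.Agent.Lib.Helper39_SL2CuspFam
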