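import Mathlib
import Cfsg.Agent.Lib.Helper39_SL2CuspFam
import Cfsg.Agent.Lib.Helper39_SL2Cuspidal
import Cfsg.Agent.Lib.Helper39_SL2Odd
import Cfsg.Agent.Lib.Helper39_SL2Even
import Cfsg.Agent.Lib.Helper39_SL2Half
import Cfsg.Agent.Lib.Helper39_SL2HalfValues
import Cfsg.Agent.Lib.Helper39_SL2Vanish
import Cfsg.Agent.Lib.Helper39_Virtual
import Cfsg.Agent.Lib.Helper3_CharComplete

/-!
# Values of the half-degree characters of `SL₂(F)` at semisimple elements (helper39)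

`q` odd, `q ≥ 5`: an irreducible character of degree `(q + 1) / 2` takes the value of the
quadratic character at the regular diagonal elements; an irreducible character of degree
`(q - 1) / 2` takes the value `-θ₀` at the elliptic elements, `θ₀` the quadratic character of the
non-split torus.
-/

set_option autoImplicit false
set_option linter.unusedSectionVars false

namespace Cfsg.Agent.Lib.Helper39_SL2HalfSS

open scoped ComplexConjugate
open Matrix
open Cfsg.Agent.Lib.Helper39_SL2Vanish Cfsg.Agent.Lib.Helper39_SL2HalfValues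
  Cfsg.Agent.Lib.Helper39_SL2Central Cfsg.Agent.Lib.Helper39_SL2Elliptic
  Cfsg.Agent.Lib.Helper39_SL2Tori Cfsg.Agent.Lib.Helper39_SL2Cuspidal
  Cfsg.Agent.Lib.Helper39_TorusInd Cfsg.Agent.Lib.Helper39_SL2CuspFam
  Cfsg.Agent.Lib.Helper39_SL2Borel Cfsg.Agent.Lib.Helper39_SL2Ind
  Cfsg.Agent.Lib.Helper39_SL2Half

/-- In a type with two elements, everything is one of two given different elements. -/
theorem two_elems {S : Type*} (h : Nat.card S = 2) (a b : S) (hab : a ≠ b) (x : S) :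
    x = a ∨ x = b := by
  classical
  have : Finite S := Nat.finite_of_card_ne_zero (by omega)
  have := Fintype.ofFinite S
  by_contra hx
  push Not at hx
  have h3 : ({x, a, b} : Finset S).card ≤ Fintype.card S := Finset.card_le_univ _
  rw [Finset.card_insert_of_notMem (by simp [hx.1, hx.2]),
    Finset.card_insert_of_notMem (by simp [hab]), Finset.card_singleton,
    ← Nat.card_eq_fintype_card, h] at h3
  omega

variable {F : Type*} [Field F] [Fintype F] [Fintype (SpecialLinearGroup (Fin 2) F)]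

/-- The two values at the transvections of an irreducible character of degree `(q + 1) / 2`
differ. -/
theorem plus_values_ne (hodd : Odd (Fintype.card F)) (hq : 5 ≤ Fintype.card F)
    (χ : SpecialLinearGroup (Fin 2) F → ℂ)
    (hχ : Cfsg.IsIrrCharacter (SpecialLinearGroup (Fin 2) F) χ)
    (hdeg : χ 1 = (((Fintype.card F + 1) / 2 : ℕ) : ℂ)) (e : F) (he : ¬ IsSquare e) :
    χ ((u1 (1 : F) : B1 F) : SpecialLinearGroup (Fin 2) F) ≠
      χ ((u1 e : B1 F) : SpecialLinearGroup (Fin 2) F) := by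
  have hχc := Cfsg.Agent.Lib.Helper3_CharBridge.isCharacter_of_isIrrCharacter hχ
  obtain ⟨hv, hn⟩ := plus_values hodd hq χ hχ hdeg e he
  have hsq := half_values_sq hodd hχc e he 1 (by norm_num) hv hn
  intro h
  rw [← h] at hv
  have h0 : 2 * χ ((u1 (1 : F) : B1 F) : SpecialLinearGroup (Fin 2) F) - 1 = 0 := by
    linear_combination hv
  rw [h0] at hsq
  have hq0 : (Fintype.card F : ℂ) ≠ 0 := by
    exact_mod_cast (Fintype.card_pos (α := F)).ne'
  have : (-1 : ℂ) ^ ((Fintype.card F - 1) / 2) ≠ 0 := pow_ne_zero _ (by norm_num)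
  exact mul_ne_zero this hq0 (by rw [← hsq]; norm_num)

/-- The diagonal automorphism fixes the diagonal elements. -/
theorem sig_diag (e : Fˣ) (g : SpecialLinearGroup (Fin 2) F)
    (h01 : (g : Matrix (Fin 2) (Fin 2) F) 0 1 = 0) (h10 : (g : Matrix (Fin 2) (Fin 2) F) 1 0 = 0) :
    sig e g = g := by
  apply Matrix.SpecialLinearGroup.ext
  intro i j
  rw [sig_val]
  fin_cases i <;> fin_cases j <;> simp [h01, h10]

/-- Values of the irreducible characters of degree `(q + 1) / 2` at the regular diagonal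
elements. -/
theorem half_plus_diag (hodd : Odd (Fintype.card F)) (hq : 5 ≤ Fintype.card F)
    (χ : SpecialLinearGroup (Fin 2) F → ℂ)
    (hχ : Cfsg.IsIrrCharacter (SpecialLinearGroup (Fin 2) F) χ)
    (hdeg : χ 1 = (((Fintype.card F + 1) / 2 : ℕ) : ℂ)) (g : SpecialLinearGroup (Fin 2) F)
    (h01 : (g : Matrix (Fin 2) (Fin 2) F) 0 1 = 0) (h10 : (g : Matrix (Fin 2) (Fin 2) F) 1 0 = 0)
    (hsq : (g : Matrix (Fin 2) (Fin 2) F) 0 0 ^ 2 ≠ 1) :
    (IsSquare ((g : Matrix (Fin 2) (Fin 2) F) 0 0) → χ g = 1) ∧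
      (¬ IsSquare ((g : Matrix (Fin 2) (Fin 2) F) 0 0) → χ g = -1) := by
  classical
  have hF := ringChar_ne_two_of_odd hodd
  obtain ⟨e, he⟩ := FiniteField.exists_nonsquare hF
  have he0 : e ≠ 0 := by
    rintro rfl
    exact he IsSquare.zero
  set σ := sig (Units.mk0 e he0) with hσ
  set χ' : SpecialLinearGroup (Fin 2) F → ℂ := fun x => χ (σ x) with hχ'def
  have hχ' : Cfsg.IsIrrCharacter (SpecialLinearGroup (Fin 2) F) χ' :=
    isIrrCharacter_comp_equiv σ hχ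
  have hdeg' : χ' 1 = (((Fintype.card F + 1) / 2 : ℕ) : ℂ) := by
    rw [hχ'def]
    simp only [map_one]
    exact hdeg
  have hne : χ ≠ χ' := by
    intro h
    have h1 := congrFun h ((u1 (1 : F) : B1 F) : SpecialLinearGroup (Fin 2) F)
    rw [hχ'def] at h1
    simp only [hσ, sig_u1, Units.val_mk0, mul_one] at h1
    exact plus_values_ne hodd hq χ hχ hdeg e he h1
  obtain ⟨α, hα2, hα1, hind⟩ := plus_pair hodd hq χ χ' hχ hχ' hne hdeg hdeg'
  have hB : g ∈ B1 F := (mem_B1_iff g).2 h10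
  have h11 := B1_11_eq_inv ⟨g, hB⟩
  change (g : Matrix (Fin 2) (Fin 2) F) 1 1 = ((g : Matrix (Fin 2) (Fin 2) F) 0 0)⁻¹ at h11
  have ha0 : (g : Matrix (Fin 2) (Fin 2) F) 0 0 ≠ 0 := B1_00_ne_zero ⟨g, hB⟩
  have hreg : (g : Matrix (Fin 2) (Fin 2) F) 0 0 ≠ (g : Matrix (Fin 2) (Fin 2) F) 1 1 := by
    intro h
    apply hsq
    rw [h11] at h
    rw [sq]
    nth_rw 2 [h]
    exact mul_inv_cancel₀ ha0
  have hval := indFun_aFun_regular α ⟨g, hB⟩ hreg
  change Cfsg.indFun (B1 F) (aFun α) g = α ((g : Matrix (Fin 2) (Fin 2) F) 0 0) +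
    α ((g : Matrix (Fin 2) (Fin 2) F) 1 1) at hval
  rw [hind, Pi.add_apply] at hval
  have hχ'g : χ' g = χ g := by
    rw [hχ'def]
    simp only [hσ, sig_diag _ g h01 h10]
  rw [hχ'g] at hval
  set a := (g : Matrix (Fin 2) (Fin 2) F) 0 0 with ha
  have hq1 := quadratic_mulChar_apply hα2 hα1 a ha0
  have hinv : α ((g : Matrix (Fin 2) (Fin 2) F) 1 1) = α a := by
    rw [h11]
    have hprod : α a * α a⁻¹ = 1 := by
      rw [← map_mul, mul_inv_cancel₀ ha0, map_one]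
    by_cases hs : IsSquare a
    · rw [hq1.1 hs] at hprod ⊢
      linear_combination hprod
    · rw [hq1.2 hs] at hprod ⊢
      linear_combination -hprod
  rw [hinv] at hval
  constructor
  · intro hs
    rw [hq1.1 hs] at hval
    linear_combination (1 / 2 : ℂ) * hval
  · intro hs
    rw [hq1.2 hs] at hval
    linear_combination (1 / 2 : ℂ) * hval

section nonsplit

variable {g₀ : SpecialLinearGroup (Fin 2) F}

/-- The quadratic homomorphism of the non-split torus. -/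
theorem exists_theta0 (hodd : Odd (Fintype.card F)) (hg₀ : IsEll g₀) :
    ∃ θ₀ : Subgroup.centralizer ({g₀} : Set (SpecialLinearGroup (Fin 2) F)) →* ℂˣ,
      θ₀ ^ 2 = 1 ∧
      (∃ t : Subgroup.centralizer ({g₀} : Set (SpecialLinearGroup (Fin 2) F)),
        t ≠ 1 ∧ t ≠ zC g₀ ∧ θ₀ t = -1) ∧
      ∀ t : Subgroup.centralizer ({g₀} : Set (SpecialLinearGroup (Fin 2) F)),
        (t ^ ((Fintype.card F + 1) / 2) = 1 → θ₀ t = 1) ∧
        (t ^ ((Fintype.card F + 1) / 2) ≠ 1 → θ₀ t = -1) := by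
  obtain ⟨c₁, hgen, hord⟩ := exists_gen hodd hg₀
  obtain ⟨hc1, hcz⟩ := gen_noncentral hord
  obtain ⟨j, hj⟩ := hodd
  have e1 : (Fintype.card F + 1) / 2 = j + 1 := by omega
  have e2 : Fintype.card F + 1 = 2 * (j + 1) := by omega
  obtain ⟨θ₀, hθ₀⟩ := exists_hom hgen hord (-1) (by rw [e2, pow_mul]; simp)
  refine ⟨θ₀, ?_, ⟨c₁, hc1, hcz, hθ₀⟩, ?_⟩
  · rw [MonoidHom.eq_iff_eq_on_generator hgen]
    simp [hθ₀]
  · intro t
    obtain ⟨k, rfl⟩ := Subgroup.mem_zpowers_iff.1 (hgen t)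
    have hval : θ₀ (c₁ ^ k) = (-1) ^ k := by rw [map_zpow, hθ₀]
    have hpow : (c₁ ^ k) ^ ((Fintype.card F + 1) / 2) = 1 ↔ Even k := by
      rw [← zpow_natCast, ← _root_.zpow_mul, ← orderOf_dvd_iff_zpow_eq_one, hord, e1, e2]
      push_cast
      constructor
      · rintro ⟨d, hd⟩
        have hj1 : ((j : ℤ) + 1) ≠ 0 := by positivity
        have : k = 2 * d := by
          apply mul_right_cancel₀ hj1
          linear_combination hd
        exact ⟨d, by omega⟩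
      · rintro ⟨d, rfl⟩
        exact ⟨d, by ring⟩
    constructor
    · intro h
      obtain ⟨d, hd⟩ := hpow.1 h
      rw [hval, hd, ← two_mul, _root_.zpow_mul]
      simp
    · intro h
      have hk : ¬ Even k := fun hk => h (hpow.2 hk)
      obtain ⟨d, hd⟩ := Int.not_even_iff_odd.1 hk
      rw [hval, hd, _root_.zpow_add, _root_.zpow_mul, zpow_one]
      simp


/-- An elliptic element is not central. -/
theorem ell_ne_central {g : SpecialLinearGroup (Fin 2) F} (hg : IsEll g) : g ≠ 1 ∧ g ≠ zc := by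
  have h := ell_01_ne_zero hg
  constructor
  · rintro rfl
    apply h
    simp
  · rintro rfl
    apply h
    rw [zc_val]
    simp

/-- The sum of `Ξ` over the upper unitriangular subgroup vanishes. -/
theorem sum_Xi_u1 (hodd : Odd (Fintype.card F)) (hg₀ : IsEll g₀)
    (θ : Subgroup.centralizer ({g₀} : Set (SpecialLinearGroup (Fin 2) F)) →* ℂˣ)
    (α : MulChar F ℂ) :
    ∑ x : F, Xi θ α ((u1 x : B1 F) : SpecialLinearGroup (Fin 2) F) = 0 := by
  classical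
  rw [← Finset.add_sum_erase Finset.univ _ (Finset.mem_univ (0 : F))]
  have h0 : Xi θ α ((u1 (0 : F) : B1 F) : SpecialLinearGroup (Fin 2) F) =
      (Fintype.card F : ℂ) - 1 := by
    rw [u1_zero]
    exact Xi_one hodd hg₀ θ α
  have h1 : ∀ x ∈ (Finset.univ : Finset F).erase 0,
      Xi θ α ((u1 x : B1 F) : SpecialLinearGroup (Fin 2) F) = -1 := by
    intro x hx
    have hx0 : x ≠ 0 := Finset.ne_of_mem_erase hx
    apply Xi_unip hodd hg₀ θ α <;> rw [u1_val] <;> simp [hx0]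
  rw [h0, Finset.sum_congr rfl h1, Finset.sum_const, Finset.card_erase_of_mem (Finset.mem_univ _),
    Finset.card_univ, nsmul_eq_mul, Nat.cast_sub Fintype.card_pos]
  push_cast
  ring

/-- For the quadratic homomorphism `θ₀`, the class function `Ξ` is the sum of two different
irreducible characters of degree `(q - 1) / 2`. -/
theorem xi0_decomp (hodd : Odd (Fintype.card F)) (hg₀ : IsEll g₀)
    (θ₀ : Subgroup.centralizer ({g₀} : Set (SpecialLinearGroup (Fin 2) F)) →* ℂˣ)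
    (hθ2 : θ₀ ^ 2 = 1)
    (t₁ : Subgroup.centralizer ({g₀} : Set (SpecialLinearGroup (Fin 2) F)))
    (ht1 : t₁ ≠ 1) (htz : t₁ ≠ zC g₀) (hθt : θ₀ t₁ = -1)
    (α : MulChar F ℂ) (hαθ : α (-1) = ((θ₀ (zC g₀) : ℂˣ) : ℂ)) :
    ∃ η₁ η₂ : SpecialLinearGroup (Fin 2) F → ℂ,
      Cfsg.IsIrrCharacter (SpecialLinearGroup (Fin 2) F) η₁ ∧
      Cfsg.IsIrrCharacter (SpecialLinearGroup (Fin 2) F) η₂ ∧ η₁ ≠ η₂ ∧
      η₁ 1 = (((Fintype.card F - 1) / 2 : ℕ) : ℂ) ∧ η₂ 1 = (((Fintype.card F - 1) / 2 : ℕ) : ℂ) ∧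
      Xi θ₀ α = η₁ + η₂ := by
  classical
  have hnorm : Cfsg.classInner (indA α - (indW α + indI θ₀)) (indA α - (indW α + indI θ₀)) = 2 := by
    have := norm_Xi hodd hg₀ θ₀ α hαθ
    rw [if_pos hθ2] at this
    unfold Xi at this
    rw [this]
    norm_num
  obtain ⟨χ₁, χ₂, hne, e₁, e₂, he₁, he₂, hsum⟩ :=
    Cfsg.Agent.Lib.Helper39_Virtual.two_irr_of_norm_two (isCharacter_indA α)
      (Cfsg.Agent.Lib.Helper75_CharArith.isCharacter_add (isCharacter_indW α)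
        (isCharacter_indI θ₀)) hnorm
  have hX : Xi θ₀ α = (e₁ : ℂ) • (χ₁ : SpecialLinearGroup (Fin 2) F → ℂ) +
      (e₂ : ℂ) • (χ₂ : SpecialLinearGroup (Fin 2) F → ℂ) := hsum
  obtain ⟨a, B, hdeg, hcases, htriv, -, hsumu, -⟩ :=
    Cfsg.Agent.Lib.Helper39_SL2Odd.odd_types'' hodd
  have hodd' := hodd
  obtain ⟨m, hm⟩ := hodd'
  have hm1 : 1 ≤ m := by
    have := Fintype.one_lt_card (α := F)
    omega
  have ehalf : (Fintype.card F - 1) / 2 = m := by omega
  rw [ehalf] at hdeg ⊢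
  have hqC : (Fintype.card F : ℂ) = 2 * (m : ℂ) + 1 := by
    rw [hm]
    push_cast
    ring
  -- the value at `1`
  have h1 := congrFun hX 1
  rw [Xi_one hodd hg₀] at h1
  simp only [Pi.add_apply, Pi.smul_apply, smul_eq_mul] at h1
  rw [hdeg χ₁, hdeg χ₂, hqC] at h1
  have h1' : (2 * (m : ℤ)) = e₁ * ((a χ₁ : ℤ) + (m : ℤ) * (B χ₁ : ℤ)) +
      e₂ * ((a χ₂ : ℤ) + (m : ℤ) * (B χ₂ : ℤ)) := by
    have : ((2 * (m : ℤ) : ℤ) : ℂ) = ((e₁ * ((a χ₁ : ℤ) + (m : ℤ) * (B χ₁ : ℤ)) +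
        e₂ * ((a χ₂ : ℤ) + (m : ℤ) * (B χ₂ : ℤ)) : ℤ) : ℂ) := by
      push_cast at h1 ⊢
      linear_combination h1
    exact Int.cast_injective this
  -- the sum over the unipotent subgroup
  have h2 := sum_Xi_u1 hodd hg₀ θ₀ α
  rw [hX] at h2
  simp only [Pi.add_apply, Pi.smul_apply, smul_eq_mul, Finset.sum_add_distrib,
    ← Finset.mul_sum, hsumu] at h2
  have hq0 : (Fintype.card F : ℂ) ≠ 0 := by
    exact_mod_cast (Fintype.card_pos (α := F)).ne'
  have h2' : e₁ * (a χ₁ : ℤ) + e₂ * (a χ₂ : ℤ) = 0 := by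
    have : (Fintype.card F : ℂ) * ((e₁ * (a χ₁ : ℤ) + e₂ * (a χ₂ : ℤ) : ℤ) : ℂ) = 0 := by
      push_cast
      linear_combination h2
    rcases mul_eq_zero.1 this with h | h
    · exact absurd h hq0
    · exact_mod_cast h
  have hm0 : (m : ℤ) ≠ 0 := by
    have : m ≠ 0 := by omega
    exact_mod_cast this
  have h3' : e₁ * (B χ₁ : ℤ) + e₂ * (B χ₂ : ℤ) = 2 := by
    apply mul_left_cancel₀ hm0
    linear_combination -h1' - h2'
  -- the types
  have htype : ∀ χ : Cfsg.IrrCharacter (SpecialLinearGroup (Fin 2) F),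
      (χ = Cfsg.Agent.Lib.Helper39_SL2Even.trivIrr ∧ a χ = 1 ∧ B χ = 0) ∨
      (a χ = 0 ∧ B χ = 1) ∨ (a χ = 0 ∧ B χ = 2) ∨ (a χ = 1 ∧ B χ = 1) ∨ (a χ = 1 ∧ B χ = 2) ∨
          (a χ = 2 ∧ B χ = 2) := by
    intro χ
    by_cases hχ : χ = Cfsg.Agent.Lib.Helper39_SL2Even.trivIrr
    · left
      exact ⟨hχ, hχ ▸ htriv.1, hχ ▸ htriv.2⟩
    · right
      exact hcases χ hχ
  have hBle : ∀ χ : Cfsg.IrrCharacter (SpecialLinearGroup (Fin 2) F), B χ ≤ 2 := by
    intro χ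
    rcases htype χ with ⟨-, -, h⟩ | ⟨-, h⟩ | ⟨-, h⟩ | ⟨-, h⟩ | ⟨-, h⟩ | ⟨-, h⟩ <;> omega
  have hB₁ := hBle χ₁
  have hB₂ := hBle χ₂
  -- the exceptional configuration is excluded through the Steinberg character
  have hexcl : ∀ ψ : Cfsg.IrrCharacter (SpecialLinearGroup (Fin 2) F),
      a ψ = 1 → B ψ = 2 →
      Xi θ₀ α ≠ (ψ : SpecialLinearGroup (Fin 2) F → ℂ) - (fun _ => (1 : ℂ)) := by
    intro ψ ha hB hXi
    obtain ⟨St, hStirr, hStsum, hStdeg⟩ := Cfsg.Agent.Lib.Helper39_SL2Even.exists_steinberg (F := F)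
    have hψdeg : (ψ : SpecialLinearGroup (Fin 2) F → ℂ) 1 = (Fintype.card F : ℂ) := by
      rw [hdeg ψ, ha, hB, hqC]
      push_cast
      ring
    have hψSt : (ψ : SpecialLinearGroup (Fin 2) F → ℂ) = St :=
      Cfsg.Agent.Lib.Helper39_SL2Odd.steinberg_unique _ _ ψ.2 hStirr hψdeg hStdeg
    have hell := Cg_ell hg₀ t₁ ht1 htz
    have hSt1 : St (t₁ : SpecialLinearGroup (Fin 2) F) = -1 := by
      have h5 := congrFun hStsum (t₁ : SpecialLinearGroup (Fin 2) F)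
      rw [indFun_eq_zero_of_no_eigenvector1 _ _ hell, Pi.add_apply] at h5
      linear_combination -h5
    have h6 := congrFun hXi (t₁ : SpecialLinearGroup (Fin 2) F)
    rw [Xi_Cg hodd hg₀ θ₀ α t₁ ht1 htz, hθt, hψSt, Pi.sub_apply, hSt1] at h6
    simp only [Units.val_neg, Units.val_one, inv_neg, inv_one] at h6
    norm_num at h6
  have key : e₁ = 1 ∧ e₂ = 1 ∧ a χ₁ = 0 ∧ B χ₁ = 1 ∧ a χ₂ = 0 ∧ B χ₂ = 1 := by
    rcases he₁ with rfl | rfl <;> rcases he₂ with rfl | rfl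
    · rcases htype χ₁ with ⟨-, h1a, h1b⟩ | ⟨h1a, h1b⟩ | ⟨h1a, h1b⟩ | ⟨h1a, h1b⟩ | ⟨h1a, h1b⟩ |
        ⟨h1a, h1b⟩ <;>
      rcases htype χ₂ with ⟨-, h2a, h2b⟩ | ⟨h2a, h2b⟩ | ⟨h2a, h2b⟩ | ⟨h2a, h2b⟩ | ⟨h2a, h2b⟩ |
        ⟨h2a, h2b⟩ <;>
      rw [h1a, h2a] at h2' <;> rw [h1b, h2b] at h3' <;> omega
    · exfalso
      rcases htype χ₂ with ⟨h2t, h2a, h2b⟩ | ⟨h2a, h2b⟩ | ⟨h2a, h2b⟩ | ⟨h2a, h2b⟩ | ⟨h2a, h2b⟩ |
        ⟨h2a, h2b⟩
      · have h1a : a χ₁ = 1 := by rw [h2a] at h2'; omega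
        have h1b : B χ₁ = 2 := by rw [h2b] at h3'; omega
        apply hexcl χ₁ h1a h1b
        rw [hX, h2t]
        funext x
        simp [Cfsg.Agent.Lib.Helper39_SL2Even.trivIrr]
        ring
      all_goals (rw [h2b] at h3'; omega)
    · exfalso
      rcases htype χ₁ with ⟨h1t, h1a, h1b⟩ | ⟨h1a, h1b⟩ | ⟨h1a, h1b⟩ | ⟨h1a, h1b⟩ | ⟨h1a, h1b⟩ |
        ⟨h1a, h1b⟩
      · have h2a : a χ₂ = 1 := by rw [h1a] at h2'; omega
        have h2b : B χ₂ = 2 := by rw [h1b] at h3'; omega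
        apply hexcl χ₂ h2a h2b
        rw [hX, h1t]
        funext x
        simp [Cfsg.Agent.Lib.Helper39_SL2Even.trivIrr]
        ring
      all_goals (rw [h1b] at h3'; omega)
    · exfalso
      omega
  obtain ⟨rfl, rfl, h1a, h1b, h2a, h2b⟩ := key
  refine ⟨χ₁, χ₂, χ₁.2, χ₂.2, ?_, ?_, ?_, ?_⟩
  · intro h
    exact hne (Subtype.ext h)
  · rw [hdeg χ₁, h1a, h1b]
    simp
  · rw [hdeg χ₂, h2a, h2b]
    simp
  · rw [hX]
    simp


/-- Values of the irreducible characters of degree `(q - 1) / 2` at the elliptic elements. -/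
theorem half_minus_ell (hodd : Odd (Fintype.card F)) (hq : 5 ≤ Fintype.card F)
    (χ : SpecialLinearGroup (Fin 2) F → ℂ)
    (hχ : Cfsg.IsIrrCharacter (SpecialLinearGroup (Fin 2) F) χ)
    (hdeg : χ 1 = (((Fintype.card F - 1) / 2 : ℕ) : ℂ)) (g : SpecialLinearGroup (Fin 2) F)
    (hg : IsEll g) :
    (g ^ ((Fintype.card F + 1) / 2) = 1 → χ g = -1) ∧
      (g ^ ((Fintype.card F + 1) / 2) ≠ 1 → χ g = 1) := by
  classical
  have hF := ringChar_ne_two_of_odd hodd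
  obtain ⟨θ₀, hθ2, ⟨t₁, ht1, htz, hθt⟩, hθval⟩ := exists_theta0 hodd hg
  obtain ⟨α, hα⟩ := exists_alpha hodd (θ₀ (zC g)) (by rw [← map_mul, zC_mul_self, map_one])
  obtain ⟨η₁, η₂, hη₁, hη₂, hηne, hηd₁, hηd₂, hXi⟩ :=
    xi0_decomp hodd hg θ₀ hθ2 t₁ ht1 htz hθt α hα
  -- the twist by the diagonal automorphism
  obtain ⟨e, he⟩ := FiniteField.exists_nonsquare hF
  have he0 : e ≠ 0 := by
    rintro rfl
    exact he IsSquare.zero
  set σ := sig (Units.mk0 e he0) with hσ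
  set χ' : SpecialLinearGroup (Fin 2) F → ℂ := fun x => χ (σ x) with hχ'def
  have hχ' : Cfsg.IsIrrCharacter (SpecialLinearGroup (Fin 2) F) χ' :=
    isIrrCharacter_comp_equiv σ hχ
  have hdeg' : χ' 1 = (((Fintype.card F - 1) / 2 : ℕ) : ℂ) := by
    rw [hχ'def]
    simp only [map_one]
    exact hdeg
  have hne : χ ≠ χ' := by
    intro h
    have h1 := congrFun h ((u1 (1 : F) : B1 F) : SpecialLinearGroup (Fin 2) F)
    rw [hχ'def] at h1
    simp only [hσ, sig_u1, Units.val_mk0, mul_one] at h1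
    exact minus_values_ne hodd hq χ hχ hdeg e he h1
  -- the two characters of degree `(q - 1) / 2`
  have hcount := (Cfsg.Agent.Lib.Helper39_SL2Odd.counts_odd (F := F) hodd hq).2.2.2.2.2
  have hne' : (⟨⟨χ, hχ⟩, hdeg⟩ : {χ : Cfsg.IrrCharacter (SpecialLinearGroup (Fin 2) F) //
      (χ : SpecialLinearGroup (Fin 2) F → ℂ) 1 = (((Fintype.card F - 1) / 2 : ℕ) : ℂ)}) ≠
      ⟨⟨χ', hχ'⟩, hdeg'⟩ := by
    intro h
    apply hne
    have := congrArg (fun x : {χ : Cfsg.IrrCharacter (SpecialLinearGroup (Fin 2) F) //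
      (χ : SpecialLinearGroup (Fin 2) F → ℂ) 1 = (((Fintype.card F - 1) / 2 : ℕ) : ℂ)} =>
      (x.1.1 : SpecialLinearGroup (Fin 2) F → ℂ)) h
    exact this
  have hmem : ∀ η : SpecialLinearGroup (Fin 2) F → ℂ,
      Cfsg.IsIrrCharacter (SpecialLinearGroup (Fin 2) F) η →
      η 1 = (((Fintype.card F - 1) / 2 : ℕ) : ℂ) → η = χ ∨ η = χ' := by
    intro η hη hηd
    rcases two_elems hcount _ _ hne' ⟨⟨η, hη⟩, hηd⟩ with h | h
    · left
      have := congrArg (fun x : {χ : Cfsg.IrrCharacter (SpecialLinearGroup (Fin 2) F) //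
        (χ : SpecialLinearGroup (Fin 2) F → ℂ) 1 = (((Fintype.card F - 1) / 2 : ℕ) : ℂ)} =>
        (x.1.1 : SpecialLinearGroup (Fin 2) F → ℂ)) h
      exact this
    · right
      have := congrArg (fun x : {χ : Cfsg.IrrCharacter (SpecialLinearGroup (Fin 2) F) //
        (χ : SpecialLinearGroup (Fin 2) F → ℂ) 1 = (((Fintype.card F - 1) / 2 : ℕ) : ℂ)} =>
        (x.1.1 : SpecialLinearGroup (Fin 2) F → ℂ)) h
      exact this
  have hsum : Xi θ₀ α = χ + χ' := by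
    rw [hXi]
    rcases hmem η₁ hη₁ hηd₁ with h1 | h1 <;> rcases hmem η₂ hη₂ hηd₂ with h2 | h2
    · exact absurd (h1.trans h2.symm) hηne
    · rw [h1, h2]
    · rw [h1, h2, add_comm]
    · exact absurd (h1.trans h2.symm) hηne
  -- the value at `g`
  obtain ⟨hg1, hgz⟩ := ell_ne_central hg
  set tg : Subgroup.centralizer ({g} : Set (SpecialLinearGroup (Fin 2) F)) :=
    ⟨g, Subgroup.mem_centralizer_iff.2 (fun y hy => by rw [Set.mem_singleton_iff.1 hy])⟩ with htg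
  have htg1 : tg ≠ 1 := fun h => hg1 (congrArg Subtype.val h)
  have htgz : tg ≠ zC g := fun h => hgz (congrArg Subtype.val h)
  have hXg := Xi_Cg hodd hg θ₀ α tg htg1 htgz
  change Xi θ₀ α g = _ at hXg
  rw [hsum, Pi.add_apply] at hXg
  obtain ⟨k, hk⟩ := elliptic_conj hodd g hg (dGL (Units.mk0 e he0)) (σ g) (toGL_sig _ g)
  have hcf := Cfsg.Agent.Lib.Helper3_CharBridge.isClassFunction_of_isCharacter
    (Cfsg.Agent.Lib.Helper3_CharBridge.isCharacter_of_isIrrCharacter hχ)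
  have hχ'g : χ' g = χ g := by
    rw [hχ'def]
    change χ (σ g) = χ g
    rw [hk, hcf]
  rw [hχ'g] at hXg
  have hpow : tg ^ ((Fintype.card F + 1) / 2) = 1 ↔ g ^ ((Fintype.card F + 1) / 2) = 1 := by
    rw [Subtype.ext_iff, Subgroup.coe_pow, Subgroup.coe_one]
  constructor
  · intro h
    have h1 := (hθval tg).1 (hpow.2 h)
    rw [h1] at hXg
    simp only [Units.val_one, inv_one] at hXg
    linear_combination (1 / 2 : ℂ) * hXg
  · intro h
    have h1 := (hθval tg).2 (fun h' => h (hpow.1 h'))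
    rw [h1] at hXg
    simp only [Units.val_neg, Units.val_one, inv_neg, inv_one] at hXg
    linear_combination (1 / 2 : ℂ) * hXg

end nonsplit

end Cfsg.Agent.Lib.Helper39_SL2HalfSS
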