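import Mathlib
import Cfsg.Agent.Lib.Helper39_McKayTools
import Cfsg.Agent.Lib.Helper39_SL2Odd
import Cfsg.Agent.Lib.Helper39_SL2Even
import Cfsg.Agent.Lib.Helper3_CharColumn
import Cfsg.Agent.Lib.Helper3_CharComplete
import Cfsg.Agent.S2325
import Cfsg.Agent.S2301

/-!
# Counting the irreducible characters of `SL₂(F)`, `q` odd, of degree prime to `ℓ` (helper39)
-/

set_option autoImplicit false
set_option linter.unusedSectionVars false

namespace Cfsg.Agent.Lib.Helper39_SL2McKayL

open Matrix Cfsg
open Cfsg.Agent.Lib.Helper39_McKayTools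

variable {F : Type*} [Field F] [Fintype F] [Fintype (SpecialLinearGroup (Fin 2) F)]

/-- The possible degrees, as natural numbers. -/
theorem charDegree_cases (hodd : Odd (Fintype.card F))
    (χ : IrrCharacter (SpecialLinearGroup (Fin 2) F)) :
    charDegree (χ : SpecialLinearGroup (Fin 2) F → ℂ) = 1 ∨
    charDegree (χ : SpecialLinearGroup (Fin 2) F → ℂ) = Fintype.card F ∨
    charDegree (χ : SpecialLinearGroup (Fin 2) F → ℂ) = Fintype.card F + 1 ∨
    charDegree (χ : SpecialLinearGroup (Fin 2) F → ℂ) = Fintype.card F - 1 ∨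
    charDegree (χ : SpecialLinearGroup (Fin 2) F → ℂ) = (Fintype.card F + 1) / 2 ∨
    charDegree (χ : SpecialLinearGroup (Fin 2) F → ℂ) = (Fintype.card F - 1) / 2 := by
  have hq : 1 ≤ Fintype.card F := Fintype.card_pos
  rcases Cfsg.Agent.Lib.Helper39_SL2Odd.degree_odd hodd χ.1 χ.2 with h | h | h | h | h | h
  · left
    exact charDegree_eq_of_apply_one _ 1 (by rw [h]; simp)
  · right; left
    exact charDegree_eq_of_apply_one _ _ h
  · right; right; left
    exact charDegree_eq_of_apply_one _ _ (by rw [h]; push_cast; ring)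
  · right; right; right; left
    exact charDegree_eq_of_apply_one _ _ (by rw [h, Nat.cast_sub hq]; simp)
  · right; right; right; right; left
    exact charDegree_eq_of_apply_one _ _ h
  · right; right; right; right; right
    exact charDegree_eq_of_apply_one _ _ h

/-- The number of irreducible characters of a given degree. -/
theorem card_degree_eq (n : ℕ) :
    Nat.card {χ : IrrCharacter (SpecialLinearGroup (Fin 2) F) //
      (χ : SpecialLinearGroup (Fin 2) F → ℂ) 1 = (n : ℂ)} =
    Nat.card {χ : IrrCharacter (SpecialLinearGroup (Fin 2) F) //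
      charDegree (χ : SpecialLinearGroup (Fin 2) F → ℂ) = n} := by
  apply Nat.card_congr
  apply Equiv.subtypeEquivRight
  intro χ
  rw [(charDegree_spec χ).1]
  exact Nat.cast_inj

/-- There is exactly one irreducible character of degree `q`. -/
theorem card_degree_q :
    Nat.card {χ : IrrCharacter (SpecialLinearGroup (Fin 2) F) //
      charDegree (χ : SpecialLinearGroup (Fin 2) F → ℂ) = Fintype.card F} = 1 := by
  rw [← card_degree_eq]
  obtain ⟨St, hSt, -, hStdeg⟩ := Cfsg.Agent.Lib.Helper39_SL2Even.exists_steinberg (F := F)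
  rw [Nat.card_eq_one_iff_unique]
  refine ⟨⟨fun x y => ?_⟩, ⟨⟨⟨St, hSt⟩, hStdeg⟩⟩⟩
  apply Subtype.ext
  apply Subtype.ext
  exact Cfsg.Agent.Lib.Helper39_SL2Odd.steinberg_unique _ _ x.1.2 y.1.2 x.2 y.2

/-- The number of irreducible characters. -/
theorem card_irr (hodd : Odd (Fintype.card F)) :
    Nat.card (IrrCharacter (SpecialLinearGroup (Fin 2) F)) = Fintype.card F + 4 := by
  rw [Cfsg.Agent.Lib.Helper3_CharColumn.card_irr_eq_card_conjClasses,
    Cfsg.Agent.S2325.result hodd]

/-- In the defining characteristic, all irreducible characters but one have degree prime to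
`p`. -/
theorem lhs_char_p (hodd : Odd (Fintype.card F)) (p : ℕ) (hp : p.Prime)
    (hpq : p ∣ Fintype.card F) :
    Nat.card {χ : IrrCharacter (SpecialLinearGroup (Fin 2) F) //
      ¬ p ∣ charDegree (χ : SpecialLinearGroup (Fin 2) F → ℂ)} = Fintype.card F + 3 := by
  classical
  have hq3 : 3 ≤ Fintype.card F := by
    have := Fintype.one_lt_card (α := F)
    rcases hodd with ⟨k, hk⟩
    omega
  have hiff : ∀ χ : IrrCharacter (SpecialLinearGroup (Fin 2) F),
      ¬ p ∣ charDegree (χ : SpecialLinearGroup (Fin 2) F → ℂ) ↔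
        ¬ charDegree (χ : SpecialLinearGroup (Fin 2) F → ℂ) = Fintype.card F := by
    intro χ
    rw [not_iff_not]
    constructor
    · intro hdvd
      have hne1 : ¬ p ∣ 1 := hp.one_lt.ne' ∘ Nat.dvd_one.mp
      have hplus : ¬ p ∣ Fintype.card F + 1 := fun h => hne1 ((Nat.dvd_add_right hpq).1 h)
      have hminus : ¬ p ∣ Fintype.card F - 1 := by
        intro h
        apply hne1
        have h2 := Nat.dvd_sub hpq h
        have : Fintype.card F - (Fintype.card F - 1) = 1 := by omega
        rwa [this] at h2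
      rcases charDegree_cases hodd χ with h | h | h | h | h | h
      · rw [h] at hdvd
        exact absurd hdvd hne1
      · exact h
      · rw [h] at hdvd
        exact absurd hdvd hplus
      · rw [h] at hdvd
        exact absurd hdvd hminus
      · rw [h] at hdvd
        exfalso
        apply hplus
        have : Fintype.card F + 1 = 2 * ((Fintype.card F + 1) / 2) := by
          rcases hodd with ⟨k, hk⟩
          omega
        rw [this]
        exact Dvd.dvd.mul_left hdvd 2
      · rw [h] at hdvd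
        exfalso
        apply hminus
        have : Fintype.card F - 1 = 2 * ((Fintype.card F - 1) / 2) := by
          rcases hodd with ⟨k, hk⟩
          omega
        rw [this]
        exact Dvd.dvd.mul_left hdvd 2
    · intro h
      rw [h]
      exact hpq
  rw [Nat.card_congr (Equiv.subtypeEquivRight hiff)]
  have h1 := card_degree_q (F := F)
  have h2 := card_irr (F := F) hodd
  have h3 := Nat.card_congr (Equiv.sumCompl
    (fun χ : IrrCharacter (SpecialLinearGroup (Fin 2) F) =>
      charDegree (χ : SpecialLinearGroup (Fin 2) F → ℂ) = Fintype.card F))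
  rw [Nat.card_sum, h1, h2] at h3
  omega


/-- Splitting an indicator over six different values. -/
theorem six_split (m v : ℕ) (hm : 2 ≤ m) (P : ℕ → Prop) [DecidablePred P]
    (hv : v = 1 ∨ v = 2 * m + 1 ∨ v = 2 * m + 2 ∨ v = 2 * m ∨ v = m + 1 ∨ v = m) :
    (if P v then 1 else 0) =
      (if P 1 then (if v = 1 then 1 else 0) else 0) +
      (if P (2 * m + 1) then (if v = 2 * m + 1 then 1 else 0) else 0) +
      (if P (2 * m + 2) then (if v = 2 * m + 2 then 1 else 0) else 0) +
      (if P (2 * m) then (if v = 2 * m then 1 else 0) else 0) +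
      (if P (m + 1) then (if v = m + 1 then 1 else 0) else 0) +
      (if P m then (if v = m then 1 else 0) else 0) := by
  have aux : ∀ d : ℕ, (if P d then (if v = d then 1 else 0) else 0) =
      (if v = d then (if P v then 1 else 0) else 0) := by
    intro d
    by_cases h : v = d
    · subst h
      simp
    · simp [h]
  rw [aux, aux, aux, aux, aux, aux]
  generalize (if P v then 1 else 0) = x
  rcases hv with rfl | rfl | rfl | rfl | rfl | rfl <;> split_ifs <;> omega

/-- The number of irreducible characters whose degree has a given property, `q ≥ 5`. -/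
theorem lhs_count (hodd : Odd (Fintype.card F)) (hq : 5 ≤ Fintype.card F)
    (P : ℕ → Prop) [DecidablePred P] :
    Nat.card {χ : IrrCharacter (SpecialLinearGroup (Fin 2) F) //
      P (charDegree (χ : SpecialLinearGroup (Fin 2) F → ℂ))} =
      (if P 1 then 1 else 0) + (if P (Fintype.card F) then 1 else 0) +
      (if P (Fintype.card F + 1) then (Fintype.card F - 3) / 2 else 0) +
      (if P (Fintype.card F - 1) then (Fintype.card F - 1) / 2 else 0) +
      (if P ((Fintype.card F + 1) / 2) then 2 else 0) +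
      (if P ((Fintype.card F - 1) / 2) then 2 else 0) := by
  classical
  obtain ⟨c1, cq, cp, cm, chp, chm⟩ := Cfsg.Agent.Lib.Helper39_SL2Odd.counts_odd (F := F) hodd hq
  have hq1 : 1 ≤ Fintype.card F := Fintype.card_pos
  have hodd' := hodd
  obtain ⟨m, hm⟩ := hodd'
  have hm2 : 2 ≤ m := by omega
  have e1 : (Fintype.card F - 1) / 2 = m := by omega
  have e2 : (Fintype.card F + 1) / 2 = m + 1 := by omega
  have e3 : (Fintype.card F - 3) / 2 = m - 1 := by omega
  have e4 : Fintype.card F - 1 = 2 * m := by omega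
  have e5 : Fintype.card F + 1 = 2 * m + 2 := by omega
  -- counts in terms of `charDegree`
  have conv : ∀ (c : ℂ) (n : ℕ), c = (n : ℂ) →
      Nat.card {χ : IrrCharacter (SpecialLinearGroup (Fin 2) F) //
        (χ : SpecialLinearGroup (Fin 2) F → ℂ) 1 = c} =
      (Finset.univ.filter (fun χ : IrrCharacter (SpecialLinearGroup (Fin 2) F) =>
        charDegree (χ : SpecialLinearGroup (Fin 2) F → ℂ) = n)).card := by
    intro c n hc
    rw [hc, card_degree_eq, Nat.card_eq_fintype_card, Fintype.card_subtype]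
  rw [conv 1 1 (by simp)] at c1
  rw [conv _ (2 * m + 1) (by rw [hm])] at cq
  rw [conv _ (2 * m + 2) (by rw [hm]; push_cast; ring)] at cp
  rw [conv _ (2 * m) (by rw [hm]; push_cast; ring)] at cm
  rw [conv _ (m + 1) (by rw [e2])] at chp
  rw [conv _ m (by rw [e1])] at chm
  rw [e1] at cm
  rw [e3] at cp
  rw [e1, e2, e3, e4, e5, hm]
  rw [Nat.card_eq_fintype_card, Fintype.card_subtype, Finset.card_filter]
  have hpt : ∀ χ : IrrCharacter (SpecialLinearGroup (Fin 2) F),
      (if P (charDegree (χ : SpecialLinearGroup (Fin 2) F → ℂ)) then 1 else 0) =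
      (if P 1 then (if charDegree (χ : SpecialLinearGroup (Fin 2) F → ℂ) = 1 then 1 else 0)
        else 0) +
      (if P (2 * m + 1) then
        (if charDegree (χ : SpecialLinearGroup (Fin 2) F → ℂ) = 2 * m + 1 then 1 else 0) else 0) +
      (if P (2 * m + 2) then
        (if charDegree (χ : SpecialLinearGroup (Fin 2) F → ℂ) = 2 * m + 2 then 1 else 0) else 0) +
      (if P (2 * m) then
        (if charDegree (χ : SpecialLinearGroup (Fin 2) F → ℂ) = 2 * m then 1 else 0) else 0) +
      (if P (m + 1) then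
        (if charDegree (χ : SpecialLinearGroup (Fin 2) F → ℂ) = m + 1 then 1 else 0) else 0) +
      (if P m then
        (if charDegree (χ : SpecialLinearGroup (Fin 2) F → ℂ) = m then 1 else 0) else 0) := by
    intro χ
    apply six_split m _ hm2 P
    have := charDegree_cases hodd χ
    rw [e1, e2, e4, e5, hm] at this
    exact this
  rw [Finset.sum_congr rfl (fun χ _ => hpt χ)]
  simp only [Finset.sum_add_distrib]
  have hterm : ∀ d : ℕ, ∑ χ : IrrCharacter (SpecialLinearGroup (Fin 2) F),
      (if P d then (if charDegree (χ : SpecialLinearGroup (Fin 2) F → ℂ) = d then 1 else 0)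
        else 0) =
      if P d then (Finset.univ.filter (fun χ : IrrCharacter (SpecialLinearGroup (Fin 2) F) =>
        charDegree (χ : SpecialLinearGroup (Fin 2) F → ℂ) = d)).card else 0 := by
    intro d
    by_cases hd : P d
    · simp only [if_pos hd]
      rw [Finset.card_filter]
    · simp only [if_neg hd]
      simp
  rw [hterm, hterm, hterm, hterm, hterm, hterm, c1, cq, cp, cm, chp, chm]


/-- The number of irreducible characters of odd degree, `q ≥ 5`. -/
theorem lhs_two (hodd : Odd (Fintype.card F)) (hq : 5 ≤ Fintype.card F) :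
    Nat.card {χ : IrrCharacter (SpecialLinearGroup (Fin 2) F) //
      ¬ 2 ∣ charDegree (χ : SpecialLinearGroup (Fin 2) F → ℂ)} = 4 := by
  classical
  rw [lhs_count hodd hq (fun d => ¬ 2 ∣ d)]
  obtain ⟨m, hm⟩ := hodd
  have e1 : (Fintype.card F - 1) / 2 = m := by omega
  have e2 : (Fintype.card F + 1) / 2 = m + 1 := by omega
  have e3 : (Fintype.card F - 3) / 2 = m - 1 := by omega
  have e4 : Fintype.card F - 1 = 2 * m := by omega
  have e5 : Fintype.card F + 1 = 2 * m + 2 := by omega
  rw [e1, e2, e3, e4, e5, hm]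
  split_ifs <;> omega

/-- The number of irreducible characters of degree prime to an odd prime divisor of `q - 1`,
`q ≥ 5`. -/
theorem lhs_minus (hodd : Odd (Fintype.card F)) (hq : 5 ≤ Fintype.card F) (ℓ : ℕ)
    (hℓ : ℓ.Prime) (hℓ2 : ℓ ≠ 2) (hdvd : ℓ ∣ Fintype.card F - 1) :
    Nat.card {χ : IrrCharacter (SpecialLinearGroup (Fin 2) F) //
      ¬ ℓ ∣ charDegree (χ : SpecialLinearGroup (Fin 2) F → ℂ)} = (Fintype.card F + 5) / 2 := by
  classical
  rw [lhs_count hodd hq (fun d => ¬ ℓ ∣ d)]
  obtain ⟨m, hm⟩ := hodd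
  have e1 : (Fintype.card F - 1) / 2 = m := by omega
  have e2 : (Fintype.card F + 1) / 2 = m + 1 := by omega
  have e3 : (Fintype.card F - 3) / 2 = m - 1 := by omega
  have e4 : Fintype.card F - 1 = 2 * m := by omega
  have e5 : Fintype.card F + 1 = 2 * m + 2 := by omega
  rw [e4] at hdvd
  have hne1 : ¬ ℓ ∣ 1 := hℓ.one_lt.ne' ∘ Nat.dvd_one.mp
  have hne2 : ¬ ℓ ∣ 2 := by
    intro h
    exact hℓ2 ((Nat.prime_dvd_prime_iff_eq hℓ Nat.prime_two).1 h)
  have hm' : ℓ ∣ m := ((Nat.Prime.dvd_mul hℓ).1 hdvd).resolve_left hne2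
  have h1 : ¬ ℓ ∣ 2 * m + 1 := fun h => hne1 ((Nat.dvd_add_right hdvd).1 h)
  have h2 : ¬ ℓ ∣ 2 * m + 2 := fun h => hne2 ((Nat.dvd_add_right hdvd).1 h)
  have h3 : ¬ ℓ ∣ m + 1 := fun h => hne1 ((Nat.dvd_add_right hm').1 h)
  rw [e1, e2, e3, e4, e5, hm]
  rw [if_pos hne1, if_pos h1, if_pos h2, if_neg (not_not.2 hdvd), if_pos h3,
    if_neg (not_not.2 hm')]
  omega

/-- The number of irreducible characters of degree prime to an odd prime divisor of `q + 1`,
`q ≥ 5`. -/
theorem lhs_plus (hodd : Odd (Fintype.card F)) (hq : 5 ≤ Fintype.card F) (ℓ : ℕ)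
    (hℓ : ℓ.Prime) (hℓ2 : ℓ ≠ 2) (hdvd : ℓ ∣ Fintype.card F + 1) :
    Nat.card {χ : IrrCharacter (SpecialLinearGroup (Fin 2) F) //
      ¬ ℓ ∣ charDegree (χ : SpecialLinearGroup (Fin 2) F → ℂ)} = (Fintype.card F + 7) / 2 := by
  classical
  rw [lhs_count hodd hq (fun d => ¬ ℓ ∣ d)]
  obtain ⟨m, hm⟩ := hodd
  have e1 : (Fintype.card F - 1) / 2 = m := by omega
  have e2 : (Fintype.card F + 1) / 2 = m + 1 := by omega
  have e3 : (Fintype.card F - 3) / 2 = m - 1 := by omega
  have e4 : Fintype.card F - 1 = 2 * m := by omega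
  have e5 : Fintype.card F + 1 = 2 * m + 2 := by omega
  rw [e5] at hdvd
  have hne1 : ¬ ℓ ∣ 1 := hℓ.one_lt.ne' ∘ Nat.dvd_one.mp
  have hne2 : ¬ ℓ ∣ 2 := by
    intro h
    exact hℓ2 ((Nat.prime_dvd_prime_iff_eq hℓ Nat.prime_two).1 h)
  have hm' : ℓ ∣ m + 1 := by
    have : 2 * m + 2 = 2 * (m + 1) := by ring
    rw [this] at hdvd
    exact ((Nat.Prime.dvd_mul hℓ).1 hdvd).resolve_left hne2
  have h1 : ¬ ℓ ∣ 2 * m + 1 := by
    intro h
    apply hne1
    have := Nat.dvd_sub hdvd h
    have e : 2 * m + 2 - (2 * m + 1) = 1 := by omega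
    rwa [e] at this
  have h2 : ¬ ℓ ∣ 2 * m := by
    intro h
    exact hne2 ((Nat.dvd_add_right h).1 hdvd)
  have h3 : ¬ ℓ ∣ m := by
    intro h
    exact hne1 ((Nat.dvd_add_right h).1 hm')
  rw [e1, e2, e3, e4, e5, hm]
  rw [if_pos hne1, if_pos h1, if_neg (not_not.2 hdvd), if_pos h2, if_neg (not_not.2 hm'),
    if_pos h3]
  omega

/-- The number of irreducible characters of odd degree, `q = 3`. -/
theorem lhs_two_three (hq : Fintype.card F = 3) :
    Nat.card {χ : IrrCharacter (SpecialLinearGroup (Fin 2) F) //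
      ¬ 2 ∣ charDegree (χ : SpecialLinearGroup (Fin 2) F → ℂ)} = 4 := by
  classical
  have hodd : Odd (Fintype.card F) := by rw [hq]; decide
  have hcases : ∀ χ : IrrCharacter (SpecialLinearGroup (Fin 2) F),
      charDegree (χ : SpecialLinearGroup (Fin 2) F → ℂ) = 1 ∨
      charDegree (χ : SpecialLinearGroup (Fin 2) F → ℂ) = 2 ∨
      charDegree (χ : SpecialLinearGroup (Fin 2) F → ℂ) = 3 ∨
      charDegree (χ : SpecialLinearGroup (Fin 2) F → ℂ) = 4 := by
    intro χ
    have := charDegree_cases hodd χ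
    rw [hq] at this
    omega
  set n : ℕ → ℕ := fun d => (Finset.univ.filter
    (fun χ : IrrCharacter (SpecialLinearGroup (Fin 2) F) =>
      charDegree (χ : SpecialLinearGroup (Fin 2) F → ℂ) = d)).card with hn
  have hn3 : n 3 = 1 := by
    have := card_degree_q (F := F)
    rw [hq, Nat.card_eq_fintype_card, Fintype.card_subtype] at this
    exact this
  have hcard : n 1 + n 2 + n 3 + n 4 = 7 := by
    have h := card_irr (F := F) hodd
    rw [hq, Nat.card_eq_fintype_card, ← Finset.card_univ, Finset.card_eq_sum_ones] at h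
    have h7 : (7 : ℕ) = 3 + 4 := rfl
    rw [h7, ← h]
    simp only [hn, Finset.card_filter, ← Finset.sum_add_distrib]
    refine Finset.sum_congr rfl (fun χ _ => ?_)
    rcases hcases χ with h | h | h | h <;> rw [h] <;> simp
  have hsq : n 1 * 1 + n 2 * 4 + n 3 * 9 + n 4 * 16 = 24 := by
    have h := Cfsg.Agent.Lib.Helper3_CharColumn.sum_sq_irr_one
      (G := SpecialLinearGroup (Fin 2) F)
    rw [Cfsg.Agent.S2301.card_SL2, hq] at h
    have h' : ∑ χ : IrrCharacter (SpecialLinearGroup (Fin 2) F),
        (charDegree (χ : SpecialLinearGroup (Fin 2) F → ℂ)) ^ 2 = 24 := by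
      have : ((∑ χ : IrrCharacter (SpecialLinearGroup (Fin 2) F),
          (charDegree (χ : SpecialLinearGroup (Fin 2) F → ℂ)) ^ 2 : ℕ) : ℂ) = ((24 : ℕ) : ℂ) := by
        rw [show ((24 : ℕ) : ℂ) = ((3 * (3 ^ 2 - 1) : ℕ) : ℂ) by norm_num, ← h]
        push_cast
        refine Finset.sum_congr rfl (fun χ _ => ?_)
        rw [(charDegree_spec χ).1]
      exact_mod_cast this
    rw [← h']
    simp only [hn, Finset.card_filter, Finset.sum_mul, ← Finset.sum_add_distrib]
    refine Finset.sum_congr rfl (fun χ _ => ?_)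
    rcases hcases χ with h | h | h | h <;> rw [h] <;> simp
  have hodd_count : Nat.card {χ : IrrCharacter (SpecialLinearGroup (Fin 2) F) //
      ¬ 2 ∣ charDegree (χ : SpecialLinearGroup (Fin 2) F → ℂ)} = n 1 + n 3 := by
    rw [Nat.card_eq_fintype_card, Fintype.card_subtype, Finset.card_filter]
    simp only [hn, Finset.card_filter, ← Finset.sum_add_distrib]
    refine Finset.sum_congr rfl (fun χ _ => ?_)
    rcases hcases χ with h | h | h | h <;> rw [h] <;> simp
  rw [hodd_count]
  omega

end Cfsg.Agent.Lib.Helper39_SL2McKayL
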