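import Mathlib
import Cfsg.Agent.Lib.Helper39_McKayTools
import Cfsg.Agent.Lib.Helper39_SL2McKayL
import Cfsg.Agent.Lib.Helper41_SylowTorus
import Cfsg.Agent.Lib.Helper41_SL2Torus
import Cfsg.Agent.Lib.Helper41_SL2
import Cfsg.Agent.Lib.Helper41_Q8Act
import Cfsg.Agent.Lib.Helper2_SL23
import Cfsg.Agent.Lib.Helper5_PSLCard
import Cfsg.Agent.S2428
import Cfsg.Agent.S2430
import Cfsg.Agent.S2431
import Cfsg.Agent.S0261

/-!
# Characters of degree prime to `ℓ` of the normalizers of the Sylow `ℓ`-subgroups of `SL₂(F)`,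
`ℓ` different from the characteristic (helper39)
-/

set_option autoImplicit false
set_option linter.unusedSectionVars false

namespace Cfsg.Agent.Lib.Helper39_SL2McKayR

open Matrix Cfsg
open Cfsg.Agent.Lib.Helper39_McKayTools
open Cfsg.Agent.Lib.Helper41_SylowTorus (sylow_centralizer_normalizer)

section generic

variable {G : Type*} [Group G] [Finite G]

/-- For an abelian subgroup `T` of index two in its normalizer and `ℓ` odd, all irreducible
characters of the normalizer have degree prime to `ℓ`. -/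
theorem card_pprime_normalizer_torus (T : Subgroup G)
    (hT : ∀ a ∈ T, ∀ b ∈ T, a * b = b * a)
    (hidx : Nat.card (Subgroup.normalizer (T : Set G)) = 2 * Nat.card T) (ℓ : ℕ)
    (hℓ2 : ¬ ℓ ∣ 2) :
    Nat.card {ψ : IrrCharacter (Subgroup.normalizer (T : Set G)) //
      ¬ ℓ ∣ charDegree (ψ : Subgroup.normalizer (T : Set G) → ℂ)} =
      Nat.card (ConjClasses (Subgroup.normalizer (T : Set G))) := by
  apply card_pprime_of_abelian_normal (T.subgroupOf (Subgroup.normalizer (T : Set G)))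
  · intro a ha b hb
    apply Subtype.ext
    rw [Subgroup.coe_mul, Subgroup.coe_mul]
    exact hT a ha b hb
  · have h := Subgroup.card_mul_index (T.subgroupOf (Subgroup.normalizer (T : Set G)))
    rw [Nat.card_congr (Subgroup.subgroupOfEquivOfLe Subgroup.le_normalizer).toEquiv, hidx] at h
    have hpos : 0 < Nat.card T := Nat.card_pos
    have h2 : (T.subgroupOf (Subgroup.normalizer (T : Set G))).index = 2 := by
      apply Nat.eq_of_mul_eq_mul_left hpos
      rw [h]
      ring
    rw [h2]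
    exact hℓ2

/-- Transport along a conjugation. -/
theorem card_pprime_map_conj (K : Subgroup G) (x : G) (ℓ : ℕ) :
    Nat.card {ψ : IrrCharacter (K.map (MulAut.conj x).toMonoidHom) //
      ¬ ℓ ∣ charDegree (ψ : K.map (MulAut.conj x).toMonoidHom → ℂ)} =
    Nat.card {ψ : IrrCharacter K // ¬ ℓ ∣ charDegree (ψ : K → ℂ)} :=
  (card_pprime_congr (K.equivMapOfInjective _ (MulAut.conj x).injective) ℓ).symm

end generic

variable {F : Type*} [Field F] [Fintype F]

/-- Odd `ℓ` dividing `q - 1`. -/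
theorem rhs_minus (hodd : Odd (Fintype.card F)) (ℓ : ℕ) [Fact ℓ.Prime] (hℓ : ℓ ≠ 2)
    (hdvd : ℓ ∣ Fintype.card F - 1) (P : Sylow ℓ (SpecialLinearGroup (Fin 2) F)) :
    Nat.card {ψ : IrrCharacter (Subgroup.normalizer
      ((P : Subgroup (SpecialLinearGroup (Fin 2) F)) : Set (SpecialLinearGroup (Fin 2) F))) //
        ¬ ℓ ∣ charDegree (ψ : Subgroup.normalizer
          ((P : Subgroup (SpecialLinearGroup (Fin 2) F)) :
            Set (SpecialLinearGroup (Fin 2) F)) → ℂ)} = (Fintype.card F + 5) / 2 := by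
  classical
  have hℓp : ℓ.Prime := Fact.out
  have hq : 2 ≤ Fintype.card F := Fintype.one_lt_card
  have hcardG := Cfsg.Agent.Lib.Helper5_PSLCard.card_SL_two (F := F)
  obtain ⟨hv1, -⟩ := Cfsg.Agent.S2430.val_aux (Fintype.card F) ℓ hq hℓp hℓ
  have hcT : Nat.card (Cfsg.Agent.S2428.diagSub F) = Fintype.card F - 1 :=
    Cfsg.Agent.S2428.card_diagSub
  obtain ⟨d, hd⟩ := exists_prime_orderOf_dvd_card' (G := Cfsg.Agent.S2428.diagSub F) ℓ
    (by rw [hcT]; exact hdvd)
  have hdord : orderOf (d : SpecialLinearGroup (Fin 2) F) = ℓ := by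
    rw [Subgroup.orderOf_coe]; exact hd
  have hda := Cfsg.Agent.S2430.sq_ne_one_of_orderOf (d : SpecialLinearGroup (Fin 2) F) d.2 ℓ hℓp hℓ
    hdord
  have hres := Cfsg.Agent.S2428.result hodd (d : SpecialLinearGroup (Fin 2) F) d.2.1 d.2.2 hda
  rw [Cfsg.Agent.S2428.centralizer_eq (d : SpecialLinearGroup (Fin 2) F) d.2.1 d.2.2 hda] at hres
  obtain ⟨-, hNT, hcls, -⟩ := hres
  obtain ⟨x, -, hx2⟩ := sylow_centralizer_normalizer (Cfsg.Agent.S2428.diagSub F) ℓ
    (fun a ha b hb => Cfsg.Agent.S2430.diagSub_comm a b ha hb)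
    (by rw [hcardG, hcT]; exact hv1 hdvd) (by rw [hcT]; exact hdvd)
    (fun g hg hgord => Cfsg.Agent.S2428.centralizer_eq g hg.1 hg.2
      (Cfsg.Agent.S2430.sq_ne_one_of_orderOf g hg ℓ hℓp hℓ hgord)) P
  rw [card_pprime_congr (MulEquiv.subgroupCongr hx2) ℓ, card_pprime_map_conj,
    card_pprime_normalizer_torus _ (fun a ha b hb => Cfsg.Agent.S2430.diagSub_comm a b ha hb)
      (by rw [hNT, hcT]) ℓ
      (fun h => hℓ ((Nat.prime_dvd_prime_iff_eq hℓp Nat.prime_two).1 h)), hcls]

open Cfsg.Agent.Lib.Helper41_SL2 Cfsg.Agent.Lib.Helper41_SL2Torus in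
/-- Odd `ℓ` dividing `q + 1`. -/
theorem rhs_plus (hodd : Odd (Fintype.card F)) (ℓ : ℕ) [Fact ℓ.Prime] (hℓ : ℓ ≠ 2)
    (hdvd : ℓ ∣ Fintype.card F + 1) (P : Sylow ℓ (SpecialLinearGroup (Fin 2) F)) :
    Nat.card {ψ : IrrCharacter (Subgroup.normalizer
      ((P : Subgroup (SpecialLinearGroup (Fin 2) F)) : Set (SpecialLinearGroup (Fin 2) F))) //
        ¬ ℓ ∣ charDegree (ψ : Subgroup.normalizer
          ((P : Subgroup (SpecialLinearGroup (Fin 2) F)) :
            Set (SpecialLinearGroup (Fin 2) F)) → ℂ)} = (Fintype.card F + 7) / 2 := by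
  classical
  have hℓp : ℓ.Prime := Fact.out
  have hq : 2 ≤ Fintype.card F := Fintype.one_lt_card
  have hcardG := Cfsg.Agent.Lib.Helper5_PSLCard.card_SL_two (F := F)
  obtain ⟨-, hv2⟩ := Cfsg.Agent.S2430.val_aux (Fintype.card F) ℓ hq hℓp hℓ
  obtain ⟨a, ha⟩ := exists_no_root (F := F)
  have : Fact (∀ r : F, r ^ 2 ≠ a + 1 * r) := ⟨ha⟩
  have hcT : Nat.card (nsTorus a 1) = Fintype.card F + 1 := card_nsTorus a 1
  obtain ⟨hNT, hcls⟩ := normalizer_nsTorus_odd a 1 hodd
  obtain ⟨x, -, hx2⟩ := sylow_centralizer_normalizer (nsTorus a 1) ℓ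
    (fun x hx y hy => nsTorus_comm a 1 x y hx hy)
    (by rw [hcardG, hcT]; exact hv2 hdvd) (by rw [hcT]; exact hdvd)
    (fun g hg hgord => by
      apply centralizer_eq a 1 g hg
      · intro h1
        have : g = 1 := Subtype.ext (by rw [h1, Matrix.SpecialLinearGroup.coe_one])
        rw [this, orderOf_one] at hgord
        exact hℓp.one_lt.ne hgord
      · intro h1
        apply Cfsg.Agent.S2430.mul_self_ne_one g ℓ hℓp hℓ hgord
        apply Subtype.ext
        rw [Matrix.SpecialLinearGroup.coe_mul, h1, Matrix.SpecialLinearGroup.coe_one]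
        simp) P
  rw [card_pprime_congr (MulEquiv.subgroupCongr hx2) ℓ, card_pprime_map_conj,
    card_pprime_normalizer_torus _ (fun x hx y hy => nsTorus_comm a 1 x y hx hy)
      (by rw [hNT, hcT]) ℓ
      (fun h => hℓ ((Nat.prime_dvd_prime_iff_eq hℓp Nat.prime_two).1 h))]
  omega


/-- `ℓ = 2`, `q ≡ ±1 mod 8`: the Sylow `2`-subgroup is self-normalizing and generalized
quaternion. -/
theorem rhs_two_self (hodd : Odd (Fintype.card F))
    (hq : Fintype.card F % 8 = 1 ∨ Fintype.card F % 8 = 7)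
    (S : Sylow 2 (SpecialLinearGroup (Fin 2) F)) :
    Nat.card {ψ : IrrCharacter (Subgroup.normalizer
      ((S : Subgroup (SpecialLinearGroup (Fin 2) F)) : Set (SpecialLinearGroup (Fin 2) F))) //
        ¬ 2 ∣ charDegree (ψ : Subgroup.normalizer
          ((S : Subgroup (SpecialLinearGroup (Fin 2) F)) :
            Set (SpecialLinearGroup (Fin 2) F)) → ℂ)} = 4 := by
  classical
  have hN := (Cfsg.Agent.S2431.result hodd S).2.1 hq
  obtain ⟨k, hk, ⟨e⟩⟩ := Cfsg.Agent.S0261.result hodd S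
  have : NeZero (2 ^ k) := ⟨by positivity⟩
  rw [card_pprime_congr ((MulEquiv.subgroupCongr hN).trans e) 2,
    card_odd_of_two_group (k + 2) (by
      rw [Nat.card_eq_fintype_card, QuaternionGroup.card, pow_add]
      ring),
    index_commutator_quaternion]

/-- `ℓ = 2`, `q ≡ ±3 mod 8`: the normalizer of a Sylow `2`-subgroup is isomorphic to `SL₂(3)`. -/
theorem rhs_two_three (hodd : Odd (Fintype.card F))
    (hq : Fintype.card F % 8 = 3 ∨ Fintype.card F % 8 = 5)
    (S : Sylow 2 (SpecialLinearGroup (Fin 2) F)) :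
    Nat.card {ψ : IrrCharacter (Subgroup.normalizer
      ((S : Subgroup (SpecialLinearGroup (Fin 2) F)) : Set (SpecialLinearGroup (Fin 2) F))) //
        ¬ 2 ∣ charDegree (ψ : Subgroup.normalizer
          ((S : Subgroup (SpecialLinearGroup (Fin 2) F)) :
            Set (SpecialLinearGroup (Fin 2) F)) → ℂ)} = 4 := by
  classical
  have hq3 : 3 ≤ Fintype.card F := by
    have hq : 2 ≤ Fintype.card F := Fintype.one_lt_card
    rcases hodd with ⟨k, hk⟩; omega
  obtain ⟨hcent, -, hN⟩ := Cfsg.Agent.S2431.result hodd S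
  have hN := hN hq
  obtain ⟨k, hk, ⟨e⟩⟩ := Cfsg.Agent.S0261.result hodd S
  have hcard := Cfsg.Agent.S2431.card_sylow hodd S
  rw [(Cfsg.Agent.S2431.val2_mod8 _ hq3).2 hq] at hcard
  have hcard' := hcard
  have : NeZero (2 ^ k) := ⟨by positivity⟩
  rw [Nat.card_congr e.toEquiv, Nat.card_eq_fintype_card, QuaternionGroup.card] at hcard'
  have hk1 : k = 1 := by
    have h1 : 4 * 2 ^ k = 2 ^ (k + 2) := by rw [pow_add]; ring
    rw [h1] at hcard'
    have := Nat.pow_right_injective (le_refl 2) hcard'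
    omega
  subst hk1
  have e2 : (S : Subgroup (SpecialLinearGroup (Fin 2) F)) ≃* QuaternionGroup 2 := e
  have hNcard : Nat.card (Subgroup.normalizer
      ((S : Subgroup (SpecialLinearGroup (Fin 2) F)) : Set (SpecialLinearGroup (Fin 2) F))) =
      24 := by
    rw [hN, hcard]
    norm_num
  -- an element of order three in the normalizer
  obtain ⟨c', hc'⟩ := exists_prime_orderOf_dvd_card' (G := Subgroup.normalizer
    ((S : Subgroup (SpecialLinearGroup (Fin 2) F)) : Set (SpecialLinearGroup (Fin 2) F))) 3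
    (by rw [hNcard]; norm_num)
  set c : SpecialLinearGroup (Fin 2) F := (c' : SpecialLinearGroup (Fin 2) F) with hc
  have hcord : orderOf c = 3 := by rw [hc, Subgroup.orderOf_coe]; exact hc'
  have hc3 : c ^ 3 = 1 := by rw [← hcord]; exact pow_orderOf_eq_one c
  have hcN : c ∈ Subgroup.normalizer
      ((S : Subgroup (SpecialLinearGroup (Fin 2) F)) : Set (SpecialLinearGroup (Fin 2) F)) := c'.2
  have hne : ∃ x ∈ (S : Subgroup (SpecialLinearGroup (Fin 2) F)), c * x * c⁻¹ ≠ x := by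
    by_contra hall
    push Not at hall
    have hcc : c ∈ Subgroup.centralizer
        ((S : Subgroup (SpecialLinearGroup (Fin 2) F)) : Set (SpecialLinearGroup (Fin 2) F)) := by
      rw [Subgroup.mem_centralizer_iff]
      intro x hx
      have := hall x hx
      rw [mul_inv_eq_iff_eq_mul] at this
      exact this.symm
    rw [hcent] at hcc
    have h2 := Cfsg.Agent.S2431.center_mul_self c hcc
    have h3 : orderOf c ∣ 2 := orderOf_dvd_of_pow_eq_one (by rw [pow_two, h2])
    rw [hcord] at h3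
    omega
  obtain ⟨φ⟩ := Cfsg.Agent.Lib.Helper41_Q8Act.nonempty_mulEquiv_SL23_of_act
    (S : Subgroup (SpecialLinearGroup (Fin 2) F)) e2 c hcN hc3 hne
  have hle : (S : Subgroup (SpecialLinearGroup (Fin 2) F)) ⊔ Subgroup.zpowers c ≤
      Subgroup.normalizer
        ((S : Subgroup (SpecialLinearGroup (Fin 2) F)) : Set (SpecialLinearGroup (Fin 2) F)) := by
    apply sup_le Subgroup.le_normalizer
    rw [Subgroup.zpowers_le]
    exact hcN
  have heq : (S : Subgroup (SpecialLinearGroup (Fin 2) F)) ⊔ Subgroup.zpowers c =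
      Subgroup.normalizer
        ((S : Subgroup (SpecialLinearGroup (Fin 2) F)) : Set (SpecialLinearGroup (Fin 2) F)) := by
    apply Subgroup.eq_of_le_of_card_ge hle
    rw [hNcard, Nat.card_congr φ.toEquiv, Cfsg.Agent.Lib.Helper2_SL23.card_SL23]
  have : Fintype (SpecialLinearGroup (Fin 2) (ZMod 3)) := Fintype.ofFinite _
  rw [card_pprime_congr ((MulEquiv.subgroupCongr heq.symm).trans φ) 2]
  exact Cfsg.Agent.Lib.Helper39_SL2McKayL.lhs_two_three (F := ZMod 3) (ZMod.card 3)

end Cfsg.Agent.Lib.Helper39_SL2McKayR
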