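import Mathlib
import Cfsg.Agent.Lib.Helper39_McKayTools
import Cfsg.Agent.Lib.Helper39_SL2Borel
import Cfsg.Agent.Lib.Helper41_SylowTorus
import Cfsg.Agent.S2437
import Cfsg.Agent.S2301

/-!
# Sylow subgroups of `SL₂(F)` in the defining characteristic and their normalizers (helper39)
-/

set_option autoImplicit false
set_option linter.unusedSectionVars false

namespace Cfsg.Agent.Lib.Helper39_SL2Sylp

open Matrix Cfsg
open Cfsg.Agent.Lib.Helper39_SL2Borel Cfsg.Agent.Lib.Helper39_McKayTools

variable {F : Type*} [Field F]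

/-- The upper unitriangular subgroup of `SL₂(F)`. -/
noncomputable def UU (F : Type*) [Field F] : Subgroup (SpecialLinearGroup (Fin 2) F) :=
  (U1 F).map (B1 F).subtype

theorem mem_UU_iff (g : SpecialLinearGroup (Fin 2) F) :
    g ∈ UU F ↔ (g : Matrix (Fin 2) (Fin 2) F) 1 0 = 0 ∧ (g : Matrix (Fin 2) (Fin 2) F) 0 0 = 1 := by
  constructor
  · rintro ⟨b, hb, rfl⟩
    exact ⟨B1_10 b, (mem_U1_iff b).1 hb⟩
  · rintro ⟨h10, h00⟩
    exact ⟨⟨g, (mem_B1_iff g).2 h10⟩, (mem_U1_iff _).2 h00, rfl⟩

theorem card_UU [Fintype F] : Nat.card (UU F) = Fintype.card F := by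
  rw [UU, Subgroup.card_map_of_injective (Subgroup.subtype_injective _),
    ← Nat.card_congr U1Equiv, Nat.card_eq_fintype_card]

theorem u_mem_UU : ((u1 (1 : F) : B1 F) : SpecialLinearGroup (Fin 2) F) ∈ UU F :=
  ⟨u1 1, u1_mem_U1 1, rfl⟩

theorem UU_le_B1 : UU F ≤ B1 F := by
  rintro _ ⟨b, -, rfl⟩
  exact b.2

/-- The lower left entry of a conjugate of the standard transvection. -/
theorem conj_entry (g u : SpecialLinearGroup (Fin 2) F)
    (hu : (u : Matrix (Fin 2) (Fin 2) F) = !![1, 1; 0, 1]) :
    ((g * u * g⁻¹ : SpecialLinearGroup (Fin 2) F) : Matrix (Fin 2) (Fin 2) F) 1 0 =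
      -((g : Matrix (Fin 2) (Fin 2) F) 1 0 * (g : Matrix (Fin 2) (Fin 2) F) 1 0) := by
  rw [Matrix.SpecialLinearGroup.coe_mul, Matrix.SpecialLinearGroup.coe_mul,
    Matrix.SpecialLinearGroup.coe_inv, hu, Matrix.adjugate_fin_two]
  simp only [Matrix.mul_apply, Fin.sum_univ_two, Matrix.of_apply, Matrix.cons_val',
    Matrix.cons_val_zero, Matrix.cons_val_one, Matrix.cons_val_fin_one]
  ring

/-- The normalizer of the unitriangular subgroup is the Borel subgroup. -/
theorem normalizer_UU [Finite F] :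
    Subgroup.normalizer ((UU F : Subgroup (SpecialLinearGroup (Fin 2) F)) :
      Set (SpecialLinearGroup (Fin 2) F)) = B1 F := by
  have : Fintype F := Fintype.ofFinite F
  have : Finite (SpecialLinearGroup (Fin 2) F) := by
    have : DecidableEq F := Classical.decEq F
    infer_instance
  apply le_antisymm
  · intro g hg
    have h := ((Subgroup.mem_normalizer_iff.1 hg _).1 u_mem_UU)
    rw [mem_UU_iff] at h
    rw [mem_B1_iff]
    have h10 := h.1
    rw [conj_entry g _ (u1_val (1 : F))] at h10
    exact mul_self_eq_zero.1 (neg_eq_zero.1 h10)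
  · intro b hb
    apply Subgroup.mem_normalizer_fintype
    rintro _ ⟨u, hu, rfl⟩
    have hn : (U1 F).Normal := inferInstance
    refine ⟨(⟨b, hb⟩ : B1 F) * u * (⟨b, hb⟩ : B1 F)⁻¹, hn.conj_mem u hu (⟨b, hb⟩ : B1 F), ?_⟩
    rw [map_mul, map_mul, map_inv]
    simp only [Subgroup.subtype_apply]

/-- `U1` is commutative. -/
theorem U1_comm (a : B1 F) (ha : a ∈ U1 F) (b : B1 F) (hb : b ∈ U1 F) : a * b = b * a := by
  obtain ⟨x, hx⟩ := U1Equiv.surjective ⟨a, ha⟩
  obtain ⟨y, hy⟩ := U1Equiv.surjective ⟨b, hb⟩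
  have hx' : u1 x = a := congrArg Subtype.val hx
  have hy' : u1 y = b := congrArg Subtype.val hy
  rw [← hx', ← hy', ← u1_add, ← u1_add, add_comm]

theorem index_U1 [Fintype F] : (U1 F).index = Fintype.card F - 1 := by
  classical
  have h := Subgroup.card_mul_index (U1 F)
  rw [card_B1, ← Nat.card_congr U1Equiv, Nat.card_eq_fintype_card] at h
  have hq : 0 < Fintype.card F := Fintype.card_pos
  have : Fintype.card F * (U1 F).index = Fintype.card F * (Fintype.card F - 1) := by
    rw [h]
    ring
  exact Nat.eq_of_mul_eq_mul_left hq this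

/-- The irreducible characters of the Borel subgroup all have degree prime to `p`. -/
theorem card_pprime_B1 [Fintype F] (hodd : Odd (Fintype.card F)) (p : ℕ) (hp : p.Prime)
    (hpq : p ∣ Fintype.card F) :
    Nat.card {ψ : IrrCharacter (B1 F) // ¬ p ∣ charDegree (ψ : B1 F → ℂ)} =
      Fintype.card F + 3 := by
  have : Finite (B1 F) := by
    have : DecidableEq F := Classical.decEq F
    infer_instance
  rw [card_pprime_of_abelian_normal (U1 F) U1_comm p, Cfsg.Agent.S2437.result hodd]
  rw [index_U1]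
  intro h
  have hq : 1 ≤ Fintype.card F := Fintype.card_pos
  have h2 := Nat.dvd_sub hpq h
  have : Fintype.card F - (Fintype.card F - 1) = 1 := by omega
  rw [this] at h2
  exact hp.one_lt.ne' (Nat.dvd_one.mp h2)

/-- The normalizer of a Sylow `p`-subgroup in the defining characteristic is a conjugate of the
Borel subgroup. -/
theorem exists_normalizer_sylow_eq [Fintype F] (p : ℕ) [Fact p.Prime] (hpq : p ∣ Fintype.card F)
    (S : Sylow p (SpecialLinearGroup (Fin 2) F)) :
    ∃ x : SpecialLinearGroup (Fin 2) F,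
      Subgroup.normalizer ((S : Subgroup (SpecialLinearGroup (Fin 2) F)) :
        Set (SpecialLinearGroup (Fin 2) F)) = (B1 F).map (MulAut.conj x).toMonoidHom := by
  classical
  have hp : p.Prime := Fact.out
  have hq0 : Fintype.card F ≠ 0 := Fintype.card_ne_zero
  -- `q` is a power of `p`
  obtain ⟨r, -, n, hr, hn⟩ := FiniteField.card' F
  have hrp : r = p := by
    rw [hn] at hpq
    exact ((Nat.prime_dvd_prime_iff_eq hp hr).1 (hp.dvd_of_dvd_pow hpq)).symm
  subst hrp
  have hcardG := Cfsg.Agent.S2301.card_SL2 (F := F)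
  have hfac : (Nat.card (SpecialLinearGroup (Fin 2) F)).factorization r = n := by
    rw [hcardG]
    have hq1 : 1 < Fintype.card F := Fintype.one_lt_card
    have hne : Fintype.card F ^ 2 - 1 ≠ 0 := by
      have : 1 < Fintype.card F ^ 2 := Nat.one_lt_pow (by norm_num) hq1
      omega
    rw [Nat.factorization_mul hq0 hne, Finsupp.add_apply]
    have h1 : (Fintype.card F).factorization r = n := by
      rw [hn, Nat.Prime.factorization_pow hr]
      simp
    have h2 : (Fintype.card F ^ 2 - 1).factorization r = 0 := by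
      apply Nat.factorization_eq_zero_of_not_dvd
      intro h
      have h3 : r ∣ Fintype.card F ^ 2 := Dvd.dvd.pow hpq (by norm_num)
      have h4 := Nat.dvd_sub h3 h
      have h5 : Fintype.card F ^ 2 - (Fintype.card F ^ 2 - 1) = 1 := by
        have : 1 ≤ Fintype.card F ^ 2 := Nat.one_le_pow _ _ (by omega)
        omega
      rw [h5] at h4
      exact hr.one_lt.ne' (Nat.dvd_one.mp h4)
    rw [h1, h2, add_zero]
  have hUcard : Nat.card (UU F) = r ^ (Nat.card (SpecialLinearGroup (Fin 2) F)).factorization r := by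
    rw [hfac, card_UU, hn]
  obtain ⟨x, hx⟩ := MulAction.exists_smul_eq (SpecialLinearGroup (Fin 2) F)
    (Sylow.ofCard (UU F) hUcard) S
  have hS : (S : Subgroup (SpecialLinearGroup (Fin 2) F)) =
      (UU F).map (MulAut.conj x).toMonoidHom := by
    rw [← hx]
    rfl
  refine ⟨x, ?_⟩
  rw [hS, Cfsg.Agent.Lib.Helper41_SylowTorus.normalizer_map_conj, normalizer_UU]

/-- The number of irreducible characters of degree prime to `p` of the normalizer of a Sylow
`p`-subgroup in the defining characteristic. -/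
theorem rhs_char_p [Fintype F] (hodd : Odd (Fintype.card F)) (p : ℕ) [Fact p.Prime]
    (hpq : p ∣ Fintype.card F) (S : Sylow p (SpecialLinearGroup (Fin 2) F)) :
    Nat.card {ψ : IrrCharacter (Subgroup.normalizer
      ((S : Subgroup (SpecialLinearGroup (Fin 2) F)) : Set (SpecialLinearGroup (Fin 2) F))) //
        ¬ p ∣ charDegree (ψ : Subgroup.normalizer
          ((S : Subgroup (SpecialLinearGroup (Fin 2) F)) :
            Set (SpecialLinearGroup (Fin 2) F)) → ℂ)} = Fintype.card F + 3 := by
  classical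
  have : Finite (SpecialLinearGroup (Fin 2) F) := inferInstance
  obtain ⟨x, hx⟩ := exists_normalizer_sylow_eq p hpq S
  have e1 : ↥(Subgroup.normalizer ((S : Subgroup (SpecialLinearGroup (Fin 2) F)) :
      Set (SpecialLinearGroup (Fin 2) F))) ≃* ↥((B1 F).map (MulAut.conj x).toMonoidHom) :=
    MulEquiv.subgroupCongr hx
  have e2 : ↥(B1 F) ≃* ↥((B1 F).map (MulAut.conj x).toMonoidHom) :=
    (B1 F).equivMapOfInjective _ (MulAut.conj x).injective
  rw [card_pprime_congr (e1.trans e2.symm) p]
  exact card_pprime_B1 hodd p Fact.out hpq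

end Cfsg.Agent.Lib.Helper39_SL2Sylp
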