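import Mathlib
import Cfsg.Prelude.Def_GeometricClasses
import Cfsg.Agent.Lib.Helper39_SU6_Field
import Cfsg.Agent.Lib.Helper39_SU6_HForm

/-!
helper39: a hyperbolic pair for the `L`-valued Hermitian form on `F^6` (`|F| = 4`, `|L| = 64`).
-/

set_option autoImplicit false

namespace Cfsg.Agent.Lib.Helper39_SU6_Hyp

open Cfsg.Agent.Lib.Helper39_SU6_Field Cfsg.Agent.Lib.Helper39_SU6_HForm

variable {F : Type*} [Field F] [Fintype F] {L : Type*} [Field L] [Fintype L] [Algebra F L]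
  [Module L (Fin 6 → F)] [IsScalarTower F L (Fin 6 → F)]

section

variable (hF : Fintype.card F = 2 ^ 2) (hL : Fintype.card L = 64)

include hF hL in
lemma finrank_LV : Module.finrank L (Fin 6 → F) = 2 := by
  have h := Module.finrank_mul_finrank F L (Fin 6 → F)
  rw [finrank_FL hF hL, Module.finrank_fin_fun] at h
  omega

include hL in
lemma pow7_of_fix {k : L} (hk : k ^ 8 = k) (hk0 : k ≠ 0) : k ^ 7 = 1 := by
  have : k * (k ^ 7 - 1) = 0 := by linear_combination hk
  rcases mul_eq_zero.1 this with h | h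
  · exact absurd h hk0
  · exact sub_eq_zero.1 h

omit [Fintype L] in
lemma pow36_of_fix {k : L} (hk : k ^ 8 = k) : (k ^ 4) ^ 9 = k := by
  by_cases hk0 : k = 0
  · subst hk0; simp
  · have h7 : k ^ 7 = 1 := by
      have : k * (k ^ 7 - 1) = 0 := by linear_combination hk
      rcases mul_eq_zero.1 this with h | h
      · exact absurd h hk0
      · exact sub_eq_zero.1 h
    calc (k ^ 4) ^ 9 = (k ^ 7) ^ 5 * k := by ring
      _ = k := by rw [h7, one_pow, one_mul]

variable (hadj : ∀ (a : L) (x y : Fin 6 → F),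
    Cfsg.hermForm 6 F 2 (a • x) y = Cfsg.hermForm 6 F 2 x (a ^ 8 • y))

include hF hL hadj in
/-- expansion of `Hf (x + b y) (x + b y)` -/
lemma Hf_expand (x y : Fin 6 → F) (b : L) :
    Hf (L := L) (x + b • y) (x + b • y) =
      Hf x x + b ^ 8 * Hf x y + b * Hf y x + b ^ 9 * Hf y y := by
  rw [Hf_add_left, Hf_add_right hF, Hf_add_right hF, Hf_smul_left, Hf_smul_left,
    Hf_smul_right hL hadj, Hf_smul_right hL hadj]
  ring

include hF hL hadj in
/-- an isotropic vector -/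
theorem exists_isotropic : ∃ u : Fin 6 → F, u ≠ 0 ∧ Hf (L := L) u u = 0 := by
  have hfr := finrank_LV (L := L) hF hL
  let b := Module.finBasisOfFinrankEq L (Fin 6 → F) hfr
  set x := b 0 with hx
  set w := b 1 with hw
  by_cases hxx : Hf (L := L) x x = 0
  · exact ⟨x, b.ne_zero 0, hxx⟩
  set s := Hf (L := L) x x with hs
  set y := w - (Hf (L := L) w x / s) • x with hy
  have hyx : Hf (L := L) y x = 0 := by
    have : y = w + (Hf (L := L) w x / s) • x := by
      rw [hy, sub_eq_add_neg, ← neg_smul, L_neg hL]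
    rw [this, Hf_add_left, Hf_smul_left, ← hs, div_mul_cancel₀ _ hxx]
    exact L_add_self hL _
  have hxy : Hf (L := L) x y = 0 := by
    rw [Hf_symm hF hL hadj y x, hyx, zero_pow (by norm_num)]
  by_cases hyy : Hf (L := L) y y = 0
  · refine ⟨y, ?_, hyy⟩
    intro h0
    have h1 : b.repr y 1 = 1 := by
      rw [hy, map_sub, map_smul, hw, hx, Module.Basis.repr_self, Module.Basis.repr_self]
      simp
    rw [h0, map_zero] at h1
    simp at h1
  set t := Hf (L := L) y y with ht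
  have hs8 : s ^ 8 = s := Hf_self_fix hF hL hadj x
  have ht8 : t ^ 8 = t := Hf_self_fix hF hL hadj y
  set k := s / t with hk
  have hk8 : k ^ 8 = k := by rw [hk, div_pow, hs8, ht8]
  set β := k ^ 4 with hβ
  refine ⟨x + β • y, ?_, ?_⟩
  · intro h0
    have h1 : Hf (L := L) (x + β • y) x = s := by
      rw [Hf_add_left, Hf_smul_left, hyx, mul_zero, add_zero]
    rw [h0, Hf_zero_left] at h1
    exact hxx h1.symm
  · rw [Hf_expand hF hL hadj, hxy, hyx, mul_zero, mul_zero, add_zero, add_zero, hβ,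
      pow36_of_fix hk8, hk, ← ht, ← hs, div_mul_cancel₀ _ hyy]
    exact L_add_self hL s

include hF hL hadj in
/-- a hyperbolic pair -/
theorem exists_pair : ∃ u₁ u₂ : Fin 6 → F,
    Hf (L := L) u₁ u₁ = 0 ∧ Hf (L := L) u₂ u₂ = 0 ∧ Hf (L := L) u₁ u₂ = 1 := by
  obtain ⟨u₁, hu0, hu⟩ := exists_isotropic (L := L) hF hL hadj
  obtain ⟨w, hw⟩ : ∃ w, Hf (L := L) u₁ w ≠ 0 := by
    by_contra hcon
    push Not at hcon
    exact hu0 (Hf_nondeg hcon)
  set r := Hf (L := L) u₁ w with hr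
  set w' := (r⁻¹) ^ 8 • w with hw'
  have h1 : Hf (L := L) u₁ w' = 1 := by
    rw [hw', Hf_smul_right hL hadj, pow8_pow8 hL, ← hr, inv_mul_cancel₀ hw]
  have h1' : Hf (L := L) w' u₁ = 1 := by
    rw [Hf_symm hF hL hadj u₁ w', h1, one_pow]
  obtain ⟨ω, hω⟩ := exists_omega hF
  set t := Hf (L := L) w' w' with ht
  have ht8 : t ^ 8 = t := Hf_self_fix hF hL hadj w'
  set ωL := algebraMap F L ω with hωL
  have hωL2 : ωL ^ 2 + ωL + 1 = 0 := by
    rw [hωL, ← map_pow, ← map_add, ← map_one (algebraMap F L), ← map_add, hω, map_zero]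
  have hωL8 : ωL ^ 8 = ωL ^ 2 := by
    have h4 : ωL ^ 4 = ωL := algebraMap_pow4 hF ω
    calc ωL ^ 8 = (ωL ^ 4) ^ 2 := by ring
      _ = ωL ^ 2 := by rw [h4]
  set c := ωL * t with hc
  have hc8 : c + c ^ 8 = t := by
    rw [hc, mul_pow, ht8, hωL8]
    have h2 := L_two hL
    linear_combination t * hωL2 - t * h2
  refine ⟨u₁, w' + c • u₁, hu, ?_, ?_⟩
  · have e := Hf_expand hF hL hadj w' u₁ c
    rw [e, h1, h1', hu, mul_zero, add_zero, mul_one, mul_one, ← ht]
    have h2 := L_two hL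
    linear_combination hc8 + t * h2
  · have e2 : Hf (L := L) u₁ (c • u₁) = c ^ 8 * Hf u₁ u₁ := Hf_smul_right hL hadj c u₁ u₁
    rw [Hf_add_right hF, e2, hu, mul_zero, add_zero, h1]

end

end Cfsg.Agent.Lib.Helper39_SU6_Hyp
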