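import Mathlib
import Cfsg.Prelude.Def_GeometricClasses
import Cfsg.Agent.Lib.Helper39_SU6_Field
import Cfsg.Agent.Lib.Helper39_SU6_HForm
import Cfsg.Agent.Lib.Helper39_SU6_Hyp
import Cfsg.Agent.Lib.Helper94_SubfieldBridge

/-!
helper39: the `F_2`-structure `V0 = L0 u₁ + L0 u₂` attached to a hyperbolic pair of the `L`-valued Hermitian
form on `F^6` (`|F| = 4`, `|L| = 64`, `L0 = {a | a ^ 8 = a}`), and a matrix `P` whose columns form an
`F`-basis of `F^6` contained in `V0`.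
-/

set_option autoImplicit false

namespace Cfsg.Agent.Lib.Helper39_SU6_Rat

open Matrix Cfsg.Agent.Lib.Helper39_SU6_Field Cfsg.Agent.Lib.Helper39_SU6_HForm
  Cfsg.Agent.Lib.Helper39_SU6_Hyp Cfsg.Agent.Lib.Helper94_SubfieldBridge

section prime

variable {F : Type*} [Field F]

/-- the subfield `{0, 1}` of a field of characteristic two -/
def primeSub (h2 : (2 : F) = 0) : Subfield F where
  carrier := {a | a * a = a}
  mul_mem' {a b} ha hb := by
    simp only [Set.mem_ofPred_eq] at ha hb ⊢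
    calc a * b * (a * b) = (a * a) * (b * b) := by ring
      _ = a * b := by rw [ha, hb]
  one_mem' := by simp
  add_mem' {a b} ha hb := by
    simp only [Set.mem_ofPred_eq] at ha hb ⊢
    calc (a + b) * (a + b) = a * a + b * b + 2 * (a * b) := by ring
      _ = a + b := by rw [ha, hb, h2, zero_mul, add_zero]
  zero_mem' := by simp
  neg_mem' {a} ha := by
    simp only [Set.mem_ofPred_eq] at ha ⊢
    calc -a * -a = a * a := by ring
      _ = a := ha
      _ = -a + 2 * a := by ring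
      _ = -a := by rw [h2, zero_mul, add_zero]
  inv_mem' a ha := by
    simp only [Set.mem_ofPred_eq] at ha ⊢
    rw [← mul_inv, ha]

lemma mem_primeSub (h2 : (2 : F) = 0) (a : F) : a ∈ primeSub h2 ↔ a * a = a := Iff.rfl

lemma mem_primeSub' (h2 : (2 : F) = 0) (a : F) : a ∈ primeSub h2 ↔ a = 0 ∨ a = 1 := by
  change a * a = a ↔ _
  constructor
  · intro h
    have : a * (a - 1) = 0 := by linear_combination h
    rcases mul_eq_zero.mp this with h | h
    · exact Or.inl h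
    · exact Or.inr (sub_eq_zero.mp h)
  · rintro (rfl | rfl) <;> simp

lemma card_primeSub (h2 : (2 : F) = 0) : Nat.card (primeSub h2) = 2 := by
  have : ((primeSub h2 : Subfield F) : Set F) = {0, 1} := by
    ext a
    rw [SetLike.mem_coe, mem_primeSub']
    simp
  rw [← SetLike.coe_sort_coe, _root_.Nat.card_coe_set_eq, this]
  exact Set.ncard_pair zero_ne_one

end prime

variable {F : Type*} [Field F] [Fintype F] {L : Type*} [Field L] [Fintype L] [Algebra F L]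
  [Module L (Fin 6 → F)] [IsScalarTower F L (Fin 6 → F)]

section

variable (hF : Fintype.card F = 2 ^ 2) (hL : Fintype.card L = 64)
  (hadj : ∀ (a : L) (x y : Fin 6 → F),
    Cfsg.hermForm 6 F 2 (a • x) y = Cfsg.hermForm 6 F 2 x (a ^ 8 • y))
  {u₁ u₂ : Fin 6 → F} (h11 : Hf (L := L) u₁ u₁ = 0) (h22 : Hf (L := L) u₂ u₂ = 0)
  (h12 : Hf (L := L) u₁ u₂ = 1)

include hF hL hadj h12 in
lemma h21 : Hf (L := L) u₂ u₁ = 1 := by
  rw [Hf_symm hF hL hadj u₁ u₂, h12, one_pow]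

include hF hL hadj h11 h22 h12 in
/-- the form in coordinates -/
lemma Hf_coords (s t s' t' : L) :
    Hf (L := L) (s • u₁ + t • u₂) (s' • u₁ + t' • u₂) = s * t' ^ 8 + t * s' ^ 8 := by
  rw [Hf_add_left, Hf_add_right hF, Hf_add_right hF, Hf_smul_left, Hf_smul_left, Hf_smul_left,
    Hf_smul_left, Hf_smul_right hL hadj, Hf_smul_right hL hadj, Hf_smul_right hL hadj,
    Hf_smul_right hL hadj, h11, h22, h12, h21 hF hL hadj h12]
  ring

include hF hL hadj h11 h22 h12 in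
lemma coord_fst (s t : L) : Hf (L := L) (s • u₁ + t • u₂) u₂ = s := by
  have := Hf_coords hF hL hadj h11 h22 h12 s t 0 1
  rw [zero_smul, one_smul, zero_add, one_pow, zero_pow (by norm_num), mul_one, mul_zero,
    add_zero] at this
  exact this

include hF hL hadj h11 h22 h12 in
lemma coord_snd (s t : L) : Hf (L := L) (s • u₁ + t • u₂) u₁ = t := by
  have := Hf_coords hF hL hadj h11 h22 h12 s t 1 0
  rw [zero_smul, one_smul, add_zero, one_pow, zero_pow (by norm_num), mul_one, mul_zero,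
    zero_add] at this
  exact this

include hF hL hadj h11 h22 h12 in
/-- `u₁, u₂` span `F^6` over `L` -/
theorem exists_coords (x : Fin 6 → F) : ∃ s t : L, x = s • u₁ + t • u₂ := by
  have hli : LinearIndependent L ![u₁, u₂] := by
    rw [LinearIndependent.pair_iff]
    intro s t hst
    have e1 := coord_fst hF hL hadj h11 h22 h12 s t
    have e2 := coord_snd hF hL hadj h11 h22 h12 s t
    rw [hst, Hf_zero_left] at e1 e2
    exact ⟨e1.symm, e2.symm⟩
  have hfr := finrank_LV (L := L) hF hL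
  have : Module.Finite L (Fin 6 → F) := Module.finite_of_finrank_pos (by rw [hfr]; norm_num)
  have hspan := hli.span_eq_top_of_card_eq_finrank' (by rw [hfr]; simp)
  have hx : x ∈ Submodule.span L (Set.range ![u₁, u₂]) := by rw [hspan]; trivial
  obtain ⟨c, hc⟩ := (Submodule.mem_span_range_iff_exists_fun L).1 hx
  rw [Fin.sum_univ_two] at hc
  exact ⟨c 0, c 1, hc.symm⟩

/-- the `F_2`-structure -/
def V0 (L : Type*) [Field L] [Module L (Fin 6 → F)] (u₁ u₂ : Fin 6 → F) : Set (Fin 6 → F) :=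
  {x | ∃ s t : L, s ^ 8 = s ∧ t ^ 8 = t ∧ x = s • u₁ + t • u₂}

omit [Fintype F] [Fintype L] [Algebra F L] [IsScalarTower F L (Fin 6 → F)] in
lemma zero_mem_V0 : (0 : Fin 6 → F) ∈ V0 L u₁ u₂ :=
  ⟨0, 0, by norm_num, by norm_num, by simp⟩

omit [Fintype F] [Algebra F L] [IsScalarTower F L (Fin 6 → F)] in
include hL in
lemma add_mem_V0 {x y : Fin 6 → F} (hx : x ∈ V0 L u₁ u₂) (hy : y ∈ V0 L u₁ u₂) :
    x + y ∈ V0 L u₁ u₂ := by
  obtain ⟨s, t, hs, ht, rfl⟩ := hx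
  obtain ⟨s', t', hs', ht', rfl⟩ := hy
  refine ⟨s + s', t + t', ?_, ?_, ?_⟩
  · rw [add_pow8 hL, hs, hs']
  · rw [add_pow8 hL, ht, ht']
  · rw [add_smul, add_smul]; abel

omit [Fintype F] [Algebra F L] [IsScalarTower F L (Fin 6 → F)] in
include hL in
lemma sum_mem_V0 {ι : Type*} (S : Finset ι) (f : ι → Fin 6 → F) (hf : ∀ i ∈ S, f i ∈ V0 L u₁ u₂) :
    ∑ i ∈ S, f i ∈ V0 L u₁ u₂ := by
  classical
  induction S using Finset.induction_on with
  | empty => simpa using zero_mem_V0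
  | insert a S ha ih =>
    rw [Finset.sum_insert ha]
    exact add_mem_V0 hL (hf a (Finset.mem_insert_self a S))
      (ih fun i hi => hf i (Finset.mem_insert_of_mem hi))

include hF hL hadj h11 h22 h12 in
/-- the Hermitian form is `F_2`-valued on `V0` -/
theorem herm_V0 {x y : Fin 6 → F} (hx : x ∈ V0 L u₁ u₂) (hy : y ∈ V0 L u₁ u₂) :
    Cfsg.hermForm 6 F 2 x y * Cfsg.hermForm 6 F 2 x y = Cfsg.hermForm 6 F 2 x y := by
  obtain ⟨s, t, hs, ht, rfl⟩ := hx
  obtain ⟨s', t', hs', ht', rfl⟩ := hy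
  apply (algebraMap F L).injective
  rw [map_mul, ← Hf_trace (L := L), algebraMap_trace hF hL, Hf_coords hF hL hadj h11 h22 h12,
    hs', ht']
  set τ := s * t' + t * s' with hτ
  have hτ8 : τ ^ 8 = τ := by
    rw [hτ, add_pow8 hL, mul_pow, mul_pow, hs, ht, hs', ht']
  have h16 : τ ^ 16 = τ ^ 2 := by
    calc τ ^ 16 = (τ ^ 8) ^ 2 := by ring
      _ = τ ^ 2 := by rw [hτ8]
  have h32 : τ ^ 32 = τ ^ 4 := by
    calc τ ^ 32 = (τ ^ 8) ^ 4 := by ring
      _ = τ ^ 4 := by rw [hτ8]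
  have h2 := L_two hL
  rw [h16]
  have : (τ + τ ^ 4 + τ ^ 2) * (τ + τ ^ 4 + τ ^ 2) = τ ^ 2 + τ ^ 8 + τ ^ 4 := by
    linear_combination (τ ^ 5 + τ ^ 3 + τ ^ 6) * h2
  rw [this, hτ8]
  ring

include hF hL hadj h11 h22 h12 in
/-- vectors of `V0` are isotropic -/
theorem herm_V0_self {x : Fin 6 → F} (hx : x ∈ V0 L u₁ u₂) : Cfsg.hermForm 6 F 2 x x = 0 := by
  obtain ⟨s, t, hs, ht, rfl⟩ := hx
  apply (algebraMap F L).injective
  rw [← Hf_trace (L := L), Hf_coords hF hL hadj h11 h22 h12, hs, ht]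
  have : s * t + t * s = 0 := by
    have h2 := L_two hL
    linear_combination s * t * h2
  rw [this, map_zero]

include hF hL in
/-- `L = L0 + ω L0` -/
lemma L_decomp {ω : F} (hω : ω ^ 2 + ω + 1 = 0) (a : L) :
    ∃ x y : L, x ^ 8 = x ∧ y ^ 8 = y ∧ a = x + algebraMap F L ω * y := by
  set w := algebraMap F L ω with hw
  have hw2 : w ^ 2 + w + 1 = 0 := by
    rw [hw, ← map_pow, ← map_add, ← map_one (algebraMap F L), ← map_add, hω, map_zero]
  have hw4 : w ^ 4 = w := algebraMap_pow4 hF ω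
  have hw8 : w ^ 8 = w ^ 2 := by
    calc w ^ 8 = (w ^ 4) ^ 2 := by ring
      _ = w ^ 2 := by rw [hw4]
  have hw16 : w ^ 16 = w := by
    calc w ^ 16 = (w ^ 4) ^ 4 := by ring
      _ = w := by rw [hw4, hw4]
  have h2 := L_two hL
  have ha := L_pow hL a
  refine ⟨w ^ 2 * a + w * a ^ 8, a + a ^ 8, ?_, ?_, ?_⟩
  · rw [add_pow8 hL, mul_pow, mul_pow, ← pow_mul, ← pow_mul]
    norm_num
    rw [hw16, hw8, ha]
    ring
  · rw [add_pow8 hL, ← pow_mul]
    norm_num
    rw [ha]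
    ring
  · linear_combination (-a) * hw2 + (a - w * a ^ 8) * h2

include hF hL hadj h11 h22 h12 in
/-- `F^6 = V0 + ω V0` -/
theorem V0_span {ω : F} (hω : ω ^ 2 + ω + 1 = 0) (v : Fin 6 → F) :
    ∃ p ∈ V0 L u₁ u₂, ∃ q ∈ V0 L u₁ u₂, v = p + ω • q := by
  obtain ⟨s, t, rfl⟩ := exists_coords hF hL hadj h11 h22 h12 v
  obtain ⟨s0, s1, hs0, hs1, rfl⟩ := L_decomp hF hL hω s
  obtain ⟨t0, t1, ht0, ht1, rfl⟩ := L_decomp hF hL hω t
  refine ⟨s0 • u₁ + t0 • u₂, ⟨s0, t0, hs0, ht0, rfl⟩, s1 • u₁ + t1 • u₂, ⟨s1, t1, hs1, ht1, rfl⟩, ?_⟩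
  rw [add_smul, add_smul, smul_add, ← Algebra.smul_def, ← Algebra.smul_def, smul_assoc, smul_assoc]
  abel

include hF hL hadj h11 h22 h12 in
/-- `V0 ∩ ω V0 = 0` -/
theorem V0_inter {ω : F} (hω : ω ^ 2 + ω + 1 = 0) {x : Fin 6 → F} (hx : x ∈ V0 L u₁ u₂)
    (hωx : ω • x ∈ V0 L u₁ u₂) : x = 0 := by
  obtain ⟨s, t, hs, ht, rfl⟩ := hx
  obtain ⟨s', t', hs', ht', he⟩ := hωx
  set w := algebraMap F L ω with hw
  have hw2 : w ^ 2 + w + 1 = 0 := by
    rw [hw, ← map_pow, ← map_add, ← map_one (algebraMap F L), ← map_add, hω, map_zero]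
  have hw4 : w ^ 4 = w := algebraMap_pow4 hF ω
  have hw8 : w ^ 8 = w ^ 2 := by
    calc w ^ 8 = (w ^ 4) ^ 2 := by ring
      _ = w ^ 2 := by rw [hw4]
  have e0 : ω • (s • u₁ + t • u₂) = (w * s) • u₁ + (w * t) • u₂ := by
    rw [smul_add, ← smul_assoc, ← smul_assoc, Algebra.smul_def, Algebra.smul_def]
  rw [e0] at he
  have e1 := coord_fst hF hL hadj h11 h22 h12 (w * s) (w * t)
  have e2 := coord_snd hF hL hadj h11 h22 h12 (w * s) (w * t)
  rw [he, coord_fst hF hL hadj h11 h22 h12] at e1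
  rw [he, coord_snd hF hL hadj h11 h22 h12] at e2
  -- `w s` and `w t` are fixed
  have hkey : ∀ r : L, r ^ 8 = r → (w * r) ^ 8 = w * r → r = 0 := by
    intro r hr hwr
    rw [mul_pow, hr, hw8] at hwr
    have h1 : (w ^ 2 + w) * r = 0 := by
      have h2 := L_two hL
      linear_combination hwr + w * r * h2
    have h3 : w ^ 2 + w = -1 := by linear_combination hw2
    rw [h3] at h1
    linear_combination -h1
  have hs0 : s = 0 := hkey s hs (by rw [← e1]; exact hs')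
  have ht0 : t = 0 := hkey t ht (by rw [← e2]; exact ht')
  rw [hs0, ht0, zero_smul, zero_smul, add_zero]

include hF in
/-- `F = F_2 + ω F_2` -/
lemma F_decomp {ω : F} (hω : ω ^ 2 + ω + 1 = 0) (f : F) :
    ∃ a b : F, a * a = a ∧ b * b = b ∧ f = a + ω * b := by
  have h2 := F_two hF
  have h4 := F_pow_four hF f
  refine ⟨f + ω * (f + f ^ 2), f + f ^ 2, ?_, ?_, ?_⟩
  · linear_combination (f + f ^ 2) * hω + ω ^ 2 * h4 +
      (-f + f * ω * (f + f ^ 2) - ω * (f + f ^ 2) + ω ^ 2 * f ^ 3) * h2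
  · linear_combination h4 + f ^ 3 * h2
  · linear_combination (- ω * (f + f ^ 2)) * h2

include hF hL hadj h11 h22 h12 in
/-- a matrix whose columns form a basis of `F^6` contained in `V0` -/
theorem exists_P : ∃ P : GL (Fin 6) F,
    ∀ j, (P : Matrix (Fin 6) (Fin 6) F) *ᵥ (Pi.single j 1) ∈ V0 L u₁ u₂ := by
  classical
  obtain ⟨ω, hω⟩ := exists_omega hF
  have hspan : Submodule.span F (V0 L u₁ u₂) = ⊤ := by
    rw [eq_top_iff]
    intro v _
    obtain ⟨p, hp, q, hq, rfl⟩ := V0_span hF hL hadj h11 h22 h12 hω v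
    exact Submodule.add_mem _ (Submodule.subset_span hp)
      (Submodule.smul_mem _ _ (Submodule.subset_span hq))
  obtain ⟨b, hb, hbspan, hli⟩ := exists_linearIndependent F (V0 L u₁ u₂)
  rw [hspan] at hbspan
  have hsp : ⊤ ≤ Submodule.span F (Set.range ((↑) : b → Fin 6 → F)) := by
    rw [Subtype.range_coe, hbspan]
  let B := Module.Basis.mk hli hsp
  have : Fintype b := Fintype.ofFinite b
  have hcard : Fintype.card b = 6 := by
    have := Module.finrank_eq_card_basis B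
    rw [Module.finrank_fin_fun] at this
    exact this.symm
  let e : b ≃ Fin 6 := Fintype.equivFinOfCardEq hcard
  let B' := B.reindex e
  have hB' : ∀ j, B' j ∈ V0 L u₁ u₂ := by
    intro j
    have : B' j = ((e.symm j : b) : Fin 6 → F) := by
      rw [Module.Basis.reindex_apply, Module.Basis.mk_apply]
    rw [this]
    exact hb (e.symm j).2
  let S := Pi.basisFun F (Fin 6)
  refine ⟨⟨S.toMatrix B', B'.toMatrix S, Module.Basis.toMatrix_mul_toMatrix_flip S B',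
    Module.Basis.toMatrix_mul_toMatrix_flip B' S⟩, fun j => ?_⟩
  have : (S.toMatrix B') *ᵥ (Pi.single j 1) = B' j := by
    funext i
    rw [Matrix.mulVec_single_one]
    simp [Module.Basis.toMatrix_apply, S]
  show (S.toMatrix B') *ᵥ (Pi.single j 1) ∈ V0 L u₁ u₂
  rw [this]
  exact hB' j

omit [Fintype F] [Fintype L] [Algebra F L] [Module L (Fin 6 → F)] [IsScalarTower F L (Fin 6 → F)] in
lemma mulVec_eq_sum_single (P : Matrix (Fin 6) (Fin 6) F) (u : Fin 6 → F) :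
    P *ᵥ u = ∑ j, u j • (P *ᵥ (Pi.single j 1)) := by
  funext i
  rw [Finset.sum_apply]
  simp only [Matrix.mulVec_single_one, Pi.smul_apply, smul_eq_mul, Matrix.col_apply]
  rw [Matrix.mulVec, dotProduct]
  apply Finset.sum_congr rfl
  intro j _
  ring

include hF hL in
/-- rational combinations of the columns lie in `V0` -/
lemma P_rat_mem {P : GL (Fin 6) F}
    (hP : ∀ j, (P : Matrix (Fin 6) (Fin 6) F) *ᵥ (Pi.single j 1) ∈ V0 L u₁ u₂)
    {u : Fin 6 → F} (hu : ∀ i, u i ∈ primeSub (F_two hF)) :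
    (P : Matrix (Fin 6) (Fin 6) F) *ᵥ u ∈ V0 L u₁ u₂ := by
  rw [mulVec_eq_sum_single]
  apply sum_mem_V0 hL
  intro j _
  rcases (mem_primeSub' (F_two hF) (u j)).1 (hu j) with h | h
  · rw [h, zero_smul]; exact zero_mem_V0
  · rw [h, one_smul]; exact hP j

include hF hL hadj h11 h22 h12 in
/-- `V0` is exactly the set of rational combinations of the columns -/
theorem V0_eq_ratV {P : GL (Fin 6) F}
    (hP : ∀ j, (P : Matrix (Fin 6) (Fin 6) F) *ᵥ (Pi.single j 1) ∈ V0 L u₁ u₂)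
    (x : Fin 6 → F) :
    x ∈ V0 L u₁ u₂ ↔ x ∈ ratV (primeSub (F_two hF)) (P : Matrix (Fin 6) (Fin 6) F) := by
  constructor
  · intro hx
    obtain ⟨ω, hω⟩ := exists_omega hF
    have hPP' : (P : Matrix (Fin 6) (Fin 6) F) * ((P⁻¹ : GL (Fin 6) F) : Matrix (Fin 6) (Fin 6) F) = 1 := by
      rw [← Units.val_mul, mul_inv_cancel, Units.val_one]
    set c := ((P⁻¹ : GL (Fin 6) F) : Matrix (Fin 6) (Fin 6) F) *ᵥ x with hc
    have hxc : x = (P : Matrix (Fin 6) (Fin 6) F) *ᵥ c := by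
      rw [hc, Matrix.mulVec_mulVec, hPP', Matrix.one_mulVec]
    choose a b ha hb hab using fun j => F_decomp hF hω (c j)
    have hc' : c = a + ω • b := by
      funext j
      rw [Pi.add_apply, Pi.smul_apply, smul_eq_mul]
      exact hab j
    have hxa : x = (P : Matrix (Fin 6) (Fin 6) F) *ᵥ a + ω • ((P : Matrix (Fin 6) (Fin 6) F) *ᵥ b) := by
      rw [hxc, hc', Matrix.mulVec_add, Matrix.mulVec_smul]
    have hPa : (P : Matrix (Fin 6) (Fin 6) F) *ᵥ a ∈ V0 L u₁ u₂ := P_rat_mem hF hL hP ha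
    have hPb : (P : Matrix (Fin 6) (Fin 6) F) *ᵥ b ∈ V0 L u₁ u₂ := P_rat_mem hF hL hP hb
    have h2 := F_two hF
    have hωb : ω • ((P : Matrix (Fin 6) (Fin 6) F) *ᵥ b) ∈ V0 L u₁ u₂ := by
      have : ω • ((P : Matrix (Fin 6) (Fin 6) F) *ᵥ b) = x + (P : Matrix (Fin 6) (Fin 6) F) *ᵥ a := by
        rw [hxa]
        have h0 : (P : Matrix (Fin 6) (Fin 6) F) *ᵥ a + (P : Matrix (Fin 6) (Fin 6) F) *ᵥ a = 0 := by
          rw [← two_smul F, h2, zero_smul]
        calc ω • ((P : Matrix (Fin 6) (Fin 6) F) *ᵥ b)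
            = ω • ((P : Matrix (Fin 6) (Fin 6) F) *ᵥ b) +
              ((P : Matrix (Fin 6) (Fin 6) F) *ᵥ a + (P : Matrix (Fin 6) (Fin 6) F) *ᵥ a) := by
              rw [h0, add_zero]
          _ = _ := by abel
      rw [this]
      exact add_mem_V0 hL hx hPa
    have hb0 := V0_inter hF hL hadj h11 h22 h12 hω hPb hωb
    rw [hb0, smul_zero, add_zero] at hxa
    exact ⟨a, ha, hxa⟩
  · rintro ⟨u, hu, rfl⟩
    exact P_rat_mem hF hL hP hu

include hF hL hadj h11 h22 h12 in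
/-- the rational structure: the Hermitian form is `F_2`-valued -/
theorem rat_structure {P : GL (Fin 6) F}
    (hP : ∀ j, (P : Matrix (Fin 6) (Fin 6) F) *ᵥ (Pi.single j 1) ∈ V0 L u₁ u₂) :
    Cfsg.Geo.IsFormRationalStructure (Cfsg.hermForm 6 F 2) (primeSub (F_two hF)) 1 P := by
  intro u v hu hv
  rw [one_mul, mem_primeSub]
  exact herm_V0 hF hL hadj h11 h22 h12 (P_rat_mem hF hL hP hu) (P_rat_mem hF hL hP hv)

include hF hL hadj h11 h22 h12 in
theorem rat_isotropic {P : GL (Fin 6) F}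
    (hP : ∀ j, (P : Matrix (Fin 6) (Fin 6) F) *ᵥ (Pi.single j 1) ∈ V0 L u₁ u₂)
    (u : Fin 6 → F) (hu : ∀ i, u i ∈ primeSub (F_two hF)) :
    Cfsg.hermForm 6 F 2 ((P : Matrix (Fin 6) (Fin 6) F) *ᵥ u)
      ((P : Matrix (Fin 6) (Fin 6) F) *ᵥ u) = 0 :=
  herm_V0_self hF hL hadj h11 h22 h12 (P_rat_mem hF hL hP hu)

include hF hL hadj h11 h22 h12 in
/-- membership in the subfield group from the action on `V0` -/
theorem mem_subfieldSubgroup_of {P : GL (Fin 6) F}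
    (hP : ∀ j, (P : Matrix (Fin 6) (Fin 6) F) *ᵥ (Pi.single j 1) ∈ V0 L u₁ u₂)
    (g : GL (Fin 6) F)
    (hg : ∃ c : F, c ≠ 0 ∧ ∀ s t : L, s ^ 8 = s → t ^ 8 = t → ∃ s' t' : L, s' ^ 8 = s' ∧ t' ^ 8 = t' ∧
      (g : Matrix (Fin 6) (Fin 6) F) *ᵥ (s • u₁ + t • u₂) = c • (s' • u₁ + t' • u₂)) :
    g ∈ Cfsg.Geo.subfieldSubgroup (primeSub (F_two hF)) P := by
  obtain ⟨c, hc0, hc⟩ := hg
  rw [mem_subfieldSubgroup_iff]
  refine ⟨c, hc0, fun v hv => ?_⟩
  obtain ⟨s, t, hs, ht, rfl⟩ := (V0_eq_ratV hF hL hadj h11 h22 h12 hP v).2 hv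
  obtain ⟨s', t', hs', ht', he⟩ := hc s t hs ht
  exact ⟨s' • u₁ + t' • u₂,
    (V0_eq_ratV hF hL hadj h11 h22 h12 hP _).1 ⟨s', t', hs', ht', rfl⟩, he⟩

end

end Cfsg.Agent.Lib.Helper39_SU6_Rat
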