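import Mathlib
import Cfsg.Prelude.Def_GeometricClasses
import Cfsg.Prelude.Def_LieClassical
import Cfsg.Agent.Lib.Helper39_SU6_Field
import Cfsg.Agent.Lib.Helper39_SU6_HForm
import Cfsg.Agent.Lib.Helper39_SU6_Hyp
import Cfsg.Agent.Lib.Helper39_SU6_Rat

/-!
helper39: from an adjoint-closed field subalgebra `K` of degree 3 of `M_6(F)`, `|F| = 4`, to the abstract
setting (`L := K` acting on `F^6`, adjoint `a ↦ a ^ 8`).
-/

set_option autoImplicit false

namespace Cfsg.Agent.Lib.Helper39_SU6_Bridge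

open Matrix Cfsg.Geo Cfsg.Agent.Lib.Helper39_SU6_Field Cfsg.Agent.Lib.Helper39_SU6_HForm
  Cfsg.Agent.Lib.Helper39_SU6_Hyp Cfsg.Agent.Lib.Helper39_SU6_Rat

variable {F : Type*} [Field F] [Fintype F]

omit [Fintype F] in
/-- `K` is a field -/
theorem isField (K : Subalgebra F (Matrix (Fin 6) (Fin 6) F)) {r : ℕ}
    (hK : IsFieldSubalgebra r K) : IsField K := by
  refine ⟨⟨0, 1, ?_⟩, ?_, ?_⟩
  · intro h
    have := congrArg Subtype.val h
    simp at this
  · intro x y
    exact Subtype.ext (hK.comm x.1 x.2 y.1 y.2)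
  · intro a ha
    have ha' : (a : Matrix (Fin 6) (Fin 6) F) ≠ 0 := fun h => ha (Subtype.ext h)
    obtain ⟨y, hy, hxy⟩ := hK.inv a.1 a.2 ha'
    exact ⟨⟨y, hy⟩, Subtype.ext hxy⟩

/-- the action of `K` on `F^6` -/
noncomputable def actHom (K : Subalgebra F (Matrix (Fin 6) (Fin 6) F)) :
    K →+* Module.End F (Fin 6 → F) :=
  ((Matrix.toLinAlgEquiv' : Matrix (Fin 6) (Fin 6) F ≃ₐ[F] _).toAlgHom.comp K.val).toRingHom

/-- the module structure -/
@[reducible] noncomputable def modK (K : Subalgebra F (Matrix (Fin 6) (Fin 6) F)) :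
    Module K (Fin 6 → F) :=
  Module.compHom (Fin 6 → F) (actHom K)

omit [Fintype F] in
lemma smul_def' (K : Subalgebra F (Matrix (Fin 6) (Fin 6) F)) (a : K) (x : Fin 6 → F) :
    letI := modK K
    a • x = (a : Matrix (Fin 6) (Fin 6) F) *ᵥ x := by
  rfl

/-! ### the adjoint on `K` -/

section adjoint

variable (hF : Fintype.card F = 2 ^ 2) (K : Subalgebra F (Matrix (Fin 6) (Fin 6) F))
  (hac : IsAdjointClosedFor (Cfsg.hermForm 6 F 2) K)

include hF in
lemma herm_nondeg_right {w : Fin 6 → F} (h : ∀ u, Cfsg.hermForm 6 F 2 u w = 0) : w = 0 := by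
  apply herm_nondeg
  intro y
  rw [hSymm hF y w, h y, zero_pow (by norm_num)]

include hF in
lemma herm_sub_right (u v v' : Fin 6 → F) :
    Cfsg.hermForm 6 F 2 u (v - v') = Cfsg.hermForm 6 F 2 u v - Cfsg.hermForm 6 F 2 u v' := by
  have h2 := F_two hF
  have e : v - v' = v + v' := by
    rw [sub_eq_add_neg]
    congr 1
    have : v' + v' = 0 := by rw [← two_smul F, h2, zero_smul]
    exact neg_eq_of_add_eq_zero_left this
  rw [e, hAddR hF]
  have : Cfsg.hermForm 6 F 2 u v' + Cfsg.hermForm 6 F 2 u v' = 0 := by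
    rw [← two_mul, h2, zero_mul]
  linear_combination this

include hF in
/-- uniqueness of adjoints -/
lemma adj_unique {k' k'' : Matrix (Fin 6) (Fin 6) F}
    (h : ∀ u v, Cfsg.hermForm 6 F 2 u (k' *ᵥ v) = Cfsg.hermForm 6 F 2 u (k'' *ᵥ v)) : k' = k'' := by
  apply Matrix.toLin'.injective
  apply LinearMap.ext
  intro v
  rw [Matrix.toLin'_apply, Matrix.toLin'_apply, ← sub_eq_zero]
  apply herm_nondeg_right hF
  intro u
  rw [herm_sub_right hF, h u v, sub_self]

/-- the adjoint of an element of `K` -/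
noncomputable def adjK (a : K) : K := ⟨(hac a.1 a.2).choose, (hac a.1 a.2).choose_spec.1⟩

lemma adjK_spec (a : K) (u v : Fin 6 → F) :
    Cfsg.hermForm 6 F 2 ((a : Matrix (Fin 6) (Fin 6) F) *ᵥ u) v =
      Cfsg.hermForm 6 F 2 u ((adjK K hac a : Matrix (Fin 6) (Fin 6) F) *ᵥ v) :=
  (hac a.1 a.2).choose_spec.2 u v

include hF in
lemma adjK_unique {a b : K}
    (h : ∀ u v, Cfsg.hermForm 6 F 2 ((a : Matrix (Fin 6) (Fin 6) F) *ᵥ u) v =
      Cfsg.hermForm 6 F 2 u ((b : Matrix (Fin 6) (Fin 6) F) *ᵥ v)) : adjK K hac a = b := by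
  apply Subtype.ext
  apply adj_unique hF
  intro u v
  rw [← adjK_spec K hac, h]

include hF in
lemma adjK_add (a b : K) : adjK K hac (a + b) = adjK K hac a + adjK K hac b := by
  apply adjK_unique hF
  intro u v
  rw [Subalgebra.coe_add, Subalgebra.coe_add, Matrix.add_mulVec, Matrix.add_mulVec, hAddL, hAddR hF,
    adjK_spec K hac, adjK_spec K hac]

include hF in
lemma adjK_mul (hcomm : ∀ x ∈ K, ∀ y ∈ K, x * y = y * x) (a b : K) :
    adjK K hac (a * b) = adjK K hac a * adjK K hac b := by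
  apply adjK_unique hF
  intro u v
  rw [Subalgebra.coe_mul, Subalgebra.coe_mul, ← Matrix.mulVec_mulVec, adjK_spec K hac,
    adjK_spec K hac, Matrix.mulVec_mulVec, hcomm _ (adjK K hac b).2 _ (adjK K hac a).2]

include hF in
lemma adjK_adjK (a : K) : adjK K hac (adjK K hac a) = a := by
  apply adjK_unique hF
  intro u v
  rw [hSymm hF v _, ← adjK_spec K hac, ← hSymm hF]

include hF in
lemma adjK_algebraMap (c : F) : adjK K hac (algebraMap F K c) = algebraMap F K (c ^ 2) := by
  apply adjK_unique hF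
  intro u v
  rw [Subalgebra.coe_algebraMap, Subalgebra.coe_algebraMap, Algebra.algebraMap_eq_smul_one,
    Algebra.algebraMap_eq_smul_one, Matrix.smul_mulVec, Matrix.smul_mulVec, Matrix.one_mulVec,
    Matrix.one_mulVec, hSmulL, hSmulR]
  have := F_pow_four hF c
  rw [← pow_mul]
  norm_num
  rw [this]
  exact Or.inl rfl

/-- the adjoint as a ring automorphism of `K` -/
noncomputable def adjEquiv (hcomm : ∀ x ∈ K, ∀ y ∈ K, x * y = y * x) : K ≃+* K where
  toFun := adjK K hac
  invFun := adjK K hac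
  left_inv := adjK_adjK hF K hac
  right_inv := adjK_adjK hF K hac
  map_mul' := adjK_mul hF K hac hcomm
  map_add' := adjK_add hF K hac

end adjoint

end Cfsg.Agent.Lib.Helper39_SU6_Bridge
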