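import Mathlib
import Cfsg.Prelude.Def_GeometricClasses
import Cfsg.Prelude.Def_LieClassical
import Cfsg.Agent.Lib.Helper39_SU6_Field
import Cfsg.Agent.Lib.Helper39_SU6_HForm
import Cfsg.Agent.Lib.Helper39_SU6_Hyp
import Cfsg.Agent.Lib.Helper39_SU6_Rat
import Cfsg.Agent.Lib.Helper39_SU6_Bridge
import Cfsg.Agent.Lib.Helper23_SU6_E6cN

/-!
helper39: E6cA of the row S5802 (`SU_6(2)`): the normaliser of an adjoint-closed cubic field subalgebra
lies in a subfield group over `F_2` of symplectic type.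
-/

set_option autoImplicit false

namespace Cfsg.Agent.Lib.Helper39_SU6_E6c

open Matrix Cfsg.Geo Cfsg.Agent.Lib.Helper39_SU6_Field Cfsg.Agent.Lib.Helper39_SU6_HForm
  Cfsg.Agent.Lib.Helper39_SU6_Hyp Cfsg.Agent.Lib.Helper39_SU6_Rat
  Cfsg.Agent.Lib.Helper39_SU6_Bridge

/-- the abstract form: `L` a field with 64 elements acting on `F^6` with adjoint `a ↦ a ^ 8`, `N` a group
normalising the action -/
theorem abstract_refine {F : Type*} [Field F] [Fintype F] {L : Type*} [Field L] [Fintype L]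
    [Algebra F L] [Module L (Fin 6 → F)] [IsScalarTower F L (Fin 6 → F)]
    (hF : Fintype.card F = 2 ^ 2) (hL : Fintype.card L = 64)
    (hadj : ∀ (a : L) (x y : Fin 6 → F),
      Cfsg.hermForm 6 F 2 (a • x) y = Cfsg.hermForm 6 F 2 x (a ^ 8 • y))
    (N : Subgroup (GL (Fin 6) F))
    (hN : ∀ g ∈ N, ∀ a : L, ∃ b : L, ∀ x : Fin 6 → F,
      (g : Matrix (Fin 6) (Fin 6) F) *ᵥ (a • x) = b • ((g : Matrix (Fin 6) (Fin 6) F) *ᵥ x)) :
    ∃ (F₀ : Subfield F) (P : Matrix.GeneralLinearGroup (Fin 6) F),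
      Fintype.card F = Nat.card F₀ ^ 2 ∧
      Cfsg.Geo.IsFormRationalStructure (Cfsg.hermForm 6 F 2) F₀ 1 P ∧
      (∀ u : Fin 6 → F, (∀ i, u i ∈ F₀) →
        Cfsg.hermForm 6 F 2 ((P : Matrix (Fin 6) (Fin 6) F) *ᵥ u)
          ((P : Matrix (Fin 6) (Fin 6) F) *ᵥ u) = 0) ∧
      N ⊓ (Cfsg.GU 6 F 2 ⊓ Cfsg.Geo.specialLinear (Fin 6) F) ≤ Cfsg.Geo.subfieldSubgroup F₀ P := by
  obtain ⟨u₁, u₂, h11, h22, h12⟩ := exists_pair (L := L) hF hL hadj
  obtain ⟨P, hP⟩ := exists_P hF hL hadj h11 h22 h12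
  refine ⟨primeSub (F_two hF), P, ?_, rat_structure hF hL hadj h11 h22 h12 hP,
    rat_isotropic hF hL hadj h11 h22 h12 hP, ?_⟩
  · rw [card_primeSub, hF]
  · intro g hg
    obtain ⟨hgN, hgU, hgS⟩ := hg
    apply mem_subfieldSubgroup_of hF hL hadj h11 h22 h12 hP g
    have hdet : (g : Matrix (Fin 6) (Fin 6) F).det = 1 := by
      have h1 : Matrix.GeneralLinearGroup.det g = 1 := MonoidHom.mem_ker.1 hgS
      have h2 := congrArg Units.val h1
      rw [Matrix.GeneralLinearGroup.val_det_apply, Units.val_one] at h2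
      exact h2
    exact Cfsg.Agent.Lib.Helper23_SU6_E6cN.E6cN hF hL hadj u₁ u₂ h11 h22 h12 g hgU hdet
      (hN g hgN)

/-- the field structure on `K` -/
@[reducible] noncomputable def fieldK {F : Type*} [Field F] (K : Subalgebra F (Matrix (Fin 6) (Fin 6) F))
    (hK : Cfsg.Geo.IsFieldSubalgebra 3 K) : Field K :=
  (isField K hK).toField

theorem field3_refine {F : Type*} [Field F] [Fintype F] (hF : Fintype.card F = 4)
    (K : Subalgebra F (Matrix (Fin 6) (Fin 6) F)) (hK : Cfsg.Geo.IsFieldSubalgebra 3 K)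
    (hadj : Cfsg.Geo.IsAdjointClosedFor (Cfsg.hermForm 6 F 2) K) :
    ∃ (F₀ : Subfield F) (P : Matrix.GeneralLinearGroup (Fin 6) F),
      Fintype.card F = Nat.card F₀ ^ 2 ∧
      Cfsg.Geo.IsFormRationalStructure (Cfsg.hermForm 6 F 2) F₀ 1 P ∧
      (∀ u : Fin 6 → F, (∀ i, u i ∈ F₀) →
        Cfsg.hermForm 6 F 2 ((P : Matrix (Fin 6) (Fin 6) F) *ᵥ u)
          ((P : Matrix (Fin 6) (Fin 6) F) *ᵥ u) = 0) ∧
      Cfsg.Geo.subalgebraNormalizer K ⊓
        (Cfsg.GU 6 F 2 ⊓ Cfsg.Geo.specialLinear (Fin 6) F) ≤ Cfsg.Geo.subfieldSubgroup F₀ P := by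
  classical
  have hF' : Fintype.card F = 2 ^ 2 := by rw [hF]; norm_num
  have hcardK : @Fintype.card K (Fintype.ofFinite K) = 64 := by
    letI : Fintype K := Fintype.ofFinite K
    have h := Module.card_eq_pow_finrank (K := F) (V := K)
    rw [hK.finrank_eq, hF] at h
    rw [h]; norm_num
  -- the adjoint is `a ↦ a ^ 8`
  have hσ8 : ∀ a : K, adjK K hadj a = a ^ 8 :=
    @invol_eq_pow K (fieldK K hK) (Fintype.ofFinite K) hcardK
      (adjEquiv hF' K hadj hK.comm) (adjK_adjK hF' K hadj) (by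
        obtain ⟨ω, hω⟩ := exists_omega hF'
        refine ⟨algebraMap F K ω, ?_⟩
        show adjK K hadj (algebraMap F K ω) ≠ algebraMap F K ω
        rw [adjK_algebraMap hF' K hadj]
        intro h
        have h1 := (algebraMap F K).injective h
        have h2 : ω * (ω - 1) = 0 := by linear_combination h1
        rcases mul_eq_zero.1 h2 with h0 | h0
        · rw [h0] at hω; simp at hω
        · have : ω = 1 := sub_eq_zero.1 h0
          rw [this] at hω
          have h3 := F_two hF'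
          have : (1 : F) = 0 := by linear_combination hω - h3
          exact one_ne_zero this)
  refine @abstract_refine F ‹Field F› ‹Fintype F› K (fieldK K hK) (Fintype.ofFinite K) K.algebra (modK K) ?_ hF'
    hcardK ?_ (Cfsg.Geo.subalgebraNormalizer K) ?_
  · constructor
    intro c a x
    show ((c • a : K) : Matrix (Fin 6) (Fin 6) F) *ᵥ x = c • ((a : Matrix (Fin 6) (Fin 6) F) *ᵥ x)
    rw [Subalgebra.coe_smul, Matrix.smul_mulVec]
  · intro a x y
    show Cfsg.hermForm 6 F 2 ((a : Matrix (Fin 6) (Fin 6) F) *ᵥ x) y =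
      Cfsg.hermForm 6 F 2 x (((a ^ 8 : K) : Matrix (Fin 6) (Fin 6) F) *ᵥ y)
    rw [← hσ8 a]
    exact adjK_spec K hadj a x y
  · intro g hgN a
    have hmem : (g : Matrix (Fin 6) (Fin 6) F) * (a : Matrix (Fin 6) (Fin 6) F) *
        ((g⁻¹ : GL (Fin 6) F) : Matrix (Fin 6) (Fin 6) F) ∈ K := (hgN a.1).1 a.2
    refine ⟨⟨_, hmem⟩, fun x => ?_⟩
    show (g : Matrix (Fin 6) (Fin 6) F) *ᵥ ((a : Matrix (Fin 6) (Fin 6) F) *ᵥ x) =
      ((g : Matrix (Fin 6) (Fin 6) F) * (a : Matrix (Fin 6) (Fin 6) F) *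
        ((g⁻¹ : GL (Fin 6) F) : Matrix (Fin 6) (Fin 6) F)) *ᵥ ((g : Matrix (Fin 6) (Fin 6) F) *ᵥ x)
    rw [Matrix.mulVec_mulVec, Matrix.mulVec_mulVec, mul_assoc, ← Units.val_mul, inv_mul_cancel,
      Units.val_one, mul_one]

end Cfsg.Agent.Lib.Helper39_SU6_E6c
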