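import Mathlib
import Cfsg.Prelude.Def_GeometricClasses
import Cfsg.Prelude.Def_LieClassical
import Cfsg.Agent.Lib.Helper13_Herm
import Cfsg.Agent.Lib.Helper4_SUFrameTwo
import Cfsg.Agent.Lib.Helper32_SUG_G5

/-!
helper39: over the field with four elements (`q = 2`) the stabiliser in `GU_n(2)` of a tensor decomposition
`2 ⊗ m` of the hermitian form stabilises a decomposition into two mutually orthogonal non-degenerate
`m`-spaces: a non-degenerate unitary plane over `F_4` has exactly two anisotropic points `⟨a⟩`, `⟨b⟩`, and a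
similarity of the plane permutes them.
-/

set_option autoImplicit false

namespace Cfsg.Agent.Lib.Helper39_SUTensorTwo

open Matrix Cfsg.Geo Cfsg.Agent.Lib.Helper13_Herm Cfsg.Agent.Lib.Helper4_SUFrameTwo
  Cfsg.Agent.Lib.Helper32_SUG_G5
open scoped Kronecker

variable {F : Type*} [Field F] [Fintype F]

/-! ### abstract unitary forms for `q = 2` -/

section Abstract

variable {κ : Type} [Fintype κ] [DecidableEq κ] {φ : (κ → F) → (κ → F) → F}

lemma sq_add (hF : Fintype.card F = 2 ^ 2) (x y : F) : (x + y) ^ 2 = x ^ 2 + y ^ 2 :=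
  add_pow_q hF x y

lemma u_add_right (hF : Fintype.card F = 2 ^ 2) (hφ : IsUnitaryFormPow 2 φ) (v w w' : κ → F) :
    φ v (w + w') = φ v w + φ v w' := by
  rw [hφ.herm v (w + w'), hφ.add_left, sq_add hF, ← hφ.herm, ← hφ.herm]

lemma u_smul_right (hφ : IsUnitaryFormPow 2 φ) (c : F) (v w : κ → F) :
    φ v (c • w) = c ^ 2 * φ v w := by
  rw [hφ.herm v (c • w), hφ.smul_left, mul_pow, ← hφ.herm]

lemma u_zero_left (hφ : IsUnitaryFormPow 2 φ) (v : κ → F) : φ 0 v = 0 := by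
  have := hφ.smul_left 0 0 v
  rwa [zero_smul, zero_mul] at this

lemma u_zero_right (hφ : IsUnitaryFormPow 2 φ) (v : κ → F) : φ v 0 = 0 := by
  rw [hφ.herm, u_zero_left hφ]
  norm_num

lemma u_sum_left (hφ : IsUnitaryFormPow 2 φ) {α : Type*} (s : Finset α) (c : α → F) (v : α → κ → F)
    (w : κ → F) : φ (∑ p ∈ s, c p • v p) w = ∑ p ∈ s, c p * φ (v p) w := by
  classical
  induction s using Finset.induction_on with
  | empty => simp [u_zero_left hφ]
  | insert a s ha ih => rw [Finset.sum_insert ha, Finset.sum_insert ha, hφ.add_left, hφ.smul_left, ih]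

/-- a unitary form is the form of its Gram matrix -/
lemma u_expand (hF : Fintype.card F = 2 ^ 2) (hφ : IsUnitaryFormPow 2 φ) (x y : κ → F) :
    φ x y = formOfGram (fun t : F => t ^ 2) (gramMatrix φ) x y := by
  unfold formOfGram gramMatrix
  have hx : x = ∑ a, x a • (Pi.single a 1 : κ → F) := by
    funext i
    simp [Finset.sum_apply, Pi.single_apply]
  have hy : y = ∑ b, y b • (Pi.single b 1 : κ → F) := by
    funext i
    simp [Finset.sum_apply, Pi.single_apply]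
  conv_lhs => rw [hx]
  rw [u_sum_left hφ]
  apply Finset.sum_congr rfl
  intro a _
  rw [hφ.herm (Pi.single a 1) y]
  conv_lhs => rw [hy]
  rw [u_sum_left hφ, sum_pow_q hF, Finset.mul_sum]
  apply Finset.sum_congr rfl
  intro b _
  rw [mul_pow, ← hφ.herm]
  ring

/-- the functional `x ↦ φ x a` -/
def uFun (hφ : IsUnitaryFormPow 2 φ) (a : κ → F) : (κ → F) →ₗ[F] F where
  toFun x := φ x a
  map_add' x y := hφ.add_left x y a
  map_smul' c x := by rw [RingHom.id_apply, smul_eq_mul]; exact hφ.smul_left c x a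

lemma u_norm_sq (hφ : IsUnitaryFormPow 2 φ) (x : κ → F) : φ x x ^ 2 = φ x x := (hφ.herm x x).symm

lemma u_norm_eq_one (hφ : IsUnitaryFormPow 2 φ) {x : κ → F} (hx : φ x x ≠ 0) : φ x x = 1 := by
  have h := u_norm_sq hφ x
  have : φ x x * (φ x x - 1) = 0 := by linear_combination h
  rcases mul_eq_zero.1 this with h0 | h1
  · exact absurd h0 hx
  · linear_combination h1

lemma u_norm_add (hF : Fintype.card F = 2 ^ 2) (hφ : IsUnitaryFormPow 2 φ) (x y : κ → F) :
    φ (x + y) (x + y) = φ x x + φ x y + φ y x + φ y y := by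
  rw [hφ.add_left, u_add_right hF hφ, u_add_right hF hφ]
  ring

/-- an anisotropic vector exists -/
lemma u_exists_aniso (hF : Fintype.card F = 2 ^ 2) (hφ : IsUnitaryFormPow 2 φ) [Nonempty κ] :
    ∃ a : κ → F, φ a a ≠ 0 := by
  by_contra hcon
  push Not at hcon
  obtain ⟨i⟩ := ‹Nonempty κ›
  have hw0 : (Pi.single i 1 : κ → F) ≠ 0 := by
    intro h
    have := congrFun h i
    simp at this
  set w : κ → F := Pi.single i 1
  obtain ⟨⟨x, hx⟩, -⟩ := hφ.nondegenerate w hw0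
  obtain ⟨ε, hε⟩ := exists_eps hF
  set t := φ x w with ht
  have key : ∀ c : F, c * t + (c * t) ^ 2 = 0 := by
    intro c
    have h := hcon (c • x + w)
    rw [u_norm_add hF hφ, hφ.smul_left, u_smul_right hφ, hcon x, hcon w, hφ.smul_left, u_smul_right hφ,
      hφ.herm w x, ← ht] at h
    linear_combination h
  have h1 := key (ε / t)
  rw [div_mul_cancel₀ _ hx] at h1
  apply hε
  linear_combination h1

end Abstract

/-! ### the frame of a unitary plane over `F_4` -/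

theorem frame (hF : Fintype.card F = 2 ^ 2) {φ : (Fin 2 → F) → (Fin 2 → F) → F}
    (hφ : IsUnitaryFormPow 2 φ) :
    ∃ a b : Fin 2 → F, φ a a = 1 ∧ φ b b = 1 ∧ φ a b = 0 ∧ φ b a = 0 ∧
      (∀ x : Fin 2 → F, ∃ α β : F, x = α • a + β • b) ∧
      (∀ x : Fin 2 → F, φ x x ≠ 0 → (∃ c : F, x = c • a) ∨ (∃ c : F, x = c • b)) := by
  have h2 := two_eq_zero hF
  obtain ⟨a, ha⟩ := u_exists_aniso hF hφ
  have ha1 : φ a a = 1 := u_norm_eq_one hφ ha
  -- the kernel of `x ↦ φ x a`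
  obtain ⟨b, hb0, hba⟩ := exists_ne_zero_ker (by simp) (uFun hφ a)
  have hba' : φ b a = 0 := hba
  have hab : φ a b = 0 := by rw [hφ.herm, hba']; norm_num
  -- the kernel is the line spanned by `b`
  have hker : ∀ x : Fin 2 → F, φ x a = 0 → ∃ c : F, x = c • b := by
    intro x hx
    have hsurj : LinearMap.range (uFun hφ a) = ⊤ := by
      rw [LinearMap.range_eq_top]
      intro c
      refine ⟨c • a, ?_⟩
      show φ (c • a) a = c
      rw [hφ.smul_left, ha1, mul_one]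
    have hrk := LinearMap.finrank_range_add_finrank_ker (uFun hφ a)
    rw [hsurj, finrank_top, Module.finrank_self, Module.finrank_fin_fun] at hrk
    have hk1 : Module.finrank F (LinearMap.ker (uFun hφ a)) = 1 := by omega
    have hbk : b ∈ LinearMap.ker (uFun hφ a) := hba
    have hxk : x ∈ LinearMap.ker (uFun hφ a) := hx
    have hb0' : (⟨b, hbk⟩ : LinearMap.ker (uFun hφ a)) ≠ 0 := by
      intro h
      exact hb0 (congrArg Subtype.val h)
    obtain ⟨c, hc⟩ := (finrank_eq_one_iff_of_nonzero' _ hb0').mp hk1 ⟨x, hxk⟩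
    exact ⟨c, (congrArg Subtype.val hc).symm⟩
  -- every vector is a combination of `a` and `b`
  have hspan : ∀ x : Fin 2 → F, ∃ α β : F, x = α • a + β • b := by
    intro x
    have h1 : φ (x - φ x a • a) a = 0 := by
      have : x - φ x a • a = x + (-(φ x a)) • a := by rw [neg_smul, sub_eq_add_neg]
      rw [this, hφ.add_left, hφ.smul_left, ha1]
      ring
    obtain ⟨c, hc⟩ := hker _ h1
    refine ⟨φ x a, c, ?_⟩
    rw [← hc]
    abel
  -- `b` is anisotropic
  have hb : φ b b ≠ 0 := by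
    intro hbb
    obtain ⟨⟨x, hx⟩, -⟩ := hφ.nondegenerate b hb0
    obtain ⟨α, β, rfl⟩ := hspan x
    apply hx
    rw [hφ.add_left, hφ.smul_left, hφ.smul_left, hab, hbb, mul_zero, mul_zero, add_zero]
  have hb1 : φ b b = 1 := u_norm_eq_one hφ hb
  refine ⟨a, b, ha1, hb1, hab, hba', hspan, ?_⟩
  intro x hx
  obtain ⟨α, β, rfl⟩ := hspan x
  by_cases hα : α = 0
  · right
    exact ⟨β, by rw [hα, zero_smul, zero_add]⟩
  by_cases hβ : β = 0
  · left
    exact ⟨α, by rw [hβ, zero_smul, add_zero]⟩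
  exfalso
  apply hx
  rw [u_norm_add hF hφ, hφ.smul_left, u_smul_right hφ, hφ.smul_left, u_smul_right hφ, hφ.smul_left,
    u_smul_right hφ, hφ.smul_left, u_smul_right hφ, ha1, hb1, hab, hba']
  have e1 := cube_eq_one hF hα
  have e2 := cube_eq_one hF hβ
  linear_combination e1 + e2 + h2


/-! ### the tensor decomposition -/

section Tensor

variable {n m : ℕ}

/-- the embedding `z ↦ P (z ∘ e)` -/
def emb (e : Fin n ≃ Fin 2 × Fin m) (P : GL (Fin n) F) : (Fin 2 × Fin m → F) →ₗ[F] (Fin n → F) :=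
  Matrix.toLin' (P : Matrix (Fin n) (Fin n) F) ∘ₗ LinearMap.funLeft F F e

lemma emb_apply (e : Fin n ≃ Fin 2 × Fin m) (P : GL (Fin n) F) (z : Fin 2 × Fin m → F) :
    emb e P z = (P : Matrix (Fin n) (Fin n) F) *ᵥ (z ∘ e) := rfl

lemma emb_injective (e : Fin n ≃ Fin 2 × Fin m) (P : GL (Fin n) F) : Function.Injective (emb e P) := by
  intro z z' h
  rw [emb_apply, emb_apply] at h
  have h1 : z ∘ e = z' ∘ e := by
    have := congrArg (fun v => ((P⁻¹ : GL (Fin n) F) : Matrix (Fin n) (Fin n) F) *ᵥ v) h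
    simpa [Matrix.mulVec_mulVec] using this
  funext p
  have := congrFun h1 (e.symm p)
  simpa using this

/-- `y ↦ a ⊗ y` -/
def tensR (a : Fin 2 → F) : (Fin m → F) →ₗ[F] (Fin 2 × Fin m → F) where
  toFun y := tens a y
  map_add' y y' := by funext p; simp [tens, mul_add]
  map_smul' c y := by funext p; simp [tens, mul_left_comm]

/-- `y ↦ P ((a ⊗ y) ∘ e)` -/
def lin (e : Fin n ≃ Fin 2 × Fin m) (P : GL (Fin n) F) (a : Fin 2 → F) : (Fin m → F) →ₗ[F] (Fin n → F) :=
  emb e P ∘ₗ tensR a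

lemma lin_apply (e : Fin n ≃ Fin 2 × Fin m) (P : GL (Fin n) F) (a : Fin 2 → F) (y : Fin m → F) :
    lin e P a y = (P : Matrix (Fin n) (Fin n) F) *ᵥ (tens a y ∘ e) := rfl

lemma lin_injective (e : Fin n ≃ Fin 2 × Fin m) (P : GL (Fin n) F) {a : Fin 2 → F} (ha : a ≠ 0) :
    Function.Injective (lin e P a) := by
  intro y y' h
  have h1 : tens a y = tens a y' := emb_injective e P h
  obtain ⟨i, hi⟩ := Function.ne_iff.mp ha
  funext j
  have := congrFun h1 (i, j)
  rw [tens_apply, tens_apply] at this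
  exact mul_left_cancel₀ hi this

lemma lin_smul (e : Fin n ≃ Fin 2 × Fin m) (P : GL (Fin n) F) (c : F) (a : Fin 2 → F) (y : Fin m → F) :
    lin e P (c • a) y = lin e P a (c • y) := by
  rw [lin_apply, lin_apply]
  congr 2
  funext p
  simp [tens, mul_left_comm, mul_assoc]

/-- the subspace `P (a ⊗ F^m)` -/
def Dv (e : Fin n ≃ Fin 2 × Fin m) (P : GL (Fin n) F) (a : Fin 2 → F) : Submodule F (Fin n → F) :=
  LinearMap.range (lin e P a)

lemma finrank_Dv (e : Fin n ≃ Fin 2 × Fin m) (P : GL (Fin n) F) {a : Fin 2 → F} (ha : a ≠ 0) :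
    Module.finrank F (Dv e P a) = m := by
  unfold Dv
  rw [LinearMap.finrank_range_of_inj (lin_injective e P ha), Module.finrank_fin_fun]

/-- the Gram form of a Kronecker product on pure tensors -/
lemma formOfGram_tens (G₁ : Matrix (Fin 2) (Fin 2) F) (G₂ : Matrix (Fin m) (Fin m) F)
    (a a' : Fin 2 → F) (y y' : Fin m → F) :
    formOfGram (fun t : F => t ^ 2) (G₁ ⊗ₖ G₂) (tens a y) (tens a' y') =
      formOfGram (fun t : F => t ^ 2) G₁ a a' * formOfGram (fun t : F => t ^ 2) G₂ y y' := by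
  unfold formOfGram
  rw [Fintype.sum_prod_type, Finset.sum_mul]
  apply Finset.sum_congr rfl
  intro i _
  rw [Finset.mul_sum]
  apply Finset.sum_congr rfl
  intro k _
  rw [Fintype.sum_prod_type, Finset.sum_mul_sum]
  apply Finset.sum_congr rfl
  intro j _
  apply Finset.sum_congr rfl
  intro l _
  rw [Matrix.kroneckerMap_apply, tens_apply, tens_apply]
  ring

/-- the action of a conjugated Kronecker product on `P ((a ⊗ y) ∘ e)` -/
lemma act_lin (e : Fin n ≃ Fin 2 × Fin m) (P : GL (Fin n) F) (A : Matrix (Fin 2) (Fin 2) F)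
    (B : Matrix (Fin m) (Fin m) F) (a : Fin 2 → F) (y : Fin m → F) :
    ((P : Matrix (Fin n) (Fin n) F) * Matrix.reindex e.symm e.symm (A ⊗ₖ B) *
      ((P⁻¹ : GL (Fin n) F) : Matrix (Fin n) (Fin n) F)) *ᵥ (lin e P a y) = lin e P (A *ᵥ a) (B *ᵥ y) := by
  rw [lin_apply, lin_apply, Matrix.mulVec_mulVec, Matrix.mul_assoc, Matrix.mul_assoc, ← Units.val_mul,
    inv_mul_cancel, Units.val_one, Matrix.mul_one, ← Matrix.mulVec_mulVec]
  congr 1
  rw [Matrix.reindex_apply, Matrix.submatrix_mulVec_equiv, ← kron_mulVec_tens]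
  simp [Function.comp_assoc]

theorem refine_tensor (hF : Fintype.card F = 2 ^ 2) (hm : 0 < m) (e : Fin n ≃ Fin 2 × Fin m)
    (P : GL (Fin n) F) (f₁ : (Fin 2 → F) → (Fin 2 → F) → F) (f₂ : (Fin m → F) → (Fin m → F) → F)
    (h1 : IsUnitaryFormPow 2 f₁) (h2 : IsUnitaryFormPow 2 f₂)
    (hstr : IsTensorFormStructure (fun x : F => x ^ 2) (Cfsg.hermForm n F 2) f₁ f₂ e P) :
    ∃ D : Fin 2 → Submodule F (Fin n → F),
      IsNondegenerateMDecomposition (Cfsg.hermForm n F 2) m D ∧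
        tensorProductSubgroup 2 m e P ⊓ Cfsg.GU n F 2 ≤ decompositionStabilizer D := by
  obtain ⟨c, hc0, hc⟩ := hstr
  obtain ⟨a, b, ha1, hb1, hab, hba, hspan, hcls⟩ := frame hF h1
  have hform : ∀ (u u' : Fin 2 → F) (y y' : Fin m → F),
      Cfsg.hermForm n F 2 (lin e P u y) (lin e P u' y') = c * (f₁ u u' * f₂ y y') := by
    intro u u' y y'
    rw [lin_apply, lin_apply, hc, formOfGram_tens, ← u_expand hF h1, ← u_expand hF h2]
  have hn : n = 2 * m := by
    have := Fintype.card_congr e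
    simpa using this
  have ha0 : a ≠ 0 := by
    rintro rfl
    rw [u_zero_left h1] at ha1
    exact zero_ne_one ha1
  have hb0 : b ≠ 0 := by
    rintro rfl
    rw [u_zero_left h1] at hb1
    exact zero_ne_one hb1
  -- orthogonality
  have horth : ∀ u u' : Fin 2 → F, f₁ u u' = 0 →
      AreOrthogonalFor (Cfsg.hermForm n F 2) (Dv e P u) (Dv e P u') := by
    rintro u u' huu' _ ⟨y, rfl⟩ _ ⟨y', rfl⟩
    rw [hform, huu', zero_mul, mul_zero]
  -- nondegeneracy
  have hnd : ∀ u : Fin 2 → F, f₁ u u = 1 → IsNondegenerateOn (Cfsg.hermForm n F 2) (Dv e P u) := by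
    rintro u hu _ ⟨y, rfl⟩ hw0
    have hy0 : y ≠ 0 := by
      rintro rfl
      exact hw0 (map_zero _)
    obtain ⟨⟨x, hx⟩, ⟨x', hx'⟩⟩ := h2.nondegenerate y hy0
    refine ⟨⟨lin e P u x, ⟨x, rfl⟩, ?_⟩, ⟨lin e P u x', ⟨x', rfl⟩, ?_⟩⟩
    · rw [hform, hu, one_mul]
      exact mul_ne_zero hc0 hx
    · rw [hform, hu, one_mul]
      exact mul_ne_zero hc0 hx'
  -- independence
  have hdisj : Disjoint (Dv e P a) (Dv e P b) := by
    rw [Submodule.disjoint_def]
    rintro v ⟨y, rfl⟩ ⟨y', hy'⟩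
    by_contra hv0
    have hy0 : y ≠ 0 := by
      rintro rfl
      exact hv0 (map_zero _)
    obtain ⟨⟨x, hx⟩, -⟩ := h2.nondegenerate y hy0
    have e1 : Cfsg.hermForm n F 2 (lin e P a x) (lin e P a y) = c * (1 * f₂ x y) := by rw [hform, ha1]
    have e2 : Cfsg.hermForm n F 2 (lin e P a x) (lin e P a y) = 0 := by
      rw [← hy', hform, hab, zero_mul, mul_zero]
    rw [e2, one_mul] at e1
    exact mul_ne_zero hc0 hx e1.symm
  have hsup : Dv e P a ⊔ Dv e P b = ⊤ := by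
    apply Submodule.eq_top_of_finrank_eq
    have h3 := Submodule.finrank_sup_add_finrank_inf_eq (Dv e P a) (Dv e P b)
    rw [hdisj.eq_bot, finrank_bot, finrank_Dv e P ha0, finrank_Dv e P hb0, add_zero] at h3
    rw [h3, Module.finrank_fin_fun, hn]
    ring
  set D : Fin 2 → Submodule F (Fin n → F) := ![Dv e P a, Dv e P b] with hDdef
  have hD0 : D 0 = Dv e P a := rfl
  have hD1 : D 1 = Dv e P b := rfl
  have hD : IsNondegenerateMDecomposition (Cfsg.hermForm n F 2) m D := by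
    refine ⟨⟨le_refl 2, hm, ?_, ?_, ?_⟩, ?_, ?_⟩
    · intro i
      fin_cases i
      · exact finrank_Dv e P ha0
      · exact finrank_Dv e P hb0
    · rw [iSupIndep_pair (i := (0 : Fin 2)) (j := 1) (by decide) (by decide)]
      exact hdisj
    · rw [eq_top_iff, ← hsup]
      exact sup_le (le_iSup D 0) (le_iSup D 1)
    · intro i
      fin_cases i
      · exact hnd a ha1
      · exact hnd b hb1
    · intro i j hij
      fin_cases i <;> fin_cases j
      · exact absurd rfl hij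
      · exact horth a b hab
      · exact horth b a hba
      · exact absurd rfl hij
  refine ⟨D, hD, ?_⟩
  -- the stabilizer
  rintro g ⟨hgT, hgU⟩
  obtain ⟨y, ⟨k, ⟨A, B, hk⟩, rfl⟩, hy⟩ := hgT
  have hgval : (g : Matrix (Fin n) (Fin n) F) = (P : Matrix (Fin n) (Fin n) F) *
      Matrix.reindex e.symm e.symm ((A : Matrix (Fin 2) (Fin 2) F) ⊗ₖ (B : Matrix (Fin m) (Fin m) F)) *
        ((P⁻¹ : GL (Fin n) F) : Matrix (Fin n) (Fin n) F) := by
    rw [← hy, ← hk]
    simp only [MulEquiv.coe_toMonoidHom, MulAut.conj_apply, Units.val_mul]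
    rfl
  have hact : ∀ (u : Fin 2 → F) (z : Fin m → F), (g : Matrix (Fin n) (Fin n) F) *ᵥ (lin e P u z) =
      lin e P ((A : Matrix (Fin 2) (Fin 2) F) *ᵥ u) ((B : Matrix (Fin m) (Fin m) F) *ᵥ z) := by
    intro u z
    rw [hgval, act_lin]
  have hpres : ∀ (u u' : Fin 2 → F) (z z' : Fin m → F),
      f₁ ((A : Matrix (Fin 2) (Fin 2) F) *ᵥ u) ((A : Matrix (Fin 2) (Fin 2) F) *ᵥ u') *
        f₂ ((B : Matrix (Fin m) (Fin m) F) *ᵥ z) ((B : Matrix (Fin m) (Fin m) F) *ᵥ z') = f₁ u u' * f₂ z z' := by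
    intro u u' z z'
    have h3 := hgU (lin e P u z) (lin e P u' z')
    have h4 : Cfsg.hermForm n F 2 ((g : Matrix (Fin n) (Fin n) F) *ᵥ (lin e P u z))
        ((g : Matrix (Fin n) (Fin n) F) *ᵥ (lin e P u' z')) = Cfsg.hermForm n F 2 (lin e P u z) (lin e P u' z') := h3
    rw [hact, hact, hform, hform] at h4
    exact mul_left_cancel₀ hc0 h4
  -- a pair with non-zero `f₂`
  have hy0 : (Pi.single ⟨0, hm⟩ 1 : Fin m → F) ≠ 0 := by
    intro h
    have := congrFun h ⟨0, hm⟩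
    simp at this
  obtain ⟨-, ⟨z', hz'⟩⟩ := h2.nondegenerate _ hy0
  set z : Fin m → F := Pi.single ⟨0, hm⟩ 1
  have hAa := hpres a a z z'
  have hAb := hpres b b z z'
  have hAab := hpres a b z z'
  rw [ha1, one_mul] at hAa
  rw [hb1, one_mul] at hAb
  rw [hab, zero_mul] at hAab
  have hB0 : f₂ ((B : Matrix (Fin m) (Fin m) F) *ᵥ z) ((B : Matrix (Fin m) (Fin m) F) *ᵥ z') ≠ 0 := by
    intro h0
    rw [h0, mul_zero] at hAa
    exact hz' hAa.symm
  have hAa0 : f₁ ((A : Matrix (Fin 2) (Fin 2) F) *ᵥ a) ((A : Matrix (Fin 2) (Fin 2) F) *ᵥ a) ≠ 0 := by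
    intro h0
    rw [h0, zero_mul] at hAa
    exact hz' hAa.symm
  have hAb0 : f₁ ((A : Matrix (Fin 2) (Fin 2) F) *ᵥ b) ((A : Matrix (Fin 2) (Fin 2) F) *ᵥ b) ≠ 0 := by
    intro h0
    rw [h0, zero_mul] at hAb
    exact hz' hAb.symm
  have hAab0 : f₁ ((A : Matrix (Fin 2) (Fin 2) F) *ᵥ a) ((A : Matrix (Fin 2) (Fin 2) F) *ᵥ b) = 0 :=
    (mul_eq_zero.mp hAab).resolve_right hB0
  -- the image of a member
  have hmap : ∀ (u u' : Fin 2 → F) (c₁ : F), u ≠ 0 → u' ≠ 0 →
      (A : Matrix (Fin 2) (Fin 2) F) *ᵥ u = c₁ • u' →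
      (Dv e P u).map (Matrix.toLin' (g : Matrix (Fin n) (Fin n) F)) = Dv e P u' := by
    intro u u' c₁ hu hu' hAu
    apply Submodule.eq_of_le_of_finrank_eq
    · rintro _ ⟨_, ⟨z₁, rfl⟩, rfl⟩
      rw [Matrix.toLin'_apply, hact, hAu, lin_smul]
      exact ⟨_, rfl⟩
    · have hinj : Function.Injective (Matrix.toLin' (g : Matrix (Fin n) (Fin n) F)) := by
        intro v v' hvv'
        rw [Matrix.toLin'_apply, Matrix.toLin'_apply] at hvv'
        have := congrArg (fun w => ((g⁻¹ : GL (Fin n) F) : Matrix (Fin n) (Fin n) F) *ᵥ w) hvv'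
        simpa [Matrix.mulVec_mulVec] using this
      rw [← (Submodule.equivMapOfInjective _ hinj (Dv e P u)).finrank_eq, finrank_Dv e P hu,
        finrank_Dv e P hu']
  have hne : ∀ (u : Fin 2 → F) (c₁ : F), f₁ (c₁ • u) (c₁ • u) ≠ 0 → c₁ ≠ 0 := by
    rintro u c₁ h rfl
    rw [zero_smul, u_zero_left h1] at h
    exact h rfl
  rcases hcls _ hAa0 with ⟨c₁, hc₁⟩ | ⟨c₁, hc₁⟩ <;> rcases hcls _ hAb0 with ⟨c₂, hc₂⟩ | ⟨c₂, hc₂⟩
  · exfalso
    rw [hc₁, hc₂, h1.smul_left, u_smul_right h1, ha1, mul_one] at hAab0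
    rw [hc₁] at hAa0
    rw [hc₂] at hAb0
    have e1 := hne a c₁ hAa0
    have e2 := hne a c₂ hAb0
    exact mul_ne_zero e1 (pow_ne_zero 2 e2) hAab0
  · refine ⟨1, fun i => ?_⟩
    fin_cases i
    · exact hmap a a c₁ ha0 ha0 hc₁
    · exact hmap b b c₂ hb0 hb0 hc₂
  · refine ⟨Equiv.swap 0 1, fun i => ?_⟩
    fin_cases i
    · exact hmap a b c₁ ha0 hb0 hc₁
    · exact hmap b a c₂ hb0 ha0 hc₂
  · exfalso
    rw [hc₁, hc₂, h1.smul_left, u_smul_right h1, hb1, mul_one] at hAab0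
    rw [hc₁] at hAa0
    rw [hc₂] at hAb0
    have e1 := hne b c₁ hAa0
    have e2 := hne b c₂ hAb0
    exact mul_ne_zero e1 (pow_ne_zero 2 e2) hAab0

end Tensor

end Cfsg.Agent.Lib.Helper39_SUTensorTwo
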