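import Mathlib
import Cfsg.Prelude.Def_GeometricClasses
import Cfsg.Prelude.Def_LieClassical
import Cfsg.Agent.Lib.Helper39_SURows
import Cfsg.Agent.Lib.Helper39_SUTensorTwo
import Cfsg.Agent.Lib.Helper4_SUFrameTwo

/-!
helper39: the row "maximal subgroups of `SU_8(q)`" from the exclusion facts `Excl` and the frozen statement
S5663 taken as a hypothesis; for `q = 2` the decompositions into planes and the tensor decompositions `2 ⊗ 4`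
are refined (helper4's `refine_planes`, `Helper39_SUTensorTwo.refine_tensor`).
-/

set_option autoImplicit false

namespace Cfsg.Agent.Lib.Helper39_SURow8

open Matrix Cfsg.Geo Cfsg.Agent.Lib.Helper39_SUAschMax Cfsg.Agent.Lib.Helper39_SURows

variable {F : Type*} [Field F] [Fintype F] {q : ℕ}

lemma mul_eq_eight {t k : ℕ} (ht : 2 ≤ t) (h : t * k = 8) :
    (t = 8 ∧ k = 1) ∨ (t = 4 ∧ k = 2) ∨ (t = 2 ∧ k = 4) := by
  have ht8 : t ≤ 8 := Nat.le_of_dvd (by norm_num) ⟨k, h.symm⟩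
  interval_cases t <;> omega

/-- a maximal subgroup inside `Y ⊓ GU` with `Y ⊓ GU ≤ X` is `(X ⊓ GU) ⊓ SL` -/
lemma eq_inf_of_le_of_le {n : ℕ} {H X Y : Subgroup (GL (Fin n) F)}
    (hH : IsMaximalIn (SUg n F q) H) (hHY : H = (Y ⊓ Cfsg.GU n F q) ⊓ specialLinear (Fin n) F)
    (hYX : Y ⊓ Cfsg.GU n F q ≤ X) (hX : ¬ SUg n F q ≤ X) :
    H = X ⊓ (Cfsg.GU n F q ⊓ specialLinear (Fin n) F) := by
  rw [← inf_assoc]
  apply eq_inf_of_le hH _ hX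
  rw [hHY]
  exact le_inf (inf_le_left.trans hYX) (inf_le_left.trans inf_le_right)

theorem su8_cases (hF : Fintype.card F = q ^ 2) (hE : Excl 8 F q) (hA : SUAschHyp 8 F q)
    (H : Subgroup (GL (Fin 8) F)) (hH : IsMaximalIn (Cfsg.GU 8 F q ⊓ specialLinear (Fin 8) F) H) :
    (∃ W : Submodule F (Fin 8 → F), W ≠ ⊥ ∧ Cfsg.Geo.IsTotallySingularFor (Cfsg.hermForm 8 F q) W ∧ H = Cfsg.Geo.subspaceStabilizer W ⊓ (Cfsg.GU 8 F q ⊓ Cfsg.Geo.specialLinear (Fin 8) F)) ∨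
    (∃ W : Submodule F (Fin 8 → F), W ≠ ⊥ ∧ Cfsg.Geo.IsNondegenerateOn (Cfsg.hermForm 8 F q) W ∧ 2 * Module.finrank F W < 8 ∧ H = Cfsg.Geo.subspaceStabilizer W ⊓ (Cfsg.GU 8 F q ⊓ Cfsg.Geo.specialLinear (Fin 8) F)) ∨
    (∃ D : Fin 8 → Submodule F (Fin 8 → F), Cfsg.Geo.IsNondegenerateMDecomposition (Cfsg.hermForm 8 F q) 1 D ∧ H = Cfsg.Geo.decompositionStabilizer D ⊓ (Cfsg.GU 8 F q ⊓ Cfsg.Geo.specialLinear (Fin 8) F)) ∨
    (3 ≤ q ∧ ∃ D : Fin 4 → Submodule F (Fin 8 → F), Cfsg.Geo.IsNondegenerateMDecomposition (Cfsg.hermForm 8 F q) 2 D ∧ H = Cfsg.Geo.decompositionStabilizer D ⊓ (Cfsg.GU 8 F q ⊓ Cfsg.Geo.specialLinear (Fin 8) F)) ∨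
    (∃ D : Fin 2 → Submodule F (Fin 8 → F), Cfsg.Geo.IsNondegenerateMDecomposition (Cfsg.hermForm 8 F q) 4 D ∧ H = Cfsg.Geo.decompositionStabilizer D ⊓ (Cfsg.GU 8 F q ⊓ Cfsg.Geo.specialLinear (Fin 8) F)) ∨
    (∃ D : Fin 2 → Submodule F (Fin 8 → F), Cfsg.Geo.IsMDecomposition 4 D ∧ (∀ i, Cfsg.Geo.IsTotallySingularFor (Cfsg.hermForm 8 F q) (D i)) ∧ H = Cfsg.Geo.decompositionStabilizer D ⊓ (Cfsg.GU 8 F q ⊓ Cfsg.Geo.specialLinear (Fin 8) F)) ∨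
    (3 ≤ q ∧ ∃ (e : Fin 8 ≃ Fin 2 × Fin 4) (P : Matrix.GeneralLinearGroup (Fin 8) F) (f₁ : (Fin 2 → F) → (Fin 2 → F) → F) (f₂ : (Fin 4 → F) → (Fin 4 → F) → F), Cfsg.Geo.IsUnitaryFormPow q f₁ ∧ Cfsg.Geo.IsUnitaryFormPow q f₂ ∧ Cfsg.Geo.IsTensorFormStructure (fun x : F => x ^ q) (Cfsg.hermForm 8 F q) f₁ f₂ e P ∧ H = Cfsg.Geo.tensorProductSubgroup 2 4 e P ⊓ (Cfsg.GU 8 F q ⊓ Cfsg.Geo.specialLinear (Fin 8) F)) ∨
    (∃ (F₀ : Subfield F) (r : ℕ) (P : Matrix.GeneralLinearGroup (Fin 8) F), r.Prime ∧ Odd r ∧ Fintype.card F = Nat.card F₀ ^ r ∧ Cfsg.Geo.IsFormRationalStructure (Cfsg.hermForm 8 F q) F₀ 1 P ∧ H = Cfsg.Geo.subfieldSubgroup F₀ P ⊓ (Cfsg.GU 8 F q ⊓ Cfsg.Geo.specialLinear (Fin 8) F)) ∨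
    (∃ (F₀ : Subfield F) (P : Matrix.GeneralLinearGroup (Fin 8) F) (ζ : F), Fintype.card F = Nat.card F₀ ^ 2 ∧ ζ ≠ 0 ∧ ζ + ζ ^ q = 0 ∧ Cfsg.Geo.IsFormRationalStructure (Cfsg.hermForm 8 F q) F₀ ζ P ∧ (∀ u : Fin 8 → F, (∀ i, u i ∈ F₀) → (Cfsg.hermForm 8 F q) (Matrix.mulVec (P : Matrix (Fin 8) (Fin 8) F) u) (Matrix.mulVec (P : Matrix (Fin 8) (Fin 8) F) u) = 0) ∧ H = Cfsg.Geo.subfieldSubgroup F₀ P ⊓ (Cfsg.GU 8 F q ⊓ Cfsg.Geo.specialLinear (Fin 8) F)) ∨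
    (Odd q ∧ ∃ (F₀ : Subfield F) (P : Matrix.GeneralLinearGroup (Fin 8) F), Fintype.card F = Nat.card F₀ ^ 2 ∧ Cfsg.Geo.IsFormRationalStructure (Cfsg.hermForm 8 F q) F₀ 1 P ∧ H = Cfsg.Geo.subfieldSubgroup F₀ P ⊓ (Cfsg.GU 8 F q ⊓ Cfsg.Geo.specialLinear (Fin 8) F)) ∨
    (∃ (p : ℕ) (R : Subgroup (Matrix.GeneralLinearGroup (Fin 8) F)), p.Prime ∧ q = p ∧ p % 4 = 3 ∧ Cfsg.Geo.IsSymplecticTypeGroup 2 R ∧ Cfsg.Geo.ActsAbsolutelyIrreducibly (Cfsg.Geo.matrixSet R) ∧ R ≤ Cfsg.Geo.similarityGroup (Cfsg.hermForm 8 F q) ∧ Nat.card R = 256 ∧ Nat.card (Subgroup.center R) = 4 ∧ H = Cfsg.Geo.subgroupNormalizer R ⊓ (Cfsg.GU 8 F q ⊓ Cfsg.Geo.specialLinear (Fin 8) F)) ∨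
    Cfsg.Geo.InUnitaryResidualClass H := by
  have hq2 : 2 ≤ q := Cfsg.Agent.Lib.Helper13_Herm.two_le_q hF
  rcases normal_form (by norm_num) hE hA H hH with ⟨M, hM, hHM⟩ | hres
  swap
  · exact Or.inr (Or.inr (Or.inr (Or.inr (Or.inr (Or.inr (Or.inr (Or.inr (Or.inr (Or.inr (Or.inr hres))))))))))
  simp only [InUnitaryClass, InUnitaryPartialClass] at hM
  rcases hM with (⟨W, hW0, hWts, rfl⟩ | ⟨W, hW0, hWnd, hWlt, rfl⟩ | ⟨t, k, D, hD, rfl⟩ |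
      ⟨k, D, hk, hD, hDts, rfl⟩ | ⟨F₀, r, P, hr, hodd, hcard, hfrs, rfl⟩ | ⟨F₀, P, hq, hcard, hfrs, rfl⟩ |
      ⟨F₀, P, ζ, heven, hcard, hζ0, hζ, hfrs, hiso, rfl⟩ |
      ⟨r, R, p, e, k, hR, hirr, hsim, hrp, hmin, hcase, rfl⟩) |
    ⟨r, K, hr, hodd, hK, hadj, rfl⟩ | ⟨n₁, n₂, e, P, f₁, f₂, h1, h2, hf₁, hf₂, hstr, rfl⟩ |
    ⟨k, t, e, P, f₁, hk, ht, hqk, hf₁, hstr, rfl⟩
  · exact Or.inl ⟨W, hW0, hWts, by rw [hHM, inf_assoc]⟩
  · exact Or.inr (Or.inl ⟨W, hW0, hWnd, hWlt, by rw [hHM, inf_assoc]⟩)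
  · -- nondegenerate decomposition
    have htm : t * k = 8 := Cfsg.Agent.Lib.Helper98_Decomp.card_eq hD.decomp
    rcases mul_eq_eight hD.decomp.two_le htm with ⟨rfl, rfl⟩ | ⟨rfl, rfl⟩ | ⟨rfl, rfl⟩
    · exact Or.inr (Or.inr (Or.inl ⟨D, hD, by rw [hHM, inf_assoc]⟩))
    · by_cases hq3 : 3 ≤ q
      · exact Or.inr (Or.inr (Or.inr (Or.inl ⟨hq3, D, hD, by rw [hHM, inf_assoc]⟩)))
      · have hq : q = 2 := by omega
        subst hq
        obtain ⟨D', hD', hle⟩ := Cfsg.Agent.Lib.Helper4_SUFrameTwo.refine_planes hF hD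
        exact Or.inr (Or.inr (Or.inl ⟨D', hD', eq_inf_of_le_of_le hH hHM hle (hE.dec hD'.decomp)⟩))
    · exact Or.inr (Or.inr (Or.inr (Or.inr (Or.inl ⟨D, hD, by rw [hHM, inf_assoc]⟩))))
  · -- totally singular pair
    have hk4 : k = 4 := by omega
    subst hk4
    exact Or.inr (Or.inr (Or.inr (Or.inr (Or.inr (Or.inl ⟨D, hD, hDts, by rw [hHM, inf_assoc]⟩)))))
  · exact Or.inr (Or.inr (Or.inr (Or.inr (Or.inr (Or.inr (Or.inr (Or.inl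
      ⟨F₀, r, P, hr, hodd, hcard, hfrs, by rw [hHM, inf_assoc]⟩)))))))
  · exact Or.inr (Or.inr (Or.inr (Or.inr (Or.inr (Or.inr (Or.inr (Or.inr (Or.inr (Or.inl
      ⟨hq, F₀, P, hcard, hfrs, by rw [hHM, inf_assoc]⟩)))))))))
  · exact Or.inr (Or.inr (Or.inr (Or.inr (Or.inr (Or.inr (Or.inr (Or.inr (Or.inl
      ⟨F₀, P, ζ, hcard, hζ0, hζ, hfrs, hiso, by rw [hHM, inf_assoc]⟩))))))))
  · -- class 6
    have hcard := c6_card (by norm_num : 0 < 8) hR hirr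
    have hrpr := hR.prime
    rcases hcase with ⟨hrodd, hZ, hk1, hRc⟩ | ⟨h2, he2, hZ, hRc⟩
    · exfalso
      rw [hZ, hRc, pow_add, pow_one] at hcard
      have h3 : r ^ (2 * k) = 8 ^ 2 := Nat.eq_of_mul_eq_mul_left hrpr.pos hcard
      have h4 : r ∣ 2 ^ 6 := by
        have : (2 : ℕ) ^ 6 = 8 ^ 2 := by norm_num
        rw [this, ← h3]
        exact dvd_pow_self r (by omega)
      have hr2 : r = 2 := (Nat.prime_dvd_prime_iff_eq hrpr Nat.prime_two).1 (hrpr.dvd_of_dvd_pow h4)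
      rw [hr2] at hrodd
      exact absurd hrodd (by decide)
    · subst h2
      subst he2
      rw [hZ, hRc, pow_add] at hcard
      have h3 : 2 ^ (2 * k) = 8 ^ 2 := Nat.eq_of_mul_eq_mul_left (by norm_num) hcard
      have hk3 : k = 3 := by
        have h5 : (2 : ℕ) ^ (2 * k) = 2 ^ 6 := by rw [h3]; norm_num
        have := Nat.pow_right_injective (le_refl 2) h5
        omega
      subst hk3
      obtain ⟨hp, hchar, hcardF, hdvd, hminp⟩ := hmin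
      rw [hZ] at hdvd hminp
      have hqp : q = p := by
        rw [hF] at hcardF
        exact Nat.pow_left_injective (n := 2) (by norm_num) hcardF
      have hp4 : p % 4 = 3 := by
        have h1 := hminp 1 (by norm_num) (by norm_num)
        rw [pow_one] at h1
        have hp1 : 1 ≤ p := hp.one_lt.le
        have hmod : p % 4 = 0 ∨ p % 4 = 1 ∨ p % 4 = 2 ∨ p % 4 = 3 := by omega
        rcases hmod with h | h | h | h
        · exfalso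
          have h6 : p ^ 2 % 4 = 0 := by rw [Nat.pow_mod, h]
          have h7 : 1 ≤ p ^ 2 := Nat.one_le_pow _ _ hp1
          omega
        · exfalso
          apply h1
          omega
        · exfalso
          have h6 : p ^ 2 % 4 = 0 := by rw [Nat.pow_mod, h]
          have h7 : 1 ≤ p ^ 2 := Nat.one_le_pow _ _ hp1
          omega
        · exact h
      exact Or.inr (Or.inr (Or.inr (Or.inr (Or.inr (Or.inr (Or.inr (Or.inr (Or.inr (Or.inr (Or.inl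
        ⟨p, R, hp, hqp, hp4, hR, hirr, hsim, by rw [hRc]; norm_num, hZ, by rw [hHM, inf_assoc]⟩))))))))))
  · -- extension field: no odd prime divides 8
    exfalso
    have hr8 : r ∣ 8 := Cfsg.Agent.Lib.Helper30_AschMax.dvd_of_isFieldSubalgebra (by norm_num) hK
    have h4 : r ∣ 2 ^ 3 := by
      have : (2 : ℕ) ^ 3 = 8 := by norm_num
      rw [this]
      exact hr8
    have hr2 : r = 2 := (Nat.prime_dvd_prime_iff_eq hr Nat.prime_two).1 (hr.dvd_of_dvd_pow h4)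
    rw [hr2] at hodd
    exact absurd hodd (by decide)
  · -- tensor product
    have hcard : 8 = n₁ * n₂ := by
      have := Fintype.card_congr e
      simpa using this
    have h3 : n₁ ≤ 8 := Nat.le_of_dvd (by norm_num) ⟨n₂, hcard⟩
    have h4 : n₂ ≤ 8 := Nat.le_of_dvd (by norm_num) ⟨n₁, by rw [hcard, mul_comm]⟩
    have h5 : n₁ = 2 ∧ n₂ = 4 := by
      interval_cases n₁ <;> interval_cases n₂ <;> omega
    obtain ⟨rfl, rfl⟩ := h5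
    by_cases hq3 : 3 ≤ q
    · exact Or.inr (Or.inr (Or.inr (Or.inr (Or.inr (Or.inr (Or.inl
        ⟨hq3, e, P, f₁, f₂, hf₁, hf₂, hstr, by rw [hHM, inf_assoc]⟩))))))
    · have hq : q = 2 := by omega
      subst hq
      obtain ⟨D', hD', hle⟩ := Cfsg.Agent.Lib.Helper39_SUTensorTwo.refine_tensor hF (by norm_num) e P f₁ f₂
        hf₁ hf₂ hstr
      exact Or.inr (Or.inr (Or.inr (Or.inr (Or.inl
        ⟨D', hD', eq_inf_of_le_of_le hH hHM hle (hE.dec hD'.decomp)⟩))))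
  · -- tensor wreath: impossible
    exfalso
    have hcard : 8 = k ^ t := by
      have := Fintype.card_congr e
      simpa using this
    have h1 : k ^ 2 ≤ k ^ t := Nat.pow_le_pow_right (by omega) ht
    have h2 : 3 ^ 2 ≤ k ^ 2 := Nat.pow_le_pow_left hk 2
    omega

end Cfsg.Agent.Lib.Helper39_SURow8
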