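import Mathlib
import Cfsg.Prelude.Def_GeometricClasses
import Cfsg.Prelude.Def_LieClassical
import Cfsg.Agent.Lib.Helper39_SURows
import Cfsg.Agent.Lib.Helper39_SURow8
import Cfsg.Agent.Lib.Helper39_SUTensorTwo
import Cfsg.Agent.Lib.Helper4_SUFrameTwo

/-!
helper39: the rows "maximal subgroups of `SU_10(q)`" and "maximal subgroups of `SU_12(q)`" from the exclusion
facts `Excl` and the frozen statement S5663 taken as a hypothesis.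
-/

set_option autoImplicit false

namespace Cfsg.Agent.Lib.Helper39_SURow1012

open Matrix Cfsg.Geo Cfsg.Agent.Lib.Helper39_SUAschMax Cfsg.Agent.Lib.Helper39_SURows
  Cfsg.Agent.Lib.Helper39_SURow8

variable {F : Type*} [Field F] [Fintype F] {q : ℕ}

lemma mul_eq_ten {t k : ℕ} (ht : 2 ≤ t) (h : t * k = 10) :
    (t = 10 ∧ k = 1) ∨ (t = 5 ∧ k = 2) ∨ (t = 2 ∧ k = 5) := by
  have ht8 : t ≤ 10 := Nat.le_of_dvd (by norm_num) ⟨k, h.symm⟩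
  interval_cases t <;> omega

lemma mul_eq_twelve {t k : ℕ} (ht : 2 ≤ t) (h : t * k = 12) :
    (t = 12 ∧ k = 1) ∨ (t = 6 ∧ k = 2) ∨ (t = 4 ∧ k = 3) ∨ (t = 3 ∧ k = 4) ∨ (t = 2 ∧ k = 6) := by
  have ht8 : t ≤ 12 := Nat.le_of_dvd (by norm_num) ⟨k, h.symm⟩
  interval_cases t <;> omega

/-- `n ^ 2` is not a prime power when two distinct primes divide `n` -/
lemma not_prime_pow_sq {n r j a b : ℕ} (hr : r.Prime) (ha : a.Prime) (hb : b.Prime) (hab : a ≠ b)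
    (han : a ∣ n) (hbn : b ∣ n) (h : r ^ j = n ^ 2) : False := by
  have h1 : a ∣ r ^ j := by rw [h]; exact dvd_pow han two_ne_zero
  have h2 : b ∣ r ^ j := by rw [h]; exact dvd_pow hbn two_ne_zero
  have e1 := (Nat.prime_dvd_prime_iff_eq ha hr).1 (ha.dvd_of_dvd_pow h1)
  have e2 := (Nat.prime_dvd_prime_iff_eq hb hr).1 (hb.dvd_of_dvd_pow h2)
  exact hab (e1.trans e2.symm)

/-- class 6 does not occur in dimension `n` divisible by two distinct primes -/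
lemma no_c6 {n : ℕ} (hn : 0 < n) {a b : ℕ} (ha : a.Prime) (hb : b.Prime) (hab : a ≠ b)
    (han : a ∣ n) (hbn : b ∣ n) {r : ℕ} {R : Subgroup (GL (Fin n) F)} {k : ℕ}
    (hR : IsSymplecticTypeGroup r R) (hirr : ActsAbsolutelyIrreducibly (matrixSet R))
    (hcase : (Odd r ∧ Nat.card (Subgroup.center R) = r ∧ 1 ≤ k ∧ Nat.card R = r ^ (1 + 2 * k)) ∨
      (r = 2 ∧ Nat.card (Subgroup.center R) = 4 ∧ Nat.card R = 2 ^ (2 + 2 * k))) : False := by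
  have hcard := c6_card hn hR hirr
  have hrpr := hR.prime
  rcases hcase with ⟨-, hZ, -, hRc⟩ | ⟨h2, hZ, hRc⟩
  · rw [hZ, hRc, pow_add, pow_one] at hcard
    exact not_prime_pow_sq hrpr ha hb hab han hbn (Nat.eq_of_mul_eq_mul_left hrpr.pos hcard)
  · subst h2
    rw [hZ, hRc, pow_add] at hcard
    exact not_prime_pow_sq Nat.prime_two ha hb hab han hbn
      (Nat.eq_of_mul_eq_mul_left (by norm_num) hcard)

theorem su10_cases (hF : Fintype.card F = q ^ 2) (hE : Excl 10 F q) (hA : SUAschHyp 10 F q)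
    (H : Subgroup (GL (Fin 10) F)) (hH : IsMaximalIn (Cfsg.GU 10 F q ⊓ specialLinear (Fin 10) F) H) :
    (∃ W : Submodule F (Fin 10 → F), W ≠ ⊥ ∧ Cfsg.Geo.IsTotallySingularFor (Cfsg.hermForm 10 F q) W ∧ H = Cfsg.Geo.subspaceStabilizer W ⊓ (Cfsg.GU 10 F q ⊓ Cfsg.Geo.specialLinear (Fin 10) F)) ∨
    (∃ W : Submodule F (Fin 10 → F), W ≠ ⊥ ∧ Cfsg.Geo.IsNondegenerateOn (Cfsg.hermForm 10 F q) W ∧ 2 * Module.finrank F W < 10 ∧ H = Cfsg.Geo.subspaceStabilizer W ⊓ (Cfsg.GU 10 F q ⊓ Cfsg.Geo.specialLinear (Fin 10) F)) ∨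
    (∃ D : Fin 10 → Submodule F (Fin 10 → F), Cfsg.Geo.IsNondegenerateMDecomposition (Cfsg.hermForm 10 F q) 1 D ∧ H = Cfsg.Geo.decompositionStabilizer D ⊓ (Cfsg.GU 10 F q ⊓ Cfsg.Geo.specialLinear (Fin 10) F)) ∨
    (3 ≤ q ∧ ∃ D : Fin 5 → Submodule F (Fin 10 → F), Cfsg.Geo.IsNondegenerateMDecomposition (Cfsg.hermForm 10 F q) 2 D ∧ H = Cfsg.Geo.decompositionStabilizer D ⊓ (Cfsg.GU 10 F q ⊓ Cfsg.Geo.specialLinear (Fin 10) F)) ∨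
    (∃ D : Fin 2 → Submodule F (Fin 10 → F), Cfsg.Geo.IsNondegenerateMDecomposition (Cfsg.hermForm 10 F q) 5 D ∧ H = Cfsg.Geo.decompositionStabilizer D ⊓ (Cfsg.GU 10 F q ⊓ Cfsg.Geo.specialLinear (Fin 10) F)) ∨
    (∃ D : Fin 2 → Submodule F (Fin 10 → F), Cfsg.Geo.IsMDecomposition 5 D ∧ (∀ i, Cfsg.Geo.IsTotallySingularFor (Cfsg.hermForm 10 F q) (D i)) ∧ H = Cfsg.Geo.decompositionStabilizer D ⊓ (Cfsg.GU 10 F q ⊓ Cfsg.Geo.specialLinear (Fin 10) F)) ∨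
    (∃ K : Subalgebra F (Matrix (Fin 10) (Fin 10) F), Cfsg.Geo.IsFieldSubalgebra 5 K ∧ Cfsg.Geo.IsAdjointClosedFor (Cfsg.hermForm 10 F q) K ∧ H = Cfsg.Geo.subalgebraNormalizer K ⊓ (Cfsg.GU 10 F q ⊓ Cfsg.Geo.specialLinear (Fin 10) F)) ∨
    (3 ≤ q ∧ ∃ (e : Fin 10 ≃ Fin 2 × Fin 5) (P : Matrix.GeneralLinearGroup (Fin 10) F) (f₁ : (Fin 2 → F) → (Fin 2 → F) → F) (f₂ : (Fin 5 → F) → (Fin 5 → F) → F), Cfsg.Geo.IsUnitaryFormPow q f₁ ∧ Cfsg.Geo.IsUnitaryFormPow q f₂ ∧ Cfsg.Geo.IsTensorFormStructure (fun x : F => x ^ q) (Cfsg.hermForm 10 F q) f₁ f₂ e P ∧ H = Cfsg.Geo.tensorProductSubgroup 2 5 e P ⊓ (Cfsg.GU 10 F q ⊓ Cfsg.Geo.specialLinear (Fin 10) F)) ∨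
    (∃ (F₀ : Subfield F) (r : ℕ) (P : Matrix.GeneralLinearGroup (Fin 10) F), r.Prime ∧ Odd r ∧ Fintype.card F = Nat.card F₀ ^ r ∧ Cfsg.Geo.IsFormRationalStructure (Cfsg.hermForm 10 F q) F₀ 1 P ∧ H = Cfsg.Geo.subfieldSubgroup F₀ P ⊓ (Cfsg.GU 10 F q ⊓ Cfsg.Geo.specialLinear (Fin 10) F)) ∨
    (∃ (F₀ : Subfield F) (P : Matrix.GeneralLinearGroup (Fin 10) F) (ζ : F), Fintype.card F = Nat.card F₀ ^ 2 ∧ ζ ≠ 0 ∧ ζ + ζ ^ q = 0 ∧ Cfsg.Geo.IsFormRationalStructure (Cfsg.hermForm 10 F q) F₀ ζ P ∧ (∀ u : Fin 10 → F, (∀ i, u i ∈ F₀) → (Cfsg.hermForm 10 F q) (Matrix.mulVec (P : Matrix (Fin 10) (Fin 10) F) u) (Matrix.mulVec (P : Matrix (Fin 10) (Fin 10) F) u) = 0) ∧ H = Cfsg.Geo.subfieldSubgroup F₀ P ⊓ (Cfsg.GU 10 F q ⊓ Cfsg.Geo.specialLinear (Fin 10) F)) ∨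
    (Odd q ∧ ∃ (F₀ : Subfield F) (P : Matrix.GeneralLinearGroup (Fin 10) F), Fintype.card F = Nat.card F₀ ^ 2 ∧ Cfsg.Geo.IsFormRationalStructure (Cfsg.hermForm 10 F q) F₀ 1 P ∧ H = Cfsg.Geo.subfieldSubgroup F₀ P ⊓ (Cfsg.GU 10 F q ⊓ Cfsg.Geo.specialLinear (Fin 10) F)) ∨
    Cfsg.Geo.InUnitaryResidualClass H := by
  have hq2 : 2 ≤ q := Cfsg.Agent.Lib.Helper13_Herm.two_le_q hF
  rcases normal_form (by norm_num) hE hA H hH with ⟨M, hM, hHM⟩ | hres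
  swap
  · exact Or.inr (Or.inr (Or.inr (Or.inr (Or.inr (Or.inr (Or.inr (Or.inr (Or.inr (Or.inr (Or.inr (hres)))))))))))
  simp only [InUnitaryClass, InUnitaryPartialClass] at hM
  rcases hM with (⟨W, hW0, hWts, rfl⟩ | ⟨W, hW0, hWnd, hWlt, rfl⟩ | ⟨t, k, D, hD, rfl⟩ |
      ⟨k, D, hk, hD, hDts, rfl⟩ | ⟨F₀, r, P, hr, hodd, hcard, hfrs, rfl⟩ | ⟨F₀, P, hq, hcard, hfrs, rfl⟩ |
      ⟨F₀, P, ζ, heven, hcard, hζ0, hζ, hfrs, hiso, rfl⟩ |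
      ⟨r, R, p, e, k, hR, hirr, hsim, hrp, hmin, hcase, rfl⟩) |
    ⟨r, K, hr, hodd, hK, hadj, rfl⟩ | ⟨n₁, n₂, e, P, f₁, f₂, h1, h2, hf₁, hf₂, hstr, rfl⟩ |
    ⟨k, t, e, P, f₁, hk, ht, hqk, hf₁, hstr, rfl⟩
  · exact Or.inl ⟨W, hW0, hWts, by rw [hHM, inf_assoc]⟩
  · exact Or.inr (Or.inl ⟨W, hW0, hWnd, hWlt, by rw [hHM, inf_assoc]⟩)
  · -- nondegenerate decomposition
    have htm : t * k = 10 := Cfsg.Agent.Lib.Helper98_Decomp.card_eq hD.decomp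
    rcases mul_eq_ten hD.decomp.two_le htm with ⟨rfl, rfl⟩ | ⟨rfl, rfl⟩ | ⟨rfl, rfl⟩
    · exact Or.inr (Or.inr (Or.inl ⟨D, hD, by rw [hHM, inf_assoc]⟩))
    · by_cases hq3 : 3 ≤ q
      · exact Or.inr (Or.inr (Or.inr (Or.inl ⟨hq3, D, hD, by rw [hHM, inf_assoc]⟩)))
      · have hq : q = 2 := by omega
        subst hq
        obtain ⟨D', hD', hle⟩ := Cfsg.Agent.Lib.Helper4_SUFrameTwo.refine_planes hF hD
        exact Or.inr (Or.inr (Or.inl ⟨D', hD', eq_inf_of_le_of_le hH hHM hle (hE.dec hD'.decomp)⟩))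
    · exact Or.inr (Or.inr (Or.inr (Or.inr (Or.inl ⟨D, hD, by rw [hHM, inf_assoc]⟩))))
  · -- totally singular pair
    have hk5 : k = 5 := by omega
    subst hk5
    exact Or.inr (Or.inr (Or.inr (Or.inr (Or.inr (Or.inl ⟨D, hD, hDts, by rw [hHM, inf_assoc]⟩)))))
  · exact Or.inr (Or.inr (Or.inr (Or.inr (Or.inr (Or.inr (Or.inr (Or.inr (Or.inl ⟨F₀, r, P, hr, hodd, hcard, hfrs, by rw [hHM, inf_assoc]⟩))))))))
  · exact Or.inr (Or.inr (Or.inr (Or.inr (Or.inr (Or.inr (Or.inr (Or.inr (Or.inr (Or.inr (Or.inl ⟨hq, F₀, P, hcard, hfrs, by rw [hHM, inf_assoc]⟩))))))))))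
  · exact Or.inr (Or.inr (Or.inr (Or.inr (Or.inr (Or.inr (Or.inr (Or.inr (Or.inr (Or.inl ⟨F₀, P, ζ, hcard, hζ0, hζ, hfrs, hiso, by rw [hHM, inf_assoc]⟩)))))))))
  · -- class 6: impossible
    exfalso
    refine no_c6 (k := k) (by norm_num : 0 < 10) Nat.prime_two Nat.prime_five (by norm_num) (by norm_num) (by norm_num)
      hR hirr ?_
    rcases hcase with h | ⟨h2, -, hZ, hRc⟩
    · exact Or.inl h
    · exact Or.inr ⟨h2, hZ, hRc⟩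
  · -- extension field
    have hr10 : r ∣ 10 := Cfsg.Agent.Lib.Helper30_AschMax.dvd_of_isFieldSubalgebra (by norm_num) hK
    have hr5 : r = 5 := by
      have h4 : r ∣ 2 * 5 := hr10
      rcases (Nat.Prime.dvd_mul hr).mp h4 with h | h
      · have hr2 : r = 2 := (Nat.prime_dvd_prime_iff_eq hr Nat.prime_two).1 h
        rw [hr2] at hodd
        exact absurd hodd (by decide)
      · exact (Nat.prime_dvd_prime_iff_eq hr Nat.prime_five).1 h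
    subst hr5
    exact Or.inr (Or.inr (Or.inr (Or.inr (Or.inr (Or.inr (Or.inl ⟨K, hK, hadj, by rw [hHM, inf_assoc]⟩))))))
  · -- tensor product
    have hcard : 10 = n₁ * n₂ := by
      have := Fintype.card_congr e
      simpa using this
    have h3 : n₁ ≤ 10 := Nat.le_of_dvd (by norm_num) ⟨n₂, hcard⟩
    have h4 : n₂ ≤ 10 := Nat.le_of_dvd (by norm_num) ⟨n₁, by rw [hcard, mul_comm]⟩
    have h5 : n₁ = 2 ∧ n₂ = 5 := by
      interval_cases n₁ <;> interval_cases n₂ <;> omega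
    obtain ⟨rfl, rfl⟩ := h5
    by_cases hq3 : 3 ≤ q
    · exact Or.inr (Or.inr (Or.inr (Or.inr (Or.inr (Or.inr (Or.inr (Or.inl ⟨hq3, e, P, f₁, f₂, hf₁, hf₂, hstr, by rw [hHM, inf_assoc]⟩)))))))
    · have hq : q = 2 := by omega
      subst hq
      obtain ⟨D', hD', hle⟩ := Cfsg.Agent.Lib.Helper39_SUTensorTwo.refine_tensor hF (by norm_num) e P f₁ f₂
        hf₁ hf₂ hstr
      exact Or.inr (Or.inr (Or.inr (Or.inr (Or.inl ⟨D', hD', eq_inf_of_le_of_le hH hHM hle (hE.dec hD'.decomp)⟩))))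
  · -- tensor wreath: impossible
    exfalso
    have hcard : 10 = k ^ t := by
      have := Fintype.card_congr e
      simpa using this
    have h1 : k ^ 2 ≤ k ^ t := Nat.pow_le_pow_right (by omega) ht
    have hk3 : k = 3 := by
      have : k ≤ 3 := by nlinarith
      omega
    subst hk3
    by_cases ht2 : t = 2
    · subst ht2
      norm_num at hcard
    · have h3 : 3 ≤ t := by omega
      have := Nat.pow_le_pow_right (show 0 < 3 by norm_num) h3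
      omega

theorem su12_cases (hF : Fintype.card F = q ^ 2) (hE : Excl 12 F q) (hA : SUAschHyp 12 F q)
    (H : Subgroup (GL (Fin 12) F)) (hH : IsMaximalIn (Cfsg.GU 12 F q ⊓ specialLinear (Fin 12) F) H) :
    (∃ W : Submodule F (Fin 12 → F), W ≠ ⊥ ∧ Cfsg.Geo.IsTotallySingularFor (Cfsg.hermForm 12 F q) W ∧ H = Cfsg.Geo.subspaceStabilizer W ⊓ (Cfsg.GU 12 F q ⊓ Cfsg.Geo.specialLinear (Fin 12) F)) ∨
    (∃ W : Submodule F (Fin 12 → F), W ≠ ⊥ ∧ Cfsg.Geo.IsNondegenerateOn (Cfsg.hermForm 12 F q) W ∧ 2 * Module.finrank F W < 12 ∧ H = Cfsg.Geo.subspaceStabilizer W ⊓ (Cfsg.GU 12 F q ⊓ Cfsg.Geo.specialLinear (Fin 12) F)) ∨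
    (∃ D : Fin 12 → Submodule F (Fin 12 → F), Cfsg.Geo.IsNondegenerateMDecomposition (Cfsg.hermForm 12 F q) 1 D ∧ H = Cfsg.Geo.decompositionStabilizer D ⊓ (Cfsg.GU 12 F q ⊓ Cfsg.Geo.specialLinear (Fin 12) F)) ∨
    (3 ≤ q ∧ ∃ D : Fin 6 → Submodule F (Fin 12 → F), Cfsg.Geo.IsNondegenerateMDecomposition (Cfsg.hermForm 12 F q) 2 D ∧ H = Cfsg.Geo.decompositionStabilizer D ⊓ (Cfsg.GU 12 F q ⊓ Cfsg.Geo.specialLinear (Fin 12) F)) ∨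
    (∃ D : Fin 4 → Submodule F (Fin 12 → F), Cfsg.Geo.IsNondegenerateMDecomposition (Cfsg.hermForm 12 F q) 3 D ∧ H = Cfsg.Geo.decompositionStabilizer D ⊓ (Cfsg.GU 12 F q ⊓ Cfsg.Geo.specialLinear (Fin 12) F)) ∨
    (∃ D : Fin 3 → Submodule F (Fin 12 → F), Cfsg.Geo.IsNondegenerateMDecomposition (Cfsg.hermForm 12 F q) 4 D ∧ H = Cfsg.Geo.decompositionStabilizer D ⊓ (Cfsg.GU 12 F q ⊓ Cfsg.Geo.specialLinear (Fin 12) F)) ∨
    (∃ D : Fin 2 → Submodule F (Fin 12 → F), Cfsg.Geo.IsNondegenerateMDecomposition (Cfsg.hermForm 12 F q) 6 D ∧ H = Cfsg.Geo.decompositionStabilizer D ⊓ (Cfsg.GU 12 F q ⊓ Cfsg.Geo.specialLinear (Fin 12) F)) ∨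
    (∃ D : Fin 2 → Submodule F (Fin 12 → F), Cfsg.Geo.IsMDecomposition 6 D ∧ (∀ i, Cfsg.Geo.IsTotallySingularFor (Cfsg.hermForm 12 F q) (D i)) ∧ H = Cfsg.Geo.decompositionStabilizer D ⊓ (Cfsg.GU 12 F q ⊓ Cfsg.Geo.specialLinear (Fin 12) F)) ∨
    (∃ K : Subalgebra F (Matrix (Fin 12) (Fin 12) F), Cfsg.Geo.IsFieldSubalgebra 3 K ∧ Cfsg.Geo.IsAdjointClosedFor (Cfsg.hermForm 12 F q) K ∧ H = Cfsg.Geo.subalgebraNormalizer K ⊓ (Cfsg.GU 12 F q ⊓ Cfsg.Geo.specialLinear (Fin 12) F)) ∨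
    (3 ≤ q ∧ ∃ (e : Fin 12 ≃ Fin 2 × Fin 6) (P : Matrix.GeneralLinearGroup (Fin 12) F) (f₁ : (Fin 2 → F) → (Fin 2 → F) → F) (f₂ : (Fin 6 → F) → (Fin 6 → F) → F), Cfsg.Geo.IsUnitaryFormPow q f₁ ∧ Cfsg.Geo.IsUnitaryFormPow q f₂ ∧ Cfsg.Geo.IsTensorFormStructure (fun x : F => x ^ q) (Cfsg.hermForm 12 F q) f₁ f₂ e P ∧ H = Cfsg.Geo.tensorProductSubgroup 2 6 e P ⊓ (Cfsg.GU 12 F q ⊓ Cfsg.Geo.specialLinear (Fin 12) F)) ∨
    (∃ (e : Fin 12 ≃ Fin 3 × Fin 4) (P : Matrix.GeneralLinearGroup (Fin 12) F) (f₁ : (Fin 3 → F) → (Fin 3 → F) → F) (f₂ : (Fin 4 → F) → (Fin 4 → F) → F), Cfsg.Geo.IsUnitaryFormPow q f₁ ∧ Cfsg.Geo.IsUnitaryFormPow q f₂ ∧ Cfsg.Geo.IsTensorFormStructure (fun x : F => x ^ q) (Cfsg.hermForm 12 F q) f₁ f₂ e P ∧ H = Cfsg.Geo.tensorProductSubgroup 3 4 e P ⊓ (Cfsg.GU 12 F q ⊓ Cfsg.Geo.specialLinear (Fin 12) F)) ∨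
    (∃ (F₀ : Subfield F) (r : ℕ) (P : Matrix.GeneralLinearGroup (Fin 12) F), r.Prime ∧ Odd r ∧ Fintype.card F = Nat.card F₀ ^ r ∧ Cfsg.Geo.IsFormRationalStructure (Cfsg.hermForm 12 F q) F₀ 1 P ∧ H = Cfsg.Geo.subfieldSubgroup F₀ P ⊓ (Cfsg.GU 12 F q ⊓ Cfsg.Geo.specialLinear (Fin 12) F)) ∨
    (∃ (F₀ : Subfield F) (P : Matrix.GeneralLinearGroup (Fin 12) F) (ζ : F), Fintype.card F = Nat.card F₀ ^ 2 ∧ ζ ≠ 0 ∧ ζ + ζ ^ q = 0 ∧ Cfsg.Geo.IsFormRationalStructure (Cfsg.hermForm 12 F q) F₀ ζ P ∧ (∀ u : Fin 12 → F, (∀ i, u i ∈ F₀) → (Cfsg.hermForm 12 F q) (Matrix.mulVec (P : Matrix (Fin 12) (Fin 12) F) u) (Matrix.mulVec (P : Matrix (Fin 12) (Fin 12) F) u) = 0) ∧ H = Cfsg.Geo.subfieldSubgroup F₀ P ⊓ (Cfsg.GU 12 F q ⊓ Cfsg.Geo.specialLinear (Fin 12) F)) ∨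
    (Odd q ∧ ∃ (F₀ : Subfield F) (P : Matrix.GeneralLinearGroup (Fin 12) F), Fintype.card F = Nat.card F₀ ^ 2 ∧ Cfsg.Geo.IsFormRationalStructure (Cfsg.hermForm 12 F q) F₀ 1 P ∧ H = Cfsg.Geo.subfieldSubgroup F₀ P ⊓ (Cfsg.GU 12 F q ⊓ Cfsg.Geo.specialLinear (Fin 12) F)) ∨
    Cfsg.Geo.InUnitaryResidualClass H := by
  have hq2 : 2 ≤ q := Cfsg.Agent.Lib.Helper13_Herm.two_le_q hF
  rcases normal_form (by norm_num) hE hA H hH with ⟨M, hM, hHM⟩ | hres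
  swap
  · exact Or.inr (Or.inr (Or.inr (Or.inr (Or.inr (Or.inr (Or.inr (Or.inr (Or.inr (Or.inr (Or.inr (Or.inr (Or.inr (Or.inr (hres))))))))))))))
  simp only [InUnitaryClass, InUnitaryPartialClass] at hM
  rcases hM with (⟨W, hW0, hWts, rfl⟩ | ⟨W, hW0, hWnd, hWlt, rfl⟩ | ⟨t, k, D, hD, rfl⟩ |
      ⟨k, D, hk, hD, hDts, rfl⟩ | ⟨F₀, r, P, hr, hodd, hcard, hfrs, rfl⟩ | ⟨F₀, P, hq, hcard, hfrs, rfl⟩ |
      ⟨F₀, P, ζ, heven, hcard, hζ0, hζ, hfrs, hiso, rfl⟩ |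
      ⟨r, R, p, e, k, hR, hirr, hsim, hrp, hmin, hcase, rfl⟩) |
    ⟨r, K, hr, hodd, hK, hadj, rfl⟩ | ⟨n₁, n₂, e, P, f₁, f₂, h1, h2, hf₁, hf₂, hstr, rfl⟩ |
    ⟨k, t, e, P, f₁, hk, ht, hqk, hf₁, hstr, rfl⟩
  · exact Or.inl ⟨W, hW0, hWts, by rw [hHM, inf_assoc]⟩
  · exact Or.inr (Or.inl ⟨W, hW0, hWnd, hWlt, by rw [hHM, inf_assoc]⟩)
  · -- nondegenerate decomposition
    have htm : t * k = 12 := Cfsg.Agent.Lib.Helper98_Decomp.card_eq hD.decomp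
    rcases mul_eq_twelve hD.decomp.two_le htm with ⟨rfl, rfl⟩ | ⟨rfl, rfl⟩ | ⟨rfl, rfl⟩ | ⟨rfl, rfl⟩ |
      ⟨rfl, rfl⟩
    · exact Or.inr (Or.inr (Or.inl ⟨D, hD, by rw [hHM, inf_assoc]⟩))
    · by_cases hq3 : 3 ≤ q
      · exact Or.inr (Or.inr (Or.inr (Or.inl ⟨hq3, D, hD, by rw [hHM, inf_assoc]⟩)))
      · have hq : q = 2 := by omega
        subst hq
        obtain ⟨D', hD', hle⟩ := Cfsg.Agent.Lib.Helper4_SUFrameTwo.refine_planes hF hD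
        exact Or.inr (Or.inr (Or.inl ⟨D', hD', eq_inf_of_le_of_le hH hHM hle (hE.dec hD'.decomp)⟩))
    · exact Or.inr (Or.inr (Or.inr (Or.inr (Or.inl ⟨D, hD, by rw [hHM, inf_assoc]⟩))))
    · exact Or.inr (Or.inr (Or.inr (Or.inr (Or.inr (Or.inl ⟨D, hD, by rw [hHM, inf_assoc]⟩)))))
    · exact Or.inr (Or.inr (Or.inr (Or.inr (Or.inr (Or.inr (Or.inl ⟨D, hD, by rw [hHM, inf_assoc]⟩))))))
  · -- totally singular pair
    have hk6 : k = 6 := by omega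
    subst hk6
    exact Or.inr (Or.inr (Or.inr (Or.inr (Or.inr (Or.inr (Or.inr (Or.inl ⟨D, hD, hDts, by rw [hHM, inf_assoc]⟩)))))))
  · exact Or.inr (Or.inr (Or.inr (Or.inr (Or.inr (Or.inr (Or.inr (Or.inr (Or.inr (Or.inr (Or.inr (Or.inl ⟨F₀, r, P, hr, hodd, hcard, hfrs, by rw [hHM, inf_assoc]⟩)))))))))))
  · exact Or.inr (Or.inr (Or.inr (Or.inr (Or.inr (Or.inr (Or.inr (Or.inr (Or.inr (Or.inr (Or.inr (Or.inr (Or.inr (Or.inl ⟨hq, F₀, P, hcard, hfrs, by rw [hHM, inf_assoc]⟩)))))))))))))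
  · exact Or.inr (Or.inr (Or.inr (Or.inr (Or.inr (Or.inr (Or.inr (Or.inr (Or.inr (Or.inr (Or.inr (Or.inr (Or.inl ⟨F₀, P, ζ, hcard, hζ0, hζ, hfrs, hiso, by rw [hHM, inf_assoc]⟩))))))))))))
  · -- class 6: impossible
    exfalso
    refine no_c6 (k := k) (by norm_num : 0 < 12) Nat.prime_two Nat.prime_three (by norm_num) (by norm_num) (by norm_num)
      hR hirr ?_
    rcases hcase with h | ⟨h2, -, hZ, hRc⟩
    · exact Or.inl h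
    · exact Or.inr ⟨h2, hZ, hRc⟩
  · -- extension field
    have hr12 : r ∣ 12 := Cfsg.Agent.Lib.Helper30_AschMax.dvd_of_isFieldSubalgebra (by norm_num) hK
    have hr3 : r = 3 := by
      have h4 : r ∣ 2 ^ 2 * 3 := hr12
      rcases (Nat.Prime.dvd_mul hr).mp h4 with h | h
      · have hr2 : r = 2 := (Nat.prime_dvd_prime_iff_eq hr Nat.prime_two).1 (hr.dvd_of_dvd_pow h)
        rw [hr2] at hodd
        exact absurd hodd (by decide)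
      · exact (Nat.prime_dvd_prime_iff_eq hr Nat.prime_three).1 h
    subst hr3
    exact Or.inr (Or.inr (Or.inr (Or.inr (Or.inr (Or.inr (Or.inr (Or.inr (Or.inl ⟨K, hK, hadj, by rw [hHM, inf_assoc]⟩))))))))
  · -- tensor product
    have hcard : 12 = n₁ * n₂ := by
      have := Fintype.card_congr e
      simpa using this
    have h3 : n₁ ≤ 12 := Nat.le_of_dvd (by norm_num) ⟨n₂, hcard⟩
    have h4 : n₂ ≤ 12 := Nat.le_of_dvd (by norm_num) ⟨n₁, by rw [hcard, mul_comm]⟩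
    have h5 : (n₁ = 2 ∧ n₂ = 6) ∨ (n₁ = 3 ∧ n₂ = 4) := by
      interval_cases n₁ <;> interval_cases n₂ <;> omega
    rcases h5 with ⟨rfl, rfl⟩ | ⟨rfl, rfl⟩
    · by_cases hq3 : 3 ≤ q
      · exact Or.inr (Or.inr (Or.inr (Or.inr (Or.inr (Or.inr (Or.inr (Or.inr (Or.inr (Or.inl ⟨hq3, e, P, f₁, f₂, hf₁, hf₂, hstr, by rw [hHM, inf_assoc]⟩)))))))))
      · have hq : q = 2 := by omega
        subst hq
        obtain ⟨D', hD', hle⟩ := Cfsg.Agent.Lib.Helper39_SUTensorTwo.refine_tensor hF (by norm_num) e P f₁ f₂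
          hf₁ hf₂ hstr
        exact Or.inr (Or.inr (Or.inr (Or.inr (Or.inr (Or.inr (Or.inl ⟨D', hD', eq_inf_of_le_of_le hH hHM hle (hE.dec hD'.decomp)⟩))))))
    · exact Or.inr (Or.inr (Or.inr (Or.inr (Or.inr (Or.inr (Or.inr (Or.inr (Or.inr (Or.inr (Or.inl ⟨e, P, f₁, f₂, hf₁, hf₂, hstr, by rw [hHM, inf_assoc]⟩))))))))))
  · -- tensor wreath: impossible
    exfalso
    have hcard : 12 = k ^ t := by
      have := Fintype.card_congr e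
      simpa using this
    have h1 : k ^ 2 ≤ k ^ t := Nat.pow_le_pow_right (by omega) ht
    have hk3 : k = 3 := by
      have : k ≤ 3 := by nlinarith
      omega
    subst hk3
    by_cases ht2 : t = 2
    · subst ht2
      norm_num at hcard
    · have h3 : 3 ≤ t := by omega
      have := Nat.pow_le_pow_right (show 0 < 3 by norm_num) h3
      omega

end Cfsg.Agent.Lib.Helper39_SURow1012
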