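import Mathlib
import Cfsg.Prelude.Def_GeometricClasses
import Cfsg.Prelude.Def_LieClassical
import Cfsg.Agent.Lib.Helper39_SURows

/-!
helper39: the row "maximal subgroups of `SU_9(q)`" from the exclusion facts `Excl` and the frozen statement
S5663 taken as a hypothesis.
-/

set_option autoImplicit false

namespace Cfsg.Agent.Lib.Helper39_SURow9

open Matrix Cfsg.Geo Cfsg.Agent.Lib.Helper39_SUAschMax Cfsg.Agent.Lib.Helper39_SURows

variable {F : Type*} [Field F] [Fintype F] {q : ℕ}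

lemma mul_eq_nine {t k : ℕ} (ht : 2 ≤ t) (h : t * k = 9) : (t = 9 ∧ k = 1) ∨ (t = 3 ∧ k = 3) := by
  have ht9 : t ≤ 9 := Nat.le_of_dvd (by norm_num) ⟨k, h.symm⟩
  interval_cases t <;> omega

lemma pow_eq_nine {k t : ℕ} (hk : 3 ≤ k) (ht : 2 ≤ t) (h : 9 = k ^ t) : k = 3 ∧ t = 2 := by
  have h1 : k ^ 2 ≤ k ^ t := Nat.pow_le_pow_right (by omega) ht
  have hk3 : k = 3 := by
    have : k ≤ 3 := by nlinarith
    omega
  subst hk3
  have ht2 : t = 2 := by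
    by_contra hne
    have h3 : 3 ≤ t := by omega
    have := Nat.pow_le_pow_right (show 0 < 3 by norm_num) h3
    omega
  exact ⟨rfl, ht2⟩

theorem su9_cases (hF : Fintype.card F = q ^ 2) (hE : Excl 9 F q) (hA : SUAschHyp 9 F q)
    (H : Subgroup (GL (Fin 9) F)) (hH : IsMaximalIn (Cfsg.GU 9 F q ⊓ specialLinear (Fin 9) F) H) :
    (∃ W : Submodule F (Fin 9 → F), W ≠ ⊥ ∧ Cfsg.Geo.IsTotallySingularFor (Cfsg.hermForm 9 F q) W ∧ H = Cfsg.Geo.subspaceStabilizer W ⊓ (Cfsg.GU 9 F q ⊓ Cfsg.Geo.specialLinear (Fin 9) F)) ∨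
    (∃ W : Submodule F (Fin 9 → F), W ≠ ⊥ ∧ Cfsg.Geo.IsNondegenerateOn (Cfsg.hermForm 9 F q) W ∧ 2 * Module.finrank F W < 9 ∧ H = Cfsg.Geo.subspaceStabilizer W ⊓ (Cfsg.GU 9 F q ⊓ Cfsg.Geo.specialLinear (Fin 9) F)) ∨
    (∃ D : Fin 9 → Submodule F (Fin 9 → F), Cfsg.Geo.IsNondegenerateMDecomposition (Cfsg.hermForm 9 F q) 1 D ∧ H = Cfsg.Geo.decompositionStabilizer D ⊓ (Cfsg.GU 9 F q ⊓ Cfsg.Geo.specialLinear (Fin 9) F)) ∨
    (∃ D : Fin 3 → Submodule F (Fin 9 → F), Cfsg.Geo.IsNondegenerateMDecomposition (Cfsg.hermForm 9 F q) 3 D ∧ H = Cfsg.Geo.decompositionStabilizer D ⊓ (Cfsg.GU 9 F q ⊓ Cfsg.Geo.specialLinear (Fin 9) F)) ∨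
    (∃ K : Subalgebra F (Matrix (Fin 9) (Fin 9) F), Cfsg.Geo.IsFieldSubalgebra 3 K ∧ Cfsg.Geo.IsAdjointClosedFor (Cfsg.hermForm 9 F q) K ∧ H = Cfsg.Geo.subalgebraNormalizer K ⊓ (Cfsg.GU 9 F q ⊓ Cfsg.Geo.specialLinear (Fin 9) F)) ∨
    (∃ (F₀ : Subfield F) (r : ℕ) (P : Matrix.GeneralLinearGroup (Fin 9) F), r.Prime ∧ Odd r ∧ Fintype.card F = Nat.card F₀ ^ r ∧ Cfsg.Geo.IsFormRationalStructure (Cfsg.hermForm 9 F q) F₀ 1 P ∧ H = Cfsg.Geo.subfieldSubgroup F₀ P ⊓ (Cfsg.GU 9 F q ⊓ Cfsg.Geo.specialLinear (Fin 9) F)) ∨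
    (Odd q ∧ ∃ (F₀ : Subfield F) (P : Matrix.GeneralLinearGroup (Fin 9) F), Fintype.card F = Nat.card F₀ ^ 2 ∧ Cfsg.Geo.IsFormRationalStructure (Cfsg.hermForm 9 F q) F₀ 1 P ∧ H = Cfsg.Geo.subfieldSubgroup F₀ P ⊓ (Cfsg.GU 9 F q ⊓ Cfsg.Geo.specialLinear (Fin 9) F)) ∨
    (∃ (p : ℕ) (R : Subgroup (Matrix.GeneralLinearGroup (Fin 9) F)), p.Prime ∧ q = p ∧ p % 3 = 2 ∧ Cfsg.Geo.IsSymplecticTypeGroup 3 R ∧ Cfsg.Geo.ActsAbsolutelyIrreducibly (Cfsg.Geo.matrixSet R) ∧ R ≤ Cfsg.Geo.similarityGroup (Cfsg.hermForm 9 F q) ∧ Nat.card R = 243 ∧ Nat.card (Subgroup.center R) = 3 ∧ H = Cfsg.Geo.subgroupNormalizer R ⊓ (Cfsg.GU 9 F q ⊓ Cfsg.Geo.specialLinear (Fin 9) F)) ∨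
    (3 ≤ q ∧ ∃ (e : Fin 9 ≃ (Fin 2 → Fin 3)) (P : Matrix.GeneralLinearGroup (Fin 9) F) (f₁ : (Fin 3 → F) → (Fin 3 → F) → F), Cfsg.Geo.IsUnitaryFormPow q f₁ ∧ Cfsg.Geo.IsTensorPowerFormStructure (fun x : F => x ^ q) (Cfsg.hermForm 9 F q) f₁ e P ∧ H = Cfsg.Geo.tensorWreathSubgroup 3 2 e P ⊓ (Cfsg.GU 9 F q ⊓ Cfsg.Geo.specialLinear (Fin 9) F)) ∨
    Cfsg.Geo.InUnitaryResidualClass H := by
  rcases normal_form (by norm_num) hE hA H hH with ⟨M, hM, hHM⟩ | hres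
  swap
  · exact Or.inr (Or.inr (Or.inr (Or.inr (Or.inr (Or.inr (Or.inr (Or.inr (Or.inr hres))))))))
  simp only [InUnitaryClass, InUnitaryPartialClass] at hM
  rcases hM with (⟨W, hW0, hWts, rfl⟩ | ⟨W, hW0, hWnd, hWlt, rfl⟩ | ⟨t, k, D, hD, rfl⟩ |
      ⟨k, D, hk, -, -, rfl⟩ | ⟨F₀, r, P, hr, hodd, hcard, hfrs, rfl⟩ | ⟨F₀, P, hq, hcard, hfrs, rfl⟩ |
      ⟨F₀, P, ζ, heven, -, -, -, -, -, rfl⟩ | ⟨r, R, p, e, k, hR, hirr, hsim, hrp, hmin, hcase, rfl⟩) |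
    ⟨r, K, hr, hodd, hK, hadj, rfl⟩ | ⟨n₁, n₂, e, P, f₁, f₂, h1, h2, -, -, -, rfl⟩ |
    ⟨k, t, e, P, f₁, hk, ht, hqk, hf₁, hstr, rfl⟩
  · exact Or.inl ⟨W, hW0, hWts, by rw [hHM, inf_assoc]⟩
  · exact Or.inr (Or.inl ⟨W, hW0, hWnd, hWlt, by rw [hHM, inf_assoc]⟩)
  · -- nondegenerate decomposition
    have htm : t * k = 9 := Cfsg.Agent.Lib.Helper98_Decomp.card_eq hD.decomp
    rcases mul_eq_nine hD.decomp.two_le htm with ⟨rfl, rfl⟩ | ⟨rfl, rfl⟩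
    · exact Or.inr (Or.inr (Or.inl ⟨D, hD, by rw [hHM, inf_assoc]⟩))
    · exact Or.inr (Or.inr (Or.inr (Or.inl ⟨D, hD, by rw [hHM, inf_assoc]⟩)))
  · exfalso; omega
  · exact Or.inr (Or.inr (Or.inr (Or.inr (Or.inr (Or.inl
      ⟨F₀, r, P, hr, hodd, hcard, hfrs, by rw [hHM, inf_assoc]⟩)))))
  · exact Or.inr (Or.inr (Or.inr (Or.inr (Or.inr (Or.inr (Or.inl
      ⟨hq, F₀, P, hcard, hfrs, by rw [hHM, inf_assoc]⟩))))))
  · exfalso
    revert heven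
    decide
  · -- class 6
    have hcard := c6_card (by norm_num : 0 < 9) hR hirr
    have hrpr := hR.prime
    rcases hcase with ⟨hrodd, hZ, hk1, hRc⟩ | ⟨h2, -, hZ, hRc⟩
    · rw [hZ, hRc, pow_add, pow_one] at hcard
      have h3 : r ^ (2 * k) = 9 ^ 2 := Nat.eq_of_mul_eq_mul_left hrpr.pos hcard
      have hr3 : r = 3 := by
        have h4 : r ∣ 3 ^ 4 := by
          have : (3 : ℕ) ^ 4 = 9 ^ 2 := by norm_num
          rw [this, ← h3]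
          exact dvd_pow_self r (by omega)
        exact (Nat.prime_dvd_prime_iff_eq hrpr Nat.prime_three).1 (hrpr.dvd_of_dvd_pow h4)
      subst hr3
      have hk2 : k = 2 := by
        have h5 : (3 : ℕ) ^ (2 * k) = 3 ^ 4 := by rw [h3]; norm_num
        have := Nat.pow_right_injective (le_refl 2 |>.trans (by norm_num : 2 ≤ 3)) h5
        omega
      subst hk2
      rw [hZ] at hmin
      obtain ⟨j, hj0, -, hqj, hdvd, hone, hminj⟩ := unitary_minimalField hF hrpr hrp hmin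
      have hj1 : j = 1 := by
        have hle : 2 * j ≤ 2 := Nat.le_of_dvd (by norm_num) hdvd
        omega
      subst hj1
      rw [pow_one] at hqj
      refine Or.inr (Or.inr (Or.inr (Or.inr (Or.inr (Or.inr (Or.inr (Or.inl
        ⟨p, R, hmin.1, hqj, ?_, hR, hirr, hsim, by rw [hRc]; norm_num, hZ, by rw [hHM, inf_assoc]⟩)))))))
      have hne : (p : ZMod 3) ^ 1 ≠ 1 := hminj 1 (by norm_num) (by norm_num)
      have key : ∀ x : ZMod 3, x ^ (2 * 1) = 1 → x ^ 1 ≠ 1 → x = ((2 : ℕ) : ZMod 3) := by decide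
      have h6 := (ZMod.natCast_eq_natCast_iff' p 2 3).mp (key _ hone hne)
      simpa using h6
    · exfalso
      subst h2
      rw [hZ, hRc, pow_add] at hcard
      have h3 : 2 ^ (2 * k) = 9 ^ 2 := Nat.eq_of_mul_eq_mul_left (by norm_num) hcard
      have h5 : k ≠ 0 := by
        rintro rfl
        norm_num at h3
      have h6 : 2 ∣ 9 ^ 2 := by
        rw [← h3]
        exact dvd_pow_self 2 (by omega)
      revert h6
      decide
  · -- extension field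
    have hr9 : r ∣ 9 := Cfsg.Agent.Lib.Helper30_AschMax.dvd_of_isFieldSubalgebra (by norm_num) hK
    have hr3 : r = 3 := by
      have h4 : r ∣ 3 ^ 2 := by
        have : (3 : ℕ) ^ 2 = 9 := by norm_num
        rw [this]
        exact hr9
      exact (Nat.prime_dvd_prime_iff_eq hr Nat.prime_three).1 (hr.dvd_of_dvd_pow h4)
    subst hr3
    exact Or.inr (Or.inr (Or.inr (Or.inr (Or.inl ⟨K, hK, hadj, by rw [hHM, inf_assoc]⟩))))
  · -- tensor product: impossible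
    exfalso
    have hcard : 9 = n₁ * n₂ := by
      have := Fintype.card_congr e
      simpa using this
    have h3 : n₁ ≤ 9 := Nat.le_of_dvd (by norm_num) ⟨n₂, hcard⟩
    have h4 : n₂ ≤ 9 := Nat.le_of_dvd (by norm_num) ⟨n₁, by rw [hcard, mul_comm]⟩
    interval_cases n₁ <;> interval_cases n₂ <;> omega
  · -- tensor wreath
    have hcard : 9 = k ^ t := by
      have := Fintype.card_congr e
      simpa using this
    obtain ⟨rfl, rfl⟩ := pow_eq_nine hk ht hcard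
    have hq3 : 3 ≤ q := by
      have h2 := Cfsg.Agent.Lib.Helper13_Herm.two_le_q hF
      by_contra hlt
      exact hqk ⟨by omega, rfl⟩
    exact Or.inr (Or.inr (Or.inr (Or.inr (Or.inr (Or.inr (Or.inr (Or.inr (Or.inl
      ⟨hq3, e, P, f₁, hf₁, hstr, by rw [hHM, inf_assoc]⟩))))))))

end Cfsg.Agent.Lib.Helper39_SURow9
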