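import Mathlib
import Cfsg.Prelude.Def_GeometricClasses
import Cfsg.Prelude.Def_LieClassical
import Cfsg.Agent.Lib.Helper39_SURows

/-!
helper39: the rows "maximal subgroups of `SU_7(q)`" and "maximal subgroups of `SU_11(q)`" from the exclusion
facts `Excl` and the frozen statement S5663 taken as a hypothesis.
-/

set_option autoImplicit false

namespace Cfsg.Agent.Lib.Helper39_SURowPrime

open Matrix Cfsg.Geo Cfsg.Agent.Lib.Helper39_SUAschMax Cfsg.Agent.Lib.Helper39_SURows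

variable {F : Type*} [Field F] [Fintype F] {q : ℕ}

lemma natCast_zmod_eq {m : ℕ} [NeZero m] {p a : ℕ} (ha : a < m) (h : (p : ZMod m) = (a : ZMod m)) :
    p % m = a := by
  have := (ZMod.natCast_eq_natCast_iff' p a m).mp h
  rw [this, Nat.mod_eq_of_lt ha]

theorem su7_cases (hF : Fintype.card F = q ^ 2) (hE : Excl 7 F q) (hA : SUAschHyp 7 F q)
    (H : Subgroup (GL (Fin 7) F)) (hH : IsMaximalIn (Cfsg.GU 7 F q ⊓ specialLinear (Fin 7) F) H) :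
    (∃ W : Submodule F (Fin 7 → F), W ≠ ⊥ ∧ Cfsg.Geo.IsTotallySingularFor (Cfsg.hermForm 7 F q) W ∧ H = Cfsg.Geo.subspaceStabilizer W ⊓ (Cfsg.GU 7 F q ⊓ Cfsg.Geo.specialLinear (Fin 7) F)) ∨
    (∃ W : Submodule F (Fin 7 → F), W ≠ ⊥ ∧ Cfsg.Geo.IsNondegenerateOn (Cfsg.hermForm 7 F q) W ∧ 2 * Module.finrank F W < 7 ∧ H = Cfsg.Geo.subspaceStabilizer W ⊓ (Cfsg.GU 7 F q ⊓ Cfsg.Geo.specialLinear (Fin 7) F)) ∨
    (∃ D : Fin 7 → Submodule F (Fin 7 → F), Cfsg.Geo.IsNondegenerateMDecomposition (Cfsg.hermForm 7 F q) 1 D ∧ H = Cfsg.Geo.decompositionStabilizer D ⊓ (Cfsg.GU 7 F q ⊓ Cfsg.Geo.specialLinear (Fin 7) F)) ∨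
    (∃ K : Subalgebra F (Matrix (Fin 7) (Fin 7) F), Cfsg.Geo.IsFieldSubalgebra 7 K ∧ Cfsg.Geo.IsAdjointClosedFor (Cfsg.hermForm 7 F q) K ∧ H = Cfsg.Geo.subalgebraNormalizer K ⊓ (Cfsg.GU 7 F q ⊓ Cfsg.Geo.specialLinear (Fin 7) F)) ∨
    (∃ (F₀ : Subfield F) (r : ℕ) (P : Matrix.GeneralLinearGroup (Fin 7) F), r.Prime ∧ Odd r ∧ Fintype.card F = Nat.card F₀ ^ r ∧ Cfsg.Geo.IsFormRationalStructure (Cfsg.hermForm 7 F q) F₀ 1 P ∧ H = Cfsg.Geo.subfieldSubgroup F₀ P ⊓ (Cfsg.GU 7 F q ⊓ Cfsg.Geo.specialLinear (Fin 7) F)) ∨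
    (Odd q ∧ ∃ (F₀ : Subfield F) (P : Matrix.GeneralLinearGroup (Fin 7) F), Fintype.card F = Nat.card F₀ ^ 2 ∧ Cfsg.Geo.IsFormRationalStructure (Cfsg.hermForm 7 F q) F₀ 1 P ∧ H = Cfsg.Geo.subfieldSubgroup F₀ P ⊓ (Cfsg.GU 7 F q ⊓ Cfsg.Geo.specialLinear (Fin 7) F)) ∨
    (∃ (p : ℕ) (R : Subgroup (Matrix.GeneralLinearGroup (Fin 7) F)), p.Prime ∧ CharP F p ∧ ((q = p ∧ p % 7 = 6) ∨ (q = p ^ 3 ∧ (p % 7 = 3 ∨ p % 7 = 5))) ∧ Cfsg.Geo.IsSymplecticTypeGroup 7 R ∧ Cfsg.Geo.ActsAbsolutelyIrreducibly (Cfsg.Geo.matrixSet R) ∧ R ≤ Cfsg.Geo.similarityGroup (Cfsg.hermForm 7 F q) ∧ Nat.card R = 343 ∧ Nat.card (Subgroup.center R) = 7 ∧ H = Cfsg.Geo.subgroupNormalizer R ⊓ (Cfsg.GU 7 F q ⊓ Cfsg.Geo.specialLinear (Fin 7) F)) ∨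
    Cfsg.Geo.InUnitaryResidualClass H := by
  rcases prime_cases (by norm_num) (by norm_num) hF hE hA H hH with
    h | h | h | h | h | h | ⟨p, k, R, hp, hchar, hk0, hqk, hdvd, hone, hmin, hR, hirr, hsim, hRc, hZ, hHR⟩ | h
  · exact Or.inl h
  · exact Or.inr (Or.inl h)
  · exact Or.inr (Or.inr (Or.inl h))
  · exact Or.inr (Or.inr (Or.inr (Or.inl h)))
  · exact Or.inr (Or.inr (Or.inr (Or.inr (Or.inl h))))
  · exact Or.inr (Or.inr (Or.inr (Or.inr (Or.inr (Or.inl h)))))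
  · refine Or.inr (Or.inr (Or.inr (Or.inr (Or.inr (Or.inr (Or.inl
      ⟨p, R, hp, hchar, ?_, hR, hirr, hsim, by rw [hRc]; norm_num, hZ, hHR⟩))))))
    have hle : 2 * k ≤ 6 := Nat.le_of_dvd (by norm_num) hdvd
    have hle' : k ≤ 3 := by omega
    have hk : k = 1 ∨ k = 3 := by
      interval_cases k
      · exact Or.inl rfl
      · exact absurd hdvd (by decide)
      · exact Or.inr rfl
    rcases hk with rfl | rfl
    · left
      rw [pow_one] at hqk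
      refine ⟨hqk, ?_⟩
      have hne : (p : ZMod 7) ^ 1 ≠ 1 := hmin 1 (by norm_num) (by norm_num)
      have key : ∀ x : ZMod 7, x ^ (2 * 1) = 1 → x ^ 1 ≠ 1 → x = ((6 : ℕ) : ZMod 7) := by decide
      exact natCast_zmod_eq (by norm_num) (key _ hone hne)
    · right
      refine ⟨hqk, ?_⟩
      have hne1 : (p : ZMod 7) ^ 1 ≠ 1 := hmin 1 (by norm_num) (by norm_num)
      have hne2 : (p : ZMod 7) ^ 2 ≠ 1 := hmin 2 (by norm_num) (by norm_num)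
      have hne3 : (p : ZMod 7) ^ 3 ≠ 1 := hmin 3 (by norm_num) (by norm_num)
      have key : ∀ x : ZMod 7, x ^ (2 * 3) = 1 → x ^ 1 ≠ 1 → x ^ 2 ≠ 1 → x ^ 3 ≠ 1 →
          x = ((3 : ℕ) : ZMod 7) ∨ x = ((5 : ℕ) : ZMod 7) := by decide
      rcases key _ hone hne1 hne2 hne3 with h | h
      · exact Or.inl (natCast_zmod_eq (by norm_num) h)
      · exact Or.inr (natCast_zmod_eq (by norm_num) h)
  · exact Or.inr (Or.inr (Or.inr (Or.inr (Or.inr (Or.inr (Or.inr h))))))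

theorem su11_cases (hF : Fintype.card F = q ^ 2) (hE : Excl 11 F q) (hA : SUAschHyp 11 F q)
    (H : Subgroup (GL (Fin 11) F)) (hH : IsMaximalIn (Cfsg.GU 11 F q ⊓ specialLinear (Fin 11) F) H) :
    (∃ W : Submodule F (Fin 11 → F), W ≠ ⊥ ∧ Cfsg.Geo.IsTotallySingularFor (Cfsg.hermForm 11 F q) W ∧ H = Cfsg.Geo.subspaceStabilizer W ⊓ (Cfsg.GU 11 F q ⊓ Cfsg.Geo.specialLinear (Fin 11) F)) ∨
    (∃ W : Submodule F (Fin 11 → F), W ≠ ⊥ ∧ Cfsg.Geo.IsNondegenerateOn (Cfsg.hermForm 11 F q) W ∧ 2 * Module.finrank F W < 11 ∧ H = Cfsg.Geo.subspaceStabilizer W ⊓ (Cfsg.GU 11 F q ⊓ Cfsg.Geo.specialLinear (Fin 11) F)) ∨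
    (∃ D : Fin 11 → Submodule F (Fin 11 → F), Cfsg.Geo.IsNondegenerateMDecomposition (Cfsg.hermForm 11 F q) 1 D ∧ H = Cfsg.Geo.decompositionStabilizer D ⊓ (Cfsg.GU 11 F q ⊓ Cfsg.Geo.specialLinear (Fin 11) F)) ∨
    (∃ K : Subalgebra F (Matrix (Fin 11) (Fin 11) F), Cfsg.Geo.IsFieldSubalgebra 11 K ∧ Cfsg.Geo.IsAdjointClosedFor (Cfsg.hermForm 11 F q) K ∧ H = Cfsg.Geo.subalgebraNormalizer K ⊓ (Cfsg.GU 11 F q ⊓ Cfsg.Geo.specialLinear (Fin 11) F)) ∨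
    (∃ (F₀ : Subfield F) (r : ℕ) (P : Matrix.GeneralLinearGroup (Fin 11) F), r.Prime ∧ Odd r ∧ Fintype.card F = Nat.card F₀ ^ r ∧ Cfsg.Geo.IsFormRationalStructure (Cfsg.hermForm 11 F q) F₀ 1 P ∧ H = Cfsg.Geo.subfieldSubgroup F₀ P ⊓ (Cfsg.GU 11 F q ⊓ Cfsg.Geo.specialLinear (Fin 11) F)) ∨
    (Odd q ∧ ∃ (F₀ : Subfield F) (P : Matrix.GeneralLinearGroup (Fin 11) F), Fintype.card F = Nat.card F₀ ^ 2 ∧ Cfsg.Geo.IsFormRationalStructure (Cfsg.hermForm 11 F q) F₀ 1 P ∧ H = Cfsg.Geo.subfieldSubgroup F₀ P ⊓ (Cfsg.GU 11 F q ⊓ Cfsg.Geo.specialLinear (Fin 11) F)) ∨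
    (∃ (p : ℕ) (R : Subgroup (Matrix.GeneralLinearGroup (Fin 11) F)), p.Prime ∧ CharP F p ∧ ((q = p ∧ p % 11 = 10) ∨ (q = p ^ 5 ∧ (p % 11 = 2 ∨ p % 11 = 6 ∨ p % 11 = 7 ∨ p % 11 = 8))) ∧ Cfsg.Geo.IsSymplecticTypeGroup 11 R ∧ Cfsg.Geo.ActsAbsolutelyIrreducibly (Cfsg.Geo.matrixSet R) ∧ R ≤ Cfsg.GU 11 F q ∧ Nat.card R = 1331 ∧ Nat.card (Subgroup.center R) = 11 ∧ H = Cfsg.Geo.subgroupNormalizer R ⊓ (Cfsg.GU 11 F q ⊓ Cfsg.Geo.specialLinear (Fin 11) F)) ∨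
    Cfsg.Geo.InUnitaryResidualClass H := by
  rcases prime_cases (by norm_num) (by norm_num) hF hE hA H hH with
    h | h | h | h | h | h | ⟨p, k, R, hp, hchar, hk0, hqk, hdvd, hone, hmin, hR, hirr, hsim, hRc, hZ, hHR⟩ | h
  · exact Or.inl h
  · exact Or.inr (Or.inl h)
  · exact Or.inr (Or.inr (Or.inl h))
  · exact Or.inr (Or.inr (Or.inr (Or.inl h)))
  · exact Or.inr (Or.inr (Or.inr (Or.inr (Or.inl h))))
  · exact Or.inr (Or.inr (Or.inr (Or.inr (Or.inr (Or.inl h)))))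
  · -- `11 ∤ q - 1`, as `q ≡ -1 mod 11`
    have hqm : (q : ZMod 11) = -1 := by
      rw [hqk, Nat.cast_pow]
      have hle : 2 * k ≤ 10 := Nat.le_of_dvd (by norm_num) hdvd
      have hle' : k ≤ 5 := by omega
      have hk : k = 1 ∨ k = 5 := by
        interval_cases k
        · exact Or.inl rfl
        · exact absurd hdvd (by decide)
        · exact absurd hdvd (by decide)
        · exact absurd hdvd (by decide)
        · exact Or.inr rfl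
      rcases hk with rfl | rfl
      · have hne : (p : ZMod 11) ^ 1 ≠ 1 := hmin 1 (by norm_num) (by norm_num)
        have key : ∀ x : ZMod 11, x ^ (2 * 1) = 1 → x ^ 1 ≠ 1 → x ^ 1 = -1 := by decide
        exact key _ hone hne
      · have hne : (p : ZMod 11) ^ 5 ≠ 1 := hmin 5 (by norm_num) (by norm_num)
        have key : ∀ x : ZMod 11, x ^ (2 * 5) = 1 → x ^ 5 ≠ 1 → x ^ 5 = -1 := by decide
        exact key _ hone hne
    have hq1 : 1 ≤ q := by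
      have := Cfsg.Agent.Lib.Helper13_Herm.two_le_q hF
      omega
    have hrq : ¬ 11 ∣ q - 1 := by
      intro hd
      have h0 : ((q - 1 : ℕ) : ZMod 11) = 0 := (ZMod.natCast_eq_zero_iff _ _).mpr hd
      rw [Nat.cast_sub hq1, hqm] at h0
      revert h0
      decide
    have hGU : R ≤ Cfsg.GU 11 F q := le_GU_of_isPGroup hF (by norm_num) (by norm_num) hrq hR.pGroup hsim
    refine Or.inr (Or.inr (Or.inr (Or.inr (Or.inr (Or.inr (Or.inl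
      ⟨p, R, hp, hchar, ?_, hR, hirr, hGU, by rw [hRc]; norm_num, hZ, hHR⟩))))))
    have hle : 2 * k ≤ 10 := Nat.le_of_dvd (by norm_num) hdvd
    have hle' : k ≤ 5 := by omega
    have hk : k = 1 ∨ k = 5 := by
      interval_cases k
      · exact Or.inl rfl
      · exact absurd hdvd (by decide)
      · exact absurd hdvd (by decide)
      · exact absurd hdvd (by decide)
      · exact Or.inr rfl
    rcases hk with rfl | rfl
    · left
      rw [pow_one] at hqk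
      refine ⟨hqk, ?_⟩
      have hne : (p : ZMod 11) ^ 1 ≠ 1 := hmin 1 (by norm_num) (by norm_num)
      have key : ∀ x : ZMod 11, x ^ (2 * 1) = 1 → x ^ 1 ≠ 1 → x = ((10 : ℕ) : ZMod 11) := by decide
      exact natCast_zmod_eq (by norm_num) (key _ hone hne)
    · right
      refine ⟨hqk, ?_⟩
      have hne2 : (p : ZMod 11) ^ 2 ≠ 1 := hmin 2 (by norm_num) (by norm_num)
      have hne5 : (p : ZMod 11) ^ 5 ≠ 1 := hmin 5 (by norm_num) (by norm_num)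
      have key : ∀ x : ZMod 11, x ^ (2 * 5) = 1 → x ^ 2 ≠ 1 → x ^ 5 ≠ 1 →
          x = ((2 : ℕ) : ZMod 11) ∨ x = ((6 : ℕ) : ZMod 11) ∨ x = ((7 : ℕ) : ZMod 11) ∨
            x = ((8 : ℕ) : ZMod 11) := by decide
      rcases key _ hone hne2 hne5 with h | h | h | h
      · exact Or.inl (natCast_zmod_eq (by norm_num) h)
      · exact Or.inr (Or.inl (natCast_zmod_eq (by norm_num) h))
      · exact Or.inr (Or.inr (Or.inl (natCast_zmod_eq (by norm_num) h)))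
      · exact Or.inr (Or.inr (Or.inr (natCast_zmod_eq (by norm_num) h)))
  · exact Or.inr (Or.inr (Or.inr (Or.inr (Or.inr (Or.inr (Or.inr h))))))

end Cfsg.Agent.Lib.Helper39_SURowPrime
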