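import Mathlib
import Cfsg.Agent.Lib.Helper67_T2ODefs
import Cfsg.Agent.Lib.Helper94_OrthNondeg
import Cfsg.Agent.Lib.Helper82_T2_KR
import Cfsg.Agent.Lib.Helper9_T2_BR
import Cfsg.Agent.Lib.Helper78_UT2_NEXA

set_option autoImplicit false
set_option linter.unusedSectionVars false
set_option linter.unusedVariables false

/-!
Package END2 of helper67's `t2o_packages` market (TENS2O, clause (17) of S5870), by helper39:
conjugating `κ = 1 + K ⊗ π` by `1 ⊗ T`.
-/

open Module
open Cfsg.Agent.Lib.Helper94_Symp Cfsg.Agent.Lib.Helper94_OrthSmall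
  Cfsg.Agent.Lib.Helper94_OrthSiegel Cfsg.Agent.Lib.Helper94_OrthNondeg
  Cfsg.Agent.Lib.Helper67_Tens2Defs Cfsg.Agent.Lib.Helper67_T2ODefs

namespace Cfsg.Agent.Lib.Helper39_T2O_END2

variable {F W : Type*} [Field F] [Finite F] [AddCommGroup W] [Module F W] [FiniteDimensional F W]
variable {ω : LinearMap.BilinForm F W}

/-- END2 : conjugating `κ = 1 + K ⊗ π` by `1 ⊗ T`, `T v = v - (ω v d • e + ω v e • d)`:
`κ⁻¹ (1 ⊗ T) κ (1 ⊗ T)⁻¹ = 1 - adj K ⊗ P - K ⊗ P'` -/
theorem end2 (halt : ω.IsAlt)
    (M : Subgroup ((W × W) ≃ₗ[F] (W × W))) (hM : HypO ω M)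
    (e f d : W) (hef : ω e f = 1) (hde : ω d e = 0) (hdf : ω d f = 0)
    (k11 k12 k21 k22 : F) (hdet : (1 + k11) * (1 + k22) - k12 * k21 = 1)
    (κ : (W × W) ≃ₗ[F] (W × W)) (hκ : κ ∈ M)
    (hκf : ∀ u u' : W, κ (u, u') =
      (u + k11 • aw ω e f u + k12 • aw ω e f u', u' + k21 • aw ω e f u + k22 • aw ω e f u')) :
    InX ω M e d (-k22) k12 k21 (-k11) := by
  have hed : ω e d = 0 := by rw [alt_swap ω halt e d, hde, neg_zero]
  have hfd : ω f d = 0 := by rw [alt_swap ω halt f d, hdf, neg_zero]
  have hfe : ω f e = -1 := by rw [alt_swap ω halt f e, hef]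
  have hee : ω e e = 0 := halt e
  have hff : ω f f = 0 := halt f
  have hdd : ω d d = 0 := halt d
  obtain ⟨T, hTiso, hT⟩ : ∃ T : W ≃ₗ[F] W, T ∈ isoGroup ω ∧
      ∀ x, T x = x - (ω x d • e + ω x e • d) := by
    refine ⟨stv ω halt (e + d) (-1) * stv ω halt e 1 * stv ω halt d 1,
      mul_mem (mul_mem (stv_mem_isoGroup _ _ _ _) (stv_mem_isoGroup _ _ _ _))
        (stv_mem_isoGroup _ _ _ _), ?_⟩
    intro x
    simp only [LinearEquiv.mul_apply, stv_apply, map_add, map_smul,
      LinearMap.smul_apply, smul_eq_mul, hee, hed, hde, hdd, mul_zero, add_zero, zero_add,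
      one_mul, mul_one]
    module
  have hoT : oE T ∈ M := hM.oE_mem T hTiso
  refine ⟨κ⁻¹ * (oE T * κ * (oE T)⁻¹),
    mul_mem (inv_mem hκ) (mul_mem (mul_mem hoT hκ) (inv_mem hoT)), ?_⟩
  have key : ∀ v v' : W,
      κ (T v + (-k22 * ω (T v) d + k12 * ω (T v') d) • e +
          (-k11 * ω (T v) e - k12 * ω (T v') e) • d,
        T v' + (k21 * ω (T v) d + -k11 * ω (T v') d) • e +
          (-k21 * ω (T v) e + -k22 * ω (T v') e) • d) = oE T (κ (v, v')) := by
    intro v v'
    rw [hκf, hκf]
    simp only [oE_apply, hT, aw_apply, map_add, map_sub, map_smul, map_neg, LinearMap.add_apply,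
      LinearMap.sub_apply, LinearMap.smul_apply, LinearMap.neg_apply, smul_eq_mul, hee, hef, hfe,
      hed, hde, hdf, hfd, hdd, hff, mul_zero, mul_one, sub_zero, add_zero, zero_add, mul_neg,
      neg_zero, zero_mul]
    ext
    · simp only []
      match_scalars <;>
        first
          | ring1
          | linear_combination (-(ω v d)) * hdet
          | linear_combination (ω v d) * hdet
          | linear_combination (-(ω v' d)) * hdet
          | linear_combination (ω v' d) * hdet
    · simp only []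
      match_scalars <;>
        first
          | ring1
          | linear_combination (-(ω v d)) * hdet
          | linear_combination (ω v d) * hdet
          | linear_combination (-(ω v' d)) * hdet
          | linear_combination (ω v' d) * hdet
  intro u u'
  have hy : oE T ((oE T)⁻¹ (u, u')) = (u, u') := apply_inv_apply' _ _
  set y := (oE T)⁻¹ (u, u') with hydef
  have hu : T y.1 = u := by
    have := congrArg Prod.fst hy
    simpa using this
  have hu' : T y.2 = u' := by
    have := congrArg Prod.snd hy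
    simpa using this
  have hk := key y.1 y.2
  rw [hu, hu'] at hk
  simp only [LinearEquiv.mul_apply]
  rw [← hydef]
  have : (y.1, y.2) = y := rfl
  rw [this] at hk
  rw [← hk, inv_apply_apply']

end Cfsg.Agent.Lib.Helper39_T2O_END2
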