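import Mathlib
import Cfsg.Agent.Lib.Helper67_Tens2Defs

set_option autoImplicit false

/-!
# TENS2 package NDG (architect helper67): for a maximal `g`, the space `DI g` is nondegenerate
-/

namespace Cfsg.Agent.Lib.Helper79_T2_NDG

open Module
open Cfsg.Agent.Lib.Helper94_Symp Cfsg.Agent.Lib.Helper67_Tens2Defs

variable {F B : Type*} [Field F] [AddCommGroup B] [Module F B]

theorem G0_eq_range : (G0 : Submodule F (B × B)) = LinearMap.range (LinearMap.inl F B B) := by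
  ext x
  rw [mem_G0, LinearMap.mem_range]
  constructor
  · intro h; exact ⟨x.1, Prod.ext rfl h.symm⟩
  · rintro ⟨u, rfl⟩; rfl

theorem finrank_G0 : finrank F (G0 : Submodule F (B × B)) = finrank F B := by
  rw [G0_eq_range]; exact LinearMap.finrank_range_of_inj LinearMap.inl_injective

theorem finrank_Lg (g : (B × B) ≃ₗ[F] (B × B)) : finrank F (Lg g) = finrank F B := by
  unfold Lg; rw [LinearEquiv.finrank_map_eq, finrank_G0]

theorem DI_map_inl (h : (B × B) ≃ₗ[F] (B × B)) :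
    (DI h).map (LinearMap.inl F B B) = Lg h ⊓ G0 := by
  ext x
  rw [Submodule.mem_map, Submodule.mem_inf, mem_G0]
  constructor
  · rintro ⟨u, hu, rfl⟩; exact ⟨hu, rfl⟩
  · rintro ⟨hx, h2⟩
    have e : (x.1, (0 : B)) = x := Prod.ext rfl h2.symm
    refine ⟨x.1, ?_, e⟩
    rw [mem_DI, e]; exact hx

theorem finrank_DI (h : (B × B) ≃ₗ[F] (B × B)) :
    finrank F (DI h) = finrank F ↥(Lg h ⊓ (G0 : Submodule F (B × B))) := by
  rw [← DI_map_inl]
  exact (Submodule.equivMapOfInjective _ LinearMap.inl_injective _).finrank_eq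

theorem tf_Lg_zero (β : LinearMap.BilinForm F B) {g : (B × B) ≃ₗ[F] (B × B)}
    (hg : g ∈ isoGroup (tf β)) {x y : B × B} (hx : x ∈ Lg g) (hy : y ∈ Lg g) : tf β x y = 0 := by
  obtain ⟨u, rfl⟩ := mem_Lg.1 hx
  obtain ⟨u', rfl⟩ := mem_Lg.1 hy
  rw [hg (u, 0) (u', 0), tf_apply]; simp

theorem snd_mem_orth (β : LinearMap.BilinForm F B) {g : (B × B) ≃ₗ[F] (B × B)}
    (hg : g ∈ isoGroup (tf β)) {x : B × B} (hx : x ∈ Lg g) : x.2 ∈ β.orthogonal (DI g) := by
  rw [LinearMap.BilinForm.mem_orthogonal_iff]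
  intro n hn
  have := tf_Lg_zero β hg (mem_DI.1 hn) hx
  rw [tf_apply] at this
  show β n x.2 = 0
  simpa using this

theorem exists_snd [FiniteDimensional F B] (β : LinearMap.BilinForm F B) (hn : β.Nondegenerate)
    {g : (B × B) ≃ₗ[F] (B × B)} (hg : g ∈ isoGroup (tf β)) {r : B}
    (hr : r ∈ β.orthogonal (DI g)) : ∃ x ∈ Lg g, x.2 = r := by
  set φ : Lg g →ₗ[F] B := (LinearMap.snd F B B).domRestrict (Lg g) with hφ
  have hrange : LinearMap.range φ ≤ β.orthogonal (DI g) := by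
    rintro _ ⟨x, rfl⟩
    exact snd_mem_orth β hg x.2
  have e : (LinearMap.ker φ).map (Lg g).subtype = Lg g ⊓ G0 := by
    ext y
    rw [Submodule.mem_map, Submodule.mem_inf, mem_G0]
    constructor
    · rintro ⟨x, hx, rfl⟩
      exact ⟨x.2, LinearMap.mem_ker.1 hx⟩
    · rintro ⟨hy, h2⟩
      exact ⟨⟨y, hy⟩, LinearMap.mem_ker.2 h2, rfl⟩
  have hker : finrank F (LinearMap.ker φ) = finrank F (DI g) := by
    rw [finrank_DI, ← e, Submodule.finrank_map_subtype_eq]
  have h1 := LinearMap.finrank_range_add_finrank_ker φ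
  rw [hker, finrank_Lg] at h1
  have h2 := LinearMap.BilinForm.finrank_orthogonal hn (DI g)
  have heq : LinearMap.range φ = β.orthogonal (DI g) :=
    Submodule.eq_of_le_of_finrank_eq hrange (by omega)
  rw [← heq] at hr
  obtain ⟨x, rfl⟩ := hr
  exact ⟨x, x.2, rfl⟩

/-- NDG : for such a maximal `g`, the space `DI g` is nondegenerate -/
theorem ndg {F B : Type*} [Field F] [AddCommGroup B] [Module F B]
    [FiniteDimensional F B] (β : LinearMap.BilinForm F B) (hs : ∀ u v, β u v = β v u)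
    (hn : β.Nondegenerate) (h2 : (2 : F) ≠ 0)
    (M : Subgroup ((B × B) ≃ₗ[F] (B × B))) (hM : HypM β M)
    (hSEMI : ∀ g ∈ M, ∀ c : F, c ≠ 0 →
      (∀ x ∈ Lg g, ux (c • (LinearMap.id : B →ₗ[F] B)) x ∈ Lg g) →
      Lg g = (G0 : Submodule F (B × B)))
    (g : (B × B) ≃ₗ[F] (B × B)) (hg : g ∈ M) (hne : Lg g ≠ (G0 : Submodule F (B × B)))
    (hmax : ∀ g' ∈ M, Lg g' ≠ (G0 : Submodule F (B × B)) →
      finrank F (DI g') ≤ finrank F (DI g)) :
    ∀ u ∈ DI g, (∀ w ∈ DI g, β u w = 0) → u = 0 := by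
  intro r hrD hrperp
  by_contra hr0
  have hgiso : g ∈ isoGroup (tf β) := hM.le hg
  have hrorth : r ∈ β.orthogonal (DI g) := by
    rw [LinearMap.BilinForm.mem_orthogonal_iff]
    intro n hn'
    show β n r = 0
    rw [hs]
    exact hrperp n hn'
  obtain ⟨x, hxL, hx2⟩ := exists_snd β hn hgiso hrorth
  set v : (B × B) ≃ₗ[F] (B × B) := ux ((1 : F) • (LinearMap.id : B →ₗ[F] B)) with hv
  have hvM : v ∈ M := hM.ux_mem 1
  -- `v x = x + (r, 0) ∈ L`
  have hvx : v x = x + (r, 0) := by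
    rw [hv, ux_apply]
    ext
    · simp [hx2]
    · simp
  have hvxL : v x ∈ Lg g := by
    rw [hvx]
    exact (Lg g).add_mem hxL (mem_DI.1 hrD)
  set g' : (B × B) ≃ₗ[F] (B × B) := g⁻¹ * v * g with hg'
  have hg'M : g' ∈ M := M.mul_mem (M.mul_mem (M.inv_mem hg) hvM) hg
  have hgg' : ∀ y : B × B, g (g' y) = v (g y) := by
    intro y
    rw [hg']
    simp only [LinearEquiv.mul_apply]
    exact apply_inv_apply' g _
  by_cases hLg' : Lg g' = (G0 : Submodule F (B × B))
  · -- then `v` stabilises `L`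
    apply hne
    apply hSEMI g hg 1 one_ne_zero
    intro y hy
    obtain ⟨u, rfl⟩ := mem_Lg.1 hy
    rw [← hv, ← hgg']
    have h1 : g' (u, 0) ∈ Lg g' := mem_Lg.2 ⟨u, rfl⟩
    rw [hLg', mem_G0] at h1
    have e : g' (u, 0) = ((g' (u, 0)).1, 0) := Prod.ext rfl h1
    rw [e]
    exact mem_Lg.2 ⟨_, rfl⟩
  · have hle := hmax g' hg'M hLg'
    -- `(Lg g' ⊓ G0).map g = (Lg g).map v ⊓ Lg g`
    have hmapg : (Lg g').map g.toLinearMap = (Lg g).map v.toLinearMap := by
      ext y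
      constructor
      · rintro ⟨z, hz, rfl⟩
        obtain ⟨u, rfl⟩ := mem_Lg.1 hz
        refine ⟨g (u, 0), mem_Lg.2 ⟨u, rfl⟩, ?_⟩
        exact (hgg' (u, 0)).symm
      · rintro ⟨z, hz, rfl⟩
        obtain ⟨u, rfl⟩ := mem_Lg.1 hz
        refine ⟨g' (u, 0), mem_Lg.2 ⟨u, rfl⟩, ?_⟩
        exact hgg' (u, 0)
    have hinf : (Lg g' ⊓ (G0 : Submodule F (B × B))).map g.toLinearMap
        = (Lg g).map v.toLinearMap ⊓ Lg g := by
      rw [Submodule.map_inf _ g.injective, hmapg]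
      rfl
    have hfin1 : finrank F (DI g') = finrank F ↥((Lg g).map v.toLinearMap ⊓ Lg g) := by
      rw [finrank_DI, ← hinf, LinearEquiv.finrank_map_eq]
    have hlt : Lg g ⊓ (G0 : Submodule F (B × B)) < (Lg g).map v.toLinearMap ⊓ Lg g := by
      rw [lt_iff_le_and_ne]
      constructor
      · rintro z ⟨hzL, hz0⟩
        refine ⟨⟨z, hzL, ?_⟩, hzL⟩
        have hz0' : z.2 = 0 := hz0
        show v z = z
        rw [hv, ux_apply]
        ext
        · simp [hz0']
        · rfl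
      · intro heq
        have h1 : v x ∈ (Lg g).map v.toLinearMap ⊓ Lg g := ⟨⟨x, hxL, rfl⟩, hvxL⟩
        rw [← heq] at h1
        have h2' := mem_G0.1 h1.2
        rw [hvx] at h2'
        apply hr0
        rw [← hx2]
        simpa using h2'
    have hfin2 := Submodule.finrank_lt_finrank_of_lt hlt
    rw [← finrank_DI, ← hfin1] at hfin2
    omega

end Cfsg.Agent.Lib.Helper79_T2_NDG
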