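import Mathlib
import Cfsg.Agent.Lib.Helper67_T2ODefs
import Cfsg.Agent.Lib.Helper94_OrthNondeg
import Cfsg.Agent.Lib.Helper82_T2_KR
import Cfsg.Agent.Lib.Helper9_T2_BR
import Cfsg.Agent.Lib.Helper78_UT2_NEXA
import Cfsg.Agent.Lib.Helper79_T2_NDG

set_option autoImplicit false
set_option linter.unusedSectionVars false
set_option linter.unusedVariables false

/-!
Package NDGO of helper67's `t2o_packages` market (TENS2O, clause (17) of S5870), by helper39:
for a maximal `g`, the space `DI g` is nondegenerate (twin of `Helper79_T2_NDG`).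
-/

open Module
open Cfsg.Agent.Lib.Helper94_Symp Cfsg.Agent.Lib.Helper94_OrthSmall
  Cfsg.Agent.Lib.Helper94_OrthSiegel Cfsg.Agent.Lib.Helper94_OrthNondeg
  Cfsg.Agent.Lib.Helper67_Tens2Defs Cfsg.Agent.Lib.Helper67_T2ODefs

namespace Cfsg.Agent.Lib.Helper39_T2O_NDGO

variable {F W : Type*} [Field F] [Finite F] [AddCommGroup W] [Module F W] [FiniteDimensional F W]
variable {ω : LinearMap.BilinForm F W}

/-- NDGO : for such a maximal `g`, the space `DI g` is nondegenerate -/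
theorem ndgo (halt : ω.IsAlt) (hN : ω.Nondegenerate)
    (M : Subgroup ((W × W) ≃ₗ[F] (W × W))) (hM : HypO ω M)
    (hSEMI : ∀ g ∈ M,
      (∀ c : F, ∀ x ∈ Lg g, ux (c • (LinearMap.id : W →ₗ[F] W)) x ∈ Lg g) →
      Lg g = (G0 : Submodule F (W × W)))
    (g : (W × W) ≃ₗ[F] (W × W)) (hg : g ∈ M) (hne : Lg g ≠ (G0 : Submodule F (W × W)))
    (hmax : ∀ g' ∈ M, Lg g' ≠ (G0 : Submodule F (W × W)) →
      finrank F (DI g') ≤ finrank F (DI g)) :
    NondegOn ω (DI g) := by
  intro r hrD hr0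
  by_contra hcon
  push_neg at hcon
  have hgiso : g ∈ isoGroup (tf ω) :=
    mem_isoGroup.mpr (oG_B (qf ω) (tf ω) (qf_add ω halt) (hM.le_oG hg))
  have hrorth : r ∈ ω.orthogonal (DI g) := by
    rw [LinearMap.BilinForm.mem_orthogonal_iff]
    intro n hn'
    exact hcon n hn'
  obtain ⟨x, hxL, hx2⟩ := Cfsg.Agent.Lib.Helper79_T2_NDG.exists_snd ω hN hgiso hrorth
  apply hne
  apply hSEMI g hg
  intro c
  set v : (W × W) ≃ₗ[F] (W × W) := ux (c • (LinearMap.id : W →ₗ[F] W)) with hv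
  have hvM : v ∈ M := hM.ux_mem c
  -- `v x = x + c • (r, 0) ∈ L`
  have hvx : v x = x + c • ((r, 0) : W × W) := by
    rw [hv, ux_apply]
    ext
    · simp [hx2]
    · simp
  have hvxL : v x ∈ Lg g := by
    rw [hvx]
    exact (Lg g).add_mem hxL ((Lg g).smul_mem c (mem_DI.1 hrD))
  set g' : (W × W) ≃ₗ[F] (W × W) := g⁻¹ * v * g with hg'
  have hg'M : g' ∈ M := M.mul_mem (M.mul_mem (M.inv_mem hg) hvM) hg
  have hgg' : ∀ y : W × W, g (g' y) = v (g y) := by
    intro y
    rw [hg']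
    simp only [LinearEquiv.mul_apply]
    exact apply_inv_apply' g _
  by_cases hLg' : Lg g' = (G0 : Submodule F (W × W))
  · -- then `v` stabilises `L`
    intro y hy
    obtain ⟨u, rfl⟩ := mem_Lg.1 hy
    rw [← hgg']
    have h1 : g' (u, 0) ∈ Lg g' := mem_Lg.2 ⟨u, rfl⟩
    rw [hLg', mem_G0] at h1
    have e : g' (u, 0) = ((g' (u, 0)).1, 0) := Prod.ext rfl h1
    rw [e]
    exact mem_Lg.2 ⟨_, rfl⟩
  · exfalso
    have hle := hmax g' hg'M hLg'
    have hmapg : (Lg g').map g.toLinearMap = (Lg g).map v.toLinearMap := by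
      ext y
      constructor
      · rintro ⟨z, hz, rfl⟩
        obtain ⟨u, rfl⟩ := mem_Lg.1 hz
        refine ⟨g (u, 0), mem_Lg.2 ⟨u, rfl⟩, ?_⟩
        exact (hgg' (u, 0)).symm
      · rintro ⟨z, hz, rfl⟩
        obtain ⟨u, rfl⟩ := mem_Lg.1 hz
        refine ⟨g' (u, 0), mem_Lg.2 ⟨u, rfl⟩, ?_⟩
        exact hgg' (u, 0)
    have hinf : (Lg g' ⊓ (G0 : Submodule F (W × W))).map g.toLinearMap
        = (Lg g).map v.toLinearMap ⊓ Lg g := by
      rw [Submodule.map_inf _ g.injective, hmapg]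
      rfl
    have hfin1 : finrank F (DI g') = finrank F ↥((Lg g).map v.toLinearMap ⊓ Lg g) := by
      rw [Cfsg.Agent.Lib.Helper79_T2_NDG.finrank_DI, ← hinf, LinearEquiv.finrank_map_eq]
    have hlt : Lg g ⊓ (G0 : Submodule F (W × W)) < (Lg g).map v.toLinearMap ⊓ Lg g := by
      rw [lt_iff_le_and_ne]
      constructor
      · rintro z ⟨hzL, hz0⟩
        refine ⟨⟨z, hzL, ?_⟩, hzL⟩
        have hz0' : z.2 = 0 := hz0
        show v z = z
        rw [hv, ux_apply]
        ext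
        · simp [hz0']
        · rfl
      · intro heq
        have h1 : v x ∈ (Lg g).map v.toLinearMap ⊓ Lg g := ⟨⟨x, hxL, rfl⟩, hvxL⟩
        rw [← heq] at h1
        have h2' := mem_G0.1 h1.2
        rw [hvx] at h2'
        apply hr0
        rw [← hx2]
        simpa using h2'
    have hfin2 := Submodule.finrank_lt_finrank_of_lt hlt
    rw [← Cfsg.Agent.Lib.Helper79_T2_NDG.finrank_DI, ← hfin1] at hfin2
    omega

end Cfsg.Agent.Lib.Helper39_T2O_NDGO
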