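import Mathlib
import Cfsg.Prelude.Def_Solvable
import Cfsg.Prelude.Def_CaseTheorems
import Cfsg.Agent.Lib.Helper84_TutteDefs
import Cfsg.Agent.Lib.Helper84_TutteAPI
import Cfsg.Agent.Lib.Helper1_Cores

/-!
# S4385 package ID-3 (helper39, for helper84's market): `s = 3` gives `H / O(H) ≅ 2 × 2`.

General lemmas (any finite group `X`):
* `exists_normal_odd`: a subgroup `M` of index 2 and order `2 n`, `n` odd, contains a normal subgroup of `X`
  of order `n` (normal 2-complement of `M`, via the cyclic Sylow transfer theorem of Mathlib).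
* `klein_quot`: `|X| = 4 n`, `n` odd, a normal subgroup of order `n`, two distinct commuting involutions
  give `X / O(X) ≅ 2 × 2`.
-/

set_option autoImplicit false

open scoped commutatorElement
open Cfsg.Agent.Lib.Helper84_TutteDefs

namespace Cfsg.Agent.Lib.Helper39_Tutte_ID3

section general

variable {X : Type*} [Group X] [Finite X]

/-- A subgroup of index 2 and order `2 n` (`n` odd) contains a normal subgroup of the whole group
of order `n`. -/
theorem exists_normal_odd (n : ℕ) (hodd : Odd n) (M : Subgroup X) (hM2 : M.index = 2)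
    (hcard : Nat.card M = 2 * n) : ∃ N : Subgroup X, N.Normal ∧ Nat.card N = n := by
  classical
  have hMn : M.Normal := Subgroup.normal_of_index_eq_two hM2
  have hn0 : n ≠ 0 := by
    rintro rfl
    have := Nat.card_pos (α := M)
    omega
  have hmin : (Nat.card M).minFac = 2 := by
    rw [hcard]
    exact (Nat.minFac_eq_two_iff _).2 (dvd_mul_right 2 n)
  haveI : Fact (Nat.Prime 2) := ⟨Nat.prime_two⟩
  obtain ⟨P⟩ : Nonempty (Sylow 2 M) := inferInstance
  have hPcard : Nat.card P = 2 := by
    rw [Sylow.card_eq_multiplicity, hcard]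
    have h2 : (2 * n).factorization 2 = 1 := by
      rw [Nat.factorization_mul (by norm_num) hn0]
      have h3 : n.factorization 2 = 0 :=
        Nat.factorization_eq_zero_of_not_dvd (by
          intro hd
          exact (Nat.not_even_iff_odd.2 hodd) (even_iff_two_dvd.2 hd))
      simp [h3, Nat.Prime.factorization_self Nat.prime_two]
    rw [h2]
    norm_num
  have hPc : IsCyclic P := isCyclic_of_prime_card hPcard
  have hcompl := IsCyclic.isComplement' hmin hPc
  have hker : Nat.card (MonoidHom.transferSylow P (hPc.normalizer_le_centralizer hmin)).ker = n := by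
    have := hcompl.card_mul
    rw [hPcard, hcard] at this
    omega
  refine ⟨(MonoidHom.transferSylow P (hPc.normalizer_le_centralizer hmin)).ker.map M.subtype,
    ?_, ?_⟩
  · constructor
    intro y hy x
    obtain ⟨y0, hy0, rfl⟩ := hy
    have hmem : x * (M.subtype y0) * x⁻¹ ∈ M := hMn.conj_mem _ y0.2 x
    refine ⟨⟨x * (M.subtype y0) * x⁻¹, hmem⟩, ?_, rfl⟩
    rw [SetLike.mem_coe, MonoidHom.mem_ker]
    have ho : orderOf (⟨x * (M.subtype y0) * x⁻¹, hmem⟩ : M) = orderOf y0 := by
      rw [← Subgroup.orderOf_coe, ← Subgroup.orderOf_coe]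
      exact (MulAut.conj x).orderOf_eq (y0 : X)
    have h1 : orderOf ((MonoidHom.transferSylow P (hPc.normalizer_le_centralizer hmin))
        ⟨x * (M.subtype y0) * x⁻¹, hmem⟩) ∣ orderOf y0 := by
      rw [← ho]
      exact orderOf_map_dvd _ _
    have h2 : orderOf y0 ∣ n := by
      have h4 : orderOf (⟨y0, hy0⟩ :
          (MonoidHom.transferSylow P (hPc.normalizer_le_centralizer hmin)).ker) ∣
          Nat.card (MonoidHom.transferSylow P (hPc.normalizer_le_centralizer hmin)).ker :=
        orderOf_dvd_natCard _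
      rw [hker] at h4
      rwa [← Subgroup.orderOf_coe] at h4
    have h3 : orderOf ((MonoidHom.transferSylow P (hPc.normalizer_le_centralizer hmin))
        ⟨x * (M.subtype y0) * x⁻¹, hmem⟩) ∣ 2 := by
      have h6 := orderOf_dvd_natCard ((MonoidHom.transferSylow P
        (hPc.normalizer_le_centralizer hmin)) ⟨x * (M.subtype y0) * x⁻¹, hmem⟩)
      rw [hPcard] at h6
      exact h6
    have hcop : Nat.Coprime n 2 :=
      ((Nat.Prime.coprime_iff_not_dvd Nat.prime_two).2 hodd.not_two_dvd_nat).symm
    have h5 : orderOf ((MonoidHom.transferSylow P (hPc.normalizer_le_centralizer hmin))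
        ⟨x * (M.subtype y0) * x⁻¹, hmem⟩) = 1 :=
      Nat.eq_one_of_dvd_coprimes hcop (h1.trans h2) h3
    exact orderOf_eq_one_iff.mp h5
  · rw [Nat.card_congr (Subgroup.equivMapOfInjective _ M.subtype M.subtype_injective).toEquiv.symm]
    exact hker

/-- `|X| = 4 n`, `n` odd, a normal subgroup of order `n`, two distinct commuting involutions: then
`X / O(X)` is a four-group. -/
theorem klein_quot (n : ℕ) (hodd : Odd n) (hcard : Nat.card X = 4 * n)
    (a b : X) (ha : a * a = 1) (hb : b * b = 1) (hab : a * b = b * a) (ha1 : a ≠ 1) (hb1 : b ≠ 1)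
    (hne : a ≠ b) (N : Subgroup X) (hNn : N.Normal) (hN : Nat.card N = n) :
    Nonempty (X ⧸ Cfsg.oddCore X ≃* Multiplicative (ZMod 2) × Multiplicative (ZMod 2)) := by
  classical
  have hcop : Nat.Coprime n 2 :=
    ((Nat.Prime.coprime_iff_not_dvd Nat.prime_two).2 hodd.not_two_dvd_nat).symm
  -- the odd core is `N`
  have hle : N ≤ Cfsg.oddCore X :=
    Cfsg.Agent.Lib.Helper1_Cores.le_pPrimeCore hNn (by rw [hN]; exact hcop)
  have hcore : Cfsg.oddCore X = N := by
    symm
    apply Subgroup.eq_of_le_of_card_ge hle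
    rw [hN]
    have h1 : (Nat.card (Cfsg.oddCore X)).Coprime 2 :=
      Cfsg.Agent.Lib.Helper1_Cores.pPrimeCore_card_coprime (G := X) 2
    have h2 : Nat.card (Cfsg.oddCore X) ∣ 4 * n := by
      rw [← hcard]
      exact Subgroup.card_subgroup_dvd_card _
    have h3 : (Nat.card (Cfsg.oddCore X)).Coprime 4 := by
      have : (4 : ℕ) = 2 ^ 2 := by norm_num
      rw [this]
      exact Nat.Coprime.pow_right 2 h1
    have h4 : Nat.card (Cfsg.oddCore X) ∣ n := h3.dvd_of_dvd_mul_left h2
    have hn0 : 0 < n := by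
      rcases Nat.eq_zero_or_pos n with h | h
      · subst h
        have := Nat.card_pos (α := X)
        omega
      · exact h
    exact Nat.le_of_dvd hn0 h4
  haveI := hNn
  suffices hsuff : Nonempty (X ⧸ N ≃* Multiplicative (ZMod 2) × Multiplicative (ZMod 2)) by
    obtain ⟨e⟩ := hsuff
    exact ⟨(QuotientGroup.quotientMulEquivOfEq hcore).trans e⟩
  -- the quotient has order 4
  have hQ : Nat.card (X ⧸ N) = 4 := by
    have h1 := Subgroup.card_eq_card_quotient_mul_card_subgroup N
    rw [hcard, hN] at h1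
    have hn0 : 0 < n := by
      rcases Nat.eq_zero_or_pos n with h | h
      · subst h
        have := Nat.card_pos (α := X)
        omega
      · exact h
    exact (Nat.eq_of_mul_eq_mul_right hn0 h1).symm
  -- involutions are outside `N`
  have hout : ∀ t : X, t * t = 1 → t ≠ 1 → t ∉ N := by
    intro t ht2 ht1 htN
    have ho : orderOf t = 2 := by
      apply orderOf_eq_prime
      · rw [pow_two]; exact ht2
      · exact ht1
    have h1 : orderOf (⟨t, htN⟩ : N) ∣ Nat.card N := orderOf_dvd_natCard _
    rw [← Subgroup.orderOf_coe, hN] at h1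
    change orderOf t ∣ n at h1
    rw [ho] at h1
    have := Nat.Coprime.eq_one_of_dvd hcop.symm h1
    omega
  have hab1 : a * b ≠ 1 := by
    intro h
    apply hne
    have : a = b⁻¹ := eq_inv_of_mul_eq_one_left h
    rw [this]
    exact inv_eq_of_mul_eq_one_left hb
  have hab2 : (a * b) * (a * b) = 1 := by
    calc a * b * (a * b) = a * (b * a) * b := by group
      _ = a * (a * b) * b := by rw [hab]
      _ = (a * a) * (b * b) := by group
      _ = 1 := by rw [ha, hb, one_mul]
  set A : X ⧸ N := QuotientGroup.mk a with hA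
  set B : X ⧸ N := QuotientGroup.mk b with hB
  have hA1 : A ≠ 1 := by
    intro h
    exact hout a ha ha1 ((QuotientGroup.eq_one_iff a).mp h)
  have hB1 : B ≠ 1 := by
    intro h
    exact hout b hb hb1 ((QuotientGroup.eq_one_iff b).mp h)
  have hAB1 : A * B ≠ 1 := by
    intro h
    apply hout (a * b) hab2 hab1
    apply (QuotientGroup.eq_one_iff (a * b)).mp
    rw [QuotientGroup.mk_mul]
    exact h
  have hAA : A * A = 1 := by
    rw [hA, ← QuotientGroup.mk_mul, ha, QuotientGroup.mk_one]
  have hBB : B * B = 1 := by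
    rw [hB, ← QuotientGroup.mk_mul, hb, QuotientGroup.mk_one]
  have hABc : A * B = B * A := by
    rw [hA, hB, ← QuotientGroup.mk_mul, ← QuotientGroup.mk_mul, hab]
  have hABAB : (A * B) * (A * B) = 1 := by
    rw [hA, hB, ← QuotientGroup.mk_mul, ← QuotientGroup.mk_mul, hab2, QuotientGroup.mk_one]
  have hAneB : A ≠ B := by
    intro h
    apply hAB1
    rw [h]
    exact hBB
  haveI : Fintype (X ⧸ N) := Fintype.ofFinite _
  -- the four elements
  have huniv : ({1, A, B, A * B} : Finset (X ⧸ N)) = Finset.univ := by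
    apply Finset.eq_univ_of_card
    rw [← Nat.card_eq_fintype_card, hQ]
    have hAAB : A ≠ A * B := by
      intro h
      apply hB1
      have : A * 1 = A * B := by rw [mul_one]; exact h
      exact (mul_left_cancel this).symm
    have hBAB : B ≠ A * B := by
      intro h
      apply hA1
      have : 1 * B = A * B := by rw [one_mul]; exact h
      exact (mul_right_cancel this).symm
    rw [Finset.card_insert_of_notMem, Finset.card_insert_of_notMem, Finset.card_insert_of_notMem,
      Finset.card_singleton]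
    · simp only [Finset.mem_singleton]
      exact hBAB
    · simp only [Finset.mem_insert, Finset.mem_singleton, not_or]
      exact ⟨hAneB, hAAB⟩
    · simp only [Finset.mem_insert, Finset.mem_singleton, not_or]
      exact ⟨hA1.symm, hB1.symm, hAB1.symm⟩
  have hsq : ∀ x : X ⧸ N, x ^ 2 = 1 := by
    intro x
    have hx : x ∈ ({1, A, B, A * B} : Finset (X ⧸ N)) := by
      rw [huniv]; exact Finset.mem_univ _
    simp only [Finset.mem_insert, Finset.mem_singleton] at hx
    rw [pow_two]
    rcases hx with rfl | rfl | rfl | rfl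
    · exact one_mul 1
    · exact hAA
    · exact hBB
    · exact hABAB
  haveI : IsKleinFour (X ⧸ N) := by
    refine ⟨hQ, ?_⟩
    have h1 : Monoid.exponent (X ⧸ N) ∣ 2 := Monoid.exponent_dvd_of_forall_pow_eq_one hsq
    rcases (Nat.dvd_prime Nat.prime_two).mp h1 with h | h
    · exfalso
      have := Monoid.exp_eq_one_iff.mp h
      exact hA1 (Subsingleton.elim _ _)
    · exact h
  obtain ⟨e⟩ := IsKleinFour.nonempty_mulEquiv (G₁ := X ⧸ N) (G₂ := Multiplicative (ZMod 2 × ZMod 2))
  exact ⟨e.trans (MulEquiv.prodMultiplicative (ZMod 2) (ZMod 2))⟩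

end general

variable {G : Type*} [Group G] {H : Subgroup G} {g x0 : G} {s lam : ℕ}

theorem iso_three [Finite G] (h : TSys H g x0 3) (n : ℕ) (hodd : Odd n) (M : Subgroup G)
    (hKM : XX g x0 1 1 ≤ M) (hMH : M ≤ H) (hM2 : M.relIndex H = 2) (hMn : (XX g x0 1 1).relIndex M = n) :
    Nonempty (↥H ⧸ Cfsg.oddCore ↥H ≃* Multiplicative (ZMod 2) × Multiplicative (ZMod 2)) := by
  have hK : Nat.card (XX g x0 1 1) = 2 := by
    have := h.card_XX (i := 1) (j := 1) (by norm_num) (by norm_num)
    simpa using this
  have hMc : Nat.card M = 2 * n := by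
    rw [← card_mul_relIndex' hKM, hK, hMn]
  have hHc : Nat.card H = 4 * n := by
    rw [← card_mul_relIndex' hMH, hMc, hM2]
    ring
  have hM'2 : (M.subgroupOf H).index = 2 := hM2
  have hM'c : Nat.card (M.subgroupOf H) = 2 * n := by
    rw [Nat.card_congr (Subgroup.subgroupOfEquivOfLe hMH).toEquiv]
    exact hMc
  obtain ⟨N, hNn, hNc⟩ := exists_normal_odd n hodd (M.subgroupOf H) hM'2 hM'c
  have hx0H : xs g x0 0 ∈ H :=
    h.XX_le_H (i := 0) (j := 0) le_rfl (by norm_num) (xs_mem_XX le_rfl le_rfl)
  have hx1H : xs g x0 1 ∈ H :=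
    h.XX_le_H (i := 1) (j := 1) (by norm_num) (by norm_num) (xs_mem_XX le_rfl le_rfl)
  have hcomm : xs g x0 0 * xs g x0 1 = xs g x0 1 * xs g x0 0 := by
    have h1 := h.comm_mem (i := 0) (j := 1) (by norm_num) (by norm_num)
    rw [XX_eq_bot (by norm_num), Subgroup.mem_bot] at h1
    exact commutatorElement_eq_one_iff_mul_comm.mp h1
  have hne : xs g x0 0 ≠ xs g x0 1 := by
    intro heq
    have h1 := h.xs_notMem_right (i := 0) (j := 1) (by norm_num) (by norm_num)
    apply h1
    rw [← heq]
    exact xs_mem_XX le_rfl (by norm_num)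
  refine klein_quot n hodd hHc ⟨xs g x0 0, hx0H⟩ ⟨xs g x0 1, hx1H⟩ ?_ ?_ ?_ ?_ ?_ ?_ N hNn hNc
  · exact Subtype.ext (h.xs_sq 0)
  · exact Subtype.ext (h.xs_sq 1)
  · exact Subtype.ext hcomm
  · intro h1
    exact h.xs_ne_one 0 (congrArg Subtype.val h1)
  · intro h1
    exact h.xs_ne_one 1 (congrArg Subtype.val h1)
  · intro h1
    exact hne (congrArg Subtype.val h1)

end Cfsg.Agent.Lib.Helper39_Tutte_ID3
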