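import Mathlib
import Cfsg.Agent.Lib.Helper25_UQ_A2

set_option autoImplicit false

/-!
# Additive lemmas for Theorem B of S2150 (helper75)

* `card_mul_le` : `C H S` additive subgroups of a finite field with `C * H ⊆ S ≠ ⊤`
  ⟹ `|C| |H| ≤ |F|` (from helper25's `A2` applied to the alternating form
  `(a,b),(a',b') ↦ a b' - a' b` on `F × F` and the subgroup `C × H`).
* `line_mem` : the `W`-level step of Theorem B: `W` an `F`-space with `|W| = |F|^2`,
  `φ : W → F` linear with kernel `F w0`, `I ≤ W` an additive subgroup stable under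
  `x ↦ x + c φ(x) w0` for `c ∈ C`, and `|W| ≤ |C| |I|`; then `F w0 ⊆ I`.
-/

namespace Cfsg.Agent.Lib.Helper75_U4_B1

theorem card_mul_le {F : Type*} [Field F] [Finite F] (C H S : AddSubgroup F) (hS : S ≠ ⊤)
    (hCH : ∀ c ∈ C, ∀ h ∈ H, c * h ∈ S) : Nat.card C * Nat.card H ≤ Nat.card F := by
  have key := Cfsg.Agent.Lib.Helper25_UQ_A2.A2 (W := F × F) (A := F)
    (fun w w' => w.1 * w'.2 - w'.1 * w.2)
    (by intro w w' u; simp only [Prod.fst_add, Prod.snd_add]; ring)
    (by intro w u u'; simp only [Prod.fst_add, Prod.snd_add]; ring)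
    (by
      intro w hw a
      by_cases h1 : w.1 = 0
      · have h2 : w.2 ≠ 0 := by
          intro h2
          exact hw (Prod.ext h1 h2)
        refine ⟨(-a / w.2, 0), ?_⟩
        simp only [mul_zero]
        field_simp
        ring
      · refine ⟨(0, a / w.1), ?_⟩
        simp only [zero_mul, sub_zero]
        field_simp)
    S hS (C.prod H)
    (by
      rintro ⟨c, h⟩ ⟨hc, hh⟩ ⟨c', h'⟩ ⟨hc', hh'⟩
      exact S.sub_mem (hCH c hc h' hh') (hCH c' hc' h hh))
  rw [Nat.card_prod] at key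
  have e1 : Nat.card ↥(C.prod H) = Nat.card C * Nat.card H := by
    rw [Nat.card_congr (AddSubgroup.prodEquiv C H).toEquiv, Nat.card_prod]
  rw [e1, ← pow_two] at key
  exact (Nat.pow_le_pow_iff_left (by norm_num)).mp key

theorem line_mem {F W : Type*} [Field F] [Finite F] [AddCommGroup W] [Module F W] [Finite W]
    (hW : Nat.card W = Nat.card F ^ 2) (φ : W →ₗ[F] F) (w0 : W) (hφ0 : φ w0 = 0)
    (hker : ∀ x, φ x = 0 → ∃ a : F, x = a • w0)
    (I : AddSubgroup W) (C : AddSubgroup F)
    (hC : ∀ c ∈ C, ∀ x ∈ I, (c * φ x) • w0 ∈ I)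
    (hcard : Nat.card W ≤ Nat.card C * Nat.card I) : ∀ a : F, a • w0 ∈ I := by
  classical
  -- the additive maps
  let ψ : ↥I →+ F := φ.toAddMonoidHom.comp I.subtype
  let ι : F →+ W := (LinearMap.toSpanSingleton F W w0).toAddMonoidHom
  have hι : ∀ a : F, ι a = a • w0 := fun a => rfl
  have hψ : ∀ x : ↥I, ψ x = φ (x : W) := fun x => rfl
  let Sw : AddSubgroup F := I.comap ι
  have hSw : ∀ a : F, a ∈ Sw ↔ a • w0 ∈ I := fun a => Iff.rfl
  by_contra hcon
  have hSwtop : Sw ≠ ⊤ := by
    intro htop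
    apply hcon
    intro a
    rw [← hSw, htop]
    exact AddSubgroup.mem_top a
  -- B1
  have h1 : Nat.card C * Nat.card ψ.range ≤ Nat.card F := by
    apply card_mul_le C ψ.range Sw hSwtop
    rintro c hc _ ⟨x, rfl⟩
    rw [hSw, hψ]
    exact hC c hc x x.2
  -- |I| = |range| |ker|
  have h2 : Nat.card ↥I = Nat.card ψ.range * Nat.card ψ.ker := by
    have := AddSubgroup.card_mul_index ψ.ker
    rw [AddSubgroup.index_ker] at this
    rw [← this, mul_comm]
  -- |ker| ≤ |Sw|
  have h3 : Nat.card ψ.ker ≤ Nat.card Sw := by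
    have hex : ∀ k : ↥ψ.ker, ∃ a : F, ((k : ↥I) : W) = a • w0 := by
      intro k
      apply hker
      have := k.2
      rw [AddMonoidHom.mem_ker, hψ] at this
      exact this
    choose f hf using hex
    have hfmem : ∀ k : ↥ψ.ker, f k ∈ Sw := by
      intro k
      rw [hSw, ← hf k]
      exact (k : ↥I).2
    apply Nat.card_le_card_of_injective (fun k : ↥ψ.ker => (⟨f k, hfmem k⟩ : ↥Sw))
    intro k k' hkk
    have h4 : f k = f k' := congrArg Subtype.val hkk
    apply Subtype.ext
    apply Subtype.ext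
    rw [hf k, hf k', h4]
  -- |Sw| < |F|
  have h4 : Nat.card Sw < Nat.card F := by
    apply lt_of_le_of_ne (AddSubgroup.card_le_card_addGroup Sw)
    intro h
    exact hSwtop ((AddSubgroup.card_eq_iff_eq_top Sw).mp h)
  have hFpos : 0 < Nat.card F := Nat.card_pos
  have hCpos : 0 < Nat.card C := Nat.card_pos
  -- combine
  have h5 : Nat.card F ^ 2 ≤ Nat.card C * (Nat.card ψ.range * Nat.card ψ.ker) := by
    rw [← h2, ← hW]; exact hcard
  have h6 : Nat.card C * (Nat.card ψ.range * Nat.card ψ.ker) ≤ Nat.card F * Nat.card Sw := by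
    calc Nat.card C * (Nat.card ψ.range * Nat.card ψ.ker)
        = (Nat.card C * Nat.card ψ.range) * Nat.card ψ.ker := by ring
      _ ≤ Nat.card F * Nat.card Sw := Nat.mul_le_mul h1 h3
  have h7 : Nat.card F * Nat.card Sw < Nat.card F * Nat.card F :=
    Nat.mul_lt_mul_of_pos_left h4 hFpos
  rw [pow_two] at h5
  omega

end Cfsg.Agent.Lib.Helper75_U4_B1
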