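import Mathlib
import Cfsg.Agent.Lib.Helper50_UQAbsDefs
import Cfsg.Agent.Lib.Helper95_UQ_A1
import Cfsg.Agent.Lib.Helper61_UQ_CARDQ

set_option autoImplicit false

/-!
# Abstract bookkeeping for Theorem B of S2150 (helper75)

For an abstract `Q_v`-datum `D` (`Helper50_UQAbsDefs.UDat`) with `|A| = q` and a subgroup `T` with
`[P : T ∩ P] ≤ q` (`P = Q L`):

* `abs_data` : `I := π (T ∩ Q)` and the image `S` of `T ∩ P` in `L` satisfy
  `|W| [K : S ∩ K] ≤ q |I|`, and `S` preserves `I`;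
* `abs_top` : if `I = W` (and `W ≠ 0`) then `Q ≤ T`.
-/

open Cfsg.Agent.Lib.Helper50_UQAbsDefs

namespace Cfsg.Agent.Lib.Helper75_U4_BAbs

theorem abs_data_aux {G : Type*} [Group G] [Finite G] {W : Type*} [AddCommGroup W] [Finite W]
    {A : Type*} [AddCommGroup A] [Finite A] (D : UDat G W A) (hD : D.Ok) {q : ℕ}
    (hA : Nat.card A = q) (T : Subgroup G) (hT : T.relIndex (D.Q ⊔ D.L) ≤ q)
    {Ω : Type*} [MulAction G Ω] [Finite Ω] (ω : Ω) (hfix : ∀ g : G, g • ω = ω ↔ g ∈ T) :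
    ∃ (I : AddSubgroup W) (S : Subgroup G),
      (∀ w, w ∈ I ↔ ∃ g ∈ D.Q, g ∈ T ∧ D.π g = w) ∧
      (∀ l, l ∈ S ↔ l ∈ D.L ∧ ∃ g ∈ D.Q, g * l ∈ T) ∧
      (∀ s ∈ S, ∀ w ∈ I, D.ρ s w ∈ I) ∧
      Nat.card W * (S ⊓ D.K).relIndex D.K ≤ q * Nat.card I := by
  classical
  obtain ⟨Y, I, S, hY, hI, hS, -, hSI, -, hcount⟩ :=
    Cfsg.Agent.Lib.Helper95_UQ_A1.A1 D hD ω
  refine ⟨I, S, ?_, ?_, hSI, ?_⟩
  · intro w
    rw [hI]
    constructor
    · rintro ⟨g, hg, hgω, hgw⟩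
      exact ⟨g, hg, (hfix g).mp hgω, hgw⟩
    · rintro ⟨g, hg, hgT, hgw⟩
      exact ⟨g, hg, (hfix g).mpr hgT, hgw⟩
  · intro l
    rw [hS]
    constructor
    · rintro ⟨hl, g, hg, hgl⟩
      exact ⟨hl, g, hg, (hfix _).mp hgl⟩
    · rintro ⟨hl, g, hg, hgl⟩
      exact ⟨hl, g, hg, (hfix _).mpr hgl⟩
  · -- the orbit has `T.relIndex P` elements
    have horb : Nat.card (MulAction.orbit ↥(D.Q ⊔ D.L) ω) = T.relIndex (D.Q ⊔ D.L) := by
      rw [Nat.card_coe_set_eq, ← MulAction.index_stabilizer]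
      unfold Subgroup.relIndex
      congr 1
      ext p
      rw [MulAction.mem_stabilizer_iff, Subgroup.mem_subgroupOf]
      exact hfix (p : G)
    rw [horb, Cfsg.Agent.Lib.Helper61_UQ_CARDQ.cardQ D hD, hA] at hcount
    have hYle : Nat.card Y ≤ q := hA ▸ AddSubgroup.card_le_card_addGroup Y
    have hrel : (S ⊔ D.K).relIndex D.L ≠ 0 := by
      unfold Subgroup.relIndex
      exact Subgroup.index_ne_zero_of_finite
    have hqpos : 0 < q := hA ▸ Nat.card_pos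
    have h1 : Nat.card W * q * (S ⊓ D.K).relIndex D.K ≤
        Nat.card W * q * ((S ⊔ D.K).relIndex D.L * (S ⊓ D.K).relIndex D.K) := by
      apply Nat.mul_le_mul_left
      exact Nat.le_mul_of_pos_left _ (Nat.pos_of_ne_zero hrel)
    have h2 : T.relIndex (D.Q ⊔ D.L) * (Nat.card Y * Nat.card I) ≤ q * (q * Nat.card I) :=
      Nat.mul_le_mul hT (Nat.mul_le_mul_right _ hYle)
    have h3 : q * (Nat.card W * (S ⊓ D.K).relIndex D.K) ≤ q * (q * Nat.card I) := by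
      calc q * (Nat.card W * (S ⊓ D.K).relIndex D.K)
          = Nat.card W * q * (S ⊓ D.K).relIndex D.K := by ring
        _ ≤ _ := h1
        _ = _ := hcount.symm
        _ ≤ _ := h2
    exact Nat.le_of_mul_le_mul_left h3 hqpos

theorem abs_data {G : Type*} [Group G] [Finite G] {W : Type*} [AddCommGroup W] [Finite W]
    {A : Type*} [AddCommGroup A] [Finite A] (D : UDat G W A) (hD : D.Ok) {q : ℕ}
    (hA : Nat.card A = q) (T : Subgroup G) (hT : T.relIndex (D.Q ⊔ D.L) ≤ q) :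
    ∃ (I : AddSubgroup W) (S : Subgroup G),
      (∀ w, w ∈ I ↔ ∃ g ∈ D.Q, g ∈ T ∧ D.π g = w) ∧
      (∀ l, l ∈ S ↔ l ∈ D.L ∧ ∃ g ∈ D.Q, g * l ∈ T) ∧
      (∀ s ∈ S, ∀ w ∈ I, D.ρ s w ∈ I) ∧
      Nat.card W * (S ⊓ D.K).relIndex D.K ≤ q * Nat.card I := by
  apply abs_data_aux D hD hA T hT (((1 : G) : G ⧸ T))
  intro g
  rw [MulAction.Quotient.smul_mk, QuotientGroup.eq]
  simp

theorem abs_top {G : Type*} [Group G] {W : Type*} [AddCommGroup W]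
    {A : Type*} [AddCommGroup A] (D : UDat G W A) (hD : D.Ok) (hW : ∃ w : W, w ≠ 0)
    (T : Subgroup G) (hI : ∀ w : W, ∃ g ∈ D.Q, g ∈ T ∧ D.π g = w) : D.Q ≤ T := by
  obtain ⟨w, hw⟩ := hW
  have hx : ∀ a : A, D.x a ∈ T := by
    intro a
    obtain ⟨u, hu⟩ := hD.β_surj w hw a
    obtain ⟨g, hg, hgT, hgw⟩ := hI w
    obtain ⟨g', hg', hgT', hgu⟩ := hI u
    have h1 := hD.comm g hg g' hg'
    rw [hgw, hgu, hu] at h1
    have h2 : D.x a = (g * g') * (g' * g)⁻¹ := by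
      rw [h1]; group
    rw [h2]
    exact T.mul_mem (T.mul_mem hgT hgT') (T.inv_mem (T.mul_mem hgT' hgT))
  intro k hk
  obtain ⟨g, hg, hgT, hgw⟩ := hI (D.π k)
  have h1 : D.π (g⁻¹ * k) = 0 := by
    rw [hD.π_mul _ (D.Q.inv_mem hg) _ hk, Cfsg.Agent.Lib.Helper95_UQ_A1.π_inv hD hg, hgw]
    abel
  obtain ⟨a, ha⟩ := hD.π_ker _ (D.Q.mul_mem (D.Q.inv_mem hg) hk) h1
  have h2 : k = g * D.x a := by
    rw [← ha]; group
  rw [h2]
  exact T.mul_mem hgT (hx a)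

end Cfsg.Agent.Lib.Helper75_U4_BAbs
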