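import Mathlib
import Cfsg.Agent.Lib.Helper94_UQInst
import Cfsg.Agent.Lib.Helper95_UQ_A1
import Cfsg.Agent.Lib.Helper95_UQ_FLD
import Cfsg.Agent.Lib.Helper27_UQ_CARD
import Cfsg.Agent.Lib.Helper75_U4_B1
import Cfsg.Agent.Lib.Helper75_U4_BAbs

set_option autoImplicit false
set_option linter.unusedSectionVars false
set_option linter.unusedVariables false

/-!
# S2150, local THEOREM B (helper75; co-architect helper27, architect helper39)

`THMB` : in `SU_4(q)` (`udat` language of `Helper94_UQInst`), a subgroup `T` with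
`[P_v : T ∩ P_v] ≤ q` (`P_v = Q_v L_v`) contains `Q_v`.

Proof (section 2 of `pending/helper39/S2150_proof.md`, slightly streamlined):
`I := π (T ∩ Q)`, `S` := image of `T ∩ P` in `L`; by UQ-A1, `|W| [K : S ∩ K] ≤ q |I|`
(`Helper75_U4_BAbs.abs_data`).  For `w0 ≠ 0` isotropic in `W` the root group `U = X_{w0} ≤ K`
has `|U ∩ S| ≥ q / [K : S ∩ K]`, so `C := {c : t_{w0}(c) ∈ S}` satisfies `|W| ≤ |C| |I|`;
`C · B(I, w0) ⊆ {a : a w0 ∈ I}` and the additive lemma `Helper75_U4_B1.line_mem` give `F w0 ⊆ I`.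
`W` is a hyperbolic plane, so `I = W`, and then `Q ≤ T` (`abs_top`).
-/

open Module Cfsg.Agent.Lib.Helper94_Symp Cfsg.Agent.Lib.Helper94_Herm
  Cfsg.Agent.Lib.Helper94_HermEich Cfsg.Agent.Lib.Helper94_HermPara
  Cfsg.Agent.Lib.Helper94_HermTrans
  Cfsg.Agent.Lib.Helper13_SUGen Cfsg.Agent.Lib.Helper13_PSUSimple
  Cfsg.Agent.Lib.Helper46_U3TI Cfsg.Agent.Lib.Helper14_PSULocal1
  Cfsg.Agent.Lib.Helper27_UQDefs Cfsg.Agent.Lib.Helper50_UQAbsDefs
  Cfsg.Agent.Lib.Helper94_UQInst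

namespace Cfsg.Agent.Lib.Helper75_U4_THMB

variable {F V : Type*} [Field F] [AddCommGroup V] [Module F V] {σ : F →+* F}
variable {B : V →ₗ[F] V →ₛₗ[σ] F}

/-- a hyperbolic pair `(w0, f)` of the plane `W` coordinatises it -/
theorem plane_coords [Finite F] [FiniteDimensional F V] (hB : IsHerm B) {q : ℕ}
    (hF : Nat.card F = q ^ 2) {v v' : V} (h : HypPair B v v') (h4 : finrank F V = 4)
    {w0 f : V} (hw0 : w0 ∈ Wsub B v v') (hf : f ∈ Wsub B v v') (hp : HypPair B w0 f) :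
    ∀ x ∈ Wsub B v v', x = B x f • w0 + B x w0 • f := by
  have hfinV : Finite V := Module.finite_of_finite F
  let j : F × F → ↥(Wsub B v v') := fun p =>
    ⟨p.1 • w0 + p.2 • f, (Wsub B v v').add_mem ((Wsub B v v').smul_mem _ hw0)
      ((Wsub B v v').smul_mem _ hf)⟩
  have hj1 : ∀ p : F × F, B ((j p : ↥(Wsub B v v')) : V) f = p.1 := by
    intro p
    show B (p.1 • w0 + p.2 • f) f = p.1
    rw [map_add, map_smul, map_smul, LinearMap.add_apply, LinearMap.smul_apply,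
      LinearMap.smul_apply, hp.ef, hp.ff]
    simp
  have hj2 : ∀ p : F × F, B ((j p : ↥(Wsub B v v')) : V) w0 = p.2 := by
    intro p
    show B (p.1 • w0 + p.2 • f) w0 = p.2
    rw [map_add, map_smul, map_smul, LinearMap.add_apply, LinearMap.smul_apply,
      LinearMap.smul_apply, hp.ee, hp.fe]
    simp
  have hinj : Function.Injective j := by
    intro p p' hpp
    apply Prod.ext
    · rw [← hj1 p, ← hj1 p', hpp]
    · rw [← hj2 p, ← hj2 p', hpp]
  have hcard : Nat.card ↥(Wsub B v v') ≤ Nat.card (F × F) := by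
    rw [Cfsg.Agent.Lib.Helper27_UQ_CARD.card_Wsub hF h, h4, Nat.card_prod, hF]
    apply le_of_eq
    ring
  have hbij := hinj.bijective_of_nat_card_le hcard
  intro x hx
  obtain ⟨p, hpx⟩ := hbij.2 ⟨x, hx⟩
  have h1 := hj1 p
  have h2 := hj2 p
  rw [hpx] at h1 h2
  have h3 : ((j p : ↥(Wsub B v v')) : V) = x := congrArg Subtype.val hpx
  simp only at h1 h2
  rw [h1, h2]
  exact h3.symm

/-- the `W`-level step for one isotropic vector -/
theorem iso_line_mem [Finite F] [FiniteDimensional F V] (hσ : Invol σ) (hB : IsHerm B)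
    (hN : NondegOn B ⊤) {q : ℕ} (hF : Nat.card F = q ^ 2) {v v' : V} (h : HypPair B v v')
    (h4 : finrank F V = 4) (S : Subgroup ↥(SUg B)) (I : AddSubgroup ↥(Wsub B v v'))
    (hSI : ∀ s ∈ S, ∀ w ∈ I, (udat hσ hB h).ρ s w ∈ I)
    (hcnt : Nat.card ↥(Wsub B v v') * (S ⊓ (udat hσ hB h).K).relIndex (udat hσ hB h).K ≤
      q * Nat.card I)
    {w0 : V} (hw0 : w0 ∈ Wsub B v v') (hw00 : w0 ≠ 0) (hiso : B w0 w0 = 0) (a : F) :
    (⟨a • w0, (Wsub B v v').smul_mem a hw0⟩ : ↥(Wsub B v v')) ∈ I := by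
  classical
  have hfinV : Finite V := Module.finite_of_finite F
  have hfinE : Finite (V ≃ₗ[F] V) :=
    Finite.of_injective (fun e : V ≃ₗ[F] V => (e : V → V)) DFunLike.coe_injective
  have hfinG : Finite ↥(SUg B) := inferInstance
  have hWnd : NondegOn B (Wsub B v v') := by
    rw [Wsub_eq_Wp]; exact nondegOn_Wp hB hN h
  -- a hyperbolic partner of `w0` inside `W`
  obtain ⟨f, hfW, hff, hw0f⟩ := exists_partner hσ hB hWnd hw0 hw00 hiso
  have hp : HypPair B w0 f := hypPair_mk hB hiso hff hw0f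
  have hcoord := plane_coords hB hF h h4 hw0 hfW hp
  -- the root group of `w0` inside `K`
  have hvw0 : B v w0 = 0 := herm_eq_zero hB hw0.1
  have hv'w0 : B v' w0 = 0 := herm_eq_zero hB hw0.2
  have hutvK : ∀ c : F, σ c = -c → utv B w0 c ∈ Kv B v v' := fun c hc =>
    ⟨utv_mem_SUg hB w0 hc, utv_fix B w0 c hvw0, utv_fix B w0 c hv'w0⟩
  obtain ⟨U', hU'def⟩ : ∃ U' : Subgroup ↥(SUg B), U' = (Xv B w0).subgroupOf (SUg B) := ⟨_, rfl⟩
  have hU'K : U' ≤ (udat hσ hB h).K := by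
    intro g hg
    rw [hU'def, Subgroup.mem_subgroupOf] at hg
    obtain ⟨c, hc, hgc⟩ := (mem_Xv B).mp hg
    rw [mem_K, hgc]
    exact hutvK c hc
  have hU'card : Nat.card U' = q := by
    rw [hU'def, Nat.card_congr (Subgroup.subgroupOfEquivOfLe (Xv_le_SUg hB w0)).toEquiv]
    exact Cfsg.Agent.Lib.Helper27_UQ_CARD.card_Xv hσ hF hp
  -- the additive group `C`
  obtain ⟨C, hCdef⟩ : ∃ C : AddSubgroup F, C = Yv B (S.map (SUg B).subtype) w0 := ⟨_, rfl⟩
  have hCmem : ∀ c : F, c ∈ C ↔ σ c = -c ∧ ∃ s ∈ S, (s : V ≃ₗ[F] V) = utv B w0 c := by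
    intro c
    rw [hCdef, mem_Yv, Subgroup.mem_map]
    rfl
  have hU'X : ∀ x : ↥(SUg B), x ∈ U' → (x : V ≃ₗ[F] V) ∈ Xv B w0 := by
    intro x hx
    rw [hU'def, Subgroup.mem_subgroupOf] at hx
    exact hx
  -- `|S ∩ U'| ≤ |C|`
  have hSU : Nat.card ↥(S ⊓ U') ≤ Nat.card C := by
    have hex : ∀ g : ↥(S ⊓ U'), ∃ c : F, σ c = -c ∧ ((g : ↥(SUg B)) : V ≃ₗ[F] V) = utv B w0 c := by
      intro g
      exact (mem_Xv B).mp (hU'X _ g.2.2)
    choose cf hcf1 hcf2 using hex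
    have hcfC : ∀ g : ↥(S ⊓ U'), cf g ∈ C := fun g =>
      (hCmem _).mpr ⟨hcf1 g, (g : ↥(SUg B)), g.2.1, hcf2 g⟩
    apply Nat.card_le_card_of_injective (fun g : ↥(S ⊓ U') => (⟨cf g, hcfC g⟩ : ↥C))
    intro g g' hgg
    have h1 : cf g = cf g' := congrArg Subtype.val hgg
    apply Subtype.ext
    apply Subtype.ext
    rw [hcf2 g, hcf2 g', h1]
  -- `|W| ≤ |C| |I|`
  have hcard : Nat.card ↥(Wsub B v v') ≤ Nat.card C * Nat.card I := by
    have e1 := Cfsg.Agent.Lib.Helper95_UQ_A1.relIndex_mul_card_inf S U'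
    have hne : S.relIndex (udat hσ hB h).K ≠ 0 := by
      unfold Subgroup.relIndex
      exact Subgroup.index_ne_zero_of_finite
    have e2 : S.relIndex U' ≤ S.relIndex (udat hσ hB h).K :=
      Subgroup.relIndex_le_of_le_right hU'K hne
    have e3 : (S ⊓ (udat hσ hB h).K).relIndex (udat hσ hB h).K =
        S.relIndex (udat hσ hB h).K := Subgroup.inf_relIndex_right _ _
    rw [e3] at hcnt
    rw [hU'card] at e1
    have hq : q ≤ S.relIndex (udat hσ hB h).K * Nat.card C := by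
      rw [← e1]
      exact Nat.mul_le_mul e2 hSU
    have h5 : S.relIndex (udat hσ hB h).K * Nat.card ↥(Wsub B v v') ≤
        S.relIndex (udat hσ hB h).K * (Nat.card C * Nat.card I) := by
      calc S.relIndex (udat hσ hB h).K * Nat.card ↥(Wsub B v v')
          = Nat.card ↥(Wsub B v v') * S.relIndex (udat hσ hB h).K := by ring
        _ ≤ q * Nat.card I := hcnt
        _ ≤ (S.relIndex (udat hσ hB h).K * Nat.card C) * Nat.card I :=
            Nat.mul_le_mul_right _ hq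
        _ = _ := by ring
    exact Nat.le_of_mul_le_mul_left h5 (Nat.pos_of_ne_zero hne)
  -- the linear functional `x ↦ B x w0` on `W`
  let φ : ↥(Wsub B v v') →ₗ[F] F := (B.flip w0).comp (Wsub B v v').subtype
  have hφ : ∀ x : ↥(Wsub B v v'), φ x = B (x : V) w0 := fun x => rfl
  have hWcard : Nat.card ↥(Wsub B v v') = Nat.card F ^ 2 := by
    rw [Cfsg.Agent.Lib.Helper27_UQ_CARD.card_Wsub hF h, h4, hF]
    ring
  have hkey := Cfsg.Agent.Lib.Helper75_U4_B1.line_mem hWcard φ ⟨w0, hw0⟩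
    (by rw [hφ]; exact hiso)
    (by
      intro x hx
      rw [hφ] at hx
      refine ⟨B (x : V) f, ?_⟩
      apply Subtype.ext
      have := hcoord (x : V) x.2
      rw [hx, zero_smul, add_zero] at this
      exact this)
    I C
    (by
      intro c hc x hx
      obtain ⟨hcσ, s, hsS, hs⟩ := (hCmem c).mp hc
      have hsK : (s : V ≃ₗ[F] V) ∈ Kv B v v' := by rw [hs]; exact hutvK c hcσ
      have h1 := hSI s hsS x hx
      have h2 : (((udat hσ hB h).ρ s x : ↥(Wsub B v v')) : V) = (s : V ≃ₗ[F] V) (x : V) := by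
        have h3 : (s : V ≃ₗ[F] V) v = (1 : F) • v := by rw [hsK.2.1, one_smul]
        rw [ρ_of_mem hσ hB h (Kv_le_Lv B v v' hsK) h3, map_one, one_smul]
      have h4' : (c * φ x) • (⟨w0, hw0⟩ : ↥(Wsub B v v')) = (udat hσ hB h).ρ s x - x := by
        apply Subtype.ext
        rw [AddSubgroupClass.coe_sub, h2, hs, utv_apply B hiso, hφ]
        simp
      rw [h4']
      exact I.sub_mem h1 hx)
    hcard a
  exact hkey

/-- **THEOREM B** (small index): a subgroup of index `≤ q` in `P_v = Q_v L_v` contains `Q_v`. -/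
theorem THMB [Finite F] [FiniteDimensional F V] (hσ : Invol σ) (hB : IsHerm B)
    (hN : NondegOn B ⊤) {q : ℕ} (hF : Nat.card F = q ^ 2) {v v' : V} (h : HypPair B v v')
    (h4 : finrank F V = 4) (T : Subgroup ↥(SUg B))
    (hT : T.relIndex ((udat hσ hB h).Q ⊔ (udat hσ hB h).L) ≤ q) :
    (udat hσ hB h).Q ≤ T := by
  classical
  have hfinV : Finite V := Module.finite_of_finite F
  have hfinE : Finite (V ≃ₗ[F] V) :=
    Finite.of_injective (fun e : V ≃ₗ[F] V => (e : V → V)) DFunLike.coe_injective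
  have hfinG : Finite ↥(SUg B) := inferInstance
  have hD := udat_ok hσ hB hN h
  have hA : Nat.card ↥(skewA σ) = q := by
    rw [← Cfsg.Agent.Lib.Helper95_UQ_FLD.card_skew hσ hF]
    exact Nat.card_congr (Equiv.subtypeEquivRight (fun c => mem_skewA))
  obtain ⟨I, S, hI, hS, hSI, hcnt⟩ :=
    Cfsg.Agent.Lib.Helper75_U4_BAbs.abs_data (udat hσ hB h) hD hA T hT
  have hWnd : NondegOn B (Wsub B v v') := by
    rw [Wsub_eq_Wp]; exact nondegOn_Wp hB hN h
  have hfr : finrank F ↥(Wsub B v v') = 2 := by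
    have := Cfsg.Agent.Lib.Helper27_UQ_CARD.finrank_Wsub h
    omega
  -- two independent vectors of `W`
  let b := Module.finBasisOfFinrankEq F ↥(Wsub B v v') hfr
  have hb0 : ((b 0 : ↥(Wsub B v v')) : V) ≠ 0 := by
    intro h0
    exact b.ne_zero 0 (Subtype.ext h0)
  have hb1 : ((b 1 : ↥(Wsub B v v')) : V) ∉ Submodule.span F {((b 0 : ↥(Wsub B v v')) : V)} := by
    intro hmem
    obtain ⟨c, hc⟩ := Submodule.mem_span_singleton.mp hmem
    have h1 : c • b 0 = b 1 := Subtype.ext hc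
    have h2 := congrArg (fun z => b.repr z 1) h1
    simp at h2
  -- an isotropic vector and a hyperbolic pair in `W`
  obtain ⟨a0, b0, hne, hiso⟩ := exists_iso hσ hB hb0 hb1
  have hw0W : a0 • ((b 0 : ↥(Wsub B v v')) : V) + b0 • ((b 1 : ↥(Wsub B v v')) : V) ∈
      Wsub B v v' :=
    (Wsub B v v').add_mem ((Wsub B v v').smul_mem _ (b 0).2) ((Wsub B v v').smul_mem _ (b 1).2)
  obtain ⟨w0, hw0def⟩ : ∃ w0 : V, w0 =
      a0 • ((b 0 : ↥(Wsub B v v')) : V) + b0 • ((b 1 : ↥(Wsub B v v')) : V) := ⟨_, rfl⟩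
  rw [← hw0def] at hne hiso hw0W
  obtain ⟨f, hfW, hff, hw0f⟩ := exists_partner hσ hB hWnd hw0W hne hiso
  have hp : HypPair B w0 f := hypPair_mk hB hiso hff hw0f
  have hf0 : f ≠ 0 := by
    intro h0
    rw [h0] at hw0f
    simp at hw0f
  have hcoord := plane_coords hB hF h h4 hw0W hfW hp
  -- `I = ⊤`
  apply Cfsg.Agent.Lib.Helper75_U4_BAbs.abs_top (udat hσ hB h) hD
    ⟨⟨w0, hw0W⟩, fun h0 => hne (congrArg Subtype.val h0)⟩ T
  intro w
  apply (hI w).mp
  have h1 := iso_line_mem hσ hB hN hF h h4 S I hSI hcnt hw0W hne hiso (B (w : V) f)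
  have h2 := iso_line_mem hσ hB hN hF h h4 S I hSI hcnt hfW hf0 hff (B (w : V) w0)
  have h3 : w = (⟨B (w : V) f • w0, (Wsub B v v').smul_mem _ hw0W⟩ : ↥(Wsub B v v')) +
      ⟨B (w : V) w0 • f, (Wsub B v v').smul_mem _ hfW⟩ := by
    apply Subtype.ext
    exact hcoord (w : V) w.2
  rw [h3]
  exact I.add_mem h1 h2

end Cfsg.Agent.Lib.Helper75_U4_THMB
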