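import Mathlib
import Cfsg.Agent.Lib.Helper39_U4Defs
import Cfsg.Agent.Lib.Helper39_U4Compat
import Cfsg.Agent.Lib.Helper13_SUGen
import Cfsg.Agent.Lib.Helper94_HermTrans
import Cfsg.Agent.Lib.Helper94_UQInst
import Cfsg.Agent.Lib.Helper94_UQ_TORUS
import Cfsg.Agent.Lib.Helper75_U4_THMB
import Cfsg.Agent.Lib.Helper17_Sylow

/-!
# S2150, package P-ADAPT3 (helper53 for helper39): Theorem B in the `Pg / Qg` language,
from helper75's `THMB` (udat language)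
-/

set_option autoImplicit false

namespace Cfsg.Agent.Lib.Helper53_U4_PADAPT3

open Module Cfsg.Agent.Lib.Helper94_Symp Cfsg.Agent.Lib.Helper94_Herm
  Cfsg.Agent.Lib.Helper94_HermEich Cfsg.Agent.Lib.Helper94_HermOrth
  Cfsg.Agent.Lib.Helper13_SUGen Cfsg.Agent.Lib.Helper39_U4Defs

variable {F V : Type*} [Field F] [AddCommGroup V] [Module F V] {σ : F →+* F}
  {B : V →ₗ[F] V →ₛₗ[σ] F} [Finite F] [FiniteDimensional F V]

/-- P-ADAPT3: Theorem B in my language, from helper75's `THMB`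
(`T.subgroupOf (SUg B)` has relative index `≤ q` in `Q ⊔ L = P_u`). -/
theorem adapt_thmB {q : ℕ} (Hy : U4Hyp B q) {u us : V} (hp : HypPair B u us)
    (T : Subgroup (V ≃ₗ[F] V)) (hT : T ≤ Pg B u) (hidx : Nat.card ↥(Pg B u) ≤ q * Nat.card T) :
    Qg B u ≤ T := by
  classical
  have hfinV : Finite V := Module.finite_of_finite F
  have hfinE : Finite (V ≃ₗ[F] V) :=
    Finite.of_injective (fun e : V ≃ₗ[F] V => (e : V → V)) DFunLike.coe_injective
  have hu0 : u ≠ 0 := by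
    rintro rfl
    have := hp.ef
    simp at this
  have hPg : Pg B u = Cfsg.Agent.Lib.Helper27_UQDefs.Pv B u :=
    Cfsg.Agent.Lib.Helper39_U4Compat.Pg_eq hu0
  have hQg : Qg B u = Cfsg.Agent.Lib.Helper27_UQDefs.Qv B u :=
    Cfsg.Agent.Lib.Helper39_U4Compat.Qg_eq Hy.hB hp
  set S := Cfsg.Agent.Lib.Helper13_PSUSimple.SUg B with hS
  set D := Cfsg.Agent.Lib.Helper94_UQInst.udat Hy.hσ Hy.hB hp with hD
  have hPvle : Cfsg.Agent.Lib.Helper27_UQDefs.Pv B u ≤ S :=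
    Cfsg.Agent.Lib.Helper27_UQDefs.Pv_le (B := B) u
  -- `Q ⊔ L = P_u` inside `SUg`
  have hQL : D.Q ⊔ D.L = (Cfsg.Agent.Lib.Helper27_UQDefs.Pv B u).subgroupOf S := by
    apply le_antisymm
    · apply sup_le
      · intro g hg
        rw [Subgroup.mem_subgroupOf]
        exact Cfsg.Agent.Lib.Helper27_UQDefs.Qv_le_Pv Hy.hB hp
          ((Cfsg.Agent.Lib.Helper94_UQInst.mem_Q Hy.hσ Hy.hB hp).mp hg)
      · intro g hg
        rw [Subgroup.mem_subgroupOf]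
        exact Cfsg.Agent.Lib.Helper27_UQDefs.Lv_le_Pv (B := B) u us
          ((Cfsg.Agent.Lib.Helper94_UQInst.mem_L Hy.hσ Hy.hB hp).mp hg)
    · intro g hg
      rw [Subgroup.mem_subgroupOf] at hg
      obtain ⟨a, ha, l, hl, hgal⟩ :=
        Cfsg.Agent.Lib.Helper94_UQ_TORUS.Pv_eq_mul Hy.hσ Hy.hB hp hg
      have haS : a ∈ S := Cfsg.Agent.Lib.Helper27_UQDefs.Qv_le_SUg Hy.hB hp ha
      have hlS : l ∈ S := Cfsg.Agent.Lib.Helper27_UQDefs.Lv_le (B := B) u us hl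
      have hg' : g = (⟨a, haS⟩ : ↥S) * ⟨l, hlS⟩ := Subtype.ext hgal
      rw [hg']
      exact Subgroup.mul_mem_sup ((Cfsg.Agent.Lib.Helper94_UQInst.mem_Q Hy.hσ Hy.hB hp).mpr ha)
        ((Cfsg.Agent.Lib.Helper94_UQInst.mem_L Hy.hσ Hy.hB hp).mpr hl)
  have hTS : T ≤ S := (hT.trans (le_of_eq hPg)).trans hPvle
  -- the relative index
  have hrel : (T.subgroupOf S).relIndex (D.Q ⊔ D.L) ≤ q := by
    rw [hQL]
    have hle : T.subgroupOf S ≤ (Cfsg.Agent.Lib.Helper27_UQDefs.Pv B u).subgroupOf S := by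
      intro g hg
      rw [Subgroup.mem_subgroupOf] at hg ⊢
      exact hPg ▸ hT hg
    have h1 := Cfsg.Agent.Lib.Helper17_Sylow.card_mul_relIndex_of_le hle
    have c1 : Nat.card ↥(T.subgroupOf S) = Nat.card T :=
      Nat.card_congr (Subgroup.subgroupOfEquivOfLe hTS).toEquiv
    have c2 : Nat.card ↥((Cfsg.Agent.Lib.Helper27_UQDefs.Pv B u).subgroupOf S) =
        Nat.card ↥(Pg B u) := by
      rw [hPg]
      exact Nat.card_congr (Subgroup.subgroupOfEquivOfLe hPvle).toEquiv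
    rw [c1, c2] at h1
    have hpos : 0 < Nat.card T := Nat.card_pos
    have h2 : Nat.card T * ((T.subgroupOf S).relIndex
        ((Cfsg.Agent.Lib.Helper27_UQDefs.Pv B u).subgroupOf S)) ≤ Nat.card T * q := by
      rw [h1, mul_comm]; exact hidx
    exact Nat.le_of_mul_le_mul_left h2 hpos
  have hthm := Cfsg.Agent.Lib.Helper75_U4_THMB.THMB Hy.hσ Hy.hB Hy.hN Hy.hq hp Hy.h4
    (T.subgroupOf S) hrel
  intro g hg
  rw [hQg] at hg
  have hgS : g ∈ S := Cfsg.Agent.Lib.Helper27_UQDefs.Qv_le_SUg Hy.hB hp hg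
  have h3 : (⟨g, hgS⟩ : ↥S) ∈ D.Q := (Cfsg.Agent.Lib.Helper94_UQInst.mem_Q Hy.hσ Hy.hB hp).mpr hg
  have h4 := hthm h3
  rwa [Subgroup.mem_subgroupOf] at h4

end Cfsg.Agent.Lib.Helper53_U4_PADAPT3
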