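import Mathlib
import Cfsg.Agent.Lib.Helper39_U4Defs
import Cfsg.Agent.Lib.Helper13_SUGen
import Cfsg.Agent.Lib.Helper94_HermTrans
import Cfsg.Agent.Lib.Helper95_UQ_FLD
import Cfsg.Agent.Lib.Helper54_U4_LINE3
import Cfsg.Agent.Lib.Helper54_U4_LINE4
import Cfsg.Agent.Lib.Helper50_U4_G_LINE1
import Cfsg.Agent.Lib.Helper99_U4_GLINE2
import Cfsg.Agent.Lib.Helper35_U4_GLINE5

/-!
# S2150 (architect helper39), package G-G4: `[C : C ∩ Qg B v] ≤ q` for every subgroup `C` of the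
radical `A_l` of a totally isotropic line `l` and every nonzero `v ∈ l`
-/

set_option autoImplicit false

namespace Cfsg.Agent.Lib.Helper54_U4_G4

open Module Cfsg.Agent.Lib.Helper94_Symp Cfsg.Agent.Lib.Helper94_Herm
  Cfsg.Agent.Lib.Helper94_HermEich Cfsg.Agent.Lib.Helper94_HermOrth
  Cfsg.Agent.Lib.Helper13_SUGen Cfsg.Agent.Lib.Helper39_U4Defs
  Cfsg.Agent.Lib.Helper54_U4_LINE4 Cfsg.Agent.Lib.Helper54_U4_LINE3

/-- counting lemma: a map on a subgroup `C` whose fibres lie in cosets of `C ⊓ K` -/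
lemma card_le_mul {G : Type*} [Group G] (C K : Subgroup G) [Finite ↥(C ⊓ K)] {S : Type*}
    [Finite S] (ψ : ↥C → S) (h : ∀ b b' : ↥C, ψ b = ψ b' → (b : G)⁻¹ * (b' : G) ∈ K) :
    Nat.card ↥C ≤ Nat.card S * Nat.card ↥(C ⊓ K) := by
  classical
  let rep : S → ↥C := fun y => if hy : ∃ b₀ : ↥C, ψ b₀ = y then Classical.choose hy else 1
  have hrep : ∀ b : ↥C, ψ (rep (ψ b)) = ψ b := by
    intro b
    have hy : ∃ b₀ : ↥C, ψ b₀ = ψ b := ⟨b, rfl⟩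
    show ψ (if hy : ∃ b₀ : ↥C, ψ b₀ = ψ b then Classical.choose hy else 1) = ψ b
    rw [dif_pos hy]
    exact Classical.choose_spec hy
  let g : ↥C → S × ↥(C ⊓ K) := fun b =>
    (ψ b, ⟨((rep (ψ b) : ↥C) : G)⁻¹ * (b : G),
      ⟨C.mul_mem (C.inv_mem (rep (ψ b)).2) b.2, h _ _ (hrep b)⟩⟩)
  have hg : Function.Injective g := by
    intro b b' hbb'
    have h1 : ψ b = ψ b' := congrArg Prod.fst hbb'
    have h2 := congrArg (fun p => ((p.2 : ↥(C ⊓ K)) : G)) hbb'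
    simp only [g] at h2
    rw [h1] at h2
    exact Subtype.ext (mul_left_cancel h2)
  calc Nat.card ↥C ≤ Nat.card (S × ↥(C ⊓ K)) := Nat.card_le_card_of_injective g hg
    _ = Nat.card S * Nat.card ↥(C ⊓ K) := Nat.card_prod _ _

variable {F V : Type*} [Field F] [AddCommGroup V] [Module F V] {σ : F →+* F}
  {B : V →ₗ[F] V →ₛₗ[σ] F} [Finite F] [FiniteDimensional F V]

/-- G-G4 (§4.2 (G4)): `[A_l : A_l ∩ Qg B v] ≤ q` for `0 ≠ v ∈ l`, for every subgroup of `A_l`. -/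
theorem G4 {q : ℕ} (Hy : U4Hyp B q) {l : Submodule F V} (hl : IsTILine B l) {v : V}
    (hv0 : v ≠ 0) (hv : v ∈ l) (C : Subgroup (V ≃ₗ[F] V)) (hC : C ≤ uG B ⊓ fixer l) :
    Nat.card C ≤ q * Nat.card ↥(C ⊓ Qg B v) := by
  classical
  have hB := Hy.hB
  have hσ := Hy.hσ
  obtain ⟨e₁, e₂, f₁, f₂, hl_eq, h1, h2, h12, h12', h21, hff, hcoord⟩ :=
    Cfsg.Agent.Lib.Helper50_U4_G_LINE1.line_coords Hy hl
  obtain ⟨α, γ, rfl⟩ := hcoord v hv
  have hαγ : α ≠ 0 ∨ γ ≠ 0 := by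
    by_contra hcon
    push Not at hcon
    apply hv0
    rw [hcon.1, hcon.2, zero_smul, zero_smul, add_zero]
  obtain ⟨hparam, -⟩ := Cfsg.Agent.Lib.Helper99_U4_GLINE2.line_param Hy h1 h2 h12 h12' h21 hff
  rw [hl_eq] at hC
  have he21 : B e₂ e₁ = 0 := herm_eq_zero hB h12
  have hf2e1 : B f₂ e₁ = 0 := herm_eq_zero hB h12'
  have he2f1 : B e₂ f₁ = 0 := herm_eq_zero hB h21
  have hf2f1 : B f₂ f₁ = 0 := herm_eq_zero hB hff
  have he1l : e₁ ∈ Submodule.span F {e₁, e₂} := Submodule.subset_span (by simp)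
  have he2l : e₂ ∈ Submodule.span F {e₁, e₂} := Submodule.subset_span (by simp)
  -- finiteness
  haveI : Finite V := Module.finite_of_finite F
  haveI : Finite (V ≃ₗ[F] V) := Finite.of_injective (fun g => (g : V → V)) DFunLike.coe_injective
  -- the functional
  obtain ⟨x₀, hx₀⟩ : ∃ x₀ : V, x₀ = σ γ • f₁ - σ α • f₂ := ⟨_, rfl⟩
  have hX1 : B x₀ e₁ = σ γ := by
    rw [hx₀]
    simp only [map_sub, map_smul, LinearMap.sub_apply, LinearMap.smul_apply, smul_eq_mul, h1.fe,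
      hf2e1, mul_one, mul_zero, sub_zero]
  have hX2 : B x₀ e₂ = -(σ α) := by
    rw [hx₀]
    simp only [map_sub, map_smul, LinearMap.sub_apply, LinearMap.smul_apply, smul_eq_mul, h2.fe,
      h21, mul_one, mul_zero, zero_sub]
  have hE1 : B e₁ x₀ = γ := by
    rw [hB x₀ e₁, hX1, hσ.invol]
  have hE2 : B e₂ x₀ = -α := by
    rw [hB x₀ e₂, hX2, map_neg, hσ.invol]
  have hψ : ∀ c₁ lam s : F, B ((eich B e₁ (lam • e₂) c₁ * utv B e₂ s) x₀) x₀ - B x₀ x₀ =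
      γ * σ γ * c₁ + α * σ α * s + σ α * γ * σ lam - α * σ γ * lam := by
    intro c₁ lam s
    rw [b_apply hB h1.ee h2.ee h12, hX1, hX2]
    simp only [map_add, map_smul, map_neg, LinearMap.add_apply, LinearMap.smul_apply,
      LinearMap.neg_apply, smul_eq_mul, hE1, hE2]
    ring
  have hadd : ∀ b ∈ fixer (Submodule.span F {e₁, e₂}), ∀ c₁ lam s : F,
      B ((b * (eich B e₁ (lam • e₂) c₁ * utv B e₂ s)) x₀) x₀ - B x₀ x₀ =
        (B (b x₀) x₀ - B x₀ x₀) +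
          (B ((eich B e₁ (lam • e₂) c₁ * utv B e₂ s) x₀) x₀ - B x₀ x₀) := by
    intro b hb c₁ lam s
    have hb1 : b e₁ = e₁ := hb e₁ he1l
    have hb2 : b e₂ = e₂ := hb e₂ he2l
    rw [LinearEquiv.mul_apply, b_apply hB h1.ee h2.ee h12]
    simp only [map_add, map_smul, map_neg, LinearMap.add_apply, LinearMap.smul_apply,
      LinearMap.neg_apply, smul_eq_mul, hb1, hb2]
    ring
  -- the map to the skew elements
  have hskew : ∀ b : ↥C, σ (B ((b : V ≃ₗ[F] V) x₀) x₀ - B x₀ x₀) =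
      -(B ((b : V ≃ₗ[F] V) x₀) x₀ - B x₀ x₀) := by
    intro b
    obtain ⟨c₁, lam, s, hc, hs, hb⟩ := (hparam (b : V ≃ₗ[F] V)).mp (hC b.2)
    rw [hb, hψ]
    simp only [map_add, map_sub, map_mul, hσ.invol, hc, hs]
    ring
  have hkey : ∀ b b' : ↥C, (⟨_, hskew b⟩ : {c : F // σ c = -c}) = ⟨_, hskew b'⟩ →
      ((b : V ≃ₗ[F] V))⁻¹ * (b' : V ≃ₗ[F] V) ∈ Qg B (α • e₁ + γ • e₂) := by
    intro b b' hbb'
    have hval : B ((b : V ≃ₗ[F] V) x₀) x₀ - B x₀ x₀ = B ((b' : V ≃ₗ[F] V) x₀) x₀ - B x₀ x₀ :=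
      congrArg Subtype.val hbb'
    have hmem : ((b : V ≃ₗ[F] V))⁻¹ * (b' : V ≃ₗ[F] V) ∈
        uG B ⊓ fixer (Submodule.span F {e₁, e₂}) :=
      Subgroup.mul_mem _ (Subgroup.inv_mem _ (hC b.2)) (hC b'.2)
    obtain ⟨c₁, lam, s, hc, hs, hb''⟩ := (hparam _).mp hmem
    have hb' : (b' : V ≃ₗ[F] V) = (b : V ≃ₗ[F] V) * (eich B e₁ (lam • e₂) c₁ * utv B e₂ s) := by
      rw [← hb'']
      group
    have h3 := hadd (b : V ≃ₗ[F] V) (hC b.2).2 c₁ lam s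
    rw [← hb', ← hval, hψ] at h3
    rw [hb'']
    apply (line_Q_iff Hy h1 h2 h12 h12' h21 hff hc hs hαγ).mpr
    linear_combination -h3
  have hcard := card_le_mul C (Qg B (α • e₁ + γ • e₂))
    (fun b : ↥C => (⟨_, hskew b⟩ : {c : F // σ c = -c})) hkey
  rwa [Cfsg.Agent.Lib.Helper95_UQ_FLD.card_skew hσ Hy.hq] at hcard

end Cfsg.Agent.Lib.Helper54_U4_G4
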