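import Mathlib
import Cfsg.Agent.Lib.Helper39_U4Defs
import Cfsg.Agent.Lib.Helper39_U4Compat
import Cfsg.Agent.Lib.Helper13_SUGen
import Cfsg.Agent.Lib.Helper14_PSULocal1
import Cfsg.Agent.Lib.Helper64_UQ_PARAM
import Cfsg.Agent.Lib.Helper27_UQ_CARD

set_option autoImplicit false
set_option linter.unusedVariables false
set_option linter.unusedSimpArgs false
set_option linter.unusedSectionVars false

/-!
# S2150 (architect helper39): common tools for the packages P-ADAPT2a and P-ADAPT2b (helper58)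

`M ⊓ Qg B u` is parametrised by the vectors `w ∈ ⟨u, us⟩^⊥` for which some `eich B u w c` lies in `M`
(when `M ⊓ Xg B u = ⊥` the scalar `c` is determined by `w`).
-/

namespace Cfsg.Agent.Lib.Helper58_U4_PADAPTaux

open Module Cfsg.Agent.Lib.Helper94_Symp Cfsg.Agent.Lib.Helper94_Herm
  Cfsg.Agent.Lib.Helper94_HermEich Cfsg.Agent.Lib.Helper94_HermOrth
  Cfsg.Agent.Lib.Helper13_SUGen Cfsg.Agent.Lib.Helper39_U4Defs

variable {F V : Type*} [Field F] [AddCommGroup V] [Module F V] {σ : F →+* F}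
  {B : V →ₗ[F] V →ₛₗ[σ] F}

/-- the scalar `c` of `eich B u w c ∈ M` is determined by `w` when `M` has no root elements -/
theorem unique_c (hB : IsHerm B) {u us : V} (hp : HypPair B u us) (M : Subgroup (V ≃ₗ[F] V))
    (hX : M ⊓ Xg B u = ⊥) {w : V} (hwu : B w u = 0) {c c' : F} (hc : c + σ c = -(B w w))
    (hc' : c' + σ c' = -(B w w)) (hg : eich B u w c ∈ M) (hg' : eich B u w c' ∈ M) : c = c' := by
  have h1 : (eich B u w c)⁻¹ * eich B u w c' ∈ M := M.mul_mem (M.inv_mem hg) hg'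
  have hnwu : B (-w) u = 0 := by rw [map_neg, LinearMap.neg_apply, hwu, neg_zero]
  rw [Cfsg.Agent.Lib.Helper14_PSULocal1.eich_inv hB hp.ee hwu hc,
    Cfsg.Agent.Lib.Helper14_PSULocal1.eich_mul' hB hp.ee hnwu hwu] at h1
  have e1 : -w + w = 0 := neg_add_cancel w
  have e2 : σ c + c' - B w (-w) = c' - c := by
    rw [map_neg]
    linear_combination hc
  rw [e1, e2, Cfsg.Agent.Lib.Helper14_PSULocal1.eich_zero hp.ee] at h1
  have hskew : σ (c' - c) = -(c' - c) := by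
    rw [map_sub]
    linear_combination hc' - hc
  have h2 : utv B u (c' - c) ∈ Xg B u := Subgroup.subset_closure ⟨c' - c, hskew, rfl⟩
  have h3 : utv B u (c' - c) ∈ M ⊓ Xg B u := ⟨h1, h2⟩
  rw [hX, Subgroup.mem_bot, ← Cfsg.Agent.Lib.Helper27_UQDefs.utv_zero_right B u,
    Cfsg.Agent.Lib.Helper64_UQ_PARAM.utv_eq_iff hp] at h3
  linear_combination -h3

/-- the parametrisation of `M ⊓ Qg B u ⊓ N` -/
theorem card_inf (hB : IsHerm B) {u us : V} (hp : HypPair B u us) (M : Subgroup (V ≃ₗ[F] V))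
    (hX : M ⊓ Xg B u = ⊥) (N : Subgroup (V ≃ₗ[F] V)) (P : V → Prop)
    (hNP : ∀ w c, B w u = 0 → B w us = 0 → c + σ c = -(B w w) → (eich B u w c ∈ N ↔ P w)) :
    Nat.card ↥(M ⊓ Qg B u ⊓ N) =
      Nat.card {w : V // B w u = 0 ∧ B w us = 0 ∧
        (∃ c, c + σ c = -(B w w) ∧ eich B u w c ∈ M) ∧ P w} := by
  symm
  apply Nat.card_congr
  refine Equiv.ofBijective
    (fun w => (⟨eich B u w.1 (Classical.choose w.2.2.2.1), ⟨⟨?_, ?_⟩, ?_⟩⟩ :
      ↥(M ⊓ Qg B u ⊓ N))) ⟨?_, ?_⟩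
  · exact (Classical.choose_spec w.2.2.2.1).2
  · exact Subgroup.subset_closure
      ⟨w.1, _, w.2.1, (Classical.choose_spec w.2.2.2.1).1, rfl⟩
  · exact (hNP w.1 _ w.2.1 w.2.2.1 (Classical.choose_spec w.2.2.2.1).1).mpr w.2.2.2.2
  · intro w w' hww
    have h1 : eich B u w.1 (Classical.choose w.2.2.2.1) =
        eich B u w'.1 (Classical.choose w'.2.2.2.1) := congrArg Subtype.val hww
    have h2 := (Cfsg.Agent.Lib.Helper64_UQ_PARAM.eich_eq_iff hB hp
      (⟨w.2.1, w.2.2.1⟩ : w.1 ∈ Cfsg.Agent.Lib.Helper27_UQDefs.Wsub B u us)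
      (⟨w'.2.1, w'.2.2.1⟩ : w'.1 ∈ Cfsg.Agent.Lib.Helper27_UQDefs.Wsub B u us) _ _).mp h1
    exact Subtype.ext h2.1
  · rintro ⟨g, ⟨hgM, hgQ⟩, hgN⟩
    rw [Cfsg.Agent.Lib.Helper39_U4Compat.Qg_eq hB hp] at hgQ
    obtain ⟨w, c, hw, hc, rfl⟩ :=
      (Cfsg.Agent.Lib.Helper27_UQDefs.mem_Qv_iff_eich hB hp g).mp hgQ
    have hex : ∃ c, c + σ c = -(B w w) ∧ eich B u w c ∈ M := ⟨c, hc, hgM⟩
    have hPw : P w := (hNP w c hw.1 hw.2 hc).mp hgN
    refine ⟨⟨w, hw.1, hw.2, hex, hPw⟩, ?_⟩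
    apply Subtype.ext
    show eich B u w (Classical.choose hex) = eich B u w c
    have := unique_c hB hp M hX hw.1 (Classical.choose_spec hex).1 hc
      (Classical.choose_spec hex).2 hgM
    rw [this]

/-- the case `N = ⊤` -/
theorem card_inf_top (hB : IsHerm B) {u us : V} (hp : HypPair B u us) (M : Subgroup (V ≃ₗ[F] V))
    (hX : M ⊓ Xg B u = ⊥) :
    Nat.card ↥(M ⊓ Qg B u) =
      Nat.card {w : V // B w u = 0 ∧ B w us = 0 ∧
        (∃ c, c + σ c = -(B w w) ∧ eich B u w c ∈ M) ∧ True} := by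
  have h := card_inf hB hp M hX ⊤ (fun _ => True)
    (fun w c _ _ _ => ⟨fun _ => trivial, fun _ => Subgroup.mem_top _⟩)
  rw [inf_top_eq] at h
  exact h

end Cfsg.Agent.Lib.Helper58_U4_PADAPTaux
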