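import Mathlib
import Cfsg.Agent.Lib.Helper39_U4Defs
import Cfsg.Agent.Lib.Helper39_U4Compat
import Cfsg.Agent.Lib.Helper13_SUGen
import Cfsg.Agent.Lib.Helper94_HermTrans
import Cfsg.Agent.Lib.Helper94_HermWitt
import Cfsg.Agent.Lib.Helper95_UQ_FLD
import Cfsg.Agent.Lib.Helper99_U4_GLINE2
import Cfsg.Agent.Lib.Helper58_U4_PADAPTaux

/-!
# S2150 (architect helper39), package P-ADAPT2b: type (b) in `V`-language
-/

set_option autoImplicit false

namespace Cfsg.Agent.Lib.Helper54_U4_PADAPT2b

open Module Cfsg.Agent.Lib.Helper94_Symp Cfsg.Agent.Lib.Helper94_Herm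
  Cfsg.Agent.Lib.Helper94_HermEich Cfsg.Agent.Lib.Helper94_HermOrth
  Cfsg.Agent.Lib.Helper13_SUGen Cfsg.Agent.Lib.Helper39_U4Defs

variable {F V : Type*} [Field F] [AddCommGroup V] [Module F V] {σ : F →+* F}
  {B : V →ₗ[F] V →ₛₗ[σ] F} [Finite F] [FiniteDimensional F V]

/-- P-ADAPT2b: type (b) in `V`-language. -/
theorem adapt_typeB {q : ℕ} (Hy : U4Hyp B q) {u us : V} (hp : HypPair B u us)
    (M : Subgroup (V ≃ₗ[F] V)) (hM : M ≤ Pg B u) (hX : M ⊓ Xg B u = ⊥) (h2 : (2 : F) = 0)
    {x y : V} (hxu : B x u = 0) (hxus : B x us = 0) (hyu : B y u = 0) (hyus : B y us = 0)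
    (hxx : B x x = 0) (hyy : B y y = 0) (hxy : B x y = 1)
    (hI : ∀ w : V, B w u = 0 → B w us = 0 →
      ((∃ c, c + σ c = -(B w w) ∧ eich B u w c ∈ M) ↔
        ∃ a b : F, σ a = a ∧ σ b = b ∧ w = a • x + b • y)) :
    Nat.card ↥(M ⊓ Qg B u) = q ^ 2 ∧ TypeBg B q u M := by
  classical
  have hB := Hy.hB
  have hσ := Hy.hσ
  have hyx : B y x = 1 := by rw [hB x y, hxy, map_one]
  have hux : B u x = 0 := herm_eq_zero hB hxu
  have huy : B u y = 0 := herm_eq_zero hB hyu
  have husx : B us x = 0 := herm_eq_zero hB hxus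
  have husy : B us y = 0 := herm_eq_zero hB hyus
  have hpxy : HypPair B x y := hypPair_mk hB hxx hyy hxy
  have Fr : Cfsg.Agent.Lib.Helper99_U4_GLINE2.Frame B u x us y :=
    Cfsg.Agent.Lib.Helper99_U4_GLINE2.frame_mk hB hp hpxy hux huy husx husy
  have hu0 : u ≠ 0 := by
    rintro rfl
    have := hp.ef
    simp at this
  have hneg : ∀ a : F, -a = a := by
    intro a
    have : a + a = 0 := by linear_combination a * h2
    exact neg_eq_of_add_eq_zero_left this
  have hcard0 : Nat.card {a : F // σ a = a} = q := Cfsg.Agent.Lib.Helper95_UQ_FLD.card_fixed hσ Hy.hq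
  -- linear combinations of `x`, `y`
  have hWu : ∀ a b : F, B (a • x + b • y) u = 0 := by
    intro a b
    simp only [map_add, map_smul, LinearMap.add_apply, LinearMap.smul_apply, smul_eq_mul, hxu, hyu,
      mul_zero, add_zero]
  have hWus : ∀ a b : F, B (a • x + b • y) us = 0 := by
    intro a b
    simp only [map_add, map_smul, LinearMap.add_apply, LinearMap.smul_apply, smul_eq_mul, hxus,
      hyus, mul_zero, add_zero]
  have hco1 : ∀ a b : F, B (a • x + b • y) y = a := by
    intro a b
    simp only [map_add, map_smul, LinearMap.add_apply, LinearMap.smul_apply, smul_eq_mul, hxy, hyy,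
      mul_zero, mul_one, add_zero]
  have hco2 : ∀ a b : F, B (a • x + b • y) x = b := by
    intro a b
    simp only [map_add, map_smul, LinearMap.add_apply, LinearMap.smul_apply, smul_eq_mul, hxx, hyx,
      mul_zero, mul_one, zero_add]
  constructor
  · -- `|M ⊓ Qg B u| = q ^ 2`
    rw [Cfsg.Agent.Lib.Helper58_U4_PADAPTaux.card_inf_top hB hp M hX]
    have hq2 : q ^ 2 = Nat.card ({a : F // σ a = a} × {a : F // σ a = a}) := by
      rw [Nat.card_prod, hcard0, pow_two]
    rw [hq2]
    symm
    apply Nat.card_congr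
    refine Equiv.ofBijective (fun p => ⟨(p.1 : F) • x + (p.2 : F) • y, hWu _ _, hWus _ _,
      (hI _ (hWu _ _) (hWus _ _)).mpr ⟨p.1, p.2, p.1.2, p.2.2, rfl⟩, trivial⟩) ⟨?_, ?_⟩
    · intro p p' hpp'
      have hv : (p.1 : F) • x + (p.2 : F) • y = (p'.1 : F) • x + (p'.2 : F) • y :=
        congrArg Subtype.val hpp'
      have e1 := congrArg (fun v => B v y) hv
      have e2 := congrArg (fun v => B v x) hv
      simp only [hco1, hco2] at e1 e2
      exact Prod.ext (Subtype.ext e1) (Subtype.ext e2)
    · rintro ⟨w, hwu, hwus, hex, -⟩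
      obtain ⟨a, b, ha, hb, rfl⟩ := (hI w hwu hwus).mp hex
      exact ⟨(⟨a, ha⟩, ⟨b, hb⟩), rfl⟩
  · -- type (b)
    refine ⟨h2, ?_⟩
    intro l hl hul
    obtain ⟨hl2, hlti⟩ := hl
    -- a second vector of the line, orthogonal to `us`
    obtain ⟨v, hvl, hvu⟩ := Cfsg.Agent.Lib.Helper94_HermWitt.exists_notMem_span1
      (U := l) (by omega) u
    obtain ⟨w₁, hw₁⟩ : ∃ w₁ : V, w₁ = v - B v us • u := ⟨_, rfl⟩
    have hw₁l : w₁ ∈ l := by
      rw [hw₁]
      exact l.sub_mem hvl (l.smul_mem _ hul)
    have hw₁u : B w₁ u = 0 := hlti w₁ hw₁l u hul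
    have hw₁us : B w₁ us = 0 := by
      rw [hw₁]
      simp only [map_sub, map_smul, LinearMap.sub_apply, LinearMap.smul_apply, smul_eq_mul, hp.ef,
        mul_one, sub_self]
    have hw₁0 : w₁ ≠ 0 := by
      intro h0
      apply hvu
      rw [hw₁, sub_eq_zero] at h0
      rw [h0]
      exact Submodule.smul_mem _ _ (Submodule.mem_span_singleton_self u)
    have hw₁w₁ : B w₁ w₁ = 0 := hlti w₁ hw₁l w₁ hw₁l
    -- `l = span {u, w₁}`
    have hli : LinearIndependent F ![u, w₁] := by
      rw [LinearIndependent.pair_iff]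
      intro s t hst
      have e1 := congrArg (fun v => B v us) hst
      simp only [map_add, map_smul, LinearMap.add_apply, LinearMap.smul_apply, smul_eq_mul, hp.ef,
        hw₁us, mul_one, mul_zero, add_zero, map_zero, LinearMap.zero_apply] at e1
      rw [e1, zero_smul, zero_add] at hst
      rcases smul_eq_zero.mp hst with h | h
      · exact ⟨e1, h⟩
      · exact absurd h hw₁0
    have hspan : Submodule.span F (Set.range ![u, w₁]) = l := by
      apply Submodule.eq_of_le_of_finrank_eq
      · rw [Submodule.span_le]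
        rintro _ ⟨i, rfl⟩
        fin_cases i
        · exact hul
        · exact hw₁l
      · rw [finrank_span_eq_card hli, hl2]
        simp
    have hfix : ∀ g : V ≃ₗ[F] V, g ∈ fixer l ↔ g u = u ∧ g w₁ = w₁ := by
      intro g
      constructor
      · intro hg
        exact ⟨hg u hul, hg w₁ hw₁l⟩
      · rintro ⟨hgu, hgw⟩ z hz
        rw [← hspan] at hz
        induction hz using Submodule.span_induction with
        | mem z hz =>
          obtain ⟨i, rfl⟩ := hz
          fin_cases i
          · exact hgu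
          · exact hgw
        | zero => simp
        | add a b _ _ ha hb => rw [map_add, ha, hb]
        | smul c a _ ha => rw [map_smul, ha]
    -- membership of Eichler elements in `fixer l`
    have hNP : ∀ w c, B w u = 0 → B w us = 0 → c + σ c = -(B w w) →
        (eich B u w c ∈ fixer l ↔ B w₁ w = 0) := by
      intro w c hwu hwus hc
      have huw : B u w = 0 := herm_eq_zero hB hwu
      rw [hfix, Cfsg.Agent.Lib.Helper14_PSULocal1.eich_e hp.ee hwu huw,
        Cfsg.Agent.Lib.Helper14_PSULocal1.eich_perp hp.ee hwu huw hw₁u]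
      constructor
      · rintro ⟨-, h1⟩
        have h3 : B w₁ w • u = 0 := by
          have := sub_eq_self.mp h1
          exact this
        rcases smul_eq_zero.mp h3 with h | h
        · exact h
        · exact absurd h hu0
      · intro h0
        refine ⟨rfl, ?_⟩
        rw [h0, zero_smul, sub_zero]
    rw [Cfsg.Agent.Lib.Helper58_U4_PADAPTaux.card_inf hB hp M hX (fixer l)
      (fun w => B w₁ w = 0) hNP]
    -- coordinates of `w₁`
    obtain ⟨ξ, hξ⟩ : ∃ ξ : F, ξ = B w₁ x := ⟨_, rfl⟩
    obtain ⟨η, hη⟩ : ∃ η : F, η = B w₁ y := ⟨_, rfl⟩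
    have hdec : w₁ = η • x + ξ • y := by
      have := Cfsg.Agent.Lib.Helper99_U4_GLINE2.frame_decomp Fr Hy.hN Hy.h4 w₁
      rw [hw₁us, hw₁u, zero_smul, zero_smul, zero_add, add_zero, ← hξ, ← hη] at this
      exact this
    have hiso : σ η * ξ + σ ξ * η = 0 := by
      have h0 := hw₁w₁
      nth_rewrite 2 [hdec] at h0
      rw [map_add, map_smulₛₗ, map_smulₛₗ, ← hξ, ← hη, smul_eq_mul, smul_eq_mul] at h0
      exact h0
    have hpair : ∀ a b : F, σ a = a → σ b = b → B w₁ (a • x + b • y) = a * ξ + b * η := by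
      intro a b ha hb
      rw [map_add, map_smulₛₗ, map_smulₛₗ, ← hξ, ← hη, ha, hb, smul_eq_mul, smul_eq_mul]
    rw [← hcard0]
    symm
    apply Nat.card_congr
    by_cases hη0 : η = 0
    · -- then `ξ ≠ 0` and the solutions are the `b • y`
      have hξ0 : ξ ≠ 0 := by
        intro h0
        apply hw₁0
        rw [hdec, hη0, h0, zero_smul, zero_smul, add_zero]
      refine Equiv.ofBijective (fun b => ⟨(0 : F) • x + (b : F) • y, hWu _ _, hWus _ _,
        (hI _ (hWu _ _) (hWus _ _)).mpr ⟨0, b, map_zero σ, b.2, rfl⟩, ?_⟩) ⟨?_, ?_⟩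
      · rw [hpair 0 b (map_zero σ) b.2, hη0]
        ring
      · intro b b' hbb'
        have hv : (0 : F) • x + (b : F) • y = (0 : F) • x + (b' : F) • y :=
          congrArg Subtype.val hbb'
        have e2 := congrArg (fun v => B v x) hv
        simp only [hco2] at e2
        exact Subtype.ext e2
      · rintro ⟨w, hwu, hwus, hex, hw⟩
        obtain ⟨a, b, ha, hb, rfl⟩ := (hI w hwu hwus).mp hex
        rw [hpair a b ha hb, hη0, mul_zero, add_zero] at hw
        have ha0 : a = 0 := by
          rcases mul_eq_zero.mp hw with h | h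
          · exact h
          · exact absurd h hξ0
        subst ha0
        exact ⟨⟨b, hb⟩, rfl⟩
    · -- the solutions are the `a • x + (a * (ξ / η)) • y`
      have hρ : σ (ξ / η) = ξ / η := by
        have hση : σ η ≠ 0 := (map_ne_zero σ).mpr hη0
        rw [map_div₀]
        field_simp
        have := hneg (σ η * ξ)
        linear_combination hiso + this
      have hmulfix : ∀ a : F, σ a = a → σ (a * (ξ / η)) = a * (ξ / η) := by
        intro a ha
        rw [map_mul, ha, hρ]
      refine Equiv.ofBijective (fun a => ⟨(a : F) • x + ((a : F) * (ξ / η)) • y, hWu _ _, hWus _ _,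
        (hI _ (hWu _ _) (hWus _ _)).mpr ⟨a, (a : F) * (ξ / η), a.2, hmulfix a a.2, rfl⟩, ?_⟩)
        ⟨?_, ?_⟩
      · rw [hpair a ((a : F) * (ξ / η)) a.2 (hmulfix a a.2)]
        field_simp
        have := hneg ((a : F) * ξ)
        linear_combination -this
      · intro a a' haa'
        have hv : (a : F) • x + ((a : F) * (ξ / η)) • y = (a' : F) • x + ((a' : F) * (ξ / η)) • y :=
          congrArg Subtype.val haa'
        have e1 := congrArg (fun v => B v y) hv
        simp only [hco1] at e1
        exact Subtype.ext e1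
      · rintro ⟨w, hwu, hwus, hex, hw⟩
        obtain ⟨a, b, ha, hb, rfl⟩ := (hI w hwu hwus).mp hex
        rw [hpair a b ha hb] at hw
        have hb' : b = a * (ξ / η) := by
          field_simp
          have := hneg (a * ξ)
          linear_combination hw + this
        subst hb'
        exact ⟨⟨a, ha⟩, rfl⟩

end Cfsg.Agent.Lib.Helper54_U4_PADAPT2b
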