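import Mathlib
import Cfsg.Agent.Lib.Helper39_U4Defs
import Cfsg.Agent.Lib.Helper39_U4Compat
import Cfsg.Agent.Lib.Helper13_SUGen
import Cfsg.Agent.Lib.Helper94_HermTrans
import Cfsg.Agent.Lib.Helper58_U4_PADAPTaux

set_option autoImplicit false
set_option linter.unusedVariables false
set_option linter.unusedSimpArgs false
set_option linter.unusedSectionVars false

/-!
# S2150 (architect helper39): package P-ADAPT2a (helper58)

Type (a) in `V`-language: `|M ⊓ Qg B u| = |F w₀| = q^2`, and the line is `span {u, w₀}`.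
-/

namespace Cfsg.Agent.Lib.Helper58_U4_PADAPT2a

open Module Cfsg.Agent.Lib.Helper94_Symp Cfsg.Agent.Lib.Helper94_Herm
  Cfsg.Agent.Lib.Helper94_HermEich Cfsg.Agent.Lib.Helper94_HermOrth
  Cfsg.Agent.Lib.Helper13_SUGen Cfsg.Agent.Lib.Helper39_U4Defs

variable {F V : Type*} [Field F] [AddCommGroup V] [Module F V] {σ : F →+* F}
  {B : V →ₗ[F] V →ₛₗ[σ] F} [Finite F] [FiniteDimensional F V]

/-- P-ADAPT2a: type (a) in `V`-language. -/
theorem adapt_typeA {q : ℕ} (Hy : U4Hyp B q) {u us : V} (hp : HypPair B u us)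
    (M : Subgroup (V ≃ₗ[F] V)) (hM : M ≤ Pg B u) (hX : M ⊓ Xg B u = ⊥)
    {w₀ : V} (hw0u : B w₀ u = 0) (hw0us : B w₀ us = 0) (hw0 : w₀ ≠ 0) (hw00 : B w₀ w₀ = 0)
    (hI : ∀ w : V, B w u = 0 → B w us = 0 →
      ((∃ c, c + σ c = -(B w w) ∧ eich B u w c ∈ M) ↔ ∃ t : F, w = t • w₀)) :
    Nat.card ↥(M ⊓ Qg B u) = q ^ 2 ∧ TypeAg B u M := by
  have hB := Hy.hB
  have huw0 : B u w₀ = 0 := by rw [hB w₀ u, hw0u, map_zero]
  refine ⟨?_, ?_⟩
  · rw [Cfsg.Agent.Lib.Helper58_U4_PADAPTaux.card_inf_top hB hp M hX, ← Hy.hq]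
    symm
    apply Nat.card_congr
    have hu' : ∀ t : F, B (t • w₀) u = 0 := by
      intro t
      rw [map_smul, LinearMap.smul_apply, hw0u, smul_zero]
    have hus' : ∀ t : F, B (t • w₀) us = 0 := by
      intro t
      rw [map_smul, LinearMap.smul_apply, hw0us, smul_zero]
    refine Equiv.ofBijective
      (fun t : F => (⟨t • w₀, hu' t, hus' t, (hI _ (hu' t) (hus' t)).mpr ⟨t, rfl⟩, trivial⟩ :
        {w : V // B w u = 0 ∧ B w us = 0 ∧
          (∃ c, c + σ c = -(B w w) ∧ eich B u w c ∈ M) ∧ True})) ⟨?_, ?_⟩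
    · intro t t' htt
      have h1 : t • w₀ = t' • w₀ := congrArg Subtype.val htt
      exact smul_left_injective F hw0 h1
    · rintro ⟨w, hwu, hwus, hex, -⟩
      obtain ⟨t, ht⟩ := (hI w hwu hwus).mp hex
      exact ⟨t, Subtype.ext ht.symm⟩
  · refine ⟨Submodule.span F {u, w₀}, ⟨?_, ?_⟩, ?_, ?_⟩
    · have hli : LinearIndependent F ![u, w₀] := by
        rw [LinearIndependent.pair_iff]
        intro s t hst
        have h1 : B (s • u + t • w₀) us = 0 := by rw [hst, map_zero, LinearMap.zero_apply]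
        rw [map_add, LinearMap.add_apply, map_smul, map_smul, LinearMap.smul_apply,
          LinearMap.smul_apply, hp.ef, hw0us, smul_zero, add_zero, smul_eq_mul, mul_one] at h1
        refine ⟨h1, ?_⟩
        rw [h1, zero_smul, zero_add] at hst
        exact (smul_eq_zero.mp hst).resolve_right hw0
      have h2 := finrank_span_eq_card hli
      rw [Fintype.card_fin] at h2
      have hr : Set.range ![u, w₀] = {u, w₀} := by
        ext z
        simp only [Set.mem_range, Set.mem_insert_iff, Set.mem_singleton_iff]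
        constructor
        · rintro ⟨i, rfl⟩
          fin_cases i
          · left; rfl
          · right; rfl
        · rintro (rfl | rfl)
          · exact ⟨0, rfl⟩
          · exact ⟨1, rfl⟩
      rw [hr] at h2
      exact h2
    · intro a ha b hb
      obtain ⟨a1, a2, rfl⟩ := Submodule.mem_span_pair.mp ha
      obtain ⟨b1, b2, rfl⟩ := Submodule.mem_span_pair.mp hb
      simp only [map_add, map_smulₛₗ, LinearMap.add_apply, LinearMap.smul_apply, map_smul,
        hp.ee, hw0u, huw0, hw00, smul_zero, add_zero]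
    · exact Submodule.subset_span (Set.mem_insert _ _)
    · rintro g ⟨hgM, hgQ⟩
      rw [Cfsg.Agent.Lib.Helper39_U4Compat.Qg_eq hB hp] at hgQ
      obtain ⟨w, c, hw, hc, rfl⟩ :=
        (Cfsg.Agent.Lib.Helper27_UQDefs.mem_Qv_iff_eich hB hp _).mp hgQ
      obtain ⟨t, rfl⟩ := (hI w hw.1 hw.2).mp ⟨c, hc, hgM⟩
      have huw : B u (t • w₀) = 0 := by rw [hB (t • w₀) u, hw.1, map_zero]
      have hfu : eich B u (t • w₀) c u = u :=
        Cfsg.Agent.Lib.Helper14_PSULocal1.eich_e hp.ee hw.1 huw c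
      have hfw : eich B u (t • w₀) c w₀ = w₀ := by
        rw [Cfsg.Agent.Lib.Helper14_PSULocal1.eich_perp hp.ee hw.1 huw hw0u c,
          map_smulₛₗ, hw00, smul_zero, zero_smul, sub_zero]
      intro z hz
      obtain ⟨a1, a2, rfl⟩ := Submodule.mem_span_pair.mp hz
      rw [map_add, map_smul, map_smul, hfu, hfw]

end Cfsg.Agent.Lib.Helper58_U4_PADAPT2a
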