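import Mathlib
import Cfsg.Agent.Lib.Helper39_U4Defs
import Cfsg.Agent.Lib.Helper13_SUGen
import Cfsg.Agent.Lib.Helper94_HermTrans

/-!
# S2150 package G-G2 (architect helper39): an isometry fixing two different t.i. lines through `v`
pointwise is a root element of `v`
-/

set_option autoImplicit false

namespace Cfsg.Agent.Lib.Helper70_U4_GG2

open Module Cfsg.Agent.Lib.Helper94_Symp Cfsg.Agent.Lib.Helper94_Herm
  Cfsg.Agent.Lib.Helper94_HermEich Cfsg.Agent.Lib.Helper94_HermOrth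
  Cfsg.Agent.Lib.Helper13_SUGen Cfsg.Agent.Lib.Helper39_U4Defs

variable {F V : Type*} [Field F] [AddCommGroup V] [Module F V] {σ : F →+* F}
  {B : V →ₗ[F] V →ₛₗ[σ] F}

/-- an isometry fixing the hyperplane `v^⊥` pointwise (`v` isotropic, nonzero) is a unitary
transvection `utv B v k` with `σ k = -k` -/
theorem eq_utv_of_fix_perp (hσ : Invol σ) (hB : IsHerm B) (hN : NondegOn B ⊤) {v : V}
    (hv0 : v ≠ 0) (hvv : B v v = 0) {b : V ≃ₗ[F] V} (hb : b ∈ uG B)
    (hfix : ∀ x, B x v = 0 → b x = x) : ∃ k : F, σ k = -k ∧ b = utv B v k := by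
  -- a vector `y₀` with `B y₀ v = 1`
  obtain ⟨y, -, hy⟩ := hN v Submodule.mem_top hv0
  have hyv : B y v ≠ 0 := herm_ne_zero hσ hB hy
  obtain ⟨y₀, hy₀⟩ : ∃ y₀, B y₀ v = 1 := by
    refine ⟨(B y v)⁻¹ • y, ?_⟩
    rw [map_smul, LinearMap.smul_apply, smul_eq_mul, inv_mul_cancel₀ hyv]
  have hvy₀ : B v y₀ = 1 := by rw [hB y₀ v, hy₀, map_one]
  -- the decomposition `x = (x - B x v • y₀) + B x v • y₀`
  have hK : ∀ x, B (x - B x v • y₀) v = 0 := by
    intro x
    rw [map_sub, LinearMap.sub_apply, map_smul, LinearMap.smul_apply, hy₀, smul_eq_mul, mul_one,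
      sub_self]
  obtain ⟨d, hd⟩ : ∃ d : V, d = b y₀ - y₀ := ⟨_, rfl⟩
  have hbx : ∀ x, b x = x + B x v • d := by
    intro x
    have h1 := hfix _ (hK x)
    rw [map_sub, map_smul] at h1
    rw [hd, smul_sub]
    have h2 : b x = x - B x v • y₀ + B x v • b y₀ := by
      rw [← h1]; abel
    rw [h2]; abel
  -- `d` is orthogonal to `v^⊥`
  have hdK : ∀ x, B x v = 0 → B x d = 0 := by
    intro x hx
    rw [hd, map_sub]
    have h1 : B x (b y₀) = B x y₀ := by
      have := hb x y₀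
      rw [hfix x hx] at this
      exact this
    rw [h1, sub_self]
  -- so `d` is a multiple of `v`
  have hBd : ∀ x, B x d = B x v * B y₀ d := by
    intro x
    have h1 := hdK _ (hK x)
    rw [map_sub, LinearMap.sub_apply, map_smul, LinearMap.smul_apply, smul_eq_mul, sub_eq_zero]
      at h1
    exact h1
  have hdv : d = σ (B y₀ d) • v := by
    by_contra hne
    have hz : d - σ (B y₀ d) • v ≠ 0 := sub_ne_zero.mpr hne
    obtain ⟨z, -, hz'⟩ := hN _ Submodule.mem_top hz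
    have hz'' : B z (d - σ (B y₀ d) • v) ≠ 0 := herm_ne_zero hσ hB hz'
    apply hz''
    rw [map_sub, map_smulₛₗ, hσ.invol, hBd z, smul_eq_mul]
    ring
  obtain ⟨k, hk⟩ : ∃ k : F, k = σ (B y₀ d) := ⟨_, rfl⟩
  rw [← hk] at hdv
  have hbx' : ∀ x, b x = x + (k * B x v) • v := by
    intro x
    rw [hbx x, hdv, smul_smul, mul_comm]
  have hbutv : b = utv B v k := by
    ext x
    rw [hbx' x, utv_apply B hvv]
  refine ⟨k, ?_, hbutv⟩
  -- the isometry condition at `y₀`
  have h1 := hb y₀ y₀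
  rw [hbx' y₀, hy₀, mul_one] at h1
  simp only [map_add, map_smul, map_smulₛₗ, LinearMap.add_apply, LinearMap.smul_apply,
    smul_eq_mul, hy₀, hvy₀, hvv, mul_zero, mul_one, add_zero] at h1
  linear_combination h1

variable [Finite F] [FiniteDimensional F V]

/-- G-G2 (§4.2 (G2)): two different t.i. lines through `v`. -/
theorem G2 {q : ℕ} (Hy : U4Hyp B q) {l l' : Submodule F V} (hl : IsTILine B l)
    (hl' : IsTILine B l') (hne : l ≠ l') {v : V} (hv0 : v ≠ 0) (hv : v ∈ l) (hv' : v ∈ l')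
    {b : V ≃ₗ[F] V} (hb : b ∈ uG B) (hbl : b ∈ fixer l) (hbl' : b ∈ fixer l') : b ∈ Xg B v := by
  have hvv : B v v = 0 := hl.2 v hv v hv
  -- the hyperplane `v^⊥`
  have hf0 : (B.flip v : Module.Dual F V) ≠ 0 := by
    obtain ⟨y, -, hy⟩ := Hy.hN v Submodule.mem_top hv0
    have hyv : B y v ≠ 0 := herm_ne_zero Hy.hσ Hy.hB hy
    intro h0
    apply hyv
    have : B.flip v y = 0 := by rw [h0]; rfl
    exact this
  have hker : finrank F (LinearMap.ker (B.flip v)) + 1 = finrank F V :=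
    Module.Dual.finrank_ker_add_one_of_ne_zero hf0
  rw [Hy.h4] at hker
  have hle : l ⊔ l' ≤ LinearMap.ker (B.flip v) := by
    apply sup_le
    · intro x hx
      rw [LinearMap.mem_ker]
      exact hl.2 x hx v hv
    · intro x hx
      rw [LinearMap.mem_ker]
      exact hl'.2 x hx v hv'
  -- `dim (l ⊔ l') ≥ 3`
  have hsum := Submodule.finrank_sup_add_finrank_inf_eq l l'
  rw [hl.1, hl'.1] at hsum
  have hinf : finrank F ↥(l ⊓ l') ≤ 1 := by
    by_contra hcon
    have h2 : finrank F ↥(l ⊓ l') ≤ 2 := by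
      have := Submodule.finrank_mono (inf_le_left : l ⊓ l' ≤ l)
      rw [hl.1] at this
      exact this
    have h3 : finrank F ↥(l ⊓ l') = 2 := by omega
    have e1 : l ⊓ l' = l :=
      Submodule.eq_of_le_of_finrank_eq inf_le_left (by rw [h3, hl.1])
    have e2 : l ⊓ l' = l' :=
      Submodule.eq_of_le_of_finrank_eq inf_le_right (by rw [h3, hl'.1])
    exact hne (e1.symm.trans e2)
  have heq : l ⊔ l' = LinearMap.ker (B.flip v) :=
    Submodule.eq_of_le_of_finrank_le hle (by omega)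
  -- `b` fixes `v^⊥` pointwise
  have hfix : ∀ x, B x v = 0 → b x = x := by
    intro x hx
    have hxk : x ∈ LinearMap.ker (B.flip v) := by
      rw [LinearMap.mem_ker]; exact hx
    rw [← heq] at hxk
    obtain ⟨a, ha, a', ha', rfl⟩ := Submodule.mem_sup.mp hxk
    rw [map_add, hbl a ha, hbl' a' ha']
  obtain ⟨k, hk, rfl⟩ := eq_utv_of_fix_perp Hy.hσ Hy.hB Hy.hN hv0 hvv hb hfix
  exact Subgroup.subset_closure ⟨k, hk, rfl⟩

end Cfsg.Agent.Lib.Helper70_U4_GG2
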