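import Mathlib
import Cfsg.Agent.Lib.Helper39_U4Defs
import Cfsg.Agent.Lib.Helper39_U4Compat
import Cfsg.Agent.Lib.Helper13_SUGen
import Cfsg.Agent.Lib.Helper94_HermTrans
import Cfsg.Agent.Lib.Helper94_UQInst
import Cfsg.Agent.Lib.Helper94_UQ_TORUS

/-!
# S2150 package P-ADAPT1 (architect helper39): `adapt_orbit`

`adapt_orbit_aux` is the statement of `adapt_orbit` with the conclusion of helper27's `LOC_orbit`
(for `Ω = ↥(SUg B) ⧸ M.subgroupOf (SUg B)`, `ω` the trivial coset) as an explicit hypothesis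
(`LocOrbitConcl`, definitionally the conclusion of `LOC_orbit`).  Once `LOC_orbit` is on main,
`adapt_orbit` (statement verbatim from `S2150_packages2.lean.txt`) is proved by
```
  have hfin : Finite (V ≃ₗ[F] V) := Cfsg.Agent.Lib.Helper71_U4_PADAPT1.finite_lin_equiv
  exact Cfsg.Agent.Lib.Helper71_U4_PADAPT1.adapt_orbit_aux Hy hp M hM hX
    (fun hω => Cfsg.Agent.Lib.Helper27_U4LocSpec.LOC_orbit Hy.hσ Hy.hB Hy.hN Hy.hq hp Hy.h4 _ hω)
```
(checked against a sorried copy of the `LOC_orbit` statement of `pending/helper27/S2150_local.lean.txt`).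
-/

set_option autoImplicit false
set_option linter.unusedSectionVars false
set_option linter.unusedVariables false

namespace Cfsg.Agent.Lib.Helper71_U4_PADAPT1

open Module Cfsg.Agent.Lib.Helper94_Symp Cfsg.Agent.Lib.Helper94_Herm
  Cfsg.Agent.Lib.Helper94_HermEich Cfsg.Agent.Lib.Helper94_HermOrth
  Cfsg.Agent.Lib.Helper13_SUGen Cfsg.Agent.Lib.Helper39_U4Defs
  Cfsg.Agent.Lib.Helper94_UQInst Cfsg.Agent.Lib.Helper50_UQAbsDefs

variable {F V : Type*} [Field F] [AddCommGroup V] [Module F V] {σ : F →+* F}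
  {B : V →ₗ[F] V →ₛₗ[σ] F}

local notation "SUU" => Cfsg.Agent.Lib.Helper13_PSUSimple.SUg
local notation "WW" => Cfsg.Agent.Lib.Helper27_UQDefs.Wsub
local notation "PPv" => Cfsg.Agent.Lib.Helper27_UQDefs.Pv
local notation "QQv" => Cfsg.Agent.Lib.Helper27_UQDefs.Qv
local notation "LLv" => Cfsg.Agent.Lib.Helper27_UQDefs.Lv
local notation "XXv" => Cfsg.Agent.Lib.Helper27_UQDefs.Xv

/-- the conclusion of `Helper27_U4LocSpec.LOC_orbit` -/
def LocOrbitConcl (hσ : Invol σ) (hB : IsHerm B) {v v' : V} (h : HypPair B v v') (q : ℕ)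
    {Ω : Type*} [MulAction ↥(SUU B) Ω] (ω : Ω) : Prop :=
    (q + 1) * q ^ 3 ≤ Nat.card (MulAction.orbit ↥((udat hσ hB h).Q ⊔ (udat hσ hB h).L) ω) ∧
    (Nat.card (MulAction.orbit ↥((udat hσ hB h).Q ⊔ (udat hσ hB h).L) ω) < (q + 1) * (q ^ 3 + 1) →
      Nat.card (MulAction.orbit ↥((udat hσ hB h).Q ⊔ (udat hσ hB h).L) ω) = (q + 1) * q ^ 3 ∧
      (∀ a, (udat hσ hB h).x a • ω = ω → a = 0) ∧
      ((∃ w0 : ↥(WW B v v'), w0 ≠ 0 ∧ B (w0 : V) (w0 : V) = 0 ∧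
          ∀ w, (∃ g ∈ (udat hσ hB h).Q, g • ω = ω ∧ (udat hσ hB h).π g = w) ↔
            ∃ c : F, w = c • w0) ∨
       ((2 : F) = 0 ∧ ∃ x y : ↥(WW B v v'), B (x : V) (x : V) = 0 ∧ B (y : V) (y : V) = 0 ∧
          B (x : V) (y : V) = 1 ∧
          ∀ w, (∃ g ∈ (udat hσ hB h).Q, g • ω = ω ∧ (udat hσ hB h).π g = w) ↔
            ∃ a b : F, σ a = a ∧ σ b = b ∧ w = a • x + b • y)))

theorem finite_lin_equiv [Finite F] [FiniteDimensional F V] : Finite (V ≃ₗ[F] V) := by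
  have : Finite V := Module.finite_of_finite F
  exact Finite.of_injective (fun e : V ≃ₗ[F] V => (e : V → V)) DFunLike.coe_injective

/-- the trivial coset is fixed by `g` iff `g ∈ M` -/
theorem smul_one_coset_iff (M : Subgroup (V ≃ₗ[F] V)) (g : ↥(SUU B)) :
    g • (((1 : ↥(SUU B)) : ↥(SUU B) ⧸ M.subgroupOf (SUU B))) =
        ((1 : ↥(SUU B)) : ↥(SUU B) ⧸ M.subgroupOf (SUU B)) ↔ (g : V ≃ₗ[F] V) ∈ M := by
  rw [MulAction.Quotient.smul_mk, QuotientGroup.eq, Subgroup.mem_subgroupOf]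
  constructor
  · intro h
    have h2 := M.inv_mem h
    simpa using h2
  · intro h
    have h2 := M.inv_mem h
    simpa using h2

/-- `Q ⊔ L` is the point stabiliser -/
theorem QL_eq (hσ : Invol σ) (hB : IsHerm B) {v v' : V} (h : HypPair B v v') :
    (udat hσ hB h).Q ⊔ (udat hσ hB h).L = (PPv B v).subgroupOf (SUU B) := by
  apply le_antisymm
  · apply sup_le
    · intro g hg
      rw [mem_Q] at hg
      exact Subgroup.mem_subgroupOf.mpr (Cfsg.Agent.Lib.Helper27_UQDefs.Qv_le_Pv hB h hg)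
    · intro g hg
      rw [mem_L] at hg
      exact Subgroup.mem_subgroupOf.mpr (Cfsg.Agent.Lib.Helper27_UQDefs.Lv_le_Pv B v v' hg)
  · intro g hg
    rw [Subgroup.mem_subgroupOf] at hg
    obtain ⟨a, ha, l, hl, hgal⟩ := Cfsg.Agent.Lib.Helper94_UQ_TORUS.Pv_eq_mul hσ hB h hg
    have haS : a ∈ SUU B := Cfsg.Agent.Lib.Helper27_UQDefs.Qv_le_SUg hB h ha
    have hlS : l ∈ SUU B := Cfsg.Agent.Lib.Helper27_UQDefs.Lv_le B v v' hl
    have e : g = (⟨a, haS⟩ : ↥(SUU B)) * ⟨l, hlS⟩ := Subtype.ext hgal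
    rw [e]
    exact Subgroup.mul_mem _ (Subgroup.mem_sup_left ((mem_Q hσ hB h).mpr ha))
      (Subgroup.mem_sup_right ((mem_L hσ hB h).mpr hl))

/-- orbit–stabiliser for the trivial coset of `M ≤ P_v` under `P_v` -/
theorem card_orbit_mul [Finite F] [FiniteDimensional F V] (hσ : Invol σ) (hB : IsHerm B)
    {v v' : V} (h : HypPair B v v') (M : Subgroup (V ≃ₗ[F] V)) (hM : M ≤ PPv B v) :
    Nat.card (MulAction.orbit ↥((udat hσ hB h).Q ⊔ (udat hσ hB h).L)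
      (((1 : ↥(SUU B)) : ↥(SUU B) ⧸ M.subgroupOf (SUU B)))) * Nat.card M =
      Nat.card ↥(PPv B v) := by
  have hfin : Finite (V ≃ₗ[F] V) := finite_lin_equiv
  obtain ⟨P, hP⟩ : ∃ P, P = (udat hσ hB h).Q ⊔ (udat hσ hB h).L := ⟨_, rfl⟩
  obtain ⟨ω, hω⟩ : ∃ ω : ↥(SUU B) ⧸ M.subgroupOf (SUU B), ω = ((1 : ↥(SUU B)) : _) := ⟨_, rfl⟩
  rw [← hP, ← hω]
  have hPeq : P = (PPv B v).subgroupOf (SUU B) := by rw [hP, QL_eq]
  have h1 : Nat.card (MulAction.orbit ↥P ω) * Nat.card (MulAction.stabilizer ↥P ω) =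
      Nat.card ↥P := by
    rw [← Nat.card_prod]
    exact Nat.card_congr (MulAction.orbitProdStabilizerEquivGroup ↥P ω)
  have h2 : Nat.card ↥P = Nat.card ↥(PPv B v) := by
    rw [hPeq]
    exact Nat.card_congr
      (Subgroup.subgroupOfEquivOfLe (Cfsg.Agent.Lib.Helper27_UQDefs.Pv_le B v)).toEquiv
  have h3 : Nat.card (MulAction.stabilizer ↥P ω) = Nat.card M := by
    apply Nat.card_congr
    refine ⟨fun g => ⟨((g : ↥P) : ↥(SUU B)), ?_⟩, fun m => ⟨⟨⟨(m : V ≃ₗ[F] V), ?_⟩, ?_⟩, ?_⟩,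
      ?_, ?_⟩
    · have hg := g.2
      rw [MulAction.mem_stabilizer_iff] at hg
      have hg' : ((g : ↥P) : ↥(SUU B)) • ω = ω := hg
      exact (smul_one_coset_iff M _).mp (hω ▸ hg')
    · exact Cfsg.Agent.Lib.Helper27_UQDefs.Pv_le B v (hM m.2)
    · rw [hPeq, Subgroup.mem_subgroupOf]
      exact hM m.2
    · rw [MulAction.mem_stabilizer_iff]
      show (⟨(m : V ≃ₗ[F] V), _⟩ : ↥(SUU B)) • ω = ω
      exact hω ▸ (smul_one_coset_iff M _).mpr m.2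
    · intro g
      rfl
    · intro m
      rfl
  rw [← h3, h1, h2]

/-- translation of the `Q`-part of the stabiliser of the trivial coset -/
theorem Q_stab_iff (hσ : Invol σ) (hB : IsHerm B) {v v' : V} (h : HypPair B v v')
    (M : Subgroup (V ≃ₗ[F] V)) {w : V} (hw : w ∈ WW B v v') :
    (∃ g ∈ (udat hσ hB h).Q,
        g • (((1 : ↥(SUU B)) : ↥(SUU B) ⧸ M.subgroupOf (SUU B))) =
          ((1 : ↥(SUU B)) : ↥(SUU B) ⧸ M.subgroupOf (SUU B)) ∧
        (udat hσ hB h).π g = ⟨w, hw⟩) ↔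
      ∃ c, c + σ c = -(B w w) ∧ eich B v w c ∈ M := by
  constructor
  · rintro ⟨g, hg, hgω, hπ⟩
    obtain ⟨w', c, hw', hc, rfl⟩ := Q_cases hσ hB h hg
    rw [π_eich hσ hB h hw' hc] at hπ
    have e : w' = w := congrArg Subtype.val hπ
    subst e
    exact ⟨c, hc, (smul_one_coset_iff M _).mp hgω⟩
  · rintro ⟨c, hc, hcM⟩
    exact ⟨⟨eich B v w c, Cfsg.Agent.Lib.Helper14_PSULocal1.eich_mem_SUg hB hc⟩,
      (mem_Q hσ hB h).mpr (Cfsg.Agent.Lib.Helper27_UQDefs.eich_mem_Qv hB h.ee hw.1 hc),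
      (smul_one_coset_iff M _).mpr hcM, π_eich hσ hB h hw hc⟩

/-- **P-ADAPT1** with the conclusion of `LOC_orbit` as a hypothesis. -/
theorem adapt_orbit_aux [Finite F] [FiniteDimensional F V] {q : ℕ} (Hy : U4Hyp B q) {u us : V}
    (hp : HypPair B u us) (M : Subgroup (V ≃ₗ[F] V)) (hM : M ≤ Pg B u) (hX : ¬ Xg B u ≤ M)
    (hLOC : (∃ a, (udat Hy.hσ Hy.hB hp).x a •
          (((1 : ↥(SUU B)) : ↥(SUU B) ⧸ M.subgroupOf (SUU B))) ≠
          ((1 : ↥(SUU B)) : ↥(SUU B) ⧸ M.subgroupOf (SUU B))) →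
        LocOrbitConcl Hy.hσ Hy.hB hp q
          (((1 : ↥(SUU B)) : ↥(SUU B) ⧸ M.subgroupOf (SUU B)))) :
    q ^ 3 * (q + 1) * Nat.card M ≤ Nat.card ↥(Pg B u) ∧
    (Nat.card ↥(Pg B u) < (q + 1) * (q ^ 3 + 1) * Nat.card M →
      M ⊓ Xg B u = ⊥ ∧
      ((∃ w₀ : V, B w₀ u = 0 ∧ B w₀ us = 0 ∧ w₀ ≠ 0 ∧ B w₀ w₀ = 0 ∧
          ∀ w : V, B w u = 0 → B w us = 0 →
            ((∃ c, c + σ c = -(B w w) ∧ eich B u w c ∈ M) ↔ ∃ t : F, w = t • w₀)) ∨
       ((2 : F) = 0 ∧ ∃ x y : V, B x u = 0 ∧ B x us = 0 ∧ B y u = 0 ∧ B y us = 0 ∧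
          B x x = 0 ∧ B y y = 0 ∧ B x y = 1 ∧
          ∀ w : V, B w u = 0 → B w us = 0 →
            ((∃ c, c + σ c = -(B w w) ∧ eich B u w c ∈ M) ↔
              ∃ a b : F, σ a = a ∧ σ b = b ∧ w = a • x + b • y)))) := by
  have hσ := Hy.hσ
  have hB := Hy.hB
  have hu0 : u ≠ 0 := by
    rintro rfl
    have := hp.ef
    rw [map_zero, LinearMap.zero_apply] at this
    exact zero_ne_one this
  rw [Cfsg.Agent.Lib.Helper39_U4Compat.Pg_eq hu0] at hM ⊢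
  rw [Cfsg.Agent.Lib.Helper39_U4Compat.Xg_eq] at hX ⊢
  have hfin : Finite (V ≃ₗ[F] V) := finite_lin_equiv
  have hω : ∃ a, (udat hσ hB hp).x a •
          (((1 : ↥(SUU B)) : ↥(SUU B) ⧸ M.subgroupOf (SUU B))) ≠
          ((1 : ↥(SUU B)) : ↥(SUU B) ⧸ M.subgroupOf (SUU B)) := by
    by_contra hcon
    apply hX
    rintro g ⟨c, hc, rfl⟩
    by_contra hg
    exact hcon ⟨⟨c, hc⟩, fun h => hg ((smul_one_coset_iff M _).mp h)⟩
  obtain ⟨h1, h2⟩ := hLOC hω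
  have hcard := card_orbit_mul hσ hB hp M hM
  have hMpos : 0 < Nat.card M := Nat.card_pos
  constructor
  · rw [← hcard]
    calc q ^ 3 * (q + 1) * Nat.card M = ((q + 1) * q ^ 3) * Nat.card M := by ring
      _ ≤ _ := Nat.mul_le_mul_right _ h1
  · intro hlt
    rw [← hcard] at hlt
    have hlt' := lt_of_mul_lt_mul_right hlt (Nat.zero_le _)
    obtain ⟨-, h3, h4⟩ := h2 hlt'
    refine ⟨?_, ?_⟩
    · rw [eq_bot_iff]
      rintro g ⟨hgM, c, hc, rfl⟩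
      rw [Subgroup.mem_bot]
      have h5 := h3 ⟨c, hc⟩ ((smul_one_coset_iff M _).mpr hgM)
      have h6 : c = 0 := congrArg Subtype.val h5
      subst h6
      exact Cfsg.Agent.Lib.Helper27_UQDefs.utv_zero_right B u
    · rcases h4 with ⟨w0, hw0, hw00, hI⟩ | ⟨h2F, x, y, hxx, hyy, hxy, hI⟩
      · left
        refine ⟨(w0 : V), w0.2.1, w0.2.2, fun h => hw0 (Subtype.ext h), hw00, ?_⟩
        intro w hwu hwus
        rw [← Q_stab_iff hσ hB hp M (w := w) ⟨hwu, hwus⟩, hI]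
        constructor
        · rintro ⟨c, hc⟩
          exact ⟨c, congrArg Subtype.val hc⟩
        · rintro ⟨t, ht⟩
          exact ⟨t, Subtype.ext ht⟩
      · right
        refine ⟨h2F, (x : V), (y : V), x.2.1, x.2.2, y.2.1, y.2.2, hxx, hyy, hxy, ?_⟩
        intro w hwu hwus
        rw [← Q_stab_iff hσ hB hp M (w := w) ⟨hwu, hwus⟩, hI]
        constructor
        · rintro ⟨a, b, ha, hb, hc⟩
          exact ⟨a, b, ha, hb, congrArg Subtype.val hc⟩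
        · rintro ⟨a, b, ha, hb, ht⟩
          exact ⟨a, b, ha, hb, Subtype.ext ht⟩

end Cfsg.Agent.Lib.Helper71_U4_PADAPT1
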