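/-
S2150 package G-ARITH (architect helper39): the two arithmetic contradictions.
-/
import Mathlib

set_option autoImplicit false

namespace Cfsg.Agent.Lib.Helper79_U4_GARITH

theorem arith_a {q c : ℕ} (hq2 : 2 ≤ q) (hc : c ∣ q ^ 4)
    (h : (c - 1) * ((q + 1) * (q ^ 2 - 1)) = (q ^ 4 - 1) * (q ^ 2 - 1)) : False := by
  obtain ⟨k, rfl⟩ : ∃ k, q = k + 2 := ⟨q - 2, by omega⟩
  have h2 : (k + 2) ^ 2 - 1 = (k + 1) * (k + 3) := by
    apply Nat.sub_eq_of_eq_add; ring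
  have h4 : (k + 2) ^ 4 - 1 = (k + 1) * ((k + 3) * ((k + 2) ^ 2 + 1)) := by
    apply Nat.sub_eq_of_eq_add; ring
  rw [h2, h4] at h
  have hM : 0 < (k + 2 + 1) * ((k + 1) * (k + 3)) := by positivity
  have hc1 : c - 1 = ((k + 2) ^ 2 + 1) * (k + 1) := by
    apply Nat.eq_of_mul_eq_mul_right hM
    rw [h]; ring
  have hcpos : 1 ≤ c := by
    by_contra hc0
    have : c - 1 = 0 := by omega
    rw [this] at hc1
    have : 0 < ((k + 2) ^ 2 + 1) * (k + 1) := by positivity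
    omega
  have hceq : c = (k + 2) * ((k + 2) * (k + 1) + 1) := by
    have : c = ((k + 2) ^ 2 + 1) * (k + 1) + 1 := by omega
    rw [this]; ring
  have hN : ((k + 2) * (k + 1) + 1) ∣ (k + 2) ^ 4 :=
    (Dvd.intro_left _ hceq.symm).trans hc
  have hcop : Nat.Coprime ((k + 2) * (k + 1) + 1) (k + 2) := by
    simp
  have hcop4 : Nat.Coprime ((k + 2) * (k + 1) + 1) ((k + 2) ^ 4) := hcop.pow_right 4
  have h1 : (k + 2) * (k + 1) + 1 = 1 := hcop4.eq_one_of_dvd hN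
  have : 0 < (k + 2) * (k + 1) := by positivity
  omega

theorem arith_b {q c : ℕ} (hq2 : 2 ≤ q) (heven : Even q) (hc : 1 ≤ c)
    (h : (c - 1) * ((q + 1) * (q ^ 2 - 1)) = (q ^ 4 - 1) * (q - 1)) : False := by
  obtain ⟨k, rfl⟩ : ∃ k, q = k + 2 := ⟨q - 2, by omega⟩
  obtain ⟨c', rfl⟩ : ∃ c', c = c' + 1 := ⟨c - 1, by omega⟩
  have h2 : (k + 2) ^ 2 - 1 = (k + 1) * (k + 3) := by
    apply Nat.sub_eq_of_eq_add; ring
  have h4 : (k + 2) ^ 4 - 1 = (k + 1) * ((k + 3) * ((k + 2) ^ 2 + 1)) := by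
    apply Nat.sub_eq_of_eq_add; ring
  have h1 : k + 2 - 1 = k + 1 := by omega
  rw [h2, h4, h1, Nat.add_sub_cancel] at h
  have hM : 0 < (k + 1) * (k + 3) := by positivity
  have hc1 : c' * (k + 3) = ((k + 2) ^ 2 + 1) * (k + 1) := by
    apply Nat.eq_of_mul_eq_mul_right hM
    calc c' * (k + 3) * ((k + 1) * (k + 3)) = c' * ((k + 2 + 1) * ((k + 1) * (k + 3))) := by ring
      _ = (k + 1) * ((k + 3) * ((k + 2) ^ 2 + 1)) * (k + 1) := h
      _ = ((k + 2) ^ 2 + 1) * (k + 1) * ((k + 1) * (k + 3)) := by ring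
  -- `(k + 3) ∣ 4`
  have hd : (k + 3) ∣ 4 := by
    have hz : ((k : ℤ) + 3) ∣ 4 := by
      have hc1z : (c' : ℤ) * ((k : ℤ) + 3) = (((k : ℤ) + 2) ^ 2 + 1) * ((k : ℤ) + 1) := by
        exact_mod_cast hc1
      refine ⟨((k : ℤ) + 3) ^ 2 - 4 * ((k : ℤ) + 3) + 6 - c', ?_⟩
      linear_combination hc1z
    exact_mod_cast hz
  have hodd : ¬ 2 ∣ k + 3 := by
    obtain ⟨m, hm⟩ := heven
    omega
  have hle : k + 3 ≤ 4 := Nat.le_of_dvd (by norm_num) hd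
  have hk : k = 0 ∨ k = 1 := by omega
  rcases hk with rfl | rfl
  · norm_num at hd
  · exact hodd (by norm_num)

end Cfsg.Agent.Lib.Helper79_U4_GARITH
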