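import Mathlib
import Cfsg.Agent.Lib.Helper39_U4Defs
import Cfsg.Agent.Lib.Helper39_U4Compat
import Cfsg.Agent.Lib.Helper27_UQ_GEN
import Cfsg.Agent.Lib.Helper50_UQW4
import Cfsg.Agent.Lib.Helper27_U4_LOC
import Cfsg.Agent.Lib.Helper71_U4_PADAPT1
import Cfsg.Agent.Lib.Helper58_U4_PADAPT2a
import Cfsg.Agent.Lib.Helper54_U4_PADAPT2b
import Cfsg.Agent.Lib.Helper53_U4_PADAPT3
import Cfsg.Agent.Lib.Helper26_U4_GABS1
import Cfsg.Agent.Lib.Helper26_U4_GABS2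
import Cfsg.Agent.Lib.Helper29_U4_GGEN
import Cfsg.Agent.Lib.Helper29_U4_GOVER
import Cfsg.Agent.Lib.Helper70_U4_GCONJ
import Cfsg.Agent.Lib.Helper70_U4_GG2
import Cfsg.Agent.Lib.Helper32_U4_GTRANS
import Cfsg.Agent.Lib.Helper32_U4_GCOUNT
import Cfsg.Agent.Lib.Helper31_U4_GLINE0
import Cfsg.Agent.Lib.Helper31_U4_GQP
import Cfsg.Agent.Lib.Helper54_U4_G4
import Cfsg.Agent.Lib.Helper50_U4_G_LINE1
import Cfsg.Agent.Lib.Helper99_U4_GLINE2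
import Cfsg.Agent.Lib.Helper79_U4_GARITH

/-!
# S2150 (minimal index of `PSU₄(q)`): the abstract theorem `main_abs` (architect helper39)

Assembly of the market packages (tables `u4_packages`, `u4loc_packages`; paper proof
`pending/helper39/S2150_proof.md`): the local theorem `LOC_orbit` (helper27) and Theorem B
(helper75) through the adapters (helper71, helper58, helper54, helper53) give Claim A, Claim A'
and Theorem B for subgroups of the point stabiliser `Pg B u`; Case I (a root group inside `K`) and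
Case II (no root group inside `K`) give `main_abs`.
-/

set_option autoImplicit false
set_option linter.unusedVariables false
set_option linter.unusedSectionVars false
set_option linter.style.haveILetI false

namespace Cfsg.Agent.Lib.Helper39_U4_Main

open Module Cfsg.Agent.Lib.Helper94_Symp Cfsg.Agent.Lib.Helper94_Herm
  Cfsg.Agent.Lib.Helper94_HermEich Cfsg.Agent.Lib.Helper94_HermOrth
  Cfsg.Agent.Lib.Helper13_SUGen Cfsg.Agent.Lib.Helper39_U4Defs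

variable {F V : Type*} [Field F] [AddCommGroup V] [Module F V] {σ : F →+* F}
  {B : V →ₗ[F] V →ₛₗ[σ] F} [Finite F] [FiniteDimensional F V]

/-- G-QP (helper31). -/
theorem Qg_le_Pg {q : ℕ} (Hy : U4Hyp B q) {u : V} (hu : B u u = 0) : Qg B u ≤ Pg B u :=
  Cfsg.Agent.Lib.Helper31_U4_GQP.Qg_le_Pg_of_herm Hy.hB u

/-- P-ADAPT1 (helper71) with helper27's `LOC_orbit` plugged in. -/
theorem adapt_orbit {q : ℕ} (Hy : U4Hyp B q) {u us : V} (hp : HypPair B u us)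
    (M : Subgroup (V ≃ₗ[F] V)) (hM : M ≤ Pg B u) (hX : ¬ Xg B u ≤ M) :
    q ^ 3 * (q + 1) * Nat.card M ≤ Nat.card ↥(Pg B u) ∧
    (Nat.card ↥(Pg B u) < (q + 1) * (q ^ 3 + 1) * Nat.card M →
      M ⊓ Xg B u = ⊥ ∧
      ((∃ w₀ : V, B w₀ u = 0 ∧ B w₀ us = 0 ∧ w₀ ≠ 0 ∧ B w₀ w₀ = 0 ∧
          ∀ w : V, B w u = 0 → B w us = 0 →
            ((∃ c, c + σ c = -(B w w) ∧ eich B u w c ∈ M) ↔ ∃ t : F, w = t • w₀)) ∨
       ((2 : F) = 0 ∧ ∃ x y : V, B x u = 0 ∧ B x us = 0 ∧ B y u = 0 ∧ B y us = 0 ∧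
          B x x = 0 ∧ B y y = 0 ∧ B x y = 1 ∧
          ∀ w : V, B w u = 0 → B w us = 0 →
            ((∃ c, c + σ c = -(B w w) ∧ eich B u w c ∈ M) ↔
              ∃ a b : F, σ a = a ∧ σ b = b ∧ w = a • x + b • y)))) := by
  have hfin : Finite (V ≃ₗ[F] V) := Cfsg.Agent.Lib.Helper71_U4_PADAPT1.finite_lin_equiv
  exact Cfsg.Agent.Lib.Helper71_U4_PADAPT1.adapt_orbit_aux Hy hp M hM hX
    (fun hω => Cfsg.Agent.Lib.Helper27_U4_LOC.LOC_orbit Hy.hσ Hy.hB Hy.hN Hy.hq hp Hy.h4 _ hω)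


/-- P-A (§1 Claim A). -/
theorem claimA {q : ℕ} (Hy : U4Hyp B q) {u : V} (hu0 : u ≠ 0) (hu : B u u = 0)
    (hP : Nat.card ↥(Pg B u) = q ^ 6 * (q ^ 2 - 1) ^ 2)
    (M : Subgroup (V ≃ₗ[F] V)) (hM : M ≤ Pg B u) (hX : ¬ Xg B u ≤ M) :
    q ^ 3 * (q + 1) * Nat.card M ≤ Nat.card ↥(Pg B u) := by
  obtain ⟨us, hp⟩ := Cfsg.Agent.Lib.Helper27_UQ_GEN.exists_hypPair Hy.hσ Hy.hB Hy.hN hu0 hu
  exact (adapt_orbit Hy hp M hM hX).1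

/-- P-A' (§1 Claim A', fine structure). -/
theorem claimA' {q : ℕ} (Hy : U4Hyp B q) {u : V} (hu0 : u ≠ 0) (hu : B u u = 0)
    (hP : Nat.card ↥(Pg B u) = q ^ 6 * (q ^ 2 - 1) ^ 2)
    (M : Subgroup (V ≃ₗ[F] V)) (hM : M ≤ Pg B u) (hX : ¬ Xg B u ≤ M)
    (hlt : Nat.card ↥(Pg B u) < (q + 1) * (q ^ 3 + 1) * Nat.card M) :
    M ⊓ Xg B u = ⊥ ∧ Nat.card ↥(M ⊓ Qg B u) = q ^ 2 ∧ (TypeAg B u M ∨ TypeBg B q u M) := by
  obtain ⟨us, hp⟩ := Cfsg.Agent.Lib.Helper27_UQ_GEN.exists_hypPair Hy.hσ Hy.hB Hy.hN hu0 hu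
  obtain ⟨h1, h2⟩ := (adapt_orbit Hy hp M hM hX).2 hlt
  rcases h2 with ⟨w₀, hw0u, hw0us, hw0, hw00, hI⟩ |
    ⟨h2F, x, y, hxu, hxus, hyu, hyus, hxx, hyy, hxy, hI⟩
  · obtain ⟨hc, hA⟩ := Cfsg.Agent.Lib.Helper58_U4_PADAPT2a.adapt_typeA Hy hp M hM h1 hw0u hw0us hw0 hw00 hI
    exact ⟨h1, hc, Or.inl hA⟩
  · obtain ⟨hc, hBt⟩ := Cfsg.Agent.Lib.Helper54_U4_PADAPT2b.adapt_typeB Hy hp M hM h1 h2F hxu hxus hyu hyus hxx hyy hxy hI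
    exact ⟨h1, hc, Or.inr hBt⟩

/-- P-B (§2 Theorem B). -/
theorem thmB {q : ℕ} (Hy : U4Hyp B q) {u : V} (hu0 : u ≠ 0) (hu : B u u = 0)
    (hP : Nat.card ↥(Pg B u) = q ^ 6 * (q ^ 2 - 1) ^ 2)
    (T : Subgroup (V ≃ₗ[F] V)) (hT : T ≤ Pg B u) (hidx : Nat.card ↥(Pg B u) ≤ q * Nat.card T) :
    Qg B u ≤ T := by
  obtain ⟨us, hp⟩ := Cfsg.Agent.Lib.Helper27_UQ_GEN.exists_hypPair Hy.hσ Hy.hB Hy.hN hu0 hu
  exact Cfsg.Agent.Lib.Helper53_U4_PADAPT3.adapt_thmB Hy hp T hT hidx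


theorem finite_equiv : Finite (V ≃ₗ[F] V) := by
  haveI : Finite V := Module.finite_of_finite F
  exact Finite.of_injective (fun e : V ≃ₗ[F] V => (e : V → V)) DFunLike.coe_injective

theorem caseI {q : ℕ} (Hy : U4Hyp B q) (hq2 : 2 ≤ q)
    (hP : ∀ u : V, u ≠ 0 → B u u = 0 → Nat.card ↥(Pg B u) = q ^ 6 * (q ^ 2 - 1) ^ 2)
    (hidx : ∀ T : Submodule F V, T ≠ ⊥ → (∀ x ∈ T, ∀ y ∈ T, B x y = 0) →
      (q + 1) * (q ^ 3 + 1) * Nat.card ↥(SUg B ⊓ stab T) ≤ Nat.card ↥(SUg B))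
    (K : Subgroup (V ≃ₗ[F] V)) (hK : K ≤ SUg B) (hne : K ≠ SUg B)
    {u : V} (hu0 : u ≠ 0) (hu : B u u = 0) (hXK : Xg B u ≤ K) :
    (q + 1) * (q ^ 3 + 1) * Nat.card K ≤ Nat.card ↥(SUg B) := by
  haveI : Finite (V ≃ₗ[F] V) := finite_equiv
  by_contra hcon
  push Not at hcon
  obtain ⟨hgen, -, hXn, hXP, hPG⟩ := Cfsg.Agent.Lib.Helper29_U4_GGEN.gen_conj Hy hu0 hu
  have hQ : Qg B u ≤ K :=
    Cfsg.Agent.Lib.Helper26_U4_GABS1.caseI_abs (SUg B) K (Pg B u) (Qg B u) (Xg B u) (q ^ 3 * (q + 1)) q hK hPG hXP hXn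
      (fun M hM hX => claimA Hy hu0 hu (hP u hu0 hu) M hM hX)
      (fun T hT hi => thmB Hy hu0 hu (hP u hu0 hu) T hT hi)
      hgen hXK hne (by
        have e : q ^ 3 * (q + 1) + q + 1 = (q + 1) * (q ^ 3 + 1) := by ring
        rw [e]; exact hcon)
  obtain ⟨T, hT0, hTti, hKT⟩ := Cfsg.Agent.Lib.Helper29_U4_GOVER.overgroup Hy hu0 hu K hK hne hQ
  have h1 := hidx T hT0 hTti
  have h2 : Nat.card K ≤ Nat.card ↥(SUg B ⊓ stab T) :=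
    Subgroup.card_le_of_le (le_inf hK hKT)
  have h3 : (q + 1) * (q ^ 3 + 1) * Nat.card K ≤
      (q + 1) * (q ^ 3 + 1) * Nat.card ↥(SUg B ⊓ stab T) := Nat.mul_le_mul_left _ h2
  omega


theorem exists_iso {q : ℕ} (Hy : U4Hyp B q) : ∃ u : V, u ≠ 0 ∧ B u u = 0 := by
  obtain ⟨v, v', h⟩ := Cfsg.Agent.Lib.Helper9_S2151_CNT.exists_hypPair B Hy.hσ Hy.hB Hy.hN
    (by rw [Hy.h4]; norm_num)
  exact ⟨v, Cfsg.Agent.Lib.Helper27_UQ_CARD.hyp_ne_zero h, h.ee⟩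

theorem card_line_ne {q : ℕ} (Hy : U4Hyp B q) {l : Submodule F V} (hl : IsTILine B l) :
    Nat.card {v : ↥l // v ≠ 0} = q ^ 4 - 1 := by
  haveI : Finite V := Module.finite_of_finite F
  have h1 : Nat.card ↥l = q ^ 4 := by
    rw [Module.natCard_eq_pow_finrank (K := F) (V := ↥l), hl.1, Hy.hq, ← pow_mul]
  haveI : Fintype ↥l := Fintype.ofFinite _
  classical
  rw [Nat.card_eq_fintype_card, Fintype.card_subtype_compl, Fintype.card_subtype_eq,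
    ← Nat.card_eq_fintype_card, h1]

theorem even_q {q : ℕ} (Hy : U4Hyp B q) (h2 : (2 : F) = 0) : Even q :=
  (Cfsg.Agent.Lib.Helper50_UQW4.two_eq_zero_iff_even Hy.hq).mp h2

theorem q_pos {q : ℕ} (Hy : U4Hyp B q) : 0 < q := by
  rcases Nat.eq_zero_or_pos q with h | h
  · have := Hy.hq
    rw [h] at this
    simp at this
    exact absurd this (by
      intro h0
      have : Nat.card F ≠ 0 := Nat.card_pos.ne'
      exact this h0)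
  · exact h


theorem SUg_le_uG : SUg B ≤ uG B := inf_le_left

/-- Steps 1 and 2 at an isotropic point. -/
theorem point_data {q : ℕ} (Hy : U4Hyp B q) (hq2 : 2 ≤ q)
    (hP : ∀ u : V, u ≠ 0 → B u u = 0 → Nat.card ↥(Pg B u) = q ^ 6 * (q ^ 2 - 1) ^ 2)
    (K : Subgroup (V ≃ₗ[F] V)) (hK : K ≤ SUg B)
    (hno : ∀ u : V, u ≠ 0 → B u u = 0 → ¬ Xg B u ≤ K)
    (hlt : Nat.card ↥(SUg B) < (q + 1) * (q ^ 3 + 1) * Nat.card K)
    {u : V} (hu0 : u ≠ 0) (hu : B u u = 0) :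
    (∀ g ∈ SUg B, ∃ p ∈ Pg B u, ∃ k ∈ K, g = p * k) ∧
    (Pg B u ⊓ K) ⊓ Xg B u = ⊥ ∧ Nat.card ↥((Pg B u ⊓ K) ⊓ Qg B u) = q ^ 2 ∧
    (TypeAg B u (Pg B u ⊓ K) ∨ TypeBg B q u (Pg B u ⊓ K)) := by
  haveI : Finite (V ≃ₗ[F] V) := finite_equiv
  obtain ⟨-, -, -, hXP, hPG⟩ := Cfsg.Agent.Lib.Helper29_U4_GGEN.gen_conj Hy hu0 hu
  have hno' : ∀ g ∈ SUg B, ∃ x ∈ Xg B u, g * x * g⁻¹ ∉ K := by
    intro g hg
    have hgU : g ∈ uG B := SUg_le_uG hg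
    have hgu0 : g u ≠ 0 := fun h => hu0 (g.map_eq_zero_iff.mp h)
    have hgu : B (g u) (g u) = 0 := by rw [hgU u u, hu]
    obtain ⟨y, hy, hyK⟩ := SetLike.not_le_iff_exists.mp (hno (g u) hgu0 hgu)
    refine ⟨g⁻¹ * y * g, ?_, ?_⟩
    · rw [(Cfsg.Agent.Lib.Helper70_U4_GCONJ.conj_groups Hy hgU u).1]
      have : g * (g⁻¹ * y * g) * g⁻¹ = y := by group
      rw [this]
      exact hy
    · have : g * (g⁻¹ * y * g) * g⁻¹ = y := by group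
      rw [this]
      exact hyK
  have hidx : Nat.card ↥(SUg B) < 2 * (q ^ 3 * (q + 1)) * Nat.card K := by
    have h1 : 1 ≤ q ^ 3 := Nat.one_le_pow _ _ (by omega)
    have h2 : (q + 1) * (q ^ 3 + 1) ≤ 2 * (q ^ 3 * (q + 1)) := by nlinarith
    exact lt_of_lt_of_le hlt (Nat.mul_le_mul_right _ h2)
  obtain ⟨hfac, hcard⟩ := Cfsg.Agent.Lib.Helper26_U4_GABS2.caseII_abs (SUg B) K (Pg B u) (Xg B u) (q ^ 3 * (q + 1)) hK hPG hXP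
    (fun M hM hX => claimA Hy hu0 hu (hP u hu0 hu) M hM hX) hno' hidx
  have hm : 0 < Nat.card ↥(Pg B u ⊓ K) := Nat.card_pos
  have hlt' : Nat.card ↥(Pg B u) < (q + 1) * (q ^ 3 + 1) * Nat.card ↥(Pg B u ⊓ K) := by
    have h1 : Nat.card ↥(SUg B) * Nat.card ↥(Pg B u ⊓ K) <
        (q + 1) * (q ^ 3 + 1) * Nat.card K * Nat.card ↥(Pg B u ⊓ K) :=
      Nat.mul_lt_mul_of_pos_right hlt hm
    rw [hcard] at h1
    have h2 : Nat.card ↥(Pg B u) * Nat.card K <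
        (q + 1) * (q ^ 3 + 1) * Nat.card ↥(Pg B u ⊓ K) * Nat.card K := by
      calc Nat.card ↥(Pg B u) * Nat.card K
          < (q + 1) * (q ^ 3 + 1) * Nat.card K * Nat.card ↥(Pg B u ⊓ K) := h1
        _ = (q + 1) * (q ^ 3 + 1) * Nat.card ↥(Pg B u ⊓ K) * Nat.card K := by ring
    exact Nat.lt_of_mul_lt_mul_right h2
  obtain ⟨h1, h2, h3⟩ := claimA' Hy hu0 hu (hP u hu0 hu) (Pg B u ⊓ K) inf_le_left
    (fun h => hno u hu0 hu (h.trans inf_le_right)) hlt'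
  exact ⟨hfac, h1, h2, h3⟩

/-- uniformity of type (b). -/
theorem typeB_all {q : ℕ} (Hy : U4Hyp B q) (hq2 : 2 ≤ q)
    (hP : ∀ u : V, u ≠ 0 → B u u = 0 → Nat.card ↥(Pg B u) = q ^ 6 * (q ^ 2 - 1) ^ 2)
    (K : Subgroup (V ≃ₗ[F] V)) (hK : K ≤ SUg B)
    (hno : ∀ u : V, u ≠ 0 → B u u = 0 → ¬ Xg B u ≤ K)
    (hlt : Nat.card ↥(SUg B) < (q + 1) * (q ^ 3 + 1) * Nat.card K)
    {u : V} (hu0 : u ≠ 0) (hu : B u u = 0) (hBu : TypeBg B q u (Pg B u ⊓ K))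
    {v : V} (hv0 : v ≠ 0) (hv : B v v = 0) : TypeBg B q v (Pg B v ⊓ K) := by
  obtain ⟨g, hg, hgu⟩ := (Cfsg.Agent.Lib.Helper29_U4_GGEN.gen_conj Hy hu0 hu).2.1 v hv0 hv
  obtain ⟨hfac, -⟩ := point_data Hy hq2 hP K hK hno hlt hu0 hu
  obtain ⟨p, hp, k, hk, hgpk⟩ := hfac g⁻¹ ((SUg B).inv_mem hg)
  have hg' : g = k⁻¹ * p⁻¹ := by
    rw [← mul_inv_rev, ← hgpk, inv_inv]
  have hp' : p⁻¹ ∈ Cfsg.Agent.Lib.Helper27_UQDefs.Pv B u := by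
    rw [← Cfsg.Agent.Lib.Helper39_U4Compat.Pg_eq hu0]
    exact (Pg B u).inv_mem hp
  obtain ⟨-, c, hc, hpu⟩ := hp'
  have hv' : v = c • k⁻¹ u := by
    rw [← hgu, hg', LinearEquiv.mul_apply, hpu, map_smul]
  rw [hv']
  exact Cfsg.Agent.Lib.Helper32_U4_GTRANS.typeB_transport Hy K hK (K.inv_mem hk) hc hBu


theorem Qg_le_uG {q : ℕ} (Hy : U4Hyp B q) {u : V} (hu : B u u = 0) : Qg B u ≤ uG B :=
  (Qg_le_Pg Hy hu).trans (inf_le_left.trans SUg_le_uG)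

theorem finsum_const_nat {α : Type*} [Finite α] (c : ℕ) : ∑ᶠ _ : α, c = Nat.card α * c := by
  haveI : Fintype α := Fintype.ofFinite α
  rw [finsum_eq_sum_of_fintype, Finset.sum_const, Finset.card_univ, smul_eq_mul,
    Nat.card_eq_fintype_card]

/-- all points of type (b): contradiction. -/
theorem allB_false {q : ℕ} (Hy : U4Hyp B q) (hq2 : 2 ≤ q)
    (K : Subgroup (V ≃ₗ[F] V))
    (hS1 : ∀ v : V, v ≠ 0 → B v v = 0 → (Pg B v ⊓ K) ⊓ Xg B v = ⊥)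
    (hallB : ∀ v : V, v ≠ 0 → B v v = 0 → TypeBg B q v (Pg B v ⊓ K)) : False := by
  haveI : Finite (V ≃ₗ[F] V) := finite_equiv
  haveI : Finite V := Module.finite_of_finite F
  obtain ⟨u, hu0, hu⟩ := exists_iso Hy
  obtain ⟨l, hl, hul⟩ := Cfsg.Agent.Lib.Helper31_U4_GLINE0.exists_line Hy hu0 hu
  have hiso : ∀ v ∈ l, B v v = 0 := fun v hv => hl.2 v hv v hv
  have hroot : ∀ v ∈ l, v ≠ 0 → (K ⊓ (uG B ⊓ fixer l)) ⊓ Xg B v = ⊥ := by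
    intro v hv hv0
    rw [eq_bot_iff, ← hS1 v hv0 (hiso v hv)]
    intro x hx
    exact ⟨⟨(Cfsg.Agent.Lib.Helper29_U4_GGEN.gen_conj Hy hv0 (hiso v hv)).2.2.2.1 hx.2, hx.1.1⟩, hx.2⟩
  have hcount := Cfsg.Agent.Lib.Helper32_U4_GCOUNT.line_count Hy hl (K ⊓ (uG B ⊓ fixer l)) inf_le_right hroot
  have hterm : ∀ v : {v : ↥l // v ≠ 0},
      Nat.card ↥((K ⊓ (uG B ⊓ fixer l)) ⊓ Qg B ((v : ↥l) : V)) - 1 = q - 1 := by
    intro v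
    have hv0 : ((v : ↥l) : V) ≠ 0 := fun h => v.2 (Subtype.ext h)
    have hvv := hiso _ (v : ↥l).2
    have h1 := (hallB _ hv0 hvv).2 l hl (v : ↥l).2
    have h2 : (K ⊓ (uG B ⊓ fixer l)) ⊓ Qg B ((v : ↥l) : V) =
        (Pg B ((v : ↥l) : V) ⊓ K) ⊓ Qg B ((v : ↥l) : V) ⊓ fixer l := by
      ext x
      simp only [Subgroup.mem_inf]
      constructor
      · rintro ⟨⟨hxK, -, hxl⟩, hxQ⟩
        exact ⟨⟨⟨Qg_le_Pg Hy hvv hxQ, hxK⟩, hxQ⟩, hxl⟩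
      · rintro ⟨⟨⟨-, hxK⟩, hxQ⟩, hxl⟩
        exact ⟨⟨hxK, Qg_le_uG Hy hvv hxQ, hxl⟩, hxQ⟩
    rw [h2, h1]
  rw [finsum_congr hterm, finsum_const_nat, card_line_ne Hy hl] at hcount
  exact Cfsg.Agent.Lib.Helper79_U4_GARITH.arith_b hq2 (even_q Hy (hallB u hu0 hu).1) Nat.card_pos hcount

/-- all points of type (a): contradiction. -/
theorem allA_false {q : ℕ} (Hy : U4Hyp B q) (hq2 : 2 ≤ q)
    (K : Subgroup (V ≃ₗ[F] V))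
    (hS1 : ∀ v : V, v ≠ 0 → B v v = 0 → (Pg B v ⊓ K) ⊓ Xg B v = ⊥)
    (hS2 : ∀ v : V, v ≠ 0 → B v v = 0 → Nat.card ↥((Pg B v ⊓ K) ⊓ Qg B v) = q ^ 2)
    (hallA : ∀ v : V, v ≠ 0 → B v v = 0 → TypeAg B v (Pg B v ⊓ K)) : False := by
  haveI : Finite (V ≃ₗ[F] V) := finite_equiv
  haveI : Finite V := Module.finite_of_finite F
  obtain ⟨u, hu0, hu⟩ := exists_iso Hy
  obtain ⟨l, hl, hul, hBl⟩ := hallA u hu0 hu
  have hiso : ∀ v ∈ l, B v v = 0 := fun v hv => hl.2 v hv v hv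
  have hroot : ∀ v ∈ l, v ≠ 0 → (K ⊓ (uG B ⊓ fixer l)) ⊓ Xg B v = ⊥ := by
    intro v hv hv0
    rw [eq_bot_iff, ← hS1 v hv0 (hiso v hv)]
    intro x hx
    exact ⟨⟨(Cfsg.Agent.Lib.Helper29_U4_GGEN.gen_conj Hy hv0 (hiso v hv)).2.2.2.1 hx.2, hx.1.1⟩, hx.2⟩
  have hcount := Cfsg.Agent.Lib.Helper32_U4_GCOUNT.line_count Hy hl (K ⊓ (uG B ⊓ fixer l)) inf_le_right hroot
  -- the subgroup `B₁`
  have hB1le : (Pg B u ⊓ K) ⊓ Qg B u ≤ uG B ⊓ fixer l :=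
    le_inf (inf_le_right.trans (Qg_le_uG Hy hu)) hBl
  have hterm : ∀ v : {v : ↥l // v ≠ 0},
      Nat.card ↥((K ⊓ (uG B ⊓ fixer l)) ⊓ Qg B ((v : ↥l) : V)) - 1 = q ^ 2 - 1 := by
    intro v
    have hv0 : ((v : ↥l) : V) ≠ 0 := fun h => v.2 (Subtype.ext h)
    have hvl : ((v : ↥l) : V) ∈ l := (v : ↥l).2
    have hvv := hiso _ hvl
    obtain ⟨l', hl', hvl', hBl'⟩ := hallA _ hv0 hvv
    -- `l' = l`
    have hll : l' = l := by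
      by_contra hne
      have h4 := Cfsg.Agent.Lib.Helper54_U4_G4.G4 Hy hl hv0 hvl _ hB1le
      rw [hS2 u hu0 hu] at h4
      have hq0 : 0 < q := by omega
      have h5 : q ≤ Nat.card ↥(((Pg B u ⊓ K) ⊓ Qg B u) ⊓ Qg B ((v : ↥l) : V)) := by
        have : q * q ≤ q * Nat.card ↥(((Pg B u ⊓ K) ⊓ Qg B u) ⊓ Qg B ((v : ↥l) : V)) := by
          rw [← pow_two]; exact h4
        exact Nat.le_of_mul_le_mul_left this hq0
      have h6 : ((Pg B u ⊓ K) ⊓ Qg B u) ⊓ Qg B ((v : ↥l) : V) ≠ ⊥ := by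
        rw [← Subgroup.one_lt_card_iff_ne_bot]
        omega
      obtain ⟨⟨b, hbm⟩, hb1⟩ := (Subgroup.ne_bot_iff_exists_ne_one).mp h6
      have hb1' : b ≠ 1 := fun h => hb1 (Subtype.ext h)
      have hbK : b ∈ K := hbm.1.1.2
      have hbQv : b ∈ Qg B ((v : ↥l) : V) := hbm.2
      have hbl : b ∈ fixer l := hBl hbm.1
      have hbMv : b ∈ (Pg B ((v : ↥l) : V) ⊓ K) ⊓ Qg B ((v : ↥l) : V) :=
        ⟨⟨Qg_le_Pg Hy hvv hbQv, hbK⟩, hbQv⟩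
      have hbl' : b ∈ fixer l' := hBl' hbMv
      have hbX : b ∈ Xg B ((v : ↥l) : V) :=
        Cfsg.Agent.Lib.Helper70_U4_GG2.G2 Hy hl hl' (Ne.symm hne) hv0 hvl hvl' (Qg_le_uG Hy hvv hbQv) hbl hbl'
      have : b ∈ (Pg B ((v : ↥l) : V) ⊓ K) ⊓ Xg B ((v : ↥l) : V) := ⟨hbMv.1, hbX⟩
      rw [hS1 _ hv0 hvv, Subgroup.mem_bot] at this
      exact hb1' this
    rw [hll] at hBl'
    have h2 : (K ⊓ (uG B ⊓ fixer l)) ⊓ Qg B ((v : ↥l) : V) =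
        (Pg B ((v : ↥l) : V) ⊓ K) ⊓ Qg B ((v : ↥l) : V) := by
      apply le_antisymm
      · intro x hx
        exact ⟨⟨Qg_le_Pg Hy hvv hx.2, hx.1.1⟩, hx.2⟩
      · intro x hx
        exact ⟨⟨hx.1.2, Qg_le_uG Hy hvv hx.2, hBl' hx⟩, hx.2⟩
    rw [h2, hS2 _ hv0 hvv]
  rw [finsum_congr hterm, finsum_const_nat, card_line_ne Hy hl] at hcount
  -- `|C|` divides `q^4`
  obtain ⟨e₁, e₂, f₁, f₂, hlspan, h1, h2, h12, h12', h21, hff, -⟩ := Cfsg.Agent.Lib.Helper50_U4_G_LINE1.line_coords Hy hl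
  have hdvd : Nat.card ↥(K ⊓ (uG B ⊓ fixer l)) ∣ q ^ 4 := by
    have h3 := (Cfsg.Agent.Lib.Helper99_U4_GLINE2.line_param Hy h1 h2 h12 h12' h21 hff).2
    rw [← hlspan] at h3
    exact (Subgroup.card_dvd_of_le (inf_le_right : K ⊓ (uG B ⊓ fixer l) ≤ uG B ⊓ fixer l)).trans h3
  exact Cfsg.Agent.Lib.Helper79_U4_GARITH.arith_a hq2 hdvd hcount


/-- G-II (§4 CASE II). -/
theorem caseII {q : ℕ} (Hy : U4Hyp B q) (hq2 : 2 ≤ q)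
    (hP : ∀ u : V, u ≠ 0 → B u u = 0 → Nat.card ↥(Pg B u) = q ^ 6 * (q ^ 2 - 1) ^ 2)
    (K : Subgroup (V ≃ₗ[F] V)) (hK : K ≤ SUg B)
    (hno : ∀ u : V, u ≠ 0 → B u u = 0 → ¬ Xg B u ≤ K) :
    (q + 1) * (q ^ 3 + 1) * Nat.card K ≤ Nat.card ↥(SUg B) := by
  by_contra hcon
  push Not at hcon
  have hpd := fun (v : V) (hv0 : v ≠ 0) (hv : B v v = 0) =>
    point_data Hy hq2 hP K hK hno hcon hv0 hv
  have hS1 : ∀ v : V, v ≠ 0 → B v v = 0 → (Pg B v ⊓ K) ⊓ Xg B v = ⊥ :=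
    fun v hv0 hv => (hpd v hv0 hv).2.1
  have hS2 : ∀ v : V, v ≠ 0 → B v v = 0 → Nat.card ↥((Pg B v ⊓ K) ⊓ Qg B v) = q ^ 2 :=
    fun v hv0 hv => (hpd v hv0 hv).2.2.1
  obtain ⟨u, hu0, hu⟩ := exists_iso Hy
  by_cases hBu : TypeBg B q u (Pg B u ⊓ K)
  · exact allB_false Hy hq2 K hS1
      (fun v hv0 hv => typeB_all Hy hq2 hP K hK hno hcon hu0 hu hBu hv0 hv)
  · refine allA_false Hy hq2 K hS1 hS2 (fun v hv0 hv => ?_)
    rcases (hpd v hv0 hv).2.2.2 with hA | hBv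
    · exact hA
    · exact absurd (typeB_all Hy hq2 hP K hK hno hcon hv0 hv hBv hu0 hu) hBu


/-- G-MAIN: the abstract theorem. -/
theorem main_abs {q : ℕ} (Hy : U4Hyp B q) (hq2 : 2 ≤ q)
    (hP : ∀ u : V, u ≠ 0 → B u u = 0 → Nat.card ↥(Pg B u) = q ^ 6 * (q ^ 2 - 1) ^ 2)
    (hidx : ∀ T : Submodule F V, T ≠ ⊥ → (∀ x ∈ T, ∀ y ∈ T, B x y = 0) →
      (q + 1) * (q ^ 3 + 1) * Nat.card ↥(SUg B ⊓ stab T) ≤ Nat.card ↥(SUg B))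
    (K : Subgroup (V ≃ₗ[F] V)) (hK : K ≤ SUg B) (hne : K ≠ SUg B) :
    (q + 1) * (q ^ 3 + 1) * Nat.card K ≤ Nat.card ↥(SUg B) := by
  by_cases hcase : ∃ u : V, u ≠ 0 ∧ B u u = 0 ∧ Xg B u ≤ K
  · obtain ⟨u, hu0, hu, hXK⟩ := hcase
    exact caseI Hy hq2 hP hidx K hK hne hu0 hu hXK
  · push Not at hcase
    exact caseII Hy hq2 hP K hK (fun u hu0 hu => hcase u hu0 hu)

end Cfsg.Agent.Lib.Helper39_U4_Main
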