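import Mathlib
import Cfsg.Prelude.Def_Characters
import Cfsg.Agent.Lib.Helper3_CharComplete
import Cfsg.Agent.Lib.Helper75_IndChar
import Cfsg.Agent.Lib.Helper75_CharProd
import Cfsg.Agent.Lib.Helper79_Linear
import Cfsg.Agent.Lib.Helper80_CharBasic

/-!
# Artin's induction theorem (helper3)
-/

set_option autoImplicit false
set_option linter.unusedSectionVars false

namespace Cfsg.Agent.Lib.Helper3_Artin

open scoped ComplexConjugate
open Cfsg.Agent.Lib.Helper3_CharBridge Cfsg.Agent.Lib.Helper3_CharOrtho
  Cfsg.Agent.Lib.Helper3_CharComplete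
open Cfsg.Agent.Lib.Helper75_Induced Cfsg.Agent.Lib.Helper75_CharArith
  Cfsg.Agent.Lib.Helper75_IndChar Cfsg.Agent.Lib.Helper75_CharProd

section gen

variable {A : Type*} [Group A] [Fintype A]

open scoped Classical in
/-- The sum of the values of a character over the generators of a subgroup is an integer. -/
theorem sum_generators_int (ψ : A → ℂ) (hψ : Cfsg.IsCharacter A ψ) (B : Subgroup A) :
    ∃ z : ℤ, ∑ a : A, (if Subgroup.zpowers a = B then ψ a else 0) = (z : ℂ) := by
  classical
  have : Fintype (Subgroup A) := Fintype.ofFinite _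
  induction B using WellFoundedLT.induction with
  | _ B ih =>
  set f : Subgroup A → ℂ := fun C => ∑ a : A, (if Subgroup.zpowers a = C then ψ a else 0) with hf
  -- the sum over `B` is a natural number
  have hF : ∃ m : ℕ, ∑ a : A, (if a ∈ B then ψ a else 0) = (m : ℂ) := by
    have : Fintype B := Fintype.ofFinite B
    obtain ⟨m, hm⟩ := classInner_isCharacter_nat (isCharacter_restrict B hψ)
      (isCharacter_of_isIrrCharacter (Cfsg.Agent.Lib.Helper80_CharBasic.isIrrCharacter_one B))
    refine ⟨Nat.card B * m, ?_⟩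
    have hB : (Nat.card B : ℂ) ≠ 0 := by exact_mod_cast Nat.card_pos.ne'
    unfold Cfsg.classInner at hm
    have h1 : ∑ b : B, ψ b = (Nat.card B : ℂ) * m := by
      rw [← hm, ← mul_assoc, mul_inv_cancel₀ hB, one_mul]
      simp
    rw [Nat.cast_mul, ← h1, ← Finset.sum_filter]
    exact (Finset.sum_subtype (Finset.univ.filter (· ∈ B)) (by simp) ψ)
  obtain ⟨m, hm⟩ := hF
  -- partition by the generated subgroup
  have hpart : ∑ a : A, (if a ∈ B then ψ a else 0) = ∑ C : Subgroup A, if C ≤ B then f C else 0 := by
    have h1 : ∀ C : Subgroup A, (if C ≤ B then f C else 0) =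
        ∑ a : A, if Subgroup.zpowers a = C then (if a ∈ B then ψ a else 0) else 0 := by
      intro C
      by_cases hC : C ≤ B
      · rw [if_pos hC, hf]
        apply Finset.sum_congr rfl
        intro a _
        by_cases ha : Subgroup.zpowers a = C
        · rw [if_pos ha, if_pos ha, if_pos]
          exact Subgroup.zpowers_le.mp (ha ▸ hC)
        · rw [if_neg ha, if_neg ha]
      · rw [if_neg hC]
        symm
        apply Finset.sum_eq_zero
        intro a _
        by_cases ha : Subgroup.zpowers a = C
        · rw [if_pos ha, if_neg]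
          intro haB
          exact hC (ha ▸ Subgroup.zpowers_le.mpr haB)
        · rw [if_neg ha]
    simp_rw [h1]
    rw [Finset.sum_comm]
    apply Finset.sum_congr rfl
    intro a _
    rw [Finset.sum_ite_eq]
    simp
  -- split off `C = B`
  have hsplit : ∑ C : Subgroup A, (if C ≤ B then f C else 0) =
      f B + ∑ C : Subgroup A, if C < B then f C else 0 := by
    have h1 : ∀ C : Subgroup A, (if C ≤ B then f C else 0) =
        (if B = C then f C else 0) + (if C < B then f C else 0) := by
      intro C
      by_cases h : C = B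
      · subst h
        simp
      · by_cases h2 : C < B
        · rw [if_pos h2.le, if_neg (Ne.symm h), if_pos h2, zero_add]
        · rw [if_neg h2, if_neg (Ne.symm h), if_neg, zero_add]
          intro hle
          exact h2 (lt_of_le_of_ne hle h)
    simp_rw [h1]
    rw [Finset.sum_add_distrib, Finset.sum_ite_eq]
    simp
  have hz : ∀ C : Subgroup A, ∃ z : ℤ, (if C < B then f C else 0) = (z : ℂ) := by
    intro C
    by_cases h : C < B
    · obtain ⟨z, hz⟩ := ih C h
      exact ⟨z, by rw [if_pos h]; exact hz⟩
    · exact ⟨0, by rw [if_neg h]; simp⟩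
  choose z hz using hz
  refine ⟨(m : ℤ) - ∑ C : Subgroup A, z C, ?_⟩
  have h2 : f B = (m : ℂ) - ∑ C : Subgroup A, if C < B then f C else 0 := by
    rw [← hm, hpart, hsplit]
    ring
  show f B = _
  rw [h2]
  simp_rw [hz]
  push_cast
  ring

/-- An irreducible character of a commutative group has degree one. -/
theorem irr_one_eq_one_of_comm {A : Type*} [Group A] [IsMulCommutative A] {lam : A → ℂ}
    (h : Cfsg.IsIrrCharacter A lam) : lam 1 = 1 := by
  obtain ⟨n, ρ, hρ, rfl⟩ := h
  have := hρ
  rw [Representation.char_one,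
    Representation.IsIrreducible.finrank_eq_one_of_isMulCommutative ρ]
  simp

end gen

section artin

variable {G : Type*} [Group G] [Fintype G]

/-- Integer combinations of functions induced from linear characters of cyclic subgroups. -/
def IsArtin (f : G → ℂ) : Prop :=
  ∃ l : List ((A : Subgroup G) × ((A →* ℂˣ) × ℤ)), (∀ t ∈ l, IsCyclic t.1) ∧
    f = (l.map fun t => (t.2.2 : ℂ) • Cfsg.indFun t.1 (fun a => (t.2.1 a : ℂ))).sum

theorem isArtin_zero : IsArtin (0 : G → ℂ) := ⟨[], by simp, by simp⟩

theorem isArtin_add {f g : G → ℂ} (hf : IsArtin f) (hg : IsArtin g) : IsArtin (f + g) := by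
  obtain ⟨l, hl, rfl⟩ := hf
  obtain ⟨l', hl', rfl⟩ := hg
  refine ⟨l ++ l', ?_, ?_⟩
  · intro t ht
    rcases List.mem_append.mp ht with h | h
    · exact hl t h
    · exact hl' t h
  · rw [List.map_append, List.sum_append]

theorem isArtin_sum {ι : Type*} (s : Finset ι) (F : ι → G → ℂ) (h : ∀ i ∈ s, IsArtin (F i)) :
    IsArtin (∑ i ∈ s, F i) := by
  classical
  induction s using Finset.induction_on with
  | empty => simpa using isArtin_zero
  | insert a s ha ih =>
    rw [Finset.sum_insert ha]
    exact isArtin_add (h a (Finset.mem_insert_self a s))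
      (ih (fun i hi => h i (Finset.mem_insert_of_mem hi)))

theorem isArtin_single (A : Subgroup G) (hA : IsCyclic A) (μ : A →* ℂˣ) (z : ℤ) :
    IsArtin ((z : ℂ) • Cfsg.indFun A (fun a => (μ a : ℂ))) :=
  ⟨[⟨A, μ, z⟩], by simpa using hA, by simp⟩

open scoped Classical in
/-- The function on `A` supported on the generators of `A`. -/
noncomputable def genFun (χ : G → ℂ) (A : Subgroup G) : A → ℂ :=
  fun a => if Subgroup.zpowers (a : G) = A then (Nat.card A : ℂ) * χ a else 0

open scoped Classical in
theorem extendByZero_genFun (χ : G → ℂ) (A : Subgroup G) (y : G) :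
    Cfsg.extendByZero A (genFun χ A) y =
      if Subgroup.zpowers y = A then (Nat.card A : ℂ) * χ y else 0 := by
  by_cases hy : y ∈ A
  · rw [extendByZero_of_mem A _ hy]
    rfl
  · rw [extendByZero_of_not_mem A _ hy, if_neg]
    intro h
    apply hy
    rw [← h]
    exact Subgroup.mem_zpowers y

theorem card_smul_eq_sum_indFun (χ : G → ℂ) (hχ : Cfsg.IsClassFunction G χ)
    [Fintype (Subgroup G)] :
    (Nat.card G : ℂ) • χ = ∑ A : Subgroup G, Cfsg.indFun A (genFun χ A) := by
  classical
  funext g
  rw [Finset.sum_apply]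
  have h1 : ∀ A : Subgroup G, Cfsg.indFun A (genFun χ A) g =
      ∑ x : G, if Subgroup.zpowers (x⁻¹ * g * x) = A then χ g else 0 := by
    intro A
    have hA : (Nat.card A : ℂ) ≠ 0 := by exact_mod_cast Nat.card_pos.ne'
    rw [indFun_apply, Finset.mul_sum]
    apply Finset.sum_congr rfl
    intro x _
    rw [extendByZero_genFun]
    by_cases h : Subgroup.zpowers (x⁻¹ * g * x) = A
    · rw [if_pos h, if_pos h, ← mul_assoc, inv_mul_cancel₀ hA, one_mul]
      have := hχ g x⁻¹
      rw [inv_inv] at this
      exact this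
    · rw [if_neg h, if_neg h, mul_zero]
  simp_rw [h1]
  rw [Finset.sum_comm]
  simp_rw [Finset.sum_ite_eq, Finset.mem_univ, if_true]
  rw [Finset.sum_const, Finset.card_univ, Pi.smul_apply, smul_eq_mul, nsmul_eq_mul,
    Nat.card_eq_fintype_card]

theorem zpowers_coe_eq_iff (A : Subgroup G) (a : A) :
    Subgroup.zpowers (a : G) = A ↔ Subgroup.zpowers a = ⊤ := by
  have h1 : Subgroup.zpowers (a : G) = (Subgroup.zpowers a).map A.subtype := by
    rw [MonoidHom.map_zpowers]
    rfl
  have h2 : A = (⊤ : Subgroup A).map A.subtype := by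
    rw [← MonoidHom.range_eq_map, Subgroup.range_subtype]
  constructor
  · intro h
    apply Subgroup.map_injective A.subtype_injective
    rw [← h1, ← h2]
    exact h
  · intro h
    rw [h1, h, ← h2]

theorem isArtin_indFun_genFun (χ : G → ℂ) (hχ : Cfsg.IsCharacter G χ) (A : Subgroup G) :
    IsArtin (Cfsg.indFun A (genFun χ A)) := by
  classical
  by_cases hA : IsCyclic A
  swap
  · have h0 : genFun χ A = 0 := by
      funext a
      unfold genFun
      rw [if_neg]
      · rfl
      intro h
      apply hA
      rw [← h]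
      exact Subgroup.isCyclic_zpowers _
    rw [h0, indFun_zero]
    exact isArtin_zero
  have : Fintype A := Fintype.ofFinite A
  have hcomm : IsMulCommutative A := inferInstance
  have hcl : Cfsg.IsClassFunction A (genFun χ A) := by
    intro g h
    have : h * g * h⁻¹ = g := by
      rw [mul_comm' h g, mul_inv_cancel_right]
    rw [this]
  rw [classFunction_eq_sum (genFun χ A) hcl, indFun_sum]
  apply isArtin_sum
  intro lam _
  have hlam1 : (lam : A → ℂ) 1 = 1 := irr_one_eq_one_of_comm lam.2
  set μ : A →* ℂˣ := Cfsg.Agent.Lib.Helper79_Linear.homOfLinear ⟨lam, hlam1⟩ with hμ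
  have hμlam : (lam : A → ℂ) = fun a => ((μ a : ℂˣ) : ℂ) := by
    funext a
    rw [hμ, Cfsg.Agent.Lib.Helper79_Linear.homOfLinear_apply]
  -- the coefficient is an integer
  have hψ : Cfsg.IsCharacter A (fun a : A => χ a * conj ((lam : A → ℂ) a)) :=
    isCharacter_mul (isCharacter_restrict A hχ)
      (isCharacter_conj (isCharacter_of_isIrrCharacter lam.2))
  obtain ⟨z, hz⟩ := sum_generators_int _ hψ ⊤
  have hcoef : Cfsg.classInner (genFun χ A) (lam : A → ℂ) = (z : ℂ) := by
    rw [← hz]
    unfold Cfsg.classInner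
    have hAne : (Nat.card A : ℂ) ≠ 0 := by exact_mod_cast Nat.card_pos.ne'
    rw [Finset.mul_sum]
    apply Finset.sum_congr rfl
    intro a _
    unfold genFun
    by_cases h : Subgroup.zpowers (a : G) = A
    · rw [if_pos h, if_pos ((zpowers_coe_eq_iff A a).mp h), mul_assoc, ← mul_assoc,
        inv_mul_cancel₀ hAne, one_mul]
    · rw [if_neg h, if_neg (fun h' => h ((zpowers_coe_eq_iff A a).mpr h')), zero_mul, mul_zero]
  rw [hcoef, indFun_smul, hμlam]
  exact isArtin_single A hA μ z

/-- **Artin's induction theorem**. -/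
theorem artin (χ : G → ℂ) (hχ : Cfsg.IsCharacter G χ) : IsArtin ((Nat.card G : ℂ) • χ) := by
  classical
  have : Fintype (Subgroup G) := Fintype.ofFinite _
  rw [card_smul_eq_sum_indFun χ (isClassFunction_of_isCharacter hχ)]
  apply isArtin_sum
  intro A _
  exact isArtin_indFun_genFun χ hχ A

end artin

end Cfsg.Agent.Lib.Helper3_Artin
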