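import Mathlib
import Cfsg.Agent.Lib.Helper75_BRDefs
import Cfsg.Agent.Lib.Helper78_CentralNilp
import Cfsg.Agent.Lib.Helper78_CharFacts

/-!
# Brandt market (S4607, architect helper75), package B0 (ACL): the residue field of the algebraic
integers is algebraically closed.  (helper3)
-/

set_option autoImplicit false

namespace Cfsg.Agent.Lib.Helper3_BR_B0ACL

open Cfsg Cfsg.Agent.Lib.Helper78_LocalRing Cfsg.Agent.Lib.Helper78_GroupRing
  Cfsg.Agent.Lib.Helper79_Residue Cfsg.Agent.Lib.Helper75_BRDefs

universe u v w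

variable {G : Type u} [Group G] [Fintype G] {M : Ideal AlgInt} [hmax : M.IsMaximal]

/-- a complex number integral over the algebraic integers is an algebraic integer -/
theorem mem_algInt_of_isIntegral {z : ℂ} (hz : IsIntegral AlgInt z) : ∃ a : AlgInt, (a : ℂ) = z := by
  have h1 : z ∈ integralClosure (↥(integralClosure ℤ ℂ)) ℂ := hz
  rw [integralClosure_idem, Algebra.mem_bot] at h1
  obtain ⟨a, ha⟩ := h1
  exact ⟨a, ha⟩

/-- **B0 (ACL)**. The residue field of the algebraic integers is algebraically closed. -/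
theorem resField_isAlgClosed : IsAlgClosed (ResField M) := by
  apply IsAlgClosed.of_exists_root
  intro p hp hirr
  -- lift `p` to a monic polynomial over `AlgInt`
  have hsurj : Function.Surjective (mkK M) := Ideal.Quotient.mk_surjective
  have hlift : p ∈ Polynomial.lifts (mkK M) := by
    rw [Polynomial.mem_lifts]
    exact Polynomial.map_surjective (mkK M) hsurj p
  obtain ⟨q, hqmap, hqdeg, hqmon⟩ := Polynomial.lifts_and_natDegree_eq_and_monic hlift hp
  -- a complex root
  have hdeg : (q.map (algebraMap AlgInt ℂ)).degree ≠ 0 := by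
    rw [Polynomial.degree_map_eq_of_injective (FaithfulSMul.algebraMap_injective AlgInt ℂ),
      Polynomial.degree_eq_natDegree hqmon.ne_zero, hqdeg]
    have h0 := Polynomial.natDegree_pos_iff_degree_pos.2 (Polynomial.degree_pos_of_irreducible hirr)
    exact_mod_cast h0.ne'
  obtain ⟨z, hz⟩ := IsAlgClosed.exists_root (q.map (algebraMap AlgInt ℂ)) hdeg
  have hzint : IsIntegral AlgInt z := by
    refine ⟨q, hqmon, ?_⟩
    rw [Polynomial.IsRoot.def, Polynomial.eval_map] at hz
    exact hz
  obtain ⟨a, ha⟩ := mem_algInt_of_isIntegral hzint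
  refine ⟨mkK M a, ?_⟩
  rw [← hqmap, Polynomial.eval_map, Polynomial.eval₂_at_apply]
  have h0 : Polynomial.eval a q = 0 := by
    apply Subtype.val_injective
    have h1 : ((Polynomial.eval a q : AlgInt) : ℂ) =
        Polynomial.eval₂ (algebraMap AlgInt ℂ) (algebraMap AlgInt ℂ a) q := by
      rw [Polynomial.eval₂_at_apply]
      rfl
    rw [h1]
    rw [Polynomial.IsRoot.def, Polynomial.eval_map] at hz
    have h2 : algebraMap AlgInt ℂ a = z := ha
    rw [h2, hz]
    rfl
  rw [h0, map_zero]

end Cfsg.Agent.Lib.Helper3_BR_B0ACL
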