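import Mathlib
import Cfsg.Agent.Lib.Helper75_BRDefs
import Cfsg.Agent.Lib.Helper78_CentralNilp
import Cfsg.Agent.Lib.Helper78_CharFacts

/-!
# Brandt market (S4607, architect helper75), package RK (LIFTIND): linear independence modulo `M`
lifts to `ℂ`.  (helper3)

Route: the independent reductions have dual functionals; lifting their coordinates to `AlgInt`
gives a square matrix `P` with entries in the local ring and reduction `1`, so `det P ≠ 0`, and every
`ℂ`-relation `c` between the `a i` satisfies `c ᵥ* P = 0`.
-/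

set_option autoImplicit false

namespace Cfsg.Agent.Lib.Helper3_BR_RKLIFTIND

open Cfsg Cfsg.Agent.Lib.Helper78_LocalRing Cfsg.Agent.Lib.Helper78_GroupRing
  Cfsg.Agent.Lib.Helper79_Residue Cfsg.Agent.Lib.Helper75_BRDefs

universe u v w

variable {G : Type u} [Group G] [Fintype G] {M : Ideal AlgInt} [hmax : M.IsMaximal]

/-- an element of a group algebra over a finite group is the sum of its terms -/
theorem eq_sum_coeff_smul_single {F : Type*} [Field F] (x : MonoidAlgebra F G) :
    x = ∑ g : G, x.coeff g • MonoidAlgebra.single g (1 : F) := by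
  classical
  apply MonoidAlgebra.coeff_injective
  ext k
  rw [MonoidAlgebra.coeff_sum, Finsupp.finsetSum_apply]
  have : ∀ g ∈ (Finset.univ : Finset G),
      (x.coeff g • MonoidAlgebra.single g (1 : F)).coeff k = if g = k then x.coeff k else 0 := by
    intro g _
    rw [MonoidAlgebra.coeff_smul, Finsupp.smul_apply, MonoidAlgebra.coeff_single,
      Finsupp.single_apply, smul_eq_mul]
    split_ifs with hgk
    · rw [hgk, mul_one]
    · rw [mul_zero]
  rw [Finset.sum_congr rfl this, Finset.sum_ite_eq' Finset.univ k]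
  simp

/-- **RK (LIFTIND)**. Linear independence modulo `M` lifts to `ℂ`. -/
theorem linearIndependent_of_redG {ι : Type*} [Fintype ι] (a : ι → MonoidAlgebra ℂ G)
    (ha : ∀ i, a i ∈ Isub G hmax.isPrime)
    (h : LinearIndependent (ResField M) (fun i => redG M (a i))) : LinearIndependent ℂ a := by
  classical
  have hMp := hmax.isPrime
  have hag : ∀ i g, MemLocalRing M ((a i).coeff g) := fun i g => ha i g
  obtain ⟨r, hr⟩ : ∃ r : ι → MonoidAlgebra (ResField M) G, r = fun i => redG M (a i) := ⟨_, rfl⟩
  rw [← hr] at h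
  -- dual functionals
  have hinj : LinearMap.ker (Fintype.linearCombination (ResField M) r) = ⊥ := by
    rw [LinearMap.ker_eq_bot']
    intro c hc
    rw [Fintype.linearCombination_apply] at hc
    funext i
    exact Fintype.linearIndependent_iff.1 h c hc i
  obtain ⟨φ, hφ⟩ := LinearMap.exists_leftInverse_of_injective _ hinj
  have hφr : ∀ i j, φ (r i) j = if i = j then 1 else 0 := by
    intro i j
    have h1 : Fintype.linearCombination (ResField M) r (Pi.single i 1) = r i := by
      rw [Fintype.linearCombination_apply_single, one_smul]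
    have h2 := LinearMap.congr_fun hφ (Pi.single i (1 : ResField M))
    rw [LinearMap.comp_apply, h1, LinearMap.id_apply] at h2
    rw [h2, Pi.single_apply]
    by_cases hij : i = j
    · rw [if_pos hij, if_pos hij.symm]
    · rw [if_neg hij, if_neg (fun h' => hij h'.symm)]
  -- coordinates of the functionals and their lifts
  obtain ⟨β, hβ⟩ : ∃ β : ι → G → ResField M,
      β = fun j g => φ (MonoidAlgebra.single g (1 : ResField M)) j := ⟨_, rfl⟩
  have hφx : ∀ (x : MonoidAlgebra (ResField M) G) (j : ι), φ x j = ∑ g : G, x.coeff g * β j g := by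
    intro x j
    conv_lhs => rw [eq_sum_coeff_smul_single x]
    rw [map_sum, Finset.sum_apply]
    refine Finset.sum_congr rfl (fun g _ => ?_)
    rw [map_smul, Pi.smul_apply, smul_eq_mul, hβ]
  have hsurj : Function.Surjective (mkK M) := Ideal.Quotient.mk_surjective
  choose b hb using fun (j : ι) (g : G) => hsurj (β j g)
  -- the matrix `P`
  obtain ⟨P, hP⟩ : ∃ P : Matrix ι ι ℂ, P = fun i j => ∑ g : G, (a i).coeff g * ((b j g : AlgInt) : ℂ) :=
    ⟨_, rfl⟩
  have hmem : ∀ i j g, MemLocalRing M ((a i).coeff g * ((b j g : AlgInt) : ℂ)) := fun i j g =>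
    memLocalRing_mul hMp (hag i g) (memLocalRing_algInt hMp (b j g))
  have hPmem : ∀ i j, MemLocalRing M (P i j) := by
    intro i j
    rw [hP]
    exact memLocalRing_sum hMp _ _ (fun g _ => hmem i j g)
  have hPred : ∀ i j, redFun M (P i j) = if i = j then 1 else 0 := by
    intro i j
    rw [hP]
    show redFun M (∑ g : G, (a i).coeff g * ((b j g : AlgInt) : ℂ)) = _
    rw [redFun_sum _ _ (fun g _ => hmem i j g), ← hφr i j, hφx]
    refine Finset.sum_congr rfl (fun g _ => ?_)
    rw [redFun_mul (hag i g) (memLocalRing_algInt hMp (b j g)), redFun_algInt, hb, hr, redG_coeff]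
  -- `det P ≠ 0`
  obtain ⟨P', hP'⟩ : ∃ P' : Matrix ι ι (localSubring (M := M) hMp),
      P' = fun i j => ⟨P i j, hPmem i j⟩ := ⟨_, rfl⟩
  have h1 : (red M).mapMatrix P' = 1 := by
    ext i j
    rw [RingHom.mapMatrix_apply, Matrix.map_apply, red_apply, hP', Matrix.one_apply]
    exact hPred i j
  have hdet' : P'.det ≠ 0 := by
    intro h0
    have h2 := RingHom.map_det (red M) P'
    rw [h1, Matrix.det_one, h0, map_zero] at h2
    exact zero_ne_one h2
  have h3 : (Subring.subtype (localSubring (M := M) hMp)).mapMatrix P' = P := by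
    ext i j
    rw [RingHom.mapMatrix_apply, Matrix.map_apply, hP']
    rfl
  have hdet : P.det ≠ 0 := by
    rw [← h3, ← RingHom.map_det]
    intro h0
    apply hdet'
    apply Subtype.val_injective
    exact h0
  -- relations
  rw [Fintype.linearIndependent_iff]
  intro c hc
  have hv : Matrix.vecMul c P = 0 := by
    funext j
    rw [Matrix.vecMul, dotProduct, hP]
    show ∑ i, c i * ∑ g : G, (a i).coeff g * ((b j g : AlgInt) : ℂ) = 0
    have h4 : ∀ g : G, ∑ i, c i * (a i).coeff g = 0 := by
      intro g
      have h5 := congrFun (congrArg fn hc) g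
      rw [fn_sum, fn_zero] at h5
      simp only [fn_smul] at h5
      exact h5
    calc ∑ i, c i * ∑ g : G, (a i).coeff g * ((b j g : AlgInt) : ℂ)
        = ∑ i, ∑ g : G, c i * (a i).coeff g * ((b j g : AlgInt) : ℂ) := by
          refine Finset.sum_congr rfl (fun i _ => ?_)
          rw [Finset.mul_sum]
          refine Finset.sum_congr rfl (fun g _ => ?_)
          rw [mul_assoc]
      _ = ∑ g : G, ∑ i, c i * (a i).coeff g * ((b j g : AlgInt) : ℂ) := Finset.sum_comm
      _ = ∑ g : G, (∑ i, c i * (a i).coeff g) * ((b j g : AlgInt) : ℂ) := by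
          refine Finset.sum_congr rfl (fun g _ => ?_)
          rw [Finset.sum_mul]
      _ = 0 := by
          refine Finset.sum_eq_zero (fun g _ => ?_)
          rw [h4 g, zero_mul]
  have := Matrix.eq_zero_of_vecMul_eq_zero hdet hv
  intro i
  rw [this]
  rfl

end Cfsg.Agent.Lib.Helper3_BR_RKLIFTIND
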