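import Mathlib
import Cfsg.Prelude.Def_Characters
import Cfsg.Agent.Lib.Helper3_CharBridge
import Cfsg.Agent.Lib.Helper3_Elementary
import Cfsg.Agent.Lib.Helper3_NilpMono
import Cfsg.Agent.Lib.Helper75_Induced
import Cfsg.Agent.Lib.Helper75_CharArith

/-!
# From Brauer induction with arbitrary characters of elementary subgroups to linear characters
(helper3)

`isBrauerLin_of_elementary_characters`: if `χ` is an integer combination of functions induced from
characters of elementary subgroups, it is an integer combination of functions induced from linear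
characters of elementary subgroups (nilpotent groups are M-groups + transitivity of induction).
-/

set_option autoImplicit false
set_option linter.unusedSectionVars false

namespace Cfsg.Agent.Lib.Helper3_BrauerLin

open Cfsg.Agent.Lib.Helper3_CharBridge Cfsg.Agent.Lib.Helper3_Elementary
  Cfsg.Agent.Lib.Helper3_NilpMono
open Cfsg.Agent.Lib.Helper75_Induced Cfsg.Agent.Lib.Helper75_CharArith

variable {G : Type*} [Group G] [Fintype G]

/-- Integer combinations of functions induced from linear characters of elementary subgroups. -/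
def IsBrauerLin (f : G → ℂ) : Prop :=
  ∃ l : List ((E : Subgroup G) × ((E →* ℂˣ) × ℤ)),
    (∀ t ∈ l, ∃ p : ℕ, p.Prime ∧ Cfsg.IsElementary p t.1) ∧
    f = (l.map fun t => (t.2.2 : ℂ) • Cfsg.indFun t.1 (fun e => (t.2.1 e : ℂ))).sum

theorem isBrauerLin_zero : IsBrauerLin (0 : G → ℂ) := ⟨[], by simp, by simp⟩

theorem isBrauerLin_add {f g : G → ℂ} (hf : IsBrauerLin f) (hg : IsBrauerLin g) :
    IsBrauerLin (f + g) := by
  obtain ⟨l, hl, rfl⟩ := hf
  obtain ⟨l', hl', rfl⟩ := hg
  refine ⟨l ++ l', ?_, ?_⟩
  · intro t ht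
    rcases List.mem_append.mp ht with h | h
    · exact hl t h
    · exact hl' t h
  · rw [List.map_append, List.sum_append]

theorem isBrauerLin_sum {ι : Type*} (s : Finset ι) (F : ι → G → ℂ)
    (h : ∀ i ∈ s, IsBrauerLin (F i)) : IsBrauerLin (∑ i ∈ s, F i) := by
  classical
  induction s using Finset.induction_on with
  | empty => simpa using isBrauerLin_zero
  | insert a s ha ih =>
    rw [Finset.sum_insert ha]
    exact isBrauerLin_add (h a (Finset.mem_insert_self a s))
      (ih (fun i hi => h i (Finset.mem_insert_of_mem hi)))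

theorem isBrauerLin_zsmul {f : G → ℂ} (z : ℤ) (hf : IsBrauerLin f) :
    IsBrauerLin ((z : ℂ) • f) := by
  obtain ⟨l, hl, rfl⟩ := hf
  refine ⟨l.map (fun t => ⟨t.1, t.2.1, z * t.2.2⟩), ?_, ?_⟩
  · intro t ht
    obtain ⟨t', ht', rfl⟩ := List.mem_map.mp ht
    exact hl t' ht'
  · rw [List.smul_sum, List.map_map, List.map_map]
    congr 1
    apply List.map_congr_left
    intro t _
    simp only [Function.comp_apply]
    rw [smul_smul]
    push_cast
    rfl

theorem isBrauerLin_single (E : Subgroup G) (p : ℕ) (hp : p.Prime) (hE : Cfsg.IsElementary p E)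
    (μ : E →* ℂˣ) : IsBrauerLin (Cfsg.indFun E (fun e => (μ e : ℂ))) :=
  ⟨[⟨E, μ, 1⟩], by simpa using ⟨p, hp, hE⟩, by simp⟩

/-- A function induced from a character of an elementary subgroup is an integer combination of
functions induced from linear characters of elementary subgroups. -/
theorem isBrauerLin_indFun_character (E : Subgroup G) (p : ℕ) (hp : p.Prime)
    (hE : Cfsg.IsElementary p E) (φ : E → ℂ) (hφ : Cfsg.IsCharacter E φ) :
    IsBrauerLin (Cfsg.indFun E φ) := by
  classical
  have : Fintype E := Fintype.ofFinite E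
  have hnil : Group.IsNilpotent E := isNilpotent_of_isElementary hp hE
  obtain ⟨m, -, hsum⟩ := exists_multiplicities hφ
  rw [hsum, indFun_sum]
  apply isBrauerLin_sum
  intro ψ _
  rw [indFun_smul]
  have h1 : ((m ψ : ℕ) : ℂ) = (((m ψ : ℕ) : ℤ) : ℂ) := by push_cast; rfl
  rw [h1]
  apply isBrauerLin_zsmul
  obtain ⟨H', lam, hlam⟩ := monomial_of_nilpotent (ψ : E → ℂ) ψ.2
  rw [hlam, indFun_map_subtype]
  have hel : Cfsg.IsElementary p (H'.map E.subtype) :=
    isElementary_map_subtype E H' (isElementary_subgroup hp hE H')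
  exact isBrauerLin_single (H'.map E.subtype) p hp hel
    (lam.comp (H'.equivMapOfInjective E.subtype E.subtype_injective).symm.toMonoidHom)

/-- From Brauer induction with arbitrary characters to Brauer induction with linear characters. -/
theorem isBrauerLin_of_elementary_characters (χ : G → ℂ)
    (h : ∃ l : List ((E : Subgroup G) × ((E → ℂ) × ℤ)),
      (∀ t ∈ l, (∃ p : ℕ, p.Prime ∧ Cfsg.IsElementary p t.1) ∧ Cfsg.IsCharacter t.1 t.2.1) ∧
      χ = (l.map fun t => (t.2.2 : ℂ) • Cfsg.indFun t.1 t.2.1).sum) : IsBrauerLin χ := by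
  obtain ⟨l, hl, rfl⟩ := h
  induction l with
  | nil => simpa using isBrauerLin_zero
  | cons t l ih =>
    rw [List.map_cons, List.sum_cons]
    apply isBrauerLin_add
    · obtain ⟨⟨p, hp, hE⟩, hφ⟩ := hl t (List.mem_cons_self)
      exact isBrauerLin_zsmul _ (isBrauerLin_indFun_character t.1 p hp hE t.2.1 hφ)
    · exact ih (fun t' ht' => hl t' (List.mem_cons_of_mem _ ht'))

end Cfsg.Agent.Lib.Helper3_BrauerLin
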