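import Mathlib
import Cfsg.Prelude.Def_Characters
import Cfsg.Agent.Lib.Helper3_BrauerLin
import Cfsg.Agent.Lib.Helper75_CharProd
import Cfsg.Agent.S0874

/-!
# Brauer's induction theorem (helper3), from the local form S0874 (helper15)
-/

set_option autoImplicit false
set_option linter.unusedSectionVars false

namespace Cfsg.Agent.Lib.Helper3_BrauerGlobal

open Cfsg.Agent.Lib.Helper3_CharBridge Cfsg.Agent.Lib.Helper3_BrauerLin
open Cfsg.Agent.Lib.Helper75_Induced Cfsg.Agent.Lib.Helper75_CharArith
  Cfsg.Agent.Lib.Helper75_CharProd Cfsg.Agent.Lib.Helper75_Clifford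

variable {G : Type*} [Group G] [Fintype G]

/-- The local form: for each prime `p` some integer `m` prime to `p` is `IsBrauerLin`. -/
theorem exists_const_isBrauerLin (p : ℕ) (hp : p.Prime) :
    ∃ m : ℤ, ¬ (p : ℤ) ∣ m ∧ IsBrauerLin (fun _ : G => (m : ℂ)) := by
  obtain ⟨m, l, hm, hl, hsum⟩ := Cfsg.Agent.S0874.result (G := G) p hp
  refine ⟨m, hm, ?_⟩
  apply isBrauerLin_of_elementary_characters
  exact ⟨l, fun t ht => ⟨⟨p, hp, (hl t ht).1⟩, (hl t ht).2⟩, hsum⟩

theorem const_add (a b : ℤ) :
    (fun _ : G => ((a + b : ℤ) : ℂ)) = (fun _ : G => (a : ℂ)) + (fun _ : G => (b : ℂ)) := by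
  funext g
  simp

theorem const_zsmul (z a : ℤ) :
    (fun _ : G => ((z * a : ℤ) : ℂ)) = (z : ℂ) • (fun _ : G => (a : ℂ)) := by
  funext g
  simp

/-- The constant function `1` is an integer combination of functions induced from linear
characters of elementary subgroups. -/
theorem isBrauerLin_one : IsBrauerLin (fun _ : G => (1 : ℂ)) := by
  classical
  -- the set of positive integers `n` with `IsBrauerLin (const n)`
  have hex : ∃ n : ℕ, 0 < n ∧ IsBrauerLin (fun _ : G => ((n : ℤ) : ℂ)) := by
    obtain ⟨m, hm, hB⟩ := exists_const_isBrauerLin (G := G) 2 Nat.prime_two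
    have hm0 : m ≠ 0 := by
      intro h
      apply hm
      rw [h]
      exact dvd_zero _
    refine ⟨m.natAbs, Int.natAbs_pos.mpr hm0, ?_⟩
    rcases Int.natAbs_eq m with h | h
    · rw [← h]; exact hB
    · have h2 : ((m.natAbs : ℕ) : ℤ) = (-1) * m := by omega
      rw [h2, const_zsmul]
      exact isBrauerLin_zsmul _ hB
  set d := Nat.find hex with hd
  obtain ⟨hdpos, hdB⟩ := Nat.find_spec hex
  -- every `m` with `IsBrauerLin (const m)` is divisible by `d`
  have hdiv : ∀ m : ℤ, IsBrauerLin (fun _ : G => (m : ℂ)) → (d : ℤ) ∣ m := by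
    intro m hm
    have hdpos' : (0 : ℤ) < (d : ℤ) := by exact_mod_cast hdpos
    set r := m % (d : ℤ) with hr
    have hr0 : 0 ≤ r := Int.emod_nonneg m hdpos'.ne'
    have hrd : r < d := Int.emod_lt_of_pos m hdpos'
    have hrB : IsBrauerLin (fun _ : G => (r : ℂ)) := by
      have e : r = m + (-(m / (d : ℤ))) * (d : ℤ) := by
        have := Int.emod_add_mul_ediv m (d : ℤ)
        rw [hr]
        linarith
      rw [e, const_add, const_zsmul]
      exact isBrauerLin_add hm (isBrauerLin_zsmul _ hdB)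
    by_contra hnd
    have hrne : r ≠ 0 := by
      intro h
      apply hnd
      exact Int.dvd_of_emod_eq_zero (hr ▸ h)
    have hrpos : 0 < r.toNat := by omega
    have hrB' : IsBrauerLin (fun _ : G => (((r.toNat : ℕ) : ℤ) : ℂ)) := by
      rw [Int.toNat_of_nonneg hr0]
      exact hrB
    have := Nat.find_min' hex ⟨hrpos, hrB'⟩
    omega
  -- `d = 1`
  have hd1 : d = 1 := by
    by_contra hne
    obtain ⟨q, hq, hqd⟩ := Nat.exists_prime_and_dvd hne
    obtain ⟨m, hm, hB⟩ := exists_const_isBrauerLin (G := G) q hq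
    apply hm
    exact (Int.natCast_dvd_natCast.mpr hqd).trans (hdiv m hB)
  rw [← hd, hd1] at hdB
  simpa using hdB

/-- Multiplying by a character. -/
theorem isBrauerLin_mul {f : G → ℂ} (hf : IsBrauerLin f) {χ : G → ℂ}
    (hχ : Cfsg.IsCharacter G χ) : IsBrauerLin (f * χ) := by
  obtain ⟨l, hl, rfl⟩ := hf
  induction l with
  | nil => simpa using isBrauerLin_zero
  | cons t l ih =>
    rw [List.map_cons, List.sum_cons, add_mul]
    apply isBrauerLin_add
    · obtain ⟨p, hp, hE⟩ := hl t (List.mem_cons_self)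
      rw [smul_mul_assoc, indFun_mul _ _ (isClassFunction_of_isCharacter hχ)]
      apply isBrauerLin_zsmul
      apply isBrauerLin_indFun_character t.1 p hp hE
      exact isCharacter_mul
        (isCharacter_of_isIrrCharacter (Cfsg.Agent.Lib.Helper79_Linear.isIrrCharacter_of_hom t.2.1))
        (isCharacter_restrict t.1 hχ)
    · exact ih (fun t' ht' => hl t' (List.mem_cons_of_mem _ ht'))

/-- **Brauer's induction theorem**. -/
theorem brauer_induction (χ : G → ℂ) (hχ : Cfsg.IsCharacter G χ) : IsBrauerLin χ := by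
  have h := isBrauerLin_mul (isBrauerLin_one (G := G)) hχ
  have e : (fun _ : G => (1 : ℂ)) * χ = χ := by
    funext g
    simp
  rwa [e] at h

end Cfsg.Agent.Lib.Helper3_BrauerGlobal
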