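import Mathlib

/-!
# Twisted conjugacy classes for a coprime automorphism

For a finite group `K` and an automorphism `a` with `a ^ n = 1`, `n` coprime to `|K|`, the
twisted conjugation `g ↦ y * g * (a y)⁻¹` has the property that every twisted class meets the
fixed-point subgroup `C = Fix(a)`, and `y * c * (a y)⁻¹ = c'` with `c, c' ∈ C` forces `y ∈ C`.
Consequently, for any function `F` constant on twisted classes,
`|C| * ∑ g, F g = |K| * ∑ c ∈ C, F c`.
-/

set_option autoImplicit false

namespace Cfsg.Agent.Lib.Helper3_TwistedClass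

variable {K : Type*} [Group K]

/-- The twisted norm `g * a g * a² g * ⋯ * a^(k-1) g`. -/
def twNorm (a : MulAut K) : ℕ → K → K
  | 0, _ => 1
  | (k + 1), g => g * a (twNorm a k g)

theorem twNorm_fixed (a : MulAut K) {c : K} (hc : a c = c) (k : ℕ) : twNorm a k c = c ^ k := by
  induction k with
  | zero => simp [twNorm]
  | succ k ih =>
    show c * a (twNorm a k c) = c ^ (k + 1)
    rw [ih, map_pow, hc, pow_succ']

theorem twNorm_conj (a : MulAut K) (y g : K) (k : ℕ) :
    twNorm a k (y * g * (a y)⁻¹) = y * twNorm a k g * ((a ^ k) y)⁻¹ := by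
  induction k with
  | zero => simp [twNorm]
  | succ k ih =>
    show y * g * (a y)⁻¹ * a (twNorm a k (y * g * (a y)⁻¹)) = y * (g * a (twNorm a k g)) * _
    rw [ih, map_mul, map_mul, map_inv, pow_succ', MulAut.mul_apply]
    group

/-- If `b` fixes `y` then so does every integer power of `b`. -/
theorem zpow_apply_of_fixed (b : MulAut K) {y : K} (hy : b y = y) (z : ℤ) : (b ^ z) y = y := by
  have h : b ∈ MulAction.stabilizer (MulAut K) y := by
    rw [MulAction.mem_stabilizer_iff]
    exact hy
  have := (MulAction.stabilizer (MulAut K) y).zpow_mem h z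
  rw [MulAction.mem_stabilizer_iff] at this
  exact this

/-- If `a ^ n = 1` with `n` coprime to `k` and `a ^ k` fixes `y`, then `a` fixes `y`. -/
theorem apply_of_pow_apply (a : MulAut K) {n k : ℕ} (han : a ^ n = 1) (hcop : Nat.Coprime k n)
    {y : K} (hy : (a ^ k) y = y) : a y = y := by
  have h1 : (k : ℤ) * Nat.gcdA k n + (n : ℤ) * Nat.gcdB k n = 1 := by
    have := Nat.gcd_eq_gcd_ab k n
    rw [hcop] at this
    simpa using this.symm
  have h2 : a = (a ^ k) ^ (Nat.gcdA k n) := by
    have h3 : a ^ (1 : ℤ) = a := zpow_one a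
    rw [← h1, zpow_add, zpow_mul, zpow_mul, zpow_natCast, zpow_natCast, han, one_zpow, mul_one]
      at h3
    exact h3.symm
  rw [h2]
  exact zpow_apply_of_fixed _ hy _

/-- **Rigidity**: if `y * c * (a y)⁻¹ = c'` with `c, c'` fixed by `a` then `y` is fixed. -/
theorem fixed_of_twisted_conj (a : MulAut K) {n : ℕ} (han : a ^ n = 1)
    (hcop : Nat.Coprime (Nat.card K) n) {y c c' : K} (hc : a c = c) (hc' : a c' = c')
    (h : y * c * (a y)⁻¹ = c') : a y = y := by
  have h1 := twNorm_conj a y c (Nat.card K)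
  rw [h, twNorm_fixed a hc', twNorm_fixed a hc, pow_card_eq_one', pow_card_eq_one', mul_one] at h1
  have h2 : (a ^ Nat.card K) y = y := by
    have := congrArg (fun t => t * (a ^ Nat.card K) y) h1
    simpa using this
  exact apply_of_pow_apply a han hcop h2


section counting

variable [Fintype K] {C : Type*} [Group C] [Fintype C]

/-- The twisted-conjugation map `(y, c) ↦ y * ι c * (a y)⁻¹`. -/
def twMap (a : MulAut K) (ι : C →* K) (x : K × C) : K := x.1 * ι x.2 * (a x.1)⁻¹

open scoped Classical in
/-- Every fibre of the twisted-conjugation map has at most `|C|` elements. -/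
theorem card_fiber_le (a : MulAut K) {n : ℕ} (han : a ^ n = 1)
    (hcop : Nat.Coprime (Nat.card K) n) (ι : C →* K) (hι : Function.Injective ι)
    (hfix : ∀ g : K, a g = g ↔ g ∈ ι.range) (g : K) :
    (Finset.univ.filter (fun x : K × C => twMap a ι x = g)).card ≤ Fintype.card C := by
  by_cases hne : (Finset.univ.filter (fun x : K × C => twMap a ι x = g)).Nonempty
  · obtain ⟨x₀, hx₀⟩ := hne
    rw [Finset.mem_filter] at hx₀
    have hx₀' := hx₀.2
    -- map the fibre to `C` via `x ↦ ι⁻¹ (x₀.1⁻¹ * x.1)`
    have hmem : ∀ x : K × C, twMap a ι x = g → x₀.1⁻¹ * x.1 ∈ ι.range := by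
      intro x hx
      rw [← hfix]
      have hc : a (ι x.2) = ι x.2 := (hfix _).mpr ⟨x.2, rfl⟩
      have hc' : a (ι x₀.2) = ι x₀.2 := (hfix _).mpr ⟨x₀.2, rfl⟩
      apply fixed_of_twisted_conj a han hcop hc hc'
      have h1 : x.1 * ι x.2 * (a x.1)⁻¹ = x₀.1 * ι x₀.2 * (a x₀.1)⁻¹ := hx.trans hx₀'.symm
      have h2 : ι x.2 = x.1⁻¹ * (x₀.1 * ι x₀.2 * (a x₀.1)⁻¹) * a x.1 := by
        rw [← h1]; group
      rw [h2, map_mul, map_inv]
      group
    rw [← Finset.card_univ]
    apply Finset.card_le_card_of_injOn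
      (fun x => if h : x₀.1⁻¹ * x.1 ∈ ι.range then h.choose else 1)
    · intro x _
      exact Finset.mem_univ _
    · intro x hx y hy hxy
      rw [Finset.mem_coe, Finset.mem_filter] at hx hy
      have hx1 := hmem x hx.2
      have hy1 := hmem y hy.2
      simp only [dif_pos hx1, dif_pos hy1] at hxy
      have h3 : x₀.1⁻¹ * x.1 = x₀.1⁻¹ * y.1 := by
        rw [← hx1.choose_spec, ← hy1.choose_spec, hxy]
      have h4 : x.1 = y.1 := mul_left_cancel h3
      have h5 : ι x.2 = ι y.2 := by
        have hx2 : x.1 * ι x.2 * (a x.1)⁻¹ = g := hx.2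
        have hy2 : y.1 * ι y.2 * (a y.1)⁻¹ = g := hy.2
        rw [← hy2, h4] at hx2
        exact mul_left_cancel (mul_right_cancel hx2)
      exact Prod.ext h4 (hι h5)
  · rw [Finset.not_nonempty_iff_eq_empty] at hne
    rw [hne, Finset.card_empty]
    exact Nat.zero_le _

open scoped Classical in
/-- Every fibre of the twisted-conjugation map has exactly `|C|` elements. -/
theorem card_fiber_eq (a : MulAut K) {n : ℕ} (han : a ^ n = 1)
    (hcop : Nat.Coprime (Nat.card K) n) (ι : C →* K) (hι : Function.Injective ι)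
    (hfix : ∀ g : K, a g = g ↔ g ∈ ι.range) (g : K) :
    (Finset.univ.filter (fun x : K × C => twMap a ι x = g)).card = Fintype.card C := by
  have hle := card_fiber_le a han hcop ι hι hfix
  have hsum : ∑ g : K, (Finset.univ.filter (fun x : K × C => twMap a ι x = g)).card
      = ∑ _g : K, Fintype.card C := by
    rw [← Finset.card_eq_sum_card_fiberwise (f := twMap a ι) (s := Finset.univ) (t := Finset.univ)
      (fun x _ => Finset.mem_univ _)]
    rw [Finset.card_univ, Fintype.card_prod, Finset.sum_const, Finset.card_univ, smul_eq_mul]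
  exact (Finset.sum_eq_sum_iff_of_le (fun g _ => hle g)).mp hsum g (Finset.mem_univ g)

/-- Every element is a twisted conjugate of a fixed point. -/
theorem exists_twisted_conj (a : MulAut K) {n : ℕ} (han : a ^ n = 1)
    (hcop : Nat.Coprime (Nat.card K) n) (ι : C →* K) (hι : Function.Injective ι)
    (hfix : ∀ g : K, a g = g ↔ g ∈ ι.range) (g : K) :
    ∃ (y : K) (c : C), y * ι c * (a y)⁻¹ = g := by
  classical
  have h := card_fiber_eq a han hcop ι hι hfix g
  have hpos : 0 < (Finset.univ.filter (fun x : K × C => twMap a ι x = g)).card := by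
    rw [h]; exact Fintype.card_pos
  obtain ⟨x, hx⟩ := Finset.card_pos.mp hpos
  rw [Finset.mem_filter] at hx
  exact ⟨x.1, x.2, hx.2⟩

/-- **Twisted class equation**: for `F` constant on twisted classes,
`|C| • ∑ g, F g = |K| • ∑ c, F (ι c)`. -/
theorem sum_twisted {M : Type*} [AddCommMonoid M] (a : MulAut K) {n : ℕ} (han : a ^ n = 1)
    (hcop : Nat.Coprime (Nat.card K) n) (ι : C →* K) (hι : Function.Injective ι)
    (hfix : ∀ g : K, a g = g ↔ g ∈ ι.range) (F : K → M)
    (hF : ∀ y g : K, F (y * g * (a y)⁻¹) = F g) :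
    Fintype.card C • ∑ g : K, F g = Fintype.card K • ∑ c : C, F (ι c) := by
  classical
  have h1 : ∑ x : K × C, F (twMap a ι x) = Fintype.card K • ∑ c : C, F (ι c) := by
    rw [Fintype.sum_prod_type]
    simp only [twMap, hF]
    rw [Finset.sum_const, Finset.card_univ]
  have h2 : ∑ x : K × C, F (twMap a ι x) = Fintype.card C • ∑ g : K, F g := by
    rw [← Finset.sum_fiberwise (s := Finset.univ) (g := twMap a ι) (f := fun x => F (twMap a ι x))]
    rw [Finset.smul_sum]
    apply Finset.sum_congr rfl
    intro g _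
    rw [← card_fiber_eq a han hcop ι hι hfix g, ← Finset.sum_const]
    apply Finset.sum_congr rfl
    intro x hx
    rw [Finset.mem_filter] at hx
    rw [hx.2]
  rw [← h2, h1]

end counting

end Cfsg.Agent.Lib.Helper3_TwistedClass
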