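import Cfsg.Agent.Lib.Helper74_GoingUp
import Cfsg.Agent.Lib.Helper3_CharColumn
import Cfsg.Agent.Lib.Helper3_TwistedClass

/-!
# Brauer's permutation lemma for a single automorphism, and Glauberman's lemma for classes

* `card_invariant_irr_eq_card_invariant_classes`: for an automorphism `a` of a finite group `G`,
  the number of `a`-invariant irreducible characters equals the number of `a`-invariant
  conjugacy classes.
* `exists_fixed_conj`: if `a ^ n = 1` with `n` coprime to `|G|`, two fixed points of `a` that are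
  conjugate in `G` are conjugate by a fixed point.
* `card_conjClasses_le_card_invariant`: hence `|Cl(Fix a)| ≤ |Cl_a(G)|`.
-/

set_option autoImplicit false

namespace Cfsg.Agent.Lib.Helper3_BrauerPermAut

open scoped ComplexConjugate
open Cfsg.Agent.Lib.Helper3_CharBridge Cfsg.Agent.Lib.Helper3_CharOrtho
  Cfsg.Agent.Lib.Helper3_CharComplete Cfsg.Agent.Lib.Helper3_CharColumn
  Cfsg.Agent.Lib.Helper3_TwistedClass

section brauer

variable {G : Type*} [Group G] [Fintype G]

/-- `χ ∘ a` as an irreducible character. -/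
noncomputable def compAut (a : MulAut G) (χ : Cfsg.IrrCharacter G) : Cfsg.IrrCharacter G :=
  ⟨fun g => (χ : G → ℂ) (a g), Cfsg.Agent.Lib.Helper74_GoingUp.isIrr_comp_equiv a χ.2⟩

@[simp] theorem compAut_apply (a : MulAut G) (χ : Cfsg.IrrCharacter G) (g : G) :
    (compAut a χ : G → ℂ) g = (χ : G → ℂ) (a g) := rfl

open scoped Classical in
theorem classInner_compAut (a : MulAut G) (χ : Cfsg.IrrCharacter G) :
    Cfsg.classInner (compAut a χ : G → ℂ) (χ : G → ℂ) =
      if (∀ g : G, (χ : G → ℂ) (a g) = (χ : G → ℂ) g) then 1 else 0 := by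
  rw [classInner_irr (compAut a χ).2 χ.2]
  by_cases h : ∀ g : G, (χ : G → ℂ) (a g) = (χ : G → ℂ) g
  · rw [if_pos h, if_pos]
    funext g
    exact h g
  · rw [if_neg h, if_neg]
    intro h'
    exact h (fun g => congrFun h' g)

/-- A conjugacy class is `a`-invariant. -/
def ClassInv (a : MulAut G) (K : ConjClasses G) : Prop :=
  ∀ g : G, ConjClasses.mk g = K → ConjClasses.mk (a g) = K

omit [Fintype G] in
theorem classInv_mk_iff (a : MulAut G) (h : G) :
    ClassInv a (ConjClasses.mk h) ↔ IsConj (a h) h := by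
  constructor
  · intro hK
    exact ConjClasses.mk_eq_mk_iff_isConj.mp (hK h rfl)
  · intro hc g hg
    rw [ConjClasses.mk_eq_mk_iff_isConj] at hg ⊢
    obtain ⟨x, hx⟩ := isConj_iff.mp hg
    have h1 : IsConj (a g) (a h) := by
      rw [isConj_iff]
      refine ⟨a x, ?_⟩
      rw [← hx]
      simp
    exact h1.trans hc

open scoped Classical in
theorem sum_class (a : MulAut G) (h : G) :
    (∑ g ∈ Finset.univ.filter (fun g : G => ConjClasses.mk g = ConjClasses.mk h),
      if IsConj (a g) g then (Nat.card (Subgroup.centralizer ({a g} : Set G)) : ℂ) else 0) =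
      if ClassInv a (ConjClasses.mk h) then (Nat.card G : ℂ) else 0 := by
  have hfilter : Finset.univ.filter (fun g : G => ConjClasses.mk g = ConjClasses.mk h) =
      conjFinset h := by
    ext g
    rw [Finset.mem_filter, mem_conjFinset, ConjClasses.mk_eq_mk_iff_isConj]
    simp
  rw [hfilter]
  by_cases hK : ClassInv a (ConjClasses.mk h)
  · rw [if_pos hK]
    have h1 : ∀ g ∈ conjFinset h,
        (if IsConj (a g) g then (Nat.card (Subgroup.centralizer ({a g} : Set G)) : ℂ) else 0) =
          (Nat.card (Subgroup.centralizer ({h} : Set G)) : ℂ) := by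
      intro g hg
      rw [mem_conjFinset] at hg
      have hag : IsConj (a g) g := by
        have := hK g (ConjClasses.mk_eq_mk_iff_isConj.mpr hg)
        rw [ConjClasses.mk_eq_mk_iff_isConj] at this
        exact this.trans hg.symm
      rw [if_pos hag, card_centralizer_eq_of_isConj (hag.trans hg)]
    rw [Finset.sum_congr rfl h1, Finset.sum_const, nsmul_eq_mul]
    exact_mod_cast card_conjFinset_mul_card_centralizer h
  · rw [if_neg hK]
    apply Finset.sum_eq_zero
    intro g hg
    rw [mem_conjFinset] at hg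
    rw [if_neg]
    intro hag
    apply hK
    have : ConjClasses.mk h = ConjClasses.mk g := (ConjClasses.mk_eq_mk_iff_isConj.mpr hg).symm
    rw [this, classInv_mk_iff]
    exact hag

/-- **Brauer's permutation lemma** for one automorphism. -/
theorem card_invariant_irr_eq_card_invariant_classes (a : MulAut G) :
    Nat.card {χ : Cfsg.IrrCharacter G // ∀ g : G, (χ : G → ℂ) (a g) = (χ : G → ℂ) g} =
      Nat.card {K : ConjClasses G // ClassInv a K} := by
  classical
  have hG : (Nat.card G : ℂ) ≠ 0 := card_ne_zero_complex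
  -- left side
  have hL : ∑ χ : Cfsg.IrrCharacter G, Cfsg.classInner (compAut a χ : G → ℂ) (χ : G → ℂ) =
      (Nat.card {χ : Cfsg.IrrCharacter G // ∀ g : G, (χ : G → ℂ) (a g) = (χ : G → ℂ) g} : ℂ) := by
    simp_rw [classInner_compAut]
    rw [Finset.sum_boole, Nat.card_eq_fintype_card, Fintype.card_subtype]
  -- right side
  have hR : ∑ χ : Cfsg.IrrCharacter G, Cfsg.classInner (compAut a χ : G → ℂ) (χ : G → ℂ) =
      (Nat.card {K : ConjClasses G // ClassInv a K} : ℂ) := by
    unfold Cfsg.classInner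
    rw [← Finset.mul_sum, Finset.sum_comm]
    simp_rw [compAut_apply, column_orthogonality]
    rw [← Finset.sum_fiberwise (s := Finset.univ) (g := fun g : G => ConjClasses.mk g)]
    have h2 : ∀ K : ConjClasses G,
        (∑ g ∈ Finset.univ.filter (fun g : G => ConjClasses.mk g = K),
          if IsConj (a g) g then (Nat.card (Subgroup.centralizer ({a g} : Set G)) : ℂ) else 0) =
        if ClassInv a K then (Nat.card G : ℂ) else 0 := by
      intro K
      obtain ⟨h, rfl⟩ := ConjClasses.mk_surjective K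
      exact sum_class a h
    simp_rw [h2]
    rw [← Finset.sum_filter, Finset.sum_const, nsmul_eq_mul, Nat.card_eq_fintype_card,
      Nat.card_eq_fintype_card, Fintype.card_subtype]
    rw [Nat.card_eq_fintype_card] at hG
    field_simp
  exact_mod_cast hL.symm.trans hR

end brauer

section glauberman

variable {K : Type*} [Group K]

/-- Restriction of an automorphism to an invariant subgroup. -/
def resAut (a : MulAut K) (L : Subgroup K) (hL : ∀ l ∈ L, a l ∈ L) (hL' : ∀ l ∈ L, a⁻¹ l ∈ L) :
    MulAut L where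
  toFun l := ⟨a l, hL l l.2⟩
  invFun l := ⟨a⁻¹ l, hL' l l.2⟩
  left_inv l := by ext; simp
  right_inv l := by ext; simp
  map_mul' x y := by ext; simp

@[simp] theorem resAut_apply (a : MulAut K) (L : Subgroup K) (hL : ∀ l ∈ L, a l ∈ L)
    (hL' : ∀ l ∈ L, a⁻¹ l ∈ L) (l : L) : ((resAut a L hL hL') l : K) = a l := rfl

theorem resAut_pow_apply (a : MulAut K) (L : Subgroup K) (hL : ∀ l ∈ L, a l ∈ L)
    (hL' : ∀ l ∈ L, a⁻¹ l ∈ L) (k : ℕ) (l : L) :
    (((resAut a L hL hL') ^ k) l : K) = (a ^ k) l := by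
  induction k generalizing l with
  | zero => simp
  | succ k ih =>
    rw [pow_succ, pow_succ, MulAut.mul_apply, MulAut.mul_apply, ih, resAut_apply]

theorem pow_apply_mul_fixed (a : MulAut K) {z c : K} (hc : a c = c) (hz : a z = z * c) (k : ℕ) :
    (a ^ k) z = z * c ^ k := by
  induction k with
  | zero => simp
  | succ k ih =>
    rw [pow_succ', MulAut.mul_apply, ih, map_mul, map_pow, hc, hz, mul_assoc, ← pow_succ']

variable [Finite K] {C : Type*} [Group C] [Finite C]

/-- **Glauberman's lemma for fixed points in a class** (cyclic coprime case): two fixed points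
conjugate in `K` are conjugate under the fixed-point subgroup. -/
theorem exists_fixed_conj (a : MulAut K) {n : ℕ} (hn : 0 < n) (han : a ^ n = 1)
    (hcop : Nat.Coprime (Nat.card K) n) (ι : C →* K) (hι : Function.Injective ι)
    (hfix : ∀ g : K, a g = g ↔ g ∈ ι.range) (c c' : C) (x : K)
    (hx : x * ι c * x⁻¹ = ι c') : ∃ w : C, w * c * w⁻¹ = c' := by
  classical
  have hc : a (ι c) = ι c := (hfix _).mpr ⟨c, rfl⟩
  have hc' : a (ι c') = ι c' := (hfix _).mpr ⟨c', rfl⟩
  have hainv : (a⁻¹ : MulAut K) = a ^ (n - 1) := by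
    rw [inv_eq_iff_mul_eq_one, ← pow_succ', Nat.sub_add_cancel hn, han]
  set L : Subgroup K := Subgroup.centralizer ({ι c} : Set K) with hLdef
  have hLpow : ∀ k : ℕ, ∀ l ∈ L, (a ^ k) l ∈ L := by
    intro k l hl
    rw [hLdef, Subgroup.mem_centralizer_singleton_iff] at hl ⊢
    have hck : (a ^ k) (ι c) = ι c := by
      have := zpow_apply_of_fixed a hc (k : ℤ)
      rwa [zpow_natCast] at this
    calc (a ^ k) l * ι c = (a ^ k) l * (a ^ k) (ι c) := by rw [hck]
      _ = (a ^ k) (l * ι c) := (map_mul _ _ _).symm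
      _ = (a ^ k) (ι c * l) := by rw [hl]
      _ = ι c * (a ^ k) l := by rw [map_mul, hck]
  have hL1 : ∀ l ∈ L, a l ∈ L := fun l hl => by simpa using hLpow 1 l hl
  have hL2 : ∀ l ∈ L, a⁻¹ l ∈ L := fun l hl => by rw [hainv]; exact hLpow _ l hl
  set a' : MulAut L := resAut a L hL1 hL2 with ha'
  have ha'n : a' ^ n = 1 := by
    ext l
    rw [resAut_pow_apply, han]
    rfl
  have : Fintype K := Fintype.ofFinite K
  have : Fintype L := Fintype.ofFinite L
  have : Fintype C := Fintype.ofFinite C
  have hcopL : Nat.Coprime (Nat.card L) n :=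
    Nat.Coprime.coprime_dvd_left (Subgroup.card_subgroup_dvd_card L) hcop
  -- the fixed points of `a'`
  let CL : Subgroup C := L.comap ι
  let ιL : CL →* L :=
    { toFun := fun z => ⟨ι z, z.2⟩
      map_one' := by ext; simp
      map_mul' := fun x y => by ext; simp }
  have hιL : Function.Injective ιL := by
    intro z z' hzz
    have : ι z = ι z' := congrArg Subtype.val hzz
    exact Subtype.ext (hι this)
  have hfixL : ∀ l : L, a' l = l ↔ l ∈ ιL.range := by
    intro l
    constructor
    · intro hl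
      have h1 : a (l : K) = l := congrArg Subtype.val hl
      obtain ⟨z, hz⟩ := (hfix _).mp h1
      have hzL : z ∈ CL := by
        show ι z ∈ L
        rw [hz]; exact l.2
      exact ⟨⟨z, hzL⟩, Subtype.ext hz⟩
    · rintro ⟨z, rfl⟩
      apply Subtype.ext
      show a (ι z) = ι z
      exact (hfix _).mpr ⟨z, rfl⟩
  -- the cocycle value
  have hgL : x⁻¹ * a x ∈ L := by
    rw [hLdef, Subgroup.mem_centralizer_singleton_iff]
    have h1 : a x * ι c * (a x)⁻¹ = ι c' := by
      have := congrArg a hx
      rwa [map_mul, map_mul, map_inv, hc, hc'] at this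
    have h2 : ι c = x⁻¹ * ι c' * x := by rw [← hx]; group
    have h3 : a x * ι c = ι c' * a x := by rw [← h1]; group
    calc x⁻¹ * a x * ι c = x⁻¹ * (a x * ι c) := by group
      _ = x⁻¹ * (ι c' * a x) := by rw [h3]
      _ = (x⁻¹ * ι c' * x) * (x⁻¹ * a x) := by group
      _ = ι c * (x⁻¹ * a x) := by rw [← h2]
  obtain ⟨y, d, hyd⟩ := exists_twisted_conj a' ha'n hcopL ιL hιL hfixL ⟨x⁻¹ * a x, hgL⟩
  have hyd' : (y : K) * ι d * (a y)⁻¹ = x⁻¹ * a x := congrArg Subtype.val hyd
  -- `z = x * y`
  have hd : a (ι d) = ι d := (hfix _).mpr ⟨d, rfl⟩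
  have hz : a (x * y) = (x * y) * ι d := by
    rw [map_mul]
    have : a x = x * ((y : K) * ι d * (a y)⁻¹) := by rw [hyd']; group
    rw [this]; group
  have hdn : (ι d : K) ^ n = 1 := by
    have := pow_apply_mul_fixed a hd hz n
    rw [han] at this
    have h5 : (x * y : K) = x * y * (ι d : K) ^ n := this
    exact (mul_eq_left.mp h5.symm)
  have hd1 : (ι d : K) = 1 := by
    have h6 : (ι d : K) ^ Nat.card K = 1 := pow_card_eq_one'
    have := pow_gcd_eq_one.mpr ⟨h6, hdn⟩
    rwa [hcop, pow_one] at this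
  have hzfix : a (x * y) = x * y := by rw [hz, hd1, mul_one]
  obtain ⟨w, hw⟩ := (hfix _).mp hzfix
  refine ⟨w, hι ?_⟩
  rw [map_mul, map_mul, map_inv, hw]
  have hyc : (y : K) * ι c = ι c * y := by
    have h7 : (y : K) ∈ Subgroup.centralizer ({ι c} : Set K) := y.2
    rw [Subgroup.mem_centralizer_singleton_iff] at h7
    exact h7
  calc x * ↑y * ι c * (x * ↑y)⁻¹ = x * (↑y * ι c) * (↑y)⁻¹ * x⁻¹ := by group
    _ = x * (ι c * ↑y) * (↑y)⁻¹ * x⁻¹ := by rw [hyc]
    _ = x * ι c * x⁻¹ := by group
    _ = ι c' := hx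

/-- The number of classes of the fixed-point subgroup is at most the number of invariant classes. -/
theorem card_conjClasses_le_card_invariant [Fintype K] (a : MulAut K) {n : ℕ} (hn : 0 < n)
    (han : a ^ n = 1) (hcop : Nat.Coprime (Nat.card K) n) (ι : C →* K)
    (hι : Function.Injective ι) (hfix : ∀ g : K, a g = g ↔ g ∈ ι.range) :
    Nat.card (ConjClasses C) ≤ Nat.card {L : ConjClasses K // ClassInv a L} := by
  classical
  have : Fintype C := Fintype.ofFinite C
  have hinv : ∀ X : ConjClasses C, ClassInv a (ConjClasses.map ι X) := by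
    intro X
    obtain ⟨c, rfl⟩ := ConjClasses.mk_surjective X
    show ClassInv a (ConjClasses.mk (ι c))
    rw [classInv_mk_iff, (hfix _).mpr ⟨c, rfl⟩]
  apply Nat.card_le_card_of_injective (fun X => (⟨ConjClasses.map ι X, hinv X⟩ :
    {L : ConjClasses K // ClassInv a L}))
  intro X Y hXY
  obtain ⟨c, rfl⟩ := ConjClasses.mk_surjective X
  obtain ⟨c', rfl⟩ := ConjClasses.mk_surjective Y
  have h1 : ConjClasses.mk (ι c) = ConjClasses.mk (ι c') :=
    congrArg Subtype.val hXY
  rw [ConjClasses.mk_eq_mk_iff_isConj, isConj_iff] at h1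
  obtain ⟨x, hx⟩ := h1
  obtain ⟨w, hw⟩ := exists_fixed_conj a hn han hcop ι hι hfix c c' x hx
  rw [ConjClasses.mk_eq_mk_iff_isConj, isConj_iff]
  exact ⟨w, hw⟩

end glauberman

end Cfsg.Agent.Lib.Helper3_BrauerPermAut
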