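import Mathlib
import Cfsg.Prelude.Def_Characters
import Cfsg.Agent.Lib.Helper80_CharBasic
import Cfsg.Agent.Lib.Helper62_D72Defs

/-!
# S3716 package BASIC (helper8 for helper62): 3-elements of `N_G(M)` lie in `M`, control of fusion.
(Model: Helper91_H9_BASIC, with `|N : M| = 8`.)
-/

set_option autoImplicit false
set_option linter.unusedSectionVars false
open scoped ComplexConjugate

namespace Cfsg.Agent.Lib.Helper8_D72_BASIC

open Cfsg Cfsg.Agent.Lib.Helper80_CharBasic Cfsg.Agent.Lib.Helper62_D72Defs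

section grp
variable {G : Type*} [Group G] [Finite G]
variable {M : Subgroup G} {x y s w : G}

omit [Finite G] in
/-- the index of `M` in its normalizer is `8` -/
theorem index_eq_eight (h : Hyp G M x y s w) :
    (M.subgroupOf (Subgroup.normalizer (M : Set G))).index = 8 := by
  have hle : M ≤ Subgroup.normalizer (M : Set G) := Subgroup.le_normalizer
  have h1 := Subgroup.card_mul_index (M.subgroupOf (Subgroup.normalizer (M : Set G)))
  have h2 : Nat.card (M.subgroupOf (Subgroup.normalizer (M : Set G))) = Nat.card M :=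
    Nat.card_congr (Subgroup.subgroupOfEquivOfLe hle).toEquiv
  rw [h2, h.card, h.cardN] at h1
  omega

/-- the eighth power of an element of the normalizer lies in `M` -/
theorem pow_eight_mem (h : Hyp G M x y s w) {u : G} (hu : u ∈ Subgroup.normalizer (M : Set G)) :
    u ^ 8 ∈ M := by
  have h1 := Subgroup.pow_index_mem (M.subgroupOf (Subgroup.normalizer (M : Set G))) ⟨u, hu⟩
  rw [index_eq_eight h, Subgroup.mem_subgroupOf] at h1
  simpa using h1

/-- 3-elements (of order dividing `9`) of the normalizer lie in `M` -/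
theorem nine_mem (h : Hyp G M x y s w) {u : G} (hu : u ∈ Subgroup.normalizer (M : Set G))
    (hu9 : u ^ 9 = 1) : u ∈ M := by
  have h8 := pow_eight_mem h hu
  have h64 : (u ^ 8) ^ 8 ∈ M := M.pow_mem h8 8
  have : (u ^ 8) ^ 8 = u := by
    rw [← pow_mul]
    have : u ^ (8 * 8) = (u ^ 9) ^ 7 * u := by rw [← pow_mul, ← pow_succ]
    rw [this, hu9, one_pow, one_mul]
  rwa [this] at h64

theorem three_mem (h : Hyp G M x y s w) {u : G} (hu : u ∈ Subgroup.normalizer (M : Set G))
    (hu3 : u ^ 3 = 1) : u ∈ M := by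
  refine nine_mem h hu ?_
  have : u ^ 9 = (u ^ 3) ^ 3 := by rw [← pow_mul]
  rw [this, hu3, one_pow]

theorem cent_three (h : Hyp G M x y s w) {t u : G} (ht : t ∈ M) (ht1 : t ≠ 1)
    (hut : u * t = t * u) (hu3 : u ^ 3 = 1) : u ∈ M := by
  refine three_mem h (h.loc t ht ht1 ?_) hu3
  rw [Subgroup.mem_centralizer_iff]
  intro z hz
  rw [Set.mem_singleton_iff] at hz
  rw [hz, hut]

theorem fusion (h : Hyp G M x y s w) {t g : G} (ht : t ∈ M) (ht1 : t ≠ 1)
    (hg : g * t * g⁻¹ ∈ M) : g ∈ Subgroup.normalizer (M : Set G) := by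
  have hfin : Finite (M : Set G) := inferInstance
  refine Subgroup.mem_normalizer_fintype (fun n hn => ?_)
  have hn' : n ∈ M := hn
  have hcomm : IsMulCommutative M := by
    have : Fact (Nat.Prime 3) := ⟨by norm_num⟩
    exact IsPGroup.isMulCommutative_of_card_eq_prime_sq (p := 3) (by rw [h.card]; norm_num)
  have hnt : n * t = t * n := by
    have := hcomm.is_comm.comm (⟨n, hn'⟩ : M) ⟨t, ht⟩
    exact congrArg Subtype.val this
  have hs1 : g * t * g⁻¹ ≠ 1 := by
    intro h1
    apply ht1
    have : t = g⁻¹ * (g * t * g⁻¹) * g := by group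
    rw [this, h1]; group
  have hn9 : n ^ 9 = 1 := by
    have := pow_card_eq_one' (G := M) (x := ⟨n, hn'⟩)
    rw [h.card] at this
    exact congrArg Subtype.val this
  have hc : g * n * g⁻¹ ∈ Subgroup.centralizer ({g * t * g⁻¹} : Set G) := by
    rw [Subgroup.mem_centralizer_iff]
    intro z hz
    rw [Set.mem_singleton_iff] at hz
    rw [hz]
    have e1 : g * t * g⁻¹ * (g * n * g⁻¹) = g * (t * n) * g⁻¹ := by group
    have e2 : g * n * g⁻¹ * (g * t * g⁻¹) = g * (n * t) * g⁻¹ := by group
    rw [e1, e2, hnt]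
  have hN := h.loc _ hg hs1 hc
  have h9 : (g * n * g⁻¹) ^ 9 = 1 := by
    rw [conj_pow, hn9]; group
  exact nine_mem h hN h9

end grp

end Cfsg.Agent.Lib.Helper8_D72_BASIC
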