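import Mathlib
import Cfsg.Prelude.Def_Characters
import Cfsg.Agent.Lib.Helper80_CharBasic
import Cfsg.Agent.Lib.Helper62_D72Defs

/-!
# S3716 package INV (helper8 for helper62): `c := (w s)²` inverts `M`, is an involution of `N_G(M)`
and commutes with `s` and `w`.
-/

set_option autoImplicit false
set_option linter.unusedSectionVars false
open scoped ComplexConjugate

namespace Cfsg.Agent.Lib.Helper8_D72_INV

open Cfsg Cfsg.Agent.Lib.Helper80_CharBasic Cfsg.Agent.Lib.Helper62_D72Defs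

section grp
variable {G : Type*} [Group G] [Finite G]
variable {M : Subgroup G} {x y s w : G}

omit [Finite G] in
/-- conjugation of an inverse -/
theorem conj_inv' (g t : G) : g * t⁻¹ * g⁻¹ = (g * t * g⁻¹)⁻¹ := by group

omit [Finite G] in
/-- conjugation of a product -/
theorem conj_mul' (g t u : G) : g * (t * u) * g⁻¹ = (g * t * g⁻¹) * (g * u * g⁻¹) := by group

theorem inv_elt (h : Hyp G M x y s w) :
    ∃ c : G, c ∈ Subgroup.normalizer (M : Set G) ∧ c * c = 1 ∧ c * x * c⁻¹ = x⁻¹ ∧ c * y * c⁻¹ = y⁻¹ ∧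
      c * s = s * c ∧ c * w = w * c := by
  have hs2 : s * s = 1 := by
    have := pow_orderOf_eq_one s
    rwa [h.os, pow_two] at this
  have hw2 : w * w = 1 := by
    have := pow_orderOf_eq_one w
    rwa [h.ow, pow_two] at this
  have hsi : s⁻¹ = s := inv_eq_of_mul_eq_one_left hs2
  have hwi : w⁻¹ = w := inv_eq_of_mul_eq_one_left hw2
  have hx3 : x ^ 3 = 1 := by
    have := pow_orderOf_eq_one x
    rwa [h.ox] at this
  have hy3 : y ^ 3 = 1 := by
    have := pow_orderOf_eq_one y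
    rwa [h.oy] at this
  -- the element
  obtain ⟨c, hcdef⟩ : ∃ c : G, c = w * s * w * s := ⟨_, rfl⟩
  have hcN : c ∈ Subgroup.normalizer (M : Set G) := by
    rw [hcdef]
    exact mul_mem (mul_mem (mul_mem h.hw h.hs) h.hw) h.hs
  have hcx : c * x * c⁻¹ = x⁻¹ := by
    have e : c * x * c⁻¹ = w * (s * (w * (s * x * s⁻¹) * w⁻¹) * s⁻¹) * w⁻¹ := by
      rw [hcdef]; group
    rw [e, h.sx, h.wx, h.sy, conj_inv', h.wy]
  have hcy : c * y * c⁻¹ = y⁻¹ := by
    have e : c * y * c⁻¹ = w * (s * (w * (s * y * s⁻¹) * w⁻¹) * s⁻¹) * w⁻¹ := by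
      rw [hcdef]; group
    rw [e, h.sy, conj_inv', h.wy, conj_inv', h.sx, conj_inv', h.wx]
  have hcxi : c * x⁻¹ * c⁻¹ = x := by rw [conj_inv', hcx, inv_inv]
  have hcyi : c * y⁻¹ * c⁻¹ = y := by rw [conj_inv', hcy, inv_inv]
  have hxy' : x⁻¹ * y⁻¹ = y⁻¹ * x⁻¹ := by rw [← mul_inv_rev, ← mul_inv_rev, h.comm]
  have hxy1 : x * y⁻¹ = y⁻¹ * x := by
    have : y⁻¹ * (y * x) * y⁻¹ = y⁻¹ * (x * y) * y⁻¹ := by rw [h.comm]
    have e1 : y⁻¹ * (y * x) * y⁻¹ = x * y⁻¹ := by group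
    have e2 : y⁻¹ * (x * y) * y⁻¹ = y⁻¹ * x := by group
    rw [← e1, ← e2, this]
  have hxy2 : x⁻¹ * y = y * x⁻¹ := by
    have : x⁻¹ * (x * y) * x⁻¹ = x⁻¹ * (y * x) * x⁻¹ := by rw [h.comm]
    have e1 : x⁻¹ * (x * y) * x⁻¹ = y * x⁻¹ := by group
    have e2 : x⁻¹ * (y * x) * x⁻¹ = x⁻¹ * y := by group
    rw [← e1, ← e2, this]
  -- `c` inverts `M`
  have hinv : ∀ t ∈ M, c * t * c⁻¹ = t⁻¹ := by
    intro t ht
    rcases (h.mem t).mp ht with rfl | rfl | rfl | rfl | rfl | rfl | rfl | rfl | rfl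
    · group
    · exact hcx
    · rw [hcxi, inv_inv]
    · exact hcy
    · rw [hcyi, inv_inv]
    · rw [conj_mul', hcx, hcy, mul_inv_rev, hxy']
    · rw [conj_mul', hcx, hcyi, mul_inv_rev, inv_inv, hxy2]
    · rw [conj_mul', hcxi, hcy, mul_inv_rev, inv_inv, hxy1]
    · rw [conj_mul', hcxi, hcyi, mul_inv_rev, inv_inv, inv_inv, h.comm]
  -- `c²` centralizes `x` and `y`
  have hccx : c * c * x = x * (c * c) := by
    have e : c * c * x = c * (c * x * c⁻¹) * c⁻¹ * (c * c) := by group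
    rw [e, hcx, hcxi]
  have hccy : c * c * y = y * (c * c) := by
    have e : c * c * y = c * (c * y * c⁻¹) * c⁻¹ * (c * c) := by group
    rw [e, hcy, hcyi]
  have hccM : c * c ∈ M := h.cent _ hccx hccy
  have hcc2 : (c * c) * (c * c) = 1 := by
    have e := hinv _ hccM
    have e' : c * (c * c) * c⁻¹ = c * c := by group
    rw [e'] at e
    exact mul_eq_one_iff_eq_inv.mpr e
  have hcc9 : (c * c) ^ 9 = 1 := by
    have := pow_card_eq_one' (G := M) (x := ⟨c * c, hccM⟩)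
    rw [h.card] at this
    exact congrArg Subtype.val this
  have hcc : c * c = 1 := by
    have e : ∀ t : G, t ^ 9 = (t * t) ^ 4 * t := fun t => by
      rw [← pow_two, ← pow_mul, ← pow_succ]
    rw [e, hcc2, one_pow, one_mul] at hcc9
    exact hcc9
  have hci : c⁻¹ = c := inv_eq_of_mul_eq_one_left hcc
  have hci' : c⁻¹ = s * w * s * w := by
    rw [hcdef]
    simp only [mul_inv_rev, hsi, hwi, mul_assoc]
  refine ⟨c, hcN, hcc, hcx, hcy, ?_, ?_⟩
  · -- `s c s⁻¹ = c⁻¹ = c`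
    have e : s * c * s⁻¹ = c⁻¹ := by
      rw [hci', hcdef, hsi]
      simp only [mul_assoc, hs2, mul_one]
    rw [hci] at e
    have := congrArg (· * s) e
    simp only [inv_mul_cancel_right] at this
    exact this.symm
  · have e : w * c * w⁻¹ = c⁻¹ := by
      rw [hci', hcdef, hwi]
      have : w * (w * s * w * s) * w = (w * w) * s * w * s * w := by group
      rw [this, hw2, one_mul]
    rw [hci] at e
    have := congrArg (· * w) e
    simp only [inv_mul_cancel_right] at this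
    exact this.symm

end grp

end Cfsg.Agent.Lib.Helper8_D72_INV
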