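import Mathlib
import Cfsg.Prelude.Def_Characters
import Cfsg.Agent.Lib.Helper80_CharBasic
import Cfsg.Agent.Lib.Helper62_D72Defs
import Cfsg.Agent.Lib.Helper8_D72_BASIC
import Cfsg.Agent.Lib.Helper8_D72_INV

set_option autoImplicit false
set_option linter.unusedSectionVars false
open scoped ComplexConjugate

/-!
S3716 package CONJ (helper9, for helper62): the two classes of elements of order 3 of `M`.
(Model: `Helper25_H9_FUS`.)
-/

namespace Cfsg.Agent.Lib.Helper9_D72_CONJ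

open Cfsg Cfsg.Agent.Lib.Helper80_CharBasic Cfsg.Agent.Lib.Helper62_D72Defs

section grp
variable {G : Type*} [Group G] [Finite G]
variable {M : Subgroup G} {x y s w : G}

theorem x_cube (h : Hyp G M x y s w) : x ^ 3 = 1 := by
  rw [← h.ox]; exact pow_orderOf_eq_one x

theorem y_cube (h : Hyp G M x y s w) : y ^ 3 = 1 := by
  rw [← h.oy]; exact pow_orderOf_eq_one y

theorem x_ne_one (h : Hyp G M x y s w) : x ≠ 1 := by
  intro h1
  have := h.ox
  rw [h1, orderOf_one] at this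
  omega

theorem y_ne_one (h : Hyp G M x y s w) : y ≠ 1 := by
  intro h1
  have := h.oy
  rw [h1, orderOf_one] at this
  omega

theorem x_mem (h : Hyp G M x y s w) : x ∈ M := (h.mem x).mpr (Or.inr (Or.inl rfl))

theorem y_mem (h : Hyp G M x y s w) : y ∈ M :=
  (h.mem y).mpr (Or.inr (Or.inr (Or.inr (Or.inl rfl))))

theorem xy_mem (h : Hyp G M x y s w) : x * y ∈ M := M.mul_mem (x_mem h) (y_mem h)

theorem xy_ne_one (h : Hyp G M x y s w) : x * y ≠ 1 := by
  intro h1
  exact h.hne' (eq_inv_of_mul_eq_one_right h1)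

theorem x_inv_eq (h : Hyp G M x y s w) : x⁻¹ = x * x := by
  have := x_cube h
  rw [pow_succ, pow_two] at this
  exact inv_eq_of_mul_eq_one_left this

theorem y_inv_eq (h : Hyp G M x y s w) : y⁻¹ = y * y := by
  have := y_cube h
  rw [pow_succ, pow_two] at this
  exact inv_eq_of_mul_eq_one_left this

omit [Finite G] in
theorem conj_mul (g a b : G) : g * (a * b) * g⁻¹ = (g * a * g⁻¹) * (g * b * g⁻¹) := by group

omit [Finite G] in
theorem conj_inv (g t : G) : g * t⁻¹ * g⁻¹ = (g * t * g⁻¹)⁻¹ := by group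

omit [Finite G] in
theorem conj_conj (g k t : G) : g * k * t * (g * k)⁻¹ = g * (k * t * k⁻¹) * g⁻¹ := by group

/-- `x⁻¹` and `y` commute, etc. -/
theorem comm_xi_y (h : Hyp G M x y s w) : x⁻¹ * y = y * x⁻¹ :=
  ((Commute.inv_left (show Commute x y from h.comm))).eq

theorem comm_x_yi (h : Hyp G M x y s w) : x * y⁻¹ = y⁻¹ * x :=
  ((Commute.inv_right (show Commute x y from h.comm))).eq

theorem comm_xi_yi (h : Hyp G M x y s w) : x⁻¹ * y⁻¹ = y⁻¹ * x⁻¹ :=
  ((Commute.inv_inv (show Commute x y from h.comm))).eq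

/-! ### CONJ -/
theorem conj_x (h : Hyp G M x y s w) {t : G} (ht : t ∈ M) :
    IsConj x t ↔ (t = x ∨ t = x⁻¹ ∨ t = y ∨ t = y⁻¹) := by
  constructor
  · intro hc
    obtain ⟨g, hg⟩ := isConj_iff.mp hc
    have hgN := Cfsg.Agent.Lib.Helper8_D72_BASIC.fusion h (x_mem h) (x_ne_one h)
      (by rw [hg]; exact ht)
    rcases h.act g hgN with ⟨h1 | h1, _⟩ | ⟨h1 | h1, _⟩
    · left; rw [← hg, h1]
    · right; left; rw [← hg, h1]
    · right; right; left; rw [← hg, h1]
    · right; right; right; rw [← hg, h1]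
  · obtain ⟨c, _, _, hcx, hcy, _, _⟩ := Cfsg.Agent.Lib.Helper8_D72_INV.inv_elt h
    rintro (rfl | rfl | rfl | rfl)
    · exact IsConj.refl _
    · exact isConj_iff.mpr ⟨c, hcx⟩
    · exact isConj_iff.mpr ⟨w, h.wx⟩
    · refine isConj_iff.mpr ⟨c * w, ?_⟩
      rw [conj_conj, h.wx, hcy]

theorem conj_xy (h : Hyp G M x y s w) {t : G} (ht : t ∈ M) :
    IsConj (x * y) t ↔ (t = x * y ∨ t = x * y⁻¹ ∨ t = x⁻¹ * y ∨ t = x⁻¹ * y⁻¹) := by
  constructor
  · intro hc
    obtain ⟨g, hg⟩ := isConj_iff.mp hc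
    have hgN := Cfsg.Agent.Lib.Helper8_D72_BASIC.fusion h (xy_mem h) (xy_ne_one h)
      (by rw [hg]; exact ht)
    rw [conj_mul] at hg
    rcases h.act g hgN with ⟨h1 | h1, h2 | h2⟩ | ⟨h1 | h1, h2 | h2⟩ <;> rw [h1, h2] at hg
    · exact Or.inl hg.symm
    · exact Or.inr (Or.inl hg.symm)
    · exact Or.inr (Or.inr (Or.inl hg.symm))
    · exact Or.inr (Or.inr (Or.inr hg.symm))
    · left; rw [← hg, h.comm]
    · right; right; left; rw [← hg, comm_xi_y h]
    · right; left; rw [← hg, comm_x_yi h]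
    · right; right; right; rw [← hg, comm_xi_yi h]
  · obtain ⟨c, _, _, hcx, hcy, _, _⟩ := Cfsg.Agent.Lib.Helper8_D72_INV.inv_elt h
    rintro (rfl | rfl | rfl | rfl)
    · exact IsConj.refl _
    · refine isConj_iff.mpr ⟨s, ?_⟩
      rw [conj_mul, h.sx, h.sy]
    · refine isConj_iff.mpr ⟨c * s, ?_⟩
      rw [conj_conj, conj_mul s, h.sx, h.sy, conj_mul c, hcx, conj_inv, hcy, inv_inv]
    · refine isConj_iff.mpr ⟨c, ?_⟩
      rw [conj_mul, hcx, hcy]

theorem not_conj (h : Hyp G M x y s w) : ¬ IsConj x (x * y) := by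
  intro hc
  rcases (conj_x h (xy_mem h)).mp hc with h1 | h1 | h1 | h1
  · exact y_ne_one h (mul_eq_left.mp h1)
  · rw [x_inv_eq h] at h1
    exact h.hne (mul_left_cancel h1)
  · exact x_ne_one h (mul_eq_right.mp h1)
  · rw [y_inv_eq h] at h1
    exact h.hne (mul_right_cancel h1).symm

end grp

end Cfsg.Agent.Lib.Helper9_D72_CONJ
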