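import Mathlib
import Cfsg.Prelude.Def_Characters
import Cfsg.Agent.Lib.Helper80_CharBasic
import Cfsg.Agent.Lib.Helper62_D72Defs
import Cfsg.Agent.Lib.Helper9_D72_CONJ

/-!
# S3716 package LOCAL, aux form (helper3 for helper62): `local_data_aux` = `local_data` with the statement of the
package LOCGEN (for the group `G`) as an explicit hypothesis instead of `commutator G = ⊤`.
-/

set_option autoImplicit false
set_option linter.unusedSectionVars false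
open scoped ComplexConjugate

namespace Cfsg.Agent.Lib.Helper3_D72_LOCALaux

open Cfsg Cfsg.Agent.Lib.Helper80_CharBasic Cfsg.Agent.Lib.Helper62_D72Defs

section grp
variable {G : Type*} [Group G] [Finite G]
variable {M : Subgroup G} {x y s w : G}

/-- the conclusion of the package LOCGEN for one character and one triple -/
def LocGenConcl (f : ℕ) (α β δ ε : ℤ) : Prop :=
  ∃ n0p n0m n1p n1m : ℕ,
    (f : ℤ) + 2 * α + 2 * β + 4 * δ = 9 * ((n0p : ℤ) + n0m) ∧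
    (f : ℤ) - α + 2 * β - 2 * δ = 9 * ((n1p : ℤ) + n1m) ∧
    ε = ((n0p : ℤ) - n0m) - ((n1p : ℤ) - n1m) ∧
    (4 : ℤ) ∣ (f : ℤ) - (((n0p : ℤ) - n0m) + 2 * ((n1p : ℤ) - n1m))

/-- pure arithmetic: the two LOCGEN outputs give `Loc` and the four value formulas -/
theorem loc_of_concl {f : ℕ} {a d b b' : ℤ} (h1 : LocGenConcl f a a d b)
    (h2 : LocGenConcl f d d a b') :
    ∃ P Q P' Q' : ℤ, Loc f P Q P' Q' ∧ a = aOf P Q P' Q' ∧ d = dOf P Q P' Q' ∧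
      b = P - Q ∧ b' = P' - Q' := by
  obtain ⟨n0p, n0m, n1p, n1m, E1, E2, E3, E4⟩ := h1
  obtain ⟨k0p, k0m, k1p, k1m, F1, F2, F3, F4⟩ := h2
  refine ⟨(n0p : ℤ) - n1p, (n0m : ℤ) - n1m, (k0p : ℤ) - k1p, (k0m : ℤ) - k1m,
    ⟨n0p, n0m, n1p, n1m, k0p, k0m, k1p, k1m, rfl, rfl, rfl, rfl, ?_, ?_, E4, F4⟩, ?_, ?_, ?_, ?_⟩
  · omega
  · omega
  · unfold aOf; omega
  · unfold dOf; omega
  · omega
  · omega

theorem local_data_aux
    (hLG : ∀ (χ : IrrCharacter G) {u v t : G}, orderOf u = 3 → orderOf v = 3 → orderOf t = 2 →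
      u * v = v * u → t * u = u * t → t * v * t⁻¹ = v⁻¹ →
      ∀ {f : ℕ} {α β δ ε : ℤ}, (χ : G → ℂ) 1 = (f : ℂ) → (χ : G → ℂ) u = (α : ℂ) →
      (χ : G → ℂ) v = (β : ℂ) → (χ : G → ℂ) (u * v) = (δ : ℂ) → (χ : G → ℂ) (u * t) = (ε : ℂ) →
      ∃ n0p n0m n1p n1m : ℕ,
        (f : ℤ) + 2 * α + 2 * β + 4 * δ = 9 * ((n0p : ℤ) + n0m) ∧
        (f : ℤ) - α + 2 * β - 2 * δ = 9 * ((n1p : ℤ) + n1m) ∧
        ε = ((n0p : ℤ) - n0m) - ((n1p : ℤ) - n1m) ∧
        (4 : ℤ) ∣ (f : ℤ) - (((n0p : ℤ) - n0m) + 2 * ((n1p : ℤ) - n1m)))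
    (h : Hyp G M x y s w) {f : IrrCharacter G → ℕ}
    {a d b b' : IrrCharacter G → ℤ} (hv : Vals G x y s w f a d b b') (χ : IrrCharacter G) :
    ∃ P Q P' Q' : ℤ, Loc (f χ) P Q P' Q' ∧ a χ = aOf P Q P' Q' ∧ d χ = dOf P Q P' Q' ∧
      b χ = P - Q ∧ b' χ = P' - Q' := by
  have hx3 : x ^ 3 = 1 := by rw [← h.ox]; exact pow_orderOf_eq_one x
  have hy3 : y ^ 3 = 1 := by rw [← h.oy]; exact pow_orderOf_eq_one y
  have hxy : Commute x y := h.comm
  have hxyi : Commute x y⁻¹ := hxy.inv_right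
  -- memberships
  have hyM : y ∈ M := (h.mem y).mpr (Or.inr (Or.inr (Or.inr (Or.inl rfl))))
  have hxiM : x⁻¹ ∈ M := (h.mem x⁻¹).mpr (Or.inr (Or.inr (Or.inl rfl)))
  have hxyiM : x * y⁻¹ ∈ M :=
    (h.mem (x * y⁻¹)).mpr (Or.inr (Or.inr (Or.inr (Or.inr (Or.inr (Or.inr (Or.inl rfl)))))))
  -- conjugacies
  have c1 : IsConj x y :=
    (Cfsg.Agent.Lib.Helper9_D72_CONJ.conj_x h hyM).mpr (Or.inr (Or.inr (Or.inl rfl)))
  have c2 : IsConj x x⁻¹ :=
    (Cfsg.Agent.Lib.Helper9_D72_CONJ.conj_x h hxiM).mpr (Or.inr (Or.inl rfl))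
  have c3 : IsConj (x * y) (x * y⁻¹) :=
    (Cfsg.Agent.Lib.Helper9_D72_CONJ.conj_xy h hxyiM).mpr (Or.inr (Or.inl rfl))
  -- first application: `(u, v, t) = (x, y, s)`
  have hsx : s * x = x * s := by
    calc s * x = (s * x * s⁻¹) * s := by group
      _ = x * s := by rw [h.sx]
  have vy : (χ : G → ℂ) y = (a χ : ℂ) := by rw [← irr_isConj χ c1]; exact hv.vx χ
  have L1 : LocGenConcl (f χ) (a χ) (a χ) (d χ) (b χ) :=
    hLG χ h.ox h.oy h.os h.comm hsx h.sy (hv.f1 χ) (hv.vx χ) vy (hv.vxy χ) (hv.vxs χ)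
  -- second application: `(u, v, t) = (x y, x y⁻¹, w)`
  have o1 : orderOf (x * y) = 3 := by
    refine orderOf_eq_prime ?_ ?_
    · rw [hxy.mul_pow, hx3, hy3, one_mul]
    · intro h1
      exact h.hne' (eq_inv_of_mul_eq_one_right h1)
  have o2 : orderOf (x * y⁻¹) = 3 := by
    refine orderOf_eq_prime ?_ ?_
    · rw [hxyi.mul_pow, hx3, inv_pow, hy3, inv_one, one_mul]
    · intro h1
      have : x = y := by
        have := eq_inv_of_mul_eq_one_left h1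
        simpa using this
      exact h.hne this.symm
  have e1 : (x * y) * (x * y⁻¹) = x * x := by
    calc (x * y) * (x * y⁻¹) = x * (y * x) * y⁻¹ := by group
      _ = x * (x * y) * y⁻¹ := by rw [hxy.eq]
      _ = x * x := by group
  have e2 : (x * y⁻¹) * (x * y) = x * x := by
    calc (x * y⁻¹) * (x * y) = x * (y⁻¹ * x) * y := by group
      _ = x * (x * y⁻¹) * y := by rw [hxyi.eq]
      _ = x * x := by group
  have huv : (x * y) * (x * y⁻¹) = (x * y⁻¹) * (x * y) := by rw [e1, e2]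
  have htu : w * (x * y) = (x * y) * w := by
    calc w * (x * y) = (w * x * w⁻¹) * (w * y * w⁻¹) * w := by group
      _ = y * x * w := by rw [h.wx, h.wy]
      _ = x * y * w := by rw [h.comm]
  have htv : w * (x * y⁻¹) * w⁻¹ = (x * y⁻¹)⁻¹ := by
    calc w * (x * y⁻¹) * w⁻¹ = (w * x * w⁻¹) * (w * y * w⁻¹)⁻¹ := by group
      _ = y * x⁻¹ := by rw [h.wx, h.wy]
      _ = (x * y⁻¹)⁻¹ := by rw [mul_inv_rev, inv_inv]
  have vxyi : (χ : G → ℂ) (x * y⁻¹) = (d χ : ℂ) := by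
    rw [← irr_isConj χ c3]; exact hv.vxy χ
  have hxx : x * x = x⁻¹ := by
    have : x * x * x = 1 := by rw [← pow_three'] ; exact hx3
    exact eq_inv_of_mul_eq_one_left this
  have vδ : (χ : G → ℂ) ((x * y) * (x * y⁻¹)) = (a χ : ℂ) := by
    rw [e1, hxx, ← irr_isConj χ c2]; exact hv.vx χ
  have L2 : LocGenConcl (f χ) (d χ) (d χ) (a χ) (b' χ) :=
    hLG χ o1 o2 h.ow huv htu htv (hv.f1 χ) (hv.vxy χ) vxyi vδ (hv.vxyw χ)
  exact loc_of_concl L1 L2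

end grp

end Cfsg.Agent.Lib.Helper3_D72_LOCALaux
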