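/-
Helper96_D72_LOCGEN: package LOCGEN of the d72 market (architect helper62, S3716): multiplicities of the four linear
characters of `⟨u⟩ × ⟨v, t⟩ ≅ C₃ × S₃` in an irreducible character of a perfect group with integer values.
Method (helper62's hint): pull `χ` back along `ψ : Multiplicative (ZMod 3) × DihedralGroup 3 →* G` and take the inner
products with the four linear characters `ω^k ⊗ (±)`.  helper96.
-/
import Mathlib
import Cfsg.Prelude.Def_Characters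
import Cfsg.Agent.Lib.Helper80_CharBasic
import Cfsg.Agent.Lib.Helper62_D72Defs
import Cfsg.Agent.Lib.Helper54_TwoGroups
import Cfsg.Agent.Lib.Helper75_CharArith
import Cfsg.Agent.Lib.Helper79_Linear
import Cfsg.Agent.Lib.Helper10_F5040_INVVAL

set_option autoImplicit false
open scoped ComplexConjugate

namespace Cfsg.Agent.Lib.Helper96_D72_LOCGEN

open Cfsg Cfsg.Agent.Lib.Helper80_CharBasic Cfsg.Agent.Lib.Helper62_D72Defs
  Cfsg.Agent.Lib.Helper54_TwoGroups DihedralGroup Multiplicative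

/-! ### sums over `C₃ × S₃` -/

theorem sumZ3 {M : Type*} [AddCommMonoid M] (F : ZMod 3 → M) : ∑ i, F i = F 0 + F 1 + F 2 :=
  Fin.sum_univ_three (fun i : Fin 3 => F i)

theorem sumD3 {M : Type*} [AddCommMonoid M] (F : DihedralGroup 3 → M) :
    ∑ d, F d = (F (r 0) + F (r 1) + F (r 2)) + (F (sr 0) + F (sr 1) + F (sr 2)) := by
  rw [← Equiv.sum_comp DihedralGroup.equivSum.symm, Fintype.sum_sum_type, sumZ3, sumZ3]
  rfl

theorem sumK {M : Type*} [AddCommMonoid M] (F : Multiplicative (ZMod 3) × DihedralGroup 3 → M) :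
    ∑ k, F k =
      ((F (ofAdd 0, r 0) + F (ofAdd 0, r 1) + F (ofAdd 0, r 2)) +
        (F (ofAdd 0, sr 0) + F (ofAdd 0, sr 1) + F (ofAdd 0, sr 2))) +
      ((F (ofAdd 1, r 0) + F (ofAdd 1, r 1) + F (ofAdd 1, r 2)) +
        (F (ofAdd 1, sr 0) + F (ofAdd 1, sr 1) + F (ofAdd 1, sr 2))) +
      ((F (ofAdd 2, r 0) + F (ofAdd 2, r 1) + F (ofAdd 2, r 2)) +
        (F (ofAdd 2, sr 0) + F (ofAdd 2, sr 1) + F (ofAdd 2, sr 2))) := by
  rw [Fintype.sum_prod_type, ← Equiv.sum_comp Multiplicative.ofAdd, sumZ3, sumD3, sumD3, sumD3]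

theorem cardK : Nat.card (Multiplicative (ZMod 3) × DihedralGroup 3) = 18 := by
  rw [Nat.card_prod, DihedralGroup.nat_card, Nat.card_eq_fintype_card, Fintype.card_multiplicative,
    ZMod.card]

/-! ### homomorphisms from `C₃ × S₃` -/

section hom
variable {H : Type*} [Group H]

theorem zp0 {a : H} (ha : a ^ 3 = 1) : zmodPow a 3 0 = 1 := zmodPow_zero ha

theorem zp1 {a : H} (ha : a ^ 3 = 1) : zmodPow a 3 1 = a := by
  have h := zmodPow_intCast ha 1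
  rw [Int.cast_one, zpow_one] at h
  exact h

theorem zp2 {a : H} (ha : a ^ 3 = 1) : zmodPow a 3 2 = a⁻¹ := by
  have h := zmodPow_intCast ha (-1)
  rw [zpow_neg, zpow_one] at h
  rw [← h]
  congr 1

/-- the homomorphism from `C₃` given by an element of order dividing `3` -/
def cycHom (a : H) (ha : a ^ 3 = 1) : Multiplicative (ZMod 3) →* H :=
  MonoidHom.mk' (fun x => zmodPow a 3 (Multiplicative.toAdd x)) (fun x y => by
    rw [toAdd_mul, zmodPow_add ha])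

theorem commute_zmodPow_left {a x : H} (h : Commute a x) (i : ZMod 3) :
    Commute (zmodPow a 3 i) x :=
  Commute.zpow_left h _

/-- the homomorphism from `C₃ × S₃` -/
def homK (a b c : H) (ha : a ^ 3 = 1) (hb : b ^ 3 = 1) (hc : c * c = 1) (hcb : c * b * c⁻¹ = b⁻¹)
    (hab : Commute a b) (hac : Commute a c) : Multiplicative (ZMod 3) × DihedralGroup 3 →* H :=
  MonoidHom.noncommCoprod (cycHom a ha) (dihedralHom 3 b c hb hc hcb) (by
    intro x d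
    have h1 : ∀ j : ZMod 3, Commute a (zmodPow b 3 j) := fun j => Commute.zpow_right hab _
    rcases d with j | j
    · exact commute_zmodPow_left (h1 j) _
    · exact commute_zmodPow_left (Commute.mul_right hac (h1 j)) _)

theorem homK_r (a b c : H) (ha : a ^ 3 = 1) (hb : b ^ 3 = 1) (hc : c * c = 1)
    (hcb : c * b * c⁻¹ = b⁻¹) (hab : Commute a b) (hac : Commute a c) (i j : ZMod 3) :
    homK a b c ha hb hc hcb hab hac (ofAdd i, r j) = zmodPow a 3 i * zmodPow b 3 j := rfl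

theorem homK_sr (a b c : H) (ha : a ^ 3 = 1) (hb : b ^ 3 = 1) (hc : c * c = 1)
    (hcb : c * b * c⁻¹ = b⁻¹) (hab : Commute a b) (hac : Commute a c) (i j : ZMod 3) :
    homK a b c ha hb hc hcb hab hac (ofAdd i, sr j) = zmodPow a 3 i * (c * zmodPow b 3 j) := rfl

end hom

/-- the linear character `a^i ⊗ c^(reflection)` of `C₃ × S₃` (`a³ = 1`, `c² = 1`) -/
noncomputable def linK (a c : ℂˣ) (ha : a ^ 3 = 1) (hc : c * c = 1) :
    Multiplicative (ZMod 3) × DihedralGroup 3 →* ℂˣ :=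
  homK a 1 c ha (one_pow 3) hc (by rw [mul_one, mul_inv_cancel, inv_one]) (Commute.all _ _)
    (Commute.all _ _)

/-- the inner product of a function on `C₃ × S₃` which takes the values of `locgen` with `linK a c` -/
theorem inner_linK (θ : Multiplicative (ZMod 3) × DihedralGroup 3 → ℂ) (f α β δ τ ε : ℂ)
    (h00 : θ (ofAdd 0, r 0) = f) (h01 : θ (ofAdd 0, r 1) = β) (h02 : θ (ofAdd 0, r 2) = β)
    (h10 : θ (ofAdd 1, r 0) = α) (h11 : θ (ofAdd 1, r 1) = δ) (h12 : θ (ofAdd 1, r 2) = δ)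
    (h20 : θ (ofAdd 2, r 0) = α) (h21 : θ (ofAdd 2, r 1) = δ) (h22 : θ (ofAdd 2, r 2) = δ)
    (s0 : ∀ j, θ (ofAdd 0, sr j) = τ) (s1 : ∀ j, θ (ofAdd 1, sr j) = ε)
    (s2 : ∀ j, θ (ofAdd 2, sr j) = ε)
    (a c : ℂˣ) (ha : a ^ 3 = 1) (hc : c * c = 1) :
    classInner θ (fun k => ((linK a c ha hc k : ℂˣ) : ℂ)) =
      (18 : ℂ)⁻¹ * ((f + 2 * β + 3 * conj (c : ℂ) * τ) +
        (conj (a : ℂ) + conj ((a⁻¹ : ℂˣ) : ℂ)) * (α + 2 * δ + 3 * conj (c : ℂ) * ε)) := by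
  unfold classInner
  rw [cardK, sumK]
  have e1 : ∀ i j : ZMod 3, linK a c ha hc (ofAdd i, r j) = zmodPow a 3 i := by
    intro i j
    unfold linK
    rw [homK_r]
    have : zmodPow (1 : ℂˣ) 3 j = 1 := by
      unfold zmodPow
      rw [one_zpow]
    rw [this, mul_one]
  have e2 : ∀ i j : ZMod 3, linK a c ha hc (ofAdd i, sr j) = zmodPow a 3 i * c := by
    intro i j
    unfold linK
    rw [homK_sr]
    have : zmodPow (1 : ℂˣ) 3 j = 1 := by
      unfold zmodPow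
      rw [one_zpow]
    rw [this, mul_one]
  simp only [e1, e2, zp0 ha, zp1 ha, zp2 ha, h00, h01, h02, h10, h11, h12, h20, h21, h22, s0, s1, s2]
  push_cast
  simp only [map_mul, map_one]
  ring

variable {G : Type*} [Group G] [Finite G]

theorem locgen (hperf : commutator G = ⊤) (χ : IrrCharacter G) {u v t : G}
    (hu : orderOf u = 3) (hv : orderOf v = 3) (ht : orderOf t = 2)
    (huv : u * v = v * u) (htu : t * u = u * t) (htv : t * v * t⁻¹ = v⁻¹)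
    {f : ℕ} {α β δ ε : ℤ} (hf : (χ : G → ℂ) 1 = (f : ℂ)) (hα : (χ : G → ℂ) u = (α : ℂ))
    (hβ : (χ : G → ℂ) v = (β : ℂ)) (hδ : (χ : G → ℂ) (u * v) = (δ : ℂ))
    (hε : (χ : G → ℂ) (u * t) = (ε : ℂ)) :
    ∃ n0p n0m n1p n1m : ℕ,
      (f : ℤ) + 2 * α + 2 * β + 4 * δ = 9 * ((n0p : ℤ) + n0m) ∧
      (f : ℤ) - α + 2 * β - 2 * δ = 9 * ((n1p : ℤ) + n1m) ∧
      ε = ((n0p : ℤ) - n0m) - ((n1p : ℤ) - n1m) ∧
      (4 : ℤ) ∣ (f : ℤ) - (((n0p : ℤ) - n0m) + 2 * ((n1p : ℤ) - n1m)) := by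
  classical
  have hu3 : u ^ 3 = 1 := by rw [← hu]; exact pow_orderOf_eq_one u
  have hv3 : v ^ 3 = 1 := by rw [← hv]; exact pow_orderOf_eq_one v
  have ht2 : t * t = 1 := by rw [← pow_two, ← ht]; exact pow_orderOf_eq_one t
  have htinv : t⁻¹ = t := inv_eq_of_mul_eq_one_left ht2
  have cuv : Commute u v := huv
  have cut : Commute u t := htu.symm
  -- the value at `t`
  obtain ⟨j, hj⟩ := Cfsg.Agent.Lib.Helper10_F5040_INVVAL.invol_parity4 hperf χ t ht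
  have hdeg : Cfsg.charDegree (χ : G → ℂ) = f := by
    unfold Cfsg.charDegree
    rw [hf, Complex.natCast_re, Nat.floor_natCast]
  rw [hdeg] at hj
  obtain ⟨τ, hτ⟩ : ∃ τ : ℤ, τ = (f : ℤ) - 4 * j := ⟨_, rfl⟩
  have hτ' : (χ : G → ℂ) t = (τ : ℂ) := by
    rw [hj, hτ]
    push_cast
    ring
  have cj : ∀ z : ℤ, conj (z : ℂ) = (z : ℂ) := fun z => map_intCast (starRingEnd ℂ) z
  -- group identities
  have hB : v⁻¹ * v⁻¹ = v := by
    have h : v * v * v = 1 := by rw [← hv3, pow_succ, pow_two]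
    calc v⁻¹ * v⁻¹ = v⁻¹ * v⁻¹ * (v * v * v) := by rw [h, mul_one]
      _ = v := by group
  have hD : v * v = v⁻¹ := by
    have h : v * v * v = 1 := by rw [← hv3, pow_succ, pow_two]
    calc v * v = v * v * v * v⁻¹ := by group
      _ = v⁻¹ := by rw [h, one_mul]
  have hC : v⁻¹ * t = t * v := by
    rw [← htv, htinv]
    calc t * v * t * t = t * v * (t * t) := by group
      _ = t * v := by rw [ht2, mul_one]
  have hA : v * t = t * v⁻¹ := by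
    calc v * t = v * (t * v) * v⁻¹ := by group
      _ = v * (v⁻¹ * t) * v⁻¹ := by rw [hC]
      _ = t * v⁻¹ := by group
  have e_v : t * v = v * t * v⁻¹ := by rw [hA, mul_assoc, hB]
  have e_v' : t * v⁻¹ = v⁻¹ * t * v⁻¹⁻¹ := by rw [inv_inv, hC, mul_assoc, hD]
  -- values of `χ`
  have vu' : (χ : G → ℂ) u⁻¹ = (α : ℂ) := by rw [irr_inv, hα, cj]
  have vv' : (χ : G → ℂ) v⁻¹ = (β : ℂ) := by rw [irr_inv, hβ, cj]
  have vuv' : (χ : G → ℂ) (u * v⁻¹) = (δ : ℂ) := by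
    have h := irr_conj χ (u * v) t
    have e : t * (u * v) * t⁻¹ = u * v⁻¹ := by
      calc t * (u * v) * t⁻¹ = (t * u) * v * t⁻¹ := by group
        _ = u * (t * v * t⁻¹) := by rw [htu]; group
        _ = u * v⁻¹ := by rw [htv]
    rw [e] at h
    rw [h, hδ]
  have vu'v : (χ : G → ℂ) (u⁻¹ * v) = (δ : ℂ) := by
    have e : u⁻¹ * v = (u * v⁻¹)⁻¹ := by
      rw [mul_inv_rev, inv_inv]
      exact cuv.inv_left.eq
    rw [e, irr_inv, vuv', cj]
  have vu'v' : (χ : G → ℂ) (u⁻¹ * v⁻¹) = (δ : ℂ) := by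
    have e : u⁻¹ * v⁻¹ = (u * v)⁻¹ := by
      rw [mul_inv_rev]
      exact cuv.inv_inv.eq
    rw [e, irr_inv, hδ, cj]
  have key : ∀ c w : G, c * u = u * c → t * w = c * t * c⁻¹ →
      (χ : G → ℂ) (t * w) = (τ : ℂ) ∧ (χ : G → ℂ) (u * (t * w)) = (ε : ℂ) ∧
        (χ : G → ℂ) (u⁻¹ * (t * w)) = (ε : ℂ) := by
    intro c w hcu hw
    rw [hw]
    refine ⟨?_, ?_, ?_⟩
    · rw [irr_conj, hτ']
    · have e : u * (c * t * c⁻¹) = c * (u * t) * c⁻¹ := by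
        calc u * (c * t * c⁻¹) = (u * c) * t * c⁻¹ := by group
          _ = c * (u * t) * c⁻¹ := by rw [← hcu]; group
      rw [e, irr_conj, hε]
    · have hcu' : c * u⁻¹ = u⁻¹ * c := by
        have : Commute c u := hcu
        exact this.inv_right.eq
      have e : u⁻¹ * (c * t * c⁻¹) = c * (u * t)⁻¹ * c⁻¹ := by
        calc u⁻¹ * (c * t * c⁻¹) = (u⁻¹ * c) * t * c⁻¹ := by group
          _ = c * (u⁻¹ * t) * c⁻¹ := by rw [← hcu']; group
          _ = c * (u * t)⁻¹ * c⁻¹ := by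
              rw [mul_inv_rev, htinv]
              congr 2
              exact cut.inv_left.eq
      rw [e, irr_conj, irr_inv, hε, cj]
  obtain ⟨k01, k02, k03⟩ := key 1 1 (by rw [one_mul, mul_one]) (by rw [mul_one, one_mul, inv_one, mul_one])
  obtain ⟨k11, k12, k13⟩ := key v v huv.symm e_v
  obtain ⟨k21, k22, k23⟩ := key v⁻¹ v⁻¹ cuv.inv_right.eq.symm e_v'
  -- the pull-back of `χ` to `C₃ × S₃`
  obtain ⟨ψ, hψ⟩ : ∃ ψ : Multiplicative (ZMod 3) × DihedralGroup 3 →* G,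
      ψ = homK u v t hu3 hv3 ht2 htv cuv cut := ⟨_, rfl⟩
  obtain ⟨θ, hθdef⟩ : ∃ θ : Multiplicative (ZMod 3) × DihedralGroup 3 → ℂ,
      θ = fun k => (χ : G → ℂ) (ψ k) := ⟨_, rfl⟩
  have hθ : IsCharacter (Multiplicative (ZMod 3) × DihedralGroup 3) θ := by
    rw [hθdef]
    exact Cfsg.Agent.Lib.Helper75_CharArith.isCharacter_comp ψ
      (Cfsg.Agent.Lib.Helper79_Linear.isCharacter_of_irr χ.2)
  have tr : ∀ i j : ZMod 3, θ (ofAdd i, r j) = (χ : G → ℂ) (zmodPow u 3 i * zmodPow v 3 j) := by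
    intro i j
    rw [hθdef, hψ]
    rfl
  have ts : ∀ i j : ZMod 3,
      θ (ofAdd i, sr j) = (χ : G → ℂ) (zmodPow u 3 i * (t * zmodPow v 3 j)) := by
    intro i j
    rw [hθdef, hψ]
    rfl
  have h00 : θ (ofAdd 0, r 0) = (f : ℂ) := by rw [tr, zp0 hu3, zp0 hv3, one_mul, hf]
  have h01 : θ (ofAdd 0, r 1) = (β : ℂ) := by rw [tr, zp0 hu3, zp1 hv3, one_mul, hβ]
  have h02 : θ (ofAdd 0, r 2) = (β : ℂ) := by rw [tr, zp0 hu3, zp2 hv3, one_mul, vv']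
  have h10 : θ (ofAdd 1, r 0) = (α : ℂ) := by rw [tr, zp1 hu3, zp0 hv3, mul_one, hα]
  have h11 : θ (ofAdd 1, r 1) = (δ : ℂ) := by rw [tr, zp1 hu3, zp1 hv3, hδ]
  have h12 : θ (ofAdd 1, r 2) = (δ : ℂ) := by rw [tr, zp1 hu3, zp2 hv3, vuv']
  have h20 : θ (ofAdd 2, r 0) = (α : ℂ) := by rw [tr, zp2 hu3, zp0 hv3, mul_one, vu']
  have h21 : θ (ofAdd 2, r 1) = (δ : ℂ) := by rw [tr, zp2 hu3, zp1 hv3, vu'v]
  have h22 : θ (ofAdd 2, r 2) = (δ : ℂ) := by rw [tr, zp2 hu3, zp2 hv3, vu'v']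
  have z3 : ∀ j : ZMod 3, j = 0 ∨ j = 1 ∨ j = 2 := by decide
  have s0 : ∀ j, θ (ofAdd 0, sr j) = (τ : ℂ) := by
    intro j
    rw [ts, zp0 hu3, one_mul]
    rcases z3 j with rfl | rfl | rfl
    · rw [zp0 hv3]; exact k01
    · rw [zp1 hv3]; exact k11
    · rw [zp2 hv3]; exact k21
  have s1 : ∀ j, θ (ofAdd 1, sr j) = (ε : ℂ) := by
    intro j
    rw [ts, zp1 hu3]
    rcases z3 j with rfl | rfl | rfl
    · rw [zp0 hv3]; exact k02
    · rw [zp1 hv3]; exact k12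
    · rw [zp2 hv3]; exact k22
  have s2 : ∀ j, θ (ofAdd 2, sr j) = (ε : ℂ) := by
    intro j
    rw [ts, zp2 hu3]
    rcases z3 j with rfl | rfl | rfl
    · rw [zp0 hv3]; exact k03
    · rw [zp1 hv3]; exact k13
    · rw [zp2 hv3]; exact k23
  -- a primitive cube root of unity
  obtain ⟨ζ, hζ⟩ : ∃ ζ : ℂ, IsPrimitiveRoot ζ 3 := ⟨_, Complex.isPrimitiveRoot_exp 3 (by norm_num)⟩
  have hζ3 : ζ ^ 3 = 1 := hζ.pow_eq_one
  have hζ0 : ζ ≠ 0 := hζ.ne_zero (by norm_num)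
  have hsum : 1 + ζ + ζ ^ 2 = 0 := by
    have h := hζ.geom_sum_eq_zero (by norm_num)
    rw [Finset.sum_range_succ, Finset.sum_range_succ, Finset.sum_range_one, pow_zero, pow_one] at h
    exact h
  obtain ⟨ω, hω⟩ : ∃ ω : ℂˣ, (ω : ℂ) = ζ := ⟨Units.mk0 ζ hζ0, rfl⟩
  have hω3 : ω ^ 3 = 1 := by
    apply Units.ext
    rw [Units.val_pow_eq_pow_val, hω, hζ3, Units.val_one]
  have hωinv : ((ω⁻¹ : ℂˣ) : ℂ) = ζ ^ 2 := by
    rw [Units.val_inv_eq_inv_val, hω]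
    apply inv_eq_of_mul_eq_one_left
    rw [← hζ3]
    ring
  have hωsum : conj (ω : ℂ) + conj ((ω⁻¹ : ℂˣ) : ℂ) = -1 := by
    rw [← map_add, hωinv, hω]
    have : ζ + ζ ^ 2 = -1 := by linear_combination hsum
    rw [this, map_neg, map_one]
  have h11u : (1 : ℂˣ) * 1 = 1 := one_mul 1
  have hm1 : (-1 : ℂˣ) * (-1) = 1 := by rw [neg_mul_neg, one_mul]
  have hI := inner_linK θ (f : ℂ) (α : ℂ) (β : ℂ) (δ : ℂ) (τ : ℂ) (ε : ℂ) h00 h01 h02 h10 h11 h12 h20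
    h21 h22 s0 s1 s2
  have hnat := fun (a c : ℂˣ) (ha : a ^ 3 = 1) (hc : c * c = 1) =>
    Cfsg.Agent.Lib.Helper75_CharArith.classInner_isCharacter_nat hθ
      (Cfsg.Agent.Lib.Helper79_Linear.isCharacter_of_irr
        (Cfsg.Agent.Lib.Helper79_Linear.isIrrCharacter_of_hom (linK a c ha hc)))
  obtain ⟨N1, hN1⟩ := hnat 1 1 (one_pow 3) h11u
  obtain ⟨N2, hN2⟩ := hnat 1 (-1) (one_pow 3) hm1
  obtain ⟨N3, hN3⟩ := hnat ω 1 hω3 h11u
  obtain ⟨N4, hN4⟩ := hnat ω (-1) hω3 hm1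
  rw [hI] at hN1 hN2 hN3 hN4
  rw [hωsum] at hN3 hN4
  simp only [inv_one, Units.val_one, Units.val_neg, map_one, map_neg] at hN1 hN2 hN3 hN4
  have c18 : (18 : ℂ) ≠ 0 := by norm_num
  have E1 : (f : ℤ) + 2 * β + 3 * τ + 2 * (α + 2 * δ + 3 * ε) = 18 * (N1 : ℤ) := by
    have h : (((f : ℤ) + 2 * β + 3 * τ + 2 * (α + 2 * δ + 3 * ε) : ℤ) : ℂ) = ((18 * (N1 : ℤ) : ℤ) : ℂ) := by
      push_cast
      rw [← hN1]
      field_simp
      ring
    exact_mod_cast h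
  have E2 : (f : ℤ) + 2 * β - 3 * τ + 2 * (α + 2 * δ - 3 * ε) = 18 * (N2 : ℤ) := by
    have h : (((f : ℤ) + 2 * β - 3 * τ + 2 * (α + 2 * δ - 3 * ε) : ℤ) : ℂ) = ((18 * (N2 : ℤ) : ℤ) : ℂ) := by
      push_cast
      rw [← hN2]
      field_simp
      ring
    exact_mod_cast h
  have E3 : (f : ℤ) + 2 * β + 3 * τ - (α + 2 * δ + 3 * ε) = 18 * (N3 : ℤ) := by
    have h : (((f : ℤ) + 2 * β + 3 * τ - (α + 2 * δ + 3 * ε) : ℤ) : ℂ) = ((18 * (N3 : ℤ) : ℤ) : ℂ) := by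
      push_cast
      rw [← hN3]
      field_simp
      ring
    exact_mod_cast h
  have E4 : (f : ℤ) + 2 * β - 3 * τ - (α + 2 * δ - 3 * ε) = 18 * (N4 : ℤ) := by
    have h : (((f : ℤ) + 2 * β - 3 * τ - (α + 2 * δ - 3 * ε) : ℤ) : ℂ) = ((18 * (N4 : ℤ) : ℤ) : ℂ) := by
      push_cast
      rw [← hN4]
      field_simp
      ring
    exact_mod_cast h
  refine ⟨N1, N2, N3, N4, ?_, ?_, ?_, ?_⟩
  · omega
  · omega
  · omega
  · refine ⟨j, ?_⟩
    omega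

end Cfsg.Agent.Lib.Helper96_D72_LOCGEN
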