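import Mathlib
import Cfsg.Prelude.Def_Characters
import Cfsg.Agent.Lib.Helper80_CharBasic
import Cfsg.Agent.Lib.Helper62_D72Defs
import Cfsg.Agent.Lib.Helper3_D72_LOCALaux
import Cfsg.Agent.Lib.Helper96_D72_LOCGEN

/-!
# S3716 package LOCAL (helper3 for helper62): verbatim wrapper of `local_data_aux` with the landed LOCGEN.
-/

set_option autoImplicit false
set_option linter.unusedSectionVars false
open scoped ComplexConjugate

namespace Cfsg.Agent.Lib.Helper3_D72_LOCAL

open Cfsg Cfsg.Agent.Lib.Helper80_CharBasic Cfsg.Agent.Lib.Helper62_D72Defs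

section grp
variable {G : Type*} [Group G] [Finite G]
variable {M : Subgroup G} {x y s w : G}

theorem local_data (h : Hyp G M x y s w) (hperf : commutator G = ⊤) {f : IrrCharacter G → ℕ}
    {a d b b' : IrrCharacter G → ℤ} (hv : Vals G x y s w f a d b b') (χ : IrrCharacter G) :
    ∃ P Q P' Q' : ℤ, Loc (f χ) P Q P' Q' ∧ a χ = aOf P Q P' Q' ∧ d χ = dOf P Q P' Q' ∧
      b χ = P - Q ∧ b' χ = P' - Q' :=
  Cfsg.Agent.Lib.Helper3_D72_LOCALaux.local_data_aux
    (fun χ _ _ _ hu hv ht huv htu htv _ _ _ _ _ hf hα hβ hδ hε =>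
      Cfsg.Agent.Lib.Helper96_D72_LOCGEN.locgen hperf χ hu hv ht huv htu htv hf hα hβ hδ hε) h hv χ

end grp

end Cfsg.Agent.Lib.Helper3_D72_LOCAL
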