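import Mathlib
import Cfsg.Prelude.Def_Characters
import Cfsg.Agent.Lib.Helper80_CharBasic
import Cfsg.Agent.Lib.Helper6_GL23Defs
import Cfsg.Agent.Lib.Helper3_CharEigen

/-!
# S0197 package CYC6 (helper42, for architect helper6)

Restriction of an irreducible character to the cyclic group `⟨t s⟩` of order 6: `χ (t s)` is an
integer (it is real, as `t s ~ (t s)⁻¹`) and `χ t - χ (t s)` is divisible by 3.

Every sixth root of unity is `μ = a + b ω` (`a, b ∈ ℤ`, `ω = e^{2πi/3}`) and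
`μ ^ 3 - μ = b + 3 e - b ω` for an integer `e`; a real sum `A + B ω` has `B = 0`.
-/

set_option autoImplicit false
set_option linter.unusedSectionVars false
open scoped ComplexConjugate

namespace Cfsg.Agent.Lib.Helper42_GL23_CYC6

open Cfsg Cfsg.Agent.Lib.Helper80_CharBasic Cfsg.Agent.Lib.Helper6_GL23Defs
  Cfsg.Agent.Lib.Helper3_CharEigen

/-- the primitive cube root of unity `(-1 + i√3)/2` -/
noncomputable def om : ℂ := ⟨-1 / 2, Real.sqrt 3 / 2⟩

theorem om_im : om.im = Real.sqrt 3 / 2 := rfl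

theorem om_im_ne : om.im ≠ 0 := by
  rw [om_im]
  have : 0 < Real.sqrt 3 := Real.sqrt_pos.mpr (by norm_num)
  positivity

theorem om_rel : om ^ 2 + om + 1 = 0 := by
  have h3 : Real.sqrt 3 * Real.sqrt 3 = 3 := Real.mul_self_sqrt (by norm_num)
  apply Complex.ext
  · simp only [om, pow_two, Complex.add_re, Complex.mul_re, Complex.one_re, Complex.zero_re]
    nlinarith
  · simp only [om, pow_two, Complex.add_im, Complex.mul_im, Complex.one_im, Complex.zero_im]
    ring

/-- the cube roots of unity -/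
theorem cube_root {ν : ℂ} (h : ν ^ 3 = 1) : ν = 1 ∨ ν = om ∨ ν = -1 - om := by
  have h1 : (ν - 1) * ((ν - om) * (ν + 1 + om)) = 0 := by
    linear_combination h - (ν - 1) * om_rel
  rcases mul_eq_zero.mp h1 with h2 | h2
  · left; exact sub_eq_zero.mp h2
  · rcases mul_eq_zero.mp h2 with h3 | h3
    · right; left; exact sub_eq_zero.mp h3
    · right; right; linear_combination h3

/-- the sixth roots of unity in the basis `1, ω` -/
theorem sixth_root {μ : ℂ} (h : μ ^ 6 = 1) :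
    ∃ a b e : ℤ, μ = (a : ℂ) + (b : ℂ) * om ∧ μ ^ 3 - μ = (b : ℂ) + 3 * (e : ℂ) - (b : ℂ) * om := by
  have hsq : (μ ^ 3) * (μ ^ 3) = 1 := by rw [← pow_add]; exact h
  rcases mul_self_eq_one_iff.mp hsq with h3 | h3
  · rcases cube_root h3 with h1 | h1 | h1
    · exact ⟨1, 0, 0, by rw [h1]; push_cast; ring, by rw [h3, h1]; push_cast; ring⟩
    · exact ⟨0, 1, 0, by rw [h1]; push_cast; ring, by rw [h3, h1]; push_cast; ring⟩
    · exact ⟨-1, -1, 1, by rw [h1]; push_cast; ring, by rw [h3, h1]; push_cast; ring⟩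
  · have h3' : (-μ) ^ 3 = 1 := by
      rw [Odd.neg_pow (by decide), h3, neg_neg]
    rcases cube_root h3' with h1 | h1 | h1
    · have h1' : μ = -1 := by linear_combination -h1
      exact ⟨-1, 0, 0, by rw [h1']; push_cast; ring, by rw [h3, h1']; push_cast; ring⟩
    · have h1' : μ = -om := by linear_combination -h1
      exact ⟨0, -1, 0, by rw [h1']; push_cast; ring, by rw [h3, h1']; push_cast; ring⟩
    · have h1' : μ = 1 + om := by linear_combination -h1
      exact ⟨1, 1, -1, by rw [h1']; push_cast; ring, by rw [h3, h1']; push_cast; ring⟩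

section grp
variable {G : Type*} [Group G] [Finite G]
variable {t a s : G}

theorem cyc6 (h : Loc G t a s) (χ : IrrCharacter G) :
    ∃ xy m : ℤ, (χ : G → ℂ) (t * s) = (xy : ℂ) ∧ (χ : G → ℂ) t - (xy : ℂ) = 3 * (m : ℂ) := by
  classical
  obtain ⟨n, ρ, hirr, hχ⟩ := χ.2
  -- `y = t s`, `y ^ 3 = t`, `y ^ 6 = 1`
  have hcomm : Commute t s := h.st.symm
  have ht2 : t ^ 2 = 1 := by rw [← h.ot]; exact pow_orderOf_eq_one t
  have hs3 : s ^ 3 = 1 := by rw [← h.os]; exact pow_orderOf_eq_one s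
  have hy3 : (t * s) ^ 3 = t := by
    rw [hcomm.mul_pow, hs3, mul_one, pow_succ, ht2, one_mul]
  have hy6 : (t * s) ^ 6 = 1 := by
    rw [show 6 = 3 * 2 from rfl, pow_mul, hy3, ht2]
  -- eigenvalues are sixth roots of unity
  have hroot : ∀ μ ∈ eigSet (ρ (t * s)), μ ^ 6 = 1 := by
    intro μ hμ
    obtain ⟨k, hk⟩ := orderOf_dvd_of_pow_eq_one hy6
    rw [hk, pow_mul, eig_pow_orderOf ρ hμ, one_pow]
  have hex : ∀ μ : ℂ, ∃ a b e : ℤ, μ ∈ eigSet (ρ (t * s)) →
      (μ = (a : ℂ) + (b : ℂ) * om ∧ μ ^ 3 - μ = (b : ℂ) + 3 * (e : ℂ) - (b : ℂ) * om) := by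
    intro μ
    by_cases hμ : μ ∈ eigSet (ρ (t * s))
    · obtain ⟨a, b, e, h1, h2⟩ := sixth_root (hroot μ hμ)
      exact ⟨a, b, e, fun _ => ⟨h1, h2⟩⟩
    · exact ⟨0, 0, 0, fun h' => absurd h' hμ⟩
  choose ca cb ce hc using hex
  set E := eigSet (ρ (t * s)) with hE
  set nn : ℂ → ℕ := fun μ => Module.finrank ℂ (Module.End.eigenspace (ρ (t * s)) μ) with hnn
  set A : ℤ := ∑ μ ∈ E, (nn μ : ℤ) * ca μ with hA
  set Bb : ℤ := ∑ μ ∈ E, (nn μ : ℤ) * cb μ with hBb
  set Ee : ℤ := ∑ μ ∈ E, (nn μ : ℤ) * ce μ with hEe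
  have hy : (χ : G → ℂ) (t * s) = (A : ℂ) + (Bb : ℂ) * om := by
    rw [← hχ, char_eq_sum ρ (t * s), hA, hBb]
    push_cast
    rw [Finset.sum_mul, ← Finset.sum_add_distrib]
    apply Finset.sum_congr rfl
    intro μ hμ
    have h1 : (nn μ : ℂ) * μ = (nn μ : ℂ) * ((ca μ : ℂ) + (cb μ : ℂ) * om) :=
      congrArg (fun z => (nn μ : ℂ) * z) (hc μ hμ).1
    show (nn μ : ℂ) * μ = _
    rw [h1]
    ring
  have ht : (χ : G → ℂ) t - (χ : G → ℂ) (t * s) =
      (Bb : ℂ) + 3 * (Ee : ℂ) - (Bb : ℂ) * om := by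
    have h3 := char_pow_eq_sum ρ (t * s) 3
    rw [hy3] at h3
    rw [← hχ, h3, char_eq_sum ρ (t * s), hBb, hEe, ← Finset.sum_sub_distrib]
    push_cast
    rw [Finset.sum_mul, Finset.mul_sum, ← Finset.sum_add_distrib, ← Finset.sum_sub_distrib]
    apply Finset.sum_congr rfl
    intro μ hμ
    have := (hc μ hμ).2
    calc (nn μ : ℂ) * μ ^ 3 - (nn μ : ℂ) * μ = (nn μ : ℂ) * (μ ^ 3 - μ) := by ring
      _ = _ := by rw [this]; ring
  -- reality
  have hreal : conj ((χ : G → ℂ) (t * s)) = (χ : G → ℂ) (t * s) := by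
    rw [← irr_inv χ (t * s)]
    exact (irr_isConj χ h.yinv).symm
  have him : ((χ : G → ℂ) (t * s)).im = 0 := by
    have := congrArg Complex.im hreal
    rw [Complex.conj_im] at this
    linarith
  have hB0 : Bb = 0 := by
    rw [hy] at him
    simp only [Complex.add_im, Complex.mul_im, Complex.intCast_im, Complex.intCast_re, zero_mul,
      add_zero, zero_add] at him
    have : (Bb : ℝ) = 0 := by
      rcases mul_eq_zero.mp him with h0 | h0
      · exact h0
      · exact absurd h0 om_im_ne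
    exact_mod_cast this
  refine ⟨A, Ee, ?_, ?_⟩
  · rw [hy, hB0]; push_cast; ring
  · have hyA : (χ : G → ℂ) (t * s) = (A : ℂ) := by rw [hy, hB0]; push_cast; ring
    rw [← hyA, ht, hB0]; push_cast; ring

end grp

end Cfsg.Agent.Lib.Helper42_GL23_CYC6
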