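import Mathlib
import Cfsg.Prelude.Def_Characters
import Cfsg.Agent.Lib.Helper80_CharBasic
import Cfsg.Agent.Lib.Helper62_D72Defs
import Cfsg.Agent.Lib.Helper8_D72_INV
import Cfsg.Agent.Lib.Helper42_GL23_CYC6
import Cfsg.Agent.Lib.Helper3_CharEigen

/-!
# S3716 package VALS (helper3 for helper62): the values of the irreducible characters at `1`, `x`, `x y`,
`x s`, `x y w` are integers.

General tool `int_of_real_six`: an irreducible character takes an integer value at a real element `z` with `z ^ 6 = 1`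
(the eigenvalues are sixth roots of unity, hence in `ℤ + ℤ ω`; a real number of this shape is an integer).
-/

set_option autoImplicit false
set_option linter.unusedSectionVars false
open scoped ComplexConjugate

namespace Cfsg.Agent.Lib.Helper3_D72_VALS

open Cfsg Cfsg.Agent.Lib.Helper80_CharBasic Cfsg.Agent.Lib.Helper62_D72Defs
  Cfsg.Agent.Lib.Helper42_GL23_CYC6 Cfsg.Agent.Lib.Helper3_CharEigen

section grp
variable {G : Type*} [Group G] [Finite G]

/-- an irreducible character is integer valued at a real element of order dividing six -/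
theorem int_of_real_six (χ : IrrCharacter G) {z : G} (hz : z ^ 6 = 1) (hreal : IsConj z z⁻¹) :
    ∃ n : ℤ, (χ : G → ℂ) z = (n : ℂ) := by
  classical
  obtain ⟨n, ρ, hirr, hχ⟩ := χ.2
  have hroot : ∀ μ ∈ eigSet (ρ z), μ ^ 6 = 1 := by
    intro μ hμ
    obtain ⟨k, hk⟩ := orderOf_dvd_of_pow_eq_one hz
    rw [hk, pow_mul, eig_pow_orderOf ρ hμ, one_pow]
  have hex : ∀ μ : ℂ, ∃ a b : ℤ, μ ∈ eigSet (ρ z) → μ = (a : ℂ) + (b : ℂ) * om := by
    intro μ
    by_cases hμ : μ ∈ eigSet (ρ z)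
    · obtain ⟨a, b, e, h1, -⟩ := sixth_root (hroot μ hμ)
      exact ⟨a, b, fun _ => h1⟩
    · exact ⟨0, 0, fun h' => absurd h' hμ⟩
  choose ca cb hc using hex
  obtain ⟨A, hA⟩ : ∃ A : ℤ, A = ∑ μ ∈ eigSet (ρ z),
      (Module.finrank ℂ (Module.End.eigenspace (ρ z) μ) : ℤ) * ca μ := ⟨_, rfl⟩
  obtain ⟨B, hB⟩ : ∃ B : ℤ, B = ∑ μ ∈ eigSet (ρ z),
      (Module.finrank ℂ (Module.End.eigenspace (ρ z) μ) : ℤ) * cb μ := ⟨_, rfl⟩
  have hval : (χ : G → ℂ) z = (A : ℂ) + (B : ℂ) * om := by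
    rw [← hχ, char_eq_sum ρ z, hA, hB]
    push_cast
    rw [Finset.sum_mul, ← Finset.sum_add_distrib]
    apply Finset.sum_congr rfl
    intro μ hμ
    have h1 : (Module.finrank ℂ (Module.End.eigenspace (ρ z) μ) : ℂ) * μ =
        (Module.finrank ℂ (Module.End.eigenspace (ρ z) μ) : ℂ) * ((ca μ : ℂ) + (cb μ : ℂ) * om) :=
      congrArg (fun t => (Module.finrank ℂ (Module.End.eigenspace (ρ z) μ) : ℂ) * t) (hc μ hμ)
    rw [h1]
    ring
  -- the value is real
  have hre : conj ((χ : G → ℂ) z) = (χ : G → ℂ) z := by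
    rw [← irr_inv χ z]
    exact (irr_isConj χ hreal).symm
  have him : ((χ : G → ℂ) z).im = 0 := by
    have := congrArg Complex.im hre
    rw [Complex.conj_im] at this
    linarith
  have hB0 : B = 0 := by
    rw [hval] at him
    have h2 : ((A : ℂ) + (B : ℂ) * om).im = (B : ℝ) * om.im := by
      simp [Complex.add_im, Complex.mul_im]
    rw [h2] at him
    rcases mul_eq_zero.mp him with h3 | h3
    · exact_mod_cast h3
    · exact absurd h3 om_im_ne
  refine ⟨A, ?_⟩
  rw [hval, hB0]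
  simp

variable {M : Subgroup G} {x y s w : G}

theorem vals (h : Hyp G M x y s w) :
    ∃ (f : IrrCharacter G → ℕ) (a d b b' : IrrCharacter G → ℤ), Vals G x y s w f a d b b' := by
  obtain ⟨c, -, hcc, hcx, hcy, hcs, hcw⟩ := Cfsg.Agent.Lib.Helper8_D72_INV.inv_elt h
  have hx3 : x ^ 3 = 1 := by rw [← h.ox]; exact pow_orderOf_eq_one x
  have hy3 : y ^ 3 = 1 := by rw [← h.oy]; exact pow_orderOf_eq_one y
  have hs2 : s ^ 2 = 1 := by rw [← h.os]; exact pow_orderOf_eq_one s
  have hw2 : w ^ 2 = 1 := by rw [← h.ow]; exact pow_orderOf_eq_one w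
  have hxy : Commute x y := h.comm
  have hsx : Commute s x := by
    have := h.sx
    show s * x = x * s
    calc s * x = (s * x * s⁻¹) * s := by group
      _ = x * s := by rw [this]
  have hwxy : Commute w (x * y) := by
    show w * (x * y) = (x * y) * w
    calc w * (x * y) = (w * x * w⁻¹) * (w * y * w⁻¹) * w := by group
      _ = y * x * w := by rw [h.wx, h.wy]
      _ = x * y * w := by rw [h.comm]
  have hsinv : s⁻¹ = s := by
    have : s * s = 1 := by rw [← pow_two]; exact hs2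
    exact inv_eq_of_mul_eq_one_right this
  have hwinv : w⁻¹ = w := by
    have : w * w = 1 := by rw [← pow_two]; exact hw2
    exact inv_eq_of_mul_eq_one_right this
  -- sixth powers
  have p1 : x ^ 6 = 1 := by
    rw [show 6 = 3 * 2 from rfl, pow_mul, hx3, one_pow]
  have p2 : (x * y) ^ 6 = 1 := by
    rw [hxy.mul_pow, show 6 = 3 * 2 from rfl, pow_mul, pow_mul, hx3, hy3, one_pow, one_mul]
  have p3 : (x * s) ^ 6 = 1 := by
    rw [hsx.symm.mul_pow, p1, show 6 = 2 * 3 from rfl, pow_mul, hs2, one_pow, one_mul]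
  have p4 : (x * y * w) ^ 6 = 1 := by
    rw [hwxy.symm.mul_pow, p2, show 6 = 2 * 3 from rfl, pow_mul, hw2, one_pow, one_mul]
  -- reality
  have r1 : IsConj x x⁻¹ := isConj_iff.mpr ⟨c, hcx⟩
  have cxy : c * (x * y) * c⁻¹ = (x * y)⁻¹ := by
    calc c * (x * y) * c⁻¹ = (c * x * c⁻¹) * (c * y * c⁻¹) := by group
      _ = x⁻¹ * y⁻¹ := by rw [hcx, hcy]
      _ = (x * y)⁻¹ := by rw [h.comm, mul_inv_rev]
  have r2 : IsConj (x * y) (x * y)⁻¹ := isConj_iff.mpr ⟨c, cxy⟩
  have r3 : IsConj (x * s) (x * s)⁻¹ := by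
    refine isConj_iff.mpr ⟨c, ?_⟩
    have hcs' : c * s * c⁻¹ = s := by
      calc c * s * c⁻¹ = s * c * c⁻¹ := by rw [hcs]
        _ = s := by group
    calc c * (x * s) * c⁻¹ = (c * x * c⁻¹) * (c * s * c⁻¹) := by group
      _ = x⁻¹ * s := by rw [hcx, hcs']
      _ = s * x⁻¹ := (hsx.inv_right).eq.symm
      _ = (x * s)⁻¹ := by rw [mul_inv_rev, hsinv]
  have r4 : IsConj (x * y * w) (x * y * w)⁻¹ := by
    refine isConj_iff.mpr ⟨c, ?_⟩
    have hcw' : c * w * c⁻¹ = w := by
      calc c * w * c⁻¹ = w * c * c⁻¹ := by rw [hcw]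
        _ = w := by group
    calc c * (x * y * w) * c⁻¹ = (c * (x * y) * c⁻¹) * (c * w * c⁻¹) := by group
      _ = (x * y)⁻¹ * w := by rw [cxy, hcw']
      _ = w * (x * y)⁻¹ := (hwxy.inv_right).eq.symm
      _ = (x * y * w)⁻¹ := by rw [mul_inv_rev (x * y) w, hwinv]
  choose f hf using fun χ : IrrCharacter G => irr_apply_one χ
  choose a ha using fun χ : IrrCharacter G => int_of_real_six χ p1 r1
  choose d hd using fun χ : IrrCharacter G => int_of_real_six χ p2 r2
  choose b hb using fun χ : IrrCharacter G => int_of_real_six χ p3 r3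
  choose b' hb' using fun χ : IrrCharacter G => int_of_real_six χ p4 r4
  exact ⟨f, a, d, b, b', ⟨fun χ => (hf χ).1, fun χ => (hf χ).2, ha, hd, hb, hb'⟩⟩

end grp

end Cfsg.Agent.Lib.Helper3_D72_VALS
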