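import Mathlib
import Cfsg.Prelude.Def_Characters
import Cfsg.Prelude.Def_ParabolicCharacters
import Cfsg.Prelude.Def_LinearParabolics
import Cfsg.Prelude.Def_Blocks
import Cfsg.Prelude.Def_Solvable
import Cfsg.Agent.Lib.Helper40_DefZeroDefs
import Cfsg.Agent.Lib.Helper40_SLBNDefs
import Cfsg.Agent.Lib.Helper40_SLBNDefs2
import Cfsg.Agent.S0906
import Cfsg.Agent.S0908

/-!
# DEFZERO market, wave 2, package BLKDICH (architect helper40): `blk_dich`.
-/

set_option autoImplicit false
open Cfsg Cfsg.Agent.Lib.Helper40_DefZeroDefs Cfsg.Agent.Lib.Helper40_SLBNDefs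
open Matrix
open scoped MatrixGroups

namespace Cfsg.Agent.Lib.Helper3_DZ_BLKDICH

variable {G : Type*} [Group G] [Finite G] (p : ℕ) [Fact p.Prime] (M : Ideal Cfsg.AlgInt)

/-- Every block has a defect group. -/
theorem exists_defectGroup (hM : Cfsg.IsPModular p M) (B : Set (Cfsg.IrrCharacter G))
    (hB : Cfsg.IsPBlock M B) : ∃ D : Subgroup G, Cfsg.IsDefectGroup p M B D := by
  obtain ⟨g, hg⟩ := Cfsg.Agent.S0906.result p M hM B hB
  obtain ⟨P⟩ : Nonempty (Sylow p (Subgroup.centralizer ({g} : Set G))) := inferInstance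
  exact ⟨_, g, hg, P, rfl⟩

/- BLKDICH (size S). -/
theorem blk_dich (hM : Cfsg.IsPModular p M)
    (h : ∀ (B : Set (Cfsg.IrrCharacter G)) (D : Subgroup G), Cfsg.IsPBlock M B →
      Cfsg.IsDefectGroup p M B D → D = ⊥ ∨ Nat.card D = p ^ (Nat.card G).factorization p) :
    ∀ B : Set (Cfsg.IrrCharacter G), Cfsg.IsPBlock M B →
      Cfsg.blockDefect p B = 0 ∨ Cfsg.blockDefect p B = (Nat.card G).factorization p := by
  intro B hB
  obtain ⟨D, hD⟩ := exists_defectGroup p M hM B hB
  have hcard := Cfsg.Agent.S0908.result p M hM B hB D hD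
  have hp : p.Prime := Fact.out
  rcases h B D hB hD with h0 | h1
  · left
    rw [h0, Subgroup.card_bot] at hcard
    by_contra hne
    have : 1 < p ^ Cfsg.blockDefect p B := Nat.one_lt_pow hne hp.one_lt
    omega
  · right
    rw [h1] at hcard
    exact (Nat.pow_right_injective hp.two_le hcard).symm

end Cfsg.Agent.Lib.Helper3_DZ_BLKDICH
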