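import Mathlib
import Cfsg.Prelude.Def_Characters
import Cfsg.Prelude.Def_ParabolicCharacters
import Cfsg.Prelude.Def_LinearParabolics
import Cfsg.Prelude.Def_Blocks
import Cfsg.Prelude.Def_Solvable
import Cfsg.Agent.Lib.Helper40_DefZeroDefs
import Cfsg.Agent.Lib.Helper40_SLBNDefs
import Cfsg.Agent.Lib.Helper40_SLBNDefs2
import Cfsg.Agent.Lib.Helper78_LocalRing
import Cfsg.Agent.S0914

/-!
# DEFZERO market, wave 2, package BLKDZ (architect helper40): `blk_dz_count`.
-/

set_option autoImplicit false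
open Cfsg Cfsg.Agent.Lib.Helper40_DefZeroDefs Cfsg.Agent.Lib.Helper40_SLBNDefs
open Matrix
open scoped MatrixGroups

namespace Cfsg.Agent.Lib.Helper3_DZ_BLKDZ

variable {G : Type*} [Group G] [Finite G] (p : ℕ) [Fact p.Prime] (M : Ideal Cfsg.AlgInt)

/-- A character whose degree is divisible by the full `p`-part of `|G|` forms a block of defect zero. -/
theorem block_of_dvd (hM : Cfsg.IsPModular p M) (χ : Cfsg.IrrCharacter G)
    (hχ : p ^ (Nat.card G).factorization p ∣ Cfsg.charDegree (χ : G → ℂ)) :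
    Cfsg.blockOf M (χ : G → ℂ) = {χ} ∧ Cfsg.blockDefect p (Cfsg.blockOf M (χ : G → ℂ)) = 0 := by
  have hp : p.Prime := Fact.out
  obtain ⟨n, hnpos, -, hdeg, hndvd⟩ := Cfsg.Agent.S0914.exists_degree χ
  rw [hdeg] at hχ
  have hGpos : 0 < Nat.card G := Nat.card_pos
  have h1 : (Nat.card G).factorization p ≤ n.factorization p :=
    (hp.pow_dvd_iff_le_factorization hnpos.ne').mp hχ
  have h2 : n.factorization p ≤ (Nat.card G).factorization p :=
    (Nat.factorization_le_iff_dvd hnpos.ne' hGpos.ne').mpr hndvd p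
  have h3 : n.factorization p = (Nat.card G).factorization p := le_antisymm h2 h1
  have hnd : ¬ p ∣ Nat.card G / Cfsg.charDegree (χ : G → ℂ) := by
    rw [hdeg]
    intro hdvd
    have hq : Nat.card G / n ≠ 0 := by
      obtain ⟨k, hk⟩ := hndvd
      rw [hk, Nat.mul_div_cancel_left _ hnpos]
      rintro rfl
      rw [mul_zero] at hk
      omega
    have h4 : 1 ≤ (Nat.card G / n).factorization p :=
      (hp.dvd_iff_one_le_factorization hq).mp hdvd
    rw [Nat.factorization_div hndvd] at h4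
    simp only [Finsupp.coe_tsub, Pi.sub_apply] at h4
    omega
  have hsing := (Cfsg.Agent.S0914.result p M hM χ).mp hnd
  refine ⟨hsing, ?_⟩
  rw [hsing]
  unfold Cfsg.blockDefect
  rw [Set.image_singleton, csInf_singleton, hdeg, h3, Nat.sub_self]

/- BLKDZ (size M). -/
theorem blk_dz_count (hM : Cfsg.IsPModular p M) :
    Nat.card {B : Set (Cfsg.IrrCharacter G) // Cfsg.IsPBlock M B ∧ Cfsg.blockDefect p B = 0} =
      Nat.card {χ : Cfsg.IrrCharacter G //
        p ^ (Nat.card G).factorization p ∣ Cfsg.charDegree (χ : G → ℂ)} := by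
  have hp : p.Prime := Fact.out
  have hMp : M.IsPrime := Cfsg.Agent.Lib.Helper78_LocalRing.isPrime_of_isPModular hM
  symm
  let f : {χ : Cfsg.IrrCharacter G //
      p ^ (Nat.card G).factorization p ∣ Cfsg.charDegree (χ : G → ℂ)} →
      {B : Set (Cfsg.IrrCharacter G) // Cfsg.IsPBlock M B ∧ Cfsg.blockDefect p B = 0} :=
    fun χ => ⟨Cfsg.blockOf M ((χ : Cfsg.IrrCharacter G) : G → ℂ), ⟨χ.1, rfl⟩,
      (block_of_dvd p M hM χ.1 χ.2).2⟩
  apply Nat.card_congr (Equiv.ofBijective f ⟨?_, ?_⟩)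
  · intro χ χ' h
    have h1 : Cfsg.blockOf M ((χ : Cfsg.IrrCharacter G) : G → ℂ) =
        Cfsg.blockOf M ((χ' : Cfsg.IrrCharacter G) : G → ℂ) := congrArg Subtype.val h
    rw [(block_of_dvd p M hM χ.1 χ.2).1, (block_of_dvd p M hM χ'.1 χ'.2).1] at h1
    exact Subtype.ext (Set.singleton_injective h1)
  · rintro ⟨B, ⟨χ₀, rfl⟩, hdef⟩
    have hmem : χ₀ ∈ Cfsg.blockOf M (χ₀ : G → ℂ) :=
      Cfsg.Agent.Lib.Helper78_LocalRing.mem_blockOf_self hMp χ₀
    obtain ⟨n, hnpos, -, hdeg, hndvd⟩ := Cfsg.Agent.S0914.exists_degree χ₀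
    have hle : (Nat.card G).factorization p ≤
        sInf ((fun χ : Cfsg.IrrCharacter G => (Cfsg.charDegree (χ : G → ℂ)).factorization p) ''
          Cfsg.blockOf M (χ₀ : G → ℂ)) := by
      unfold Cfsg.blockDefect at hdef
      omega
    have hle2 : sInf ((fun χ : Cfsg.IrrCharacter G =>
        (Cfsg.charDegree (χ : G → ℂ)).factorization p) '' Cfsg.blockOf M (χ₀ : G → ℂ)) ≤
        (Cfsg.charDegree (χ₀ : G → ℂ)).factorization p :=
      Nat.sInf_le ⟨χ₀, hmem, rfl⟩
    have hdvd : p ^ (Nat.card G).factorization p ∣ Cfsg.charDegree (χ₀ : G → ℂ) := by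
      rw [hp.pow_dvd_iff_le_factorization (by rw [hdeg]; exact hnpos.ne')]
      exact le_trans hle hle2
    exact ⟨⟨χ₀, hdvd⟩, rfl⟩

end Cfsg.Agent.Lib.Helper3_DZ_BLKDZ
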