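import Mathlib
import Cfsg.Prelude.Def_Characters
import Cfsg.Prelude.Def_ParabolicCharacters
import Cfsg.Prelude.Def_LieTypes
import Cfsg.Prelude.Def_ChevB2
import Cfsg.Agent.Lib.Helper40_DefZeroDefs
import Cfsg.Agent.Lib.Helper40_ChevDZDefs
import Cfsg.Agent.Lib.Helper81_ChevStDeg

/-!
# DEFZERO market, wave 3, package CHCARDP (helper3): `|P_i| = (q + 1) |B|`

Route (B): the `(B, N)`-pair of the Chevalley group, `|B n B| = |B| q^ℓ(n)` (`Helper81_ChevLenBN.card_C`) and
`Helper81_BNIndex.card_parabolic` for `J = {s_i}`: the subgroup of the Weyl group generated by `s_i` is `{1, s_i}`.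
-/

set_option autoImplicit false

namespace Cfsg.Agent.Lib.Helper3_DZ_CHCARDP

open Cfsg Cfsg.Lie Cfsg.Agent.Lib.Helper40_DefZeroDefs Cfsg.Agent.Lib.Helper40_ChevDZDefs

/-- the sum of a function over the subgroup generated by an involution -/
theorem finsum_closure_involution {W : Type*} [Group W] {σ : W} (hσ : σ * σ = 1) (hne : σ ≠ 1)
    (f : W → ℕ) :
    ∑ᶠ x : Subgroup.closure ({σ} : Set W), f (x : W) = f 1 + f σ := by
  have hset : ((Subgroup.closure ({σ} : Set W) : Subgroup W) : Set W) = {1, σ} := by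
    ext x
    constructor
    · intro hx
      have hx' : x ∈ Subgroup.closure ({σ} : Set W) := hx
      rw [Subgroup.mem_closure_singleton] at hx'
      obtain ⟨n, rfl⟩ := hx'
      have hinv : σ⁻¹ = σ := inv_eq_of_mul_eq_one_right hσ
      have h2 : σ ^ (2 : ℤ) = 1 := by
        rw [zpow_two]; exact hσ
      rcases Int.emod_two_eq_zero_or_one n with h | h
      · left
        have : n = 2 * (n / 2) := by omega
        rw [this, zpow_mul, h2, one_zpow]
      · right
        have : n = 2 * (n / 2) + 1 := by omega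
        show σ ^ n = σ
        rw [this, zpow_add, zpow_mul, h2, one_zpow, one_mul, zpow_one]
    · rintro (rfl | rfl)
      · exact Subgroup.one_mem _
      · exact Subgroup.subset_closure rfl
  have h1 : ∑ᶠ x : Subgroup.closure ({σ} : Set W), f (x : W) =
      ∑ᶠ x ∈ ((Subgroup.closure ({σ} : Set W) : Subgroup W) : Set W), f x :=
    finsum_set_coe_eq_finsum_mem (s := ((Subgroup.closure ({σ} : Set W) : Subgroup W) : Set W)) (f := f)
  rw [h1, hset]
  exact finsum_mem_pair (Ne.symm hne)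

section

open Cfsg.Agent.Lib.Helper81_BNSteinberg Cfsg.Agent.Lib.Helper81_ChevSt
  Cfsg.Agent.Lib.Helper81_ChevLenBN Cfsg.Agent.Lib.Helper81_BNIndex
  Cfsg.Agent.Lib.Helper6_Word Cfsg.Agent.Lib.Helper6_BNPair Cfsg.Agent.Lib.Helper81_CoxComb

variable {F : Type*} [Field F] (D : ChevalleyDatum)
  (hD : D ∈ [chevG2, chevB2, chevD4, chevF4, chevE6, chevE7, chevE8])
include hD

theorem ch_card_P [Fintype F] (i : ℕ) (hi : i < D.rank) :
    Nat.card (cP D F i) = (Fintype.card F + 1) * Nat.card (cB D F) := by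
  classical
  obtain ⟨Ns, w, d, Ts, hT, K, base, stepT, wl, ws, sc, c, tc, gc, pc, ac⟩ :=
    Cfsg.Agent.Lib.Helper18_ChevData5.exists_cert5 D hD
  have hR2 : Cfsg.Agent.Lib.Helper18_ChevUni.R2All D F := Cfsg.Agent.Lib.Helper18_ChevComm2.r2_all c pc
  have hdesc := Cfsg.Agent.Lib.Helper18_ChevJCerts.descent_all D hD
  obtain ⟨P, hB, hN, hS⟩ := Cfsg.Agent.Lib.Helper18_ChevBNPair.exists_bnPair c tc ac gc hR2
  have : Fintype ↥(D.group F) := Fintype.ofFinite _
  have hq : ∀ n : P.N, Nat.card (C P ((n : P.N) : ↥(D.group F))) =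
      Nat.card P.B * Fintype.card F ^ ℓ P n := by
    intro n
    rw [card_C P hB hN c tc ac gc hdesc hR2 n, lamP_eq_ℓ P hB hN hS c tc ac gc hdesc hR2 n]
  have hJ : ({i} : Finset ℕ) ⊆ Finset.range D.rank := by
    intro j hj
    rw [Finset.mem_singleton] at hj
    rw [hj]; exact Finset.mem_range.2 hi
  have e1 : cP D F i = P.parabolic (sG c '' ((({i} : Finset ℕ)) : Set ℕ)) :=
    parabolicIn_eq c P hB {i} hJ
  have hJset : sG (F := F) c '' ((({i} : Finset ℕ)) : Set ℕ) = {sG c i} := by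
    rw [Finset.coe_singleton, Set.image_singleton]
  rw [hJset] at e1
  have hsS : sG (F := F) c i ∈ P.S := by
    rw [← sG_image c P hS]
    exact ⟨i, by exact_mod_cast Finset.mem_range.2 hi, rfl⟩
  have hJS : ({sG (F := F) c i} : Set ↥(D.group F)) ⊆ P.S := by
    intro x hx
    rw [Set.mem_singleton_iff] at hx
    rw [hx]; exact hsS
  have hsN : sG (F := F) c i ∈ P.N := P.subset hsS
  -- the Weyl group element
  obtain ⟨σ, hσdef⟩ : ∃ σ : W P, σ = π P ⟨sG c i, hsN⟩ := ⟨_, rfl⟩
  have hσS : σ ∈ SW P := ⟨⟨sG c i, hsN⟩, hsS, hσdef.symm⟩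
  have hσsq : σ * σ = 1 := (invGen P).sq σ hσS
  have hσne : σ ≠ 1 := by
    rw [hσdef]
    intro h1
    exact not_mem_B_of_mem_S P hsS ((π_eq_one_iff P).1 h1)
  have hJW : JW P ({sG (F := F) c i} : Set ↥(D.group F)) = {σ} := by
    ext x
    constructor
    · rintro ⟨n, hn, rfl⟩
      have hn' : (n : ↥(D.group F)) = sG c i := hn
      have : n = ⟨sG c i, hsN⟩ := Subtype.ext hn'
      rw [this, Set.mem_singleton_iff, hσdef]
    · intro hx
      rw [Set.mem_singleton_iff] at hx
      rw [hx, hσdef]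
      exact ⟨⟨sG c i, hsN⟩, rfl, rfl⟩
  have hcard := card_parabolic P (Fintype.card F) hq hJS
  rw [hJW, finsum_closure_involution hσsq hσne (fun x => Fintype.card F ^ len (SW P) x),
    len_one, len_simple (invGen P) hσS hσne, pow_zero, pow_one] at hcard
  rw [e1, hcard, hB]
  unfold cB
  ring

end

end Cfsg.Agent.Lib.Helper3_DZ_CHCARDP
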