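import Mathlib
import Cfsg.Prelude.Def_Characters
import Cfsg.Prelude.Def_ParabolicCharacters
import Cfsg.Prelude.Def_LieTypes
import Cfsg.Prelude.Def_ChevB2
import Cfsg.Agent.Lib.Helper40_DefZeroDefs
import Cfsg.Agent.Lib.Helper40_ChevDZDefs
import Cfsg.Agent.S1036

/-!
# DEFZERO market, wave 3, package CHUNORMAL (helper3): `U` is normal in `B`
-/

set_option autoImplicit false

namespace Cfsg.Agent.Lib.Helper3_DZ_CHUNORMAL

open Cfsg Cfsg.Lie Cfsg.Agent.Lib.Helper40_DefZeroDefs Cfsg.Agent.Lib.Helper40_ChevDZDefs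

variable {F : Type*} [Field F] (D : ChevalleyDatum)
  (hD : D ∈ [chevG2, chevB2, chevD4, chevF4, chevE6, chevE7, chevE8])
include hD

/-- `B ≤ N(U)` in `GL` -/
theorem borel_le_normalizer :
    D.borelSubgroup F ≤ Subgroup.normalizer (D.posUnipotent F : Set (GL D.Idx F)) := by
  unfold ChevalleyDatum.borelSubgroup
  exact sup_le Subgroup.le_normalizer (Cfsg.Agent.S1036.result D hD).1

theorem ch_U_normal : ∀ b ∈ cB D F, ∀ u ∈ cU D F, b * u * b⁻¹ ∈ cU D F := by
  intro b hb u hu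
  have hb' : (b : GL D.Idx F) ∈ D.borelSubgroup F := Subgroup.mem_subgroupOf.mp hb
  have hu' : (u : GL D.Idx F) ∈ D.posUnipotent F := Subgroup.mem_subgroupOf.mp hu
  have h1 := (Subgroup.mem_normalizer_iff.mp (borel_le_normalizer D hD hb') (u : GL D.Idx F)).mp hu'
  exact Subgroup.mem_subgroupOf.mpr (by simpa using h1)

end Cfsg.Agent.Lib.Helper3_DZ_CHUNORMAL
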