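import Mathlib
import Cfsg.Prelude.Def_Characters
import Cfsg.Prelude.Def_ParabolicCharacters
import Cfsg.Agent.Lib.Helper40_DefZeroDefs
import Cfsg.Agent.Lib.Helper40_DefZeroDefs2
import Cfsg.Agent.Lib.Helper39_CharTools
import Cfsg.Agent.Lib.Helper39_Clifford
import Cfsg.Agent.Lib.Helper75_CharArith
import Cfsg.Agent.Lib.Helper3_CharOrtho
import Cfsg.Agent.Lib.Helper3_CharBridge
import Cfsg.Agent.Lib.Helper15_Linear

/-!
# DEFZERO market (helper40), package R6B (helper3)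
-/

set_option autoImplicit false
set_option linter.unusedSectionVars false
set_option linter.unusedVariables false

namespace Cfsg.Agent.Lib.Helper3_DZ_R6B

open Cfsg Cfsg.Agent.Lib.Helper40_DefZeroDefs

variable {P : Type*} [Group P] [Fintype P] {p q : ℕ} [Fact p.Prime]

/-- `ssum` over a subgroup as a sum over the subtype. -/
theorem ssum_subgroup (S : Subgroup P) [Fintype S] (f : P → ℂ) :
    ssum (S : Set P) f = ∑ s : S, f s := by
  classical
  unfold ssum
  rw [← Finset.sum_filter]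
  exact Finset.sum_subtype (Finset.univ.filter (fun g : P => g ∈ (S : Set P)))
    (p := fun g : P => g ∈ S) (F := ‹Fintype S›) (by intro x; simp) f

/-- `ssum` over `U ≤ B` as a sum over `U.subgroupOf B`. -/
theorem ssum_subgroupOf (U B : Subgroup P) (hUB : U ≤ B) [Fintype (U.subgroupOf B)] (f : P → ℂ) :
    ssum (U : Set P) f = ∑ n : (U.subgroupOf B : Subgroup B), f ((n : B) : P) := by
  classical
  let _ : Fintype U := Fintype.ofFinite _
  rw [ssum_subgroup U f]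
  symm
  refine Fintype.sum_equiv (Subgroup.subgroupOfEquivOfLe hUB).toEquiv _ _ (fun n => ?_)
  rfl

/-- **R6B**. -/
theorem dz_r6b (R : RData P p q) [Fintype R.B] (φ : P → ℂ) (hφ : Cfsg.IsCharacter P φ)
    (hext : ∀ θ : R.B → ℂ, Cfsg.IsCharacter R.B θ → θ 1 = 1 →
      (∀ b : R.B, (b : P) ∈ R.U → θ b = 1) → Cfsg.classInner (fun b : R.B => φ b) θ ≠ 0 →
      ∃ lam : P → ℂ, Cfsg.IsCharacter P lam ∧ lam 1 = 1 ∧ ∀ b : R.B, lam b = θ b) :
    ∀ t ∈ R.B, t ∈ Subgroup.normalClosure (R.U : Set P) → ∀ b ∈ R.B,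
      ssum (R.U : Set P) (fun u => φ (b * t * u)) = ssum (R.U : Set P) (fun u => φ (b * u)) := by
  classical
  intro t htB htN b hbB
  -- the normal subgroup `N = U ∩ B` of `B`
  set N : Subgroup R.B := R.U.subgroupOf R.B with hN
  have hNn : N.Normal := by
    refine ⟨fun n hn g => ?_⟩
    rw [hN, Subgroup.mem_subgroupOf] at hn ⊢
    exact R.U_normal g g.2 n hn
  let _ : Fintype N := Fintype.ofFinite _
  have hcomm : ∀ a b : R.B, a * b * a⁻¹ * b⁻¹ ∈ N := by
    intro a b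
    rw [hN, Subgroup.mem_subgroupOf]
    exact R.comm_mem a a.2 b b.2
  -- the restriction of `φ` to `B`
  set ξ : R.B → ℂ := fun b => φ b with hξ
  have hξc : Cfsg.IsCharacter R.B ξ :=
    Cfsg.Agent.Lib.Helper75_CharArith.isCharacter_restrict R.B hφ
  obtain ⟨m, hm, hdec⟩ := Cfsg.Agent.Lib.Helper39_CharTools.char_eq_sum_nat hξc
  rw [ssum_subgroupOf R.U R.B R.U_le_B, ssum_subgroupOf R.U R.B R.U_le_B]
  have e1 : ∀ n : N, φ (b * t * ((n : R.B) : P)) = ξ (⟨b, hbB⟩ * ⟨t, htB⟩ * (n : R.B)) := fun n => rfl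
  have e2 : ∀ n : N, φ (b * ((n : R.B) : P)) = ξ (⟨b, hbB⟩ * (n : R.B)) := fun n => rfl
  simp_rw [e1, e2, hdec]
  rw [Finset.sum_comm]
  conv_rhs => rw [Finset.sum_comm]
  refine Finset.sum_congr rfl (fun θ' _ => ?_)
  by_cases hm0 : m θ' = 0
  · simp [hm0]
  rw [← Finset.mul_sum, ← Finset.mul_sum]
  congr 1
  have hθc : Cfsg.IsCharacter R.B (θ' : R.B → ℂ) :=
    Cfsg.Agent.Lib.Helper3_CharBridge.isCharacter_of_isIrrCharacter θ'.2
  by_cases hs : ∑ n : N, (θ' : R.B → ℂ) n = 0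
  · rw [Cfsg.Agent.Lib.Helper39_Clifford.sum_isCharacter_mul_eq_zero hθc N hs,
      Cfsg.Agent.Lib.Helper39_Clifford.sum_isCharacter_mul_eq_zero hθc N hs]
  · -- `θ'` is linear and trivial on `U`
    obtain ⟨μ, hμc, hμ1, hμN, hμne⟩ :=
      Cfsg.Agent.Lib.Helper39_Clifford.exists_linear_constituent' N hcomm (θ' : R.B → ℂ) hθc hs
    have hμirr : Cfsg.IsIrrCharacter R.B μ :=
      Cfsg.Agent.Lib.Helper39_CharTools.isIrrCharacter_of_isCharacter_of_one_eq_one hμc hμ1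
    have hθμ : (θ' : R.B → ℂ) = μ := by
      by_contra hne
      rw [Cfsg.Agent.Lib.Helper3_CharOrtho.classInner_irr θ'.2 hμirr, if_neg hne] at hμne
      exact hμne rfl
    have hθ1 : (θ' : R.B → ℂ) 1 = 1 := by rw [hθμ]; exact hμ1
    have hθU : ∀ b : R.B, (b : P) ∈ R.U → (θ' : R.B → ℂ) b = 1 := by
      intro b hb
      rw [hθμ]
      exact hμN ⟨b, by rw [hN, Subgroup.mem_subgroupOf]; exact hb⟩
    have hne : Cfsg.classInner (fun b : R.B => φ b) (θ' : R.B → ℂ) ≠ 0 := by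
      rw [show (fun b : R.B => φ b) = ξ from rfl, hm θ']
      exact_mod_cast hm0
    obtain ⟨lam, hlc, hl1, hlB⟩ := hext (θ' : R.B → ℂ) hθc hθ1 hθU hne
    -- `t` lies in the kernel of `lam`
    have hker : Subgroup.normalClosure (R.U : Set P) ≤
        (Cfsg.Agent.Lib.Helper15_Linear.linearHom lam hlc hl1).ker := by
      apply Subgroup.normalClosure_le_normal
      intro u hu
      rw [SetLike.mem_coe, MonoidHom.mem_ker,
        Cfsg.Agent.Lib.Helper15_Linear.linearHom_apply]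
      have := hlB ⟨u, R.U_le_B hu⟩
      rw [this]
      exact hθU ⟨u, R.U_le_B hu⟩ hu
    have hlt : lam t = 1 := by
      have := hker htN
      rwa [MonoidHom.mem_ker, Cfsg.Agent.Lib.Helper15_Linear.linearHom_apply] at this
    have hθt : (θ' : R.B → ℂ) ⟨t, htB⟩ = 1 := by
      rw [← hlB ⟨t, htB⟩]
      exact hlt
    refine Finset.sum_congr rfl (fun n _ => ?_)
    rw [Cfsg.Agent.Lib.Helper15_Linear.linear_mul _ hθc hθ1,
      Cfsg.Agent.Lib.Helper15_Linear.linear_mul _ hθc hθ1, hθt, mul_one,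
      ← Cfsg.Agent.Lib.Helper15_Linear.linear_mul _ hθc hθ1]

end Cfsg.Agent.Lib.Helper3_DZ_R6B
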