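import Mathlib

/-!
# Groups with a self-centralizing element of prime order (helper3)

`x` of prime order `p` with `C_G(x) = ⟨x⟩`.  Then `⟨x⟩` is a TI Sylow `p`-subgroup
(`exists_sylow`, `ti`), every element of order `p` is conjugate into it (`exists_conj_mem`),
fusion in `⟨x⟩` is controlled by `N = N_G(⟨x⟩)` (`exists_normalizer_conj`), every class of
elements of order `p` meets `⟨x⟩` in exactly `|N| / p` elements (`card_class_inter`,
`sum_nontrivial_eq`), and `N / ⟨x⟩` is cyclic (`exists_two_element`).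
-/

set_option autoImplicit false
set_option linter.unusedSectionVars false

namespace Cfsg.Agent.Lib.Helper3_SelfCent

open Subgroup

variable {G : Type*} [Group G] [Finite G]
variable {p : ℕ} {x : G}

theorem card_zpowers (hx : orderOf x = p) : Nat.card (zpowers x) = p := by
  rw [Nat.card_zpowers, hx]

theorem zpowers_eq_of_mem (hp : p.Prime) (hx : orderOf x = p) {u : G} (hu : u ∈ zpowers x)
    (hu1 : u ≠ 1) : zpowers u = zpowers x := by
  apply Subgroup.eq_of_le_of_card_ge (zpowers_le.mpr hu)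
  rw [Nat.card_zpowers, Nat.card_zpowers, hx]
  have h1 : orderOf u ∣ p := by
    apply orderOf_dvd_of_pow_eq_one
    obtain ⟨k, rfl⟩ := hu
    rw [← zpow_natCast, ← zpow_mul, mul_comm, zpow_mul, zpow_natCast, ← hx, pow_orderOf_eq_one,
      one_zpow]
  rcases (Nat.dvd_prime hp).mp h1 with h | h
  · exact absurd (orderOf_eq_one_iff.mp h) hu1
  · exact h.ge

theorem orderOf_eq_of_mem (hp : p.Prime) (hx : orderOf x = p) {u : G} (hu : u ∈ zpowers x)
    (hu1 : u ≠ 1) : orderOf u = p := by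
  rw [← Nat.card_zpowers, zpowers_eq_of_mem hp hx hu hu1, Nat.card_zpowers, hx]

theorem centralizer_eq_of_mem (hp : p.Prime) (hx : orderOf x = p)
    (hC : centralizer ({x} : Set G) = zpowers x) {u : G} (hu : u ∈ zpowers x)
    (hu1 : u ≠ 1) : centralizer ({u} : Set G) = zpowers x := by
  have hxu : x ∈ zpowers u := by
    rw [zpowers_eq_of_mem hp hx hu hu1]
    exact mem_zpowers x
  ext g
  constructor
  · intro hg
    rw [← hC, mem_centralizer_singleton_iff]
    rw [mem_centralizer_singleton_iff] at hg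
    obtain ⟨k, rfl⟩ := hxu
    exact ((Commute.zpow_right (show Commute g u from hg) k)).eq
  · intro hg
    rw [mem_centralizer_singleton_iff]
    obtain ⟨i, rfl⟩ := hg
    obtain ⟨j, rfl⟩ := hu
    exact ((Commute.refl x).zpow_zpow i j).eq

theorem x_ne_one (hp : p.Prime) (hx : orderOf x = p) : x ≠ 1 := by
  intro h
  rw [h, orderOf_one] at hx
  exact hp.one_lt.ne hx

/-- `⟨x⟩` is a Sylow `p`-subgroup. -/
theorem exists_sylow (hp : p.Prime) (hx : orderOf x = p)
    (hC : centralizer ({x} : Set G) = zpowers x) :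
    ∃ Q : Sylow p G, (Q : Subgroup G) = zpowers x := by
  have : Fact p.Prime := ⟨hp⟩
  have hPG : IsPGroup p (zpowers x) := by
    apply IsPGroup.of_card (n := 1)
    rw [Nat.card_zpowers, hx, pow_one]
  obtain ⟨Q, hQ⟩ := hPG.exists_le_sylow
  refine ⟨Q, le_antisymm ?_ hQ⟩
  have hxQ : x ∈ (Q : Subgroup G) := hQ (mem_zpowers x)
  have : Nontrivial (Q : Subgroup G) :=
    ⟨⟨⟨x, hxQ⟩, 1, fun h => x_ne_one hp hx (congrArg Subtype.val h)⟩⟩
  have := Q.isPGroup'.center_nontrivial
  obtain ⟨z, hz⟩ := exists_ne (1 : Subgroup.center (Q : Subgroup G))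
  have hz1 : ((z : (Q : Subgroup G)) : G) ≠ 1 := by
    intro h
    apply hz
    ext
    exact h
  have hzx : ((z : (Q : Subgroup G)) : G) ∈ zpowers x := by
    rw [← hC, mem_centralizer_singleton_iff]
    have := (Subgroup.mem_center_iff.mp z.2) ⟨x, hxQ⟩
    exact (congrArg Subtype.val this).symm
  intro q hq
  rw [← centralizer_eq_of_mem hp hx hC hzx hz1, mem_centralizer_singleton_iff]
  have := (Subgroup.mem_center_iff.mp z.2) ⟨q, hq⟩
  exact (congrArg Subtype.val this)

/-- `⟨x⟩` is a TI-subgroup. -/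
theorem ti (hp : p.Prime) (hx : orderOf x = p) (g : G)
    (hg : g ∉ normalizer ((zpowers x : Subgroup G) : Set G)) (t : G) (ht : t ∈ zpowers x)
    (hgt : g * t * g⁻¹ ∈ zpowers x) : t = 1 := by
  by_contra ht1
  apply hg
  apply mem_normalizer_fintype
  intro n hn
  have hn' : n ∈ zpowers t := by
    rw [zpowers_eq_of_mem hp hx ht ht1]
    exact hn
  obtain ⟨k, rfl⟩ := hn'
  have : g * t ^ k * g⁻¹ = (g * t * g⁻¹) ^ k := by
    rw [conj_zpow]
  rw [this]
  exact (zpowers x).zpow_mem hgt k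

/-- every element of order `p` is conjugate into `⟨x⟩`. -/
theorem exists_conj_mem (hp : p.Prime) (hx : orderOf x = p)
    (hC : centralizer ({x} : Set G) = zpowers x) (g : G) (hg : orderOf g = p) :
    ∃ c : G, c * g * c⁻¹ ∈ zpowers x := by
  have : Fact p.Prime := ⟨hp⟩
  obtain ⟨Q, hQ⟩ := exists_sylow hp hx hC
  have hPG : IsPGroup p (zpowers g) := by
    apply IsPGroup.of_card (n := 1)
    rw [Nat.card_zpowers, hg, pow_one]
  obtain ⟨Q', hQ'⟩ := hPG.exists_le_sylow
  obtain ⟨c, hc⟩ := MulAction.exists_smul_eq G Q' Q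
  refine ⟨c, ?_⟩
  rw [← hQ, ← hc, Sylow.coe_subgroup_smul]
  have : c * g * c⁻¹ = MulAut.conj c • g := rfl
  rw [this]
  exact Subgroup.smul_mem_pointwise_smul _ _ _ (hQ' (mem_zpowers g))

/-- fusion is controlled by the normalizer. -/
theorem exists_normalizer_conj (hp : p.Prime) (hx : orderOf x = p)
    (hC : centralizer ({x} : Set G) = zpowers x) (u g : G) (hu : u ∈ zpowers x)
    (hgu : g * u * g⁻¹ ∈ zpowers x) :
    ∃ n ∈ normalizer ((zpowers x : Subgroup G) : Set G), g * u * g⁻¹ = n * u * n⁻¹ := by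
  have : Fact p.Prime := ⟨hp⟩
  obtain ⟨Q, hQ⟩ := exists_sylow hp hx hC
  have hcomm : ∀ a ∈ zpowers x, a ∈ centralizer ((Q : Subgroup G) : Set G) := by
    intro a ha
    rw [hQ]
    intro b hb
    obtain ⟨i, rfl⟩ := ha
    obtain ⟨j, rfl⟩ := hb
    exact ((Commute.refl x).zpow_zpow j i).eq
  obtain ⟨n, hn, hn'⟩ := Q.conj_eq_normalizer_conj_of_mem_centralizer u g⁻¹ (hcomm u hu)
    (by rw [inv_inv]; exact hcomm _ hgu)
  rw [inv_inv] at hn'
  refine ⟨n⁻¹, ?_, by rw [inv_inv]; exact hn'⟩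
  rw [← hQ]
  exact inv_mem hn

theorem zpowers_le_normalizer : zpowers x ≤ normalizer ((zpowers x : Subgroup G) : Set G) :=
  le_normalizer

/-- The number of elements of `⟨x⟩` conjugate to a fixed nontrivial `u₀ ∈ ⟨x⟩`. -/
theorem card_class_inter [Fintype G] [DecidableEq G] (hp : p.Prime) (hx : orderOf x = p)
    (hC : centralizer ({x} : Set G) = zpowers x) (u₀ : G) (hu₀ : u₀ ∈ zpowers x)
    (hu₀1 : u₀ ≠ 1) [DecidablePred (fun u : G => u ∈ zpowers x ∧ IsConj u₀ u)] :
    Nat.card (normalizer ((zpowers x : Subgroup G) : Set G)) =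
      (Finset.univ.filter (fun u : G => u ∈ zpowers x ∧ IsConj u₀ u)).card * p := by
  classical
  set N := normalizer ((zpowers x : Subgroup G) : Set G) with hN
  set S := Finset.univ.filter (fun u : G => u ∈ zpowers x ∧ IsConj u₀ u) with hS
  have hnorm : ∀ n : N, ∀ a ∈ zpowers x, (n : G) * a * (n : G)⁻¹ ∈ zpowers x := by
    intro n a ha
    exact (mem_set_normalizer_iff.mp n.2 a).mp ha
  let f : N → G := fun n => (n : G) * u₀ * (n : G)⁻¹
  have hf : ∀ n ∈ (Finset.univ : Finset N), f n ∈ S := by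
    intro n _
    rw [hS, Finset.mem_filter]
    exact ⟨Finset.mem_univ _, hnorm n u₀ hu₀, isConj_iff.mpr ⟨n, rfl⟩⟩
  rw [Nat.card_eq_fintype_card, ← Finset.card_univ, Finset.card_eq_sum_card_fiberwise hf]
  have hfib : ∀ s ∈ S, (Finset.univ.filter (fun n : N => f n = s)).card = p := by
    intro s hs
    rw [hS, Finset.mem_filter] at hs
    obtain ⟨_, hsP, hconj⟩ := hs
    obtain ⟨g, hg⟩ := isConj_iff.mp hconj
    obtain ⟨n₀, hn₀, hn₀'⟩ := exists_normalizer_conj hp hx hC u₀ g hu₀ (hg ▸ hsP)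
    have hcent := centralizer_eq_of_mem hp hx hC hu₀ hu₀1
    have hPcard : Fintype.card (zpowers x) = p := by
      rw [← Nat.card_eq_fintype_card, Nat.card_zpowers, hx]
    rw [← hPcard, ← Finset.card_univ]
    refine Finset.card_bij' (fun n _ => (⟨n₀⁻¹ * (n : G), ?_⟩ : zpowers x))
      (fun w _ => (⟨n₀ * (w : G), ?_⟩ : N)) ?_ ?_ ?_ ?_
    · -- membership in zpowers x
      rename_i hn
      rw [Finset.mem_filter] at hn
      have h1 : (n : G) * u₀ * (n : G)⁻¹ = n₀ * u₀ * n₀⁻¹ := by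
        rw [← hn₀', hg]; exact hn.2
      rw [← hcent, mem_centralizer_singleton_iff]
      have : n₀⁻¹ * ((n : G) * u₀ * (n : G)⁻¹) * n₀ = u₀ := by
        rw [h1]; group
      calc n₀⁻¹ * (n : G) * u₀ = (n₀⁻¹ * ((n : G) * u₀ * (n : G)⁻¹) * n₀) * (n₀⁻¹ * (n : G)) := by
            group
        _ = u₀ * (n₀⁻¹ * (n : G)) := by rw [this]
    · exact N.mul_mem hn₀ (zpowers_le_normalizer w.2)
    · intro n hn
      exact Finset.mem_univ _
    · intro w _
      rw [Finset.mem_filter]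
      refine ⟨Finset.mem_univ _, ?_⟩
      show n₀ * (w : G) * u₀ * (n₀ * (w : G))⁻¹ = s
      have hw : (w : G) * u₀ = u₀ * (w : G) := by
        have : (w : G) ∈ centralizer ({u₀} : Set G) := by rw [hcent]; exact w.2
        exact mem_centralizer_singleton_iff.mp this
      calc n₀ * (w : G) * u₀ * (n₀ * (w : G))⁻¹ = n₀ * ((w : G) * u₀) * (w : G)⁻¹ * n₀⁻¹ := by group
        _ = n₀ * u₀ * n₀⁻¹ := by rw [hw]; group
        _ = s := by rw [← hn₀', hg]
    · intro n hn
      ext
      simp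
    · intro w _
      ext
      simp
  rw [Finset.sum_congr rfl hfib, Finset.sum_const, smul_eq_mul]

/-- Sum of a class function over the nontrivial elements of `⟨x⟩`. -/
theorem sum_nontrivial_eq [Fintype G] (hp : p.Prime) (hx : orderOf x = p)
    (hC : centralizer ({x} : Set G) = zpowers x) (e : ℕ)
    (he : Nat.card (normalizer ((zpowers x : Subgroup G) : Set G)) = e * p)
    (F : G → ℂ) (hF : ∀ g h : G, F (h * g * h⁻¹) = F g)
    [DecidablePred (fun u : G => u ∈ zpowers x)] [DecidableEq G]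
    [DecidablePred (fun C : ConjClasses G => ∃ g ∈ C.carrier, orderOf g = p)] :
    ∑ u ∈ (Finset.univ.filter (fun u : G => u ∈ zpowers x)).erase 1, F u =
      (e : ℂ) * ∑ C ∈ Finset.univ.filter
        (fun C : ConjClasses G => ∃ g ∈ C.carrier, orderOf g = p), F (Quotient.out C) := by
  classical
  set PS := (Finset.univ.filter (fun u : G => u ∈ zpowers x)).erase 1 with hPS
  set T := Finset.univ.filter (fun C : ConjClasses G => ∃ g ∈ C.carrier, orderOf g = p) with hT
  have hmem : ∀ u, u ∈ PS ↔ u ∈ zpowers x ∧ u ≠ 1 := by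
    intro u
    rw [hPS, Finset.mem_erase, Finset.mem_filter]
    simp [and_comm]
  have hmaps : ∀ u ∈ PS, ConjClasses.mk u ∈ T := by
    intro u hu
    rw [hmem] at hu
    rw [hT, Finset.mem_filter]
    exact ⟨Finset.mem_univ _, u, ConjClasses.mem_carrier_mk, orderOf_eq_of_mem hp hx hu.1 hu.2⟩
  rw [← Finset.sum_fiberwise_of_maps_to hmaps, Finset.mul_sum]
  refine Finset.sum_congr rfl (fun C hC' => ?_)
  rw [hT, Finset.mem_filter] at hC'
  obtain ⟨_, g, hgC, hgp⟩ := hC'
  have hgC' : ConjClasses.mk g = C := ConjClasses.mem_carrier_iff_mk_eq.mp hgC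
  obtain ⟨c, hc⟩ := exists_conj_mem hp hx hC g hgp
  set u₀ := c * g * c⁻¹ with hu₀
  have hu₀C : ConjClasses.mk u₀ = C := by
    rw [← hgC', ConjClasses.mk_eq_mk_iff_isConj]
    exact (isConj_iff.mpr ⟨c, rfl⟩).symm
  have hu₀1 : u₀ ≠ 1 := by
    intro h
    have h2 : g = 1 := by
      have : c⁻¹ * u₀ * c = g := by rw [hu₀]; group
      rw [← this, h]; group
    rw [h2, orderOf_one] at hgp
    exact hp.one_lt.ne hgp
  have hval : ∀ u ∈ PS.filter (fun u => ConjClasses.mk u = C), F u = F (Quotient.out C) := by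
    intro u hu
    rw [Finset.mem_filter] at hu
    have h1 : ConjClasses.mk u = ConjClasses.mk (Quotient.out C) := by
      rw [hu.2]; exact (Quotient.out_eq C).symm
    obtain ⟨d, hd⟩ := isConj_iff.mp (ConjClasses.mk_eq_mk_iff_isConj.mp h1)
    rw [← hd, hF]
  rw [Finset.sum_congr rfl hval, Finset.sum_const, nsmul_eq_mul]
  congr 1
  have hset : PS.filter (fun u => ConjClasses.mk u = C) =
      Finset.univ.filter (fun u : G => u ∈ zpowers x ∧ IsConj u₀ u) := by
    ext u
    rw [Finset.mem_filter, Finset.mem_filter, hmem, ← hu₀C, ConjClasses.mk_eq_mk_iff_isConj]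
    constructor
    · rintro ⟨⟨h1, _⟩, h3⟩
      exact ⟨Finset.mem_univ _, h1, h3.symm⟩
    · rintro ⟨_, h1, h3⟩
      refine ⟨⟨h1, ?_⟩, h3.symm⟩
      rintro rfl
      apply hu₀1
      obtain ⟨d, hd⟩ := isConj_iff.mp h3
      have : u₀ = d⁻¹ * 1 * d := by rw [← hd]; group
      rw [this]; group
  have hcard := card_class_inter hp hx hC u₀ hc hu₀1
  rw [he] at hcard
  have := Nat.eq_of_mul_eq_mul_right hp.pos hcard
  rw [hset, ← this]


theorem centralizer_zpowers_eq (hC : centralizer ({x} : Set G) = zpowers x) :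
    centralizer ((zpowers x : Subgroup G) : Set G) = zpowers x := by
  ext g
  constructor
  · intro hg
    rw [← hC, mem_centralizer_singleton_iff]
    exact (hg x (mem_zpowers x)).symm
  · intro hg a ha
    obtain ⟨i, rfl⟩ := hg
    obtain ⟨j, rfl⟩ := ha
    exact ((Commute.refl x).zpow_zpow j i).eq

/-- An element of `N_G(⟨x⟩)` of order the full `2`-part of `|N : ⟨x⟩|`, all of whose nontrivial
powers lie outside `⟨x⟩`. -/
theorem exists_two_element (hp : p.Prime) (hp2 : p ≠ 2) (hx : orderOf x = p)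
    (hC : centralizer ({x} : Set G) = zpowers x) (e k e' : ℕ)
    (he : Nat.card (normalizer ((zpowers x : Subgroup G) : Set G)) = e * p)
    (hek : e = 2 ^ k * e') (he' : Odd e') :
    ∃ y : G, y ∈ normalizer ((zpowers x : Subgroup G) : Set G) ∧ orderOf y = 2 ^ k ∧
      ∀ j : ℕ, 0 < j → j < 2 ^ k → y ^ j ∉ zpowers x := by
  classical
  set N := normalizer ((zpowers x : Subgroup G) : Set G) with hN
  set φ : N →* MulAut (zpowers x) := (zpowers x).normalizerMonoidHom with hφ
  have hker : φ.ker = (zpowers x).subgroupOf N := by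
    rw [hφ, normalizerMonoidHom_ker, centralizer_zpowers_eq hC]
  have hPcard : Nat.card (zpowers x) = p := by rw [Nat.card_zpowers, hx]
  have hkercard : Nat.card φ.ker = p := by
    rw [hker, ← hPcard]
    exact Nat.card_congr (Subgroup.subgroupOfEquivOfLe le_normalizer).toEquiv
  have hrange : Nat.card φ.range = e := by
    have h1 := Subgroup.card_mul_index φ.ker
    rw [Subgroup.index_ker, hkercard, he, mul_comm] at h1
    exact Nat.eq_of_mul_eq_mul_right hp.pos h1
  have hcyc0 : IsCyclic (ZMod (Nat.card (zpowers x)))ˣ := by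
    rw [hPcard]
    exact ZMod.isCyclic_units_prime hp
  have hcyc1 : IsCyclic (MulAut (zpowers x)) :=
    (IsCyclic.mulAutMulEquiv (zpowers x)).isCyclic.mpr hcyc0
  have hcyc : IsCyclic φ.range := inferInstance
  obtain ⟨g₀, hg₀⟩ := hcyc.exists_generator
  have hg₀ord : orderOf g₀ = e := by
    rw [orderOf_eq_card_of_forall_mem_zpowers hg₀, hrange]
  have he'pos : e' ≠ 0 := by
    rintro rfl
    exact (Nat.not_odd_iff_even.mpr (by decide : Even 0)) he'
  have hrord : orderOf (g₀ ^ e') = 2 ^ k := by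
    rw [orderOf_pow_of_dvd he'pos (by rw [hg₀ord, hek]; exact dvd_mul_left _ _), hg₀ord, hek,
      Nat.mul_div_cancel _ (Nat.pos_of_ne_zero he'pos)]
  obtain ⟨n₀, hn₀⟩ : ∃ n₀ : N, φ n₀ = ((g₀ ^ e' : φ.range) : MulAut (zpowers x)) :=
    (g₀ ^ e' : φ.range).2
  have hφn₀ord : orderOf (φ n₀) = 2 ^ k := by
    rw [hn₀, Subgroup.orderOf_coe, hrord]
  obtain ⟨a, b, hb, hab⟩ := Nat.exists_eq_two_pow_mul_odd (orderOf_pos n₀).ne'
  have hb0 : b ≠ 0 := by
    rintro rfl
    exact (Nat.not_odd_iff_even.mpr (by decide : Even 0)) hb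
  set y : N := n₀ ^ b with hy
  have hyord : orderOf y = 2 ^ a := by
    rw [hy, orderOf_pow_of_dvd hb0 (by rw [hab]; exact dvd_mul_left _ _), hab,
      Nat.mul_div_cancel _ (Nat.pos_of_ne_zero hb0)]
  have hφy : orderOf (φ y) = 2 ^ k := by
    rw [hy, map_pow, Nat.Coprime.orderOf_pow, hφn₀ord]
    rw [hφn₀ord]
    exact Nat.Coprime.pow_left k (Nat.coprime_two_left.mpr hb)
  have hka : 2 ^ k ∣ 2 ^ a := by
    rw [← hφy, ← hyord]
    exact orderOf_map_dvd φ y
  have hpow_ker : y ^ (2 ^ k) ∈ φ.ker := by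
    rw [MonoidHom.mem_ker, map_pow, ← hφy, pow_orderOf_eq_one]
  have hpow_one : y ^ (2 ^ k) = 1 := by
    have h1 : orderOf (y ^ (2 ^ k)) ∣ 2 ^ a := by
      rw [← hyord]
      exact orderOf_pow_dvd _
    have h2 : orderOf (y ^ (2 ^ k)) ∣ p := by
      have h3 : orderOf (⟨y ^ (2 ^ k), hpow_ker⟩ : φ.ker) ∣ Nat.card φ.ker := orderOf_dvd_natCard _
      rw [hkercard] at h3
      have h4 : orderOf (⟨y ^ (2 ^ k), hpow_ker⟩ : φ.ker) = orderOf (y ^ (2 ^ k)) :=
        (Subgroup.orderOf_coe (⟨y ^ (2 ^ k), hpow_ker⟩ : φ.ker)).symm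
      rw [← h4]
      exact h3
    have h5 : Nat.Coprime (2 ^ a) p := by
      apply Nat.Coprime.pow_left
      rw [Nat.coprime_primes Nat.prime_two hp]
      exact fun h => hp2 h.symm
    have h6 : orderOf (y ^ (2 ^ k)) = 1 := Nat.eq_one_of_dvd_coprimes h5 h1 h2
    exact orderOf_eq_one_iff.mp h6
  have hyord' : orderOf y = 2 ^ k := by
    apply Nat.dvd_antisymm (orderOf_dvd_of_pow_eq_one hpow_one)
    rw [hyord]
    exact hka
  refine ⟨(y : G), y.2, ?_, ?_⟩
  · rw [Subgroup.orderOf_coe, hyord']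
  · intro j hj0 hjk hmem
    have h1 : y ^ j ∈ φ.ker := by
      rw [hker, Subgroup.mem_subgroupOf]
      exact_mod_cast hmem
    rw [MonoidHom.mem_ker, map_pow] at h1
    have h2 : 2 ^ k ∣ j := by
      rw [← hφy]
      exact orderOf_dvd_of_pow_eq_one h1
    exact absurd (Nat.le_of_dvd hj0 h2) (by omega)


end Cfsg.Agent.Lib.Helper3_SelfCent
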