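import Mathlib
import Cfsg.Prelude.Def_Characters
import Cfsg.Agent.Lib.Helper3_CharOrtho
import Cfsg.Agent.Lib.Helper3_Exceptional
import Cfsg.Agent.Lib.Helper75_Induced
import Cfsg.Agent.Lib.Helper75_TISubset

/-!
# Vanishing off a subgroup and the TI bound (helper3)

* `sum_rho_eq_zero`, `sum_char_mul_eq_zero` : if `[χ|_P, 1_P] = 0` then `∑_{u ∈ P} ρ u = 0` and
  `∑_{u ∈ P} χ (g u) = 0` for every `g`.
* `eq_zero_of_normalizes` : a class function with vanishing coset sums vanishes at every `h`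
  normalizing `P` with `C_P(h) = 1`.
* `ti_bound` : for a TI subgroup `P` with normalizer `N` and `χ` irreducible,
  `∑_{u ∈ P, u ≠ 1} |χ u|² < |N|`.
-/

set_option autoImplicit false
set_option linter.unusedSectionVars false

namespace Cfsg.Agent.Lib.Helper3_VanishTI

open scoped ComplexConjugate
open Cfsg.Agent.Lib.Helper3_CharBridge Cfsg.Agent.Lib.Helper3_CharOrtho
  Cfsg.Agent.Lib.Helper75_Induced Cfsg.Agent.Lib.Helper75_TISubset
  Cfsg.Agent.Lib.Helper3_Exceptional

section ops

variable {G : Type*} [Group G] {V : Type*} [AddCommGroup V] [Module ℂ V]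
  [FiniteDimensional ℂ V] (ρ : Representation ℂ G V)

/-- If the character of `ρ` sums to zero over the finite subgroup `P`, then `∑_{u ∈ P} ρ u = 0`. -/
theorem sum_rho_eq_zero (P : Subgroup G) [Fintype P]
    (h : ∑ u : P, ρ.character (u : G) = 0) : ∑ u : P, ρ (u : G) = 0 := by
  set T : Module.End ℂ V := ∑ u : P, ρ (u : G) with hT
  have hc : (Fintype.card P : ℂ) ≠ 0 := by
    exact_mod_cast Fintype.card_ne_zero
  have hv : ∀ v : P, ρ (v : G) * T = T := by
    intro v
    rw [hT, Finset.mul_sum]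
    apply Fintype.sum_equiv (Equiv.mulLeft v)
    intro u
    simp [map_mul]
  have hTT : T * T = (Fintype.card P : ℂ) • T := by
    conv_lhs => rw [hT]
    rw [Finset.sum_mul]
    rw [Finset.sum_congr rfl (fun v _ => hv v), Finset.sum_const, Finset.card_univ,
      Nat.cast_smul_eq_nsmul]
  set E : Module.End ℂ V := (Fintype.card P : ℂ)⁻¹ • T with hE
  have hidem : IsIdempotentElem E := by
    unfold IsIdempotentElem
    rw [hE, smul_mul_smul_comm, hTT, smul_smul, mul_assoc, inv_mul_cancel₀ hc, mul_one]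
  have htr : LinearMap.trace ℂ V E = 0 := by
    rw [hE, map_smul, hT, map_sum]
    have : ∑ u : P, LinearMap.trace ℂ V (ρ (u : G)) = 0 := h
    rw [this, smul_zero]
  have hE0 : E = 0 := LinearMap.IsIdempotentElem.eq_zero_of_trace_eq_zero hidem htr
  have : T = (Fintype.card P : ℂ) • E := by
    rw [hE, smul_smul, mul_inv_cancel₀ hc, one_smul]
  rw [this, hE0, smul_zero]

theorem sum_char_mul_eq_zero (P : Subgroup G) [Fintype P]
    (h : ∑ u : P, ρ.character (u : G) = 0) (g : G) :
    ∑ u : P, ρ.character (g * (u : G)) = 0 := by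
  have h1 : ∑ u : P, ρ.character (g * (u : G)) =
      LinearMap.trace ℂ V (ρ g * ∑ u : P, ρ (u : G)) := by
    rw [Finset.mul_sum, map_sum]
    refine Finset.sum_congr rfl (fun u _ => ?_)
    rw [Representation.character, map_mul]
  rw [h1, sum_rho_eq_zero ρ P h, mul_zero, map_zero]

end ops

section cls

variable {G : Type*} [Group G]

/-- A class function whose sums over the cosets `g P` vanish is zero at every element that
normalizes `P` and commutes with no nontrivial element of `P`. -/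
theorem eq_zero_of_normalizes (χ : G → ℂ) (hχ : ∀ g h : G, χ (h * g * h⁻¹) = χ g)
    (P : Subgroup G) [Fintype P] (hsum : ∀ g : G, ∑ u : P, χ (g * (u : G)) = 0) (h : G)
    (hn : ∀ u ∈ P, h⁻¹ * u * h ∈ P) (hfree : ∀ w ∈ P, w * h = h * w → w = 1) : χ h = 0 := by
  let κ : P → P := fun u => ⟨h⁻¹ * (u : G) * h * (u : G)⁻¹, P.mul_mem (hn u u.2) (P.inv_mem u.2)⟩
  have hκinj : Function.Injective κ := by
    intro u v huv
    have h1 : h⁻¹ * (u : G) * h * (u : G)⁻¹ = h⁻¹ * (v : G) * h * (v : G)⁻¹ :=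
      congrArg Subtype.val huv
    have h2 : ((v : G)⁻¹ * (u : G)) * h = h * ((v : G)⁻¹ * (u : G)) := by
      have h3 : (u : G) * h * (u : G)⁻¹ = (v : G) * h * (v : G)⁻¹ := by
        have := congrArg (fun t => h * t) h1
        simpa [mul_assoc] using this
      calc ((v : G)⁻¹ * (u : G)) * h = (v : G)⁻¹ * ((u : G) * h * (u : G)⁻¹) * (u : G) := by group
        _ = (v : G)⁻¹ * ((v : G) * h * (v : G)⁻¹) * (u : G) := by rw [h3]
        _ = h * ((v : G)⁻¹ * (u : G)) := by group
    have h4 := hfree _ (P.mul_mem (P.inv_mem v.2) u.2) h2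
    ext
    have : (u : G) = (v : G) * ((v : G)⁻¹ * (u : G)) := by group
    rw [this, h4, mul_one]
  have hκbij : Function.Bijective κ := Finite.injective_iff_bijective.mp hκinj
  have h1 : ∑ u : P, χ (h * ((κ u : P) : G)) = ∑ u : P, χ (h * (u : G)) :=
    Fintype.sum_bijective κ hκbij _ _ (fun u => rfl)
  have h2 : ∀ u : P, χ (h * ((κ u : P) : G)) = χ h := by
    intro u
    have : h * ((κ u : P) : G) = (u : G) * h * (u : G)⁻¹ := by
      show h * (h⁻¹ * (u : G) * h * (u : G)⁻¹) = _
      group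
    rw [this, hχ]
  rw [Finset.sum_congr rfl (fun u _ => h2 u), hsum h, Finset.sum_const, Finset.card_univ,
    nsmul_eq_mul] at h1
  rcases mul_eq_zero.mp h1 with h3 | h3
  · exact absurd h3 (by exact_mod_cast Fintype.card_ne_zero)
  · exact h3

end cls


section ti

variable {G : Type*} [Group G]

theorem classInner_self_eq_ofReal [Fintype G] (f : G → ℂ) :
    Cfsg.classInner f f = (((Nat.card G : ℝ)⁻¹ * ∑ g : G, Complex.normSq (f g) : ℝ) : ℂ) := by
  unfold Cfsg.classInner
  push_cast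
  congr 1
  refine Finset.sum_congr rfl (fun g _ => ?_)
  rw [Complex.mul_conj]

/-- TI-bound: for a TI-subgroup `P` with normalizer `N` and an irreducible character `χ`,
`∑_{u ∈ P, u ≠ 1} |χ u|² < |N|`. -/
theorem ti_bound [Fintype G] (P : Subgroup G) [Fintype P]
    (hTI : ∀ g : G, g ∉ Subgroup.normalizer (P : Set G) → ∀ t ∈ P, g * t * g⁻¹ ∈ P → t = 1)
    (χ : G → ℂ) (hχ : Cfsg.IsIrrCharacter G χ) :
    (∑ u : P, Complex.normSq (χ (u : G))) - Complex.normSq (χ 1) <
      (Nat.card (Subgroup.normalizer (P : Set G)) : ℝ) := by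
  classical
  set N := Subgroup.normalizer (P : Set G) with hN
  have : Fintype N := Fintype.ofFinite N
  have hPN : P ≤ N := Subgroup.le_normalizer
  have hχcl : Cfsg.IsClassFunction G χ := isClassFunction_of_isIrrCharacter hχ
  let ψ : N → ℂ := fun n => if (n : G) ∈ P ∧ (n : G) ≠ 1 then χ n else 0
  have hψcl : Cfsg.IsClassFunction N ψ := by
    intro g h
    have h1 : ((h * g * h⁻¹ : N) : G) = (h : G) * (g : G) * (h : G)⁻¹ := by simp
    have h2 : ((h : G) * (g : G) * (h : G)⁻¹ ∈ P) ↔ (g : G) ∈ P :=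
      ((Subgroup.mem_set_normalizer_iff.mp h.2) (g : G)).symm
    have h3 : ((h : G) * (g : G) * (h : G)⁻¹ ≠ 1) ↔ (g : G) ≠ 1 := by
      rw [Ne, Ne, conj_eq_one_iff]
    show (if ((h * g * h⁻¹ : N) : G) ∈ P ∧ ((h * g * h⁻¹ : N) : G) ≠ 1 then
      χ ((h * g * h⁻¹ : N) : G) else 0) = if (g : G) ∈ P ∧ (g : G) ≠ 1 then χ g else 0
    rw [h1, hχcl (g : G) (h : G)]
    simp only [h2, h3]
  have hψT : ∀ n : N, (n : G) ∉ (P : Set G) → ψ n = 0 := by
    intro n hn
    show (if (n : G) ∈ P ∧ (n : G) ≠ 1 then χ n else 0) = 0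
    rw [if_neg]
    exact fun h => hn h.1
  have hψ1 : ψ 1 = 0 := by
    show (if ((1 : N) : G) ∈ P ∧ ((1 : N) : G) ≠ 1 then χ ((1 : N) : G) else 0) = 0
    rw [if_neg]
    simp
  set Φ := Cfsg.indFun N ψ with hΦ
  have hII : Cfsg.classInner Φ Φ = Cfsg.classInner ψ ψ :=
    classInner_indFun_of_TI (P : Set G) hTI ψ ψ hψcl hψT hψT hψ1
  have hψχ : Cfsg.classInner ψ (fun n : N => χ n) = Cfsg.classInner ψ ψ := by
    unfold Cfsg.classInner
    congr 1
    refine Finset.sum_congr rfl (fun n _ => ?_)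
    show (if (n : G) ∈ P ∧ (n : G) ≠ 1 then χ n else 0) * conj (χ n) =
      (if (n : G) ∈ P ∧ (n : G) ≠ 1 then χ n else 0) *
        conj (if (n : G) ∈ P ∧ (n : G) ≠ 1 then χ n else 0)
    split_ifs <;> simp
  have hIχ : Cfsg.classInner Φ χ = Cfsg.classInner ψ ψ := by
    rw [hΦ, frobenius_reciprocity N ψ χ hχcl, hψχ]
  set r : ℝ := (Nat.card N : ℝ)⁻¹ * ∑ n : N, Complex.normSq (ψ n) with hr
  have hc : Cfsg.classInner ψ ψ = (r : ℂ) := classInner_self_eq_ofReal ψ
  rw [hc] at hII hIχ
  have hχI : Cfsg.classInner χ Φ = (r : ℂ) := by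
    rw [← classInner_conj_symm, hIχ, Complex.conj_ofReal]
  have hχχ : Cfsg.classInner χ χ = 1 := classInner_self_of_isIrrCharacter hχ
  -- the difference
  set Δ : G → ℂ := Φ - (r : ℂ) • χ with hΔ
  have hΔΔ : Cfsg.classInner Δ Δ = ((r - r ^ 2 : ℝ) : ℂ) := by
    rw [hΔ, classInner_sub_left, classInner_sub_right', classInner_sub_right',
      classInner_smul_left, classInner_smul_left, classInner_smul_right, classInner_smul_right,
      hII, hIχ, hχI, hχχ, Complex.conj_ofReal]
    push_cast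
    ring
  have hNpos : (0 : ℝ) < (Nat.card N : ℝ) := by exact_mod_cast Nat.card_pos
  have hr0 : 0 ≤ r := by
    rw [hr]
    exact mul_nonneg (inv_nonneg.mpr hNpos.le)
      (Finset.sum_nonneg (fun n _ => Complex.normSq_nonneg _))
  have hr1 : r < 1 := by
    by_cases hr00 : r = 0
    · rw [hr00]; exact one_pos
    · have hΦ1 : Φ 1 = 0 := by
        rw [hΦ, indFun_one, hψ1, mul_zero]
      have hχ1 : χ 1 ≠ 0 := by
        obtain ⟨n, hn, h1⟩ := Cfsg.Agent.Lib.Helper3_CharColumn.irr_one_eq_natCast hχ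
        rw [h1]
        exact_mod_cast hn.ne'
      have hΔ1 : Δ 1 ≠ 0 := by
        rw [hΔ]
        simp only [Pi.sub_apply, Pi.smul_apply, smul_eq_mul, hΦ1, zero_sub, neg_ne_zero]
        exact mul_ne_zero (by exact_mod_cast hr00) hχ1
      have h1 := classInner_self_ne_zero hΔ1
      rw [classInner_self_eq_ofReal] at hΔΔ h1
      have h2 : (0 : ℝ) ≤ (Nat.card G : ℝ)⁻¹ * ∑ g : G, Complex.normSq (Δ g) := by
        apply mul_nonneg
        · exact inv_nonneg.mpr (by exact_mod_cast (Nat.zero_le _))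
        · exact Finset.sum_nonneg (fun g _ => Complex.normSq_nonneg _)
      have h3 : (Nat.card G : ℝ)⁻¹ * ∑ g : G, Complex.normSq (Δ g) = r - r ^ 2 := by
        exact_mod_cast hΔΔ
      have h4 : (Nat.card G : ℝ)⁻¹ * ∑ g : G, Complex.normSq (Δ g) ≠ 0 := by
        exact_mod_cast h1
      have h5 : 0 < r - r ^ 2 := by
        rw [← h3]
        exact lt_of_le_of_ne h2 (Ne.symm h4)
      have hrpos : 0 < r := lt_of_le_of_ne hr0 (Ne.symm hr00)
      nlinarith
  -- relate the sums
  have hsum : ∑ n : N, Complex.normSq (ψ n) =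
      (∑ u : P, Complex.normSq (χ (u : G))) - Complex.normSq (χ 1) := by
    have h1 : ∑ u : P, (if u ≠ 1 then Complex.normSq (χ (u : G)) else 0) =
        ∑ n : N, Complex.normSq (ψ n) := by
      apply Fintype.sum_of_injective (Subgroup.inclusion hPN) (Subgroup.inclusion_injective hPN)
      · intro n hn
        have : (n : G) ∉ P := by
          intro h
          exact hn ⟨⟨n, h⟩, by ext; rfl⟩
        rw [hψT n this, Complex.normSq_zero]
      · intro u
        show _ = Complex.normSq (if ((Subgroup.inclusion hPN u : N) : G) ∈ P ∧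
          ((Subgroup.inclusion hPN u : N) : G) ≠ 1 then χ ((Subgroup.inclusion hPN u : N) : G) else 0)
        have h2 : ((Subgroup.inclusion hPN u : N) : G) = (u : G) := rfl
        rw [h2]
        by_cases hu : u = 1
        · rw [if_neg (not_not.mpr hu), if_neg, Complex.normSq_zero]
          rw [hu]; simp
        · rw [if_pos hu, if_pos]
          exact ⟨u.2, fun h => hu (by ext; exact h)⟩
    rw [← h1, Finset.sum_ite, Finset.sum_const_zero, add_zero, Finset.filter_ne',
      ← Finset.sum_erase_add _ _ (Finset.mem_univ (1 : P))]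
    simp
  have : ∑ n : N, Complex.normSq (ψ n) = r * (Nat.card N : ℝ) := by
    rw [hr]
    field_simp
  rw [← hsum, this]
  nlinarith


end ti

end Cfsg.Agent.Lib.Helper3_VanishTI
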