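import Mathlib
import Cfsg.Prelude.Def_Blocks
import Cfsg.Agent.Lib.Helper3_SelfCent
import Cfsg.Agent.Lib.Helper3_VanishTI
import Cfsg.Agent.Lib.Helper3_DetEigen
import Cfsg.Agent.Lib.Helper3_CharDegree
import Cfsg.Agent.Lib.Helper3_Artin
import Cfsg.Agent.Lib.Helper75_CharArith
import Cfsg.Agent.Lib.Helper79_Linear

/-!
# Self-centralizing element of prime order and a character of degree `p - 1` (helper3)

`main` is statement S4508: if `x` has prime order `p`, `C_G(x) = ⟨x⟩`, `t` is the number of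
classes of elements of order `p` and `G` has an irreducible character of degree `p - 1`, then
`t` is even or `|G : G'|` is even (the determinant of the character takes the value `-1`).
-/

set_option autoImplicit false
set_option linter.unusedSectionVars false

namespace Cfsg.Agent.Lib.Helper3_DegPMinusOne

open scoped ComplexConjugate
open Subgroup Cfsg.Agent.Lib.Helper3_SelfCent Cfsg.Agent.Lib.Helper3_VanishTI
  Cfsg.Agent.Lib.Helper3_DetEigen Cfsg.Agent.Lib.Helper3_CharBridge
  Cfsg.Agent.Lib.Helper3_CharOrtho Cfsg.Agent.Lib.Helper75_CharArith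

variable {G : Type*} [Group G] [Finite G]

/-- `p = 2`: an involution with `C_G(x) = ⟨x⟩` forces a subgroup of index `2`. -/
theorem even_index_of_two {x : G} (hx : orderOf x = 2)
    (hC : centralizer ({x} : Set G) = zpowers x) : Even (commutator G).index := by
  classical
  have : Fact (Nat.Prime 2) := ⟨Nat.prime_two⟩
  obtain ⟨Q, hQ⟩ := exists_sylow Nat.prime_two hx hC
  have hNC : normalizer ((Q : Subgroup G) : Set G) ≤ centralizer ((Q : Subgroup G) : Set G) := by
    intro g hg
    rw [hQ] at hg ⊢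
    rw [centralizer_zpowers_eq hC, ← hC, mem_centralizer_singleton_iff]
    have h1 : g * x * g⁻¹ ∈ zpowers x :=
      (mem_set_normalizer_iff.mp hg x).mp (mem_zpowers x)
    have h2 : g * x * g⁻¹ ≠ 1 := by
      rw [Ne, conj_eq_one_iff]
      exact x_ne_one Nat.prime_two hx
    have h3 : g * x * g⁻¹ = x := by
      rw [mem_zpowers_iff_mem_range_orderOf, hx] at h1
      simp only [Finset.mem_image, Finset.mem_range] at h1
      obtain ⟨k, hk, hk'⟩ := h1
      interval_cases k
      · exact absurd (by simpa using hk'.symm) h2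
      · simpa using hk'.symm
    calc g * x = (g * x * g⁻¹) * g := by group
      _ = x * g := by rw [h3]
  have hcompl := MonoidHom.ker_transferSylow_isComplement' Q hNC
  set K := (MonoidHom.transferSylow Q hNC).ker with hK
  have hKidx : K.index = 2 := by
    rw [hcompl.symm.index_eq_card, hQ, Nat.card_zpowers, hx]
  have hle : commutator G ≤ K := by
    rw [_root_.commutator_def, Subgroup.commutator_le]
    intro a _ b _
    rw [hK, MonoidHom.mem_ker, commutatorElement_def, map_mul, map_mul, map_mul, map_inv, map_inv]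
    have hcomm : ∀ u v : (Q : Subgroup G), u * v = v * u := by
      intro u v
      ext
      have hu : (u : G) ∈ zpowers x := hQ ▸ u.2
      have hv : (v : G) ∈ zpowers x := hQ ▸ v.2
      obtain ⟨i, hi⟩ := hu
      obtain ⟨j, hj⟩ := hv
      simp only [Subgroup.coe_mul]
      rw [← hi, ← hj]
      exact ((Commute.refl x).zpow_zpow i j).eq
    rw [hcomm _ (MonoidHom.transferSylow Q hNC b)]
    simp
  have := Subgroup.index_dvd_of_le hle
  rw [hKidx] at this
  exact even_iff_two_dvd.mpr this


/-- The multiplicity of the trivial character in `χ|_⟨x⟩` vanishes. -/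
theorem sum_zpowers_eq_zero [Fintype G] {p : ℕ} (hp : p.Prime) {x : G} (hx : orderOf x = p)
    (e t n : ℕ)
    (he : Nat.card (normalizer ((zpowers x : Subgroup G) : Set G)) = e * p)
    (he2 : 2 ≤ e) (hte : n = e * t) (hn : n + 1 = p)
    (χ : G → ℂ) (hχ : Cfsg.IsIrrCharacter G χ) (hχ1 : χ 1 = n)
    [Fintype (zpowers x)]
    (hZ : ∃ Z : ℂ, IsIntegral ℤ Z ∧ (∑ u : zpowers x, χ (u : G)) - χ 1 = (e : ℂ) * Z) :
    ∑ u : zpowers x, χ (u : G) = 0 := by
  classical
  have hPcard : Fintype.card (zpowers x) = p := by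
    rw [← Nat.card_eq_fintype_card, Nat.card_zpowers, hx]
  have hpC : (p : ℂ) ≠ 0 := by exact_mod_cast hp.ne_zero
  have hχchar : Cfsg.IsCharacter G χ := isCharacter_of_isIrrCharacter hχ
  have hχP : Cfsg.IsCharacter (zpowers x) (fun u : (zpowers x) => χ u) := isCharacter_restrict (zpowers x) hχchar
  obtain ⟨w, hw, hsum⟩ := exists_multiplicities hχP
  let triv : Cfsg.IrrCharacter (zpowers x) :=
    ⟨fun _ => 1, by simpa using Cfsg.Agent.Lib.Helper79_Linear.isIrrCharacter_of_hom (1 : (zpowers x) →* ℂˣ)⟩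
  set a := w triv with ha
  -- sum of χ over (zpowers x) is p * a
  have hsumχ : ∑ u : (zpowers x), χ (u : G) = (p : ℂ) * a := by
    have h1 := hw triv
    unfold Cfsg.classInner at h1
    rw [Nat.card_eq_fintype_card, hPcard] at h1
    have h2 : ∑ u : (zpowers x), χ (u : G) * conj ((triv : (zpowers x) → ℂ) u) = ∑ u : (zpowers x), χ (u : G) := by
      refine Finset.sum_congr rfl (fun u _ => ?_)
      show χ (u : G) * conj (1 : ℂ) = _
      simp
    rw [h2] at h1
    rw [← h1]
    field_simp
  -- degrees: all ψ linear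
  have hlin : ∀ ψ : Cfsg.IrrCharacter (zpowers x), (ψ : (zpowers x) → ℂ) 1 = 1 := fun ψ =>
    Cfsg.Agent.Lib.Helper3_Artin.irr_one_eq_one_of_comm ψ.2
  have hdeg : ∑ ψ : Cfsg.IrrCharacter (zpowers x), w ψ = n := by
    have h1 := congrFun hsum 1
    simp only [Finset.sum_apply, Pi.smul_apply, smul_eq_mul, hlin, mul_one] at h1
    have h2 : χ ((1 : (zpowers x)) : G) = (n : ℂ) := by simpa using hχ1
    rw [h2] at h1
    have : ((n : ℕ) : ℂ) = ((∑ ψ : Cfsg.IrrCharacter (zpowers x), w ψ : ℕ) : ℂ) := by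
      rw [h1]; push_cast; rfl
    exact_mod_cast this.symm
  -- Parseval
  set b := ∑ ψ : Cfsg.IrrCharacter (zpowers x), w ψ * w ψ with hb
  have hnorm : Cfsg.classInner (fun u : (zpowers x) => χ u) (fun u : (zpowers x) => χ u) = (b : ℂ) := by
    rw [classInner_self_eq_sum (isClassFunction_of_isCharacter hχP)]
    simp_rw [hw]
    rw [hb]
    push_cast
    refine Finset.sum_congr rfl (fun ψ _ => ?_)
    simp
  have hnormR : ∑ u : (zpowers x), Complex.normSq (χ (u : G)) = (p : ℝ) * b := by
    rw [classInner_self_eq_ofReal, Nat.card_eq_fintype_card, hPcard] at hnorm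
    have h1 : ((p : ℝ)⁻¹ * ∑ u : (zpowers x), Complex.normSq (χ (u : G))) = (b : ℝ) := by
      exact_mod_cast hnorm
    have hpR : (p : ℝ) ≠ 0 := by exact_mod_cast hp.ne_zero
    rw [← h1]
    field_simp
  -- F1
  have hF1 : a * a + (n - a) ≤ b := by
    have h1 : b = a * a + ∑ ψ ∈ Finset.univ.erase triv, w ψ * w ψ := by
      rw [hb, ← Finset.add_sum_erase _ _ (Finset.mem_univ triv)]
    have h2 : n = a + ∑ ψ ∈ Finset.univ.erase triv, w ψ := by
      rw [← hdeg, ← Finset.add_sum_erase _ _ (Finset.mem_univ triv)]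
    have h3 : ∑ ψ ∈ Finset.univ.erase triv, w ψ ≤ ∑ ψ ∈ Finset.univ.erase triv, w ψ * w ψ := by
      apply Finset.sum_le_sum
      intro ψ _
      exact Nat.le_mul_self _
    omega
  -- TI bound
  have hTI := ti_bound (zpowers x) (fun g hg t' ht' hgt => ti hp hx g hg t' ht' hgt) χ hχ
  rw [hnormR, he, hχ1] at hTI
  have hnsq : Complex.normSq ((n : ℕ) : ℂ) = (n : ℝ) * n := by
    rw [Complex.normSq_natCast]
  rw [hnsq] at hTI
  -- F3 : e ∣ a
  obtain ⟨Z, hZint, hZ⟩ := hZ
  have hea : e ∣ a := by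
    have h1 : (p : ℂ) * a = (e : ℂ) * (Z + t) := by
      rw [hsumχ, hχ1] at hZ
      have : ((n : ℕ) : ℂ) = (e : ℂ) * t := by rw [hte]; push_cast; rfl
      rw [mul_add, ← this, ← hZ]
      ring
    have he0 : e ≠ 0 := by omega
    have h2 : IsIntegral ℤ (((p * a : ℕ) : ℂ) / (e : ℂ)) := by
      have heC : (e : ℂ) ≠ 0 := by exact_mod_cast he0
      have : ((p * a : ℕ) : ℂ) / (e : ℂ) = Z + t := by
        push_cast
        rw [h1]
        field_simp
      rw [this]
      exact hZint.add (isIntegral_natCast t)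
    have h3 : e ∣ p * a := Cfsg.Agent.Lib.Helper3_CharDegree.dvd_of_isIntegral_div he0 h2
    have hcop : Nat.Coprime e p := by
      have h4 : e ∣ p - 1 := ⟨t, by omega⟩
      have h5 : Nat.Coprime (p - 1) p := by
        rw [Nat.coprime_comm]
        have h : p = (p - 1) + 1 := by omega
        nth_rewrite 1 [h]
        simp
      exact Nat.Coprime.coprime_dvd_left h4 h5
    exact hcop.dvd_of_dvd_mul_left h3
  -- conclusion
  have ha0 : a = 0 := by
    by_contra h
    have ha2 : 2 ≤ a := le_trans he2 (Nat.le_of_dvd (Nat.pos_of_ne_zero h) hea)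
    have hea' : e ≤ a := Nat.le_of_dvd (Nat.pos_of_ne_zero h) hea
    have hb' : ((a * a + (n - a) : ℕ) : ℝ) ≤ (b : ℝ) := by exact_mod_cast hF1
    have han : a ≤ n := by
      rw [← hdeg]
      exact Finset.single_le_sum (f := w) (fun _ _ => Nat.zero_le _) (Finset.mem_univ triv)
    rw [Nat.cast_add, Nat.cast_mul, Nat.cast_sub han] at hb'
    have hpn : (p : ℝ) = n + 1 := by exact_mod_cast hn.symm
    have hea'' : (e : ℝ) ≤ a := by exact_mod_cast hea'
    have ha2' : (2 : ℝ) ≤ a := by exact_mod_cast ha2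
    have hp0 : (0 : ℝ) < p := by exact_mod_cast hp.pos
    have hn0 : (0 : ℝ) ≤ n := by exact_mod_cast Nat.zero_le n
    push_cast at hTI
    nlinarith [mul_le_mul_of_nonneg_left hb' hp0.le, mul_le_mul_of_nonneg_right hea'' hp0.le,
      mul_nonneg hp0.le (sq_nonneg ((a : ℝ) - 1)), mul_nonneg hn0 (sub_nonneg.mpr ha2')]
  rw [hsumχ, ha0]
  simp

/-- Statement S4508. -/
theorem main (p : ℕ) (hp : p.Prime) (x : G) (hx : orderOf x = p)
    (hC : centralizer ({x} : Set G) = zpowers x) (t : ℕ)
    (ht : Nat.card {C : ConjClasses G // ∃ g ∈ C.carrier, orderOf g = p} = t)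
    (χ : Cfsg.IrrCharacter G) (hχ : Cfsg.charDegree (χ : G → ℂ) + 1 = p) :
    Even t ∨ Even (commutator G).index := by
  classical
  have : Fintype G := Fintype.ofFinite G
  by_cases hp2 : p = 2
  · right
    subst hp2
    exact even_index_of_two hx hC
  by_cases htodd : Even t
  · left; exact htodd
  right
  rw [Nat.not_even_iff_odd] at htodd
  set N := normalizer ((zpowers x : Subgroup G) : Set G) with hN
  have : Fintype (zpowers x) := Fintype.ofFinite _
  have hPN : zpowers x ≤ N := le_normalizer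
  obtain ⟨e, he⟩ : ∃ e, Nat.card N = e * p := by
    have h1 : Nat.card (zpowers x) ∣ Nat.card N := Subgroup.card_dvd_of_le hPN
    rw [Nat.card_zpowers, hx] at h1
    obtain ⟨e, he⟩ := h1
    exact ⟨e, by rw [he, mul_comm]⟩
  have he0 : e ≠ 0 := by
    rintro rfl
    rw [zero_mul] at he
    exact Nat.card_pos.ne' he
  -- the representation
  obtain ⟨n, ρ, hirr, hρ⟩ := χ.2
  have hχ1 : (χ : G → ℂ) 1 = (n : ℂ) := by
    rw [← hρ, Representation.char_one]
    simp
  have hdeg : Cfsg.charDegree (χ : G → ℂ) = n := by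
    unfold Cfsg.charDegree
    rw [hχ1]
    simp
  have hn : n + 1 = p := by rw [← hdeg]; exact hχ
  have hχcl : ∀ g h : G, (χ : G → ℂ) (h * g * h⁻¹) = (χ : G → ℂ) g :=
    isClassFunction_of_isIrrCharacter χ.2
  -- counting
  set PS := (Finset.univ.filter (fun u : G => u ∈ zpowers x)).erase 1 with hPS
  set T := Finset.univ.filter (fun C : ConjClasses G => ∃ g ∈ C.carrier, orderOf g = p) with hT
  have hTcard : T.card = t := by
    rw [← ht, Nat.card_eq_fintype_card, Fintype.card_subtype]
  have hPcard : (Finset.univ.filter (fun u : G => u ∈ zpowers x)).card = p := by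
    rw [← Fintype.card_subtype, ← Nat.card_eq_fintype_card]
    exact (Nat.card_zpowers x).trans hx
  have hPScard : PS.card = n := by
    rw [hPS, Finset.card_erase_of_mem (by simp), hPcard]
    omega
  have hcount := sum_nontrivial_eq hp hx hC e he (fun _ => 1) (fun _ _ => rfl)
  have hte : n = e * t := by
    simp only [Finset.sum_const, nsmul_eq_mul, mul_one] at hcount
    rw [← hPS, ← hT, hPScard, hTcard] at hcount
    exact_mod_cast hcount
  -- e is even
  obtain ⟨k, e', he', hek⟩ := Nat.exists_eq_two_pow_mul_odd he0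
  have hpodd : Odd p := hp.odd_of_ne_two hp2
  have hk : 0 < k := by
    by_contra hk0
    have hk0' : k = 0 := by omega
    rw [hk0', pow_zero, one_mul] at hek
    have h1 : Odd n := by rw [hte, hek]; exact he'.mul htodd
    have h2 : Even p := by rw [← hn]; exact h1.add_one
    exact (Nat.not_even_iff_odd.mpr hpodd) h2
  have he2 : 2 ≤ e := by
    rw [hek]
    have h1 : 2 ≤ 2 ^ k := by
      calc 2 = 2 ^ 1 := by norm_num
        _ ≤ 2 ^ k := Nat.pow_le_pow_right (by norm_num) hk
    have h2 : 1 ≤ e' := by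
      rcases he' with ⟨j, hj⟩
      omega
    nlinarith
  -- integrality
  have hint : ∀ g : G, IsIntegral ℤ ((χ : G → ℂ) g) := by
    intro g
    rw [← hρ]
    exact Cfsg.Agent.Lib.Helper3_CharEigen.isIntegral_char ρ g
  have hZ : ∃ Z : ℂ, IsIntegral ℤ Z ∧
      (∑ u : zpowers x, (χ : G → ℂ) (u : G)) - (χ : G → ℂ) 1 = (e : ℂ) * Z := by
    refine ⟨∑ C ∈ T, (χ : G → ℂ) (Quotient.out C), IsIntegral.sum _ (fun C _ => hint _), ?_⟩
    rw [← sum_nontrivial_eq hp hx hC e he (χ : G → ℂ) hχcl, ← hPS,
      ← Finset.sum_subtype (Finset.univ.filter (fun u : G => u ∈ zpowers x))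
        (fun g => by simp) (fun g => (χ : G → ℂ) g),
      ← Finset.sum_erase_add _ _ (show (1 : G) ∈ Finset.univ.filter (fun u : G => u ∈ zpowers x)
        by simp)]
    ring
  have hsum0 := sum_zpowers_eq_zero hp hx e t n he he2 hte hn (χ : G → ℂ) χ.2 hχ1 hZ
  -- vanishing off P
  have hcoset : ∀ g : G, ∑ u : zpowers x, (χ : G → ℂ) (g * (u : G)) = 0 := by
    intro g
    rw [← hρ]
    exact sum_char_mul_eq_zero ρ (zpowers x) (by rw [hρ]; exact hsum0) g
  have hvanish : ∀ h ∈ N, h ∉ zpowers x → (χ : G → ℂ) h = 0 := by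
    intro h hhN hhP
    apply eq_zero_of_normalizes (χ : G → ℂ) hχcl (zpowers x) hcoset h
    · intro u hu
      have h1 : h⁻¹ ∈ N := N.inv_mem hhN
      have := (mem_set_normalizer_iff.mp h1 u).mp hu
      simpa using this
    · intro w hw hcomm
      by_contra hw1
      apply hhP
      rw [← centralizer_eq_of_mem hp hx hC hw hw1, mem_centralizer_singleton_iff]
      exact hcomm.symm
  -- the element y
  obtain ⟨y, hyN, hyord, hypow⟩ := exists_two_element hp hp2 hx hC e k e' he hek he'
  have hvan : ∀ j : ℕ, 0 < j → j < 2 ^ k → ρ.character (y ^ j) = 0 := by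
    intro j hj0 hjk
    rw [hρ]
    exact hvanish _ (N.pow_mem hyN j) (hypow j hj0 hjk)
  have hdim : Module.finrank ℂ (Fin n → ℂ) = 2 ^ k * (e' * t) := by
    rw [Module.finrank_fintype_fun_eq_card, Fintype.card_fin, hte, hek, mul_assoc]
  have hdet := det_rho_eq_neg_one ρ y (2 ^ k) (e' * t) hyord
    (Nat.even_pow.mpr ⟨even_two, hk.ne'⟩) (he'.mul htodd) hdim hvan
  -- the determinant homomorphism
  set δ : G →* ℂˣ := (LinearMap.det.comp ρ).toHomUnits with hδ
  have hδy : ((δ y : ℂˣ) : ℂ) = -1 := by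
    rw [hδ, MonoidHom.coe_toHomUnits]
    exact hdet
  have hle : commutator G ≤ δ.ker := Abelianization.commutator_subset_ker δ
  have h2 : 2 ∣ δ.ker.index := by
    rw [Subgroup.index_ker]
    have : Fact (Nat.Prime 2) := ⟨Nat.prime_two⟩
    have hord : orderOf (⟨δ y, y, rfl⟩ : δ.range) = 2 := by
      apply orderOf_eq_prime
      · ext
        simp only [Subgroup.coe_pow, Units.val_pow_eq_pow_val, hδy]
        norm_num
      · intro h
        have h3 := congrArg (fun u : δ.range => ((u : ℂˣ) : ℂ)) h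
        simp only [hδy] at h3
        norm_num at h3
    rw [← hord]
    exact orderOf_dvd_natCard _
  exact even_iff_two_dvd.mpr (h2.trans (Subgroup.index_dvd_of_le hle))


end Cfsg.Agent.Lib.Helper3_DegPMinusOne
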