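/-
Feit–Higman, part 2: the abstract "generalized polygon" data (two symmetric matrices `A₁, A₂`
satisfying the quadratic relations, the braid relation of length `n` and trace orthogonality of
the `2n` alternating products), the Hecke algebra `H` they span, Parseval's identity in `H`,
and linear independence of the first `n + 1` powers of `E + F`.
-/
import Mathlib
import Cfsg.Agent.Lib.Helper6_Coxeter

set_option autoImplicit false
set_option linter.unusedSectionVars false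
set_option linter.unusedVariables false

namespace Cfsg.Agent.Lib.Helper3_FHAlg

open Matrix Cfsg.Agent.Lib.Helper6_Coxeter

variable {X : Type*} [Fintype X] [DecidableEq X]

/-- index set for the `2n` elements of the dihedral group: `P₀, …, Pₙ` and `Q₁, …, Q_{n-1}` -/
abbrev Idx (n : ℕ) := Fin (n + 1) ⊕ Fin (n - 1)

/-- the `2n` alternating products -/
def wmat (A₁ A₂ : Matrix X X ℝ) (n : ℕ) : Idx n → Matrix X X ℝ
  | Sum.inl k => altp A₁ A₂ k
  | Sum.inr k => altp A₂ A₁ (k + 1)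

/-- their indices `q_w` -/
def wq (u v : ℝ) (n : ℕ) : Idx n → ℝ
  | Sum.inl k => u ^ (((k : ℕ) + 1) / 2) * v ^ ((k : ℕ) / 2)
  | Sum.inr k => v ^ (((k : ℕ) + 2) / 2) * u ^ (((k : ℕ) + 1) / 2)

/-- The data extracted from a finite (B,N)-pair of rank 2 whose Weyl group has order `2n`:
`A₁, A₂` are the adjacency matrices of the two adjacency relations on the set `X` of chambers. -/
structure PolyData (n u v : ℕ) (A₁ A₂ : Matrix X X ℝ) : Prop where
  hn : 2 ≤ n
  hu : 2 ≤ u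
  hv : 2 ≤ v
  hX : Nonempty X
  symm₁ : A₁ᵀ = A₁
  symm₂ : A₂ᵀ = A₂
  sq₁ : A₁ * A₁ = (u : ℝ) • (1 : Matrix X X ℝ) + ((u : ℝ) - 1) • A₁
  sq₂ : A₂ * A₂ = (v : ℝ) • (1 : Matrix X X ℝ) + ((v : ℝ) - 1) • A₂
  braid : altp A₁ A₂ n = altp A₂ A₁ n
  orth : ∀ i j : Idx n, trace (wmat A₁ A₂ n i * (wmat A₁ A₂ n j)ᵀ) =
      if i = j then (Fintype.card X : ℝ) * wq u v n i else 0

theorem wq_pos {u v : ℝ} (hu : 0 < u) (hv : 0 < v) (n : ℕ) (i : Idx n) : 0 < wq u v n i := by
  cases i <;> simp only [wq] <;> positivity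

/-! ### Parseval -/

section Parseval

variable {ι : Type*} [Fintype ι] [DecidableEq ι] (w : ι → Matrix X X ℝ) (q : ι → ℝ)

theorem parseval (hq : ∀ i, q i ≠ 0)
    (horth : ∀ i j, trace (w i * (w j)ᵀ) = if i = j then q i else 0)
    {M : Matrix X X ℝ} (hM : M ∈ Submodule.span ℝ (Set.range w)) :
    trace (M * Mᵀ) = ∑ i, trace (M * (w i)ᵀ) ^ 2 / q i := by
  obtain ⟨c, rfl⟩ := (Submodule.mem_span_range_iff_exists_fun ℝ).1 hM
  have h1 : ∀ j, trace ((∑ i, c i • w i) * (w j)ᵀ) = c j * q j := by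
    intro j
    rw [Finset.sum_mul, trace_sum]
    simp only [smul_mul_assoc, trace_smul, horth, smul_eq_mul, mul_ite, mul_zero]
    rw [Finset.sum_ite_eq' Finset.univ j]
    simp
  have h2 : trace ((∑ i, c i • w i) * (∑ i, c i • w i)ᵀ) = ∑ j, c j * (c j * q j) := by
    conv_lhs => rw [transpose_sum, Finset.mul_sum, trace_sum]
    apply Finset.sum_congr rfl
    intro j _
    rw [transpose_smul, mul_smul_comm, trace_smul, h1, smul_eq_mul]
  rw [h2]
  apply Finset.sum_congr rfl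
  intro j _
  rw [h1]
  field_simp [hq j]

end Parseval


/-! ### The filtration of the Hecke algebra -/

section Filtration

variable (A₁ A₂ : Matrix X X ℝ)

/-- span of the alternating products of length at most `i` -/
def Hf (i : ℕ) : Submodule ℝ (Matrix X X ℝ) :=
  Submodule.span ℝ {M | ∃ k, k ≤ i ∧ (M = altp A₁ A₂ k ∨ M = altp A₂ A₁ k)}

theorem P_mem_Hf {k i : ℕ} (hk : k ≤ i) : altp A₁ A₂ k ∈ Hf A₁ A₂ i :=
  Submodule.subset_span ⟨k, hk, Or.inl rfl⟩

theorem Q_mem_Hf {k i : ℕ} (hk : k ≤ i) : altp A₂ A₁ k ∈ Hf A₁ A₂ i :=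
  Submodule.subset_span ⟨k, hk, Or.inr rfl⟩

theorem Hf_mono {i j : ℕ} (hij : i ≤ j) : Hf A₁ A₂ i ≤ Hf A₁ A₂ j := by
  apply Submodule.span_mono
  rintro M ⟨k, hk, hM⟩
  exact ⟨k, hk.trans hij, hM⟩

theorem one_mem_Hf (i : ℕ) : (1 : Matrix X X ℝ) ∈ Hf A₁ A₂ i := by
  have := P_mem_Hf A₁ A₂ (Nat.zero_le i)
  simpa [altp] using this

variable {A₁ A₂}
variable {u v : ℝ}

theorem A1_mul_P_succ (sq₁ : A₁ * A₁ = u • (1 : Matrix X X ℝ) + (u - 1) • A₁) (k : ℕ) :
    A₁ * altp A₁ A₂ (k + 1) = u • altp A₂ A₁ k + (u - 1) • altp A₁ A₂ (k + 1) := by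
  rw [altp, ← mul_assoc, sq₁, add_mul, smul_mul_assoc, one_mul, smul_mul_assoc]

theorem A2_mul_Q_succ (sq₂ : A₂ * A₂ = v • (1 : Matrix X X ℝ) + (v - 1) • A₂) (k : ℕ) :
    A₂ * altp A₂ A₁ (k + 1) = v • altp A₁ A₂ k + (v - 1) • altp A₂ A₁ (k + 1) := by
  rw [altp, ← mul_assoc, sq₂, add_mul, smul_mul_assoc, one_mul, smul_mul_assoc]

theorem A1_mul_mem_Hf (sq₁ : A₁ * A₁ = u • (1 : Matrix X X ℝ) + (u - 1) • A₁) {i : ℕ}
    {M : Matrix X X ℝ} (hM : M ∈ Hf A₁ A₂ i) : A₁ * M ∈ Hf A₁ A₂ (i + 1) := by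
  induction hM using Submodule.span_induction with
  | mem M hM =>
    obtain ⟨k, hk, rfl | rfl⟩ := hM
    · cases k with
      | zero =>
        have : A₁ * altp A₁ A₂ 0 = altp A₁ A₂ 1 := by simp [altp]
        rw [this]; exact P_mem_Hf _ _ (by omega)
      | succ k =>
        rw [A1_mul_P_succ sq₁]
        exact Submodule.add_mem _ (Submodule.smul_mem _ _ (Q_mem_Hf _ _ (by omega)))
          (Submodule.smul_mem _ _ (P_mem_Hf _ _ (by omega)))
    · have : A₁ * altp A₂ A₁ k = altp A₁ A₂ (k + 1) := by rw [altp]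
      rw [this]; exact P_mem_Hf _ _ (by omega)
  | zero => rw [mul_zero]; exact Submodule.zero_mem _
  | add x y _ _ hx hy => rw [mul_add]; exact Submodule.add_mem _ hx hy
  | smul a x _ hx => rw [mul_smul_comm]; exact Submodule.smul_mem _ _ hx

theorem A2_mul_mem_Hf (sq₂ : A₂ * A₂ = v • (1 : Matrix X X ℝ) + (v - 1) • A₂) {i : ℕ}
    {M : Matrix X X ℝ} (hM : M ∈ Hf A₁ A₂ i) : A₂ * M ∈ Hf A₁ A₂ (i + 1) := by
  induction hM using Submodule.span_induction with
  | mem M hM =>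
    obtain ⟨k, hk, rfl | rfl⟩ := hM
    · have : A₂ * altp A₁ A₂ k = altp A₂ A₁ (k + 1) := by rw [altp]
      rw [this]; exact Q_mem_Hf _ _ (by omega)
    · cases k with
      | zero =>
        have : A₂ * altp A₂ A₁ 0 = altp A₂ A₁ 1 := by simp [altp]
        rw [this]; exact Q_mem_Hf _ _ (by omega)
      | succ k =>
        rw [A2_mul_Q_succ sq₂]
        exact Submodule.add_mem _ (Submodule.smul_mem _ _ (P_mem_Hf _ _ (by omega)))
          (Submodule.smul_mem _ _ (Q_mem_Hf _ _ (by omega)))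
  | zero => rw [mul_zero]; exact Submodule.zero_mem _
  | add x y _ _ hx hy => rw [mul_add]; exact Submodule.add_mem _ hx hy
  | smul a x _ hx => rw [mul_smul_comm]; exact Submodule.smul_mem _ _ hx

/-- at the top of the filtration the braid relation closes the algebra -/
theorem A1_mul_mem_top (sq₁ : A₁ * A₁ = u • (1 : Matrix X X ℝ) + (u - 1) • A₁) {n : ℕ}
    (hn : 1 ≤ n) (braid : altp A₁ A₂ n = altp A₂ A₁ n)
    {M : Matrix X X ℝ} (hM : M ∈ Hf A₁ A₂ n) : A₁ * M ∈ Hf A₁ A₂ n := by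
  induction hM using Submodule.span_induction with
  | mem M hM =>
    obtain ⟨k, hk, rfl | rfl⟩ := hM
    · cases k with
      | zero =>
        have : A₁ * altp A₁ A₂ 0 = altp A₁ A₂ 1 := by simp [altp]
        rw [this]; exact P_mem_Hf _ _ (by omega)
      | succ k =>
        rw [A1_mul_P_succ sq₁]
        exact Submodule.add_mem _ (Submodule.smul_mem _ _ (Q_mem_Hf _ _ (by omega)))
          (Submodule.smul_mem _ _ (P_mem_Hf _ _ (by omega)))
    · rcases Nat.lt_or_ge k n with hlt | hge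
      · have : A₁ * altp A₂ A₁ k = altp A₁ A₂ (k + 1) := by rw [altp]
        rw [this]; exact P_mem_Hf _ _ (by omega)
      · have hkn : k = n := le_antisymm hk hge
        subst hkn
        rw [← braid]
        obtain ⟨m, rfl⟩ : ∃ m, k = m + 1 := ⟨k - 1, by omega⟩
        rw [A1_mul_P_succ sq₁]
        exact Submodule.add_mem _ (Submodule.smul_mem _ _ (Q_mem_Hf _ _ (by omega)))
          (Submodule.smul_mem _ _ (P_mem_Hf _ _ (by omega)))
  | zero => rw [mul_zero]; exact Submodule.zero_mem _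
  | add x y _ _ hx hy => rw [mul_add]; exact Submodule.add_mem _ hx hy
  | smul a x _ hx => rw [mul_smul_comm]; exact Submodule.smul_mem _ _ hx

theorem A2_mul_mem_top (sq₂ : A₂ * A₂ = v • (1 : Matrix X X ℝ) + (v - 1) • A₂) {n : ℕ}
    (hn : 1 ≤ n) (braid : altp A₁ A₂ n = altp A₂ A₁ n)
    {M : Matrix X X ℝ} (hM : M ∈ Hf A₁ A₂ n) : A₂ * M ∈ Hf A₁ A₂ n := by
  induction hM using Submodule.span_induction with
  | mem M hM =>
    obtain ⟨k, hk, rfl | rfl⟩ := hM
    · rcases Nat.lt_or_ge k n with hlt | hge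
      · have : A₂ * altp A₁ A₂ k = altp A₂ A₁ (k + 1) := by rw [altp]
        rw [this]; exact Q_mem_Hf _ _ (by omega)
      · have hkn : k = n := le_antisymm hk hge
        subst hkn
        rw [braid]
        obtain ⟨m, rfl⟩ : ∃ m, k = m + 1 := ⟨k - 1, by omega⟩
        rw [A2_mul_Q_succ sq₂]
        exact Submodule.add_mem _ (Submodule.smul_mem _ _ (P_mem_Hf _ _ (by omega)))
          (Submodule.smul_mem _ _ (Q_mem_Hf _ _ (by omega)))
    · cases k with
      | zero =>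
        have : A₂ * altp A₂ A₁ 0 = altp A₂ A₁ 1 := by simp [altp]
        rw [this]; exact Q_mem_Hf _ _ (by omega)
      | succ k =>
        rw [A2_mul_Q_succ sq₂]
        exact Submodule.add_mem _ (Submodule.smul_mem _ _ (P_mem_Hf _ _ (by omega)))
          (Submodule.smul_mem _ _ (Q_mem_Hf _ _ (by omega)))
  | zero => rw [mul_zero]; exact Submodule.zero_mem _
  | add x y _ _ hx hy => rw [mul_add]; exact Submodule.add_mem _ hx hy
  | smul a x _ hx => rw [mul_smul_comm]; exact Submodule.smul_mem _ _ hx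

/-- `Hf n` is the span of the `2n` matrices `wmat` -/
theorem Hf_top_eq {n : ℕ} (hn : 1 ≤ n) (braid : altp A₁ A₂ n = altp A₂ A₁ n) :
    Hf A₁ A₂ n = Submodule.span ℝ (Set.range (wmat A₁ A₂ n)) := by
  apply le_antisymm
  · apply Submodule.span_le.2
    rintro M ⟨k, hk, rfl | rfl⟩
    · exact Submodule.subset_span ⟨Sum.inl ⟨k, by omega⟩, rfl⟩
    · rcases Nat.eq_zero_or_pos k with h0 | hpos
      · subst h0
        exact Submodule.subset_span ⟨Sum.inl ⟨0, by omega⟩, rfl⟩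
      · rcases Nat.lt_or_ge k n with hlt | hge
        · refine Submodule.subset_span ⟨Sum.inr ⟨k - 1, by omega⟩, ?_⟩
          simp only [wmat]
          congr 1
          omega
        · have hkn : k = n := le_antisymm hk hge
          subst hkn
          rw [← braid]
          exact Submodule.subset_span ⟨Sum.inl ⟨k, by omega⟩, rfl⟩
  · apply Submodule.span_le.2
    rintro M ⟨i, rfl⟩
    rcases i with k | k
    · exact P_mem_Hf _ _ (by have := k.2; omega)
    · exact Q_mem_Hf _ _ (by have := k.2; omega)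

end Filtration


/-! ### The idempotents `E`, `F` -/

section Idem

/-- the idempotent `(1 + A)/(q + 1)` -/
noncomputable def Emat (q : ℝ) (A : Matrix X X ℝ) : Matrix X X ℝ := (1 / (q + 1)) • (1 + A)

variable {A : Matrix X X ℝ} {q : ℝ}

theorem Emat_transpose (hA : Aᵀ = A) : (Emat q A)ᵀ = Emat q A := by
  unfold Emat
  rw [transpose_smul, transpose_add, transpose_one, hA]

theorem Emat_mul_self (hq : q + 1 ≠ 0) (sq : A * A = q • (1 : Matrix X X ℝ) + (q - 1) • A) :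
    Emat q A * Emat q A = Emat q A := by
  unfold Emat
  rw [smul_mul_smul_comm, add_mul, mul_add, mul_add, one_mul, mul_one, one_mul, sq]
  have : (1 : Matrix X X ℝ) + A + (A + (q • 1 + (q - 1) • A)) = (q + 1) • (1 + A) := by
    module
  rw [this, smul_smul]
  congr 1
  field_simp

theorem A_eq_Emat (hq : q + 1 ≠ 0) : A = (q + 1) • Emat q A - 1 := by
  unfold Emat
  rw [smul_smul, mul_one_div_cancel hq, one_smul]
  abel

theorem A_mul_Emat (hq : q + 1 ≠ 0) (sq : A * A = q • (1 : Matrix X X ℝ) + (q - 1) • A) :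
    A * Emat q A = q • Emat q A := by
  have h : A * Emat q A = ((q + 1) • Emat q A - 1) * Emat q A := by rw [← A_eq_Emat hq]
  rw [h, sub_mul, smul_mul_assoc, Emat_mul_self hq sq, one_mul]
  module

theorem Emat_mul_A (hq : q + 1 ≠ 0) (sq : A * A = q • (1 : Matrix X X ℝ) + (q - 1) • A) :
    Emat q A * A = q • Emat q A := by
  have h : Emat q A * A = Emat q A * ((q + 1) • Emat q A - 1) := by rw [← A_eq_Emat hq]
  rw [h, mul_sub, mul_smul_comm, Emat_mul_self hq sq, mul_one]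
  module

end Idem


/-! ### Consequences of the polygon data -/

namespace PolyData

variable {n u v : ℕ} {A₁ A₂ : Matrix X X ℝ} (h : PolyData n u v A₁ A₂)
include h

theorem u_pos : (0 : ℝ) < u := by have := h.hu; positivity
theorem v_pos : (0 : ℝ) < v := by have := h.hv; positivity
theorem u1_ne : (u : ℝ) + 1 ≠ 0 := by have := h.u_pos; positivity
theorem v1_ne : (v : ℝ) + 1 ≠ 0 := by have := h.v_pos; positivity
theorem card_pos : (0 : ℝ) < Fintype.card X := by
  have := h.hX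
  exact_mod_cast Fintype.card_pos

theorem H_eq : Hf A₁ A₂ n = Submodule.span ℝ (Set.range (wmat A₁ A₂ n)) :=
  Hf_top_eq (by have := h.hn; omega) h.braid

theorem one_mem_H : (1 : Matrix X X ℝ) ∈ Hf A₁ A₂ n := one_mem_Hf _ _ _

theorem A1_mul_mem {M : Matrix X X ℝ} (hM : M ∈ Hf A₁ A₂ n) : A₁ * M ∈ Hf A₁ A₂ n :=
  A1_mul_mem_top h.sq₁ (by have := h.hn; omega) h.braid hM

theorem A2_mul_mem {M : Matrix X X ℝ} (hM : M ∈ Hf A₁ A₂ n) : A₂ * M ∈ Hf A₁ A₂ n :=
  A2_mul_mem_top h.sq₂ (by have := h.hn; omega) h.braid hM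

/-- the algebra generated by `A₁, A₂` is contained in `H` -/
theorem adjoin_mul_mem {a : Matrix X X ℝ} (ha : a ∈ Algebra.adjoin ℝ ({A₁, A₂} : Set (Matrix X X ℝ)))
    {M : Matrix X X ℝ} (hM : M ∈ Hf A₁ A₂ n) : a * M ∈ Hf A₁ A₂ n := by
  induction ha using Algebra.adjoin_induction generalizing M with
  | mem x hx =>
    rcases hx with rfl | rfl
    · exact h.A1_mul_mem hM
    · exact h.A2_mul_mem hM
  | algebraMap r =>
    rw [Algebra.algebraMap_eq_smul_one, smul_mul_assoc, one_mul]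
    exact Submodule.smul_mem _ _ hM
  | add x y _ _ hx hy => rw [add_mul]; exact Submodule.add_mem _ (hx hM) (hy hM)
  | mul x y _ _ hx hy => rw [mul_assoc]; exact hx (hy hM)

theorem adjoin_le_H {a : Matrix X X ℝ}
    (ha : a ∈ Algebra.adjoin ℝ ({A₁, A₂} : Set (Matrix X X ℝ))) : a ∈ Hf A₁ A₂ n := by
  have := h.adjoin_mul_mem ha h.one_mem_H
  rwa [mul_one] at this

theorem A1_mem_adjoin : A₁ ∈ Algebra.adjoin ℝ ({A₁, A₂} : Set (Matrix X X ℝ)) :=
  Algebra.subset_adjoin (by simp)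

theorem A2_mem_adjoin : A₂ ∈ Algebra.adjoin ℝ ({A₁, A₂} : Set (Matrix X X ℝ)) :=
  Algebra.subset_adjoin (by simp)

theorem E_mem_adjoin : Emat u A₁ ∈ Algebra.adjoin ℝ ({A₁, A₂} : Set (Matrix X X ℝ)) := by
  unfold Emat
  exact Subalgebra.smul_mem _ (Subalgebra.add_mem _ (Subalgebra.one_mem _) h.A1_mem_adjoin) _

theorem F_mem_adjoin : Emat v A₂ ∈ Algebra.adjoin ℝ ({A₁, A₂} : Set (Matrix X X ℝ)) := by
  unfold Emat
  exact Subalgebra.smul_mem _ (Subalgebra.add_mem _ (Subalgebra.one_mem _) h.A2_mem_adjoin) _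

/-- polynomials in elements of the generated algebra lie in `H` -/
theorem aeval_mem_H {a : Matrix X X ℝ}
    (ha : a ∈ Algebra.adjoin ℝ ({A₁, A₂} : Set (Matrix X X ℝ))) (p : Polynomial ℝ) :
    Polynomial.aeval a p ∈ Hf A₁ A₂ n := by
  apply h.adjoin_le_H
  have := Polynomial.aeval_subalgebra_coe p _ (⟨a, ha⟩ : Algebra.adjoin ℝ ({A₁, A₂} : Set (Matrix X X ℝ)))
  simp only at this
  rw [← this]
  exact Subtype.mem _

/-! #### trace orthogonality in `P/Q` form -/

theorem trPP {k l : ℕ} (hk : k ≤ n) (hl : l ≤ n) :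
    trace (altp A₁ A₂ k * (altp A₁ A₂ l)ᵀ) =
      if k = l then (Fintype.card X : ℝ) * ((u : ℝ) ^ ((k + 1) / 2) * (v : ℝ) ^ (k / 2)) else 0 := by
  have := h.orth (Sum.inl ⟨k, by omega⟩) (Sum.inl ⟨l, by omega⟩)
  simp only [wmat, wq, Sum.inl.injEq, Fin.mk.injEq] at this
  exact this

theorem trQP {k l : ℕ} (hk1 : 1 ≤ k) (hk : k + 1 ≤ n) (hl : l ≤ n) :
    trace (altp A₂ A₁ k * (altp A₁ A₂ l)ᵀ) = 0 := by
  have := h.orth (Sum.inr ⟨k - 1, by omega⟩) (Sum.inl ⟨l, by omega⟩)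
  simp only [wmat, reduceCtorEq, if_false] at this
  have e : k - 1 + 1 = k := by omega
  rw [e] at this
  exact this

/-- the functional `M ↦ tr (M Pᵣᵀ)` kills `Hf (r-1)` -/
theorem tr_Hf_eq_zero {r : ℕ} (hr1 : 1 ≤ r) (hr : r ≤ n) {M : Matrix X X ℝ}
    (hM : M ∈ Hf A₁ A₂ (r - 1)) : trace (M * (altp A₁ A₂ r)ᵀ) = 0 := by
  induction hM using Submodule.span_induction with
  | mem M hM =>
    obtain ⟨k, hk, rfl | rfl⟩ := hM
    · rw [h.trPP (by omega) hr, if_neg (by omega)]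
    · rcases Nat.eq_zero_or_pos k with h0 | hpos
      · subst h0
        have : altp A₂ A₁ 0 = altp A₁ A₂ 0 := rfl
        rw [this, h.trPP (by omega) hr, if_neg (by omega)]
      · exact h.trQP hpos (by omega) hr
  | zero => simp
  | add x y _ _ hx hy => rw [add_mul, trace_add, hx, hy, add_zero]
  | smul a x _ hx => rw [smul_mul_assoc, trace_smul, hx, smul_zero]

theorem trP_pos {r : ℕ} (hr : r ≤ n) : 0 < trace (altp A₁ A₂ r * (altp A₁ A₂ r)ᵀ) := by
  rw [h.trPP hr hr, if_pos rfl]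
  have := h.card_pos; have := h.u_pos; have := h.v_pos
  positivity

theorem trQ_nonneg {r : ℕ} (hr1 : 1 ≤ r) (hr : r ≤ n) :
    0 ≤ trace (altp A₂ A₁ r * (altp A₁ A₂ r)ᵀ) := by
  rcases Nat.lt_or_ge r n with hlt | hge
  · rw [h.trQP hr1 (by omega) hr]
  · have : r = n := le_antisymm hr hge
    subst this
    rw [← h.braid]
    exact (h.trP_pos hr).le


/-! #### powers of `S = E + F` -/

theorem E_mul_mem_Hf {i : ℕ} {M : Matrix X X ℝ} (hM : M ∈ Hf A₁ A₂ i) :
    Emat u A₁ * M ∈ Hf A₁ A₂ (i + 1) := by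
  unfold Emat
  rw [smul_mul_assoc, add_mul, one_mul]
  exact Submodule.smul_mem _ _ (Submodule.add_mem _ (Hf_mono _ _ (Nat.le_succ i) hM)
    (A1_mul_mem_Hf h.sq₁ hM))

theorem F_mul_mem_Hf {i : ℕ} {M : Matrix X X ℝ} (hM : M ∈ Hf A₁ A₂ i) :
    Emat v A₂ * M ∈ Hf A₁ A₂ (i + 1) := by
  unfold Emat
  rw [smul_mul_assoc, add_mul, one_mul]
  exact Submodule.smul_mem _ _ (Submodule.add_mem _ (Hf_mono _ _ (Nat.le_succ i) hM)
    (A2_mul_mem_Hf h.sq₂ hM))

theorem S_pow_mem_Hf (i : ℕ) : (Emat u A₁ + Emat v A₂) ^ i ∈ Hf A₁ A₂ i := by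
  induction i with
  | zero => rw [pow_zero]; exact one_mem_Hf _ _ _
  | succ i ih =>
    rw [pow_succ', add_mul]
    exact Submodule.add_mem _ (h.E_mul_mem_Hf ih) (h.F_mul_mem_Hf ih)

theorem E_mul_P_mem {i : ℕ} (hi : 1 ≤ i) : Emat u A₁ * altp A₁ A₂ i ∈ Hf A₁ A₂ i := by
  obtain ⟨k, rfl⟩ : ∃ k, i = k + 1 := ⟨i - 1, by omega⟩
  unfold Emat
  rw [smul_mul_assoc, add_mul, one_mul, A1_mul_P_succ h.sq₁]
  exact Submodule.smul_mem _ _ (Submodule.add_mem _ (P_mem_Hf _ _ le_rfl)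
    (Submodule.add_mem _ (Submodule.smul_mem _ _ (Q_mem_Hf _ _ (by omega)))
      (Submodule.smul_mem _ _ (P_mem_Hf _ _ le_rfl))))

theorem F_mul_Q_mem {i : ℕ} (hi : 1 ≤ i) : Emat v A₂ * altp A₂ A₁ i ∈ Hf A₁ A₂ i := by
  obtain ⟨k, rfl⟩ : ∃ k, i = k + 1 := ⟨i - 1, by omega⟩
  unfold Emat
  rw [smul_mul_assoc, add_mul, one_mul, A2_mul_Q_succ h.sq₂]
  exact Submodule.smul_mem _ _ (Submodule.add_mem _ (Q_mem_Hf _ _ le_rfl)
    (Submodule.add_mem _ (Submodule.smul_mem _ _ (P_mem_Hf _ _ (by omega)))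
      (Submodule.smul_mem _ _ (Q_mem_Hf _ _ le_rfl))))

/-- the leading terms of `Sⁱ` -/
theorem S_pow_top {i : ℕ} (hi : 1 ≤ i) :
    ∃ α β : ℝ, 0 < α ∧ 0 < β ∧ ∃ L ∈ Hf A₁ A₂ (i - 1),
      (Emat u A₁ + Emat v A₂) ^ i = α • altp A₁ A₂ i + β • altp A₂ A₁ i + L := by
  induction i, hi using Nat.le_induction with
  | base =>
    refine ⟨1 / ((u : ℝ) + 1), 1 / ((v : ℝ) + 1), ?_, ?_,
      (1 / ((u : ℝ) + 1) + 1 / ((v : ℝ) + 1)) • (1 : Matrix X X ℝ),
      Submodule.smul_mem _ _ (one_mem_Hf _ _ _), ?_⟩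
    · have := h.u_pos; positivity
    · have := h.v_pos; positivity
    · simp only [pow_one, Emat, altp, mul_one]
      module
  | succ i hi ih =>
    obtain ⟨α, β, hα, hβ, L, hL, hS⟩ := ih
    have hu := h.u_pos
    have hv := h.v_pos
    refine ⟨β / ((u : ℝ) + 1), α / ((v : ℝ) + 1), by positivity, by positivity,
      α • (Emat u A₁ * altp A₁ A₂ i) + (β / ((u : ℝ) + 1)) • altp A₂ A₁ i +
        (α / ((v : ℝ) + 1)) • altp A₁ A₂ i + β • (Emat v A₂ * altp A₂ A₁ i) +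
        (Emat u A₁ * L + Emat v A₂ * L), ?_, ?_⟩
    · have e : i + 1 - 1 = i := by omega
      rw [e]
      have hL' : L ∈ Hf A₁ A₂ (i - 1) := hL
      have hEL : Emat u A₁ * L ∈ Hf A₁ A₂ i := by
        have := h.E_mul_mem_Hf hL
        have e2 : i - 1 + 1 = i := by omega
        rwa [e2] at this
      have hFL : Emat v A₂ * L ∈ Hf A₁ A₂ i := by
        have := h.F_mul_mem_Hf hL
        have e2 : i - 1 + 1 = i := by omega
        rwa [e2] at this
      refine Submodule.add_mem _ (Submodule.add_mem _ (Submodule.add_mem _ (Submodule.add_mem _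
        (Submodule.smul_mem _ _ (h.E_mul_P_mem hi)) (Submodule.smul_mem _ _ (Q_mem_Hf _ _ le_rfl)))
        (Submodule.smul_mem _ _ (P_mem_Hf _ _ le_rfl)))
        (Submodule.smul_mem _ _ (h.F_mul_Q_mem hi))) (Submodule.add_mem _ hEL hFL)
    · rw [pow_succ', hS]
      have e1 : Emat u A₁ * altp A₂ A₁ i =
          (1 / ((u : ℝ) + 1)) • (altp A₂ A₁ i + altp A₁ A₂ (i + 1)) := by
        rw [altp]; unfold Emat; rw [smul_mul_assoc, add_mul, one_mul]
      have e2 : Emat v A₂ * altp A₁ A₂ i =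
          (1 / ((v : ℝ) + 1)) • (altp A₁ A₂ i + altp A₂ A₁ (i + 1)) := by
        rw [altp]; unfold Emat; rw [smul_mul_assoc, add_mul, one_mul]
      simp only [add_mul, mul_add, mul_smul_comm, e1, e2]
      module

/-- the first `n + 1` powers of `S = E + F` are linearly independent -/
theorem aeval_S_ne_zero {p : Polynomial ℝ} (hp : p ≠ 0) (hdeg : p.natDegree ≤ n) :
    Polynomial.aeval (Emat u A₁ + Emat v A₂) p ≠ 0 := by
  intro h0
  set r := p.natDegree with hr
  have hsum := Polynomial.aeval_eq_sum_range (R := ℝ) (p := p) (Emat u A₁ + Emat v A₂)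
  rw [h0, ← hr, Finset.sum_range_succ] at hsum
  have hφ := congrArg (fun M => trace (M * (altp A₁ A₂ r)ᵀ)) hsum
  simp only [zero_mul, trace_zero, add_mul, trace_add, Finset.sum_mul, trace_sum,
    smul_mul_assoc, trace_smul, smul_eq_mul] at hφ
  have hlow : ∀ i ∈ Finset.range r,
      p.coeff i * trace ((Emat u A₁ + Emat v A₂) ^ i * (altp A₁ A₂ r)ᵀ) = 0 := by
    intro i hi
    have hir : i < r := Finset.mem_range.1 hi
    rw [h.tr_Hf_eq_zero (by omega) hdeg (Hf_mono _ _ (by omega) (h.S_pow_mem_Hf i)), mul_zero]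
  rw [Finset.sum_eq_zero hlow, zero_add] at hφ
  have hlead : p.coeff r ≠ 0 := by
    rw [hr]; exact Polynomial.leadingCoeff_ne_zero.2 hp
  have htop : 0 < trace ((Emat u A₁ + Emat v A₂) ^ r * (altp A₁ A₂ r)ᵀ) := by
    rcases Nat.eq_zero_or_pos r with hr0 | hrpos
    · rw [hr0, pow_zero]
      have := h.trP_pos (Nat.zero_le n)
      simpa [altp] using this
    · obtain ⟨α, β, hα, hβ, L, hL, hS⟩ := h.S_pow_top hrpos
      rw [hS, add_mul, add_mul, trace_add, trace_add, smul_mul_assoc, smul_mul_assoc, trace_smul,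
        trace_smul, h.tr_Hf_eq_zero hrpos hdeg hL, add_zero, smul_eq_mul, smul_eq_mul]
      have h1 := h.trP_pos hdeg
      have h2 := h.trQ_nonneg hrpos hdeg
      positivity
  rcases mul_eq_zero.1 hφ.symm with h1 | h1
  · exact hlead h1
  · linarith

end PolyData

end Cfsg.Agent.Lib.Helper3_FHAlg
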