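/-
Feit–Higman, part 3: spectral decomposition of a real symmetric matrix in the form needed:
the finite set of eigenvalues, the annihilating polynomial, and spectral projections which are
polynomials in the matrix and have natural-number trace.
-/
import Mathlib

set_option autoImplicit false
set_option linter.unusedSectionVars false
set_option linter.unusedVariables false

namespace Cfsg.Agent.Lib.Helper3_FHSpec

open Matrix Polynomial

variable {Y : Type*} [Fintype Y] [DecidableEq Y] {M : Matrix Y Y ℝ}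

theorem isHermitian_of_transpose (h : Mᵀ = M) : M.IsHermitian := by
  unfold Matrix.IsHermitian
  rw [conjTranspose_eq_transpose_of_trivial, h]

variable (hM : M.IsHermitian)

/-- the set of eigenvalues -/
noncomputable def eig : Finset ℝ := Finset.univ.image hM.eigenvalues

theorem eigenvalues_mem_eig (i : Y) : hM.eigenvalues i ∈ eig hM :=
  Finset.mem_image_of_mem _ (Finset.mem_univ i)

/-- conjugation by the orthogonal matrix of eigenvectors -/
noncomputable def conj : Matrix Y Y ℝ ≃⋆ₐ[ℝ] Matrix Y Y ℝ :=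
  Unitary.conjStarAlgAut ℝ (Matrix Y Y ℝ) hM.eigenvectorUnitary

theorem M_eq : M = conj hM (diagonal hM.eigenvalues) := by
  have h := hM.spectral_theorem
  have e : (RCLike.ofReal ∘ hM.eigenvalues : Y → ℝ) = hM.eigenvalues := by
    ext i; simp
  rw [e] at h
  exact h

theorem aeval_diagonal (d : Y → ℝ) (p : ℝ[X]) :
    aeval (diagonal d : Matrix Y Y ℝ) p = diagonal (fun i => p.eval (d i)) := by
  have h1 : (diagonal d : Matrix Y Y ℝ) = Matrix.diagonalAlgHom ℝ d := rfl
  rw [h1, aeval_algHom_apply]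
  show diagonal (aeval d p) = _
  congr 1
  ext i
  have h2 := aeval_algHom_apply (Pi.evalAlgHom ℝ (fun _ : Y => ℝ) i) d p
  simp only [Pi.evalAlgHom_apply] at h2
  rw [← h2]
  simp [aeval_def, eval₂_eq_eval_map]

theorem aeval_eq (p : ℝ[X]) :
    aeval M p = conj hM (diagonal (fun i => p.eval (hM.eigenvalues i))) := by
  conv_lhs => rw [M_eq hM]
  rw [aeval_algHom_apply, aeval_diagonal]

theorem trace_conj (D : Matrix Y Y ℝ) : trace (conj hM D) = trace D := by
  unfold conj
  rw [Unitary.conjStarAlgAut_apply, trace_mul_cycle, Unitary.coe_star_mul_self, one_mul]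

theorem conj_transpose (D : Matrix Y Y ℝ) : (conj hM D)ᵀ = conj hM Dᵀ := by
  have h := map_star (conj hM) D
  rw [star_eq_conjTranspose, star_eq_conjTranspose, conjTranspose_eq_transpose_of_trivial,
    conjTranspose_eq_transpose_of_trivial] at h
  exact h.symm

/-- the annihilating polynomial -/
theorem aeval_prod_eq_zero : aeval M (∏ μ ∈ eig hM, (X - C μ)) = 0 := by
  rw [aeval_eq hM]
  have : (fun i => (∏ μ ∈ eig hM, (X - C μ)).eval (hM.eigenvalues i)) = fun _ => (0 : ℝ) := by
    ext i
    rw [eval_prod]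
    apply Finset.prod_eq_zero (eigenvalues_mem_eig hM i)
    simp
  rw [this]
  have : (diagonal fun _ : Y => (0 : ℝ)) = 0 := by ext i j; simp [diagonal]
  rw [this, map_zero]

/-- the spectral projection for `μ` -/
noncomputable def proj (μ : ℝ) : Matrix Y Y ℝ :=
  conj hM (diagonal (fun i => if hM.eigenvalues i = μ then 1 else 0))

theorem proj_mul_self (μ : ℝ) : proj hM μ * proj hM μ = proj hM μ := by
  unfold proj
  rw [← map_mul, diagonal_mul_diagonal]
  congr 2
  ext i
  split_ifs <;> simp

theorem proj_transpose (μ : ℝ) : (proj hM μ)ᵀ = proj hM μ := by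
  unfold proj
  rw [conj_transpose, diagonal_transpose]

theorem mul_proj (μ : ℝ) : M * proj hM μ = μ • proj hM μ := by
  have e : M * proj hM μ = conj hM (diagonal hM.eigenvalues) * proj hM μ := by rw [← M_eq hM]
  rw [e]
  unfold proj
  rw [← map_mul, diagonal_mul_diagonal, ← map_smul]
  congr 1
  rw [← diagonal_smul]
  congr 1
  ext i
  simp only [Pi.smul_apply, smul_eq_mul]
  split_ifs with h
  · rw [h]
  · simp

theorem trace_proj (μ : ℝ) :
    trace (proj hM μ) = ((Finset.univ.filter fun i => hM.eigenvalues i = μ).card : ℝ) := by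
  unfold proj
  rw [trace_conj, trace_diagonal, Finset.sum_ite, Finset.sum_const_zero, add_zero,
    Finset.sum_const, nsmul_eq_mul, mul_one]

theorem trace_proj_pos {μ : ℝ} (hμ : μ ∈ eig hM) :
    0 < (Finset.univ.filter fun i => hM.eigenvalues i = μ).card := by
  obtain ⟨i, _, hi⟩ := Finset.mem_image.1 hμ
  exact Finset.card_pos.2 ⟨i, Finset.mem_filter.2 ⟨Finset.mem_univ i, hi⟩⟩

theorem proj_ne_zero {μ : ℝ} (hμ : μ ∈ eig hM) : proj hM μ ≠ 0 := by
  intro h
  have h1 := trace_proj hM μ
  rw [h, trace_zero] at h1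
  have h2 := trace_proj_pos hM hμ
  have : (0 : ℝ) < ((Finset.univ.filter fun i => hM.eigenvalues i = μ).card : ℝ) := by
    exact_mod_cast h2
  linarith

/-- spectral projections are polynomials in `M` -/
theorem proj_eq_aeval {μ : ℝ} (hμ : μ ∈ eig hM) :
    proj hM μ = aeval M (Lagrange.basis (eig hM) id μ) := by
  rw [aeval_eq hM]
  unfold proj
  congr 2
  ext i
  split_ifs with h
  · have := Lagrange.eval_basis_self (s := eig hM) (v := (id : ℝ → ℝ)) (i := μ)
      (Function.injective_id.injOn) hμ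
    simp only [id] at this
    rw [h, this]
  · have := Lagrange.eval_basis_of_ne (s := eig hM) (v := (id : ℝ → ℝ)) (i := μ)
      (j := hM.eigenvalues i) (fun e => h e.symm) (eigenvalues_mem_eig hM i)
    simp only [id] at this
    rw [this]

/-- eigenvectors exist for members of `eig` -/
theorem exists_eigenvector {μ : ℝ} (hμ : μ ∈ eig hM) :
    ∃ ξ : Y → ℝ, ξ ≠ 0 ∧ M *ᵥ ξ = μ • ξ := by
  obtain ⟨i, _, hi⟩ := Finset.mem_image.1 hμ
  refine ⟨⇑(hM.eigenvectorBasis i), ?_, ?_⟩
  · intro h0
    have h1 := hM.eigenvectorBasis.orthonormal.1 i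
    have h2 : hM.eigenvectorBasis i = 0 := by
      ext j
      have := congrFun h0 j
      simpa using this
    rw [h2, norm_zero] at h1
    exact zero_ne_one h1
  · rw [← hi]
    exact hM.mulVec_eigenvectorBasis i

theorem aeval_mulVec {μ : ℝ} {ξ : Y → ℝ} (h : M *ᵥ ξ = μ • ξ) (p : ℝ[X]) :
    (aeval M p) *ᵥ ξ = p.eval μ • ξ := by
  induction p using Polynomial.induction_on with
  | C a =>
    simp only [aeval_C, eval_C]
    rw [Algebra.algebraMap_eq_smul_one, smul_mulVec, one_mulVec]
  | add p q hp hq => rw [map_add, add_mulVec, hp, hq, eval_add, add_smul]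
  | monomial k a ih =>
    rw [pow_succ, ← mul_assoc, map_mul, aeval_X, ← mulVec_mulVec, h, mulVec_smul, ih]
    simp only [eval_mul, eval_X, eval_C, eval_pow, smul_smul]
    congr 1
    ring

/-- conversely every eigenvalue lies in `eig` -/
theorem mem_eig_of_eigenvector {μ : ℝ} {ξ : Y → ℝ} (hξ : ξ ≠ 0) (h : M *ᵥ ξ = μ • ξ) :
    μ ∈ eig hM := by
  have h1 := aeval_mulVec h (∏ ν ∈ eig hM, (X - C ν))
  rw [aeval_prod_eq_zero hM, zero_mulVec] at h1
  have h2 : (∏ ν ∈ eig hM, (X - C ν)).eval μ = 0 := by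
    by_contra hne
    apply hξ
    have := congrArg (fun w => ((∏ ν ∈ eig hM, (X - C ν)).eval μ)⁻¹ • w) h1
    simp only [smul_zero, smul_smul, inv_mul_cancel₀ hne, one_smul] at this
    exact this.symm
  rw [eval_prod, Finset.prod_eq_zero_iff] at h2
  obtain ⟨ν, hν, h3⟩ := h2
  simp only [eval_sub, eval_X, eval_C] at h3
  have : μ = ν := by linarith
  rw [this]; exact hν

theorem natDegree_prod_eig : (∏ μ ∈ eig hM, (X - C μ)).natDegree = (eig hM).card := by
  rw [natDegree_prod_of_monic _ _ (fun μ _ => monic_X_sub_C μ)]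
  simp

theorem prod_eig_ne_zero : (∏ μ ∈ eig hM, (X - C μ)) ≠ 0 :=
  (monic_prod_of_monic _ _ (fun μ _ => monic_X_sub_C μ)).ne_zero

end Cfsg.Agent.Lib.Helper3_FHSpec
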