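/-
Feit–Higman, part 1: the two-dimensional modules of the dihedral Hecke algebra, as explicit
2×2 real matrices, and the evaluation of the sum of squares of their matrix coefficients
(the "Schur element").
-/
import Mathlib
import Cfsg.Agent.Lib.Helper6_Coxeter

set_option autoImplicit false
set_option linter.unusedSectionVars false
set_option linter.unusedVariables false

namespace Cfsg.Agent.Lib.Helper3_FHTwo

open Matrix Cfsg.Agent.Lib.Helper6_Coxeter

/-! ### generalities on alternating products -/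

theorem altp_two_mul {M : Type*} [Monoid M] (x y : M) (l : ℕ) :
    altp x y (2 * l) = (x * y) ^ l := by
  induction l with
  | zero => simp [altp]
  | succ l ih =>
    have : 2 * (l + 1) = (2 * l + 1) + 1 := by ring
    rw [this, altp, altp, ih, pow_succ', mul_assoc]

theorem altp_two_mul_add_one {M : Type*} [Monoid M] (x y : M) (l : ℕ) :
    altp x y (2 * l + 1) = x * (y * x) ^ l := by
  rw [altp, altp_two_mul]

theorem mul_pow_mul_comm' {M : Type*} [Monoid M] (x y : M) (k : ℕ) :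
    x * (y * x) ^ k = (x * y) ^ k * x := by
  induction k with
  | zero => simp
  | succ k ih => rw [pow_succ, ← mul_assoc, ih, pow_succ, mul_assoc, mul_assoc, mul_assoc]

theorem altp_two_mul_add_one' {M : Type*} [Monoid M] (x y : M) (l : ℕ) :
    altp x y (2 * l + 1) = (x * y) ^ l * x := by
  rw [altp_two_mul_add_one, mul_pow_mul_comm']

theorem altp_succ_right {M : Type*} [Monoid M] (x y : M) (k : ℕ) :
    altp x y (k + 1) = altp x y k * (if Even k then x else y) := by
  induction k generalizing x y with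
  | zero => simp [altp]
  | succ k ih =>
    rw [altp, ih, altp, mul_assoc]
    congr 1
    by_cases h : Even k
    · have : ¬ Even (k + 1) := by simpa [Nat.even_add_one] using h
      simp [h, this]
    · have : Even (k + 1) := by simpa [Nat.even_add_one] using h
      simp [h, this]


/-! ### linear recurrences of order two: invariant and telescoping -/

section Recurrence

variable (τ ρ : ℝ) (x : ℕ → ℝ)

/-- the invariant quadratic form at step 0 -/
def inv0 : ℝ := x 1 ^ 2 - τ * x 1 * x 0 + ρ * x 0 ^ 2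

/-- normalised squares `hₖ = xₖ² ρ / ρᵏ` -/
noncomputable def hh (k : ℕ) : ℝ := x k ^ 2 * ρ / ρ ^ k

theorem inv_eq (hx : ∀ k, x (k + 2) = τ * x (k + 1) - ρ * x k) (k : ℕ) :
    x (k + 1) ^ 2 - τ * x (k + 1) * x k + ρ * x k ^ 2 = ρ ^ k * inv0 τ ρ x := by
  induction k with
  | zero => simp [inv0]
  | succ k ih =>
    have e : ρ ^ (k + 1) * inv0 τ ρ x = ρ * (ρ ^ k * inv0 τ ρ x) := by ring
    rw [e, ← ih, hx k]
    ring

theorem hh_step (hρ : ρ ≠ 0) (hx : ∀ k, x (k + 2) = τ * x (k + 1) - ρ * x k) (k : ℕ) :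
    (4 * ρ - τ ^ 2) * hh ρ x (k + 1) =
      2 * ρ * inv0 τ ρ x - ρ * (hh ρ x (k + 2) - 2 * hh ρ x (k + 1) + hh ρ x k) := by
  have h1 := inv_eq τ ρ x hx k
  have h2 := inv_eq τ ρ x hx (k + 1)
  have hk : ρ ^ k ≠ 0 := pow_ne_zero _ hρ
  have e1 : inv0 τ ρ x = (x (k + 1) ^ 2 - τ * x (k + 1) * x k + ρ * x k ^ 2) / ρ ^ k := by
    rw [h1]; field_simp
  unfold hh
  rw [e1, hx k]
  field_simp
  ring

theorem hh_sum (hρ : ρ ≠ 0) (hx : ∀ k, x (k + 2) = τ * x (k + 1) - ρ * x k) (L : ℕ) :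
    (4 * ρ - τ ^ 2) * ∑ k ∈ Finset.range L, hh ρ x (k + 1) =
      2 * ρ * L * inv0 τ ρ x
        - ρ * ((hh ρ x (L + 1) - hh ρ x L) - (hh ρ x 1 - hh ρ x 0)) := by
  induction L with
  | zero => simp
  | succ L ih =>
    rw [Finset.sum_range_succ, mul_add, ih, hh_step τ ρ x hρ hx L]
    push_cast
    ring

end Recurrence

/-! ### the 2×2 matrices -/

section TwoByTwo

variable (u v c : ℝ)

/-- action of `A₁` on the 2-dimensional module with basis `Π, Ψ = FΠ` -/
def M1 : Matrix (Fin 2) (Fin 2) ℝ := !![u, (u + 1) * c; 0, -1]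

/-- action of `A₂` -/
def M2 : Matrix (Fin 2) (Fin 2) ℝ := !![-1, 0; v + 1, v]

/-- the matrix coefficient `(1, c) · M · e₁` -/
def fa (M : Matrix (Fin 2) (Fin 2) ℝ) : ℝ := M 0 0 + c * M 1 0

/-- `t = (u+1)(v+1)c` -/
def tt : ℝ := (u + 1) * (v + 1) * c

/-- `τ = t - u - v`, the trace of `R = M₁ M₂` -/
def tau : ℝ := (u + 1) * (v + 1) * c - u - v

/-- `R = M₁ M₂` -/
def RR : Matrix (Fin 2) (Fin 2) ℝ := M1 u c * M2 v

theorem RR_eq : RR u v c = !![-u + (u + 1) * (v + 1) * c, (u + 1) * c * v; -(v + 1), -v] := by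
  unfold RR M1 M2
  ext i j
  fin_cases i <;> fin_cases j <;> simp [Matrix.mul_apply, Fin.sum_univ_two] <;> ring

theorem cayley : RR u v c * RR u v c = tau u v c • RR u v c - (u * v) • (1 : Matrix (Fin 2) (Fin 2) ℝ) := by
  rw [RR_eq]
  unfold tau
  ext i j
  fin_cases i <;> fin_cases j <;> simp [Matrix.mul_apply, Fin.sum_univ_two] <;> ring

theorem fa_M1_mul (M : Matrix (Fin 2) (Fin 2) ℝ) : fa c (M1 u c * M) = u * fa c M := by
  unfold fa M1
  simp [Matrix.mul_apply, Fin.sum_univ_two]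
  ring

theorem fa_mul_M1 (M : Matrix (Fin 2) (Fin 2) ℝ) : fa c (M * M1 u c) = u * fa c M := by
  unfold fa M1
  simp [Matrix.mul_apply, Fin.sum_univ_two]
  ring

theorem fa_add (M M' : Matrix (Fin 2) (Fin 2) ℝ) : fa c (M + M') = fa c M + fa c M' := by
  unfold fa; simp; ring

theorem fa_sub (M M' : Matrix (Fin 2) (Fin 2) ℝ) : fa c (M - M') = fa c M - fa c M' := by
  unfold fa; simp; ring

theorem fa_smul (r : ℝ) (M : Matrix (Fin 2) (Fin 2) ℝ) : fa c (r • M) = r * fa c M := by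
  unfold fa; simp; ring

theorem fa_one : fa c (1 : Matrix (Fin 2) (Fin 2) ℝ) = 1 := by
  unfold fa; simp

/-- the sequence `b̂ₖ`: `b̂₀ = 1/u`, `b̂_{k+1} = fa (M₂ Rᵏ)` -/
noncomputable def bb : ℕ → ℝ
  | 0 => 1 / u
  | 1 => (v + 1) * c - 1
  | (k + 2) => tau u v c * bb (k + 1) - (u * v) * bb k

theorem bb_zero : bb u v c 0 = 1 / u := by rw [bb]
theorem bb_one : bb u v c 1 = (v + 1) * c - 1 := by rw [bb]
theorem bb_succ_succ (k : ℕ) :
    bb u v c (k + 2) = tau u v c * bb u v c (k + 1) - (u * v) * bb u v c k := by rw [bb]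

theorem fa_M2 : fa c (M2 v) = (v + 1) * c - 1 := by
  unfold fa M2; simp; ring

theorem fa_M2_RR (hu : u ≠ 0) : fa c (M2 v * RR u v c) =
    tau u v c * ((v + 1) * c - 1) - (u * v) * (1 / u) := by
  rw [RR_eq]
  unfold fa M2 tau
  simp [Matrix.mul_apply, Fin.sum_univ_two]
  field_simp
  ring

theorem pow_succ_succ_RR (k : ℕ) : RR u v c ^ (k + 2) =
    tau u v c • RR u v c ^ (k + 1) - (u * v) • RR u v c ^ k := by
  rw [pow_succ (RR u v c) (k + 1), pow_succ (RR u v c) k, mul_assoc, cayley, mul_sub, mul_smul_comm,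
    mul_smul_comm, mul_one]

theorem fa_M2_pow (hu : u ≠ 0) : ∀ k : ℕ, fa c (M2 v * RR u v c ^ k) = bb u v c (k + 1) := by
  intro k
  induction k using Nat.strong_induction_on with
  | _ k ih =>
    match k, ih with
    | 0, _ => rw [pow_zero, mul_one, fa_M2, bb_one]
    | 1, _ =>
      rw [pow_one, fa_M2_RR u v c hu, bb_succ_succ, bb_one, bb_zero]
    | (k + 2), ih =>
      have e : bb u v c (k + 2 + 1) =
          tau u v c * bb u v c (k + 1 + 1) - (u * v) * bb u v c (k + 1) := bb_succ_succ u v c (k + 1)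
      rw [pow_succ_succ_RR, mul_sub, mul_smul_comm, mul_smul_comm, fa_sub, fa_smul, fa_smul,
        ih (k + 1) (by omega), ih k (by omega), e]


/-! ### the weighted sum of squares -/

/-- `a(Q_k)² / q(Q_k)` for the alternating word `Q_k = M₂ M₁ M₂ ...` -/
noncomputable def ga (k : ℕ) : ℝ :=
  fa c (altp (M2 v) (M1 u c) k) ^ 2 / (v ^ ((k + 1) / 2) * u ^ (k / 2))

/-- `a(P_k)² / q(P_k)` for the alternating word `P_k = M₁ M₂ M₁ ...` -/
noncomputable def pa (k : ℕ) : ℝ :=
  fa c (altp (M1 u c) (M2 v) k) ^ 2 / (u ^ ((k + 1) / 2) * v ^ (k / 2))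

/-- the total sum over the `2n` elements of the dihedral group -/
noncomputable def Stot (n : ℕ) : ℝ :=
  ∑ k ∈ Finset.range (n + 1), pa u v c k + ∑ k ∈ Finset.range (n - 1), ga u v c (k + 1)

theorem ga_zero : ga u v c 0 = 1 := by
  simp [ga, altp, fa_one]

theorem pa_zero : pa u v c 0 = 1 := by
  simp [pa, altp, fa_one]

theorem pa_succ (hu : u ≠ 0) (hv : v ≠ 0) (k : ℕ) : pa u v c (k + 1) = u * ga u v c k := by
  unfold pa ga
  rw [altp, fa_M1_mul]
  have e1 : (k + 1 + 1) / 2 = k / 2 + 1 := by omega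
  rw [e1, pow_succ]
  field_simp
  ring

theorem ga_odd (hu : u ≠ 0) (hv : v ≠ 0) (l : ℕ) :
    ga u v c (2 * l + 1) = hh (u * v) (bb u v c) (l + 1) / v := by
  unfold ga hh
  rw [altp_two_mul_add_one, ← RR, fa_M2_pow u v c hu]
  have e1 : (2 * l + 1 + 1) / 2 = l + 1 := by omega
  have e2 : (2 * l + 1) / 2 = l := by omega
  rw [e1, e2, mul_pow, pow_succ, pow_succ]
  field_simp
  ring

theorem ga_even (hu : u ≠ 0) (hv : v ≠ 0) (l : ℕ) :
    ga u v c (2 * l + 2) = u * hh (u * v) (bb u v c) (l + 1) / v := by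
  unfold ga hh
  rw [altp, altp_two_mul_add_one', ← mul_assoc, fa_mul_M1, ← RR, fa_M2_pow u v c hu]
  have e1 : (2 * l + 1 + 1 + 1) / 2 = l + 1 := by omega
  have e2 : (2 * l + 1 + 1) / 2 = l + 1 := by omega
  rw [e1, e2, mul_pow, pow_succ, pow_succ]
  field_simp
  ring

theorem Stot_eq (hu : u ≠ 0) (hv : v ≠ 0) {n : ℕ} (hn : 1 ≤ n) :
    Stot u v c n = (1 + u) * (1 + ∑ k ∈ Finset.range (n - 1), ga u v c (k + 1)) := by
  unfold Stot
  rw [Finset.sum_range_succ', pa_zero]
  have e : ∑ k ∈ Finset.range n, pa u v c (k + 1) = u * ∑ k ∈ Finset.range n, ga u v c k := by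
    rw [Finset.mul_sum]; exact Finset.sum_congr rfl fun k _ => pa_succ u v c hu hv k
  rw [e]
  obtain ⟨m, rfl⟩ : ∃ m, n = m + 1 := ⟨n - 1, by omega⟩
  rw [Finset.sum_range_succ', ga_zero]
  simp only [Nat.add_sub_cancel]
  ring

/-- partial sums of `ga` over an even number of terms -/
theorem sum_ga_even (hu : u ≠ 0) (hv : v ≠ 0) (p : ℕ) :
    ∑ k ∈ Finset.range (2 * p), ga u v c (k + 1) =
      (1 + u) / v * ∑ l ∈ Finset.range p, hh (u * v) (bb u v c) (l + 1) := by
  induction p with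
  | zero => simp
  | succ p ih =>
    have : 2 * (p + 1) = 2 * p + 1 + 1 := by ring
    rw [this, Finset.sum_range_succ, Finset.sum_range_succ, ih, Finset.sum_range_succ,
      ga_odd u v c hu hv, show 2 * p + 1 + 1 = 2 * p + 2 from rfl, ga_even u v c hu hv]
    field_simp
    ring


/-! ### consequences of the braid relation -/

theorem scalar_of_comm (hu : u + 1 ≠ 0) (hv : v + 1 ≠ 0) (hc : c ≠ 0)
    (Z : Matrix (Fin 2) (Fin 2) ℝ) (h1 : M1 u c * Z = Z * M1 u c) (h2 : M2 v * Z = Z * M2 v) :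
    Z = Z 0 0 • (1 : Matrix (Fin 2) (Fin 2) ℝ) := by
  have e10 := congrFun (congrFun h1 1) 0
  have e01 := congrFun (congrFun h2 0) 1
  have e01' := congrFun (congrFun h1 0) 1
  simp [M1, M2, Matrix.mul_apply, Fin.sum_univ_two] at e10 e01 e01'
  have z10 : Z 1 0 = 0 := by
    have : Z 1 0 * (u + 1) = 0 := by linarith
    rcases mul_eq_zero.1 this with h | h
    · exact h
    · exact absurd h hu
  have z01 : Z 0 1 = 0 := by
    have : Z 0 1 * (v + 1) = 0 := by linarith
    rcases mul_eq_zero.1 this with h | h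
    · exact h
    · exact absurd h hv
  have z11 : Z 1 1 = Z 0 0 := by
    rw [z01] at e01'
    have : (u + 1) * c * (Z 1 1 - Z 0 0) = 0 := by linarith
    rcases mul_eq_zero.1 this with h | h
    · rcases mul_eq_zero.1 h with h | h
      · exact absurd h hu
      · exact absurd h hc
    · linarith
  ext i j
  fin_cases i <;> fin_cases j <;> simp [z10, z01, z11]

theorem det_M1 : (M1 u c).det = -u := by
  simp [M1, Matrix.det_fin_two]

theorem det_M2 : (M2 v).det = -v := by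
  simp [M2, Matrix.det_fin_two]

theorem det_RR : (RR u v c).det = u * v := by
  rw [RR, Matrix.det_mul, det_M1, det_M2]; ring

/-- `(1+u)² u I₀ = t (K - t)` -/
theorem inv0_eq (hu : u ≠ 0) :
    (1 + u) ^ 2 * u * inv0 (tau u v c) (u * v) (bb u v c) =
      tt u v c * ((u + 1) * (v + 1) - tt u v c) := by
  unfold inv0 tau tt
  rw [bb_one, bb_zero]
  field_simp
  ring

theorem hh_zero_bb (hu : u ≠ 0) : hh (u * v) (bb u v c) 0 = v / u := by
  unfold hh
  rw [bb_zero]
  field_simp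

theorem hh_nonneg (hu : 0 < u) (hv : 0 < v) (k : ℕ) : 0 ≤ hh (u * v) (bb u v c) k := by
  unfold hh
  have : 0 < u * v := mul_pos hu hv
  positivity

theorem braid_even_aux (hu : 0 < u) (hv : 0 < v) (hc : c ≠ 0) {p : ℕ} (hp : 1 ≤ p)
    (hbr : altp (M1 u c) (M2 v) (2 * p) = altp (M2 v) (M1 u c) (2 * p)) :
    hh (u * v) (bb u v c) (p + 1) = hh (u * v) (bb u v c) 1 ∧
    hh (u * v) (bb u v c) p = hh (u * v) (bb u v c) 0 := by
  have hZ1 : altp (M1 u c) (M2 v) (2 * p) = RR u v c ^ p := altp_two_mul _ _ _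
  have hZ2 : altp (M2 v) (M1 u c) (2 * p) = RR u v c ^ p := by rw [← hbr, hZ1]
  have c1 : M1 u c * RR u v c ^ p = RR u v c ^ p * M1 u c := by
    have h := altp_succ_right (M1 u c) (M2 v) (2 * p)
    rw [if_pos (even_two_mul p), altp, hZ1, hZ2] at h
    exact h
  have c2 : M2 v * RR u v c ^ p = RR u v c ^ p * M2 v := by
    have h := altp_succ_right (M2 v) (M1 u c) (2 * p)
    rw [if_pos (even_two_mul p), altp, hZ1, hZ2] at h
    exact h
  have hsc := scalar_of_comm u v c (by linarith) (by linarith) hc _ c1 c2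
  set ε := (RR u v c ^ p) 0 0 with hε
  have hdet : ε ^ 2 = (u * v) ^ p := by
    have h := congrArg Matrix.det hsc
    rw [Matrix.det_pow, det_RR] at h
    rw [h]
    simp
    try ring
  have hb1 : bb u v c (p + 1) = ε * bb u v c 1 := by
    rw [← fa_M2_pow u v c hu.ne', hsc, mul_smul_comm, mul_one, fa_smul, fa_M2, bb_one]
  have hb0 : u * bb u v c p = ε := by
    obtain ⟨p', rfl⟩ : ∃ p', p = p' + 1 := ⟨p - 1, by omega⟩
    rw [← fa_M2_pow u v c hu.ne', ← fa_mul_M1, mul_assoc]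
    have : M2 v * (RR u v c ^ p' * M1 u c) = altp (M2 v) (M1 u c) (2 * (p' + 1)) := by
      have : 2 * (p' + 1) = 2 * p' + 1 + 1 := by ring
      rw [this, altp, altp_two_mul_add_one', RR]
    rw [this, hZ2, hsc, fa_smul, fa_one, mul_one]
  have hρ : u * v ≠ 0 := (mul_pos hu hv).ne'
  constructor
  · unfold hh
    rw [hb1, mul_pow, hdet, pow_succ, pow_one]
    field_simp
    ring
  · have : bb u v c p = ε / u := by
      rw [← hb0]; field_simp
    unfold hh
    rw [this, bb_zero, div_pow, hdet]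
    field_simp

theorem Stot_pos (hu : 0 < u) (hv : 0 < v) (n : ℕ) : 0 < Stot u v c n := by
  unfold Stot
  rw [Finset.sum_range_succ', pa_zero]
  have h1 : 0 ≤ ∑ k ∈ Finset.range n, pa u v c (k + 1) :=
    Finset.sum_nonneg fun k _ => by unfold pa; positivity
  have h2 : 0 ≤ ∑ k ∈ Finset.range (n - 1), ga u v c (k + 1) :=
    Finset.sum_nonneg fun k _ => by unfold ga; positivity
  linarith

/-- the Schur element identity, `n` even -/
theorem Stot_even (hu : 0 < u) (hv : 0 < v) (hc : c ≠ 0) {p : ℕ} (hp : 1 ≤ p)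
    (hbr : altp (M1 u c) (M2 v) (2 * p) = altp (M2 v) (M1 u c) (2 * p)) :
    Stot u v c (2 * p) * (4 * (u * v) - tau u v c ^ 2) =
      (2 * p : ℕ) * (tt u v c * ((u + 1) * (v + 1) - tt u v c)) := by
  obtain ⟨h1, h0⟩ := braid_even_aux u v c hu hv hc hp hbr
  have hρ : u * v ≠ 0 := (mul_pos hu hv).ne'
  have hsum := hh_sum (tau u v c) (u * v) (bb u v c) hρ (bb_succ_succ u v c) p
  rw [h1, h0, sub_self, mul_zero, sub_zero] at hsum
  obtain ⟨p', rfl⟩ : ∃ p', p = p' + 1 := ⟨p - 1, by omega⟩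
  rw [Stot_eq u v c hu.ne' hv.ne' (by omega)]
  have e : 2 * (p' + 1) - 1 = 2 * p' + 1 := by omega
  rw [e, Finset.sum_range_succ, sum_ga_even u v c hu.ne' hv.ne', ga_odd u v c hu.ne' hv.ne']
  rw [Finset.sum_range_succ] at hsum
  rw [h0, hh_zero_bb u v c hu.ne'] at hsum ⊢
  have hI := inv0_eq u v c hu.ne'
  set Sg := ∑ l ∈ Finset.range p', hh (u * v) (bb u v c) (l + 1) with hSg
  set I0 := inv0 (tau u v c) (u * v) (bb u v c) with hI0
  set D := 4 * (u * v) - tau u v c ^ 2 with hD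
  have key : (1 + u) * (1 + ((1 + u) / v * Sg + v / u / v)) * D =
      (1 + u) ^ 2 / v * (D * (Sg + v / u)) := by
    field_simp
    ring
  rw [key, hsum, ← hI]
  push_cast
  field_simp


theorem det_altp_odd (x y : Matrix (Fin 2) (Fin 2) ℝ) (p : ℕ) :
    (altp x y (2 * p + 1)).det = x.det * (y.det * x.det) ^ p := by
  rw [altp_two_mul_add_one, Matrix.det_mul, Matrix.det_pow, Matrix.det_mul]

theorem braid_odd_eq (hu : 0 < u) (hv : 0 < v) {p : ℕ}
    (hbr : altp (M1 u c) (M2 v) (2 * p + 1) = altp (M2 v) (M1 u c) (2 * p + 1)) : u = v := by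
  have h := congrArg Matrix.det hbr
  rw [det_altp_odd, det_altp_odd, det_M1, det_M2] at h
  have e : (-v * -u) ^ p = (-u * -v) ^ p := by ring
  rw [e] at h
  have hne : (-u * -v) ^ p ≠ 0 := by
    apply pow_ne_zero
    have : 0 < u * v := mul_pos hu hv
    nlinarith
  have := mul_right_cancel₀ hne h
  linarith

theorem braid_odd_aux (hu : 0 < u) {p : ℕ} (hp : 1 ≤ p)
    (hbr : altp (M1 u c) (M2 u) (2 * p + 1) = altp (M2 u) (M1 u c) (2 * p + 1)) :
    bb u u c (p + 1) = u ^ 2 * bb u u c p := by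
  obtain ⟨p', rfl⟩ : ∃ p', p = p' + 1 := ⟨p - 1, by omega⟩
  rw [← fa_M2_pow u u c hu.ne' (p' + 1), RR, ← altp_two_mul_add_one, ← hbr, altp, fa_M1_mul]
  have : 2 * (p' + 1) = 2 * p' + 1 + 1 := by ring
  rw [this, altp, altp_two_mul_add_one', ← mul_assoc, fa_mul_M1, ← RR, fa_M2_pow u u c hu.ne']
  ring

/-- the Schur element identity, `n` odd -/
theorem Stot_odd (hu : 0 < u) (hc1 : c < 1) {p : ℕ} (hp : 1 ≤ p)
    (hbr : altp (M1 u c) (M2 u) (2 * p + 1) = altp (M2 u) (M1 u c) (2 * p + 1)) :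
    Stot u u c (2 * p + 1) * (4 * (u * u) - tau u u c ^ 2) =
      (2 * p + 1 : ℕ) * (tt u u c * ((u + 1) * (u + 1) - tt u u c)) := by
  have hb := braid_odd_aux u c hu hp hbr
  have hρ : u * u ≠ 0 := (mul_pos hu hu).ne'
  have hsum := hh_sum (tau u u c) (u * u) (bb u u c) hρ (bb_succ_succ u u c) p
  have hinv := inv_eq (tau u u c) (u * u) (bb u u c) (bb_succ_succ u u c) p
  have hI := inv0_eq u u c hu.ne'
  have hKt : (u + 1) * (u + 1) - tt u u c ≠ 0 := by
    unfold tt
    have : 0 < (u + 1) * (u + 1) * (1 - c) := by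
      have : 0 < 1 - c := by linarith
      positivity
    nlinarith
  -- X = hh p
  have hp1 : hh (u * u) (bb u u c) (p + 1) = u ^ 2 * hh (u * u) (bb u u c) p := by
    unfold hh
    rw [hb, pow_succ (u * u) p]
    field_simp
  have hX : (1 + u) ^ 2 * u * hh (u * u) (bb u u c) p = tt u u c := by
    have h1 : hh (u * u) (bb u u c) p * ((u + 1) * (u + 1) - tt u u c) =
        inv0 (tau u u c) (u * u) (bb u u c) := by
      have hk : (u * u) ^ p ≠ 0 := pow_ne_zero _ hρ
      have e1 : inv0 (tau u u c) (u * u) (bb u u c) =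
          (bb u u c (p + 1) ^ 2 - tau u u c * bb u u c (p + 1) * bb u u c p +
            u * u * bb u u c p ^ 2) / (u * u) ^ p := by
        rw [hinv]; field_simp
      rw [e1, hb]
      unfold hh tau tt
      field_simp
      ring
    apply mul_right_cancel₀ hKt
    rw [← hI, ← h1]
    ring
  rw [hp1, hh_zero_bb u u c hu.ne'] at hsum
  have h1 : hh (u * u) (bb u u c) 1 = ((u + 1) * c - 1) ^ 2 := by
    unfold hh
    rw [bb_one]
    field_simp
  rw [h1, div_self hu.ne'] at hsum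
  rw [Stot_eq u u c hu.ne' hu.ne' (by omega)]
  have e : 2 * p + 1 - 1 = 2 * p := by omega
  rw [e, sum_ga_even u u c hu.ne' hu.ne']
  set Sg := ∑ l ∈ Finset.range p, hh (u * u) (bb u u c) (l + 1) with hSg
  set I0 := inv0 (tau u u c) (u * u) (bb u u c) with hI0
  set X := hh (u * u) (bb u u c) p with hXdef
  have key : (1 + u) * (1 + (1 + u) / u * Sg) * (4 * (u * u) - tau u u c ^ 2) =
      (1 + u) * (4 * (u * u) - tau u u c ^ 2) +
        (1 + u) ^ 2 / u * ((4 * (u * u) - tau u u c ^ 2) * Sg) := by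
    field_simp
  rw [key, hsum]
  push_cast
  have hu' := hu.ne'
  field_simp
  unfold tau tt at *
  linear_combination (2 * (p : ℝ)) * hI - (u ^ 2 - 1) * hX


/-! ### `Rⁿ` is the scalar `(√(uv))ⁿ` -/

theorem braid_even_scalar (hu : 0 < u) (hv : 0 < v) (hc : c ≠ 0) {p : ℕ}
    (hbr : altp (M1 u c) (M2 v) (2 * p) = altp (M2 v) (M1 u c) (2 * p)) :
    ∃ ε : ℝ, RR u v c ^ p = ε • (1 : Matrix (Fin 2) (Fin 2) ℝ) ∧ ε ^ 2 = (u * v) ^ p := by
  have hZ1 : altp (M1 u c) (M2 v) (2 * p) = RR u v c ^ p := altp_two_mul _ _ _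
  have hZ2 : altp (M2 v) (M1 u c) (2 * p) = RR u v c ^ p := by rw [← hbr, hZ1]
  have c1 : M1 u c * RR u v c ^ p = RR u v c ^ p * M1 u c := by
    have h := altp_succ_right (M1 u c) (M2 v) (2 * p)
    rw [if_pos (even_two_mul p), altp, hZ1, hZ2] at h
    exact h
  have c2 : M2 v * RR u v c ^ p = RR u v c ^ p * M2 v := by
    have h := altp_succ_right (M2 v) (M1 u c) (2 * p)
    rw [if_pos (even_two_mul p), altp, hZ1, hZ2] at h
    exact h
  have hsc := scalar_of_comm u v c (by linarith) (by linarith) hc _ c1 c2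
  refine ⟨(RR u v c ^ p) 0 0, hsc, ?_⟩
  have h := congrArg Matrix.det hsc
  rw [Matrix.det_pow, det_RR] at h
  rw [h]
  simp
  try ring

theorem pow_eq_of_braid_even (hu : 0 < u) (hv : 0 < v) (hc : c ≠ 0) {p : ℕ}
    (hbr : altp (M1 u c) (M2 v) (2 * p) = altp (M2 v) (M1 u c) (2 * p)) :
    RR u v c ^ (2 * p) = (Real.sqrt (u * v)) ^ (2 * p) • (1 : Matrix (Fin 2) (Fin 2) ℝ) := by
  obtain ⟨ε, h1, h2⟩ := braid_even_scalar u v c hu hv hc hbr
  have e1 : (Real.sqrt (u * v)) ^ (2 * p) = (u * v) ^ p := by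
    rw [pow_mul, Real.sq_sqrt (mul_pos hu hv).le]
  rw [e1, mul_comm 2 p, pow_mul, h1, smul_pow, one_pow, h2]

theorem cayley_two (Z : Matrix (Fin 2) (Fin 2) ℝ) :
    Z * Z = Z.trace • Z - Z.det • (1 : Matrix (Fin 2) (Fin 2) ℝ) := by
  ext i j
  fin_cases i <;> fin_cases j <;>
    simp [Matrix.mul_apply, Fin.sum_univ_two, Matrix.trace, Matrix.det_fin_two] <;> ring

theorem pow_eq_of_braid_odd (hu : 0 < u) (hc : c ≠ 0) {p : ℕ}
    (hbr : altp (M1 u c) (M2 u) (2 * p + 1) = altp (M2 u) (M1 u c) (2 * p + 1)) :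
    RR u u c ^ (2 * p + 1) = u ^ (2 * p + 1) • (1 : Matrix (Fin 2) (Fin 2) ℝ) := by
  obtain ⟨Z, hZ⟩ : ∃ Z, Z = altp (M1 u c) (M2 u) (2 * p + 1) := ⟨_, rfl⟩
  have hZ' : Z = altp (M2 u) (M1 u c) (2 * p + 1) := hZ.trans hbr
  have hodd : ¬ Even (2 * p + 1) := by simp
  -- Z * Z = R ^ n
  have hZZ : Z * Z = RR u u c ^ (2 * p + 1) := by
    have : Z * Z = altp (M1 u c) (M2 u) (2 * p + 1) * altp (M2 u) (M1 u c) (2 * p + 1) := by
      rw [← hZ, ← hZ']
    rw [this, altp_two_mul_add_one', altp_two_mul_add_one, ← RR, mul_assoc, ← mul_assoc (M1 u c),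
      ← RR, ← pow_succ', ← pow_add]
    congr 1
    ring
  -- M2 Z = Z M1 and M1 Z = Z M2
  have c21 : M2 u * Z = Z * M1 u c := by
    have h := altp_succ_right (M2 u) (M1 u c) (2 * p + 1)
    rw [if_neg hodd, altp, ← hZ, ← hZ'] at h
    exact h
  have c12 : M1 u c * Z = Z * M2 u := by
    have h := altp_succ_right (M1 u c) (M2 u) (2 * p + 1)
    rw [if_neg hodd, altp, ← hZ, ← hZ'] at h
    exact h
  have hdet : Z.det = -(u ^ (2 * p + 1)) := by
    rw [hZ, det_altp_odd, det_M1, det_M2]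
    ring
  have hCH := cayley_two Z
  -- Z*Z commutes with M1, M2, so is scalar
  have k1 : M1 u c * (Z * Z) = (Z * Z) * M1 u c := by
    rw [← mul_assoc, c12, mul_assoc, c21, mul_assoc]
  have k2 : M2 u * (Z * Z) = (Z * Z) * M2 u := by
    rw [← mul_assoc, c21, mul_assoc, c12, mul_assoc]
  have hsc := scalar_of_comm u u c (by linarith) (by linarith) hc _ k1 k2
  obtain ⟨e, he⟩ : ∃ e, e = (Z * Z) 0 0 := ⟨_, rfl⟩
  rw [← he] at hsc
  -- trace Z = 0
  have htr : Z.trace = 0 := by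
    by_contra hne
    have h1 : Z.trace • Z = (e + Z.det) • (1 : Matrix (Fin 2) (Fin 2) ℝ) := by
      rw [add_smul, ← hsc, hCH]; abel
    have hZsc : Z = ((e + Z.det) / Z.trace) • (1 : Matrix (Fin 2) (Fin 2) ℝ) := by
      calc Z = (1 / Z.trace) • (Z.trace • Z) := by
            rw [smul_smul, one_div, inv_mul_cancel₀ hne, one_smul]
        _ = (1 / Z.trace) • ((e + Z.det) • (1 : Matrix (Fin 2) (Fin 2) ℝ)) := by rw [h1]
        _ = ((e + Z.det) / Z.trace) • (1 : Matrix (Fin 2) (Fin 2) ℝ) := by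
            rw [smul_smul]; congr 1; ring
    obtain ⟨z, hz'⟩ : ∃ z, z = (e + Z.det) / Z.trace := ⟨_, rfl⟩
    rw [← hz'] at hZsc
    have hz : z ≠ 0 := by
      intro h0
      rw [h0, zero_smul] at hZsc
      rw [hZsc] at hdet
      simp at hdet
      have : 0 < u ^ (2 * p + 1) := pow_pos hu _
      linarith
    have h3 := c21
    rw [hZsc, mul_smul_comm, smul_mul_assoc, mul_one, one_mul] at h3
    have h4 := congrFun (congrFun h3 0) 0
    have h5 : z * (-1) = z * u := by simpa [M1, M2] using h4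
    have h6 : z * (u + 1) = 0 := by linarith
    rcases mul_eq_zero.1 h6 with h | h
    · exact hz h
    · linarith
  rw [← hZZ, hsc]
  congr 1
  have h5 := congrFun (congrFun hCH 0) 0
  rw [htr, zero_smul, zero_sub, hdet] at h5
  simp at h5
  rw [he, h5]


/-! ### trigonometric form of `τ` -/

/-- the sequence `sₖ` with `R^(k+1) = s_{k+1} R - ρ s_k` -/
noncomputable def ss : ℕ → ℝ
  | 0 => 0
  | 1 => 1
  | (k + 2) => tau u v c * ss (k + 1) - (u * v) * ss k

theorem ss_zero : ss u v c 0 = 0 := by rw [ss]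
theorem ss_one : ss u v c 1 = 1 := by rw [ss]
theorem ss_succ_succ (k : ℕ) :
    ss u v c (k + 2) = tau u v c * ss u v c (k + 1) - (u * v) * ss u v c k := by rw [ss]

theorem RR_pow_succ (k : ℕ) : RR u v c ^ (k + 1) =
    ss u v c (k + 1) • RR u v c - ((u * v) * ss u v c k) • (1 : Matrix (Fin 2) (Fin 2) ℝ) := by
  induction k with
  | zero => simp [ss_zero, ss_one]
  | succ k ih =>
    rw [pow_succ, ih, sub_mul, smul_mul_assoc, cayley, smul_mul_assoc, one_mul, ss_succ_succ]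
    module

theorem ss_trig {φ r : ℝ} (hr : r ^ 2 = u * v) (hτ : tau u v c = 2 * r * Real.cos φ) (k : ℕ) :
    ss u v c k * r * Real.sin φ = r ^ k * Real.sin (k * φ) := by
  induction k using Nat.strong_induction_on with
  | _ k ih =>
    match k, ih with
    | 0, _ => simp [ss_zero]
    | 1, _ => simp [ss_one]
    | (k + 2), ih =>
      have h1 := ih (k + 1) (by omega)
      have h0 := ih k (by omega)
      rw [ss_succ_succ]
      have e1 : Real.sin ((k + 2 : ℕ) * φ) =
          2 * Real.cos φ * Real.sin ((k + 1 : ℕ) * φ) - Real.sin ((k : ℕ) * φ) := by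
        have a1 : ((k + 2 : ℕ) : ℝ) * φ = (k + 1 : ℕ) * φ + φ := by push_cast; ring
        have a2 : ((k : ℕ) : ℝ) * φ = (k + 1 : ℕ) * φ - φ := by push_cast; ring
        rw [a1, a2, Real.sin_add, Real.sin_sub]; ring
      rw [e1]
      have : (tau u v c * ss u v c (k + 1) - u * v * ss u v c k) * r * Real.sin φ =
          tau u v c * (ss u v c (k + 1) * r * Real.sin φ) - u * v * (ss u v c k * r * Real.sin φ) := by
        ring
      rw [this, h1, h0, hτ, ← hr]
      ring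

theorem exists_cos_of_pow (hu : 0 < u) (hv : 0 < v)
    (hD : 0 < 4 * (u * v) - tau u v c ^ 2) {n : ℕ} (hn : 1 ≤ n)
    (hpow : RR u v c ^ n = (Real.sqrt (u * v)) ^ n • (1 : Matrix (Fin 2) (Fin 2) ℝ)) :
    ∃ j : ℕ, 0 < j ∧ 2 * j < n ∧
      tau u v c = 2 * Real.sqrt (u * v) * Real.cos (2 * Real.pi * j / n) := by
  obtain ⟨r, hr⟩ : ∃ r, r = Real.sqrt (u * v) := ⟨_, rfl⟩
  have hρ : 0 < u * v := mul_pos hu hv
  have hr0 : 0 < r := by rw [hr]; exact Real.sqrt_pos.2 hρ
  have hr2 : r ^ 2 = u * v := by rw [hr]; exact Real.sq_sqrt hρ.le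
  rw [← hr] at hpow ⊢
  -- the angle
  have hlt : (tau u v c / (2 * r)) ^ 2 < 1 := by
    rw [div_pow, div_lt_one (by positivity)]
    nlinarith
  have habs : |tau u v c / (2 * r)| < 1 := by
    rw [← sq_lt_one_iff_abs_lt_one]; exact hlt
  obtain ⟨h1, h2⟩ := abs_lt.1 habs
  obtain ⟨φ, hφ⟩ : ∃ φ, φ = Real.arccos (tau u v c / (2 * r)) := ⟨_, rfl⟩
  have hcos : Real.cos φ = tau u v c / (2 * r) := by
    rw [hφ]; exact Real.cos_arccos h1.le h2.le
  have hφ0 : 0 < φ := by rw [hφ]; exact Real.arccos_pos.2 h2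
  have hφπ : φ < Real.pi := by
    rw [hφ]
    have : Real.arccos (tau u v c / (2 * r)) ≠ Real.pi := by
      intro h
      rw [Real.arccos_eq_pi] at h
      linarith
    exact lt_of_le_of_ne (Real.arccos_le_pi _) this
  have hsin : 0 < Real.sin φ := Real.sin_pos_of_pos_of_lt_pi hφ0 hφπ
  have hτ : tau u v c = 2 * r * Real.cos φ := by
    rw [hcos]; field_simp
  obtain ⟨m, rfl⟩ : ∃ m, n = m + 1 := ⟨n - 1, by omega⟩
  have hR := RR_pow_succ u v c m
  rw [hpow] at hR
  have e10 := congrFun (congrFun hR 1) 0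
  have e00 := congrFun (congrFun hR 0) 0
  rw [RR_eq] at e10 e00
  simp at e10 e00
  have hs1 : ss u v c (m + 1) = 0 := by
    rcases e10 with h | h
    · exact h
    · linarith
  rw [hs1] at e00
  have t1 := ss_trig u v c hr2 hτ (m + 1)
  have t0 := ss_trig u v c hr2 hτ m
  rw [hs1] at t1
  have hsin1 : Real.sin ((m + 1 : ℕ) * φ) = 0 := by
    have : r ^ (m + 1) ≠ 0 := pow_ne_zero _ hr0.ne'
    have h : r ^ (m + 1) * Real.sin ((m + 1 : ℕ) * φ) = 0 := by rw [← t1]; ring
    rcases mul_eq_zero.1 h with h | h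
    · exact absurd h this
    · exact h
  have hsin0 : Real.sin ((m : ℕ) * φ) = - Real.sin φ := by
    have hm : r ^ (m + 2) ≠ 0 := pow_ne_zero _ hr0.ne'
    have h : r ^ (m + 2) * Real.sin ((m : ℕ) * φ) = r ^ (m + 2) * (- Real.sin φ) := by
      have : r ^ (m + 2) * Real.sin ((m : ℕ) * φ) = r ^ 2 * (r ^ m * Real.sin (m * φ)) := by ring
      rw [this, ← t0, hr2]
      have e00' : u * v * ss u v c m = - r ^ (m + 1) := by linarith
      calc u * v * (ss u v c m * r * Real.sin φ) = (u * v * ss u v c m) * r * Real.sin φ := by ring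
        _ = - r ^ (m + 1) * r * Real.sin φ := by rw [e00']
        _ = r ^ (m + 2) * (- Real.sin φ) := by ring
    exact mul_left_cancel₀ hm h
  have hcos1 : Real.cos ((m + 1 : ℕ) * φ) = 1 := by
    have a : ((m : ℕ) : ℝ) * φ = (m + 1 : ℕ) * φ - φ := by push_cast; ring
    rw [a, Real.sin_sub, hsin1] at hsin0
    have : Real.cos ((m + 1 : ℕ) * φ) * Real.sin φ = Real.sin φ := by linarith
    exact mul_right_cancel₀ hsin.ne' (by rw [this, one_mul])
  obtain ⟨k, hk⟩ := (Real.cos_eq_one_iff _).1 hcos1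
  have hpi := Real.pi_pos
  have hk0 : 0 < k := by
    have : (0:ℝ) < k * (2 * Real.pi) := by rw [hk]; positivity
    have : (0:ℝ) < k := by
      by_contra hneg
      push Not at hneg
      nlinarith
    exact_mod_cast this
  refine ⟨k.toNat, by omega, ?_, ?_⟩
  · have h3 : (k : ℝ) * (2 * Real.pi) < (m + 1 : ℕ) * Real.pi := by
      rw [hk]; exact mul_lt_mul_of_pos_left hφπ (by positivity)
    have h4 : (2 * k : ℝ) < (m + 1 : ℕ) := by
      have : (2 * k : ℝ) * Real.pi < (m + 1 : ℕ) * Real.pi := by linarith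
      exact lt_of_mul_lt_mul_right this hpi.le
    have h5 : 2 * k < ((m + 1 : ℕ) : ℤ) := by exact_mod_cast h4
    omega
  · have e : ((k.toNat : ℕ) : ℝ) = (k : ℝ) := by
      have : ((k.toNat : ℕ) : ℤ) = k := Int.toNat_of_nonneg hk0.le
      exact_mod_cast this
    rw [hτ, e]
    congr 2
    have : ((m + 1 : ℕ) : ℝ) ≠ 0 := by positivity
    field_simp
    linarith


/-- summary of the analysis of the 2-dimensional modules -/
theorem two_main (hu : 0 < u) (hv : 0 < v) (hc0 : 0 < c) (hc1 : c < 1) {n : ℕ} (hn : 2 ≤ n)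
    (hbr : altp (M1 u c) (M2 v) n = altp (M2 v) (M1 u c) n) :
    0 < 4 * (u * v) - tau u v c ^ 2 ∧
    Stot u v c n * (4 * (u * v) - tau u v c ^ 2) =
      (n : ℝ) * (tt u v c * ((u + 1) * (v + 1) - tt u v c)) ∧
    (Odd n → u = v) ∧
    ∃ j : ℕ, 0 < j ∧ 2 * j < n ∧
      tau u v c = 2 * Real.sqrt (u * v) * Real.cos (2 * Real.pi * j / n) := by
  have hpos : 0 < tt u v c * ((u + 1) * (v + 1) - tt u v c) := by
    unfold tt
    have : (u + 1) * (v + 1) * c * ((u + 1) * (v + 1) - (u + 1) * (v + 1) * c) =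
        ((u + 1) * (v + 1)) ^ 2 * c * (1 - c) := by ring
    rw [this]
    have : 0 < 1 - c := by linarith
    positivity
  have hS := Stot_pos u v c hu hv n
  have hnpos : (0 : ℝ) < n := by exact_mod_cast (by omega : 0 < n)
  rcases Nat.even_or_odd' n with ⟨p, rfl | rfl⟩
  · -- even
    have hp : 1 ≤ p := by omega
    have hid := Stot_even u v c hu hv hc0.ne' hp hbr
    have hD : 0 < 4 * (u * v) - tau u v c ^ 2 := by
      by_contra hneg
      push Not at hneg
      have : Stot u v c (2 * p) * (4 * (u * v) - tau u v c ^ 2) ≤ 0 :=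
        mul_nonpos_of_nonneg_of_nonpos hS.le hneg
      rw [hid] at this
      have : 0 < ((2 * p : ℕ) : ℝ) * (tt u v c * ((u + 1) * (v + 1) - tt u v c)) :=
        mul_pos hnpos hpos
      linarith
    refine ⟨hD, hid, ?_, ?_⟩
    · intro hodd
      exact absurd (even_two_mul p) (Nat.not_even_iff_odd.2 hodd)
    · exact exists_cos_of_pow u v c hu hv hD (by omega)
        (pow_eq_of_braid_even u v c hu hv hc0.ne' hbr)
  · -- odd
    have hp : 1 ≤ p := by omega
    have huv := braid_odd_eq u v c hu hv hbr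
    subst huv
    have hid := Stot_odd u c hu hc1 hp hbr
    have hD : 0 < 4 * (u * u) - tau u u c ^ 2 := by
      by_contra hneg
      push Not at hneg
      have : Stot u u c (2 * p + 1) * (4 * (u * u) - tau u u c ^ 2) ≤ 0 :=
        mul_nonpos_of_nonneg_of_nonpos hS.le hneg
      rw [hid] at this
      have : 0 < ((2 * p + 1 : ℕ) : ℝ) * (tt u u c * ((u + 1) * (u + 1) - tt u u c)) :=
        mul_pos hnpos hpos
      linarith
    refine ⟨hD, hid, fun _ => rfl, ?_⟩
    have hpw := pow_eq_of_braid_odd u c hu hc0.ne' hbr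
    have : Real.sqrt (u * u) = u := Real.sqrt_mul_self hu.le
    exact exists_cos_of_pow u u c hu hu hD (by omega) (by rw [this]; exact hpw)

end TwoByTwo

end Cfsg.Agent.Lib.Helper3_FHTwo
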