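/-
Feit–Higman, part 4: the multiplicity formula.  For an eigenvalue `0 < c < 1` of `K = E F E`
the spectral projection `Π` generates a two-dimensional module of the Hecke algebra; Parseval's
identity for `Π` gives `N (4uv - τ²) = m n t ((u+1)(v+1) - t)`.
-/
import Mathlib
import Cfsg.Agent.Lib.Helper3_FHTwo
import Cfsg.Agent.Lib.Helper3_FHAlg
import Cfsg.Agent.Lib.Helper3_FHSpec

set_option autoImplicit false
set_option linter.unusedSectionVars false
set_option linter.unusedVariables false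

namespace Cfsg.Agent.Lib.Helper3_FHMult

open Matrix Cfsg.Agent.Lib.Helper6_Coxeter Cfsg.Agent.Lib.Helper3_FHTwo
  Cfsg.Agent.Lib.Helper3_FHAlg Cfsg.Agent.Lib.Helper3_FHSpec

variable {X : Type*} [Fintype X] [DecidableEq X]

/-! ### a two-dimensional module inside the matrix algebra -/

section Module2

variable {A₁ A₂ Pj Ps : Matrix X X ℝ} {u v c : ℝ}

/-- the linear map `ℝ² → Matrix`, `z ↦ z₀ Π + z₁ Ψ` -/
def Phi (Pj Ps : Matrix X X ℝ) (z : Fin 2 → ℝ) : Matrix X X ℝ := z 0 • Pj + z 1 • Ps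

theorem A1_mul_Phi (h1 : A₁ * Pj = u • Pj) (h2 : A₁ * Ps = ((u + 1) * c) • Pj - Ps)
    (z : Fin 2 → ℝ) : A₁ * Phi Pj Ps z = Phi Pj Ps (M1 u c *ᵥ z) := by
  unfold Phi
  rw [mul_add, mul_smul_comm, mul_smul_comm, h1, h2]
  simp only [M1, mulVec, dotProduct, Fin.sum_univ_two, of_apply, cons_val_zero, cons_val_one]
  module

theorem A2_mul_Phi (h1 : A₂ * Pj = (v + 1) • Ps - Pj) (h2 : A₂ * Ps = v • Ps)
    (z : Fin 2 → ℝ) : A₂ * Phi Pj Ps z = Phi Pj Ps (M2 v *ᵥ z) := by
  unfold Phi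
  rw [mul_add, mul_smul_comm, mul_smul_comm, h1, h2]
  simp only [M2, mulVec, dotProduct, Fin.sum_univ_two, of_apply, cons_val_zero, cons_val_one]
  module

theorem altp_mul_Phi {a b : Matrix X X ℝ} {m m' : Matrix (Fin 2) (Fin 2) ℝ}
    (ha : ∀ z, a * Phi Pj Ps z = Phi Pj Ps (m *ᵥ z))
    (hb : ∀ z, b * Phi Pj Ps z = Phi Pj Ps (m' *ᵥ z)) (k : ℕ) (z : Fin 2 → ℝ) :
    altp a b k * Phi Pj Ps z = Phi Pj Ps (altp m m' k *ᵥ z) := by
  induction k generalizing a b m m' z with
  | zero => simp [altp]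
  | succ k ih =>
    rw [altp, altp, mul_assoc, ih hb ha, ha, mulVec_mulVec]

end Module2


/-! ### the operator `K = E F E` -/

section Main

variable {n u v : ℕ} {A₁ A₂ : Matrix X X ℝ}

/-- `K = E F E` -/
noncomputable def Kmat (u v : ℕ) (A₁ A₂ : Matrix X X ℝ) : Matrix X X ℝ :=
  Emat u A₁ * Emat v A₂ * Emat u A₁

theorem Kmat_transpose (h : PolyData n u v A₁ A₂) : (Kmat u v A₁ A₂)ᵀ = Kmat u v A₁ A₂ := by
  unfold Kmat
  rw [transpose_mul, transpose_mul, Emat_transpose h.symm₁, Emat_transpose h.symm₂, mul_assoc]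

theorem Kmat_isHermitian (h : PolyData n u v A₁ A₂) : (Kmat u v A₁ A₂).IsHermitian :=
  isHermitian_of_transpose (Kmat_transpose h)

theorem Kmat_mem_adjoin (h : PolyData n u v A₁ A₂) :
    Kmat u v A₁ A₂ ∈ Algebra.adjoin ℝ ({A₁, A₂} : Set (Matrix X X ℝ)) :=
  Subalgebra.mul_mem _ (Subalgebra.mul_mem _ h.E_mem_adjoin h.F_mem_adjoin) h.E_mem_adjoin

theorem sum_Idx (n : ℕ) (f : ℕ → ℝ) (g : ℕ → ℝ) :
    ∑ i : Idx n, (Sum.elim (fun k : Fin (n + 1) => f k) (fun k : Fin (n - 1) => g k) i) =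
      ∑ k ∈ Finset.range (n + 1), f k + ∑ k ∈ Finset.range (n - 1), g k := by
  rw [Fintype.sum_sum_type]
  simp only [Sum.elim_inl, Sum.elim_inr]
  rw [Fin.sum_univ_eq_sum_range (fun k => f k), Fin.sum_univ_eq_sum_range (fun k => g k)]

/-- **The multiplicity formula.** -/
theorem mult_formula (h : PolyData n u v A₁ A₂) {c : ℝ}
    (hc : c ∈ eig (Kmat_isHermitian h)) (hc0 : 0 < c) (hc1 : c < 1) :
    ∃ m : ℕ, 0 < m ∧
      0 < 4 * ((u : ℝ) * v) - tau u v c ^ 2 ∧
      (Fintype.card X : ℝ) * (4 * ((u : ℝ) * v) - tau u v c ^ 2) =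
        m * ((n : ℝ) * (tt u v c * (((u : ℝ) + 1) * ((v : ℝ) + 1) - tt u v c))) ∧
      (Odd n → u = v) ∧
      ∃ j : ℕ, 0 < j ∧ 2 * j < n ∧
        tau u v c = 2 * Real.sqrt ((u : ℝ) * v) * Real.cos (2 * Real.pi * j / n) := by
  have hK := Kmat_isHermitian h
  have hu1 := h.u1_ne
  have hv1 := h.v1_ne
  have hupos := h.u_pos
  have hvpos := h.v_pos
  set E := Emat (u : ℝ) A₁ with hE
  set F := Emat (v : ℝ) A₂ with hF
  have hEE : E * E = E := Emat_mul_self hu1 h.sq₁
  have hFF : F * F = F := Emat_mul_self hv1 h.sq₂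
  have hEt : Eᵀ = E := Emat_transpose h.symm₁
  have hFt : Fᵀ = F := Emat_transpose h.symm₂
  -- the spectral projection
  obtain ⟨Pj, hPi⟩ : ∃ Pj, Pj = proj hK c := ⟨_, rfl⟩
  have hPP : Pj * Pj = Pj := by rw [hPi]; exact proj_mul_self hK c
  have hPt : Pjᵀ = Pj := by rw [hPi]; exact proj_transpose hK c
  have hKP : E * F * E * Pj = c • Pj := by rw [hPi]; exact mul_proj hK c
  have hP0 : Pj ≠ 0 := by rw [hPi]; exact proj_ne_zero hK hc
  have hPH : Pj ∈ Hf A₁ A₂ n := by
    rw [hPi, proj_eq_aeval hK hc]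
    exact h.aeval_mem_H (Kmat_mem_adjoin h) _
  obtain ⟨m, hm⟩ : ∃ m : ℕ, m = (Finset.univ.filter fun i => hK.eigenvalues i = c).card := ⟨_, rfl⟩
  have hmpos : 0 < m := by rw [hm]; exact trace_proj_pos hK hc
  have htr : trace Pj = m := by rw [hPi, hm]; exact trace_proj hK c
  -- E Pj = Pj
  have hEP : E * Pj = Pj := by
    have e1 : Pj = (1 / c) • (E * F * E * Pj) := by
      rw [hKP, smul_smul, one_div, inv_mul_cancel₀ hc0.ne', one_smul]
    calc E * Pj = E * ((1 / c) • (E * F * E * Pj)) := by rw [← e1]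
      _ = (1 / c) • (E * E * F * E * Pj) := by rw [mul_smul_comm]; simp only [mul_assoc]
      _ = (1 / c) • (E * F * E * Pj) := by rw [hEE]
      _ = Pj := e1.symm
  have hPE : Pj * E = Pj := by
    have := congrArg transpose hEP
    rwa [transpose_mul, hPt, hEt] at this
  obtain ⟨Ps, hPs⟩ : ∃ Ps, Ps = F * Pj := ⟨_, rfl⟩
  have hEPs : E * Ps = c • Pj := by
    rw [hPs, ← hKP]
    conv_rhs => rw [mul_assoc, hEP]
    rw [mul_assoc]
  have hFPs : F * Ps = Ps := by rw [hPs, ← mul_assoc, hFF]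
  -- module structure
  have hA1 : A₁ = ((u : ℝ) + 1) • E - 1 := A_eq_Emat hu1
  have hA2 : A₂ = ((v : ℝ) + 1) • F - 1 := A_eq_Emat hv1
  have a1P : A₁ * Pj = (u : ℝ) • Pj := by
    rw [hA1, sub_mul, smul_mul_assoc, hEP, one_mul]; module
  have a1S : A₁ * Ps = (((u : ℝ) + 1) * c) • Pj - Ps := by
    rw [hA1, sub_mul, smul_mul_assoc, hEPs, one_mul, smul_smul]
  have a2P : A₂ * Pj = ((v : ℝ) + 1) • Ps - Pj := by
    rw [hA2, sub_mul, smul_mul_assoc, ← hPs, one_mul]
  have a2S : A₂ * Ps = (v : ℝ) • Ps := by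
    rw [hA2, sub_mul, smul_mul_assoc, hFPs, one_mul]; module
  have act1 := fun z => A1_mul_Phi (c := c) a1P a1S z
  have act2 := fun z => A2_mul_Phi a2P a2S z
  -- injectivity of Phi
  have hPs0 : Ps ≠ 0 := by
    intro h0
    rw [h0, mul_zero] at hEPs
    have : c • Pj ≠ 0 := smul_ne_zero hc0.ne' hP0
    exact this hEPs.symm
  have hinj : ∀ z : Fin 2 → ℝ, Phi Pj Ps z = 0 → z = 0 := by
    intro z hz
    unfold Phi at hz
    have e1 := congrArg (fun M => E * M) hz
    simp only [mul_add, mul_smul_comm, hEP, hEPs, mul_zero, smul_smul] at e1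
    have e2 := congrArg (fun M => F * M) hz
    simp only [mul_add, mul_smul_comm, hFPs, mul_zero] at e2
    rw [← hPs] at e2
    have f1 : z 0 + z 1 * c = 0 := by
      have : (z 0 + z 1 * c) • Pj = 0 := by rw [add_smul]; exact e1
      rcases smul_eq_zero.1 this with h | h
      · exact h
      · exact absurd h hP0
    have f2 : z 0 + z 1 = 0 := by
      have : (z 0 + z 1) • Ps = 0 := by rw [add_smul]; exact e2
      rcases smul_eq_zero.1 this with h | h
      · exact h
      · exact absurd h hPs0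
    have f3 : z 1 * (1 - c) = 0 := by linarith
    have z1 : z 1 = 0 := by
      rcases mul_eq_zero.1 f3 with h | h
      · exact h
      · linarith
    have z0 : z 0 = 0 := by linarith
    ext i
    fin_cases i
    · exact z0
    · exact z1
  -- braid relation for the 2×2 matrices
  have hbr2 : altp (M1 u c) (M2 v) n = altp (M2 v) (M1 u c) n := by
    have key : ∀ z : Fin 2 → ℝ, altp (M1 (u : ℝ) c) (M2 v) n *ᵥ z = altp (M2 (v : ℝ)) (M1 u c) n *ᵥ z := by
      intro z
      have e1 := altp_mul_Phi act1 act2 n z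
      have e2 := altp_mul_Phi act2 act1 n z
      rw [h.braid, e2] at e1
      have e3 : Phi Pj Ps (altp (M2 (v : ℝ)) (M1 u c) n *ᵥ z - altp (M1 (u : ℝ) c) (M2 v) n *ᵥ z) = 0 := by
        unfold Phi at e1 ⊢
        simp only [Pi.sub_apply, sub_smul]
        rw [← sub_eq_zero] at e1
        rw [← e1]; abel
      have := hinj _ e3
      rw [sub_eq_zero] at this
      exact this.symm
    ext i j
    have := congrFun (key (Pi.single j 1)) i
    simpa using this
  obtain ⟨hD, hStot, hodd, hj⟩ := two_main (u : ℝ) v c hupos hvpos hc0 hc1 h.hn hbr2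
  refine ⟨m, hmpos, hD, ?_, ?_, hj⟩
  swap
  · intro ho
    have := hodd ho
    exact_mod_cast this
  -- traces
  have htrPs : trace Ps = c * m := by
    have e1 : Ps = (F * E * Pj) * E := by
      rw [mul_assoc, hPE, mul_assoc, hEP, hPs]
    rw [e1, trace_mul_comm, ← mul_assoc, ← mul_assoc, hKP, trace_smul, htr, smul_eq_mul]
  have htrPhi : ∀ z : Fin 2 → ℝ, trace (Phi Pj Ps z) = m * (z 0 + c * z 1) := by
    intro z
    unfold Phi
    rw [trace_add, trace_smul, trace_smul, htr, htrPs]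
    simp only [smul_eq_mul]; ring
  have hcoef : ∀ i : Idx n, trace (Pj * (wmat A₁ A₂ n i)ᵀ) =
      m * Sum.elim (fun k : Fin (n + 1) => fa c (altp (M1 u c) (M2 v) k))
        (fun k : Fin (n - 1) => fa c (altp (M2 v) (M1 u c) (k + 1))) i := by
    intro i
    have e0 : trace (Pj * (wmat A₁ A₂ n i)ᵀ) = trace (wmat A₁ A₂ n i * Pj) := by
      rw [← trace_transpose, transpose_mul, transpose_transpose, hPt]
    have ePi : Pj = Phi Pj Ps (Pi.single 0 1) := by
      unfold Phi; simp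
    rw [e0]
    rcases i with k | k
    · simp only [wmat, Sum.elim_inl]
      conv_lhs => rw [ePi]
      rw [altp_mul_Phi act1 act2, htrPhi]
      simp [fa]
    · simp only [wmat, Sum.elim_inr]
      conv_lhs => rw [ePi]
      rw [altp_mul_Phi act2 act1, htrPhi]
      simp [fa]
  -- Parseval
  have hN := h.card_pos
  have hpars := parseval (wmat A₁ A₂ n) (fun i => (Fintype.card X : ℝ) * wq u v n i)
    (fun i => (mul_pos hN (wq_pos hupos hvpos n i)).ne') h.orth (h.H_eq ▸ hPH)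
  rw [hPt, hPP, htr] at hpars
  have hsumeq : ∑ i : Idx n, trace (Pj * (wmat A₁ A₂ n i)ᵀ) ^ 2 / ((Fintype.card X : ℝ) * wq u v n i) =
      (m : ℝ) ^ 2 / (Fintype.card X : ℝ) * Stot u v c n := by
    have e1 : ∀ i : Idx n, trace (Pj * (wmat A₁ A₂ n i)ᵀ) ^ 2 / ((Fintype.card X : ℝ) * wq u v n i) =
        (m : ℝ) ^ 2 / (Fintype.card X : ℝ) *
          Sum.elim (fun k : Fin (n + 1) => pa u v c k) (fun k : Fin (n - 1) => ga u v c (k + 1)) i := by
      intro i
      rw [hcoef i]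
      rcases i with k | k
      · simp only [Sum.elim_inl, wq, pa]
        field_simp
      · simp only [Sum.elim_inr, wq, ga]
        have e : ((k : ℕ) + 1 + 1) / 2 = ((k : ℕ) + 2) / 2 := rfl
        rw [e]
        field_simp
    rw [Finset.sum_congr rfl (fun i _ => e1 i), ← Finset.mul_sum]
    congr 1
    exact sum_Idx n (fun k => pa u v c k) (fun k => ga u v c (k + 1))
  rw [hsumeq] at hpars
  -- conclude
  have hm0 : (0 : ℝ) < m := by exact_mod_cast hmpos
  have hNS : (Fintype.card X : ℝ) = m * Stot u v c n := by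
    field_simp at hpars
    nlinarith [hpars]
  rw [hNS, mul_assoc, hStot]

end Main
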