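/-
Feit–Higman, part 5: all the expected eigenvalues occur.  The operator `S = E + F` has at least
`n + 1` distinct eigenvalues, each eigenvalue `σ ∉ {0, 1, 2}` gives the eigenvalue `(σ - 1)²` of
`K = E F E` in `(0, 1)`, and these are parametrised injectively by `0 < j < n/2`.
-/
import Mathlib
import Cfsg.Agent.Lib.Helper3_FHMult

set_option autoImplicit false
set_option linter.unusedSectionVars false
set_option linter.unusedVariables false

namespace Cfsg.Agent.Lib.Helper3_FHCount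

open Matrix Cfsg.Agent.Lib.Helper6_Coxeter Cfsg.Agent.Lib.Helper3_FHTwo
  Cfsg.Agent.Lib.Helper3_FHAlg Cfsg.Agent.Lib.Helper3_FHSpec Cfsg.Agent.Lib.Helper3_FHMult

variable {X : Type*} [Fintype X] [DecidableEq X]

/-! ### generalities on symmetric idempotents and vectors -/

section Vec

variable {E F : Matrix X X ℝ}

theorem dot_self_nonneg (ξ : X → ℝ) : 0 ≤ ξ ⬝ᵥ ξ :=
  Finset.sum_nonneg fun i _ => mul_self_nonneg _

theorem dot_mulVec_symm {A : Matrix X X ℝ} (hA : Aᵀ = A) (x y : X → ℝ) :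
    x ⬝ᵥ (A *ᵥ y) = (A *ᵥ x) ⬝ᵥ y := by
  rw [dotProduct_mulVec]
  congr 1
  rw [← vecMul_transpose, hA]

theorem dot_mulVec_le (hFF : F * F = F) (hFt : Fᵀ = F) (ξ : X → ℝ) :
    ξ ⬝ᵥ (F *ᵥ ξ) ≤ ξ ⬝ᵥ ξ := by
  have hGt : (1 - F)ᵀ = 1 - F := by rw [transpose_sub, transpose_one, hFt]
  have h1 : ((1 - F) *ᵥ ξ) ⬝ᵥ ((1 - F) *ᵥ ξ) = ξ ⬝ᵥ ξ - ξ ⬝ᵥ (F *ᵥ ξ) := by
    rw [← dot_mulVec_symm hGt, mulVec_mulVec]
    have e2 : (1 - F) * (1 - F) = 1 - F := by
      rw [sub_mul, mul_sub, mul_sub, hFF]; simp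
    rw [e2, sub_mulVec, one_mulVec, dotProduct_sub]
  have h2 : 0 ≤ ((1 - F) *ᵥ ξ) ⬝ᵥ ((1 - F) *ᵥ ξ) := dot_self_nonneg _
  linarith

theorem dot_self_pos {ξ : X → ℝ} (hξ : ξ ≠ 0) : 0 < ξ ⬝ᵥ ξ := by
  rcases (dot_self_nonneg ξ).lt_or_eq with h | h
  · exact h
  · exact absurd (dotProduct_self_eq_zero.1 h.symm) hξ

/-- an eigenvector of `S = E + F` with eigenvalue `σ ∉ {0, 1, 2}` gives an eigenvector of `E F E`
with eigenvalue `(σ - 1)² ∈ (0, 1)` -/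
theorem bridge (hEE : E * E = E) (hFF : F * F = F) (hEt : Eᵀ = E) (hFt : Fᵀ = F)
    {σ : ℝ} {ζ : X → ℝ} (hζ : ζ ≠ 0) (hS : (E + F) *ᵥ ζ = σ • ζ)
    (h0 : σ ≠ 0) (h1 : σ ≠ 1) (h2 : σ ≠ 2) :
    ∃ ξ : X → ℝ, ξ ≠ 0 ∧ (E * F * E) *ᵥ ξ = (σ - 1) ^ 2 • ξ ∧ 0 < (σ - 1) ^ 2 ∧ (σ - 1) ^ 2 < 1 := by
  rw [add_mulVec] at hS
  have hEF : E *ᵥ (F *ᵥ ζ) = (σ - 1) • (E *ᵥ ζ) := by
    have := congrArg (fun w => E *ᵥ w) hS
    simp only [mulVec_add, mulVec_mulVec, hEE, mulVec_smul] at this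
    rw [← mulVec_mulVec] at this
    rw [sub_smul, one_smul, ← this]; abel
  have hFE : F *ᵥ (E *ᵥ ζ) = (σ - 1) • (F *ᵥ ζ) := by
    have := congrArg (fun w => F *ᵥ w) hS
    simp only [mulVec_add, mulVec_mulVec, hFF, mulVec_smul] at this
    rw [← mulVec_mulVec] at this
    rw [sub_smul, one_smul, ← this]; abel
  have hξ0 : E *ᵥ ζ ≠ 0 := by
    intro hE0
    rw [hE0, zero_add] at hS
    have e1 := congrArg (fun w => F *ᵥ w) hS
    simp only [mulVec_mulVec, hFF, mulVec_smul] at e1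
    rw [hS, smul_smul] at e1
    have e2 : (σ - σ * σ) • ζ = 0 := by rw [sub_smul, e1]; abel
    rcases smul_eq_zero.1 e2 with h | h
    · have : σ * (1 - σ) = 0 := by linarith
      rcases mul_eq_zero.1 this with h | h
      · exact h0 h
      · exact h1 (by linarith)
    · exact hζ h
  have hK : (E * F * E) *ᵥ (E *ᵥ ζ) = (σ - 1) ^ 2 • (E *ᵥ ζ) := by
    rw [mulVec_mulVec, mul_assoc, hEE, ← mulVec_mulVec, ← mulVec_mulVec, hFE, mulVec_smul, hEF,
      smul_smul, sq]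
  refine ⟨E *ᵥ ζ, hξ0, hK, ?_, ?_⟩
  · have : σ - 1 ≠ 0 := sub_ne_zero.2 h1
    positivity
  · -- (σ-1)² ≤ 1 from norms, and ≠ 1
    set ξ := E *ᵥ ζ with hξ
    have hEξ : E *ᵥ ξ = ξ := by rw [hξ, mulVec_mulVec, hEE]
    have hle : (σ - 1) ^ 2 * (ξ ⬝ᵥ ξ) ≤ ξ ⬝ᵥ ξ := by
      have e1 : ξ ⬝ᵥ ((E * F * E) *ᵥ ξ) = ξ ⬝ᵥ (F *ᵥ ξ) := by
        rw [← mulVec_mulVec, ← mulVec_mulVec, hEξ, dot_mulVec_symm hEt, hEξ]
      rw [hK, dotProduct_smul, smul_eq_mul] at e1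
      rw [e1]
      exact dot_mulVec_le hFF hFt ξ
    have hpos := dot_self_pos hξ0
    have hle1 : (σ - 1) ^ 2 ≤ 1 := by
      by_contra hgt
      push Not at hgt
      nlinarith
    rcases hle1.lt_or_eq with h | h
    · exact h
    · exfalso
      have : (σ - 1 - 1) * (σ - 1 + 1) = 0 := by nlinarith
      rcases mul_eq_zero.1 this with h | h
      · exact h2 (by linarith)
      · exact h0 (by linarith)


theorem EF_of_S (hEE : E * E = E) {σ : ℝ} {ζ : X → ℝ} (hS : (E + F) *ᵥ ζ = σ • ζ) :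
    E *ᵥ (F *ᵥ ζ) = (σ - 1) • (E *ᵥ ζ) := by
  rw [add_mulVec] at hS
  have := congrArg (fun w => E *ᵥ w) hS
  simp only [mulVec_add, mulVec_mulVec, hEE, mulVec_smul] at this
  rw [← mulVec_mulVec] at this
  rw [sub_smul, one_smul, ← this]; abel

theorem FE_of_S (hFF : F * F = F) {σ : ℝ} {ζ : X → ℝ} (hS : (E + F) *ᵥ ζ = σ • ζ) :
    F *ᵥ (E *ᵥ ζ) = (σ - 1) • (F *ᵥ ζ) := by
  rw [add_mulVec] at hS
  have := congrArg (fun w => F *ᵥ w) hS
  simp only [mulVec_add, mulVec_mulVec, hFF, mulVec_smul] at this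
  rw [← mulVec_mulVec] at this
  rw [sub_smul, one_smul, ← this]; abel

theorem altp_mulVec {a b : Matrix X X ℝ} {α β : ℝ} {ζ : X → ℝ} (ha : a *ᵥ ζ = α • ζ)
    (hb : b *ᵥ ζ = β • ζ) (k : ℕ) : altp a b k *ᵥ ζ = altp α β k • ζ := by
  induction k generalizing a b α β with
  | zero => simp [altp]
  | succ k ih =>
    rw [altp, altp, ← mulVec_mulVec, ih hb ha, mulVec_smul, ha, smul_smul, mul_comm]

theorem altp_real_odd_ne {x : ℝ} (hx : 0 < x) (p : ℕ) :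
    altp x (-1 : ℝ) (2 * p + 1) ≠ altp (-1 : ℝ) x (2 * p + 1) := by
  rw [altp_two_mul_add_one, altp_two_mul_add_one]
  intro h
  have e : x * (-1 * x) ^ p - -1 * (x * -1) ^ p = (x + 1) * (-x) ^ p := by ring
  have h2 : (x + 1) * (-x) ^ p = 0 := by rw [← e, h]; ring
  rcases mul_eq_zero.1 h2 with h3 | h3
  · linarith
  · rcases Nat.eq_zero_or_pos p with hp | hp
    · subst hp; simp at h3
    · have := (pow_eq_zero_iff (by omega : p ≠ 0)).1 h3
      linarith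

end Vec

/-! ### counting eigenvalues -/

section Count

variable {n u v : ℕ} {A₁ A₂ : Matrix X X ℝ}

/-- `S = E + F` -/
noncomputable def Smat (u v : ℕ) (A₁ A₂ : Matrix X X ℝ) : Matrix X X ℝ :=
  Emat u A₁ + Emat v A₂

theorem Smat_isHermitian (h : PolyData n u v A₁ A₂) : (Smat u v A₁ A₂).IsHermitian := by
  apply isHermitian_of_transpose
  unfold Smat
  rw [transpose_add, Emat_transpose h.symm₁, Emat_transpose h.symm₂]

theorem card_eig_S (h : PolyData n u v A₁ A₂) : n + 1 ≤ (eig (Smat_isHermitian h)).card := by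
  by_contra hlt
  push Not at hlt
  have h1 := aeval_prod_eq_zero (Smat_isHermitian h)
  have h2 := h.aeval_S_ne_zero (prod_eig_ne_zero (Smat_isHermitian h))
    (by rw [natDegree_prod_eig]; omega)
  exact h2 h1

/-- for odd `n`, `1` is not an eigenvalue of `S` -/
theorem one_not_mem_eig_S (h : PolyData n u v A₁ A₂) (hodd : Odd n) :
    (1 : ℝ) ∉ eig (Smat_isHermitian h) := by
  intro hmem
  obtain ⟨ζ, hζ, hS⟩ := exists_eigenvector (Smat_isHermitian h) hmem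
  have hu1 := h.u1_ne
  have hv1 := h.v1_ne
  have hEE : Emat (u : ℝ) A₁ * Emat (u : ℝ) A₁ = Emat (u : ℝ) A₁ := Emat_mul_self hu1 h.sq₁
  have hFF : Emat (v : ℝ) A₂ * Emat (v : ℝ) A₂ = Emat (v : ℝ) A₂ := Emat_mul_self hv1 h.sq₂
  unfold Smat at hS
  have hEF := EF_of_S hEE hS
  have hFE := FE_of_S hFF hS
  rw [sub_self, zero_smul] at hEF hFE
  obtain ⟨p, hp⟩ := hodd
  have hA1 : A₁ = ((u : ℝ) + 1) • Emat (u : ℝ) A₁ - 1 := A_eq_Emat hu1
  have hA2 : A₂ = ((v : ℝ) + 1) • Emat (v : ℝ) A₂ - 1 := A_eq_Emat hv1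
  have hsum : Emat (u : ℝ) A₁ *ᵥ ζ + Emat (v : ℝ) A₂ *ᵥ ζ = ζ := by
    rw [add_mulVec, one_smul] at hS; exact hS
  by_cases h1 : Emat (u : ℝ) A₁ *ᵥ ζ = 0
  · -- then F ζ = ζ ≠ 0
    rw [h1, zero_add] at hsum
    have a1 : A₁ *ᵥ ζ = (-1 : ℝ) • ζ := by
      rw [hA1, sub_mulVec, smul_mulVec, h1, smul_zero, one_mulVec]; simp
    have a2 : A₂ *ᵥ ζ = (v : ℝ) • ζ := by
      rw [hA2, sub_mulVec, smul_mulVec, hsum, one_mulVec]; module
    have e1 := altp_mulVec a1 a2 n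
    have e2 := altp_mulVec a2 a1 n
    rw [h.braid, e2] at e1
    have e3 : (altp (v : ℝ) (-1) n - altp (-1 : ℝ) v n) • ζ = 0 := by
      rw [sub_smul, e1]; abel
    rcases smul_eq_zero.1 e3 with h3 | h3
    · rw [hp] at h3
      exact altp_real_odd_ne h.v_pos p (sub_eq_zero.1 h3)
    · exact hζ h3
  · -- ζ₁ = E ζ ≠ 0, E ζ₁ = ζ₁, F ζ₁ = 0
    set ζ₁ := Emat (u : ℝ) A₁ *ᵥ ζ with hζ₁
    have hE1 : Emat (u : ℝ) A₁ *ᵥ ζ₁ = ζ₁ := by rw [hζ₁, mulVec_mulVec, hEE]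
    have a1 : A₁ *ᵥ ζ₁ = (u : ℝ) • ζ₁ := by
      rw [hA1, sub_mulVec, smul_mulVec, hE1, one_mulVec]; module
    have a2 : A₂ *ᵥ ζ₁ = (-1 : ℝ) • ζ₁ := by
      rw [hA2, sub_mulVec, smul_mulVec, hFE, smul_zero, one_mulVec]; simp
    have e1 := altp_mulVec a1 a2 n
    have e2 := altp_mulVec a2 a1 n
    rw [h.braid, e2] at e1
    have e3 : (altp (u : ℝ) (-1) n - altp (-1 : ℝ) u n) • ζ₁ = 0 := by
      rw [sub_smul, e1]; abel
    rcases smul_eq_zero.1 e3 with h3 | h3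
    · rw [hp] at h3
      exact altp_real_odd_ne h.u_pos p (sub_eq_zero.1 h3)
    · exact h1 h3


theorem tau_injective {u v : ℝ} (hu : 0 < u) (hv : 0 < v) : Function.Injective (tau u v) := by
  intro c c' h
  unfold tau at h
  have h1 : (u + 1) * (v + 1) * (c - c') = 0 := by linarith
  have h2 : (u + 1) * (v + 1) ≠ 0 := by positivity
  rcases mul_eq_zero.1 h1 with h3 | h3
  · exact absurd h3 h2
  · linarith

/-- the set of eigenvalues of `K` in `(0, 1)` -/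
noncomputable def CC (h : PolyData n u v A₁ A₂) : Finset ℝ :=
  (eig (Kmat_isHermitian h)).filter fun c => 0 < c ∧ c < 1

theorem sq_mem_CC (h : PolyData n u v A₁ A₂) {σ : ℝ} (hσ : σ ∈ eig (Smat_isHermitian h))
    (h0 : σ ≠ 0) (h1 : σ ≠ 1) (h2 : σ ≠ 2) : (σ - 1) ^ 2 ∈ CC h := by
  obtain ⟨ζ, hζ, hS⟩ := exists_eigenvector (Smat_isHermitian h) hσ
  have hEE : Emat (u : ℝ) A₁ * Emat (u : ℝ) A₁ = Emat (u : ℝ) A₁ := Emat_mul_self h.u1_ne h.sq₁
  have hFF : Emat (v : ℝ) A₂ * Emat (v : ℝ) A₂ = Emat (v : ℝ) A₂ := Emat_mul_self h.v1_ne h.sq₂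
  obtain ⟨ξ, hξ, hK, hpos, hlt⟩ := bridge hEE hFF (Emat_transpose h.symm₁) (Emat_transpose h.symm₂)
    hζ hS h0 h1 h2
  exact Finset.mem_filter.2 ⟨mem_eig_of_eigenvector (Kmat_isHermitian h) hξ hK, hpos, hlt⟩

theorem fiber_card_le_two (s : Finset ℝ) (a : ℝ) :
    (s.filter fun σ => (σ - 1) ^ 2 = a).card ≤ 2 := by
  have hsub : (s.filter fun σ => (σ - 1) ^ 2 = a) ⊆ {1 + Real.sqrt a, 1 - Real.sqrt a} := by
    intro σ hσ
    have h := (Finset.mem_filter.1 hσ).2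
    have h2 : Real.sqrt a = |σ - 1| := by rw [← h, Real.sqrt_sq_eq_abs]
    simp only [Finset.mem_insert, Finset.mem_singleton]
    rcases abs_cases (σ - 1) with ⟨h3, _⟩ | ⟨h3, _⟩
    · left; rw [h2, h3]; ring
    · right; rw [h2, h3]; ring
  exact (Finset.card_le_card hsub).trans Finset.card_le_two

theorem card_CC_ge (h : PolyData n u v A₁ A₂) : (n - 1) / 2 ≤ (CC h).card := by
  classical
  set ES := eig (Smat_isHermitian h) with hES
  have hcard := card_eig_S h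
  rw [← hES] at hcard
  set SS := ES \ {0, 1, 2} with hSS
  have himg : SS.image (fun σ => (σ - 1) ^ 2) ⊆ CC h := by
    intro a ha
    obtain ⟨σ, hσ, rfl⟩ := Finset.mem_image.1 ha
    rw [hSS, Finset.mem_sdiff] at hσ
    simp only [Finset.mem_insert, Finset.mem_singleton, not_or] at hσ
    exact sq_mem_CC h hσ.1 hσ.2.1 hσ.2.2.1 hσ.2.2.2
  have h2 : SS.card ≤ 2 * (CC h).card := by
    calc SS.card ≤ 2 * (SS.image (fun σ => (σ - 1) ^ 2)).card :=
          Finset.card_le_mul_card_image SS 2 (fun a _ => fiber_card_le_two SS a)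
      _ ≤ 2 * (CC h).card := Nat.mul_le_mul_left 2 (Finset.card_le_card himg)
  rcases Nat.even_or_odd n with hev | hodd
  · have h3 : ES.card - ({0, 1, 2} : Finset ℝ).card ≤ SS.card := Finset.le_card_sdiff _ _
    have h4 : ({0, 1, 2} : Finset ℝ).card ≤ 3 := Finset.card_le_three
    obtain ⟨p, hp⟩ := hev
    omega
  · have hone := one_not_mem_eig_S h hodd
    rw [← hES] at hone
    have hSS' : SS = ES \ {0, 2} := by
      ext σ
      simp only [hSS, Finset.mem_sdiff, Finset.mem_insert, Finset.mem_singleton, not_or]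
      constructor
      · rintro ⟨h1, h2, _, h4⟩; exact ⟨h1, h2, h4⟩
      · rintro ⟨h1, h2, h4⟩
        exact ⟨h1, h2, fun h5 => hone (h5 ▸ h1), h4⟩
    have h3 : ES.card - ({0, 2} : Finset ℝ).card ≤ SS.card := by
      rw [hSS']; exact Finset.le_card_sdiff _ _
    have h4 : ({0, 2} : Finset ℝ).card ≤ 2 := Finset.card_le_two
    obtain ⟨p, hp⟩ := hodd
    omega

/-- **All expected eigenvalues occur.** -/
theorem exists_eigen (h : PolyData n u v A₁ A₂) {j : ℕ} (hj0 : 0 < j) (hj : 2 * j < n) :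
    ∃ c ∈ CC h, tau u v c = 2 * Real.sqrt ((u : ℝ) * v) * Real.cos (2 * Real.pi * j / n) := by
  classical
  set Jset := Finset.Icc 1 ((n - 1) / 2) with hJ
  set val : ℕ → ℝ := fun j => 2 * Real.sqrt ((u : ℝ) * v) * Real.cos (2 * Real.pi * j / n) with hval
  set T := (CC h).image (tau (u : ℝ) v) with hT
  have hTsub : T ⊆ Jset.image val := by
    intro t ht
    obtain ⟨c, hc, rfl⟩ := Finset.mem_image.1 ht
    obtain ⟨hc', hc0, hc1⟩ := Finset.mem_filter.1 hc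
    obtain ⟨m, _, _, _, _, j', hj'0, hj', hτ⟩ := mult_formula h hc' hc0 hc1
    refine Finset.mem_image.2 ⟨j', ?_, hτ.symm⟩
    rw [hJ, Finset.mem_Icc]
    omega
  have hTcard : T.card = (CC h).card :=
    Finset.card_image_of_injective _ (tau_injective h.u_pos h.v_pos)
  have hJcard : (Jset.image val).card ≤ (n - 1) / 2 := by
    calc (Jset.image val).card ≤ Jset.card := Finset.card_image_le
      _ = (n - 1) / 2 := by rw [hJ, Nat.card_Icc]; omega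
  have hge := card_CC_ge h
  have heq : T = Jset.image val :=
    Finset.eq_of_subset_of_card_le hTsub (by omega)
  have hmem : val j ∈ Jset.image val := by
    refine Finset.mem_image.2 ⟨j, ?_, rfl⟩
    rw [hJ, Finset.mem_Icc]; omega
  rw [← heq] at hmem
  obtain ⟨c, hc, hτ⟩ := Finset.mem_image.1 hmem
  exact ⟨c, hc, hτ⟩

end Count

end Cfsg.Agent.Lib.Helper3_FHCount
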