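/-
Feit–Higman, part 6: the arithmetic.  From the multiplicity formula and the fact that all the
expected eigenvalues occur, `cos (2π/n)` is rational unless `n = 8`; Niven's theorem finishes.
-/
import Mathlib
import Cfsg.Agent.Lib.Helper3_FHCount

set_option autoImplicit false
set_option linter.unusedSectionVars false
set_option linter.unusedVariables false

namespace Cfsg.Agent.Lib.Helper3_FHNum

open Matrix Cfsg.Agent.Lib.Helper6_Coxeter Cfsg.Agent.Lib.Helper3_FHTwo
  Cfsg.Agent.Lib.Helper3_FHAlg Cfsg.Agent.Lib.Helper3_FHSpec Cfsg.Agent.Lib.Helper3_FHMult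
  Cfsg.Agent.Lib.Helper3_FHCount

/-- Niven: if `cos (2π/n)` is rational then `n ∈ {1, 2, 3, 4, 6}` -/
theorem n_of_cos_rat {n : ℕ} (hn : 2 ≤ n) (h : ∃ q : ℚ, Real.cos (2 * Real.pi / n) = q) :
    n = 2 ∨ n = 3 ∨ n = 4 ∨ n = 6 := by
  have hn0 : (n : ℚ) ≠ 0 := by
    have : (0 : ℚ) < n := by exact_mod_cast (by omega : 0 < n)
    exact this.ne'
  have hn2 : (2 : ℚ) ≤ n := by exact_mod_cast hn
  have hcos : ∃ q : ℚ, Real.cos (((2 / n : ℚ) : ℝ) * Real.pi) = q := by
    obtain ⟨q, hq⟩ := h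
    refine ⟨q, ?_⟩
    rw [← hq]
    congr 1
    push_cast
    ring
  have hb : (2 / n : ℚ) ∈ Set.Icc (0 : ℚ) 1 := by
    constructor
    · positivity
    · rw [div_le_one (by linarith)]; exact hn2
  have := niven_angle_div_pi_eq hcos hb
  simp only [Set.mem_insert_iff, Set.mem_singleton_iff] at this
  rcases this with h | h | h | h | h
  · exfalso
    rw [div_eq_zero_iff] at h
    rcases h with h | h
    · norm_num at h
    · exact hn0 h
  · right; right; right
    have : (n : ℚ) = 6 := by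
      field_simp at h
      linarith
    exact_mod_cast this
  · right; right; left
    have : (n : ℚ) = 4 := by
      field_simp at h
      linarith
    exact_mod_cast this
  · right; left
    have : (n : ℚ) = 3 := by
      field_simp at h
      linarith
    exact_mod_cast this
  · left
    have : (n : ℚ) = 2 := by
      field_simp at h
      linarith
    exact_mod_cast this


/-- the case `u = v`: `t` is rational -/
theorem rat_of_eq {N m n u : ℕ} {t : ℝ} (hu : 2 ≤ u) (hm : 0 < m) (hn : 0 < n) (ht : 0 < t)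
    (h : (N : ℝ) * (4 * ((u : ℝ) * u) - (t - u - u) ^ 2) =
      m * ((n : ℝ) * (t * (((u : ℝ) + 1) * ((u : ℝ) + 1) - t)))) :
    ∃ q : ℚ, t = q := by
  have h1 : (N : ℝ) * (4 * u - t) = m * n * (((u : ℝ) + 1) * ((u : ℝ) + 1) - t) := by
    have : t * ((N : ℝ) * (4 * u - t)) = t * (m * n * (((u : ℝ) + 1) * ((u : ℝ) + 1) - t)) := by
      linear_combination h
    exact mul_left_cancel₀ ht.ne' this
  have hne : (m : ℝ) * n - N ≠ 0 := by
    intro h0
    have hN : (N : ℝ) = m * n := by linarith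
    rw [hN] at h1
    have hmn : (0 : ℝ) < m * n := by
      have : (0 : ℝ) < m := by exact_mod_cast hm
      have : (0 : ℝ) < n := by exact_mod_cast hn
      positivity
    have h2 : (4 * (u : ℝ) - t) = (((u : ℝ) + 1) * ((u : ℝ) + 1) - t) := mul_left_cancel₀ hmn.ne' h1
    have h3 : ((u : ℝ) - 1) ^ 2 = 0 := by linarith
    have h4 : (u : ℝ) - 1 = 0 := by exact pow_eq_zero_iff (two_ne_zero) |>.1 h3
    have h5 : (2 : ℝ) ≤ u := by exact_mod_cast hu
    linarith
  refine ⟨((m : ℚ) * n * (((u : ℚ) + 1) * ((u : ℚ) + 1)) - 4 * u * N) / ((m : ℚ) * n - N), ?_⟩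
  push_cast
  rw [eq_div_iff hne]
  linear_combination h1

/-- the pairing argument: if both `τ` and `-τ` occur then `τ` is rational -/
theorem rat_of_pair {N m m' n u v : ℕ} {τ : ℝ} (hu : 2 ≤ u) (hv : 2 ≤ v) (hm : 0 < m)
    (hm' : 0 < m') (hn : 0 < n)
    (h1 : (N : ℝ) * (4 * ((u : ℝ) * v) - τ ^ 2) =
      m * ((n : ℝ) * ((τ + u + v) * (((u : ℝ) + 1) * ((v : ℝ) + 1) - (τ + u + v)))))
    (h2 : (N : ℝ) * (4 * ((u : ℝ) * v) - τ ^ 2) =
      m' * ((n : ℝ) * ((-τ + u + v) * (((u : ℝ) + 1) * ((v : ℝ) + 1) - (-τ + u + v))))) :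
    ∃ q : ℚ, τ = q := by
  have hu' : (2 : ℝ) ≤ u := by exact_mod_cast hu
  have hv' : (2 : ℝ) ≤ v := by exact_mod_cast hv
  have hmr : (0 : ℝ) < m := by exact_mod_cast hm
  have hmr' : (0 : ℝ) < m' := by exact_mod_cast hm'
  have hnr : (0 : ℝ) < n := by exact_mod_cast hn
  set A : ℝ := m * n with hA
  set A' : ℝ := m' * n with hA'
  have hApos : 0 < A := by positivity
  have hApos' : 0 < A' := by positivity
  -- the key relation for τ²
  have hX : τ ^ 2 * (2 * A * A' - N * (A + A')) =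
      2 * A * A' * (((u : ℝ) + v) * (u * v + 1)) - 4 * (u * v) * N * (A + A') := by
    rw [hA, hA']
    linear_combination ((m' : ℝ) * n) * h1 + ((m : ℝ) * n) * h2
  have hd : 2 * A * A' - N * (A + A') ≠ 0 := by
    intro h0
    rw [h0, mul_zero] at hX
    have e1 : (N : ℝ) * (A + A') = 2 * A * A' := by linarith
    have e2 : 2 * A * A' * (((u : ℝ) + v) * (u * v + 1)) = 4 * (u * v) * (2 * A * A') := by
      linear_combination (-1 : ℝ) * hX + 4 * ((u : ℝ) * v) * e1
    have e3 : ((u : ℝ) + v) * (u * v + 1) = 4 * (u * v) := by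
      have hAA : 2 * A * A' ≠ 0 := by positivity
      have : 2 * A * A' * (((u : ℝ) + v) * (u * v + 1)) = 2 * A * A' * (4 * (u * v)) := by
        rw [e2]; ring
      exact mul_left_cancel₀ hAA this
    nlinarith [mul_nonneg (by linarith : (0 : ℝ) ≤ u - 2) (by linarith : (0 : ℝ) ≤ v - 2)]
  -- τ² is rational
  obtain ⟨qX, hqX⟩ : ∃ qX : ℚ, τ ^ 2 = qX := by
    refine ⟨(2 * ((m : ℚ) * n) * ((m' : ℚ) * n) * (((u : ℚ) + v) * (u * v + 1)) -
      4 * (u * v) * N * ((m : ℚ) * n + (m' : ℚ) * n)) /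
      (2 * ((m : ℚ) * n) * ((m' : ℚ) * n) - N * ((m : ℚ) * n + (m' : ℚ) * n)), ?_⟩
    push_cast
    rw [eq_div_iff hd]
    exact hX
  -- τ itself
  have hpa : ((u : ℝ) - 1) * ((v : ℝ) - 1) ≠ 0 := by
    have : (0 : ℝ) < (u - 1) * (v - 1) := mul_pos (by linarith) (by linarith)
    exact this.ne'
  have hden : A * (((u : ℝ) - 1) * ((v : ℝ) - 1)) ≠ 0 := mul_ne_zero hApos.ne' hpa
  refine ⟨((N : ℚ) * (4 * ((u : ℚ) * v) - qX) -
    (m : ℚ) * n * (((u : ℚ) + v) * (u * v + 1) - qX)) / ((m : ℚ) * n * (((u : ℚ) - 1) * ((v : ℚ) - 1))), ?_⟩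
  push_cast
  rw [eq_div_iff hden, ← hqX, hA]
  linear_combination (-1 : ℝ) * h1


section Final

variable {X : Type*} [Fintype X] [DecidableEq X] {n u v : ℕ} {A₁ A₂ : Matrix X X ℝ}

theorem tt_eq_tau (u v c : ℝ) : tt u v c = tau u v c + u + v := by
  unfold tt tau; ring

/-- for even `n = 2p ≥ 10` and `j ∈ {1, 2}`, the eigenvalue `2 √(uv) cos (2πj/n)` is rational -/
theorem rat_tau_even (h : PolyData n u v A₁ A₂) {p : ℕ} (hp : n = p + p) {j : ℕ} (hj0 : 0 < j)
    (hjp : 2 * j < p) :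
    ∃ q : ℚ, 2 * Real.sqrt ((u : ℝ) * v) * Real.cos (2 * Real.pi * j / n) = q := by
  obtain ⟨c, hc, hτ⟩ := exists_eigen h hj0 (by omega)
  obtain ⟨c', hc', hτ'⟩ := exists_eigen h (j := p - j) (by omega) (by omega)
  obtain ⟨hcm, hc0, hc1⟩ := Finset.mem_filter.1 hc
  obtain ⟨hcm', hc0', hc1'⟩ := Finset.mem_filter.1 hc'
  obtain ⟨m, hm, -, hf, -, -⟩ := mult_formula h hcm hc0 hc1
  obtain ⟨m', hm', -, hf', -, -⟩ := mult_formula h hcm' hc0' hc1'
  have hneg : tau u v c' = - tau u v c := by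
    rw [hτ', hτ]
    have hn0 : (n : ℝ) ≠ 0 := by
      have : 0 < n := by omega
      positivity
    have e : 2 * Real.pi * ((p - j : ℕ) : ℝ) / n = Real.pi - 2 * Real.pi * j / n := by
      rw [Nat.cast_sub (by omega)]
      have hn' : (n : ℝ) = p + p := by rw [hp]; push_cast; ring
      field_simp
      rw [hn']
      ring
    rw [e, Real.cos_pi_sub]
    ring
  rw [← hτ]
  rw [tt_eq_tau] at hf hf'
  rw [hneg] at hf'
  refine rat_of_pair h.hu h.hv hm hm' (by have := h.hn; omega) hf ?_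
  rw [← hf']
  ring

/-- **Feit–Higman** in matrix form. -/
theorem n_mem (h : PolyData n u v A₁ A₂) : n = 2 ∨ n = 3 ∨ n = 4 ∨ n = 6 ∨ n = 8 := by
  have hn := h.hn
  rcases Nat.even_or_odd n with hev | hodd
  · by_contra hcon
    obtain ⟨p, hp⟩ := hev
    have hp5 : 5 ≤ p := by omega
    obtain ⟨q₁, hq₁⟩ := rat_tau_even h hp (j := 1) (by omega) (by omega)
    obtain ⟨q₂, hq₂⟩ := rat_tau_even h hp (j := 2) (by omega) (by omega)
    have hρ : (0 : ℝ) < (u : ℝ) * v := mul_pos h.u_pos h.v_pos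
    set r := Real.sqrt ((u : ℝ) * v) with hr
    have hr0 : 0 < r := Real.sqrt_pos.2 hρ
    have hr2 : r ^ 2 = (u : ℝ) * v := Real.sq_sqrt hρ.le
    have hnr : (10 : ℝ) ≤ n := by
      have : 10 ≤ n := by omega
      exact_mod_cast this
    set θ := 2 * Real.pi / n with hθ
    have hpi := Real.pi_pos
    have e1 : 2 * Real.pi * ((1 : ℕ) : ℝ) / n = θ := by rw [hθ]; push_cast; ring
    have e2 : 2 * Real.pi * ((2 : ℕ) : ℝ) / n = 2 * θ := by rw [hθ]; push_cast; ring
    rw [e1] at hq₁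
    rw [e2] at hq₂
    -- cos (2θ) > 0
    have hcos2 : 0 < Real.cos (2 * θ) := by
      apply Real.cos_pos_of_mem_Ioo
      constructor
      · have : 0 < θ := by rw [hθ]; positivity
        linarith
      · rw [hθ]
        have : 2 * (2 * Real.pi / n) = 4 * Real.pi / n := by ring
        rw [this, div_lt_iff₀ (by linarith)]
        nlinarith
    have hq2pos : (0 : ℝ) < q₂ := by rw [← hq₂]; positivity
    -- r is rational
    have hrq : r = ((q₁ ^ 2 - 2 * ((u : ℚ) * v)) / q₂ : ℚ) := by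
      push_cast
      rw [eq_div_iff hq2pos.ne', ← hq₁, ← hq₂]
      have := Real.cos_sq θ
      have e : (2 * r * Real.cos θ) ^ 2 = 4 * r ^ 2 * Real.cos θ ^ 2 := by ring
      rw [e, this, hr2]
      have hr2' : r * r = (u : ℝ) * v := by rw [← sq]; exact hr2
      linear_combination (2 * Real.cos (2 * θ)) * hr2'
    have hcosq : ∃ q : ℚ, Real.cos (2 * Real.pi / n) = q := by
      have hc : Real.cos θ = q₁ / (2 * r) := by
        rw [← hq₁]; field_simp
      refine ⟨q₁ / (2 * ((q₁ ^ 2 - 2 * ((u : ℚ) * v)) / q₂)), ?_⟩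
      rw [Rat.cast_div, Rat.cast_mul, ← hrq]
      push_cast
      exact hc
    have := n_of_cos_rat hn hcosq
    omega
  · obtain ⟨p, hp⟩ := hodd
    have hp1 : 1 ≤ p := by omega
    obtain ⟨c, hc, hτ⟩ := exists_eigen h (j := 1) (by omega) (by omega)
    obtain ⟨hcm, hc0, hc1⟩ := Finset.mem_filter.1 hc
    obtain ⟨m, hm, -, hf, huv, -⟩ := mult_formula h hcm hc0 hc1
    have huv' : u = v := huv ⟨p, hp⟩
    subst huv'
    have htpos : 0 < tt (u : ℝ) u c := by
      unfold tt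
      have := h.u_pos
      positivity
    have hf' : (Fintype.card X : ℝ) * (4 * ((u : ℝ) * u) - (tt (u : ℝ) u c - u - u) ^ 2) =
        m * ((n : ℝ) * (tt (u : ℝ) u c * (((u : ℝ) + 1) * ((u : ℝ) + 1) - tt (u : ℝ) u c))) := by
      rw [← hf]
      unfold tau tt
      ring
    obtain ⟨q, hq⟩ := rat_of_eq h.hu hm (by omega) htpos hf'
    have hsq : Real.sqrt ((u : ℝ) * u) = u := Real.sqrt_mul_self h.u_pos.le
    rw [hsq] at hτ
    have hcosq : ∃ q : ℚ, Real.cos (2 * Real.pi / n) = q := by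
      refine ⟨(q - 2 * u) / (2 * u), ?_⟩
      push_cast
      rw [← hq, tt_eq_tau, hτ]
      have := h.u_pos
      field_simp
      ring_nf
    have := n_of_cos_rat hn hcosq
    omega

end Final

end Cfsg.Agent.Lib.Helper3_FHNum
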