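/-
Feit–Higman, part 7: from the rank-two Hecke datum of a (B,N)-pair (helper6's `RankTwoHecke`,
rational 0/1 matrices partitioning the all-ones matrix) to the real `PolyData` with trace
orthogonality, and the final theorem.
-/
import Mathlib
import Cfsg.Agent.Lib.Helper6_Hecke3
import Cfsg.Agent.Lib.Helper3_FHNum

set_option autoImplicit false
set_option linter.unusedSectionVars false
set_option linter.unusedVariables false

namespace Cfsg.Agent.Lib.Helper3_FHBridge

open Matrix Cfsg.Agent.Lib.Helper6_Coxeter Cfsg.Agent.Lib.Helper6_Hecke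
  Cfsg.Agent.Lib.Helper3_FHAlg Cfsg.Agent.Lib.Helper3_FHCount Cfsg.Agent.Lib.Helper3_FHNum

variable {X : Type*} [Fintype X] [DecidableEq X]

theorem altp_comm {M : Type*} [CommMonoid M] (x y : M) (k : ℕ) :
    altp x y k = x ^ ((k + 1) / 2) * y ^ (k / 2) := by
  induction k generalizing x y with
  | zero => simp [altp]
  | succ k ih =>
    rw [altp, ih]
    have e : (k + 1 + 1) / 2 = k / 2 + 1 := by omega
    rw [e, pow_succ]
    rw [mul_comm (y ^ ((k + 1) / 2)), ← mul_assoc, mul_comm x]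

section Real

variable {m q₁ q₂ : ℕ} {B₁ B₂ : Matrix X X ℝ}

/-- the all-ones vector is a common eigenvector -/
theorem wmat_mulVec_one (mv1 : B₁ *ᵥ 1 = fun _ => (q₁ : ℝ)) (mv2 : B₂ *ᵥ 1 = fun _ => (q₂ : ℝ))
    (i : Idx m) : wmat B₁ B₂ m i *ᵥ 1 = wq q₁ q₂ m i • (1 : X → ℝ) := by
  have a1 : B₁ *ᵥ (1 : X → ℝ) = (q₁ : ℝ) • (1 : X → ℝ) := by
    rw [mv1]; ext x; simp
  have a2 : B₂ *ᵥ (1 : X → ℝ) = (q₂ : ℝ) • (1 : X → ℝ) := by
    rw [mv2]; ext x; simp
  rcases i with k | k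
  · simp only [wmat, wq]
    rw [altp_mulVec a1 a2, altp_comm]
  · simp only [wmat, wq]
    rw [altp_mulVec a2 a1, altp_comm]

theorem sum_wmat (braid : altp B₁ B₂ m = altp B₂ B₁ m) (hm : 1 ≤ m)
    (sum_eq : ∑ k ∈ Finset.range m, altp B₁ B₂ k + ∑ k ∈ Finset.range m, altp B₂ B₁ (k + 1) =
      Matrix.of fun _ _ => (1 : ℝ)) :
    ∑ i : Idx m, wmat B₁ B₂ m i = Matrix.of fun _ _ => (1 : ℝ) := by
  rw [Fintype.sum_sum_type]
  simp only [wmat]
  rw [Fin.sum_univ_eq_sum_range (fun k => altp B₁ B₂ k) (m + 1),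
    Fin.sum_univ_eq_sum_range (fun k => altp B₂ B₁ (k + 1)) (m - 1), ← sum_eq,
    Finset.sum_range_succ]
  obtain ⟨m', rfl⟩ : ∃ m', m = m' + 1 := ⟨m - 1, by omega⟩
  simp only [Nat.add_sub_cancel]
  rw [Finset.sum_range_succ (fun k => altp B₂ B₁ (k + 1)) m', braid]
  abel

theorem polyData_of_partition (hX : Nonempty X) (hm : 2 ≤ m) (h1 : 2 ≤ q₁) (h2 : 2 ≤ q₂)
    (t1 : B₁ᵀ = B₁) (t2 : B₂ᵀ = B₂)
    (sq1 : B₁ * B₁ = (q₁ : ℝ) • (1 : Matrix X X ℝ) + ((q₁ : ℝ) - 1) • B₁)
    (sq2 : B₂ * B₂ = (q₂ : ℝ) • (1 : Matrix X X ℝ) + ((q₂ : ℝ) - 1) • B₂)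
    (mv1 : B₁ *ᵥ 1 = fun _ => (q₁ : ℝ)) (mv2 : B₂ *ᵥ 1 = fun _ => (q₂ : ℝ))
    (braid : altp B₁ B₂ m = altp B₂ B₁ m)
    (z1 : ∀ k ≤ m, ∀ x y, altp B₁ B₂ k x y = 0 ∨ altp B₁ B₂ k x y = 1)
    (z2 : ∀ k ≤ m, ∀ x y, altp B₂ B₁ k x y = 0 ∨ altp B₂ B₁ k x y = 1)
    (sum_eq : ∑ k ∈ Finset.range m, altp B₁ B₂ k + ∑ k ∈ Finset.range m, altp B₂ B₁ (k + 1) =
      Matrix.of fun _ _ => (1 : ℝ)) :
    PolyData m q₁ q₂ B₁ B₂ := by
  have hz : ∀ (i : Idx m) (x y : X), wmat B₁ B₂ m i x y = 0 ∨ wmat B₁ B₂ m i x y = 1 := by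
    intro i x y
    rcases i with k | k
    · exact z1 k (by have := k.2; omega) x y
    · exact z2 (k + 1) (by have := k.2; omega) x y
  have hsum := sum_wmat braid (by omega) sum_eq
  have hentry : ∀ x y : X, ∑ i : Idx m, wmat B₁ B₂ m i x y = 1 := by
    intro x y
    have := congrFun (congrFun hsum x) y
    simpa [Matrix.sum_apply] using this
  have hnonneg : ∀ (i : Idx m) (x y : X), 0 ≤ wmat B₁ B₂ m i x y := by
    intro i x y
    rcases hz i x y with h | h <;> rw [h] <;> norm_num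
  have hdisj : ∀ (i j : Idx m), i ≠ j → ∀ x y : X,
      wmat B₁ B₂ m i x y * wmat B₁ B₂ m j x y = 0 := by
    intro i j hij x y
    rcases hz i x y with h | h
    · rw [h, zero_mul]
    rcases hz j x y with h' | h'
    · rw [h', mul_zero]
    exfalso
    have hle : ∑ l ∈ ({i, j} : Finset (Idx m)), wmat B₁ B₂ m l x y ≤
        ∑ l : Idx m, wmat B₁ B₂ m l x y :=
      Finset.sum_le_sum_of_subset_of_nonneg (Finset.subset_univ _) (fun l _ _ => hnonneg l x y)
    rw [Finset.sum_pair hij, h, h', hentry] at hle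
    norm_num at hle
  refine ⟨hm, h1, h2, hX, t1, t2, sq1, sq2, braid, ?_⟩
  intro i j
  have htr : trace (wmat B₁ B₂ m i * (wmat B₁ B₂ m j)ᵀ) =
      ∑ x, ∑ y, wmat B₁ B₂ m i x y * wmat B₁ B₂ m j x y := by
    simp [Matrix.trace, Matrix.mul_apply]
  rw [htr]
  split_ifs with hij
  · subst hij
    have hsq : ∀ x y : X, wmat B₁ B₂ m i x y * wmat B₁ B₂ m i x y = wmat B₁ B₂ m i x y := by
      intro x y
      rcases hz i x y with h | h <;> rw [h] <;> norm_num
    simp only [hsq]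
    have hrow : ∀ x : X, ∑ y, wmat B₁ B₂ m i x y = wq q₁ q₂ m i := by
      intro x
      have := congrFun (wmat_mulVec_one (m := m) mv1 mv2 i) x
      simpa [Matrix.mulVec, dotProduct] using this
    simp only [hrow]
    simp
  · simp only [hdisj i j hij]
    simp

end Real


section Cast

variable {m q₁ q₂ : ℕ} {A₁ A₂ : Matrix X X ℚ}

/-- cast of a rational matrix to a real matrix, as a ring homomorphism -/
noncomputable def castM : Matrix X X ℚ →+* Matrix X X ℝ := (Rat.castHom ℝ).mapMatrix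

theorem castM_apply (A : Matrix X X ℚ) (x y : X) : castM A x y = ((A x y : ℚ) : ℝ) := rfl

theorem castM_altp (A B : Matrix X X ℚ) (k : ℕ) :
    castM (altp A B k) = altp (castM A) (castM B) k :=
  map_altp (castM : Matrix X X ℚ →+* Matrix X X ℝ).toMonoidHom A B k

theorem polyData_of_rankTwoHecke (h : RankTwoHecke m q₁ q₂ A₁ A₂) :
    PolyData m q₁ q₂ (castM A₁) (castM A₂) := by
  refine polyData_of_partition h.nonempty h.two_le_m h.two_le_q₁ h.two_le_q₂ ?_ ?_ ?_ ?_ ?_ ?_ ?_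
    ?_ ?_ ?_
  · ext x y
    have := congrFun (congrFun h.transpose₁ x) y
    simp only [transpose_apply] at this
    simp only [transpose_apply, castM_apply, this]
  · ext x y
    have := congrFun (congrFun h.transpose₂ x) y
    simp only [transpose_apply] at this
    simp only [transpose_apply, castM_apply, this]
  · rw [← map_mul, h.sq₁, map_add]
    ext x y
    simp [castM_apply, Matrix.one_apply]
    split_ifs <;> simp
  · rw [← map_mul, h.sq₂, map_add]
    ext x y
    simp [castM_apply, Matrix.one_apply]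
    split_ifs <;> simp
  · ext x
    have := congrFun h.mulVec₁ x
    simp only [Matrix.mulVec, dotProduct, Pi.one_apply, mul_one] at this ⊢
    simp only [castM_apply]
    rw [← Rat.cast_sum, this]
    simp
  · ext x
    have := congrFun h.mulVec₂ x
    simp only [Matrix.mulVec, dotProduct, Pi.one_apply, mul_one] at this ⊢
    simp only [castM_apply]
    rw [← Rat.cast_sum, this]
    simp
  · rw [← castM_altp, ← castM_altp, h.braid]
  · intro k hk x y
    rw [← castM_altp, castM_apply]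
    rcases h.zero_one₁ k hk x y with h0 | h1
    · left; rw [h0]; simp
    · right; rw [h1]; simp
  · intro k hk x y
    rw [← castM_altp, castM_apply]
    rcases h.zero_one₂ k hk x y with h0 | h1
    · left; rw [h0]; simp
    · right; rw [h1]; simp
  · have := congrArg castM h.sum_eq
    rw [map_add, map_sum, map_sum] at this
    simp only [castM_altp] at this
    rw [this]
    ext x y
    simp [castM_apply]

/-- **Feit–Higman** for helper6's rank-two Hecke datum. -/
theorem m_mem_of_rankTwoHecke (h : RankTwoHecke m q₁ q₂ A₁ A₂) :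
    m = 2 ∨ m = 3 ∨ m = 4 ∨ m = 6 ∨ m = 8 :=
  n_mem (polyData_of_rankTwoHecke h)

end Cast

end Cfsg.Agent.Lib.Helper3_FHBridge
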