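import Mathlib
import Cfsg.Agent.Lib.Helper3_CharColumn

/-!
# Class number of a Frobenius group (helper3)
-/

set_option autoImplicit false
set_option linter.unusedSectionVars false

namespace Cfsg.Agent.Lib.Helper3_FrobClass

open Cfsg.Agent.Lib.Helper3_CharColumn

section

variable {G : Type*} [Group G] [Finite G] (K H : Subgroup G) [hKn : K.Normal]
  (hKH : K ⊓ H = ⊥) (hKH' : K ⊔ H = ⊤)
  (hfpf : ∀ h ∈ H, h ≠ 1 → ∀ k ∈ K, h * k = k * h → k = 1)

include hKH' in
theorem exists_decomp (g : G) : ∃ k ∈ K, ∃ h ∈ H, k * h = g := by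
  have : g ∈ K ⊔ H := by rw [hKH']; exact Subgroup.mem_top g
  exact Subgroup.mem_sup_of_normal_left.mp this

include hKH in
theorem eq_one_of_mem_of_mem {g : G} (h1 : g ∈ K) (h2 : g ∈ H) : g = 1 := by
  have : g ∈ K ⊓ H := ⟨h1, h2⟩
  rw [hKH] at this
  exact Subgroup.mem_bot.mp this

include hKH hKH' in
theorem card_mul_card : Nat.card K * Nat.card H = Nat.card G := by
  apply Subgroup.IsComplement'.card_mul_card
  apply Subgroup.isComplement'_of_disjoint_and_mul_eq_univ
  · rw [disjoint_iff]; exact hKH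
  · rw [← Subgroup.normal_mul, hKH']
    rfl

include hKH hKH' hfpf in
/-- If a conjugate of a non-identity element of `H` lies in `H`, the conjugating element is in
`H`. -/
theorem mem_of_conj_mem {h₁ : G} (hh₁ : h₁ ∈ H) (hne : h₁ ≠ 1) {g : G}
    (hg : g * h₁ * g⁻¹ ∈ H) : g ∈ H := by
  obtain ⟨k, hk, h', hh', rfl⟩ := exists_decomp K H hKH' g
  set h'' := h' * h₁ * h'⁻¹ with hh''
  have hh''H : h'' ∈ H := H.mul_mem (H.mul_mem hh' hh₁) (H.inv_mem hh')
  have hh''ne : h'' ≠ 1 := by
    intro h
    apply hne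
    have : h₁ = h'⁻¹ * h'' * h' := by rw [hh'']; group
    rw [this, h]; group
  have e1 : k * h' * h₁ * (k * h')⁻¹ = k * h'' * k⁻¹ := by rw [hh'']; group
  rw [e1] at hg
  -- the element `k h'' k⁻¹ h''⁻¹` lies in `K ⊓ H`
  have h1 : k * h'' * k⁻¹ * h''⁻¹ ∈ H := H.mul_mem hg (H.inv_mem hh''H)
  have h2 : k * h'' * k⁻¹ * h''⁻¹ ∈ K := by
    have : k * h'' * k⁻¹ * h''⁻¹ = k * (h'' * k⁻¹ * h''⁻¹) := by group
    rw [this]
    exact K.mul_mem hk (hKn.conj_mem _ (K.inv_mem hk) _)
  have h3 := eq_one_of_mem_of_mem K H hKH h2 h1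
  have h4 : h'' * k = k * h'' := by
    have : k * h'' = (k * h'' * k⁻¹ * h''⁻¹) * (h'' * k) := by group
    rw [this, h3, one_mul]
  have hk1 : k = 1 := hfpf h'' hh''H hh''ne k hk h4
  rw [hk1, one_mul]
  exact hh'

include hKH hKH' hfpf in
/-- The centralizer of a non-identity element of `H` lies in `H`. -/
theorem centralizer_le_of_mem_H {h : G} (hh : h ∈ H) (hne : h ≠ 1) :
    Subgroup.centralizer ({h} : Set G) ≤ H := by
  intro g hg
  rw [Subgroup.mem_centralizer_singleton_iff] at hg
  apply mem_of_conj_mem K H hKH hKH' hfpf hh hne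
  rw [hg, mul_inv_cancel_right]
  exact hh

/-- The map `(h, k) ↦ k⁻¹ h k` from `H# × K` to `G \ K`. -/
def conjMap : {h : H // h ≠ 1} × K → G := fun p => (p.2 : G)⁻¹ * (p.1.1 : G) * (p.2 : G)

include hKH in
theorem conjMap_not_mem (p : {h : H // h ≠ 1} × K) : conjMap K H p ∉ K := by
  intro hmem
  have h1 : (p.1.1 : G) ∈ K := by
    have := hKn.conj_mem _ hmem (p.2 : G)
    have e : (p.2 : G) * conjMap K H p * (p.2 : G)⁻¹ = (p.1.1 : G) := by
      unfold conjMap; group
    rwa [e] at this
  have := eq_one_of_mem_of_mem K H hKH h1 p.1.1.2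
  exact p.1.2 (Subtype.ext this)

include hKH hKH' hfpf in
theorem conjMap_injective : Function.Injective (conjMap K H) := by
  rintro ⟨⟨h₁, hne₁⟩, k₁⟩ ⟨⟨h₂, hne₂⟩, k₂⟩ heq
  unfold conjMap at heq
  simp only at heq
  set g : G := (k₂ : G) * (k₁ : G)⁻¹ with hg
  have hgK : g ∈ K := K.mul_mem k₂.2 (K.inv_mem k₁.2)
  have e1 : g * (h₁ : G) * g⁻¹ = (h₂ : G) := by
    have : (h₂ : G) = (k₂ : G) * ((k₂ : G)⁻¹ * (h₂ : G) * (k₂ : G)) * (k₂ : G)⁻¹ := by group
    rw [this, ← heq, hg]; group
  have hne₁' : (h₁ : G) ≠ 1 := fun h => hne₁ (Subtype.ext h)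
  have hgH : g ∈ H := by
    apply mem_of_conj_mem K H hKH hKH' hfpf h₁.2 hne₁'
    rw [e1]; exact h₂.2
  have hg1 : g = 1 := eq_one_of_mem_of_mem K H hKH hgK hgH
  have hk : k₁ = k₂ := by
    apply Subtype.ext
    have : (k₂ : G) = g * (k₁ : G) := by rw [hg]; group
    rw [this, hg1, one_mul]
  subst hk
  have hh : h₁ = h₂ := by
    apply Subtype.ext
    rw [← e1, hg1]; group
  subst hh
  rfl

include hKH hKH' hfpf in
theorem conjMap_surj (g : G) (hg : g ∉ K) : ∃ p, conjMap K H p = g := by
  classical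
  have : Fintype G := Fintype.ofFinite G
  have : Fintype K := Fintype.ofFinite K
  have : Fintype H := Fintype.ofFinite H
  let φ : {h : H // h ≠ 1} × K → {g : G // g ∉ K} :=
    fun p => ⟨conjMap K H p, conjMap_not_mem K H hKH p⟩
  have hinj : Function.Injective φ := by
    intro p q hpq
    apply conjMap_injective K H hKH hKH' hfpf
    exact congrArg Subtype.val hpq
  have hcard : Fintype.card {g : G // g ∉ K} ≤ Fintype.card ({h : H // h ≠ 1} × K) := by
    rw [Fintype.card_prod, Fintype.card_subtype_compl, Fintype.card_subtype_compl,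
      Fintype.card_subtype_eq]
    have h1 := card_mul_card K H hKH hKH'
    rw [Nat.card_eq_fintype_card, Nat.card_eq_fintype_card, Nat.card_eq_fintype_card] at h1
    have h2 : Fintype.card {x // x ∈ K} = Fintype.card K := rfl
    rw [h2, ← h1, Nat.sub_mul, one_mul, mul_comm]
  have hbij : Function.Bijective φ :=
    (Fintype.bijective_iff_injective_and_card φ).mpr
      ⟨hinj, le_antisymm (Fintype.card_le_of_injective φ hinj) hcard⟩
  obtain ⟨p, hp⟩ := hbij.2 ⟨g, hg⟩
  exact ⟨p, congrArg Subtype.val hp⟩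

include hKH hKH' hfpf in
/-- The centralizer of a non-identity element of `K` lies in `K`. -/
theorem centralizer_le_of_mem_K {x : G} (hx : x ∈ K) (hne : x ≠ 1) :
    Subgroup.centralizer ({x} : Set G) ≤ K := by
  intro g hg
  rw [Subgroup.mem_centralizer_singleton_iff] at hg
  by_contra hgK
  obtain ⟨⟨⟨h, hh1⟩, k⟩, hp⟩ := conjMap_surj K H hKH hKH' hfpf g hgK
  unfold conjMap at hp
  simp only at hp
  have hh1' : (h : G) ≠ 1 := fun e => hh1 (Subtype.ext e)
  have hmem : (k : G) * x * (k : G)⁻¹ ∈ K := hKn.conj_mem x hx k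
  have hcomm : (h : G) * ((k : G) * x * (k : G)⁻¹) = ((k : G) * x * (k : G)⁻¹) * (h : G) := by
    have e1 : (h : G) = (k : G) * g * (k : G)⁻¹ := by rw [← hp]; group
    rw [e1]
    have : (k : G) * g * (k : G)⁻¹ * ((k : G) * x * (k : G)⁻¹) = (k : G) * (g * x) * (k : G)⁻¹ := by
      group
    rw [this, hg]
    group
  have := hfpf h h.2 hh1' _ hmem hcomm
  apply hne
  have e2 : x = (k : G)⁻¹ * ((k : G) * x * (k : G)⁻¹) * (k : G) := by group
  rw [e2, this]
  group

end

section card

variable {G : Type*} [Group G]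

theorem card_centralizer_eq_of_le {L : Subgroup G} {x : G} (hx : x ∈ L)
    (hle : Subgroup.centralizer ({x} : Set G) ≤ L) :
    Nat.card (Subgroup.centralizer ({x} : Set G)) =
      Nat.card (Subgroup.centralizer ({(⟨x, hx⟩ : L)} : Set L)) := by
  refine Nat.card_congr
    { toFun := fun y => ⟨⟨y, hle y.2⟩, ?_⟩
      invFun := fun z => ⟨(z : G), ?_⟩
      left_inv := fun y => rfl
      right_inv := fun z => rfl }
  · rw [Subgroup.mem_centralizer_singleton_iff]
    apply Subtype.ext
    exact Subgroup.mem_centralizer_singleton_iff.mp y.2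
  · rw [Subgroup.mem_centralizer_singleton_iff]
    have := Subgroup.mem_centralizer_singleton_iff.mp z.2
    exact congrArg Subtype.val this

theorem card_centralizer_conj (g k : G) :
    Nat.card (Subgroup.centralizer ({k⁻¹ * g * k} : Set G)) =
      Nat.card (Subgroup.centralizer ({g} : Set G)) := by
  refine Nat.card_congr
    { toFun := fun y => ⟨k * y * k⁻¹, ?_⟩
      invFun := fun z => ⟨k⁻¹ * z * k, ?_⟩
      left_inv := fun y => by apply Subtype.ext; simp only; group
      right_inv := fun z => by apply Subtype.ext; simp only; group }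
  · rw [Subgroup.mem_centralizer_singleton_iff]
    have := Subgroup.mem_centralizer_singleton_iff.mp y.2
    have e1 : k * (y : G) * k⁻¹ * g = k * ((y : G) * (k⁻¹ * g * k)) * k⁻¹ := by group
    rw [e1, this]
    group
  · rw [Subgroup.mem_centralizer_singleton_iff]
    have := Subgroup.mem_centralizer_singleton_iff.mp z.2
    have e1 : k⁻¹ * (z : G) * k * (k⁻¹ * g * k) = k⁻¹ * ((z : G) * g) * k := by group
    rw [e1, this]
    group

end card

section main

variable {G : Type*} [Group G] [Finite G] (K H : Subgroup G) [hKn : K.Normal]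

/-- In any finite group `L`: `∑_{x ≠ 1} |C_L(x)| + |L| = k(L) |L|`. -/
theorem sum_ne_one_add_card (L : Type*) [Group L] [Fintype L] [Fintype {x : L // x ≠ 1}] :
    ∑ x : {x : L // x ≠ 1}, Nat.card (Subgroup.centralizer ({(x : L)} : Set L)) + Nat.card L =
      Nat.card (ConjClasses L) * Nat.card L := by
  classical
  rw [← sum_card_centralizer,
    ← Finset.add_sum_erase Finset.univ (fun x : L => Nat.card (Subgroup.centralizer ({x} : Set L)))
      (Finset.mem_univ (1 : L))]
  have h1 : Subgroup.centralizer ({(1 : L)} : Set L) = ⊤ := by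
    ext x
    simp [Subgroup.mem_centralizer_singleton_iff]
  rw [h1, Subgroup.card_top, add_comm]
  congr 1
  rw [Finset.sum_subtype (Finset.univ.erase (1 : L)) (p := fun x => x ≠ 1) (by simp)
    (fun x : L => Nat.card (Subgroup.centralizer ({x} : Set L)))]

/-- **Class number of a Frobenius group**. -/
theorem frobenius_class_count (hKH : K ⊓ H = ⊥) (hKH' : K ⊔ H = ⊤)
    (hfpf : ∀ h ∈ H, h ≠ 1 → ∀ k ∈ K, h * k = k * h → k = 1) :
    Nat.card H * Nat.card (ConjClasses G) + 1 =
      Nat.card H * Nat.card (ConjClasses H) + Nat.card (ConjClasses K) := by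
  classical
  have : Fintype G := Fintype.ofFinite G
  set cG : G → ℕ := fun g => Nat.card (Subgroup.centralizer ({g} : Set G)) with hcG
  have hGK := card_mul_card K H hKH hKH'
  have hKpos : 0 < Nat.card K := Nat.card_pos
  -- total
  have htot : ∑ g : G, cG g = Nat.card (ConjClasses G) * Nat.card G := sum_card_centralizer
  have hsplit := Fintype.sum_subtype_add_sum_subtype (fun x : G => x ∈ K) cG
  -- the part inside `K`
  have hin : ∑ x : {x : G // x ∈ K}, cG x + Nat.card K =
      Nat.card G + Nat.card (ConjClasses K) * Nat.card K := by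
    have h1 : ∑ x : K, cG x = cG ((1 : K) : G) + ∑ x ∈ Finset.univ.erase (1 : K), cG x :=
      (Finset.add_sum_erase Finset.univ (fun x : K => cG x) (Finset.mem_univ (1 : K))).symm
    have h2 : cG ((1 : K) : G) = Nat.card G := by
      have : Subgroup.centralizer ({((1 : K) : G)} : Set G) = ⊤ := by
        ext x
        simp [Subgroup.mem_centralizer_singleton_iff]
      rw [hcG]
      simp only
      rw [this, Subgroup.card_top]
    have h3 : ∑ x ∈ Finset.univ.erase (1 : K), cG x =
        ∑ x : {x : K // x ≠ 1}, Nat.card (Subgroup.centralizer ({(x : K)} : Set K)) := by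
      rw [Finset.sum_subtype (Finset.univ.erase (1 : K)) (p := fun x => x ≠ 1) (by simp)
        (fun x : K => cG x)]
      apply Fintype.sum_equiv (Equiv.refl _)
      intro x
      simp only [Equiv.refl_apply]
      have hx1 : ((x : K) : G) ≠ 1 := fun e => x.2 (Subtype.ext e)
      exact card_centralizer_eq_of_le (x : K).2
        (centralizer_le_of_mem_K K H hKH hKH' hfpf (x : K).2 hx1)
    have h4 := sum_ne_one_add_card K
    have h5 : ∑ x : {x : G // x ∈ K}, cG x = ∑ x : K, cG x := rfl
    rw [h5, h1, h2, h3]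
    omega
  -- the part outside `K`
  have hout : ∑ x : {x : G // x ∉ K}, cG x + Nat.card K * Nat.card H =
      Nat.card K * (Nat.card (ConjClasses H) * Nat.card H) := by
    let φ : {h : H // h ≠ 1} × K → {g : G // g ∉ K} :=
      fun p => ⟨conjMap K H p, conjMap_not_mem K H hKH p⟩
    have hbij : Function.Bijective φ := by
      constructor
      · intro p q hpq
        apply conjMap_injective K H hKH hKH' hfpf
        exact congrArg Subtype.val hpq
      · rintro ⟨g, hg⟩
        obtain ⟨p, hp⟩ := conjMap_surj K H hKH hKH' hfpf g hg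
        exact ⟨p, Subtype.ext hp⟩
    have h1 : ∑ x : {x : G // x ∉ K}, cG x = ∑ p : {h : H // h ≠ 1} × K, cG (φ p) :=
      (Fintype.sum_bijective φ hbij (fun p => cG (φ p)) (fun x => cG x) (fun p => rfl)).symm
    have h2 : ∀ p : {h : H // h ≠ 1} × K, cG (φ p) =
        Nat.card (Subgroup.centralizer ({(p.1 : H)} : Set H)) := by
      intro p
      show Nat.card (Subgroup.centralizer ({conjMap K H p} : Set G)) = _
      unfold conjMap
      rw [card_centralizer_conj]
      have hp1 : ((p.1 : H) : G) ≠ 1 := fun e => p.1.2 (Subtype.ext e)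
      exact card_centralizer_eq_of_le (p.1 : H).2
        (centralizer_le_of_mem_H K H hKH hKH' hfpf (p.1 : H).2 hp1)
    rw [h1, Finset.sum_congr rfl (fun p _ => h2 p), Fintype.sum_prod_type]
    simp only [Finset.sum_const, Finset.card_univ, smul_eq_mul]
    rw [← Finset.mul_sum, ← Nat.card_eq_fintype_card, ← sum_ne_one_add_card H]
    ring
  -- conclusion
  have hfin : Nat.card K * (Nat.card H * Nat.card (ConjClasses G) + 1) =
      Nat.card K * (Nat.card H * Nat.card (ConjClasses H) + Nat.card (ConjClasses K)) := by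
    have e1 : Nat.card (ConjClasses G) * Nat.card G =
        Nat.card K * (Nat.card H * Nat.card (ConjClasses G)) := by
      rw [← hGK]; ring
    rw [htot, e1] at hsplit
    have e2 : Nat.card K * (Nat.card H * Nat.card (ConjClasses G) + 1) =
        Nat.card K * (Nat.card H * Nat.card (ConjClasses G)) + Nat.card K := by ring
    have e3 : Nat.card K * (Nat.card H * Nat.card (ConjClasses H) + Nat.card (ConjClasses K)) =
        Nat.card K * (Nat.card (ConjClasses H) * Nat.card H) +
          Nat.card (ConjClasses K) * Nat.card K := by ring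
    rw [e2, e3, ← hsplit, ← hout]
    omega
  exact Nat.eq_of_mul_eq_mul_left hKpos hfin

end main

end Cfsg.Agent.Lib.Helper3_FrobClass
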