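import Mathlib

/-!
# An integer lattice lemma (helper3)

`core`: integers `a i` (`i` in a type with `m ≥ 2` elements) with `∑ a i = e`,
`∑ (a i)² ≤ n` and `m * n = e² + m - 1` force `e ≡ ±1 (mod m)`.
-/

set_option autoImplicit false

namespace Cfsg.Agent.Lib.Helper3_FrobRamCore

theorem core {ι : Type*} [Fintype ι] (a : ι → ℤ) (m e n : ℤ)
    (hcard : (Fintype.card ι : ℤ) = m) (hm : 2 ≤ m) (hsum : ∑ i, a i = e)
    (hsq : ∑ i, a i ^ 2 ≤ n) (hn : m * n = e ^ 2 + m - 1) :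
    m ∣ e - 1 ∨ m ∣ e + 1 := by
  have hmpos : 0 < m := by omega
  obtain ⟨q, s, hes, hs1, hs2⟩ : ∃ q s : ℤ, e = m * q + s ∧ -m < 2 * s ∧ 2 * s ≤ m := by
    have h0 := Int.mul_ediv_add_emod e m
    have h1 := Int.emod_nonneg e hmpos.ne'
    have h2 := Int.emod_lt_of_pos e hmpos
    by_cases h : 2 * (e % m) ≤ m
    · exact ⟨e / m, e % m, h0.symm, by omega, h⟩
    · refine ⟨e / m + 1, e % m - m, ?_, ?_, ?_⟩
      · linarith
      · omega
      · omega
  have hd_sum : ∑ i, (a i - q) = s := by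
    rw [Finset.sum_sub_distrib, hsum, Finset.sum_const, Finset.card_univ, nsmul_eq_mul, hcard]
    linarith
  have hd_sq : m * ∑ i, (a i - q) ^ 2 ≤ s ^ 2 + m - 1 := by
    have h1 : ∑ i, (a i - q) ^ 2 = ∑ i, a i ^ 2 - 2 * q * e + m * q ^ 2 := by
      have : ∀ i, (a i - q) ^ 2 = a i ^ 2 - 2 * q * a i + q ^ 2 := fun i => by ring
      simp_rw [this]
      rw [Finset.sum_add_distrib, Finset.sum_sub_distrib, ← Finset.mul_sum, hsum,
        Finset.sum_const, Finset.card_univ, nsmul_eq_mul, hcard]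
    rw [h1]
    have : m * ∑ i, a i ^ 2 ≤ m * n := mul_le_mul_of_nonneg_left hsq hmpos.le
    nlinarith
  have hge1 : s ≤ ∑ i, (a i - q) ^ 2 := by
    rw [← hd_sum]
    apply Finset.sum_le_sum
    intro i _
    exact Int.le_self_sq _
  have hge2 : -s ≤ ∑ i, (a i - q) ^ 2 := by
    rw [← hd_sum, ← Finset.sum_neg_distrib]
    apply Finset.sum_le_sum
    intro i _
    have := Int.le_self_sq (-(a i - q))
    rwa [neg_sq] at this
  set D := ∑ i, (a i - q) ^ 2 with hD
  have hcase : s = 0 ∨ s = 1 ∨ s = -1 := by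
    by_contra hcon
    push Not at hcon
    obtain ⟨h0, h1, h2⟩ := hcon
    rcases lt_or_gt_of_ne h0 with hneg | hpos
    · have hs : s ≤ -2 := by omega
      have h3 : m * (-s) ≤ m * D := mul_le_mul_of_nonneg_left hge2 hmpos.le
      nlinarith
    · have hs : 2 ≤ s := by omega
      have h3 : m * s ≤ m * D := mul_le_mul_of_nonneg_left hge1 hmpos.le
      nlinarith
  rcases hcase with h | h | h
  · exfalso
    rw [h, add_zero] at hes
    have h1 : m ∣ 1 := ⟨q ^ 2 * m + 1 - n, by rw [hes] at hn; nlinarith⟩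
    have := Int.le_of_dvd one_pos h1
    omega
  · left
    exact ⟨q, by rw [hes, h]; ring⟩
  · right
    exact ⟨q, by rw [hes, h]; ring⟩

end Cfsg.Agent.Lib.Helper3_FrobRamCore
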