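import Mathlib
import Cfsg.Prelude.Def_Characters
import Cfsg.Agent.Lib.Helper75_CosetNorm

/-!
# Coset sums under a Frobenius-type action (helper3)

`frob_coset_sum`: `N ≤ G` normal in `Γ`, `x` with `C_{G/N}(x) = 1`, `F` a class function on `Γ`:
`|N| ∑_{g ∈ G} F(x g) = |G| ∑_{n ∈ N} F(x n)`.
-/

set_option autoImplicit false
open scoped ComplexConjugate

namespace Cfsg.Agent.Lib.Helper3_FrobRamCoset

open Cfsg Cfsg.Agent.Lib.Helper75_CosetNorm

/-- summing a function of the coset over the group -/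
theorem sum_comp_mk {A : Type*} [Group A] [Fintype A] (K : Subgroup A) [K.Normal] [Fintype K]
    [Fintype (A ⧸ K)] (f : A ⧸ K → ℂ) :
    ∑ g : A, f (g : A ⧸ K) = (Nat.card K : ℂ) * ∑ q : A ⧸ K, f q := by
  classical
  have h1 : ∀ g : A, f (g : A ⧸ K) = ∑ q : A ⧸ K, if (g : A ⧸ K) = q then f q else 0 := by
    intro g
    rw [Finset.sum_ite_eq]
    simp
  simp_rw [h1]
  rw [Finset.sum_comm, Finset.mul_sum]
  apply Finset.sum_congr rfl
  intro q _
  obtain ⟨y, rfl⟩ := QuotientGroup.mk_surjective q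
  have h2 := sum_fiber_eq K (fun _ => f (y : A ⧸ K)) y
  rw [h2, Finset.sum_const, Finset.card_univ, nsmul_eq_mul, ← Nat.card_eq_fintype_card]

variable {Γ : Type*} [Group Γ] [Fintype Γ]

theorem frob_coset_sum (G N : Subgroup Γ) [hG : G.Normal] [hN : N.Normal] [Fintype G] [Fintype N]
    (hNG : N ≤ G) (x : Γ)
    (hx : ∀ g : Γ, g ∈ G → x⁻¹ * g * x * g⁻¹ ∈ N → g ∈ N)
    (F : Γ → ℂ) (hF : IsClassFunction Γ F) :
    (Nat.card N : ℂ) * ∑ g : G, F (x * g) = (Nat.card G : ℂ) * ∑ n : N, F (x * n) := by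
  classical
  let K : Subgroup G := N.subgroupOf G
  have hKn : K.Normal := hN.subgroupOf G
  have : Fintype K := Fintype.ofFinite K
  have : Fintype (G ⧸ K) := Fintype.ofFinite _
  have hcardK : Nat.card K = Nat.card N :=
    Nat.card_congr (Subgroup.subgroupOfEquivOfLe hNG).toEquiv
  -- the commutator map
  let κ : G → G := fun h => ⟨x⁻¹ * h * x * (h : Γ)⁻¹,
    G.mul_mem (by simpa using hG.conj_mem h h.2 x⁻¹) (G.inv_mem h.2)⟩
  let S : G → ℂ := fun g => ∑ n : N, F (x * g * n)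
  -- S is right-invariant under K
  have hSinv : ∀ (g : G) (a : G), a ∈ K → S (g * a) = S g := by
    intro g a ha
    have haN : (a : Γ) ∈ N := Subgroup.mem_subgroupOf.mp ha
    show ∑ n : N, F (x * ((g * a : G) : Γ) * n) = ∑ n : N, F (x * g * n)
    symm
    apply Fintype.sum_equiv (Equiv.mulLeft (⟨(a : Γ), haN⟩ : N)⁻¹)
    intro n
    simp only [Equiv.coe_mulLeft, Subgroup.coe_mul, Subgroup.coe_inv]
    congr 1
    group
  -- (b)
  have hb : ∑ g : G, S g = (Nat.card N : ℂ) * ∑ g : G, F (x * g) := by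
    show ∑ g : G, ∑ n : N, F (x * g * n) = _
    rw [Finset.sum_comm]
    have h1 : ∀ n : N, ∑ g : G, F (x * g * n) = ∑ g : G, F (x * g) := by
      intro n
      apply Fintype.sum_equiv (Equiv.mulRight (⟨(n : Γ), hNG n.2⟩ : G))
      intro g
      simp only [Equiv.coe_mulRight, Subgroup.coe_mul]
      rw [mul_assoc]
    simp_rw [h1]
    rw [Finset.sum_const, Finset.card_univ, nsmul_eq_mul, ← Nat.card_eq_fintype_card]
  -- (c)
  have hc : ∀ h : G, S (κ h) = ∑ n : N, F (x * n) := by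
    intro h
    show ∑ n : N, F (x * ((κ h : G) : Γ) * n) = ∑ n : N, F (x * n)
    symm
    apply Fintype.sum_equiv (MulAut.conjNormal (h : Γ) : N ≃* N).toEquiv
    intro n
    simp only [MulEquiv.toEquiv_eq_coe, EquivLike.coe_coe, MulAut.conjNormal_apply]
    have h1 : x * ((κ h : G) : Γ) * ((h : Γ) * n * (h : Γ)⁻¹) = (h : Γ) * (x * n) * (h : Γ)⁻¹ := by
      show x * (x⁻¹ * h * x * (h : Γ)⁻¹) * ((h : Γ) * n * (h : Γ)⁻¹) = _
      group
    rw [h1, hF]
  -- the key equivalence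
  have hiff : ∀ h h' : G, ((κ h : G) : G ⧸ K) = ((κ h' : G) : G ⧸ K) ↔
      ((h : G) : G ⧸ K) = ((h' : G) : G ⧸ K) := by
    intro h h'
    rw [QuotientGroup.eq, QuotientGroup.eq, Subgroup.mem_subgroupOf, Subgroup.mem_subgroupOf]
    have h1 : (((κ h)⁻¹ * κ h' : G) : Γ) =
        (h : Γ) * (x⁻¹ * ((h : Γ)⁻¹ * h') * x * ((h : Γ)⁻¹ * h')⁻¹) * (h : Γ)⁻¹ := by
      show (x⁻¹ * h * x * (h : Γ)⁻¹)⁻¹ * (x⁻¹ * h' * x * (h' : Γ)⁻¹) = _
      group
    have h2 : ((h⁻¹ * h' : G) : Γ) = (h : Γ)⁻¹ * h' := rfl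
    rw [h1, h2]
    constructor
    · intro h3
      have h4 : x⁻¹ * ((h : Γ)⁻¹ * h') * x * ((h : Γ)⁻¹ * h')⁻¹ ∈ N := by
        have := hN.conj_mem _ h3 (h : Γ)⁻¹
        have h5 : (h : Γ)⁻¹ * ((h : Γ) * (x⁻¹ * ((h : Γ)⁻¹ * h') * x * ((h : Γ)⁻¹ * h')⁻¹) *
            (h : Γ)⁻¹) * ((h : Γ)⁻¹)⁻¹ = x⁻¹ * ((h : Γ)⁻¹ * h') * x * ((h : Γ)⁻¹ * h')⁻¹ := by
          group
        rwa [h5] at this
      exact hx _ (G.mul_mem (G.inv_mem h.2) h'.2) h4
    · intro h3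
      apply hN.conj_mem
      apply N.mul_mem _ (N.inv_mem h3)
      have := hN.conj_mem _ h3 x⁻¹
      simpa [mul_assoc] using this
  -- the induced bijection of the quotient
  let κq : G ⧸ K → G ⧸ K := fun q => ((κ q.out : G) : G ⧸ K)
  have hκq : ∀ h : G, κq (h : G ⧸ K) = ((κ h : G) : G ⧸ K) := by
    intro h
    show ((κ ((h : G ⧸ K)).out : G) : G ⧸ K) = _
    rw [hiff]
    exact QuotientGroup.out_eq' _
  have hκq_inj : Function.Injective κq := by
    intro q q' hqq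
    have h1 : ((κ q.out : G) : G ⧸ K) = ((κ q'.out : G) : G ⧸ K) := hqq
    rw [hiff, QuotientGroup.out_eq', QuotientGroup.out_eq'] at h1
    exact h1
  have hκq_bij : Function.Bijective κq := Finite.injective_iff_bijective.mp hκq_inj
  let Sq : G ⧸ K → ℂ := fun q => S q.out
  have hSq : ∀ g : G, Sq (g : G ⧸ K) = S g := by
    intro g
    obtain ⟨a, ha⟩ := QuotientGroup.mk_out_eq_mul K g
    show S ((g : G ⧸ K)).out = S g
    rw [ha]
    exact hSinv g a a.2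
  -- assemble
  have h1 : ∑ g : G, S g = (Nat.card K : ℂ) * ∑ q : G ⧸ K, Sq q := by
    rw [← sum_comp_mk K Sq]
    apply Finset.sum_congr rfl
    intro g _
    rw [hSq]
  have h2 : ∑ h : G, S (κ h) = (Nat.card K : ℂ) * ∑ q : G ⧸ K, Sq (κq q) := by
    rw [← sum_comp_mk K (fun q => Sq (κq q))]
    apply Finset.sum_congr rfl
    intro g _
    rw [hκq, hSq]
  have h3 : ∑ q : G ⧸ K, Sq (κq q) = ∑ q : G ⧸ K, Sq q :=
    Function.Bijective.sum_comp hκq_bij Sq
  have h4 : ∑ h : G, S (κ h) = (Nat.card G : ℂ) * ∑ n : N, F (x * n) := by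
    simp_rw [hc]
    rw [Finset.sum_const, Finset.card_univ, nsmul_eq_mul, ← Nat.card_eq_fintype_card]
  rw [← hb, h1, ← h3, ← h2, h4]

end Cfsg.Agent.Lib.Helper3_FrobRamCoset
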