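import Mathlib
import Cfsg.Prelude.Def_Characters
import Cfsg.Agent.Lib.Helper3_FrobRamCore
import Cfsg.Agent.Lib.Helper75_CosetNorm

/-!
# The local part of the fully ramified / Frobenius action congruence (helper3)

`local_lemma`: `K ⊴ U` with abelian quotient of order `m ≥ 2`, `θh ∈ Irr U` restricting
irreducibly to `K`, `Ψ` a character of `U` with `Ψ|_K = e θh|_K` and `m [Ψ,Ψ] = e² + m - 1`.
Then `e ≡ ±1 (mod m)`.
-/

set_option autoImplicit false
open scoped ComplexConjugate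

namespace Cfsg.Agent.Lib.Helper3_FrobRamLocal

open Cfsg Cfsg.Agent.Lib.Helper3_CharBridge Cfsg.Agent.Lib.Helper3_CharOrtho
  Cfsg.Agent.Lib.Helper75_CharArith Cfsg.Agent.Lib.Helper75_LinChar
  Cfsg.Agent.Lib.Helper74_GoingUp Cfsg.Agent.Lib.Helper74_LinAct
  Cfsg.Agent.Lib.Helper75_Induced Cfsg.Agent.Lib.Helper75_CosetNorm

variable {U : Type*} [Group U] [Fintype U]

/-- injectivity of `c ↦ c θh` (Gallagher) -/
theorem twist_infl_injective (K : Subgroup U) [hK : K.Normal] (θh : IrrCharacter U)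
    (hθK : IsIrrCharacter K (fun k : K => (θh : U → ℂ) k)) :
    Function.Injective (fun c : (U ⧸ K) →* ℂˣ => twist (infl K c) θh) := by
  intro c c' h
  have h1 : ∀ u : U, ((c (u : U ⧸ K) : ℂˣ) : ℂ) * (θh : U → ℂ) u =
      ((c' (u : U ⧸ K) : ℂˣ) : ℂ) * (θh : U → ℂ) u := by
    intro u
    have := congrFun (congrArg Subtype.val h) u
    simpa [twist_apply, infl_apply] using this
  let d : (U ⧸ K) →* ℂˣ := c'⁻¹ * c
  let β : U → ℂ := fun u => ((infl K d u : ℂˣ) : ℂ)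
  have hβ : IsLin U β := isLin_of_hom ((Units.coeHom ℂ).comp (infl K d))
  have hβK : ∀ n : K, β n = 1 := by
    intro n
    show ((infl K d (n : U) : ℂˣ) : ℂ) = 1
    rw [infl_of_mem K d n.2, Units.val_one]
  have hβθ : β * (θh : U → ℂ) = (θh : U → ℂ) := by
    funext u
    show ((infl K d u : ℂˣ) : ℂ) * (θh : U → ℂ) u = (θh : U → ℂ) u
    rw [infl_apply]
    show (((c'⁻¹ * c) (u : U ⧸ K) : ℂˣ) : ℂ) * (θh : U → ℂ) u = (θh : U → ℂ) u
    rw [MonoidHom.mul_apply, MonoidHom.inv_apply, Units.val_mul, mul_assoc, h1 u, ← mul_assoc,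
      ← Units.val_mul, inv_mul_cancel, Units.val_one, one_mul]
  have h2 := lin_eq_one_of_mul_eq K θh.2 hθK hβ hβK hβθ
  apply MonoidHom.ext
  intro q
  obtain ⟨u, rfl⟩ := QuotientGroup.mk_surjective q
  have h5 := congrFun h2 u
  have h6 : ((d (u : U ⧸ K) : ℂˣ) : ℂ) = 1 := h5
  have h7 : d (u : U ⧸ K) = 1 := Units.ext h6
  have h8 : (c' (u : U ⧸ K))⁻¹ * c (u : U ⧸ K) = 1 := h7
  exact (inv_mul_eq_one.mp h8).symm

theorem local_lemma (K : Subgroup U) [hK : K.Normal] [Fintype K]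
    (hcomm : ∀ a b : U ⧸ K, a * b = b * a) (θh : IrrCharacter U)
    (hθK : IsIrrCharacter K (fun k : K => (θh : U → ℂ) k))
    (Ψ : U → ℂ) (hΨ : IsCharacter U Ψ) (e : ℕ)
    (hres : ∀ k : K, Ψ k = (e : ℂ) * (θh : U → ℂ) k)
    (hnorm : (K.index : ℂ) * classInner Ψ Ψ = (e : ℂ) ^ 2 + K.index - 1)
    (hm : 2 ≤ K.index) :
    (K.index : ℤ) ∣ (e : ℤ) - 1 ∨ (K.index : ℤ) ∣ (e : ℤ) + 1 := by
  classical
  have hfin : Finite ((U ⧸ K) →* ℂˣ) := finite_dual hcomm
  have := Fintype.ofFinite ((U ⧸ K) →* ℂˣ)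
  obtain ⟨mult, hmult, -⟩ := exists_multiplicities hΨ
  have hΨc : IsClassFunction U Ψ := isClassFunction_of_isCharacter hΨ
  let tw : ((U ⧸ K) →* ℂˣ) → IrrCharacter U := fun c => twist (infl K c) θh
  have htw_inj : Function.Injective tw := twist_infl_injective K θh hθK
  have hcardQ : Nat.card (U ⧸ K) = K.index := (Subgroup.index_eq_card K).symm
  have hcardL : (Fintype.card ((U ⧸ K) →* ℂˣ) : ℤ) = (K.index : ℤ) := by
    rw [← Nat.card_eq_fintype_card, card_dual hcomm, hcardQ]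
  -- the sum of the family
  have hfam : (∑ c : (U ⧸ K) →* ℂˣ, ((tw c : IrrCharacter U) : U → ℂ)) =
      extendByZero K (fun k : K => (K.index : ℂ) * (θh : U → ℂ) k) := by
    funext u
    rw [Finset.sum_apply]
    have h1 : ∀ c : (U ⧸ K) →* ℂˣ, ((tw c : IrrCharacter U) : U → ℂ) u =
        ((c (u : U ⧸ K) : ℂˣ) : ℂ) * (θh : U → ℂ) u := fun c => by
      show (twist (infl K c) θh : U → ℂ) u = _
      rw [twist_apply, infl_apply]
    simp_rw [h1]
    rw [← Finset.sum_mul, sum_dual_apply hcomm]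
    by_cases hu : u ∈ K
    · rw [if_pos ((QuotientGroup.eq_one_iff u).mpr hu), extendByZero_of_mem K _ hu, hcardQ]
    · rw [if_neg (fun h => hu ((QuotientGroup.eq_one_iff u).mp h)),
        extendByZero_of_not_mem K _ hu, zero_mul]
  have hKnorm : ∑ k : K, (θh : U → ℂ) k * conj ((θh : U → ℂ) k) = (Nat.card K : ℂ) := by
    have h1 := classInner_self_of_isIrrCharacter hθK
    unfold classInner at h1
    have hne : (Nat.card K : ℂ) ≠ 0 := by
      rw [Nat.cast_ne_zero]; exact Nat.card_pos.ne'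
    field_simp at h1
    exact h1
  have hcardU : (Nat.card U : ℂ) = (K.index : ℂ) * (Nat.card K : ℂ) := by
    rw [← Nat.cast_mul, mul_comm, Subgroup.card_mul_index]
  have hsumC : ∑ c : (U ⧸ K) →* ℂˣ, (mult (tw c) : ℂ) = (e : ℂ) := by
    have h1 : ∀ c : (U ⧸ K) →* ℂˣ, (mult (tw c) : ℂ) =
        classInner Ψ ((tw c : IrrCharacter U) : U → ℂ) := fun c => (hmult (tw c)).symm
    simp_rw [h1]
    rw [← classInner_sum_right, hfam]
    unfold classInner
    have h2 : ∑ g : U, Ψ g * conj (extendByZero K (fun k : K => (K.index : ℂ) * (θh : U → ℂ) k) g)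
        = (e : ℂ) * (K.index : ℂ) * (Nat.card K : ℂ) := by
      have h3 : ∀ g : U, Ψ g * conj (extendByZero K
          (fun k : K => (K.index : ℂ) * (θh : U → ℂ) k) g) =
          extendByZero K (fun k : K => conj ((K.index : ℂ) * (θh : U → ℂ) k)) g * Ψ g := by
        intro g
        by_cases hg : g ∈ K
        · rw [extendByZero_of_mem K _ hg, extendByZero_of_mem K _ hg, mul_comm]
        · rw [extendByZero_of_not_mem K _ hg, extendByZero_of_not_mem K _ hg, map_zero,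
            mul_zero, zero_mul]
      simp_rw [h3]
      rw [sum_extendByZero_mul]
      have h4 : ∀ k : K, conj ((K.index : ℂ) * (θh : U → ℂ) k) * Ψ k =
          ((e : ℂ) * (K.index : ℂ)) * ((θh : U → ℂ) k * conj ((θh : U → ℂ) k)) := by
        intro k
        rw [hres k, map_mul, Complex.conj_natCast]
        ring
      simp_rw [h4]
      rw [← Finset.mul_sum, hKnorm]
    rw [h2, hcardU]
    have hne1 : (K.index : ℂ) ≠ 0 := by
      rw [Nat.cast_ne_zero]; omega
    have hne2 : (Nat.card K : ℂ) ≠ 0 := by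
      rw [Nat.cast_ne_zero]; exact Nat.card_pos.ne'
    field_simp
  have hsum : ∑ c : (U ⧸ K) →* ℂˣ, (mult (tw c) : ℤ) = (e : ℤ) := by
    have : ((∑ c : (U ⧸ K) →* ℂˣ, (mult (tw c) : ℤ) : ℤ) : ℂ) = ((e : ℤ) : ℂ) := by
      push_cast
      exact hsumC
    exact_mod_cast this
  -- Bessel
  set n : ℤ := ∑ χ : IrrCharacter U, (mult χ : ℤ) ^ 2 with hn
  have hsq : ∑ c : (U ⧸ K) →* ℂˣ, (mult (tw c) : ℤ) ^ 2 ≤ n := by
    have h1 : ∑ c : (U ⧸ K) →* ℂˣ, (mult (tw c) : ℤ) ^ 2 =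
        ∑ χ ∈ Finset.univ.image tw, (mult χ : ℤ) ^ 2 := by
      rw [Finset.sum_image]
      intro a _ b _ hab
      exact htw_inj hab
    rw [h1, hn]
    apply Finset.sum_le_sum_of_subset_of_nonneg (Finset.subset_univ _)
    intro χ _ _
    positivity
  have hnorm2 : classInner Ψ Ψ = (n : ℂ) := by
    rw [classInner_self_eq_sum hΨc, hn]
    push_cast
    apply Finset.sum_congr rfl
    intro χ _
    rw [hmult χ, Complex.conj_natCast]
    ring
  have hmn : (K.index : ℤ) * n = (e : ℤ) ^ 2 + (K.index : ℤ) - 1 := by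
    have : (((K.index : ℤ) * n : ℤ) : ℂ) = (((e : ℤ) ^ 2 + (K.index : ℤ) - 1 : ℤ) : ℂ) := by
      push_cast
      rw [← hnorm2]
      exact hnorm
    exact_mod_cast this
  exact Cfsg.Agent.Lib.Helper3_FrobRamCore.core (fun c => (mult (tw c) : ℤ)) (K.index : ℤ)
    (e : ℤ) n hcardL (by exact_mod_cast hm) hsum hsq hmn

end Cfsg.Agent.Lib.Helper3_FrobRamLocal
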